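import Cfsg.Agent.Lib.Helper28.S1692.Seeds45

set_option autoImplicit false
set_option maxRecDepth 100000
set_option linter.all false

namespace Cfsg.Agent.Helper28.S1692

open Cfsg.Agent.Helper28
open Cfsg.Spor.ON (Gen)

noncomputable section

namespace K46
abbrev LD1_c0 := D1.c0
abbrev LD1_c1 := D1.c1
abbrev LD1_c2 := D1.c2
abbrev LD1_c3 := D1.c3
abbrev LD1_c4 := D1.c4
abbrev LD1_c5 := D1.c5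
abbrev LD1_c6 := D1.c6
abbrev LD1_c7 := D1.c7
abbrev LD1_c8 := D1.c8
abbrev LD1_c9 := D1.c9
abbrev LD1_c10 := D1.c10
abbrev LD1_c11 := D1.c11
abbrev LD1_c12 := D1.c12
abbrev LD1_c13 := D1.c13
abbrev LD1_c14 := D1.c14
abbrev LD1_c15 := D1.c15
abbrev LD1_c16 := D1.c16
abbrev LD1_c17 := D1.c17
abbrev LD1_c18 := D1.c18
abbrev LD1_c19 := D1.c19
abbrev LD1_c20 := D1.c20
abbrev LD1_c21 := D1.c21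
abbrev LD1_c22 := D1.c22
abbrev LD1_c23 := D1.c23
abbrev LD1_c24 := D1.c24
abbrev LD1_c25 := D1.c25
abbrev LD1_c26 := D1.c26
abbrev LD1_c27 := D1.c27
abbrev LD1_c28 := D1.c28
abbrev LD1_c29 := D1.c29
abbrev LD1_c30 := D1.c30
abbrev LD1_c31 := D1.c31
abbrev LD1_c32 := D1.c32
abbrev LD2_c0 := D2.c0
abbrev LD2_c1 := D2.c1
abbrev LD2_c2 := D2.c2
abbrev LD2_c3 := D2.c3
abbrev LD2_c4 := D2.c4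
abbrev LD2_c5 := D2.c5
abbrev LD2_c6 := D2.c6
abbrev LD2_c7 := D2.c7
abbrev LD2_c8 := D2.c8
abbrev LD2_c9 := D2.c9
abbrev LD2_c10 := D2.c10
abbrev LD2_c11 := D2.c11
abbrev LD2_c12 := D2.c12
abbrev LD2_c13 := D2.c13
abbrev LD2_c14 := D2.c14
abbrev LD2_c15 := D2.c15
abbrev LD2_c16 := D2.c16
abbrev LD2_c17 := D2.c17
abbrev LD2_c18 := D2.c18
abbrev LD2_c19 := D2.c19
abbrev LD2_c20 := D2.c20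
abbrev LD2_c21 := D2.c21
abbrev LD2_c22 := D2.c22
abbrev LD2_c23 := D2.c23
abbrev LD2_c24 := D2.c24
abbrev LD2_c25 := D2.c25
abbrev LD2_c26 := D2.c26
abbrev LD2_c27 := D2.c27
abbrev LD2_c28 := D2.c28
abbrev LD2_c29 := D2.c29
abbrev LD2_c30 := D2.c30
abbrev LD2_c31 := D2.c31
abbrev LD2_c32 := D2.c32
abbrev LD2_c33 := D2.c33
abbrev LD2_c34 := D2.c34
abbrev LD2_c35 := D2.c35
abbrev LD2_c36 := D2.c36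
abbrev LD2_c37 := D2.c37
abbrev LD2_c38 := D2.c38
abbrev LD2_c39 := D2.c39
abbrev LD2_c40 := D2.c40
abbrev LD2_c41 := D2.c41
abbrev LD2_c42 := D2.c42
abbrev LD2_c43 := D2.c43
abbrev LD2_c44 := D2.c44
abbrev LD2_c45 := D2.c45
abbrev LD2_c46 := D2.c46
abbrev LD2_c47 := D2.c47
abbrev LD2_c48 := D2.c48
abbrev LD2_c49 := D2.c49
abbrev LD2_c50 := D2.c50
abbrev LD2_c51 := D2.c51
abbrev LD2_c52 := D2.c52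
abbrev LD2_c53 := D2.c53
abbrev LD2_c54 := D2.c54
abbrev LD2_c55 := D2.c55
abbrev LD2_c56 := D2.c56
abbrev LD2_c57 := D2.c57
abbrev LD2_c58 := D2.c58
abbrev LD2_c59 := D2.c59
abbrev LD3_c0 := D3.c0
abbrev LD3_c1 := D3.c1
abbrev LD3_c2 := D3.c2
abbrev LD3_c3 := D3.c3
abbrev LD3_c4 := D3.c4
abbrev LD3_c5 := D3.c5
abbrev LD3_c6 := D3.c6
abbrev LD3_c7 := D3.c7
abbrev LD3_c8 := D3.c8
abbrev LD3_c9 := D3.c9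
abbrev LD3_c10 := D3.c10
abbrev LD3_c11 := D3.c11
abbrev LD3_c12 := D3.c12
abbrev LD3_c13 := D3.c13
abbrev LD3_c14 := D3.c14
abbrev LD3_c15 := D3.c15
abbrev LD3_c16 := D3.c16
abbrev LD3_c17 := D3.c17
abbrev LD3_c18 := D3.c18
abbrev LD3_c19 := D3.c19
abbrev LD3_c20 := D3.c20
abbrev LD3_c21 := D3.c21
abbrev LD3_c22 := D3.c22
abbrev LD3_c23 := D3.c23
abbrev LD3_c24 := D3.c24
abbrev LD3_c25 := D3.c25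
abbrev LD3_c26 := D3.c26
abbrev LD3_c27 := D3.c27
abbrev LD3_c28 := D3.c28
abbrev LD3_c29 := D3.c29
abbrev LD3_c30 := D3.c30
abbrev LD3_c31 := D3.c31
abbrev LD3_c32 := D3.c32
abbrev LD3_c33 := D3.c33
abbrev LD3_c34 := D3.c34
abbrev LD3_c35 := D3.c35
abbrev LD3_c36 := D3.c36
abbrev LD3_c37 := D3.c37
abbrev LD3_c38 := D3.c38
abbrev LD3_c39 := D3.c39
abbrev LD3_c40 := D3.c40
abbrev LD3_c41 := D3.c41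
abbrev LD3_c42 := D3.c42
abbrev LD3_c43 := D3.c43
abbrev LD3_c44 := D3.c44
abbrev LD3_c45 := D3.c45
abbrev LD3_c46 := D3.c46
abbrev LD3_c47 := D3.c47
abbrev LD3_c48 := D3.c48
abbrev LD3_c49 := D3.c49
abbrev LD3_c50 := D3.c50
abbrev LD3_c51 := D3.c51
abbrev LD3_c52 := D3.c52
abbrev LD3_c53 := D3.c53
abbrev LD3_c54 := D3.c54
abbrev LD3_c55 := D3.c55
abbrev LD3_c56 := D3.c56
abbrev LD3_c57 := D3.c57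
abbrev LD3_c58 := D3.c58
abbrev LD3_c59 := D3.c59
abbrev LD3_c60 := D3.c60
abbrev LD3_c61 := D3.c61
abbrev LG_g := Gen.g
abbrev Lsl_gt : Gen × Bool := sl_gt
alias Lfl_gt := fl_gt
alias Lpr_gt := pr_gt
abbrev Lsl_gf : Gen × Bool := sl_gf
alias Lfl_gf := fl_gf
alias Lpr_gf := pr_gf
alias Lre_g := re_g
alias Leoe_g := eoe_g
abbrev LG_a := Gen.a
abbrev Lsl_at : Gen × Bool := sl_at
alias Lfl_at := fl_at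
alias Lpr_at := pr_at
abbrev Lsl_af : Gen × Bool := sl_af
alias Lfl_af := fl_af
alias Lpr_af := pr_af
alias Lre_a := re_a
alias Leoe_a := eoe_a
abbrev LG_b := Gen.b
abbrev Lsl_bt : Gen × Bool := sl_bt
alias Lfl_bt := fl_bt
alias Lpr_bt := pr_bt
abbrev Lsl_bf : Gen × Bool := sl_bf
alias Lfl_bf := fl_bf
alias Lpr_bf := pr_bf
alias Lre_b := re_b
alias Leoe_b := eoe_b
abbrev LG_c := Gen.c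
abbrev Lsl_ct : Gen × Bool := sl_ct
alias Lfl_ct := fl_ct
alias Lpr_ct := pr_ct
abbrev Lsl_cf : Gen × Bool := sl_cf
alias Lfl_cf := fl_cf
alias Lpr_cf := pr_cf
alias Lre_c := re_c
alias Leoe_c := eoe_c
abbrev LG_d := Gen.d
abbrev Lsl_dt : Gen × Bool := sl_dt
alias Lfl_dt := fl_dt
alias Lpr_dt := pr_dt
abbrev Lsl_df : Gen × Bool := sl_df
alias Lfl_df := fl_df
alias Lpr_df := pr_df
alias Lre_d := re_d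
alias Leoe_d := eoe_d
abbrev LG_e := Gen.e
abbrev Lsl_et : Gen × Bool := sl_et
alias Lfl_et := fl_et
alias Lpr_et := pr_et
abbrev Lsl_ef : Gen × Bool := sl_ef
alias Lfl_ef := fl_ef
alias Lpr_ef := pr_ef
alias Lre_e := re_e
alias Leoe_e := eoe_e
abbrev LG_f := Gen.f
abbrev Lsl_ft : Gen × Bool := sl_ft
alias Lfl_ft := fl_ft
alias Lpr_ft := pr_ft
abbrev Lsl_ff : Gen × Bool := sl_ff
alias Lfl_ff := fl_ff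
alias Lpr_ff := pr_ff
alias Lre_f := re_f
alias Leoe_f := eoe_f
abbrev LK := Pt.mk
abbrev LQ : Type := Qt rels S
abbrev LP (p : Pt) : LQ := P p
abbrev Led (l : Gen × Bool) (c : LQ) : LQ := ed l c
abbrev LEOK (x : Gen) (p : Pt) : Prop := EntryOK rels S fwd inv o plet idx x p
alias Lpe := pe
alias Lpn := pn
alias Lgr := gr
alias Lpq := pq
alias Lpqs := pqs
alias Llr := lr
alias Leop := eop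
alias Lefun := efun
alias Lecon := econ
theorem Lrfl {α : Sort _} {a : α} : a = a := rfl
alias Lrot0 := rot0
alias Lrot1 := rot1
alias Lrot2 := rot2
alias Lrot3 := rot3
alias Lrot4 := rot4
alias Lrot5 := rot5
alias Lrot6 := rot6
alias Lrot7 := rot7
alias Lrot8 := rot8
alias Lrot9 := rot9
alias Lrot11 := rot11
alias Lrot12 := rot12
alias Lrot13 := rot13
alias Lrot14 := rot14
alias Lrot15 := rot15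
alias Lrot17 := rot17
alias Lrot18 := rot18
alias Lrot19 := rot19
alias Lrot20 := rot20
alias Lrot21 := rot21
alias Lrot23 := rot23
alias Lrot24 := rot24
alias Lrot25 := rot25
alias Lrot26 := rot26
alias Lrot27 := rot27
alias Lrot28 := rot28
alias Lrot29 := rot29
alias Lrot30 := rot30
alias Lrot31 := rot31
alias Lrot33 := rot33
alias Lrot34 := rot34
alias Lrot35 := rot35
alias Lrot36 := rot36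
alias Lrot37 := rot37
alias Lrot38 := rot38
alias Lrot39 := rot39
alias Lrot40 := rot40
alias Lrot42 := rot42
alias Lrot44 := rot44
alias Lrot45 := rot45
alias Lrot46 := rot46
alias Lrot47 := rot47
alias Lrot48 := rot48
alias Lrot49 := rot49
alias Lrot50 := rot50
alias Lrot51 := rot51
alias Lrot52 := rot52
alias Lrot54 := rot54
alias Lrot55 := rot55
alias Lrot56 := rot56
alias Lrot57 := rot57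
alias Lrot58 := rot58
alias Lrot59 := rot59
alias Lrot60 := rot60
alias Lrot61 := rot61
alias Lrot62 := rot62
alias Lrot63 := rot63
alias Lrot64 := rot64
alias Lrot65 := rot65
alias Lrot66 := rot66
alias Lrot67 := rot67
alias Lrot68 := rot68
alias Lrot69 := rot69
alias Lrot70 := rot70
alias Lrot71 := rot71
alias Lrot72 := rot72
alias Lrot73 := rot73
alias Lrot74 := rot74
alias Lrot75 := rot75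
alias Lrot76 := rot76
alias Lrot77 := rot77
alias Lrot78 := rot78
alias Lrot79 := rot79
alias Lrot80 := rot80
alias Lrot81 := rot81
alias Lrot82 := rot82
alias Lrot83 := rot83
alias Lrot84 := rot84
alias Lrot86 := rot86
alias Lrot87 := rot87
alias Lrot88 := rot88
alias Lrot90 := rot90
alias Lrot91 := rot91
alias Lrot92 := rot92
alias Lrot93 := rot93
alias Lrot94 := rot94
alias Lrot95 := rot95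
alias Lrot96 := rot96
alias Lrot97 := rot97
alias Lrot99 := rot99
alias Lrot100 := rot100
alias Lrot101 := rot101
alias Lrot103 := rot103
alias Lrot104 := rot104
alias Lrot105 := rot105
alias Lrot107 := rot107
alias Lrot108 := rot108
alias Lrot109 := rot109
alias Lrot110 := rot110
alias Lrot111 := rot111
alias Lrot112 := rot112
alias Lrot113 := rot113
alias Lrot114 := rot114
alias Lrot117 := rot117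
alias Lrot118 := rot118
alias Lrot119 := rot119
alias Lrot121 := rot121
alias Lrot122 := rot122
alias Lrot123 := rot123
alias Lrot124 := rot124
alias Lrot125 := rot125
alias Lrot126 := rot126
alias Lrot127 := rot127
alias Lrot128 := rot128
alias Lrot129 := rot129
alias Lrot130 := rot130
alias Lrot131 := rot131
alias Lrot132 := rot132
alias Lrot133 := rot133
alias Lrot134 := rot134
alias Lrot135 := rot135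
alias Lrot136 := rot136
alias Lrot137 := rot137
alias Lrot138 := rot138
alias Lrot139 := rot139
alias Lrot141 := rot141
alias Lrot142 := rot142
alias Lrot143 := rot143
alias Lrot144 := rot144
alias Lrot145 := rot145
alias Lrot146 := rot146
alias Lrot147 := rot147
alias Lrot148 := rot148
alias Lrot149 := rot149
alias Lrot150 := rot150
alias Lrot151 := rot151
alias Lrot152 := rot152
alias Lrot153 := rot153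
alias Lrot155 := rot155
alias Lrot156 := rot156
alias Lrot157 := rot157
alias Lrot158 := rot158
alias Lrot159 := rot159
alias Lrot160 := rot160
alias Lrot162 := rot162
alias Lrot163 := rot163
alias Lrot164 := rot164
alias Lrot165 := rot165
alias Lrot166 := rot166
alias Lrot167 := rot167
alias Lrot168 := rot168
alias Lrot169 := rot169
alias Lrot170 := rot170
alias Lrot171 := rot171
alias Lrot172 := rot172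
alias Lrot173 := rot173
alias Lrot175 := rot175
alias Lrot176 := rot176
alias Lrot179 := rot179
alias Lrot180 := rot180
alias Lrot181 := rot181
alias Lrot185 := rot185
alias Lrot187 := rot187
alias Lrot189 := rot189
alias Lrot191 := rot191

section
variable (IH : IHT)
include IH

theorem f641730 : Led Lsl_af (LP (LK LD1_c9 LD2_c13 LD3_c58)) = (LP (LK LD1_c6 LD2_c1 LD3_c9)) :=
  Lgr Lrot0 (Lpr_at (K41.f641728 IH) (Lpn (LP (LK LD1_c6 LD2_c1 LD3_c9))))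
theorem f642661 : Led Lsl_bf (LP (LK LD1_c6 LD2_c1 LD3_c9)) = (LP (LK LD1_c9 LD2_c12 LD3_c21)) :=
  Lgr Lrot81 (Lpe (f641730 IH) (Lpr_bt (K45.f140905 IH) (Lpr_at (K35.f507077 IH) (Lpr_bt (K45.f444675 IH) (Lpr_at (K45.f642657 IH) (Lpn (LP (LK LD1_c9 LD2_c12 LD3_c21))))))))
theorem f644473 : Led Lsl_bf (LP (LK LD1_c16 LD2_c54 LD3_c13)) = (LP (LK LD1_c11 LD2_c17 LD3_c46)) :=
  Lgr Lrot61 (Lpr_ft (K45.f644443 IH) (Lpe (f642661 IH) (Lpe (K41.f641977 IH) (Lpn (LP (LK LD1_c11 LD2_c17 LD3_c46))))))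
theorem f140552 : Led Lsl_et (LP (LK LD1_c16 LD2_c54 LD3_c13)) = (LP (LK LD1_c9 LD2_c3 LD3_c21)) :=
  Lre_e IH (LK LD1_c16 LD2_c54 LD3_c13) (LK LD1_c9 LD2_c3 LD3_c21) Lrfl Lrfl
theorem f644572 : Led Lsl_bt (LP (LK LD1_c9 LD2_c3 LD3_c21)) = (LP (LK LD1_c5 LD2_c43 LD3_c51)) :=
  Lgr Lrot119 (Lpe (f140552 IH) (Lpr_bf (f644473 IH) (Lpe (K41.f616276 IH) (Lpn (LP (LK LD1_c5 LD2_c43 LD3_c51))))))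
theorem f563563 : Led Lsl_dt (LP (LK LD1_c16 LD2_c54 LD3_c12)) = (LP (LK LD1_c9 LD2_c3 LD3_c21)) :=
  Lre_d IH (LK LD1_c16 LD2_c54 LD3_c12) (LK LD1_c9 LD2_c3 LD3_c21) Lrfl Lrfl
theorem f616266 : Led Lsl_dt (LP (LK LD1_c5 LD2_c43 LD3_c51)) = (LP (LK LD1_c11 LD2_c17 LD3_c45)) :=
  Lre_d IH (LK LD1_c5 LD2_c43 LD3_c51) (LK LD1_c11 LD2_c17 LD3_c45) Lrfl Lrfl
theorem f644580 : Led Lsl_bf (LP (LK LD1_c16 LD2_c54 LD3_c12)) = (LP (LK LD1_c11 LD2_c17 LD3_c45)) :=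
  Lgr Lrot93 (Lpr_dt (f563563 IH) (Lpr_bt (f644572 IH) (Lpr_dt (f616266 IH) (Lpn (LP (LK LD1_c11 LD2_c17 LD3_c45))))))
theorem f80181 : Led Lsl_gt (LP (LK LD1_c4 LD2_c37 LD3_c53)) = (LP (LK LD1_c9 LD2_c11 LD3_c25)) :=
  Lre_g IH (LK LD1_c4 LD2_c37 LD3_c53) (LK LD1_c9 LD2_c11 LD3_c25) Lrfl Lrfl
theorem f538145 : Led Lsl_et (LP (LK LD1_c9 LD2_c3 LD3_c22)) = (LP (LK LD1_c4 LD2_c33 LD3_c5)) :=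
  Lre_e IH (LK LD1_c9 LD2_c3 LD3_c22) (LK LD1_c4 LD2_c33 LD3_c5) Lrfl Lrfl
theorem f538146 : Led Lsl_dt (LP (LK LD1_c9 LD2_c3 LD3_c22)) = (LP (LK LD1_c4 LD2_c33 LD3_c3)) :=
  Lre_d IH (LK LD1_c9 LD2_c3 LD3_c22) (LK LD1_c4 LD2_c33 LD3_c3) Lrfl Lrfl
theorem f563562 : Led Lsl_gt (LP (LK LD1_c9 LD2_c3 LD3_c21)) = (LP (LK LD1_c4 LD2_c33 LD3_c3)) :=
  Lre_g IH (LK LD1_c9 LD2_c3 LD3_c21) (LK LD1_c4 LD2_c33 LD3_c3) Lrfl Lrfl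
theorem f563564 : Led Lsl_ef (LP (LK LD1_c9 LD2_c11 LD3_c25)) = (LP (LK LD1_c16 LD2_c54 LD3_c12)) :=
  Lgr Lrot17 (Lpe (f80181 IH) (Lpe (K35.f79953 IH) (Lpr_dt (K35.f80180 IH) (Lpe (K41.f563539 IH) (Lpe (K37.f418051 IH) (Lpr_gf (K41.f563558 IH) (Lpe (f538145 IH) (Lpr_dt (f538146 IH) (Lpe (f563562 IH) (Lpe (f563563 IH) (Lpn (LP (LK LD1_c16 LD2_c54 LD3_c12)))))))))))))
theorem f644667 : Led Lsl_bt (LP (LK LD1_c9 LD2_c11 LD3_c25)) = (LP (LK LD1_c5 LD2_c59 LD3_c61)) :=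
  Lgr Lrot119 (Lpr_ef (f563564 IH) (Lpr_bf (f644580 IH) (Lpe (K41.f616271 IH) (Lpn (LP (LK LD1_c5 LD2_c59 LD3_c61))))))
theorem f644671 : Led Lsl_bf (LP (LK LD1_c9 LD2_c11 LD3_c25)) = (LP (LK LD1_c5 LD2_c59 LD3_c61)) :=
  Lgr Lrot24 (Lpr_bt (f644667 IH) (Lpn (LP (LK LD1_c5 LD2_c59 LD3_c61))))
theorem f642144 : Led Lsl_ff (LP (LK LD1_c5 LD2_c59 LD3_c61)) = (LP (LK LD1_c9 LD2_c30 LD3_c23)) :=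
  Lgr Lrot19 (Lpr_dt (K41.f75836 IH) (Lpr_ft (K41.f641960 IH) (Lpr_dt (K41.f642139 IH) (Lpn (LP (LK LD1_c9 LD2_c30 LD3_c23))))))
theorem f438064 : Led Lsl_et (LP (LK LD1_c2 LD2_c15 LD3_c48)) = (LP (LK LD1_c4 LD2_c37 LD3_c17)) :=
  Lre_e IH (LK LD1_c2 LD2_c15 LD3_c48) (LK LD1_c4 LD2_c37 LD3_c17) Lrfl Lrfl
theorem f35545 : Led Lsl_dt (LP (LK LD1_c0 LD2_c19 LD3_c53)) = (LP (LK LD1_c0 LD2_c29 LD3_c43)) :=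
  Lre_d IH (LK LD1_c0 LD2_c19 LD3_c53) (LK LD1_c0 LD2_c29 LD3_c43) Lrfl Lrfl
theorem f116896 : Led Lsl_et (LP (LK LD1_c1 LD2_c36 LD3_c36)) = (LP (LK LD1_c0 LD2_c44 LD3_c45)) :=
  Lre_e IH (LK LD1_c1 LD2_c36 LD3_c36) (LK LD1_c0 LD2_c44 LD3_c45) Lrfl Lrfl
theorem f116918 : Led Lsl_dt (LP (LK LD1_c1 LD2_c36 LD3_c36)) = (LP (LK LD1_c3 LD2_c20 LD3_c28)) :=
  Lre_d IH (LK LD1_c1 LD2_c36 LD3_c36) (LK LD1_c3 LD2_c20 LD3_c28) Lrfl Lrfl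
theorem f207239 : Led Lsl_gt (LP (LK LD1_c6 LD2_c44 LD3_c42)) = (LP (LK LD1_c3 LD2_c20 LD3_c28)) :=
  Lre_g IH (LK LD1_c6 LD2_c44 LD3_c42) (LK LD1_c3 LD2_c20 LD3_c28) Lrfl Lrfl
theorem f207245 : Led Lsl_dt (LP (LK LD1_c12 LD2_c53 LD3_c52)) = (LP (LK LD1_c6 LD2_c44 LD3_c42)) :=
  Lre_d IH (LK LD1_c12 LD2_c53 LD3_c52) (LK LD1_c6 LD2_c44 LD3_c42) Lrfl Lrfl
theorem f157162 : Led Lsl_et (LP (LK LD1_c2 LD2_c16 LD3_c1)) = (LP (LK LD1_c4 LD2_c37 LD3_c42)) :=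
  Lre_e IH (LK LD1_c2 LD2_c16 LD3_c1) (LK LD1_c4 LD2_c37 LD3_c42) Lrfl Lrfl
theorem f415819 : Led Lsl_dt (LP (LK LD1_c9 LD2_c10 LD3_c59)) = (LP (LK LD1_c17 LD2_c4 LD3_c22)) :=
  Lre_d IH (LK LD1_c9 LD2_c10 LD3_c59) (LK LD1_c17 LD2_c4 LD3_c22) Lrfl Lrfl
theorem f642372 : Led Lsl_gt (LP (LK LD1_c17 LD2_c4 LD3_c22)) = (LP (LK LD1_c20 LD2_c40 LD3_c1)) :=
  Lgr Lrot139 (Lpe (f415819 IH) (Lpe (K31.f415600 IH) (Lpe (f157162 IH) (Lpr_dt (K8.f57097 IH) (Lpe (K7.f15563 IH) (Lpr_df (K11.f150186 IH) (Lpr_et (K45.f142093 IH) (Lpr_gf (K45.f642368 IH) (Lpe (K45.f507565 IH) (Lpr_dt (K45.f507580 IH) (Lpn (LP (LK LD1_c20 LD2_c40 LD3_c1)))))))))))))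
theorem f116883 : Led Lsl_ct (LP (LK LD1_c4 LD2_c37 LD3_c42)) = (LP (LK LD1_c2 LD2_c16 LD3_c2)) :=
  Lre_c IH (LK LD1_c4 LD2_c37 LD3_c42) (LK LD1_c2 LD2_c16 LD3_c2) Lrfl Lrfl
theorem f157186 : Led Lsl_dt (LP (LK LD1_c4 LD2_c37 LD3_c43)) = (LP (LK LD1_c9 LD2_c11 LD3_c3)) :=
  Lre_d IH (LK LD1_c4 LD2_c37 LD3_c43) (LK LD1_c9 LD2_c11 LD3_c3) Lrfl Lrfl
theorem f507614 : Led Lsl_dt (LP (LK LD1_c6 LD2_c3 LD3_c0)) = (LP (LK LD1_c5 LD2_c57 LD3_c22)) :=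
  Lre_d IH (LK LD1_c6 LD2_c3 LD3_c0) (LK LD1_c5 LD2_c57 LD3_c22) Lrfl Lrfl
theorem f642374 : Led Lsl_gt (LP (LK LD1_c9 LD2_c11 LD3_c3)) = (LP (LK LD1_c6 LD2_c3 LD3_c0)) :=
  Lgr Lrot49 (Lpe (f157186 IH) (Lpe (K36.f116949 IH) (Lpe (f116883 IH) (Lpr_gt (K31.f415600 IH) (Lpr_dt (f415819 IH) (Lpr_gt (f642372 IH) (Lpr_dt (K45.f454892 IH) (Lpe (K45.f454887 IH) (Lpe (f507614 IH) (Lpn (LP (LK LD1_c6 LD2_c3 LD3_c0))))))))))))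
theorem f507548 : Led Lsl_et (LP (LK LD1_c5 LD2_c57 LD3_c22)) = (LP (LK LD1_c2 LD2_c54 LD3_c55)) :=
  Lre_e IH (LK LD1_c5 LD2_c57 LD3_c22) (LK LD1_c2 LD2_c54 LD3_c55) Lrfl Lrfl
def v4980 : LQ := Led Lsl_gt (LP (LK LD1_c2 LD2_c54 LD3_c55))
theorem f641162 : Led Lsl_gt (LP (LK LD1_c2 LD2_c54 LD3_c55)) = v4980 :=
  Lrfl
theorem f642390 : (LP (LK LD1_c4 LD2_c37 LD3_c17)) = v4980 :=
  (Llr Lrot122 (Lpe (f438064 IH) (Lpr_dt (K6.f141248 IH) (Lpr_gt (K7.f142116 IH) (Lpe (K6.f40099 IH) (Lpr_et (K36.f142126 IH) (Lpr_gt (K36.f116949 IH) (Lpr_dt (f157186 IH) (Lpr_gt (f642374 IH) (Lpe (K45.f507613 IH) (Lpr_et (f507548 IH) (Lpr_gt (f641162 IH) (Lpn v4980))))))))))))).symm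
theorem f504719 : Led Lsl_et (LP (LK LD1_c4 LD2_c36 LD3_c29)) = (LP (LK LD1_c9 LD2_c9 LD3_c8)) :=
  Lre_e IH (LK LD1_c4 LD2_c36 LD3_c29) (LK LD1_c9 LD2_c9 LD3_c8) Lrfl Lrfl
theorem f507549 : Led Lsl_ft (LP (LK LD1_c2 LD2_c54 LD3_c55)) = (LP (LK LD1_c4 LD2_c36 LD3_c29)) :=
  Lgr Lrot86 (Lpe (f507548 IH) (Lpe (K45.f507089 IH) (Lpe (K45.f444649 IH) (Lpr_ff (K45.f507544 IH) (Lpe (f504719 IH) (Lpn (LP (LK LD1_c4 LD2_c36 LD3_c29))))))))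
theorem f504767 : Led Lsl_at (LP (LK LD1_c4 LD2_c36 LD3_c29)) = (LP (LK LD1_c9 LD2_c9 LD3_c6)) :=
  Lre_a IH (LK LD1_c4 LD2_c36 LD3_c29) (LK LD1_c9 LD2_c9 LD3_c6) Lrfl Lrfl
theorem f641163 : Led Lsl_gf (LP (LK LD1_c9 LD2_c9 LD3_c6)) = v4980 :=
  Lgr Lrot76 (Lpe (f504767 IH) (Lpe (f507549 IH) (Lpr_gt (f641162 IH) (Lpn v4980))))
theorem f642393 : Led Lsl_et (LP (LK LD1_c12 LD2_c53 LD3_c52)) = (LP (LK LD1_c9 LD2_c9 LD3_c6)) :=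
  Lgr Lrot122 (Lpr_dt (f207245 IH) (Lpr_gt (f207239 IH) (Lpe (f116918 IH) (Lpr_et (f116896 IH) (Lpr_gt (K6.f26492 IH) (Lpr_dt (f35545 IH) (Lpe (K8.f142138 IH) (Lpe (K6.f141248 IH) (Lpr_et (f438064 IH) (Lpqs (f642390 IH) (Lpe (f641163 IH) (Lpn (LP (LK LD1_c9 LD2_c9 LD3_c6))))))))))))))
theorem f642399 : Led Lsl_ef (LP (LK LD1_c12 LD2_c53 LD3_c52)) = (LP (LK LD1_c9 LD2_c9 LD3_c6)) :=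
  Lgr Lrot88 (Lpr_et (f642393 IH) (Lpn (LP (LK LD1_c9 LD2_c9 LD3_c6))))
theorem f642406 : Led Lsl_bt (LP (LK LD1_c12 LD2_c53 LD3_c52)) = (LP (LK LD1_c11 LD2_c39 LD3_c51)) :=
  Lgr Lrot119 (Lpr_ef (f642399 IH) (Lpr_bf (K45.f507782 IH) (Lpe (K41.f507786 IH) (Lpn (LP (LK LD1_c11 LD2_c39 LD3_c51))))))
theorem f207242 : Led Lsl_dt (LP (LK LD1_c6 LD2_c44 LD3_c42)) = (LP (LK LD1_c12 LD2_c53 LD3_c52)) :=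
  Lre_d IH (LK LD1_c6 LD2_c44 LD3_c42) (LK LD1_c12 LD2_c53 LD3_c52) Lrfl Lrfl
theorem f642408 : Led Lsl_bf (LP (LK LD1_c6 LD2_c44 LD3_c42)) = (LP (LK LD1_c9 LD2_c30 LD3_c23)) :=
  Lgr Lrot93 (Lpr_dt (f207242 IH) (Lpr_bt (f642406 IH) (Lpr_dt (K41.f642139 IH) (Lpn (LP (LK LD1_c9 LD2_c30 LD3_c23))))))
theorem f642410 : Led Lsl_bt (LP (LK LD1_c6 LD2_c44 LD3_c42)) = (LP (LK LD1_c9 LD2_c30 LD3_c23)) :=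
  Lgr Lrot127 (Lpr_bf (f642408 IH) (Lpn (LP (LK LD1_c9 LD2_c30 LD3_c23))))
theorem f644675 : Led Lsl_ft (LP (LK LD1_c9 LD2_c11 LD3_c25)) = (LP (LK LD1_c6 LD2_c44 LD3_c42)) :=
  Lgr Lrot75 (Lpr_bf (f644671 IH) (Lpr_ff (f642144 IH) (Lpe (f642410 IH) (Lpn (LP (LK LD1_c6 LD2_c44 LD3_c42))))))
theorem f644679 : Led Lsl_ff (LP (LK LD1_c9 LD2_c11 LD3_c25)) = (LP (LK LD1_c6 LD2_c44 LD3_c42)) :=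
  Lgr Lrot3 (Lpr_ft (f644675 IH) (Lpn (LP (LK LD1_c6 LD2_c44 LD3_c42))))
theorem f507154 : Led Lsl_at (LP (LK LD1_c2 LD2_c57 LD3_c10)) = (LP (LK LD1_c4 LD2_c38 LD3_c41)) :=
  Lgr Lrot51 (Lpe (K16.f59862 IH) (Lpr_af (K32.f446172 IH) (Lpr_df (K41.f507150 IH) (Lpn (LP (LK LD1_c4 LD2_c38 LD3_c41))))))
theorem f210142 : Led Lsl_bt (LP (LK LD1_c6 LD2_c2 LD3_c8)) = (LP (LK LD1_c2 LD2_c57 LD3_c10)) :=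
  Lre_b IH (LK LD1_c6 LD2_c2 LD3_c8) (LK LD1_c2 LD2_c57 LD3_c10) Lrfl Lrfl
theorem f644673 : Led Lsl_at (LP (LK LD1_c9 LD2_c11 LD3_c25)) = (LP (LK LD1_c6 LD2_c2 LD3_c8)) :=
  Lgr Lrot67 (Lpr_bf (f644671 IH) (Lpr_af (K41.f641944 IH) (Lpe (K41.f507147 IH) (Lpe (f507154 IH) (Lpe (f210142 IH) (Lpn (LP (LK LD1_c6 LD2_c2 LD3_c8))))))))
theorem f644685 : Led Lsl_gf (LP (LK LD1_c6 LD2_c2 LD3_c8)) = (LP (LK LD1_c3 LD2_c20 LD3_c28)) :=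
  Lgr Lrot76 (Lpe (f644673 IH) (Lpr_ff (f644679 IH) (Lpr_gt (f207239 IH) (Lpn (LP (LK LD1_c3 LD2_c20 LD3_c28))))))
theorem f207141 : Led Lsl_af (LP (LK LD1_c9 LD2_c11 LD3_c27)) = (LP (LK LD1_c6 LD2_c44 LD3_c44)) :=
  Lgr Lrot0 (Lpr_at (K35.f207139 IH) (Lpn (LP (LK LD1_c6 LD2_c44 LD3_c44))))
theorem f644687 : Led Lsl_gt (LP (LK LD1_c6 LD2_c2 LD3_c8)) = (LP (LK LD1_c9 LD2_c11 LD3_c27)) :=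
  Lgr Lrot46 (Lpr_gf (f644685 IH) (Lpr_ft (K35.f207238 IH) (Lpe (f207141 IH) (Lpn (LP (LK LD1_c9 LD2_c11 LD3_c27))))))
theorem f207143 : Led Lsl_bt (LP (LK LD1_c17 LD2_c4 LD3_c44)) = (LP (LK LD1_c9 LD2_c11 LD3_c27)) :=
  Lre_b IH (LK LD1_c17 LD2_c4 LD3_c44) (LK LD1_c9 LD2_c11 LD3_c27) Lrfl Lrfl
theorem f645228 : Led Lsl_cf (LP (LK LD1_c20 LD2_c25 LD3_c23)) = (LP (LK LD1_c17 LD2_c4 LD3_c44)) :=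
  Lgr Lrot160 (Lpr_gt (K45.f56722 IH) (Lpe (K45.f56710 IH) (Lpr_bt (K45.f56702 IH) (Lpr_gt (K24.f56683 IH) (Lpr_ct (K37.f496153 IH) (Lpr_gt (K45.f645227 IH) (Lpe (K45.f645225 IH) (Lpr_bt (K45.f507160 IH) (Lpr_gt (f644687 IH) (Lpe (f207143 IH) (Lpn (LP (LK LD1_c17 LD2_c4 LD3_c44)))))))))))))
theorem f645229 : Led Lsl_ct (LP (LK LD1_c17 LD2_c4 LD3_c44)) = (LP (LK LD1_c20 LD2_c25 LD3_c23)) :=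
  Leop (Lpr_cf (f645228 IH) (Lpn (LP (LK LD1_c17 LD2_c4 LD3_c44))))
theorem seed_300 : LEOK LG_c (LK LD1_c17 LD2_c4 LD3_c44) :=
  Leoe_c (LK LD1_c17 LD2_c4 LD3_c44) (f645229 IH)
theorem f146407 : Led Lsl_bt (LP (LK LD1_c1 LD2_c21 LD3_c16)) = (LP (LK LD1_c2 LD2_c50 LD3_c20)) :=
  Lre_b IH (LK LD1_c1 LD2_c21 LD3_c16) (LK LD1_c2 LD2_c50 LD3_c20) Lrfl Lrfl
theorem f57522 : Led Lsl_bt (LP (LK LD1_c11 LD2_c26 LD3_c41)) = (LP (LK LD1_c5 LD2_c48 LD3_c35)) :=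
  Lre_b IH (LK LD1_c11 LD2_c26 LD3_c41) (LK LD1_c5 LD2_c48 LD3_c35) Lrfl Lrfl
theorem f80206 : Led Lsl_ft (LP (LK LD1_c17 LD2_c5 LD3_c1)) = (LP (LK LD1_c9 LD2_c11 LD3_c26)) :=
  Lre_f IH (LK LD1_c17 LD2_c5 LD3_c1) (LK LD1_c9 LD2_c11 LD3_c26) Lrfl Lrfl
theorem f207110 : Led Lsl_ct (LP (LK LD1_c3 LD2_c20 LD3_c28)) = (LP (LK LD1_c6 LD2_c44 LD3_c43)) :=
  Lre_c IH (LK LD1_c3 LD2_c20 LD3_c28) (LK LD1_c6 LD2_c44 LD3_c43) Lrfl Lrfl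
theorem f207116 : Led Lsl_at (LP (LK LD1_c9 LD2_c11 LD3_c26)) = (LP (LK LD1_c6 LD2_c44 LD3_c43)) :=
  Lgr Lrot33 (Lpe (f80206 IH) (Lpr_dt (K35.f207101 IH) (Lpr_ct (K35.f207104 IH) (Lpr_dt (K35.f207103 IH) (Lpr_ct (K35.f207102 IH) (Lpr_dt (K35.f207090 IH) (Lpr_ct (K35.f207109 IH) (Lpr_dt (f116918 IH) (Lpr_ct (f207110 IH) (Lpn (LP (LK LD1_c6 LD2_c44 LD3_c43))))))))))))
theorem f207198 : Led Lsl_gt (LP (LK LD1_c12 LD2_c53 LD3_c54)) = (LP (LK LD1_c6 LD2_c44 LD3_c43)) :=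
  Lre_g IH (LK LD1_c12 LD2_c53 LD3_c54) (LK LD1_c6 LD2_c44 LD3_c43) Lrfl Lrfl
theorem f207254 : Led Lsl_gt (LP (LK LD1_c17 LD2_c5 LD3_c1)) = (LP (LK LD1_c12 LD2_c53 LD3_c54)) :=
  Lgr Lrot5 (Lpr_ft (f80206 IH) (Lpr_at (f207116 IH) (Lpe (f207198 IH) (Lpn (LP (LK LD1_c12 LD2_c53 LD3_c54))))))
theorem f645230 : Led Lsl_ct (LP (LK LD1_c11 LD2_c26 LD3_c41)) = (LP (LK LD1_c12 LD2_c53 LD3_c54)) :=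
  Lgr Lrot63 (Lpr_bt (f57522 IH) (Lpr_gt (K7.f57521 IH) (Lpe (f146407 IH) (Lpr_ct (K37.f496153 IH) (Lpr_gt (K45.f645227 IH) (Lpe (K45.f645225 IH) (Lpr_bt (K45.f507160 IH) (Lpr_gt (f644687 IH) (Lpr_ct (K35.f207100 IH) (Lpr_gt (f207254 IH) (Lpn (LP (LK LD1_c12 LD2_c53 LD3_c54)))))))))))))
theorem f645231 : Led Lsl_ct (LP (LK LD1_c11 LD2_c26 LD3_c41)) = (LP (LK LD1_c12 LD2_c53 LD3_c54)) :=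
  Leop (Lpe (f645230 IH) (Lpn (LP (LK LD1_c11 LD2_c26 LD3_c41))))
theorem seed_301 : LEOK LG_c (LK LD1_c11 LD2_c26 LD3_c41) :=
  Leoe_c (LK LD1_c11 LD2_c26 LD3_c41) (f645231 IH)
def v5085 : LQ := Led Lsl_gt (LP (LK LD1_c2 LD2_c57 LD3_c25))
theorem f645280 : Led Lsl_gt (LP (LK LD1_c2 LD2_c57 LD3_c25)) = v5085 :=
  Lrfl
theorem f443995 : Led Lsl_bt (LP (LK LD1_c6 LD2_c2 LD3_c37)) = (LP (LK LD1_c2 LD2_c57 LD3_c25)) :=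
  Lre_b IH (LK LD1_c6 LD2_c2 LD3_c37) (LK LD1_c2 LD2_c57 LD3_c25) Lrfl Lrfl
theorem f443979 : Led Lsl_ct (LP (LK LD1_c1 LD2_c36 LD3_c10)) = (LP (LK LD1_c2 LD2_c57 LD3_c25)) :=
  Lgr Lrot7 (Lpe (K29.f57699 IH) (Lpr_gf (K29.f443977 IH) (Lpe (K29.f58489 IH) (Lpe (K29.f57673 IH) (Lpe (K1.f58472 IH) (Lpr_gt (K29.f22979 IH) (Lpr_dt (K29.f23079 IH) (Lpr_gt (K29.f443717 IH) (Lpr_dt (K29.f411196 IH) (Lpn (LP (LK LD1_c2 LD2_c57 LD3_c25))))))))))))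
theorem f23816 : Led Lsl_ct (LP (LK LD1_c1 LD2_c27 LD3_c30)) = (LP (LK LD1_c3 LD2_c3 LD3_c13)) :=
  Lre_c IH (LK LD1_c1 LD2_c27 LD3_c30) (LK LD1_c3 LD2_c3 LD3_c13) Lrfl Lrfl
theorem f7505 : Led Lsl_gt (LP (LK LD1_c3 LD2_c3 LD3_c13)) = (LP (LK LD1_c6 LD2_c12 LD3_c59)) :=
  Lre_g IH (LK LD1_c3 LD2_c3 LD3_c13) (LK LD1_c6 LD2_c12 LD3_c59) Lrfl Lrfl
theorem f25566 : Led Lsl_ct (LP (LK LD1_c6 LD2_c17 LD3_c60)) = (LP (LK LD1_c3 LD2_c6 LD3_c12)) :=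
  Lre_c IH (LK LD1_c6 LD2_c17 LD3_c60) (LK LD1_c3 LD2_c6 LD3_c12) Lrfl Lrfl
theorem f25567 : Led Lsl_af (LP (LK LD1_c6 LD2_c17 LD3_c60)) = (LP (LK LD1_c6 LD2_c12 LD3_c46)) :=
  Lgr Lrot68 (Lpr_ct (f25566 IH) (Lpr_at (K0.f25558 IH) (Lpr_ct (K1.f25532 IH) (Lpn (LP (LK LD1_c6 LD2_c12 LD3_c46))))))
theorem f58578 : Led Lsl_ft (LP (LK LD1_c3 LD2_c3 LD3_c13)) = (LP (LK LD1_c6 LD2_c12 LD3_c46)) :=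
  Lre_f IH (LK LD1_c3 LD2_c3 LD3_c13) (LK LD1_c6 LD2_c12 LD3_c46) Lrfl Lrfl
theorem f446062 : Led Lsl_gf (LP (LK LD1_c6 LD2_c17 LD3_c60)) = (LP (LK LD1_c6 LD2_c12 LD3_c59)) :=
  Lgr Lrot76 (Lpr_af (f25567 IH) (Lpe (f58578 IH) (Lpr_gt (f7505 IH) (Lpn (LP (LK LD1_c6 LD2_c12 LD3_c59))))))
theorem f27079 : Led Lsl_et (LP (LK LD1_c2 LD2_c17 LD3_c4)) = (LP (LK LD1_c4 LD2_c40 LD3_c5)) :=
  Lre_e IH (LK LD1_c2 LD2_c17 LD3_c4) (LK LD1_c4 LD2_c40 LD3_c5) Lrfl Lrfl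
theorem f140010 : Led Lsl_cf (LP (LK LD1_c2 LD2_c17 LD3_c4)) = (LP (LK LD1_c1 LD2_c32 LD3_c54)) :=
  Lgr Lrot39 (Lpr_et (f27079 IH) (Lpr_ct (K24.f139996 IH) (Lpr_et (K9.f79708 IH) (Lpn (LP (LK LD1_c1 LD2_c32 LD3_c54))))))
theorem f446064 : Led Lsl_ct (LP (LK LD1_c3 LD2_c11 LD3_c46)) = (LP (LK LD1_c6 LD2_c12 LD3_c59)) :=
  Lgr Lrot152 (Lpe (K32.f25844 IH) (Lpe (K2.f68248 IH) (Lpr_gt (K9.f59486 IH) (Lpe (f140010 IH) (Lpr_gt (K0.f27074 IH) (Lpr_ct (K1.f58565 IH) (Lpe (K24.f25593 IH) (Lpe (f25566 IH) (Lpr_gf (f446062 IH) (Lpn (LP (LK LD1_c6 LD2_c12 LD3_c59))))))))))))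
theorem f446066 : Led Lsl_cf (LP (LK LD1_c3 LD2_c11 LD3_c46)) = (LP (LK LD1_c6 LD2_c12 LD3_c59)) :=
  Lgr Lrot11 (Lpr_ct (f446064 IH) (Lpn (LP (LK LD1_c6 LD2_c12 LD3_c59))))
theorem f504798 : Led Lsl_dt (LP (LK LD1_c3 LD2_c11 LD3_c46)) = K32.v1883 :=
  Lgr Lrot42 (Lpr_df (K32.f504797 IH) (Lpn K32.v1883))
theorem f645284 : Led Lsl_cf K32.v1883 = v5085 :=
  Lgr Lrot99 (Lpe (f504798 IH) (Lpr_cf (f446066 IH) (Lpe (f7505 IH) (Lpe (f23816 IH) (Lpe (K0.f20170 IH) (Lpr_df (K0.f23802 IH) (Lpr_gt (K35.f415331 IH) (Lpr_ct (f443979 IH) (Lpr_gt (f645280 IH) (Lpn v5085))))))))))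
theorem f72479 : Led Lsl_et (LP (LK LD1_c2 LD2_c27 LD3_c25)) = (LP (LK LD1_c1 LD2_c10 LD3_c55)) :=
  Lre_e IH (LK LD1_c2 LD2_c27 LD3_c25) (LK LD1_c1 LD2_c10 LD3_c55) Lrfl Lrfl
theorem f72480 : Led Lsl_dt (LP (LK LD1_c2 LD2_c27 LD3_c25)) = (LP (LK LD1_c4 LD2_c59 LD3_c4)) :=
  Lre_d IH (LK LD1_c2 LD2_c27 LD3_c25) (LK LD1_c4 LD2_c59 LD3_c4) Lrfl Lrfl
theorem f72481 : Led Lsl_gt (LP (LK LD1_c9 LD2_c48 LD3_c37)) = (LP (LK LD1_c4 LD2_c59 LD3_c4)) :=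
  Lre_g IH (LK LD1_c9 LD2_c48 LD3_c37) (LK LD1_c4 LD2_c59 LD3_c4) Lrfl Lrfl
theorem f495277 : Led Lsl_ft (LP (LK LD1_c4 LD2_c59 LD3_c38)) = (LP (LK LD1_c2 LD2_c27 LD3_c38)) :=
  Lre_f IH (LK LD1_c4 LD2_c59 LD3_c38) (LK LD1_c2 LD2_c27 LD3_c38) Lrfl Lrfl
theorem f614965 : Led Lsl_bt (LP (LK LD1_c11 LD2_c49 LD3_c19)) = (LP (LK LD1_c6 LD2_c2 LD3_c30)) :=
  Lre_b IH (LK LD1_c11 LD2_c49 LD3_c19) (LK LD1_c6 LD2_c2 LD3_c30) Lrfl Lrfl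
theorem f559450 : Led Lsl_gt (LP (LK LD1_c9 LD2_c29 LD3_c55)) = (LP (LK LD1_c6 LD2_c0 LD3_c24)) :=
  Lgr Lrot5 (Lpr_ft (K42.f56930 IH) (Lpr_at (K42.f559444 IH) (Lpe (K45.f76131 IH) (Lpn (LP (LK LD1_c6 LD2_c0 LD3_c24))))))
theorem f497060 : Led Lsl_ct (LP (LK LD1_c9 LD2_c25 LD3_c48)) = (LP (LK LD1_c4 LD2_c46 LD3_c36)) :=
  Lre_c IH (LK LD1_c9 LD2_c25 LD3_c48) (LK LD1_c4 LD2_c46 LD3_c36) Lrfl Lrfl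
theorem f570778 : Led Lsl_ct (LP (LK LD1_c2 LD2_c56 LD3_c37)) = (LP (LK LD1_c4 LD2_c59 LD3_c37)) :=
  Lgr Lrot111 (Lpe (K32.f497052 IH) (Lpe (f497060 IH) (Lpr_af (K42.f570772 IH) (Lpn (LP (LK LD1_c4 LD2_c59 LD3_c37))))))
theorem f203119 : Led Lsl_gt (LP (LK LD1_c9 LD2_c49 LD3_c35)) = (LP (LK LD1_c4 LD2_c59 LD3_c35)) :=
  Lre_g IH (LK LD1_c9 LD2_c49 LD3_c35) (LK LD1_c4 LD2_c59 LD3_c35) Lrfl Lrfl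
theorem f643385 : Led Lsl_ct (LP (LK LD1_c6 LD2_c0 LD3_c24)) = (LP (LK LD1_c9 LD2_c49 LD3_c35)) :=
  Lgr Lrot152 (Lpe (f559450 IH) (Lpr_df (K42.f559436 IH) (Lpr_gt (K45.f501427 IH) (Lpr_ct (K45.f501432 IH) (Lpqs (K45.f643376 IH) (Lpe (K45.f641464 IH) (Lpr_ct (f570778 IH) (Lpe (K42.f76110 IH) (Lpe (K42.f499394 IH) (Lpe (f203119 IH) (Lpn (LP (LK LD1_c9 LD2_c49 LD3_c35)))))))))))))
theorem f643412 : Led Lsl_bt (LP (LK LD1_c9 LD2_c49 LD3_c35)) = (LP (LK LD1_c18 LD2_c0 LD3_c5)) :=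
  Lre_b IH (LK LD1_c9 LD2_c49 LD3_c35) (LK LD1_c18 LD2_c0 LD3_c5) Lrfl Lrfl
theorem f643413 : Led Lsl_cf (LP (LK LD1_c11 LD2_c49 LD3_c19)) = (LP (LK LD1_c18 LD2_c0 LD3_c5)) :=
  Lgr Lrot97 (Lpr_bt (f614965 IH) (Lpr_ct (K45.f204542 IH) (Lpr_bt (K45.f643406 IH) (Lpr_ct (f643385 IH) (Lpr_bt (f643412 IH) (Lpn (LP (LK LD1_c18 LD2_c0 LD3_c5))))))))
theorem f643456 : Led Lsl_ct (LP (LK LD1_c11 LD2_c49 LD3_c19)) = (LP (LK LD1_c18 LD2_c0 LD3_c5)) :=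
  Lgr Lrot59 (Lpr_cf (f643413 IH) (Lpn (LP (LK LD1_c18 LD2_c0 LD3_c5))))
theorem f204543 : Led Lsl_bt (LP (LK LD1_c6 LD2_c2 LD3_c30)) = (LP (LK LD1_c11 LD2_c49 LD3_c19)) :=
  Lre_b IH (LK LD1_c6 LD2_c2 LD3_c30) (LK LD1_c11 LD2_c49 LD3_c19) Lrfl Lrfl
theorem f643410 : Led Lsl_bf (LP (LK LD1_c2 LD2_c57 LD3_c19)) = (LP (LK LD1_c6 LD2_c0 LD3_c24)) :=
  Lgr Lrot24 (Lpr_bt (K45.f643406 IH) (Lpn (LP (LK LD1_c6 LD2_c0 LD3_c24))))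
theorem f615210 : Led Lsl_bt (LP (LK LD1_c18 LD2_c0 LD3_c5)) = (LP (LK LD1_c9 LD2_c49 LD3_c35)) :=
  Lre_b IH (LK LD1_c18 LD2_c0 LD3_c5) (LK LD1_c9 LD2_c49 LD3_c35) Lrfl Lrfl
theorem f643459 : Led Lsl_cf (LP (LK LD1_c6 LD2_c0 LD3_c24)) = (LP (LK LD1_c9 LD2_c49 LD3_c35)) :=
  Lgr Lrot97 (Lpe (f643410 IH) (Lpr_ct (K45.f204220 IH) (Lpr_bt (f204543 IH) (Lpr_ct (f643456 IH) (Lpr_bt (f615210 IH) (Lpn (LP (LK LD1_c9 LD2_c49 LD3_c35))))))))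
theorem f614896 : Led Lsl_ff (LP (LK LD1_c6 LD2_c2 LD3_c15)) = (LP (LK LD1_c2 LD2_c57 LD3_c18)) :=
  Lgr Lrot3 (Lpr_ft (K45.f614890 IH) (Lpn (LP (LK LD1_c2 LD2_c57 LD3_c18))))
theorem f614914 : Led Lsl_at (LP (LK LD1_c6 LD2_c2 LD3_c15)) = (LP (LK LD1_c2 LD2_c57 LD3_c19)) :=
  Lgr Lrot66 (Lpr_ff (f614896 IH) (Lpe (K45.f614900 IH) (Lpr_ff (K45.f614912 IH) (Lpn (LP (LK LD1_c2 LD2_c57 LD3_c19))))))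
theorem f508151 : Led Lsl_af (LP (LK LD1_c2 LD2_c57 LD3_c26)) = (LP (LK LD1_c4 LD2_c38 LD3_c57)) :=
  Lgr Lrot0 (Lpr_at (K35.f508149 IH) (Lpn (LP (LK LD1_c4 LD2_c38 LD3_c57))))
theorem f508147 : Led Lsl_ft (LP (LK LD1_c2 LD2_c57 LD3_c26)) = (LP (LK LD1_c4 LD2_c38 LD3_c58)) :=
  Lgr Lrot48 (Lpr_ff (K35.f508145 IH) (Lpn (LP (LK LD1_c4 LD2_c38 LD3_c58))))
theorem f508248 : Led Lsl_af (LP (LK LD1_c2 LD2_c57 LD3_c27)) = (LP (LK LD1_c4 LD2_c38 LD3_c58)) :=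
  Lgr Lrot45 (Lpr_ft (K41.f508246 IH) (Lpe (f508151 IH) (Lpr_ft (f508147 IH) (Lpn (LP (LK LD1_c4 LD2_c38 LD3_c58))))))
theorem f419092 : Led Lsl_bt (LP (LK LD1_c9 LD2_c13 LD3_c40)) = (LP (LK LD1_c4 LD2_c38 LD3_c58)) :=
  Lre_b IH (LK LD1_c9 LD2_c13 LD3_c40) (LK LD1_c4 LD2_c38 LD3_c58) Lrfl Lrfl
theorem f643408 : Led Lsl_af (LP (LK LD1_c9 LD2_c13 LD3_c40)) = (LP (LK LD1_c6 LD2_c0 LD3_c24)) :=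
  Lgr Lrot36 (Lpr_bt (f419092 IH) (Lpe (f508248 IH) (Lpe (K45.f614884 IH) (Lpr_at (f614914 IH) (Lpr_bt (K45.f643406 IH) (Lpn (LP (LK LD1_c6 LD2_c0 LD3_c24))))))))
theorem f419093 : Led Lsl_ct (LP (LK LD1_c9 LD2_c13 LD3_c40)) = (LP (LK LD1_c17 LD2_c8 LD3_c0)) :=
  Lre_c IH (LK LD1_c9 LD2_c13 LD3_c40) (LK LD1_c17 LD2_c8 LD3_c0) Lrfl Lrfl
theorem f643461 : Led Lsl_at (LP (LK LD1_c17 LD2_c8 LD3_c0)) = (LP (LK LD1_c9 LD2_c49 LD3_c35)) :=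
  Lgr Lrot107 (Lpe (f419093 IH) (Lpr_af (f643408 IH) (Lpr_cf (f643459 IH) (Lpn (LP (LK LD1_c9 LD2_c49 LD3_c35))))))
theorem f643463 : Led Lsl_af (LP (LK LD1_c17 LD2_c8 LD3_c0)) = (LP (LK LD1_c9 LD2_c49 LD3_c35)) :=
  Lgr Lrot0 (Lpr_at (f643461 IH) (Lpn (LP (LK LD1_c9 LD2_c49 LD3_c35))))
theorem f419095 : Led Lsl_ct (LP (LK LD1_c17 LD2_c8 LD3_c0)) = (LP (LK LD1_c9 LD2_c13 LD3_c40)) :=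
  Lre_c IH (LK LD1_c17 LD2_c8 LD3_c0) (LK LD1_c9 LD2_c13 LD3_c40) Lrfl Lrfl
theorem f643470 : Led Lsl_at (LP (LK LD1_c9 LD2_c13 LD3_c40)) = (LP (LK LD1_c6 LD2_c0 LD3_c24)) :=
  Lgr Lrot107 (Lpe (f419095 IH) (Lpr_af (f643463 IH) (Lpe (f643385 IH) (Lpn (LP (LK LD1_c6 LD2_c0 LD3_c24))))))
theorem f56922 : Led Lsl_bt (LP (LK LD1_c4 LD2_c48 LD3_c49)) = (LP (LK LD1_c9 LD2_c29 LD3_c55)) :=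
  Lre_b IH (LK LD1_c4 LD2_c48 LD3_c49) (LK LD1_c9 LD2_c29 LD3_c55) Lrfl Lrfl
theorem f501438 : Led Lsl_et (LP (LK LD1_c9 LD2_c29 LD3_c55)) = (LP (LK LD1_c5 LD2_c59 LD3_c42)) :=
  Lgr Lrot74 (Lpe (f56922 IH) (Lpr_ef (K36.f501425 IH) (Lpe (K37.f501437 IH) (Lpn (LP (LK LD1_c5 LD2_c59 LD3_c42))))))
theorem f559328 : Led Lsl_af (LP (LK LD1_c9 LD2_c29 LD3_c55)) = (LP (LK LD1_c6 LD2_c0 LD3_c26)) :=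
  Lgr Lrot50 (Lpr_et (f501438 IH) (Lpr_at (K37.f501903 IH) (Lpr_et (K42.f559326 IH) (Lpn (LP (LK LD1_c6 LD2_c0 LD3_c26))))))
theorem f76129 : Led Lsl_ft (LP (LK LD1_c2 LD2_c56 LD3_c28)) = (LP (LK LD1_c6 LD2_c0 LD3_c26)) :=
  Lre_f IH (LK LD1_c2 LD2_c56 LD3_c28) (LK LD1_c6 LD2_c0 LD3_c26) Lrfl Lrfl
theorem f75033 : Led Lsl_gt (LP (LK LD1_c2 LD2_c56 LD3_c28)) = (LP (LK LD1_c6 LD2_c0 LD3_c23)) :=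
  Lre_g IH (LK LD1_c2 LD2_c56 LD3_c28) (LK LD1_c6 LD2_c0 LD3_c23) Lrfl Lrfl
theorem f618458 : Led Lsl_gf (LP (LK LD1_c9 LD2_c29 LD3_c55)) = (LP (LK LD1_c6 LD2_c0 LD3_c23)) :=
  Lgr Lrot76 (Lpr_af (f559328 IH) (Lpe (f76129 IH) (Lpr_gt (f75033 IH) (Lpn (LP (LK LD1_c6 LD2_c0 LD3_c23))))))
theorem f643472 : Led Lsl_ff (LP (LK LD1_c9 LD2_c13 LD3_c40)) = (LP (LK LD1_c6 LD2_c0 LD3_c23)) :=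
  Lgr Lrot52 (Lpr_at (f643470 IH) (Lpe (f559450 IH) (Lpr_gf (f618458 IH) (Lpn (LP (LK LD1_c6 LD2_c0 LD3_c23))))))
theorem f643476 : Led Lsl_ft (LP (LK LD1_c9 LD2_c13 LD3_c40)) = (LP (LK LD1_c6 LD2_c0 LD3_c23)) :=
  Lgr Lrot48 (Lpr_ff (f643472 IH) (Lpn (LP (LK LD1_c6 LD2_c0 LD3_c23))))
theorem f614830 : Led Lsl_at (LP (LK LD1_c5 LD2_c50 LD3_c16)) = (LP (LK LD1_c9 LD2_c6 LD3_c6)) :=
  Lgr Lrot107 (Lpr_cf (K41.f614828 IH) (Lpr_af (f508151 IH) (Lpr_cf (K42.f614621 IH) (Lpn (LP (LK LD1_c9 LD2_c6 LD3_c6))))))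
theorem f614836 : Led Lsl_ff (LP (LK LD1_c5 LD2_c50 LD3_c16)) = (LP (LK LD1_c9 LD2_c6 LD3_c7)) :=
  Lgr Lrot3 (Lpr_ft (K41.f614834 IH) (Lpn (LP (LK LD1_c9 LD2_c6 LD3_c7))))
theorem f614871 : Led Lsl_at (LP (LK LD1_c5 LD2_c50 LD3_c17)) = (LP (LK LD1_c9 LD2_c6 LD3_c7)) :=
  Lgr Lrot66 (Lpr_ff (K41.f614869 IH) (Lpe (f614830 IH) (Lpr_ff (f614836 IH) (Lpn (LP (LK LD1_c9 LD2_c6 LD3_c7))))))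
theorem f614878 : Led Lsl_gf (LP (LK LD1_c9 LD2_c6 LD3_c7)) = (LP (LK LD1_c5 LD2_c50 LD3_c19)) :=
  Lgr Lrot76 (Lpe (f614871 IH) (Lpr_ff (K41.f614869 IH) (Lpe (K41.f614576 IH) (Lpn (LP (LK LD1_c5 LD2_c50 LD3_c19))))))
theorem f419098 : Led Lsl_bt (LP (LK LD1_c4 LD2_c38 LD3_c58)) = (LP (LK LD1_c9 LD2_c13 LD3_c40)) :=
  Lre_b IH (LK LD1_c4 LD2_c38 LD3_c58) (LK LD1_c9 LD2_c13 LD3_c40) Lrfl Lrfl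
theorem f643136 : Led Lsl_gt (LP (LK LD1_c9 LD2_c13 LD3_c40)) = (LP (LK LD1_c4 LD2_c48 LD3_c42)) :=
  Lgr Lrot82 (Lpe (f419098 IH) (Lpe (K41.f419090 IH) (Lpr_gf (f614878 IH) (Lpe (K6.f139831 IH) (Lpr_bt (K42.f139850 IH) (Lpe (K32.f438467 IH) (Lpe (K42.f438482 IH) (Lpr_ct (K42.f438483 IH) (Lpr_gf (K42.f643119 IH) (Lpe (K28.f56909 IH) (Lpn (LP (LK LD1_c4 LD2_c48 LD3_c42)))))))))))))
theorem f56916 : Led Lsl_gt (LP (LK LD1_c4 LD2_c48 LD3_c42)) = (LP (LK LD1_c9 LD2_c29 LD3_c54)) :=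
  Lre_g IH (LK LD1_c4 LD2_c48 LD3_c42) (LK LD1_c9 LD2_c29 LD3_c54) Lrfl Lrfl
theorem f643482 : Led Lsl_af (LP (LK LD1_c9 LD2_c29 LD3_c54)) = (LP (LK LD1_c6 LD2_c0 LD3_c23)) :=
  Lgr Lrot31 (Lpe (f56916 IH) (Lpe (f643136 IH) (Lpr_ft (f643476 IH) (Lpn (LP (LK LD1_c6 LD2_c0 LD3_c23))))))
theorem f643493 : Led Lsl_ft (LP (LK LD1_c9 LD2_c29 LD3_c54)) = (LP (LK LD1_c6 LD2_c0 LD3_c24)) :=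
  Lgr Lrot101 (Lpr_af (f643482 IH) (Lpe (f643476 IH) (Lpr_af (f643408 IH) (Lpn (LP (LK LD1_c6 LD2_c0 LD3_c24))))))
theorem f643501 : Led Lsl_ff (LP (LK LD1_c9 LD2_c29 LD3_c54)) = (LP (LK LD1_c6 LD2_c0 LD3_c24)) :=
  Lgr Lrot3 (Lpr_ft (f643493 IH) (Lpn (LP (LK LD1_c6 LD2_c0 LD3_c24))))
theorem f56917 : Led Lsl_ct (LP (LK LD1_c9 LD2_c29 LD3_c54)) = (LP (LK LD1_c17 LD2_c31 LD3_c6)) :=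
  Lre_c IH (LK LD1_c9 LD2_c29 LD3_c54) (LK LD1_c17 LD2_c31 LD3_c6) Lrfl Lrfl
theorem f643503 : Led Lsl_ft (LP (LK LD1_c17 LD2_c31 LD3_c6)) = (LP (LK LD1_c9 LD2_c49 LD3_c35)) :=
  Lgr Lrot4 (Lpe (f56917 IH) (Lpr_ff (f643501 IH) (Lpr_cf (f643459 IH) (Lpn (LP (LK LD1_c9 LD2_c49 LD3_c35))))))
theorem f643083 : Led Lsl_gf (LP (LK LD1_c9 LD2_c49 LD3_c37)) = (LP (LK LD1_c17 LD2_c31 LD3_c6)) :=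
  Lgr Lrot104 (Lpr_ct (K42.f499410 IH) (Lpe (K42.f570783 IH) (Lpe (K42.f570793 IH) (Lpe (K42.f497076 IH) (Lpr_cf (K42.f643077 IH) (Lpe (K24.f56918 IH) (Lpe (K42.f559440 IH) (Lpr_gt (f56916 IH) (Lpr_ct (f56917 IH) (Lpn (LP (LK LD1_c17 LD2_c31 LD3_c6))))))))))))
theorem f643523 : Led Lsl_gt (LP (LK LD1_c9 LD2_c49 LD3_c37)) = (LP (LK LD1_c17 LD2_c8 LD3_c0)) :=
  Lgr Lrot46 (Lpr_gf (f643083 IH) (Lpr_ft (f643503 IH) (Lpe (f643463 IH) (Lpn (LP (LK LD1_c17 LD2_c8 LD3_c0))))))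
theorem f570784 : Led Lsl_ct (LP (LK LD1_c4 LD2_c59 LD3_c38)) = (LP (LK LD1_c9 LD2_c49 LD3_c37)) :=
  Lre_c IH (LK LD1_c4 LD2_c59 LD3_c38) (LK LD1_c9 LD2_c49 LD3_c37) Lrfl Lrfl
theorem f614587 : Led Lsl_gf (LP (LK LD1_c11 LD2_c28 LD3_c52)) = (LP (LK LD1_c6 LD2_c50 LD3_c24)) :=
  Lgr Lrot76 (Lpe (K42.f436263 IH) (Lpr_ff (K42.f506201 IH) (Lpr_gt (K42.f614583 IH) (Lpn (LP (LK LD1_c6 LD2_c50 LD3_c24))))))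
def v4877 : LQ := Led Lsl_gf (LP (LK LD1_c2 LD2_c51 LD3_c28))
theorem f640675 : Led Lsl_gf (LP (LK LD1_c2 LD2_c51 LD3_c28)) = v4877 :=
  Lrfl
theorem f640676 : Led Lsl_gt (LP (LK LD1_c6 LD2_c21 LD3_c37)) = v4877 :=
  Lgr Lrot5 (Lpr_ft (K42.f615223 IH) (Lpe (K42.f615225 IH) (Lpr_gf (f640675 IH) (Lpn v4877))))
theorem f643529 : (LP (LK LD1_c4 LD2_c59 LD3_c38)) = v4877 :=
  (Llr Lrot125 (Lpr_ct (f570784 IH) (Lpr_gt (f643523 IH) (Lpe (f419093 IH) (Lpr_bt (f419092 IH) (Lpr_gt (K32.f61081 IH) (Lpe (K42.f104832 IH) (Lpe (K40.f557992 IH) (Lpe (f614587 IH) (Lpe (K45.f505045 IH) (Lpr_bt (K35.f505036 IH) (Lpr_gt (f640676 IH) (Lpn v4877))))))))))))).symm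
def v4876 : LQ := Led Lsl_gt (LP (LK LD1_c2 LD2_c51 LD3_c28))
theorem f640672 : Led Lsl_gt (LP (LK LD1_c2 LD2_c51 LD3_c28)) = v4876 :=
  Lrfl
theorem f643532 : (LP (LK LD1_c4 LD2_c59 LD3_c14)) = v4876 :=
  (Llr Lrot26 (Lpr_af (K42.f499389 IH) (Lpe (f495277 IH) (Lpqs (f643529 IH) (Lpe (f640675 IH) (Lpr_gt (f640672 IH) (Lpn v4876))))))).symm
theorem f640673 : Led Lsl_gf (LP (LK LD1_c6 LD2_c21 LD3_c37)) = v4876 :=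
  Lgr Lrot76 (Lpe (K42.f504673 IH) (Lpr_ff (K35.f506161 IH) (Lpr_gt (f640672 IH) (Lpn v4876))))
theorem f505002 : Led Lsl_et (LP (LK LD1_c12 LD2_c17 LD3_c6)) = (LP (LK LD1_c6 LD2_c21 LD3_c37)) :=
  Lre_e IH (LK LD1_c12 LD2_c17 LD3_c6) (LK LD1_c6 LD2_c21 LD3_c37) Lrfl Lrfl
theorem f643535 : Led Lsl_df (LP (LK LD1_c9 LD2_c48 LD3_c37)) = (LP (LK LD1_c12 LD2_c17 LD3_c6)) :=
  Lgr Lrot170 (Lpr_gt (f72481 IH) (Lpe (f72480 IH) (Lpr_et (f72479 IH) (Lpr_gt (K2.f72439 IH) (Lpr_dt (K2.f72454 IH) (Lpr_gt (K4.f60930 IH) (Lpr_df (K4.f80023 IH) (Lpr_et (K42.f26392 IH) (Lpqs (f643532 IH) (Lpe (f640673 IH) (Lpe (f505002 IH) (Lpn (LP (LK LD1_c12 LD2_c17 LD3_c6))))))))))))))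
theorem f140768 : Led Lsl_dt (LP (LK LD1_c9 LD2_c6 LD3_c52)) = (LP (LK LD1_c6 LD2_c30 LD3_c6)) :=
  Lgr Lrot79 (Lpe (K32.f140766 IH) (Lpr_df (K32.f140756 IH) (Lpe (K35.f140767 IH) (Lpn (LP (LK LD1_c6 LD2_c30 LD3_c6))))))
theorem f140778 : Led Lsl_at (LP (LK LD1_c16 LD2_c59 LD3_c3)) = (LP (LK LD1_c9 LD2_c6 LD3_c52)) :=
  Lre_a IH (LK LD1_c16 LD2_c59 LD3_c3) (LK LD1_c9 LD2_c6 LD3_c52) Lrfl Lrfl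
theorem f140780 : Led Lsl_df (LP (LK LD1_c16 LD2_c59 LD3_c3)) = (LP (LK LD1_c12 LD2_c29 LD3_c49)) :=
  Lgr Lrot18 (Lpr_at (f140778 IH) (Lpr_dt (f140768 IH) (Lpr_at (K35.f140779 IH) (Lpn (LP (LK LD1_c12 LD2_c29 LD3_c49))))))
theorem f140788 : Led Lsl_dt (LP (LK LD1_c16 LD2_c59 LD3_c3)) = (LP (LK LD1_c12 LD2_c29 LD3_c49)) :=
  Lgr Lrot42 (Lpr_df (f140780 IH) (Lpn (LP (LK LD1_c12 LD2_c29 LD3_c49))))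
theorem f643541 : Led Lsl_ft (LP (LK LD1_c9 LD2_c48 LD3_c37)) = (LP (LK LD1_c16 LD2_c59 LD3_c3)) :=
  Lgr Lrot54 (Lpr_df (f643535 IH) (Lpe (K35.f504958 IH) (Lpe (f140788 IH) (Lpn (LP (LK LD1_c16 LD2_c59 LD3_c3))))))
theorem f643553 : Led Lsl_gt (LP (LK LD1_c4 LD2_c59 LD3_c4)) = (LP (LK LD1_c9 LD2_c6 LD3_c52)) :=
  Lgr Lrot46 (Lpe (f72481 IH) (Lpr_ft (f643541 IH) (Lpr_at (f140778 IH) (Lpn (LP (LK LD1_c9 LD2_c6 LD3_c52))))))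
theorem f642448 : Led Lsl_dt (LP (LK LD1_c9 LD2_c48 LD3_c36)) = (LP (LK LD1_c9 LD2_c50 LD3_c22)) :=
  Lre_d IH (LK LD1_c9 LD2_c48 LD3_c36) (LK LD1_c9 LD2_c50 LD3_c22) Lrfl Lrfl
theorem f415775 : Led Lsl_gt (LP (LK LD1_c4 LD2_c59 LD3_c56)) = (LP (LK LD1_c9 LD2_c50 LD3_c22)) :=
  Lre_g IH (LK LD1_c4 LD2_c59 LD3_c56) (LK LD1_c9 LD2_c50 LD3_c22) Lrfl Lrfl
theorem f77409 : Led Lsl_dt (LP (LK LD1_c2 LD2_c27 LD3_c44)) = (LP (LK LD1_c4 LD2_c59 LD3_c56)) :=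
  Lre_d IH (LK LD1_c2 LD2_c27 LD3_c44) (LK LD1_c4 LD2_c59 LD3_c56) Lrfl Lrfl
theorem f636080 : Led Lsl_et (LP (LK LD1_c2 LD2_c27 LD3_c44)) = (LP (LK LD1_c4 LD2_c59 LD3_c57)) :=
  Lre_e IH (LK LD1_c2 LD2_c27 LD3_c44) (LK LD1_c4 LD2_c59 LD3_c57) Lrfl Lrfl
theorem f415953 : Led Lsl_gt (LP (LK LD1_c9 LD2_c50 LD3_c24)) = (LP (LK LD1_c4 LD2_c59 LD3_c57)) :=
  Lre_g IH (LK LD1_c9 LD2_c50 LD3_c24) (LK LD1_c4 LD2_c59 LD3_c57) Lrfl Lrfl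
theorem f643559 : Led Lsl_ef (LP (LK LD1_c9 LD2_c50 LD3_c24)) = (LP (LK LD1_c6 LD2_c30 LD3_c6)) :=
  Lgr Lrot114 (Lpr_gt (f415953 IH) (Lpe (f636080 IH) (Lpr_dt (f77409 IH) (Lpr_gt (f415775 IH) (Lpe (f642448 IH) (Lpr_et (K41.f642224 IH) (Lpr_gt (K45.f616244 IH) (Lpr_dt (f72480 IH) (Lpr_gt (f643553 IH) (Lpr_df (K32.f140754 IH) (Lpn (LP (LK LD1_c6 LD2_c30 LD3_c6)))))))))))))
theorem f438665 : Led Lsl_et (LP (LK LD1_c3 LD2_c8 LD3_c29)) = (LP (LK LD1_c6 LD2_c21 LD3_c39)) :=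
  Lre_e IH (LK LD1_c3 LD2_c8 LD3_c29) (LK LD1_c6 LD2_c21 LD3_c39) Lrfl Lrfl
theorem f500041 : Led Lsl_et (LP (LK LD1_c5 LD2_c50 LD3_c36)) = (LP (LK LD1_c2 LD2_c51 LD3_c28)) :=
  Lre_e IH (LK LD1_c5 LD2_c50 LD3_c36) (LK LD1_c2 LD2_c51 LD3_c28) Lrfl Lrfl
theorem f643565 : Led Lsl_ft (LP (LK LD1_c9 LD2_c50 LD3_c24)) = (LP (LK LD1_c5 LD2_c50 LD3_c36)) :=
  Lgr Lrot86 (Lpr_ef (f643559 IH) (Lpr_ff (K32.f504946 IH) (Lpe (f438665 IH) (Lpr_ff (K35.f506161 IH) (Lpe (f500041 IH) (Lpn (LP (LK LD1_c5 LD2_c50 LD3_c36))))))))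
theorem f500034 : Led Lsl_bt (LP (LK LD1_c5 LD2_c50 LD3_c36)) = (LP (LK LD1_c2 LD2_c51 LD3_c30)) :=
  Lre_b IH (LK LD1_c5 LD2_c50 LD3_c36) (LK LD1_c2 LD2_c51 LD3_c30) Lrfl Lrfl
theorem f643567 : Led Lsl_bf (LP (LK LD1_c9 LD2_c50 LD3_c24)) = (LP (LK LD1_c5 LD2_c0 LD3_c15)) :=
  Lgr Lrot61 (Lpr_ft (f643565 IH) (Lpr_bt (f500034 IH) (Lpe (K32.f504902 IH) (Lpn (LP (LK LD1_c5 LD2_c0 LD3_c15))))))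
theorem f415936 : Led Lsl_bt (LP (LK LD1_c9 LD2_c50 LD3_c17)) = (LP (LK LD1_c4 LD2_c59 LD3_c57)) :=
  Lre_b IH (LK LD1_c9 LD2_c50 LD3_c17) (LK LD1_c4 LD2_c59 LD3_c57) Lrfl Lrfl
theorem f415823 : Led Lsl_et (LP (LK LD1_c9 LD2_c10 LD3_c59)) = (LP (LK LD1_c17 LD2_c4 LD3_c23)) :=
  Lre_e IH (LK LD1_c9 LD2_c10 LD3_c59) (LK LD1_c17 LD2_c4 LD3_c23) Lrfl Lrfl
theorem f415824 : Led Lsl_et (LP (LK LD1_c9 LD2_c50 LD3_c17)) = (LP (LK LD1_c4 LD2_c59 LD3_c54)) :=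
  Lre_e IH (LK LD1_c9 LD2_c50 LD3_c17) (LK LD1_c4 LD2_c59 LD3_c54) Lrfl Lrfl
theorem f415825 : Led Lsl_ct (LP (LK LD1_c17 LD2_c4 LD3_c23)) = (LP (LK LD1_c9 LD2_c50 LD3_c17)) :=
  Lgr Lrot15 (Lpe (f415823 IH) (Lpr_cf (K31.f415601 IH) (Lpe (f415824 IH) (Lpn (LP (LK LD1_c9 LD2_c50 LD3_c17))))))
theorem f415941 : Led Lsl_cf (LP (LK LD1_c17 LD2_c4 LD3_c23)) = (LP (LK LD1_c9 LD2_c50 LD3_c17)) :=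
  Lgr Lrot11 (Lpr_ct (f415825 IH) (Lpn (LP (LK LD1_c9 LD2_c50 LD3_c17))))
theorem f645285 : Led Lsl_gf (LP (LK LD1_c11 LD2_c49 LD3_c24)) = (LP (LK LD1_c17 LD2_c4 LD3_c23)) :=
  Lgr Lrot126 (Lpe (K42.f444150 IH) (Lpr_bt (f443995 IH) (Lpr_gt (f645280 IH) (Lpe (f645284 IH) (Lpe (K32.f504801 IH) (Lpe (K32.f140772 IH) (Lpe (f643567 IH) (Lpr_gt (f415953 IH) (Lpe (f415936 IH) (Lpe (f415941 IH) (Lpn (LP (LK LD1_c17 LD2_c4 LD3_c23)))))))))))))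
theorem f645286 : Led Lsl_gt (LP (LK LD1_c17 LD2_c4 LD3_c23)) = (LP (LK LD1_c11 LD2_c49 LD3_c24)) :=
  Leop (Lpr_gf (f645285 IH) (Lpn (LP (LK LD1_c17 LD2_c4 LD3_c23))))
theorem seed_302 : LEOK LG_g (LK LD1_c17 LD2_c4 LD3_c23) :=
  Leoe_g (LK LD1_c17 LD2_c4 LD3_c23) (f645286 IH)
def v447 : LQ := Led Lsl_ft (LP (LK LD1_c0 LD2_c38 LD3_c57))
theorem f452896 : Led Lsl_ft (LP (LK LD1_c0 LD2_c38 LD3_c57)) = v447 :=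
  Lrfl
theorem f452898 : Led Lsl_ff (LP (LK LD1_c0 LD2_c38 LD3_c57)) = v447 :=
  Lgr Lrot3 (Lpr_ft (f452896 IH) (Lpn v447))
theorem f452899 : Led Lsl_at (LP (LK LD1_c0 LD2_c38 LD3_c58)) = v447 :=
  Lgr Lrot66 (Lpr_ff (K32.f452894 IH) (Lpe (K32.f452888 IH) (Lpr_ff (f452898 IH) (Lpn v447))))
def v1732 : LQ := Led Lsl_at (LP (LK LD1_c1 LD2_c24 LD3_c36))
theorem f501190 : Led Lsl_at (LP (LK LD1_c1 LD2_c24 LD3_c36)) = v1732 :=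
  Lrfl
theorem f452897 : Led Lsl_af (LP (LK LD1_c0 LD2_c38 LD3_c58)) = v447 :=
  Lgr Lrot45 (Lpr_ft (K32.f452892 IH) (Lpe (K32.f452889 IH) (Lpr_ft (f452896 IH) (Lpn v447))))
theorem f501192 : Led Lsl_ef v447 = v1732 :=
  Lgr Lrot20 (Lpe (f452897 IH) (Lpr_et (K35.f452895 IH) (Lpr_at (f501190 IH) (Lpn v1732))))
def v1280 : LQ := Led Lsl_et (LP (LK LD1_c1 LD2_c5 LD3_c9))
theorem f494516 : Led Lsl_et (LP (LK LD1_c1 LD2_c5 LD3_c9)) = v1280 :=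
  Lrfl
theorem f494518 : Led Lsl_ef (LP (LK LD1_c1 LD2_c5 LD3_c9)) = v1280 :=
  Lgr Lrot88 (Lpr_et (f494516 IH) (Lpn v1280))
theorem f507743 : Led Lsl_at (LP (LK LD1_c4 LD2_c39 LD3_c6)) = (LP (LK LD1_c2 LD2_c57 LD3_c39)) :=
  Lgr Lrot66 (Lpr_ff (K35.f507741 IH) (Lpq (K32.f505195 IH) (Lpr_af (K35.f506999 IH) (Lpe (K35.f506993 IH) (Lpn (LP (LK LD1_c2 LD2_c57 LD3_c39)))))))
theorem f645282 : Led Lsl_gf (LP (LK LD1_c2 LD2_c57 LD3_c39)) = v5085 :=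
  Lgr Lrot76 (Lpe (f507743 IH) (Lpr_ff (K35.f507741 IH) (Lpr_gt (f645280 IH) (Lpn v5085))))
def v1724 : LQ := Led Lsl_at (LP (LK LD1_c1 LD2_c24 LD3_c32))
theorem f501142 : Led Lsl_at (LP (LK LD1_c1 LD2_c24 LD3_c32)) = v1724 :=
  Lrfl
theorem f501143 : Led Lsl_af (LP (LK LD1_c1 LD2_c24 LD3_c32)) = v1724 :=
  Lgr Lrot0 (Lpr_at (f501142 IH) (Lpn v1724))
theorem f645290 : Led Lsl_ff v1724 = v5085 :=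
  Lgr Lrot52 (Lpe (f501143 IH) (Lpe (K0.f23861 IH) (Lpr_gf (f645282 IH) (Lpn v5085))))
theorem f645292 : Led Lsl_ft v1724 = v5085 :=
  Lgr Lrot48 (Lpr_ff (f645290 IH) (Lpn v5085))
theorem f501145 : Led Lsl_ef K32.v446 = v1724 :=
  Lgr Lrot20 (Lpe (K32.f452889 IH) (Lpr_et (K0.f23860 IH) (Lpr_at (f501142 IH) (Lpn v1724))))
theorem f501146 : Led Lsl_et K32.v446 = v1724 :=
  Lgr Lrot87 (Lpr_ef (f501145 IH) (Lpn v1724))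
def v1733 : LQ := Led Lsl_ft (LP (LK LD1_c1 LD2_c24 LD3_c36))
theorem f501194 : Led Lsl_ft (LP (LK LD1_c1 LD2_c24 LD3_c36)) = v1733 :=
  Lrfl
theorem f501195 : Led Lsl_ff (LP (LK LD1_c1 LD2_c24 LD3_c36)) = v1733 :=
  Lgr Lrot3 (Lpr_ft (f501194 IH) (Lpn v1733))
theorem f645294 : Led Lsl_ef v1733 = v5085 :=
  Lgr Lrot21 (Lpe (f501195 IH) (Lpr_et (K17.f180313 IH) (Lpr_ft (K32.f452892 IH) (Lpr_et (f501146 IH) (Lpr_ft (f645292 IH) (Lpn v5085))))))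
theorem f58481 : Led Lsl_ft (LP (LK LD1_c1 LD2_c26 LD3_c13)) = (LP (LK LD1_c0 LD2_c39 LD3_c49)) :=
  Lre_f IH (LK LD1_c1 LD2_c26 LD3_c13) (LK LD1_c0 LD2_c39 LD3_c49) Lrfl Lrfl
theorem f58482 : Led Lsl_cf (LP (LK LD1_c1 LD2_c26 LD3_c13)) = (LP (LK LD1_c1 LD2_c29 LD3_c10)) :=
  Lgr Lrot108 (Lpr_ft (f58481 IH) (Lpr_ct (K1.f58472 IH) (Lpr_ft (K29.f58469 IH) (Lpn (LP (LK LD1_c1 LD2_c29 LD3_c10))))))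
theorem f58581 : Led Lsl_gt (LP (LK LD1_c4 LD2_c39 LD3_c53)) = (LP (LK LD1_c3 LD2_c0 LD3_c27)) :=
  Lre_g IH (LK LD1_c4 LD2_c39 LD3_c53) (LK LD1_c3 LD2_c0 LD3_c27) Lrfl Lrfl
theorem f645283 : Led Lsl_df (LP (LK LD1_c4 LD2_c39 LD3_c53)) = v5085 :=
  Lgr Lrot153 (Lpr_gt (f58581 IH) (Lpr_dt (K1.f58564 IH) (Lpr_cf (f58482 IH) (Lpe (K24.f25593 IH) (Lpr_gf (K32.f446069 IH) (Lpe (K32.f446076 IH) (Lpe (K32.f146154 IH) (Lpr_cf (K29.f443981 IH) (Lpr_gt (f645280 IH) (Lpn v5085))))))))))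
theorem f22478 : Led Lsl_gt (LP (LK LD1_c2 LD2_c16 LD3_c59)) = (LP (LK LD1_c4 LD2_c39 LD3_c53)) :=
  Lre_g IH (LK LD1_c2 LD2_c16 LD3_c59) (LK LD1_c4 LD2_c39 LD3_c53) Lrfl Lrfl
theorem f22472 : Led Lsl_dt (LP (LK LD1_c0 LD2_c38 LD3_c24)) = (LP (LK LD1_c1 LD2_c22 LD3_c60)) :=
  Lre_d IH (LK LD1_c0 LD2_c38 LD3_c24) (LK LD1_c1 LD2_c22 LD3_c60) Lrfl Lrfl
theorem f631980 : Led Lsl_df (LP (LK LD1_c2 LD2_c54 LD3_c1)) = K35.v4216 :=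
  Lgr Lrot38 (Lpr_dt (K35.f631977 IH) (Lpn K35.v4216))
theorem f645295 : Led Lsl_gt v1733 = K35.v4216 :=
  Lgr Lrot137 (Lpr_ef (f645294 IH) (Lpe (f645283 IH) (Lpe (f22478 IH) (Lpe (K0.f22477 IH) (Lpr_et (K0.f22476 IH) (Lpr_gf (K0.f22445 IH) (Lpe (K24.f22471 IH) (Lpr_dt (f22472 IH) (Lpe (K35.f22473 IH) (Lpr_df (f631980 IH) (Lpn K35.v4216)))))))))))
theorem f435369 : Led Lsl_gt (LP (LK LD1_c9 LD2_c13 LD3_c9)) = (LP (LK LD1_c4 LD2_c38 LD3_c39)) :=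
  Lre_g IH (LK LD1_c9 LD2_c13 LD3_c9) (LK LD1_c4 LD2_c38 LD3_c39) Lrfl Lrfl
theorem f507166 : Led Lsl_af (LP (LK LD1_c2 LD2_c54 LD3_c54)) = (LP (LK LD1_c4 LD2_c36 LD3_c30)) :=
  Lgr Lrot68 (Lpr_ct (K32.f442877 IH) (Lpr_at (K35.f507161 IH) (Lpe (K32.f504720 IH) (Lpn (LP (LK LD1_c4 LD2_c36 LD3_c30))))))
theorem f442895 : Led Lsl_gt (LP (LK LD1_c5 LD2_c57 LD3_c18)) = (LP (LK LD1_c2 LD2_c54 LD3_c54)) :=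
  Lre_g IH (LK LD1_c5 LD2_c57 LD3_c18) (LK LD1_c2 LD2_c54 LD3_c54) Lrfl Lrfl
theorem f507516 : Led Lsl_gf (LP (LK LD1_c5 LD2_c57 LD3_c18)) = (LP (LK LD1_c6 LD2_c2 LD3_c9)) :=
  Lgr Lrot47 (Lpr_gt (f442895 IH) (Lpr_af (f507166 IH) (Lpe (K45.f507093 IH) (Lpn (LP (LK LD1_c6 LD2_c2 LD3_c9))))))
theorem f135358 : Led Lsl_gf (LP (LK LD1_c3 LD2_c20 LD3_c10)) = (LP (LK LD1_c4 LD2_c48 LD3_c40)) :=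
  Lgr Lrot47 (Lpr_gt (K32.f57503 IH) (Lpr_af (K6.f135279 IH) (Lpe (K6.f84366 IH) (Lpn (LP (LK LD1_c4 LD2_c48 LD3_c40))))))
theorem f438442 : Led Lsl_gt (LP (LK LD1_c3 LD2_c20 LD3_c5)) = (LP (LK LD1_c3 LD2_c2 LD3_c53)) :=
  Lgr Lrot9 (Lpe (K16.f62599 IH) (Lpr_gt (K24.f135415 IH) (Lpr_ct (K32.f135362 IH) (Lpe (f135358 IH) (Lpe (K35.f438359 IH) (Lpr_df (K24.f26272 IH) (Lpr_cf (K24.f438434 IH) (Lpe (K35.f56690 IH) (Lpe (K35.f57157 IH) (Lpn (LP (LK LD1_c3 LD2_c2 LD3_c53))))))))))))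
theorem f26814 : Led Lsl_dt (LP (LK LD1_c4 LD2_c38 LD3_c39)) = (LP (LK LD1_c2 LD2_c16 LD3_c20)) :=
  Lre_d IH (LK LD1_c4 LD2_c38 LD3_c39) (LK LD1_c2 LD2_c16 LD3_c20) Lrfl Lrfl
theorem f507518 : Led Lsl_dt (LP (LK LD1_c5 LD2_c57 LD3_c18)) = (LP (LK LD1_c9 LD2_c13 LD3_c9)) :=
  Lgr Lrot57 (Lpr_gf (f507516 IH) (Lpe (K32.f415435 IH) (Lpr_gt (f438442 IH) (Lpr_dt (K29.f438810 IH) (Lpr_gt (K29.f417083 IH) (Lpr_dt (K29.f84347 IH) (Lpr_cf (K32.f435487 IH) (Lpe (f26814 IH) (Lpe (f435369 IH) (Lpn (LP (LK LD1_c9 LD2_c13 LD3_c9))))))))))))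
theorem f507632 : Led Lsl_ff (LP (LK LD1_c4 LD2_c39 LD3_c5)) = (LP (LK LD1_c2 LD2_c57 LD3_c35)) :=
  Lgr Lrot3 (Lpr_ft (K35.f507623 IH) (Lpn (LP (LK LD1_c2 LD2_c57 LD3_c35))))
theorem f507639 : Led Lsl_dt (LP (LK LD1_c4 LD2_c39 LD3_c5)) = (LP (LK LD1_c5 LD2_c45 LD3_c58)) :=
  Lgr Lrot60 (Lpr_ff (f507632 IH) (Lpe (K0.f23857 IH) (Lpe (K35.f507079 IH) (Lpn (LP (LK LD1_c5 LD2_c45 LD3_c58))))))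
theorem f444634 : Led Lsl_ct (LP (LK LD1_c3 LD2_c2 LD3_c54)) = (LP (LK LD1_c5 LD2_c45 LD3_c58)) :=
  Lgr Lrot59 (Lpr_cf (K35.f444626 IH) (Lpn (LP (LK LD1_c5 LD2_c45 LD3_c58))))
theorem f25607 : Led Lsl_gt (LP (LK LD1_c1 LD2_c8 LD3_c31)) = (LP (LK LD1_c0 LD2_c45 LD3_c0)) :=
  Lre_g IH (LK LD1_c1 LD2_c8 LD3_c31) (LK LD1_c0 LD2_c45 LD3_c0) Lrfl Lrfl
theorem f25452 : Led Lsl_dt (LP (LK LD1_c0 LD2_c45 LD3_c0)) = (LP (LK LD1_c1 LD2_c37 LD3_c19)) :=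
  Lre_d IH (LK LD1_c0 LD2_c45 LD3_c0) (LK LD1_c1 LD2_c37 LD3_c19) Lrfl Lrfl
theorem f438444 : Led Lsl_gf (LP (LK LD1_c3 LD2_c22 LD3_c0)) = (LP (LK LD1_c1 LD2_c37 LD3_c19)) :=
  Lgr Lrot134 (Lpe (K29.f415345 IH) (Lpr_et (K32.f415349 IH) (Lpr_gt (f438442 IH) (Lpe (K29.f57166 IH) (Lpr_dt (K29.f413468 IH) (Lpr_gt (K16.f413457 IH) (Lpe (K16.f23225 IH) (Lpr_et (K24.f25525 IH) (Lpr_gt (f25607 IH) (Lpr_dt (f25452 IH) (Lpn (LP (LK LD1_c1 LD2_c37 LD3_c19)))))))))))))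
theorem f140934 : Led Lsl_dt (LP (LK LD1_c1 LD2_c5 LD3_c9)) = (LP (LK LD1_c2 LD2_c16 LD3_c35)) :=
  Lre_d IH (LK LD1_c1 LD2_c5 LD3_c9) (LK LD1_c2 LD2_c16 LD3_c35) Lrfl Lrfl
theorem f507641 : Led Lsl_gf (LP (LK LD1_c4 LD2_c39 LD3_c5)) = (LP (LK LD1_c2 LD2_c16 LD3_c35)) :=
  Lgr Lrot143 (Lpr_dt (f507639 IH) (Lpe (f444634 IH) (Lpr_df (K29.f415347 IH) (Lpr_gf (f438444 IH) (Lpe (f25452 IH) (Lpe (f25607 IH) (Lpe (K32.f140109 IH) (Lpr_gt (K24.f140933 IH) (Lpr_dt (f140934 IH) (Lpn (LP (LK LD1_c2 LD2_c16 LD3_c35))))))))))))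
theorem f631974 : Led Lsl_gf v1280 = K35.v4216 :=
  Lgr Lrot141 (Lpe (f494516 IH) (Lpr_dt (f140934 IH) (Lpe (f507641 IH) (Lpr_df (K35.f507630 IH) (Lpe (K35.f444646 IH) (Lpe (f507516 IH) (Lpr_dt (f507518 IH) (Lpr_gt (f435369 IH) (Lpe (K11.f59499 IH) (Lpr_et (K35.f631969 IH) (Lpn K35.v4216)))))))))))
theorem f645297 : v1732 = v1280 :=
  (Llr Lrot26 (Lpe (f501190 IH) (Lpr_ff (f501195 IH) (Lpr_gt (f645295 IH) (Lpe (f631974 IH) (Lpn v1280)))))).symm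
theorem f645298 : v447 = (LP (LK LD1_c1 LD2_c5 LD3_c9)) :=
  Lefun (Lecon (Lfl_ef (f501192 IH)) (f645297 IH)) (Lfl_ef (f494518 IH))
theorem f645302 : Led Lsl_at (LP (LK LD1_c0 LD2_c38 LD3_c58)) = (LP (LK LD1_c1 LD2_c5 LD3_c9)) :=
  Leop (Lpq (f645298 IH) (Lpe (f452899 IH) (Lpn (LP (LK LD1_c0 LD2_c38 LD3_c58)))))
theorem seed_303 : LEOK LG_a (LK LD1_c0 LD2_c38 LD3_c58) :=
  Leoe_a (LK LD1_c0 LD2_c38 LD3_c58) (f645302 IH)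
theorem f22990 : Led Lsl_ft (LP (LK LD1_c2 LD2_c16 LD3_c33)) = (LP (LK LD1_c4 LD2_c39 LD3_c7)) :=
  Lre_f IH (LK LD1_c2 LD2_c16 LD3_c33) (LK LD1_c4 LD2_c39 LD3_c7) Lrfl Lrfl
def v3028 : LQ := Led Lsl_gf K32.v446
theorem f536542 : Led Lsl_gf K32.v446 = v3028 :=
  Lrfl
theorem f536543 : Led Lsl_gt v447 = v3028 :=
  Lgr Lrot5 (Lpe (f452898 IH) (Lpr_at (K32.f452888 IH) (Lpr_gf (f536542 IH) (Lpn v3028))))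
theorem f645299 : v3028 = (LP (LK LD1_c0 LD2_c29 LD3_c46)) :=
  Lefun (Lecon (f536543 IH) (f645298 IH)) (K24.f174605 IH)
theorem f645310 : K32.v446 = (LP (LK LD1_c1 LD2_c5 LD3_c8)) :=
  Lefun (Lecon (Lfl_gf (f536542 IH)) (f645299 IH)) (K0.f22998 IH)
theorem f645341 : v1724 = (LP (LK LD1_c2 LD2_c16 LD3_c33)) :=
  Lefun (Lecon (f501146 IH) (f645310 IH)) (K9.f22987 IH)
theorem f645344 : v5085 = (LP (LK LD1_c4 LD2_c39 LD3_c7)) :=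
  Lefun (Lecon (f645292 IH) (f645341 IH)) (f22990 IH)
def v1725 : LQ := Led Lsl_ft (LP (LK LD1_c1 LD2_c24 LD3_c32))
theorem f501148 : Led Lsl_ft (LP (LK LD1_c1 LD2_c24 LD3_c32)) = v1725 :=
  Lrfl
theorem f501149 : Led Lsl_ff (LP (LK LD1_c1 LD2_c24 LD3_c32)) = v1725 :=
  Lgr Lrot3 (Lpr_ft (f501148 IH) (Lpn v1725))
theorem f645293 : Led Lsl_af v1725 = v5085 :=
  Lgr Lrot45 (Lpe (f501149 IH) (Lpr_at (f501142 IH) (Lpr_ft (f645292 IH) (Lpn v5085))))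
theorem f645354 : Led Lsl_gt (LP (LK LD1_c4 LD2_c38 LD3_c56)) = v1725 :=
  Lgr Lrot46 (Lpe (K35.f507731 IH) (Lpr_ft (f22990 IH) (Lpq (f645344 IH) (Lpe (f645293 IH) (Lpn v1725)))))
theorem f25562 : Led Lsl_ct (LP (LK LD1_c1 LD2_c27 LD3_c27)) = (LP (LK LD1_c2 LD2_c17 LD3_c6)) :=
  Lre_c IH (LK LD1_c1 LD2_c27 LD3_c27) (LK LD1_c2 LD2_c17 LD3_c6) Lrfl Lrfl
theorem f25581 : Led Lsl_dt (LP (LK LD1_c4 LD2_c39 LD3_c54)) = (LP (LK LD1_c2 LD2_c17 LD3_c6)) :=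
  Lre_d IH (LK LD1_c4 LD2_c39 LD3_c54) (LK LD1_c2 LD2_c17 LD3_c6) Lrfl Lrfl
theorem f25582 : Led Lsl_gt (LP (LK LD1_c3 LD2_c0 LD3_c25)) = (LP (LK LD1_c4 LD2_c39 LD3_c54)) :=
  Lre_g IH (LK LD1_c3 LD2_c0 LD3_c25) (LK LD1_c4 LD2_c39 LD3_c54) Lrfl Lrfl
theorem f645356 : Led Lsl_df (LP (LK LD1_c3 LD2_c0 LD3_c25)) = v1725 :=
  Lgr Lrot153 (Lpr_gt (f25582 IH) (Lpr_dt (f25581 IH) (Lpe (f25562 IH) (Lpe (K29.f25533 IH) (Lpe (K32.f25577 IH) (Lpr_df (K35.f633531 IH) (Lpe (K35.f633528 IH) (Lpe (K35.f27070 IH) (Lpr_gt (f645354 IH) (Lpn v1725))))))))))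
theorem f645360 : Led Lsl_dt (LP (LK LD1_c3 LD2_c0 LD3_c25)) = v1725 :=
  Lgr Lrot42 (Lpr_df (f645356 IH) (Lpn v1725))
theorem f140970 : Led Lsl_gt (LP (LK LD1_c1 LD2_c25 LD3_c58)) = (LP (LK LD1_c3 LD2_c0 LD3_c25)) :=
  Lre_g IH (LK LD1_c1 LD2_c25 LD3_c58) (LK LD1_c3 LD2_c0 LD3_c25) Lrfl Lrfl
theorem f421019 : Led Lsl_et (LP (LK LD1_c0 LD2_c39 LD3_c41)) = (LP (LK LD1_c1 LD2_c25 LD3_c58)) :=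
  Lre_e IH (LK LD1_c0 LD2_c39 LD3_c41) (LK LD1_c1 LD2_c25 LD3_c58) Lrfl Lrfl
theorem f183457 : Led Lsl_et (LP (LK LD1_c1 LD2_c25 LD3_c48)) = (LP (LK LD1_c3 LD2_c0 LD3_c3)) :=
  Lre_e IH (LK LD1_c1 LD2_c25 LD3_c48) (LK LD1_c3 LD2_c0 LD3_c3) Lrfl Lrfl
theorem f183453 : Led Lsl_gt (LP (LK LD1_c6 LD2_c7 LD3_c47)) = (LP (LK LD1_c3 LD2_c0 LD3_c3)) :=
  Lre_g IH (LK LD1_c6 LD2_c7 LD3_c47) (LK LD1_c3 LD2_c0 LD3_c3) Lrfl Lrfl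
theorem f506988 : Led Lsl_ff (LP (LK LD1_c2 LD2_c57 LD3_c39)) = (LP (LK LD1_c4 LD2_c38 LD3_c56)) :=
  Lgr Lrot19 (Lpr_dt (K35.f23869 IH) (Lpr_ft (K35.f506986 IH) (Lpr_dt (K35.f27069 IH) (Lpn (LP (LK LD1_c4 LD2_c38 LD3_c56))))))
theorem f507735 : Led Lsl_af (LP (LK LD1_c4 LD2_c39 LD3_c6)) = (LP (LK LD1_c2 LD2_c57 LD3_c39)) :=
  Lgr Lrot45 (Lpr_ft (K35.f507733 IH) (Lpr_at (K35.f506984 IH) (Lpe (f506988 IH) (Lpn (LP (LK LD1_c2 LD2_c57 LD3_c39))))))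
theorem f645355 : Led Lsl_gf (LP (LK LD1_c4 LD2_c39 LD3_c6)) = v1725 :=
  Lgr Lrot76 (Lpr_af (f507735 IH) (Lpr_ff (f506988 IH) (Lpr_gt (f645354 IH) (Lpn v1725))))
theorem f22992 : Led Lsl_dt (LP (LK LD1_c9 LD2_c13 LD3_c61)) = (LP (LK LD1_c4 LD2_c39 LD3_c6)) :=
  Lre_d IH (LK LD1_c9 LD2_c13 LD3_c61) (LK LD1_c4 LD2_c39 LD3_c6) Lrfl Lrfl
theorem f645380 : Led Lsl_ef (LP (LK LD1_c6 LD2_c7 LD3_c47)) = (LP (LK LD1_c9 LD2_c13 LD3_c61)) :=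
  Lgr Lrot114 (Lpr_gt (f183453 IH) (Lpe (f183457 IH) (Lpr_dt (K11.f9043 IH) (Lpr_gt (K9.f9042 IH) (Lpe (K9.f9028 IH) (Lpr_et (f421019 IH) (Lpr_gt (f140970 IH) (Lpr_dt (f645360 IH) (Lpe (f645355 IH) (Lpe (f22992 IH) (Lpn (LP (LK LD1_c9 LD2_c13 LD3_c61)))))))))))))
theorem f645381 : Led Lsl_et (LP (LK LD1_c9 LD2_c13 LD3_c61)) = (LP (LK LD1_c6 LD2_c7 LD3_c47)) :=
  Leop (Lpr_ef (f645380 IH) (Lpn (LP (LK LD1_c9 LD2_c13 LD3_c61))))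
theorem seed_304 : LEOK LG_e (LK LD1_c9 LD2_c13 LD3_c61) :=
  Leoe_e (LK LD1_c9 LD2_c13 LD3_c61) (f645381 IH)
theorem f645281 : Led Lsl_at v1725 = v5085 :=
  Lgr Lrot26 (Lpe (f501148 IH) (Lpr_gt (K32.f501141 IH) (Lpqs (K32.f505195 IH) (Lpr_gt (f645280 IH) (Lpn v5085)))))
theorem f645378 : Led Lsl_af (LP (LK LD1_c3 LD2_c0 LD3_c25)) = (LP (LK LD1_c4 LD2_c39 LD3_c53)) :=
  Lgr Lrot117 (Lpr_dt (f645360 IH) (Lpr_at (f645281 IH) (Lpe (f645283 IH) (Lpn (LP (LK LD1_c4 LD2_c39 LD3_c53))))))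
theorem f636311 : Led Lsl_et (LP (LK LD1_c3 LD2_c0 LD3_c25)) = (LP (LK LD1_c6 LD2_c8 LD3_c27)) :=
  Lre_e IH (LK LD1_c3 LD2_c0 LD3_c25) (LK LD1_c6 LD2_c8 LD3_c27) Lrfl Lrfl
theorem f68903 : Led Lsl_et (LP (LK LD1_c9 LD2_c15 LD3_c18)) = (LP (LK LD1_c4 LD2_c39 LD3_c53)) :=
  Lre_e IH (LK LD1_c9 LD2_c15 LD3_c18) (LK LD1_c4 LD2_c39 LD3_c53) Lrfl Lrfl
theorem f645389 : Led Lsl_at (LP (LK LD1_c6 LD2_c8 LD3_c27)) = (LP (LK LD1_c9 LD2_c15 LD3_c18)) :=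
  Lgr Lrot80 (Lpe (f636311 IH) (Lpr_af (f645378 IH) (Lpe (f68903 IH) (Lpn (LP (LK LD1_c9 LD2_c15 LD3_c18))))))
def v4594 : LQ := Led Lsl_gf (LP (LK LD1_c2 LD2_c33 LD3_c49))
theorem f636307 : Led Lsl_gf (LP (LK LD1_c2 LD2_c33 LD3_c49)) = v4594 :=
  Lrfl
theorem f185112 : Led Lsl_dt (LP (LK LD1_c5 LD2_c13 LD3_c50)) = (LP (LK LD1_c2 LD2_c33 LD3_c49)) :=
  Lre_d IH (LK LD1_c5 LD2_c13 LD3_c50) (LK LD1_c2 LD2_c33 LD3_c49) Lrfl Lrfl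
theorem f185111 : Led Lsl_et (LP (LK LD1_c5 LD2_c13 LD3_c50)) = (LP (LK LD1_c2 LD2_c33 LD3_c50)) :=
  Lre_e IH (LK LD1_c5 LD2_c13 LD3_c50) (LK LD1_c2 LD2_c33 LD3_c50) Lrfl Lrfl
theorem f68907 : Led Lsl_et (LP (LK LD1_c6 LD2_c8 LD3_c27)) = (LP (LK LD1_c3 LD2_c0 LD3_c25)) :=
  Lre_e IH (LK LD1_c6 LD2_c8 LD3_c27) (LK LD1_c3 LD2_c0 LD3_c25) Lrfl Lrfl
theorem f636309 : Led Lsl_dt (LP (LK LD1_c6 LD2_c8 LD3_c27)) = v4594 :=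
  Lgr Lrot136 (Lpr_et (f68907 IH) (Lpe (f140970 IH) (Lpe (f421019 IH) (Lpr_dt (K9.f9028 IH) (Lpe (K9.f9042 IH) (Lpe (K11.f9043 IH) (Lpe (K11.f198567 IH) (Lpe (f185111 IH) (Lpr_dt (f185112 IH) (Lpr_gf (f636307 IH) (Lpn v4594)))))))))))
theorem f636310 : Led Lsl_df (LP (LK LD1_c6 LD2_c8 LD3_c27)) = v4594 :=
  Lgr Lrot38 (Lpr_dt (f636309 IH) (Lpn v4594))
theorem f23897 : Led Lsl_et (LP (LK LD1_c1 LD2_c5 LD3_c24)) = (LP (LK LD1_c2 LD2_c16 LD3_c59)) :=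
  Lre_e IH (LK LD1_c1 LD2_c5 LD3_c24) (LK LD1_c2 LD2_c16 LD3_c59) Lrfl Lrfl
theorem f166268 : Led Lsl_dt (LP (LK LD1_c5 LD2_c7 LD3_c0)) = (LP (LK LD1_c2 LD2_c30 LD3_c50)) :=
  Lre_d IH (LK LD1_c5 LD2_c7 LD3_c0) (LK LD1_c2 LD2_c30 LD3_c50) Lrfl Lrfl
theorem f166168 : Led Lsl_gt (LP (LK LD1_c5 LD2_c6 LD3_c61)) = (LP (LK LD1_c2 LD2_c30 LD3_c50)) :=
  Lre_g IH (LK LD1_c5 LD2_c6 LD3_c61) (LK LD1_c2 LD2_c30 LD3_c50) Lrfl Lrfl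
theorem f193900 : Led Lsl_dt (LP (LK LD1_c9 LD2_c15 LD3_c18)) = (LP (LK LD1_c5 LD2_c6 LD3_c61)) :=
  Lgr Lrot136 (Lpr_et (f68903 IH) (Lpe (f22478 IH) (Lpe (f23897 IH) (Lpr_dt (K9.f8393 IH) (Lpr_gf (K9.f182468 IH) (Lpe (K22.f179884 IH) (Lpr_gf (K22.f193797 IH) (Lpe (K40.f168211 IH) (Lpr_dt (f166268 IH) (Lpe (f166168 IH) (Lpn (LP (LK LD1_c5 LD2_c6 LD3_c61)))))))))))))
theorem f645405 : Led Lsl_af v4594 = (LP (LK LD1_c5 LD2_c6 LD3_c61)) :=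
  Lgr Lrot117 (Lpe (f636310 IH) (Lpr_at (f645389 IH) (Lpr_dt (f193900 IH) (Lpn (LP (LK LD1_c5 LD2_c6 LD3_c61))))))
theorem f186558 : Led Lsl_et (LP (LK LD1_c2 LD2_c33 LD3_c49)) = (LP (LK LD1_c1 LD2_c13 LD3_c53)) :=
  Lre_e IH (LK LD1_c2 LD2_c33 LD3_c49) (LK LD1_c1 LD2_c13 LD3_c53) Lrfl Lrfl
theorem f166167 : Led Lsl_et (LP (LK LD1_c1 LD2_c12 LD3_c25)) = (LP (LK LD1_c2 LD2_c30 LD3_c50)) :=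
  Lre_e IH (LK LD1_c1 LD2_c12 LD3_c25) (LK LD1_c2 LD2_c30 LD3_c50) Lrfl Lrfl
theorem f308101 : Led Lsl_af (LP (LK LD1_c2 LD2_c33 LD3_c49)) = (LP (LK LD1_c2 LD2_c30 LD3_c50)) :=
  Lgr Lrot50 (Lpr_et (f186558 IH) (Lpr_at (K19.f308097 IH) (Lpr_et (f166167 IH) (Lpn (LP (LK LD1_c2 LD2_c30 LD3_c50))))))
theorem f636308 : Led Lsl_gt (LP (LK LD1_c5 LD2_c7 LD3_c1)) = v4594 :=
  Lgr Lrot5 (Lpr_ft (K40.f166280 IH) (Lpe (f308101 IH) (Lpr_gf (f636307 IH) (Lpn v4594))))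
theorem f405196 : Led Lsl_at (LP (LK LD1_c5 LD2_c13 LD3_c51)) = (LP (LK LD1_c5 LD2_c7 LD3_c1)) :=
  Lgr Lrot100 (Lpr_af (K40.f308111 IH) (Lpn (LP (LK LD1_c5 LD2_c7 LD3_c1))))
theorem f185113 : Led Lsl_gt (LP (LK LD1_c2 LD2_c33 LD3_c49)) = (LP (LK LD1_c5 LD2_c13 LD3_c49)) :=
  Lre_g IH (LK LD1_c2 LD2_c33 LD3_c49) (LK LD1_c5 LD2_c13 LD3_c49) Lrfl Lrfl
theorem f405230 : Led Lsl_gt (LP (LK LD1_c5 LD2_c13 LD3_c49)) = (LP (LK LD1_c5 LD2_c7 LD3_c1)) :=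
  Lgr Lrot46 (Lpe (f185113 IH) (Lpr_ft (K19.f186559 IH) (Lpr_at (f405196 IH) (Lpn (LP (LK LD1_c5 LD2_c7 LD3_c1))))))
theorem f645407 : Led Lsl_ft (LP (LK LD1_c5 LD2_c13 LD3_c49)) = (LP (LK LD1_c5 LD2_c6 LD3_c61)) :=
  Lgr Lrot2 (Lpr_gt (f405230 IH) (Lpr_gt (f636308 IH) (Lpr_af (f645405 IH) (Lpn (LP (LK LD1_c5 LD2_c6 LD3_c61))))))
theorem f645408 : Led Lsl_ft (LP (LK LD1_c5 LD2_c13 LD3_c49)) = (LP (LK LD1_c5 LD2_c6 LD3_c61)) :=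
  Leop (Lpe (f645407 IH) (Lpn (LP (LK LD1_c5 LD2_c13 LD3_c49))))
theorem seed_305 : LEOK LG_f (LK LD1_c5 LD2_c13 LD3_c49) :=
  Leoe_f (LK LD1_c5 LD2_c13 LD3_c49) (f645408 IH)
theorem f140097 : Led Lsl_cf (LP (LK LD1_c2 LD2_c16 LD3_c33)) = (LP (LK LD1_c3 LD2_c24 LD3_c16)) :=
  Lgr Lrot11 (Lpr_ct (K9.f140093 IH) (Lpn (LP (LK LD1_c3 LD2_c24 LD3_c16))))
theorem f645351 : Led Lsl_ff (LP (LK LD1_c3 LD2_c24 LD3_c16)) = K32.v1883 :=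
  Lgr Lrot23 (Lpe (f140097 IH) (Lpr_ft (f22990 IH) (Lpq (f645344 IH) (Lpe (f645284 IH) (Lpn K32.v1883)))))
theorem f645427 : Led Lsl_ft (LP (LK LD1_c3 LD2_c6 LD3_c45)) = (LP (LK LD1_c3 LD2_c11 LD3_c46)) :=
  Lgr Lrot54 (Lpr_df (K9.f61772 IH) (Lpr_ff (f645351 IH) (Lpe (f504798 IH) (Lpn (LP (LK LD1_c3 LD2_c11 LD3_c46))))))
theorem f645428 : Led Lsl_ft (LP (LK LD1_c3 LD2_c6 LD3_c45)) = (LP (LK LD1_c3 LD2_c11 LD3_c46)) :=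
  Leop (Lpe (f645427 IH) (Lpn (LP (LK LD1_c3 LD2_c6 LD3_c45))))
theorem seed_306 : LEOK LG_f (LK LD1_c3 LD2_c6 LD3_c45) :=
  Leoe_f (LK LD1_c3 LD2_c6 LD3_c45) (f645428 IH)
def v5104 : LQ := Led Lsl_bt (LP (LK LD1_c2 LD2_c57 LD3_c41))
theorem f645947 : Led Lsl_bt (LP (LK LD1_c2 LD2_c57 LD3_c41)) = v5104 :=
  Lrfl
theorem f645948 : Led Lsl_bf (LP (LK LD1_c2 LD2_c57 LD3_c41)) = v5104 :=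
  Lgr Lrot24 (Lpr_bt (f645947 IH) (Lpn v5104))
theorem f415849 : Led Lsl_gt (LP (LK LD1_c2 LD2_c57 LD3_c41)) = (LP (LK LD1_c1 LD2_c24 LD3_c33)) :=
  Lre_g IH (LK LD1_c2 LD2_c57 LD3_c41) (LK LD1_c1 LD2_c24 LD3_c33) Lrfl Lrfl
theorem f415848 : Led Lsl_bt (LP (LK LD1_c0 LD2_c38 LD3_c58)) = (LP (LK LD1_c1 LD2_c24 LD3_c33)) :=
  Lre_b IH (LK LD1_c0 LD2_c38 LD3_c58) (LK LD1_c1 LD2_c24 LD3_c33) Lrfl Lrfl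
theorem f415850 : Led Lsl_ct (LP (LK LD1_c2 LD2_c27 LD3_c44)) = (LP (LK LD1_c4 LD2_c59 LD3_c55)) :=
  Lre_c IH (LK LD1_c2 LD2_c27 LD3_c44) (LK LD1_c4 LD2_c59 LD3_c55) Lrfl Lrfl
theorem f415851 : Led Lsl_gt (LP (LK LD1_c4 LD2_c59 LD3_c55)) = (LP (LK LD1_c9 LD2_c50 LD3_c18)) :=
  Lre_g IH (LK LD1_c4 LD2_c59 LD3_c55) (LK LD1_c9 LD2_c50 LD3_c18) Lrfl Lrfl
theorem f645950 : Led Lsl_cf (LP (LK LD1_c9 LD2_c50 LD3_c18)) = v5104 :=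
  Lgr Lrot163 (Lpe (f415851 IH) (Lpe (f415850 IH) (Lpe (K31.f77408 IH) (Lpe (K31.f40952 IH) (Lpr_ct (K2.f58908 IH) (Lpe (K31.f415839 IH) (Lpe (K31.f415838 IH) (Lpr_bt (f415848 IH) (Lpe (f415849 IH) (Lpr_bf (f645948 IH) (Lpn v5104)))))))))))
theorem f645951 : Led Lsl_bt (LP (LK LD1_c9 LD2_c50 LD3_c18)) = (LP (LK LD1_c18 LD2_c1 LD3_c21)) :=
  Lre_b IH (LK LD1_c9 LD2_c50 LD3_c18) (LK LD1_c18 LD2_c1 LD3_c21) Lrfl Lrfl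
theorem f645608 : Led Lsl_ct (LP (LK LD1_c6 LD2_c3 LD3_c8)) = (LP (LK LD1_c2 LD2_c57 LD3_c41)) :=
  Lre_c IH (LK LD1_c6 LD2_c3 LD3_c8) (LK LD1_c2 LD2_c57 LD3_c41) Lrfl Lrfl
theorem f645949 : Led Lsl_bt (LP (LK LD1_c11 LD2_c50 LD3_c1)) = (LP (LK LD1_c6 LD2_c3 LD3_c8)) :=
  Lre_b IH (LK LD1_c11 LD2_c50 LD3_c1) (LK LD1_c6 LD2_c3 LD3_c8) Lrfl Lrfl
theorem f645952 : Led Lsl_ct (LP (LK LD1_c18 LD2_c1 LD3_c21)) = (LP (LK LD1_c11 LD2_c50 LD3_c1)) :=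
  Lgr Lrot83 (Lpe (f645951 IH) (Lpr_cf (f645950 IH) (Lpe (f645947 IH) (Lpe (f645608 IH) (Lpe (f645949 IH) (Lpn (LP (LK LD1_c11 LD2_c50 LD3_c1))))))))
theorem f645953 : Led Lsl_ct (LP (LK LD1_c18 LD2_c1 LD3_c21)) = (LP (LK LD1_c11 LD2_c50 LD3_c1)) :=
  Leop (Lpe (f645952 IH) (Lpn (LP (LK LD1_c18 LD2_c1 LD3_c21))))
theorem seed_307 : LEOK LG_c (LK LD1_c18 LD2_c1 LD3_c21) :=
  Leoe_c (LK LD1_c18 LD2_c1 LD3_c21) (f645953 IH)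
def v5115 : LQ := Led Lsl_dt (LP (LK LD1_c2 LD2_c57 LD3_c47))
theorem f646003 : Led Lsl_dt (LP (LK LD1_c2 LD2_c57 LD3_c47)) = v5115 :=
  Lrfl
theorem f645481 : Led Lsl_et (LP (LK LD1_c2 LD2_c57 LD3_c47)) = (LP (LK LD1_c6 LD2_c3 LD3_c22)) :=
  Lre_e IH (LK LD1_c2 LD2_c57 LD3_c47) (LK LD1_c6 LD2_c3 LD3_c22) Lrfl Lrfl
theorem f23245 : Led Lsl_dt (LP (LK LD1_c1 LD2_c3 LD3_c53)) = (LP (LK LD1_c0 LD2_c29 LD3_c46)) :=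
  Lre_d IH (LK LD1_c1 LD2_c3 LD3_c53) (LK LD1_c0 LD2_c29 LD3_c46) Lrfl Lrfl
theorem f501076 : Led Lsl_gf (LP (LK LD1_c4 LD2_c33 LD3_c50)) = (LP (LK LD1_c6 LD2_c3 LD3_c3)) :=
  Lgr Lrot144 (Lpr_dt (K32.f22932 IH) (Lpr_gt (K32.f23121 IH) (Lpr_dt (f23245 IH) (Lpe (K32.f23248 IH) (Lpe (K32.f23243 IH) (Lpe (K0.f23242 IH) (Lpe (K0.f23222 IH) (Lpe (K32.f23241 IH) (Lpr_cf (K32.f501060 IH) (Lpn (LP (LK LD1_c6 LD2_c3 LD3_c3))))))))))))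
theorem f415858 : Led Lsl_ct (LP (LK LD1_c1 LD2_c24 LD3_c31)) = (LP (LK LD1_c2 LD2_c57 LD3_c37)) :=
  Lre_c IH (LK LD1_c1 LD2_c24 LD3_c31) (LK LD1_c2 LD2_c57 LD3_c37) Lrfl Lrfl
theorem f454888 : Led Lsl_gt (LP (LK LD1_c2 LD2_c57 LD3_c37)) = (LP (LK LD1_c6 LD2_c3 LD3_c4)) :=
  Lre_g IH (LK LD1_c2 LD2_c57 LD3_c37) (LK LD1_c6 LD2_c3 LD3_c4) Lrfl Lrfl
theorem f501099 : Led Lsl_cf (LP (LK LD1_c5 LD2_c0 LD3_c13)) = (LP (LK LD1_c6 LD2_c3 LD3_c4)) :=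
  Lgr Lrot99 (Lpr_df (K24.f140728 IH) (Lpe (K32.f83704 IH) (Lpe (K32.f83702 IH) (Lpe (K32.f139978 IH) (Lpr_gf (f501076 IH) (Lpe (K32.f501057 IH) (Lpr_gt (K32.f501027 IH) (Lpr_ct (f415858 IH) (Lpr_gt (f454888 IH) (Lpn (LP (LK LD1_c6 LD2_c3 LD3_c4))))))))))))
theorem f501102 : Led Lsl_ct (LP (LK LD1_c5 LD2_c0 LD3_c13)) = (LP (LK LD1_c6 LD2_c3 LD3_c4)) :=
  Lgr Lrot59 (Lpr_cf (f501099 IH) (Lpn (LP (LK LD1_c6 LD2_c3 LD3_c4))))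
theorem f73217 : Led Lsl_dt (LP (LK LD1_c2 LD2_c27 LD3_c51)) = (LP (LK LD1_c1 LD2_c11 LD3_c2)) :=
  Lre_d IH (LK LD1_c2 LD2_c27 LD3_c51) (LK LD1_c1 LD2_c11 LD3_c2) Lrfl Lrfl
theorem f414079 : Led Lsl_et (LP (LK LD1_c1 LD2_c36 LD3_c57)) = (LP (LK LD1_c1 LD2_c56 LD3_c37)) :=
  Lgr Lrot123 (Lpr_af (K17.f414052 IH) (Lpr_ef (K16.f413674 IH) (Lpe (K24.f77380 IH) (Lpn (LP (LK LD1_c1 LD2_c56 LD3_c37))))))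
theorem f415150 : Led Lsl_gt (LP (LK LD1_c1 LD2_c11 LD3_c2)) = (LP (LK LD1_c1 LD2_c56 LD3_c37)) :=
  Lgr Lrot131 (Lpe (K32.f73210 IH) (Lpe (K32.f73211 IH) (Lpr_gf (K32.f55704 IH) (Lpr_df (K32.f79673 IH) (Lpr_gf (K16.f79881 IH) (Lpe (K16.f413629 IH) (Lpr_dt (K16.f413625 IH) (Lpe (K16.f413614 IH) (Lpe (K16.f413608 IH) (Lpr_et (f414079 IH) (Lpn (LP (LK LD1_c1 LD2_c56 LD3_c37)))))))))))))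
theorem f415896 : Led Lsl_ct (LP (LK LD1_c2 LD2_c57 LD3_c47)) = (LP (LK LD1_c1 LD2_c24 LD3_c35)) :=
  Lre_c IH (LK LD1_c2 LD2_c57 LD3_c47) (LK LD1_c1 LD2_c24 LD3_c35) Lrfl Lrfl
theorem f501105 : Led Lsl_gf (LP (LK LD1_c2 LD2_c57 LD3_c47)) = (LP (LK LD1_c6 LD2_c3 LD3_c4)) :=
  Lgr Lrot104 (Lpr_ct (f415896 IH) (Lpe (K32.f415895 IH) (Lpe (K31.f415843 IH) (Lpr_gf (K31.f415841 IH) (Lpe (K9.f40489 IH) (Lpe (f415150 IH) (Lpe (f73217 IH) (Lpr_gt (K24.f77407 IH) (Lpr_ct (f501102 IH) (Lpn (LP (LK LD1_c6 LD2_c3 LD3_c4))))))))))))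
theorem f24696 : Led Lsl_et (LP (LK LD1_c1 LD2_c36 LD3_c7)) = (LP (LK LD1_c3 LD2_c19 LD3_c28)) :=
  Lre_e IH (LK LD1_c1 LD2_c36 LD3_c7) (LK LD1_c3 LD2_c19 LD3_c28) Lrfl Lrfl
theorem f25437 : Led Lsl_dt (LP (LK LD1_c1 LD2_c37 LD3_c19)) = (LP (LK LD1_c0 LD2_c45 LD3_c0)) :=
  Lre_d IH (LK LD1_c1 LD2_c37 LD3_c19) (LK LD1_c0 LD2_c45 LD3_c0) Lrfl Lrfl
theorem f25438 : Led Lsl_gt (LP (LK LD1_c3 LD2_c19 LD3_c28)) = (LP (LK LD1_c1 LD2_c37 LD3_c19)) :=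
  Lgr Lrot137 (Lpe (f24696 IH) (Lpr_dt (K32.f24640 IH) (Lpe (K9.f24620 IH) (Lpe (K5.f24611 IH) (Lpr_et (K5.f24679 IH) (Lpr_gf (K2.f25411 IH) (Lpe (K32.f25435 IH) (Lpr_dt (K32.f23243 IH) (Lpe (K32.f25436 IH) (Lpe (f25437 IH) (Lpn (LP (LK LD1_c1 LD2_c37 LD3_c19)))))))))))))
theorem f140864 : Led Lsl_ct (LP (LK LD1_c0 LD2_c45 LD3_c0)) = (LP (LK LD1_c1 LD2_c11 LD3_c3)) :=
  Lgr Lrot59 (Lpr_cf (K32.f140862 IH) (Lpn (LP (LK LD1_c1 LD2_c11 LD3_c3))))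
theorem f40963 : Led Lsl_dt (LP (LK LD1_c2 LD2_c27 LD3_c54)) = (LP (LK LD1_c1 LD2_c11 LD3_c3)) :=
  Lre_d IH (LK LD1_c2 LD2_c27 LD3_c54) (LK LD1_c1 LD2_c11 LD3_c3) Lrfl Lrfl
theorem f454869 : Led Lsl_gf (LP (LK LD1_c2 LD2_c27 LD3_c54)) = (LP (LK LD1_c5 LD2_c0 LD3_c13)) :=
  Lgr Lrot143 (Lpr_dt (f40963 IH) (Lpe (f140864 IH) (Lpe (f25437 IH) (Lpe (f25438 IH) (Lpr_df (K32.f144068 IH) (Lpr_gf (K32.f438816 IH) (Lpe (K32.f413502 IH) (Lpr_gt (K32.f454866 IH) (Lpe (K24.f140728 IH) (Lpn (LP (LK LD1_c5 LD2_c0 LD3_c13))))))))))))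
theorem f646006 : Led Lsl_gf (LP (LK LD1_c4 LD2_c57 LD3_c50)) = v5115 :=
  Lgr Lrot143 (Lpr_dt (K2.f40504 IH) (Lpe (K2.f40976 IH) (Lpe (K2.f40940 IH) (Lpe (K32.f40955 IH) (Lpe (f40963 IH) (Lpr_gf (f454869 IH) (Lpr_cf (f501099 IH) (Lpe (f501105 IH) (Lpr_dt (f646003 IH) (Lpn v5115))))))))))
theorem f646007 : Led Lsl_gf (LP (LK LD1_c6 LD2_c3 LD3_c22)) = (LP (LK LD1_c5 LD2_c29 LD3_c0)) :=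
  Lgr Lrot141 (Lpe (f645481 IH) (Lpr_dt (f646003 IH) (Lpe (f646006 IH) (Lpe (K2.f40970 IH) (Lpr_et (K1.f40972 IH) (Lpr_gt (K9.f175085 IH) (Lpr_dt (K12.f168181 IH) (Lpe (K12.f225246 IH) (Lpe (K12.f172406 IH) (Lpr_et (K17.f225260 IH) (Lpn (LP (LK LD1_c5 LD2_c29 LD3_c0)))))))))))))
theorem f646008 : Led Lsl_gt (LP (LK LD1_c5 LD2_c29 LD3_c0)) = (LP (LK LD1_c6 LD2_c3 LD3_c22)) :=
  Leop (Lpr_gf (f646007 IH) (Lpn (LP (LK LD1_c5 LD2_c29 LD3_c0))))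
theorem seed_308 : LEOK LG_g (LK LD1_c5 LD2_c29 LD3_c0) :=
  Leoe_g (LK LD1_c5 LD2_c29 LD3_c0) (f646008 IH)
def v5135 : LQ := Led Lsl_ft (LP (LK LD1_c2 LD2_c59 LD3_c24))
theorem f646158 : Led Lsl_ft (LP (LK LD1_c2 LD2_c59 LD3_c24)) = v5135 :=
  Lrfl
theorem f646162 : Led Lsl_ff (LP (LK LD1_c2 LD2_c59 LD3_c24)) = v5135 :=
  Lgr Lrot3 (Lpr_ft (f646158 IH) (Lpn v5135))
theorem f334413 : Led Lsl_af (LP (LK LD1_c2 LD2_c39 LD3_c55)) = (LP (LK LD1_c2 LD2_c59 LD3_c24)) :=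
  Lgr Lrot50 (Lpr_et (K20.f179195 IH) (Lpr_at (K22.f334405 IH) (Lpr_et (K45.f198812 IH) (Lpn (LP (LK LD1_c2 LD2_c59 LD3_c24))))))
theorem f646166 : Led Lsl_gf (LP (LK LD1_c5 LD2_c26 LD3_c41)) = v5135 :=
  Lgr Lrot47 (Lpr_gt (K20.f245932 IH) (Lpr_af (f334413 IH) (Lpr_ff (f646162 IH) (Lpn v5135))))
theorem f245934 : Led Lsl_ct (LP (LK LD1_c5 LD2_c26 LD3_c41)) = (LP (LK LD1_c2 LD2_c39 LD3_c44)) :=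
  Lre_c IH (LK LD1_c5 LD2_c26 LD3_c41) (LK LD1_c2 LD2_c39 LD3_c44) Lrfl Lrfl
theorem f322401 : Led Lsl_ct (LP (LK LD1_c8 LD2_c23 LD3_c53)) = (LP (LK LD1_c4 LD2_c12 LD3_c6)) :=
  Lre_c IH (LK LD1_c8 LD2_c23 LD3_c53) (LK LD1_c4 LD2_c12 LD3_c6) Lrfl Lrfl
theorem f237980 : Led Lsl_ft (LP (LK LD1_c1 LD2_c59 LD3_c56)) = (LP (LK LD1_c4 LD2_c5 LD3_c31)) :=
  Lre_f IH (LK LD1_c1 LD2_c59 LD3_c56) (LK LD1_c4 LD2_c5 LD3_c31) Lrfl Lrfl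
theorem f646164 : Led Lsl_ct (LP (LK LD1_c4 LD2_c5 LD3_c31)) = v5135 :=
  Lgr Lrot40 (Lpe (f237980 IH) (Lpr_cf (K45.f198849 IH) (Lpr_ff (f646162 IH) (Lpn v5135))))
theorem f364742 : Led Lsl_af (LP (LK LD1_c15 LD2_c18 LD3_c55)) = (LP (LK LD1_c11 LD2_c9 LD3_c19)) :=
  Lgr Lrot0 (Lpr_at (K26.f364740 IH) (Lpn (LP (LK LD1_c11 LD2_c9 LD3_c19))))
theorem f364738 : Led Lsl_ft (LP (LK LD1_c15 LD2_c18 LD3_c55)) = (LP (LK LD1_c15 LD2_c29 LD3_c47)) :=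
  Lgr Lrot48 (Lpr_ff (K26.f364730 IH) (Lpn (LP (LK LD1_c15 LD2_c29 LD3_c47))))
theorem f366841 : Led Lsl_at (LP (LK LD1_c15 LD2_c29 LD3_c47)) = (LP (LK LD1_c11 LD2_c56 LD3_c49)) :=
  Lgr Lrot66 (Lpe (f364738 IH) (Lpr_af (f364742 IH) (Lpr_ff (K27.f366839 IH) (Lpn (LP (LK LD1_c11 LD2_c56 LD3_c49))))))
theorem f349953 : Led Lsl_af (LP (LK LD1_c4 LD2_c15 LD3_c30)) = (LP (LK LD1_c2 LD2_c5 LD3_c30)) :=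
  Lgr Lrot68 (Lpr_ct (K24.f49065 IH) (Lpr_at (K24.f349949 IH) (Lpr_ct (K24.f616 IH) (Lpn (LP (LK LD1_c2 LD2_c5 LD3_c30))))))
theorem f360895 : Led Lsl_gt (LP (LK LD1_c4 LD2_c11 LD3_c41)) = (LP (LK LD1_c4 LD2_c15 LD3_c30)) :=
  Lgr Lrot46 (Lpr_gf (K26.f360893 IH) (Lpr_ft (K16.f271423 IH) (Lpe (f349953 IH) (Lpn (LP (LK LD1_c4 LD2_c15 LD3_c30))))))
theorem f359030 : Led Lsl_ct (LP (LK LD1_c15 LD2_c57 LD3_c24)) = (LP (LK LD1_c16 LD2_c1 LD3_c33)) :=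
  Lgr Lrot7 (Lpe (K26.f347645 IH) (Lpe (K26.f339567 IH) (Lpe (K23.f250908 IH) (Lpe (K23.f234690 IH) (Lpr_cf (K23.f349775 IH) (Lpr_gt (K23.f193237 IH) (Lpr_dt (K14.f193227 IH) (Lpr_gt (K26.f180805 IH) (Lpr_dt (K26.f359022 IH) (Lpn (LP (LK LD1_c16 LD2_c1 LD3_c33))))))))))))
theorem f252835 : Led Lsl_gt (LP (LK LD1_c8 LD2_c17 LD3_c49)) = (LP (LK LD1_c15 LD2_c36 LD3_c10)) :=
  Lre_g IH (LK LD1_c8 LD2_c17 LD3_c49) (LK LD1_c15 LD2_c36 LD3_c10) Lrfl Lrfl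
theorem f360921 : Led Lsl_cf (LP (LK LD1_c15 LD2_c11 LD3_c38)) = (LP (LK LD1_c15 LD2_c36 LD3_c10)) :=
  Lgr Lrot99 (Lpr_df (K26.f358997 IH) (Lpe (f359030 IH) (Lpe (K26.f222140 IH) (Lpe (K24.f49065 IH) (Lpe (f360895 IH) (Lpe (K26.f333685 IH) (Lpr_gt (K26.f360915 IH) (Lpr_ct (K23.f229027 IH) (Lpr_gt (f252835 IH) (Lpn (LP (LK LD1_c15 LD2_c36 LD3_c10))))))))))))
theorem f360936 : Led Lsl_et (LP (LK LD1_c25 LD2_c30 LD3_c52)) = (LP (LK LD1_c15 LD2_c36 LD3_c10)) :=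
  Lre_e IH (LK LD1_c25 LD2_c30 LD3_c52) (LK LD1_c15 LD2_c36 LD3_c10) Lrfl Lrfl
theorem f360937 : Led Lsl_ct (LP (LK LD1_c25 LD2_c0 LD3_c46)) = (LP (LK LD1_c25 LD2_c30 LD3_c52)) :=
  Lgr Lrot15 (Lpe (K26.f358799 IH) (Lpr_cf (f360921 IH) (Lpe (f360936 IH) (Lpn (LP (LK LD1_c25 LD2_c30 LD3_c52))))))
theorem f307006 : Led Lsl_ct (LP (LK LD1_c10 LD2_c14 LD3_c39)) = (LP (LK LD1_c18 LD2_c38 LD3_c34)) :=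
  Lre_c IH (LK LD1_c10 LD2_c14 LD3_c39) (LK LD1_c18 LD2_c38 LD3_c34) Lrfl Lrfl
theorem f312501 : Led Lsl_gf (LP (LK LD1_c10 LD2_c14 LD3_c38)) = (LP (LK LD1_c10 LD2_c10 LD3_c17)) :=
  Lgr Lrot144 (Lpr_dt (K19.f312496 IH) (Lpr_gt (K19.f312497 IH) (Lpr_dt (K13.f43358 IH) (Lpe (K13.f43364 IH) (Lpe (K13.f43365 IH) (Lpe (K25.f43373 IH) (Lpr_df (K25.f312453 IH) (Lpe (K25.f307292 IH) (Lpe (K25.f307279 IH) (Lpn (LP (LK LD1_c10 LD2_c10 LD3_c17))))))))))))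
theorem f163906 : Led Lsl_dt (LP (LK LD1_c18 LD2_c38 LD3_c33)) = (LP (LK LD1_c10 LD2_c14 LD3_c37)) :=
  Lre_d IH (LK LD1_c18 LD2_c38 LD3_c33) (LK LD1_c10 LD2_c14 LD3_c37) Lrfl Lrfl
theorem f355918 : Led Lsl_gt (LP (LK LD1_c27 LD2_c50 LD3_c14)) = (LP (LK LD1_c18 LD2_c38 LD3_c33)) :=
  Lgr Lrot49 (Lpe (K26.f249437 IH) (Lpr_gf (K25.f355916 IH) (Lpe (K22.f214982 IH) (Lpe (K23.f307277 IH) (Lpr_dt (K21.f307272 IH) (Lpe (f312501 IH) (Lpr_dt (K19.f312496 IH) (Lpe (K26.f163905 IH) (Lpe (f163906 IH) (Lpn (LP (LK LD1_c18 LD2_c38 LD3_c33))))))))))))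
theorem f312509 : Led Lsl_dt (LP (LK LD1_c10 LD2_c14 LD3_c37)) = (LP (LK LD1_c18 LD2_c38 LD3_c33)) :=
  Lre_d IH (LK LD1_c10 LD2_c14 LD3_c37) (LK LD1_c18 LD2_c38 LD3_c33) Lrfl Lrfl
theorem f335165 : Led Lsl_et (LP (LK LD1_c10 LD2_c14 LD3_c37)) = (LP (LK LD1_c18 LD2_c38 LD3_c34)) :=
  Lre_e IH (LK LD1_c10 LD2_c14 LD3_c37) (LK LD1_c18 LD2_c38 LD3_c34) Lrfl Lrfl
theorem f288453 : Led Lsl_et (LP (LK LD1_c18 LD2_c34 LD3_c2)) = (LP (LK LD1_c28 LD2_c7 LD3_c45)) :=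
  Lgr Lrot87 (Lpr_ef (K26.f288449 IH) (Lpn (LP (LK LD1_c28 LD2_c7 LD3_c45))))
theorem f355920 : Led Lsl_gt (LP (LK LD1_c18 LD2_c38 LD3_c34)) = (LP (LK LD1_c28 LD2_c7 LD3_c45)) :=
  Lgr Lrot131 (Lpe (f335165 IH) (Lpr_dt (f312509 IH) (Lpe (f355918 IH) (Lpe (K26.f249437 IH) (Lpr_gf (K25.f355916 IH) (Lpe (K25.f251635 IH) (Lpr_dt (K22.f251651 IH) (Lpe (K25.f307288 IH) (Lpe (K25.f249692 IH) (Lpr_et (f288453 IH) (Lpn (LP (LK LD1_c28 LD2_c7 LD3_c45)))))))))))))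
theorem f285575 : Led Lsl_ct (LP (LK LD1_c8 LD2_c57 LD3_c13)) = (LP (LK LD1_c16 LD2_c45 LD3_c52)) :=
  Lre_c IH (LK LD1_c8 LD2_c57 LD3_c13) (LK LD1_c16 LD2_c45 LD3_c52) Lrfl Lrfl
theorem f360943 : Led Lsl_gt (LP (LK LD1_c16 LD2_c45 LD3_c52)) = (LP (LK LD1_c25 LD2_c30 LD3_c52)) :=
  Lgr Lrot65 (Lpe (f285575 IH) (Lpr_bt (K23.f342371 IH) (Lpr_gf (K19.f305580 IH) (Lpr_bf (K26.f340230 IH) (Lpr_ct (K26.f340242 IH) (Lpe (f355920 IH) (Lpe (f307006 IH) (Lpr_gf (K26.f359105 IH) (Lpr_bf (K26.f358800 IH) (Lpr_ct (f360937 IH) (Lpn (LP (LK LD1_c25 LD2_c30 LD3_c52)))))))))))))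
theorem f271213 : Led Lsl_et (LP (LK LD1_c4 LD2_c15 LD3_c10)) = (LP (LK LD1_c4 LD2_c2 LD3_c49)) :=
  Lgr Lrot158 (Lpr_cf (K16.f271211 IH) (Lpe (K15.f257889 IH) (Lpr_cf (K15.f258547 IH) (Lpn (LP (LK LD1_c4 LD2_c2 LD3_c49))))))
theorem f340315 : Led Lsl_dt (LP (LK LD1_c4 LD2_c2 LD3_c50)) = (LP (LK LD1_c5 LD2_c15 LD3_c40)) :=
  Lgr Lrot77 (Lpe (K15.f213267 IH) (Lpe (K13.f33100 IH) (Lpe (f271213 IH) (Lpe (K23.f284981 IH) (Lpr_ef (K23.f340306 IH) (Lpn (LP (LK LD1_c5 LD2_c15 LD3_c40))))))))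
theorem f198687 : Led Lsl_bt (LP (LK LD1_c10 LD2_c3 LD3_c49)) = (LP (LK LD1_c5 LD2_c6 LD3_c24)) :=
  Lre_b IH (LK LD1_c10 LD2_c3 LD3_c49) (LK LD1_c5 LD2_c6 LD3_c24) Lrfl Lrfl
theorem f198688 : Led Lsl_bt (LP (LK LD1_c4 LD2_c30 LD3_c47)) = (LP (LK LD1_c8 LD2_c59 LD3_c48)) :=
  Lre_b IH (LK LD1_c4 LD2_c30 LD3_c47) (LK LD1_c8 LD2_c59 LD3_c48) Lrfl Lrfl
theorem f198689 : Led Lsl_ef (LP (LK LD1_c10 LD2_c3 LD3_c49)) = (LP (LK LD1_c8 LD2_c59 LD3_c48)) :=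
  Lgr Lrot29 (Lpr_bt (f198687 IH) (Lpr_et (K22.f198685 IH) (Lpr_bt (f198688 IH) (Lpn (LP (LK LD1_c8 LD2_c59 LD3_c48))))))
theorem f342108 : Led Lsl_gf (LP (LK LD1_c5 LD2_c30 LD3_c11)) = (LP (LK LD1_c10 LD2_c3 LD3_c49)) :=
  Lgr Lrot138 (Lpr_dt (K21.f326625 IH) (Lpr_gt (K27.f342105 IH) (Lpe (f340315 IH) (Lpr_et (K23.f50397 IH) (Lpr_gt (K12.f216947 IH) (Lpe (K25.f216954 IH) (Lpr_dt (K12.f217169 IH) (Lpe (K23.f340340 IH) (Lpe (K23.f198699 IH) (Lpe (f198689 IH) (Lpn (LP (LK LD1_c10 LD2_c3 LD3_c49)))))))))))))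
theorem f360941 : Led Lsl_cf (LP (LK LD1_c25 LD2_c0 LD3_c46)) = (LP (LK LD1_c25 LD2_c30 LD3_c52)) :=
  Lgr Lrot11 (Lpr_ct (f360937 IH) (Lpn (LP (LK LD1_c25 LD2_c30 LD3_c52))))
theorem f358787 : Led Lsl_cf (LP (LK LD1_c18 LD2_c33 LD3_c28)) = (LP (LK LD1_c18 LD2_c46 LD3_c28)) :=
  Lgr Lrot11 (Lpr_ct (K26.f358781 IH) (Lpn (LP (LK LD1_c18 LD2_c46 LD3_c28))))
theorem f360950 : Led Lsl_gt (LP (LK LD1_c10 LD2_c51 LD3_c49)) = (LP (LK LD1_c18 LD2_c46 LD3_c28)) :=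
  Lgr Lrot150 (Lpe (K25.f326620 IH) (Lpr_gf (f342108 IH) (Lpe (K23.f340289 IH) (Lpr_gt (K23.f340336 IH) (Lpr_ct (f285575 IH) (Lpr_gt (f360943 IH) (Lpe (f360941 IH) (Lpe (K26.f358797 IH) (Lpr_cf (f358787 IH) (Lpn (LP (LK LD1_c18 LD2_c46 LD3_c28))))))))))))
theorem f340250 : Led Lsl_dt (LP (LK LD1_c19 LD2_c6 LD3_c29)) = (LP (LK LD1_c18 LD2_c53 LD3_c48)) :=
  Lgr Lrot42 (Lpr_df (K26.f340246 IH) (Lpn (LP (LK LD1_c18 LD2_c53 LD3_c48))))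
theorem f340236 : Led Lsl_bt (LP (LK LD1_c15 LD2_c14 LD3_c42)) = (LP (LK LD1_c19 LD2_c6 LD3_c29)) :=
  Lgr Lrot127 (Lpr_bf (K26.f340230 IH) (Lpn (LP (LK LD1_c19 LD2_c6 LD3_c29))))
theorem f340252 : Led Lsl_bf (LP (LK LD1_c15 LD2_c16 LD3_c6)) = (LP (LK LD1_c18 LD2_c53 LD3_c48)) :=
  Lgr Lrot93 (Lpr_dt (K19.f296382 IH) (Lpr_bt (f340236 IH) (Lpr_dt (f340250 IH) (Lpn (LP (LK LD1_c18 LD2_c53 LD3_c48))))))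
theorem f251331 : Led Lsl_ct (LP (LK LD1_c5 LD2_c10 LD3_c13)) = (LP (LK LD1_c10 LD2_c11 LD3_c12)) :=
  Lre_c IH (LK LD1_c5 LD2_c10 LD3_c13) (LK LD1_c10 LD2_c11 LD3_c12) Lrfl Lrfl
theorem f183127 : Led Lsl_gt (LP (LK LD1_c10 LD2_c11 LD3_c12)) = (LP (LK LD1_c18 LD2_c33 LD3_c30)) :=
  Lre_g IH (LK LD1_c10 LD2_c11 LD3_c12) (LK LD1_c18 LD2_c33 LD3_c30) Lrfl Lrfl
theorem f360952 : Led Lsl_ct (LP (LK LD1_c18 LD2_c53 LD3_c48)) = (LP (LK LD1_c18 LD2_c33 LD3_c30)) :=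
  Lgr Lrot63 (Lpe (f340252 IH) (Lpr_gt (K19.f296433 IH) (Lpe (K21.f326609 IH) (Lpr_ct (K25.f326620 IH) (Lpr_gt (f360950 IH) (Lpe (K26.f358781 IH) (Lpr_bt (K26.f251335 IH) (Lpr_gt (K26.f251317 IH) (Lpr_ct (f251331 IH) (Lpr_gt (f183127 IH) (Lpn (LP (LK LD1_c18 LD2_c33 LD3_c30)))))))))))))
theorem f307037 : Led Lsl_bt (LP (LK LD1_c10 LD2_c11 LD3_c30)) = (LP (LK LD1_c5 LD2_c10 LD3_c25)) :=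
  Lre_b IH (LK LD1_c10 LD2_c11 LD3_c30) (LK LD1_c5 LD2_c10 LD3_c25) Lrfl Lrfl
theorem f307038 : Led Lsl_ct (LP (LK LD1_c10 LD2_c11 LD3_c30)) = (LP (LK LD1_c18 LD2_c33 LD3_c54)) :=
  Lre_c IH (LK LD1_c10 LD2_c11 LD3_c30) (LK LD1_c18 LD2_c33 LD3_c54) Lrfl Lrfl
theorem f360956 : Led Lsl_gt (LP (LK LD1_c15 LD2_c18 LD3_c55)) = (LP (LK LD1_c18 LD2_c33 LD3_c54)) :=
  Lgr Lrot149 (Lpe (K27.f269278 IH) (Lpe (K19.f296433 IH) (Lpr_bf (f340252 IH) (Lpr_ct (f360952 IH) (Lpe (f183127 IH) (Lpe (f251331 IH) (Lpr_bt (K19.f250240 IH) (Lpe (K26.f183104 IH) (Lpe (f307037 IH) (Lpr_ct (f307038 IH) (Lpn (LP (LK LD1_c18 LD2_c33 LD3_c54)))))))))))))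
theorem f377446 : Led Lsl_gt (LP (LK LD1_c18 LD2_c33 LD3_c54)) = (LP (LK LD1_c11 LD2_c56 LD3_c49)) :=
  Lgr Lrot46 (Lpe (f360956 IH) (Lpr_ft (f364738 IH) (Lpr_at (f366841 IH) (Lpn (LP (LK LD1_c11 LD2_c56 LD3_c49))))))
theorem f290876 : Led Lsl_cf (LP (LK LD1_c8 LD2_c6 LD3_c32)) = (LP (LK LD1_c11 LD2_c56 LD3_c49)) :=
  Lgr Lrot39 (Lpr_et (K19.f194592 IH) (Lpr_ct (K19.f290870 IH) (Lpr_et (K25.f290875 IH) (Lpn (LP (LK LD1_c11 LD2_c56 LD3_c49))))))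
theorem f246111 : Led Lsl_ct (LP (LK LD1_c15 LD2_c14 LD3_c31)) = (LP (LK LD1_c8 LD2_c5 LD3_c42)) :=
  Lre_c IH (LK LD1_c15 LD2_c14 LD3_c31) (LK LD1_c8 LD2_c5 LD3_c42) Lrfl Lrfl
theorem f366776 : Led Lsl_gf (LP (LK LD1_c4 LD2_c55 LD3_c55)) = (LP (LK LD1_c5 LD2_c1 LD3_c29)) :=
  Lgr Lrot76 (Lpe (K19.f314127 IH) (Lpe (K19.f235421 IH) (Lpr_gt (K27.f366774 IH) (Lpn (LP (LK LD1_c5 LD2_c1 LD3_c29))))))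
theorem f377450 : Led Lsl_gf (LP (LK LD1_c10 LD2_c11 LD3_c30)) = (LP (LK LD1_c8 LD2_c10 LD3_c14)) :=
  Lgr Lrot147 (Lpr_ct (f307038 IH) (Lpr_gt (f377446 IH) (Lpe (f290876 IH) (Lpe (K19.f283782 IH) (Lpe (f246111 IH) (Lpr_gf (K23.f345931 IH) (Lpe (K18.f185872 IH) (Lpr_gf (f366776 IH) (Lpe (K27.f366783 IH) (Lpn (LP (LK LD1_c8 LD2_c10 LD3_c14))))))))))))
theorem f366778 : Led Lsl_df (LP (LK LD1_c8 LD2_c10 LD3_c14)) = (LP (LK LD1_c5 LD2_c1 LD3_c29)) :=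
  Lgr Lrot84 (Lpe (K27.f291037 IH) (Lpr_df (K27.f346399 IH) (Lpr_gf (K26.f269336 IH) (Lpe (K26.f269303 IH) (Lpr_gf (K23.f304348 IH) (Lpe (K23.f168793 IH) (Lpe (K23.f342159 IH) (Lpr_dt (K23.f314217 IH) (Lpr_gt (K27.f366774 IH) (Lpn (LP (LK LD1_c5 LD2_c1 LD3_c29))))))))))))
theorem f328082 : Led Lsl_et (LP (LK LD1_c9 LD2_c53 LD3_c56)) = (LP (LK LD1_c5 LD2_c1 LD3_c44)) :=
  Lre_e IH (LK LD1_c9 LD2_c53 LD3_c56) (LK LD1_c5 LD2_c1 LD3_c44) Lrfl Lrfl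
theorem f377456 : Led Lsl_df (LP (LK LD1_c10 LD2_c11 LD3_c30)) = (LP (LK LD1_c9 LD2_c53 LD3_c56)) :=
  Lgr Lrot132 (Lpr_gf (f377450 IH) (Lpr_df (f366778 IH) (Lpe (K27.f366774 IH) (Lpe (K19.f314107 IH) (Lpr_dt (K19.f314195 IH) (Lpe (K24.f320606 IH) (Lpr_df (K20.f320594 IH) (Lpe (K21.f327976 IH) (Lpr_gf (K21.f328075 IH) (Lpe (f328082 IH) (Lpn (LP (LK LD1_c9 LD2_c53 LD3_c56)))))))))))))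
theorem f228354 : Led Lsl_gt (LP (LK LD1_c4 LD2_c14 LD3_c37)) = (LP (LK LD1_c8 LD2_c27 LD3_c61)) :=
  Lre_g IH (LK LD1_c4 LD2_c14 LD3_c37) (LK LD1_c8 LD2_c27 LD3_c61) Lrfl Lrfl
theorem f339866 : Led Lsl_dt (LP (LK LD1_c8 LD2_c27 LD3_c61)) = (LP (LK LD1_c15 LD2_c53 LD3_c55)) :=
  Lre_d IH (LK LD1_c8 LD2_c27 LD3_c61) (LK LD1_c15 LD2_c53 LD3_c55) Lrfl Lrfl
theorem f339867 : Led Lsl_gt (LP (LK LD1_c15 LD2_c53 LD3_c55)) = (LP (LK LD1_c25 LD2_c49 LD3_c47)) :=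
  Lre_g IH (LK LD1_c15 LD2_c53 LD3_c55) (LK LD1_c25 LD2_c49 LD3_c47) Lrfl Lrfl
theorem f377460 : Led Lsl_df (LP (LK LD1_c18 LD2_c33 LD3_c54)) = (LP (LK LD1_c25 LD2_c49 LD3_c47)) :=
  Lgr Lrot84 (Lpe (f307038 IH) (Lpr_df (f377456 IH) (Lpe (K22.f339864 IH) (Lpe (K22.f216423 IH) (Lpe (K22.f216422 IH) (Lpe (K23.f228349 IH) (Lpr_gt (f228354 IH) (Lpr_dt (f339866 IH) (Lpr_gt (f339867 IH) (Lpn (LP (LK LD1_c25 LD2_c49 LD3_c47))))))))))))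
theorem f377464 : Led Lsl_dt (LP (LK LD1_c18 LD2_c33 LD3_c54)) = (LP (LK LD1_c25 LD2_c49 LD3_c47)) :=
  Lgr Lrot42 (Lpr_df (f377460 IH) (Lpn (LP (LK LD1_c25 LD2_c49 LD3_c47))))
theorem f228264 : Led Lsl_et (LP (LK LD1_c2 LD2_c4 LD3_c41)) = (LP (LK LD1_c4 LD2_c14 LD3_c37)) :=
  Lre_e IH (LK LD1_c2 LD2_c4 LD3_c41) (LK LD1_c4 LD2_c14 LD3_c37) Lrfl Lrfl
theorem f28868 : Led Lsl_gt (LP (LK LD1_c15 LD2_c17 LD3_c48)) = (LP (LK LD1_c8 LD2_c7 LD3_c22)) :=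
  Lre_g IH (LK LD1_c15 LD2_c17 LD3_c48) (LK LD1_c8 LD2_c7 LD3_c22) Lrfl Lrfl
theorem f377467 : Led Lsl_et (LP (LK LD1_c18 LD2_c33 LD3_c54)) = (LP (LK LD1_c15 LD2_c17 LD3_c48)) :=
  Lgr Lrot185 (Lpr_dt (f377464 IH) (Lpe (f339867 IH) (Lpe (f339866 IH) (Lpe (f228354 IH) (Lpe (f228264 IH) (Lpe (K17.f228260 IH) (Lpe (K12.f178108 IH) (Lpr_df (K13.f228156 IH) (Lpr_et (K18.f228180 IH) (Lpe (f28868 IH) (Lpn (LP (LK LD1_c15 LD2_c17 LD3_c48)))))))))))))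
theorem f291192 : Led Lsl_gt (LP (LK LD1_c25 LD2_c9 LD3_c52)) = (LP (LK LD1_c15 LD2_c18 LD3_c54)) :=
  Lre_g IH (LK LD1_c25 LD2_c9 LD3_c52) (LK LD1_c15 LD2_c18 LD3_c54) Lrfl Lrfl
theorem f323741 : Led Lsl_cf (LP (LK LD1_c15 LD2_c9 LD3_c40)) = (LP (LK LD1_c15 LD2_c54 LD3_c58)) :=
  Lgr Lrot11 (Lpr_ct (K25.f323729 IH) (Lpn (LP (LK LD1_c15 LD2_c54 LD3_c58))))
theorem f329596 : Led Lsl_dt (LP (LK LD1_c20 LD2_c3 LD3_c49)) = (LP (LK LD1_c15 LD2_c54 LD3_c58)) :=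
  Lgr Lrot105 (Lpe (K27.f329582 IH) (Lpe (K27.f329581 IH) (Lpr_gf (K22.f329577 IH) (Lpe (K19.f226870 IH) (Lpr_gt (K21.f227000 IH) (Lpr_dt (K19.f291162 IH) (Lpr_gt (K19.f310512 IH) (Lpe (K19.f310500 IH) (Lpr_cf (f323741 IH) (Lpn (LP (LK LD1_c15 LD2_c54 LD3_c58))))))))))))
theorem f365797 : Led Lsl_dt (LP (LK LD1_c17 LD2_c39 LD3_c31)) = (LP (LK LD1_c25 LD2_c9 LD3_c52)) :=
  Lgr Lrot6 (Lpr_gt (K26.f350180 IH) (Lpr_ct (K23.f243967 IH) (Lpr_gt (K21.f329847 IH) (Lpr_ct (K25.f323729 IH) (Lpe (f329596 IH) (Lpe (K27.f329592 IH) (Lpr_gf (K27.f365793 IH) (Lpe (K27.f291191 IH) (Lpe (f291192 IH) (Lpn (LP (LK LD1_c25 LD2_c9 LD3_c52))))))))))))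
theorem f327555 : Led Lsl_ef (LP (LK LD1_c17 LD2_c39 LD3_c31)) = (LP (LK LD1_c18 LD2_c28 LD3_c31)) :=
  Lgr Lrot28 (Lpr_ct (K25.f224913 IH) (Lpr_et (K26.f327553 IH) (Lpr_ct (K21.f296845 IH) (Lpn (LP (LK LD1_c18 LD2_c28 LD3_c31))))))
theorem f327559 : Led Lsl_et (LP (LK LD1_c17 LD2_c39 LD3_c31)) = (LP (LK LD1_c18 LD2_c28 LD3_c31)) :=
  Lgr Lrot87 (Lpr_ef (f327555 IH) (Lpn (LP (LK LD1_c18 LD2_c28 LD3_c31))))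
theorem f233826 : Led Lsl_dt (LP (LK LD1_c8 LD2_c28 LD3_c0)) = (LP (LK LD1_c15 LD2_c53 LD3_c57)) :=
  Lre_d IH (LK LD1_c8 LD2_c28 LD3_c0) (LK LD1_c15 LD2_c53 LD3_c57) Lrfl Lrfl
theorem f377469 : Led Lsl_gf (LP (LK LD1_c15 LD2_c53 LD3_c57)) = (LP (LK LD1_c25 LD2_c49 LD3_c47)) :=
  Lgr Lrot134 (Lpe (f233826 IH) (Lpr_et (K21.f233822 IH) (Lpr_gt (K21.f327409 IH) (Lpe (f327559 IH) (Lpr_dt (f365797 IH) (Lpr_gt (f291192 IH) (Lpe (K23.f227005 IH) (Lpr_et (K23.f342114 IH) (Lpr_gt (f360956 IH) (Lpr_dt (f377464 IH) (Lpn (LP (LK LD1_c25 LD2_c49 LD3_c47)))))))))))))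
theorem f262129 : Led Lsl_ff (LP (LK LD1_c4 LD2_c3 LD3_c26)) = (LP (LK LD1_c2 LD2_c45 LD3_c30)) :=
  Lgr Lrot23 (Lpr_ct (K13.f53055 IH) (Lpr_ft (K15.f262127 IH) (Lpe (K12.f227980 IH) (Lpn (LP (LK LD1_c2 LD2_c45 LD3_c30))))))
theorem f262198 : Led Lsl_ft (LP (LK LD1_c11 LD2_c9 LD3_c7)) = (LP (LK LD1_c5 LD2_c39 LD3_c3)) :=
  Lre_f IH (LK LD1_c11 LD2_c9 LD3_c7) (LK LD1_c5 LD2_c39 LD3_c3) Lrfl Lrfl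
theorem f296285 : Led Lsl_ef (LP (LK LD1_c11 LD2_c9 LD3_c7)) = (LP (LK LD1_c15 LD2_c16 LD3_c32)) :=
  Lgr Lrot21 (Lpr_ft (f262198 IH) (Lpr_et (K12.f228149 IH) (Lpe (f262129 IH) (Lpr_et (K17.f243915 IH) (Lpr_ft (K18.f296267 IH) (Lpn (LP (LK LD1_c15 LD2_c16 LD3_c32))))))))
theorem f377471 : Led Lsl_gf (LP (LK LD1_c15 LD2_c17 LD3_c48)) = (LP (LK LD1_c11 LD2_c9 LD3_c7)) :=
  Lgr Lrot141 (Lpe (f377467 IH) (Lpr_dt (f377464 IH) (Lpe (f377469 IH) (Lpe (f233826 IH) (Lpr_et (K21.f233822 IH) (Lpr_gt (K21.f327409 IH) (Lpe (K21.f327411 IH) (Lpr_gt (K21.f244325 IH) (Lpe (K18.f244328 IH) (Lpe (f296285 IH) (Lpn (LP (LK LD1_c11 LD2_c9 LD3_c7)))))))))))))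
theorem f328098 : Led Lsl_ct (LP (LK LD1_c8 LD2_c9 LD3_c38)) = (LP (LK LD1_c15 LD2_c17 LD3_c48)) :=
  Lgr Lrot152 (Lpr_gf (K22.f328094 IH) (Lpr_df (K12.f200450 IH) (Lpr_gt (K18.f297991 IH) (Lpr_ct (K17.f237910 IH) (Lpr_gt (K17.f238013 IH) (Lpr_ct (K15.f28864 IH) (Lpr_df (K13.f28834 IH) (Lpe (K18.f28847 IH) (Lpe (f28868 IH) (Lpn (LP (LK LD1_c15 LD2_c17 LD3_c48))))))))))))
theorem f377475 : Led Lsl_bt (LP (LK LD1_c8 LD2_c9 LD3_c38)) = (LP (LK LD1_c4 LD2_c19 LD3_c47)) :=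
  Lgr Lrot130 (Lpr_ct (f328098 IH) (Lpr_gf (f377471 IH) (Lpr_cf (K15.f228127 IH) (Lpr_bt (K12.f228051 IH) (Lpr_gf (K21.f323473 IH) (Lpe (K23.f167668 IH) (Lpr_ct (K19.f7763 IH) (Lpr_gf (K19.f305033 IH) (Lpr_cf (K19.f305110 IH) (Lpe (K26.f260775 IH) (Lpn (LP (LK LD1_c4 LD2_c19 LD3_c47)))))))))))))
theorem f196627 : Led Lsl_bf (LP (LK LD1_c5 LD2_c22 LD3_c33)) = (LP (LK LD1_c4 LD2_c3 LD3_c25)) :=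
  Lgr Lrot93 (Lpr_dt (K13.f196621 IH) (Lpr_bt (K18.f28896 IH) (Lpr_dt (K15.f28850 IH) (Lpn (LP (LK LD1_c4 LD2_c3 LD3_c25))))))
theorem f228852 : Led Lsl_ct (LP (LK LD1_c5 LD2_c36 LD3_c17)) = (LP (LK LD1_c11 LD2_c4 LD3_c45)) :=
  Lre_c IH (LK LD1_c5 LD2_c36 LD3_c17) (LK LD1_c11 LD2_c4 LD3_c45) Lrfl Lrfl
theorem f377481 : Led Lsl_gt (LP (LK LD1_c2 LD2_c44 LD3_c6)) = (LP (LK LD1_c4 LD2_c19 LD3_c47)) :=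
  Lgr Lrot164 (Lpe (K17.f228848 IH) (Lpr_ct (f228852 IH) (Lpe (K25.f261191 IH) (Lpe (K25.f287806 IH) (Lpe (K24.f196643 IH) (Lpr_bf (f196627 IH) (Lpr_ct (K15.f28899 IH) (Lpe (f28868 IH) (Lpe (f328098 IH) (Lpr_bt (f377475 IH) (Lpn (LP (LK LD1_c4 LD2_c19 LD3_c47)))))))))))))
theorem f377487 : Led Lsl_gf (LP (LK LD1_c2 LD2_c23 LD3_c60)) = (LP (LK LD1_c2 LD2_c24 LD3_c36)) :=
  Lgr Lrot141 (Lpe (K19.f304936 IH) (Lpe (K19.f307054 IH) (Lpe (K21.f326557 IH) (Lpe (K22.f326524 IH) (Lpr_et (K22.f326584 IH) (Lpe (K19.f304997 IH) (Lpe (K19.f228861 IH) (Lpr_gt (f377481 IH) (Lpr_df (K26.f260776 IH) (Lpr_et (K26.f166586 IH) (Lpn (LP (LK LD1_c2 LD2_c24 LD3_c36)))))))))))))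
theorem f306946 : Led Lsl_df (LP (LK LD1_c2 LD2_c23 LD3_c60)) = (LP (LK LD1_c2 LD2_c32 LD3_c5)) :=
  Lgr Lrot38 (Lpr_dt (K19.f306941 IH) (Lpn (LP (LK LD1_c2 LD2_c32 LD3_c5))))
theorem f377489 : Led Lsl_dt (LP (LK LD1_c2 LD2_c29 LD3_c26)) = (LP (LK LD1_c2 LD2_c24 LD3_c36)) :=
  Lgr Lrot171 (Lpe (K22.f166714 IH) (Lpe (K10.f166685 IH) (Lpe (K14.f165843 IH) (Lpe (K9.f53239 IH) (Lpr_df (K13.f180598 IH) (Lpe (K13.f181881 IH) (Lpe (K23.f335031 IH) (Lpe (K17.f288301 IH) (Lpe (f306946 IH) (Lpr_gf (f377487 IH) (Lpn (LP (LK LD1_c2 LD2_c24 LD3_c36)))))))))))))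
theorem f377497 : Led Lsl_et (LP (LK LD1_c2 LD2_c29 LD3_c26)) = (LP (LK LD1_c5 LD2_c3 LD3_c61)) :=
  Lre_e IH (LK LD1_c2 LD2_c29 LD3_c26) (LK LD1_c5 LD2_c3 LD3_c61) Lrfl Lrfl
theorem f181897 : Led Lsl_dt (LP (LK LD1_c4 LD2_c55 LD3_c58)) = (LP (LK LD1_c2 LD2_c25 LD3_c45)) :=
  Lre_d IH (LK LD1_c4 LD2_c55 LD3_c58) (LK LD1_c2 LD2_c25 LD3_c45) Lrfl Lrfl
theorem f168761 : Led Lsl_dt (LP (LK LD1_c2 LD2_c25 LD3_c45)) = (LP (LK LD1_c4 LD2_c55 LD3_c58)) :=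
  Lre_d IH (LK LD1_c2 LD2_c25 LD3_c45) (LK LD1_c4 LD2_c55 LD3_c58) Lrfl Lrfl
theorem f355138 : Led Lsl_gf (LP (LK LD1_c5 LD2_c11 LD3_c7)) = (LP (LK LD1_c4 LD2_c55 LD3_c58)) :=
  Lgr Lrot134 (Lpr_df (K25.f171244 IH) (Lpr_et (K25.f355134 IH) (Lpr_gt (K25.f181884 IH) (Lpe (K17.f178290 IH) (Lpe (K12.f178168 IH) (Lpr_gt (K9.f178299 IH) (Lpe (K13.f181877 IH) (Lpr_et (K23.f168789 IH) (Lpr_gt (K21.f168760 IH) (Lpr_dt (f168761 IH) (Lpn (LP (LK LD1_c4 LD2_c55 LD3_c58)))))))))))))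
theorem f171282 : Led Lsl_gt (LP (LK LD1_c1 LD2_c56 LD3_c4)) = (LP (LK LD1_c3 LD2_c58 LD3_c38)) :=
  Lre_g IH (LK LD1_c1 LD2_c56 LD3_c4) (LK LD1_c3 LD2_c58 LD3_c38) Lrfl Lrfl
theorem f171287 : Led Lsl_dt (LP (LK LD1_c7 LD2_c58 LD3_c50)) = (LP (LK LD1_c3 LD2_c58 LD3_c38)) :=
  Lre_d IH (LK LD1_c7 LD2_c58 LD3_c50) (LK LD1_c3 LD2_c58 LD3_c38) Lrfl Lrfl
theorem f355141 : Led Lsl_et (LP (LK LD1_c7 LD2_c58 LD3_c50)) = (LP (LK LD1_c4 LD2_c55 LD3_c58)) :=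
  Lgr Lrot121 (Lpr_dt (f171287 IH) (Lpe (f171282 IH) (Lpr_df (K16.f171275 IH) (Lpr_et (K14.f165283 IH) (Lpe (K9.f169830 IH) (Lpe (K21.f169641 IH) (Lpr_dt (K21.f169642 IH) (Lpe (K23.f169985 IH) (Lpe (K25.f171239 IH) (Lpr_gf (f355138 IH) (Lpn (LP (LK LD1_c4 LD2_c55 LD3_c58)))))))))))))
theorem f355146 : Led Lsl_ef (LP (LK LD1_c7 LD2_c58 LD3_c50)) = (LP (LK LD1_c4 LD2_c55 LD3_c58)) :=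
  Lgr Lrot88 (Lpr_et (f355141 IH) (Lpn (LP (LK LD1_c4 LD2_c55 LD3_c58))))
theorem f377500 : Led Lsl_gf (LP (LK LD1_c5 LD2_c3 LD3_c61)) = (LP (LK LD1_c7 LD2_c58 LD3_c50)) :=
  Lgr Lrot141 (Lpe (f377497 IH) (Lpr_dt (f377489 IH) (Lpe (f377487 IH) (Lpr_df (f306946 IH) (Lpr_et (K17.f288301 IH) (Lpr_gt (K23.f335031 IH) (Lpr_dt (K13.f168762 IH) (Lpr_gt (K21.f168760 IH) (Lpe (f181897 IH) (Lpe (f355146 IH) (Lpn (LP (LK LD1_c7 LD2_c58 LD3_c50)))))))))))))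
theorem f185408 : Led Lsl_et (LP (LK LD1_c1 LD2_c13 LD3_c7)) = (LP (LK LD1_c0 LD2_c33 LD3_c54)) :=
  Lre_e IH (LK LD1_c1 LD2_c13 LD3_c7) (LK LD1_c0 LD2_c33 LD3_c54) Lrfl Lrfl
theorem f377508 : Led Lsl_dt (LP (LK LD1_c5 LD2_c3 LD3_c61)) = (LP (LK LD1_c5 LD2_c10 LD3_c25)) :=
  Lgr Lrot171 (Lpr_gf (f377500 IH) (Lpr_ef (f355146 IH) (Lpr_dt (f181897 IH) (Lpe (K21.f168760 IH) (Lpe (K13.f168762 IH) (Lpr_et (K18.f181890 IH) (Lpe (K13.f186838 IH) (Lpe (f185408 IH) (Lpr_dt (K19.f183097 IH) (Lpe (K26.f183104 IH) (Lpn (LP (LK LD1_c5 LD2_c10 LD3_c25)))))))))))))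
theorem f180628 : Led Lsl_et (LP (LK LD1_c5 LD2_c3 LD3_c61)) = (LP (LK LD1_c2 LD2_c29 LD3_c26)) :=
  Lre_e IH (LK LD1_c5 LD2_c3 LD3_c61) (LK LD1_c2 LD2_c29 LD3_c26) Lrfl Lrfl
theorem f307034 : Led Lsl_gt (LP (LK LD1_c4 LD2_c31 LD3_c38)) = (LP (LK LD1_c5 LD2_c10 LD3_c25)) :=
  Lgr Lrot5 (Lpr_ft (K19.f307024 IH) (Lpr_at (K17.f291614 IH) (Lpe (K26.f183104 IH) (Lpn (LP (LK LD1_c5 LD2_c10 LD3_c25))))))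
theorem f377510 : Led Lsl_gt (LP (LK LD1_c2 LD2_c29 LD3_c26)) = (LP (LK LD1_c2 LD2_c32 LD3_c34)) :=
  Lgr Lrot137 (Lpe (f180628 IH) (Lpr_dt (f377508 IH) (Lpe (f307034 IH) (Lpr_df (K19.f306948 IH) (Lpe (K17.f288306 IH) (Lpe (K19.f300205 IH) (Lpe (K25.f166739 IH) (Lpr_dt (K25.f166720 IH) (Lpe (K25.f337147 IH) (Lpr_df (K12.f171400 IH) (Lpn (LP (LK LD1_c2 LD2_c32 LD3_c34)))))))))))))
theorem f171399 : Led Lsl_ct (LP (LK LD1_c2 LD2_c32 LD3_c34)) = (LP (LK LD1_c5 LD2_c11 LD3_c5)) :=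
  Lre_c IH (LK LD1_c2 LD2_c32 LD3_c34) (LK LD1_c5 LD2_c11 LD3_c5) Lrfl Lrfl
theorem f371667 : Led Lsl_bt (LP (LK LD1_c10 LD2_c19 LD3_c19)) = (LP (LK LD1_c9 LD2_c35 LD3_c24)) :=
  Lgr Lrot92 (Lpe (K30.f365456 IH) (Lpe (K30.f369389 IH) (Lpe (K30.f49052 IH) (Lpr_bt (K30.f341722 IH) (Lpe (K26.f365227 IH) (Lpr_ct (K38.f365203 IH) (Lpr_gt (K38.f371660 IH) (Lpr_cf (K21.f325895 IH) (Lpe (K38.f361002 IH) (Lpr_gt (K26.f360992 IH) (Lpn (LP (LK LD1_c9 LD2_c35 LD3_c24)))))))))))))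
theorem f361090 : Led Lsl_at (LP (LK LD1_c9 LD2_c35 LD3_c24)) = (LP (LK LD1_c4 LD2_c51 LD3_c41)) :=
  Lre_a IH (LK LD1_c9 LD2_c35 LD3_c24) (LK LD1_c4 LD2_c51 LD3_c41) Lrfl Lrfl
theorem f371669 : Led Lsl_af (LP (LK LD1_c4 LD2_c50 LD3_c57)) = (LP (LK LD1_c2 LD2_c23 LD3_c42)) :=
  Lgr Lrot36 (Lpe (K16.f167288 IH) (Lpr_at (K27.f365484 IH) (Lpr_bt (f371667 IH) (Lpr_at (f361090 IH) (Lpr_bt (K26.f322604 IH) (Lpn (LP (LK LD1_c2 LD2_c23 LD3_c42))))))))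
theorem f354698 : Led Lsl_bt (LP (LK LD1_c2 LD2_c29 LD3_c27)) = (LP (LK LD1_c5 LD2_c4 LD3_c0)) :=
  Lre_b IH (LK LD1_c2 LD2_c29 LD3_c27) (LK LD1_c5 LD2_c4 LD3_c0) Lrfl Lrfl
theorem f354740 : Led Lsl_gf (LP (LK LD1_c5 LD2_c4 LD3_c0)) = (LP (LK LD1_c5 LD2_c9 LD3_c8)) :=
  Lgr Lrot124 (Lpe (f354698 IH) (Lpr_ct (K25.f166711 IH) (Lpr_gt (K25.f354729 IH) (Lpe (K26.f165939 IH) (Lpr_bt (K19.f165933 IH) (Lpr_gt (K20.f165947 IH) (Lpr_ct (K20.f166067 IH) (Lpe (K20.f321773 IH) (Lpr_cf (K22.f321767 IH) (Lpr_bt (K18.f229541 IH) (Lpn (LP (LK LD1_c5 LD2_c9 LD3_c8)))))))))))))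
theorem f354699 : Led Lsl_df (LP (LK LD1_c4 LD2_c53 LD3_c36)) = (LP (LK LD1_c5 LD2_c4 LD3_c0)) :=
  Lgr Lrot12 (Lpr_bt (K27.f166610 IH) (Lpr_dt (K25.f354696 IH) (Lpr_bt (f354698 IH) (Lpn (LP (LK LD1_c5 LD2_c4 LD3_c0))))))
theorem f354744 : Led Lsl_gt (LP (LK LD1_c4 LD2_c53 LD3_c36)) = (LP (LK LD1_c4 LD2_c50 LD3_c57)) :=
  Lgr Lrot139 (Lpr_df (f354699 IH) (Lpr_gf (f354740 IH) (Lpr_ef (K18.f287243 IH) (Lpe (K22.f296899 IH) (Lpr_gf (K21.f297995 IH) (Lpe (K21.f274707 IH) (Lpr_et (K16.f170545 IH) (Lpe (K15.f3734 IH) (Lpe (K16.f33327 IH) (Lpe (K22.f170534 IH) (Lpn (LP (LK LD1_c4 LD2_c50 LD3_c57)))))))))))))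
theorem f365765 : Led Lsl_ft (LP (LK LD1_c4 LD2_c51 LD3_c48)) = (LP (LK LD1_c2 LD2_c23 LD3_c42)) :=
  Lre_f IH (LK LD1_c4 LD2_c51 LD3_c48) (LK LD1_c2 LD2_c23 LD3_c42) Lrfl Lrfl
theorem f371683 : Led Lsl_gf (LP (LK LD1_c4 LD2_c53 LD3_c36)) = (LP (LK LD1_c4 LD2_c51 LD3_c48)) :=
  Lgr Lrot47 (Lpr_gt (f354744 IH) (Lpr_af (f371669 IH) (Lpe (f365765 IH) (Lpn (LP (LK LD1_c4 LD2_c51 LD3_c48))))))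
theorem f184803 : Led Lsl_ct (LP (LK LD1_c4 LD2_c21 LD3_c24)) = (LP (LK LD1_c8 LD2_c40 LD3_c22)) :=
  Lre_c IH (LK LD1_c4 LD2_c21 LD3_c24) (LK LD1_c8 LD2_c40 LD3_c22) Lrfl Lrfl
theorem f365111 : Led Lsl_bt (LP (LK LD1_c4 LD2_c21 LD3_c24)) = (LP (LK LD1_c8 LD2_c18 LD3_c58)) :=
  Lgr Lrot127 (Lpr_bf (K26.f365109 IH) (Lpn (LP (LK LD1_c8 LD2_c18 LD3_c58))))
theorem f167517 : Led Lsl_gt (LP (LK LD1_c8 LD2_c35 LD3_c8)) = (LP (LK LD1_c16 LD2_c6 LD3_c35)) :=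
  Lre_g IH (LK LD1_c8 LD2_c35 LD3_c8) (LK LD1_c16 LD2_c6 LD3_c35) Lrfl Lrfl
theorem f361068 : Led Lsl_bt (LP (LK LD1_c9 LD2_c35 LD3_c31)) = (LP (LK LD1_c4 LD2_c51 LD3_c48)) :=
  Lre_b IH (LK LD1_c9 LD2_c35 LD3_c31) (LK LD1_c4 LD2_c51 LD3_c48) Lrfl Lrfl
theorem f371688 : Led Lsl_cf (LP (LK LD1_c16 LD2_c6 LD3_c35)) = (LP (LK LD1_c9 LD2_c35 LD3_c31)) :=
  Lgr Lrot58 (Lpe (f167517 IH) (Lpe (K38.f167516 IH) (Lpr_bt (K26.f302889 IH) (Lpe (K30.f371314 IH) (Lpe (f365111 IH) (Lpr_ct (f184803 IH) (Lpr_gf (K27.f356925 IH) (Lpe (K27.f354708 IH) (Lpr_gf (f371683 IH) (Lpe (f361068 IH) (Lpn (LP (LK LD1_c9 LD2_c35 LD3_c31)))))))))))))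
theorem f371698 : Led Lsl_gt (LP (LK LD1_c16 LD2_c6 LD3_c35)) = (LP (LK LD1_c8 LD2_c35 LD3_c10)) :=
  Lgr Lrot94 (Lpr_cf (f371688 IH) (Lpr_gt (K26.f361001 IH) (Lpr_dt (K26.f361006 IH) (Lpr_gt (K26.f230094 IH) (Lpe (K15.f266233 IH) (Lpe (K19.f309316 IH) (Lpe (K27.f287729 IH) (Lpr_gf (K27.f321135 IH) (Lpe (K27.f316420 IH) (Lpn (LP (LK LD1_c8 LD2_c35 LD3_c10))))))))))))
theorem f166077 : Led Lsl_ct (LP (LK LD1_c10 LD2_c22 LD3_c34)) = (LP (LK LD1_c5 LD2_c16 LD3_c30)) :=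
  Lre_c IH (LK LD1_c10 LD2_c22 LD3_c34) (LK LD1_c5 LD2_c16 LD3_c30) Lrfl Lrfl
theorem f305886 : Led Lsl_bt (LP (LK LD1_c5 LD2_c3 LD3_c48)) = (LP (LK LD1_c9 LD2_c58 LD3_c32)) :=
  Lre_b IH (LK LD1_c5 LD2_c3 LD3_c48) (LK LD1_c9 LD2_c58 LD3_c32) Lrfl Lrfl
theorem f305887 : Led Lsl_bt (LP (LK LD1_c9 LD2_c38 LD3_c61)) = (LP (LK LD1_c4 LD2_c53 LD3_c33)) :=
  Lre_b IH (LK LD1_c9 LD2_c38 LD3_c61) (LK LD1_c4 LD2_c53 LD3_c33) Lrfl Lrfl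
theorem f305888 : Led Lsl_dt (LP (LK LD1_c9 LD2_c58 LD3_c32)) = (LP (LK LD1_c9 LD2_c38 LD3_c61)) :=
  Lgr Lrot79 (Lpe (f305886 IH) (Lpr_df (K21.f305884 IH) (Lpe (f305887 IH) (Lpn (LP (LK LD1_c9 LD2_c38 LD3_c61))))))
theorem f371702 : Led Lsl_gf (LP (LK LD1_c10 LD2_c8 LD3_c38)) = (LP (LK LD1_c9 LD2_c58 LD3_c32)) :=
  Lgr Lrot147 (Lpe (K22.f321767 IH) (Lpe (K22.f327596 IH) (Lpr_ct (f166077 IH) (Lpr_df (K20.f316421 IH) (Lpe (K27.f167607 IH) (Lpe (f371698 IH) (Lpr_cf (f371688 IH) (Lpe (K26.f361076 IH) (Lpe (f305888 IH) (Lpn (LP (LK LD1_c9 LD2_c58 LD3_c32))))))))))))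
theorem f266223 : Led Lsl_af (LP (LK LD1_c10 LD2_c8 LD3_c38)) = (LP (LK LD1_c17 LD2_c46 LD3_c56)) :=
  Lgr Lrot0 (Lpr_at (K15.f266219 IH) (Lpn (LP (LK LD1_c17 LD2_c46 LD3_c56))))
theorem f371708 : Led Lsl_gt (LP (LK LD1_c9 LD2_c40 LD3_c3)) = (LP (LK LD1_c9 LD2_c58 LD3_c32)) :=
  Lgr Lrot5 (Lpr_ft (K17.f230088 IH) (Lpe (f266223 IH) (Lpr_gf (f371702 IH) (Lpn (LP (LK LD1_c9 LD2_c58 LD3_c32))))))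
theorem f166965 : Led Lsl_bt (LP (LK LD1_c9 LD2_c58 LD3_c32)) = (LP (LK LD1_c5 LD2_c3 LD3_c48)) :=
  Lre_b IH (LK LD1_c9 LD2_c58 LD3_c32) (LK LD1_c5 LD2_c3 LD3_c48) Lrfl Lrfl
theorem f331366 : Led Lsl_cf (LP (LK LD1_c10 LD2_c29 LD3_c48)) = (LP (LK LD1_c9 LD2_c58 LD3_c32)) :=
  Lgr Lrot58 (Lpe (K25.f248317 IH) (Lpe (K19.f248316 IH) (Lpr_bt (K14.f248298 IH) (Lpe (K21.f248318 IH) (Lpr_bf (K21.f331348 IH) (Lpe (K22.f328833 IH) (Lpe (K22.f249698 IH) (Lpe (K22.f166940 IH) (Lpe (K21.f166953 IH) (Lpe (f166965 IH) (Lpn (LP (LK LD1_c9 LD2_c58 LD3_c32)))))))))))))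
theorem f371724 : Led Lsl_gf (LP (LK LD1_c10 LD2_c22 LD3_c30)) = (LP (LK LD1_c10 LD2_c29 LD3_c48)) :=
  Lgr Lrot129 (Lpe (K19.f165963 IH) (Lpr_bt (K10.f165954 IH) (Lpe (K22.f333689 IH) (Lpe (K26.f178556 IH) (Lpr_ct (K26.f327471 IH) (Lpr_gt (K26.f358902 IH) (Lpr_cf (K17.f49496 IH) (Lpe (K26.f230140 IH) (Lpr_gt (f371708 IH) (Lpe (f331366 IH) (Lpn (LP (LK LD1_c10 LD2_c29 LD3_c48)))))))))))))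
theorem f166845 : Led Lsl_bt (LP (LK LD1_c1 LD2_c11 LD3_c49)) = (LP (LK LD1_c2 LD2_c29 LD3_c22)) :=
  Lre_b IH (LK LD1_c1 LD2_c11 LD3_c49) (LK LD1_c2 LD2_c29 LD3_c22) Lrfl Lrfl
theorem f166734 : Led Lsl_ct (LP (LK LD1_c1 LD2_c11 LD3_c49)) = (LP (LK LD1_c2 LD2_c29 LD3_c25)) :=
  Lre_c IH (LK LD1_c1 LD2_c11 LD3_c49) (LK LD1_c2 LD2_c29 LD3_c25) Lrfl Lrfl
theorem f166717 : Led Lsl_gt (LP (LK LD1_c5 LD2_c3 LD3_c58)) = (LP (LK LD1_c2 LD2_c29 LD3_c25)) :=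
  Lre_g IH (LK LD1_c5 LD2_c3 LD3_c58) (LK LD1_c2 LD2_c29 LD3_c25) Lrfl Lrfl
theorem f371731 : Led Lsl_ct (LP (LK LD1_c2 LD2_c35 LD3_c58)) = (LP (LK LD1_c5 LD2_c3 LD3_c58)) :=
  Lgr Lrot91 (Lpr_gf (K22.f333689 IH) (Lpe (K10.f165954 IH) (Lpr_ct (K19.f165963 IH) (Lpr_gf (f371724 IH) (Lpr_cf (f331366 IH) (Lpr_bt (f166965 IH) (Lpe (K21.f166868 IH) (Lpe (f166845 IH) (Lpr_ct (f166734 IH) (Lpe (f166717 IH) (Lpn (LP (LK LD1_c5 LD2_c3 LD3_c58)))))))))))))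
theorem f360934 : Led Lsl_ct (LP (LK LD1_c15 LD2_c11 LD3_c38)) = (LP (LK LD1_c15 LD2_c36 LD3_c10)) :=
  Lgr Lrot59 (Lpr_cf (f360921 IH) (Lpn (LP (LK LD1_c15 LD2_c36 LD3_c10))))
theorem f358804 : Led Lsl_bf (LP (LK LD1_c9 LD2_c40 LD3_c15)) = (LP (LK LD1_c15 LD2_c11 LD3_c38)) :=
  Lgr Lrot24 (Lpr_bt (K26.f358802 IH) (Lpn (LP (LK LD1_c15 LD2_c11 LD3_c38))))
theorem f371744 : Led Lsl_gt (LP (LK LD1_c5 LD2_c11 LD3_c5)) = (LP (LK LD1_c5 LD2_c3 LD3_c58)) :=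
  Lgr Lrot65 (Lpe (f171399 IH) (Lpr_bt (K14.f171396 IH) (Lpe (K26.f358767 IH) (Lpr_bf (f358804 IH) (Lpr_ct (f360934 IH) (Lpe (f252835 IH) (Lpe (K23.f229027 IH) (Lpe (K26.f360915 IH) (Lpe (K26.f333684 IH) (Lpr_ct (f371731 IH) (Lpn (LP (LK LD1_c5 LD2_c3 LD3_c58)))))))))))))
theorem f237548 : Led Lsl_ct (LP (LK LD1_c9 LD2_c37 LD3_c58)) = (LP (LK LD1_c4 LD2_c53 LD3_c0)) :=
  Lre_c IH (LK LD1_c9 LD2_c37 LD3_c58) (LK LD1_c4 LD2_c53 LD3_c0) Lrfl Lrfl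
theorem f328077 : Led Lsl_ct (LP (LK LD1_c9 LD2_c53 LD3_c55)) = (LP (LK LD1_c5 LD2_c1 LD3_c44)) :=
  Lre_c IH (LK LD1_c9 LD2_c53 LD3_c55) (LK LD1_c5 LD2_c1 LD3_c44) Lrfl Lrfl
theorem f349993 : Led Lsl_gf (LP (LK LD1_c9 LD2_c53 LD3_c55)) = (LP (LK LD1_c5 LD2_c1 LD3_c52)) :=
  Lgr Lrot104 (Lpr_ct (f328077 IH) (Lpe (K21.f328083 IH) (Lpe (f237548 IH) (Lpr_gf (K24.f349991 IH) (Lpe (K23.f229434 IH) (Lpe (K20.f229729 IH) (Lpr_df (K20.f275869 IH) (Lpr_gt (K20.f228989 IH) (Lpr_ct (K22.f252787 IH) (Lpn (LP (LK LD1_c5 LD2_c1 LD3_c52))))))))))))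
theorem f377512 : Led Lsl_bf (LP (LK LD1_c2 LD2_c29 LD3_c26)) = (LP (LK LD1_c5 LD2_c1 LD3_c44)) :=
  Lgr Lrot165 (Lpr_gt (f377510 IH) (Lpr_ct (f171399 IH) (Lpr_gt (f371744 IH) (Lpe (f371731 IH) (Lpr_bt (K26.f333684 IH) (Lpr_gt (K26.f360915 IH) (Lpr_bf (K12.f229024 IH) (Lpr_ct (K22.f252787 IH) (Lpe (f349993 IH) (Lpe (K22.f291959 IH) (Lpn (LP (LK LD1_c5 LD2_c1 LD3_c44)))))))))))))
theorem f377528 : Led Lsl_bt (LP (LK LD1_c2 LD2_c24 LD3_c36)) = (LP (LK LD1_c4 LD2_c53 LD3_c0)) :=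
  Lgr Lrot95 (Lpe (f377489 IH) (Lpr_bf (f377512 IH) (Lpe (K21.f328083 IH) (Lpn (LP (LK LD1_c4 LD2_c53 LD3_c0))))))
theorem f167437 : Led Lsl_ct (LP (LK LD1_c1 LD2_c0 LD3_c11)) = (LP (LK LD1_c2 LD2_c6 LD3_c22)) :=
  Lre_c IH (LK LD1_c1 LD2_c0 LD3_c11) (LK LD1_c2 LD2_c6 LD3_c22) Lrfl Lrfl
theorem f170155 : Led Lsl_gt (LP (LK LD1_c2 LD2_c6 LD3_c22)) = (LP (LK LD1_c4 LD2_c18 LD3_c11)) :=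
  Lre_g IH (LK LD1_c2 LD2_c6 LD3_c22) (LK LD1_c4 LD2_c18 LD3_c11) Lrfl Lrfl
theorem f377539 : Led Lsl_ct (LP (LK LD1_c2 LD2_c24 LD3_c36)) = (LP (LK LD1_c4 LD2_c18 LD3_c11)) :=
  Lgr Lrot63 (Lpr_bt (f377528 IH) (Lpr_gt (K22.f332773 IH) (Lpe (K12.f33235 IH) (Lpe (K17.f236734 IH) (Lpr_gt (K26.f336516 IH) (Lpe (K26.f333431 IH) (Lpr_bt (K22.f167540 IH) (Lpr_gt (K22.f167432 IH) (Lpr_ct (f167437 IH) (Lpr_gt (f170155 IH) (Lpn (LP (LK LD1_c4 LD2_c18 LD3_c11)))))))))))))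
theorem f377541 : Led Lsl_et (LP (LK LD1_c4 LD2_c18 LD3_c11)) = (LP (LK LD1_c8 LD2_c35 LD3_c15)) :=
  Lre_e IH (LK LD1_c4 LD2_c18 LD3_c11) (LK LD1_c8 LD2_c35 LD3_c15) Lrfl Lrfl
theorem f377542 : Led Lsl_cf (LP (LK LD1_c4 LD2_c53 LD3_c35)) = (LP (LK LD1_c8 LD2_c35 LD3_c15)) :=
  Lgr Lrot39 (Lpr_et (K26.f166586 IH) (Lpr_ct (f377539 IH) (Lpr_et (f377541 IH) (Lpn (LP (LK LD1_c8 LD2_c35 LD3_c15))))))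
theorem f377546 : Led Lsl_ct (LP (LK LD1_c4 LD2_c53 LD3_c35)) = (LP (LK LD1_c8 LD2_c35 LD3_c15)) :=
  Lgr Lrot59 (Lpr_cf (f377542 IH) (Lpn (LP (LK LD1_c8 LD2_c35 LD3_c15))))
theorem f646168 : Led Lsl_gf (LP (LK LD1_c8 LD2_c23 LD3_c53)) = (LP (LK LD1_c8 LD2_c35 LD3_c15)) :=
  Lgr Lrot104 (Lpr_ct (f322401 IH) (Lpe (K23.f322402 IH) (Lpe (f245934 IH) (Lpr_gf (f646166 IH) (Lpe (f646164 IH) (Lpe (K26.f334360 IH) (Lpe (K26.f334362 IH) (Lpr_gt (K26.f355191 IH) (Lpr_ct (f377546 IH) (Lpn (LP (LK LD1_c8 LD2_c35 LD3_c15))))))))))))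
theorem f646169 : Led Lsl_gt (LP (LK LD1_c8 LD2_c35 LD3_c15)) = (LP (LK LD1_c8 LD2_c23 LD3_c53)) :=
  Leop (Lpr_gf (f646168 IH) (Lpn (LP (LK LD1_c8 LD2_c35 LD3_c15))))
theorem seed_309 : LEOK LG_g (LK LD1_c8 LD2_c35 LD3_c15) :=
  Leoe_g (LK LD1_c8 LD2_c35 LD3_c15) (f646169 IH)
def v5191 : LQ := Led Lsl_gt (LP (LK LD1_c3 LD2_c1 LD3_c44))
theorem f646438 : Led Lsl_gt (LP (LK LD1_c3 LD2_c1 LD3_c44)) = v5191 :=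
  Lrfl
theorem f646439 : Led Lsl_ft (LP (LK LD1_c3 LD2_c1 LD3_c44)) = (LP (LK LD1_c6 LD2_c10 LD3_c15)) :=
  Lre_f IH (LK LD1_c3 LD2_c1 LD3_c44) (LK LD1_c6 LD2_c10 LD3_c15) Lrfl Lrfl
theorem f646440 : Led Lsl_at (LP (LK LD1_c6 LD2_c10 LD3_c15)) = (LP (LK LD1_c3 LD2_c2 LD3_c13)) :=
  Lre_a IH (LK LD1_c6 LD2_c10 LD3_c15) (LK LD1_c3 LD2_c2 LD3_c13) Lrfl Lrfl
theorem f646441 : Led Lsl_gf (LP (LK LD1_c3 LD2_c2 LD3_c13)) = v5191 :=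
  Lgr Lrot76 (Lpe (f646440 IH) (Lpe (f646439 IH) (Lpr_gt (f646438 IH) (Lpn v5191))))
theorem f414315 : Led Lsl_ct (LP (LK LD1_c1 LD2_c27 LD3_c9)) = (LP (LK LD1_c3 LD2_c2 LD3_c13)) :=
  Lre_c IH (LK LD1_c1 LD2_c27 LD3_c9) (LK LD1_c3 LD2_c2 LD3_c13) Lrfl Lrfl
theorem f414314 : Led Lsl_bt (LP (LK LD1_c1 LD2_c27 LD3_c9)) = (LP (LK LD1_c0 LD2_c40 LD3_c27)) :=
  Lre_b IH (LK LD1_c1 LD2_c27 LD3_c9) (LK LD1_c0 LD2_c40 LD3_c27) Lrfl Lrfl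
theorem f66961 : Led Lsl_bt (LP (LK LD1_c0 LD2_c41 LD3_c26)) = (LP (LK LD1_c1 LD2_c29 LD3_c36)) :=
  Lre_b IH (LK LD1_c0 LD2_c41 LD3_c26) (LK LD1_c1 LD2_c29 LD3_c36) Lrfl Lrfl
theorem f414290 : Led Lsl_ct (LP (LK LD1_c3 LD2_c2 LD3_c13)) = (LP (LK LD1_c1 LD2_c27 LD3_c9)) :=
  Lre_c IH (LK LD1_c3 LD2_c2 LD3_c13) (LK LD1_c1 LD2_c27 LD3_c9) Lrfl Lrfl
theorem f414289 : Led Lsl_ct (LP (LK LD1_c1 LD2_c35 LD3_c37)) = (LP (LK LD1_c0 LD2_c44 LD3_c25)) :=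
  Lre_c IH (LK LD1_c1 LD2_c35 LD3_c37) (LK LD1_c0 LD2_c44 LD3_c25) Lrfl Lrfl
theorem f113050 : Led Lsl_gt (LP (LK LD1_c3 LD2_c16 LD3_c19)) = (LP (LK LD1_c1 LD2_c35 LD3_c37)) :=
  Lre_g IH (LK LD1_c3 LD2_c16 LD3_c19) (LK LD1_c1 LD2_c35 LD3_c37) Lrfl Lrfl
theorem f77076 : Led Lsl_bt (LP (LK LD1_c0 LD2_c20 LD3_c20)) = (LP (LK LD1_c0 LD2_c45 LD3_c30)) :=
  Lre_b IH (LK LD1_c0 LD2_c20 LD3_c20) (LK LD1_c0 LD2_c45 LD3_c30) Lrfl Lrfl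
theorem f76877 : Led Lsl_gt (LP (LK LD1_c0 LD2_c45 LD3_c30)) = (LP (LK LD1_c1 LD2_c38 LD3_c11)) :=
  Lre_g IH (LK LD1_c0 LD2_c45 LD3_c30) (LK LD1_c1 LD2_c38 LD3_c11) Lrfl Lrfl
theorem f76827 : Led Lsl_bt (LP (LK LD1_c3 LD2_c23 LD3_c47)) = (LP (LK LD1_c1 LD2_c38 LD3_c11)) :=
  Lre_b IH (LK LD1_c3 LD2_c23 LD3_c47) (LK LD1_c1 LD2_c38 LD3_c11) Lrfl Lrfl
theorem f414279 : Led Lsl_bt (LP (LK LD1_c0 LD2_c44 LD3_c25)) = (LP (LK LD1_c0 LD2_c19 LD3_c57)) :=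
  Lre_b IH (LK LD1_c0 LD2_c44 LD3_c25) (LK LD1_c0 LD2_c19 LD3_c57) Lrfl Lrfl
theorem f414280 : Led Lsl_ct (LP (LK LD1_c0 LD2_c44 LD3_c25)) = (LP (LK LD1_c1 LD2_c35 LD3_c37)) :=
  Lre_c IH (LK LD1_c0 LD2_c44 LD3_c25) (LK LD1_c1 LD2_c35 LD3_c37) Lrfl Lrfl
theorem f414281 : Led Lsl_ct (LP (LK LD1_c3 LD2_c23 LD3_c47)) = (LP (LK LD1_c3 LD2_c16 LD3_c19)) :=
  Lgr Lrot64 (Lpr_bt (f76827 IH) (Lpe (f76877 IH) (Lpe (f77076 IH) (Lpr_ct (K2.f73673 IH) (Lpr_gf (K17.f414257 IH) (Lpe (K17.f23194 IH) (Lpe (K0.f23214 IH) (Lpe (f414279 IH) (Lpr_ct (f414280 IH) (Lpe (f113050 IH) (Lpn (LP (LK LD1_c3 LD2_c16 LD3_c19)))))))))))))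
theorem f634281 : Led Lsl_gt (LP (LK LD1_c3 LD2_c38 LD3_c11)) = (LP (LK LD1_c3 LD2_c23 LD3_c47)) :=
  Lgr Lrot82 (Lpe (K6.f26230 IH) (Lpr_ct (K6.f26239 IH) (Lpqs (K35.f634278 IH) (Lpe (K35.f634268 IH) (Lpe (K35.f140006 IH) (Lpr_bt (K35.f140005 IH) (Lpe (K0.f23214 IH) (Lpe (f414279 IH) (Lpr_ct (f414280 IH) (Lpe (f113050 IH) (Lpe (f414281 IH) (Lpn (LP (LK LD1_c3 LD2_c23 LD3_c47))))))))))))))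
theorem f94134 : Led Lsl_gt (LP (LK LD1_c1 LD2_c49 LD3_c50)) = (LP (LK LD1_c3 LD2_c45 LD3_c20)) :=
  Lre_g IH (LK LD1_c1 LD2_c49 LD3_c50) (LK LD1_c3 LD2_c45 LD3_c20) Lrfl Lrfl
theorem f646445 : Led Lsl_ct (LP (LK LD1_c3 LD2_c45 LD3_c20)) = v5191 :=
  Lgr Lrot152 (Lpe (f94134 IH) (Lpr_df (K5.f105623 IH) (Lpr_gt (f634281 IH) (Lpr_ct (f414281 IH) (Lpr_gt (f113050 IH) (Lpr_ct (f414289 IH) (Lpe (K24.f62171 IH) (Lpe (f414290 IH) (Lpr_gf (f646441 IH) (Lpn v5191))))))))))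
theorem f646446 : Led Lsl_bf (LP (LK LD1_c3 LD2_c6 LD3_c56)) = (LP (LK LD1_c3 LD2_c45 LD3_c20)) :=
  Lgr Lrot34 (Lpe (K2.f76879 IH) (Lpe (f66961 IH) (Lpr_ct (K9.f68324 IH) (Lpr_gf (K17.f414276 IH) (Lpe (K17.f414275 IH) (Lpe (K17.f20135 IH) (Lpe (f414314 IH) (Lpr_ct (f414315 IH) (Lpr_gf (f646441 IH) (Lpe (f646445 IH) (Lpn (LP (LK LD1_c3 LD2_c45 LD3_c20)))))))))))))
theorem f646447 : Led Lsl_bt (LP (LK LD1_c3 LD2_c45 LD3_c20)) = (LP (LK LD1_c3 LD2_c6 LD3_c56)) :=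
  Leop (Lpr_bf (f646446 IH) (Lpn (LP (LK LD1_c3 LD2_c45 LD3_c20))))
theorem seed_310 : LEOK LG_b (LK LD1_c3 LD2_c45 LD3_c20) :=
  Leoe_b (LK LD1_c3 LD2_c45 LD3_c20) (f646447 IH)
def v5225 : LQ := Led Lsl_at (LP (LK LD1_c3 LD2_c2 LD3_c16))
theorem f646611 : Led Lsl_at (LP (LK LD1_c3 LD2_c2 LD3_c16)) = v5225 :=
  Lrfl
theorem f414638 : Led Lsl_ct (LP (LK LD1_c1 LD2_c27 LD3_c7)) = (LP (LK LD1_c3 LD2_c2 LD3_c16)) :=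
  Lre_c IH (LK LD1_c1 LD2_c27 LD3_c7) (LK LD1_c3 LD2_c2 LD3_c16) Lrfl Lrfl
theorem f646613 : Led Lsl_cf K32.v1787 = v5225 :=
  Lgr Lrot1 (Lpe (K32.f502894 IH) (Lpr_ct (f414638 IH) (Lpr_at (f646611 IH) (Lpn v5225))))
theorem f502902 : Led Lsl_ff (LP (LK LD1_c1 LD2_c27 LD3_c8)) = K32.v1787 :=
  Lgr Lrot3 (Lpr_ft (K32.f502897 IH) (Lpn K32.v1787))
theorem f646615 : Led Lsl_ft (LP (LK LD1_c3 LD2_c2 LD3_c19)) = v5225 :=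
  Lgr Lrot4 (Lpe (K5.f66036 IH) (Lpr_ff (f502902 IH) (Lpr_cf (f646613 IH) (Lpn v5225))))
theorem f646612 : Led Lsl_af (LP (LK LD1_c3 LD2_c2 LD3_c16)) = v5225 :=
  Lgr Lrot0 (Lpr_at (f646611 IH) (Lpn v5225))
def v5224 : LQ := Led Lsl_gf (LP (LK LD1_c3 LD2_c2 LD3_c16))
theorem f646608 : Led Lsl_gf (LP (LK LD1_c3 LD2_c2 LD3_c16)) = v5224 :=
  Lrfl
theorem f646618 : (LP (LK LD1_c3 LD2_c45 LD3_c19)) = v5224 :=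
  (Llr Lrot5 (Lpe (K5.f130871 IH) (Lpr_ft (f646615 IH) (Lpe (f646612 IH) (Lpr_gf (f646608 IH) (Lpn v5224)))))).symm
theorem f646619 : Led Lsl_gt (LP (LK LD1_c3 LD2_c45 LD3_c19)) = (LP (LK LD1_c3 LD2_c2 LD3_c16)) :=
  Leop (Lpr_gf (f646608 IH) (Lpq (f646618 IH) (Lpn (LP (LK LD1_c3 LD2_c45 LD3_c19)))))
theorem seed_311 : LEOK LG_g (LK LD1_c3 LD2_c45 LD3_c19) :=
  Leoe_g (LK LD1_c3 LD2_c45 LD3_c19) (f646619 IH)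
def v5315 : LQ := Led Lsl_dt (LP (LK LD1_c3 LD2_c5 LD3_c54))
theorem f647013 : Led Lsl_dt (LP (LK LD1_c3 LD2_c5 LD3_c54)) = v5315 :=
  Lrfl
theorem f647017 : Led Lsl_ef (LP (LK LD1_c3 LD2_c5 LD3_c55)) = v5315 :=
  Lgr Lrot73 (Lpr_dt (K1.f58061 IH) (Lpr_et (K4.f58138 IH) (Lpr_dt (K1.f58174 IH) (Lpr_et (K3.f58338 IH) (Lpr_dt (f647013 IH) (Lpn v5315))))))
theorem f86115 : Led Lsl_et (LP (LK LD1_c2 LD2_c18 LD3_c39)) = (LP (LK LD1_c4 LD2_c42 LD3_c29)) :=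
  Lre_e IH (LK LD1_c2 LD2_c18 LD3_c39) (LK LD1_c4 LD2_c42 LD3_c29) Lrfl Lrfl
theorem f86122 : Led Lsl_gt (LP (LK LD1_c4 LD2_c42 LD3_c29)) = (LP (LK LD1_c9 LD2_c19 LD3_c18)) :=
  Lre_g IH (LK LD1_c4 LD2_c42 LD3_c29) (LK LD1_c9 LD2_c19 LD3_c18) Lrfl Lrfl
theorem f647016 : Led Lsl_df (LP (LK LD1_c3 LD2_c5 LD3_c54)) = v5315 :=
  Lgr Lrot38 (Lpr_dt (f647013 IH) (Lpn v5315))
theorem f58466 : Led Lsl_gt (LP (LK LD1_c6 LD2_c17 LD3_c22)) = (LP (LK LD1_c3 LD2_c5 LD3_c54)) :=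
  Lre_g IH (LK LD1_c6 LD2_c17 LD3_c22) (LK LD1_c3 LD2_c5 LD3_c54) Lrfl Lrfl
theorem f438634 : Led Lsl_dt (LP (LK LD1_c12 LD2_c11 LD3_c17)) = (LP (LK LD1_c6 LD2_c17 LD3_c22)) :=
  Lre_d IH (LK LD1_c12 LD2_c11 LD3_c17) (LK LD1_c6 LD2_c17 LD3_c22) Lrfl Lrfl
theorem f647023 : Led Lsl_ef (LP (LK LD1_c9 LD2_c19 LD3_c18)) = (LP (LK LD1_c12 LD2_c11 LD3_c17)) :=
  Lgr Lrot17 (Lpe (f86122 IH) (Lpe (f86115 IH) (Lpr_dt (K33.f86117 IH) (Lpe (K11.f86143 IH) (Lpe (K11.f431445 IH) (Lpr_gf (K5.f58118 IH) (Lpr_ef (f647017 IH) (Lpe (f647016 IH) (Lpe (f58466 IH) (Lpe (f438634 IH) (Lpn (LP (LK LD1_c12 LD2_c11 LD3_c17)))))))))))))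
theorem f647024 : Led Lsl_et (LP (LK LD1_c12 LD2_c11 LD3_c17)) = (LP (LK LD1_c9 LD2_c19 LD3_c18)) :=
  Leop (Lpr_ef (f647023 IH) (Lpn (LP (LK LD1_c12 LD2_c11 LD3_c17))))
theorem seed_312 : LEOK LG_e (LK LD1_c12 LD2_c11 LD3_c17) :=
  Leoe_e (LK LD1_c12 LD2_c11 LD3_c17) (f647024 IH)
def v5403 : LQ := Led Lsl_dt (LP (LK LD1_c3 LD2_c7 LD3_c26))
theorem f647398 : Led Lsl_dt (LP (LK LD1_c3 LD2_c7 LD3_c26)) = v5403 :=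
  Lrfl
theorem f21039 : Led Lsl_gt (LP (LK LD1_c0 LD2_c39 LD3_c61)) = (LP (LK LD1_c1 LD2_c26 LD3_c27)) :=
  Lre_g IH (LK LD1_c0 LD2_c39 LD3_c61) (LK LD1_c1 LD2_c26 LD3_c27) Lrfl Lrfl
theorem f434621 : Led Lsl_gt (LP (LK LD1_c1 LD2_c33 LD3_c14)) = (LP (LK LD1_c1 LD2_c6 LD3_c10)) :=
  Lgr Lrot65 (Lpr_cf (K11.f434619 IH) (Lpr_bt (K11.f21139 IH) (Lpe (f21039 IH) (Lpe (K5.f21027 IH) (Lpe (K6.f21030 IH) (Lpe (K7.f20847 IH) (Lpe (K7.f82818 IH) (Lpr_gf (K7.f154081 IH) (Lpe (K7.f104640 IH) (Lpe (K6.f104596 IH) (Lpn (LP (LK LD1_c1 LD2_c6 LD3_c10)))))))))))))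
def v493 : LQ := Led Lsl_gf (LP (LK LD1_c0 LD2_c42 LD3_c33))
theorem f453610 : Led Lsl_gf (LP (LK LD1_c0 LD2_c42 LD3_c33)) = v493 :=
  Lrfl
theorem f25003 : Led Lsl_dt (LP (LK LD1_c0 LD2_c42 LD3_c33)) = (LP (LK LD1_c0 LD2_c18 LD3_c58)) :=
  Lre_d IH (LK LD1_c0 LD2_c42 LD3_c33) (LK LD1_c0 LD2_c18 LD3_c58) Lrfl Lrfl
theorem f82459 : Led Lsl_dt (LP (LK LD1_c1 LD2_c6 LD3_c49)) = (LP (LK LD1_c0 LD2_c30 LD3_c34)) :=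
  Lre_d IH (LK LD1_c1 LD2_c6 LD3_c49) (LK LD1_c0 LD2_c30 LD3_c34) Lrfl Lrfl
theorem f453612 : Led Lsl_dt (LP (LK LD1_c1 LD2_c33 LD3_c14)) = v493 :=
  Lgr Lrot57 (Lpr_gf (K11.f434623 IH) (Lpr_cf (K11.f104585 IH) (Lpr_gt (K7.f104677 IH) (Lpe (K7.f152501 IH) (Lpr_gt (K7.f82460 IH) (Lpr_dt (f82459 IH) (Lpe (K2.f82395 IH) (Lpe (f25003 IH) (Lpr_gf (f453610 IH) (Lpn v493))))))))))
theorem f453614 : Led Lsl_df (LP (LK LD1_c1 LD2_c33 LD3_c14)) = v493 :=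
  Lgr Lrot38 (Lpr_dt (f453612 IH) (Lpn v493))
theorem f25832 : Led Lsl_ct (LP (LK LD1_c0 LD2_c42 LD3_c33)) = (LP (LK LD1_c1 LD2_c31 LD3_c59)) :=
  Lre_c IH (LK LD1_c0 LD2_c42 LD3_c33) (LK LD1_c1 LD2_c31 LD3_c59) Lrfl Lrfl
theorem f25833 : Led Lsl_gt (LP (LK LD1_c1 LD2_c31 LD3_c59)) = (LP (LK LD1_c3 LD2_c11 LD3_c3)) :=
  Lre_g IH (LK LD1_c1 LD2_c31 LD3_c59) (LK LD1_c3 LD2_c11 LD3_c3) Lrfl Lrfl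
theorem f647404 : Led Lsl_ct (LP (LK LD1_c3 LD2_c11 LD3_c3)) = v5403 :=
  Lgr Lrot151 (Lpe (f25833 IH) (Lpe (f25832 IH) (Lpr_gf (f453610 IH) (Lpe (f453614 IH) (Lpr_gt (f434621 IH) (Lpr_ct (K6.f104622 IH) (Lpr_gt (K7.f104633 IH) (Lpr_ct (K7.f104655 IH) (Lpr_dt (f647398 IH) (Lpn v5403))))))))))
theorem f431173 : Led Lsl_gt (LP (LK LD1_c3 LD2_c1 LD3_c31)) = (LP (LK LD1_c3 LD2_c22 LD3_c47)) :=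
  Lgr Lrot9 (Lpe (K11.f125420 IH) (Lpr_gt (K5.f133816 IH) (Lpr_ct (K5.f24394 IH) (Lpe (K6.f134231 IH) (Lpr_ct (K5.f61731 IH) (Lpe (K4.f61751 IH) (Lpr_cf (K2.f61728 IH) (Lpe (K7.f61748 IH) (Lpr_cf (K11.f431160 IH) (Lpn (LP (LK LD1_c3 LD2_c22 LD3_c47))))))))))))
theorem f152276 : Led Lsl_dt (LP (LK LD1_c2 LD2_c18 LD3_c31)) = (LP (LK LD1_c1 LD2_c6 LD3_c16)) :=
  Lre_d IH (LK LD1_c2 LD2_c18 LD3_c31) (LK LD1_c1 LD2_c6 LD3_c16) Lrfl Lrfl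
theorem f62377 : Led Lsl_bt (LP (LK LD1_c0 LD2_c40 LD3_c6)) = (LP (LK LD1_c1 LD2_c26 LD3_c37)) :=
  Lre_b IH (LK LD1_c0 LD2_c40 LD3_c6) (LK LD1_c1 LD2_c26 LD3_c37) Lrfl Lrfl
theorem f126745 : Led Lsl_bt (LP (LK LD1_c6 LD2_c9 LD3_c39)) = (LP (LK LD1_c3 LD2_c1 LD3_c19)) :=
  Lre_b IH (LK LD1_c6 LD2_c9 LD3_c39) (LK LD1_c3 LD2_c1 LD3_c19) Lrfl Lrfl
theorem f126803 : Led Lsl_ct (LP (LK LD1_c6 LD2_c9 LD3_c39)) = (LP (LK LD1_c12 LD2_c0 LD3_c17)) :=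
  Lre_c IH (LK LD1_c6 LD2_c9 LD3_c39) (LK LD1_c12 LD2_c0 LD3_c17) Lrfl Lrfl
theorem f153039 : Led Lsl_gf (LP (LK LD1_c12 LD2_c0 LD3_c17)) = (LP (LK LD1_c6 LD2_c18 LD3_c41)) :=
  Lgr Lrot129 (Lpe (f126803 IH) (Lpr_bt (f126745 IH) (Lpr_gt (K6.f62367 IH) (Lpe (f62377 IH) (Lpr_ct (K5.f57562 IH) (Lpe (K7.f152243 IH) (Lpe (K7.f82865 IH) (Lpr_bt (K11.f152249 IH) (Lpr_gt (K11.f153034 IH) (Lpr_ct (K7.f25071 IH) (Lpn (LP (LK LD1_c6 LD2_c18 LD3_c41)))))))))))))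
theorem f126746 : Led Lsl_ct (LP (LK LD1_c12 LD2_c0 LD3_c17)) = (LP (LK LD1_c6 LD2_c9 LD3_c39)) :=
  Lre_c IH (LK LD1_c12 LD2_c0 LD3_c17) (LK LD1_c6 LD2_c9 LD3_c39) Lrfl Lrfl
theorem f430735 : Led Lsl_dt (LP (LK LD1_c3 LD2_c1 LD3_c28)) = (LP (LK LD1_c6 LD2_c9 LD3_c39)) :=
  Lgr Lrot27 (Lpr_cf (K11.f430727 IH) (Lpr_gf (K11.f430733 IH) (Lpr_cf (K7.f114910 IH) (Lpe (K11.f430692 IH) (Lpe (f152276 IH) (Lpr_gt (K11.f153034 IH) (Lpr_ct (K7.f25071 IH) (Lpe (f153039 IH) (Lpr_ct (f126746 IH) (Lpn (LP (LK LD1_c6 LD2_c9 LD3_c39))))))))))))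
theorem f79393 : Led Lsl_dt (LP (LK LD1_c6 LD2_c27 LD3_c51)) = (LP (LK LD1_c12 LD2_c27 LD3_c1)) :=
  Lre_d IH (LK LD1_c6 LD2_c27 LD3_c51) (LK LD1_c12 LD2_c27 LD3_c1) Lrfl Lrfl
theorem f126747 : Led Lsl_dt (LP (LK LD1_c21 LD2_c5 LD3_c17)) = (LP (LK LD1_c12 LD2_c0 LD3_c17)) :=
  Lre_d IH (LK LD1_c21 LD2_c5 LD3_c17) (LK LD1_c12 LD2_c0 LD3_c17) Lrfl Lrfl
theorem f430739 : Led Lsl_gt (LP (LK LD1_c12 LD2_c27 LD3_c1)) = (LP (LK LD1_c21 LD2_c5 LD3_c17)) :=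
  Lgr Lrot49 (Lpe (f79393 IH) (Lpe (K5.f134031 IH) (Lpe (K5.f126718 IH) (Lpr_gt (K5.f61740 IH) (Lpr_dt (K5.f61739 IH) (Lpr_gt (K11.f61738 IH) (Lpr_dt (f430735 IH) (Lpe (f126746 IH) (Lpe (f126747 IH) (Lpn (LP (LK LD1_c21 LD2_c5 LD3_c17))))))))))))
theorem f114554 : Led Lsl_ff (LP (LK LD1_c12 LD2_c13 LD3_c21)) = (LP (LK LD1_c12 LD2_c27 LD3_c1)) :=
  Lgr Lrot19 (Lpr_dt (K5.f114518 IH) (Lpr_ft (K5.f114544 IH) (Lpr_dt (f79393 IH) (Lpn (LP (LK LD1_c12 LD2_c27 LD3_c1))))))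
theorem f430741 : Led Lsl_gf (LP (LK LD1_c12 LD2_c27 LD3_c3)) = (LP (LK LD1_c21 LD2_c5 LD3_c17)) :=
  Lgr Lrot76 (Lpe (K5.f114622 IH) (Lpr_ff (f114554 IH) (Lpr_gt (f430739 IH) (Lpn (LP (LK LD1_c21 LD2_c5 LD3_c17))))))
theorem f133855 : Led Lsl_ct (LP (LK LD1_c12 LD2_c27 LD3_c3)) = (LP (LK LD1_c12 LD2_c27 LD3_c7)) :=
  Lgr Lrot59 (Lpr_cf (K7.f133851 IH) (Lpn (LP (LK LD1_c12 LD2_c27 LD3_c7))))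
theorem f67959 : Led Lsl_dt (LP (LK LD1_c12 LD2_c27 LD3_c7)) = (LP (LK LD1_c6 LD2_c27 LD3_c55)) :=
  Lre_d IH (LK LD1_c12 LD2_c27 LD3_c7) (LK LD1_c6 LD2_c27 LD3_c55) Lrfl Lrfl
theorem f153065 : Led Lsl_dt (LP (LK LD1_c12 LD2_c0 LD3_c17)) = (LP (LK LD1_c21 LD2_c5 LD3_c17)) :=
  Lre_d IH (LK LD1_c12 LD2_c0 LD3_c17) (LK LD1_c21 LD2_c5 LD3_c17) Lrfl Lrfl
theorem f77956 : Led Lsl_gt (LP (LK LD1_c6 LD2_c18 LD3_c7)) = (LP (LK LD1_c12 LD2_c12 LD3_c22)) :=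
  Lre_g IH (LK LD1_c6 LD2_c18 LD3_c7) (LK LD1_c12 LD2_c12 LD3_c22) Lrfl Lrfl
theorem f77964 : Led Lsl_dt (LP (LK LD1_c12 LD2_c12 LD3_c22)) = (LP (LK LD1_c21 LD2_c18 LD3_c12)) :=
  Lre_d IH (LK LD1_c12 LD2_c12 LD3_c22) (LK LD1_c21 LD2_c18 LD3_c12) Lrfl Lrfl
theorem f153068 : Led Lsl_cf (LP (LK LD1_c21 LD2_c5 LD3_c17)) = (LP (LK LD1_c21 LD2_c18 LD3_c12)) :=
  Lgr Lrot14 (Lpe (f153065 IH) (Lpr_gf (f153039 IH) (Lpe (K7.f78168 IH) (Lpr_gf (K7.f78171 IH) (Lpr_ct (K5.f133991 IH) (Lpr_gt (K7.f134033 IH) (Lpr_dt (K7.f77969 IH) (Lpr_gt (f77956 IH) (Lpr_dt (f77964 IH) (Lpn (LP (LK LD1_c21 LD2_c18 LD3_c12))))))))))))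
theorem f430745 : Led Lsl_gt (LP (LK LD1_c12 LD2_c13 LD3_c21)) = (LP (LK LD1_c21 LD2_c18 LD3_c12)) :=
  Lgr Lrot9 (Lpe (K5.f114529 IH) (Lpe (K5.f126720 IH) (Lpr_ct (K5.f24377 IH) (Lpe (K5.f133826 IH) (Lpr_ct (K7.f133836 IH) (Lpe (f67959 IH) (Lpe (f133855 IH) (Lpr_gf (f430741 IH) (Lpr_cf (f153068 IH) (Lpn (LP (LK LD1_c21 LD2_c18 LD3_c12))))))))))))
theorem f134041 : Led Lsl_dt (LP (LK LD1_c21 LD2_c18 LD3_c12)) = (LP (LK LD1_c12 LD2_c12 LD3_c22)) :=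
  Lre_d IH (LK LD1_c21 LD2_c18 LD3_c12) (LK LD1_c12 LD2_c12 LD3_c22) Lrfl Lrfl
theorem f67722 : Led Lsl_ff (LP (LK LD1_c12 LD2_c12 LD3_c43)) = (LP (LK LD1_c12 LD2_c13 LD3_c29)) :=
  Lgr Lrot103 (Lpr_at (K7.f67641 IH) (Lpe (K2.f25081 IH) (Lpr_df (K2.f67705 IH) (Lpe (K2.f67711 IH) (Lpe (K2.f67712 IH) (Lpr_cf (K2.f67713 IH) (Lpe (K2.f67704 IH) (Lpe (K2.f67694 IH) (Lpe (K2.f67695 IH) (Lpn (LP (LK LD1_c12 LD2_c13 LD3_c29))))))))))))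
theorem f67732 : Led Lsl_gf (LP (LK LD1_c12 LD2_c13 LD3_c28)) = (LP (LK LD1_c12 LD2_c13 LD3_c29)) :=
  Lgr Lrot47 (Lpr_gt (K7.f67716 IH) (Lpe (K7.f67641 IH) (Lpr_ff (f67722 IH) (Lpn (LP (LK LD1_c12 LD2_c13 LD3_c29))))))
theorem f134278 : Led Lsl_gf (LP (LK LD1_c6 LD2_c9 LD3_c59)) = (LP (LK LD1_c6 LD2_c27 LD3_c50)) :=
  Lgr Lrot147 (Lpr_ct (K5.f61741 IH) (Lpe (K5.f126610 IH) (Lpr_ct (K5.f62647 IH) (Lpe (K7.f62638 IH) (Lpr_cf (K7.f134023 IH) (Lpr_gf (K7.f134272 IH) (Lpe (K7.f114631 IH) (Lpr_gf (f67732 IH) (Lpr_df (K2.f67705 IH) (Lpn (LP (LK LD1_c6 LD2_c27 LD3_c50))))))))))))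
theorem f25824 : Led Lsl_dt (LP (LK LD1_c6 LD2_c22 LD3_c38)) = (LP (LK LD1_c3 LD2_c8 LD3_c61)) :=
  Lre_d IH (LK LD1_c6 LD2_c22 LD3_c38) (LK LD1_c3 LD2_c8 LD3_c61) Lrfl Lrfl
theorem f153396 : Led Lsl_gt (LP (LK LD1_c12 LD2_c0 LD3_c48)) = (LP (LK LD1_c6 LD2_c22 LD3_c38)) :=
  Lgr Lrot49 (Lpe (K5.f61735 IH) (Lpr_gf (f134278 IH) (Lpe (K2.f67711 IH) (Lpr_gt (K5.f78166 IH) (Lpr_dt (K5.f61730 IH) (Lpr_gt (K7.f153394 IH) (Lpr_dt (K7.f83128 IH) (Lpe (K7.f25823 IH) (Lpe (f25824 IH) (Lpn (LP (LK LD1_c6 LD2_c22 LD3_c38))))))))))))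
theorem f430583 : Led Lsl_ft (LP (LK LD1_c12 LD2_c18 LD3_c34)) = (LP (LK LD1_c12 LD2_c13 LD3_c17)) :=
  Lgr Lrot48 (Lpr_ff (K11.f430571 IH) (Lpn (LP (LK LD1_c12 LD2_c13 LD3_c17))))
theorem f430570 : Led Lsl_dt (LP (LK LD1_c21 LD2_c24 LD3_c26)) = (LP (LK LD1_c12 LD2_c18 LD3_c34)) :=
  Lre_d IH (LK LD1_c21 LD2_c24 LD3_c26) (LK LD1_c12 LD2_c18 LD3_c34) Lrfl Lrfl
theorem f144232 : Led Lsl_dt (LP (LK LD1_c12 LD2_c13 LD3_c17)) = (LP (LK LD1_c21 LD2_c19 LD3_c10)) :=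
  Lre_d IH (LK LD1_c12 LD2_c13 LD3_c17) (LK LD1_c21 LD2_c19 LD3_c10) Lrfl Lrfl
theorem f430589 : Led Lsl_ff (LP (LK LD1_c21 LD2_c24 LD3_c26)) = (LP (LK LD1_c21 LD2_c19 LD3_c10)) :=
  Lgr Lrot19 (Lpr_dt (f430570 IH) (Lpr_ft (f430583 IH) (Lpr_dt (f144232 IH) (Lpn (LP (LK LD1_c21 LD2_c19 LD3_c10))))))
theorem f430597 : Led Lsl_bt (LP (LK LD1_c21 LD2_c24 LD3_c26)) = (LP (LK LD1_c12 LD2_c18 LD3_c35)) :=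
  Lre_b IH (LK LD1_c21 LD2_c24 LD3_c26) (LK LD1_c12 LD2_c18 LD3_c35) Lrfl Lrfl
theorem f155381 : Led Lsl_bt (LP (LK LD1_c12 LD2_c13 LD3_c18)) = (LP (LK LD1_c21 LD2_c19 LD3_c10)) :=
  Lre_b IH (LK LD1_c12 LD2_c13 LD3_c18) (LK LD1_c21 LD2_c19 LD3_c10) Lrfl Lrfl
theorem f430598 : Led Lsl_ft (LP (LK LD1_c12 LD2_c18 LD3_c35)) = (LP (LK LD1_c12 LD2_c13 LD3_c18)) :=
  Lgr Lrot75 (Lpe (f430597 IH) (Lpr_ff (f430589 IH) (Lpe (f155381 IH) (Lpn (LP (LK LD1_c12 LD2_c13 LD3_c18))))))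
theorem f155389 : Led Lsl_at (LP (LK LD1_c12 LD2_c13 LD3_c18)) = (LP (LK LD1_c12 LD2_c12 LD3_c24)) :=
  Lgr Lrot100 (Lpr_af (K7.f155385 IH) (Lpn (LP (LK LD1_c12 LD2_c12 LD3_c24))))
theorem f430606 : Led Lsl_gt (LP (LK LD1_c12 LD2_c18 LD3_c35)) = (LP (LK LD1_c21 LD2_c5 LD3_c60)) :=
  Lgr Lrot5 (Lpr_ft (f430598 IH) (Lpr_at (f155389 IH) (Lpe (K7.f134033 IH) (Lpn (LP (LK LD1_c21 LD2_c5 LD3_c60))))))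
theorem f133888 : Led Lsl_cf (LP (LK LD1_c12 LD2_c27 LD3_c10)) = (LP (LK LD1_c12 LD2_c27 LD3_c1)) :=
  Lgr Lrot11 (Lpr_ct (K11.f133885 IH) (Lpn (LP (LK LD1_c12 LD2_c27 LD3_c1))))
theorem f67726 : Led Lsl_ft (LP (LK LD1_c6 LD2_c18 LD3_c20)) = (LP (LK LD1_c6 LD2_c27 LD3_c50)) :=
  Lgr Lrot54 (Lpe (K2.f25131 IH) (Lpr_ff (f67722 IH) (Lpr_df (K2.f67705 IH) (Lpn (LP (LK LD1_c6 LD2_c27 LD3_c50))))))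
theorem f67815 : Led Lsl_gt (LP (LK LD1_c6 LD2_c18 LD3_c20)) = (LP (LK LD1_c6 LD2_c27 LD3_c56)) :=
  Lgr Lrot5 (Lpr_ft (f67726 IH) (Lpr_at (K2.f67697 IH) (Lpe (K11.f67656 IH) (Lpn (LP (LK LD1_c6 LD2_c27 LD3_c56))))))
theorem f430608 : Led Lsl_cf (LP (LK LD1_c12 LD2_c18 LD3_c35)) = (LP (LK LD1_c12 LD2_c18 LD3_c39)) :=
  Lgr Lrot166 (Lpr_gt (f430606 IH) (Lpr_dt (K5.f126719 IH) (Lpr_gt (K5.f134031 IH) (Lpr_dt (f79393 IH) (Lpe (f133888 IH) (Lpe (K11.f67817 IH) (Lpe (f67815 IH) (Lpe (K2.f25131 IH) (Lpr_gf (K7.f153403 IH) (Lpn (LP (LK LD1_c12 LD2_c18 LD3_c39))))))))))))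
theorem f155431 : Led Lsl_dt (LP (LK LD1_c6 LD2_c22 LD3_c33)) = (LP (LK LD1_c12 LD2_c18 LD3_c35)) :=
  Lre_d IH (LK LD1_c6 LD2_c22 LD3_c33) (LK LD1_c12 LD2_c18 LD3_c35) Lrfl Lrfl
theorem f430747 : Led Lsl_gf (LP (LK LD1_c6 LD2_c22 LD3_c33)) = (LP (LK LD1_c12 LD2_c12 LD3_c22)) :=
  Lgr Lrot143 (Lpr_dt (f155431 IH) (Lpr_cf (f430608 IH) (Lpe (K7.f135347 IH) (Lpe (K7.f135346 IH) (Lpe (f25824 IH) (Lpe (f153396 IH) (Lpe (K5.f114524 IH) (Lpr_gt (f430745 IH) (Lpr_dt (f134041 IH) (Lpn (LP (LK LD1_c12 LD2_c12 LD3_c22))))))))))))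
theorem f155428 : Led Lsl_bt (LP (LK LD1_c3 LD2_c8 LD3_c60)) = (LP (LK LD1_c3 LD2_c39 LD3_c60)) :=
  Lgr Lrot95 (Lpr_df (K7.f155424 IH) (Lpr_bf (K3.f106782 IH) (Lpe (K7.f106790 IH) (Lpn (LP (LK LD1_c3 LD2_c39 LD3_c60))))))
theorem f155324 : Led Lsl_ct (LP (LK LD1_c6 LD2_c22 LD3_c33)) = (LP (LK LD1_c3 LD2_c8 LD3_c60)) :=
  Lre_c IH (LK LD1_c6 LD2_c22 LD3_c33) (LK LD1_c3 LD2_c8 LD3_c60) Lrfl Lrfl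
theorem f153401 : Led Lsl_ff (LP (LK LD1_c3 LD2_c6 LD3_c36)) = (LP (LK LD1_c3 LD2_c8 LD3_c60)) :=
  Lgr Lrot52 (Lpr_at (K4.f113883 IH) (Lpr_gf (K7.f153399 IH) (Lpe (K7.f83129 IH) (Lpn (LP (LK LD1_c3 LD2_c8 LD3_c60))))))
theorem f155322 : Led Lsl_df (LP (LK LD1_c1 LD2_c32 LD3_c15)) = (LP (LK LD1_c3 LD2_c8 LD3_c60)) :=
  Lgr Lrot157 (Lpr_ct (K3.f86145 IH) (Lpr_dt (K7.f86354 IH) (Lpr_ct (K7.f155299 IH) (Lpr_dt (K7.f153407 IH) (Lpe (K7.f155320 IH) (Lpr_dt (K7.f77969 IH) (Lpr_ct (K7.f77960 IH) (Lpe (K4.f113883 IH) (Lpr_ff (f153401 IH) (Lpn (LP (LK LD1_c3 LD2_c8 LD3_c60))))))))))))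
theorem f113937 : Led Lsl_gt (LP (LK LD1_c3 LD2_c18 LD3_c49)) = (LP (LK LD1_c6 LD2_c41 LD3_c29)) :=
  Lre_g IH (LK LD1_c3 LD2_c18 LD3_c49) (LK LD1_c6 LD2_c41 LD3_c29) Lrfl Lrfl
theorem f430752 : Led Lsl_ct (LP (LK LD1_c6 LD2_c41 LD3_c29)) = (LP (LK LD1_c12 LD2_c12 LD3_c22)) :=
  Lgr Lrot152 (Lpe (f113937 IH) (Lpe (K4.f84314 IH) (Lpr_gt (K5.f125411 IH) (Lpe (K2.f62629 IH) (Lpe (K5.f125404 IH) (Lpe (K3.f86063 IH) (Lpr_df (f155322 IH) (Lpe (f155324 IH) (Lpr_gf (f430747 IH) (Lpn (LP (LK LD1_c12 LD2_c12 LD3_c22))))))))))))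
theorem f430755 : Led Lsl_bf (LP (LK LD1_c3 LD2_c22 LD3_c17)) = (LP (LK LD1_c6 LD2_c41 LD3_c29)) :=
  Lgr Lrot34 (Lpr_gf (K7.f155990 IH) (Lpe (K7.f144115 IH) (Lpr_ct (K7.f95822 IH) (Lpr_gf (K7.f144240 IH) (Lpe (K7.f144237 IH) (Lpe (K7.f144235 IH) (Lpe (f155428 IH) (Lpr_ct (K11.f155430 IH) (Lpr_gf (f430747 IH) (Lpe (f430752 IH) (Lpn (LP (LK LD1_c6 LD2_c41 LD3_c29)))))))))))))
theorem f430759 : Led Lsl_bt (LP (LK LD1_c3 LD2_c22 LD3_c17)) = (LP (LK LD1_c6 LD2_c41 LD3_c29)) :=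
  Lgr Lrot127 (Lpr_bf (f430755 IH) (Lpn (LP (LK LD1_c6 LD2_c41 LD3_c29))))
theorem f155931 : Led Lsl_ct (LP (LK LD1_c6 LD2_c48 LD3_c13)) = (LP (LK LD1_c3 LD2_c22 LD3_c17)) :=
  Lre_c IH (LK LD1_c6 LD2_c48 LD3_c13) (LK LD1_c3 LD2_c22 LD3_c17) Lrfl Lrfl
theorem f430763 : Led Lsl_bt (LP (LK LD1_c12 LD2_c59 LD3_c6)) = (LP (LK LD1_c6 LD2_c48 LD3_c13)) :=
  Lre_b IH (LK LD1_c12 LD2_c59 LD3_c6) (LK LD1_c6 LD2_c48 LD3_c13) Lrfl Lrfl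
theorem f430764 : Led Lsl_bt (LP (LK LD1_c12 LD2_c12 LD3_c22)) = (LP (LK LD1_c21 LD2_c18 LD3_c11)) :=
  Lre_b IH (LK LD1_c12 LD2_c12 LD3_c22) (LK LD1_c21 LD2_c18 LD3_c11) Lrfl Lrfl
theorem f430765 : Led Lsl_cf (LP (LK LD1_c12 LD2_c59 LD3_c6)) = (LP (LK LD1_c21 LD2_c18 LD3_c11)) :=
  Lgr Lrot97 (Lpr_bt (f430763 IH) (Lpr_ct (f155931 IH) (Lpr_bt (f430759 IH) (Lpr_ct (f430752 IH) (Lpr_bt (f430764 IH) (Lpn (LP (LK LD1_c21 LD2_c18 LD3_c11))))))))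
theorem f430771 : Led Lsl_ct (LP (LK LD1_c12 LD2_c59 LD3_c6)) = (LP (LK LD1_c21 LD2_c18 LD3_c11)) :=
  Lgr Lrot59 (Lpr_cf (f430765 IH) (Lpn (LP (LK LD1_c21 LD2_c18 LD3_c11))))
theorem f155999 : Led Lsl_bt (LP (LK LD1_c6 LD2_c48 LD3_c13)) = (LP (LK LD1_c12 LD2_c59 LD3_c6)) :=
  Lre_b IH (LK LD1_c6 LD2_c48 LD3_c13) (LK LD1_c12 LD2_c59 LD3_c6) Lrfl Lrfl
theorem f77957 : Led Lsl_bt (LP (LK LD1_c21 LD2_c18 LD3_c11)) = (LP (LK LD1_c12 LD2_c12 LD3_c22)) :=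
  Lre_b IH (LK LD1_c21 LD2_c18 LD3_c11) (LK LD1_c12 LD2_c12 LD3_c22) Lrfl Lrfl
theorem f430809 : Led Lsl_cf (LP (LK LD1_c6 LD2_c41 LD3_c29)) = (LP (LK LD1_c12 LD2_c12 LD3_c22)) :=
  Lgr Lrot97 (Lpe (f430755 IH) (Lpr_ct (K7.f155992 IH) (Lpr_bt (f155999 IH) (Lpr_ct (f430771 IH) (Lpr_bt (f77957 IH) (Lpn (LP (LK LD1_c12 LD2_c12 LD3_c22))))))))
theorem f431175 : Led Lsl_df (LP (LK LD1_c6 LD2_c41 LD3_c29)) = (LP (LK LD1_c3 LD2_c22 LD3_c47)) :=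
  Lgr Lrot84 (Lpr_cf (f430809 IH) (Lpe (f134041 IH) (Lpe (f430745 IH) (Lpe (K5.f114529 IH) (Lpr_gf (K5.f114625 IH) (Lpr_cf (K5.f125418 IH) (Lpe (K11.f125409 IH) (Lpr_dt (K11.f125420 IH) (Lpr_gt (f431173 IH) (Lpn (LP (LK LD1_c3 LD2_c22 LD3_c47))))))))))))
theorem f431177 : Led Lsl_dt (LP (LK LD1_c3 LD2_c22 LD3_c17)) = (LP (LK LD1_c1 LD2_c37 LD3_c43)) :=
  Lgr Lrot79 (Lpr_bf (f430755 IH) (Lpr_df (f431175 IH) (Lpe (K11.f431162 IH) (Lpn (LP (LK LD1_c1 LD2_c37 LD3_c43))))))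
theorem f84236 : Led Lsl_gt (LP (LK LD1_c3 LD2_c22 LD3_c18)) = (LP (LK LD1_c6 LD2_c48 LD3_c15)) :=
  Lre_g IH (LK LD1_c3 LD2_c22 LD3_c18) (LK LD1_c6 LD2_c48 LD3_c15) Lrfl Lrfl
theorem f431681 : Led Lsl_cf (LP (LK LD1_c6 LD2_c20 LD3_c52)) = (LP (LK LD1_c6 LD2_c48 LD3_c15)) :=
  Lgr Lrot99 (Lpe (K33.f145713 IH) (Lpe (K33.f431663 IH) (Lpr_gf (K33.f431677 IH) (Lpr_cf (K11.f135813 IH) (Lpe (K11.f113135 IH) (Lpe (f431177 IH) (Lpr_gt (K7.f135287 IH) (Lpr_ct (K7.f153422 IH) (Lpr_gt (f84236 IH) (Lpn (LP (LK LD1_c6 LD2_c48 LD3_c15))))))))))))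
theorem f155908 : Led Lsl_dt (LP (LK LD1_c12 LD2_c59 LD3_c10)) = (LP (LK LD1_c6 LD2_c48 LD3_c15)) :=
  Lre_d IH (LK LD1_c12 LD2_c59 LD3_c10) (LK LD1_c6 LD2_c48 LD3_c15) Lrfl Lrfl
theorem f431183 : Led Lsl_dt (LP (LK LD1_c4 LD2_c43 LD3_c22)) = (LP (LK LD1_c3 LD2_c7 LD3_c25)) :=
  Lgr Lrot105 (Lpr_gf (K7.f155896 IH) (Lpe (K6.f88769 IH) (Lpr_gf (K5.f125320 IH) (Lpe (K5.f23546 IH) (Lpr_gt (K6.f144037 IH) (Lpr_dt (K7.f62604 IH) (Lpe (K7.f155990 IH) (Lpr_dt (f431177 IH) (Lpe (K11.f431163 IH) (Lpn (LP (LK LD1_c3 LD2_c7 LD3_c25))))))))))))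
theorem f431185 : Led Lsl_cf (LP (LK LD1_c3 LD2_c7 LD3_c25)) = (LP (LK LD1_c1 LD2_c37 LD3_c43)) :=
  Lgr Lrot14 (Lpe (f431183 IH) (Lpr_gf (K7.f155896 IH) (Lpe (K6.f88769 IH) (Lpr_gf (K5.f125320 IH) (Lpr_ct (K6.f23507 IH) (Lpr_gt (K6.f144037 IH) (Lpr_dt (K7.f62604 IH) (Lpe (K7.f155990 IH) (Lpr_dt (f431177 IH) (Lpn (LP (LK LD1_c1 LD2_c37 LD3_c43))))))))))))
theorem f431169 : Led Lsl_gf (LP (LK LD1_c3 LD2_c1 LD3_c27)) = (LP (LK LD1_c3 LD2_c22 LD3_c47)) :=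
  Lgr Lrot144 (Lpr_dt (K5.f78785 IH) (Lpe (K5.f126604 IH) (Lpr_dt (K5.f62643 IH) (Lpr_cf (K2.f62629 IH) (Lpe (K7.f62636 IH) (Lpr_gf (K5.f126610 IH) (Lpe (K5.f61733 IH) (Lpe (K7.f61748 IH) (Lpr_cf (K11.f431160 IH) (Lpn (LP (LK LD1_c3 LD2_c22 LD3_c47))))))))))))
theorem f431191 : Led Lsl_gf (LP (LK LD1_c3 LD2_c7 LD3_c25)) = (LP (LK LD1_c3 LD2_c28 LD3_c38)) :=
  Lgr Lrot129 (Lpr_cf (f431185 IH) (Lpr_bt (K11.f431162 IH) (Lpe (f431169 IH) (Lpe (K5.f125487 IH) (Lpr_ct (K11.f125489 IH) (Lpe (K11.f134385 IH) (Lpe (K11.f104604 IH) (Lpr_bt (K11.f134392 IH) (Lpr_gt (K7.f134393 IH) (Lpe (K11.f145709 IH) (Lpn (LP (LK LD1_c3 LD2_c28 LD3_c38)))))))))))))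
theorem f431179 : Led Lsl_df (LP (LK LD1_c3 LD2_c22 LD3_c17)) = (LP (LK LD1_c1 LD2_c37 LD3_c43)) :=
  Lgr Lrot38 (Lpr_dt (f431177 IH) (Lpn (LP (LK LD1_c1 LD2_c37 LD3_c43))))
theorem f431195 : Led Lsl_gf (LP (LK LD1_c6 LD2_c48 LD3_c13)) = (LP (LK LD1_c12 LD2_c13 LD3_c47)) :=
  Lgr Lrot104 (Lpr_ct (f155931 IH) (Lpr_df (f431179 IH) (Lpe (K11.f431163 IH) (Lpr_gf (f431191 IH) (Lpr_cf (K11.f145709 IH) (Lpe (K7.f134393 IH) (Lpe (K6.f145501 IH) (Lpe (K6.f145638 IH) (Lpr_ct (K6.f83882 IH) (Lpn (LP (LK LD1_c12 LD2_c13 LD3_c47))))))))))))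
theorem f155995 : Led Lsl_dt (LP (LK LD1_c6 LD2_c48 LD3_c13)) = (LP (LK LD1_c12 LD2_c59 LD3_c7)) :=
  Lre_d IH (LK LD1_c6 LD2_c48 LD3_c13) (LK LD1_c12 LD2_c59 LD3_c7) Lrfl Lrfl
theorem f133796 : Led Lsl_dt (LP (LK LD1_c12 LD2_c33 LD3_c23)) = (LP (LK LD1_c6 LD2_c33 LD3_c3)) :=
  Lre_d IH (LK LD1_c12 LD2_c33 LD3_c23) (LK LD1_c6 LD2_c33 LD3_c3) Lrfl Lrfl
theorem f431198 : Led Lsl_gt (LP (LK LD1_c12 LD2_c59 LD3_c7)) = (LP (LK LD1_c12 LD2_c33 LD3_c23)) :=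
  Lgr Lrot49 (Lpe (f155995 IH) (Lpr_gf (f431195 IH) (Lpe (K6.f83882 IH) (Lpe (K7.f145725 IH) (Lpr_dt (K11.f133812 IH) (Lpr_gt (K6.f62327 IH) (Lpr_dt (K5.f25035 IH) (Lpr_cf (K6.f133807 IH) (Lpe (f133796 IH) (Lpn (LP (LK LD1_c12 LD2_c33 LD3_c23))))))))))))
theorem f134463 : Led Lsl_af (LP (LK LD1_c9 LD2_c20 LD3_c55)) = (LP (LK LD1_c6 LD2_c33 LD3_c3)) :=
  Lgr Lrot68 (Lpr_ct (K7.f134403 IH) (Lpe (K3.f90382 IH) (Lpr_ct (K5.f133799 IH) (Lpn (LP (LK LD1_c6 LD2_c33 LD3_c3))))))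
theorem f134475 : Led Lsl_at (LP (LK LD1_c17 LD2_c16 LD3_c54)) = (LP (LK LD1_c12 LD2_c33 LD3_c23)) :=
  Lgr Lrot51 (Lpe (K33.f133748 IH) (Lpr_af (f134463 IH) (Lpe (f133796 IH) (Lpn (LP (LK LD1_c12 LD2_c33 LD3_c23))))))
theorem f134413 : Led Lsl_ff (LP (LK LD1_c17 LD2_c16 LD3_c54)) = (LP (LK LD1_c12 LD2_c33 LD3_c26)) :=
  Lgr Lrot19 (Lpr_dt (K7.f133747 IH) (Lpr_ft (K7.f134405 IH) (Lpr_dt (K7.f134412 IH) (Lpn (LP (LK LD1_c12 LD2_c33 LD3_c26))))))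
theorem f431227 : Led Lsl_gf (LP (LK LD1_c12 LD2_c59 LD3_c7)) = (LP (LK LD1_c12 LD2_c33 LD3_c26)) :=
  Lgr Lrot47 (Lpr_gt (f431198 IH) (Lpe (f134475 IH) (Lpr_ff (f134413 IH) (Lpn (LP (LK LD1_c12 LD2_c33 LD3_c26))))))
theorem f146163 : Led Lsl_dt (LP (LK LD1_c0 LD2_c45 LD3_c4)) = (LP (LK LD1_c1 LD2_c37 LD3_c25)) :=
  Lre_d IH (LK LD1_c0 LD2_c45 LD3_c4) (LK LD1_c1 LD2_c37 LD3_c25) Lrfl Lrfl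
theorem f143799 : Led Lsl_ft (LP (LK LD1_c6 LD2_c9 LD3_c35)) = (LP (LK LD1_c4 LD2_c43 LD3_c59)) :=
  Lgr Lrot101 (Lpr_af (K6.f143793 IH) (Lpe (K6.f125336 IH) (Lpr_af (K3.f107482 IH) (Lpn (LP (LK LD1_c4 LD2_c43 LD3_c59))))))
theorem f143801 : Led Lsl_ff (LP (LK LD1_c6 LD2_c49 LD3_c9)) = (LP (LK LD1_c6 LD2_c48 LD3_c28)) :=
  Lgr Lrot23 (Lpe (K6.f143749 IH) (Lpr_ft (f143799 IH) (Lpr_ct (K6.f134063 IH) (Lpn (LP (LK LD1_c6 LD2_c48 LD3_c28))))))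
theorem f143797 : Led Lsl_at (LP (LK LD1_c6 LD2_c49 LD3_c9)) = (LP (LK LD1_c6 LD2_c19 LD3_c15)) :=
  Lgr Lrot107 (Lpe (K6.f143753 IH) (Lpr_af (K6.f143793 IH) (Lpe (K6.f62623 IH) (Lpn (LP (LK LD1_c6 LD2_c19 LD3_c15))))))
theorem f143849 : Led Lsl_gf (LP (LK LD1_c6 LD2_c19 LD3_c15)) = (LP (LK LD1_c6 LD2_c49 LD3_c8)) :=
  Lgr Lrot76 (Lpe (f143797 IH) (Lpr_ff (f143801 IH) (Lpr_gt (K6.f143847 IH) (Lpn (LP (LK LD1_c6 LD2_c49 LD3_c8))))))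
theorem f155905 : Led Lsl_gf (LP (LK LD1_c6 LD2_c48 LD3_c18)) = (LP (LK LD1_c12 LD2_c13 LD3_c61)) :=
  Lgr Lrot143 (Lpr_dt (K7.f155904 IH) (Lpe (K7.f153422 IH) (Lpe (f146163 IH) (Lpr_gf (K7.f155900 IH) (Lpe (K5.f62617 IH) (Lpe (K6.f142987 IH) (Lpe (K6.f113280 IH) (Lpe (f143849 IH) (Lpr_dt (K5.f62616 IH) (Lpn (LP (LK LD1_c12 LD2_c13 LD3_c61))))))))))))
theorem f84237 : Led Lsl_dt (LP (LK LD1_c6 LD2_c48 LD3_c15)) = (LP (LK LD1_c12 LD2_c59 LD3_c10)) :=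
  Lre_d IH (LK LD1_c6 LD2_c48 LD3_c15) (LK LD1_c12 LD2_c59 LD3_c10) Lrfl Lrfl
theorem f431200 : Led Lsl_ct (LP (LK LD1_c12 LD2_c59 LD3_c7)) = (LP (LK LD1_c12 LD2_c59 LD3_c10)) :=
  Lgr Lrot7 (Lpe (f155995 IH) (Lpr_gf (f431195 IH) (Lpr_df (K6.f145563 IH) (Lpe (K6.f125349 IH) (Lpr_cf (K5.f125342 IH) (Lpe (f155905 IH) (Lpr_dt (K7.f155904 IH) (Lpr_gt (f84236 IH) (Lpr_dt (f84237 IH) (Lpn (LP (LK LD1_c12 LD2_c59 LD3_c10))))))))))))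
theorem f431230 : Led Lsl_gt (LP (LK LD1_c12 LD2_c59 LD3_c10)) = (LP (LK LD1_c12 LD2_c33 LD3_c20)) :=
  Lgr Lrot150 (Lpe (f431200 IH) (Lpr_gf (f431227 IH) (Lpe (K7.f134412 IH) (Lpr_gt (K6.f24375 IH) (Lpr_ct (K5.f24355 IH) (Lpr_gt (K6.f143745 IH) (Lpr_ct (K6.f113144 IH) (Lpe (K11.f113302 IH) (Lpe (K11.f143856 IH) (Lpn (LP (LK LD1_c12 LD2_c33 LD3_c20))))))))))))
theorem f431232 : Led Lsl_gf (LP (LK LD1_c12 LD2_c59 LD3_c10)) = (LP (LK LD1_c6 LD2_c49 LD3_c11)) :=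
  Lgr Lrot47 (Lpr_gt (f431230 IH) (Lpe (K11.f143773 IH) (Lpr_ff (K11.f143845 IH) (Lpn (LP (LK LD1_c6 LD2_c49 LD3_c11))))))
theorem f143824 : Led Lsl_af (LP (LK LD1_c6 LD2_c49 LD3_c9)) = (LP (LK LD1_c6 LD2_c19 LD3_c15)) :=
  Lgr Lrot0 (Lpr_at (f143797 IH) (Lpn (LP (LK LD1_c6 LD2_c19 LD3_c15))))
theorem f143826 : Led Lsl_gf (LP (LK LD1_c3 LD2_c22 LD3_c48)) = (LP (LK LD1_c6 LD2_c28 LD3_c9)) :=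
  Lgr Lrot47 (Lpr_gt (K6.f113177 IH) (Lpr_af (f143824 IH) (Lpe (K6.f134112 IH) (Lpn (LP (LK LD1_c6 LD2_c28 LD3_c9))))))
theorem f431781 : Led Lsl_gf (LP (LK LD1_c3 LD2_c7 LD3_c61)) = (LP (LK LD1_c3 LD2_c28 LD3_c27)) :=
  Lgr Lrot143 (Lpr_dt (K33.f145713 IH) (Lpr_cf (f431681 IH) (Lpe (f155908 IH) (Lpr_gf (f431232 IH) (Lpe (K11.f113174 IH) (Lpr_gf (f143826 IH) (Lpe (K6.f24353 IH) (Lpr_gt (K6.f134407 IH) (Lpr_dt (K7.f76760 IH) (Lpn (LP (LK LD1_c3 LD2_c28 LD3_c27))))))))))))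
theorem f145718 : Led Lsl_at (LP (LK LD1_c1 LD2_c30 LD3_c11)) = (LP (LK LD1_c3 LD2_c7 LD3_c61)) :=
  Lre_a IH (LK LD1_c1 LD2_c30 LD3_c11) (LK LD1_c3 LD2_c7 LD3_c61) Lrfl Lrfl
theorem f431189 : Led Lsl_gt (LP (LK LD1_c3 LD2_c7 LD3_c25)) = (LP (LK LD1_c3 LD2_c28 LD3_c27)) :=
  Lgr Lrot94 (Lpr_cf (f431185 IH) (Lpr_gt (K11.f113135 IH) (Lpr_dt (K11.f112966 IH) (Lpe (K33.f143747 IH) (Lpr_dt (K5.f62389 IH) (Lpe (K5.f126645 IH) (Lpe (K6.f126652 IH) (Lpr_gf (K6.f143791 IH) (Lpr_df (K3.f76777 IH) (Lpn (LP (LK LD1_c3 LD2_c28 LD3_c27))))))))))))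
theorem f431795 : Led Lsl_ff (LP (LK LD1_c1 LD2_c30 LD3_c11)) = (LP (LK LD1_c3 LD2_c7 LD3_c25)) :=
  Lgr Lrot52 (Lpr_at (f145718 IH) (Lpr_gf (f431781 IH) (Lpe (f431189 IH) (Lpn (LP (LK LD1_c3 LD2_c7 LD3_c25))))))
theorem f431805 : Led Lsl_ft (LP (LK LD1_c1 LD2_c30 LD3_c11)) = (LP (LK LD1_c3 LD2_c7 LD3_c25)) :=
  Lgr Lrot48 (Lpr_ff (f431795 IH) (Lpn (LP (LK LD1_c3 LD2_c7 LD3_c25))))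
theorem f145502 : Led Lsl_ct (LP (LK LD1_c0 LD2_c43 LD3_c40)) = (LP (LK LD1_c1 LD2_c34 LD3_c8)) :=
  Lre_c IH (LK LD1_c0 LD2_c43 LD3_c40) (LK LD1_c1 LD2_c34 LD3_c8) Lrfl Lrfl
theorem f145503 : Led Lsl_et (LP (LK LD1_c1 LD2_c34 LD3_c8)) = (LP (LK LD1_c1 LD2_c30 LD3_c11)) :=
  Lgr Lrot158 (Lpe (f145502 IH) (Lpe (K6.f112967 IH) (Lpr_cf (K6.f145496 IH) (Lpn (LP (LK LD1_c1 LD2_c30 LD3_c11))))))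
theorem f155490 : Led Lsl_ef (LP (LK LD1_c3 LD2_c7 LD3_c25)) = (LP (LK LD1_c3 LD2_c7 LD3_c25)) :=
  Lgr Lrot29 (Lpr_bt (K11.f104712 IH) (Lpr_et (K7.f155488 IH) (Lpr_bt (K11.f155461 IH) (Lpn (LP (LK LD1_c3 LD2_c7 LD3_c25))))))
theorem f104196 : Led Lsl_cf (LP (LK LD1_c1 LD2_c37 LD3_c53)) = (LP (LK LD1_c1 LD2_c49 LD3_c48)) :=
  Lgr Lrot39 (Lpr_et (K2.f95560 IH) (Lpr_ct (K3.f104193 IH) (Lpr_et (K2.f85061 IH) (Lpn (LP (LK LD1_c1 LD2_c49 LD3_c48))))))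
theorem f430233 : Led Lsl_gf (LP (LK LD1_c1 LD2_c37 LD3_c53)) = (LP (LK LD1_c1 LD2_c34 LD3_c8)) :=
  Lgr Lrot129 (Lpr_cf (f104196 IH) (Lpr_bt (K2.f85050 IH) (Lpe (K11.f85057 IH) (Lpr_bf (K11.f430225 IH) (Lpr_ct (K11.f124178 IH) (Lpe (K11.f156366 IH) (Lpe (K7.f156349 IH) (Lpe (K11.f156432 IH) (Lpr_gt (K7.f156486 IH) (Lpr_ct (f145502 IH) (Lpn (LP (LK LD1_c1 LD2_c34 LD3_c8)))))))))))))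
theorem f430237 : Led Lsl_et (LP (LK LD1_c1 LD2_c30 LD3_c11)) = (LP (LK LD1_c1 LD2_c34 LD3_c8)) :=
  Lgr Lrot185 (Lpr_dt (K6.f145521 IH) (Lpe (K6.f145505 IH) (Lpe (K6.f145506 IH) (Lpr_gf (K5.f126639 IH) (Lpr_ef (K5.f126661 IH) (Lpr_dt (K5.f126550 IH) (Lpe (K5.f95632 IH) (Lpe (K2.f91969 IH) (Lpr_et (K2.f95554 IH) (Lpr_gf (f430233 IH) (Lpn (LP (LK LD1_c1 LD2_c34 LD3_c8)))))))))))))
theorem f431813 : Led Lsl_ff (LP (LK LD1_c1 LD2_c34 LD3_c8)) = (LP (LK LD1_c1 LD2_c34 LD3_c8)) :=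
  Lgr Lrot72 (Lpr_et (f145503 IH) (Lpr_ft (f431805 IH) (Lpe (f155490 IH) (Lpe (f431795 IH) (Lpr_et (f430237 IH) (Lpn (LP (LK LD1_c1 LD2_c34 LD3_c8))))))))
theorem f24291 : Led Lsl_ct (LP (LK LD1_c1 LD2_c34 LD3_c8)) = (LP (LK LD1_c0 LD2_c43 LD3_c40)) :=
  Lre_c IH (LK LD1_c1 LD2_c34 LD3_c8) (LK LD1_c0 LD2_c43 LD3_c40) Lrfl Lrfl
theorem f431817 : Led Lsl_ft (LP (LK LD1_c0 LD2_c43 LD3_c40)) = (LP (LK LD1_c0 LD2_c43 LD3_c40)) :=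
  Lgr Lrot4 (Lpe (f24291 IH) (Lpr_ff (f431813 IH) (Lpe (f145502 IH) (Lpn (LP (LK LD1_c0 LD2_c43 LD3_c40))))))
theorem f431821 : Led Lsl_af (LP (LK LD1_c0 LD2_c43 LD3_c39)) = (LP (LK LD1_c0 LD2_c43 LD3_c40)) :=
  Lgr Lrot31 (Lpe (K11.f24289 IH) (Lpe (K6.f24290 IH) (Lpr_ft (f431817 IH) (Lpn (LP (LK LD1_c0 LD2_c43 LD3_c40))))))
theorem f431823 : Led Lsl_at (LP (LK LD1_c0 LD2_c43 LD3_c39)) = (LP (LK LD1_c0 LD2_c43 LD3_c40)) :=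
  Lgr Lrot100 (Lpr_af (f431821 IH) (Lpn (LP (LK LD1_c0 LD2_c43 LD3_c40))))
theorem f431825 : Led Lsl_ft (LP (LK LD1_c0 LD2_c43 LD3_c39)) = (LP (LK LD1_c0 LD2_c43 LD3_c39)) :=
  Lgr Lrot101 (Lpr_af (f431821 IH) (Lpe (f431817 IH) (Lpe (f431823 IH) (Lpn (LP (LK LD1_c0 LD2_c43 LD3_c39))))))
theorem f431673 : Led Lsl_ft (LP (LK LD1_c1 LD2_c34 LD3_c6)) = (LP (LK LD1_c3 LD2_c8 LD3_c6)) :=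
  Lgr Lrot4 (Lpr_cf (K33.f431669 IH) (Lpe (K6.f145644 IH) (Lpr_cf (K11.f209576 IH) (Lpn (LP (LK LD1_c3 LD2_c8 LD3_c6))))))
theorem f431827 : Led Lsl_ff (LP (LK LD1_c1 LD2_c34 LD3_c6)) = (LP (LK LD1_c3 LD2_c8 LD3_c6)) :=
  Lgr Lrot72 (Lpr_et (K33.f126571 IH) (Lpr_ft (f431825 IH) (Lpr_et (K33.f431662 IH) (Lpr_ft (f431673 IH) (Lpe (K11.f209580 IH) (Lpn (LP (LK LD1_c3 LD2_c8 LD3_c6))))))))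
theorem f431671 : Led Lsl_at (LP (LK LD1_c1 LD2_c34 LD3_c6)) = (LP (LK LD1_c1 LD2_c34 LD3_c9)) :=
  Lgr Lrot107 (Lpr_cf (K33.f431669 IH) (Lpe (f145718 IH) (Lpe (K7.f145499 IH) (Lpn (LP (LK LD1_c1 LD2_c34 LD3_c9))))))
theorem f431801 : Led Lsl_ft (LP (LK LD1_c1 LD2_c34 LD3_c9)) = (LP (LK LD1_c1 LD2_c37 LD3_c43)) :=
  Lgr Lrot4 (Lpr_cf (K6.f145496 IH) (Lpr_ff (f431795 IH) (Lpr_cf (f431185 IH) (Lpn (LP (LK LD1_c1 LD2_c37 LD3_c43))))))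
theorem f431829 : Led Lsl_at (LP (LK LD1_c1 LD2_c37 LD3_c43)) = (LP (LK LD1_c3 LD2_c8 LD3_c6)) :=
  Lgr Lrot66 (Lpe (f431801 IH) (Lpe (f431671 IH) (Lpr_ff (f431827 IH) (Lpn (LP (LK LD1_c3 LD2_c8 LD3_c6))))))
theorem f431833 : Led Lsl_af (LP (LK LD1_c3 LD2_c22 LD3_c17)) = (LP (LK LD1_c3 LD2_c1 LD3_c18)) :=
  Lgr Lrot117 (Lpr_dt (f431177 IH) (Lpr_at (f431829 IH) (Lpe (K11.f209578 IH) (Lpn (LP (LK LD1_c3 LD2_c1 LD3_c18))))))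
theorem f430761 : Led Lsl_et (LP (LK LD1_c3 LD2_c22 LD3_c17)) = (LP (LK LD1_c6 LD2_c48 LD3_c14)) :=
  Lre_e IH (LK LD1_c3 LD2_c22 LD3_c17) (LK LD1_c6 LD2_c48 LD3_c14) Lrfl Lrfl
theorem f62370 : Led Lsl_et (LP (LK LD1_c6 LD2_c9 LD3_c38)) = (LP (LK LD1_c3 LD2_c1 LD3_c18)) :=
  Lre_e IH (LK LD1_c6 LD2_c9 LD3_c38) (LK LD1_c3 LD2_c1 LD3_c18) Lrfl Lrfl
theorem f431839 : Led Lsl_at (LP (LK LD1_c6 LD2_c48 LD3_c14)) = (LP (LK LD1_c6 LD2_c9 LD3_c38)) :=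
  Lgr Lrot80 (Lpe (f430761 IH) (Lpr_af (f431833 IH) (Lpe (f62370 IH) (Lpn (LP (LK LD1_c6 LD2_c9 LD3_c38))))))
theorem f430802 : Led Lsl_ct (LP (LK LD1_c12 LD2_c59 LD3_c8)) = (LP (LK LD1_c6 LD2_c48 LD3_c14)) :=
  Lre_c IH (LK LD1_c12 LD2_c59 LD3_c8) (LK LD1_c6 LD2_c48 LD3_c14) Lrfl Lrfl
theorem f209609 : Led Lsl_ct (LP (LK LD1_c6 LD2_c9 LD3_c38)) = (LP (LK LD1_c12 LD2_c0 LD3_c15)) :=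
  Lre_c IH (LK LD1_c6 LD2_c9 LD3_c38) (LK LD1_c12 LD2_c0 LD3_c15) Lrfl Lrfl
theorem f431843 : Led Lsl_af (LP (LK LD1_c12 LD2_c59 LD3_c8)) = (LP (LK LD1_c12 LD2_c0 LD3_c15)) :=
  Lgr Lrot68 (Lpr_ct (f430802 IH) (Lpr_at (f431839 IH) (Lpr_ct (f209609 IH) (Lpn (LP (LK LD1_c12 LD2_c0 LD3_c15))))))
theorem f431845 : Led Lsl_at (LP (LK LD1_c12 LD2_c59 LD3_c8)) = (LP (LK LD1_c12 LD2_c0 LD3_c15)) :=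
  Lgr Lrot100 (Lpr_af (f431843 IH) (Lpn (LP (LK LD1_c12 LD2_c0 LD3_c15))))
theorem f431229 : Led Lsl_et (LP (LK LD1_c6 LD2_c48 LD3_c13)) = (LP (LK LD1_c12 LD2_c59 LD3_c8)) :=
  Lre_e IH (LK LD1_c6 LD2_c48 LD3_c13) (LK LD1_c12 LD2_c59 LD3_c8) Lrfl Lrfl
theorem f145796 : Led Lsl_et (LP (LK LD1_c12 LD2_c0 LD3_c15)) = (LP (LK LD1_c6 LD2_c9 LD3_c37)) :=
  Lre_e IH (LK LD1_c12 LD2_c0 LD3_c15) (LK LD1_c6 LD2_c9 LD3_c37) Lrfl Lrfl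
theorem f431858 : Led Lsl_af (LP (LK LD1_c6 LD2_c48 LD3_c13)) = (LP (LK LD1_c6 LD2_c9 LD3_c37)) :=
  Lgr Lrot50 (Lpr_et (f431229 IH) (Lpr_at (f431845 IH) (Lpr_et (f145796 IH) (Lpn (LP (LK LD1_c6 LD2_c9 LD3_c37))))))
theorem f145660 : Led Lsl_dt (LP (LK LD1_c12 LD2_c0 LD3_c14)) = (LP (LK LD1_c6 LD2_c9 LD3_c37)) :=
  Lre_d IH (LK LD1_c12 LD2_c0 LD3_c14) (LK LD1_c6 LD2_c9 LD3_c37) Lrfl Lrfl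
theorem f431862 : Led Lsl_at (LP (LK LD1_c12 LD2_c59 LD3_c7)) = (LP (LK LD1_c12 LD2_c0 LD3_c14)) :=
  Lgr Lrot51 (Lpe (f155995 IH) (Lpr_af (f431858 IH) (Lpe (f145660 IH) (Lpn (LP (LK LD1_c12 LD2_c0 LD3_c14))))))
theorem f126799 : Led Lsl_dt (LP (LK LD1_c12 LD2_c0 LD3_c19)) = (LP (LK LD1_c6 LD2_c9 LD3_c40)) :=
  Lre_d IH (LK LD1_c12 LD2_c0 LD3_c19) (LK LD1_c6 LD2_c9 LD3_c40) Lrfl Lrfl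
theorem f431870 : Led Lsl_ff (LP (LK LD1_c12 LD2_c59 LD3_c7)) = (LP (LK LD1_c12 LD2_c0 LD3_c19)) :=
  Lgr Lrot103 (Lpr_at (f431862 IH) (Lpr_cf (K6.f145656 IH) (Lpe (K6.f126757 IH) (Lpr_cf (K6.f145518 IH) (Lpe (K6.f145521 IH) (Lpe (K7.f145499 IH) (Lpe (K6.f126847 IH) (Lpe (K6.f126800 IH) (Lpe (f126799 IH) (Lpn (LP (LK LD1_c12 LD2_c0 LD3_c19))))))))))))
theorem f431878 : Led Lsl_ft (LP (LK LD1_c12 LD2_c59 LD3_c7)) = (LP (LK LD1_c12 LD2_c0 LD3_c19)) :=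
  Lgr Lrot48 (Lpr_ff (f431870 IH) (Lpn (LP (LK LD1_c12 LD2_c0 LD3_c19))))
theorem f431884 : Led Lsl_ff (LP (LK LD1_c6 LD2_c48 LD3_c13)) = (LP (LK LD1_c6 LD2_c9 LD3_c40)) :=
  Lgr Lrot19 (Lpr_dt (f155995 IH) (Lpr_ft (f431878 IH) (Lpr_dt (f126799 IH) (Lpn (LP (LK LD1_c6 LD2_c9 LD3_c40))))))
theorem f431888 : Led Lsl_ft (LP (LK LD1_c3 LD2_c22 LD3_c17)) = (LP (LK LD1_c3 LD2_c1 LD3_c19)) :=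
  Lgr Lrot4 (Lpe (f155931 IH) (Lpr_ff (f431884 IH) (Lpe (K6.f126797 IH) (Lpn (LP (LK LD1_c3 LD2_c1 LD3_c19))))))
theorem f431892 : Led Lsl_ff (LP (LK LD1_c3 LD2_c22 LD3_c17)) = (LP (LK LD1_c3 LD2_c1 LD3_c19)) :=
  Lgr Lrot3 (Lpr_ft (f431888 IH) (Lpn (LP (LK LD1_c3 LD2_c1 LD3_c19))))
theorem f431894 : Led Lsl_ft (LP (LK LD1_c6 LD2_c41 LD3_c29)) = (LP (LK LD1_c6 LD2_c9 LD3_c39)) :=
  Lgr Lrot75 (Lpe (f430759 IH) (Lpr_ff (f431892 IH) (Lpe (f126745 IH) (Lpn (LP (LK LD1_c6 LD2_c9 LD3_c39))))))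
theorem f126846 : Led Lsl_bt (LP (LK LD1_c3 LD2_c1 LD3_c19)) = (LP (LK LD1_c6 LD2_c9 LD3_c39)) :=
  Lre_b IH (LK LD1_c3 LD2_c1 LD3_c19) (LK LD1_c6 LD2_c9 LD3_c39) Lrfl Lrfl
theorem f430729 : Led Lsl_df (LP (LK LD1_c3 LD2_c1 LD3_c28)) = (LP (LK LD1_c6 LD2_c9 LD3_c39)) :=
  Lgr Lrot12 (Lpr_bt (K11.f430725 IH) (Lpe (K6.f126844 IH) (Lpr_bt (f126846 IH) (Lpn (LP (LK LD1_c6 LD2_c9 LD3_c39))))))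
theorem f431898 : Led Lsl_ff (LP (LK LD1_c3 LD2_c22 LD3_c47)) = (LP (LK LD1_c3 LD2_c1 LD3_c28)) :=
  Lgr Lrot19 (Lpe (f431175 IH) (Lpr_ft (f431894 IH) (Lpe (f430729 IH) (Lpn (LP (LK LD1_c3 LD2_c1 LD3_c28))))))
theorem f431904 : Led Lsl_at (LP (LK LD1_c3 LD2_c22 LD3_c47)) = (LP (LK LD1_c3 LD2_c1 LD3_c29)) :=
  Lgr Lrot26 (Lpr_ff (f431898 IH) (Lpr_gt (K11.f431273 IH) (Lpe (K11.f431158 IH) (Lpn (LP (LK LD1_c3 LD2_c1 LD3_c29))))))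
theorem f431831 : Led Lsl_af (LP (LK LD1_c1 LD2_c37 LD3_c43)) = (LP (LK LD1_c3 LD2_c8 LD3_c6)) :=
  Lgr Lrot0 (Lpr_at (f431829 IH) (Lpn (LP (LK LD1_c3 LD2_c8 LD3_c6))))
theorem f431908 : Led Lsl_af (LP (LK LD1_c1 LD2_c30 LD3_c15)) = (LP (LK LD1_c3 LD2_c7 LD3_c26)) :=
  Lgr Lrot36 (Lpr_bt (K11.f104610 IH) (Lpe (f431831 IH) (Lpr_bt (K11.f431162 IH) (Lpr_at (f431904 IH) (Lpe (K7.f155459 IH) (Lpn (LP (LK LD1_c3 LD2_c7 LD3_c26))))))))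
theorem f431949 : Led Lsl_at (LP (LK LD1_c1 LD2_c30 LD3_c15)) = (LP (LK LD1_c3 LD2_c7 LD3_c26)) :=
  Lgr Lrot100 (Lpr_af (f431908 IH) (Lpn (LP (LK LD1_c3 LD2_c7 LD3_c26))))
theorem f104696 : Led Lsl_dt (LP (LK LD1_c3 LD2_c8 LD3_c7)) = (LP (LK LD1_c1 LD2_c30 LD3_c15)) :=
  Lre_d IH (LK LD1_c3 LD2_c8 LD3_c7) (LK LD1_c1 LD2_c30 LD3_c15) Lrfl Lrfl
theorem f647399 : Led Lsl_af (LP (LK LD1_c3 LD2_c8 LD3_c7)) = v5403 :=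
  Lgr Lrot117 (Lpr_dt (f104696 IH) (Lpr_at (f431949 IH) (Lpr_dt (f647398 IH) (Lpn v5403))))
theorem f131419 : Led Lsl_ct (LP (LK LD1_c3 LD2_c8 LD3_c7)) = (LP (LK LD1_c6 LD2_c20 LD3_c57)) :=
  Lre_c IH (LK LD1_c3 LD2_c8 LD3_c7) (LK LD1_c6 LD2_c20 LD3_c57) Lrfl Lrfl
theorem f647411 : Led Lsl_af (LP (LK LD1_c3 LD2_c11 LD3_c3)) = (LP (LK LD1_c6 LD2_c20 LD3_c57)) :=
  Lgr Lrot68 (Lpr_ct (f647404 IH) (Lpe (f647399 IH) (Lpr_ct (f131419 IH) (Lpn (LP (LK LD1_c6 LD2_c20 LD3_c57))))))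
theorem f647412 : Led Lsl_at (LP (LK LD1_c6 LD2_c20 LD3_c57)) = (LP (LK LD1_c3 LD2_c11 LD3_c3)) :=
  Leop (Lpr_af (f647411 IH) (Lpn (LP (LK LD1_c6 LD2_c20 LD3_c57))))
theorem seed_313 : LEOK LG_a (LK LD1_c6 LD2_c20 LD3_c57) :=
  Leoe_a (LK LD1_c6 LD2_c20 LD3_c57) (f647412 IH)
def v5426 : LQ := Led Lsl_ct (LP (LK LD1_c3 LD2_c7 LD3_c49))
theorem f647571 : Led Lsl_ct (LP (LK LD1_c3 LD2_c7 LD3_c49)) = v5426 :=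
  Lrfl
theorem f647573 : Led Lsl_cf (LP (LK LD1_c3 LD2_c7 LD3_c49)) = v5426 :=
  Lgr Lrot11 (Lpr_ct (f647571 IH) (Lpn v5426))
theorem f632276 : Led Lsl_gt (LP (LK LD1_c6 LD2_c19 LD3_c42)) = (LP (LK LD1_c3 LD2_c7 LD3_c49)) :=
  Lre_g IH (LK LD1_c6 LD2_c19 LD3_c42) (LK LD1_c3 LD2_c7 LD3_c49) Lrfl Lrfl
theorem f632274 : Led Lsl_ct (LP (LK LD1_c3 LD2_c7 LD3_c23)) = (LP (LK LD1_c6 LD2_c19 LD3_c42)) :=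
  Lre_c IH (LK LD1_c3 LD2_c7 LD3_c23) (LK LD1_c6 LD2_c19 LD3_c42) Lrfl Lrfl
theorem f504583 : Led Lsl_gt (LP (LK LD1_c1 LD2_c30 LD3_c7)) = (LP (LK LD1_c3 LD2_c7 LD3_c23)) :=
  Lre_g IH (LK LD1_c1 LD2_c30 LD3_c7) (LK LD1_c3 LD2_c7 LD3_c23) Lrfl Lrfl
theorem f419111 : Led Lsl_bt (LP (LK LD1_c3 LD2_c7 LD3_c52)) = (LP (LK LD1_c1 LD2_c30 LD3_c7)) :=
  Lre_b IH (LK LD1_c3 LD2_c7 LD3_c52) (LK LD1_c1 LD2_c30 LD3_c7) Lrfl Lrfl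
theorem f419112 : Led Lsl_ct (LP (LK LD1_c3 LD2_c7 LD3_c52)) = (LP (LK LD1_c6 LD2_c20 LD3_c38)) :=
  Lre_c IH (LK LD1_c3 LD2_c7 LD3_c52) (LK LD1_c6 LD2_c20 LD3_c38) Lrfl Lrfl
theorem f204547 : Led Lsl_gt (LP (LK LD1_c3 LD2_c7 LD3_c49)) = (LP (LK LD1_c1 LD2_c30 LD3_c6)) :=
  Lre_g IH (LK LD1_c3 LD2_c7 LD3_c49) (LK LD1_c1 LD2_c30 LD3_c6) Lrfl Lrfl
theorem f204601 : Led Lsl_ct (LP (LK LD1_c0 LD2_c41 LD3_c39)) = (LP (LK LD1_c1 LD2_c30 LD3_c6)) :=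
  Lre_c IH (LK LD1_c0 LD2_c41 LD3_c39) (LK LD1_c1 LD2_c30 LD3_c6) Lrfl Lrfl
theorem f153587 : Led Lsl_bt (LP (LK LD1_c0 LD2_c41 LD3_c39)) = (LP (LK LD1_c0 LD2_c18 LD3_c39)) :=
  Lre_b IH (LK LD1_c0 LD2_c41 LD3_c39) (LK LD1_c0 LD2_c18 LD3_c39) Lrfl Lrfl
theorem f139846 : Led Lsl_bt (LP (LK LD1_c0 LD2_c44 LD3_c36)) = (LP (LK LD1_c1 LD2_c36 LD3_c5)) :=
  Lre_b IH (LK LD1_c0 LD2_c44 LD3_c36) (LK LD1_c1 LD2_c36 LD3_c5) Lrfl Lrfl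
theorem f139847 : Led Lsl_gt (LP (LK LD1_c1 LD2_c36 LD3_c5)) = (LP (LK LD1_c3 LD2_c18 LD3_c60)) :=
  Lre_g IH (LK LD1_c1 LD2_c36 LD3_c5) (LK LD1_c3 LD2_c18 LD3_c60) Lrfl Lrfl
theorem f647575 : Led Lsl_bf (LP (LK LD1_c3 LD2_c18 LD3_c60)) = v5426 :=
  Lgr Lrot34 (Lpe (f139847 IH) (Lpe (f139846 IH) (Lpr_ct (K6.f139833 IH) (Lpe (K32.f438467 IH) (Lpe (K32.f435552 IH) (Lpe (K24.f82572 IH) (Lpe (f153587 IH) (Lpr_ct (f204601 IH) (Lpe (f204547 IH) (Lpr_cf (f647573 IH) (Lpn v5426)))))))))))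
theorem f24837 : Led Lsl_gt (LP (LK LD1_c3 LD2_c18 LD3_c60)) = (LP (LK LD1_c1 LD2_c35 LD3_c59)) :=
  Lre_g IH (LK LD1_c3 LD2_c18 LD3_c60) (LK LD1_c1 LD2_c35 LD3_c59) Lrfl Lrfl
theorem f135749 : Led Lsl_bt (LP (LK LD1_c2 LD2_c21 LD3_c45)) = (LP (LK LD1_c1 LD2_c35 LD3_c59)) :=
  Lgr Lrot127 (Lpr_bf (K6.f135741 IH) (Lpn (LP (LK LD1_c1 LD2_c35 LD3_c59))))
theorem f135751 : Led Lsl_ct (LP (LK LD1_c2 LD2_c21 LD3_c45)) = (LP (LK LD1_c4 LD2_c47 LD3_c44)) :=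
  Lre_c IH (LK LD1_c2 LD2_c21 LD3_c45) (LK LD1_c4 LD2_c47 LD3_c44) Lrfl Lrfl
theorem f647576 : Led Lsl_gf (LP (LK LD1_c6 LD2_c20 LD3_c38)) = (LP (LK LD1_c4 LD2_c47 LD3_c44)) :=
  Lgr Lrot126 (Lpe (f419112 IH) (Lpr_bt (f419111 IH) (Lpr_gt (f504583 IH) (Lpr_ct (f632274 IH) (Lpr_gt (f632276 IH) (Lpr_cf (f647573 IH) (Lpe (f647575 IH) (Lpr_gt (f24837 IH) (Lpe (f135749 IH) (Lpr_ct (f135751 IH) (Lpn (LP (LK LD1_c4 LD2_c47 LD3_c44)))))))))))))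
theorem f647577 : Led Lsl_gt (LP (LK LD1_c4 LD2_c47 LD3_c44)) = (LP (LK LD1_c6 LD2_c20 LD3_c38)) :=
  Leop (Lpr_gf (f647576 IH) (Lpn (LP (LK LD1_c4 LD2_c47 LD3_c44))))
theorem seed_314 : LEOK LG_g (LK LD1_c4 LD2_c47 LD3_c44) :=
  Leoe_g (LK LD1_c4 LD2_c47 LD3_c44) (f647577 IH)
theorem f139848 : Led Lsl_ct (LP (LK LD1_c3 LD2_c18 LD3_c60)) = (LP (LK LD1_c6 LD2_c41 LD3_c60)) :=
  Lre_c IH (LK LD1_c3 LD2_c18 LD3_c60) (LK LD1_c6 LD2_c41 LD3_c60) Lrfl Lrfl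
theorem f204548 : Led Lsl_bt (LP (LK LD1_c6 LD2_c20 LD3_c31)) = (LP (LK LD1_c3 LD2_c7 LD3_c49)) :=
  Lre_b IH (LK LD1_c6 LD2_c20 LD3_c31) (LK LD1_c3 LD2_c7 LD3_c49) Lrfl Lrfl
theorem f647572 : Led Lsl_ct (LP (LK LD1_c12 LD2_c15 LD3_c33)) = (LP (LK LD1_c6 LD2_c20 LD3_c31)) :=
  Lre_c IH (LK LD1_c12 LD2_c15 LD3_c33) (LK LD1_c6 LD2_c20 LD3_c31) Lrfl Lrfl
theorem f647585 : Led Lsl_bt (LP (LK LD1_c6 LD2_c41 LD3_c60)) = (LP (LK LD1_c12 LD2_c15 LD3_c33)) :=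
  Lgr Lrot128 (Lpe (f139848 IH) (Lpr_bf (f647575 IH) (Lpe (f647571 IH) (Lpe (f204548 IH) (Lpe (f647572 IH) (Lpn (LP (LK LD1_c12 LD2_c15 LD3_c33))))))))
theorem f647586 : Led Lsl_bt (LP (LK LD1_c6 LD2_c41 LD3_c60)) = (LP (LK LD1_c12 LD2_c15 LD3_c33)) :=
  Leop (Lpe (f647585 IH) (Lpn (LP (LK LD1_c6 LD2_c41 LD3_c60))))
theorem seed_315 : LEOK LG_b (LK LD1_c6 LD2_c41 LD3_c60) :=
  Leoe_b (LK LD1_c6 LD2_c41 LD3_c60) (f647586 IH)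
def v5434 : LQ := Led Lsl_ft (LP (LK LD1_c3 LD2_c7 LD3_c53))
theorem f647626 : Led Lsl_ft (LP (LK LD1_c3 LD2_c7 LD3_c53)) = v5434 :=
  Lrfl
theorem f419114 : Led Lsl_gt (LP (LK LD1_c3 LD2_c7 LD3_c53)) = (LP (LK LD1_c6 LD2_c20 LD3_c41)) :=
  Lre_g IH (LK LD1_c3 LD2_c7 LD3_c53) (LK LD1_c6 LD2_c20 LD3_c41) Lrfl Lrfl
def v5432 : LQ := Led Lsl_at (LP (LK LD1_c3 LD2_c7 LD3_c53))
theorem f647610 : Led Lsl_at (LP (LK LD1_c3 LD2_c7 LD3_c53)) = v5432 :=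
  Lrfl
theorem f647611 : Led Lsl_af (LP (LK LD1_c3 LD2_c7 LD3_c53)) = v5432 :=
  Lgr Lrot0 (Lpr_at (f647610 IH) (Lpn v5432))
theorem f419113 : Led Lsl_ct (LP (LK LD1_c1 LD2_c30 LD3_c7)) = (LP (LK LD1_c3 LD2_c7 LD3_c53)) :=
  Lre_c IH (LK LD1_c1 LD2_c30 LD3_c7) (LK LD1_c3 LD2_c7 LD3_c53) Lrfl Lrfl
def v1855 : LQ := Led Lsl_at (LP (LK LD1_c1 LD2_c30 LD3_c7))
theorem f504584 : Led Lsl_at (LP (LK LD1_c1 LD2_c30 LD3_c7)) = v1855 :=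
  Lrfl
theorem f504585 : Led Lsl_af (LP (LK LD1_c1 LD2_c30 LD3_c7)) = v1855 :=
  Lgr Lrot0 (Lpr_at (f504584 IH) (Lpn v1855))
theorem f647612 : Led Lsl_cf v1855 = v5432 :=
  Lgr Lrot1 (Lpe (f504585 IH) (Lpr_ct (f419113 IH) (Lpr_at (f647610 IH) (Lpn v5432))))
theorem f110453 : Led Lsl_gt (LP (LK LD1_c0 LD2_c41 LD3_c39)) = (LP (LK LD1_c1 LD2_c30 LD3_c7)) :=
  Lre_g IH (LK LD1_c0 LD2_c41 LD3_c39) (LK LD1_c1 LD2_c30 LD3_c7) Lrfl Lrfl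
theorem f126938 : Led Lsl_gt (LP (LK LD1_c1 LD2_c30 LD3_c8)) = (LP (LK LD1_c0 LD2_c41 LD3_c39)) :=
  Lre_g IH (LK LD1_c1 LD2_c30 LD3_c8) (LK LD1_c0 LD2_c41 LD3_c39) Lrfl Lrfl
theorem f504590 : Led Lsl_ft (LP (LK LD1_c1 LD2_c30 LD3_c8)) = v1855 :=
  Lgr Lrot2 (Lpr_gt (f126938 IH) (Lpr_gt (f110453 IH) (Lpr_af (f504585 IH) (Lpn v1855))))
theorem f504593 : Led Lsl_ff (LP (LK LD1_c1 LD2_c30 LD3_c8)) = v1855 :=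
  Lgr Lrot3 (Lpr_ft (f504590 IH) (Lpn v1855))
theorem f504595 : Led Lsl_ct (LP (LK LD1_c1 LD2_c30 LD3_c8)) = (LP (LK LD1_c3 LD2_c7 LD3_c57)) :=
  Lre_c IH (LK LD1_c1 LD2_c30 LD3_c8) (LK LD1_c3 LD2_c7 LD3_c57) Lrfl Lrfl
theorem f647614 : Led Lsl_ft (LP (LK LD1_c3 LD2_c7 LD3_c57)) = v5432 :=
  Lgr Lrot4 (Lpe (f504595 IH) (Lpr_ff (f504593 IH) (Lpr_cf (f647612 IH) (Lpn v5432))))
theorem f647627 : Led Lsl_af (LP (LK LD1_c3 LD2_c7 LD3_c57)) = v5434 :=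
  Lgr Lrot45 (Lpr_ft (f647614 IH) (Lpe (f647611 IH) (Lpr_ft (f647626 IH) (Lpn v5434))))
theorem f647630 : Led Lsl_gt (LP (LK LD1_c6 LD2_c20 LD3_c41)) = (LP (LK LD1_c3 LD2_c7 LD3_c57)) :=
  Lgr Lrot46 (Lpe (f419114 IH) (Lpr_ft (f647626 IH) (Lpe (f647627 IH) (Lpn (LP (LK LD1_c3 LD2_c7 LD3_c57))))))
theorem f647631 : Led Lsl_gt (LP (LK LD1_c6 LD2_c20 LD3_c41)) = (LP (LK LD1_c3 LD2_c7 LD3_c57)) :=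
  Leop (Lpe (f647630 IH) (Lpn (LP (LK LD1_c6 LD2_c20 LD3_c41))))
theorem seed_316 : LEOK LG_g (LK LD1_c6 LD2_c20 LD3_c41) :=
  Leoe_g (LK LD1_c6 LD2_c20 LD3_c41) (f647631 IH)
def v5485 : LQ := Led Lsl_et (LP (LK LD1_c3 LD2_c8 LD3_c25))
theorem f647885 : Led Lsl_et (LP (LK LD1_c3 LD2_c8 LD3_c25)) = v5485 :=
  Lrfl
theorem f647888 : Led Lsl_ef (LP (LK LD1_c3 LD2_c8 LD3_c25)) = v5485 :=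
  Lgr Lrot88 (Lpr_et (f647885 IH) (Lpn v5485))
def v4288 : LQ := Led Lsl_at (LP (LK LD1_c2 LD2_c18 LD3_c20))
theorem f632405 : Led Lsl_at (LP (LK LD1_c2 LD2_c18 LD3_c20)) = v4288 :=
  Lrfl
def v1882 : LQ := Led Lsl_ft (LP (LK LD1_c1 LD2_c30 LD3_c29))
theorem f504785 : Led Lsl_ft (LP (LK LD1_c1 LD2_c30 LD3_c29)) = v1882 :=
  Lrfl
theorem f504787 : Led Lsl_ff (LP (LK LD1_c1 LD2_c30 LD3_c29)) = v1882 :=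
  Lgr Lrot3 (Lpr_ft (f504785 IH) (Lpn v1882))
theorem f419106 : Led Lsl_bt (LP (LK LD1_c1 LD2_c30 LD3_c29)) = (LP (LK LD1_c0 LD2_c41 LD3_c47)) :=
  Lre_b IH (LK LD1_c1 LD2_c30 LD3_c29) (LK LD1_c0 LD2_c41 LD3_c47) Lrfl Lrfl
theorem f504790 : Led Lsl_bt K32.v470 = v1882 :=
  Lgr Lrot35 (Lpe (K32.f453514 IH) (Lpe (f419106 IH) (Lpr_ff (f504787 IH) (Lpn v1882))))
theorem f82694 : Led Lsl_bt (LP (LK LD1_c1 LD2_c6 LD3_c11)) = (LP (LK LD1_c2 LD2_c18 LD3_c20)) :=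
  Lre_b IH (LK LD1_c1 LD2_c6 LD3_c11) (LK LD1_c2 LD2_c18 LD3_c20) Lrfl Lrfl
theorem f504864 : v1882 = (LP (LK LD1_c2 LD2_c18 LD3_c20)) :=
  Lefun (Lecon (f504790 IH) (K32.f504860 IH)) (f82694 IH)
theorem f453520 : Led Lsl_at (LP (LK LD1_c3 LD2_c8 LD3_c38)) = (LP (LK LD1_c1 LD2_c30 LD3_c29)) :=
  Lre_a IH (LK LD1_c3 LD2_c8 LD3_c38) (LK LD1_c1 LD2_c30 LD3_c29) Lrfl Lrfl
theorem f632409 : Led Lsl_ff (LP (LK LD1_c3 LD2_c8 LD3_c38)) = v4288 :=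
  Lgr Lrot30 (Lpr_at (f453520 IH) (Lpr_ft (f504785 IH) (Lpqs (f504864 IH) (Lpr_at (f632405 IH) (Lpn v4288)))))
theorem f82838 : Led Lsl_bt (LP (LK LD1_c4 LD2_c42 LD3_c8)) = (LP (LK LD1_c2 LD2_c18 LD3_c23)) :=
  Lre_b IH (LK LD1_c4 LD2_c42 LD3_c8) (LK LD1_c2 LD2_c18 LD3_c23) Lrfl Lrfl
theorem f506054 : Led Lsl_at (LP (LK LD1_c9 LD2_c18 LD3_c35)) = (LP (LK LD1_c4 LD2_c42 LD3_c8)) :=
  Lre_a IH (LK LD1_c9 LD2_c18 LD3_c35) (LK LD1_c4 LD2_c42 LD3_c8) Lrfl Lrfl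
def v1876 : LQ := Led Lsl_at (LP (LK LD1_c1 LD2_c30 LD3_c27))
theorem f504682 : Led Lsl_at (LP (LK LD1_c1 LD2_c30 LD3_c27)) = v1876 :=
  Lrfl
theorem f504683 : Led Lsl_af (LP (LK LD1_c1 LD2_c30 LD3_c27)) = v1876 :=
  Lgr Lrot0 (Lpr_at (f504682 IH) (Lpn v1876))
theorem f504685 : Led Lsl_df K32.v470 = v1876 :=
  Lgr Lrot18 (Lpe (K32.f453511 IH) (Lpr_dt (K32.f82582 IH) (Lpr_at (f504682 IH) (Lpn v1876))))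
theorem f504687 : Led Lsl_ft (LP (LK LD1_c1 LD2_c30 LD3_c31)) = v1876 :=
  Lgr Lrot54 (Lpe (K32.f146039 IH) (Lpr_ff (K42.f453515 IH) (Lpr_df (f504685 IH) (Lpn v1876))))
theorem f504691 : Led Lsl_af (LP (LK LD1_c1 LD2_c30 LD3_c31)) = K32.v1877 :=
  Lgr Lrot45 (Lpr_ft (f504687 IH) (Lpe (f504683 IH) (Lpr_ft (K32.f504690 IH) (Lpn K32.v1877))))
theorem f438518 : Led Lsl_bt (LP (LK LD1_c1 LD2_c30 LD3_c31)) = (LP (LK LD1_c3 LD2_c8 LD3_c40)) :=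
  Lre_b IH (LK LD1_c1 LD2_c30 LD3_c31) (LK LD1_c3 LD2_c8 LD3_c40) Lrfl Lrfl
theorem f504697 : Led Lsl_at (LP (LK LD1_c3 LD2_c8 LD3_c40)) = (LP (LK LD1_c6 LD2_c21 LD3_c52)) :=
  Lre_a IH (LK LD1_c3 LD2_c8 LD3_c40) (LK LD1_c6 LD2_c21 LD3_c52) Lrfl Lrfl
theorem f506103 : Led Lsl_bf (LP (LK LD1_c9 LD2_c18 LD3_c35)) = (LP (LK LD1_c6 LD2_c21 LD3_c52)) :=
  Lgr Lrot81 (Lpr_at (f506054 IH) (Lpr_bt (f82838 IH) (Lpq (K32.f504896 IH) (Lpe (f504691 IH) (Lpr_bt (f438518 IH) (Lpr_at (f504697 IH) (Lpn (LP (LK LD1_c6 LD2_c21 LD3_c52)))))))))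
theorem f506040 : Led Lsl_dt (LP (LK LD1_c9 LD2_c18 LD3_c35)) = (LP (LK LD1_c4 LD2_c42 LD3_c6)) :=
  Lre_d IH (LK LD1_c9 LD2_c18 LD3_c35) (LK LD1_c4 LD2_c42 LD3_c6) Lrfl Lrfl
theorem f505896 : Led Lsl_dt (LP (LK LD1_c3 LD2_c8 LD3_c38)) = (LP (LK LD1_c6 LD2_c21 LD3_c52)) :=
  Lre_d IH (LK LD1_c3 LD2_c8 LD3_c38) (LK LD1_c6 LD2_c21 LD3_c52) Lrfl Lrfl
theorem f506107 : Led Lsl_bt (LP (LK LD1_c4 LD2_c42 LD3_c6)) = (LP (LK LD1_c3 LD2_c8 LD3_c38)) :=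
  Lgr Lrot95 (Lpe (f506040 IH) (Lpr_bf (f506103 IH) (Lpe (f505896 IH) (Lpn (LP (LK LD1_c3 LD2_c8 LD3_c38))))))
theorem f506109 : Led Lsl_bf (LP (LK LD1_c4 LD2_c42 LD3_c6)) = (LP (LK LD1_c3 LD2_c8 LD3_c38)) :=
  Lgr Lrot24 (Lpr_bt (f506107 IH) (Lpn (LP (LK LD1_c3 LD2_c8 LD3_c38))))
theorem f505085 : Led Lsl_af (LP (LK LD1_c6 LD2_c21 LD3_c47)) = (LP (LK LD1_c6 LD2_c43 LD3_c5)) :=
  Lgr Lrot117 (Lpr_dt (K32.f435693 IH) (Lpr_at (K32.f505078 IH) (Lpr_dt (K32.f500083 IH) (Lpn (LP (LK LD1_c6 LD2_c43 LD3_c5))))))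
theorem f505819 : Led Lsl_ft (LP (LK LD1_c6 LD2_c22 LD3_c8)) = (LP (LK LD1_c6 LD2_c43 LD3_c5)) :=
  Lgr Lrot2 (Lpr_gt (K32.f438516 IH) (Lpe (K32.f435694 IH) (Lpr_af (f505085 IH) (Lpn (LP (LK LD1_c6 LD2_c43 LD3_c5))))))
theorem f505825 : Led Lsl_ff (LP (LK LD1_c6 LD2_c22 LD3_c8)) = (LP (LK LD1_c6 LD2_c43 LD3_c5)) :=
  Lgr Lrot3 (Lpr_ft (f505819 IH) (Lpn (LP (LK LD1_c6 LD2_c43 LD3_c5))))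
theorem f505830 : Led Lsl_ft (LP (LK LD1_c3 LD2_c8 LD3_c45)) = (LP (LK LD1_c4 LD2_c42 LD3_c4)) :=
  Lgr Lrot54 (Lpe (K32.f435545 IH) (Lpr_ff (f505825 IH) (Lpe (K32.f500083 IH) (Lpn (LP (LK LD1_c4 LD2_c42 LD3_c4))))))
theorem f505080 : Led Lsl_af (LP (LK LD1_c3 LD2_c8 LD3_c34)) = (LP (LK LD1_c4 LD2_c42 LD3_c4)) :=
  Lgr Lrot0 (Lpr_at (K32.f505078 IH) (Lpn (LP (LK LD1_c4 LD2_c42 LD3_c4))))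
theorem f505076 : Led Lsl_ft (LP (LK LD1_c3 LD2_c8 LD3_c34)) = (LP (LK LD1_c4 LD2_c42 LD3_c9)) :=
  Lgr Lrot48 (Lpr_ff (K32.f505071 IH) (Lpn (LP (LK LD1_c4 LD2_c42 LD3_c9))))
theorem f505832 : Led Lsl_af (LP (LK LD1_c3 LD2_c8 LD3_c45)) = (LP (LK LD1_c4 LD2_c42 LD3_c9)) :=
  Lgr Lrot45 (Lpr_ft (f505830 IH) (Lpe (f505080 IH) (Lpr_ft (f505076 IH) (Lpn (LP (LK LD1_c4 LD2_c42 LD3_c9))))))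
theorem f435546 : Led Lsl_bt (LP (LK LD1_c3 LD2_c8 LD3_c45)) = (LP (LK LD1_c6 LD2_c22 LD3_c7)) :=
  Lre_b IH (LK LD1_c3 LD2_c8 LD3_c45) (LK LD1_c6 LD2_c22 LD3_c7) Lrfl Lrfl
theorem f505836 : Led Lsl_at (LP (LK LD1_c6 LD2_c22 LD3_c7)) = (LP (LK LD1_c12 LD2_c17 LD3_c51)) :=
  Lre_a IH (LK LD1_c6 LD2_c22 LD3_c7) (LK LD1_c12 LD2_c17 LD3_c51) Lrfl Lrfl
theorem f500141 : Led Lsl_bt (LP (LK LD1_c9 LD2_c18 LD3_c40)) = (LP (LK LD1_c4 LD2_c42 LD3_c9)) :=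
  Lre_b IH (LK LD1_c9 LD2_c18 LD3_c40) (LK LD1_c4 LD2_c42 LD3_c9) Lrfl Lrfl
theorem f505944 : Led Lsl_at (LP (LK LD1_c17 LD2_c13 LD3_c55)) = (LP (LK LD1_c9 LD2_c18 LD3_c40)) :=
  Lre_a IH (LK LD1_c17 LD2_c13 LD3_c55) (LK LD1_c9 LD2_c18 LD3_c40) Lrfl Lrfl
theorem f505945 : Led Lsl_bt (LP (LK LD1_c12 LD2_c17 LD3_c51)) = (LP (LK LD1_c17 LD2_c13 LD3_c55)) :=
  Lgr Lrot62 (Lpe (f505836 IH) (Lpe (f435546 IH) (Lpr_af (f505832 IH) (Lpe (f500141 IH) (Lpe (f505944 IH) (Lpn (LP (LK LD1_c17 LD2_c13 LD3_c55))))))))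
theorem f505947 : Led Lsl_bf (LP (LK LD1_c12 LD2_c17 LD3_c51)) = (LP (LK LD1_c17 LD2_c13 LD3_c55)) :=
  Lgr Lrot24 (Lpr_bt (f505945 IH) (Lpn (LP (LK LD1_c17 LD2_c13 LD3_c55))))
theorem f504286 : Led Lsl_bt (LP (LK LD1_c6 LD2_c22 LD3_c7)) = (LP (LK LD1_c3 LD2_c8 LD3_c45)) :=
  Lre_b IH (LK LD1_c6 LD2_c22 LD3_c7) (LK LD1_c3 LD2_c8 LD3_c45) Lrfl Lrfl
theorem f82727 : Led Lsl_bt (LP (LK LD1_c4 LD2_c42 LD3_c4)) = (LP (LK LD1_c9 LD2_c18 LD3_c33)) :=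
  Lre_b IH (LK LD1_c4 LD2_c42 LD3_c4) (LK LD1_c9 LD2_c18 LD3_c33) Lrfl Lrfl
theorem f505834 : Led Lsl_ff (LP (LK LD1_c6 LD2_c22 LD3_c7)) = (LP (LK LD1_c9 LD2_c18 LD3_c33)) :=
  Lgr Lrot25 (Lpr_bt (f504286 IH) (Lpr_ft (f505830 IH) (Lpr_bt (f82727 IH) (Lpn (LP (LK LD1_c9 LD2_c18 LD3_c33))))))
theorem f82732 : Led Lsl_at (LP (LK LD1_c17 LD2_c13 LD3_c46)) = (LP (LK LD1_c9 LD2_c18 LD3_c33)) :=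
  Lre_a IH (LK LD1_c17 LD2_c13 LD3_c46) (LK LD1_c9 LD2_c18 LD3_c33) Lrfl Lrfl
theorem f505837 : Led Lsl_ft (LP (LK LD1_c12 LD2_c17 LD3_c51)) = (LP (LK LD1_c17 LD2_c13 LD3_c46)) :=
  Lgr Lrot101 (Lpe (f505836 IH) (Lpr_ff (f505834 IH) (Lpe (f82732 IH) (Lpn (LP (LK LD1_c17 LD2_c13 LD3_c46))))))
theorem f504348 : Led Lsl_bt (LP (LK LD1_c6 LD2_c21 LD3_c46)) = (LP (LK LD1_c3 LD2_c8 LD3_c34)) :=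
  Lre_b IH (LK LD1_c6 LD2_c21 LD3_c46) (LK LD1_c3 LD2_c8 LD3_c34) Lrfl Lrfl
theorem f505082 : Led Lsl_at (LP (LK LD1_c12 LD2_c17 LD3_c17)) = (LP (LK LD1_c6 LD2_c21 LD3_c46)) :=
  Lre_a IH (LK LD1_c12 LD2_c17 LD3_c17) (LK LD1_c6 LD2_c21 LD3_c46) Lrfl Lrfl
theorem f82741 : Led Lsl_at (LP (LK LD1_c9 LD2_c18 LD3_c33)) = (LP (LK LD1_c17 LD2_c13 LD3_c46)) :=
  Lre_a IH (LK LD1_c9 LD2_c18 LD3_c33) (LK LD1_c17 LD2_c13 LD3_c46) Lrfl Lrfl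
theorem f505083 : Led Lsl_bf (LP (LK LD1_c12 LD2_c17 LD3_c17)) = (LP (LK LD1_c17 LD2_c13 LD3_c46)) :=
  Lgr Lrot81 (Lpr_at (f505082 IH) (Lpr_bt (f504348 IH) (Lpr_at (K32.f505078 IH) (Lpr_bt (f82727 IH) (Lpr_at (f82741 IH) (Lpn (LP (LK LD1_c17 LD2_c13 LD3_c46))))))))
theorem f505952 : Led Lsl_ft (LP (LK LD1_c12 LD2_c17 LD3_c17)) = (LP (LK LD1_c17 LD2_c13 LD3_c55)) :=
  Lgr Lrot75 (Lpr_bf (f505083 IH) (Lpe (f505837 IH) (Lpr_bf (f505947 IH) (Lpn (LP (LK LD1_c17 LD2_c13 LD3_c55))))))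
theorem f505961 : Led Lsl_ff (LP (LK LD1_c12 LD2_c17 LD3_c17)) = (LP (LK LD1_c17 LD2_c13 LD3_c55)) :=
  Lgr Lrot3 (Lpr_ft (f505952 IH) (Lpn (LP (LK LD1_c17 LD2_c13 LD3_c55))))
theorem f505966 : Led Lsl_ct (LP (LK LD1_c12 LD2_c17 LD3_c17)) = (LP (LK LD1_c21 LD2_c22 LD3_c21)) :=
  Lre_c IH (LK LD1_c12 LD2_c17 LD3_c17) (LK LD1_c21 LD2_c22 LD3_c21) Lrfl Lrfl
theorem f505951 : Led Lsl_ct (LP (LK LD1_c27 LD2_c4 LD3_c7)) = (LP (LK LD1_c17 LD2_c13 LD3_c55)) :=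
  Lre_c IH (LK LD1_c27 LD2_c4 LD3_c7) (LK LD1_c17 LD2_c13 LD3_c55) Lrfl Lrfl
theorem f505972 : Led Lsl_ft (LP (LK LD1_c21 LD2_c22 LD3_c21)) = (LP (LK LD1_c27 LD2_c4 LD3_c7)) :=
  Lgr Lrot4 (Lpe (f505966 IH) (Lpr_ff (f505961 IH) (Lpe (f505951 IH) (Lpn (LP (LK LD1_c27 LD2_c4 LD3_c7))))))
theorem f505983 : Led Lsl_at (LP (LK LD1_c12 LD2_c16 LD3_c61)) = (LP (LK LD1_c21 LD2_c22 LD3_c21)) :=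
  Lre_a IH (LK LD1_c12 LD2_c16 LD3_c61) (LK LD1_c21 LD2_c22 LD3_c21) Lrfl Lrfl
theorem f505984 : Led Lsl_at (LP (LK LD1_c27 LD2_c4 LD3_c7)) = (LP (LK LD1_c17 LD2_c13 LD3_c51)) :=
  Lre_a IH (LK LD1_c27 LD2_c4 LD3_c7) (LK LD1_c17 LD2_c13 LD3_c51) Lrfl Lrfl
theorem f505985 : Led Lsl_ff (LP (LK LD1_c12 LD2_c16 LD3_c61)) = (LP (LK LD1_c17 LD2_c13 LD3_c51)) :=
  Lgr Lrot30 (Lpr_at (f505983 IH) (Lpr_ft (f505972 IH) (Lpr_at (f505984 IH) (Lpn (LP (LK LD1_c17 LD2_c13 LD3_c51))))))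
theorem f505998 : Led Lsl_ft (LP (LK LD1_c12 LD2_c16 LD3_c61)) = (LP (LK LD1_c17 LD2_c13 LD3_c51)) :=
  Lgr Lrot48 (Lpr_ff (f505985 IH) (Lpn (LP (LK LD1_c17 LD2_c13 LD3_c51))))
theorem f504654 : Led Lsl_bt (LP (LK LD1_c6 LD2_c21 LD3_c32)) = (LP (LK LD1_c12 LD2_c16 LD3_c61)) :=
  Lre_b IH (LK LD1_c6 LD2_c21 LD3_c32) (LK LD1_c12 LD2_c16 LD3_c61) Lrfl Lrfl
theorem f506004 : Led Lsl_bt (LP (LK LD1_c17 LD2_c13 LD3_c51)) = (LP (LK LD1_c9 LD2_c18 LD3_c39)) :=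
  Lre_b IH (LK LD1_c17 LD2_c13 LD3_c51) (LK LD1_c9 LD2_c18 LD3_c39) Lrfl Lrfl
theorem f506005 : Led Lsl_ff (LP (LK LD1_c6 LD2_c21 LD3_c32)) = (LP (LK LD1_c9 LD2_c18 LD3_c39)) :=
  Lgr Lrot25 (Lpr_bt (f504654 IH) (Lpr_ft (f505998 IH) (Lpr_bt (f506004 IH) (Lpn (LP (LK LD1_c9 LD2_c18 LD3_c39))))))
theorem f504518 : Led Lsl_ct (LP (LK LD1_c6 LD2_c21 LD3_c32)) = (LP (LK LD1_c3 LD2_c8 LD3_c27)) :=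
  Lre_c IH (LK LD1_c6 LD2_c21 LD3_c32) (LK LD1_c3 LD2_c8 LD3_c27) Lrfl Lrfl
theorem f82839 : Led Lsl_ct (LP (LK LD1_c4 LD2_c42 LD3_c8)) = (LP (LK LD1_c9 LD2_c18 LD3_c39)) :=
  Lre_c IH (LK LD1_c4 LD2_c42 LD3_c8) (LK LD1_c9 LD2_c18 LD3_c39) Lrfl Lrfl
theorem f506031 : Led Lsl_ft (LP (LK LD1_c3 LD2_c8 LD3_c27)) = (LP (LK LD1_c4 LD2_c42 LD3_c8)) :=
  Lgr Lrot4 (Lpe (f504518 IH) (Lpr_ff (f506005 IH) (Lpe (f82839 IH) (Lpn (LP (LK LD1_c4 LD2_c42 LD3_c8))))))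
theorem f504684 : Led Lsl_at (LP (LK LD1_c6 LD2_c21 LD3_c25)) = (LP (LK LD1_c3 LD2_c8 LD3_c27)) :=
  Lre_a IH (LK LD1_c6 LD2_c21 LD3_c25) (LK LD1_c3 LD2_c8 LD3_c27) Lrfl Lrfl
theorem f506035 : Led Lsl_at (LP (LK LD1_c4 LD2_c42 LD3_c8)) = (LP (LK LD1_c9 LD2_c18 LD3_c35)) :=
  Lre_a IH (LK LD1_c4 LD2_c42 LD3_c8) (LK LD1_c9 LD2_c18 LD3_c35) Lrfl Lrfl
theorem f506036 : Led Lsl_ff (LP (LK LD1_c6 LD2_c21 LD3_c25)) = (LP (LK LD1_c9 LD2_c18 LD3_c35)) :=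
  Lgr Lrot30 (Lpr_at (f504684 IH) (Lpr_ft (f506031 IH) (Lpr_at (f506035 IH) (Lpn (LP (LK LD1_c9 LD2_c18 LD3_c35))))))
theorem f506048 : Led Lsl_ft (LP (LK LD1_c6 LD2_c21 LD3_c25)) = (LP (LK LD1_c9 LD2_c18 LD3_c35)) :=
  Lgr Lrot48 (Lpr_ff (f506036 IH) (Lpn (LP (LK LD1_c9 LD2_c18 LD3_c35))))
theorem f506034 : Led Lsl_dt (LP (LK LD1_c3 LD2_c8 LD3_c25)) = (LP (LK LD1_c6 LD2_c21 LD3_c25)) :=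
  Lre_d IH (LK LD1_c3 LD2_c8 LD3_c25) (LK LD1_c6 LD2_c21 LD3_c25) Lrfl Lrfl
theorem f506056 : Led Lsl_ff (LP (LK LD1_c3 LD2_c8 LD3_c25)) = (LP (LK LD1_c4 LD2_c42 LD3_c6)) :=
  Lgr Lrot19 (Lpr_dt (f506034 IH) (Lpr_ft (f506048 IH) (Lpr_dt (f506040 IH) (Lpn (LP (LK LD1_c4 LD2_c42 LD3_c6))))))
theorem f632411 : Led Lsl_bt (LP (LK LD1_c3 LD2_c8 LD3_c25)) = v4288 :=
  Lgr Lrot35 (Lpr_ff (f506056 IH) (Lpr_bf (f506109 IH) (Lpr_ff (f632409 IH) (Lpn v4288))))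
theorem f82703 : Led Lsl_bt (LP (LK LD1_c1 LD2_c33 LD3_c1)) = (LP (LK LD1_c3 LD2_c13 LD3_c10)) :=
  Lre_b IH (LK LD1_c1 LD2_c33 LD3_c1) (LK LD1_c3 LD2_c13 LD3_c10) Lrfl Lrfl
theorem f82704 : Led Lsl_bt (LP (LK LD1_c2 LD2_c18 LD3_c20)) = (LP (LK LD1_c1 LD2_c6 LD3_c11)) :=
  Lre_b IH (LK LD1_c2 LD2_c18 LD3_c20) (LK LD1_c1 LD2_c6 LD3_c11) Lrfl Lrfl
theorem f82705 : Led Lsl_et (LP (LK LD1_c3 LD2_c13 LD3_c10)) = (LP (LK LD1_c2 LD2_c18 LD3_c20)) :=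
  Lgr Lrot74 (Lpe (f82703 IH) (Lpr_ef (K32.f82701 IH) (Lpe (f82704 IH) (Lpn (LP (LK LD1_c2 LD2_c18 LD3_c20))))))
theorem f82765 : Led Lsl_at (LP (LK LD1_c6 LD2_c30 LD3_c8)) = (LP (LK LD1_c3 LD2_c13 LD3_c10)) :=
  Lre_a IH (LK LD1_c6 LD2_c30 LD3_c8) (LK LD1_c3 LD2_c13 LD3_c10) Lrfl Lrfl
theorem f632408 : Led Lsl_ef (LP (LK LD1_c6 LD2_c30 LD3_c8)) = v4288 :=
  Lgr Lrot20 (Lpr_at (f82765 IH) (Lpr_et (f82705 IH) (Lpr_at (f632405 IH) (Lpn v4288))))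
theorem f647890 : Led Lsl_bt (LP (LK LD1_c6 LD2_c30 LD3_c8)) = v5485 :=
  Lgr Lrot119 (Lpr_ef (f632408 IH) (Lpe (f632411 IH) (Lpr_ef (f647888 IH) (Lpn v5485))))
theorem f632430 : Led Lsl_dt (LP (LK LD1_c3 LD2_c13 LD3_c8)) = (LP (LK LD1_c6 LD2_c30 LD3_c8)) :=
  Lre_d IH (LK LD1_c3 LD2_c13 LD3_c8) (LK LD1_c6 LD2_c30 LD3_c8) Lrfl Lrfl
def v4348 : LQ := Led Lsl_at (LP (LK LD1_c2 LD2_c19 LD3_c44))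
theorem f632832 : Led Lsl_at (LP (LK LD1_c2 LD2_c19 LD3_c44)) = v4348 :=
  Lrfl
theorem f82585 : Led Lsl_bt (LP (LK LD1_c1 LD2_c7 LD3_c1)) = (LP (LK LD1_c2 LD2_c19 LD3_c44)) :=
  Lre_b IH (LK LD1_c1 LD2_c7 LD3_c1) (LK LD1_c2 LD2_c19 LD3_c44) Lrfl Lrfl
theorem f82685 : Led Lsl_bt (LP (LK LD1_c1 LD2_c32 LD3_c61)) = (LP (LK LD1_c0 LD2_c43 LD3_c1)) :=
  Lre_b IH (LK LD1_c1 LD2_c32 LD3_c61) (LK LD1_c0 LD2_c43 LD3_c1) Lrfl Lrfl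
theorem f453647 : Led Lsl_at (LP (LK LD1_c3 LD2_c13 LD3_c8)) = (LP (LK LD1_c1 LD2_c32 LD3_c61)) :=
  Lre_a IH (LK LD1_c3 LD2_c13 LD3_c8) (LK LD1_c1 LD2_c32 LD3_c61) Lrfl Lrfl
theorem f632834 : Led Lsl_bf (LP (LK LD1_c3 LD2_c13 LD3_c8)) = v4348 :=
  Lgr Lrot81 (Lpr_at (f453647 IH) (Lpr_bt (f82685 IH) (Lpqs (K32.f504845 IH) (Lpe (K32.f494827 IH) (Lpr_bt (f82585 IH) (Lpr_at (f632832 IH) (Lpn v4348)))))))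
theorem f647891 : Led Lsl_df v4348 = v5485 :=
  Lgr Lrot12 (Lpe (f632834 IH) (Lpr_dt (f632430 IH) (Lpr_bt (f647890 IH) (Lpn v5485))))
theorem f79777 : Led Lsl_dt (LP (LK LD1_c3 LD2_c12 LD3_c59)) = (LP (LK LD1_c1 LD2_c32 LD3_c57)) :=
  Lre_d IH (LK LD1_c3 LD2_c12 LD3_c59) (LK LD1_c1 LD2_c32 LD3_c57) Lrfl Lrfl
theorem f82584 : Led Lsl_bt (LP (LK LD1_c3 LD2_c8 LD3_c28)) = (LP (LK LD1_c1 LD2_c30 LD3_c28)) :=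
  Lre_b IH (LK LD1_c3 LD2_c8 LD3_c28) (LK LD1_c1 LD2_c30 LD3_c28) Lrfl Lrfl
theorem f82586 : Led Lsl_df (LP (LK LD1_c3 LD2_c8 LD3_c28)) = (LP (LK LD1_c2 LD2_c19 LD3_c44)) :=
  Lgr Lrot12 (Lpr_bt (f82584 IH) (Lpr_dt (K24.f82574 IH) (Lpr_bt (f82585 IH) (Lpn (LP (LK LD1_c2 LD2_c19 LD3_c44))))))
theorem f504977 : Led Lsl_ft (LP (LK LD1_c1 LD2_c32 LD3_c57)) = (LP (LK LD1_c2 LD2_c19 LD3_c44)) :=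
  Lgr Lrot54 (Lpe (f79777 IH) (Lpr_ff (K32.f504973 IH) (Lpr_df (f82586 IH) (Lpn (LP (LK LD1_c2 LD2_c19 LD3_c44))))))
theorem f453637 : Led Lsl_at (LP (LK LD1_c3 LD2_c12 LD3_c57)) = (LP (LK LD1_c1 LD2_c32 LD3_c57)) :=
  Lre_a IH (LK LD1_c3 LD2_c12 LD3_c57) (LK LD1_c1 LD2_c32 LD3_c57) Lrfl Lrfl
theorem f632835 : Led Lsl_ff (LP (LK LD1_c3 LD2_c12 LD3_c57)) = v4348 :=
  Lgr Lrot30 (Lpr_at (f453637 IH) (Lpr_ft (f504977 IH) (Lpr_at (f632832 IH) (Lpn v4348))))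
theorem f79803 : Led Lsl_dt (LP (LK LD1_c3 LD2_c12 LD3_c57)) = (LP (LK LD1_c6 LD2_c29 LD3_c52)) :=
  Lre_d IH (LK LD1_c3 LD2_c12 LD3_c57) (LK LD1_c6 LD2_c29 LD3_c52) Lrfl Lrfl
theorem f647893 : Led Lsl_ft (LP (LK LD1_c6 LD2_c29 LD3_c52)) = v5485 :=
  Lgr Lrot54 (Lpe (f79803 IH) (Lpr_ff (f632835 IH) (Lpr_df (f647891 IH) (Lpn v5485))))
theorem f453513 : Led Lsl_at (LP (LK LD1_c1 LD2_c30 LD3_c25)) = (LP (LK LD1_c3 LD2_c8 LD3_c25)) :=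
  Lre_a IH (LK LD1_c1 LD2_c30 LD3_c25) (LK LD1_c3 LD2_c8 LD3_c25) Lrfl Lrfl
theorem f82638 : Led Lsl_et (LP (LK LD1_c3 LD2_c8 LD3_c28)) = (LP (LK LD1_c1 LD2_c30 LD3_c25)) :=
  Lre_e IH (LK LD1_c3 LD2_c8 LD3_c28) (LK LD1_c1 LD2_c30 LD3_c25) Lrfl Lrfl
theorem f647886 : Led Lsl_af (LP (LK LD1_c3 LD2_c8 LD3_c28)) = v5485 :=
  Lgr Lrot50 (Lpr_et (f82638 IH) (Lpr_at (f453513 IH) (Lpr_et (f647885 IH) (Lpn v5485))))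
theorem f82635 : Led Lsl_gt (LP (LK LD1_c6 LD2_c21 LD3_c35)) = (LP (LK LD1_c3 LD2_c8 LD3_c28)) :=
  Lre_g IH (LK LD1_c6 LD2_c21 LD3_c35) (LK LD1_c3 LD2_c8 LD3_c28) Lrfl Lrfl
theorem f647895 : Led Lsl_gt (LP (LK LD1_c6 LD2_c29 LD3_c52)) = (LP (LK LD1_c6 LD2_c21 LD3_c35)) :=
  Lgr Lrot5 (Lpr_ft (f647893 IH) (Lpe (f647886 IH) (Lpe (f82635 IH) (Lpn (LP (LK LD1_c6 LD2_c21 LD3_c35))))))
theorem f647896 : Led Lsl_gt (LP (LK LD1_c6 LD2_c29 LD3_c52)) = (LP (LK LD1_c6 LD2_c21 LD3_c35)) :=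
  Leop (Lpe (f647895 IH) (Lpn (LP (LK LD1_c6 LD2_c29 LD3_c52))))
theorem seed_317 : LEOK LG_g (LK LD1_c6 LD2_c29 LD3_c52) :=
  Leoe_g (LK LD1_c6 LD2_c29 LD3_c52) (f647896 IH)
def v5515 : LQ := Led Lsl_et (LP (LK LD1_c3 LD2_c8 LD3_c57))
theorem f648028 : Led Lsl_et (LP (LK LD1_c3 LD2_c8 LD3_c57)) = v5515 :=
  Lrfl
theorem f152759 : Led Lsl_ft (LP (LK LD1_c1 LD2_c30 LD3_c52)) = (LP (LK LD1_c0 LD2_c41 LD3_c55)) :=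
  Lre_f IH (LK LD1_c1 LD2_c30 LD3_c52) (LK LD1_c0 LD2_c41 LD3_c55) Lrfl Lrfl
theorem f152752 : Led Lsl_et (LP (LK LD1_c3 LD2_c9 LD3_c28)) = (LP (LK LD1_c1 LD2_c30 LD3_c52)) :=
  Lre_e IH (LK LD1_c3 LD2_c9 LD3_c28) (LK LD1_c1 LD2_c30 LD3_c52) Lrfl Lrfl
theorem f648032 : Led Lsl_ff (LP (LK LD1_c3 LD2_c9 LD3_c28)) = v5515 :=
  Lgr Lrot72 (Lpr_et (f152752 IH) (Lpr_ft (f152759 IH) (Lpr_et (K7.f153485 IH) (Lpr_ft (K32.f204295 IH) (Lpr_et (f648028 IH) (Lpn v5515))))))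
theorem f648035 : Led Lsl_ft (LP (LK LD1_c3 LD2_c9 LD3_c28)) = v5515 :=
  Lgr Lrot48 (Lpr_ff (f648032 IH) (Lpn v5515))
theorem f152770 : Led Lsl_gt (LP (LK LD1_c3 LD2_c9 LD3_c28)) = (LP (LK LD1_c6 LD2_c23 LD3_c44)) :=
  Lre_g IH (LK LD1_c3 LD2_c9 LD3_c28) (LK LD1_c6 LD2_c23 LD3_c44) Lrfl Lrfl
theorem f648029 : Led Lsl_af (LP (LK LD1_c6 LD2_c48 LD3_c51)) = v5515 :=
  Lgr Lrot50 (Lpr_et (K16.f154418 IH) (Lpe (K7.f153504 IH) (Lpr_et (f648028 IH) (Lpn v5515))))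
theorem f648037 : Led Lsl_gt (LP (LK LD1_c6 LD2_c23 LD3_c44)) = (LP (LK LD1_c6 LD2_c48 LD3_c51)) :=
  Lgr Lrot46 (Lpe (f152770 IH) (Lpr_ft (f648035 IH) (Lpe (f648029 IH) (Lpn (LP (LK LD1_c6 LD2_c48 LD3_c51))))))
theorem f648038 : Led Lsl_gt (LP (LK LD1_c6 LD2_c23 LD3_c44)) = (LP (LK LD1_c6 LD2_c48 LD3_c51)) :=
  Leop (Lpe (f648037 IH) (Lpn (LP (LK LD1_c6 LD2_c23 LD3_c44))))
theorem seed_318 : LEOK LG_g (LK LD1_c6 LD2_c23 LD3_c44) :=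
  Leoe_g (LK LD1_c6 LD2_c23 LD3_c44) (f648038 IH)
def v5516 : LQ := Led Lsl_dt (LP (LK LD1_c3 LD2_c8 LD3_c58))
theorem f648040 : Led Lsl_dt (LP (LK LD1_c3 LD2_c8 LD3_c58)) = v5516 :=
  Lrfl
theorem f153063 : Led Lsl_gt (LP (LK LD1_c12 LD2_c0 LD3_c17)) = (LP (LK LD1_c6 LD2_c18 LD3_c43)) :=
  Lgr Lrot46 (Lpr_gf (f153039 IH) (Lpe (K7.f114635 IH) (Lpe (K7.f113887 IH) (Lpn (LP (LK LD1_c6 LD2_c18 LD3_c43))))))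
theorem f153080 : Led Lsl_gf (LP (LK LD1_c6 LD2_c9 LD3_c39)) = (LP (LK LD1_c6 LD2_c11 LD3_c44)) :=
  Lgr Lrot147 (Lpr_ct (f126803 IH) (Lpr_gt (f153063 IH) (Lpr_ct (K7.f67894 IH) (Lpe (K4.f25091 IH) (Lpe (K4.f84304 IH) (Lpe (K7.f126714 IH) (Lpr_cf (K3.f24368 IH) (Lpe (K5.f126614 IH) (Lpe (K4.f86147 IH) (Lpn (LP (LK LD1_c6 LD2_c11 LD3_c44))))))))))))
theorem f155326 : Led Lsl_dt (LP (LK LD1_c3 LD2_c8 LD3_c61)) = (LP (LK LD1_c6 LD2_c22 LD3_c38)) :=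
  Lre_d IH (LK LD1_c3 LD2_c8 LD3_c61) (LK LD1_c6 LD2_c22 LD3_c38) Lrfl Lrfl
theorem f155332 : Led Lsl_ct (LP (LK LD1_c12 LD2_c18 LD3_c46)) = (LP (LK LD1_c6 LD2_c22 LD3_c38)) :=
  Lre_c IH (LK LD1_c12 LD2_c18 LD3_c46) (LK LD1_c6 LD2_c22 LD3_c38) Lrfl Lrfl
theorem f430743 : Led Lsl_gf (LP (LK LD1_c12 LD2_c12 LD3_c33)) = (LP (LK LD1_c21 LD2_c18 LD3_c12)) :=
  Lgr Lrot144 (Lpr_dt (K5.f61732 IH) (Lpr_gt (K5.f78169 IH) (Lpr_dt (K5.f78170 IH) (Lpr_cf (K5.f133989 IH) (Lpe (K5.f133988 IH) (Lpr_gf (K5.f134029 IH) (Lpe (K5.f67910 IH) (Lpr_gf (f430741 IH) (Lpr_cf (f153068 IH) (Lpn (LP (LK LD1_c21 LD2_c18 LD3_c12))))))))))))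
theorem f61753 : Led Lsl_dt (LP (LK LD1_c6 LD2_c18 LD3_c12)) = (LP (LK LD1_c12 LD2_c12 LD3_c33)) :=
  Lre_d IH (LK LD1_c6 LD2_c18 LD3_c12) (LK LD1_c12 LD2_c12 LD3_c33) Lrfl Lrfl
theorem f67096 : Led Lsl_gt (LP (LK LD1_c3 LD2_c6 LD3_c38)) = (LP (LK LD1_c6 LD2_c18 LD3_c46)) :=
  Lre_g IH (LK LD1_c3 LD2_c6 LD3_c38) (LK LD1_c6 LD2_c18 LD3_c46) Lrfl Lrfl
theorem f67924 : Led Lsl_dt (LP (LK LD1_c6 LD2_c18 LD3_c46)) = (LP (LK LD1_c12 LD2_c13 LD3_c22)) :=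
  Lre_d IH (LK LD1_c6 LD2_c18 LD3_c46) (LK LD1_c12 LD2_c13 LD3_c22) Lrfl Lrfl
theorem f134274 : Led Lsl_ct (LP (LK LD1_c12 LD2_c12 LD3_c33)) = (LP (LK LD1_c12 LD2_c13 LD3_c22)) :=
  Lgr Lrot7 (Lpe (f61753 IH) (Lpr_gf (K6.f134231 IH) (Lpe (K7.f24378 IH) (Lpr_gf (K7.f134272 IH) (Lpe (K7.f114631 IH) (Lpr_gt (K7.f67716 IH) (Lpr_dt (K2.f25080 IH) (Lpr_gt (f67096 IH) (Lpr_dt (f67924 IH) (Lpn (LP (LK LD1_c12 LD2_c13 LD3_c22))))))))))))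
theorem f430750 : Led Lsl_gf (LP (LK LD1_c12 LD2_c18 LD3_c46)) = (LP (LK LD1_c12 LD2_c13 LD3_c22)) :=
  Lgr Lrot104 (Lpr_ct (f155332 IH) (Lpe (f155326 IH) (Lpe (K7.f25825 IH) (Lpe (K7.f83129 IH) (Lpe (f155324 IH) (Lpr_gf (f430747 IH) (Lpe (f134041 IH) (Lpe (f430743 IH) (Lpr_ct (f134274 IH) (Lpn (LP (LK LD1_c12 LD2_c13 LD3_c22))))))))))))
theorem f67921 : Led Lsl_gt (LP (LK LD1_c6 LD2_c18 LD3_c46)) = (LP (LK LD1_c6 LD2_c27 LD3_c50)) :=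
  Lgr Lrot46 (Lpe (f67096 IH) (Lpr_ft (K2.f67590 IH) (Lpr_at (K2.f67710 IH) (Lpn (LP (LK LD1_c6 LD2_c27 LD3_c50))))))
theorem f134276 : Led Lsl_cf (LP (LK LD1_c12 LD2_c12 LD3_c33)) = (LP (LK LD1_c12 LD2_c13 LD3_c22)) :=
  Lgr Lrot14 (Lpe (f61753 IH) (Lpr_gf (K6.f134231 IH) (Lpe (K7.f24378 IH) (Lpr_gf (K7.f134272 IH) (Lpe (K7.f114627 IH) (Lpr_gt (K7.f67716 IH) (Lpr_dt (K2.f25080 IH) (Lpr_gt (f67096 IH) (Lpr_dt (f67924 IH) (Lpn (LP (LK LD1_c12 LD2_c13 LD3_c22))))))))))))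
theorem f430818 : Led Lsl_gt (LP (LK LD1_c6 LD2_c22 LD3_c38)) = (LP (LK LD1_c12 LD2_c13 LD3_c22)) :=
  Lgr Lrot150 (Lpe (f155332 IH) (Lpr_gf (f430750 IH) (Lpe (f67924 IH) (Lpr_gt (f67921 IH) (Lpr_ct (K2.f67694 IH) (Lpr_gt (K5.f78166 IH) (Lpr_ct (K5.f61752 IH) (Lpe (K5.f61732 IH) (Lpr_cf (f134276 IH) (Lpn (LP (LK LD1_c12 LD2_c13 LD3_c22))))))))))))
theorem f67923 : Led Lsl_dt (LP (LK LD1_c12 LD2_c13 LD3_c22)) = (LP (LK LD1_c6 LD2_c18 LD3_c46)) :=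
  Lre_d IH (LK LD1_c12 LD2_c13 LD3_c22) (LK LD1_c6 LD2_c18 LD3_c46) Lrfl Lrfl
theorem f648046 : Led Lsl_ct (LP (LK LD1_c6 LD2_c18 LD3_c46)) = v5516 :=
  Lgr Lrot7 (Lpe (f67923 IH) (Lpe (f430818 IH) (Lpe (f155326 IH) (Lpe (K7.f25826 IH) (Lpe (K7.f155299 IH) (Lpe (f153080 IH) (Lpe (f430729 IH) (Lpr_gt (K11.f431273 IH) (Lpr_dt (f648040 IH) (Lpn v5516))))))))))
theorem f67592 : Led Lsl_ct (LP (LK LD1_c6 LD2_c18 LD3_c47)) = (LP (LK LD1_c3 LD2_c6 LD3_c48)) :=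
  Lre_c IH (LK LD1_c6 LD2_c18 LD3_c47) (LK LD1_c3 LD2_c6 LD3_c48) Lrfl Lrfl
theorem f67941 : Led Lsl_gt (LP (LK LD1_c6 LD2_c18 LD3_c57)) = (LP (LK LD1_c3 LD2_c6 LD3_c48)) :=
  Lre_g IH (LK LD1_c6 LD2_c18 LD3_c57) (LK LD1_c3 LD2_c6 LD3_c48) Lrfl Lrfl
theorem f67948 : Led Lsl_ct (LP (LK LD1_c12 LD2_c13 LD3_c42)) = (LP (LK LD1_c6 LD2_c18 LD3_c57)) :=
  Lre_c IH (LK LD1_c12 LD2_c13 LD3_c42) (LK LD1_c6 LD2_c18 LD3_c57) Lrfl Lrfl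
theorem f67949 : Led Lsl_bt (LP (LK LD1_c12 LD2_c13 LD3_c42)) = (LP (LK LD1_c21 LD2_c19 LD3_c49)) :=
  Lre_b IH (LK LD1_c12 LD2_c13 LD3_c42) (LK LD1_c21 LD2_c19 LD3_c49) Lrfl Lrfl
theorem f648045 : Led Lsl_gf (LP (LK LD1_c6 LD2_c9 LD3_c58)) = v5516 :=
  Lgr Lrot143 (Lpr_dt (K5.f134017 IH) (Lpr_cf (K3.f24368 IH) (Lpe (K5.f24376 IH) (Lpe (K5.f133816 IH) (Lpe (K11.f133828 IH) (Lpe (K11.f430721 IH) (Lpr_cf (K11.f430723 IH) (Lpr_gt (K11.f431273 IH) (Lpr_dt (f648040 IH) (Lpn v5516))))))))))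
theorem f126722 : Led Lsl_bt (LP (LK LD1_c12 LD2_c0 LD3_c46)) = (LP (LK LD1_c21 LD2_c5 LD3_c59)) :=
  Lre_b IH (LK LD1_c12 LD2_c0 LD3_c46) (LK LD1_c21 LD2_c5 LD3_c59) Lrfl Lrfl
theorem f648049 : Led Lsl_gf (LP (LK LD1_c21 LD2_c19 LD3_c49)) = (LP (LK LD1_c21 LD2_c5 LD3_c59)) :=
  Lgr Lrot124 (Lpe (f67949 IH) (Lpr_ct (f67948 IH) (Lpr_gt (f67941 IH) (Lpe (f67592 IH) (Lpr_bt (K2.f67588 IH) (Lpr_gt (f67096 IH) (Lpr_ct (f648046 IH) (Lpe (f648045 IH) (Lpe (K5.f114546 IH) (Lpr_bt (f126722 IH) (Lpn (LP (LK LD1_c21 LD2_c5 LD3_c59)))))))))))))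
theorem f648050 : Led Lsl_gt (LP (LK LD1_c21 LD2_c5 LD3_c59)) = (LP (LK LD1_c21 LD2_c19 LD3_c49)) :=
  Leop (Lpr_gf (f648049 IH) (Lpn (LP (LK LD1_c21 LD2_c5 LD3_c59))))
theorem seed_319 : LEOK LG_g (LK LD1_c21 LD2_c5 LD3_c59) :=
  Leoe_g (LK LD1_c21 LD2_c5 LD3_c59) (f648050 IH)
def v5556 : LQ := Led Lsl_ct (LP (LK LD1_c3 LD2_c9 LD3_c46))
theorem f648212 : Led Lsl_ct (LP (LK LD1_c3 LD2_c9 LD3_c46)) = v5556 :=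
  Lrfl
theorem f503576 : Led Lsl_cf (LP (LK LD1_c4 LD2_c42 LD3_c33)) = (LP (LK LD1_c6 LD2_c23 LD3_c2)) :=
  Lgr Lrot39 (Lpr_et (K32.f503287 IH) (Lpr_ct (K32.f146021 IH) (Lpr_et (K32.f503571 IH) (Lpn (LP (LK LD1_c6 LD2_c23 LD3_c2))))))
theorem f648215 : Led Lsl_ff (LP (LK LD1_c6 LD2_c23 LD3_c2)) = v5556 :=
  Lgr Lrot23 (Lpe (f503576 IH) (Lpe (K32.f503249 IH) (Lpr_ct (f648212 IH) (Lpn v5556))))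
theorem f648217 : Led Lsl_ft (LP (LK LD1_c6 LD2_c23 LD3_c2)) = v5556 :=
  Lgr Lrot48 (Lpr_ff (f648215 IH) (Lpn v5556))
theorem f434996 : Led Lsl_gt (LP (LK LD1_c3 LD2_c9 LD3_c10)) = (LP (LK LD1_c6 LD2_c23 LD3_c1)) :=
  Lre_g IH (LK LD1_c3 LD2_c9 LD3_c10) (LK LD1_c6 LD2_c23 LD3_c1) Lrfl Lrfl
theorem f648219 : Led Lsl_af (LP (LK LD1_c6 LD2_c23 LD3_c1)) = v5556 :=
  Lgr Lrot31 (Lpe (f434996 IH) (Lpe (K32.f434995 IH) (Lpr_ft (f648217 IH) (Lpn v5556))))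
theorem f648222 : Led Lsl_ct (LP (LK LD1_c6 LD2_c23 LD3_c1)) = (LP (LK LD1_c4 LD2_c42 LD3_c32)) :=
  Lgr Lrot111 (Lpr_af (f648219 IH) (Lpe (f648212 IH) (Lpr_af (K32.f503245 IH) (Lpn (LP (LK LD1_c4 LD2_c42 LD3_c32))))))
theorem f648223 : Led Lsl_ct (LP (LK LD1_c6 LD2_c23 LD3_c1)) = (LP (LK LD1_c4 LD2_c42 LD3_c32)) :=
  Leop (Lpe (f648222 IH) (Lpn (LP (LK LD1_c6 LD2_c23 LD3_c1))))
theorem seed_320 : LEOK LG_c (LK LD1_c6 LD2_c23 LD3_c1) :=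
  Leoe_c (LK LD1_c6 LD2_c23 LD3_c1) (f648223 IH)
def v5577 : LQ := Led Lsl_gf (LP (LK LD1_c3 LD2_c10 LD3_c39))
theorem f648324 : Led Lsl_gf (LP (LK LD1_c3 LD2_c10 LD3_c39)) = v5577 :=
  Lrfl
theorem f648327 : Led Lsl_ct (LP (LK LD1_c6 LD2_c17 LD3_c16)) = v5577 :=
  Lgr Lrot152 (Lpr_gf (K7.f133711 IH) (Lpe (K5.f120051 IH) (Lpr_gt (K5.f125455 IH) (Lpr_ct (K2.f77878 IH) (Lpe (K3.f109182 IH) (Lpr_ct (K5.f82422 IH) (Lpe (K6.f82439 IH) (Lpe (K6.f109185 IH) (Lpr_gf (f648324 IH) (Lpn v5577))))))))))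
theorem f648328 : Led Lsl_cf (LP (LK LD1_c6 LD2_c17 LD3_c16)) = v5577 :=
  Lgr Lrot11 (Lpr_ct (f648327 IH) (Lpn v5577))
theorem f125439 : Led Lsl_gt (LP (LK LD1_c9 LD2_c18 LD3_c23)) = (LP (LK LD1_c17 LD2_c13 LD3_c27)) :=
  Lre_g IH (LK LD1_c9 LD2_c18 LD3_c23) (LK LD1_c17 LD2_c13 LD3_c27) Lrfl Lrfl
theorem f648325 : Led Lsl_gt (LP (LK LD1_c4 LD2_c43 LD3_c44)) = v5577 :=
  Lgr Lrot5 (Lpr_ft (K6.f143676 IH) (Lpr_at (K6.f143548 IH) (Lpr_gf (f648324 IH) (Lpn v5577))))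
theorem f142851 : Led Lsl_ct (LP (LK LD1_c12 LD2_c24 LD3_c23)) = (LP (LK LD1_c6 LD2_c26 LD3_c14)) :=
  Lre_c IH (LK LD1_c12 LD2_c24 LD3_c23) (LK LD1_c6 LD2_c26 LD3_c14) Lrfl Lrfl
theorem f134638 : Led Lsl_bt (LP (LK LD1_c12 LD2_c24 LD3_c23)) = (LP (LK LD1_c6 LD2_c26 LD3_c10)) :=
  Lre_b IH (LK LD1_c12 LD2_c24 LD3_c23) (LK LD1_c6 LD2_c26 LD3_c10) Lrfl Lrfl
theorem f134639 : Led Lsl_ff (LP (LK LD1_c12 LD2_c24 LD3_c23)) = (LP (LK LD1_c7 LD2_c25 LD3_c47)) :=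
  Lgr Lrot25 (Lpr_bt (f134638 IH) (Lpr_ft (K5.f134636 IH) (Lpr_bt (K6.f124245 IH) (Lpn (LP (LK LD1_c7 LD2_c25 LD3_c47))))))
theorem f143684 : Led Lsl_ct (LP (LK LD1_c9 LD2_c20 LD3_c36)) = (LP (LK LD1_c7 LD2_c25 LD3_c47)) :=
  Lgr Lrot40 (Lpr_ff (K6.f143679 IH) (Lpe (f142851 IH) (Lpr_ff (f134639 IH) (Lpn (LP (LK LD1_c7 LD2_c25 LD3_c47))))))
theorem f142877 : Led Lsl_gt (LP (LK LD1_c14 LD2_c2 LD3_c49)) = (LP (LK LD1_c7 LD2_c25 LD3_c47)) :=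
  Lre_g IH (LK LD1_c14 LD2_c2 LD3_c49) (LK LD1_c7 LD2_c25 LD3_c47) Lrfl Lrfl
theorem f142881 : Led Lsl_ct (LP (LK LD1_c23 LD2_c35 LD3_c54)) = (LP (LK LD1_c14 LD2_c2 LD3_c49)) :=
  Lre_c IH (LK LD1_c23 LD2_c35 LD3_c54) (LK LD1_c14 LD2_c2 LD3_c49) Lrfl Lrfl
theorem f648330 : Led Lsl_bf (LP (LK LD1_c17 LD2_c13 LD3_c27)) = (LP (LK LD1_c23 LD2_c35 LD3_c54)) :=
  Lgr Lrot34 (Lpe (f125439 IH) (Lpe (K11.f125435 IH) (Lpr_ct (K11.f125402 IH) (Lpe (K7.f133689 IH) (Lpr_cf (f648328 IH) (Lpe (f648325 IH) (Lpe (K6.f143678 IH) (Lpr_ct (f143684 IH) (Lpe (f142877 IH) (Lpe (f142881 IH) (Lpn (LP (LK LD1_c23 LD2_c35 LD3_c54)))))))))))))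
theorem f648331 : Led Lsl_bt (LP (LK LD1_c23 LD2_c35 LD3_c54)) = (LP (LK LD1_c17 LD2_c13 LD3_c27)) :=
  Leop (Lpr_bf (f648330 IH) (Lpn (LP (LK LD1_c23 LD2_c35 LD3_c54))))
theorem seed_321 : LEOK LG_b (LK LD1_c23 LD2_c35 LD3_c54) :=
  Leoe_b (LK LD1_c23 LD2_c35 LD3_c54) (f648331 IH)
def v5692 : LQ := Led Lsl_ft (LP (LK LD1_c3 LD2_c12 LD3_c4))
theorem f648879 : Led Lsl_ft (LP (LK LD1_c3 LD2_c12 LD3_c4)) = v5692 :=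
  Lrfl
theorem f82783 : Led Lsl_at (LP (LK LD1_c1 LD2_c32 LD3_c43)) = (LP (LK LD1_c3 LD2_c12 LD3_c4)) :=
  Lre_a IH (LK LD1_c1 LD2_c32 LD3_c43) (LK LD1_c3 LD2_c12 LD3_c4) Lrfl Lrfl
def v1975 : LQ := Led Lsl_ft (LP (LK LD1_c1 LD2_c32 LD3_c43))
theorem f506700 : Led Lsl_ft (LP (LK LD1_c1 LD2_c32 LD3_c43)) = v1975 :=
  Lrfl
theorem f506703 : Led Lsl_ff (LP (LK LD1_c1 LD2_c32 LD3_c43)) = v1975 :=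
  Lgr Lrot3 (Lpr_ft (f506700 IH) (Lpn v1975))
theorem f648880 : Led Lsl_af v1975 = v5692 :=
  Lgr Lrot45 (Lpe (f506703 IH) (Lpr_at (f82783 IH) (Lpr_ft (f648879 IH) (Lpn v5692))))
theorem f648883 : Led Lsl_gt (LP (LK LD1_c6 LD2_c28 LD3_c13)) = v1975 :=
  Lgr Lrot46 (Lpe (K32.f494778 IH) (Lpr_ft (f648879 IH) (Lpe (f648880 IH) (Lpn v1975))))
theorem f82667 : Led Lsl_ct (LP (LK LD1_c1 LD2_c32 LD3_c43)) = (LP (LK LD1_c0 LD2_c42 LD3_c57)) :=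
  Lre_c IH (LK LD1_c1 LD2_c32 LD3_c43) (LK LD1_c0 LD2_c42 LD3_c57) Lrfl Lrfl
def v498 : LQ := Led Lsl_ft (LP (LK LD1_c0 LD2_c42 LD3_c57))
theorem f453630 : Led Lsl_ft (LP (LK LD1_c0 LD2_c42 LD3_c57)) = v498 :=
  Lrfl
theorem f506705 : Led Lsl_ct v498 = v1975 :=
  Lgr Lrot40 (Lpe (f453630 IH) (Lpe (f82667 IH) (Lpr_ff (f506703 IH) (Lpn v1975))))
theorem f453631 : Led Lsl_bf (LP (LK LD1_c0 LD2_c43 LD3_c2)) = v498 :=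
  Lgr Lrot61 (Lpr_ft (K24.f82677 IH) (Lpr_bt (K4.f82663 IH) (Lpr_ft (f453630 IH) (Lpn v498))))
theorem f22529 : Led Lsl_gt (LP (LK LD1_c0 LD2_c43 LD3_c25)) = (LP (LK LD1_c1 LD2_c33 LD3_c40)) :=
  Lre_g IH (LK LD1_c0 LD2_c43 LD3_c25) (LK LD1_c1 LD2_c33 LD3_c40) Lrfl Lrfl
theorem f22734 : Led Lsl_bt (LP (LK LD1_c3 LD2_c14 LD3_c17)) = (LP (LK LD1_c1 LD2_c33 LD3_c40)) :=
  Lre_b IH (LK LD1_c3 LD2_c14 LD3_c17) (LK LD1_c1 LD2_c33 LD3_c40) Lrfl Lrfl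
theorem f648884 : Led Lsl_cf (LP (LK LD1_c6 LD2_c28 LD3_c13)) = (LP (LK LD1_c3 LD2_c14 LD3_c17)) :=
  Lgr Lrot160 (Lpr_gt (f648883 IH) (Lpe (f506705 IH) (Lpe (f453631 IH) (Lpe (K24.f82886 IH) (Lpe (K32.f445619 IH) (Lpr_gt (K24.f22528 IH) (Lpe (K24.f22512 IH) (Lpr_bt (K0.f22506 IH) (Lpr_gt (f22529 IH) (Lpe (f22734 IH) (Lpn (LP (LK LD1_c3 LD2_c14 LD3_c17)))))))))))))
theorem f648885 : Led Lsl_ct (LP (LK LD1_c3 LD2_c14 LD3_c17)) = (LP (LK LD1_c6 LD2_c28 LD3_c13)) :=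
  Leop (Lpr_cf (f648884 IH) (Lpn (LP (LK LD1_c3 LD2_c14 LD3_c17))))
theorem seed_322 : LEOK LG_c (LK LD1_c3 LD2_c14 LD3_c17) :=
  Leoe_c (LK LD1_c3 LD2_c14 LD3_c17) (f648885 IH)
def v5354 : LQ := Led Lsl_et (LP (LK LD1_c3 LD2_c6 LD3_c39))
theorem f647233 : Led Lsl_et (LP (LK LD1_c3 LD2_c6 LD3_c39)) = v5354 :=
  Lrfl
theorem f647235 : Led Lsl_ef (LP (LK LD1_c3 LD2_c6 LD3_c39)) = v5354 :=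
  Lgr Lrot88 (Lpr_et (f647233 IH) (Lpn v5354))
theorem f79737 : Led Lsl_bt (LP (LK LD1_c3 LD2_c6 LD3_c39)) = (LP (LK LD1_c1 LD2_c29 LD3_c26)) :=
  Lre_b IH (LK LD1_c3 LD2_c6 LD3_c39) (LK LD1_c1 LD2_c29 LD3_c26) Lrfl Lrfl
theorem f647236 : Led Lsl_bt (LP (LK LD1_c3 LD2_c6 LD3_c41)) = v5354 :=
  Lgr Lrot119 (Lpe (K9.f67310 IH) (Lpe (f79737 IH) (Lpr_ef (f647235 IH) (Lpn v5354))))
def v1841 : LQ := Led Lsl_bt (LP (LK LD1_c1 LD2_c29 LD3_c38))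
theorem f504508 : Led Lsl_bt (LP (LK LD1_c1 LD2_c29 LD3_c38)) = v1841 :=
  Lrfl
theorem f504509 : Led Lsl_bf (LP (LK LD1_c1 LD2_c29 LD3_c38)) = v1841 :=
  Lgr Lrot24 (Lpr_bt (f504508 IH) (Lpn v1841))
theorem f647237 : Led Lsl_df v1841 = v5354 :=
  Lgr Lrot12 (Lpe (f504509 IH) (Lpr_dt (K9.f79732 IH) (Lpr_bt (f647236 IH) (Lpn v5354))))
def v5350 : LQ := Led Lsl_gf (LP (LK LD1_c3 LD2_c6 LD3_c39))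
theorem f647222 : Led Lsl_gf (LP (LK LD1_c3 LD2_c6 LD3_c39)) = v5350 :=
  Lrfl
def v5790 : LQ := Led Lsl_ft (LP (LK LD1_c3 LD2_c13 LD3_c25))
theorem f649356 : Led Lsl_ft (LP (LK LD1_c3 LD2_c13 LD3_c25)) = v5790 :=
  Lrfl
theorem f109336 : Led Lsl_ft (LP (LK LD1_c3 LD2_c45 LD3_c19)) = (LP (LK LD1_c7 LD2_c31 LD3_c25)) :=
  Lre_f IH (LK LD1_c3 LD2_c45 LD3_c19) (LK LD1_c7 LD2_c31 LD3_c25) Lrfl Lrfl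
theorem f414639 : Led Lsl_gt (LP (LK LD1_c3 LD2_c2 LD3_c16)) = (LP (LK LD1_c6 LD2_c11 LD3_c19)) :=
  Lre_g IH (LK LD1_c3 LD2_c2 LD3_c16) (LK LD1_c6 LD2_c11 LD3_c19) Lrfl Lrfl
theorem f646620 : Led Lsl_at (LP (LK LD1_c7 LD2_c31 LD3_c25)) = (LP (LK LD1_c6 LD2_c11 LD3_c19)) :=
  Lgr Lrot26 (Lpe (f109336 IH) (Lpqs (f646618 IH) (Lpe (f646608 IH) (Lpr_gt (f414639 IH) (Lpn (LP (LK LD1_c6 LD2_c11 LD3_c19)))))))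
theorem f207544 : Led Lsl_af (LP (LK LD1_c3 LD2_c15 LD3_c28)) = (LP (LK LD1_c3 LD2_c16 LD3_c47)) :=
  Lgr Lrot36 (Lpr_bt (K4.f96711 IH) (Lpr_at (K32.f207518 IH) (Lpr_bt (K32.f128406 IH) (Lpe (K24.f207506 IH) (Lpr_bt (K24.f64916 IH) (Lpn (LP (LK LD1_c3 LD2_c16 LD3_c47))))))))
theorem f96716 : Led Lsl_et (LP (LK LD1_c3 LD2_c15 LD3_c28)) = (LP (LK LD1_c6 LD2_c34 LD3_c16)) :=
  Lre_e IH (LK LD1_c3 LD2_c15 LD3_c28) (LK LD1_c6 LD2_c34 LD3_c16) Lrfl Lrfl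
theorem f103817 : Led Lsl_et (LP (LK LD1_c6 LD2_c36 LD3_c55)) = (LP (LK LD1_c3 LD2_c16 LD3_c47)) :=
  Lre_e IH (LK LD1_c6 LD2_c36 LD3_c55) (LK LD1_c3 LD2_c16 LD3_c47) Lrfl Lrfl
theorem f207547 : Led Lsl_at (LP (LK LD1_c6 LD2_c34 LD3_c16)) = (LP (LK LD1_c6 LD2_c36 LD3_c55)) :=
  Lgr Lrot80 (Lpe (f96716 IH) (Lpr_af (f207544 IH) (Lpe (f103817 IH) (Lpn (LP (LK LD1_c6 LD2_c36 LD3_c55))))))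
theorem f111614 : Led Lsl_dt (LP (LK LD1_c12 LD2_c35 LD3_c5)) = (LP (LK LD1_c6 LD2_c34 LD3_c16)) :=
  Lre_d IH (LK LD1_c12 LD2_c35 LD3_c5) (LK LD1_c6 LD2_c34 LD3_c16) Lrfl Lrfl
theorem f96099 : Led Lsl_dt (LP (LK LD1_c6 LD2_c36 LD3_c55)) = (LP (LK LD1_c12 LD2_c39 LD3_c37)) :=
  Lre_d IH (LK LD1_c6 LD2_c36 LD3_c55) (LK LD1_c12 LD2_c39 LD3_c37) Lrfl Lrfl
theorem f207551 : Led Lsl_af (LP (LK LD1_c12 LD2_c35 LD3_c5)) = (LP (LK LD1_c12 LD2_c39 LD3_c37)) :=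
  Lgr Lrot117 (Lpr_dt (f111614 IH) (Lpr_at (f207547 IH) (Lpr_dt (f96099 IH) (Lpn (LP (LK LD1_c12 LD2_c39 LD3_c37))))))
theorem f207606 : Led Lsl_at (LP (LK LD1_c12 LD2_c35 LD3_c5)) = (LP (LK LD1_c12 LD2_c39 LD3_c37)) :=
  Lgr Lrot100 (Lpr_af (f207551 IH) (Lpn (LP (LK LD1_c12 LD2_c39 LD3_c37))))
theorem f207612 : Led Lsl_et (LP (LK LD1_c6 LD2_c34 LD3_c17)) = (LP (LK LD1_c12 LD2_c35 LD3_c5)) :=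
  Lre_e IH (LK LD1_c6 LD2_c34 LD3_c17) (LK LD1_c12 LD2_c35 LD3_c5) Lrfl Lrfl
theorem f96093 : Led Lsl_et (LP (LK LD1_c3 LD2_c16 LD3_c47)) = (LP (LK LD1_c6 LD2_c36 LD3_c55)) :=
  Lre_e IH (LK LD1_c3 LD2_c16 LD3_c47) (LK LD1_c6 LD2_c36 LD3_c55) Lrfl Lrfl
theorem f96067 : Led Lsl_et (LP (LK LD1_c3 LD2_c45 LD3_c19)) = (LP (LK LD1_c1 LD2_c49 LD3_c49)) :=
  Lre_e IH (LK LD1_c3 LD2_c45 LD3_c19) (LK LD1_c1 LD2_c49 LD3_c49) Lrfl Lrfl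
theorem f96100 : Led Lsl_dt (LP (LK LD1_c7 LD2_c31 LD3_c24)) = (LP (LK LD1_c3 LD2_c45 LD3_c19)) :=
  Lre_d IH (LK LD1_c7 LD2_c31 LD3_c24) (LK LD1_c3 LD2_c45 LD3_c19) Lrfl Lrfl
theorem f96101 : Led Lsl_et (LP (LK LD1_c12 LD2_c39 LD3_c37)) = (LP (LK LD1_c7 LD2_c31 LD3_c24)) :=
  Lgr Lrot71 (Lpe (f96099 IH) (Lpe (f96093 IH) (Lpr_df (K3.f96089 IH) (Lpe (f96067 IH) (Lpe (f96100 IH) (Lpn (LP (LK LD1_c7 LD2_c31 LD3_c24))))))))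
theorem f207613 : Led Lsl_af (LP (LK LD1_c6 LD2_c34 LD3_c17)) = (LP (LK LD1_c7 LD2_c31 LD3_c24)) :=
  Lgr Lrot50 (Lpr_et (f207612 IH) (Lpr_at (f207606 IH) (Lpr_et (f96101 IH) (Lpn (LP (LK LD1_c7 LD2_c31 LD3_c24))))))
theorem f65581 : Led Lsl_dt (LP (LK LD1_c6 LD2_c34 LD3_c17)) = (LP (LK LD1_c3 LD2_c15 LD3_c29)) :=
  Lre_d IH (LK LD1_c6 LD2_c34 LD3_c17) (LK LD1_c3 LD2_c15 LD3_c29) Lrfl Lrfl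
theorem f96068 : Led Lsl_dt (LP (LK LD1_c3 LD2_c45 LD3_c19)) = (LP (LK LD1_c7 LD2_c31 LD3_c24)) :=
  Lre_d IH (LK LD1_c3 LD2_c45 LD3_c19) (LK LD1_c7 LD2_c31 LD3_c24) Lrfl Lrfl
theorem f207618 : Led Lsl_at (LP (LK LD1_c3 LD2_c15 LD3_c29)) = (LP (LK LD1_c3 LD2_c45 LD3_c19)) :=
  Lgr Lrot51 (Lpe (f65581 IH) (Lpr_af (f207613 IH) (Lpe (f96068 IH) (Lpn (LP (LK LD1_c3 LD2_c45 LD3_c19))))))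
theorem f646627 : Led Lsl_ff (LP (LK LD1_c3 LD2_c15 LD3_c29)) = (LP (LK LD1_c6 LD2_c11 LD3_c19)) :=
  Lgr Lrot30 (Lpr_at (f207618 IH) (Lpr_ft (f109336 IH) (Lpr_at (f646620 IH) (Lpn (LP (LK LD1_c6 LD2_c11 LD3_c19))))))
theorem f649359 : Led Lsl_cf (LP (LK LD1_c6 LD2_c11 LD3_c19)) = v5790 :=
  Lgr Lrot108 (Lpe (f646627 IH) (Lpr_ct (K34.f65569 IH) (Lpr_ft (f649356 IH) (Lpn v5790))))
theorem f140039 : Led Lsl_bt (LP (LK LD1_c0 LD2_c18 LD3_c5)) = (LP (LK LD1_c0 LD2_c40 LD3_c20)) :=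
  Lre_b IH (LK LD1_c0 LD2_c18 LD3_c5) (LK LD1_c0 LD2_c40 LD3_c20) Lrfl Lrfl
theorem f506791 : Led Lsl_ff (LP (LK LD1_c1 LD2_c33 LD3_c11)) = K34.v1996 :=
  Lgr Lrot3 (Lpr_ft (K34.f506788 IH) (Lpn K34.v1996))
theorem f649358 : Led Lsl_bf K34.v1996 = v5790 :=
  Lgr Lrot61 (Lpe (f506791 IH) (Lpr_bt (K44.f65584 IH) (Lpr_ft (f649356 IH) (Lpn v5790))))
def v1921 : LQ := Led Lsl_gf (LP (LK LD1_c1 LD2_c31 LD3_c36))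
theorem f506396 : Led Lsl_gf (LP (LK LD1_c1 LD2_c31 LD3_c36)) = v1921 :=
  Lrfl
theorem f506795 : Led Lsl_gf v1921 = K34.v1996 :=
  Lgr Lrot47 (Lpe (f506396 IH) (Lpe (K34.f129061 IH) (Lpr_ff (f506791 IH) (Lpn K34.v1996))))
theorem f649371 : v1841 = v1921 :=
  (Llr Lrot92 (Lpe (f504508 IH) (Lpr_ct (K17.f414621 IH) (Lpr_gt (K16.f59890 IH) (Lpe (K16.f27135 IH) (Lpr_bt (f140039 IH) (Lpr_gt (K32.f62013 IH) (Lpr_ct (f414638 IH) (Lpr_gt (f414639 IH) (Lpr_cf (f649359 IH) (Lpe (f649358 IH) (Lpe (f506795 IH) (Lpn v1921))))))))))))).symm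
theorem f152491 : Led Lsl_gt (LP (LK LD1_c0 LD2_c42 LD3_c27)) = (LP (LK LD1_c1 LD2_c6 LD3_c1)) :=
  Lgr Lrot49 (Lpe (K7.f125533 IH) (Lpe (K5.f23444 IH) (Lpe (K0.f23385 IH) (Lpr_gt (K2.f23443 IH) (Lpe (K4.f120177 IH) (Lpr_gt (K7.f152484 IH) (Lpr_dt (K7.f104685 IH) (Lpe (K7.f104314 IH) (Lpe (K7.f104688 IH) (Lpn (LP (LK LD1_c1 LD2_c6 LD3_c1))))))))))))
theorem f152620 : Led Lsl_gf (LP (LK LD1_c0 LD2_c18 LD3_c55)) = (LP (LK LD1_c0 LD2_c30 LD3_c12)) :=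
  Lgr Lrot76 (Lpe (K5.f129040 IH) (Lpr_ff (K5.f129053 IH) (Lpr_gt (K7.f152612 IH) (Lpn (LP (LK LD1_c0 LD2_c30 LD3_c12))))))
theorem f209085 : Led Lsl_et (LP (LK LD1_c0 LD2_c42 LD3_c23)) = (LP (LK LD1_c1 LD2_c31 LD3_c40)) :=
  Lre_e IH (LK LD1_c0 LD2_c42 LD3_c23) (LK LD1_c1 LD2_c31 LD3_c40) Lrfl Lrfl
theorem f649373 : v5350 = (LP (LK LD1_c1 LD2_c31 LD3_c40)) :=
  (Llr Lrot141 (Lpe (f647222 IH) (Lpr_ef (f647235 IH) (Lpe (f647237 IH) (Lpqs (f649371 IH) (Lpe (f506396 IH) (Lpr_df (K34.f209078 IH) (Lpr_et (K34.f125535 IH) (Lpr_gt (f152491 IH) (Lpr_dt (K7.f104688 IH) (Lpe (f152620 IH) (Lpe (K5.f82419 IH) (Lpr_et (f209085 IH) (Lpn (LP (LK LD1_c1 LD2_c31 LD3_c40)))))))))))))))).symm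
theorem f649375 : Led Lsl_gt (LP (LK LD1_c1 LD2_c31 LD3_c40)) = (LP (LK LD1_c3 LD2_c6 LD3_c39)) :=
  Leop (Lpr_gf (f647222 IH) (Lpqs (f649373 IH) (Lpn (LP (LK LD1_c1 LD2_c31 LD3_c40)))))
theorem seed_323 : LEOK LG_g (LK LD1_c1 LD2_c31 LD3_c40) :=
  Leoe_g (LK LD1_c1 LD2_c31 LD3_c40) (f649375 IH)
def v1923 : LQ := Led Lsl_gt (LP (LK LD1_c1 LD2_c31 LD3_c40))
theorem f506403 : Led Lsl_gt (LP (LK LD1_c1 LD2_c31 LD3_c40)) = v1923 :=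
  Lrfl
theorem f649374 : (LP (LK LD1_c3 LD2_c6 LD3_c39)) = v1923 :=
  Lefun (Lecon (Lfl_gf (f647222 IH)) (f649373 IH)) (f506403 IH)
def v1926 : LQ := Led Lsl_ft (LP (LK LD1_c1 LD2_c31 LD3_c40))
theorem f506416 : Led Lsl_ft (LP (LK LD1_c1 LD2_c31 LD3_c40)) = v1926 :=
  Lrfl
theorem f119851 : Led Lsl_et (LP (LK LD1_c1 LD2_c31 LD3_c40)) = (LP (LK LD1_c0 LD2_c42 LD3_c23)) :=
  Lre_e IH (LK LD1_c1 LD2_c31 LD3_c40) (LK LD1_c0 LD2_c42 LD3_c23) Lrfl Lrfl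
theorem f129086 : Led Lsl_et (LP (LK LD1_c0 LD2_c43 LD3_c6)) = (LP (LK LD1_c1 LD2_c33 LD3_c8)) :=
  Lre_e IH (LK LD1_c0 LD2_c43 LD3_c6) (LK LD1_c1 LD2_c33 LD3_c8) Lrfl Lrfl
theorem f209252 : Led Lsl_af (LP (LK LD1_c1 LD2_c31 LD3_c40)) = (LP (LK LD1_c1 LD2_c33 LD3_c8)) :=
  Lgr Lrot50 (Lpr_et (f119851 IH) (Lpr_at (K34.f209248 IH) (Lpr_et (f129086 IH) (Lpn (LP (LK LD1_c1 LD2_c33 LD3_c8))))))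
theorem f506417 : Led Lsl_af (LP (LK LD1_c3 LD2_c13 LD3_c24)) = v1926 :=
  Lgr Lrot45 (Lpr_ft (K5.f129070 IH) (Lpe (f209252 IH) (Lpr_ft (f506416 IH) (Lpn v1926))))
theorem f506420 : Led Lsl_gt v1923 = (LP (LK LD1_c3 LD2_c13 LD3_c24)) :=
  Lgr Lrot46 (Lpe (f506403 IH) (Lpr_ft (f506416 IH) (Lpe (f506417 IH) (Lpn (LP (LK LD1_c3 LD2_c13 LD3_c24))))))
theorem f649378 : Led Lsl_gt (LP (LK LD1_c3 LD2_c6 LD3_c39)) = (LP (LK LD1_c3 LD2_c13 LD3_c24)) :=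
  Leop (Lpe (f506420 IH) (Lpq (f649374 IH) (Lpn (LP (LK LD1_c3 LD2_c6 LD3_c39)))))
theorem seed_324 : LEOK LG_g (LK LD1_c3 LD2_c6 LD3_c39) :=
  Leoe_g (LK LD1_c3 LD2_c6 LD3_c39) (f649378 IH)
theorem f414632 : Led Lsl_bt (LP (LK LD1_c1 LD2_c27 LD3_c19)) = (LP (LK LD1_c0 LD2_c40 LD3_c25)) :=
  Lre_b IH (LK LD1_c1 LD2_c27 LD3_c19) (LK LD1_c0 LD2_c40 LD3_c25) Lrfl Lrfl
theorem f414633 : Led Lsl_ct (LP (LK LD1_c1 LD2_c27 LD3_c19)) = (LP (LK LD1_c3 LD2_c2 LD3_c45)) :=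
  Lre_c IH (LK LD1_c1 LD2_c27 LD3_c19) (LK LD1_c3 LD2_c2 LD3_c45) Lrfl Lrfl
def v5264 : LQ := Led Lsl_gf (LP (LK LD1_c3 LD2_c2 LD3_c45))
theorem f646842 : Led Lsl_gf (LP (LK LD1_c3 LD2_c2 LD3_c45)) = v5264 :=
  Lrfl
theorem f147540 : Led Lsl_af (LP (LK LD1_c3 LD2_c19 LD3_c5)) = (LP (LK LD1_c3 LD2_c14 LD3_c8)) :=
  Lgr Lrot68 (Lpr_ct (K7.f147530 IH) (Lpe (K6.f122471 IH) (Lpe (K6.f129267 IH) (Lpn (LP (LK LD1_c3 LD2_c14 LD3_c8))))))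
theorem f207780 : Led Lsl_ft (LP (LK LD1_c3 LD2_c19 LD3_c6)) = (LP (LK LD1_c3 LD2_c14 LD3_c8)) :=
  Lgr Lrot101 (Lpe (K24.f207770 IH) (Lpr_ff (K28.f207778 IH) (Lpr_af (f147540 IH) (Lpn (LP (LK LD1_c3 LD2_c14 LD3_c8))))))
theorem f208904 : Led Lsl_ff (LP (LK LD1_c1 LD2_c48 LD3_c45)) = (LP (LK LD1_c1 LD2_c33 LD3_c37)) :=
  Lgr Lrot19 (Lpr_dt (K24.f148638 IH) (Lpr_ft (f207780 IH) (Lpr_dt (K7.f68471 IH) (Lpn (LP (LK LD1_c1 LD2_c33 LD3_c37))))))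
theorem f128337 : Led Lsl_et (LP (LK LD1_c1 LD2_c48 LD3_c45)) = (LP (LK LD1_c3 LD2_c43 LD3_c24)) :=
  Lre_e IH (LK LD1_c1 LD2_c48 LD3_c45) (LK LD1_c3 LD2_c43 LD3_c24) Lrfl Lrfl
theorem f208906 : Led Lsl_ft (LP (LK LD1_c3 LD2_c43 LD3_c24)) = (LP (LK LD1_c7 LD2_c27 LD3_c28)) :=
  Lre_f IH (LK LD1_c3 LD2_c43 LD3_c24) (LK LD1_c7 LD2_c27 LD3_c28) Lrfl Lrfl
theorem f68503 : Led Lsl_et (LP (LK LD1_c3 LD2_c14 LD3_c9)) = (LP (LK LD1_c1 LD2_c33 LD3_c37)) :=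
  Lre_e IH (LK LD1_c3 LD2_c14 LD3_c9) (LK LD1_c1 LD2_c33 LD3_c37) Lrfl Lrfl
theorem f68483 : Led Lsl_ft (LP (LK LD1_c6 LD2_c31 LD3_c59)) = (LP (LK LD1_c3 LD2_c14 LD3_c9)) :=
  Lre_f IH (LK LD1_c6 LD2_c31 LD3_c59) (LK LD1_c3 LD2_c14 LD3_c9) Lrfl Lrfl
theorem f208907 : Led Lsl_et (LP (LK LD1_c7 LD2_c27 LD3_c28)) = (LP (LK LD1_c6 LD2_c31 LD3_c59)) :=
  Lgr Lrot69 (Lpe (f208906 IH) (Lpe (f128337 IH) (Lpr_ff (f208904 IH) (Lpe (f68503 IH) (Lpe (f68483 IH) (Lpn (LP (LK LD1_c6 LD2_c31 LD3_c59))))))))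
theorem f208911 : Led Lsl_ef (LP (LK LD1_c7 LD2_c27 LD3_c28)) = (LP (LK LD1_c6 LD2_c31 LD3_c59)) :=
  Lgr Lrot88 (Lpr_et (f208907 IH) (Lpn (LP (LK LD1_c6 LD2_c31 LD3_c59))))
theorem f68484 : Led Lsl_ft (LP (LK LD1_c3 LD2_c13 LD3_c20)) = (LP (LK LD1_c6 LD2_c30 LD3_c31)) :=
  Lre_f IH (LK LD1_c3 LD2_c13 LD3_c20) (LK LD1_c6 LD2_c30 LD3_c31) Lrfl Lrfl
theorem f68485 : Led Lsl_cf (LP (LK LD1_c6 LD2_c31 LD3_c59)) = (LP (LK LD1_c6 LD2_c30 LD3_c31)) :=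
  Lgr Lrot108 (Lpr_ft (f68483 IH) (Lpr_ct (K8.f68469 IH) (Lpr_ft (f68484 IH) (Lpn (LP (LK LD1_c6 LD2_c30 LD3_c31))))))
theorem f208913 : Led Lsl_ct (LP (LK LD1_c7 LD2_c27 LD3_c28)) = (LP (LK LD1_c6 LD2_c25 LD3_c37)) :=
  Lgr Lrot15 (Lpr_ef (f208911 IH) (Lpr_cf (f68485 IH) (Lpr_ef (K5.f129083 IH) (Lpn (LP (LK LD1_c6 LD2_c25 LD3_c37))))))
theorem f208916 : Led Lsl_ft (LP (LK LD1_c6 LD2_c25 LD3_c37)) = (LP (LK LD1_c3 LD2_c10 LD3_c30)) :=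
  Lre_f IH (LK LD1_c6 LD2_c25 LD3_c37) (LK LD1_c3 LD2_c10 LD3_c30) Lrfl Lrfl
theorem f208917 : Led Lsl_cf (LP (LK LD1_c3 LD2_c43 LD3_c24)) = (LP (LK LD1_c3 LD2_c10 LD3_c30)) :=
  Lgr Lrot108 (Lpr_ft (f208906 IH) (Lpr_ct (f208913 IH) (Lpr_ft (f208916 IH) (Lpn (LP (LK LD1_c3 LD2_c10 LD3_c30))))))
theorem f649400 : v5264 = (LP (LK LD1_c3 LD2_c43 LD3_c24)) :=
  (Llr Lrot126 (Lpe (f646842 IH) (Lpe (f414633 IH) (Lpr_bt (f414632 IH) (Lpr_gt (K16.f413457 IH) (Lpr_ct (K16.f58575 IH) (Lpr_gt (K17.f59971 IH) (Lpe (K17.f414621 IH) (Lpr_bt (f504508 IH) (Lpqs (f649371 IH) (Lpe (f506396 IH) (Lpe (K35.f208924 IH) (Lpe (f208917 IH) (Lpn (LP (LK LD1_c3 LD2_c43 LD3_c24)))))))))))))))).symm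
theorem f649401 : Led Lsl_gt (LP (LK LD1_c3 LD2_c43 LD3_c24)) = (LP (LK LD1_c3 LD2_c2 LD3_c45)) :=
  Leop (Lpr_gf (f646842 IH) (Lpqs (f649400 IH) (Lpn (LP (LK LD1_c3 LD2_c43 LD3_c24)))))
theorem seed_325 : LEOK LG_g (LK LD1_c3 LD2_c43 LD3_c24) :=
  Leoe_g (LK LD1_c3 LD2_c43 LD3_c24) (f649401 IH)
def v5259 : LQ := Led Lsl_dt (LP (LK LD1_c3 LD2_c2 LD3_c43))
theorem f646824 : Led Lsl_dt (LP (LK LD1_c3 LD2_c2 LD3_c43)) = v5259 :=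
  Lrfl
def v5257 : LQ := Led Lsl_at (LP (LK LD1_c3 LD2_c2 LD3_c43))
theorem f646817 : Led Lsl_at (LP (LK LD1_c3 LD2_c2 LD3_c43)) = v5257 :=
  Lrfl
theorem f646818 : Led Lsl_af (LP (LK LD1_c3 LD2_c2 LD3_c43)) = v5257 :=
  Lgr Lrot0 (Lpr_at (f646817 IH) (Lpn v5257))
theorem f413474 : Led Lsl_gt (LP (LK LD1_c1 LD2_c27 LD3_c19)) = (LP (LK LD1_c3 LD2_c2 LD3_c43)) :=
  Lre_g IH (LK LD1_c1 LD2_c27 LD3_c19) (LK LD1_c3 LD2_c2 LD3_c43) Lrfl Lrfl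
def v1792 : LQ := Led Lsl_gf (LP (LK LD1_c1 LD2_c27 LD3_c19))
theorem f502934 : Led Lsl_gf (LP (LK LD1_c1 LD2_c27 LD3_c19)) = v1792 :=
  Lrfl
theorem f646819 : Led Lsl_ft v1792 = v5257 :=
  Lgr Lrot2 (Lpe (f502934 IH) (Lpr_gt (f413474 IH) (Lpr_af (f646818 IH) (Lpn v5257))))
theorem f646820 : Led Lsl_ff v1792 = v5257 :=
  Lgr Lrot3 (Lpr_ft (f646819 IH) (Lpn v5257))
theorem f502936 : Led Lsl_gt (LP (LK LD1_c3 LD2_c2 LD3_c45)) = (LP (LK LD1_c6 LD2_c12 LD3_c20)) :=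
  Lre_g IH (LK LD1_c3 LD2_c2 LD3_c45) (LK LD1_c6 LD2_c12 LD3_c20) Lrfl Lrfl
theorem f649402 : Led Lsl_at (LP (LK LD1_c7 LD2_c27 LD3_c28)) = (LP (LK LD1_c6 LD2_c12 LD3_c20)) :=
  Lgr Lrot26 (Lpe (f208906 IH) (Lpq (f649400 IH) (Lpe (f646842 IH) (Lpr_gt (f502936 IH) (Lpn (LP (LK LD1_c6 LD2_c12 LD3_c20)))))))
theorem f68491 : Led Lsl_ct (LP (LK LD1_c6 LD2_c31 LD3_c59)) = (LP (LK LD1_c6 LD2_c30 LD3_c31)) :=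
  Lgr Lrot59 (Lpr_cf (f68485 IH) (Lpn (LP (LK LD1_c6 LD2_c30 LD3_c31))))
theorem f68490 : Led Lsl_bt (LP (LK LD1_c3 LD2_c13 LD3_c24)) = (LP (LK LD1_c6 LD2_c30 LD3_c31)) :=
  Lre_b IH (LK LD1_c3 LD2_c13 LD3_c24) (LK LD1_c6 LD2_c30 LD3_c31) Lrfl Lrfl
theorem f129077 : Led Lsl_bt (LP (LK LD1_c6 LD2_c25 LD3_c37)) = (LP (LK LD1_c3 LD2_c10 LD3_c34)) :=
  Lre_b IH (LK LD1_c6 LD2_c25 LD3_c37) (LK LD1_c3 LD2_c10 LD3_c34) Lrfl Lrfl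
theorem f129078 : Led Lsl_et (LP (LK LD1_c6 LD2_c30 LD3_c31)) = (LP (LK LD1_c6 LD2_c25 LD3_c37)) :=
  Lgr Lrot74 (Lpe (f68490 IH) (Lpr_ef (K5.f129073 IH) (Lpe (f129077 IH) (Lpn (LP (LK LD1_c6 LD2_c25 LD3_c37))))))
theorem f208909 : Led Lsl_cf (LP (LK LD1_c7 LD2_c27 LD3_c28)) = (LP (LK LD1_c6 LD2_c25 LD3_c37)) :=
  Lgr Lrot39 (Lpr_et (f208907 IH) (Lpr_ct (f68491 IH) (Lpr_et (f129078 IH) (Lpn (LP (LK LD1_c6 LD2_c25 LD3_c37))))))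
theorem f209001 : Led Lsl_ft (LP (LK LD1_c3 LD2_c25 LD3_c15)) = (LP (LK LD1_c6 LD2_c52 LD3_c45)) :=
  Lre_f IH (LK LD1_c3 LD2_c25 LD3_c15) (LK LD1_c6 LD2_c52 LD3_c45) Lrfl Lrfl
theorem f209002 : Led Lsl_af (LP (LK LD1_c6 LD2_c25 LD3_c37)) = (LP (LK LD1_c6 LD2_c52 LD3_c45)) :=
  Lgr Lrot45 (Lpr_ft (f208916 IH) (Lpr_at (K34.f208995 IH) (Lpr_ft (f209001 IH) (Lpn (LP (LK LD1_c6 LD2_c52 LD3_c45))))))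
theorem f649407 : Led Lsl_cf (LP (LK LD1_c6 LD2_c52 LD3_c45)) = (LP (LK LD1_c6 LD2_c12 LD3_c20)) :=
  Lgr Lrot1 (Lpe (f209002 IH) (Lpe (f208909 IH) (Lpr_at (f649402 IH) (Lpn (LP (LK LD1_c6 LD2_c12 LD3_c20))))))
theorem f26238 : Led Lsl_ft (LP (LK LD1_c3 LD2_c42 LD3_c8)) = (LP (LK LD1_c1 LD2_c48 LD3_c3)) :=
  Lre_f IH (LK LD1_c3 LD2_c42 LD3_c8) (LK LD1_c1 LD2_c48 LD3_c3) Lrfl Lrfl
theorem f209051 : Led Lsl_df (LP (LK LD1_c3 LD2_c42 LD3_c8)) = (LP (LK LD1_c6 LD2_c52 LD3_c45)) :=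
  Lgr Lrot78 (Lpr_ft (f26238 IH) (Lpr_dt (K34.f209014 IH) (Lpr_ft (f209001 IH) (Lpn (LP (LK LD1_c6 LD2_c52 LD3_c45))))))
theorem f414624 : Led Lsl_ct (LP (LK LD1_c0 LD2_c44 LD3_c52)) = (LP (LK LD1_c1 LD2_c36 LD3_c54)) :=
  Lre_c IH (LK LD1_c0 LD2_c44 LD3_c52) (LK LD1_c1 LD2_c36 LD3_c54) Lrfl Lrfl
def v2177 : LQ := Led Lsl_gf (LP (LK LD1_c1 LD2_c36 LD3_c54))
theorem f509489 : Led Lsl_gf (LP (LK LD1_c1 LD2_c36 LD3_c54)) = v2177 :=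
  Lrfl
theorem f129248 : Led Lsl_et (LP (LK LD1_c3 LD2_c19 LD3_c4)) = (LP (LK LD1_c1 LD2_c35 LD3_c61)) :=
  Lre_e IH (LK LD1_c3 LD2_c19 LD3_c4) (LK LD1_c1 LD2_c35 LD3_c61) Lrfl Lrfl
theorem f129251 : Led Lsl_ct (LP (LK LD1_c1 LD2_c47 LD3_c11)) = (LP (LK LD1_c3 LD2_c19 LD3_c4)) :=
  Lgr Lrot15 (Lpe (K34.f107293 IH) (Lpr_cf (K5.f129241 IH) (Lpe (f129248 IH) (Lpn (LP (LK LD1_c3 LD2_c19 LD3_c4))))))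
theorem f527842 : v2177 = (LP (LK LD1_c3 LD2_c19 LD3_c4)) :=
  (Llr Lrot126 (Lpe (f509489 IH) (Lpe (f414624 IH) (Lpr_bt (K35.f414623 IH) (Lpr_gt (K0.f23218 IH) (Lpr_ct (K17.f140058 IH) (Lpr_gt (K17.f186139 IH) (Lpe (K17.f414502 IH) (Lpr_bt (K34.f414498 IH) (Lpr_gt (K34.f510423 IH) (Lpqs (K34.f527798 IH) (Lpe (K34.f125560 IH) (Lpr_ct (f129251 IH) (Lpn (LP (LK LD1_c3 LD2_c19 LD3_c4)))))))))))))))).symm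
theorem f454749 : Led Lsl_at (LP (LK LD1_c3 LD2_c21 LD3_c14)) = (LP (LK LD1_c1 LD2_c36 LD3_c54)) :=
  Lre_a IH (LK LD1_c3 LD2_c21 LD3_c14) (LK LD1_c1 LD2_c36 LD3_c54) Lrfl Lrfl
theorem f446255 : Led Lsl_dt (LP (LK LD1_c1 LD2_c36 LD3_c55)) = (LP (LK LD1_c0 LD2_c44 LD3_c52)) :=
  Lre_d IH (LK LD1_c1 LD2_c36 LD3_c55) (LK LD1_c0 LD2_c44 LD3_c52) Lrfl Lrfl
theorem f23191 : Led Lsl_bt (LP (LK LD1_c1 LD2_c36 LD3_c56)) = (LP (LK LD1_c0 LD2_c44 LD3_c55)) :=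
  Lre_b IH (LK LD1_c1 LD2_c36 LD3_c56) (LK LD1_c0 LD2_c44 LD3_c55) Lrfl Lrfl
theorem f23192 : Led Lsl_dt (LP (LK LD1_c1 LD2_c8 LD3_c28)) = (LP (LK LD1_c1 LD2_c36 LD3_c56)) :=
  Lgr Lrot79 (Lpe (K35.f23190 IH) (Lpr_df (K0.f23181 IH) (Lpe (f23191 IH) (Lpn (LP (LK LD1_c1 LD2_c36 LD3_c56))))))
theorem f454714 : Led Lsl_ff (LP (LK LD1_c1 LD2_c36 LD3_c55)) = (LP (LK LD1_c1 LD2_c36 LD3_c56)) :=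
  Lgr Lrot19 (Lpr_dt (f446255 IH) (Lpr_ft (K35.f454000 IH) (Lpqs (K35.f454083 IH) (Lpr_dt (f23192 IH) (Lpn (LP (LK LD1_c1 LD2_c36 LD3_c56)))))))
theorem f454722 : Led Lsl_ft (LP (LK LD1_c1 LD2_c36 LD3_c55)) = (LP (LK LD1_c1 LD2_c36 LD3_c56)) :=
  Lgr Lrot48 (Lpr_ff (f454714 IH) (Lpn (LP (LK LD1_c1 LD2_c36 LD3_c56))))
theorem f446254 : Led Lsl_et (LP (LK LD1_c3 LD2_c21 LD3_c21)) = (LP (LK LD1_c1 LD2_c36 LD3_c55)) :=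
  Lre_e IH (LK LD1_c3 LD2_c21 LD3_c21) (LK LD1_c1 LD2_c36 LD3_c55) Lrfl Lrfl
theorem f446264 : Led Lsl_et (LP (LK LD1_c1 LD2_c36 LD3_c56)) = (LP (LK LD1_c0 LD2_c44 LD3_c52)) :=
  Lre_e IH (LK LD1_c1 LD2_c36 LD3_c56) (LK LD1_c0 LD2_c44 LD3_c52) Lrfl Lrfl
theorem f446253 : Led Lsl_et (LP (LK LD1_c1 LD2_c8 LD3_c28)) = (LP (LK LD1_c2 LD2_c22 LD3_c45)) :=
  Lre_e IH (LK LD1_c1 LD2_c8 LD3_c28) (LK LD1_c2 LD2_c22 LD3_c45) Lrfl Lrfl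
theorem f454734 : Led Lsl_ff (LP (LK LD1_c3 LD2_c21 LD3_c21)) = (LP (LK LD1_c2 LD2_c22 LD3_c45)) :=
  Lgr Lrot72 (Lpr_et (f446254 IH) (Lpr_ft (f454722 IH) (Lpr_et (f446264 IH) (Lpr_ft (K35.f454000 IH) (Lpqs (K35.f454083 IH) (Lpr_et (f446253 IH) (Lpn (LP (LK LD1_c2 LD2_c22 LD3_c45)))))))))
theorem f24664 : Led Lsl_ct (LP (LK LD1_c3 LD2_c21 LD3_c21)) = (LP (LK LD1_c6 LD2_c46 LD3_c23)) :=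
  Lre_c IH (LK LD1_c3 LD2_c21 LD3_c21) (LK LD1_c6 LD2_c46 LD3_c23) Lrfl Lrfl
theorem f446154 : Led Lsl_ct (LP (LK LD1_c4 LD2_c49 LD3_c60)) = (LP (LK LD1_c2 LD2_c22 LD3_c45)) :=
  Lre_c IH (LK LD1_c4 LD2_c49 LD3_c60) (LK LD1_c2 LD2_c22 LD3_c45) Lrfl Lrfl
theorem f454736 : Led Lsl_ft (LP (LK LD1_c6 LD2_c46 LD3_c23)) = (LP (LK LD1_c4 LD2_c49 LD3_c60)) :=
  Lgr Lrot4 (Lpe (f24664 IH) (Lpr_ff (f454734 IH) (Lpe (f446154 IH) (Lpn (LP (LK LD1_c4 LD2_c49 LD3_c60))))))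
theorem f454742 : Led Lsl_ff (LP (LK LD1_c6 LD2_c46 LD3_c23)) = (LP (LK LD1_c4 LD2_c49 LD3_c60)) :=
  Lgr Lrot3 (Lpr_ft (f454736 IH) (Lpn (LP (LK LD1_c4 LD2_c49 LD3_c60))))
theorem f454744 : Led Lsl_et (LP (LK LD1_c6 LD2_c46 LD3_c23)) = (LP (LK LD1_c3 LD2_c21 LD3_c20)) :=
  Lre_e IH (LK LD1_c6 LD2_c46 LD3_c23) (LK LD1_c3 LD2_c21 LD3_c20) Lrfl Lrfl
theorem f414528 : Led Lsl_ct (LP (LK LD1_c1 LD2_c36 LD3_c55)) = (LP (LK LD1_c3 LD2_c21 LD3_c20)) :=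
  Lre_c IH (LK LD1_c1 LD2_c36 LD3_c55) (LK LD1_c3 LD2_c21 LD3_c20) Lrfl Lrfl
theorem f416795 : Led Lsl_ct (LP (LK LD1_c3 LD2_c21 LD3_c17)) = (LP (LK LD1_c1 LD2_c36 LD3_c56)) :=
  Lre_c IH (LK LD1_c3 LD2_c21 LD3_c17) (LK LD1_c1 LD2_c36 LD3_c56) Lrfl Lrfl
theorem f454720 : Led Lsl_ft (LP (LK LD1_c3 LD2_c21 LD3_c20)) = (LP (LK LD1_c3 LD2_c21 LD3_c17)) :=
  Lgr Lrot4 (Lpe (f414528 IH) (Lpr_ff (f454714 IH) (Lpe (f416795 IH) (Lpn (LP (LK LD1_c3 LD2_c21 LD3_c17))))))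
theorem f454745 : Led Lsl_et (LP (LK LD1_c3 LD2_c21 LD3_c17)) = (LP (LK LD1_c1 LD2_c36 LD3_c54)) :=
  Lre_e IH (LK LD1_c3 LD2_c21 LD3_c17) (LK LD1_c1 LD2_c36 LD3_c54) Lrfl Lrfl
theorem f454746 : Led Lsl_et (LP (LK LD1_c2 LD2_c22 LD3_c44)) = (LP (LK LD1_c4 LD2_c49 LD3_c60)) :=
  Lre_e IH (LK LD1_c2 LD2_c22 LD3_c44) (LK LD1_c4 LD2_c49 LD3_c60) Lrfl Lrfl
theorem f454747 : Led Lsl_ft (LP (LK LD1_c1 LD2_c36 LD3_c54)) = (LP (LK LD1_c2 LD2_c22 LD3_c44)) :=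
  Lgr Lrot86 (Lpe (f454745 IH) (Lpe (f454720 IH) (Lpe (f454744 IH) (Lpr_ff (f454742 IH) (Lpe (f454746 IH) (Lpn (LP (LK LD1_c2 LD2_c22 LD3_c44))))))))
theorem f454750 : Led Lsl_at (LP (LK LD1_c2 LD2_c22 LD3_c44)) = (LP (LK LD1_c4 LD2_c49 LD3_c58)) :=
  Lre_a IH (LK LD1_c2 LD2_c22 LD3_c44) (LK LD1_c4 LD2_c49 LD3_c58) Lrfl Lrfl
theorem f454751 : Led Lsl_ff (LP (LK LD1_c3 LD2_c21 LD3_c14)) = (LP (LK LD1_c4 LD2_c49 LD3_c58)) :=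
  Lgr Lrot30 (Lpr_at (f454749 IH) (Lpr_ft (f454747 IH) (Lpr_at (f454750 IH) (Lpn (LP (LK LD1_c4 LD2_c49 LD3_c58))))))
theorem f509490 : Led Lsl_gt (LP (LK LD1_c4 LD2_c49 LD3_c58)) = v2177 :=
  Lgr Lrot5 (Lpe (f454751 IH) (Lpr_at (f454749 IH) (Lpr_gf (f509489 IH) (Lpn v2177))))
theorem f453997 : Led Lsl_gt (LP (LK LD1_c1 LD2_c36 LD3_c54)) = (LP (LK LD1_c3 LD2_c21 LD3_c16)) :=
  Lre_g IH (LK LD1_c1 LD2_c36 LD3_c54) (LK LD1_c3 LD2_c21 LD3_c16) Lrfl Lrfl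
theorem f454753 : Led Lsl_gt (LP (LK LD1_c3 LD2_c21 LD3_c16)) = (LP (LK LD1_c4 LD2_c49 LD3_c58)) :=
  Lgr Lrot46 (Lpe (f453997 IH) (Lpr_ft (f454747 IH) (Lpr_at (f454750 IH) (Lpn (LP (LK LD1_c4 LD2_c49 LD3_c58))))))
theorem f527855 : Led Lsl_ff (LP (LK LD1_c3 LD2_c42 LD3_c7)) = (LP (LK LD1_c3 LD2_c21 LD3_c16)) :=
  Lgr Lrot52 (Lpr_at (K35.f129246 IH) (Lpq (f527842 IH) (Lpe (f509490 IH) (Lpe (f454753 IH) (Lpn (LP (LK LD1_c3 LD2_c21 LD3_c16)))))))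
theorem f527863 : Led Lsl_ft (LP (LK LD1_c3 LD2_c42 LD3_c7)) = (LP (LK LD1_c3 LD2_c21 LD3_c16)) :=
  Lgr Lrot48 (Lpr_ff (f527855 IH) (Lpn (LP (LK LD1_c3 LD2_c21 LD3_c16))))
theorem f527868 : Led Lsl_cf (LP (LK LD1_c3 LD2_c42 LD3_c8)) = (LP (LK LD1_c3 LD2_c21 LD3_c16)) :=
  Lgr Lrot108 (Lpr_ft (f26238 IH) (Lpr_ct (K6.f26239 IH) (Lpr_ft (f527863 IH) (Lpn (LP (LK LD1_c3 LD2_c21 LD3_c16))))))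
def v560 : LQ := Led Lsl_gf (LP (LK LD1_c0 LD2_c44 LD3_c52))
theorem f453994 : Led Lsl_gf (LP (LK LD1_c0 LD2_c44 LD3_c52)) = v560 :=
  Lrfl
def v3197 : LQ := Led Lsl_dt v560
theorem f624592 : Led Lsl_dt v560 = v3197 :=
  Lrfl
theorem f649434 : v3197 = v1792 :=
  (Llr Lrot6 (Lpe (f624592 IH) (Lpe (f453994 IH) (Lpr_ct (f414624 IH) (Lpr_gt (f453997 IH) (Lpe (f527868 IH) (Lpr_df (f209051 IH) (Lpr_cf (f649407 IH) (Lpe (f502936 IH) (Lpe (f414633 IH) (Lpr_gf (f502934 IH) (Lpn v1792)))))))))))).symm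
theorem f624593 : Led Lsl_df v560 = v3197 :=
  Lgr Lrot38 (Lpr_dt (f624592 IH) (Lpn v3197))
def v2171 : LQ := Led Lsl_at (LP (LK LD1_c1 LD2_c36 LD3_c52))
theorem f509460 : Led Lsl_at (LP (LK LD1_c1 LD2_c36 LD3_c52)) = v2171 :=
  Lrfl
theorem f509461 : Led Lsl_af (LP (LK LD1_c1 LD2_c36 LD3_c52)) = v2171 :=
  Lgr Lrot0 (Lpr_at (f509460 IH) (Lpn v2171))
theorem f414093 : Led Lsl_gt (LP (LK LD1_c0 LD2_c44 LD3_c52)) = (LP (LK LD1_c1 LD2_c36 LD3_c52)) :=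
  Lre_g IH (LK LD1_c0 LD2_c44 LD3_c52) (LK LD1_c1 LD2_c36 LD3_c52) Lrfl Lrfl
theorem f509462 : Led Lsl_ft v560 = v2171 :=
  Lgr Lrot2 (Lpe (f453994 IH) (Lpr_gt (f414093 IH) (Lpr_af (f509461 IH) (Lpn v2171))))
theorem f649435 : Led Lsl_df v5257 = v2171 :=
  Lgr Lrot78 (Lpe (f646820 IH) (Lpq (f649434 IH) (Lpe (f624593 IH) (Lpr_ft (f509462 IH) (Lpn v2171)))))
theorem f649437 : v5259 = (LP (LK LD1_c1 LD2_c36 LD3_c52)) :=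
  (Llr Lrot44 (Lpe (f646824 IH) (Lpr_af (f646818 IH) (Lpr_df (f649435 IH) (Lpe (f509460 IH) (Lpn (LP (LK LD1_c1 LD2_c36 LD3_c52)))))))).symm
theorem f649439 : Led Lsl_dt (LP (LK LD1_c3 LD2_c2 LD3_c43)) = (LP (LK LD1_c1 LD2_c36 LD3_c52)) :=
  Leop (Lpq (f649437 IH) (Lpe (f646824 IH) (Lpn (LP (LK LD1_c3 LD2_c2 LD3_c43)))))
theorem seed_326 : LEOK LG_d (LK LD1_c3 LD2_c2 LD3_c43) :=
  Leoe_d (LK LD1_c3 LD2_c2 LD3_c43) (f649439 IH)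
def v5793 : LQ := Led Lsl_gf (LP (LK LD1_c3 LD2_c13 LD3_c28))
theorem f649450 : Led Lsl_gf (LP (LK LD1_c3 LD2_c13 LD3_c28)) = v5793 :=
  Lrfl
def v1922 : LQ := Led Lsl_ct (LP (LK LD1_c1 LD2_c31 LD3_c36))
theorem f506397 : Led Lsl_ct (LP (LK LD1_c1 LD2_c31 LD3_c36)) = v1922 :=
  Lrfl
theorem f506398 : Led Lsl_af (LP (LK LD1_c3 LD2_c13 LD3_c28)) = v1922 :=
  Lgr Lrot68 (Lpr_ct (K44.f65585 IH) (Lpr_at (K34.f129061 IH) (Lpr_ct (f506397 IH) (Lpn v1922))))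
def v5569 : LQ := Led Lsl_ct (LP (LK LD1_c3 LD2_c10 LD3_c34))
theorem f648292 : Led Lsl_ct (LP (LK LD1_c3 LD2_c10 LD3_c34)) = v5569 :=
  Lrfl
theorem f506399 : Led Lsl_cf (LP (LK LD1_c1 LD2_c31 LD3_c36)) = v1922 :=
  Lgr Lrot11 (Lpr_ct (f506397 IH) (Lpn v1922))
theorem f648294 : Led Lsl_ff v1922 = v5569 :=
  Lgr Lrot23 (Lpe (f506399 IH) (Lpr_ft (K5.f129072 IH) (Lpr_ct (f648292 IH) (Lpn v5569))))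
theorem f649451 : Led Lsl_gt v5569 = v5793 :=
  Lgr Lrot5 (Lpe (f648294 IH) (Lpe (f506398 IH) (Lpr_gf (f649450 IH) (Lpn v5793))))
theorem f22876 : Led Lsl_bt (LP (LK LD1_c0 LD2_c30 LD3_c2)) = (LP (LK LD1_c1 LD2_c5 LD3_c39)) :=
  Lre_b IH (LK LD1_c0 LD2_c30 LD3_c2) (LK LD1_c1 LD2_c5 LD3_c39) Lrfl Lrfl
theorem f78495 : Led Lsl_gt (LP (LK LD1_c2 LD2_c17 LD3_c26)) = (LP (LK LD1_c1 LD2_c5 LD3_c39)) :=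
  Lre_g IH (LK LD1_c2 LD2_c17 LD3_c26) (LK LD1_c1 LD2_c5 LD3_c39) Lrfl Lrfl
def v4242 : LQ := Led Lsl_bt (LP (LK LD1_c2 LD2_c17 LD3_c26))
theorem f632159 : Led Lsl_bt (LP (LK LD1_c2 LD2_c17 LD3_c26)) = v4242 :=
  Lrfl
theorem f632160 : Led Lsl_bf (LP (LK LD1_c2 LD2_c17 LD3_c26)) = v4242 :=
  Lgr Lrot24 (Lpr_bt (f632159 IH) (Lpn v4242))
theorem f649452 : Led Lsl_ct v4242 = v5793 :=
  Lgr Lrot63 (Lpe (f632160 IH) (Lpr_gt (f78495 IH) (Lpe (f22876 IH) (Lpr_ct (K17.f22866 IH) (Lpr_gt (K24.f22860 IH) (Lpr_cf (K9.f139974 IH) (Lpr_bt (K34.f139987 IH) (Lpqs (K34.f527823 IH) (Lpr_gt (K34.f506792 IH) (Lpr_ct (f648292 IH) (Lpr_gt (f649451 IH) (Lpn v5793))))))))))))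
theorem f58340 : Led Lsl_gt (LP (LK LD1_c4 LD2_c40 LD3_c22)) = (LP (LK LD1_c2 LD2_c17 LD3_c26)) :=
  Lre_g IH (LK LD1_c4 LD2_c40 LD3_c22) (LK LD1_c2 LD2_c17 LD3_c26) Lrfl Lrfl
theorem f58309 : Led Lsl_bt (LP (LK LD1_c3 LD2_c1 LD3_c47)) = (LP (LK LD1_c4 LD2_c40 LD3_c22)) :=
  Lre_b IH (LK LD1_c3 LD2_c1 LD3_c47) (LK LD1_c4 LD2_c40 LD3_c22) Lrfl Lrfl
theorem f414651 : Led Lsl_ct (LP (LK LD1_c3 LD2_c1 LD3_c47)) = (LP (LK LD1_c6 LD2_c10 LD3_c15)) :=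
  Lre_c IH (LK LD1_c3 LD2_c1 LD3_c47) (LK LD1_c6 LD2_c10 LD3_c15) Lrfl Lrfl
theorem f443695 : Led Lsl_gt (LP (LK LD1_c3 LD2_c2 LD3_c10)) = (LP (LK LD1_c6 LD2_c10 LD3_c15)) :=
  Lre_g IH (LK LD1_c3 LD2_c2 LD3_c10) (LK LD1_c6 LD2_c10 LD3_c15) Lrfl Lrfl
theorem f504414 : Led Lsl_ct (LP (LK LD1_c6 LD2_c11 LD3_c7)) = (LP (LK LD1_c3 LD2_c2 LD3_c10)) :=
  Lre_c IH (LK LD1_c6 LD2_c11 LD3_c7) (LK LD1_c3 LD2_c2 LD3_c10) Lrfl Lrfl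
theorem f65575 : Led Lsl_ct (LP (LK LD1_c1 LD2_c33 LD3_c11)) = (LP (LK LD1_c3 LD2_c13 LD3_c28)) :=
  Lre_c IH (LK LD1_c1 LD2_c33 LD3_c11) (LK LD1_c3 LD2_c13 LD3_c28) Lrfl Lrfl
def v5788 : LQ := Led Lsl_gt (LP (LK LD1_c3 LD2_c13 LD3_c25))
theorem f649353 : Led Lsl_gt (LP (LK LD1_c3 LD2_c13 LD3_c25)) = v5788 :=
  Lrfl
theorem f649454 : (LP (LK LD1_c6 LD2_c11 LD3_c7)) = v5788 :=
  (Llr Lrot125 (Lpr_ct (f504414 IH) (Lpr_gt (f443695 IH) (Lpe (f414651 IH) (Lpr_bt (f58309 IH) (Lpr_gt (f58340 IH) (Lpr_bf (f632160 IH) (Lpr_ct (f649452 IH) (Lpe (f649450 IH) (Lpe (f65575 IH) (Lpr_bt (K44.f65584 IH) (Lpr_gt (f649353 IH) (Lpn v5788))))))))))))).symm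
theorem f130985 : Led Lsl_ft (LP (LK LD1_c3 LD2_c45 LD3_c22)) = (LP (LK LD1_c1 LD2_c49 LD3_c50)) :=
  Lre_f IH (LK LD1_c3 LD2_c45 LD3_c22) (LK LD1_c1 LD2_c49 LD3_c50) Lrfl Lrfl
theorem f649357 : Led Lsl_af (LP (LK LD1_c3 LD2_c45 LD3_c22)) = v5790 :=
  Lgr Lrot45 (Lpr_ft (f130985 IH) (Lpe (K34.f130960 IH) (Lpr_ft (f649356 IH) (Lpn v5790))))
theorem f649363 : Led Lsl_gt v5788 = (LP (LK LD1_c3 LD2_c45 LD3_c22)) :=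
  Lgr Lrot46 (Lpe (f649353 IH) (Lpr_ft (f649356 IH) (Lpe (f649357 IH) (Lpn (LP (LK LD1_c3 LD2_c45 LD3_c22))))))
theorem f649455 : Led Lsl_gt (LP (LK LD1_c6 LD2_c11 LD3_c7)) = (LP (LK LD1_c3 LD2_c45 LD3_c22)) :=
  Leop (Lpe (f649363 IH) (Lpq (f649454 IH) (Lpn (LP (LK LD1_c6 LD2_c11 LD3_c7)))))
theorem seed_327 : LEOK LG_g (LK LD1_c6 LD2_c11 LD3_c7) :=
  Leoe_g (LK LD1_c6 LD2_c11 LD3_c7) (f649455 IH)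
theorem f649456 : Led Lsl_gt (LP (LK LD1_c3 LD2_c13 LD3_c25)) = (LP (LK LD1_c6 LD2_c11 LD3_c7)) :=
  Leop (Lpqs (f649454 IH) (Lpe (f649353 IH) (Lpn (LP (LK LD1_c3 LD2_c13 LD3_c25)))))
theorem seed_328 : LEOK LG_g (LK LD1_c3 LD2_c13 LD3_c25) :=
  Leoe_g (LK LD1_c3 LD2_c13 LD3_c25) (f649456 IH)
def v5826 : LQ := Led Lsl_bt (LP (LK LD1_c3 LD2_c13 LD3_c51))
theorem f649604 : Led Lsl_bt (LP (LK LD1_c3 LD2_c13 LD3_c51)) = v5826 :=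
  Lrfl
theorem f649605 : Led Lsl_bf (LP (LK LD1_c3 LD2_c13 LD3_c51)) = v5826 :=
  Lgr Lrot24 (Lpr_bt (f649604 IH) (Lpn v5826))
theorem f22560 : Led Lsl_gt (LP (LK LD1_c1 LD2_c33 LD3_c42)) = (LP (LK LD1_c3 LD2_c13 LD3_c51)) :=
  Lre_g IH (LK LD1_c1 LD2_c33 LD3_c42) (LK LD1_c3 LD2_c13 LD3_c51) Lrfl Lrfl
def v1973 : LQ := Led Lsl_gf (LP (LK LD1_c1 LD2_c32 LD3_c43))
theorem f506694 : Led Lsl_gf (LP (LK LD1_c1 LD2_c32 LD3_c43)) = v1973 :=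
  Lrfl
theorem f649606 : Led Lsl_cf v1973 = v5826 :=
  Lgr Lrot160 (Lpe (f506694 IH) (Lpe (K4.f82668 IH) (Lpr_bt (K11.f82664 IH) (Lpr_gt (K11.f13558 IH) (Lpr_ct (K32.f82684 IH) (Lpe (K41.f446243 IH) (Lpe (K7.f22517 IH) (Lpr_bt (K8.f22559 IH) (Lpr_gt (f22560 IH) (Lpr_bf (f649605 IH) (Lpn v5826)))))))))))
theorem f648882 : Led Lsl_ff (LP (LK LD1_c3 LD2_c12 LD3_c4)) = v5692 :=
  Lgr Lrot3 (Lpr_ft (f648879 IH) (Lpn v5692))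
theorem f82669 : Led Lsl_at (LP (LK LD1_c3 LD2_c12 LD3_c4)) = (LP (LK LD1_c1 LD2_c32 LD3_c43)) :=
  Lre_a IH (LK LD1_c3 LD2_c12 LD3_c4) (LK LD1_c1 LD2_c32 LD3_c43) Lrfl Lrfl
theorem f648924 : Led Lsl_gf v1973 = v5692 :=
  Lgr Lrot47 (Lpe (f506694 IH) (Lpe (f82669 IH) (Lpr_ff (f648882 IH) (Lpn v5692))))
theorem f82782 : Led Lsl_ct (LP (LK LD1_c3 LD2_c12 LD3_c4)) = (LP (LK LD1_c1 LD2_c32 LD3_c33)) :=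
  Lre_c IH (LK LD1_c3 LD2_c12 LD3_c4) (LK LD1_c1 LD2_c32 LD3_c33) Lrfl Lrfl
def v1970 : LQ := Led Lsl_ft (LP (LK LD1_c1 LD2_c32 LD3_c33))
theorem f506674 : Led Lsl_ft (LP (LK LD1_c1 LD2_c32 LD3_c33)) = v1970 :=
  Lrfl
theorem f648923 : Led Lsl_ct v1970 = v5692 :=
  Lgr Lrot40 (Lpe (f506674 IH) (Lpe (f82782 IH) (Lpr_ff (f648882 IH) (Lpn v5692))))
theorem f506676 : Led Lsl_ff (LP (LK LD1_c1 LD2_c32 LD3_c33)) = v1970 :=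
  Lgr Lrot3 (Lpr_ft (f506674 IH) (Lpn v1970))
theorem f82659 : Led Lsl_at (LP (LK LD1_c1 LD2_c32 LD3_c33)) = (LP (LK LD1_c0 LD2_c42 LD3_c57)) :=
  Lre_a IH (LK LD1_c1 LD2_c32 LD3_c33) (LK LD1_c0 LD2_c42 LD3_c57) Lrfl Lrfl
theorem f506679 : Led Lsl_at v498 = v1970 :=
  Lgr Lrot66 (Lpe (f453630 IH) (Lpe (f82659 IH) (Lpr_ff (f506676 IH) (Lpn v1970))))
theorem f82670 : Led Lsl_gt (LP (LK LD1_c0 LD2_c42 LD3_c57)) = (LP (LK LD1_c1 LD2_c32 LD3_c44)) :=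
  Lre_g IH (LK LD1_c0 LD2_c42 LD3_c57) (LK LD1_c1 LD2_c32 LD3_c44) Lrfl Lrfl
theorem f506682 : Led Lsl_gt (LP (LK LD1_c1 LD2_c32 LD3_c44)) = v1970 :=
  Lgr Lrot46 (Lpe (f82670 IH) (Lpr_ft (f453630 IH) (Lpr_at (f506679 IH) (Lpn v1970))))
theorem f82904 : Led Lsl_bt (LP (LK LD1_c3 LD2_c12 LD3_c31)) = (LP (LK LD1_c1 LD2_c32 LD3_c44)) :=
  Lre_b IH (LK LD1_c3 LD2_c12 LD3_c31) (LK LD1_c1 LD2_c32 LD3_c44) Lrfl Lrfl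
theorem f82905 : Led Lsl_ct (LP (LK LD1_c3 LD2_c12 LD3_c31)) = (LP (LK LD1_c6 LD2_c29 LD3_c7)) :=
  Lre_c IH (LK LD1_c3 LD2_c12 LD3_c31) (LK LD1_c6 LD2_c29 LD3_c7) Lrfl Lrfl
theorem f148400 : Led Lsl_gt (LP (LK LD1_c3 LD2_c13 LD3_c51)) = (LP (LK LD1_c1 LD2_c33 LD3_c29)) :=
  Lre_g IH (LK LD1_c3 LD2_c13 LD3_c51) (LK LD1_c1 LD2_c33 LD3_c29) Lrfl Lrfl
theorem f144051 : Led Lsl_at (LP (LK LD1_c1 LD2_c7 LD3_c20)) = (LP (LK LD1_c2 LD2_c20 LD3_c0)) :=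
  Lre_a IH (LK LD1_c1 LD2_c7 LD3_c20) (LK LD1_c2 LD2_c20 LD3_c0) Lrfl Lrfl
theorem f23721 : Led Lsl_at (LP (LK LD1_c1 LD2_c33 LD3_c29)) = (LP (LK LD1_c0 LD2_c43 LD3_c25)) :=
  Lre_a IH (LK LD1_c1 LD2_c33 LD3_c29) (LK LD1_c0 LD2_c43 LD3_c25) Lrfl Lrfl
theorem f151914 : Led Lsl_bt (LP (LK LD1_c2 LD2_c20 LD3_c0)) = (LP (LK LD1_c1 LD2_c33 LD3_c29)) :=
  Lgr Lrot62 (Lpe (f144051 IH) (Lpe (K24.f25213 IH) (Lpr_af (K7.f151903 IH) (Lpe (K0.f22585 IH) (Lpe (f23721 IH) (Lpn (LP (LK LD1_c1 LD2_c33 LD3_c29))))))))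
theorem f144100 : Led Lsl_ct (LP (LK LD1_c2 LD2_c20 LD3_c0)) = (LP (LK LD1_c4 LD2_c44 LD3_c6)) :=
  Lre_c IH (LK LD1_c2 LD2_c20 LD3_c0) (LK LD1_c4 LD2_c44 LD3_c6) Lrfl Lrfl
theorem f649608 : Led Lsl_gf (LP (LK LD1_c6 LD2_c29 LD3_c7)) = (LP (LK LD1_c4 LD2_c44 LD3_c6)) :=
  Lgr Lrot126 (Lpe (f82905 IH) (Lpr_bt (f82904 IH) (Lpr_gt (f506682 IH) (Lpr_ct (f648923 IH) (Lpe (f648924 IH) (Lpr_cf (f649606 IH) (Lpe (f649605 IH) (Lpr_gt (f148400 IH) (Lpe (f151914 IH) (Lpr_ct (f144100 IH) (Lpn (LP (LK LD1_c4 LD2_c44 LD3_c6)))))))))))))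
theorem f649609 : Led Lsl_gt (LP (LK LD1_c4 LD2_c44 LD3_c6)) = (LP (LK LD1_c6 LD2_c29 LD3_c7)) :=
  Leop (Lpr_gf (f649608 IH) (Lpn (LP (LK LD1_c4 LD2_c44 LD3_c6))))
theorem seed_329 : LEOK LG_g (LK LD1_c4 LD2_c44 LD3_c6) :=
  Leoe_g (LK LD1_c4 LD2_c44 LD3_c6) (f649609 IH)
def v5834 : LQ := Led Lsl_ft (LP (LK LD1_c3 LD2_c13 LD3_c57))
theorem f649722 : Led Lsl_ft (LP (LK LD1_c3 LD2_c13 LD3_c57)) = v5834 :=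
  Lrfl
theorem f147533 : Led Lsl_gt (LP (LK LD1_c3 LD2_c13 LD3_c57)) = (LP (LK LD1_c6 LD2_c31 LD3_c28)) :=
  Lre_g IH (LK LD1_c3 LD2_c13 LD3_c57) (LK LD1_c6 LD2_c31 LD3_c28) Lrfl Lrfl
theorem f209381 : Led Lsl_bt (LP (LK LD1_c6 LD2_c31 LD3_c36)) = (LP (LK LD1_c6 LD2_c44 LD3_c34)) :=
  Lgr Lrot35 (Lpr_ff (K36.f209376 IH) (Lpe (K11.f209333 IH) (Lpe (K8.f147488 IH) (Lpn (LP (LK LD1_c6 LD2_c44 LD3_c34))))))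
theorem f209394 : Led Lsl_af (LP (LK LD1_c1 LD2_c33 LD3_c34)) = (LP (LK LD1_c1 LD2_c48 LD3_c39)) :=
  Lgr Lrot36 (Lpr_bt (K36.f22629 IH) (Lpr_at (K36.f209387 IH) (Lpr_bt (f209381 IH) (Lpe (K11.f206836 IH) (Lpr_bt (K7.f121237 IH) (Lpn (LP (LK LD1_c1 LD2_c48 LD3_c39))))))))
theorem f147457 : Led Lsl_et (LP (LK LD1_c1 LD2_c33 LD3_c34)) = (LP (LK LD1_c3 LD2_c14 LD3_c0)) :=
  Lre_e IH (LK LD1_c1 LD2_c33 LD3_c34) (LK LD1_c3 LD2_c14 LD3_c0) Lrfl Lrfl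
theorem f121239 : Led Lsl_et (LP (LK LD1_c3 LD2_c43 LD3_c12)) = (LP (LK LD1_c1 LD2_c48 LD3_c39)) :=
  Lre_e IH (LK LD1_c3 LD2_c43 LD3_c12) (LK LD1_c1 LD2_c48 LD3_c39) Lrfl Lrfl
theorem f209398 : Led Lsl_at (LP (LK LD1_c3 LD2_c14 LD3_c0)) = (LP (LK LD1_c3 LD2_c43 LD3_c12)) :=
  Lgr Lrot80 (Lpe (f147457 IH) (Lpr_af (f209394 IH) (Lpe (f121239 IH) (Lpn (LP (LK LD1_c3 LD2_c43 LD3_c12))))))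
theorem f209345 : Led Lsl_ft (LP (LK LD1_c6 LD2_c31 LD3_c39)) = (LP (LK LD1_c3 LD2_c14 LD3_c0)) :=
  Lre_f IH (LK LD1_c6 LD2_c31 LD3_c39) (LK LD1_c3 LD2_c14 LD3_c0) Lrfl Lrfl
theorem f209402 : Led Lsl_ft (LP (LK LD1_c3 LD2_c43 LD3_c12)) = (LP (LK LD1_c7 LD2_c27 LD3_c3)) :=
  Lre_f IH (LK LD1_c3 LD2_c43 LD3_c12) (LK LD1_c7 LD2_c27 LD3_c3) Lrfl Lrfl
theorem f209408 : Led Lsl_af (LP (LK LD1_c6 LD2_c31 LD3_c39)) = (LP (LK LD1_c7 LD2_c27 LD3_c3)) :=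
  Lgr Lrot45 (Lpr_ft (f209345 IH) (Lpr_at (f209398 IH) (Lpr_ft (f209402 IH) (Lpn (LP (LK LD1_c7 LD2_c27 LD3_c3))))))
theorem f209370 : Led Lsl_ct (LP (LK LD1_c6 LD2_c31 LD3_c39)) = (LP (LK LD1_c3 LD2_c14 LD3_c3)) :=
  Lre_c IH (LK LD1_c6 LD2_c31 LD3_c39) (LK LD1_c3 LD2_c14 LD3_c3) Lrfl Lrfl
theorem f208784 : Led Lsl_ct (LP (LK LD1_c3 LD2_c43 LD3_c15)) = (LP (LK LD1_c7 LD2_c27 LD3_c3)) :=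
  Lre_c IH (LK LD1_c3 LD2_c43 LD3_c15) (LK LD1_c7 LD2_c27 LD3_c3) Lrfl Lrfl
theorem f209416 : Led Lsl_at (LP (LK LD1_c3 LD2_c14 LD3_c3)) = (LP (LK LD1_c3 LD2_c43 LD3_c15)) :=
  Lgr Lrot107 (Lpe (f209370 IH) (Lpr_af (f209408 IH) (Lpe (f208784 IH) (Lpn (LP (LK LD1_c3 LD2_c43 LD3_c15))))))
theorem f209372 : Led Lsl_dt (LP (LK LD1_c6 LD2_c31 LD3_c44)) = (LP (LK LD1_c3 LD2_c14 LD3_c3)) :=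
  Lre_d IH (LK LD1_c6 LD2_c31 LD3_c44) (LK LD1_c3 LD2_c14 LD3_c3) Lrfl Lrfl
theorem f208786 : Led Lsl_dt (LP (LK LD1_c3 LD2_c43 LD3_c15)) = (LP (LK LD1_c7 LD2_c27 LD3_c7)) :=
  Lre_d IH (LK LD1_c3 LD2_c43 LD3_c15) (LK LD1_c7 LD2_c27 LD3_c7) Lrfl Lrfl
theorem f209422 : Led Lsl_af (LP (LK LD1_c6 LD2_c31 LD3_c44)) = (LP (LK LD1_c7 LD2_c27 LD3_c7)) :=
  Lgr Lrot117 (Lpr_dt (f209372 IH) (Lpr_at (f209416 IH) (Lpr_dt (f208786 IH) (Lpn (LP (LK LD1_c7 LD2_c27 LD3_c7))))))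
theorem f209432 : Led Lsl_ft (LP (LK LD1_c6 LD2_c31 LD3_c44)) = (LP (LK LD1_c3 LD2_c14 LD3_c2)) :=
  Lre_f IH (LK LD1_c6 LD2_c31 LD3_c44) (LK LD1_c3 LD2_c14 LD3_c2) Lrfl Lrfl
theorem f209433 : Led Lsl_ft (LP (LK LD1_c3 LD2_c43 LD3_c14)) = (LP (LK LD1_c7 LD2_c27 LD3_c7)) :=
  Lre_f IH (LK LD1_c3 LD2_c43 LD3_c14) (LK LD1_c7 LD2_c27 LD3_c7) Lrfl Lrfl
theorem f209434 : Led Lsl_at (LP (LK LD1_c3 LD2_c14 LD3_c2)) = (LP (LK LD1_c3 LD2_c43 LD3_c14)) :=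
  Lgr Lrot66 (Lpe (f209432 IH) (Lpr_af (f209422 IH) (Lpe (f209433 IH) (Lpn (LP (LK LD1_c3 LD2_c43 LD3_c14))))))
theorem f209436 : Led Lsl_af (LP (LK LD1_c3 LD2_c14 LD3_c2)) = (LP (LK LD1_c3 LD2_c43 LD3_c14)) :=
  Lgr Lrot0 (Lpr_at (f209434 IH) (Lpn (LP (LK LD1_c3 LD2_c43 LD3_c14))))
theorem f209471 : Led Lsl_dt (LP (LK LD1_c3 LD2_c14 LD3_c2)) = (LP (LK LD1_c1 LD2_c33 LD3_c35)) :=
  Lre_d IH (LK LD1_c3 LD2_c14 LD3_c2) (LK LD1_c1 LD2_c33 LD3_c35) Lrfl Lrfl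
theorem f208773 : Led Lsl_dt (LP (LK LD1_c1 LD2_c48 LD3_c40)) = (LP (LK LD1_c3 LD2_c43 LD3_c14)) :=
  Lre_d IH (LK LD1_c1 LD2_c48 LD3_c40) (LK LD1_c3 LD2_c43 LD3_c14) Lrfl Lrfl
theorem f209480 : Led Lsl_at (LP (LK LD1_c1 LD2_c33 LD3_c35)) = (LP (LK LD1_c1 LD2_c48 LD3_c40)) :=
  Lgr Lrot51 (Lpe (f209471 IH) (Lpr_af (f209436 IH) (Lpe (f208773 IH) (Lpn (LP (LK LD1_c1 LD2_c48 LD3_c40))))))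
theorem f134836 : Led Lsl_et (LP (LK LD1_c0 LD2_c43 LD3_c23)) = (LP (LK LD1_c1 LD2_c33 LD3_c35)) :=
  Lre_e IH (LK LD1_c0 LD2_c43 LD3_c23) (LK LD1_c1 LD2_c33 LD3_c35) Lrfl Lrfl
theorem f116069 : Led Lsl_et (LP (LK LD1_c1 LD2_c48 LD3_c40)) = (LP (LK LD1_c0 LD2_c51 LD3_c6)) :=
  Lre_e IH (LK LD1_c1 LD2_c48 LD3_c40) (LK LD1_c0 LD2_c51 LD3_c6) Lrfl Lrfl
theorem f209485 : Led Lsl_af (LP (LK LD1_c0 LD2_c43 LD3_c23)) = (LP (LK LD1_c0 LD2_c51 LD3_c6)) :=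
  Lgr Lrot50 (Lpr_et (f134836 IH) (Lpr_at (f209480 IH) (Lpr_et (f116069 IH) (Lpn (LP (LK LD1_c0 LD2_c51 LD3_c6))))))
theorem f86778 : Led Lsl_et (LP (LK LD1_c0 LD2_c51 LD3_c5)) = (LP (LK LD1_c0 LD2_c23 LD3_c4)) :=
  Lre_e IH (LK LD1_c0 LD2_c51 LD3_c5) (LK LD1_c0 LD2_c23 LD3_c4) Lrfl Lrfl
theorem f106980 : Led Lsl_ft (LP (LK LD1_c1 LD2_c37 LD3_c47)) = (LP (LK LD1_c0 LD2_c51 LD3_c5)) :=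
  Lgr Lrot54 (Lpe (K3.f87488 IH) (Lpr_ff (K3.f106976 IH) (Lpe (K3.f86737 IH) (Lpn (LP (LK LD1_c0 LD2_c51 LD3_c5))))))
theorem f121304 : Led Lsl_ff (LP (LK LD1_c0 LD2_c45 LD3_c19)) = (LP (LK LD1_c0 LD2_c39 LD3_c59)) :=
  Lgr Lrot72 (Lpr_et (K2.f84757 IH) (Lpr_ft (f106980 IH) (Lpr_et (f86778 IH) (Lpr_ft (K4.f121298 IH) (Lpe (K6.f106138 IH) (Lpn (LP (LK LD1_c0 LD2_c39 LD3_c59))))))))
theorem f148097 : Led Lsl_ft (LP (LK LD1_c0 LD2_c43 LD3_c23)) = (LP (LK LD1_c0 LD2_c51 LD3_c7)) :=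
  Lgr Lrot54 (Lpr_df (K6.f134849 IH) (Lpr_ff (f121304 IH) (Lpr_df (K7.f148075 IH) (Lpn (LP (LK LD1_c0 LD2_c51 LD3_c7))))))
theorem f147515 : Led Lsl_ff (LP (LK LD1_c0 LD2_c51 LD3_c6)) = (LP (LK LD1_c0 LD2_c43 LD3_c22)) :=
  Lgr Lrot19 (Lpr_dt (K4.f116055 IH) (Lpe (K4.f109388 IH) (Lpr_dt (K6.f147508 IH) (Lpn (LP (LK LD1_c0 LD2_c43 LD3_c22))))))
theorem f209487 : Led Lsl_at (LP (LK LD1_c0 LD2_c51 LD3_c7)) = (LP (LK LD1_c0 LD2_c43 LD3_c22)) :=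
  Lgr Lrot66 (Lpe (f148097 IH) (Lpr_af (f209485 IH) (Lpr_ff (f147515 IH) (Lpn (LP (LK LD1_c0 LD2_c43 LD3_c22))))))
theorem f148094 : Led Lsl_et (LP (LK LD1_c1 LD2_c48 LD3_c43)) = (LP (LK LD1_c0 LD2_c51 LD3_c7)) :=
  Lre_e IH (LK LD1_c1 LD2_c48 LD3_c43) (LK LD1_c0 LD2_c51 LD3_c7) Lrfl Lrfl
theorem f129277 : Led Lsl_et (LP (LK LD1_c0 LD2_c43 LD3_c22)) = (LP (LK LD1_c1 LD2_c33 LD3_c32)) :=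
  Lre_e IH (LK LD1_c0 LD2_c43 LD3_c22) (LK LD1_c1 LD2_c33 LD3_c32) Lrfl Lrfl
theorem f209489 : Led Lsl_af (LP (LK LD1_c1 LD2_c48 LD3_c43)) = (LP (LK LD1_c1 LD2_c33 LD3_c32)) :=
  Lgr Lrot50 (Lpr_et (f148094 IH) (Lpr_at (f209487 IH) (Lpr_et (f129277 IH) (Lpn (LP (LK LD1_c1 LD2_c33 LD3_c32))))))
theorem f209493 : Led Lsl_ct (LP (LK LD1_c1 LD2_c48 LD3_c43)) = (LP (LK LD1_c3 LD2_c43 LD3_c18)) :=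
  Lre_c IH (LK LD1_c1 LD2_c48 LD3_c43) (LK LD1_c3 LD2_c43 LD3_c18) Lrfl Lrfl
theorem f209494 : Led Lsl_at (LP (LK LD1_c3 LD2_c43 LD3_c18)) = (LP (LK LD1_c3 LD2_c13 LD3_c57)) :=
  Lgr Lrot107 (Lpe (f209493 IH) (Lpr_af (f209489 IH) (Lpe (K24.f207472 IH) (Lpn (LP (LK LD1_c3 LD2_c13 LD3_c57))))))
theorem f209356 : Led Lsl_ft (LP (LK LD1_c7 LD2_c27 LD3_c16)) = (LP (LK LD1_c3 LD2_c43 LD3_c18)) :=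
  Lre_f IH (LK LD1_c7 LD2_c27 LD3_c16) (LK LD1_c3 LD2_c43 LD3_c18) Lrfl Lrfl
theorem f649723 : Led Lsl_af (LP (LK LD1_c7 LD2_c27 LD3_c16)) = v5834 :=
  Lgr Lrot45 (Lpr_ft (f209356 IH) (Lpr_at (f209494 IH) (Lpr_ft (f649722 IH) (Lpn v5834))))
theorem f649727 : Led Lsl_gt (LP (LK LD1_c6 LD2_c31 LD3_c28)) = (LP (LK LD1_c7 LD2_c27 LD3_c16)) :=
  Lgr Lrot46 (Lpe (f147533 IH) (Lpr_ft (f649722 IH) (Lpe (f649723 IH) (Lpn (LP (LK LD1_c7 LD2_c27 LD3_c16))))))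
theorem f649728 : Led Lsl_gt (LP (LK LD1_c6 LD2_c31 LD3_c28)) = (LP (LK LD1_c7 LD2_c27 LD3_c16)) :=
  Leop (Lpe (f649727 IH) (Lpn (LP (LK LD1_c6 LD2_c31 LD3_c28))))
theorem seed_330 : LEOK LG_g (LK LD1_c6 LD2_c31 LD3_c28) :=
  Leoe_g (LK LD1_c6 LD2_c31 LD3_c28) (f649728 IH)
def v5866 : LQ := Led Lsl_ft (LP (LK LD1_c3 LD2_c14 LD3_c19))
theorem f649886 : Led Lsl_ft (LP (LK LD1_c3 LD2_c14 LD3_c19)) = v5866 :=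
  Lrfl
theorem f506863 : Led Lsl_gt (LP (LK LD1_c3 LD2_c14 LD3_c19)) = (LP (LK LD1_c6 LD2_c32 LD3_c19)) :=
  Lre_g IH (LK LD1_c3 LD2_c14 LD3_c19) (LK LD1_c6 LD2_c32 LD3_c19) Lrfl Lrfl
def v5865 : LQ := Led Lsl_at (LP (LK LD1_c3 LD2_c14 LD3_c19))
theorem f649878 : Led Lsl_at (LP (LK LD1_c3 LD2_c14 LD3_c19)) = v5865 :=
  Lrfl
theorem f649879 : Led Lsl_af (LP (LK LD1_c3 LD2_c14 LD3_c19)) = v5865 :=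
  Lgr Lrot0 (Lpr_at (f649878 IH) (Lpn v5865))
theorem f22530 : Led Lsl_dt (LP (LK LD1_c1 LD2_c33 LD3_c40)) = (LP (LK LD1_c3 LD2_c14 LD3_c19)) :=
  Lre_d IH (LK LD1_c1 LD2_c33 LD3_c40) (LK LD1_c3 LD2_c14 LD3_c19) Lrfl Lrfl
def v2015 : LQ := Led Lsl_at (LP (LK LD1_c1 LD2_c33 LD3_c40))
theorem f506896 : Led Lsl_at (LP (LK LD1_c1 LD2_c33 LD3_c40)) = v2015 :=
  Lrfl
theorem f506897 : Led Lsl_af (LP (LK LD1_c1 LD2_c33 LD3_c40)) = v2015 :=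
  Lgr Lrot0 (Lpr_at (f506896 IH) (Lpn v2015))
theorem f649880 : Led Lsl_df v2015 = v5865 :=
  Lgr Lrot18 (Lpe (f506897 IH) (Lpr_dt (f22530 IH) (Lpr_at (f649878 IH) (Lpn v5865))))
theorem f22737 : Led Lsl_gt (LP (LK LD1_c1 LD2_c33 LD3_c41)) = (LP (LK LD1_c0 LD2_c43 LD3_c25)) :=
  Lre_g IH (LK LD1_c1 LD2_c33 LD3_c41) (LK LD1_c0 LD2_c43 LD3_c25) Lrfl Lrfl
theorem f506900 : Led Lsl_ft (LP (LK LD1_c1 LD2_c33 LD3_c41)) = v2015 :=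
  Lgr Lrot2 (Lpr_gt (f22737 IH) (Lpr_gt (f22529 IH) (Lpr_af (f506897 IH) (Lpn v2015))))
theorem f506903 : Led Lsl_ff (LP (LK LD1_c1 LD2_c33 LD3_c41)) = v2015 :=
  Lgr Lrot3 (Lpr_ft (f506900 IH) (Lpn v2015))
theorem f438902 : Led Lsl_dt (LP (LK LD1_c1 LD2_c33 LD3_c41)) = (LP (LK LD1_c3 LD2_c14 LD3_c22)) :=
  Lre_d IH (LK LD1_c1 LD2_c33 LD3_c41) (LK LD1_c3 LD2_c14 LD3_c22) Lrfl Lrfl
theorem f649882 : Led Lsl_ft (LP (LK LD1_c3 LD2_c14 LD3_c22)) = v5865 :=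
  Lgr Lrot54 (Lpe (f438902 IH) (Lpr_ff (f506903 IH) (Lpr_df (f649880 IH) (Lpn v5865))))
theorem f649887 : Led Lsl_af (LP (LK LD1_c3 LD2_c14 LD3_c22)) = v5866 :=
  Lgr Lrot45 (Lpr_ft (f649882 IH) (Lpe (f649879 IH) (Lpr_ft (f649886 IH) (Lpn v5866))))
theorem f649890 : Led Lsl_gt (LP (LK LD1_c6 LD2_c32 LD3_c19)) = (LP (LK LD1_c3 LD2_c14 LD3_c22)) :=
  Lgr Lrot46 (Lpe (f506863 IH) (Lpr_ft (f649886 IH) (Lpe (f649887 IH) (Lpn (LP (LK LD1_c3 LD2_c14 LD3_c22))))))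
theorem f649891 : Led Lsl_gt (LP (LK LD1_c6 LD2_c32 LD3_c19)) = (LP (LK LD1_c3 LD2_c14 LD3_c22)) :=
  Leop (Lpe (f649890 IH) (Lpn (LP (LK LD1_c6 LD2_c32 LD3_c19))))
theorem seed_331 : LEOK LG_g (LK LD1_c6 LD2_c32 LD3_c19) :=
  Leoe_g (LK LD1_c6 LD2_c32 LD3_c19) (f649891 IH)
def v5950 : LQ := Led Lsl_gf (LP (LK LD1_c3 LD2_c15 LD3_c19))
theorem f650182 : Led Lsl_gf (LP (LK LD1_c3 LD2_c15 LD3_c19)) = v5950 :=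
  Lrfl
theorem f126451 : Led Lsl_bt (LP (LK LD1_c3 LD2_c46 LD3_c60)) = (LP (LK LD1_c7 LD2_c34 LD3_c48)) :=
  Lre_b IH (LK LD1_c3 LD2_c46 LD3_c60) (LK LD1_c7 LD2_c34 LD3_c48) Lrfl Lrfl
def v2596 : LQ := Led Lsl_gf (LP (LK LD1_c1 LD2_c49 LD3_c21))
theorem f527699 : Led Lsl_gf (LP (LK LD1_c1 LD2_c49 LD3_c21)) = v2596 :=
  Lrfl
theorem f16694 : Led Lsl_at (LP (LK LD1_c0 LD2_c53 LD3_c4)) = (LP (LK LD1_c1 LD2_c49 LD3_c21)) :=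
  Lre_a IH (LK LD1_c0 LD2_c53 LD3_c4) (LK LD1_c1 LD2_c49 LD3_c21) Lrfl Lrfl
theorem f527700 : Led Lsl_gt (LP (LK LD1_c1 LD2_c52 LD3_c51)) = v2596 :=
  Lgr Lrot5 (Lpr_ft (K0.f15680 IH) (Lpr_at (f16694 IH) (Lpr_gf (f527699 IH) (Lpn v2596))))
theorem f650186 : Led Lsl_ct v2596 = v5950 :=
  Lgr Lrot91 (Lpe (f527700 IH) (Lpr_bf (K0.f15682 IH) (Lpr_ct (K29.f15715 IH) (Lpe (K28.f15716 IH) (Lpe (K28.f15717 IH) (Lpr_bt (K28.f15718 IH) (Lpe (K28.f465414 IH) (Lpe (f126451 IH) (Lpr_ct (K5.f126452 IH) (Lpr_gf (f650182 IH) (Lpn v5950)))))))))))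
theorem f64944 : Led Lsl_ct (LP (LK LD1_c7 LD2_c2 LD3_c38)) = (LP (LK LD1_c13 LD2_c21 LD3_c32)) :=
  Lre_c IH (LK LD1_c7 LD2_c2 LD3_c38) (LK LD1_c13 LD2_c21 LD3_c32) Lrfl Lrfl
theorem f126444 : Led Lsl_ct (LP (LK LD1_c14 LD2_c17 LD3_c41)) = (LP (LK LD1_c7 LD2_c34 LD3_c49)) :=
  Lre_c IH (LK LD1_c14 LD2_c17 LD3_c41) (LK LD1_c7 LD2_c34 LD3_c49) Lrfl Lrfl
theorem f650189 : Led Lsl_gt (LP (LK LD1_c13 LD2_c21 LD3_c32)) = (LP (LK LD1_c14 LD2_c17 LD3_c41)) :=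
  Lgr Lrot150 (Lpe (f64944 IH) (Lpe (K1.f64938 IH) (Lpe (K1.f15710 IH) (Lpr_gt (f527700 IH) (Lpr_ct (f650186 IH) (Lpe (f650182 IH) (Lpr_ct (K28.f96130 IH) (Lpe (K5.f96175 IH) (Lpe (f126444 IH) (Lpn (LP (LK LD1_c14 LD2_c17 LD3_c41))))))))))))
theorem f650190 : Led Lsl_gt (LP (LK LD1_c13 LD2_c21 LD3_c32)) = (LP (LK LD1_c14 LD2_c17 LD3_c41)) :=
  Leop (Lpe (f650189 IH) (Lpn (LP (LK LD1_c13 LD2_c21 LD3_c32))))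
theorem seed_332 : LEOK LG_g (LK LD1_c13 LD2_c21 LD3_c32) :=
  Leoe_g (LK LD1_c13 LD2_c21 LD3_c32) (f650190 IH)
def v5962 : LQ := Led Lsl_ft (LP (LK LD1_c3 LD2_c15 LD3_c41))
theorem f650246 : Led Lsl_ft (LP (LK LD1_c3 LD2_c15 LD3_c41)) = v5962 :=
  Lrfl
theorem f650234 : Led Lsl_gt (LP (LK LD1_c3 LD2_c15 LD3_c41)) = (LP (LK LD1_c6 LD2_c34 LD3_c41)) :=
  Lre_g IH (LK LD1_c3 LD2_c15 LD3_c41) (LK LD1_c6 LD2_c34 LD3_c41) Lrfl Lrfl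
theorem f137740 : Led Lsl_et (LP (LK LD1_c3 LD2_c15 LD3_c34)) = (LP (LK LD1_c6 LD2_c34 LD3_c25)) :=
  Lre_e IH (LK LD1_c3 LD2_c15 LD3_c34) (LK LD1_c6 LD2_c34 LD3_c25) Lrfl Lrfl
theorem f115602 : Led Lsl_et (LP (LK LD1_c12 LD2_c1 LD3_c37)) = (LP (LK LD1_c6 LD2_c10 LD3_c31)) :=
  Lre_e IH (LK LD1_c12 LD2_c1 LD3_c37) (LK LD1_c6 LD2_c10 LD3_c31) Lrfl Lrfl
theorem f150934 : Led Lsl_bt (LP (LK LD1_c6 LD2_c34 LD3_c25)) = (LP (LK LD1_c12 LD2_c1 LD3_c37)) :=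
  Lgr Lrot119 (Lpe (f137740 IH) (Lpr_bf (K32.f150930 IH) (Lpe (f115602 IH) (Lpn (LP (LK LD1_c12 LD2_c1 LD3_c37))))))
theorem f150939 : Led Lsl_bf (LP (LK LD1_c6 LD2_c34 LD3_c25)) = (LP (LK LD1_c12 LD2_c1 LD3_c37)) :=
  Lgr Lrot24 (Lpr_bt (f150934 IH) (Lpn (LP (LK LD1_c12 LD2_c1 LD3_c37))))
theorem f150943 : Led Lsl_at (LP (LK LD1_c6 LD2_c34 LD3_c25)) = (LP (LK LD1_c3 LD2_c15 LD3_c35)) :=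
  Lre_a IH (LK LD1_c6 LD2_c34 LD3_c25) (LK LD1_c3 LD2_c15 LD3_c35) Lrfl Lrfl
theorem f150944 : Led Lsl_bt (LP (LK LD1_c3 LD2_c15 LD3_c35)) = (LP (LK LD1_c1 LD2_c34 LD3_c33)) :=
  Lre_b IH (LK LD1_c3 LD2_c15 LD3_c35) (LK LD1_c1 LD2_c34 LD3_c33) Lrfl Lrfl
theorem f150945 : Led Lsl_at (LP (LK LD1_c6 LD2_c10 LD3_c33)) = (LP (LK LD1_c12 LD2_c1 LD3_c37)) :=
  Lre_a IH (LK LD1_c6 LD2_c10 LD3_c33) (LK LD1_c12 LD2_c1 LD3_c37) Lrfl Lrfl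
theorem f130802 : Led Lsl_bt (LP (LK LD1_c3 LD2_c1 LD3_c56)) = (LP (LK LD1_c6 LD2_c10 LD3_c33)) :=
  Lre_b IH (LK LD1_c3 LD2_c1 LD3_c56) (LK LD1_c6 LD2_c10 LD3_c33) Lrfl Lrfl
theorem f150946 : Led Lsl_at (LP (LK LD1_c1 LD2_c34 LD3_c33)) = (LP (LK LD1_c3 LD2_c1 LD3_c56)) :=
  Lgr Lrot67 (Lpe (f150944 IH) (Lpe (f150943 IH) (Lpr_bf (f150939 IH) (Lpe (f150945 IH) (Lpe (f130802 IH) (Lpn (LP (LK LD1_c3 LD2_c1 LD3_c56))))))))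
theorem f65474 : Led Lsl_dt (LP (LK LD1_c3 LD2_c15 LD3_c41)) = (LP (LK LD1_c1 LD2_c34 LD3_c33)) :=
  Lre_d IH (LK LD1_c3 LD2_c15 LD3_c41) (LK LD1_c1 LD2_c34 LD3_c33) Lrfl Lrfl
theorem f96112 : Led Lsl_dt (LP (LK LD1_c3 LD2_c1 LD3_c56)) = (LP (LK LD1_c6 LD2_c10 LD3_c35)) :=
  Lre_d IH (LK LD1_c3 LD2_c1 LD3_c56) (LK LD1_c6 LD2_c10 LD3_c35) Lrfl Lrfl
theorem f150949 : Led Lsl_af (LP (LK LD1_c3 LD2_c15 LD3_c41)) = (LP (LK LD1_c6 LD2_c10 LD3_c35)) :=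
  Lgr Lrot117 (Lpr_dt (f65474 IH) (Lpr_at (f150946 IH) (Lpr_dt (f96112 IH) (Lpn (LP (LK LD1_c6 LD2_c10 LD3_c35))))))
theorem f150966 : Led Lsl_ft (LP (LK LD1_c12 LD2_c1 LD3_c48)) = (LP (LK LD1_c6 LD2_c10 LD3_c35)) :=
  Lre_f IH (LK LD1_c12 LD2_c1 LD3_c48) (LK LD1_c6 LD2_c10 LD3_c35) Lrfl Lrfl
theorem f650247 : Led Lsl_af (LP (LK LD1_c12 LD2_c1 LD3_c48)) = v5962 :=
  Lgr Lrot45 (Lpr_ft (f150966 IH) (Lpe (f150949 IH) (Lpr_ft (f650246 IH) (Lpn v5962))))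
theorem f650250 : Led Lsl_gt (LP (LK LD1_c6 LD2_c34 LD3_c41)) = (LP (LK LD1_c12 LD2_c1 LD3_c48)) :=
  Lgr Lrot46 (Lpe (f650234 IH) (Lpr_ft (f650246 IH) (Lpe (f650247 IH) (Lpn (LP (LK LD1_c12 LD2_c1 LD3_c48))))))
theorem f650251 : Led Lsl_gt (LP (LK LD1_c6 LD2_c34 LD3_c41)) = (LP (LK LD1_c12 LD2_c1 LD3_c48)) :=
  Leop (Lpe (f650250 IH) (Lpn (LP (LK LD1_c6 LD2_c34 LD3_c41))))
theorem seed_333 : LEOK LG_g (LK LD1_c6 LD2_c34 LD3_c41) :=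
  Leoe_g (LK LD1_c6 LD2_c34 LD3_c41) (f650251 IH)
theorem f650249 : Led Lsl_ff (LP (LK LD1_c3 LD2_c15 LD3_c41)) = v5962 :=
  Lgr Lrot3 (Lpr_ft (f650246 IH) (Lpn v5962))
theorem f150956 : Led Lsl_at (LP (LK LD1_c3 LD2_c15 LD3_c41)) = (LP (LK LD1_c6 LD2_c10 LD3_c35)) :=
  Lgr Lrot100 (Lpr_af (f150949 IH) (Lpn (LP (LK LD1_c6 LD2_c10 LD3_c35))))
theorem f130799 : Led Lsl_ft (LP (LK LD1_c6 LD2_c10 LD3_c35)) = (LP (LK LD1_c12 LD2_c1 LD3_c48)) :=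
  Lre_f IH (LK LD1_c6 LD2_c10 LD3_c35) (LK LD1_c12 LD2_c1 LD3_c48) Lrfl Lrfl
theorem f650255 : Led Lsl_at (LP (LK LD1_c12 LD2_c1 LD3_c48)) = v5962 :=
  Lgr Lrot66 (Lpe (f130799 IH) (Lpe (f150956 IH) (Lpr_ff (f650249 IH) (Lpn v5962))))
theorem f96241 : Led Lsl_gt (LP (LK LD1_c6 LD2_c10 LD3_c35)) = (LP (LK LD1_c12 LD2_c1 LD3_c45)) :=
  Lre_g IH (LK LD1_c6 LD2_c10 LD3_c35) (LK LD1_c12 LD2_c1 LD3_c45) Lrfl Lrfl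
theorem f650258 : Led Lsl_gt (LP (LK LD1_c12 LD2_c1 LD3_c45)) = v5962 :=
  Lgr Lrot46 (Lpe (f96241 IH) (Lpr_ft (f130799 IH) (Lpr_at (f650255 IH) (Lpn v5962))))
theorem f65470 : Led Lsl_dt (LP (LK LD1_c1 LD2_c34 LD3_c33)) = (LP (LK LD1_c3 LD2_c15 LD3_c41)) :=
  Lre_d IH (LK LD1_c1 LD2_c34 LD3_c33) (LK LD1_c3 LD2_c15 LD3_c41) Lrfl Lrfl
theorem f508616 : Led Lsl_ff (LP (LK LD1_c1 LD2_c34 LD3_c33)) = K32.v2057 :=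
  Lgr Lrot3 (Lpr_ft (K32.f508613 IH) (Lpn K32.v2057))
theorem f650248 : Led Lsl_df K32.v2057 = v5962 :=
  Lgr Lrot78 (Lpe (f508616 IH) (Lpr_dt (f65470 IH) (Lpr_ft (f650246 IH) (Lpn v5962))))
theorem f508621 : Led Lsl_ct K24.v532 = K32.v2057 :=
  Lgr Lrot40 (Lpe (K24.f453811 IH) (Lpe (K32.f65473 IH) (Lpr_ff (f508616 IH) (Lpn K32.v2057))))
theorem f509029 : Led Lsl_ct (LP (LK LD1_c3 LD2_c18 LD3_c37)) = (LP (LK LD1_c1 LD2_c35 LD3_c45)) :=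
  Lre_c IH (LK LD1_c3 LD2_c18 LD3_c37) (LK LD1_c1 LD2_c35 LD3_c45) Lrfl Lrfl
theorem f66088 : Led Lsl_gt (LP (LK LD1_c3 LD2_c18 LD3_c37)) = (LP (LK LD1_c6 LD2_c41 LD3_c8)) :=
  Lre_g IH (LK LD1_c3 LD2_c18 LD3_c37) (LK LD1_c6 LD2_c41 LD3_c8) Lrfl Lrfl
theorem f650259 : Led Lsl_df (LP (LK LD1_c12 LD2_c1 LD3_c45)) = (LP (LK LD1_c6 LD2_c41 LD3_c8)) :=
  Lgr Lrot153 (Lpr_gt (f650258 IH) (Lpe (f650248 IH) (Lpe (f508621 IH) (Lpe (K35.f453819 IH) (Lpr_gf (K35.f502888 IH) (Lpr_df (K35.f624112 IH) (Lpe (K35.f62129 IH) (Lpe (f509029 IH) (Lpr_gt (f66088 IH) (Lpn (LP (LK LD1_c6 LD2_c41 LD3_c8))))))))))))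
theorem f650260 : Led Lsl_dt (LP (LK LD1_c6 LD2_c41 LD3_c8)) = (LP (LK LD1_c12 LD2_c1 LD3_c45)) :=
  Leop (Lpr_df (f650259 IH) (Lpn (LP (LK LD1_c6 LD2_c41 LD3_c8))))
theorem seed_334 : LEOK LG_d (LK LD1_c6 LD2_c41 LD3_c8) :=
  Leoe_d (LK LD1_c6 LD2_c41 LD3_c8) (f650260 IH)
def v5978 : LQ := Led Lsl_ct (LP (LK LD1_c3 LD2_c15 LD3_c47))
theorem f650343 : Led Lsl_ct (LP (LK LD1_c3 LD2_c15 LD3_c47)) = v5978 :=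
  Lrfl
def v5586 : LQ := Led Lsl_dt (LP (LK LD1_c3 LD2_c10 LD3_c42))
theorem f648383 : Led Lsl_dt (LP (LK LD1_c3 LD2_c10 LD3_c42)) = v5586 :=
  Lrfl
def v5584 : LQ := Led Lsl_dt (LP (LK LD1_c3 LD2_c10 LD3_c41))
theorem f648369 : Led Lsl_dt (LP (LK LD1_c3 LD2_c10 LD3_c41)) = v5584 :=
  Lrfl
theorem f125691 : Led Lsl_af (LP (LK LD1_c3 LD2_c10 LD3_c42)) = (LP (LK LD1_c2 LD2_c21 LD3_c1)) :=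
  Lgr Lrot31 (Lpe (K7.f125553 IH) (Lpr_gf (K5.f125689 IH) (Lpe (K5.f125687 IH) (Lpn (LP (LK LD1_c2 LD2_c21 LD3_c1))))))
theorem f648373 : Led Lsl_cf (LP (LK LD1_c3 LD2_c17 LD3_c3)) = v5584 :=
  Lgr Lrot118 (Lpr_dt (K5.f61945 IH) (Lpr_ct (K1.f61934 IH) (Lpe (K1.f61937 IH) (Lpr_ct (K1.f24973 IH) (Lpe (K3.f79608 IH) (Lpr_ct (K5.f125539 IH) (Lpr_af (f125691 IH) (Lpr_ff (K5.f125687 IH) (Lpr_dt (f648369 IH) (Lpn v5584))))))))))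
theorem f648386 : Led Lsl_cf (LP (LK LD1_c3 LD2_c17 LD3_c36)) = v5586 :=
  Lgr Lrot55 (Lpr_dt (K5.f118700 IH) (Lpe (K7.f125509 IH) (Lpr_dt (K5.f125469 IH) (Lpr_ct (K5.f125465 IH) (Lpe (K4.f102107 IH) (Lpr_ct (K5.f125680 IH) (Lpr_dt (f648369 IH) (Lpe (f648373 IH) (Lpr_dt (K5.f61945 IH) (Lpr_ct (K1.f61934 IH) (Lpe (K1.f61937 IH) (Lpr_ct (K1.f24973 IH) (Lpe (K3.f79608 IH) (Lpr_ct (K5.f125539 IH) (Lpr_dt (f648383 IH) (Lpn v5586))))))))))))))))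
def v1934 : LQ := Led Lsl_dt (LP (LK LD1_c1 LD2_c31 LD3_c47))
theorem f506462 : Led Lsl_dt (LP (LK LD1_c1 LD2_c31 LD3_c47)) = v1934 :=
  Lrfl
theorem f506464 : Led Lsl_df (LP (LK LD1_c1 LD2_c31 LD3_c47)) = v1934 :=
  Lgr Lrot38 (Lpr_dt (f506462 IH) (Lpn v1934))
theorem f650346 : Led Lsl_gf v1934 = v5978 :=
  Lgr Lrot148 (Lpe (f506464 IH) (Lpr_gt (K7.f125553 IH) (Lpr_dt (f648383 IH) (Lpe (f648386 IH) (Lpr_df (K5.f118694 IH) (Lpe (K5.f118692 IH) (Lpe (K3.f91446 IH) (Lpe (K7.f149840 IH) (Lpr_ct (f650343 IH) (Lpn v5978))))))))))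
def v4260 : LQ := Led Lsl_dt (LP (LK LD1_c2 LD2_c18 LD3_c3))
theorem f632278 : Led Lsl_dt (LP (LK LD1_c2 LD2_c18 LD3_c3)) = v4260 :=
  Lrfl
theorem f150656 : Led Lsl_ff (LP (LK LD1_c1 LD2_c31 LD3_c47)) = (LP (LK LD1_c2 LD2_c18 LD3_c4)) :=
  Lgr Lrot3 (Lpr_ft (K7.f150651 IH) (Lpn (LP (LK LD1_c2 LD2_c18 LD3_c4))))
theorem f150678 : Led Lsl_at (LP (LK LD1_c1 LD2_c31 LD3_c47)) = (LP (LK LD1_c2 LD2_c18 LD3_c3)) :=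
  Lgr Lrot66 (Lpr_ff (f150656 IH) (Lpe (K7.f150660 IH) (Lpr_ff (K7.f150676 IH) (Lpn (LP (LK LD1_c2 LD2_c18 LD3_c3))))))
theorem f632279 : Led Lsl_af v1934 = v4260 :=
  Lgr Lrot117 (Lpe (f506464 IH) (Lpr_at (f150678 IH) (Lpr_dt (f632278 IH) (Lpn v4260))))
theorem f632282 : Led Lsl_cf (LP (LK LD1_c3 LD2_c7 LD3_c43)) = v4260 :=
  Lgr Lrot118 (Lpr_dt (K32.f104271 IH) (Lpe (K5.f128940 IH) (Lpr_dt (K5.f26106 IH) (Lpe (K3.f26101 IH) (Lpr_dt (K5.f124423 IH) (Lpr_ct (K7.f124425 IH) (Lpe (K7.f150660 IH) (Lpr_ff (K7.f150676 IH) (Lpr_dt (f632278 IH) (Lpn v4260))))))))))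
def v1929 : LQ := Led Lsl_dt (LP (LK LD1_c1 LD2_c31 LD3_c44))
theorem f506439 : Led Lsl_dt (LP (LK LD1_c1 LD2_c31 LD3_c44)) = v1929 :=
  Lrfl
theorem f150686 : Led Lsl_af (LP (LK LD1_c1 LD2_c31 LD3_c47)) = (LP (LK LD1_c2 LD2_c18 LD3_c3)) :=
  Lgr Lrot45 (Lpr_ft (K7.f150651 IH) (Lpe (K7.f150658 IH) (Lpr_ft (K7.f150684 IH) (Lpn (LP (LK LD1_c2 LD2_c18 LD3_c3))))))
theorem f506442 : Led Lsl_cf (LP (LK LD1_c4 LD2_c37 LD3_c10)) = v1929 :=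
  Lgr Lrot118 (Lpr_dt (K32.f428469 IH) (Lpr_ct (K7.f124077 IH) (Lpr_dt (K5.f23602 IH) (Lpr_ct (K0.f23450 IH) (Lpe (K2.f79141 IH) (Lpr_ct (K5.f79125 IH) (Lpr_af (f150686 IH) (Lpe (K7.f150684 IH) (Lpr_dt (f506439 IH) (Lpn v1929))))))))))
theorem f506444 : Led Lsl_ct (LP (LK LD1_c4 LD2_c37 LD3_c10)) = v1929 :=
  Lgr Lrot59 (Lpr_cf (f506442 IH) (Lpn v1929))
theorem f632285 : Led Lsl_ft v1929 = v4260 :=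
  Lgr Lrot4 (Lpe (f506444 IH) (Lpr_ff (K32.f428467 IH) (Lpr_cf (f632282 IH) (Lpn v4260))))
theorem f650348 : Led Lsl_gt v1929 = v5978 :=
  Lgr Lrot5 (Lpr_ft (f632285 IH) (Lpe (f632279 IH) (Lpr_gf (f650346 IH) (Lpn v5978))))
def v5688 : LQ := Led Lsl_dt (LP (LK LD1_c3 LD2_c12 LD3_c3))
theorem f648860 : Led Lsl_dt (LP (LK LD1_c3 LD2_c12 LD3_c3)) = v5688 :=
  Lrfl
theorem f506649 : Led Lsl_df (LP (LK LD1_c1 LD2_c32 LD3_c32)) = K32.v1968 :=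
  Lgr Lrot38 (Lpr_dt (K32.f506647 IH) (Lpn K32.v1968))
theorem f648861 : Led Lsl_bf K32.v1968 = v5688 :=
  Lgr Lrot93 (Lpe (f506649 IH) (Lpr_bt (K32.f82995 IH) (Lpr_dt (f648860 IH) (Lpn v5688))))
theorem f83072 : Led Lsl_gt (LP (LK LD1_c6 LD2_c28 LD3_c12)) = (LP (LK LD1_c3 LD2_c12 LD3_c3)) :=
  Lre_g IH (LK LD1_c6 LD2_c28 LD3_c12) (LK LD1_c3 LD2_c12 LD3_c3) Lrfl Lrfl
theorem f83077 : Led Lsl_dt (LP (LK LD1_c12 LD2_c27 LD3_c44)) = (LP (LK LD1_c6 LD2_c28 LD3_c12)) :=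
  Lre_d IH (LK LD1_c12 LD2_c27 LD3_c44) (LK LD1_c6 LD2_c28 LD3_c12) Lrfl Lrfl
theorem f557856 : Led Lsl_ct (LP (LK LD1_c5 LD2_c13 LD3_c60)) = (LP (LK LD1_c7 LD2_c14 LD3_c7)) :=
  Lgr Lrot133 (Lpr_df (K36.f61370 IH) (Lpr_ft (K40.f301997 IH) (Lpr_at (K36.f301942 IH) (Lpr_cf (K40.f557847 IH) (Lpe (K40.f543829 IH) (Lpr_cf (K37.f543852 IH) (Lpe (K37.f437319 IH) (Lpr_cf (K33.f94521 IH) (Lpe (K37.f522544 IH) (Lpn (LP (LK LD1_c7 LD2_c14 LD3_c7))))))))))))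
theorem f582166 : Led Lsl_gf (LP (LK LD1_c4 LD2_c57 LD3_c21)) = (LP (LK LD1_c6 LD2_c25 LD3_c31)) :=
  Lgr Lrot126 (Lpe (K35.f541671 IH) (Lpr_bt (K35.f541675 IH) (Lpe (K36.f541698 IH) (Lpr_ct (f557856 IH) (Lpr_gt (K33.f93111 IH) (Lpe (K37.f92529 IH) (Lpe (K42.f551620 IH) (Lpr_gt (K44.f582156 IH) (Lpe (K41.f567614 IH) (Lpe (K36.f205111 IH) (Lpn (LP (LK LD1_c6 LD2_c25 LD3_c31)))))))))))))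
theorem f558473 : Led Lsl_at (LP (LK LD1_c2 LD2_c26 LD3_c36)) = (LP (LK LD1_c4 LD2_c57 LD3_c14)) :=
  Lre_a IH (LK LD1_c2 LD2_c26 LD3_c36) (LK LD1_c4 LD2_c57 LD3_c14) Lrfl Lrfl
theorem f558474 : Led Lsl_ff (LP (LK LD1_c2 LD2_c26 LD3_c36)) = (LP (LK LD1_c4 LD2_c57 LD3_c21)) :=
  Lgr Lrot52 (Lpr_at (f558473 IH) (Lpr_gf (K40.f558471 IH) (Lpr_gf (K35.f541669 IH) (Lpn (LP (LK LD1_c4 LD2_c57 LD3_c21))))))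
theorem f558189 : Led Lsl_df (LP (LK LD1_c9 LD2_c14 LD3_c47)) = (LP (LK LD1_c11 LD2_c27 LD3_c29)) :=
  Lgr Lrot162 (Lpe (K40.f206062 IH) (Lpr_gf (K40.f206070 IH) (Lpe (K36.f81401 IH) (Lpr_gf (K40.f81404 IH) (Lpr_dt (K36.f70102 IH) (Lpr_gt (K39.f502140 IH) (Lpr_ct (K40.f558175 IH) (Lpr_gt (K40.f450469 IH) (Lpr_ct (K40.f450471 IH) (Lpn (LP (LK LD1_c11 LD2_c27 LD3_c29))))))))))))
theorem f567608 : Led Lsl_dt (LP (LK LD1_c4 LD2_c57 LD3_c21)) = (LP (LK LD1_c5 LD2_c49 LD3_c5)) :=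
  Lgr Lrot159 (Lpe (f558474 IH) (Lpr_at (f558473 IH) (Lpr_cf (K41.f567602 IH) (Lpe (K40.f558293 IH) (Lpr_cf (K40.f558284 IH) (Lpe (K40.f420410 IH) (Lpr_cf (K40.f206065 IH) (Lpr_df (f558189 IH) (Lpe (K40.f450471 IH) (Lpn (LP (LK LD1_c5 LD2_c49 LD3_c5))))))))))))
theorem f514931 : Led Lsl_gt (LP (LK LD1_c3 LD2_c36 LD3_c37)) = K37.v2354 :=
  Lgr Lrot5 (Lpr_ft (K8.f160467 IH) (Lpr_at (K8.f11762 IH) (Lpr_gf (K37.f514930 IH) (Lpn K37.v2354))))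
theorem f554008 : Led Lsl_df (LP (LK LD1_c3 LD2_c55 LD3_c1)) = (LP (LK LD1_c7 LD2_c23 LD3_c5)) :=
  Lgr Lrot155 (Lpe (K8.f159786 IH) (Lpr_ct (K36.f159802 IH) (Lpr_gt (f514931 IH) (Lpe (K37.f514936 IH) (Lpr_dt (K37.f36495 IH) (Lpe (K37.f3029 IH) (Lpr_gf (K39.f554006 IH) (Lpe (K11.f59393 IH) (Lpe (K36.f542024 IH) (Lpn (LP (LK LD1_c7 LD2_c23 LD3_c5))))))))))))
theorem f568077 : Led Lsl_ct (LP (LK LD1_c5 LD2_c49 LD3_c41)) = (LP (LK LD1_c7 LD2_c23 LD3_c6)) :=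
  Lgr Lrot176 (Lpe (K36.f210622 IH) (Lpe (K36.f177145 IH) (Lpe (K37.f24569 IH) (Lpe (K36.f146353 IH) (Lpe (K39.f146354 IH) (Lpq (K37.f542999 IH) (Lpe (K36.f514957 IH) (Lpr_df (f554008 IH) (Lpr_cf (K36.f542028 IH) (Lpr_df (K42.f542039 IH) (Lpr_cf (K42.f552132 IH) (Lpe (K10.f185998 IH) (Lpe (K38.f25951 IH) (Lpe (K37.f542975 IH) (Lpe (K8.f155664 IH) (Lpr_df (K42.f568071 IH) (Lpn (LP (LK LD1_c7 LD2_c23 LD3_c6)))))))))))))))))))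
theorem f449019 : Led Lsl_at (LP (LK LD1_c1 LD2_c21 LD3_c28)) = (LP (LK LD1_c1 LD2_c28 LD3_c49)) :=
  Lgr Lrot51 (Lpe (K37.f24569 IH) (Lpr_af (K11.f449013 IH) (Lpe (K12.f210312 IH) (Lpn (LP (LK LD1_c1 LD2_c28 LD3_c49))))))
theorem f503173 : Led Lsl_af (LP (LK LD1_c2 LD2_c50 LD3_c58)) = K32.v1828 :=
  Lgr Lrot68 (Lpr_ct (K37.f198250 IH) (Lpr_at (f449019 IH) (Lpr_ct (K32.f503172 IH) (Lpn K32.v1828))))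
theorem f500497 : Led Lsl_bf (LP (LK LD1_c1 LD2_c23 LD3_c1)) = K39.v1639 :=
  Lgr Lrot24 (Lpr_bt (K39.f500495 IH) (Lpn K39.v1639))
theorem f163318 : Led Lsl_ff (LP (LK LD1_c1 LD2_c23 LD3_c4)) = (LP (LK LD1_c2 LD2_c14 LD3_c51)) :=
  Lgr Lrot25 (Lpe (K6.f81833 IH) (Lpr_ft (K8.f163316 IH) (Lpr_bt (K8.f161324 IH) (Lpn (LP (LK LD1_c2 LD2_c14 LD3_c51))))))
theorem f161704 : Led Lsl_at (LP (LK LD1_c1 LD2_c23 LD3_c4)) = (LP (LK LD1_c2 LD2_c14 LD3_c49)) :=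
  Lgr Lrot100 (Lpr_af (K8.f161681 IH) (Lpn (LP (LK LD1_c2 LD2_c14 LD3_c49))))
theorem f163136 : Led Lsl_ff (LP (LK LD1_c1 LD2_c23 LD3_c1)) = (LP (LK LD1_c2 LD2_c14 LD3_c49)) :=
  Lgr Lrot23 (Lpr_ct (K8.f138263 IH) (Lpr_ft (K8.f163132 IH) (Lpr_ct (K5.f26615 IH) (Lpn (LP (LK LD1_c2 LD2_c14 LD3_c49))))))
theorem f424559 : Led Lsl_at (LP (LK LD1_c1 LD2_c23 LD3_c1)) = (LP (LK LD1_c2 LD2_c14 LD3_c51)) :=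
  Lgr Lrot66 (Lpr_ff (f163136 IH) (Lpe (f161704 IH) (Lpr_ff (f163318 IH) (Lpn (LP (LK LD1_c2 LD2_c14 LD3_c51))))))
theorem f158463 : Led Lsl_bt (LP (LK LD1_c1 LD2_c22 LD3_c48)) = (LP (LK LD1_c2 LD2_c53 LD3_c27)) :=
  Lre_b IH (LK LD1_c1 LD2_c22 LD3_c48) (LK LD1_c2 LD2_c53 LD3_c27) Lrfl Lrfl
theorem f500499 : Led Lsl_at (LP (LK LD1_c2 LD2_c53 LD3_c27)) = K39.v1639 :=
  Lgr Lrot67 (Lpe (f158463 IH) (Lpr_af (K8.f163288 IH) (Lpr_bf (K36.f161326 IH) (Lpe (f424559 IH) (Lpr_bf (f500497 IH) (Lpn K39.v1639))))))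
theorem f537974 : (LP (LK LD1_c2 LD2_c50 LD3_c58)) = K39.v1639 :=
  Lefun (Lecon (Lfl_af (f503173 IH)) (K39.f537824 IH).symm) (f500499 IH)
theorem f80884 : Led Lsl_dt (LP (LK LD1_c3 LD2_c3 LD3_c37)) = (LP (LK LD1_c1 LD2_c27 LD3_c46)) :=
  Lre_d IH (LK LD1_c3 LD2_c3 LD3_c37) (LK LD1_c1 LD2_c27 LD3_c46) Lrfl Lrfl
theorem f503035 : Led Lsl_df (LP (LK LD1_c1 LD2_c27 LD3_c54)) = K40.v1809 :=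
  Lgr Lrot38 (Lpr_dt (K40.f503033 IH) (Lpn K40.v1809))
theorem f538666 : Led Lsl_df (LP (LK LD1_c1 LD2_c56 LD3_c51)) = (LP (LK LD1_c3 LD2_c10 LD3_c5)) :=
  Lgr Lrot18 (Lpr_at (K8.f3030 IH) (Lpr_dt (K40.f3028 IH) (Lpr_at (K35.f538658 IH) (Lpn (LP (LK LD1_c3 LD2_c10 LD3_c5))))))
theorem f542965 : Led Lsl_dt (LP (LK LD1_c2 LD2_c9 LD3_c29)) = (LP (LK LD1_c3 LD2_c36 LD3_c35)) :=
  Lgr Lrot173 (Lpr_cf (K13.f204812 IH) (Lpq (K35.f536637 IH) (Lpe (K35.f496238 IH) (Lpe (K8.f37977 IH) (Lpe (f80884 IH) (Lpe (K37.f80886 IH) (Lpe (K37.f443875 IH) (Lpr_cf (K36.f160586 IH) (Lpr_df (K37.f542960 IH) (Lpr_cf (K31.f272458 IH) (Lpr_df (f503035 IH) (Lpq (K40.f536918 IH) (Lpr_cf (K39.f3023 IH) (Lpr_df (f538666 IH) (Lpe (K37.f205607 IH) (Lpe (K39.f538830 IH) (Lpe (K28.f108093 IH) (Lpn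 (LP (LK LD1_c3 LD2_c36 LD3_c35))))))))))))))))))))
theorem f208945 : Led Lsl_dt (LP (LK LD1_c3 LD2_c43 LD3_c35)) = (LP (LK LD1_c7 LD2_c27 LD3_c44)) :=
  Lre_d IH (LK LD1_c3 LD2_c43 LD3_c35) (LK LD1_c7 LD2_c27 LD3_c44) Lrfl Lrfl
theorem f554241 : Led Lsl_gt (LP (LK LD1_c7 LD2_c27 LD3_c44)) = (LP (LK LD1_c6 LD2_c24 LD3_c58)) :=
  Lgr Lrot49 (Lpe (f208945 IH) (Lpe (K24.f208943 IH) (Lpe (K28.f116216 IH) (Lpr_gt (K24.f116190 IH) (Lpr_dt (K40.f519562 IH) (Lpqs (K40.f540323 IH) (Lpr_gt (K31.f272470 IH) (Lpr_dt (f542965 IH) (Lpr_cf (K28.f108096 IH) (Lpr_df (K39.f554226 IH) (Lpn (LP (LK LD1_c6 LD2_c24 LD3_c58)))))))))))))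
theorem f554245 : Led Lsl_cf (LP (LK LD1_c4 LD2_c0 LD3_c38)) = (LP (LK LD1_c7 LD2_c27 LD3_c44)) :=
  Lgr Lrot166 (Lpe (K37.f210779 IH) (Lpr_dt (K37.f198255 IH) (Lpqs (f537974 IH) (Lpe (K39.f500498 IH) (Lpr_dt (K39.f541136 IH) (Lpe (K36.f541126 IH) (Lpe (K8.f108087 IH) (Lpe (K28.f108092 IH) (Lpr_df (K39.f554226 IH) (Lpe (f554241 IH) (Lpn (LP (LK LD1_c7 LD2_c27 LD3_c44)))))))))))))
theorem f568088 : Led Lsl_gt (LP (LK LD1_c6 LD2_c13 LD3_c32)) = (LP (LK LD1_c7 LD2_c27 LD3_c44)) :=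
  Lgr Lrot9 (Lpe (K37.f443875 IH) (Lpe (K36.f425493 IH) (Lpe (K39.f425468 IH) (Lpr_gt (K29.f425480 IH) (Lpe (K29.f155668 IH) (Lpr_df (K42.f568071 IH) (Lpe (f568077 IH) (Lpr_gf (K37.f210779 IH) (Lpr_cf (f554245 IH) (Lpn (LP (LK LD1_c7 LD2_c27 LD3_c44))))))))))))
theorem f522569 : Led Lsl_ct (LP (LK LD1_c3 LD2_c43 LD3_c35)) = K39.v2476 :=
  Lgr Lrot63 (Lpe (K24.f209112 IH) (Lpr_gt (K4.f122071 IH) (Lpr_bf (K6.f131685 IH) (Lpe (K34.f131687 IH) (Lpr_gt (K4.f124017 IH) (Lpe (K6.f124028 IH) (Lpr_bt (K24.f124025 IH) (Lpr_gt (K8.f124037 IH) (Lpr_ct (K8.f147321 IH) (Lpr_gt (K39.f522567 IH) (Lpn K39.v2476)))))))))))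
theorem f121779 : Led Lsl_at (LP (LK LD1_c0 LD2_c50 LD3_c3)) = (LP (LK LD1_c0 LD2_c49 LD3_c52)) :=
  Lgr Lrot107 (Lpr_cf (K2.f92283 IH) (Lpr_af (K4.f121760 IH) (Lpr_cf (K36.f97192 IH) (Lpn (LP (LK LD1_c0 LD2_c49 LD3_c52))))))
theorem f522565 : Led Lsl_bf (LP (LK LD1_c3 LD2_c39 LD3_c22)) = K39.v2476 :=
  Lgr Lrot81 (Lpr_at (K8.f94538 IH) (Lpr_bt (K2.f5396 IH) (Lpr_at (f121779 IH) (Lpr_bt (K24.f131700 IH) (Lpr_at (K39.f522563 IH) (Lpn K39.v2476))))))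
theorem f557843 : Led Lsl_dt (LP (LK LD1_c3 LD2_c38 LD3_c25)) = (LP (LK LD1_c5 LD2_c54 LD3_c22)) :=
  Lgr Lrot44 (Lpe (K32.f497675 IH) (Lpe (K39.f548894 IH) (Lpr_af (K40.f557837 IH) (Lpn (LP (LK LD1_c5 LD2_c54 LD3_c22))))))
theorem f604867 : Led Lsl_ct (LP (LK LD1_c5 LD2_c54 LD3_c22)) = (LP (LK LD1_c5 LD2_c41 LD3_c15)) :=
  Lgr Lrot191 (Lpe (f557843 IH) (Lpe (K32.f121892 IH) (Lpr_bf (f522565 IH) (Lpe (f522569 IH) (Lpe (K24.f208946 IH) (Lpe (f568088 IH) (Lpe (K37.f443859 IH) (Lpe (K37.f3029 IH) (Lpe (K40.f3028 IH) (Lpe (K8.f3037 IH) (Lpe (K36.f3050 IH) (Lpr_cf (K36.f159207 IH) (Lpr_df (K36.f541060 IH) (Lpr_gf (K40.f544082 IH) (Lpr_bf (K40.f558195 IH) (Lpe (K40.f450471 IH) (Lpe (f567608 IH) (Lpr_gf (f582166 IH) (Lpr_bf (K43.f301889 IH) (Lpn (LP (LK LD1_c5 LD2_c41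 LD3_c15))))))))))))))))))))))
theorem f301919 : Led Lsl_bt (LP (LK LD1_c2 LD2_c13 LD3_c59)) = (LP (LK LD1_c4 LD2_c34 LD3_c8)) :=
  Lre_b IH (LK LD1_c2 LD2_c13 LD3_c59) (LK LD1_c4 LD2_c34 LD3_c8) Lrfl Lrfl
theorem f301951 : Led Lsl_ff (LP (LK LD1_c2 LD2_c50 LD3_c49)) = (LP (LK LD1_c4 LD2_c34 LD3_c8)) :=
  Lgr Lrot25 (Lpr_bt (K36.f61373 IH) (Lpr_ft (K18.f301947 IH) (Lpr_bt (f301919 IH) (Lpn (LP (LK LD1_c4 LD2_c34 LD3_c8))))))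
theorem f557854 : Led Lsl_ft (LP (LK LD1_c5 LD2_c49 LD3_c28)) = (LP (LK LD1_c6 LD2_c16 LD3_c39)) :=
  Lgr Lrot4 (Lpe (K42.f61375 IH) (Lpr_ff (f301951 IH) (Lpr_cf (K40.f557847 IH) (Lpn (LP (LK LD1_c6 LD2_c16 LD3_c39))))))
theorem f604871 : Led Lsl_at (LP (LK LD1_c6 LD2_c16 LD3_c39)) = (LP (LK LD1_c12 LD2_c9 LD3_c57)) :=
  Lgr Lrot33 (Lpe (f557854 IH) (Lpr_dt (K42.f548896 IH) (Lpr_ct (K28.f156861 IH) (Lpr_dt (K32.f156660 IH) (Lpr_ct (K28.f97474 IH) (Lpr_dt (f557843 IH) (Lpr_ct (f604867 IH) (Lpe (K40.f302050 IH) (Lpe (K40.f558842 IH) (Lpn (LP (LK LD1_c12 LD2_c9 LD3_c57))))))))))))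
theorem f438198 : Led Lsl_dt (LP (LK LD1_c11 LD2_c33 LD3_c55)) = (LP (LK LD1_c6 LD2_c0 LD3_c37)) :=
  Lgr Lrot42 (Lpr_df (K32.f438196 IH) (Lpn (LP (LK LD1_c6 LD2_c0 LD3_c37))))
theorem f558831 : Led Lsl_bt (LP (LK LD1_c12 LD2_c9 LD3_c57)) = (LP (LK LD1_c11 LD2_c33 LD3_c55)) :=
  Lgr Lrot95 (Lpr_df (K40.f558827 IH) (Lpe (K8.f158504 IH) (Lpe (f438198 IH) (Lpn (LP (LK LD1_c11 LD2_c33 LD3_c55))))))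
theorem f163529 : Led Lsl_ft (LP (LK LD1_c9 LD2_c8 LD3_c25)) = (LP (LK LD1_c5 LD2_c54 LD3_c7)) :=
  Lgr Lrot48 (Lpr_ff (K11.f163524 IH) (Lpn (LP (LK LD1_c5 LD2_c54 LD3_c7))))
theorem f163520 : Led Lsl_at (LP (LK LD1_c5 LD2_c54 LD3_c7)) = (LP (LK LD1_c9 LD2_c8 LD3_c23)) :=
  Lgr Lrot100 (Lpr_af (K11.f163510 IH) (Lpn (LP (LK LD1_c9 LD2_c8 LD3_c23))))
theorem f163550 : Led Lsl_gt (LP (LK LD1_c9 LD2_c8 LD3_c25)) = (LP (LK LD1_c11 LD2_c32 LD3_c59)) :=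
  Lgr Lrot5 (Lpr_ft (f163529 IH) (Lpr_at (f163520 IH) (Lpr_gf (K32.f161340 IH) (Lpn (LP (LK LD1_c11 LD2_c32 LD3_c59))))))
theorem f205826 : Led Lsl_dt (LP (LK LD1_c11 LD2_c32 LD3_c59)) = (LP (LK LD1_c9 LD2_c25 LD3_c2)) :=
  Lgr Lrot57 (Lpe (f163550 IH) (Lpe (K11.f71051 IH) (Lpr_gt (K11.f149932 IH) (Lpr_dt (K11.f27051 IH) (Lpr_gt (K8.f27025 IH) (Lpr_dt (K8.f138179 IH) (Lpe (K8.f138164 IH) (Lpe (K32.f138173 IH) (Lpr_gf (K11.f205824 IH) (Lpn (LP (LK LD1_c9 LD2_c25 LD3_c2))))))))))))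
theorem f497380 : Led Lsl_af (LP (LK LD1_c11 LD2_c32 LD3_c59)) = (LP (LK LD1_c11 LD2_c33 LD3_c55)) :=
  Lgr Lrot117 (Lpr_dt (f205826 IH) (Lpr_at (K32.f497374 IH) (Lpe (K32.f438196 IH) (Lpn (LP (LK LD1_c11 LD2_c33 LD3_c55))))))
theorem f604875 : Led Lsl_af (LP (LK LD1_c12 LD2_c10 LD3_c20)) = (LP (LK LD1_c9 LD2_c25 LD3_c4)) :=
  Lgr Lrot36 (Lpr_bt (K40.f557849 IH) (Lpr_at (f604871 IH) (Lpr_bt (f558831 IH) (Lpe (f497380 IH) (Lpr_bt (K40.f206682 IH) (Lpn (LP (LK LD1_c9 LD2_c25 LD3_c4))))))))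
theorem f604934 : Led Lsl_ct (LP (LK LD1_c12 LD2_c10 LD3_c20)) = (LP (LK LD1_c6 LD2_c16 LD3_c50)) :=
  Lgr Lrot111 (Lpr_af (f604875 IH) (Lpr_cf (K40.f557894 IH) (Lpe (K40.f301939 IH) (Lpn (LP (LK LD1_c6 LD2_c16 LD3_c50))))))
theorem f557918 : Led Lsl_cf (LP (LK LD1_c9 LD2_c25 LD3_c8)) = (LP (LK LD1_c5 LD2_c49 LD3_c30)) :=
  Lgr Lrot11 (Lpr_ct (K40.f557914 IH) (Lpn (LP (LK LD1_c5 LD2_c49 LD3_c30))))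
theorem f604938 : Led Lsl_ff (LP (LK LD1_c12 LD2_c10 LD3_c20)) = (LP (LK LD1_c9 LD2_c25 LD3_c8)) :=
  Lgr Lrot23 (Lpr_ct (f604934 IH) (Lpe (K40.f301968 IH) (Lpe (f557918 IH) (Lpn (LP (LK LD1_c9 LD2_c25 LD3_c8))))))
theorem f557916 : Led Lsl_bf (LP (LK LD1_c9 LD2_c25 LD3_c8)) = (LP (LK LD1_c5 LD2_c49 LD3_c28)) :=
  Lgr Lrot90 (Lpr_ct (K40.f557914 IH) (Lpr_bt (K40.f301967 IH) (Lpr_ct (K40.f61312 IH) (Lpr_bt (K36.f61298 IH) (Lpr_ct (K42.f61375 IH) (Lpn (LP (LK LD1_c5 LD2_c49 LD3_c28))))))))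
theorem f604964 : Led Lsl_ft (LP (LK LD1_c6 LD2_c16 LD3_c39)) = (LP (LK LD1_c5 LD2_c49 LD3_c28)) :=
  Lgr Lrot75 (Lpe (K40.f557849 IH) (Lpr_ff (f604938 IH) (Lpr_bf (f557916 IH) (Lpn (LP (LK LD1_c5 LD2_c49 LD3_c28))))))
theorem f604968 : Led Lsl_ff (LP (LK LD1_c12 LD2_c10 LD3_c21)) = (LP (LK LD1_c9 LD2_c25 LD3_c6)) :=
  Lgr Lrot19 (Lpr_dt (K40.f543829 IH) (Lpr_ft (f604964 IH) (Lpr_dt (K42.f548896 IH) (Lpn (LP (LK LD1_c9 LD2_c25 LD3_c6))))))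
theorem f497657 : Led Lsl_at (LP (LK LD1_c13 LD2_c47 LD3_c3)) = (LP (LK LD1_c11 LD2_c44 LD3_c34)) :=
  Lgr Lrot100 (Lpr_af (K32.f497655 IH) (Lpn (LP (LK LD1_c11 LD2_c44 LD3_c34))))
theorem f543864 : Led Lsl_at (LP (LK LD1_c12 LD2_c10 LD3_c21)) = (LP (LK LD1_c11 LD2_c45 LD3_c35)) :=
  Lgr Lrot107 (Lpr_cf (K37.f543852 IH) (Lpe (f497657 IH) (Lpe (K8.f158497 IH) (Lpn (LP (LK LD1_c11 LD2_c45 LD3_c35))))))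
theorem f604972 : Led Lsl_df (LP (LK LD1_c5 LD2_c49 LD3_c28)) = (LP (LK LD1_c9 LD2_c25 LD3_c6)) :=
  Lgr Lrot157 (Lpr_ct (K42.f61377 IH) (Lpe (K40.f61299 IH) (Lpr_ct (K16.f61419 IH) (Lpr_dt (K40.f548890 IH) (Lpr_ct (K28.f18027 IH) (Lpr_dt (K28.f109550 IH) (Lpe (K8.f158507 IH) (Lpe (f543864 IH) (Lpr_ff (f604968 IH) (Lpn (LP (LK LD1_c9 LD2_c25 LD3_c6))))))))))))
theorem f61310 : Led Lsl_dt (LP (LK LD1_c0 LD2_c37 LD3_c33)) = (LP (LK LD1_c0 LD2_c16 LD3_c43)) :=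
  Lre_d IH (LK LD1_c0 LD2_c37 LD3_c33) (LK LD1_c0 LD2_c16 LD3_c43) Lrfl Lrfl
def v1548 : LQ := Led Lsl_bt (LP (LK LD1_c1 LD2_c21 LD3_c31))
theorem f496207 : Led Lsl_bt (LP (LK LD1_c1 LD2_c21 LD3_c31)) = v1548 :=
  Lrfl
theorem f537356 : (LP (LK LD1_c0 LD2_c38 LD3_c27)) = v1548 :=
  Lefun (Lecon (Lfl_bf (K38.f452828 IH)) (K38.f537153 IH)) (f496207 IH)
theorem f71834 : Led Lsl_bt (LP (LK LD1_c4 LD2_c35 LD3_c21)) = (LP (LK LD1_c9 LD2_c7 LD3_c15)) :=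
  Lre_b IH (LK LD1_c4 LD2_c35 LD3_c21) (LK LD1_c9 LD2_c7 LD3_c15) Lrfl Lrfl
theorem f72080 : Led Lsl_bt (LP (LK LD1_c2 LD2_c54 LD3_c17)) = (LP (LK LD1_c5 LD2_c55 LD3_c51)) :=
  Lre_b IH (LK LD1_c2 LD2_c54 LD3_c17) (LK LD1_c5 LD2_c55 LD3_c51) Lrfl Lrfl
theorem f26147 : Led Lsl_at (LP (LK LD1_c1 LD2_c32 LD3_c32)) = (LP (LK LD1_c0 LD2_c42 LD3_c56)) :=
  Lre_a IH (LK LD1_c1 LD2_c32 LD3_c32) (LK LD1_c0 LD2_c42 LD3_c56) Lrfl Lrfl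
theorem f82344 : Led Lsl_bt (LP (LK LD1_c3 LD2_c12 LD3_c3)) = (LP (LK LD1_c1 LD2_c32 LD3_c32)) :=
  Lre_b IH (LK LD1_c3 LD2_c12 LD3_c3) (LK LD1_c1 LD2_c32 LD3_c32) Lrfl Lrfl
theorem f83070 : Led Lsl_at (LP (LK LD1_c5 LD2_c55 LD3_c51)) = (LP (LK LD1_c3 LD2_c12 LD3_c3)) :=
  Lgr Lrot67 (Lpe (f72080 IH) (Lpe (K6.f83008 IH) (Lpr_bf (K4.f82998 IH) (Lpe (f26147 IH) (Lpe (f82344 IH) (Lpn (LP (LK LD1_c3 LD2_c12 LD3_c3))))))))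
theorem f83035 : Led Lsl_bt (LP (LK LD1_c9 LD2_c7 LD3_c15)) = (LP (LK LD1_c4 LD2_c35 LD3_c21)) :=
  Lre_b IH (LK LD1_c9 LD2_c7 LD3_c15) (LK LD1_c4 LD2_c35 LD3_c21) Lrfl Lrfl
theorem f83061 : Led Lsl_ft (LP (LK LD1_c5 LD2_c55 LD3_c51)) = (LP (LK LD1_c9 LD2_c7 LD3_c15)) :=
  Lgr Lrot75 (Lpe (f72080 IH) (Lpr_ff (K4.f83021 IH) (Lpe (f83035 IH) (Lpn (LP (LK LD1_c9 LD2_c7 LD3_c15))))))
theorem f83067 : Led Lsl_ff (LP (LK LD1_c5 LD2_c55 LD3_c51)) = (LP (LK LD1_c9 LD2_c7 LD3_c15)) :=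
  Lgr Lrot3 (Lpr_ft (f83061 IH) (Lpn (LP (LK LD1_c9 LD2_c7 LD3_c15))))
theorem f83073 : Led Lsl_gt (LP (LK LD1_c9 LD2_c7 LD3_c15)) = (LP (LK LD1_c6 LD2_c28 LD3_c12)) :=
  Lgr Lrot5 (Lpe (f83067 IH) (Lpr_at (f83070 IH) (Lpe (f83072 IH) (Lpn (LP (LK LD1_c6 LD2_c28 LD3_c12))))))
theorem f83075 : Led Lsl_dt (LP (LK LD1_c6 LD2_c28 LD3_c12)) = (LP (LK LD1_c12 LD2_c27 LD3_c44)) :=
  Lre_d IH (LK LD1_c6 LD2_c28 LD3_c12) (LK LD1_c12 LD2_c27 LD3_c44) Lrfl Lrfl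
theorem f156869 : Led Lsl_gf (LP (LK LD1_c9 LD2_c25 LD3_c6)) = (LP (LK LD1_c12 LD2_c51 LD3_c34)) :=
  Lgr Lrot104 (Lpr_ct (K28.f156861 IH) (Lpr_df (K36.f156665 IH) (Lpe (K24.f97497 IH) (Lpe (K32.f121892 IH) (Lpr_cf (K8.f121863 IH) (Lpe (K4.f95987 IH) (Lpe (K32.f97466 IH) (Lpe (K7.f136004 IH) (Lpr_ct (K8.f120305 IH) (Lpn (LP (LK LD1_c12 LD2_c51 LD3_c34))))))))))))
theorem f120632 : Led Lsl_bf (LP (LK LD1_c12 LD2_c51 LD3_c34)) = (LP (LK LD1_c9 LD2_c21 LD3_c42)) :=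
  Lgr Lrot24 (Lpr_bt (K7.f120630 IH) (Lpn (LP (LK LD1_c9 LD2_c21 LD3_c42))))
theorem f604976 : Led Lsl_ct (LP (LK LD1_c12 LD2_c27 LD3_c44)) = (LP (LK LD1_c9 LD2_c21 LD3_c42)) :=
  Lgr Lrot191 (Lpe (f83075 IH) (Lpe (f83073 IH) (Lpe (f71834 IH) (Lpe (K7.f35247 IH) (Lpe (K7.f35246 IH) (Lpr_gf (K8.f161070 IH) (Lpqs (f537356 IH) (Lpe (f496207 IH) (Lpe (K11.f176879 IH) (Lpe (K9.f24554 IH) (Lpe (K9.f24438 IH) (Lpe (K11.f176873 IH) (Lpe (K11.f61313 IH) (Lpe (f61310 IH) (Lpe (K18.f61294 IH) (Lpe (K36.f61373 IH) (Lpe (K42.f61377 IH) (Lpr_df (f604972 IH) (Lpr_gf (f156869 IH) (Lpr_bf (f120632 IH) (Lpn (LP (LK LD1_c9 LD2_c21 LD3_c42)))))))))))))))))))))))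
theorem f14015 : Led Lsl_dt (LP (LK LD1_c6 LD2_c35 LD3_c50)) = (LP (LK LD1_c3 LD2_c16 LD3_c15)) :=
  Lre_d IH (LK LD1_c6 LD2_c35 LD3_c50) (LK LD1_c3 LD2_c16 LD3_c15) Lrfl Lrfl
theorem f420258 : Led Lsl_ff (LP (LK LD1_c9 LD2_c19 LD3_c54)) = (LP (LK LD1_c6 LD2_c19 LD3_c35)) :=
  Lgr Lrot3 (Lpr_ft (K32.f420250 IH) (Lpn (LP (LK LD1_c6 LD2_c19 LD3_c35))))
theorem f419311 : Led Lsl_ff (LP (LK LD1_c6 LD2_c56 LD3_c36)) = (LP (LK LD1_c7 LD2_c43 LD3_c9)) :=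
  Lgr Lrot3 (Lpr_ft (K32.f419309 IH) (Lpn (LP (LK LD1_c7 LD2_c43 LD3_c9))))
theorem f420264 : Led Lsl_ct (LP (LK LD1_c9 LD2_c19 LD3_c54)) = (LP (LK LD1_c7 LD2_c43 LD3_c9)) :=
  Lgr Lrot40 (Lpr_ff (f420258 IH) (Lpr_cf (K32.f203415 IH) (Lpr_ff (f419311 IH) (Lpn (LP (LK LD1_c7 LD2_c43 LD3_c9))))))
theorem f15576 : Led Lsl_bt (LP (LK LD1_c6 LD2_c35 LD3_c50)) = (LP (LK LD1_c3 LD2_c17 LD3_c48)) :=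
  Lre_b IH (LK LD1_c6 LD2_c35 LD3_c50) (LK LD1_c3 LD2_c17 LD3_c48) Lrfl Lrfl
theorem f160844 : Led Lsl_ft (LP (LK LD1_c1 LD2_c5 LD3_c4)) = (LP (LK LD1_c0 LD2_c38 LD3_c55)) :=
  Lgr Lrot142 (Lpr_dt (K8.f26770 IH) (Lpr_ct (K4.f36492 IH) (Lpr_dt (K6.f36523 IH) (Lpr_ct (K8.f35870 IH) (Lpr_dt (K8.f36524 IH) (Lpr_ct (K8.f160826 IH) (Lpr_dt (K8.f64576 IH) (Lpr_ct (K8.f64589 IH) (Lpe (K8.f69235 IH) (Lpn (LP (LK LD1_c0 LD2_c38 LD3_c55))))))))))))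
theorem f161439 : Led Lsl_gf (LP (LK LD1_c1 LD2_c24 LD3_c22)) = (LP (LK LD1_c2 LD2_c14 LD3_c50)) :=
  Lgr Lrot76 (Lpe (K8.f69235 IH) (Lpe (f160844 IH) (Lpr_gt (K8.f161435 IH) (Lpn (LP (LK LD1_c2 LD2_c14 LD3_c50))))))
theorem f69263 : Led Lsl_bt (LP (LK LD1_c2 LD2_c57 LD3_c12)) = (LP (LK LD1_c6 LD2_c2 LD3_c11)) :=
  Lre_b IH (LK LD1_c2 LD2_c57 LD3_c12) (LK LD1_c6 LD2_c2 LD3_c11) Lrfl Lrfl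
theorem f420266 : Led Lsl_gf (LP (LK LD1_c9 LD2_c19 LD3_c54)) = (LP (LK LD1_c6 LD2_c2 LD3_c11)) :=
  Lgr Lrot181 (Lpr_ct (f420264 IH) (Lpr_gt (K11.f17160 IH) (Lpe (K11.f15567 IH) (Lpr_bt (f15576 IH) (Lpr_gt (K6.f15594 IH) (Lpr_bf (K8.f161443 IH) (Lpr_ct (K8.f117013 IH) (Lpe (f161439 IH) (Lpe (K8.f64589 IH) (Lpr_bt (f69263 IH) (Lpn (LP (LK LD1_c6 LD2_c2 LD3_c11)))))))))))))
theorem f64591 : Led Lsl_dt (LP (LK LD1_c11 LD2_c48 LD3_c48)) = (LP (LK LD1_c6 LD2_c2 LD3_c11)) :=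
  Lre_d IH (LK LD1_c11 LD2_c48 LD3_c48) (LK LD1_c6 LD2_c2 LD3_c11) Lrfl Lrfl
theorem f604990 : Led Lsl_gf (LP (LK LD1_c12 LD2_c27 LD3_c44)) = (LP (LK LD1_c11 LD2_c48 LD3_c48)) :=
  Lgr Lrot147 (Lpr_ct (f604976 IH) (Lpr_gt (K7.f14146 IH) (Lpr_ct (K7.f14017 IH) (Lpe (f14015 IH) (Lpr_cf (K11.f15538 IH) (Lpe (K11.f17160 IH) (Lpe (f420264 IH) (Lpr_gf (f420266 IH) (Lpe (f64591 IH) (Lpn (LP (LK LD1_c11 LD2_c48 LD3_c48))))))))))))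
theorem f648864 : Led Lsl_cf (LP (LK LD1_c11 LD2_c35 LD3_c8)) = v5688 :=
  Lgr Lrot14 (Lpe (K7.f71189 IH) (Lpe (K11.f151248 IH) (Lpe (K7.f101903 IH) (Lpe (K7.f101899 IH) (Lpr_ct (K11.f203396 IH) (Lpe (f604990 IH) (Lpr_dt (f83077 IH) (Lpr_gt (f83072 IH) (Lpr_dt (f648860 IH) (Lpn v5688))))))))))
theorem f117100 : Led Lsl_bt (LP (LK LD1_c6 LD2_c10 LD3_c9)) = (LP (LK LD1_c12 LD2_c1 LD3_c11)) :=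
  Lre_b IH (LK LD1_c6 LD2_c10 LD3_c9) (LK LD1_c12 LD2_c1 LD3_c11) Lrfl Lrfl
theorem f149823 : Led Lsl_bt (LP (LK LD1_c3 LD2_c15 LD3_c47)) = (LP (LK LD1_c6 LD2_c34 LD3_c53)) :=
  Lre_b IH (LK LD1_c3 LD2_c15 LD3_c47) (LK LD1_c6 LD2_c34 LD3_c53) Lrfl Lrfl
theorem f650349 : Led Lsl_gf (LP (LK LD1_c12 LD2_c1 LD3_c11)) = (LP (LK LD1_c6 LD2_c34 LD3_c53)) :=
  Lgr Lrot124 (Lpe (f117100 IH) (Lpr_ct (K11.f100170 IH) (Lpr_gt (K41.f151271 IH) (Lpr_cf (f648864 IH) (Lpe (f648861 IH) (Lpe (K32.f506652 IH) (Lpr_ct (f506444 IH) (Lpr_gt (f650348 IH) (Lpe (f650343 IH) (Lpr_bt (f149823 IH) (Lpn (LP (LK LD1_c6 LD2_c34 LD3_c53)))))))))))))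
theorem f650350 : Led Lsl_gt (LP (LK LD1_c6 LD2_c34 LD3_c53)) = (LP (LK LD1_c12 LD2_c1 LD3_c11)) :=
  Leop (Lpr_gf (f650349 IH) (Lpn (LP (LK LD1_c6 LD2_c34 LD3_c53))))
theorem seed_335 : LEOK LG_g (LK LD1_c6 LD2_c34 LD3_c53) :=
  Leoe_g (LK LD1_c6 LD2_c34 LD3_c53) (f650350 IH)
def v5980 : LQ := Led Lsl_et (LP (LK LD1_c3 LD2_c15 LD3_c48))
theorem f650353 : Led Lsl_et (LP (LK LD1_c3 LD2_c15 LD3_c48)) = v5980 :=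
  Lrfl
theorem f65883 : Led Lsl_et (LP (LK LD1_c6 LD2_c51 LD3_c42)) = (LP (LK LD1_c3 LD2_c24 LD3_c34)) :=
  Lre_e IH (LK LD1_c6 LD2_c51 LD3_c42) (LK LD1_c3 LD2_c24 LD3_c34) Lrfl Lrfl
theorem f650355 : Led Lsl_cf (LP (LK LD1_c6 LD2_c51 LD3_c42)) = v5980 :=
  Lgr Lrot39 (Lpr_et (f65883 IH) (Lpe (K4.f65849 IH) (Lpr_et (f650353 IH) (Lpn v5980))))
theorem f447646 : Led Lsl_ct (LP (LK LD1_c1 LD2_c46 LD3_c53)) = (LP (LK LD1_c0 LD2_c50 LD3_c13)) :=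
  Lre_c IH (LK LD1_c1 LD2_c46 LD3_c53) (LK LD1_c0 LD2_c50 LD3_c13) Lrfl Lrfl
theorem f115953 : Led Lsl_gt (LP (LK LD1_c13 LD2_c5 LD3_c29)) = (LP (LK LD1_c6 LD2_c53 LD3_c21)) :=
  Lre_g IH (LK LD1_c13 LD2_c5 LD3_c29) (LK LD1_c6 LD2_c53 LD3_c21) Lrfl Lrfl
theorem f85260 : Led Lsl_ct (LP (LK LD1_c0 LD2_c51 LD3_c55)) = (LP (LK LD1_c0 LD2_c23 LD3_c28)) :=
  Lre_c IH (LK LD1_c0 LD2_c51 LD3_c55) (LK LD1_c0 LD2_c23 LD3_c28) Lrfl Lrfl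
theorem f85279 : Led Lsl_gt (LP (LK LD1_c1 LD2_c50 LD3_c3)) = (LP (LK LD1_c3 LD2_c45 LD3_c55)) :=
  Lre_g IH (LK LD1_c1 LD2_c50 LD3_c3) (LK LD1_c3 LD2_c45 LD3_c55) Lrfl Lrfl
theorem f109625 : Led Lsl_bt (LP (LK LD1_c7 LD2_c32 LD3_c36)) = (LP (LK LD1_c3 LD2_c45 LD3_c55)) :=
  Lre_b IH (LK LD1_c7 LD2_c32 LD3_c36) (LK LD1_c3 LD2_c45 LD3_c55) Lrfl Lrfl
theorem f478473 : Led Lsl_cf (LP (LK LD1_c13 LD2_c5 LD3_c29)) = (LP (LK LD1_c7 LD2_c32 LD3_c36)) :=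
  Lgr Lrot160 (Lpr_gt (f115953 IH) (Lpr_cf (K4.f115911 IH) (Lpr_bt (K4.f115952 IH) (Lpr_gt (K29.f478298 IH) (Lpr_ct (K35.f4495 IH) (Lpr_gt (K29.f459355 IH) (Lpqs (K29.f466750 IH) (Lpe (f85260 IH) (Lpr_bt (K29.f85278 IH) (Lpr_gt (f85279 IH) (Lpe (f109625 IH) (Lpn (LP (LK LD1_c7 LD2_c32 LD3_c36))))))))))))))
theorem f65924 : Led Lsl_ct (LP (LK LD1_c3 LD2_c24 LD3_c36)) = (LP (LK LD1_c1 LD2_c38 LD3_c43)) :=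
  Lre_c IH (LK LD1_c3 LD2_c24 LD3_c36) (LK LD1_c1 LD2_c38 LD3_c43) Lrfl Lrfl
theorem f65930 : Led Lsl_bt (LP (LK LD1_c3 LD2_c24 LD3_c36)) = (LP (LK LD1_c6 LD2_c51 LD3_c42)) :=
  Lre_b IH (LK LD1_c3 LD2_c24 LD3_c36) (LK LD1_c6 LD2_c51 LD3_c42) Lrfl Lrfl
theorem f511656 : Led Lsl_gf (LP (LK LD1_c7 LD2_c32 LD3_c36)) = (LP (LK LD1_c6 LD2_c51 LD3_c42)) :=
  Lgr Lrot181 (Lpe (f478473 IH) (Lpr_gt (f115953 IH) (Lpr_cf (K4.f115911 IH) (Lpr_bt (K4.f115952 IH) (Lpr_gt (K29.f478298 IH) (Lpe (K29.f456287 IH) (Lpr_ct (f447646 IH) (Lpr_gt (K32.f457097 IH) (Lpqs (K33.f511458 IH) (Lpe (f65924 IH) (Lpr_bt (f65930 IH) (Lpn (LP (LK LD1_c6 LD2_c51 LD3_c42))))))))))))))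
theorem f478579 : Led Lsl_ct (LP (LK LD1_c13 LD2_c5 LD3_c29)) = (LP (LK LD1_c7 LD2_c32 LD3_c36)) :=
  Lgr Lrot59 (Lpr_cf (f478473 IH) (Lpn (LP (LK LD1_c7 LD2_c32 LD3_c36))))
theorem f478577 : Led Lsl_bt (LP (LK LD1_c13 LD2_c5 LD3_c29)) = (LP (LK LD1_c22 LD2_c16 LD3_c14)) :=
  Lre_b IH (LK LD1_c13 LD2_c5 LD3_c29) (LK LD1_c22 LD2_c16 LD3_c14) Lrfl Lrfl
def v2063 : LQ := Led Lsl_et (LP (LK LD1_c1 LD2_c34 LD3_c38))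
theorem f508647 : Led Lsl_et (LP (LK LD1_c1 LD2_c34 LD3_c38)) = v2063 :=
  Lrfl
theorem f508650 : Led Lsl_ef (LP (LK LD1_c1 LD2_c34 LD3_c38)) = v2063 :=
  Lgr Lrot88 (Lpr_et (f508647 IH) (Lpn v2063))
theorem f650354 : Led Lsl_bf v2063 = v5980 :=
  Lgr Lrot96 (Lpe (f508650 IH) (Lpr_bt (K5.f23665 IH) (Lpr_et (f650353 IH) (Lpn v5980))))
theorem f65784 : Led Lsl_et (LP (LK LD1_c3 LD2_c46 LD3_c58)) = (LP (LK LD1_c1 LD2_c50 LD3_c33)) :=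
  Lre_e IH (LK LD1_c3 LD2_c46 LD3_c58) (LK LD1_c1 LD2_c50 LD3_c33) Lrfl Lrfl
theorem f508651 : Led Lsl_gt (LP (LK LD1_c1 LD2_c50 LD3_c33)) = v2063 :=
  Lgr Lrot131 (Lpe (f65784 IH) (Lpr_dt (K29.f65783 IH) (Lpe (K29.f65782 IH) (Lpe (K24.f65781 IH) (Lpe (K24.f64182 IH) (Lpe (K32.f64183 IH) (Lpr_dt (K3.f64184 IH) (Lpe (K2.f20837 IH) (Lpe (K2.f65708 IH) (Lpr_et (f508647 IH) (Lpn v2063)))))))))))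
theorem f459661 : Led Lsl_bt (LP (LK LD1_c3 LD2_c46 LD3_c57)) = (LP (LK LD1_c1 LD2_c50 LD3_c33)) :=
  Lre_b IH (LK LD1_c3 LD2_c46 LD3_c57) (LK LD1_c1 LD2_c50 LD3_c33) Lrfl Lrfl
theorem f451069 : Led Lsl_ct (LP (LK LD1_c0 LD2_c52 LD3_c10)) = (LP (LK LD1_c1 LD2_c50 LD3_c33)) :=
  Lre_c IH (LK LD1_c0 LD2_c52 LD3_c10) (LK LD1_c1 LD2_c50 LD3_c33) Lrfl Lrfl
theorem f477471 : Led Lsl_cf (LP (LK LD1_c3 LD2_c46 LD3_c57)) = (LP (LK LD1_c3 LD2_c46 LD3_c57)) :=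
  Lgr Lrot97 (Lpr_bt (f459661 IH) (Lpr_ct (K30.f451070 IH) (Lpr_bt (K34.f459659 IH) (Lpqs (K34.f477467 IH) (Lpr_ct (f451069 IH) (Lpr_bt (K30.f455528 IH) (Lpn (LP (LK LD1_c3 LD2_c46 LD3_c57)))))))))
theorem f477474 : Led Lsl_gt (LP (LK LD1_c7 LD2_c34 LD3_c45)) = (LP (LK LD1_c3 LD2_c46 LD3_c57)) :=
  Lre_g IH (LK LD1_c7 LD2_c34 LD3_c45) (LK LD1_c3 LD2_c46 LD3_c57) Lrfl Lrfl
theorem f477478 : Led Lsl_ct (LP (LK LD1_c14 LD2_c17 LD3_c36)) = (LP (LK LD1_c7 LD2_c34 LD3_c45)) :=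
  Lre_c IH (LK LD1_c14 LD2_c17 LD3_c36) (LK LD1_c7 LD2_c34 LD3_c45) Lrfl Lrfl
theorem f650359 : Led Lsl_gt (LP (LK LD1_c22 LD2_c16 LD3_c14)) = (LP (LK LD1_c14 LD2_c17 LD3_c36)) :=
  Lgr Lrot82 (Lpe (f478577 IH) (Lpr_ct (f478579 IH) (Lpr_gf (f511656 IH) (Lpr_cf (f650355 IH) (Lpe (f650354 IH) (Lpe (f508651 IH) (Lpe (f459661 IH) (Lpe (f477471 IH) (Lpe (f477474 IH) (Lpe (f477478 IH) (Lpn (LP (LK LD1_c14 LD2_c17 LD3_c36)))))))))))))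
theorem f650360 : Led Lsl_gt (LP (LK LD1_c22 LD2_c16 LD3_c14)) = (LP (LK LD1_c14 LD2_c17 LD3_c36)) :=
  Leop (Lpe (f650359 IH) (Lpn (LP (LK LD1_c22 LD2_c16 LD3_c14))))
theorem seed_336 : LEOK LG_g (LK LD1_c22 LD2_c16 LD3_c14) :=
  Leoe_g (LK LD1_c22 LD2_c16 LD3_c14) (f650360 IH)
theorem f130530 : Led Lsl_gt (LP (LK LD1_c13 LD2_c3 LD3_c1)) = (LP (LK LD1_c6 LD2_c51 LD3_c42)) :=
  Lre_g IH (LK LD1_c13 LD2_c3 LD3_c1) (LK LD1_c6 LD2_c51 LD3_c42) Lrfl Lrfl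
theorem f451560 : Led Lsl_bf K24.v94 = K30.v292 :=
  Lgr Lrot24 (Lpr_bt (K30.f451559 IH) (Lpn K30.v292))
theorem f65851 : Led Lsl_et (LP (LK LD1_c1 LD2_c34 LD3_c39)) = (LP (LK LD1_c0 LD2_c44 LD3_c1)) :=
  Lre_e IH (LK LD1_c1 LD2_c34 LD3_c39) (LK LD1_c0 LD2_c44 LD3_c1) Lrfl Lrfl
theorem f65853 : Led Lsl_bf (LP (LK LD1_c1 LD2_c34 LD3_c39)) = (LP (LK LD1_c1 LD2_c38 LD3_c43)) :=
  Lgr Lrot96 (Lpr_et (f65851 IH) (Lpr_bt (K2.f65832 IH) (Lpr_et (K29.f65852 IH) (Lpn (LP (LK LD1_c1 LD2_c38 LD3_c43))))))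
theorem f65922 : Led Lsl_bt (LP (LK LD1_c1 LD2_c34 LD3_c39)) = (LP (LK LD1_c1 LD2_c38 LD3_c43)) :=
  Lgr Lrot127 (Lpr_bf (f65853 IH) (Lpn (LP (LK LD1_c1 LD2_c38 LD3_c43))))
theorem f508653 : Led Lsl_ct (LP (LK LD1_c1 LD2_c34 LD3_c39)) = v2063 :=
  Lgr Lrot15 (Lpe (K29.f65931 IH) (Lpe (K2.f65787 IH) (Lpr_ef (f508650 IH) (Lpn v2063))))
theorem f511669 : Led Lsl_gf K34.v1052 = v2063 :=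
  Lgr Lrot126 (Lpe (K34.f491183 IH) (Lpqs (K34.f493750 IH) (Lpe (f451560 IH) (Lpr_gt (K29.f447690 IH) (Lpe (K33.f447683 IH) (Lpr_gt (K24.f436821 IH) (Lpq (K24.f456262 IH) (Lpe (K24.f450983 IH) (Lpr_bt (K33.f450979 IH) (Lpr_gt (K32.f457097 IH) (Lpqs (K33.f511458 IH) (Lpe (f65922 IH) (Lpr_ct (f508653 IH) (Lpn v2063))))))))))))))
theorem f493491 : Led Lsl_bt K30.v1132 = K30.v1170 :=
  Lgr Lrot128 (Lpe (K30.f491639 IH) (Lpe (K29.f451489 IH) (Lpqs (K29.f455963 IH) (Lpe (K29.f451561 IH) (Lpr_bf (f451560 IH) (Lpr_cf (K30.f493490 IH) (Lpn K30.v1170)))))))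
theorem f94327 : Led Lsl_gt (LP (LK LD1_c6 LD2_c53 LD3_c21)) = (LP (LK LD1_c13 LD2_c5 LD3_c30)) :=
  Lre_g IH (LK LD1_c6 LD2_c53 LD3_c21) (LK LD1_c13 LD2_c5 LD3_c30) Lrfl Lrfl
theorem f650361 : Led Lsl_cf (LP (LK LD1_c13 LD2_c3 LD3_c1)) = (LP (LK LD1_c13 LD2_c5 LD3_c30)) :=
  Lgr Lrot125 (Lpr_gt (f130530 IH) (Lpr_cf (f650355 IH) (Lpe (f650354 IH) (Lpe (f511669 IH) (Lpq (K34.f493755 IH) (Lpe (f493491 IH) (Lpe (K30.f491641 IH) (Lpe (K29.f478475 IH) (Lpe (K4.f94322 IH) (Lpr_bt (K4.f94326 IH) (Lpr_gt (f94327 IH) (Lpn (LP (LK LD1_c13 LD2_c5 LD3_c30))))))))))))))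
theorem f650362 : Led Lsl_ct (LP (LK LD1_c13 LD2_c5 LD3_c30)) = (LP (LK LD1_c13 LD2_c3 LD3_c1)) :=
  Leop (Lpr_cf (f650361 IH) (Lpn (LP (LK LD1_c13 LD2_c5 LD3_c30))))
theorem seed_337 : LEOK LG_c (LK LD1_c13 LD2_c5 LD3_c30) :=
  Leoe_c (LK LD1_c13 LD2_c5 LD3_c30) (f650362 IH)
def v5998 : LQ := Led Lsl_ft (LP (LK LD1_c3 LD2_c16 LD3_c1))
theorem f650442 : Led Lsl_ft (LP (LK LD1_c3 LD2_c16 LD3_c1)) = v5998 :=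
  Lrfl
def v5997 : LQ := Led Lsl_gt (LP (LK LD1_c3 LD2_c16 LD3_c1))
theorem f650441 : Led Lsl_gt (LP (LK LD1_c3 LD2_c16 LD3_c1)) = v5997 :=
  Lrfl
theorem f118412 : Led Lsl_ct (LP (LK LD1_c1 LD2_c35 LD3_c7)) = (LP (LK LD1_c3 LD2_c16 LD3_c52)) :=
  Lre_c IH (LK LD1_c1 LD2_c35 LD3_c7) (LK LD1_c3 LD2_c16 LD3_c52) Lrfl Lrfl
theorem f118413 : Led Lsl_dt (LP (LK LD1_c3 LD2_c16 LD3_c61)) = (LP (LK LD1_c1 LD2_c35 LD3_c7)) :=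
  Lre_d IH (LK LD1_c3 LD2_c16 LD3_c61) (LK LD1_c1 LD2_c35 LD3_c7) Lrfl Lrfl
theorem f118428 : Led Lsl_ft (LP (LK LD1_c3 LD2_c16 LD3_c61)) = (LP (LK LD1_c1 LD2_c35 LD3_c6)) :=
  Lre_f IH (LK LD1_c3 LD2_c16 LD3_c61) (LK LD1_c1 LD2_c35 LD3_c6) Lrfl Lrfl
theorem f118429 : Led Lsl_af (LP (LK LD1_c3 LD2_c16 LD3_c1)) = (LP (LK LD1_c1 LD2_c35 LD3_c6)) :=
  Lgr Lrot109 (Lpe (K4.f118403 IH) (Lpe (K4.f118404 IH) (Lpe (K4.f118405 IH) (Lpr_df (K4.f118407 IH) (Lpe (K4.f118406 IH) (Lpe (K4.f118358 IH) (Lpe (f118412 IH) (Lpe (f118413 IH) (Lpr_ft (f118428 IH) (Lpn (LP (LK LD1_c1 LD2_c35 LD3_c6))))))))))))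
theorem f650443 : Led Lsl_af (LP (LK LD1_c3 LD2_c16 LD3_c61)) = v5998 :=
  Lgr Lrot45 (Lpr_ft (f118428 IH) (Lpe (f118429 IH) (Lpr_ft (f650442 IH) (Lpn v5998))))
theorem f650446 : Led Lsl_gt v5997 = (LP (LK LD1_c3 LD2_c16 LD3_c61)) :=
  Lgr Lrot46 (Lpe (f650441 IH) (Lpr_ft (f650442 IH) (Lpe (f650443 IH) (Lpn (LP (LK LD1_c3 LD2_c16 LD3_c61))))))
theorem f118520 : Led Lsl_dt (LP (LK LD1_c1 LD2_c35 LD3_c7)) = (LP (LK LD1_c3 LD2_c16 LD3_c61)) :=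
  Lre_d IH (LK LD1_c1 LD2_c35 LD3_c7) (LK LD1_c3 LD2_c16 LD3_c61) Lrfl Lrfl
theorem f118355 : Led Lsl_ct (LP (LK LD1_c3 LD2_c16 LD3_c52)) = (LP (LK LD1_c1 LD2_c35 LD3_c7)) :=
  Lre_c IH (LK LD1_c3 LD2_c16 LD3_c52) (LK LD1_c1 LD2_c35 LD3_c7) Lrfl Lrfl
theorem f118356 : Led Lsl_et (LP (LK LD1_c1 LD2_c35 LD3_c7)) = (LP (LK LD1_c3 LD2_c16 LD3_c8)) :=
  Lgr Lrot158 (Lpe (f118355 IH) (Lpr_ef (K4.f118350 IH) (Lpe (K4.f118112 IH) (Lpn (LP (LK LD1_c3 LD2_c16 LD3_c8))))))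
theorem f62050 : Led Lsl_dt (LP (LK LD1_c0 LD2_c44 LD3_c16)) = (LP (LK LD1_c1 LD2_c35 LD3_c16)) :=
  Lre_d IH (LK LD1_c0 LD2_c44 LD3_c16) (LK LD1_c1 LD2_c35 LD3_c16) Lrfl Lrfl
theorem f118224 : Led Lsl_dt (LP (LK LD1_c3 LD2_c16 LD3_c7)) = (LP (LK LD1_c1 LD2_c34 LD3_c49)) :=
  Lre_d IH (LK LD1_c3 LD2_c16 LD3_c7) (LK LD1_c1 LD2_c34 LD3_c49) Lrfl Lrfl
theorem f118235 : Led Lsl_af (LP (LK LD1_c0 LD2_c44 LD3_c16)) = (LP (LK LD1_c1 LD2_c34 LD3_c49)) :=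
  Lgr Lrot117 (Lpr_dt (f62050 IH) (Lpr_at (K4.f118233 IH) (Lpr_dt (f118224 IH) (Lpn (LP (LK LD1_c1 LD2_c34 LD3_c49))))))
theorem f62021 : Led Lsl_gt (LP (LK LD1_c1 LD2_c35 LD3_c15)) = (LP (LK LD1_c0 LD2_c44 LD3_c16)) :=
  Lre_g IH (LK LD1_c1 LD2_c35 LD3_c15) (LK LD1_c0 LD2_c44 LD3_c16) Lrfl Lrfl
theorem f118259 : Led Lsl_ft (LP (LK LD1_c3 LD2_c16 LD3_c8)) = (LP (LK LD1_c1 LD2_c34 LD3_c49)) :=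
  Lre_f IH (LK LD1_c3 LD2_c16 LD3_c8) (LK LD1_c1 LD2_c34 LD3_c49) Lrfl Lrfl
theorem f119398 : Led Lsl_gf (LP (LK LD1_c1 LD2_c35 LD3_c15)) = (LP (LK LD1_c3 LD2_c16 LD3_c8)) :=
  Lgr Lrot47 (Lpr_gt (f62021 IH) (Lpr_af (f118235 IH) (Lpe (f118259 IH) (Lpn (LP (LK LD1_c3 LD2_c16 LD3_c8))))))
theorem f62022 : Led Lsl_et (LP (LK LD1_c3 LD2_c17 LD3_c22)) = (LP (LK LD1_c1 LD2_c35 LD3_c15)) :=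
  Lre_e IH (LK LD1_c3 LD2_c17 LD3_c22) (LK LD1_c1 LD2_c35 LD3_c15) Lrfl Lrfl
def v5234 : LQ := Led Lsl_gf (LP (LK LD1_c3 LD2_c2 LD3_c20))
theorem f646711 : Led Lsl_gf (LP (LK LD1_c3 LD2_c2 LD3_c20)) = v5234 :=
  Lrfl
theorem f78966 : Led Lsl_gt (LP (LK LD1_c1 LD2_c35 LD3_c6)) = (LP (LK LD1_c3 LD2_c16 LD3_c58)) :=
  Lre_g IH (LK LD1_c1 LD2_c35 LD3_c6) (LK LD1_c3 LD2_c16 LD3_c58) Lrfl Lrfl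
theorem f155223 : Led Lsl_dt (LP (LK LD1_c6 LD2_c37 LD3_c16)) = (LP (LK LD1_c3 LD2_c16 LD3_c58)) :=
  Lre_d IH (LK LD1_c6 LD2_c37 LD3_c16) (LK LD1_c3 LD2_c16 LD3_c58) Lrfl Lrfl
theorem f646713 : Led Lsl_et (LP (LK LD1_c6 LD2_c37 LD3_c16)) = v5234 :=
  Lgr Lrot121 (Lpr_dt (f155223 IH) (Lpe (f78966 IH) (Lpe (K4.f64469 IH) (Lpr_et (K4.f78962 IH) (Lpe (K2.f57109 IH) (Lpe (K24.f443613 IH) (Lpr_dt (K24.f66027 IH) (Lpe (K5.f130828 IH) (Lpe (K24.f443614 IH) (Lpr_gf (f646711 IH) (Lpn v5234)))))))))))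
theorem f646715 : Led Lsl_ef (LP (LK LD1_c6 LD2_c37 LD3_c16)) = v5234 :=
  Lgr Lrot88 (Lpr_et (f646713 IH) (Lpn v5234))
theorem f61965 : Led Lsl_bt (LP (LK LD1_c1 LD2_c26 LD3_c55)) = (LP (LK LD1_c3 LD2_c1 LD3_c40)) :=
  Lre_b IH (LK LD1_c1 LD2_c26 LD3_c55) (LK LD1_c3 LD2_c1 LD3_c40) Lrfl Lrfl
theorem f61966 : Led Lsl_bt (LP (LK LD1_c3 LD2_c17 LD3_c6)) = (LP (LK LD1_c1 LD2_c35 LD3_c16)) :=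
  Lre_b IH (LK LD1_c3 LD2_c17 LD3_c6) (LK LD1_c1 LD2_c35 LD3_c16) Lrfl Lrfl
theorem f61967 : Led Lsl_ef (LP (LK LD1_c1 LD2_c26 LD3_c55)) = (LP (LK LD1_c1 LD2_c35 LD3_c16)) :=
  Lgr Lrot29 (Lpr_bt (f61965 IH) (Lpr_et (K1.f61960 IH) (Lpr_bt (f61966 IH) (Lpn (LP (LK LD1_c1 LD2_c35 LD3_c16))))))
theorem f119412 : Led Lsl_dt (LP (LK LD1_c3 LD2_c17 LD3_c21)) = (LP (LK LD1_c1 LD2_c35 LD3_c15)) :=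
  Lre_d IH (LK LD1_c3 LD2_c17 LD3_c21) (LK LD1_c1 LD2_c35 LD3_c15) Lrfl Lrfl
theorem f154335 : Led Lsl_dt (LP (LK LD1_c1 LD2_c31 LD3_c0)) = (LP (LK LD1_c0 LD2_c41 LD3_c60)) :=
  Lre_d IH (LK LD1_c1 LD2_c31 LD3_c0) (LK LD1_c0 LD2_c41 LD3_c60) Lrfl Lrfl
theorem f155118 : Led Lsl_gf (LP (LK LD1_c0 LD2_c40 LD3_c11)) = (LP (LK LD1_c0 LD2_c41 LD3_c60)) :=
  Lgr Lrot144 (Lpr_dt (K4.f78963 IH) (Lpr_gt (K4.f114212 IH) (Lpr_dt (K3.f85294 IH) (Lpe (K3.f12640 IH) (Lpe (K3.f58171 IH) (Lpr_gf (K3.f84985 IH) (Lpe (K3.f62670 IH) (Lpe (K7.f155093 IH) (Lpr_cf (K7.f155109 IH) (Lpn (LP (LK LD1_c0 LD2_c41 LD3_c60))))))))))))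
theorem f78761 : Led Lsl_et (LP (LK LD1_c1 LD2_c34 LD3_c58)) = (LP (LK LD1_c3 LD2_c16 LD3_c29)) :=
  Lre_e IH (LK LD1_c1 LD2_c34 LD3_c58) (LK LD1_c3 LD2_c16 LD3_c29) Lrfl Lrfl
theorem f78768 : Led Lsl_dt (LP (LK LD1_c3 LD2_c16 LD3_c29)) = (LP (LK LD1_c6 LD2_c36 LD3_c19)) :=
  Lre_d IH (LK LD1_c3 LD2_c16 LD3_c29) (LK LD1_c6 LD2_c36 LD3_c19) Lrfl Lrfl
theorem f78769 : Led Lsl_dt (LP (LK LD1_c6 LD2_c9 LD3_c56)) = (LP (LK LD1_c3 LD2_c1 LD3_c27)) :=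
  Lre_d IH (LK LD1_c6 LD2_c9 LD3_c56) (LK LD1_c3 LD2_c1 LD3_c27) Lrfl Lrfl
theorem f78770 : Led Lsl_et (LP (LK LD1_c6 LD2_c36 LD3_c19)) = (LP (LK LD1_c6 LD2_c9 LD3_c56)) :=
  Lgr Lrot71 (Lpe (f78768 IH) (Lpe (f78761 IH) (Lpr_df (K4.f78765 IH) (Lpe (K5.f77842 IH) (Lpe (f78769 IH) (Lpn (LP (LK LD1_c6 LD2_c9 LD3_c56))))))))
theorem f78775 : Led Lsl_at (LP (LK LD1_c3 LD2_c16 LD3_c36)) = (LP (LK LD1_c6 LD2_c36 LD3_c19)) :=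
  Lre_a IH (LK LD1_c3 LD2_c16 LD3_c36) (LK LD1_c6 LD2_c36 LD3_c19) Lrfl Lrfl
theorem f78776 : Led Lsl_at (LP (LK LD1_c6 LD2_c9 LD3_c56)) = (LP (LK LD1_c3 LD2_c1 LD3_c30)) :=
  Lre_a IH (LK LD1_c6 LD2_c9 LD3_c56) (LK LD1_c3 LD2_c1 LD3_c30) Lrfl Lrfl
theorem f78777 : Led Lsl_ef (LP (LK LD1_c3 LD2_c16 LD3_c36)) = (LP (LK LD1_c3 LD2_c1 LD3_c30)) :=
  Lgr Lrot20 (Lpr_at (f78775 IH) (Lpr_et (f78770 IH) (Lpr_at (f78776 IH) (Lpn (LP (LK LD1_c3 LD2_c1 LD3_c30))))))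
theorem f78788 : Led Lsl_ct (LP (LK LD1_c3 LD2_c16 LD3_c36)) = (LP (LK LD1_c6 LD2_c36 LD3_c35)) :=
  Lre_c IH (LK LD1_c3 LD2_c16 LD3_c36) (LK LD1_c6 LD2_c36 LD3_c35) Lrfl Lrfl
theorem f78789 : Led Lsl_et (LP (LK LD1_c6 LD2_c36 LD3_c35)) = (LP (LK LD1_c6 LD2_c9 LD3_c59)) :=
  Lgr Lrot158 (Lpe (f78788 IH) (Lpr_ef (f78777 IH) (Lpe (K5.f61741 IH) (Lpn (LP (LK LD1_c6 LD2_c9 LD3_c59))))))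
theorem f78805 : Led Lsl_ef (LP (LK LD1_c6 LD2_c36 LD3_c35)) = (LP (LK LD1_c6 LD2_c9 LD3_c59)) :=
  Lgr Lrot88 (Lpr_et (f78789 IH) (Lpn (LP (LK LD1_c6 LD2_c9 LD3_c59))))
theorem f78810 : Led Lsl_bt (LP (LK LD1_c6 LD2_c36 LD3_c35)) = (LP (LK LD1_c12 LD2_c39 LD3_c2)) :=
  Lre_b IH (LK LD1_c6 LD2_c36 LD3_c35) (LK LD1_c12 LD2_c39 LD3_c2) Lrfl Lrfl
theorem f78811 : Led Lsl_bt (LP (LK LD1_c12 LD2_c0 LD3_c47)) = (LP (LK LD1_c6 LD2_c9 LD3_c59)) :=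
  Lre_b IH (LK LD1_c12 LD2_c0 LD3_c47) (LK LD1_c6 LD2_c9 LD3_c59) Lrfl Lrfl
theorem f78812 : Led Lsl_et (LP (LK LD1_c12 LD2_c39 LD3_c2)) = (LP (LK LD1_c12 LD2_c0 LD3_c47)) :=
  Lgr Lrot74 (Lpe (f78810 IH) (Lpr_ef (f78805 IH) (Lpe (f78811 IH) (Lpn (LP (LK LD1_c12 LD2_c0 LD3_c47))))))
theorem f78829 : Led Lsl_ct (LP (LK LD1_c6 LD2_c37 LD3_c20)) = (LP (LK LD1_c12 LD2_c39 LD3_c2)) :=
  Lre_c IH (LK LD1_c6 LD2_c37 LD3_c20) (LK LD1_c12 LD2_c39 LD3_c2) Lrfl Lrfl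
theorem f78830 : Led Lsl_ct (LP (LK LD1_c12 LD2_c0 LD3_c47)) = (LP (LK LD1_c6 LD2_c10 LD3_c1)) :=
  Lre_c IH (LK LD1_c12 LD2_c0 LD3_c47) (LK LD1_c6 LD2_c10 LD3_c1) Lrfl Lrfl
theorem f78831 : Led Lsl_ef (LP (LK LD1_c6 LD2_c37 LD3_c20)) = (LP (LK LD1_c6 LD2_c10 LD3_c1)) :=
  Lgr Lrot28 (Lpr_ct (f78829 IH) (Lpr_et (f78812 IH) (Lpr_ct (f78830 IH) (Lpn (LP (LK LD1_c6 LD2_c10 LD3_c1))))))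
theorem f78843 : Led Lsl_bt (LP (LK LD1_c6 LD2_c37 LD3_c20)) = (LP (LK LD1_c3 LD2_c16 LD3_c60)) :=
  Lre_b IH (LK LD1_c6 LD2_c37 LD3_c20) (LK LD1_c3 LD2_c16 LD3_c60) Lrfl Lrfl
theorem f78844 : Led Lsl_bt (LP (LK LD1_c3 LD2_c1 LD3_c36)) = (LP (LK LD1_c6 LD2_c10 LD3_c1)) :=
  Lre_b IH (LK LD1_c3 LD2_c1 LD3_c36) (LK LD1_c6 LD2_c10 LD3_c1) Lrfl Lrfl
theorem f78845 : Led Lsl_et (LP (LK LD1_c3 LD2_c16 LD3_c60)) = (LP (LK LD1_c3 LD2_c1 LD3_c36)) :=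
  Lgr Lrot74 (Lpe (f78843 IH) (Lpr_ef (f78831 IH) (Lpe (f78844 IH) (Lpn (LP (LK LD1_c3 LD2_c1 LD3_c36))))))
theorem f78952 : Led Lsl_ef (LP (LK LD1_c1 LD2_c35 LD3_c6)) = (LP (LK LD1_c1 LD2_c26 LD3_c49)) :=
  Lgr Lrot28 (Lpr_ct (K4.f78950 IH) (Lpr_et (f78845 IH) (Lpr_ct (K6.f78951 IH) (Lpn (LP (LK LD1_c1 LD2_c26 LD3_c49))))))
theorem f155212 : Led Lsl_et (LP (LK LD1_c3 LD2_c17 LD3_c21)) = (LP (LK LD1_c3 LD2_c16 LD3_c58)) :=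
  Lgr Lrot122 (Lpr_dt (f119412 IH) (Lpr_gt (f62021 IH) (Lpe (K1.f61985 IH) (Lpe (f61967 IH) (Lpr_gt (K7.f155201 IH) (Lpr_dt (f154335 IH) (Lpe (f155118 IH) (Lpe (K4.f64467 IH) (Lpe (f78952 IH) (Lpr_gt (f78966 IH) (Lpn (LP (LK LD1_c3 LD2_c16 LD3_c58)))))))))))))
theorem f155217 : Led Lsl_ef (LP (LK LD1_c3 LD2_c17 LD3_c21)) = (LP (LK LD1_c3 LD2_c16 LD3_c58)) :=
  Lgr Lrot88 (Lpr_et (f155212 IH) (Lpn (LP (LK LD1_c3 LD2_c16 LD3_c58))))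
theorem f155222 : Led Lsl_et (LP (LK LD1_c1 LD2_c35 LD3_c15)) = (LP (LK LD1_c3 LD2_c17 LD3_c22)) :=
  Lre_e IH (LK LD1_c1 LD2_c35 LD3_c15) (LK LD1_c3 LD2_c17 LD3_c22) Lrfl Lrfl
theorem f646716 : Led Lsl_dt (LP (LK LD1_c3 LD2_c17 LD3_c22)) = v5234 :=
  Lgr Lrot77 (Lpe (f155222 IH) (Lpe (f119412 IH) (Lpr_ef (f155217 IH) (Lpe (f155223 IH) (Lpr_ef (f646715 IH) (Lpn v5234))))))
theorem f443623 : Led Lsl_et (LP (LK LD1_c1 LD2_c27 LD3_c8)) = (LP (LK LD1_c3 LD2_c2 LD3_c21)) :=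
  Lre_e IH (LK LD1_c1 LD2_c27 LD3_c8) (LK LD1_c3 LD2_c2 LD3_c21) Lrfl Lrfl
theorem f130834 : Led Lsl_gt (LP (LK LD1_c3 LD2_c2 LD3_c21)) = (LP (LK LD1_c6 LD2_c11 LD3_c33)) :=
  Lre_g IH (LK LD1_c3 LD2_c2 LD3_c21) (LK LD1_c6 LD2_c11 LD3_c33) Lrfl Lrfl
theorem f650447 : Led Lsl_df v5997 = (LP (LK LD1_c6 LD2_c11 LD3_c33)) :=
  Lgr Lrot135 (Lpr_gt (f650446 IH) (Lpe (f118520 IH) (Lpr_et (f118356 IH) (Lpe (f119398 IH) (Lpe (f62022 IH) (Lpr_dt (f646716 IH) (Lpe (f646711 IH) (Lpe (K32.f443618 IH) (Lpr_et (f443623 IH) (Lpr_gt (f130834 IH) (Lpn (LP (LK LD1_c6 LD2_c11 LD3_c33)))))))))))))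
theorem f118466 : Led Lsl_dt (LP (LK LD1_c6 LD2_c37 LD3_c6)) = (LP (LK LD1_c3 LD2_c16 LD3_c52)) :=
  Lre_d IH (LK LD1_c6 LD2_c37 LD3_c6) (LK LD1_c3 LD2_c16 LD3_c52) Lrfl Lrfl
theorem f118467 : Led Lsl_at (LP (LK LD1_c12 LD2_c36 LD3_c45)) = (LP (LK LD1_c6 LD2_c37 LD3_c6)) :=
  Lgr Lrot100 (Lpr_af (K4.f118461 IH) (Lpn (LP (LK LD1_c6 LD2_c37 LD3_c6))))
theorem f118587 : Led Lsl_ft (LP (LK LD1_c6 LD2_c35 LD3_c20)) = (LP (LK LD1_c12 LD2_c36 LD3_c45)) :=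
  Lre_f IH (LK LD1_c6 LD2_c35 LD3_c20) (LK LD1_c12 LD2_c36 LD3_c45) Lrfl Lrfl
theorem f119116 : Led Lsl_gt (LP (LK LD1_c6 LD2_c35 LD3_c20)) = (LP (LK LD1_c12 LD2_c36 LD3_c43)) :=
  Lre_g IH (LK LD1_c6 LD2_c35 LD3_c20) (LK LD1_c12 LD2_c36 LD3_c43) Lrfl Lrfl
theorem f119117 : Led Lsl_gt (LP (LK LD1_c12 LD2_c36 LD3_c43)) = (LP (LK LD1_c6 LD2_c37 LD3_c6)) :=
  Lgr Lrot46 (Lpe (f119116 IH) (Lpr_ft (f118587 IH) (Lpr_at (f118467 IH) (Lpn (LP (LK LD1_c6 LD2_c37 LD3_c6))))))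
theorem f130842 : Led Lsl_ct (LP (LK LD1_c6 LD2_c11 LD3_c31)) = (LP (LK LD1_c3 LD2_c2 LD3_c21)) :=
  Lre_c IH (LK LD1_c6 LD2_c11 LD3_c31) (LK LD1_c3 LD2_c2 LD3_c21) Lrfl Lrfl
theorem f130854 : Led Lsl_gt (LP (LK LD1_c6 LD2_c11 LD3_c31)) = (LP (LK LD1_c12 LD2_c3 LD3_c2)) :=
  Lre_g IH (LK LD1_c6 LD2_c11 LD3_c31) (LK LD1_c12 LD2_c3 LD3_c2) Lrfl Lrfl
theorem f650449 : Led Lsl_df (LP (LK LD1_c12 LD2_c36 LD3_c43)) = (LP (LK LD1_c12 LD2_c3 LD3_c2)) :=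
  Lgr Lrot153 (Lpr_gt (f119117 IH) (Lpr_dt (f118466 IH) (Lpe (f118412 IH) (Lpe (f118413 IH) (Lpe (f650446 IH) (Lpr_df (f650447 IH) (Lpe (f130834 IH) (Lpe (f130842 IH) (Lpr_gt (f130854 IH) (Lpn (LP (LK LD1_c12 LD2_c3 LD3_c2))))))))))))
theorem f650450 : Led Lsl_dt (LP (LK LD1_c12 LD2_c3 LD3_c2)) = (LP (LK LD1_c12 LD2_c36 LD3_c43)) :=
  Leop (Lpr_df (f650449 IH) (Lpn (LP (LK LD1_c12 LD2_c3 LD3_c2))))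
theorem seed_338 : LEOK LG_d (LK LD1_c12 LD2_c3 LD3_c2) :=
  Leoe_d (LK LD1_c12 LD2_c3 LD3_c2) (f650450 IH)
def v6021 : LQ := Led Lsl_ft (LP (LK LD1_c3 LD2_c16 LD3_c29))
theorem f650578 : Led Lsl_ft (LP (LK LD1_c3 LD2_c16 LD3_c29)) = v6021 :=
  Lrfl
theorem f78782 : Led Lsl_gt (LP (LK LD1_c3 LD2_c16 LD3_c29)) = (LP (LK LD1_c6 LD2_c36 LD3_c18)) :=
  Lre_g IH (LK LD1_c3 LD2_c16 LD3_c29) (LK LD1_c6 LD2_c36 LD3_c18) Lrfl Lrfl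
theorem f119180 : Led Lsl_at (LP (LK LD1_c1 LD2_c34 LD3_c60)) = (LP (LK LD1_c3 LD2_c16 LD3_c29)) :=
  Lre_a IH (LK LD1_c1 LD2_c34 LD3_c60) (LK LD1_c3 LD2_c16 LD3_c29) Lrfl Lrfl
theorem f441072 : Led Lsl_ft (LP (LK LD1_c3 LD2_c16 LD3_c37)) = (LP (LK LD1_c1 LD2_c34 LD3_c60)) :=
  Lre_f IH (LK LD1_c3 LD2_c16 LD3_c37) (LK LD1_c1 LD2_c34 LD3_c60) Lrfl Lrfl
theorem f650579 : Led Lsl_af (LP (LK LD1_c3 LD2_c16 LD3_c37)) = v6021 :=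
  Lgr Lrot45 (Lpr_ft (f441072 IH) (Lpr_at (f119180 IH) (Lpr_ft (f650578 IH) (Lpn v6021))))
theorem f650581 : Led Lsl_gt (LP (LK LD1_c6 LD2_c36 LD3_c18)) = (LP (LK LD1_c3 LD2_c16 LD3_c37)) :=
  Lgr Lrot46 (Lpe (f78782 IH) (Lpr_ft (f650578 IH) (Lpe (f650579 IH) (Lpn (LP (LK LD1_c3 LD2_c16 LD3_c37))))))
theorem f650582 : Led Lsl_gt (LP (LK LD1_c6 LD2_c36 LD3_c18)) = (LP (LK LD1_c3 LD2_c16 LD3_c37)) :=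
  Leop (Lpe (f650581 IH) (Lpn (LP (LK LD1_c6 LD2_c36 LD3_c18))))
theorem seed_339 : LEOK LG_g (LK LD1_c6 LD2_c36 LD3_c18) :=
  Leoe_g (LK LD1_c6 LD2_c36 LD3_c18) (f650582 IH)
def v6043 : LQ := Led Lsl_at (LP (LK LD1_c3 LD2_c16 LD3_c54))
theorem f650697 : Led Lsl_at (LP (LK LD1_c3 LD2_c16 LD3_c54)) = v6043 :=
  Lrfl
def v2078 : LQ := Led Lsl_at (LP (LK LD1_c1 LD2_c35 LD3_c4))
theorem f508717 : Led Lsl_at (LP (LK LD1_c1 LD2_c35 LD3_c4)) = v2078 :=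
  Lrfl
theorem f508718 : Led Lsl_af (LP (LK LD1_c1 LD2_c35 LD3_c4)) = v2078 :=
  Lgr Lrot0 (Lpr_at (f508717 IH) (Lpn v2078))
theorem f650699 : Led Lsl_df v2078 = v6043 :=
  Lgr Lrot18 (Lpe (f508718 IH) (Lpr_dt (K5.f118513 IH) (Lpr_at (f650697 IH) (Lpn v6043))))
theorem f114318 : Led Lsl_gt (LP (LK LD1_c1 LD2_c35 LD3_c5)) = (LP (LK LD1_c0 LD2_c44 LD3_c13)) :=
  Lre_g IH (LK LD1_c1 LD2_c35 LD3_c5) (LK LD1_c0 LD2_c44 LD3_c13) Lrfl Lrfl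
theorem f508719 : Led Lsl_ft (LP (LK LD1_c1 LD2_c35 LD3_c5)) = v2078 :=
  Lgr Lrot2 (Lpr_gt (f114318 IH) (Lpr_gt (K5.f114226 IH) (Lpr_af (f508718 IH) (Lpn v2078))))
theorem f508723 : Led Lsl_ff (LP (LK LD1_c1 LD2_c35 LD3_c5)) = v2078 :=
  Lgr Lrot3 (Lpr_ft (f508719 IH) (Lpn v2078))
theorem f119183 : Led Lsl_dt (LP (LK LD1_c1 LD2_c35 LD3_c5)) = (LP (LK LD1_c3 LD2_c16 LD3_c57)) :=
  Lre_d IH (LK LD1_c1 LD2_c35 LD3_c5) (LK LD1_c3 LD2_c16 LD3_c57) Lrfl Lrfl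
theorem f650701 : Led Lsl_ft (LP (LK LD1_c3 LD2_c16 LD3_c57)) = v6043 :=
  Lgr Lrot54 (Lpe (f119183 IH) (Lpr_ff (f508723 IH) (Lpr_df (f650699 IH) (Lpn v6043))))
theorem f650698 : Led Lsl_af (LP (LK LD1_c3 LD2_c16 LD3_c54)) = v6043 :=
  Lgr Lrot0 (Lpr_at (f650697 IH) (Lpn v6043))
theorem f118509 : Led Lsl_gt (LP (LK LD1_c6 LD2_c37 LD3_c10)) = (LP (LK LD1_c3 LD2_c16 LD3_c54)) :=
  Lre_g IH (LK LD1_c6 LD2_c37 LD3_c10) (LK LD1_c3 LD2_c16 LD3_c54) Lrfl Lrfl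
theorem f650703 : Led Lsl_gt (LP (LK LD1_c3 LD2_c16 LD3_c57)) = (LP (LK LD1_c6 LD2_c37 LD3_c10)) :=
  Lgr Lrot5 (Lpr_ft (f650701 IH) (Lpe (f650698 IH) (Lpe (f118509 IH) (Lpn (LP (LK LD1_c6 LD2_c37 LD3_c10))))))
theorem f650704 : Led Lsl_gt (LP (LK LD1_c3 LD2_c16 LD3_c57)) = (LP (LK LD1_c6 LD2_c37 LD3_c10)) :=
  Leop (Lpe (f650703 IH) (Lpn (LP (LK LD1_c3 LD2_c16 LD3_c57))))
theorem seed_340 : LEOK LG_g (LK LD1_c3 LD2_c16 LD3_c57) :=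
  Leoe_g (LK LD1_c3 LD2_c16 LD3_c57) (f650704 IH)
def v6045 : LQ := Led Lsl_ft (LP (LK LD1_c3 LD2_c16 LD3_c54))
theorem f650711 : Led Lsl_ft (LP (LK LD1_c3 LD2_c16 LD3_c54)) = v6045 :=
  Lrfl
theorem f650712 : Led Lsl_af (LP (LK LD1_c3 LD2_c16 LD3_c57)) = v6045 :=
  Lgr Lrot45 (Lpr_ft (f650701 IH) (Lpe (f650698 IH) (Lpr_ft (f650711 IH) (Lpn v6045))))
theorem f650715 : Led Lsl_gt (LP (LK LD1_c6 LD2_c11 LD3_c34)) = (LP (LK LD1_c3 LD2_c16 LD3_c57)) :=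
  Lgr Lrot46 (Lpr_gf (K5.f130831 IH) (Lpr_ft (f650711 IH) (Lpe (f650712 IH) (Lpn (LP (LK LD1_c3 LD2_c16 LD3_c57))))))
theorem f650716 : Led Lsl_gt (LP (LK LD1_c6 LD2_c11 LD3_c34)) = (LP (LK LD1_c3 LD2_c16 LD3_c57)) :=
  Leop (Lpe (f650715 IH) (Lpn (LP (LK LD1_c6 LD2_c11 LD3_c34))))
theorem seed_341 : LEOK LG_g (LK LD1_c6 LD2_c11 LD3_c34) :=
  Leoe_g (LK LD1_c6 LD2_c11 LD3_c34) (f650716 IH)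
def v2092 : LQ := Led Lsl_gt (LP (LK LD1_c1 LD2_c35 LD3_c23))
theorem f508778 : Led Lsl_gt (LP (LK LD1_c1 LD2_c35 LD3_c23)) = v2092 :=
  Lrfl
def v6081 : LQ := Led Lsl_at (LP (LK LD1_c3 LD2_c17 LD3_c18))
theorem f650864 : Led Lsl_at (LP (LK LD1_c3 LD2_c17 LD3_c18)) = v6081 :=
  Lrfl
theorem f118263 : Led Lsl_ct (LP (LK LD1_c1 LD2_c35 LD3_c14)) = (LP (LK LD1_c3 LD2_c17 LD3_c18)) :=
  Lre_c IH (LK LD1_c1 LD2_c35 LD3_c14) (LK LD1_c3 LD2_c17 LD3_c18) Lrfl Lrfl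
def v2084 : LQ := Led Lsl_at (LP (LK LD1_c1 LD2_c35 LD3_c14))
theorem f508743 : Led Lsl_at (LP (LK LD1_c1 LD2_c35 LD3_c14)) = v2084 :=
  Lrfl
theorem f508744 : Led Lsl_af (LP (LK LD1_c1 LD2_c35 LD3_c14)) = v2084 :=
  Lgr Lrot0 (Lpr_at (f508743 IH) (Lpn v2084))
theorem f650866 : Led Lsl_cf v2084 = v6081 :=
  Lgr Lrot1 (Lpe (f508744 IH) (Lpr_ct (f118263 IH) (Lpr_at (f650864 IH) (Lpn v6081))))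
theorem f62023 : Led Lsl_gt (LP (LK LD1_c0 LD2_c44 LD3_c16)) = (LP (LK LD1_c1 LD2_c35 LD3_c14)) :=
  Lre_g IH (LK LD1_c0 LD2_c44 LD3_c16) (LK LD1_c1 LD2_c35 LD3_c14) Lrfl Lrfl
theorem f508745 : Led Lsl_ft (LP (LK LD1_c1 LD2_c35 LD3_c15)) = v2084 :=
  Lgr Lrot2 (Lpr_gt (f62021 IH) (Lpr_gt (f62023 IH) (Lpr_af (f508744 IH) (Lpn v2084))))
theorem f508748 : Led Lsl_ff (LP (LK LD1_c1 LD2_c35 LD3_c15)) = v2084 :=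
  Lgr Lrot3 (Lpr_ft (f508745 IH) (Lpn v2084))
theorem f119404 : Led Lsl_ct (LP (LK LD1_c1 LD2_c35 LD3_c15)) = (LP (LK LD1_c3 LD2_c17 LD3_c20)) :=
  Lre_c IH (LK LD1_c1 LD2_c35 LD3_c15) (LK LD1_c3 LD2_c17 LD3_c20) Lrfl Lrfl
theorem f650868 : Led Lsl_ft (LP (LK LD1_c3 LD2_c17 LD3_c20)) = v6081 :=
  Lgr Lrot4 (Lpe (f119404 IH) (Lpr_ff (f508748 IH) (Lpr_cf (f650866 IH) (Lpn v6081))))
theorem f87360 : Led Lsl_et (LP (LK LD1_c0 LD2_c40 LD3_c19)) = (LP (LK LD1_c1 LD2_c27 LD3_c5)) :=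
  Lre_e IH (LK LD1_c0 LD2_c40 LD3_c19) (LK LD1_c1 LD2_c27 LD3_c5) Lrfl Lrfl
theorem f443625 : Led Lsl_gt (LP (LK LD1_c1 LD2_c27 LD3_c5)) = (LP (LK LD1_c3 LD2_c2 LD3_c10)) :=
  Lre_g IH (LK LD1_c1 LD2_c27 LD3_c5) (LK LD1_c3 LD2_c2 LD3_c10) Lrfl Lrfl
theorem f443628 : Led Lsl_et (LP (LK LD1_c6 LD2_c11 LD3_c8)) = (LP (LK LD1_c3 LD2_c2 LD3_c10)) :=
  Lre_e IH (LK LD1_c6 LD2_c11 LD3_c8) (LK LD1_c3 LD2_c2 LD3_c10) Lrfl Lrfl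
theorem f443629 : Led Lsl_dt (LP (LK LD1_c6 LD2_c11 LD3_c8)) = (LP (LK LD1_c12 LD2_c2 LD3_c38)) :=
  Lre_d IH (LK LD1_c6 LD2_c11 LD3_c8) (LK LD1_c12 LD2_c2 LD3_c38) Lrfl Lrfl
theorem f443630 : Led Lsl_et (LP (LK LD1_c3 LD2_c15 LD3_c8)) = (LP (LK LD1_c1 LD2_c34 LD3_c13)) :=
  Lre_e IH (LK LD1_c3 LD2_c15 LD3_c8) (LK LD1_c1 LD2_c34 LD3_c13) Lrfl Lrfl
theorem f443631 : Led Lsl_dt (LP (LK LD1_c3 LD2_c15 LD3_c8)) = (LP (LK LD1_c6 LD2_c33 LD3_c42)) :=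
  Lre_d IH (LK LD1_c3 LD2_c15 LD3_c8) (LK LD1_c6 LD2_c33 LD3_c42) Lrfl Lrfl
theorem f443632 : Led Lsl_gt (LP (LK LD1_c12 LD2_c2 LD3_c38)) = (LP (LK LD1_c6 LD2_c33 LD3_c42)) :=
  Lgr Lrot112 (Lpe (f443629 IH) (Lpr_et (f443628 IH) (Lpe (f443625 IH) (Lpe (f87360 IH) (Lpr_dt (K3.f63116 IH) (Lpr_gf (K3.f62006 IH) (Lpe (K2.f40584 IH) (Lpe (K1.f40583 IH) (Lpe (f443630 IH) (Lpr_dt (f443631 IH) (Lpn (LP (LK LD1_c6 LD2_c33 LD3_c42)))))))))))))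
theorem f443639 : Led Lsl_gt (LP (LK LD1_c12 LD2_c2 LD3_c37)) = (LP (LK LD1_c6 LD2_c11 LD3_c8)) :=
  Lre_g IH (LK LD1_c12 LD2_c2 LD3_c37) (LK LD1_c6 LD2_c11 LD3_c8) Lrfl Lrfl
theorem f62035 : Led Lsl_dt (LP (LK LD1_c6 LD2_c33 LD3_c42)) = (LP (LK LD1_c3 LD2_c15 LD3_c8)) :=
  Lre_d IH (LK LD1_c6 LD2_c33 LD3_c42) (LK LD1_c3 LD2_c15 LD3_c8) Lrfl Lrfl
theorem f62034 : Led Lsl_ct (LP (LK LD1_c3 LD2_c15 LD3_c8)) = (LP (LK LD1_c1 LD2_c34 LD3_c14)) :=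
  Lre_c IH (LK LD1_c3 LD2_c15 LD3_c8) (LK LD1_c1 LD2_c34 LD3_c14) Lrfl Lrfl
theorem f62031 : Led Lsl_dt (LP (LK LD1_c3 LD2_c15 LD3_c11)) = (LP (LK LD1_c1 LD2_c34 LD3_c14)) :=
  Lre_d IH (LK LD1_c3 LD2_c15 LD3_c11) (LK LD1_c1 LD2_c34 LD3_c14) Lrfl Lrfl
theorem f62033 : Led Lsl_gt (LP (LK LD1_c6 LD2_c11 LD3_c22)) = (LP (LK LD1_c3 LD2_c2 LD3_c17)) :=
  Lre_g IH (LK LD1_c6 LD2_c11 LD3_c22) (LK LD1_c3 LD2_c2 LD3_c17) Lrfl Lrfl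
theorem f443642 : Led Lsl_cf (LP (LK LD1_c12 LD2_c2 LD3_c37)) = (LP (LK LD1_c6 LD2_c11 LD3_c22)) :=
  Lgr Lrot166 (Lpr_gt (f443639 IH) (Lpr_dt (f443629 IH) (Lpr_gt (f443632 IH) (Lpr_dt (f62035 IH) (Lpr_ct (f62034 IH) (Lpe (f62031 IH) (Lpe (K32.f62018 IH) (Lpe (K32.f62015 IH) (Lpe (f62033 IH) (Lpn (LP (LK LD1_c6 LD2_c11 LD3_c22))))))))))))
theorem f61992 : Led Lsl_gt (LP (LK LD1_c1 LD2_c35 LD3_c16)) = (LP (LK LD1_c3 LD2_c17 LD3_c23)) :=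
  Lre_g IH (LK LD1_c1 LD2_c35 LD3_c16) (LK LD1_c3 LD2_c17 LD3_c23) Lrfl Lrfl
theorem f62051 : Led Lsl_dt (LP (LK LD1_c6 LD2_c38 LD3_c6)) = (LP (LK LD1_c3 LD2_c17 LD3_c23)) :=
  Lre_d IH (LK LD1_c6 LD2_c38 LD3_c6) (LK LD1_c3 LD2_c17 LD3_c23) Lrfl Lrfl
theorem f62052 : Led Lsl_ef (LP (LK LD1_c6 LD2_c11 LD3_c22)) = (LP (LK LD1_c6 LD2_c38 LD3_c6)) :=
  Lgr Lrot167 (Lpr_gt (f62033 IH) (Lpr_dt (K32.f62015 IH) (Lpr_gt (K32.f62018 IH) (Lpe (K32.f62017 IH) (Lpr_et (K32.f62016 IH) (Lpr_gt (K3.f13806 IH) (Lpe (K1.f61986 IH) (Lpr_dt (f62050 IH) (Lpr_gt (f61992 IH) (Lpe (f62051 IH) (Lpn (LP (LK LD1_c6 LD2_c38 LD3_c6)))))))))))))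
theorem f62056 : Led Lsl_ct (LP (LK LD1_c12 LD2_c41 LD3_c59)) = (LP (LK LD1_c6 LD2_c38 LD3_c6)) :=
  Lre_c IH (LK LD1_c12 LD2_c41 LD3_c59) (LK LD1_c6 LD2_c38 LD3_c6) Lrfl Lrfl
theorem f443654 : Led Lsl_et (LP (LK LD1_c12 LD2_c2 LD3_c37)) = (LP (LK LD1_c12 LD2_c41 LD3_c59)) :=
  Lgr Lrot158 (Lpr_cf (f443642 IH) (Lpr_ef (f62052 IH) (Lpe (f62056 IH) (Lpn (LP (LK LD1_c12 LD2_c41 LD3_c59))))))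
theorem f443658 : Led Lsl_ef (LP (LK LD1_c12 LD2_c2 LD3_c37)) = (LP (LK LD1_c12 LD2_c41 LD3_c59)) :=
  Lgr Lrot88 (Lpr_et (f443654 IH) (Lpn (LP (LK LD1_c12 LD2_c41 LD3_c59))))
theorem f65260 : Led Lsl_dt (LP (LK LD1_c1 LD2_c35 LD3_c23)) = (LP (LK LD1_c3 LD2_c17 LD3_c39)) :=
  Lre_d IH (LK LD1_c1 LD2_c35 LD3_c23) (LK LD1_c3 LD2_c17 LD3_c39) Lrfl Lrfl
theorem f443649 : Led Lsl_gt (LP (LK LD1_c3 LD2_c17 LD3_c39)) = (LP (LK LD1_c6 LD2_c38 LD3_c47)) :=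
  Lre_g IH (LK LD1_c3 LD2_c17 LD3_c39) (LK LD1_c6 LD2_c38 LD3_c47) Lrfl Lrfl
theorem f443660 : Led Lsl_df (LP (LK LD1_c6 LD2_c38 LD3_c47)) = (LP (LK LD1_c12 LD2_c41 LD3_c59)) :=
  Lgr Lrot168 (Lpe (f443649 IH) (Lpe (f65260 IH) (Lpr_et (K4.f64600 IH) (Lpe (K1.f40583 IH) (Lpe (f443630 IH) (Lpr_dt (f443631 IH) (Lpe (f443632 IH) (Lpe (f443629 IH) (Lpe (f443639 IH) (Lpr_ef (f443658 IH) (Lpn (LP (LK LD1_c12 LD2_c41 LD3_c59)))))))))))))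
theorem f443665 : Led Lsl_dt (LP (LK LD1_c6 LD2_c38 LD3_c47)) = (LP (LK LD1_c12 LD2_c41 LD3_c59)) :=
  Lgr Lrot42 (Lpr_df (f443660 IH) (Lpn (LP (LK LD1_c12 LD2_c41 LD3_c59))))
theorem f62060 : Led Lsl_ct (LP (LK LD1_c6 LD2_c38 LD3_c6)) = (LP (LK LD1_c12 LD2_c41 LD3_c59)) :=
  Lre_c IH (LK LD1_c6 LD2_c38 LD3_c6) (LK LD1_c12 LD2_c41 LD3_c59) Lrfl Lrfl
theorem f61993 : Led Lsl_dt (LP (LK LD1_c3 LD2_c17 LD3_c23)) = (LP (LK LD1_c6 LD2_c38 LD3_c6)) :=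
  Lre_d IH (LK LD1_c3 LD2_c17 LD3_c23) (LK LD1_c6 LD2_c38 LD3_c6) Lrfl Lrfl
theorem f119410 : Led Lsl_ct (LP (LK LD1_c3 LD2_c17 LD3_c20)) = (LP (LK LD1_c1 LD2_c35 LD3_c15)) :=
  Lre_c IH (LK LD1_c3 LD2_c17 LD3_c20) (LK LD1_c1 LD2_c35 LD3_c15) Lrfl Lrfl
theorem f443671 : Led Lsl_gf (LP (LK LD1_c1 LD2_c35 LD3_c23)) = (LP (LK LD1_c3 LD2_c17 LD3_c20)) :=
  Lgr Lrot144 (Lpr_dt (f65260 IH) (Lpr_gt (f443649 IH) (Lpr_dt (f443665 IH) (Lpe (f62060 IH) (Lpe (f61993 IH) (Lpe (f61992 IH) (Lpe (f62050 IH) (Lpe (f62021 IH) (Lpe (f119410 IH) (Lpn (LP (LK LD1_c3 LD2_c17 LD3_c20))))))))))))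
theorem f650865 : Led Lsl_af (LP (LK LD1_c3 LD2_c17 LD3_c18)) = v6081 :=
  Lgr Lrot0 (Lpr_at (f650864 IH) (Lpn v6081))
theorem f650870 : v2092 = (LP (LK LD1_c3 LD2_c17 LD3_c18)) :=
  (Llr Lrot46 (Lpe (f508778 IH) (Lpr_gf (f443671 IH) (Lpr_ft (f650868 IH) (Lpe (f650865 IH) (Lpn (LP (LK LD1_c3 LD2_c17 LD3_c18)))))))).symm
theorem f650873 : Led Lsl_gt (LP (LK LD1_c1 LD2_c35 LD3_c23)) = (LP (LK LD1_c3 LD2_c17 LD3_c18)) :=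
  Leop (Lpq (f650870 IH) (Lpe (f508778 IH) (Lpn (LP (LK LD1_c1 LD2_c35 LD3_c23)))))
theorem seed_342 : LEOK LG_g (LK LD1_c1 LD2_c35 LD3_c23) :=
  Leoe_g (LK LD1_c1 LD2_c35 LD3_c23) (f650873 IH)
def v6083 : LQ := Led Lsl_et (LP (LK LD1_c3 LD2_c17 LD3_c18))
theorem f650899 : Led Lsl_et (LP (LK LD1_c3 LD2_c17 LD3_c18)) = v6083 :=
  Lrfl
theorem f650901 : Led Lsl_ef (LP (LK LD1_c3 LD2_c17 LD3_c18)) = v6083 :=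
  Lgr Lrot88 (Lpr_et (f650899 IH) (Lpn v6083))
def v6080 : LQ := Led Lsl_gf (LP (LK LD1_c3 LD2_c17 LD3_c18))
theorem f650860 : Led Lsl_gf (LP (LK LD1_c3 LD2_c17 LD3_c18)) = v6080 :=
  Lrfl
theorem f650872 : (LP (LK LD1_c1 LD2_c35 LD3_c23)) = v6080 :=
  Lefun (Lecon (Lfl_gt (f508778 IH)) (f650870 IH)) (f650860 IH)
theorem f64282 : Led Lsl_et (LP (LK LD1_c0 LD2_c44 LD3_c18)) = (LP (LK LD1_c1 LD2_c35 LD3_c23)) :=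
  Lre_e IH (LK LD1_c0 LD2_c44 LD3_c18) (LK LD1_c1 LD2_c35 LD3_c23) Lrfl Lrfl
theorem f64279 : Led Lsl_et (LP (LK LD1_c3 LD2_c1 LD3_c61)) = (LP (LK LD1_c1 LD2_c27 LD3_c1)) :=
  Lre_e IH (LK LD1_c3 LD2_c1 LD3_c61) (LK LD1_c1 LD2_c27 LD3_c1) Lrfl Lrfl
theorem f64280 : Led Lsl_dt (LP (LK LD1_c3 LD2_c1 LD3_c61)) = (LP (LK LD1_c6 LD2_c10 LD3_c46)) :=
  Lre_d IH (LK LD1_c3 LD2_c1 LD3_c61) (LK LD1_c6 LD2_c10 LD3_c46) Lrfl Lrfl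
theorem f64281 : Led Lsl_gt (LP (LK LD1_c12 LD2_c2 LD3_c0)) = (LP (LK LD1_c6 LD2_c10 LD3_c46)) :=
  Lre_g IH (LK LD1_c12 LD2_c2 LD3_c0) (LK LD1_c6 LD2_c10 LD3_c46) Lrfl Lrfl
theorem f650903 : Led Lsl_df (LP (LK LD1_c12 LD2_c2 LD3_c0)) = v6083 :=
  Lgr Lrot170 (Lpr_gt (f64281 IH) (Lpe (f64280 IH) (Lpr_et (f64279 IH) (Lpr_gt (K3.f58400 IH) (Lpr_dt (K1.f63114 IH) (Lpr_gt (K1.f64259 IH) (Lpe (K2.f40584 IH) (Lpr_et (f64282 IH) (Lpqs (f650872 IH) (Lpe (f650860 IH) (Lpr_ef (f650901 IH) (Lpn v6083))))))))))))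
theorem f650905 : Led Lsl_et (LP (LK LD1_c12 LD2_c2 LD3_c0)) = (LP (LK LD1_c21 LD2_c7 LD3_c24)) :=
  Lre_e IH (LK LD1_c12 LD2_c2 LD3_c0) (LK LD1_c21 LD2_c7 LD3_c24) Lrfl Lrfl
theorem f508746 : Led Lsl_dt (LP (LK LD1_c6 LD2_c37 LD3_c59)) = (LP (LK LD1_c3 LD2_c17 LD3_c18)) :=
  Lre_d IH (LK LD1_c6 LD2_c37 LD3_c59) (LK LD1_c3 LD2_c17 LD3_c18) Lrfl Lrfl
theorem f650895 : Led Lsl_et (LP (LK LD1_c12 LD2_c41 LD3_c50)) = (LP (LK LD1_c6 LD2_c37 LD3_c59)) :=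
  Lre_e IH (LK LD1_c12 LD2_c41 LD3_c50) (LK LD1_c6 LD2_c37 LD3_c59) Lrfl Lrfl
theorem f650906 : Led Lsl_dt (LP (LK LD1_c21 LD2_c7 LD3_c24)) = (LP (LK LD1_c12 LD2_c41 LD3_c50)) :=
  Lgr Lrot77 (Lpe (f650905 IH) (Lpr_df (f650903 IH) (Lpe (f650899 IH) (Lpe (f508746 IH) (Lpe (f650895 IH) (Lpn (LP (LK LD1_c12 LD2_c41 LD3_c50))))))))
theorem f650907 : Led Lsl_dt (LP (LK LD1_c21 LD2_c7 LD3_c24)) = (LP (LK LD1_c12 LD2_c41 LD3_c50)) :=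
  Leop (Lpe (f650906 IH) (Lpn (LP (LK LD1_c21 LD2_c7 LD3_c24))))
theorem seed_343 : LEOK LG_d (LK LD1_c21 LD2_c7 LD3_c24) :=
  Leoe_d (LK LD1_c21 LD2_c7 LD3_c24) (f650907 IH)
def v6085 : LQ := Led Lsl_at (LP (LK LD1_c3 LD2_c17 LD3_c19))
theorem f650922 : Led Lsl_at (LP (LK LD1_c3 LD2_c17 LD3_c19)) = v6085 :=
  Lrfl
theorem f62024 : Led Lsl_dt (LP (LK LD1_c1 LD2_c35 LD3_c14)) = (LP (LK LD1_c3 LD2_c17 LD3_c19)) :=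
  Lre_d IH (LK LD1_c1 LD2_c35 LD3_c14) (LK LD1_c3 LD2_c17 LD3_c19) Lrfl Lrfl
theorem f650924 : Led Lsl_df v2084 = v6085 :=
  Lgr Lrot18 (Lpe (f508744 IH) (Lpr_dt (f62024 IH) (Lpr_at (f650922 IH) (Lpn v6085))))
theorem f119400 : Led Lsl_dt (LP (LK LD1_c1 LD2_c35 LD3_c15)) = (LP (LK LD1_c3 LD2_c17 LD3_c21)) :=
  Lre_d IH (LK LD1_c1 LD2_c35 LD3_c15) (LK LD1_c3 LD2_c17 LD3_c21) Lrfl Lrfl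
theorem f650926 : Led Lsl_ft (LP (LK LD1_c3 LD2_c17 LD3_c21)) = v6085 :=
  Lgr Lrot54 (Lpe (f119400 IH) (Lpr_ff (f508748 IH) (Lpr_df (f650924 IH) (Lpn v6085))))
theorem f650923 : Led Lsl_af (LP (LK LD1_c3 LD2_c17 LD3_c19)) = v6085 :=
  Lgr Lrot0 (Lpr_at (f650922 IH) (Lpn v6085))
theorem f118264 : Led Lsl_gt (LP (LK LD1_c6 LD2_c37 LD3_c61)) = (LP (LK LD1_c3 LD2_c17 LD3_c19)) :=
  Lre_g IH (LK LD1_c6 LD2_c37 LD3_c61) (LK LD1_c3 LD2_c17 LD3_c19) Lrfl Lrfl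
theorem f650928 : Led Lsl_gt (LP (LK LD1_c3 LD2_c17 LD3_c21)) = (LP (LK LD1_c6 LD2_c37 LD3_c61)) :=
  Lgr Lrot5 (Lpr_ft (f650926 IH) (Lpe (f650923 IH) (Lpe (f118264 IH) (Lpn (LP (LK LD1_c6 LD2_c37 LD3_c61))))))
theorem f650929 : Led Lsl_gt (LP (LK LD1_c3 LD2_c17 LD3_c21)) = (LP (LK LD1_c6 LD2_c37 LD3_c61)) :=
  Leop (Lpe (f650928 IH) (Lpn (LP (LK LD1_c3 LD2_c17 LD3_c21))))
theorem seed_344 : LEOK LG_g (LK LD1_c3 LD2_c17 LD3_c21) :=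
  Leoe_g (LK LD1_c3 LD2_c17 LD3_c21) (f650929 IH)
def v6088 : LQ := Led Lsl_ft (LP (LK LD1_c3 LD2_c17 LD3_c19))
theorem f650940 : Led Lsl_ft (LP (LK LD1_c3 LD2_c17 LD3_c19)) = v6088 :=
  Lrfl
theorem f62025 : Led Lsl_gt (LP (LK LD1_c3 LD2_c17 LD3_c19)) = (LP (LK LD1_c6 LD2_c37 LD3_c60)) :=
  Lre_g IH (LK LD1_c3 LD2_c17 LD3_c19) (LK LD1_c6 LD2_c37 LD3_c60) Lrfl Lrfl
theorem f650941 : Led Lsl_af (LP (LK LD1_c3 LD2_c17 LD3_c21)) = v6088 :=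
  Lgr Lrot45 (Lpr_ft (f650926 IH) (Lpe (f650923 IH) (Lpr_ft (f650940 IH) (Lpn v6088))))
theorem f650944 : Led Lsl_gt (LP (LK LD1_c6 LD2_c37 LD3_c60)) = (LP (LK LD1_c3 LD2_c17 LD3_c21)) :=
  Lgr Lrot46 (Lpe (f62025 IH) (Lpr_ft (f650940 IH) (Lpe (f650941 IH) (Lpn (LP (LK LD1_c3 LD2_c17 LD3_c21))))))
theorem f650945 : Led Lsl_gt (LP (LK LD1_c6 LD2_c37 LD3_c60)) = (LP (LK LD1_c3 LD2_c17 LD3_c21)) :=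
  Leop (Lpe (f650944 IH) (Lpn (LP (LK LD1_c6 LD2_c37 LD3_c60))))
theorem seed_345 : LEOK LG_g (LK LD1_c6 LD2_c37 LD3_c60) :=
  Leoe_g (LK LD1_c6 LD2_c37 LD3_c60) (f650945 IH)
def v6095 : LQ := Led Lsl_at (LP (LK LD1_c3 LD2_c17 LD3_c23))
theorem f650985 : Led Lsl_at (LP (LK LD1_c3 LD2_c17 LD3_c23)) = v6095 :=
  Lrfl
theorem f650986 : Led Lsl_af (LP (LK LD1_c3 LD2_c17 LD3_c23)) = v6095 :=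
  Lgr Lrot0 (Lpr_at (f650985 IH) (Lpn v6095))
theorem f61991 : Led Lsl_gt (LP (LK LD1_c3 LD2_c17 LD3_c24)) = (LP (LK LD1_c1 LD2_c35 LD3_c16)) :=
  Lre_g IH (LK LD1_c3 LD2_c17 LD3_c24) (LK LD1_c1 LD2_c35 LD3_c16) Lrfl Lrfl
theorem f650987 : Led Lsl_ft (LP (LK LD1_c3 LD2_c17 LD3_c24)) = v6095 :=
  Lgr Lrot2 (Lpr_gt (f61991 IH) (Lpr_gt (f61992 IH) (Lpr_af (f650986 IH) (Lpn v6095))))
theorem f650989 : Led Lsl_ff (LP (LK LD1_c3 LD2_c17 LD3_c24)) = v6095 :=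
  Lgr Lrot3 (Lpr_ft (f650987 IH) (Lpn v6095))
theorem f119503 : Led Lsl_dt (LP (LK LD1_c3 LD2_c17 LD3_c24)) = (LP (LK LD1_c3 LD2_c15 LD3_c44)) :=
  Lre_d IH (LK LD1_c3 LD2_c17 LD3_c24) (LK LD1_c3 LD2_c15 LD3_c44) Lrfl Lrfl
theorem f508638 : Led Lsl_ft (LP (LK LD1_c3 LD2_c15 LD3_c44)) = (LP (LK LD1_c6 LD2_c34 LD3_c48)) :=
  Lre_f IH (LK LD1_c3 LD2_c15 LD3_c44) (LK LD1_c6 LD2_c34 LD3_c48) Lrfl Lrfl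
theorem f650990 : Led Lsl_dt (LP (LK LD1_c6 LD2_c34 LD3_c48)) = v6095 :=
  Lgr Lrot60 (Lpe (f508638 IH) (Lpe (f119503 IH) (Lpr_ff (f650989 IH) (Lpn v6095))))
theorem f650992 : Led Lsl_af (LP (LK LD1_c6 LD2_c34 LD3_c48)) = (LP (LK LD1_c6 LD2_c38 LD3_c6)) :=
  Lgr Lrot117 (Lpr_dt (f650990 IH) (Lpe (f650986 IH) (Lpr_dt (f61993 IH) (Lpn (LP (LK LD1_c6 LD2_c38 LD3_c6))))))
theorem f650993 : Led Lsl_at (LP (LK LD1_c6 LD2_c38 LD3_c6)) = (LP (LK LD1_c6 LD2_c34 LD3_c48)) :=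
  Leop (Lpr_af (f650992 IH) (Lpn (LP (LK LD1_c6 LD2_c38 LD3_c6))))
theorem seed_346 : LEOK LG_a (LK LD1_c6 LD2_c38 LD3_c6) :=
  Leoe_a (LK LD1_c6 LD2_c38 LD3_c6) (f650993 IH)
def v6103 : LQ := Led Lsl_gt (LP (LK LD1_c3 LD2_c17 LD3_c47))
theorem f651071 : Led Lsl_gt (LP (LK LD1_c3 LD2_c17 LD3_c47)) = v6103 :=
  Lrfl
theorem f57045 : Led Lsl_ft (LP (LK LD1_c3 LD2_c17 LD3_c47)) = (LP (LK LD1_c6 LD2_c39 LD3_c5)) :=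
  Lre_f IH (LK LD1_c3 LD2_c17 LD3_c47) (LK LD1_c6 LD2_c39 LD3_c5) Lrfl Lrfl
theorem f498216 : Led Lsl_af (LP (LK LD1_c9 LD2_c11 LD3_c46)) = (LP (LK LD1_c6 LD2_c39 LD3_c5)) :=
  Lgr Lrot0 (Lpr_at (K32.f498213 IH) (Lpn (LP (LK LD1_c6 LD2_c39 LD3_c5))))
theorem f651072 : Led Lsl_gf (LP (LK LD1_c9 LD2_c11 LD3_c46)) = v6103 :=
  Lgr Lrot76 (Lpr_af (f498216 IH) (Lpe (f57045 IH) (Lpr_gt (f651071 IH) (Lpn v6103))))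
theorem f498201 : Led Lsl_ct (LP (LK LD1_c9 LD2_c11 LD3_c46)) = (LP (LK LD1_c17 LD2_c5 LD3_c24)) :=
  Lre_c IH (LK LD1_c9 LD2_c11 LD3_c46) (LK LD1_c17 LD2_c5 LD3_c24) Lrfl Lrfl
theorem f498202 : Led Lsl_dt (LP (LK LD1_c17 LD2_c5 LD3_c24)) = (LP (LK LD1_c26 LD2_c59 LD3_c5)) :=
  Lre_d IH (LK LD1_c17 LD2_c5 LD3_c24) (LK LD1_c26 LD2_c59 LD3_c5) Lrfl Lrfl
theorem f498205 : Led Lsl_dt (LP (LK LD1_c9 LD2_c11 LD3_c46)) = (LP (LK LD1_c17 LD2_c5 LD3_c32)) :=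
  Lre_d IH (LK LD1_c9 LD2_c11 LD3_c46) (LK LD1_c17 LD2_c5 LD3_c32) Lrfl Lrfl
theorem f498198 : Led Lsl_gt (LP (LK LD1_c17 LD2_c5 LD3_c32)) = (LP (LK LD1_c12 LD2_c43 LD3_c48)) :=
  Lgr Lrot5 (Lpr_ft (K32.f498195 IH) (Lpr_at (K32.f498184 IH) (Lpe (K45.f57008 IH) (Lpn (LP (LK LD1_c12 LD2_c43 LD3_c48))))))
theorem f498204 : Led Lsl_dt (LP (LK LD1_c12 LD2_c43 LD3_c48)) = (LP (LK LD1_c21 LD2_c50 LD3_c57)) :=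
  Lre_d IH (LK LD1_c12 LD2_c43 LD3_c48) (LK LD1_c21 LD2_c50 LD3_c57) Lrfl Lrfl
theorem f642434 : Led Lsl_ef (LP (LK LD1_c21 LD2_c50 LD3_c57)) = (LP (LK LD1_c17 LD2_c2 LD3_c10)) :=
  Lgr Lrot88 (Lpr_et (K45.f642428 IH) (Lpn (LP (LK LD1_c17 LD2_c2 LD3_c10))))
theorem f507570 : Led Lsl_ct (LP (LK LD1_c9 LD2_c9 LD3_c6)) = (LP (LK LD1_c17 LD2_c2 LD3_c10)) :=
  Lre_c IH (LK LD1_c9 LD2_c9 LD3_c6) (LK LD1_c17 LD2_c2 LD3_c10) Lrfl Lrfl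
theorem f642438 : Led Lsl_ct (LP (LK LD1_c21 LD2_c50 LD3_c57)) = (LP (LK LD1_c12 LD2_c53 LD3_c52)) :=
  Lgr Lrot15 (Lpr_ef (f642434 IH) (Lpe (f507570 IH) (Lpe (f642393 IH) (Lpn (LP (LK LD1_c12 LD2_c53 LD3_c52))))))
theorem f80184 : Led Lsl_ct (LP (LK LD1_c9 LD2_c11 LD3_c26)) = (LP (LK LD1_c4 LD2_c37 LD3_c53)) :=
  Lre_c IH (LK LD1_c9 LD2_c11 LD3_c26) (LK LD1_c4 LD2_c37 LD3_c53) Lrfl Lrfl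
theorem f207174 : Led Lsl_at (LP (LK LD1_c4 LD2_c37 LD3_c53)) = (LP (LK LD1_c3 LD2_c20 LD3_c28)) :=
  Lgr Lrot107 (Lpe (f80184 IH) (Lpr_af (K35.f207168 IH) (Lpe (f207110 IH) (Lpn (LP (LK LD1_c3 LD2_c20 LD3_c28))))))
theorem f80188 : Led Lsl_ft (LP (LK LD1_c9 LD2_c11 LD3_c27)) = (LP (LK LD1_c4 LD2_c37 LD3_c53)) :=
  Lre_f IH (LK LD1_c9 LD2_c11 LD3_c27) (LK LD1_c4 LD2_c37 LD3_c53) Lrfl Lrfl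
theorem f207240 : Led Lsl_gt (LP (LK LD1_c9 LD2_c11 LD3_c27)) = (LP (LK LD1_c6 LD2_c44 LD3_c42)) :=
  Lgr Lrot5 (Lpr_ft (f80188 IH) (Lpr_at (f207174 IH) (Lpe (f207239 IH) (Lpn (LP (LK LD1_c6 LD2_c44 LD3_c42))))))
def v2151 : LQ := Led Lsl_gt (LP (LK LD1_c1 LD2_c36 LD3_c36))
theorem f509247 : Led Lsl_gt (LP (LK LD1_c1 LD2_c36 LD3_c36)) = v2151 :=
  Lrfl
theorem f509248 : Led Lsl_gf (LP (LK LD1_c4 LD2_c37 LD3_c54)) = v2151 :=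
  Lgr Lrot76 (Lpr_af (K35.f207126 IH) (Lpe (K35.f207125 IH) (Lpr_gt (f509247 IH) (Lpn v2151))))
theorem f651073 : Led Lsl_ct v2151 = v6103 :=
  Lgr Lrot8 (Lpe (f509248 IH) (Lpr_dt (K35.f207099 IH) (Lpr_gt (f207240 IH) (Lpr_dt (f207242 IH) (Lpe (f642438 IH) (Lpe (f498204 IH) (Lpe (f498198 IH) (Lpe (f498205 IH) (Lpr_gf (f651072 IH) (Lpn v6103))))))))))
theorem f116897 : Led Lsl_dt (LP (LK LD1_c3 LD2_c20 LD3_c28)) = (LP (LK LD1_c1 LD2_c36 LD3_c36)) :=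
  Lre_d IH (LK LD1_c3 LD2_c20 LD3_c28) (LK LD1_c1 LD2_c36 LD3_c36) Lrfl Lrfl
theorem f210144 : Led Lsl_ct (LP (LK LD1_c6 LD2_c2 LD3_c8)) = (LP (LK LD1_c11 LD2_c48 LD3_c46)) :=
  Lre_c IH (LK LD1_c6 LD2_c2 LD3_c8) (LK LD1_c11 LD2_c48 LD3_c46) Lrfl Lrfl
theorem f644689 : Led Lsl_gt (LP (LK LD1_c11 LD2_c48 LD3_c46)) = (LP (LK LD1_c20 LD2_c51 LD3_c15)) :=
  Lre_g IH (LK LD1_c11 LD2_c48 LD3_c46) (LK LD1_c20 LD2_c51 LD3_c15) Lrfl Lrfl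
theorem f651075 : Led Lsl_cf (LP (LK LD1_c26 LD2_c59 LD3_c5)) = (LP (LK LD1_c20 LD2_c51 LD3_c15)) :=
  Lgr Lrot99 (Lpe (f498202 IH) (Lpe (f498201 IH) (Lpr_gf (f651072 IH) (Lpe (f651073 IH) (Lpe (f509247 IH) (Lpe (f116897 IH) (Lpe (f644685 IH) (Lpr_ct (f210144 IH) (Lpr_gt (f644689 IH) (Lpn (LP (LK LD1_c20 LD2_c51 LD3_c15))))))))))))
theorem f651076 : Led Lsl_ct (LP (LK LD1_c20 LD2_c51 LD3_c15)) = (LP (LK LD1_c26 LD2_c59 LD3_c5)) :=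
  Leop (Lpr_cf (f651075 IH) (Lpn (LP (LK LD1_c20 LD2_c51 LD3_c15))))
theorem seed_347 : LEOK LG_c (LK LD1_c20 LD2_c51 LD3_c15) :=
  Leoe_c (LK LD1_c20 LD2_c51 LD3_c15) (f651076 IH)
def v6113 : LQ := Led Lsl_gt (LP (LK LD1_c3 LD2_c18 LD3_c7))
theorem f651172 : Led Lsl_gt (LP (LK LD1_c3 LD2_c18 LD3_c7)) = v6113 :=
  Lrfl
theorem f624415 : Led Lsl_ct (LP (LK LD1_c6 LD2_c10 LD3_c15)) = (LP (LK LD1_c3 LD2_c1 LD3_c47)) :=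
  Lre_c IH (LK LD1_c6 LD2_c10 LD3_c15) (LK LD1_c3 LD2_c1 LD3_c47) Lrfl Lrfl
theorem f495081 : Led Lsl_ct (LP (LK LD1_c3 LD2_c16 LD3_c22)) = (LP (LK LD1_c1 LD2_c34 LD3_c57)) :=
  Lre_c IH (LK LD1_c3 LD2_c16 LD3_c22) (LK LD1_c1 LD2_c34 LD3_c57) Lrfl Lrfl
theorem f495074 : Led Lsl_gt (LP (LK LD1_c1 LD2_c35 LD3_c34)) = (LP (LK LD1_c3 LD2_c16 LD3_c22)) :=
  Lre_g IH (LK LD1_c1 LD2_c35 LD3_c34) (LK LD1_c3 LD2_c16 LD3_c22) Lrfl Lrfl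
theorem f140079 : Led Lsl_ct (LP (LK LD1_c3 LD2_c18 LD3_c7)) = (LP (LK LD1_c1 LD2_c35 LD3_c34)) :=
  Lre_c IH (LK LD1_c3 LD2_c18 LD3_c7) (LK LD1_c1 LD2_c35 LD3_c34) Lrfl Lrfl
def v2613 : LQ := Led Lsl_gt (LP (LK LD1_c1 LD2_c49 LD3_c43))
theorem f527786 : Led Lsl_gt (LP (LK LD1_c1 LD2_c49 LD3_c43)) = v2613 :=
  Lrfl
theorem f649461 : (LP (LK LD1_c3 LD2_c18 LD3_c7)) = v2613 :=
  (Llr Lrot169 (Lpr_ct (f140079 IH) (Lpr_gt (f495074 IH) (Lpr_ct (f495081 IH) (Lpe (K5.f62082 IH) (Lpe (f624415 IH) (Lpe (f443695 IH) (Lpe (f504414 IH) (Lpqs (f649454 IH) (Lpe (f649353 IH) (Lpe (K5.f105630 IH) (Lpr_gt (f527786 IH) (Lpn v2613))))))))))))).symm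
theorem f651173 : Led Lsl_at K34.v2615 = v6113 :=
  Lgr Lrot26 (Lpe (K34.f527788 IH) (Lpr_gt (f527786 IH) (Lpq (f649461 IH) (Lpr_gt (f651172 IH) (Lpn v6113)))))
theorem f651178 : Led Lsl_ff (LP (LK LD1_c3 LD2_c38 LD3_c11)) = v6113 :=
  Lgr Lrot30 (Lpe (K5.f130889 IH) (Lpr_ft (K34.f527788 IH) (Lpr_at (f651173 IH) (Lpn v6113))))
theorem f651183 : Led Lsl_ft (LP (LK LD1_c3 LD2_c38 LD3_c11)) = v6113 :=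
  Lgr Lrot48 (Lpr_ff (f651178 IH) (Lpn v6113))
theorem f651174 : Led Lsl_af K34.v2615 = v6113 :=
  Lgr Lrot0 (Lpr_at (f651173 IH) (Lpn v6113))
theorem f651186 : Led Lsl_gt (LP (LK LD1_c3 LD2_c23 LD3_c47)) = K34.v2615 :=
  Lgr Lrot46 (Lpe (f634281 IH) (Lpr_ft (f651183 IH) (Lpe (f651174 IH) (Lpn K34.v2615))))
theorem f414284 : Led Lsl_cf (LP (LK LD1_c3 LD2_c23 LD3_c47)) = (LP (LK LD1_c3 LD2_c16 LD3_c19)) :=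
  Lgr Lrot11 (Lpr_ct (f414281 IH) (Lpn (LP (LK LD1_c3 LD2_c16 LD3_c19))))
theorem f63856 : Led Lsl_gt (LP (LK LD1_c1 LD2_c34 LD3_c54)) = (LP (LK LD1_c3 LD2_c16 LD3_c19)) :=
  Lre_g IH (LK LD1_c1 LD2_c34 LD3_c54) (LK LD1_c3 LD2_c16 LD3_c19) Lrfl Lrfl
theorem f113030 : Led Lsl_dt (LP (LK LD1_c1 LD2_c34 LD3_c54)) = (LP (LK LD1_c3 LD2_c16 LD3_c21)) :=
  Lre_d IH (LK LD1_c1 LD2_c34 LD3_c54) (LK LD1_c3 LD2_c16 LD3_c21) Lrfl Lrfl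
theorem f414293 : Led Lsl_gt (LP (LK LD1_c3 LD2_c16 LD3_c21)) = (LP (LK LD1_c6 LD2_c36 LD3_c5)) :=
  Lre_g IH (LK LD1_c3 LD2_c16 LD3_c21) (LK LD1_c6 LD2_c36 LD3_c5) Lrfl Lrfl
theorem f414294 : Led Lsl_ct (LP (LK LD1_c6 LD2_c36 LD3_c5)) = (LP (LK LD1_c12 LD2_c38 LD3_c18)) :=
  Lre_c IH (LK LD1_c6 LD2_c36 LD3_c5) (LK LD1_c12 LD2_c38 LD3_c18) Lrfl Lrfl
theorem f508893 : Led Lsl_dt (LP (LK LD1_c6 LD2_c40 LD3_c46)) = (LP (LK LD1_c3 LD2_c18 LD3_c23)) :=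
  Lre_d IH (LK LD1_c6 LD2_c40 LD3_c46) (LK LD1_c3 LD2_c18 LD3_c23) Lrfl Lrfl
theorem f508910 : Led Lsl_ct (LP (LK LD1_c12 LD2_c47 LD3_c3)) = (LP (LK LD1_c6 LD2_c40 LD3_c46)) :=
  Lre_c IH (LK LD1_c12 LD2_c47 LD3_c3) (LK LD1_c6 LD2_c40 LD3_c46) Lrfl Lrfl
theorem f651187 : Led Lsl_gt (LP (LK LD1_c12 LD2_c38 LD3_c18)) = (LP (LK LD1_c12 LD2_c47 LD3_c3)) :=
  Lgr Lrot150 (Lpe (f414294 IH) (Lpe (f414293 IH) (Lpe (f113030 IH) (Lpr_gt (f63856 IH) (Lpe (f414284 IH) (Lpr_gt (f651186 IH) (Lpe (K34.f527789 IH) (Lpe (f508893 IH) (Lpe (f508910 IH) (Lpn (LP (LK LD1_c12 LD2_c47 LD3_c3))))))))))))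
theorem f651188 : Led Lsl_gt (LP (LK LD1_c12 LD2_c38 LD3_c18)) = (LP (LK LD1_c12 LD2_c47 LD3_c3)) :=
  Leop (Lpe (f651187 IH) (Lpn (LP (LK LD1_c12 LD2_c38 LD3_c18))))
theorem seed_348 : LEOK LG_g (LK LD1_c12 LD2_c38 LD3_c18) :=
  Leoe_g (LK LD1_c12 LD2_c38 LD3_c18) (f651188 IH)
theorem f414295 : Led Lsl_bt (LP (LK LD1_c3 LD2_c16 LD3_c17)) = (LP (LK LD1_c1 LD2_c34 LD3_c54)) :=
  Lre_b IH (LK LD1_c3 LD2_c16 LD3_c17) (LK LD1_c1 LD2_c34 LD3_c54) Lrfl Lrfl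
theorem f414296 : Led Lsl_ct (LP (LK LD1_c3 LD2_c16 LD3_c17)) = (LP (LK LD1_c4 LD2_c45 LD3_c20)) :=
  Lre_c IH (LK LD1_c3 LD2_c16 LD3_c17) (LK LD1_c4 LD2_c45 LD3_c20) Lrfl Lrfl
theorem f414297 : Led Lsl_gt (LP (LK LD1_c9 LD2_c23 LD3_c25)) = (LP (LK LD1_c4 LD2_c45 LD3_c20)) :=
  Lre_g IH (LK LD1_c9 LD2_c23 LD3_c25) (LK LD1_c4 LD2_c45 LD3_c20) Lrfl Lrfl
theorem f414298 : Led Lsl_ct (LP (LK LD1_c17 LD2_c20 LD3_c3)) = (LP (LK LD1_c9 LD2_c23 LD3_c25)) :=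
  Lre_c IH (LK LD1_c17 LD2_c20 LD3_c3) (LK LD1_c9 LD2_c23 LD3_c25) Lrfl Lrfl
theorem f527790 : Led Lsl_ff (LP (LK LD1_c1 LD2_c49 LD3_c43)) = K34.v2615 :=
  Lgr Lrot3 (Lpr_ft (K34.f527788 IH) (Lpn K34.v2615))
theorem f508927 : Led Lsl_ff (LP (LK LD1_c3 LD2_c18 LD3_c23)) = (LP (LK LD1_c3 LD2_c45 LD3_c11)) :=
  Lgr Lrot3 (Lpr_ft (K34.f508891 IH) (Lpn (LP (LK LD1_c3 LD2_c45 LD3_c11))))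
theorem f527791 : Led Lsl_ct (LP (LK LD1_c3 LD2_c18 LD3_c23)) = K34.v2615 :=
  Lgr Lrot40 (Lpr_ff (f508927 IH) (Lpe (K5.f124467 IH) (Lpr_ff (f527790 IH) (Lpn K34.v2615))))
theorem f508930 : Led Lsl_bt (LP (LK LD1_c3 LD2_c18 LD3_c23)) = (LP (LK LD1_c6 LD2_c40 LD3_c45)) :=
  Lre_b IH (LK LD1_c3 LD2_c18 LD3_c23) (LK LD1_c6 LD2_c40 LD3_c45) Lrfl Lrfl
theorem f508961 : Led Lsl_gt (LP (LK LD1_c6 LD2_c40 LD3_c45)) = (LP (LK LD1_c12 LD2_c46 LD3_c61)) :=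
  Lre_g IH (LK LD1_c6 LD2_c40 LD3_c45) (LK LD1_c12 LD2_c46 LD3_c61) Lrfl Lrfl
theorem f651189 : Led Lsl_bt (LP (LK LD1_c17 LD2_c20 LD3_c3)) = (LP (LK LD1_c12 LD2_c46 LD3_c61)) :=
  Lgr Lrot92 (Lpr_ct (f414298 IH) (Lpr_gt (f414297 IH) (Lpe (f414296 IH) (Lpr_bt (f414295 IH) (Lpr_gt (f63856 IH) (Lpe (f414284 IH) (Lpr_gt (f651186 IH) (Lpe (f527791 IH) (Lpr_bt (f508930 IH) (Lpr_gt (f508961 IH) (Lpn (LP (LK LD1_c12 LD2_c46 LD3_c61)))))))))))))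
theorem f651190 : Led Lsl_bt (LP (LK LD1_c17 LD2_c20 LD3_c3)) = (LP (LK LD1_c12 LD2_c46 LD3_c61)) :=
  Leop (Lpe (f651189 IH) (Lpn (LP (LK LD1_c17 LD2_c20 LD3_c3))))
theorem seed_349 : LEOK LG_b (LK LD1_c17 LD2_c20 LD3_c3) :=
  Leoe_b (LK LD1_c17 LD2_c20 LD3_c3) (f651190 IH)
theorem f130966 : Led Lsl_ft (LP (LK LD1_c1 LD2_c49 LD3_c50)) = (LP (LK LD1_c3 LD2_c45 LD3_c22)) :=
  Lre_f IH (LK LD1_c1 LD2_c49 LD3_c50) (LK LD1_c3 LD2_c45 LD3_c22) Lrfl Lrfl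
theorem f651181 : Led Lsl_dt (LP (LK LD1_c3 LD2_c45 LD3_c22)) = v6113 :=
  Lgr Lrot60 (Lpe (f130966 IH) (Lpr_df (K5.f105623 IH) (Lpr_ff (f651178 IH) (Lpn v6113))))
theorem f130979 : Led Lsl_ct (LP (LK LD1_c7 LD2_c31 LD3_c25)) = (LP (LK LD1_c3 LD2_c45 LD3_c22)) :=
  Lre_c IH (LK LD1_c7 LD2_c31 LD3_c25) (LK LD1_c3 LD2_c45 LD3_c22) Lrfl Lrfl
def v5953 : LQ := Led Lsl_gt (LP (LK LD1_c3 LD2_c15 LD3_c29))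
theorem f650213 : Led Lsl_gt (LP (LK LD1_c3 LD2_c15 LD3_c29)) = v5953 :=
  Lrfl
theorem f646634 : Led Lsl_ft (LP (LK LD1_c3 LD2_c15 LD3_c29)) = (LP (LK LD1_c6 LD2_c11 LD3_c19)) :=
  Lgr Lrot48 (Lpr_ff (f646627 IH) (Lpn (LP (LK LD1_c6 LD2_c11 LD3_c19))))
theorem f646622 : Led Lsl_af (LP (LK LD1_c7 LD2_c31 LD3_c25)) = (LP (LK LD1_c6 LD2_c11 LD3_c19)) :=
  Lgr Lrot0 (Lpr_at (f646620 IH) (Lpn (LP (LK LD1_c6 LD2_c11 LD3_c19))))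
theorem f650214 : Led Lsl_gf (LP (LK LD1_c7 LD2_c31 LD3_c25)) = v5953 :=
  Lgr Lrot76 (Lpr_af (f646622 IH) (Lpe (f646634 IH) (Lpr_gt (f650213 IH) (Lpn v5953))))
theorem f104096 : Led Lsl_ct (LP (LK LD1_c3 LD2_c38 LD3_c11)) = (LP (LK LD1_c3 LD2_c16 LD3_c41)) :=
  Lgr Lrot15 (Lpe (K5.f26242 IH) (Lpr_cf (K3.f103951 IH) (Lpe (K5.f66002 IH) (Lpn (LP (LK LD1_c3 LD2_c16 LD3_c41))))))
theorem f508866 : Led Lsl_ct K32.v546 = K32.v2102 :=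
  Lgr Lrot59 (Lpr_cf (K32.f508865 IH) (Lpn K32.v2102))
theorem f62095 : Led Lsl_ct (LP (LK LD1_c1 LD2_c34 LD3_c55)) = (LP (LK LD1_c3 LD2_c16 LD3_c24)) :=
  Lre_c IH (LK LD1_c1 LD2_c34 LD3_c55) (LK LD1_c3 LD2_c16 LD3_c24) Lrfl Lrfl
def v2076 : LQ := Led Lsl_ft (LP (LK LD1_c1 LD2_c34 LD3_c55))
theorem f508706 : Led Lsl_ft (LP (LK LD1_c1 LD2_c34 LD3_c55)) = v2076 :=
  Lrfl
theorem f508708 : Led Lsl_ff (LP (LK LD1_c1 LD2_c34 LD3_c55)) = v2076 :=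
  Lgr Lrot3 (Lpr_ft (f508706 IH) (Lpn v2076))
def v548 : LQ := Led Lsl_ft (LP (LK LD1_c0 LD2_c44 LD3_c23))
theorem f453933 : Led Lsl_ft (LP (LK LD1_c0 LD2_c44 LD3_c23)) = v548 :=
  Lrfl
theorem f453934 : Led Lsl_af (LP (LK LD1_c0 LD2_c44 LD3_c24)) = v548 :=
  Lgr Lrot45 (Lpr_ft (K32.f453901 IH) (Lpe (K32.f453898 IH) (Lpr_ft (f453933 IH) (Lpn v548))))
theorem f508709 : Led Lsl_at (LP (LK LD1_c1 LD2_c34 LD3_c56)) = v2076 :=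
  Lgr Lrot66 (Lpr_ff (K32.f508705 IH) (Lpe (K32.f508701 IH) (Lpr_ff (f508708 IH) (Lpn v2076))))
def v2110 : LQ := Led Lsl_at (LP (LK LD1_c1 LD2_c35 LD3_c45))
theorem f509035 : Led Lsl_at (LP (LK LD1_c1 LD2_c35 LD3_c45)) = v2110 :=
  Lrfl
theorem f509038 : Led Lsl_ef v548 = v2110 :=
  Lgr Lrot20 (Lpe (f453934 IH) (Lpr_et (K35.f62123 IH) (Lpr_at (f509035 IH) (Lpn v2110))))
theorem f509010 : Led Lsl_ff (LP (LK LD1_c3 LD2_c16 LD3_c27)) = (LP (LK LD1_c3 LD2_c18 LD3_c29)) :=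
  Lgr Lrot3 (Lpr_ft (K32.f509006 IH) (Lpn (LP (LK LD1_c3 LD2_c18 LD3_c29))))
theorem f509036 : Led Lsl_af (LP (LK LD1_c1 LD2_c35 LD3_c45)) = v2110 :=
  Lgr Lrot0 (Lpr_at (f509035 IH) (Lpn v2110))
theorem f624122 : (LP (LK LD1_c3 LD2_c16 LD3_c27)) = v2110 :=
  (Llr Lrot101 (Lpr_ff (f509010 IH) (Lpr_af (K35.f624117 IH) (Lpe (K35.f509042 IH) (Lpr_af (f509036 IH) (Lpn v2110)))))).symm
theorem f624125 : v548 = (LP (LK LD1_c1 LD2_c34 LD3_c56)) :=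
  Lefun (Lecon (Lfl_ef (f509038 IH)) (f624122 IH).symm) (K35.f441540 IH)
theorem f624126 : (LP (LK LD1_c0 LD2_c44 LD3_c24)) = v2076 :=
  Lefun (Lecon (Lfl_af (f453934 IH)) (f624125 IH)) (f508709 IH)
theorem f624139 : (LP (LK LD1_c1 LD2_c34 LD3_c55)) = K32.v546 :=
  Lefun (Lecon (Lfl_ff (f508708 IH)) (f624126 IH).symm) (K32.f453901 IH)
theorem f624147 : K32.v2102 = (LP (LK LD1_c3 LD2_c16 LD3_c24)) :=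
  Lefun (Lecon (f508866 IH) (f624139 IH).symm) (f62095 IH)
theorem f508869 : Led Lsl_ff (LP (LK LD1_c1 LD2_c35 LD3_c43)) = K32.v2102 :=
  Lgr Lrot3 (Lpr_ft (K32.f508867 IH) (Lpn K32.v2102))
theorem f508888 : Led Lsl_ff (LP (LK LD1_c1 LD2_c35 LD3_c40)) = K32.v2104 :=
  Lgr Lrot3 (Lpr_ft (K32.f508885 IH) (Lpn K32.v2104))
theorem f508976 : Led Lsl_at (LP (LK LD1_c1 LD2_c35 LD3_c43)) = K32.v2104 :=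
  Lgr Lrot66 (Lpr_ff (f508869 IH) (Lpe (K32.f508862 IH) (Lpr_ff (f508888 IH) (Lpn K32.v2104))))
theorem f62141 : Led Lsl_gt (LP (LK LD1_c3 LD2_c16 LD3_c24)) = (LP (LK LD1_c6 LD2_c36 LD3_c9)) :=
  Lre_g IH (LK LD1_c3 LD2_c16 LD3_c24) (LK LD1_c6 LD2_c36 LD3_c9) Lrfl Lrfl
theorem f624296 : Led Lsl_gf K32.v2104 = (LP (LK LD1_c6 LD2_c36 LD3_c9)) :=
  Lgr Lrot76 (Lpe (f508976 IH) (Lpr_ff (f508869 IH) (Lpqs (f624147 IH) (Lpr_gt (f62141 IH) (Lpn (LP (LK LD1_c6 LD2_c36 LD3_c9)))))))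
theorem f453899 : Led Lsl_ct (LP (LK LD1_c1 LD2_c35 LD3_c40)) = (LP (LK LD1_c0 LD2_c44 LD3_c23)) :=
  Lre_c IH (LK LD1_c1 LD2_c35 LD3_c40) (LK LD1_c0 LD2_c44 LD3_c23) Lrfl Lrfl
theorem f508977 : Led Lsl_ct v548 = K32.v2104 :=
  Lgr Lrot40 (Lpe (f453933 IH) (Lpe (f453899 IH) (Lpr_ff (f508888 IH) (Lpn K32.v2104))))
theorem f624130 : K32.v2104 = (LP (LK LD1_c3 LD2_c16 LD3_c26)) :=
  Lefun (Lecon (f508977 IH) (f624125 IH)) (K34.f140004 IH)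
theorem f124494 : Led Lsl_et (LP (LK LD1_c7 LD2_c31 LD3_c5)) = (LP (LK LD1_c14 LD2_c11 LD3_c29)) :=
  Lre_e IH (LK LD1_c7 LD2_c31 LD3_c5) (LK LD1_c14 LD2_c11 LD3_c29) Lrfl Lrfl
theorem f130953 : Led Lsl_et (LP (LK LD1_c12 LD2_c39 LD3_c11)) = (LP (LK LD1_c6 LD2_c36 LD3_c41)) :=
  Lre_e IH (LK LD1_c12 LD2_c39 LD3_c11) (LK LD1_c6 LD2_c36 LD3_c41) Lrfl Lrfl
theorem f436560 : Led Lsl_bt (LP (LK LD1_c14 LD2_c11 LD3_c29)) = (LP (LK LD1_c12 LD2_c39 LD3_c11)) :=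
  Lgr Lrot119 (Lpe (f124494 IH) (Lpr_bf (K7.f150593 IH) (Lpe (f130953 IH) (Lpn (LP (LK LD1_c12 LD2_c39 LD3_c11))))))
theorem f436562 : Led Lsl_at (LP (LK LD1_c7 LD2_c31 LD3_c7)) = (LP (LK LD1_c14 LD2_c11 LD3_c29)) :=
  Lre_a IH (LK LD1_c7 LD2_c31 LD3_c7) (LK LD1_c14 LD2_c11 LD3_c29) Lrfl Lrfl
theorem f124468 : Led Lsl_bt (LP (LK LD1_c3 LD2_c45 LD3_c11)) = (LP (LK LD1_c7 LD2_c31 LD3_c7)) :=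
  Lre_b IH (LK LD1_c3 LD2_c45 LD3_c11) (LK LD1_c7 LD2_c31 LD3_c7) Lrfl Lrfl
theorem f130903 : Led Lsl_at (LP (LK LD1_c12 LD2_c39 LD3_c11)) = (LP (LK LD1_c6 LD2_c36 LD3_c42)) :=
  Lre_a IH (LK LD1_c12 LD2_c39 LD3_c11) (LK LD1_c6 LD2_c36 LD3_c42) Lrfl Lrfl
theorem f436563 : Led Lsl_af (LP (LK LD1_c3 LD2_c45 LD3_c11)) = (LP (LK LD1_c3 LD2_c16 LD3_c41)) :=
  Lgr Lrot36 (Lpr_bt (f124468 IH) (Lpr_at (f436562 IH) (Lpr_bt (f436560 IH) (Lpr_at (f130903 IH) (Lpr_bt (K6.f66045 IH) (Lpn (LP (LK LD1_c3 LD2_c16 LD3_c41))))))))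
theorem f624298 : Led Lsl_ff (LP (LK LD1_c3 LD2_c16 LD3_c41)) = (LP (LK LD1_c6 LD2_c36 LD3_c9)) :=
  Lgr Lrot52 (Lpe (f436563 IH) (Lpe (K34.f527810 IH) (Lpq (f624130 IH) (Lpr_gf (f624296 IH) (Lpn (LP (LK LD1_c6 LD2_c36 LD3_c9)))))))
theorem f624312 : Led Lsl_ft (LP (LK LD1_c3 LD2_c16 LD3_c41)) = (LP (LK LD1_c6 LD2_c36 LD3_c9)) :=
  Lgr Lrot48 (Lpr_ff (f624298 IH) (Lpn (LP (LK LD1_c6 LD2_c36 LD3_c9))))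
theorem f651180 : Led Lsl_ct (LP (LK LD1_c6 LD2_c36 LD3_c9)) = v6113 :=
  Lgr Lrot40 (Lpe (f624312 IH) (Lpe (f104096 IH) (Lpr_ff (f651178 IH) (Lpn v6113))))
theorem f110218 : Led Lsl_dt (LP (LK LD1_c0 LD2_c44 LD3_c10)) = (LP (LK LD1_c1 LD2_c26 LD3_c57)) :=
  Lre_d IH (LK LD1_c0 LD2_c44 LD3_c10) (LK LD1_c1 LD2_c26 LD3_c57) Lrfl Lrfl
theorem f103213 : Led Lsl_gt (LP (LK LD1_c1 LD2_c26 LD3_c57)) = (LP (LK LD1_c3 LD2_c1 LD3_c45)) :=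
  Lre_g IH (LK LD1_c1 LD2_c26 LD3_c57) (LK LD1_c3 LD2_c1 LD3_c45) Lrfl Lrfl
theorem f453929 : Led Lsl_ct (LP (LK LD1_c3 LD2_c1 LD3_c45)) = (LP (LK LD1_c6 LD2_c10 LD3_c17)) :=
  Lre_c IH (LK LD1_c3 LD2_c1 LD3_c45) (LK LD1_c6 LD2_c10 LD3_c17) Lrfl Lrfl
theorem f651206 : v5953 = (LP (LK LD1_c6 LD2_c10 LD3_c17)) :=
  (Llr Lrot172 (Lpe (f650214 IH) (Lpr_ct (f130979 IH) (Lpr_dt (f651181 IH) (Lpe (f651180 IH) (Lpe (f62141 IH) (Lpe (f62095 IH) (Lpe (K32.f62109 IH) (Lpr_dt (f110218 IH) (Lpr_gt (f103213 IH) (Lpr_ct (f453929 IH) (Lpn (LP (LK LD1_c6 LD2_c10 LD3_c17)))))))))))))).symm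
theorem f651207 : Led Lsl_gt (LP (LK LD1_c6 LD2_c10 LD3_c17)) = (LP (LK LD1_c7 LD2_c31 LD3_c25)) :=
  Leop (Lpr_gf (f650214 IH) (Lpqs (f651206 IH) (Lpn (LP (LK LD1_c6 LD2_c10 LD3_c17)))))
theorem seed_350 : LEOK LG_g (LK LD1_c6 LD2_c10 LD3_c17) :=
  Leoe_g (LK LD1_c6 LD2_c10 LD3_c17) (f651207 IH)
theorem f624316 : Led Lsl_bt (LP (LK LD1_c6 LD2_c36 LD3_c9)) = (LP (LK LD1_c12 LD2_c38 LD3_c24)) :=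
  Lre_b IH (LK LD1_c6 LD2_c36 LD3_c9) (LK LD1_c12 LD2_c38 LD3_c24) Lrfl Lrfl
theorem f508797 : Led Lsl_ct (LP (LK LD1_c1 LD2_c35 LD3_c34)) = (LP (LK LD1_c3 LD2_c18 LD3_c7)) :=
  Lre_c IH (LK LD1_c1 LD2_c35 LD3_c34) (LK LD1_c3 LD2_c18 LD3_c7) Lrfl Lrfl
theorem f65677 : Led Lsl_gt (LP (LK LD1_c0 LD2_c44 LD3_c21)) = (LP (LK LD1_c1 LD2_c35 LD3_c34)) :=
  Lre_g IH (LK LD1_c0 LD2_c44 LD3_c21) (LK LD1_c1 LD2_c35 LD3_c34) Lrfl Lrfl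
theorem f508783 : Led Lsl_bt (LP (LK LD1_c1 LD2_c35 LD3_c28)) = (LP (LK LD1_c0 LD2_c44 LD3_c21)) :=
  Lre_b IH (LK LD1_c1 LD2_c35 LD3_c28) (LK LD1_c0 LD2_c44 LD3_c21) Lrfl Lrfl
theorem f508784 : Led Lsl_ct (LP (LK LD1_c1 LD2_c35 LD3_c28)) = (LP (LK LD1_c0 LD2_c44 LD3_c47)) :=
  Lre_c IH (LK LD1_c1 LD2_c35 LD3_c28) (LK LD1_c0 LD2_c44 LD3_c47) Lrfl Lrfl
theorem f438065 : Led Lsl_gt (LP (LK LD1_c1 LD2_c36 LD3_c39)) = (LP (LK LD1_c0 LD2_c44 LD3_c47)) :=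
  Lre_g IH (LK LD1_c1 LD2_c36 LD3_c39) (LK LD1_c0 LD2_c44 LD3_c47) Lrfl Lrfl
theorem f509306 : Led Lsl_ct (LP (LK LD1_c3 LD2_c20 LD3_c38)) = (LP (LK LD1_c1 LD2_c36 LD3_c39)) :=
  Lre_c IH (LK LD1_c3 LD2_c20 LD3_c38) (LK LD1_c1 LD2_c36 LD3_c39) Lrfl Lrfl
theorem f624351 : Led Lsl_bt (LP (LK LD1_c3 LD2_c20 LD3_c38)) = (LP (LK LD1_c6 LD2_c45 LD3_c1)) :=
  Lre_b IH (LK LD1_c3 LD2_c20 LD3_c38) (LK LD1_c6 LD2_c45 LD3_c1) Lrfl Lrfl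
theorem f651217 : Led Lsl_gt (LP (LK LD1_c12 LD2_c38 LD3_c24)) = (LP (LK LD1_c6 LD2_c45 LD3_c1)) :=
  Lgr Lrot164 (Lpe (f624316 IH) (Lpr_ct (f651180 IH) (Lpe (f651172 IH) (Lpe (f508797 IH) (Lpe (f65677 IH) (Lpe (f508783 IH) (Lpr_ct (f508784 IH) (Lpe (f438065 IH) (Lpe (f509306 IH) (Lpr_bt (f624351 IH) (Lpn (LP (LK LD1_c6 LD2_c45 LD3_c1)))))))))))))
theorem f651218 : Led Lsl_gt (LP (LK LD1_c12 LD2_c38 LD3_c24)) = (LP (LK LD1_c6 LD2_c45 LD3_c1)) :=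
  Leop (Lpe (f651217 IH) (Lpn (LP (LK LD1_c12 LD2_c38 LD3_c24))))
theorem seed_351 : LEOK LG_g (LK LD1_c12 LD2_c38 LD3_c24) :=
  Leoe_g (LK LD1_c12 LD2_c38 LD3_c24) (f651218 IH)
theorem f624314 : Led Lsl_af (LP (LK LD1_c3 LD2_c18 LD3_c23)) = (LP (LK LD1_c6 LD2_c36 LD3_c9)) :=
  Lgr Lrot45 (Lpr_ft (K34.f508891 IH) (Lpe (K5.f126377 IH) (Lpr_ft (f624312 IH) (Lpn (LP (LK LD1_c6 LD2_c36 LD3_c9))))))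
theorem f651176 : Led Lsl_cf (LP (LK LD1_c6 LD2_c36 LD3_c9)) = v6113 :=
  Lgr Lrot1 (Lpe (f624314 IH) (Lpr_ct (f527791 IH) (Lpr_at (f651173 IH) (Lpn v6113))))
theorem f62142 : Led Lsl_dt (LP (LK LD1_c6 LD2_c36 LD3_c9)) = (LP (LK LD1_c12 LD2_c38 LD3_c25)) :=
  Lre_d IH (LK LD1_c6 LD2_c36 LD3_c9) (LK LD1_c12 LD2_c38 LD3_c25) Lrfl Lrfl
theorem f508816 : Led Lsl_gt (LP (LK LD1_c1 LD2_c35 LD3_c36)) = (LP (LK LD1_c3 LD2_c18 LD3_c14)) :=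
  Lre_g IH (LK LD1_c1 LD2_c35 LD3_c36) (LK LD1_c3 LD2_c18 LD3_c14) Lrfl Lrfl
theorem f508919 : Led Lsl_ct (LP (LK LD1_c3 LD2_c18 LD3_c14)) = (LP (LK LD1_c6 LD2_c40 LD3_c24)) :=
  Lre_c IH (LK LD1_c3 LD2_c18 LD3_c14) (LK LD1_c6 LD2_c40 LD3_c24) Lrfl Lrfl
theorem f649470 : Led Lsl_gt (LP (LK LD1_c6 LD2_c40 LD3_c24)) = (LP (LK LD1_c12 LD2_c46 LD3_c31)) :=
  Lre_g IH (LK LD1_c6 LD2_c40 LD3_c24) (LK LD1_c12 LD2_c46 LD3_c31) Lrfl Lrfl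
theorem f651224 : Led Lsl_cf (LP (LK LD1_c12 LD2_c38 LD3_c25)) = (LP (LK LD1_c12 LD2_c46 LD3_c31)) :=
  Lgr Lrot99 (Lpe (f62142 IH) (Lpr_cf (f651176 IH) (Lpe (f651172 IH) (Lpe (f508797 IH) (Lpe (f65677 IH) (Lpe (K32.f454786 IH) (Lpr_gt (f508816 IH) (Lpr_ct (f508919 IH) (Lpr_gt (f649470 IH) (Lpn (LP (LK LD1_c12 LD2_c46 LD3_c31))))))))))))
theorem f651225 : Led Lsl_ct (LP (LK LD1_c12 LD2_c46 LD3_c31)) = (LP (LK LD1_c12 LD2_c38 LD3_c25)) :=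
  Leop (Lpr_cf (f651224 IH) (Lpn (LP (LK LD1_c12 LD2_c46 LD3_c31))))
theorem seed_352 : LEOK LG_c (LK LD1_c12 LD2_c46 LD3_c31) :=
  Leoe_c (LK LD1_c12 LD2_c46 LD3_c31) (f651225 IH)
def v6118 : LQ := Led Lsl_at (LP (LK LD1_c3 LD2_c18 LD3_c8))
theorem f651295 : Led Lsl_at (LP (LK LD1_c3 LD2_c18 LD3_c8)) = v6118 :=
  Lrfl
theorem f65704 : Led Lsl_dt (LP (LK LD1_c1 LD2_c35 LD3_c34)) = (LP (LK LD1_c3 LD2_c18 LD3_c8)) :=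
  Lre_d IH (LK LD1_c1 LD2_c35 LD3_c34) (LK LD1_c3 LD2_c18 LD3_c8) Lrfl Lrfl
def v2093 : LQ := Led Lsl_at (LP (LK LD1_c1 LD2_c35 LD3_c34))
theorem f508790 : Led Lsl_at (LP (LK LD1_c1 LD2_c35 LD3_c34)) = v2093 :=
  Lrfl
theorem f508791 : Led Lsl_af (LP (LK LD1_c1 LD2_c35 LD3_c34)) = v2093 :=
  Lgr Lrot0 (Lpr_at (f508790 IH) (Lpn v2093))
theorem f651299 : Led Lsl_df v2093 = v6118 :=
  Lgr Lrot18 (Lpe (f508791 IH) (Lpr_dt (f65704 IH) (Lpr_at (f651295 IH) (Lpn v6118))))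
theorem f65263 : Led Lsl_gt (LP (LK LD1_c1 LD2_c35 LD3_c35)) = (LP (LK LD1_c0 LD2_c44 LD3_c21)) :=
  Lre_g IH (LK LD1_c1 LD2_c35 LD3_c35) (LK LD1_c0 LD2_c44 LD3_c21) Lrfl Lrfl
theorem f508799 : Led Lsl_ft (LP (LK LD1_c1 LD2_c35 LD3_c35)) = v2093 :=
  Lgr Lrot2 (Lpr_gt (f65263 IH) (Lpr_gt (f65677 IH) (Lpr_af (f508791 IH) (Lpn v2093))))
theorem f508804 : Led Lsl_ff (LP (LK LD1_c1 LD2_c35 LD3_c35)) = v2093 :=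
  Lgr Lrot3 (Lpr_ft (f508799 IH) (Lpn v2093))
theorem f508801 : Led Lsl_dt (LP (LK LD1_c1 LD2_c35 LD3_c35)) = (LP (LK LD1_c3 LD2_c18 LD3_c12)) :=
  Lre_d IH (LK LD1_c1 LD2_c35 LD3_c35) (LK LD1_c3 LD2_c18 LD3_c12) Lrfl Lrfl
theorem f651302 : Led Lsl_ft (LP (LK LD1_c3 LD2_c18 LD3_c12)) = v6118 :=
  Lgr Lrot54 (Lpe (f508801 IH) (Lpr_ff (f508804 IH) (Lpr_df (f651299 IH) (Lpn v6118))))
theorem f651296 : Led Lsl_af (LP (LK LD1_c3 LD2_c18 LD3_c8)) = v6118 :=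
  Lgr Lrot0 (Lpr_at (f651295 IH) (Lpn v6118))
theorem f649463 : Led Lsl_gt (LP (LK LD1_c6 LD2_c40 LD3_c9)) = (LP (LK LD1_c3 LD2_c18 LD3_c8)) :=
  Lre_g IH (LK LD1_c6 LD2_c40 LD3_c9) (LK LD1_c3 LD2_c18 LD3_c8) Lrfl Lrfl
theorem f651307 : Led Lsl_gt (LP (LK LD1_c3 LD2_c18 LD3_c12)) = (LP (LK LD1_c6 LD2_c40 LD3_c9)) :=
  Lgr Lrot5 (Lpr_ft (f651302 IH) (Lpe (f651296 IH) (Lpe (f649463 IH) (Lpn (LP (LK LD1_c6 LD2_c40 LD3_c9))))))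
theorem f651308 : Led Lsl_gt (LP (LK LD1_c3 LD2_c18 LD3_c12)) = (LP (LK LD1_c6 LD2_c40 LD3_c9)) :=
  Leop (Lpe (f651307 IH) (Lpn (LP (LK LD1_c3 LD2_c18 LD3_c12))))
theorem seed_353 : LEOK LG_g (LK LD1_c3 LD2_c18 LD3_c12) :=
  Leoe_g (LK LD1_c3 LD2_c18 LD3_c12) (f651308 IH)
def v6119 : LQ := Led Lsl_ft (LP (LK LD1_c3 LD2_c18 LD3_c8))
theorem f651335 : Led Lsl_ft (LP (LK LD1_c3 LD2_c18 LD3_c8)) = v6119 :=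
  Lrfl
theorem f65705 : Led Lsl_gt (LP (LK LD1_c3 LD2_c18 LD3_c8)) = (LP (LK LD1_c6 LD2_c40 LD3_c8)) :=
  Lre_g IH (LK LD1_c3 LD2_c18 LD3_c8) (LK LD1_c6 LD2_c40 LD3_c8) Lrfl Lrfl
theorem f651336 : Led Lsl_af (LP (LK LD1_c3 LD2_c18 LD3_c12)) = v6119 :=
  Lgr Lrot45 (Lpr_ft (f651302 IH) (Lpe (f651296 IH) (Lpr_ft (f651335 IH) (Lpn v6119))))
theorem f651340 : Led Lsl_gt (LP (LK LD1_c6 LD2_c40 LD3_c8)) = (LP (LK LD1_c3 LD2_c18 LD3_c12)) :=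
  Lgr Lrot46 (Lpe (f65705 IH) (Lpr_ft (f651335 IH) (Lpe (f651336 IH) (Lpn (LP (LK LD1_c3 LD2_c18 LD3_c12))))))
theorem f651341 : Led Lsl_gt (LP (LK LD1_c6 LD2_c40 LD3_c8)) = (LP (LK LD1_c3 LD2_c18 LD3_c12)) :=
  Leop (Lpe (f651340 IH) (Lpn (LP (LK LD1_c6 LD2_c40 LD3_c8))))
theorem seed_354 : LEOK LG_g (LK LD1_c6 LD2_c40 LD3_c8) :=
  Leoe_g (LK LD1_c6 LD2_c40 LD3_c8) (f651341 IH)
def v6123 : LQ := Led Lsl_dt (LP (LK LD1_c3 LD2_c18 LD3_c9))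
theorem f651357 : Led Lsl_dt (LP (LK LD1_c3 LD2_c18 LD3_c9)) = v6123 :=
  Lrfl
theorem f65678 : Led Lsl_et (LP (LK LD1_c3 LD2_c18 LD3_c9)) = (LP (LK LD1_c1 LD2_c35 LD3_c34)) :=
  Lre_e IH (LK LD1_c3 LD2_c18 LD3_c9) (LK LD1_c1 LD2_c35 LD3_c34) Lrfl Lrfl
theorem f65262 : Led Lsl_et (LP (LK LD1_c0 LD2_c19 LD3_c45)) = (LP (LK LD1_c0 LD2_c44 LD3_c21)) :=
  Lre_e IH (LK LD1_c0 LD2_c19 LD3_c45) (LK LD1_c0 LD2_c44 LD3_c21) Lrfl Lrfl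
theorem f62959 : Led Lsl_et (LP (LK LD1_c3 LD2_c1 LD3_c44)) = (LP (LK LD1_c1 LD2_c26 LD3_c56)) :=
  Lre_e IH (LK LD1_c3 LD2_c1 LD3_c44) (LK LD1_c1 LD2_c26 LD3_c56) Lrfl Lrfl
def v5192 : LQ := Led Lsl_dt (LP (LK LD1_c3 LD2_c1 LD3_c44))
theorem f646455 : Led Lsl_dt (LP (LK LD1_c3 LD2_c1 LD3_c44)) = v5192 :=
  Lrfl
theorem f651360 : Led Lsl_gf v5192 = v6123 :=
  Lgr Lrot145 (Lpe (f646455 IH) (Lpr_et (f62959 IH) (Lpe (K1.f65640 IH) (Lpr_dt (K1.f65666 IH) (Lpr_gt (K1.f24618 IH) (Lpe (K1.f62196 IH) (Lpr_et (f65262 IH) (Lpr_gt (f65677 IH) (Lpe (f65678 IH) (Lpr_dt (f651357 IH) (Lpn v6123)))))))))))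
theorem f646457 : Led Lsl_df (LP (LK LD1_c3 LD2_c1 LD3_c44)) = v5192 :=
  Lgr Lrot38 (Lpr_dt (f646455 IH) (Lpn v5192))
theorem f453919 : Led Lsl_ct (LP (LK LD1_c3 LD2_c1 LD3_c44)) = (LP (LK LD1_c1 LD2_c26 LD3_c57)) :=
  Lre_c IH (LK LD1_c3 LD2_c1 LD3_c44) (LK LD1_c1 LD2_c26 LD3_c57) Lrfl Lrfl
def v3180 : LQ := Led Lsl_gf K24.v547
theorem f624546 : Led Lsl_gf K24.v547 = v3180 :=
  Lrfl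
def v6121 : LQ := Led Lsl_gf (LP (LK LD1_c3 LD2_c18 LD3_c9))
theorem f651352 : Led Lsl_gf (LP (LK LD1_c3 LD2_c18 LD3_c9)) = v6121 :=
  Lrfl
theorem f651362 : Led Lsl_ct v3180 = v6121 :=
  Lgr Lrot8 (Lpe (f624546 IH) (Lpe (K24.f453910 IH) (Lpr_gt (K32.f62965 IH) (Lpr_dt (f110218 IH) (Lpe (f453919 IH) (Lpr_df (f646457 IH) (Lpr_gf (f651360 IH) (Lpe (f651357 IH) (Lpr_gf (f651352 IH) (Lpn v6121))))))))))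
theorem f509003 : Led Lsl_dt v548 = K32.v2106 :=
  Lgr Lrot60 (Lpe (f453933 IH) (Lpe (K5.f130806 IH) (Lpr_ff (K32.f508996 IH) (Lpn K32.v2106))))
theorem f453913 : Led Lsl_dt (LP (LK LD1_c1 LD2_c34 LD3_c56)) = K24.v547 :=
  Lgr Lrot42 (Lpr_df (K24.f453910 IH) (Lpn K24.v547))
theorem f624135 : K32.v2106 = K24.v547 :=
  Lefun (Lecon (f509003 IH) (f624125 IH)) (f453913 IH)
theorem f624547 : Led Lsl_gt K32.v2105 = v3180 :=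
  Lgr Lrot5 (Lpe (K32.f508985 IH) (Lpr_at (K32.f509002 IH) (Lpqs (f624135 IH) (Lpr_gf (f624546 IH) (Lpn v3180)))))
theorem f508983 : Led Lsl_dt K32.v546 = K32.v2105 :=
  Lgr Lrot42 (Lpr_df (K32.f508982 IH) (Lpn K32.v2105))
theorem f62101 : Led Lsl_dt (LP (LK LD1_c1 LD2_c34 LD3_c55)) = (LP (LK LD1_c3 LD2_c16 LD3_c25)) :=
  Lre_d IH (LK LD1_c1 LD2_c34 LD3_c55) (LK LD1_c3 LD2_c16 LD3_c25) Lrfl Lrfl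
theorem f624152 : K32.v2105 = (LP (LK LD1_c3 LD2_c16 LD3_c25)) :=
  Lefun (Lecon (f508983 IH) (f624139 IH).symm) (f62101 IH)
theorem f453927 : Led Lsl_gt (LP (LK LD1_c1 LD2_c35 LD3_c37)) = (LP (LK LD1_c3 LD2_c16 LD3_c20)) :=
  Lre_g IH (LK LD1_c1 LD2_c35 LD3_c37) (LK LD1_c3 LD2_c16 LD3_c20) Lrfl Lrfl
def v6013 : LQ := Led Lsl_ct (LP (LK LD1_c3 LD2_c16 LD3_c20))
theorem f650533 : Led Lsl_ct (LP (LK LD1_c3 LD2_c16 LD3_c20)) = v6013 :=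
  Lrfl
def v6116 : LQ := Led Lsl_et (LP (LK LD1_c3 LD2_c18 LD3_c7))
theorem f651283 : Led Lsl_et (LP (LK LD1_c3 LD2_c18 LD3_c7)) = v6116 :=
  Lrfl
theorem f651285 : Led Lsl_ef (LP (LK LD1_c3 LD2_c18 LD3_c7)) = v6116 :=
  Lgr Lrot88 (Lpr_et (f651283 IH) (Lpn v6116))
theorem f508798 : Led Lsl_et (LP (LK LD1_c1 LD2_c35 LD3_c34)) = (LP (LK LD1_c3 LD2_c18 LD3_c9)) :=
  Lre_e IH (LK LD1_c1 LD2_c35 LD3_c34) (LK LD1_c3 LD2_c18 LD3_c9) Lrfl Lrfl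
theorem f651286 : Led Lsl_ct (LP (LK LD1_c3 LD2_c18 LD3_c9)) = v6116 :=
  Lgr Lrot15 (Lpe (f508798 IH) (Lpe (f140079 IH) (Lpr_ef (f651285 IH) (Lpn v6116))))
theorem f651365 : Led Lsl_df v6013 = v6116 :=
  Lgr Lrot162 (Lpe (f650533 IH) (Lpe (f453927 IH) (Lpe (f414280 IH) (Lpe (K32.f62086 IH) (Lpr_dt (f62101 IH) (Lpq (f624152 IH) (Lpr_gt (f624547 IH) (Lpr_ct (f651362 IH) (Lpe (f651352 IH) (Lpr_ct (f651286 IH) (Lpn v6116)))))))))))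
theorem f651366 : Led Lsl_gt v6013 = (LP (LK LD1_c3 LD2_c38 LD3_c11)) :=
  Lgr Lrot112 (Lpr_df (f651365 IH) (Lpe (f651285 IH) (Lpqs (f649461 IH) (Lpe (f527786 IH) (Lpe (K5.f105629 IH) (Lpr_dt (K1.f62309 IH) (Lpe (K1.f14704 IH) (Lpe (K3.f5766 IH) (Lpe (K3.f5767 IH) (Lpe (K5.f85136 IH) (Lpr_dt (K5.f105615 IH) (Lpn (LP (LK LD1_c3 LD2_c38 LD3_c11))))))))))))))
theorem f651367 : Led Lsl_gf v6013 = K34.v2615 :=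
  Lgr Lrot47 (Lpr_gt (f651366 IH) (Lpe (K34.f130956 IH) (Lpr_ff (f527790 IH) (Lpn K34.v2615))))
theorem f650534 : Led Lsl_cf (LP (LK LD1_c3 LD2_c16 LD3_c20)) = v6013 :=
  Lgr Lrot11 (Lpr_ct (f650533 IH) (Lpn v6013))
theorem f443304 : Led Lsl_gt (LP (LK LD1_c3 LD2_c16 LD3_c20)) = (LP (LK LD1_c1 LD2_c34 LD3_c54)) :=
  Lre_g IH (LK LD1_c3 LD2_c16 LD3_c20) (LK LD1_c1 LD2_c34 LD3_c54) Lrfl Lrfl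
theorem f113043 : Led Lsl_ct (LP (LK LD1_c1 LD2_c34 LD3_c54)) = (LP (LK LD1_c0 LD2_c44 LD3_c10)) :=
  Lre_c IH (LK LD1_c1 LD2_c34 LD3_c54) (LK LD1_c0 LD2_c44 LD3_c10) Lrfl Lrfl
theorem f112101 : Led Lsl_gt (LP (LK LD1_c6 LD2_c10 LD3_c14)) = (LP (LK LD1_c3 LD2_c1 LD3_c44)) :=
  Lre_g IH (LK LD1_c6 LD2_c10 LD3_c14) (LK LD1_c3 LD2_c1 LD3_c44) Lrfl Lrfl
theorem f649360 : Led Lsl_df K34.v2615 = v5790 :=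
  Lgr Lrot78 (Lpe (f527790 IH) (Lpr_dt (K5.f105630 IH) (Lpr_ft (f649356 IH) (Lpn v5790))))
theorem f649362 : Led Lsl_ff (LP (LK LD1_c3 LD2_c13 LD3_c25)) = v5790 :=
  Lgr Lrot3 (Lpr_ft (f649356 IH) (Lpn v5790))
theorem f93354 : Led Lsl_gt (LP (LK LD1_c3 LD2_c45 LD3_c21)) = (LP (LK LD1_c1 LD2_c49 LD3_c50)) :=
  Lre_g IH (LK LD1_c3 LD2_c45 LD3_c21) (LK LD1_c1 LD2_c49 LD3_c50) Lrfl Lrfl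
theorem f649369 : Led Lsl_gf (LP (LK LD1_c3 LD2_c45 LD3_c21)) = v5790 :=
  Lgr Lrot47 (Lpr_gt (f93354 IH) (Lpe (K5.f130958 IH) (Lpr_ff (f649362 IH) (Lpn v5790))))
theorem f651368 : Led Lsl_cf (LP (LK LD1_c6 LD2_c10 LD3_c14)) = (LP (LK LD1_c3 LD2_c45 LD3_c21)) :=
  Lgr Lrot169 (Lpr_gt (f112101 IH) (Lpr_ct (f453919 IH) (Lpe (f110218 IH) (Lpe (f113043 IH) (Lpe (f443304 IH) (Lpr_cf (f650534 IH) (Lpr_gf (f651367 IH) (Lpr_df (f649360 IH) (Lpe (f649369 IH) (Lpn (LP (LK LD1_c3 LD2_c45 LD3_c21))))))))))))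
theorem f651369 : Led Lsl_ct (LP (LK LD1_c3 LD2_c45 LD3_c21)) = (LP (LK LD1_c6 LD2_c10 LD3_c14)) :=
  Leop (Lpr_cf (f651368 IH) (Lpn (LP (LK LD1_c3 LD2_c45 LD3_c21))))
theorem seed_355 : LEOK LG_c (LK LD1_c3 LD2_c45 LD3_c21) :=
  Leoe_c (LK LD1_c3 LD2_c45 LD3_c21) (f651369 IH)
def v6158 : LQ := Led Lsl_bt (LP (LK LD1_c3 LD2_c18 LD3_c30))
theorem f651558 : Led Lsl_bt (LP (LK LD1_c3 LD2_c18 LD3_c30)) = v6158 :=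
  Lrfl
def v6159 : LQ := Led Lsl_ct (LP (LK LD1_c3 LD2_c18 LD3_c30))
theorem f651560 : Led Lsl_ct (LP (LK LD1_c3 LD2_c18 LD3_c30)) = v6159 :=
  Lrfl
def v6016 : LQ := Led Lsl_at (LP (LK LD1_c3 LD2_c16 LD3_c23))
theorem f650547 : Led Lsl_at (LP (LK LD1_c3 LD2_c16 LD3_c23)) = v6016 :=
  Lrfl
def v2108 : LQ := Led Lsl_ft (LP (LK LD1_c1 LD2_c35 LD3_c42))
theorem f509021 : Led Lsl_ft (LP (LK LD1_c1 LD2_c35 LD3_c42)) = v2108 :=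
  Lrfl
theorem f509023 : Led Lsl_ff (LP (LK LD1_c1 LD2_c35 LD3_c42)) = v2108 :=
  Lgr Lrot3 (Lpr_ft (f509021 IH) (Lpn v2108))
theorem f140068 : Led Lsl_bt (LP (LK LD1_c1 LD2_c35 LD3_c42)) = (LP (LK LD1_c0 LD2_c44 LD3_c24)) :=
  Lre_b IH (LK LD1_c1 LD2_c35 LD3_c42) (LK LD1_c0 LD2_c44 LD3_c24) Lrfl Lrfl
theorem f509024 : Led Lsl_bt K32.v546 = v2108 :=
  Lgr Lrot35 (Lpe (K32.f453901 IH) (Lpe (f140068 IH) (Lpr_ff (f509023 IH) (Lpn v2108))))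
theorem f62091 : Led Lsl_bt (LP (LK LD1_c1 LD2_c34 LD3_c55)) = (LP (LK LD1_c3 LD2_c16 LD3_c23)) :=
  Lre_b IH (LK LD1_c1 LD2_c34 LD3_c55) (LK LD1_c3 LD2_c16 LD3_c23) Lrfl Lrfl
theorem f624144 : v2108 = (LP (LK LD1_c3 LD2_c16 LD3_c23)) :=
  Lefun (Lecon (f509024 IH) (f624139 IH).symm) (f62091 IH)
theorem f453938 : Led Lsl_at (LP (LK LD1_c3 LD2_c18 LD3_c31)) = (LP (LK LD1_c1 LD2_c35 LD3_c42)) :=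
  Lre_a IH (LK LD1_c3 LD2_c18 LD3_c31) (LK LD1_c1 LD2_c35 LD3_c42) Lrfl Lrfl
theorem f650550 : Led Lsl_ff (LP (LK LD1_c3 LD2_c18 LD3_c31)) = v6016 :=
  Lgr Lrot30 (Lpr_at (f453938 IH) (Lpr_ft (f509021 IH) (Lpqs (f624144 IH) (Lpr_at (f650547 IH) (Lpn v6016)))))
theorem f62164 : Led Lsl_gt (LP (LK LD1_c3 LD2_c18 LD3_c30)) = (LP (LK LD1_c1 LD2_c35 LD3_c42)) :=
  Lre_g IH (LK LD1_c3 LD2_c18 LD3_c30) (LK LD1_c1 LD2_c35 LD3_c42) Lrfl Lrfl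
theorem f650554 : Led Lsl_gf (LP (LK LD1_c3 LD2_c18 LD3_c30)) = v6016 :=
  Lgr Lrot47 (Lpr_gt (f62164 IH) (Lpe (f453938 IH) (Lpr_ff (f650550 IH) (Lpn v6016))))
theorem f453935 : Led Lsl_ff (LP (LK LD1_c0 LD2_c44 LD3_c23)) = v548 :=
  Lgr Lrot3 (Lpr_ft (f453933 IH) (Lpn v548))
theorem f624136 : (LP (LK LD1_c0 LD2_c44 LD3_c23)) = K32.v2075 :=
  Lefun (Lecon (Lfl_ff (f453935 IH)) (f624125 IH)) (K32.f508703 IH)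
theorem f414625 : Led Lsl_bt (LP (LK LD1_c1 LD2_c35 LD3_c39)) = (LP (LK LD1_c0 LD2_c44 LD3_c23)) :=
  Lre_b IH (LK LD1_c1 LD2_c35 LD3_c39) (LK LD1_c0 LD2_c44 LD3_c23) Lrfl Lrfl
def v2097 : LQ := Led Lsl_at (LP (LK LD1_c1 LD2_c35 LD3_c39))
theorem f508834 : Led Lsl_at (LP (LK LD1_c1 LD2_c35 LD3_c39)) = v2097 :=
  Lrfl
theorem f508835 : Led Lsl_af (LP (LK LD1_c1 LD2_c35 LD3_c39)) = v2097 :=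
  Lgr Lrot0 (Lpr_at (f508834 IH) (Lpn v2097))
theorem f650549 : Led Lsl_bf v2097 = v6016 :=
  Lgr Lrot81 (Lpe (f508835 IH) (Lpr_bt (f414625 IH) (Lpqs (f624136 IH) (Lpe (K32.f508702 IH) (Lpr_bt (f62091 IH) (Lpr_at (f650547 IH) (Lpn v6016)))))))
theorem f650556 : Led Lsl_bt v2097 = v6016 :=
  Lgr Lrot127 (Lpr_bf (f650549 IH) (Lpn v6016))
def v6141 : LQ := Led Lsl_at (LP (LK LD1_c3 LD2_c18 LD3_c22))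
theorem f651495 : Led Lsl_at (LP (LK LD1_c3 LD2_c18 LD3_c22)) = v6141 :=
  Lrfl
theorem f414626 : Led Lsl_ct (LP (LK LD1_c1 LD2_c35 LD3_c39)) = (LP (LK LD1_c3 LD2_c18 LD3_c22)) :=
  Lre_c IH (LK LD1_c1 LD2_c35 LD3_c39) (LK LD1_c3 LD2_c18 LD3_c22) Lrfl Lrfl
theorem f651497 : Led Lsl_cf v2097 = v6141 :=
  Lgr Lrot1 (Lpe (f508835 IH) (Lpr_ct (f414626 IH) (Lpr_at (f651495 IH) (Lpn v6141))))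
theorem f651498 : Led Lsl_ct v2097 = v6141 :=
  Lgr Lrot59 (Lpr_cf (f651497 IH) (Lpn v6141))
def v6143 : LQ := Led Lsl_ft (LP (LK LD1_c3 LD2_c18 LD3_c22))
theorem f651503 : Led Lsl_ft (LP (LK LD1_c3 LD2_c18 LD3_c22)) = v6143 :=
  Lrfl
theorem f651505 : Led Lsl_ff (LP (LK LD1_c3 LD2_c18 LD3_c22)) = v6143 :=
  Lgr Lrot3 (Lpr_ft (f651503 IH) (Lpn v6143))
theorem f416449 : Led Lsl_ct (LP (LK LD1_c3 LD2_c18 LD3_c22)) = (LP (LK LD1_c1 LD2_c35 LD3_c39)) :=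
  Lre_c IH (LK LD1_c3 LD2_c18 LD3_c22) (LK LD1_c1 LD2_c35 LD3_c39) Lrfl Lrfl
def v2100 : LQ := Led Lsl_ft (LP (LK LD1_c1 LD2_c35 LD3_c39))
theorem f508848 : Led Lsl_ft (LP (LK LD1_c1 LD2_c35 LD3_c39)) = v2100 :=
  Lrfl
theorem f651506 : Led Lsl_ct v2100 = v6143 :=
  Lgr Lrot40 (Lpe (f508848 IH) (Lpe (f416449 IH) (Lpr_ff (f651505 IH) (Lpn v6143))))
theorem f508850 : Led Lsl_ff (LP (LK LD1_c1 LD2_c35 LD3_c39)) = v2100 :=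
  Lgr Lrot3 (Lpr_ft (f508848 IH) (Lpn v2100))
theorem f508851 : Led Lsl_bt v548 = v2100 :=
  Lgr Lrot35 (Lpe (f453933 IH) (Lpe (f414625 IH) (Lpr_ff (f508850 IH) (Lpn v2100))))
def v2077 : LQ := Led Lsl_bt (LP (LK LD1_c1 LD2_c34 LD3_c56))
theorem f508710 : Led Lsl_bt (LP (LK LD1_c1 LD2_c34 LD3_c56)) = v2077 :=
  Lrfl
theorem f624129 : v2100 = v2077 :=
  Lefun (Lecon (f508851 IH) (f624125 IH)) (f508710 IH)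
theorem f508711 : Led Lsl_bf (LP (LK LD1_c1 LD2_c34 LD3_c56)) = v2077 :=
  Lgr Lrot24 (Lpr_bt (f508710 IH) (Lpn v2077))
theorem f76902 : Led Lsl_bt (LP (LK LD1_c1 LD2_c37 LD3_c37)) = (LP (LK LD1_c0 LD2_c45 LD3_c12)) :=
  Lre_b IH (LK LD1_c1 LD2_c37 LD3_c37) (LK LD1_c0 LD2_c45 LD3_c12) Lrfl Lrfl
theorem f76903 : Led Lsl_ct (LP (LK LD1_c1 LD2_c37 LD3_c37)) = (LP (LK LD1_c3 LD2_c22 LD3_c41)) :=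
  Lre_c IH (LK LD1_c1 LD2_c37 LD3_c37) (LK LD1_c3 LD2_c22 LD3_c41) Lrfl Lrfl
theorem f651507 : Led Lsl_gf (LP (LK LD1_c3 LD2_c22 LD3_c41)) = v6143 :=
  Lgr Lrot126 (Lpe (f76903 IH) (Lpr_bt (f76902 IH) (Lpr_gt (K9.f73769 IH) (Lpe (K9.f139984 IH) (Lpr_gt (K0.f27113 IH) (Lpe (K17.f76943 IH) (Lpr_bt (K34.f76944 IH) (Lpr_gt (K24.f140003 IH) (Lpr_bf (f508711 IH) (Lpq (f624129 IH) (Lpr_ct (f651506 IH) (Lpn v6143))))))))))))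
theorem f651508 : Led Lsl_gt (LP (LK LD1_c3 LD2_c22 LD3_c41)) = v6141 :=
  Lgr Lrot46 (Lpr_gf (f651507 IH) (Lpe (f651505 IH) (Lpr_at (f651495 IH) (Lpn v6141))))
theorem f73783 : Led Lsl_bt (LP (LK LD1_c3 LD2_c22 LD3_c45)) = (LP (LK LD1_c1 LD2_c37 LD3_c39)) :=
  Lre_b IH (LK LD1_c3 LD2_c22 LD3_c45) (LK LD1_c1 LD2_c37 LD3_c39) Lrfl Lrfl
theorem f76966 : Led Lsl_ct (LP (LK LD1_c3 LD2_c22 LD3_c45)) = (LP (LK LD1_c6 LD2_c49 LD3_c7)) :=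
  Lre_c IH (LK LD1_c3 LD2_c22 LD3_c45) (LK LD1_c6 LD2_c49 LD3_c7) Lrfl Lrfl
theorem f651562 : Led Lsl_gf (LP (LK LD1_c6 LD2_c49 LD3_c7)) = v6159 :=
  Lgr Lrot129 (Lpe (f76966 IH) (Lpr_bt (f73783 IH) (Lpr_gt (K9.f73775 IH) (Lpe (f76902 IH) (Lpr_ct (f76903 IH) (Lpr_gt (f651508 IH) (Lpe (f651498 IH) (Lpr_bt (f650556 IH) (Lpe (f650554 IH) (Lpr_ct (f651560 IH) (Lpn v6159)))))))))))
theorem f414092 : Led Lsl_bt (LP (LK LD1_c0 LD2_c19 LD3_c55)) = (LP (LK LD1_c0 LD2_c44 LD3_c52)) :=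
  Lre_b IH (LK LD1_c0 LD2_c19 LD3_c55) (LK LD1_c0 LD2_c44 LD3_c52) Lrfl Lrfl
theorem f651563 : v6158 = (LP (LK LD1_c1 LD2_c36 LD3_c52)) :=
  (Llr Lrot92 (Lpe (f651558 IH) (Lpr_ct (f651560 IH) (Lpe (f651562 IH) (Lpe (f76966 IH) (Lpr_bt (f73783 IH) (Lpr_gt (K9.f73775 IH) (Lpr_ct (K2.f73760 IH) (Lpe (K17.f414081 IH) (Lpe (K16.f413542 IH) (Lpr_bt (f414092 IH) (Lpr_gt (f414093 IH) (Lpn (LP (LK LD1_c1 LD2_c36 LD3_c52))))))))))))))).symm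
theorem f651565 : Led Lsl_bt (LP (LK LD1_c3 LD2_c18 LD3_c30)) = (LP (LK LD1_c1 LD2_c36 LD3_c52)) :=
  Leop (Lpq (f651563 IH) (Lpe (f651558 IH) (Lpn (LP (LK LD1_c3 LD2_c18 LD3_c30)))))
theorem seed_356 : LEOK LG_b (LK LD1_c3 LD2_c18 LD3_c30) :=
  Leoe_b (LK LD1_c3 LD2_c18 LD3_c30) (f651565 IH)
def v6173 : LQ := Led Lsl_ct (LP (LK LD1_c3 LD2_c18 LD3_c39))
theorem f651621 : Led Lsl_ct (LP (LK LD1_c3 LD2_c18 LD3_c39)) = v6173 :=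
  Lrfl
def v6036 : LQ := Led Lsl_et (LP (LK LD1_c3 LD2_c16 LD3_c49))
theorem f650657 : Led Lsl_et (LP (LK LD1_c3 LD2_c16 LD3_c49)) = v6036 :=
  Lrfl
theorem f650658 : Led Lsl_ef (LP (LK LD1_c3 LD2_c16 LD3_c49)) = v6036 :=
  Lgr Lrot88 (Lpr_et (f650657 IH) (Lpn v6036))
theorem f96111 : Led Lsl_et (LP (LK LD1_c3 LD2_c1 LD3_c56)) = (LP (LK LD1_c1 LD2_c26 LD3_c61)) :=
  Lre_e IH (LK LD1_c3 LD2_c1 LD3_c56) (LK LD1_c1 LD2_c26 LD3_c61) Lrfl Lrfl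
theorem f96113 : Led Lsl_gt (LP (LK LD1_c12 LD2_c1 LD3_c46)) = (LP (LK LD1_c6 LD2_c10 LD3_c35)) :=
  Lre_g IH (LK LD1_c12 LD2_c1 LD3_c46) (LK LD1_c6 LD2_c10 LD3_c35) Lrfl Lrfl
theorem f650659 : Led Lsl_df (LP (LK LD1_c12 LD2_c1 LD3_c46)) = v6036 :=
  Lgr Lrot170 (Lpr_gt (f96113 IH) (Lpe (f96112 IH) (Lpr_et (f96111 IH) (Lpr_gt (K5.f96103 IH) (Lpe (K3.f96089 IH) (Lpr_gt (K3.f64477 IH) (Lpe (K3.f64253 IH) (Lpr_et (K4.f96109 IH) (Lpr_gt (K5.f96110 IH) (Lpr_ef (f650658 IH) (Lpn v6036)))))))))))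
theorem f130791 : Led Lsl_dt (LP (LK LD1_c6 LD2_c10 LD3_c35)) = (LP (LK LD1_c3 LD2_c1 LD3_c56)) :=
  Lre_d IH (LK LD1_c6 LD2_c10 LD3_c35) (LK LD1_c3 LD2_c1 LD3_c56) Lrfl Lrfl
theorem f130790 : Led Lsl_ct (LP (LK LD1_c3 LD2_c1 LD3_c56)) = (LP (LK LD1_c1 LD2_c27 LD3_c0)) :=
  Lre_c IH (LK LD1_c3 LD2_c1 LD3_c56) (LK LD1_c1 LD2_c27 LD3_c0) Lrfl Lrfl
theorem f650661 : Led Lsl_gt (LP (LK LD1_c6 LD2_c40 LD3_c57)) = v6036 :=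
  Lgr Lrot94 (Lpe (K35.f130824 IH) (Lpr_gt (K5.f130822 IH) (Lpe (K5.f130808 IH) (Lpr_gt (K5.f130789 IH) (Lpe (K5.f130786 IH) (Lpe (f130790 IH) (Lpe (f130791 IH) (Lpe (f96113 IH) (Lpr_df (f650659 IH) (Lpn v6036))))))))))
theorem f453921 : Led Lsl_ct (LP (LK LD1_c6 LD2_c36 LD3_c15)) = (LP (LK LD1_c3 LD2_c16 LD3_c27)) :=
  Lre_c IH (LK LD1_c6 LD2_c36 LD3_c15) (LK LD1_c3 LD2_c16 LD3_c27) Lrfl Lrfl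
theorem f509008 : Led Lsl_ff (LP (LK LD1_c6 LD2_c36 LD3_c15)) = (LP (LK LD1_c6 LD2_c40 LD3_c57)) :=
  Lgr Lrot23 (Lpr_ct (f453921 IH) (Lpr_ft (K32.f509006 IH) (Lpr_ct (K35.f130824 IH) (Lpn (LP (LK LD1_c6 LD2_c40 LD3_c57))))))
theorem f62099 : Led Lsl_et (LP (LK LD1_c1 LD2_c35 LD3_c45)) = (LP (LK LD1_c0 LD2_c44 LD3_c24)) :=
  Lre_e IH (LK LD1_c1 LD2_c35 LD3_c45) (LK LD1_c0 LD2_c44 LD3_c24) Lrfl Lrfl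
theorem f62100 : Led Lsl_dt (LP (LK LD1_c3 LD2_c18 LD3_c40)) = (LP (LK LD1_c1 LD2_c35 LD3_c45)) :=
  Lre_d IH (LK LD1_c3 LD2_c18 LD3_c40) (LK LD1_c1 LD2_c35 LD3_c45) Lrfl Lrfl
theorem f62102 : Led Lsl_ef (LP (LK LD1_c3 LD2_c18 LD3_c40)) = (LP (LK LD1_c3 LD2_c16 LD3_c25)) :=
  Lgr Lrot73 (Lpr_dt (f62100 IH) (Lpr_et (f62099 IH) (Lpr_dt (K32.f62098 IH) (Lpr_et (K32.f62087 IH) (Lpr_dt (f62101 IH) (Lpn (LP (LK LD1_c3 LD2_c16 LD3_c25))))))))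
theorem f62165 : Led Lsl_ct (LP (LK LD1_c6 LD2_c36 LD3_c12)) = (LP (LK LD1_c3 LD2_c16 LD3_c25)) :=
  Lre_c IH (LK LD1_c6 LD2_c36 LD3_c12) (LK LD1_c3 LD2_c16 LD3_c25) Lrfl Lrfl
theorem f624121 : Led Lsl_et K32.v2105 = K35.v2111 :=
  Lgr Lrot123 (Lpe (K32.f508980 IH) (Lpe (K24.f453906 IH) (Lpr_af (K35.f624117 IH) (Lpn K35.v2111))))
theorem f624157 : K35.v2111 = (LP (LK LD1_c3 LD2_c18 LD3_c40)) :=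
  Lefun (Lecon (f624121 IH) (f624152 IH)) (Lfl_ef (f62102 IH))
theorem f508868 : Led Lsl_ft (LP (LK LD1_c6 LD2_c41 LD3_c10)) = (LP (LK LD1_c3 LD2_c18 LD3_c37)) :=
  Lre_f IH (LK LD1_c6 LD2_c41 LD3_c10) (LK LD1_c3 LD2_c18 LD3_c37) Lrfl Lrfl
theorem f509043 : Led Lsl_cf (LP (LK LD1_c6 LD2_c41 LD3_c10)) = K35.v2111 :=
  Lgr Lrot108 (Lpr_ft (f508868 IH) (Lpr_ct (f509029 IH) (Lpr_ft (K35.f509042 IH) (Lpn K35.v2111))))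
theorem f624165 : Led Lsl_ef (LP (LK LD1_c6 LD2_c36 LD3_c12)) = (LP (LK LD1_c6 LD2_c41 LD3_c10)) :=
  Lgr Lrot28 (Lpr_ct (f62165 IH) (Lpe (f62102 IH) (Lpq (f624157 IH) (Lpe (f509043 IH) (Lpn (LP (LK LD1_c6 LD2_c41 LD3_c10)))))))
theorem f509018 : Led Lsl_et (LP (LK LD1_c3 LD2_c18 LD3_c28)) = (LP (LK LD1_c6 LD2_c40 LD3_c57)) :=
  Lre_e IH (LK LD1_c3 LD2_c18 LD3_c28) (LK LD1_c6 LD2_c40 LD3_c57) Lrfl Lrfl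
theorem f624167 : Led Lsl_at (LP (LK LD1_c6 LD2_c36 LD3_c12)) = (LP (LK LD1_c3 LD2_c18 LD3_c28)) :=
  Lgr Lrot80 (Lpr_ef (f624165 IH) (Lpe (K35.f624119 IH) (Lpe (f509018 IH) (Lpn (LP (LK LD1_c3 LD2_c18 LD3_c28))))))
theorem f624276 : Led Lsl_af (LP (LK LD1_c6 LD2_c36 LD3_c12)) = (LP (LK LD1_c3 LD2_c18 LD3_c28)) :=
  Lgr Lrot0 (Lpr_at (f624167 IH) (Lpn (LP (LK LD1_c3 LD2_c18 LD3_c28))))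
theorem f624172 : Led Lsl_et (LP (LK LD1_c6 LD2_c36 LD3_c12)) = (LP (LK LD1_c6 LD2_c41 LD3_c10)) :=
  Lgr Lrot87 (Lpr_ef (f624165 IH) (Lpn (LP (LK LD1_c6 LD2_c41 LD3_c10))))
theorem f509016 : Led Lsl_et (LP (LK LD1_c6 LD2_c40 LD3_c57)) = (LP (LK LD1_c3 LD2_c18 LD3_c28)) :=
  Lre_e IH (LK LD1_c6 LD2_c40 LD3_c57) (LK LD1_c3 LD2_c18 LD3_c28) Lrfl Lrfl
theorem f624278 : Led Lsl_at (LP (LK LD1_c6 LD2_c41 LD3_c10)) = (LP (LK LD1_c6 LD2_c40 LD3_c57)) :=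
  Lgr Lrot80 (Lpe (f624172 IH) (Lpr_af (f624276 IH) (Lpe (f509016 IH) (Lpn (LP (LK LD1_c6 LD2_c40 LD3_c57))))))
theorem f624280 : Led Lsl_af (LP (LK LD1_c3 LD2_c18 LD3_c37)) = (LP (LK LD1_c6 LD2_c36 LD3_c15)) :=
  Lgr Lrot45 (Lpr_ft (K35.f508875 IH) (Lpr_at (f624278 IH) (Lpe (f509008 IH) (Lpn (LP (LK LD1_c6 LD2_c36 LD3_c15))))))
theorem f650662 : Led Lsl_gf (LP (LK LD1_c3 LD2_c18 LD3_c37)) = v6036 :=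
  Lgr Lrot76 (Lpr_af (f624280 IH) (Lpr_ff (f509008 IH) (Lpr_gt (f650661 IH) (Lpn v6036))))
theorem f130794 : Led Lsl_ct (LP (LK LD1_c6 LD2_c10 LD3_c35)) = (LP (LK LD1_c12 LD2_c1 LD3_c47)) :=
  Lre_c IH (LK LD1_c6 LD2_c10 LD3_c35) (LK LD1_c12 LD2_c1 LD3_c47) Lrfl Lrfl
theorem f151000 : Led Lsl_gt (LP (LK LD1_c12 LD2_c1 LD3_c47)) = (LP (LK LD1_c21 LD2_c7 LD3_c12)) :=
  Lre_g IH (LK LD1_c12 LD2_c1 LD3_c47) (LK LD1_c21 LD2_c7 LD3_c12) Lrfl Lrfl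
theorem f130800 : Led Lsl_ct (LP (LK LD1_c6 LD2_c10 LD3_c37)) = (LP (LK LD1_c3 LD2_c1 LD3_c57)) :=
  Lre_c IH (LK LD1_c6 LD2_c10 LD3_c37) (LK LD1_c3 LD2_c1 LD3_c57) Lrfl Lrfl
theorem f130815 : Led Lsl_et (LP (LK LD1_c3 LD2_c1 LD3_c57)) = (LP (LK LD1_c6 LD2_c10 LD3_c38)) :=
  Lre_e IH (LK LD1_c3 LD2_c1 LD3_c57) (LK LD1_c6 LD2_c10 LD3_c38) Lrfl Lrfl
theorem f114227 : Led Lsl_dt (LP (LK LD1_c3 LD2_c16 LD3_c54)) = (LP (LK LD1_c1 LD2_c35 LD3_c4)) :=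
  Lre_d IH (LK LD1_c3 LD2_c16 LD3_c54) (LK LD1_c1 LD2_c35 LD3_c4) Lrfl Lrfl
theorem f130817 : Led Lsl_et (LP (LK LD1_c6 LD2_c37 LD3_c12)) = (LP (LK LD1_c3 LD2_c16 LD3_c54)) :=
  Lre_e IH (LK LD1_c6 LD2_c37 LD3_c12) (LK LD1_c3 LD2_c16 LD3_c54) Lrfl Lrfl
theorem f130818 : Led Lsl_dt (LP (LK LD1_c6 LD2_c10 LD3_c38)) = (LP (LK LD1_c6 LD2_c37 LD3_c12)) :=
  Lgr Lrot77 (Lpe (f130815 IH) (Lpr_df (K5.f130808 IH) (Lpe (K5.f130816 IH) (Lpe (f114227 IH) (Lpe (f130817 IH) (Lpn (LP (LK LD1_c6 LD2_c37 LD3_c12))))))))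
theorem f130805 : Led Lsl_et (LP (LK LD1_c6 LD2_c10 LD3_c38)) = (LP (LK LD1_c3 LD2_c1 LD3_c57)) :=
  Lre_e IH (LK LD1_c6 LD2_c10 LD3_c38) (LK LD1_c3 LD2_c1 LD3_c57) Lrfl Lrfl
theorem f103594 : Led Lsl_et (LP (LK LD1_c0 LD2_c19 LD3_c47)) = (LP (LK LD1_c0 LD2_c44 LD3_c26)) :=
  Lre_e IH (LK LD1_c0 LD2_c19 LD3_c47) (LK LD1_c0 LD2_c44 LD3_c26) Lrfl Lrfl
theorem f439798 : Led Lsl_gt (LP (LK LD1_c0 LD2_c44 LD3_c26)) = (LP (LK LD1_c1 LD2_c35 LD3_c47)) :=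
  Lre_g IH (LK LD1_c0 LD2_c44 LD3_c26) (LK LD1_c1 LD2_c35 LD3_c47) Lrfl Lrfl
theorem f439799 : Led Lsl_dt (LP (LK LD1_c1 LD2_c35 LD3_c47)) = (LP (LK LD1_c3 LD2_c18 LD3_c43)) :=
  Lre_d IH (LK LD1_c1 LD2_c35 LD3_c47) (LK LD1_c3 LD2_c18 LD3_c43) Lrfl Lrfl
theorem f439800 : Led Lsl_gt (LP (LK LD1_c3 LD2_c18 LD3_c43)) = (LP (LK LD1_c6 LD2_c37 LD3_c12)) :=
  Lgr Lrot139 (Lpe (f439799 IH) (Lpe (f439798 IH) (Lpe (f103594 IH) (Lpr_dt (K7.f11287 IH) (Lpr_gf (K3.f103572 IH) (Lpr_df (K35.f109214 IH) (Lpr_et (K35.f130795 IH) (Lpe (K5.f130789 IH) (Lpe (f130805 IH) (Lpr_dt (f130818 IH) (Lpn (LP (LK LD1_c6 LD2_c37 LD3_c12)))))))))))))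
theorem f415754 : Led Lsl_ct (LP (LK LD1_c0 LD2_c44 LD3_c26)) = (LP (LK LD1_c1 LD2_c35 LD3_c38)) :=
  Lre_c IH (LK LD1_c0 LD2_c44 LD3_c26) (LK LD1_c1 LD2_c35 LD3_c38) Lrfl Lrfl
theorem f96048 : Led Lsl_gt (LP (LK LD1_c1 LD2_c35 LD3_c38)) = (LP (LK LD1_c3 LD2_c18 LD3_c19)) :=
  Lre_g IH (LK LD1_c1 LD2_c35 LD3_c38) (LK LD1_c3 LD2_c18 LD3_c19) Lrfl Lrfl
theorem f96050 : Led Lsl_dt (LP (LK LD1_c3 LD2_c18 LD3_c19)) = (LP (LK LD1_c6 LD2_c40 LD3_c37)) :=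
  Lre_d IH (LK LD1_c3 LD2_c18 LD3_c19) (LK LD1_c6 LD2_c40 LD3_c37) Lrfl Lrfl
theorem f96051 : Led Lsl_gt (LP (LK LD1_c6 LD2_c40 LD3_c37)) = (LP (LK LD1_c12 LD2_c46 LD3_c50)) :=
  Lre_g IH (LK LD1_c6 LD2_c40 LD3_c37) (LK LD1_c12 LD2_c46 LD3_c50) Lrfl Lrfl
theorem f439796 : Led Lsl_df (LP (LK LD1_c6 LD2_c10 LD3_c38)) = (LP (LK LD1_c6 LD2_c37 LD3_c12)) :=
  Lgr Lrot38 (Lpr_dt (f130818 IH) (Lpn (LP (LK LD1_c6 LD2_c37 LD3_c12))))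
theorem f439795 : Led Lsl_ct (LP (LK LD1_c12 LD2_c1 LD3_c51)) = (LP (LK LD1_c6 LD2_c10 LD3_c38)) :=
  Lre_c IH (LK LD1_c12 LD2_c1 LD3_c51) (LK LD1_c6 LD2_c10 LD3_c38) Lrfl Lrfl
theorem f439804 : Led Lsl_dt (LP (LK LD1_c12 LD2_c46 LD3_c50)) = (LP (LK LD1_c12 LD2_c1 LD3_c51)) :=
  Lgr Lrot105 (Lpe (f96051 IH) (Lpe (f96050 IH) (Lpe (f96048 IH) (Lpe (f415754 IH) (Lpr_gt (f439798 IH) (Lpr_dt (f439799 IH) (Lpr_gt (f439800 IH) (Lpe (f439796 IH) (Lpe (f439795 IH) (Lpn (LP (LK LD1_c12 LD2_c1 LD3_c51))))))))))))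
theorem f439818 : Led Lsl_df (LP (LK LD1_c12 LD2_c46 LD3_c50)) = (LP (LK LD1_c12 LD2_c1 LD3_c51)) :=
  Lgr Lrot38 (Lpr_dt (f439804 IH) (Lpn (LP (LK LD1_c12 LD2_c1 LD3_c51))))
theorem f63832 : Led Lsl_et (LP (LK LD1_c0 LD2_c44 LD3_c22)) = (LP (LK LD1_c1 LD2_c35 LD3_c38)) :=
  Lre_e IH (LK LD1_c0 LD2_c44 LD3_c22) (LK LD1_c1 LD2_c35 LD3_c38) Lrfl Lrfl
theorem f63732 : Led Lsl_dt (LP (LK LD1_c0 LD2_c44 LD3_c22)) = (LP (LK LD1_c1 LD2_c35 LD3_c33)) :=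
  Lre_d IH (LK LD1_c0 LD2_c44 LD3_c22) (LK LD1_c1 LD2_c35 LD3_c33) Lrfl Lrfl
theorem f95722 : Led Lsl_et (LP (LK LD1_c1 LD2_c27 LD3_c2)) = (LP (LK LD1_c3 LD2_c2 LD3_c2)) :=
  Lre_e IH (LK LD1_c1 LD2_c27 LD3_c2) (LK LD1_c3 LD2_c2 LD3_c2) Lrfl Lrfl
theorem f439821 : Led Lsl_et (LP (LK LD1_c12 LD2_c1 LD3_c51)) = (LP (LK LD1_c6 LD2_c10 LD3_c37)) :=
  Lre_e IH (LK LD1_c12 LD2_c1 LD3_c51) (LK LD1_c6 LD2_c10 LD3_c37) Lrfl Lrfl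
theorem f439860 : Led Lsl_gf (LP (LK LD1_c3 LD2_c2 LD3_c2)) = (LP (LK LD1_c6 LD2_c10 LD3_c37)) :=
  Lgr Lrot141 (Lpe (f95722 IH) (Lpr_dt (K3.f58414 IH) (Lpr_gt (K3.f96036 IH) (Lpe (f63732 IH) (Lpr_et (f63832 IH) (Lpr_gt (f96048 IH) (Lpr_dt (f96050 IH) (Lpr_gt (f96051 IH) (Lpr_df (f439818 IH) (Lpr_et (f439821 IH) (Lpn (LP (LK LD1_c6 LD2_c10 LD3_c37)))))))))))))
theorem f87366 : Led Lsl_dt (LP (LK LD1_c3 LD2_c2 LD3_c2)) = (LP (LK LD1_c6 LD2_c10 LD3_c49)) :=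
  Lre_d IH (LK LD1_c3 LD2_c2 LD3_c2) (LK LD1_c6 LD2_c10 LD3_c49) Lrfl Lrfl
theorem f439862 : Led Lsl_gt (LP (LK LD1_c6 LD2_c10 LD3_c49)) = (LP (LK LD1_c12 LD2_c2 LD3_c7)) :=
  Lre_g IH (LK LD1_c6 LD2_c10 LD3_c49) (LK LD1_c12 LD2_c2 LD3_c7) Lrfl Lrfl
theorem f651623 : Led Lsl_dt (LP (LK LD1_c12 LD2_c2 LD3_c7)) = v6173 :=
  Lgr Lrot113 (Lpe (f439862 IH) (Lpe (f87366 IH) (Lpr_gf (f439860 IH) (Lpr_ct (f130800 IH) (Lpr_gt (K5.f130789 IH) (Lpe (K5.f130786 IH) (Lpr_gt (K35.f502887 IH) (Lpr_dt (K35.f624113 IH) (Lpr_ct (f651621 IH) (Lpn v6173))))))))))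
theorem f651624 : Led Lsl_ct (LP (LK LD1_c21 LD2_c7 LD3_c12)) = (LP (LK LD1_c12 LD2_c2 LD3_c7)) :=
  Lgr Lrot110 (Lpe (f151000 IH) (Lpe (f130794 IH) (Lpe (f96113 IH) (Lpr_df (f650659 IH) (Lpe (f650662 IH) (Lpr_ct (f509029 IH) (Lpr_gt (K35.f62129 IH) (Lpr_ct (f651621 IH) (Lpe (f651623 IH) (Lpn (LP (LK LD1_c12 LD2_c2 LD3_c7))))))))))))
theorem f651625 : Led Lsl_ct (LP (LK LD1_c21 LD2_c7 LD3_c12)) = (LP (LK LD1_c12 LD2_c2 LD3_c7)) :=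
  Leop (Lpe (f651624 IH) (Lpn (LP (LK LD1_c21 LD2_c7 LD3_c12))))
theorem seed_357 : LEOK LG_c (LK LD1_c21 LD2_c7 LD3_c12) :=
  Leoe_c (LK LD1_c21 LD2_c7 LD3_c12) (f651625 IH)
theorem f651622 : Led Lsl_cf (LP (LK LD1_c3 LD2_c18 LD3_c39)) = v6173 :=
  Lgr Lrot11 (Lpr_ct (f651621 IH) (Lpn v6173))
def v6048 : LQ := Led Lsl_ft (LP (LK LD1_c3 LD2_c16 LD3_c55))
theorem f650733 : Led Lsl_ft (LP (LK LD1_c3 LD2_c16 LD3_c55)) = v6048 :=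
  Lrfl
def v6046 : LQ := Led Lsl_at (LP (LK LD1_c3 LD2_c16 LD3_c55))
theorem f650719 : Led Lsl_at (LP (LK LD1_c3 LD2_c16 LD3_c55)) = v6046 :=
  Lrfl
theorem f650720 : Led Lsl_af (LP (LK LD1_c3 LD2_c16 LD3_c55)) = v6046 :=
  Lgr Lrot0 (Lpr_at (f650719 IH) (Lpn v6046))
theorem f130813 : Led Lsl_dt (LP (LK LD1_c3 LD2_c1 LD3_c57)) = (LP (LK LD1_c3 LD2_c16 LD3_c55)) :=
  Lgr Lrot42 (Lpr_df (K5.f130808 IH) (Lpn (LP (LK LD1_c3 LD2_c16 LD3_c55))))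
def v5204 : LQ := Led Lsl_at (LP (LK LD1_c3 LD2_c1 LD3_c57))
theorem f646521 : Led Lsl_at (LP (LK LD1_c3 LD2_c1 LD3_c57)) = v5204 :=
  Lrfl
theorem f646522 : Led Lsl_af (LP (LK LD1_c3 LD2_c1 LD3_c57)) = v5204 :=
  Lgr Lrot0 (Lpr_at (f646521 IH) (Lpn v5204))
theorem f650721 : Led Lsl_df v5204 = v6046 :=
  Lgr Lrot18 (Lpe (f646522 IH) (Lpr_dt (f130813 IH) (Lpr_at (f650719 IH) (Lpn v6046))))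
theorem f453820 : Led Lsl_gf (LP (LK LD1_c3 LD2_c1 LD3_c57)) = K24.v532 :=
  Lgr Lrot47 (Lpr_gt (K5.f130789 IH) (Lpe (K5.f130778 IH) (Lpr_ff (K35.f453813 IH) (Lpn K24.v532))))
theorem f646523 : Led Lsl_ft K35.v1786 = v5204 :=
  Lgr Lrot2 (Lpe (K35.f502888 IH) (Lpe (f453820 IH) (Lpr_af (f646522 IH) (Lpn v5204))))
theorem f646524 : Led Lsl_ff K35.v1786 = v5204 :=
  Lgr Lrot3 (Lpr_ft (f646523 IH) (Lpn v5204))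
theorem f650725 : Led Lsl_ft (LP (LK LD1_c3 LD2_c18 LD3_c39)) = v6046 :=
  Lgr Lrot54 (Lpe (K35.f624113 IH) (Lpr_ff (f646524 IH) (Lpr_df (f650721 IH) (Lpn v6046))))
theorem f650734 : Led Lsl_af (LP (LK LD1_c3 LD2_c18 LD3_c39)) = v6048 :=
  Lgr Lrot45 (Lpr_ft (f650725 IH) (Lpe (f650720 IH) (Lpr_ft (f650733 IH) (Lpn v6048))))
theorem f130801 : Led Lsl_ct (LP (LK LD1_c3 LD2_c1 LD3_c57)) = (LP (LK LD1_c6 LD2_c10 LD3_c37)) :=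
  Lre_c IH (LK LD1_c3 LD2_c1 LD3_c57) (LK LD1_c6 LD2_c10 LD3_c37) Lrfl Lrfl
theorem f130810 : Led Lsl_dt (LP (LK LD1_c6 LD2_c10 LD3_c37)) = (LP (LK LD1_c12 LD2_c1 LD3_c50)) :=
  Lre_d IH (LK LD1_c6 LD2_c10 LD3_c37) (LK LD1_c12 LD2_c1 LD3_c50) Lrfl Lrfl
theorem f130811 : Led Lsl_ct (LP (LK LD1_c12 LD2_c1 LD3_c50)) = (LP (LK LD1_c21 LD2_c7 LD3_c16)) :=
  Lre_c IH (LK LD1_c12 LD2_c1 LD3_c50) (LK LD1_c21 LD2_c7 LD3_c16) Lrfl Lrfl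
theorem f651630 : Led Lsl_df (LP (LK LD1_c21 LD2_c7 LD3_c12)) = (LP (LK LD1_c21 LD2_c7 LD3_c16)) :=
  Lgr Lrot13 (Lpr_ct (f651624 IH) (Lpr_dt (f651623 IH) (Lpe (f651622 IH) (Lpr_af (f650734 IH) (Lpe (f650733 IH) (Lpe (K5.f130808 IH) (Lpr_ct (f130801 IH) (Lpr_dt (f130810 IH) (Lpr_ct (f130811 IH) (Lpn (LP (LK LD1_c21 LD2_c7 LD3_c16))))))))))))
theorem f651631 : Led Lsl_dt (LP (LK LD1_c21 LD2_c7 LD3_c16)) = (LP (LK LD1_c21 LD2_c7 LD3_c12)) :=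
  Leop (Lpr_df (f651630 IH) (Lpn (LP (LK LD1_c21 LD2_c7 LD3_c16))))
theorem seed_358 : LEOK LG_d (LK LD1_c21 LD2_c7 LD3_c16) :=
  Leoe_d (LK LD1_c21 LD2_c7 LD3_c16) (f651631 IH)
def v6180 : LQ := Led Lsl_at (LP (LK LD1_c3 LD2_c18 LD3_c43))
theorem f651679 : Led Lsl_at (LP (LK LD1_c3 LD2_c18 LD3_c43)) = v6180 :=
  Lrfl
def v2112 : LQ := Led Lsl_at (LP (LK LD1_c1 LD2_c35 LD3_c47))
theorem f509051 : Led Lsl_at (LP (LK LD1_c1 LD2_c35 LD3_c47)) = v2112 :=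
  Lrfl
theorem f509052 : Led Lsl_af (LP (LK LD1_c1 LD2_c35 LD3_c47)) = v2112 :=
  Lgr Lrot0 (Lpr_at (f509051 IH) (Lpn v2112))
theorem f651681 : Led Lsl_df v2112 = v6180 :=
  Lgr Lrot18 (Lpe (f509052 IH) (Lpr_dt (f439799 IH) (Lpr_at (f651679 IH) (Lpn v6180))))
theorem f103595 : Led Lsl_gt (LP (LK LD1_c1 LD2_c35 LD3_c48)) = (LP (LK LD1_c0 LD2_c44 LD3_c26)) :=
  Lre_g IH (LK LD1_c1 LD2_c35 LD3_c48) (LK LD1_c0 LD2_c44 LD3_c26) Lrfl Lrfl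
theorem f509053 : Led Lsl_ft (LP (LK LD1_c1 LD2_c35 LD3_c48)) = v2112 :=
  Lgr Lrot2 (Lpr_gt (f103595 IH) (Lpr_gt (f439798 IH) (Lpr_af (f509052 IH) (Lpn v2112))))
theorem f509056 : Led Lsl_ff (LP (LK LD1_c1 LD2_c35 LD3_c48)) = v2112 :=
  Lgr Lrot3 (Lpr_ft (f509053 IH) (Lpn v2112))
theorem f114247 : Led Lsl_dt (LP (LK LD1_c1 LD2_c35 LD3_c48)) = (LP (LK LD1_c3 LD2_c18 LD3_c45)) :=
  Lre_d IH (LK LD1_c1 LD2_c35 LD3_c48) (LK LD1_c3 LD2_c18 LD3_c45) Lrfl Lrfl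
theorem f651683 : Led Lsl_ft (LP (LK LD1_c3 LD2_c18 LD3_c45)) = v6180 :=
  Lgr Lrot54 (Lpe (f114247 IH) (Lpr_ff (f509056 IH) (Lpr_df (f651681 IH) (Lpn v6180))))
theorem f651680 : Led Lsl_af (LP (LK LD1_c3 LD2_c18 LD3_c43)) = v6180 :=
  Lgr Lrot0 (Lpr_at (f651679 IH) (Lpn v6180))
theorem f439802 : Led Lsl_gt (LP (LK LD1_c6 LD2_c41 LD3_c16)) = (LP (LK LD1_c3 LD2_c18 LD3_c43)) :=
  Lre_g IH (LK LD1_c6 LD2_c41 LD3_c16) (LK LD1_c3 LD2_c18 LD3_c43) Lrfl Lrfl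
theorem f651685 : Led Lsl_gt (LP (LK LD1_c3 LD2_c18 LD3_c45)) = (LP (LK LD1_c6 LD2_c41 LD3_c16)) :=
  Lgr Lrot5 (Lpr_ft (f651683 IH) (Lpe (f651680 IH) (Lpe (f439802 IH) (Lpn (LP (LK LD1_c6 LD2_c41 LD3_c16))))))
theorem f651686 : Led Lsl_gt (LP (LK LD1_c3 LD2_c18 LD3_c45)) = (LP (LK LD1_c6 LD2_c41 LD3_c16)) :=
  Leop (Lpe (f651685 IH) (Lpn (LP (LK LD1_c3 LD2_c18 LD3_c45))))
theorem seed_359 : LEOK LG_g (LK LD1_c3 LD2_c18 LD3_c45) :=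
  Leoe_g (LK LD1_c3 LD2_c18 LD3_c45) (f651686 IH)
theorem f434170 : Led Lsl_gt (LP (LK LD1_c3 LD2_c15 LD3_c12)) = (LP (LK LD1_c1 LD2_c35 LD3_c48)) :=
  Lre_g IH (LK LD1_c3 LD2_c15 LD3_c12) (LK LD1_c1 LD2_c35 LD3_c48) Lrfl Lrfl
theorem f443621 : Led Lsl_et (LP (LK LD1_c1 LD2_c34 LD3_c57)) = (LP (LK LD1_c3 LD2_c15 LD3_c12)) :=
  Lre_e IH (LK LD1_c1 LD2_c34 LD3_c57) (LK LD1_c3 LD2_c15 LD3_c12) Lrfl Lrfl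
def v1788 : LQ := Led Lsl_dt (LP (LK LD1_c1 LD2_c27 LD3_c7))
theorem f502904 : Led Lsl_dt (LP (LK LD1_c1 LD2_c27 LD3_c7)) = v1788 :=
  Lrfl
theorem f502905 : Led Lsl_df (LP (LK LD1_c1 LD2_c27 LD3_c7)) = v1788 :=
  Lgr Lrot38 (Lpr_dt (f502904 IH) (Lpn v1788))
def v5972 : LQ := Led Lsl_gf (LP (LK LD1_c3 LD2_c15 LD3_c44))
theorem f650316 : Led Lsl_gf (LP (LK LD1_c3 LD2_c15 LD3_c44)) = v5972 :=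
  Lrfl
theorem f66063 : Led Lsl_dt (LP (LK LD1_c3 LD2_c15 LD3_c44)) = (LP (LK LD1_c3 LD2_c17 LD3_c24)) :=
  Lre_d IH (LK LD1_c3 LD2_c15 LD3_c44) (LK LD1_c3 LD2_c17 LD3_c24) Lrfl Lrfl
theorem f650317 : Led Lsl_et v1788 = v5972 :=
  Lgr Lrot121 (Lpe (f502905 IH) (Lpe (K32.f62013 IH) (Lpe (K24.f66027 IH) (Lpr_et (K24.f443613 IH) (Lpe (K1.f61875 IH) (Lpe (K1.f61986 IH) (Lpr_dt (f62050 IH) (Lpe (f61991 IH) (Lpe (f66063 IH) (Lpr_gf (f650316 IH) (Lpn v5972)))))))))))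
theorem f508635 : Led Lsl_ft (LP (LK LD1_c6 LD2_c34 LD3_c48)) = (LP (LK LD1_c3 LD2_c15 LD3_c44)) :=
  Lre_f IH (LK LD1_c6 LD2_c34 LD3_c48) (LK LD1_c3 LD2_c15 LD3_c44) Lrfl Lrfl
def v5973 : LQ := Led Lsl_at (LP (LK LD1_c3 LD2_c15 LD3_c44))
theorem f650319 : Led Lsl_at (LP (LK LD1_c3 LD2_c15 LD3_c44)) = v5973 :=
  Lrfl
theorem f650999 : Led Lsl_ft v5973 = (LP (LK LD1_c6 LD2_c38 LD3_c6)) :=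
  Lgr Lrot101 (Lpe (f650319 IH) (Lpe (f508635 IH) (Lpr_af (f650992 IH) (Lpn (LP (LK LD1_c6 LD2_c38 LD3_c6))))))
theorem f651001 : Led Lsl_ff v5973 = (LP (LK LD1_c6 LD2_c38 LD3_c6)) :=
  Lgr Lrot3 (Lpr_ft (f650999 IH) (Lpn (LP (LK LD1_c6 LD2_c38 LD3_c6))))
theorem f650320 : Led Lsl_af (LP (LK LD1_c3 LD2_c15 LD3_c44)) = v5973 :=
  Lgr Lrot0 (Lpr_at (f650319 IH) (Lpn v5973))
theorem f651003 : Led Lsl_gf v5972 = (LP (LK LD1_c6 LD2_c38 LD3_c6)) :=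
  Lgr Lrot47 (Lpe (f650316 IH) (Lpr_af (f650320 IH) (Lpr_ff (f651001 IH) (Lpn (LP (LK LD1_c6 LD2_c38 LD3_c6))))))
theorem f62057 : Led Lsl_et (LP (LK LD1_c6 LD2_c11 LD3_c22)) = (LP (LK LD1_c6 LD2_c38 LD3_c6)) :=
  Lgr Lrot87 (Lpr_ef (f62052 IH) (Lpn (LP (LK LD1_c6 LD2_c38 LD3_c6))))
theorem f651689 : Led Lsl_dt (LP (LK LD1_c6 LD2_c11 LD3_c22)) = (LP (LK LD1_c6 LD2_c41 LD3_c16)) :=
  Lgr Lrot56 (Lpr_et (f62057 IH) (Lpe (f651003 IH) (Lpe (f650317 IH) (Lpe (f502905 IH) (Lpr_gt (K32.f62081 IH) (Lpe (K24.f66034 IH) (Lpr_et (f443621 IH) (Lpr_gt (f434170 IH) (Lpr_dt (f114247 IH) (Lpr_gt (f651685 IH) (Lpn (LP (LK LD1_c6 LD2_c41 LD3_c16)))))))))))))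
theorem f651690 : Led Lsl_dt (LP (LK LD1_c6 LD2_c11 LD3_c22)) = (LP (LK LD1_c6 LD2_c41 LD3_c16)) :=
  Leop (Lpe (f651689 IH) (Lpn (LP (LK LD1_c6 LD2_c11 LD3_c22))))
theorem seed_360 : LEOK LG_d (LK LD1_c6 LD2_c11 LD3_c22) :=
  Leoe_d (LK LD1_c6 LD2_c11 LD3_c22) (f651690 IH)
def v6189 : LQ := Led Lsl_dt (LP (LK LD1_c3 LD2_c18 LD3_c46))
theorem f651727 : Led Lsl_dt (LP (LK LD1_c3 LD2_c18 LD3_c46)) = v6189 :=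
  Lrfl
theorem f651729 : Led Lsl_df (LP (LK LD1_c3 LD2_c18 LD3_c46)) = v6189 :=
  Lgr Lrot38 (Lpr_dt (f651727 IH) (Lpn v6189))
theorem f434168 : Led Lsl_gt (LP (LK LD1_c3 LD2_c18 LD3_c46)) = (LP (LK LD1_c6 LD2_c33 LD3_c50)) :=
  Lre_g IH (LK LD1_c3 LD2_c18 LD3_c46) (LK LD1_c6 LD2_c33 LD3_c50) Lrfl Lrfl
theorem f441169 : Led Lsl_dt (LP (LK LD1_c3 LD2_c15 LD3_c12)) = (LP (LK LD1_c6 LD2_c33 LD3_c50)) :=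
  Lre_d IH (LK LD1_c3 LD2_c15 LD3_c12) (LK LD1_c6 LD2_c33 LD3_c50) Lrfl Lrfl
theorem f441172 : Led Lsl_et (LP (LK LD1_c3 LD2_c15 LD3_c12)) = (LP (LK LD1_c1 LD2_c34 LD3_c57)) :=
  Lre_e IH (LK LD1_c3 LD2_c15 LD3_c12) (LK LD1_c1 LD2_c34 LD3_c57) Lrfl Lrfl
theorem f62124 : Led Lsl_dt (LP (LK LD1_c1 LD2_c35 LD3_c45)) = (LP (LK LD1_c3 LD2_c18 LD3_c40)) :=
  Lre_d IH (LK LD1_c1 LD2_c35 LD3_c45) (LK LD1_c3 LD2_c18 LD3_c40) Lrfl Lrfl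
def v531 : LQ := Led Lsl_gf (LP (LK LD1_c0 LD2_c43 LD3_c57))
def v3147 : LQ := Led Lsl_dt v531
theorem f624033 : Led Lsl_dt v531 = v3147 :=
  Lrfl
theorem f624034 : Led Lsl_df v531 = v3147 :=
  Lgr Lrot38 (Lpr_dt (f624033 IH) (Lpn v3147))
theorem f453808 : Led Lsl_gf (LP (LK LD1_c0 LD2_c43 LD3_c57)) = v531 :=
  Lrfl
theorem f62167 : Led Lsl_et (LP (LK LD1_c1 LD2_c26 LD3_c57)) = (LP (LK LD1_c0 LD2_c40 LD3_c16)) :=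
  Lre_e IH (LK LD1_c1 LD2_c26 LD3_c57) (LK LD1_c0 LD2_c40 LD3_c16) Lrfl Lrfl
theorem f62166 : Led Lsl_dt (LP (LK LD1_c1 LD2_c26 LD3_c57)) = (LP (LK LD1_c0 LD2_c44 LD3_c10)) :=
  Lre_d IH (LK LD1_c1 LD2_c26 LD3_c57) (LK LD1_c0 LD2_c44 LD3_c10) Lrfl Lrfl
theorem f62125 : Led Lsl_dt (LP (LK LD1_c3 LD2_c16 LD3_c25)) = (LP (LK LD1_c1 LD2_c34 LD3_c55)) :=
  Lre_d IH (LK LD1_c3 LD2_c16 LD3_c25) (LK LD1_c1 LD2_c34 LD3_c55) Lrfl Lrfl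
theorem f624035 : Led Lsl_gt (LP (LK LD1_c3 LD2_c18 LD3_c40)) = v3147 :=
  Lgr Lrot137 (Lpr_ef (f62102 IH) (Lpr_dt (f62125 IH) (Lpe (K32.f62109 IH) (Lpe (f62166 IH) (Lpr_et (f62167 IH) (Lpe (K1.f65387 IH) (Lpe (K5.f65399 IH) (Lpe (K5.f65408 IH) (Lpr_gf (f453808 IH) (Lpr_df (f624034 IH) (Lpn v3147)))))))))))
def v3148 : LQ := Led Lsl_et v531
theorem f624038 : Led Lsl_et v531 = v3148 :=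
  Lrfl
theorem f651731 : Led Lsl_gt v3148 = v6189 :=
  Lgr Lrot137 (Lpe (f624038 IH) (Lpr_dt (f624033 IH) (Lpe (f624035 IH) (Lpe (f62124 IH) (Lpr_et (f62099 IH) (Lpe (K5.f62083 IH) (Lpe (f441172 IH) (Lpr_dt (f441169 IH) (Lpe (f434168 IH) (Lpr_df (f651729 IH) (Lpn v6189)))))))))))
def v6187 : LQ := Led Lsl_at (LP (LK LD1_c3 LD2_c18 LD3_c46))
theorem f651717 : Led Lsl_at (LP (LK LD1_c3 LD2_c18 LD3_c46)) = v6187 :=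
  Lrfl
theorem f651718 : Led Lsl_af (LP (LK LD1_c3 LD2_c18 LD3_c46)) = v6187 :=
  Lgr Lrot0 (Lpr_at (f651717 IH) (Lpn v6187))
theorem f434156 : Led Lsl_gt (LP (LK LD1_c1 LD2_c35 LD3_c49)) = (LP (LK LD1_c3 LD2_c18 LD3_c46)) :=
  Lre_g IH (LK LD1_c1 LD2_c35 LD3_c49) (LK LD1_c3 LD2_c18 LD3_c46) Lrfl Lrfl
theorem f119260 : Led Lsl_gt (LP (LK LD1_c3 LD2_c18 LD3_c47)) = (LP (LK LD1_c1 LD2_c35 LD3_c49)) :=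
  Lre_g IH (LK LD1_c3 LD2_c18 LD3_c47) (LK LD1_c1 LD2_c35 LD3_c49) Lrfl Lrfl
theorem f651720 : Led Lsl_ft (LP (LK LD1_c3 LD2_c18 LD3_c47)) = v6187 :=
  Lgr Lrot2 (Lpr_gt (f119260 IH) (Lpr_gt (f434156 IH) (Lpr_af (f651718 IH) (Lpn v6187))))
theorem f441148 : Led Lsl_et (LP (LK LD1_c0 LD2_c44 LD3_c26)) = (LP (LK LD1_c0 LD2_c19 LD3_c47)) :=
  Lre_e IH (LK LD1_c0 LD2_c44 LD3_c26) (LK LD1_c0 LD2_c19 LD3_c47) Lrfl Lrfl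
theorem f114232 : Led Lsl_dt (LP (LK LD1_c0 LD2_c44 LD3_c26)) = (LP (LK LD1_c1 LD2_c35 LD3_c49)) :=
  Lre_d IH (LK LD1_c0 LD2_c44 LD3_c26) (LK LD1_c1 LD2_c35 LD3_c49) Lrfl Lrfl
theorem f110034 : Led Lsl_et (LP (LK LD1_c0 LD2_c40 LD3_c16)) = (LP (LK LD1_c1 LD2_c26 LD3_c57)) :=
  Lre_e IH (LK LD1_c0 LD2_c40 LD3_c16) (LK LD1_c1 LD2_c26 LD3_c57) Lrfl Lrfl
theorem f441149 : Led Lsl_et (LP (LK LD1_c6 LD2_c10 LD3_c19)) = (LP (LK LD1_c3 LD2_c1 LD3_c45)) :=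
  Lre_e IH (LK LD1_c6 LD2_c10 LD3_c19) (LK LD1_c3 LD2_c1 LD3_c45) Lrfl Lrfl
theorem f441150 : Led Lsl_df (LP (LK LD1_c3 LD2_c18 LD3_c47)) = (LP (LK LD1_c6 LD2_c10 LD3_c19)) :=
  Lgr Lrot170 (Lpr_gt (f119260 IH) (Lpe (f114232 IH) (Lpr_et (f441148 IH) (Lpr_gt (K3.f60969 IH) (Lpr_dt (K39.f113976 IH) (Lpe (K6.f110019 IH) (Lpe (K2.f62947 IH) (Lpr_et (f110034 IH) (Lpr_gt (f103213 IH) (Lpe (f441149 IH) (Lpn (LP (LK LD1_c6 LD2_c10 LD3_c19)))))))))))))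
theorem f441162 : Led Lsl_ft (LP (LK LD1_c12 LD2_c1 LD3_c26)) = (LP (LK LD1_c6 LD2_c10 LD3_c19)) :=
  Lre_f IH (LK LD1_c12 LD2_c1 LD3_c26) (LK LD1_c6 LD2_c10 LD3_c19) Lrfl Lrfl
theorem f651721 : Led Lsl_df (LP (LK LD1_c12 LD2_c1 LD3_c26)) = v6187 :=
  Lgr Lrot78 (Lpr_ft (f441162 IH) (Lpe (f441150 IH) (Lpr_ft (f651720 IH) (Lpn v6187))))
theorem f651730 : Led Lsl_at (LP (LK LD1_c12 LD2_c1 LD3_c26)) = v6189 :=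
  Lgr Lrot51 (Lpr_df (f651721 IH) (Lpe (f651717 IH) (Lpr_df (f651729 IH) (Lpn v6189))))
theorem f441163 : Led Lsl_ft (LP (LK LD1_c6 LD2_c10 LD3_c19)) = (LP (LK LD1_c12 LD2_c1 LD3_c26)) :=
  Lre_f IH (LK LD1_c6 LD2_c10 LD3_c19) (LK LD1_c12 LD2_c1 LD3_c26) Lrfl Lrfl
theorem f651732 : Led Lsl_gf v3148 = (LP (LK LD1_c6 LD2_c10 LD3_c19)) :=
  Lgr Lrot47 (Lpr_gt (f651731 IH) (Lpe (f651730 IH) (Lpe (f441163 IH) (Lpn (LP (LK LD1_c6 LD2_c10 LD3_c19))))))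
theorem f502909 : Led Lsl_et (LP (LK LD1_c1 LD2_c34 LD3_c34)) = (LP (LK LD1_c3 LD2_c15 LD3_c44)) :=
  Lre_e IH (LK LD1_c1 LD2_c34 LD3_c34) (LK LD1_c3 LD2_c15 LD3_c44) Lrfl Lrfl
def v2058 : LQ := Led Lsl_at (LP (LK LD1_c1 LD2_c34 LD3_c34))
theorem f508624 : Led Lsl_at (LP (LK LD1_c1 LD2_c34 LD3_c34)) = v2058 :=
  Lrfl
theorem f508625 : Led Lsl_af (LP (LK LD1_c1 LD2_c34 LD3_c34)) = v2058 :=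
  Lgr Lrot0 (Lpr_at (f508624 IH) (Lpn v2058))
theorem f650321 : Led Lsl_ef v2058 = v5973 :=
  Lgr Lrot20 (Lpe (f508625 IH) (Lpr_et (f502909 IH) (Lpr_at (f650319 IH) (Lpn v5973))))
theorem f650322 : Led Lsl_et v2058 = v5973 :=
  Lgr Lrot87 (Lpr_ef (f650321 IH) (Lpn v5973))
theorem f508626 : Led Lsl_ft v531 = v2058 :=
  Lgr Lrot2 (Lpe (f453808 IH) (Lpr_gt (K24.f65478 IH) (Lpr_af (f508625 IH) (Lpn v2058))))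
theorem f624039 : Led Lsl_ef v531 = v3148 :=
  Lgr Lrot88 (Lpr_et (f624038 IH) (Lpn v3148))
theorem f651000 : Led Lsl_ff v3148 = (LP (LK LD1_c6 LD2_c11 LD3_c22)) :=
  Lgr Lrot72 (Lpe (f624039 IH) (Lpr_ft (f508626 IH) (Lpr_et (f650322 IH) (Lpr_ft (f650999 IH) (Lpe (f62052 IH) (Lpn (LP (LK LD1_c6 LD2_c11 LD3_c22))))))))
def v5228 : LQ := Led Lsl_gt (LP (LK LD1_c3 LD2_c2 LD3_c17))
theorem f646690 : Led Lsl_gt (LP (LK LD1_c3 LD2_c2 LD3_c17)) = v5228 :=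
  Lrfl
theorem f651004 : Led Lsl_at v3148 = v5228 :=
  Lgr Lrot26 (Lpr_ff (f651000 IH) (Lpr_gt (f62033 IH) (Lpr_gt (f646690 IH) (Lpn v5228))))
theorem f651005 : Led Lsl_af v3148 = v5228 :=
  Lgr Lrot0 (Lpr_at (f651004 IH) (Lpn v5228))
theorem f441164 : Led Lsl_gt (LP (LK LD1_c12 LD2_c1 LD3_c25)) = (LP (LK LD1_c6 LD2_c10 LD3_c19)) :=
  Lre_g IH (LK LD1_c12 LD2_c1 LD3_c25) (LK LD1_c6 LD2_c10 LD3_c19) Lrfl Lrfl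
theorem f651733 : Led Lsl_ff v5228 = (LP (LK LD1_c12 LD2_c1 LD3_c25)) :=
  Lgr Lrot52 (Lpe (f651005 IH) (Lpr_gf (f651732 IH) (Lpe (f441164 IH) (Lpn (LP (LK LD1_c12 LD2_c1 LD3_c25))))))
theorem f508629 : Led Lsl_ff v531 = v2058 :=
  Lgr Lrot3 (Lpr_ft (f508626 IH) (Lpn v2058))
theorem f651002 : Led Lsl_ft v3148 = (LP (LK LD1_c6 LD2_c11 LD3_c22)) :=
  Lgr Lrot86 (Lpe (f624038 IH) (Lpr_ff (f508629 IH) (Lpr_ef (f650321 IH) (Lpr_ff (f651001 IH) (Lpe (f62057 IH) (Lpn (LP (LK LD1_c6 LD2_c11 LD3_c22))))))))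
theorem f651735 : Led Lsl_at (LP (LK LD1_c6 LD2_c11 LD3_c22)) = (LP (LK LD1_c12 LD2_c1 LD3_c25)) :=
  Lgr Lrot66 (Lpe (f651002 IH) (Lpr_af (f651005 IH) (Lpr_ff (f651733 IH) (Lpn (LP (LK LD1_c12 LD2_c1 LD3_c25))))))
theorem f651736 : Led Lsl_at (LP (LK LD1_c6 LD2_c11 LD3_c22)) = (LP (LK LD1_c12 LD2_c1 LD3_c25)) :=
  Leop (Lpe (f651735 IH) (Lpn (LP (LK LD1_c6 LD2_c11 LD3_c22))))
theorem seed_361 : LEOK LG_a (LK LD1_c6 LD2_c11 LD3_c22) :=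
  Leoe_a (LK LD1_c6 LD2_c11 LD3_c22) (f651736 IH)
def v5967 : LQ := Led Lsl_at (LP (LK LD1_c3 LD2_c15 LD3_c43))
theorem f650295 : Led Lsl_at (LP (LK LD1_c3 LD2_c15 LD3_c43)) = v5967 :=
  Lrfl
theorem f65479 : Led Lsl_dt (LP (LK LD1_c1 LD2_c34 LD3_c34)) = (LP (LK LD1_c3 LD2_c15 LD3_c43)) :=
  Lre_d IH (LK LD1_c1 LD2_c34 LD3_c34) (LK LD1_c3 LD2_c15 LD3_c43) Lrfl Lrfl
theorem f650297 : Led Lsl_df v2058 = v5967 :=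
  Lgr Lrot18 (Lpe (f508625 IH) (Lpr_dt (f65479 IH) (Lpr_at (f650295 IH) (Lpn v5967))))
theorem f650298 : Led Lsl_dt v2058 = v5967 :=
  Lgr Lrot42 (Lpr_df (f650297 IH) (Lpn v5967))
def v2060 : LQ := Led Lsl_ft (LP (LK LD1_c1 LD2_c34 LD3_c34))
theorem f508633 : Led Lsl_ft (LP (LK LD1_c1 LD2_c34 LD3_c34)) = v2060 :=
  Lrfl
theorem f508634 : Led Lsl_af v531 = v2060 :=
  Lgr Lrot45 (Lpr_ft (f508626 IH) (Lpe (f508625 IH) (Lpr_ft (f508633 IH) (Lpn v2060))))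
theorem f651006 : Led Lsl_ef v2060 = v5228 :=
  Lgr Lrot20 (Lpe (f508634 IH) (Lpr_et (f624038 IH) (Lpr_at (f651004 IH) (Lpn v5228))))
theorem f508636 : Led Lsl_ff (LP (LK LD1_c1 LD2_c34 LD3_c34)) = v2060 :=
  Lgr Lrot3 (Lpr_ft (f508633 IH) (Lpn v2060))
theorem f651737 : Led Lsl_et (LP (LK LD1_c6 LD2_c34 LD3_c48)) = (LP (LK LD1_c12 LD2_c1 LD3_c25)) :=
  Lgr Lrot69 (Lpe (f508638 IH) (Lpe (f502909 IH) (Lpr_ff (f508636 IH) (Lpr_ef (f651006 IH) (Lpr_ff (f651733 IH) (Lpn (LP (LK LD1_c12 LD2_c1 LD3_c25))))))))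
theorem f119212 : Led Lsl_et (LP (LK LD1_c1 LD2_c34 LD3_c49)) = (LP (LK LD1_c0 LD2_c44 LD3_c8)) :=
  Lre_e IH (LK LD1_c1 LD2_c34 LD3_c49) (LK LD1_c0 LD2_c44 LD3_c8) Lrfl Lrfl
theorem f118245 : Led Lsl_gt (LP (LK LD1_c3 LD2_c16 LD3_c7)) = (LP (LK LD1_c6 LD2_c35 LD3_c32)) :=
  Lre_g IH (LK LD1_c3 LD2_c16 LD3_c7) (LK LD1_c6 LD2_c35 LD3_c32) Lrfl Lrfl
theorem f651744 : v6095 = (LP (LK LD1_c6 LD2_c35 LD3_c32)) :=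
  (Llr Lrot37 (Lpe (f650990 IH) (Lpr_et (f651737 IH) (Lpr_gt (f441164 IH) (Lpe (f441150 IH) (Lpr_gt (f119260 IH) (Lpe (f114232 IH) (Lpr_et (f441148 IH) (Lpr_gt (K3.f60969 IH) (Lpe (f119212 IH) (Lpr_dt (K4.f113979 IH) (Lpr_gt (f118245 IH) (Lpn (LP (LK LD1_c6 LD2_c35 LD3_c32))))))))))))))).symm
def v6098 : LQ := Led Lsl_ft (LP (LK LD1_c3 LD2_c17 LD3_c23))
theorem f651041 : Led Lsl_ft (LP (LK LD1_c3 LD2_c17 LD3_c23)) = v6098 :=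
  Lrfl
theorem f651044 : Led Lsl_ff (LP (LK LD1_c3 LD2_c17 LD3_c23)) = v6098 :=
  Lgr Lrot3 (Lpr_ft (f651041 IH) (Lpn v6098))
theorem f651045 : Led Lsl_at (LP (LK LD1_c3 LD2_c17 LD3_c24)) = v6098 :=
  Lgr Lrot66 (Lpr_ff (f650989 IH) (Lpe (f650985 IH) (Lpr_ff (f651044 IH) (Lpn v6098))))
theorem f118246 : Led Lsl_gf (LP (LK LD1_c3 LD2_c17 LD3_c26)) = (LP (LK LD1_c6 LD2_c35 LD3_c32)) :=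
  Lgr Lrot76 (Lpr_af (K4.f118240 IH) (Lpe (K4.f118239 IH) (Lpr_gt (f118245 IH) (Lpn (LP (LK LD1_c6 LD2_c35 LD3_c32))))))
def v6001 : LQ := Led Lsl_gf (LP (LK LD1_c3 LD2_c16 LD3_c7))
theorem f650473 : Led Lsl_gf (LP (LK LD1_c3 LD2_c16 LD3_c7)) = v6001 :=
  Lrfl
theorem f650474 : Led Lsl_gt (LP (LK LD1_c3 LD2_c17 LD3_c26)) = v6001 :=
  Lgr Lrot5 (Lpr_ft (K4.f118232 IH) (Lpr_at (K4.f118233 IH) (Lpr_gf (f650473 IH) (Lpn v6001))))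
theorem f651807 : v6098 = v6001 :=
  (Llr Lrot26 (Lpe (f651045 IH) (Lpr_ff (f650989 IH) (Lpqs (f651744 IH) (Lpe (f118246 IH) (Lpr_gt (f650474 IH) (Lpn v6001))))))).symm
theorem f651046 : Led Lsl_dt v5973 = v6098 :=
  Lgr Lrot60 (Lpr_ff (f651001 IH) (Lpe (f61993 IH) (Lpr_ff (f651044 IH) (Lpn v6098))))
theorem f118253 : Led Lsl_af (LP (LK LD1_c1 LD2_c35 LD3_c17)) = (LP (LK LD1_c3 LD2_c16 LD3_c8)) :=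
  Lgr Lrot0 (Lpr_at (K4.f118243 IH) (Lpn (LP (LK LD1_c3 LD2_c16 LD3_c8))))
theorem f118521 : Led Lsl_ef (LP (LK LD1_c3 LD2_c16 LD3_c2)) = (LP (LK LD1_c1 LD2_c35 LD3_c17)) :=
  Lgr Lrot20 (Lpr_at (K4.f118501 IH) (Lpr_et (f118356 IH) (Lpe (f118253 IH) (Lpn (LP (LK LD1_c1 LD2_c35 LD3_c17))))))
theorem f118506 : Led Lsl_gf (LP (LK LD1_c3 LD2_c16 LD3_c2)) = (LP (LK LD1_c1 LD2_c35 LD3_c4)) :=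
  Lgr Lrot76 (Lpr_af (K4.f118496 IH) (Lpe (K4.f118495 IH) (Lpr_gt (K5.f114226 IH) (Lpn (LP (LK LD1_c1 LD2_c35 LD3_c4))))))
theorem f651808 : v2058 = K35.v1786 :=
  (Llr Lrot121 (Lpr_ef (f650321 IH) (Lpr_dt (f651046 IH) (Lpqs (f651807 IH) (Lpe (f650474 IH) (Lpe (K4.f118025 IH) (Lpe (f118521 IH) (Lpr_gf (f118506 IH) (Lpe (K5.f118516 IH) (Lpe (K5.f130808 IH) (Lpr_gf (f453820 IH) (Lpe (K35.f453819 IH) (Lpr_gf (K35.f502888 IH) (Lpn K35.v1786)))))))))))))).symm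
theorem f651810 : v5967 = (LP (LK LD1_c3 LD2_c18 LD3_c39)) :=
  Lefun (Lecon (f650298 IH) (f651808 IH)) (K35.f624113 IH)
theorem f651813 : Led Lsl_at (LP (LK LD1_c3 LD2_c15 LD3_c43)) = (LP (LK LD1_c3 LD2_c18 LD3_c39)) :=
  Leop (Lpq (f651810 IH) (Lpe (f650295 IH) (Lpn (LP (LK LD1_c3 LD2_c15 LD3_c43)))))
theorem seed_362 : LEOK LG_a (LK LD1_c3 LD2_c15 LD3_c43) :=
  Leoe_a (LK LD1_c3 LD2_c15 LD3_c43) (f651813 IH)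
theorem f651007 : Led Lsl_et v2060 = v5228 :=
  Lgr Lrot87 (Lpr_ef (f651006 IH) (Lpn v5228))
def v5206 : LQ := Led Lsl_ft (LP (LK LD1_c3 LD2_c1 LD3_c57))
theorem f646527 : Led Lsl_ft (LP (LK LD1_c3 LD2_c1 LD3_c57)) = v5206 :=
  Lrfl
theorem f646529 : Led Lsl_ff (LP (LK LD1_c3 LD2_c1 LD3_c57)) = v5206 :=
  Lgr Lrot3 (Lpr_ft (f646527 IH) (Lpn v5206))
theorem f646530 : Led Lsl_at K35.v1786 = v5206 :=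
  Lgr Lrot66 (Lpr_ff (f646524 IH) (Lpe (f646521 IH) (Lpr_ff (f646529 IH) (Lpn v5206))))
theorem f651809 : (LP (LK LD1_c1 LD2_c34 LD3_c34)) = v5206 :=
  Lefun (Lecon (Lfl_af (f508625 IH)) (f651808 IH)) (f646530 IH)
theorem f651815 : (LP (LK LD1_c3 LD2_c1 LD3_c57)) = v2060 :=
  Lefun (Lecon (Lfl_ff (f646529 IH)) (f651809 IH).symm) (f508633 IH)
theorem f651825 : v5228 = (LP (LK LD1_c6 LD2_c10 LD3_c38)) :=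
  Lefun (Lecon (f651007 IH) (f651815 IH).symm) (f130815 IH)
theorem f651826 : Led Lsl_gt (LP (LK LD1_c3 LD2_c2 LD3_c17)) = (LP (LK LD1_c6 LD2_c10 LD3_c38)) :=
  Leop (Lpq (f651825 IH) (Lpe (f646690 IH) (Lpn (LP (LK LD1_c3 LD2_c2 LD3_c17)))))
theorem seed_363 : LEOK LG_g (LK LD1_c3 LD2_c2 LD3_c17) :=
  Leoe_g (LK LD1_c3 LD2_c2 LD3_c17) (f651826 IH)
def v5993 : LQ := Led Lsl_at (LP (LK LD1_c3 LD2_c16 LD3_c0))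
theorem f650424 : Led Lsl_at (LP (LK LD1_c3 LD2_c16 LD3_c0)) = v5993 :=
  Lrfl
theorem f650425 : Led Lsl_af (LP (LK LD1_c3 LD2_c16 LD3_c0)) = v5993 :=
  Lgr Lrot0 (Lpr_at (f650424 IH) (Lpn v5993))
theorem f110220 : Led Lsl_gt (LP (LK LD1_c3 LD2_c16 LD3_c0)) = (LP (LK LD1_c1 LD2_c34 LD3_c46)) :=
  Lre_g IH (LK LD1_c3 LD2_c16 LD3_c0) (LK LD1_c1 LD2_c34 LD3_c46) Lrfl Lrfl
theorem f118535 : Led Lsl_gf (LP (LK LD1_c3 LD2_c16 LD3_c0)) = (LP (LK LD1_c1 LD2_c35 LD3_c7)) :=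
  Lgr Lrot47 (Lpr_gt (f110220 IH) (Lpr_af (K4.f118525 IH) (Lpe (K4.f118524 IH) (Lpn (LP (LK LD1_c1 LD2_c35 LD3_c7))))))
def v2071 : LQ := Led Lsl_gt (LP (LK LD1_c1 LD2_c34 LD3_c46))
theorem f508684 : Led Lsl_gt (LP (LK LD1_c1 LD2_c34 LD3_c46)) = v2071 :=
  Lrfl
theorem f508685 : Led Lsl_gf (LP (LK LD1_c1 LD2_c35 LD3_c7)) = v2071 :=
  Lgr Lrot76 (Lpe (K4.f118501 IH) (Lpe (K4.f118523 IH) (Lpr_gt (f508684 IH) (Lpn v2071))))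
theorem f650426 : Led Lsl_ft v2071 = v5993 :=
  Lgr Lrot2 (Lpe (f508685 IH) (Lpe (f118535 IH) (Lpr_af (f650425 IH) (Lpn v5993))))
theorem f650722 : Led Lsl_ef v2078 = v6046 :=
  Lgr Lrot20 (Lpe (f508718 IH) (Lpr_et (K5.f130816 IH) (Lpr_at (f650719 IH) (Lpn v6046))))
theorem f110216 : Led Lsl_et (LP (LK LD1_c0 LD2_c44 LD3_c7)) = (LP (LK LD1_c1 LD2_c34 LD3_c46)) :=
  Lre_e IH (LK LD1_c0 LD2_c44 LD3_c7) (LK LD1_c1 LD2_c34 LD3_c46) Lrfl Lrfl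
theorem f624036 : Led Lsl_ef v2071 = v3147 :=
  Lgr Lrot17 (Lpe (f508684 IH) (Lpe (f110216 IH) (Lpr_dt (K3.f110197 IH) (Lpe (K3.f110016 IH) (Lpe (K2.f62947 IH) (Lpe (K1.f65387 IH) (Lpe (K5.f65399 IH) (Lpe (K5.f65408 IH) (Lpr_gf (f453808 IH) (Lpr_df (f624034 IH) (Lpn v3147)))))))))))
theorem f650299 : Led Lsl_ft v3147 = v5967 :=
  Lgr Lrot54 (Lpe (f624033 IH) (Lpr_ff (f508629 IH) (Lpr_df (f650297 IH) (Lpn v5967))))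
theorem f650300 : Led Lsl_ff v3147 = v5967 :=
  Lgr Lrot3 (Lpr_ft (f650299 IH) (Lpn v5967))
theorem f651818 : v3147 = v6046 :=
  Lefun (Lecon (Lfl_ff (f650300 IH)) (f651810 IH)) (f650725 IH)
theorem f651829 : v2078 = v2071 :=
  Lefun (Lecon (Lfl_ef (f650722 IH)) (f651818 IH).symm) (Lfl_ef (f624036 IH))
theorem f651831 : (LP (LK LD1_c1 LD2_c35 LD3_c5)) = v5993 :=
  Lefun (Lecon (Lfl_ff (f508723 IH)) (f651829 IH)) (f650426 IH)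
theorem f651833 : Led Lsl_at (LP (LK LD1_c3 LD2_c16 LD3_c0)) = (LP (LK LD1_c1 LD2_c35 LD3_c5)) :=
  Leop (Lpqs (f651831 IH) (Lpe (f650424 IH) (Lpn (LP (LK LD1_c3 LD2_c16 LD3_c0)))))
theorem seed_364 : LEOK LG_a (LK LD1_c3 LD2_c16 LD3_c0) :=
  Leoe_a (LK LD1_c3 LD2_c16 LD3_c0) (f651833 IH)
def v6201 : LQ := Led Lsl_ft (LP (LK LD1_c3 LD2_c18 LD3_c61))
theorem f652033 : Led Lsl_ft (LP (LK LD1_c3 LD2_c18 LD3_c61)) = v6201 :=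
  Lrfl
theorem f24844 : Led Lsl_gt (LP (LK LD1_c3 LD2_c18 LD3_c61)) = (LP (LK LD1_c6 LD2_c41 LD3_c61)) :=
  Lre_g IH (LK LD1_c3 LD2_c18 LD3_c61) (LK LD1_c6 LD2_c41 LD3_c61) Lrfl Lrfl
theorem f24826 : Led Lsl_at (LP (LK LD1_c1 LD2_c36 LD3_c4)) = (LP (LK LD1_c3 LD2_c18 LD3_c61)) :=
  Lre_a IH (LK LD1_c1 LD2_c36 LD3_c4) (LK LD1_c3 LD2_c18 LD3_c61) Lrfl Lrfl
theorem f24944 : Led Lsl_ft (LP (LK LD1_c3 LD2_c19 LD3_c22)) = (LP (LK LD1_c1 LD2_c36 LD3_c4)) :=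
  Lre_f IH (LK LD1_c3 LD2_c19 LD3_c22) (LK LD1_c1 LD2_c36 LD3_c4) Lrfl Lrfl
theorem f652034 : Led Lsl_af (LP (LK LD1_c3 LD2_c19 LD3_c22)) = v6201 :=
  Lgr Lrot45 (Lpr_ft (f24944 IH) (Lpr_at (f24826 IH) (Lpr_ft (f652033 IH) (Lpn v6201))))
theorem f652037 : Led Lsl_gt (LP (LK LD1_c6 LD2_c41 LD3_c61)) = (LP (LK LD1_c3 LD2_c19 LD3_c22)) :=
  Lgr Lrot46 (Lpe (f24844 IH) (Lpr_ft (f652033 IH) (Lpe (f652034 IH) (Lpn (LP (LK LD1_c3 LD2_c19 LD3_c22))))))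
theorem f652038 : Led Lsl_gt (LP (LK LD1_c6 LD2_c41 LD3_c61)) = (LP (LK LD1_c3 LD2_c19 LD3_c22)) :=
  Leop (Lpe (f652037 IH) (Lpn (LP (LK LD1_c6 LD2_c41 LD3_c61))))
theorem seed_365 : LEOK LG_g (LK LD1_c6 LD2_c41 LD3_c61) :=
  Leoe_g (LK LD1_c6 LD2_c41 LD3_c61) (f652038 IH)
def v6221 : LQ := Led Lsl_ft (LP (LK LD1_c3 LD2_c19 LD3_c13))
theorem f652150 : Led Lsl_ft (LP (LK LD1_c3 LD2_c19 LD3_c13)) = v6221 :=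
  Lrfl
theorem f446050 : Led Lsl_gt (LP (LK LD1_c3 LD2_c19 LD3_c13)) = (LP (LK LD1_c6 LD2_c42 LD3_c27)) :=
  Lre_g IH (LK LD1_c3 LD2_c19 LD3_c13) (LK LD1_c6 LD2_c42 LD3_c27) Lrfl Lrfl
def v6219 : LQ := Led Lsl_at (LP (LK LD1_c3 LD2_c19 LD3_c13))
theorem f652137 : Led Lsl_at (LP (LK LD1_c3 LD2_c19 LD3_c13)) = v6219 :=
  Lrfl
theorem f652138 : Led Lsl_af (LP (LK LD1_c3 LD2_c19 LD3_c13)) = v6219 :=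
  Lgr Lrot0 (Lpr_at (f652137 IH) (Lpn v6219))
theorem f446049 : Led Lsl_ct (LP (LK LD1_c1 LD2_c36 LD3_c2)) = (LP (LK LD1_c3 LD2_c19 LD3_c13)) :=
  Lre_c IH (LK LD1_c1 LD2_c36 LD3_c2) (LK LD1_c3 LD2_c19 LD3_c13) Lrfl Lrfl
def v2124 : LQ := Led Lsl_at (LP (LK LD1_c1 LD2_c36 LD3_c2))
theorem f509117 : Led Lsl_at (LP (LK LD1_c1 LD2_c36 LD3_c2)) = v2124 :=
  Lrfl
theorem f509118 : Led Lsl_af (LP (LK LD1_c1 LD2_c36 LD3_c2)) = v2124 :=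
  Lgr Lrot0 (Lpr_at (f509117 IH) (Lpn v2124))
theorem f652139 : Led Lsl_cf v2124 = v6219 :=
  Lgr Lrot1 (Lpe (f509118 IH) (Lpr_ct (f446049 IH) (Lpr_at (f652137 IH) (Lpn v6219))))
theorem f24863 : Led Lsl_gt (LP (LK LD1_c0 LD2_c44 LD3_c32)) = (LP (LK LD1_c1 LD2_c36 LD3_c2)) :=
  Lre_g IH (LK LD1_c0 LD2_c44 LD3_c32) (LK LD1_c1 LD2_c36 LD3_c2) Lrfl Lrfl
theorem f24867 : Led Lsl_gt (LP (LK LD1_c1 LD2_c36 LD3_c3)) = (LP (LK LD1_c0 LD2_c44 LD3_c32)) :=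
  Lre_g IH (LK LD1_c1 LD2_c36 LD3_c3) (LK LD1_c0 LD2_c44 LD3_c32) Lrfl Lrfl
theorem f509119 : Led Lsl_ft (LP (LK LD1_c1 LD2_c36 LD3_c3)) = v2124 :=
  Lgr Lrot2 (Lpr_gt (f24867 IH) (Lpr_gt (f24863 IH) (Lpr_af (f509118 IH) (Lpn v2124))))
theorem f509123 : Led Lsl_ff (LP (LK LD1_c1 LD2_c36 LD3_c3)) = v2124 :=
  Lgr Lrot3 (Lpr_ft (f509119 IH) (Lpn v2124))
theorem f509125 : Led Lsl_ct (LP (LK LD1_c1 LD2_c36 LD3_c3)) = (LP (LK LD1_c3 LD2_c19 LD3_c17)) :=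
  Lre_c IH (LK LD1_c1 LD2_c36 LD3_c3) (LK LD1_c3 LD2_c19 LD3_c17) Lrfl Lrfl
theorem f652141 : Led Lsl_ft (LP (LK LD1_c3 LD2_c19 LD3_c17)) = v6219 :=
  Lgr Lrot4 (Lpe (f509125 IH) (Lpr_ff (f509123 IH) (Lpr_cf (f652139 IH) (Lpn v6219))))
theorem f652151 : Led Lsl_af (LP (LK LD1_c3 LD2_c19 LD3_c17)) = v6221 :=
  Lgr Lrot45 (Lpr_ft (f652141 IH) (Lpe (f652138 IH) (Lpr_ft (f652150 IH) (Lpn v6221))))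
theorem f652154 : Led Lsl_gt (LP (LK LD1_c6 LD2_c42 LD3_c27)) = (LP (LK LD1_c3 LD2_c19 LD3_c17)) :=
  Lgr Lrot46 (Lpe (f446050 IH) (Lpr_ft (f652150 IH) (Lpe (f652151 IH) (Lpn (LP (LK LD1_c3 LD2_c19 LD3_c17))))))
theorem f652155 : Led Lsl_gt (LP (LK LD1_c6 LD2_c42 LD3_c27)) = (LP (LK LD1_c3 LD2_c19 LD3_c17)) :=
  Leop (Lpe (f652154 IH) (Lpn (LP (LK LD1_c6 LD2_c42 LD3_c27))))
theorem seed_366 : LEOK LG_g (LK LD1_c6 LD2_c42 LD3_c27) :=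
  Leoe_g (LK LD1_c6 LD2_c42 LD3_c27) (f652155 IH)
def v6222 : LQ := Led Lsl_at (LP (LK LD1_c3 LD2_c19 LD3_c14))
theorem f652161 : Led Lsl_at (LP (LK LD1_c3 LD2_c19 LD3_c14)) = v6222 :=
  Lrfl
theorem f24864 : Led Lsl_dt (LP (LK LD1_c1 LD2_c36 LD3_c2)) = (LP (LK LD1_c3 LD2_c19 LD3_c14)) :=
  Lre_d IH (LK LD1_c1 LD2_c36 LD3_c2) (LK LD1_c3 LD2_c19 LD3_c14) Lrfl Lrfl
theorem f652163 : Led Lsl_df v2124 = v6222 :=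
  Lgr Lrot18 (Lpe (f509118 IH) (Lpr_dt (f24864 IH) (Lpr_at (f652161 IH) (Lpn v6222))))
theorem f509120 : Led Lsl_dt (LP (LK LD1_c1 LD2_c36 LD3_c3)) = (LP (LK LD1_c3 LD2_c19 LD3_c18)) :=
  Lre_d IH (LK LD1_c1 LD2_c36 LD3_c3) (LK LD1_c3 LD2_c19 LD3_c18) Lrfl Lrfl
theorem f652165 : Led Lsl_ft (LP (LK LD1_c3 LD2_c19 LD3_c18)) = v6222 :=
  Lgr Lrot54 (Lpe (f509120 IH) (Lpr_ff (f509123 IH) (Lpr_df (f652163 IH) (Lpn v6222))))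
theorem f652162 : Led Lsl_af (LP (LK LD1_c3 LD2_c19 LD3_c14)) = v6222 :=
  Lgr Lrot0 (Lpr_at (f652161 IH) (Lpn v6222))
theorem f649691 : Led Lsl_gt (LP (LK LD1_c6 LD2_c42 LD3_c31)) = (LP (LK LD1_c3 LD2_c19 LD3_c14)) :=
  Lre_g IH (LK LD1_c6 LD2_c42 LD3_c31) (LK LD1_c3 LD2_c19 LD3_c14) Lrfl Lrfl
theorem f652168 : Led Lsl_gt (LP (LK LD1_c3 LD2_c19 LD3_c18)) = (LP (LK LD1_c6 LD2_c42 LD3_c31)) :=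
  Lgr Lrot5 (Lpr_ft (f652165 IH) (Lpe (f652162 IH) (Lpe (f649691 IH) (Lpn (LP (LK LD1_c6 LD2_c42 LD3_c31))))))
theorem f652169 : Led Lsl_gt (LP (LK LD1_c3 LD2_c19 LD3_c18)) = (LP (LK LD1_c6 LD2_c42 LD3_c31)) :=
  Leop (Lpe (f652168 IH) (Lpn (LP (LK LD1_c3 LD2_c19 LD3_c18))))
theorem seed_367 : LEOK LG_g (LK LD1_c3 LD2_c19 LD3_c18) :=
  Leoe_g (LK LD1_c3 LD2_c19 LD3_c18) (f652169 IH)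
def v6223 : LQ := Led Lsl_ft (LP (LK LD1_c3 LD2_c19 LD3_c14))
theorem f652181 : Led Lsl_ft (LP (LK LD1_c3 LD2_c19 LD3_c14)) = v6223 :=
  Lrfl
theorem f24865 : Led Lsl_gt (LP (LK LD1_c3 LD2_c19 LD3_c14)) = (LP (LK LD1_c6 LD2_c42 LD3_c30)) :=
  Lre_g IH (LK LD1_c3 LD2_c19 LD3_c14) (LK LD1_c6 LD2_c42 LD3_c30) Lrfl Lrfl
theorem f652182 : Led Lsl_af (LP (LK LD1_c3 LD2_c19 LD3_c18)) = v6223 :=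
  Lgr Lrot45 (Lpr_ft (f652165 IH) (Lpe (f652162 IH) (Lpr_ft (f652181 IH) (Lpn v6223))))
theorem f652185 : Led Lsl_gt (LP (LK LD1_c6 LD2_c42 LD3_c30)) = (LP (LK LD1_c3 LD2_c19 LD3_c18)) :=
  Lgr Lrot46 (Lpe (f24865 IH) (Lpr_ft (f652181 IH) (Lpe (f652182 IH) (Lpn (LP (LK LD1_c3 LD2_c19 LD3_c18))))))
theorem f652186 : Led Lsl_gt (LP (LK LD1_c6 LD2_c42 LD3_c30)) = (LP (LK LD1_c3 LD2_c19 LD3_c18)) :=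
  Leop (Lpe (f652185 IH) (Lpn (LP (LK LD1_c6 LD2_c42 LD3_c30))))
theorem seed_368 : LEOK LG_g (LK LD1_c6 LD2_c42 LD3_c30) :=
  Leoe_g (LK LD1_c6 LD2_c42 LD3_c30) (f652186 IH)
def v6264 : LQ := Led Lsl_gf (LP (LK LD1_c3 LD2_c19 LD3_c39))
theorem f652367 : Led Lsl_gf (LP (LK LD1_c3 LD2_c19 LD3_c39)) = v6264 :=
  Lrfl
theorem f57677 : Led Lsl_gt (LP (LK LD1_c3 LD2_c22 LD3_c21)) = (LP (LK LD1_c6 LD2_c48 LD3_c26)) :=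
  Lre_g IH (LK LD1_c3 LD2_c22 LD3_c21) (LK LD1_c6 LD2_c48 LD3_c26) Lrfl Lrfl
theorem f652370 : Led Lsl_dt (LP (LK LD1_c4 LD2_c42 LD3_c9)) = v6264 :=
  Lgr Lrot57 (Lpr_gf (K32.f500136 IH) (Lpe (K32.f24641 IH) (Lpr_gt (K32.f444275 IH) (Lpr_dt (K32.f24697 IH) (Lpr_gt (K29.f24630 IH) (Lpr_dt (K29.f24693 IH) (Lpe (K5.f24690 IH) (Lpe (K5.f24938 IH) (Lpr_gf (f652367 IH) (Lpn v6264))))))))))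
theorem f652373 : Led Lsl_ef (LP (LK LD1_c6 LD2_c48 LD3_c26)) = (LP (LK LD1_c4 LD2_c42 LD3_c9)) :=
  Lgr Lrot17 (Lpe (f57677 IH) (Lpe (K5.f84179 IH) (Lpe (K5.f84177 IH) (Lpr_gf (K2.f84095 IH) (Lpr_df (K2.f67401 IH) (Lpe (K2.f84105 IH) (Lpe (K5.f24677 IH) (Lpr_dt (K32.f24703 IH) (Lpr_gf (f652367 IH) (Lpe (f652370 IH) (Lpn (LP (LK LD1_c4 LD2_c42 LD3_c9)))))))))))))
theorem f652374 : Led Lsl_et (LP (LK LD1_c4 LD2_c42 LD3_c9)) = (LP (LK LD1_c6 LD2_c48 LD3_c26)) :=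
  Leop (Lpr_ef (f652373 IH) (Lpn (LP (LK LD1_c4 LD2_c42 LD3_c9))))
theorem seed_369 : LEOK LG_e (LK LD1_c4 LD2_c42 LD3_c9) :=
  Leoe_e (LK LD1_c4 LD2_c42 LD3_c9) (f652374 IH)
theorem f416260 : Led Lsl_et (LP (LK LD1_c2 LD2_c17 LD3_c35)) = (LP (LK LD1_c4 LD2_c41 LD3_c6)) :=
  Lre_e IH (LK LD1_c2 LD2_c17 LD3_c35) (LK LD1_c4 LD2_c41 LD3_c6) Lrfl Lrfl
theorem f505498 : Led Lsl_gf (LP (LK LD1_c4 LD2_c41 LD3_c6)) = (LP (LK LD1_c6 LD2_c30 LD3_c25)) :=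
  Lgr Lrot141 (Lpe (f416260 IH) (Lpr_dt (K17.f413654 IH) (Lpr_gt (K17.f416244 IH) (Lpe (K17.f414836 IH) (Lpr_et (K17.f416249 IH) (Lpr_gt (K17.f416250 IH) (Lpr_dt (K32.f69271 IH) (Lpr_gt (K32.f211022 IH) (Lpr_df (K32.f505146 IH) (Lpr_et (K41.f505489 IH) (Lpn (LP (LK LD1_c6 LD2_c30 LD3_c25)))))))))))))
theorem f445986 : Led Lsl_cf (LP (LK LD1_c2 LD2_c48 LD3_c44)) = (LP (LK LD1_c4 LD2_c43 LD3_c52)) :=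
  Lgr Lrot14 (Lpe (K38.f140579 IH) (Lpe (K9.f140245 IH) (Lpe (K1.f59813 IH) (Lpe (K17.f172564 IH) (Lpr_ct (K31.f415838 IH) (Lpr_gt (K31.f415839 IH) (Lpr_dt (K2.f58925 IH) (Lpr_gt (K35.f77738 IH) (Lpr_dt (K35.f445979 IH) (Lpn (LP (LK LD1_c4 LD2_c43 LD3_c52))))))))))))
theorem f445596 : Led Lsl_ct (LP (LK LD1_c2 LD2_c52 LD3_c40)) = (LP (LK LD1_c2 LD2_c19 LD3_c45)) :=
  Lgr Lrot7 (Lpe (K24.f445595 IH) (Lpr_gf (K24.f445593 IH) (Lpe (K24.f40471 IH) (Lpe (K24.f40470 IH) (Lpe (K24.f36246 IH) (Lpr_gt (K9.f26062 IH) (Lpr_dt (K24.f26067 IH) (Lpe (K24.f82609 IH) (Lpr_dt (K24.f82601 IH) (Lpn (LP (LK LD1_c2 LD2_c19 LD3_c45))))))))))))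
theorem f445994 : Led Lsl_gt (LP (LK LD1_c4 LD2_c41 LD3_c6)) = (LP (LK LD1_c2 LD2_c52 LD3_c40)) :=
  Lgr Lrot9 (Lpr_df (K32.f416258 IH) (Lpr_gt (K32.f67064 IH) (Lpr_ct (K2.f40976 IH) (Lpe (K41.f140573 IH) (Lpr_ct (K31.f140576 IH) (Lpe (K35.f140580 IH) (Lpr_cf (f445986 IH) (Lpe (K35.f82606 IH) (Lpe (f445596 IH) (Lpn (LP (LK LD1_c2 LD2_c52 LD3_c40))))))))))))
theorem f140742 : Led Lsl_ft (LP (LK LD1_c6 LD2_c30 LD3_c25)) = (LP (LK LD1_c3 LD2_c13 LD3_c14)) :=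
  Lre_f IH (LK LD1_c6 LD2_c30 LD3_c25) (LK LD1_c3 LD2_c13 LD3_c14) Lrfl Lrfl
theorem f505502 : Led Lsl_af (LP (LK LD1_c2 LD2_c52 LD3_c40)) = (LP (LK LD1_c3 LD2_c13 LD3_c14)) :=
  Lgr Lrot31 (Lpe (f445994 IH) (Lpr_gf (f505498 IH) (Lpr_ft (f140742 IH) (Lpn (LP (LK LD1_c3 LD2_c13 LD3_c14))))))
theorem f505516 : Led Lsl_at (LP (LK LD1_c5 LD2_c52 LD3_c50)) = (LP (LK LD1_c5 LD2_c0 LD3_c13)) :=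
  Lgr Lrot51 (Lpe (K24.f151910 IH) (Lpr_af (f505502 IH) (Lpe (K24.f140723 IH) (Lpn (LP (LK LD1_c5 LD2_c0 LD3_c13))))))
theorem f505520 : Led Lsl_af (LP (LK LD1_c5 LD2_c52 LD3_c50)) = (LP (LK LD1_c5 LD2_c0 LD3_c13)) :=
  Lgr Lrot0 (Lpr_at (f505516 IH) (Lpn (LP (LK LD1_c5 LD2_c0 LD3_c13))))
theorem f77391 : Led Lsl_gt (LP (LK LD1_c8 LD2_c0 LD3_c56)) = (LP (LK LD1_c3 LD2_c59 LD3_c54)) :=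
  Lre_g IH (LK LD1_c8 LD2_c0 LD3_c56) (LK LD1_c3 LD2_c59 LD3_c54) Lrfl Lrfl
theorem f505536 : Led Lsl_ft (LP (LK LD1_c8 LD2_c0 LD3_c56)) = (LP (LK LD1_c5 LD2_c0 LD3_c13)) :=
  Lgr Lrot2 (Lpr_gt (f77391 IH) (Lpe (K24.f445593 IH) (Lpr_af (f505520 IH) (Lpn (LP (LK LD1_c5 LD2_c0 LD3_c13))))))
theorem f505542 : Led Lsl_ff (LP (LK LD1_c8 LD2_c0 LD3_c56)) = (LP (LK LD1_c5 LD2_c0 LD3_c13)) :=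
  Lgr Lrot3 (Lpr_ft (f505536 IH) (Lpn (LP (LK LD1_c5 LD2_c0 LD3_c13))))
theorem f415152 : Led Lsl_gt (LP (LK LD1_c5 LD2_c0 LD3_c14)) = (LP (LK LD1_c2 LD2_c27 LD3_c51)) :=
  Lre_g IH (LK LD1_c5 LD2_c0 LD3_c14) (LK LD1_c2 LD2_c27 LD3_c51) Lrfl Lrfl
theorem f505522 : Led Lsl_ff (LP (LK LD1_c5 LD2_c52 LD3_c50)) = (LP (LK LD1_c5 LD2_c0 LD3_c14)) :=
  Lgr Lrot52 (Lpr_at (f505516 IH) (Lpe (K24.f77407 IH) (Lpe (f415152 IH) (Lpn (LP (LK LD1_c5 LD2_c0 LD3_c14))))))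
theorem f505544 : Led Lsl_at (LP (LK LD1_c8 LD2_c0 LD3_c56)) = (LP (LK LD1_c5 LD2_c0 LD3_c14)) :=
  Lgr Lrot66 (Lpr_ff (f505542 IH) (Lpe (f505516 IH) (Lpr_ff (f505522 IH) (Lpn (LP (LK LD1_c5 LD2_c0 LD3_c14))))))
theorem f505548 : Led Lsl_gf (LP (LK LD1_c5 LD2_c0 LD3_c14)) = (LP (LK LD1_c2 LD2_c27 LD3_c54)) :=
  Lgr Lrot76 (Lpe (f505544 IH) (Lpr_ff (f505542 IH) (Lpe (f454869 IH) (Lpn (LP (LK LD1_c2 LD2_c27 LD3_c54))))))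
theorem f505527 : Led Lsl_ft (LP (LK LD1_c5 LD2_c52 LD3_c50)) = (LP (LK LD1_c5 LD2_c0 LD3_c14)) :=
  Lgr Lrot48 (Lpr_ff (f505522 IH) (Lpn (LP (LK LD1_c5 LD2_c0 LD3_c14))))
theorem f505529 : Led Lsl_df (LP (LK LD1_c5 LD2_c52 LD3_c51)) = (LP (LK LD1_c5 LD2_c0 LD3_c14)) :=
  Lgr Lrot78 (Lpr_ft (K32.f445617 IH) (Lpr_dt (K24.f151910 IH) (Lpr_ft (f505527 IH) (Lpn (LP (LK LD1_c5 LD2_c0 LD3_c14))))))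
theorem f505101 : Led Lsl_ft (LP (LK LD1_c3 LD2_c8 LD3_c35)) = (LP (LK LD1_c6 LD2_c2 LD3_c60)) :=
  Lgr Lrot48 (Lpr_ff (K32.f505097 IH) (Lpn (LP (LK LD1_c6 LD2_c2 LD3_c60))))
theorem f505103 : Led Lsl_df (LP (LK LD1_c4 LD2_c43 LD3_c53)) = (LP (LK LD1_c6 LD2_c2 LD3_c60)) :=
  Lgr Lrot78 (Lpr_ft (K32.f82603 IH) (Lpe (K24.f82594 IH) (Lpr_ft (f505101 IH) (Lpn (LP (LK LD1_c6 LD2_c2 LD3_c60))))))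
theorem f40958 : Led Lsl_dt (LP (LK LD1_c1 LD2_c11 LD3_c3)) = (LP (LK LD1_c2 LD2_c27 LD3_c54)) :=
  Lre_d IH (LK LD1_c1 LD2_c11 LD3_c3) (LK LD1_c2 LD2_c27 LD3_c54) Lrfl Lrfl
theorem f415845 : Led Lsl_dt (LP (LK LD1_c1 LD2_c24 LD3_c34)) = (LP (LK LD1_c2 LD2_c57 LD3_c46)) :=
  Lre_d IH (LK LD1_c1 LD2_c24 LD3_c34) (LK LD1_c2 LD2_c57 LD3_c46) Lrfl Lrfl
theorem f505550 : Led Lsl_gf (LP (LK LD1_c6 LD2_c2 LD3_c60)) = (LP (LK LD1_c2 LD2_c57 LD3_c46)) :=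
  Lgr Lrot143 (Lpe (f505103 IH) (Lpe (K32.f445607 IH) (Lpr_df (f505529 IH) (Lpr_gf (f505548 IH) (Lpe (f40958 IH) (Lpe (K32.f40956 IH) (Lpr_cf (K2.f40467 IH) (Lpe (K31.f415841 IH) (Lpr_dt (f415845 IH) (Lpn (LP (LK LD1_c2 LD2_c57 LD3_c46))))))))))))
theorem f140911 : Led Lsl_ct (LP (LK LD1_c3 LD2_c22 LD3_c1)) = (LP (LK LD1_c1 LD2_c37 LD3_c17)) :=
  Lre_c IH (LK LD1_c3 LD2_c22 LD3_c1) (LK LD1_c1 LD2_c37 LD3_c17) Lrfl Lrfl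
theorem f144080 : Led Lsl_gt (LP (LK LD1_c6 LD2_c47 LD3_c43)) = (LP (LK LD1_c3 LD2_c22 LD3_c1)) :=
  Lre_g IH (LK LD1_c6 LD2_c47 LD3_c43) (LK LD1_c3 LD2_c22 LD3_c1) Lrfl Lrfl
theorem f505579 : Led Lsl_ct (LP (LK LD1_c6 LD2_c2 LD3_c60)) = (LP (LK LD1_c6 LD2_c47 LD3_c43)) :=
  Lgr Lrot152 (Lpr_gf (f505550 IH) (Lpe (f415845 IH) (Lpr_gt (K31.f415839 IH) (Lpr_ct (K24.f77345 IH) (Lpr_gt (K24.f73209 IH) (Lpe (K32.f415642 IH) (Lpe (K29.f25517 IH) (Lpe (f140911 IH) (Lpe (f144080 IH) (Lpn (LP (LK LD1_c6 LD2_c47 LD3_c43))))))))))))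
theorem f505587 : Led Lsl_ff (LP (LK LD1_c6 LD2_c21 LD3_c48)) = (LP (LK LD1_c6 LD2_c47 LD3_c43)) :=
  Lgr Lrot23 (Lpr_ct (K32.f82605 IH) (Lpr_ft (f505101 IH) (Lpr_ct (f505579 IH) (Lpn (LP (LK LD1_c6 LD2_c47 LD3_c43))))))
theorem f152679 : Led Lsl_gt (LP (LK LD1_c0 LD2_c19 LD3_c1)) = (LP (LK LD1_c0 LD2_c20 LD3_c22)) :=
  Lgr Lrot94 (Lpe (K7.f25900 IH) (Lpr_gt (K7.f152673 IH) (Lpr_dt (K0.f7414 IH) (Lpr_gt (K2.f25739 IH) (Lpe (K7.f26328 IH) (Lpe (K7.f25812 IH) (Lpe (K6.f67088 IH) (Lpe (K2.f61776 IH) (Lpe (K2.f83188 IH) (Lpn (LP (LK LD1_c0 LD2_c20 LD3_c22))))))))))))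
theorem f153800 : Led Lsl_et (LP (LK LD1_c0 LD2_c42 LD3_c44)) = (LP (LK LD1_c1 LD2_c32 LD3_c20)) :=
  Lre_e IH (LK LD1_c0 LD2_c42 LD3_c44) (LK LD1_c1 LD2_c32 LD3_c20) Lrfl Lrfl
theorem f153788 : Led Lsl_gt (LP (LK LD1_c3 LD2_c11 LD3_c57)) = (LP (LK LD1_c1 LD2_c32 LD3_c20)) :=
  Lre_g IH (LK LD1_c3 LD2_c11 LD3_c57) (LK LD1_c1 LD2_c32 LD3_c20) Lrfl Lrfl
theorem f505111 : Led Lsl_et (LP (LK LD1_c6 LD2_c2 LD3_c60)) = (LP (LK LD1_c3 LD2_c11 LD3_c57)) :=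
  Lgr Lrot185 (Lpe (f505103 IH) (Lpr_gf (K32.f505105 IH) (Lpr_df (K24.f454659 IH) (Lpe (K24.f83711 IH) (Lpe (K6.f83198 IH) (Lpe (K2.f83196 IH) (Lpe (f152679 IH) (Lpe (K7.f25908 IH) (Lpr_et (f153800 IH) (Lpe (f153788 IH) (Lpn (LP (LK LD1_c3 LD2_c11 LD3_c57)))))))))))))
theorem f505114 : Led Lsl_ef (LP (LK LD1_c6 LD2_c2 LD3_c60)) = (LP (LK LD1_c3 LD2_c11 LD3_c57)) :=
  Lgr Lrot88 (Lpr_et (f505111 IH) (Lpn (LP (LK LD1_c3 LD2_c11 LD3_c57))))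
theorem f153789 : Led Lsl_ct (LP (LK LD1_c6 LD2_c28 LD3_c6)) = (LP (LK LD1_c3 LD2_c11 LD3_c57)) :=
  Lre_c IH (LK LD1_c6 LD2_c28 LD3_c6) (LK LD1_c3 LD2_c11 LD3_c57) Lrfl Lrfl
theorem f505585 : Led Lsl_ef (LP (LK LD1_c6 LD2_c28 LD3_c6)) = (LP (LK LD1_c6 LD2_c47 LD3_c43)) :=
  Lgr Lrot28 (Lpr_ct (f153789 IH) (Lpe (f505114 IH) (Lpr_ct (f505579 IH) (Lpn (LP (LK LD1_c6 LD2_c47 LD3_c43))))))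
theorem f505599 : Led Lsl_et (LP (LK LD1_c6 LD2_c28 LD3_c6)) = (LP (LK LD1_c6 LD2_c47 LD3_c43)) :=
  Lgr Lrot87 (Lpr_ef (f505585 IH) (Lpn (LP (LK LD1_c6 LD2_c47 LD3_c43))))
theorem f652383 : Led Lsl_ft (LP (LK LD1_c6 LD2_c48 LD3_c26)) = (LP (LK LD1_c6 LD2_c28 LD3_c6)) :=
  Lgr Lrot86 (Lpr_ef (f652373 IH) (Lpe (f505076 IH) (Lpe (K32.f503602 IH) (Lpr_ff (f505587 IH) (Lpe (f505599 IH) (Lpn (LP (LK LD1_c6 LD2_c28 LD3_c6))))))))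
theorem f135394 : Led Lsl_at (LP (LK LD1_c6 LD2_c44 LD3_c12)) = (LP (LK LD1_c9 LD2_c29 LD3_c53)) :=
  Lgr Lrot100 (Lpr_af (K6.f135386 IH) (Lpn (LP (LK LD1_c9 LD2_c29 LD3_c53))))
theorem f135237 : Led Lsl_bt (LP (LK LD1_c6 LD2_c44 LD3_c12)) = (LP (LK LD1_c12 LD2_c53 LD3_c10)) :=
  Lre_b IH (LK LD1_c6 LD2_c44 LD3_c12) (LK LD1_c12 LD2_c53 LD3_c10) Lrfl Lrfl
theorem f84183 : Led Lsl_bt (LP (LK LD1_c6 LD2_c48 LD3_c25)) = (LP (LK LD1_c3 LD2_c22 LD3_c21)) :=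
  Lre_b IH (LK LD1_c6 LD2_c48 LD3_c25) (LK LD1_c3 LD2_c22 LD3_c21) Lrfl Lrfl
theorem f135238 : Led Lsl_ff (LP (LK LD1_c6 LD2_c44 LD3_c12)) = (LP (LK LD1_c3 LD2_c22 LD3_c21)) :=
  Lgr Lrot25 (Lpr_bt (f135237 IH) (Lpr_ft (K5.f135230 IH) (Lpr_bt (f84183 IH) (Lpn (LP (LK LD1_c3 LD2_c22 LD3_c21))))))
theorem f438838 : Led Lsl_gt (LP (LK LD1_c6 LD2_c48 LD3_c26)) = (LP (LK LD1_c9 LD2_c29 LD3_c53)) :=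
  Lgr Lrot46 (Lpe (f57677 IH) (Lpe (f135238 IH) (Lpr_at (f135394 IH) (Lpn (LP (LK LD1_c9 LD2_c29 LD3_c53))))))
theorem f146177 : Led Lsl_af (LP (LK LD1_c3 LD2_c22 LD3_c21)) = (LP (LK LD1_c4 LD2_c50 LD3_c20)) :=
  Lgr Lrot68 (Lpr_ct (K6.f57679 IH) (Lpr_at (K6.f146125 IH) (Lpr_ct (K32.f121415 IH) (Lpn (LP (LK LD1_c4 LD2_c50 LD3_c20))))))
theorem f57680 : Led Lsl_gt (LP (LK LD1_c6 LD2_c48 LD3_c27)) = (LP (LK LD1_c3 LD2_c22 LD3_c21)) :=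
  Lre_g IH (LK LD1_c6 LD2_c48 LD3_c27) (LK LD1_c3 LD2_c22 LD3_c21) Lrfl Lrfl
theorem f84358 : Led Lsl_ft (LP (LK LD1_c2 LD2_c22 LD3_c13)) = (LP (LK LD1_c4 LD2_c48 LD3_c40)) :=
  Lre_f IH (LK LD1_c2 LD2_c22 LD3_c13) (LK LD1_c4 LD2_c48 LD3_c40) Lrfl Lrfl
theorem f135450 : Led Lsl_et (LP (LK LD1_c4 LD2_c50 LD3_c20)) = (LP (LK LD1_c2 LD2_c22 LD3_c57)) :=
  Lre_e IH (LK LD1_c4 LD2_c50 LD3_c20) (LK LD1_c2 LD2_c22 LD3_c57) Lrfl Lrfl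
theorem f135464 : Led Lsl_ft (LP (LK LD1_c9 LD2_c29 LD3_c53)) = (LP (LK LD1_c4 LD2_c50 LD3_c20)) :=
  Lgr Lrot86 (Lpe (K6.f84359 IH) (Lpe (f84358 IH) (Lpe (K6.f84342 IH) (Lpr_ff (K6.f135453 IH) (Lpe (f135450 IH) (Lpn (LP (LK LD1_c4 LD2_c50 LD3_c20))))))))
theorem f437535 : Led Lsl_gf (LP (LK LD1_c6 LD2_c48 LD3_c27)) = (LP (LK LD1_c9 LD2_c29 LD3_c53)) :=
  Lgr Lrot47 (Lpr_gt (f57680 IH) (Lpr_af (f146177 IH) (Lpe (f135464 IH) (Lpn (LP (LK LD1_c9 LD2_c29 LD3_c53))))))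
theorem f652390 : Led Lsl_af (LP (LK LD1_c6 LD2_c48 LD3_c27)) = (LP (LK LD1_c6 LD2_c28 LD3_c6)) :=
  Lgr Lrot31 (Lpr_gf (f437535 IH) (Lpe (f438838 IH) (Lpr_ft (f652383 IH) (Lpn (LP (LK LD1_c6 LD2_c28 LD3_c6))))))
theorem f434598 : Led Lsl_ct (LP (LK LD1_c3 LD2_c11 LD3_c57)) = (LP (LK LD1_c6 LD2_c28 LD3_c6)) :=
  Lre_c IH (LK LD1_c3 LD2_c11 LD3_c57) (LK LD1_c6 LD2_c28 LD3_c6) Lrfl Lrfl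
def v5504 : LQ := Led Lsl_ft (LP (LK LD1_c3 LD2_c8 LD3_c46))
theorem f647984 : Led Lsl_ft (LP (LK LD1_c3 LD2_c8 LD3_c46)) = v5504 :=
  Lrfl
def v4291 : LQ := Led Lsl_et (LP (LK LD1_c2 LD2_c18 LD3_c23))
theorem f632440 : Led Lsl_et (LP (LK LD1_c2 LD2_c18 LD3_c23)) = v4291 :=
  Lrfl
theorem f504688 : Led Lsl_ff (LP (LK LD1_c1 LD2_c30 LD3_c31)) = v1876 :=
  Lgr Lrot3 (Lpr_ft (f504687 IH) (Lpn v1876))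
theorem f504694 : Led Lsl_at (LP (LK LD1_c1 LD2_c30 LD3_c31)) = K32.v1877 :=
  Lgr Lrot66 (Lpr_ff (f504688 IH) (Lpe (f504682 IH) (Lpr_ff (K32.f504693 IH) (Lpn K32.v1877))))
theorem f444045 : Led Lsl_et (LP (LK LD1_c3 LD2_c8 LD3_c46)) = (LP (LK LD1_c1 LD2_c30 LD3_c31)) :=
  Lre_e IH (LK LD1_c3 LD2_c8 LD3_c46) (LK LD1_c1 LD2_c30 LD3_c31) Lrfl Lrfl
theorem f632441 : Led Lsl_af (LP (LK LD1_c3 LD2_c8 LD3_c46)) = v4291 :=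
  Lgr Lrot50 (Lpr_et (f444045 IH) (Lpr_at (f504694 IH) (Lpqs (K32.f504896 IH) (Lpr_et (f632440 IH) (Lpn v4291)))))
theorem f632443 : Led Lsl_ff (LP (LK LD1_c3 LD2_c11 LD3_c57)) = v4291 :=
  Lgr Lrot72 (Lpe (f505114 IH) (Lpe (K32.f505097 IH) (Lpr_et (K24.f82592 IH) (Lpr_ft (K32.f504690 IH) (Lpqs (K32.f504896 IH) (Lpr_et (f632440 IH) (Lpn v4291)))))))
theorem f632446 : Led Lsl_ft (LP (LK LD1_c3 LD2_c11 LD3_c57)) = v4291 :=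
  Lgr Lrot48 (Lpr_ff (f632443 IH) (Lpn v4291))
theorem f647985 : Led Lsl_af (LP (LK LD1_c3 LD2_c11 LD3_c57)) = v5504 :=
  Lgr Lrot45 (Lpr_ft (f632446 IH) (Lpe (f632441 IH) (Lpr_ft (f647984 IH) (Lpn v5504))))
theorem f652395 : Led Lsl_ct (LP (LK LD1_c6 LD2_c48 LD3_c27)) = v5504 :=
  Lgr Lrot111 (Lpr_af (f652390 IH) (Lpe (f434598 IH) (Lpr_af (f647985 IH) (Lpn v5504))))
theorem f57694 : Led Lsl_ct (LP (LK LD1_c3 LD2_c22 LD3_c2)) = (LP (LK LD1_c6 LD2_c47 LD3_c44)) :=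
  Lre_c IH (LK LD1_c3 LD2_c22 LD3_c2) (LK LD1_c6 LD2_c47 LD3_c44) Lrfl Lrfl
theorem f647987 : Led Lsl_ff (LP (LK LD1_c3 LD2_c8 LD3_c46)) = v5504 :=
  Lgr Lrot3 (Lpr_ft (f647984 IH) (Lpn v5504))
def v5503 : LQ := Led Lsl_dt (LP (LK LD1_c3 LD2_c8 LD3_c46))
theorem f647978 : Led Lsl_dt (LP (LK LD1_c3 LD2_c8 LD3_c46)) = v5503 :=
  Lrfl
theorem f67108 : Led Lsl_et (LP (LK LD1_c1 LD2_c30 LD3_c31)) = (LP (LK LD1_c3 LD2_c8 LD3_c46)) :=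
  Lre_e IH (LK LD1_c1 LD2_c30 LD3_c31) (LK LD1_c3 LD2_c8 LD3_c46) Lrfl Lrfl
theorem f647980 : Led Lsl_ef (LP (LK LD1_c3 LD2_c8 LD3_c47)) = v5503 :=
  Lgr Lrot73 (Lpr_dt (K31.f79838 IH) (Lpr_et (K9.f67306 IH) (Lpr_dt (K32.f146039 IH) (Lpr_et (f67108 IH) (Lpr_dt (f647978 IH) (Lpn v5503))))))
theorem f20120 : Led Lsl_ct (LP (LK LD1_c9 LD2_c29 LD3_c1)) = (LP (LK LD1_c4 LD2_c48 LD3_c7)) :=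
  Lre_c IH (LK LD1_c9 LD2_c29 LD3_c1) (LK LD1_c4 LD2_c48 LD3_c7) Lrfl Lrfl
theorem f507218 : Led Lsl_ff (LP (LK LD1_c9 LD2_c29 LD3_c1)) = (LP (LK LD1_c6 LD2_c27 LD3_c19)) :=
  Lgr Lrot23 (Lpr_ct (f20120 IH) (Lpr_ft (K35.f507216 IH) (Lpr_ct (K32.f416886 IH) (Lpn (LP (LK LD1_c6 LD2_c27 LD3_c19))))))
theorem f507260 : Led Lsl_ft (LP (LK LD1_c9 LD2_c29 LD3_c1)) = (LP (LK LD1_c6 LD2_c27 LD3_c19)) :=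
  Lgr Lrot48 (Lpr_ff (f507218 IH) (Lpn (LP (LK LD1_c6 LD2_c27 LD3_c19))))
theorem f417073 : Led Lsl_et (LP (LK LD1_c4 LD2_c43 LD3_c36)) = (LP (LK LD1_c9 LD2_c20 LD3_c25)) :=
  Lre_e IH (LK LD1_c4 LD2_c43 LD3_c36) (LK LD1_c9 LD2_c20 LD3_c25) Lrfl Lrfl
theorem f84332 : Led Lsl_et (LP (LK LD1_c4 LD2_c48 LD3_c37)) = (LP (LK LD1_c2 LD2_c22 LD3_c12)) :=
  Lre_e IH (LK LD1_c4 LD2_c48 LD3_c37) (LK LD1_c2 LD2_c22 LD3_c12) Lrfl Lrfl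
theorem f417074 : Led Lsl_ct (LP (LK LD1_c9 LD2_c20 LD3_c25)) = (LP (LK LD1_c4 LD2_c48 LD3_c37)) :=
  Lgr Lrot15 (Lpe (f417073 IH) (Lpr_cf (K32.f417063 IH) (Lpe (f84332 IH) (Lpn (LP (LK LD1_c4 LD2_c48 LD3_c37))))))
theorem f507194 : Led Lsl_af (LP (LK LD1_c9 LD2_c20 LD3_c25)) = (LP (LK LD1_c6 LD2_c27 LD3_c19)) :=
  Lgr Lrot68 (Lpr_ct (f417074 IH) (Lpr_at (K35.f507190 IH) (Lpr_ct (K32.f416886 IH) (Lpn (LP (LK LD1_c6 LD2_c27 LD3_c19))))))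
theorem f417092 : Led Lsl_cf (LP (LK LD1_c9 LD2_c20 LD3_c25)) = (LP (LK LD1_c4 LD2_c48 LD3_c37)) :=
  Lgr Lrot11 (Lpr_ct (f417074 IH) (Lpn (LP (LK LD1_c4 LD2_c48 LD3_c37))))
theorem f507200 : Led Lsl_ft (LP (LK LD1_c9 LD2_c20 LD3_c25)) = (LP (LK LD1_c6 LD2_c42 LD3_c56)) :=
  Lgr Lrot4 (Lpr_cf (f417092 IH) (Lpr_ff (K35.f507196 IH) (Lpe (K32.f146153 IH) (Lpn (LP (LK LD1_c6 LD2_c42 LD3_c56))))))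
theorem f507262 : Led Lsl_af (LP (LK LD1_c9 LD2_c29 LD3_c1)) = (LP (LK LD1_c6 LD2_c42 LD3_c56)) :=
  Lgr Lrot45 (Lpr_ft (f507260 IH) (Lpe (f507194 IH) (Lpr_ft (f507200 IH) (Lpn (LP (LK LD1_c6 LD2_c42 LD3_c56))))))
theorem f445930 : Led Lsl_gf (LP (LK LD1_c6 LD2_c29 LD3_c50)) = (LP (LK LD1_c9 LD2_c20 LD3_c25)) :=
  Lgr Lrot144 (Lpr_dt (K29.f445928 IH) (Lpr_gt (K29.f443937 IH) (Lpr_dt (K29.f58526 IH) (Lpe (K1.f25589 IH) (Lpe (K1.f25569 IH) (Lpe (K24.f415335 IH) (Lpe (K24.f20115 IH) (Lpe (K35.f438695 IH) (Lpe (f417074 IH) (Lpn (LP (LK LD1_c9 LD2_c20 LD3_c25))))))))))))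
theorem f507270 : Led Lsl_gf (LP (LK LD1_c9 LD2_c29 LD3_c1)) = (LP (LK LD1_c6 LD2_c29 LD3_c50)) :=
  Lgr Lrot76 (Lpr_af (f507262 IH) (Lpe (f507200 IH) (Lpe (f445930 IH) (Lpn (LP (LK LD1_c6 LD2_c29 LD3_c50))))))
theorem f504706 : Led Lsl_ff (LP (LK LD1_c2 LD2_c19 LD3_c42)) = K32.v1879 :=
  Lgr Lrot3 (Lpr_ft (K32.f504705 IH) (Lpn K32.v1879))
theorem f504822 : Led Lsl_ff (LP (LK LD1_c1 LD2_c30 LD3_c32)) = K32.v1886 :=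
  Lgr Lrot3 (Lpr_ft (K32.f504820 IH) (Lpn K32.v1886))
theorem f506234 : Led Lsl_et (LP (LK LD1_c2 LD2_c19 LD3_c42)) = K32.v1886 :=
  Lgr Lrot69 (Lpr_ff (f504706 IH) (Lpqs (K32.f504855 IH) (Lpr_ef (K32.f82701 IH) (Lpq (K32.f504860 IH) (Lpe (K32.f453514 IH) (Lpe (K9.f67306 IH) (Lpr_ff (f504822 IH) (Lpn K32.v1886))))))))
theorem f61779 : Led Lsl_et (LP (LK LD1_c1 LD2_c38 LD3_c29)) = (LP (LK LD1_c3 LD2_c24 LD3_c16)) :=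
  Lre_e IH (LK LD1_c1 LD2_c38 LD3_c29) (LK LD1_c3 LD2_c24 LD3_c16) Lrfl Lrfl
theorem f506235 : Led Lsl_gf (LP (LK LD1_c3 LD2_c24 LD3_c16)) = K32.v1886 :=
  Lgr Lrot141 (Lpe (f61779 IH) (Lpr_dt (K24.f26067 IH) (Lpe (K24.f82609 IH) (Lpr_df (K24.f82594 IH) (Lpr_et (K24.f26066 IH) (Lpr_gt (K24.f26065 IH) (Lpr_dt (K11.f82566 IH) (Lpr_gt (K24.f26270 IH) (Lpe (K24.f26282 IH) (Lpr_et (f506234 IH) (Lpn K32.v1886)))))))))))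
theorem f632751 : Led Lsl_dt K32.v1886 = K35.v4336 :=
  Lgr Lrot6 (Lpe (f506235 IH) (Lpe (f140097 IH) (Lpr_gt (K35.f507731 IH) (Lpr_ct (K35.f27070 IH) (Lpe (K32.f20107 IH) (Lpe (f20120 IH) (Lpr_gf (f507270 IH) (Lpe (K29.f68250 IH) (Lpr_gf (K35.f632748 IH) (Lpn K35.v4336))))))))))
theorem f632752 : Led Lsl_ff (LP (LK LD1_c3 LD2_c8 LD3_c47)) = K35.v4336 :=
  Lgr Lrot19 (Lpr_dt (K31.f79838 IH) (Lpr_ft (K32.f504820 IH) (Lpr_dt (f632751 IH) (Lpn K35.v4336))))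
theorem f632755 : Led Lsl_ft (LP (LK LD1_c3 LD2_c8 LD3_c47)) = K35.v4336 :=
  Lgr Lrot48 (Lpr_ff (f632752 IH) (Lpn K35.v4336))
theorem f632747 : Led Lsl_ef (LP (LK LD1_c2 LD2_c19 LD3_c33)) = K35.v4336 :=
  Lgr Lrot88 (Lpr_et (K35.f632743 IH) (Lpn K35.v4336))
theorem f505224 : Led Lsl_at (LP (LK LD1_c3 LD2_c20 LD3_c10)) = (LP (LK LD1_c3 LD2_c11 LD3_c30)) :=
  Lgr Lrot107 (Lpe (K32.f438354 IH) (Lpr_af (K41.f505220 IH) (Lpe (K32.f79754 IH) (Lpn (LP (LK LD1_c3 LD2_c11 LD3_c30))))))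
theorem f505263 : Led Lsl_ff (LP (LK LD1_c3 LD2_c20 LD3_c10)) = (LP (LK LD1_c3 LD2_c11 LD3_c26)) :=
  Lgr Lrot52 (Lpr_at (f505224 IH) (Lpr_gf (K35.f437404 IH) (Lpe (K32.f438537 IH) (Lpn (LP (LK LD1_c3 LD2_c11 LD3_c26))))))
theorem f505269 : Led Lsl_ft (LP (LK LD1_c2 LD2_c19 LD3_c33)) = (LP (LK LD1_c1 LD2_c32 LD3_c6)) :=
  Lgr Lrot4 (Lpr_cf (K35.f438359 IH) (Lpr_ff (f505263 IH) (Lpe (K32.f435359 IH) (Lpn (LP (LK LD1_c1 LD2_c32 LD3_c6))))))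
theorem f435508 : Led Lsl_et (LP (LK LD1_c1 LD2_c32 LD3_c6)) = (LP (LK LD1_c3 LD2_c11 LD3_c28)) :=
  Lre_e IH (LK LD1_c1 LD2_c32 LD3_c6) (LK LD1_c3 LD2_c11 LD3_c28) Lrfl Lrfl
theorem f647982 : Led Lsl_ft (LP (LK LD1_c3 LD2_c11 LD3_c28)) = v5503 :=
  Lgr Lrot86 (Lpe (f435508 IH) (Lpe (f505269 IH) (Lpr_ef (f632747 IH) (Lpe (f632755 IH) (Lpr_ef (f647980 IH) (Lpn v5503))))))
theorem f647983 : Led Lsl_ff (LP (LK LD1_c3 LD2_c11 LD3_c28)) = v5503 :=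
  Lgr Lrot3 (Lpr_ft (f647982 IH) (Lpn v5503))
theorem f647989 : Led Lsl_dt (LP (LK LD1_c3 LD2_c11 LD3_c28)) = v5504 :=
  Lgr Lrot60 (Lpr_ff (f647983 IH) (Lpe (f647978 IH) (Lpr_ff (f647987 IH) (Lpn v5504))))
theorem f505317 : Led Lsl_ct (LP (LK LD1_c6 LD2_c27 LD3_c8)) = (LP (LK LD1_c3 LD2_c11 LD3_c28)) :=
  Lre_c IH (LK LD1_c6 LD2_c27 LD3_c8) (LK LD1_c3 LD2_c11 LD3_c28) Lrfl Lrfl
theorem f652399 : Led Lsl_gt (LP (LK LD1_c6 LD2_c47 LD3_c44)) = (LP (LK LD1_c6 LD2_c27 LD3_c8)) :=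
  Lgr Lrot150 (Lpe (f57694 IH) (Lpr_gf (K35.f57690 IH) (Lpe (K35.f57678 IH) (Lpr_gt (K32.f135403 IH) (Lpr_ct (K6.f135397 IH) (Lpe (f437535 IH) (Lpr_ct (f652395 IH) (Lpe (f647989 IH) (Lpe (f505317 IH) (Lpn (LP (LK LD1_c6 LD2_c27 LD3_c8))))))))))))
theorem f652400 : Led Lsl_gt (LP (LK LD1_c6 LD2_c47 LD3_c44)) = (LP (LK LD1_c6 LD2_c27 LD3_c8)) :=
  Leop (Lpe (f652399 IH) (Lpn (LP (LK LD1_c6 LD2_c47 LD3_c44))))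
theorem seed_370 : LEOK LG_g (LK LD1_c6 LD2_c47 LD3_c44) :=
  Leoe_g (LK LD1_c6 LD2_c47 LD3_c44) (f652400 IH)
theorem f435995 : Led Lsl_ct (LP (LK LD1_c3 LD2_c8 LD3_c46)) = (LP (LK LD1_c6 LD2_c22 LD3_c9)) :=
  Lre_c IH (LK LD1_c3 LD2_c8 LD3_c46) (LK LD1_c6 LD2_c22 LD3_c9) Lrfl Lrfl
theorem f652397 : Led Lsl_ff (LP (LK LD1_c6 LD2_c48 LD3_c27)) = (LP (LK LD1_c6 LD2_c22 LD3_c9)) :=
  Lgr Lrot23 (Lpr_ct (f652395 IH) (Lpe (f647987 IH) (Lpr_ct (f435995 IH) (Lpn (LP (LK LD1_c6 LD2_c22 LD3_c9))))))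
theorem f652392 : Led Lsl_at (LP (LK LD1_c6 LD2_c48 LD3_c27)) = (LP (LK LD1_c6 LD2_c28 LD3_c6)) :=
  Lgr Lrot100 (Lpr_af (f652390 IH) (Lpn (LP (LK LD1_c6 LD2_c28 LD3_c6))))
theorem f652406 : Led Lsl_gf (LP (LK LD1_c6 LD2_c28 LD3_c6)) = (LP (LK LD1_c6 LD2_c44 LD3_c12)) :=
  Lgr Lrot76 (Lpe (f652392 IH) (Lpr_ff (f652397 IH) (Lpr_gt (K32.f438525 IH) (Lpn (LP (LK LD1_c6 LD2_c44 LD3_c12))))))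
def v4335 : LQ := Led Lsl_et (LP (LK LD1_c2 LD2_c19 LD3_c32))
theorem f632731 : Led Lsl_et (LP (LK LD1_c2 LD2_c19 LD3_c32)) = v4335 :=
  Lrfl
theorem f632735 : Led Lsl_ef (LP (LK LD1_c2 LD2_c19 LD3_c32)) = v4335 :=
  Lgr Lrot88 (Lpr_et (f632731 IH) (Lpn v4335))
theorem f504995 : Led Lsl_ef (LP (LK LD1_c6 LD2_c30 LD3_c1)) = (LP (LK LD1_c9 LD2_c20 LD3_c43)) :=
  Lgr Lrot88 (Lpr_et (K32.f504991 IH) (Lpn (LP (LK LD1_c9 LD2_c20 LD3_c43))))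
theorem f446029 : Led Lsl_bt (LP (LK LD1_c6 LD2_c30 LD3_c1)) = (LP (LK LD1_c3 LD2_c13 LD3_c6)) :=
  Lre_b IH (LK LD1_c6 LD2_c30 LD3_c1) (LK LD1_c3 LD2_c13 LD3_c6) Lrfl Lrfl
theorem f445611 : Led Lsl_bt (LP (LK LD1_c4 LD2_c43 LD3_c53)) = (LP (LK LD1_c9 LD2_c20 LD3_c43)) :=
  Lre_b IH (LK LD1_c4 LD2_c43 LD3_c53) (LK LD1_c9 LD2_c20 LD3_c43) Lrfl Lrfl
theorem f504997 : Led Lsl_et (LP (LK LD1_c3 LD2_c13 LD3_c6)) = (LP (LK LD1_c4 LD2_c43 LD3_c53)) :=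
  Lgr Lrot74 (Lpe (f446029 IH) (Lpr_ef (f504995 IH) (Lpe (f445611 IH) (Lpn (LP (LK LD1_c4 LD2_c43 LD3_c53))))))
theorem f632738 : Led Lsl_dt (LP (LK LD1_c3 LD2_c11 LD3_c57)) = v4335 :=
  Lgr Lrot77 (Lpe (f505111 IH) (Lpe (K32.f505099 IH) (Lpe (f504997 IH) (Lpe (K32.f505210 IH) (Lpr_ef (f632735 IH) (Lpn v4335))))))
theorem f438427 : Led Lsl_et (LP (LK LD1_c3 LD2_c20 LD3_c9)) = (LP (LK LD1_c6 LD2_c43 LD3_c61)) :=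
  Lre_e IH (LK LD1_c3 LD2_c20 LD3_c9) (LK LD1_c6 LD2_c43 LD3_c61) Lrfl Lrfl
theorem f632737 : Led Lsl_ct (LP (LK LD1_c6 LD2_c43 LD3_c61)) = v4335 :=
  Lgr Lrot15 (Lpe (f438427 IH) (Lpe (K24.f438417 IH) (Lpr_ef (f632735 IH) (Lpn v4335))))
theorem f23823 : Led Lsl_ct (LP (LK LD1_c4 LD2_c50 LD3_c6)) = (LP (LK LD1_c9 LD2_c32 LD3_c40)) :=
  Lre_c IH (LK LD1_c4 LD2_c50 LD3_c6) (LK LD1_c9 LD2_c32 LD3_c40) Lrfl Lrfl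
theorem f652410 : Led Lsl_gf (LP (LK LD1_c6 LD2_c43 LD3_c61)) = (LP (LK LD1_c9 LD2_c32 LD3_c40)) :=
  Lgr Lrot104 (Lpr_ct (f632737 IH) (Lpe (f632738 IH) (Lpe (f153789 IH) (Lpr_gf (f652406 IH) (Lpe (K6.f135257 IH) (Lpe (K32.f146096 IH) (Lpe (K32.f20126 IH) (Lpr_gt (K32.f135506 IH) (Lpr_ct (f23823 IH) (Lpn (LP (LK LD1_c9 LD2_c32 LD3_c40))))))))))))
theorem f652411 : Led Lsl_gt (LP (LK LD1_c9 LD2_c32 LD3_c40)) = (LP (LK LD1_c6 LD2_c43 LD3_c61)) :=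
  Leop (Lpr_gf (f652410 IH) (Lpn (LP (LK LD1_c9 LD2_c32 LD3_c40))))
theorem seed_371 : LEOK LG_g (LK LD1_c9 LD2_c32 LD3_c40) :=
  Leoe_g (LK LD1_c9 LD2_c32 LD3_c40) (f652411 IH)
theorem f652396 : Led Lsl_cf (LP (LK LD1_c6 LD2_c48 LD3_c27)) = v5504 :=
  Lgr Lrot11 (Lpr_ct (f652395 IH) (Lpn v5504))
theorem f143913 : Led Lsl_ct (LP (LK LD1_c3 LD2_c22 LD3_c26)) = (LP (LK LD1_c1 LD2_c37 LD3_c30)) :=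
  Lre_c IH (LK LD1_c3 LD2_c22 LD3_c26) (LK LD1_c1 LD2_c37 LD3_c30) Lrfl Lrfl
theorem f632442 : Led Lsl_ef (LP (LK LD1_c2 LD2_c18 LD3_c23)) = v4291 :=
  Lgr Lrot88 (Lpr_et (f632440 IH) (Lpn v4291))
theorem f632447 : Led Lsl_at (LP (LK LD1_c3 LD2_c8 LD3_c46)) = v4291 :=
  Lgr Lrot80 (Lpe (f67108 IH) (Lpr_af (f504691 IH) (Lpqs (K32.f504896 IH) (Lpr_ef (f632442 IH) (Lpn v4291)))))
def v1311 : LQ := Led Lsl_et (LP (LK LD1_c1 LD2_c6 LD3_c56))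
theorem f494753 : Led Lsl_et (LP (LK LD1_c1 LD2_c6 LD3_c56)) = v1311 :=
  Lrfl
theorem f632444 : Led Lsl_gt v1311 = v4291 :=
  Lgr Lrot131 (Lpe (f494753 IH) (Lpr_dt (K7.f82493 IH) (Lpr_gf (K7.f152687 IH) (Lpe (K2.f25842 IH) (Lpe (K3.f82791 IH) (Lpe (K32.f82777 IH) (Lpr_dt (K32.f61071 IH) (Lpe (K31.f59488 IH) (Lpe (K35.f61085 IH) (Lpr_et (f632440 IH) (Lpn v4291)))))))))))
theorem f647990 : Led Lsl_gf v1311 = v5504 :=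
  Lgr Lrot47 (Lpr_gt (f632444 IH) (Lpe (f632447 IH) (Lpr_ff (f647987 IH) (Lpn v5504))))
theorem f494756 : Led Lsl_ef (LP (LK LD1_c1 LD2_c6 LD3_c56)) = v1311 :=
  Lgr Lrot88 (Lpr_et (f494753 IH) (Lpn v1311))
theorem f494757 : Led Lsl_at (LP (LK LD1_c1 LD2_c32 LD3_c20)) = v1311 :=
  Lgr Lrot80 (Lpe (f153800 IH) (Lpr_af (K7.f153963 IH) (Lpr_ef (f494756 IH) (Lpn v1311))))
theorem f153801 : Led Lsl_ft (LP (LK LD1_c3 LD2_c11 LD3_c37)) = (LP (LK LD1_c1 LD2_c32 LD3_c20)) :=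
  Lre_f IH (LK LD1_c3 LD2_c11 LD3_c37) (LK LD1_c1 LD2_c32 LD3_c20) Lrfl Lrfl
theorem f647991 : Led Lsl_gt (LP (LK LD1_c3 LD2_c11 LD3_c37)) = v5504 :=
  Lgr Lrot5 (Lpr_ft (f153801 IH) (Lpr_at (f494757 IH) (Lpr_gf (f647990 IH) (Lpn v5504))))
def v4294 : LQ := Led Lsl_et (LP (LK LD1_c2 LD2_c18 LD3_c27))
theorem f632458 : Led Lsl_et (LP (LK LD1_c2 LD2_c18 LD3_c27)) = v4294 :=
  Lrfl
theorem f153703 : Led Lsl_et (LP (LK LD1_c3 LD2_c11 LD3_c37)) = (LP (LK LD1_c1 LD2_c32 LD3_c9)) :=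
  Lre_e IH (LK LD1_c3 LD2_c11 LD3_c37) (LK LD1_c1 LD2_c32 LD3_c9) Lrfl Lrfl
theorem f632461 : Led Lsl_df (LP (LK LD1_c3 LD2_c11 LD3_c37)) = v4294 :=
  Lgr Lrot70 (Lpr_et (f153703 IH) (Lpr_dt (K7.f69090 IH) (Lpr_et (K24.f153623 IH) (Lpr_dt (K11.f61102 IH) (Lpr_et (f632458 IH) (Lpn v4294))))))
theorem f61079 : Led Lsl_ft (LP (LK LD1_c1 LD2_c6 LD3_c13)) = (LP (LK LD1_c2 LD2_c18 LD3_c27)) :=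
  Lre_f IH (LK LD1_c1 LD2_c6 LD3_c13) (LK LD1_c2 LD2_c18 LD3_c27) Lrfl Lrfl
theorem f152648 : Led Lsl_et (LP (LK LD1_c2 LD2_c18 LD3_c36)) = (LP (LK LD1_c1 LD2_c6 LD3_c19)) :=
  Lre_e IH (LK LD1_c2 LD2_c18 LD3_c36) (LK LD1_c1 LD2_c6 LD3_c19) Lrfl Lrfl
theorem f632463 : Led Lsl_ff (LP (LK LD1_c2 LD2_c18 LD3_c36)) = v4294 :=
  Lgr Lrot72 (Lpr_et (f152648 IH) (Lpr_ft (K32.f25906 IH) (Lpr_et (K24.f152205 IH) (Lpr_ft (f61079 IH) (Lpr_et (f632458 IH) (Lpn v4294))))))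
theorem f67081 : Led Lsl_ft (LP (LK LD1_c0 LD2_c18 LD3_c42)) = (LP (LK LD1_c0 LD2_c41 LD3_c56)) :=
  Lre_f IH (LK LD1_c0 LD2_c18 LD3_c42) (LK LD1_c0 LD2_c41 LD3_c56) Lrfl Lrfl
theorem f154002 : Led Lsl_af (LP (LK LD1_c1 LD2_c6 LD3_c19)) = (LP (LK LD1_c0 LD2_c41 LD3_c56)) :=
  Lgr Lrot45 (Lpr_ft (K32.f25906 IH) (Lpr_at (K32.f153966 IH) (Lpr_ft (f67081 IH) (Lpn (LP (LK LD1_c0 LD2_c41 LD3_c56))))))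
theorem f154004 : Led Lsl_et (LP (LK LD1_c1 LD2_c6 LD3_c19)) = (LP (LK LD1_c2 LD2_c18 LD3_c36)) :=
  Lre_e IH (LK LD1_c1 LD2_c6 LD3_c19) (LK LD1_c2 LD2_c18 LD3_c36) Lrfl Lrfl
theorem f152780 : Led Lsl_et (LP (LK LD1_c1 LD2_c30 LD3_c53)) = (LP (LK LD1_c0 LD2_c41 LD3_c56)) :=
  Lre_e IH (LK LD1_c1 LD2_c30 LD3_c53) (LK LD1_c0 LD2_c41 LD3_c56) Lrfl Lrfl
theorem f154005 : Led Lsl_at (LP (LK LD1_c2 LD2_c18 LD3_c36)) = (LP (LK LD1_c1 LD2_c30 LD3_c53)) :=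
  Lgr Lrot80 (Lpe (f154004 IH) (Lpr_af (f154002 IH) (Lpe (f152780 IH) (Lpn (LP (LK LD1_c1 LD2_c30 LD3_c53))))))
theorem f154012 : Led Lsl_gt (LP (LK LD1_c3 LD2_c9 LD3_c30)) = (LP (LK LD1_c1 LD2_c30 LD3_c53)) :=
  Lre_g IH (LK LD1_c3 LD2_c9 LD3_c30) (LK LD1_c1 LD2_c30 LD3_c53) Lrfl Lrfl
theorem f632468 : Led Lsl_gf (LP (LK LD1_c3 LD2_c9 LD3_c30)) = v4294 :=
  Lgr Lrot47 (Lpr_gt (f154012 IH) (Lpe (f154005 IH) (Lpr_ff (f632463 IH) (Lpn v4294))))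
theorem f494759 : Led Lsl_ct (LP (LK LD1_c3 LD2_c9 LD3_c30)) = (LP (LK LD1_c6 LD2_c23 LD3_c50)) :=
  Lre_c IH (LK LD1_c3 LD2_c9 LD3_c30) (LK LD1_c6 LD2_c23 LD3_c50) Lrfl Lrfl
theorem f652441 : Led Lsl_gf (LP (LK LD1_c3 LD2_c22 LD3_c26)) = (LP (LK LD1_c6 LD2_c23 LD3_c50)) :=
  Lgr Lrot104 (Lpr_ct (f143913 IH) (Lpe (K6.f146098 IH) (Lpe (K6.f57679 IH) (Lpe (f57680 IH) (Lpr_cf (f652396 IH) (Lpe (f647991 IH) (Lpr_df (f632461 IH) (Lpe (f632468 IH) (Lpr_ct (f494759 IH) (Lpn (LP (LK LD1_c6 LD2_c23 LD3_c50))))))))))))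
theorem f652442 : Led Lsl_gt (LP (LK LD1_c6 LD2_c23 LD3_c50)) = (LP (LK LD1_c3 LD2_c22 LD3_c26)) :=
  Leop (Lpr_gf (f652441 IH) (Lpn (LP (LK LD1_c6 LD2_c23 LD3_c50))))
theorem seed_372 : LEOK LG_g (LK LD1_c6 LD2_c23 LD3_c50) :=
  Leoe_g (LK LD1_c6 LD2_c23 LD3_c50) (f652442 IH)
theorem f652387 : Led Lsl_cf (LP (LK LD1_c6 LD2_c48 LD3_c26)) = v4291 :=
  Lgr Lrot108 (Lpr_ft (f652383 IH) (Lpr_ct (f153789 IH) (Lpr_ft (f632446 IH) (Lpn v4291))))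
theorem f154046 : Led Lsl_et (LP (LK LD1_c0 LD2_c41 LD3_c56)) = (LP (LK LD1_c1 LD2_c30 LD3_c53)) :=
  Lre_e IH (LK LD1_c0 LD2_c41 LD3_c56) (LK LD1_c1 LD2_c30 LD3_c53) Lrfl Lrfl
theorem f494758 : Led Lsl_dt (LP (LK LD1_c1 LD2_c30 LD3_c53)) = v1311 :=
  Lgr Lrot77 (Lpe (f154046 IH) (Lpe (K7.f152741 IH) (Lpr_ef (K7.f155809 IH) (Lpe (K7.f82493 IH) (Lpr_ef (f494756 IH) (Lpn v1311))))))
theorem f154094 : Led Lsl_gt (LP (LK LD1_c1 LD2_c30 LD3_c53)) = (LP (LK LD1_c3 LD2_c9 LD3_c29)) :=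
  Lre_g IH (LK LD1_c1 LD2_c30 LD3_c53) (LK LD1_c3 LD2_c9 LD3_c29) Lrfl Lrfl
theorem f494761 : Led Lsl_ct (LP (LK LD1_c3 LD2_c9 LD3_c29)) = (LP (LK LD1_c6 LD2_c23 LD3_c48)) :=
  Lre_c IH (LK LD1_c3 LD2_c9 LD3_c29) (LK LD1_c6 LD2_c23 LD3_c48) Lrfl Lrfl
theorem f652450 : Led Lsl_gf (LP (LK LD1_c6 LD2_c43 LD3_c9)) = (LP (LK LD1_c6 LD2_c23 LD3_c48)) :=
  Lgr Lrot104 (Lpr_ct (K6.f145988 IH) (Lpr_df (K6.f146062 IH) (Lpe (K32.f135405 IH) (Lpe (f438838 IH) (Lpr_cf (f652387 IH) (Lpe (f632444 IH) (Lpe (f494758 IH) (Lpr_gt (f154094 IH) (Lpr_ct (f494761 IH) (Lpn (LP (LK LD1_c6 LD2_c23 LD3_c48))))))))))))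
theorem f652451 : Led Lsl_gt (LP (LK LD1_c6 LD2_c23 LD3_c48)) = (LP (LK LD1_c6 LD2_c43 LD3_c9)) :=
  Leop (Lpr_gf (f652450 IH) (Lpn (LP (LK LD1_c6 LD2_c23 LD3_c48))))
theorem seed_373 : LEOK LG_g (LK LD1_c6 LD2_c23 LD3_c48) :=
  Leoe_g (LK LD1_c6 LD2_c23 LD3_c48) (f652451 IH)
def v6268 : LQ := Led Lsl_ft (LP (LK LD1_c3 LD2_c19 LD3_c45))
theorem f652492 : Led Lsl_ft (LP (LK LD1_c3 LD2_c19 LD3_c45)) = v6268 :=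
  Lrfl
theorem f62605 : Led Lsl_gt (LP (LK LD1_c3 LD2_c19 LD3_c45)) = (LP (LK LD1_c6 LD2_c43 LD3_c17)) :=
  Lre_g IH (LK LD1_c3 LD2_c19 LD3_c45) (LK LD1_c6 LD2_c43 LD3_c17) Lrfl Lrfl
theorem f62365 : Led Lsl_ft (LP (LK LD1_c3 LD2_c19 LD3_c60)) = (LP (LK LD1_c1 LD2_c36 LD3_c22)) :=
  Lre_f IH (LK LD1_c3 LD2_c19 LD3_c60) (LK LD1_c1 LD2_c36 LD3_c22) Lrfl Lrfl
theorem f652493 : Led Lsl_af (LP (LK LD1_c3 LD2_c19 LD3_c60)) = v6268 :=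
  Lgr Lrot45 (Lpr_ft (f62365 IH) (Lpr_at (K6.f62372 IH) (Lpr_ft (f652492 IH) (Lpn v6268))))
theorem f652496 : Led Lsl_gt (LP (LK LD1_c6 LD2_c43 LD3_c17)) = (LP (LK LD1_c3 LD2_c19 LD3_c60)) :=
  Lgr Lrot46 (Lpe (f62605 IH) (Lpr_ft (f652492 IH) (Lpe (f652493 IH) (Lpn (LP (LK LD1_c3 LD2_c19 LD3_c60))))))
theorem f652497 : Led Lsl_gt (LP (LK LD1_c6 LD2_c43 LD3_c17)) = (LP (LK LD1_c3 LD2_c19 LD3_c60)) :=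
  Leop (Lpe (f652496 IH) (Lpn (LP (LK LD1_c6 LD2_c43 LD3_c17))))
theorem seed_374 : LEOK LG_g (LK LD1_c6 LD2_c43 LD3_c17) :=
  Leoe_g (LK LD1_c6 LD2_c43 LD3_c17) (f652497 IH)
def v6332 : LQ := Led Lsl_ft (LP (LK LD1_c3 LD2_c20 LD3_c34))
theorem f652812 : Led Lsl_ft (LP (LK LD1_c3 LD2_c20 LD3_c34)) = v6332 :=
  Lrfl
theorem f454778 : Led Lsl_gt (LP (LK LD1_c3 LD2_c20 LD3_c34)) = (LP (LK LD1_c6 LD2_c44 LD3_c54)) :=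
  Lre_g IH (LK LD1_c3 LD2_c20 LD3_c34) (LK LD1_c6 LD2_c44 LD3_c54) Lrfl Lrfl
def v6329 : LQ := Led Lsl_at (LP (LK LD1_c3 LD2_c20 LD3_c34))
theorem f652786 : Led Lsl_at (LP (LK LD1_c3 LD2_c20 LD3_c34)) = v6329 :=
  Lrfl
theorem f652787 : Led Lsl_af (LP (LK LD1_c3 LD2_c20 LD3_c34)) = v6329 :=
  Lgr Lrot0 (Lpr_at (f652786 IH) (Lpn v6329))
theorem f454779 : Led Lsl_ct (LP (LK LD1_c1 LD2_c36 LD3_c38)) = (LP (LK LD1_c3 LD2_c20 LD3_c34)) :=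
  Lre_c IH (LK LD1_c1 LD2_c36 LD3_c38) (LK LD1_c3 LD2_c20 LD3_c34) Lrfl Lrfl
def v2154 : LQ := Led Lsl_at (LP (LK LD1_c1 LD2_c36 LD3_c38))
theorem f509292 : Led Lsl_at (LP (LK LD1_c1 LD2_c36 LD3_c38)) = v2154 :=
  Lrfl
theorem f509293 : Led Lsl_af (LP (LK LD1_c1 LD2_c36 LD3_c38)) = v2154 :=
  Lgr Lrot0 (Lpr_at (f509292 IH) (Lpn v2154))
theorem f652788 : Led Lsl_cf v2154 = v6329 :=
  Lgr Lrot1 (Lpe (f509293 IH) (Lpr_ct (f454779 IH) (Lpr_at (f652786 IH) (Lpn v6329))))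
theorem f142143 : Led Lsl_gt (LP (LK LD1_c0 LD2_c44 LD3_c47)) = (LP (LK LD1_c1 LD2_c36 LD3_c38)) :=
  Lre_g IH (LK LD1_c0 LD2_c44 LD3_c47) (LK LD1_c1 LD2_c36 LD3_c38) Lrfl Lrfl
theorem f509300 : Led Lsl_ft (LP (LK LD1_c1 LD2_c36 LD3_c39)) = v2154 :=
  Lgr Lrot2 (Lpr_gt (f438065 IH) (Lpr_gt (f142143 IH) (Lpr_af (f509293 IH) (Lpn v2154))))
theorem f509309 : Led Lsl_ff (LP (LK LD1_c1 LD2_c36 LD3_c39)) = v2154 :=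
  Lgr Lrot3 (Lpr_ft (f509300 IH) (Lpn v2154))
theorem f509311 : Led Lsl_ct (LP (LK LD1_c1 LD2_c36 LD3_c39)) = (LP (LK LD1_c3 LD2_c20 LD3_c38)) :=
  Lre_c IH (LK LD1_c1 LD2_c36 LD3_c39) (LK LD1_c3 LD2_c20 LD3_c38) Lrfl Lrfl
theorem f652790 : Led Lsl_ft (LP (LK LD1_c3 LD2_c20 LD3_c38)) = v6329 :=
  Lgr Lrot4 (Lpe (f509311 IH) (Lpr_ff (f509309 IH) (Lpr_cf (f652788 IH) (Lpn v6329))))
theorem f652813 : Led Lsl_af (LP (LK LD1_c3 LD2_c20 LD3_c38)) = v6332 :=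
  Lgr Lrot45 (Lpr_ft (f652790 IH) (Lpe (f652787 IH) (Lpr_ft (f652812 IH) (Lpn v6332))))
theorem f652816 : Led Lsl_gt (LP (LK LD1_c6 LD2_c44 LD3_c54)) = (LP (LK LD1_c3 LD2_c20 LD3_c38)) :=
  Lgr Lrot46 (Lpe (f454778 IH) (Lpr_ft (f652812 IH) (Lpe (f652813 IH) (Lpn (LP (LK LD1_c3 LD2_c20 LD3_c38))))))
theorem f652817 : Led Lsl_gt (LP (LK LD1_c6 LD2_c44 LD3_c54)) = (LP (LK LD1_c3 LD2_c20 LD3_c38)) :=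
  Leop (Lpe (f652816 IH) (Lpn (LP (LK LD1_c6 LD2_c44 LD3_c54))))
theorem seed_375 : LEOK LG_g (LK LD1_c6 LD2_c44 LD3_c54) :=
  Leoe_g (LK LD1_c6 LD2_c44 LD3_c54) (f652817 IH)
def v6333 : LQ := Led Lsl_at (LP (LK LD1_c3 LD2_c20 LD3_c35))
theorem f652841 : Led Lsl_at (LP (LK LD1_c3 LD2_c20 LD3_c35)) = v6333 :=
  Lrfl
theorem f142147 : Led Lsl_dt (LP (LK LD1_c1 LD2_c36 LD3_c38)) = (LP (LK LD1_c3 LD2_c20 LD3_c35)) :=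
  Lre_d IH (LK LD1_c1 LD2_c36 LD3_c38) (LK LD1_c3 LD2_c20 LD3_c35) Lrfl Lrfl
theorem f652843 : Led Lsl_df v2154 = v6333 :=
  Lgr Lrot18 (Lpe (f509293 IH) (Lpr_dt (f142147 IH) (Lpr_at (f652841 IH) (Lpn v6333))))
theorem f509303 : Led Lsl_dt (LP (LK LD1_c1 LD2_c36 LD3_c39)) = (LP (LK LD1_c3 LD2_c20 LD3_c39)) :=
  Lre_d IH (LK LD1_c1 LD2_c36 LD3_c39) (LK LD1_c3 LD2_c20 LD3_c39) Lrfl Lrfl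
theorem f652846 : Led Lsl_ft (LP (LK LD1_c3 LD2_c20 LD3_c39)) = v6333 :=
  Lgr Lrot54 (Lpe (f509303 IH) (Lpr_ff (f509309 IH) (Lpr_df (f652843 IH) (Lpn v6333))))
theorem f652842 : Led Lsl_af (LP (LK LD1_c3 LD2_c20 LD3_c35)) = v6333 :=
  Lgr Lrot0 (Lpr_at (f652841 IH) (Lpn v6333))
theorem f652734 : Led Lsl_gt (LP (LK LD1_c6 LD2_c44 LD3_c57)) = (LP (LK LD1_c3 LD2_c20 LD3_c35)) :=
  Lre_g IH (LK LD1_c6 LD2_c44 LD3_c57) (LK LD1_c3 LD2_c20 LD3_c35) Lrfl Lrfl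
theorem f652848 : Led Lsl_gt (LP (LK LD1_c3 LD2_c20 LD3_c39)) = (LP (LK LD1_c6 LD2_c44 LD3_c57)) :=
  Lgr Lrot5 (Lpr_ft (f652846 IH) (Lpe (f652842 IH) (Lpe (f652734 IH) (Lpn (LP (LK LD1_c6 LD2_c44 LD3_c57))))))
theorem f652849 : Led Lsl_gt (LP (LK LD1_c3 LD2_c20 LD3_c39)) = (LP (LK LD1_c6 LD2_c44 LD3_c57)) :=
  Leop (Lpe (f652848 IH) (Lpn (LP (LK LD1_c3 LD2_c20 LD3_c39))))
theorem seed_376 : LEOK LG_g (LK LD1_c3 LD2_c20 LD3_c39) :=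
  Leoe_g (LK LD1_c3 LD2_c20 LD3_c39) (f652849 IH)
def v6334 : LQ := Led Lsl_ft (LP (LK LD1_c3 LD2_c20 LD3_c35))
theorem f652854 : Led Lsl_ft (LP (LK LD1_c3 LD2_c20 LD3_c35)) = v6334 :=
  Lrfl
theorem f142148 : Led Lsl_gt (LP (LK LD1_c3 LD2_c20 LD3_c35)) = (LP (LK LD1_c6 LD2_c44 LD3_c56)) :=
  Lre_g IH (LK LD1_c3 LD2_c20 LD3_c35) (LK LD1_c6 LD2_c44 LD3_c56) Lrfl Lrfl
theorem f652855 : Led Lsl_af (LP (LK LD1_c3 LD2_c20 LD3_c39)) = v6334 :=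
  Lgr Lrot45 (Lpr_ft (f652846 IH) (Lpe (f652842 IH) (Lpr_ft (f652854 IH) (Lpn v6334))))
theorem f652859 : Led Lsl_gt (LP (LK LD1_c6 LD2_c44 LD3_c56)) = (LP (LK LD1_c3 LD2_c20 LD3_c39)) :=
  Lgr Lrot46 (Lpe (f142148 IH) (Lpr_ft (f652854 IH) (Lpe (f652855 IH) (Lpn (LP (LK LD1_c3 LD2_c20 LD3_c39))))))
theorem f652860 : Led Lsl_gt (LP (LK LD1_c6 LD2_c44 LD3_c56)) = (LP (LK LD1_c3 LD2_c20 LD3_c39)) :=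
  Leop (Lpe (f652859 IH) (Lpn (LP (LK LD1_c6 LD2_c44 LD3_c56))))
theorem seed_377 : LEOK LG_g (LK LD1_c6 LD2_c44 LD3_c56) :=
  Leoe_g (LK LD1_c6 LD2_c44 LD3_c56) (f652860 IH)
def v6369 : LQ := Led Lsl_bt (LP (LK LD1_c3 LD2_c20 LD3_c60))
theorem f653017 : Led Lsl_bt (LP (LK LD1_c3 LD2_c20 LD3_c60)) = v6369 :=
  Lrfl
theorem f653020 : Led Lsl_df (LP (LK LD1_c9 LD2_c9 LD3_c12)) = v6369 :=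
  Lgr Lrot12 (Lpr_bt (K42.f442813 IH) (Lpr_dt (K32.f442817 IH) (Lpr_bt (f653017 IH) (Lpn v6369))))
theorem f615047 : Led Lsl_gf (LP (LK LD1_c9 LD2_c9 LD3_c12)) = (LP (LK LD1_c4 LD2_c37 LD3_c34)) :=
  Lgr Lrot76 (Lpe (K42.f507761 IH) (Lpr_ff (K42.f615041 IH) (Lpr_gt (K42.f99669 IH) (Lpn (LP (LK LD1_c4 LD2_c37 LD3_c34))))))
theorem f100012 : Led Lsl_gt (LP (LK LD1_c4 LD2_c37 LD3_c33)) = (LP (LK LD1_c2 LD2_c15 LD3_c59)) :=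
  Lre_g IH (LK LD1_c4 LD2_c37 LD3_c33) (LK LD1_c2 LD2_c15 LD3_c59) Lrfl Lrfl
theorem f615051 : Led Lsl_et (LP (LK LD1_c9 LD2_c10 LD3_c46)) = (LP (LK LD1_c4 LD2_c37 LD3_c33)) :=
  Lre_e IH (LK LD1_c9 LD2_c10 LD3_c46) (LK LD1_c4 LD2_c37 LD3_c33) Lrfl Lrfl
theorem f615055 : Led Lsl_et (LP (LK LD1_c2 LD2_c16 LD3_c12)) = (LP (LK LD1_c4 LD2_c38 LD3_c18)) :=
  Lre_e IH (LK LD1_c2 LD2_c16 LD3_c12) (LK LD1_c4 LD2_c38 LD3_c18) Lrfl Lrfl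
theorem f615056 : Led Lsl_gt (LP (LK LD1_c9 LD2_c12 LD3_c25)) = (LP (LK LD1_c4 LD2_c38 LD3_c18)) :=
  Lre_g IH (LK LD1_c9 LD2_c12 LD3_c25) (LK LD1_c4 LD2_c38 LD3_c18) Lrfl Lrfl
theorem f653026 : Led Lsl_ef (LP (LK LD1_c9 LD2_c12 LD3_c25)) = v6369 :=
  Lgr Lrot114 (Lpr_gt (f615056 IH) (Lpe (f615055 IH) (Lpr_dt (K45.f615054 IH) (Lpr_gt (K45.f615053 IH) (Lpe (K45.f615052 IH) (Lpr_et (f615051 IH) (Lpr_gt (f100012 IH) (Lpr_dt (K42.f99668 IH) (Lpe (f615047 IH) (Lpr_df (f653020 IH) (Lpn v6369)))))))))))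
theorem f653027 : Led Lsl_bt (LP (LK LD1_c9 LD2_c12 LD3_c25)) = (LP (LK LD1_c4 LD2_c39 LD3_c6)) :=
  Lgr Lrot119 (Lpr_ef (f653026 IH) (Lpe (f653017 IH) (Lpe (K35.f442823 IH) (Lpn (LP (LK LD1_c4 LD2_c39 LD3_c6))))))
theorem f653028 : Led Lsl_bt (LP (LK LD1_c9 LD2_c12 LD3_c25)) = (LP (LK LD1_c4 LD2_c39 LD3_c6)) :=
  Leop (Lpe (f653027 IH) (Lpn (LP (LK LD1_c9 LD2_c12 LD3_c25))))
theorem seed_378 : LEOK LG_b (LK LD1_c9 LD2_c12 LD3_c25) :=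
  Leoe_b (LK LD1_c9 LD2_c12 LD3_c25) (f653028 IH)
def v6381 : LQ := Led Lsl_bt (LP (LK LD1_c3 LD2_c21 LD3_c12))
theorem f653105 : Led Lsl_bt (LP (LK LD1_c3 LD2_c21 LD3_c12)) = v6381 :=
  Lrfl
theorem f9310 : Led Lsl_ft (LP (LK LD1_c4 LD2_c33 LD3_c55)) = (LP (LK LD1_c3 LD2_c21 LD3_c12)) :=
  Lre_f IH (LK LD1_c4 LD2_c33 LD3_c55) (LK LD1_c3 LD2_c21 LD3_c12) Lrfl Lrfl
theorem f176327 : Led Lsl_bt (LP (LK LD1_c9 LD2_c4 LD3_c22)) = (LP (LK LD1_c4 LD2_c33 LD3_c55)) :=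
  Lre_b IH (LK LD1_c9 LD2_c4 LD3_c22) (LK LD1_c4 LD2_c33 LD3_c55) Lrfl Lrfl
theorem f653111 : Led Lsl_ff (LP (LK LD1_c9 LD2_c4 LD3_c22)) = v6381 :=
  Lgr Lrot25 (Lpr_bt (f176327 IH) (Lpr_ft (f9310 IH) (Lpr_bt (f653105 IH) (Lpn v6381))))
theorem f653116 : Led Lsl_ft (LP (LK LD1_c9 LD2_c4 LD3_c22)) = v6381 :=
  Lgr Lrot48 (Lpr_ff (f653111 IH) (Lpn v6381))
theorem f176347 : Led Lsl_gt (LP (LK LD1_c9 LD2_c4 LD3_c22)) = (LP (LK LD1_c16 LD2_c55 LD3_c55)) :=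
  Lre_g IH (LK LD1_c9 LD2_c4 LD3_c22) (LK LD1_c16 LD2_c55 LD3_c55) Lrfl Lrfl
theorem f9223 : Led Lsl_at (LP (LK LD1_c4 LD2_c49 LD3_c41)) = (LP (LK LD1_c3 LD2_c21 LD3_c12)) :=
  Lre_a IH (LK LD1_c4 LD2_c49 LD3_c41) (LK LD1_c3 LD2_c21 LD3_c12) Lrfl Lrfl
theorem f211877 : Led Lsl_bt (LP (LK LD1_c9 LD2_c31 LD3_c10)) = (LP (LK LD1_c4 LD2_c49 LD3_c41)) :=
  Lre_b IH (LK LD1_c9 LD2_c31 LD3_c10) (LK LD1_c4 LD2_c49 LD3_c41) Lrfl Lrfl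
theorem f546048 : Led Lsl_at (LP (LK LD1_c17 LD2_c31 LD3_c58)) = (LP (LK LD1_c9 LD2_c31 LD3_c10)) :=
  Lre_a IH (LK LD1_c17 LD2_c31 LD3_c58) (LK LD1_c9 LD2_c31 LD3_c10) Lrfl Lrfl
theorem f653106 : Led Lsl_af (LP (LK LD1_c11 LD2_c39 LD3_c25)) = v6381 :=
  Lgr Lrot36 (Lpr_bt (K37.f546032 IH) (Lpr_at (f546048 IH) (Lpr_bt (f211877 IH) (Lpr_at (f9223 IH) (Lpr_bt (f653105 IH) (Lpn v6381))))))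
theorem f653120 : Led Lsl_gt (LP (LK LD1_c16 LD2_c55 LD3_c55)) = (LP (LK LD1_c11 LD2_c39 LD3_c25)) :=
  Lgr Lrot46 (Lpe (f176347 IH) (Lpr_ft (f653116 IH) (Lpe (f653106 IH) (Lpn (LP (LK LD1_c11 LD2_c39 LD3_c25))))))
theorem f653121 : Led Lsl_gt (LP (LK LD1_c16 LD2_c55 LD3_c55)) = (LP (LK LD1_c11 LD2_c39 LD3_c25)) :=
  Leop (Lpe (f653120 IH) (Lpn (LP (LK LD1_c16 LD2_c55 LD3_c55))))
theorem seed_379 : LEOK LG_g (LK LD1_c16 LD2_c55 LD3_c55) :=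
  Leoe_g (LK LD1_c16 LD2_c55 LD3_c55) (f653121 IH)
def v6420 : LQ := Led Lsl_dt (LP (LK LD1_c3 LD2_c21 LD3_c36))
theorem f653280 : Led Lsl_dt (LP (LK LD1_c3 LD2_c21 LD3_c36)) = v6420 :=
  Lrfl
def v6416 : LQ := Led Lsl_dt (LP (LK LD1_c3 LD2_c21 LD3_c26))
theorem f653262 : Led Lsl_dt (LP (LK LD1_c3 LD2_c21 LD3_c26)) = v6416 :=
  Lrfl
theorem f653264 : Led Lsl_df (LP (LK LD1_c3 LD2_c21 LD3_c26)) = v6416 :=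
  Lgr Lrot38 (Lpr_dt (f653262 IH) (Lpn v6416))
theorem f653284 : Led Lsl_ff v6416 = v6420 :=
  Lgr Lrot19 (Lpe (f653264 IH) (Lpr_ft (K24.f454180 IH) (Lpr_dt (f653280 IH) (Lpn v6420))))
theorem f653286 : Led Lsl_ft v6416 = v6420 :=
  Lgr Lrot48 (Lpr_ff (f653284 IH) (Lpn v6420))
theorem f454216 : Led Lsl_at (LP (LK LD1_c6 LD2_c46 LD3_c53)) = (LP (LK LD1_c3 LD2_c21 LD3_c36)) :=
  Lre_a IH (LK LD1_c6 LD2_c46 LD3_c53) (LK LD1_c3 LD2_c21 LD3_c36) Lrfl Lrfl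
theorem f615688 : Led Lsl_et (LP (LK LD1_c16 LD2_c57 LD3_c52)) = (LP (LK LD1_c9 LD2_c6 LD3_c3)) :=
  Lre_e IH (LK LD1_c16 LD2_c57 LD3_c52) (LK LD1_c9 LD2_c6 LD3_c3) Lrfl Lrfl
theorem f105161 : Led Lsl_et (LP (LK LD1_c9 LD2_c30 LD3_c3)) = (LP (LK LD1_c17 LD2_c31 LD3_c24)) :=
  Lre_e IH (LK LD1_c9 LD2_c30 LD3_c3) (LK LD1_c17 LD2_c31 LD3_c24) Lrfl Lrfl
theorem f643172 : Led Lsl_cf (LP (LK LD1_c16 LD2_c57 LD3_c52)) = (LP (LK LD1_c17 LD2_c31 LD3_c24)) :=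
  Lgr Lrot39 (Lpr_et (f615688 IH) (Lpr_ct (K42.f643165 IH) (Lpr_et (f105161 IH) (Lpn (LP (LK LD1_c17 LD2_c31 LD3_c24))))))
theorem f436275 : Led Lsl_bt (LP (LK LD1_c1 LD2_c22 LD3_c23)) = (LP (LK LD1_c2 LD2_c52 LD3_c32)) :=
  Lre_b IH (LK LD1_c1 LD2_c22 LD3_c23) (LK LD1_c2 LD2_c52 LD3_c32) Lrfl Lrfl
theorem f442881 : Led Lsl_ct (LP (LK LD1_c11 LD2_c39 LD3_c49)) = (LP (LK LD1_c20 LD2_c39 LD3_c49)) :=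
  Lre_c IH (LK LD1_c11 LD2_c39 LD3_c49) (LK LD1_c20 LD2_c39 LD3_c49) Lrfl Lrfl
theorem f641867 : Led Lsl_ft (LP (LK LD1_c5 LD2_c58 LD3_c28)) = (LP (LK LD1_c11 LD2_c39 LD3_c49)) :=
  Lgr Lrot48 (Lpr_ff (K42.f641855 IH) (Lpn (LP (LK LD1_c11 LD2_c39 LD3_c49))))
theorem f428303 : Led Lsl_ct (LP (LK LD1_c11 LD2_c41 LD3_c30)) = (LP (LK LD1_c5 LD2_c58 LD3_c28)) :=
  Lre_c IH (LK LD1_c11 LD2_c41 LD3_c30) (LK LD1_c5 LD2_c58 LD3_c28) Lrfl Lrfl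
theorem f641875 : Led Lsl_ff (LP (LK LD1_c11 LD2_c41 LD3_c30)) = (LP (LK LD1_c20 LD2_c39 LD3_c49)) :=
  Lgr Lrot23 (Lpr_ct (f428303 IH) (Lpr_ft (f641867 IH) (Lpr_ct (f442881 IH) (Lpn (LP (LK LD1_c20 LD2_c39 LD3_c49))))))
theorem f641877 : Led Lsl_at (LP (LK LD1_c11 LD2_c41 LD3_c30)) = (LP (LK LD1_c5 LD2_c59 LD3_c9)) :=
  Lre_a IH (LK LD1_c11 LD2_c41 LD3_c30) (LK LD1_c5 LD2_c59 LD3_c9) Lrfl Lrfl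
theorem f598723 : Led Lsl_gt (LP (LK LD1_c11 LD2_c42 LD3_c47)) = (LP (LK LD1_c5 LD2_c59 LD3_c9)) :=
  Lre_g IH (LK LD1_c11 LD2_c42 LD3_c47) (LK LD1_c5 LD2_c59 LD3_c9) Lrfl Lrfl
theorem f641886 : Led Lsl_gf (LP (LK LD1_c11 LD2_c42 LD3_c47)) = (LP (LK LD1_c20 LD2_c39 LD3_c49)) :=
  Lgr Lrot47 (Lpr_gt (f598723 IH) (Lpe (f641877 IH) (Lpr_ff (f641875 IH) (Lpn (LP (LK LD1_c20 LD2_c39 LD3_c49))))))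
theorem f642947 : Led Lsl_ct (LP (LK LD1_c11 LD2_c31 LD3_c34)) = (LP (LK LD1_c11 LD2_c42 LD3_c47)) :=
  Lgr Lrot63 (Lpr_bt (K45.f22600 IH) (Lpr_gt (K42.f22599 IH) (Lpe (f436275 IH) (Lpr_ct (K42.f500339 IH) (Lpr_gt (K42.f641187 IH) (Lpe (K42.f641182 IH) (Lpr_bt (K42.f23852 IH) (Lpq (K42.f642920 IH) (Lpr_gt (K42.f641941 IH) (Lpr_ct (f442881 IH) (Lpe (f641886 IH) (Lpn (LP (LK LD1_c11 LD2_c42 LD3_c47))))))))))))))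
theorem f642952 : Led Lsl_cf (LP (LK LD1_c11 LD2_c31 LD3_c34)) = (LP (LK LD1_c11 LD2_c42 LD3_c47)) :=
  Lgr Lrot11 (Lpr_ct (f642947 IH) (Lpn (LP (LK LD1_c11 LD2_c42 LD3_c47))))
theorem f446107 : Led Lsl_gt (LP (LK LD1_c6 LD2_c32 LD3_c35)) = (LP (LK LD1_c12 LD2_c32 LD3_c45)) :=
  Lre_g IH (LK LD1_c6 LD2_c32 LD3_c35) (LK LD1_c12 LD2_c32 LD3_c45) Lrfl Lrfl
theorem f446109 : Led Lsl_ct (LP (LK LD1_c12 LD2_c32 LD3_c45)) = (LP (LK LD1_c21 LD2_c38 LD3_c48)) :=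
  Lre_c IH (LK LD1_c12 LD2_c32 LD3_c45) (LK LD1_c21 LD2_c38 LD3_c48) Lrfl Lrfl
theorem f643220 : Led Lsl_gt (LP (LK LD1_c21 LD2_c38 LD3_c48)) = (LP (LK LD1_c17 LD2_c31 LD3_c24)) :=
  Lgr Lrot150 (Lpe (f446109 IH) (Lpe (f446107 IH) (Lpe (K42.f23854 IH) (Lpq (K42.f642920 IH) (Lpr_gt (K42.f641941 IH) (Lpr_ct (f442881 IH) (Lpe (f641886 IH) (Lpe (f642952 IH) (Lpr_df (K45.f615685 IH) (Lpr_cf (f643172 IH) (Lpn (LP (LK LD1_c17 LD2_c31 LD3_c24)))))))))))))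
theorem f23840 : Led Lsl_bt (LP (LK LD1_c3 LD2_c14 LD3_c27)) = (LP (LK LD1_c6 LD2_c32 LD3_c35)) :=
  Lre_b IH (LK LD1_c3 LD2_c14 LD3_c27) (LK LD1_c6 LD2_c32 LD3_c35) Lrfl Lrfl
theorem f643218 : Led Lsl_ct (LP (LK LD1_c16 LD2_c57 LD3_c52)) = (LP (LK LD1_c17 LD2_c31 LD3_c24)) :=
  Lgr Lrot59 (Lpr_cf (f643172 IH) (Lpn (LP (LK LD1_c17 LD2_c31 LD3_c24))))
theorem f615666 : Led Lsl_bt (LP (LK LD1_c16 LD2_c57 LD3_c52)) = (LP (LK LD1_c9 LD2_c6 LD3_c4)) :=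
  Lre_b IH (LK LD1_c16 LD2_c57 LD3_c52) (LK LD1_c9 LD2_c6 LD3_c4) Lrfl Lrfl
theorem f643224 : Led Lsl_gf (LP (LK LD1_c4 LD2_c50 LD3_c0)) = (LP (LK LD1_c9 LD2_c6 LD3_c4)) :=
  Lgr Lrot124 (Lpe (K24.f446143 IH) (Lpr_ct (K24.f446136 IH) (Lpr_gt (K24.f446151 IH) (Lpe (K0.f23786 IH) (Lpr_bt (f23840 IH) (Lpr_gt (f446107 IH) (Lpr_ct (f446109 IH) (Lpr_gt (f643220 IH) (Lpe (f643218 IH) (Lpr_bt (f615666 IH) (Lpn (LP (LK LD1_c9 LD2_c6 LD3_c4)))))))))))))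
theorem f454193 : Led Lsl_ft (LP (LK LD1_c4 LD2_c50 LD3_c0)) = (LP (LK LD1_c6 LD2_c46 LD3_c54)) :=
  Lgr Lrot48 (Lpr_ff (K24.f454184 IH) (Lpn (LP (LK LD1_c6 LD2_c46 LD3_c54))))
theorem f454196 : Led Lsl_at (LP (LK LD1_c6 LD2_c46 LD3_c54)) = (LP (LK LD1_c12 LD2_c56 LD3_c53)) :=
  Lre_a IH (LK LD1_c6 LD2_c46 LD3_c54) (LK LD1_c12 LD2_c56 LD3_c53) Lrfl Lrfl
theorem f454197 : Led Lsl_ff (LP (LK LD1_c9 LD2_c32 LD3_c33)) = (LP (LK LD1_c12 LD2_c56 LD3_c53)) :=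
  Lgr Lrot30 (Lpr_at (K24.f454195 IH) (Lpr_ft (f454193 IH) (Lpr_at (f454196 IH) (Lpn (LP (LK LD1_c12 LD2_c56 LD3_c53))))))
theorem f643226 : Led Lsl_gt (LP (LK LD1_c12 LD2_c56 LD3_c53)) = (LP (LK LD1_c9 LD2_c6 LD3_c4)) :=
  Lgr Lrot5 (Lpe (f454197 IH) (Lpr_at (K24.f454195 IH) (Lpr_gf (f643224 IH) (Lpn (LP (LK LD1_c9 LD2_c6 LD3_c4))))))
theorem f452214 : Led Lsl_dt (LP (LK LD1_c1 LD2_c22 LD3_c19)) = (LP (LK LD1_c2 LD2_c52 LD3_c32)) :=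
  Lre_d IH (LK LD1_c1 LD2_c22 LD3_c19) (LK LD1_c2 LD2_c52 LD3_c32) Lrfl Lrfl
theorem f152057 : Led Lsl_et (LP (LK LD1_c1 LD2_c22 LD3_c19)) = (LP (LK LD1_c0 LD2_c38 LD3_c8)) :=
  Lre_e IH (LK LD1_c1 LD2_c22 LD3_c19) (LK LD1_c0 LD2_c38 LD3_c8) Lrfl Lrfl
theorem f643230 : Led Lsl_dt (LP (LK LD1_c6 LD2_c46 LD3_c53)) = (LP (LK LD1_c5 LD2_c37 LD3_c47)) :=
  Lgr Lrot37 (Lpr_et (K24.f454203 IH) (Lpr_gt (f643226 IH) (Lpe (K45.f615663 IH) (Lpr_gt (K42.f22599 IH) (Lpe (f452214 IH) (Lpr_et (f152057 IH) (Lpr_gt (K11.f22495 IH) (Lpe (K32.f206498 IH) (Lpe (K41.f615369 IH) (Lpr_gt (K41.f319431 IH) (Lpn (LP (LK LD1_c5 LD2_c37 LD3_c47)))))))))))))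
theorem f643234 : Led Lsl_df (LP (LK LD1_c6 LD2_c46 LD3_c53)) = (LP (LK LD1_c5 LD2_c37 LD3_c47)) :=
  Lgr Lrot38 (Lpr_dt (f643230 IH) (Lpn (LP (LK LD1_c5 LD2_c37 LD3_c47))))
theorem f653281 : Led Lsl_af (LP (LK LD1_c5 LD2_c37 LD3_c47)) = v6420 :=
  Lgr Lrot117 (Lpe (f643234 IH) (Lpr_at (f454216 IH) (Lpr_dt (f653280 IH) (Lpn v6420))))
theorem f319507 : Led Lsl_gt (LP (LK LD1_c5 LD2_c37 LD3_c48)) = (LP (LK LD1_c2 LD2_c44 LD3_c50)) :=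
  Lre_g IH (LK LD1_c5 LD2_c37 LD3_c48) (LK LD1_c2 LD2_c44 LD3_c50) Lrfl Lrfl
theorem f653287 : v6416 = (LP (LK LD1_c5 LD2_c37 LD3_c48)) :=
  (Llr Lrot52 (Lpr_ft (f653286 IH) (Lpe (f653281 IH) (Lpe (K41.f319431 IH) (Lpe (f319507 IH) (Lpn (LP (LK LD1_c5 LD2_c37 LD3_c48)))))))).symm
theorem f653263 : Led Lsl_bf (LP (LK LD1_c3 LD2_c21 LD3_c32)) = v6416 :=
  Lgr Lrot93 (Lpr_dt (K16.f23198 IH) (Lpr_bt (K24.f416798 IH) (Lpr_dt (f653262 IH) (Lpn v6416))))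
theorem f653288 : Led Lsl_bt (LP (LK LD1_c5 LD2_c37 LD3_c48)) = (LP (LK LD1_c3 LD2_c21 LD3_c32)) :=
  Leop (Lpr_bf (f653263 IH) (Lpqs (f653287 IH) (Lpn (LP (LK LD1_c5 LD2_c37 LD3_c48)))))
theorem seed_380 : LEOK LG_b (LK LD1_c5 LD2_c37 LD3_c48) :=
  Leoe_b (LK LD1_c5 LD2_c37 LD3_c48) (f653288 IH)
def v4872 : LQ := Led Lsl_et (LP (LK LD1_c2 LD2_c51 LD3_c18))
theorem f640654 : Led Lsl_et (LP (LK LD1_c2 LD2_c51 LD3_c18)) = v4872 :=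
  Lrfl
def v1567 : LQ := Led Lsl_et (LP (LK LD1_c1 LD2_c21 LD3_c43))
theorem f499989 : Led Lsl_et (LP (LK LD1_c1 LD2_c21 LD3_c43)) = v1567 :=
  Lrfl
theorem f499990 : Led Lsl_ef (LP (LK LD1_c1 LD2_c21 LD3_c43)) = v1567 :=
  Lgr Lrot88 (Lpr_et (f499989 IH) (Lpn v1567))
theorem f640656 : Led Lsl_bf v1567 = v4872 :=
  Lgr Lrot96 (Lpe (f499990 IH) (Lpr_bt (K8.f26523 IH) (Lpr_et (f640654 IH) (Lpn v4872))))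
theorem f26535 : Led Lsl_et (LP (LK LD1_c5 LD2_c59 LD3_c44)) = (LP (LK LD1_c2 LD2_c56 LD3_c11)) :=
  Lre_e IH (LK LD1_c5 LD2_c59 LD3_c44) (LK LD1_c2 LD2_c56 LD3_c11) Lrfl Lrfl
theorem f640657 : Led Lsl_cf (LP (LK LD1_c5 LD2_c59 LD3_c44)) = v4872 :=
  Lgr Lrot39 (Lpr_et (f26535 IH) (Lpr_ct (K7.f26524 IH) (Lpr_et (f640654 IH) (Lpn v4872))))
theorem f454220 : Led Lsl_et (LP (LK LD1_c3 LD2_c21 LD3_c26)) = (LP (LK LD1_c1 LD2_c36 LD3_c58)) :=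
  Lre_e IH (LK LD1_c3 LD2_c21 LD3_c26) (LK LD1_c1 LD2_c36 LD3_c58) Lrfl Lrfl
def v2182 : LQ := Led Lsl_gf (LP (LK LD1_c1 LD2_c36 LD3_c58))
theorem f509501 : Led Lsl_gf (LP (LK LD1_c1 LD2_c36 LD3_c58)) = v2182 :=
  Lrfl
theorem f157763 : Led Lsl_dt (LP (LK LD1_c3 LD2_c13 LD3_c21)) = (LP (LK LD1_c3 LD2_c20 LD3_c16)) :=
  Lgr Lrot42 (Lpr_df (K8.f157758 IH) (Lpn (LP (LK LD1_c3 LD2_c20 LD3_c16))))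
theorem f150023 : Led Lsl_df (LP (LK LD1_c5 LD2_c54 LD3_c43)) = (LP (LK LD1_c3 LD2_c59 LD3_c42)) :=
  Lgr Lrot38 (Lpr_dt (K32.f149977 IH) (Lpn (LP (LK LD1_c3 LD2_c59 LD3_c42))))
theorem f22763 : Led Lsl_ct (LP (LK LD1_c2 LD2_c53 LD3_c43)) = (LP (LK LD1_c2 LD2_c52 LD3_c20)) :=
  Lgr Lrot59 (Lpr_cf (K11.f22754 IH) (Lpn (LP (LK LD1_c2 LD2_c52 LD3_c20))))
theorem f22804 : Led Lsl_bt (LP (LK LD1_c5 LD2_c54 LD3_c43)) = (LP (LK LD1_c2 LD2_c53 LD3_c43)) :=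
  Lre_b IH (LK LD1_c5 LD2_c54 LD3_c43) (LK LD1_c2 LD2_c53 LD3_c43) Lrfl Lrfl
theorem f22806 : Led Lsl_cf (LP (LK LD1_c5 LD2_c54 LD3_c43)) = (LP (LK LD1_c5 LD2_c52 LD3_c7)) :=
  Lgr Lrot97 (Lpr_bt (f22804 IH) (Lpr_ct (f22763 IH) (Lpr_bt (K11.f22753 IH) (Lpr_ct (K36.f22756 IH) (Lpr_bt (K36.f22805 IH) (Lpn (LP (LK LD1_c5 LD2_c52 LD3_c7))))))))
theorem f157802 : Led Lsl_gf (LP (LK LD1_c5 LD2_c52 LD3_c7)) = (LP (LK LD1_c11 LD2_c24 LD3_c58)) :=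
  Lgr Lrot104 (Lpe (f22806 IH) (Lpr_df (f150023 IH) (Lpe (K7.f36256 IH) (Lpe (K7.f36254 IH) (Lpe (K1.f36239 IH) (Lpe (K4.f56750 IH) (Lpe (f157763 IH) (Lpr_gt (K8.f157789 IH) (Lpr_ct (K2.f73298 IH) (Lpn (LP (LK LD1_c11 LD2_c24 LD3_c58))))))))))))
theorem f206496 : Led Lsl_gf (LP (LK LD1_c2 LD2_c14 LD3_c24)) = (LP (LK LD1_c1 LD2_c22 LD3_c16)) :=
  Lgr Lrot126 (Lpr_cf (K24.f206490 IH) (Lpr_bt (K24.f206157 IH) (Lpr_gt (K24.f206153 IH) (Lpe (K8.f156559 IH) (Lpe (K8.f129425 IH) (Lpe (K8.f15861 IH) (Lpr_bt (K11.f73550 IH) (Lpe (f157802 IH) (Lpe (K36.f22805 IH) (Lpr_ct (K36.f22759 IH) (Lpn (LP (LK LD1_c1 LD2_c22 LD3_c16)))))))))))))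
theorem f152027 : Led Lsl_dt (LP (LK LD1_c2 LD2_c14 LD3_c24)) = (LP (LK LD1_c1 LD2_c4 LD3_c17)) :=
  Lre_d IH (LK LD1_c2 LD2_c14 LD3_c24) (LK LD1_c1 LD2_c4 LD3_c17) Lrfl Lrfl
theorem f653292 : v2182 = v1567 :=
  (Llr Lrot141 (Lpe (f509501 IH) (Lpe (f454220 IH) (Lpr_dt (f653262 IH) (Lpqs (f653287 IH) (Lpr_gt (f319507 IH) (Lpr_df (K41.f615369 IH) (Lpr_et (K32.f206498 IH) (Lpe (f206496 IH) (Lpr_dt (f152027 IH) (Lpe (K8.f163579 IH) (Lpr_df (K35.f26557 IH) (Lpr_et (f499989 IH) (Lpn v1567)))))))))))))).symm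
theorem f454014 : Led Lsl_bt (LP (LK LD1_c0 LD2_c44 LD3_c53)) = (LP (LK LD1_c1 LD2_c36 LD3_c58)) :=
  Lre_b IH (LK LD1_c0 LD2_c44 LD3_c53) (LK LD1_c1 LD2_c36 LD3_c58) Lrfl Lrfl
theorem f415119 : Led Lsl_ct (LP (LK LD1_c4 LD2_c48 LD3_c60)) = (LP (LK LD1_c9 LD2_c30 LD3_c30)) :=
  Lre_c IH (LK LD1_c4 LD2_c48 LD3_c60) (LK LD1_c9 LD2_c30 LD3_c30) Lrfl Lrfl
theorem f653294 : Led Lsl_gf (LP (LK LD1_c5 LD2_c59 LD3_c44)) = (LP (LK LD1_c9 LD2_c30 LD3_c30)) :=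
  Lgr Lrot129 (Lpr_cf (f640657 IH) (Lpe (f640656 IH) (Lpq (f653292 IH) (Lpe (f509501 IH) (Lpe (f454014 IH) (Lpr_ct (K16.f413451 IH) (Lpr_gt (K0.f23218 IH) (Lpe (K9.f98994 IH) (Lpr_bt (K17.f414087 IH) (Lpr_gt (K17.f414088 IH) (Lpr_ct (f415119 IH) (Lpn (LP (LK LD1_c9 LD2_c30 LD3_c30))))))))))))))
theorem f653295 : Led Lsl_gt (LP (LK LD1_c9 LD2_c30 LD3_c30)) = (LP (LK LD1_c5 LD2_c59 LD3_c44)) :=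
  Leop (Lpr_gf (f653294 IH) (Lpn (LP (LK LD1_c9 LD2_c30 LD3_c30))))
theorem seed_381 : LEOK LG_g (LK LD1_c9 LD2_c30 LD3_c30) :=
  Leoe_g (LK LD1_c9 LD2_c30 LD3_c30) (f653295 IH)
def v6573 : LQ := Led Lsl_ft (LP (LK LD1_c3 LD2_c23 LD3_c47))
theorem f653965 : Led Lsl_ft (LP (LK LD1_c3 LD2_c23 LD3_c47)) = v6573 :=
  Lrfl
theorem f653969 : Led Lsl_ff (LP (LK LD1_c3 LD2_c23 LD3_c47)) = v6573 :=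
  Lgr Lrot3 (Lpr_ft (f653965 IH) (Lpn v6573))
def v2228 : LQ := Led Lsl_ft (LP (LK LD1_c1 LD2_c38 LD3_c11))
theorem f509756 : Led Lsl_ft (LP (LK LD1_c1 LD2_c38 LD3_c11)) = v2228 :=
  Lrfl
theorem f653971 : Led Lsl_bt v2228 = v6573 :=
  Lgr Lrot35 (Lpe (f509756 IH) (Lpe (f76827 IH) (Lpr_ff (f653969 IH) (Lpn v6573))))
theorem f509758 : Led Lsl_ff (LP (LK LD1_c1 LD2_c38 LD3_c11)) = v2228 :=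
  Lgr Lrot3 (Lpr_ft (f509756 IH) (Lpn v2228))
def v2227 : LQ := Led Lsl_at (LP (LK LD1_c1 LD2_c38 LD3_c11))
theorem f509750 : Led Lsl_at (LP (LK LD1_c1 LD2_c38 LD3_c11)) = v2227 :=
  Lrfl
theorem f509751 : Led Lsl_af (LP (LK LD1_c1 LD2_c38 LD3_c11)) = v2227 :=
  Lgr Lrot0 (Lpr_at (f509750 IH) (Lpn v2227))
theorem f509752 : Led Lsl_ft (LP (LK LD1_c1 LD2_c38 LD3_c12)) = v2227 :=
  Lgr Lrot2 (Lpr_gt (K2.f76883 IH) (Lpr_gt (f76877 IH) (Lpr_af (f509751 IH) (Lpn v2227))))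
theorem f509754 : Led Lsl_ff (LP (LK LD1_c1 LD2_c38 LD3_c12)) = v2227 :=
  Lgr Lrot3 (Lpr_ft (f509752 IH) (Lpn v2227))
theorem f509759 : Led Lsl_at (LP (LK LD1_c1 LD2_c38 LD3_c12)) = v2228 :=
  Lgr Lrot66 (Lpr_ff (f509754 IH) (Lpe (f509750 IH) (Lpr_ff (f509758 IH) (Lpn v2228))))
theorem f77081 : Led Lsl_bt (LP (LK LD1_c3 LD2_c23 LD3_c51)) = (LP (LK LD1_c1 LD2_c38 LD3_c12)) :=
  Lre_b IH (LK LD1_c3 LD2_c23 LD3_c51) (LK LD1_c1 LD2_c38 LD3_c12) Lrfl Lrfl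
theorem f509760 : Led Lsl_at (LP (LK LD1_c6 LD2_c50 LD3_c47)) = (LP (LK LD1_c3 LD2_c23 LD3_c51)) :=
  Lre_a IH (LK LD1_c6 LD2_c50 LD3_c47) (LK LD1_c3 LD2_c23 LD3_c51) Lrfl Lrfl
def v6571 : LQ := Led Lsl_at (LP (LK LD1_c3 LD2_c23 LD3_c47))
theorem f653955 : Led Lsl_at (LP (LK LD1_c3 LD2_c23 LD3_c47)) = v6571 :=
  Lrfl
theorem f653956 : Led Lsl_af (LP (LK LD1_c3 LD2_c23 LD3_c47)) = v6571 :=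
  Lgr Lrot0 (Lpr_at (f653955 IH) (Lpn v6571))
def v6009 : LQ := Led Lsl_at (LP (LK LD1_c3 LD2_c16 LD3_c19))
theorem f650511 : Led Lsl_at (LP (LK LD1_c3 LD2_c16 LD3_c19)) = v6009 :=
  Lrfl
theorem f650512 : Led Lsl_af (LP (LK LD1_c3 LD2_c16 LD3_c19)) = v6009 :=
  Lgr Lrot0 (Lpr_at (f650511 IH) (Lpn v6009))
theorem f653957 : Led Lsl_cf v6009 = v6571 :=
  Lgr Lrot1 (Lpe (f650512 IH) (Lpe (f414284 IH) (Lpr_at (f653955 IH) (Lpn v6571))))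
theorem f650513 : Led Lsl_ft (LP (LK LD1_c3 LD2_c16 LD3_c20)) = v6009 :=
  Lgr Lrot2 (Lpr_gt (f443304 IH) (Lpr_gt (f63856 IH) (Lpr_af (f650512 IH) (Lpn v6009))))
theorem f650514 : Led Lsl_ff (LP (LK LD1_c3 LD2_c16 LD3_c20)) = v6009 :=
  Lgr Lrot3 (Lpr_ft (f650513 IH) (Lpn v6009))
theorem f653959 : Led Lsl_ft v6013 = v6571 :=
  Lgr Lrot4 (Lpe (f650533 IH) (Lpr_ff (f650514 IH) (Lpr_cf (f653957 IH) (Lpn v6571))))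
theorem f653966 : Led Lsl_af v6013 = v6573 :=
  Lgr Lrot45 (Lpr_ft (f653959 IH) (Lpe (f653956 IH) (Lpr_ft (f653965 IH) (Lpn v6573))))
theorem f653973 : Led Lsl_bf (LP (LK LD1_c6 LD2_c50 LD3_c47)) = v6013 :=
  Lgr Lrot81 (Lpr_at (f509760 IH) (Lpr_bt (f77081 IH) (Lpr_at (f509759 IH) (Lpr_bt (f653971 IH) (Lpe (f653966 IH) (Lpn v6013))))))
theorem f653974 : Led Lsl_bt (LP (LK LD1_c6 LD2_c50 LD3_c47)) = v6013 :=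
  Lgr Lrot127 (Lpr_bf (f653973 IH) (Lpn v6013))
theorem f454728 : Led Lsl_ct (LP (LK LD1_c1 LD2_c36 LD3_c53)) = (LP (LK LD1_c3 LD2_c21 LD3_c14)) :=
  Lre_c IH (LK LD1_c1 LD2_c36 LD3_c53) (LK LD1_c3 LD2_c21 LD3_c14) Lrfl Lrfl
def v1369 : LQ := Led Lsl_at (LP (LK LD1_c1 LD2_c8 LD3_c25))
theorem f495162 : Led Lsl_at (LP (LK LD1_c1 LD2_c8 LD3_c25)) = v1369 :=
  Lrfl
theorem f450670 : Led Lsl_at (LP (LK LD1_c1 LD2_c37 LD3_c5)) = (LP (LK LD1_c0 LD2_c44 LD3_c56)) :=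
  Lre_a IH (LK LD1_c1 LD2_c37 LD3_c5) (LK LD1_c0 LD2_c44 LD3_c56) Lrfl Lrfl
theorem f495165 : Led Lsl_ff (LP (LK LD1_c1 LD2_c37 LD3_c5)) = v1369 :=
  Lgr Lrot30 (Lpr_at (f450670 IH) (Lpe (K32.f454411 IH) (Lpr_at (f495162 IH) (Lpn v1369))))
theorem f454576 : Led Lsl_at (LP (LK LD1_c1 LD2_c8 LD3_c30)) = (LP (LK LD1_c0 LD2_c44 LD3_c59)) :=
  Lgr Lrot107 (Lpe (K24.f446136 IH) (Lpr_af (K24.f454572 IH) (Lpe (K35.f22524 IH) (Lpn (LP (LK LD1_c0 LD2_c44 LD3_c59))))))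
theorem f446133 : Led Lsl_bt (LP (LK LD1_c2 LD2_c22 LD3_c45)) = (LP (LK LD1_c1 LD2_c8 LD3_c30)) :=
  Lre_b IH (LK LD1_c2 LD2_c22 LD3_c45) (LK LD1_c1 LD2_c8 LD3_c30) Lrfl Lrfl
theorem f446252 : Led Lsl_at (LP (LK LD1_c4 LD2_c49 LD3_c59)) = (LP (LK LD1_c2 LD2_c22 LD3_c45)) :=
  Lre_a IH (LK LD1_c4 LD2_c49 LD3_c59) (LK LD1_c2 LD2_c22 LD3_c45) Lrfl Lrfl
theorem f414569 : Led Lsl_bt (LP (LK LD1_c0 LD2_c44 LD3_c59)) = (LP (LK LD1_c1 LD2_c37 LD3_c8)) :=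
  Lre_b IH (LK LD1_c0 LD2_c44 LD3_c59) (LK LD1_c1 LD2_c37 LD3_c8) Lrfl Lrfl
theorem f454613 : Led Lsl_bf (LP (LK LD1_c4 LD2_c49 LD3_c59)) = (LP (LK LD1_c3 LD2_c21 LD3_c41)) :=
  Lgr Lrot81 (Lpr_at (f446252 IH) (Lpr_bt (f446133 IH) (Lpr_at (f454576 IH) (Lpr_bt (f414569 IH) (Lpr_at (K32.f454612 IH) (Lpn (LP (LK LD1_c3 LD2_c21 LD3_c41))))))))
theorem f454623 : Led Lsl_et (LP (LK LD1_c4 LD2_c49 LD3_c59)) = (LP (LK LD1_c2 LD2_c22 LD3_c43)) :=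
  Lre_e IH (LK LD1_c4 LD2_c49 LD3_c59) (LK LD1_c2 LD2_c22 LD3_c43) Lrfl Lrfl
theorem f454624 : Led Lsl_et (LP (LK LD1_c1 LD2_c37 LD3_c5)) = (LP (LK LD1_c3 LD2_c21 LD3_c41)) :=
  Lre_e IH (LK LD1_c1 LD2_c37 LD3_c5) (LK LD1_c3 LD2_c21 LD3_c41) Lrfl Lrfl
theorem f454625 : Led Lsl_bt (LP (LK LD1_c2 LD2_c22 LD3_c43)) = (LP (LK LD1_c1 LD2_c37 LD3_c5)) :=
  Lgr Lrot119 (Lpe (f454623 IH) (Lpr_bf (f454613 IH) (Lpe (f454624 IH) (Lpn (LP (LK LD1_c1 LD2_c37 LD3_c5))))))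
theorem f454629 : Led Lsl_bf (LP (LK LD1_c2 LD2_c22 LD3_c43)) = (LP (LK LD1_c1 LD2_c37 LD3_c5)) :=
  Lgr Lrot24 (Lpr_bt (f454625 IH) (Lpn (LP (LK LD1_c1 LD2_c37 LD3_c5))))
theorem f450662 : Led Lsl_at (LP (LK LD1_c1 LD2_c36 LD3_c53)) = (LP (LK LD1_c0 LD2_c44 LD3_c52)) :=
  Lre_a IH (LK LD1_c1 LD2_c36 LD3_c53) (LK LD1_c0 LD2_c44 LD3_c52) Lrfl Lrfl
theorem f446260 : Led Lsl_at (LP (LK LD1_c1 LD2_c8 LD3_c28)) = (LP (LK LD1_c2 LD2_c22 LD3_c43)) :=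
  Lre_a IH (LK LD1_c1 LD2_c8 LD3_c28) (LK LD1_c2 LD2_c22 LD3_c43) Lrfl Lrfl
theorem f454710 : Led Lsl_ff (LP (LK LD1_c1 LD2_c36 LD3_c53)) = (LP (LK LD1_c2 LD2_c22 LD3_c43)) :=
  Lgr Lrot30 (Lpr_at (f450662 IH) (Lpr_ft (K35.f454000 IH) (Lpqs (K35.f454083 IH) (Lpr_at (f446260 IH) (Lpn (LP (LK LD1_c2 LD2_c22 LD3_c43)))))))
theorem f495167 : Led Lsl_bt (LP (LK LD1_c1 LD2_c36 LD3_c53)) = v1369 :=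
  Lgr Lrot35 (Lpr_ff (f454710 IH) (Lpr_bf (f454629 IH) (Lpr_ff (f495165 IH) (Lpn v1369))))
theorem f141119 : Led Lsl_gt (LP (LK LD1_c1 LD2_c37 LD3_c4)) = (LP (LK LD1_c0 LD2_c44 LD3_c56)) :=
  Lre_g IH (LK LD1_c1 LD2_c37 LD3_c4) (LK LD1_c0 LD2_c44 LD3_c56) Lrfl Lrfl
theorem f495169 : Led Lsl_gf (LP (LK LD1_c1 LD2_c37 LD3_c4)) = v1369 :=
  Lgr Lrot47 (Lpr_gt (f141119 IH) (Lpe (f450670 IH) (Lpr_ff (f495165 IH) (Lpn v1369))))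
theorem f495171 : Led Lsl_ct (LP (LK LD1_c1 LD2_c37 LD3_c4)) = (LP (LK LD1_c3 LD2_c21 LD3_c39)) :=
  Lre_c IH (LK LD1_c1 LD2_c37 LD3_c4) (LK LD1_c3 LD2_c21 LD3_c39) Lrfl Lrfl
def v6422 : LQ := Led Lsl_gt (LP (LK LD1_c3 LD2_c21 LD3_c39))
theorem f653340 : Led Lsl_gt (LP (LK LD1_c3 LD2_c21 LD3_c39)) = v6422 :=
  Lrfl
theorem f653975 : Led Lsl_ct (LP (LK LD1_c6 LD2_c50 LD3_c47)) = v6422 :=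
  Lgr Lrot63 (Lpr_bt (f653974 IH) (Lpr_gt (f651366 IH) (Lpe (K6.f26230 IH) (Lpr_ct (K6.f26239 IH) (Lpqs (K35.f634278 IH) (Lpe (K35.f634269 IH) (Lpe (f454728 IH) (Lpr_bt (f495167 IH) (Lpe (f495169 IH) (Lpr_ct (f495171 IH) (Lpr_gt (f653340 IH) (Lpn v6422))))))))))))
theorem f653978 : Led Lsl_cf (LP (LK LD1_c6 LD2_c50 LD3_c47)) = v6422 :=
  Lgr Lrot11 (Lpr_ct (f653975 IH) (Lpn v6422))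
theorem f414465 : Led Lsl_ct (LP (LK LD1_c3 LD2_c23 LD3_c51)) = (LP (LK LD1_c6 LD2_c50 LD3_c48)) :=
  Lre_c IH (LK LD1_c3 LD2_c23 LD3_c51) (LK LD1_c6 LD2_c50 LD3_c48) Lrfl Lrfl
theorem f653979 : Led Lsl_at (LP (LK LD1_c6 LD2_c50 LD3_c48)) = v6422 :=
  Lgr Lrot107 (Lpe (f414465 IH) (Lpe (f509760 IH) (Lpr_cf (f653978 IH) (Lpn v6422))))
def v6423 : LQ := Led Lsl_gf (LP (LK LD1_c3 LD2_c21 LD3_c39))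
theorem f653341 : Led Lsl_gf (LP (LK LD1_c3 LD2_c21 LD3_c39)) = v6423 :=
  Lrfl
theorem f653980 : Led Lsl_ff (LP (LK LD1_c6 LD2_c50 LD3_c48)) = v6423 :=
  Lgr Lrot52 (Lpr_at (f653979 IH) (Lpe (f653340 IH) (Lpr_gf (f653341 IH) (Lpn v6423))))
theorem f77082 : Led Lsl_ct (LP (LK LD1_c6 LD2_c50 LD3_c48)) = (LP (LK LD1_c3 LD2_c23 LD3_c51)) :=
  Lre_c IH (LK LD1_c6 LD2_c50 LD3_c48) (LK LD1_c3 LD2_c23 LD3_c51) Lrfl Lrfl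
def v6424 : LQ := Led Lsl_at (LP (LK LD1_c3 LD2_c21 LD3_c39))
theorem f653343 : Led Lsl_at (LP (LK LD1_c3 LD2_c21 LD3_c39)) = v6424 :=
  Lrfl
def v2190 : LQ := Led Lsl_at (LP (LK LD1_c1 LD2_c37 LD3_c4))
theorem f509541 : Led Lsl_at (LP (LK LD1_c1 LD2_c37 LD3_c4)) = v2190 :=
  Lrfl
theorem f509542 : Led Lsl_af (LP (LK LD1_c1 LD2_c37 LD3_c4)) = v2190 :=
  Lgr Lrot0 (Lpr_at (f509541 IH) (Lpn v2190))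
theorem f653346 : Led Lsl_cf v2190 = v6424 :=
  Lgr Lrot1 (Lpe (f509542 IH) (Lpr_ct (f495171 IH) (Lpr_at (f653343 IH) (Lpn v6424))))
def v566 : LQ := Led Lsl_gt (LP (LK LD1_c0 LD2_c44 LD3_c56))
theorem f454795 : Led Lsl_gt (LP (LK LD1_c0 LD2_c44 LD3_c56)) = v566 :=
  Lrfl
theorem f495166 : Led Lsl_gt v566 = v1369 :=
  Lgr Lrot46 (Lpe (f454795 IH) (Lpe (K32.f454411 IH) (Lpr_at (f495162 IH) (Lpn v1369))))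
theorem f509543 : Led Lsl_ft v566 = v2190 :=
  Lgr Lrot2 (Lpr_gt (f495166 IH) (Lpe (f495169 IH) (Lpr_af (f509542 IH) (Lpn v2190))))
theorem f509544 : Led Lsl_ff v566 = v2190 :=
  Lgr Lrot3 (Lpr_ft (f509543 IH) (Lpn v2190))
def v3200 : LQ := Led Lsl_ct v566
theorem f624598 : Led Lsl_ct v566 = v3200 :=
  Lrfl
theorem f653348 : Led Lsl_ft v3200 = v6424 :=
  Lgr Lrot4 (Lpe (f624598 IH) (Lpr_ff (f509544 IH) (Lpr_cf (f653346 IH) (Lpn v6424))))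
theorem f653344 : Led Lsl_af (LP (LK LD1_c3 LD2_c21 LD3_c39)) = v6424 :=
  Lgr Lrot0 (Lpr_at (f653343 IH) (Lpn v6424))
theorem f653350 : Led Lsl_gt v3200 = v6423 :=
  Lgr Lrot5 (Lpr_ft (f653348 IH) (Lpe (f653344 IH) (Lpr_gf (f653341 IH) (Lpn v6423))))
theorem f141118 : Led Lsl_bt (LP (LK LD1_c0 LD2_c19 LD3_c56)) = (LP (LK LD1_c0 LD2_c44 LD3_c56)) :=
  Lre_b IH (LK LD1_c0 LD2_c19 LD3_c56) (LK LD1_c0 LD2_c44 LD3_c56) Lrfl Lrfl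
theorem f76856 : Led Lsl_bt (LP (LK LD1_c0 LD2_c45 LD3_c37)) = (LP (LK LD1_c1 LD2_c38 LD3_c13)) :=
  Lre_b IH (LK LD1_c0 LD2_c45 LD3_c37) (LK LD1_c1 LD2_c38 LD3_c13) Lrfl Lrfl
theorem f76867 : Led Lsl_bt (LP (LK LD1_c6 LD2_c49 LD3_c41)) = (LP (LK LD1_c3 LD2_c23 LD3_c8)) :=
  Lre_b IH (LK LD1_c6 LD2_c49 LD3_c41) (LK LD1_c3 LD2_c23 LD3_c8) Lrfl Lrfl
theorem f653351 : Led Lsl_ct (LP (LK LD1_c6 LD2_c49 LD3_c41)) = v6423 :=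
  Lgr Lrot63 (Lpr_bt (f76867 IH) (Lpr_gt (K2.f76863 IH) (Lpe (f76856 IH) (Lpe (K24.f413555 IH) (Lpr_gt (K17.f414054 IH) (Lpe (K17.f139932 IH) (Lpr_bt (f141118 IH) (Lpr_gt (f454795 IH) (Lpr_ct (f624598 IH) (Lpr_gt (f653350 IH) (Lpn v6423)))))))))))
theorem f653982 : Led Lsl_ft (LP (LK LD1_c3 LD2_c23 LD3_c51)) = (LP (LK LD1_c6 LD2_c49 LD3_c41)) :=
  Lgr Lrot4 (Lpe (f77082 IH) (Lpr_ff (f653980 IH) (Lpe (f653351 IH) (Lpn (LP (LK LD1_c6 LD2_c49 LD3_c41))))))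
theorem f653983 : Led Lsl_ft (LP (LK LD1_c3 LD2_c23 LD3_c51)) = (LP (LK LD1_c6 LD2_c49 LD3_c41)) :=
  Leop (Lpe (f653982 IH) (Lpn (LP (LK LD1_c3 LD2_c23 LD3_c51))))
theorem seed_382 : LEOK LG_f (LK LD1_c3 LD2_c23 LD3_c51) :=
  Leoe_f (LK LD1_c3 LD2_c23 LD3_c51) (f653983 IH)
def v6122 : LQ := Led Lsl_at (LP (LK LD1_c3 LD2_c18 LD3_c9))
theorem f651353 : Led Lsl_at (LP (LK LD1_c3 LD2_c18 LD3_c9)) = v6122 :=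
  Lrfl
theorem f651355 : Led Lsl_ef v2093 = v6122 :=
  Lgr Lrot20 (Lpe (f508791 IH) (Lpr_et (f508798 IH) (Lpr_at (f651353 IH) (Lpn v6122))))
theorem f651356 : Led Lsl_et v2093 = v6122 :=
  Lgr Lrot87 (Lpr_ef (f651355 IH) (Lpn v6122))
def v6011 : LQ := Led Lsl_et (LP (LK LD1_c3 LD2_c16 LD3_c19))
theorem f650519 : Led Lsl_et (LP (LK LD1_c3 LD2_c16 LD3_c19)) = v6011 :=
  Lrfl
def v6114 : LQ := Led Lsl_at (LP (LK LD1_c3 LD2_c18 LD3_c7))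
theorem f651274 : Led Lsl_at (LP (LK LD1_c3 LD2_c18 LD3_c7)) = v6114 :=
  Lrfl
theorem f651276 : Led Lsl_cf v2093 = v6114 :=
  Lgr Lrot1 (Lpe (f508791 IH) (Lpr_ct (f508797 IH) (Lpr_at (f651274 IH) (Lpn v6114))))
def v6529 : LQ := Led Lsl_at (LP (LK LD1_c3 LD2_c23 LD3_c8))
theorem f653809 : Led Lsl_at (LP (LK LD1_c3 LD2_c23 LD3_c8)) = v6529 :=
  Lrfl
theorem f653810 : Led Lsl_af (LP (LK LD1_c3 LD2_c23 LD3_c8)) = v6529 :=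
  Lgr Lrot0 (Lpr_at (f653809 IH) (Lpn v6529))
theorem f76808 : Led Lsl_gt (LP (LK LD1_c3 LD2_c23 LD3_c9)) = (LP (LK LD1_c1 LD2_c37 LD3_c60)) :=
  Lre_g IH (LK LD1_c3 LD2_c23 LD3_c9) (LK LD1_c1 LD2_c37 LD3_c60) Lrfl Lrfl
theorem f653811 : Led Lsl_ft (LP (LK LD1_c3 LD2_c23 LD3_c9)) = v6529 :=
  Lgr Lrot2 (Lpr_gt (f76808 IH) (Lpr_gt (K2.f23362 IH) (Lpr_af (f653810 IH) (Lpn v6529))))
theorem f416425 : Led Lsl_bt (LP (LK LD1_c0 LD2_c19 LD3_c46)) = (LP (LK LD1_c0 LD2_c8 LD3_c56)) :=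
  Lre_b IH (LK LD1_c0 LD2_c19 LD3_c46) (LK LD1_c0 LD2_c8 LD3_c56) Lrfl Lrfl
theorem f416426 : Led Lsl_ct (LP (LK LD1_c3 LD2_c18 LD3_c11)) = (LP (LK LD1_c1 LD2_c35 LD3_c35)) :=
  Lre_c IH (LK LD1_c3 LD2_c18 LD3_c11) (LK LD1_c1 LD2_c35 LD3_c35) Lrfl Lrfl
theorem f76865 : Led Lsl_gt (LP (LK LD1_c1 LD2_c38 LD3_c13)) = (LP (LK LD1_c3 LD2_c23 LD3_c9)) :=
  Lre_g IH (LK LD1_c1 LD2_c38 LD3_c13) (LK LD1_c3 LD2_c23 LD3_c9) Lrfl Lrfl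
theorem f416427 : Led Lsl_bt (LP (LK LD1_c3 LD2_c18 LD3_c11)) = (LP (LK LD1_c3 LD2_c23 LD3_c9)) :=
  Lgr Lrot92 (Lpr_ct (f416426 IH) (Lpr_gt (f65263 IH) (Lpe (K32.f140078 IH) (Lpr_bt (f416425 IH) (Lpr_gt (K0.f23179 IH) (Lpr_ct (K16.f413542 IH) (Lpr_gt (K16.f413543 IH) (Lpr_cf (K24.f413555 IH) (Lpr_bt (f76856 IH) (Lpr_gt (f76865 IH) (Lpn (LP (LK LD1_c3 LD2_c23 LD3_c9)))))))))))))
theorem f416431 : Led Lsl_ct (LP (LK LD1_c1 LD2_c35 LD3_c35)) = (LP (LK LD1_c3 LD2_c18 LD3_c11)) :=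
  Lre_c IH (LK LD1_c1 LD2_c35 LD3_c35) (LK LD1_c3 LD2_c18 LD3_c11) Lrfl Lrfl
theorem f651278 : Led Lsl_ft (LP (LK LD1_c3 LD2_c18 LD3_c11)) = v6114 :=
  Lgr Lrot4 (Lpe (f416431 IH) (Lpr_ff (f508804 IH) (Lpr_cf (f651276 IH) (Lpn v6114))))
theorem f651279 : Led Lsl_ff (LP (LK LD1_c3 LD2_c18 LD3_c11)) = v6114 :=
  Lgr Lrot3 (Lpr_ft (f651278 IH) (Lpn v6114))
theorem f653812 : Led Lsl_bf v6114 = v6529 :=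
  Lgr Lrot61 (Lpe (f651279 IH) (Lpr_bt (f416427 IH) (Lpr_ft (f653811 IH) (Lpn v6529))))
theorem f414283 : Led Lsl_bt (LP (LK LD1_c1 LD2_c38 LD3_c11)) = (LP (LK LD1_c3 LD2_c23 LD3_c47)) :=
  Lre_b IH (LK LD1_c1 LD2_c38 LD3_c11) (LK LD1_c3 LD2_c23 LD3_c47) Lrfl Lrfl
theorem f653984 : Led Lsl_ft (LP (LK LD1_c6 LD2_c50 LD3_c48)) = v6423 :=
  Lgr Lrot48 (Lpr_ff (f653980 IH) (Lpn v6423))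
theorem f653352 : Led Lsl_cf (LP (LK LD1_c6 LD2_c49 LD3_c41)) = v6423 :=
  Lgr Lrot11 (Lpr_ct (f653351 IH) (Lpn v6423))
theorem f653985 : Led Lsl_ff (LP (LK LD1_c3 LD2_c23 LD3_c51)) = (LP (LK LD1_c6 LD2_c49 LD3_c41)) :=
  Lgr Lrot23 (Lpr_ct (f414465 IH) (Lpr_ft (f653984 IH) (Lpe (f653352 IH) (Lpn (LP (LK LD1_c6 LD2_c49 LD3_c41))))))
theorem f76886 : Led Lsl_bt (LP (LK LD1_c3 LD2_c23 LD3_c8)) = (LP (LK LD1_c6 LD2_c49 LD3_c41)) :=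
  Lre_b IH (LK LD1_c3 LD2_c23 LD3_c8) (LK LD1_c6 LD2_c49 LD3_c41) Lrfl Lrfl
theorem f653989 : v2227 = (LP (LK LD1_c3 LD2_c23 LD3_c8)) :=
  (Llr Lrot75 (Lpe (f509752 IH) (Lpe (f77081 IH) (Lpr_ff (f653985 IH) (Lpe (f76886 IH) (Lpn (LP (LK LD1_c3 LD2_c23 LD3_c8)))))))).symm
theorem f653990 : (LP (LK LD1_c1 LD2_c38 LD3_c11)) = v6529 :=
  Lefun (Lecon (Lfl_af (f509751 IH)) (f653989 IH)) (f653809 IH)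
theorem f653996 : v6114 = (LP (LK LD1_c3 LD2_c23 LD3_c47)) :=
  Lefun (Lecon (Lfl_bf (f653812 IH)) (f653990 IH).symm) (f414283 IH)
theorem f654005 : v2093 = (LP (LK LD1_c3 LD2_c16 LD3_c19)) :=
  Lefun (Lecon (Lfl_cf (f651276 IH)) (f653996 IH)) (f414281 IH)
theorem f654019 : v6122 = v6011 :=
  Lefun (Lecon (f651356 IH) (f654005 IH)) (f650519 IH)
theorem f508809 : Led Lsl_ft (LP (LK LD1_c6 LD2_c40 LD3_c12)) = (LP (LK LD1_c3 LD2_c18 LD3_c9)) :=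
  Lre_f IH (LK LD1_c6 LD2_c40 LD3_c12) (LK LD1_c3 LD2_c18 LD3_c9) Lrfl Lrfl
theorem f650521 : Led Lsl_ef (LP (LK LD1_c3 LD2_c16 LD3_c19)) = v6011 :=
  Lgr Lrot88 (Lpr_et (f650519 IH) (Lpn v6011))
theorem f63855 : Led Lsl_et (LP (LK LD1_c0 LD2_c44 LD3_c9)) = (LP (LK LD1_c1 LD2_c34 LD3_c54)) :=
  Lre_e IH (LK LD1_c0 LD2_c44 LD3_c9) (LK LD1_c1 LD2_c34 LD3_c54) Lrfl Lrfl
theorem f63830 : Led Lsl_dt (LP (LK LD1_c1 LD2_c27 LD3_c1)) = (LP (LK LD1_c3 LD2_c1 LD3_c60)) :=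
  Lre_d IH (LK LD1_c1 LD2_c27 LD3_c1) (LK LD1_c3 LD2_c1 LD3_c60) Lrfl Lrfl
theorem f63853 : Led Lsl_et (LP (LK LD1_c1 LD2_c27 LD3_c5)) = (LP (LK LD1_c0 LD2_c40 LD3_c19)) :=
  Lre_e IH (LK LD1_c1 LD2_c27 LD3_c5) (LK LD1_c0 LD2_c40 LD3_c19) Lrfl Lrfl
theorem f63854 : Led Lsl_dt (LP (LK LD1_c1 LD2_c27 LD3_c5)) = (LP (LK LD1_c3 LD2_c2 LD3_c12)) :=
  Lre_d IH (LK LD1_c1 LD2_c27 LD3_c5) (LK LD1_c3 LD2_c2 LD3_c12) Lrfl Lrfl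
def v5218 : LQ := Led Lsl_gf (LP (LK LD1_c3 LD2_c2 LD3_c12))
theorem f646584 : Led Lsl_gf (LP (LK LD1_c3 LD2_c2 LD3_c12)) = v5218 :=
  Lrfl
theorem f650523 : Led Lsl_df v5218 = v6011 :=
  Lgr Lrot170 (Lpe (f646584 IH) (Lpe (f63854 IH) (Lpr_et (f63853 IH) (Lpr_gt (K4.f63842 IH) (Lpr_dt (f63830 IH) (Lpr_gt (K3.f63818 IH) (Lpe (K3.f15614 IH) (Lpr_et (f63855 IH) (Lpr_gt (f63856 IH) (Lpr_ef (f650521 IH) (Lpn v6011)))))))))))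
theorem f504423 : Led Lsl_dt (LP (LK LD1_c3 LD2_c2 LD3_c12)) = (LP (LK LD1_c1 LD2_c27 LD3_c5)) :=
  Lre_d IH (LK LD1_c3 LD2_c2 LD3_c12) (LK LD1_c1 LD2_c27 LD3_c5) Lrfl Lrfl
theorem f502891 : Led Lsl_ct (LP (LK LD1_c1 LD2_c27 LD3_c5)) = (LP (LK LD1_c0 LD2_c40 LD3_c20)) :=
  Lre_c IH (LK LD1_c1 LD2_c27 LD3_c5) (LK LD1_c0 LD2_c40 LD3_c20) Lrfl Lrfl
theorem f508841 : Led Lsl_ct (LP (LK LD1_c3 LD2_c18 LD3_c26)) = (LP (LK LD1_c6 LD2_c40 LD3_c53)) :=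
  Lre_c IH (LK LD1_c3 LD2_c18 LD3_c26) (LK LD1_c6 LD2_c40 LD3_c53) Lrfl Lrfl
theorem f650525 : Led Lsl_gt (LP (LK LD1_c6 LD2_c40 LD3_c53)) = v6011 :=
  Lgr Lrot94 (Lpe (f508841 IH) (Lpr_gt (K32.f508997 IH) (Lpr_dt (K32.f62084 IH) (Lpr_gt (K32.f62106 IH) (Lpr_dt (K24.f66027 IH) (Lpe (f502891 IH) (Lpe (f504423 IH) (Lpr_gf (f646584 IH) (Lpr_df (f650523 IH) (Lpn v6011))))))))))
theorem f654175 : Led Lsl_gt (LP (LK LD1_c6 LD2_c40 LD3_c12)) = (LP (LK LD1_c6 LD2_c40 LD3_c53)) :=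
  Lgr Lrot5 (Lpr_ft (f508809 IH) (Lpr_at (f651353 IH) (Lpqs (f654019 IH) (Lpe (f650525 IH) (Lpn (LP (LK LD1_c6 LD2_c40 LD3_c53)))))))
theorem f654176 : Led Lsl_gt (LP (LK LD1_c6 LD2_c40 LD3_c12)) = (LP (LK LD1_c6 LD2_c40 LD3_c53)) :=
  Leop (Lpe (f654175 IH) (Lpn (LP (LK LD1_c6 LD2_c40 LD3_c12))))
theorem seed_383 : LEOK LG_g (LK LD1_c6 LD2_c40 LD3_c12) :=
  Leoe_g (LK LD1_c6 LD2_c40 LD3_c12) (f654176 IH)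
theorem f653960 : Led Lsl_ff v6013 = v6571 :=
  Lgr Lrot3 (Lpr_ft (f653959 IH) (Lpn v6571))
theorem f651275 : Led Lsl_af (LP (LK LD1_c3 LD2_c18 LD3_c7)) = v6114 :=
  Lgr Lrot0 (Lpr_at (f651274 IH) (Lpn v6114))
theorem f654002 : (LP (LK LD1_c3 LD2_c18 LD3_c7)) = v6571 :=
  Lefun (Lecon (Lfl_af (f651275 IH)) (f653996 IH)) (f653955 IH)
theorem f508800 : Led Lsl_dt (LP (LK LD1_c6 LD2_c40 LD3_c7)) = (LP (LK LD1_c3 LD2_c18 LD3_c7)) :=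
  Lre_d IH (LK LD1_c6 LD2_c40 LD3_c7) (LK LD1_c3 LD2_c18 LD3_c7) Lrfl Lrfl
theorem f651364 : Led Lsl_dt v6013 = v6116 :=
  Lgr Lrot27 (Lpe (f650533 IH) (Lpe (f453927 IH) (Lpe (f414280 IH) (Lpe (K32.f62086 IH) (Lpe (f62125 IH) (Lpq (f624152 IH) (Lpr_gt (f624547 IH) (Lpr_ct (f651362 IH) (Lpe (f651352 IH) (Lpr_ct (f651286 IH) (Lpn v6116)))))))))))
theorem f654197 : Led Lsl_ff (LP (LK LD1_c6 LD2_c40 LD3_c7)) = v6116 :=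
  Lgr Lrot19 (Lpr_dt (f508800 IH) (Lpqs (f654002 IH) (Lpe (f653960 IH) (Lpr_dt (f651364 IH) (Lpn v6116)))))
theorem f654198 : Led Lsl_ct (LP (LK LD1_c6 LD2_c40 LD3_c7)) = (LP (LK LD1_c6 LD2_c40 LD3_c12)) :=
  Lgr Lrot40 (Lpr_ff (f654197 IH) (Lpe (f651286 IH) (Lpe (f508809 IH) (Lpn (LP (LK LD1_c6 LD2_c40 LD3_c12))))))
theorem f654199 : Led Lsl_ct (LP (LK LD1_c6 LD2_c40 LD3_c7)) = (LP (LK LD1_c6 LD2_c40 LD3_c12)) :=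
  Leop (Lpe (f654198 IH) (Lpn (LP (LK LD1_c6 LD2_c40 LD3_c7))))
theorem seed_384 : LEOK LG_c (LK LD1_c6 LD2_c40 LD3_c7) :=
  Leoe_c (LK LD1_c6 LD2_c40 LD3_c7) (f654199 IH)
def v6115 : LQ := Led Lsl_bt (LP (LK LD1_c3 LD2_c18 LD3_c7))
theorem f651280 : Led Lsl_bt (LP (LK LD1_c3 LD2_c18 LD3_c7)) = v6115 :=
  Lrfl
theorem f654209 : Led Lsl_ft v6115 = (LP (LK LD1_c6 LD2_c50 LD3_c47)) :=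
  Lgr Lrot75 (Lpe (f651280 IH) (Lpqs (f654002 IH) (Lpe (f653959 IH) (Lpe (f653974 IH) (Lpn (LP (LK LD1_c6 LD2_c50 LD3_c47)))))))
theorem f140069 : Led Lsl_ct (LP (LK LD1_c1 LD2_c35 LD3_c42)) = (LP (LK LD1_c3 LD2_c18 LD3_c32)) :=
  Lre_c IH (LK LD1_c1 LD2_c35 LD3_c42) (LK LD1_c3 LD2_c18 LD3_c32) Lrfl Lrfl
theorem f140070 : Led Lsl_gt (LP (LK LD1_c6 LD2_c40 LD3_c60)) = (LP (LK LD1_c3 LD2_c18 LD3_c32)) :=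
  Lre_g IH (LK LD1_c6 LD2_c40 LD3_c60) (LK LD1_c3 LD2_c18 LD3_c32) Lrfl Lrfl
theorem f140059 : Led Lsl_bt (LP (LK LD1_c0 LD2_c45 LD3_c35)) = (LP (LK LD1_c1 LD2_c38 LD3_c22)) :=
  Lre_b IH (LK LD1_c0 LD2_c45 LD3_c35) (LK LD1_c1 LD2_c38 LD3_c22) Lrfl Lrfl
theorem f140064 : Led Lsl_gt (LP (LK LD1_c1 LD2_c38 LD3_c22)) = (LP (LK LD1_c3 LD2_c24 LD3_c10)) :=
  Lre_g IH (LK LD1_c1 LD2_c38 LD3_c22) (LK LD1_c3 LD2_c24 LD3_c10) Lrfl Lrfl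
theorem f140071 : Led Lsl_cf (LP (LK LD1_c6 LD2_c40 LD3_c60)) = (LP (LK LD1_c3 LD2_c24 LD3_c10)) :=
  Lgr Lrot125 (Lpr_gt (f140070 IH) (Lpe (f140069 IH) (Lpr_bt (f140068 IH) (Lpr_gt (K32.f62106 IH) (Lpe (K34.f140067 IH) (Lpr_ct (K17.f22956 IH) (Lpr_gt (K0.f22847 IH) (Lpr_cf (K9.f140032 IH) (Lpr_bt (f140059 IH) (Lpr_gt (f140064 IH) (Lpn (LP (LK LD1_c3 LD2_c24 LD3_c10)))))))))))))
theorem f140060 : Led Lsl_bt (LP (LK LD1_c0 LD2_c44 LD3_c56)) = (LP (LK LD1_c0 LD2_c19 LD3_c56)) :=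
  Lre_b IH (LK LD1_c0 LD2_c44 LD3_c56) (LK LD1_c0 LD2_c19 LD3_c56) Lrfl Lrfl
theorem f140061 : Led Lsl_ct (LP (LK LD1_c0 LD2_c44 LD3_c56)) = (LP (LK LD1_c1 LD2_c37 LD3_c6)) :=
  Lre_c IH (LK LD1_c0 LD2_c44 LD3_c56) (LK LD1_c1 LD2_c37 LD3_c6) Lrfl Lrfl
theorem f140062 : Led Lsl_gt (LP (LK LD1_c3 LD2_c21 LD3_c42)) = (LP (LK LD1_c1 LD2_c37 LD3_c6)) :=
  Lre_g IH (LK LD1_c3 LD2_c21 LD3_c42) (LK LD1_c1 LD2_c37 LD3_c6) Lrfl Lrfl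
theorem f140063 : Led Lsl_ct (LP (LK LD1_c6 LD2_c47 LD3_c0)) = (LP (LK LD1_c3 LD2_c21 LD3_c42)) :=
  Lre_c IH (LK LD1_c6 LD2_c47 LD3_c0) (LK LD1_c3 LD2_c21 LD3_c42) Lrfl Lrfl
theorem f140065 : Led Lsl_bt (LP (LK LD1_c6 LD2_c47 LD3_c0)) = (LP (LK LD1_c3 LD2_c24 LD3_c10)) :=
  Lgr Lrot92 (Lpr_ct (f140063 IH) (Lpr_gt (f140062 IH) (Lpe (f140061 IH) (Lpr_bt (f140060 IH) (Lpr_gt (K17.f27136 IH) (Lpr_ct (K17.f22956 IH) (Lpr_gt (K0.f22847 IH) (Lpr_cf (K9.f140032 IH) (Lpr_bt (f140059 IH) (Lpr_gt (f140064 IH) (Lpn (LP (LK LD1_c3 LD2_c24 LD3_c10)))))))))))))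
theorem f140080 : Led Lsl_bf (LP (LK LD1_c6 LD2_c47 LD3_c0)) = (LP (LK LD1_c3 LD2_c24 LD3_c10)) :=
  Lgr Lrot24 (Lpr_bt (f140065 IH) (Lpn (LP (LK LD1_c3 LD2_c24 LD3_c10))))
theorem f651282 : Led Lsl_gf (LP (LK LD1_c6 LD2_c47 LD3_c0)) = v6115 :=
  Lgr Lrot124 (Lpr_bf (f140080 IH) (Lpe (f140071 IH) (Lpr_gt (f140070 IH) (Lpe (f140069 IH) (Lpr_bt (f140068 IH) (Lpr_gt (K32.f62106 IH) (Lpr_ct (K32.f140078 IH) (Lpr_gt (f65677 IH) (Lpe (f140079 IH) (Lpr_bt (f651280 IH) (Lpn v6115)))))))))))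
theorem f654210 : Led Lsl_gt (LP (LK LD1_c6 LD2_c47 LD3_c0)) = (LP (LK LD1_c3 LD2_c23 LD3_c51)) :=
  Lgr Lrot46 (Lpr_gf (f651282 IH) (Lpr_ft (f654209 IH) (Lpr_at (f509760 IH) (Lpn (LP (LK LD1_c3 LD2_c23 LD3_c51))))))
theorem f654211 : Led Lsl_gt (LP (LK LD1_c6 LD2_c47 LD3_c0)) = (LP (LK LD1_c3 LD2_c23 LD3_c51)) :=
  Leop (Lpe (f654210 IH) (Lpn (LP (LK LD1_c6 LD2_c47 LD3_c0))))
theorem seed_385 : LEOK LG_g (LK LD1_c6 LD2_c47 LD3_c0) :=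
  Leoe_g (LK LD1_c6 LD2_c47 LD3_c0) (f654211 IH)
def v6623 : LQ := Led Lsl_et (LP (LK LD1_c3 LD2_c24 LD3_c15))
theorem f654463 : Led Lsl_et (LP (LK LD1_c3 LD2_c24 LD3_c15)) = v6623 :=
  Lrfl
theorem f654466 : Led Lsl_ef (LP (LK LD1_c3 LD2_c24 LD3_c15)) = v6623 :=
  Lgr Lrot88 (Lpr_et (f654463 IH) (Lpn v6623))
theorem f82614 : Led Lsl_et (LP (LK LD1_c1 LD2_c30 LD3_c27)) = (LP (LK LD1_c3 LD2_c8 LD3_c35)) :=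
  Lre_e IH (LK LD1_c1 LD2_c30 LD3_c27) (LK LD1_c3 LD2_c8 LD3_c35) Lrfl Lrfl
def v5541 : LQ := Led Lsl_dt (LP (LK LD1_c3 LD2_c9 LD3_c30))
theorem f648156 : Led Lsl_dt (LP (LK LD1_c3 LD2_c9 LD3_c30)) = v5541 :=
  Lrfl
def v5360 : LQ := Led Lsl_et (LP (LK LD1_c3 LD2_c6 LD3_c45))
theorem f647249 : Led Lsl_et (LP (LK LD1_c3 LD2_c6 LD3_c45)) = v5360 :=
  Lrfl
theorem f647250 : Led Lsl_ef (LP (LK LD1_c3 LD2_c6 LD3_c45)) = v5360 :=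
  Lgr Lrot88 (Lpr_et (f647249 IH) (Lpn v5360))
theorem f654465 : Led Lsl_df v5360 = v6623 :=
  Lgr Lrot70 (Lpe (f647250 IH) (Lpr_dt (K9.f61777 IH) (Lpr_et (K9.f26063 IH) (Lpr_dt (K24.f26067 IH) (Lpr_et (f654463 IH) (Lpn v6623))))))
theorem f654473 : Led Lsl_gt v5541 = v5360 :=
  Lgr Lrot139 (Lpe (f648156 IH) (Lpr_gf (f632468 IH) (Lpe (f632458 IH) (Lpr_dt (K7.f61106 IH) (Lpe (K24.f435550 IH) (Lpe (K24.f82591 IH) (Lpr_et (f82614 IH) (Lpr_gf (K24.f82609 IH) (Lpr_ef (f654466 IH) (Lpe (f654465 IH) (Lpn v5360)))))))))))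
theorem f648144 : Led Lsl_et (LP (LK LD1_c3 LD2_c9 LD3_c30)) = (LP (LK LD1_c6 LD2_c23 LD3_c51)) :=
  Lre_e IH (LK LD1_c3 LD2_c9 LD3_c30) (LK LD1_c6 LD2_c23 LD3_c51) Lrfl Lrfl
theorem f140819 : Led Lsl_et (LP (LK LD1_c3 LD2_c8 LD3_c20)) = (LP (LK LD1_c6 LD2_c21 LD3_c18)) :=
  Lre_e IH (LK LD1_c3 LD2_c8 LD3_c20) (LK LD1_c6 LD2_c21 LD3_c18) Lrfl Lrfl
theorem f654474 : Led Lsl_gf (LP (LK LD1_c6 LD2_c23 LD3_c51)) = (LP (LK LD1_c6 LD2_c21 LD3_c18)) :=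
  Lgr Lrot141 (Lpe (f648144 IH) (Lpr_dt (f648156 IH) (Lpr_gt (f654473 IH) (Lpr_df (f654465 IH) (Lpe (f654466 IH) (Lpe (K24.f82609 IH) (Lpr_dt (K24.f82601 IH) (Lpr_gt (K35.f82606 IH) (Lpe (K35.f445979 IH) (Lpr_et (f140819 IH) (Lpn (LP (LK LD1_c6 LD2_c21 LD3_c18)))))))))))))
theorem f654475 : Led Lsl_gt (LP (LK LD1_c6 LD2_c21 LD3_c18)) = (LP (LK LD1_c6 LD2_c23 LD3_c51)) :=
  Leop (Lpr_gf (f654474 IH) (Lpn (LP (LK LD1_c6 LD2_c21 LD3_c18))))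
theorem seed_386 : LEOK LG_g (LK LD1_c6 LD2_c21 LD3_c18) :=
  Leoe_g (LK LD1_c6 LD2_c21 LD3_c18) (f654475 IH)
def v6643 : LQ := Led Lsl_ft (LP (LK LD1_c3 LD2_c24 LD3_c49))
theorem f654571 : Led Lsl_ft (LP (LK LD1_c3 LD2_c24 LD3_c49)) = v6643 :=
  Lrfl
theorem f654574 : Led Lsl_ff (LP (LK LD1_c3 LD2_c24 LD3_c49)) = v6643 :=
  Lgr Lrot3 (Lpr_ft (f654571 IH) (Lpn v6643))
def v2250 : LQ := Led Lsl_ft (LP (LK LD1_c1 LD2_c38 LD3_c50))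
theorem f510478 : Led Lsl_ft (LP (LK LD1_c1 LD2_c38 LD3_c50)) = v2250 :=
  Lrfl
theorem f654576 : Led Lsl_bt v2250 = v6643 :=
  Lgr Lrot35 (Lpe (f510478 IH) (Lpe (K28.f15836 IH) (Lpr_ff (f654574 IH) (Lpn v6643))))
theorem f510480 : Led Lsl_ff (LP (LK LD1_c1 LD2_c38 LD3_c50)) = v2250 :=
  Lgr Lrot3 (Lpr_ft (f510478 IH) (Lpn v2250))
def v2249 : LQ := Led Lsl_at (LP (LK LD1_c1 LD2_c38 LD3_c50))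
theorem f510474 : Led Lsl_at (LP (LK LD1_c1 LD2_c38 LD3_c50)) = v2249 :=
  Lrfl
theorem f510475 : Led Lsl_af (LP (LK LD1_c1 LD2_c38 LD3_c50)) = v2249 :=
  Lgr Lrot0 (Lpr_at (f510474 IH) (Lpn v2249))
theorem f510476 : Led Lsl_ft (LP (LK LD1_c1 LD2_c38 LD3_c51)) = v2249 :=
  Lgr Lrot2 (Lpr_gt (K2.f17017 IH) (Lpr_gt (K28.f18584 IH) (Lpr_af (f510475 IH) (Lpn v2249))))
theorem f510477 : Led Lsl_ff (LP (LK LD1_c1 LD2_c38 LD3_c51)) = v2249 :=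
  Lgr Lrot3 (Lpr_ft (f510476 IH) (Lpn v2249))
theorem f510481 : Led Lsl_at (LP (LK LD1_c1 LD2_c38 LD3_c51)) = v2250 :=
  Lgr Lrot66 (Lpr_ff (f510477 IH) (Lpe (f510474 IH) (Lpr_ff (f510480 IH) (Lpn v2250))))
def v6642 : LQ := Led Lsl_at (LP (LK LD1_c3 LD2_c24 LD3_c49))
theorem f654567 : Led Lsl_at (LP (LK LD1_c3 LD2_c24 LD3_c49)) = v6642 :=
  Lrfl
theorem f654568 : Led Lsl_af (LP (LK LD1_c3 LD2_c24 LD3_c49)) = v6642 :=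
  Lgr Lrot0 (Lpr_at (f654567 IH) (Lpn v6642))
theorem f654569 : Led Lsl_ft (LP (LK LD1_c6 LD2_c34 LD3_c3)) = v6642 :=
  Lgr Lrot2 (Lpr_gt (K24.f108772 IH) (Lpr_gt (K28.f463705 IH) (Lpr_af (f654568 IH) (Lpn v6642))))
theorem f654572 : Led Lsl_af (LP (LK LD1_c6 LD2_c34 LD3_c3)) = v6643 :=
  Lgr Lrot45 (Lpr_ft (f654569 IH) (Lpe (f654568 IH) (Lpr_ft (f654571 IH) (Lpn v6643))))
theorem f654577 : Led Lsl_af (LP (LK LD1_c3 LD2_c24 LD3_c53)) = (LP (LK LD1_c3 LD2_c35 LD3_c33)) :=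
  Lgr Lrot36 (Lpr_bt (K28.f15834 IH) (Lpr_at (f510481 IH) (Lpr_bt (f654576 IH) (Lpe (f654572 IH) (Lpe (K28.f461892 IH) (Lpn (LP (LK LD1_c3 LD2_c35 LD3_c33))))))))
theorem f654578 : Led Lsl_at (LP (LK LD1_c3 LD2_c35 LD3_c33)) = (LP (LK LD1_c3 LD2_c24 LD3_c53)) :=
  Leop (Lpr_af (f654577 IH) (Lpn (LP (LK LD1_c3 LD2_c35 LD3_c33))))
theorem seed_387 : LEOK LG_a (LK LD1_c3 LD2_c35 LD3_c33) :=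
  Leoe_a (LK LD1_c3 LD2_c35 LD3_c33) (f654578 IH)
def v6636 : LQ := Led Lsl_ft (LP (LK LD1_c3 LD2_c24 LD3_c30))
theorem f654544 : Led Lsl_ft (LP (LK LD1_c3 LD2_c24 LD3_c30)) = v6636 :=
  Lrfl
theorem f654546 : Led Lsl_ff (LP (LK LD1_c3 LD2_c24 LD3_c30)) = v6636 :=
  Lgr Lrot3 (Lpr_ft (f654544 IH) (Lpn v6636))
theorem f510479 : Led Lsl_af (LP (LK LD1_c1 LD2_c38 LD3_c51)) = v2250 :=
  Lgr Lrot45 (Lpr_ft (f510476 IH) (Lpe (f510475 IH) (Lpr_ft (f510478 IH) (Lpn v2250))))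
def v6634 : LQ := Led Lsl_at (LP (LK LD1_c3 LD2_c24 LD3_c30))
theorem f654527 : Led Lsl_at (LP (LK LD1_c3 LD2_c24 LD3_c30)) = v6634 :=
  Lrfl
theorem f654528 : Led Lsl_af (LP (LK LD1_c3 LD2_c24 LD3_c30)) = v6634 :=
  Lgr Lrot0 (Lpr_at (f654527 IH) (Lpn v6634))
theorem f654529 : Led Lsl_ft (LP (LK LD1_c3 LD2_c24 LD3_c31)) = v6634 :=
  Lgr Lrot2 (Lpr_gt (K24.f15809 IH) (Lpr_gt (K28.f14647 IH) (Lpr_af (f654528 IH) (Lpn v6634))))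
theorem f654530 : Led Lsl_ff (LP (LK LD1_c3 LD2_c24 LD3_c31)) = v6634 :=
  Lgr Lrot3 (Lpr_ft (f654529 IH) (Lpn v6634))
theorem f654547 : Led Lsl_at (LP (LK LD1_c3 LD2_c24 LD3_c31)) = v6636 :=
  Lgr Lrot66 (Lpr_ff (f654530 IH) (Lpe (f654527 IH) (Lpr_ff (f654546 IH) (Lpn v6636))))
theorem f654573 : Led Lsl_bf v2250 = v6643 :=
  Lgr Lrot61 (Lpe (f510480 IH) (Lpr_bt (K28.f458351 IH) (Lpr_ft (f654571 IH) (Lpn v6643))))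
theorem f654587 : Led Lsl_ft (LP (LK LD1_c7 LD2_c2 LD3_c30)) = (LP (LK LD1_c3 LD2_c35 LD3_c33)) :=
  Lgr Lrot2 (Lpr_gt (K28.f466458 IH) (Lpe (K28.f464587 IH) (Lpr_af (f654577 IH) (Lpn (LP (LK LD1_c3 LD2_c35 LD3_c33))))))
theorem f654593 : (LP (LK LD1_c3 LD2_c30 LD3_c20)) = v6642 :=
  (Llr Lrot61 (Lpr_bt (K28.f18830 IH) (Lpr_ft (f654587 IH) (Lpr_bt (K28.f461894 IH) (Lpr_ft (f654569 IH) (Lpn v6642)))))).symm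
def v2306 : LQ := Led Lsl_ft (LP (LK LD1_c1 LD2_c41 LD3_c50))
theorem f511986 : Led Lsl_ft (LP (LK LD1_c1 LD2_c41 LD3_c50)) = v2306 :=
  Lrfl
theorem f654600 : (LP (LK LD1_c3 LD2_c29 LD3_c7)) = v2306 :=
  (Llr Lrot108 (Lpe (K28.f463831 IH) (Lpr_ft (f654569 IH) (Lpq (f654593 IH) (Lpr_ct (K28.f18827 IH) (Lpr_ft (f511986 IH) (Lpn v2306))))))).symm
theorem f654607 : Led Lsl_ff (LP (LK LD1_c3 LD2_c30 LD3_c21)) = (LP (LK LD1_c7 LD2_c0 LD3_c1)) :=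
  Lgr Lrot19 (Lpr_dt (K29.f443440 IH) (Lpr_ft (f511986 IH) (Lpq (f654600 IH) (Lpr_dt (K29.f463833 IH) (Lpn (LP (LK LD1_c7 LD2_c0 LD3_c1)))))))
theorem f18762 : Led Lsl_ct (LP (LK LD1_c6 LD2_c59 LD3_c60)) = (LP (LK LD1_c13 LD2_c16 LD3_c57)) :=
  Lre_c IH (LK LD1_c6 LD2_c59 LD3_c60) (LK LD1_c13 LD2_c16 LD3_c57) Lrfl Lrfl
theorem f477263 : Led Lsl_gt (LP (LK LD1_c7 LD2_c47 LD3_c44)) = (LP (LK LD1_c6 LD2_c59 LD3_c60)) :=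
  Lgr Lrot150 (Lpr_cf (K29.f476332 IH) (Lpr_gf (K29.f477257 IH) (Lpr_df (K29.f471804 IH) (Lpr_gt (K29.f460597 IH) (Lpr_ct (K29.f91104 IH) (Lpr_gt (K24.f64996 IH) (Lpr_ct (K29.f443327 IH) (Lpr_df (K29.f468524 IH) (Lpe (f18762 IH) (Lpn (LP (LK LD1_c6 LD2_c59 LD3_c60))))))))))))
theorem f654619 : Led Lsl_at (LP (LK LD1_c3 LD2_c30 LD3_c21)) = (LP (LK LD1_c6 LD2_c59 LD3_c60)) :=
  Lgr Lrot26 (Lpr_ff (f654607 IH) (Lpe (K29.f477308 IH) (Lpr_gt (f477263 IH) (Lpn (LP (LK LD1_c6 LD2_c59 LD3_c60))))))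
def v2305 : LQ := Led Lsl_at (LP (LK LD1_c1 LD2_c41 LD3_c50))
theorem f511980 : Led Lsl_at (LP (LK LD1_c1 LD2_c41 LD3_c50)) = v2305 :=
  Lrfl
theorem f511981 : Led Lsl_af (LP (LK LD1_c1 LD2_c41 LD3_c50)) = v2305 :=
  Lgr Lrot0 (Lpr_at (f511980 IH) (Lpn v2305))
theorem f654631 : v2305 = (LP (LK LD1_c3 LD2_c29 LD3_c6)) :=
  (Llr Lrot117 (Lpe (f511981 IH) (Lpr_dt (K29.f64936 IH) (Lpr_at (f654619 IH) (Lpr_dt (K29.f63702 IH) (Lpn (LP (LK LD1_c3 LD2_c29 LD3_c6)))))))).symm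
theorem f511984 : Led Lsl_ft (LP (LK LD1_c1 LD2_c41 LD3_c51)) = v2305 :=
  Lgr Lrot2 (Lpr_gt (K24.f64272 IH) (Lpr_gt (K1.f64929 IH) (Lpr_af (f511981 IH) (Lpn v2305))))
theorem f654640 : (LP (LK LD1_c3 LD2_c30 LD3_c24)) = v6643 :=
  (Llr Lrot108 (Lpr_ct (K24.f18822 IH) (Lpr_ft (f511984 IH) (Lpqs (f654631 IH) (Lpe (K28.f458356 IH) (Lpr_ft (f654571 IH) (Lpn v6643))))))).symm
theorem f654645 : v2250 = (LP (LK LD1_c3 LD2_c24 LD3_c31)) :=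
  Lefun (Lecon (Lfl_bf (f654573 IH)) (f654640 IH).symm) (K24.f457638 IH)
theorem f654646 : (LP (LK LD1_c1 LD2_c38 LD3_c51)) = v6636 :=
  Lefun (Lecon (Lfl_af (f510479 IH)) (f654645 IH)) (f654547 IH)
def v6635 : LQ := Led Lsl_dt (LP (LK LD1_c3 LD2_c24 LD3_c30))
theorem f654531 : Led Lsl_dt (LP (LK LD1_c3 LD2_c24 LD3_c30)) = v6635 :=
  Lrfl
theorem f654661 : Led Lsl_ff (LP (LK LD1_c3 LD2_c24 LD3_c55)) = v6635 :=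
  Lgr Lrot19 (Lpr_dt (K2.f17093 IH) (Lpqs (f654646 IH) (Lpe (f654546 IH) (Lpr_dt (f654531 IH) (Lpn v6635)))))
theorem f654534 : Led Lsl_gf (LP (LK LD1_c3 LD2_c38 LD3_c2)) = v6635 :=
  Lgr Lrot143 (Lpr_dt (K28.f456912 IH) (Lpe (K29.f455988 IH) (Lpe (K32.f456920 IH) (Lpe (K29.f479307 IH) (Lpe (K29.f457482 IH) (Lpr_gf (K24.f457477 IH) (Lpe (K24.f15795 IH) (Lpr_gt (K28.f14647 IH) (Lpr_dt (f654531 IH) (Lpn v6635))))))))))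
theorem f654665 : Led Lsl_at (LP (LK LD1_c3 LD2_c24 LD3_c55)) = (LP (LK LD1_c3 LD2_c31 LD3_c16)) :=
  Lgr Lrot26 (Lpr_ff (f654661 IH) (Lpe (f654534 IH) (Lpe (K35.f479441 IH) (Lpn (LP (LK LD1_c3 LD2_c31 LD3_c16))))))
def v2317 : LQ := Led Lsl_at (LP (LK LD1_c1 LD2_c42 LD3_c9))
theorem f514606 : Led Lsl_at (LP (LK LD1_c1 LD2_c42 LD3_c9)) = v2317 :=
  Lrfl
theorem f654671 : (LP (LK LD1_c3 LD2_c31 LD3_c10)) = v2317 :=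
  (Llr Lrot20 (Lpr_et (K28.f90865 IH) (Lpr_at (f654665 IH) (Lpr_et (K28.f18074 IH) (Lpr_at (f514606 IH) (Lpn v2317)))))).symm
theorem f514607 : Led Lsl_af (LP (LK LD1_c1 LD2_c42 LD3_c9)) = v2317 :=
  Lgr Lrot0 (Lpr_at (f514606 IH) (Lpn v2317))
theorem f514608 : Led Lsl_ft (LP (LK LD1_c1 LD2_c42 LD3_c10)) = v2317 :=
  Lgr Lrot2 (Lpr_gt (K28.f18071 IH) (Lpr_gt (K24.f18073 IH) (Lpr_af (f514607 IH) (Lpn v2317))))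
theorem f654664 : Led Lsl_ft (LP (LK LD1_c3 LD2_c24 LD3_c55)) = v6635 :=
  Lgr Lrot48 (Lpr_ff (f654661 IH) (Lpn v6635))
theorem f654533 : Led Lsl_df (LP (LK LD1_c3 LD2_c24 LD3_c30)) = v6635 :=
  Lgr Lrot38 (Lpr_dt (f654531 IH) (Lpn v6635))
theorem f14646 : Led Lsl_dt (LP (LK LD1_c0 LD2_c46 LD3_c28)) = (LP (LK LD1_c1 LD2_c38 LD3_c41)) :=
  Lre_d IH (LK LD1_c0 LD2_c46 LD3_c28) (LK LD1_c1 LD2_c38 LD3_c41) Lrfl Lrfl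
def v3942 : LQ := Led Lsl_gf K29.v1134
theorem f628171 : Led Lsl_gf K29.v1134 = v3942 :=
  Lrfl
theorem f654537 : Led Lsl_ef v3942 = v6635 :=
  Lgr Lrot114 (Lpe (f628171 IH) (Lpe (K29.f491663 IH) (Lpr_dt (K29.f491646 IH) (Lpe (K29.f491651 IH) (Lpr_df (K35.f511386 IH) (Lpe (K33.f511387 IH) (Lpr_gt (K2.f15903 IH) (Lpr_dt (f14646 IH) (Lpr_gt (K28.f14647 IH) (Lpr_df (f654533 IH) (Lpn v6635)))))))))))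
theorem f654680 : Led Lsl_ff (LP (LK LD1_c3 LD2_c31 LD3_c19)) = v3942 :=
  Lgr Lrot72 (Lpr_et (K35.f18072 IH) (Lpr_ft (f514608 IH) (Lpq (f654671 IH) (Lpr_et (K28.f90865 IH) (Lpr_ft (f654664 IH) (Lpe (f654537 IH) (Lpn v3942)))))))
def v3941 : LQ := Led Lsl_gt K29.v1134
theorem f628166 : Led Lsl_gt K29.v1134 = v3941 :=
  Lrfl
theorem f654683 : Led Lsl_at (LP (LK LD1_c3 LD2_c31 LD3_c19)) = v3941 :=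
  Lgr Lrot26 (Lpr_ff (f654680 IH) (Lpe (f628171 IH) (Lpr_gt (f628166 IH) (Lpn v3941))))
def v2318 : LQ := Led Lsl_ft (LP (LK LD1_c1 LD2_c42 LD3_c9))
theorem f514611 : Led Lsl_ft (LP (LK LD1_c1 LD2_c42 LD3_c9)) = v2318 :=
  Lrfl
theorem f514612 : Led Lsl_af (LP (LK LD1_c1 LD2_c42 LD3_c10)) = v2318 :=
  Lgr Lrot45 (Lpr_ft (f514608 IH) (Lpe (f514607 IH) (Lpr_ft (f514611 IH) (Lpn v2318))))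
def v2277 : LQ := Led Lsl_dt (LP (LK LD1_c1 LD2_c40 LD3_c5))
theorem f511421 : Led Lsl_dt (LP (LK LD1_c1 LD2_c40 LD3_c5)) = v2277 :=
  Lrfl
def v3315 : LQ := Led Lsl_gt K29.v710
theorem f625108 : Led Lsl_gt K29.v710 = v3315 :=
  Lrfl
theorem f511423 : Led Lsl_df (LP (LK LD1_c1 LD2_c40 LD3_c5)) = v2277 :=
  Lgr Lrot38 (Lpr_dt (f511421 IH) (Lpn v2277))
theorem f511424 : Led Lsl_at K29.v716 = v2277 :=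
  Lgr Lrot51 (Lpe (K29.f456909 IH) (Lpr_af (K29.f456908 IH) (Lpq (K29.f476750 IH) (Lpr_df (f511423 IH) (Lpn v2277)))))
theorem f625109 : Led Lsl_gf v2277 = v3315 :=
  Lgr Lrot76 (Lpe (f511424 IH) (Lpr_ff (K29.f457268 IH) (Lpr_gt (f625108 IH) (Lpn v3315))))
theorem f628167 : Led Lsl_df v3315 = v3941 :=
  Lgr Lrot135 (Lpe (f625109 IH) (Lpe (f511421 IH) (Lpr_et (K29.f91506 IH) (Lpr_gt (K33.f479925 IH) (Lpr_ef (K33.f511673 IH) (Lpe (K33.f511672 IH) (Lpe (K29.f491715 IH) (Lpe (K29.f491646 IH) (Lpr_et (K29.f491663 IH) (Lpr_gt (f628166 IH) (Lpn v3941)))))))))))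
theorem f11201 : Led Lsl_gt (LP (LK LD1_c1 LD2_c42 LD3_c11)) = (LP (LK LD1_c3 LD2_c31 LD3_c11)) :=
  Lre_g IH (LK LD1_c1 LD2_c42 LD3_c11) (LK LD1_c3 LD2_c31 LD3_c11) Lrfl Lrfl
theorem f628169 : Led Lsl_ef (LP (LK LD1_c3 LD2_c31 LD3_c11)) = v3941 :=
  Lgr Lrot17 (Lpe (f11201 IH) (Lpr_ef (K1.f18185 IH) (Lpr_dt (K2.f15713 IH) (Lpe (K28.f15716 IH) (Lpe (K29.f18198 IH) (Lpe (K33.f479925 IH) (Lpe (K29.f91506 IH) (Lpr_dt (f511421 IH) (Lpr_gf (f625109 IH) (Lpr_df (f628167 IH) (Lpn v3941)))))))))))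
theorem f654686 : v2318 = (LP (LK LD1_c3 LD2_c31 LD3_c11)) :=
  (Llr Lrot50 (Lpe (f514612 IH) (Lpr_et (K33.f514610 IH) (Lpr_at (f654683 IH) (Lpe (f628169 IH) (Lpn (LP (LK LD1_c3 LD2_c31 LD3_c11)))))))).symm
theorem f446548 : Led Lsl_ct (LP (LK LD1_c3 LD2_c31 LD3_c11)) = (LP (LK LD1_c7 LD2_c4 LD3_c13)) :=
  Lre_c IH (LK LD1_c3 LD2_c31 LD3_c11) (LK LD1_c7 LD2_c4 LD3_c13) Lrfl Lrfl
theorem f654693 : Led Lsl_ff (LP (LK LD1_c3 LD2_c31 LD3_c14)) = (LP (LK LD1_c7 LD2_c4 LD3_c13)) :=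
  Lgr Lrot23 (Lpr_ct (K28.f458446 IH) (Lpr_ft (f514611 IH) (Lpqs (f654686 IH) (Lpr_ct (f446548 IH) (Lpn (LP (LK LD1_c7 LD2_c4 LD3_c13)))))))
theorem f18094 : Led Lsl_gt (LP (LK LD1_c3 LD2_c31 LD3_c11)) = (LP (LK LD1_c1 LD2_c42 LD3_c8)) :=
  Lre_g IH (LK LD1_c3 LD2_c31 LD3_c11) (LK LD1_c1 LD2_c42 LD3_c8) Lrfl Lrfl
theorem f460750 : Led Lsl_bt (LP (LK LD1_c3 LD2_c35 LD3_c58)) = (LP (LK LD1_c3 LD2_c31 LD3_c11)) :=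
  Lgr Lrot130 (Lpr_ct (K24.f460730 IH) (Lpe (K24.f18853 IH) (Lpe (K24.f18834 IH) (Lpe (K3.f18809 IH) (Lpe (K24.f18851 IH) (Lpe (K28.f18852 IH) (Lpe (K28.f457431 IH) (Lpe (K2.f18727 IH) (Lpe (K28.f18716 IH) (Lpe (f18094 IH) (Lpn (LP (LK LD1_c3 LD2_c31 LD3_c11)))))))))))))
theorem f460829 : Led Lsl_bf (LP (LK LD1_c3 LD2_c35 LD3_c58)) = (LP (LK LD1_c3 LD2_c31 LD3_c11)) :=
  Lgr Lrot24 (Lpr_bt (f460750 IH) (Lpn (LP (LK LD1_c3 LD2_c31 LD3_c11))))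
theorem f439186 : Led Lsl_bt (LP (LK LD1_c1 LD2_c47 LD3_c26)) = (LP (LK LD1_c0 LD2_c50 LD3_c32)) :=
  Lre_b IH (LK LD1_c1 LD2_c47 LD3_c26) (LK LD1_c0 LD2_c50 LD3_c32) Lrfl Lrfl
theorem f108809 : Led Lsl_ct (LP (LK LD1_c1 LD2_c47 LD3_c26)) = (LP (LK LD1_c3 LD2_c40 LD3_c58)) :=
  Lre_c IH (LK LD1_c1 LD2_c47 LD3_c26) (LK LD1_c3 LD2_c40 LD3_c58) Lrfl Lrfl
theorem f466190 : Led Lsl_gt (LP (LK LD1_c7 LD2_c4 LD3_c13)) = (LP (LK LD1_c3 LD2_c40 LD3_c58)) :=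
  Lgr Lrot65 (Lpe (f446548 IH) (Lpe (f460829 IH) (Lpr_gf (K24.f130705 IH) (Lpr_bf (K24.f130748 IH) (Lpe (K24.f130726 IH) (Lpr_gf (K24.f460752 IH) (Lpe (K24.f455650 IH) (Lpq (K28.f466161 IH) (Lpe (K28.f457152 IH) (Lpe (f439186 IH) (Lpr_ct (f108809 IH) (Lpn (LP (LK LD1_c3 LD2_c40 LD3_c58))))))))))))))
theorem f464370 : Led Lsl_at (LP (LK LD1_c7 LD2_c4 LD3_c15)) = (LP (LK LD1_c6 LD2_c53 LD3_c12)) :=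
  Lgr Lrot107 (Lpr_cf (K28.f464368 IH) (Lpr_af (K5.f122024 IH) (Lpe (K28.f94600 IH) (Lpn (LP (LK LD1_c6 LD2_c53 LD3_c12))))))
theorem f464388 : Led Lsl_gf (LP (LK LD1_c7 LD2_c4 LD3_c12)) = (LP (LK LD1_c3 LD2_c40 LD3_c58)) :=
  Lgr Lrot47 (Lpe (K28.f464315 IH) (Lpe (f464370 IH) (Lpr_ff (K28.f464382 IH) (Lpn (LP (LK LD1_c3 LD2_c40 LD3_c58))))))
theorem f654699 : Led Lsl_at (LP (LK LD1_c3 LD2_c31 LD3_c14)) = (LP (LK LD1_c7 LD2_c4 LD3_c12)) :=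
  Lgr Lrot26 (Lpr_ff (f654693 IH) (Lpr_gt (f466190 IH) (Lpe (f464388 IH) (Lpn (LP (LK LD1_c7 LD2_c4 LD3_c12))))))
theorem f654678 : Led Lsl_ff (LP (LK LD1_c3 LD2_c31 LD3_c18)) = (LP (LK LD1_c7 LD2_c4 LD3_c12)) :=
  Lgr Lrot23 (Lpr_ct (K28.f455580 IH) (Lpr_ft (f514608 IH) (Lpq (f654671 IH) (Lpr_ct (K28.f18740 IH) (Lpn (LP (LK LD1_c7 LD2_c4 LD3_c12)))))))
theorem f654707 : Led Lsl_af (LP (LK LD1_c7 LD2_c4 LD3_c13)) = (LP (LK LD1_c3 LD2_c31 LD3_c18)) :=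
  Lgr Lrot45 (Lpe (f654693 IH) (Lpr_at (f654699 IH) (Lpe (f654678 IH) (Lpn (LP (LK LD1_c3 LD2_c31 LD3_c18))))))
theorem f466194 : Led Lsl_dt (LP (LK LD1_c7 LD2_c4 LD3_c13)) = (LP (LK LD1_c13 LD2_c24 LD3_c14)) :=
  Lre_d IH (LK LD1_c7 LD2_c4 LD3_c13) (LK LD1_c13 LD2_c24 LD3_c14) Lrfl Lrfl
theorem f466227 : Led Lsl_dt (LP (LK LD1_c7 LD2_c4 LD3_c21)) = (LP (LK LD1_c3 LD2_c31 LD3_c18)) :=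
  Lre_d IH (LK LD1_c7 LD2_c4 LD3_c21) (LK LD1_c3 LD2_c31 LD3_c18) Lrfl Lrfl
theorem f654711 : Led Lsl_at (LP (LK LD1_c13 LD2_c24 LD3_c14)) = (LP (LK LD1_c7 LD2_c4 LD3_c21)) :=
  Lgr Lrot51 (Lpe (f466194 IH) (Lpr_af (f654707 IH) (Lpe (f466227 IH) (Lpn (LP (LK LD1_c7 LD2_c4 LD3_c21))))))
theorem f464097 : Led Lsl_dt (LP (LK LD1_c3 LD2_c31 LD3_c14)) = (LP (LK LD1_c7 LD2_c4 LD3_c17)) :=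
  Lre_d IH (LK LD1_c3 LD2_c31 LD3_c14) (LK LD1_c7 LD2_c4 LD3_c17) Lrfl Lrfl
theorem f460831 : Led Lsl_dt (LP (LK LD1_c13 LD2_c24 LD3_c14)) = (LP (LK LD1_c7 LD2_c4 LD3_c13)) :=
  Lre_d IH (LK LD1_c13 LD2_c24 LD3_c14) (LK LD1_c7 LD2_c4 LD3_c13) Lrfl Lrfl
theorem f654695 : Led Lsl_ft (LP (LK LD1_c7 LD2_c4 LD3_c17)) = (LP (LK LD1_c13 LD2_c24 LD3_c14)) :=
  Lgr Lrot54 (Lpe (f464097 IH) (Lpr_ff (f654693 IH) (Lpe (f460831 IH) (Lpn (LP (LK LD1_c13 LD2_c24 LD3_c14))))))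
theorem f464099 : Led Lsl_dt (LP (LK LD1_c7 LD2_c4 LD3_c17)) = (LP (LK LD1_c3 LD2_c31 LD3_c14)) :=
  Lre_d IH (LK LD1_c7 LD2_c4 LD3_c17) (LK LD1_c3 LD2_c31 LD3_c14) Lrfl Lrfl
theorem f92012 : Led Lsl_dt (LP (LK LD1_c7 LD2_c4 LD3_c12)) = (LP (LK LD1_c13 LD2_c24 LD3_c13)) :=
  Lre_d IH (LK LD1_c7 LD2_c4 LD3_c12) (LK LD1_c13 LD2_c24 LD3_c13) Lrfl Lrfl
theorem f654703 : Led Lsl_af (LP (LK LD1_c7 LD2_c4 LD3_c17)) = (LP (LK LD1_c13 LD2_c24 LD3_c13)) :=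
  Lgr Lrot117 (Lpr_dt (f464099 IH) (Lpr_at (f654699 IH) (Lpr_dt (f92012 IH) (Lpn (LP (LK LD1_c13 LD2_c24 LD3_c13))))))
theorem f654715 : Led Lsl_ff (LP (LK LD1_c13 LD2_c24 LD3_c13)) = (LP (LK LD1_c7 LD2_c4 LD3_c21)) :=
  Lgr Lrot30 (Lpe (f654703 IH) (Lpr_ft (f654695 IH) (Lpr_at (f654711 IH) (Lpn (LP (LK LD1_c7 LD2_c4 LD3_c21))))))
theorem f654724 : Led Lsl_ft (LP (LK LD1_c13 LD2_c24 LD3_c13)) = (LP (LK LD1_c7 LD2_c4 LD3_c21)) :=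
  Lgr Lrot48 (Lpr_ff (f654715 IH) (Lpn (LP (LK LD1_c7 LD2_c4 LD3_c21))))
theorem f654734 : Led Lsl_ff (LP (LK LD1_c7 LD2_c4 LD3_c12)) = (LP (LK LD1_c3 LD2_c31 LD3_c18)) :=
  Lgr Lrot19 (Lpr_dt (f92012 IH) (Lpr_ft (f654724 IH) (Lpr_dt (f466227 IH) (Lpn (LP (LK LD1_c3 LD2_c31 LD3_c18))))))
theorem f654738 : Led Lsl_ft (LP (LK LD1_c13 LD2_c17 LD3_c30)) = (LP (LK LD1_c7 LD2_c4 LD3_c20)) :=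
  Lgr Lrot75 (Lpr_bf (K28.f463952 IH) (Lpr_ff (f654734 IH) (Lpe (K28.f466200 IH) (Lpn (LP (LK LD1_c7 LD2_c4 LD3_c20))))))
theorem f654744 : Led Lsl_af (LP (LK LD1_c13 LD2_c17 LD3_c31)) = (LP (LK LD1_c7 LD2_c4 LD3_c20)) :=
  Lgr Lrot31 (Lpr_gf (K39.f111473 IH) (Lpr_gf (K34.f461001 IH) (Lpr_ft (f654738 IH) (Lpn (LP (LK LD1_c7 LD2_c4 LD3_c20))))))
theorem f489374 : Led Lsl_at (LP (LK LD1_c13 LD2_c56 LD3_c46)) = (LP (LK LD1_c7 LD2_c22 LD3_c30)) :=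
  Lre_a IH (LK LD1_c13 LD2_c56 LD3_c46) (LK LD1_c7 LD2_c22 LD3_c30) Lrfl Lrfl
theorem f654748 : Led Lsl_ct (LP (LK LD1_c13 LD2_c17 LD3_c31)) = (LP (LK LD1_c13 LD2_c56 LD3_c46)) :=
  Lgr Lrot111 (Lpr_af (f654744 IH) (Lpr_cf (K28.f466202 IH) (Lpe (f489374 IH) (Lpn (LP (LK LD1_c13 LD2_c56 LD3_c46))))))
theorem f654860 : Led Lsl_cf (LP (LK LD1_c13 LD2_c17 LD3_c31)) = (LP (LK LD1_c13 LD2_c56 LD3_c46)) :=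
  Lgr Lrot11 (Lpr_ct (f654748 IH) (Lpn (LP (LK LD1_c13 LD2_c56 LD3_c46))))
theorem f654866 : Led Lsl_bf (LP (LK LD1_c13 LD2_c25 LD3_c18)) = (LP (LK LD1_c13 LD2_c56 LD3_c46)) :=
  Lgr Lrot34 (Lpe (K43.f459190 IH) (Lpe (K28.f459189 IH) (Lpr_ct (K28.f459188 IH) (Lpr_gf (K28.f459182 IH) (Lpe (K24.f455641 IH) (Lpr_gf (K28.f469128 IH) (Lpe (K28.f116444 IH) (Lpr_ct (K28.f116470 IH) (Lpe (K39.f64824 IH) (Lpr_cf (f654860 IH) (Lpn (LP (LK LD1_c13 LD2_c56 LD3_c46)))))))))))))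
theorem f654868 : Led Lsl_bt (LP (LK LD1_c13 LD2_c25 LD3_c18)) = (LP (LK LD1_c13 LD2_c56 LD3_c46)) :=
  Lgr Lrot127 (Lpr_bf (f654866 IH) (Lpn (LP (LK LD1_c13 LD2_c56 LD3_c46))))
theorem f111127 : Led Lsl_et (LP (LK LD1_c12 LD2_c34 LD3_c52)) = (LP (LK LD1_c6 LD2_c34 LD3_c6)) :=
  Lre_e IH (LK LD1_c12 LD2_c34 LD3_c52) (LK LD1_c6 LD2_c34 LD3_c6) Lrfl Lrfl
theorem f111142 : Led Lsl_et (LP (LK LD1_c3 LD2_c29 LD3_c49)) = (LP (LK LD1_c7 LD2_c1 LD3_c14)) :=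
  Lre_e IH (LK LD1_c3 LD2_c29 LD3_c49) (LK LD1_c7 LD2_c1 LD3_c14) Lrfl Lrfl
theorem f111143 : Led Lsl_af (LP (LK LD1_c12 LD2_c34 LD3_c52)) = (LP (LK LD1_c7 LD2_c1 LD3_c14)) :=
  Lgr Lrot50 (Lpr_et (f111127 IH) (Lpr_at (K4.f111136 IH) (Lpr_et (f111142 IH) (Lpn (LP (LK LD1_c7 LD2_c1 LD3_c14))))))
theorem f441298 : Led Lsl_gf (LP (LK LD1_c21 LD2_c41 LD3_c14)) = (LP (LK LD1_c13 LD2_c19 LD3_c3)) :=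
  Lgr Lrot47 (Lpr_gt (K43.f111247 IH) (Lpr_af (f111143 IH) (Lpe (K34.f111152 IH) (Lpn (LP (LK LD1_c13 LD2_c19 LD3_c3))))))
theorem f533189 : Led Lsl_at (LP (LK LD1_c14 LD2_c6 LD3_c23)) = (LP (LK LD1_c13 LD2_c55 LD3_c55)) :=
  Lgr Lrot66 (Lpr_ff (K34.f533187 IH) (Lpr_af (K4.f108917 IH) (Lpr_ff (K34.f532969 IH) (Lpn (LP (LK LD1_c13 LD2_c55 LD3_c55))))))
theorem f533199 : Led Lsl_gf (LP (LK LD1_c7 LD2_c22 LD3_c1)) = (LP (LK LD1_c13 LD2_c6 LD3_c20)) :=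
  Lgr Lrot47 (Lpr_gt (K34.f142428 IH) (Lpe (f533189 IH) (Lpr_ff (K34.f533187 IH) (Lpn (LP (LK LD1_c13 LD2_c6 LD3_c20))))))
theorem f473466 : Led Lsl_cf (LP (LK LD1_c7 LD2_c22 LD3_c1)) = (LP (LK LD1_c7 LD2_c32 LD3_c15)) :=
  Lgr Lrot97 (Lpr_bt (K28.f439423 IH) (Lpr_ct (K33.f473464 IH) (Lpe (K33.f473456 IH) (Lpr_ct (K28.f15811 IH) (Lpe (K28.f460719 IH) (Lpn (LP (LK LD1_c7 LD2_c32 LD3_c15))))))))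
theorem f460846 : Led Lsl_bt (LP (LK LD1_c7 LD2_c32 LD3_c15)) = (LP (LK LD1_c6 LD2_c51 LD3_c38)) :=
  Lgr Lrot127 (Lpr_bf (K28.f460719 IH) (Lpn (LP (LK LD1_c6 LD2_c51 LD3_c38))))
theorem f458364 : Led Lsl_bt (LP (LK LD1_c3 LD2_c24 LD3_c46)) = (LP (LK LD1_c6 LD2_c51 LD3_c61)) :=
  Lre_b IH (LK LD1_c3 LD2_c24 LD3_c46) (LK LD1_c6 LD2_c51 LD3_c61) Lrfl Lrfl
theorem f533201 : Led Lsl_gt (LP (LK LD1_c6 LD2_c51 LD3_c61)) = (LP (LK LD1_c7 LD2_c30 LD3_c44)) :=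
  Lgr Lrot164 (Lpe (f458364 IH) (Lpr_ct (K28.f458366 IH) (Lpe (K28.f463586 IH) (Lpr_cf (K28.f464258 IH) (Lpe (K28.f15812 IH) (Lpe (f460846 IH) (Lpe (f473466 IH) (Lpr_gf (f533199 IH) (Lpe (K34.f97690 IH) (Lpr_bt (K24.f97688 IH) (Lpn (LP (LK LD1_c7 LD2_c30 LD3_c44)))))))))))))
theorem f458373 : Led Lsl_gt (LP (LK LD1_c13 LD2_c3 LD3_c32)) = (LP (LK LD1_c6 LD2_c51 LD3_c61)) :=
  Lre_g IH (LK LD1_c13 LD2_c3 LD3_c32) (LK LD1_c6 LD2_c51 LD3_c61) Lrfl Lrfl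
theorem f111294 : Led Lsl_af (LP (LK LD1_c7 LD2_c30 LD3_c44)) = (LP (LK LD1_c7 LD2_c31 LD3_c15)) :=
  Lgr Lrot36 (Lpr_bt (K34.f97695 IH) (Lpr_at (K4.f111290 IH) (Lpr_bt (K34.f111265 IH) (Lpe (K7.f111260 IH) (Lpe (K34.f111172 IH) (Lpn (LP (LK LD1_c7 LD2_c31 LD3_c15))))))))
theorem f533205 : Led Lsl_ft (LP (LK LD1_c13 LD2_c3 LD3_c32)) = (LP (LK LD1_c7 LD2_c31 LD3_c15)) :=
  Lgr Lrot2 (Lpr_gt (f458373 IH) (Lpr_gt (f533201 IH) (Lpr_af (f111294 IH) (Lpn (LP (LK LD1_c7 LD2_c31 LD3_c15))))))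
theorem f533212 : Led Lsl_bf (LP (LK LD1_c13 LD2_c3 LD3_c32)) = (LP (LK LD1_c13 LD2_c19 LD3_c3)) :=
  Lgr Lrot61 (Lpr_ft (f533205 IH) (Lpr_bt (K4.f111169 IH) (Lpr_ft (K34.f111159 IH) (Lpn (LP (LK LD1_c13 LD2_c19 LD3_c3))))))
theorem f121934 : Led Lsl_bt (LP (LK LD1_c3 LD2_c25 LD3_c36)) = (LP (LK LD1_c6 LD2_c53 LD3_c8)) :=
  Lre_b IH (LK LD1_c3 LD2_c25 LD3_c36) (LK LD1_c6 LD2_c53 LD3_c8) Lrfl Lrfl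
theorem f162861 : Led Lsl_gt (LP (LK LD1_c6 LD2_c53 LD3_c8)) = (LP (LK LD1_c13 LD2_c5 LD3_c15)) :=
  Lre_g IH (LK LD1_c6 LD2_c53 LD3_c8) (LK LD1_c13 LD2_c5 LD3_c15) Lrfl Lrfl
theorem f420083 : Led Lsl_ct (LP (LK LD1_c13 LD2_c5 LD3_c15)) = (LP (LK LD1_c22 LD2_c15 LD3_c57)) :=
  Lre_c IH (LK LD1_c13 LD2_c5 LD3_c15) (LK LD1_c22 LD2_c15 LD3_c57) Lrfl Lrfl
theorem f111263 : Led Lsl_ct (LP (LK LD1_c13 LD2_c19 LD3_c3)) = (LP (LK LD1_c22 LD2_c35 LD3_c23)) :=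
  Lre_c IH (LK LD1_c13 LD2_c19 LD3_c3) (LK LD1_c22 LD2_c35 LD3_c23) Lrfl Lrfl
theorem f533242 : Led Lsl_gt (LP (LK LD1_c22 LD2_c15 LD3_c57)) = (LP (LK LD1_c22 LD2_c35 LD3_c23)) :=
  Lgr Lrot149 (Lpe (f420083 IH) (Lpe (f162861 IH) (Lpe (f121934 IH) (Lpr_ct (K28.f420077 IH) (Lpr_gf (K28.f463584 IH) (Lpe (K28.f458366 IH) (Lpr_bt (f458364 IH) (Lpe (f458373 IH) (Lpr_bf (f533212 IH) (Lpr_ct (f111263 IH) (Lpn (LP (LK LD1_c22 LD2_c35 LD3_c23)))))))))))))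
theorem f420084 : Led Lsl_ct (LP (LK LD1_c22 LD2_c15 LD3_c57)) = (LP (LK LD1_c13 LD2_c5 LD3_c15)) :=
  Lre_c IH (LK LD1_c22 LD2_c15 LD3_c57) (LK LD1_c13 LD2_c5 LD3_c15) Lrfl Lrfl
theorem f463448 : Led Lsl_bt (LP (LK LD1_c22 LD2_c15 LD3_c57)) = (LP (LK LD1_c14 LD2_c6 LD3_c43)) :=
  Lgr Lrot130 (Lpr_ct (f420084 IH) (Lpe (f162861 IH) (Lpr_cf (K28.f420071 IH) (Lpr_bt (K39.f122357 IH) (Lpe (K28.f159497 IH) (Lpe (K28.f420085 IH) (Lpr_ct (K28.f463397 IH) (Lpe (K28.f463446 IH) (Lpr_cf (K24.f123772 IH) (Lpe (K28.f123802 IH) (Lpn (LP (LK LD1_c14 LD2_c6 LD3_c43)))))))))))))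
theorem f463450 : Led Lsl_bf (LP (LK LD1_c22 LD2_c15 LD3_c57)) = (LP (LK LD1_c14 LD2_c6 LD3_c43)) :=
  Lgr Lrot24 (Lpr_bt (f463448 IH) (Lpn (LP (LK LD1_c14 LD2_c6 LD3_c43))))
theorem f463463 : Led Lsl_ct (LP (LK LD1_c14 LD2_c6 LD3_c43)) = (LP (LK LD1_c22 LD2_c29 LD3_c46)) :=
  Lgr Lrot59 (Lpr_cf (K28.f463460 IH) (Lpn (LP (LK LD1_c22 LD2_c29 LD3_c46))))
theorem f533782 : Led Lsl_df (LP (LK LD1_c24 LD2_c32 LD3_c25)) = (LP (LK LD1_c31 LD2_c12 LD3_c57)) :=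
  Lgr Lrot38 (Lpr_dt (K41.f533780 IH) (Lpn (LP (LK LD1_c31 LD2_c12 LD3_c57))))
theorem f144705 : Led Lsl_ct (LP (LK LD1_c24 LD2_c32 LD3_c25)) = (LP (LK LD1_c14 LD2_c46 LD3_c13)) :=
  Lre_c IH (LK LD1_c24 LD2_c32 LD3_c25) (LK LD1_c14 LD2_c46 LD3_c13) Lrfl Lrfl
theorem f144702 : Led Lsl_et (LP (LK LD1_c14 LD2_c46 LD3_c13)) = (LP (LK LD1_c7 LD2_c49 LD3_c45)) :=
  Lre_e IH (LK LD1_c14 LD2_c46 LD3_c13) (LK LD1_c7 LD2_c49 LD3_c45) Lrfl Lrfl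
theorem f123746 : Led Lsl_gt (LP (LK LD1_c23 LD2_c40 LD3_c49)) = (LP (LK LD1_c14 LD2_c6 LD3_c45)) :=
  Lre_g IH (LK LD1_c23 LD2_c40 LD3_c49) (LK LD1_c14 LD2_c6 LD3_c45) Lrfl Lrfl
theorem f144703 : Led Lsl_dt (LP (LK LD1_c14 LD2_c46 LD3_c13)) = (LP (LK LD1_c23 LD2_c40 LD3_c49)) :=
  Lgr Lrot136 (Lpr_et (f144702 IH) (Lpe (K41.f95872 IH) (Lpe (K5.f126462 IH) (Lpe (K5.f124038 IH) (Lpr_gf (K7.f144691 IH) (Lpe (K7.f116528 IH) (Lpe (K7.f144698 IH) (Lpe (K8.f123680 IH) (Lpr_dt (K8.f123681 IH) (Lpe (f123746 IH) (Lpn (LP (LK LD1_c23 LD2_c40 LD3_c49)))))))))))))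
theorem f144707 : Led Lsl_df (LP (LK LD1_c14 LD2_c46 LD3_c13)) = (LP (LK LD1_c23 LD2_c40 LD3_c49)) :=
  Lgr Lrot38 (Lpr_dt (f144703 IH) (Lpn (LP (LK LD1_c23 LD2_c40 LD3_c49))))
theorem f533789 : Led Lsl_gt (LP (LK LD1_c22 LD2_c29 LD3_c46)) = (LP (LK LD1_c23 LD2_c26 LD3_c50)) :=
  Lgr Lrot94 (Lpe (f463463 IH) (Lpr_gt (K28.f123802 IH) (Lpr_dt (K34.f123740 IH) (Lpr_gt (K34.f144714 IH) (Lpe (f144707 IH) (Lpe (f144705 IH) (Lpr_df (f533782 IH) (Lpr_gf (K41.f532973 IH) (Lpe (K39.f473495 IH) (Lpn (LP (LK LD1_c23 LD2_c26 LD3_c50))))))))))))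
theorem f533181 : Led Lsl_ff (LP (LK LD1_c22 LD2_c40 LD3_c4)) = (LP (LK LD1_c14 LD2_c10 LD3_c57)) :=
  Lgr Lrot23 (Lpr_ct (K37.f468926 IH) (Lpr_ft (K34.f533159 IH) (Lpe (K4.f97684 IH) (Lpn (LP (LK LD1_c14 LD2_c10 LD3_c57))))))
theorem f533995 : Led Lsl_gf (LP (LK LD1_c22 LD2_c29 LD3_c46)) = (LP (LK LD1_c14 LD2_c10 LD3_c57)) :=
  Lgr Lrot47 (Lpr_gt (f533789 IH) (Lpr_af (K39.f533983 IH) (Lpr_ff (f533181 IH) (Lpn (LP (LK LD1_c14 LD2_c10 LD3_c57))))))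
theorem f654877 : Led Lsl_gf (LP (LK LD1_c14 LD2_c5 LD3_c2)) = (LP (LK LD1_c13 LD2_c56 LD3_c46)) :=
  Lgr Lrot124 (Lpr_bf (K34.f108968 IH) (Lpe (K4.f97684 IH) (Lpe (f533995 IH) (Lpe (f463463 IH) (Lpe (f463450 IH) (Lpr_gt (f533242 IH) (Lpr_ct (K35.f111270 IH) (Lpe (f441298 IH) (Lpe (K43.f533330 IH) (Lpr_bt (f654868 IH) (Lpn (LP (LK LD1_c13 LD2_c56 LD3_c46)))))))))))))
theorem f464340 : Led Lsl_at (LP (LK LD1_c14 LD2_c5 LD3_c36)) = (LP (LK LD1_c7 LD2_c27 LD3_c55)) :=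
  Lre_a IH (LK LD1_c14 LD2_c5 LD3_c36) (LK LD1_c7 LD2_c27 LD3_c55) Lrfl Lrfl
theorem f654879 : Led Lsl_ff (LP (LK LD1_c14 LD2_c5 LD3_c36)) = (LP (LK LD1_c13 LD2_c56 LD3_c46)) :=
  Lgr Lrot52 (Lpr_at (f464340 IH) (Lpe (K34.f532947 IH) (Lpr_gf (f654877 IH) (Lpn (LP (LK LD1_c13 LD2_c56 LD3_c46))))))
theorem f654886 : Led Lsl_ft (LP (LK LD1_c14 LD2_c5 LD3_c36)) = (LP (LK LD1_c13 LD2_c56 LD3_c46)) :=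
  Lgr Lrot48 (Lpr_ff (f654879 IH) (Lpn (LP (LK LD1_c13 LD2_c56 LD3_c46))))
theorem f654891 : Led Lsl_gt (LP (LK LD1_c14 LD2_c5 LD3_c36)) = (LP (LK LD1_c13 LD2_c56 LD3_c45)) :=
  Lgr Lrot5 (Lpr_ft (f654886 IH) (Lpr_at (f489374 IH) (Lpe (K34.f466258 IH) (Lpn (LP (LK LD1_c13 LD2_c56 LD3_c45))))))
theorem f534058 : Led Lsl_gf (LP (LK LD1_c22 LD2_c11 LD3_c6)) = (LP (LK LD1_c13 LD2_c20 LD3_c10)) :=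
  Lgr Lrot124 (Lpr_bf (K39.f534054 IH) (Lpr_ct (K37.f489376 IH) (Lpr_gt (K34.f466258 IH) (Lpe (K34.f489368 IH) (Lpr_bt (K28.f466200 IH) (Lpe (K28.f466223 IH) (Lpr_ct (K2.f94596 IH) (Lpr_gt (K28.f463580 IH) (Lpe (K39.f457435 IH) (Lpr_bt (K39.f90923 IH) (Lpn (LP (LK LD1_c13 LD2_c20 LD3_c10)))))))))))))
theorem f91897 : Led Lsl_bt (LP (LK LD1_c22 LD2_c36 LD3_c41)) = (LP (LK LD1_c13 LD2_c20 LD3_c11)) :=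
  Lre_b IH (LK LD1_c22 LD2_c36 LD3_c41) (LK LD1_c13 LD2_c20 LD3_c11) Lrfl Lrfl
theorem f481741 : Led Lsl_bt (LP (LK LD1_c7 LD2_c2 LD3_c0)) = (LP (LK LD1_c13 LD2_c20 LD3_c25)) :=
  Lre_b IH (LK LD1_c7 LD2_c2 LD3_c0) (LK LD1_c13 LD2_c20 LD3_c25) Lrfl Lrfl
theorem f512180 : Led Lsl_ff (LP (LK LD1_c22 LD2_c36 LD3_c41)) = (LP (LK LD1_c13 LD2_c20 LD3_c25)) :=
  Lgr Lrot25 (Lpr_bt (f91897 IH) (Lpr_ft (K33.f512176 IH) (Lpr_bt (f481741 IH) (Lpn (LP (LK LD1_c13 LD2_c20 LD3_c25))))))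
theorem f91896 : Led Lsl_dt (LP (LK LD1_c22 LD2_c36 LD3_c41)) = (LP (LK LD1_c13 LD2_c20 LD3_c10)) :=
  Lre_d IH (LK LD1_c22 LD2_c36 LD3_c41) (LK LD1_c13 LD2_c20 LD3_c10) Lrfl Lrfl
theorem f514508 : Led Lsl_dt (LP (LK LD1_c7 LD2_c1 LD3_c61)) = (LP (LK LD1_c13 LD2_c20 LD3_c25)) :=
  Lre_d IH (LK LD1_c7 LD2_c1 LD3_c61) (LK LD1_c13 LD2_c20 LD3_c25) Lrfl Lrfl
theorem f514509 : Led Lsl_ft (LP (LK LD1_c13 LD2_c20 LD3_c10)) = (LP (LK LD1_c7 LD2_c1 LD3_c61)) :=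
  Lgr Lrot54 (Lpe (f91896 IH) (Lpr_ff (f512180 IH) (Lpe (f514508 IH) (Lpn (LP (LK LD1_c7 LD2_c1 LD3_c61))))))
theorem f512128 : Led Lsl_at (LP (LK LD1_c7 LD2_c1 LD3_c61)) = (LP (LK LD1_c13 LD2_c20 LD3_c24)) :=
  Lre_a IH (LK LD1_c7 LD2_c1 LD3_c61) (LK LD1_c13 LD2_c20 LD3_c24) Lrfl Lrfl
theorem f534060 : Led Lsl_gt (LP (LK LD1_c22 LD2_c11 LD3_c6)) = (LP (LK LD1_c13 LD2_c20 LD3_c24)) :=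
  Lgr Lrot46 (Lpr_gf (f534058 IH) (Lpr_ft (f514509 IH) (Lpr_at (f512128 IH) (Lpn (LP (LK LD1_c13 LD2_c20 LD3_c24))))))
theorem f512126 : Led Lsl_af (LP (LK LD1_c7 LD2_c1 LD3_c54)) = (LP (LK LD1_c3 LD2_c30 LD3_c9)) :=
  Lgr Lrot0 (Lpr_at (K33.f512124 IH) (Lpn (LP (LK LD1_c3 LD2_c30 LD3_c9))))
theorem f18704 : Led Lsl_bt (LP (LK LD1_c7 LD2_c1 LD3_c61)) = (LP (LK LD1_c3 LD2_c30 LD3_c9)) :=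
  Lre_b IH (LK LD1_c7 LD2_c1 LD3_c61) (LK LD1_c3 LD2_c30 LD3_c9) Lrfl Lrfl
theorem f514516 : Led Lsl_at (LP (LK LD1_c13 LD2_c20 LD3_c24)) = (LP (LK LD1_c7 LD2_c1 LD3_c61)) :=
  Lre_a IH (LK LD1_c13 LD2_c20 LD3_c24) (LK LD1_c7 LD2_c1 LD3_c61) Lrfl Lrfl
theorem f564357 : Led Lsl_bf (LP (LK LD1_c13 LD2_c20 LD3_c24)) = (LP (LK LD1_c22 LD2_c36 LD3_c28)) :=
  Lgr Lrot81 (Lpr_at (f514516 IH) (Lpr_bt (f18704 IH) (Lpe (f512126 IH) (Lpr_bt (K33.f463909 IH) (Lpr_at (K41.f564353 IH) (Lpn (LP (LK LD1_c22 LD2_c36 LD3_c28))))))))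
theorem f464565 : Led Lsl_cf (LP (LK LD1_c13 LD2_c20 LD3_c12)) = (LP (LK LD1_c7 LD2_c5 LD3_c45)) :=
  Lgr Lrot97 (Lpr_bt (K33.f18731 IH) (Lpe (K28.f463894 IH) (Lpe (K28.f464317 IH) (Lpr_ct (K28.f464562 IH) (Lpr_bt (K33.f464564 IH) (Lpn (LP (LK LD1_c7 LD2_c5 LD3_c45))))))))
theorem f564359 : Led Lsl_cf (LP (LK LD1_c13 LD2_c26 LD3_c53)) = (LP (LK LD1_c22 LD2_c36 LD3_c28)) :=
  Lgr Lrot1 (Lpr_at (K34.f466515 IH) (Lpe (f464565 IH) (Lpr_at (K41.f564353 IH) (Lpn (LP (LK LD1_c22 LD2_c36 LD3_c28))))))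
theorem f654897 : Led Lsl_cf (LP (LK LD1_c14 LD2_c5 LD3_c36)) = (LP (LK LD1_c13 LD2_c6 LD3_c37)) :=
  Lgr Lrot125 (Lpr_gt (f654891 IH) (Lpe (K37.f489376 IH) (Lpe (K39.f534054 IH) (Lpr_gt (f534060 IH) (Lpr_bf (f564357 IH) (Lpe (f564359 IH) (Lpr_gt (K37.f514039 IH) (Lpe (K28.f92461 IH) (Lpr_bt (K28.f111468 IH) (Lpr_gt (K33.f116475 IH) (Lpn (LP (LK LD1_c13 LD2_c6 LD3_c37)))))))))))))
theorem f654901 : Led Lsl_ct (LP (LK LD1_c14 LD2_c5 LD3_c36)) = (LP (LK LD1_c13 LD2_c6 LD3_c37)) :=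
  Lgr Lrot59 (Lpr_cf (f654897 IH) (Lpn (LP (LK LD1_c13 LD2_c6 LD3_c37))))
theorem f469173 : Led Lsl_ft (LP (LK LD1_c7 LD2_c4 LD3_c57)) = (LP (LK LD1_c3 LD2_c44 LD3_c3)) :=
  Lgr Lrot75 (Lpe (K37.f469172 IH) (Lpr_ff (K28.f469168 IH) (Lpe (K4.f116148 IH) (Lpn (LP (LK LD1_c3 LD2_c44 LD3_c3))))))
theorem f470284 : Led Lsl_gt (LP (LK LD1_c13 LD2_c25 LD3_c29)) = (LP (LK LD1_c7 LD2_c28 LD3_c54)) :=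
  Lgr Lrot46 (Lpe (K39.f469263 IH) (Lpr_ft (f469173 IH) (Lpr_at (K28.f116157 IH) (Lpn (LP (LK LD1_c7 LD2_c28 LD3_c54))))))
theorem f419635 : Led Lsl_ft (LP (LK LD1_c14 LD2_c16 LD3_c0)) = (LP (LK LD1_c7 LD2_c33 LD3_c58)) :=
  Lre_f IH (LK LD1_c14 LD2_c16 LD3_c0) (LK LD1_c7 LD2_c33 LD3_c58) Lrfl Lrfl
theorem f419636 : Led Lsl_gt (LP (LK LD1_c14 LD2_c16 LD3_c0)) = (LP (LK LD1_c13 LD2_c5 LD3_c16)) :=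
  Lgr Lrot5 (Lpr_ft (f419635 IH) (Lpr_at (K28.f419624 IH) (Lpe (K39.f122295 IH) (Lpn (LP (LK LD1_c13 LD2_c5 LD3_c16))))))
theorem f468169 : Led Lsl_ct (LP (LK LD1_c13 LD2_c25 LD3_c19)) = (LP (LK LD1_c14 LD2_c16 LD3_c0)) :=
  Lgr Lrot40 (Lpr_ff (K28.f468151 IH) (Lpe (K28.f420068 IH) (Lpe (f419635 IH) (Lpn (LP (LK LD1_c14 LD2_c16 LD3_c0))))))
theorem f654917 : Led Lsl_bt (LP (LK LD1_c14 LD2_c5 LD3_c36)) = (LP (LK LD1_c7 LD2_c28 LD3_c13)) :=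
  Lgr Lrot130 (Lpr_ct (f654901 IH) (Lpe (K33.f116475 IH) (Lpe (K33.f116445 IH) (Lpr_bt (K28.f116282 IH) (Lpe (f470284 IH) (Lpr_bf (K39.f470255 IH) (Lpr_ct (K39.f419643 IH) (Lpe (f419636 IH) (Lpe (f468169 IH) (Lpr_gf (K35.f488315 IH) (Lpn (LP (LK LD1_c7 LD2_c28 LD3_c13)))))))))))))
theorem f654921 : Led Lsl_ff (LP (LK LD1_c13 LD2_c25 LD3_c18)) = (LP (LK LD1_c7 LD2_c28 LD3_c13)) :=
  Lgr Lrot25 (Lpr_bt (f654868 IH) (Lpe (f654879 IH) (Lpr_bt (f654917 IH) (Lpn (LP (LK LD1_c7 LD2_c28 LD3_c13))))))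
theorem f489903 : Led Lsl_gt (LP (LK LD1_c7 LD2_c27 LD3_c58)) = (LP (LK LD1_c3 LD2_c43 LD3_c49)) :=
  Lgr Lrot82 (Lpe (K35.f463564 IH) (Lpr_ct (K35.f463567 IH) (Lpe (K34.f116051 IH) (Lpe (K24.f130742 IH) (Lpr_bt (K24.f123789 IH) (Lpe (K28.f123802 IH) (Lpe (f463448 IH) (Lpr_ct (f420084 IH) (Lpe (f162861 IH) (Lpr_cf (K28.f420071 IH) (Lpn (LP (LK LD1_c3 LD2_c43 LD3_c49)))))))))))))
theorem f489905 : Led Lsl_gf (LP (LK LD1_c7 LD2_c27 LD3_c58)) = (LP (LK LD1_c13 LD2_c25 LD3_c19)) :=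
  Lgr Lrot47 (Lpr_gt (f489903 IH) (Lpe (K28.f122358 IH) (Lpe (K28.f468174 IH) (Lpn (LP (LK LD1_c13 LD2_c25 LD3_c19))))))
theorem f654929 : Led Lsl_at (LP (LK LD1_c13 LD2_c25 LD3_c18)) = (LP (LK LD1_c7 LD2_c27 LD3_c58)) :=
  Lgr Lrot26 (Lpr_ff (f654921 IH) (Lpe (K35.f488315 IH) (Lpe (f489905 IH) (Lpn (LP (LK LD1_c7 LD2_c27 LD3_c58))))))
theorem f488319 : Led Lsl_dt (LP (LK LD1_c22 LD2_c44 LD3_c3)) = (LP (LK LD1_c13 LD2_c25 LD3_c18)) :=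
  Lre_d IH (LK LD1_c22 LD2_c44 LD3_c3) (LK LD1_c13 LD2_c25 LD3_c18) Lrfl Lrfl
theorem f480094 : Led Lsl_dt (LP (LK LD1_c7 LD2_c27 LD3_c58)) = (LP (LK LD1_c14 LD2_c5 LD3_c41)) :=
  Lre_d IH (LK LD1_c7 LD2_c27 LD3_c58) (LK LD1_c14 LD2_c5 LD3_c41) Lrfl Lrfl
theorem f654937 : Led Lsl_af (LP (LK LD1_c22 LD2_c44 LD3_c3)) = (LP (LK LD1_c14 LD2_c5 LD3_c41)) :=
  Lgr Lrot117 (Lpr_dt (f488319 IH) (Lpr_at (f654929 IH) (Lpr_dt (f480094 IH) (Lpn (LP (LK LD1_c14 LD2_c5 LD3_c41))))))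
theorem f468270 : Led Lsl_dt (LP (LK LD1_c13 LD2_c25 LD3_c18)) = (LP (LK LD1_c22 LD2_c44 LD3_c3)) :=
  Lre_d IH (LK LD1_c13 LD2_c25 LD3_c18) (LK LD1_c22 LD2_c44 LD3_c3) Lrfl Lrfl
theorem f654863 : Led Lsl_dt (LP (LK LD1_c23 LD2_c28 LD3_c14)) = (LP (LK LD1_c13 LD2_c56 LD3_c46)) :=
  Lre_d IH (LK LD1_c23 LD2_c28 LD3_c14) (LK LD1_c13 LD2_c56 LD3_c46) Lrfl Lrfl
theorem f654870 : Led Lsl_bt (LP (LK LD1_c22 LD2_c44 LD3_c3)) = (LP (LK LD1_c23 LD2_c28 LD3_c14)) :=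
  Lgr Lrot95 (Lpe (f468270 IH) (Lpr_bf (f654866 IH) (Lpe (f654863 IH) (Lpn (LP (LK LD1_c23 LD2_c28 LD3_c14))))))
theorem f654872 : Led Lsl_at (LP (LK LD1_c23 LD2_c28 LD3_c14)) = (LP (LK LD1_c13 LD2_c56 LD3_c47)) :=
  Lre_a IH (LK LD1_c23 LD2_c28 LD3_c14) (LK LD1_c13 LD2_c56 LD3_c47) Lrfl Lrfl
theorem f524521 : Led Lsl_bt (LP (LK LD1_c13 LD2_c56 LD3_c47)) = (LP (LK LD1_c7 LD2_c22 LD3_c31)) :=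
  Lre_b IH (LK LD1_c13 LD2_c56 LD3_c47) (LK LD1_c7 LD2_c22 LD3_c31) Lrfl Lrfl
theorem f480088 : Led Lsl_bt (LP (LK LD1_c7 LD2_c27 LD3_c59)) = (LP (LK LD1_c14 LD2_c5 LD3_c41)) :=
  Lre_b IH (LK LD1_c7 LD2_c27 LD3_c59) (LK LD1_c14 LD2_c5 LD3_c41) Lrfl Lrfl
theorem f654941 : Led Lsl_at (LP (LK LD1_c7 LD2_c22 LD3_c31)) = (LP (LK LD1_c7 LD2_c27 LD3_c59)) :=
  Lgr Lrot67 (Lpe (f524521 IH) (Lpe (f654872 IH) (Lpe (f654870 IH) (Lpr_af (f654937 IH) (Lpe (f480088 IH) (Lpn (LP (LK LD1_c7 LD2_c27 LD3_c59))))))))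
theorem f480927 : Led Lsl_et (LP (LK LD1_c13 LD2_c56 LD3_c50)) = (LP (LK LD1_c7 LD2_c22 LD3_c31)) :=
  Lre_e IH (LK LD1_c13 LD2_c56 LD3_c50) (LK LD1_c7 LD2_c22 LD3_c31) Lrfl Lrfl
theorem f209158 : Led Lsl_et (LP (LK LD1_c7 LD2_c27 LD3_c59)) = (LP (LK LD1_c14 LD2_c5 LD3_c44)) :=
  Lre_e IH (LK LD1_c7 LD2_c27 LD3_c59) (LK LD1_c14 LD2_c5 LD3_c44) Lrfl Lrfl
theorem f654947 : Led Lsl_af (LP (LK LD1_c13 LD2_c56 LD3_c50)) = (LP (LK LD1_c14 LD2_c5 LD3_c44)) :=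
  Lgr Lrot50 (Lpr_et (f480927 IH) (Lpr_at (f654941 IH) (Lpr_et (f209158 IH) (Lpn (LP (LK LD1_c14 LD2_c5 LD3_c44))))))
theorem f480959 : Led Lsl_ft (LP (LK LD1_c13 LD2_c56 LD3_c50)) = (LP (LK LD1_c23 LD2_c28 LD3_c25)) :=
  Lre_f IH (LK LD1_c13 LD2_c56 LD3_c50) (LK LD1_c23 LD2_c28 LD3_c25) Lrfl Lrfl
theorem f654957 : Led Lsl_ft (LP (LK LD1_c23 LD2_c39 LD3_c22)) = (LP (LK LD1_c14 LD2_c5 LD3_c44)) :=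
  Lre_f IH (LK LD1_c23 LD2_c39 LD3_c22) (LK LD1_c14 LD2_c5 LD3_c44) Lrfl Lrfl
theorem f654958 : Led Lsl_at (LP (LK LD1_c23 LD2_c28 LD3_c25)) = (LP (LK LD1_c23 LD2_c39 LD3_c22)) :=
  Lgr Lrot66 (Lpe (f480959 IH) (Lpr_af (f654947 IH) (Lpe (f654957 IH) (Lpn (LP (LK LD1_c23 LD2_c39 LD3_c22))))))
theorem f437772 : Led Lsl_et (LP (LK LD1_c7 LD2_c22 LD3_c32)) = (LP (LK LD1_c3 LD2_c41 LD3_c6)) :=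
  Lre_e IH (LK LD1_c7 LD2_c22 LD3_c32) (LK LD1_c3 LD2_c41 LD3_c6) Lrfl Lrfl
theorem f480905 : Led Lsl_dt (LP (LK LD1_c1 LD2_c54 LD3_c16)) = (LP (LK LD1_c3 LD2_c55 LD3_c24)) :=
  Lre_d IH (LK LD1_c1 LD2_c54 LD3_c16) (LK LD1_c3 LD2_c55 LD3_c24) Lrfl Lrfl
theorem f480906 : Led Lsl_gt (LP (LK LD1_c3 LD2_c55 LD3_c24)) = (LP (LK LD1_c7 LD2_c52 LD3_c39)) :=
  Lre_g IH (LK LD1_c3 LD2_c55 LD3_c24) (LK LD1_c7 LD2_c52 LD3_c39) Lrfl Lrfl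
theorem f480914 : Led Lsl_dt (LP (LK LD1_c7 LD2_c22 LD3_c32)) = (LP (LK LD1_c7 LD2_c52 LD3_c39)) :=
  Lgr Lrot56 (Lpr_et (f437772 IH) (Lpr_gt (K28.f437771 IH) (Lpe (K28.f122328 IH) (Lpr_dt (K6.f116054 IH) (Lpr_gt (K6.f144155 IH) (Lpr_df (K6.f142359 IH) (Lpr_et (K5.f132168 IH) (Lpr_gt (K29.f480903 IH) (Lpr_dt (f480905 IH) (Lpr_gt (f480906 IH) (Lpn (LP (LK LD1_c7 LD2_c52 LD3_c39)))))))))))))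
theorem f466206 : Led Lsl_et (LP (LK LD1_c3 LD2_c41 LD3_c6)) = (LP (LK LD1_c7 LD2_c22 LD3_c32)) :=
  Lre_e IH (LK LD1_c3 LD2_c41 LD3_c6) (LK LD1_c7 LD2_c22 LD3_c32) Lrfl Lrfl
theorem f439146 : Led Lsl_dt (LP (LK LD1_c7 LD2_c22 LD3_c31)) = (LP (LK LD1_c3 LD2_c41 LD3_c6)) :=
  Lre_d IH (LK LD1_c7 LD2_c22 LD3_c31) (LK LD1_c3 LD2_c41 LD3_c6) Lrfl Lrfl
theorem f480928 : Led Lsl_et (LP (LK LD1_c7 LD2_c52 LD3_c39)) = (LP (LK LD1_c14 LD2_c51 LD3_c37)) :=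
  Lre_e IH (LK LD1_c7 LD2_c52 LD3_c39) (LK LD1_c14 LD2_c51 LD3_c37) Lrfl Lrfl
theorem f480929 : Led Lsl_df (LP (LK LD1_c13 LD2_c56 LD3_c50)) = (LP (LK LD1_c14 LD2_c51 LD3_c37)) :=
  Lgr Lrot70 (Lpr_et (f480927 IH) (Lpr_dt (f439146 IH) (Lpr_et (f466206 IH) (Lpr_dt (f480914 IH) (Lpr_et (f480928 IH) (Lpn (LP (LK LD1_c14 LD2_c51 LD3_c37))))))))
theorem f480960 : Led Lsl_ft (LP (LK LD1_c24 LD2_c38 LD3_c3)) = (LP (LK LD1_c14 LD2_c51 LD3_c37)) :=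
  Lre_f IH (LK LD1_c24 LD2_c38 LD3_c3) (LK LD1_c14 LD2_c51 LD3_c37) Lrfl Lrfl
theorem f480961 : Led Lsl_dt (LP (LK LD1_c23 LD2_c28 LD3_c25)) = (LP (LK LD1_c24 LD2_c38 LD3_c3)) :=
  Lgr Lrot60 (Lpe (f480959 IH) (Lpr_df (f480929 IH) (Lpe (f480960 IH) (Lpn (LP (LK LD1_c24 LD2_c38 LD3_c3))))))
theorem f480973 : Led Lsl_df (LP (LK LD1_c23 LD2_c28 LD3_c25)) = (LP (LK LD1_c24 LD2_c38 LD3_c3)) :=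
  Lgr Lrot38 (Lpr_dt (f480961 IH) (Lpn (LP (LK LD1_c24 LD2_c38 LD3_c3))))
theorem f654962 : Led Lsl_dt (LP (LK LD1_c23 LD2_c39 LD3_c22)) = (LP (LK LD1_c31 LD2_c9 LD3_c26)) :=
  Lre_d IH (LK LD1_c23 LD2_c39 LD3_c22) (LK LD1_c31 LD2_c9 LD3_c26) Lrfl Lrfl
theorem f654970 : Led Lsl_af (LP (LK LD1_c24 LD2_c38 LD3_c3)) = (LP (LK LD1_c31 LD2_c9 LD3_c26)) :=
  Lgr Lrot117 (Lpe (f480973 IH) (Lpr_at (f654958 IH) (Lpr_dt (f654962 IH) (Lpn (LP (LK LD1_c31 LD2_c9 LD3_c26))))))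
theorem f654975 : Led Lsl_at (LP (LK LD1_c24 LD2_c38 LD3_c3)) = (LP (LK LD1_c31 LD2_c9 LD3_c26)) :=
  Lgr Lrot100 (Lpr_af (f654970 IH) (Lpn (LP (LK LD1_c31 LD2_c9 LD3_c26))))
theorem f480963 : Led Lsl_ft (LP (LK LD1_c14 LD2_c51 LD3_c37)) = (LP (LK LD1_c24 LD2_c38 LD3_c3)) :=
  Lre_f IH (LK LD1_c14 LD2_c51 LD3_c37) (LK LD1_c24 LD2_c38 LD3_c3) Lrfl Lrfl
theorem f654981 : Led Lsl_ft (LP (LK LD1_c31 LD2_c9 LD3_c26)) = (LP (LK LD1_c23 LD2_c39 LD3_c21)) :=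
  Lre_f IH (LK LD1_c31 LD2_c9 LD3_c26) (LK LD1_c23 LD2_c39 LD3_c21) Lrfl Lrfl
theorem f654982 : Led Lsl_af (LP (LK LD1_c14 LD2_c51 LD3_c37)) = (LP (LK LD1_c23 LD2_c39 LD3_c21)) :=
  Lgr Lrot45 (Lpr_ft (f480963 IH) (Lpr_at (f654975 IH) (Lpr_ft (f654981 IH) (Lpn (LP (LK LD1_c23 LD2_c39 LD3_c21))))))
theorem f480939 : Led Lsl_et (LP (LK LD1_c14 LD2_c51 LD3_c37)) = (LP (LK LD1_c7 LD2_c52 LD3_c39)) :=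
  Lre_e IH (LK LD1_c14 LD2_c51 LD3_c37) (LK LD1_c7 LD2_c52 LD3_c39) Lrfl Lrfl
theorem f527128 : Led Lsl_et (LP (LK LD1_c14 LD2_c5 LD3_c45)) = (LP (LK LD1_c23 LD2_c39 LD3_c21)) :=
  Lre_e IH (LK LD1_c14 LD2_c5 LD3_c45) (LK LD1_c23 LD2_c39 LD3_c21) Lrfl Lrfl
theorem f654986 : Led Lsl_at (LP (LK LD1_c7 LD2_c52 LD3_c39)) = (LP (LK LD1_c14 LD2_c5 LD3_c45)) :=
  Lgr Lrot80 (Lpe (f480939 IH) (Lpr_af (f654982 IH) (Lpe (f527128 IH) (Lpn (LP (LK LD1_c14 LD2_c5 LD3_c45))))))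
theorem f480135 : Led Lsl_dt (LP (LK LD1_c14 LD2_c5 LD3_c45)) = (LP (LK LD1_c7 LD2_c27 LD3_c60)) :=
  Lre_d IH (LK LD1_c14 LD2_c5 LD3_c45) (LK LD1_c7 LD2_c27 LD3_c60) Lrfl Lrfl
theorem f654992 : Led Lsl_af (LP (LK LD1_c7 LD2_c22 LD3_c32)) = (LP (LK LD1_c7 LD2_c27 LD3_c60)) :=
  Lgr Lrot117 (Lpr_dt (f480914 IH) (Lpr_at (f654986 IH) (Lpr_dt (f480135 IH) (Lpn (LP (LK LD1_c7 LD2_c27 LD3_c60))))))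
theorem f463569 : Led Lsl_et (LP (LK LD1_c3 LD2_c43 LD3_c40)) = (LP (LK LD1_c7 LD2_c27 LD3_c60)) :=
  Lre_e IH (LK LD1_c3 LD2_c43 LD3_c40) (LK LD1_c7 LD2_c27 LD3_c60) Lrfl Lrfl
theorem f654996 : Led Lsl_at (LP (LK LD1_c3 LD2_c41 LD3_c6)) = (LP (LK LD1_c3 LD2_c43 LD3_c40)) :=
  Lgr Lrot80 (Lpe (f437772 IH) (Lpr_af (f654992 IH) (Lpe (f463569 IH) (Lpn (LP (LK LD1_c3 LD2_c43 LD3_c40))))))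
theorem f655016 : Led Lsl_ff (LP (LK LD1_c3 LD2_c41 LD3_c6)) = (LP (LK LD1_c3 LD2_c43 LD3_c39)) :=
  Lgr Lrot52 (Lpr_at (f654996 IH) (Lpe (K28.f209148 IH) (Lpr_gf (K28.f209165 IH) (Lpn (LP (LK LD1_c3 LD2_c43 LD3_c39))))))
theorem f655022 : Led Lsl_ft (LP (LK LD1_c3 LD2_c41 LD3_c6)) = (LP (LK LD1_c3 LD2_c43 LD3_c39)) :=
  Lgr Lrot48 (Lpr_ff (f655016 IH) (Lpn (LP (LK LD1_c3 LD2_c43 LD3_c39))))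
theorem f655026 : Led Lsl_af (LP (LK LD1_c3 LD2_c41 LD3_c5)) = (LP (LK LD1_c3 LD2_c43 LD3_c39)) :=
  Lgr Lrot31 (Lpe (K28.f122535 IH) (Lpe (K28.f437771 IH) (Lpr_ft (f655022 IH) (Lpn (LP (LK LD1_c3 LD2_c43 LD3_c39))))))
theorem f489370 : Led Lsl_at (LP (LK LD1_c7 LD2_c22 LD3_c30)) = (LP (LK LD1_c13 LD2_c56 LD3_c46)) :=
  Lre_a IH (LK LD1_c7 LD2_c22 LD3_c30) (LK LD1_c13 LD2_c56 LD3_c46) Lrfl Lrfl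
theorem f654933 : Led Lsl_af (LP (LK LD1_c3 LD2_c41 LD3_c6)) = (LP (LK LD1_c3 LD2_c43 LD3_c40)) :=
  Lgr Lrot36 (Lpr_bt (K28.f466201 IH) (Lpr_at (f489370 IH) (Lpe (f654866 IH) (Lpr_at (f654929 IH) (Lpr_bt (K35.f209156 IH) (Lpn (LP (LK LD1_c3 LD2_c43 LD3_c40))))))))
theorem f655038 : Led Lsl_ft (LP (LK LD1_c3 LD2_c41 LD3_c5)) = (LP (LK LD1_c3 LD2_c43 LD3_c40)) :=
  Lgr Lrot101 (Lpr_af (f655026 IH) (Lpe (f655022 IH) (Lpr_af (f654933 IH) (Lpn (LP (LK LD1_c3 LD2_c43 LD3_c40))))))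
theorem f655048 : Led Lsl_ff (LP (LK LD1_c3 LD2_c41 LD3_c5)) = (LP (LK LD1_c3 LD2_c43 LD3_c40)) :=
  Lgr Lrot3 (Lpr_ft (f655038 IH) (Lpn (LP (LK LD1_c3 LD2_c43 LD3_c40))))
theorem f479818 : Led Lsl_et (LP (LK LD1_c1 LD2_c54 LD3_c18)) = (LP (LK LD1_c3 LD2_c55 LD3_c27)) :=
  Lre_e IH (LK LD1_c1 LD2_c54 LD3_c18) (LK LD1_c3 LD2_c55 LD3_c27) Lrfl Lrfl
theorem f463682 : Led Lsl_dt (LP (LK LD1_c1 LD2_c54 LD3_c18)) = (LP (LK LD1_c3 LD2_c55 LD3_c26)) :=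
  Lre_d IH (LK LD1_c1 LD2_c54 LD3_c18) (LK LD1_c3 LD2_c55 LD3_c26) Lrfl Lrfl
theorem f480934 : Led Lsl_gf (LP (LK LD1_c3 LD2_c55 LD3_c26)) = (LP (LK LD1_c7 LD2_c52 LD3_c39)) :=
  Lgr Lrot145 (Lpe (f463682 IH) (Lpr_et (f479818 IH) (Lpr_gt (K32.f463668 IH) (Lpe (K33.f479829 IH) (Lpe (K33.f469914 IH) (Lpe (K28.f459284 IH) (Lpe (K29.f463324 IH) (Lpe (K28.f439138 IH) (Lpe (f437772 IH) (Lpr_dt (f480914 IH) (Lpn (LP (LK LD1_c7 LD2_c52 LD3_c39)))))))))))))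
theorem f490514 : Led Lsl_gf (LP (LK LD1_c7 LD2_c22 LD3_c32)) = (LP (LK LD1_c3 LD2_c41 LD3_c50)) :=
  Lgr Lrot138 (Lpr_dt (f480914 IH) (Lpe (f480934 IH) (Lpe (f463682 IH) (Lpr_et (f479818 IH) (Lpr_gt (K32.f463668 IH) (Lpe (K33.f485175 IH) (Lpr_dt (K34.f490444 IH) (Lpr_gt (K34.f467385 IH) (Lpe (K34.f483556 IH) (Lpr_et (K34.f484673 IH) (Lpn (LP (LK LD1_c3 LD2_c41 LD3_c50)))))))))))))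
theorem f654998 : Led Lsl_ft (LP (LK LD1_c7 LD2_c24 LD3_c24)) = (LP (LK LD1_c7 LD2_c27 LD3_c60)) :=
  Lgr Lrot2 (Lpr_gt (K34.f456512 IH) (Lpe (f490514 IH) (Lpr_af (f654992 IH) (Lpn (LP (LK LD1_c7 LD2_c27 LD3_c60))))))
theorem f655056 : Led Lsl_ft (LP (LK LD1_c7 LD2_c22 LD3_c29)) = (LP (LK LD1_c7 LD2_c30 LD3_c9)) :=
  Lgr Lrot86 (Lpe (K28.f438055 IH) (Lpr_ff (f655048 IH) (Lpe (K35.f209160 IH) (Lpe (f654998 IH) (Lpe (K34.f484669 IH) (Lpn (LP (LK LD1_c7 LD2_c30 LD3_c9))))))))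
theorem f655060 : Led Lsl_af (LP (LK LD1_c13 LD2_c25 LD3_c55)) = (LP (LK LD1_c7 LD2_c30 LD3_c9)) :=
  Lgr Lrot31 (Lpe (K33.f455755 IH) (Lpr_gf (K33.f479782 IH) (Lpr_ft (f655056 IH) (Lpn (LP (LK LD1_c7 LD2_c30 LD3_c9))))))
theorem f483841 : Led Lsl_df (LP (LK LD1_c7 LD2_c30 LD3_c9)) = (LP (LK LD1_c7 LD2_c21 LD3_c20)) :=
  Lgr Lrot38 (Lpr_dt (K33.f483771 IH) (Lpn (LP (LK LD1_c7 LD2_c21 LD3_c20))))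
theorem f655064 : Led Lsl_at (LP (LK LD1_c7 LD2_c25 LD3_c31)) = (LP (LK LD1_c7 LD2_c21 LD3_c20)) :=
  Lgr Lrot51 (Lpe (K33.f463636 IH) (Lpr_af (f655060 IH) (Lpr_df (f483841 IH) (Lpn (LP (LK LD1_c7 LD2_c21 LD3_c20))))))
theorem f655070 : Led Lsl_ff (LP (LK LD1_c7 LD2_c25 LD3_c31)) = (LP (LK LD1_c7 LD2_c21 LD3_c21)) :=
  Lgr Lrot52 (Lpr_at (f655064 IH) (Lpe (K33.f107321 IH) (Lpe (K28.f132081 IH) (Lpn (LP (LK LD1_c7 LD2_c21 LD3_c21))))))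
theorem f655078 : Led Lsl_ft (LP (LK LD1_c7 LD2_c25 LD3_c31)) = (LP (LK LD1_c7 LD2_c21 LD3_c21)) :=
  Lgr Lrot48 (Lpr_ff (f655070 IH) (Lpn (LP (LK LD1_c7 LD2_c21 LD3_c21))))
theorem f655082 : Led Lsl_ff (LP (LK LD1_c13 LD2_c25 LD3_c55)) = (LP (LK LD1_c7 LD2_c27 LD3_c57)) :=
  Lgr Lrot19 (Lpr_dt (K33.f463636 IH) (Lpr_ft (f655078 IH) (Lpe (K28.f132090 IH) (Lpn (LP (LK LD1_c7 LD2_c27 LD3_c57))))))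
theorem f655088 : Led Lsl_ft (LP (LK LD1_c7 LD2_c11 LD3_c54)) = (LP (LK LD1_c6 LD2_c52 LD3_c14)) :=
  Lgr Lrot4 (Lpe (K33.f473470 IH) (Lpr_ff (f655082 IH) (Lpe (K28.f464351 IH) (Lpn (LP (LK LD1_c6 LD2_c52 LD3_c14))))))
theorem f655090 : Led Lsl_ff (LP (LK LD1_c3 LD2_c35 LD3_c32)) = (LP (LK LD1_c3 LD2_c24 LD3_c53)) :=
  Lgr Lrot19 (Lpr_dt (K33.f106216 IH) (Lpr_ft (f655088 IH) (Lpr_dt (K28.f463401 IH) (Lpn (LP (LK LD1_c3 LD2_c24 LD3_c53))))))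
theorem f655094 : Led Lsl_ft (LP (LK LD1_c3 LD2_c40 LD3_c54)) = (LP (LK LD1_c3 LD2_c43 LD3_c52)) :=
  Lgr Lrot4 (Lpe (K33.f468289 IH) (Lpr_ff (f655090 IH) (Lpe (K28.f463399 IH) (Lpn (LP (LK LD1_c3 LD2_c43 LD3_c52))))))
theorem f655102 : Led Lsl_ff (LP (LK LD1_c3 LD2_c40 LD3_c54)) = (LP (LK LD1_c3 LD2_c43 LD3_c52)) :=
  Lgr Lrot3 (Lpr_ft (f655094 IH) (Lpn (LP (LK LD1_c3 LD2_c43 LD3_c52))))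
theorem f655108 : Led Lsl_at (LP (LK LD1_c3 LD2_c40 LD3_c54)) = (LP (LK LD1_c3 LD2_c43 LD3_c51)) :=
  Lgr Lrot26 (Lpr_ff (f655102 IH) (Lpr_gt (K28.f159497 IH) (Lpr_gt (K28.f132011 IH) (Lpn (LP (LK LD1_c3 LD2_c43 LD3_c51))))))
theorem f132023 : Led Lsl_et (LP (LK LD1_c3 LD2_c43 LD3_c51)) = (LP (LK LD1_c7 LD2_c28 LD3_c20)) :=
  Lre_e IH (LK LD1_c3 LD2_c43 LD3_c51) (LK LD1_c7 LD2_c28 LD3_c20) Lrfl Lrfl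
theorem f655114 : Led Lsl_af (LP (LK LD1_c7 LD2_c22 LD3_c3)) = (LP (LK LD1_c7 LD2_c28 LD3_c20)) :=
  Lgr Lrot50 (Lpr_et (K28.f142362 IH) (Lpr_at (f655108 IH) (Lpr_et (f132023 IH) (Lpn (LP (LK LD1_c7 LD2_c28 LD3_c20))))))
theorem f132021 : Led Lsl_df (LP (LK LD1_c7 LD2_c28 LD3_c20)) = (LP (LK LD1_c7 LD2_c20 LD3_c41)) :=
  Lgr Lrot38 (Lpr_dt (K28.f132017 IH) (Lpn (LP (LK LD1_c7 LD2_c20 LD3_c41))))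
theorem f655118 : Led Lsl_at (LP (LK LD1_c7 LD2_c26 LD3_c5)) = (LP (LK LD1_c7 LD2_c20 LD3_c41)) :=
  Lgr Lrot51 (Lpr_df (K28.f142363 IH) (Lpr_af (f655114 IH) (Lpr_df (f132021 IH) (Lpn (LP (LK LD1_c7 LD2_c20 LD3_c41))))))
theorem f203850 : Led Lsl_gt (LP (LK LD1_c3 LD2_c40 LD3_c14)) = (LP (LK LD1_c7 LD2_c20 LD3_c40)) :=
  Lre_g IH (LK LD1_c3 LD2_c40 LD3_c14) (LK LD1_c7 LD2_c20 LD3_c40) Lrfl Lrfl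
theorem f203851 : Led Lsl_gf (LP (LK LD1_c7 LD2_c26 LD3_c6)) = (LP (LK LD1_c7 LD2_c20 LD3_c40)) :=
  Lgr Lrot76 (Lpr_af (K28.f203830 IH) (Lpe (K28.f203829 IH) (Lpr_gt (f203850 IH) (Lpn (LP (LK LD1_c7 LD2_c20 LD3_c40))))))
theorem f655124 : Led Lsl_ff (LP (LK LD1_c7 LD2_c26 LD3_c5)) = (LP (LK LD1_c7 LD2_c20 LD3_c40)) :=
  Lgr Lrot52 (Lpr_at (f655118 IH) (Lpe (K28.f203832 IH) (Lpr_gf (f203851 IH) (Lpn (LP (LK LD1_c7 LD2_c20 LD3_c40))))))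
theorem f655130 : Led Lsl_ft (LP (LK LD1_c7 LD2_c26 LD3_c5)) = (LP (LK LD1_c7 LD2_c20 LD3_c40)) :=
  Lgr Lrot48 (Lpr_ff (f655124 IH) (Lpn (LP (LK LD1_c7 LD2_c20 LD3_c40))))
theorem f655137 : Led Lsl_af (LP (LK LD1_c7 LD2_c26 LD3_c4)) = (LP (LK LD1_c7 LD2_c20 LD3_c40)) :=
  Lgr Lrot31 (Lpe (K34.f120998 IH) (Lpe (K28.f142361 IH) (Lpr_ft (f655130 IH) (Lpn (LP (LK LD1_c7 LD2_c20 LD3_c40))))))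
theorem f655120 : Led Lsl_af (LP (LK LD1_c7 LD2_c26 LD3_c5)) = (LP (LK LD1_c7 LD2_c20 LD3_c41)) :=
  Lgr Lrot0 (Lpr_at (f655118 IH) (Lpn (LP (LK LD1_c7 LD2_c20 LD3_c41))))
theorem f655146 : Led Lsl_ft (LP (LK LD1_c7 LD2_c26 LD3_c4)) = (LP (LK LD1_c7 LD2_c20 LD3_c41)) :=
  Lgr Lrot101 (Lpr_af (f655137 IH) (Lpe (f655130 IH) (Lpr_af (f655120 IH) (Lpn (LP (LK LD1_c7 LD2_c20 LD3_c41))))))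
theorem f655154 : Led Lsl_ff (LP (LK LD1_c7 LD2_c26 LD3_c4)) = (LP (LK LD1_c7 LD2_c20 LD3_c41)) :=
  Lgr Lrot3 (Lpr_ft (f655146 IH) (Lpn (LP (LK LD1_c7 LD2_c20 LD3_c41))))
theorem f471142 : Led Lsl_bt (LP (LK LD1_c7 LD2_c26 LD3_c4)) = (LP (LK LD1_c14 LD2_c3 LD3_c15)) :=
  Lre_b IH (LK LD1_c7 LD2_c26 LD3_c4) (LK LD1_c14 LD2_c3 LD3_c15) Lrfl Lrfl
theorem f12398 : Led Lsl_bt (LP (LK LD1_c13 LD2_c53 LD3_c25)) = (LP (LK LD1_c7 LD2_c20 LD3_c41)) :=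
  Lre_b IH (LK LD1_c13 LD2_c53 LD3_c25) (LK LD1_c7 LD2_c20 LD3_c41) Lrfl Lrfl
theorem f655156 : Led Lsl_ft (LP (LK LD1_c14 LD2_c3 LD3_c15)) = (LP (LK LD1_c13 LD2_c53 LD3_c25)) :=
  Lgr Lrot75 (Lpe (f471142 IH) (Lpr_ff (f655154 IH) (Lpe (f12398 IH) (Lpn (LP (LK LD1_c13 LD2_c53 LD3_c25))))))
theorem f11693 : Led Lsl_ct (LP (LK LD1_c14 LD2_c49 LD3_c57)) = (LP (LK LD1_c7 LD2_c51 LD3_c54)) :=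
  Lre_c IH (LK LD1_c14 LD2_c49 LD3_c57) (LK LD1_c7 LD2_c51 LD3_c54) Lrfl Lrfl
theorem f142381 : Led Lsl_dt (LP (LK LD1_c3 LD2_c42 LD3_c43)) = (LP (LK LD1_c1 LD2_c48 LD3_c20)) :=
  Lre_d IH (LK LD1_c3 LD2_c42 LD3_c43) (LK LD1_c1 LD2_c48 LD3_c20) Lrfl Lrfl
theorem f203939 : Led Lsl_ct (LP (LK LD1_c7 LD2_c26 LD3_c4)) = (LP (LK LD1_c14 LD2_c3 LD3_c16)) :=
  Lre_c IH (LK LD1_c7 LD2_c26 LD3_c4) (LK LD1_c14 LD2_c3 LD3_c16) Lrfl Lrfl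
theorem f471137 : Led Lsl_gf (LP (LK LD1_c14 LD2_c49 LD3_c57)) = (LP (LK LD1_c14 LD2_c3 LD3_c16)) :=
  Lgr Lrot104 (Lpr_ct (f11693 IH) (Lpe (K33.f11690 IH) (Lpr_cf (K8.f11669 IH) (Lpe (K28.f160539 IH) (Lpr_cf (K34.f470903 IH) (Lpe (K28.f142394 IH) (Lpe (f142381 IH) (Lpr_gt (K34.f120998 IH) (Lpr_ct (f203939 IH) (Lpn (LP (LK LD1_c14 LD2_c3 LD3_c16))))))))))))
theorem f160070 : Led Lsl_af (LP (LK LD1_c7 LD2_c49 LD3_c50)) = (LP (LK LD1_c7 LD2_c51 LD3_c53)) :=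
  Lgr Lrot0 (Lpr_at (K8.f160051 IH) (Lpn (LP (LK LD1_c7 LD2_c51 LD3_c53))))
theorem f160080 : Led Lsl_ft (LP (LK LD1_c7 LD2_c49 LD3_c50)) = (LP (LK LD1_c14 LD2_c46 LD3_c18)) :=
  Lre_f IH (LK LD1_c7 LD2_c49 LD3_c50) (LK LD1_c14 LD2_c46 LD3_c18) Lrfl Lrfl
theorem f160520 : Led Lsl_ft (LP (LK LD1_c14 LD2_c49 LD3_c57)) = (LP (LK LD1_c7 LD2_c51 LD3_c53)) :=
  Lre_f IH (LK LD1_c14 LD2_c49 LD3_c57) (LK LD1_c7 LD2_c51 LD3_c53) Lrfl Lrfl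
theorem f160521 : Led Lsl_at (LP (LK LD1_c14 LD2_c46 LD3_c18)) = (LP (LK LD1_c14 LD2_c49 LD3_c57)) :=
  Lgr Lrot66 (Lpe (f160080 IH) (Lpr_af (f160070 IH) (Lpe (f160520 IH) (Lpn (LP (LK LD1_c14 LD2_c49 LD3_c57))))))
theorem f471139 : Led Lsl_gt (LP (LK LD1_c7 LD2_c49 LD3_c50)) = (LP (LK LD1_c14 LD2_c3 LD3_c16)) :=
  Lgr Lrot5 (Lpr_ft (f160080 IH) (Lpr_at (f160521 IH) (Lpr_gf (f471137 IH) (Lpn (LP (LK LD1_c14 LD2_c3 LD3_c16))))))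
theorem f471143 : Led Lsl_gf (LP (LK LD1_c7 LD2_c54 LD3_c43)) = (LP (LK LD1_c14 LD2_c3 LD3_c15)) :=
  Lgr Lrot124 (Lpe (K28.f462332 IH) (Lpr_ct (K28.f462192 IH) (Lpe (K28.f465116 IH) (Lpe (K24.f455767 IH) (Lpr_bt (K28.f458238 IH) (Lpe (K28.f463911 IH) (Lpr_ct (K8.f95888 IH) (Lpr_gt (f471139 IH) (Lpe (f203939 IH) (Lpr_bt (f471142 IH) (Lpn (LP (LK LD1_c14 LD2_c3 LD3_c15)))))))))))))
theorem f655177 : Led Lsl_af (LP (LK LD1_c14 LD2_c55 LD3_c24)) = (LP (LK LD1_c13 LD2_c53 LD3_c25)) :=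
  Lgr Lrot31 (Lpe (K34.f462336 IH) (Lpr_gf (f471143 IH) (Lpr_ft (f655156 IH) (Lpn (LP (LK LD1_c13 LD2_c53 LD3_c25))))))
theorem f462342 : Led Lsl_df (LP (LK LD1_c13 LD2_c56 LD3_c25)) = (LP (LK LD1_c14 LD2_c55 LD3_c24)) :=
  Lgr Lrot38 (Lpr_dt (K34.f462340 IH) (Lpn (LP (LK LD1_c14 LD2_c55 LD3_c24))))
theorem f655183 : Led Lsl_at (LP (LK LD1_c13 LD2_c56 LD3_c25)) = (LP (LK LD1_c13 LD2_c21 LD3_c10)) :=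
  Lgr Lrot51 (Lpr_df (f462342 IH) (Lpr_af (f655177 IH) (Lpe (K34.f488714 IH) (Lpn (LP (LK LD1_c13 LD2_c21 LD3_c10))))))
theorem f462344 : Led Lsl_et (LP (LK LD1_c7 LD2_c22 LD3_c20)) = (LP (LK LD1_c13 LD2_c56 LD3_c25)) :=
  Lre_e IH (LK LD1_c7 LD2_c22 LD3_c20) (LK LD1_c13 LD2_c56 LD3_c25) Lrfl Lrfl
theorem f655192 : Led Lsl_af (LP (LK LD1_c7 LD2_c22 LD3_c20)) = (LP (LK LD1_c7 LD2_c2 LD3_c27)) :=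
  Lgr Lrot50 (Lpr_et (f462344 IH) (Lpr_at (f655183 IH) (Lpr_et (K34.f468274 IH) (Lpn (LP (LK LD1_c7 LD2_c2 LD3_c27))))))
theorem f469804 : Led Lsl_at (LP (LK LD1_c13 LD2_c56 LD3_c0)) = (LP (LK LD1_c7 LD2_c22 LD3_c4)) :=
  Lre_a IH (LK LD1_c13 LD2_c56 LD3_c0) (LK LD1_c7 LD2_c22 LD3_c4) Lrfl Lrfl
theorem f469805 : Led Lsl_ff (LP (LK LD1_c13 LD2_c56 LD3_c0)) = (LP (LK LD1_c7 LD2_c22 LD3_c20)) :=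
  Lgr Lrot52 (Lpr_at (f469804 IH) (Lpe (K34.f469651 IH) (Lpr_gf (K34.f469802 IH) (Lpn (LP (LK LD1_c7 LD2_c22 LD3_c20))))))
theorem f655202 : Led Lsl_ft (LP (LK LD1_c7 LD2_c22 LD3_c4)) = (LP (LK LD1_c7 LD2_c2 LD3_c27)) :=
  Lgr Lrot101 (Lpe (f469804 IH) (Lpr_ff (f469805 IH) (Lpr_af (f655192 IH) (Lpn (LP (LK LD1_c7 LD2_c2 LD3_c27))))))
theorem f655210 : Led Lsl_ff (LP (LK LD1_c7 LD2_c22 LD3_c4)) = (LP (LK LD1_c7 LD2_c2 LD3_c27)) :=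
  Lgr Lrot3 (Lpr_ft (f655202 IH) (Lpn (LP (LK LD1_c7 LD2_c2 LD3_c27))))
theorem f469814 : Led Lsl_at (LP (LK LD1_c7 LD2_c22 LD3_c4)) = (LP (LK LD1_c13 LD2_c56 LD3_c0)) :=
  Lre_a IH (LK LD1_c7 LD2_c22 LD3_c4) (LK LD1_c13 LD2_c56 LD3_c0) Lrfl Lrfl
theorem f655214 : Led Lsl_gf (LP (LK LD1_c13 LD2_c56 LD3_c0)) = (LP (LK LD1_c7 LD2_c22 LD3_c22)) :=
  Lgr Lrot76 (Lpe (f469814 IH) (Lpr_ff (f655210 IH) (Lpe (K34.f466250 IH) (Lpn (LP (LK LD1_c7 LD2_c22 LD3_c22))))))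
theorem f469836 : Led Lsl_at (LP (LK LD1_c13 LD2_c16 LD3_c60)) = (LP (LK LD1_c7 LD2_c0 LD3_c0)) :=
  Lre_a IH (LK LD1_c13 LD2_c16 LD3_c60) (LK LD1_c7 LD2_c0 LD3_c0) Lrfl Lrfl
theorem f469837 : Led Lsl_ct (LP (LK LD1_c13 LD2_c56 LD3_c0)) = (LP (LK LD1_c13 LD2_c16 LD3_c60)) :=
  Lgr Lrot111 (Lpe (f469814 IH) (Lpr_cf (K34.f469642 IH) (Lpe (f469836 IH) (Lpn (LP (LK LD1_c13 LD2_c16 LD3_c60))))))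
theorem f489606 : Led Lsl_ct (LP (LK LD1_c23 LD2_c27 LD3_c11)) = (LP (LK LD1_c31 LD2_c3 LD3_c43)) :=
  Lre_c IH (LK LD1_c23 LD2_c27 LD3_c11) (LK LD1_c31 LD2_c3 LD3_c43) Lrfl Lrfl
theorem f436412 : Led Lsl_ct (LP (LK LD1_c22 LD2_c35 LD3_c31)) = (LP (LK LD1_c30 LD2_c36 LD3_c2)) :=
  Lre_c IH (LK LD1_c22 LD2_c35 LD3_c31) (LK LD1_c30 LD2_c36 LD3_c2) Lrfl Lrfl
theorem f533689 : Led Lsl_gf (LP (LK LD1_c23 LD2_c40 LD3_c26)) = (LP (LK LD1_c30 LD2_c36 LD3_c2)) :=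
  Lgr Lrot126 (Lpe (K34.f469921 IH) (Lpr_bt (K34.f469918 IH) (Lpe (K33.f469914 IH) (Lpr_ct (K28.f463278 IH) (Lpe (K32.f470059 IH) (Lpr_cf (K33.f470069 IH) (Lpr_bt (K33.f470066 IH) (Lpr_gt (K37.f533685 IH) (Lpe (K35.f436410 IH) (Lpr_ct (f436412 IH) (Lpn (LP (LK LD1_c30 LD2_c36 LD3_c2)))))))))))))
theorem f493108 : Led Lsl_at (LP (LK LD1_c23 LD2_c27 LD3_c34)) = (LP (LK LD1_c23 LD2_c40 LD3_c26)) :=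
  Lgr Lrot100 (Lpr_af (K35.f492782 IH) (Lpn (LP (LK LD1_c23 LD2_c40 LD3_c26))))
theorem f489607 : Led Lsl_ft (LP (LK LD1_c31 LD2_c3 LD3_c43)) = (LP (LK LD1_c23 LD2_c27 LD3_c34)) :=
  Lgr Lrot4 (Lpe (f489606 IH) (Lpr_ff (K34.f489604 IH) (Lpe (K35.f469783 IH) (Lpn (LP (LK LD1_c23 LD2_c27 LD3_c34))))))
theorem f533691 : Led Lsl_gt (LP (LK LD1_c31 LD2_c3 LD3_c43)) = (LP (LK LD1_c30 LD2_c36 LD3_c2)) :=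
  Lgr Lrot5 (Lpr_ft (f489607 IH) (Lpr_at (f493108 IH) (Lpr_gf (f533689 IH) (Lpn (LP (LK LD1_c30 LD2_c36 LD3_c2))))))
theorem f436446 : Led Lsl_ct (LP (LK LD1_c30 LD2_c36 LD3_c2)) = (LP (LK LD1_c22 LD2_c35 LD3_c31)) :=
  Lre_c IH (LK LD1_c30 LD2_c36 LD3_c2) (LK LD1_c22 LD2_c35 LD3_c31) Lrfl Lrfl
theorem f655218 : Led Lsl_gt (LP (LK LD1_c13 LD2_c16 LD3_c60)) = (LP (LK LD1_c7 LD2_c1 LD3_c17)) :=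
  Lgr Lrot150 (Lpe (f469837 IH) (Lpr_gf (f655214 IH) (Lpe (K28.f464508 IH) (Lpe (K34.f492789 IH) (Lpr_ct (f489606 IH) (Lpr_gt (f533691 IH) (Lpr_ct (f436446 IH) (Lpe (K34.f111106 IH) (Lpe (K43.f103635 IH) (Lpn (LP (LK LD1_c7 LD2_c1 LD3_c17))))))))))))
theorem f511982 : Led Lsl_at (LP (LK LD1_c7 LD2_c2 LD3_c26)) = (LP (LK LD1_c3 LD2_c30 LD3_c19)) :=
  Lre_a IH (LK LD1_c7 LD2_c2 LD3_c26) (LK LD1_c3 LD2_c30 LD3_c19) Lrfl Lrfl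
theorem f655223 : Led Lsl_ft (LP (LK LD1_c13 LD2_c16 LD3_c60)) = (LP (LK LD1_c7 LD2_c2 LD3_c26)) :=
  Lgr Lrot2 (Lpr_gt (f655218 IH) (Lpr_gt (K34.f533015 IH) (Lpe (f511982 IH) (Lpn (LP (LK LD1_c7 LD2_c2 LD3_c26))))))
theorem f655231 : Led Lsl_ff (LP (LK LD1_c13 LD2_c16 LD3_c60)) = (LP (LK LD1_c7 LD2_c2 LD3_c26)) :=
  Lgr Lrot3 (Lpr_ft (f655223 IH) (Lpn (LP (LK LD1_c7 LD2_c2 LD3_c26))))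
theorem f655237 : Led Lsl_gf (LP (LK LD1_c13 LD2_c16 LD3_c59)) = (LP (LK LD1_c7 LD2_c2 LD3_c26)) :=
  Lgr Lrot47 (Lpr_gt (K34.f463954 IH) (Lpe (f469836 IH) (Lpr_ff (f655231 IH) (Lpn (LP (LK LD1_c7 LD2_c2 LD3_c26))))))
theorem f655198 : Led Lsl_ct (LP (LK LD1_c7 LD2_c22 LD3_c20)) = (LP (LK LD1_c7 LD2_c2 LD3_c26)) :=
  Lgr Lrot111 (Lpr_af (f655192 IH) (Lpe (K34.f18976 IH) (Lpe (f511982 IH) (Lpn (LP (LK LD1_c7 LD2_c2 LD3_c26))))))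
theorem f477500 : Led Lsl_ct (LP (LK LD1_c3 LD2_c51 LD3_c55)) = (LP (LK LD1_c7 LD2_c45 LD3_c35)) :=
  Lre_c IH (LK LD1_c3 LD2_c51 LD3_c55) (LK LD1_c7 LD2_c45 LD3_c35) Lrfl Lrfl
theorem f489581 : Led Lsl_dt (LP (LK LD1_c7 LD2_c45 LD3_c42)) = (LP (LK LD1_c3 LD2_c51 LD3_c55)) :=
  Lre_d IH (LK LD1_c7 LD2_c45 LD3_c42) (LK LD1_c3 LD2_c51 LD3_c55) Lrfl Lrfl
theorem f463965 : Led Lsl_gt (LP (LK LD1_c14 LD2_c38 LD3_c25)) = (LP (LK LD1_c7 LD2_c45 LD3_c42)) :=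
  Lre_g IH (LK LD1_c14 LD2_c38 LD3_c25) (LK LD1_c7 LD2_c45 LD3_c42) Lrfl Lrfl
theorem f655242 : Led Lsl_dt (LP (LK LD1_c13 LD2_c16 LD3_c59)) = (LP (LK LD1_c14 LD2_c38 LD3_c25)) :=
  Lgr Lrot57 (Lpr_gf (f655237 IH) (Lpe (f655198 IH) (Lpe (K34.f469802 IH) (Lpr_dt (K34.f469676 IH) (Lpe (K34.f489602 IH) (Lpr_dt (K34.f489578 IH) (Lpe (f477500 IH) (Lpe (f489581 IH) (Lpe (f463965 IH) (Lpn (LP (LK LD1_c14 LD2_c38 LD3_c25))))))))))))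
theorem f489592 : Led Lsl_dt (LP (LK LD1_c3 LD2_c51 LD3_c55)) = (LP (LK LD1_c7 LD2_c45 LD3_c42)) :=
  Lre_d IH (LK LD1_c3 LD2_c51 LD3_c55) (LK LD1_c7 LD2_c45 LD3_c42) Lrfl Lrfl
theorem f532900 : Led Lsl_ff (LP (LK LD1_c3 LD2_c51 LD3_c51)) = (LP (LK LD1_c7 LD2_c35 LD3_c35)) :=
  Lgr Lrot23 (Lpr_ct (K35.f464844 IH) (Lpr_ft (K34.f532898 IH) (Lpr_ct (K34.f116686 IH) (Lpn (LP (LK LD1_c7 LD2_c35 LD3_c35))))))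
theorem f534600 : Led Lsl_ff (LP (LK LD1_c6 LD2_c56 LD3_c15)) = (LP (LK LD1_c7 LD2_c43 LD3_c37)) :=
  Lgr Lrot25 (Lpe (K5.f116684 IH) (Lpe (f532900 IH) (Lpr_bt (K35.f534584 IH) (Lpn (LP (LK LD1_c7 LD2_c43 LD3_c37))))))
theorem f534612 : Led Lsl_ft (LP (LK LD1_c6 LD2_c56 LD3_c15)) = (LP (LK LD1_c7 LD2_c43 LD3_c37)) :=
  Lgr Lrot48 (Lpr_ff (f534600 IH) (Lpn (LP (LK LD1_c7 LD2_c43 LD3_c37))))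
theorem f130080 : Led Lsl_ff (LP (LK LD1_c3 LD2_c27 LD3_c10)) = (LP (LK LD1_c3 LD2_c48 LD3_c12)) :=
  Lgr Lrot30 (Lpr_at (K8.f130018 IH) (Lpe (K5.f129925 IH) (Lpe (K5.f129916 IH) (Lpn (LP (LK LD1_c3 LD2_c48 LD3_c12))))))
theorem f116716 : Led Lsl_et (LP (LK LD1_c7 LD2_c37 LD3_c25)) = (LP (LK LD1_c3 LD2_c48 LD3_c12)) :=
  Lre_e IH (LK LD1_c7 LD2_c37 LD3_c25) (LK LD1_c3 LD2_c48 LD3_c12) Lrfl Lrfl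
theorem f534803 : Led Lsl_ef (LP (LK LD1_c6 LD2_c56 LD3_c57)) = (LP (LK LD1_c7 LD2_c43 LD3_c37)) :=
  Lgr Lrot21 (Lpr_ft (K34.f532825 IH) (Lpr_et (f116716 IH) (Lpe (f130080 IH) (Lpr_et (K5.f113313 IH) (Lpr_ft (f534612 IH) (Lpn (LP (LK LD1_c7 LD2_c43 LD3_c37))))))))
theorem f532843 : Led Lsl_ff (LP (LK LD1_c6 LD2_c56 LD3_c57)) = (LP (LK LD1_c7 LD2_c37 LD3_c25)) :=
  Lgr Lrot3 (Lpr_ft (K34.f532825 IH) (Lpn (LP (LK LD1_c7 LD2_c37 LD3_c25))))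
theorem f144862 : Led Lsl_ft (LP (LK LD1_c7 LD2_c40 LD3_c51)) = (LP (LK LD1_c3 LD2_c49 LD3_c57)) :=
  Lre_f IH (LK LD1_c7 LD2_c40 LD3_c51) (LK LD1_c3 LD2_c49 LD3_c57) Lrfl Lrfl
theorem f532846 : Led Lsl_bt (LP (LK LD1_c6 LD2_c56 LD3_c57)) = (LP (LK LD1_c7 LD2_c40 LD3_c51)) :=
  Lgr Lrot35 (Lpr_ff (f532843 IH) (Lpr_bf (K6.f144908 IH) (Lpe (f144862 IH) (Lpn (LP (LK LD1_c7 LD2_c40 LD3_c51))))))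
theorem f534805 : Led Lsl_et (LP (LK LD1_c7 LD2_c40 LD3_c51)) = (LP (LK LD1_c3 LD2_c51 LD3_c51)) :=
  Lgr Lrot74 (Lpe (f532846 IH) (Lpr_ef (f534803 IH) (Lpe (K35.f534584 IH) (Lpn (LP (LK LD1_c3 LD2_c51 LD3_c51))))))
theorem f437705 : Led Lsl_dt (LP (LK LD1_c7 LD2_c40 LD3_c51)) = (LP (LK LD1_c14 LD2_c28 LD3_c50)) :=
  Lre_d IH (LK LD1_c7 LD2_c40 LD3_c51) (LK LD1_c14 LD2_c28 LD3_c50) Lrfl Lrfl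
theorem f655236 : Led Lsl_et (LP (LK LD1_c13 LD2_c21 LD3_c8)) = (LP (LK LD1_c7 LD2_c2 LD3_c26)) :=
  Lre_e IH (LK LD1_c13 LD2_c21 LD3_c8) (LK LD1_c7 LD2_c2 LD3_c26) Lrfl Lrfl
theorem f533061 : Led Lsl_dt (LP (LK LD1_c13 LD2_c21 LD3_c8)) = (LP (LK LD1_c22 LD2_c37 LD3_c46)) :=
  Lre_d IH (LK LD1_c13 LD2_c21 LD3_c8) (LK LD1_c22 LD2_c37 LD3_c46) Lrfl Lrfl
theorem f655246 : Led Lsl_gt (LP (LK LD1_c14 LD2_c28 LD3_c50)) = (LP (LK LD1_c22 LD2_c37 LD3_c46)) :=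
  Lgr Lrot112 (Lpe (f437705 IH) (Lpr_et (f534805 IH) (Lpe (K34.f464843 IH) (Lpe (K34.f492089 IH) (Lpr_dt (f489592 IH) (Lpe (f463965 IH) (Lpe (f655242 IH) (Lpr_gf (f655237 IH) (Lpe (f655236 IH) (Lpr_dt (f533061 IH) (Lpn (LP (LK LD1_c22 LD2_c37 LD3_c46)))))))))))))
theorem f144933 : Led Lsl_ft (LP (LK LD1_c14 LD2_c28 LD3_c50)) = (LP (LK LD1_c7 LD2_c40 LD3_c50)) :=
  Lre_f IH (LK LD1_c14 LD2_c28 LD3_c50) (LK LD1_c7 LD2_c40 LD3_c50) Lrfl Lrfl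
theorem f130064 : Led Lsl_bt (LP (LK LD1_c22 LD2_c23 LD3_c6)) = (LP (LK LD1_c13 LD2_c10 LD3_c29)) :=
  Lre_b IH (LK LD1_c22 LD2_c23 LD3_c6) (LK LD1_c13 LD2_c10 LD3_c29) Lrfl Lrfl
theorem f116717 : Led Lsl_dt (LP (LK LD1_c7 LD2_c37 LD3_c25)) = (LP (LK LD1_c14 LD2_c22 LD3_c22)) :=
  Lre_d IH (LK LD1_c7 LD2_c37 LD3_c25) (LK LD1_c14 LD2_c22 LD3_c22) Lrfl Lrfl
theorem f130046 : Led Lsl_dt (LP (LK LD1_c13 LD2_c10 LD3_c29)) = (LP (LK LD1_c6 LD2_c56 LD3_c14)) :=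
  Lre_d IH (LK LD1_c13 LD2_c10 LD3_c29) (LK LD1_c6 LD2_c56 LD3_c14) Lrfl Lrfl
theorem f130047 : Led Lsl_at (LP (LK LD1_c14 LD2_c22 LD3_c22)) = (LP (LK LD1_c13 LD2_c10 LD3_c29)) :=
  Lgr Lrot51 (Lpe (f116717 IH) (Lpr_af (K6.f130028 IH) (Lpe (f130046 IH) (Lpn (LP (LK LD1_c13 LD2_c10 LD3_c29))))))
theorem f130049 : Led Lsl_af (LP (LK LD1_c14 LD2_c22 LD3_c22)) = (LP (LK LD1_c13 LD2_c10 LD3_c29)) :=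
  Lgr Lrot0 (Lpr_at (f130047 IH) (Lpn (LP (LK LD1_c13 LD2_c10 LD3_c29))))
theorem f144917 : Led Lsl_dt (LP (LK LD1_c7 LD2_c40 LD3_c50)) = (LP (LK LD1_c3 LD2_c49 LD3_c57)) :=
  Lre_d IH (LK LD1_c7 LD2_c40 LD3_c50) (LK LD1_c3 LD2_c49 LD3_c57) Lrfl Lrfl
theorem f144918 : Led Lsl_bt (LP (LK LD1_c14 LD2_c22 LD3_c22)) = (LP (LK LD1_c7 LD2_c40 LD3_c50)) :=
  Lgr Lrot95 (Lpe (f116717 IH) (Lpr_bf (K6.f144908 IH) (Lpe (f144917 IH) (Lpn (LP (LK LD1_c7 LD2_c40 LD3_c50))))))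
theorem f145060 : Led Lsl_bt (LP (LK LD1_c14 LD2_c18 LD3_c59)) = (LP (LK LD1_c23 LD2_c56 LD3_c52)) :=
  Lre_b IH (LK LD1_c14 LD2_c18 LD3_c59) (LK LD1_c23 LD2_c56 LD3_c52) Lrfl Lrfl
theorem f145061 : Led Lsl_at (LP (LK LD1_c7 LD2_c40 LD3_c50)) = (LP (LK LD1_c14 LD2_c18 LD3_c59)) :=
  Lgr Lrot67 (Lpe (f144918 IH) (Lpr_af (f130049 IH) (Lpe (f130064 IH) (Lpr_af (K41.f145056 IH) (Lpe (f145060 IH) (Lpn (LP (LK LD1_c14 LD2_c18 LD3_c59))))))))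
theorem f655251 : Led Lsl_gf (LP (LK LD1_c14 LD2_c18 LD3_c59)) = (LP (LK LD1_c22 LD2_c37 LD3_c46)) :=
  Lgr Lrot76 (Lpe (f145061 IH) (Lpe (f144933 IH) (Lpr_gt (f655246 IH) (Lpn (LP (LK LD1_c22 LD2_c37 LD3_c46))))))
theorem f471122 : Led Lsl_gf (LP (LK LD1_c3 LD2_c56 LD3_c29)) = (LP (LK LD1_c7 LD2_c25 LD3_c61)) :=
  Lgr Lrot76 (Lpe (K28.f462266 IH) (Lpe (K28.f462267 IH) (Lpr_gt (K34.f471120 IH) (Lpn (LP (LK LD1_c7 LD2_c25 LD3_c61))))))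
theorem f476653 : Led Lsl_dt (LP (LK LD1_c6 LD2_c57 LD3_c20)) = (LP (LK LD1_c13 LD2_c12 LD3_c29)) :=
  Lre_d IH (LK LD1_c6 LD2_c57 LD3_c20) (LK LD1_c13 LD2_c12 LD3_c29) Lrfl Lrfl
theorem f476709 : Led Lsl_ct (LP (LK LD1_c22 LD2_c26 LD3_c15)) = (LP (LK LD1_c13 LD2_c12 LD3_c29)) :=
  Lre_c IH (LK LD1_c22 LD2_c26 LD3_c15) (LK LD1_c13 LD2_c12 LD3_c29) Lrfl Lrfl
theorem f473255 : Led Lsl_cf (LP (LK LD1_c6 LD2_c57 LD3_c11)) = (LP (LK LD1_c13 LD2_c4 LD3_c12)) :=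
  Lgr Lrot11 (Lpr_ct (K28.f473253 IH) (Lpn (LP (LK LD1_c13 LD2_c4 LD3_c12))))
theorem f15443 : Led Lsl_bf (LP (LK LD1_c1 LD2_c52 LD3_c54)) = (LP (LK LD1_c1 LD2_c40 LD3_c20)) :=
  Lgr Lrot24 (Lpr_bt (K0.f15429 IH) (Lpn (LP (LK LD1_c1 LD2_c40 LD3_c20))))
theorem f17033 : Led Lsl_gt (LP (LK LD1_c1 LD2_c52 LD3_c54)) = (LP (LK LD1_c3 LD2_c52 LD3_c31)) :=
  Lre_g IH (LK LD1_c1 LD2_c52 LD3_c54) (LK LD1_c3 LD2_c52 LD3_c31) Lrfl Lrfl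
theorem f16028 : Led Lsl_bt (LP (LK LD1_c7 LD2_c46 LD3_c53)) = (LP (LK LD1_c3 LD2_c52 LD3_c31)) :=
  Lre_b IH (LK LD1_c7 LD2_c46 LD3_c53) (LK LD1_c3 LD2_c52 LD3_c31) Lrfl Lrfl
theorem f16029 : Led Lsl_ct (LP (LK LD1_c7 LD2_c46 LD3_c53)) = (LP (LK LD1_c14 LD2_c40 LD3_c51)) :=
  Lre_c IH (LK LD1_c7 LD2_c46 LD3_c53) (LK LD1_c14 LD2_c40 LD3_c51) Lrfl Lrfl
theorem f473274 : Led Lsl_bt (LP (LK LD1_c13 LD2_c12 LD3_c29)) = (LP (LK LD1_c6 LD2_c57 LD3_c21)) :=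
  Lre_b IH (LK LD1_c13 LD2_c12 LD3_c29) (LK LD1_c6 LD2_c57 LD3_c21) Lrfl Lrfl
theorem f473370 : Led Lsl_ct (LP (LK LD1_c13 LD2_c12 LD3_c29)) = (LP (LK LD1_c22 LD2_c26 LD3_c15)) :=
  Lre_c IH (LK LD1_c13 LD2_c12 LD3_c29) (LK LD1_c22 LD2_c26 LD3_c15) Lrfl Lrfl
theorem f476738 : Led Lsl_gt (LP (LK LD1_c14 LD2_c40 LD3_c51)) = (LP (LK LD1_c22 LD2_c26 LD3_c15)) :=
  Lgr Lrot65 (Lpe (f16029 IH) (Lpr_bt (f16028 IH) (Lpe (f17033 IH) (Lpr_bf (f15443 IH) (Lpr_ct (K28.f15447 IH) (Lpe (K28.f17027 IH) (Lpr_cf (f473255 IH) (Lpe (K28.f92001 IH) (Lpe (f473274 IH) (Lpr_ct (f473370 IH) (Lpn (LP (LK LD1_c22 LD2_c26 LD3_c15)))))))))))))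
theorem f142512 : Led Lsl_dt (LP (LK LD1_c14 LD2_c18 LD3_c59)) = (LP (LK LD1_c7 LD2_c35 LD3_c38)) :=
  Lre_d IH (LK LD1_c14 LD2_c18 LD3_c59) (LK LD1_c7 LD2_c35 LD3_c38) Lrfl Lrfl
theorem f533666 : Led Lsl_gf (LP (LK LD1_c7 LD2_c46 LD3_c53)) = (LP (LK LD1_c14 LD2_c18 LD3_c59)) :=
  Lgr Lrot147 (Lpr_ct (f16029 IH) (Lpr_gt (f476738 IH) (Lpr_ct (f476709 IH) (Lpe (f476653 IH) (Lpr_cf (K34.f473424 IH) (Lpr_gf (f471122 IH) (Lpe (K34.f471109 IH) (Lpr_gf (K35.f533664 IH) (Lpe (f142512 IH) (Lpn (LP (LK LD1_c14 LD2_c18 LD3_c59))))))))))))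
theorem f111103 : Led Lsl_et (LP (LK LD1_c3 LD2_c29 LD3_c50)) = (LP (LK LD1_c7 LD2_c1 LD3_c17)) :=
  Lre_e IH (LK LD1_c3 LD2_c29 LD3_c50) (LK LD1_c7 LD2_c1 LD3_c17) Lrfl Lrfl
theorem f144870 : Led Lsl_dt (LP (LK LD1_c3 LD2_c49 LD3_c57)) = (LP (LK LD1_c7 LD2_c40 LD3_c50)) :=
  Lre_d IH (LK LD1_c3 LD2_c49 LD3_c57) (LK LD1_c7 LD2_c40 LD3_c50) Lrfl Lrfl
theorem f492988 : Led Lsl_et (LP (LK LD1_c7 LD2_c2 LD3_c29)) = (LP (LK LD1_c3 LD2_c30 LD3_c19)) :=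
  Lre_e IH (LK LD1_c7 LD2_c2 LD3_c29) (LK LD1_c3 LD2_c30 LD3_c19) Lrfl Lrfl
theorem f488713 : Led Lsl_dt (LP (LK LD1_c7 LD2_c2 LD3_c29)) = (LP (LK LD1_c13 LD2_c21 LD3_c17)) :=
  Lre_d IH (LK LD1_c7 LD2_c2 LD3_c29) (LK LD1_c13 LD2_c21 LD3_c17) Lrfl Lrfl
theorem f533031 : Led Lsl_gf (LP (LK LD1_c7 LD2_c40 LD3_c50)) = (LP (LK LD1_c13 LD2_c21 LD3_c17)) :=
  Lgr Lrot145 (Lpe (f144870 IH) (Lpr_et (K6.f144861 IH) (Lpe (K6.f144865 IH) (Lpr_dt (K42.f157972 IH) (Lpe (K42.f158008 IH) (Lpe (K7.f122249 IH) (Lpr_et (f111103 IH) (Lpr_gt (K34.f533015 IH) (Lpe (f492988 IH) (Lpr_dt (f488713 IH) (Lpn (LP (LK LD1_c13 LD2_c21 LD3_c17)))))))))))))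
theorem f145063 : Led Lsl_af (LP (LK LD1_c7 LD2_c40 LD3_c50)) = (LP (LK LD1_c14 LD2_c18 LD3_c59)) :=
  Lgr Lrot0 (Lpr_at (f145061 IH) (Lpn (LP (LK LD1_c14 LD2_c18 LD3_c59))))
theorem f488708 : Led Lsl_gt (LP (LK LD1_c22 LD2_c37 LD3_c61)) = (LP (LK LD1_c13 LD2_c21 LD3_c17)) :=
  Lre_g IH (LK LD1_c22 LD2_c37 LD3_c61) (LK LD1_c13 LD2_c21 LD3_c17) Lrfl Lrfl
theorem f533033 : Led Lsl_ff (LP (LK LD1_c14 LD2_c18 LD3_c59)) = (LP (LK LD1_c22 LD2_c37 LD3_c61)) :=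
  Lgr Lrot52 (Lpe (f145063 IH) (Lpr_gf (f533031 IH) (Lpe (f488708 IH) (Lpn (LP (LK LD1_c22 LD2_c37 LD3_c61))))))
theorem f144928 : Led Lsl_ft (LP (LK LD1_c7 LD2_c40 LD3_c50)) = (LP (LK LD1_c14 LD2_c28 LD3_c50)) :=
  Lre_f IH (LK LD1_c7 LD2_c40 LD3_c50) (LK LD1_c14 LD2_c28 LD3_c50) Lrfl Lrfl
theorem f533042 : Led Lsl_at (LP (LK LD1_c14 LD2_c28 LD3_c50)) = (LP (LK LD1_c22 LD2_c37 LD3_c61)) :=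
  Lgr Lrot66 (Lpe (f144928 IH) (Lpr_af (f145063 IH) (Lpr_ff (f533033 IH) (Lpn (LP (LK LD1_c22 LD2_c37 LD3_c61))))))
theorem f144929 : Led Lsl_gt (LP (LK LD1_c7 LD2_c40 LD3_c50)) = (LP (LK LD1_c14 LD2_c28 LD3_c48)) :=
  Lre_g IH (LK LD1_c7 LD2_c40 LD3_c50) (LK LD1_c14 LD2_c28 LD3_c48) Lrfl Lrfl
theorem f533048 : Led Lsl_gt (LP (LK LD1_c14 LD2_c28 LD3_c48)) = (LP (LK LD1_c22 LD2_c37 LD3_c61)) :=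
  Lgr Lrot46 (Lpe (f144929 IH) (Lpr_ft (f144928 IH) (Lpr_at (f533042 IH) (Lpn (LP (LK LD1_c22 LD2_c37 LD3_c61))))))
theorem f533050 : Led Lsl_at (LP (LK LD1_c22 LD2_c37 LD3_c46)) = (LP (LK LD1_c13 LD2_c21 LD3_c17)) :=
  Lre_a IH (LK LD1_c22 LD2_c37 LD3_c46) (LK LD1_c13 LD2_c21 LD3_c17) Lrfl Lrfl
theorem f533051 : Led Lsl_ft (LP (LK LD1_c14 LD2_c28 LD3_c48)) = (LP (LK LD1_c22 LD2_c37 LD3_c46)) :=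
  Lgr Lrot2 (Lpr_gt (f533048 IH) (Lpr_gt (f488708 IH) (Lpe (f533050 IH) (Lpn (LP (LK LD1_c22 LD2_c37 LD3_c46))))))
theorem f533058 : Led Lsl_ff (LP (LK LD1_c14 LD2_c28 LD3_c48)) = (LP (LK LD1_c22 LD2_c37 LD3_c46)) :=
  Lgr Lrot3 (Lpr_ft (f533051 IH) (Lpn (LP (LK LD1_c22 LD2_c37 LD3_c46))))
theorem f655256 : Led Lsl_af (LP (LK LD1_c7 LD2_c46 LD3_c53)) = (LP (LK LD1_c14 LD2_c28 LD3_c48)) :=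
  Lgr Lrot31 (Lpr_gf (f533666 IH) (Lpr_gf (f655251 IH) (Lpe (f533058 IH) (Lpn (LP (LK LD1_c14 LD2_c28 LD3_c48))))))
theorem f533054 : Led Lsl_dt (LP (LK LD1_c22 LD2_c37 LD3_c46)) = (LP (LK LD1_c13 LD2_c21 LD3_c8)) :=
  Lre_d IH (LK LD1_c22 LD2_c37 LD3_c46) (LK LD1_c13 LD2_c21 LD3_c8) Lrfl Lrfl
theorem f533055 : Led Lsl_ft (LP (LK LD1_c13 LD2_c21 LD3_c8)) = (LP (LK LD1_c22 LD2_c37 LD3_c47)) :=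
  Lre_f IH (LK LD1_c13 LD2_c21 LD3_c8) (LK LD1_c22 LD2_c37 LD3_c47) Lrfl Lrfl
theorem f533056 : Led Lsl_df (LP (LK LD1_c14 LD2_c28 LD3_c48)) = (LP (LK LD1_c22 LD2_c37 LD3_c47)) :=
  Lgr Lrot78 (Lpr_ft (f533051 IH) (Lpr_dt (f533054 IH) (Lpr_ft (f533055 IH) (Lpn (LP (LK LD1_c22 LD2_c37 LD3_c47))))))
theorem f533068 : Led Lsl_at (LP (LK LD1_c13 LD2_c21 LD3_c18)) = (LP (LK LD1_c22 LD2_c37 LD3_c47)) :=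
  Lre_a IH (LK LD1_c13 LD2_c21 LD3_c18) (LK LD1_c22 LD2_c37 LD3_c47) Lrfl Lrfl
theorem f655260 : Led Lsl_dt (LP (LK LD1_c7 LD2_c46 LD3_c53)) = (LP (LK LD1_c13 LD2_c21 LD3_c18)) :=
  Lgr Lrot44 (Lpr_af (f655256 IH) (Lpr_df (f533056 IH) (Lpe (f533068 IH) (Lpn (LP (LK LD1_c13 LD2_c21 LD3_c18))))))
theorem f655164 : Led Lsl_ft (LP (LK LD1_c13 LD2_c21 LD3_c18)) = (LP (LK LD1_c7 LD2_c2 LD3_c29)) :=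
  Lre_f IH (LK LD1_c13 LD2_c21 LD3_c18) (LK LD1_c7 LD2_c2 LD3_c29) Lrfl Lrfl
theorem f655274 : Led Lsl_ff (LP (LK LD1_c7 LD2_c46 LD3_c53)) = (LP (LK LD1_c13 LD2_c21 LD3_c17)) :=
  Lgr Lrot19 (Lpr_dt (f655260 IH) (Lpr_ft (f655164 IH) (Lpr_dt (f488713 IH) (Lpn (LP (LK LD1_c13 LD2_c21 LD3_c17))))))
theorem f533038 : Led Lsl_bt (LP (LK LD1_c7 LD2_c2 LD3_c38)) = (LP (LK LD1_c13 LD2_c21 LD3_c17)) :=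
  Lre_b IH (LK LD1_c7 LD2_c2 LD3_c38) (LK LD1_c13 LD2_c21 LD3_c17) Lrfl Lrfl
theorem f655277 : Led Lsl_ft (LP (LK LD1_c3 LD2_c52 LD3_c31)) = (LP (LK LD1_c7 LD2_c2 LD3_c38)) :=
  Lgr Lrot75 (Lpe (f16028 IH) (Lpr_ff (f655274 IH) (Lpe (f533038 IH) (Lpn (LP (LK LD1_c7 LD2_c2 LD3_c38))))))
theorem f16027 : Led Lsl_gt (LP (LK LD1_c3 LD2_c52 LD3_c31)) = (LP (LK LD1_c7 LD2_c30 LD3_c26)) :=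
  Lre_g IH (LK LD1_c3 LD2_c52 LD3_c31) (LK LD1_c7 LD2_c30 LD3_c26) Lrfl Lrfl
theorem f655285 : Led Lsl_af (LP (LK LD1_c3 LD2_c52 LD3_c32)) = (LP (LK LD1_c7 LD2_c2 LD3_c38)) :=
  Lgr Lrot31 (Lpe (K3.f16038 IH) (Lpe (f16027 IH) (Lpr_ft (f655277 IH) (Lpn (LP (LK LD1_c7 LD2_c2 LD3_c38))))))
theorem f64941 : Led Lsl_ct (LP (LK LD1_c13 LD2_c21 LD3_c32)) = (LP (LK LD1_c7 LD2_c2 LD3_c38)) :=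
  Lre_c IH (LK LD1_c13 LD2_c21 LD3_c32) (LK LD1_c7 LD2_c2 LD3_c38) Lrfl Lrfl
theorem f655289 : Led Lsl_at (LP (LK LD1_c7 LD2_c46 LD3_c57)) = (LP (LK LD1_c13 LD2_c21 LD3_c32)) :=
  Lgr Lrot107 (Lpe (K33.f16040 IH) (Lpr_af (f655285 IH) (Lpe (f64941 IH) (Lpn (LP (LK LD1_c13 LD2_c21 LD3_c32))))))
theorem f17437 : Led Lsl_ct (LP (LK LD1_c3 LD2_c48 LD3_c24)) = (LP (LK LD1_c7 LD2_c37 LD3_c52)) :=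
  Lre_c IH (LK LD1_c3 LD2_c48 LD3_c24) (LK LD1_c7 LD2_c37 LD3_c52) Lrfl Lrfl
theorem f126445 : Led Lsl_af (LP (LK LD1_c14 LD2_c17 LD3_c41)) = (LP (LK LD1_c7 LD2_c37 LD3_c52)) :=
  Lgr Lrot68 (Lpr_ct (f126444 IH) (Lpr_at (K5.f126438 IH) (Lpr_ct (f17437 IH) (Lpn (LP (LK LD1_c7 LD2_c37 LD3_c52))))))
theorem f93053 : Led Lsl_ft (LP (LK LD1_c14 LD2_c22 LD3_c58)) = (LP (LK LD1_c7 LD2_c37 LD3_c52)) :=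
  Lre_f IH (LK LD1_c14 LD2_c22 LD3_c58) (LK LD1_c7 LD2_c37 LD3_c52) Lrfl Lrfl
theorem f650191 : Led Lsl_gf (LP (LK LD1_c13 LD2_c21 LD3_c32)) = (LP (LK LD1_c14 LD2_c22 LD3_c58)) :=
  Lgr Lrot47 (Lpr_gt (f650189 IH) (Lpr_af (f126445 IH) (Lpe (f93053 IH) (Lpn (LP (LK LD1_c14 LD2_c22 LD3_c58))))))
theorem f17350 : Led Lsl_ct (LP (LK LD1_c14 LD2_c22 LD3_c58)) = (LP (LK LD1_c7 LD2_c37 LD3_c53)) :=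
  Lre_c IH (LK LD1_c14 LD2_c22 LD3_c58) (LK LD1_c7 LD2_c37 LD3_c53) Lrfl Lrfl
theorem f64024 : Led Lsl_dt (LP (LK LD1_c3 LD2_c44 LD3_c38)) = (LP (LK LD1_c1 LD2_c49 LD3_c21)) :=
  Lre_d IH (LK LD1_c3 LD2_c44 LD3_c38) (LK LD1_c1 LD2_c49 LD3_c21) Lrfl Lrfl
theorem f64940 : Led Lsl_gt (LP (LK LD1_c3 LD2_c44 LD3_c38)) = (LP (LK LD1_c7 LD2_c30 LD3_c24)) :=
  Lre_g IH (LK LD1_c3 LD2_c44 LD3_c38) (LK LD1_c7 LD2_c30 LD3_c24) Lrfl Lrfl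
theorem f457735 : Led Lsl_ct (LP (LK LD1_c7 LD2_c30 LD3_c24)) = (LP (LK LD1_c14 LD2_c10 LD3_c35)) :=
  Lre_c IH (LK LD1_c7 LD2_c30 LD3_c24) (LK LD1_c14 LD2_c10 LD3_c35) Lrfl Lrfl
theorem f465437 : Led Lsl_gf (LP (LK LD1_c14 LD2_c22 LD3_c58)) = (LP (LK LD1_c14 LD2_c10 LD3_c35)) :=
  Lgr Lrot104 (Lpr_ct (f17350 IH) (Lpe (K28.f17347 IH) (Lpe (K3.f17331 IH) (Lpr_gf (K28.f465429 IH) (Lpe (K28.f457726 IH) (Lpe (K28.f17286 IH) (Lpe (f64024 IH) (Lpr_gt (f64940 IH) (Lpr_ct (f457735 IH) (Lpn (LP (LK LD1_c14 LD2_c10 LD3_c35))))))))))))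
theorem f656888 : Led Lsl_ff (LP (LK LD1_c7 LD2_c46 LD3_c57)) = (LP (LK LD1_c14 LD2_c10 LD3_c35)) :=
  Lgr Lrot52 (Lpr_at (f655289 IH) (Lpr_gf (f650191 IH) (Lpr_gf (f465437 IH) (Lpn (LP (LK LD1_c14 LD2_c10 LD3_c35))))))
theorem f656896 : Led Lsl_ft (LP (LK LD1_c7 LD2_c46 LD3_c57)) = (LP (LK LD1_c14 LD2_c10 LD3_c35)) :=
  Lgr Lrot48 (Lpr_ff (f656888 IH) (Lpn (LP (LK LD1_c14 LD2_c10 LD3_c35))))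
theorem f489514 : Led Lsl_ct (LP (LK LD1_c14 LD2_c10 LD3_c35)) = (LP (LK LD1_c7 LD2_c30 LD3_c24)) :=
  Lre_c IH (LK LD1_c14 LD2_c10 LD3_c35) (LK LD1_c7 LD2_c30 LD3_c24) Lrfl Lrfl
theorem f656900 : Led Lsl_ff (LP (LK LD1_c3 LD2_c52 LD3_c32)) = (LP (LK LD1_c7 LD2_c30 LD3_c24)) :=
  Lgr Lrot23 (Lpr_ct (K33.f16040 IH) (Lpr_ft (f656896 IH) (Lpr_ct (f489514 IH) (Lpn (LP (LK LD1_c7 LD2_c30 LD3_c24))))))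
theorem f655287 : Led Lsl_at (LP (LK LD1_c3 LD2_c52 LD3_c32)) = (LP (LK LD1_c7 LD2_c2 LD3_c38)) :=
  Lgr Lrot100 (Lpr_af (f655285 IH) (Lpn (LP (LK LD1_c7 LD2_c2 LD3_c38))))
theorem f655283 : Led Lsl_ff (LP (LK LD1_c3 LD2_c52 LD3_c31)) = (LP (LK LD1_c7 LD2_c2 LD3_c38)) :=
  Lgr Lrot3 (Lpr_ft (f655277 IH) (Lpn (LP (LK LD1_c7 LD2_c2 LD3_c38))))
theorem f656902 : Led Lsl_at (LP (LK LD1_c3 LD2_c52 LD3_c31)) = (LP (LK LD1_c7 LD2_c30 LD3_c24)) :=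
  Lgr Lrot66 (Lpr_ff (f655283 IH) (Lpe (f655287 IH) (Lpr_ff (f656900 IH) (Lpn (LP (LK LD1_c7 LD2_c30 LD3_c24))))))
theorem f534872 : Led Lsl_ct (LP (LK LD1_c7 LD2_c46 LD3_c54)) = (LP (LK LD1_c3 LD2_c52 LD3_c31)) :=
  Lre_c IH (LK LD1_c7 LD2_c46 LD3_c54) (LK LD1_c3 LD2_c52 LD3_c31) Lrfl Lrfl
theorem f656970 : Led Lsl_af (LP (LK LD1_c7 LD2_c46 LD3_c54)) = (LP (LK LD1_c14 LD2_c10 LD3_c35)) :=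
  Lgr Lrot68 (Lpr_ct (f534872 IH) (Lpr_at (f656902 IH) (Lpr_ct (f457735 IH) (Lpn (LP (LK LD1_c14 LD2_c10 LD3_c35))))))
theorem f656974 : Led Lsl_gf (LP (LK LD1_c7 LD2_c46 LD3_c54)) = (LP (LK LD1_c7 LD2_c37 LD3_c52)) :=
  Lgr Lrot76 (Lpr_af (f656970 IH) (Lpe (f656896 IH) (Lpr_gt (K33.f519654 IH) (Lpn (LP (LK LD1_c7 LD2_c37 LD3_c52))))))
theorem f534870 : Led Lsl_bt (LP (LK LD1_c3 LD2_c52 LD3_c31)) = (LP (LK LD1_c7 LD2_c46 LD3_c53)) :=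
  Lre_b IH (LK LD1_c3 LD2_c52 LD3_c31) (LK LD1_c7 LD2_c46 LD3_c53) Lrfl Lrfl
theorem f655174 : Led Lsl_bt (LP (LK LD1_c13 LD2_c21 LD3_c18)) = (LP (LK LD1_c7 LD2_c2 LD3_c39)) :=
  Lre_b IH (LK LD1_c13 LD2_c21 LD3_c18) (LK LD1_c7 LD2_c2 LD3_c39) Lrfl Lrfl
theorem f655270 : Led Lsl_df (LP (LK LD1_c3 LD2_c52 LD3_c31)) = (LP (LK LD1_c7 LD2_c2 LD3_c39)) :=
  Lgr Lrot12 (Lpr_bt (f534870 IH) (Lpr_dt (f655260 IH) (Lpr_bt (f655174 IH) (Lpn (LP (LK LD1_c7 LD2_c2 LD3_c39))))))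
theorem f129758 : Led Lsl_dt (LP (LK LD1_c7 LD2_c3 LD3_c29)) = (LP (LK LD1_c3 LD2_c30 LD3_c43)) :=
  Lre_d IH (LK LD1_c7 LD2_c3 LD3_c29) (LK LD1_c3 LD2_c30 LD3_c43) Lrfl Lrfl
theorem f481483 : Led Lsl_gt (LP (LK LD1_c3 LD2_c38 LD3_c59)) = (LP (LK LD1_c7 LD2_c18 LD3_c21)) :=
  Lre_g IH (LK LD1_c3 LD2_c38 LD3_c59) (LK LD1_c7 LD2_c18 LD3_c21) Lrfl Lrfl
theorem f656978 : Led Lsl_cf (LP (LK LD1_c7 LD2_c2 LD3_c39)) = (LP (LK LD1_c7 LD2_c18 LD3_c21)) :=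
  Lgr Lrot175 (Lpe (f655270 IH) (Lpe (f534872 IH) (Lpr_gf (f656974 IH) (Lpe (f17437 IH) (Lpr_gf (K34.f461583 IH) (Lpr_dt (f129758 IH) (Lpr_gt (K30.f477932 IH) (Lpr_ct (K33.f482959 IH) (Lpr_gt (f481483 IH) (Lpn (LP (LK LD1_c7 LD2_c18 LD3_c21))))))))))))
theorem f656984 : Led Lsl_df (LP (LK LD1_c7 LD2_c2 LD3_c39)) = (LP (LK LD1_c3 LD2_c52 LD3_c31)) :=
  Lgr Lrot162 (Lpr_cf (f656978 IH) (Lpe (f481483 IH) (Lpe (K33.f482959 IH) (Lpe (K30.f477932 IH) (Lpr_dt (K34.f129781 IH) (Lpe (K34.f461583 IH) (Lpr_ct (f17437 IH) (Lpe (f656974 IH) (Lpr_ct (f534872 IH) (Lpn (LP (LK LD1_c3 LD2_c52 LD3_c31))))))))))))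
theorem f656980 : Led Lsl_ct (LP (LK LD1_c7 LD2_c2 LD3_c39)) = (LP (LK LD1_c7 LD2_c18 LD3_c21)) :=
  Lgr Lrot59 (Lpr_cf (f656978 IH) (Lpn (LP (LK LD1_c7 LD2_c18 LD3_c21))))
theorem f106688 : Led Lsl_gt (LP (LK LD1_c3 LD2_c34 LD3_c31)) = (LP (LK LD1_c7 LD2_c10 LD3_c7)) :=
  Lre_g IH (LK LD1_c3 LD2_c34 LD3_c31) (LK LD1_c7 LD2_c10 LD3_c7) Lrfl Lrfl
theorem f656986 : Led Lsl_df (LP (LK LD1_c7 LD2_c18 LD3_c21)) = (LP (LK LD1_c7 LD2_c10 LD3_c7)) :=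
  Lgr Lrot84 (Lpe (f656980 IH) (Lpr_df (f656984 IH) (Lpe (f17033 IH) (Lpe (K3.f15451 IH) (Lpe (K34.f17019 IH) (Lpr_cf (K34.f519653 IH) (Lpe (K33.f519650 IH) (Lpr_dt (K3.f106683 IH) (Lpr_gt (f106688 IH) (Lpn (LP (LK LD1_c7 LD2_c10 LD3_c7))))))))))))
theorem f656987 : Led Lsl_dt (LP (LK LD1_c7 LD2_c10 LD3_c7)) = (LP (LK LD1_c7 LD2_c18 LD3_c21)) :=
  Leop (Lpr_df (f656986 IH) (Lpn (LP (LK LD1_c7 LD2_c10 LD3_c7))))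
theorem seed_388 : LEOK LG_d (LK LD1_c7 LD2_c10 LD3_c7) :=
  Leoe_d (LK LD1_c7 LD2_c10 LD3_c7) (f656987 IH)
def v2602 : LQ := Led Lsl_ft (LP (LK LD1_c1 LD2_c49 LD3_c23))
theorem f527723 : Led Lsl_ft (LP (LK LD1_c1 LD2_c49 LD3_c23)) = v2602 :=
  Lrfl
theorem f129780 : Led Lsl_dt (LP (LK LD1_c0 LD2_c51 LD3_c29)) = (LP (LK LD1_c1 LD2_c49 LD3_c23)) :=
  Lre_d IH (LK LD1_c0 LD2_c51 LD3_c29) (LK LD1_c1 LD2_c49 LD3_c23) Lrfl Lrfl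
theorem f446565 : Led Lsl_ft (LP (LK LD1_c1 LD2_c49 LD3_c24)) = (LP (LK LD1_c0 LD2_c51 LD3_c29)) :=
  Lre_f IH (LK LD1_c1 LD2_c49 LD3_c24) (LK LD1_c0 LD2_c51 LD3_c29) Lrfl Lrfl
theorem f527725 : Led Lsl_df (LP (LK LD1_c1 LD2_c49 LD3_c24)) = v2602 :=
  Lgr Lrot78 (Lpr_ft (f446565 IH) (Lpr_dt (f129780 IH) (Lpr_ft (f527723 IH) (Lpn v2602))))
theorem f527726 : Led Lsl_ff (LP (LK LD1_c1 LD2_c49 LD3_c23)) = v2602 :=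
  Lgr Lrot3 (Lpr_ft (f527723 IH) (Lpn v2602))
theorem f11141 : Led Lsl_at (LP (LK LD1_c1 LD2_c49 LD3_c23)) = (LP (LK LD1_c0 LD2_c53 LD3_c16)) :=
  Lre_a IH (LK LD1_c1 LD2_c49 LD3_c23) (LK LD1_c0 LD2_c53 LD3_c16) Lrfl Lrfl
def v876 : LQ := Led Lsl_gf (LP (LK LD1_c0 LD2_c53 LD3_c16))
theorem f490197 : Led Lsl_gf (LP (LK LD1_c0 LD2_c53 LD3_c16)) = v876 :=
  Lrfl
theorem f527730 : Led Lsl_gf v876 = v2602 :=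
  Lgr Lrot47 (Lpe (f490197 IH) (Lpe (f11141 IH) (Lpr_ff (f527726 IH) (Lpn v2602))))
theorem f110036 : Led Lsl_et (LP (LK LD1_c0 LD2_c23 LD3_c58)) = (LP (LK LD1_c0 LD2_c10 LD3_c42)) :=
  Lre_e IH (LK LD1_c0 LD2_c23 LD3_c58) (LK LD1_c0 LD2_c10 LD3_c42) Lrfl Lrfl
theorem f62799 : Led Lsl_et (LP (LK LD1_c3 LD2_c29 LD3_c13)) = (LP (LK LD1_c1 LD2_c41 LD3_c18)) :=
  Lre_e IH (LK LD1_c3 LD2_c29 LD3_c13) (LK LD1_c1 LD2_c41 LD3_c18) Lrfl Lrfl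
theorem f490200 : Led Lsl_dt (LP (LK LD1_c3 LD2_c29 LD3_c13)) = v876 :=
  Lgr Lrot136 (Lpr_et (f62799 IH) (Lpe (K28.f18787 IH) (Lpe (K29.f18782 IH) (Lpr_dt (K2.f58193 IH) (Lpr_gf (K4.f110027 IH) (Lpe (K3.f87617 IH) (Lpe (K2.f9901 IH) (Lpe (f110036 IH) (Lpr_dt (K34.f110037 IH) (Lpr_gf (f490197 IH) (Lpn v876)))))))))))
theorem f513678 : Led Lsl_af (LP (LK LD1_c3 LD2_c30 LD3_c48)) = v876 :=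
  Lgr Lrot117 (Lpr_dt (K34.f129755 IH) (Lpr_at (K34.f513672 IH) (Lpr_dt (f490200 IH) (Lpn v876))))
theorem f513679 : Led Lsl_at (LP (LK LD1_c3 LD2_c30 LD3_c48)) = v876 :=
  Lgr Lrot100 (Lpr_af (f513678 IH) (Lpn v876))
theorem f527731 : Led Lsl_gt (LP (LK LD1_c1 LD2_c53 LD3_c22)) = v2602 :=
  Lgr Lrot5 (Lpe (K34.f513920 IH) (Lpr_at (f513679 IH) (Lpr_gf (f527730 IH) (Lpn v2602))))
theorem f513851 : Led Lsl_cf (LP (LK LD1_c13 LD2_c23 LD3_c7)) = (LP (LK LD1_c7 LD2_c46 LD3_c59)) :=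
  Lgr Lrot11 (Lpr_ct (K34.f513845 IH) (Lpn (LP (LK LD1_c7 LD2_c46 LD3_c59))))
theorem f15463 : Led Lsl_gt (LP (LK LD1_c3 LD2_c52 LD3_c33)) = (LP (LK LD1_c7 LD2_c46 LD3_c59)) :=
  Lre_g IH (LK LD1_c3 LD2_c52 LD3_c33) (LK LD1_c7 LD2_c46 LD3_c59) Lrfl Lrfl
theorem f492079 : Led Lsl_et (LP (LK LD1_c7 LD2_c24 LD3_c50)) = (LP (LK LD1_c3 LD2_c52 LD3_c3)) :=
  Lgr Lrot74 (Lpe (K34.f474266 IH) (Lpr_ef (K34.f492077 IH) (Lpe (K37.f463995 IH) (Lpn (LP (LK LD1_c3 LD2_c52 LD3_c3))))))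
theorem f491898 : Led Lsl_gf (LP (LK LD1_c3 LD2_c52 LD3_c57)) = (LP (LK LD1_c3 LD2_c52 LD3_c3)) :=
  Lgr Lrot143 (Lpr_dt (K29.f458089 IH) (Lpr_cf (K29.f476332 IH) (Lpe (K29.f461180 IH) (Lpe (K29.f461165 IH) (Lpr_df (K29.f461150 IH) (Lpe (K29.f64994 IH) (Lpe (K29.f64993 IH) (Lpr_gt (K29.f460509 IH) (Lpr_dt (K33.f491881 IH) (Lpn (LP (LK LD1_c3 LD2_c52 LD3_c3))))))))))))
theorem f492231 : Led Lsl_gf (LP (LK LD1_c3 LD2_c42 LD3_c2)) = (LP (LK LD1_c6 LD2_c59 LD3_c61)) :=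
  Lgr Lrot141 (Lpe (K29.f456286 IH) (Lpr_dt (K29.f456291 IH) (Lpr_gt (K29.f456422 IH) (Lpr_df (K32.f474263 IH) (Lpr_et (f492079 IH) (Lpe (f491898 IH) (Lpr_dt (K29.f458089 IH) (Lpr_gt (f477263 IH) (Lpe (K29.f18761 IH) (Lpr_et (K43.f63701 IH) (Lpn (LP (LK LD1_c6 LD2_c59 LD3_c61)))))))))))))
theorem f513959 : Led Lsl_gf (LP (LK LD1_c3 LD2_c30 LD3_c49)) = (LP (LK LD1_c1 LD2_c47 LD3_c58)) :=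
  Lgr Lrot104 (Lpr_ct (K34.f513844 IH) (Lpe (K34.f461642 IH) (Lpr_cf (f513851 IH) (Lpe (f15463 IH) (Lpe (K28.f15462 IH) (Lpe (K3.f17040 IH) (Lpe (K3.f63687 IH) (Lpe (f492231 IH) (Lpr_ct (K30.f456272 IH) (Lpn (LP (LK LD1_c1 LD2_c47 LD3_c58))))))))))))
theorem f657034 : Led Lsl_gt (LP (LK LD1_c3 LD2_c42 LD3_c2)) = (LP (LK LD1_c7 LD2_c2 LD3_c39)) :=
  Lgr Lrot94 (Lpe (K29.f456278 IH) (Lpe (f513959 IH) (Lpr_dt (K34.f513915 IH) (Lpr_gt (f527731 IH) (Lpe (f527725 IH) (Lpe (K28.f14888 IH) (Lpe (K34.f443285 IH) (Lpe (f16027 IH) (Lpr_df (f655270 IH) (Lpn (LP (LK LD1_c7 LD2_c2 LD3_c39))))))))))))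
theorem f451393 : Led Lsl_ct (LP (LK LD1_c0 LD2_c53 LD3_c16)) = (LP (LK LD1_c1 LD2_c53 LD3_c23)) :=
  Lre_c IH (LK LD1_c0 LD2_c53 LD3_c16) (LK LD1_c1 LD2_c53 LD3_c23) Lrfl Lrfl
theorem f451394 : Led Lsl_gt (LP (LK LD1_c1 LD2_c53 LD3_c23)) = (LP (LK LD1_c3 LD2_c53 LD3_c33)) :=
  Lre_g IH (LK LD1_c1 LD2_c53 LD3_c23) (LK LD1_c3 LD2_c53 LD3_c33) Lrfl Lrfl
theorem f657036 : Led Lsl_ct (LP (LK LD1_c3 LD2_c53 LD3_c33)) = (LP (LK LD1_c7 LD2_c10 LD3_c7)) :=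
  Lgr Lrot110 (Lpe (f451394 IH) (Lpe (f451393 IH) (Lpr_gf (f490197 IH) (Lpe (f490200 IH) (Lpe (K29.f477419 IH) (Lpr_ct (K29.f456278 IH) (Lpr_gt (f657034 IH) (Lpr_ct (f656980 IH) (Lpr_df (f656986 IH) (Lpn (LP (LK LD1_c7 LD2_c10 LD3_c7))))))))))))
theorem f657037 : Led Lsl_ct (LP (LK LD1_c3 LD2_c53 LD3_c33)) = (LP (LK LD1_c7 LD2_c10 LD3_c7)) :=
  Leop (Lpe (f657036 IH) (Lpn (LP (LK LD1_c3 LD2_c53 LD3_c33))))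
theorem seed_389 : LEOK LG_c (LK LD1_c3 LD2_c53 LD3_c33) :=
  Leoe_c (LK LD1_c3 LD2_c53 LD3_c33) (f657037 IH)
def v6637 : LQ := Led Lsl_et (LP (LK LD1_c3 LD2_c24 LD3_c31))
theorem f654548 : Led Lsl_et (LP (LK LD1_c3 LD2_c24 LD3_c31)) = v6637 :=
  Lrfl
theorem f657372 : Led Lsl_af (LP (LK LD1_c3 LD2_c24 LD3_c56)) = v6637 :=
  Lgr Lrot50 (Lpr_et (K33.f19145 IH) (Lpr_at (f510481 IH) (Lpqs (f654645 IH) (Lpr_et (f654548 IH) (Lpn v6637)))))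
theorem f654550 : Led Lsl_ef (LP (LK LD1_c3 LD2_c24 LD3_c31)) = v6637 :=
  Lgr Lrot88 (Lpr_et (f654548 IH) (Lpn v6637))
theorem f18075 : Led Lsl_dt (LP (LK LD1_c1 LD2_c42 LD3_c9)) = (LP (LK LD1_c3 LD2_c31 LD3_c15)) :=
  Lre_d IH (LK LD1_c1 LD2_c42 LD3_c9) (LK LD1_c3 LD2_c31 LD3_c15) Lrfl Lrfl
theorem f654551 : Led Lsl_dt (LP (LK LD1_c3 LD2_c34 LD3_c54)) = v6637 :=
  Lgr Lrot77 (Lpe (K29.f490331 IH) (Lpe (f18075 IH) (Lpe (K28.f18074 IH) (Lpr_df (K28.f98727 IH) (Lpr_ef (f654550 IH) (Lpn v6637))))))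
theorem f657374 : Led Lsl_at (LP (LK LD1_c3 LD2_c35 LD3_c3)) = (LP (LK LD1_c3 LD2_c34 LD3_c54)) :=
  Lgr Lrot51 (Lpr_df (K33.f485642 IH) (Lpr_af (f657372 IH) (Lpe (f654551 IH) (Lpn (LP (LK LD1_c3 LD2_c34 LD3_c54))))))
theorem f657375 : Led Lsl_at (LP (LK LD1_c3 LD2_c35 LD3_c3)) = (LP (LK LD1_c3 LD2_c34 LD3_c54)) :=
  Leop (Lpe (f657374 IH) (Lpn (LP (LK LD1_c3 LD2_c35 LD3_c3))))
theorem seed_390 : LEOK LG_a (LK LD1_c3 LD2_c35 LD3_c3) :=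
  Leoe_a (LK LD1_c3 LD2_c35 LD3_c3) (f657375 IH)
def v6644 : LQ := Led Lsl_et (LP (LK LD1_c3 LD2_c24 LD3_c51))
theorem f657435 : Led Lsl_et (LP (LK LD1_c3 LD2_c24 LD3_c51)) = v6644 :=
  Lrfl
theorem f63704 : Led Lsl_et (LP (LK LD1_c3 LD2_c52 LD3_c32)) = (LP (LK LD1_c7 LD2_c46 LD3_c58)) :=
  Lre_e IH (LK LD1_c3 LD2_c52 LD3_c32) (LK LD1_c7 LD2_c46 LD3_c58) Lrfl Lrfl
theorem f64952 : Led Lsl_et (LP (LK LD1_c13 LD2_c21 LD3_c30)) = (LP (LK LD1_c7 LD2_c2 LD3_c38)) :=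
  Lre_e IH (LK LD1_c13 LD2_c21 LD3_c30) (LK LD1_c7 LD2_c2 LD3_c38) Lrfl Lrfl
theorem f655293 : Led Lsl_at (LP (LK LD1_c7 LD2_c46 LD3_c58)) = (LP (LK LD1_c13 LD2_c21 LD3_c30)) :=
  Lgr Lrot80 (Lpe (f63704 IH) (Lpr_af (f655285 IH) (Lpe (f64952 IH) (Lpn (LP (LK LD1_c13 LD2_c21 LD3_c30))))))
theorem f63703 : Led Lsl_et (LP (LK LD1_c13 LD2_c16 LD3_c58)) = (LP (LK LD1_c6 LD2_c59 LD3_c60)) :=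
  Lre_e IH (LK LD1_c13 LD2_c16 LD3_c58) (LK LD1_c6 LD2_c59 LD3_c60) Lrfl Lrfl
theorem f63705 : Led Lsl_df (LP (LK LD1_c13 LD2_c16 LD3_c58)) = (LP (LK LD1_c7 LD2_c46 LD3_c58)) :=
  Lgr Lrot70 (Lpr_et (f63703 IH) (Lpr_dt (K29.f63702 IH) (Lpr_et (K43.f63701 IH) (Lpr_dt (K3.f63687 IH) (Lpr_et (f63704 IH) (Lpn (LP (LK LD1_c7 LD2_c46 LD3_c58))))))))
theorem f64080 : Led Lsl_dt (LP (LK LD1_c13 LD2_c16 LD3_c58)) = (LP (LK LD1_c7 LD2_c46 LD3_c58)) :=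
  Lgr Lrot42 (Lpr_df (f63705 IH) (Lpn (LP (LK LD1_c7 LD2_c46 LD3_c58))))
theorem f64953 : Led Lsl_dt (LP (LK LD1_c13 LD2_c21 LD3_c30)) = (LP (LK LD1_c7 LD2_c2 LD3_c36)) :=
  Lre_d IH (LK LD1_c13 LD2_c21 LD3_c30) (LK LD1_c7 LD2_c2 LD3_c36) Lrfl Lrfl
theorem f655300 : Led Lsl_af (LP (LK LD1_c13 LD2_c16 LD3_c58)) = (LP (LK LD1_c7 LD2_c2 LD3_c36)) :=
  Lgr Lrot117 (Lpr_dt (f64080 IH) (Lpr_at (f655293 IH) (Lpr_dt (f64953 IH) (Lpn (LP (LK LD1_c7 LD2_c2 LD3_c36))))))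
theorem f64077 : Led Lsl_ct (LP (LK LD1_c13 LD2_c16 LD3_c58)) = (LP (LK LD1_c22 LD2_c32 LD3_c31)) :=
  Lre_c IH (LK LD1_c13 LD2_c16 LD3_c58) (LK LD1_c22 LD2_c32 LD3_c31) Lrfl Lrfl
theorem f655335 : Led Lsl_ct (LP (LK LD1_c13 LD2_c21 LD3_c27)) = (LP (LK LD1_c7 LD2_c2 LD3_c36)) :=
  Lre_c IH (LK LD1_c13 LD2_c21 LD3_c27) (LK LD1_c7 LD2_c2 LD3_c36) Lrfl Lrfl
theorem f655336 : Led Lsl_at (LP (LK LD1_c22 LD2_c32 LD3_c31)) = (LP (LK LD1_c13 LD2_c21 LD3_c27)) :=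
  Lgr Lrot107 (Lpe (f64077 IH) (Lpr_af (f655300 IH) (Lpe (f655335 IH) (Lpn (LP (LK LD1_c13 LD2_c21 LD3_c27))))))
theorem f468526 : Led Lsl_et (LP (LK LD1_c13 LD2_c16 LD3_c57)) = (LP (LK LD1_c22 LD2_c32 LD3_c31)) :=
  Lre_e IH (LK LD1_c13 LD2_c16 LD3_c57) (LK LD1_c22 LD2_c32 LD3_c31) Lrfl Lrfl
theorem f468789 : Led Lsl_et (LP (LK LD1_c13 LD2_c21 LD3_c27)) = (LP (LK LD1_c7 LD2_c2 LD3_c35)) :=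
  Lre_e IH (LK LD1_c13 LD2_c21 LD3_c27) (LK LD1_c7 LD2_c2 LD3_c35) Lrfl Lrfl
theorem f655345 : Led Lsl_af (LP (LK LD1_c13 LD2_c16 LD3_c57)) = (LP (LK LD1_c7 LD2_c2 LD3_c35)) :=
  Lgr Lrot50 (Lpr_et (f468526 IH) (Lpr_at (f655336 IH) (Lpr_et (f468789 IH) (Lpn (LP (LK LD1_c7 LD2_c2 LD3_c35))))))
theorem f477311 : Led Lsl_gf (LP (LK LD1_c13 LD2_c22 LD3_c59)) = (LP (LK LD1_c13 LD2_c17 LD3_c0)) :=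
  Lgr Lrot144 (Lpr_dt (K29.f477174 IH) (Lpr_gt (K29.f459857 IH) (Lpr_dt (K24.f459851 IH) (Lpe (K29.f64978 IH) (Lpe (K1.f64972 IH) (Lpe (K30.f458082 IH) (Lpe (K29.f458088 IH) (Lpr_gf (K29.f477308 IH) (Lpe (K29.f463838 IH) (Lpn (LP (LK LD1_c13 LD2_c17 LD3_c0))))))))))))
theorem f655350 : Led Lsl_ft (LP (LK LD1_c13 LD2_c17 LD3_c0)) = (LP (LK LD1_c7 LD2_c2 LD3_c35)) :=
  Lgr Lrot2 (Lpe (f477311 IH) (Lpr_gt (K29.f468537 IH) (Lpr_af (f655345 IH) (Lpn (LP (LK LD1_c7 LD2_c2 LD3_c35))))))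
theorem f477454 : Led Lsl_dt (LP (LK LD1_c7 LD2_c36 LD3_c59)) = (LP (LK LD1_c13 LD2_c17 LD3_c0)) :=
  Lgr Lrot173 (Lpe (K29.f457959 IH) (Lpe (K29.f477414 IH) (Lpr_cf (K29.f477433 IH) (Lpe (K29.f458436 IH) (Lpr_cf (K28.f458356 IH) (Lpe (K29.f63702 IH) (Lpe (K29.f64167 IH) (Lpe (K29.f468493 IH) (Lpe (K29.f443327 IH) (Lpr_df (K24.f64999 IH) (Lpr_cf (K29.f461896 IH) (Lpr_df (K24.f440183 IH) (Lpr_cf (K28.f463831 IH) (Lpe (K29.f463837 IH) (Lpe (K29.f463838 IH) (Lpn (LP (LK LD1_c13 LD2_c17 LD3_c0))))))))))))))))))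
theorem f655352 : Led Lsl_ff (LP (LK LD1_c7 LD2_c36 LD3_c59)) = (LP (LK LD1_c3 LD2_c52 LD3_c16)) :=
  Lgr Lrot19 (Lpr_dt (f477454 IH) (Lpr_ft (f655350 IH) (Lpe (K29.f468781 IH) (Lpn (LP (LK LD1_c3 LD2_c52 LD3_c16))))))
def v2687 : LQ := Led Lsl_at (LP (LK LD1_c1 LD2_c52 LD3_c47))
theorem f530404 : Led Lsl_at (LP (LK LD1_c1 LD2_c52 LD3_c47)) = v2687 :=
  Lrfl
theorem f530405 : Led Lsl_af (LP (LK LD1_c1 LD2_c52 LD3_c47)) = v2687 :=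
  Lgr Lrot0 (Lpr_at (f530404 IH) (Lpn v2687))
theorem f530408 : Led Lsl_ft (LP (LK LD1_c1 LD2_c52 LD3_c48)) = v2687 :=
  Lgr Lrot2 (Lpr_gt (K3.f63631 IH) (Lpr_gt (K29.f459876 IH) (Lpr_af (f530405 IH) (Lpn v2687))))
theorem f530410 : Led Lsl_ff (LP (LK LD1_c1 LD2_c52 LD3_c48)) = v2687 :=
  Lgr Lrot3 (Lpr_ft (f530408 IH) (Lpn v2687))
theorem f655359 : (LP (LK LD1_c3 LD2_c47 LD3_c58)) = v2687 :=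
  (Llr Lrot40 (Lpe (K29.f64172 IH) (Lpr_ff (f655352 IH) (Lpe (K29.f458474 IH) (Lpr_ff (f530410 IH) (Lpn v2687)))))).symm
theorem f477424 : Led Lsl_df (LP (LK LD1_c7 LD2_c34 LD3_c47)) = (LP (LK LD1_c3 LD2_c47 LD3_c58)) :=
  Lgr Lrot38 (Lpr_dt (K29.f477414 IH) (Lpn (LP (LK LD1_c3 LD2_c47 LD3_c58))))
theorem f655366 : Led Lsl_ff (LP (LK LD1_c3 LD2_c52 LD3_c17)) = (LP (LK LD1_c7 LD2_c34 LD3_c47)) :=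
  Lgr Lrot19 (Lpr_dt (K3.f63632 IH) (Lpr_ft (f530408 IH) (Lpq (f655359 IH) (Lpe (f477424 IH) (Lpn (LP (LK LD1_c7 LD2_c34 LD3_c47)))))))
theorem f655374 : Led Lsl_at (LP (LK LD1_c3 LD2_c52 LD3_c17)) = (LP (LK LD1_c7 LD2_c3 LD3_c2)) :=
  Lgr Lrot26 (Lpr_ff (f655366 IH) (Lpr_gt (K29.f477429 IH) (Lpe (K29.f477181 IH) (Lpn (LP (LK LD1_c7 LD2_c3 LD3_c2))))))
def v2688 : LQ := Led Lsl_ft (LP (LK LD1_c1 LD2_c52 LD3_c47))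
theorem f530412 : Led Lsl_ft (LP (LK LD1_c1 LD2_c52 LD3_c47)) = v2688 :=
  Lrfl
theorem f530413 : Led Lsl_af (LP (LK LD1_c1 LD2_c52 LD3_c48)) = v2688 :=
  Lgr Lrot45 (Lpr_ft (f530408 IH) (Lpe (f530405 IH) (Lpr_ft (f530412 IH) (Lpn v2688))))
theorem f655382 : v2688 = (LP (LK LD1_c3 LD2_c47 LD3_c59)) :=
  (Llr Lrot117 (Lpe (f530413 IH) (Lpr_dt (K29.f63641 IH) (Lpr_at (f655374 IH) (Lpe (K24.f64999 IH) (Lpn (LP (LK LD1_c3 LD2_c47 LD3_c59)))))))).symm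
theorem f478335 : Led Lsl_et (LP (LK LD1_c3 LD2_c52 LD3_c14)) = (LP (LK LD1_c1 LD2_c52 LD3_c47)) :=
  Lre_e IH (LK LD1_c3 LD2_c52 LD3_c14) (LK LD1_c1 LD2_c52 LD3_c47) Lrfl Lrfl
theorem f530414 : Led Lsl_ft (LP (LK LD1_c7 LD2_c46 LD3_c17)) = (LP (LK LD1_c3 LD2_c52 LD3_c14)) :=
  Lre_f IH (LK LD1_c7 LD2_c46 LD3_c17) (LK LD1_c3 LD2_c52 LD3_c14) Lrfl Lrfl
theorem f443351 : Led Lsl_ft (LP (LK LD1_c7 LD2_c37 LD3_c1)) = (LP (LK LD1_c14 LD2_c21 LD3_c36)) :=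
  Lre_f IH (LK LD1_c7 LD2_c37 LD3_c1) (LK LD1_c14 LD2_c21 LD3_c36) Lrfl Lrfl
theorem f655393 : Led Lsl_ef (LP (LK LD1_c7 LD2_c46 LD3_c17)) = (LP (LK LD1_c14 LD2_c21 LD3_c36)) :=
  Lgr Lrot21 (Lpr_ft (f530414 IH) (Lpr_et (f478335 IH) (Lpr_ft (f530412 IH) (Lpqs (f655382 IH) (Lpr_et (K34.f443330 IH) (Lpr_ft (f443351 IH) (Lpn (LP (LK LD1_c14 LD2_c21 LD3_c36)))))))))
theorem f655402 : Led Lsl_et (LP (LK LD1_c7 LD2_c46 LD3_c17)) = (LP (LK LD1_c14 LD2_c21 LD3_c36)) :=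
  Lgr Lrot87 (Lpr_ef (f655393 IH) (Lpn (LP (LK LD1_c14 LD2_c21 LD3_c36))))
theorem f655407 : Led Lsl_ct (LP (LK LD1_c14 LD2_c39 LD3_c18)) = (LP (LK LD1_c7 LD2_c46 LD3_c17)) :=
  Lre_c IH (LK LD1_c14 LD2_c39 LD3_c18) (LK LD1_c7 LD2_c46 LD3_c17) Lrfl Lrfl
theorem f443383 : Led Lsl_ct (LP (LK LD1_c14 LD2_c21 LD3_c36)) = (LP (LK LD1_c23 LD2_c59 LD3_c29)) :=
  Lre_c IH (LK LD1_c14 LD2_c21 LD3_c36) (LK LD1_c23 LD2_c59 LD3_c29) Lrfl Lrfl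
theorem f655408 : Led Lsl_ef (LP (LK LD1_c14 LD2_c39 LD3_c18)) = (LP (LK LD1_c23 LD2_c59 LD3_c29)) :=
  Lgr Lrot28 (Lpr_ct (f655407 IH) (Lpr_et (f655402 IH) (Lpr_ct (f443383 IH) (Lpn (LP (LK LD1_c23 LD2_c59 LD3_c29))))))
theorem f655411 : Led Lsl_ft (LP (LK LD1_c14 LD2_c39 LD3_c18)) = (LP (LK LD1_c7 LD2_c46 LD3_c13)) :=
  Lre_f IH (LK LD1_c14 LD2_c39 LD3_c18) (LK LD1_c7 LD2_c46 LD3_c13) Lrfl Lrfl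
theorem f468456 : Led Lsl_et (LP (LK LD1_c7 LD2_c46 LD3_c13)) = (LP (LK LD1_c3 LD2_c52 LD3_c12)) :=
  Lre_e IH (LK LD1_c7 LD2_c46 LD3_c13) (LK LD1_c3 LD2_c52 LD3_c12) Lrfl Lrfl
theorem f655412 : Led Lsl_ft (LP (LK LD1_c14 LD2_c21 LD3_c33)) = (LP (LK LD1_c23 LD2_c59 LD3_c29)) :=
  Lre_f IH (LK LD1_c14 LD2_c21 LD3_c33) (LK LD1_c23 LD2_c59 LD3_c29) Lrfl Lrfl
theorem f468529 : Led Lsl_et (LP (LK LD1_c7 LD2_c37 LD3_c0)) = (LP (LK LD1_c14 LD2_c21 LD3_c33)) :=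
  Lre_e IH (LK LD1_c7 LD2_c37 LD3_c0) (LK LD1_c14 LD2_c21 LD3_c33) Lrfl Lrfl
theorem f655413 : Led Lsl_ft (LP (LK LD1_c3 LD2_c52 LD3_c12)) = (LP (LK LD1_c7 LD2_c37 LD3_c0)) :=
  Lgr Lrot86 (Lpe (f468456 IH) (Lpe (f655411 IH) (Lpr_ef (f655408 IH) (Lpe (f655412 IH) (Lpe (f468529 IH) (Lpn (LP (LK LD1_c7 LD2_c37 LD3_c0))))))))
theorem f655417 : Led Lsl_ff (LP (LK LD1_c7 LD2_c2 LD3_c46)) = (LP (LK LD1_c13 LD2_c16 LD3_c57)) :=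
  Lgr Lrot19 (Lpe (K29.f468751 IH) (Lpr_ft (f655413 IH) (Lpr_dt (K29.f468493 IH) (Lpn (LP (LK LD1_c13 LD2_c16 LD3_c57))))))
theorem f655426 : Led Lsl_ft (LP (LK LD1_c7 LD2_c2 LD3_c46)) = (LP (LK LD1_c13 LD2_c16 LD3_c57)) :=
  Lgr Lrot48 (Lpr_ff (f655417 IH) (Lpn (LP (LK LD1_c13 LD2_c16 LD3_c57))))
theorem f654627 : Led Lsl_af (LP (LK LD1_c7 LD2_c2 LD3_c35)) = (LP (LK LD1_c13 LD2_c16 LD3_c57)) :=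
  Lgr Lrot68 (Lpr_ct (K29.f443528 IH) (Lpr_at (f654619 IH) (Lpr_ct (f18762 IH) (Lpn (LP (LK LD1_c13 LD2_c16 LD3_c57))))))
theorem f654611 : Led Lsl_ft (LP (LK LD1_c7 LD2_c2 LD3_c35)) = (LP (LK LD1_c13 LD2_c17 LD3_c0)) :=
  Lgr Lrot4 (Lpe (K29.f443530 IH) (Lpr_ff (f654607 IH) (Lpe (K29.f463838 IH) (Lpn (LP (LK LD1_c13 LD2_c17 LD3_c0))))))
theorem f655428 : Led Lsl_af (LP (LK LD1_c7 LD2_c2 LD3_c46)) = (LP (LK LD1_c13 LD2_c17 LD3_c0)) :=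
  Lgr Lrot45 (Lpr_ft (f655426 IH) (Lpe (f654627 IH) (Lpr_ft (f654611 IH) (Lpn (LP (LK LD1_c13 LD2_c17 LD3_c0))))))
theorem f468754 : Led Lsl_et (LP (LK LD1_c7 LD2_c2 LD3_c46)) = (LP (LK LD1_c13 LD2_c21 LD3_c47)) :=
  Lre_e IH (LK LD1_c7 LD2_c2 LD3_c46) (LK LD1_c13 LD2_c21 LD3_c47) Lrfl Lrfl
theorem f463920 : Led Lsl_et (LP (LK LD1_c22 LD2_c32 LD3_c40)) = (LP (LK LD1_c13 LD2_c17 LD3_c0)) :=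
  Lre_e IH (LK LD1_c22 LD2_c32 LD3_c40) (LK LD1_c13 LD2_c17 LD3_c0) Lrfl Lrfl
theorem f655439 : Led Lsl_at (LP (LK LD1_c13 LD2_c21 LD3_c47)) = (LP (LK LD1_c22 LD2_c32 LD3_c40)) :=
  Lgr Lrot80 (Lpe (f468754 IH) (Lpr_af (f655428 IH) (Lpe (f463920 IH) (Lpn (LP (LK LD1_c22 LD2_c32 LD3_c40))))))
theorem f487007 : Led Lsl_ct (LP (LK LD1_c7 LD2_c2 LD3_c47)) = (LP (LK LD1_c13 LD2_c21 LD3_c47)) :=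
  Lre_c IH (LK LD1_c7 LD2_c2 LD3_c47) (LK LD1_c13 LD2_c21 LD3_c47) Lrfl Lrfl
theorem f655443 : Led Lsl_ct (LP (LK LD1_c22 LD2_c32 LD3_c40)) = (LP (LK LD1_c13 LD2_c17 LD3_c1)) :=
  Lre_c IH (LK LD1_c22 LD2_c32 LD3_c40) (LK LD1_c13 LD2_c17 LD3_c1) Lrfl Lrfl
theorem f655444 : Led Lsl_af (LP (LK LD1_c7 LD2_c2 LD3_c47)) = (LP (LK LD1_c13 LD2_c17 LD3_c1)) :=
  Lgr Lrot68 (Lpr_ct (f487007 IH) (Lpr_at (f655439 IH) (Lpr_ct (f655443 IH) (Lpn (LP (LK LD1_c13 LD2_c17 LD3_c1))))))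
theorem f655447 : Led Lsl_at (LP (LK LD1_c7 LD2_c2 LD3_c47)) = (LP (LK LD1_c13 LD2_c17 LD3_c1)) :=
  Lgr Lrot100 (Lpr_af (f655444 IH) (Lpn (LP (LK LD1_c13 LD2_c17 LD3_c1))))
theorem f655477 : Led Lsl_et (LP (LK LD1_c3 LD2_c30 LD3_c25)) = (LP (LK LD1_c7 LD2_c2 LD3_c47)) :=
  Lre_e IH (LK LD1_c3 LD2_c30 LD3_c25) (LK LD1_c7 LD2_c2 LD3_c47) Lrfl Lrfl
theorem f477318 : Led Lsl_et (LP (LK LD1_c13 LD2_c17 LD3_c1)) = (LP (LK LD1_c7 LD2_c0 LD3_c1)) :=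
  Lre_e IH (LK LD1_c13 LD2_c17 LD3_c1) (LK LD1_c7 LD2_c0 LD3_c1) Lrfl Lrfl
theorem f655482 : Led Lsl_af (LP (LK LD1_c3 LD2_c30 LD3_c25)) = (LP (LK LD1_c7 LD2_c0 LD3_c1)) :=
  Lgr Lrot50 (Lpr_et (f655477 IH) (Lpr_at (f655447 IH) (Lpr_et (f477318 IH) (Lpn (LP (LK LD1_c7 LD2_c0 LD3_c1))))))
theorem f468760 : Led Lsl_bt (LP (LK LD1_c3 LD2_c30 LD3_c25)) = (LP (LK LD1_c7 LD2_c2 LD3_c43)) :=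
  Lre_b IH (LK LD1_c3 LD2_c30 LD3_c25) (LK LD1_c7 LD2_c2 LD3_c43) Lrfl Lrfl
theorem f655484 : Led Lsl_at (LP (LK LD1_c7 LD2_c2 LD3_c43)) = (LP (LK LD1_c13 LD2_c21 LD3_c35)) :=
  Lre_a IH (LK LD1_c7 LD2_c2 LD3_c43) (LK LD1_c13 LD2_c21 LD3_c35) Lrfl Lrfl
theorem f477317 : Led Lsl_bt (LP (LK LD1_c13 LD2_c16 LD3_c61)) = (LP (LK LD1_c7 LD2_c0 LD3_c1)) :=
  Lre_b IH (LK LD1_c13 LD2_c16 LD3_c61) (LK LD1_c7 LD2_c0 LD3_c1) Lrfl Lrfl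
theorem f655485 : Led Lsl_at (LP (LK LD1_c22 LD2_c32 LD3_c36)) = (LP (LK LD1_c13 LD2_c16 LD3_c61)) :=
  Lre_a IH (LK LD1_c22 LD2_c32 LD3_c36) (LK LD1_c13 LD2_c16 LD3_c61) Lrfl Lrfl
theorem f655486 : Led Lsl_bt (LP (LK LD1_c13 LD2_c21 LD3_c35)) = (LP (LK LD1_c22 LD2_c32 LD3_c36)) :=
  Lgr Lrot62 (Lpe (f655484 IH) (Lpe (f468760 IH) (Lpr_af (f655482 IH) (Lpe (f477317 IH) (Lpe (f655485 IH) (Lpn (LP (LK LD1_c22 LD2_c32 LD3_c36))))))))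
theorem f655491 : Led Lsl_dt (LP (LK LD1_c7 LD2_c2 LD3_c41)) = (LP (LK LD1_c13 LD2_c21 LD3_c35)) :=
  Lre_d IH (LK LD1_c7 LD2_c2 LD3_c41) (LK LD1_c13 LD2_c21 LD3_c35) Lrfl Lrfl
theorem f469872 : Led Lsl_dt (LP (LK LD1_c22 LD2_c32 LD3_c36)) = (LP (LK LD1_c13 LD2_c16 LD3_c60)) :=
  Lre_d IH (LK LD1_c22 LD2_c32 LD3_c36) (LK LD1_c13 LD2_c16 LD3_c60) Lrfl Lrfl
theorem f655492 : Led Lsl_bf (LP (LK LD1_c7 LD2_c2 LD3_c41)) = (LP (LK LD1_c13 LD2_c16 LD3_c60)) :=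
  Lgr Lrot93 (Lpr_dt (f655491 IH) (Lpr_bt (f655486 IH) (Lpr_dt (f469872 IH) (Lpn (LP (LK LD1_c13 LD2_c16 LD3_c60))))))
theorem f469844 : Led Lsl_at (LP (LK LD1_c7 LD2_c0 LD3_c0)) = (LP (LK LD1_c13 LD2_c16 LD3_c60)) :=
  Lre_a IH (LK LD1_c7 LD2_c0 LD3_c0) (LK LD1_c13 LD2_c16 LD3_c60) Lrfl Lrfl
theorem f469845 : Led Lsl_cf (LP (LK LD1_c13 LD2_c56 LD3_c0)) = (LP (LK LD1_c13 LD2_c16 LD3_c60)) :=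
  Lgr Lrot1 (Lpr_at (f469804 IH) (Lpr_ct (K34.f469839 IH) (Lpr_at (f469844 IH) (Lpn (LP (LK LD1_c13 LD2_c16 LD3_c60))))))
theorem f655500 : Led Lsl_gt (LP (LK LD1_c7 LD2_c2 LD3_c41)) = (LP (LK LD1_c12 LD2_c36 LD3_c5)) :=
  Lgr Lrot82 (Lpr_bf (f655492 IH) (Lpe (f469845 IH) (Lpr_gf (f655214 IH) (Lpe (K28.f464372 IH) (Lpr_bt (K28.f98772 IH) (Lpe (K24.f98741 IH) (Lpe (K43.f458447 IH) (Lpr_ct (K28.f458455 IH) (Lpe (K43.f575250 IH) (Lpr_cf (K43.f137157 IH) (Lpn (LP (LK LD1_c12 LD2_c36 LD3_c5)))))))))))))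
theorem f458408 : Led Lsl_at (LP (LK LD1_c13 LD2_c16 LD3_c54)) = (LP (LK LD1_c6 LD2_c59 LD3_c59)) :=
  Lre_a IH (LK LD1_c13 LD2_c16 LD3_c54) (LK LD1_c6 LD2_c59 LD3_c59) Lrfl Lrfl
theorem f655504 : Led Lsl_ft (LP (LK LD1_c7 LD2_c2 LD3_c41)) = (LP (LK LD1_c13 LD2_c16 LD3_c54)) :=
  Lgr Lrot2 (Lpr_gt (f655500 IH) (Lpr_gt (K43.f575226 IH) (Lpe (f458408 IH) (Lpn (LP (LK LD1_c13 LD2_c16 LD3_c54))))))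
theorem f655536 : Led Lsl_ff (LP (LK LD1_c7 LD2_c2 LD3_c41)) = (LP (LK LD1_c13 LD2_c16 LD3_c54)) :=
  Lgr Lrot3 (Lpr_ft (f655504 IH) (Lpn (LP (LK LD1_c13 LD2_c16 LD3_c54))))
theorem f511991 : Led Lsl_at (LP (LK LD1_c7 LD2_c2 LD3_c41)) = (LP (LK LD1_c3 LD2_c30 LD3_c23)) :=
  Lre_a IH (LK LD1_c7 LD2_c2 LD3_c41) (LK LD1_c3 LD2_c30 LD3_c23) Lrfl Lrfl
theorem f458524 : Led Lsl_gt (LP (LK LD1_c7 LD2_c2 LD3_c40)) = (LP (LK LD1_c3 LD2_c30 LD3_c23)) :=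
  Lre_g IH (LK LD1_c7 LD2_c2 LD3_c40) (LK LD1_c3 LD2_c30 LD3_c23) Lrfl Lrfl
theorem f655546 : Led Lsl_gf (LP (LK LD1_c7 LD2_c2 LD3_c40)) = (LP (LK LD1_c13 LD2_c16 LD3_c54)) :=
  Lgr Lrot47 (Lpr_gt (f458524 IH) (Lpe (f511991 IH) (Lpr_ff (f655536 IH) (Lpn (LP (LK LD1_c13 LD2_c16 LD3_c54))))))
theorem f588911 : Led Lsl_ct (LP (LK LD1_c20 LD2_c8 LD3_c6)) = (LP (LK LD1_c15 LD2_c3 LD3_c53)) :=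
  Lgr Lrot110 (Lpr_gf (K45.f588907 IH) (Lpe (K45.f411858 IH) (Lpr_gf (K45.f411856 IH) (Lpe (K38.f269012 IH) (Lpe (K31.f281794 IH) (Lpr_ct (K36.f536078 IH) (Lpe (K39.f549907 IH) (Lpe (K39.f542199 IH) (Lpe (K39.f181357 IH) (Lpn (LP (LK LD1_c15 LD2_c3 LD3_c53))))))))))))
theorem f589836 : Led Lsl_ft (LP (LK LD1_c15 LD2_c3 LD3_c53)) = (LP (LK LD1_c9 LD2_c45 LD3_c33)) :=
  Lgr Lrot4 (Lpe (f588911 IH) (Lpr_ff (K45.f589831 IH) (Lpe (K40.f181490 IH) (Lpn (LP (LK LD1_c9 LD2_c45 LD3_c33))))))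
theorem f554457 : Led Lsl_dt (LP (LK LD1_c8 LD2_c1 LD3_c48)) = (LP (LK LD1_c15 LD2_c7 LD3_c10)) :=
  Lre_d IH (LK LD1_c8 LD2_c1 LD3_c48) (LK LD1_c15 LD2_c7 LD3_c10) Lrfl Lrfl
theorem f588479 : Led Lsl_ff (LP (LK LD1_c11 LD2_c12 LD3_c54)) = (LP (LK LD1_c15 LD2_c7 LD3_c10)) :=
  Lgr Lrot19 (Lpr_dt (K39.f380615 IH) (Lpr_ft (K45.f588477 IH) (Lpr_dt (f554457 IH) (Lpn (LP (LK LD1_c15 LD2_c7 LD3_c10))))))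
theorem f589854 : Led Lsl_at (LP (LK LD1_c9 LD2_c45 LD3_c33)) = (LP (LK LD1_c15 LD2_c7 LD3_c10)) :=
  Lgr Lrot66 (Lpe (f589836 IH) (Lpr_af (K45.f589840 IH) (Lpr_ff (f588479 IH) (Lpn (LP (LK LD1_c15 LD2_c7 LD3_c10))))))
theorem f577587 : Led Lsl_bt (LP (LK LD1_c12 LD2_c9 LD3_c14)) = (LP (LK LD1_c9 LD2_c45 LD3_c33)) :=
  Lgr Lrot95 (Lpe (K45.f575925 IH) (Lpr_bf (K43.f577580 IH) (Lpe (K39.f181511 IH) (Lpn (LP (LK LD1_c9 LD2_c45 LD3_c33))))))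
theorem f588351 : Led Lsl_ft (LP (LK LD1_c15 LD2_c7 LD3_c6)) = (LP (LK LD1_c8 LD2_c1 LD3_c50)) :=
  Lre_f IH (LK LD1_c15 LD2_c7 LD3_c6) (LK LD1_c8 LD2_c1 LD3_c50) Lrfl Lrfl
theorem f588352 : Led Lsl_at (LP (LK LD1_c8 LD2_c1 LD3_c50)) = (LP (LK LD1_c15 LD2_c4 LD3_c0)) :=
  Lgr Lrot26 (Lpe (f588351 IH) (Lpr_gt (K45.f588344 IH) (Lpr_gt (K45.f588030 IH) (Lpn (LP (LK LD1_c15 LD2_c4 LD3_c0))))))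
theorem f588018 : Led Lsl_bt (LP (LK LD1_c15 LD2_c4 LD3_c0)) = (LP (LK LD1_c7 LD2_c59 LD3_c25)) :=
  Lre_b IH (LK LD1_c15 LD2_c4 LD3_c0) (LK LD1_c7 LD2_c59 LD3_c25) Lrfl Lrfl
theorem f589856 : Led Lsl_af (LP (LK LD1_c12 LD2_c9 LD3_c14)) = (LP (LK LD1_c7 LD2_c59 LD3_c25)) :=
  Lgr Lrot36 (Lpr_bt (f577587 IH) (Lpr_at (f589854 IH) (Lpr_bt (K39.f554448 IH) (Lpr_at (f588352 IH) (Lpr_bt (f588018 IH) (Lpn (LP (LK LD1_c7 LD2_c59 LD3_c25))))))))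
theorem f574018 : Led Lsl_et (LP (LK LD1_c15 LD2_c4 LD3_c2)) = (LP (LK LD1_c7 LD2_c59 LD3_c25)) :=
  Lre_e IH (LK LD1_c15 LD2_c4 LD3_c2) (LK LD1_c7 LD2_c59 LD3_c25) Lrfl Lrfl
theorem f589858 : Led Lsl_at (LP (LK LD1_c14 LD2_c25 LD3_c32)) = (LP (LK LD1_c15 LD2_c4 LD3_c2)) :=
  Lgr Lrot80 (Lpe (K45.f577599 IH) (Lpr_af (f589856 IH) (Lpe (f574018 IH) (Lpn (LP (LK LD1_c15 LD2_c4 LD3_c2))))))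
theorem f88611 : Led Lsl_dt (LP (LK LD1_c7 LD2_c39 LD3_c12)) = (LP (LK LD1_c14 LD2_c25 LD3_c32)) :=
  Lre_d IH (LK LD1_c7 LD2_c39 LD3_c12) (LK LD1_c14 LD2_c25 LD3_c32) Lrfl Lrfl
theorem f589868 : Led Lsl_df (LP (LK LD1_c13 LD2_c40 LD3_c24)) = (LP (LK LD1_c15 LD2_c4 LD3_c2)) :=
  Lgr Lrot18 (Lpr_at (K36.f501713 IH) (Lpr_dt (f88611 IH) (Lpr_at (f589858 IH) (Lpn (LP (LK LD1_c15 LD2_c4 LD3_c2))))))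
theorem f589878 : Led Lsl_dt (LP (LK LD1_c13 LD2_c40 LD3_c24)) = (LP (LK LD1_c15 LD2_c4 LD3_c2)) :=
  Lgr Lrot42 (Lpr_df (f589868 IH) (Lpn (LP (LK LD1_c15 LD2_c4 LD3_c2))))
theorem f427166 : Led Lsl_et (LP (LK LD1_c3 LD2_c46 LD3_c20)) = (LP (LK LD1_c7 LD2_c33 LD3_c44)) :=
  Lre_e IH (LK LD1_c3 LD2_c46 LD3_c20) (LK LD1_c7 LD2_c33 LD3_c44) Lrfl Lrfl
theorem f493279 : Led Lsl_gf (LP (LK LD1_c14 LD2_c20 LD3_c33)) = (LP (LK LD1_c13 LD2_c30 LD3_c27)) :=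
  Lgr Lrot129 (Lpr_cf (K41.f493276 IH) (Lpe (K41.f488342 IH) (Lpr_gt (K41.f465374 IH) (Lpe (K28.f465232 IH) (Lpe (K41.f465235 IH) (Lpr_gt (K29.f470912 IH) (Lpr_cf (K3.f97329 IH) (Lpr_bt (K41.f96853 IH) (Lpr_gt (K41.f96859 IH) (Lpr_ct (K41.f97360 IH) (Lpn (LP (LK LD1_c13 LD2_c30 LD3_c27)))))))))))))
theorem f475862 : Led Lsl_ct (LP (LK LD1_c24 LD2_c28 LD3_c13)) = (LP (LK LD1_c14 LD2_c42 LD3_c55)) :=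
  Lre_c IH (LK LD1_c24 LD2_c28 LD3_c13) (LK LD1_c14 LD2_c42 LD3_c55) Lrfl Lrfl
theorem f96856 : Led Lsl_dt (LP (LK LD1_c7 LD2_c7 LD3_c55)) = (LP (LK LD1_c3 LD2_c33 LD3_c31)) :=
  Lre_d IH (LK LD1_c7 LD2_c7 LD3_c55) (LK LD1_c3 LD2_c33 LD3_c31) Lrfl Lrfl
theorem f470943 : Led Lsl_gt (LP (LK LD1_c7 LD2_c7 LD3_c55)) = (LP (LK LD1_c13 LD2_c30 LD3_c32)) :=
  Lre_g IH (LK LD1_c7 LD2_c7 LD3_c55) (LK LD1_c13 LD2_c30 LD3_c32) Lrfl Lrfl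
theorem f471087 : Led Lsl_ct (LP (LK LD1_c13 LD2_c30 LD3_c32)) = (LP (LK LD1_c22 LD2_c51 LD3_c16)) :=
  Lre_c IH (LK LD1_c13 LD2_c30 LD3_c32) (LK LD1_c22 LD2_c51 LD3_c16) Lrfl Lrfl
theorem f493283 : Led Lsl_gf (LP (LK LD1_c24 LD2_c28 LD3_c13)) = (LP (LK LD1_c22 LD2_c51 LD3_c16)) :=
  Lgr Lrot104 (Lpr_ct (f475862 IH) (Lpe (K41.f471488 IH) (Lpe (K41.f493270 IH) (Lpr_gf (f493279 IH) (Lpe (K41.f97360 IH) (Lpe (K41.f96859 IH) (Lpe (f96856 IH) (Lpr_gt (f470943 IH) (Lpr_ct (f471087 IH) (Lpn (LP (LK LD1_c22 LD2_c51 LD3_c16))))))))))))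
theorem f475864 : Led Lsl_ct (LP (LK LD1_c14 LD2_c42 LD3_c55)) = (LP (LK LD1_c24 LD2_c28 LD3_c13)) :=
  Lre_c IH (LK LD1_c14 LD2_c42 LD3_c55) (LK LD1_c24 LD2_c28 LD3_c13) Lrfl Lrfl
theorem f425531 : Led Lsl_bt (LP (LK LD1_c3 LD2_c33 LD3_c33)) = (LP (LK LD1_c7 LD2_c7 LD3_c55)) :=
  Lre_b IH (LK LD1_c3 LD2_c33 LD3_c33) (LK LD1_c7 LD2_c7 LD3_c55) Lrfl Lrfl
theorem f97339 : Led Lsl_gt (LP (LK LD1_c13 LD2_c30 LD3_c45)) = (LP (LK LD1_c7 LD2_c8 LD3_c0)) :=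
  Lre_g IH (LK LD1_c13 LD2_c30 LD3_c45) (LK LD1_c7 LD2_c8 LD3_c0) Lrfl Lrfl
theorem f470914 : Led Lsl_ct (LP (LK LD1_c7 LD2_c13 LD3_c57)) = (LP (LK LD1_c13 LD2_c30 LD3_c45)) :=
  Lgr Lrot152 (Lpr_gf (K28.f160441 IH) (Lpe (K28.f160246 IH) (Lpe (K28.f160452 IH) (Lpe (K41.f465235 IH) (Lpr_gt (K29.f470912 IH) (Lpr_ct (K3.f97325 IH) (Lpe (K28.f97337 IH) (Lpe (K32.f97338 IH) (Lpe (f97339 IH) (Lpn (LP (LK LD1_c13 LD2_c30 LD3_c45))))))))))))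
theorem f97041 : Led Lsl_bt (LP (LK LD1_c7 LD2_c13 LD3_c57)) = (LP (LK LD1_c13 LD2_c41 LD3_c13)) :=
  Lre_b IH (LK LD1_c7 LD2_c13 LD3_c57) (LK LD1_c13 LD2_c41 LD3_c13) Lrfl Lrfl
theorem f493286 : Led Lsl_gt (LP (LK LD1_c23 LD2_c6 LD3_c38)) = (LP (LK LD1_c13 LD2_c41 LD3_c13)) :=
  Lgr Lrot164 (Lpr_bf (K45.f488344 IH) (Lpr_ct (f475864 IH) (Lpr_gf (f493283 IH) (Lpe (f471087 IH) (Lpe (f470943 IH) (Lpe (f425531 IH) (Lpr_ct (K41.f97331 IH) (Lpe (f97339 IH) (Lpe (f470914 IH) (Lpr_bt (f97041 IH) (Lpn (LP (LK LD1_c13 LD2_c41 LD3_c13)))))))))))))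
theorem f589870 : Led Lsl_gt (LP (LK LD1_c13 LD2_c41 LD3_c13)) = (LP (LK LD1_c15 LD2_c4 LD3_c2)) :=
  Lgr Lrot46 (Lpe (f493286 IH) (Lpr_ft (K45.f564807 IH) (Lpr_at (f589858 IH) (Lpn (LP (LK LD1_c15 LD2_c4 LD3_c2))))))
theorem f97053 : Led Lsl_bt (LP (LK LD1_c13 LD2_c41 LD3_c13)) = (LP (LK LD1_c7 LD2_c13 LD3_c57)) :=
  Lre_b IH (LK LD1_c13 LD2_c41 LD3_c13) (LK LD1_c7 LD2_c13 LD3_c57) Lrfl Lrfl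
theorem f97054 : Led Lsl_dt (LP (LK LD1_c13 LD2_c38 LD3_c34)) = (LP (LK LD1_c13 LD2_c41 LD3_c13)) :=
  Lgr Lrot79 (Lpe (K34.f97052 IH) (Lpr_df (K30.f97044 IH) (Lpe (f97053 IH) (Lpn (LP (LK LD1_c13 LD2_c41 LD3_c13))))))
theorem f97070 : Led Lsl_et (LP (LK LD1_c13 LD2_c38 LD3_c34)) = (LP (LK LD1_c7 LD2_c12 LD3_c12)) :=
  Lre_e IH (LK LD1_c13 LD2_c38 LD3_c34) (LK LD1_c7 LD2_c12 LD3_c12) Lrfl Lrfl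
theorem f589893 : Led Lsl_gt (LP (LK LD1_c7 LD2_c33 LD3_c44)) = (LP (LK LD1_c7 LD2_c12 LD3_c12)) :=
  Lgr Lrot131 (Lpe (f427166 IH) (Lpe (K38.f548921 IH) (Lpr_gf (K41.f558848 IH) (Lpr_df (K41.f559153 IH) (Lpr_gf (K3.f88613 IH) (Lpe (K41.f88616 IH) (Lpr_dt (f589878 IH) (Lpe (f589870 IH) (Lpe (f97054 IH) (Lpr_et (f97070 IH) (Lpn (LP (LK LD1_c7 LD2_c12 LD3_c12)))))))))))))
theorem f463873 : Led Lsl_at (LP (LK LD1_c13 LD2_c38 LD3_c32)) = (LP (LK LD1_c7 LD2_c12 LD3_c12)) :=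
  Lre_a IH (LK LD1_c13 LD2_c38 LD3_c32) (LK LD1_c7 LD2_c12 LD3_c12) Lrfl Lrfl
theorem f513525 : Led Lsl_bt (LP (LK LD1_c7 LD2_c12 LD3_c32)) = (LP (LK LD1_c13 LD2_c38 LD3_c32)) :=
  Lgr Lrot127 (Lpr_bf (K34.f513523 IH) (Lpn (LP (LK LD1_c13 LD2_c38 LD3_c32))))
theorem f514009 : Led Lsl_ff (LP (LK LD1_c13 LD2_c23 LD3_c19)) = (LP (LK LD1_c13 LD2_c38 LD3_c32)) :=
  Lgr Lrot25 (Lpr_bt (K41.f514004 IH) (Lpr_ft (K34.f513215 IH) (Lpr_bt (f513525 IH) (Lpn (LP (LK LD1_c13 LD2_c38 LD3_c32))))))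
theorem f514012 : Led Lsl_ft (LP (LK LD1_c13 LD2_c23 LD3_c19)) = (LP (LK LD1_c13 LD2_c38 LD3_c32)) :=
  Lgr Lrot48 (Lpr_ff (f514009 IH) (Lpn (LP (LK LD1_c13 LD2_c38 LD3_c32))))
theorem f589895 : Led Lsl_gf (LP (LK LD1_c7 LD2_c33 LD3_c44)) = (LP (LK LD1_c13 LD2_c23 LD3_c19)) :=
  Lgr Lrot47 (Lpr_gt (f589893 IH) (Lpe (f463873 IH) (Lpe (f514012 IH) (Lpn (LP (LK LD1_c13 LD2_c23 LD3_c19))))))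
theorem f427180 : Led Lsl_bt (LP (LK LD1_c7 LD2_c33 LD3_c44)) = (LP (LK LD1_c13 LD2_c18 LD3_c3)) :=
  Lgr Lrot119 (Lpe (f427166 IH) (Lpr_bf (K38.f427178 IH) (Lpe (K43.f426637 IH) (Lpn (LP (LK LD1_c13 LD2_c18 LD3_c3))))))
theorem f427182 : Led Lsl_bf (LP (LK LD1_c7 LD2_c33 LD3_c44)) = (LP (LK LD1_c13 LD2_c18 LD3_c3)) :=
  Lgr Lrot24 (Lpr_bt (f427180 IH) (Lpn (LP (LK LD1_c13 LD2_c18 LD3_c3))))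
theorem f488226 : Led Lsl_ct (LP (LK LD1_c22 LD2_c13 LD3_c13)) = (LP (LK LD1_c13 LD2_c3 LD3_c25)) :=
  Lre_c IH (LK LD1_c22 LD2_c13 LD3_c13) (LK LD1_c13 LD2_c3 LD3_c25) Lrfl Lrfl
theorem f543793 : Led Lsl_bt (LP (LK LD1_c12 LD2_c7 LD3_c46)) = (LP (LK LD1_c21 LD2_c14 LD3_c6)) :=
  Lre_b IH (LK LD1_c12 LD2_c7 LD3_c46) (LK LD1_c21 LD2_c14 LD3_c6) Lrfl Lrfl
theorem f589925 : Led Lsl_gt (LP (LK LD1_c20 LD2_c41 LD3_c46)) = (LP (LK LD1_c21 LD2_c14 LD3_c7)) :=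
  Lgr Lrot65 (Lpe (K28.f426629 IH) (Lpe (f427182 IH) (Lpr_gf (f589895 IH) (Lpr_bf (K41.f514007 IH) (Lpr_ct (K41.f513493 IH) (Lpr_gf (K41.f513061 IH) (Lpe (f488226 IH) (Lpr_gf (K43.f578366 IH) (Lpe (f543793 IH) (Lpr_ct (K43.f543768 IH) (Lpn (LP (LK LD1_c21 LD2_c14 LD3_c7)))))))))))))
theorem f426850 : Led Lsl_af (LP (LK LD1_c3 LD2_c29 LD3_c57)) = (LP (LK LD1_c6 LD2_c34 LD3_c54)) :=
  Lgr Lrot117 (Lpr_dt (K28.f426588 IH) (Lpr_at (K37.f426848 IH) (Lpr_dt (K34.f206005 IH) (Lpn (LP (LK LD1_c6 LD2_c34 LD3_c54))))))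
theorem f426598 : Led Lsl_et (LP (LK LD1_c3 LD2_c29 LD3_c57)) = (LP (LK LD1_c7 LD2_c1 LD3_c32)) :=
  Lre_e IH (LK LD1_c3 LD2_c29 LD3_c57) (LK LD1_c7 LD2_c1 LD3_c32) Lrfl Lrfl
theorem f427126 : Led Lsl_at (LP (LK LD1_c7 LD2_c1 LD3_c32)) = (LP (LK LD1_c12 LD2_c36 LD3_c5)) :=
  Lgr Lrot80 (Lpe (f426598 IH) (Lpr_af (f426850 IH) (Lpe (K43.f65975 IH) (Lpn (LP (LK LD1_c12 LD2_c36 LD3_c5))))))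
theorem f427128 : Led Lsl_cf (LP (LK LD1_c7 LD2_c1 LD3_c32)) = (LP (LK LD1_c11 LD2_c41 LD3_c47)) :=
  Lgr Lrot1 (Lpr_at (f427126 IH) (Lpe (K43.f137157 IH) (Lpr_at (K43.f426712 IH) (Lpn (LP (LK LD1_c11 LD2_c41 LD3_c47))))))
theorem f18977 : Led Lsl_bt (LP (LK LD1_c3 LD2_c30 LD3_c23)) = (LP (LK LD1_c1 LD2_c41 LD3_c51)) :=
  Lre_b IH (LK LD1_c3 LD2_c30 LD3_c23) (LK LD1_c1 LD2_c41 LD3_c51) Lrfl Lrfl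
theorem f457649 : Led Lsl_ct (LP (LK LD1_c7 LD2_c2 LD3_c42)) = (LP (LK LD1_c3 LD2_c30 LD3_c23)) :=
  Lre_c IH (LK LD1_c7 LD2_c2 LD3_c42) (LK LD1_c3 LD2_c30 LD3_c23) Lrfl Lrfl
theorem f457650 : Led Lsl_bf (LP (LK LD1_c7 LD2_c2 LD3_c42)) = (LP (LK LD1_c6 LD2_c51 LD3_c39)) :=
  Lgr Lrot90 (Lpr_ct (f457649 IH) (Lpr_bt (f18977 IH) (Lpr_ct (K29.f18979 IH) (Lpr_bt (K24.f457638 IH) (Lpr_ct (K28.f18560 IH) (Lpn (LP (LK LD1_c6 LD2_c51 LD3_c39))))))))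
theorem f458502 : Led Lsl_bt (LP (LK LD1_c7 LD2_c2 LD3_c42)) = (LP (LK LD1_c6 LD2_c51 LD3_c39)) :=
  Lgr Lrot127 (Lpr_bf (f457650 IH) (Lpn (LP (LK LD1_c6 LD2_c51 LD3_c39))))
theorem f589931 : Led Lsl_gf (LP (LK LD1_c7 LD2_c1 LD3_c32)) = (LP (LK LD1_c3 LD2_c30 LD3_c23)) :=
  Lgr Lrot126 (Lpr_cf (f427128 IH) (Lpr_bt (K43.f426544 IH) (Lpr_gt (f589925 IH) (Lpr_ct (K43.f543771 IH) (Lpr_gt (K43.f543766 IH) (Lpe (K43.f97529 IH) (Lpr_bt (K43.f464260 IH) (Lpe (K29.f464278 IH) (Lpe (f458502 IH) (Lpr_ct (f457649 IH) (Lpn (LP (LK LD1_c3 LD2_c30 LD3_c23)))))))))))))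
theorem f426610 : Led Lsl_et (LP (LK LD1_c11 LD2_c41 LD3_c47)) = (LP (LK LD1_c5 LD2_c58 LD3_c40)) :=
  Lre_e IH (LK LD1_c11 LD2_c41 LD3_c47) (LK LD1_c5 LD2_c58 LD3_c40) Lrfl Lrfl
theorem f426611 : Led Lsl_ct (LP (LK LD1_c7 LD2_c1 LD3_c32)) = (LP (LK LD1_c11 LD2_c41 LD3_c47)) :=
  Lgr Lrot15 (Lpe (f426598 IH) (Lpr_cf (K28.f426605 IH) (Lpe (f426610 IH) (Lpn (LP (LK LD1_c11 LD2_c41 LD3_c47))))))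
theorem f426714 : Led Lsl_at (LP (LK LD1_c12 LD2_c36 LD3_c5)) = (LP (LK LD1_c7 LD2_c1 LD3_c32)) :=
  Lgr Lrot107 (Lpe (K43.f136943 IH) (Lpr_af (K36.f426710 IH) (Lpe (f426611 IH) (Lpn (LP (LK LD1_c7 LD2_c1 LD3_c32))))))
theorem f589934 : Led Lsl_ff (LP (LK LD1_c12 LD2_c36 LD3_c5)) = (LP (LK LD1_c7 LD2_c2 LD3_c40)) :=
  Lgr Lrot52 (Lpr_at (f426714 IH) (Lpr_gf (f589931 IH) (Lpe (f458524 IH) (Lpn (LP (LK LD1_c7 LD2_c2 LD3_c40))))))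
theorem f589959 : Led Lsl_ct (LP (LK LD1_c13 LD2_c19 LD3_c36)) = (LP (LK LD1_c7 LD2_c2 LD3_c40)) :=
  Lgr Lrot40 (Lpe (K43.f137167 IH) (Lpr_cf (K43.f137157 IH) (Lpr_ff (f589934 IH) (Lpn (LP (LK LD1_c7 LD2_c2 LD3_c40))))))
theorem f564339 : Led Lsl_bf (LP (LK LD1_c13 LD2_c3 LD3_c25)) = (LP (LK LD1_c13 LD2_c19 LD3_c36)) :=
  Lgr Lrot61 (Lpr_ft (K41.f564337 IH) (Lpr_bt (K43.f136956 IH) (Lpr_ft (K43.f137167 IH) (Lpn (LP (LK LD1_c13 LD2_c19 LD3_c36))))))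
theorem f458401 : Led Lsl_at (LP (LK LD1_c13 LD2_c3 LD3_c52)) = (LP (LK LD1_c6 LD2_c52 LD3_c9)) :=
  Lre_a IH (LK LD1_c13 LD2_c3 LD3_c52) (LK LD1_c6 LD2_c52 LD3_c9) Lrfl Lrfl
theorem f458402 : Led Lsl_at (LP (LK LD1_c6 LD2_c59 LD3_c59)) = (LP (LK LD1_c13 LD2_c16 LD3_c54)) :=
  Lre_a IH (LK LD1_c6 LD2_c59 LD3_c59) (LK LD1_c13 LD2_c16 LD3_c54) Lrfl Lrfl
theorem f458403 : Led Lsl_cf (LP (LK LD1_c13 LD2_c3 LD3_c52)) = (LP (LK LD1_c13 LD2_c16 LD3_c54)) :=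
  Lgr Lrot1 (Lpr_at (f458401 IH) (Lpr_ct (K43.f458398 IH) (Lpr_at (f458402 IH) (Lpn (LP (LK LD1_c13 LD2_c16 LD3_c54))))))
theorem f458415 : Led Lsl_ct (LP (LK LD1_c13 LD2_c3 LD3_c52)) = (LP (LK LD1_c13 LD2_c16 LD3_c54)) :=
  Lgr Lrot59 (Lpr_cf (f458403 IH) (Lpn (LP (LK LD1_c13 LD2_c16 LD3_c54))))
theorem f655550 : Led Lsl_bf (LP (LK LD1_c14 LD2_c12 LD3_c47)) = (LP (LK LD1_c13 LD2_c3 LD3_c52)) :=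
  Lgr Lrot34 (Lpe (K33.f111381 IH) (Lpr_bf (K4.f111808 IH) (Lpe (K34.f17870 IH) (Lpe (K41.f513475 IH) (Lpr_cf (K41.f513496 IH) (Lpr_gf (K41.f513061 IH) (Lpr_bf (f564339 IH) (Lpr_ct (f589959 IH) (Lpr_gf (f655546 IH) (Lpe (f458415 IH) (Lpn (LP (LK LD1_c13 LD2_c3 LD3_c52)))))))))))))
theorem f655498 : Led Lsl_ct (LP (LK LD1_c7 LD2_c2 LD3_c41)) = (LP (LK LD1_c13 LD2_c21 LD3_c34)) :=
  Lre_c IH (LK LD1_c7 LD2_c2 LD3_c41) (LK LD1_c13 LD2_c21 LD3_c34) Lrfl Lrfl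
theorem f655542 : Led Lsl_ft (LP (LK LD1_c13 LD2_c21 LD3_c34)) = (LP (LK LD1_c13 LD2_c3 LD3_c52)) :=
  Lgr Lrot4 (Lpe (f655498 IH) (Lpr_ff (f655536 IH) (Lpe (f458415 IH) (Lpn (LP (LK LD1_c13 LD2_c3 LD3_c52))))))
theorem f655507 : Led Lsl_ct (LP (LK LD1_c13 LD2_c21 LD3_c34)) = (LP (LK LD1_c7 LD2_c2 LD3_c41)) :=
  Lre_c IH (LK LD1_c13 LD2_c21 LD3_c34) (LK LD1_c7 LD2_c2 LD3_c41) Lrfl Lrfl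
theorem f575220 : Led Lsl_gt (LP (LK LD1_c13 LD2_c19 LD3_c33)) = (LP (LK LD1_c13 LD2_c3 LD3_c26)) :=
  Lgr Lrot46 (Lpr_gf (K43.f575218 IH) (Lpr_ft (K34.f512692 IH) (Lpr_at (K41.f488217 IH) (Lpn (LP (LK LD1_c13 LD2_c3 LD3_c26))))))
theorem f111806 : Led Lsl_bf (LP (LK LD1_c14 LD2_c12 LD3_c49)) = (LP (LK LD1_c22 LD2_c33 LD3_c11)) :=
  Lgr Lrot24 (Lpr_bt (K4.f111804 IH) (Lpn (LP (LK LD1_c22 LD2_c33 LD3_c11))))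
theorem f103804 : Led Lsl_gt (LP (LK LD1_c14 LD2_c12 LD3_c49)) = (LP (LK LD1_c7 LD2_c32 LD3_c16)) :=
  Lre_g IH (LK LD1_c14 LD2_c12 LD3_c49) (LK LD1_c7 LD2_c32 LD3_c16) Lrfl Lrfl
theorem f655508 : Led Lsl_bt (LP (LK LD1_c13 LD2_c21 LD3_c34)) = (LP (LK LD1_c7 LD2_c32 LD3_c16)) :=
  Lgr Lrot92 (Lpr_ct (f655507 IH) (Lpr_gt (f655500 IH) (Lpe (K43.f136943 IH) (Lpr_bt (K36.f137165 IH) (Lpr_gt (f575220 IH) (Lpe (K41.f513491 IH) (Lpe (K34.f513209 IH) (Lpr_cf (K34.f513197 IH) (Lpe (f111806 IH) (Lpr_gt (f103804 IH) (Lpn (LP (LK LD1_c7 LD2_c32 LD3_c16)))))))))))))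
theorem f655517 : Led Lsl_bf (LP (LK LD1_c13 LD2_c21 LD3_c34)) = (LP (LK LD1_c7 LD2_c32 LD3_c16)) :=
  Lgr Lrot24 (Lpr_bt (f655508 IH) (Lpn (LP (LK LD1_c7 LD2_c32 LD3_c16))))
theorem f655556 : Led Lsl_ft (LP (LK LD1_c14 LD2_c12 LD3_c47)) = (LP (LK LD1_c7 LD2_c32 LD3_c16)) :=
  Lgr Lrot75 (Lpr_bf (f655550 IH) (Lpe (f655542 IH) (Lpr_bf (f655517 IH) (Lpn (LP (LK LD1_c7 LD2_c32 LD3_c16))))))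
theorem f123805 : Led Lsl_gt (LP (LK LD1_c14 LD2_c12 LD3_c47)) = (LP (LK LD1_c7 LD2_c32 LD3_c18)) :=
  Lre_g IH (LK LD1_c14 LD2_c12 LD3_c47) (LK LD1_c7 LD2_c32 LD3_c18) Lrfl Lrfl
theorem f655562 : Led Lsl_af (LP (LK LD1_c6 LD2_c52 LD3_c16)) = (LP (LK LD1_c7 LD2_c32 LD3_c16)) :=
  Lgr Lrot31 (Lpe (K28.f463446 IH) (Lpe (f123805 IH) (Lpr_ft (f655556 IH) (Lpn (LP (LK LD1_c7 LD2_c32 LD3_c16))))))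
theorem f463440 : Led Lsl_et (LP (LK LD1_c6 LD2_c52 LD3_c16)) = (LP (LK LD1_c13 LD2_c4 LD3_c6)) :=
  Lre_e IH (LK LD1_c6 LD2_c52 LD3_c16) (LK LD1_c13 LD2_c4 LD3_c6) Lrfl Lrfl
theorem f103805 : Led Lsl_et (LP (LK LD1_c14 LD2_c12 LD3_c59)) = (LP (LK LD1_c7 LD2_c32 LD3_c16)) :=
  Lre_e IH (LK LD1_c14 LD2_c12 LD3_c59) (LK LD1_c7 LD2_c32 LD3_c16) Lrfl Lrfl
theorem f655572 : Led Lsl_at (LP (LK LD1_c13 LD2_c4 LD3_c6)) = (LP (LK LD1_c14 LD2_c12 LD3_c59)) :=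
  Lgr Lrot80 (Lpe (f463440 IH) (Lpr_af (f655562 IH) (Lpe (f103805 IH) (Lpn (LP (LK LD1_c14 LD2_c12 LD3_c59))))))
theorem f463423 : Led Lsl_at (LP (LK LD1_c23 LD2_c40 LD3_c21)) = (LP (LK LD1_c14 LD2_c6 LD3_c26)) :=
  Lre_a IH (LK LD1_c23 LD2_c40 LD3_c21) (LK LD1_c14 LD2_c6 LD3_c26) Lrfl Lrfl
theorem f655576 : Led Lsl_cf (LP (LK LD1_c23 LD2_c40 LD3_c21)) = (LP (LK LD1_c14 LD2_c12 LD3_c59)) :=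
  Lgr Lrot1 (Lpr_at (f463423 IH) (Lpr_ct (K34.f463420 IH) (Lpr_at (f655572 IH) (Lpn (LP (LK LD1_c14 LD2_c12 LD3_c59))))))
theorem f655586 : Led Lsl_ct (LP (LK LD1_c23 LD2_c40 LD3_c21)) = (LP (LK LD1_c14 LD2_c12 LD3_c59)) :=
  Lgr Lrot59 (Lpr_cf (f655576 IH) (Lpn (LP (LK LD1_c14 LD2_c12 LD3_c59))))
theorem f655589 : Led Lsl_et (LP (LK LD1_c14 LD2_c6 LD3_c24)) = (LP (LK LD1_c23 LD2_c40 LD3_c21)) :=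
  Lre_e IH (LK LD1_c14 LD2_c6 LD3_c24) (LK LD1_c23 LD2_c40 LD3_c21) Lrfl Lrfl
theorem f655590 : Led Lsl_cf (LP (LK LD1_c14 LD2_c6 LD3_c24)) = (LP (LK LD1_c7 LD2_c32 LD3_c16)) :=
  Lgr Lrot39 (Lpr_et (f655589 IH) (Lpr_ct (f655586 IH) (Lpr_et (f103805 IH) (Lpn (LP (LK LD1_c7 LD2_c32 LD3_c16))))))
theorem f103825 : Led Lsl_gt (LP (LK LD1_c7 LD2_c32 LD3_c16)) = (LP (LK LD1_c3 LD2_c45 LD3_c48)) :=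
  Lre_g IH (LK LD1_c7 LD2_c32 LD3_c16) (LK LD1_c3 LD2_c45 LD3_c48) Lrfl Lrfl
theorem f473503 : Led Lsl_gt (LP (LK LD1_c7 LD2_c32 LD3_c17)) = (LP (LK LD1_c14 LD2_c12 LD3_c60)) :=
  Lre_g IH (LK LD1_c7 LD2_c32 LD3_c17) (LK LD1_c14 LD2_c12 LD3_c60) Lrfl Lrfl
theorem f492388 : Led Lsl_ff (LP (LK LD1_c6 LD2_c57 LD3_c54)) = (LP (LK LD1_c13 LD2_c7 LD3_c47)) :=
  Lgr Lrot25 (Lpr_bt (K34.f98751 IH) (Lpr_ft (K33.f492386 IH) (Lpr_bt (K34.f15895 IH) (Lpn (LP (LK LD1_c13 LD2_c7 LD3_c47))))))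
theorem f492880 : Led Lsl_df (LP (LK LD1_c13 LD2_c7 LD3_c47)) = (LP (LK LD1_c14 LD2_c12 LD3_c60)) :=
  Lgr Lrot78 (Lpe (f492388 IH) (Lpr_dt (K34.f98783 IH) (Lpr_ft (K34.f492874 IH) (Lpn (LP (LK LD1_c14 LD2_c12 LD3_c60))))))
theorem f532993 : Led Lsl_gf (LP (LK LD1_c22 LD2_c17 LD3_c45)) = (LP (LK LD1_c23 LD2_c40 LD3_c30)) :=
  Lgr Lrot76 (Lpr_af (K35.f108924 IH) (Lpr_ff (K34.f532987 IH) (Lpe (K34.f492841 IH) (Lpn (LP (LK LD1_c23 LD2_c40 LD3_c30))))))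
theorem f532995 : Led Lsl_gt (LP (LK LD1_c22 LD2_c17 LD3_c45)) = (LP (LK LD1_c13 LD2_c56 LD3_c4)) :=
  Lgr Lrot46 (Lpr_gf (f532993 IH) (Lpe (K37.f492758 IH) (Lpr_at (K37.f469879 IH) (Lpn (LP (LK LD1_c13 LD2_c56 LD3_c4))))))
theorem f655595 : Led Lsl_gt (LP (LK LD1_c14 LD2_c6 LD3_c24)) = (LP (LK LD1_c13 LD2_c6 LD3_c20)) :=
  Lgr Lrot94 (Lpr_cf (f655590 IH) (Lpr_gt (f103825 IH) (Lpr_dt (K34.f103653 IH) (Lpr_gt (f473503 IH) (Lpe (f492880 IH) (Lpr_cf (K39.f462846 IH) (Lpe (K39.f469630 IH) (Lpe (f532995 IH) (Lpe (K34.f97696 IH) (Lpn (LP (LK LD1_c13 LD2_c6 LD3_c20))))))))))))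
theorem f436779 : Led Lsl_gt (LP (LK LD1_c13 LD2_c19 LD3_c6)) = (LP (LK LD1_c22 LD2_c35 LD3_c30)) :=
  Lre_g IH (LK LD1_c13 LD2_c19 LD3_c6) (LK LD1_c22 LD2_c35 LD3_c30) Lrfl Lrfl
theorem f533723 : Led Lsl_cf (LP (LK LD1_c13 LD2_c56 LD3_c13)) = (LP (LK LD1_c22 LD2_c35 LD3_c30)) :=
  Lgr Lrot169 (Lpr_gt (K28.f464510 IH) (Lpe (K35.f469667 IH) (Lpe (K34.f469669 IH) (Lpe (K34.f469746 IH) (Lpr_gf (K37.f469767 IH) (Lpr_cf (K37.f533718 IH) (Lpe (K37.f420061 IH) (Lpe (K34.f111106 IH) (Lpr_gt (f436779 IH) (Lpn (LP (LK LD1_c22 LD2_c35 LD3_c30))))))))))))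
theorem f533756 : Led Lsl_ct (LP (LK LD1_c13 LD2_c56 LD3_c13)) = (LP (LK LD1_c22 LD2_c35 LD3_c30)) :=
  Lgr Lrot59 (Lpr_cf (f533723 IH) (Lpn (LP (LK LD1_c22 LD2_c35 LD3_c30))))
theorem f464531 : Led Lsl_bt (LP (LK LD1_c3 LD2_c30 LD3_c9)) = (LP (LK LD1_c7 LD2_c1 LD3_c61)) :=
  Lre_b IH (LK LD1_c3 LD2_c30 LD3_c9) (LK LD1_c7 LD2_c1 LD3_c61) Lrfl Lrfl
theorem f464532 : Led Lsl_gt (LP (LK LD1_c13 LD2_c20 LD3_c23)) = (LP (LK LD1_c7 LD2_c1 LD3_c61)) :=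
  Lre_g IH (LK LD1_c13 LD2_c20 LD3_c23) (LK LD1_c7 LD2_c1 LD3_c61) Lrfl Lrfl
theorem f464342 : Led Lsl_ct (LP (LK LD1_c13 LD2_c17 LD3_c30)) = (LP (LK LD1_c7 LD2_c27 LD3_c55)) :=
  Lgr Lrot59 (Lpr_cf (K28.f464338 IH) (Lpn (LP (LK LD1_c7 LD2_c27 LD3_c55))))
theorem f463955 : Led Lsl_bt (LP (LK LD1_c13 LD2_c17 LD3_c30)) = (LP (LK LD1_c7 LD2_c4 LD3_c12)) :=
  Lgr Lrot127 (Lpr_bf (K28.f463952 IH) (Lpn (LP (LK LD1_c7 LD2_c4 LD3_c12))))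
theorem f122019 : Led Lsl_af (LP (LK LD1_c1 LD2_c47 LD3_c26)) = (LP (LK LD1_c1 LD2_c49 LD3_c32)) :=
  Lgr Lrot0 (Lpr_at (K4.f122017 IH) (Lpn (LP (LK LD1_c1 LD2_c49 LD3_c32))))
theorem f440471 : Led Lsl_gf (LP (LK LD1_c3 LD2_c40 LD3_c60)) = (LP (LK LD1_c3 LD2_c44 LD3_c53)) :=
  Lgr Lrot47 (Lpr_gt (K28.f108799 IH) (Lpr_af (f122019 IH) (Lpe (K5.f93172 IH) (Lpn (LP (LK LD1_c3 LD2_c44 LD3_c53))))))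
theorem f532949 : Led Lsl_gf (LP (LK LD1_c13 LD2_c0 LD3_c54)) = (LP (LK LD1_c7 LD2_c1 LD3_c61)) :=
  Lgr Lrot124 (Lpe (K34.f108963 IH) (Lpe (K24.f108964 IH) (Lpr_gt (K34.f532947 IH) (Lpe (f464342 IH) (Lpr_bt (f463955 IH) (Lpe (K28.f464315 IH) (Lpr_ct (K28.f94600 IH) (Lpe (f440471 IH) (Lpr_cf (K28.f464524 IH) (Lpr_bt (f464531 IH) (Lpn (LP (LK LD1_c7 LD2_c1 LD3_c61)))))))))))))
theorem f532951 : Led Lsl_ff (LP (LK LD1_c7 LD2_c30 LD3_c45)) = (LP (LK LD1_c13 LD2_c20 LD3_c23)) :=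
  Lgr Lrot52 (Lpr_at (K4.f111061 IH) (Lpr_gf (f532949 IH) (Lpe (f464532 IH) (Lpn (LP (LK LD1_c13 LD2_c20 LD3_c23))))))
theorem f533403 : Led Lsl_bt (LP (LK LD1_c7 LD2_c2 LD3_c25)) = (LP (LK LD1_c13 LD2_c20 LD3_c23)) :=
  Lgr Lrot35 (Lpr_ff (K34.f533401 IH) (Lpr_bf (K34.f111092 IH) (Lpr_ff (f532951 IH) (Lpn (LP (LK LD1_c13 LD2_c20 LD3_c23))))))
theorem f533765 : Led Lsl_gf (LP (LK LD1_c13 LD2_c21 LD3_c5)) = (LP (LK LD1_c22 LD2_c35 LD3_c30)) :=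
  Lgr Lrot129 (Lpe (K34.f469696 IH) (Lpr_bt (f533403 IH) (Lpr_gt (f464532 IH) (Lpe (f464531 IH) (Lpe (K28.f464524 IH) (Lpr_gt (K28.f108799 IH) (Lpe (K4.f108808 IH) (Lpr_bt (K4.f122040 IH) (Lpr_gt (K28.f464509 IH) (Lpr_ct (f533756 IH) (Lpn (LP (LK LD1_c22 LD2_c35 LD3_c30)))))))))))))
theorem f148310 : Led Lsl_bf (LP (LK LD1_c13 LD2_c19 LD3_c6)) = (LP (LK LD1_c7 LD2_c21 LD3_c25)) :=
  Lgr Lrot96 (Lpr_et (K4.f111110 IH) (Lpr_bt (K7.f148294 IH) (Lpr_et (K24.f148309 IH) (Lpn (LP (LK LD1_c7 LD2_c21 LD3_c25))))))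
theorem f533125 : Led Lsl_ff (LP (LK LD1_c22 LD2_c32 LD3_c35)) = (LP (LK LD1_c13 LD2_c19 LD3_c6)) :=
  Lgr Lrot25 (Lpe (K34.f469850 IH) (Lpr_ft (K34.f533121 IH) (Lpe (f148310 IH) (Lpn (LP (LK LD1_c13 LD2_c19 LD3_c6))))))
theorem f533767 : Led Lsl_af (LP (LK LD1_c13 LD2_c21 LD3_c5)) = (LP (LK LD1_c22 LD2_c32 LD3_c35)) :=
  Lgr Lrot31 (Lpr_gf (f533765 IH) (Lpe (f436779 IH) (Lpe (f533125 IH) (Lpn (LP (LK LD1_c22 LD2_c32 LD3_c35))))))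
theorem f469852 : Led Lsl_bt (LP (LK LD1_c13 LD2_c24 LD3_c39)) = (LP (LK LD1_c22 LD2_c32 LD3_c35)) :=
  Lgr Lrot127 (Lpr_bf (K34.f469850 IH) (Lpn (LP (LK LD1_c22 LD2_c32 LD3_c35))))
theorem f533123 : Led Lsl_af (LP (LK LD1_c13 LD2_c24 LD3_c39)) = (LP (LK LD1_c13 LD2_c25 LD3_c23)) :=
  Lgr Lrot45 (Lpr_ft (K34.f533121 IH) (Lpe (K24.f436327 IH) (Lpr_ft (K34.f532999 IH) (Lpn (LP (LK LD1_c13 LD2_c25 LD3_c23))))))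
theorem f459000 : Led Lsl_bt (LP (LK LD1_c22 LD2_c44 LD3_c13)) = (LP (LK LD1_c13 LD2_c25 LD3_c23)) :=
  Lre_b IH (LK LD1_c22 LD2_c44 LD3_c13) (LK LD1_c13 LD2_c25 LD3_c23) Lrfl Lrfl
theorem f533769 : Led Lsl_bt (LP (LK LD1_c13 LD2_c21 LD3_c5)) = (LP (LK LD1_c22 LD2_c35 LD3_c23)) :=
  Lgr Lrot62 (Lpr_af (f533767 IH) (Lpe (f469852 IH) (Lpr_af (f533123 IH) (Lpe (f459000 IH) (Lpe (K39.f533504 IH) (Lpn (LP (LK LD1_c22 LD2_c35 LD3_c23))))))))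
theorem f655221 : Led Lsl_gf (LP (LK LD1_c13 LD2_c16 LD3_c60)) = (LP (LK LD1_c7 LD2_c2 LD3_c25)) :=
  Lgr Lrot47 (Lpr_gt (f655218 IH) (Lpe (K34.f111098 IH) (Lpe (K34.f533393 IH) (Lpn (LP (LK LD1_c7 LD2_c2 LD3_c25))))))
theorem f655602 : Led Lsl_bf (LP (LK LD1_c14 LD2_c6 LD3_c24)) = (LP (LK LD1_c13 LD2_c56 LD3_c0)) :=
  Lgr Lrot165 (Lpr_gt (f655595 IH) (Lpe (K4.f97684 IH) (Lpe (f533995 IH) (Lpe (f463463 IH) (Lpe (f463450 IH) (Lpr_gt (f533242 IH) (Lpe (f533769 IH) (Lpr_ct (K35.f469704 IH) (Lpe (f655221 IH) (Lpe (f469837 IH) (Lpn (LP (LK LD1_c13 LD2_c56 LD3_c0)))))))))))))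
theorem f473501 : Led Lsl_at (LP (LK LD1_c13 LD2_c55 LD3_c56)) = (LP (LK LD1_c7 LD2_c22 LD3_c1)) :=
  Lre_a IH (LK LD1_c13 LD2_c55 LD3_c56) (LK LD1_c7 LD2_c22 LD3_c1) Lrfl Lrfl
theorem f655600 : Led Lsl_ft (LP (LK LD1_c14 LD2_c6 LD3_c24)) = (LP (LK LD1_c13 LD2_c55 LD3_c56)) :=
  Lgr Lrot2 (Lpr_gt (f655595 IH) (Lpe (f533199 IH) (Lpe (f473501 IH) (Lpn (LP (LK LD1_c13 LD2_c55 LD3_c56))))))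
theorem f655607 : Led Lsl_bt (LP (LK LD1_c13 LD2_c55 LD3_c56)) = (LP (LK LD1_c7 LD2_c22 LD3_c20)) :=
  Lgr Lrot35 (Lpe (f655600 IH) (Lpr_bf (f655602 IH) (Lpr_ff (f469805 IH) (Lpn (LP (LK LD1_c7 LD2_c22 LD3_c20))))))
theorem f146920 : Led Lsl_af (LP (LK LD1_c1 LD2_c47 LD3_c37)) = (LP (LK LD1_c1 LD2_c49 LD3_c2)) :=
  Lgr Lrot0 (Lpr_at (K8.f146918 IH) (Lpn (LP (LK LD1_c1 LD2_c49 LD3_c2))))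
theorem f124013 : Led Lsl_ft (LP (LK LD1_c3 LD2_c43 LD3_c61)) = (LP (LK LD1_c1 LD2_c49 LD3_c2)) :=
  Lre_f IH (LK LD1_c3 LD2_c43 LD3_c61) (LK LD1_c1 LD2_c49 LD3_c2) Lrfl Lrfl
theorem f465715 : Led Lsl_gf (LP (LK LD1_c3 LD2_c41 LD3_c9)) = (LP (LK LD1_c3 LD2_c43 LD3_c61)) :=
  Lgr Lrot47 (Lpr_gt (K28.f465713 IH) (Lpr_af (f146920 IH) (Lpe (f124013 IH) (Lpn (LP (LK LD1_c3 LD2_c43 LD3_c61))))))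
theorem f655615 : Led Lsl_ct (LP (LK LD1_c13 LD2_c55 LD3_c56)) = (LP (LK LD1_c14 LD2_c12 LD3_c47)) :=
  Lgr Lrot64 (Lpr_bt (f655607 IH) (Lpe (K34.f144293 IH) (Lpe (K34.f209118 IH) (Lpr_ct (K28.f122512 IH) (Lpe (K28.f109444 IH) (Lpe (K34.f439216 IH) (Lpr_gf (f465715 IH) (Lpe (K24.f123804 IH) (Lpe (K24.f123772 IH) (Lpe (f123805 IH) (Lpn (LP (LK LD1_c14 LD2_c12 LD3_c47)))))))))))))
theorem f473500 : Led Lsl_at (LP (LK LD1_c7 LD2_c22 LD3_c1)) = (LP (LK LD1_c13 LD2_c55 LD3_c56)) :=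
  Lre_a IH (LK LD1_c7 LD2_c22 LD3_c1) (LK LD1_c13 LD2_c55 LD3_c56) Lrfl Lrfl
theorem f655617 : Led Lsl_af (LP (LK LD1_c7 LD2_c32 LD3_c15)) = (LP (LK LD1_c14 LD2_c12 LD3_c47)) :=
  Lgr Lrot68 (Lpe (f473466 IH) (Lpr_at (f473500 IH) (Lpr_ct (f655615 IH) (Lpn (LP (LK LD1_c14 LD2_c12 LD3_c47))))))
theorem f655560 : Led Lsl_ff (LP (LK LD1_c14 LD2_c12 LD3_c47)) = (LP (LK LD1_c7 LD2_c32 LD3_c16)) :=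
  Lgr Lrot3 (Lpr_ft (f655556 IH) (Lpn (LP (LK LD1_c7 LD2_c32 LD3_c16))))
theorem f655564 : Led Lsl_at (LP (LK LD1_c6 LD2_c52 LD3_c16)) = (LP (LK LD1_c7 LD2_c32 LD3_c16)) :=
  Lgr Lrot100 (Lpr_af (f655562 IH) (Lpn (LP (LK LD1_c7 LD2_c32 LD3_c16))))
theorem f655794 : Led Lsl_ft (LP (LK LD1_c7 LD2_c32 LD3_c15)) = (LP (LK LD1_c6 LD2_c52 LD3_c16)) :=
  Lgr Lrot101 (Lpr_af (f655617 IH) (Lpr_ff (f655560 IH) (Lpe (f655564 IH) (Lpn (LP (LK LD1_c6 LD2_c52 LD3_c16))))))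
theorem f655800 : Led Lsl_ff (LP (LK LD1_c7 LD2_c32 LD3_c15)) = (LP (LK LD1_c6 LD2_c52 LD3_c16)) :=
  Lgr Lrot3 (Lpr_ft (f655794 IH) (Lpn (LP (LK LD1_c6 LD2_c52 LD3_c16))))
theorem f463432 : Led Lsl_dt (LP (LK LD1_c13 LD2_c4 LD3_c5)) = (LP (LK LD1_c6 LD2_c52 LD3_c16)) :=
  Lre_d IH (LK LD1_c13 LD2_c4 LD3_c5) (LK LD1_c6 LD2_c52 LD3_c16) Lrfl Lrfl
theorem f655802 : Led Lsl_ft (LP (LK LD1_c14 LD2_c12 LD3_c57)) = (LP (LK LD1_c13 LD2_c4 LD3_c5)) :=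
  Lgr Lrot54 (Lpe (K34.f123781 IH) (Lpr_ff (f655800 IH) (Lpe (f463432 IH) (Lpn (LP (LK LD1_c13 LD2_c4 LD3_c5))))))
theorem f460872 : Led Lsl_ct (LP (LK LD1_c23 LD2_c48 LD3_c7)) = (LP (LK LD1_c14 LD2_c12 LD3_c57)) :=
  Lre_c IH (LK LD1_c23 LD2_c48 LD3_c7) (LK LD1_c14 LD2_c12 LD3_c57) Lrfl Lrfl
theorem f463443 : Led Lsl_ct (LP (LK LD1_c13 LD2_c4 LD3_c5)) = (LP (LK LD1_c22 LD2_c14 LD3_c25)) :=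
  Lre_c IH (LK LD1_c13 LD2_c4 LD3_c5) (LK LD1_c22 LD2_c14 LD3_c25) Lrfl Lrfl
theorem f655808 : Led Lsl_ff (LP (LK LD1_c23 LD2_c48 LD3_c7)) = (LP (LK LD1_c22 LD2_c14 LD3_c25)) :=
  Lgr Lrot23 (Lpr_ct (f460872 IH) (Lpr_ft (f655802 IH) (Lpr_ct (f463443 IH) (Lpn (LP (LK LD1_c22 LD2_c14 LD3_c25))))))
theorem f655885 : Led Lsl_ft (LP (LK LD1_c23 LD2_c48 LD3_c7)) = (LP (LK LD1_c22 LD2_c14 LD3_c25)) :=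
  Lgr Lrot48 (Lpr_ff (f655808 IH) (Lpn (LP (LK LD1_c22 LD2_c14 LD3_c25))))
theorem f460881 : Led Lsl_gt (LP (LK LD1_c23 LD2_c48 LD3_c7)) = (LP (LK LD1_c31 LD2_c13 LD3_c34)) :=
  Lre_g IH (LK LD1_c23 LD2_c48 LD3_c7) (LK LD1_c31 LD2_c13 LD3_c34) Lrfl Lrfl
theorem f463442 : Led Lsl_dt (LP (LK LD1_c6 LD2_c52 LD3_c16)) = (LP (LK LD1_c13 LD2_c4 LD3_c5)) :=
  Lre_d IH (LK LD1_c6 LD2_c52 LD3_c16) (LK LD1_c13 LD2_c4 LD3_c5) Lrfl Lrfl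
theorem f440371 : Led Lsl_dt (LP (LK LD1_c14 LD2_c12 LD3_c58)) = (LP (LK LD1_c7 LD2_c32 LD3_c16)) :=
  Lre_d IH (LK LD1_c14 LD2_c12 LD3_c58) (LK LD1_c7 LD2_c32 LD3_c16) Lrfl Lrfl
theorem f655570 : Led Lsl_at (LP (LK LD1_c13 LD2_c4 LD3_c5)) = (LP (LK LD1_c14 LD2_c12 LD3_c58)) :=
  Lgr Lrot51 (Lpe (f463442 IH) (Lpr_af (f655562 IH) (Lpe (f440371 IH) (Lpn (LP (LK LD1_c14 LD2_c12 LD3_c58))))))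
theorem f655810 : Led Lsl_gt (LP (LK LD1_c22 LD2_c27 LD3_c49)) = (LP (LK LD1_c14 LD2_c12 LD3_c58)) :=
  Lgr Lrot46 (Lpe (K34.f516135 IH) (Lpr_ft (f655802 IH) (Lpr_at (f655570 IH) (Lpn (LP (LK LD1_c14 LD2_c12 LD3_c58))))))
theorem f462850 : Led Lsl_gt (LP (LK LD1_c13 LD2_c13 LD3_c9)) = (LP (LK LD1_c22 LD2_c27 LD3_c13)) :=
  Lre_g IH (LK LD1_c13 LD2_c13 LD3_c9) (LK LD1_c22 LD2_c27 LD3_c13) Lrfl Lrfl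
theorem f463430 : Led Lsl_at (LP (LK LD1_c7 LD2_c28 LD3_c21)) = (LP (LK LD1_c14 LD2_c6 LD3_c24)) :=
  Lre_a IH (LK LD1_c7 LD2_c28 LD3_c21) (LK LD1_c14 LD2_c6 LD3_c24) Lrfl Lrfl
theorem f655568 : Led Lsl_ct (LP (LK LD1_c14 LD2_c6 LD3_c24)) = (LP (LK LD1_c7 LD2_c32 LD3_c16)) :=
  Lgr Lrot111 (Lpe (f463430 IH) (Lpr_cf (K34.f463426 IH) (Lpr_af (f655562 IH) (Lpn (LP (LK LD1_c7 LD2_c32 LD3_c16))))))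
theorem f655597 : Led Lsl_dt (LP (LK LD1_c23 LD2_c40 LD3_c20)) = (LP (LK LD1_c14 LD2_c6 LD3_c24)) :=
  Lre_d IH (LK LD1_c23 LD2_c40 LD3_c20) (LK LD1_c14 LD2_c6 LD3_c24) Lrfl Lrfl
theorem f123806 : Led Lsl_ft (LP (LK LD1_c14 LD2_c13 LD3_c1)) = (LP (LK LD1_c7 LD2_c32 LD3_c17)) :=
  Lre_f IH (LK LD1_c14 LD2_c13 LD3_c1) (LK LD1_c7 LD2_c32 LD3_c17) Lrfl Lrfl
theorem f465420 : Led Lsl_gt (LP (LK LD1_c14 LD2_c13 LD3_c1)) = (LP (LK LD1_c13 LD2_c13 LD3_c28)) :=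
  Lgr Lrot5 (Lpr_ft (f123806 IH) (Lpr_at (K4.f111403 IH) (Lpr_gf (K34.f465418 IH) (Lpn (LP (LK LD1_c13 LD2_c13 LD3_c28))))))
theorem f458191 : Led Lsl_bt (LP (LK LD1_c13 LD2_c13 LD3_c9)) = (LP (LK LD1_c6 LD2_c57 LD3_c44)) :=
  Lre_b IH (LK LD1_c13 LD2_c13 LD3_c9) (LK LD1_c6 LD2_c57 LD3_c44) Lrfl Lrfl
theorem f462791 : Led Lsl_df (LP (LK LD1_c13 LD2_c13 LD3_c9)) = (LP (LK LD1_c14 LD2_c6 LD3_c31)) :=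
  Lgr Lrot12 (Lpr_bt (f458191 IH) (Lpr_dt (K28.f462788 IH) (Lpr_bt (K34.f462790 IH) (Lpn (LP (LK LD1_c14 LD2_c6 LD3_c31))))))
theorem f655620 : Led Lsl_gt (LP (LK LD1_c13 LD2_c55 LD3_c56)) = (LP (LK LD1_c14 LD2_c6 LD3_c23)) :=
  Lgr Lrot180 (Lpr_ct (f655615 IH) (Lpr_gt (f123805 IH) (Lpr_dt (K34.f123790 IH) (Lpr_gt (f465420 IH) (Lpr_dt (K34.f98797 IH) (Lpr_ct (K37.f98782 IH) (Lpr_df (f462791 IH) (Lpe (K37.f533262 IH) (Lpe (K34.f463444 IH) (Lpn (LP (LK LD1_c14 LD2_c6 LD3_c23))))))))))))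
theorem f463434 : Led Lsl_at (LP (LK LD1_c14 LD2_c6 LD3_c24)) = (LP (LK LD1_c7 LD2_c28 LD3_c21)) :=
  Lre_a IH (LK LD1_c14 LD2_c6 LD3_c24) (LK LD1_c7 LD2_c28 LD3_c21) Lrfl Lrfl
theorem f655622 : Led Lsl_ft (LP (LK LD1_c13 LD2_c55 LD3_c56)) = (LP (LK LD1_c14 LD2_c6 LD3_c24)) :=
  Lgr Lrot2 (Lpr_gt (f655620 IH) (Lpr_gt (K34.f463437 IH) (Lpe (f463434 IH) (Lpn (LP (LK LD1_c14 LD2_c6 LD3_c24))))))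
theorem f142440 : Led Lsl_dt (LP (LK LD1_c23 LD2_c26 LD3_c52)) = (LP (LK LD1_c13 LD2_c55 LD3_c56)) :=
  Lre_d IH (LK LD1_c23 LD2_c26 LD3_c52) (LK LD1_c13 LD2_c55 LD3_c56) Lrfl Lrfl
theorem f655594 : Led Lsl_dt (LP (LK LD1_c14 LD2_c6 LD3_c24)) = (LP (LK LD1_c23 LD2_c40 LD3_c20)) :=
  Lre_d IH (LK LD1_c14 LD2_c6 LD3_c24) (LK LD1_c23 LD2_c40 LD3_c20) Lrfl Lrfl
theorem f655650 : Led Lsl_ff (LP (LK LD1_c23 LD2_c26 LD3_c52)) = (LP (LK LD1_c23 LD2_c40 LD3_c20)) :=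
  Lgr Lrot19 (Lpr_dt (f142440 IH) (Lpr_ft (f655622 IH) (Lpr_dt (f655594 IH) (Lpn (LP (LK LD1_c23 LD2_c40 LD3_c20))))))
theorem f655652 : Led Lsl_at (LP (LK LD1_c23 LD2_c26 LD3_c52)) = (LP (LK LD1_c13 LD2_c55 LD3_c57)) :=
  Lre_a IH (LK LD1_c23 LD2_c26 LD3_c52) (LK LD1_c13 LD2_c55 LD3_c57) Lrfl Lrfl
theorem f655653 : Led Lsl_at (LP (LK LD1_c14 LD2_c6 LD3_c25)) = (LP (LK LD1_c23 LD2_c40 LD3_c20)) :=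
  Lre_a IH (LK LD1_c14 LD2_c6 LD3_c25) (LK LD1_c23 LD2_c40 LD3_c20) Lrfl Lrfl
theorem f655654 : Led Lsl_ft (LP (LK LD1_c13 LD2_c55 LD3_c57)) = (LP (LK LD1_c14 LD2_c6 LD3_c25)) :=
  Lgr Lrot101 (Lpe (f655652 IH) (Lpr_ff (f655650 IH) (Lpe (f655653 IH) (Lpn (LP (LK LD1_c14 LD2_c6 LD3_c25))))))
theorem f142449 : Led Lsl_gt (LP (LK LD1_c13 LD2_c55 LD3_c57)) = (LP (LK LD1_c23 LD2_c26 LD3_c54)) :=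
  Lre_g IH (LK LD1_c13 LD2_c55 LD3_c57) (LK LD1_c23 LD2_c26 LD3_c54) Lrfl Lrfl
theorem f655786 : Led Lsl_gt (LP (LK LD1_c23 LD2_c26 LD3_c54)) = (LP (LK LD1_c23 LD2_c40 LD3_c20)) :=
  Lgr Lrot46 (Lpe (f142449 IH) (Lpr_ft (f655654 IH) (Lpr_at (f655653 IH) (Lpn (LP (LK LD1_c23 LD2_c40 LD3_c20))))))
theorem f655814 : Led Lsl_dt (LP (LK LD1_c22 LD2_c27 LD3_c13)) = (LP (LK LD1_c23 LD2_c26 LD3_c54)) :=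
  Lgr Lrot57 (Lpe (f462850 IH) (Lpe (K37.f98782 IH) (Lpr_gt (K34.f16716 IH) (Lpr_dt (K34.f16717 IH) (Lpr_gt (f655810 IH) (Lpr_dt (f440371 IH) (Lpe (f655568 IH) (Lpe (f655597 IH) (Lpe (f655786 IH) (Lpn (LP (LK LD1_c23 LD2_c26 LD3_c54))))))))))))
theorem f142446 : Led Lsl_dt (LP (LK LD1_c7 LD2_c22 LD3_c1)) = (LP (LK LD1_c13 LD2_c55 LD3_c57)) :=
  Lre_d IH (LK LD1_c7 LD2_c22 LD3_c1) (LK LD1_c13 LD2_c55 LD3_c57) Lrfl Lrfl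
theorem f655824 : Led Lsl_et (LP (LK LD1_c22 LD2_c27 LD3_c13)) = (LP (LK LD1_c14 LD2_c29 LD3_c33)) :=
  Lgr Lrot185 (Lpr_dt (f655814 IH) (Lpe (f142449 IH) (Lpe (f142446 IH) (Lpr_gf (f533199 IH) (Lpe (K4.f97683 IH) (Lpr_dt (K5.f97682 IH) (Lpr_gf (K28.f203543 IH) (Lpe (K8.f127888 IH) (Lpr_et (K33.f127975 IH) (Lpr_gf (K34.f485347 IH) (Lpn (LP (LK LD1_c14 LD2_c29 LD3_c33)))))))))))))
theorem f655831 : Led Lsl_ef (LP (LK LD1_c22 LD2_c27 LD3_c13)) = (LP (LK LD1_c14 LD2_c29 LD3_c33)) :=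
  Lgr Lrot88 (Lpr_et (f655824 IH) (Lpn (LP (LK LD1_c14 LD2_c29 LD3_c33))))
theorem f486809 : Led Lsl_et (LP (LK LD1_c14 LD2_c29 LD3_c35)) = (LP (LK LD1_c7 LD2_c41 LD3_c20)) :=
  Lre_e IH (LK LD1_c14 LD2_c29 LD3_c35) (LK LD1_c7 LD2_c41 LD3_c20) Lrfl Lrfl
theorem f655835 : Led Lsl_ct (LP (LK LD1_c22 LD2_c27 LD3_c13)) = (LP (LK LD1_c14 LD2_c29 LD3_c35)) :=
  Lgr Lrot15 (Lpr_ef (f655831 IH) (Lpe (K33.f117333 IH) (Lpe (f486809 IH) (Lpn (LP (LK LD1_c14 LD2_c29 LD3_c35))))))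
theorem f98789 : Led Lsl_gt (LP (LK LD1_c13 LD2_c13 LD3_c26)) = (LP (LK LD1_c6 LD2_c57 LD3_c54)) :=
  Lre_g IH (LK LD1_c13 LD2_c13 LD3_c26) (LK LD1_c6 LD2_c57 LD3_c54) Lrfl Lrfl
theorem f492559 : Led Lsl_dt (LP (LK LD1_c13 LD2_c13 LD3_c26)) = (LP (LK LD1_c22 LD2_c27 LD3_c50)) :=
  Lre_d IH (LK LD1_c13 LD2_c13 LD3_c26) (LK LD1_c22 LD2_c27 LD3_c50) Lrfl Lrfl
theorem f516128 : Led Lsl_at (LP (LK LD1_c7 LD2_c38 LD3_c49)) = (LP (LK LD1_c13 LD2_c13 LD3_c25)) :=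
  Lgr Lrot80 (Lpe (K39.f484932 IH) (Lpe (K33.f484889 IH) (Lpr_ef (K34.f516126 IH) (Lpn (LP (LK LD1_c13 LD2_c13 LD3_c25))))))
theorem f516222 : Led Lsl_ff (LP (LK LD1_c7 LD2_c38 LD3_c49)) = (LP (LK LD1_c13 LD2_c13 LD3_c26)) :=
  Lgr Lrot52 (Lpr_at (f516128 IH) (Lpe (K34.f16716 IH) (Lpe (f98789 IH) (Lpn (LP (LK LD1_c13 LD2_c13 LD3_c26))))))
theorem f516226 : Led Lsl_ft (LP (LK LD1_c7 LD2_c38 LD3_c49)) = (LP (LK LD1_c13 LD2_c13 LD3_c26)) :=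
  Lgr Lrot48 (Lpr_ff (f516222 IH) (Lpn (LP (LK LD1_c13 LD2_c13 LD3_c26))))
theorem f516228 : Led Lsl_ff (LP (LK LD1_c14 LD2_c24 LD3_c48)) = (LP (LK LD1_c22 LD2_c27 LD3_c50)) :=
  Lgr Lrot19 (Lpr_dt (K33.f484792 IH) (Lpr_ft (f516226 IH) (Lpr_dt (f492559 IH) (Lpn (LP (LK LD1_c22 LD2_c27 LD3_c50))))))
theorem f484950 : Led Lsl_ft (LP (LK LD1_c31 LD2_c21 LD3_c13)) = (LP (LK LD1_c24 LD2_c3 LD3_c44)) :=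
  Lre_f IH (LK LD1_c31 LD2_c21 LD3_c13) (LK LD1_c24 LD2_c3 LD3_c44) Lrfl Lrfl
theorem f516163 : Led Lsl_ft (LP (LK LD1_c30 LD2_c31 LD3_c31)) = (LP (LK LD1_c32 LD2_c53 LD3_c3)) :=
  Lre_f IH (LK LD1_c30 LD2_c31 LD3_c31) (LK LD1_c32 LD2_c53 LD3_c3) Lrfl Lrfl
theorem f516164 : Led Lsl_df (LP (LK LD1_c31 LD2_c21 LD3_c13)) = (LP (LK LD1_c32 LD2_c53 LD3_c3)) :=
  Lgr Lrot78 (Lpr_ft (f484950 IH) (Lpr_dt (K34.f516133 IH) (Lpr_ft (f516163 IH) (Lpn (LP (LK LD1_c32 LD2_c53 LD3_c3))))))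
theorem f516171 : Led Lsl_dt (LP (LK LD1_c31 LD2_c21 LD3_c13)) = (LP (LK LD1_c32 LD2_c53 LD3_c3)) :=
  Lgr Lrot42 (Lpr_df (f516164 IH) (Lpn (LP (LK LD1_c32 LD2_c53 LD3_c3))))
theorem f516178 : Led Lsl_at (LP (LK LD1_c24 LD2_c3 LD3_c60)) = (LP (LK LD1_c31 LD2_c21 LD3_c13)) :=
  Lre_a IH (LK LD1_c24 LD2_c3 LD3_c60) (LK LD1_c31 LD2_c21 LD3_c13) Lrfl Lrfl
theorem f516179 : Led Lsl_dt (LP (LK LD1_c31 LD2_c21 LD3_c37)) = (LP (LK LD1_c24 LD2_c3 LD3_c60)) :=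
  Lre_d IH (LK LD1_c31 LD2_c21 LD3_c37) (LK LD1_c24 LD2_c3 LD3_c60) Lrfl Lrfl
theorem f516180 : Led Lsl_af (LP (LK LD1_c31 LD2_c21 LD3_c37)) = (LP (LK LD1_c32 LD2_c53 LD3_c3)) :=
  Lgr Lrot117 (Lpr_dt (f516179 IH) (Lpr_at (f516178 IH) (Lpr_dt (f516171 IH) (Lpn (LP (LK LD1_c32 LD2_c53 LD3_c3))))))
theorem f516185 : Led Lsl_ft (LP (LK LD1_c31 LD2_c21 LD3_c37)) = (LP (LK LD1_c24 LD2_c3 LD3_c59)) :=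
  Lre_f IH (LK LD1_c31 LD2_c21 LD3_c37) (LK LD1_c24 LD2_c3 LD3_c59) Lrfl Lrfl
theorem f516186 : Led Lsl_at (LP (LK LD1_c24 LD2_c3 LD3_c59)) = (LP (LK LD1_c30 LD2_c31 LD3_c31)) :=
  Lgr Lrot66 (Lpe (f516185 IH) (Lpr_af (f516180 IH) (Lpe (f516163 IH) (Lpn (LP (LK LD1_c30 LD2_c31 LD3_c31))))))
theorem f492926 : Led Lsl_et (LP (LK LD1_c14 LD2_c24 LD3_c48)) = (LP (LK LD1_c24 LD2_c3 LD3_c59)) :=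
  Lre_e IH (LK LD1_c14 LD2_c24 LD3_c48) (LK LD1_c24 LD2_c3 LD3_c59) Lrfl Lrfl
theorem f516191 : Led Lsl_af (LP (LK LD1_c14 LD2_c24 LD3_c48)) = (LP (LK LD1_c22 LD2_c27 LD3_c49)) :=
  Lgr Lrot50 (Lpr_et (f492926 IH) (Lpr_at (f516186 IH) (Lpr_et (K34.f516132 IH) (Lpn (LP (LK LD1_c22 LD2_c27 LD3_c49))))))
theorem f516194 : Led Lsl_at (LP (LK LD1_c14 LD2_c24 LD3_c48)) = (LP (LK LD1_c22 LD2_c27 LD3_c49)) :=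
  Lgr Lrot100 (Lpr_af (f516191 IH) (Lpn (LP (LK LD1_c22 LD2_c27 LD3_c49))))
theorem f516233 : Led Lsl_gf (LP (LK LD1_c14 LD2_c12 LD3_c57)) = (LP (LK LD1_c22 LD2_c27 LD3_c50)) :=
  Lgr Lrot47 (Lpr_gt (K34.f516135 IH) (Lpe (f516194 IH) (Lpr_ff (f516228 IH) (Lpn (LP (LK LD1_c22 LD2_c27 LD3_c50))))))
theorem f130733 : Led Lsl_ct (LP (LK LD1_c14 LD2_c12 LD3_c57)) = (LP (LK LD1_c23 LD2_c48 LD3_c7)) :=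
  Lre_c IH (LK LD1_c14 LD2_c12 LD3_c57) (LK LD1_c23 LD2_c48 LD3_c7) Lrfl Lrfl
theorem f533999 : Led Lsl_dt (LP (LK LD1_c24 LD2_c10 LD3_c41)) = (LP (LK LD1_c14 LD2_c29 LD3_c35)) :=
  Lre_d IH (LK LD1_c24 LD2_c10 LD3_c41) (LK LD1_c14 LD2_c29 LD3_c35) Lrfl Lrfl
theorem f655838 : Led Lsl_ct (LP (LK LD1_c31 LD2_c13 LD3_c34)) = (LP (LK LD1_c24 LD2_c10 LD3_c41)) :=
  Lgr Lrot110 (Lpe (f460881 IH) (Lpe (f130733 IH) (Lpr_gf (f516233 IH) (Lpe (f492559 IH) (Lpr_gt (f98789 IH) (Lpr_ct (K37.f98782 IH) (Lpr_gt (f462850 IH) (Lpr_ct (f655835 IH) (Lpe (f533999 IH) (Lpn (LP (LK LD1_c24 LD2_c10 LD3_c41))))))))))))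
theorem f655840 : Led Lsl_cf (LP (LK LD1_c31 LD2_c13 LD3_c34)) = (LP (LK LD1_c24 LD2_c10 LD3_c41)) :=
  Lgr Lrot11 (Lpr_ct (f655838 IH) (Lpn (LP (LK LD1_c24 LD2_c10 LD3_c41))))
theorem f463472 : Led Lsl_dt (LP (LK LD1_c22 LD2_c29 LD3_c46)) = (LP (LK LD1_c30 LD2_c32 LD3_c13)) :=
  Lre_d IH (LK LD1_c22 LD2_c29 LD3_c46) (LK LD1_c30 LD2_c32 LD3_c13) Lrfl Lrfl
theorem f162560 : Led Lsl_et (LP (LK LD1_c7 LD2_c35 LD3_c52)) = (LP (LK LD1_c14 LD2_c19 LD3_c21)) :=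
  Lre_e IH (LK LD1_c7 LD2_c35 LD3_c52) (LK LD1_c14 LD2_c19 LD3_c21) Lrfl Lrfl
theorem f486810 : Led Lsl_dt (LP (LK LD1_c14 LD2_c29 LD3_c35)) = (LP (LK LD1_c24 LD2_c10 LD3_c41)) :=
  Lre_d IH (LK LD1_c14 LD2_c29 LD3_c35) (LK LD1_c24 LD2_c10 LD3_c41) Lrfl Lrfl
theorem f533997 : Led Lsl_gt (LP (LK LD1_c30 LD2_c32 LD3_c13)) = (LP (LK LD1_c24 LD2_c10 LD3_c41)) :=
  Lgr Lrot139 (Lpe (f463472 IH) (Lpr_gf (f533995 IH) (Lpe (K4.f93218 IH) (Lpr_dt (K4.f93207 IH) (Lpe (K30.f93197 IH) (Lpe (K37.f162020 IH) (Lpr_et (f162560 IH) (Lpr_gf (K34.f486804 IH) (Lpe (f486809 IH) (Lpr_dt (f486810 IH) (Lpn (LP (LK LD1_c24 LD2_c10 LD3_c41)))))))))))))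
theorem f655598 : Led Lsl_gf (LP (LK LD1_c14 LD2_c6 LD3_c24)) = (LP (LK LD1_c13 LD2_c55 LD3_c55)) :=
  Lgr Lrot47 (Lpr_gt (f655595 IH) (Lpr_af (K4.f108917 IH) (Lpr_ff (K34.f532969 IH) (Lpn (LP (LK LD1_c13 LD2_c55 LD3_c55))))))
theorem f655526 : Led Lsl_ct (LP (LK LD1_c23 LD2_c48 LD3_c9)) = (LP (LK LD1_c14 LD2_c12 LD3_c58)) :=
  Lre_c IH (LK LD1_c23 LD2_c48 LD3_c9) (LK LD1_c14 LD2_c12 LD3_c58) Lrfl Lrfl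
theorem f655844 : Led Lsl_gt (LP (LK LD1_c31 LD2_c13 LD3_c34)) = (LP (LK LD1_c23 LD2_c48 LD3_c9)) :=
  Lgr Lrot150 (Lpr_cf (f655840 IH) (Lpe (f533997 IH) (Lpe (f463472 IH) (Lpr_gt (f533789 IH) (Lpr_ct (K34.f473488 IH) (Lpe (f655598 IH) (Lpr_ct (f655568 IH) (Lpe (f440371 IH) (Lpe (f655526 IH) (Lpn (LP (LK LD1_c23 LD2_c48 LD3_c9))))))))))))
theorem f655889 : Led Lsl_af (LP (LK LD1_c23 LD2_c48 LD3_c9)) = (LP (LK LD1_c22 LD2_c14 LD3_c25)) :=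
  Lgr Lrot31 (Lpe (f655844 IH) (Lpe (f460881 IH) (Lpr_ft (f655885 IH) (Lpn (LP (LK LD1_c22 LD2_c14 LD3_c25))))))
theorem f655893 : Led Lsl_at (LP (LK LD1_c14 LD2_c12 LD3_c58)) = (LP (LK LD1_c13 LD2_c4 LD3_c5)) :=
  Lgr Lrot107 (Lpe (f655526 IH) (Lpr_af (f655889 IH) (Lpe (f463443 IH) (Lpn (LP (LK LD1_c13 LD2_c4 LD3_c5))))))
theorem f655519 : Led Lsl_dt (LP (LK LD1_c22 LD2_c38 LD3_c26)) = (LP (LK LD1_c13 LD2_c21 LD3_c34)) :=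
  Lre_d IH (LK LD1_c22 LD2_c38 LD3_c26) (LK LD1_c13 LD2_c21 LD3_c34) Lrfl Lrfl
theorem f103807 : Led Lsl_dt (LP (LK LD1_c7 LD2_c32 LD3_c16)) = (LP (LK LD1_c14 LD2_c12 LD3_c58)) :=
  Lre_d IH (LK LD1_c7 LD2_c32 LD3_c16) (LK LD1_c14 LD2_c12 LD3_c58) Lrfl Lrfl
theorem f655520 : Led Lsl_bf (LP (LK LD1_c22 LD2_c38 LD3_c26)) = (LP (LK LD1_c14 LD2_c12 LD3_c58)) :=
  Lgr Lrot93 (Lpr_dt (f655519 IH) (Lpr_bt (f655508 IH) (Lpr_dt (f103807 IH) (Lpn (LP (LK LD1_c14 LD2_c12 LD3_c58))))))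
theorem f655524 : Led Lsl_bt (LP (LK LD1_c22 LD2_c38 LD3_c26)) = (LP (LK LD1_c14 LD2_c12 LD3_c58)) :=
  Lgr Lrot127 (Lpr_bf (f655520 IH) (Lpn (LP (LK LD1_c14 LD2_c12 LD3_c58))))
theorem f458517 : Led Lsl_at (LP (LK LD1_c13 LD2_c21 LD3_c38)) = (LP (LK LD1_c22 LD2_c38 LD3_c26)) :=
  Lre_a IH (LK LD1_c13 LD2_c21 LD3_c38) (LK LD1_c22 LD2_c38 LD3_c26) Lrfl Lrfl
theorem f458504 : Led Lsl_dt (LP (LK LD1_c7 LD2_c2 LD3_c42)) = (LP (LK LD1_c13 LD2_c21 LD3_c38)) :=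
  Lre_d IH (LK LD1_c7 LD2_c2 LD3_c42) (LK LD1_c13 LD2_c21 LD3_c38) Lrfl Lrfl
theorem f98731 : Led Lsl_dt (LP (LK LD1_c13 LD2_c2 LD3_c60)) = (LP (LK LD1_c6 LD2_c51 LD3_c39)) :=
  Lre_d IH (LK LD1_c13 LD2_c2 LD3_c60) (LK LD1_c6 LD2_c51 LD3_c39) Lrfl Lrfl
theorem f458505 : Led Lsl_bt (LP (LK LD1_c13 LD2_c21 LD3_c38)) = (LP (LK LD1_c13 LD2_c2 LD3_c60)) :=
  Lgr Lrot95 (Lpe (f458504 IH) (Lpr_bf (f457650 IH) (Lpe (f98731 IH) (Lpn (LP (LK LD1_c13 LD2_c2 LD3_c60))))))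
theorem f458510 : Led Lsl_bf (LP (LK LD1_c13 LD2_c21 LD3_c38)) = (LP (LK LD1_c13 LD2_c2 LD3_c60)) :=
  Lgr Lrot24 (Lpr_bt (f458505 IH) (Lpn (LP (LK LD1_c13 LD2_c2 LD3_c60))))
theorem f476597 : Led Lsl_bt (LP (LK LD1_c13 LD2_c4 LD3_c5)) = (LP (LK LD1_c6 LD2_c52 LD3_c17)) :=
  Lre_b IH (LK LD1_c13 LD2_c4 LD3_c5) (LK LD1_c6 LD2_c52 LD3_c17) Lrfl Lrfl
theorem f655895 : Led Lsl_af (LP (LK LD1_c13 LD2_c2 LD3_c60)) = (LP (LK LD1_c6 LD2_c52 LD3_c17)) :=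
  Lgr Lrot36 (Lpe (f458510 IH) (Lpr_at (f458517 IH) (Lpr_bt (f655524 IH) (Lpr_at (f655893 IH) (Lpr_bt (f476597 IH) (Lpn (LP (LK LD1_c6 LD2_c52 LD3_c17))))))))
theorem f480678 : Led Lsl_gf (LP (LK LD1_c13 LD2_c2 LD3_c60)) = (LP (LK LD1_c13 LD2_c12 LD3_c55)) :=
  Lgr Lrot143 (Lpr_dt (f98731 IH) (Lpe (K28.f18560 IH) (Lpe (K28.f98722 IH) (Lpr_gf (K35.f479441 IH) (Lpe (K28.f456902 IH) (Lpr_gf (K24.f458189 IH) (Lpe (K33.f98717 IH) (Lpr_gt (K29.f473528 IH) (Lpr_dt (K29.f472943 IH) (Lpn (LP (LK LD1_c13 LD2_c12 LD3_c55))))))))))))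
theorem f655907 : Led Lsl_ft (LP (LK LD1_c13 LD2_c2 LD3_c59)) = (LP (LK LD1_c6 LD2_c52 LD3_c17)) :=
  Lgr Lrot2 (Lpr_gt (K29.f480700 IH) (Lpe (f480678 IH) (Lpr_af (f655895 IH) (Lpn (LP (LK LD1_c6 LD2_c52 LD3_c17))))))
theorem f655909 : Led Lsl_ff (LP (LK LD1_c22 LD2_c12 LD3_c41)) = (LP (LK LD1_c13 LD2_c4 LD3_c7)) :=
  Lgr Lrot23 (Lpr_ct (K29.f460893 IH) (Lpr_ft (f655907 IH) (Lpr_ct (K28.f468992 IH) (Lpn (LP (LK LD1_c13 LD2_c4 LD3_c7))))))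
theorem f655917 : Led Lsl_at (LP (LK LD1_c22 LD2_c12 LD3_c41)) = (LP (LK LD1_c13 LD2_c3 LD3_c57)) :=
  Lgr Lrot33 (Lpr_ff (f655909 IH) (Lpe (K28.f468989 IH) (Lpe (K28.f473248 IH) (Lpr_dt (K28.f467477 IH) (Lpr_ct (K28.f91515 IH) (Lpr_dt (K28.f17091 IH) (Lpr_ct (K28.f18585 IH) (Lpr_dt (K28.f468318 IH) (Lpr_ct (K28.f472748 IH) (Lpn (LP (LK LD1_c13 LD2_c3 LD3_c57))))))))))))
theorem f655923 : Led Lsl_af (LP (LK LD1_c13 LD2_c7 LD3_c37)) = (LP (LK LD1_c6 LD2_c57 LD3_c11)) :=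
  Lgr Lrot117 (Lpe (K29.f473333 IH) (Lpr_at (f655917 IH) (Lpr_dt (K28.f472743 IH) (Lpn (LP (LK LD1_c6 LD2_c57 LD3_c11))))))
theorem f655933 : Led Lsl_ft (LP (LK LD1_c13 LD2_c7 LD3_c36)) = (LP (LK LD1_c6 LD2_c57 LD3_c11)) :=
  Lgr Lrot2 (Lpr_gt (K29.f15433 IH) (Lpr_gt (K29.f15436 IH) (Lpr_af (f655923 IH) (Lpn (LP (LK LD1_c6 LD2_c57 LD3_c11))))))
theorem f655941 : Led Lsl_ff (LP (LK LD1_c13 LD2_c7 LD3_c36)) = (LP (LK LD1_c6 LD2_c57 LD3_c11)) :=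
  Lgr Lrot3 (Lpr_ft (f655933 IH) (Lpn (LP (LK LD1_c6 LD2_c57 LD3_c11))))
theorem f655947 : Led Lsl_at (LP (LK LD1_c13 LD2_c7 LD3_c36)) = (LP (LK LD1_c6 LD2_c57 LD3_c10)) :=
  Lgr Lrot26 (Lpr_ff (f655941 IH) (Lpr_gt (K28.f17027 IH) (Lpr_gt (K28.f16893 IH) (Lpn (LP (LK LD1_c6 LD2_c57 LD3_c10))))))
theorem f655925 : Led Lsl_at (LP (LK LD1_c13 LD2_c7 LD3_c37)) = (LP (LK LD1_c6 LD2_c57 LD3_c11)) :=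
  Lgr Lrot100 (Lpr_af (f655923 IH) (Lpn (LP (LK LD1_c6 LD2_c57 LD3_c11))))
theorem f655954 : Led Lsl_ff (LP (LK LD1_c13 LD2_c7 LD3_c37)) = (LP (LK LD1_c6 LD2_c57 LD3_c10)) :=
  Lgr Lrot30 (Lpr_at (f655925 IH) (Lpe (f655941 IH) (Lpr_at (f655947 IH) (Lpn (LP (LK LD1_c6 LD2_c57 LD3_c10))))))
theorem f655958 : Led Lsl_ft (LP (LK LD1_c13 LD2_c24 LD3_c22)) = (LP (LK LD1_c13 LD2_c4 LD3_c2)) :=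
  Lgr Lrot4 (Lpr_cf (K29.f464447 IH) (Lpr_ff (f655954 IH) (Lpe (K29.f473251 IH) (Lpn (LP (LK LD1_c13 LD2_c4 LD3_c2))))))
theorem f655964 : Led Lsl_ff (LP (LK LD1_c13 LD2_c24 LD3_c22)) = (LP (LK LD1_c13 LD2_c4 LD3_c2)) :=
  Lgr Lrot3 (Lpr_ft (f655958 IH) (Lpn (LP (LK LD1_c13 LD2_c4 LD3_c2))))
theorem f655968 : Led Lsl_ft (LP (LK LD1_c7 LD2_c4 LD3_c18)) = (LP (LK LD1_c6 LD2_c52 LD3_c13)) :=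
  Lgr Lrot54 (Lpe (K28.f98725 IH) (Lpr_ff (f655964 IH) (Lpe (K28.f468884 IH) (Lpn (LP (LK LD1_c6 LD2_c52 LD3_c13))))))
theorem f655972 : Led Lsl_ff (LP (LK LD1_c3 LD2_c31 LD3_c16)) = (LP (LK LD1_c3 LD2_c24 LD3_c51)) :=
  Lgr Lrot23 (Lpr_ct (K28.f98732 IH) (Lpr_ft (f655968 IH) (Lpr_ct (K28.f91515 IH) (Lpn (LP (LK LD1_c3 LD2_c24 LD3_c51))))))
theorem f655975 : Led Lsl_ft (LP (LK LD1_c3 LD2_c31 LD3_c16)) = (LP (LK LD1_c3 LD2_c24 LD3_c51)) :=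
  Lgr Lrot48 (Lpr_ff (f655972 IH) (Lpn (LP (LK LD1_c3 LD2_c24 LD3_c51))))
theorem f98729 : Led Lsl_et (LP (LK LD1_c1 LD2_c42 LD3_c9)) = (LP (LK LD1_c3 LD2_c31 LD3_c16)) :=
  Lre_e IH (LK LD1_c1 LD2_c42 LD3_c9) (LK LD1_c3 LD2_c31 LD3_c16) Lrfl Lrfl
theorem f514613 : Led Lsl_ff (LP (LK LD1_c1 LD2_c42 LD3_c9)) = v2318 :=
  Lgr Lrot3 (Lpr_ft (f514611 IH) (Lpn v2318))
theorem f657439 : Led Lsl_ff v3941 = v6644 :=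
  Lgr Lrot72 (Lpe (f628169 IH) (Lpq (f654686 IH) (Lpe (f514613 IH) (Lpr_et (f98729 IH) (Lpr_ft (f655975 IH) (Lpr_et (f657435 IH) (Lpn v6644)))))))
theorem f654684 : Led Lsl_af (LP (LK LD1_c3 LD2_c31 LD3_c19)) = v3941 :=
  Lgr Lrot0 (Lpr_at (f654683 IH) (Lpn v3941))
theorem f654682 : Led Lsl_ft (LP (LK LD1_c3 LD2_c31 LD3_c19)) = v3942 :=
  Lgr Lrot48 (Lpr_ff (f654680 IH) (Lpn v3942))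
theorem f657444 : Led Lsl_at v3942 = v6644 :=
  Lgr Lrot66 (Lpe (f654682 IH) (Lpr_af (f654684 IH) (Lpr_ff (f657439 IH) (Lpn v6644))))
theorem f15310 : Led Lsl_ef (LP (LK LD1_c1 LD2_c54 LD3_c35)) = (LP (LK LD1_c1 LD2_c39 LD3_c52)) :=
  Lgr Lrot28 (Lpr_ct (K34.f14817 IH) (Lpr_et (K0.f15293 IH) (Lpr_ct (K28.f15309 IH) (Lpn (LP (LK LD1_c1 LD2_c39 LD3_c52))))))
def v3512 : LQ := Led Lsl_gf K35.v902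
theorem f626054 : Led Lsl_gf K35.v902 = v3512 :=
  Lrfl
def v2741 : LQ := Led Lsl_dt (LP (LK LD1_c1 LD2_c54 LD3_c33))
theorem f531708 : Led Lsl_dt (LP (LK LD1_c1 LD2_c54 LD3_c33)) = v2741 :=
  Lrfl
theorem f531709 : Led Lsl_df (LP (LK LD1_c1 LD2_c54 LD3_c33)) = v2741 :=
  Lgr Lrot38 (Lpr_dt (f531708 IH) (Lpn v2741))
theorem f532479 : Led Lsl_af v2741 = K35.v902 :=
  Lgr Lrot117 (Lpe (f531709 IH) (Lpr_at (K34.f531704 IH) (Lpq (K34.f531817 IH) (Lpr_dt (K35.f490370 IH) (Lpn K35.v902)))))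
theorem f532480 : Led Lsl_at v2741 = K35.v902 :=
  Lgr Lrot100 (Lpr_af (f532479 IH) (Lpn K35.v902))
theorem f532477 : Led Lsl_ff K35.v904 = v2741 :=
  Lgr Lrot19 (Lpe (K35.f490377 IH) (Lpqs (K34.f531816 IH) (Lpe (K34.f531717 IH) (Lpr_dt (f531708 IH) (Lpn v2741)))))
theorem f532478 : Led Lsl_ft K35.v904 = v2741 :=
  Lgr Lrot48 (Lpr_ff (f532477 IH) (Lpn v2741))
theorem f626055 : Led Lsl_gt K35.v904 = v3512 :=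
  Lgr Lrot5 (Lpr_ft (f532478 IH) (Lpr_at (f532480 IH) (Lpr_gf (f626054 IH) (Lpn v3512))))
theorem f626046 : Led Lsl_ef (LP (LK LD1_c3 LD2_c26 LD3_c38)) = K35.v3511 :=
  Lgr Lrot73 (Lpr_dt (K33.f455103 IH) (Lpr_et (K33.f511406 IH) (Lpe (K33.f511412 IH) (Lpr_et (K33.f478905 IH) (Lpr_dt (K35.f626043 IH) (Lpn K35.v3511))))))
theorem f484170 : Led Lsl_dt (LP (LK LD1_c13 LD2_c37 LD3_c9)) = (LP (LK LD1_c13 LD2_c8 LD3_c42)) :=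
  Lgr Lrot42 (Lpr_df (K33.f484163 IH) (Lpn (LP (LK LD1_c13 LD2_c8 LD3_c42))))
theorem f456746 : Led Lsl_dt (LP (LK LD1_c3 LD2_c35 LD3_c4)) = (LP (LK LD1_c7 LD2_c11 LD3_c19)) :=
  Lre_d IH (LK LD1_c3 LD2_c35 LD3_c4) (LK LD1_c7 LD2_c11 LD3_c19) Lrfl Lrfl
theorem f454983 : Led Lsl_ct (LP (LK LD1_c1 LD2_c44 LD3_c17)) = (LP (LK LD1_c3 LD2_c35 LD3_c4)) :=
  Lre_c IH (LK LD1_c1 LD2_c44 LD3_c17) (LK LD1_c3 LD2_c35 LD3_c4) Lrfl Lrfl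
theorem f454985 : Led Lsl_ct (LP (LK LD1_c3 LD2_c34 LD3_c56)) = (LP (LK LD1_c1 LD2_c44 LD3_c12)) :=
  Lre_c IH (LK LD1_c3 LD2_c34 LD3_c56) (LK LD1_c1 LD2_c44 LD3_c12) Lrfl Lrfl
theorem f478711 : Led Lsl_ft (LP (LK LD1_c3 LD2_c35 LD3_c4)) = (LP (LK LD1_c3 LD2_c34 LD3_c56)) :=
  Lgr Lrot4 (Lpe (f454983 IH) (Lpr_ff (K29.f478707 IH) (Lpe (f454985 IH) (Lpn (LP (LK LD1_c3 LD2_c34 LD3_c56))))))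
theorem f15109 : Led Lsl_ct (LP (LK LD1_c3 LD2_c26 LD3_c38)) = (LP (LK LD1_c6 LD2_c55 LD3_c6)) :=
  Lre_c IH (LK LD1_c3 LD2_c26 LD3_c38) (LK LD1_c6 LD2_c55 LD3_c6) Lrfl Lrfl
theorem f485609 : Led Lsl_at (LP (LK LD1_c3 LD2_c34 LD3_c56)) = (LP (LK LD1_c6 LD2_c55 LD3_c6)) :=
  Lgr Lrot33 (Lpe (f478711 IH) (Lpr_dt (f456746 IH) (Lpr_ct (K43.f456747 IH) (Lpr_dt (f484170 IH) (Lpr_ct (K43.f484182 IH) (Lpr_dt (K43.f484191 IH) (Lpr_ct (K33.f481759 IH) (Lpr_dt (K33.f15108 IH) (Lpr_ct (f15109 IH) (Lpn (LP (LK LD1_c6 LD2_c55 LD3_c6))))))))))))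
theorem f455895 : Led Lsl_ct (LP (LK LD1_c1 LD2_c44 LD3_c12)) = (LP (LK LD1_c3 LD2_c34 LD3_c56)) :=
  Lre_c IH (LK LD1_c1 LD2_c44 LD3_c12) (LK LD1_c3 LD2_c34 LD3_c56) Lrfl Lrfl
theorem f455104 : Led Lsl_ct (LP (LK LD1_c6 LD2_c55 LD3_c6)) = (LP (LK LD1_c3 LD2_c26 LD3_c38)) :=
  Lre_c IH (LK LD1_c6 LD2_c55 LD3_c6) (LK LD1_c3 LD2_c26 LD3_c38) Lrfl Lrfl
theorem f485613 : Led Lsl_af (LP (LK LD1_c1 LD2_c44 LD3_c12)) = (LP (LK LD1_c3 LD2_c26 LD3_c38)) :=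
  Lgr Lrot68 (Lpr_ct (f455895 IH) (Lpr_at (f485609 IH) (Lpr_ct (f455104 IH) (Lpn (LP (LK LD1_c3 LD2_c26 LD3_c38))))))
def v2388 : LQ := Led Lsl_et (LP (LK LD1_c1 LD2_c44 LD3_c12))
theorem f519433 : Led Lsl_et (LP (LK LD1_c1 LD2_c44 LD3_c12)) = v2388 :=
  Lrfl
theorem f626052 : Led Lsl_at v2388 = K35.v3511 :=
  Lgr Lrot80 (Lpe (f519433 IH) (Lpr_af (f485613 IH) (Lpr_ef (f626046 IH) (Lpn K35.v3511))))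
theorem f626056 : Led Lsl_ff v2388 = v3512 :=
  Lgr Lrot52 (Lpr_at (f626052 IH) (Lpe (K35.f626040 IH) (Lpr_gf (f626054 IH) (Lpn v3512))))
theorem f455891 : Led Lsl_dt (LP (LK LD1_c0 LD2_c48 LD3_c39)) = (LP (LK LD1_c1 LD2_c44 LD3_c12)) :=
  Lre_d IH (LK LD1_c0 LD2_c48 LD3_c39) (LK LD1_c1 LD2_c44 LD3_c12) Lrfl Lrfl
theorem f455914 : Led Lsl_et (LP (LK LD1_c1 LD2_c46 LD3_c32)) = (LP (LK LD1_c0 LD2_c49 LD3_c58)) :=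
  Lre_e IH (LK LD1_c1 LD2_c46 LD3_c32) (LK LD1_c0 LD2_c49 LD3_c58) Lrfl Lrfl
theorem f519435 : Led Lsl_df (LP (LK LD1_c1 LD2_c46 LD3_c32)) = v2388 :=
  Lgr Lrot70 (Lpr_et (f455914 IH) (Lpr_dt (K35.f455909 IH) (Lpe (K29.f455904 IH) (Lpr_dt (f455891 IH) (Lpr_et (f519433 IH) (Lpn v2388))))))
theorem f626058 : Led Lsl_dt K34.v2483 = v3512 :=
  Lgr Lrot60 (Lpe (K34.f522677 IH) (Lpr_df (f519435 IH) (Lpr_ff (f626056 IH) (Lpn v3512))))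
def v1016 : LQ := Led Lsl_bt K34.v175
def v3718 : LQ := Led Lsl_dt v1016
theorem f626985 : Led Lsl_dt v1016 = v3718 :=
  Lrfl
theorem f491021 : Led Lsl_bt K34.v175 = v1016 :=
  Lrfl
theorem f6637 : Led Lsl_bt (LP (LK LD1_c1 LD2_c45 LD3_c56)) = (LP (LK LD1_c0 LD2_c49 LD3_c37)) :=
  Lre_b IH (LK LD1_c1 LD2_c45 LD3_c56) (LK LD1_c0 LD2_c49 LD3_c37) Lrfl Lrfl
theorem f491023 : Led Lsl_ff (LP (LK LD1_c1 LD2_c45 LD3_c56)) = v1016 :=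
  Lgr Lrot25 (Lpr_bt (f6637 IH) (Lpq (K29.f479114 IH) (Lpe (K34.f456931 IH) (Lpr_bt (f491021 IH) (Lpn v1016)))))
theorem f491024 : Led Lsl_ft (LP (LK LD1_c1 LD2_c45 LD3_c56)) = v1016 :=
  Lgr Lrot48 (Lpr_ff (f491023 IH) (Lpn v1016))
theorem f626988 : Led Lsl_ff K29.v1134 = v3718 :=
  Lgr Lrot19 (Lpe (K29.f491669 IH) (Lpr_ft (f491024 IH) (Lpr_dt (f626985 IH) (Lpn v3718))))
theorem f455910 : Led Lsl_et (LP (LK LD1_c0 LD2_c49 LD3_c58)) = (LP (LK LD1_c1 LD2_c46 LD3_c32)) :=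
  Lre_e IH (LK LD1_c0 LD2_c49 LD3_c58) (LK LD1_c1 LD2_c46 LD3_c32) Lrfl Lrfl
theorem f626990 : Led Lsl_et K34.v2483 = v3718 :=
  Lgr Lrot69 (Lpe (K34.f522677 IH) (Lpe (f455910 IH) (Lpr_ff (K29.f457008 IH) (Lpqs (K29.f478889 IH) (Lpr_ef (K29.f491666 IH) (Lpr_ff (f626988 IH) (Lpn v3718)))))))
theorem f657440 : Led Lsl_gt v3718 = v6644 :=
  Lgr Lrot131 (Lpe (f626990 IH) (Lpr_dt (f626058 IH) (Lpe (f626055 IH) (Lpe (K35.f490376 IH) (Lpe (K29.f14857 IH) (Lpr_ef (f15310 IH) (Lpr_dt (K2.f15823 IH) (Lpe (K28.f15835 IH) (Lpe (K28.f17091 IH) (Lpr_et (f657435 IH) (Lpn v6644)))))))))))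
theorem f657446 : Led Lsl_gt (LP (LK LD1_c3 LD2_c31 LD3_c19)) = v3718 :=
  Lgr Lrot5 (Lpr_ft (f654682 IH) (Lpr_at (f657444 IH) (Lpe (f657440 IH) (Lpn v3718))))
theorem f466237 : Led Lsl_ct (LP (LK LD1_c3 LD2_c31 LD3_c19)) = (LP (LK LD1_c7 LD2_c4 LD3_c22)) :=
  Lre_c IH (LK LD1_c3 LD2_c31 LD3_c19) (LK LD1_c7 LD2_c4 LD3_c22) Lrfl Lrfl
theorem f626987 : Led Lsl_df v1016 = v3718 :=
  Lgr Lrot38 (Lpr_dt (f626985 IH) (Lpn v3718))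
def v2461 : LQ := Led Lsl_dt (LP (LK LD1_c1 LD2_c45 LD3_c50))
theorem f522428 : Led Lsl_dt (LP (LK LD1_c1 LD2_c45 LD3_c50)) = v2461 :=
  Lrfl
theorem f456723 : Led Lsl_dt (LP (LK LD1_c3 LD2_c37 LD3_c60)) = (LP (LK LD1_c7 LD2_c16 LD3_c24)) :=
  Lre_d IH (LK LD1_c3 LD2_c37 LD3_c60) (LK LD1_c7 LD2_c16 LD3_c24) Lrfl Lrfl
theorem f479215 : Led Lsl_ft (LP (LK LD1_c1 LD2_c52 LD3_c18)) = (LP (LK LD1_c3 LD2_c37 LD3_c60)) :=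
  Lgr Lrot48 (Lpr_ff (K29.f479208 IH) (Lpn (LP (LK LD1_c3 LD2_c37 LD3_c60))))
theorem f487486 : Led Lsl_ff (LP (LK LD1_c3 LD2_c50 LD3_c52)) = (LP (LK LD1_c7 LD2_c16 LD3_c24)) :=
  Lgr Lrot19 (Lpr_dt (K3.f97840 IH) (Lpr_ft (f479215 IH) (Lpr_dt (f456723 IH) (Lpn (LP (LK LD1_c7 LD2_c16 LD3_c24))))))
theorem f97829 : Led Lsl_af (LP (LK LD1_c3 LD2_c27 LD3_c14)) = (LP (LK LD1_c3 LD2_c50 LD3_c52)) :=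
  Lgr Lrot0 (Lpr_at (K3.f97826 IH) (Lpn (LP (LK LD1_c3 LD2_c50 LD3_c52))))
theorem f11994 : Led Lsl_gt (LP (LK LD1_c6 LD2_c56 LD3_c26)) = (LP (LK LD1_c3 LD2_c27 LD3_c14)) :=
  Lre_g IH (LK LD1_c6 LD2_c56 LD3_c26) (LK LD1_c3 LD2_c27 LD3_c14) Lrfl Lrfl
theorem f487497 : Led Lsl_gf (LP (LK LD1_c6 LD2_c56 LD3_c26)) = (LP (LK LD1_c7 LD2_c16 LD3_c24)) :=
  Lgr Lrot47 (Lpr_gt (f11994 IH) (Lpr_af (f97829 IH) (Lpr_ff (f487486 IH) (Lpn (LP (LK LD1_c7 LD2_c16 LD3_c24))))))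
theorem f12011 : Led Lsl_et (LP (LK LD1_c1 LD2_c40 LD3_c13)) = (LP (LK LD1_c0 LD2_c46 LD3_c36)) :=
  Lre_e IH (LK LD1_c1 LD2_c40 LD3_c13) (LK LD1_c0 LD2_c46 LD3_c36) Lrfl Lrfl
theorem f485784 : Led Lsl_et (LP (LK LD1_c6 LD2_c53 LD3_c39)) = (LP (LK LD1_c3 LD2_c25 LD3_c51)) :=
  Lre_e IH (LK LD1_c6 LD2_c53 LD3_c39) (LK LD1_c3 LD2_c25 LD3_c51) Lrfl Lrfl
theorem f485869 : Led Lsl_df (LP (LK LD1_c6 LD2_c56 LD3_c26)) = (LP (LK LD1_c6 LD2_c53 LD3_c39)) :=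
  Lgr Lrot170 (Lpr_gt (f11994 IH) (Lpe (K3.f12008 IH) (Lpr_et (f12011 IH) (Lpr_gt (K2.f11953 IH) (Lpr_dt (K2.f11970 IH) (Lpr_gt (K2.f11971 IH) (Lpe (K2.f94807 IH) (Lpr_et (K3.f94809 IH) (Lpr_gt (K34.f485861 IH) (Lpe (f485784 IH) (Lpn (LP (LK LD1_c6 LD2_c53 LD3_c39)))))))))))))
theorem f485874 : Led Lsl_dt (LP (LK LD1_c6 LD2_c56 LD3_c26)) = (LP (LK LD1_c6 LD2_c53 LD3_c39)) :=
  Lgr Lrot42 (Lpr_df (f485869 IH) (Lpn (LP (LK LD1_c6 LD2_c53 LD3_c39))))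
theorem f485836 : Led Lsl_ct (LP (LK LD1_c6 LD2_c53 LD3_c39)) = (LP (LK LD1_c3 LD2_c25 LD3_c53)) :=
  Lre_c IH (LK LD1_c6 LD2_c53 LD3_c39) (LK LD1_c3 LD2_c25 LD3_c53) Lrfl Lrfl
theorem f522432 : Led Lsl_gf (LP (LK LD1_c3 LD2_c26 LD3_c58)) = v2461 :=
  Lgr Lrot143 (Lpr_dt (K29.f485844 IH) (Lpe (f485836 IH) (Lpe (f485874 IH) (Lpr_gf (f487497 IH) (Lpe (f456723 IH) (Lpe (K29.f456722 IH) (Lpe (K29.f10153 IH) (Lpr_gt (K29.f450898 IH) (Lpr_dt (f522428 IH) (Lpn v2461))))))))))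
theorem f522433 : Led Lsl_gt v1016 = v2461 :=
  Lgr Lrot5 (Lpe (f491023 IH) (Lpr_at (K29.f491670 IH) (Lpr_gf (f522432 IH) (Lpn v2461))))
theorem f522430 : Led Lsl_df (LP (LK LD1_c1 LD2_c45 LD3_c50)) = v2461 :=
  Lgr Lrot38 (Lpr_dt (f522428 IH) (Lpn v2461))
theorem f457328 : Led Lsl_dt (LP (LK LD1_c7 LD2_c16 LD3_c20)) = (LP (LK LD1_c3 LD2_c37 LD3_c58)) :=
  Lre_d IH (LK LD1_c7 LD2_c16 LD3_c20) (LK LD1_c3 LD2_c37 LD3_c58) Lrfl Lrfl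
theorem f476892 : Led Lsl_ff (LP (LK LD1_c3 LD2_c55 LD3_c45)) = (LP (LK LD1_c7 LD2_c16 LD3_c20)) :=
  Lgr Lrot3 (Lpr_ft (K29.f476885 IH) (Lpn (LP (LK LD1_c7 LD2_c16 LD3_c20))))
theorem f136576 : Led Lsl_ft (LP (LK LD1_c3 LD2_c26 LD3_c54)) = (LP (LK LD1_c6 LD2_c55 LD3_c41)) :=
  Lre_f IH (LK LD1_c3 LD2_c26 LD3_c54) (LK LD1_c6 LD2_c55 LD3_c41) Lrfl Lrfl
theorem f476898 : Led Lsl_at (LP (LK LD1_c6 LD2_c55 LD3_c41)) = (LP (LK LD1_c7 LD2_c16 LD3_c20)) :=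
  Lgr Lrot66 (Lpe (f136576 IH) (Lpe (K8.f136566 IH) (Lpr_ff (f476892 IH) (Lpn (LP (LK LD1_c7 LD2_c16 LD3_c20))))))
theorem f476933 : Led Lsl_gt (LP (LK LD1_c6 LD2_c55 LD3_c38)) = (LP (LK LD1_c7 LD2_c16 LD3_c20)) :=
  Lgr Lrot46 (Lpe (K34.f102588 IH) (Lpr_ft (f136576 IH) (Lpr_at (f476898 IH) (Lpn (LP (LK LD1_c7 LD2_c16 LD3_c20))))))
theorem f657447 : Led Lsl_gt (LP (LK LD1_c7 LD2_c4 LD3_c22)) = (LP (LK LD1_c13 LD2_c9 LD3_c21)) :=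
  Lgr Lrot94 (Lpe (f466237 IH) (Lpr_gt (f657446 IH) (Lpe (f626987 IH) (Lpr_gt (f522433 IH) (Lpe (f522430 IH) (Lpe (K29.f456658 IH) (Lpe (f457328 IH) (Lpe (f476933 IH) (Lpe (K34.f102589 IH) (Lpn (LP (LK LD1_c13 LD2_c9 LD3_c21))))))))))))
theorem f657448 : Led Lsl_gt (LP (LK LD1_c7 LD2_c4 LD3_c22)) = (LP (LK LD1_c13 LD2_c9 LD3_c21)) :=
  Leop (Lpe (f657447 IH) (Lpn (LP (LK LD1_c7 LD2_c4 LD3_c22))))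
theorem seed_391 : LEOK LG_g (LK LD1_c7 LD2_c4 LD3_c22) :=
  Leoe_g (LK LD1_c7 LD2_c4 LD3_c22) (f657448 IH)
def v6668 : LQ := Led Lsl_dt (LP (LK LD1_c3 LD2_c25 LD3_c25))
theorem f657560 : Led Lsl_dt (LP (LK LD1_c3 LD2_c25 LD3_c25)) = v6668 :=
  Lrfl
theorem f657564 : Led Lsl_ef (LP (LK LD1_c3 LD2_c35 LD3_c56)) = v6668 :=
  Lgr Lrot73 (Lpr_dt (K3.f106336 IH) (Lpr_et (K3.f106331 IH) (Lpe (K3.f109154 IH) (Lpr_et (K24.f109158 IH) (Lpr_dt (f657560 IH) (Lpn v6668))))))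
def v2671 : LQ := Led Lsl_dt (LP (LK LD1_c1 LD2_c52 LD3_c1))
theorem f530256 : Led Lsl_dt (LP (LK LD1_c1 LD2_c52 LD3_c1)) = v2671 :=
  Lrfl
theorem f530259 : Led Lsl_ef (LP (LK LD1_c3 LD2_c1 LD3_c33)) = v2671 :=
  Lgr Lrot73 (Lpr_dt (K4.f84965 IH) (Lpr_et (K2.f84714 IH) (Lpr_dt (K2.f84930 IH) (Lpr_et (K33.f84959 IH) (Lpr_dt (f530256 IH) (Lpn v2671))))))
theorem f530258 : Led Lsl_df (LP (LK LD1_c1 LD2_c52 LD3_c1)) = v2671 :=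
  Lgr Lrot38 (Lpr_dt (f530256 IH) (Lpn v2671))
theorem f466699 : Led Lsl_dt (LP (LK LD1_c3 LD2_c34 LD3_c11)) = (LP (LK LD1_c1 LD2_c43 LD3_c46)) :=
  Lre_d IH (LK LD1_c3 LD2_c34 LD3_c11) (LK LD1_c1 LD2_c43 LD3_c46) Lrfl Lrfl
theorem f484346 : Led Lsl_gt (LP (LK LD1_c7 LD2_c9 LD3_c33)) = (LP (LK LD1_c3 LD2_c34 LD3_c11)) :=
  Lre_g IH (LK LD1_c7 LD2_c9 LD3_c33) (LK LD1_c3 LD2_c34 LD3_c11) Lrfl Lrfl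
theorem f657563 : Led Lsl_df (LP (LK LD1_c3 LD2_c25 LD3_c25)) = v6668 :=
  Lgr Lrot38 (Lpr_dt (f657560 IH) (Lpn v6668))
theorem f458452 : Led Lsl_dt (LP (LK LD1_c7 LD2_c4 LD3_c14)) = (LP (LK LD1_c3 LD2_c31 LD3_c13)) :=
  Lre_d IH (LK LD1_c7 LD2_c4 LD3_c14) (LK LD1_c3 LD2_c31 LD3_c13) Lrfl Lrfl
theorem f657568 : Led Lsl_ef (LP (LK LD1_c7 LD2_c9 LD3_c33)) = (LP (LK LD1_c7 LD2_c4 LD3_c14)) :=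
  Lgr Lrot167 (Lpr_gt (f484346 IH) (Lpr_dt (f466699 IH) (Lpr_gt (K33.f484334 IH) (Lpr_df (f530258 IH) (Lpe (f530259 IH) (Lpr_gt (K3.f109140 IH) (Lpr_ef (f657564 IH) (Lpe (f657563 IH) (Lpe (K43.f464559 IH) (Lpe (f458452 IH) (Lpn (LP (LK LD1_c7 LD2_c4 LD3_c14)))))))))))))
theorem f657569 : Led Lsl_et (LP (LK LD1_c7 LD2_c4 LD3_c14)) = (LP (LK LD1_c7 LD2_c9 LD3_c33)) :=
  Leop (Lpr_ef (f657568 IH) (Lpn (LP (LK LD1_c7 LD2_c4 LD3_c14))))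
theorem seed_392 : LEOK LG_e (LK LD1_c7 LD2_c4 LD3_c14) :=
  Leoe_e (LK LD1_c7 LD2_c4 LD3_c14) (f657569 IH)
theorem f490338 : Led Lsl_bt (LP (LK LD1_c3 LD2_c31 LD3_c15)) = (LP (LK LD1_c7 LD2_c4 LD3_c14)) :=
  Lre_b IH (LK LD1_c3 LD2_c31 LD3_c15) (LK LD1_c7 LD2_c4 LD3_c14) Lrfl Lrfl
theorem f490336 : Led Lsl_ef (LP (LK LD1_c3 LD2_c31 LD3_c15)) = (LP (LK LD1_c3 LD2_c34 LD3_c54)) :=
  Lgr Lrot88 (Lpr_et (K29.f490331 IH) (Lpn (LP (LK LD1_c3 LD2_c34 LD3_c54))))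
theorem f657570 : Led Lsl_bt (LP (LK LD1_c7 LD2_c9 LD3_c33)) = (LP (LK LD1_c3 LD2_c34 LD3_c54)) :=
  Lgr Lrot119 (Lpr_ef (f657568 IH) (Lpe (f490338 IH) (Lpr_ef (f490336 IH) (Lpn (LP (LK LD1_c3 LD2_c34 LD3_c54))))))
def v676 : LQ := Led Lsl_ct (LP (LK LD1_c0 LD2_c48 LD3_c40))
theorem f455937 : Led Lsl_ct (LP (LK LD1_c0 LD2_c48 LD3_c40)) = v676 :=
  Lrfl
def v3267 : LQ := Led Lsl_gf v676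
theorem f624893 : Led Lsl_gf v676 = v3267 :=
  Lrfl
theorem f455938 : Led Lsl_cf (LP (LK LD1_c0 LD2_c48 LD3_c40)) = v676 :=
  Lgr Lrot11 (Lpr_ct (f455937 IH) (Lpn v676))
theorem f123405 : Led Lsl_dt (LP (LK LD1_c0 LD2_c24 LD3_c4)) = (LP (LK LD1_c0 LD2_c53 LD3_c34)) :=
  Lre_d IH (LK LD1_c0 LD2_c24 LD3_c4) (LK LD1_c0 LD2_c53 LD3_c34) Lrfl Lrfl
def v883 : LQ := Led Lsl_gf (LP (LK LD1_c0 LD2_c53 LD3_c33))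
theorem f490249 : Led Lsl_gf (LP (LK LD1_c0 LD2_c53 LD3_c33)) = v883 :=
  Lrfl
theorem f145391 : Led Lsl_dt (LP (LK LD1_c0 LD2_c53 LD3_c33)) = (LP (LK LD1_c0 LD2_c24 LD3_c3)) :=
  Lre_d IH (LK LD1_c0 LD2_c53 LD3_c33) (LK LD1_c0 LD2_c24 LD3_c3) Lrfl Lrfl
theorem f457258 : Led Lsl_af (LP (LK LD1_c0 LD2_c53 LD3_c33)) = (LP (LK LD1_c0 LD2_c53 LD3_c33)) :=
  Lgr Lrot117 (Lpr_dt (f145391 IH) (Lpr_at (K24.f451160 IH) (Lpq (K29.f457239 IH) (Lpr_dt (K24.f123402 IH) (Lpn (LP (LK LD1_c0 LD2_c53 LD3_c33)))))))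
theorem f123404 : Led Lsl_dt (LP (LK LD1_c0 LD2_c53 LD3_c34)) = (LP (LK LD1_c0 LD2_c24 LD3_c4)) :=
  Lre_d IH (LK LD1_c0 LD2_c53 LD3_c34) (LK LD1_c0 LD2_c24 LD3_c4) Lrfl Lrfl
theorem f457244 : Led Lsl_ff (LP (LK LD1_c0 LD2_c53 LD3_c34)) = (LP (LK LD1_c0 LD2_c53 LD3_c33)) :=
  Lgr Lrot19 (Lpr_dt (f123404 IH) (Lpq (K24.f455974 IH) (Lpq (K24.f457230 IH) (Lpe (K24.f451169 IH) (Lpr_dt (K24.f123402 IH) (Lpn (LP (LK LD1_c0 LD2_c53 LD3_c33))))))))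
theorem f457246 : Led Lsl_ft (LP (LK LD1_c0 LD2_c53 LD3_c34)) = (LP (LK LD1_c0 LD2_c53 LD3_c33)) :=
  Lgr Lrot48 (Lpr_ff (f457244 IH) (Lpn (LP (LK LD1_c0 LD2_c53 LD3_c33))))
theorem f490250 : Led Lsl_gt (LP (LK LD1_c0 LD2_c53 LD3_c34)) = v883 :=
  Lgr Lrot5 (Lpr_ft (f457246 IH) (Lpe (f457258 IH) (Lpr_gf (f490249 IH) (Lpn v883))))
theorem f624896 : Led Lsl_ct v883 = v3267 :=
  Lgr Lrot152 (Lpe (f490250 IH) (Lpe (f123405 IH) (Lpr_gt (K24.f12712 IH) (Lpe (K24.f122770 IH) (Lpr_gt (K24.f448764 IH) (Lpqs (K29.f456041 IH) (Lpe (K29.f450774 IH) (Lpe (K24.f10162 IH) (Lpr_cf (f455938 IH) (Lpr_gf (f624893 IH) (Lpn v3267)))))))))))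
theorem f459684 : Led Lsl_dt (LP (LK LD1_c0 LD2_c52 LD3_c34)) = (LP (LK LD1_c1 LD2_c51 LD3_c31)) :=
  Lre_d IH (LK LD1_c0 LD2_c52 LD3_c34) (LK LD1_c1 LD2_c51 LD3_c31) Lrfl Lrfl
theorem f467887 : Led Lsl_bf (LP (LK LD1_c0 LD2_c53 LD3_c34)) = (LP (LK LD1_c1 LD2_c51 LD3_c31)) :=
  Lgr Lrot93 (Lpr_dt (f123404 IH) (Lpr_bt (K28.f451171 IH) (Lpq (K28.f467690 IH) (Lpr_dt (f459684 IH) (Lpn (LP (LK LD1_c1 LD2_c51 LD3_c31)))))))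
theorem f459685 : Led Lsl_ct (LP (LK LD1_c1 LD2_c51 LD3_c31)) = (LP (LK LD1_c3 LD2_c49 LD3_c0)) :=
  Lre_c IH (LK LD1_c1 LD2_c51 LD3_c31) (LK LD1_c3 LD2_c49 LD3_c0) Lrfl Lrfl
theorem f442362 : Led Lsl_dt (LP (LK LD1_c3 LD2_c47 LD3_c7)) = (LP (LK LD1_c1 LD2_c50 LD3_c40)) :=
  Lre_d IH (LK LD1_c3 LD2_c47 LD3_c7) (LK LD1_c1 LD2_c50 LD3_c40) Lrfl Lrfl
theorem f482036 : Led Lsl_ff (LP (LK LD1_c3 LD2_c47 LD3_c7)) = (LP (LK LD1_c1 LD2_c51 LD3_c28)) :=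
  Lgr Lrot19 (Lpr_dt (f442362 IH) (Lpqs (K33.f467693 IH) (Lpe (K33.f459796 IH) (Lpr_dt (K5.f62696 IH) (Lpn (LP (LK LD1_c1 LD2_c51 LD3_c28)))))))
theorem f482042 : Led Lsl_ft (LP (LK LD1_c3 LD2_c47 LD3_c7)) = (LP (LK LD1_c1 LD2_c51 LD3_c28)) :=
  Lgr Lrot48 (Lpr_ff (f482036 IH) (Lpn (LP (LK LD1_c1 LD2_c51 LD3_c28))))
theorem f442351 : Led Lsl_ct (LP (LK LD1_c7 LD2_c35 LD3_c6)) = (LP (LK LD1_c3 LD2_c47 LD3_c7)) :=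
  Lre_c IH (LK LD1_c7 LD2_c35 LD3_c6) (LK LD1_c3 LD2_c47 LD3_c7) Lrfl Lrfl
theorem f62711 : Led Lsl_ct (LP (LK LD1_c1 LD2_c51 LD3_c28)) = (LP (LK LD1_c3 LD2_c48 LD3_c59)) :=
  Lre_c IH (LK LD1_c1 LD2_c51 LD3_c28) (LK LD1_c3 LD2_c48 LD3_c59) Lrfl Lrfl
theorem f482050 : Led Lsl_ff (LP (LK LD1_c7 LD2_c35 LD3_c6)) = (LP (LK LD1_c3 LD2_c48 LD3_c59)) :=
  Lgr Lrot23 (Lpr_ct (f442351 IH) (Lpr_ft (f482042 IH) (Lpr_ct (f62711 IH) (Lpn (LP (LK LD1_c3 LD2_c48 LD3_c59))))))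
theorem f456727 : Led Lsl_bt (LP (LK LD1_c0 LD2_c53 LD3_c33)) = (LP (LK LD1_c1 LD2_c53 LD3_c59)) :=
  Lre_b IH (LK LD1_c0 LD2_c53 LD3_c33) (LK LD1_c1 LD2_c53 LD3_c59) Lrfl Lrfl
theorem f467891 : Led Lsl_ft (LP (LK LD1_c1 LD2_c53 LD3_c59)) = (LP (LK LD1_c1 LD2_c51 LD3_c31)) :=
  Lgr Lrot75 (Lpe (f456727 IH) (Lpe (f457246 IH) (Lpr_bf (f467887 IH) (Lpn (LP (LK LD1_c1 LD2_c51 LD3_c31))))))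
theorem f467895 : Led Lsl_ff (LP (LK LD1_c1 LD2_c53 LD3_c59)) = (LP (LK LD1_c1 LD2_c51 LD3_c31)) :=
  Lgr Lrot3 (Lpr_ft (f467891 IH) (Lpn (LP (LK LD1_c1 LD2_c51 LD3_c31))))
theorem f459686 : Led Lsl_ct (LP (LK LD1_c3 LD2_c49 LD3_c0)) = (LP (LK LD1_c1 LD2_c51 LD3_c31)) :=
  Lre_c IH (LK LD1_c3 LD2_c49 LD3_c0) (LK LD1_c1 LD2_c51 LD3_c31) Lrfl Lrfl
theorem f467897 : Led Lsl_ft (LP (LK LD1_c3 LD2_c54 LD3_c46)) = (LP (LK LD1_c3 LD2_c49 LD3_c0)) :=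
  Lgr Lrot4 (Lpe (K29.f446409 IH) (Lpr_ff (f467895 IH) (Lpe (f459686 IH) (Lpn (LP (LK LD1_c3 LD2_c49 LD3_c0))))))
theorem f442349 : Led Lsl_dt (LP (LK LD1_c1 LD2_c50 LD3_c40)) = (LP (LK LD1_c3 LD2_c47 LD3_c7)) :=
  Lre_d IH (LK LD1_c1 LD2_c50 LD3_c40) (LK LD1_c3 LD2_c47 LD3_c7) Lrfl Lrfl
theorem f442350 : Led Lsl_ct (LP (LK LD1_c3 LD2_c47 LD3_c7)) = (LP (LK LD1_c7 LD2_c35 LD3_c6)) :=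
  Lre_c IH (LK LD1_c3 LD2_c47 LD3_c7) (LK LD1_c7 LD2_c35 LD3_c6) Lrfl Lrfl
theorem f467899 : Led Lsl_af (LP (LK LD1_c7 LD2_c35 LD3_c6)) = (LP (LK LD1_c3 LD2_c49 LD3_c0)) :=
  Lgr Lrot109 (Lpe (f442350 IH) (Lpe (f442349 IH) (Lpe (K29.f442359 IH) (Lpe (K29.f442356 IH) (Lpe (K29.f442355 IH) (Lpr_df (K29.f466713 IH) (Lpe (K29.f457250 IH) (Lpe (K29.f457249 IH) (Lpr_ft (f467897 IH) (Lpn (LP (LK LD1_c3 LD2_c49 LD3_c0))))))))))))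
theorem f467901 : Led Lsl_at (LP (LK LD1_c7 LD2_c35 LD3_c6)) = (LP (LK LD1_c3 LD2_c49 LD3_c0)) :=
  Lgr Lrot100 (Lpr_af (f467899 IH) (Lpn (LP (LK LD1_c3 LD2_c49 LD3_c0))))
theorem f62701 : Led Lsl_gt (LP (LK LD1_c3 LD2_c48 LD3_c59)) = (LP (LK LD1_c7 LD2_c39 LD3_c4)) :=
  Lre_g IH (LK LD1_c3 LD2_c48 LD3_c59) (LK LD1_c7 LD2_c39 LD3_c4) Lrfl Lrfl
theorem f482057 : Led Lsl_gf (LP (LK LD1_c3 LD2_c49 LD3_c0)) = (LP (LK LD1_c7 LD2_c39 LD3_c4)) :=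
  Lgr Lrot76 (Lpe (f467901 IH) (Lpr_ff (f482050 IH) (Lpr_gt (f62701 IH) (Lpn (LP (LK LD1_c7 LD2_c39 LD3_c4))))))
theorem f657576 : Led Lsl_ct (LP (LK LD1_c7 LD2_c9 LD3_c33)) = (LP (LK LD1_c7 LD2_c39 LD3_c4)) :=
  Lgr Lrot64 (Lpr_bt (f657570 IH) (Lpe (K29.f455892 IH) (Lpe (K29.f455936 IH) (Lpr_ct (f455937 IH) (Lpr_gf (f624893 IH) (Lpe (f624896 IH) (Lpe (f490250 IH) (Lpr_bf (f467887 IH) (Lpr_ct (f459685 IH) (Lpr_gf (f482057 IH) (Lpn (LP (LK LD1_c7 LD2_c39 LD3_c4)))))))))))))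
theorem f657577 : Led Lsl_ct (LP (LK LD1_c7 LD2_c9 LD3_c33)) = (LP (LK LD1_c7 LD2_c39 LD3_c4)) :=
  Leop (Lpe (f657576 IH) (Lpn (LP (LK LD1_c7 LD2_c9 LD3_c33))))
theorem seed_393 : LEOK LG_c (LK LD1_c7 LD2_c9 LD3_c33) :=
  Leoe_c (LK LD1_c7 LD2_c9 LD3_c33) (f657577 IH)
def v6669 : LQ := Led Lsl_dt (LP (LK LD1_c3 LD2_c25 LD3_c26))
theorem f657591 : Led Lsl_dt (LP (LK LD1_c3 LD2_c25 LD3_c26)) = v6669 :=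
  Lrfl
theorem f516830 : Led Lsl_ff (LP (LK LD1_c3 LD2_c25 LD3_c26)) = (LP (LK LD1_c1 LD2_c46 LD3_c25)) :=
  Lgr Lrot23 (Lpe (K29.f483014 IH) (Lpr_ft (K33.f516826 IH) (Lpr_ct (K30.f482948 IH) (Lpn (LP (LK LD1_c1 LD2_c46 LD3_c25))))))
theorem f657597 : Led Lsl_ff (LP (LK LD1_c3 LD2_c38 LD3_c58)) = v6669 :=
  Lgr Lrot19 (Lpr_dt (K29.f481686 IH) (Lpe (f516830 IH) (Lpr_dt (f657591 IH) (Lpn v6669))))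
theorem f514991 : Led Lsl_at (LP (LK LD1_c1 LD2_c43 LD3_c46)) = (LP (LK LD1_c3 LD2_c26 LD3_c22)) :=
  Lgr Lrot100 (Lpr_af (K33.f514989 IH) (Lpn (LP (LK LD1_c3 LD2_c26 LD3_c22))))
theorem f515020 : Led Lsl_ff (LP (LK LD1_c1 LD2_c43 LD3_c46)) = (LP (LK LD1_c3 LD2_c26 LD3_c21)) :=
  Lgr Lrot30 (Lpr_at (f514991 IH) (Lpe (K33.f515006 IH) (Lpr_at (K33.f515012 IH) (Lpn (LP (LK LD1_c3 LD2_c26 LD3_c21))))))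
theorem f514997 : Led Lsl_et (LP (LK LD1_c1 LD2_c43 LD3_c46)) = (LP (LK LD1_c3 LD2_c34 LD3_c12)) :=
  Lre_e IH (LK LD1_c1 LD2_c43 LD3_c46) (LK LD1_c3 LD2_c34 LD3_c12) Lrfl Lrfl
theorem f516551 : Led Lsl_ft (LP (LK LD1_c3 LD2_c34 LD3_c12)) = (LP (LK LD1_c7 LD2_c9 LD3_c35)) :=
  Lre_f IH (LK LD1_c3 LD2_c34 LD3_c12) (LK LD1_c7 LD2_c9 LD3_c35) Lrfl Lrfl
theorem f657603 : Led Lsl_et (LP (LK LD1_c7 LD2_c9 LD3_c35)) = v6669 :=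
  Lgr Lrot69 (Lpe (f516551 IH) (Lpe (f514997 IH) (Lpr_ff (f515020 IH) (Lpr_ef (K29.f481693 IH) (Lpr_ff (f657597 IH) (Lpn v6669))))))
theorem f522505 : Led Lsl_bt (LP (LK LD1_c3 LD2_c34 LD3_c17)) = (LP (LK LD1_c7 LD2_c9 LD3_c35)) :=
  Lre_b IH (LK LD1_c3 LD2_c34 LD3_c17) (LK LD1_c7 LD2_c9 LD3_c35) Lrfl Lrfl
theorem f467564 : Led Lsl_bt (LP (LK LD1_c7 LD2_c15 LD3_c35)) = (LP (LK LD1_c3 LD2_c37 LD3_c36)) :=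
  Lre_b IH (LK LD1_c7 LD2_c15 LD3_c35) (LK LD1_c3 LD2_c37 LD3_c36) Lrfl Lrfl
theorem f522532 : Led Lsl_dt (LP (LK LD1_c7 LD2_c9 LD3_c35)) = (LP (LK LD1_c7 LD2_c15 LD3_c35)) :=
  Lgr Lrot79 (Lpe (f522505 IH) (Lpr_df (K33.f522521 IH) (Lpe (f467564 IH) (Lpn (LP (LK LD1_c7 LD2_c15 LD3_c35))))))
def v2531 : LQ := Led Lsl_gt (LP (LK LD1_c1 LD2_c47 LD3_c54))
theorem f527130 : Led Lsl_gt (LP (LK LD1_c1 LD2_c47 LD3_c54)) = v2531 :=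
  Lrfl
def v775 : LQ := Led Lsl_gf (LP (LK LD1_c0 LD2_c50 LD3_c40))
theorem f457178 : Led Lsl_gf (LP (LK LD1_c0 LD2_c50 LD3_c40)) = v775 :=
  Lrfl
theorem f459364 : Led Lsl_gf v775 = K28.v784 :=
  Lgr Lrot47 (Lpe (f457178 IH) (Lpr_af (K29.f457183 IH) (Lpr_ff (K29.f459361 IH) (Lpn K28.v784))))
theorem f467676 : v775 = (LP (LK LD1_c0 LD2_c47 LD3_c21)) :=
  Lefun (Lecon (Lfl_gf (f459364 IH)) (K28.f467668 IH)) (K28.f95971 IH)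
theorem f527134 : Led Lsl_ct (LP (LK LD1_c3 LD2_c15 LD3_c26)) = v2531 :=
  Lgr Lrot63 (Lpr_bt (K29.f65525 IH) (Lpr_gt (K34.f482592 IH) (Lpe (K33.f92486 IH) (Lpr_ct (K33.f4074 IH) (Lpe (K33.f488550 IH) (Lpe (K29.f440673 IH) (Lpr_bt (K28.f440640 IH) (Lpq (f467676 IH) (Lpe (f457178 IH) (Lpr_ct (K29.f436804 IH) (Lpr_gt (f527130 IH) (Lpn v2531))))))))))))
theorem f472875 : Led Lsl_at (LP (LK LD1_c3 LD2_c26 LD3_c10)) = (LP (LK LD1_c1 LD2_c46 LD3_c53)) :=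
  Lgr Lrot100 (Lpr_af (K28.f472855 IH) (Lpn (LP (LK LD1_c1 LD2_c46 LD3_c53))))
theorem f440746 : Led Lsl_bt (LP (LK LD1_c3 LD2_c29 LD3_c47)) = (LP (LK LD1_c7 LD2_c1 LD3_c10)) :=
  Lre_b IH (LK LD1_c3 LD2_c29 LD3_c47) (LK LD1_c7 LD2_c1 LD3_c10) Lrfl Lrfl
theorem f474652 : Led Lsl_at (LP (LK LD1_c1 LD2_c47 LD3_c57)) = (LP (LK LD1_c3 LD2_c29 LD3_c47)) :=
  Lgr Lrot67 (Lpe (K29.f456287 IH) (Lpe (f472875 IH) (Lpe (K33.f472857 IH) (Lpr_af (K29.f474647 IH) (Lpe (f440746 IH) (Lpn (LP (LK LD1_c3 LD2_c29 LD3_c47))))))))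
theorem f527132 : Led Lsl_gf (LP (LK LD1_c3 LD2_c29 LD3_c47)) = v2531 :=
  Lgr Lrot76 (Lpe (f474652 IH) (Lpe (K29.f458718 IH) (Lpr_gt (f527130 IH) (Lpn v2531))))
theorem f440745 : Led Lsl_ct (LP (LK LD1_c3 LD2_c29 LD3_c47)) = (LP (LK LD1_c1 LD2_c41 LD3_c35)) :=
  Lre_c IH (LK LD1_c3 LD2_c29 LD3_c47) (LK LD1_c1 LD2_c41 LD3_c35) Lrfl Lrfl
theorem f657599 : Led Lsl_gf (LP (LK LD1_c7 LD2_c45 LD3_c45)) = v6669 :=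
  Lgr Lrot179 (Lpr_ct (K32.f481978 IH) (Lpe (K32.f474756 IH) (Lpr_ct (K32.f62732 IH) (Lpe (K29.f442184 IH) (Lpe (f440745 IH) (Lpr_gf (f527132 IH) (Lpe (f527134 IH) (Lpe (K29.f115998 IH) (Lpr_dt (f657591 IH) (Lpn v6669))))))))))
def v2685 : LQ := Led Lsl_et (LP (LK LD1_c1 LD2_c52 LD3_c44))
theorem f530390 : Led Lsl_et (LP (LK LD1_c1 LD2_c52 LD3_c44)) = v2685 :=
  Lrfl
theorem f458080 : Led Lsl_et (LP (LK LD1_c6 LD2_c57 LD3_c18)) = (LP (LK LD1_c3 LD2_c27 LD3_c33)) :=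
  Lre_e IH (LK LD1_c6 LD2_c57 LD3_c18) (LK LD1_c3 LD2_c27 LD3_c33) Lrfl Lrfl
theorem f530395 : Led Lsl_ff (LP (LK LD1_c6 LD2_c57 LD3_c18)) = v2685 :=
  Lgr Lrot72 (Lpr_et (f458080 IH) (Lpe (K33.f491968 IH) (Lpr_et (K24.f457784 IH) (Lpe (K33.f491815 IH) (Lpr_et (f530390 IH) (Lpn v2685))))))
theorem f657600 : Led Lsl_gt v2685 = v6669 :=
  Lgr Lrot5 (Lpe (f530395 IH) (Lpe (K33.f491992 IH) (Lpr_gf (f657599 IH) (Lpn v6669))))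
theorem f440185 : Led Lsl_et (LP (LK LD1_c3 LD2_c35 LD3_c57)) = (LP (LK LD1_c7 LD2_c12 LD3_c26)) :=
  Lre_e IH (LK LD1_c3 LD2_c35 LD3_c57) (LK LD1_c7 LD2_c12 LD3_c26) Lrfl Lrfl
theorem f17819 : Led Lsl_dt (LP (LK LD1_c3 LD2_c35 LD3_c57)) = (LP (LK LD1_c7 LD2_c12 LD3_c25)) :=
  Lre_d IH (LK LD1_c3 LD2_c35 LD3_c57) (LK LD1_c7 LD2_c12 LD3_c25) Lrfl Lrfl
theorem f657605 : Led Lsl_gt (LP (LK LD1_c7 LD2_c15 LD3_c35)) = (LP (LK LD1_c7 LD2_c12 LD3_c25)) :=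
  Lgr Lrot112 (Lpe (f522532 IH) (Lpr_et (f657603 IH) (Lpe (f657600 IH) (Lpe (f530390 IH) (Lpr_dt (K29.f458078 IH) (Lpe (K29.f457908 IH) (Lpe (K29.f464845 IH) (Lpe (K29.f477185 IH) (Lpe (f440185 IH) (Lpr_dt (f17819 IH) (Lpn (LP (LK LD1_c7 LD2_c12 LD3_c25)))))))))))))
theorem f657606 : Led Lsl_gt (LP (LK LD1_c7 LD2_c15 LD3_c35)) = (LP (LK LD1_c7 LD2_c12 LD3_c25)) :=
  Leop (Lpe (f657605 IH) (Lpn (LP (LK LD1_c7 LD2_c15 LD3_c35))))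
theorem seed_394 : LEOK LG_g (LK LD1_c7 LD2_c15 LD3_c35) :=
  Leoe_g (LK LD1_c7 LD2_c15 LD3_c35) (f657606 IH)
def v6685 : LQ := Led Lsl_et (LP (LK LD1_c3 LD2_c25 LD3_c52))
theorem f657664 : Led Lsl_et (LP (LK LD1_c3 LD2_c25 LD3_c52)) = v6685 :=
  Lrfl
theorem f519436 : Led Lsl_ef (LP (LK LD1_c1 LD2_c44 LD3_c12)) = v2388 :=
  Lgr Lrot88 (Lpr_et (f519433 IH) (Lpn v2388))
theorem f519438 : Led Lsl_dt (LP (LK LD1_c1 LD2_c46 LD3_c32)) = v2388 :=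
  Lgr Lrot77 (Lpe (f455910 IH) (Lpr_df (K29.f455906 IH) (Lpe (K29.f455902 IH) (Lpe (K29.f455887 IH) (Lpr_ef (f519436 IH) (Lpn v2388))))))
theorem f14804 : Led Lsl_dt (LP (LK LD1_c3 LD2_c50 LD3_c54)) = (LP (LK LD1_c7 LD2_c42 LD3_c58)) :=
  Lre_d IH (LK LD1_c3 LD2_c50 LD3_c54) (LK LD1_c7 LD2_c42 LD3_c58) Lrfl Lrfl
theorem f467619 : Led Lsl_dt (LP (LK LD1_c3 LD2_c39 LD3_c9)) = (LP (LK LD1_c7 LD2_c18 LD3_c42)) :=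
  Lre_d IH (LK LD1_c3 LD2_c39 LD3_c9) (LK LD1_c7 LD2_c18 LD3_c42) Lrfl Lrfl
theorem f15317 : Led Lsl_et (LP (LK LD1_c0 LD2_c52 LD3_c54)) = (LP (LK LD1_c1 LD2_c52 LD3_c20)) :=
  Lre_e IH (LK LD1_c0 LD2_c52 LD3_c54) (LK LD1_c1 LD2_c52 LD3_c20) Lrfl Lrfl
theorem f467620 : Led Lsl_gf (LP (LK LD1_c7 LD2_c18 LD3_c42)) = (LP (LK LD1_c7 LD2_c42 LD3_c58)) :=
  Lgr Lrot134 (Lpe (f467619 IH) (Lpr_et (K35.f467618 IH) (Lpr_gt (K28.f467405 IH) (Lpe (K3.f94809 IH) (Lpr_dt (K2.f94807 IH) (Lpe (K5.f94812 IH) (Lpe (K0.f14579 IH) (Lpr_et (f15317 IH) (Lpr_gt (K34.f14803 IH) (Lpr_dt (f14804 IH) (Lpn (LP (LK LD1_c7 LD2_c42 LD3_c58)))))))))))))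
theorem f455200 : Led Lsl_dt (LP (LK LD1_c7 LD2_c18 LD3_c42)) = (LP (LK LD1_c3 LD2_c39 LD3_c9)) :=
  Lre_d IH (LK LD1_c7 LD2_c18 LD3_c42) (LK LD1_c3 LD2_c39 LD3_c9) Lrfl Lrfl
theorem f455199 : Led Lsl_ct (LP (LK LD1_c3 LD2_c39 LD3_c9)) = (LP (LK LD1_c1 LD2_c46 LD3_c32)) :=
  Lre_c IH (LK LD1_c3 LD2_c39 LD3_c9) (LK LD1_c1 LD2_c46 LD3_c32) Lrfl Lrfl
theorem f531710 : Led Lsl_gf v2388 = v2741 :=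
  Lgr Lrot143 (Lpe (f519435 IH) (Lpe (f455199 IH) (Lpe (f455200 IH) (Lpr_gf (f467620 IH) (Lpe (f14804 IH) (Lpe (K34.f14803 IH) (Lpe (K24.f14780 IH) (Lpr_gt (K28.f14913 IH) (Lpr_dt (f531708 IH) (Lpn v2741))))))))))
theorem f657669 : Led Lsl_gf K34.v2742 = v6685 :=
  Lgr Lrot141 (Lpe (K34.f531711 IH) (Lpr_dt (f531708 IH) (Lpe (f531710 IH) (Lpe (f519438 IH) (Lpr_et (f455914 IH) (Lpq (K29.f481864 IH) (Lpe (K29.f455034 IH) (Lpr_dt (K4.f94241 IH) (Lpr_gt (K29.f94303 IH) (Lpe (K33.f94314 IH) (Lpr_et (f657664 IH) (Lpn v6685))))))))))))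
theorem f511414 : Led Lsl_ft (LP (LK LD1_c3 LD2_c25 LD3_c52)) = K33.v2275 :=
  Lgr Lrot54 (Lpe (K33.f94304 IH) (Lpe (K34.f485771 IH) (Lpr_df (K33.f511412 IH) (Lpn K33.v2275))))
theorem f511415 : Led Lsl_ff (LP (LK LD1_c3 LD2_c25 LD3_c52)) = K33.v2275 :=
  Lgr Lrot3 (Lpr_ft (f511414 IH) (Lpn K33.v2275))
theorem f478868 : Led Lsl_et (LP (LK LD1_c3 LD2_c34 LD3_c61)) = (LP (LK LD1_c1 LD2_c44 LD3_c15)) :=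
  Lre_e IH (LK LD1_c3 LD2_c34 LD3_c61) (LK LD1_c1 LD2_c44 LD3_c15) Lrfl Lrfl
theorem f657668 : Led Lsl_ff (LP (LK LD1_c3 LD2_c34 LD3_c61)) = v6685 :=
  Lgr Lrot72 (Lpr_et (f478868 IH) (Lpr_ft (K29.f478866 IH) (Lpqs (K33.f484142 IH) (Lpr_et (K33.f511406 IH) (Lpe (f511415 IH) (Lpr_et (f657664 IH) (Lpn v6685)))))))
theorem f456764 : Led Lsl_at (LP (LK LD1_c3 LD2_c34 LD3_c61)) = (LP (LK LD1_c1 LD2_c44 LD3_c18)) :=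
  Lre_a IH (LK LD1_c3 LD2_c34 LD3_c61) (LK LD1_c1 LD2_c44 LD3_c18) Lrfl Lrfl
theorem f456057 : Led Lsl_gt (LP (LK LD1_c3 LD2_c35 LD3_c5)) = (LP (LK LD1_c1 LD2_c44 LD3_c18)) :=
  Lre_g IH (LK LD1_c3 LD2_c35 LD3_c5) (LK LD1_c1 LD2_c44 LD3_c18) Lrfl Lrfl
theorem f657671 : K34.v2742 = (LP (LK LD1_c3 LD2_c35 LD3_c5)) :=
  (Llr Lrot5 (Lpr_gf (f657669 IH) (Lpe (f657668 IH) (Lpr_at (f456764 IH) (Lpe (f456057 IH) (Lpn (LP (LK LD1_c3 LD2_c35 LD3_c5)))))))).symm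
theorem f657672 : Led Lsl_at (LP (LK LD1_c3 LD2_c35 LD3_c5)) = (LP (LK LD1_c1 LD2_c54 LD3_c38)) :=
  Leop (Lpr_af (K34.f531768 IH) (Lpqs (K34.f531833 IH) (Lpqs (f657671 IH) (Lpn (LP (LK LD1_c3 LD2_c35 LD3_c5))))))
theorem seed_395 : LEOK LG_a (LK LD1_c3 LD2_c35 LD3_c5) :=
  Leoe_a (LK LD1_c3 LD2_c35 LD3_c5) (f657672 IH)
theorem f519466 : Led Lsl_ct (LP (LK LD1_c3 LD2_c35 LD3_c5)) = (LP (LK LD1_c7 LD2_c11 LD3_c20)) :=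
  Lre_c IH (LK LD1_c3 LD2_c35 LD3_c5) (LK LD1_c7 LD2_c11 LD3_c20) Lrfl Lrfl
theorem f657678 : Led Lsl_ef (LP (LK LD1_c3 LD2_c55 LD3_c52)) = (LP (LK LD1_c7 LD2_c11 LD3_c20)) :=
  Lgr Lrot28 (Lpr_ct (K28.f463724 IH) (Lpr_et (K34.f531711 IH) (Lpqs (f657671 IH) (Lpr_ct (f519466 IH) (Lpn (LP (LK LD1_c7 LD2_c11 LD3_c20)))))))
theorem f94594 : Led Lsl_dt (LP (LK LD1_c3 LD2_c25 LD3_c38)) = (LP (LK LD1_c6 LD2_c53 LD3_c11)) :=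
  Lre_d IH (LK LD1_c3 LD2_c25 LD3_c38) (LK LD1_c6 LD2_c53 LD3_c11) Lrfl Lrfl
theorem f94591 : Led Lsl_gt (LP (LK LD1_c13 LD2_c5 LD3_c21)) = (LP (LK LD1_c6 LD2_c53 LD3_c11)) :=
  Lre_g IH (LK LD1_c13 LD2_c5 LD3_c21) (LK LD1_c6 LD2_c53 LD3_c11) Lrfl Lrfl
theorem f657687 : Led Lsl_df (LP (LK LD1_c13 LD2_c5 LD3_c21)) = (LP (LK LD1_c7 LD2_c11 LD3_c20)) :=
  Lgr Lrot170 (Lpr_gt (f94591 IH) (Lpe (f94594 IH) (Lpr_et (K28.f94598 IH) (Lpr_gt (K2.f94532 IH) (Lpr_dt (K3.f94222 IH) (Lpr_gt (K6.f94612 IH) (Lpr_df (K6.f102529 IH) (Lpr_et (K8.f102543 IH) (Lpr_gt (K29.f471769 IH) (Lpr_ef (f657678 IH) (Lpn (LP (LK LD1_c7 LD2_c11 LD3_c20)))))))))))))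
theorem f657694 : Led Lsl_dt (LP (LK LD1_c13 LD2_c5 LD3_c21)) = (LP (LK LD1_c7 LD2_c11 LD3_c20)) :=
  Lgr Lrot42 (Lpr_df (f657687 IH) (Lpn (LP (LK LD1_c7 LD2_c11 LD3_c20))))
theorem f94592 : Led Lsl_bt (LP (LK LD1_c22 LD2_c16 LD3_c7)) = (LP (LK LD1_c13 LD2_c5 LD3_c21)) :=
  Lre_b IH (LK LD1_c22 LD2_c16 LD3_c7) (LK LD1_c13 LD2_c5 LD3_c21) Lrfl Lrfl
theorem f474015 : Led Lsl_bt (LP (LK LD1_c7 LD2_c11 LD3_c20)) = (LP (LK LD1_c13 LD2_c37 LD3_c11)) :=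
  Lre_b IH (LK LD1_c7 LD2_c11 LD3_c20) (LK LD1_c13 LD2_c37 LD3_c11) Lrfl Lrfl
theorem f657696 : Led Lsl_df (LP (LK LD1_c22 LD2_c16 LD3_c7)) = (LP (LK LD1_c13 LD2_c37 LD3_c11)) :=
  Lgr Lrot12 (Lpr_bt (f94592 IH) (Lpr_dt (f657694 IH) (Lpr_bt (f474015 IH) (Lpn (LP (LK LD1_c13 LD2_c37 LD3_c11))))))
theorem f464761 : Led Lsl_bt (LP (LK LD1_c3 LD2_c51 LD3_c58)) = (LP (LK LD1_c7 LD2_c45 LD3_c44)) :=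
  Lre_b IH (LK LD1_c3 LD2_c51 LD3_c58) (LK LD1_c7 LD2_c45 LD3_c44) Lrfl Lrfl
theorem f491915 : Led Lsl_gt (LP (LK LD1_c3 LD2_c52 LD3_c58)) = (LP (LK LD1_c3 LD2_c52 LD3_c3)) :=
  Lgr Lrot65 (Lpe (K29.f461511 IH) (Lpe (K32.f473964 IH) (Lpq (K24.f458768 IH) (Lpe (K24.f451318 IH) (Lpe (K28.f11317 IH) (Lpr_ct (K28.f11379 IH) (Lpe (K28.f11352 IH) (Lpe (K28.f464626 IH) (Lpr_gf (K32.f464715 IH) (Lpe (f464761 IH) (Lpr_ct (K33.f491900 IH) (Lpn (LP (LK LD1_c3 LD2_c52 LD3_c3))))))))))))))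
theorem f456135 : Led Lsl_et (LP (LK LD1_c1 LD2_c44 LD3_c16)) = (LP (LK LD1_c3 LD2_c35 LD3_c2)) :=
  Lre_e IH (LK LD1_c1 LD2_c44 LD3_c16) (LK LD1_c3 LD2_c35 LD3_c2) Lrfl Lrfl
theorem f473981 : Led Lsl_bt (LP (LK LD1_c3 LD2_c35 LD3_c2)) = (LP (LK LD1_c3 LD2_c52 LD3_c58)) :=
  Lgr Lrot119 (Lpe (f456135 IH) (Lpr_bf (K33.f456059 IH) (Lpr_ef (K29.f473979 IH) (Lpn (LP (LK LD1_c3 LD2_c52 LD3_c58))))))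
theorem f456053 : Led Lsl_ct (LP (LK LD1_c3 LD2_c35 LD3_c2)) = (LP (LK LD1_c1 LD2_c44 LD3_c18)) :=
  Lre_c IH (LK LD1_c3 LD2_c35 LD3_c2) (LK LD1_c1 LD2_c44 LD3_c18) Lrfl Lrfl
theorem f474014 : Led Lsl_ct (LP (LK LD1_c7 LD2_c11 LD3_c20)) = (LP (LK LD1_c3 LD2_c35 LD3_c5)) :=
  Lre_c IH (LK LD1_c7 LD2_c11 LD3_c20) (LK LD1_c3 LD2_c35 LD3_c5) Lrfl Lrfl
theorem f491895 : Led Lsl_cf (LP (LK LD1_c3 LD2_c51 LD3_c58)) = (LP (LK LD1_c3 LD2_c52 LD3_c3)) :=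
  Lgr Lrot55 (Lpr_dt (K29.f459841 IH) (Lpr_ct (K28.f88015 IH) (Lpr_dt (K24.f65781 IH) (Lpr_ct (K24.f459850 IH) (Lpr_dt (K24.f459851 IH) (Lpr_ct (K24.f64991 IH) (Lpe (K24.f64979 IH) (Lpe (K24.f457785 IH) (Lpe (K24.f457977 IH) (Lpr_ct (K24.f446560 IH) (Lpr_dt (K29.f14878 IH) (Lpr_ct (K29.f14879 IH) (Lpr_dt (K29.f468582 IH) (Lpr_ct (K29.f468561 IH) (Lpr_dt (K33.f491881 IH) (Lpn (LP (LK LD1_c3 LD2_c52 LD3_c3))))))))))))))))))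
theorem f491917 : Led Lsl_gf (LP (LK LD1_c13 LD2_c37 LD3_c11)) = (LP (LK LD1_c7 LD2_c47 LD3_c40)) :=
  Lgr Lrot124 (Lpe (f474015 IH) (Lpr_ct (f474014 IH) (Lpr_gt (f456057 IH) (Lpe (f456053 IH) (Lpr_bt (f473981 IH) (Lpr_gt (f491915 IH) (Lpe (f491895 IH) (Lpe (K29.f464799 IH) (Lpe (K29.f463709 IH) (Lpr_bt (K40.f464042 IH) (Lpn (LP (LK LD1_c7 LD2_c47 LD3_c40)))))))))))))
theorem f474029 : Led Lsl_ct (LP (LK LD1_c7 LD2_c54 LD3_c32)) = (LP (LK LD1_c7 LD2_c47 LD3_c40)) :=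
  Lgr Lrot59 (Lpr_cf (K40.f474026 IH) (Lpn (LP (LK LD1_c7 LD2_c47 LD3_c40))))
theorem f576598 : Led Lsl_bf (LP (LK LD1_c8 LD2_c45 LD3_c61)) = (LP (LK LD1_c13 LD2_c38 LD3_c13)) :=
  Lgr Lrot165 (Lpr_gt (K4.f36667 IH) (Lpr_ct (K43.f576594 IH) (Lpe (K39.f544198 IH) (Lpe (K37.f80507 IH) (Lpr_bt (K37.f544203 IH) (Lpr_gt (K43.f464075 IH) (Lpe (K37.f543568 IH) (Lpr_ct (K37.f543560 IH) (Lpr_gt (K43.f469317 IH) (Lpr_cf (K39.f464326 IH) (Lpn (LP (LK LD1_c13 LD2_c38 LD3_c13)))))))))))))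
theorem f607380 : Led Lsl_gf (LP (LK LD1_c8 LD2_c45 LD3_c61)) = (LP (LK LD1_c7 LD2_c5 LD3_c41)) :=
  Lgr Lrot124 (Lpr_bf (f576598 IH) (Lpe (K39.f464326 IH) (Lpr_gt (K39.f439581 IH) (Lpe (K39.f439546 IH) (Lpr_bt (K39.f439457 IH) (Lpr_gt (K28.f464322 IH) (Lpr_ct (K28.f18958 IH) (Lpqs (K24.f461789 IH) (Lpe (K24.f456827 IH) (Lpe (K24.f108258 IH) (Lpr_bt (K24.f108254 IH) (Lpn (LP (LK LD1_c7 LD2_c5 LD3_c41))))))))))))))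
theorem f147174 : Led Lsl_bt (LP (LK LD1_c7 LD2_c23 LD3_c11)) = (LP (LK LD1_c3 LD2_c41 LD3_c24)) :=
  Lre_b IH (LK LD1_c7 LD2_c23 LD3_c11) (LK LD1_c3 LD2_c41 LD3_c24) Lrfl Lrfl
theorem f533013 : Led Lsl_gt (LP (LK LD1_c7 LD2_c21 LD3_c25)) = (LP (LK LD1_c7 LD2_c28 LD3_c3)) :=
  Lgr Lrot46 (Lpr_gf (K34.f533011 IH) (Lpr_ft (K34.f459004 IH) (Lpe (K34.f465850 IH) (Lpn (LP (LK LD1_c7 LD2_c28 LD3_c3))))))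
theorem f439415 : Led Lsl_gt (LP (LK LD1_c7 LD2_c21 LD3_c53)) = (LP (LK LD1_c3 LD2_c40 LD3_c50)) :=
  Lre_g IH (LK LD1_c7 LD2_c21 LD3_c53) (LK LD1_c3 LD2_c40 LD3_c50) Lrfl Lrfl
theorem f439420 : Led Lsl_bt (LP (LK LD1_c13 LD2_c55 LD3_c26)) = (LP (LK LD1_c7 LD2_c21 LD3_c53)) :=
  Lre_b IH (LK LD1_c13 LD2_c55 LD3_c26) (LK LD1_c7 LD2_c21 LD3_c53) Lrfl Lrfl
theorem f533961 : Led Lsl_ct (LP (LK LD1_c13 LD2_c55 LD3_c26)) = (LP (LK LD1_c14 LD2_c5 LD3_c19)) :=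
  Lgr Lrot63 (Lpr_bt (f439420 IH) (Lpr_gt (f439415 IH) (Lpe (K28.f122356 IH) (Lpr_ct (K4.f122347 IH) (Lpqs (K28.f463621 IH) (Lpr_gt (K24.f459276 IH) (Lpe (K24.f455641 IH) (Lpr_bt (K34.f459162 IH) (Lpr_gt (K34.f459164 IH) (Lpr_ct (K34.f459277 IH) (Lpr_gt (K39.f533929 IH) (Lpn (LP (LK LD1_c14 LD2_c5 LD3_c19))))))))))))))
theorem f533007 : Led Lsl_ft (LP (LK LD1_c14 LD2_c3 LD3_c55)) = (LP (LK LD1_c22 LD2_c44 LD3_c13)) :=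
  Lgr Lrot75 (Lpe (K7.f147812 IH) (Lpr_ff (K34.f533005 IH) (Lpe (f459000 IH) (Lpn (LP (LK LD1_c22 LD2_c44 LD3_c13))))))
theorem f533510 : Led Lsl_gf (LP (LK LD1_c22 LD2_c15 LD3_c57)) = (LP (LK LD1_c14 LD2_c3 LD3_c55)) :=
  Lgr Lrot47 (Lpr_gt (f533242 IH) (Lpr_af (K35.f533495 IH) (Lpe (f533007 IH) (Lpn (LP (LK LD1_c14 LD2_c3 LD3_c55))))))
theorem f534425 : Led Lsl_gf (LP (LK LD1_c13 LD2_c55 LD3_c26)) = (LP (LK LD1_c22 LD2_c44 LD3_c14)) :=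
  Lgr Lrot181 (Lpr_ct (f533961 IH) (Lpe (K39.f533927 IH) (Lpe (K24.f436333 IH) (Lpr_bt (K7.f147812 IH) (Lpe (f533510 IH) (Lpr_bf (f463450 IH) (Lpr_ct (f463463 IH) (Lpr_gt (f533789 IH) (Lpe (K34.f473472 IH) (Lpr_bt (K34.f473477 IH) (Lpn (LP (LK LD1_c22 LD2_c44 LD3_c14)))))))))))))
theorem f534427 : Led Lsl_gt (LP (LK LD1_c13 LD2_c55 LD3_c26)) = (LP (LK LD1_c13 LD2_c54 LD3_c27)) :=
  Lgr Lrot46 (Lpr_gf (f534425 IH) (Lpe (K34.f532997 IH) (Lpr_at (K24.f436335 IH) (Lpn (LP (LK LD1_c13 LD2_c54 LD3_c27))))))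
theorem f534413 : Led Lsl_bt (LP (LK LD1_c7 LD2_c21 LD3_c53)) = (LP (LK LD1_c13 LD2_c55 LD3_c26)) :=
  Lre_b IH (LK LD1_c7 LD2_c21 LD3_c53) (LK LD1_c13 LD2_c55 LD3_c26) Lrfl Lrfl
theorem f607384 : Led Lsl_cf (LP (LK LD1_c8 LD2_c45 LD3_c61)) = (LP (LK LD1_c7 LD2_c21 LD3_c53)) :=
  Lgr Lrot58 (Lpr_gf (f607380 IH) (Lpr_cf (K28.f147289 IH) (Lpr_bt (f147174 IH) (Lpe (K28.f463540 IH) (Lpe (K34.f463550 IH) (Lpr_ct (K34.f465846 IH) (Lpe (f533013 IH) (Lpe (K24.f436334 IH) (Lpe (f534427 IH) (Lpe (f534413 IH) (Lpn (LP (LK LD1_c7 LD2_c21 LD3_c53)))))))))))))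
theorem f80326 : Led Lsl_gt (LP (LK LD1_c2 LD2_c9 LD3_c27)) = (LP (LK LD1_c4 LD2_c24 LD3_c4)) :=
  Lre_g IH (LK LD1_c2 LD2_c9 LD3_c27) (LK LD1_c4 LD2_c24 LD3_c4) Lrfl Lrfl
theorem f80339 : Led Lsl_dt (LP (LK LD1_c4 LD2_c24 LD3_c4)) = (LP (LK LD1_c8 LD2_c45 LD3_c55)) :=
  Lre_d IH (LK LD1_c4 LD2_c24 LD3_c4) (LK LD1_c8 LD2_c45 LD3_c55) Lrfl Lrfl
theorem f560547 : Led Lsl_dt (LP (LK LD1_c13 LD2_c55 LD3_c29)) = (LP (LK LD1_c14 LD2_c55 LD3_c15)) :=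
  Lgr Lrot42 (Lpr_df (K43.f560545 IH) (Lpn (LP (LK LD1_c14 LD2_c55 LD3_c15))))
theorem f607386 : Led Lsl_ct (LP (LK LD1_c8 LD2_c45 LD3_c55)) = (LP (LK LD1_c14 LD2_c55 LD3_c15)) :=
  Lgr Lrot7 (Lpe (f80339 IH) (Lpe (f80326 IH) (Lpe (K4.f36678 IH) (Lpe (K4.f36667 IH) (Lpr_cf (f607384 IH) (Lpr_gt (f439415 IH) (Lpr_dt (K39.f159688 IH) (Lpr_gt (K43.f462206 IH) (Lpr_dt (f560547 IH) (Lpn (LP (LK LD1_c14 LD2_c55 LD3_c15))))))))))))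
theorem f577997 : Led Lsl_af (LP (LK LD1_c20 LD2_c36 LD3_c5)) = (LP (LK LD1_c21 LD2_c28 LD3_c44)) :=
  Lgr Lrot0 (Lpr_at (K43.f577995 IH) (Lpn (LP (LK LD1_c21 LD2_c28 LD3_c44))))
theorem f444955 : Led Lsl_bt (LP (LK LD1_c15 LD2_c8 LD3_c25)) = (LP (LK LD1_c24 LD2_c57 LD3_c16)) :=
  Lre_b IH (LK LD1_c15 LD2_c8 LD3_c25) (LK LD1_c24 LD2_c57 LD3_c16) Lrfl Lrfl
theorem f444997 : Led Lsl_df (LP (LK LD1_c15 LD2_c8 LD3_c25)) = (LP (LK LD1_c16 LD2_c23 LD3_c21)) :=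
  Lgr Lrot38 (Lpr_dt (K37.f444995 IH) (Lpn (LP (LK LD1_c16 LD2_c23 LD3_c21))))
theorem f577956 : Led Lsl_bf (LP (LK LD1_c16 LD2_c23 LD3_c21)) = (LP (LK LD1_c20 LD2_c36 LD3_c5)) :=
  Lgr Lrot93 (Lpe (f444997 IH) (Lpr_bt (f444955 IH) (Lpr_dt (K43.f577953 IH) (Lpn (LP (LK LD1_c20 LD2_c36 LD3_c5))))))
theorem f38079 : Led Lsl_ct (LP (LK LD1_c8 LD2_c45 LD3_c17)) = (LP (LK LD1_c16 LD2_c23 LD3_c21)) :=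
  Lre_c IH (LK LD1_c8 LD2_c45 LD3_c17) (LK LD1_c16 LD2_c23 LD3_c21) Lrfl Lrfl
theorem f576156 : Led Lsl_af (LP (LK LD1_c12 LD2_c6 LD3_c55)) = (LP (LK LD1_c16 LD2_c23 LD3_c21)) :=
  Lgr Lrot68 (Lpe (K40.f445214 IH) (Lpr_at (K43.f576152 IH) (Lpr_ct (f38079 IH) (Lpn (LP (LK LD1_c16 LD2_c23 LD3_c21))))))
theorem f59776 : Led Lsl_bt (LP (LK LD1_c12 LD2_c6 LD3_c55)) = (LP (LK LD1_c21 LD2_c12 LD3_c61)) :=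
  Lre_b IH (LK LD1_c12 LD2_c6 LD3_c55) (LK LD1_c21 LD2_c12 LD3_c61) Lrfl Lrfl
theorem f488203 : Led Lsl_dt (LP (LK LD1_c22 LD2_c56 LD3_c48)) = (LP (LK LD1_c13 LD2_c33 LD3_c46)) :=
  Lre_d IH (LK LD1_c22 LD2_c56 LD3_c48) (LK LD1_c13 LD2_c33 LD3_c46) Lrfl Lrfl
theorem f149628 : Led Lsl_df (LP (LK LD1_c21 LD2_c28 LD3_c44)) = (LP (LK LD1_c20 LD2_c35 LD3_c56)) :=
  Lgr Lrot38 (Lpr_dt (K43.f149620 IH) (Lpn (LP (LK LD1_c20 LD2_c35 LD3_c56))))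
theorem f577981 : Led Lsl_ff (LP (LK LD1_c22 LD2_c56 LD3_c48)) = (LP (LK LD1_c21 LD2_c28 LD3_c44)) :=
  Lgr Lrot19 (Lpr_dt (f488203 IH) (Lpr_ft (K43.f577975 IH) (Lpe (f149628 IH) (Lpn (LP (LK LD1_c21 LD2_c28 LD3_c44))))))
theorem f577985 : Led Lsl_bt (LP (LK LD1_c22 LD2_c56 LD3_c48)) = (LP (LK LD1_c13 LD2_c33 LD3_c54)) :=
  Lre_b IH (LK LD1_c22 LD2_c56 LD3_c48) (LK LD1_c13 LD2_c33 LD3_c54) Lrfl Lrfl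
theorem f577986 : Led Lsl_ft (LP (LK LD1_c13 LD2_c33 LD3_c54)) = (LP (LK LD1_c22 LD2_c56 LD3_c58)) :=
  Lre_f IH (LK LD1_c13 LD2_c33 LD3_c54) (LK LD1_c22 LD2_c56 LD3_c58) Lrfl Lrfl
theorem f577987 : Led Lsl_bt (LP (LK LD1_c22 LD2_c56 LD3_c58)) = (LP (LK LD1_c21 LD2_c28 LD3_c44)) :=
  Lgr Lrot35 (Lpe (f577986 IH) (Lpe (f577985 IH) (Lpr_ff (f577981 IH) (Lpn (LP (LK LD1_c21 LD2_c28 LD3_c44))))))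
theorem f606815 : Led Lsl_at (LP (LK LD1_c21 LD2_c12 LD3_c61)) = (LP (LK LD1_c22 LD2_c56 LD3_c58)) :=
  Lgr Lrot67 (Lpe (f59776 IH) (Lpr_af (f576156 IH) (Lpr_bf (f577956 IH) (Lpr_af (f577997 IH) (Lpe (f577987 IH) (Lpn (LP (LK LD1_c22 LD2_c56 LD3_c58))))))))
theorem f606817 : Led Lsl_af (LP (LK LD1_c21 LD2_c12 LD3_c61)) = (LP (LK LD1_c22 LD2_c56 LD3_c58)) :=
  Lgr Lrot0 (Lpr_at (f606815 IH) (Lpn (LP (LK LD1_c22 LD2_c56 LD3_c58))))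
theorem f59740 : Led Lsl_bt (LP (LK LD1_c21 LD2_c12 LD3_c61)) = (LP (LK LD1_c12 LD2_c6 LD3_c55)) :=
  Lre_b IH (LK LD1_c21 LD2_c12 LD3_c61) (LK LD1_c12 LD2_c6 LD3_c55) Lrfl Lrfl
theorem f577989 : Led Lsl_bf (LP (LK LD1_c22 LD2_c56 LD3_c58)) = (LP (LK LD1_c21 LD2_c28 LD3_c44)) :=
  Lgr Lrot24 (Lpr_bt (f577987 IH) (Lpn (LP (LK LD1_c21 LD2_c28 LD3_c44))))
theorem f577951 : Led Lsl_bt (LP (LK LD1_c16 LD2_c23 LD3_c21)) = (LP (LK LD1_c20 LD2_c36 LD3_c5)) :=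
  Lgr Lrot95 (Lpe (K37.f444995 IH) (Lpe (K43.f30798 IH) (Lpr_df (K43.f577949 IH) (Lpn (LP (LK LD1_c20 LD2_c36 LD3_c5))))))
theorem f606932 : Led Lsl_at (LP (LK LD1_c12 LD2_c6 LD3_c55)) = (LP (LK LD1_c16 LD2_c23 LD3_c21)) :=
  Lgr Lrot67 (Lpe (f59740 IH) (Lpr_af (f606817 IH) (Lpr_bf (f577989 IH) (Lpe (K43.f577995 IH) (Lpe (f577951 IH) (Lpn (LP (LK LD1_c16 LD2_c23 LD3_c21))))))))
theorem f59746 : Led Lsl_et (LP (LK LD1_c6 LD2_c14 LD3_c12)) = (LP (LK LD1_c12 LD2_c6 LD3_c55)) :=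
  Lre_e IH (LK LD1_c6 LD2_c14 LD3_c12) (LK LD1_c12 LD2_c6 LD3_c55) Lrfl Lrfl
theorem f80834 : Led Lsl_gt (LP (LK LD1_c4 LD2_c23 LD3_c53)) = (LP (LK LD1_c8 LD2_c45 LD3_c35)) :=
  Lre_g IH (LK LD1_c4 LD2_c23 LD3_c53) (LK LD1_c8 LD2_c45 LD3_c35) Lrfl Lrfl
theorem f444999 : Led Lsl_ef (LP (LK LD1_c8 LD2_c45 LD3_c35)) = (LP (LK LD1_c16 LD2_c23 LD3_c21)) :=
  Lgr Lrot17 (Lpe (f80834 IH) (Lpe (K10.f80833 IH) (Lpr_dt (K2.f59663 IH) (Lpr_gf (K11.f80830 IH) (Lpe (K4.f59621 IH) (Lpr_gf (K4.f59622 IH) (Lpe (K4.f30722 IH) (Lpr_dt (K4.f30070 IH) (Lpe (K37.f30067 IH) (Lpr_df (f444997 IH) (Lpn (LP (LK LD1_c16 LD2_c23 LD3_c21)))))))))))))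
theorem f606936 : Led Lsl_af (LP (LK LD1_c6 LD2_c14 LD3_c12)) = (LP (LK LD1_c8 LD2_c45 LD3_c35)) :=
  Lgr Lrot50 (Lpr_et (f59746 IH) (Lpr_at (f606932 IH) (Lpe (f444999 IH) (Lpn (LP (LK LD1_c8 LD2_c45 LD3_c35))))))
theorem f70201 : Led Lsl_gt (LP (LK LD1_c6 LD2_c14 LD3_c13)) = (LP (LK LD1_c3 LD2_c3 LD3_c61)) :=
  Lre_g IH (LK LD1_c6 LD2_c14 LD3_c13) (LK LD1_c3 LD2_c3 LD3_c61) Lrfl Lrfl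
theorem f606940 : Led Lsl_ft (LP (LK LD1_c6 LD2_c14 LD3_c13)) = (LP (LK LD1_c8 LD2_c45 LD3_c35)) :=
  Lgr Lrot2 (Lpr_gt (f70201 IH) (Lpr_gt (K40.f59729 IH) (Lpr_af (f606936 IH) (Lpn (LP (LK LD1_c8 LD2_c45 LD3_c35))))))
theorem f606948 : Led Lsl_ff (LP (LK LD1_c6 LD2_c14 LD3_c13)) = (LP (LK LD1_c8 LD2_c45 LD3_c35)) :=
  Lgr Lrot3 (Lpr_ft (f606940 IH) (Lpn (LP (LK LD1_c8 LD2_c45 LD3_c35))))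
theorem f81352 : Led Lsl_gf (LP (LK LD1_c6 LD2_c14 LD3_c14)) = (LP (LK LD1_c8 LD2_c45 LD3_c35)) :=
  Lgr Lrot76 (Lpr_af (K32.f81348 IH) (Lpe (K10.f81122 IH) (Lpr_gt (f80834 IH) (Lpn (LP (LK LD1_c8 LD2_c45 LD3_c35))))))
theorem f81220 : Led Lsl_at (LP (LK LD1_c3 LD2_c3 LD3_c61)) = (LP (LK LD1_c4 LD2_c23 LD3_c53)) :=
  Lgr Lrot51 (Lpr_df (K32.f81206 IH) (Lpe (K10.f34468 IH) (Lpe (K32.f81135 IH) (Lpn (LP (LK LD1_c4 LD2_c23 LD3_c53))))))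
theorem f81151 : Led Lsl_gt (LP (LK LD1_c8 LD2_c45 LD3_c36)) = (LP (LK LD1_c4 LD2_c23 LD3_c53)) :=
  Lre_g IH (LK LD1_c8 LD2_c45 LD3_c36) (LK LD1_c4 LD2_c23 LD3_c53) Lrfl Lrfl
theorem f81503 : Led Lsl_gt (LP (LK LD1_c6 LD2_c14 LD3_c14)) = (LP (LK LD1_c8 LD2_c45 LD3_c36)) :=
  Lgr Lrot5 (Lpr_ft (K32.f81244 IH) (Lpr_at (f81220 IH) (Lpe (f81151 IH) (Lpn (LP (LK LD1_c8 LD2_c45 LD3_c36))))))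
theorem f606958 : Led Lsl_at (LP (LK LD1_c6 LD2_c14 LD3_c13)) = (LP (LK LD1_c8 LD2_c45 LD3_c36)) :=
  Lgr Lrot26 (Lpr_ff (f606948 IH) (Lpe (f81352 IH) (Lpr_gt (f81503 IH) (Lpn (LP (LK LD1_c8 LD2_c45 LD3_c36))))))
theorem f445202 : Led Lsl_ct (LP (LK LD1_c5 LD2_c46 LD3_c32)) = (LP (LK LD1_c6 LD2_c14 LD3_c12)) :=
  Lgr Lrot59 (Lpr_cf (K40.f445199 IH) (Lpn (LP (LK LD1_c6 LD2_c14 LD3_c12))))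
theorem f38077 : Led Lsl_ef (LP (LK LD1_c8 LD2_c45 LD3_c17)) = (LP (LK LD1_c6 LD2_c14 LD3_c22)) :=
  Lgr Lrot88 (Lpr_et (K37.f38031 IH) (Lpn (LP (LK LD1_c6 LD2_c14 LD3_c22))))
theorem f445001 : Led Lsl_ct (LP (LK LD1_c8 LD2_c45 LD3_c35)) = (LP (LK LD1_c6 LD2_c14 LD3_c22)) :=
  Lgr Lrot15 (Lpr_ef (f444999 IH) (Lpe (f38079 IH) (Lpr_ef (f38077 IH) (Lpn (LP (LK LD1_c6 LD2_c14 LD3_c22))))))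
theorem f576202 : Led Lsl_at (LP (LK LD1_c6 LD2_c14 LD3_c12)) = (LP (LK LD1_c8 LD2_c45 LD3_c35)) :=
  Lgr Lrot107 (Lpe (f445202 IH) (Lpr_af (K43.f576158 IH) (Lpe (f445001 IH) (Lpn (LP (LK LD1_c8 LD2_c45 LD3_c35))))))
theorem f606966 : Led Lsl_ff (LP (LK LD1_c6 LD2_c14 LD3_c12)) = (LP (LK LD1_c8 LD2_c45 LD3_c36)) :=
  Lgr Lrot30 (Lpr_at (f576202 IH) (Lpe (f606948 IH) (Lpr_at (f606958 IH) (Lpn (LP (LK LD1_c8 LD2_c45 LD3_c36))))))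
theorem f59730 : Led Lsl_dt (LP (LK LD1_c6 LD2_c14 LD3_c12)) = (LP (LK LD1_c12 LD2_c6 LD3_c54)) :=
  Lre_d IH (LK LD1_c6 LD2_c14 LD3_c12) (LK LD1_c12 LD2_c6 LD3_c54) Lrfl Lrfl
theorem f81162 : Led Lsl_dt (LP (LK LD1_c16 LD2_c23 LD3_c48)) = (LP (LK LD1_c8 LD2_c45 LD3_c36)) :=
  Lre_d IH (LK LD1_c16 LD2_c23 LD3_c48) (LK LD1_c8 LD2_c45 LD3_c36) Lrfl Lrfl
theorem f606970 : Led Lsl_ft (LP (LK LD1_c12 LD2_c6 LD3_c54)) = (LP (LK LD1_c16 LD2_c23 LD3_c48)) :=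
  Lgr Lrot54 (Lpe (f59730 IH) (Lpr_ff (f606966 IH) (Lpe (f81162 IH) (Lpn (LP (LK LD1_c16 LD2_c23 LD3_c48))))))
theorem f59731 : Led Lsl_et (LP (LK LD1_c0 LD2_c42 LD3_c2)) = (LP (LK LD1_c1 LD2_c31 LD3_c9)) :=
  Lre_e IH (LK LD1_c0 LD2_c42 LD3_c2) (LK LD1_c1 LD2_c31 LD3_c9) Lrfl Lrfl
theorem f59732 : Led Lsl_gt (LP (LK LD1_c3 LD2_c10 LD3_c1)) = (LP (LK LD1_c1 LD2_c31 LD3_c9)) :=
  Lre_g IH (LK LD1_c3 LD2_c10 LD3_c1) (LK LD1_c1 LD2_c31 LD3_c9) Lrfl Lrfl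
theorem f59733 : Led Lsl_et (LP (LK LD1_c6 LD2_c24 LD3_c52)) = (LP (LK LD1_c3 LD2_c10 LD3_c1)) :=
  Lre_e IH (LK LD1_c6 LD2_c24 LD3_c52) (LK LD1_c3 LD2_c10 LD3_c1) Lrfl Lrfl
theorem f59734 : Led Lsl_dt (LP (LK LD1_c6 LD2_c24 LD3_c52)) = (LP (LK LD1_c12 LD2_c22 LD3_c42)) :=
  Lre_d IH (LK LD1_c6 LD2_c24 LD3_c52) (LK LD1_c12 LD2_c22 LD3_c42) Lrfl Lrfl
theorem f59735 : Led Lsl_gt (LP (LK LD1_c12 LD2_c6 LD3_c54)) = (LP (LK LD1_c12 LD2_c22 LD3_c42)) :=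
  Lgr Lrot139 (Lpe (f59730 IH) (Lpe (K40.f59729 IH) (Lpe (K40.f59728 IH) (Lpr_dt (K2.f59694 IH) (Lpr_gf (K1.f59701 IH) (Lpe (K4.f36318 IH) (Lpr_et (f59731 IH) (Lpe (f59732 IH) (Lpe (f59733 IH) (Lpr_dt (f59734 IH) (Lpn (LP (LK LD1_c12 LD2_c22 LD3_c42)))))))))))))
theorem f81236 : Led Lsl_dt (LP (LK LD1_c12 LD2_c6 LD3_c57)) = (LP (LK LD1_c6 LD2_c14 LD3_c13)) :=
  Lre_d IH (LK LD1_c12 LD2_c6 LD3_c57) (LK LD1_c6 LD2_c14 LD3_c13) Lrfl Lrfl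
theorem f81160 : Led Lsl_dt (LP (LK LD1_c8 LD2_c45 LD3_c36)) = (LP (LK LD1_c16 LD2_c23 LD3_c48)) :=
  Lre_d IH (LK LD1_c8 LD2_c45 LD3_c36) (LK LD1_c16 LD2_c23 LD3_c48) Lrfl Lrfl
theorem f606964 : Led Lsl_af (LP (LK LD1_c12 LD2_c6 LD3_c57)) = (LP (LK LD1_c16 LD2_c23 LD3_c48)) :=
  Lgr Lrot117 (Lpr_dt (f81236 IH) (Lpr_at (f606958 IH) (Lpr_dt (f81160 IH) (Lpn (LP (LK LD1_c16 LD2_c23 LD3_c48))))))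
theorem f607031 : Led Lsl_gt (LP (LK LD1_c12 LD2_c22 LD3_c42)) = (LP (LK LD1_c12 LD2_c6 LD3_c57)) :=
  Lgr Lrot46 (Lpe (f59735 IH) (Lpr_ft (f606970 IH) (Lpe (f606964 IH) (Lpn (LP (LK LD1_c12 LD2_c6 LD3_c57))))))
theorem f202840 : Led Lsl_at (LP (LK LD1_c8 LD2_c46 LD3_c12)) = (LP (LK LD1_c4 LD2_c24 LD3_c22)) :=
  Lre_a IH (LK LD1_c8 LD2_c46 LD3_c12) (LK LD1_c4 LD2_c24 LD3_c22) Lrfl Lrfl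
theorem f202841 : Led Lsl_at (LP (LK LD1_c3 LD2_c9 LD3_c59)) = (LP (LK LD1_c6 LD2_c24 LD3_c38)) :=
  Lre_a IH (LK LD1_c3 LD2_c9 LD3_c59) (LK LD1_c6 LD2_c24 LD3_c38) Lrfl Lrfl
theorem f202842 : Led Lsl_bt (LP (LK LD1_c1 LD2_c31 LD3_c9)) = (LP (LK LD1_c3 LD2_c9 LD3_c59)) :=
  Lre_b IH (LK LD1_c1 LD2_c31 LD3_c9) (LK LD1_c3 LD2_c9 LD3_c59) Lrfl Lrfl
theorem f202843 : Led Lsl_at (LP (LK LD1_c2 LD2_c9 LD3_c39)) = (LP (LK LD1_c1 LD2_c31 LD3_c9)) :=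
  Lgr Lrot67 (Lpe (K37.f75655 IH) (Lpe (f202840 IH) (Lpr_bf (K11.f202838 IH) (Lpe (f202841 IH) (Lpe (f202842 IH) (Lpn (LP (LK LD1_c1 LD2_c31 LD3_c9))))))))
theorem f75727 : Led Lsl_ft (LP (LK LD1_c4 LD2_c24 LD3_c27)) = (LP (LK LD1_c2 LD2_c9 LD3_c39)) :=
  Lre_f IH (LK LD1_c4 LD2_c24 LD3_c27) (LK LD1_c2 LD2_c9 LD3_c39) Lrfl Lrfl
theorem f420367 : Led Lsl_gt (LP (LK LD1_c4 LD2_c24 LD3_c27)) = (LP (LK LD1_c3 LD2_c10 LD3_c1)) :=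
  Lgr Lrot5 (Lpr_ft (f75727 IH) (Lpr_at (f202843 IH) (Lpe (f59732 IH) (Lpn (LP (LK LD1_c3 LD2_c10 LD3_c1))))))
theorem f544183 : Led Lsl_dt (LP (LK LD1_c7 LD2_c56 LD3_c47)) = (LP (LK LD1_c7 LD2_c5 LD3_c41)) :=
  Lgr Lrot77 (Lpe (K37.f210837 IH) (Lpe (K11.f75733 IH) (Lpr_ef (K37.f544175 IH) (Lpe (K43.f108264 IH) (Lpr_ef (K24.f108255 IH) (Lpn (LP (LK LD1_c7 LD2_c5 LD3_c41))))))))
theorem f462467 : Led Lsl_et (LP (LK LD1_c7 LD2_c20 LD3_c28)) = (LP (LK LD1_c3 LD2_c56 LD3_c7)) :=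
  Lgr Lrot74 (Lpe (K29.f12388 IH) (Lpr_ef (K28.f462465 IH) (Lpe (K28.f458176 IH) (Lpn (LP (LK LD1_c3 LD2_c56 LD3_c7))))))
theorem f462576 : Led Lsl_et (LP (LK LD1_c14 LD2_c53 LD3_c56)) = (LP (LK LD1_c7 LD2_c53 LD3_c57)) :=
  Lre_e IH (LK LD1_c14 LD2_c53 LD3_c56) (LK LD1_c7 LD2_c53 LD3_c57) Lrfl Lrfl
theorem f462569 : Led Lsl_gt (LP (LK LD1_c7 LD2_c25 LD3_c11)) = (LP (LK LD1_c7 LD2_c53 LD3_c57)) :=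
  Lgr Lrot5 (Lpr_ft (K28.f462551 IH) (Lpr_at (K28.f462560 IH) (Lpe (K29.f452017 IH) (Lpn (LP (LK LD1_c7 LD2_c53 LD3_c57))))))
theorem f159687 : Led Lsl_et (LP (LK LD1_c3 LD2_c40 LD3_c50)) = (LP (LK LD1_c1 LD2_c47 LD3_c22)) :=
  Lre_e IH (LK LD1_c3 LD2_c40 LD3_c50) (LK LD1_c1 LD2_c47 LD3_c22) Lrfl Lrfl
theorem f159689 : Led Lsl_gt (LP (LK LD1_c13 LD2_c55 LD3_c30)) = (LP (LK LD1_c7 LD2_c21 LD3_c54)) :=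
  Lre_g IH (LK LD1_c13 LD2_c55 LD3_c30) (LK LD1_c7 LD2_c21 LD3_c54) Lrfl Lrfl
theorem f462577 : Led Lsl_df (LP (LK LD1_c13 LD2_c55 LD3_c30)) = (LP (LK LD1_c14 LD2_c53 LD3_c56)) :=
  Lgr Lrot170 (Lpr_gt (f159689 IH) (Lpe (K39.f159688 IH) (Lpr_et (f159687 IH) (Lpr_gt (K24.f116192 IH) (Lpe (K24.f159670 IH) (Lpr_gt (K36.f159755 IH) (Lpe (K28.f108127 IH) (Lpr_et (K28.f108129 IH) (Lpr_gt (f462569 IH) (Lpe (f462576 IH) (Lpn (LP (LK LD1_c14 LD2_c53 LD3_c56)))))))))))))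
theorem f554220 : Led Lsl_gt (LP (LK LD1_c21 LD2_c14 LD3_c37)) = (LP (LK LD1_c13 LD2_c55 LD3_c30)) :=
  Lgr Lrot139 (Lpe (K11.f75745 IH) (Lpr_gf (K39.f543404 IH) (Lpe (K39.f469296 IH) (Lpr_dt (K39.f554214 IH) (Lpe (K39.f462590 IH) (Lpe (K39.f425510 IH) (Lpr_et (f462467 IH) (Lpe (K29.f452017 IH) (Lpe (f462576 IH) (Lpe (f462577 IH) (Lpn (LP (LK LD1_c13 LD2_c55 LD3_c30)))))))))))))
theorem f462583 : Led Lsl_dt (LP (LK LD1_c13 LD2_c55 LD3_c30)) = (LP (LK LD1_c14 LD2_c53 LD3_c56)) :=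
  Lgr Lrot42 (Lpr_df (f462577 IH) (Lpn (LP (LK LD1_c14 LD2_c53 LD3_c56))))
theorem f11819 : Led Lsl_et (LP (LK LD1_c1 LD2_c43 LD3_c17)) = (LP (LK LD1_c3 LD2_c33 LD3_c6)) :=
  Lre_e IH (LK LD1_c1 LD2_c43 LD3_c17) (LK LD1_c3 LD2_c33 LD3_c6) Lrfl Lrfl
theorem f146916 : Led Lsl_bt (LP (LK LD1_c3 LD2_c41 LD3_c19)) = (LP (LK LD1_c3 LD2_c43 LD3_c56)) :=
  Lgr Lrot62 (Lpe (K32.f146915 IH) (Lpe (K24.f124025 IH) (Lpr_af (K7.f146913 IH) (Lpe (K4.f123577 IH) (Lpe (K5.f123646 IH) (Lpn (LP (LK LD1_c3 LD2_c43 LD3_c56))))))))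
theorem f514724 : Led Lsl_ct (LP (LK LD1_c3 LD2_c41 LD3_c19)) = K36.v2338 :=
  Lgr Lrot63 (Lpr_bt (f146916 IH) (Lpr_gt (K7.f144698 IH) (Lpe (K4.f116521 IH) (Lpe (K4.f122109 IH) (Lpr_gt (K4.f122087 IH) (Lpe (K4.f122056 IH) (Lpr_bt (K24.f209114 IH) (Lpe (K24.f439268 IH) (Lpe (K24.f439306 IH) (Lpr_gt (K39.f514722 IH) (Lpn K36.v2338)))))))))))
theorem f439347 : Led Lsl_af (LP (LK LD1_c3 LD2_c35 LD3_c42)) = (LP (LK LD1_c3 LD2_c32 LD3_c17)) :=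
  Lgr Lrot0 (Lpr_at (K24.f439345 IH) (Lpn (LP (LK LD1_c3 LD2_c32 LD3_c17))))
theorem f514723 : Led Lsl_gf (LP (LK LD1_c3 LD2_c35 LD3_c42)) = K36.v2338 :=
  Lgr Lrot76 (Lpr_af (f439347 IH) (Lpe (K24.f439304 IH) (Lpr_gt (K39.f514722 IH) (Lpn K36.v2338))))
theorem f558981 : Led Lsl_dt (LP (LK LD1_c3 LD2_c35 LD3_c42)) = (LP (LK LD1_c4 LD2_c56 LD3_c61)) :=
  Lgr Lrot57 (Lpr_gf (f514723 IH) (Lpe (f514724 IH) (Lpr_gt (K24.f147195 IH) (Lpr_dt (K39.f552179 IH) (Lpe (K37.f542915 IH) (Lpe (K8.f142277 IH) (Lpr_cf (K8.f11741 IH) (Lpe (K40.f11766 IH) (Lpr_gf (K40.f558977 IH) (Lpn (LP (LK LD1_c4 LD2_c56 LD3_c61))))))))))))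
theorem f540277 : Led Lsl_et (LP (LK LD1_c4 LD2_c24 LD3_c6)) = (LP (LK LD1_c2 LD2_c9 LD3_c30)) :=
  Lre_e IH (LK LD1_c4 LD2_c24 LD3_c6) (LK LD1_c2 LD2_c9 LD3_c30) Lrfl Lrfl
theorem f35891 : Led Lsl_gt (LP (LK LD1_c4 LD2_c24 LD3_c5)) = (LP (LK LD1_c2 LD2_c9 LD3_c27)) :=
  Lre_g IH (LK LD1_c4 LD2_c24 LD3_c5) (LK LD1_c2 LD2_c9 LD3_c27) Lrfl Lrfl
theorem f81298 : Led Lsl_dt (LP (LK LD1_c8 LD2_c45 LD3_c58)) = (LP (LK LD1_c4 LD2_c24 LD3_c5)) :=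
  Lre_d IH (LK LD1_c8 LD2_c45 LD3_c58) (LK LD1_c4 LD2_c24 LD3_c5) Lrfl Lrfl
theorem f558988 : Led Lsl_ef (LP (LK LD1_c7 LD2_c7 LD3_c2)) = (LP (LK LD1_c8 LD2_c45 LD3_c58)) :=
  Lgr Lrot17 (Lpe (K29.f11747 IH) (Lpe (f11819 IH) (Lpr_dt (K37.f11831 IH) (Lpr_gf (K40.f558977 IH) (Lpe (f558981 IH) (Lpr_gf (f514723 IH) (Lpqs (K36.f540265 IH) (Lpe (f540277 IH) (Lpr_dt (K4.f36678 IH) (Lpe (f35891 IH) (Lpe (f81298 IH) (Lpn (LP (LK LD1_c8 LD2_c45 LD3_c58))))))))))))))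
theorem f558996 : Led Lsl_et (LP (LK LD1_c7 LD2_c7 LD3_c2)) = (LP (LK LD1_c8 LD2_c45 LD3_c58)) :=
  Lgr Lrot87 (Lpr_ef (f558988 IH) (Lpn (LP (LK LD1_c8 LD2_c45 LD3_c58))))
theorem f470575 : Led Lsl_cf (LP (LK LD1_c7 LD2_c7 LD3_c2)) = (LP (LK LD1_c7 LD2_c53 LD3_c57)) :=
  Lgr Lrot11 (Lpr_ct (K29.f470572 IH) (Lpn (LP (LK LD1_c7 LD2_c53 LD3_c57))))
theorem f559000 : Led Lsl_cf (LP (LK LD1_c14 LD2_c53 LD3_c56)) = (LP (LK LD1_c8 LD2_c45 LD3_c58)) :=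
  Lgr Lrot39 (Lpr_et (f462576 IH) (Lpe (f470575 IH) (Lpr_et (f558996 IH) (Lpn (LP (LK LD1_c8 LD2_c45 LD3_c58))))))
theorem f81294 : Led Lsl_dt (LP (LK LD1_c4 LD2_c24 LD3_c5)) = (LP (LK LD1_c8 LD2_c45 LD3_c58)) :=
  Lre_d IH (LK LD1_c4 LD2_c24 LD3_c5) (LK LD1_c8 LD2_c45 LD3_c58) Lrfl Lrfl
theorem f201969 : Led Lsl_at (LP (LK LD1_c3 LD2_c57 LD3_c40)) = (LP (LK LD1_c2 LD2_c9 LD3_c27)) :=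
  Lgr Lrot107 (Lpe (K39.f59242 IH) (Lpr_af (K11.f201960 IH) (Lpe (K43.f99270 IH) (Lpn (LP (LK LD1_c2 LD2_c9 LD3_c27))))))
theorem f420666 : Led Lsl_gt (LP (LK LD1_c7 LD2_c56 LD3_c47)) = (LP (LK LD1_c4 LD2_c24 LD3_c5)) :=
  Lgr Lrot5 (Lpr_ft (K39.f210845 IH) (Lpr_at (f201969 IH) (Lpe (f35891 IH) (Lpn (LP (LK LD1_c4 LD2_c24 LD3_c5))))))
theorem f576650 : Led Lsl_gt (LP (LK LD1_c8 LD2_c45 LD3_c60)) = (LP (LK LD1_c7 LD2_c5 LD3_c41)) :=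
  Lgr Lrot94 (Lpr_cf (K43.f576643 IH) (Lpe (K39.f543404 IH) (Lpr_dt (K11.f75745 IH) (Lpr_gt (f554220 IH) (Lpr_dt (f462583 IH) (Lpr_cf (f559000 IH) (Lpe (f81294 IH) (Lpe (f420666 IH) (Lpr_df (K37.f544189 IH) (Lpn (LP (LK LD1_c7 LD2_c5 LD3_c41))))))))))))
theorem f35880 : Led Lsl_dt (LP (LK LD1_c16 LD2_c24 LD3_c14)) = (LP (LK LD1_c8 LD2_c45 LD3_c60)) :=
  Lre_d IH (LK LD1_c16 LD2_c24 LD3_c14) (LK LD1_c8 LD2_c45 LD3_c60) Lrfl Lrfl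
theorem f81250 : Led Lsl_dt (LP (LK LD1_c6 LD2_c14 LD3_c13)) = (LP (LK LD1_c12 LD2_c6 LD3_c57)) :=
  Lre_d IH (LK LD1_c6 LD2_c14 LD3_c13) (LK LD1_c12 LD2_c6 LD3_c57) Lrfl Lrfl
theorem f606957 : Led Lsl_et (LP (LK LD1_c6 LD2_c14 LD3_c13)) = (LP (LK LD1_c12 LD2_c6 LD3_c58)) :=
  Lre_e IH (LK LD1_c6 LD2_c14 LD3_c13) (LK LD1_c12 LD2_c6 LD3_c58) Lrfl Lrfl
theorem f607035 : Led Lsl_gf (LP (LK LD1_c16 LD2_c24 LD3_c14)) = (LP (LK LD1_c12 LD2_c6 LD3_c58)) :=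
  Lgr Lrot138 (Lpr_dt (f35880 IH) (Lpr_gt (f576650 IH) (Lpe (f544183 IH) (Lpe (K37.f210843 IH) (Lpr_gt (f420367 IH) (Lpe (f59733 IH) (Lpr_dt (f59734 IH) (Lpr_gt (f607031 IH) (Lpe (f81250 IH) (Lpr_et (f606957 IH) (Lpn (LP (LK LD1_c12 LD2_c6 LD3_c58)))))))))))))
theorem f59771 : Led Lsl_dt (LP (LK LD1_c12 LD2_c22 LD3_c42)) = (LP (LK LD1_c6 LD2_c24 LD3_c52)) :=
  Lre_d IH (LK LD1_c12 LD2_c22 LD3_c42) (LK LD1_c6 LD2_c24 LD3_c52) Lrfl Lrfl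
theorem f35874 : Led Lsl_gt (LP (LK LD1_c4 LD2_c23 LD3_c50)) = (LP (LK LD1_c8 LD2_c45 LD3_c29)) :=
  Lre_g IH (LK LD1_c4 LD2_c23 LD3_c50) (LK LD1_c8 LD2_c45 LD3_c29) Lrfl Lrfl
theorem f35882 : Led Lsl_dt (LP (LK LD1_c8 LD2_c45 LD3_c29)) = (LP (LK LD1_c16 LD2_c23 LD3_c38)) :=
  Lre_d IH (LK LD1_c8 LD2_c45 LD3_c29) (LK LD1_c16 LD2_c23 LD3_c38) Lrfl Lrfl
theorem f35888 : Led Lsl_gt (LP (LK LD1_c16 LD2_c23 LD3_c38)) = (LP (LK LD1_c16 LD2_c24 LD3_c11)) :=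
  Lre_g IH (LK LD1_c16 LD2_c23 LD3_c38) (LK LD1_c16 LD2_c24 LD3_c11) Lrfl Lrfl
theorem f81247 : Led Lsl_dt (LP (LK LD1_c16 LD2_c24 LD3_c11)) = (LP (LK LD1_c8 LD2_c45 LD3_c59)) :=
  Lre_d IH (LK LD1_c16 LD2_c24 LD3_c11) (LK LD1_c8 LD2_c45 LD3_c59) Lrfl Lrfl
theorem f81248 : Led Lsl_cf (LP (LK LD1_c6 LD2_c24 LD3_c52)) = (LP (LK LD1_c8 LD2_c45 LD3_c59)) :=
  Lgr Lrot14 (Lpe (f59771 IH) (Lpe (f59735 IH) (Lpe (f59730 IH) (Lpe (K40.f59729 IH) (Lpr_ct (K32.f81230 IH) (Lpr_gt (f35874 IH) (Lpr_dt (f35882 IH) (Lpr_gt (f35888 IH) (Lpr_dt (f81247 IH) (Lpn (LP (LK LD1_c8 LD2_c45 LD3_c59))))))))))))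
theorem f81262 : Led Lsl_et (LP (LK LD1_c4 LD2_c24 LD3_c5)) = (LP (LK LD1_c8 LD2_c45 LD3_c59)) :=
  Lre_e IH (LK LD1_c4 LD2_c24 LD3_c5) (LK LD1_c8 LD2_c45 LD3_c59) Lrfl Lrfl
theorem f81263 : Led Lsl_ct (LP (LK LD1_c3 LD2_c10 LD3_c1)) = (LP (LK LD1_c4 LD2_c24 LD3_c5)) :=
  Lgr Lrot15 (Lpe (f59733 IH) (Lpr_cf (f81248 IH) (Lpe (f81262 IH) (Lpn (LP (LK LD1_c4 LD2_c24 LD3_c5))))))
theorem f59754 : Led Lsl_dt (LP (LK LD1_c1 LD2_c31 LD3_c9)) = (LP (LK LD1_c3 LD2_c10 LD3_c2)) :=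
  Lre_d IH (LK LD1_c1 LD2_c31 LD3_c9) (LK LD1_c3 LD2_c10 LD3_c2) Lrfl Lrfl
theorem f59755 : Led Lsl_gt (LP (LK LD1_c3 LD2_c10 LD3_c2)) = (LP (LK LD1_c6 LD2_c24 LD3_c53)) :=
  Lre_g IH (LK LD1_c3 LD2_c10 LD3_c2) (LK LD1_c6 LD2_c24 LD3_c53) Lrfl Lrfl
theorem f59759 : Led Lsl_dt (LP (LK LD1_c6 LD2_c24 LD3_c53)) = (LP (LK LD1_c12 LD2_c22 LD3_c45)) :=
  Lre_d IH (LK LD1_c6 LD2_c24 LD3_c53) (LK LD1_c12 LD2_c22 LD3_c45) Lrfl Lrfl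
theorem f81295 : Led Lsl_dt (LP (LK LD1_c8 LD2_c45 LD3_c60)) = (LP (LK LD1_c16 LD2_c24 LD3_c14)) :=
  Lre_d IH (LK LD1_c8 LD2_c45 LD3_c60) (LK LD1_c16 LD2_c24 LD3_c14) Lrfl Lrfl
theorem f81296 : Led Lsl_cf (LP (LK LD1_c12 LD2_c22 LD3_c45)) = (LP (LK LD1_c16 LD2_c24 LD3_c14)) :=
  Lgr Lrot14 (Lpe (f59759 IH) (Lpe (f59755 IH) (Lpe (f59754 IH) (Lpe (f59732 IH) (Lpr_ct (f81263 IH) (Lpr_gt (f35891 IH) (Lpr_dt (K4.f35878 IH) (Lpr_gt (K43.f35879 IH) (Lpr_dt (f81295 IH) (Lpn (LP (LK LD1_c16 LD2_c24 LD3_c14))))))))))))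
theorem f59756 : Led Lsl_dt (LP (LK LD1_c12 LD2_c22 LD3_c45)) = (LP (LK LD1_c6 LD2_c24 LD3_c53)) :=
  Lre_d IH (LK LD1_c12 LD2_c22 LD3_c45) (LK LD1_c6 LD2_c24 LD3_c53) Lrfl Lrfl
theorem f81305 : Led Lsl_ct (LP (LK LD1_c12 LD2_c22 LD3_c44)) = (LP (LK LD1_c6 LD2_c24 LD3_c53)) :=
  Lre_c IH (LK LD1_c12 LD2_c22 LD3_c44) (LK LD1_c6 LD2_c24 LD3_c53) Lrfl Lrfl
theorem f40019 : Led Lsl_dt (LP (LK LD1_c16 LD2_c31 LD3_c53)) = (LP (LK LD1_c8 LD2_c50 LD3_c40)) :=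
  Lre_d IH (LK LD1_c16 LD2_c31 LD3_c53) (LK LD1_c8 LD2_c50 LD3_c40) Lrfl Lrfl
theorem f607037 : Led Lsl_ct (LP (LK LD1_c11 LD2_c23 LD3_c19)) = (LP (LK LD1_c12 LD2_c6 LD3_c58)) :=
  Lgr Lrot8 (Lpr_gt (K43.f576274 IH) (Lpr_dt (f40019 IH) (Lpe (K37.f420703 IH) (Lpr_dt (K37.f201955 IH) (Lpr_cf (K37.f210841 IH) (Lpr_df (K37.f544189 IH) (Lpe (f576650 IH) (Lpe (f35880 IH) (Lpr_gf (f607035 IH) (Lpn (LP (LK LD1_c12 LD2_c6 LD3_c58))))))))))))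
theorem f607041 : Led Lsl_gf (LP (LK LD1_c12 LD2_c22 LD3_c44)) = (LP (LK LD1_c8 LD2_c50 LD3_c42)) :=
  Lgr Lrot104 (Lpr_ct (f81305 IH) (Lpe (f59756 IH) (Lpr_cf (f81296 IH) (Lpr_gf (f607035 IH) (Lpe (f607037 IH) (Lpr_gf (K43.f576298 IH) (Lpe (K43.f420664 IH) (Lpr_gt (K4.f80906 IH) (Lpr_ct (K43.f80904 IH) (Lpn (LP (LK LD1_c8 LD2_c50 LD3_c42))))))))))))
theorem f544195 : Led Lsl_ft (LP (LK LD1_c8 LD2_c50 LD3_c42)) = (LP (LK LD1_c16 LD2_c31 LD3_c57)) :=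
  Lre_f IH (LK LD1_c8 LD2_c50 LD3_c42) (LK LD1_c16 LD2_c31 LD3_c57) Lrfl Lrfl
theorem f560397 : Led Lsl_af (LP (LK LD1_c14 LD2_c5 LD3_c16)) = (LP (LK LD1_c16 LD2_c31 LD3_c57)) :=
  Lgr Lrot109 (Lpr_cf (K39.f560363 IH) (Lpe (K37.f210848 IH) (Lpr_cf (K37.f210841 IH) (Lpr_df (K37.f544189 IH) (Lpr_cf (K28.f147289 IH) (Lpe (K43.f147292 IH) (Lpe (K43.f544193 IH) (Lpe (K43.f101874 IH) (Lpr_ft (f544195 IH) (Lpn (LP (LK LD1_c16 LD2_c31 LD3_c57))))))))))))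
theorem f607044 : Led Lsl_gt (LP (LK LD1_c12 LD2_c22 LD3_c44)) = (LP (LK LD1_c14 LD2_c5 LD3_c16)) :=
  Lgr Lrot46 (Lpr_gf (f607041 IH) (Lpr_ft (f544195 IH) (Lpe (f560397 IH) (Lpn (LP (LK LD1_c14 LD2_c5 LD3_c16))))))
theorem f81303 : Led Lsl_ct (LP (LK LD1_c6 LD2_c24 LD3_c53)) = (LP (LK LD1_c12 LD2_c22 LD3_c44)) :=
  Lre_c IH (LK LD1_c6 LD2_c24 LD3_c53) (LK LD1_c12 LD2_c22 LD3_c44) Lrfl Lrfl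
theorem f80355 : Led Lsl_gt (LP (LK LD1_c1 LD2_c31 LD3_c9)) = (LP (LK LD1_c3 LD2_c10 LD3_c0)) :=
  Lre_g IH (LK LD1_c1 LD2_c31 LD3_c9) (LK LD1_c3 LD2_c10 LD3_c0) Lrfl Lrfl
theorem f560391 : Led Lsl_ct (LP (LK LD1_c14 LD2_c5 LD3_c16)) = (LP (LK LD1_c9 LD2_c19 LD3_c40)) :=
  Lgr Lrot59 (Lpr_cf (K39.f560363 IH) (Lpn (LP (LK LD1_c9 LD2_c19 LD3_c40))))
theorem f210833 : Led Lsl_at (LP (LK LD1_c4 LD2_c24 LD3_c7)) = (LP (LK LD1_c7 LD2_c56 LD3_c47)) :=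
  Lgr Lrot100 (Lpr_af (K37.f210824 IH) (Lpn (LP (LK LD1_c7 LD2_c56 LD3_c47))))
theorem f210853 : Led Lsl_gt (LP (LK LD1_c4 LD2_c24 LD3_c4)) = (LP (LK LD1_c7 LD2_c56 LD3_c47)) :=
  Lgr Lrot46 (Lpe (f80326 IH) (Lpr_ft (K4.f99302 IH) (Lpr_at (f210833 IH) (Lpn (LP (LK LD1_c7 LD2_c56 LD3_c47))))))
theorem f607050 : Led Lsl_ct (LP (LK LD1_c3 LD2_c10 LD3_c0)) = (LP (LK LD1_c4 LD2_c24 LD3_c4)) :=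
  Lgr Lrot152 (Lpe (f80355 IH) (Lpe (K11.f205493 IH) (Lpr_gt (f59755 IH) (Lpr_ct (f81303 IH) (Lpr_gt (f607044 IH) (Lpr_ct (f560391 IH) (Lpe (K37.f210848 IH) (Lpr_cf (K37.f210841 IH) (Lpe (f210853 IH) (Lpn (LP (LK LD1_c4 LD2_c24 LD3_c4))))))))))))
theorem f80371 : Led Lsl_dt (LP (LK LD1_c6 LD2_c24 LD3_c48)) = (LP (LK LD1_c3 LD2_c10 LD3_c0)) :=
  Lre_d IH (LK LD1_c6 LD2_c24 LD3_c48) (LK LD1_c3 LD2_c10 LD3_c0) Lrfl Lrfl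
theorem f80425 : Led Lsl_ct (LP (LK LD1_c12 LD2_c22 LD3_c32)) = (LP (LK LD1_c6 LD2_c24 LD3_c48)) :=
  Lre_c IH (LK LD1_c12 LD2_c22 LD3_c32) (LK LD1_c6 LD2_c24 LD3_c48) Lrfl Lrfl
theorem f607053 : Led Lsl_dt (LP (LK LD1_c21 LD2_c29 LD3_c17)) = (LP (LK LD1_c12 LD2_c22 LD3_c32)) :=
  Lre_d IH (LK LD1_c21 LD2_c29 LD3_c17) (LK LD1_c12 LD2_c22 LD3_c32) Lrfl Lrfl
theorem f205544 : Led Lsl_gf (LP (LK LD1_c8 LD2_c46 LD3_c35)) = (LP (LK LD1_c6 LD2_c24 LD3_c53)) :=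
  Lgr Lrot76 (Lpr_af (K11.f205535 IH) (Lpe (K11.f205499 IH) (Lpr_gt (f59755 IH) (Lpn (LP (LK LD1_c6 LD2_c24 LD3_c53))))))
theorem f81314 : Led Lsl_dt (LP (LK LD1_c3 LD2_c10 LD3_c1)) = (LP (LK LD1_c6 LD2_c24 LD3_c51)) :=
  Lre_d IH (LK LD1_c3 LD2_c10 LD3_c1) (LK LD1_c6 LD2_c24 LD3_c51) Lrfl Lrfl
theorem f81315 : Led Lsl_ct (LP (LK LD1_c6 LD2_c24 LD3_c51)) = (LP (LK LD1_c12 LD2_c22 LD3_c39)) :=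
  Lre_c IH (LK LD1_c6 LD2_c24 LD3_c51) (LK LD1_c12 LD2_c22 LD3_c39) Lrfl Lrfl
theorem f81293 : Led Lsl_dt (LP (LK LD1_c21 LD2_c29 LD3_c28)) = (LP (LK LD1_c12 LD2_c22 LD3_c39)) :=
  Lre_d IH (LK LD1_c21 LD2_c29 LD3_c28) (LK LD1_c12 LD2_c22 LD3_c39) Lrfl Lrfl
theorem f607048 : Led Lsl_gf (LP (LK LD1_c21 LD2_c29 LD3_c28)) = (LP (LK LD1_c23 LD2_c29 LD3_c40)) :=
  Lgr Lrot143 (Lpr_dt (f81293 IH) (Lpe (f81315 IH) (Lpe (f81314 IH) (Lpe (f420367 IH) (Lpe (K11.f75733 IH) (Lpr_gf (f205544 IH) (Lpe (f81305 IH) (Lpr_gt (f607044 IH) (Lpr_dt (K39.f560324 IH) (Lpn (LP (LK LD1_c23 LD2_c29 LD3_c40))))))))))))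
theorem f560346 : Led Lsl_ff (LP (LK LD1_c14 LD2_c5 LD3_c15)) = (LP (LK LD1_c23 LD2_c29 LD3_c40)) :=
  Lgr Lrot3 (Lpr_ft (K39.f560337 IH) (Lpn (LP (LK LD1_c23 LD2_c29 LD3_c40))))
theorem f576588 : Led Lsl_af (LP (LK LD1_c16 LD2_c31 LD3_c56)) = (LP (LK LD1_c14 LD2_c5 LD3_c15)) :=
  Lgr Lrot45 (Lpr_ft (K43.f576584 IH) (Lpr_at (K43.f576587 IH) (Lpe (f560346 IH) (Lpn (LP (LK LD1_c14 LD2_c5 LD3_c15))))))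
theorem f607076 : Led Lsl_gt (LP (LK LD1_c21 LD2_c29 LD3_c28)) = (LP (LK LD1_c16 LD2_c31 LD3_c56)) :=
  Lgr Lrot46 (Lpr_gf (f607048 IH) (Lpe (f560346 IH) (Lpe (f576588 IH) (Lpn (LP (LK LD1_c16 LD2_c31 LD3_c56))))))
theorem f439410 : Led Lsl_dt (LP (LK LD1_c7 LD2_c21 LD3_c54)) = (LP (LK LD1_c3 LD2_c40 LD3_c50)) :=
  Lre_d IH (LK LD1_c7 LD2_c21 LD3_c54) (LK LD1_c3 LD2_c40 LD3_c50) Lrfl Lrfl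
theorem f607080 : Led Lsl_cf (LP (LK LD1_c21 LD2_c29 LD3_c28)) = (LP (LK LD1_c13 LD2_c55 LD3_c29)) :=
  Lgr Lrot169 (Lpr_gt (f607076 IH) (Lpr_ct (K43.f544193 IH) (Lpe (K28.f147291 IH) (Lpe (K28.f147275 IH) (Lpe (f576650 IH) (Lpr_cf (K43.f576643 IH) (Lpe (K39.f439412 IH) (Lpe (f439410 IH) (Lpr_gt (K43.f462206 IH) (Lpn (LP (LK LD1_c13 LD2_c55 LD3_c29))))))))))))
theorem f81292 : Led Lsl_ct (LP (LK LD1_c12 LD2_c22 LD3_c39)) = (LP (LK LD1_c6 LD2_c24 LD3_c51)) :=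
  Lre_c IH (LK LD1_c12 LD2_c22 LD3_c39) (LK LD1_c6 LD2_c24 LD3_c51) Lrfl Lrfl
theorem f81291 : Led Lsl_dt (LP (LK LD1_c6 LD2_c24 LD3_c51)) = (LP (LK LD1_c3 LD2_c10 LD3_c1)) :=
  Lre_d IH (LK LD1_c6 LD2_c24 LD3_c51) (LK LD1_c3 LD2_c10 LD3_c1) Lrfl Lrfl
theorem f607390 : Led Lsl_cf (LP (LK LD1_c21 LD2_c29 LD3_c17)) = (LP (LK LD1_c13 LD2_c55 LD3_c30)) :=
  Lgr Lrot55 (Lpr_dt (f607053 IH) (Lpr_ct (f80425 IH) (Lpr_dt (f80371 IH) (Lpr_ct (f607050 IH) (Lpr_dt (f80339 IH) (Lpr_ct (f607386 IH) (Lpe (K43.f560545 IH) (Lpe (f607080 IH) (Lpr_dt (f81293 IH) (Lpr_ct (f81292 IH) (Lpr_dt (f81291 IH) (Lpr_ct (f81263 IH) (Lpr_dt (f81294 IH) (Lpe (f559000 IH) (Lpe (f462577 IH) (Lpn (LP (LK LD1_c13 LD2_c55 LD3_c30))))))))))))))))))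
theorem f543545 : Led Lsl_gt (LP (LK LD1_c12 LD2_c8 LD3_c17)) = (LP (LK LD1_c7 LD2_c21 LD3_c53)) :=
  Lgr Lrot5 (Lpr_ft (K37.f205498 IH) (Lpr_at (K37.f543424 IH) (Lpe (f439415 IH) (Lpn (LP (LK LD1_c7 LD2_c21 LD3_c53))))))
theorem f607399 : Led Lsl_gt (LP (LK LD1_c21 LD2_c29 LD3_c17)) = (LP (LK LD1_c23 LD2_c29 LD3_c40)) :=
  Lgr Lrot150 (Lpr_cf (f607390 IH) (Lpe (f554220 IH) (Lpe (K11.f75745 IH) (Lpr_gt (f543545 IH) (Lpe (f607384 IH) (Lpr_gt (K4.f36667 IH) (Lpr_ct (K43.f576594 IH) (Lpe (K8.f147159 IH) (Lpe (K36.f147298 IH) (Lpn (LP (LK LD1_c23 LD2_c29 LD3_c40))))))))))))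
theorem f80423 : Led Lsl_gt (LP (LK LD1_c12 LD2_c22 LD3_c32)) = (LP (LK LD1_c21 LD2_c29 LD3_c14)) :=
  Lre_g IH (LK LD1_c12 LD2_c22 LD3_c32) (LK LD1_c21 LD2_c29 LD3_c14) Lrfl Lrfl
theorem f607419 : Led Lsl_ct (LP (LK LD1_c21 LD2_c29 LD3_c14)) = (LP (LK LD1_c16 LD2_c31 LD3_c42)) :=
  Lgr Lrot152 (Lpe (f80423 IH) (Lpe (f607053 IH) (Lpr_gt (f607399 IH) (Lpr_ct (K36.f147298 IH) (Lpr_gt (K39.f560409 IH) (Lpe (K39.f560407 IH) (Lpe (K39.f543481 IH) (Lpe (K39.f80496 IH) (Lpe (K37.f421085 IH) (Lpn (LP (LK LD1_c16 LD2_c31 LD3_c42))))))))))))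
theorem f576242 : Led Lsl_ff (LP (LK LD1_c17 LD2_c15 LD3_c15)) = (LP (LK LD1_c16 LD2_c31 LD3_c42)) :=
  Lgr Lrot3 (Lpr_ft (K43.f576240 IH) (Lpn (LP (LK LD1_c16 LD2_c31 LD3_c42))))
theorem f607426 : Led Lsl_ff (LP (LK LD1_c21 LD2_c29 LD3_c14)) = (LP (LK LD1_c26 LD2_c22 LD3_c39)) :=
  Lgr Lrot23 (Lpr_ct (f607419 IH) (Lpe (f576242 IH) (Lpr_ct (K43.f560382 IH) (Lpn (LP (LK LD1_c26 LD2_c22 LD3_c39))))))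
theorem f70255 : Led Lsl_gt (LP (LK LD1_c16 LD2_c24 LD3_c61)) = (LP (LK LD1_c26 LD2_c22 LD3_c38)) :=
  Lre_g IH (LK LD1_c16 LD2_c24 LD3_c61) (LK LD1_c26 LD2_c22 LD3_c38) Lrfl Lrfl
theorem f607706 : Led Lsl_at (LP (LK LD1_c21 LD2_c29 LD3_c14)) = (LP (LK LD1_c26 LD2_c22 LD3_c38)) :=
  Lgr Lrot26 (Lpr_ff (f607426 IH) (Lpr_gt (K43.f560379 IH) (Lpr_gt (f70255 IH) (Lpn (LP (LK LD1_c26 LD2_c22 LD3_c38))))))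
theorem f607409 : Led Lsl_dt (LP (LK LD1_c30 LD2_c2 LD3_c42)) = (LP (LK LD1_c21 LD2_c29 LD3_c14)) :=
  Lre_d IH (LK LD1_c30 LD2_c2 LD3_c42) (LK LD1_c21 LD2_c29 LD3_c14) Lrfl Lrfl
theorem f462579 : Led Lsl_bt (LP (LK LD1_c13 LD2_c55 LD3_c30)) = (LP (LK LD1_c23 LD2_c26 LD3_c13)) :=
  Lre_b IH (LK LD1_c13 LD2_c55 LD3_c30) (LK LD1_c23 LD2_c26 LD3_c13) Lrfl Lrfl
theorem f471614 : Led Lsl_at (LP (LK LD1_c14 LD2_c7 LD3_c37)) = (LP (LK LD1_c13 LD2_c58 LD3_c8)) :=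
  Lgr Lrot100 (Lpr_af (K33.f471612 IH) (Lpn (LP (LK LD1_c13 LD2_c58 LD3_c8))))
theorem f533350 : Led Lsl_gt (LP (LK LD1_c13 LD2_c57 LD3_c37)) = (LP (LK LD1_c22 LD2_c42 LD3_c57)) :=
  Lgr Lrot5 (Lpr_ft (K33.f470106 IH) (Lpr_at (f471614 IH) (Lpr_gf (K34.f533348 IH) (Lpn (LP (LK LD1_c22 LD2_c42 LD3_c57))))))
theorem f462886 : Led Lsl_bt (LP (LK LD1_c7 LD2_c22 LD3_c59)) = (LP (LK LD1_c13 LD2_c57 LD3_c37)) :=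
  Lre_b IH (LK LD1_c7 LD2_c22 LD3_c59) (LK LD1_c13 LD2_c57 LD3_c37) Lrfl Lrfl
theorem f439418 : Led Lsl_bt (LP (LK LD1_c23 LD2_c26 LD3_c13)) = (LP (LK LD1_c13 LD2_c55 LD3_c30)) :=
  Lre_b IH (LK LD1_c23 LD2_c26 LD3_c13) (LK LD1_c13 LD2_c55 LD3_c30) Lrfl Lrfl
theorem f462604 : Led Lsl_ct (LP (LK LD1_c23 LD2_c26 LD3_c13)) = (LP (LK LD1_c31 LD2_c3 LD3_c4)) :=
  Lre_c IH (LK LD1_c23 LD2_c26 LD3_c13) (LK LD1_c31 LD2_c3 LD3_c4) Lrfl Lrfl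
theorem f535175 : Led Lsl_gf (LP (LK LD1_c31 LD2_c3 LD3_c4)) = (LP (LK LD1_c30 LD2_c40 LD3_c10)) :=
  Lgr Lrot129 (Lpe (f462604 IH) (Lpr_bt (f439418 IH) (Lpr_gt (f159689 IH) (Lpe (K39.f440455 IH) (Lpr_ct (K28.f129183 IH) (Lpr_gt (K28.f469517 IH) (Lpr_cf (K28.f462887 IH) (Lpr_bt (f462886 IH) (Lpr_gt (f533350 IH) (Lpr_ct (K39.f459210 IH) (Lpn (LP (LK LD1_c30 LD2_c40 LD3_c10)))))))))))))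
theorem f535177 : Led Lsl_gt (LP (LK LD1_c31 LD2_c3 LD3_c4)) = (LP (LK LD1_c23 LD2_c37 LD3_c6)) :=
  Lgr Lrot46 (Lpr_gf (f535175 IH) (Lpe (K37.f533369 IH) (Lpe (K37.f436345 IH) (Lpn (LP (LK LD1_c23 LD2_c37 LD3_c6))))))
theorem f535179 : Led Lsl_gf (LP (LK LD1_c23 LD2_c26 LD3_c13)) = (LP (LK LD1_c30 LD2_c41 LD3_c22)) :=
  Lgr Lrot147 (Lpr_ct (f462604 IH) (Lpr_gt (f535177 IH) (Lpr_ct (K37.f436343 IH) (Lpe (K34.f203585 IH) (Lpe (K7.f147811 IH) (Lpr_gf (K39.f533927 IH) (Lpe (f533961 IH) (Lpr_gf (f534425 IH) (Lpe (K34.f465875 IH) (Lpn (LP (LK LD1_c30 LD2_c41 LD3_c22))))))))))))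
theorem f532985 : Led Lsl_ff (LP (LK LD1_c23 LD2_c37 LD3_c5)) = (LP (LK LD1_c30 LD2_c41 LD3_c22)) :=
  Lgr Lrot25 (Lpe (K34.f147816 IH) (Lpr_ft (K34.f532983 IH) (Lpr_bt (K34.f473479 IH) (Lpn (LP (LK LD1_c30 LD2_c41 LD3_c22))))))
theorem f436386 : Led Lsl_at (LP (LK LD1_c23 LD2_c37 LD3_c5)) = (LP (LK LD1_c23 LD2_c24 LD3_c35)) :=
  Lgr Lrot100 (Lpr_af (K35.f436381 IH) (Lpn (LP (LK LD1_c23 LD2_c24 LD3_c35))))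
theorem f535181 : Led Lsl_gt (LP (LK LD1_c23 LD2_c26 LD3_c13)) = (LP (LK LD1_c23 LD2_c24 LD3_c35)) :=
  Lgr Lrot46 (Lpr_gf (f535179 IH) (Lpe (f532985 IH) (Lpr_at (f436386 IH) (Lpn (LP (LK LD1_c23 LD2_c24 LD3_c35))))))
theorem f146950 : Led Lsl_bt (LP (LK LD1_c13 LD2_c57 LD3_c61)) = (LP (LK LD1_c7 LD2_c23 LD3_c18)) :=
  Lre_b IH (LK LD1_c13 LD2_c57 LD3_c61) (LK LD1_c7 LD2_c23 LD3_c18) Lrfl Lrfl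
theorem f147273 : Led Lsl_ct (LP (LK LD1_c13 LD2_c57 LD3_c60)) = (LP (LK LD1_c7 LD2_c23 LD3_c10)) :=
  Lre_c IH (LK LD1_c13 LD2_c57 LD3_c60) (LK LD1_c7 LD2_c23 LD3_c10) Lrfl Lrfl
theorem f147277 : Led Lsl_ft (LP (LK LD1_c7 LD2_c23 LD3_c10)) = (LP (LK LD1_c13 LD2_c57 LD3_c61)) :=
  Lre_f IH (LK LD1_c7 LD2_c23 LD3_c10) (LK LD1_c13 LD2_c57 LD3_c61) Lrfl Lrfl
theorem f576590 : Led Lsl_cf (LP (LK LD1_c16 LD2_c31 LD3_c56)) = (LP (LK LD1_c13 LD2_c57 LD3_c61)) :=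
  Lgr Lrot108 (Lpr_ft (K43.f576584 IH) (Lpr_ct (f147273 IH) (Lpr_ft (f147277 IH) (Lpn (LP (LK LD1_c13 LD2_c57 LD3_c61))))))
theorem f607401 : Led Lsl_gf (LP (LK LD1_c21 LD2_c29 LD3_c17)) = (LP (LK LD1_c16 LD2_c31 LD3_c56)) :=
  Lgr Lrot126 (Lpr_cf (f607390 IH) (Lpr_bt (f462579 IH) (Lpr_gt (f535181 IH) (Lpr_ct (K35.f436392 IH) (Lpr_gt (K35.f533602 IH) (Lpe (K35.f147422 IH) (Lpr_bt (K34.f147419 IH) (Lpe (K34.f147417 IH) (Lpe (f146950 IH) (Lpe (f576590 IH) (Lpn (LP (LK LD1_c16 LD2_c31 LD3_c56)))))))))))))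
theorem f80424 : Led Lsl_dt (LP (LK LD1_c21 LD2_c29 LD3_c14)) = (LP (LK LD1_c30 LD2_c2 LD3_c42)) :=
  Lre_d IH (LK LD1_c21 LD2_c29 LD3_c14) (LK LD1_c30 LD2_c2 LD3_c42) Lrfl Lrfl
theorem f210855 : Led Lsl_gt (LP (LK LD1_c16 LD2_c24 LD3_c7)) = (LP (LK LD1_c8 LD2_c45 LD3_c55)) :=
  Lre_g IH (LK LD1_c16 LD2_c24 LD3_c7) (LK LD1_c8 LD2_c45 LD3_c55) Lrfl Lrfl
theorem f449027 : Led Lsl_ff (LP (LK LD1_c2 LD2_c17 LD3_c55)) = (LP (LK LD1_c1 LD2_c28 LD3_c12)) :=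
  Lgr Lrot23 (Lpr_ct (K38.f25951 IH) (Lpr_ft (K36.f449023 IH) (Lpe (K12.f210305 IH) (Lpn (LP (LK LD1_c1 LD2_c28 LD3_c12))))))
theorem f543013 : Led Lsl_df (LP (LK LD1_c3 LD2_c33 LD3_c35)) = (LP (LK LD1_c2 LD2_c17 LD3_c55)) :=
  Lgr Lrot78 (Lpr_ft (K37.f519714 IH) (Lpqs (K37.f543004 IH) (Lpr_dt (K36.f38052 IH) (Lpe (f449027 IH) (Lpn (LP (LK LD1_c2 LD2_c17 LD3_c55)))))))
theorem f522564 : Led Lsl_af (LP (LK LD1_c1 LD2_c46 LD3_c13)) = K39.v2476 :=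
  Lgr Lrot0 (Lpr_at (K39.f522563 IH) (Lpn K39.v2476))
theorem f522754 : Led Lsl_ff K39.v2476 = K37.v2487 :=
  Lgr Lrot30 (Lpe (f522564 IH) (Lpe (K28.f208961 IH) (Lpr_at (K37.f522751 IH) (Lpn K37.v2487))))
theorem f59140 : Led Lsl_ft (LP (LK LD1_c1 LD2_c28 LD3_c14)) = (LP (LK LD1_c3 LD2_c4 LD3_c32)) :=
  Lre_f IH (LK LD1_c1 LD2_c28 LD3_c14) (LK LD1_c3 LD2_c4 LD3_c32) Lrfl Lrfl
theorem f540380 : K39.v2476 = (LP (LK LD1_c3 LD2_c4 LD3_c32)) :=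
  Lefun (Lecon (Lfl_ff (f522754 IH)) (K37.f540328 IH)) (f59140 IH)
theorem f568086 : Led Lsl_gt (LP (LK LD1_c4 LD2_c24 LD3_c30)) = (LP (LK LD1_c7 LD2_c23 LD3_c6)) :=
  Lgr Lrot49 (Lpr_df (K39.f560156 IH) (Lpe (K8.f147312 IH) (Lpr_cf (K8.f147315 IH) (Lpr_gt (K39.f522567 IH) (Lpqs (f540380 IH) (Lpr_dt (K39.f59062 IH) (Lpe (K11.f205227 IH) (Lpe (f543013 IH) (Lpe (K8.f155664 IH) (Lpr_df (K42.f568071 IH) (Lpn (LP (LK LD1_c7 LD2_c23 LD3_c6)))))))))))))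
theorem f470267 : Led Lsl_et (LP (LK LD1_c22 LD2_c44 LD3_c27)) = (LP (LK LD1_c13 LD2_c25 LD3_c29)) :=
  Lre_e IH (LK LD1_c22 LD2_c44 LD3_c27) (LK LD1_c13 LD2_c25 LD3_c29) Lrfl Lrfl
theorem f568079 : Led Lsl_dt (LP (LK LD1_c3 LD2_c55 LD3_c2)) = (LP (LK LD1_c7 LD2_c23 LD3_c6)) :=
  Lgr Lrot42 (Lpr_df (K42.f568071 IH) (Lpn (LP (LK LD1_c7 LD2_c23 LD3_c6))))
theorem f482549 : Led Lsl_gt (LP (LK LD1_c13 LD2_c32 LD3_c55)) = (LP (LK LD1_c22 LD2_c55 LD3_c17)) :=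
  Lre_g IH (LK LD1_c13 LD2_c32 LD3_c55) (LK LD1_c22 LD2_c55 LD3_c17) Lrfl Lrfl
theorem f568111 : Led Lsl_dt (LP (LK LD1_c22 LD2_c44 LD3_c27)) = (LP (LK LD1_c22 LD2_c55 LD3_c17)) :=
  Lgr Lrot56 (Lpr_et (f470267 IH) (Lpr_gt (f470284 IH) (Lpe (K4.f116238 IH) (Lpe (K39.f560156 IH) (Lpr_gt (f568086 IH) (Lpe (f568079 IH) (Lpr_et (K8.f155652 IH) (Lpe (K34.f515797 IH) (Lpr_dt (K34.f482546 IH) (Lpr_gt (f482549 IH) (Lpn (LP (LK LD1_c22 LD2_c55 LD3_c17)))))))))))))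
theorem f469162 : Led Lsl_ef (LP (LK LD1_c7 LD2_c4 LD3_c57)) = (LP (LK LD1_c7 LD2_c23 LD3_c11)) :=
  Lgr Lrot29 (Lpr_bt (K33.f455758 IH) (Lpr_et (K28.f469160 IH) (Lpr_bt (K28.f146938 IH) (Lpn (LP (LK LD1_c7 LD2_c23 LD3_c11))))))
theorem f146951 : Led Lsl_at (LP (LK LD1_c23 LD2_c29 LD3_c41)) = (LP (LK LD1_c13 LD2_c57 LD3_c61)) :=
  Lre_a IH (LK LD1_c23 LD2_c29 LD3_c41) (LK LD1_c13 LD2_c57 LD3_c61) Lrfl Lrfl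
theorem f560411 : Led Lsl_gf (LP (LK LD1_c13 LD2_c57 LD3_c61)) = (LP (LK LD1_c21 LD2_c14 LD3_c15)) :=
  Lgr Lrot76 (Lpe (f146951 IH) (Lpe (K37.f147163 IH) (Lpr_gt (K39.f560409 IH) (Lpn (LP (LK LD1_c21 LD2_c14 LD3_c15))))))
theorem f543472 : Led Lsl_dt (LP (LK LD1_c12 LD2_c7 LD3_c56)) = (LP (LK LD1_c21 LD2_c14 LD3_c15)) :=
  Lre_d IH (LK LD1_c12 LD2_c7 LD3_c56) (LK LD1_c21 LD2_c14 LD3_c15) Lrfl Lrfl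
theorem f515472 : Led Lsl_gf (LP (LK LD1_c14 LD2_c47 LD3_c18)) = (LP (LK LD1_c22 LD2_c55 LD3_c17)) :=
  Lgr Lrot76 (Lpe (K40.f515461 IH) (Lpr_ff (K34.f515457 IH) (Lpr_gt (f482549 IH) (Lpn (LP (LK LD1_c22 LD2_c55 LD3_c17))))))
theorem f515477 : Led Lsl_dt (LP (LK LD1_c7 LD2_c50 LD3_c22)) = (LP (LK LD1_c14 LD2_c47 LD3_c18)) :=
  Lre_d IH (LK LD1_c7 LD2_c50 LD3_c22) (LK LD1_c14 LD2_c47 LD3_c18) Lrfl Lrfl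
theorem f515478 : Led Lsl_et (LP (LK LD1_c7 LD2_c50 LD3_c22)) = (LP (LK LD1_c14 LD2_c47 LD3_c19)) :=
  Lre_e IH (LK LD1_c7 LD2_c50 LD3_c22) (LK LD1_c14 LD2_c47 LD3_c19) Lrfl Lrfl
theorem f568121 : Led Lsl_gf (LP (LK LD1_c12 LD2_c7 LD3_c56)) = (LP (LK LD1_c14 LD2_c47 LD3_c19)) :=
  Lgr Lrot138 (Lpr_dt (f543472 IH) (Lpe (f560411 IH) (Lpe (K28.f147291 IH) (Lpe (f469162 IH) (Lpr_gt (K39.f469263 IH) (Lpe (f470267 IH) (Lpr_dt (f568111 IH) (Lpe (f515472 IH) (Lpe (f515477 IH) (Lpr_et (f515478 IH) (Lpn (LP (LK LD1_c14 LD2_c47 LD3_c19)))))))))))))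
theorem f80337 : Led Lsl_dt (LP (LK LD1_c8 LD2_c45 LD3_c55)) = (LP (LK LD1_c4 LD2_c24 LD3_c4)) :=
  Lre_d IH (LK LD1_c8 LD2_c45 LD3_c55) (LK LD1_c4 LD2_c24 LD3_c4) Lrfl Lrfl
theorem f568125 : Led Lsl_cf (LP (LK LD1_c16 LD2_c24 LD3_c7)) = (LP (LK LD1_c14 LD2_c47 LD3_c19)) :=
  Lgr Lrot166 (Lpr_gt (f210855 IH) (Lpr_dt (f80337 IH) (Lpr_gt (f210853 IH) (Lpr_dt (f544183 IH) (Lpr_ct (K28.f147275 IH) (Lpe (K43.f147292 IH) (Lpr_gf (f560411 IH) (Lpe (f543472 IH) (Lpr_gf (f568121 IH) (Lpn (LP (LK LD1_c14 LD2_c47 LD3_c19))))))))))))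
theorem f607150 : Led Lsl_ct (LP (LK LD1_c21 LD2_c29 LD3_c28)) = (LP (LK LD1_c13 LD2_c55 LD3_c29)) :=
  Lgr Lrot59 (Lpr_cf (f607080 IH) (Lpn (LP (LK LD1_c13 LD2_c55 LD3_c29))))
theorem f607392 : Led Lsl_gf (LP (LK LD1_c14 LD2_c47 LD3_c19)) = (LP (LK LD1_c12 LD2_c8 LD3_c4)) :=
  Lgr Lrot147 (Lpe (f568125 IH) (Lpr_gt (f210855 IH) (Lpr_ct (f607386 IH) (Lpe (f560547 IH) (Lpe (f607150 IH) (Lpr_gf (f607048 IH) (Lpe (K39.f147158 IH) (Lpr_gf (K39.f552952 IH) (Lpe (K39.f80520 IH) (Lpn (LP (LK LD1_c12 LD2_c8 LD3_c4))))))))))))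
theorem f568123 : Led Lsl_ct (LP (LK LD1_c16 LD2_c24 LD3_c7)) = (LP (LK LD1_c14 LD2_c47 LD3_c19)) :=
  Lgr Lrot8 (Lpr_gt (f210855 IH) (Lpr_dt (f80337 IH) (Lpr_gt (f210853 IH) (Lpr_dt (f544183 IH) (Lpr_cf (K28.f147289 IH) (Lpe (K43.f147292 IH) (Lpr_gf (f560411 IH) (Lpe (f543472 IH) (Lpr_gf (f568121 IH) (Lpn (LP (LK LD1_c14 LD2_c47 LD3_c19))))))))))))
theorem f568127 : Led Lsl_gt (LP (LK LD1_c8 LD2_c45 LD3_c58)) = (LP (LK LD1_c16 LD2_c24 LD3_c7)) :=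
  Lgr Lrot9 (Lpe (f81294 IH) (Lpr_gt (f35891 IH) (Lpr_ct (K43.f99270 IH) (Lpr_gt (K37.f80465 IH) (Lpr_ct (K37.f543452 IH) (Lpe (K39.f70738 IH) (Lpe (K39.f543475 IH) (Lpr_gf (f568121 IH) (Lpe (f568123 IH) (Lpn (LP (LK LD1_c16 LD2_c24 LD3_c7))))))))))))
theorem f59752 : Led Lsl_gt (LP (LK LD1_c21 LD2_c13 LD3_c2)) = (LP (LK LD1_c12 LD2_c6 LD3_c55)) :=
  Lre_g IH (LK LD1_c21 LD2_c13 LD3_c2) (LK LD1_c12 LD2_c6 LD3_c55) Lrfl Lrfl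
theorem f59757 : Led Lsl_ef (LP (LK LD1_c21 LD2_c13 LD3_c2)) = (LP (LK LD1_c12 LD2_c22 LD3_c45)) :=
  Lgr Lrot167 (Lpr_gt (f59752 IH) (Lpr_dt (K40.f59738 IH) (Lpr_gt (K40.f36792 IH) (Lpe (K40.f36862 IH) (Lpr_et (K37.f36648 IH) (Lpr_gt (K4.f59705 IH) (Lpe (K11.f59753 IH) (Lpr_dt (f59754 IH) (Lpr_gt (f59755 IH) (Lpe (f59756 IH) (Lpn (LP (LK LD1_c12 LD2_c22 LD3_c45)))))))))))))
theorem f445293 : Led Lsl_ct (LP (LK LD1_c16 LD2_c33 LD3_c3)) = (LP (LK LD1_c21 LD2_c28 LD3_c39)) :=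
  Lgr Lrot8 (Lpr_gt (K40.f445290 IH) (Lpr_dt (K37.f210919 IH) (Lpr_gt (K37.f38724 IH) (Lpr_dt (K37.f38723 IH) (Lpr_cf (K1.f38698 IH) (Lpe (K1.f16214 IH) (Lpe (K37.f16223 IH) (Lpr_df (K37.f443762 IH) (Lpe (K40.f443812 IH) (Lpn (LP (LK LD1_c21 LD2_c28 LD3_c39))))))))))))
theorem f16553 : Led Lsl_dt (LP (LK LD1_c4 LD2_c26 LD3_c40)) = (LP (LK LD1_c8 LD2_c50 LD3_c55)) :=
  Lre_d IH (LK LD1_c4 LD2_c26 LD3_c40) (LK LD1_c8 LD2_c50 LD3_c55) Lrfl Lrfl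
theorem f16455 : Led Lsl_gt (LP (LK LD1_c16 LD2_c32 LD3_c13)) = (LP (LK LD1_c8 LD2_c50 LD3_c52)) :=
  Lre_g IH (LK LD1_c16 LD2_c32 LD3_c13) (LK LD1_c8 LD2_c50 LD3_c52) Lrfl Lrfl
theorem f16456 : Led Lsl_ct (LP (LK LD1_c26 LD2_c28 LD3_c50)) = (LP (LK LD1_c16 LD2_c32 LD3_c13)) :=
  Lre_c IH (LK LD1_c26 LD2_c28 LD3_c50) (LK LD1_c16 LD2_c32 LD3_c13) Lrfl Lrfl
theorem f444973 : Led Lsl_gf (LP (LK LD1_c16 LD2_c32 LD3_c57)) = (LP (LK LD1_c26 LD2_c28 LD3_c50)) :=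
  Lgr Lrot144 (Lpr_dt (K40.f444964 IH) (Lpr_gt (K37.f16298 IH) (Lpe (K1.f16261 IH) (Lpe (K1.f16280 IH) (Lpe (K2.f16281 IH) (Lpr_gf (K2.f16452 IH) (Lpe (K40.f16454 IH) (Lpe (f16455 IH) (Lpe (f16456 IH) (Lpn (LP (LK LD1_c26 LD2_c28 LD3_c50))))))))))))
theorem f16457 : Led Lsl_ct (LP (LK LD1_c16 LD2_c32 LD3_c13)) = (LP (LK LD1_c26 LD2_c28 LD3_c50)) :=
  Lre_c IH (LK LD1_c16 LD2_c32 LD3_c13) (LK LD1_c26 LD2_c28 LD3_c50) Lrfl Lrfl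
theorem f444975 : Led Lsl_gt (LP (LK LD1_c8 LD2_c50 LD3_c55)) = (LP (LK LD1_c16 LD2_c32 LD3_c13)) :=
  Lgr Lrot9 (Lpe (f16553 IH) (Lpr_gt (K37.f16504 IH) (Lpr_ct (K1.f16330 IH) (Lpr_gt (K8.f69509 IH) (Lpr_ct (K37.f443772 IH) (Lpe (K37.f444884 IH) (Lpe (K37.f444949 IH) (Lpr_gf (f444973 IH) (Lpe (f16457 IH) (Lpn (LP (LK LD1_c16 LD2_c32 LD3_c13))))))))))))
theorem f445517 : Led Lsl_df (LP (LK LD1_c21 LD2_c28 LD3_c39)) = (LP (LK LD1_c16 LD2_c32 LD3_c13)) :=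
  Lgr Lrot84 (Lpe (f445293 IH) (Lpe (K40.f445028 IH) (Lpr_gf (K37.f445513 IH) (Lpe (K37.f101849 IH) (Lpr_gf (K37.f408062 IH) (Lpr_cf (K37.f38795 IH) (Lpr_gt (K37.f16551 IH) (Lpr_dt (f16553 IH) (Lpr_gt (f444975 IH) (Lpn (LP (LK LD1_c16 LD2_c32 LD3_c13))))))))))))
theorem f16580 : Led Lsl_ct (LP (LK LD1_c8 LD2_c50 LD3_c58)) = (LP (LK LD1_c16 LD2_c32 LD3_c29)) :=
  Lre_c IH (LK LD1_c8 LD2_c50 LD3_c58) (LK LD1_c16 LD2_c32 LD3_c29) Lrfl Lrfl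
theorem f70626 : Led Lsl_gt (LP (LK LD1_c16 LD2_c32 LD3_c29)) = (LP (LK LD1_c12 LD2_c6 LD3_c0)) :=
  Lgr Lrot150 (Lpe (f16580 IH) (Lpe (K2.f16578 IH) (Lpe (K2.f16281 IH) (Lpr_gt (K37.f16551 IH) (Lpr_ct (K37.f70607 IH) (Lpr_gt (K37.f30104 IH) (Lpe (K37.f36815 IH) (Lpe (K1.f36786 IH) (Lpe (K1.f36795 IH) (Lpn (LP (LK LD1_c12 LD2_c6 LD3_c0))))))))))))
theorem f70633 : Led Lsl_ct (LP (LK LD1_c16 LD2_c32 LD3_c14)) = (LP (LK LD1_c8 LD2_c50 LD3_c52)) :=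
  Lre_c IH (LK LD1_c16 LD2_c32 LD3_c14) (LK LD1_c8 LD2_c50 LD3_c52) Lrfl Lrfl
theorem f445237 : Led Lsl_dt (LP (LK LD1_c26 LD2_c21 LD3_c2)) = (LP (LK LD1_c16 LD2_c32 LD3_c14)) :=
  Lgr Lrot105 (Lpr_gf (K40.f445231 IH) (Lpe (K40.f36807 IH) (Lpe (f70626 IH) (Lpe (f16580 IH) (Lpr_gt (K2.f16577 IH) (Lpr_dt (K1.f16331 IH) (Lpr_gt (K2.f16451 IH) (Lpr_dt (K40.f16458 IH) (Lpe (f70633 IH) (Lpn (LP (LK LD1_c16 LD2_c32 LD3_c14))))))))))))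
theorem f443783 : Led Lsl_ct (LP (LK LD1_c16 LD2_c23 LD3_c1)) = (LP (LK LD1_c26 LD2_c21 LD3_c2)) :=
  Lre_c IH (LK LD1_c16 LD2_c23 LD3_c1) (LK LD1_c26 LD2_c21 LD3_c2) Lrfl Lrfl
theorem f445151 : Led Lsl_gt (LP (LK LD1_c24 LD2_c46 LD3_c50)) = (LP (LK LD1_c16 LD2_c23 LD3_c1)) :=
  Lgr Lrot189 (Lpe (K1.f38792 IH) (Lpr_gf (K37.f38831 IH) (Lpr_ct (K37.f445141 IH) (Lpr_gt (K40.f29970 IH) (Lpr_dt (K37.f29931 IH) (Lpe (K37.f30105 IH) (Lpr_dt (K40.f30107 IH) (Lpr_ct (K40.f30108 IH) (Lpr_df (K40.f443794 IH) (Lpn (LP (LK LD1_c16 LD2_c23 LD3_c1))))))))))))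
theorem f70632 : Led Lsl_ct (LP (LK LD1_c8 LD2_c50 LD3_c52)) = (LP (LK LD1_c16 LD2_c32 LD3_c14)) :=
  Lre_c IH (LK LD1_c8 LD2_c50 LD3_c52) (LK LD1_c16 LD2_c32 LD3_c14) Lrfl Lrfl
theorem f445253 : Led Lsl_gt (LP (LK LD1_c16 LD2_c33 LD3_c23)) = (LP (LK LD1_c26 LD2_c28 LD3_c50)) :=
  Lgr Lrot146 (Lpe (K40.f444970 IH) (Lpr_gt (K37.f16502 IH) (Lpe (K37.f38776 IH) (Lpr_gt (f445151 IH) (Lpr_ct (f443783 IH) (Lpr_dt (f445237 IH) (Lpe (f70632 IH) (Lpe (f16455 IH) (Lpe (f16456 IH) (Lpn (LP (LK LD1_c26 LD2_c28 LD3_c50))))))))))))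
theorem f445524 : Led Lsl_gf (LP (LK LD1_c16 LD2_c33 LD3_c3)) = (LP (LK LD1_c14 LD2_c59 LD3_c18)) :=
  Lgr Lrot104 (Lpr_ct (f445293 IH) (Lpr_df (f445517 IH) (Lpe (f16456 IH) (Lpe (f445253 IH) (Lpe (K40.f101846 IH) (Lpr_gf (K40.f418081 IH) (Lpe (K40.f34751 IH) (Lpr_gt (K40.f418085 IH) (Lpr_ct (K40.f445330 IH) (Lpn (LP (LK LD1_c14 LD2_c59 LD3_c18))))))))))))
theorem f444875 : Led Lsl_gt (LP (LK LD1_c16 LD2_c32 LD3_c56)) = (LP (LK LD1_c8 LD2_c51 LD3_c5)) :=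
  Lre_g IH (LK LD1_c16 LD2_c32 LD3_c56) (LK LD1_c8 LD2_c51 LD3_c5) Lrfl Lrfl
theorem f445250 : Led Lsl_df (LP (LK LD1_c26 LD2_c21 LD3_c2)) = (LP (LK LD1_c16 LD2_c32 LD3_c14)) :=
  Lgr Lrot38 (Lpr_dt (f445237 IH) (Lpn (LP (LK LD1_c16 LD2_c32 LD3_c14))))
theorem f16555 : Led Lsl_ct (LP (LK LD1_c8 LD2_c50 LD3_c55)) = (LP (LK LD1_c16 LD2_c32 LD3_c23)) :=
  Lre_c IH (LK LD1_c8 LD2_c50 LD3_c55) (LK LD1_c16 LD2_c32 LD3_c23) Lrfl Lrfl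
theorem f30124 : Led Lsl_dt (LP (LK LD1_c8 LD2_c1 LD3_c22)) = (LP (LK LD1_c4 LD2_c0 LD3_c11)) :=
  Lre_d IH (LK LD1_c8 LD2_c1 LD3_c22) (LK LD1_c4 LD2_c0 LD3_c11) Lrfl Lrfl
theorem f70666 : Led Lsl_ct (LP (LK LD1_c26 LD2_c21 LD3_c0)) = (LP (LK LD1_c16 LD2_c23 LD3_c0)) :=
  Lre_c IH (LK LD1_c26 LD2_c21 LD3_c0) (LK LD1_c16 LD2_c23 LD3_c0) Lrfl Lrfl
theorem f445255 : Led Lsl_dt (LP (LK LD1_c16 LD2_c32 LD3_c23)) = (LP (LK LD1_c26 LD2_c21 LD3_c0)) :=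
  Lgr Lrot173 (Lpe (f16555 IH) (Lpe (f16553 IH) (Lpr_cf (K37.f70622 IH) (Lpe (K40.f30114 IH) (Lpe (K40.f30109 IH) (Lpr_df (K40.f443794 IH) (Lpe (K40.f16294 IH) (Lpr_df (f445250 IH) (Lpe (f70632 IH) (Lpe (K40.f16458 IH) (Lpr_cf (K37.f445170 IH) (Lpe (f30124 IH) (Lpe (K37.f35855 IH) (Lpe (K37.f70657 IH) (Lpe (f70666 IH) (Lpn (LP (LK LD1_c26 LD2_c21 LD3_c0))))))))))))))))))
theorem f408093 : Led Lsl_ct (LP (LK LD1_c26 LD2_c25 LD3_c9)) = (LP (LK LD1_c16 LD2_c27 LD3_c57)) :=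
  Lre_c IH (LK LD1_c26 LD2_c25 LD3_c9) (LK LD1_c16 LD2_c27 LD3_c57) Lrfl Lrfl
theorem f70675 : Led Lsl_ct (LP (LK LD1_c16 LD2_c23 LD3_c0)) = (LP (LK LD1_c26 LD2_c21 LD3_c0)) :=
  Lre_c IH (LK LD1_c16 LD2_c23 LD3_c0) (LK LD1_c26 LD2_c21 LD3_c0) Lrfl Lrfl
theorem f445262 : Led Lsl_gf (LP (LK LD1_c26 LD2_c25 LD3_c9)) = (LP (LK LD1_c16 LD2_c32 LD3_c57)) :=
  Lgr Lrot179 (Lpr_ct (f408093 IH) (Lpe (K40.f444983 IH) (Lpr_ct (f16555 IH) (Lpr_dt (f445255 IH) (Lpe (f70675 IH) (Lpe (K37.f39441 IH) (Lpe (K1.f16245 IH) (Lpe (K37.f16298 IH) (Lpe (K37.f444959 IH) (Lpn (LP (LK LD1_c16 LD2_c32 LD3_c57))))))))))))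
theorem f408080 : Led Lsl_dt (LP (LK LD1_c16 LD2_c27 LD3_c57)) = (LP (LK LD1_c8 LD2_c47 LD3_c55)) :=
  Lre_d IH (LK LD1_c16 LD2_c27 LD3_c57) (LK LD1_c8 LD2_c47 LD3_c55) Lrfl Lrfl
theorem f445265 : Led Lsl_dt (LP (LK LD1_c21 LD2_c13 LD3_c2)) = (LP (LK LD1_c16 LD2_c32 LD3_c56)) :=
  Lgr Lrot6 (Lpr_gt (f59752 IH) (Lpe (K40.f445214 IH) (Lpr_gt (K37.f241149 IH) (Lpe (K37.f408082 IH) (Lpe (f408080 IH) (Lpe (f408093 IH) (Lpr_gf (f445262 IH) (Lpe (K37.f444950 IH) (Lpe (f444875 IH) (Lpn (LP (LK LD1_c16 LD2_c32 LD3_c56))))))))))))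
theorem f445538 : Led Lsl_gf (LP (LK LD1_c21 LD2_c13 LD3_c2)) = (LP (LK LD1_c16 LD2_c25 LD3_c51)) :=
  Lgr Lrot144 (Lpr_dt (f445265 IH) (Lpr_gt (f444875 IH) (Lpr_dt (K37.f444884 IH) (Lpe (K37.f443772 IH) (Lpe (K37.f69525 IH) (Lpe (K37.f69628 IH) (Lpe (K37.f421111 IH) (Lpr_gf (f445524 IH) (Lpe (K40.f445330 IH) (Lpn (LP (LK LD1_c16 LD2_c25 LD3_c51))))))))))))
theorem f445347 : Led Lsl_dt (LP (LK LD1_c16 LD2_c25 LD3_c51)) = (LP (LK LD1_c12 LD2_c5 LD3_c60)) :=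
  Lgr Lrot42 (Lpr_df (K40.f445345 IH) (Lpn (LP (LK LD1_c12 LD2_c5 LD3_c60))))
theorem f37356 : Led Lsl_et (LP (LK LD1_c4 LD2_c58 LD3_c0)) = (LP (LK LD1_c9 LD2_c46 LD3_c57)) :=
  Lre_e IH (LK LD1_c4 LD2_c58 LD3_c0) (LK LD1_c9 LD2_c46 LD3_c57) Lrfl Lrfl
theorem f37357 : Led Lsl_gt (LP (LK LD1_c17 LD2_c57 LD3_c0)) = (LP (LK LD1_c9 LD2_c46 LD3_c57)) :=
  Lre_g IH (LK LD1_c17 LD2_c57 LD3_c0) (LK LD1_c9 LD2_c46 LD3_c57) Lrfl Lrfl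
theorem f445444 : Led Lsl_et (LP (LK LD1_c16 LD2_c25 LD3_c51)) = (LP (LK LD1_c17 LD2_c57 LD3_c0)) :=
  Lgr Lrot185 (Lpr_dt (f445347 IH) (Lpe (K40.f37355 IH) (Lpe (K40.f36862 IH) (Lpe (K37.f36822 IH) (Lpe (K37.f37337 IH) (Lpr_dt (K37.f37340 IH) (Lpe (K37.f37339 IH) (Lpe (K37.f37338 IH) (Lpr_et (f37356 IH) (Lpe (f37357 IH) (Lpn (LP (LK LD1_c17 LD2_c57 LD3_c0)))))))))))))
theorem f445446 : Led Lsl_ef (LP (LK LD1_c16 LD2_c25 LD3_c51)) = (LP (LK LD1_c17 LD2_c57 LD3_c0)) :=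
  Lgr Lrot88 (Lpr_et (f445444 IH) (Lpn (LP (LK LD1_c17 LD2_c57 LD3_c0))))
theorem f568129 : Led Lsl_dt (LP (LK LD1_c17 LD2_c57 LD3_c0)) = (LP (LK LD1_c16 LD2_c24 LD3_c7)) :=
  Lgr Lrot56 (Lpe (f445446 IH) (Lpe (f445538 IH) (Lpr_ef (f59757 IH) (Lpr_dt (f59756 IH) (Lpe (f205544 IH) (Lpe (K37.f75722 IH) (Lpr_et (K37.f210837 IH) (Lpr_gt (f420666 IH) (Lpr_dt (f81294 IH) (Lpr_gt (f568127 IH) (Lpn (LP (LK LD1_c16 LD2_c24 LD3_c7)))))))))))))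
theorem f568147 : Led Lsl_ef (LP (LK LD1_c12 LD2_c8 LD3_c38)) = (LP (LK LD1_c16 LD2_c24 LD3_c7)) :=
  Lgr Lrot73 (Lpe (K40.f418451 IH) (Lpr_et (K40.f198451 IH) (Lpe (K40.f445345 IH) (Lpr_et (f445444 IH) (Lpr_dt (f568129 IH) (Lpn (LP (LK LD1_c16 LD2_c24 LD3_c7))))))))
theorem f147279 : Led Lsl_dt (LP (LK LD1_c7 LD2_c5 LD3_c39)) = (LP (LK LD1_c13 LD2_c26 LD3_c40)) :=
  Lre_d IH (LK LD1_c7 LD2_c5 LD3_c39) (LK LD1_c13 LD2_c26 LD3_c40) Lrfl Lrfl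
theorem f568145 : Led Lsl_df (LP (LK LD1_c17 LD2_c57 LD3_c0)) = (LP (LK LD1_c16 LD2_c24 LD3_c7)) :=
  Lgr Lrot38 (Lpr_dt (f568129 IH) (Lpn (LP (LK LD1_c16 LD2_c24 LD3_c7))))
theorem f568155 : Led Lsl_gt (LP (LK LD1_c13 LD2_c26 LD3_c40)) = (LP (LK LD1_c17 LD2_c57 LD3_c0)) :=
  Lgr Lrot139 (Lpe (f147279 IH) (Lpe (K37.f147278 IH) (Lpe (K24.f108268 IH) (Lpr_dt (K40.f514727 IH) (Lpqs (K40.f540330 IH) (Lpe (K13.f239180 IH) (Lpe (K37.f182403 IH) (Lpr_et (K40.f239196 IH) (Lpe (K40.f239197 IH) (Lpr_ef (f568147 IH) (Lpe (f568145 IH) (Lpn (LP (LK LD1_c17 LD2_c57 LD3_c0))))))))))))))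
theorem f147281 : Led Lsl_dt (LP (LK LD1_c7 LD2_c23 LD3_c8)) = (LP (LK LD1_c13 LD2_c57 LD3_c55)) :=
  Lre_d IH (LK LD1_c7 LD2_c23 LD3_c8) (LK LD1_c13 LD2_c57 LD3_c55) Lrfl Lrfl
theorem f147282 : Led Lsl_gt (LP (LK LD1_c13 LD2_c57 LD3_c55)) = (LP (LK LD1_c23 LD2_c29 LD3_c52)) :=
  Lre_g IH (LK LD1_c13 LD2_c57 LD3_c55) (LK LD1_c23 LD2_c29 LD3_c52) Lrfl Lrfl
theorem f568157 : Led Lsl_dt (LP (LK LD1_c23 LD2_c29 LD3_c52)) = (LP (LK LD1_c14 LD2_c47 LD3_c19)) :=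
  Lgr Lrot105 (Lpe (f147282 IH) (Lpe (f147281 IH) (Lpe (K35.f147280 IH) (Lpe (K37.f147270 IH) (Lpr_gt (K37.f147278 IH) (Lpr_dt (f147279 IH) (Lpr_gt (f568155 IH) (Lpr_dt (f568129 IH) (Lpr_cf (f568125 IH) (Lpn (LP (LK LD1_c14 LD2_c47 LD3_c19))))))))))))
theorem f568163 : Led Lsl_df (LP (LK LD1_c23 LD2_c29 LD3_c52)) = (LP (LK LD1_c14 LD2_c47 LD3_c19)) :=
  Lgr Lrot38 (Lpr_dt (f568157 IH) (Lpn (LP (LK LD1_c14 LD2_c47 LD3_c19))))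
theorem f607405 : Led Lsl_cf (LP (LK LD1_c30 LD2_c2 LD3_c42)) = (LP (LK LD1_c23 LD2_c29 LD3_c52)) :=
  Lgr Lrot14 (Lpe (f80424 IH) (Lpe (f80423 IH) (Lpe (f607053 IH) (Lpr_gf (f607401 IH) (Lpr_ct (K43.f544193 IH) (Lpr_gt (K43.f552954 IH) (Lpr_dt (K39.f80494 IH) (Lpe (f607392 IH) (Lpe (f568163 IH) (Lpn (LP (LK LD1_c23 LD2_c29 LD3_c52))))))))))))
theorem f515888 : Led Lsl_at (LP (LK LD1_c14 LD2_c47 LD3_c19)) = (LP (LK LD1_c7 LD2_c50 LD3_c24)) :=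
  Lre_a IH (LK LD1_c14 LD2_c47 LD3_c19) (LK LD1_c7 LD2_c50 LD3_c24) Lrfl Lrfl
theorem f489330 : Led Lsl_dt (LP (LK LD1_c7 LD2_c50 LD3_c24)) = (LP (LK LD1_c14 LD2_c47 LD3_c26)) :=
  Lre_d IH (LK LD1_c7 LD2_c50 LD3_c24) (LK LD1_c14 LD2_c47 LD3_c26) Lrfl Lrfl
theorem f568159 : Led Lsl_af (LP (LK LD1_c23 LD2_c29 LD3_c52)) = (LP (LK LD1_c14 LD2_c47 LD3_c26)) :=
  Lgr Lrot117 (Lpr_dt (f568157 IH) (Lpr_at (f515888 IH) (Lpr_dt (f489330 IH) (Lpn (LP (LK LD1_c14 LD2_c47 LD3_c26))))))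
theorem f466094 : Led Lsl_ct (LP (LK LD1_c24 LD2_c33 LD3_c48)) = (LP (LK LD1_c14 LD2_c47 LD3_c26)) :=
  Lre_c IH (LK LD1_c24 LD2_c33 LD3_c48) (LK LD1_c14 LD2_c47 LD3_c26) Lrfl Lrfl
theorem f607410 : Led Lsl_at (LP (LK LD1_c30 LD2_c2 LD3_c42)) = (LP (LK LD1_c24 LD2_c33 LD3_c48)) :=
  Lgr Lrot107 (Lpr_cf (f607405 IH) (Lpr_af (f568159 IH) (Lpe (f466094 IH) (Lpn (LP (LK LD1_c24 LD2_c33 LD3_c48))))))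
theorem f607412 : Led Lsl_af (LP (LK LD1_c30 LD2_c2 LD3_c42)) = (LP (LK LD1_c24 LD2_c33 LD3_c48)) :=
  Lgr Lrot0 (Lpr_at (f607410 IH) (Lpn (LP (LK LD1_c24 LD2_c33 LD3_c48))))
theorem f607712 : Led Lsl_df (LP (LK LD1_c24 LD2_c33 LD3_c48)) = (LP (LK LD1_c26 LD2_c22 LD3_c38)) :=
  Lgr Lrot18 (Lpe (f607412 IH) (Lpr_dt (f607409 IH) (Lpr_at (f607706 IH) (Lpn (LP (LK LD1_c26 LD2_c22 LD3_c38))))))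
theorem f607166 : Led Lsl_gt (LP (LK LD1_c14 LD2_c47 LD3_c25)) = (LP (LK LD1_c7 LD2_c50 LD3_c24)) :=
  Lre_g IH (LK LD1_c14 LD2_c47 LD3_c25) (LK LD1_c7 LD2_c50 LD3_c24) Lrfl Lrfl
theorem f147413 : Led Lsl_gt (LP (LK LD1_c23 LD2_c29 LD3_c41)) = (LP (LK LD1_c13 LD2_c57 LD3_c59)) :=
  Lre_g IH (LK LD1_c23 LD2_c29 LD3_c41) (LK LD1_c13 LD2_c57 LD3_c59) Lrfl Lrfl
theorem f607718 : Led Lsl_df (LP (LK LD1_c14 LD2_c47 LD3_c25)) = (LP (LK LD1_c13 LD2_c57 LD3_c59)) :=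
  Lgr Lrot153 (Lpr_gt (f607166 IH) (Lpr_dt (f489330 IH) (Lpe (f466094 IH) (Lpr_df (f607712 IH) (Lpe (f70255 IH) (Lpe (K43.f560374 IH) (Lpe (K43.f560348 IH) (Lpr_cf (K43.f560341 IH) (Lpr_gt (f147413 IH) (Lpn (LP (LK LD1_c13 LD2_c57 LD3_c59))))))))))))
theorem f75724 : Led Lsl_dt (LP (LK LD1_c6 LD2_c14 LD3_c58)) = (LP (LK LD1_c3 LD2_c4 LD3_c23)) :=
  Lre_d IH (LK LD1_c6 LD2_c14 LD3_c58) (LK LD1_c3 LD2_c4 LD3_c23) Lrfl Lrfl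
theorem f75731 : Led Lsl_gt (LP (LK LD1_c3 LD2_c4 LD3_c23)) = (LP (LK LD1_c6 LD2_c13 LD3_c53)) :=
  Lre_g IH (LK LD1_c3 LD2_c4 LD3_c23) (LK LD1_c6 LD2_c13 LD3_c53) Lrfl Lrfl
theorem f75732 : Led Lsl_dt (LP (LK LD1_c6 LD2_c13 LD3_c53)) = (LP (LK LD1_c12 LD2_c6 LD3_c23)) :=
  Lre_d IH (LK LD1_c6 LD2_c13 LD3_c53) (LK LD1_c12 LD2_c6 LD3_c23) Lrfl Lrfl
theorem f607759 : Led Lsl_cf (LP (LK LD1_c14 LD2_c47 LD3_c25)) = (LP (LK LD1_c12 LD2_c6 LD3_c23)) :=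
  Lgr Lrot14 (Lpr_df (f607718 IH) (Lpe (f147413 IH) (Lpe (K37.f147169 IH) (Lpe (K37.f147178 IH) (Lpr_ct (K35.f533540 IH) (Lpe (K37.f543374 IH) (Lpr_dt (f75724 IH) (Lpr_gt (f75731 IH) (Lpr_dt (f75732 IH) (Lpn (LP (LK LD1_c12 LD2_c6 LD3_c23))))))))))))
theorem f445542 : Led Lsl_et (LP (LK LD1_c8 LD2_c51 LD3_c8)) = (LP (LK LD1_c14 LD2_c58 LD3_c39)) :=
  Lgr Lrot185 (Lpr_dt (K40.f445028 IH) (Lpr_gf (f445524 IH) (Lpe (K40.f38864 IH) (Lpe (K37.f38858 IH) (Lpe (K1.f39887 IH) (Lpr_dt (K11.f39256 IH) (Lpe (K12.f173355 IH) (Lpe (K13.f181321 IH) (Lpr_et (K39.f181328 IH) (Lpe (K41.f181385 IH) (Lpn (LP (LK LD1_c14 LD2_c58 LD3_c39)))))))))))))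
theorem f445544 : Led Lsl_ef (LP (LK LD1_c8 LD2_c51 LD3_c8)) = (LP (LK LD1_c14 LD2_c58 LD3_c39)) :=
  Lgr Lrot88 (Lpr_et (f445542 IH) (Lpn (LP (LK LD1_c14 LD2_c58 LD3_c39))))
theorem f533547 : Led Lsl_et (LP (LK LD1_c7 LD2_c19 LD3_c7)) = (LP (LK LD1_c13 LD2_c50 LD3_c42)) :=
  Lre_e IH (LK LD1_c7 LD2_c19 LD3_c7) (LK LD1_c13 LD2_c50 LD3_c42) Lrfl Lrfl
theorem f543368 : Led Lsl_df (LP (LK LD1_c14 LD2_c58 LD3_c39)) = (LP (LK LD1_c13 LD2_c50 LD3_c42)) :=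
  Lgr Lrot70 (Lpe (f445544 IH) (Lpr_dt (K40.f445028 IH) (Lpr_et (K37.f543366 IH) (Lpr_dt (K37.f533550 IH) (Lpr_et (f533547 IH) (Lpn (LP (LK LD1_c13 LD2_c50 LD3_c42))))))))
theorem f514962 : Led Lsl_et (LP (LK LD1_c13 LD2_c50 LD3_c42)) = (LP (LK LD1_c7 LD2_c19 LD3_c7)) :=
  Lre_e IH (LK LD1_c13 LD2_c50 LD3_c42) (LK LD1_c7 LD2_c19 LD3_c7) Lrfl Lrfl
theorem f420660 : Led Lsl_dt (LP (LK LD1_c12 LD2_c6 LD3_c23)) = (LP (LK LD1_c6 LD2_c13 LD3_c53)) :=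
  Lre_d IH (LK LD1_c12 LD2_c6 LD3_c23) (LK LD1_c6 LD2_c13 LD3_c53) Lrfl Lrfl
theorem f553267 : Led Lsl_et (LP (LK LD1_c12 LD2_c6 LD3_c23)) = (LP (LK LD1_c13 LD2_c14 LD3_c32)) :=
  Lgr Lrot185 (Lpr_dt (f420660 IH) (Lpe (f75731 IH) (Lpe (f75724 IH) (Lpr_gf (K37.f543374 IH) (Lpe (f514962 IH) (Lpe (f543368 IH) (Lpe (K41.f411539 IH) (Lpr_df (K39.f553011 IH) (Lpe (K29.f470559 IH) (Lpe (K41.f470540 IH) (Lpn (LP (LK LD1_c13 LD2_c14 LD3_c32)))))))))))))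
theorem f553271 : Led Lsl_ef (LP (LK LD1_c12 LD2_c6 LD3_c23)) = (LP (LK LD1_c13 LD2_c14 LD3_c32)) :=
  Lgr Lrot88 (Lpr_et (f553267 IH) (Lpn (LP (LK LD1_c13 LD2_c14 LD3_c32))))
theorem f607762 : Led Lsl_et (LP (LK LD1_c14 LD2_c47 LD3_c25)) = (LP (LK LD1_c14 LD2_c49 LD3_c33)) :=
  Lgr Lrot158 (Lpr_cf (f607759 IH) (Lpr_ef (f553271 IH) (Lpr_cf (K41.f470544 IH) (Lpn (LP (LK LD1_c14 LD2_c49 LD3_c33))))))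
theorem f607790 : Led Lsl_ef (LP (LK LD1_c14 LD2_c47 LD3_c25)) = (LP (LK LD1_c14 LD2_c49 LD3_c33)) :=
  Lgr Lrot88 (Lpr_et (f607762 IH) (Lpn (LP (LK LD1_c14 LD2_c49 LD3_c33))))
theorem f470547 : Led Lsl_bt (LP (LK LD1_c7 LD2_c51 LD3_c38)) = (LP (LK LD1_c14 LD2_c49 LD3_c33)) :=
  Lre_b IH (LK LD1_c7 LD2_c51 LD3_c38) (LK LD1_c14 LD2_c49 LD3_c33) Lrfl Lrfl
theorem f121196 : Led Lsl_et (LP (LK LD1_c14 LD2_c49 LD3_c35)) = (LP (LK LD1_c7 LD2_c51 LD3_c38)) :=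
  Lre_e IH (LK LD1_c14 LD2_c49 LD3_c35) (LK LD1_c7 LD2_c51 LD3_c38) Lrfl Lrfl
theorem f607792 : Led Lsl_bt (LP (LK LD1_c14 LD2_c47 LD3_c25)) = (LP (LK LD1_c14 LD2_c49 LD3_c35)) :=
  Lgr Lrot119 (Lpr_ef (f607790 IH) (Lpe (f470547 IH) (Lpe (f121196 IH) (Lpn (LP (LK LD1_c14 LD2_c49 LD3_c35))))))
theorem f607757 : Led Lsl_ct (LP (LK LD1_c14 LD2_c47 LD3_c25)) = (LP (LK LD1_c12 LD2_c6 LD3_c23)) :=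
  Lgr Lrot7 (Lpr_df (f607718 IH) (Lpe (f147413 IH) (Lpe (K37.f147169 IH) (Lpe (K37.f147178 IH) (Lpr_cf (K35.f533544 IH) (Lpe (K37.f543374 IH) (Lpr_dt (f75724 IH) (Lpr_gt (f75731 IH) (Lpr_dt (f75732 IH) (Lpn (LP (LK LD1_c12 LD2_c6 LD3_c23))))))))))))
theorem f81304 : Led Lsl_dt (LP (LK LD1_c12 LD2_c22 LD3_c44)) = (LP (LK LD1_c21 LD2_c29 LD3_c33)) :=
  Lre_d IH (LK LD1_c12 LD2_c22 LD3_c44) (LK LD1_c21 LD2_c29 LD3_c33) Lrfl Lrfl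
theorem f439417 : Led Lsl_dt (LP (LK LD1_c7 LD2_c21 LD3_c53)) = (LP (LK LD1_c13 LD2_c55 LD3_c27)) :=
  Lre_d IH (LK LD1_c7 LD2_c21 LD3_c53) (LK LD1_c13 LD2_c55 LD3_c27) Lrfl Lrfl
theorem f607155 : Led Lsl_ct (LP (LK LD1_c21 LD2_c29 LD3_c33)) = (LP (LK LD1_c13 LD2_c55 LD3_c27)) :=
  Lgr Lrot7 (Lpe (f81304 IH) (Lpr_gf (f607041 IH) (Lpe (K43.f99310 IH) (Lpe (f607076 IH) (Lpr_cf (f607080 IH) (Lpr_gt (K43.f560426 IH) (Lpr_dt (K43.f75726 IH) (Lpr_gt (f543545 IH) (Lpr_dt (f439417 IH) (Lpn (LP (LK LD1_c13 LD2_c55 LD3_c27))))))))))))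
theorem f607158 : Led Lsl_cf (LP (LK LD1_c21 LD2_c29 LD3_c33)) = (LP (LK LD1_c13 LD2_c55 LD3_c27)) :=
  Lgr Lrot11 (Lpr_ct (f607155 IH) (Lpn (LP (LK LD1_c13 LD2_c55 LD3_c27))))
theorem f534465 : Led Lsl_bt (LP (LK LD1_c13 LD2_c55 LD3_c27)) = (LP (LK LD1_c23 LD2_c26 LD3_c10)) :=
  Lre_b IH (LK LD1_c13 LD2_c55 LD3_c27) (LK LD1_c23 LD2_c26 LD3_c10) Lrfl Lrfl
theorem f534430 : Led Lsl_gt (LP (LK LD1_c23 LD2_c26 LD3_c10)) = (LP (LK LD1_c31 LD2_c3 LD3_c0)) :=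
  Lre_g IH (LK LD1_c23 LD2_c26 LD3_c10) (LK LD1_c31 LD2_c3 LD3_c0) Lrfl Lrfl
theorem f534429 : Led Lsl_dt (LP (LK LD1_c13 LD2_c55 LD3_c26)) = (LP (LK LD1_c23 LD2_c26 LD3_c10)) :=
  Lre_d IH (LK LD1_c13 LD2_c55 LD3_c26) (LK LD1_c23 LD2_c26 LD3_c10) Lrfl Lrfl
theorem f459139 : Led Lsl_ft (LP (LK LD1_c22 LD2_c44 LD3_c18)) = (LP (LK LD1_c22 LD2_c42 LD3_c60)) :=
  Lgr Lrot48 (Lpr_ff (K34.f459129 IH) (Lpn (LP (LK LD1_c22 LD2_c42 LD3_c60))))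
theorem f465852 : Led Lsl_af (LP (LK LD1_c23 LD2_c39 LD3_c45)) = (LP (LK LD1_c22 LD2_c42 LD3_c60)) :=
  Lgr Lrot109 (Lpe (K34.f463557 IH) (Lpe (K34.f465845 IH) (Lpe (K34.f465846 IH) (Lpe (K34.f463651 IH) (Lpe (K34.f463555 IH) (Lpe (K34.f463556 IH) (Lpr_cf (K34.f465840 IH) (Lpe (K34.f459134 IH) (Lpr_ft (f459139 IH) (Lpn (LP (LK LD1_c22 LD2_c42 LD3_c60))))))))))))
theorem f459149 : Led Lsl_gt (LP (LK LD1_c22 LD2_c44 LD3_c18)) = (LP (LK LD1_c30 LD2_c41 LD3_c29)) :=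
  Lre_g IH (LK LD1_c22 LD2_c44 LD3_c18) (LK LD1_c30 LD2_c41 LD3_c29) Lrfl Lrfl
theorem f465859 : Led Lsl_gf (LP (LK LD1_c23 LD2_c39 LD3_c45)) = (LP (LK LD1_c30 LD2_c41 LD3_c29)) :=
  Lgr Lrot76 (Lpr_af (f465852 IH) (Lpe (f459139 IH) (Lpr_gt (f459149 IH) (Lpn (LP (LK LD1_c30 LD2_c41 LD3_c29))))))
theorem f534436 : Led Lsl_ct (LP (LK LD1_c31 LD2_c3 LD3_c0)) = (LP (LK LD1_c30 LD2_c41 LD3_c29)) :=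
  Lgr Lrot152 (Lpe (f534430 IH) (Lpe (f534429 IH) (Lpr_gt (f534427 IH) (Lpr_ct (K24.f436334 IH) (Lpr_gt (f533013 IH) (Lpr_ct (K34.f465846 IH) (Lpe (K34.f463651 IH) (Lpe (K34.f463555 IH) (Lpr_gf (f465859 IH) (Lpn (LP (LK LD1_c30 LD2_c41 LD3_c29))))))))))))
theorem f463554 : Led Lsl_bt (LP (LK LD1_c14 LD2_c5 LD3_c56)) = (LP (LK LD1_c7 LD2_c28 LD3_c4)) :=
  Lre_b IH (LK LD1_c14 LD2_c5 LD3_c56) (LK LD1_c7 LD2_c28 LD3_c4) Lrfl Lrfl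
theorem f463558 : Led Lsl_bt (LP (LK LD1_c14 LD2_c47 LD3_c26)) = (LP (LK LD1_c7 LD2_c50 LD3_c27)) :=
  Lre_b IH (LK LD1_c14 LD2_c47 LD3_c26) (LK LD1_c7 LD2_c50 LD3_c27) Lrfl Lrfl
theorem f463559 : Led Lsl_ct (LP (LK LD1_c14 LD2_c47 LD3_c26)) = (LP (LK LD1_c24 LD2_c33 LD3_c48)) :=
  Lre_c IH (LK LD1_c14 LD2_c47 LD3_c26) (LK LD1_c24 LD2_c33 LD3_c48) Lrfl Lrfl
theorem f607161 : Led Lsl_gf (LP (LK LD1_c21 LD2_c29 LD3_c33)) = (LP (LK LD1_c24 LD2_c33 LD3_c48)) :=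
  Lgr Lrot126 (Lpr_cf (f607158 IH) (Lpr_bt (f534465 IH) (Lpr_gt (f534430 IH) (Lpr_ct (f534436 IH) (Lpe (f465859 IH) (Lpe (K34.f463557 IH) (Lpr_bt (f463554 IH) (Lpr_gt (K34.f463551 IH) (Lpe (f463558 IH) (Lpr_ct (f463559 IH) (Lpn (LP (LK LD1_c24 LD2_c33 LD3_c48)))))))))))))
theorem f81307 : Led Lsl_dt (LP (LK LD1_c21 LD2_c29 LD3_c33)) = (LP (LK LD1_c12 LD2_c22 LD3_c44)) :=
  Lre_d IH (LK LD1_c21 LD2_c29 LD3_c33) (LK LD1_c12 LD2_c22 LD3_c44) Lrfl Lrfl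
theorem f70722 : Led Lsl_dt (LP (LK LD1_c21 LD2_c14 LD3_c27)) = (LP (LK LD1_c12 LD2_c8 LD3_c12)) :=
  Lre_d IH (LK LD1_c21 LD2_c14 LD3_c27) (LK LD1_c12 LD2_c8 LD3_c12) Lrfl Lrfl
theorem f607163 : Led Lsl_gf (LP (LK LD1_c21 LD2_c14 LD3_c27)) = (LP (LK LD1_c14 LD2_c47 LD3_c26)) :=
  Lgr Lrot144 (Lpr_dt (f70722 IH) (Lpe (K43.f560413 IH) (Lpr_dt (K39.f147197 IH) (Lpe (K36.f147298 IH) (Lpe (K39.f560324 IH) (Lpe (f607044 IH) (Lpe (f81307 IH) (Lpr_gf (f607161 IH) (Lpe (f463559 IH) (Lpn (LP (LK LD1_c14 LD2_c47 LD3_c26))))))))))))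
theorem f38310 : Led Lsl_et (LP (LK LD1_c8 LD2_c48 LD3_c33)) = (LP (LK LD1_c4 LD2_c25 LD3_c30)) :=
  Lre_e IH (LK LD1_c8 LD2_c48 LD3_c33) (LK LD1_c4 LD2_c25 LD3_c30) Lrfl Lrfl
theorem f70561 : Led Lsl_df (LP (LK LD1_c6 LD2_c14 LD3_c56)) = (LP (LK LD1_c8 LD2_c48 LD3_c33)) :=
  Lgr Lrot170 (Lpr_gt (K43.f38105 IH) (Lpe (K37.f38042 IH) (Lpr_et (K37.f38041 IH) (Lpe (K2.f38015 IH) (Lpr_dt (K2.f70437 IH) (Lpe (K2.f69355 IH) (Lpe (K2.f38007 IH) (Lpr_et (K2.f38252 IH) (Lpr_gt (K37.f38065 IH) (Lpe (f38310 IH) (Lpn (LP (LK LD1_c8 LD2_c48 LD3_c33)))))))))))))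
theorem f561081 : Led Lsl_gt (LP (LK LD1_c13 LD2_c42 LD3_c42)) = (LP (LK LD1_c8 LD2_c48 LD3_c33)) :=
  Lgr Lrot94 (Lpr_cf (K40.f561077 IH) (Lpr_gt (K40.f35362 IH) (Lpr_dt (K40.f443104 IH) (Lpr_gt (K40.f70725 IH) (Lpr_dt (K39.f70724 IH) (Lpe (K37.f70434 IH) (Lpe (K43.f70723 IH) (Lpe (K43.f38105 IH) (Lpr_df (f70561 IH) (Lpn (LP (LK LD1_c8 LD2_c48 LD3_c33))))))))))))
theorem f607764 : Led Lsl_gf (LP (LK LD1_c7 LD2_c14 LD3_c50)) = (LP (LK LD1_c12 LD2_c6 LD3_c23)) :=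
  Lgr Lrot144 (Lpr_dt (K40.f487914 IH) (Lpr_gt (f561081 IH) (Lpe (f70561 IH) (Lpe (K43.f70726 IH) (Lpe (f70722 IH) (Lpr_gf (f607163 IH) (Lpe (f489330 IH) (Lpe (f607166 IH) (Lpr_cf (f607759 IH) (Lpn (LP (LK LD1_c12 LD2_c6 LD3_c23))))))))))))
theorem f487870 : Led Lsl_ct (LP (LK LD1_c7 LD2_c54 LD3_c37)) = (LP (LK LD1_c7 LD2_c14 LD3_c50)) :=
  Lgr Lrot59 (Lpr_cf (K33.f487867 IH) (Lpn (LP (LK LD1_c7 LD2_c14 LD3_c50))))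
theorem f607796 : Led Lsl_gt (LP (LK LD1_c7 LD2_c54 LD3_c32)) = (LP (LK LD1_c14 LD2_c49 LD3_c35)) :=
  Lgr Lrot164 (Lpe (K40.f464438 IH) (Lpr_ct (K40.f451958 IH) (Lpe (K32.f464433 IH) (Lpr_cf (K28.f462830 IH) (Lpe (K28.f11350 IH) (Lpe (K33.f462840 IH) (Lpr_ct (f487870 IH) (Lpr_gf (f607764 IH) (Lpe (f607757 IH) (Lpr_bt (f607792 IH) (Lpn (LP (LK LD1_c14 LD2_c49 LD3_c35)))))))))))))
theorem f116481 : Led Lsl_dt (LP (LK LD1_c7 LD2_c22 LD3_c54)) = (LP (LK LD1_c3 LD2_c41 LD3_c14)) :=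
  Lre_d IH (LK LD1_c7 LD2_c22 LD3_c54) (LK LD1_c3 LD2_c41 LD3_c14) Lrfl Lrfl
theorem f466333 : Led Lsl_dt (LP (LK LD1_c7 LD2_c4 LD3_c31)) = (LP (LK LD1_c13 LD2_c24 LD3_c49)) :=
  Lre_d IH (LK LD1_c7 LD2_c4 LD3_c31) (LK LD1_c13 LD2_c24 LD3_c49) Lrfl Lrfl
theorem f466334 : Led Lsl_ff (LP (LK LD1_c7 LD2_c22 LD3_c54)) = (LP (LK LD1_c13 LD2_c24 LD3_c49)) :=
  Lgr Lrot19 (Lpr_dt (f116481 IH) (Lpr_ft (K28.f466318 IH) (Lpr_dt (f466333 IH) (Lpn (LP (LK LD1_c13 LD2_c24 LD3_c49))))))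
theorem f116434 : Led Lsl_at (LP (LK LD1_c7 LD2_c22 LD3_c54)) = (LP (LK LD1_c13 LD2_c57 LD3_c10)) :=
  Lre_a IH (LK LD1_c7 LD2_c22 LD3_c54) (LK LD1_c13 LD2_c57 LD3_c10) Lrfl Lrfl
theorem f466423 : Led Lsl_gt (LP (LK LD1_c13 LD2_c24 LD3_c49)) = (LP (LK LD1_c22 LD2_c43 LD3_c7)) :=
  Lre_g IH (LK LD1_c13 LD2_c24 LD3_c49) (LK LD1_c22 LD2_c43 LD3_c7) Lrfl Lrfl
theorem f489352 : Led Lsl_gf (LP (LK LD1_c13 LD2_c57 LD3_c10)) = (LP (LK LD1_c22 LD2_c43 LD3_c7)) :=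
  Lgr Lrot76 (Lpe (f116434 IH) (Lpr_ff (f466334 IH) (Lpr_gt (f466423 IH) (Lpn (LP (LK LD1_c22 LD2_c43 LD3_c7))))))
theorem f489354 : Led Lsl_dt (LP (LK LD1_c14 LD2_c49 LD3_c35)) = (LP (LK LD1_c22 LD2_c43 LD3_c7)) :=
  Lgr Lrot136 (Lpr_et (f121196 IH) (Lpe (K41.f121120 IH) (Lpe (K5.f121112 IH) (Lpe (K6.f121021 IH) (Lpr_gf (K5.f129186 IH) (Lpe (K5.f123658 IH) (Lpe (K5.f123945 IH) (Lpe (K4.f116447 IH) (Lpr_dt (K4.f116439 IH) (Lpr_gf (f489352 IH) (Lpn (LP (LK LD1_c22 LD2_c43 LD3_c7)))))))))))))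
theorem f116432 : Led Lsl_dt (LP (LK LD1_c13 LD2_c57 LD3_c10)) = (LP (LK LD1_c7 LD2_c22 LD3_c47)) :=
  Lre_d IH (LK LD1_c13 LD2_c57 LD3_c10) (LK LD1_c7 LD2_c22 LD3_c47) Lrfl Lrfl
theorem f657698 : Led Lsl_gt (LP (LK LD1_c22 LD2_c16 LD3_c7)) = (LP (LK LD1_c13 LD2_c6 LD3_c38)) :=
  Lgr Lrot49 (Lpr_df (f657696 IH) (Lpr_gf (f491917 IH) (Lpe (f474029 IH) (Lpr_gt (f607796 IH) (Lpr_dt (f489354 IH) (Lpe (f489352 IH) (Lpr_dt (f116432 IH) (Lpr_cf (K28.f116468 IH) (Lpe (K4.f111470 IH) (Lpn (LP (LK LD1_c13 LD2_c6 LD3_c38))))))))))))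
theorem f103784 : Led Lsl_dt (LP (LK LD1_c6 LD2_c53 LD3_c58)) = (LP (LK LD1_c13 LD2_c6 LD3_c38)) :=
  Lre_d IH (LK LD1_c6 LD2_c53 LD3_c58) (LK LD1_c13 LD2_c6 LD3_c38) Lrfl Lrfl
theorem f88238 : Led Lsl_et (LP (LK LD1_c1 LD2_c51 LD3_c14)) = (LP (LK LD1_c3 LD2_c48 LD3_c28)) :=
  Lre_e IH (LK LD1_c1 LD2_c51 LD3_c14) (LK LD1_c3 LD2_c48 LD3_c28) Lrfl Lrfl
theorem f657700 : Led Lsl_ef (LP (LK LD1_c7 LD2_c37 LD3_c57)) = (LP (LK LD1_c13 LD2_c37 LD3_c11)) :=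
  Lgr Lrot17 (Lpe (K28.f88239 IH) (Lpe (f88238 IH) (Lpr_dt (K5.f88218 IH) (Lpr_gf (K5.f130109 IH) (Lpe (K5.f130116 IH) (Lpe (K4.f103778 IH) (Lpe (K39.f103783 IH) (Lpr_dt (f103784 IH) (Lpe (f657698 IH) (Lpr_df (f657696 IH) (Lpn (LP (LK LD1_c13 LD2_c37 LD3_c11)))))))))))))
theorem f142422 : Led Lsl_bt (LP (LK LD1_c7 LD2_c22 LD3_c3)) = (LP (LK LD1_c13 LD2_c55 LD3_c58)) :=
  Lre_b IH (LK LD1_c7 LD2_c22 LD3_c3) (LK LD1_c13 LD2_c55 LD3_c58) Lrfl Lrfl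
theorem f142438 : Led Lsl_at (LP (LK LD1_c13 LD2_c55 LD3_c58)) = (LP (LK LD1_c23 LD2_c26 LD3_c53)) :=
  Lre_a IH (LK LD1_c13 LD2_c55 LD3_c58) (LK LD1_c23 LD2_c26 LD3_c53) Lrfl Lrfl
theorem f655187 : Led Lsl_bf (LP (LK LD1_c13 LD2_c56 LD3_c25)) = (LP (LK LD1_c23 LD2_c26 LD3_c53)) :=
  Lgr Lrot81 (Lpr_at (f655183 IH) (Lpr_bt (K34.f488699 IH) (Lpe (f655114 IH) (Lpr_bt (f142422 IH) (Lpr_at (f142438 IH) (Lpn (LP (LK LD1_c23 LD2_c26 LD3_c53))))))))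
theorem f608704 : Led Lsl_bf (LP (LK LD1_c12 LD2_c8 LD3_c27)) = (LP (LK LD1_c13 LD2_c50 LD3_c20)) :=
  Lgr Lrot96 (Lpr_et (K39.f242778 IH) (Lpr_bt (K45.f575480 IH) (Lpe (K43.f575463 IH) (Lpn (LP (LK LD1_c13 LD2_c50 LD3_c20))))))
theorem f608706 : Led Lsl_bt (LP (LK LD1_c6 LD2_c15 LD3_c3)) = (LP (LK LD1_c7 LD2_c18 LD3_c54)) :=
  Lgr Lrot95 (Lpe (K39.f242773 IH) (Lpr_bf (f608704 IH) (Lpe (K43.f499805 IH) (Lpn (LP (LK LD1_c7 LD2_c18 LD3_c54))))))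
theorem f155616 : Led Lsl_ct (LP (LK LD1_c7 LD2_c18 LD3_c54)) = (LP (LK LD1_c13 LD2_c50 LD3_c19)) :=
  Lre_c IH (LK LD1_c7 LD2_c18 LD3_c54) (LK LD1_c13 LD2_c50 LD3_c19) Lrfl Lrfl
theorem f155564 : Led Lsl_et (LP (LK LD1_c7 LD2_c22 LD3_c39)) = (LP (LK LD1_c13 LD2_c57 LD3_c1)) :=
  Lre_e IH (LK LD1_c7 LD2_c22 LD3_c39) (LK LD1_c13 LD2_c57 LD3_c1) Lrfl Lrfl
theorem f155604 : Led Lsl_et (LP (LK LD1_c13 LD2_c50 LD3_c19)) = (LP (LK LD1_c7 LD2_c18 LD3_c53)) :=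
  Lre_e IH (LK LD1_c13 LD2_c50 LD3_c19) (LK LD1_c7 LD2_c18 LD3_c53) Lrfl Lrfl
theorem f155605 : Led Lsl_bt (LP (LK LD1_c13 LD2_c57 LD3_c1)) = (LP (LK LD1_c13 LD2_c50 LD3_c19)) :=
  Lgr Lrot119 (Lpe (f155564 IH) (Lpr_bf (K28.f155574 IH) (Lpe (f155604 IH) (Lpn (LP (LK LD1_c13 LD2_c50 LD3_c19))))))
theorem f155607 : Led Lsl_bf (LP (LK LD1_c13 LD2_c57 LD3_c1)) = (LP (LK LD1_c13 LD2_c50 LD3_c19)) :=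
  Lgr Lrot24 (Lpr_bt (f155605 IH) (Lpn (LP (LK LD1_c13 LD2_c50 LD3_c19))))
theorem f155600 : Led Lsl_ct (LP (LK LD1_c13 LD2_c57 LD3_c1)) = (LP (LK LD1_c7 LD2_c22 LD3_c41)) :=
  Lre_c IH (LK LD1_c13 LD2_c57 LD3_c1) (LK LD1_c7 LD2_c22 LD3_c41) Lrfl Lrfl
theorem f155581 : Led Lsl_et (LP (LK LD1_c3 LD2_c44 LD3_c1)) = (LP (LK LD1_c7 LD2_c28 LD3_c53)) :=
  Lre_e IH (LK LD1_c3 LD2_c44 LD3_c1) (LK LD1_c7 LD2_c28 LD3_c53) Lrfl Lrfl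
theorem f155582 : Led Lsl_bf (LP (LK LD1_c7 LD2_c22 LD3_c41)) = (LP (LK LD1_c7 LD2_c28 LD3_c53)) :=
  Lgr Lrot96 (Lpr_et (K32.f123676 IH) (Lpr_bt (K24.f155576 IH) (Lpr_et (f155581 IH) (Lpn (LP (LK LD1_c7 LD2_c28 LD3_c53))))))
theorem f155584 : Led Lsl_bt (LP (LK LD1_c7 LD2_c22 LD3_c41)) = (LP (LK LD1_c7 LD2_c28 LD3_c53)) :=
  Lgr Lrot127 (Lpr_bf (f155582 IH) (Lpn (LP (LK LD1_c7 LD2_c28 LD3_c53))))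
theorem f608712 : Led Lsl_cf (LP (LK LD1_c6 LD2_c15 LD3_c3)) = (LP (LK LD1_c7 LD2_c28 LD3_c53)) :=
  Lgr Lrot97 (Lpr_bt (f608706 IH) (Lpr_ct (f155616 IH) (Lpe (f155607 IH) (Lpr_ct (f155600 IH) (Lpr_bt (f155584 IH) (Lpn (LP (LK LD1_c7 LD2_c28 LD3_c53))))))))
theorem f608716 : Led Lsl_ct (LP (LK LD1_c6 LD2_c15 LD3_c3)) = (LP (LK LD1_c7 LD2_c28 LD3_c53)) :=
  Lgr Lrot59 (Lpr_cf (f608712 IH) (Lpn (LP (LK LD1_c7 LD2_c28 LD3_c53))))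
theorem f281791 : Led Lsl_et (LP (LK LD1_c16 LD2_c52 LD3_c60)) = (LP (LK LD1_c9 LD2_c2 LD3_c36)) :=
  Lre_e IH (LK LD1_c16 LD2_c52 LD3_c60) (LK LD1_c9 LD2_c2 LD3_c36) Lrfl Lrfl
theorem f600903 : Led Lsl_dt (LP (LK LD1_c11 LD2_c34 LD3_c41)) = (LP (LK LD1_c16 LD2_c52 LD3_c60)) :=
  Lgr Lrot77 (Lpe (K45.f590343 IH) (Lpr_df (K45.f590702 IH) (Lpe (K39.f557128 IH) (Lpr_df (K40.f559756 IH) (Lpe (f281791 IH) (Lpn (LP (LK LD1_c16 LD2_c52 LD3_c60))))))))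
theorem f600912 : Led Lsl_df (LP (LK LD1_c11 LD2_c34 LD3_c41)) = (LP (LK LD1_c16 LD2_c52 LD3_c60)) :=
  Lgr Lrot38 (Lpr_dt (f600903 IH) (Lpn (LP (LK LD1_c16 LD2_c52 LD3_c60))))
theorem f600916 : Led Lsl_gt (LP (LK LD1_c11 LD2_c34 LD3_c41)) = (LP (LK LD1_c20 LD2_c32 LD3_c39)) :=
  Lre_g IH (LK LD1_c11 LD2_c34 LD3_c41) (LK LD1_c20 LD2_c32 LD3_c39) Lrfl Lrfl
theorem f181390 : Led Lsl_et (LP (LK LD1_c9 LD2_c2 LD3_c38)) = (LP (LK LD1_c4 LD2_c32 LD3_c33)) :=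
  Lre_e IH (LK LD1_c9 LD2_c2 LD3_c38) (LK LD1_c4 LD2_c32 LD3_c33) Lrfl Lrfl
theorem f181371 : Led Lsl_et (LP (LK LD1_c7 LD2_c56 LD3_c22)) = (LP (LK LD1_c3 LD2_c57 LD3_c26)) :=
  Lre_e IH (LK LD1_c7 LD2_c56 LD3_c22) (LK LD1_c3 LD2_c57 LD3_c26) Lrfl Lrfl
theorem f181372 : Led Lsl_bt (LP (LK LD1_c9 LD2_c2 LD3_c38)) = (LP (LK LD1_c7 LD2_c56 LD3_c22)) :=
  Lgr Lrot119 (Lpe (K41.f181370 IH) (Lpr_bf (K16.f181345 IH) (Lpe (f181371 IH) (Lpn (LP (LK LD1_c7 LD2_c56 LD3_c22))))))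
theorem f181376 : Led Lsl_bf (LP (LK LD1_c9 LD2_c2 LD3_c38)) = (LP (LK LD1_c7 LD2_c56 LD3_c22)) :=
  Lgr Lrot24 (Lpr_bt (f181372 IH) (Lpn (LP (LK LD1_c7 LD2_c56 LD3_c22))))
theorem f552891 : Led Lsl_dt (LP (LK LD1_c9 LD2_c2 LD3_c38)) = (LP (LK LD1_c7 LD2_c7 LD3_c51)) :=
  Lgr Lrot79 (Lpr_bf (f181376 IH) (Lpr_df (K39.f552885 IH) (Lpr_bf (K29.f425491 IH) (Lpn (LP (LK LD1_c7 LD2_c7 LD3_c51))))))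
theorem f425536 : Led Lsl_dt (LP (LK LD1_c22 LD2_c51 LD3_c11)) = (LP (LK LD1_c13 LD2_c30 LD3_c24)) :=
  Lre_d IH (LK LD1_c22 LD2_c51 LD3_c11) (LK LD1_c13 LD2_c30 LD3_c24) Lrfl Lrfl
theorem f511722 : Led Lsl_bf (LP (LK LD1_c22 LD2_c41 LD3_c22)) = (LP (LK LD1_c13 LD2_c38 LD3_c48)) :=
  Lgr Lrot24 (Lpr_bt (K33.f511719 IH) (Lpn (LP (LK LD1_c13 LD2_c38 LD3_c48))))
theorem f471395 : Led Lsl_bt (LP (LK LD1_c13 LD2_c46 LD3_c48)) = (LP (LK LD1_c7 LD2_c16 LD3_c58)) :=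
  Lre_b IH (LK LD1_c13 LD2_c46 LD3_c48) (LK LD1_c7 LD2_c16 LD3_c58) Lrfl Lrfl
theorem f525962 : Led Lsl_ft (LP (LK LD1_c22 LD2_c41 LD3_c22)) = (LP (LK LD1_c13 LD2_c46 LD3_c48)) :=
  Lgr Lrot75 (Lpr_bf (f511722 IH) (Lpr_ff (K45.f525960 IH) (Lpe (f471395 IH) (Lpn (LP (LK LD1_c13 LD2_c46 LD3_c48))))))
theorem f476512 : Led Lsl_ct (LP (LK LD1_c13 LD2_c23 LD3_c38)) = (LP (LK LD1_c22 LD2_c41 LD3_c22)) :=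
  Lre_c IH (LK LD1_c13 LD2_c23 LD3_c38) (LK LD1_c22 LD2_c41 LD3_c22) Lrfl Lrfl
theorem f476197 : Led Lsl_et (LP (LK LD1_c3 LD2_c46 LD3_c43)) = (LP (LK LD1_c7 LD2_c34 LD3_c17)) :=
  Lre_e IH (LK LD1_c3 LD2_c46 LD3_c43) (LK LD1_c7 LD2_c34 LD3_c17) Lrfl Lrfl
theorem f471432 : Led Lsl_et (LP (LK LD1_c13 LD2_c46 LD3_c48)) = (LP (LK LD1_c7 LD2_c16 LD3_c56)) :=
  Lre_e IH (LK LD1_c13 LD2_c46 LD3_c48) (LK LD1_c7 LD2_c16 LD3_c56) Lrfl Lrfl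
theorem f523476 : Led Lsl_ct (LP (LK LD1_c7 LD2_c34 LD3_c17)) = (LP (LK LD1_c13 LD2_c46 LD3_c48)) :=
  Lgr Lrot15 (Lpe (f476197 IH) (Lpr_cf (K34.f523467 IH) (Lpe (f471432 IH) (Lpn (LP (LK LD1_c13 LD2_c46 LD3_c48))))))
theorem f523485 : Led Lsl_cf (LP (LK LD1_c7 LD2_c34 LD3_c17)) = (LP (LK LD1_c13 LD2_c46 LD3_c48)) :=
  Lgr Lrot11 (Lpr_ct (f523476 IH) (Lpn (LP (LK LD1_c13 LD2_c46 LD3_c48))))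
theorem f526550 : Led Lsl_ff (LP (LK LD1_c13 LD2_c23 LD3_c38)) = (LP (LK LD1_c7 LD2_c34 LD3_c17)) :=
  Lgr Lrot23 (Lpr_ct (f476512 IH) (Lpr_ft (f525962 IH) (Lpe (f523485 IH) (Lpn (LP (LK LD1_c7 LD2_c34 LD3_c17))))))
theorem f526554 : Led Lsl_ft (LP (LK LD1_c13 LD2_c23 LD3_c38)) = (LP (LK LD1_c7 LD2_c34 LD3_c17)) :=
  Lgr Lrot48 (Lpr_ff (f526550 IH) (Lpn (LP (LK LD1_c7 LD2_c34 LD3_c17))))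
theorem f471400 : Led Lsl_et (LP (LK LD1_c7 LD2_c53 LD3_c48)) = (LP (LK LD1_c14 LD2_c53 LD3_c32)) :=
  Lre_e IH (LK LD1_c7 LD2_c53 LD3_c48) (LK LD1_c14 LD2_c53 LD3_c32) Lrfl Lrfl
theorem f471403 : Led Lsl_dt (LP (LK LD1_c14 LD2_c53 LD3_c32)) = (LP (LK LD1_c13 LD2_c46 LD3_c50)) :=
  Lgr Lrot77 (Lpe (f471400 IH) (Lpr_df (K33.f471392 IH) (Lpe (K45.f471401 IH) (Lpe (K30.f4159 IH) (Lpe (K45.f471402 IH) (Lpn (LP (LK LD1_c13 LD2_c46 LD3_c50))))))))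
theorem f471407 : Led Lsl_df (LP (LK LD1_c14 LD2_c53 LD3_c32)) = (LP (LK LD1_c13 LD2_c46 LD3_c50)) :=
  Lgr Lrot38 (Lpr_dt (f471403 IH) (Lpn (LP (LK LD1_c13 LD2_c46 LD3_c50))))
theorem f526198 : Led Lsl_at (LP (LK LD1_c14 LD2_c53 LD3_c32)) = (LP (LK LD1_c13 LD2_c48 LD3_c24)) :=
  Lgr Lrot51 (Lpr_df (f471407 IH) (Lpr_af (K45.f526188 IH) (Lpe (K45.f471019 IH) (Lpn (LP (LK LD1_c13 LD2_c48 LD3_c24))))))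
theorem f526203 : Led Lsl_af (LP (LK LD1_c14 LD2_c53 LD3_c32)) = (LP (LK LD1_c13 LD2_c48 LD3_c24)) :=
  Lgr Lrot0 (Lpr_at (f526198 IH) (Lpn (LP (LK LD1_c13 LD2_c48 LD3_c24))))
theorem f465167 : Led Lsl_et (LP (LK LD1_c14 LD2_c53 LD3_c32)) = (LP (LK LD1_c7 LD2_c53 LD3_c48)) :=
  Lre_e IH (LK LD1_c14 LD2_c53 LD3_c32) (LK LD1_c7 LD2_c53 LD3_c48) Lrfl Lrfl
theorem f481563 : Led Lsl_et (LP (LK LD1_c7 LD2_c17 LD3_c51)) = (LP (LK LD1_c13 LD2_c48 LD3_c24)) :=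
  Lre_e IH (LK LD1_c7 LD2_c17 LD3_c51) (LK LD1_c13 LD2_c48 LD3_c24) Lrfl Lrfl
theorem f526205 : Led Lsl_at (LP (LK LD1_c7 LD2_c53 LD3_c48)) = (LP (LK LD1_c7 LD2_c17 LD3_c51)) :=
  Lgr Lrot80 (Lpe (f465167 IH) (Lpr_af (f526203 IH) (Lpe (f481563 IH) (Lpn (LP (LK LD1_c7 LD2_c17 LD3_c51))))))
theorem f458645 : Led Lsl_gt (LP (LK LD1_c3 LD2_c56 LD3_c5)) = (LP (LK LD1_c7 LD2_c53 LD3_c52)) :=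
  Lre_g IH (LK LD1_c3 LD2_c56 LD3_c5) (LK LD1_c7 LD2_c53 LD3_c52) Lrfl Lrfl
theorem f470477 : Led Lsl_gt (LP (LK LD1_c7 LD2_c53 LD3_c52)) = (LP (LK LD1_c7 LD2_c7 LD3_c22)) :=
  Lgr Lrot46 (Lpe (f458645 IH) (Lpr_ft (K29.f458632 IH) (Lpr_at (K43.f470473 IH) (Lpn (LP (LK LD1_c7 LD2_c7 LD3_c22))))))
theorem f526209 : Led Lsl_ff (LP (LK LD1_c7 LD2_c53 LD3_c48)) = (LP (LK LD1_c7 LD2_c53 LD3_c52)) :=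
  Lgr Lrot52 (Lpr_at (f526205 IH) (Lpe (K33.f471002 IH) (Lpe (f470477 IH) (Lpn (LP (LK LD1_c7 LD2_c53 LD3_c52))))))
theorem f526217 : Led Lsl_ft (LP (LK LD1_c7 LD2_c53 LD3_c48)) = (LP (LK LD1_c7 LD2_c53 LD3_c52)) :=
  Lgr Lrot48 (Lpr_ff (f526209 IH) (Lpn (LP (LK LD1_c7 LD2_c53 LD3_c52))))
theorem f526223 : Led Lsl_df (LP (LK LD1_c13 LD2_c38 LD3_c48)) = (LP (LK LD1_c7 LD2_c53 LD3_c52)) :=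
  Lgr Lrot78 (Lpr_ft (K45.f525954 IH) (Lpe (K33.f471392 IH) (Lpr_ft (f526217 IH) (Lpn (LP (LK LD1_c7 LD2_c53 LD3_c52))))))
theorem f458712 : Led Lsl_bt (LP (LK LD1_c14 LD2_c53 LD3_c43)) = (LP (LK LD1_c7 LD2_c53 LD3_c52)) :=
  Lre_b IH (LK LD1_c14 LD2_c53 LD3_c43) (LK LD1_c7 LD2_c53 LD3_c52) Lrfl Lrfl
theorem f526281 : Led Lsl_dt (LP (LK LD1_c22 LD2_c41 LD3_c22)) = (LP (LK LD1_c14 LD2_c53 LD3_c43)) :=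
  Lgr Lrot79 (Lpr_bf (f511722 IH) (Lpr_df (f526223 IH) (Lpe (f458712 IH) (Lpn (LP (LK LD1_c14 LD2_c53 LD3_c43))))))
theorem f526337 : Led Lsl_df (LP (LK LD1_c22 LD2_c41 LD3_c22)) = (LP (LK LD1_c14 LD2_c53 LD3_c43)) :=
  Lgr Lrot38 (Lpr_dt (f526281 IH) (Lpn (LP (LK LD1_c14 LD2_c53 LD3_c43))))
theorem f446482 : Led Lsl_ct (LP (LK LD1_c6 LD2_c58 LD3_c35)) = (LP (LK LD1_c3 LD2_c28 LD3_c11)) :=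
  Lre_c IH (LK LD1_c6 LD2_c58 LD3_c35) (LK LD1_c3 LD2_c28 LD3_c11) Lrfl Lrfl
theorem f455443 : Led Lsl_gt (LP (LK LD1_c13 LD2_c14 LD3_c40)) = (LP (LK LD1_c6 LD2_c58 LD3_c35)) :=
  Lre_g IH (LK LD1_c13 LD2_c14 LD3_c40) (LK LD1_c6 LD2_c58 LD3_c35) Lrfl Lrfl
theorem f511854 : Led Lsl_ct (LP (LK LD1_c7 LD2_c19 LD3_c56)) = (LP (LK LD1_c13 LD2_c14 LD3_c40)) :=
  Lgr Lrot152 (Lpr_gf (K33.f511850 IH) (Lpe (K33.f94441 IH) (Lpe (K28.f463750 IH) (Lpr_ct (K28.f446486 IH) (Lpr_gt (K24.f446456 IH) (Lpr_ct (K28.f15773 IH) (Lpe (K33.f18580 IH) (Lpe (f446482 IH) (Lpe (f455443 IH) (Lpn (LP (LK LD1_c13 LD2_c14 LD3_c40))))))))))))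
theorem f511869 : Led Lsl_bt (LP (LK LD1_c7 LD2_c19 LD3_c56)) = (LP (LK LD1_c13 LD2_c52 LD3_c7)) :=
  Lre_b IH (LK LD1_c7 LD2_c19 LD3_c56) (LK LD1_c13 LD2_c52 LD3_c7) Lrfl Lrfl
theorem f446446 : Led Lsl_ct (LP (LK LD1_c3 LD2_c28 LD3_c11)) = (LP (LK LD1_c6 LD2_c58 LD3_c35)) :=
  Lre_c IH (LK LD1_c3 LD2_c28 LD3_c11) (LK LD1_c6 LD2_c58 LD3_c35) Lrfl Lrfl
theorem f458634 : Led Lsl_bf (LP (LK LD1_c3 LD2_c56 LD3_c5)) = (LP (LK LD1_c3 LD2_c28 LD3_c11)) :=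
  Lgr Lrot61 (Lpr_ft (K29.f458632 IH) (Lpr_bt (K29.f458565 IH) (Lpr_ft (K24.f455253 IH) (Lpn (LP (LK LD1_c3 LD2_c28 LD3_c11))))))
theorem f458711 : Led Lsl_ct (LP (LK LD1_c7 LD2_c53 LD3_c52)) = (LP (LK LD1_c14 LD2_c53 LD3_c44)) :=
  Lre_c IH (LK LD1_c7 LD2_c53 LD3_c52) (LK LD1_c14 LD2_c53 LD3_c44) Lrfl Lrfl
theorem f465196 : Led Lsl_ct (LP (LK LD1_c13 LD2_c41 LD3_c5)) = (LP (LK LD1_c7 LD2_c13 LD3_c52)) :=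
  Lre_c IH (LK LD1_c13 LD2_c41 LD3_c5) (LK LD1_c7 LD2_c13 LD3_c52) Lrfl Lrfl
theorem f471939 : Led Lsl_gf (LP (LK LD1_c13 LD2_c41 LD3_c5)) = (LP (LK LD1_c14 LD2_c53 LD3_c44)) :=
  Lgr Lrot104 (Lpr_ct (f465196 IH) (Lpe (K33.f17402 IH) (Lpr_cf (K34.f471930 IH) (Lpe (K34.f97336 IH) (Lpr_cf (K3.f97329 IH) (Lpr_gf (K34.f470835 IH) (Lpe (K33.f451247 IH) (Lpr_gt (f458645 IH) (Lpr_ct (f458711 IH) (Lpn (LP (LK LD1_c14 LD2_c53 LD3_c44))))))))))))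
theorem f17403 : Led Lsl_ct (LP (LK LD1_c7 LD2_c13 LD3_c52)) = (LP (LK LD1_c13 LD2_c41 LD3_c5)) :=
  Lre_c IH (LK LD1_c7 LD2_c13 LD3_c52) (LK LD1_c13 LD2_c41 LD3_c5) Lrfl Lrfl
theorem f511870 : Led Lsl_gf (LP (LK LD1_c13 LD2_c52 LD3_c7)) = (LP (LK LD1_c13 LD2_c41 LD3_c1)) :=
  Lgr Lrot124 (Lpe (f511869 IH) (Lpr_ct (f511854 IH) (Lpr_gt (f455443 IH) (Lpe (f446446 IH) (Lpe (f458634 IH) (Lpr_gt (f458645 IH) (Lpr_ct (f458711 IH) (Lpe (f471939 IH) (Lpe (f17403 IH) (Lpr_bt (K41.f471941 IH) (Lpn (LP (LK LD1_c13 LD2_c41 LD3_c1)))))))))))))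
theorem f511819 : Led Lsl_ct (LP (LK LD1_c13 LD2_c52 LD3_c7)) = (LP (LK LD1_c23 LD2_c21 LD3_c51)) :=
  Lre_c IH (LK LD1_c13 LD2_c52 LD3_c7) (LK LD1_c23 LD2_c21 LD3_c51) Lrfl Lrfl
theorem f471272 : Led Lsl_dt (LP (LK LD1_c22 LD2_c51 LD3_c14)) = (LP (LK LD1_c13 LD2_c30 LD3_c30)) :=
  Lre_d IH (LK LD1_c22 LD2_c51 LD3_c14) (LK LD1_c13 LD2_c30 LD3_c30) Lrfl Lrfl
theorem f471273 : Led Lsl_ct (LP (LK LD1_c30 LD2_c45 LD3_c35)) = (LP (LK LD1_c22 LD2_c51 LD3_c14)) :=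
  Lre_c IH (LK LD1_c30 LD2_c45 LD3_c35) (LK LD1_c22 LD2_c51 LD3_c14) Lrfl Lrfl
theorem f511874 : Led Lsl_gt (LP (LK LD1_c23 LD2_c21 LD3_c51)) = (LP (LK LD1_c30 LD2_c45 LD3_c35)) :=
  Lgr Lrot150 (Lpe (f511819 IH) (Lpr_gf (f511870 IH) (Lpe (K41.f98600 IH) (Lpr_gt (K41.f471964 IH) (Lpr_ct (K34.f463809 IH) (Lpr_gt (K29.f460288 IH) (Lpe (K29.f471265 IH) (Lpe (f471272 IH) (Lpe (f471273 IH) (Lpn (LP (LK LD1_c30 LD2_c45 LD3_c35))))))))))))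
theorem f471271 : Led Lsl_ct (LP (LK LD1_c22 LD2_c51 LD3_c14)) = (LP (LK LD1_c30 LD2_c45 LD3_c35)) :=
  Lre_c IH (LK LD1_c22 LD2_c51 LD3_c14) (LK LD1_c30 LD2_c45 LD3_c35) Lrfl Lrfl
theorem f511876 : Led Lsl_bt (LP (LK LD1_c22 LD2_c51 LD3_c14)) = (LP (LK LD1_c13 LD2_c30 LD3_c31)) :=
  Lre_b IH (LK LD1_c22 LD2_c51 LD3_c14) (LK LD1_c13 LD2_c30 LD3_c31) Lrfl Lrfl
theorem f471942 : Led Lsl_bt (LP (LK LD1_c7 LD2_c53 LD3_c52)) = (LP (LK LD1_c14 LD2_c53 LD3_c43)) :=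
  Lre_b IH (LK LD1_c7 LD2_c53 LD3_c52) (LK LD1_c14 LD2_c53 LD3_c43) Lrfl Lrfl
theorem f511877 : Led Lsl_gt (LP (LK LD1_c13 LD2_c30 LD3_c31)) = (LP (LK LD1_c14 LD2_c53 LD3_c43)) :=
  Lgr Lrot164 (Lpe (f511876 IH) (Lpr_ct (f471271 IH) (Lpe (f511874 IH) (Lpe (f511819 IH) (Lpr_gf (f511870 IH) (Lpe (K41.f471941 IH) (Lpr_ct (f17403 IH) (Lpr_gf (f471939 IH) (Lpe (f458711 IH) (Lpr_bt (f471942 IH) (Lpn (LP (LK LD1_c14 LD2_c53 LD3_c43)))))))))))))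
theorem f425506 : Led Lsl_dt (LP (LK LD1_c7 LD2_c7 LD3_c54)) = (LP (LK LD1_c13 LD2_c30 LD3_c31)) :=
  Lre_d IH (LK LD1_c7 LD2_c7 LD3_c54) (LK LD1_c13 LD2_c30 LD3_c31) Lrfl Lrfl
theorem f475769 : Led Lsl_at (LP (LK LD1_c14 LD2_c21 LD3_c53)) = (LP (LK LD1_c7 LD2_c37 LD3_c11)) :=
  Lre_a IH (LK LD1_c14 LD2_c21 LD3_c53) (LK LD1_c7 LD2_c37 LD3_c11) Lrfl Lrfl
theorem f129871 : Led Lsl_gt (LP (LK LD1_c14 LD2_c21 LD3_c55)) = (LP (LK LD1_c7 LD2_c37 LD3_c11)) :=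
  Lre_g IH (LK LD1_c14 LD2_c21 LD3_c55) (LK LD1_c7 LD2_c37 LD3_c11) Lrfl Lrfl
theorem f475791 : Led Lsl_gt (LP (LK LD1_c7 LD2_c48 LD3_c6)) = (LP (LK LD1_c14 LD2_c21 LD3_c55)) :=
  Lgr Lrot5 (Lpr_ft (K34.f475784 IH) (Lpr_at (f475769 IH) (Lpe (f129871 IH) (Lpn (LP (LK LD1_c14 LD2_c21 LD3_c55))))))
theorem f526339 : Led Lsl_df (LP (LK LD1_c13 LD2_c23 LD3_c38)) = (LP (LK LD1_c14 LD2_c21 LD3_c55)) :=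
  Lgr Lrot84 (Lpe (K33.f476513 IH) (Lpr_df (f526337 IH) (Lpe (f511877 IH) (Lpe (f425506 IH) (Lpe (K29.f425505 IH) (Lpe (K29.f470948 IH) (Lpr_gt (K29.f475039 IH) (Lpr_dt (K34.f474936 IH) (Lpr_gt (f475791 IH) (Lpn (LP (LK LD1_c14 LD2_c21 LD3_c55))))))))))))
theorem f475013 : Led Lsl_at (LP (LK LD1_c7 LD2_c37 LD3_c11)) = (LP (LK LD1_c14 LD2_c21 LD3_c53)) :=
  Lre_a IH (LK LD1_c7 LD2_c37 LD3_c11) (LK LD1_c14 LD2_c21 LD3_c53) Lrfl Lrfl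
theorem f474944 : Led Lsl_at (LP (LK LD1_c7 LD2_c48 LD3_c6)) = (LP (LK LD1_c3 LD2_c53 LD3_c15)) :=
  Lre_a IH (LK LD1_c7 LD2_c48 LD3_c6) (LK LD1_c3 LD2_c53 LD3_c15) Lrfl Lrfl
theorem f475014 : Led Lsl_ft (LP (LK LD1_c14 LD2_c21 LD3_c53)) = (LP (LK LD1_c7 LD2_c48 LD3_c6)) :=
  Lgr Lrot101 (Lpe (f475013 IH) (Lpr_ff (K29.f474222 IH) (Lpe (f474944 IH) (Lpn (LP (LK LD1_c7 LD2_c48 LD3_c6))))))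
theorem f461192 : Led Lsl_gt (LP (LK LD1_c7 LD2_c48 LD3_c9)) = (LP (LK LD1_c3 LD2_c53 LD3_c15)) :=
  Lre_g IH (LK LD1_c7 LD2_c48 LD3_c9) (LK LD1_c3 LD2_c53 LD3_c15) Lrfl Lrfl
theorem f476188 : Led Lsl_gt (LP (LK LD1_c14 LD2_c21 LD3_c53)) = (LP (LK LD1_c7 LD2_c48 LD3_c9)) :=
  Lgr Lrot5 (Lpr_ft (f475014 IH) (Lpr_at (f474944 IH) (Lpe (f461192 IH) (Lpn (LP (LK LD1_c7 LD2_c48 LD3_c9))))))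
theorem f129887 : Led Lsl_dt (LP (LK LD1_c7 LD2_c37 LD3_c10)) = (LP (LK LD1_c14 LD2_c21 LD3_c53)) :=
  Lre_d IH (LK LD1_c7 LD2_c37 LD3_c10) (LK LD1_c14 LD2_c21 LD3_c53) Lrfl Lrfl
theorem f110295 : Led Lsl_et (LP (LK LD1_c0 LD2_c52 LD3_c7)) = (LP (LK LD1_c1 LD2_c50 LD3_c28)) :=
  Lre_e IH (LK LD1_c0 LD2_c52 LD3_c7) (LK LD1_c1 LD2_c50 LD3_c28) Lrfl Lrfl
theorem f110297 : Led Lsl_et (LP (LK LD1_c7 LD2_c34 LD3_c17)) = (LP (LK LD1_c3 LD2_c46 LD3_c43)) :=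
  Lre_e IH (LK LD1_c7 LD2_c34 LD3_c17) (LK LD1_c3 LD2_c46 LD3_c43) Lrfl Lrfl
theorem f476192 : Led Lsl_dt (LP (LK LD1_c7 LD2_c34 LD3_c17)) = (LP (LK LD1_c7 LD2_c48 LD3_c9)) :=
  Lgr Lrot56 (Lpr_et (f110297 IH) (Lpr_gt (K34.f110296 IH) (Lpe (f110295 IH) (Lpr_dt (K6.f94545 IH) (Lpr_gt (K3.f65239 IH) (Lpe (K3.f110240 IH) (Lpr_et (K28.f110247 IH) (Lpr_gt (K34.f475799 IH) (Lpr_dt (f129887 IH) (Lpr_gt (f476188 IH) (Lpn (LP (LK LD1_c7 LD2_c48 LD3_c9)))))))))))))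
theorem f526556 : Led Lsl_ff (LP (LK LD1_c14 LD2_c21 LD3_c55)) = (LP (LK LD1_c7 LD2_c48 LD3_c9)) :=
  Lgr Lrot19 (Lpe (f526339 IH) (Lpr_ft (f526554 IH) (Lpr_dt (f476192 IH) (Lpn (LP (LK LD1_c7 LD2_c48 LD3_c9))))))
theorem f461168 : Led Lsl_gt (LP (LK LD1_c3 LD2_c53 LD3_c15)) = (LP (LK LD1_c7 LD2_c48 LD3_c8)) :=
  Lre_g IH (LK LD1_c3 LD2_c53 LD3_c15) (LK LD1_c7 LD2_c48 LD3_c8) Lrfl Lrfl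
theorem f526574 : Led Lsl_at (LP (LK LD1_c14 LD2_c21 LD3_c55)) = (LP (LK LD1_c7 LD2_c48 LD3_c8)) :=
  Lgr Lrot26 (Lpr_ff (f526556 IH) (Lpr_gt (f461192 IH) (Lpr_gt (f461168 IH) (Lpn (LP (LK LD1_c7 LD2_c48 LD3_c8))))))
theorem f526341 : Led Lsl_dt (LP (LK LD1_c13 LD2_c23 LD3_c38)) = (LP (LK LD1_c14 LD2_c21 LD3_c55)) :=
  Lgr Lrot42 (Lpr_df (f526339 IH) (Lpn (LP (LK LD1_c14 LD2_c21 LD3_c55))))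
theorem f461169 : Led Lsl_dt (LP (LK LD1_c7 LD2_c48 LD3_c8)) = (LP (LK LD1_c14 LD2_c43 LD3_c19)) :=
  Lre_d IH (LK LD1_c7 LD2_c48 LD3_c8) (LK LD1_c14 LD2_c43 LD3_c19) Lrfl Lrfl
theorem f526580 : Led Lsl_af (LP (LK LD1_c13 LD2_c23 LD3_c38)) = (LP (LK LD1_c14 LD2_c43 LD3_c19)) :=
  Lgr Lrot117 (Lpr_dt (f526341 IH) (Lpr_at (f526574 IH) (Lpr_dt (f461169 IH) (Lpn (LP (LK LD1_c14 LD2_c43 LD3_c19))))))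
theorem f18820 : Led Lsl_gt (LP (LK LD1_c7 LD2_c3 LD3_c55)) = (LP (LK LD1_c13 LD2_c23 LD3_c37)) :=
  Lre_g IH (LK LD1_c7 LD2_c3 LD3_c55) (LK LD1_c13 LD2_c23 LD3_c37) Lrfl Lrfl
theorem f526558 : Led Lsl_af (LP (LK LD1_c13 LD2_c23 LD3_c37)) = (LP (LK LD1_c7 LD2_c34 LD3_c17)) :=
  Lgr Lrot31 (Lpe (f18820 IH) (Lpe (K33.f63106 IH) (Lpr_ft (f526554 IH) (Lpn (LP (LK LD1_c7 LD2_c34 LD3_c17))))))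
theorem f526587 : Led Lsl_ft (LP (LK LD1_c13 LD2_c23 LD3_c37)) = (LP (LK LD1_c14 LD2_c43 LD3_c19)) :=
  Lgr Lrot101 (Lpr_af (f526558 IH) (Lpe (f526554 IH) (Lpr_af (f526580 IH) (Lpn (LP (LK LD1_c14 LD2_c43 LD3_c19))))))
theorem f526591 : Led Lsl_ff (LP (LK LD1_c13 LD2_c23 LD3_c37)) = (LP (LK LD1_c14 LD2_c43 LD3_c19)) :=
  Lgr Lrot3 (Lpr_ft (f526587 IH) (Lpn (LP (LK LD1_c14 LD2_c43 LD3_c19))))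
theorem f458498 : Led Lsl_ct (LP (LK LD1_c13 LD2_c23 LD3_c37)) = (LP (LK LD1_c22 LD2_c41 LD3_c21)) :=
  Lre_c IH (LK LD1_c13 LD2_c23 LD3_c37) (LK LD1_c22 LD2_c41 LD3_c21) Lrfl Lrfl
theorem f471555 : Led Lsl_ct (LP (LK LD1_c24 LD2_c28 LD3_c40)) = (LP (LK LD1_c14 LD2_c43 LD3_c19)) :=
  Lre_c IH (LK LD1_c24 LD2_c28 LD3_c40) (LK LD1_c14 LD2_c43 LD3_c19) Lrfl Lrfl
theorem f526593 : Led Lsl_ft (LP (LK LD1_c22 LD2_c41 LD3_c21)) = (LP (LK LD1_c24 LD2_c28 LD3_c40)) :=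
  Lgr Lrot4 (Lpe (f458498 IH) (Lpr_ff (f526591 IH) (Lpe (f471555 IH) (Lpn (LP (LK LD1_c24 LD2_c28 LD3_c40))))))
theorem f526562 : Led Lsl_at (LP (LK LD1_c22 LD2_c41 LD3_c21)) = (LP (LK LD1_c13 LD2_c46 LD3_c48)) :=
  Lgr Lrot107 (Lpe (f458498 IH) (Lpr_af (f526558 IH) (Lpr_cf (f523485 IH) (Lpn (LP (LK LD1_c13 LD2_c46 LD3_c48))))))
theorem f526564 : Led Lsl_af (LP (LK LD1_c22 LD2_c41 LD3_c21)) = (LP (LK LD1_c13 LD2_c46 LD3_c48)) :=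
  Lgr Lrot0 (Lpr_at (f526562 IH) (Lpn (LP (LK LD1_c13 LD2_c46 LD3_c48))))
theorem f526601 : Led Lsl_af (LP (LK LD1_c22 LD2_c41 LD3_c22)) = (LP (LK LD1_c24 LD2_c28 LD3_c40)) :=
  Lgr Lrot45 (Lpr_ft (f525962 IH) (Lpe (f526564 IH) (Lpr_ft (f526593 IH) (Lpn (LP (LK LD1_c24 LD2_c28 LD3_c40))))))
theorem f526280 : Led Lsl_at (LP (LK LD1_c14 LD2_c53 LD3_c43)) = (LP (LK LD1_c24 LD2_c40 LD3_c34)) :=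
  Lre_a IH (LK LD1_c14 LD2_c53 LD3_c43) (LK LD1_c24 LD2_c40 LD3_c34) Lrfl Lrfl
theorem f526603 : Led Lsl_dt (LP (LK LD1_c24 LD2_c40 LD3_c34)) = (LP (LK LD1_c24 LD2_c28 LD3_c40)) :=
  Lgr Lrot44 (Lpe (f526280 IH) (Lpe (f526281 IH) (Lpr_af (f526601 IH) (Lpn (LP (LK LD1_c24 LD2_c28 LD3_c40))))))
theorem f461170 : Led Lsl_ct (LP (LK LD1_c14 LD2_c43 LD3_c19)) = (LP (LK LD1_c24 LD2_c28 LD3_c40)) :=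
  Lre_c IH (LK LD1_c14 LD2_c43 LD3_c19) (LK LD1_c24 LD2_c28 LD3_c40) Lrfl Lrfl
theorem f97353 : Led Lsl_dt (LP (LK LD1_c13 LD2_c30 LD3_c24)) = (LP (LK LD1_c22 LD2_c51 LD3_c11)) :=
  Lre_d IH (LK LD1_c13 LD2_c30 LD3_c24) (LK LD1_c22 LD2_c51 LD3_c11) Lrfl Lrfl
theorem f526607 : Led Lsl_gf (LP (LK LD1_c24 LD2_c40 LD3_c34)) = (LP (LK LD1_c22 LD2_c51 LD3_c11)) :=
  Lgr Lrot143 (Lpr_dt (f526603 IH) (Lpe (f461170 IH) (Lpe (f461169 IH) (Lpe (f461168 IH) (Lpe (K29.f471469 IH) (Lpe (K34.f464870 IH) (Lpr_cf (K34.f471454 IH) (Lpr_gt (K29.f97349 IH) (Lpr_dt (f97353 IH) (Lpn (LP (LK LD1_c22 LD2_c51 LD3_c11))))))))))))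
theorem f471394 : Led Lsl_bt (LP (LK LD1_c7 LD2_c53 LD3_c48)) = (LP (LK LD1_c14 LD2_c53 LD3_c30)) :=
  Lre_b IH (LK LD1_c7 LD2_c53 LD3_c48) (LK LD1_c14 LD2_c53 LD3_c30) Lrfl Lrfl
theorem f526211 : Led Lsl_ft (LP (LK LD1_c14 LD2_c53 LD3_c30)) = (LP (LK LD1_c14 LD2_c53 LD3_c43)) :=
  Lgr Lrot75 (Lpe (f471394 IH) (Lpr_ff (f526209 IH) (Lpe (f458712 IH) (Lpn (LP (LK LD1_c14 LD2_c53 LD3_c43))))))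
theorem f526609 : Led Lsl_gt (LP (LK LD1_c14 LD2_c53 LD3_c30)) = (LP (LK LD1_c22 LD2_c51 LD3_c11)) :=
  Lgr Lrot5 (Lpr_ft (f526211 IH) (Lpr_at (f526280 IH) (Lpr_gf (f526607 IH) (Lpn (LP (LK LD1_c22 LD2_c51 LD3_c11))))))
theorem f471434 : Led Lsl_et (LP (LK LD1_c24 LD2_c40 LD3_c21)) = (LP (LK LD1_c14 LD2_c53 LD3_c30)) :=
  Lre_e IH (LK LD1_c24 LD2_c40 LD3_c21) (LK LD1_c14 LD2_c53 LD3_c30) Lrfl Lrfl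
theorem f600928 : Led Lsl_df (LP (LK LD1_c20 LD2_c32 LD3_c39)) = (LP (LK LD1_c24 LD2_c40 LD3_c21)) :=
  Lgr Lrot168 (Lpe (f600916 IH) (Lpr_df (f600912 IH) (Lpr_et (f281791 IH) (Lpe (K39.f181374 IH) (Lpe (f181390 IH) (Lpr_dt (f552891 IH) (Lpe (K29.f425490 IH) (Lpe (f425536 IH) (Lpe (f526609 IH) (Lpe (f471434 IH) (Lpn (LP (LK LD1_c24 LD2_c40 LD3_c21)))))))))))))
theorem f471429 : Led Lsl_et (LP (LK LD1_c14 LD2_c53 LD3_c30)) = (LP (LK LD1_c24 LD2_c40 LD3_c21)) :=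
  Lre_e IH (LK LD1_c14 LD2_c53 LD3_c30) (LK LD1_c24 LD2_c40 LD3_c21) Lrfl Lrfl
theorem f471398 : Led Lsl_dt (LP (LK LD1_c7 LD2_c53 LD3_c48)) = (LP (LK LD1_c7 LD2_c16 LD3_c58)) :=
  Lgr Lrot42 (Lpr_df (K33.f471392 IH) (Lpn (LP (LK LD1_c7 LD2_c16 LD3_c58))))
theorem f458591 : Led Lsl_bt (LP (LK LD1_c14 LD2_c53 LD3_c30)) = (LP (LK LD1_c7 LD2_c53 LD3_c48)) :=
  Lre_b IH (LK LD1_c14 LD2_c53 LD3_c30) (LK LD1_c7 LD2_c53 LD3_c48) Lrfl Lrfl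
theorem f471426 : Led Lsl_bt (LP (LK LD1_c7 LD2_c16 LD3_c58)) = (LP (LK LD1_c13 LD2_c46 LD3_c48)) :=
  Lre_b IH (LK LD1_c7 LD2_c16 LD3_c58) (LK LD1_c13 LD2_c46 LD3_c48) Lrfl Lrfl
theorem f471427 : Led Lsl_df (LP (LK LD1_c14 LD2_c53 LD3_c30)) = (LP (LK LD1_c13 LD2_c46 LD3_c48)) :=
  Lgr Lrot12 (Lpr_bt (f458591 IH) (Lpr_dt (f471398 IH) (Lpr_bt (f471426 IH) (Lpn (LP (LK LD1_c13 LD2_c46 LD3_c48))))))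
theorem f471430 : Led Lsl_et (LP (LK LD1_c7 LD2_c16 LD3_c56)) = (LP (LK LD1_c13 LD2_c46 LD3_c48)) :=
  Lre_e IH (LK LD1_c7 LD2_c16 LD3_c56) (LK LD1_c13 LD2_c46 LD3_c48) Lrfl Lrfl
theorem f471431 : Led Lsl_dt (LP (LK LD1_c13 LD2_c46 LD3_c47)) = (LP (LK LD1_c7 LD2_c16 LD3_c56)) :=
  Lre_d IH (LK LD1_c13 LD2_c46 LD3_c47) (LK LD1_c7 LD2_c16 LD3_c56) Lrfl Lrfl
theorem f600934 : Led Lsl_et (LP (LK LD1_c20 LD2_c32 LD3_c39)) = (LP (LK LD1_c13 LD2_c46 LD3_c47)) :=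
  Lgr Lrot71 (Lpr_df (f600928 IH) (Lpe (f471429 IH) (Lpr_df (f471427 IH) (Lpe (f471430 IH) (Lpe (f471431 IH) (Lpn (LP (LK LD1_c13 LD2_c46 LD3_c47))))))))
theorem f600938 : Led Lsl_ef (LP (LK LD1_c20 LD2_c32 LD3_c39)) = (LP (LK LD1_c13 LD2_c46 LD3_c47)) :=
  Lgr Lrot88 (Lpr_et (f600934 IH) (Lpn (LP (LK LD1_c13 LD2_c46 LD3_c47))))
theorem f497685 : Led Lsl_et (LP (LK LD1_c3 LD2_c39 LD3_c20)) = (LP (LK LD1_c7 LD2_c18 LD3_c54)) :=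
  Lre_e IH (LK LD1_c3 LD2_c39 LD3_c20) (LK LD1_c7 LD2_c18 LD3_c54) Lrfl Lrfl
theorem f557124 : Led Lsl_et (LP (LK LD1_c13 LD2_c50 LD3_c20)) = (LP (LK LD1_c10 LD2_c18 LD3_c24)) :=
  Lgr Lrot71 (Lpe (K43.f499805 IH) (Lpe (f497685 IH) (Lpe (K39.f548894 IH) (Lpr_ef (K39.f557122 IH) (Lpe (K43.f421687 IH) (Lpn (LP (LK LD1_c10 LD2_c18 LD3_c24))))))))
theorem f155618 : Led Lsl_dt (LP (LK LD1_c13 LD2_c50 LD3_c20)) = (LP (LK LD1_c7 LD2_c18 LD3_c54)) :=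
  Lre_d IH (LK LD1_c13 LD2_c50 LD3_c20) (LK LD1_c7 LD2_c18 LD3_c54) Lrfl Lrfl
theorem f600940 : Led Lsl_gf (LP (LK LD1_c7 LD2_c18 LD3_c54)) = (LP (LK LD1_c7 LD2_c16 LD3_c56)) :=
  Lgr Lrot145 (Lpe (f155618 IH) (Lpr_et (f557124 IH) (Lpe (K39.f557114 IH) (Lpr_dt (K39.f553898 IH) (Lpr_gt (K39.f55871 IH) (Lpr_df (K45.f573957 IH) (Lpr_et (K45.f590343 IH) (Lpr_gt (f600916 IH) (Lpr_ef (f600938 IH) (Lpr_dt (f471431 IH) (Lpn (LP (LK LD1_c7 LD2_c16 LD3_c56)))))))))))))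
theorem f483035 : Led Lsl_bt (LP (LK LD1_c3 LD2_c38 LD3_c17)) = (LP (LK LD1_c7 LD2_c16 LD3_c56)) :=
  Lre_b IH (LK LD1_c3 LD2_c38 LD3_c17) (LK LD1_c7 LD2_c16 LD3_c56) Lrfl Lrfl
theorem f456436 : Led Lsl_ct (LP (LK LD1_c3 LD2_c38 LD3_c54)) = (LP (LK LD1_c7 LD2_c18 LD3_c4)) :=
  Lre_c IH (LK LD1_c3 LD2_c38 LD3_c54) (LK LD1_c7 LD2_c18 LD3_c4) Lrfl Lrfl
theorem f608718 : Led Lsl_gf (LP (LK LD1_c7 LD2_c18 LD3_c4)) = (LP (LK LD1_c7 LD2_c28 LD3_c53)) :=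
  Lgr Lrot126 (Lpe (f456436 IH) (Lpr_bt (K34.f467092 IH) (Lpr_gt (K28.f4414 IH) (Lpe (K29.f466984 IH) (Lpe (K28.f467374 IH) (Lpr_cf (K34.f483036 IH) (Lpr_bt (f483035 IH) (Lpe (f600940 IH) (Lpe (f608706 IH) (Lpr_ct (f608716 IH) (Lpn (LP (LK LD1_c7 LD2_c28 LD3_c53)))))))))))))
theorem f467981 : Led Lsl_gt (LP (LK LD1_c7 LD2_c18 LD3_c4)) = (LP (LK LD1_c13 LD2_c48 LD3_c58)) :=
  Lre_g IH (LK LD1_c7 LD2_c18 LD3_c4) (LK LD1_c13 LD2_c48 LD3_c58) Lrfl Lrfl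
theorem f485074 : Led Lsl_bt (LP (LK LD1_c13 LD2_c33 LD3_c32)) = (LP (LK LD1_c13 LD2_c9 LD3_c16)) :=
  Lgr Lrot35 (Lpr_ff (K33.f485071 IH) (Lpr_bf (K33.f144893 IH) (Lpr_ff (K33.f481826 IH) (Lpn (LP (LK LD1_c13 LD2_c9 LD3_c16))))))
theorem f97948 : Led Lsl_ct (LP (LK LD1_c7 LD2_c42 LD3_c45)) = (LP (LK LD1_c14 LD2_c32 LD3_c19)) :=
  Lre_c IH (LK LD1_c7 LD2_c42 LD3_c45) (LK LD1_c14 LD2_c32 LD3_c19) Lrfl Lrfl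
theorem f543166 : Led Lsl_gf (LP (LK LD1_c20 LD2_c25 LD3_c39)) = (LP (LK LD1_c14 LD2_c32 LD3_c19)) :=
  Lgr Lrot129 (Lpr_cf (K37.f543160 IH) (Lpr_bt (f485074 IH) (Lpr_gt (K33.f477125 IH) (Lpe (K29.f477006 IH) (Lpr_ct (K32.f477009 IH) (Lpe (K33.f480544 IH) (Lpe (K29.f120956 IH) (Lpr_bt (K29.f97955 IH) (Lpr_gt (K33.f97944 IH) (Lpr_ct (f97948 IH) (Lpn (LP (LK LD1_c14 LD2_c32 LD3_c19)))))))))))))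
theorem f478024 : Led Lsl_dt (LP (LK LD1_c13 LD2_c33 LD3_c32)) = (LP (LK LD1_c22 LD2_c56 LD3_c21)) :=
  Lre_d IH (LK LD1_c13 LD2_c33 LD3_c32) (LK LD1_c22 LD2_c56 LD3_c21) Lrfl Lrfl
theorem f485080 : Led Lsl_ct (LP (LK LD1_c30 LD2_c48 LD3_c37)) = (LP (LK LD1_c22 LD2_c56 LD3_c21)) :=
  Lre_c IH (LK LD1_c30 LD2_c48 LD3_c37) (LK LD1_c22 LD2_c56 LD3_c21) Lrfl Lrfl
theorem f478141 : Led Lsl_gt (LP (LK LD1_c7 LD2_c42 LD3_c47)) = (LP (LK LD1_c14 LD2_c32 LD3_c25)) :=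
  Lre_g IH (LK LD1_c7 LD2_c42 LD3_c47) (LK LD1_c14 LD2_c32 LD3_c25) Lrfl Lrfl
theorem f480551 : Led Lsl_ct (LP (LK LD1_c14 LD2_c32 LD3_c25)) = (LP (LK LD1_c24 LD2_c14 LD3_c40)) :=
  Lre_c IH (LK LD1_c14 LD2_c32 LD3_c25) (LK LD1_c24 LD2_c14 LD3_c40) Lrfl Lrfl
theorem f543168 : Led Lsl_gf (LP (LK LD1_c30 LD2_c48 LD3_c37)) = (LP (LK LD1_c24 LD2_c14 LD3_c40)) :=
  Lgr Lrot104 (Lpr_ct (f485080 IH) (Lpe (f478024 IH) (Lpe (K37.f543164 IH) (Lpr_gf (f543166 IH) (Lpe (f97948 IH) (Lpe (K33.f97944 IH) (Lpe (K33.f97946 IH) (Lpr_gt (f478141 IH) (Lpr_ct (f480551 IH) (Lpn (LP (LK LD1_c24 LD2_c14 LD3_c40))))))))))))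
theorem f485073 : Led Lsl_ct (LP (LK LD1_c22 LD2_c56 LD3_c21)) = (LP (LK LD1_c30 LD2_c48 LD3_c37)) :=
  Lre_c IH (LK LD1_c22 LD2_c56 LD3_c21) (LK LD1_c30 LD2_c48 LD3_c37) Lrfl Lrfl
theorem f485076 : Led Lsl_ft (LP (LK LD1_c22 LD2_c56 LD3_c21)) = (LP (LK LD1_c14 LD2_c22 LD3_c41)) :=
  Lgr Lrot54 (Lpe (f478024 IH) (Lpr_ff (K33.f485071 IH) (Lpe (K8.f144895 IH) (Lpn (LP (LK LD1_c14 LD2_c22 LD3_c41))))))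
theorem f477154 : Led Lsl_dt (LP (LK LD1_c22 LD2_c21 LD3_c54)) = (LP (LK LD1_c13 LD2_c9 LD3_c16)) :=
  Lre_d IH (LK LD1_c22 LD2_c21 LD3_c54) (LK LD1_c13 LD2_c9 LD3_c16) Lrfl Lrfl
theorem f481828 : Led Lsl_ft (LP (LK LD1_c23 LD2_c24 LD3_c3)) = (LP (LK LD1_c22 LD2_c21 LD3_c54)) :=
  Lgr Lrot54 (Lpe (K8.f123475 IH) (Lpr_ff (K33.f481826 IH) (Lpe (f477154 IH) (Lpn (LP (LK LD1_c22 LD2_c21 LD3_c54))))))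
theorem f485078 : Led Lsl_bf (LP (LK LD1_c22 LD2_c56 LD3_c21)) = (LP (LK LD1_c22 LD2_c21 LD3_c54)) :=
  Lgr Lrot61 (Lpr_ft (f485076 IH) (Lpr_bt (K8.f144898 IH) (Lpr_ft (f481828 IH) (Lpn (LP (LK LD1_c22 LD2_c21 LD3_c54))))))
theorem f485085 : Led Lsl_bt (LP (LK LD1_c22 LD2_c56 LD3_c21)) = (LP (LK LD1_c22 LD2_c21 LD3_c54)) :=
  Lgr Lrot127 (Lpr_bf (f485078 IH) (Lpn (LP (LK LD1_c22 LD2_c21 LD3_c54))))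
theorem f97837 : Led Lsl_ct (LP (LK LD1_c3 LD2_c50 LD3_c52)) = (LP (LK LD1_c7 LD2_c42 LD3_c52)) :=
  Lre_c IH (LK LD1_c3 LD2_c50 LD3_c52) (LK LD1_c7 LD2_c42 LD3_c52) Lrfl Lrfl
theorem f97717 : Led Lsl_dt (LP (LK LD1_c1 LD2_c52 LD3_c18)) = (LP (LK LD1_c3 LD2_c50 LD3_c52)) :=
  Lre_d IH (LK LD1_c1 LD2_c52 LD3_c18) (LK LD1_c3 LD2_c50 LD3_c52) Lrfl Lrfl
theorem f97845 : Led Lsl_ct (LP (LK LD1_c7 LD2_c42 LD3_c52)) = (LP (LK LD1_c3 LD2_c50 LD3_c52)) :=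
  Lre_c IH (LK LD1_c7 LD2_c42 LD3_c52) (LK LD1_c3 LD2_c50 LD3_c52) Lrfl Lrfl
theorem f95033 : Led Lsl_gt (LP (LK LD1_c6 LD2_c55 LD3_c39)) = (LP (LK LD1_c3 LD2_c26 LD3_c54)) :=
  Lre_g IH (LK LD1_c6 LD2_c55 LD3_c39) (LK LD1_c3 LD2_c26 LD3_c54) Lrfl Lrfl
theorem f476903 : Led Lsl_gf (LP (LK LD1_c6 LD2_c55 LD3_c39)) = (LP (LK LD1_c7 LD2_c16 LD3_c20)) :=
  Lgr Lrot47 (Lpr_gt (f95033 IH) (Lpe (K8.f136566 IH) (Lpr_ff (f476892 IH) (Lpn (LP (LK LD1_c7 LD2_c16 LD3_c20))))))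
theorem f95044 : Led Lsl_ct (LP (LK LD1_c6 LD2_c55 LD3_c39)) = (LP (LK LD1_c13 LD2_c9 LD3_c24)) :=
  Lre_c IH (LK LD1_c6 LD2_c55 LD3_c39) (LK LD1_c13 LD2_c9 LD3_c24) Lrfl Lrfl
theorem f480547 : Led Lsl_gf (LP (LK LD1_c7 LD2_c42 LD3_c52)) = (LP (LK LD1_c13 LD2_c9 LD3_c24)) :=
  Lgr Lrot104 (Lpr_ct (f97845 IH) (Lpe (f97717 IH) (Lpr_cf (K29.f440574 IH) (Lpr_gf (K33.f480544 IH) (Lpe (K32.f477009 IH) (Lpr_gf (K29.f477000 IH) (Lpe (f457328 IH) (Lpe (f476903 IH) (Lpr_ct (f95044 IH) (Lpn (LP (LK LD1_c13 LD2_c9 LD3_c24))))))))))))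
theorem f95040 : Led Lsl_bt (LP (LK LD1_c6 LD2_c55 LD3_c39)) = (LP (LK LD1_c13 LD2_c9 LD3_c23)) :=
  Lre_b IH (LK LD1_c6 LD2_c55 LD3_c39) (LK LD1_c13 LD2_c9 LD3_c23) Lrfl Lrfl
theorem f543176 : Led Lsl_gt (LP (LK LD1_c22 LD2_c21 LD3_c54)) = (LP (LK LD1_c13 LD2_c9 LD3_c23)) :=
  Lgr Lrot164 (Lpe (f485085 IH) (Lpr_ct (f485073 IH) (Lpr_gf (f543168 IH) (Lpe (f480551 IH) (Lpe (f478141 IH) (Lpe (K5.f97833 IH) (Lpr_ct (f97837 IH) (Lpr_gf (f480547 IH) (Lpe (f95044 IH) (Lpr_bt (f95040 IH) (Lpn (LP (LK LD1_c13 LD2_c9 LD3_c23)))))))))))))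
theorem f132141 : Led Lsl_dt (LP (LK LD1_c23 LD2_c24 LD3_c3)) = (LP (LK LD1_c13 LD2_c53 LD3_c53)) :=
  Lre_d IH (LK LD1_c23 LD2_c24 LD3_c3) (LK LD1_c13 LD2_c53 LD3_c53) Lrfl Lrfl
theorem f477153 : Led Lsl_dt (LP (LK LD1_c13 LD2_c9 LD3_c16)) = (LP (LK LD1_c22 LD2_c21 LD3_c54)) :=
  Lre_d IH (LK LD1_c13 LD2_c9 LD3_c16) (LK LD1_c22 LD2_c21 LD3_c54) Lrfl Lrfl
theorem f481832 : Led Lsl_ff (LP (LK LD1_c23 LD2_c24 LD3_c3)) = (LP (LK LD1_c22 LD2_c21 LD3_c54)) :=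
  Lgr Lrot19 (Lpr_dt (f132141 IH) (Lpr_ft (K33.f481830 IH) (Lpr_dt (f477153 IH) (Lpn (LP (LK LD1_c22 LD2_c21 LD3_c54))))))
theorem f543178 : Led Lsl_gf (LP (LK LD1_c22 LD2_c19 LD3_c52)) = (LP (LK LD1_c13 LD2_c9 LD3_c23)) :=
  Lgr Lrot76 (Lpe (K8.f162074 IH) (Lpr_ff (f481832 IH) (Lpr_gt (f543176 IH) (Lpn (LP (LK LD1_c13 LD2_c9 LD3_c23))))))
theorem f162933 : Led Lsl_et (LP (LK LD1_c6 LD2_c53 LD3_c6)) = (LP (LK LD1_c13 LD2_c5 LD3_c13)) :=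
  Lre_e IH (LK LD1_c6 LD2_c53 LD3_c6) (LK LD1_c13 LD2_c5 LD3_c13) Lrfl Lrfl
theorem f95036 : Led Lsl_et (LP (LK LD1_c6 LD2_c53 LD3_c30)) = (LP (LK LD1_c3 LD2_c25 LD3_c47)) :=
  Lre_e IH (LK LD1_c6 LD2_c53 LD3_c30) (LK LD1_c3 LD2_c25 LD3_c47) Lrfl Lrfl
theorem f95037 : Led Lsl_df (LP (LK LD1_c6 LD2_c55 LD3_c39)) = (LP (LK LD1_c6 LD2_c53 LD3_c30)) :=
  Lgr Lrot170 (Lpr_gt (f95033 IH) (Lpe (K34.f95032 IH) (Lpr_et (K33.f95031 IH) (Lpe (K3.f95025 IH) (Lpr_dt (K3.f94985 IH) (Lpr_gt (K3.f94626 IH) (Lpe (K3.f94222 IH) (Lpr_et (K35.f95034 IH) (Lpr_gt (K34.f95035 IH) (Lpe (f95036 IH) (Lpn (LP (LK LD1_c6 LD2_c53 LD3_c30)))))))))))))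
theorem f95047 : Led Lsl_et (LP (LK LD1_c6 LD2_c55 LD3_c39)) = (LP (LK LD1_c13 LD2_c9 LD3_c25)) :=
  Lre_e IH (LK LD1_c6 LD2_c55 LD3_c39) (LK LD1_c13 LD2_c9 LD3_c25) Lrfl Lrfl
theorem f95048 : Led Lsl_et (LP (LK LD1_c3 LD2_c25 LD3_c47)) = (LP (LK LD1_c6 LD2_c53 LD3_c30)) :=
  Lre_e IH (LK LD1_c3 LD2_c25 LD3_c47) (LK LD1_c6 LD2_c53 LD3_c30) Lrfl Lrfl
theorem f95051 : Led Lsl_dt (LP (LK LD1_c13 LD2_c9 LD3_c25)) = (LP (LK LD1_c13 LD2_c5 LD3_c58)) :=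
  Lgr Lrot77 (Lpe (f95047 IH) (Lpr_df (f95037 IH) (Lpe (f95048 IH) (Lpe (K35.f95049 IH) (Lpe (K35.f95050 IH) (Lpn (LP (LK LD1_c13 LD2_c5 LD3_c58))))))))
theorem f95067 : Led Lsl_ft (LP (LK LD1_c22 LD2_c22 LD3_c5)) = (LP (LK LD1_c13 LD2_c9 LD3_c25)) :=
  Lre_f IH (LK LD1_c22 LD2_c22 LD3_c5) (LK LD1_c13 LD2_c9 LD3_c25) Lrfl Lrfl
theorem f95068 : Led Lsl_ft (LP (LK LD1_c13 LD2_c5 LD3_c58)) = (LP (LK LD1_c22 LD2_c17 LD3_c4)) :=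
  Lre_f IH (LK LD1_c13 LD2_c5 LD3_c58) (LK LD1_c22 LD2_c17 LD3_c4) Lrfl Lrfl
theorem f95069 : Led Lsl_df (LP (LK LD1_c22 LD2_c22 LD3_c5)) = (LP (LK LD1_c22 LD2_c17 LD3_c4)) :=
  Lgr Lrot78 (Lpr_ft (f95067 IH) (Lpr_dt (f95051 IH) (Lpr_ft (f95068 IH) (Lpn (LP (LK LD1_c22 LD2_c17 LD3_c4))))))
theorem f95090 : Led Lsl_dt (LP (LK LD1_c22 LD2_c22 LD3_c5)) = (LP (LK LD1_c22 LD2_c17 LD3_c4)) :=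
  Lgr Lrot42 (Lpr_df (f95069 IH) (Lpn (LP (LK LD1_c22 LD2_c17 LD3_c4))))
theorem f95093 : Led Lsl_bt (LP (LK LD1_c30 LD2_c27 LD3_c24)) = (LP (LK LD1_c22 LD2_c22 LD3_c5)) :=
  Lre_b IH (LK LD1_c30 LD2_c27 LD3_c24) (LK LD1_c22 LD2_c22 LD3_c5) Lrfl Lrfl
theorem f95095 : Led Lsl_df (LP (LK LD1_c30 LD2_c27 LD3_c24)) = (LP (LK LD1_c30 LD2_c24 LD3_c10)) :=
  Lgr Lrot12 (Lpr_bt (f95093 IH) (Lpr_dt (f95090 IH) (Lpr_bt (K35.f95094 IH) (Lpn (LP (LK LD1_c30 LD2_c24 LD3_c10))))))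
theorem f95097 : Led Lsl_ft (LP (LK LD1_c30 LD2_c27 LD3_c24)) = (LP (LK LD1_c22 LD2_c22 LD3_c3)) :=
  Lre_f IH (LK LD1_c30 LD2_c27 LD3_c24) (LK LD1_c22 LD2_c22 LD3_c3) Lrfl Lrfl
theorem f95098 : Led Lsl_ft (LP (LK LD1_c22 LD2_c16 LD3_c59)) = (LP (LK LD1_c30 LD2_c24 LD3_c10)) :=
  Lre_f IH (LK LD1_c22 LD2_c16 LD3_c59) (LK LD1_c30 LD2_c24 LD3_c10) Lrfl Lrfl
theorem f95099 : Led Lsl_dt (LP (LK LD1_c22 LD2_c22 LD3_c3)) = (LP (LK LD1_c22 LD2_c16 LD3_c59)) :=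
  Lgr Lrot60 (Lpe (f95097 IH) (Lpr_df (f95095 IH) (Lpe (f95098 IH) (Lpn (LP (LK LD1_c22 LD2_c16 LD3_c59))))))
theorem f95105 : Led Lsl_et (LP (LK LD1_c13 LD2_c9 LD3_c23)) = (LP (LK LD1_c22 LD2_c22 LD3_c3)) :=
  Lre_e IH (LK LD1_c13 LD2_c9 LD3_c23) (LK LD1_c22 LD2_c22 LD3_c3) Lrfl Lrfl
theorem f95107 : Led Lsl_dt (LP (LK LD1_c13 LD2_c5 LD3_c54)) = (LP (LK LD1_c6 LD2_c53 LD3_c28)) :=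
  Lre_d IH (LK LD1_c13 LD2_c5 LD3_c54) (LK LD1_c6 LD2_c53 LD3_c28) Lrfl Lrfl
theorem f95108 : Led Lsl_et (LP (LK LD1_c6 LD2_c53 LD3_c28)) = (LP (LK LD1_c13 LD2_c5 LD3_c55)) :=
  Lre_e IH (LK LD1_c6 LD2_c53 LD3_c28) (LK LD1_c13 LD2_c5 LD3_c55) Lrfl Lrfl
theorem f95109 : Led Lsl_df (LP (LK LD1_c13 LD2_c9 LD3_c23)) = (LP (LK LD1_c13 LD2_c5 LD3_c55)) :=
  Lgr Lrot70 (Lpr_et (f95105 IH) (Lpr_dt (f95099 IH) (Lpr_et (K35.f95106 IH) (Lpr_dt (f95107 IH) (Lpr_et (f95108 IH) (Lpn (LP (LK LD1_c13 LD2_c5 LD3_c55))))))))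
theorem f95119 : Led Lsl_et (LP (LK LD1_c13 LD2_c5 LD3_c55)) = (LP (LK LD1_c6 LD2_c53 LD3_c28)) :=
  Lre_e IH (LK LD1_c13 LD2_c5 LD3_c55) (LK LD1_c6 LD2_c53 LD3_c28) Lrfl Lrfl
theorem f543180 : Led Lsl_gt (LP (LK LD1_c13 LD2_c5 LD3_c13)) = (LP (LK LD1_c6 LD2_c53 LD3_c28)) :=
  Lgr Lrot131 (Lpe (f162933 IH) (Lpr_dt (K36.f162927 IH) (Lpr_gf (K8.f158587 IH) (Lpr_df (K8.f162781 IH) (Lpe (K28.f162768 IH) (Lpe (K8.f144955 IH) (Lpr_dt (K8.f144973 IH) (Lpr_gf (f543178 IH) (Lpr_df (f95109 IH) (Lpr_et (f95119 IH) (Lpn (LP (LK LD1_c6 LD2_c53 LD3_c28)))))))))))))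
theorem f122297 : Led Lsl_et (LP (LK LD1_c13 LD2_c5 LD3_c13)) = (LP (LK LD1_c6 LD2_c53 LD3_c6)) :=
  Lre_e IH (LK LD1_c13 LD2_c5 LD3_c13) (LK LD1_c6 LD2_c53 LD3_c6) Lrfl Lrfl
theorem f162944 : Led Lsl_et (LP (LK LD1_c7 LD2_c22 LD3_c61)) = (LP (LK LD1_c13 LD2_c57 LD3_c41)) :=
  Lre_e IH (LK LD1_c7 LD2_c22 LD3_c61) (LK LD1_c13 LD2_c57 LD3_c41) Lrfl Lrfl
theorem f162945 : Led Lsl_cf (LP (LK LD1_c13 LD2_c5 LD3_c13)) = (LP (LK LD1_c13 LD2_c57 LD3_c41)) :=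
  Lgr Lrot39 (Lpr_et (f122297 IH) (Lpr_ct (K8.f162938 IH) (Lpr_et (f162944 IH) (Lpn (LP (LK LD1_c13 LD2_c57 LD3_c41))))))
theorem f147334 : Led Lsl_bt (LP (LK LD1_c13 LD2_c57 LD3_c41)) = (LP (LK LD1_c7 LD2_c23 LD3_c0)) :=
  Lre_b IH (LK LD1_c13 LD2_c57 LD3_c41) (LK LD1_c7 LD2_c23 LD3_c0) Lrfl Lrfl
theorem f543182 : Led Lsl_gf (LP (LK LD1_c7 LD2_c23 LD3_c0)) = (LP (LK LD1_c3 LD2_c41 LD3_c38)) :=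
  Lgr Lrot124 (Lpe (f147334 IH) (Lpe (f162945 IH) (Lpr_gt (f543180 IH) (Lpe (K35.f483503 IH) (Lpr_bt (K34.f483489 IH) (Lpr_gt (K29.f4533 IH) (Lpe (K34.f483464 IH) (Lpr_gt (K34.f482592 IH) (Lpe (K33.f456462 IH) (Lpr_bt (K34.f456458 IH) (Lpn (LP (LK LD1_c3 LD2_c41 LD3_c38)))))))))))))
theorem f162942 : Led Lsl_et (LP (LK LD1_c13 LD2_c57 LD3_c41)) = (LP (LK LD1_c7 LD2_c22 LD3_c61)) :=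
  Lre_e IH (LK LD1_c13 LD2_c57 LD3_c41) (LK LD1_c7 LD2_c22 LD3_c61) Lrfl Lrfl
theorem f124007 : Led Lsl_et (LP (LK LD1_c7 LD2_c28 LD3_c30)) = (LP (LK LD1_c14 LD2_c6 LD3_c37)) :=
  Lre_e IH (LK LD1_c7 LD2_c28 LD3_c30) (LK LD1_c14 LD2_c6 LD3_c37) Lrfl Lrfl
theorem f497866 : Led Lsl_af (LP (LK LD1_c13 LD2_c57 LD3_c41)) = (LP (LK LD1_c14 LD2_c6 LD3_c37)) :=
  Lgr Lrot50 (Lpr_et (f162942 IH) (Lpr_at (K32.f497860 IH) (Lpr_et (f124007 IH) (Lpn (LP (LK LD1_c14 LD2_c6 LD3_c37))))))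
theorem f497868 : Led Lsl_at (LP (LK LD1_c13 LD2_c57 LD3_c41)) = (LP (LK LD1_c14 LD2_c6 LD3_c37)) :=
  Lgr Lrot100 (Lpr_af (f497866 IH) (Lpn (LP (LK LD1_c14 LD2_c6 LD3_c37))))
theorem f147340 : Led Lsl_bt (LP (LK LD1_c7 LD2_c23 LD3_c0)) = (LP (LK LD1_c13 LD2_c57 LD3_c41)) :=
  Lre_b IH (LK LD1_c7 LD2_c23 LD3_c0) (LK LD1_c13 LD2_c57 LD3_c41) Lrfl Lrfl
theorem f497930 : Led Lsl_at (LP (LK LD1_c7 LD2_c28 LD3_c53)) = (LP (LK LD1_c7 LD2_c23 LD3_c0)) :=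
  Lgr Lrot67 (Lpe (f155584 IH) (Lpr_af (K32.f497926 IH) (Lpe (K32.f123972 IH) (Lpe (f497868 IH) (Lpe (f147340 IH) (Lpn (LP (LK LD1_c7 LD2_c23 LD3_c0))))))))
theorem f456552 : Led Lsl_gt (LP (LK LD1_c7 LD2_c23 LD3_c57)) = (LP (LK LD1_c3 LD2_c41 LD3_c38)) :=
  Lre_g IH (LK LD1_c7 LD2_c23 LD3_c57) (LK LD1_c3 LD2_c41 LD3_c38) Lrfl Lrfl
theorem f543184 : Led Lsl_ff (LP (LK LD1_c7 LD2_c28 LD3_c53)) = (LP (LK LD1_c7 LD2_c23 LD3_c57)) :=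
  Lgr Lrot52 (Lpr_at (f497930 IH) (Lpr_gf (f543182 IH) (Lpe (f456552 IH) (Lpn (LP (LK LD1_c7 LD2_c23 LD3_c57))))))
theorem f543189 : Led Lsl_ft (LP (LK LD1_c7 LD2_c28 LD3_c53)) = (LP (LK LD1_c7 LD2_c23 LD3_c57)) :=
  Lgr Lrot48 (Lpr_ff (f543184 IH) (Lpn (LP (LK LD1_c7 LD2_c23 LD3_c57))))
theorem f608720 : Led Lsl_af (LP (LK LD1_c13 LD2_c48 LD3_c58)) = (LP (LK LD1_c7 LD2_c23 LD3_c57)) :=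
  Lgr Lrot31 (Lpe (f467981 IH) (Lpr_gf (f608718 IH) (Lpr_ft (f543189 IH) (Lpn (LP (LK LD1_c7 LD2_c23 LD3_c57))))))
theorem f147323 : Led Lsl_et (LP (LK LD1_c3 LD2_c41 LD3_c17)) = (LP (LK LD1_c7 LD2_c23 LD3_c0)) :=
  Lre_e IH (LK LD1_c3 LD2_c41 LD3_c17) (LK LD1_c7 LD2_c23 LD3_c0) Lrfl Lrfl
theorem f147198 : Led Lsl_et (LP (LK LD1_c7 LD2_c28 LD3_c53)) = (LP (LK LD1_c3 LD2_c44 LD3_c1)) :=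
  Lre_e IH (LK LD1_c7 LD2_c28 LD3_c53) (LK LD1_c3 LD2_c44 LD3_c1) Lrfl Lrfl
theorem f497888 : Led Lsl_at (LP (LK LD1_c7 LD2_c23 LD3_c0)) = (LP (LK LD1_c7 LD2_c28 LD3_c53)) :=
  Lgr Lrot80 (Lpe (f147323 IH) (Lpr_af (K32.f497864 IH) (Lpe (f147198 IH) (Lpn (LP (LK LD1_c7 LD2_c28 LD3_c53))))))
theorem f608740 : Led Lsl_ft (LP (LK LD1_c13 LD2_c48 LD3_c58)) = (LP (LK LD1_c7 LD2_c23 LD3_c0)) :=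
  Lgr Lrot101 (Lpr_af (f608720 IH) (Lpe (f543189 IH) (Lpe (f497888 IH) (Lpn (LP (LK LD1_c7 LD2_c23 LD3_c0))))))
theorem f608744 : Led Lsl_ff (LP (LK LD1_c13 LD2_c48 LD3_c58)) = (LP (LK LD1_c7 LD2_c23 LD3_c0)) :=
  Lgr Lrot3 (Lpr_ft (f608740 IH) (Lpn (LP (LK LD1_c7 LD2_c23 LD3_c0))))
theorem f511511 : Led Lsl_dt (LP (LK LD1_c13 LD2_c48 LD3_c58)) = (LP (LK LD1_c23 LD2_c17 LD3_c41)) :=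
  Lre_d IH (LK LD1_c13 LD2_c48 LD3_c58) (LK LD1_c23 LD2_c17 LD3_c41) Lrfl Lrfl
theorem f147338 : Led Lsl_dt (LP (LK LD1_c13 LD2_c57 LD3_c42)) = (LP (LK LD1_c7 LD2_c23 LD3_c0)) :=
  Lre_d IH (LK LD1_c13 LD2_c57 LD3_c42) (LK LD1_c7 LD2_c23 LD3_c0) Lrfl Lrfl
theorem f608748 : Led Lsl_ft (LP (LK LD1_c23 LD2_c17 LD3_c41)) = (LP (LK LD1_c13 LD2_c57 LD3_c42)) :=
  Lgr Lrot54 (Lpe (f511511 IH) (Lpr_ff (f608744 IH) (Lpe (f147338 IH) (Lpn (LP (LK LD1_c13 LD2_c57 LD3_c42))))))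
theorem f155587 : Led Lsl_dt (LP (LK LD1_c14 LD2_c7 LD3_c21)) = (LP (LK LD1_c7 LD2_c28 LD3_c53)) :=
  Lre_d IH (LK LD1_c14 LD2_c7 LD3_c21) (LK LD1_c7 LD2_c28 LD3_c53) Lrfl Lrfl
theorem f155588 : Led Lsl_bt (LP (LK LD1_c13 LD2_c57 LD3_c3)) = (LP (LK LD1_c14 LD2_c7 LD3_c21)) :=
  Lgr Lrot95 (Lpe (K32.f123677 IH) (Lpr_bf (f155582 IH) (Lpe (f155587 IH) (Lpn (LP (LK LD1_c14 LD2_c7 LD3_c21))))))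
theorem f155590 : Led Lsl_bf (LP (LK LD1_c13 LD2_c57 LD3_c3)) = (LP (LK LD1_c14 LD2_c7 LD3_c21)) :=
  Lgr Lrot24 (Lpr_bt (f155588 IH) (Lpn (LP (LK LD1_c14 LD2_c7 LD3_c21))))
theorem f497879 : Led Lsl_bt (LP (LK LD1_c14 LD2_c6 LD3_c40)) = (LP (LK LD1_c23 LD2_c40 LD3_c39)) :=
  Lre_b IH (LK LD1_c14 LD2_c6 LD3_c40) (LK LD1_c23 LD2_c40 LD3_c39) Lrfl Lrfl
theorem f162943 : Led Lsl_dt (LP (LK LD1_c13 LD2_c57 LD3_c41)) = (LP (LK LD1_c23 LD2_c29 LD3_c37)) :=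
  Lre_d IH (LK LD1_c13 LD2_c57 LD3_c41) (LK LD1_c23 LD2_c29 LD3_c37) Lrfl Lrfl
theorem f124006 : Led Lsl_dt (LP (LK LD1_c23 LD2_c40 LD3_c39)) = (LP (LK LD1_c14 LD2_c6 LD3_c37)) :=
  Lre_d IH (LK LD1_c23 LD2_c40 LD3_c39) (LK LD1_c14 LD2_c6 LD3_c37) Lrfl Lrfl
theorem f497872 : Led Lsl_at (LP (LK LD1_c23 LD2_c29 LD3_c37)) = (LP (LK LD1_c23 LD2_c40 LD3_c39)) :=
  Lgr Lrot51 (Lpe (f162943 IH) (Lpr_af (f497866 IH) (Lpe (f124006 IH) (Lpn (LP (LK LD1_c23 LD2_c40 LD3_c39))))))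
theorem f497874 : Led Lsl_af (LP (LK LD1_c23 LD2_c29 LD3_c37)) = (LP (LK LD1_c23 LD2_c40 LD3_c39)) :=
  Lgr Lrot0 (Lpr_at (f497872 IH) (Lpn (LP (LK LD1_c23 LD2_c40 LD3_c39))))
theorem f497878 : Led Lsl_bt (LP (LK LD1_c23 LD2_c29 LD3_c37)) = (LP (LK LD1_c13 LD2_c57 LD3_c42)) :=
  Lre_b IH (LK LD1_c23 LD2_c29 LD3_c37) (LK LD1_c13 LD2_c57 LD3_c42) Lrfl Lrfl
theorem f497938 : Led Lsl_af (LP (LK LD1_c14 LD2_c7 LD3_c21)) = (LP (LK LD1_c13 LD2_c57 LD3_c42)) :=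
  Lgr Lrot36 (Lpe (f155590 IH) (Lpr_at (K32.f497934 IH) (Lpr_bt (f497879 IH) (Lpe (f497874 IH) (Lpr_bt (f497878 IH) (Lpn (LP (LK LD1_c13 LD2_c57 LD3_c42))))))))
theorem f478297 : Led Lsl_bt (LP (LK LD1_c3 LD2_c38 LD3_c50)) = (LP (LK LD1_c7 LD2_c18 LD3_c4)) :=
  Lre_b IH (LK LD1_c3 LD2_c38 LD3_c50) (LK LD1_c7 LD2_c18 LD3_c4) Lrfl Lrfl
theorem f483520 : Led Lsl_bt (LP (LK LD1_c3 LD2_c41 LD3_c47)) = (LP (LK LD1_c7 LD2_c24 LD3_c14)) :=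
  Lre_b IH (LK LD1_c3 LD2_c41 LD3_c47) (LK LD1_c7 LD2_c24 LD3_c14) Lrfl Lrfl
theorem f483976 : Led Lsl_gt (LP (LK LD1_c7 LD2_c24 LD3_c14)) = (LP (LK LD1_c14 LD2_c0 LD3_c23)) :=
  Lre_g IH (LK LD1_c7 LD2_c24 LD3_c14) (LK LD1_c14 LD2_c0 LD3_c23) Lrfl Lrfl
theorem f484103 : Led Lsl_bt (LP (LK LD1_c7 LD2_c18 LD3_c32)) = (LP (LK LD1_c3 LD2_c39 LD3_c4)) :=
  Lre_b IH (LK LD1_c7 LD2_c18 LD3_c32) (LK LD1_c3 LD2_c39 LD3_c4) Lrfl Lrfl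
theorem f467635 : Led Lsl_bt (LP (LK LD1_c3 LD2_c39 LD3_c4)) = (LP (LK LD1_c7 LD2_c18 LD3_c32)) :=
  Lre_b IH (LK LD1_c3 LD2_c39 LD3_c4) (LK LD1_c7 LD2_c18 LD3_c32) Lrfl Lrfl
theorem f456509 : Led Lsl_bt (LP (LK LD1_c7 LD2_c24 LD3_c14)) = (LP (LK LD1_c3 LD2_c41 LD3_c47)) :=
  Lre_b IH (LK LD1_c7 LD2_c24 LD3_c14) (LK LD1_c3 LD2_c41 LD3_c47) Lrfl Lrfl
theorem f484013 : Led Lsl_ct (LP (LK LD1_c7 LD2_c18 LD3_c32)) = (LP (LK LD1_c7 LD2_c24 LD3_c14)) :=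
  Lgr Lrot83 (Lpe (f467635 IH) (Lpe (K29.f455915 IH) (Lpr_bf (K29.f484007 IH) (Lpe (K29.f483522 IH) (Lpe (f456509 IH) (Lpn (LP (LK LD1_c7 LD2_c24 LD3_c14))))))))
theorem f137156 : Led Lsl_gt (LP (LK LD1_c7 LD2_c1 LD3_c25)) = (LP (LK LD1_c3 LD2_c29 LD3_c54)) :=
  Lre_g IH (LK LD1_c7 LD2_c1 LD3_c25) (LK LD1_c3 LD2_c29 LD3_c54) Lrfl Lrfl
theorem f508605 : Led Lsl_bt (LP (LK LD1_c13 LD2_c19 LD3_c21)) = (LP (LK LD1_c7 LD2_c1 LD3_c25)) :=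
  Lre_b IH (LK LD1_c13 LD2_c19 LD3_c21) (LK LD1_c7 LD2_c1 LD3_c25) Lrfl Lrfl
theorem f528021 : Led Lsl_cf (LP (LK LD1_c14 LD2_c0 LD3_c23)) = (LP (LK LD1_c13 LD2_c19 LD3_c21)) :=
  Lgr Lrot58 (Lpe (f483976 IH) (Lpe (f484013 IH) (Lpr_bt (f484103 IH) (Lpr_gf (K34.f484099 IH) (Lpe (K34.f115929 IH) (Lpe (K34.f483495 IH) (Lpr_gf (K34.f528017 IH) (Lpe (K6.f137076 IH) (Lpe (f137156 IH) (Lpe (f508605 IH) (Lpn (LP (LK LD1_c13 LD2_c19 LD3_c21)))))))))))))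
theorem f528024 : Led Lsl_ct (LP (LK LD1_c14 LD2_c0 LD3_c23)) = (LP (LK LD1_c13 LD2_c19 LD3_c21)) :=
  Lgr Lrot59 (Lpr_cf (f528021 IH) (Lpn (LP (LK LD1_c13 LD2_c19 LD3_c21))))
theorem f155586 : Led Lsl_ct (LP (LK LD1_c7 LD2_c22 LD3_c41)) = (LP (LK LD1_c13 LD2_c57 LD3_c1)) :=
  Lre_c IH (LK LD1_c7 LD2_c22 LD3_c41) (LK LD1_c13 LD2_c57 LD3_c1) Lrfl Lrfl
theorem f608722 : Led Lsl_gt (LP (LK LD1_c13 LD2_c19 LD3_c21)) = (LP (LK LD1_c13 LD2_c57 LD3_c1)) :=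
  Lgr Lrot149 (Lpe (f528024 IH) (Lpe (f483976 IH) (Lpe (f483520 IH) (Lpr_ct (K29.f483522 IH) (Lpe (K29.f456433 IH) (Lpe (K33.f4423 IH) (Lpr_bt (f478297 IH) (Lpr_gf (f608718 IH) (Lpe (f155584 IH) (Lpr_ct (f155586 IH) (Lpn (LP (LK LD1_c13 LD2_c57 LD3_c1)))))))))))))
theorem f483622 : Led Lsl_dt (LP (LK LD1_c7 LD2_c24 LD3_c14)) = (LP (LK LD1_c14 LD2_c0 LD3_c26)) :=
  Lre_d IH (LK LD1_c7 LD2_c24 LD3_c14) (LK LD1_c14 LD2_c0 LD3_c26) Lrfl Lrfl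
theorem f483621 : Led Lsl_gt (LP (LK LD1_c14 LD2_c0 LD3_c26)) = (LP (LK LD1_c23 LD2_c33 LD3_c4)) :=
  Lre_g IH (LK LD1_c14 LD2_c0 LD3_c26) (LK LD1_c23 LD2_c33 LD3_c4) Lrfl Lrfl
theorem f155598 : Led Lsl_dt (LP (LK LD1_c13 LD2_c57 LD3_c3)) = (LP (LK LD1_c7 LD2_c22 LD3_c41)) :=
  Lre_d IH (LK LD1_c13 LD2_c57 LD3_c3) (LK LD1_c7 LD2_c22 LD3_c41) Lrfl Lrfl
theorem f155592 : Led Lsl_ct (LP (LK LD1_c23 LD2_c28 LD3_c51)) = (LP (LK LD1_c13 LD2_c57 LD3_c3)) :=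
  Lre_c IH (LK LD1_c23 LD2_c28 LD3_c51) (LK LD1_c13 LD2_c57 LD3_c3) Lrfl Lrfl
theorem f155597 : Led Lsl_gt (LP (LK LD1_c31 LD2_c4 LD3_c55)) = (LP (LK LD1_c23 LD2_c28 LD3_c51)) :=
  Lre_g IH (LK LD1_c31 LD2_c4 LD3_c55) (LK LD1_c23 LD2_c28 LD3_c51) Lrfl Lrfl
theorem f608726 : Led Lsl_ct (LP (LK LD1_c23 LD2_c33 LD3_c4)) = (LP (LK LD1_c31 LD2_c4 LD3_c55)) :=
  Lgr Lrot152 (Lpe (f483621 IH) (Lpe (f483622 IH) (Lpr_gt (f483976 IH) (Lpr_ct (f528024 IH) (Lpr_gt (f608722 IH) (Lpr_ct (f155600 IH) (Lpe (f155598 IH) (Lpe (f155592 IH) (Lpe (f155597 IH) (Lpn (LP (LK LD1_c31 LD2_c4 LD3_c55))))))))))))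
theorem f483942 : Led Lsl_bt (LP (LK LD1_c7 LD2_c24 LD3_c15)) = (LP (LK LD1_c14 LD2_c0 LD3_c26)) :=
  Lre_b IH (LK LD1_c7 LD2_c24 LD3_c15) (LK LD1_c14 LD2_c0 LD3_c26) Lrfl Lrfl
theorem f486067 : Led Lsl_bt (LP (LK LD1_c7 LD2_c21 LD3_c38)) = (LP (LK LD1_c13 LD2_c54 LD3_c60)) :=
  Lre_b IH (LK LD1_c7 LD2_c21 LD3_c38) (LK LD1_c13 LD2_c54 LD3_c60) Lrfl Lrfl
theorem f155596 : Led Lsl_ct (LP (LK LD1_c13 LD2_c57 LD3_c3)) = (LP (LK LD1_c23 LD2_c28 LD3_c51)) :=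
  Lre_c IH (LK LD1_c13 LD2_c57 LD3_c3) (LK LD1_c23 LD2_c28 LD3_c51) Lrfl Lrfl
theorem f608730 : Led Lsl_gf (LP (LK LD1_c13 LD2_c54 LD3_c60)) = (LP (LK LD1_c14 LD2_c7 LD3_c21)) :=
  Lgr Lrot124 (Lpe (f486067 IH) (Lpr_ct (K34.f456445 IH) (Lpe (K34.f484004 IH) (Lpe (K29.f4862 IH) (Lpr_bt (f483942 IH) (Lpr_gt (f483621 IH) (Lpr_ct (f608726 IH) (Lpr_gt (f155597 IH) (Lpe (f155596 IH) (Lpr_bt (f155588 IH) (Lpn (LP (LK LD1_c14 LD2_c7 LD3_c21)))))))))))))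
theorem f519258 : Led Lsl_at (LP (LK LD1_c23 LD2_c25 LD3_c27)) = (LP (LK LD1_c13 LD2_c54 LD3_c60)) :=
  Lre_a IH (LK LD1_c23 LD2_c25 LD3_c27) (LK LD1_c13 LD2_c54 LD3_c60) Lrfl Lrfl
theorem f13399 : Led Lsl_bt (LP (LK LD1_c7 LD2_c24 LD3_c5)) = (LP (LK LD1_c3 LD2_c41 LD3_c42)) :=
  Lre_b IH (LK LD1_c7 LD2_c24 LD3_c5) (LK LD1_c3 LD2_c41 LD3_c42) Lrfl Lrfl
theorem f515220 : Led Lsl_ff (LP (LK LD1_c7 LD2_c24 LD3_c5)) = (LP (LK LD1_c13 LD2_c54 LD3_c60)) :=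
  Lgr Lrot25 (Lpr_bt (f13399 IH) (Lpr_ft (K33.f515218 IH) (Lpr_bt (f486067 IH) (Lpn (LP (LK LD1_c13 LD2_c54 LD3_c60))))))
theorem f482533 : Led Lsl_at (LP (LK LD1_c7 LD2_c24 LD3_c5)) = (LP (LK LD1_c14 LD2_c0 LD3_c2)) :=
  Lre_a IH (LK LD1_c7 LD2_c24 LD3_c5) (LK LD1_c14 LD2_c0 LD3_c2) Lrfl Lrfl
theorem f519259 : Led Lsl_ft (LP (LK LD1_c14 LD2_c0 LD3_c2)) = (LP (LK LD1_c23 LD2_c25 LD3_c27)) :=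
  Lgr Lrot101 (Lpe (f482533 IH) (Lpr_ff (f515220 IH) (Lpe (f519258 IH) (Lpn (LP (LK LD1_c23 LD2_c25 LD3_c27))))))
theorem f608732 : Led Lsl_gt (LP (LK LD1_c14 LD2_c0 LD3_c2)) = (LP (LK LD1_c14 LD2_c7 LD3_c21)) :=
  Lgr Lrot5 (Lpr_ft (f519259 IH) (Lpr_at (f519258 IH) (Lpr_gf (f608730 IH) (Lpn (LP (LK LD1_c14 LD2_c7 LD3_c21))))))
theorem f608752 : Led Lsl_gt (LP (LK LD1_c23 LD2_c17 LD3_c41)) = (LP (LK LD1_c14 LD2_c0 LD3_c2)) :=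
  Lgr Lrot5 (Lpr_ft (f608748 IH) (Lpe (f497938 IH) (Lpe (f608732 IH) (Lpn (LP (LK LD1_c14 LD2_c0 LD3_c2))))))
theorem f5371 : Led Lsl_gt (LP (LK LD1_c3 LD2_c38 LD3_c54)) = (LP (LK LD1_c7 LD2_c18 LD3_c8)) :=
  Lre_g IH (LK LD1_c3 LD2_c38 LD3_c54) (LK LD1_c7 LD2_c18 LD3_c8) Lrfl Lrfl
theorem f5377 : Led Lsl_dt (LP (LK LD1_c7 LD2_c18 LD3_c8)) = (LP (LK LD1_c13 LD2_c49 LD3_c3)) :=
  Lre_d IH (LK LD1_c7 LD2_c18 LD3_c8) (LK LD1_c13 LD2_c49 LD3_c3) Lrfl Lrfl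
theorem f482492 : Led Lsl_dt (LP (LK LD1_c13 LD2_c32 LD3_c57)) = (LP (LK LD1_c7 LD2_c24 LD3_c7)) :=
  Lgr Lrot42 (Lpr_df (K34.f482485 IH) (Lpn (LP (LK LD1_c7 LD2_c24 LD3_c7))))
theorem f456023 : Led Lsl_bt (LP (LK LD1_c22 LD2_c55 LD3_c20)) = (LP (LK LD1_c13 LD2_c32 LD3_c57)) :=
  Lre_b IH (LK LD1_c22 LD2_c55 LD3_c20) (LK LD1_c13 LD2_c32 LD3_c57) Lrfl Lrfl
theorem f482515 : Led Lsl_bt (LP (LK LD1_c7 LD2_c24 LD3_c7)) = (LP (LK LD1_c14 LD2_c0 LD3_c4)) :=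
  Lre_b IH (LK LD1_c7 LD2_c24 LD3_c7) (LK LD1_c14 LD2_c0 LD3_c4) Lrfl Lrfl
theorem f482516 : Led Lsl_df (LP (LK LD1_c22 LD2_c55 LD3_c20)) = (LP (LK LD1_c14 LD2_c0 LD3_c4)) :=
  Lgr Lrot12 (Lpr_bt (f456023 IH) (Lpr_dt (f482492 IH) (Lpr_bt (f482515 IH) (Lpn (LP (LK LD1_c14 LD2_c0 LD3_c4))))))
theorem f482521 : Led Lsl_et (LP (LK LD1_c22 LD2_c55 LD3_c20)) = (LP (LK LD1_c13 LD2_c32 LD3_c55)) :=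
  Lre_e IH (LK LD1_c22 LD2_c55 LD3_c20) (LK LD1_c13 LD2_c32 LD3_c55) Lrfl Lrfl
theorem f482470 : Led Lsl_bt (LP (LK LD1_c7 LD2_c55 LD3_c11)) = (LP (LK LD1_c3 LD2_c56 LD3_c42)) :=
  Lre_b IH (LK LD1_c7 LD2_c55 LD3_c11) (LK LD1_c3 LD2_c56 LD3_c42) Lrfl Lrfl
theorem f482472 : Led Lsl_ef (LP (LK LD1_c7 LD2_c55 LD3_c11)) = (LP (LK LD1_c7 LD2_c9 LD3_c9)) :=
  Lgr Lrot29 (Lpr_bt (f482470 IH) (Lpr_et (K33.f482468 IH) (Lpr_bt (K34.f482471 IH) (Lpn (LP (LK LD1_c7 LD2_c9 LD3_c9))))))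
theorem f482523 : Led Lsl_et (LP (LK LD1_c7 LD2_c24 LD3_c5)) = (LP (LK LD1_c14 LD2_c0 LD3_c4)) :=
  Lre_e IH (LK LD1_c7 LD2_c24 LD3_c5) (LK LD1_c14 LD2_c0 LD3_c4) Lrfl Lrfl
theorem f482524 : Led Lsl_dt (LP (LK LD1_c7 LD2_c55 LD3_c11)) = (LP (LK LD1_c7 LD2_c24 LD3_c5)) :=
  Lgr Lrot77 (Lpr_ef (f482472 IH) (Lpe (K40.f482522 IH) (Lpe (f482521 IH) (Lpr_df (f482516 IH) (Lpe (f482523 IH) (Lpn (LP (LK LD1_c7 LD2_c24 LD3_c5))))))))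
theorem f482532 : Led Lsl_at (LP (LK LD1_c14 LD2_c56 LD3_c35)) = (LP (LK LD1_c7 LD2_c55 LD3_c11)) :=
  Lre_a IH (LK LD1_c14 LD2_c56 LD3_c35) (LK LD1_c7 LD2_c55 LD3_c11) Lrfl Lrfl
theorem f482534 : Led Lsl_df (LP (LK LD1_c14 LD2_c56 LD3_c35)) = (LP (LK LD1_c14 LD2_c0 LD3_c2)) :=
  Lgr Lrot18 (Lpr_at (f482532 IH) (Lpr_dt (f482524 IH) (Lpr_at (f482533 IH) (Lpn (LP (LK LD1_c14 LD2_c0 LD3_c2))))))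
theorem f482487 : Led Lsl_bt (LP (LK LD1_c13 LD2_c32 LD3_c57)) = (LP (LK LD1_c22 LD2_c55 LD3_c20)) :=
  Lre_b IH (LK LD1_c13 LD2_c32 LD3_c57) (LK LD1_c22 LD2_c55 LD3_c20) Lrfl Lrfl
theorem f482488 : Led Lsl_bt (LP (LK LD1_c14 LD2_c0 LD3_c4)) = (LP (LK LD1_c7 LD2_c24 LD3_c7)) :=
  Lre_b IH (LK LD1_c14 LD2_c0 LD3_c4) (LK LD1_c7 LD2_c24 LD3_c7) Lrfl Lrfl
theorem f482489 : Led Lsl_dt (LP (LK LD1_c22 LD2_c55 LD3_c20)) = (LP (LK LD1_c14 LD2_c0 LD3_c4)) :=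
  Lgr Lrot79 (Lpe (f482487 IH) (Lpr_df (K34.f482485 IH) (Lpe (f482488 IH) (Lpn (LP (LK LD1_c14 LD2_c0 LD3_c4))))))
theorem f482545 : Led Lsl_et (LP (LK LD1_c13 LD2_c32 LD3_c55)) = (LP (LK LD1_c22 LD2_c55 LD3_c20)) :=
  Lre_e IH (LK LD1_c13 LD2_c32 LD3_c55) (LK LD1_c22 LD2_c55 LD3_c20) Lrfl Lrfl
theorem f482531 : Led Lsl_et (LP (LK LD1_c14 LD2_c0 LD3_c4)) = (LP (LK LD1_c7 LD2_c24 LD3_c5)) :=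
  Lre_e IH (LK LD1_c14 LD2_c0 LD3_c4) (LK LD1_c7 LD2_c24 LD3_c5) Lrfl Lrfl
theorem f482478 : Led Lsl_bt (LP (LK LD1_c3 LD2_c41 LD3_c42)) = (LP (LK LD1_c7 LD2_c24 LD3_c5)) :=
  Lre_b IH (LK LD1_c3 LD2_c41 LD3_c42) (LK LD1_c7 LD2_c24 LD3_c5) Lrfl Lrfl
theorem f482479 : Led Lsl_df (LP (LK LD1_c7 LD2_c55 LD3_c11)) = (LP (LK LD1_c7 LD2_c24 LD3_c5)) :=
  Lgr Lrot12 (Lpr_bt (f482470 IH) (Lpr_dt (K33.f482476 IH) (Lpr_bt (f482478 IH) (Lpn (LP (LK LD1_c7 LD2_c24 LD3_c5))))))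
theorem f482547 : Led Lsl_ef (LP (LK LD1_c7 LD2_c9 LD3_c9)) = (LP (LK LD1_c7 LD2_c55 LD3_c11)) :=
  Lgr Lrot73 (Lpr_dt (K34.f482546 IH) (Lpr_et (f482545 IH) (Lpr_dt (f482489 IH) (Lpr_et (f482531 IH) (Lpe (f482479 IH) (Lpn (LP (LK LD1_c7 LD2_c55 LD3_c11))))))))
theorem f482555 : Led Lsl_et (LP (LK LD1_c3 LD2_c34 LD3_c5)) = (LP (LK LD1_c7 LD2_c9 LD3_c19)) :=
  Lre_e IH (LK LD1_c3 LD2_c34 LD3_c5) (LK LD1_c7 LD2_c9 LD3_c19) Lrfl Lrfl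
theorem f482556 : Led Lsl_ct (LP (LK LD1_c7 LD2_c9 LD3_c19)) = (LP (LK LD1_c7 LD2_c55 LD3_c11)) :=
  Lgr Lrot15 (Lpe (f482555 IH) (Lpe (K40.f456005 IH) (Lpr_ef (f482547 IH) (Lpn (LP (LK LD1_c7 LD2_c55 LD3_c11))))))
theorem f482559 : Led Lsl_at (LP (LK LD1_c13 LD2_c33 LD3_c5)) = (LP (LK LD1_c7 LD2_c9 LD3_c19)) :=
  Lre_a IH (LK LD1_c13 LD2_c33 LD3_c5) (LK LD1_c7 LD2_c9 LD3_c19) Lrfl Lrfl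
theorem f482541 : Led Lsl_at (LP (LK LD1_c7 LD2_c55 LD3_c11)) = (LP (LK LD1_c14 LD2_c56 LD3_c35)) :=
  Lre_a IH (LK LD1_c7 LD2_c55 LD3_c11) (LK LD1_c14 LD2_c56 LD3_c35) Lrfl Lrfl
theorem f482560 : Led Lsl_cf (LP (LK LD1_c13 LD2_c33 LD3_c5)) = (LP (LK LD1_c14 LD2_c56 LD3_c35)) :=
  Lgr Lrot1 (Lpr_at (f482559 IH) (Lpr_ct (f482556 IH) (Lpr_at (f482541 IH) (Lpn (LP (LK LD1_c14 LD2_c56 LD3_c35))))))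
theorem f482565 : Led Lsl_ct (LP (LK LD1_c13 LD2_c33 LD3_c5)) = (LP (LK LD1_c14 LD2_c56 LD3_c35)) :=
  Lgr Lrot59 (Lpr_cf (f482560 IH) (Lpn (LP (LK LD1_c14 LD2_c56 LD3_c35))))
theorem f482571 : Led Lsl_dt (LP (LK LD1_c22 LD2_c55 LD3_c36)) = (LP (LK LD1_c13 LD2_c33 LD3_c5)) :=
  Lre_d IH (LK LD1_c22 LD2_c55 LD3_c36) (LK LD1_c13 LD2_c33 LD3_c5) Lrfl Lrfl
theorem f608756 : Led Lsl_gt (LP (LK LD1_c13 LD2_c49 LD3_c3)) = (LP (LK LD1_c22 LD2_c55 LD3_c36)) :=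
  Lgr Lrot49 (Lpe (f5377 IH) (Lpe (f5371 IH) (Lpe (K34.f456440 IH) (Lpr_gt (f467981 IH) (Lpr_dt (f511511 IH) (Lpr_gt (f608752 IH) (Lpe (f482534 IH) (Lpe (f482565 IH) (Lpe (f482571 IH) (Lpn (LP (LK LD1_c22 LD2_c55 LD3_c36))))))))))))
theorem f517272 : Led Lsl_et (LP (LK LD1_c7 LD2_c18 LD3_c11)) = (LP (LK LD1_c3 LD2_c38 LD3_c54)) :=
  Lre_e IH (LK LD1_c7 LD2_c18 LD3_c11) (LK LD1_c3 LD2_c38 LD3_c54) Lrfl Lrfl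
theorem f517271 : Led Lsl_dt (LP (LK LD1_c7 LD2_c18 LD3_c11)) = (LP (LK LD1_c13 LD2_c49 LD3_c11)) :=
  Lre_d IH (LK LD1_c7 LD2_c18 LD3_c11) (LK LD1_c13 LD2_c49 LD3_c11) Lrfl Lrfl
theorem f482567 : Led Lsl_dt (LP (LK LD1_c13 LD2_c33 LD3_c5)) = (LP (LK LD1_c22 LD2_c55 LD3_c36)) :=
  Lre_d IH (LK LD1_c13 LD2_c33 LD3_c5) (LK LD1_c22 LD2_c55 LD3_c36) Lrfl Lrfl
theorem f482568 : Led Lsl_et (LP (LK LD1_c13 LD2_c33 LD3_c5)) = (LP (LK LD1_c7 LD2_c9 LD3_c17)) :=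
  Lre_e IH (LK LD1_c13 LD2_c33 LD3_c5) (LK LD1_c7 LD2_c9 LD3_c17) Lrfl Lrfl
theorem f456076 : Led Lsl_bt (LP (LK LD1_c1 LD2_c53 LD3_c47)) = (LP (LK LD1_c3 LD2_c54 LD3_c22)) :=
  Lre_b IH (LK LD1_c1 LD2_c53 LD3_c47) (LK LD1_c3 LD2_c54 LD3_c22) Lrfl Lrfl
theorem f456077 : Led Lsl_cf (LP (LK LD1_c7 LD2_c6 LD3_c46)) = (LP (LK LD1_c3 LD2_c54 LD3_c22)) :=
  Lgr Lrot97 (Lpr_bt (K33.f456075 IH) (Lpr_ct (K43.f6631 IH) (Lpr_bt (K29.f456074 IH) (Lpr_ct (K33.f456072 IH) (Lpr_bt (f456076 IH) (Lpn (LP (LK LD1_c3 LD2_c54 LD3_c22))))))))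
theorem f122788 : Led Lsl_gt (LP (LK LD1_c3 LD2_c55 LD3_c23)) = (LP (LK LD1_c7 LD2_c52 LD3_c36)) :=
  Lre_g IH (LK LD1_c3 LD2_c55 LD3_c23) (LK LD1_c7 LD2_c52 LD3_c36) Lrfl Lrfl
theorem f478648 : Led Lsl_bt (LP (LK LD1_c7 LD2_c50 LD3_c42)) = (LP (LK LD1_c7 LD2_c52 LD3_c36)) :=
  Lgr Lrot92 (Lpe (K40.f478646 IH) (Lpr_gt (K40.f478641 IH) (Lpr_cf (K33.f478261 IH) (Lpr_bt (K40.f123423 IH) (Lpr_gt (K29.f123422 IH) (Lpr_ct (K29.f122785 IH) (Lpr_gt (K29.f84790 IH) (Lpe (K35.f122786 IH) (Lpr_bt (K34.f122787 IH) (Lpr_gt (f122788 IH) (Lpn (LP (LK LD1_c7 LD2_c52 LD3_c36)))))))))))))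
theorem f478650 : Led Lsl_bf (LP (LK LD1_c7 LD2_c50 LD3_c42)) = (LP (LK LD1_c7 LD2_c52 LD3_c36)) :=
  Lgr Lrot24 (Lpr_bt (f478648 IH) (Lpn (LP (LK LD1_c7 LD2_c52 LD3_c36))))
theorem f560757 : Led Lsl_ct (LP (LK LD1_c7 LD2_c52 LD3_c36)) = (LP (LK LD1_c12 LD2_c8 LD3_c40)) :=
  Lgr Lrot64 (Lpe (f478650 IH) (Lpe (K40.f123426 IH) (Lpe (K40.f123425 IH) (Lpr_ct (K33.f123424 IH) (Lpe (K29.f123410 IH) (Lpe (K24.f122768 IH) (Lpe (K33.f122789 IH) (Lpe (K33.f122790 IH) (Lpe (f456077 IH) (Lpr_gf (K43.f560755 IH) (Lpn (LP (LK LD1_c12 LD2_c8 LD3_c40)))))))))))))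
theorem f515979 : Led Lsl_cf (LP (LK LD1_c7 LD2_c52 LD3_c18)) = (LP (LK LD1_c7 LD2_c8 LD3_c44)) :=
  Lgr Lrot11 (Lpr_ct (K33.f515975 IH) (Lpn (LP (LK LD1_c7 LD2_c8 LD3_c44))))
theorem f543021 : Led Lsl_ct (LP (LK LD1_c7 LD2_c49 LD3_c53)) = (LP (LK LD1_c6 LD2_c14 LD3_c59)) :=
  Lgr Lrot40 (Lpe (K33.f485450 IH) (Lpr_cf (f515979 IH) (Lpr_ff (K37.f543015 IH) (Lpn (LP (LK LD1_c6 LD2_c14 LD3_c59))))))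
theorem f515096 : Led Lsl_af (LP (LK LD1_c13 LD2_c32 LD3_c57)) = (LP (LK LD1_c7 LD2_c50 LD3_c20)) :=
  Lgr Lrot117 (Lpr_dt (f482492 IH) (Lpr_at (K33.f515090 IH) (Lpe (K34.f148175 IH) (Lpn (LP (LK LD1_c7 LD2_c50 LD3_c20))))))
theorem f515118 : Led Lsl_at (LP (LK LD1_c7 LD2_c9 LD3_c10)) = (LP (LK LD1_c3 LD2_c54 LD3_c20)) :=
  Lgr Lrot80 (Lpe (K34.f482483 IH) (Lpr_af (f515096 IH) (Lpe (K34.f148213 IH) (Lpn (LP (LK LD1_c3 LD2_c54 LD3_c20))))))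
theorem f489741 : Led Lsl_bt (LP (LK LD1_c13 LD2_c32 LD3_c55)) = (LP (LK LD1_c7 LD2_c9 LD3_c10)) :=
  Lre_b IH (LK LD1_c13 LD2_c32 LD3_c55) (LK LD1_c7 LD2_c9 LD3_c10) Lrfl Lrfl
theorem f515123 : Led Lsl_bf (LP (LK LD1_c22 LD2_c55 LD3_c16)) = (LP (LK LD1_c14 LD2_c47 LD3_c2)) :=
  Lgr Lrot81 (Lpr_at (K40.f515120 IH) (Lpr_bt (f489741 IH) (Lpr_at (f515118 IH) (Lpr_bt (K33.f515121 IH) (Lpr_at (K33.f515122 IH) (Lpn (LP (LK LD1_c14 LD2_c47 LD3_c2))))))))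
theorem f482578 : Led Lsl_dt (LP (LK LD1_c22 LD2_c55 LD3_c16)) = (LP (LK LD1_c13 LD2_c32 LD3_c54)) :=
  Lre_d IH (LK LD1_c22 LD2_c55 LD3_c16) (LK LD1_c13 LD2_c32 LD3_c54) Lrfl Lrfl
theorem f515138 : Led Lsl_dt (LP (LK LD1_c7 LD2_c50 LD3_c15)) = (LP (LK LD1_c14 LD2_c47 LD3_c2)) :=
  Lre_d IH (LK LD1_c7 LD2_c50 LD3_c15) (LK LD1_c14 LD2_c47 LD3_c2) Lrfl Lrfl
theorem f515139 : Led Lsl_bt (LP (LK LD1_c13 LD2_c32 LD3_c54)) = (LP (LK LD1_c7 LD2_c50 LD3_c15)) :=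
  Lgr Lrot95 (Lpe (f482578 IH) (Lpr_bf (f515123 IH) (Lpe (f515138 IH) (Lpn (LP (LK LD1_c7 LD2_c50 LD3_c15))))))
theorem f482573 : Led Lsl_ct (LP (LK LD1_c13 LD2_c32 LD3_c54)) = (LP (LK LD1_c7 LD2_c9 LD3_c17)) :=
  Lre_c IH (LK LD1_c13 LD2_c32 LD3_c54) (LK LD1_c7 LD2_c9 LD3_c17) Lrfl Lrfl
theorem f560767 : Led Lsl_gt (LP (LK LD1_c7 LD2_c9 LD3_c17)) = (LP (LK LD1_c12 LD2_c8 LD3_c40)) :=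
  Lgr Lrot65 (Lpe (f482573 IH) (Lpr_bt (f515139 IH) (Lpe (K34.f516390 IH) (Lpr_bf (K33.f162032 IH) (Lpr_ct (f543021 IH) (Lpr_gf (K43.f543283 IH) (Lpe (K35.f524069 IH) (Lpr_gf (K40.f524065 IH) (Lpr_bf (f478650 IH) (Lpr_ct (f560757 IH) (Lpn (LP (LK LD1_c12 LD2_c8 LD3_c40)))))))))))))
theorem f514932 : Led Lsl_ff (LP (LK LD1_c3 LD2_c36 LD3_c36)) = K37.v2354 :=
  Lgr Lrot52 (Lpr_at (K39.f514929 IH) (Lpe (K39.f514920 IH) (Lpr_gf (K37.f514930 IH) (Lpn K37.v2354))))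
theorem f542957 : Led Lsl_et (LP (LK LD1_c6 LD2_c15 LD3_c11)) = (LP (LK LD1_c3 LD2_c4 LD3_c36)) :=
  Lre_e IH (LK LD1_c6 LD2_c15 LD3_c11) (LK LD1_c3 LD2_c4 LD3_c36) Lrfl Lrfl
theorem f560640 : Led Lsl_et (LP (LK LD1_c13 LD2_c40 LD3_c2)) = (LP (LK LD1_c12 LD2_c8 LD3_c40)) :=
  Lgr Lrot69 (Lpr_ff (K40.f560633 IH) (Lpe (K40.f160589 IH) (Lpr_ff (f514932 IH) (Lpqs (K37.f542946 IH) (Lpe (f542957 IH) (Lpe (K40.f560639 IH) (Lpn (LP (LK LD1_c12 LD2_c8 LD3_c40)))))))))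
theorem f560690 : Led Lsl_dt (LP (LK LD1_c21 LD2_c14 LD3_c55)) = (LP (LK LD1_c12 LD2_c8 LD3_c34)) :=
  Lre_d IH (LK LD1_c21 LD2_c14 LD3_c55) (LK LD1_c12 LD2_c8 LD3_c34) Lrfl Lrfl
theorem f560679 : Led Lsl_af (LP (LK LD1_c13 LD2_c40 LD3_c35)) = (LP (LK LD1_c12 LD2_c8 LD3_c34)) :=
  Lgr Lrot0 (Lpr_at (K40.f560677 IH) (Lpn (LP (LK LD1_c12 LD2_c8 LD3_c34))))
theorem f575991 : Led Lsl_dt (LP (LK LD1_c13 LD2_c40 LD3_c35)) = (LP (LK LD1_c16 LD2_c27 LD3_c19)) :=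
  Lgr Lrot44 (Lpr_af (f560679 IH) (Lpe (f560690 IH) (Lpr_af (K43.f575984 IH) (Lpn (LP (LK LD1_c16 LD2_c27 LD3_c19))))))
theorem f160604 : Led Lsl_bt (LP (LK LD1_c7 LD2_c13 LD3_c31)) = (LP (LK LD1_c13 LD2_c40 LD3_c35)) :=
  Lre_b IH (LK LD1_c7 LD2_c13 LD3_c31) (LK LD1_c13 LD2_c40 LD3_c35) Lrfl Lrfl
theorem f453456 : Led Lsl_bt (LP (LK LD1_c16 LD2_c27 LD3_c19)) = (LP (LK LD1_c8 LD2_c47 LD3_c36)) :=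
  Lre_b IH (LK LD1_c16 LD2_c27 LD3_c19) (LK LD1_c8 LD2_c47 LD3_c36) Lrfl Lrfl
theorem f575993 : Led Lsl_df (LP (LK LD1_c7 LD2_c13 LD3_c31)) = (LP (LK LD1_c8 LD2_c47 LD3_c36)) :=
  Lgr Lrot12 (Lpr_bt (f160604 IH) (Lpr_dt (f575991 IH) (Lpr_bt (f453456 IH) (Lpn (LP (LK LD1_c8 LD2_c47 LD3_c36))))))
theorem f453175 : Led Lsl_ft (LP (LK LD1_c16 LD2_c27 LD3_c23)) = (LP (LK LD1_c8 LD2_c47 LD3_c36)) :=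
  Lre_f IH (LK LD1_c16 LD2_c27 LD3_c23) (LK LD1_c8 LD2_c47 LD3_c36) Lrfl Lrfl
theorem f575997 : Led Lsl_dt (LP (LK LD1_c13 LD2_c40 LD3_c2)) = (LP (LK LD1_c16 LD2_c27 LD3_c23)) :=
  Lgr Lrot60 (Lpr_ff (K40.f560633 IH) (Lpr_df (f575993 IH) (Lpe (f453175 IH) (Lpn (LP (LK LD1_c16 LD2_c27 LD3_c23))))))
theorem f608762 : Led Lsl_gf (LP (LK LD1_c13 LD2_c49 LD3_c11)) = (LP (LK LD1_c16 LD2_c27 LD3_c23)) :=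
  Lgr Lrot145 (Lpe (f517271 IH) (Lpr_et (f517272 IH) (Lpr_gt (f5371 IH) (Lpr_dt (f5377 IH) (Lpr_gt (f608756 IH) (Lpe (f482567 IH) (Lpr_et (f482568 IH) (Lpr_gt (f560767 IH) (Lpe (f560640 IH) (Lpr_dt (f575997 IH) (Lpn (LP (LK LD1_c16 LD2_c27 LD3_c23)))))))))))))
theorem f608764 : Led Lsl_gt (LP (LK LD1_c13 LD2_c49 LD3_c11)) = (LP (LK LD1_c9 LD2_c47 LD3_c11)) :=
  Lgr Lrot46 (Lpr_gf (f608762 IH) (Lpr_ft (f453175 IH) (Lpr_at (K43.f453167 IH) (Lpn (LP (LK LD1_c9 LD2_c47 LD3_c11))))))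
theorem f159866 : Led Lsl_at (LP (LK LD1_c1 LD2_c45 LD3_c9)) = (LP (LK LD1_c3 LD2_c36 LD3_c37)) :=
  Lre_a IH (LK LD1_c1 LD2_c45 LD3_c9) (LK LD1_c3 LD2_c36 LD3_c37) Lrfl Lrfl
theorem f514921 : Led Lsl_gf (LP (LK LD1_c3 LD2_c36 LD3_c37)) = K39.v2353 :=
  Lgr Lrot76 (Lpe (f159866 IH) (Lpr_ff (K8.f128199 IH) (Lpr_gt (K39.f514920 IH) (Lpn K39.v2353))))
theorem f608776 : Led Lsl_gf (LP (LK LD1_c3 LD2_c38 LD3_c54)) = (LP (LK LD1_c7 LD2_c12 LD3_c1)) :=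
  Lgr Lrot141 (Lpe (f517272 IH) (Lpr_dt (f517271 IH) (Lpr_gt (f608764 IH) (Lpe (K40.f227590 IH) (Lpr_et (K40.f418589 IH) (Lpq (K39.f542981 IH) (Lpe (f514921 IH) (Lpr_dt (K40.f542923 IH) (Lpr_gt (K13.f172838 IH) (Lpe (f558981 IH) (Lpr_et (K24.f116218 IH) (Lpn (LP (LK LD1_c7 LD2_c12 LD3_c1))))))))))))))
theorem f116224 : Led Lsl_cf (LP (LK LD1_c7 LD2_c12 LD3_c1)) = (LP (LK LD1_c7 LD2_c21 LD3_c48)) :=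
  Lgr Lrot11 (Lpr_ct (K24.f116219 IH) (Lpn (LP (LK LD1_c7 LD2_c21 LD3_c48))))
theorem f116203 : Led Lsl_bt (LP (LK LD1_c7 LD2_c21 LD3_c48)) = (LP (LK LD1_c7 LD2_c27 LD3_c41)) :=
  Lgr Lrot127 (Lpr_bf (K24.f116201 IH) (Lpn (LP (LK LD1_c7 LD2_c27 LD3_c41))))
theorem f608782 : Led Lsl_gt (LP (LK LD1_c7 LD2_c17 LD3_c45)) = (LP (LK LD1_c7 LD2_c27 LD3_c41)) :=
  Lgr Lrot164 (Lpe (K35.f476449 IH) (Lpr_ct (K34.f4837 IH) (Lpe (K29.f4531 IH) (Lpe (K29.f4510 IH) (Lpr_gf (K29.f456429 IH) (Lpe (K34.f456435 IH) (Lpr_ct (K34.f456440 IH) (Lpr_gf (f608776 IH) (Lpr_cf (f116224 IH) (Lpr_bt (f116203 IH) (Lpn (LP (LK LD1_c7 LD2_c27 LD3_c41)))))))))))))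
theorem f5353 : Led Lsl_gt (LP (LK LD1_c13 LD2_c48 LD3_c11)) = (LP (LK LD1_c7 LD2_c17 LD3_c45)) :=
  Lre_g IH (LK LD1_c13 LD2_c48 LD3_c11) (LK LD1_c7 LD2_c17 LD3_c45) Lrfl Lrfl
theorem f608820 : Led Lsl_ft (LP (LK LD1_c13 LD2_c48 LD3_c11)) = (LP (LK LD1_c7 LD2_c21 LD3_c50)) :=
  Lgr Lrot2 (Lpr_gt (f5353 IH) (Lpr_gt (f608782 IH) (Lpe (K24.f439277 IH) (Lpn (LP (LK LD1_c7 LD2_c21 LD3_c50))))))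
theorem f608833 : Led Lsl_ff (LP (LK LD1_c13 LD2_c48 LD3_c11)) = (LP (LK LD1_c7 LD2_c21 LD3_c50)) :=
  Lgr Lrot3 (Lpr_ft (f608820 IH) (Lpn (LP (LK LD1_c7 LD2_c21 LD3_c50))))
theorem f5293 : Led Lsl_ct (LP (LK LD1_c3 LD2_c38 LD3_c41)) = (LP (LK LD1_c7 LD2_c17 LD3_c45)) :=
  Lre_c IH (LK LD1_c3 LD2_c38 LD3_c41) (LK LD1_c7 LD2_c17 LD3_c45) Lrfl Lrfl
theorem f5355 : Led Lsl_bt (LP (LK LD1_c1 LD2_c46 LD3_c47)) = (LP (LK LD1_c3 LD2_c39 LD3_c45)) :=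
  Lre_b IH (LK LD1_c1 LD2_c46 LD3_c47) (LK LD1_c3 LD2_c39 LD3_c45) Lrfl Lrfl
theorem f5356 : Led Lsl_gt (LP (LK LD1_c3 LD2_c39 LD3_c45)) = (LP (LK LD1_c7 LD2_c19 LD3_c43)) :=
  Lre_g IH (LK LD1_c3 LD2_c39 LD3_c45) (LK LD1_c7 LD2_c19 LD3_c43) Lrfl Lrfl
theorem f5357 : Led Lsl_cf (LP (LK LD1_c13 LD2_c48 LD3_c11)) = (LP (LK LD1_c7 LD2_c19 LD3_c43)) :=
  Lgr Lrot125 (Lpr_gt (f5353 IH) (Lpe (f5293 IH) (Lpr_bt (K35.f5292 IH) (Lpr_gt (K29.f4399 IH) (Lpr_bf (K2.f5326 IH) (Lpr_ct (K33.f5348 IH) (Lpr_gt (K33.f5328 IH) (Lpe (K34.f5354 IH) (Lpr_bt (f5355 IH) (Lpr_gt (f5356 IH) (Lpn (LP (LK LD1_c7 LD2_c19 LD3_c43)))))))))))))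
theorem f5360 : Led Lsl_ct (LP (LK LD1_c13 LD2_c48 LD3_c11)) = (LP (LK LD1_c7 LD2_c19 LD3_c43)) :=
  Lgr Lrot59 (Lpr_cf (f5357 IH) (Lpn (LP (LK LD1_c7 LD2_c19 LD3_c43))))
theorem f439234 : Led Lsl_et (LP (LK LD1_c3 LD2_c35 LD3_c41)) = (LP (LK LD1_c7 LD2_c11 LD3_c61)) :=
  Lre_e IH (LK LD1_c3 LD2_c35 LD3_c41) (LK LD1_c7 LD2_c11 LD3_c61) Lrfl Lrfl
theorem f439272 : Led Lsl_et (LP (LK LD1_c7 LD2_c21 LD3_c50)) = (LP (LK LD1_c3 LD2_c40 LD3_c48)) :=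
  Lre_e IH (LK LD1_c7 LD2_c21 LD3_c50) (LK LD1_c3 LD2_c40 LD3_c48) Lrfl Lrfl
theorem f439308 : Led Lsl_ct (LP (LK LD1_c7 LD2_c11 LD3_c61)) = (LP (LK LD1_c7 LD2_c21 LD3_c50)) :=
  Lgr Lrot15 (Lpe (f439234 IH) (Lpr_cf (K24.f439306 IH) (Lpe (f439272 IH) (Lpn (LP (LK LD1_c7 LD2_c21 LD3_c50))))))
theorem f608837 : Led Lsl_ft (LP (LK LD1_c7 LD2_c19 LD3_c43)) = (LP (LK LD1_c7 LD2_c11 LD3_c61)) :=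
  Lgr Lrot4 (Lpe (f5360 IH) (Lpr_ff (f608833 IH) (Lpe (f439308 IH) (Lpn (LP (LK LD1_c7 LD2_c11 LD3_c61))))))
theorem f439242 : Led Lsl_et (LP (LK LD1_c7 LD2_c11 LD3_c61)) = (LP (LK LD1_c3 LD2_c35 LD3_c41)) :=
  Lre_e IH (LK LD1_c7 LD2_c11 LD3_c61) (LK LD1_c3 LD2_c35 LD3_c41) Lrfl Lrfl
theorem f5370 : Led Lsl_bt (LP (LK LD1_c1 LD2_c46 LD3_c22)) = (LP (LK LD1_c3 LD2_c38 LD3_c54)) :=
  Lre_b IH (LK LD1_c1 LD2_c46 LD3_c22) (LK LD1_c3 LD2_c38 LD3_c54) Lrfl Lrfl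
theorem f5372 : Led Lsl_bf (LP (LK LD1_c7 LD2_c18 LD3_c8)) = (LP (LK LD1_c7 LD2_c19 LD3_c43)) :=
  Lgr Lrot34 (Lpe (f5371 IH) (Lpe (f5370 IH) (Lpr_ct (K28.f4274 IH) (Lpe (K3.f4445 IH) (Lpe (K2.f4122 IH) (Lpe (K29.f4399 IH) (Lpe (K35.f5292 IH) (Lpr_ct (f5293 IH) (Lpe (f5353 IH) (Lpr_cf (f5357 IH) (Lpn (LP (LK LD1_c7 LD2_c19 LD3_c43)))))))))))))
theorem f5374 : Led Lsl_bt (LP (LK LD1_c7 LD2_c18 LD3_c8)) = (LP (LK LD1_c7 LD2_c19 LD3_c43)) :=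
  Lgr Lrot127 (Lpr_bf (f5372 IH) (Lpn (LP (LK LD1_c7 LD2_c19 LD3_c43))))
theorem f439235 : Led Lsl_bf (LP (LK LD1_c7 LD2_c5 LD3_c36)) = (LP (LK LD1_c7 LD2_c11 LD3_c61)) :=
  Lgr Lrot96 (Lpr_et (K24.f108285 IH) (Lpr_bt (K24.f439230 IH) (Lpr_et (f439234 IH) (Lpn (LP (LK LD1_c7 LD2_c11 LD3_c61))))))
theorem f608839 : Led Lsl_ff (LP (LK LD1_c7 LD2_c18 LD3_c8)) = (LP (LK LD1_c7 LD2_c5 LD3_c36)) :=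
  Lgr Lrot25 (Lpr_bt (f5374 IH) (Lpr_ft (f608837 IH) (Lpe (f439235 IH) (Lpn (LP (LK LD1_c7 LD2_c5 LD3_c36))))))
theorem f608843 : Led Lsl_ef (LP (LK LD1_c7 LD2_c19 LD3_c43)) = (LP (LK LD1_c7 LD2_c18 LD3_c8)) :=
  Lgr Lrot21 (Lpr_ft (f608837 IH) (Lpr_et (f439242 IH) (Lpr_ft (K24.f439304 IH) (Lpr_et (K24.f439241 IH) (Lpe (f608839 IH) (Lpn (LP (LK LD1_c7 LD2_c18 LD3_c8))))))))
theorem f608845 : Led Lsl_et (LP (LK LD1_c7 LD2_c19 LD3_c43)) = (LP (LK LD1_c7 LD2_c18 LD3_c8)) :=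
  Lgr Lrot87 (Lpr_ef (f608843 IH) (Lpn (LP (LK LD1_c7 LD2_c18 LD3_c8))))
theorem f116231 : Led Lsl_bt (LP (LK LD1_c7 LD2_c12 LD3_c1)) = (LP (LK LD1_c13 LD2_c38 LD3_c8)) :=
  Lre_b IH (LK LD1_c7 LD2_c12 LD3_c1) (LK LD1_c13 LD2_c38 LD3_c8) Lrfl Lrfl
theorem f439392 : Led Lsl_bt (LP (LK LD1_c13 LD2_c26 LD3_c39)) = (LP (LK LD1_c7 LD2_c5 LD3_c38)) :=
  Lre_b IH (LK LD1_c13 LD2_c26 LD3_c39) (LK LD1_c7 LD2_c5 LD3_c38) Lrfl Lrfl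
theorem f439614 : Led Lsl_af (LP (LK LD1_c7 LD2_c11 LD3_c61)) = (LP (LK LD1_c7 LD2_c5 LD3_c38)) :=
  Lgr Lrot36 (Lpe (f439235 IH) (Lpe (K24.f439339 IH) (Lpr_bt (f116231 IH) (Lpr_at (K40.f439610 IH) (Lpr_bt (f439392 IH) (Lpn (LP (LK LD1_c7 LD2_c5 LD3_c38))))))))
theorem f439616 : Led Lsl_at (LP (LK LD1_c7 LD2_c11 LD3_c61)) = (LP (LK LD1_c7 LD2_c5 LD3_c38)) :=
  Lgr Lrot100 (Lpr_af (f439614 IH) (Lpn (LP (LK LD1_c7 LD2_c5 LD3_c38))))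
theorem f439388 : Led Lsl_cf (LP (LK LD1_c13 LD2_c26 LD3_c39)) = (LP (LK LD1_c13 LD2_c38 LD3_c8)) :=
  Lgr Lrot39 (Lpr_et (K40.f439380 IH) (Lpr_ct (K37.f439383 IH) (Lpr_et (K40.f439387 IH) (Lpn (LP (LK LD1_c13 LD2_c38 LD3_c8))))))
theorem f439393 : Led Lsl_ct (LP (LK LD1_c7 LD2_c5 LD3_c38)) = (LP (LK LD1_c7 LD2_c27 LD3_c41)) :=
  Lgr Lrot83 (Lpe (f439392 IH) (Lpr_cf (f439388 IH) (Lpe (f116231 IH) (Lpr_cf (f116224 IH) (Lpr_bf (K24.f116201 IH) (Lpn (LP (LK LD1_c7 LD2_c27 LD3_c41))))))))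
theorem f439279 : Led Lsl_af (LP (LK LD1_c7 LD2_c21 LD3_c50)) = (LP (LK LD1_c7 LD2_c27 LD3_c41)) :=
  Lgr Lrot0 (Lpr_at (K24.f439277 IH) (Lpn (LP (LK LD1_c7 LD2_c27 LD3_c41))))
theorem f439618 : Led Lsl_cf (LP (LK LD1_c7 LD2_c11 LD3_c61)) = (LP (LK LD1_c7 LD2_c21 LD3_c50)) :=
  Lgr Lrot1 (Lpr_at (f439616 IH) (Lpr_ct (f439393 IH) (Lpe (f439279 IH) (Lpn (LP (LK LD1_c7 LD2_c21 LD3_c50))))))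
theorem f608831 : Led Lsl_ff (LP (LK LD1_c7 LD2_c19 LD3_c43)) = (LP (LK LD1_c7 LD2_c11 LD3_c61)) :=
  Lgr Lrot23 (Lpe (f5357 IH) (Lpr_ft (f608820 IH) (Lpe (f439618 IH) (Lpn (LP (LK LD1_c7 LD2_c11 LD3_c61))))))
theorem f608888 : Led Lsl_ff (LP (LK LD1_c7 LD2_c5 LD3_c36)) = (LP (LK LD1_c7 LD2_c18 LD3_c8)) :=
  Lgr Lrot72 (Lpr_et (K24.f108285 IH) (Lpe (K24.f439302 IH) (Lpr_et (f439234 IH) (Lpe (f608831 IH) (Lpr_et (f608845 IH) (Lpn (LP (LK LD1_c7 LD2_c18 LD3_c8))))))))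
theorem f116228 : Led Lsl_gt (LP (LK LD1_c13 LD2_c38 LD3_c9)) = (LP (LK LD1_c7 LD2_c12 LD3_c1)) :=
  Lre_g IH (LK LD1_c13 LD2_c38 LD3_c9) (LK LD1_c7 LD2_c12 LD3_c1) Lrfl Lrfl
theorem f608892 : Led Lsl_gf (LP (LK LD1_c13 LD2_c38 LD3_c9)) = (LP (LK LD1_c7 LD2_c18 LD3_c8)) :=
  Lgr Lrot47 (Lpr_gt (f116228 IH) (Lpr_af (K24.f439339 IH) (Lpr_ff (f608888 IH) (Lpn (LP (LK LD1_c7 LD2_c18 LD3_c8))))))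
theorem f608894 : Led Lsl_af (LP (LK LD1_c13 LD2_c38 LD3_c9)) = (LP (LK LD1_c7 LD2_c17 LD3_c3)) :=
  Lgr Lrot31 (Lpr_gf (f608892 IH) (Lpe (f5371 IH) (Lpr_ft (K34.f517484 IH) (Lpn (LP (LK LD1_c7 LD2_c17 LD3_c3))))))
theorem f559048 : Led Lsl_et (LP (LK LD1_c13 LD2_c38 LD3_c9)) = (LP (LK LD1_c23 LD2_c3 LD3_c18)) :=
  Lre_e IH (LK LD1_c13 LD2_c38 LD3_c9) (LK LD1_c23 LD2_c3 LD3_c18) Lrfl Lrfl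
theorem f608904 : Led Lsl_at (LP (LK LD1_c23 LD2_c3 LD3_c18)) = (LP (LK LD1_c13 LD2_c47 LD3_c0)) :=
  Lgr Lrot80 (Lpe (f559048 IH) (Lpr_af (f608894 IH) (Lpe (K34.f456541 IH) (Lpn (LP (LK LD1_c13 LD2_c47 LD3_c0))))))
theorem f456518 : Led Lsl_bt (LP (LK LD1_c7 LD2_c23 LD3_c60)) = (LP (LK LD1_c3 LD2_c41 LD3_c40)) :=
  Lre_b IH (LK LD1_c7 LD2_c23 LD3_c60) (LK LD1_c3 LD2_c41 LD3_c40) Lrfl Lrfl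
theorem f456520 : Led Lsl_ct (LP (LK LD1_c3 LD2_c38 LD3_c23)) = (LP (LK LD1_c7 LD2_c17 LD3_c5)) :=
  Lre_c IH (LK LD1_c3 LD2_c38 LD3_c23) (LK LD1_c7 LD2_c17 LD3_c5) Lrfl Lrfl
theorem f456521 : Led Lsl_bt (LP (LK LD1_c7 LD2_c17 LD3_c5)) = (LP (LK LD1_c13 LD2_c47 LD3_c0)) :=
  Lre_b IH (LK LD1_c7 LD2_c17 LD3_c5) (LK LD1_c13 LD2_c47 LD3_c0) Lrfl Lrfl
theorem f456522 : Led Lsl_cf (LP (LK LD1_c7 LD2_c23 LD3_c60)) = (LP (LK LD1_c13 LD2_c47 LD3_c0)) :=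
  Lgr Lrot97 (Lpr_bt (f456518 IH) (Lpr_ct (K29.f456465 IH) (Lpr_bt (K29.f456519 IH) (Lpr_ct (f456520 IH) (Lpr_bt (f456521 IH) (Lpn (LP (LK LD1_c13 LD2_c47 LD3_c0))))))))
theorem f456553 : Led Lsl_at (LP (LK LD1_c7 LD2_c23 LD3_c60)) = (LP (LK LD1_c13 LD2_c59 LD3_c40)) :=
  Lre_a IH (LK LD1_c7 LD2_c23 LD3_c60) (LK LD1_c13 LD2_c59 LD3_c40) Lrfl Lrfl
theorem f608910 : Led Lsl_cf (LP (LK LD1_c23 LD2_c3 LD3_c18)) = (LP (LK LD1_c13 LD2_c59 LD3_c40)) :=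
  Lgr Lrot1 (Lpr_at (f608904 IH) (Lpe (f456522 IH) (Lpr_at (f456553 IH) (Lpn (LP (LK LD1_c13 LD2_c59 LD3_c40))))))
theorem f531423 : Led Lsl_bt (LP (LK LD1_c7 LD2_c4 LD3_c39)) = (LP (LK LD1_c13 LD2_c25 LD3_c8)) :=
  Lre_b IH (LK LD1_c7 LD2_c4 LD3_c39) (LK LD1_c13 LD2_c25 LD3_c8) Lrfl Lrfl
theorem f531424 : Led Lsl_et (LP (LK LD1_c13 LD2_c25 LD3_c8)) = (LP (LK LD1_c7 LD2_c21 LD3_c36)) :=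
  Lgr Lrot74 (Lpe (f531423 IH) (Lpr_ef (K34.f531419 IH) (Lpe (K43.f436812 IH) (Lpn (LP (LK LD1_c7 LD2_c21 LD3_c36))))))
theorem f483457 : Led Lsl_cf (LP (LK LD1_c3 LD2_c46 LD3_c8)) = (LP (LK LD1_c7 LD2_c21 LD3_c36)) :=
  Lgr Lrot97 (Lpr_bt (K43.f441425 IH) (Lpr_ct (K29.f483333 IH) (Lpe (K29.f483450 IH) (Lpr_ct (K29.f483454 IH) (Lpr_bt (K43.f483456 IH) (Lpn (LP (LK LD1_c7 LD2_c21 LD3_c36))))))))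
theorem f486129 : Led Lsl_et (LP (LK LD1_c3 LD2_c46 LD3_c8)) = (LP (LK LD1_c7 LD2_c33 LD3_c17)) :=
  Lre_e IH (LK LD1_c3 LD2_c46 LD3_c8) (LK LD1_c7 LD2_c33 LD3_c17) Lrfl Lrfl
theorem f531515 : Led Lsl_cf (LP (LK LD1_c13 LD2_c25 LD3_c8)) = (LP (LK LD1_c7 LD2_c33 LD3_c17)) :=
  Lgr Lrot39 (Lpr_et (f531424 IH) (Lpe (f483457 IH) (Lpr_et (f486129 IH) (Lpn (LP (LK LD1_c7 LD2_c33 LD3_c17))))))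
theorem f531520 : Led Lsl_ct (LP (LK LD1_c13 LD2_c25 LD3_c8)) = (LP (LK LD1_c7 LD2_c33 LD3_c17)) :=
  Lgr Lrot59 (Lpr_cf (f531515 IH) (Lpn (LP (LK LD1_c7 LD2_c33 LD3_c17))))
theorem f531512 : Led Lsl_at (LP (LK LD1_c22 LD2_c43 LD3_c53)) = (LP (LK LD1_c13 LD2_c25 LD3_c8)) :=
  Lre_a IH (LK LD1_c22 LD2_c43 LD3_c53) (LK LD1_c13 LD2_c25 LD3_c8) Lrfl Lrfl
theorem f516892 : Led Lsl_at (LP (LK LD1_c7 LD2_c33 LD3_c17)) = (LP (LK LD1_c14 LD2_c14 LD3_c50)) :=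
  Lre_a IH (LK LD1_c7 LD2_c33 LD3_c17) (LK LD1_c14 LD2_c14 LD3_c50) Lrfl Lrfl
theorem f531544 : Led Lsl_cf (LP (LK LD1_c22 LD2_c43 LD3_c53)) = (LP (LK LD1_c14 LD2_c14 LD3_c50)) :=
  Lgr Lrot1 (Lpr_at (f531512 IH) (Lpr_ct (f531520 IH) (Lpr_at (f516892 IH) (Lpn (LP (LK LD1_c14 LD2_c14 LD3_c50))))))
theorem f486122 : Led Lsl_et (LP (LK LD1_c7 LD2_c33 LD3_c15)) = (LP (LK LD1_c14 LD2_c14 LD3_c50)) :=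
  Lre_e IH (LK LD1_c7 LD2_c33 LD3_c15) (LK LD1_c14 LD2_c14 LD3_c50) Lrfl Lrfl
theorem f486095 : Led Lsl_at (LP (LK LD1_c7 LD2_c33 LD3_c15)) = (LP (LK LD1_c3 LD2_c46 LD3_c8)) :=
  Lre_a IH (LK LD1_c7 LD2_c33 LD3_c15) (LK LD1_c3 LD2_c46 LD3_c8) Lrfl Lrfl
theorem f486096 : Led Lsl_at (LP (LK LD1_c7 LD2_c21 LD3_c36)) = (LP (LK LD1_c13 LD2_c54 LD3_c56)) :=
  Lre_a IH (LK LD1_c7 LD2_c21 LD3_c36) (LK LD1_c13 LD2_c54 LD3_c56) Lrfl Lrfl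
theorem f486097 : Led Lsl_cf (LP (LK LD1_c7 LD2_c33 LD3_c15)) = (LP (LK LD1_c13 LD2_c54 LD3_c56)) :=
  Lgr Lrot1 (Lpr_at (f486095 IH) (Lpr_ct (K43.f486088 IH) (Lpr_at (f486096 IH) (Lpn (LP (LK LD1_c13 LD2_c54 LD3_c56))))))
theorem f531546 : Led Lsl_et (LP (LK LD1_c22 LD2_c43 LD3_c53)) = (LP (LK LD1_c13 LD2_c54 LD3_c56)) :=
  Lgr Lrot158 (Lpr_cf (f531544 IH) (Lpe (f486122 IH) (Lpr_cf (f486097 IH) (Lpn (LP (LK LD1_c13 LD2_c54 LD3_c56))))))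
theorem f13415 : Led Lsl_bt (LP (LK LD1_c3 LD2_c41 LD3_c38)) = (LP (LK LD1_c1 LD2_c47 LD3_c43)) :=
  Lre_b IH (LK LD1_c3 LD2_c41 LD3_c38) (LK LD1_c1 LD2_c47 LD3_c43) Lrfl Lrfl
theorem f456549 : Led Lsl_at (LP (LK LD1_c7 LD2_c23 LD3_c58)) = (LP (LK LD1_c3 LD2_c41 LD3_c38)) :=
  Lre_a IH (LK LD1_c7 LD2_c23 LD3_c58) (LK LD1_c3 LD2_c41 LD3_c38) Lrfl Lrfl
theorem f517521 : Led Lsl_bt (LP (LK LD1_c13 LD2_c54 LD3_c56)) = (LP (LK LD1_c7 LD2_c23 LD3_c58)) :=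
  Lgr Lrot62 (Lpe (f486096 IH) (Lpe (K43.f483456 IH) (Lpr_af (K34.f517517 IH) (Lpe (f13415 IH) (Lpe (f456549 IH) (Lpn (LP (LK LD1_c7 LD2_c23 LD3_c58))))))))
theorem f518606 : Led Lsl_et (LP (LK LD1_c7 LD2_c23 LD3_c58)) = (LP (LK LD1_c13 LD2_c59 LD3_c40)) :=
  Lre_e IH (LK LD1_c7 LD2_c23 LD3_c58) (LK LD1_c13 LD2_c59 LD3_c40) Lrfl Lrfl
theorem f531548 : Led Lsl_bf (LP (LK LD1_c22 LD2_c43 LD3_c53)) = (LP (LK LD1_c13 LD2_c59 LD3_c40)) :=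
  Lgr Lrot96 (Lpr_et (f531546 IH) (Lpr_bt (f517521 IH) (Lpr_et (f518606 IH) (Lpn (LP (LK LD1_c13 LD2_c59 LD3_c40))))))
theorem f531550 : Led Lsl_bt (LP (LK LD1_c22 LD2_c43 LD3_c53)) = (LP (LK LD1_c13 LD2_c59 LD3_c40)) :=
  Lgr Lrot127 (Lpr_bf (f531548 IH) (Lpn (LP (LK LD1_c13 LD2_c59 LD3_c40))))
theorem f477401 : Led Lsl_bt (LP (LK LD1_c7 LD2_c33 LD3_c17)) = (LP (LK LD1_c3 LD2_c46 LD3_c10)) :=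
  Lre_b IH (LK LD1_c7 LD2_c33 LD3_c17) (LK LD1_c3 LD2_c46 LD3_c10) Lrfl Lrfl
theorem f516846 : Led Lsl_at (LP (LK LD1_c14 LD2_c14 LD3_c50)) = (LP (LK LD1_c7 LD2_c33 LD3_c17)) :=
  Lre_a IH (LK LD1_c14 LD2_c14 LD3_c50) (LK LD1_c7 LD2_c33 LD3_c17) Lrfl Lrfl
theorem f472459 : Led Lsl_bt (LP (LK LD1_c7 LD2_c1 LD3_c5)) = (LP (LK LD1_c13 LD2_c18 LD3_c45)) :=
  Lre_b IH (LK LD1_c7 LD2_c1 LD3_c5) (LK LD1_c13 LD2_c18 LD3_c45) Lrfl Lrfl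
theorem f472472 : Led Lsl_at (LP (LK LD1_c13 LD2_c18 LD3_c45)) = (LP (LK LD1_c22 LD2_c34 LD3_c48)) :=
  Lre_a IH (LK LD1_c13 LD2_c18 LD3_c45) (LK LD1_c22 LD2_c34 LD3_c48) Lrfl Lrfl
theorem f516847 : Led Lsl_bf (LP (LK LD1_c14 LD2_c14 LD3_c50)) = (LP (LK LD1_c22 LD2_c34 LD3_c48)) :=
  Lgr Lrot81 (Lpr_at (f516846 IH) (Lpr_bt (f477401 IH) (Lpr_at (K33.f516842 IH) (Lpr_bt (f472459 IH) (Lpr_at (f472472 IH) (Lpn (LP (LK LD1_c22 LD2_c34 LD3_c48))))))))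
theorem f472392 : Led Lsl_bt (LP (LK LD1_c13 LD2_c18 LD3_c45)) = (LP (LK LD1_c7 LD2_c1 LD3_c5)) :=
  Lre_b IH (LK LD1_c13 LD2_c18 LD3_c45) (LK LD1_c7 LD2_c1 LD3_c5) Lrfl Lrfl
theorem f482964 : Led Lsl_cf (LP (LK LD1_c13 LD2_c18 LD3_c45)) = (LP (LK LD1_c7 LD2_c18 LD3_c24)) :=
  Lgr Lrot97 (Lpr_bt (f472392 IH) (Lpr_ct (K33.f482959 IH) (Lpr_bt (K30.f482961 IH) (Lpr_ct (K33.f481476 IH) (Lpr_bt (K33.f482963 IH) (Lpn (LP (LK LD1_c7 LD2_c18 LD3_c24))))))))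
theorem f472462 : Led Lsl_et (LP (LK LD1_c13 LD2_c18 LD3_c45)) = (LP (LK LD1_c7 LD2_c1 LD3_c3)) :=
  Lre_e IH (LK LD1_c13 LD2_c18 LD3_c45) (LK LD1_c7 LD2_c1 LD3_c3) Lrfl Lrfl
theorem f482969 : Led Lsl_et (LP (LK LD1_c3 LD2_c38 LD3_c60)) = (LP (LK LD1_c7 LD2_c18 LD3_c24)) :=
  Lre_e IH (LK LD1_c3 LD2_c38 LD3_c60) (LK LD1_c7 LD2_c18 LD3_c24) Lrfl Lrfl
theorem f482970 : Led Lsl_ct (LP (LK LD1_c7 LD2_c1 LD3_c3)) = (LP (LK LD1_c3 LD2_c38 LD3_c60)) :=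
  Lgr Lrot15 (Lpe (f472462 IH) (Lpr_cf (f482964 IH) (Lpe (f482969 IH) (Lpn (LP (LK LD1_c3 LD2_c38 LD3_c60))))))
theorem f482975 : Led Lsl_at (LP (LK LD1_c13 LD2_c18 LD3_c43)) = (LP (LK LD1_c7 LD2_c1 LD3_c3)) :=
  Lre_a IH (LK LD1_c13 LD2_c18 LD3_c43) (LK LD1_c7 LD2_c1 LD3_c3) Lrfl Lrfl
theorem f482976 : Led Lsl_at (LP (LK LD1_c3 LD2_c38 LD3_c60)) = (LP (LK LD1_c7 LD2_c18 LD3_c22)) :=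
  Lre_a IH (LK LD1_c3 LD2_c38 LD3_c60) (LK LD1_c7 LD2_c18 LD3_c22) Lrfl Lrfl
theorem f482977 : Led Lsl_cf (LP (LK LD1_c13 LD2_c18 LD3_c43)) = (LP (LK LD1_c7 LD2_c18 LD3_c22)) :=
  Lgr Lrot1 (Lpr_at (f482975 IH) (Lpr_ct (f482970 IH) (Lpr_at (f482976 IH) (Lpn (LP (LK LD1_c7 LD2_c18 LD3_c22))))))
theorem f482987 : Led Lsl_ct (LP (LK LD1_c13 LD2_c18 LD3_c43)) = (LP (LK LD1_c7 LD2_c18 LD3_c22)) :=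
  Lgr Lrot59 (Lpr_cf (f482977 IH) (Lpn (LP (LK LD1_c7 LD2_c18 LD3_c22))))
theorem f483001 : Led Lsl_et (LP (LK LD1_c22 LD2_c34 LD3_c48)) = (LP (LK LD1_c13 LD2_c18 LD3_c43)) :=
  Lre_e IH (LK LD1_c22 LD2_c34 LD3_c48) (LK LD1_c13 LD2_c18 LD3_c43) Lrfl Lrfl
theorem f483002 : Led Lsl_et (LP (LK LD1_c7 LD2_c18 LD3_c22)) = (LP (LK LD1_c13 LD2_c49 LD3_c29)) :=
  Lre_e IH (LK LD1_c7 LD2_c18 LD3_c22) (LK LD1_c13 LD2_c49 LD3_c29) Lrfl Lrfl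
theorem f483003 : Led Lsl_cf (LP (LK LD1_c22 LD2_c34 LD3_c48)) = (LP (LK LD1_c13 LD2_c49 LD3_c29)) :=
  Lgr Lrot39 (Lpr_et (f483001 IH) (Lpr_ct (f482987 IH) (Lpr_et (f483002 IH) (Lpn (LP (LK LD1_c13 LD2_c49 LD3_c29))))))
theorem f608916 : Led Lsl_bt (LP (LK LD1_c23 LD2_c3 LD3_c18)) = (LP (LK LD1_c13 LD2_c49 LD3_c29)) :=
  Lgr Lrot128 (Lpr_cf (f608910 IH) (Lpe (f531550 IH) (Lpr_cf (f531544 IH) (Lpr_bf (f516847 IH) (Lpr_cf (f483003 IH) (Lpn (LP (LK LD1_c13 LD2_c49 LD3_c29))))))))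
theorem f482994 : Led Lsl_et (LP (LK LD1_c13 LD2_c49 LD3_c29)) = (LP (LK LD1_c7 LD2_c18 LD3_c22)) :=
  Lre_e IH (LK LD1_c13 LD2_c49 LD3_c29) (LK LD1_c7 LD2_c18 LD3_c22) Lrfl Lrfl
theorem f608922 : Led Lsl_bf (LP (LK LD1_c13 LD2_c38 LD3_c9)) = (LP (LK LD1_c7 LD2_c18 LD3_c22)) :=
  Lgr Lrot96 (Lpr_et (f559048 IH) (Lpr_bt (f608916 IH) (Lpr_et (f482994 IH) (Lpn (LP (LK LD1_c7 LD2_c18 LD3_c22))))))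
theorem f476483 : Led Lsl_at (LP (LK LD1_c13 LD2_c48 LD3_c8)) = (LP (LK LD1_c7 LD2_c17 LD3_c45)) :=
  Lre_a IH (LK LD1_c13 LD2_c48 LD3_c8) (LK LD1_c7 LD2_c17 LD3_c45) Lrfl Lrfl
theorem f456515 : Led Lsl_at (LP (LK LD1_c3 LD2_c41 LD3_c48)) = (LP (LK LD1_c7 LD2_c24 LD3_c17)) :=
  Lre_a IH (LK LD1_c3 LD2_c41 LD3_c48) (LK LD1_c7 LD2_c24 LD3_c17) Lrfl Lrfl
theorem f525491 : Led Lsl_ff (LP (LK LD1_c13 LD2_c48 LD3_c8)) = (LP (LK LD1_c7 LD2_c24 LD3_c17)) :=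
  Lgr Lrot30 (Lpr_at (f476483 IH) (Lpr_ft (K35.f525487 IH) (Lpr_at (f456515 IH) (Lpn (LP (LK LD1_c7 LD2_c24 LD3_c17))))))
theorem f526712 : Led Lsl_gf (LP (LK LD1_c13 LD2_c48 LD3_c11)) = (LP (LK LD1_c7 LD2_c24 LD3_c17)) :=
  Lgr Lrot47 (Lpr_gt (f5353 IH) (Lpe (f476483 IH) (Lpr_ff (f525491 IH) (Lpn (LP (LK LD1_c7 LD2_c24 LD3_c17))))))
theorem f595864 : Led Lsl_gt (LP (LK LD1_c11 LD2_c8 LD3_c4)) = (LP (LK LD1_c5 LD2_c58 LD3_c49)) :=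
  Lgr Lrot94 (Lpe (K45.f164702 IH) (Lpe (K45.f592831 IH) (Lpr_dt (K7.f20353 IH) (Lpqs (K38.f541437 IH) (Lpe (K38.f500183 IH) (Lpr_dt (K38.f22384 IH) (Lpe (K38.f208547 IH) (Lpe (K38.f208568 IH) (Lpr_gf (K45.f595476 IH) (Lpe (K45.f428192 IH) (Lpn (LP (LK LD1_c5 LD2_c58 LD3_c49)))))))))))))
theorem f548348 : Led Lsl_dt (LP (LK LD1_c11 LD2_c8 LD3_c4)) = (LP (LK LD1_c20 LD2_c1 LD3_c43)) :=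
  Lre_d IH (LK LD1_c11 LD2_c8 LD3_c4) (LK LD1_c20 LD2_c1 LD3_c43) Lrfl Lrfl
theorem f595432 : Led Lsl_ct (LP (LK LD1_c26 LD2_c53 LD3_c26)) = (LP (LK LD1_c20 LD2_c26 LD3_c39)) :=
  Lgr Lrot59 (Lpr_cf (K45.f595425 IH) (Lpn (LP (LK LD1_c20 LD2_c26 LD3_c39))))
theorem f573400 : Led Lsl_cf (LP (LK LD1_c11 LD2_c28 LD3_c19)) = (LP (LK LD1_c11 LD2_c7 LD3_c7)) :=
  Lgr Lrot14 (Lpe (K43.f557468 IH) (Lpe (K43.f572902 IH) (Lpe (K38.f181487 IH) (Lpr_gf (K40.f563177 IH) (Lpr_ct (K38.f539593 IH) (Lpe (K40.f563713 IH) (Lpr_dt (K43.f428175 IH) (Lpr_gt (K43.f573393 IH) (Lpe (K45.f573398 IH) (Lpn (LP (LK LD1_c11 LD2_c7 LD3_c7))))))))))))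
theorem f595439 : Led Lsl_dt (LP (LK LD1_c6 LD2_c7 LD3_c55)) = (LP (LK LD1_c11 LD2_c29 LD3_c30)) :=
  Lgr Lrot173 (Lpe (K43.f577780 IH) (Lpe (K43.f386644 IH) (Lpe (K43.f544951 IH) (Lpe (K43.f544957 IH) (Lpe (K43.f579738 IH) (Lpe (K43.f548341 IH) (Lpe (K43.f186440 IH) (Lpr_df (K43.f579747 IH) (Lpr_cf (f573400 IH) (Lpr_df (K45.f573398 IH) (Lpe (K43.f573391 IH) (Lpe (K45.f544985 IH) (Lpe (f595432 IH) (Lpe (K45.f595410 IH) (Lpr_cf (K45.f595434 IH) (Lpn (LP (LK LD1_c11 LD2_c29 LD3_c30))))))))))))))))))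
theorem f595446 : Led Lsl_gf (LP (LK LD1_c26 LD2_c53 LD3_c26)) = (LP (LK LD1_c20 LD2_c1 LD3_c43)) :=
  Lgr Lrot143 (Lpr_dt (K45.f595422 IH) (Lpr_cf (K45.f595434 IH) (Lpe (f595439 IH) (Lpe (K43.f572653 IH) (Lpe (K45.f558875 IH) (Lpr_gf (K40.f539589 IH) (Lpr_cf (K45.f595048 IH) (Lpr_gt (K45.f592840 IH) (Lpr_dt (f548348 IH) (Lpn (LP (LK LD1_c20 LD2_c1 LD3_c43))))))))))))
theorem f595155 : Led Lsl_dt (LP (LK LD1_c16 LD2_c58 LD3_c54)) = (LP (LK LD1_c9 LD2_c6 LD3_c47)) :=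
  Lre_d IH (LK LD1_c16 LD2_c58 LD3_c54) (LK LD1_c9 LD2_c6 LD3_c47) Lrfl Lrfl
theorem f595140 : Led Lsl_ct (LP (LK LD1_c16 LD2_c58 LD3_c52)) = (LP (LK LD1_c16 LD2_c58 LD3_c54)) :=
  Lgr Lrot7 (Lpe (K45.f548616 IH) (Lpe (K45.f563135 IH) (Lpr_df (K45.f428182 IH) (Lpr_gf (K45.f595136 IH) (Lpe (K45.f595123 IH) (Lpr_gt (K45.f396378 IH) (Lpr_dt (K45.f20385 IH) (Lpr_gt (K45.f494374 IH) (Lpr_dt (K45.f595133 IH) (Lpn (LP (LK LD1_c16 LD2_c58 LD3_c54))))))))))))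
theorem f595869 : Led Lsl_gt (LP (LK LD1_c20 LD2_c26 LD3_c39)) = (LP (LK LD1_c16 LD2_c58 LD3_c52)) :=
  Lgr Lrot150 (Lpe (f595432 IH) (Lpr_gf (f595446 IH) (Lpe (f548348 IH) (Lpr_gt (f595864 IH) (Lpr_ct (K36.f428161 IH) (Lpr_gt (K45.f428854 IH) (Lpr_ct (K45.f595147 IH) (Lpe (f595155 IH) (Lpe (f595140 IH) (Lpn (LP (LK LD1_c16 LD2_c58 LD3_c52))))))))))))
theorem f544984 : Led Lsl_dt (LP (LK LD1_c11 LD2_c29 LD3_c33)) = (LP (LK LD1_c20 LD2_c26 LD3_c39)) :=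
  Lre_d IH (LK LD1_c11 LD2_c29 LD3_c33) (LK LD1_c20 LD2_c26 LD3_c39) Lrfl Lrfl
theorem f595876 : Led Lsl_dt (LP (LK LD1_c5 LD2_c38 LD3_c6)) = (LP (LK LD1_c4 LD2_c34 LD3_c61)) :=
  Lgr Lrot105 (Lpe (K43.f380413 IH) (Lpe (K36.f538948 IH) (Lpe (K38.f548246 IH) (Lpe (K43.f181543 IH) (Lpe (K43.f573382 IH) (Lpr_dt (f544984 IH) (Lpr_gt (f595869 IH) (Lpr_dt (K45.f548617 IH) (Lpe (K40.f494355 IH) (Lpn (LP (LK LD1_c4 LD2_c34 LD3_c61))))))))))))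
theorem f577760 : Led Lsl_af (LP (LK LD1_c5 LD2_c38 LD3_c6)) = (LP (LK LD1_c2 LD2_c45 LD3_c2)) :=
  Lgr Lrot45 (Lpr_ft (K43.f577758 IH) (Lpe (K43.f577746 IH) (Lpr_ft (K43.f577736 IH) (Lpn (LP (LK LD1_c2 LD2_c45 LD3_c2))))))
theorem f595878 : Led Lsl_af (LP (LK LD1_c5 LD2_c38 LD3_c23)) = (LP (LK LD1_c4 LD2_c34 LD3_c61)) :=
  Lgr Lrot117 (Lpr_dt (K45.f548363 IH) (Lpe (f577760 IH) (Lpr_dt (f595876 IH) (Lpn (LP (LK LD1_c4 LD2_c34 LD3_c61))))))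
theorem f595880 : Led Lsl_at (LP (LK LD1_c11 LD2_c8 LD3_c4)) = (LP (LK LD1_c9 LD2_c6 LD3_c46)) :=
  Lgr Lrot107 (Lpe (K45.f164702 IH) (Lpr_af (f595878 IH) (Lpe (K45.f494356 IH) (Lpn (LP (LK LD1_c9 LD2_c6 LD3_c46))))))
theorem f595889 : Led Lsl_ff (LP (LK LD1_c11 LD2_c8 LD3_c4)) = (LP (LK LD1_c9 LD2_c6 LD3_c43)) :=
  Lgr Lrot52 (Lpr_at (f595880 IH) (Lpe (K45.f563135 IH) (Lpe (K45.f539945 IH) (Lpn (LP (LK LD1_c9 LD2_c6 LD3_c43))))))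
theorem f595895 : Led Lsl_ft (LP (LK LD1_c20 LD2_c1 LD3_c43)) = (LP (LK LD1_c16 LD2_c58 LD3_c49)) :=
  Lgr Lrot54 (Lpe (f548348 IH) (Lpr_ff (f595889 IH) (Lpe (K45.f539948 IH) (Lpn (LP (LK LD1_c16 LD2_c58 LD3_c49))))))
theorem f595901 : Led Lsl_ff (LP (LK LD1_c20 LD2_c1 LD3_c43)) = (LP (LK LD1_c16 LD2_c58 LD3_c49)) :=
  Lgr Lrot3 (Lpr_ft (f595895 IH) (Lpn (LP (LK LD1_c16 LD2_c58 LD3_c49))))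
theorem f595907 : Led Lsl_ft (LP (LK LD1_c20 LD2_c1 LD3_c51)) = (LP (LK LD1_c16 LD2_c58 LD3_c57)) :=
  Lgr Lrot4 (Lpe (K45.f595394 IH) (Lpr_ff (f595901 IH) (Lpr_cf (K45.f592714 IH) (Lpn (LP (LK LD1_c16 LD2_c58 LD3_c57))))))
theorem f570326 : Led Lsl_df (LP (LK LD1_c20 LD2_c1 LD3_c51)) = (LP (LK LD1_c16 LD2_c58 LD3_c6)) :=
  Lgr Lrot153 (Lpr_gt (K45.f211717 IH) (Lpr_dt (K36.f211716 IH) (Lpe (K36.f165059 IH) (Lpe (K36.f422724 IH) (Lpe (K42.f210998 IH) (Lpe (K42.f422734 IH) (Lpr_gf (K42.f570322 IH) (Lpe (K7.f20343 IH) (Lpr_gt (K38.f500303 IH) (Lpn (LP (LK LD1_c16 LD2_c58 LD3_c6))))))))))))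
theorem f595911 : Led Lsl_ff (LP (LK LD1_c16 LD2_c58 LD3_c6)) = (LP (LK LD1_c9 LD2_c6 LD3_c48)) :=
  Lgr Lrot19 (Lpe (f570326 IH) (Lpr_ft (f595907 IH) (Lpr_dt (K45.f564060 IH) (Lpn (LP (LK LD1_c9 LD2_c6 LD3_c48))))))
theorem f595917 : Led Lsl_ft (LP (LK LD1_c16 LD2_c58 LD3_c6)) = (LP (LK LD1_c9 LD2_c6 LD3_c48)) :=
  Lgr Lrot48 (Lpr_ff (f595911 IH) (Lpn (LP (LK LD1_c9 LD2_c6 LD3_c48))))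
theorem f548633 : Led Lsl_bt (LP (LK LD1_c26 LD2_c53 LD3_c37)) = (LP (LK LD1_c16 LD2_c58 LD3_c6)) :=
  Lre_b IH (LK LD1_c26 LD2_c53 LD3_c37) (LK LD1_c16 LD2_c58 LD3_c6) Lrfl Lrfl
theorem f595921 : Led Lsl_ff (LP (LK LD1_c26 LD2_c53 LD3_c37)) = (LP (LK LD1_c16 LD2_c58 LD3_c56)) :=
  Lgr Lrot25 (Lpr_bt (f548633 IH) (Lpr_ft (f595917 IH) (Lpr_bt (K45.f564061 IH) (Lpn (LP (LK LD1_c16 LD2_c58 LD3_c56))))))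
theorem f548637 : Led Lsl_bt (LP (LK LD1_c16 LD2_c58 LD3_c6)) = (LP (LK LD1_c26 LD2_c53 LD3_c37)) :=
  Lre_b IH (LK LD1_c16 LD2_c58 LD3_c6) (LK LD1_c26 LD2_c53 LD3_c37) Lrfl Lrfl
theorem f548638 : Led Lsl_bt (LP (LK LD1_c4 LD2_c36 LD3_c25)) = (LP (LK LD1_c9 LD2_c8 LD3_c58)) :=
  Lre_b IH (LK LD1_c4 LD2_c36 LD3_c25) (LK LD1_c9 LD2_c8 LD3_c58) Lrfl Lrfl
theorem f548639 : Led Lsl_ct (LP (LK LD1_c9 LD2_c8 LD3_c59)) = (LP (LK LD1_c4 LD2_c36 LD3_c25)) :=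
  Lre_c IH (LK LD1_c9 LD2_c8 LD3_c59) (LK LD1_c4 LD2_c36 LD3_c25) Lrfl Lrfl
theorem f548640 : Led Lsl_bt (LP (LK LD1_c17 LD2_c1 LD3_c52)) = (LP (LK LD1_c9 LD2_c8 LD3_c59)) :=
  Lre_b IH (LK LD1_c17 LD2_c1 LD3_c52) (LK LD1_c9 LD2_c8 LD3_c59) Lrfl Lrfl
theorem f548641 : Led Lsl_ct (LP (LK LD1_c26 LD2_c53 LD3_c37)) = (LP (LK LD1_c17 LD2_c1 LD3_c52)) :=
  Lgr Lrot83 (Lpe (f548637 IH) (Lpr_cf (K38.f548634 IH) (Lpe (f548638 IH) (Lpe (f548639 IH) (Lpe (f548640 IH) (Lpn (LP (LK LD1_c17 LD2_c1 LD3_c52))))))))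
theorem f595923 : Led Lsl_ft (LP (LK LD1_c17 LD2_c1 LD3_c52)) = (LP (LK LD1_c21 LD2_c15 LD3_c51)) :=
  Lgr Lrot4 (Lpe (f548641 IH) (Lpr_ff (f595921 IH) (Lpe (K45.f592687 IH) (Lpn (LP (LK LD1_c21 LD2_c15 LD3_c51))))))
theorem f595931 : Led Lsl_ff (LP (LK LD1_c17 LD2_c1 LD3_c52)) = (LP (LK LD1_c21 LD2_c15 LD3_c51)) :=
  Lgr Lrot3 (Lpr_ft (f595923 IH) (Lpn (LP (LK LD1_c21 LD2_c15 LD3_c51))))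
theorem f595935 : Led Lsl_dt (LP (LK LD1_c17 LD2_c1 LD3_c52)) = (LP (LK LD1_c26 LD2_c56 LD3_c60)) :=
  Lre_d IH (LK LD1_c17 LD2_c1 LD3_c52) (LK LD1_c26 LD2_c56 LD3_c60) Lrfl Lrfl
theorem f592692 : Led Lsl_dt (LP (LK LD1_c29 LD2_c55 LD3_c46)) = (LP (LK LD1_c21 LD2_c15 LD3_c51)) :=
  Lre_d IH (LK LD1_c29 LD2_c55 LD3_c46) (LK LD1_c21 LD2_c15 LD3_c51) Lrfl Lrfl
theorem f595940 : Led Lsl_ft (LP (LK LD1_c26 LD2_c56 LD3_c60)) = (LP (LK LD1_c29 LD2_c55 LD3_c46)) :=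
  Lgr Lrot54 (Lpe (f595935 IH) (Lpr_ff (f595931 IH) (Lpe (f592692 IH) (Lpn (LP (LK LD1_c29 LD2_c55 LD3_c46))))))
theorem f595943 : Led Lsl_bt (LP (LK LD1_c17 LD2_c1 LD3_c53)) = (LP (LK LD1_c26 LD2_c56 LD3_c60)) :=
  Lre_b IH (LK LD1_c17 LD2_c1 LD3_c53) (LK LD1_c26 LD2_c56 LD3_c60) Lrfl Lrfl
theorem f580691 : Led Lsl_bt (LP (LK LD1_c29 LD2_c55 LD3_c46)) = (LP (LK LD1_c21 LD2_c15 LD3_c52)) :=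
  Lre_b IH (LK LD1_c29 LD2_c55 LD3_c46) (LK LD1_c21 LD2_c15 LD3_c52) Lrfl Lrfl
theorem f595944 : Led Lsl_ff (LP (LK LD1_c17 LD2_c1 LD3_c53)) = (LP (LK LD1_c21 LD2_c15 LD3_c52)) :=
  Lgr Lrot25 (Lpr_bt (f595943 IH) (Lpr_ft (f595940 IH) (Lpr_bt (f580691 IH) (Lpn (LP (LK LD1_c21 LD2_c15 LD3_c52))))))
theorem f579447 : Led Lsl_gf (LP (LK LD1_c27 LD2_c39 LD3_c24)) = (LP (LK LD1_c29 LD2_c55 LD3_c43)) :=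
  Lgr Lrot143 (Lpr_dt (K43.f579439 IH) (Lpe (K42.f565054 IH) (Lpe (K42.f571338 IH) (Lpr_gf (K43.f572618 IH) (Lpe (K38.f424557 IH) (Lpe (K38.f424552 IH) (Lpe (K43.f420807 IH) (Lpe (K43.f573125 IH) (Lpr_dt (K42.f570141 IH) (Lpn (LP (LK LD1_c29 LD2_c55 LD3_c43))))))))))))
theorem f385298 : Led Lsl_ct (LP (LK LD1_c27 LD2_c39 LD3_c24)) = (LP (LK LD1_c17 LD2_c53 LD3_c55)) :=
  Lre_c IH (LK LD1_c27 LD2_c39 LD3_c24) (LK LD1_c17 LD2_c53 LD3_c55) Lrfl Lrfl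
theorem f579449 : Led Lsl_gt (LP (LK LD1_c21 LD2_c11 LD3_c22)) = (LP (LK LD1_c26 LD2_c55 LD3_c52)) :=
  Lgr Lrot9 (Lpe (K44.f548966 IH) (Lpe (K42.f556745 IH) (Lpr_ct (K42.f548183 IH) (Lpr_gt (K42.f549096 IH) (Lpr_ct (K42.f172662 IH) (Lpe (K42.f172664 IH) (Lpe (f385298 IH) (Lpr_gf (f579447 IH) (Lpr_cf (K42.f570144 IH) (Lpn (LP (LK LD1_c26 LD2_c55 LD3_c52))))))))))))
theorem f595950 : Led Lsl_at (LP (LK LD1_c17 LD2_c1 LD3_c53)) = (LP (LK LD1_c26 LD2_c55 LD3_c52)) :=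
  Lgr Lrot26 (Lpr_ff (f595944 IH) (Lpe (K44.f582058 IH) (Lpr_gt (f579449 IH) (Lpn (LP (LK LD1_c26 LD2_c55 LD3_c52))))))
theorem f582084 : Led Lsl_dt (LP (LK LD1_c9 LD2_c8 LD3_c59)) = (LP (LK LD1_c17 LD2_c1 LD3_c53)) :=
  Lre_d IH (LK LD1_c9 LD2_c8 LD3_c59) (LK LD1_c17 LD2_c1 LD3_c53) Lrfl Lrfl
theorem f595955 : Led Lsl_af (LP (LK LD1_c9 LD2_c8 LD3_c59)) = (LP (LK LD1_c17 LD2_c0 LD3_c50)) :=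
  Lgr Lrot117 (Lpr_dt (f582084 IH) (Lpr_at (f595950 IH) (Lpr_dt (K42.f556384 IH) (Lpn (LP (LK LD1_c17 LD2_c0 LD3_c50))))))
theorem f595204 : Led Lsl_gt (LP (LK LD1_c12 LD2_c5 LD3_c36)) = (LP (LK LD1_c9 LD2_c8 LD3_c59)) :=
  Lgr Lrot187 (Lpe (K45.f101561 IH) (Lpe (K42.f569314 IH) (Lpr_dt (K38.f450371 IH) (Lpe (K43.f575869 IH) (Lpe (K43.f575921 IH) (Lpr_gt (K45.f594927 IH) (Lpr_ct (K45.f578972 IH) (Lpr_dt (K45.f595195 IH) (Lpe (f548639 IH) (Lpn (LP (LK LD1_c9 LD2_c8 LD3_c59))))))))))))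
theorem f595961 : Led Lsl_ft (LP (LK LD1_c9 LD2_c8 LD3_c61)) = (LP (LK LD1_c17 LD2_c0 LD3_c50)) :=
  Lgr Lrot2 (Lpe (K45.f565427 IH) (Lpr_gt (f595204 IH) (Lpr_af (f595955 IH) (Lpn (LP (LK LD1_c17 LD2_c0 LD3_c50))))))
theorem f595969 : Led Lsl_ff (LP (LK LD1_c9 LD2_c8 LD3_c61)) = (LP (LK LD1_c17 LD2_c0 LD3_c50)) :=
  Lgr Lrot3 (Lpr_ft (f595961 IH) (Lpn (LP (LK LD1_c17 LD2_c0 LD3_c50))))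
theorem f595958 : Led Lsl_at (LP (LK LD1_c9 LD2_c8 LD3_c59)) = (LP (LK LD1_c17 LD2_c0 LD3_c50)) :=
  Lgr Lrot100 (Lpr_af (f595955 IH) (Lpn (LP (LK LD1_c17 LD2_c0 LD3_c50))))
theorem f548686 : Led Lsl_bt (LP (LK LD1_c9 LD2_c8 LD3_c59)) = (LP (LK LD1_c17 LD2_c1 LD3_c52)) :=
  Lre_b IH (LK LD1_c9 LD2_c8 LD3_c59) (LK LD1_c17 LD2_c1 LD3_c52) Lrfl Lrfl
theorem f595925 : Led Lsl_ff (LP (LK LD1_c9 LD2_c8 LD3_c59)) = (LP (LK LD1_c12 LD2_c10 LD3_c2)) :=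
  Lgr Lrot25 (Lpr_bt (f548686 IH) (Lpr_ft (f595923 IH) (Lpr_bt (K45.f592680 IH) (Lpn (LP (LK LD1_c12 LD2_c10 LD3_c2))))))
theorem f595971 : Led Lsl_at (LP (LK LD1_c9 LD2_c8 LD3_c61)) = (LP (LK LD1_c12 LD2_c10 LD3_c2)) :=
  Lgr Lrot66 (Lpr_ff (f595969 IH) (Lpe (f595958 IH) (Lpr_ff (f595925 IH) (Lpn (LP (LK LD1_c12 LD2_c10 LD3_c2))))))
theorem f595977 : Led Lsl_gf (LP (LK LD1_c20 LD2_c25 LD3_c30)) = (LP (LK LD1_c17 LD2_c0 LD3_c50)) :=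
  Lgr Lrot47 (Lpr_gt (K45.f582060 IH) (Lpe (f595971 IH) (Lpr_ff (f595969 IH) (Lpn (LP (LK LD1_c17 LD2_c0 LD3_c50))))))
theorem f175375 : Led Lsl_gt (LP (LK LD1_c6 LD2_c3 LD3_c26)) = (LP (LK LD1_c2 LD2_c57 LD3_c51)) :=
  Lre_g IH (LK LD1_c6 LD2_c3 LD3_c26) (LK LD1_c2 LD2_c57 LD3_c51) Lrfl Lrfl
theorem f569247 : Led Lsl_ct (LP (LK LD1_c4 LD2_c58 LD3_c59)) = (LP (LK LD1_c9 LD2_c48 LD3_c20)) :=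
  Lre_c IH (LK LD1_c4 LD2_c58 LD3_c59) (LK LD1_c9 LD2_c48 LD3_c20) Lrfl Lrfl
theorem f572392 : Led Lsl_gf (LP (LK LD1_c17 LD2_c0 LD3_c50)) = (LP (LK LD1_c9 LD2_c48 LD3_c20)) :=
  Lgr Lrot104 (Lpr_ct (K42.f556385 IH) (Lpr_df (K42.f556356 IH) (Lpe (K42.f210324 IH) (Lpe (K43.f570139 IH) (Lpe (K42.f176630 IH) (Lpe (K39.f176629 IH) (Lpe (K38.f176689 IH) (Lpr_gt (K42.f572386 IH) (Lpr_ct (f569247 IH) (Lpn (LP (LK LD1_c9 LD2_c48 LD3_c20))))))))))))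
theorem f572397 : Led Lsl_bf (LP (LK LD1_c6 LD2_c3 LD3_c26)) = (LP (LK LD1_c9 LD2_c8 LD3_c20)) :=
  Lgr Lrot156 (Lpr_gt (f175375 IH) (Lpe (K35.f175665 IH) (Lpr_ct (K10.f175385 IH) (Lpr_gt (K10.f177709 IH) (Lpe (K10.f176602 IH) (Lpr_bt (K42.f176612 IH) (Lpr_gt (K42.f572386 IH) (Lpr_ct (f569247 IH) (Lpe (f572392 IH) (Lpe (K42.f72007 IH) (Lpn (LP (LK LD1_c9 LD2_c8 LD3_c20)))))))))))))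
theorem f595979 : Led Lsl_gt (LP (LK LD1_c9 LD2_c8 LD3_c7)) = (LP (LK LD1_c6 LD2_c3 LD3_c26)) :=
  Lgr Lrot164 (Lpe (K35.f538236 IH) (Lpr_ct (K42.f538244 IH) (Lpe (K45.f538246 IH) (Lpe (K45.f594864 IH) (Lpr_gf (K45.f594887 IH) (Lpr_bf (K42.f571942 IH) (Lpr_ct (K45.f548969 IH) (Lpr_gf (f595977 IH) (Lpe (K42.f72007 IH) (Lpe (f572397 IH) (Lpn (LP (LK LD1_c6 LD2_c3 LD3_c26)))))))))))))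
theorem f570168 : Led Lsl_et (LP (LK LD1_c6 LD2_c16 LD3_c32)) = (LP (LK LD1_c4 LD2_c56 LD3_c43)) :=
  Lgr Lrot87 (Lpr_ef (K42.f570162 IH) (Lpn (LP (LK LD1_c4 LD2_c56 LD3_c43))))
theorem f595983 : Led Lsl_dt (LP (LK LD1_c6 LD2_c16 LD3_c32)) = (LP (LK LD1_c6 LD2_c3 LD3_c26)) :=
  Lgr Lrot56 (Lpr_et (f570168 IH) (Lpr_gt (K42.f172601 IH) (Lpe (K30.f172595 IH) (Lpr_dt (K30.f172543 IH) (Lpe (K31.f411972 IH) (Lpe (K31.f174964 IH) (Lpr_et (K36.f411981 IH) (Lpqs (K36.f541365 IH) (Lpe (K36.f500417 IH) (Lpr_dt (K35.f500418 IH) (Lpr_gt (f595979 IH) (Lpn (LP (LK LD1_c6 LD2_c3 LD3_c26))))))))))))))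
theorem f202630 : Led Lsl_dt (LP (LK LD1_c6 LD2_c16 LD3_c31)) = (LP (LK LD1_c3 LD2_c5 LD3_c22)) :=
  Lre_d IH (LK LD1_c6 LD2_c16 LD3_c31) (LK LD1_c3 LD2_c5 LD3_c22) Lrfl Lrfl
theorem f595990 : Led Lsl_ff (LP (LK LD1_c6 LD2_c16 LD3_c31)) = (LP (LK LD1_c6 LD2_c3 LD3_c26)) :=
  Lgr Lrot19 (Lpr_dt (f202630 IH) (Lpr_ft (K45.f503143 IH) (Lpr_dt (f595983 IH) (Lpn (LP (LK LD1_c6 LD2_c3 LD3_c26))))))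
theorem f595994 : Led Lsl_ft (LP (LK LD1_c6 LD2_c16 LD3_c31)) = (LP (LK LD1_c6 LD2_c3 LD3_c26)) :=
  Lgr Lrot48 (Lpr_ff (f595990 IH) (Lpn (LP (LK LD1_c6 LD2_c3 LD3_c26))))
theorem f594965 : Led Lsl_ft (LP (LK LD1_c11 LD2_c8 LD3_c3)) = (LP (LK LD1_c5 LD2_c58 LD3_c47)) :=
  Lgr Lrot54 (Lpe (K42.f422735 IH) (Lpe (K43.f577730 IH) (Lpr_df (K45.f594961 IH) (Lpn (LP (LK LD1_c5 LD2_c58 LD3_c47))))))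
theorem f568595 : Led Lsl_bf (LP (LK LD1_c11 LD2_c8 LD3_c3)) = (LP (LK LD1_c6 LD2_c3 LD3_c25)) :=
  Lgr Lrot24 (Lpr_bt (K42.f568593 IH) (Lpn (LP (LK LD1_c6 LD2_c3 LD3_c25))))
theorem f595181 : Led Lsl_ft (LP (LK LD1_c9 LD2_c14 LD3_c11)) = (LP (LK LD1_c6 LD2_c3 LD3_c25)) :=
  Lgr Lrot75 (Lpr_bf (K45.f595172 IH) (Lpe (f594965 IH) (Lpr_bf (f568595 IH) (Lpn (LP (LK LD1_c6 LD2_c3 LD3_c25))))))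
theorem f595185 : Led Lsl_at (LP (LK LD1_c6 LD2_c3 LD3_c25)) = (LP (LK LD1_c6 LD2_c16 LD3_c31)) :=
  Lgr Lrot26 (Lpe (f595181 IH) (Lpr_gt (K45.f595183 IH) (Lpe (K36.f202628 IH) (Lpn (LP (LK LD1_c6 LD2_c16 LD3_c31))))))
theorem f595996 : Led Lsl_af (LP (LK LD1_c9 LD2_c14 LD3_c11)) = (LP (LK LD1_c6 LD2_c3 LD3_c26)) :=
  Lgr Lrot45 (Lpr_ft (f595181 IH) (Lpr_at (f595185 IH) (Lpr_ft (f595994 IH) (Lpn (LP (LK LD1_c6 LD2_c3 LD3_c26))))))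
theorem f596003 : Led Lsl_dt (LP (LK LD1_c9 LD2_c14 LD3_c11)) = (LP (LK LD1_c9 LD2_c51 LD3_c21)) :=
  Lgr Lrot44 (Lpr_af (f595996 IH) (Lpe (f595983 IH) (Lpr_af (K45.f569126 IH) (Lpn (LP (LK LD1_c9 LD2_c51 LD3_c21))))))
theorem f161366 : Led Lsl_gt (LP (LK LD1_c8 LD2_c0 LD3_c12)) = (LP (LK LD1_c15 LD2_c4 LD3_c52)) :=
  Lre_g IH (LK LD1_c8 LD2_c0 LD3_c12) (LK LD1_c15 LD2_c4 LD3_c52) Lrfl Lrfl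
theorem f596015 : Led Lsl_dt (LP (LK LD1_c15 LD2_c4 LD3_c52)) = (LP (LK LD1_c15 LD2_c26 LD3_c35)) :=
  Lgr Lrot105 (Lpe (f161366 IH) (Lpe (K42.f158368 IH) (Lpe (K40.f138567 IH) (Lpe (K40.f559777 IH) (Lpr_gt (K39.f556737 IH) (Lpr_dt (K36.f268301 IH) (Lpr_gt (K45.f176083 IH) (Lpr_dt (f596003 IH) (Lpe (K45.f595216 IH) (Lpn (LP (LK LD1_c15 LD2_c26 LD3_c35))))))))))))
theorem f596019 : Led Lsl_df (LP (LK LD1_c15 LD2_c4 LD3_c52)) = (LP (LK LD1_c15 LD2_c26 LD3_c35)) :=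
  Lgr Lrot38 (Lpr_dt (f596015 IH) (Lpn (LP (LK LD1_c15 LD2_c26 LD3_c35))))
theorem f594937 : Led Lsl_bt (LP (LK LD1_c5 LD2_c38 LD3_c25)) = (LP (LK LD1_c6 LD2_c16 LD3_c27)) :=
  Lgr Lrot127 (Lpr_bf (K45.f594933 IH) (Lpn (LP (LK LD1_c6 LD2_c16 LD3_c27))))
theorem f595210 : Led Lsl_bf (LP (LK LD1_c11 LD2_c7 LD3_c30)) = (LP (LK LD1_c9 LD2_c51 LD3_c21)) :=
  Lgr Lrot96 (Lpe (K45.f570338 IH) (Lpr_bt (f594937 IH) (Lpr_et (K45.f595208 IH) (Lpn (LP (LK LD1_c9 LD2_c51 LD3_c21))))))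
theorem f595220 : Led Lsl_bf (LP (LK LD1_c15 LD2_c26 LD3_c35)) = (LP (LK LD1_c8 LD2_c42 LD3_c61)) :=
  Lgr Lrot90 (Lpr_ct (K45.f595216 IH) (Lpe (f595210 IH) (Lpr_ct (K43.f380358 IH) (Lpr_bt (K43.f380369 IH) (Lpe (K41.f380367 IH) (Lpn (LP (LK LD1_c8 LD2_c42 LD3_c61))))))))
theorem f579007 : Led Lsl_dt (LP (LK LD1_c11 LD2_c36 LD3_c52)) = (LP (LK LD1_c8 LD2_c42 LD3_c61)) :=
  Lgr Lrot42 (Lpr_df (K43.f578977 IH) (Lpn (LP (LK LD1_c8 LD2_c42 LD3_c61))))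
theorem f596022 : Led Lsl_bt (LP (LK LD1_c15 LD2_c4 LD3_c52)) = (LP (LK LD1_c11 LD2_c36 LD3_c52)) :=
  Lgr Lrot95 (Lpr_df (f596019 IH) (Lpr_bf (f595220 IH) (Lpe (f579007 IH) (Lpn (LP (LK LD1_c11 LD2_c36 LD3_c52))))))
theorem f563270 : Led Lsl_bt (LP (LK LD1_c5 LD2_c56 LD3_c26)) = (LP (LK LD1_c11 LD2_c38 LD3_c10)) :=
  Lre_b IH (LK LD1_c5 LD2_c56 LD3_c26) (LK LD1_c11 LD2_c38 LD3_c10) Lrfl Lrfl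
theorem f599169 : Led Lsl_ff (LP (LK LD1_c15 LD2_c4 LD3_c52)) = (LP (LK LD1_c11 LD2_c38 LD3_c10)) :=
  Lgr Lrot25 (Lpr_bt (f596022 IH) (Lpr_ft (K43.f579010 IH) (Lpr_bt (f563270 IH) (Lpn (LP (LK LD1_c11 LD2_c38 LD3_c10))))))
theorem f599172 : Led Lsl_ft (LP (LK LD1_c15 LD2_c4 LD3_c52)) = (LP (LK LD1_c11 LD2_c38 LD3_c10)) :=
  Lgr Lrot48 (Lpr_ff (f599169 IH) (Lpn (LP (LK LD1_c11 LD2_c38 LD3_c10))))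
theorem f158390 : Led Lsl_ft (LP (LK LD1_c8 LD2_c0 LD3_c12)) = (LP (LK LD1_c15 LD2_c4 LD3_c54)) :=
  Lre_f IH (LK LD1_c8 LD2_c0 LD3_c12) (LK LD1_c15 LD2_c4 LD3_c54) Lrfl Lrfl
theorem f565486 : Led Lsl_gf (LP (LK LD1_c11 LD2_c32 LD3_c1)) = (LP (LK LD1_c15 LD2_c4 LD3_c52)) :=
  Lgr Lrot76 (Lpr_af (K42.f565481 IH) (Lpe (f158390 IH) (Lpr_gt (f161366 IH) (Lpn (LP (LK LD1_c15 LD2_c4 LD3_c52))))))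
theorem f564227 : Led Lsl_dt (LP (LK LD1_c5 LD2_c52 LD3_c55)) = (LP (LK LD1_c11 LD2_c32 LD3_c1)) :=
  Lre_d IH (LK LD1_c5 LD2_c52 LD3_c55) (LK LD1_c11 LD2_c32 LD3_c1) Lrfl Lrfl
theorem f202633 : Led Lsl_ct (LP (LK LD1_c6 LD2_c16 LD3_c28)) = (LP (LK LD1_c3 LD2_c5 LD3_c22)) :=
  Lre_c IH (LK LD1_c6 LD2_c16 LD3_c28) (LK LD1_c3 LD2_c5 LD3_c22) Lrfl Lrfl
theorem f202632 : Led Lsl_dt (LP (LK LD1_c12 LD2_c10 LD3_c3)) = (LP (LK LD1_c6 LD2_c16 LD3_c28)) :=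
  Lre_d IH (LK LD1_c12 LD2_c10 LD3_c3) (LK LD1_c6 LD2_c16 LD3_c28) Lrfl Lrfl
theorem f569386 : Led Lsl_gt (LP (LK LD1_c11 LD2_c32 LD3_c1)) = (LP (LK LD1_c12 LD2_c10 LD3_c3)) :=
  Lgr Lrot49 (Lpe (f564227 IH) (Lpr_gf (K42.f569382 IH) (Lpe (K38.f72385 IH) (Lpr_gt (K36.f72382 IH) (Lpr_dt (K36.f72392 IH) (Lpe (K36.f202628 IH) (Lpr_dt (f202630 IH) (Lpe (f202633 IH) (Lpe (f202632 IH) (Lpn (LP (LK LD1_c12 LD2_c10 LD3_c3))))))))))))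
theorem f599177 : Led Lsl_af (LP (LK LD1_c12 LD2_c10 LD3_c3)) = (LP (LK LD1_c11 LD2_c38 LD3_c10)) :=
  Lgr Lrot31 (Lpe (f569386 IH) (Lpr_gf (f565486 IH) (Lpr_ft (f599172 IH) (Lpn (LP (LK LD1_c11 LD2_c38 LD3_c10))))))
theorem f559216 : Led Lsl_et (LP (LK LD1_c3 LD2_c5 LD3_c20)) = (LP (LK LD1_c6 LD2_c16 LD3_c28)) :=
  Lre_e IH (LK LD1_c3 LD2_c5 LD3_c20) (LK LD1_c6 LD2_c16 LD3_c28) Lrfl Lrfl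
theorem f548941 : Led Lsl_dt (LP (LK LD1_c6 LD2_c16 LD3_c28)) = (LP (LK LD1_c12 LD2_c10 LD3_c3)) :=
  Lre_d IH (LK LD1_c6 LD2_c16 LD3_c28) (LK LD1_c12 LD2_c10 LD3_c3) Lrfl Lrfl
theorem f88548 : Led Lsl_dt (LP (LK LD1_c13 LD2_c40 LD3_c29)) = (LP (LK LD1_c7 LD2_c13 LD3_c25)) :=
  Lre_d IH (LK LD1_c13 LD2_c40 LD3_c29) (LK LD1_c7 LD2_c13 LD3_c25) Lrfl Lrfl
theorem f559217 : Led Lsl_et (LP (LK LD1_c12 LD2_c10 LD3_c3)) = (LP (LK LD1_c13 LD2_c40 LD3_c29)) :=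
  Lgr Lrot71 (Lpe (f548941 IH) (Lpe (f559216 IH) (Lpr_df (K41.f559199 IH) (Lpe (K3.f88527 IH) (Lpe (f88548 IH) (Lpn (LP (LK LD1_c13 LD2_c40 LD3_c29))))))))
theorem f599171 : Led Lsl_et (LP (LK LD1_c20 LD2_c37 LD3_c8)) = (LP (LK LD1_c11 LD2_c38 LD3_c10)) :=
  Lre_e IH (LK LD1_c20 LD2_c37 LD3_c8) (LK LD1_c11 LD2_c38 LD3_c10) Lrfl Lrfl
theorem f599185 : Led Lsl_at (LP (LK LD1_c13 LD2_c40 LD3_c29)) = (LP (LK LD1_c20 LD2_c37 LD3_c8)) :=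
  Lgr Lrot80 (Lpe (f559217 IH) (Lpr_af (f599177 IH) (Lpe (f599171 IH) (Lpn (LP (LK LD1_c20 LD2_c37 LD3_c8))))))
theorem f97448 : Led Lsl_bt (LP (LK LD1_c7 LD2_c13 LD3_c26)) = (LP (LK LD1_c13 LD2_c40 LD3_c29)) :=
  Lre_b IH (LK LD1_c7 LD2_c13 LD3_c26) (LK LD1_c13 LD2_c40 LD3_c29) Lrfl Lrfl
theorem f486635 : Led Lsl_bt (LP (LK LD1_c13 LD2_c32 LD3_c61)) = (LP (LK LD1_c7 LD2_c9 LD3_c15)) :=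
  Lre_b IH (LK LD1_c13 LD2_c32 LD3_c61) (LK LD1_c7 LD2_c9 LD3_c15) Lrfl Lrfl
theorem f486636 : Led Lsl_ft (LP (LK LD1_c13 LD2_c40 LD3_c29)) = (LP (LK LD1_c13 LD2_c32 LD3_c61)) :=
  Lgr Lrot75 (Lpe (f97448 IH) (Lpr_ff (K34.f486631 IH) (Lpe (f486635 IH) (Lpn (LP (LK LD1_c13 LD2_c32 LD3_c61))))))
theorem f486644 : Led Lsl_ff (LP (LK LD1_c13 LD2_c40 LD3_c29)) = (LP (LK LD1_c13 LD2_c32 LD3_c61)) :=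
  Lgr Lrot3 (Lpr_ft (f486636 IH) (Lpn (LP (LK LD1_c13 LD2_c32 LD3_c61))))
theorem f486646 : Led Lsl_at (LP (LK LD1_c22 LD2_c55 LD3_c24)) = (LP (LK LD1_c13 LD2_c32 LD3_c61)) :=
  Lre_a IH (LK LD1_c22 LD2_c55 LD3_c24) (LK LD1_c13 LD2_c32 LD3_c61) Lrfl Lrfl
theorem f599194 : Led Lsl_ff (LP (LK LD1_c22 LD2_c55 LD3_c24)) = (LP (LK LD1_c20 LD2_c37 LD3_c8)) :=
  Lgr Lrot30 (Lpr_at (f486646 IH) (Lpe (f486644 IH) (Lpr_at (f599185 IH) (Lpn (LP (LK LD1_c20 LD2_c37 LD3_c8))))))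
theorem f599202 : Led Lsl_ft (LP (LK LD1_c22 LD2_c55 LD3_c24)) = (LP (LK LD1_c20 LD2_c37 LD3_c8)) :=
  Lgr Lrot48 (Lpr_ff (f599194 IH) (Lpn (LP (LK LD1_c20 LD2_c37 LD3_c8))))
theorem f599189 : Led Lsl_bt (LP (LK LD1_c20 LD2_c37 LD3_c8)) = (LP (LK LD1_c11 LD2_c38 LD3_c12)) :=
  Lre_b IH (LK LD1_c20 LD2_c37 LD3_c8) (LK LD1_c11 LD2_c38 LD3_c12) Lrfl Lrfl
theorem f599204 : Led Lsl_ft (LP (LK LD1_c11 LD2_c38 LD3_c12)) = (LP (LK LD1_c20 LD2_c37 LD3_c14)) :=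
  Lre_f IH (LK LD1_c11 LD2_c38 LD3_c12) (LK LD1_c20 LD2_c37 LD3_c14) Lrfl Lrfl
theorem f599205 : Led Lsl_bf (LP (LK LD1_c22 LD2_c55 LD3_c24)) = (LP (LK LD1_c20 LD2_c37 LD3_c14)) :=
  Lgr Lrot61 (Lpr_ft (f599202 IH) (Lpr_bt (f599189 IH) (Lpr_ft (f599204 IH) (Lpn (LP (LK LD1_c20 LD2_c37 LD3_c14))))))
theorem f486750 : Led Lsl_dt (LP (LK LD1_c22 LD2_c55 LD3_c24)) = (LP (LK LD1_c13 LD2_c32 LD3_c60)) :=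
  Lre_d IH (LK LD1_c22 LD2_c55 LD3_c24) (LK LD1_c13 LD2_c32 LD3_c60) Lrfl Lrfl
theorem f97898 : Led Lsl_ft (LP (LK LD1_c13 LD2_c9 LD3_c54)) = (LP (LK LD1_c6 LD2_c55 LD3_c57)) :=
  Lre_f IH (LK LD1_c13 LD2_c9 LD3_c54) (LK LD1_c6 LD2_c55 LD3_c57) Lrfl Lrfl
theorem f482373 : Led Lsl_ft (LP (LK LD1_c7 LD2_c13 LD3_c44)) = (LP (LK LD1_c13 LD2_c39 LD3_c59)) :=
  Lgr Lrot4 (Lpe (K3.f97887 IH) (Lpe (f97898 IH) (Lpr_cf (K33.f482365 IH) (Lpn (LP (LK LD1_c13 LD2_c39 LD3_c59))))))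

end

end K46

end

end Cfsg.Agent.Helper28.S1692
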