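import Cfsg.Agent.Lib.Helper28.S1692.Seeds46

set_option autoImplicit false
set_option maxRecDepth 100000
set_option linter.all false

namespace Cfsg.Agent.Helper28.S1692

open Cfsg.Agent.Helper28
open Cfsg.Spor.ON (Gen)

noncomputable section

namespace K47
abbrev LD1_c0 := D1.c0
abbrev LD1_c1 := D1.c1
abbrev LD1_c2 := D1.c2
abbrev LD1_c3 := D1.c3
abbrev LD1_c4 := D1.c4
abbrev LD1_c5 := D1.c5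
abbrev LD1_c6 := D1.c6
abbrev LD1_c7 := D1.c7
abbrev LD1_c8 := D1.c8
abbrev LD1_c9 := D1.c9
abbrev LD1_c10 := D1.c10
abbrev LD1_c11 := D1.c11
abbrev LD1_c12 := D1.c12
abbrev LD1_c13 := D1.c13
abbrev LD1_c14 := D1.c14
abbrev LD1_c15 := D1.c15
abbrev LD1_c16 := D1.c16
abbrev LD1_c17 := D1.c17
abbrev LD1_c18 := D1.c18
abbrev LD1_c19 := D1.c19
abbrev LD1_c20 := D1.c20
abbrev LD1_c21 := D1.c21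
abbrev LD1_c22 := D1.c22
abbrev LD1_c23 := D1.c23
abbrev LD1_c24 := D1.c24
abbrev LD1_c25 := D1.c25
abbrev LD1_c26 := D1.c26
abbrev LD1_c27 := D1.c27
abbrev LD1_c28 := D1.c28
abbrev LD1_c29 := D1.c29
abbrev LD1_c30 := D1.c30
abbrev LD1_c31 := D1.c31
abbrev LD1_c32 := D1.c32
abbrev LD2_c0 := D2.c0
abbrev LD2_c1 := D2.c1
abbrev LD2_c2 := D2.c2
abbrev LD2_c3 := D2.c3
abbrev LD2_c4 := D2.c4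
abbrev LD2_c5 := D2.c5
abbrev LD2_c6 := D2.c6
abbrev LD2_c7 := D2.c7
abbrev LD2_c8 := D2.c8
abbrev LD2_c9 := D2.c9
abbrev LD2_c10 := D2.c10
abbrev LD2_c11 := D2.c11
abbrev LD2_c12 := D2.c12
abbrev LD2_c13 := D2.c13
abbrev LD2_c14 := D2.c14
abbrev LD2_c15 := D2.c15
abbrev LD2_c16 := D2.c16
abbrev LD2_c17 := D2.c17
abbrev LD2_c18 := D2.c18
abbrev LD2_c19 := D2.c19
abbrev LD2_c20 := D2.c20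
abbrev LD2_c21 := D2.c21
abbrev LD2_c22 := D2.c22
abbrev LD2_c23 := D2.c23
abbrev LD2_c24 := D2.c24
abbrev LD2_c25 := D2.c25
abbrev LD2_c26 := D2.c26
abbrev LD2_c27 := D2.c27
abbrev LD2_c28 := D2.c28
abbrev LD2_c29 := D2.c29
abbrev LD2_c30 := D2.c30
abbrev LD2_c31 := D2.c31
abbrev LD2_c32 := D2.c32
abbrev LD2_c33 := D2.c33
abbrev LD2_c34 := D2.c34
abbrev LD2_c35 := D2.c35
abbrev LD2_c36 := D2.c36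
abbrev LD2_c37 := D2.c37
abbrev LD2_c38 := D2.c38
abbrev LD2_c39 := D2.c39
abbrev LD2_c40 := D2.c40
abbrev LD2_c41 := D2.c41
abbrev LD2_c42 := D2.c42
abbrev LD2_c43 := D2.c43
abbrev LD2_c44 := D2.c44
abbrev LD2_c45 := D2.c45
abbrev LD2_c46 := D2.c46
abbrev LD2_c47 := D2.c47
abbrev LD2_c48 := D2.c48
abbrev LD2_c49 := D2.c49
abbrev LD2_c50 := D2.c50
abbrev LD2_c51 := D2.c51
abbrev LD2_c52 := D2.c52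
abbrev LD2_c53 := D2.c53
abbrev LD2_c54 := D2.c54
abbrev LD2_c55 := D2.c55
abbrev LD2_c56 := D2.c56
abbrev LD2_c57 := D2.c57
abbrev LD2_c58 := D2.c58
abbrev LD2_c59 := D2.c59
abbrev LD3_c0 := D3.c0
abbrev LD3_c1 := D3.c1
abbrev LD3_c2 := D3.c2
abbrev LD3_c3 := D3.c3
abbrev LD3_c4 := D3.c4
abbrev LD3_c5 := D3.c5
abbrev LD3_c6 := D3.c6
abbrev LD3_c7 := D3.c7
abbrev LD3_c8 := D3.c8
abbrev LD3_c9 := D3.c9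
abbrev LD3_c10 := D3.c10
abbrev LD3_c11 := D3.c11
abbrev LD3_c12 := D3.c12
abbrev LD3_c13 := D3.c13
abbrev LD3_c14 := D3.c14
abbrev LD3_c15 := D3.c15
abbrev LD3_c16 := D3.c16
abbrev LD3_c17 := D3.c17
abbrev LD3_c18 := D3.c18
abbrev LD3_c19 := D3.c19
abbrev LD3_c20 := D3.c20
abbrev LD3_c21 := D3.c21
abbrev LD3_c22 := D3.c22
abbrev LD3_c23 := D3.c23
abbrev LD3_c24 := D3.c24
abbrev LD3_c25 := D3.c25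
abbrev LD3_c26 := D3.c26
abbrev LD3_c27 := D3.c27
abbrev LD3_c28 := D3.c28
abbrev LD3_c29 := D3.c29
abbrev LD3_c30 := D3.c30
abbrev LD3_c31 := D3.c31
abbrev LD3_c32 := D3.c32
abbrev LD3_c33 := D3.c33
abbrev LD3_c34 := D3.c34
abbrev LD3_c35 := D3.c35
abbrev LD3_c36 := D3.c36
abbrev LD3_c37 := D3.c37
abbrev LD3_c38 := D3.c38
abbrev LD3_c39 := D3.c39
abbrev LD3_c40 := D3.c40
abbrev LD3_c41 := D3.c41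
abbrev LD3_c42 := D3.c42
abbrev LD3_c43 := D3.c43
abbrev LD3_c44 := D3.c44
abbrev LD3_c45 := D3.c45
abbrev LD3_c46 := D3.c46
abbrev LD3_c47 := D3.c47
abbrev LD3_c48 := D3.c48
abbrev LD3_c49 := D3.c49
abbrev LD3_c50 := D3.c50
abbrev LD3_c51 := D3.c51
abbrev LD3_c52 := D3.c52
abbrev LD3_c53 := D3.c53
abbrev LD3_c54 := D3.c54
abbrev LD3_c55 := D3.c55
abbrev LD3_c56 := D3.c56
abbrev LD3_c57 := D3.c57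
abbrev LD3_c58 := D3.c58
abbrev LD3_c59 := D3.c59
abbrev LD3_c60 := D3.c60
abbrev LD3_c61 := D3.c61
abbrev LG_g := Gen.g
abbrev Lsl_gt : Gen × Bool := sl_gt
alias Lfl_gt := fl_gt
alias Lpr_gt := pr_gt
abbrev Lsl_gf : Gen × Bool := sl_gf
alias Lfl_gf := fl_gf
alias Lpr_gf := pr_gf
alias Lre_g := re_g
alias Leoe_g := eoe_g
abbrev LG_a := Gen.a
abbrev Lsl_at : Gen × Bool := sl_at
alias Lfl_at := fl_at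
alias Lpr_at := pr_at
abbrev Lsl_af : Gen × Bool := sl_af
alias Lfl_af := fl_af
alias Lpr_af := pr_af
alias Lre_a := re_a
alias Leoe_a := eoe_a
abbrev LG_b := Gen.b
abbrev Lsl_bt : Gen × Bool := sl_bt
alias Lfl_bt := fl_bt
alias Lpr_bt := pr_bt
abbrev Lsl_bf : Gen × Bool := sl_bf
alias Lfl_bf := fl_bf
alias Lpr_bf := pr_bf
alias Lre_b := re_b
alias Leoe_b := eoe_b
abbrev LG_c := Gen.c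
abbrev Lsl_ct : Gen × Bool := sl_ct
alias Lfl_ct := fl_ct
alias Lpr_ct := pr_ct
abbrev Lsl_cf : Gen × Bool := sl_cf
alias Lfl_cf := fl_cf
alias Lpr_cf := pr_cf
alias Lre_c := re_c
alias Leoe_c := eoe_c
abbrev LG_d := Gen.d
abbrev Lsl_dt : Gen × Bool := sl_dt
alias Lfl_dt := fl_dt
alias Lpr_dt := pr_dt
abbrev Lsl_df : Gen × Bool := sl_df
alias Lfl_df := fl_df
alias Lpr_df := pr_df
alias Lre_d := re_d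
alias Leoe_d := eoe_d
abbrev LG_e := Gen.e
abbrev Lsl_et : Gen × Bool := sl_et
alias Lfl_et := fl_et
alias Lpr_et := pr_et
abbrev Lsl_ef : Gen × Bool := sl_ef
alias Lfl_ef := fl_ef
alias Lpr_ef := pr_ef
alias Lre_e := re_e
alias Leoe_e := eoe_e
abbrev LG_f := Gen.f
abbrev Lsl_ft : Gen × Bool := sl_ft
alias Lfl_ft := fl_ft
alias Lpr_ft := pr_ft
abbrev Lsl_ff : Gen × Bool := sl_ff
alias Lfl_ff := fl_ff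
alias Lpr_ff := pr_ff
alias Lre_f := re_f
alias Leoe_f := eoe_f
abbrev LK := Pt.mk
abbrev LQ : Type := Qt rels S
abbrev LP (p : Pt) : LQ := P p
abbrev Led (l : Gen × Bool) (c : LQ) : LQ := ed l c
abbrev LEOK (x : Gen) (p : Pt) : Prop := EntryOK rels S fwd inv o plet idx x p
alias Lpe := pe
alias Lpn := pn
alias Lgr := gr
alias Lpq := pq
alias Lpqs := pqs
alias Llr := lr
alias Leop := eop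
alias Lefun := efun
alias Lecon := econ
theorem Lrfl {α : Sort _} {a : α} : a = a := rfl
alias Lrot0 := rot0
alias Lrot1 := rot1
alias Lrot2 := rot2
alias Lrot3 := rot3
alias Lrot4 := rot4
alias Lrot5 := rot5
alias Lrot6 := rot6
alias Lrot7 := rot7
alias Lrot8 := rot8
alias Lrot9 := rot9
alias Lrot10 := rot10
alias Lrot11 := rot11
alias Lrot12 := rot12
alias Lrot14 := rot14
alias Lrot15 := rot15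
alias Lrot17 := rot17
alias Lrot18 := rot18
alias Lrot19 := rot19
alias Lrot20 := rot20
alias Lrot21 := rot21
alias Lrot22 := rot22
alias Lrot23 := rot23
alias Lrot24 := rot24
alias Lrot25 := rot25
alias Lrot26 := rot26
alias Lrot27 := rot27
alias Lrot28 := rot28
alias Lrot29 := rot29
alias Lrot30 := rot30
alias Lrot31 := rot31
alias Lrot32 := rot32
alias Lrot34 := rot34
alias Lrot35 := rot35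
alias Lrot36 := rot36
alias Lrot37 := rot37
alias Lrot38 := rot38
alias Lrot39 := rot39
alias Lrot40 := rot40
alias Lrot41 := rot41
alias Lrot42 := rot42
alias Lrot44 := rot44
alias Lrot45 := rot45
alias Lrot46 := rot46
alias Lrot47 := rot47
alias Lrot48 := rot48
alias Lrot49 := rot49
alias Lrot50 := rot50
alias Lrot51 := rot51
alias Lrot52 := rot52
alias Lrot54 := rot54
alias Lrot56 := rot56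
alias Lrot57 := rot57
alias Lrot58 := rot58
alias Lrot59 := rot59
alias Lrot60 := rot60
alias Lrot61 := rot61
alias Lrot62 := rot62
alias Lrot63 := rot63
alias Lrot64 := rot64
alias Lrot65 := rot65
alias Lrot66 := rot66
alias Lrot67 := rot67
alias Lrot68 := rot68
alias Lrot69 := rot69
alias Lrot70 := rot70
alias Lrot71 := rot71
alias Lrot72 := rot72
alias Lrot73 := rot73
alias Lrot74 := rot74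
alias Lrot75 := rot75
alias Lrot76 := rot76
alias Lrot77 := rot77
alias Lrot78 := rot78
alias Lrot79 := rot79
alias Lrot80 := rot80
alias Lrot81 := rot81
alias Lrot82 := rot82
alias Lrot83 := rot83
alias Lrot84 := rot84
alias Lrot86 := rot86
alias Lrot87 := rot87
alias Lrot88 := rot88
alias Lrot90 := rot90
alias Lrot91 := rot91
alias Lrot92 := rot92
alias Lrot93 := rot93
alias Lrot94 := rot94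
alias Lrot95 := rot95
alias Lrot96 := rot96
alias Lrot97 := rot97
alias Lrot98 := rot98
alias Lrot99 := rot99
alias Lrot100 := rot100
alias Lrot101 := rot101
alias Lrot102 := rot102
alias Lrot103 := rot103
alias Lrot104 := rot104
alias Lrot105 := rot105
alias Lrot107 := rot107
alias Lrot108 := rot108
alias Lrot109 := rot109
alias Lrot111 := rot111
alias Lrot112 := rot112
alias Lrot114 := rot114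
alias Lrot116 := rot116
alias Lrot117 := rot117
alias Lrot118 := rot118
alias Lrot119 := rot119
alias Lrot120 := rot120
alias Lrot121 := rot121
alias Lrot122 := rot122
alias Lrot123 := rot123
alias Lrot124 := rot124
alias Lrot125 := rot125
alias Lrot126 := rot126
alias Lrot127 := rot127
alias Lrot128 := rot128
alias Lrot129 := rot129
alias Lrot130 := rot130
alias Lrot131 := rot131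
alias Lrot132 := rot132
alias Lrot133 := rot133
alias Lrot134 := rot134
alias Lrot135 := rot135
alias Lrot136 := rot136
alias Lrot137 := rot137
alias Lrot138 := rot138
alias Lrot139 := rot139
alias Lrot140 := rot140
alias Lrot141 := rot141
alias Lrot142 := rot142
alias Lrot143 := rot143
alias Lrot144 := rot144
alias Lrot145 := rot145
alias Lrot146 := rot146
alias Lrot147 := rot147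
alias Lrot148 := rot148
alias Lrot149 := rot149
alias Lrot150 := rot150
alias Lrot152 := rot152
alias Lrot153 := rot153
alias Lrot154 := rot154
alias Lrot155 := rot155
alias Lrot156 := rot156
alias Lrot158 := rot158
alias Lrot159 := rot159
alias Lrot160 := rot160
alias Lrot161 := rot161
alias Lrot162 := rot162
alias Lrot163 := rot163
alias Lrot164 := rot164
alias Lrot165 := rot165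
alias Lrot166 := rot166
alias Lrot167 := rot167
alias Lrot168 := rot168
alias Lrot169 := rot169
alias Lrot170 := rot170
alias Lrot171 := rot171
alias Lrot172 := rot172
alias Lrot173 := rot173
alias Lrot174 := rot174
alias Lrot176 := rot176
alias Lrot177 := rot177
alias Lrot180 := rot180
alias Lrot181 := rot181
alias Lrot184 := rot184
alias Lrot185 := rot185

section
variable (IH : IHT)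
include IH

theorem f482382 : Led Lsl_af (LP (LK LD1_c7 LD2_c15 LD3_c18)) = (LP (LK LD1_c13 LD2_c39 LD3_c59)) :=
  Lgr Lrot45 (Lpe (K33.f480748 IH) (Lpr_at (K33.f97885 IH) (Lpr_ft (K46.f482373 IH) (Lpn (LP (LK LD1_c13 LD2_c39 LD3_c59))))))
theorem f486601 : Led Lsl_at (LP (LK LD1_c7 LD2_c9 LD3_c14)) = (LP (LK LD1_c13 LD2_c32 LD3_c60)) :=
  Lre_a IH (LK LD1_c7 LD2_c9 LD3_c14) (LK LD1_c13 LD2_c32 LD3_c60) Lrfl Lrfl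
theorem f486602 : Led Lsl_bf (LP (LK LD1_c13 LD2_c39 LD3_c59)) = (LP (LK LD1_c13 LD2_c32 LD3_c60)) :=
  Lgr Lrot81 (Lpe (f482382 IH) (Lpe (K37.f480743 IH) (Lpr_at (K34.f482403 IH) (Lpr_bt (K37.f486600 IH) (Lpr_at (f486601 IH) (Lpn (LP (LK LD1_c13 LD2_c32 LD3_c60))))))))
theorem f599211 : Led Lsl_dt (LP (LK LD1_c13 LD2_c39 LD3_c59)) = (LP (LK LD1_c20 LD2_c37 LD3_c14)) :=
  Lgr Lrot79 (Lpr_bf (f486602 IH) (Lpe (K46.f486750 IH) (Lpr_bf (K46.f599205 IH) (Lpn (LP (LK LD1_c20 LD2_c37 LD3_c14))))))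
theorem f599197 : Led Lsl_ft (LP (LK LD1_c20 LD2_c37 LD3_c14)) = (LP (LK LD1_c11 LD2_c38 LD3_c12)) :=
  Lre_f IH (LK LD1_c20 LD2_c37 LD3_c14) (LK LD1_c11 LD2_c38 LD3_c12) Lrfl Lrfl
theorem f599219 : Led Lsl_df (LP (LK LD1_c7 LD2_c13 LD3_c44)) = (LP (LK LD1_c11 LD2_c38 LD3_c12)) :=
  Lgr Lrot78 (Lpr_ft (K46.f482373 IH) (Lpr_dt (f599211 IH) (Lpr_ft (f599197 IH) (Lpn (LP (LK LD1_c11 LD2_c38 LD3_c12))))))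
theorem f599224 : Led Lsl_dt (LP (LK LD1_c7 LD2_c13 LD3_c44)) = (LP (LK LD1_c11 LD2_c38 LD3_c12)) :=
  Lgr Lrot42 (Lpr_df (f599219 IH) (Lpn (LP (LK LD1_c11 LD2_c38 LD3_c12))))
theorem f96564 : Led Lsl_et (LP (LK LD1_c7 LD2_c13 LD3_c44)) = (LP (LK LD1_c3 LD2_c36 LD3_c44)) :=
  Lre_e IH (LK LD1_c7 LD2_c13 LD3_c44) (LK LD1_c3 LD2_c36 LD3_c44) Lrfl Lrfl
theorem f574902 : Led Lsl_df (LP (LK LD1_c5 LD2_c42 LD3_c46)) = (LP (LK LD1_c3 LD2_c32 LD3_c14)) :=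
  Lgr Lrot162 (Lpe (K43.f177124 IH) (Lpr_gf (K43.f574896 IH) (Lpe (K43.f574900 IH) (Lpe (K43.f568448 IH) (Lpe (K41.f567165 IH) (Lpe (K32.f147328 IH) (Lpe (K7.f116622 IH) (Lpr_gt (K7.f95399 IH) (Lpr_ct (K24.f116555 IH) (Lpn (LP (LK LD1_c3 LD2_c32 LD3_c14))))))))))))
theorem f116653 : Led Lsl_et (LP (LK LD1_c3 LD2_c32 LD3_c14)) = (LP (LK LD1_c7 LD2_c5 LD3_c33)) :=
  Lre_e IH (LK LD1_c3 LD2_c32 LD3_c14) (LK LD1_c7 LD2_c5 LD3_c33) Lrfl Lrfl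
theorem f93123 : Led Lsl_ef (LP (LK LD1_c7 LD2_c17 LD3_c0)) = (LP (LK LD1_c13 LD2_c44 LD3_c12)) :=
  Lgr Lrot88 (Lpr_et (K35.f93117 IH) (Lpn (LP (LK LD1_c13 LD2_c44 LD3_c12))))
theorem f599226 : Led Lsl_gt (LP (LK LD1_c20 LD2_c37 LD3_c13)) = (LP (LK LD1_c11 LD2_c38 LD3_c12)) :=
  Lre_g IH (LK LD1_c20 LD2_c37 LD3_c13) (LK LD1_c11 LD2_c38 LD3_c12) Lrfl Lrfl
theorem f599299 : Led Lsl_dt (LP (LK LD1_c13 LD2_c44 LD3_c12)) = (LP (LK LD1_c20 LD2_c37 LD3_c13)) :=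
  Lgr Lrot136 (Lpe (f93123 IH) (Lpr_gf (K35.f483277 IH) (Lpe (f116653 IH) (Lpe (f574902 IH) (Lpe (K38.f172736 IH) (Lpe (K42.f552857 IH) (Lpr_gf (K6.f127864 IH) (Lpe (f96564 IH) (Lpr_dt (f599224 IH) (Lpe (f599226 IH) (Lpn (LP (LK LD1_c20 LD2_c37 LD3_c13)))))))))))))
theorem f599305 : Led Lsl_df (LP (LK LD1_c13 LD2_c44 LD3_c12)) = (LP (LK LD1_c20 LD2_c37 LD3_c13)) :=
  Lgr Lrot38 (Lpr_dt (f599299 IH) (Lpn (LP (LK LD1_c20 LD2_c37 LD3_c13))))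
theorem f599307 : Led Lsl_bt (LP (LK LD1_c13 LD2_c40 LD3_c32)) = (LP (LK LD1_c20 LD2_c37 LD3_c13)) :=
  Lgr Lrot95 (Lpe (K29.f481317 IH) (Lpe (K35.f93116 IH) (Lpr_df (f599305 IH) (Lpn (LP (LK LD1_c20 LD2_c37 LD3_c13))))))
theorem f6009 : Led Lsl_bt (LP (LK LD1_c1 LD2_c45 LD3_c29)) = (LP (LK LD1_c1 LD2_c43 LD3_c40)) :=
  Lgr Lrot95 (Lpe (K28.f6007 IH) (Lpr_bf (K3.f5984 IH) (Lpe (K34.f6008 IH) (Lpn (LP (LK LD1_c1 LD2_c43 LD3_c40))))))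
theorem f467942 : Led Lsl_ct (LP (LK LD1_c13 LD2_c28 LD3_c35)) = (LP (LK LD1_c13 LD2_c32 LD3_c21)) :=
  Lgr Lrot59 (Lpr_cf (K34.f467940 IH) (Lpn (LP (LK LD1_c13 LD2_c32 LD3_c21))))
theorem f96955 : Led Lsl_dt (LP (LK LD1_c13 LD2_c9 LD3_c55)) = (LP (LK LD1_c6 LD2_c55 LD3_c58)) :=
  Lre_d IH (LK LD1_c13 LD2_c9 LD3_c55) (LK LD1_c6 LD2_c55 LD3_c58) Lrfl Lrfl
theorem f467522 : Led Lsl_dt (LP (LK LD1_c7 LD2_c15 LD3_c18)) = (LP (LK LD1_c13 LD2_c43 LD3_c50)) :=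
  Lre_d IH (LK LD1_c7 LD2_c15 LD3_c18) (LK LD1_c13 LD2_c43 LD3_c50) Lrfl Lrfl
theorem f480774 : Led Lsl_ff (LP (LK LD1_c13 LD2_c9 LD3_c55)) = (LP (LK LD1_c13 LD2_c43 LD3_c50)) :=
  Lgr Lrot19 (Lpr_dt (f96955 IH) (Lpr_ft (K33.f480758 IH) (Lpr_dt (f467522 IH) (Lpn (LP (LK LD1_c13 LD2_c43 LD3_c50))))))
theorem f89723 : Led Lsl_dt (LP (LK LD1_c6 LD2_c55 LD3_c58)) = (LP (LK LD1_c13 LD2_c9 LD3_c55)) :=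
  Lre_d IH (LK LD1_c6 LD2_c55 LD3_c58) (LK LD1_c13 LD2_c9 LD3_c55) Lrfl Lrfl
theorem f96948 : Led Lsl_bt (LP (LK LD1_c13 LD2_c9 LD3_c55)) = (LP (LK LD1_c7 LD2_c7 LD3_c0)) :=
  Lgr Lrot95 (Lpe (f89723 IH) (Lpr_bf (K3.f96939 IH) (Lpe (K34.f96947 IH) (Lpn (LP (LK LD1_c7 LD2_c7 LD3_c0))))))
theorem f480784 : Led Lsl_bt (LP (LK LD1_c13 LD2_c28 LD3_c35)) = (LP (LK LD1_c13 LD2_c43 LD3_c50)) :=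
  Lgr Lrot35 (Lpr_ff (K34.f467947 IH) (Lpe (f96948 IH) (Lpr_ff (f480774 IH) (Lpn (LP (LK LD1_c13 LD2_c43 LD3_c50))))))
theorem f599311 : Led Lsl_gt (LP (LK LD1_c13 LD2_c43 LD3_c50)) = (LP (LK LD1_c20 LD2_c37 LD3_c13)) :=
  Lgr Lrot164 (Lpe (f480784 IH) (Lpr_ct (f467942 IH) (Lpe (K34.f6581 IH) (Lpe (K34.f6580 IH) (Lpe (K29.f6572 IH) (Lpe (f6009 IH) (Lpr_ct (K29.f6278 IH) (Lpe (K29.f6293 IH) (Lpr_cf (K29.f481207 IH) (Lpr_bt (f599307 IH) (Lpn (LP (LK LD1_c20 LD2_c37 LD3_c13)))))))))))))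
theorem f467542 : Led Lsl_dt (LP (LK LD1_c7 LD2_c40 LD3_c7)) = (LP (LK LD1_c14 LD2_c27 LD3_c27)) :=
  Lre_d IH (LK LD1_c7 LD2_c40 LD3_c7) (LK LD1_c14 LD2_c27 LD3_c27) Lrfl Lrfl
theorem f483272 : Led Lsl_cf (LP (LK LD1_c13 LD2_c44 LD3_c12)) = (LP (LK LD1_c7 LD2_c33 LD3_c10)) :=
  Lgr Lrot11 (Lpr_ct (K35.f483270 IH) (Lpn (LP (LK LD1_c7 LD2_c33 LD3_c10))))
theorem f87947 : Led Lsl_bt (LP (LK LD1_c3 LD2_c49 LD3_c41)) = (LP (LK LD1_c7 LD2_c40 LD3_c17)) :=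
  Lre_b IH (LK LD1_c3 LD2_c49 LD3_c41) (LK LD1_c7 LD2_c40 LD3_c17) Lrfl Lrfl
theorem f87948 : Led Lsl_df (LP (LK LD1_c7 LD2_c33 LD3_c10)) = (LP (LK LD1_c7 LD2_c40 LD3_c17)) :=
  Lgr Lrot12 (Lpr_bt (K35.f87946 IH) (Lpr_dt (K5.f87940 IH) (Lpr_bt (f87947 IH) (Lpn (LP (LK LD1_c7 LD2_c40 LD3_c17))))))
theorem f599313 : Led Lsl_gt (LP (LK LD1_c14 LD2_c27 LD3_c27)) = (LP (LK LD1_c7 LD2_c40 LD3_c17)) :=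
  Lgr Lrot49 (Lpe (f467542 IH) (Lpe (K40.f522007 IH) (Lpr_cf (K40.f486873 IH) (Lpr_gt (K40.f522001 IH) (Lpr_dt (f467522 IH) (Lpr_gt (f599311 IH) (Lpe (f599305 IH) (Lpr_cf (f483272 IH) (Lpr_df (f87948 IH) (Lpn (LP (LK LD1_c7 LD2_c40 LD3_c17))))))))))))
theorem f489081 : Led Lsl_ff (LP (LK LD1_c22 LD2_c50 LD3_c44)) = (LP (LK LD1_c14 LD2_c27 LD3_c27)) :=
  Lgr Lrot19 (Lpr_dt (K34.f127273 IH) (Lpr_ft (K34.f489079 IH) (Lpr_dt (f467542 IH) (Lpn (LP (LK LD1_c14 LD2_c27 LD3_c27))))))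
theorem f206581 : Led Lsl_af (LP (LK LD1_c14 LD2_c22 LD3_c39)) = (LP (LK LD1_c22 LD2_c50 LD3_c44)) :=
  Lgr Lrot0 (Lpr_at (K34.f206578 IH) (Lpn (LP (LK LD1_c22 LD2_c50 LD3_c44))))
theorem f599315 : Led Lsl_gf (LP (LK LD1_c14 LD2_c22 LD3_c39)) = (LP (LK LD1_c7 LD2_c40 LD3_c17)) :=
  Lgr Lrot76 (Lpr_af (f206581 IH) (Lpr_ff (f489081 IH) (Lpr_gt (f599313 IH) (Lpn (LP (LK LD1_c7 LD2_c40 LD3_c17))))))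
theorem f95174 : Led Lsl_et (LP (LK LD1_c7 LD2_c37 LD3_c43)) = (LP (LK LD1_c3 LD2_c48 LD3_c20)) :=
  Lre_e IH (LK LD1_c7 LD2_c37 LD3_c43) (LK LD1_c3 LD2_c48 LD3_c20) Lrfl Lrfl
theorem f419806 : Led Lsl_et (LP (LK LD1_c3 LD2_c45 LD3_c39)) = (LP (LK LD1_c7 LD2_c31 LD3_c58)) :=
  Lre_e IH (LK LD1_c3 LD2_c45 LD3_c39) (LK LD1_c7 LD2_c31 LD3_c58) Lrfl Lrfl
theorem f87955 : Led Lsl_et (LP (LK LD1_c7 LD2_c33 LD3_c13)) = (LP (LK LD1_c3 LD2_c46 LD3_c6)) :=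
  Lre_e IH (LK LD1_c7 LD2_c33 LD3_c13) (LK LD1_c3 LD2_c46 LD3_c6) Lrfl Lrfl
theorem f87956 : Led Lsl_et (LP (LK LD1_c3 LD2_c49 LD3_c41)) = (LP (LK LD1_c7 LD2_c40 LD3_c19)) :=
  Lre_e IH (LK LD1_c3 LD2_c49 LD3_c41) (LK LD1_c7 LD2_c40 LD3_c19) Lrfl Lrfl
theorem f87957 : Led Lsl_df (LP (LK LD1_c7 LD2_c33 LD3_c13)) = (LP (LK LD1_c7 LD2_c40 LD3_c19)) :=
  Lgr Lrot70 (Lpr_et (f87955 IH) (Lpr_dt (K29.f87954 IH) (Lpr_et (K35.f87953 IH) (Lpr_dt (K5.f87940 IH) (Lpr_et (f87956 IH) (Lpn (LP (LK LD1_c7 LD2_c40 LD3_c19))))))))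
theorem f88036 : Led Lsl_dt (LP (LK LD1_c7 LD2_c33 LD3_c13)) = (LP (LK LD1_c7 LD2_c40 LD3_c19)) :=
  Lgr Lrot42 (Lpr_df (f87957 IH) (Lpn (LP (LK LD1_c7 LD2_c40 LD3_c19))))
theorem f88079 : Led Lsl_bt (LP (LK LD1_c14 LD2_c14 LD3_c40)) = (LP (LK LD1_c7 LD2_c33 LD3_c13)) :=
  Lre_b IH (LK LD1_c14 LD2_c14 LD3_c40) (LK LD1_c7 LD2_c33 LD3_c13) Lrfl Lrfl
theorem f88080 : Led Lsl_bt (LP (LK LD1_c7 LD2_c40 LD3_c19)) = (LP (LK LD1_c14 LD2_c27 LD3_c48)) :=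
  Lre_b IH (LK LD1_c7 LD2_c40 LD3_c19) (LK LD1_c14 LD2_c27 LD3_c48) Lrfl Lrfl
theorem f88081 : Led Lsl_df (LP (LK LD1_c14 LD2_c14 LD3_c40)) = (LP (LK LD1_c14 LD2_c27 LD3_c48)) :=
  Lgr Lrot12 (Lpr_bt (f88079 IH) (Lpr_dt (f88036 IH) (Lpr_bt (f88080 IH) (Lpn (LP (LK LD1_c14 LD2_c27 LD3_c48))))))
theorem f88096 : Led Lsl_et (LP (LK LD1_c14 LD2_c14 LD3_c40)) = (LP (LK LD1_c7 LD2_c33 LD3_c9)) :=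
  Lre_e IH (LK LD1_c14 LD2_c14 LD3_c40) (LK LD1_c7 LD2_c33 LD3_c9) Lrfl Lrfl
theorem f88097 : Led Lsl_dt (LP (LK LD1_c7 LD2_c33 LD3_c9)) = (LP (LK LD1_c3 LD2_c46 LD3_c5)) :=
  Lre_d IH (LK LD1_c7 LD2_c33 LD3_c9) (LK LD1_c3 LD2_c46 LD3_c5) Lrfl Lrfl
theorem f88098 : Led Lsl_et (LP (LK LD1_c3 LD2_c46 LD3_c5)) = (LP (LK LD1_c7 LD2_c33 LD3_c10)) :=
  Lre_e IH (LK LD1_c3 LD2_c46 LD3_c5) (LK LD1_c7 LD2_c33 LD3_c10) Lrfl Lrfl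
theorem f88099 : Led Lsl_et (LP (LK LD1_c7 LD2_c40 LD3_c17)) = (LP (LK LD1_c14 LD2_c27 LD3_c48)) :=
  Lre_e IH (LK LD1_c7 LD2_c40 LD3_c17) (LK LD1_c14 LD2_c27 LD3_c48) Lrfl Lrfl
theorem f88100 : Led Lsl_dt (LP (LK LD1_c7 LD2_c33 LD3_c10)) = (LP (LK LD1_c7 LD2_c40 LD3_c17)) :=
  Lgr Lrot77 (Lpe (f88098 IH) (Lpe (f88097 IH) (Lpe (f88096 IH) (Lpr_df (f88081 IH) (Lpe (f88099 IH) (Lpn (LP (LK LD1_c7 LD2_c40 LD3_c17))))))))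
theorem f599317 : Led Lsl_gt (LP (LK LD1_c7 LD2_c31 LD3_c58)) = (LP (LK LD1_c3 LD2_c46 LD3_c5)) :=
  Lgr Lrot131 (Lpe (f419806 IH) (Lpr_dt (K32.f92480 IH) (Lpe (K42.f419845 IH) (Lpe (K5.f104068 IH) (Lpr_gf (K5.f127866 IH) (Lpe (f95174 IH) (Lpr_dt (K34.f95168 IH) (Lpr_gf (f599315 IH) (Lpe (f88100 IH) (Lpr_et (K35.f88121 IH) (Lpn (LP (LK LD1_c3 LD2_c46 LD3_c5)))))))))))))
theorem f483276 : Led Lsl_at (LP (LK LD1_c7 LD2_c33 LD3_c8)) = (LP (LK LD1_c3 LD2_c46 LD3_c5)) :=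
  Lre_a IH (LK LD1_c7 LD2_c33 LD3_c8) (LK LD1_c3 LD2_c46 LD3_c5) Lrfl Lrfl
theorem f515309 : Led Lsl_ff (LP (LK LD1_c1 LD2_c46 LD3_c21)) = (LP (LK LD1_c3 LD2_c38 LD3_c21)) :=
  Lgr Lrot25 (Lpr_bt (K29.f4422 IH) (Lpr_ft (K29.f456997 IH) (Lpqs (K33.f515304 IH) (Lpr_bt (K33.f92486 IH) (Lpn (LP (LK LD1_c3 LD2_c38 LD3_c21)))))))
theorem f456989 : Led Lsl_at (LP (LK LD1_c1 LD2_c46 LD3_c21)) = (LP (LK LD1_c3 LD2_c38 LD3_c49)) :=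
  Lre_a IH (LK LD1_c1 LD2_c46 LD3_c21) (LK LD1_c3 LD2_c38 LD3_c49) Lrfl Lrfl
theorem f463006 : Led Lsl_ct (LP (LK LD1_c7 LD2_c23 LD3_c54)) = (LP (LK LD1_c3 LD2_c41 LD3_c36)) :=
  Lre_c IH (LK LD1_c7 LD2_c23 LD3_c54) (LK LD1_c3 LD2_c41 LD3_c36) Lrfl Lrfl
theorem f4650 : Led Lsl_dt (LP (LK LD1_c3 LD2_c41 LD3_c36)) = (LP (LK LD1_c1 LD2_c47 LD3_c42)) :=
  Lre_d IH (LK LD1_c3 LD2_c41 LD3_c36) (LK LD1_c1 LD2_c47 LD3_c42) Lrfl Lrfl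
theorem f517673 : Led Lsl_cf (LP (LK LD1_c3 LD2_c38 LD3_c49)) = (LP (LK LD1_c1 LD2_c47 LD3_c42)) :=
  Lgr Lrot102 (Lpe (f456989 IH) (Lpr_ff (f515309 IH) (Lpr_dt (K33.f92488 IH) (Lpe (K33.f482461 IH) (Lpr_dt (K33.f482476 IH) (Lpr_ct (K34.f4811 IH) (Lpr_dt (K34.f517598 IH) (Lpr_ct (f463006 IH) (Lpr_dt (f4650 IH) (Lpn (LP (LK LD1_c1 LD2_c47 LD3_c42))))))))))))
theorem f517724 : Led Lsl_gt (LP (LK LD1_c3 LD2_c38 LD3_c49)) = (LP (LK LD1_c6 LD2_c34 LD3_c2)) :=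
  Lgr Lrot150 (Lpr_cf (f517673 IH) (Lpe (K29.f13408 IH) (Lpe (K34.f4610 IH) (Lpr_gt (K33.f13398 IH) (Lpr_ct (K33.f13402 IH) (Lpr_gt (K34.f13403 IH) (Lpr_ct (K34.f517699 IH) (Lpe (K34.f4534 IH) (Lpe (K29.f483462 IH) (Lpn (LP (LK LD1_c6 LD2_c34 LD3_c2))))))))))))
theorem f440672 : Led Lsl_bt (LP (LK LD1_c0 LD2_c47 LD3_c21)) = (LP (LK LD1_c1 LD2_c41 LD3_c31)) :=
  Lre_b IH (LK LD1_c0 LD2_c47 LD3_c21) (LK LD1_c1 LD2_c41 LD3_c31) Lrfl Lrfl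
theorem f482925 : Led Lsl_cf (LP (LK LD1_c3 LD2_c29 LD3_c43)) = (LP (LK LD1_c3 LD2_c15 LD3_c25)) :=
  Lgr Lrot11 (Lpr_ct (K29.f482917 IH) (Lpn (LP (LK LD1_c3 LD2_c15 LD3_c25))))
theorem f517730 : Led Lsl_bf (LP (LK LD1_c3 LD2_c38 LD3_c49)) = (LP (LK LD1_c3 LD2_c15 LD3_c25)) :=
  Lgr Lrot165 (Lpr_gt (f517724 IH) (Lpr_ct (K29.f483462 IH) (Lpe (K29.f483470 IH) (Lpe (K29.f4536 IH) (Lpe (K29.f476428 IH) (Lpr_gt (K29.f440675 IH) (Lpe (f440672 IH) (Lpr_ct (K3.f64681 IH) (Lpr_gt (K29.f64727 IH) (Lpr_cf (f482925 IH) (Lpn (LP (LK LD1_c3 LD2_c15 LD3_c25)))))))))))))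
theorem f478596 : Led Lsl_ff (LP (LK LD1_c6 LD2_c34 LD3_c1)) = (LP (LK LD1_c3 LD2_c38 LD3_c49)) :=
  Lgr Lrot3 (Lpr_ft (K33.f478291 IH) (Lpn (LP (LK LD1_c3 LD2_c38 LD3_c49))))
theorem f517918 : Led Lsl_ft (LP (LK LD1_c3 LD2_c25 LD3_c27)) = (LP (LK LD1_c3 LD2_c15 LD3_c25)) :=
  Lgr Lrot75 (Lpe (K29.f483452 IH) (Lpr_ff (f478596 IH) (Lpr_bf (f517730 IH) (Lpn (LP (LK LD1_c3 LD2_c15 LD3_c25))))))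
theorem f517924 : Led Lsl_ff (LP (LK LD1_c3 LD2_c25 LD3_c27)) = (LP (LK LD1_c3 LD2_c15 LD3_c25)) :=
  Lgr Lrot3 (Lpr_ft (f517918 IH) (Lpn (LP (LK LD1_c3 LD2_c15 LD3_c25))))
theorem f517926 : Led Lsl_ft (LP (LK LD1_c1 LD2_c50 LD3_c8)) = (LP (LK LD1_c3 LD2_c29 LD3_c43)) :=
  Lgr Lrot4 (Lpr_cf (K29.f483335 IH) (Lpr_ff (f517924 IH) (Lpe (K29.f482917 IH) (Lpn (LP (LK LD1_c3 LD2_c29 LD3_c43))))))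
theorem f461591 : Led Lsl_gt (LP (LK LD1_c7 LD2_c3 LD3_c28)) = (LP (LK LD1_c3 LD2_c30 LD3_c43)) :=
  Lre_g IH (LK LD1_c7 LD2_c3 LD3_c28) (LK LD1_c3 LD2_c30 LD3_c43) Lrfl Lrfl
theorem f516853 : Led Lsl_ff (LP (LK LD1_c3 LD2_c46 LD3_c10)) = (LP (LK LD1_c7 LD2_c3 LD3_c28)) :=
  Lgr Lrot52 (Lpr_at (K33.f516842 IH) (Lpe (K30.f477932 IH) (Lpe (f461591 IH) (Lpn (LP (LK LD1_c7 LD2_c3 LD3_c28))))))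
theorem f92657 : Led Lsl_dt (LP (LK LD1_c7 LD2_c40 LD3_c15)) = (LP (LK LD1_c3 LD2_c49 LD3_c40)) :=
  Lre_d IH (LK LD1_c7 LD2_c40 LD3_c15) (LK LD1_c3 LD2_c49 LD3_c40) Lrfl Lrfl
theorem f461598 : Led Lsl_et (LP (LK LD1_c7 LD2_c40 LD3_c15)) = (LP (LK LD1_c7 LD2_c3 LD3_c28)) :=
  Lgr Lrot121 (Lpr_dt (f92657 IH) (Lpe (K43.f92656 IH) (Lpe (K5.f87938 IH) (Lpr_et (K5.f87926 IH) (Lpe (K3.f92644 IH) (Lpe (K5.f17439 IH) (Lpr_dt (K34.f17436 IH) (Lpr_gf (K34.f461583 IH) (Lpe (K34.f129781 IH) (Lpe (f461591 IH) (Lpn (LP (LK LD1_c7 LD2_c3 LD3_c28)))))))))))))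
theorem f103975 : Led Lsl_et (LP (LK LD1_c3 LD2_c29 LD3_c43)) = (LP (LK LD1_c7 LD2_c1 LD3_c2)) :=
  Lre_e IH (LK LD1_c3 LD2_c29 LD3_c43) (LK LD1_c7 LD2_c1 LD3_c2) Lrfl Lrfl
theorem f517932 : Led Lsl_ff (LP (LK LD1_c7 LD2_c40 LD3_c15)) = (LP (LK LD1_c7 LD2_c1 LD3_c2)) :=
  Lgr Lrot72 (Lpr_et (f461598 IH) (Lpe (f516853 IH) (Lpr_et (K33.f92937 IH) (Lpr_ft (f517926 IH) (Lpr_et (f103975 IH) (Lpn (LP (LK LD1_c7 LD2_c1 LD3_c2))))))))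
theorem f517940 : Led Lsl_ft (LP (LK LD1_c7 LD2_c40 LD3_c15)) = (LP (LK LD1_c7 LD2_c1 LD3_c2)) :=
  Lgr Lrot48 (Lpr_ff (f517932 IH) (Lpn (LP (LK LD1_c7 LD2_c1 LD3_c2))))
theorem f461604 : Led Lsl_dt (LP (LK LD1_c3 LD2_c49 LD3_c40)) = (LP (LK LD1_c7 LD2_c40 LD3_c15)) :=
  Lre_d IH (LK LD1_c3 LD2_c49 LD3_c40) (LK LD1_c7 LD2_c40 LD3_c15) Lrfl Lrfl
theorem f12064 : Led Lsl_et (LP (LK LD1_c1 LD2_c50 LD3_c44)) = (LP (LK LD1_c0 LD2_c52 LD3_c15)) :=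
  Lre_e IH (LK LD1_c1 LD2_c50 LD3_c44) (LK LD1_c0 LD2_c52 LD3_c15) Lrfl Lrfl
theorem f12066 : Led Lsl_gt (LP (LK LD1_c7 LD2_c35 LD3_c19)) = (LP (LK LD1_c3 LD2_c47 LD3_c14)) :=
  Lre_g IH (LK LD1_c7 LD2_c35 LD3_c19) (LK LD1_c3 LD2_c47 LD3_c14) Lrfl Lrfl
theorem f103964 : Led Lsl_et (LP (LK LD1_c7 LD2_c1 LD3_c2)) = (LP (LK LD1_c3 LD2_c29 LD3_c43)) :=
  Lre_e IH (LK LD1_c7 LD2_c1 LD3_c2) (LK LD1_c3 LD2_c29 LD3_c43) Lrfl Lrfl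
theorem f103965 : Led Lsl_df (LP (LK LD1_c7 LD2_c35 LD3_c19)) = (LP (LK LD1_c7 LD2_c1 LD3_c2)) :=
  Lgr Lrot170 (Lpr_gt (f12066 IH) (Lpe (K2.f12065 IH) (Lpr_et (f12064 IH) (Lpr_gt (K3.f11948 IH) (Lpr_dt (K3.f103946 IH) (Lpe (K3.f103958 IH) (Lpe (K3.f64793 IH) (Lpr_et (K29.f103963 IH) (Lpr_gt (K29.f64727 IH) (Lpe (f103964 IH) (Lpn (LP (LK LD1_c7 LD2_c1 LD3_c2)))))))))))))
theorem f517946 : Led Lsl_ff (LP (LK LD1_c3 LD2_c49 LD3_c40)) = (LP (LK LD1_c7 LD2_c35 LD3_c19)) :=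
  Lgr Lrot19 (Lpr_dt (f461604 IH) (Lpr_ft (f517940 IH) (Lpe (f103965 IH) (Lpn (LP (LK LD1_c7 LD2_c35 LD3_c19))))))
theorem f96170 : Led Lsl_gt (LP (LK LD1_c3 LD2_c47 LD3_c14)) = (LP (LK LD1_c7 LD2_c35 LD3_c18)) :=
  Lre_g IH (LK LD1_c3 LD2_c47 LD3_c14) (LK LD1_c7 LD2_c35 LD3_c18) Lrfl Lrfl
theorem f517953 : Led Lsl_at (LP (LK LD1_c3 LD2_c49 LD3_c40)) = (LP (LK LD1_c7 LD2_c35 LD3_c18)) :=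
  Lgr Lrot26 (Lpr_ff (f517946 IH) (Lpr_gt (f12066 IH) (Lpr_gt (f96170 IH) (Lpn (LP (LK LD1_c7 LD2_c35 LD3_c18))))))
theorem f517955 : Led Lsl_af (LP (LK LD1_c3 LD2_c49 LD3_c40)) = (LP (LK LD1_c7 LD2_c35 LD3_c18)) :=
  Lgr Lrot0 (Lpr_at (f517953 IH) (Lpn (LP (LK LD1_c7 LD2_c35 LD3_c18))))
theorem f517980 : Led Lsl_ft (LP (LK LD1_c3 LD2_c49 LD3_c41)) = (LP (LK LD1_c7 LD2_c35 LD3_c18)) :=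
  Lgr Lrot2 (Lpr_gt (K5.f87939 IH) (Lpr_gt (K43.f92656 IH) (Lpr_af (f517955 IH) (Lpn (LP (LK LD1_c7 LD2_c35 LD3_c18))))))
theorem f517986 : Led Lsl_ff (LP (LK LD1_c3 LD2_c49 LD3_c41)) = (LP (LK LD1_c7 LD2_c35 LD3_c18)) :=
  Lgr Lrot3 (Lpr_ft (f517980 IH) (Lpn (LP (LK LD1_c7 LD2_c35 LD3_c18))))
theorem f517988 : Led Lsl_at (LP (LK LD1_c3 LD2_c49 LD3_c41)) = (LP (LK LD1_c7 LD2_c35 LD3_c19)) :=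
  Lgr Lrot66 (Lpr_ff (f517986 IH) (Lpe (f517953 IH) (Lpr_ff (f517946 IH) (Lpn (LP (LK LD1_c7 LD2_c35 LD3_c19))))))
theorem f103972 : Led Lsl_dt (LP (LK LD1_c7 LD2_c35 LD3_c19)) = (LP (LK LD1_c7 LD2_c1 LD3_c2)) :=
  Lgr Lrot42 (Lpr_df (f103965 IH) (Lpn (LP (LK LD1_c7 LD2_c1 LD3_c2))))
theorem f517994 : Led Lsl_af (LP (LK LD1_c3 LD2_c46 LD3_c7)) = (LP (LK LD1_c7 LD2_c1 LD3_c2)) :=
  Lgr Lrot117 (Lpr_dt (K5.f87940 IH) (Lpr_at (f517988 IH) (Lpr_dt (f103972 IH) (Lpn (LP (LK LD1_c7 LD2_c1 LD3_c2))))))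
theorem f482927 : Led Lsl_et (LP (LK LD1_c3 LD2_c15 LD3_c25)) = (LP (LK LD1_c6 LD2_c34 LD3_c11)) :=
  Lre_e IH (LK LD1_c3 LD2_c15 LD3_c25) (LK LD1_c6 LD2_c34 LD3_c11) Lrfl Lrfl
theorem f482928 : Led Lsl_cf (LP (LK LD1_c7 LD2_c1 LD3_c2)) = (LP (LK LD1_c6 LD2_c34 LD3_c11)) :=
  Lgr Lrot39 (Lpr_et (f103964 IH) (Lpr_ct (K29.f482917 IH) (Lpr_et (f482927 IH) (Lpn (LP (LK LD1_c6 LD2_c34 LD3_c11))))))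
theorem f518083 : Led Lsl_at (LP (LK LD1_c6 LD2_c53 LD3_c1)) = (LP (LK LD1_c6 LD2_c34 LD3_c11)) :=
  Lgr Lrot107 (Lpe (K35.f483024 IH) (Lpr_af (f517994 IH) (Lpr_cf (f482928 IH) (Lpn (LP (LK LD1_c6 LD2_c34 LD3_c11))))))
theorem f517216 : Led Lsl_ft (LP (LK LD1_c7 LD2_c15 LD3_c33)) = (LP (LK LD1_c3 LD2_c38 LD3_c56)) :=
  Lgr Lrot54 (Lpe (K33.f97094 IH) (Lpr_ff (K33.f517210 IH) (Lpe (K28.f4441 IH) (Lpn (LP (LK LD1_c3 LD2_c38 LD3_c56))))))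
theorem f97099 : Led Lsl_ct (LP (LK LD1_c3 LD2_c37 LD3_c32)) = (LP (LK LD1_c7 LD2_c15 LD3_c33)) :=
  Lre_c IH (LK LD1_c3 LD2_c37 LD3_c32) (LK LD1_c7 LD2_c15 LD3_c33) Lrfl Lrfl
theorem f97297 : Led Lsl_ct (LP (LK LD1_c3 LD2_c38 LD3_c56)) = (LP (LK LD1_c1 LD2_c46 LD3_c24)) :=
  Lre_c IH (LK LD1_c3 LD2_c38 LD3_c56) (LK LD1_c1 LD2_c46 LD3_c24) Lrfl Lrfl
theorem f517220 : Led Lsl_ff (LP (LK LD1_c3 LD2_c37 LD3_c32)) = (LP (LK LD1_c1 LD2_c46 LD3_c24)) :=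
  Lgr Lrot23 (Lpr_ct (f97099 IH) (Lpr_ft (f517216 IH) (Lpr_ct (f97297 IH) (Lpn (LP (LK LD1_c1 LD2_c46 LD3_c24))))))
theorem f517226 : Led Lsl_ft (LP (LK LD1_c3 LD2_c37 LD3_c32)) = (LP (LK LD1_c1 LD2_c46 LD3_c24)) :=
  Lgr Lrot48 (Lpr_ff (f517220 IH) (Lpn (LP (LK LD1_c1 LD2_c46 LD3_c24))))
theorem f517233 : Led Lsl_af (LP (LK LD1_c3 LD2_c37 LD3_c35)) = (LP (LK LD1_c1 LD2_c46 LD3_c24)) :=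
  Lgr Lrot109 (Lpe (K33.f92505 IH) (Lpr_df (K29.f481205 IH) (Lpe (K33.f481260 IH) (Lpe (K33.f481209 IH) (Lpe (K33.f517189 IH) (Lpe (K33.f97111 IH) (Lpe (K33.f97110 IH) (Lpe (K33.f10811 IH) (Lpr_ft (f517226 IH) (Lpn (LP (LK LD1_c1 LD2_c46 LD3_c24))))))))))))
theorem f97296 : Led Lsl_bt (LP (LK LD1_c3 LD2_c38 LD3_c52)) = (LP (LK LD1_c1 LD2_c46 LD3_c24)) :=
  Lre_b IH (LK LD1_c3 LD2_c38 LD3_c52) (LK LD1_c1 LD2_c46 LD3_c24) Lrfl Lrfl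
theorem f478284 : Led Lsl_at (LP (LK LD1_c7 LD2_c18 LD3_c3)) = (LP (LK LD1_c3 LD2_c38 LD3_c52)) :=
  Lre_a IH (LK LD1_c7 LD2_c18 LD3_c3) (LK LD1_c3 LD2_c38 LD3_c52) Lrfl Lrfl
theorem f518105 : Led Lsl_bf (LP (LK LD1_c7 LD2_c18 LD3_c3)) = (LP (LK LD1_c6 LD2_c34 LD3_c11)) :=
  Lgr Lrot81 (Lpr_at (f478284 IH) (Lpr_bt (f97296 IH) (Lpe (f517233 IH) (Lpr_bt (K35.f483261 IH) (Lpr_at (f518083 IH) (Lpn (LP (LK LD1_c6 LD2_c34 LD3_c11))))))))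
theorem f478598 : Led Lsl_et (LP (LK LD1_c7 LD2_c18 LD3_c3)) = (LP (LK LD1_c3 LD2_c38 LD3_c49)) :=
  Lre_e IH (LK LD1_c7 LD2_c18 LD3_c3) (LK LD1_c3 LD2_c38 LD3_c49) Lrfl Lrfl
theorem f126016 : Led Lsl_ft (LP (LK LD1_c0 LD2_c53 LD3_c53)) = (LP (LK LD1_c0 LD2_c46 LD3_c32)) :=
  Lgr Lrot75 (Lpe (K4.f90252 IH) (Lpr_ff (K5.f126014 IH) (Lpe (K3.f9908 IH) (Lpn (LP (LK LD1_c0 LD2_c46 LD3_c32))))))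
theorem f91709 : Led Lsl_et (LP (LK LD1_c0 LD2_c46 LD3_c32)) = (LP (LK LD1_c1 LD2_c40 LD3_c1)) :=
  Lre_e IH (LK LD1_c0 LD2_c46 LD3_c32) (LK LD1_c1 LD2_c40 LD3_c1) Lrfl Lrfl
theorem f482605 : Led Lsl_et (LP (LK LD1_c3 LD2_c26 LD3_c46)) = (LP (LK LD1_c3 LD2_c33 LD3_c61)) :=
  Lgr Lrot69 (Lpe (K29.f132227 IH) (Lpe (f91709 IH) (Lpe (f126016 IH) (Lpe (K33.f90291 IH) (Lpr_ff (K33.f482603 IH) (Lpn (LP (LK LD1_c3 LD2_c33 LD3_c61))))))))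
theorem f480270 : Led Lsl_gt (LP (LK LD1_c6 LD2_c55 LD3_c21)) = (LP (LK LD1_c13 LD2_c8 LD3_c45)) :=
  Lre_g IH (LK LD1_c6 LD2_c55 LD3_c21) (LK LD1_c13 LD2_c8 LD3_c45) Lrfl Lrfl
theorem f517735 : Led Lsl_dt (LP (LK LD1_c7 LD2_c18 LD3_c3)) = (LP (LK LD1_c13 LD2_c8 LD3_c45)) :=
  Lgr Lrot37 (Lpr_et (f478598 IH) (Lpr_gt (f517724 IH) (Lpr_dt (K29.f65527 IH) (Lpr_gt (K34.f482592 IH) (Lpr_df (K33.f93132 IH) (Lpr_et (K33.f93145 IH) (Lpr_gt (K33.f93146 IH) (Lpe (f482605 IH) (Lpr_dt (K29.f132188 IH) (Lpr_gt (f480270 IH) (Lpn (LP (LK LD1_c13 LD2_c8 LD3_c45)))))))))))))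
theorem f517739 : Led Lsl_df (LP (LK LD1_c7 LD2_c18 LD3_c3)) = (LP (LK LD1_c13 LD2_c8 LD3_c45)) :=
  Lgr Lrot38 (Lpr_dt (f517735 IH) (Lpn (LP (LK LD1_c13 LD2_c8 LD3_c45))))
theorem f134740 : Led Lsl_dt (LP (LK LD1_c1 LD2_c54 LD3_c0)) = (LP (LK LD1_c3 LD2_c54 LD3_c52)) :=
  Lre_d IH (LK LD1_c1 LD2_c54 LD3_c0) (LK LD1_c3 LD2_c54 LD3_c52) Lrfl Lrfl
theorem f437011 : Led Lsl_et (LP (LK LD1_c3 LD2_c41 LD3_c37)) = (LP (LK LD1_c1 LD2_c47 LD3_c42)) :=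
  Lre_e IH (LK LD1_c3 LD2_c41 LD3_c37) (LK LD1_c1 LD2_c47 LD3_c42) Lrfl Lrfl
theorem f437012 : Led Lsl_dt (LP (LK LD1_c3 LD2_c41 LD3_c37)) = (LP (LK LD1_c7 LD2_c23 LD3_c56)) :=
  Lre_d IH (LK LD1_c3 LD2_c41 LD3_c37) (LK LD1_c7 LD2_c23 LD3_c56) Lrfl Lrfl
theorem f437013 : Led Lsl_gf (LP (LK LD1_c3 LD2_c54 LD3_c52)) = (LP (LK LD1_c7 LD2_c23 LD3_c56)) :=
  Lgr Lrot145 (Lpe (f134740 IH) (Lpr_et (K34.f134730 IH) (Lpr_gt (K6.f134738 IH) (Lpr_dt (K7.f147574 IH) (Lpr_gt (K7.f4459 IH) (Lpe (K4.f12895 IH) (Lpr_et (K4.f12875 IH) (Lpr_gt (K29.f13408 IH) (Lpe (f437011 IH) (Lpr_dt (f437012 IH) (Lpn (LP (LK LD1_c7 LD2_c23 LD3_c56)))))))))))))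
theorem f123250 : Led Lsl_at (LP (LK LD1_c1 LD2_c54 LD3_c13)) = (LP (LK LD1_c3 LD2_c54 LD3_c52)) :=
  Lre_a IH (LK LD1_c1 LD2_c54 LD3_c13) (LK LD1_c3 LD2_c54 LD3_c52) Lrfl Lrfl
theorem f123122 : Led Lsl_ft (LP (LK LD1_c3 LD2_c55 LD3_c21)) = (LP (LK LD1_c1 LD2_c54 LD3_c13)) :=
  Lre_f IH (LK LD1_c3 LD2_c55 LD3_c21) (LK LD1_c1 LD2_c54 LD3_c13) Lrfl Lrfl
theorem f437016 : Led Lsl_gt (LP (LK LD1_c3 LD2_c55 LD3_c21)) = (LP (LK LD1_c7 LD2_c23 LD3_c56)) :=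
  Lgr Lrot5 (Lpr_ft (f123122 IH) (Lpr_at (f123250 IH) (Lpr_gf (f437013 IH) (Lpn (LP (LK LD1_c7 LD2_c23 LD3_c56))))))
theorem f437022 : Led Lsl_dt (LP (LK LD1_c7 LD2_c23 LD3_c56)) = (LP (LK LD1_c3 LD2_c41 LD3_c37)) :=
  Lre_d IH (LK LD1_c7 LD2_c23 LD3_c56) (LK LD1_c3 LD2_c41 LD3_c37) Lrfl Lrfl
theorem f517743 : Led Lsl_ct (LP (LK LD1_c7 LD2_c18 LD3_c3)) = (LP (LK LD1_c3 LD2_c41 LD3_c37)) :=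
  Lgr Lrot7 (Lpr_df (f517739 IH) (Lpe (f480270 IH) (Lpe (K29.f132188 IH) (Lpr_gf (K33.f480727 IH) (Lpe (K33.f456234 IH) (Lpr_gt (K29.f456230 IH) (Lpr_dt (K6.f122808 IH) (Lpr_gt (f437016 IH) (Lpr_dt (f437022 IH) (Lpn (LP (LK LD1_c3 LD2_c41 LD3_c37))))))))))))
theorem f517747 : Led Lsl_bt (LP (LK LD1_c3 LD2_c41 LD3_c37)) = (LP (LK LD1_c7 LD2_c23 LD3_c52)) :=
  Lre_b IH (LK LD1_c3 LD2_c41 LD3_c37) (LK LD1_c7 LD2_c23 LD3_c52) Lrfl Lrfl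
theorem f486240 : Led Lsl_ct (LP (LK LD1_c7 LD2_c1 LD3_c2)) = (LP (LK LD1_c6 LD2_c34 LD3_c11)) :=
  Lgr Lrot59 (Lpr_cf (f482928 IH) (Lpn (LP (LK LD1_c6 LD2_c34 LD3_c11))))
theorem f103969 : Led Lsl_bt (LP (LK LD1_c13 LD2_c18 LD3_c39)) = (LP (LK LD1_c7 LD2_c1 LD3_c2)) :=
  Lre_b IH (LK LD1_c13 LD2_c18 LD3_c39) (LK LD1_c7 LD2_c1 LD3_c2) Lrfl Lrfl
theorem f518111 : Led Lsl_ct (LP (LK LD1_c7 LD2_c23 LD3_c52)) = (LP (LK LD1_c13 LD2_c18 LD3_c39)) :=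
  Lgr Lrot83 (Lpe (f517747 IH) (Lpe (f517743 IH) (Lpr_bf (f518105 IH) (Lpe (f486240 IH) (Lpe (f103969 IH) (Lpn (LP (LK LD1_c13 LD2_c18 LD3_c39))))))))
theorem f518115 : Led Lsl_et (LP (LK LD1_c3 LD2_c41 LD3_c35)) = (LP (LK LD1_c7 LD2_c23 LD3_c52)) :=
  Lre_e IH (LK LD1_c3 LD2_c41 LD3_c35) (LK LD1_c7 LD2_c23 LD3_c52) Lrfl Lrfl
theorem f104020 : Led Lsl_et (LP (LK LD1_c13 LD2_c18 LD3_c39)) = (LP (LK LD1_c7 LD2_c1 LD3_c0)) :=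
  Lre_e IH (LK LD1_c13 LD2_c18 LD3_c39) (LK LD1_c7 LD2_c1 LD3_c0) Lrfl Lrfl
theorem f518116 : Led Lsl_cf (LP (LK LD1_c3 LD2_c41 LD3_c35)) = (LP (LK LD1_c7 LD2_c1 LD3_c0)) :=
  Lgr Lrot39 (Lpr_et (f518115 IH) (Lpr_ct (f518111 IH) (Lpr_et (f104020 IH) (Lpn (LP (LK LD1_c7 LD2_c1 LD3_c0))))))
theorem f88051 : Led Lsl_et (LP (LK LD1_c7 LD2_c40 LD3_c19)) = (LP (LK LD1_c3 LD2_c49 LD3_c41)) :=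
  Lre_e IH (LK LD1_c7 LD2_c40 LD3_c19) (LK LD1_c3 LD2_c49 LD3_c41) Lrfl Lrfl
theorem f103974 : Led Lsl_et (LP (LK LD1_c7 LD2_c35 LD3_c19)) = (LP (LK LD1_c14 LD2_c18 LD3_c28)) :=
  Lre_e IH (LK LD1_c7 LD2_c35 LD3_c19) (LK LD1_c14 LD2_c18 LD3_c28) Lrfl Lrfl
theorem f517996 : Led Lsl_af (LP (LK LD1_c7 LD2_c40 LD3_c19)) = (LP (LK LD1_c14 LD2_c18 LD3_c28)) :=
  Lgr Lrot50 (Lpr_et (f88051 IH) (Lpr_at (f517988 IH) (Lpr_et (f103974 IH) (Lpn (LP (LK LD1_c14 LD2_c18 LD3_c28))))))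
theorem f88042 : Led Lsl_ft (LP (LK LD1_c7 LD2_c40 LD3_c19)) = (LP (LK LD1_c14 LD2_c27 LD3_c52)) :=
  Lre_f IH (LK LD1_c7 LD2_c40 LD3_c19) (LK LD1_c14 LD2_c27 LD3_c52) Lrfl Lrfl
theorem f103988 : Led Lsl_ft (LP (LK LD1_c23 LD2_c56 LD3_c30)) = (LP (LK LD1_c14 LD2_c18 LD3_c28)) :=
  Lre_f IH (LK LD1_c23 LD2_c56 LD3_c30) (LK LD1_c14 LD2_c18 LD3_c28) Lrfl Lrfl
theorem f518002 : Led Lsl_at (LP (LK LD1_c14 LD2_c27 LD3_c52)) = (LP (LK LD1_c23 LD2_c56 LD3_c30)) :=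
  Lgr Lrot66 (Lpe (f88042 IH) (Lpr_af (f517996 IH) (Lpe (f103988 IH) (Lpn (LP (LK LD1_c23 LD2_c56 LD3_c30))))))
theorem f88039 : Led Lsl_ft (LP (LK LD1_c14 LD2_c27 LD3_c52)) = (LP (LK LD1_c7 LD2_c40 LD3_c19)) :=
  Lre_f IH (LK LD1_c14 LD2_c27 LD3_c52) (LK LD1_c7 LD2_c40 LD3_c19) Lrfl Lrfl
theorem f88040 : Led Lsl_dt (LP (LK LD1_c14 LD2_c14 LD3_c47)) = (LP (LK LD1_c14 LD2_c27 LD3_c52)) :=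
  Lgr Lrot60 (Lpe (K33.f88038 IH) (Lpr_df (f87957 IH) (Lpe (f88039 IH) (Lpn (LP (LK LD1_c14 LD2_c27 LD3_c52))))))
theorem f103976 : Led Lsl_et (LP (LK LD1_c13 LD2_c18 LD3_c41)) = (LP (LK LD1_c7 LD2_c1 LD3_c1)) :=
  Lre_e IH (LK LD1_c13 LD2_c18 LD3_c41) (LK LD1_c7 LD2_c1 LD3_c1) Lrfl Lrfl
theorem f103977 : Led Lsl_dt (LP (LK LD1_c14 LD2_c18 LD3_c28)) = (LP (LK LD1_c13 LD2_c18 LD3_c41)) :=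
  Lgr Lrot77 (Lpe (f103974 IH) (Lpr_df (f103965 IH) (Lpe (f103975 IH) (Lpe (K29.f64728 IH) (Lpe (f103976 IH) (Lpn (LP (LK LD1_c13 LD2_c18 LD3_c41))))))))
theorem f103989 : Led Lsl_ft (LP (LK LD1_c13 LD2_c18 LD3_c41)) = (LP (LK LD1_c22 LD2_c34 LD3_c45)) :=
  Lre_f IH (LK LD1_c13 LD2_c18 LD3_c41) (LK LD1_c22 LD2_c34 LD3_c45) Lrfl Lrfl
theorem f103990 : Led Lsl_df (LP (LK LD1_c23 LD2_c56 LD3_c30)) = (LP (LK LD1_c22 LD2_c34 LD3_c45)) :=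
  Lgr Lrot78 (Lpr_ft (f103988 IH) (Lpr_dt (f103977 IH) (Lpr_ft (f103989 IH) (Lpn (LP (LK LD1_c22 LD2_c34 LD3_c45))))))
theorem f103998 : Led Lsl_dt (LP (LK LD1_c23 LD2_c56 LD3_c30)) = (LP (LK LD1_c22 LD2_c34 LD3_c45)) :=
  Lgr Lrot42 (Lpr_df (f103990 IH) (Lpn (LP (LK LD1_c22 LD2_c34 LD3_c45))))
theorem f518008 : Led Lsl_af (LP (LK LD1_c14 LD2_c14 LD3_c47)) = (LP (LK LD1_c22 LD2_c34 LD3_c45)) :=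
  Lgr Lrot117 (Lpr_dt (f88040 IH) (Lpr_at (f518002 IH) (Lpr_dt (f103998 IH) (Lpn (LP (LK LD1_c22 LD2_c34 LD3_c45))))))
theorem f472287 : Led Lsl_dt (LP (LK LD1_c7 LD2_c33 LD3_c20)) = (LP (LK LD1_c3 LD2_c46 LD3_c10)) :=
  Lre_d IH (LK LD1_c7 LD2_c33 LD3_c20) (LK LD1_c3 LD2_c46 LD3_c10) Lrfl Lrfl
theorem f516851 : Led Lsl_af (LP (LK LD1_c7 LD2_c33 LD3_c20)) = (LP (LK LD1_c7 LD2_c48 LD3_c30)) :=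
  Lgr Lrot117 (Lpr_dt (f472287 IH) (Lpr_at (K33.f516842 IH) (Lpe (K34.f472375 IH) (Lpn (LP (LK LD1_c7 LD2_c48 LD3_c30))))))
theorem f477402 : Led Lsl_et (LP (LK LD1_c7 LD2_c33 LD3_c20)) = (LP (LK LD1_c14 LD2_c14 LD3_c59)) :=
  Lre_e IH (LK LD1_c7 LD2_c33 LD3_c20) (LK LD1_c14 LD2_c14 LD3_c59) Lrfl Lrfl
theorem f472421 : Led Lsl_et (LP (LK LD1_c14 LD2_c44 LD3_c3)) = (LP (LK LD1_c7 LD2_c48 LD3_c30)) :=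
  Lre_e IH (LK LD1_c14 LD2_c44 LD3_c3) (LK LD1_c7 LD2_c48 LD3_c30) Lrfl Lrfl
theorem f516903 : Led Lsl_at (LP (LK LD1_c14 LD2_c14 LD3_c59)) = (LP (LK LD1_c14 LD2_c44 LD3_c3)) :=
  Lgr Lrot80 (Lpe (f477402 IH) (Lpr_af (f516851 IH) (Lpe (f472421 IH) (Lpn (LP (LK LD1_c14 LD2_c44 LD3_c3))))))
theorem f516912 : Led Lsl_ft (LP (LK LD1_c23 LD2_c51 LD3_c13)) = (LP (LK LD1_c14 LD2_c14 LD3_c59)) :=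
  Lre_f IH (LK LD1_c23 LD2_c51 LD3_c13) (LK LD1_c14 LD2_c14 LD3_c59) Lrfl Lrfl
theorem f472417 : Led Lsl_ft (LP (LK LD1_c14 LD2_c44 LD3_c3)) = (LP (LK LD1_c24 LD2_c29 LD3_c55)) :=
  Lre_f IH (LK LD1_c14 LD2_c44 LD3_c3) (LK LD1_c24 LD2_c29 LD3_c55) Lrfl Lrfl
theorem f516913 : Led Lsl_af (LP (LK LD1_c23 LD2_c51 LD3_c13)) = (LP (LK LD1_c24 LD2_c29 LD3_c55)) :=
  Lgr Lrot45 (Lpr_ft (f516912 IH) (Lpr_at (f516903 IH) (Lpr_ft (f472417 IH) (Lpn (LP (LK LD1_c24 LD2_c29 LD3_c55))))))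
theorem f516917 : Led Lsl_dt (LP (LK LD1_c23 LD2_c51 LD3_c13)) = (LP (LK LD1_c14 LD2_c14 LD3_c60)) :=
  Lre_d IH (LK LD1_c23 LD2_c51 LD3_c13) (LK LD1_c14 LD2_c14 LD3_c60) Lrfl Lrfl
theorem f472397 : Led Lsl_et (LP (LK LD1_c7 LD2_c48 LD3_c30)) = (LP (LK LD1_c14 LD2_c44 LD3_c3)) :=
  Lre_e IH (LK LD1_c7 LD2_c48 LD3_c30) (LK LD1_c14 LD2_c44 LD3_c3) Lrfl Lrfl
theorem f472400 : Led Lsl_dt (LP (LK LD1_c14 LD2_c44 LD3_c3)) = (LP (LK LD1_c13 LD2_c18 LD3_c47)) :=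
  Lgr Lrot77 (Lpe (f472397 IH) (Lpr_df (K34.f472375 IH) (Lpe (K30.f472398 IH) (Lpe (K29.f440723 IH) (Lpe (K33.f472399 IH) (Lpn (LP (LK LD1_c13 LD2_c18 LD3_c47))))))))
theorem f472413 : Led Lsl_ft (LP (LK LD1_c24 LD2_c29 LD3_c55)) = (LP (LK LD1_c14 LD2_c44 LD3_c3)) :=
  Lre_f IH (LK LD1_c24 LD2_c29 LD3_c55) (LK LD1_c14 LD2_c44 LD3_c3) Lrfl Lrfl
theorem f472414 : Led Lsl_ft (LP (LK LD1_c13 LD2_c18 LD3_c47)) = (LP (LK LD1_c22 LD2_c34 LD3_c59)) :=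
  Lre_f IH (LK LD1_c13 LD2_c18 LD3_c47) (LK LD1_c22 LD2_c34 LD3_c59) Lrfl Lrfl
theorem f472415 : Led Lsl_df (LP (LK LD1_c24 LD2_c29 LD3_c55)) = (LP (LK LD1_c22 LD2_c34 LD3_c59)) :=
  Lgr Lrot78 (Lpr_ft (f472413 IH) (Lpr_dt (f472400 IH) (Lpr_ft (f472414 IH) (Lpn (LP (LK LD1_c22 LD2_c34 LD3_c59))))))
theorem f516922 : Led Lsl_at (LP (LK LD1_c14 LD2_c14 LD3_c60)) = (LP (LK LD1_c22 LD2_c34 LD3_c59)) :=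
  Lgr Lrot51 (Lpe (f516917 IH) (Lpr_af (f516913 IH) (Lpr_df (f472415 IH) (Lpn (LP (LK LD1_c22 LD2_c34 LD3_c59))))))
theorem f516927 : Led Lsl_af (LP (LK LD1_c14 LD2_c14 LD3_c60)) = (LP (LK LD1_c22 LD2_c34 LD3_c59)) :=
  Lgr Lrot0 (Lpr_at (f516922 IH) (Lpn (LP (LK LD1_c22 LD2_c34 LD3_c59))))
theorem f518014 : Led Lsl_et (LP (LK LD1_c14 LD2_c14 LD3_c60)) = (LP (LK LD1_c22 LD2_c34 LD3_c45)) :=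
  Lgr Lrot123 (Lpr_af (f516927 IH) (Lpe (K33.f516814 IH) (Lpr_af (f518008 IH) (Lpn (LP (LK LD1_c22 LD2_c34 LD3_c45))))))
theorem f518022 : Led Lsl_ef (LP (LK LD1_c14 LD2_c14 LD3_c60)) = (LP (LK LD1_c22 LD2_c34 LD3_c45)) :=
  Lgr Lrot88 (Lpr_et (f518014 IH) (Lpn (LP (LK LD1_c22 LD2_c34 LD3_c45))))
theorem f516994 : Led Lsl_bt (LP (LK LD1_c14 LD2_c14 LD3_c60)) = (LP (LK LD1_c23 LD2_c50 LD3_c59)) :=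
  Lre_b IH (LK LD1_c14 LD2_c14 LD3_c60) (LK LD1_c23 LD2_c50 LD3_c59) Lrfl Lrfl
theorem f103997 : Led Lsl_bt (LP (LK LD1_c30 LD2_c35 LD3_c21)) = (LP (LK LD1_c22 LD2_c34 LD3_c45)) :=
  Lre_b IH (LK LD1_c30 LD2_c35 LD3_c21) (LK LD1_c22 LD2_c34 LD3_c45) Lrfl Lrfl
theorem f518024 : Led Lsl_et (LP (LK LD1_c23 LD2_c50 LD3_c59)) = (LP (LK LD1_c30 LD2_c35 LD3_c21)) :=
  Lgr Lrot74 (Lpe (f516994 IH) (Lpr_ef (f518022 IH) (Lpe (f103997 IH) (Lpn (LP (LK LD1_c30 LD2_c35 LD3_c21))))))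
theorem f518029 : Led Lsl_ft (LP (LK LD1_c14 LD2_c14 LD3_c52)) = (LP (LK LD1_c23 LD2_c50 LD3_c59)) :=
  Lre_f IH (LK LD1_c14 LD2_c14 LD3_c52) (LK LD1_c23 LD2_c50 LD3_c59) Lrfl Lrfl
theorem f518030 : Led Lsl_et (LP (LK LD1_c7 LD2_c33 LD3_c16)) = (LP (LK LD1_c14 LD2_c14 LD3_c52)) :=
  Lre_e IH (LK LD1_c7 LD2_c33 LD3_c16) (LK LD1_c14 LD2_c14 LD3_c52) Lrfl Lrfl
theorem f104023 : Led Lsl_ft (LP (LK LD1_c30 LD2_c35 LD3_c21)) = (LP (LK LD1_c22 LD2_c34 LD3_c40)) :=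
  Lre_f IH (LK LD1_c30 LD2_c35 LD3_c21) (LK LD1_c22 LD2_c34 LD3_c40) Lrfl Lrfl
theorem f104008 : Led Lsl_et (LP (LK LD1_c22 LD2_c34 LD3_c40)) = (LP (LK LD1_c13 LD2_c18 LD3_c38)) :=
  Lre_e IH (LK LD1_c22 LD2_c34 LD3_c40) (LK LD1_c13 LD2_c18 LD3_c38) Lrfl Lrfl
theorem f518031 : Led Lsl_ff (LP (LK LD1_c7 LD2_c33 LD3_c16)) = (LP (LK LD1_c13 LD2_c18 LD3_c38)) :=
  Lgr Lrot72 (Lpr_et (f518030 IH) (Lpr_ft (f518029 IH) (Lpr_et (f518024 IH) (Lpr_ft (f104023 IH) (Lpr_et (f104008 IH) (Lpn (LP (LK LD1_c13 LD2_c18 LD3_c38))))))))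
theorem f486099 : Led Lsl_dt (LP (LK LD1_c7 LD2_c33 LD3_c16)) = (LP (LK LD1_c3 LD2_c46 LD3_c8)) :=
  Lre_d IH (LK LD1_c7 LD2_c33 LD3_c16) (LK LD1_c3 LD2_c46 LD3_c8) Lrfl Lrfl
theorem f104021 : Led Lsl_dt (LP (LK LD1_c7 LD2_c1 LD3_c0)) = (LP (LK LD1_c13 LD2_c18 LD3_c38)) :=
  Lre_d IH (LK LD1_c7 LD2_c1 LD3_c0) (LK LD1_c13 LD2_c18 LD3_c38) Lrfl Lrfl
theorem f518035 : Led Lsl_ft (LP (LK LD1_c3 LD2_c46 LD3_c8)) = (LP (LK LD1_c7 LD2_c1 LD3_c0)) :=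
  Lgr Lrot54 (Lpe (f486099 IH) (Lpr_ff (f518031 IH) (Lpe (f104021 IH) (Lpn (LP (LK LD1_c7 LD2_c1 LD3_c0))))))
theorem f518121 : Led Lsl_ft (LP (LK LD1_c3 LD2_c41 LD3_c35)) = (LP (LK LD1_c7 LD2_c21 LD3_c36)) :=
  Lgr Lrot4 (Lpr_cf (f518116 IH) (Lpe (f518035 IH) (Lpr_cf (K46.f483457 IH) (Lpn (LP (LK LD1_c7 LD2_c21 LD3_c36))))))
theorem f518126 : Led Lsl_ff (LP (LK LD1_c3 LD2_c41 LD3_c35)) = (LP (LK LD1_c7 LD2_c21 LD3_c36)) :=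
  Lgr Lrot3 (Lpr_ft (f518121 IH) (Lpn (LP (LK LD1_c7 LD2_c21 LD3_c36))))
theorem f518119 : Led Lsl_at (LP (LK LD1_c3 LD2_c41 LD3_c35)) = (LP (LK LD1_c7 LD2_c23 LD3_c50)) :=
  Lre_a IH (LK LD1_c3 LD2_c41 LD3_c35) (LK LD1_c7 LD2_c23 LD3_c50) Lrfl Lrfl
theorem f518134 : Led Lsl_gf (LP (LK LD1_c7 LD2_c23 LD3_c50)) = (LP (LK LD1_c7 LD2_c28 LD3_c29)) :=
  Lgr Lrot76 (Lpe (f518119 IH) (Lpr_ff (f518126 IH) (Lpe (K43.f501781 IH) (Lpn (LP (LK LD1_c7 LD2_c28 LD3_c29))))))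
theorem f4611 : Led Lsl_ct (LP (LK LD1_c0 LD2_c50 LD3_c36)) = (LP (LK LD1_c0 LD2_c22 LD3_c52)) :=
  Lre_c IH (LK LD1_c0 LD2_c50 LD3_c36) (LK LD1_c0 LD2_c22 LD3_c52) Lrfl Lrfl
theorem f12849 : Led Lsl_bt (LP (LK LD1_c0 LD2_c51 LD3_c21)) = (LP (LK LD1_c0 LD2_c50 LD3_c36)) :=
  Lgr Lrot128 (Lpe (K34.f12848 IH) (Lpe (K33.f12847 IH) (Lpr_cf (K4.f12758 IH) (Lpe (K11.f4484 IH) (Lpe (f4611 IH) (Lpn (LP (LK LD1_c0 LD2_c50 LD3_c36))))))))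
theorem f13417 : Led Lsl_bt (LP (LK LD1_c1 LD2_c49 LD3_c17)) = (LP (LK LD1_c3 LD2_c44 LD3_c31)) :=
  Lre_b IH (LK LD1_c1 LD2_c49 LD3_c17) (LK LD1_c3 LD2_c44 LD3_c31) Lrfl Lrfl
theorem f13418 : Led Lsl_gt (LP (LK LD1_c7 LD2_c30 LD3_c3)) = (LP (LK LD1_c3 LD2_c44 LD3_c31)) :=
  Lre_g IH (LK LD1_c7 LD2_c30 LD3_c3) (LK LD1_c3 LD2_c44 LD3_c31) Lrfl Lrfl
theorem f517732 : Led Lsl_bf (LP (LK LD1_c7 LD2_c30 LD3_c3)) = (LP (LK LD1_c7 LD2_c21 LD3_c42)) :=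
  Lgr Lrot156 (Lpr_gt (f13418 IH) (Lpe (f13417 IH) (Lpr_ct (K42.f13416 IH) (Lpr_gt (K33.f12864 IH) (Lpe (K4.f12857 IH) (Lpr_bt (f12849 IH) (Lpr_gt (K29.f13408 IH) (Lpe (f517673 IH) (Lpr_gt (f517724 IH) (Lpr_cf (K34.f483464 IH) (Lpn (LP (LK LD1_c7 LD2_c21 LD3_c42)))))))))))))
theorem f517800 : Led Lsl_ft (LP (LK LD1_c7 LD2_c30 LD3_c3)) = (LP (LK LD1_c7 LD2_c21 LD3_c46)) :=
  Lgr Lrot75 (Lpr_bf (f517732 IH) (Lpe (K29.f483512 IH) (Lpe (K29.f123537 IH) (Lpn (LP (LK LD1_c7 LD2_c21 LD3_c46))))))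
theorem f65520 : Led Lsl_bt (LP (LK LD1_c3 LD2_c15 LD3_c24)) = (LP (LK LD1_c6 LD2_c34 LD3_c8)) :=
  Lre_b IH (LK LD1_c3 LD2_c15 LD3_c24) (LK LD1_c6 LD2_c34 LD3_c8) Lrfl Lrfl
theorem f123538 : Led Lsl_cf (LP (LK LD1_c7 LD2_c21 LD3_c46)) = (LP (LK LD1_c6 LD2_c34 LD3_c8)) :=
  Lgr Lrot97 (Lpr_bt (K29.f123537 IH) (Lpr_ct (K4.f122619 IH) (Lpr_bt (K29.f65505 IH) (Lpr_ct (K29.f65512 IH) (Lpr_bt (f65520 IH) (Lpn (LP (LK LD1_c6 LD2_c34 LD3_c8))))))))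
theorem f136993 : Led Lsl_af (LP (LK LD1_c7 LD2_c28 LD3_c9)) = (LP (LK LD1_c7 LD2_c21 LD3_c46)) :=
  Lgr Lrot68 (Lpr_ct (K6.f136966 IH) (Lpr_at (K4.f115774 IH) (Lpe (f123538 IH) (Lpn (LP (LK LD1_c7 LD2_c21 LD3_c46))))))
theorem f517808 : Led Lsl_gt (LP (LK LD1_c3 LD2_c44 LD3_c31)) = (LP (LK LD1_c7 LD2_c28 LD3_c9)) :=
  Lgr Lrot46 (Lpe (f13418 IH) (Lpr_ft (f517800 IH) (Lpe (f136993 IH) (Lpn (LP (LK LD1_c7 LD2_c28 LD3_c9))))))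
theorem f488484 : Led Lsl_et (LP (LK LD1_c7 LD2_c30 LD3_c6)) = (LP (LK LD1_c3 LD2_c44 LD3_c31)) :=
  Lre_e IH (LK LD1_c7 LD2_c30 LD3_c6) (LK LD1_c3 LD2_c44 LD3_c31) Lrfl Lrfl
theorem f517815 : Led Lsl_gf (LP (LK LD1_c14 LD2_c10 LD3_c8)) = (LP (LK LD1_c14 LD2_c3 LD3_c6)) :=
  Lgr Lrot134 (Lpe (K42.f488489 IH) (Lpr_et (f488484 IH) (Lpr_gt (f517808 IH) (Lpe (K6.f136965 IH) (Lpe (K7.f147881 IH) (Lpe (K34.f203769 IH) (Lpe (K28.f162776 IH) (Lpr_et (K28.f203690 IH) (Lpr_gt (K34.f471120 IH) (Lpr_dt (K34.f437759 IH) (Lpn (LP (LK LD1_c14 LD2_c3 LD3_c6)))))))))))))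
theorem f488462 : Led Lsl_dt (LP (LK LD1_c14 LD2_c10 LD3_c8)) = (LP (LK LD1_c7 LD2_c30 LD3_c6)) :=
  Lre_d IH (LK LD1_c14 LD2_c10 LD3_c8) (LK LD1_c7 LD2_c30 LD3_c6) Lrfl Lrfl
theorem f488363 : Led Lsl_bt (LP (LK LD1_c13 LD2_c7 LD3_c1)) = (LP (LK LD1_c6 LD2_c54 LD3_c12)) :=
  Lre_b IH (LK LD1_c13 LD2_c7 LD3_c1) (LK LD1_c6 LD2_c54 LD3_c12) Lrfl Lrfl
theorem f488365 : Led Lsl_df (LP (LK LD1_c13 LD2_c7 LD3_c1)) = (LP (LK LD1_c13 LD2_c12 LD3_c42)) :=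
  Lgr Lrot12 (Lpr_bt (f488363 IH) (Lpr_dt (K35.f488361 IH) (Lpr_bt (K42.f488364 IH) (Lpn (LP (LK LD1_c13 LD2_c12 LD3_c42))))))
theorem f476680 : Led Lsl_gf (LP (LK LD1_c13 LD2_c12 LD3_c27)) = (LP (LK LD1_c13 LD2_c53 LD3_c54)) :=
  Lgr Lrot47 (Lpr_gt (K34.f476617 IH) (Lpe (K34.f476650 IH) (Lpr_ff (K41.f476670 IH) (Lpn (LP (LK LD1_c13 LD2_c53 LD3_c54))))))
theorem f476682 : Led Lsl_dt (LP (LK LD1_c13 LD2_c12 LD3_c27)) = (LP (LK LD1_c22 LD2_c26 LD3_c11)) :=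
  Lre_d IH (LK LD1_c13 LD2_c12 LD3_c27) (LK LD1_c22 LD2_c26 LD3_c11) Lrfl Lrfl
theorem f517820 : Led Lsl_gf (LP (LK LD1_c13 LD2_c12 LD3_c42)) = (LP (LK LD1_c22 LD2_c26 LD3_c11)) :=
  Lgr Lrot143 (Lpe (f488365 IH) (Lpr_cf (K42.f488446 IH) (Lpe (f488462 IH) (Lpr_gf (f517815 IH) (Lpe (K34.f437759 IH) (Lpe (K34.f471120 IH) (Lpe (K34.f162800 IH) (Lpe (f476680 IH) (Lpr_dt (f476682 IH) (Lpn (LP (LK LD1_c22 LD2_c26 LD3_c11))))))))))))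
theorem f162814 : Led Lsl_et (LP (LK LD1_c7 LD2_c21 LD3_c1)) = (LP (LK LD1_c13 LD2_c53 LD3_c54)) :=
  Lre_e IH (LK LD1_c7 LD2_c21 LD3_c1) (LK LD1_c13 LD2_c53 LD3_c54) Lrfl Lrfl
theorem f122097 : Led Lsl_et (LP (LK LD1_c6 LD2_c53 LD3_c5)) = (LP (LK LD1_c13 LD2_c5 LD3_c12)) :=
  Lre_e IH (LK LD1_c6 LD2_c53 LD3_c5) (LK LD1_c13 LD2_c5 LD3_c12) Lrfl Lrfl
theorem f517823 : Led Lsl_gt (LP (LK LD1_c6 LD2_c54 LD3_c10)) = (LP (LK LD1_c13 LD2_c5 LD3_c12)) :=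
  Lgr Lrot131 (Lpe (K42.f488444 IH) (Lpr_dt (K42.f488388 IH) (Lpr_gf (f517820 IH) (Lpe (f476682 IH) (Lpr_gf (f476680 IH) (Lpe (f162814 IH) (Lpe (K8.f162781 IH) (Lpe (K7.f151468 IH) (Lpr_df (K7.f151472 IH) (Lpr_et (f122097 IH) (Lpn (LP (LK LD1_c13 LD2_c5 LD3_c12)))))))))))))
theorem f455077 : Led Lsl_bt (LP (LK LD1_c6 LD2_c54 LD3_c10)) = (LP (LK LD1_c3 LD2_c26 LD3_c8)) :=
  Lre_b IH (LK LD1_c6 LD2_c54 LD3_c10) (LK LD1_c3 LD2_c26 LD3_c8) Lrfl Lrfl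
theorem f488429 : Led Lsl_cf (LP (LK LD1_c6 LD2_c54 LD3_c10)) = (LP (LK LD1_c3 LD2_c44 LD3_c31)) :=
  Lgr Lrot97 (Lpr_bt (f455077 IH) (Lpr_ct (K35.f488397 IH) (Lpr_bt (K35.f12865 IH) (Lpr_ct (K34.f451028 IH) (Lpr_bt (f13417 IH) (Lpn (LP (LK LD1_c3 LD2_c44 LD3_c31))))))))
theorem f517734 : Led Lsl_bt (LP (LK LD1_c1 LD2_c47 LD3_c42)) = (LP (LK LD1_c3 LD2_c41 LD3_c35)) :=
  Lre_b IH (LK LD1_c1 LD2_c47 LD3_c42) (LK LD1_c3 LD2_c41 LD3_c35) Lrfl Lrfl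
theorem f122091 : Led Lsl_et (LP (LK LD1_c13 LD2_c5 LD3_c12)) = (LP (LK LD1_c6 LD2_c53 LD3_c5)) :=
  Lre_e IH (LK LD1_c13 LD2_c5 LD3_c12) (LK LD1_c6 LD2_c53 LD3_c5) Lrfl Lrfl
theorem f122111 : Led Lsl_et (LP (LK LD1_c7 LD2_c22 LD3_c42)) = (LP (LK LD1_c13 LD2_c57 LD3_c4)) :=
  Lre_e IH (LK LD1_c7 LD2_c22 LD3_c42) (LK LD1_c13 LD2_c57 LD3_c4) Lrfl Lrfl
theorem f122112 : Led Lsl_cf (LP (LK LD1_c13 LD2_c5 LD3_c12)) = (LP (LK LD1_c13 LD2_c57 LD3_c4)) :=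
  Lgr Lrot39 (Lpr_et (f122091 IH) (Lpr_ct (K4.f122095 IH) (Lpr_et (f122111 IH) (Lpn (LP (LK LD1_c13 LD2_c57 LD3_c4))))))
theorem f122123 : Led Lsl_bt (LP (LK LD1_c13 LD2_c57 LD3_c4)) = (LP (LK LD1_c7 LD2_c22 LD3_c45)) :=
  Lre_b IH (LK LD1_c13 LD2_c57 LD3_c4) (LK LD1_c7 LD2_c22 LD3_c45) Lrfl Lrfl
theorem f517828 : Led Lsl_gf (LP (LK LD1_c3 LD2_c41 LD3_c35)) = (LP (LK LD1_c7 LD2_c22 LD3_c45)) :=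
  Lgr Lrot124 (Lpe (f517734 IH) (Lpe (f517673 IH) (Lpr_gt (f517724 IH) (Lpr_cf (K34.f483464 IH) (Lpe (f517732 IH) (Lpr_gt (f13418 IH) (Lpe (f488429 IH) (Lpr_gt (f517823 IH) (Lpr_cf (f122112 IH) (Lpr_bt (f122123 IH) (Lpn (LP (LK LD1_c7 LD2_c22 LD3_c45)))))))))))))
theorem f517831 : Led Lsl_gt (LP (LK LD1_c3 LD2_c41 LD3_c35)) = (LP (LK LD1_c7 LD2_c23 LD3_c49)) :=
  Lre_g IH (LK LD1_c3 LD2_c41 LD3_c35) (LK LD1_c7 LD2_c23 LD3_c49) Lrfl Lrfl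
theorem f497968 : Led Lsl_ff (LP (LK LD1_c14 LD2_c6 LD3_c36)) = (LP (LK LD1_c11 LD2_c45 LD3_c23)) :=
  Lgr Lrot25 (Lpr_bt (K32.f129188 IH) (Lpr_ft (K32.f497964 IH) (Lpr_bt (K32.f155729 IH) (Lpn (LP (LK LD1_c11 LD2_c45 LD3_c23))))))
theorem f497970 : Led Lsl_ft (LP (LK LD1_c7 LD2_c28 LD3_c30)) = (LP (LK LD1_c7 LD2_c22 LD3_c42)) :=
  Lgr Lrot54 (Lpe (K7.f123639 IH) (Lpr_ff (f497968 IH) (Lpe (K32.f155741 IH) (Lpn (LP (LK LD1_c7 LD2_c22 LD3_c42))))))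
theorem f497972 : Led Lsl_af (LP (LK LD1_c7 LD2_c28 LD3_c51)) = (LP (LK LD1_c7 LD2_c22 LD3_c42)) :=
  Lgr Lrot45 (Lpe (K32.f497856 IH) (Lpr_at (K32.f497860 IH) (Lpr_ft (f497970 IH) (Lpn (LP (LK LD1_c7 LD2_c22 LD3_c42))))))
theorem f420066 : Led Lsl_et (LP (LK LD1_c7 LD2_c28 LD3_c51)) = (LP (LK LD1_c14 LD2_c7 LD3_c19)) :=
  Lre_e IH (LK LD1_c7 LD2_c28 LD3_c51) (LK LD1_c14 LD2_c7 LD3_c19) Lrfl Lrfl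
theorem f122116 : Led Lsl_et (LP (LK LD1_c13 LD2_c57 LD3_c4)) = (LP (LK LD1_c7 LD2_c22 LD3_c42)) :=
  Lre_e IH (LK LD1_c13 LD2_c57 LD3_c4) (LK LD1_c7 LD2_c22 LD3_c42) Lrfl Lrfl
theorem f497976 : Led Lsl_at (LP (LK LD1_c14 LD2_c7 LD3_c19)) = (LP (LK LD1_c13 LD2_c57 LD3_c4)) :=
  Lgr Lrot80 (Lpe (f420066 IH) (Lpr_af (f497972 IH) (Lpe (f122116 IH) (Lpn (LP (LK LD1_c13 LD2_c57 LD3_c4))))))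
theorem f420065 : Led Lsl_bt (LP (LK LD1_c7 LD2_c28 LD3_c52)) = (LP (LK LD1_c14 LD2_c7 LD3_c19)) :=
  Lre_b IH (LK LD1_c7 LD2_c28 LD3_c52) (LK LD1_c14 LD2_c7 LD3_c19) Lrfl Lrfl
theorem f147213 : Led Lsl_et (LP (LK LD1_c7 LD2_c23 LD3_c2)) = (LP (LK LD1_c3 LD2_c41 LD3_c18)) :=
  Lre_e IH (LK LD1_c7 LD2_c23 LD3_c2) (LK LD1_c3 LD2_c41 LD3_c18) Lrfl Lrfl
theorem f497902 : Led Lsl_et (LP (LK LD1_c3 LD2_c44 LD3_c0)) = (LP (LK LD1_c7 LD2_c28 LD3_c52)) :=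
  Lre_e IH (LK LD1_c3 LD2_c44 LD3_c0) (LK LD1_c7 LD2_c28 LD3_c52) Lrfl Lrfl
theorem f497903 : Led Lsl_af (LP (LK LD1_c7 LD2_c23 LD3_c2)) = (LP (LK LD1_c7 LD2_c28 LD3_c52)) :=
  Lgr Lrot50 (Lpr_et (f147213 IH) (Lpr_at (K32.f497898 IH) (Lpr_et (f497902 IH) (Lpn (LP (LK LD1_c7 LD2_c28 LD3_c52))))))
theorem f497907 : Led Lsl_at (LP (LK LD1_c7 LD2_c23 LD3_c2)) = (LP (LK LD1_c7 LD2_c28 LD3_c52)) :=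
  Lgr Lrot100 (Lpr_af (f497903 IH) (Lpn (LP (LK LD1_c7 LD2_c28 LD3_c52))))
theorem f497980 : Led Lsl_af (LP (LK LD1_c7 LD2_c28 LD3_c29)) = (LP (LK LD1_c7 LD2_c22 LD3_c45)) :=
  Lgr Lrot36 (Lpe (K43.f147225 IH) (Lpr_at (f497907 IH) (Lpr_bt (f420065 IH) (Lpr_at (f497976 IH) (Lpr_bt (f122123 IH) (Lpn (LP (LK LD1_c7 LD2_c22 LD3_c45))))))))
theorem f486092 : Led Lsl_gt (LP (LK LD1_c13 LD2_c54 LD3_c55)) = (LP (LK LD1_c7 LD2_c21 LD3_c36)) :=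
  Lre_g IH (LK LD1_c13 LD2_c54 LD3_c55) (LK LD1_c7 LD2_c21 LD3_c36) Lrfl Lrfl
theorem f501784 : Led Lsl_ff (LP (LK LD1_c7 LD2_c22 LD3_c45)) = (LP (LK LD1_c13 LD2_c54 LD3_c55)) :=
  Lgr Lrot52 (Lpe (f497980 IH) (Lpr_gf (K43.f501781 IH) (Lpe (f486092 IH) (Lpn (LP (LK LD1_c13 LD2_c54 LD3_c55))))))
theorem f501794 : Led Lsl_ft (LP (LK LD1_c7 LD2_c22 LD3_c45)) = (LP (LK LD1_c13 LD2_c54 LD3_c55)) :=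
  Lgr Lrot48 (Lpr_ff (f501784 IH) (Lpn (LP (LK LD1_c13 LD2_c54 LD3_c55))))
theorem f517832 : Led Lsl_af (LP (LK LD1_c7 LD2_c23 LD3_c49)) = (LP (LK LD1_c13 LD2_c54 LD3_c55)) :=
  Lgr Lrot31 (Lpe (f517831 IH) (Lpr_gf (f517828 IH) (Lpr_ft (f501794 IH) (Lpn (LP (LK LD1_c13 LD2_c54 LD3_c55))))))
theorem f129486 : Led Lsl_et (LP (LK LD1_c3 LD2_c43 LD3_c54)) = (LP (LK LD1_c7 LD2_c28 LD3_c29)) :=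
  Lre_e IH (LK LD1_c3 LD2_c43 LD3_c54) (LK LD1_c7 LD2_c28 LD3_c29) Lrfl Lrfl
theorem f123836 : Led Lsl_et (LP (LK LD1_c7 LD2_c22 LD3_c45)) = (LP (LK LD1_c3 LD2_c41 LD3_c11)) :=
  Lre_e IH (LK LD1_c7 LD2_c22 LD3_c45) (LK LD1_c3 LD2_c41 LD3_c11) Lrfl Lrfl
theorem f497920 : Led Lsl_at (LP (LK LD1_c7 LD2_c28 LD3_c29)) = (LP (LK LD1_c7 LD2_c22 LD3_c45)) :=
  Lgr Lrot80 (Lpe (f129486 IH) (Lpr_af (K32.f497900 IH) (Lpe (f123836 IH) (Lpn (LP (LK LD1_c7 LD2_c22 LD3_c45))))))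
theorem f517846 : Led Lsl_ft (LP (LK LD1_c7 LD2_c23 LD3_c49)) = (LP (LK LD1_c7 LD2_c28 LD3_c29)) :=
  Lgr Lrot101 (Lpr_af (f517832 IH) (Lpe (f501794 IH) (Lpe (f497920 IH) (Lpn (LP (LK LD1_c7 LD2_c28 LD3_c29))))))
theorem f517855 : Led Lsl_ff (LP (LK LD1_c7 LD2_c23 LD3_c49)) = (LP (LK LD1_c7 LD2_c28 LD3_c29)) :=
  Lgr Lrot3 (Lpr_ft (f517846 IH) (Lpn (LP (LK LD1_c7 LD2_c28 LD3_c29))))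
theorem f517838 : Led Lsl_at (LP (LK LD1_c7 LD2_c23 LD3_c49)) = (LP (LK LD1_c13 LD2_c54 LD3_c55)) :=
  Lgr Lrot100 (Lpr_af (f517832 IH) (Lpn (LP (LK LD1_c13 LD2_c54 LD3_c55))))
theorem f518136 : Led Lsl_gt (LP (LK LD1_c7 LD2_c23 LD3_c50)) = (LP (LK LD1_c13 LD2_c54 LD3_c55)) :=
  Lgr Lrot46 (Lpr_gf (f518134 IH) (Lpe (f517855 IH) (Lpr_at (f517838 IH) (Lpn (LP (LK LD1_c13 LD2_c54 LD3_c55))))))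
theorem f441411 : Led Lsl_bt (LP (LK LD1_c1 LD2_c50 LD3_c11)) = (LP (LK LD1_c3 LD2_c46 LD3_c15)) :=
  Lre_b IH (LK LD1_c1 LD2_c50 LD3_c11) (LK LD1_c3 LD2_c46 LD3_c15) Lrfl Lrfl
theorem f466816 : Led Lsl_gt (LP (LK LD1_c3 LD2_c46 LD3_c15)) = (LP (LK LD1_c7 LD2_c33 LD3_c34)) :=
  Lre_g IH (LK LD1_c3 LD2_c46 LD3_c15) (LK LD1_c7 LD2_c33 LD3_c34) Lrfl Lrfl
theorem f466945 : Led Lsl_bt (LP (LK LD1_c14 LD2_c15 LD3_c22)) = (LP (LK LD1_c7 LD2_c33 LD3_c34)) :=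
  Lre_b IH (LK LD1_c14 LD2_c15 LD3_c22) (LK LD1_c7 LD2_c33 LD3_c34) Lrfl Lrfl
theorem f486108 : Led Lsl_ct (LP (LK LD1_c14 LD2_c15 LD3_c22)) = (LP (LK LD1_c13 LD2_c54 LD3_c55)) :=
  Lgr Lrot64 (Lpr_bt (f466945 IH) (Lpe (f466816 IH) (Lpe (f441411 IH) (Lpr_ct (K29.f441410 IH) (Lpe (K29.f85269 IH) (Lpe (K46.f85260 IH) (Lpe (K29.f85277 IH) (Lpe (K43.f441425 IH) (Lpr_ct (K43.f486088 IH) (Lpe (f486092 IH) (Lpn (LP (LK LD1_c13 LD2_c54 LD3_c55)))))))))))))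
theorem f459575 : Led Lsl_bt (LP (LK LD1_c3 LD2_c46 LD3_c15)) = (LP (LK LD1_c1 LD2_c50 LD3_c11)) :=
  Lre_b IH (LK LD1_c3 LD2_c46 LD3_c15) (LK LD1_c1 LD2_c50 LD3_c11) Lrfl Lrfl
theorem f474687 : Led Lsl_ff (LP (LK LD1_c3 LD2_c46 LD3_c15)) = (LP (LK LD1_c7 LD2_c1 LD3_c10)) :=
  Lgr Lrot25 (Lpr_bt (f459575 IH) (Lpr_ft (K29.f474685 IH) (Lpr_bt (K46.f440746 IH) (Lpn (LP (LK LD1_c7 LD2_c1 LD3_c10))))))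
theorem f466771 : Led Lsl_ct (LP (LK LD1_c1 LD2_c50 LD3_c13)) = (LP (LK LD1_c3 LD2_c46 LD3_c17)) :=
  Lre_c IH (LK LD1_c1 LD2_c50 LD3_c13) (LK LD1_c3 LD2_c46 LD3_c17) Lrfl Lrfl
theorem f466772 : Led Lsl_bt (LP (LK LD1_c3 LD2_c46 LD3_c17)) = (LP (LK LD1_c7 LD2_c33 LD3_c36)) :=
  Lre_b IH (LK LD1_c3 LD2_c46 LD3_c17) (LK LD1_c7 LD2_c33 LD3_c36) Lrfl Lrfl
theorem f466773 : Led Lsl_bt (LP (LK LD1_c7 LD2_c33 LD3_c36)) = (LP (LK LD1_c3 LD2_c46 LD3_c17)) :=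
  Lre_b IH (LK LD1_c7 LD2_c33 LD3_c36) (LK LD1_c3 LD2_c46 LD3_c17) Lrfl Lrfl
theorem f466774 : Led Lsl_ct (LP (LK LD1_c7 LD2_c33 LD3_c36)) = (LP (LK LD1_c7 LD2_c33 LD3_c36)) :=
  Lgr Lrot83 (Lpe (f466772 IH) (Lpe (f466771 IH) (Lpr_bf (K29.f466764 IH) (Lpe (K29.f466766 IH) (Lpe (f466773 IH) (Lpn (LP (LK LD1_c7 LD2_c33 LD3_c36))))))))
theorem f466800 : Led Lsl_et (LP (LK LD1_c3 LD2_c46 LD3_c15)) = (LP (LK LD1_c7 LD2_c33 LD3_c36)) :=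
  Lre_e IH (LK LD1_c3 LD2_c46 LD3_c15) (LK LD1_c7 LD2_c33 LD3_c36) Lrfl Lrfl
theorem f466801 : Led Lsl_et (LP (LK LD1_c7 LD2_c33 LD3_c36)) = (LP (LK LD1_c3 LD2_c46 LD3_c15)) :=
  Lre_e IH (LK LD1_c7 LD2_c33 LD3_c36) (LK LD1_c3 LD2_c46 LD3_c15) Lrfl Lrfl
theorem f466802 : Led Lsl_cf (LP (LK LD1_c3 LD2_c46 LD3_c15)) = (LP (LK LD1_c3 LD2_c46 LD3_c15)) :=
  Lgr Lrot39 (Lpr_et (f466800 IH) (Lpr_ct (f466774 IH) (Lpr_et (f466801 IH) (Lpn (LP (LK LD1_c3 LD2_c46 LD3_c15))))))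
theorem f474650 : Led Lsl_at (LP (LK LD1_c6 LD2_c54 LD3_c16)) = (LP (LK LD1_c7 LD2_c1 LD3_c10)) :=
  Lgr Lrot100 (Lpr_af (K29.f474647 IH) (Lpn (LP (LK LD1_c7 LD2_c1 LD3_c10))))
theorem f474654 : Led Lsl_ct (LP (LK LD1_c7 LD2_c1 LD3_c10)) = (LP (LK LD1_c7 LD2_c1 LD3_c10)) :=
  Lgr Lrot111 (Lpe (f474650 IH) (Lpr_cf (K33.f472859 IH) (Lpr_af (K29.f474647 IH) (Lpn (LP (LK LD1_c7 LD2_c1 LD3_c10))))))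
theorem f474689 : Led Lsl_ft (LP (LK LD1_c3 LD2_c46 LD3_c15)) = (LP (LK LD1_c7 LD2_c1 LD3_c10)) :=
  Lgr Lrot4 (Lpr_cf (f466802 IH) (Lpr_ff (f474687 IH) (Lpe (f474654 IH) (Lpn (LP (LK LD1_c7 LD2_c1 LD3_c10))))))
theorem f474704 : Led Lsl_gt (LP (LK LD1_c7 LD2_c33 LD3_c34)) = (LP (LK LD1_c6 LD2_c54 LD3_c16)) :=
  Lgr Lrot46 (Lpe (f466816 IH) (Lpr_ft (f474689 IH) (Lpe (K29.f474647 IH) (Lpn (LP (LK LD1_c6 LD2_c54 LD3_c16))))))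
theorem f102430 : Led Lsl_bt (LP (LK LD1_c1 LD2_c39 LD3_c45)) = (LP (LK LD1_c3 LD2_c26 LD3_c5)) :=
  Lre_b IH (LK LD1_c1 LD2_c39 LD3_c45) (LK LD1_c3 LD2_c26 LD3_c5) Lrfl Lrfl
theorem f96319 : Led Lsl_gt (LP (LK LD1_c3 LD2_c26 LD3_c5)) = (LP (LK LD1_c6 LD2_c54 LD3_c2)) :=
  Lre_g IH (LK LD1_c3 LD2_c26 LD3_c5) (LK LD1_c6 LD2_c54 LD3_c2) Lrfl Lrfl
theorem f518138 : Led Lsl_cf (LP (LK LD1_c7 LD2_c23 LD3_c50)) = (LP (LK LD1_c6 LD2_c54 LD3_c2)) :=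
  Lgr Lrot125 (Lpr_gt (f518136 IH) (Lpe (f486108 IH) (Lpr_bt (f466945 IH) (Lpr_gt (f474704 IH) (Lpe (K33.f472858 IH) (Lpr_ct (K28.f455082 IH) (Lpr_gt (K29.f441957 IH) (Lpe (K33.f102435 IH) (Lpr_bt (f102430 IH) (Lpr_gt (f96319 IH) (Lpn (LP (LK LD1_c6 LD2_c54 LD3_c2)))))))))))))
theorem f486103 : Led Lsl_at (LP (LK LD1_c13 LD2_c54 LD3_c56)) = (LP (LK LD1_c7 LD2_c21 LD3_c36)) :=
  Lre_a IH (LK LD1_c13 LD2_c54 LD3_c56) (LK LD1_c7 LD2_c21 LD3_c36) Lrfl Lrfl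
theorem f518132 : Led Lsl_ft (LP (LK LD1_c7 LD2_c23 LD3_c50)) = (LP (LK LD1_c13 LD2_c54 LD3_c56)) :=
  Lgr Lrot101 (Lpe (f518119 IH) (Lpr_ff (f518126 IH) (Lpe (f486103 IH) (Lpn (LP (LK LD1_c13 LD2_c54 LD3_c56))))))
theorem f518146 : Led Lsl_ft (LP (LK LD1_c7 LD2_c33 LD3_c15)) = (LP (LK LD1_c6 LD2_c54 LD3_c2)) :=
  Lgr Lrot4 (Lpr_cf (K46.f486097 IH) (Lpe (f518132 IH) (Lpr_cf (f518138 IH) (Lpn (LP (LK LD1_c6 LD2_c54 LD3_c2))))))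
theorem f518154 : Led Lsl_ff (LP (LK LD1_c7 LD2_c33 LD3_c15)) = (LP (LK LD1_c6 LD2_c54 LD3_c2)) :=
  Lgr Lrot3 (Lpr_ft (f518146 IH) (Lpn (LP (LK LD1_c6 LD2_c54 LD3_c2))))
theorem f486120 : Led Lsl_dt (LP (LK LD1_c7 LD2_c33 LD3_c15)) = (LP (LK LD1_c14 LD2_c14 LD3_c49)) :=
  Lre_d IH (LK LD1_c7 LD2_c33 LD3_c15) (LK LD1_c14 LD2_c14 LD3_c49) Lrfl Lrfl
theorem f518144 : Led Lsl_dt (LP (LK LD1_c13 LD2_c6 LD3_c47)) = (LP (LK LD1_c6 LD2_c54 LD3_c2)) :=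
  Lre_d IH (LK LD1_c13 LD2_c6 LD3_c47) (LK LD1_c6 LD2_c54 LD3_c2) Lrfl Lrfl
theorem f518156 : Led Lsl_ft (LP (LK LD1_c14 LD2_c14 LD3_c49)) = (LP (LK LD1_c13 LD2_c6 LD3_c47)) :=
  Lgr Lrot54 (Lpe (f486120 IH) (Lpr_ff (f518154 IH) (Lpe (f518144 IH) (Lpn (LP (LK LD1_c13 LD2_c6 LD3_c47))))))
theorem f516976 : Led Lsl_et (LP (LK LD1_c23 LD2_c50 LD3_c53)) = (LP (LK LD1_c14 LD2_c14 LD3_c49)) :=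
  Lre_e IH (LK LD1_c23 LD2_c50 LD3_c53) (LK LD1_c14 LD2_c14 LD3_c49) Lrfl Lrfl
theorem f516950 : Led Lsl_ft (LP (LK LD1_c31 LD2_c14 LD3_c50)) = (LP (LK LD1_c23 LD2_c50 LD3_c53)) :=
  Lre_f IH (LK LD1_c31 LD2_c14 LD3_c50) (LK LD1_c23 LD2_c50 LD3_c53) Lrfl Lrfl
theorem f518162 : Led Lsl_et (LP (LK LD1_c13 LD2_c6 LD3_c47)) = (LP (LK LD1_c22 LD2_c18 LD3_c7)) :=
  Lre_e IH (LK LD1_c13 LD2_c6 LD3_c47) (LK LD1_c22 LD2_c18 LD3_c7) Lrfl Lrfl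
theorem f518168 : Led Lsl_ft (LP (LK LD1_c22 LD2_c18 LD3_c7)) = (LP (LK LD1_c30 LD2_c24 LD3_c50)) :=
  Lre_f IH (LK LD1_c22 LD2_c18 LD3_c7) (LK LD1_c30 LD2_c24 LD3_c50) Lrfl Lrfl
theorem f518169 : Led Lsl_ef (LP (LK LD1_c31 LD2_c14 LD3_c50)) = (LP (LK LD1_c30 LD2_c24 LD3_c50)) :=
  Lgr Lrot21 (Lpr_ft (f516950 IH) (Lpr_et (f516976 IH) (Lpr_ft (f518156 IH) (Lpr_et (f518162 IH) (Lpr_ft (f518168 IH) (Lpn (LP (LK LD1_c30 LD2_c24 LD3_c50))))))))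
theorem f518173 : Led Lsl_et (LP (LK LD1_c31 LD2_c14 LD3_c50)) = (LP (LK LD1_c30 LD2_c24 LD3_c50)) :=
  Lgr Lrot87 (Lpr_ef (f518169 IH) (Lpn (LP (LK LD1_c30 LD2_c24 LD3_c50))))
theorem f516993 : Led Lsl_at (LP (LK LD1_c23 LD2_c50 LD3_c59)) = (LP (LK LD1_c31 LD2_c14 LD3_c50)) :=
  Lre_a IH (LK LD1_c23 LD2_c50 LD3_c59) (LK LD1_c31 LD2_c14 LD3_c50) Lrfl Lrfl
theorem f516929 : Led Lsl_bt (LP (LK LD1_c23 LD2_c50 LD3_c59)) = (LP (LK LD1_c14 LD2_c14 LD3_c60)) :=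
  Lre_b IH (LK LD1_c23 LD2_c50 LD3_c59) (LK LD1_c14 LD2_c14 LD3_c60) Lrfl Lrfl
theorem f104001 : Led Lsl_bt (LP (LK LD1_c22 LD2_c34 LD3_c45)) = (LP (LK LD1_c30 LD2_c35 LD3_c21)) :=
  Lre_b IH (LK LD1_c22 LD2_c34 LD3_c45) (LK LD1_c30 LD2_c35 LD3_c21) Lrfl Lrfl
theorem f518018 : Led Lsl_ef (LP (LK LD1_c23 LD2_c50 LD3_c59)) = (LP (LK LD1_c30 LD2_c35 LD3_c21)) :=
  Lgr Lrot29 (Lpr_bt (f516929 IH) (Lpr_et (f518014 IH) (Lpr_bt (f104001 IH) (Lpn (LP (LK LD1_c30 LD2_c35 LD3_c21))))))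
theorem f518175 : Led Lsl_af (LP (LK LD1_c30 LD2_c35 LD3_c21)) = (LP (LK LD1_c30 LD2_c24 LD3_c50)) :=
  Lgr Lrot50 (Lpe (f518018 IH) (Lpr_at (f516993 IH) (Lpr_et (f518173 IH) (Lpn (LP (LK LD1_c30 LD2_c24 LD3_c50))))))
theorem f518181 : Led Lsl_at (LP (LK LD1_c22 LD2_c34 LD3_c40)) = (LP (LK LD1_c22 LD2_c18 LD3_c7)) :=
  Lgr Lrot66 (Lpe (f104023 IH) (Lpr_af (f518175 IH) (Lpe (f518168 IH) (Lpn (LP (LK LD1_c22 LD2_c18 LD3_c7))))))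
theorem f104015 : Led Lsl_ct (LP (LK LD1_c30 LD2_c35 LD3_c19)) = (LP (LK LD1_c22 LD2_c34 LD3_c40)) :=
  Lre_c IH (LK LD1_c30 LD2_c35 LD3_c19) (LK LD1_c22 LD2_c34 LD3_c40) Lrfl Lrfl
theorem f518190 : Led Lsl_ct (LP (LK LD1_c22 LD2_c18 LD3_c7)) = (LP (LK LD1_c30 LD2_c24 LD3_c47)) :=
  Lre_c IH (LK LD1_c22 LD2_c18 LD3_c7) (LK LD1_c30 LD2_c24 LD3_c47) Lrfl Lrfl
theorem f518191 : Led Lsl_af (LP (LK LD1_c30 LD2_c35 LD3_c19)) = (LP (LK LD1_c30 LD2_c24 LD3_c47)) :=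
  Lgr Lrot68 (Lpr_ct (f104015 IH) (Lpr_at (f518181 IH) (Lpr_ct (f518190 IH) (Lpn (LP (LK LD1_c30 LD2_c24 LD3_c47))))))
theorem f518048 : Led Lsl_et (LP (LK LD1_c30 LD2_c35 LD3_c19)) = (LP (LK LD1_c22 LD2_c34 LD3_c39)) :=
  Lre_e IH (LK LD1_c30 LD2_c35 LD3_c19) (LK LD1_c22 LD2_c34 LD3_c39) Lrfl Lrfl
theorem f518198 : Led Lsl_et (LP (LK LD1_c22 LD2_c18 LD3_c6)) = (LP (LK LD1_c30 LD2_c24 LD3_c47)) :=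
  Lre_e IH (LK LD1_c22 LD2_c18 LD3_c6) (LK LD1_c30 LD2_c24 LD3_c47) Lrfl Lrfl
theorem f518199 : Led Lsl_at (LP (LK LD1_c22 LD2_c34 LD3_c39)) = (LP (LK LD1_c22 LD2_c18 LD3_c6)) :=
  Lgr Lrot80 (Lpe (f518048 IH) (Lpr_af (f518191 IH) (Lpe (f518198 IH) (Lpn (LP (LK LD1_c22 LD2_c18 LD3_c6))))))
theorem f518201 : Led Lsl_af (LP (LK LD1_c22 LD2_c34 LD3_c39)) = (LP (LK LD1_c22 LD2_c18 LD3_c6)) :=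
  Lgr Lrot0 (Lpr_at (f518199 IH) (Lpn (LP (LK LD1_c22 LD2_c18 LD3_c6))))
theorem f464158 : Led Lsl_ct (LP (LK LD1_c22 LD2_c34 LD3_c39)) = (LP (LK LD1_c13 LD2_c18 LD3_c38)) :=
  Lre_c IH (LK LD1_c22 LD2_c34 LD3_c39) (LK LD1_c13 LD2_c18 LD3_c38) Lrfl Lrfl
theorem f455087 : Led Lsl_ct (LP (LK LD1_c13 LD2_c6 LD3_c47)) = (LP (LK LD1_c22 LD2_c18 LD3_c6)) :=
  Lre_c IH (LK LD1_c13 LD2_c6 LD3_c47) (LK LD1_c22 LD2_c18 LD3_c6) Lrfl Lrfl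
theorem f518203 : Led Lsl_at (LP (LK LD1_c13 LD2_c18 LD3_c38)) = (LP (LK LD1_c13 LD2_c6 LD3_c47)) :=
  Lgr Lrot107 (Lpe (f464158 IH) (Lpr_af (f518201 IH) (Lpe (f455087 IH) (Lpn (LP (LK LD1_c13 LD2_c6 LD3_c47))))))
theorem f474572 : Led Lsl_bt (LP (LK LD1_c7 LD2_c1 LD3_c1)) = (LP (LK LD1_c13 LD2_c18 LD3_c38)) :=
  Lre_b IH (LK LD1_c7 LD2_c1 LD3_c1) (LK LD1_c13 LD2_c18 LD3_c38) Lrfl Lrfl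
theorem f516765 : Led Lsl_at (LP (LK LD1_c3 LD2_c46 LD3_c6)) = (LP (LK LD1_c7 LD2_c1 LD3_c1)) :=
  Lgr Lrot107 (Lpe (K29.f474422 IH) (Lpr_af (K33.f516747 IH) (Lpe (K29.f464155 IH) (Lpn (LP (LK LD1_c7 LD2_c1 LD3_c1))))))
theorem f466952 : Led Lsl_bt (LP (LK LD1_c7 LD2_c33 LD3_c9)) = (LP (LK LD1_c3 LD2_c46 LD3_c6)) :=
  Lre_b IH (LK LD1_c7 LD2_c33 LD3_c9) (LK LD1_c3 LD2_c46 LD3_c6) Lrfl Lrfl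
theorem f518209 : Led Lsl_at (LP (LK LD1_c14 LD2_c14 LD3_c35)) = (LP (LK LD1_c7 LD2_c33 LD3_c9)) :=
  Lre_a IH (LK LD1_c14 LD2_c14 LD3_c35) (LK LD1_c7 LD2_c33 LD3_c9) Lrfl Lrfl
theorem f518210 : Led Lsl_bf (LP (LK LD1_c14 LD2_c14 LD3_c35)) = (LP (LK LD1_c13 LD2_c6 LD3_c47)) :=
  Lgr Lrot81 (Lpr_at (f518209 IH) (Lpr_bt (f466952 IH) (Lpr_at (f516765 IH) (Lpr_bt (f474572 IH) (Lpr_at (f518203 IH) (Lpn (LP (LK LD1_c13 LD2_c6 LD3_c47))))))))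
theorem f516930 : Led Lsl_at (LP (LK LD1_c31 LD2_c14 LD3_c50)) = (LP (LK LD1_c23 LD2_c50 LD3_c59)) :=
  Lre_a IH (LK LD1_c31 LD2_c14 LD3_c50) (LK LD1_c23 LD2_c50 LD3_c59) Lrfl Lrfl
theorem f472430 : Led Lsl_bt (LP (LK LD1_c22 LD2_c34 LD3_c59)) = (LP (LK LD1_c30 LD2_c35 LD3_c30)) :=
  Lre_b IH (LK LD1_c22 LD2_c34 LD3_c59) (LK LD1_c30 LD2_c35 LD3_c30) Lrfl Lrfl
theorem f472468 : Led Lsl_at (LP (LK LD1_c30 LD2_c35 LD3_c30)) = (LP (LK LD1_c32 LD2_c53 LD3_c31)) :=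
  Lre_a IH (LK LD1_c30 LD2_c35 LD3_c30) (LK LD1_c32 LD2_c53 LD3_c31) Lrfl Lrfl
theorem f516931 : Led Lsl_bf (LP (LK LD1_c31 LD2_c14 LD3_c50)) = (LP (LK LD1_c32 LD2_c53 LD3_c31)) :=
  Lgr Lrot81 (Lpr_at (f516930 IH) (Lpr_bt (f516929 IH) (Lpr_at (f516922 IH) (Lpr_bt (f472430 IH) (Lpr_at (f472468 IH) (Lpn (LP (LK LD1_c32 LD2_c53 LD3_c31))))))))
theorem f516951 : Led Lsl_ft (LP (LK LD1_c30 LD2_c35 LD3_c24)) = (LP (LK LD1_c32 LD2_c53 LD3_c31)) :=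
  Lre_f IH (LK LD1_c30 LD2_c35 LD3_c24) (LK LD1_c32 LD2_c53 LD3_c31) Lrfl Lrfl
theorem f516952 : Led Lsl_bt (LP (LK LD1_c23 LD2_c50 LD3_c53)) = (LP (LK LD1_c30 LD2_c35 LD3_c24)) :=
  Lgr Lrot35 (Lpe (f516950 IH) (Lpr_bf (f516931 IH) (Lpe (f516951 IH) (Lpn (LP (LK LD1_c30 LD2_c35 LD3_c24))))))
theorem f516963 : Led Lsl_et (LP (LK LD1_c14 LD2_c14 LD3_c49)) = (LP (LK LD1_c23 LD2_c50 LD3_c53)) :=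
  Lre_e IH (LK LD1_c14 LD2_c14 LD3_c49) (LK LD1_c23 LD2_c50 LD3_c53) Lrfl Lrfl
theorem f516964 : Led Lsl_et (LP (LK LD1_c30 LD2_c35 LD3_c24)) = (LP (LK LD1_c22 LD2_c34 LD3_c47)) :=
  Lre_e IH (LK LD1_c30 LD2_c35 LD3_c24) (LK LD1_c22 LD2_c34 LD3_c47) Lrfl Lrfl
theorem f516965 : Led Lsl_bf (LP (LK LD1_c14 LD2_c14 LD3_c49)) = (LP (LK LD1_c22 LD2_c34 LD3_c47)) :=
  Lgr Lrot96 (Lpr_et (f516963 IH) (Lpr_bt (f516952 IH) (Lpr_et (f516964 IH) (Lpn (LP (LK LD1_c22 LD2_c34 LD3_c47))))))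
theorem f518219 : Led Lsl_ft (LP (LK LD1_c14 LD2_c14 LD3_c35)) = (LP (LK LD1_c22 LD2_c34 LD3_c47)) :=
  Lgr Lrot75 (Lpr_bf (f518210 IH) (Lpe (f518156 IH) (Lpr_bf (f516965 IH) (Lpn (LP (LK LD1_c22 LD2_c34 LD3_c47))))))
theorem f88127 : Led Lsl_dt (LP (LK LD1_c7 LD2_c33 LD3_c8)) = (LP (LK LD1_c14 LD2_c14 LD3_c35)) :=
  Lre_d IH (LK LD1_c7 LD2_c33 LD3_c8) (LK LD1_c14 LD2_c14 LD3_c35) Lrfl Lrfl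
theorem f482997 : Led Lsl_dt (LP (LK LD1_c22 LD2_c34 LD3_c47)) = (LP (LK LD1_c13 LD2_c18 LD3_c43)) :=
  Lre_d IH (LK LD1_c22 LD2_c34 LD3_c47) (LK LD1_c13 LD2_c18 LD3_c43) Lrfl Lrfl
theorem f518226 : Led Lsl_ff (LP (LK LD1_c7 LD2_c33 LD3_c8)) = (LP (LK LD1_c13 LD2_c18 LD3_c43)) :=
  Lgr Lrot19 (Lpr_dt (f88127 IH) (Lpr_ft (f518219 IH) (Lpr_dt (f482997 IH) (Lpn (LP (LK LD1_c13 LD2_c18 LD3_c43))))))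
theorem f599319 : Led Lsl_gf (LP (LK LD1_c7 LD2_c31 LD3_c58)) = (LP (LK LD1_c13 LD2_c18 LD3_c43)) :=
  Lgr Lrot47 (Lpr_gt (f599317 IH) (Lpe (f483276 IH) (Lpr_ff (f518226 IH) (Lpn (LP (LK LD1_c13 LD2_c18 LD3_c43))))))
theorem f308447 : Led Lsl_at (LP (LK LD1_c8 LD2_c38 LD3_c9)) = (LP (LK LD1_c5 LD2_c6 LD3_c47)) :=
  Lgr Lrot100 (Lpr_af (K43.f308347 IH) (Lpn (LP (LK LD1_c5 LD2_c6 LD3_c47))))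
theorem f424477 : Led Lsl_dt (LP (LK LD1_c5 LD2_c6 LD3_c47)) = (LP (LK LD1_c6 LD2_c15 LD3_c5)) :=
  Lgr Lrot42 (Lpr_df (K37.f424472 IH) (Lpn (LP (LK LD1_c6 LD2_c15 LD3_c5))))
theorem f567411 : Led Lsl_at (LP (LK LD1_c6 LD2_c15 LD3_c5)) = (LP (LK LD1_c7 LD2_c19 LD3_c6)) :=
  Lgr Lrot51 (Lpe (f424477 IH) (Lpe (f308447 IH) (Lpr_df (K43.f567407 IH) (Lpn (LP (LK LD1_c7 LD2_c19 LD3_c6))))))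
theorem f147307 : Led Lsl_ct (LP (LK LD1_c7 LD2_c19 LD3_c6)) = (LP (LK LD1_c7 LD2_c23 LD3_c2)) :=
  Lgr Lrot59 (Lpr_cf (K43.f147260 IH) (Lpn (LP (LK LD1_c7 LD2_c23 LD3_c2))))
theorem f567477 : Led Lsl_cf (LP (LK LD1_c6 LD2_c15 LD3_c5)) = (LP (LK LD1_c7 LD2_c28 LD3_c52)) :=
  Lgr Lrot1 (Lpr_at (f567411 IH) (Lpr_ct (f147307 IH) (Lpr_at (f497907 IH) (Lpn (LP (LK LD1_c7 LD2_c28 LD3_c52))))))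
theorem f424497 : Led Lsl_bt (LP (LK LD1_c6 LD2_c15 LD3_c5)) = (LP (LK LD1_c12 LD2_c8 LD3_c28)) :=
  Lre_b IH (LK LD1_c6 LD2_c15 LD3_c5) (LK LD1_c12 LD2_c8 LD3_c28) Lrfl Lrfl
theorem f419816 : Led Lsl_bt (LP (LK LD1_c14 LD2_c7 LD3_c19)) = (LP (LK LD1_c7 LD2_c28 LD3_c52)) :=
  Lre_b IH (LK LD1_c14 LD2_c7 LD3_c19) (LK LD1_c7 LD2_c28 LD3_c52) Lrfl Lrfl
theorem f419787 : Led Lsl_et (LP (LK LD1_c14 LD2_c7 LD3_c19)) = (LP (LK LD1_c7 LD2_c28 LD3_c51)) :=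
  Lre_e IH (LK LD1_c14 LD2_c7 LD3_c19) (LK LD1_c7 LD2_c28 LD3_c51) Lrfl Lrfl
theorem f419788 : Led Lsl_et (LP (LK LD1_c7 LD2_c22 LD3_c10)) = (LP (LK LD1_c13 LD2_c56 LD3_c12)) :=
  Lre_e IH (LK LD1_c7 LD2_c22 LD3_c10) (LK LD1_c13 LD2_c56 LD3_c12) Lrfl Lrfl
theorem f419789 : Led Lsl_cf (LP (LK LD1_c14 LD2_c7 LD3_c19)) = (LP (LK LD1_c13 LD2_c56 LD3_c12)) :=
  Lgr Lrot39 (Lpr_et (f419787 IH) (Lpr_ct (K32.f419780 IH) (Lpr_et (f419788 IH) (Lpn (LP (LK LD1_c13 LD2_c56 LD3_c12))))))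
theorem f419782 : Led Lsl_et (LP (LK LD1_c13 LD2_c56 LD3_c12)) = (LP (LK LD1_c7 LD2_c22 LD3_c10)) :=
  Lre_e IH (LK LD1_c13 LD2_c56 LD3_c12) (LK LD1_c7 LD2_c22 LD3_c10) Lrfl Lrfl
theorem f419807 : Led Lsl_bf (LP (LK LD1_c13 LD2_c56 LD3_c12)) = (LP (LK LD1_c7 LD2_c31 LD3_c58)) :=
  Lgr Lrot96 (Lpr_et (f419782 IH) (Lpr_bt (K32.f419799 IH) (Lpr_et (f419806 IH) (Lpn (LP (LK LD1_c7 LD2_c31 LD3_c58))))))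
theorem f567479 : Led Lsl_ct (LP (LK LD1_c12 LD2_c8 LD3_c28)) = (LP (LK LD1_c7 LD2_c31 LD3_c58)) :=
  Lgr Lrot83 (Lpe (f424497 IH) (Lpr_cf (f567477 IH) (Lpe (f419816 IH) (Lpr_cf (f419789 IH) (Lpr_bf (f419807 IH) (Lpn (LP (LK LD1_c7 LD2_c31 LD3_c58))))))))
theorem f424483 : Led Lsl_gt (LP (LK LD1_c6 LD2_c15 LD3_c5)) = (LP (LK LD1_c12 LD2_c8 LD3_c29)) :=
  Lre_g IH (LK LD1_c6 LD2_c15 LD3_c5) (LK LD1_c12 LD2_c8 LD3_c29) Lrfl Lrfl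
theorem f608926 : Led Lsl_cf (LP (LK LD1_c7 LD2_c24 LD3_c17)) = (LP (LK LD1_c12 LD2_c8 LD3_c29)) :=
  Lgr Lrot125 (Lpe (K46.f526712 IH) (Lpr_cf (K46.f5357 IH) (Lpe (K46.f5372 IH) (Lpe (K46.f608892 IH) (Lpr_bf (K46.f608922 IH) (Lpe (K46.f482977 IH) (Lpe (f599319 IH) (Lpe (f567479 IH) (Lpr_bt (K43.f424474 IH) (Lpr_gt (f424483 IH) (Lpn (LP (LK LD1_c12 LD2_c8 LD3_c29)))))))))))))
theorem f4389 : Led Lsl_ct (LP (LK LD1_c3 LD2_c38 LD3_c22)) = (LP (LK LD1_c1 LD2_c46 LD3_c9)) :=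
  Lre_c IH (LK LD1_c3 LD2_c38 LD3_c22) (LK LD1_c1 LD2_c46 LD3_c9) Lrfl Lrfl
theorem f456459 : Led Lsl_bt (LP (LK LD1_c7 LD2_c17 LD3_c3)) = (LP (LK LD1_c3 LD2_c38 LD3_c22)) :=
  Lre_b IH (LK LD1_c7 LD2_c17 LD3_c3) (LK LD1_c3 LD2_c38 LD3_c22) Lrfl Lrfl
theorem f456460 : Led Lsl_ct (LP (LK LD1_c3 LD2_c41 LD3_c38)) = (LP (LK LD1_c7 LD2_c17 LD3_c3)) :=
  Lgr Lrot83 (Lpe (K34.f456458 IH) (Lpr_cf (K24.f456456 IH) (Lpe (K33.f92486 IH) (Lpe (f4389 IH) (Lpe (f456459 IH) (Lpn (LP (LK LD1_c7 LD2_c17 LD3_c3))))))))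
theorem f608900 : Led Lsl_ct (LP (LK LD1_c13 LD2_c38 LD3_c9)) = (LP (LK LD1_c7 LD2_c23 LD3_c58)) :=
  Lgr Lrot111 (Lpr_af (K46.f608894 IH) (Lpe (f456460 IH) (Lpe (K46.f456549 IH) (Lpn (LP (LK LD1_c7 LD2_c23 LD3_c58))))))
theorem f517479 : Led Lsl_ft (LP (LK LD1_c7 LD2_c18 LD3_c4)) = (LP (LK LD1_c3 LD2_c41 LD3_c38)) :=
  Lgr Lrot4 (Lpe (K46.f456436 IH) (Lpr_ff (K34.f517477 IH) (Lpe (f456460 IH) (Lpn (LP (LK LD1_c3 LD2_c41 LD3_c38))))))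
theorem f456544 : Led Lsl_at (LP (LK LD1_c3 LD2_c41 LD3_c38)) = (LP (LK LD1_c7 LD2_c23 LD3_c58)) :=
  Lre_a IH (LK LD1_c3 LD2_c41 LD3_c38) (LK LD1_c7 LD2_c23 LD3_c58) Lrfl Lrfl
theorem f518611 : Led Lsl_gt (LP (LK LD1_c13 LD2_c48 LD3_c58)) = (LP (LK LD1_c7 LD2_c23 LD3_c58)) :=
  Lgr Lrot46 (Lpe (K46.f467981 IH) (Lpr_ft (f517479 IH) (Lpr_at (f456544 IH) (Lpn (LP (LK LD1_c7 LD2_c23 LD3_c58))))))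
theorem f608746 : Led Lsl_gt (LP (LK LD1_c7 LD2_c23 LD3_c58)) = (LP (LK LD1_c7 LD2_c28 LD3_c53)) :=
  Lgr Lrot46 (Lpe (f518611 IH) (Lpr_ft (K46.f608740 IH) (Lpr_at (K46.f497888 IH) (Lpn (LP (LK LD1_c7 LD2_c28 LD3_c53))))))
theorem f4375 : Led Lsl_bt (LP (LK LD1_c3 LD2_c38 LD3_c38)) = (LP (LK LD1_c1 LD2_c46 LD3_c17)) :=
  Lre_b IH (LK LD1_c3 LD2_c38 LD3_c38) (LK LD1_c1 LD2_c46 LD3_c17) Lrfl Lrfl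
theorem f523828 : Led Lsl_ff (LP (LK LD1_c3 LD2_c38 LD3_c38)) = (LP (LK LD1_c7 LD2_c16 LD3_c56)) :=
  Lgr Lrot25 (Lpr_bt (f4375 IH) (Lpr_ft (K34.f522577 IH) (Lpq (K34.f523823 IH) (Lpr_bt (K46.f483035 IH) (Lpn (LP (LK LD1_c7 LD2_c16 LD3_c56)))))))
theorem f522574 : Led Lsl_at (LP (LK LD1_c3 LD2_c38 LD3_c38)) = (LP (LK LD1_c7 LD2_c17 LD3_c37)) :=
  Lre_a IH (LK LD1_c3 LD2_c38 LD3_c38) (LK LD1_c7 LD2_c17 LD3_c37) Lrfl Lrfl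
theorem f600944 : Led Lsl_gt (LP (LK LD1_c7 LD2_c18 LD3_c54)) = (LP (LK LD1_c7 LD2_c17 LD3_c37)) :=
  Lgr Lrot46 (Lpr_gf (K46.f600940 IH) (Lpe (f523828 IH) (Lpr_at (f522574 IH) (Lpn (LP (LK LD1_c7 LD2_c17 LD3_c37))))))
theorem f608936 : Led Lsl_bf (LP (LK LD1_c7 LD2_c17 LD3_c37)) = (LP (LK LD1_c12 LD2_c8 LD3_c29)) :=
  Lgr Lrot34 (Lpe (f600944 IH) (Lpe (K46.f608706 IH) (Lpr_ct (K46.f608716 IH) (Lpe (f608746 IH) (Lpe (f608900 IH) (Lpr_gf (K46.f608892 IH) (Lpr_bf (K46.f5372 IH) (Lpe (K46.f5357 IH) (Lpr_gf (K46.f526712 IH) (Lpr_cf (f608926 IH) (Lpn (LP (LK LD1_c12 LD2_c8 LD3_c29)))))))))))))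
theorem f526510 : Led Lsl_et (LP (LK LD1_c7 LD2_c17 LD3_c37)) = (LP (LK LD1_c13 LD2_c47 LD3_c52)) :=
  Lre_e IH (LK LD1_c7 LD2_c17 LD3_c37) (LK LD1_c13 LD2_c47 LD3_c52) Lrfl Lrfl
theorem f424510 : Led Lsl_et (LP (LK LD1_c21 LD2_c14 LD3_c48)) = (LP (LK LD1_c12 LD2_c8 LD3_c29)) :=
  Lre_e IH (LK LD1_c21 LD2_c14 LD3_c48) (LK LD1_c12 LD2_c8 LD3_c29) Lrfl Lrfl
theorem f608942 : Led Lsl_bt (LP (LK LD1_c13 LD2_c47 LD3_c52)) = (LP (LK LD1_c21 LD2_c14 LD3_c48)) :=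
  Lgr Lrot119 (Lpe (f526510 IH) (Lpr_bf (f608936 IH) (Lpe (f424510 IH) (Lpn (LP (LK LD1_c21 LD2_c14 LD3_c48))))))
theorem f608946 : Led Lsl_bf (LP (LK LD1_c13 LD2_c47 LD3_c52)) = (LP (LK LD1_c21 LD2_c14 LD3_c48)) :=
  Lgr Lrot24 (Lpr_bt (f608942 IH) (Lpn (LP (LK LD1_c21 LD2_c14 LD3_c48))))
theorem f442077 : Led Lsl_at (LP (LK LD1_c13 LD2_c47 LD3_c52)) = (LP (LK LD1_c7 LD2_c17 LD3_c39)) :=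
  Lre_a IH (LK LD1_c13 LD2_c47 LD3_c52) (LK LD1_c7 LD2_c17 LD3_c39) Lrfl Lrfl
theorem f442000 : Led Lsl_bt (LP (LK LD1_c7 LD2_c17 LD3_c39)) = (LP (LK LD1_c3 LD2_c38 LD3_c40)) :=
  Lre_b IH (LK LD1_c7 LD2_c17 LD3_c39) (LK LD1_c3 LD2_c38 LD3_c40) Lrfl Lrfl
theorem f608948 : Led Lsl_at (LP (LK LD1_c13 LD2_c43 LD3_c0)) = (LP (LK LD1_c21 LD2_c14 LD3_c48)) :=
  Lgr Lrot67 (Lpe (K43.f92579 IH) (Lpe (K45.f526100 IH) (Lpe (f442000 IH) (Lpe (f442077 IH) (Lpr_bf (f608946 IH) (Lpn (LP (LK LD1_c21 LD2_c14 LD3_c48))))))))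
theorem f608955 : Led Lsl_af (LP (LK LD1_c7 LD2_c16 LD3_c54)) = (LP (LK LD1_c12 LD2_c8 LD3_c29)) :=
  Lgr Lrot50 (Lpr_et (K43.f92537 IH) (Lpr_at (f608948 IH) (Lpr_et (f424510 IH) (Lpn (LP (LK LD1_c12 LD2_c8 LD3_c29))))))
theorem f493739 : Led Lsl_ct (LP (LK LD1_c13 LD2_c48 LD3_c8)) = (LP (LK LD1_c7 LD2_c17 LD3_c44)) :=
  Lre_c IH (LK LD1_c13 LD2_c48 LD3_c8) (LK LD1_c7 LD2_c17 LD3_c44) Lrfl Lrfl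
theorem f608934 : Led Lsl_ft (LP (LK LD1_c7 LD2_c17 LD3_c44)) = (LP (LK LD1_c12 LD2_c8 LD3_c29)) :=
  Lgr Lrot4 (Lpe (f493739 IH) (Lpr_ff (K46.f525491 IH) (Lpr_cf (f608926 IH) (Lpn (LP (LK LD1_c12 LD2_c8 LD3_c29))))))
theorem f608959 : Led Lsl_gf (LP (LK LD1_c7 LD2_c19 LD3_c6)) = (LP (LK LD1_c7 LD2_c17 LD3_c44)) :=
  Lgr Lrot47 (Lpr_gt (K43.f501786 IH) (Lpr_af (f608955 IH) (Lpe (f608934 IH) (Lpn (LP (LK LD1_c7 LD2_c17 LD3_c44))))))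
theorem f608961 : Led Lsl_gt (LP (LK LD1_c12 LD2_c8 LD3_c30)) = (LP (LK LD1_c7 LD2_c17 LD3_c44)) :=
  Lgr Lrot5 (Lpr_ft (K41.f424479 IH) (Lpr_at (f567411 IH) (Lpr_gf (f608959 IH) (Lpn (LP (LK LD1_c7 LD2_c17 LD3_c44))))))
theorem f522582 : Led Lsl_at (LP (LK LD1_c3 LD2_c38 LD3_c41)) = (LP (LK LD1_c7 LD2_c17 LD3_c44)) :=
  Lre_a IH (LK LD1_c3 LD2_c38 LD3_c41) (LK LD1_c7 LD2_c17 LD3_c44) Lrfl Lrfl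
theorem f523854 : Led Lsl_ff (LP (LK LD1_c3 LD2_c38 LD3_c41)) = (LP (LK LD1_c7 LD2_c16 LD3_c54)) :=
  Lgr Lrot25 (Lpr_bt (K35.f5292 IH) (Lpr_ft (K34.f522575 IH) (Lpqs (K34.f523849 IH) (Lpr_bt (K35.f92535 IH) (Lpn (LP (LK LD1_c7 LD2_c16 LD3_c54)))))))
theorem f609143 : Led Lsl_gf (LP (LK LD1_c12 LD2_c8 LD3_c30)) = (LP (LK LD1_c7 LD2_c16 LD3_c54)) :=
  Lgr Lrot47 (Lpr_gt (f608961 IH) (Lpe (f522582 IH) (Lpr_ff (f523854 IH) (Lpn (LP (LK LD1_c7 LD2_c16 LD3_c54))))))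
theorem f205354 : Led Lsl_gt (LP (LK LD1_c5 LD2_c13 LD3_c1)) = (LP (LK LD1_c10 LD2_c16 LD3_c21)) :=
  Lre_g IH (LK LD1_c5 LD2_c13 LD3_c1) (LK LD1_c10 LD2_c16 LD3_c21) Lrfl Lrfl
theorem f303817 : Led Lsl_gt (LP (LK LD1_c10 LD2_c16 LD3_c21)) = (LP (LK LD1_c16 LD2_c11 LD3_c50)) :=
  Lgr Lrot46 (Lpe (f205354 IH) (Lpr_ft (K32.f205350 IH) (Lpr_at (K32.f303803 IH) (Lpn (LP (LK LD1_c16 LD2_c11 LD3_c50))))))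
theorem f239508 : Led Lsl_et (LP (LK LD1_c18 LD2_c41 LD3_c1)) = (LP (LK LD1_c10 LD2_c16 LD3_c21)) :=
  Lre_e IH (LK LD1_c18 LD2_c41 LD3_c1) (LK LD1_c10 LD2_c16 LD3_c21) Lrfl Lrfl
theorem f227334 : Led Lsl_et (LP (LK LD1_c8 LD2_c3 LD3_c16)) = (LP (LK LD1_c15 LD2_c9 LD3_c53)) :=
  Lre_e IH (LK LD1_c8 LD2_c3 LD3_c16) (LK LD1_c15 LD2_c9 LD3_c53) Lrfl Lrfl
theorem f53289 : Led Lsl_et (LP (LK LD1_c8 LD2_c23 LD3_c58)) = (LP (LK LD1_c4 LD2_c12 LD3_c9)) :=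
  Lre_e IH (LK LD1_c8 LD2_c23 LD3_c58) (LK LD1_c4 LD2_c12 LD3_c9) Lrfl Lrfl
theorem f241153 : Led Lsl_dt (LP (LK LD1_c15 LD2_c9 LD3_c53)) = (LP (LK LD1_c8 LD2_c23 LD3_c58)) :=
  Lgr Lrot77 (Lpe (f227334 IH) (Lpe (K12.f227319 IH) (Lpr_ef (K32.f241081 IH) (Lpe (K13.f53244 IH) (Lpe (f53289 IH) (Lpn (LP (LK LD1_c8 LD2_c23 LD3_c58))))))))
theorem f241156 : Led Lsl_df (LP (LK LD1_c15 LD2_c9 LD3_c53)) = (LP (LK LD1_c8 LD2_c23 LD3_c58)) :=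
  Lgr Lrot38 (Lpr_dt (f241153 IH) (Lpn (LP (LK LD1_c8 LD2_c23 LD3_c58))))
theorem f241158 : Led Lsl_gt (LP (LK LD1_c24 LD2_c58 LD3_c57)) = (LP (LK LD1_c15 LD2_c9 LD3_c53)) :=
  Lre_g IH (LK LD1_c24 LD2_c58 LD3_c57) (LK LD1_c15 LD2_c9 LD3_c53) Lrfl Lrfl
theorem f205373 : Led Lsl_et (LP (LK LD1_c2 LD2_c33 LD3_c22)) = (LP (LK LD1_c5 LD2_c13 LD3_c1)) :=
  Lre_e IH (LK LD1_c2 LD2_c33 LD3_c22) (LK LD1_c5 LD2_c13 LD3_c1) Lrfl Lrfl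
theorem f241162 : Led Lsl_df (LP (LK LD1_c24 LD2_c58 LD3_c57)) = (LP (LK LD1_c18 LD2_c41 LD3_c1)) :=
  Lgr Lrot170 (Lpr_gt (f241158 IH) (Lpr_df (f241156 IH) (Lpr_et (f53289 IH) (Lpe (K13.f240989 IH) (Lpe (K13.f239504 IH) (Lpr_gt (K13.f171681 IH) (Lpe (K11.f181110 IH) (Lpr_et (f205373 IH) (Lpr_gt (f205354 IH) (Lpe (f239508 IH) (Lpn (LP (LK LD1_c18 LD2_c41 LD3_c1)))))))))))))
theorem f240874 : Led Lsl_dt (LP (LK LD1_c5 LD2_c13 LD3_c43)) = (LP (LK LD1_c10 LD2_c17 LD3_c37)) :=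
  Lre_d IH (LK LD1_c5 LD2_c13 LD3_c43) (LK LD1_c10 LD2_c17 LD3_c37) Lrfl Lrfl
theorem f308359 : Led Lsl_af (LP (LK LD1_c15 LD2_c9 LD3_c53)) = (LP (LK LD1_c10 LD2_c17 LD3_c37)) :=
  Lgr Lrot117 (Lpr_dt (f241153 IH) (Lpr_at (K36.f308353 IH) (Lpr_dt (f240874 IH) (Lpn (LP (LK LD1_c10 LD2_c17 LD3_c37))))))
theorem f308387 : Led Lsl_ft (LP (LK LD1_c18 LD2_c42 LD3_c44)) = (LP (LK LD1_c10 LD2_c17 LD3_c37)) :=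
  Lre_f IH (LK LD1_c18 LD2_c42 LD3_c44) (LK LD1_c10 LD2_c17 LD3_c37) Lrfl Lrfl
theorem f308388 : Led Lsl_gf (LP (LK LD1_c24 LD2_c58 LD3_c57)) = (LP (LK LD1_c18 LD2_c42 LD3_c44)) :=
  Lgr Lrot47 (Lpr_gt (f241158 IH) (Lpr_af (f308359 IH) (Lpe (f308387 IH) (Lpn (LP (LK LD1_c18 LD2_c42 LD3_c44))))))
theorem f308220 : Led Lsl_dt (LP (LK LD1_c10 LD2_c17 LD3_c38)) = (LP (LK LD1_c18 LD2_c42 LD3_c44)) :=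
  Lre_d IH (LK LD1_c10 LD2_c17 LD3_c38) (LK LD1_c18 LD2_c42 LD3_c44) Lrfl Lrfl
theorem f567323 : Led Lsl_gf (LP (LK LD1_c10 LD2_c4 LD3_c20)) = (LP (LK LD1_c13 LD2_c46 LD3_c51)) :=
  Lgr Lrot141 (Lpe (K19.f308208 IH) (Lpr_dt (f308220 IH) (Lpe (f308388 IH) (Lpr_df (f241162 IH) (Lpr_et (f239508 IH) (Lpr_gt (f303817 IH) (Lpe (K32.f36362 IH) (Lpe (K43.f303831 IH) (Lpr_df (K43.f567313 IH) (Lpr_et (K37.f526794 IH) (Lpn (LP (LK LD1_c13 LD2_c46 LD3_c51)))))))))))))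
theorem f526792 : Led Lsl_ff (LP (LK LD1_c7 LD2_c17 LD3_c56)) = (LP (LK LD1_c13 LD2_c46 LD3_c51)) :=
  Lgr Lrot3 (Lpr_ft (K37.f526789 IH) (Lpn (LP (LK LD1_c13 LD2_c46 LD3_c51))))
theorem f567325 : Led Lsl_gt (LP (LK LD1_c10 LD2_c4 LD3_c20)) = (LP (LK LD1_c13 LD2_c48 LD3_c37)) :=
  Lgr Lrot46 (Lpr_gf (f567323 IH) (Lpe (f526792 IH) (Lpr_at (K43.f482768 IH) (Lpn (LP (LK LD1_c13 LD2_c48 LD3_c37))))))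
theorem f560915 : Led Lsl_gt (LP (LK LD1_c7 LD2_c25 LD3_c7)) = (LP (LK LD1_c7 LD2_c50 LD3_c43)) :=
  Lgr Lrot164 (Lpr_bf (K40.f160596 IH) (Lpr_ct (K40.f560712 IH) (Lpe (K40.f239197 IH) (Lpr_cf (K40.f560905 IH) (Lpe (K34.f515818 IH) (Lpe (K34.f482598 IH) (Lpr_ct (K34.f515820 IH) (Lpe (K34.f489013 IH) (Lpe (K34.f489010 IH) (Lpe (K34.f524412 IH) (Lpn (LP (LK LD1_c7 LD2_c50 LD3_c43)))))))))))))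
theorem f489226 : Led Lsl_bf (LP (LK LD1_c13 LD2_c28 LD3_c18)) = (LP (LK LD1_c22 LD2_c47 LD3_c25)) :=
  Lgr Lrot24 (Lpr_bt (K37.f489223 IH) (Lpn (LP (LK LD1_c22 LD2_c47 LD3_c25))))
theorem f567436 : Led Lsl_bf (LP (LK LD1_c7 LD2_c8 LD3_c32)) = (LP (LK LD1_c11 LD2_c28 LD3_c0)) :=
  Lgr Lrot156 (Lpr_gt (K35.f524666 IH) (Lpr_bf (f489226 IH) (Lpe (K40.f489228 IH) (Lpr_gt (K40.f520307 IH) (Lpe (K33.f467527 IH) (Lpr_bt (K40.f521999 IH) (Lpe (K40.f560521 IH) (Lpe (K40.f160590 IH) (Lpr_gt (f560915 IH) (Lpr_cf (K43.f567428 IH) (Lpn (LP (LK LD1_c11 LD2_c28 LD3_c0)))))))))))))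
theorem f210724 : Led Lsl_dt (LP (LK LD1_c20 LD2_c25 LD3_c40)) = (LP (LK LD1_c11 LD2_c28 LD3_c0)) :=
  Lre_d IH (LK LD1_c20 LD2_c25 LD3_c40) (LK LD1_c11 LD2_c28 LD3_c0) Lrfl Lrfl
theorem f567438 : Led Lsl_bt (LP (LK LD1_c13 LD2_c31 LD3_c35)) = (LP (LK LD1_c20 LD2_c25 LD3_c40)) :=
  Lgr Lrot95 (Lpe (K35.f524634 IH) (Lpr_bf (f567436 IH) (Lpe (f210724 IH) (Lpn (LP (LK LD1_c20 LD2_c25 LD3_c40))))))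
theorem f567444 : Led Lsl_ff (LP (LK LD1_c13 LD2_c32 LD3_c0)) = (LP (LK LD1_c20 LD2_c25 LD3_c40)) :=
  Lgr Lrot25 (Lpr_bt (K35.f524933 IH) (Lpe (K35.f524636 IH) (Lpr_bt (f567438 IH) (Lpn (LP (LK LD1_c20 LD2_c25 LD3_c40))))))
theorem f567448 : Led Lsl_ft (LP (LK LD1_c13 LD2_c32 LD3_c0)) = (LP (LK LD1_c20 LD2_c25 LD3_c40)) :=
  Lgr Lrot48 (Lpr_ff (f567444 IH) (Lpn (LP (LK LD1_c20 LD2_c25 LD3_c40))))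
theorem f567460 : Led Lsl_ff (LP (LK LD1_c7 LD2_c8 LD3_c45)) = (LP (LK LD1_c11 LD2_c28 LD3_c0)) :=
  Lgr Lrot19 (Lpr_dt (K40.f524070 IH) (Lpr_ft (f567448 IH) (Lpr_dt (f210724 IH) (Lpn (LP (LK LD1_c11 LD2_c28 LD3_c0))))))
theorem f514981 : Led Lsl_at (LP (LK LD1_c7 LD2_c8 LD3_c45)) = (LP (LK LD1_c3 LD2_c33 LD3_c53)) :=
  Lre_a IH (LK LD1_c7 LD2_c8 LD3_c45) (LK LD1_c3 LD2_c33 LD3_c53) Lrfl Lrfl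
theorem f567464 : Led Lsl_gf (LP (LK LD1_c7 LD2_c8 LD3_c44)) = (LP (LK LD1_c11 LD2_c28 LD3_c0)) :=
  Lgr Lrot47 (Lpr_gt (K33.f456599 IH) (Lpe (f514981 IH) (Lpr_ff (f567460 IH) (Lpn (LP (LK LD1_c11 LD2_c28 LD3_c0))))))
theorem f5317 : Led Lsl_bt (LP (LK LD1_c7 LD2_c16 LD3_c54)) = (LP (LK LD1_c3 LD2_c38 LD3_c16)) :=
  Lre_b IH (LK LD1_c7 LD2_c16 LD3_c54) (LK LD1_c3 LD2_c38 LD3_c16) Lrfl Lrfl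
theorem f92580 : Led Lsl_ef (LP (LK LD1_c7 LD2_c16 LD3_c54)) = (LP (LK LD1_c13 LD2_c43 LD3_c0)) :=
  Lgr Lrot29 (Lpr_bt (f5317 IH) (Lpr_et (K29.f92542 IH) (Lpr_bt (K43.f92579 IH) (Lpn (LP (LK LD1_c13 LD2_c43 LD3_c0))))))
theorem f92612 : Led Lsl_dt (LP (LK LD1_c13 LD2_c43 LD3_c0)) = (LP (LK LD1_c7 LD2_c14 LD3_c58)) :=
  Lre_d IH (LK LD1_c13 LD2_c43 LD3_c0) (LK LD1_c7 LD2_c14 LD3_c58) Lrfl Lrfl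
theorem f609147 : Led Lsl_gt (LP (LK LD1_c13 LD2_c42 LD3_c35)) = (LP (LK LD1_c7 LD2_c14 LD3_c58)) :=
  Lgr Lrot112 (Lpe (K37.f489258 IH) (Lpr_et (K37.f515989 IH) (Lpr_gf (f567464 IH) (Lpe (K43.f210740 IH) (Lpe (K43.f567413 IH) (Lpe (f567325 IH) (Lpr_df (K41.f424489 IH) (Lpr_gf (f609143 IH) (Lpr_ef (f92580 IH) (Lpr_dt (f92612 IH) (Lpn (LP (LK LD1_c7 LD2_c14 LD3_c58)))))))))))))
theorem f418454 : Led Lsl_dt (LP (LK LD1_c6 LD2_c15 LD3_c11)) = (LP (LK LD1_c12 LD2_c8 LD3_c39)) :=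
  Lre_d IH (LK LD1_c6 LD2_c15 LD3_c11) (LK LD1_c12 LD2_c8 LD3_c39) Lrfl Lrfl
theorem f418455 : Led Lsl_ct (LP (LK LD1_c21 LD2_c14 LD3_c60)) = (LP (LK LD1_c12 LD2_c8 LD3_c39)) :=
  Lre_c IH (LK LD1_c21 LD2_c14 LD3_c60) (LK LD1_c12 LD2_c8 LD3_c39) Lrfl Lrfl
theorem f6321 : Led Lsl_ct (LP (LK LD1_c7 LD2_c14 LD3_c58)) = (LP (LK LD1_c13 LD2_c42 LD3_c61)) :=
  Lre_c IH (LK LD1_c7 LD2_c14 LD3_c58) (LK LD1_c13 LD2_c42 LD3_c61) Lrfl Lrfl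
theorem f609155 : Led Lsl_gf (LP (LK LD1_c21 LD2_c14 LD3_c60)) = (LP (LK LD1_c13 LD2_c42 LD3_c61)) :=
  Lgr Lrot104 (Lpr_ct (f418455 IH) (Lpe (f418454 IH) (Lpe (K40.f560712 IH) (Lpr_gf (K40.f560527 IH) (Lpe (K35.f6025 IH) (Lpe (K33.f487840 IH) (Lpe (K37.f489264 IH) (Lpr_gt (f609147 IH) (Lpr_ct (f6321 IH) (Lpn (LP (LK LD1_c13 LD2_c42 LD3_c61))))))))))))
theorem f576009 : Led Lsl_af (LP (LK LD1_c21 LD2_c14 LD3_c60)) = (LP (LK LD1_c23 LD2_c6 LD3_c7)) :=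
  Lgr Lrot68 (Lpr_ct (f418455 IH) (Lpr_at (K43.f575989 IH) (Lpr_ct (K42.f108108 IH) (Lpn (LP (LK LD1_c23 LD2_c6 LD3_c7))))))
theorem f609163 : Led Lsl_gt (LP (LK LD1_c22 LD2_c55 LD3_c32)) = (LP (LK LD1_c13 LD2_c42 LD3_c61)) :=
  Lgr Lrot5 (Lpe (K42.f560594 IH) (Lpe (f576009 IH) (Lpr_gf (f609155 IH) (Lpn (LP (LK LD1_c13 LD2_c42 LD3_c61))))))
theorem f6320 : Led Lsl_bt (LP (LK LD1_c7 LD2_c14 LD3_c58)) = (LP (LK LD1_c3 LD2_c37 LD3_c14)) :=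
  Lre_b IH (LK LD1_c7 LD2_c14 LD3_c58) (LK LD1_c3 LD2_c37 LD3_c14) Lrfl Lrfl
theorem f6246 : Led Lsl_ct (LP (LK LD1_c1 LD2_c43 LD3_c40)) = (LP (LK LD1_c3 LD2_c33 LD3_c59)) :=
  Lre_c IH (LK LD1_c1 LD2_c43 LD3_c40) (LK LD1_c3 LD2_c33 LD3_c59) Lrfl Lrfl
theorem f6273 : Led Lsl_gt (LP (LK LD1_c3 LD2_c33 LD3_c59)) = (LP (LK LD1_c7 LD2_c9 LD3_c1)) :=
  Lre_g IH (LK LD1_c3 LD2_c33 LD3_c59) (LK LD1_c7 LD2_c9 LD3_c1) Lrfl Lrfl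
theorem f6440 : Led Lsl_ct (LP (LK LD1_c13 LD2_c28 LD3_c33)) = (LP (LK LD1_c7 LD2_c6 LD3_c42)) :=
  Lre_c IH (LK LD1_c13 LD2_c28 LD3_c33) (LK LD1_c7 LD2_c6 LD3_c42) Lrfl Lrfl
theorem f6445 : Led Lsl_gt (LP (LK LD1_c7 LD2_c9 LD3_c1)) = (LP (LK LD1_c13 LD2_c28 LD3_c33)) :=
  Lre_g IH (LK LD1_c7 LD2_c9 LD3_c1) (LK LD1_c13 LD2_c28 LD3_c33) Lrfl Lrfl
theorem f482409 : Led Lsl_ct (LP (LK LD1_c13 LD2_c29 LD3_c11)) = (LP (LK LD1_c7 LD2_c9 LD3_c1)) :=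
  Lgr Lrot152 (Lpe (K28.f96953 IH) (Lpe (K28.f96956 IH) (Lpr_gt (K29.f482363 IH) (Lpr_ct (K29.f6026 IH) (Lpr_gt (K2.f6402 IH) (Lpr_ct (K24.f6401 IH) (Lpe (K3.f10513 IH) (Lpe (f6440 IH) (Lpe (f6445 IH) (Lpn (LP (LK LD1_c7 LD2_c9 LD3_c1))))))))))))
theorem f609165 : Led Lsl_bf (LP (LK LD1_c21 LD2_c14 LD3_c58)) = (LP (LK LD1_c13 LD2_c29 LD3_c11)) :=
  Lgr Lrot165 (Lpr_gt (K40.f560899 IH) (Lpr_ct (K42.f6064 IH) (Lpr_gt (f609163 IH) (Lpe (f6321 IH) (Lpr_bt (f6320 IH) (Lpr_gt (K28.f6319 IH) (Lpr_bf (K29.f6280 IH) (Lpr_ct (f6246 IH) (Lpr_gt (f6273 IH) (Lpe (f482409 IH) (Lpn (LP (LK LD1_c13 LD2_c29 LD3_c11)))))))))))))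
theorem f466620 : Led Lsl_ct (LP (LK LD1_c7 LD2_c9 LD3_c50)) = (LP (LK LD1_c3 LD2_c34 LD3_c20)) :=
  Lre_c IH (LK LD1_c7 LD2_c9 LD3_c50) (LK LD1_c3 LD2_c34 LD3_c20) Lrfl Lrfl
theorem f522190 : Led Lsl_ff (LP (LK LD1_c7 LD2_c9 LD3_c50)) = (LP (LK LD1_c3 LD2_c39 LD3_c47)) :=
  Lgr Lrot23 (Lpr_ct (f466620 IH) (Lpr_ft (K34.f522186 IH) (Lpr_ct (K33.f514783 IH) (Lpn (LP (LK LD1_c3 LD2_c39 LD3_c47))))))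
theorem f522194 : Led Lsl_ft (LP (LK LD1_c13 LD2_c29 LD3_c11)) = (LP (LK LD1_c7 LD2_c19 LD3_c49)) :=
  Lgr Lrot54 (Lpr_df (K28.f466633 IH) (Lpr_ff (f522190 IH) (Lpe (K33.f514779 IH) (Lpn (LP (LK LD1_c7 LD2_c19 LD3_c49))))))
theorem f522200 : Led Lsl_ff (LP (LK LD1_c13 LD2_c29 LD3_c11)) = (LP (LK LD1_c7 LD2_c19 LD3_c49)) :=
  Lgr Lrot3 (Lpr_ft (f522194 IH) (Lpn (LP (LK LD1_c7 LD2_c19 LD3_c49))))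
theorem f514793 : Led Lsl_bt (LP (LK LD1_c13 LD2_c51 LD3_c55)) = (LP (LK LD1_c7 LD2_c19 LD3_c49)) :=
  Lre_b IH (LK LD1_c13 LD2_c51 LD3_c55) (LK LD1_c7 LD2_c19 LD3_c49) Lrfl Lrfl
theorem f609175 : Led Lsl_ft (LP (LK LD1_c21 LD2_c14 LD3_c58)) = (LP (LK LD1_c13 LD2_c51 LD3_c55)) :=
  Lgr Lrot75 (Lpr_bf (f609165 IH) (Lpr_ff (f522200 IH) (Lpe (f514793 IH) (Lpn (LP (LK LD1_c13 LD2_c51 LD3_c55))))))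
theorem f609183 : Led Lsl_ff (LP (LK LD1_c21 LD2_c14 LD3_c58)) = (LP (LK LD1_c13 LD2_c51 LD3_c55)) :=
  Lgr Lrot3 (Lpr_ft (f609175 IH) (Lpn (LP (LK LD1_c13 LD2_c51 LD3_c55))))
theorem f522281 : Led Lsl_et (LP (LK LD1_c7 LD2_c19 LD3_c46)) = (LP (LK LD1_c3 LD2_c39 LD3_c45)) :=
  Lre_e IH (LK LD1_c7 LD2_c19 LD3_c46) (LK LD1_c3 LD2_c39 LD3_c45) Lrfl Lrfl
theorem f514832 : Led Lsl_dt (LP (LK LD1_c7 LD2_c19 LD3_c46)) = (LP (LK LD1_c13 LD2_c51 LD3_c55)) :=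
  Lre_d IH (LK LD1_c7 LD2_c19 LD3_c46) (LK LD1_c13 LD2_c51 LD3_c55) Lrfl Lrfl
theorem f560658 : Led Lsl_dt (LP (LK LD1_c12 LD2_c8 LD3_c40)) = (LP (LK LD1_c21 LD2_c14 LD3_c61)) :=
  Lre_d IH (LK LD1_c12 LD2_c8 LD3_c40) (LK LD1_c21 LD2_c14 LD3_c61) Lrfl Lrfl
theorem f608847 : Led Lsl_gf (LP (LK LD1_c13 LD2_c51 LD3_c55)) = (LP (LK LD1_c21 LD2_c14 LD3_c61)) :=
  Lgr Lrot134 (Lpe (f514832 IH) (Lpr_et (f522281 IH) (Lpr_gt (K46.f5356 IH) (Lpr_ef (K46.f608843 IH) (Lpr_dt (K46.f5377 IH) (Lpr_gt (K46.f608756 IH) (Lpe (K46.f482567 IH) (Lpr_et (K46.f482568 IH) (Lpr_gt (K46.f560767 IH) (Lpr_dt (f560658 IH) (Lpn (LP (LK LD1_c21 LD2_c14 LD3_c61)))))))))))))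
theorem f608849 : Led Lsl_gt (LP (LK LD1_c13 LD2_c51 LD3_c55)) = (LP (LK LD1_c13 LD2_c40 LD3_c34)) :=
  Lgr Lrot46 (Lpr_gf (f608847 IH) (Lpr_ft (K43.f453090 IH) (Lpr_at (K43.f575989 IH) (Lpn (LP (LK LD1_c13 LD2_c40 LD3_c34))))))
theorem f609188 : Led Lsl_at (LP (LK LD1_c21 LD2_c14 LD3_c58)) = (LP (LK LD1_c23 LD2_c6 LD3_c6)) :=
  Lgr Lrot26 (Lpr_ff (f609183 IH) (Lpr_gt (f608849 IH) (Lpr_gt (K43.f560598 IH) (Lpn (LP (LK LD1_c23 LD2_c6 LD3_c6))))))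
theorem f568685 : Led Lsl_ef (LP (LK LD1_c24 LD2_c56 LD3_c40)) = (LP (LK LD1_c23 LD2_c6 LD3_c6)) :=
  Lgr Lrot88 (Lpr_et (K43.f568683 IH) (Lpn (LP (LK LD1_c23 LD2_c6 LD3_c6))))
theorem f609194 : Led Lsl_af (LP (LK LD1_c24 LD2_c54 LD3_c10)) = (LP (LK LD1_c24 LD2_c56 LD3_c40)) :=
  Lgr Lrot50 (Lpr_et (K40.f227861 IH) (Lpr_at (f609188 IH) (Lpe (f568685 IH) (Lpn (LP (LK LD1_c24 LD2_c56 LD3_c40))))))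
theorem f30183 : Led Lsl_dt (LP (LK LD1_c15 LD2_c7 LD3_c47)) = (LP (LK LD1_c24 LD2_c56 LD3_c40)) :=
  Lre_d IH (LK LD1_c15 LD2_c7 LD3_c47) (LK LD1_c24 LD2_c56 LD3_c40) Lrfl Lrfl
theorem f609200 : Led Lsl_at (LP (LK LD1_c15 LD2_c6 LD3_c5)) = (LP (LK LD1_c15 LD2_c7 LD3_c47)) :=
  Lgr Lrot51 (Lpe (K40.f30206 IH) (Lpr_af (f609194 IH) (Lpe (f30183 IH) (Lpn (LP (LK LD1_c15 LD2_c7 LD3_c47))))))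
theorem f609205 : Led Lsl_ff (LP (LK LD1_c15 LD2_c6 LD3_c5)) = (LP (LK LD1_c15 LD2_c7 LD3_c46)) :=
  Lgr Lrot52 (Lpr_at (f609200 IH) (Lpe (K43.f30181 IH) (Lpr_gf (K37.f30165 IH) (Lpn (LP (LK LD1_c15 LD2_c7 LD3_c46))))))
theorem f609209 : Led Lsl_ft (LP (LK LD1_c15 LD2_c6 LD3_c5)) = (LP (LK LD1_c15 LD2_c7 LD3_c46)) :=
  Lgr Lrot48 (Lpr_ff (f609205 IH) (Lpn (LP (LK LD1_c15 LD2_c7 LD3_c46))))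
theorem f30474 : Led Lsl_gt (LP (LK LD1_c8 LD2_c1 LD3_c13)) = (LP (LK LD1_c15 LD2_c6 LD3_c4)) :=
  Lre_g IH (LK LD1_c8 LD2_c1 LD3_c13) (LK LD1_c15 LD2_c6 LD3_c4) Lrfl Lrfl
theorem f609214 : Led Lsl_af (LP (LK LD1_c15 LD2_c6 LD3_c4)) = (LP (LK LD1_c15 LD2_c7 LD3_c46)) :=
  Lgr Lrot31 (Lpe (f30474 IH) (Lpe (K40.f29771 IH) (Lpr_ft (f609209 IH) (Lpn (LP (LK LD1_c15 LD2_c7 LD3_c46))))))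
theorem f609202 : Led Lsl_af (LP (LK LD1_c15 LD2_c6 LD3_c5)) = (LP (LK LD1_c15 LD2_c7 LD3_c47)) :=
  Lgr Lrot0 (Lpr_at (f609200 IH) (Lpn (LP (LK LD1_c15 LD2_c7 LD3_c47))))
theorem f609222 : Led Lsl_ft (LP (LK LD1_c15 LD2_c6 LD3_c4)) = (LP (LK LD1_c15 LD2_c7 LD3_c47)) :=
  Lgr Lrot101 (Lpr_af (f609214 IH) (Lpe (f609209 IH) (Lpr_af (f609202 IH) (Lpn (LP (LK LD1_c15 LD2_c7 LD3_c47))))))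
theorem f609226 : Led Lsl_ff (LP (LK LD1_c15 LD2_c6 LD3_c4)) = (LP (LK LD1_c15 LD2_c7 LD3_c47)) :=
  Lgr Lrot3 (Lpr_ft (f609222 IH) (Lpn (LP (LK LD1_c15 LD2_c7 LD3_c47))))
theorem f30475 : Led Lsl_dt (LP (LK LD1_c15 LD2_c6 LD3_c4)) = (LP (LK LD1_c24 LD2_c54 LD3_c8)) :=
  Lre_d IH (LK LD1_c15 LD2_c6 LD3_c4) (LK LD1_c24 LD2_c54 LD3_c8) Lrfl Lrfl
theorem f609228 : Led Lsl_ft (LP (LK LD1_c24 LD2_c54 LD3_c8)) = (LP (LK LD1_c24 LD2_c56 LD3_c40)) :=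
  Lgr Lrot54 (Lpe (f30475 IH) (Lpr_ff (f609226 IH) (Lpe (K43.f30189 IH) (Lpn (LP (LK LD1_c24 LD2_c56 LD3_c40))))))
theorem f196309 : Led Lsl_gt (LP (LK LD1_c14 LD2_c58 LD3_c31)) = (LP (LK LD1_c7 LD2_c56 LD3_c19)) :=
  Lre_g IH (LK LD1_c14 LD2_c58 LD3_c31) (LK LD1_c7 LD2_c56 LD3_c19) Lrfl Lrfl
theorem f196310 : Led Lsl_et (LP (LK LD1_c24 LD2_c45 LD3_c61)) = (LP (LK LD1_c14 LD2_c58 LD3_c31)) :=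
  Lre_e IH (LK LD1_c24 LD2_c45 LD3_c61) (LK LD1_c14 LD2_c58 LD3_c31) Lrfl Lrfl
theorem f196311 : Led Lsl_dt (LP (LK LD1_c24 LD2_c45 LD3_c61)) = (LP (LK LD1_c31 LD2_c38 LD3_c45)) :=
  Lre_d IH (LK LD1_c24 LD2_c45 LD3_c61) (LK LD1_c31 LD2_c38 LD3_c45) Lrfl Lrfl
theorem f196312 : Led Lsl_gt (LP (LK LD1_c24 LD2_c54 LD3_c8)) = (LP (LK LD1_c31 LD2_c38 LD3_c45)) :=
  Lgr Lrot139 (Lpe (f30475 IH) (Lpe (f30474 IH) (Lpe (K12.f29264 IH) (Lpr_dt (K1.f6939 IH) (Lpr_gf (K10.f196296 IH) (Lpe (K13.f196302 IH) (Lpr_et (K13.f196308 IH) (Lpe (f196309 IH) (Lpe (f196310 IH) (Lpr_dt (f196311 IH) (Lpn (LP (LK LD1_c31 LD2_c38 LD3_c45)))))))))))))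
theorem f609232 : Led Lsl_gt (LP (LK LD1_c31 LD2_c38 LD3_c45)) = (LP (LK LD1_c24 LD2_c54 LD3_c10)) :=
  Lgr Lrot46 (Lpe (f196312 IH) (Lpr_ft (f609228 IH) (Lpe (f609194 IH) (Lpn (LP (LK LD1_c24 LD2_c54 LD3_c10))))))
theorem f193693 : Led Lsl_et (LP (LK LD1_c2 LD2_c8 LD3_c53)) = (LP (LK LD1_c4 LD2_c22 LD3_c58)) :=
  Lre_e IH (LK LD1_c2 LD2_c8 LD3_c53) (LK LD1_c4 LD2_c22 LD3_c58) Lrfl Lrfl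
theorem f241599 : Led Lsl_af (LP (LK LD1_c7 LD2_c56 LD3_c19)) = (LP (LK LD1_c4 LD2_c22 LD3_c58)) :=
  Lgr Lrot50 (Lpr_et (K13.f238827 IH) (Lpr_at (K13.f241592 IH) (Lpr_et (f193693 IH) (Lpn (LP (LK LD1_c4 LD2_c22 LD3_c58))))))
theorem f418036 : Led Lsl_gf (LP (LK LD1_c14 LD2_c58 LD3_c31)) = (LP (LK LD1_c8 LD2_c43 LD3_c48)) :=
  Lgr Lrot47 (Lpr_gt (f196309 IH) (Lpr_af (f241599 IH) (Lpe (K13.f241642 IH) (Lpn (LP (LK LD1_c8 LD2_c43 LD3_c48))))))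
theorem f460318 : Led Lsl_gf (LP (LK LD1_c13 LD2_c29 LD3_c61)) = (LP (LK LD1_c7 LD2_c47 LD3_c11)) :=
  Lgr Lrot47 (Lpr_gt (K41.f104065 IH) (Lpe (K29.f127759 IH) (Lpr_ff (K29.f460302 IH) (Lpn (LP (LK LD1_c7 LD2_c47 LD3_c11))))))
theorem f470646 : Led Lsl_gt (LP (LK LD1_c7 LD2_c13 LD3_c33)) = (LP (LK LD1_c13 LD2_c13 LD3_c58)) :=
  Lgr Lrot164 (Lpe (K29.f470581 IH) (Lpr_ct (K29.f470572 IH) (Lpe (K46.f462569 IH) (Lpe (K8.f108054 IH) (Lpe (K34.f470607 IH) (Lpe (K41.f470610 IH) (Lpr_ct (K41.f470637 IH) (Lpr_gf (f460318 IH) (Lpe (K41.f463813 IH) (Lpr_bt (K28.f464972 IH) (Lpn (LP (LK LD1_c13 LD2_c13 LD3_c58)))))))))))))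
theorem f470593 : Led Lsl_dt (LP (LK LD1_c13 LD2_c40 LD3_c37)) = (LP (LK LD1_c7 LD2_c13 LD3_c33)) :=
  Lre_d IH (LK LD1_c13 LD2_c40 LD3_c37) (LK LD1_c7 LD2_c13 LD3_c33) Lrfl Lrfl
theorem f470595 : Led Lsl_gt (LP (LK LD1_c23 LD2_c6 LD3_c9)) = (LP (LK LD1_c13 LD2_c40 LD3_c37)) :=
  Lre_g IH (LK LD1_c23 LD2_c6 LD3_c9) (LK LD1_c13 LD2_c40 LD3_c37) Lrfl Lrfl
theorem f30203 : Led Lsl_dt (LP (LK LD1_c15 LD2_c6 LD3_c5)) = (LP (LK LD1_c24 LD2_c54 LD3_c10)) :=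
  Lre_d IH (LK LD1_c15 LD2_c6 LD3_c5) (LK LD1_c24 LD2_c54 LD3_c10) Lrfl Lrfl
theorem f609236 : Led Lsl_ef (LP (LK LD1_c23 LD2_c6 LD3_c9)) = (LP (LK LD1_c15 LD2_c6 LD3_c5)) :=
  Lgr Lrot167 (Lpr_gt (f470595 IH) (Lpr_dt (f470593 IH) (Lpr_gt (f470646 IH) (Lpr_df (K39.f552869 IH) (Lpr_et (K13.f241643 IH) (Lpe (f418036 IH) (Lpe (f196310 IH) (Lpr_dt (f196311 IH) (Lpr_gt (f609232 IH) (Lpe (f30203 IH) (Lpn (LP (LK LD1_c15 LD2_c6 LD3_c5)))))))))))))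
theorem f609242 : Led Lsl_et (LP (LK LD1_c23 LD2_c6 LD3_c9)) = (LP (LK LD1_c15 LD2_c6 LD3_c5)) :=
  Lgr Lrot87 (Lpr_ef (f609236 IH) (Lpn (LP (LK LD1_c15 LD2_c6 LD3_c5))))
theorem f466630 : Led Lsl_bt (LP (LK LD1_c13 LD2_c34 LD3_c0)) = (LP (LK LD1_c7 LD2_c9 LD3_c50)) :=
  Lre_b IH (LK LD1_c13 LD2_c34 LD3_c0) (LK LD1_c7 LD2_c9 LD3_c50) Lrfl Lrfl
theorem f609171 : Led Lsl_dt (LP (LK LD1_c21 LD2_c14 LD3_c58)) = (LP (LK LD1_c13 LD2_c34 LD3_c0)) :=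
  Lgr Lrot79 (Lpr_bf (f609165 IH) (Lpr_df (K28.f466633 IH) (Lpe (f466630 IH) (Lpn (LP (LK LD1_c13 LD2_c34 LD3_c0))))))
theorem f464599 : Led Lsl_bt (LP (LK LD1_c13 LD2_c4 LD3_c15)) = (LP (LK LD1_c22 LD2_c14 LD3_c36)) :=
  Lre_b IH (LK LD1_c13 LD2_c4 LD3_c15) (LK LD1_c22 LD2_c14 LD3_c36) Lrfl Lrfl
theorem f466631 : Led Lsl_et (LP (LK LD1_c22 LD2_c14 LD3_c36)) = (LP (LK LD1_c13 LD2_c34 LD3_c0)) :=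
  Lgr Lrot74 (Lpe (f464599 IH) (Lpr_ef (K28.f466628 IH) (Lpe (f466630 IH) (Lpn (LP (LK LD1_c13 LD2_c34 LD3_c0))))))
theorem f488622 : Led Lsl_ef (LP (LK LD1_c22 LD2_c14 LD3_c36)) = (LP (LK LD1_c13 LD2_c34 LD3_c0)) :=
  Lgr Lrot88 (Lpr_et (f466631 IH) (Lpn (LP (LK LD1_c13 LD2_c34 LD3_c0))))
theorem f609246 : Led Lsl_df (LP (LK LD1_c23 LD2_c6 LD3_c9)) = (LP (LK LD1_c22 LD2_c14 LD3_c36)) :=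
  Lgr Lrot70 (Lpr_et (f609242 IH) (Lpr_dt (f30203 IH) (Lpr_et (K40.f227861 IH) (Lpr_dt (f609171 IH) (Lpe (f488622 IH) (Lpn (LP (LK LD1_c22 LD2_c14 LD3_c36))))))))
theorem f160503 : Led Lsl_dt (LP (LK LD1_c7 LD2_c13 LD3_c33)) = (LP (LK LD1_c13 LD2_c40 LD3_c37)) :=
  Lre_d IH (LK LD1_c7 LD2_c13 LD3_c33) (LK LD1_c13 LD2_c40 LD3_c37) Lrfl Lrfl
theorem f470587 : Led Lsl_et (LP (LK LD1_c7 LD2_c13 LD3_c33)) = (LP (LK LD1_c13 LD2_c40 LD3_c38)) :=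
  Lre_e IH (LK LD1_c7 LD2_c13 LD3_c33) (LK LD1_c13 LD2_c40 LD3_c38) Lrfl Lrfl
theorem f11806 : Led Lsl_dt (LP (LK LD1_c13 LD2_c29 LD3_c15)) = (LP (LK LD1_c7 LD2_c7 LD3_c2)) :=
  Lre_d IH (LK LD1_c13 LD2_c29 LD3_c15) (LK LD1_c7 LD2_c7 LD3_c2) Lrfl Lrfl
theorem f35889 : Led Lsl_dt (LP (LK LD1_c8 LD2_c45 LD3_c59)) = (LP (LK LD1_c16 LD2_c24 LD3_c11)) :=
  Lre_d IH (LK LD1_c8 LD2_c45 LD3_c59) (LK LD1_c16 LD2_c24 LD3_c11) Lrfl Lrfl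
theorem f559002 : Led Lsl_ef (LP (LK LD1_c13 LD2_c29 LD3_c15)) = (LP (LK LD1_c16 LD2_c24 LD3_c11)) :=
  Lgr Lrot73 (Lpr_dt (f11806 IH) (Lpr_et (K46.f558996 IH) (Lpr_dt (K46.f81298 IH) (Lpr_et (K46.f81262 IH) (Lpr_dt (f35889 IH) (Lpn (LP (LK LD1_c16 LD2_c24 LD3_c11))))))))
theorem f470585 : Led Lsl_bf (LP (LK LD1_c13 LD2_c29 LD3_c15)) = (LP (LK LD1_c13 LD2_c40 LD3_c37)) :=
  Lgr Lrot93 (Lpr_dt (f11806 IH) (Lpr_bt (K29.f470581 IH) (Lpr_dt (f160503 IH) (Lpn (LP (LK LD1_c13 LD2_c40 LD3_c37))))))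
theorem f470588 : Led Lsl_bt (LP (LK LD1_c13 LD2_c29 LD3_c15)) = (LP (LK LD1_c13 LD2_c40 LD3_c37)) :=
  Lgr Lrot127 (Lpr_bf (f470585 IH) (Lpn (LP (LK LD1_c13 LD2_c40 LD3_c37))))
theorem f470594 : Led Lsl_et (LP (LK LD1_c13 LD2_c40 LD3_c37)) = (LP (LK LD1_c23 LD2_c6 LD3_c11)) :=
  Lre_e IH (LK LD1_c13 LD2_c40 LD3_c37) (LK LD1_c23 LD2_c6 LD3_c11) Lrfl Lrfl
theorem f559004 : Led Lsl_bt (LP (LK LD1_c23 LD2_c6 LD3_c11)) = (LP (LK LD1_c16 LD2_c24 LD3_c11)) :=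
  Lgr Lrot119 (Lpe (f470594 IH) (Lpe (f470588 IH) (Lpr_ef (f559002 IH) (Lpn (LP (LK LD1_c16 LD2_c24 LD3_c11))))))
theorem f81271 : Led Lsl_bt (LP (LK LD1_c8 LD2_c45 LD3_c59)) = (LP (LK LD1_c16 LD2_c24 LD3_c9)) :=
  Lre_b IH (LK LD1_c8 LD2_c45 LD3_c59) (LK LD1_c16 LD2_c24 LD3_c9) Lrfl Lrfl
theorem f559008 : Led Lsl_df (LP (LK LD1_c23 LD2_c6 LD3_c11)) = (LP (LK LD1_c16 LD2_c24 LD3_c9)) :=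
  Lgr Lrot12 (Lpr_bt (f559004 IH) (Lpr_dt (K46.f81247 IH) (Lpr_bt (f81271 IH) (Lpn (LP (LK LD1_c16 LD2_c24 LD3_c9))))))
theorem f470592 : Led Lsl_et (LP (LK LD1_c23 LD2_c6 LD3_c11)) = (LP (LK LD1_c13 LD2_c40 LD3_c37)) :=
  Lre_e IH (LK LD1_c23 LD2_c6 LD3_c11) (LK LD1_c13 LD2_c40 LD3_c37) Lrfl Lrfl
theorem f559012 : Led Lsl_et (LP (LK LD1_c8 LD2_c45 LD3_c57)) = (LP (LK LD1_c16 LD2_c24 LD3_c9)) :=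
  Lre_e IH (LK LD1_c8 LD2_c45 LD3_c57) (LK LD1_c16 LD2_c24 LD3_c9) Lrfl Lrfl
theorem f559013 : Led Lsl_dt (LP (LK LD1_c13 LD2_c40 LD3_c38)) = (LP (LK LD1_c8 LD2_c45 LD3_c57)) :=
  Lgr Lrot77 (Lpe (f470587 IH) (Lpe (f470593 IH) (Lpe (f470592 IH) (Lpr_df (f559008 IH) (Lpe (f559012 IH) (Lpn (LP (LK LD1_c8 LD2_c45 LD3_c57))))))))
theorem f470596 : Led Lsl_et (LP (LK LD1_c13 LD2_c40 LD3_c38)) = (LP (LK LD1_c7 LD2_c13 LD3_c33)) :=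
  Lre_e IH (LK LD1_c13 LD2_c40 LD3_c38) (LK LD1_c7 LD2_c13 LD3_c33) Lrfl Lrfl
theorem f160501 : Led Lsl_et (LP (LK LD1_c1 LD2_c45 LD3_c9)) = (LP (LK LD1_c3 LD2_c36 LD3_c38)) :=
  Lre_e IH (LK LD1_c1 LD2_c45 LD3_c9) (LK LD1_c3 LD2_c36 LD3_c38) Lrfl Lrfl
theorem f559020 : Led Lsl_gf (LP (LK LD1_c6 LD2_c25 LD3_c0)) = (LP (LK LD1_c8 LD2_c45 LD3_c57)) :=
  Lgr Lrot145 (Lpe (K36.f540303 IH) (Lpr_et (K36.f108287 IH) (Lpe (K37.f439390 IH) (Lpe (K39.f552209 IH) (Lpr_gt (K13.f241376 IH) (Lpq (K45.f542939 IH) (Lpe (K45.f519639 IH) (Lpr_et (f160501 IH) (Lpr_gt (K29.f160502 IH) (Lpe (f470596 IH) (Lpr_dt (f559013 IH) (Lpn (LP (LK LD1_c8 LD2_c45 LD3_c57))))))))))))))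
theorem f451935 : Led Lsl_bt (LP (LK LD1_c7 LD2_c54 LD3_c29)) = (LP (LK LD1_c3 LD2_c56 LD3_c22)) :=
  Lre_b IH (LK LD1_c7 LD2_c54 LD3_c29) (LK LD1_c3 LD2_c56 LD3_c22) Lrfl Lrfl
theorem f455399 : Led Lsl_bt (LP (LK LD1_c6 LD2_c58 LD3_c22)) = (LP (LK LD1_c13 LD2_c14 LD3_c15)) :=
  Lre_b IH (LK LD1_c6 LD2_c58 LD3_c22) (LK LD1_c13 LD2_c14 LD3_c15) Lrfl Lrfl
theorem f464674 : Led Lsl_cf (LP (LK LD1_c7 LD2_c54 LD3_c29)) = (LP (LK LD1_c13 LD2_c14 LD3_c15)) :=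
  Lgr Lrot97 (Lpr_bt (f451935 IH) (Lpe (K33.f464628 IH) (Lpr_bt (K28.f464670 IH) (Lpr_ct (K28.f455185 IH) (Lpr_bt (f455399 IH) (Lpn (LP (LK LD1_c13 LD2_c14 LD3_c15))))))))
theorem f464680 : Led Lsl_ct (LP (LK LD1_c7 LD2_c54 LD3_c29)) = (LP (LK LD1_c13 LD2_c14 LD3_c15)) :=
  Lgr Lrot59 (Lpr_cf (f464674 IH) (Lpn (LP (LK LD1_c13 LD2_c14 LD3_c15))))
theorem f559024 : Led Lsl_gt (LP (LK LD1_c13 LD2_c14 LD3_c15)) = (LP (LK LD1_c13 LD2_c40 LD3_c38)) :=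
  Lgr Lrot94 (Lpe (f464680 IH) (Lpr_gt (K40.f554085 IH) (Lpe (K34.f469458 IH) (Lpr_gt (K34.f469455 IH) (Lpr_dt (K4.f116249 IH) (Lpe (K33.f116242 IH) (Lpr_df (K36.f540308 IH) (Lpr_gf (f559020 IH) (Lpe (f559013 IH) (Lpn (LP (LK LD1_c13 LD2_c40 LD3_c38))))))))))))
theorem f519868 : Led Lsl_ft (LP (LK LD1_c13 LD2_c14 LD3_c15)) = (LP (LK LD1_c13 LD2_c14 LD3_c20)) :=
  Lgr Lrot75 (Lpe (f455399 IH) (Lpr_ff (K33.f519866 IH) (Lpe (K33.f462014 IH) (Lpn (LP (LK LD1_c13 LD2_c14 LD3_c20))))))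
theorem f559026 : Led Lsl_gf (LP (LK LD1_c22 LD2_c29 LD3_c4)) = (LP (LK LD1_c13 LD2_c40 LD3_c38)) :=
  Lgr Lrot76 (Lpe (K33.f480592 IH) (Lpe (f519868 IH) (Lpr_gt (f559024 IH) (Lpn (LP (LK LD1_c13 LD2_c40 LD3_c38))))))
theorem f576592 : Led Lsl_ff (LP (LK LD1_c16 LD2_c31 LD3_c56)) = (LP (LK LD1_c13 LD2_c57 LD3_c60)) :=
  Lgr Lrot3 (Lpr_ft (K43.f576584 IH) (Lpn (LP (LK LD1_c13 LD2_c57 LD3_c60))))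
theorem f608174 : Led Lsl_at (LP (LK LD1_c16 LD2_c31 LD3_c56)) = (LP (LK LD1_c14 LD2_c5 LD3_c15)) :=
  Lgr Lrot66 (Lpr_ff (f576592 IH) (Lpe (K36.f147302 IH) (Lpe (K39.f560337 IH) (Lpn (LP (LK LD1_c14 LD2_c5 LD3_c15))))))
theorem f471651 : Led Lsl_gt (LP (LK LD1_c13 LD2_c57 LD3_c60)) = (LP (LK LD1_c23 LD2_c29 LD3_c58)) :=
  Lre_g IH (LK LD1_c13 LD2_c57 LD3_c60) (LK LD1_c23 LD2_c29 LD3_c58) Lrfl Lrfl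
theorem f608180 : Led Lsl_gf (LP (LK LD1_c14 LD2_c5 LD3_c15)) = (LP (LK LD1_c23 LD2_c29 LD3_c58)) :=
  Lgr Lrot76 (Lpe (f608174 IH) (Lpr_ff (f576592 IH) (Lpr_gt (f471651 IH) (Lpn (LP (LK LD1_c23 LD2_c29 LD3_c58))))))
theorem f560357 : Led Lsl_cf (LP (LK LD1_c7 LD2_c27 LD3_c46)) = (LP (LK LD1_c4 LD2_c42 LD3_c41)) :=
  Lgr Lrot11 (Lpr_ct (K39.f560351 IH) (Lpn (LP (LK LD1_c4 LD2_c42 LD3_c41))))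
theorem f147272 : Led Lsl_dt (LP (LK LD1_c7 LD2_c23 LD3_c10)) = (LP (LK LD1_c3 LD2_c41 LD3_c21)) :=
  Lre_d IH (LK LD1_c7 LD2_c23 LD3_c10) (LK LD1_c3 LD2_c41 LD3_c21) Lrfl Lrfl
theorem f147166 : Led Lsl_at (LP (LK LD1_c13 LD2_c57 LD3_c61)) = (LP (LK LD1_c23 LD2_c29 LD3_c41)) :=
  Lre_a IH (LK LD1_c13 LD2_c57 LD3_c61) (LK LD1_c23 LD2_c29 LD3_c41) Lrfl Lrfl
theorem f561107 : Led Lsl_ct (LP (LK LD1_c14 LD2_c5 LD3_c15)) = (LP (LK LD1_c23 LD2_c29 LD3_c41)) :=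
  Lgr Lrot98 (Lpe (K43.f560343 IH) (Lpr_cf (f560357 IH) (Lpe (K11.f59260 IH) (Lpr_cf (K41.f210821 IH) (Lpr_df (K40.f561102 IH) (Lpr_cf (K28.f147266 IH) (Lpe (f147272 IH) (Lpr_ft (K46.f147277 IH) (Lpr_at (f147166 IH) (Lpn (LP (LK LD1_c23 LD2_c29 LD3_c41))))))))))))
theorem f147412 : Led Lsl_dt (LP (LK LD1_c23 LD2_c29 LD3_c41)) = (LP (LK LD1_c13 LD2_c57 LD3_c46)) :=
  Lre_d IH (LK LD1_c23 LD2_c29 LD3_c41) (LK LD1_c13 LD2_c57 LD3_c46) Lrfl Lrfl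
theorem f205649 : Led Lsl_gt (LP (LK LD1_c12 LD2_c8 LD3_c16)) = (LP (LK LD1_c21 LD2_c14 LD3_c33)) :=
  Lre_g IH (LK LD1_c12 LD2_c8 LD3_c16) (LK LD1_c21 LD2_c14 LD3_c33) Lrfl Lrfl
theorem f608184 : Led Lsl_ct (LP (LK LD1_c21 LD2_c14 LD3_c33)) = (LP (LK LD1_c23 LD2_c29 LD3_c58)) :=
  Lgr Lrot152 (Lpe (f205649 IH) (Lpe (K39.f75764 IH) (Lpr_gt (K37.f70728 IH) (Lpe (K37.f543636 IH) (Lpr_gt (K37.f543634 IH) (Lpe (K43.f540296 IH) (Lpe (f147412 IH) (Lpe (f561107 IH) (Lpr_gf (f608180 IH) (Lpn (LP (LK LD1_c23 LD2_c29 LD3_c58))))))))))))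
theorem f608188 : Led Lsl_bt (LP (LK LD1_c21 LD2_c14 LD3_c33)) = (LP (LK LD1_c29 LD2_c55 LD3_c20)) :=
  Lre_b IH (LK LD1_c21 LD2_c14 LD3_c33) (LK LD1_c29 LD2_c55 LD3_c20) Lrfl Lrfl
theorem f608189 : Led Lsl_gt (LP (LK LD1_c23 LD2_c37 LD3_c5)) = (LP (LK LD1_c29 LD2_c55 LD3_c20)) :=
  Lgr Lrot164 (Lpe (K34.f147818 IH) (Lpr_ct (K34.f108926 IH) (Lpe (K37.f533281 IH) (Lpe (K37.f147172 IH) (Lpe (K28.f129493 IH) (Lpe (K37.f147164 IH) (Lpe (K43.f560341 IH) (Lpr_gf (f608180 IH) (Lpe (f608184 IH) (Lpr_bt (f608188 IH) (Lpn (LP (LK LD1_c29 LD2_c55 LD3_c20)))))))))))))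
theorem f465872 : Led Lsl_ct (LP (LK LD1_c30 LD2_c41 LD3_c23)) = (LP (LK LD1_c22 LD2_c44 LD3_c15)) :=
  Lre_c IH (LK LD1_c30 LD2_c41 LD3_c23) (LK LD1_c22 LD2_c44 LD3_c15) Lrfl Lrfl
theorem f533701 : Led Lsl_af (LP (LK LD1_c30 LD2_c41 LD3_c23)) = (LP (LK LD1_c30 LD2_c40 LD3_c10)) :=
  Lgr Lrot0 (Lpr_at (K37.f533695 IH) (Lpn (LP (LK LD1_c30 LD2_c40 LD3_c10))))
theorem f436416 : Led Lsl_gt (LP (LK LD1_c23 LD2_c24 LD3_c38)) = (LP (LK LD1_c31 LD2_c2 LD3_c1)) :=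
  Lre_g IH (LK LD1_c23 LD2_c24 LD3_c38) (LK LD1_c31 LD2_c2 LD3_c1) Lrfl Lrfl
theorem f533776 : Led Lsl_gf (LP (LK LD1_c30 LD2_c41 LD3_c23)) = (LP (LK LD1_c31 LD2_c2 LD3_c1)) :=
  Lgr Lrot76 (Lpr_af (f533701 IH) (Lpe (K37.f533365 IH) (Lpr_gt (f436416 IH) (Lpn (LP (LK LD1_c31 LD2_c2 LD3_c1))))))
theorem f608273 : Led Lsl_cf (LP (LK LD1_c31 LD2_c2 LD3_c1)) = (LP (LK LD1_c29 LD2_c55 LD3_c20)) :=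
  Lgr Lrot169 (Lpe (f533776 IH) (Lpr_ct (f465872 IH) (Lpe (K35.f459320 IH) (Lpe (K34.f459318 IH) (Lpe (K37.f473491 IH) (Lpe (K37.f543646 IH) (Lpr_gf (K37.f543639 IH) (Lpe (K35.f147820 IH) (Lpr_gt (f608189 IH) (Lpn (LP (LK LD1_c29 LD2_c55 LD3_c20))))))))))))
theorem f463373 : Led Lsl_bt (LP (LK LD1_c7 LD2_c4 LD3_c26)) = (LP (LK LD1_c13 LD2_c24 LD3_c36)) :=
  Lre_b IH (LK LD1_c7 LD2_c4 LD3_c26) (LK LD1_c13 LD2_c24 LD3_c36) Lrfl Lrfl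
theorem f608277 : Led Lsl_bt (LP (LK LD1_c29 LD2_c55 LD3_c20)) = (LP (LK LD1_c21 LD2_c14 LD3_c33)) :=
  Lre_b IH (LK LD1_c29 LD2_c55 LD3_c20) (LK LD1_c21 LD2_c14 LD3_c33) Lrfl Lrfl
theorem f608278 : Led Lsl_gf (LP (LK LD1_c13 LD2_c24 LD3_c36)) = (LP (LK LD1_c21 LD2_c14 LD3_c33)) :=
  Lgr Lrot124 (Lpe (f463373 IH) (Lpr_ct (K28.f463278 IH) (Lpe (K32.f470059 IH) (Lpr_cf (K33.f470069 IH) (Lpr_bt (K33.f470066 IH) (Lpr_gt (K37.f533685 IH) (Lpr_ct (K37.f436344 IH) (Lpr_gt (f436416 IH) (Lpr_cf (f608273 IH) (Lpr_bt (f608277 IH) (Lpn (LP (LK LD1_c21 LD2_c14 LD3_c33)))))))))))))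
theorem f205550 : Led Lsl_ct (LP (LK LD1_c4 LD2_c24 LD3_c26)) = (LP (LK LD1_c8 LD2_c46 LD3_c34)) :=
  Lre_c IH (LK LD1_c4 LD2_c24 LD3_c26) (LK LD1_c8 LD2_c46 LD3_c34) Lrfl Lrfl
theorem f560369 : Led Lsl_ct (LP (LK LD1_c14 LD2_c5 LD3_c14)) = (LP (LK LD1_c8 LD2_c46 LD3_c33)) :=
  Lgr Lrot59 (Lpr_cf (K43.f560366 IH) (Lpn (LP (LK LD1_c8 LD2_c46 LD3_c33))))
theorem f576286 : Led Lsl_df (LP (LK LD1_c20 LD2_c20 LD3_c61)) = (LP (LK LD1_c16 LD2_c31 LD3_c43)) :=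
  Lgr Lrot78 (Lpr_ft (K43.f56632 IH) (Lpe (K43.f56614 IH) (Lpr_ft (K43.f576282 IH) (Lpn (LP (LK LD1_c16 LD2_c31 LD3_c43))))))
theorem f607428 : Led Lsl_cf (LP (LK LD1_c17 LD2_c57 LD3_c0)) = (LP (LK LD1_c20 LD2_c20 LD3_c61)) :=
  Lgr Lrot118 (Lpr_dt (K46.f568129 IH) (Lpr_ct (K46.f568123 IH) (Lpe (K46.f568163 IH) (Lpe (K46.f607405 IH) (Lpr_dt (K46.f607409 IH) (Lpr_ct (K46.f607419 IH) (Lpe (K43.f576246 IH) (Lpr_ff (K43.f576276 IH) (Lpe (f576286 IH) (Lpn (LP (LK LD1_c20 LD2_c20 LD3_c61))))))))))))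
theorem f607348 : Led Lsl_dt (LP (LK LD1_c12 LD2_c22 LD3_c32)) = (LP (LK LD1_c21 LD2_c29 LD3_c17)) :=
  Lre_d IH (LK LD1_c12 LD2_c22 LD3_c32) (LK LD1_c21 LD2_c29 LD3_c17) Lrfl Lrfl
theorem f607349 : Led Lsl_gt (LP (LK LD1_c21 LD2_c29 LD3_c15)) = (LP (LK LD1_c12 LD2_c22 LD3_c32)) :=
  Lre_g IH (LK LD1_c21 LD2_c29 LD3_c15) (LK LD1_c12 LD2_c22 LD3_c32) Lrfl Lrfl
theorem f560344 : Led Lsl_df (LP (LK LD1_c14 LD2_c5 LD3_c16)) = (LP (LK LD1_c23 LD2_c29 LD3_c40)) :=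
  Lgr Lrot78 (Lpr_ft (K39.f208990 IH) (Lpr_dt (K43.f560343 IH) (Lpr_ft (K39.f560337 IH) (Lpn (LP (LK LD1_c23 LD2_c29 LD3_c40))))))
theorem f80566 : Led Lsl_dt (LP (LK LD1_c8 LD2_c50 LD3_c35)) = (LP (LK LD1_c4 LD2_c26 LD3_c31)) :=
  Lre_d IH (LK LD1_c8 LD2_c50 LD3_c35) (LK LD1_c4 LD2_c26 LD3_c31) Lrfl Lrfl
theorem f607415 : Led Lsl_ct (LP (LK LD1_c21 LD2_c29 LD3_c15)) = (LP (LK LD1_c16 LD2_c31 LD3_c43)) :=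
  Lgr Lrot8 (Lpr_gt (f607349 IH) (Lpr_dt (f607348 IH) (Lpr_gt (K46.f607399 IH) (Lpe (f560344 IH) (Lpr_cf (K39.f560363 IH) (Lpe (K37.f210848 IH) (Lpr_gf (K37.f420716 IH) (Lpe (f80566 IH) (Lpe (K43.f80580 IH) (Lpn (LP (LK LD1_c16 LD2_c31 LD3_c43))))))))))))
theorem f607398 : Led Lsl_dt (LP (LK LD1_c30 LD2_c2 LD3_c45)) = (LP (LK LD1_c21 LD2_c29 LD3_c15)) :=
  Lre_d IH (LK LD1_c30 LD2_c2 LD3_c45) (LK LD1_c21 LD2_c29 LD3_c15) Lrfl Lrfl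
theorem f607441 : Led Lsl_ff (LP (LK LD1_c24 LD2_c33 LD3_c48)) = (LP (LK LD1_c30 LD2_c2 LD3_c45)) :=
  Lgr Lrot103 (Lpe (K46.f607412 IH) (Lpr_cf (K46.f607405 IH) (Lpr_df (K46.f568163 IH) (Lpe (K46.f568123 IH) (Lpe (K46.f568129 IH) (Lpr_cf (f607428 IH) (Lpr_df (f576286 IH) (Lpe (f607415 IH) (Lpe (f607398 IH) (Lpn (LP (LK LD1_c30 LD2_c2 LD3_c45))))))))))))
theorem f607546 : Led Lsl_ft (LP (LK LD1_c24 LD2_c33 LD3_c48)) = (LP (LK LD1_c30 LD2_c2 LD3_c45)) :=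
  Lgr Lrot48 (Lpr_ff (f607441 IH) (Lpn (LP (LK LD1_c30 LD2_c2 LD3_c45))))
theorem f466149 : Led Lsl_bt (LP (LK LD1_c13 LD2_c24 LD3_c53)) = (LP (LK LD1_c22 LD2_c43 LD3_c19)) :=
  Lre_b IH (LK LD1_c13 LD2_c24 LD3_c53) (LK LD1_c22 LD2_c43 LD3_c19) Lrfl Lrfl
theorem f515695 : Led Lsl_ff (LP (LK LD1_c14 LD2_c47 LD3_c26)) = (LP (LK LD1_c22 LD2_c43 LD3_c19)) :=
  Lgr Lrot25 (Lpr_bt (K46.f463558 IH) (Lpr_ft (K34.f515693 IH) (Lpr_bt (f466149 IH) (Lpn (LP (LK LD1_c22 LD2_c43 LD3_c19))))))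
theorem f607548 : Led Lsl_cf (LP (LK LD1_c22 LD2_c43 LD3_c19)) = (LP (LK LD1_c30 LD2_c2 LD3_c45)) :=
  Lgr Lrot108 (Lpe (f515695 IH) (Lpr_ct (K46.f463559 IH) (Lpr_ft (f607546 IH) (Lpn (LP (LK LD1_c30 LD2_c2 LD3_c45))))))
theorem f568185 : Led Lsl_gf (LP (LK LD1_c13 LD2_c57 LD3_c55)) = (LP (LK LD1_c22 LD2_c43 LD3_c19)) :=
  Lgr Lrot47 (Lpr_gt (K46.f147282 IH) (Lpr_af (K46.f568159 IH) (Lpr_ff (f515695 IH) (Lpn (LP (LK LD1_c22 LD2_c43 LD3_c19))))))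
theorem f533546 : Led Lsl_dt (LP (LK LD1_c13 LD2_c57 LD3_c55)) = (LP (LK LD1_c7 LD2_c23 LD3_c8)) :=
  Lre_d IH (LK LD1_c13 LD2_c57 LD3_c55) (LK LD1_c7 LD2_c23 LD3_c8) Lrfl Lrfl
theorem f560368 : Led Lsl_dt (LP (LK LD1_c23 LD2_c38 LD3_c25)) = (LP (LK LD1_c14 LD2_c5 LD3_c14)) :=
  Lre_d IH (LK LD1_c23 LD2_c38 LD3_c25) (LK LD1_c14 LD2_c5 LD3_c14) Lrfl Lrfl
theorem f607550 : Led Lsl_gf (LP (LK LD1_c23 LD2_c38 LD3_c25)) = (LP (LK LD1_c30 LD2_c2 LD3_c45)) :=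
  Lgr Lrot144 (Lpr_dt (f560368 IH) (Lpr_gt (K43.f159675 IH) (Lpr_dt (K43.f560343 IH) (Lpr_cf (K43.f560341 IH) (Lpe (K37.f147169 IH) (Lpe (K37.f147178 IH) (Lpe (f533546 IH) (Lpr_gf (f568185 IH) (Lpr_cf (f607548 IH) (Lpn (LP (LK LD1_c30 LD2_c2 LD3_c45))))))))))))
theorem f607552 : Led Lsl_gt (LP (LK LD1_c23 LD2_c38 LD3_c25)) = (LP (LK LD1_c30 LD2_c2 LD3_c42)) :=
  Lgr Lrot46 (Lpr_gf (f607550 IH) (Lpe (f607441 IH) (Lpe (K46.f607412 IH) (Lpn (LP (LK LD1_c30 LD2_c2 LD3_c42))))))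
theorem f560365 : Led Lsl_dt (LP (LK LD1_c14 LD2_c5 LD3_c14)) = (LP (LK LD1_c23 LD2_c38 LD3_c25)) :=
  Lre_d IH (LK LD1_c14 LD2_c5 LD3_c14) (LK LD1_c23 LD2_c38 LD3_c25) Lrfl Lrfl
theorem f607421 : Led Lsl_cf (LP (LK LD1_c21 LD2_c29 LD3_c14)) = (LP (LK LD1_c16 LD2_c31 LD3_c42)) :=
  Lgr Lrot11 (Lpr_ct (K46.f607419 IH) (Lpn (LP (LK LD1_c16 LD2_c31 LD3_c42))))
theorem f607445 : Led Lsl_gt (LP (LK LD1_c8 LD2_c50 LD3_c38)) = (LP (LK LD1_c16 LD2_c31 LD3_c43)) :=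
  Lgr Lrot49 (Lpe (K39.f80495 IH) (Lpe (K37.f420669 IH) (Lpr_cf (K37.f210841 IH) (Lpr_gt (K46.f420666 IH) (Lpr_dt (K46.f81294 IH) (Lpr_gt (K46.f568127 IH) (Lpe (K46.f568145 IH) (Lpr_cf (f607428 IH) (Lpr_df (f576286 IH) (Lpn (LP (LK LD1_c16 LD2_c31 LD3_c43))))))))))))
theorem f543370 : Led Lsl_ef (LP (LK LD1_c16 LD2_c33 LD3_c3)) = (LP (LK LD1_c13 LD2_c50 LD3_c41)) :=
  Lgr Lrot88 (Lpr_et (K37.f543366 IH) (Lpn (LP (LK LD1_c13 LD2_c50 LD3_c41))))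
theorem f576280 : Led Lsl_dt (LP (LK LD1_c20 LD2_c20 LD3_c61)) = (LP (LK LD1_c16 LD2_c31 LD3_c43)) :=
  Lgr Lrot60 (Lpe (K43.f56633 IH) (Lpe (K43.f56624 IH) (Lpr_ff (K43.f576276 IH) (Lpn (LP (LK LD1_c16 LD2_c31 LD3_c43))))))
theorem f607449 : Led Lsl_ef (LP (LK LD1_c14 LD2_c59 LD3_c18)) = (LP (LK LD1_c20 LD2_c20 LD3_c61)) :=
  Lgr Lrot114 (Lpe (K46.f445524 IH) (Lpr_ef (f543370 IH) (Lpr_dt (K37.f533550 IH) (Lpe (K37.f543374 IH) (Lpe (K11.f75743 IH) (Lpe (K37.f201958 IH) (Lpr_gt (K37.f420669 IH) (Lpr_dt (K39.f80495 IH) (Lpr_gt (f607445 IH) (Lpe (f576280 IH) (Lpn (LP (LK LD1_c20 LD2_c20 LD3_c61)))))))))))))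
theorem f239082 : Led Lsl_et (LP (LK LD1_c7 LD2_c56 LD3_c36)) = (LP (LK LD1_c14 LD2_c59 LD3_c19)) :=
  Lre_e IH (LK LD1_c7 LD2_c56 LD3_c36) (LK LD1_c14 LD2_c59 LD3_c19) Lrfl Lrfl
theorem f239073 : Led Lsl_gt (LP (LK LD1_c11 LD2_c29 LD3_c17)) = (LP (LK LD1_c5 LD2_c50 LD3_c52)) :=
  Lre_g IH (LK LD1_c11 LD2_c29 LD3_c17) (LK LD1_c5 LD2_c50 LD3_c52) Lrfl Lrfl
theorem f238882 : Led Lsl_et (LP (LK LD1_c8 LD2_c42 LD3_c50)) = (LP (LK LD1_c4 LD2_c22 LD3_c27)) :=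
  Lre_e IH (LK LD1_c8 LD2_c42 LD3_c50) (LK LD1_c4 LD2_c22 LD3_c27) Lrfl Lrfl
theorem f38870 : Led Lsl_et (LP (LK LD1_c14 LD2_c59 LD3_c19)) = (LP (LK LD1_c7 LD2_c56 LD3_c36)) :=
  Lre_e IH (LK LD1_c14 LD2_c59 LD3_c19) (LK LD1_c7 LD2_c56 LD3_c36) Lrfl Lrfl
theorem f239074 : Led Lsl_df (LP (LK LD1_c11 LD2_c29 LD3_c17)) = (LP (LK LD1_c14 LD2_c59 LD3_c19)) :=
  Lgr Lrot170 (Lpr_gt (f239073 IH) (Lpr_df (K32.f239000 IH) (Lpr_et (f238882 IH) (Lpr_gt (K13.f238874 IH) (Lpr_dt (K13.f181321 IH) (Lpr_gt (K12.f173355 IH) (Lpe (K11.f39256 IH) (Lpr_et (K1.f39887 IH) (Lpr_gt (K37.f38858 IH) (Lpe (f38870 IH) (Lpn (LP (LK LD1_c14 LD2_c59 LD3_c19)))))))))))))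
theorem f607453 : Led Lsl_et (LP (LK LD1_c11 LD2_c29 LD3_c17)) = (LP (LK LD1_c16 LD2_c31 LD3_c43)) :=
  Lgr Lrot71 (Lpr_df (f239074 IH) (Lpe (f239082 IH) (Lpe (K37.f38862 IH) (Lpr_ef (f607449 IH) (Lpr_df (f576286 IH) (Lpn (LP (LK LD1_c16 LD2_c31 LD3_c43))))))))
theorem f576250 : Led Lsl_at (LP (LK LD1_c27 LD2_c5 LD3_c19)) = (LP (LK LD1_c26 LD2_c28 LD3_c18)) :=
  Lgr Lrot80 (Lpe (K43.f56626 IH) (Lpr_af (K43.f576244 IH) (Lpe (K37.f80579 IH) (Lpn (LP (LK LD1_c26 LD2_c28 LD3_c18))))))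
theorem f576254 : Led Lsl_af (LP (LK LD1_c20 LD2_c20 LD3_c60)) = (LP (LK LD1_c21 LD2_c13 LD3_c20)) :=
  Lgr Lrot117 (Lpe (K43.f56637 IH) (Lpr_at (f576250 IH) (Lpr_dt (K37.f80590 IH) (Lpn (LP (LK LD1_c21 LD2_c13 LD3_c20))))))
theorem f576256 : Led Lsl_at (LP (LK LD1_c20 LD2_c20 LD3_c60)) = (LP (LK LD1_c21 LD2_c13 LD3_c20)) :=
  Lgr Lrot100 (Lpr_af (f576254 IH) (Lpn (LP (LK LD1_c21 LD2_c13 LD3_c20))))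
theorem f80979 : Led Lsl_gt (LP (LK LD1_c26 LD2_c19 LD3_c4)) = (LP (LK LD1_c16 LD2_c21 LD3_c1)) :=
  Lre_g IH (LK LD1_c26 LD2_c19 LD3_c4) (LK LD1_c16 LD2_c21 LD3_c1) Lrfl Lrfl
theorem f576260 : Led Lsl_ff (LP (LK LD1_c20 LD2_c20 LD3_c60)) = (LP (LK LD1_c26 LD2_c19 LD3_c4)) :=
  Lgr Lrot52 (Lpr_at (f576256 IH) (Lpr_gf (K37.f241776 IH) (Lpe (f80979 IH) (Lpn (LP (LK LD1_c26 LD2_c19 LD3_c4))))))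
theorem f205190 : Led Lsl_gt (LP (LK LD1_c6 LD2_c25 LD3_c35)) = (LP (LK LD1_c12 LD2_c23 LD3_c51)) :=
  Lre_g IH (LK LD1_c6 LD2_c25 LD3_c35) (LK LD1_c12 LD2_c23 LD3_c51) Lrfl Lrfl
theorem f205191 : Led Lsl_et (LP (LK LD1_c21 LD2_c30 LD3_c51)) = (LP (LK LD1_c12 LD2_c23 LD3_c51)) :=
  Lre_e IH (LK LD1_c21 LD2_c30 LD3_c51) (LK LD1_c12 LD2_c23 LD3_c51) Lrfl Lrfl
theorem f421087 : Led Lsl_df (LP (LK LD1_c26 LD2_c19 LD3_c4)) = (LP (LK LD1_c21 LD2_c30 LD3_c51)) :=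
  Lgr Lrot170 (Lpr_gt (f80979 IH) (Lpr_df (K37.f421076 IH) (Lpr_et (K37.f210781 IH) (Lpr_gt (K37.f241482 IH) (Lpr_dt (K37.f59071 IH) (Lpr_gt (K11.f205181 IH) (Lpe (K36.f25992 IH) (Lpr_et (K32.f205189 IH) (Lpr_gt (f205190 IH) (Lpe (f205191 IH) (Lpn (LP (LK LD1_c21 LD2_c30 LD3_c51)))))))))))))
theorem f576262 : Led Lsl_ft (LP (LK LD1_c27 LD2_c5 LD3_c19)) = (LP (LK LD1_c21 LD2_c30 LD3_c51)) :=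
  Lgr Lrot54 (Lpr_df (K43.f56637 IH) (Lpr_ff (f576260 IH) (Lpr_df (f421087 IH) (Lpn (LP (LK LD1_c21 LD2_c30 LD3_c51))))))
theorem f607481 : Led Lsl_ff (LP (LK LD1_c11 LD2_c29 LD3_c17)) = (LP (LK LD1_c12 LD2_c23 LD3_c51)) :=
  Lgr Lrot72 (Lpr_et (f607453 IH) (Lpe (K43.f576276 IH) (Lpr_et (K43.f56626 IH) (Lpr_ft (f576262 IH) (Lpr_et (f205191 IH) (Lpn (LP (LK LD1_c12 LD2_c23 LD3_c51))))))))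
theorem f607485 : Led Lsl_ft (LP (LK LD1_c11 LD2_c29 LD3_c17)) = (LP (LK LD1_c12 LD2_c23 LD3_c51)) :=
  Lgr Lrot48 (Lpr_ff (f607481 IH) (Lpn (LP (LK LD1_c12 LD2_c23 LD3_c51))))
theorem f239069 : Led Lsl_gt (LP (LK LD1_c5 LD2_c50 LD3_c52)) = (LP (LK LD1_c11 LD2_c29 LD3_c16)) :=
  Lre_g IH (LK LD1_c5 LD2_c50 LD3_c52) (LK LD1_c11 LD2_c29 LD3_c16) Lrfl Lrfl
theorem f607498 : Led Lsl_af (LP (LK LD1_c11 LD2_c29 LD3_c16)) = (LP (LK LD1_c12 LD2_c23 LD3_c51)) :=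
  Lgr Lrot31 (Lpe (f239069 IH) (Lpe (f239073 IH) (Lpr_ft (f607485 IH) (Lpn (LP (LK LD1_c12 LD2_c23 LD3_c51))))))
theorem f101854 : Led Lsl_et (LP (LK LD1_c8 LD2_c45 LD3_c13)) = (LP (LK LD1_c16 LD2_c23 LD3_c14)) :=
  Lre_e IH (LK LD1_c8 LD2_c45 LD3_c13) (LK LD1_c16 LD2_c23 LD3_c14) Lrfl Lrfl
theorem f408020 : Led Lsl_df (LP (LK LD1_c8 LD2_c45 LD3_c14)) = (LP (LK LD1_c12 LD2_c23 LD3_c52)) :=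
  Lgr Lrot38 (Lpr_dt (K37.f408016 IH) (Lpn (LP (LK LD1_c12 LD2_c23 LD3_c52))))
theorem f576176 : Led Lsl_ef (LP (LK LD1_c12 LD2_c23 LD3_c52)) = (LP (LK LD1_c17 LD2_c15 LD3_c15)) :=
  Lgr Lrot73 (Lpe (f408020 IH) (Lpr_et (K37.f237710 IH) (Lpr_dt (K4.f99328 IH) (Lpr_et (f101854 IH) (Lpr_dt (K43.f576172 IH) (Lpn (LP (LK LD1_c17 LD2_c15 LD3_c15))))))))
theorem f607475 : Led Lsl_af (LP (LK LD1_c11 LD2_c29 LD3_c17)) = (LP (LK LD1_c12 LD2_c23 LD3_c52)) :=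
  Lgr Lrot50 (Lpr_et (f607453 IH) (Lpe (K43.f576284 IH) (Lpe (f576176 IH) (Lpn (LP (LK LD1_c12 LD2_c23 LD3_c52))))))
theorem f607504 : Led Lsl_ft (LP (LK LD1_c11 LD2_c29 LD3_c16)) = (LP (LK LD1_c12 LD2_c23 LD3_c52)) :=
  Lgr Lrot101 (Lpr_af (f607498 IH) (Lpe (f607485 IH) (Lpr_af (f607475 IH) (Lpn (LP (LK LD1_c12 LD2_c23 LD3_c52))))))
theorem f255511 : Led Lsl_et (LP (LK LD1_c20 LD2_c26 LD3_c24)) = (LP (LK LD1_c11 LD2_c29 LD3_c16)) :=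
  Lre_e IH (LK LD1_c20 LD2_c26 LD3_c24) (LK LD1_c11 LD2_c29 LD3_c16) Lrfl Lrfl
theorem f576187 : Led Lsl_et (LP (LK LD1_c12 LD2_c23 LD3_c52)) = (LP (LK LD1_c17 LD2_c15 LD3_c15)) :=
  Lgr Lrot87 (Lpr_ef (f576176 IH) (Lpn (LP (LK LD1_c17 LD2_c15 LD3_c15))))
theorem f607508 : Led Lsl_ff (LP (LK LD1_c20 LD2_c26 LD3_c24)) = (LP (LK LD1_c26 LD2_c28 LD3_c18)) :=
  Lgr Lrot72 (Lpr_et (f255511 IH) (Lpr_ft (f607504 IH) (Lpr_et (f576187 IH) (Lpr_ft (K43.f576240 IH) (Lpr_et (K37.f80587 IH) (Lpn (LP (LK LD1_c26 LD2_c28 LD3_c18))))))))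
theorem f255519 : Led Lsl_et (LP (LK LD1_c11 LD2_c29 LD3_c16)) = (LP (LK LD1_c20 LD2_c26 LD3_c24)) :=
  Lre_e IH (LK LD1_c11 LD2_c29 LD3_c16) (LK LD1_c20 LD2_c26 LD3_c24) Lrfl Lrfl
theorem f607502 : Led Lsl_at (LP (LK LD1_c20 LD2_c26 LD3_c24)) = (LP (LK LD1_c21 LD2_c30 LD3_c51)) :=
  Lgr Lrot80 (Lpe (f255519 IH) (Lpr_af (f607498 IH) (Lpe (f205191 IH) (Lpn (LP (LK LD1_c21 LD2_c30 LD3_c51))))))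
theorem f210896 : Led Lsl_et (LP (LK LD1_c21 LD2_c14 LD3_c51)) = (LP (LK LD1_c29 LD2_c55 LD3_c29)) :=
  Lre_e IH (LK LD1_c21 LD2_c14 LD3_c51) (LK LD1_c29 LD2_c55 LD3_c29) Lrfl Lrfl
theorem f421092 : Led Lsl_gt (LP (LK LD1_c29 LD2_c55 LD3_c29)) = (LP (LK LD1_c21 LD2_c30 LD3_c51)) :=
  Lgr Lrot137 (Lpe (f210896 IH) (Lpr_dt (K39.f210895 IH) (Lpe (K37.f210893 IH) (Lpr_df (K39.f210886 IH) (Lpr_et (K39.f205314 IH) (Lpe (K37.f241482 IH) (Lpe (K37.f210781 IH) (Lpe (K37.f421076 IH) (Lpe (f80979 IH) (Lpr_df (f421087 IH) (Lpn (LP (LK LD1_c21 LD2_c30 LD3_c51)))))))))))))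
theorem f607524 : Led Lsl_gf (LP (LK LD1_c29 LD2_c55 LD3_c29)) = (LP (LK LD1_c26 LD2_c28 LD3_c18)) :=
  Lgr Lrot47 (Lpr_gt (f421092 IH) (Lpe (f607502 IH) (Lpr_ff (f607508 IH) (Lpn (LP (LK LD1_c26 LD2_c28 LD3_c18))))))
theorem f607528 : Led Lsl_gt (LP (LK LD1_c14 LD2_c59 LD3_c49)) = (LP (LK LD1_c12 LD2_c7 LD3_c8)) :=
  Lgr Lrot139 (Lpe (K37.f59308 IH) (Lpr_gf (K11.f201941 IH) (Lpe (K39.f554063 IH) (Lpr_dt (K39.f208986 IH) (Lpe (K37.f543597 IH) (Lpe (K39.f210895 IH) (Lpr_et (f210896 IH) (Lpr_gf (f607524 IH) (Lpe (K37.f80587 IH) (Lpr_dt (K43.f80585 IH) (Lpn (LP (LK LD1_c12 LD2_c7 LD3_c8)))))))))))))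
theorem f607558 : Led Lsl_gf (LP (LK LD1_c14 LD2_c5 LD3_c14)) = (LP (LK LD1_c16 LD2_c31 LD3_c57)) :=
  Lgr Lrot144 (Lpr_dt (f560365 IH) (Lpr_gt (f607552 IH) (Lpr_dt (K46.f607409 IH) (Lpr_cf (f607421 IH) (Lpr_df (K37.f80557 IH) (Lpe (f607528 IH) (Lpe (K37.f59308 IH) (Lpr_gf (K11.f201941 IH) (Lpe (K43.f99295 IH) (Lpn (LP (LK LD1_c16 LD2_c31 LD3_c57))))))))))))
theorem f99301 : Led Lsl_ct (LP (LK LD1_c8 LD2_c50 LD3_c43)) = (LP (LK LD1_c16 LD2_c31 LD3_c57)) :=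
  Lre_c IH (LK LD1_c8 LD2_c50 LD3_c43) (LK LD1_c16 LD2_c31 LD3_c57) Lrfl Lrfl
theorem f561104 : Led Lsl_dt (LP (LK LD1_c16 LD2_c31 LD3_c57)) = (LP (LK LD1_c13 LD2_c57 LD3_c60)) :=
  Lgr Lrot32 (Lpe (f99301 IH) (Lpe (K11.f38139 IH) (Lpr_ft (K4.f38115 IH) (Lpe (K11.f201960 IH) (Lpr_cf (K41.f210821 IH) (Lpr_df (K40.f561102 IH) (Lpr_cf (K28.f147266 IH) (Lpe (f147272 IH) (Lpe (K46.f147273 IH) (Lpn (LP (LK LD1_c13 LD2_c57 LD3_c60))))))))))))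
theorem f608284 : Led Lsl_ct (LP (LK LD1_c23 LD2_c29 LD3_c58)) = (LP (LK LD1_c21 LD2_c14 LD3_c33)) :=
  Lgr Lrot152 (Lpe (f471651 IH) (Lpe (f561104 IH) (Lpe (f607558 IH) (Lpr_ct (f560369 IH) (Lpr_gt (K40.f70725 IH) (Lpr_ct (f205550 IH) (Lpe (K39.f75763 IH) (Lpe (K39.f560296 IH) (Lpr_gf (f608278 IH) (Lpn (LP (LK LD1_c21 LD2_c14 LD3_c33))))))))))))
theorem f209181 : Led Lsl_gt (LP (LK LD1_c7 LD2_c27 LD3_c46)) = (LP (LK LD1_c14 LD2_c5 LD3_c13)) :=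
  Lre_g IH (LK LD1_c7 LD2_c27 LD3_c46) (LK LD1_c14 LD2_c5 LD3_c13) Lrfl Lrfl
theorem f209187 : Led Lsl_dt (LP (LK LD1_c14 LD2_c5 LD3_c13)) = (LP (LK LD1_c23 LD2_c38 LD3_c24)) :=
  Lre_d IH (LK LD1_c14 LD2_c5 LD3_c13) (LK LD1_c23 LD2_c38 LD3_c24) Lrfl Lrfl
theorem f544227 : Led Lsl_dt (LP (LK LD1_c12 LD2_c8 LD3_c15)) = (LP (LK LD1_c21 LD2_c14 LD3_c32)) :=
  Lre_d IH (LK LD1_c12 LD2_c8 LD3_c15) (LK LD1_c21 LD2_c14 LD3_c32) Lrfl Lrfl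
theorem f608288 : Led Lsl_cf (LP (LK LD1_c23 LD2_c38 LD3_c24)) = (LP (LK LD1_c21 LD2_c14 LD3_c32)) :=
  Lgr Lrot14 (Lpe (f209187 IH) (Lpe (f209181 IH) (Lpe (K39.f560350 IH) (Lpr_gf (f608180 IH) (Lpr_ct (f608284 IH) (Lpe (f608278 IH) (Lpr_dt (K29.f463354 IH) (Lpe (K37.f544230 IH) (Lpr_dt (f544227 IH) (Lpn (LP (LK LD1_c21 LD2_c14 LD3_c32))))))))))))
theorem f205646 : Led Lsl_dt (LP (LK LD1_c21 LD2_c14 LD3_c32)) = (LP (LK LD1_c12 LD2_c8 LD3_c15)) :=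
  Lre_d IH (LK LD1_c21 LD2_c14 LD3_c32) (LK LD1_c12 LD2_c8 LD3_c15) Lrfl Lrfl
theorem f462586 : Led Lsl_et (LP (LK LD1_c7 LD2_c53 LD3_c57)) = (LP (LK LD1_c14 LD2_c53 LD3_c56)) :=
  Lre_e IH (LK LD1_c7 LD2_c53 LD3_c57) (LK LD1_c14 LD2_c53 LD3_c56) Lrfl Lrfl
theorem f558992 : Led Lsl_ct (LP (LK LD1_c14 LD2_c53 LD3_c56)) = (LP (LK LD1_c8 LD2_c45 LD3_c58)) :=
  Lgr Lrot15 (Lpe (f462586 IH) (Lpe (K29.f470572 IH) (Lpr_ef (K46.f558988 IH) (Lpn (LP (LK LD1_c8 LD2_c45 LD3_c58))))))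
theorem f487854 : Led Lsl_bt (LP (LK LD1_c7 LD2_c14 LD3_c50)) = (LP (LK LD1_c3 LD2_c37 LD3_c12)) :=
  Lre_b IH (LK LD1_c7 LD2_c14 LD3_c50) (LK LD1_c3 LD2_c37 LD3_c12) Lrfl Lrfl
theorem f558998 : Led Lsl_bf (LP (LK LD1_c13 LD2_c40 LD3_c38)) = (LP (LK LD1_c8 LD2_c45 LD3_c58)) :=
  Lgr Lrot96 (Lpr_et (f470596 IH) (Lpe (K29.f470583 IH) (Lpr_et (K46.f558996 IH) (Lpn (LP (LK LD1_c8 LD2_c45 LD3_c58))))))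
theorem f559032 : Led Lsl_gf (LP (LK LD1_c7 LD2_c54 LD3_c37)) = (LP (LK LD1_c14 LD2_c53 LD3_c56)) :=
  Lgr Lrot126 (Lpr_cf (K33.f487867 IH) (Lpr_bt (f487854 IH) (Lpe (K33.f487917 IH) (Lpr_ct (K34.f455149 IH) (Lpr_gt (K28.f455146 IH) (Lpe (K42.f455398 IH) (Lpr_bt (f455399 IH) (Lpr_gt (f559024 IH) (Lpr_bf (f558998 IH) (Lpe (K46.f559000 IH) (Lpn (LP (LK LD1_c14 LD2_c53 LD3_c56)))))))))))))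
theorem f568190 : Led Lsl_gf (LP (LK LD1_c21 LD2_c14 LD3_c32)) = (LP (LK LD1_c14 LD2_c55 LD3_c17)) :=
  Lgr Lrot143 (Lpr_dt (f205646 IH) (Lpr_cf (K37.f544237 IH) (Lpe (K40.f544246 IH) (Lpe (K46.f37357 IH) (Lpr_df (K46.f568145 IH) (Lpe (K46.f568127 IH) (Lpe (f558992 IH) (Lpe (f559032 IH) (Lpr_dt (K40.f480518 IH) (Lpn (LP (LK LD1_c14 LD2_c55 LD3_c17))))))))))))
theorem f479620 : Led Lsl_bt (LP (LK LD1_c13 LD2_c25 LD3_c43)) = (LP (LK LD1_c22 LD2_c44 LD3_c56)) :=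
  Lre_b IH (LK LD1_c13 LD2_c25 LD3_c43) (LK LD1_c22 LD2_c44 LD3_c56) Lrfl Lrfl
theorem f459243 : Led Lsl_bt (LP (LK LD1_c22 LD2_c43 LD3_c39)) = (LP (LK LD1_c13 LD2_c25 LD3_c0)) :=
  Lre_b IH (LK LD1_c22 LD2_c43 LD3_c39) (LK LD1_c13 LD2_c25 LD3_c0) Lrfl Lrfl
theorem f528835 : Led Lsl_ft (LP (LK LD1_c22 LD2_c44 LD3_c56)) = (LP (LK LD1_c22 LD2_c43 LD3_c39)) :=
  Lgr Lrot75 (Lpe (f479620 IH) (Lpr_ff (K35.f528833 IH) (Lpe (f459243 IH) (Lpn (LP (LK LD1_c22 LD2_c43 LD3_c39))))))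
theorem f459172 : Led Lsl_ct (LP (LK LD1_c30 LD2_c42 LD3_c12)) = (LP (LK LD1_c22 LD2_c44 LD3_c56)) :=
  Lre_c IH (LK LD1_c30 LD2_c42 LD3_c12) (LK LD1_c22 LD2_c44 LD3_c56) Lrfl Lrfl
theorem f459245 : Led Lsl_ct (LP (LK LD1_c22 LD2_c43 LD3_c39)) = (LP (LK LD1_c30 LD2_c41 LD3_c1)) :=
  Lre_c IH (LK LD1_c22 LD2_c43 LD3_c39) (LK LD1_c30 LD2_c41 LD3_c1) Lrfl Lrfl
theorem f529614 : Led Lsl_ff (LP (LK LD1_c30 LD2_c42 LD3_c12)) = (LP (LK LD1_c30 LD2_c41 LD3_c1)) :=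
  Lgr Lrot23 (Lpr_ct (f459172 IH) (Lpr_ft (f528835 IH) (Lpr_ct (f459245 IH) (Lpn (LP (LK LD1_c30 LD2_c41 LD3_c1))))))
theorem f529621 : Led Lsl_ft (LP (LK LD1_c30 LD2_c42 LD3_c12)) = (LP (LK LD1_c30 LD2_c41 LD3_c1)) :=
  Lgr Lrot48 (Lpr_ff (f529614 IH) (Lpn (LP (LK LD1_c30 LD2_c41 LD3_c1))))
theorem f479612 : Led Lsl_bt (LP (LK LD1_c7 LD2_c54 LD3_c31)) = (LP (LK LD1_c14 LD2_c55 LD3_c6)) :=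
  Lre_b IH (LK LD1_c7 LD2_c54 LD3_c31) (LK LD1_c14 LD2_c55 LD3_c6) Lrfl Lrfl
theorem f479613 : Led Lsl_ct (LP (LK LD1_c14 LD2_c55 LD3_c6)) = (LP (LK LD1_c24 LD2_c42 LD3_c27)) :=
  Lre_c IH (LK LD1_c14 LD2_c55 LD3_c6) (LK LD1_c24 LD2_c42 LD3_c27) Lrfl Lrfl
theorem f459171 : Led Lsl_bt (LP (LK LD1_c22 LD2_c44 LD3_c56)) = (LP (LK LD1_c13 LD2_c25 LD3_c43)) :=
  Lre_b IH (LK LD1_c22 LD2_c44 LD3_c56) (LK LD1_c13 LD2_c25 LD3_c43) Lrfl Lrfl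
theorem f479614 : Led Lsl_bt (LP (LK LD1_c24 LD2_c42 LD3_c27)) = (LP (LK LD1_c30 LD2_c42 LD3_c12)) :=
  Lgr Lrot128 (Lpe (f479613 IH) (Lpe (f479612 IH) (Lpr_cf (K29.f479607 IH) (Lpe (f459171 IH) (Lpe (f459172 IH) (Lpn (LP (LK LD1_c30 LD2_c42 LD3_c12))))))))
theorem f480024 : Led Lsl_ct (LP (LK LD1_c14 LD2_c55 LD3_c17)) = (LP (LK LD1_c24 LD2_c42 LD3_c35)) :=
  Lre_c IH (LK LD1_c14 LD2_c55 LD3_c17) (LK LD1_c24 LD2_c42 LD3_c35) Lrfl Lrfl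
theorem f459244 : Led Lsl_ct (LP (LK LD1_c30 LD2_c41 LD3_c1)) = (LP (LK LD1_c22 LD2_c43 LD3_c39)) :=
  Lre_c IH (LK LD1_c30 LD2_c41 LD3_c1) (LK LD1_c22 LD2_c43 LD3_c39) Lrfl Lrfl
theorem f480030 : Led Lsl_bt (LP (LK LD1_c24 LD2_c42 LD3_c35)) = (LP (LK LD1_c30 LD2_c41 LD3_c1)) :=
  Lgr Lrot128 (Lpe (f480024 IH) (Lpe (K40.f480029 IH) (Lpr_cf (K33.f480020 IH) (Lpe (f459243 IH) (Lpe (f459244 IH) (Lpn (LP (LK LD1_c30 LD2_c41 LD3_c1))))))))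
theorem f480516 : Led Lsl_bf (LP (LK LD1_c24 LD2_c42 LD3_c35)) = (LP (LK LD1_c30 LD2_c41 LD3_c1)) :=
  Lgr Lrot24 (Lpr_bt (f480030 IH) (Lpn (LP (LK LD1_c30 LD2_c41 LD3_c1))))
theorem f529623 : Led Lsl_ff (LP (LK LD1_c24 LD2_c42 LD3_c27)) = (LP (LK LD1_c24 LD2_c42 LD3_c35)) :=
  Lgr Lrot25 (Lpr_bt (f479614 IH) (Lpr_ft (f529621 IH) (Lpe (f480516 IH) (Lpn (LP (LK LD1_c24 LD2_c42 LD3_c35))))))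
theorem f479623 : Led Lsl_ct (LP (LK LD1_c24 LD2_c42 LD3_c27)) = (LP (LK LD1_c14 LD2_c55 LD3_c6)) :=
  Lre_c IH (LK LD1_c24 LD2_c42 LD3_c27) (LK LD1_c14 LD2_c55 LD3_c6) Lrfl Lrfl
theorem f529625 : Led Lsl_ft (LP (LK LD1_c14 LD2_c55 LD3_c6)) = (LP (LK LD1_c14 LD2_c55 LD3_c17)) :=
  Lgr Lrot4 (Lpe (f479623 IH) (Lpr_ff (f529623 IH) (Lpe (f480024 IH) (Lpn (LP (LK LD1_c14 LD2_c55 LD3_c17))))))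
theorem f529628 : Led Lsl_ff (LP (LK LD1_c14 LD2_c55 LD3_c6)) = (LP (LK LD1_c14 LD2_c55 LD3_c17)) :=
  Lgr Lrot3 (Lpr_ft (f529625 IH) (Lpn (LP (LK LD1_c14 LD2_c55 LD3_c17))))
theorem f529612 : Led Lsl_at (LP (LK LD1_c14 LD2_c55 LD3_c6)) = (LP (LK LD1_c24 LD2_c42 LD3_c26)) :=
  Lre_a IH (LK LD1_c14 LD2_c55 LD3_c6) (LK LD1_c24 LD2_c42 LD3_c26) Lrfl Lrfl
theorem f568192 : Led Lsl_gt (LP (LK LD1_c21 LD2_c14 LD3_c32)) = (LP (LK LD1_c24 LD2_c42 LD3_c26)) :=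
  Lgr Lrot46 (Lpr_gf (f568190 IH) (Lpe (f529628 IH) (Lpr_at (f529612 IH) (Lpn (LP (LK LD1_c24 LD2_c42 LD3_c26))))))
theorem f529591 : Led Lsl_dt (LP (LK LD1_c24 LD2_c42 LD3_c26)) = (LP (LK LD1_c14 LD2_c55 LD3_c5)) :=
  Lre_d IH (LK LD1_c24 LD2_c42 LD3_c26) (LK LD1_c14 LD2_c55 LD3_c5) Lrfl Lrfl
theorem f487876 : Led Lsl_at (LP (LK LD1_c14 LD2_c55 LD3_c16)) = (LP (LK LD1_c7 LD2_c54 LD3_c37)) :=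
  Lre_a IH (LK LD1_c14 LD2_c55 LD3_c16) (LK LD1_c7 LD2_c54 LD3_c37) Lrfl Lrfl
theorem f528861 : Led Lsl_af (LP (LK LD1_c3 LD2_c56 LD3_c24)) = (LP (LK LD1_c3 LD2_c56 LD3_c28)) :=
  Lgr Lrot45 (Lpe (K35.f528181 IH) (Lpr_at (K35.f528187 IH) (Lpr_ft (K35.f528859 IH) (Lpn (LP (LK LD1_c3 LD2_c56 LD3_c28))))))
theorem f451967 : Led Lsl_bt (LP (LK LD1_c3 LD2_c56 LD3_c24)) = (LP (LK LD1_c7 LD2_c54 LD3_c30)) :=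
  Lre_b IH (LK LD1_c3 LD2_c56 LD3_c24) (LK LD1_c7 LD2_c54 LD3_c30) Lrfl Lrfl
theorem f529586 : Led Lsl_at (LP (LK LD1_c7 LD2_c54 LD3_c30)) = (LP (LK LD1_c14 LD2_c55 LD3_c5)) :=
  Lre_a IH (LK LD1_c7 LD2_c54 LD3_c30) (LK LD1_c14 LD2_c55 LD3_c5) Lrfl Lrfl
theorem f529587 : Led Lsl_bt (LP (LK LD1_c14 LD2_c55 LD3_c5)) = (LP (LK LD1_c14 LD2_c55 LD3_c19)) :=
  Lgr Lrot62 (Lpe (f529586 IH) (Lpe (f451967 IH) (Lpr_af (f528861 IH) (Lpe (K39.f483784 IH) (Lpe (K39.f483828 IH) (Lpn (LP (LK LD1_c14 LD2_c55 LD3_c19))))))))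
theorem f529592 : Led Lsl_ff (LP (LK LD1_c14 LD2_c55 LD3_c5)) = (LP (LK LD1_c14 LD2_c55 LD3_c16)) :=
  Lgr Lrot25 (Lpr_bt (f529587 IH) (Lpe (K39.f529024 IH) (Lpr_bt (K37.f529032 IH) (Lpn (LP (LK LD1_c14 LD2_c55 LD3_c16))))))
theorem f529596 : Led Lsl_ft (LP (LK LD1_c14 LD2_c55 LD3_c5)) = (LP (LK LD1_c14 LD2_c55 LD3_c16)) :=
  Lgr Lrot48 (Lpr_ff (f529592 IH) (Lpn (LP (LK LD1_c14 LD2_c55 LD3_c16))))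
theorem f559034 : Led Lsl_gt (LP (LK LD1_c14 LD2_c55 LD3_c5)) = (LP (LK LD1_c14 LD2_c53 LD3_c56)) :=
  Lgr Lrot5 (Lpr_ft (f529596 IH) (Lpr_at (f487876 IH) (Lpr_gf (f559032 IH) (Lpn (LP (LK LD1_c14 LD2_c53 LD3_c56))))))
theorem f607396 : Led Lsl_ct (LP (LK LD1_c21 LD2_c29 LD3_c17)) = (LP (LK LD1_c13 LD2_c55 LD3_c30)) :=
  Lgr Lrot59 (Lpr_cf (K46.f607390 IH) (Lpn (LP (LK LD1_c13 LD2_c55 LD3_c30))))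
theorem f608290 : Led Lsl_gt (LP (LK LD1_c23 LD2_c38 LD3_c24)) = (LP (LK LD1_c30 LD2_c2 LD3_c45)) :=
  Lgr Lrot94 (Lpr_cf (f608288 IH) (Lpr_gt (f568192 IH) (Lpr_dt (f529591 IH) (Lpr_gt (f559034 IH) (Lpe (K46.f462577 IH) (Lpe (f607396 IH) (Lpe (f607348 IH) (Lpe (f607349 IH) (Lpe (f607398 IH) (Lpn (LP (LK LD1_c30 LD2_c2 LD3_c45))))))))))))
theorem f515699 : Led Lsl_bt (LP (LK LD1_c7 LD2_c50 LD3_c27)) = (LP (LK LD1_c14 LD2_c47 LD3_c26)) :=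
  Lre_b IH (LK LD1_c7 LD2_c50 LD3_c27) (LK LD1_c14 LD2_c47 LD3_c26) Lrfl Lrfl
theorem f455649 : Led Lsl_bt (LP (LK LD1_c22 LD2_c43 LD3_c19)) = (LP (LK LD1_c13 LD2_c24 LD3_c53)) :=
  Lre_b IH (LK LD1_c22 LD2_c43 LD3_c19) (LK LD1_c13 LD2_c24 LD3_c53) Lrfl Lrfl
theorem f515700 : Led Lsl_ft (LP (LK LD1_c14 LD2_c47 LD3_c26)) = (LP (LK LD1_c22 LD2_c43 LD3_c19)) :=
  Lgr Lrot75 (Lpe (f515699 IH) (Lpr_ff (K34.f515697 IH) (Lpe (f455649 IH) (Lpn (LP (LK LD1_c22 LD2_c43 LD3_c19))))))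
theorem f607544 : Led Lsl_ct (LP (LK LD1_c22 LD2_c43 LD3_c19)) = (LP (LK LD1_c30 LD2_c2 LD3_c45)) :=
  Lgr Lrot40 (Lpe (f515700 IH) (Lpe (K46.f466094 IH) (Lpr_ff (f607441 IH) (Lpn (LP (LK LD1_c30 LD2_c2 LD3_c45))))))
theorem f458822 : Led Lsl_ct (LP (LK LD1_c7 LD2_c4 LD3_c34)) = (LP (LK LD1_c13 LD2_c24 LD3_c54)) :=
  Lre_c IH (LK LD1_c7 LD2_c4 LD3_c34) (LK LD1_c13 LD2_c24 LD3_c54) Lrfl Lrfl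
theorem f459261 : Led Lsl_gt (LP (LK LD1_c13 LD2_c24 LD3_c54)) = (LP (LK LD1_c22 LD2_c43 LD3_c22)) :=
  Lre_g IH (LK LD1_c13 LD2_c24 LD3_c54) (LK LD1_c22 LD2_c43 LD3_c22) Lrfl Lrfl
theorem f465731 : Led Lsl_ct (LP (LK LD1_c23 LD2_c28 LD3_c42)) = (LP (LK LD1_c13 LD2_c56 LD3_c60)) :=
  Lre_c IH (LK LD1_c23 LD2_c28 LD3_c42) (LK LD1_c13 LD2_c56 LD3_c60) Lrfl Lrfl
theorem f465732 : Led Lsl_dt (LP (LK LD1_c31 LD2_c4 LD3_c46)) = (LP (LK LD1_c23 LD2_c28 LD3_c42)) :=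
  Lre_d IH (LK LD1_c31 LD2_c4 LD3_c46) (LK LD1_c23 LD2_c28 LD3_c42) Lrfl Lrfl
theorem f459022 : Led Lsl_bt (LP (LK LD1_c13 LD2_c25 LD3_c24)) = (LP (LK LD1_c7 LD2_c4 LD3_c54)) :=
  Lre_b IH (LK LD1_c13 LD2_c25 LD3_c24) (LK LD1_c7 LD2_c4 LD3_c54) Lrfl Lrfl
theorem f458917 : Led Lsl_bt (LP (LK LD1_c7 LD2_c4 LD3_c28)) = (LP (LK LD1_c13 LD2_c24 LD3_c40)) :=
  Lre_b IH (LK LD1_c7 LD2_c4 LD3_c28) (LK LD1_c13 LD2_c24 LD3_c40) Lrfl Lrfl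
theorem f459023 : Led Lsl_ff (LP (LK LD1_c13 LD2_c25 LD3_c24)) = (LP (LK LD1_c13 LD2_c24 LD3_c40)) :=
  Lgr Lrot25 (Lpr_bt (f459022 IH) (Lpr_ft (K29.f459006 IH) (Lpr_bt (f458917 IH) (Lpn (LP (LK LD1_c13 LD2_c24 LD3_c40))))))
theorem f459142 : Led Lsl_dt (LP (LK LD1_c22 LD2_c42 LD3_c60)) = (LP (LK LD1_c30 LD2_c40 LD3_c20)) :=
  Lre_d IH (LK LD1_c22 LD2_c42 LD3_c60) (LK LD1_c30 LD2_c40 LD3_c20) Lrfl Lrfl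
theorem f465894 : Led Lsl_cf (LP (LK LD1_c31 LD2_c4 LD3_c46)) = (LP (LK LD1_c30 LD2_c40 LD3_c20)) :=
  Lgr Lrot161 (Lpr_dt (f465732 IH) (Lpr_ct (f465731 IH) (Lpr_af (K34.f465868 IH) (Lpr_ff (f459023 IH) (Lpr_dt (K34.f459151 IH) (Lpr_ct (K34.f459287 IH) (Lpr_dt (K40.f459165 IH) (Lpr_ct (K34.f459131 IH) (Lpr_dt (f459142 IH) (Lpn (LP (LK LD1_c30 LD2_c40 LD3_c20))))))))))))
theorem f465727 : Led Lsl_dt (LP (LK LD1_c7 LD2_c22 LD3_c37)) = (LP (LK LD1_c13 LD2_c56 LD3_c60)) :=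
  Lre_d IH (LK LD1_c7 LD2_c22 LD3_c37) (LK LD1_c13 LD2_c56 LD3_c60) Lrfl Lrfl
theorem f465728 : Led Lsl_ct (LP (LK LD1_c13 LD2_c56 LD3_c60)) = (LP (LK LD1_c23 LD2_c28 LD3_c42)) :=
  Lre_c IH (LK LD1_c13 LD2_c56 LD3_c60) (LK LD1_c23 LD2_c28 LD3_c42) Lrfl Lrfl
theorem f465904 : Led Lsl_af (LP (LK LD1_c23 LD2_c28 LD3_c42)) = (LP (LK LD1_c22 LD2_c44 LD3_c18)) :=
  Lgr Lrot109 (Lpe (f465728 IH) (Lpe (f465727 IH) (Lpr_cf (K34.f465725 IH) (Lpe (K34.f465730 IH) (Lpe (f465731 IH) (Lpe (f465732 IH) (Lpr_cf (f465894 IH) (Lpe (f459142 IH) (Lpe (K34.f459129 IH) (Lpn (LP (LK LD1_c22 LD2_c44 LD3_c18))))))))))))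
theorem f465836 : Led Lsl_at (LP (LK LD1_c23 LD2_c39 LD3_c45)) = (LP (LK LD1_c22 LD2_c42 LD3_c60)) :=
  Lgr Lrot107 (Lpe (K34.f463557 IH) (Lpr_af (K34.f465832 IH) (Lpe (K40.f459145 IH) (Lpn (LP (LK LD1_c22 LD2_c42 LD3_c60))))))
theorem f465911 : Led Lsl_ft (LP (LK LD1_c23 LD2_c28 LD3_c42)) = (LP (LK LD1_c23 LD2_c39 LD3_c45)) :=
  Lgr Lrot101 (Lpr_af (f465904 IH) (Lpr_ff (K34.f459129 IH) (Lpe (f465836 IH) (Lpn (LP (LK LD1_c23 LD2_c39 LD3_c45))))))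
theorem f465925 : Led Lsl_ff (LP (LK LD1_c23 LD2_c28 LD3_c42)) = (LP (LK LD1_c23 LD2_c39 LD3_c45)) :=
  Lgr Lrot3 (Lpr_ft (f465911 IH) (Lpn (LP (LK LD1_c23 LD2_c39 LD3_c45))))
theorem f465907 : Led Lsl_bt (LP (LK LD1_c23 LD2_c28 LD3_c42)) = (LP (LK LD1_c31 LD2_c4 LD3_c45)) :=
  Lre_b IH (LK LD1_c23 LD2_c28 LD3_c42) (LK LD1_c31 LD2_c4 LD3_c45) Lrfl Lrfl
theorem f465862 : Led Lsl_bt (LP (LK LD1_c31 LD2_c9 LD3_c61)) = (LP (LK LD1_c23 LD2_c39 LD3_c45)) :=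
  Lre_b IH (LK LD1_c31 LD2_c9 LD3_c61) (LK LD1_c23 LD2_c39 LD3_c45) Lrfl Lrfl
theorem f465931 : Led Lsl_ft (LP (LK LD1_c31 LD2_c4 LD3_c45)) = (LP (LK LD1_c31 LD2_c9 LD3_c61)) :=
  Lgr Lrot75 (Lpe (f465907 IH) (Lpr_ff (f465925 IH) (Lpe (f465862 IH) (Lpn (LP (LK LD1_c31 LD2_c9 LD3_c61))))))
theorem f465929 : Led Lsl_ct (LP (LK LD1_c23 LD2_c28 LD3_c44)) = (LP (LK LD1_c31 LD2_c4 LD3_c45)) :=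
  Lre_c IH (LK LD1_c23 LD2_c28 LD3_c44) (LK LD1_c31 LD2_c4 LD3_c45) Lrfl Lrfl
theorem f465863 : Led Lsl_ct (LP (LK LD1_c31 LD2_c9 LD3_c61)) = (LP (LK LD1_c23 LD2_c39 LD3_c47)) :=
  Lre_c IH (LK LD1_c31 LD2_c9 LD3_c61) (LK LD1_c23 LD2_c39 LD3_c47) Lrfl Lrfl
theorem f465933 : Led Lsl_ff (LP (LK LD1_c23 LD2_c28 LD3_c44)) = (LP (LK LD1_c23 LD2_c39 LD3_c47)) :=
  Lgr Lrot23 (Lpr_ct (f465929 IH) (Lpr_ft (f465931 IH) (Lpr_ct (f465863 IH) (Lpn (LP (LK LD1_c23 LD2_c39 LD3_c47))))))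
theorem f465941 : Led Lsl_ft (LP (LK LD1_c23 LD2_c28 LD3_c44)) = (LP (LK LD1_c23 LD2_c39 LD3_c47)) :=
  Lgr Lrot48 (Lpr_ff (f465933 IH) (Lpn (LP (LK LD1_c23 LD2_c39 LD3_c47))))
theorem f465943 : Led Lsl_bt (LP (LK LD1_c13 LD2_c56 LD3_c61)) = (LP (LK LD1_c23 LD2_c28 LD3_c44)) :=
  Lre_b IH (LK LD1_c13 LD2_c56 LD3_c61) (LK LD1_c23 LD2_c28 LD3_c44) Lrfl Lrfl
theorem f465944 : Led Lsl_bt (LP (LK LD1_c23 LD2_c39 LD3_c47)) = (LP (LK LD1_c14 LD2_c5 LD3_c57)) :=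
  Lre_b IH (LK LD1_c23 LD2_c39 LD3_c47) (LK LD1_c14 LD2_c5 LD3_c57) Lrfl Lrfl
theorem f465945 : Led Lsl_ff (LP (LK LD1_c13 LD2_c56 LD3_c61)) = (LP (LK LD1_c14 LD2_c5 LD3_c57)) :=
  Lgr Lrot25 (Lpr_bt (f465943 IH) (Lpr_ft (f465941 IH) (Lpr_bt (f465944 IH) (Lpn (LP (LK LD1_c14 LD2_c5 LD3_c57))))))
theorem f465951 : Led Lsl_at (LP (LK LD1_c13 LD2_c56 LD3_c61)) = (LP (LK LD1_c13 LD2_c25 LD3_c35)) :=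
  Lgr Lrot66 (Lpr_ff (f465945 IH) (Lpr_af (K28.f465775 IH) (Lpe (K28.f458842 IH) (Lpn (LP (LK LD1_c13 LD2_c25 LD3_c35))))))
theorem f465956 : Led Lsl_af (LP (LK LD1_c13 LD2_c56 LD3_c61)) = (LP (LK LD1_c13 LD2_c25 LD3_c35)) :=
  Lgr Lrot0 (Lpr_at (f465951 IH) (Lpn (LP (LK LD1_c13 LD2_c25 LD3_c35))))
theorem f458827 : Led Lsl_ct (LP (LK LD1_c13 LD2_c25 LD3_c35)) = (LP (LK LD1_c7 LD2_c4 LD3_c59)) :=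
  Lre_c IH (LK LD1_c13 LD2_c25 LD3_c35) (LK LD1_c7 LD2_c4 LD3_c59) Lrfl Lrfl
theorem f458828 : Led Lsl_ff (LP (LK LD1_c13 LD2_c25 LD3_c35)) = (LP (LK LD1_c13 LD2_c24 LD3_c54)) :=
  Lgr Lrot23 (Lpr_ct (f458827 IH) (Lpr_ft (K24.f458820 IH) (Lpr_ct (f458822 IH) (Lpn (LP (LK LD1_c13 LD2_c24 LD3_c54))))))
theorem f466044 : Led Lsl_gf (LP (LK LD1_c13 LD2_c56 LD3_c61)) = (LP (LK LD1_c22 LD2_c43 LD3_c22)) :=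
  Lgr Lrot76 (Lpr_af (f465956 IH) (Lpr_ff (f458828 IH) (Lpr_gt (f459261 IH) (Lpn (LP (LK LD1_c22 LD2_c43 LD3_c22))))))
theorem f439214 : Led Lsl_ct (LP (LK LD1_c13 LD2_c56 LD3_c61)) = (LP (LK LD1_c7 LD2_c22 LD3_c38)) :=
  Lre_c IH (LK LD1_c13 LD2_c56 LD3_c61) (LK LD1_c7 LD2_c22 LD3_c38) Lrfl Lrfl
theorem f438047 : Led Lsl_dt (LP (LK LD1_c3 LD2_c41 LD3_c5)) = (LP (LK LD1_c7 LD2_c22 LD3_c28)) :=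
  Lre_d IH (LK LD1_c3 LD2_c41 LD3_c5) (LK LD1_c7 LD2_c22 LD3_c28) Lrfl Lrfl
theorem f438048 : Led Lsl_gt (LP (LK LD1_c7 LD2_c22 LD3_c28)) = (LP (LK LD1_c13 LD2_c56 LD3_c41)) :=
  Lre_g IH (LK LD1_c7 LD2_c22 LD3_c28) (LK LD1_c13 LD2_c56 LD3_c41) Lrfl Lrfl
theorem f466046 : Led Lsl_ct (LP (LK LD1_c13 LD2_c56 LD3_c41)) = (LP (LK LD1_c22 LD2_c43 LD3_c22)) :=
  Lgr Lrot152 (Lpe (f438048 IH) (Lpe (f438047 IH) (Lpr_gt (K28.f439188 IH) (Lpr_ct (K28.f131724 IH) (Lpe (K28.f439210 IH) (Lpr_ct (K28.f439212 IH) (Lpe (K34.f439215 IH) (Lpe (f439214 IH) (Lpr_gf (f466044 IH) (Lpn (LP (LK LD1_c22 LD2_c43 LD3_c22))))))))))))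
theorem f456577 : Led Lsl_et (LP (LK LD1_c7 LD2_c49 LD3_c39)) = (LP (LK LD1_c3 LD2_c53 LD3_c61)) :=
  Lre_e IH (LK LD1_c7 LD2_c49 LD3_c39) (LK LD1_c3 LD2_c53 LD3_c61) Lrfl Lrfl
theorem f487353 : Led Lsl_df (LP (LK LD1_c13 LD2_c56 LD3_c41)) = (LP (LK LD1_c7 LD2_c49 LD3_c39)) :=
  Lgr Lrot132 (Lpe (f438048 IH) (Lpe (f438047 IH) (Lpe (K28.f122535 IH) (Lpe (K28.f122328 IH) (Lpr_dt (K6.f116054 IH) (Lpr_gf (K28.f142472 IH) (Lpr_df (K5.f122626 IH) (Lpr_et (K7.f120972 IH) (Lpr_gf (K33.f481795 IH) (Lpe (f456577 IH) (Lpn (LP (LK LD1_c7 LD2_c49 LD3_c39)))))))))))))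
theorem f456576 : Led Lsl_dt (LP (LK LD1_c22 LD2_c53 LD3_c52)) = (LP (LK LD1_c13 LD2_c32 LD3_c3)) :=
  Lre_d IH (LK LD1_c22 LD2_c53 LD3_c52) (LK LD1_c13 LD2_c32 LD3_c3) Lrfl Lrfl
theorem f487355 : Led Lsl_bt (LP (LK LD1_c13 LD2_c56 LD3_c41)) = (LP (LK LD1_c22 LD2_c53 LD3_c52)) :=
  Lgr Lrot95 (Lpr_df (f487353 IH) (Lpr_bf (K33.f456570 IH) (Lpe (f456576 IH) (Lpn (LP (LK LD1_c22 LD2_c53 LD3_c52))))))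
theorem f466187 : Led Lsl_dt (LP (LK LD1_c23 LD2_c3 LD3_c28)) = (LP (LK LD1_c13 LD2_c38 LD3_c19)) :=
  Lre_d IH (LK LD1_c23 LD2_c3 LD3_c28) (LK LD1_c13 LD2_c38 LD3_c19) Lrfl Lrfl
theorem f544228 : Led Lsl_bt (LP (LK LD1_c21 LD2_c14 LD3_c32)) = (LP (LK LD1_c23 LD2_c3 LD3_c28)) :=
  Lgr Lrot95 (Lpe (f544227 IH) (Lpr_bf (K37.f544223 IH) (Lpe (f466187 IH) (Lpn (LP (LK LD1_c23 LD2_c3 LD3_c28))))))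
theorem f608292 : Led Lsl_gt (LP (LK LD1_c22 LD2_c53 LD3_c52)) = (LP (LK LD1_c23 LD2_c3 LD3_c28)) :=
  Lgr Lrot164 (Lpe (f487355 IH) (Lpr_ct (f466046 IH) (Lpe (f459261 IH) (Lpe (f458822 IH) (Lpe (K34.f455648 IH) (Lpe (f455649 IH) (Lpr_ct (f607544 IH) (Lpe (f608290 IH) (Lpr_cf (f608288 IH) (Lpr_bt (f544228 IH) (Lpn (LP (LK LD1_c23 LD2_c3 LD3_c28)))))))))))))
theorem f456586 : Led Lsl_dt (LP (LK LD1_c13 LD2_c32 LD3_c3)) = (LP (LK LD1_c22 LD2_c53 LD3_c52)) :=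
  Lre_d IH (LK LD1_c13 LD2_c32 LD3_c3) (LK LD1_c22 LD2_c53 LD3_c52) Lrfl Lrfl
theorem f559022 : Led Lsl_gt (LP (LK LD1_c13 LD2_c38 LD3_c25)) = (LP (LK LD1_c8 LD2_c45 LD3_c57)) :=
  Lgr Lrot5 (Lpr_ft (K36.f469262 IH) (Lpr_at (K36.f540311 IH) (Lpr_gf (f559020 IH) (Lpn (LP (LK LD1_c8 LD2_c45 LD3_c57))))))
theorem f535051 : Led Lsl_df (LP (LK LD1_c14 LD2_c7 LD3_c28)) = (LP (LK LD1_c14 LD2_c51 LD3_c0)) :=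
  Lgr Lrot12 (Lpr_bt (K39.f469831 IH) (Lpr_dt (K39.f535049 IH) (Lpr_bt (K39.f478616 IH) (Lpn (LP (LK LD1_c14 LD2_c51 LD3_c0))))))
theorem f554199 : Led Lsl_df (LP (LK LD1_c22 LD2_c53 LD3_c51)) = (LP (LK LD1_c14 LD2_c5 LD3_c23)) :=
  Lgr Lrot155 (Lpr_gt (K39.f456591 IH) (Lpr_ct (K39.f456580 IH) (Lpr_gt (K39.f456582 IH) (Lpr_ct (K39.f554190 IH) (Lpe (f535051 IH) (Lpr_cf (K39.f535062 IH) (Lpe (K39.f533631 IH) (Lpe (K39.f439567 IH) (Lpe (K37.f159665 IH) (Lpn (LP (LK LD1_c14 LD2_c5 LD3_c23))))))))))))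
theorem f559018 : Led Lsl_df (LP (LK LD1_c13 LD2_c40 LD3_c38)) = (LP (LK LD1_c8 LD2_c45 LD3_c57)) :=
  Lgr Lrot38 (Lpr_dt (f559013 IH) (Lpn (LP (LK LD1_c8 LD2_c45 LD3_c57))))
theorem f559036 : Led Lsl_ct (LP (LK LD1_c22 LD2_c53 LD3_c51)) = (LP (LK LD1_c13 LD2_c40 LD3_c38)) :=
  Lgr Lrot7 (Lpr_df (f554199 IH) (Lpe (K37.f469281 IH) (Lpe (K39.f439569 IH) (Lpe (K37.f469280 IH) (Lpr_cf (K37.f469275 IH) (Lpr_gt (K33.f108272 IH) (Lpr_dt (K43.f108264 IH) (Lpr_gt (f559022 IH) (Lpe (f559018 IH) (Lpn (LP (LK LD1_c13 LD2_c40 LD3_c38))))))))))))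
theorem f116182 : Led Lsl_dt (LP (LK LD1_c13 LD2_c38 LD3_c20)) = (LP (LK LD1_c7 LD2_c12 LD3_c4)) :=
  Lre_d IH (LK LD1_c13 LD2_c38 LD3_c20) (LK LD1_c7 LD2_c12 LD3_c4) Lrfl Lrfl
theorem f608296 : Led Lsl_gt (LP (LK LD1_c23 LD2_c3 LD3_c23)) = (LP (LK LD1_c13 LD2_c38 LD3_c20)) :=
  Lgr Lrot49 (Lpr_df (K40.f560513 IH) (Lpr_gf (f559026 IH) (Lpe (f559036 IH) (Lpr_gt (K39.f456591 IH) (Lpr_dt (f456586 IH) (Lpr_gt (f608292 IH) (Lpr_dt (f466187 IH) (Lpe (K43.f466185 IH) (Lpe (f116182 IH) (Lpn (LP (LK LD1_c13 LD2_c38 LD3_c20))))))))))))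
theorem f116178 : Led Lsl_dt (LP (LK LD1_c7 LD2_c12 LD3_c4)) = (LP (LK LD1_c13 LD2_c38 LD3_c20)) :=
  Lre_d IH (LK LD1_c7 LD2_c12 LD3_c4) (LK LD1_c13 LD2_c38 LD3_c20) Lrfl Lrfl
theorem f554156 : Led Lsl_et (LP (LK LD1_c7 LD2_c12 LD3_c4)) = (LP (LK LD1_c13 LD2_c38 LD3_c21)) :=
  Lre_e IH (LK LD1_c7 LD2_c12 LD3_c4) (LK LD1_c13 LD2_c38 LD3_c21) Lrfl Lrfl
theorem f610668 : Led Lsl_gt (LP (LK LD1_c13 LD2_c38 LD3_c21)) = (LP (LK LD1_c13 LD2_c34 LD3_c0)) :=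
  Lgr Lrot131 (Lpe (f554156 IH) (Lpr_dt (f116178 IH) (Lpe (f608296 IH) (Lpr_df (K40.f560513 IH) (Lpr_gf (f559026 IH) (Lpe (f470587 IH) (Lpr_dt (f160503 IH) (Lpe (f470595 IH) (Lpr_df (f609246 IH) (Lpr_et (f466631 IH) (Lpn (LP (LK LD1_c13 LD2_c34 LD3_c0)))))))))))))
theorem f488624 : Led Lsl_at (LP (LK LD1_c22 LD2_c57 LD3_c4)) = (LP (LK LD1_c13 LD2_c34 LD3_c0)) :=
  Lre_a IH (LK LD1_c22 LD2_c57 LD3_c4) (LK LD1_c13 LD2_c34 LD3_c0) Lrfl Lrfl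
theorem f450808 : Led Lsl_bt (LP (LK LD1_c7 LD2_c9 LD3_c50)) = (LP (LK LD1_c13 LD2_c34 LD3_c0)) :=
  Lre_b IH (LK LD1_c7 LD2_c9 LD3_c50) (LK LD1_c13 LD2_c34 LD3_c0) Lrfl Lrfl
theorem f514902 : Led Lsl_bt (LP (LK LD1_c7 LD2_c19 LD3_c46)) = (LP (LK LD1_c3 LD2_c39 LD3_c47)) :=
  Lre_b IH (LK LD1_c7 LD2_c19 LD3_c46) (LK LD1_c3 LD2_c39 LD3_c47) Lrfl Lrfl
theorem f522192 : Led Lsl_ft (LP (LK LD1_c13 LD2_c34 LD3_c0)) = (LP (LK LD1_c7 LD2_c19 LD3_c46)) :=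
  Lgr Lrot75 (Lpe (f450808 IH) (Lpr_ff (f522190 IH) (Lpe (f514902 IH) (Lpn (LP (LK LD1_c7 LD2_c19 LD3_c46))))))
theorem f522278 : Led Lsl_at (LP (LK LD1_c7 LD2_c19 LD3_c46)) = (LP (LK LD1_c13 LD2_c51 LD3_c50)) :=
  Lre_a IH (LK LD1_c7 LD2_c19 LD3_c46) (LK LD1_c13 LD2_c51 LD3_c50) Lrfl Lrfl
theorem f522279 : Led Lsl_ff (LP (LK LD1_c22 LD2_c57 LD3_c4)) = (LP (LK LD1_c13 LD2_c51 LD3_c50)) :=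
  Lgr Lrot30 (Lpr_at (f488624 IH) (Lpr_ft (f522192 IH) (Lpr_at (f522278 IH) (Lpn (LP (LK LD1_c13 LD2_c51 LD3_c50))))))
theorem f610670 : Led Lsl_gf (LP (LK LD1_c13 LD2_c38 LD3_c21)) = (LP (LK LD1_c13 LD2_c51 LD3_c50)) :=
  Lgr Lrot47 (Lpr_gt (f610668 IH) (Lpe (f488624 IH) (Lpr_ff (f522279 IH) (Lpn (LP (LK LD1_c13 LD2_c51 LD3_c50))))))
theorem f516425 : Led Lsl_bt (LP (LK LD1_c3 LD2_c34 LD3_c14)) = (LP (LK LD1_c7 LD2_c9 LD3_c38)) :=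
  Lre_b IH (LK LD1_c3 LD2_c34 LD3_c14) (LK LD1_c7 LD2_c9 LD3_c38) Lrfl Lrfl
theorem f515360 : Led Lsl_at (LP (LK LD1_c7 LD2_c6 LD3_c47)) = (LP (LK LD1_c3 LD2_c34 LD3_c14)) :=
  Lgr Lrot51 (Lpe (K33.f467127 IH) (Lpr_af (K33.f515355 IH) (Lpe (K41.f128140 IH) (Lpn (LP (LK LD1_c3 LD2_c34 LD3_c14))))))
theorem f515376 : Led Lsl_bt (LP (LK LD1_c13 LD2_c28 LD3_c41)) = (LP (LK LD1_c7 LD2_c6 LD3_c47)) :=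
  Lre_b IH (LK LD1_c13 LD2_c28 LD3_c41) (LK LD1_c7 LD2_c6 LD3_c47) Lrfl Lrfl
theorem f560969 : Led Lsl_at (LP (LK LD1_c21 LD2_c11 LD3_c54)) = (LP (LK LD1_c13 LD2_c28 LD3_c41)) :=
  Lgr Lrot67 (Lpr_bf (K43.f560950 IH) (Lpe (K43.f516409 IH) (Lpe (f516425 IH) (Lpe (f515360 IH) (Lpe (f515376 IH) (Lpn (LP (LK LD1_c13 LD2_c28 LD3_c41))))))))
theorem f560927 : Led Lsl_ff (LP (LK LD1_c21 LD2_c11 LD3_c54)) = (LP (LK LD1_c13 LD2_c33 LD3_c4)) :=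
  Lgr Lrot23 (Lpe (K40.f445355 IH) (Lpr_ft (K40.f560923 IH) (Lpr_ct (K33.f515441 IH) (Lpn (LP (LK LD1_c13 LD2_c33 LD3_c4))))))
theorem f456099 : Led Lsl_gt (LP (LK LD1_c22 LD2_c48 LD3_c31)) = (LP (LK LD1_c13 LD2_c28 LD3_c41)) :=
  Lre_g IH (LK LD1_c22 LD2_c48 LD3_c31) (LK LD1_c13 LD2_c28 LD3_c41) Lrfl Lrfl
theorem f560980 : Led Lsl_gt (LP (LK LD1_c13 LD2_c33 LD3_c4)) = (LP (LK LD1_c22 LD2_c48 LD3_c31)) :=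
  Lgr Lrot5 (Lpe (f560927 IH) (Lpr_at (f560969 IH) (Lpe (f456099 IH) (Lpn (LP (LK LD1_c22 LD2_c48 LD3_c31))))))
theorem f515427 : Led Lsl_dt (LP (LK LD1_c7 LD2_c9 LD3_c17)) = (LP (LK LD1_c13 LD2_c33 LD3_c4)) :=
  Lre_d IH (LK LD1_c7 LD2_c9 LD3_c17) (LK LD1_c13 LD2_c33 LD3_c4) Lrfl Lrfl
theorem f560769 : Led Lsl_gf (LP (LK LD1_c7 LD2_c9 LD3_c17)) = (LP (LK LD1_c7 LD2_c13 LD3_c29)) :=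
  Lgr Lrot47 (Lpr_gt (K46.f560767 IH) (Lpe (K40.f560753 IH) (Lpe (K40.f560580 IH) (Lpn (LP (LK LD1_c7 LD2_c13 LD3_c29))))))
theorem f80885 : Led Lsl_ct (LP (LK LD1_c3 LD2_c3 LD3_c37)) = (LP (LK LD1_c6 LD2_c13 LD3_c32)) :=
  Lre_c IH (LK LD1_c3 LD2_c3 LD3_c37) (LK LD1_c6 LD2_c13 LD3_c32) Lrfl Lrfl
theorem f80882 : Led Lsl_ct (LP (LK LD1_c1 LD2_c21 LD3_c36)) = (LP (LK LD1_c1 LD2_c27 LD3_c46)) :=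
  Lgr Lrot40 (Lpe (K35.f80863 IH) (Lpr_cf (K31.f2956 IH) (Lpr_ff (K8.f80873 IH) (Lpn (LP (LK LD1_c1 LD2_c27 LD3_c46))))))
theorem f554235 : Led Lsl_dt (LP (LK LD1_c3 LD2_c36 LD3_c35)) = (LP (LK LD1_c2 LD2_c9 LD3_c29)) :=
  Lgr Lrot173 (Lpr_cf (K28.f108096 IH) (Lpr_df (K39.f554226 IH) (Lpe (K42.f205608 IH) (Lpe (K35.f538820 IH) (Lpe (K40.f3038 IH) (Lpqs (K40.f536918 IH) (Lpe (K40.f503033 IH) (Lpe (K42.f272485 IH) (Lpe (K40.f542967 IH) (Lpe (K8.f159807 IH) (Lpr_df (K37.f443863 IH) (Lpe (f80885 IH) (Lpe (K35.f80872 IH) (Lpe (f80882 IH) (Lpr_df (K35.f496240 IH) (Lpqs (K35.f536637 IH) (Lpe (K39.f204814 IH) (Lpn (LP (LK LD1_c2 LD2_c9 LD3_c29))))))))))))))))))))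
theorem f519566 : Led Lsl_et (LP (LK LD1_c13 LD2_c38 LD3_c21)) = (LP (LK LD1_c7 LD2_c12 LD3_c4)) :=
  Lre_e IH (LK LD1_c13 LD2_c38 LD3_c21) (LK LD1_c7 LD2_c12 LD3_c4) Lrfl Lrfl
theorem f560982 : Led Lsl_dt (LP (LK LD1_c13 LD2_c38 LD3_c21)) = (LP (LK LD1_c22 LD2_c48 LD3_c31)) :=
  Lgr Lrot56 (Lpr_et (f519566 IH) (Lpr_gt (K37.f116177 IH) (Lpe (K4.f108278 IH) (Lpr_dt (K40.f519562 IH) (Lpqs (K40.f540323 IH) (Lpr_gt (K31.f272470 IH) (Lpe (f554235 IH) (Lpr_et (K40.f108118 IH) (Lpe (f560769 IH) (Lpr_dt (f515427 IH) (Lpr_gt (f560980 IH) (Lpn (LP (LK LD1_c22 LD2_c48 LD3_c31))))))))))))))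
theorem f456101 : Led Lsl_gt (LP (LK LD1_c14 LD2_c47 LD3_c21)) = (LP (LK LD1_c7 LD2_c50 LD3_c23)) :=
  Lre_g IH (LK LD1_c14 LD2_c47 LD3_c21) (LK LD1_c7 LD2_c50 LD3_c23) Lrfl Lrfl
theorem f576652 : Led Lsl_gf (LP (LK LD1_c7 LD2_c17 LD3_c18)) = (LP (LK LD1_c12 LD2_c8 LD3_c18)) :=
  Lgr Lrot129 (Lpe (K34.f469397 IH) (Lpr_bt (K34.f469407 IH) (Lpr_gt (K35.f123748 IH) (Lpe (K8.f147160 IH) (Lpr_ct (K43.f560393 IH) (Lpr_gt (K43.f35879 IH) (Lpr_cf (K43.f576643 IH) (Lpe (K43.f469286 IH) (Lpr_gt (K37.f469280 IH) (Lpe (K42.f543556 IH) (Lpn (LP (LK LD1_c12 LD2_c8 LD3_c18)))))))))))))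
theorem f469421 : Led Lsl_et (LP (LK LD1_c13 LD2_c47 LD3_c21)) = (LP (LK LD1_c7 LD2_c17 LD3_c18)) :=
  Lre_e IH (LK LD1_c13 LD2_c47 LD3_c21) (LK LD1_c7 LD2_c17 LD3_c18) Lrfl Lrfl
theorem f6038 : Led Lsl_dt (LP (LK LD1_c3 LD2_c37 LD3_c10)) = (LP (LK LD1_c7 LD2_c14 LD3_c49)) :=
  Lre_d IH (LK LD1_c3 LD2_c37 LD3_c10) (LK LD1_c7 LD2_c14 LD3_c49) Lrfl Lrfl
theorem f487911 : Led Lsl_gt (LP (LK LD1_c13 LD2_c42 LD3_c40)) = (LP (LK LD1_c7 LD2_c14 LD3_c49)) :=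
  Lre_g IH (LK LD1_c13 LD2_c42 LD3_c40) (LK LD1_c7 LD2_c14 LD3_c49) Lrfl Lrfl
theorem f576656 : Led Lsl_dt (LP (LK LD1_c13 LD2_c47 LD3_c21)) = (LP (LK LD1_c13 LD2_c42 LD3_c40)) :=
  Lgr Lrot136 (Lpr_et (f469421 IH) (Lpr_gf (f576652 IH) (Lpe (K37.f210900 IH) (Lpr_dt (K46.f75724 IH) (Lpe (K37.f75735 IH) (Lpe (K43.f75736 IH) (Lpr_gf (K43.f560550 IH) (Lpe (K33.f487873 IH) (Lpr_dt (f6038 IH) (Lpe (f487911 IH) (Lpn (LP (LK LD1_c13 LD2_c42 LD3_c40)))))))))))))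
theorem f417973 : Led Lsl_gt (LP (LK LD1_c6 LD2_c15 LD3_c1)) = (LP (LK LD1_c12 LD2_c8 LD3_c23)) :=
  Lre_g IH (LK LD1_c6 LD2_c15 LD3_c1) (LK LD1_c12 LD2_c8 LD3_c23) Lrfl Lrfl
theorem f543128 : Led Lsl_dt (LP (LK LD1_c12 LD2_c8 LD3_c23)) = (LP (LK LD1_c21 LD2_c14 LD3_c40)) :=
  Lre_d IH (LK LD1_c12 LD2_c8 LD3_c23) (LK LD1_c21 LD2_c14 LD3_c40) Lrfl Lrfl
theorem f576665 : Led Lsl_gt (LP (LK LD1_c21 LD2_c14 LD3_c40)) = (LP (LK LD1_c13 LD2_c42 LD3_c40)) :=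
  Lgr Lrot139 (Lpe (f543128 IH) (Lpe (f417973 IH) (Lpe (K36.f449951 IH) (Lpr_dt (K37.f227756 IH) (Lpe (K12.f211028 IH) (Lpq (K37.f540392 IH) (Lpe (K43.f519746 IH) (Lpr_et (K29.f208957 IH) (Lpe (K34.f439556 IH) (Lpe (f469421 IH) (Lpr_dt (f576656 IH) (Lpn (LP (LK LD1_c13 LD2_c42 LD3_c40))))))))))))))
theorem f515459 : Led Lsl_gt (LP (LK LD1_c7 LD2_c49 LD3_c52)) = (LP (LK LD1_c13 LD2_c32 LD3_c54)) :=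
  Lgr Lrot46 (Lpr_gf (K37.f489325 IH) (Lpr_ft (K33.f515442 IH) (Lpr_at (K33.f482552 IH) (Lpn (LP (LK LD1_c13 LD2_c32 LD3_c54))))))
theorem f515503 : Led Lsl_gf (LP (LK LD1_c14 LD2_c47 LD3_c21)) = (LP (LK LD1_c22 LD2_c55 LD3_c16)) :=
  Lgr Lrot47 (Lpr_gt (f456101 IH) (Lpe (K34.f515480 IH) (Lpr_ff (K34.f515481 IH) (Lpn (LP (LK LD1_c22 LD2_c55 LD3_c16))))))
theorem f576660 : Led Lsl_df (LP (LK LD1_c13 LD2_c47 LD3_c21)) = (LP (LK LD1_c13 LD2_c42 LD3_c40)) :=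
  Lgr Lrot38 (Lpr_dt (f576656 IH) (Lpn (LP (LK LD1_c13 LD2_c42 LD3_c40))))
theorem f469377 : Led Lsl_et (LP (LK LD1_c14 LD2_c7 LD3_c27)) = (LP (LK LD1_c7 LD2_c28 LD3_c56)) :=
  Lre_e IH (LK LD1_c14 LD2_c7 LD3_c27) (LK LD1_c7 LD2_c28 LD3_c56) Lrfl Lrfl
theorem f469402 : Led Lsl_et (LP (LK LD1_c7 LD2_c17 LD3_c18)) = (LP (LK LD1_c13 LD2_c47 LD3_c21)) :=
  Lre_e IH (LK LD1_c7 LD2_c17 LD3_c18) (LK LD1_c13 LD2_c47 LD3_c21) Lrfl Lrfl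
theorem f469403 : Led Lsl_cf (LP (LK LD1_c14 LD2_c7 LD3_c27)) = (LP (LK LD1_c13 LD2_c47 LD3_c21)) :=
  Lgr Lrot39 (Lpr_et (f469377 IH) (Lpr_ct (K34.f469397 IH) (Lpr_et (f469402 IH) (Lpn (LP (LK LD1_c13 LD2_c47 LD3_c21))))))
theorem f469419 : Led Lsl_ct (LP (LK LD1_c14 LD2_c7 LD3_c27)) = (LP (LK LD1_c13 LD2_c47 LD3_c21)) :=
  Lgr Lrot59 (Lpr_cf (f469403 IH) (Lpn (LP (LK LD1_c13 LD2_c47 LD3_c21))))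
theorem f576669 : Led Lsl_dt (LP (LK LD1_c14 LD2_c47 LD3_c21)) = (LP (LK LD1_c14 LD2_c7 LD3_c27)) :=
  Lgr Lrot105 (Lpr_gf (f515503 IH) (Lpe (K34.f482577 IH) (Lpe (f515459 IH) (Lpe (K37.f543118 IH) (Lpr_gt (f417973 IH) (Lpr_dt (f543128 IH) (Lpr_gt (f576665 IH) (Lpe (f576660 IH) (Lpe (f469419 IH) (Lpn (LP (LK LD1_c14 LD2_c7 LD3_c27))))))))))))
theorem f576671 : Led Lsl_df (LP (LK LD1_c14 LD2_c47 LD3_c21)) = (LP (LK LD1_c14 LD2_c7 LD3_c27)) :=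
  Lgr Lrot38 (Lpr_dt (f576669 IH) (Lpn (LP (LK LD1_c14 LD2_c7 LD3_c27))))
theorem f523580 : Led Lsl_cf (LP (LK LD1_c3 LD2_c39 LD3_c44)) = (LP (LK LD1_c7 LD2_c5 LD3_c3)) :=
  Lgr Lrot11 (Lpr_ct (K34.f523546 IH) (Lpn (LP (LK LD1_c7 LD2_c5 LD3_c3))))
theorem f514787 : Led Lsl_bt (LP (LK LD1_c3 LD2_c39 LD3_c47)) = (LP (LK LD1_c7 LD2_c19 LD3_c46)) :=
  Lre_b IH (LK LD1_c3 LD2_c39 LD3_c47) (LK LD1_c7 LD2_c19 LD3_c46) Lrfl Lrfl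
theorem f523587 : Led Lsl_bt (LP (LK LD1_c13 LD2_c25 LD3_c53)) = (LP (LK LD1_c7 LD2_c5 LD3_c3)) :=
  Lre_b IH (LK LD1_c13 LD2_c25 LD3_c53) (LK LD1_c7 LD2_c5 LD3_c3) Lrfl Lrfl
theorem f523619 : Led Lsl_ct (LP (LK LD1_c7 LD2_c19 LD3_c46)) = (LP (LK LD1_c13 LD2_c25 LD3_c53)) :=
  Lgr Lrot83 (Lpe (f514787 IH) (Lpe (K33.f514783 IH) (Lpe (K34.f514777 IH) (Lpr_cf (f523580 IH) (Lpe (f523587 IH) (Lpn (LP (LK LD1_c13 LD2_c25 LD3_c53))))))))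
theorem f522288 : Led Lsl_at (LP (LK LD1_c13 LD2_c51 LD3_c50)) = (LP (LK LD1_c7 LD2_c19 LD3_c46)) :=
  Lre_a IH (LK LD1_c13 LD2_c51 LD3_c50) (LK LD1_c7 LD2_c19 LD3_c46) Lrfl Lrfl
theorem f523615 : Led Lsl_at (LP (LK LD1_c13 LD2_c25 LD3_c53)) = (LP (LK LD1_c22 LD2_c45 LD3_c12)) :=
  Lre_a IH (LK LD1_c13 LD2_c25 LD3_c53) (LK LD1_c22 LD2_c45 LD3_c12) Lrfl Lrfl
theorem f523621 : Led Lsl_cf (LP (LK LD1_c13 LD2_c51 LD3_c50)) = (LP (LK LD1_c22 LD2_c45 LD3_c12)) :=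
  Lgr Lrot1 (Lpr_at (f522288 IH) (Lpr_ct (f523619 IH) (Lpr_at (f523615 IH) (Lpn (LP (LK LD1_c22 LD2_c45 LD3_c12))))))
theorem f610672 : Led Lsl_gf (LP (LK LD1_c14 LD2_c7 LD3_c27)) = (LP (LK LD1_c22 LD2_c45 LD3_c12)) :=
  Lgr Lrot144 (Lpe (f576671 IH) (Lpr_gt (f456101 IH) (Lpr_dt (K34.f456100 IH) (Lpe (K33.f456084 IH) (Lpe (K33.f456090 IH) (Lpe (f456099 IH) (Lpe (f560982 IH) (Lpr_gf (f610670 IH) (Lpr_cf (f523621 IH) (Lpn (LP (LK LD1_c22 LD2_c45 LD3_c12))))))))))))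
theorem f576663 : Led Lsl_ct (LP (LK LD1_c23 LD2_c8 LD3_c40)) = (LP (LK LD1_c13 LD2_c42 LD3_c40)) :=
  Lre_c IH (LK LD1_c23 LD2_c8 LD3_c40) (LK LD1_c13 LD2_c42 LD3_c40) Lrfl Lrfl
theorem f529704 : Led Lsl_at (LP (LK LD1_c13 LD2_c42 LD3_c37)) = (LP (LK LD1_c7 LD2_c14 LD3_c49)) :=
  Lre_a IH (LK LD1_c13 LD2_c42 LD3_c37) (LK LD1_c7 LD2_c14 LD3_c49) Lrfl Lrfl
theorem f576667 : Led Lsl_ft (LP (LK LD1_c21 LD2_c14 LD3_c40)) = (LP (LK LD1_c13 LD2_c42 LD3_c37)) :=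
  Lgr Lrot2 (Lpr_gt (f576665 IH) (Lpr_gt (f487911 IH) (Lpe (f529704 IH) (Lpn (LP (LK LD1_c13 LD2_c42 LD3_c37))))))
theorem f576698 : Led Lsl_ff (LP (LK LD1_c21 LD2_c14 LD3_c40)) = (LP (LK LD1_c13 LD2_c42 LD3_c37)) :=
  Lgr Lrot3 (Lpr_ft (f576667 IH) (Lpn (LP (LK LD1_c13 LD2_c42 LD3_c37))))
theorem f417974 : Led Lsl_dt (LP (LK LD1_c21 LD2_c14 LD3_c40)) = (LP (LK LD1_c12 LD2_c8 LD3_c23)) :=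
  Lre_d IH (LK LD1_c21 LD2_c14 LD3_c40) (LK LD1_c12 LD2_c8 LD3_c23) Lrfl Lrfl
theorem f576702 : Led Lsl_ft (LP (LK LD1_c12 LD2_c8 LD3_c23)) = (LP (LK LD1_c7 LD2_c14 LD3_c47)) :=
  Lgr Lrot54 (Lpe (f417974 IH) (Lpr_ff (f576698 IH) (Lpe (K37.f528277 IH) (Lpn (LP (LK LD1_c7 LD2_c14 LD3_c47))))))
theorem f519760 : Led Lsl_at (LP (LK LD1_c7 LD2_c14 LD3_c47)) = (LP (LK LD1_c3 LD2_c37 LD3_c10)) :=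
  Lre_a IH (LK LD1_c7 LD2_c14 LD3_c47) (LK LD1_c3 LD2_c37 LD3_c10) Lrfl Lrfl
theorem f576720 : Led Lsl_gt (LP (LK LD1_c12 LD2_c8 LD3_c23)) = (LP (LK LD1_c7 LD2_c14 LD3_c46)) :=
  Lgr Lrot5 (Lpr_ft (f576702 IH) (Lpr_at (f519760 IH) (Lpe (K33.f487840 IH) (Lpn (LP (LK LD1_c7 LD2_c14 LD3_c46))))))
theorem f576658 : Led Lsl_ct (LP (LK LD1_c13 LD2_c42 LD3_c40)) = (LP (LK LD1_c23 LD2_c8 LD3_c40)) :=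
  Lre_c IH (LK LD1_c13 LD2_c42 LD3_c40) (LK LD1_c23 LD2_c8 LD3_c40) Lrfl Lrfl
theorem f576722 : Led Lsl_gt (LP (LK LD1_c23 LD2_c8 LD3_c40)) = (LP (LK LD1_c22 LD2_c48 LD3_c32)) :=
  Lgr Lrot150 (Lpe (f576658 IH) (Lpe (f576665 IH) (Lpe (f543128 IH) (Lpr_gt (f576720 IH) (Lpr_ct (K33.f489307 IH) (Lpr_gt (K33.f456088 IH) (Lpe (K46.f456077 IH) (Lpe (K33.f456090 IH) (Lpe (K33.f456091 IH) (Lpn (LP (LK LD1_c22 LD2_c48 LD3_c32))))))))))))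
theorem f576724 : Led Lsl_gf (LP (LK LD1_c23 LD2_c8 LD3_c40)) = (LP (LK LD1_c22 LD2_c55 LD3_c34)) :=
  Lgr Lrot47 (Lpr_gt (f576722 IH) (Lpe (K43.f560935 IH) (Lpr_ff (K43.f560929 IH) (Lpn (LP (LK LD1_c22 LD2_c55 LD3_c34))))))
theorem f515445 : Led Lsl_ft (LP (LK LD1_c13 LD2_c28 LD3_c41)) = (LP (LK LD1_c7 LD2_c9 LD3_c18)) :=
  Lgr Lrot142 (Lpr_dt (K33.f456090 IH) (Lpr_ct (K33.f456084 IH) (Lpr_dt (K33.f456093 IH) (Lpr_ct (K33.f456094 IH) (Lpr_dt (K33.f456095 IH) (Lpr_ct (K33.f515436 IH) (Lpr_dt (K33.f515440 IH) (Lpr_ct (K33.f515441 IH) (Lpe (K43.f515444 IH) (Lpn (LP (LK LD1_c7 LD2_c9 LD3_c18))))))))))))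
theorem f515451 : Led Lsl_gt (LP (LK LD1_c13 LD2_c28 LD3_c41)) = (LP (LK LD1_c22 LD2_c48 LD3_c30)) :=
  Lre_g IH (LK LD1_c13 LD2_c28 LD3_c41) (LK LD1_c22 LD2_c48 LD3_c30) Lrfl Lrfl
theorem f515452 : Led Lsl_gt (LP (LK LD1_c22 LD2_c48 LD3_c30)) = (LP (LK LD1_c13 LD2_c33 LD3_c4)) :=
  Lgr Lrot46 (Lpe (f515451 IH) (Lpr_ft (f515445 IH) (Lpr_at (K43.f515444 IH) (Lpn (LP (LK LD1_c13 LD2_c33 LD3_c4))))))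
theorem f523623 : Led Lsl_ct (LP (LK LD1_c13 LD2_c51 LD3_c50)) = (LP (LK LD1_c22 LD2_c45 LD3_c12)) :=
  Lgr Lrot59 (Lpr_cf (f523621 IH) (Lpn (LP (LK LD1_c22 LD2_c45 LD3_c12))))
theorem f450809 : Led Lsl_gt (LP (LK LD1_c13 LD2_c34 LD3_c0)) = (LP (LK LD1_c22 LD2_c57 LD3_c3)) :=
  Lre_g IH (LK LD1_c13 LD2_c34 LD3_c0) (LK LD1_c22 LD2_c57 LD3_c3) Lrfl Lrfl
theorem f522284 : Led Lsl_gt (LP (LK LD1_c22 LD2_c57 LD3_c3)) = (LP (LK LD1_c13 LD2_c51 LD3_c50)) :=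
  Lgr Lrot46 (Lpe (f450809 IH) (Lpr_ft (f522192 IH) (Lpr_at (f522278 IH) (Lpn (LP (LK LD1_c13 LD2_c51 LD3_c50))))))
theorem f610674 : Led Lsl_dt (LP (LK LD1_c22 LD2_c48 LD3_c30)) = (LP (LK LD1_c22 LD2_c57 LD3_c3)) :=
  Lgr Lrot6 (Lpr_gt (f515452 IH) (Lpr_ct (K43.f515426 IH) (Lpe (f576724 IH) (Lpr_ct (f576663 IH) (Lpe (f576656 IH) (Lpe (f469419 IH) (Lpr_gf (f610672 IH) (Lpe (f523623 IH) (Lpe (f522284 IH) (Lpn (LP (LK LD1_c22 LD2_c57 LD3_c3))))))))))))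
theorem f227870 : Led Lsl_ef (LP (LK LD1_c24 LD2_c54 LD3_c10)) = (LP (LK LD1_c21 LD2_c14 LD3_c58)) :=
  Lgr Lrot88 (Lpr_et (K40.f227861 IH) (Lpn (LP (LK LD1_c21 LD2_c14 LD3_c58))))
theorem f30801 : Led Lsl_et (LP (LK LD1_c15 LD2_c8 LD3_c52)) = (LP (LK LD1_c8 LD2_c2 LD3_c41)) :=
  Lre_e IH (LK LD1_c15 LD2_c8 LD3_c52) (LK LD1_c8 LD2_c2 LD3_c41) Lrfl Lrfl
theorem f410598 : Led Lsl_ff (LP (LK LD1_c5 LD2_c46 LD3_c46)) = (LP (LK LD1_c6 LD2_c15 LD3_c15)) :=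
  Lgr Lrot25 (Lpr_bt (K43.f241091 IH) (Lpr_ft (K43.f410594 IH) (Lpr_bt (K41.f410597 IH) (Lpn (LP (LK LD1_c6 LD2_c15 LD3_c15))))))
theorem f410604 : Led Lsl_ft (LP (LK LD1_c5 LD2_c46 LD3_c46)) = (LP (LK LD1_c6 LD2_c15 LD3_c15)) :=
  Lgr Lrot48 (Lpr_ff (f410598 IH) (Lpn (LP (LK LD1_c6 LD2_c15 LD3_c15))))
theorem f410606 : Led Lsl_af (LP (LK LD1_c5 LD2_c46 LD3_c44)) = (LP (LK LD1_c6 LD2_c15 LD3_c15)) :=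
  Lgr Lrot45 (Lpe (K16.f272377 IH) (Lpr_at (K16.f272381 IH) (Lpr_ft (f410604 IH) (Lpn (LP (LK LD1_c6 LD2_c15 LD3_c15))))))
theorem f175846 : Led Lsl_et (LP (LK LD1_c5 LD2_c46 LD3_c44)) = (LP (LK LD1_c11 LD2_c23 LD3_c42)) :=
  Lre_e IH (LK LD1_c5 LD2_c46 LD3_c44) (LK LD1_c11 LD2_c23 LD3_c42) Lrfl Lrfl
theorem f101379 : Led Lsl_et (LP (LK LD1_c12 LD2_c8 LD3_c46)) = (LP (LK LD1_c6 LD2_c15 LD3_c15)) :=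
  Lre_e IH (LK LD1_c12 LD2_c8 LD3_c46) (LK LD1_c6 LD2_c15 LD3_c15) Lrfl Lrfl
theorem f410631 : Led Lsl_at (LP (LK LD1_c11 LD2_c23 LD3_c42)) = (LP (LK LD1_c12 LD2_c8 LD3_c46)) :=
  Lgr Lrot80 (Lpe (f175846 IH) (Lpr_af (f410606 IH) (Lpe (f101379 IH) (Lpn (LP (LK LD1_c12 LD2_c8 LD3_c46))))))
theorem f410633 : Led Lsl_af (LP (LK LD1_c11 LD2_c23 LD3_c42)) = (LP (LK LD1_c12 LD2_c8 LD3_c46)) :=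
  Lgr Lrot0 (Lpr_at (f410631 IH) (Lpn (LP (LK LD1_c12 LD2_c8 LD3_c46))))
theorem f227877 : Led Lsl_dt (LP (LK LD1_c11 LD2_c23 LD3_c42)) = (LP (LK LD1_c15 LD2_c8 LD3_c52)) :=
  Lgr Lrot77 (Lpe (f175846 IH) (Lpe (K13.f175845 IH) (Lpr_ef (K13.f175841 IH) (Lpr_df (K12.f227856 IH) (Lpe (f30801 IH) (Lpn (LP (LK LD1_c15 LD2_c8 LD3_c52))))))))
theorem f193736 : Led Lsl_et (LP (LK LD1_c6 LD2_c13 LD3_c39)) = (LP (LK LD1_c12 LD2_c6 LD3_c4)) :=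
  Lre_e IH (LK LD1_c6 LD2_c13 LD3_c39) (LK LD1_c12 LD2_c6 LD3_c4) Lrfl Lrfl
theorem f193737 : Led Lsl_dt (LP (LK LD1_c12 LD2_c6 LD3_c4)) = (LP (LK LD1_c12 LD2_c8 LD3_c46)) :=
  Lgr Lrot77 (Lpe (f193736 IH) (Lpr_df (K10.f193731 IH) (Lpe (K16.f101369 IH) (Lpe (K38.f60456 IH) (Lpe (f101379 IH) (Lpn (LP (LK LD1_c12 LD2_c8 LD3_c46))))))))
theorem f410643 : Led Lsl_at (LP (LK LD1_c15 LD2_c8 LD3_c52)) = (LP (LK LD1_c12 LD2_c6 LD3_c4)) :=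
  Lgr Lrot51 (Lpe (f227877 IH) (Lpr_af (f410633 IH) (Lpe (f193737 IH) (Lpn (LP (LK LD1_c12 LD2_c6 LD3_c4))))))
theorem f410645 : Led Lsl_af (LP (LK LD1_c15 LD2_c8 LD3_c52)) = (LP (LK LD1_c12 LD2_c6 LD3_c4)) :=
  Lgr Lrot0 (Lpr_at (f410643 IH) (Lpn (LP (LK LD1_c12 LD2_c6 LD3_c4))))
theorem f240799 : Led Lsl_ft (LP (LK LD1_c20 LD2_c21 LD3_c37)) = (LP (LK LD1_c11 LD2_c23 LD3_c45)) :=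
  Lre_f IH (LK LD1_c20 LD2_c21 LD3_c37) (LK LD1_c11 LD2_c23 LD3_c45) Lrfl Lrfl
theorem f101377 : Led Lsl_et (LP (LK LD1_c6 LD2_c15 LD3_c15)) = (LP (LK LD1_c12 LD2_c8 LD3_c46)) :=
  Lre_e IH (LK LD1_c6 LD2_c15 LD3_c15) (LK LD1_c12 LD2_c8 LD3_c46) Lrfl Lrfl
theorem f410610 : Led Lsl_ft (LP (LK LD1_c12 LD2_c8 LD3_c46)) = (LP (LK LD1_c21 LD2_c15 LD3_c6)) :=
  Lre_f IH (LK LD1_c12 LD2_c8 LD3_c46) (LK LD1_c21 LD2_c15 LD3_c6) Lrfl Lrfl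
theorem f410611 : Led Lsl_ef (LP (LK LD1_c20 LD2_c21 LD3_c37)) = (LP (LK LD1_c21 LD2_c15 LD3_c6)) :=
  Lgr Lrot21 (Lpr_ft (f240799 IH) (Lpr_et (K16.f240776 IH) (Lpr_ft (f410604 IH) (Lpr_et (f101377 IH) (Lpr_ft (f410610 IH) (Lpn (LP (LK LD1_c21 LD2_c15 LD3_c6))))))))
theorem f240791 : Led Lsl_dt (LP (LK LD1_c11 LD2_c23 LD3_c45)) = (LP (LK LD1_c10 LD2_c1 LD3_c19)) :=
  Lgr Lrot77 (Lpe (K16.f240789 IH) (Lpe (K13.f60640 IH) (Lpr_ef (K13.f240779 IH) (Lpe (K13.f240659 IH) (Lpe (K16.f240790 IH) (Lpn (LP (LK LD1_c10 LD2_c1 LD3_c19))))))))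
theorem f240801 : Led Lsl_df (LP (LK LD1_c20 LD2_c21 LD3_c37)) = (LP (LK LD1_c18 LD2_c18 LD3_c53)) :=
  Lgr Lrot78 (Lpr_ft (f240799 IH) (Lpr_dt (f240791 IH) (Lpr_ft (K40.f240800 IH) (Lpn (LP (LK LD1_c18 LD2_c18 LD3_c53))))))
theorem f240812 : Led Lsl_dt (LP (LK LD1_c20 LD2_c21 LD3_c37)) = (LP (LK LD1_c18 LD2_c18 LD3_c53)) :=
  Lgr Lrot42 (Lpr_df (f240801 IH) (Lpn (LP (LK LD1_c18 LD2_c18 LD3_c53))))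
theorem f241189 : Led Lsl_et (LP (LK LD1_c8 LD2_c2 LD3_c40)) = (LP (LK LD1_c15 LD2_c8 LD3_c50)) :=
  Lre_e IH (LK LD1_c8 LD2_c2 LD3_c40) (LK LD1_c15 LD2_c8 LD3_c50) Lrfl Lrfl
theorem f272334 : Led Lsl_ft (LP (LK LD1_c15 LD2_c8 LD3_c50)) = (LP (LK LD1_c24 LD2_c57 LD3_c47)) :=
  Lre_f IH (LK LD1_c15 LD2_c8 LD3_c50) (LK LD1_c24 LD2_c57 LD3_c47) Lrfl Lrfl
theorem f193746 : Led Lsl_et (LP (LK LD1_c12 LD2_c6 LD3_c4)) = (LP (LK LD1_c6 LD2_c13 LD3_c39)) :=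
  Lre_e IH (LK LD1_c12 LD2_c6 LD3_c4) (LK LD1_c6 LD2_c13 LD3_c39) Lrfl Lrfl
theorem f198408 : Led Lsl_ft (LP (LK LD1_c21 LD2_c12 LD3_c6)) = (LP (LK LD1_c12 LD2_c6 LD3_c4)) :=
  Lre_f IH (LK LD1_c21 LD2_c12 LD3_c6) (LK LD1_c12 LD2_c6 LD3_c4) Lrfl Lrfl
theorem f272335 : Led Lsl_et (LP (LK LD1_c24 LD2_c57 LD3_c47)) = (LP (LK LD1_c21 LD2_c12 LD3_c6)) :=
  Lgr Lrot69 (Lpe (f272334 IH) (Lpe (f241189 IH) (Lpr_ff (K16.f272326 IH) (Lpe (f193746 IH) (Lpe (f198408 IH) (Lpn (LP (LK LD1_c21 LD2_c12 LD3_c6))))))))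
theorem f410613 : Led Lsl_dt (LP (LK LD1_c21 LD2_c12 LD3_c6)) = (LP (LK LD1_c21 LD2_c15 LD3_c6)) :=
  Lgr Lrot77 (Lpe (f272335 IH) (Lpr_df (K40.f273098 IH) (Lpr_ef (K40.f273003 IH) (Lpe (f240812 IH) (Lpr_ef (f410611 IH) (Lpn (LP (LK LD1_c21 LD2_c15 LD3_c6))))))))
theorem f198421 : Led Lsl_ft (LP (LK LD1_c12 LD2_c6 LD3_c4)) = (LP (LK LD1_c21 LD2_c12 LD3_c6)) :=
  Lre_f IH (LK LD1_c12 LD2_c6 LD3_c4) (LK LD1_c21 LD2_c12 LD3_c6) Lrfl Lrfl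
theorem f410601 : Led Lsl_ft (LP (LK LD1_c21 LD2_c15 LD3_c6)) = (LP (LK LD1_c12 LD2_c8 LD3_c46)) :=
  Lre_f IH (LK LD1_c21 LD2_c15 LD3_c6) (LK LD1_c12 LD2_c8 LD3_c46) Lrfl Lrfl
theorem f410617 : Led Lsl_df (LP (LK LD1_c12 LD2_c6 LD3_c4)) = (LP (LK LD1_c12 LD2_c8 LD3_c46)) :=
  Lgr Lrot78 (Lpr_ft (f198421 IH) (Lpr_dt (f410613 IH) (Lpr_ft (f410601 IH) (Lpn (LP (LK LD1_c12 LD2_c8 LD3_c46))))))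
theorem f410667 : Led Lsl_dt (LP (LK LD1_c15 LD2_c8 LD3_c52)) = (LP (LK LD1_c11 LD2_c23 LD3_c42)) :=
  Lgr Lrot44 (Lpr_af (f410645 IH) (Lpr_df (f410617 IH) (Lpe (f410631 IH) (Lpn (LP (LK LD1_c11 LD2_c23 LD3_c42))))))
theorem f241352 : Led Lsl_gt (LP (LK LD1_c11 LD2_c23 LD3_c42)) = (LP (LK LD1_c20 LD2_c21 LD3_c33)) :=
  Lre_g IH (LK LD1_c11 LD2_c23 LD3_c42) (LK LD1_c20 LD2_c21 LD3_c33) Lrfl Lrfl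
theorem f70136 : Led Lsl_et (LP (LK LD1_c21 LD2_c12 LD3_c35)) = (LP (LK LD1_c12 LD2_c6 LD3_c33)) :=
  Lre_e IH (LK LD1_c21 LD2_c12 LD3_c35) (LK LD1_c12 LD2_c6 LD3_c33) Lrfl Lrfl
theorem f444857 : Led Lsl_et (LP (LK LD1_c8 LD2_c51 LD3_c5)) = (LP (LK LD1_c16 LD2_c32 LD3_c58)) :=
  Lre_e IH (LK LD1_c8 LD2_c51 LD3_c5) (LK LD1_c16 LD2_c32 LD3_c58) Lrfl Lrfl
theorem f444858 : Led Lsl_df (LP (LK LD1_c21 LD2_c12 LD3_c35)) = (LP (LK LD1_c16 LD2_c32 LD3_c58)) :=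
  Lgr Lrot70 (Lpr_et (f70136 IH) (Lpr_dt (K37.f444850 IH) (Lpr_et (K37.f444855 IH) (Lpr_dt (K37.f444856 IH) (Lpr_et (f444857 IH) (Lpn (LP (LK LD1_c16 LD2_c32 LD3_c58))))))))
theorem f444864 : Led Lsl_dt (LP (LK LD1_c21 LD2_c12 LD3_c35)) = (LP (LK LD1_c16 LD2_c32 LD3_c58)) :=
  Lgr Lrot42 (Lpr_df (f444858 IH) (Lpn (LP (LK LD1_c16 LD2_c32 LD3_c58))))
theorem f241364 : Led Lsl_et (LP (LK LD1_c3 LD2_c3 LD3_c51)) = (LP (LK LD1_c6 LD2_c13 LD3_c59)) :=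
  Lre_e IH (LK LD1_c3 LD2_c3 LD3_c51) (LK LD1_c6 LD2_c13 LD3_c59) Lrfl Lrfl
theorem f444871 : Led Lsl_gt (LP (LK LD1_c26 LD2_c29 LD3_c45)) = (LP (LK LD1_c16 LD2_c32 LD3_c58)) :=
  Lre_g IH (LK LD1_c26 LD2_c29 LD3_c45) (LK LD1_c16 LD2_c32 LD3_c58) Lrfl Lrfl
theorem f444885 : Led Lsl_dt (LP (LK LD1_c20 LD2_c21 LD3_c33)) = (LP (LK LD1_c26 LD2_c29 LD3_c45)) :=
  Lgr Lrot171 (Lpe (f241352 IH) (Lpe (f175846 IH) (Lpr_dt (K16.f175878 IH) (Lpr_gf (K13.f197821 IH) (Lpe (K2.f37173 IH) (Lpr_et (f241364 IH) (Lpe (K37.f70132 IH) (Lpe (f70136 IH) (Lpr_dt (f444864 IH) (Lpe (f444871 IH) (Lpn (LP (LK LD1_c26 LD2_c29 LD3_c45)))))))))))))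
theorem f444887 : Led Lsl_df (LP (LK LD1_c20 LD2_c21 LD3_c33)) = (LP (LK LD1_c26 LD2_c29 LD3_c45)) :=
  Lgr Lrot38 (Lpr_dt (f444885 IH) (Lpn (LP (LK LD1_c26 LD2_c29 LD3_c45))))
theorem f609234 : Led Lsl_ef (LP (LK LD1_c31 LD2_c38 LD3_c45)) = (LP (LK LD1_c26 LD2_c29 LD3_c45)) :=
  Lgr Lrot167 (Lpr_gt (f609232 IH) (Lpr_dt (K40.f30206 IH) (Lpr_gt (K40.f29771 IH) (Lpe (K1.f36695 IH) (Lpr_et (K40.f36709 IH) (Lpr_gt (K12.f36779 IH) (Lpe (f30801 IH) (Lpr_dt (f410667 IH) (Lpr_gt (f241352 IH) (Lpr_df (f444887 IH) (Lpn (LP (LK LD1_c26 LD2_c29 LD3_c45)))))))))))))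
theorem f227866 : Led Lsl_gt (LP (LK LD1_c24 LD2_c57 LD3_c49)) = (LP (LK LD1_c15 LD2_c8 LD3_c52)) :=
  Lre_g IH (LK LD1_c24 LD2_c57 LD3_c49) (LK LD1_c15 LD2_c8 LD3_c52) Lrfl Lrfl
theorem f610683 : Led Lsl_et (LP (LK LD1_c22 LD2_c48 LD3_c30)) = (LP (LK LD1_c24 LD2_c57 LD3_c49)) :=
  Lgr Lrot121 (Lpr_dt (f610674 IH) (Lpe (f450809 IH) (Lpe (f609171 IH) (Lpe (f227870 IH) (Lpe (f609232 IH) (Lpr_ef (f609234 IH) (Lpe (f444887 IH) (Lpe (f241352 IH) (Lpe (f410667 IH) (Lpe (f227866 IH) (Lpn (LP (LK LD1_c24 LD2_c57 LD3_c49)))))))))))))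
theorem f610687 : Led Lsl_ef (LP (LK LD1_c22 LD2_c48 LD3_c30)) = (LP (LK LD1_c24 LD2_c57 LD3_c49)) :=
  Lgr Lrot88 (Lpr_et (f610683 IH) (Lpn (LP (LK LD1_c24 LD2_c57 LD3_c49))))
theorem f566945 : Led Lsl_bt (LP (LK LD1_c11 LD2_c35 LD3_c22)) = (LP (LK LD1_c5 LD2_c54 LD3_c60)) :=
  Lre_b IH (LK LD1_c11 LD2_c35 LD3_c22) (LK LD1_c5 LD2_c54 LD3_c60) Lrfl Lrfl
theorem f566946 : Led Lsl_ff (LP (LK LD1_c11 LD2_c35 LD3_c22)) = (LP (LK LD1_c7 LD2_c33 LD3_c51)) :=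
  Lgr Lrot25 (Lpr_bt (f566945 IH) (Lpr_ft (K41.f566942 IH) (Lpr_bt (K45.f543960 IH) (Lpn (LP (LK LD1_c7 LD2_c33 LD3_c51))))))
theorem f97001 : Led Lsl_gt (LP (LK LD1_c7 LD2_c33 LD3_c51)) = (LP (LK LD1_c14 LD2_c15 LD3_c49)) :=
  Lre_g IH (LK LD1_c7 LD2_c33 LD3_c51) (LK LD1_c14 LD2_c15 LD3_c49) Lrfl Lrfl
theorem f591129 : Led Lsl_gf (LP (LK LD1_c8 LD2_c38 LD3_c58)) = (LP (LK LD1_c14 LD2_c15 LD3_c49)) :=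
  Lgr Lrot76 (Lpr_af (K45.f591117 IH) (Lpr_ff (f566946 IH) (Lpr_gt (f97001 IH) (Lpn (LP (LK LD1_c14 LD2_c15 LD3_c49))))))
theorem f572695 : Led Lsl_ef (LP (LK LD1_c8 LD2_c10 LD3_c30)) = (LP (LK LD1_c4 LD2_c20 LD3_c37)) :=
  Lgr Lrot29 (Lpr_bt (K42.f572689 IH) (Lpe (K42.f571556 IH) (Lpe (K42.f571591 IH) (Lpn (LP (LK LD1_c4 LD2_c20 LD3_c37))))))
theorem f591133 : Led Lsl_dt (LP (LK LD1_c9 LD2_c14 LD3_c59)) = (LP (LK LD1_c14 LD2_c15 LD3_c49)) :=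
  Lgr Lrot57 (Lpe (K42.f563648 IH) (Lpe (K43.f81008 IH) (Lpr_gt (K43.f563656 IH) (Lpr_dt (K42.f225122 IH) (Lpr_gt (K42.f386154 IH) (Lpr_dt (K42.f566097 IH) (Lpe (K42.f572709 IH) (Lpe (K45.f572713 IH) (Lpr_gf (f591129 IH) (Lpn (LP (LK LD1_c14 LD2_c15 LD3_c49))))))))))))
theorem f591139 : Led Lsl_ef (LP (LK LD1_c8 LD2_c46 LD3_c9)) = (LP (LK LD1_c9 LD2_c14 LD3_c59)) :=
  Lgr Lrot17 (Lpr_gf (K45.f587787 IH) (Lpe (K45.f587767 IH) (Lpr_dt (K45.f225147 IH) (Lpe (K45.f587800 IH) (Lpr_df (K42.f193413 IH) (Lpe (K42.f193431 IH) (Lpr_ef (f572695 IH) (Lpr_dt (K42.f572703 IH) (Lpr_gf (f591129 IH) (Lpe (f591133 IH) (Lpn (LP (LK LD1_c9 LD2_c14 LD3_c59)))))))))))))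
theorem f573649 : Led Lsl_ff (LP (LK LD1_c7 LD2_c14 LD3_c30)) = (LP (LK LD1_c13 LD2_c26 LD3_c44)) :=
  Lgr Lrot23 (Lpr_ct (K42.f98342 IH) (Lpr_ft (K43.f573645 IH) (Lpr_ct (K42.f540977 IH) (Lpn (LP (LK LD1_c13 LD2_c26 LD3_c44))))))
theorem f591147 : Led Lsl_ft (LP (LK LD1_c8 LD2_c46 LD3_c9)) = (LP (LK LD1_c12 LD2_c8 LD3_c43)) :=
  Lgr Lrot86 (Lpr_ef (f591139 IH) (Lpe (K41.f556867 IH) (Lpr_ef (K43.f572667 IH) (Lpr_ff (f573649 IH) (Lpr_ef (K43.f573542 IH) (Lpn (LP (LK LD1_c12 LD2_c8 LD3_c43))))))))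
theorem f549194 : Led Lsl_ct (LP (LK LD1_c21 LD2_c12 LD3_c49)) = (LP (LK LD1_c26 LD2_c39 LD3_c39)) :=
  Lgr Lrot59 (Lpr_cf (K42.f549189 IH) (Lpn (LP (LK LD1_c26 LD2_c39 LD3_c39))))
theorem f197901 : Led Lsl_bt (LP (LK LD1_c12 LD2_c6 LD3_c45)) = (LP (LK LD1_c21 LD2_c12 LD3_c49)) :=
  Lre_b IH (LK LD1_c12 LD2_c6 LD3_c45) (LK LD1_c21 LD2_c12 LD3_c49) Lrfl Lrfl
theorem f549196 : Led Lsl_cf (LP (LK LD1_c12 LD2_c6 LD3_c44)) = (LP (LK LD1_c19 LD2_c17 LD3_c40)) :=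
  Lgr Lrot97 (Lpr_bt (K39.f198285 IH) (Lpr_ct (K10.f197834 IH) (Lpr_bt (f197901 IH) (Lpr_ct (f549194 IH) (Lpr_bt (K42.f376621 IH) (Lpn (LP (LK LD1_c19 LD2_c17 LD3_c40))))))))
theorem f591153 : Led Lsl_ct (LP (LK LD1_c16 LD2_c24 LD3_c27)) = (LP (LK LD1_c10 LD2_c36 LD3_c32)) :=
  Lgr Lrot133 (Lpe (K45.f587791 IH) (Lpr_ft (f591147 IH) (Lpr_at (K42.f241555 IH) (Lpe (K39.f410591 IH) (Lpe (K39.f410573 IH) (Lpr_cf (f549196 IH) (Lpe (K42.f331758 IH) (Lpe (K42.f331756 IH) (Lpe (K41.f397375 IH) (Lpn (LP (LK LD1_c10 LD2_c36 LD3_c32))))))))))))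
theorem f181301 : Led Lsl_bt (LP (LK LD1_c9 LD2_c2 LD3_c23)) = (LP (LK LD1_c11 LD2_c11 LD3_c18)) :=
  Lgr Lrot127 (Lpr_bf (K39.f181297 IH) (Lpn (LP (LK LD1_c11 LD2_c11 LD3_c18))))
theorem f591159 : Led Lsl_bt (LP (LK LD1_c16 LD2_c24 LD3_c27)) = (LP (LK LD1_c11 LD2_c6 LD3_c17)) :=
  Lgr Lrot22 (Lpr_ct (f591153 IH) (Lpr_gf (K41.f400051 IH) (Lpe (K42.f400045 IH) (Lpe (K41.f400041 IH) (Lpe (K31.f262276 IH) (Lpr_ct (K30.f210441 IH) (Lpe (K30.f411670 IH) (Lpe (K39.f181303 IH) (Lpr_bt (f181301 IH) (Lpr_gf (K39.f551813 IH) (Lpn (LP (LK LD1_c11 LD2_c6 LD3_c17)))))))))))))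
theorem f551815 : Led Lsl_af (LP (LK LD1_c11 LD2_c59 LD3_c16)) = (LP (LK LD1_c11 LD2_c6 LD3_c17)) :=
  Lgr Lrot117 (Lpr_dt (K38.f212091 IH) (Lpr_at (K39.f551808 IH) (Lpr_dt (K39.f547402 IH) (Lpn (LP (LK LD1_c11 LD2_c6 LD3_c17))))))
theorem f591161 : Led Lsl_af (LP (LK LD1_c16 LD2_c24 LD3_c27)) = (LP (LK LD1_c11 LD2_c23 LD3_c43)) :=
  Lgr Lrot36 (Lpr_bt (f591159 IH) (Lpe (f551815 IH) (Lpr_bt (K38.f212092 IH) (Lpr_at (K16.f272381 IH) (Lpr_bt (K43.f241091 IH) (Lpn (LP (LK LD1_c11 LD2_c23 LD3_c43))))))))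
theorem f197508 : Led Lsl_dt (LP (LK LD1_c11 LD2_c23 LD3_c43)) = (LP (LK LD1_c5 LD2_c46 LD3_c45)) :=
  Lre_d IH (LK LD1_c11 LD2_c23 LD3_c43) (LK LD1_c5 LD2_c46 LD3_c45) Lrfl Lrfl
theorem f410587 : Led Lsl_ff (LP (LK LD1_c11 LD2_c23 LD3_c43)) = (LP (LK LD1_c12 LD2_c8 LD3_c44)) :=
  Lgr Lrot19 (Lpr_dt (f197508 IH) (Lpr_ft (K39.f410583 IH) (Lpr_dt (K41.f410586 IH) (Lpn (LP (LK LD1_c12 LD2_c8 LD3_c44))))))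
theorem f410630 : Led Lsl_at (LP (LK LD1_c21 LD2_c15 LD3_c1)) = (LP (LK LD1_c12 LD2_c8 LD3_c44)) :=
  Lre_a IH (LK LD1_c21 LD2_c15 LD3_c1) (LK LD1_c12 LD2_c8 LD3_c44) Lrfl Lrfl
theorem f591171 : Led Lsl_ft (LP (LK LD1_c16 LD2_c24 LD3_c27)) = (LP (LK LD1_c21 LD2_c15 LD3_c1)) :=
  Lgr Lrot101 (Lpr_af (f591161 IH) (Lpr_ff (f410587 IH) (Lpe (f410630 IH) (Lpn (LP (LK LD1_c21 LD2_c15 LD3_c1))))))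
theorem f587757 : Led Lsl_dt (LP (LK LD1_c13 LD2_c29 LD3_c25)) = (LP (LK LD1_c12 LD2_c8 LD3_c42)) :=
  Lgr Lrot42 (Lpr_df (K45.f587755 IH) (Lpn (LP (LK LD1_c12 LD2_c8 LD3_c42))))
theorem f588296 : Led Lsl_ct (LP (LK LD1_c10 LD2_c36 LD3_c32)) = (LP (LK LD1_c16 LD2_c24 LD3_c27)) :=
  Lgr Lrot7 (Lpr_df (K41.f397373 IH) (Lpe (K41.f331754 IH) (Lpe (K22.f168720 IH) (Lpr_gf (K41.f331773 IH) (Lpr_cf (K45.f588288 IH) (Lpr_gt (K45.f530802 IH) (Lpr_dt (f587757 IH) (Lpe (K45.f587787 IH) (Lpr_dt (K45.f587791 IH) (Lpn (LP (LK LD1_c16 LD2_c24 LD3_c27))))))))))))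
theorem f246602 : Led Lsl_ct (LP (LK LD1_c9 LD2_c38 LD3_c28)) = (LP (LK LD1_c10 LD2_c40 LD3_c21)) :=
  Lgr Lrot59 (Lpr_cf (K18.f246598 IH) (Lpn (LP (LK LD1_c10 LD2_c40 LD3_c21))))
theorem f373757 : Led Lsl_ff (LP (LK LD1_c16 LD2_c15 LD3_c10)) = (LP (LK LD1_c10 LD2_c40 LD3_c21)) :=
  Lgr Lrot23 (Lpr_ct (K31.f243208 IH) (Lpr_ft (K27.f373750 IH) (Lpr_ct (f246602 IH) (Lpn (LP (LK LD1_c10 LD2_c40 LD3_c21))))))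
theorem f374554 : Led Lsl_dt (LP (LK LD1_c16 LD2_c15 LD3_c10)) = (LP (LK LD1_c10 LD2_c31 LD3_c61)) :=
  Lgr Lrot60 (Lpr_ff (f373757 IH) (Lpe (K18.f246597 IH) (Lpr_ff (K39.f374539 IH) (Lpn (LP (LK LD1_c10 LD2_c31 LD3_c61))))))
theorem f374558 : Led Lsl_bf (LP (LK LD1_c16 LD2_c22 LD3_c43)) = (LP (LK LD1_c10 LD2_c31 LD3_c61)) :=
  Lgr Lrot93 (Lpr_dt (K41.f181880 IH) (Lpe (K31.f373777 IH) (Lpr_dt (f374554 IH) (Lpn (LP (LK LD1_c10 LD2_c31 LD3_c61))))))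
theorem f374544 : Led Lsl_ft (LP (LK LD1_c5 LD2_c24 LD3_c51)) = (LP (LK LD1_c10 LD2_c31 LD3_c61)) :=
  Lgr Lrot4 (Lpe (K27.f223765 IH) (Lpr_ff (K31.f374542 IH) (Lpe (K31.f220771 IH) (Lpn (LP (LK LD1_c10 LD2_c31 LD3_c61))))))
theorem f374561 : Led Lsl_ft (LP (LK LD1_c16 LD2_c22 LD3_c43)) = (LP (LK LD1_c10 LD2_c40 LD3_c19)) :=
  Lgr Lrot75 (Lpr_bf (f374558 IH) (Lpe (f374544 IH) (Lpe (K18.f223756 IH) (Lpn (LP (LK LD1_c10 LD2_c40 LD3_c19))))))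
theorem f297382 : Led Lsl_af (LP (LK LD1_c19 LD2_c17 LD3_c5)) = (LP (LK LD1_c10 LD2_c40 LD3_c19)) :=
  Lgr Lrot117 (Lpr_dt (K18.f297378 IH) (Lpr_at (K31.f210768 IH) (Lpr_dt (K18.f246619 IH) (Lpn (LP (LK LD1_c10 LD2_c40 LD3_c19))))))
theorem f331794 : Led Lsl_ff (LP (LK LD1_c10 LD2_c41 LD3_c32)) = (LP (LK LD1_c19 LD2_c17 LD3_c5)) :=
  Lgr Lrot23 (Lpr_ct (K22.f331788 IH) (Lpr_ft (K18.f297431 IH) (Lpr_ct (K18.f218696 IH) (Lpn (LP (LK LD1_c19 LD2_c17 LD3_c5))))))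
theorem f374563 : Led Lsl_af (LP (LK LD1_c16 LD2_c22 LD3_c43)) = (LP (LK LD1_c10 LD2_c41 LD3_c32)) :=
  Lgr Lrot45 (Lpr_ft (f374561 IH) (Lpe (f297382 IH) (Lpe (f331794 IH) (Lpn (LP (LK LD1_c10 LD2_c41 LD3_c32))))))
theorem f393908 : Led Lsl_gt (LP (LK LD1_c19 LD2_c17 LD3_c5)) = (LP (LK LD1_c10 LD2_c41 LD3_c33)) :=
  Lgr Lrot5 (Lpe (f331794 IH) (Lpe (f374563 IH) (Lpr_gf (K41.f393906 IH) (Lpn (LP (LK LD1_c10 LD2_c41 LD3_c33))))))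
theorem f297395 : Led Lsl_ft (LP (LK LD1_c8 LD2_c44 LD3_c60)) = (LP (LK LD1_c14 LD2_c58 LD3_c60)) :=
  Lgr Lrot101 (Lpe (K18.f201533 IH) (Lpr_ff (K18.f297393 IH) (Lpe (K22.f210774 IH) (Lpn (LP (LK LD1_c14 LD2_c58 LD3_c60))))))
theorem f201472 : Led Lsl_gt (LP (LK LD1_c8 LD2_c44 LD3_c60)) = (LP (LK LD1_c16 LD2_c22 LD3_c41)) :=
  Lre_g IH (LK LD1_c8 LD2_c44 LD3_c60) (LK LD1_c16 LD2_c22 LD3_c41) Lrfl Lrfl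
theorem f406900 : Led Lsl_gt (LP (LK LD1_c16 LD2_c22 LD3_c41)) = (LP (LK LD1_c24 LD2_c46 LD3_c27)) :=
  Lgr Lrot46 (Lpe (f201472 IH) (Lpr_ft (f297395 IH) (Lpr_at (K22.f210774 IH) (Lpn (LP (LK LD1_c24 LD2_c46 LD3_c27))))))
theorem f573535 : Led Lsl_cf (LP (LK LD1_c13 LD2_c29 LD3_c23)) = (LP (LK LD1_c16 LD2_c22 LD3_c41)) :=
  Lgr Lrot166 (Lpr_gt (K43.f573529 IH) (Lpr_dt (K43.f547359 IH) (Lpr_gt (K42.f566642 IH) (Lpr_dt (K42.f569751 IH) (Lpe (K42.f569755 IH) (Lpe (K41.f331850 IH) (Lpe (f393908 IH) (Lpr_df (K18.f297384 IH) (Lpe (f406900 IH) (Lpn (LP (LK LD1_c16 LD2_c22 LD3_c41))))))))))))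
theorem f332233 : Led Lsl_at (LP (LK LD1_c9 LD2_c44 LD3_c6)) = (LP (LK LD1_c17 LD2_c53 LD3_c28)) :=
  Lre_a IH (LK LD1_c9 LD2_c44 LD3_c6) (LK LD1_c17 LD2_c53 LD3_c28) Lrfl Lrfl
theorem f332234 : Led Lsl_ct (LP (LK LD1_c10 LD2_c41 LD3_c11)) = (LP (LK LD1_c9 LD2_c44 LD3_c6)) :=
  Lgr Lrot111 (Lpe (K41.f331836 IH) (Lpr_cf (K22.f332231 IH) (Lpe (f332233 IH) (Lpn (LP (LK LD1_c9 LD2_c44 LD3_c6))))))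
theorem f168733 : Led Lsl_ct (LP (LK LD1_c4 LD2_c56 LD3_c13)) = (LP (LK LD1_c2 LD2_c25 LD3_c55)) :=
  Lre_c IH (LK LD1_c4 LD2_c56 LD3_c13) (LK LD1_c2 LD2_c25 LD3_c55) Lrfl Lrfl
theorem f168734 : Led Lsl_bt (LP (LK LD1_c4 LD2_c56 LD3_c13)) = (LP (LK LD1_c9 LD2_c44 LD3_c6)) :=
  Lre_b IH (LK LD1_c4 LD2_c56 LD3_c13) (LK LD1_c9 LD2_c44 LD3_c6) Lrfl Lrfl
theorem f168735 : Led Lsl_gt (LP (LK LD1_c9 LD2_c44 LD3_c6)) = (LP (LK LD1_c17 LD2_c50 LD3_c41)) :=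
  Lgr Lrot82 (Lpe (f168734 IH) (Lpr_ct (f168733 IH) (Lpe (K31.f168732 IH) (Lpe (K20.f55371 IH) (Lpr_bt (K20.f168731 IH) (Lpe (K9.f55165 IH) (Lpe (K22.f41158 IH) (Lpr_ct (K38.f167930 IH) (Lpe (K41.f168710 IH) (Lpe (K41.f168729 IH) (Lpn (LP (LK LD1_c17 LD2_c50 LD3_c41)))))))))))))
theorem f573537 : Led Lsl_cf (LP (LK LD1_c19 LD2_c4 LD3_c5)) = (LP (LK LD1_c21 LD2_c15 LD3_c1)) :=
  Lgr Lrot99 (Lpe (K41.f400175 IH) (Lpe (K41.f168729 IH) (Lpe (f168735 IH) (Lpe (f332234 IH) (Lpe (K41.f393910 IH) (Lpe (K39.f201532 IH) (Lpr_gt (f201472 IH) (Lpe (f573535 IH) (Lpr_gt (K43.f573529 IH) (Lpn (LP (LK LD1_c21 LD2_c15 LD3_c1))))))))))))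
theorem f591175 : Led Lsl_ff (LP (LK LD1_c10 LD2_c36 LD3_c32)) = (LP (LK LD1_c19 LD2_c4 LD3_c5)) :=
  Lgr Lrot23 (Lpr_ct (f588296 IH) (Lpr_ft (f591171 IH) (Lpe (f573537 IH) (Lpn (LP (LK LD1_c19 LD2_c4 LD3_c5))))))
theorem f224724 : Led Lsl_gt (LP (LK LD1_c10 LD2_c31 LD3_c17)) = (LP (LK LD1_c19 LD2_c4 LD3_c4)) :=
  Lre_g IH (LK LD1_c10 LD2_c31 LD3_c17) (LK LD1_c19 LD2_c4 LD3_c4) Lrfl Lrfl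
theorem f591181 : Led Lsl_at (LP (LK LD1_c10 LD2_c36 LD3_c32)) = (LP (LK LD1_c19 LD2_c4 LD3_c4)) :=
  Lgr Lrot26 (Lpr_ff (f591175 IH) (Lpr_gt (K41.f169234 IH) (Lpr_gt (f224724 IH) (Lpn (LP (LK LD1_c19 LD2_c4 LD3_c4))))))
theorem f406320 : Led Lsl_gf (LP (LK LD1_c10 LD2_c36 LD3_c29)) = (LP (LK LD1_c19 LD2_c4 LD3_c4)) :=
  Lgr Lrot76 (Lpe (K41.f312945 IH) (Lpr_ff (K41.f303179 IH) (Lpr_gt (f224724 IH) (Lpn (LP (LK LD1_c19 LD2_c4 LD3_c4))))))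
theorem f42179 : Led Lsl_gt (LP (LK LD1_c5 LD2_c20 LD3_c50)) = (LP (LK LD1_c10 LD2_c31 LD3_c44)) :=
  Lre_g IH (LK LD1_c5 LD2_c20 LD3_c50) (LK LD1_c10 LD2_c31 LD3_c44) Lrfl Lrfl
theorem f406322 : Led Lsl_dt (LP (LK LD1_c10 LD2_c31 LD3_c44)) = (LP (LK LD1_c19 LD2_c4 LD3_c4)) :=
  Lgr Lrot57 (Lpe (f42179 IH) (Lpe (K38.f167930 IH) (Lpr_gt (K18.f167939 IH) (Lpe (K18.f246376 IH) (Lpr_gt (K39.f400171 IH) (Lpr_dt (K39.f312921 IH) (Lpe (K38.f312918 IH) (Lpe (K42.f312941 IH) (Lpr_gf (f406320 IH) (Lpn (LP (LK LD1_c19 LD2_c4 LD3_c4))))))))))))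
theorem f406324 : Led Lsl_df (LP (LK LD1_c10 LD2_c31 LD3_c44)) = (LP (LK LD1_c19 LD2_c4 LD3_c4)) :=
  Lgr Lrot38 (Lpr_dt (f406322 IH) (Lpn (LP (LK LD1_c19 LD2_c4 LD3_c4))))
theorem f591187 : Led Lsl_af (LP (LK LD1_c5 LD2_c24 LD3_c11)) = (LP (LK LD1_c10 LD2_c31 LD3_c44)) :=
  Lgr Lrot117 (Lpe (K41.f397373 IH) (Lpr_at (f591181 IH) (Lpe (f406324 IH) (Lpn (LP (LK LD1_c10 LD2_c31 LD3_c44))))))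
theorem f591193 : Led Lsl_ft (LP (LK LD1_c5 LD2_c24 LD3_c10)) = (LP (LK LD1_c10 LD2_c31 LD3_c44)) :=
  Lgr Lrot2 (Lpe (K41.f375061 IH) (Lpr_gt (K41.f331754 IH) (Lpr_af (f591187 IH) (Lpn (LP (LK LD1_c10 LD2_c31 LD3_c44))))))
theorem f591203 : Led Lsl_ff (LP (LK LD1_c5 LD2_c24 LD3_c10)) = (LP (LK LD1_c10 LD2_c31 LD3_c44)) :=
  Lgr Lrot3 (Lpr_ft (f591193 IH) (Lpn (LP (LK LD1_c10 LD2_c31 LD3_c44))))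
theorem f318294 : Led Lsl_ft (LP (LK LD1_c5 LD2_c20 LD3_c50)) = (LP (LK LD1_c2 LD2_c38 LD3_c38)) :=
  Lgr Lrot75 (Lpe (K41.f42178 IH) (Lpr_ff (K20.f318292 IH) (Lpe (K39.f217730 IH) (Lpn (LP (LK LD1_c2 LD2_c38 LD3_c38))))))
theorem f402664 : Led Lsl_gt (LP (LK LD1_c10 LD2_c31 LD3_c44)) = (LP (LK LD1_c5 LD2_c24 LD3_c12)) :=
  Lgr Lrot46 (Lpe (f42179 IH) (Lpr_ft (f318294 IH) (Lpr_at (K22.f318283 IH) (Lpn (LP (LK LD1_c5 LD2_c24 LD3_c12))))))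
theorem f591211 : Led Lsl_at (LP (LK LD1_c5 LD2_c24 LD3_c10)) = (LP (LK LD1_c10 LD2_c31 LD3_c45)) :=
  Lgr Lrot26 (Lpr_ff (f591203 IH) (Lpr_gt (f402664 IH) (Lpe (K41.f370105 IH) (Lpn (LP (LK LD1_c10 LD2_c31 LD3_c45))))))
theorem f591215 : Led Lsl_af (LP (LK LD1_c10 LD2_c36 LD3_c31)) = (LP (LK LD1_c19 LD2_c4 LD3_c5)) :=
  Lgr Lrot117 (Lpr_dt (K41.f400115 IH) (Lpr_at (f591211 IH) (Lpr_dt (K41.f400175 IH) (Lpn (LP (LK LD1_c19 LD2_c4 LD3_c5))))))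
theorem f591478 : Led Lsl_at (LP (LK LD1_c10 LD2_c36 LD3_c31)) = (LP (LK LD1_c19 LD2_c4 LD3_c5)) :=
  Lgr Lrot100 (Lpr_af (f591215 IH) (Lpn (LP (LK LD1_c19 LD2_c4 LD3_c5))))
theorem f591480 : Led Lsl_cf (LP (LK LD1_c21 LD2_c15 LD3_c1)) = (LP (LK LD1_c19 LD2_c4 LD3_c5)) :=
  Lgr Lrot1 (Lpr_at (f410630 IH) (Lpr_ct (K41.f556837 IH) (Lpr_at (f591478 IH) (Lpn (LP (LK LD1_c19 LD2_c4 LD3_c5))))))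
theorem f591484 : Led Lsl_gf (LP (LK LD1_c13 LD2_c41 LD3_c0)) = (LP (LK LD1_c12 LD2_c6 LD3_c37)) :=
  Lgr Lrot144 (Lpe (K45.f556204 IH) (Lpe (K42.f556192 IH) (Lpr_dt (K43.f547358 IH) (Lpr_cf (f591480 IH) (Lpe (K41.f400175 IH) (Lpr_gf (K41.f370105 IH) (Lpe (K38.f331720 IH) (Lpr_gf (K38.f549957 IH) (Lpe (K42.f566173 IH) (Lpn (LP (LK LD1_c12 LD2_c6 LD3_c37))))))))))))
theorem f591486 : Led Lsl_ff (LP (LK LD1_c7 LD2_c7 LD3_c10)) = (LP (LK LD1_c12 LD2_c6 LD3_c37)) :=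
  Lgr Lrot52 (Lpe (K8.f160237 IH) (Lpe (K39.f93098 IH) (Lpr_gf (f591484 IH) (Lpn (LP (LK LD1_c12 LD2_c6 LD3_c37))))))
theorem f591493 : Led Lsl_ft (LP (LK LD1_c7 LD2_c7 LD3_c10)) = (LP (LK LD1_c12 LD2_c6 LD3_c37)) :=
  Lgr Lrot48 (Lpr_ff (f591486 IH) (Lpn (LP (LK LD1_c12 LD2_c6 LD3_c37))))
theorem f588292 : Led Lsl_ct (LP (LK LD1_c10 LD2_c39 LD3_c11)) = (LP (LK LD1_c7 LD2_c7 LD3_c10)) :=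
  Lgr Lrot59 (Lpr_cf (K45.f588288 IH) (Lpn (LP (LK LD1_c7 LD2_c7 LD3_c10))))
theorem f591499 : Led Lsl_ff (LP (LK LD1_c10 LD2_c39 LD3_c11)) = (LP (LK LD1_c10 LD2_c36 LD3_c23)) :=
  Lgr Lrot23 (Lpr_ct (f588292 IH) (Lpr_ft (f591493 IH) (Lpr_ct (K42.f566173 IH) (Lpn (LP (LK LD1_c10 LD2_c36 LD3_c23))))))
theorem f591505 : Led Lsl_at (LP (LK LD1_c10 LD2_c39 LD3_c11)) = (LP (LK LD1_c10 LD2_c36 LD3_c27)) :=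
  Lgr Lrot26 (Lpr_ff (f591499 IH) (Lpe (K38.f549957 IH) (Lpr_gt (K38.f549972 IH) (Lpn (LP (LK LD1_c10 LD2_c36 LD3_c27))))))
theorem f591783 : Led Lsl_cf (LP (LK LD1_c7 LD2_c13 LD3_c50)) = (LP (LK LD1_c10 LD2_c36 LD3_c27)) :=
  Lgr Lrot1 (Lpr_at (K45.f160290 IH) (Lpe (K45.f588288 IH) (Lpr_at (f591505 IH) (Lpn (LP (LK LD1_c10 LD2_c36 LD3_c27))))))
theorem f592353 : Led Lsl_et (LP (LK LD1_c7 LD2_c13 LD3_c58)) = (LP (LK LD1_c10 LD2_c36 LD3_c27)) :=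
  Lgr Lrot158 (Lpe (K30.f97050 IH) (Lpe (K8.f160235 IH) (Lpr_cf (f591783 IH) (Lpn (LP (LK LD1_c10 LD2_c36 LD3_c27))))))
theorem f592441 : Led Lsl_ef (LP (LK LD1_c7 LD2_c13 LD3_c58)) = (LP (LK LD1_c10 LD2_c36 LD3_c27)) :=
  Lgr Lrot88 (Lpr_et (f592353 IH) (Lpn (LP (LK LD1_c10 LD2_c36 LD3_c27))))
theorem f160258 : Led Lsl_af (LP (LK LD1_c13 LD2_c41 LD3_c19)) = (LP (LK LD1_c13 LD2_c29 LD3_c44)) :=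
  Lgr Lrot0 (Lpr_at (K30.f160244 IH) (Lpn (LP (LK LD1_c13 LD2_c29 LD3_c44))))
theorem f160271 : Led Lsl_ft (LP (LK LD1_c13 LD2_c41 LD3_c19)) = (LP (LK LD1_c7 LD2_c13 LD3_c58)) :=
  Lre_f IH (LK LD1_c13 LD2_c41 LD3_c19) (LK LD1_c7 LD2_c13 LD3_c58) Lrfl Lrfl
theorem f160272 : Led Lsl_ft (LP (LK LD1_c7 LD2_c7 LD3_c19)) = (LP (LK LD1_c13 LD2_c29 LD3_c44)) :=
  Lre_f IH (LK LD1_c7 LD2_c7 LD3_c19) (LK LD1_c13 LD2_c29 LD3_c44) Lrfl Lrfl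
theorem f160273 : Led Lsl_at (LP (LK LD1_c7 LD2_c13 LD3_c58)) = (LP (LK LD1_c7 LD2_c7 LD3_c19)) :=
  Lgr Lrot66 (Lpe (f160271 IH) (Lpr_af (f160258 IH) (Lpe (f160272 IH) (Lpn (LP (LK LD1_c7 LD2_c7 LD3_c19))))))
theorem f592443 : Led Lsl_et (LP (LK LD1_c7 LD2_c7 LD3_c19)) = (LP (LK LD1_c10 LD2_c39 LD3_c11)) :=
  Lgr Lrot123 (Lpe (f160273 IH) (Lpr_ef (f592441 IH) (Lpe (f591505 IH) (Lpn (LP (LK LD1_c10 LD2_c39 LD3_c11))))))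
theorem f160395 : Led Lsl_bt (LP (LK LD1_c13 LD2_c29 LD3_c43)) = (LP (LK LD1_c7 LD2_c7 LD3_c19)) :=
  Lre_b IH (LK LD1_c13 LD2_c29 LD3_c43) (LK LD1_c7 LD2_c7 LD3_c19) Lrfl Lrfl
theorem f246513 : Led Lsl_bt (LP (LK LD1_c10 LD2_c39 LD3_c11)) = (LP (LK LD1_c19 LD2_c17 LD3_c44)) :=
  Lre_b IH (LK LD1_c10 LD2_c39 LD3_c11) (LK LD1_c19 LD2_c17 LD3_c44) Lrfl Lrfl
theorem f592448 : Led Lsl_ef (LP (LK LD1_c13 LD2_c29 LD3_c43)) = (LP (LK LD1_c19 LD2_c17 LD3_c44)) :=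
  Lgr Lrot29 (Lpr_bt (f160395 IH) (Lpr_et (f592443 IH) (Lpr_bt (f246513 IH) (Lpn (LP (LK LD1_c19 LD2_c17 LD3_c44))))))
theorem f471076 : Led Lsl_ct (LP (LK LD1_c13 LD2_c29 LD3_c43)) = (LP (LK LD1_c22 LD2_c49 LD3_c48)) :=
  Lre_c IH (LK LD1_c13 LD2_c29 LD3_c43) (LK LD1_c22 LD2_c49 LD3_c48) Lrfl Lrfl
theorem f246514 : Led Lsl_cf (LP (LK LD1_c19 LD2_c17 LD3_c44)) = (LP (LK LD1_c19 LD2_c20 LD3_c32)) :=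
  Lgr Lrot11 (Lpr_ct (K14.f246511 IH) (Lpn (LP (LK LD1_c19 LD2_c20 LD3_c32))))
theorem f592450 : Led Lsl_et (LP (LK LD1_c22 LD2_c49 LD3_c48)) = (LP (LK LD1_c19 LD2_c20 LD3_c32)) :=
  Lgr Lrot158 (Lpe (f471076 IH) (Lpr_ef (f592448 IH) (Lpr_cf (f246514 IH) (Lpn (LP (LK LD1_c19 LD2_c20 LD3_c32))))))
theorem f472529 : Led Lsl_bt (LP (LK LD1_c13 LD2_c29 LD3_c20)) = (LP (LK LD1_c22 LD2_c49 LD3_c48)) :=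
  Lre_b IH (LK LD1_c13 LD2_c29 LD3_c20) (LK LD1_c22 LD2_c49 LD3_c48) Lrfl Lrfl
theorem f226927 : Led Lsl_bt (LP (LK LD1_c15 LD2_c44 LD3_c23)) = (LP (LK LD1_c25 LD2_c40 LD3_c44)) :=
  Lre_b IH (LK LD1_c15 LD2_c44 LD3_c23) (LK LD1_c25 LD2_c40 LD3_c44) Lrfl Lrfl
theorem f221641 : Led Lsl_bt (LP (LK LD1_c15 LD2_c1 LD3_c14)) = (LP (LK LD1_c7 LD2_c57 LD3_c49)) :=
  Lre_b IH (LK LD1_c15 LD2_c1 LD3_c14) (LK LD1_c7 LD2_c57 LD3_c49) Lrfl Lrfl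
theorem f221647 : Led Lsl_gt (LP (LK LD1_c15 LD2_c1 LD3_c34)) = (LP (LK LD1_c7 LD2_c57 LD3_c58)) :=
  Lre_g IH (LK LD1_c15 LD2_c1 LD3_c34) (LK LD1_c7 LD2_c57 LD3_c58) Lrfl Lrfl
theorem f169229 : Led Lsl_bt (LP (LK LD1_c2 LD2_c36 LD3_c58)) = (LP (LK LD1_c5 LD2_c20 LD3_c37)) :=
  Lre_b IH (LK LD1_c2 LD2_c36 LD3_c58) (LK LD1_c5 LD2_c20 LD3_c37) Lrfl Lrfl
theorem f226915 : Led Lsl_bt (LP (LK LD1_c19 LD2_c4 LD3_c1)) = (LP (LK LD1_c10 LD2_c31 LD3_c14)) :=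
  Lre_b IH (LK LD1_c19 LD2_c4 LD3_c1) (LK LD1_c10 LD2_c31 LD3_c14) Lrfl Lrfl
theorem f226916 : Led Lsl_cf (LP (LK LD1_c15 LD2_c1 LD3_c34)) = (LP (LK LD1_c19 LD2_c4 LD3_c1)) :=
  Lgr Lrot160 (Lpr_gt (f221647 IH) (Lpe (K30.f221642 IH) (Lpr_bt (f221641 IH) (Lpe (K14.f226913 IH) (Lpr_ct (K14.f179762 IH) (Lpr_gt (K13.f226909 IH) (Lpe (K12.f169163 IH) (Lpr_bt (f169229 IH) (Lpr_gt (K41.f169233 IH) (Lpe (f226915 IH) (Lpn (LP (LK LD1_c19 LD2_c4 LD3_c1)))))))))))))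
theorem f226928 : Led Lsl_gt (LP (LK LD1_c25 LD2_c40 LD3_c44)) = (LP (LK LD1_c19 LD2_c4 LD3_c1)) :=
  Lgr Lrot82 (Lpe (f226927 IH) (Lpr_ct (K31.f226926 IH) (Lpe (K30.f183316 IH) (Lpe (K21.f225400 IH) (Lpr_bt (K14.f225403 IH) (Lpr_gf (K14.f226913 IH) (Lpe (f221641 IH) (Lpr_ct (K30.f221642 IH) (Lpe (f221647 IH) (Lpr_cf (f226916 IH) (Lpn (LP (LK LD1_c19 LD2_c4 LD3_c1)))))))))))))
theorem f226922 : Led Lsl_bt (LP (LK LD1_c10 LD2_c31 LD3_c14)) = (LP (LK LD1_c19 LD2_c4 LD3_c1)) :=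
  Lre_b IH (LK LD1_c10 LD2_c31 LD3_c14) (LK LD1_c19 LD2_c4 LD3_c1) Lrfl Lrfl
theorem f551547 : Led Lsl_df (LP (LK LD1_c19 LD2_c17 LD3_c44)) = (LP (LK LD1_c19 LD2_c4 LD3_c1)) :=
  Lgr Lrot12 (Lpr_bt (K14.f218518 IH) (Lpr_dt (K41.f551542 IH) (Lpr_bt (f226922 IH) (Lpn (LP (LK LD1_c19 LD2_c4 LD3_c1))))))
theorem f551693 : Led Lsl_bf (LP (LK LD1_c12 LD2_c7 LD3_c13)) = (LP (LK LD1_c19 LD2_c20 LD3_c32)) :=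
  Lgr Lrot184 (Lpr_gt (K13.f60740 IH) (Lpe (K39.f60481 IH) (Lpr_ct (K13.f60448 IH) (Lpr_bt (K39.f60509 IH) (Lpr_gt (K39.f551681 IH) (Lpr_dt (K16.f181344 IH) (Lpr_ct (K16.f174523 IH) (Lpr_bt (K16.f174522 IH) (Lpr_gt (K9.f26792 IH) (Lpr_dt (K9.f174529 IH) (Lpr_ct (K9.f173381 IH) (Lpr_bt (K31.f173420 IH) (Lpr_gt (K31.f173421 IH) (Lpr_dt (K31.f391694 IH) (Lpr_ct (K30.f183317 IH) (Lpr_bt (f226927 IH) (Lpr_gt (f226928 IH) (Lpe (f551547 IH) (Lpr_ct (K14.f246511 IH) (Lpn (LP (LK LD1_c19 LD2_c20 LD3_c32))))))))))))))))))))))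
theorem f592460 : Led Lsl_ef (LP (LK LD1_c13 LD2_c29 LD3_c20)) = (LP (LK LD1_c12 LD2_c7 LD3_c13)) :=
  Lgr Lrot29 (Lpr_bt (f472529 IH) (Lpr_et (f592450 IH) (Lpe (f551693 IH) (Lpn (LP (LK LD1_c12 LD2_c7 LD3_c13))))))
theorem f592464 : Led Lsl_et (LP (LK LD1_c13 LD2_c29 LD3_c20)) = (LP (LK LD1_c12 LD2_c7 LD3_c13)) :=
  Lgr Lrot87 (Lpr_ef (f592460 IH) (Lpn (LP (LK LD1_c12 LD2_c7 LD3_c13))))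
theorem f11737 : Led Lsl_ct (LP (LK LD1_c7 LD2_c7 LD3_c4)) = (LP (LK LD1_c13 LD2_c29 LD3_c20)) :=
  Lre_c IH (LK LD1_c7 LD2_c7 LD3_c4) (LK LD1_c13 LD2_c29 LD3_c20) Lrfl Lrfl
theorem f588290 : Led Lsl_ct (LP (LK LD1_c12 LD2_c7 LD3_c13)) = (LP (LK LD1_c8 LD2_c1 LD3_c3)) :=
  Lgr Lrot83 (Lpr_bf (f551693 IH) (Lpe (K14.f246511 IH) (Lpe (f246513 IH) (Lpr_cf (K45.f588288 IH) (Lpr_bf (K45.f587734 IH) (Lpn (LP (LK LD1_c8 LD2_c1 LD3_c3))))))))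
theorem f592474 : Led Lsl_ef (LP (LK LD1_c7 LD2_c7 LD3_c4)) = (LP (LK LD1_c8 LD2_c1 LD3_c3)) :=
  Lgr Lrot28 (Lpr_ct (f11737 IH) (Lpr_et (f592464 IH) (Lpr_ct (f588290 IH) (Lpn (LP (LK LD1_c8 LD2_c1 LD3_c3))))))
theorem f553305 : Led Lsl_et (LP (LK LD1_c22 LD2_c49 LD3_c41)) = (LP (LK LD1_c13 LD2_c29 LD3_c18)) :=
  Lre_e IH (LK LD1_c22 LD2_c49 LD3_c41) (LK LD1_c13 LD2_c29 LD3_c18) Lrfl Lrfl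
theorem f588302 : Led Lsl_gt (LP (LK LD1_c4 LD2_c22 LD3_c59)) = (LP (LK LD1_c3 LD2_c59 LD3_c61)) :=
  Lgr Lrot94 (Lpe (K18.f272389 IH) (Lpe (K35.f272452 IH) (Lpe (K19.f268643 IH) (Lpr_gt (K10.f193762 IH) (Lpe (K2.f37237 IH) (Lpe (K2.f37246 IH) (Lpe (K2.f37247 IH) (Lpr_gf (K45.f588298 IH) (Lpe (K45.f3020 IH) (Lpn (LP (LK LD1_c3 LD2_c59 LD3_c61))))))))))))
theorem f175879 : Led Lsl_et (LP (LK LD1_c11 LD2_c23 LD3_c42)) = (LP (LK LD1_c5 LD2_c46 LD3_c44)) :=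
  Lre_e IH (LK LD1_c11 LD2_c23 LD3_c42) (LK LD1_c5 LD2_c46 LD3_c44) Lrfl Lrfl
theorem f592479 : Led Lsl_dt (LP (LK LD1_c22 LD2_c49 LD3_c41)) = (LP (LK LD1_c24 LD2_c57 LD3_c49)) :=
  Lgr Lrot136 (Lpr_et (f553305 IH) (Lpe (K29.f470366 IH) (Lpr_ef (f592474 IH) (Lpr_dt (K39.f3019 IH) (Lpe (f588302 IH) (Lpe (K18.f193710 IH) (Lpe (K18.f272387 IH) (Lpe (f175879 IH) (Lpr_dt (f227877 IH) (Lpe (f227866 IH) (Lpn (LP (LK LD1_c24 LD2_c57 LD3_c49)))))))))))))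
theorem f553312 : Led Lsl_et (LP (LK LD1_c13 LD2_c29 LD3_c18)) = (LP (LK LD1_c22 LD2_c49 LD3_c41)) :=
  Lre_e IH (LK LD1_c13 LD2_c29 LD3_c18) (LK LD1_c22 LD2_c49 LD3_c41) Lrfl Lrfl
theorem f514934 : Led Lsl_dt (LP (LK LD1_c22 LD2_c49 LD3_c40)) = (LP (LK LD1_c13 LD2_c29 LD3_c18)) :=
  Lre_d IH (LK LD1_c22 LD2_c49 LD3_c40) (LK LD1_c13 LD2_c29 LD3_c18) Lrfl Lrfl
theorem f610689 : Led Lsl_et (LP (LK LD1_c22 LD2_c57 LD3_c3)) = (LP (LK LD1_c22 LD2_c49 LD3_c40)) :=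
  Lgr Lrot71 (Lpe (f610674 IH) (Lpr_ef (f610687 IH) (Lpe (f592479 IH) (Lpe (f553312 IH) (Lpe (f514934 IH) (Lpn (LP (LK LD1_c22 LD2_c49 LD3_c40))))))))
theorem f610676 : Led Lsl_df (LP (LK LD1_c22 LD2_c48 LD3_c30)) = (LP (LK LD1_c22 LD2_c57 LD3_c3)) :=
  Lgr Lrot155 (Lpr_gt (f515452 IH) (Lpr_ct (K43.f515426 IH) (Lpe (f576724 IH) (Lpr_ct (f576663 IH) (Lpe (f576660 IH) (Lpe (f469419 IH) (Lpr_gf (f610672 IH) (Lpe (f523623 IH) (Lpe (f522284 IH) (Lpn (LP (LK LD1_c22 LD2_c57 LD3_c3))))))))))))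
theorem f482572 : Led Lsl_et (LP (LK LD1_c7 LD2_c9 LD3_c17)) = (LP (LK LD1_c13 LD2_c33 LD3_c5)) :=
  Lre_e IH (LK LD1_c7 LD2_c9 LD3_c17) (LK LD1_c13 LD2_c33 LD3_c5) Lrfl Lrfl
theorem f514901 : Led Lsl_dt (LP (LK LD1_c13 LD2_c51 LD3_c55)) = (LP (LK LD1_c7 LD2_c19 LD3_c46)) :=
  Lre_d IH (LK LD1_c13 LD2_c51 LD3_c55) (LK LD1_c7 LD2_c19 LD3_c46) Lrfl Lrfl
theorem f522282 : Led Lsl_ff (LP (LK LD1_c13 LD2_c34 LD3_c0)) = (LP (LK LD1_c7 LD2_c19 LD3_c46)) :=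
  Lgr Lrot3 (Lpr_ft (f522192 IH) (Lpn (LP (LK LD1_c7 LD2_c19 LD3_c46))))
theorem f609179 : Led Lsl_df (LP (LK LD1_c21 LD2_c14 LD3_c58)) = (LP (LK LD1_c13 LD2_c34 LD3_c0)) :=
  Lgr Lrot78 (Lpr_ft (f609175 IH) (Lpr_dt (f514901 IH) (Lpe (f522282 IH) (Lpn (LP (LK LD1_c13 LD2_c34 LD3_c0))))))
theorem f609240 : Led Lsl_dt (LP (LK LD1_c23 LD2_c6 LD3_c9)) = (LP (LK LD1_c22 LD2_c14 LD3_c36)) :=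
  Lgr Lrot77 (Lpr_ef (f609236 IH) (Lpe (K40.f30206 IH) (Lpr_ef (f227870 IH) (Lpr_df (f609179 IH) (Lpe (f466631 IH) (Lpn (LP (LK LD1_c22 LD2_c14 LD3_c36))))))))
theorem f172776 : Led Lsl_gt (LP (LK LD1_c4 LD2_c56 LD3_c60)) = (LP (LK LD1_c9 LD2_c45 LD3_c7)) :=
  Lre_g IH (LK LD1_c4 LD2_c56 LD3_c60) (LK LD1_c9 LD2_c45 LD3_c7) Lrfl Lrfl
theorem f172777 : Led Lsl_dt (LP (LK LD1_c9 LD2_c45 LD3_c7)) = (LP (LK LD1_c17 LD2_c54 LD3_c44)) :=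
  Lre_d IH (LK LD1_c9 LD2_c45 LD3_c7) (LK LD1_c17 LD2_c54 LD3_c44) Lrfl Lrfl
theorem f609248 : Led Lsl_gf (LP (LK LD1_c22 LD2_c14 LD3_c36)) = (LP (LK LD1_c17 LD2_c54 LD3_c44)) :=
  Lgr Lrot134 (Lpe (f609240 IH) (Lpr_et (f609242 IH) (Lpr_gt (K40.f29771 IH) (Lpe (K12.f29264 IH) (Lpr_dt (K1.f6939 IH) (Lpe (K13.f197803 IH) (Lpe (K13.f172832 IH) (Lpr_et (K13.f172795 IH) (Lpr_gt (f172776 IH) (Lpr_dt (f172777 IH) (Lpn (LP (LK LD1_c17 LD2_c54 LD3_c44)))))))))))))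
theorem f458247 : Led Lsl_bt (LP (LK LD1_c13 LD2_c25 LD3_c59)) = (LP (LK LD1_c7 LD2_c5 LD3_c8)) :=
  Lre_b IH (LK LD1_c13 LD2_c25 LD3_c59) (LK LD1_c7 LD2_c5 LD3_c8) Lrfl Lrfl
theorem f464600 : Led Lsl_cf (LP (LK LD1_c13 LD2_c25 LD3_c59)) = (LP (LK LD1_c22 LD2_c14 LD3_c36)) :=
  Lgr Lrot97 (Lpr_bt (f458247 IH) (Lpe (K28.f464591 IH) (Lpr_bt (K28.f464595 IH) (Lpr_ct (K28.f458348 IH) (Lpr_bt (f464599 IH) (Lpn (LP (LK LD1_c22 LD2_c14 LD3_c36))))))))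
theorem f417979 : Led Lsl_gt (LP (LK LD1_c9 LD2_c45 LD3_c7)) = (LP (LK LD1_c8 LD2_c43 LD3_c59)) :=
  Lgr Lrot46 (Lpe (f172776 IH) (Lpr_ft (K13.f172772 IH) (Lpr_at (K39.f241709 IH) (Lpn (LP (LK LD1_c8 LD2_c43 LD3_c59))))))
theorem f241701 : Led Lsl_gf (LP (LK LD1_c17 LD2_c54 LD3_c40)) = (LP (LK LD1_c16 LD2_c17 LD3_c22)) :=
  Lgr Lrot47 (Lpr_gt (K41.f172802 IH) (Lpr_af (K13.f241694 IH) (Lpe (K13.f237669 IH) (Lpn (LP (LK LD1_c16 LD2_c17 LD3_c22))))))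
theorem f553020 : Led Lsl_cf (LP (LK LD1_c14 LD2_c58 LD3_c39)) = (LP (LK LD1_c17 LD2_c54 LD3_c40)) :=
  Lgr Lrot11 (Lpr_ct (K41.f553013 IH) (Lpn (LP (LK LD1_c17 LD2_c54 LD3_c40))))
theorem f469390 : Led Lsl_et (LP (LK LD1_c13 LD2_c57 LD3_c56)) = (LP (LK LD1_c7 LD2_c23 LD3_c8)) :=
  Lre_e IH (LK LD1_c13 LD2_c57 LD3_c56) (LK LD1_c7 LD2_c23 LD3_c8) Lrfl Lrfl
theorem f533548 : Led Lsl_cf (LP (LK LD1_c13 LD2_c57 LD3_c56)) = (LP (LK LD1_c13 LD2_c50 LD3_c42)) :=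
  Lgr Lrot39 (Lpr_et (f469390 IH) (Lpr_ct (K35.f533540 IH) (Lpr_et (K46.f533547 IH) (Lpn (LP (LK LD1_c13 LD2_c50 LD3_c42))))))
theorem f533552 : Led Lsl_ct (LP (LK LD1_c13 LD2_c57 LD3_c56)) = (LP (LK LD1_c13 LD2_c50 LD3_c42)) :=
  Lgr Lrot59 (Lpr_cf (f533548 IH) (Lpn (LP (LK LD1_c13 LD2_c50 LD3_c42))))
theorem f609252 : Led Lsl_gt (LP (LK LD1_c13 LD2_c25 LD3_c59)) = (LP (LK LD1_c13 LD2_c57 LD3_c56)) :=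
  Lgr Lrot150 (Lpr_cf (f464600 IH) (Lpr_gf (f609248 IH) (Lpe (f172777 IH) (Lpr_gt (f417979 IH) (Lpr_ct (K13.f237670 IH) (Lpe (f241701 IH) (Lpe (f553020 IH) (Lpr_df (K46.f543368 IH) (Lpe (f533552 IH) (Lpn (LP (LK LD1_c13 LD2_c57 LD3_c56))))))))))))
theorem f489767 : Led Lsl_bt (LP (LK LD1_c7 LD2_c29 LD3_c41)) = (LP (LK LD1_c3 LD2_c44 LD3_c21)) :=
  Lre_b IH (LK LD1_c7 LD2_c29 LD3_c41) (LK LD1_c3 LD2_c44 LD3_c21) Lrfl Lrfl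
theorem f464593 : Led Lsl_bt (LP (LK LD1_c7 LD2_c5 LD3_c8)) = (LP (LK LD1_c13 LD2_c25 LD3_c59)) :=
  Lre_b IH (LK LD1_c7 LD2_c5 LD3_c8) (LK LD1_c13 LD2_c25 LD3_c59) Lrfl Lrfl
theorem f521126 : Led Lsl_ff (LP (LK LD1_c7 LD2_c29 LD3_c41)) = (LP (LK LD1_c13 LD2_c25 LD3_c59)) :=
  Lgr Lrot25 (Lpr_bt (f489767 IH) (Lpr_ft (K34.f521124 IH) (Lpr_bt (f464593 IH) (Lpn (LP (LK LD1_c13 LD2_c25 LD3_c59))))))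
theorem f489874 : Led Lsl_at (LP (LK LD1_c7 LD2_c29 LD3_c41)) = (LP (LK LD1_c14 LD2_c9 LD3_c7)) :=
  Lre_a IH (LK LD1_c7 LD2_c29 LD3_c41) (LK LD1_c14 LD2_c9 LD3_c7) Lrfl Lrfl
theorem f610654 : Led Lsl_gf (LP (LK LD1_c14 LD2_c9 LD3_c7)) = (LP (LK LD1_c13 LD2_c57 LD3_c56)) :=
  Lgr Lrot76 (Lpe (f489874 IH) (Lpr_ff (f521126 IH) (Lpr_gt (f609252 IH) (Lpn (LP (LK LD1_c13 LD2_c57 LD3_c56))))))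
theorem f489775 : Led Lsl_dt (LP (LK LD1_c3 LD2_c44 LD3_c20)) = (LP (LK LD1_c1 LD2_c49 LD3_c11)) :=
  Lre_d IH (LK LD1_c3 LD2_c44 LD3_c20) (LK LD1_c1 LD2_c49 LD3_c11) Lrfl Lrfl
theorem f489776 : Led Lsl_et (LP (LK LD1_c7 LD2_c29 LD3_c43)) = (LP (LK LD1_c3 LD2_c44 LD3_c20)) :=
  Lre_e IH (LK LD1_c7 LD2_c29 LD3_c43) (LK LD1_c3 LD2_c44 LD3_c20) Lrfl Lrfl
theorem f489777 : Led Lsl_et (LP (LK LD1_c3 LD2_c56 LD3_c38)) = (LP (LK LD1_c7 LD2_c55 LD3_c2)) :=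
  Lre_e IH (LK LD1_c3 LD2_c56 LD3_c38) (LK LD1_c7 LD2_c55 LD3_c2) Lrfl Lrfl
theorem f489778 : Led Lsl_df (LP (LK LD1_c7 LD2_c29 LD3_c43)) = (LP (LK LD1_c7 LD2_c55 LD3_c2)) :=
  Lgr Lrot70 (Lpr_et (f489776 IH) (Lpr_dt (f489775 IH) (Lpr_et (K34.f489774 IH) (Lpr_dt (K34.f489765 IH) (Lpr_et (f489777 IH) (Lpn (LP (LK LD1_c7 LD2_c55 LD3_c2))))))))
theorem f489817 : Led Lsl_ft (LP (LK LD1_c7 LD2_c29 LD3_c43)) = (LP (LK LD1_c14 LD2_c9 LD3_c16)) :=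
  Lre_f IH (LK LD1_c7 LD2_c29 LD3_c43) (LK LD1_c14 LD2_c9 LD3_c16) Lrfl Lrfl
theorem f489818 : Led Lsl_ft (LP (LK LD1_c14 LD2_c56 LD3_c12)) = (LP (LK LD1_c7 LD2_c55 LD3_c2)) :=
  Lre_f IH (LK LD1_c14 LD2_c56 LD3_c12) (LK LD1_c7 LD2_c55 LD3_c2) Lrfl Lrfl
theorem f489819 : Led Lsl_dt (LP (LK LD1_c14 LD2_c9 LD3_c16)) = (LP (LK LD1_c14 LD2_c56 LD3_c12)) :=
  Lgr Lrot60 (Lpe (f489817 IH) (Lpr_df (f489778 IH) (Lpe (f489818 IH) (Lpn (LP (LK LD1_c14 LD2_c56 LD3_c12))))))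
theorem f489835 : Led Lsl_df (LP (LK LD1_c14 LD2_c9 LD3_c16)) = (LP (LK LD1_c14 LD2_c56 LD3_c12)) :=
  Lgr Lrot38 (Lpr_dt (f489819 IH) (Lpn (LP (LK LD1_c14 LD2_c56 LD3_c12))))
theorem f489838 : Led Lsl_bt (LP (LK LD1_c14 LD2_c9 LD3_c16)) = (LP (LK LD1_c23 LD2_c44 LD3_c10)) :=
  Lre_b IH (LK LD1_c14 LD2_c9 LD3_c16) (LK LD1_c23 LD2_c44 LD3_c10) Lrfl Lrfl
theorem f489839 : Led Lsl_bt (LP (LK LD1_c24 LD2_c43 LD3_c36)) = (LP (LK LD1_c14 LD2_c56 LD3_c12)) :=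
  Lre_b IH (LK LD1_c24 LD2_c43 LD3_c36) (LK LD1_c14 LD2_c56 LD3_c12) Lrfl Lrfl
theorem f489840 : Led Lsl_dt (LP (LK LD1_c23 LD2_c44 LD3_c10)) = (LP (LK LD1_c24 LD2_c43 LD3_c36)) :=
  Lgr Lrot79 (Lpe (f489838 IH) (Lpr_df (f489835 IH) (Lpe (f489839 IH) (Lpn (LP (LK LD1_c24 LD2_c43 LD3_c36))))))
theorem f489843 : Led Lsl_ft (LP (LK LD1_c14 LD2_c9 LD3_c9)) = (LP (LK LD1_c23 LD2_c44 LD3_c10)) :=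
  Lre_f IH (LK LD1_c14 LD2_c9 LD3_c9) (LK LD1_c23 LD2_c44 LD3_c10) Lrfl Lrfl
theorem f489844 : Led Lsl_ft (LP (LK LD1_c24 LD2_c43 LD3_c36)) = (LP (LK LD1_c14 LD2_c56 LD3_c8)) :=
  Lre_f IH (LK LD1_c24 LD2_c43 LD3_c36) (LK LD1_c14 LD2_c56 LD3_c8) Lrfl Lrfl
theorem f489845 : Led Lsl_df (LP (LK LD1_c14 LD2_c9 LD3_c9)) = (LP (LK LD1_c14 LD2_c56 LD3_c8)) :=
  Lgr Lrot78 (Lpr_ft (f489843 IH) (Lpr_dt (f489840 IH) (Lpr_ft (f489844 IH) (Lpn (LP (LK LD1_c14 LD2_c56 LD3_c8))))))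
theorem f489852 : Led Lsl_et (LP (LK LD1_c14 LD2_c9 LD3_c9)) = (LP (LK LD1_c7 LD2_c29 LD3_c40)) :=
  Lre_e IH (LK LD1_c14 LD2_c9 LD3_c9) (LK LD1_c7 LD2_c29 LD3_c40) Lrfl Lrfl
theorem f489853 : Led Lsl_dt (LP (LK LD1_c7 LD2_c29 LD3_c40)) = (LP (LK LD1_c3 LD2_c44 LD3_c19)) :=
  Lre_d IH (LK LD1_c7 LD2_c29 LD3_c40) (LK LD1_c3 LD2_c44 LD3_c19) Lrfl Lrfl
theorem f489854 : Led Lsl_et (LP (LK LD1_c3 LD2_c44 LD3_c19)) = (LP (LK LD1_c7 LD2_c29 LD3_c41)) :=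
  Lre_e IH (LK LD1_c3 LD2_c44 LD3_c19) (LK LD1_c7 LD2_c29 LD3_c41) Lrfl Lrfl
theorem f489855 : Led Lsl_et (LP (LK LD1_c7 LD2_c55 LD3_c0)) = (LP (LK LD1_c14 LD2_c56 LD3_c8)) :=
  Lre_e IH (LK LD1_c7 LD2_c55 LD3_c0) (LK LD1_c14 LD2_c56 LD3_c8) Lrfl Lrfl
theorem f489856 : Led Lsl_dt (LP (LK LD1_c7 LD2_c29 LD3_c41)) = (LP (LK LD1_c7 LD2_c55 LD3_c0)) :=
  Lgr Lrot77 (Lpe (f489854 IH) (Lpe (f489853 IH) (Lpe (f489852 IH) (Lpr_df (f489845 IH) (Lpe (f489855 IH) (Lpn (LP (LK LD1_c7 LD2_c55 LD3_c0))))))))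
theorem f489862 : Led Lsl_at (LP (LK LD1_c14 LD2_c9 LD3_c7)) = (LP (LK LD1_c7 LD2_c29 LD3_c41)) :=
  Lre_a IH (LK LD1_c14 LD2_c9 LD3_c7) (LK LD1_c7 LD2_c29 LD3_c41) Lrfl Lrfl
theorem f489863 : Led Lsl_at (LP (LK LD1_c7 LD2_c55 LD3_c0)) = (LP (LK LD1_c14 LD2_c56 LD3_c6)) :=
  Lre_a IH (LK LD1_c7 LD2_c55 LD3_c0) (LK LD1_c14 LD2_c56 LD3_c6) Lrfl Lrfl
theorem f489864 : Led Lsl_df (LP (LK LD1_c14 LD2_c9 LD3_c7)) = (LP (LK LD1_c14 LD2_c56 LD3_c6)) :=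
  Lgr Lrot18 (Lpr_at (f489862 IH) (Lpr_dt (f489856 IH) (Lpr_at (f489863 IH) (Lpn (LP (LK LD1_c14 LD2_c56 LD3_c6))))))
theorem f489869 : Led Lsl_dt (LP (LK LD1_c14 LD2_c9 LD3_c7)) = (LP (LK LD1_c14 LD2_c56 LD3_c6)) :=
  Lgr Lrot42 (Lpr_df (f489864 IH) (Lpn (LP (LK LD1_c14 LD2_c56 LD3_c6))))
theorem f464603 : Led Lsl_ct (LP (LK LD1_c13 LD2_c25 LD3_c59)) = (LP (LK LD1_c22 LD2_c14 LD3_c36)) :=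
  Lgr Lrot59 (Lpr_cf (f464600 IH) (Lpn (LP (LK LD1_c22 LD2_c14 LD3_c36))))
theorem f455669 : Led Lsl_ct (LP (LK LD1_c3 LD2_c31 LD3_c29)) = (LP (LK LD1_c1 LD2_c42 LD3_c19)) :=
  Lre_c IH (LK LD1_c3 LD2_c31 LD3_c29) (LK LD1_c1 LD2_c42 LD3_c19) Lrfl Lrfl
theorem f458249 : Led Lsl_bt (LP (LK LD1_c7 LD2_c4 LD3_c46)) = (LP (LK LD1_c13 LD2_c25 LD3_c15)) :=
  Lre_b IH (LK LD1_c7 LD2_c4 LD3_c46) (LK LD1_c13 LD2_c25 LD3_c15) Lrfl Lrfl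
theorem f458250 : Led Lsl_gt (LP (LK LD1_c13 LD2_c25 LD3_c15)) = (LP (LK LD1_c22 LD2_c44 LD3_c0)) :=
  Lre_g IH (LK LD1_c13 LD2_c25 LD3_c15) (LK LD1_c22 LD2_c44 LD3_c0) Lrfl Lrfl
theorem f609255 : Led Lsl_ct (LP (LK LD1_c22 LD2_c44 LD3_c0)) = (LP (LK LD1_c17 LD2_c54 LD3_c44)) :=
  Lgr Lrot91 (Lpe (f458250 IH) (Lpe (f458249 IH) (Lpr_ct (K45.f458248 IH) (Lpe (K30.f455670 IH) (Lpe (f455669 IH) (Lpe (K24.f458228 IH) (Lpe (K28.f455706 IH) (Lpe (f458247 IH) (Lpr_ct (f464603 IH) (Lpr_gf (f609248 IH) (Lpn (LP (LK LD1_c17 LD2_c54 LD3_c44)))))))))))))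
theorem f458327 : Led Lsl_gt (LP (LK LD1_c13 LD2_c25 LD3_c56)) = (LP (LK LD1_c22 LD2_c45 LD3_c13)) :=
  Lre_g IH (LK LD1_c13 LD2_c25 LD3_c56) (LK LD1_c22 LD2_c45 LD3_c13) Lrfl Lrfl
theorem f609262 : Led Lsl_bt (LP (LK LD1_c22 LD2_c44 LD3_c0)) = (LP (LK LD1_c22 LD2_c45 LD3_c13)) :=
  Lgr Lrot92 (Lpr_ct (f609255 IH) (Lpe (f609248 IH) (Lpe (f464603 IH) (Lpr_bt (f458247 IH) (Lpr_gt (K28.f455706 IH) (Lpr_ct (K24.f455703 IH) (Lpr_gt (K29.f455753 IH) (Lpe (K33.f458325 IH) (Lpr_bt (K42.f458326 IH) (Lpr_gt (f458327 IH) (Lpn (LP (LK LD1_c22 LD2_c45 LD3_c13)))))))))))))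
theorem f36506 : Led Lsl_dt (LP (LK LD1_c3 LD2_c40 LD3_c9)) = (LP (LK LD1_c7 LD2_c20 LD3_c27)) :=
  Lre_d IH (LK LD1_c3 LD2_c40 LD3_c9) (LK LD1_c7 LD2_c20 LD3_c27) Lrfl Lrfl
theorem f471291 : Led Lsl_gt (LP (LK LD1_c7 LD2_c20 LD3_c27)) = (LP (LK LD1_c13 LD2_c52 LD3_c57)) :=
  Lre_g IH (LK LD1_c7 LD2_c20 LD3_c27) (LK LD1_c13 LD2_c52 LD3_c57) Lrfl Lrfl
theorem f609260 : Led Lsl_df (LP (LK LD1_c22 LD2_c44 LD3_c0)) = (LP (LK LD1_c13 LD2_c52 LD3_c57)) :=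
  Lgr Lrot174 (Lpr_ct (f609255 IH) (Lpe (f172777 IH) (Lpe (f172776 IH) (Lpe (K41.f552853 IH) (Lpr_gf (K37.f489531 IH) (Lpr_ct (K35.f471390 IH) (Lpr_gt (K35.f159760 IH) (Lpr_dt (f36506 IH) (Lpr_gt (f471291 IH) (Lpn (LP (LK LD1_c13 LD2_c52 LD3_c57))))))))))))
theorem f471292 : Led Lsl_ct (LP (LK LD1_c13 LD2_c52 LD3_c57)) = (LP (LK LD1_c23 LD2_c22 LD3_c57)) :=
  Lre_c IH (LK LD1_c13 LD2_c52 LD3_c57) (LK LD1_c23 LD2_c22 LD3_c57) Lrfl Lrfl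
theorem f464993 : Led Lsl_dt (LP (LK LD1_c7 LD2_c54 LD3_c53)) = (LP (LK LD1_c3 LD2_c56 LD3_c34)) :=
  Lre_d IH (LK LD1_c7 LD2_c54 LD3_c53) (LK LD1_c3 LD2_c56 LD3_c34) Lrfl Lrfl
theorem f471293 : Led Lsl_gt (LP (LK LD1_c23 LD2_c22 LD3_c57)) = (LP (LK LD1_c14 LD2_c55 LD3_c45)) :=
  Lgr Lrot150 (Lpe (f471292 IH) (Lpe (f471291 IH) (Lpe (f36506 IH) (Lpr_gt (K29.f425453 IH) (Lpr_ct (K29.f471279 IH) (Lpr_gt (K29.f455432 IH) (Lpr_ct (K39.f465025 IH) (Lpe (f464993 IH) (Lpe (K28.f464994 IH) (Lpn (LP (LK LD1_c14 LD2_c55 LD3_c45))))))))))))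
theorem f465033 : Led Lsl_ct (LP (LK LD1_c7 LD2_c54 LD3_c53)) = (LP (LK LD1_c14 LD2_c55 LD3_c45)) :=
  Lre_c IH (LK LD1_c7 LD2_c54 LD3_c53) (LK LD1_c14 LD2_c55 LD3_c45) Lrfl Lrfl
theorem f465108 : Led Lsl_bt (LP (LK LD1_c7 LD2_c54 LD3_c53)) = (LP (LK LD1_c3 LD2_c56 LD3_c35)) :=
  Lre_b IH (LK LD1_c7 LD2_c54 LD3_c53) (LK LD1_c3 LD2_c56 LD3_c35) Lrfl Lrfl
theorem f472068 : Led Lsl_bt (LP (LK LD1_c13 LD2_c52 LD3_c57)) = (LP (LK LD1_c14 LD2_c2 LD3_c3)) :=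
  Lgr Lrot92 (Lpr_ct (f471292 IH) (Lpr_gt (f471293 IH) (Lpe (f465033 IH) (Lpr_bt (f465108 IH) (Lpe (K28.f465106 IH) (Lpr_ct (K24.f455767 IH) (Lpr_gt (K28.f465113 IH) (Lpe (K28.f159502 IH) (Lpr_bt (K28.f425564 IH) (Lpr_gt (K28.f462712 IH) (Lpn (LP (LK LD1_c14 LD2_c2 LD3_c3)))))))))))))
theorem f472070 : Led Lsl_bf (LP (LK LD1_c13 LD2_c52 LD3_c57)) = (LP (LK LD1_c14 LD2_c2 LD3_c3)) :=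
  Lgr Lrot24 (Lpr_bt (f472068 IH) (Lpn (LP (LK LD1_c14 LD2_c2 LD3_c3))))
theorem f609266 : Led Lsl_df (LP (LK LD1_c14 LD2_c2 LD3_c3)) = (LP (LK LD1_c22 LD2_c45 LD3_c13)) :=
  Lgr Lrot12 (Lpe (f472070 IH) (Lpe (f609260 IH) (Lpr_bt (f609262 IH) (Lpn (LP (LK LD1_c22 LD2_c45 LD3_c13))))))
theorem f462453 : Led Lsl_ft (LP (LK LD1_c7 LD2_c25 LD3_c17)) = (LP (LK LD1_c7 LD2_c53 LD3_c59)) :=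
  Lgr Lrot75 (Lpe (K28.f425564 IH) (Lpr_ff (K28.f462447 IH) (Lpe (K28.f462452 IH) (Lpn (LP (LK LD1_c7 LD2_c53 LD3_c59))))))
theorem f462548 : Led Lsl_at (LP (LK LD1_c7 LD2_c53 LD3_c59)) = (LP (LK LD1_c14 LD2_c53 LD3_c57)) :=
  Lre_a IH (LK LD1_c7 LD2_c53 LD3_c59) (LK LD1_c14 LD2_c53 LD3_c57) Lrfl Lrfl
theorem f462713 : Led Lsl_gt (LP (LK LD1_c14 LD2_c2 LD3_c3)) = (LP (LK LD1_c14 LD2_c53 LD3_c57)) :=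
  Lgr Lrot46 (Lpe (K28.f462712 IH) (Lpr_ft (f462453 IH) (Lpr_at (f462548 IH) (Lpn (LP (LK LD1_c14 LD2_c53 LD3_c57))))))
theorem f462556 : Led Lsl_dt (LP (LK LD1_c14 LD2_c53 LD3_c57)) = (LP (LK LD1_c7 LD2_c53 LD3_c58)) :=
  Lre_d IH (LK LD1_c14 LD2_c53 LD3_c57) (LK LD1_c7 LD2_c53 LD3_c58) Lrfl Lrfl
theorem f465516 : Led Lsl_gt (LP (LK LD1_c7 LD2_c8 LD3_c6)) = (LP (LK LD1_c13 LD2_c30 LD3_c54)) :=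
  Lre_g IH (LK LD1_c7 LD2_c8 LD3_c6) (LK LD1_c13 LD2_c30 LD3_c54) Lrfl Lrfl
theorem f547008 : Led Lsl_gt (LP (LK LD1_c13 LD2_c30 LD3_c54)) = (LP (LK LD1_c20 LD2_c21 LD3_c19)) :=
  Lgr Lrot46 (Lpe (f465516 IH) (Lpe (K28.f470605 IH) (Lpr_at (K38.f546998 IH) (Lpn (LP (LK LD1_c20 LD2_c21 LD3_c19))))))
theorem f479673 : Led Lsl_gt (LP (LK LD1_c7 LD2_c19 LD3_c30)) = (LP (LK LD1_c13 LD2_c51 LD3_c18)) :=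
  Lre_g IH (LK LD1_c7 LD2_c19 LD3_c30) (LK LD1_c13 LD2_c51 LD3_c18) Lrfl Lrfl
theorem f609270 : Led Lsl_df (LP (LK LD1_c13 LD2_c30 LD3_c54)) = (LP (LK LD1_c13 LD2_c51 LD3_c18)) :=
  Lgr Lrot153 (Lpr_gt (f547008 IH) (Lpe (K38.f547006 IH) (Lpr_cf (K39.f470527 IH) (Lpe (f462556 IH) (Lpe (f462713 IH) (Lpr_df (f609266 IH) (Lpe (f458327 IH) (Lpe (K42.f479748 IH) (Lpr_gt (f479673 IH) (Lpn (LP (LK LD1_c13 LD2_c51 LD3_c18))))))))))))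
theorem f546964 : Led Lsl_et (LP (LK LD1_c13 LD2_c30 LD3_c54)) = (LP (LK LD1_c22 LD2_c51 LD3_c51)) :=
  Lre_e IH (LK LD1_c13 LD2_c30 LD3_c54) (LK LD1_c22 LD2_c51 LD3_c51) Lrfl Lrfl
theorem f546954 : Led Lsl_et (LP (LK LD1_c22 LD2_c51 LD3_c51)) = (LP (LK LD1_c13 LD2_c30 LD3_c54)) :=
  Lre_e IH (LK LD1_c22 LD2_c51 LD3_c51) (LK LD1_c13 LD2_c30 LD3_c54) Lrfl Lrfl
theorem f69387 : Led Lsl_dt (LP (LK LD1_c11 LD2_c23 LD3_c25)) = (LP (LK LD1_c12 LD2_c5 LD3_c15)) :=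
  Lgr Lrot42 (Lpr_df (K37.f69375 IH) (Lpn (LP (LK LD1_c12 LD2_c5 LD3_c15))))
theorem f69395 : Led Lsl_gt (LP (LK LD1_c21 LD2_c10 LD3_c48)) = (LP (LK LD1_c12 LD2_c5 LD3_c15)) :=
  Lre_g IH (LK LD1_c21 LD2_c10 LD3_c48) (LK LD1_c12 LD2_c5 LD3_c15) Lrfl Lrfl
theorem f546955 : Led Lsl_dt (LP (LK LD1_c22 LD2_c51 LD3_c51)) = (LP (LK LD1_c21 LD2_c10 LD3_c48)) :=
  Lgr Lrot136 (Lpr_et (f546954 IH) (Lpe (f465516 IH) (Lpr_ef (K38.f546944 IH) (Lpr_dt (K10.f197827 IH) (Lpe (K10.f197911 IH) (Lpe (K13.f225585 IH) (Lpe (K13.f241087 IH) (Lpe (K37.f69373 IH) (Lpr_dt (f69387 IH) (Lpe (f69395 IH) (Lpn (LP (LK LD1_c21 LD2_c10 LD3_c48)))))))))))))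
theorem f6076 : Led Lsl_gt (LP (LK LD1_c7 LD2_c14 LD3_c49)) = (LP (LK LD1_c13 LD2_c42 LD3_c39)) :=
  Lre_g IH (LK LD1_c7 LD2_c14 LD3_c49) (LK LD1_c13 LD2_c42 LD3_c39) Lrfl Lrfl
theorem f38647 : Led Lsl_et (LP (LK LD1_c16 LD2_c33 LD3_c38)) = (LP (LK LD1_c8 LD2_c51 LD3_c28)) :=
  Lre_e IH (LK LD1_c16 LD2_c33 LD3_c38) (LK LD1_c8 LD2_c51 LD3_c28) Lrfl Lrfl
theorem f38646 : Led Lsl_et (LP (LK LD1_c4 LD2_c26 LD3_c52)) = (LP (LK LD1_c8 LD2_c51 LD3_c29)) :=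
  Lre_e IH (LK LD1_c4 LD2_c26 LD3_c52) (LK LD1_c8 LD2_c51 LD3_c29) Lrfl Lrfl
theorem f16430 : Led Lsl_dt (LP (LK LD1_c8 LD2_c51 LD3_c28)) = (LP (LK LD1_c4 LD2_c26 LD3_c52)) :=
  Lre_d IH (LK LD1_c8 LD2_c51 LD3_c28) (LK LD1_c4 LD2_c26 LD3_c52) Lrfl Lrfl
theorem f38648 : Led Lsl_et (LP (LK LD1_c12 LD2_c7 LD3_c10)) = (LP (LK LD1_c21 LD2_c13 LD3_c22)) :=
  Lre_e IH (LK LD1_c12 LD2_c7 LD3_c10) (LK LD1_c21 LD2_c13 LD3_c22) Lrfl Lrfl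
theorem f38649 : Led Lsl_df (LP (LK LD1_c16 LD2_c33 LD3_c38)) = (LP (LK LD1_c21 LD2_c13 LD3_c22)) :=
  Lgr Lrot70 (Lpr_et (f38647 IH) (Lpr_dt (f16430 IH) (Lpr_et (f38646 IH) (Lpr_dt (K37.f38638 IH) (Lpr_et (f38648 IH) (Lpn (LP (LK LD1_c21 LD2_c13 LD3_c22))))))))
theorem f38653 : Led Lsl_dt (LP (LK LD1_c16 LD2_c33 LD3_c38)) = (LP (LK LD1_c21 LD2_c13 LD3_c22)) :=
  Lgr Lrot42 (Lpr_df (f38649 IH) (Lpn (LP (LK LD1_c21 LD2_c13 LD3_c22))))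
theorem f546962 : Led Lsl_df (LP (LK LD1_c22 LD2_c51 LD3_c51)) = (LP (LK LD1_c21 LD2_c10 LD3_c48)) :=
  Lgr Lrot38 (Lpr_dt (f546955 IH) (Lpn (LP (LK LD1_c21 LD2_c10 LD3_c48))))
theorem f410684 : Led Lsl_gf (LP (LK LD1_c21 LD2_c10 LD3_c48)) = (LP (LK LD1_c16 LD2_c34 LD3_c16)) :=
  Lgr Lrot47 (Lpr_gt (f69395 IH) (Lpr_af (K37.f410676 IH) (Lpe (K37.f197933 IH) (Lpn (LP (LK LD1_c16 LD2_c34 LD3_c16))))))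
theorem f410753 : Led Lsl_af (LP (LK LD1_c18 LD2_c22 LD3_c59)) = (LP (LK LD1_c18 LD2_c18 LD3_c58)) :=
  Lgr Lrot0 (Lpr_at (K39.f410746 IH) (Lpn (LP (LK LD1_c18 LD2_c18 LD3_c58))))
theorem f205004 : Led Lsl_ft (LP (LK LD1_c10 LD2_c1 LD3_c21)) = (LP (LK LD1_c18 LD2_c18 LD3_c58)) :=
  Lre_f IH (LK LD1_c10 LD2_c1 LD3_c21) (LK LD1_c18 LD2_c18 LD3_c58) Lrfl Lrfl
theorem f410775 : Led Lsl_gf (LP (LK LD1_c18 LD2_c22 LD3_c59)) = (LP (LK LD1_c18 LD2_c18 LD3_c56)) :=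
  Lgr Lrot76 (Lpr_af (f410753 IH) (Lpe (f205004 IH) (Lpr_gt (K40.f201359 IH) (Lpn (LP (LK LD1_c18 LD2_c18 LD3_c56))))))
theorem f546968 : Led Lsl_gt (LP (LK LD1_c22 LD2_c51 LD3_c51)) = (LP (LK LD1_c21 LD2_c13 LD3_c22)) :=
  Lgr Lrot139 (Lpr_df (f546962 IH) (Lpr_gf (f410684 IH) (Lpe (K37.f410726 IH) (Lpr_dt (K39.f241064 IH) (Lpr_gf (f410775 IH) (Lpr_df (K40.f201367 IH) (Lpr_et (K40.f38663 IH) (Lpe (K1.f16435 IH) (Lpe (f38647 IH) (Lpr_dt (f38653 IH) (Lpn (LP (LK LD1_c21 LD2_c13 LD3_c22)))))))))))))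
theorem f561062 : Led Lsl_ef (LP (LK LD1_c13 LD2_c42 LD3_c39)) = (LP (LK LD1_c21 LD2_c10 LD3_c48)) :=
  Lgr Lrot17 (Lpe (f6076 IH) (Lpr_ef (K40.f561046 IH) (Lpr_dt (K37.f16359 IH) (Lpr_gf (K37.f407860 IH) (Lpe (K1.f38677 IH) (Lpe (K1.f16435 IH) (Lpe (f38647 IH) (Lpr_dt (f38653 IH) (Lpe (f546968 IH) (Lpr_df (f546962 IH) (Lpn (LP (LK LD1_c21 LD2_c10 LD3_c48)))))))))))))
theorem f489315 : Led Lsl_dt (LP (LK LD1_c13 LD2_c42 LD3_c39)) = (LP (LK LD1_c23 LD2_c8 LD3_c39)) :=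
  Lre_d IH (LK LD1_c13 LD2_c42 LD3_c39) (LK LD1_c23 LD2_c8 LD3_c39) Lrfl Lrfl
theorem f609277 : Led Lsl_et (LP (LK LD1_c23 LD2_c8 LD3_c39)) = (LP (LK LD1_c13 LD2_c51 LD3_c18)) :=
  Lgr Lrot71 (Lpe (f489315 IH) (Lpr_ef (f561062 IH) (Lpe (f546955 IH) (Lpe (f546964 IH) (Lpr_df (f609270 IH) (Lpn (LP (LK LD1_c13 LD2_c51 LD3_c18))))))))
theorem f515991 : Led Lsl_dt (LP (LK LD1_c23 LD2_c8 LD3_c39)) = (LP (LK LD1_c13 LD2_c42 LD3_c39)) :=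
  Lre_d IH (LK LD1_c23 LD2_c8 LD3_c39) (LK LD1_c13 LD2_c42 LD3_c39) Lrfl Lrfl
theorem f470543 : Led Lsl_dt (LP (LK LD1_c13 LD2_c14 LD3_c32)) = (LP (LK LD1_c22 LD2_c29 LD3_c21)) :=
  Lre_d IH (LK LD1_c13 LD2_c14 LD3_c32) (LK LD1_c22 LD2_c29 LD3_c21) Lrfl Lrfl
theorem f479772 : Led Lsl_gt (LP (LK LD1_c13 LD2_c51 LD3_c18)) = (LP (LK LD1_c23 LD2_c20 LD3_c30)) :=
  Lre_g IH (LK LD1_c13 LD2_c51 LD3_c18) (LK LD1_c23 LD2_c20 LD3_c30) Lrfl Lrfl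
theorem f529210 : Led Lsl_dt (LP (LK LD1_c7 LD2_c19 LD3_c32)) = (LP (LK LD1_c6 LD2_c58 LD3_c17)) :=
  Lgr Lrot57 (Lpr_gf (K42.f529208 IH) (Lpe (K33.f106224 IH) (Lpr_gt (K32.f441628 IH) (Lpr_dt (K42.f470751 IH) (Lpr_gt (K29.f477584 IH) (Lpr_dt (K28.f446448 IH) (Lpe (K24.f15754 IH) (Lpe (K24.f15755 IH) (Lpe (K42.f15756 IH) (Lpn (LP (LK LD1_c6 LD2_c58 LD3_c17))))))))))))
theorem f479683 : Led Lsl_ft (LP (LK LD1_c3 LD2_c39 LD3_c40)) = (LP (LK LD1_c7 LD2_c19 LD3_c32)) :=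
  Lre_f IH (LK LD1_c3 LD2_c39 LD3_c40) (LK LD1_c7 LD2_c19 LD3_c32) Lrfl Lrfl
theorem f529224 : Led Lsl_ff (LP (LK LD1_c6 LD2_c58 LD3_c34)) = (LP (LK LD1_c6 LD2_c58 LD3_c17)) :=
  Lgr Lrot19 (Lpe (K33.f479670 IH) (Lpr_ft (f479683 IH) (Lpr_dt (f529210 IH) (Lpn (LP (LK LD1_c6 LD2_c58 LD3_c17))))))
theorem f455266 : Led Lsl_gt (LP (LK LD1_c3 LD2_c28 LD3_c2)) = (LP (LK LD1_c6 LD2_c58 LD3_c16)) :=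
  Lre_g IH (LK LD1_c3 LD2_c28 LD3_c2) (LK LD1_c6 LD2_c58 LD3_c16) Lrfl Lrfl
theorem f529231 : Led Lsl_at (LP (LK LD1_c6 LD2_c58 LD3_c34)) = (LP (LK LD1_c6 LD2_c58 LD3_c16)) :=
  Lgr Lrot26 (Lpr_ff (f529224 IH) (Lpr_gt (K42.f15756 IH) (Lpr_gt (f455266 IH) (Lpn (LP (LK LD1_c6 LD2_c58 LD3_c16))))))
theorem f529233 : Led Lsl_af (LP (LK LD1_c6 LD2_c58 LD3_c34)) = (LP (LK LD1_c6 LD2_c58 LD3_c16)) :=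
  Lgr Lrot0 (Lpr_at (f529231 IH) (Lpn (LP (LK LD1_c6 LD2_c58 LD3_c16))))
theorem f529229 : Led Lsl_ft (LP (LK LD1_c6 LD2_c58 LD3_c34)) = (LP (LK LD1_c6 LD2_c58 LD3_c17)) :=
  Lgr Lrot48 (Lpr_ff (f529224 IH) (Lpn (LP (LK LD1_c6 LD2_c58 LD3_c17))))
theorem f479759 : Led Lsl_at (LP (LK LD1_c7 LD2_c19 LD3_c32)) = (LP (LK LD1_c13 LD2_c4 LD3_c16)) :=
  Lgr Lrot26 (Lpe (f479683 IH) (Lpr_gt (K33.f479750 IH) (Lpr_gt (K29.f455955 IH) (Lpn (LP (LK LD1_c13 LD2_c4 LD3_c16))))))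
theorem f479763 : Led Lsl_af (LP (LK LD1_c7 LD2_c19 LD3_c32)) = (LP (LK LD1_c13 LD2_c4 LD3_c16)) :=
  Lgr Lrot0 (Lpr_at (f479759 IH) (Lpn (LP (LK LD1_c13 LD2_c4 LD3_c16))))
theorem f529220 : Led Lsl_af (LP (LK LD1_c6 LD2_c58 LD3_c33)) = (LP (LK LD1_c6 LD2_c58 LD3_c17)) :=
  Lgr Lrot117 (Lpe (K29.f479481 IH) (Lpe (f479763 IH) (Lpr_dt (f529210 IH) (Lpn (LP (LK LD1_c6 LD2_c58 LD3_c17))))))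
theorem f529255 : Led Lsl_ft (LP (LK LD1_c6 LD2_c58 LD3_c33)) = (LP (LK LD1_c6 LD2_c58 LD3_c16)) :=
  Lgr Lrot101 (Lpr_af (f529220 IH) (Lpe (f529229 IH) (Lpr_af (f529233 IH) (Lpn (LP (LK LD1_c6 LD2_c58 LD3_c16))))))
theorem f529261 : Led Lsl_ff (LP (LK LD1_c6 LD2_c58 LD3_c33)) = (LP (LK LD1_c6 LD2_c58 LD3_c16)) :=
  Lgr Lrot3 (Lpr_ft (f529255 IH) (Lpn (LP (LK LD1_c6 LD2_c58 LD3_c16))))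
theorem f529263 : Led Lsl_at (LP (LK LD1_c6 LD2_c58 LD3_c33)) = (LP (LK LD1_c6 LD2_c58 LD3_c17)) :=
  Lgr Lrot66 (Lpr_ff (f529261 IH) (Lpe (f529231 IH) (Lpr_ff (f529224 IH) (Lpn (LP (LK LD1_c6 LD2_c58 LD3_c17))))))
theorem f455295 : Led Lsl_bt (LP (LK LD1_c13 LD2_c14 LD3_c35)) = (LP (LK LD1_c6 LD2_c58 LD3_c33)) :=
  Lre_b IH (LK LD1_c13 LD2_c14 LD3_c35) (LK LD1_c6 LD2_c58 LD3_c33) Lrfl Lrfl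
theorem f480630 : Led Lsl_at (LP (LK LD1_c22 LD2_c29 LD3_c23)) = (LP (LK LD1_c13 LD2_c14 LD3_c35)) :=
  Lre_a IH (LK LD1_c22 LD2_c29 LD3_c23) (LK LD1_c13 LD2_c14 LD3_c35) Lrfl Lrfl
theorem f511176 : Led Lsl_bt (LP (LK LD1_c6 LD2_c58 LD3_c17)) = (LP (LK LD1_c13 LD2_c14 LD3_c9)) :=
  Lre_b IH (LK LD1_c6 LD2_c58 LD3_c17) (LK LD1_c13 LD2_c14 LD3_c9) Lrfl Lrfl
theorem f529284 : Led Lsl_at (LP (LK LD1_c13 LD2_c14 LD3_c9)) = (LP (LK LD1_c22 LD2_c28 LD3_c52)) :=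
  Lre_a IH (LK LD1_c13 LD2_c14 LD3_c9) (LK LD1_c22 LD2_c28 LD3_c52) Lrfl Lrfl
theorem f529285 : Led Lsl_bf (LP (LK LD1_c22 LD2_c29 LD3_c23)) = (LP (LK LD1_c22 LD2_c28 LD3_c52)) :=
  Lgr Lrot81 (Lpr_at (f480630 IH) (Lpr_bt (f455295 IH) (Lpr_at (f529263 IH) (Lpr_bt (f511176 IH) (Lpr_at (f529284 IH) (Lpn (LP (LK LD1_c22 LD2_c28 LD3_c52))))))))
theorem f479548 : Led Lsl_bt (LP (LK LD1_c6 LD2_c58 LD3_c33)) = (LP (LK LD1_c13 LD2_c14 LD3_c35)) :=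
  Lre_b IH (LK LD1_c6 LD2_c58 LD3_c33) (LK LD1_c13 LD2_c14 LD3_c35) Lrfl Lrfl
theorem f479485 : Led Lsl_bt (LP (LK LD1_c22 LD2_c14 LD3_c37)) = (LP (LK LD1_c13 LD2_c4 LD3_c16)) :=
  Lre_b IH (LK LD1_c22 LD2_c14 LD3_c37) (LK LD1_c13 LD2_c4 LD3_c16) Lrfl Lrfl
theorem f479549 : Led Lsl_dt (LP (LK LD1_c13 LD2_c14 LD3_c35)) = (LP (LK LD1_c22 LD2_c14 LD3_c37)) :=
  Lgr Lrot79 (Lpe (f479548 IH) (Lpr_df (K29.f479543 IH) (Lpe (f479485 IH) (Lpn (LP (LK LD1_c22 LD2_c14 LD3_c37))))))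
theorem f480634 : Led Lsl_df (LP (LK LD1_c13 LD2_c14 LD3_c35)) = (LP (LK LD1_c22 LD2_c14 LD3_c37)) :=
  Lgr Lrot38 (Lpr_dt (f479549 IH) (Lpn (LP (LK LD1_c22 LD2_c14 LD3_c37))))
theorem f480641 : Led Lsl_at (LP (LK LD1_c13 LD2_c14 LD3_c35)) = (LP (LK LD1_c22 LD2_c29 LD3_c23)) :=
  Lre_a IH (LK LD1_c13 LD2_c14 LD3_c35) (LK LD1_c22 LD2_c29 LD3_c23) Lrfl Lrfl
theorem f479774 : Led Lsl_at (LP (LK LD1_c30 LD2_c23 LD3_c5)) = (LP (LK LD1_c22 LD2_c14 LD3_c37)) :=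
  Lre_a IH (LK LD1_c30 LD2_c23 LD3_c5) (LK LD1_c22 LD2_c14 LD3_c37) Lrfl Lrfl
theorem f480642 : Led Lsl_dt (LP (LK LD1_c22 LD2_c29 LD3_c23)) = (LP (LK LD1_c30 LD2_c23 LD3_c5)) :=
  Lgr Lrot44 (Lpe (f480641 IH) (Lpr_df (f480634 IH) (Lpe (f479774 IH) (Lpn (LP (LK LD1_c30 LD2_c23 LD3_c5))))))
theorem f479734 : Led Lsl_at (LP (LK LD1_c23 LD2_c20 LD3_c30)) = (LP (LK LD1_c13 LD2_c51 LD3_c20)) :=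
  Lre_a IH (LK LD1_c23 LD2_c20 LD3_c30) (LK LD1_c13 LD2_c51 LD3_c20) Lrfl Lrfl
theorem f479476 : Led Lsl_bt (LP (LK LD1_c13 LD2_c4 LD3_c16)) = (LP (LK LD1_c22 LD2_c14 LD3_c37)) :=
  Lre_b IH (LK LD1_c13 LD2_c4 LD3_c16) (LK LD1_c22 LD2_c14 LD3_c37) Lrfl Lrfl
theorem f479766 : Led Lsl_at (LP (LK LD1_c22 LD2_c14 LD3_c37)) = (LP (LK LD1_c30 LD2_c23 LD3_c5)) :=
  Lre_a IH (LK LD1_c22 LD2_c14 LD3_c37) (LK LD1_c30 LD2_c23 LD3_c5) Lrfl Lrfl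
theorem f479767 : Led Lsl_bf (LP (LK LD1_c23 LD2_c20 LD3_c30)) = (LP (LK LD1_c30 LD2_c23 LD3_c5)) :=
  Lgr Lrot81 (Lpr_at (f479734 IH) (Lpr_bt (K42.f479765 IH) (Lpr_at (f479759 IH) (Lpr_bt (f479476 IH) (Lpr_at (f479766 IH) (Lpn (LP (LK LD1_c30 LD2_c23 LD3_c5))))))))
theorem f529395 : Led Lsl_dt (LP (LK LD1_c23 LD2_c20 LD3_c30)) = (LP (LK LD1_c22 LD2_c28 LD3_c52)) :=
  Lgr Lrot79 (Lpr_bf (f479767 IH) (Lpe (f480642 IH) (Lpr_bf (f529285 IH) (Lpn (LP (LK LD1_c22 LD2_c28 LD3_c52))))))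
theorem f609283 : Led Lsl_gf (LP (LK LD1_c22 LD2_c29 LD3_c21)) = (LP (LK LD1_c22 LD2_c28 LD3_c52)) :=
  Lgr Lrot134 (Lpe (f470543 IH) (Lpe (K46.f553271 IH) (Lpe (K46.f607764 IH) (Lpe (K33.f487873 IH) (Lpr_dt (f6038 IH) (Lpr_gt (f6076 IH) (Lpe (f515991 IH) (Lpr_et (f609277 IH) (Lpr_gt (f479772 IH) (Lpr_dt (f529395 IH) (Lpn (LP (LK LD1_c22 LD2_c28 LD3_c52)))))))))))))
theorem f455271 : Led Lsl_bt (LP (LK LD1_c13 LD2_c14 LD3_c6)) = (LP (LK LD1_c6 LD2_c58 LD3_c16)) :=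
  Lre_b IH (LK LD1_c13 LD2_c14 LD3_c6) (LK LD1_c6 LD2_c58 LD3_c16) Lrfl Lrfl
theorem f529265 : Led Lsl_ft (LP (LK LD1_c13 LD2_c14 LD3_c35)) = (LP (LK LD1_c13 LD2_c14 LD3_c6)) :=
  Lgr Lrot75 (Lpe (f479548 IH) (Lpr_ff (f529261 IH) (Lpe (f455271 IH) (Lpn (LP (LK LD1_c13 LD2_c14 LD3_c6))))))
theorem f529235 : Led Lsl_at (LP (LK LD1_c13 LD2_c14 LD3_c6)) = (LP (LK LD1_c22 LD2_c28 LD3_c47)) :=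
  Lre_a IH (LK LD1_c13 LD2_c14 LD3_c6) (LK LD1_c22 LD2_c28 LD3_c47) Lrfl Lrfl
theorem f529269 : Led Lsl_ff (LP (LK LD1_c22 LD2_c29 LD3_c23)) = (LP (LK LD1_c22 LD2_c28 LD3_c47)) :=
  Lgr Lrot30 (Lpr_at (f480630 IH) (Lpr_ft (f529265 IH) (Lpr_at (f529235 IH) (Lpn (LP (LK LD1_c22 LD2_c28 LD3_c47))))))
theorem f529280 : Led Lsl_ft (LP (LK LD1_c22 LD2_c29 LD3_c23)) = (LP (LK LD1_c22 LD2_c28 LD3_c47)) :=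
  Lgr Lrot48 (Lpr_ff (f529269 IH) (Lpn (LP (LK LD1_c22 LD2_c28 LD3_c47))))
theorem f18582 : Led Lsl_bt (LP (LK LD1_c13 LD2_c14 LD3_c37)) = (LP (LK LD1_c6 LD2_c58 LD3_c34)) :=
  Lre_b IH (LK LD1_c13 LD2_c14 LD3_c37) (LK LD1_c6 LD2_c58 LD3_c34) Lrfl Lrfl
theorem f479721 : Led Lsl_at (LP (LK LD1_c22 LD2_c29 LD3_c29)) = (LP (LK LD1_c13 LD2_c14 LD3_c37)) :=
  Lre_a IH (LK LD1_c22 LD2_c29 LD3_c29) (LK LD1_c13 LD2_c14 LD3_c37) Lrfl Lrfl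
theorem f510752 : Led Lsl_bt (LP (LK LD1_c6 LD2_c58 LD3_c16)) = (LP (LK LD1_c13 LD2_c14 LD3_c6)) :=
  Lre_b IH (LK LD1_c6 LD2_c58 LD3_c16) (LK LD1_c13 LD2_c14 LD3_c6) Lrfl Lrfl
theorem f529236 : Led Lsl_bf (LP (LK LD1_c22 LD2_c29 LD3_c29)) = (LP (LK LD1_c22 LD2_c28 LD3_c47)) :=
  Lgr Lrot81 (Lpr_at (f479721 IH) (Lpr_bt (f18582 IH) (Lpr_at (f529231 IH) (Lpr_bt (f510752 IH) (Lpr_at (f529235 IH) (Lpn (LP (LK LD1_c22 LD2_c28 LD3_c47))))))))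
theorem f529397 : Led Lsl_ft (LP (LK LD1_c22 LD2_c29 LD3_c29)) = (LP (LK LD1_c22 LD2_c28 LD3_c52)) :=
  Lgr Lrot75 (Lpr_bf (f529236 IH) (Lpe (f529280 IH) (Lpr_bf (f529285 IH) (Lpn (LP (LK LD1_c22 LD2_c28 LD3_c52))))))
theorem f529404 : Led Lsl_ff (LP (LK LD1_c22 LD2_c29 LD3_c29)) = (LP (LK LD1_c22 LD2_c28 LD3_c52)) :=
  Lgr Lrot3 (Lpr_ft (f529397 IH) (Lpn (LP (LK LD1_c22 LD2_c28 LD3_c52))))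
theorem f609285 : Led Lsl_gt (LP (LK LD1_c22 LD2_c29 LD3_c21)) = (LP (LK LD1_c13 LD2_c14 LD3_c37)) :=
  Lgr Lrot46 (Lpr_gf (f609283 IH) (Lpe (f529404 IH) (Lpr_at (f479721 IH) (Lpn (LP (LK LD1_c13 LD2_c14 LD3_c37))))))
theorem f546938 : Led Lsl_dt (LP (LK LD1_c3 LD2_c33 LD3_c36)) = (LP (LK LD1_c6 LD2_c25 LD3_c29)) :=
  Lgr Lrot44 (Lpe (K39.f108126 IH) (Lpe (K38.f108086 IH) (Lpr_af (K38.f546932 IH) (Lpn (LP (LK LD1_c6 LD2_c25 LD3_c29))))))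
theorem f147211 : Led Lsl_dt (LP (LK LD1_c7 LD2_c23 LD3_c1)) = (LP (LK LD1_c3 LD2_c41 LD3_c18)) :=
  Lre_d IH (LK LD1_c7 LD2_c23 LD3_c1) (LK LD1_c3 LD2_c41 LD3_c18) Lrfl Lrfl
theorem f522550 : Led Lsl_af (LP (LK LD1_c3 LD2_c39 LD3_c27)) = K39.v2474 :=
  Lgr Lrot68 (Lpr_ct (K28.f147258 IH) (Lpr_at (K32.f497898 IH) (Lpr_ct (K39.f522549 IH) (Lpn K39.v2474))))
theorem f522552 : Led Lsl_ft (LP (LK LD1_c3 LD2_c39 LD3_c26)) = K39.v2474 :=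
  Lgr Lrot48 (Lpr_ff (K39.f522551 IH) (Lpn K39.v2474))
theorem f541106 : Led Lsl_dt (LP (LK LD1_c3 LD2_c39 LD3_c26)) = (LP (LK LD1_c4 LD2_c23 LD3_c7)) :=
  Lgr Lrot159 (Lpr_ft (f522552 IH) (Lpe (f522550 IH) (Lpe (K28.f147207 IH) (Lpe (f147211 IH) (Lpr_cf (K36.f541096 IH) (Lpe (K32.f205323 IH) (Lpe (K11.f59390 IH) (Lpr_df (K14.f237346 IH) (Lpe (K16.f237350 IH) (Lpn (LP (LK LD1_c4 LD2_c23 LD3_c7))))))))))))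
theorem f479676 : Led Lsl_dt (LP (LK LD1_c7 LD2_c19 LD3_c30)) = (LP (LK LD1_c13 LD2_c14 LD3_c37)) :=
  Lgr Lrot79 (Lpe (K42.f479672 IH) (Lpr_df (K33.f479670 IH) (Lpe (f18582 IH) (Lpn (LP (LK LD1_c13 LD2_c14 LD3_c37))))))
theorem f479712 : Led Lsl_et (LP (LK LD1_c7 LD2_c19 LD3_c30)) = (LP (LK LD1_c3 LD2_c39 LD3_c38)) :=
  Lre_e IH (LK LD1_c7 LD2_c19 LD3_c30) (LK LD1_c3 LD2_c39 LD3_c38) Lrfl Lrfl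
theorem f609337 : Led Lsl_gf (LP (LK LD1_c7 LD2_c19 LD3_c5)) = (LP (LK LD1_c3 LD2_c39 LD3_c38)) :=
  Lgr Lrot141 (Lpe (K41.f147343 IH) (Lpr_dt (f541106 IH) (Lpr_gt (K16.f269118 IH) (Lpe (f546938 IH) (Lpr_et (K28.f108124 IH) (Lpe (K41.f470541 IH) (Lpr_dt (f470543 IH) (Lpr_gt (f609285 IH) (Lpe (f479676 IH) (Lpr_et (f479712 IH) (Lpn (LP (LK LD1_c3 LD2_c39 LD3_c38)))))))))))))
theorem f147335 : Led Lsl_bt (LP (LK LD1_c7 LD2_c19 LD3_c5)) = (LP (LK LD1_c13 LD2_c50 LD3_c39)) :=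
  Lre_b IH (LK LD1_c7 LD2_c19 LD3_c5) (LK LD1_c13 LD2_c50 LD3_c39) Lrfl Lrfl
theorem f567153 : Led Lsl_bf (LP (LK LD1_c10 LD2_c16 LD3_c24)) = (LP (LK LD1_c16 LD2_c59 LD3_c48)) :=
  Lgr Lrot24 (Lpr_bt (K41.f567151 IH) (Lpn (LP (LK LD1_c16 LD2_c59 LD3_c48))))
theorem f567163 : Led Lsl_df (LP (LK LD1_c7 LD2_c19 LD3_c5)) = (LP (LK LD1_c10 LD2_c16 LD3_c24)) :=
  Lgr Lrot12 (Lpr_bt (f147335 IH) (Lpr_dt (K41.f567159 IH) (Lpe (f567153 IH) (Lpn (LP (LK LD1_c10 LD2_c16 LD3_c24))))))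
theorem f479742 : Led Lsl_dt (LP (LK LD1_c7 LD2_c19 LD3_c29)) = (LP (LK LD1_c3 LD2_c39 LD3_c38)) :=
  Lre_d IH (LK LD1_c7 LD2_c19 LD3_c29) (LK LD1_c3 LD2_c39 LD3_c38) Lrfl Lrfl
theorem f479710 : Led Lsl_et (LP (LK LD1_c7 LD2_c19 LD3_c29)) = (LP (LK LD1_c13 LD2_c51 LD3_c17)) :=
  Lre_e IH (LK LD1_c7 LD2_c19 LD3_c29) (LK LD1_c13 LD2_c51 LD3_c17) Lrfl Lrfl
theorem f609344 : Led Lsl_gt (LP (LK LD1_c8 LD2_c10 LD3_c45)) = (LP (LK LD1_c13 LD2_c51 LD3_c17)) :=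
  Lgr Lrot131 (Lpe (K1.f46642 IH) (Lpr_dt (K1.f46636 IH) (Lpe (K10.f193441 IH) (Lpe (K13.f193457 IH) (Lpr_gf (K13.f242273 IH) (Lpe (K41.f237364 IH) (Lpe (f567163 IH) (Lpr_gf (f609337 IH) (Lpe (f479742 IH) (Lpr_et (f479710 IH) (Lpn (LP (LK LD1_c13 LD2_c51 LD3_c17)))))))))))))
theorem f609353 : Led Lsl_gf (LP (LK LD1_c15 LD2_c50 LD3_c37)) = (LP (LK LD1_c13 LD2_c51 LD3_c17)) :=
  Lgr Lrot76 (Lpr_af (K1.f46745 IH) (Lpe (K1.f46756 IH) (Lpr_gt (f609344 IH) (Lpn (LP (LK LD1_c13 LD2_c51 LD3_c17))))))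
theorem f56461 : Led Lsl_gt (LP (LK LD1_c21 LD2_c13 LD3_c27)) = (LP (LK LD1_c12 LD2_c7 LD3_c15)) :=
  Lre_g IH (LK LD1_c21 LD2_c13 LD3_c27) (LK LD1_c12 LD2_c7 LD3_c15) Lrfl Lrfl
theorem f60770 : Led Lsl_gf (LP (LK LD1_c21 LD2_c13 LD3_c27)) = (LP (LK LD1_c20 LD2_c21 LD3_c4)) :=
  Lgr Lrot47 (Lpr_gt (f56461 IH) (Lpr_af (K1.f60498 IH) (Lpe (K1.f60295 IH) (Lpn (LP (LK LD1_c20 LD2_c21 LD3_c4))))))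
theorem f308386 : Led Lsl_et (LP (LK LD1_c5 LD2_c13 LD3_c44)) = (LP (LK LD1_c10 LD2_c17 LD3_c37)) :=
  Lre_e IH (LK LD1_c5 LD2_c13 LD3_c44) (LK LD1_c10 LD2_c17 LD3_c37) Lrfl Lrfl
theorem f240875 : Led Lsl_gt (LP (LK LD1_c10 LD2_c17 LD3_c37)) = (LP (LK LD1_c18 LD2_c42 LD3_c42)) :=
  Lre_g IH (LK LD1_c10 LD2_c17 LD3_c37) (LK LD1_c18 LD2_c42 LD3_c42) Lrfl Lrfl
theorem f418439 : Led Lsl_et (LP (LK LD1_c28 LD2_c13 LD3_c36)) = (LP (LK LD1_c18 LD2_c42 LD3_c42)) :=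
  Lre_e IH (LK LD1_c28 LD2_c13 LD3_c36) (LK LD1_c18 LD2_c42 LD3_c42) Lrfl Lrfl
theorem f418440 : Led Lsl_df (LP (LK LD1_c21 LD2_c13 LD3_c27)) = (LP (LK LD1_c28 LD2_c13 LD3_c36)) :=
  Lgr Lrot170 (Lpr_gt (f56461 IH) (Lpr_df (K37.f56454 IH) (Lpr_et (K1.f46764 IH) (Lpe (K12.f193455 IH) (Lpr_dt (K12.f34066 IH) (Lpr_gt (K12.f227931 IH) (Lpe (K17.f164689 IH) (Lpr_et (f308386 IH) (Lpr_gt (f240875 IH) (Lpe (f418439 IH) (Lpn (LP (LK LD1_c28 LD2_c13 LD3_c36)))))))))))))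
theorem f479747 : Led Lsl_gt (LP (LK LD1_c7 LD2_c19 LD3_c27)) = (LP (LK LD1_c3 LD2_c39 LD3_c38)) :=
  Lre_g IH (LK LD1_c7 LD2_c19 LD3_c27) (LK LD1_c3 LD2_c39 LD3_c38) Lrfl Lrfl
theorem f609377 : Led Lsl_dt (LP (LK LD1_c13 LD2_c51 LD3_c11)) = (LP (LK LD1_c7 LD2_c19 LD3_c27)) :=
  Lre_d IH (LK LD1_c13 LD2_c51 LD3_c11) (LK LD1_c7 LD2_c19 LD3_c27) Lrfl Lrfl
theorem f609378 : Led Lsl_et (LP (LK LD1_c13 LD2_c51 LD3_c11)) = (LP (LK LD1_c23 LD2_c20 LD3_c28)) :=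
  Lre_e IH (LK LD1_c13 LD2_c51 LD3_c11) (LK LD1_c23 LD2_c20 LD3_c28) Lrfl Lrfl
theorem f609379 : Led Lsl_gt (LP (LK LD1_c18 LD2_c42 LD3_c42)) = (LP (LK LD1_c23 LD2_c20 LD3_c28)) :=
  Lgr Lrot131 (Lpe (f418439 IH) (Lpe (f418440 IH) (Lpr_gf (f60770 IH) (Lpe (K1.f60296 IH) (Lpr_gf (f609353 IH) (Lpe (f479710 IH) (Lpr_dt (f479742 IH) (Lpe (f479747 IH) (Lpe (f609377 IH) (Lpr_et (f609378 IH) (Lpn (LP (LK LD1_c23 LD2_c20 LD3_c28)))))))))))))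
theorem f46738 : Led Lsl_gt (LP (LK LD1_c4 LD2_c4 LD3_c58)) = (LP (LK LD1_c8 LD2_c10 LD3_c42)) :=
  Lre_g IH (LK LD1_c4 LD2_c4 LD3_c58) (LK LD1_c8 LD2_c10 LD3_c42) Lrfl Lrfl
theorem f46739 : Led Lsl_gf (LP (LK LD1_c8 LD2_c26 LD3_c6)) = (LP (LK LD1_c8 LD2_c10 LD3_c42)) :=
  Lgr Lrot76 (Lpr_af (K1.f46717 IH) (Lpe (K1.f46716 IH) (Lpr_gt (f46738 IH) (Lpn (LP (LK LD1_c8 LD2_c10 LD3_c42))))))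
theorem f46744 : Led Lsl_et (LP (LK LD1_c15 LD2_c23 LD3_c56)) = (LP (LK LD1_c8 LD2_c10 LD3_c42)) :=
  Lre_e IH (LK LD1_c15 LD2_c23 LD3_c56) (LK LD1_c8 LD2_c10 LD3_c42) Lrfl Lrfl
theorem f201452 : Led Lsl_et (LP (LK LD1_c10 LD2_c17 LD3_c37)) = (LP (LK LD1_c5 LD2_c13 LD3_c44)) :=
  Lre_e IH (LK LD1_c10 LD2_c17 LD3_c37) (LK LD1_c5 LD2_c13 LD3_c44) Lrfl Lrfl
theorem f201453 : Led Lsl_dt (LP (LK LD1_c10 LD2_c17 LD3_c37)) = (LP (LK LD1_c5 LD2_c13 LD3_c43)) :=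
  Lre_d IH (LK LD1_c10 LD2_c17 LD3_c37) (LK LD1_c5 LD2_c13 LD3_c43) Lrfl Lrfl
theorem f201448 : Led Lsl_gt (LP (LK LD1_c10 LD2_c17 LD3_c36)) = (LP (LK LD1_c5 LD2_c13 LD3_c43)) :=
  Lre_g IH (LK LD1_c10 LD2_c17 LD3_c36) (LK LD1_c5 LD2_c13 LD3_c43) Lrfl Lrfl
theorem f229365 : Led Lsl_dt (LP (LK LD1_c15 LD2_c23 LD3_c56)) = (LP (LK LD1_c10 LD2_c17 LD3_c36)) :=
  Lgr Lrot136 (Lpr_et (f46744 IH) (Lpe (f46738 IH) (Lpe (K8.f46878 IH) (Lpr_dt (K1.f46876 IH) (Lpr_gf (K9.f182451 IH) (Lpe (K13.f182370 IH) (Lpr_gf (K12.f229361 IH) (Lpe (f201452 IH) (Lpr_dt (f201453 IH) (Lpe (f201448 IH) (Lpn (LP (LK LD1_c10 LD2_c17 LD3_c36)))))))))))))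
theorem f53272 : Led Lsl_ft (LP (LK LD1_c15 LD2_c47 LD3_c33)) = (LP (LK LD1_c8 LD2_c23 LD3_c58)) :=
  Lre_f IH (LK LD1_c15 LD2_c47 LD3_c33) (LK LD1_c8 LD2_c23 LD3_c58) Lrfl Lrfl
theorem f308363 : Led Lsl_gt (LP (LK LD1_c15 LD2_c47 LD3_c33)) = (LP (LK LD1_c10 LD2_c17 LD3_c36)) :=
  Lgr Lrot5 (Lpr_ft (f53272 IH) (Lpr_at (K36.f308353 IH) (Lpe (f201448 IH) (Lpn (LP (LK LD1_c10 LD2_c17 LD3_c36))))))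
theorem f609385 : Led Lsl_df (LP (LK LD1_c15 LD2_c47 LD3_c33)) = (LP (LK LD1_c23 LD2_c20 LD3_c28)) :=
  Lgr Lrot135 (Lpr_gt (f308363 IH) (Lpe (f229365 IH) (Lpr_et (f46744 IH) (Lpe (f46739 IH) (Lpe (K37.f46728 IH) (Lpr_dt (K1.f60296 IH) (Lpe (f60770 IH) (Lpr_df (f418440 IH) (Lpr_et (f418439 IH) (Lpr_gt (f609379 IH) (Lpn (LP (LK LD1_c23 LD2_c20 LD3_c28)))))))))))))
theorem f609390 : Led Lsl_ft (LP (LK LD1_c15 LD2_c9 LD3_c53)) = (LP (LK LD1_c23 LD2_c20 LD3_c28)) :=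
  Lgr Lrot54 (Lpr_df (f241156 IH) (Lpe (f53272 IH) (Lpr_df (f609385 IH) (Lpn (LP (LK LD1_c23 LD2_c20 LD3_c28))))))
theorem f269153 : Led Lsl_ft (LP (LK LD1_c8 LD2_c3 LD3_c28)) = (LP (LK LD1_c8 LD2_c3 LD3_c16)) :=
  Lgr Lrot54 (Lpr_df (K13.f242133 IH) (Lpr_ff (K16.f269151 IH) (Lpe (K13.f227320 IH) (Lpn (LP (LK LD1_c8 LD2_c3 LD3_c16))))))
theorem f609392 : Led Lsl_et (LP (LK LD1_c23 LD2_c20 LD3_c28)) = (LP (LK LD1_c13 LD2_c51 LD3_c11)) :=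
  Lre_e IH (LK LD1_c23 LD2_c20 LD3_c28) (LK LD1_c13 LD2_c51 LD3_c11) Lrfl Lrfl
theorem f609399 : Led Lsl_ff (LP (LK LD1_c12 LD2_c8 LD3_c27)) = (LP (LK LD1_c13 LD2_c51 LD3_c11)) :=
  Lgr Lrot72 (Lpr_et (K39.f242778 IH) (Lpr_ft (f269153 IH) (Lpr_et (f227334 IH) (Lpr_ft (f609390 IH) (Lpr_et (f609392 IH) (Lpn (LP (LK LD1_c13 LD2_c51 LD3_c11))))))))
theorem f609389 : Led Lsl_dt (LP (LK LD1_c7 LD2_c19 LD3_c27)) = (LP (LK LD1_c13 LD2_c51 LD3_c11)) :=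
  Lre_d IH (LK LD1_c7 LD2_c19 LD3_c27) (LK LD1_c13 LD2_c51 LD3_c11) Lrfl Lrfl
theorem f609409 : Led Lsl_ft (LP (LK LD1_c6 LD2_c15 LD3_c3)) = (LP (LK LD1_c7 LD2_c19 LD3_c27)) :=
  Lgr Lrot54 (Lpe (K39.f242773 IH) (Lpr_ff (f609399 IH) (Lpe (f609389 IH) (Lpn (LP (LK LD1_c7 LD2_c19 LD3_c27))))))
theorem f609411 : Led Lsl_cf (LP (LK LD1_c7 LD2_c23 LD3_c57)) = (LP (LK LD1_c7 LD2_c19 LD3_c27)) :=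
  Lgr Lrot108 (Lpe (K46.f543184 IH) (Lpe (K46.f608712 IH) (Lpr_ft (f609409 IH) (Lpn (LP (LK LD1_c7 LD2_c19 LD3_c27))))))
theorem f481451 : Led Lsl_bt (LP (LK LD1_c1 LD2_c46 LD3_c17)) = (LP (LK LD1_c3 LD2_c38 LD3_c38)) :=
  Lre_b IH (LK LD1_c1 LD2_c46 LD3_c17) (LK LD1_c3 LD2_c38 LD3_c38) Lrfl Lrfl
theorem f442083 : Led Lsl_gt (LP (LK LD1_c3 LD2_c38 LD3_c38)) = (LP (LK LD1_c7 LD2_c17 LD3_c36)) :=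
  Lre_g IH (LK LD1_c3 LD2_c38 LD3_c38) (LK LD1_c7 LD2_c17 LD3_c36) Lrfl Lrfl
theorem f609415 : Led Lsl_bf (LP (LK LD1_c7 LD2_c17 LD3_c36)) = (LP (LK LD1_c7 LD2_c19 LD3_c27)) :=
  Lgr Lrot34 (Lpe (f442083 IH) (Lpe (f481451 IH) (Lpe (K35.f481452 IH) (Lpe (K29.f107236 IH) (Lpe (K29.f440660 IH) (Lpr_gf (K33.f488550 IH) (Lpe (f456459 IH) (Lpe (K34.f456542 IH) (Lpe (K46.f456552 IH) (Lpr_cf (f609411 IH) (Lpn (LP (LK LD1_c7 LD2_c19 LD3_c27)))))))))))))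
theorem f608710 : Led Lsl_bf (LP (LK LD1_c6 LD2_c15 LD3_c3)) = (LP (LK LD1_c7 LD2_c18 LD3_c54)) :=
  Lgr Lrot24 (Lpr_bt (K46.f608706 IH) (Lpn (LP (LK LD1_c7 LD2_c18 LD3_c54))))
theorem f609421 : Led Lsl_ft (LP (LK LD1_c7 LD2_c17 LD3_c36)) = (LP (LK LD1_c7 LD2_c18 LD3_c54)) :=
  Lgr Lrot75 (Lpr_bf (f609415 IH) (Lpe (f609409 IH) (Lpr_bf (f608710 IH) (Lpn (LP (LK LD1_c7 LD2_c18 LD3_c54))))))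
theorem f609431 : Led Lsl_ff (LP (LK LD1_c7 LD2_c17 LD3_c36)) = (LP (LK LD1_c7 LD2_c18 LD3_c54)) :=
  Lgr Lrot3 (Lpr_ft (f609421 IH) (Lpn (LP (LK LD1_c7 LD2_c18 LD3_c54))))
theorem f442084 : Led Lsl_dt (LP (LK LD1_c7 LD2_c17 LD3_c36)) = (LP (LK LD1_c13 LD2_c47 LD3_c50)) :=
  Lre_d IH (LK LD1_c7 LD2_c17 LD3_c36) (LK LD1_c13 LD2_c47 LD3_c50) Lrfl Lrfl
theorem f609437 : Led Lsl_ft (LP (LK LD1_c13 LD2_c47 LD3_c50)) = (LP (LK LD1_c13 LD2_c50 LD3_c20)) :=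
  Lgr Lrot54 (Lpe (f442084 IH) (Lpr_ff (f609431 IH) (Lpe (K46.f155618 IH) (Lpn (LP (LK LD1_c13 LD2_c50 LD3_c20))))))
theorem f609470 : Led Lsl_gt (LP (LK LD1_c13 LD2_c47 LD3_c50)) = (LP (LK LD1_c20 LD2_c32 LD3_c29)) :=
  Lgr Lrot5 (Lpr_ft (f609437 IH) (Lpr_at (K43.f575456 IH) (Lpe (K43.f575404 IH) (Lpn (LP (LK LD1_c20 LD2_c32 LD3_c29))))))
theorem f481144 : Led Lsl_dt (LP (LK LD1_c13 LD2_c28 LD3_c18)) = (LP (LK LD1_c22 LD2_c47 LD3_c55)) :=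
  Lre_d IH (LK LD1_c13 LD2_c28 LD3_c18) (LK LD1_c22 LD2_c47 LD3_c55) Lrfl Lrfl
theorem f467973 : Led Lsl_ct (LP (LK LD1_c7 LD2_c39 LD3_c17)) = (LP (LK LD1_c14 LD2_c25 LD3_c41)) :=
  Lre_c IH (LK LD1_c7 LD2_c39 LD3_c17) (LK LD1_c14 LD2_c25 LD3_c41) Lrfl Lrfl
theorem f6225 : Led Lsl_ct (LP (LK LD1_c3 LD2_c37 LD3_c16)) = (LP (LK LD1_c7 LD2_c15 LD3_c4)) :=
  Lre_c IH (LK LD1_c3 LD2_c37 LD3_c16) (LK LD1_c7 LD2_c15 LD3_c4) Lrfl Lrfl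
theorem f481173 : Led Lsl_gf (LP (LK LD1_c14 LD2_c25 LD3_c41)) = (LP (LK LD1_c22 LD2_c48 LD3_c8)) :=
  Lgr Lrot126 (Lpe (f467973 IH) (Lpr_bt (K28.f96898 IH) (Lpr_gt (K33.f11563 IH) (Lpr_ct (K33.f481150 IH) (Lpr_gt (K33.f6242 IH) (Lpe (f6225 IH) (Lpr_bt (K29.f6309 IH) (Lpr_gt (K33.f6336 IH) (Lpe (K33.f6339 IH) (Lpr_ct (K33.f6340 IH) (Lpn (LP (LK LD1_c22 LD2_c48 LD3_c8)))))))))))))
theorem f481054 : Led Lsl_ct (LP (LK LD1_c14 LD2_c25 LD3_c41)) = (LP (LK LD1_c7 LD2_c39 LD3_c17)) :=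
  Lre_c IH (LK LD1_c14 LD2_c25 LD3_c41) (LK LD1_c7 LD2_c39 LD3_c17) Lrfl Lrfl
theorem f481061 : Led Lsl_dt (LP (LK LD1_c7 LD2_c39 LD3_c17)) = (LP (LK LD1_c3 LD2_c49 LD3_c8)) :=
  Lre_d IH (LK LD1_c7 LD2_c39 LD3_c17) (LK LD1_c3 LD2_c49 LD3_c8) Lrfl Lrfl
theorem f481175 : Led Lsl_gt (LP (LK LD1_c22 LD2_c47 LD3_c55)) = (LP (LK LD1_c13 LD2_c28 LD3_c27)) :=
  Lgr Lrot9 (Lpe (f481144 IH) (Lpr_gt (K33.f481142 IH) (Lpe (K33.f481122 IH) (Lpr_gt (K33.f157586 IH) (Lpr_ct (K33.f157574 IH) (Lpe (f481061 IH) (Lpe (f481054 IH) (Lpr_gf (f481173 IH) (Lpe (K33.f6340 IH) (Lpn (LP (LK LD1_c13 LD2_c28 LD3_c27))))))))))))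
theorem f17517 : Led Lsl_et (LP (LK LD1_c7 LD2_c6 LD3_c40)) = (LP (LK LD1_c13 LD2_c28 LD3_c29)) :=
  Lre_e IH (LK LD1_c7 LD2_c6 LD3_c40) (LK LD1_c13 LD2_c28 LD3_c29) Lrfl Lrfl
theorem f17519 : Led Lsl_dt (LP (LK LD1_c3 LD2_c39 LD3_c36)) = (LP (LK LD1_c1 LD2_c46 LD3_c43)) :=
  Lre_d IH (LK LD1_c3 LD2_c39 LD3_c36) (LK LD1_c1 LD2_c46 LD3_c43) Lrfl Lrfl
theorem f17520 : Led Lsl_et (LP (LK LD1_c7 LD2_c19 LD3_c26)) = (LP (LK LD1_c3 LD2_c39 LD3_c36)) :=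
  Lre_e IH (LK LD1_c7 LD2_c19 LD3_c26) (LK LD1_c3 LD2_c39 LD3_c36) Lrfl Lrfl
theorem f17521 : Led Lsl_dt (LP (LK LD1_c13 LD2_c28 LD3_c29)) = (LP (LK LD1_c7 LD2_c19 LD3_c26)) :=
  Lgr Lrot77 (Lpe (f17517 IH) (Lpr_df (K33.f17508 IH) (Lpe (K35.f17518 IH) (Lpe (f17519 IH) (Lpe (f17520 IH) (Lpn (LP (LK LD1_c7 LD2_c19 LD3_c26))))))))
theorem f17532 : Led Lsl_df (LP (LK LD1_c13 LD2_c28 LD3_c29)) = (LP (LK LD1_c7 LD2_c19 LD3_c26)) :=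
  Lgr Lrot38 (Lpr_dt (f17521 IH) (Lpn (LP (LK LD1_c7 LD2_c19 LD3_c26))))
theorem f17565 : Led Lsl_bt (LP (LK LD1_c13 LD2_c28 LD3_c29)) = (LP (LK LD1_c22 LD2_c48 LD3_c9)) :=
  Lre_b IH (LK LD1_c13 LD2_c28 LD3_c29) (LK LD1_c22 LD2_c48 LD3_c9) Lrfl Lrfl
theorem f17566 : Led Lsl_bt (LP (LK LD1_c13 LD2_c51 LD3_c5)) = (LP (LK LD1_c7 LD2_c19 LD3_c26)) :=
  Lre_b IH (LK LD1_c13 LD2_c51 LD3_c5) (LK LD1_c7 LD2_c19 LD3_c26) Lrfl Lrfl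
theorem f17567 : Led Lsl_dt (LP (LK LD1_c22 LD2_c48 LD3_c9)) = (LP (LK LD1_c13 LD2_c51 LD3_c5)) :=
  Lgr Lrot79 (Lpe (f17565 IH) (Lpr_df (f17532 IH) (Lpe (f17566 IH) (Lpn (LP (LK LD1_c13 LD2_c51 LD3_c5))))))
theorem f17573 : Led Lsl_et (LP (LK LD1_c13 LD2_c28 LD3_c27)) = (LP (LK LD1_c22 LD2_c48 LD3_c9)) :=
  Lre_e IH (LK LD1_c13 LD2_c28 LD3_c27) (LK LD1_c22 LD2_c48 LD3_c9) Lrfl Lrfl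
theorem f17574 : Led Lsl_et (LP (LK LD1_c13 LD2_c51 LD3_c5)) = (LP (LK LD1_c7 LD2_c19 LD3_c24)) :=
  Lre_e IH (LK LD1_c13 LD2_c51 LD3_c5) (LK LD1_c7 LD2_c19 LD3_c24) Lrfl Lrfl
theorem f17575 : Led Lsl_dt (LP (LK LD1_c7 LD2_c19 LD3_c24)) = (LP (LK LD1_c3 LD2_c39 LD3_c35)) :=
  Lre_d IH (LK LD1_c7 LD2_c19 LD3_c24) (LK LD1_c3 LD2_c39 LD3_c35) Lrfl Lrfl
theorem f17576 : Led Lsl_et (LP (LK LD1_c3 LD2_c39 LD3_c35)) = (LP (LK LD1_c7 LD2_c19 LD3_c25)) :=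
  Lre_e IH (LK LD1_c3 LD2_c39 LD3_c35) (LK LD1_c7 LD2_c19 LD3_c25) Lrfl Lrfl
theorem f17577 : Led Lsl_df (LP (LK LD1_c13 LD2_c28 LD3_c27)) = (LP (LK LD1_c7 LD2_c19 LD3_c25)) :=
  Lgr Lrot70 (Lpr_et (f17573 IH) (Lpr_dt (f17567 IH) (Lpr_et (f17574 IH) (Lpr_dt (f17575 IH) (Lpr_et (f17576 IH) (Lpn (LP (LK LD1_c7 LD2_c19 LD3_c25))))))))
theorem f17594 : Led Lsl_et (LP (LK LD1_c7 LD2_c19 LD3_c25)) = (LP (LK LD1_c3 LD2_c39 LD3_c35)) :=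
  Lre_e IH (LK LD1_c7 LD2_c19 LD3_c25) (LK LD1_c3 LD2_c39 LD3_c35) Lrfl Lrfl
theorem f17595 : Led Lsl_gt (LP (LK LD1_c3 LD2_c39 LD3_c35)) = (LP (LK LD1_c7 LD2_c19 LD3_c22)) :=
  Lre_g IH (LK LD1_c3 LD2_c39 LD3_c35) (LK LD1_c7 LD2_c19 LD3_c22) Lrfl Lrfl
theorem f609477 : Led Lsl_et (LP (LK LD1_c7 LD2_c17 LD3_c36)) = (LP (LK LD1_c7 LD2_c19 LD3_c22)) :=
  Lgr Lrot122 (Lpr_dt (f442084 IH) (Lpr_gt (f609470 IH) (Lpe (K43.f575432 IH) (Lpr_et (K43.f524663 IH) (Lpr_gt (K35.f524666 IH) (Lpr_dt (f481144 IH) (Lpr_gt (f481175 IH) (Lpr_df (f17577 IH) (Lpr_et (f17594 IH) (Lpr_gt (f17595 IH) (Lpn (LP (LK LD1_c7 LD2_c19 LD3_c22)))))))))))))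
theorem f121852 : Led Lsl_et (LP (LK LD1_c7 LD2_c17 LD3_c7)) = (LP (LK LD1_c3 LD2_c38 LD3_c24)) :=
  Lre_e IH (LK LD1_c7 LD2_c17 LD3_c7) (LK LD1_c3 LD2_c38 LD3_c24) Lrfl Lrfl
theorem f609483 : Led Lsl_ff (LP (LK LD1_c7 LD2_c17 LD3_c7)) = (LP (LK LD1_c7 LD2_c19 LD3_c22)) :=
  Lgr Lrot72 (Lpr_et (f121852 IH) (Lpe (K32.f497683 IH) (Lpr_et (K46.f497685 IH) (Lpe (f609431 IH) (Lpr_et (f609477 IH) (Lpn (LP (LK LD1_c7 LD2_c19 LD3_c22))))))))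
theorem f609491 : Led Lsl_ft (LP (LK LD1_c7 LD2_c17 LD3_c7)) = (LP (LK LD1_c7 LD2_c19 LD3_c22)) :=
  Lgr Lrot48 (Lpr_ff (f609483 IH) (Lpn (LP (LK LD1_c7 LD2_c19 LD3_c22))))
theorem f522750 : Led Lsl_ct (LP (LK LD1_c7 LD2_c19 LD3_c22)) = (LP (LK LD1_c13 LD2_c50 LD3_c60)) :=
  Lre_c IH (LK LD1_c7 LD2_c19 LD3_c22) (LK LD1_c13 LD2_c50 LD3_c60) Lrfl Lrfl
theorem f609493 : Led Lsl_ff (LP (LK LD1_c13 LD2_c47 LD3_c4)) = (LP (LK LD1_c13 LD2_c50 LD3_c60)) :=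
  Lgr Lrot23 (Lpr_ct (K43.f123621 IH) (Lpr_ft (f609491 IH) (Lpr_ct (f522750 IH) (Lpn (LP (LK LD1_c13 LD2_c50 LD3_c60))))))
theorem f94524 : Led Lsl_gt (LP (LK LD1_c22 LD2_c32 LD3_c3)) = (LP (LK LD1_c13 LD2_c16 LD3_c28)) :=
  Lre_g IH (LK LD1_c22 LD2_c32 LD3_c3) (LK LD1_c13 LD2_c16 LD3_c28) Lrfl Lrfl
theorem f609530 : Led Lsl_gf (LP (LK LD1_c22 LD2_c32 LD3_c3)) = (LP (LK LD1_c13 LD2_c50 LD3_c60)) :=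
  Lgr Lrot47 (Lpr_gt (f94524 IH) (Lpr_af (K32.f497698 IH) (Lpr_ff (f609493 IH) (Lpn (LP (LK LD1_c13 LD2_c50 LD3_c60))))))
theorem f517848 : Led Lsl_ct (LP (LK LD1_c13 LD2_c59 LD3_c22)) = (LP (LK LD1_c7 LD2_c23 LD3_c49)) :=
  Lre_c IH (LK LD1_c13 LD2_c59 LD3_c22) (LK LD1_c7 LD2_c23 LD3_c49) Lrfl Lrfl
theorem f123622 : Led Lsl_ct (LP (LK LD1_c7 LD2_c28 LD3_c29)) = (LP (LK LD1_c14 LD2_c6 LD3_c33)) :=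
  Lre_c IH (LK LD1_c7 LD2_c28 LD3_c29) (LK LD1_c14 LD2_c6 LD3_c33) Lrfl Lrfl
theorem f517850 : Led Lsl_ff (LP (LK LD1_c13 LD2_c59 LD3_c22)) = (LP (LK LD1_c14 LD2_c6 LD3_c33)) :=
  Lgr Lrot23 (Lpr_ct (f517848 IH) (Lpr_ft (f517846 IH) (Lpr_ct (f123622 IH) (Lpn (LP (LK LD1_c14 LD2_c6 LD3_c33))))))
theorem f609523 : Led Lsl_bt (LP (LK LD1_c13 LD2_c59 LD3_c22)) = (LP (LK LD1_c13 LD2_c50 LD3_c60)) :=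
  Lgr Lrot35 (Lpr_ff (f517850 IH) (Lpe (K43.f123619 IH) (Lpr_ff (f609493 IH) (Lpn (LP (LK LD1_c13 LD2_c50 LD3_c60))))))
theorem f440749 : Led Lsl_bt (LP (LK LD1_c7 LD2_c1 LD3_c0)) = (LP (LK LD1_c3 LD2_c29 LD3_c43)) :=
  Lre_b IH (LK LD1_c7 LD2_c1 LD3_c0) (LK LD1_c3 LD2_c29 LD3_c43) Lrfl Lrfl
theorem f467057 : Led Lsl_ct (LP (LK LD1_c3 LD2_c29 LD3_c41)) = (LP (LK LD1_c7 LD2_c0 LD3_c44)) :=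
  Lre_c IH (LK LD1_c3 LD2_c29 LD3_c41) (LK LD1_c7 LD2_c0 LD3_c44) Lrfl Lrfl
theorem f482933 : Led Lsl_gt (LP (LK LD1_c13 LD2_c18 LD3_c6)) = (LP (LK LD1_c7 LD2_c0 LD3_c44)) :=
  Lre_g IH (LK LD1_c13 LD2_c18 LD3_c6) (LK LD1_c7 LD2_c0 LD3_c44) Lrfl Lrfl
theorem f609532 : Led Lsl_ct (LP (LK LD1_c22 LD2_c32 LD3_c3)) = (LP (LK LD1_c13 LD2_c18 LD3_c6)) :=
  Lgr Lrot91 (Lpr_gf (f609530 IH) (Lpe (f609523 IH) (Lpr_ct (f517848 IH) (Lpe (f517831 IH) (Lpr_cf (f518116 IH) (Lpr_bt (f440749 IH) (Lpe (K29.f64727 IH) (Lpe (K29.f109605 IH) (Lpr_ct (f467057 IH) (Lpe (f482933 IH) (Lpn (LP (LK LD1_c13 LD2_c18 LD3_c6)))))))))))))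
theorem f609534 : Led Lsl_cf (LP (LK LD1_c22 LD2_c32 LD3_c3)) = (LP (LK LD1_c13 LD2_c18 LD3_c6)) :=
  Lgr Lrot11 (Lpr_ct (f609532 IH) (Lpn (LP (LK LD1_c13 LD2_c18 LD3_c6))))
theorem f522742 : Led Lsl_bt (LP (LK LD1_c1 LD2_c46 LD3_c43)) = (LP (LK LD1_c3 LD2_c39 LD3_c35)) :=
  Lre_b IH (LK LD1_c1 LD2_c46 LD3_c43) (LK LD1_c3 LD2_c39 LD3_c35) Lrfl Lrfl
theorem f522743 : Led Lsl_ct (LP (LK LD1_c1 LD2_c46 LD3_c43)) = (LP (LK LD1_c1 LD2_c50 LD3_c18)) :=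
  Lgr Lrot59 (Lpr_cf (K33.f522740 IH) (Lpn (LP (LK LD1_c1 LD2_c50 LD3_c18))))
theorem f440977 : Led Lsl_ct (LP (LK LD1_c1 LD2_c50 LD3_c17)) = (LP (LK LD1_c0 LD2_c51 LD3_c61)) :=
  Lre_c IH (LK LD1_c1 LD2_c50 LD3_c17) (LK LD1_c0 LD2_c51 LD3_c61) Lrfl Lrfl
theorem f502725 : Led Lsl_gt (LP (LK LD1_c7 LD2_c33 LD3_c49)) = (LP (LK LD1_c3 LD2_c46 LD3_c23)) :=
  Lre_g IH (LK LD1_c7 LD2_c33 LD3_c49) (LK LD1_c3 LD2_c46 LD3_c23) Lrfl Lrfl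
theorem f609547 : Led Lsl_bf (LP (LK LD1_c7 LD2_c33 LD3_c49)) = (LP (LK LD1_c13 LD2_c18 LD3_c6)) :=
  Lgr Lrot156 (Lpr_gt (f502725 IH) (Lpe (K3.f109508 IH) (Lpr_ct (f440977 IH) (Lpr_gt (K33.f94672 IH) (Lpe (f522743 IH) (Lpr_bt (f522742 IH) (Lpr_gt (f17595 IH) (Lpr_ct (f522750 IH) (Lpe (f609530 IH) (Lpr_cf (f609534 IH) (Lpn (LP (LK LD1_c13 LD2_c18 LD3_c6)))))))))))))
theorem f608672 : Led Lsl_et (LP (LK LD1_c7 LD2_c33 LD3_c49)) = (LP (LK LD1_c14 LD2_c15 LD3_c45)) :=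
  Lre_e IH (LK LD1_c7 LD2_c33 LD3_c49) (LK LD1_c14 LD2_c15 LD3_c45) Lrfl Lrfl
theorem f609546 : Led Lsl_et (LP (LK LD1_c22 LD2_c34 LD3_c1)) = (LP (LK LD1_c13 LD2_c18 LD3_c6)) :=
  Lre_e IH (LK LD1_c22 LD2_c34 LD3_c1) (LK LD1_c13 LD2_c18 LD3_c6) Lrfl Lrfl
theorem f609554 : Led Lsl_bt (LP (LK LD1_c14 LD2_c15 LD3_c45)) = (LP (LK LD1_c22 LD2_c34 LD3_c1)) :=
  Lgr Lrot119 (Lpe (f608672 IH) (Lpr_bf (f609547 IH) (Lpe (f609546 IH) (Lpn (LP (LK LD1_c22 LD2_c34 LD3_c1))))))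
theorem f609556 : Led Lsl_bf (LP (LK LD1_c14 LD2_c15 LD3_c45)) = (LP (LK LD1_c22 LD2_c34 LD3_c1)) :=
  Lgr Lrot24 (Lpr_bt (f609554 IH) (Lpn (LP (LK LD1_c22 LD2_c34 LD3_c1))))
theorem f572134 : Led Lsl_et (LP (LK LD1_c4 LD2_c56 LD3_c39)) = (LP (LK LD1_c9 LD2_c44 LD3_c43)) :=
  Lre_e IH (LK LD1_c4 LD2_c56 LD3_c39) (LK LD1_c9 LD2_c44 LD3_c43) Lrfl Lrfl
theorem f380281 : Led Lsl_dt (LP (LK LD1_c9 LD2_c44 LD3_c42)) = (LP (LK LD1_c4 LD2_c56 LD3_c39)) :=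
  Lre_d IH (LK LD1_c9 LD2_c44 LD3_c42) (LK LD1_c4 LD2_c56 LD3_c39) Lrfl Lrfl
theorem f556298 : Led Lsl_et (LP (LK LD1_c17 LD2_c53 LD3_c54)) = (LP (LK LD1_c9 LD2_c44 LD3_c42)) :=
  Lre_e IH (LK LD1_c17 LD2_c53 LD3_c54) (LK LD1_c9 LD2_c44 LD3_c42) Lrfl Lrfl
theorem f575764 : Led Lsl_et (LP (LK LD1_c17 LD2_c2 LD3_c56)) = (LP (LK LD1_c26 LD2_c57 LD3_c46)) :=
  Lre_e IH (LK LD1_c17 LD2_c2 LD3_c56) (LK LD1_c26 LD2_c57 LD3_c46) Lrfl Lrfl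
theorem f608661 : Led Lsl_df (LP (LK LD1_c17 LD2_c53 LD3_c54)) = (LP (LK LD1_c26 LD2_c57 LD3_c46)) :=
  Lgr Lrot70 (Lpr_et (f556298 IH) (Lpr_dt (f380281 IH) (Lpr_et (f572134 IH) (Lpr_dt (K43.f575772 IH) (Lpr_et (f575764 IH) (Lpn (LP (LK LD1_c26 LD2_c57 LD3_c46))))))))
theorem f608663 : Led Lsl_dt (LP (LK LD1_c17 LD2_c53 LD3_c54)) = (LP (LK LD1_c26 LD2_c57 LD3_c46)) :=
  Lgr Lrot42 (Lpr_df (f608661 IH) (Lpn (LP (LK LD1_c26 LD2_c57 LD3_c46))))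
theorem f468092 : Led Lsl_bt (LP (LK LD1_c1 LD2_c53 LD3_c8)) = (LP (LK LD1_c3 LD2_c53 LD3_c4)) :=
  Lre_b IH (LK LD1_c1 LD2_c53 LD3_c8) (LK LD1_c3 LD2_c53 LD3_c4) Lrfl Lrfl
theorem f564567 : Led Lsl_gf (LP (LK LD1_c7 LD2_c39 LD3_c11)) = (LP (LK LD1_c3 LD2_c53 LD3_c4)) :=
  Lgr Lrot181 (Lpr_ct (K36.f145187 IH) (Lpr_gt (K41.f564565 IH) (Lpe (K41.f97360 IH) (Lpe (K41.f470992 IH) (Lpr_gt (K41.f470540 IH) (Lpe (K28.f464202 IH) (Lpr_ct (K29.f470631 IH) (Lpr_gt (K28.f88019 IH) (Lpe (K28.f458599 IH) (Lpr_bt (f468092 IH) (Lpn (LP (LK LD1_c3 LD2_c53 LD3_c4)))))))))))))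
theorem f88010 : Led Lsl_dt (LP (LK LD1_c7 LD2_c47 LD3_c59)) = (LP (LK LD1_c3 LD2_c53 LD3_c4)) :=
  Lre_d IH (LK LD1_c7 LD2_c47 LD3_c59) (LK LD1_c3 LD2_c53 LD3_c4) Lrfl Lrfl
theorem f88011 : Led Lsl_gt (LP (LK LD1_c14 LD2_c42 LD3_c59)) = (LP (LK LD1_c7 LD2_c47 LD3_c59)) :=
  Lre_g IH (LK LD1_c14 LD2_c42 LD3_c59) (LK LD1_c7 LD2_c47 LD3_c59) Lrfl Lrfl
theorem f468071 : Led Lsl_et (LP (LK LD1_c24 LD2_c28 LD3_c18)) = (LP (LK LD1_c14 LD2_c42 LD3_c59)) :=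
  Lre_e IH (LK LD1_c24 LD2_c28 LD3_c18) (LK LD1_c14 LD2_c42 LD3_c59) Lrfl Lrfl
theorem f109055 : Led Lsl_et (LP (LK LD1_c1 LD2_c50 LD3_c15)) = (LP (LK LD1_c3 LD2_c46 LD3_c23)) :=
  Lre_e IH (LK LD1_c1 LD2_c50 LD3_c15) (LK LD1_c3 LD2_c46 LD3_c23) Lrfl Lrfl
theorem f543936 : Led Lsl_ef (LP (LK LD1_c11 LD2_c33 LD3_c42)) = (LP (LK LD1_c7 LD2_c33 LD3_c50)) :=
  Lgr Lrot73 (Lpr_dt (K41.f428024 IH) (Lpr_et (K37.f543910 IH) (Lpr_dt (K37.f93628 IH) (Lpr_et (f109055 IH) (Lpr_dt (K41.f523479 IH) (Lpn (LP (LK LD1_c7 LD2_c33 LD3_c50))))))))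
theorem f590588 : Led Lsl_dt (LP (LK LD1_c14 LD2_c15 LD3_c44)) = (LP (LK LD1_c7 LD2_c33 LD3_c49)) :=
  Lre_d IH (LK LD1_c14 LD2_c15 LD3_c44) (LK LD1_c7 LD2_c33 LD3_c49) Lrfl Lrfl
theorem f590589 : Led Lsl_et (LP (LK LD1_c14 LD2_c15 LD3_c44)) = (LP (LK LD1_c23 LD2_c52 LD3_c27)) :=
  Lre_e IH (LK LD1_c14 LD2_c15 LD3_c44) (LK LD1_c23 LD2_c52 LD3_c27) Lrfl Lrfl
theorem f572135 : Led Lsl_ft (LP (LK LD1_c9 LD2_c44 LD3_c43)) = (LP (LK LD1_c8 LD2_c12 LD3_c19)) :=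
  Lgr Lrot86 (Lpe (f572134 IH) (Lpr_ff (K42.f572128 IH) (Lpe (K40.f117896 IH) (Lpr_ff (K8.f117607 IH) (Lpe (K40.f559600 IH) (Lpn (LP (LK LD1_c8 LD2_c12 LD3_c19))))))))
theorem f575762 : Led Lsl_df (LP (LK LD1_c9 LD2_c44 LD3_c43)) = (LP (LK LD1_c17 LD2_c2 LD3_c56)) :=
  Lgr Lrot78 (Lpr_ft (f572135 IH) (Lpr_dt (K43.f559599 IH) (Lpr_ft (K43.f575758 IH) (Lpn (LP (LK LD1_c17 LD2_c2 LD3_c56))))))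
theorem f590590 : Led Lsl_gf (LP (LK LD1_c23 LD2_c52 LD3_c27)) = (LP (LK LD1_c26 LD2_c57 LD3_c46)) :=
  Lgr Lrot141 (Lpe (f590589 IH) (Lpr_dt (f590588 IH) (Lpr_gt (f502725 IH) (Lpe (K41.f523481 IH) (Lpe (f543936 IH) (Lpr_gt (K45.f590404 IH) (Lpr_dt (K45.f552353 IH) (Lpr_gt (K45.f574586 IH) (Lpr_df (f575762 IH) (Lpr_et (f575764 IH) (Lpn (LP (LK LD1_c26 LD2_c57 LD3_c46)))))))))))))
theorem f608666 : Led Lsl_dt (LP (LK LD1_c24 LD2_c28 LD3_c18)) = (LP (LK LD1_c23 LD2_c52 LD3_c27)) :=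
  Lgr Lrot37 (Lpr_et (f468071 IH) (Lpr_gt (f88011 IH) (Lpr_dt (f88010 IH) (Lpe (f564567 IH) (Lpe (K45.f96551 IH) (Lpr_et (K45.f588434 IH) (Lpe (K45.f572098 IH) (Lpe (f556298 IH) (Lpr_dt (f608663 IH) (Lpe (f590590 IH) (Lpn (LP (LK LD1_c23 LD2_c52 LD3_c27)))))))))))))
theorem f608670 : Led Lsl_et (LP (LK LD1_c14 LD2_c42 LD3_c59)) = (LP (LK LD1_c24 LD2_c28 LD3_c18)) :=
  Lre_e IH (LK LD1_c14 LD2_c42 LD3_c59) (LK LD1_c24 LD2_c28 LD3_c18) Lrfl Lrfl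
theorem f608671 : Led Lsl_et (LP (LK LD1_c23 LD2_c52 LD3_c27)) = (LP (LK LD1_c14 LD2_c15 LD3_c44)) :=
  Lre_e IH (LK LD1_c23 LD2_c52 LD3_c27) (LK LD1_c14 LD2_c15 LD3_c44) Lrfl Lrfl
theorem f608673 : Led Lsl_df (LP (LK LD1_c14 LD2_c42 LD3_c59)) = (LP (LK LD1_c14 LD2_c15 LD3_c45)) :=
  Lgr Lrot70 (Lpr_et (f608670 IH) (Lpr_dt (f608666 IH) (Lpr_et (f608671 IH) (Lpr_dt (f590588 IH) (Lpr_et (f608672 IH) (Lpn (LP (LK LD1_c14 LD2_c15 LD3_c45))))))))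
theorem f464869 : Led Lsl_dt (LP (LK LD1_c3 LD2_c53 LD3_c15)) = (LP (LK LD1_c1 LD2_c53 LD3_c11)) :=
  Lre_d IH (LK LD1_c3 LD2_c53 LD3_c15) (LK LD1_c1 LD2_c53 LD3_c11) Lrfl Lrfl
theorem f523491 : Led Lsl_gt (LP (LK LD1_c7 LD2_c34 LD3_c17)) = (LP (LK LD1_c13 LD2_c17 LD3_c15)) :=
  Lgr Lrot65 (Lpr_cf (K46.f523485 IH) (Lpr_bt (K46.f471395 IH) (Lpe (K33.f519691 IH) (Lpe (K29.f458536 IH) (Lpr_ct (K29.f446491 IH) (Lpr_gf (K32.f489535 IH) (Lpe (K30.f477547 IH) (Lpr_gf (K29.f477548 IH) (Lpe (K33.f475169 IH) (Lpr_ct (K33.f475173 IH) (Lpn (LP (LK LD1_c13 LD2_c17 LD3_c15)))))))))))))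
theorem f523493 : Led Lsl_gf (LP (LK LD1_c7 LD2_c34 LD3_c17)) = (LP (LK LD1_c13 LD2_c23 LD3_c39)) :=
  Lgr Lrot47 (Lpr_gt (f523491 IH) (Lpe (K34.f475175 IH) (Lpr_ff (K33.f513252 IH) (Lpn (LP (LK LD1_c13 LD2_c23 LD3_c39))))))
theorem f608679 : Led Lsl_gt (LP (LK LD1_c22 LD2_c41 LD3_c14)) = (LP (LK LD1_c14 LD2_c15 LD3_c45)) :=
  Lgr Lrot94 (Lpe (K33.f476546 IH) (Lpe (f523493 IH) (Lpr_dt (K46.f476192 IH) (Lpr_gt (K46.f461192 IH) (Lpr_dt (f464869 IH) (Lpe (K34.f88009 IH) (Lpe (f88010 IH) (Lpe (f88011 IH) (Lpr_df (f608673 IH) (Lpn (LP (LK LD1_c14 LD2_c15 LD3_c45))))))))))))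
theorem f608682 : Led Lsl_gf (LP (LK LD1_c22 LD2_c32 LD3_c50)) = (LP (LK LD1_c14 LD2_c15 LD3_c45)) :=
  Lgr Lrot76 (Lpe (K33.f513228 IH) (Lpr_ff (K33.f513248 IH) (Lpr_gt (f608679 IH) (Lpn (LP (LK LD1_c14 LD2_c15 LD3_c45))))))
theorem f441967 : Led Lsl_et (LP (LK LD1_c13 LD2_c50 LD3_c27)) = (LP (LK LD1_c7 LD2_c18 LD3_c58)) :=
  Lre_e IH (LK LD1_c13 LD2_c50 LD3_c27) (LK LD1_c7 LD2_c18 LD3_c58) Lrfl Lrfl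
theorem f552930 : Led Lsl_dt (LP (LK LD1_c8 LD2_c44 LD3_c13)) = (LP (LK LD1_c12 LD2_c8 LD3_c10)) :=
  Lgr Lrot42 (Lpr_df (K39.f552925 IH) (Lpn (LP (LK LD1_c12 LD2_c8 LD3_c10))))
theorem f411507 : Led Lsl_bt (LP (LK LD1_c16 LD2_c21 LD3_c34)) = (LP (LK LD1_c8 LD2_c44 LD3_c13)) :=
  Lre_b IH (LK LD1_c16 LD2_c21 LD3_c34) (LK LD1_c8 LD2_c44 LD3_c13) Lrfl Lrfl
theorem f544209 : Led Lsl_et (LP (LK LD1_c7 LD2_c18 LD3_c58)) = (LP (LK LD1_c13 LD2_c50 LD3_c27)) :=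
  Lre_e IH (LK LD1_c7 LD2_c18 LD3_c58) (LK LD1_c13 LD2_c50 LD3_c27) Lrfl Lrfl
theorem f544210 : Led Lsl_bf (LP (LK LD1_c12 LD2_c8 LD3_c10)) = (LP (LK LD1_c13 LD2_c50 LD3_c27)) :=
  Lgr Lrot96 (Lpr_et (K39.f544208 IH) (Lpr_bt (K37.f544203 IH) (Lpr_et (f544209 IH) (Lpn (LP (LK LD1_c13 LD2_c50 LD3_c27))))))
theorem f544212 : Led Lsl_bt (LP (LK LD1_c12 LD2_c8 LD3_c10)) = (LP (LK LD1_c13 LD2_c50 LD3_c27)) :=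
  Lgr Lrot127 (Lpr_bf (f544210 IH) (Lpn (LP (LK LD1_c13 LD2_c50 LD3_c27))))
theorem f552976 : Led Lsl_df (LP (LK LD1_c16 LD2_c21 LD3_c34)) = (LP (LK LD1_c13 LD2_c50 LD3_c27)) :=
  Lgr Lrot12 (Lpr_bt (f411507 IH) (Lpr_dt (f552930 IH) (Lpr_bt (f544212 IH) (Lpn (LP (LK LD1_c13 LD2_c50 LD3_c27))))))
theorem f559195 : Led Lsl_dt (LP (LK LD1_c3 LD2_c33 LD3_c27)) = (LP (LK LD1_c3 LD2_c4 LD3_c16)) :=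
  Lgr Lrot57 (Lpr_gf (K8.f162831 IH) (Lpe (K8.f162825 IH) (Lpe (K8.f137219 IH) (Lpr_dt (K5.f87915 IH) (Lpr_gt (K28.f419462 IH) (Lpr_dt (K34.f94530 IH) (Lpe (K2.f94485 IH) (Lpr_df (K37.f441965 IH) (Lpr_gf (K41.f559191 IH) (Lpn (LP (LK LD1_c3 LD2_c4 LD3_c16))))))))))))
theorem f559201 : Led Lsl_gt (LP (LK LD1_c16 LD2_c21 LD3_c34)) = (LP (LK LD1_c13 LD2_c41 LD3_c30)) :=
  Lgr Lrot112 (Lpr_df (f552976 IH) (Lpr_et (f441967 IH) (Lpe (K37.f92317 IH) (Lpe (K4.f94560 IH) (Lpr_dt (K37.f98039 IH) (Lpr_gf (K41.f559191 IH) (Lpe (f559195 IH) (Lpr_gf (K8.f162831 IH) (Lpe (K8.f160378 IH) (Lpr_dt (K41.f160377 IH) (Lpn (LP (LK LD1_c13 LD2_c41 LD3_c30)))))))))))))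
theorem f97040 : Led Lsl_bt (LP (LK LD1_c13 LD2_c38 LD3_c34)) = (LP (LK LD1_c7 LD2_c12 LD3_c14)) :=
  Lre_b IH (LK LD1_c13 LD2_c38 LD3_c34) (LK LD1_c7 LD2_c12 LD3_c14) Lrfl Lrfl
theorem f463859 : Led Lsl_cf (LP (LK LD1_c7 LD2_c12 LD3_c14)) = (LP (LK LD1_c7 LD2_c0 LD3_c6)) :=
  Lgr Lrot11 (Lpr_ct (K34.f463853 IH) (Lpn (LP (LK LD1_c7 LD2_c0 LD3_c6))))
theorem f460212 : Led Lsl_ct (LP (LK LD1_c7 LD2_c0 LD3_c10)) = (LP (LK LD1_c3 LD2_c29 LD3_c13)) :=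
  Lre_c IH (LK LD1_c7 LD2_c0 LD3_c10) (LK LD1_c3 LD2_c29 LD3_c13) Lrfl Lrfl
theorem f463861 : Led Lsl_bt (LP (LK LD1_c13 LD2_c17 LD3_c10)) = (LP (LK LD1_c7 LD2_c0 LD3_c10)) :=
  Lre_b IH (LK LD1_c13 LD2_c17 LD3_c10) (LK LD1_c7 LD2_c0 LD3_c10) Lrfl Lrfl
theorem f463862 : Led Lsl_ct (LP (LK LD1_c13 LD2_c38 LD3_c34)) = (LP (LK LD1_c13 LD2_c17 LD3_c10)) :=
  Lgr Lrot83 (Lpe (K34.f97052 IH) (Lpr_cf (f463859 IH) (Lpe (K34.f460214 IH) (Lpe (f460212 IH) (Lpe (f463861 IH) (Lpn (LP (LK LD1_c13 LD2_c17 LD3_c10))))))))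
theorem f473944 : Led Lsl_bf (LP (LK LD1_c7 LD2_c48 LD3_c3)) = (LP (LK LD1_c7 LD2_c47 LD3_c6)) :=
  Lgr Lrot24 (Lpr_bt (K29.f473942 IH) (Lpn (LP (LK LD1_c7 LD2_c47 LD3_c6))))
theorem f479459 : Led Lsl_ct (LP (LK LD1_c13 LD2_c12 LD3_c45)) = (LP (LK LD1_c7 LD2_c47 LD3_c6)) :=
  Lgr Lrot7 (Lpe (K29.f472950 IH) (Lpr_gf (K29.f479457 IH) (Lpe (K29.f468879 IH) (Lpr_gf (K28.f473352 IH) (Lpe (K28.f473402 IH) (Lpr_gt (K28.f473434 IH) (Lpr_dt (K29.f473799 IH) (Lpe (K29.f473803 IH) (Lpr_dt (K29.f473533 IH) (Lpn (LP (LK LD1_c7 LD2_c47 LD3_c6))))))))))))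
theorem f479447 : Led Lsl_bt (LP (LK LD1_c22 LD2_c26 LD3_c38)) = (LP (LK LD1_c13 LD2_c12 LD3_c45)) :=
  Lre_b IH (LK LD1_c22 LD2_c26 LD3_c38) (LK LD1_c13 LD2_c12 LD3_c45) Lrfl Lrfl
theorem f479477 : Led Lsl_ct (LP (LK LD1_c22 LD2_c14 LD3_c37)) = (LP (LK LD1_c22 LD2_c26 LD3_c38)) :=
  Lgr Lrot83 (Lpe (f479476 IH) (Lpr_cf (K29.f479474 IH) (Lpr_bf (f473944 IH) (Lpe (f479459 IH) (Lpe (f479447 IH) (Lpn (LP (LK LD1_c22 LD2_c26 LD3_c38))))))))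
theorem f493667 : Led Lsl_gf (LP (LK LD1_c13 LD2_c17 LD3_c10)) = (LP (LK LD1_c22 LD2_c26 LD3_c38)) :=
  Lgr Lrot126 (Lpe (f463862 IH) (Lpr_bt (f97040 IH) (Lpe (K30.f483091 IH) (Lpr_ct (K30.f481477 IH) (Lpr_gt (K30.f482962 IH) (Lpr_cf (K33.f483095 IH) (Lpr_bt (K33.f493650 IH) (Lpr_gt (K29.f455955 IH) (Lpe (f479485 IH) (Lpr_ct (f479477 IH) (Lpn (LP (LK LD1_c22 LD2_c26 LD3_c38)))))))))))))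
theorem f559205 : Led Lsl_gf (LP (LK LD1_c13 LD2_c50 LD3_c27)) = (LP (LK LD1_c22 LD2_c14 LD3_c37)) :=
  Lgr Lrot144 (Lpe (f552976 IH) (Lpr_gt (f559201 IH) (Lpr_dt (K43.f160387 IH) (Lpe (K8.f162812 IH) (Lpe (K28.f120641 IH) (Lpr_gf (K28.f463896 IH) (Lpe (K28.f463865 IH) (Lpr_gf (f493667 IH) (Lpe (f479477 IH) (Lpn (LP (LK LD1_c22 LD2_c14 LD3_c37))))))))))))
theorem f535202 : Led Lsl_ct (LP (LK LD1_c13 LD2_c50 LD3_c27)) = (LP (LK LD1_c23 LD2_c19 LD3_c41)) :=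
  Lre_c IH (LK LD1_c13 LD2_c50 LD3_c27) (LK LD1_c23 LD2_c19 LD3_c41) Lrfl Lrfl
theorem f437322 : Led Lsl_et (LP (LK LD1_c30 LD2_c33 LD3_c57)) = (LP (LK LD1_c22 LD2_c32 LD3_c3)) :=
  Lre_e IH (LK LD1_c30 LD2_c33 LD3_c57) (LK LD1_c22 LD2_c32 LD3_c3) Lrfl Lrfl
theorem f609536 : Led Lsl_et (LP (LK LD1_c13 LD2_c18 LD3_c6)) = (LP (LK LD1_c22 LD2_c34 LD3_c1)) :=
  Lre_e IH (LK LD1_c13 LD2_c18 LD3_c6) (LK LD1_c22 LD2_c34 LD3_c1) Lrfl Lrfl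
theorem f609537 : Led Lsl_cf (LP (LK LD1_c30 LD2_c33 LD3_c57)) = (LP (LK LD1_c22 LD2_c34 LD3_c1)) :=
  Lgr Lrot39 (Lpr_et (f437322 IH) (Lpr_ct (f609532 IH) (Lpr_et (f609536 IH) (Lpn (LP (LK LD1_c22 LD2_c34 LD3_c1))))))
theorem f609558 : Led Lsl_gt (LP (LK LD1_c23 LD2_c19 LD3_c41)) = (LP (LK LD1_c30 LD2_c33 LD3_c57)) :=
  Lgr Lrot149 (Lpe (f535202 IH) (Lpr_gf (f559205 IH) (Lpe (f479476 IH) (Lpr_ct (K33.f479479 IH) (Lpe (K29.f477599 IH) (Lpe (K29.f463851 IH) (Lpr_bt (K33.f468112 IH) (Lpr_gf (f608682 IH) (Lpr_bf (f609556 IH) (Lpe (f609537 IH) (Lpn (LP (LK LD1_c30 LD2_c33 LD3_c57)))))))))))))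
theorem f543688 : Led Lsl_gt (LP (LK LD1_c21 LD2_c14 LD3_c23)) = (LP (LK LD1_c12 LD2_c8 LD3_c10)) :=
  Lre_g IH (LK LD1_c21 LD2_c14 LD3_c23) (LK LD1_c12 LD2_c8 LD3_c10) Lrfl Lrfl
theorem f526560 : Led Lsl_at (LP (LK LD1_c13 LD2_c23 LD3_c37)) = (LP (LK LD1_c7 LD2_c34 LD3_c17)) :=
  Lgr Lrot100 (Lpr_af (K46.f526558 IH) (Lpn (LP (LK LD1_c7 LD2_c34 LD3_c17))))
theorem f526595 : Led Lsl_gf (LP (LK LD1_c13 LD2_c23 LD3_c39)) = (LP (LK LD1_c14 LD2_c43 LD3_c19)) :=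
  Lgr Lrot47 (Lpe (f523493 IH) (Lpe (f526560 IH) (Lpr_ff (K46.f526591 IH) (Lpn (LP (LK LD1_c14 LD2_c43 LD3_c19))))))
theorem f513276 : Led Lsl_ft (LP (LK LD1_c13 LD2_c17 LD3_c15)) = (LP (LK LD1_c7 LD2_c3 LD3_c55)) :=
  Lgr Lrot101 (Lpe (K34.f475175 IH) (Lpr_ff (K33.f513252 IH) (Lpe (K37.f63104 IH) (Lpn (LP (LK LD1_c7 LD2_c3 LD3_c55))))))
theorem f526597 : Led Lsl_gt (LP (LK LD1_c13 LD2_c17 LD3_c15)) = (LP (LK LD1_c14 LD2_c43 LD3_c19)) :=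
  Lgr Lrot5 (Lpr_ft (f513276 IH) (Lpr_at (K37.f63104 IH) (Lpr_gf (f526595 IH) (Lpn (LP (LK LD1_c14 LD2_c43 LD3_c19))))))
theorem f609560 : Led Lsl_bf (LP (LK LD1_c21 LD2_c14 LD3_c23)) = (LP (LK LD1_c24 LD2_c28 LD3_c40)) :=
  Lgr Lrot156 (Lpr_gt (f543688 IH) (Lpr_bf (f544210 IH) (Lpr_ct (f535202 IH) (Lpr_gt (f609558 IH) (Lpr_cf (f609537 IH) (Lpe (f609556 IH) (Lpe (f608682 IH) (Lpr_ct (K33.f475173 IH) (Lpr_gt (f526597 IH) (Lpe (K46.f471555 IH) (Lpn (LP (LK LD1_c24 LD2_c28 LD3_c40)))))))))))))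
theorem f476445 : Led Lsl_bt (LP (LK LD1_c3 LD2_c38 LD3_c43)) = (LP (LK LD1_c7 LD2_c17 LD3_c47)) :=
  Lre_b IH (LK LD1_c3 LD2_c38 LD3_c43) (LK LD1_c7 LD2_c17 LD3_c47) Lrfl Lrfl
theorem f493737 : Led Lsl_at (LP (LK LD1_c7 LD2_c17 LD3_c47)) = (LP (LK LD1_c13 LD2_c48 LD3_c10)) :=
  Lre_a IH (LK LD1_c7 LD2_c17 LD3_c47) (LK LD1_c13 LD2_c48 LD3_c10) Lrfl Lrfl
theorem f526566 : Led Lsl_bf (LP (LK LD1_c22 LD2_c41 LD3_c21)) = (LP (LK LD1_c13 LD2_c48 LD3_c10)) :=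
  Lgr Lrot81 (Lpr_at (K46.f526562 IH) (Lpr_bt (K46.f471395 IH) (Lpe (K45.f525948 IH) (Lpr_bt (f476445 IH) (Lpr_at (f493737 IH) (Lpn (LP (LK LD1_c13 LD2_c48 LD3_c10))))))))
theorem f609568 : Led Lsl_ft (LP (LK LD1_c21 LD2_c14 LD3_c23)) = (LP (LK LD1_c13 LD2_c48 LD3_c10)) :=
  Lgr Lrot75 (Lpr_bf (f609560 IH) (Lpe (K46.f526593 IH) (Lpr_bf (f526566 IH) (Lpn (LP (LK LD1_c13 LD2_c48 LD3_c10))))))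
theorem f493728 : Led Lsl_at (LP (LK LD1_c13 LD2_c48 LD3_c10)) = (LP (LK LD1_c7 LD2_c17 LD3_c47)) :=
  Lre_a IH (LK LD1_c13 LD2_c48 LD3_c10) (LK LD1_c7 LD2_c17 LD3_c47) Lrfl Lrfl
theorem f493744 : Led Lsl_ft (LP (LK LD1_c7 LD2_c17 LD3_c47)) = (LP (LK LD1_c13 LD2_c48 LD3_c19)) :=
  Lre_f IH (LK LD1_c7 LD2_c17 LD3_c47) (LK LD1_c13 LD2_c48 LD3_c19) Lrfl Lrfl
theorem f609570 : Led Lsl_af (LP (LK LD1_c21 LD2_c14 LD3_c23)) = (LP (LK LD1_c13 LD2_c48 LD3_c19)) :=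
  Lgr Lrot45 (Lpr_ft (f609568 IH) (Lpr_at (f493728 IH) (Lpr_ft (f493744 IH) (Lpn (LP (LK LD1_c13 LD2_c48 LD3_c19))))))
theorem f476446 : Led Lsl_gt (LP (LK LD1_c7 LD2_c17 LD3_c47)) = (LP (LK LD1_c13 LD2_c48 LD3_c17)) :=
  Lre_g IH (LK LD1_c7 LD2_c17 LD3_c47) (LK LD1_c13 LD2_c48 LD3_c17) Lrfl Lrfl
theorem f609607 : Led Lsl_gf (LP (LK LD1_c21 LD2_c14 LD3_c23)) = (LP (LK LD1_c13 LD2_c48 LD3_c17)) :=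
  Lgr Lrot76 (Lpr_af (f609570 IH) (Lpe (f493744 IH) (Lpr_gt (f476446 IH) (Lpn (LP (LK LD1_c13 LD2_c48 LD3_c17))))))
theorem f147309 : Led Lsl_et (LP (LK LD1_c3 LD2_c39 LD3_c27)) = (LP (LK LD1_c7 LD2_c19 LD3_c6)) :=
  Lre_e IH (LK LD1_c3 LD2_c39 LD3_c27) (LK LD1_c7 LD2_c19 LD3_c6) Lrfl Lrfl
theorem f541108 : Led Lsl_dt (LP (LK LD1_c3 LD2_c39 LD3_c27)) = (LP (LK LD1_c3 LD2_c10 LD3_c28)) :=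
  Lgr Lrot120 (Lpe (K28.f147207 IH) (Lpe (f147211 IH) (Lpr_cf (K36.f541096 IH) (Lpe (K32.f205323 IH) (Lpe (K11.f59390 IH) (Lpr_df (K14.f237346 IH) (Lpe (K14.f255335 IH) (Lpe (K14.f255383 IH) (Lpe (K13.f204847 IH) (Lpn (LP (LK LD1_c3 LD2_c10 LD3_c28))))))))))))
theorem f425439 : Led Lsl_dt (LP (LK LD1_c7 LD2_c14 LD3_c20)) = (LP (LK LD1_c13 LD2_c41 LD3_c54)) :=
  Lre_d IH (LK LD1_c7 LD2_c14 LD3_c20) (LK LD1_c13 LD2_c41 LD3_c54) Lrfl Lrfl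
theorem f425452 : Led Lsl_gt (LP (LK LD1_c13 LD2_c41 LD3_c54)) = (LP (LK LD1_c23 LD2_c7 LD3_c23)) :=
  Lre_g IH (LK LD1_c13 LD2_c41 LD3_c54) (LK LD1_c23 LD2_c7 LD3_c23) Lrfl Lrfl
theorem f493735 : Led Lsl_et (LP (LK LD1_c13 LD2_c48 LD3_c10)) = (LP (LK LD1_c7 LD2_c17 LD3_c44)) :=
  Lre_e IH (LK LD1_c13 LD2_c48 LD3_c10) (LK LD1_c7 LD2_c17 LD3_c44) Lrfl Lrfl
theorem f608965 : Led Lsl_df (LP (LK LD1_c23 LD2_c7 LD3_c23)) = (LP (LK LD1_c13 LD2_c48 LD3_c10)) :=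
  Lgr Lrot132 (Lpe (f425452 IH) (Lpe (f425439 IH) (Lpe (K35.f425438 IH) (Lpe (K29.f425447 IH) (Lpr_dt (K38.f519716 IH) (Lpq (K38.f546925 IH) (Lpe (K16.f269120 IH) (Lpe (f541108 IH) (Lpr_et (f147309 IH) (Lpr_gf (f608959 IH) (Lpe (f493735 IH) (Lpn (LP (LK LD1_c13 LD2_c48 LD3_c10))))))))))))))
theorem f608971 : Led Lsl_dt (LP (LK LD1_c23 LD2_c7 LD3_c23)) = (LP (LK LD1_c13 LD2_c48 LD3_c10)) :=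
  Lgr Lrot42 (Lpr_df (f608965 IH) (Lpn (LP (LK LD1_c13 LD2_c48 LD3_c10))))
theorem f526576 : Led Lsl_af (LP (LK LD1_c14 LD2_c21 LD3_c55)) = (LP (LK LD1_c7 LD2_c48 LD3_c8)) :=
  Lgr Lrot0 (Lpr_at (K46.f526574 IH) (Lpn (LP (LK LD1_c7 LD2_c48 LD3_c8))))
theorem f459740 : Led Lsl_bt (LP (LK LD1_c3 LD2_c48 LD3_c3)) = (LP (LK LD1_c7 LD2_c37 LD3_c11)) :=
  Lre_b IH (LK LD1_c3 LD2_c48 LD3_c3) (LK LD1_c7 LD2_c37 LD3_c11) Lrfl Lrfl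
theorem f464009 : Led Lsl_bt (LP (LK LD1_c3 LD2_c53 LD3_c15)) = (LP (LK LD1_c1 LD2_c53 LD3_c12)) :=
  Lre_b IH (LK LD1_c3 LD2_c53 LD3_c15) (LK LD1_c1 LD2_c53 LD3_c12) Lrfl Lrfl
theorem f474214 : Led Lsl_ft (LP (LK LD1_c7 LD2_c37 LD3_c11)) = (LP (LK LD1_c3 LD2_c53 LD3_c15)) :=
  Lgr Lrot75 (Lpe (f459740 IH) (Lpr_ff (K29.f474209 IH) (Lpe (f464009 IH) (Lpn (LP (LK LD1_c3 LD2_c53 LD3_c15))))))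
theorem f129873 : Led Lsl_gt (LP (LK LD1_c7 LD2_c37 LD3_c11)) = (LP (LK LD1_c14 LD2_c21 LD3_c54)) :=
  Lre_g IH (LK LD1_c7 LD2_c37 LD3_c11) (LK LD1_c14 LD2_c21 LD3_c54) Lrfl Lrfl
theorem f474111 : Led Lsl_at (LP (LK LD1_c3 LD2_c53 LD3_c15)) = (LP (LK LD1_c7 LD2_c48 LD3_c6)) :=
  Lre_a IH (LK LD1_c3 LD2_c53 LD3_c15) (LK LD1_c7 LD2_c48 LD3_c6) Lrfl Lrfl
theorem f476307 : Led Lsl_gt (LP (LK LD1_c14 LD2_c21 LD3_c54)) = (LP (LK LD1_c7 LD2_c48 LD3_c6)) :=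
  Lgr Lrot46 (Lpe (f129873 IH) (Lpr_ft (f474214 IH) (Lpr_at (f474111 IH) (Lpn (LP (LK LD1_c7 LD2_c48 LD3_c6))))))
theorem f526613 : Led Lsl_ft (LP (LK LD1_c14 LD2_c21 LD3_c54)) = (LP (LK LD1_c7 LD2_c48 LD3_c8)) :=
  Lgr Lrot2 (Lpr_gt (f476307 IH) (Lpr_gt (K46.f475791 IH) (Lpr_af (f526576 IH) (Lpn (LP (LK LD1_c7 LD2_c48 LD3_c8))))))
theorem f526625 : Led Lsl_ff (LP (LK LD1_c14 LD2_c21 LD3_c54)) = (LP (LK LD1_c7 LD2_c48 LD3_c8)) :=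
  Lgr Lrot3 (Lpr_ft (f526613 IH) (Lpn (LP (LK LD1_c7 LD2_c48 LD3_c8))))
theorem f471550 : Led Lsl_dt (LP (LK LD1_c14 LD2_c43 LD3_c19)) = (LP (LK LD1_c7 LD2_c48 LD3_c8)) :=
  Lre_d IH (LK LD1_c14 LD2_c43 LD3_c19) (LK LD1_c7 LD2_c48 LD3_c8) Lrfl Lrfl
theorem f526631 : Led Lsl_dt (LP (LK LD1_c14 LD2_c21 LD3_c54)) = (LP (LK LD1_c13 LD2_c23 LD3_c37)) :=
  Lgr Lrot60 (Lpr_ff (f526625 IH) (Lpe (f471550 IH) (Lpe (K46.f526587 IH) (Lpn (LP (LK LD1_c13 LD2_c23 LD3_c37))))))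
theorem f129870 : Led Lsl_dt (LP (LK LD1_c3 LD2_c48 LD3_c2)) = (LP (LK LD1_c7 LD2_c37 LD3_c11)) :=
  Lre_d IH (LK LD1_c3 LD2_c48 LD3_c2) (LK LD1_c7 LD2_c37 LD3_c11) Lrfl Lrfl
theorem f97340 : Led Lsl_dt (LP (LK LD1_c7 LD2_c7 LD3_c53)) = (LP (LK LD1_c13 LD2_c30 LD3_c28)) :=
  Lre_d IH (LK LD1_c7 LD2_c7 LD3_c53) (LK LD1_c13 LD2_c30 LD3_c28) Lrfl Lrfl
theorem f470972 : Led Lsl_gt (LP (LK LD1_c13 LD2_c30 LD3_c28)) = (LP (LK LD1_c22 LD2_c51 LD3_c13)) :=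
  Lre_g IH (LK LD1_c13 LD2_c30 LD3_c28) (LK LD1_c22 LD2_c51 LD3_c13) Lrfl Lrfl
theorem f466482 : Led Lsl_ct (LP (LK LD1_c22 LD2_c41 LD3_c21)) = (LP (LK LD1_c13 LD2_c23 LD3_c37)) :=
  Lre_c IH (LK LD1_c22 LD2_c41 LD3_c21) (LK LD1_c13 LD2_c23 LD3_c37) Lrfl Lrfl
theorem f526638 : Led Lsl_dt (LP (LK LD1_c22 LD2_c51 LD3_c13)) = (LP (LK LD1_c22 LD2_c41 LD3_c21)) :=
  Lgr Lrot105 (Lpe (f470972 IH) (Lpe (f97340 IH) (Lpe (K41.f96859 IH) (Lpe (K3.f96834 IH) (Lpr_gt (K34.f471275 IH) (Lpr_dt (f129870 IH) (Lpr_gt (f129873 IH) (Lpr_dt (f526631 IH) (Lpe (f466482 IH) (Lpn (LP (LK LD1_c22 LD2_c41 LD3_c21))))))))))))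
theorem f526644 : Led Lsl_df (LP (LK LD1_c22 LD2_c51 LD3_c13)) = (LP (LK LD1_c22 LD2_c41 LD3_c21)) :=
  Lgr Lrot38 (Lpr_dt (f526638 IH) (Lpn (LP (LK LD1_c22 LD2_c41 LD3_c21))))
theorem f608976 : Led Lsl_bf (LP (LK LD1_c23 LD2_c7 LD3_c23)) = (LP (LK LD1_c22 LD2_c51 LD3_c13)) :=
  Lgr Lrot93 (Lpr_dt (f608971 IH) (Lpe (f526566 IH) (Lpe (f526644 IH) (Lpn (LP (LK LD1_c22 LD2_c51 LD3_c13))))))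
theorem f526605 : Led Lsl_df (LP (LK LD1_c24 LD2_c40 LD3_c34)) = (LP (LK LD1_c24 LD2_c28 LD3_c40)) :=
  Lgr Lrot38 (Lpr_dt (K46.f526603 IH) (Lpn (LP (LK LD1_c24 LD2_c28 LD3_c40))))
theorem f526646 : Led Lsl_ff (LP (LK LD1_c22 LD2_c51 LD3_c13)) = (LP (LK LD1_c24 LD2_c40 LD3_c34)) :=
  Lgr Lrot19 (Lpr_dt (f526638 IH) (Lpr_ft (K46.f526593 IH) (Lpe (f526605 IH) (Lpn (LP (LK LD1_c24 LD2_c40 LD3_c34))))))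
theorem f470408 : Led Lsl_af (LP (LK LD1_c3 LD2_c56 LD3_c4)) = (LP (LK LD1_c7 LD2_c7 LD3_c22)) :=
  Lgr Lrot45 (Lpe (K29.f458643 IH) (Lpr_at (K29.f465149 IH) (Lpr_ft (K29.f470405 IH) (Lpn (LP (LK LD1_c7 LD2_c7 LD3_c22))))))
theorem f446554 : Led Lsl_gt (LP (LK LD1_c7 LD2_c53 LD3_c49)) = (LP (LK LD1_c3 LD2_c56 LD3_c4)) :=
  Lre_g IH (LK LD1_c7 LD2_c53 LD3_c49) (LK LD1_c3 LD2_c56 LD3_c4) Lrfl Lrfl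
theorem f470415 : Led Lsl_gt (LP (LK LD1_c7 LD2_c13 LD3_c61)) = (LP (LK LD1_c7 LD2_c53 LD3_c49)) :=
  Lgr Lrot5 (Lpr_ft (K29.f470405 IH) (Lpe (f470408 IH) (Lpe (f446554 IH) (Lpn (LP (LK LD1_c7 LD2_c53 LD3_c49))))))
theorem f526225 : Led Lsl_af (LP (LK LD1_c7 LD2_c53 LD3_c49)) = (LP (LK LD1_c7 LD2_c53 LD3_c52)) :=
  Lgr Lrot31 (Lpe (f470415 IH) (Lpe (K33.f465162 IH) (Lpr_ft (K46.f526217 IH) (Lpn (LP (LK LD1_c7 LD2_c53 LD3_c52))))))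
theorem f472319 : Led Lsl_bt (LP (LK LD1_c7 LD2_c53 LD3_c49)) = (LP (LK LD1_c14 LD2_c53 LD3_c33)) :=
  Lre_b IH (LK LD1_c7 LD2_c53 LD3_c49) (LK LD1_c14 LD2_c53 LD3_c33) Lrfl Lrfl
theorem f526229 : Led Lsl_at (LP (LK LD1_c14 LD2_c53 LD3_c33)) = (LP (LK LD1_c24 LD2_c40 LD3_c24)) :=
  Lre_a IH (LK LD1_c14 LD2_c53 LD3_c33) (LK LD1_c24 LD2_c40 LD3_c24) Lrfl Lrfl
theorem f511879 : Led Lsl_at (LP (LK LD1_c24 LD2_c40 LD3_c34)) = (LP (LK LD1_c14 LD2_c53 LD3_c43)) :=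
  Lre_a IH (LK LD1_c24 LD2_c40 LD3_c34) (LK LD1_c14 LD2_c53 LD3_c43) Lrfl Lrfl
theorem f526230 : Led Lsl_bt (LP (LK LD1_c24 LD2_c40 LD3_c24)) = (LP (LK LD1_c24 LD2_c40 LD3_c34)) :=
  Lgr Lrot62 (Lpe (f526229 IH) (Lpe (f472319 IH) (Lpr_af (f526225 IH) (Lpe (K46.f458712 IH) (Lpe (f511879 IH) (Lpn (LP (LK LD1_c24 LD2_c40 LD3_c34))))))))
theorem f609131 : Led Lsl_ft (LP (LK LD1_c23 LD2_c7 LD3_c23)) = (LP (LK LD1_c24 LD2_c40 LD3_c24)) :=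
  Lgr Lrot75 (Lpr_bf (f608976 IH) (Lpr_ff (f526646 IH) (Lpe (f526230 IH) (Lpn (LP (LK LD1_c24 LD2_c40 LD3_c24))))))
theorem f609572 : Led Lsl_df (LP (LK LD1_c21 LD2_c14 LD3_c23)) = (LP (LK LD1_c24 LD2_c40 LD3_c24)) :=
  Lgr Lrot78 (Lpr_ft (f609568 IH) (Lpe (f608965 IH) (Lpr_ft (f609131 IH) (Lpn (LP (LK LD1_c24 LD2_c40 LD3_c24))))))
theorem f576170 : Led Lsl_et (LP (LK LD1_c16 LD2_c23 LD3_c12)) = (LP (LK LD1_c12 LD2_c8 LD3_c9)) :=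
  Lgr Lrot87 (Lpr_ef (K43.f576166 IH) (Lpn (LP (LK LD1_c12 LD2_c8 LD3_c9))))
theorem f39987 : Led Lsl_gt (LP (LK LD1_c15 LD2_c0 LD3_c25)) = (LP (LK LD1_c7 LD2_c57 LD3_c26)) :=
  Lre_g IH (LK LD1_c15 LD2_c0 LD3_c25) (LK LD1_c7 LD2_c57 LD3_c26) Lrfl Lrfl
theorem f576164 : Led Lsl_df (LP (LK LD1_c16 LD2_c23 LD3_c12)) = (LP (LK LD1_c15 LD2_c0 LD3_c25)) :=
  Lgr Lrot155 (Lpr_gt (K43.f576160 IH) (Lpr_ct (K46.f38079 IH) (Lpr_gt (K37.f445137 IH) (Lpe (K37.f443145 IH) (Lpe (K37.f35832 IH) (Lpr_cf (K40.f445239 IH) (Lpe (K40.f37807 IH) (Lpe (K40.f37808 IH) (Lpe (f39987 IH) (Lpn (LP (LK LD1_c15 LD2_c0 LD3_c25))))))))))))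
theorem f543687 : Led Lsl_et (LP (LK LD1_c6 LD2_c14 LD3_c55)) = (LP (LK LD1_c12 LD2_c8 LD3_c10)) :=
  Lre_e IH (LK LD1_c6 LD2_c14 LD3_c55) (LK LD1_c12 LD2_c8 LD3_c10) Lrfl Lrfl
theorem f576194 : Led Lsl_ef (LP (LK LD1_c15 LD2_c0 LD3_c25)) = (LP (LK LD1_c8 LD2_c44 LD3_c13)) :=
  Lgr Lrot73 (Lpe (f576164 IH) (Lpr_et (f576170 IH) (Lpr_dt (K40.f38044 IH) (Lpr_et (f543687 IH) (Lpe (K39.f552925 IH) (Lpn (LP (LK LD1_c8 LD2_c44 LD3_c13))))))))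
theorem f39986 : Led Lsl_dt (LP (LK LD1_c7 LD2_c57 LD3_c26)) = (LP (LK LD1_c3 LD2_c58 LD3_c0)) :=
  Lre_d IH (LK LD1_c7 LD2_c57 LD3_c26) (LK LD1_c3 LD2_c58 LD3_c0) Lrfl Lrfl
theorem f609603 : Led Lsl_ef (LP (LK LD1_c14 LD2_c59 LD3_c24)) = (LP (LK LD1_c24 LD2_c40 LD3_c24)) :=
  Lgr Lrot17 (Lpr_gf (K40.f444824 IH) (Lpe (K1.f38853 IH) (Lpr_dt (K37.f16428 IH) (Lpe (K2.f39984 IH) (Lpe (f39986 IH) (Lpe (f39987 IH) (Lpr_ef (f576194 IH) (Lpr_dt (f552930 IH) (Lpe (f543688 IH) (Lpr_df (f609572 IH) (Lpn (LP (LK LD1_c24 LD2_c40 LD3_c24)))))))))))))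
theorem f237302 : Led Lsl_et (LP (LK LD1_c8 LD2_c44 LD3_c12)) = (LP (LK LD1_c16 LD2_c21 LD3_c33)) :=
  Lre_e IH (LK LD1_c8 LD2_c44 LD3_c12) (LK LD1_c16 LD2_c21 LD3_c33) Lrfl Lrfl
theorem f609609 : Led Lsl_dt (LP (LK LD1_c8 LD2_c44 LD3_c12)) = (LP (LK LD1_c13 LD2_c48 LD3_c17)) :=
  Lgr Lrot136 (Lpr_et (f237302 IH) (Lpe (K37.f237303 IH) (Lpr_ef (K37.f237304 IH) (Lpr_dt (K37.f100993 IH) (Lpe (K37.f100990 IH) (Lpr_df (K9.f100976 IH) (Lpe (K40.f39838 IH) (Lpr_ef (f609603 IH) (Lpe (f609572 IH) (Lpr_gf (f609607 IH) (Lpn (LP (LK LD1_c13 LD2_c48 LD3_c17)))))))))))))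
theorem f609613 : Led Lsl_df (LP (LK LD1_c8 LD2_c44 LD3_c12)) = (LP (LK LD1_c13 LD2_c48 LD3_c17)) :=
  Lgr Lrot38 (Lpr_dt (f609609 IH) (Lpn (LP (LK LD1_c13 LD2_c48 LD3_c17))))
theorem f411511 : Led Lsl_gt (LP (LK LD1_c8 LD2_c44 LD3_c12)) = (LP (LK LD1_c14 LD2_c58 LD3_c40)) :=
  Lgr Lrot46 (Lpe (K37.f237296 IH) (Lpr_ft (K39.f270058 IH) (Lpr_at (K39.f411502 IH) (Lpn (LP (LK LD1_c14 LD2_c58 LD3_c40))))))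
theorem f465548 : Led Lsl_et (LP (LK LD1_c13 LD2_c30 LD3_c53)) = (LP (LK LD1_c7 LD2_c8 LD3_c5)) :=
  Lre_e IH (LK LD1_c13 LD2_c30 LD3_c53) (LK LD1_c7 LD2_c8 LD3_c5) Lrfl Lrfl
theorem f493724 : Led Lsl_et (LP (LK LD1_c3 LD2_c38 LD3_c41)) = (LP (LK LD1_c7 LD2_c17 LD3_c47)) :=
  Lre_e IH (LK LD1_c3 LD2_c38 LD3_c41) (LK LD1_c7 LD2_c17 LD3_c47) Lrfl Lrfl
theorem f5365 : Led Lsl_dt (LP (LK LD1_c3 LD2_c38 LD3_c41)) = (LP (LK LD1_c7 LD2_c17 LD3_c46)) :=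
  Lre_d IH (LK LD1_c3 LD2_c38 LD3_c41) (LK LD1_c7 LD2_c17 LD3_c46) Lrfl Lrfl
theorem f476484 : Led Lsl_gt (LP (LK LD1_c13 LD2_c48 LD3_c14)) = (LP (LK LD1_c7 LD2_c17 LD3_c46)) :=
  Lre_g IH (LK LD1_c13 LD2_c48 LD3_c14) (LK LD1_c7 LD2_c17 LD3_c46) Lrfl Lrfl
theorem f609648 : Led Lsl_dt (LP (LK LD1_c13 LD2_c30 LD3_c53)) = (LP (LK LD1_c13 LD2_c48 LD3_c14)) :=
  Lgr Lrot136 (Lpr_et (f465548 IH) (Lpe (K35.f470557 IH) (Lpr_ef (K39.f470529 IH) (Lpr_dt (K39.f547014 IH) (Lpe (f411511 IH) (Lpr_df (f609613 IH) (Lpe (f476446 IH) (Lpe (f493724 IH) (Lpr_dt (f5365 IH) (Lpe (f476484 IH) (Lpn (LP (LK LD1_c13 LD2_c48 LD3_c14)))))))))))))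
theorem f108142 : Led Lsl_et (LP (LK LD1_c1 LD2_c43 LD3_c31)) = (LP (LK LD1_c3 LD2_c33 LD3_c38)) :=
  Lre_e IH (LK LD1_c1 LD2_c43 LD3_c31) (LK LD1_c3 LD2_c33 LD3_c38) Lrfl Lrfl
theorem f424469 : Led Lsl_df (LP (LK LD1_c2 LD2_c30 LD3_c40)) = (LP (LK LD1_c3 LD2_c4 LD3_c30)) :=
  Lgr Lrot38 (Lpr_dt (K37.f424464 IH) (Lpn (LP (LK LD1_c3 LD2_c4 LD3_c30))))
theorem f424507 : Led Lsl_dt (LP (LK LD1_c12 LD2_c8 LD3_c29)) = (LP (LK LD1_c21 LD2_c14 LD3_c47)) :=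
  Lre_d IH (LK LD1_c12 LD2_c8 LD3_c29) (LK LD1_c21 LD2_c14 LD3_c47) Lrfl Lrfl
theorem f609655 : Led Lsl_gt (LP (LK LD1_c21 LD2_c14 LD3_c47)) = (LP (LK LD1_c13 LD2_c48 LD3_c14)) :=
  Lgr Lrot139 (Lpe (f424507 IH) (Lpe (f424483 IH) (Lpe (K37.f424471 IH) (Lpe (f424469 IH) (Lpr_gf (K38.f546913 IH) (Lpe (K38.f108103 IH) (Lpr_et (f108142 IH) (Lpe (K29.f108051 IH) (Lpe (f465548 IH) (Lpr_dt (f609648 IH) (Lpn (LP (LK LD1_c13 LD2_c48 LD3_c14)))))))))))))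
theorem f608950 : Led Lsl_et (LP (LK LD1_c12 LD2_c8 LD3_c29)) = (LP (LK LD1_c21 LD2_c14 LD3_c48)) :=
  Lre_e IH (LK LD1_c12 LD2_c8 LD3_c29) (LK LD1_c21 LD2_c14 LD3_c48) Lrfl Lrfl
theorem f609279 : Led Lsl_ef (LP (LK LD1_c23 LD2_c8 LD3_c39)) = (LP (LK LD1_c13 LD2_c51 LD3_c18)) :=
  Lgr Lrot88 (Lpr_et (f609277 IH) (Lpn (LP (LK LD1_c13 LD2_c51 LD3_c18))))
theorem f609663 : Led Lsl_gf (LP (LK LD1_c21 LD2_c14 LD3_c48)) = (LP (LK LD1_c23 LD2_c8 LD3_c39)) :=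
  Lgr Lrot141 (Lpe (f608950 IH) (Lpr_dt (f424507 IH) (Lpr_gt (f609655 IH) (Lpe (f609648 IH) (Lpr_et (f465548 IH) (Lpr_gt (K29.f108051 IH) (Lpr_dt (K28.f108056 IH) (Lpr_gt (f465516 IH) (Lpr_df (f609270 IH) (Lpe (f609279 IH) (Lpn (LP (LK LD1_c23 LD2_c8 LD3_c39)))))))))))))
theorem f92604 : Led Lsl_dt (LP (LK LD1_c7 LD2_c14 LD3_c58)) = (LP (LK LD1_c13 LD2_c43 LD3_c0)) :=
  Lre_d IH (LK LD1_c7 LD2_c14 LD3_c58) (LK LD1_c13 LD2_c43 LD3_c0) Lrfl Lrfl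
theorem f526110 : Led Lsl_at (LP (LK LD1_c13 LD2_c42 LD3_c60)) = (LP (LK LD1_c7 LD2_c14 LD3_c58)) :=
  Lre_a IH (LK LD1_c13 LD2_c42 LD3_c60) (LK LD1_c7 LD2_c14 LD3_c58) Lrfl Lrfl
theorem f608953 : Led Lsl_df (LP (LK LD1_c13 LD2_c42 LD3_c60)) = (LP (LK LD1_c21 LD2_c14 LD3_c48)) :=
  Lgr Lrot18 (Lpr_at (f526110 IH) (Lpr_dt (f92604 IH) (Lpr_at (f608948 IH) (Lpn (LP (LK LD1_c21 LD2_c14 LD3_c48))))))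
theorem f609665 : Led Lsl_gt (LP (LK LD1_c13 LD2_c42 LD3_c60)) = (LP (LK LD1_c13 LD2_c30 LD3_c49)) :=
  Lgr Lrot139 (Lpr_df (f608953 IH) (Lpr_gf (f609663 IH) (Lpr_ef (f609279 IH) (Lpe (f609270 IH) (Lpe (f465516 IH) (Lpe (K28.f108056 IH) (Lpr_et (K28.f108062 IH) (Lpe (K8.f108028 IH) (Lpe (K37.f155685 IH) (Lpr_dt (K40.f155682 IH) (Lpn (LP (LK LD1_c13 LD2_c30 LD3_c49)))))))))))))
theorem f543092 : Led Lsl_at (LP (LK LD1_c12 LD2_c8 LD3_c24)) = (LP (LK LD1_c13 LD2_c30 LD3_c49)) :=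
  Lgr Lrot80 (Lpe (K37.f410890 IH) (Lpe (K36.f449626 IH) (Lpr_ef (K37.f543090 IH) (Lpn (LP (LK LD1_c13 LD2_c30 LD3_c49))))))
theorem f609667 : Led Lsl_gf (LP (LK LD1_c13 LD2_c42 LD3_c60)) = (LP (LK LD1_c21 LD2_c14 LD3_c43)) :=
  Lgr Lrot47 (Lpr_gt (f609665 IH) (Lpe (f543092 IH) (Lpe (K36.f449645 IH) (Lpn (LP (LK LD1_c21 LD2_c14 LD3_c43))))))
theorem f526406 : Led Lsl_at (LP (LK LD1_c7 LD2_c14 LD3_c58)) = (LP (LK LD1_c13 LD2_c42 LD3_c60)) :=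
  Lre_a IH (LK LD1_c7 LD2_c14 LD3_c58) (LK LD1_c13 LD2_c42 LD3_c60) Lrfl Lrfl
theorem f481447 : Led Lsl_bt (LP (LK LD1_c7 LD2_c13 LD3_c4)) = (LP (LK LD1_c13 LD2_c39 LD3_c46)) :=
  Lre_b IH (LK LD1_c7 LD2_c13 LD3_c4) (LK LD1_c13 LD2_c39 LD3_c46) Lrfl Lrfl
theorem f526122 : Led Lsl_ft (LP (LK LD1_c13 LD2_c39 LD3_c46)) = (LP (LK LD1_c7 LD2_c14 LD3_c58)) :=
  Lgr Lrot75 (Lpe (f481447 IH) (Lpr_ff (K45.f526120 IH) (Lpe (f6320 IH) (Lpn (LP (LK LD1_c7 LD2_c14 LD3_c58))))))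
theorem f609670 : Led Lsl_gt (LP (LK LD1_c13 LD2_c39 LD3_c46)) = (LP (LK LD1_c21 LD2_c14 LD3_c43)) :=
  Lgr Lrot5 (Lpr_ft (f526122 IH) (Lpr_at (f526406 IH) (Lpr_gf (f609667 IH) (Lpn (LP (LK LD1_c21 LD2_c14 LD3_c43))))))
theorem f38906 : Led Lsl_gt (LP (LK LD1_c8 LD2_c45 LD3_c21)) = (LP (LK LD1_c4 LD2_c23 LD3_c43)) :=
  Lre_g IH (LK LD1_c8 LD2_c45 LD3_c21) (LK LD1_c4 LD2_c23 LD3_c43) Lrfl Lrfl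
theorem f38907 : Led Lsl_gt (LP (LK LD1_c14 LD2_c59 LD3_c22)) = (LP (LK LD1_c8 LD2_c45 LD3_c21)) :=
  Lgr Lrot5 (Lpr_ft (K1.f38878 IH) (Lpr_at (K1.f38880 IH) (Lpe (f38906 IH) (Lpn (LP (LK LD1_c8 LD2_c45 LD3_c21))))))
theorem f38912 : Led Lsl_dt (LP (LK LD1_c16 LD2_c23 LD3_c27)) = (LP (LK LD1_c8 LD2_c45 LD3_c21)) :=
  Lre_d IH (LK LD1_c16 LD2_c23 LD3_c27) (LK LD1_c8 LD2_c45 LD3_c21) Lrfl Lrfl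
theorem f609674 : Led Lsl_ef (LP (LK LD1_c13 LD2_c39 LD3_c46)) = (LP (LK LD1_c16 LD2_c23 LD3_c27)) :=
  Lgr Lrot167 (Lpr_gt (f609670 IH) (Lpr_dt (K36.f449944 IH) (Lpr_gt (K37.f543104 IH) (Lpe (K37.f528258 IH) (Lpe (K37.f543096 IH) (Lpr_gt (K37.f16538 IH) (Lpe (K9.f16349 IH) (Lpe (K37.f40007 IH) (Lpr_gt (f38907 IH) (Lpe (f38912 IH) (Lpn (LP (LK LD1_c16 LD2_c23 LD3_c27)))))))))))))
theorem f92613 : Led Lsl_et (LP (LK LD1_c7 LD2_c14 LD3_c58)) = (LP (LK LD1_c13 LD2_c43 LD3_c1)) :=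
  Lre_e IH (LK LD1_c7 LD2_c14 LD3_c58) (LK LD1_c13 LD2_c43 LD3_c1) Lrfl Lrfl
theorem f526409 : Led Lsl_ft (LP (LK LD1_c13 LD2_c43 LD3_c1)) = (LP (LK LD1_c23 LD2_c9 LD3_c18)) :=
  Lre_f IH (LK LD1_c13 LD2_c43 LD3_c1) (LK LD1_c23 LD2_c9 LD3_c18) Lrfl Lrfl
theorem f525476 : Led Lsl_dt (LP (LK LD1_c7 LD2_c17 LD3_c44)) = (LP (LK LD1_c13 LD2_c48 LD3_c9)) :=
  Lre_d IH (LK LD1_c7 LD2_c17 LD3_c44) (LK LD1_c13 LD2_c48 LD3_c9) Lrfl Lrfl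
theorem f164910 : Led Lsl_et (LP (LK LD1_c2 LD2_c29 LD3_c56)) = (LP (LK LD1_c5 LD2_c5 LD3_c16)) :=
  Lre_e IH (LK LD1_c2 LD2_c29 LD3_c56) (LK LD1_c5 LD2_c5 LD3_c16) Lrfl Lrfl
theorem f164926 : Led Lsl_gt (LP (LK LD1_c5 LD2_c5 LD3_c16)) = (LP (LK LD1_c10 LD2_c1 LD3_c35)) :=
  Lre_g IH (LK LD1_c5 LD2_c5 LD3_c16) (LK LD1_c10 LD2_c1 LD3_c35) Lrfl Lrfl
theorem f525475 : Led Lsl_dt (LP (LK LD1_c13 LD2_c48 LD3_c9)) = (LP (LK LD1_c7 LD2_c17 LD3_c44)) :=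
  Lre_d IH (LK LD1_c13 LD2_c48 LD3_c9) (LK LD1_c7 LD2_c17 LD3_c44) Lrfl Lrfl
theorem f608963 : Led Lsl_ef (LP (LK LD1_c10 LD2_c1 LD3_c35)) = (LP (LK LD1_c13 LD2_c48 LD3_c9)) :=
  Lgr Lrot17 (Lpe (f164926 IH) (Lpe (f164910 IH) (Lpr_dt (K11.f164953 IH) (Lpe (K13.f31648 IH) (Lpe (K16.f240704 IH) (Lpe (K41.f242041 IH) (Lpe (K43.f201600 IH) (Lpr_dt (K43.f567303 IH) (Lpr_gf (f608959 IH) (Lpe (f525475 IH) (Lpn (LP (LK LD1_c13 LD2_c48 LD3_c9)))))))))))))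
theorem f164955 : Led Lsl_dt (LP (LK LD1_c10 LD2_c1 LD3_c35)) = (LP (LK LD1_c18 LD2_c19 LD3_c23)) :=
  Lre_d IH (LK LD1_c10 LD2_c1 LD3_c35) (LK LD1_c18 LD2_c19 LD3_c23) Lrfl Lrfl
theorem f608978 : Led Lsl_ef (LP (LK LD1_c23 LD2_c7 LD3_c23)) = (LP (LK LD1_c18 LD2_c19 LD3_c23)) :=
  Lgr Lrot73 (Lpr_dt (f608971 IH) (Lpr_et (f493735 IH) (Lpr_dt (f525476 IH) (Lpe (f608963 IH) (Lpr_dt (f164955 IH) (Lpn (LP (LK LD1_c18 LD2_c19 LD3_c23))))))))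
theorem f608983 : Led Lsl_et (LP (LK LD1_c23 LD2_c7 LD3_c23)) = (LP (LK LD1_c18 LD2_c19 LD3_c23)) :=
  Lgr Lrot87 (Lpr_ef (f608978 IH) (Lpn (LP (LK LD1_c18 LD2_c19 LD3_c23))))
theorem f493738 : Led Lsl_et (LP (LK LD1_c7 LD2_c17 LD3_c44)) = (LP (LK LD1_c13 LD2_c48 LD3_c10)) :=
  Lre_e IH (LK LD1_c7 LD2_c17 LD3_c44) (LK LD1_c13 LD2_c48 LD3_c10) Lrfl Lrfl
theorem f164961 : Led Lsl_dt (LP (LK LD1_c18 LD2_c19 LD3_c23)) = (LP (LK LD1_c10 LD2_c1 LD3_c35)) :=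
  Lre_d IH (LK LD1_c18 LD2_c19 LD3_c23) (LK LD1_c10 LD2_c1 LD3_c35) Lrfl Lrfl
theorem f608990 : Led Lsl_ef (LP (LK LD1_c13 LD2_c48 LD3_c9)) = (LP (LK LD1_c10 LD2_c1 LD3_c35)) :=
  Lgr Lrot73 (Lpr_dt (f525475 IH) (Lpr_et (f493738 IH) (Lpe (f608965 IH) (Lpr_et (f608983 IH) (Lpr_dt (f164961 IH) (Lpn (LP (LK LD1_c10 LD2_c1 LD3_c35))))))))
theorem f525477 : Led Lsl_at (LP (LK LD1_c13 LD2_c48 LD3_c9)) = (LP (LK LD1_c7 LD2_c17 LD3_c46)) :=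
  Lre_a IH (LK LD1_c13 LD2_c48 LD3_c9) (LK LD1_c7 LD2_c17 LD3_c46) Lrfl Lrfl
theorem f525470 : Led Lsl_et (LP (LK LD1_c7 LD2_c17 LD3_c46)) = (LP (LK LD1_c13 LD2_c48 LD3_c16)) :=
  Lre_e IH (LK LD1_c7 LD2_c17 LD3_c46) (LK LD1_c13 LD2_c48 LD3_c16) Lrfl Lrfl
theorem f608992 : Led Lsl_at (LP (LK LD1_c13 LD2_c48 LD3_c16)) = (LP (LK LD1_c10 LD2_c1 LD3_c35)) :=
  Lgr Lrot80 (Lpe (f525470 IH) (Lpe (f525477 IH) (Lpr_ef (f608990 IH) (Lpn (LP (LK LD1_c10 LD2_c1 LD3_c35))))))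
theorem f609002 : Led Lsl_ff (LP (LK LD1_c13 LD2_c48 LD3_c16)) = (LP (LK LD1_c10 LD2_c1 LD3_c36)) :=
  Lgr Lrot52 (Lpr_at (f608992 IH) (Lpe (f164926 IH) (Lpe (K37.f164918 IH) (Lpn (LP (LK LD1_c10 LD2_c1 LD3_c36))))))
theorem f609011 : Led Lsl_ft (LP (LK LD1_c13 LD2_c48 LD3_c16)) = (LP (LK LD1_c10 LD2_c1 LD3_c36)) :=
  Lgr Lrot48 (Lpr_ff (f609002 IH) (Lpn (LP (LK LD1_c10 LD2_c1 LD3_c36))))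
theorem f92586 : Led Lsl_bt (LP (LK LD1_c23 LD2_c9 LD3_c17)) = (LP (LK LD1_c13 LD2_c43 LD3_c7)) :=
  Lre_b IH (LK LD1_c23 LD2_c9 LD3_c17) (LK LD1_c13 LD2_c43 LD3_c7) Lrfl Lrfl
theorem f92587 : Led Lsl_et (LP (LK LD1_c13 LD2_c46 LD3_c44)) = (LP (LK LD1_c23 LD2_c9 LD3_c17)) :=
  Lgr Lrot74 (Lpe (K35.f92585 IH) (Lpr_ef (K35.f92583 IH) (Lpe (f92586 IH) (Lpn (LP (LK LD1_c23 LD2_c9 LD3_c17))))))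
theorem f92607 : Led Lsl_ef (LP (LK LD1_c13 LD2_c46 LD3_c44)) = (LP (LK LD1_c23 LD2_c9 LD3_c17)) :=
  Lgr Lrot88 (Lpr_et (f92587 IH) (Lpn (LP (LK LD1_c23 LD2_c9 LD3_c17))))
theorem f236581 : Led Lsl_et (LP (LK LD1_c10 LD2_c1 LD3_c36)) = (LP (LK LD1_c18 LD2_c19 LD3_c26)) :=
  Lre_e IH (LK LD1_c10 LD2_c1 LD3_c36) (LK LD1_c18 LD2_c19 LD3_c26) Lrfl Lrfl
theorem f609017 : Led Lsl_ff (LP (LK LD1_c23 LD2_c9 LD3_c17)) = (LP (LK LD1_c18 LD2_c19 LD3_c26)) :=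
  Lgr Lrot72 (Lpe (f92607 IH) (Lpe (K35.f525465 IH) (Lpr_et (f525470 IH) (Lpr_ft (f609011 IH) (Lpr_et (f236581 IH) (Lpn (LP (LK LD1_c18 LD2_c19 LD3_c26))))))))
theorem f92606 : Led Lsl_dt (LP (LK LD1_c23 LD2_c9 LD3_c17)) = (LP (LK LD1_c13 LD2_c43 LD3_c1)) :=
  Lre_d IH (LK LD1_c23 LD2_c9 LD3_c17) (LK LD1_c13 LD2_c43 LD3_c1) Lrfl Lrfl
theorem f609022 : Led Lsl_dt (LP (LK LD1_c23 LD2_c9 LD3_c18)) = (LP (LK LD1_c18 LD2_c19 LD3_c26)) :=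
  Lgr Lrot60 (Lpe (f526409 IH) (Lpe (f92606 IH) (Lpr_ff (f609017 IH) (Lpn (LP (LK LD1_c18 LD2_c19 LD3_c26))))))
theorem f164931 : Led Lsl_et (LP (LK LD1_c18 LD2_c19 LD3_c26)) = (LP (LK LD1_c10 LD2_c1 LD3_c36)) :=
  Lre_e IH (LK LD1_c18 LD2_c19 LD3_c26) (LK LD1_c10 LD2_c1 LD3_c36) Lrfl Lrfl
theorem f236578 : Led Lsl_dt (LP (LK LD1_c10 LD2_c1 LD3_c36)) = (LP (LK LD1_c18 LD2_c19 LD3_c25)) :=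
  Lre_d IH (LK LD1_c10 LD2_c1 LD3_c36) (LK LD1_c18 LD2_c19 LD3_c25) Lrfl Lrfl
theorem f39214 : Led Lsl_dt (LP (LK LD1_c14 LD2_c59 LD3_c23)) = (LP (LK LD1_c24 LD2_c46 LD3_c56)) :=
  Lre_d IH (LK LD1_c14 LD2_c59 LD3_c23) (LK LD1_c24 LD2_c46 LD3_c56) Lrfl Lrfl
theorem f609030 : Led Lsl_ef (LP (LK LD1_c23 LD2_c9 LD3_c18)) = (LP (LK LD1_c24 LD2_c46 LD3_c56)) :=
  Lgr Lrot73 (Lpr_dt (f609022 IH) (Lpr_et (f164931 IH) (Lpr_dt (f236578 IH) (Lpe (K37.f236576 IH) (Lpr_dt (f39214 IH) (Lpn (LP (LK LD1_c24 LD2_c46 LD3_c56))))))))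
theorem f609034 : Led Lsl_et (LP (LK LD1_c23 LD2_c9 LD3_c18)) = (LP (LK LD1_c24 LD2_c46 LD3_c56)) :=
  Lgr Lrot87 (Lpr_ef (f609030 IH) (Lpn (LP (LK LD1_c24 LD2_c46 LD3_c56))))
theorem f609682 : Led Lsl_ft (LP (LK LD1_c24 LD2_c46 LD3_c56)) = (LP (LK LD1_c16 LD2_c23 LD3_c27)) :=
  Lgr Lrot86 (Lpe (f609034 IH) (Lpe (f526409 IH) (Lpe (f92613 IH) (Lpe (f526122 IH) (Lpr_ef (f609674 IH) (Lpn (LP (LK LD1_c16 LD2_c23 LD3_c27))))))))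
theorem f609690 : Led Lsl_ff (LP (LK LD1_c24 LD2_c46 LD3_c56)) = (LP (LK LD1_c16 LD2_c23 LD3_c27)) :=
  Lgr Lrot3 (Lpr_ft (f609682 IH) (Lpn (LP (LK LD1_c16 LD2_c23 LD3_c27))))
theorem f39227 : Led Lsl_dt (LP (LK LD1_c24 LD2_c46 LD3_c56)) = (LP (LK LD1_c14 LD2_c59 LD3_c23)) :=
  Lre_d IH (LK LD1_c24 LD2_c46 LD3_c56) (LK LD1_c14 LD2_c59 LD3_c23) Lrfl Lrfl
theorem f38909 : Led Lsl_dt (LP (LK LD1_c8 LD2_c45 LD3_c21)) = (LP (LK LD1_c16 LD2_c23 LD3_c27)) :=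
  Lre_d IH (LK LD1_c8 LD2_c45 LD3_c21) (LK LD1_c16 LD2_c23 LD3_c27) Lrfl Lrfl
theorem f609694 : Led Lsl_ft (LP (LK LD1_c14 LD2_c59 LD3_c23)) = (LP (LK LD1_c8 LD2_c45 LD3_c21)) :=
  Lgr Lrot54 (Lpe (f39227 IH) (Lpr_ff (f609690 IH) (Lpe (f38909 IH) (Lpn (LP (LK LD1_c8 LD2_c45 LD3_c21))))))
theorem f609698 : Led Lsl_af (LP (LK LD1_c14 LD2_c59 LD3_c24)) = (LP (LK LD1_c8 LD2_c45 LD3_c21)) :=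
  Lgr Lrot31 (Lpr_gf (K40.f444824 IH) (Lpr_gf (K37.f407847 IH) (Lpr_ft (f609694 IH) (Lpn (LP (LK LD1_c8 LD2_c45 LD3_c21))))))
theorem f609605 : Led Lsl_et (LP (LK LD1_c14 LD2_c59 LD3_c24)) = (LP (LK LD1_c24 LD2_c40 LD3_c24)) :=
  Lgr Lrot87 (Lpr_ef (f609603 IH) (Lpn (LP (LK LD1_c24 LD2_c40 LD3_c24))))
theorem f526261 : Led Lsl_at (LP (LK LD1_c24 LD2_c40 LD3_c24)) = (LP (LK LD1_c14 LD2_c53 LD3_c33)) :=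
  Lre_a IH (LK LD1_c24 LD2_c40 LD3_c24) (LK LD1_c14 LD2_c53 LD3_c33) Lrfl Lrfl
theorem f609704 : Led Lsl_et (LP (LK LD1_c14 LD2_c53 LD3_c33)) = (LP (LK LD1_c8 LD2_c45 LD3_c21)) :=
  Lgr Lrot123 (Lpe (f526261 IH) (Lpe (f609605 IH) (Lpr_af (f609698 IH) (Lpn (LP (LK LD1_c8 LD2_c45 LD3_c21))))))
theorem f525952 : Led Lsl_at (LP (LK LD1_c7 LD2_c17 LD3_c51)) = (LP (LK LD1_c7 LD2_c53 LD3_c48)) :=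
  Lgr Lrot51 (Lpe (K33.f441960 IH) (Lpr_af (K45.f525948 IH) (Lpe (K46.f471398 IH) (Lpn (LP (LK LD1_c7 LD2_c53 LD3_c48))))))
theorem f526237 : Led Lsl_ft (LP (LK LD1_c7 LD2_c53 LD3_c49)) = (LP (LK LD1_c7 LD2_c17 LD3_c51)) :=
  Lgr Lrot101 (Lpr_af (f526225 IH) (Lpe (K46.f526217 IH) (Lpe (f525952 IH) (Lpn (LP (LK LD1_c7 LD2_c17 LD3_c51))))))
theorem f526246 : Led Lsl_ff (LP (LK LD1_c7 LD2_c53 LD3_c49)) = (LP (LK LD1_c7 LD2_c17 LD3_c51)) :=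
  Lgr Lrot3 (Lpr_ft (f526237 IH) (Lpn (LP (LK LD1_c7 LD2_c17 LD3_c51))))
theorem f471036 : Led Lsl_bt (LP (LK LD1_c13 LD2_c48 LD3_c18)) = (LP (LK LD1_c7 LD2_c17 LD3_c51)) :=
  Lre_b IH (LK LD1_c13 LD2_c48 LD3_c18) (LK LD1_c7 LD2_c17 LD3_c51) Lrfl Lrfl
theorem f526248 : Led Lsl_ft (LP (LK LD1_c14 LD2_c53 LD3_c33)) = (LP (LK LD1_c13 LD2_c48 LD3_c18)) :=
  Lgr Lrot75 (Lpe (f472319 IH) (Lpr_ff (f526246 IH) (Lpe (f471036 IH) (Lpn (LP (LK LD1_c13 LD2_c48 LD3_c18))))))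
theorem f493731 : Led Lsl_dt (LP (LK LD1_c13 LD2_c48 LD3_c18)) = (LP (LK LD1_c7 LD2_c17 LD3_c47)) :=
  Lre_d IH (LK LD1_c13 LD2_c48 LD3_c18) (LK LD1_c7 LD2_c17 LD3_c47) Lrfl Lrfl
theorem f526262 : Led Lsl_df (LP (LK LD1_c14 LD2_c53 LD3_c33)) = (LP (LK LD1_c13 LD2_c48 LD3_c19)) :=
  Lgr Lrot78 (Lpr_ft (f526248 IH) (Lpr_dt (f493731 IH) (Lpr_ft (f493744 IH) (Lpn (LP (LK LD1_c13 LD2_c48 LD3_c19))))))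
theorem f526264 : Led Lsl_dt (LP (LK LD1_c14 LD2_c53 LD3_c33)) = (LP (LK LD1_c13 LD2_c48 LD3_c19)) :=
  Lgr Lrot42 (Lpr_df (f526262 IH) (Lpn (LP (LK LD1_c13 LD2_c48 LD3_c19))))
theorem f159789 : Led Lsl_et (LP (LK LD1_c7 LD2_c49 LD3_c54)) = (LP (LK LD1_c3 LD2_c54 LD3_c10)) :=
  Lre_e IH (LK LD1_c7 LD2_c49 LD3_c54) (LK LD1_c3 LD2_c54 LD3_c10) Lrfl Lrfl
theorem f464732 : Led Lsl_gt (LP (LK LD1_c7 LD2_c54 LD3_c53)) = (LP (LK LD1_c14 LD2_c55 LD3_c43)) :=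
  Lre_g IH (LK LD1_c7 LD2_c54 LD3_c53) (LK LD1_c14 LD2_c55 LD3_c43) Lrfl Lrfl
theorem f465057 : Led Lsl_gf (LP (LK LD1_c14 LD2_c46 LD3_c20)) = (LP (LK LD1_c14 LD2_c55 LD3_c43)) :=
  Lgr Lrot76 (Lpe (K8.f159935 IH) (Lpr_ff (K28.f465039 IH) (Lpr_gt (f464732 IH) (Lpn (LP (LK LD1_c14 LD2_c55 LD3_c43))))))
theorem f147224 : Led Lsl_dt (LP (LK LD1_c1 LD2_c47 LD3_c35)) = (LP (LK LD1_c3 LD2_c41 LD3_c20)) :=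
  Lre_d IH (LK LD1_c1 LD2_c47 LD3_c35) (LK LD1_c3 LD2_c41 LD3_c20) Lrfl Lrfl
theorem f568238 : Led Lsl_df (LP (LK LD1_c14 LD2_c55 LD3_c43)) = (LP (LK LD1_c13 LD2_c57 LD3_c56)) :=
  Lgr Lrot170 (Lpe (f465057 IH) (Lpe (K8.f159790 IH) (Lpr_et (f159789 IH) (Lpe (K8.f160000 IH) (Lpr_dt (K46.f568079 IH) (Lpr_gt (K42.f147269 IH) (Lpe (f147224 IH) (Lpr_et (K28.f147265 IH) (Lpr_gt (K35.f147280 IH) (Lpe (f469390 IH) (Lpn (LP (LK LD1_c13 LD2_c57 LD3_c56)))))))))))))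
theorem f568242 : Led Lsl_dt (LP (LK LD1_c14 LD2_c55 LD3_c43)) = (LP (LK LD1_c13 LD2_c57 LD3_c56)) :=
  Lgr Lrot42 (Lpr_df (f568238 IH) (Lpn (LP (LK LD1_c13 LD2_c57 LD3_c56))))
theorem f568255 : Led Lsl_dt (LP (LK LD1_c14 LD2_c58 LD3_c39)) = (LP (LK LD1_c13 LD2_c50 LD3_c42)) :=
  Lgr Lrot105 (Lpe (K41.f411539 IH) (Lpr_df (K39.f553011 IH) (Lpe (K41.f471501 IH) (Lpr_cf (K41.f488320 IH) (Lpr_gt (K39.f465018 IH) (Lpr_dt (K28.f465010 IH) (Lpr_gt (f464732 IH) (Lpr_dt (f568242 IH) (Lpr_cf (f533548 IH) (Lpn (LP (LK LD1_c13 LD2_c50 LD3_c42))))))))))))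
theorem f609708 : Led Lsl_gt (LP (LK LD1_c13 LD2_c48 LD3_c19)) = (LP (LK LD1_c13 LD2_c50 LD3_c42)) :=
  Lgr Lrot112 (Lpe (f526264 IH) (Lpr_et (f609704 IH) (Lpe (f38907 IH) (Lpe (K37.f38896 IH) (Lpr_dt (K37.f38835 IH) (Lpr_gf (K37.f443766 IH) (Lpe (K37.f69525 IH) (Lpe (K37.f69628 IH) (Lpr_ef (K46.f445544 IH) (Lpr_dt (f568255 IH) (Lpn (LP (LK LD1_c13 LD2_c50 LD3_c42)))))))))))))
theorem f493732 : Led Lsl_ft (LP (LK LD1_c13 LD2_c48 LD3_c19)) = (LP (LK LD1_c7 LD2_c17 LD3_c47)) :=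
  Lre_f IH (LK LD1_c13 LD2_c48 LD3_c19) (LK LD1_c7 LD2_c17 LD3_c47) Lrfl Lrfl
theorem f609710 : Led Lsl_gf (LP (LK LD1_c13 LD2_c48 LD3_c10)) = (LP (LK LD1_c13 LD2_c50 LD3_c42)) :=
  Lgr Lrot76 (Lpe (f493737 IH) (Lpe (f493732 IH) (Lpr_gt (f609708 IH) (Lpn (LP (LK LD1_c13 LD2_c50 LD3_c42))))))
theorem f425459 : Led Lsl_dt (LP (LK LD1_c13 LD2_c41 LD3_c56)) = (LP (LK LD1_c7 LD2_c14 LD3_c21)) :=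
  Lre_d IH (LK LD1_c13 LD2_c41 LD3_c56) (LK LD1_c7 LD2_c14 LD3_c21) Lrfl Lrfl
theorem f608985 : Led Lsl_gt (LP (LK LD1_c23 LD2_c7 LD3_c23)) = (LP (LK LD1_c13 LD2_c41 LD3_c56)) :=
  Lgr Lrot137 (Lpr_ef (f608978 IH) (Lpr_dt (f164961 IH) (Lpe (f164926 IH) (Lpe (K37.f164905 IH) (Lpr_et (K32.f164907 IH) (Lpe (K13.f237272 IH) (Lpe (K39.f237288 IH) (Lpr_dt (K39.f552889 IH) (Lpe (K29.f425456 IH) (Lpe (f425459 IH) (Lpn (LP (LK LD1_c13 LD2_c41 LD3_c56)))))))))))))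
theorem f160574 : Led Lsl_dt (LP (LK LD1_c14 LD2_c46 LD3_c23)) = (LP (LK LD1_c7 LD2_c49 LD3_c56)) :=
  Lre_d IH (LK LD1_c14 LD2_c46 LD3_c23) (LK LD1_c7 LD2_c49 LD3_c56) Lrfl Lrfl
theorem f610656 : Led Lsl_gt (LP (LK LD1_c14 LD2_c56 LD3_c6)) = (LP (LK LD1_c14 LD2_c46 LD3_c23)) :=
  Lgr Lrot49 (Lpe (f489869 IH) (Lpr_gf (f610654 IH) (Lpr_cf (f533548 IH) (Lpe (f609710 IH) (Lpe (f608965 IH) (Lpr_gt (f608985 IH) (Lpr_dt (f425459 IH) (Lpe (K29.f470975 IH) (Lpe (f160574 IH) (Lpn (LP (LK LD1_c14 LD2_c46 LD3_c23))))))))))))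
theorem f521132 : Led Lsl_ff (LP (LK LD1_c3 LD2_c44 LD3_c21)) = (LP (LK LD1_c7 LD2_c5 LD3_c8)) :=
  Lgr Lrot3 (Lpr_ft (K34.f521124 IH) (Lpn (LP (LK LD1_c7 LD2_c5 LD3_c8))))
theorem f521136 : Led Lsl_ft (LP (LK LD1_c3 LD2_c56 LD3_c38)) = (LP (LK LD1_c3 LD2_c56 LD3_c18)) :=
  Lgr Lrot54 (Lpe (K34.f489765 IH) (Lpr_ff (f521132 IH) (Lpe (K33.f480056 IH) (Lpn (LP (LK LD1_c3 LD2_c56 LD3_c18))))))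
theorem f451992 : Led Lsl_et (LP (LK LD1_c7 LD2_c55 LD3_c2)) = (LP (LK LD1_c3 LD2_c56 LD3_c38)) :=
  Lre_e IH (LK LD1_c7 LD2_c55 LD3_c2) (LK LD1_c3 LD2_c56 LD3_c38) Lrfl Lrfl
theorem f480063 : Led Lsl_et (LP (LK LD1_c3 LD2_c56 LD3_c18)) = (LP (LK LD1_c7 LD2_c54 LD3_c19)) :=
  Lre_e IH (LK LD1_c3 LD2_c56 LD3_c18) (LK LD1_c7 LD2_c54 LD3_c19) Lrfl Lrfl
theorem f521144 : Led Lsl_ft (LP (LK LD1_c7 LD2_c54 LD3_c19)) = (LP (LK LD1_c14 LD2_c54 LD3_c50)) :=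
  Lre_f IH (LK LD1_c7 LD2_c54 LD3_c19) (LK LD1_c14 LD2_c54 LD3_c50) Lrfl Lrfl
theorem f521145 : Led Lsl_ef (LP (LK LD1_c14 LD2_c56 LD3_c12)) = (LP (LK LD1_c14 LD2_c54 LD3_c50)) :=
  Lgr Lrot21 (Lpr_ft (f489818 IH) (Lpr_et (f451992 IH) (Lpr_ft (f521136 IH) (Lpr_et (f480063 IH) (Lpr_ft (f521144 IH) (Lpn (LP (LK LD1_c14 LD2_c54 LD3_c50))))))))
theorem f521150 : Led Lsl_et (LP (LK LD1_c14 LD2_c56 LD3_c12)) = (LP (LK LD1_c14 LD2_c54 LD3_c50)) :=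
  Lgr Lrot87 (Lpr_ef (f521145 IH) (Lpn (LP (LK LD1_c14 LD2_c54 LD3_c50))))
theorem f521152 : Led Lsl_bt (LP (LK LD1_c14 LD2_c54 LD3_c50)) = (LP (LK LD1_c24 LD2_c41 LD3_c57)) :=
  Lre_b IH (LK LD1_c14 LD2_c54 LD3_c50) (LK LD1_c24 LD2_c41 LD3_c57) Lrfl Lrfl
theorem f521153 : Led Lsl_ef (LP (LK LD1_c24 LD2_c43 LD3_c36)) = (LP (LK LD1_c24 LD2_c41 LD3_c57)) :=
  Lgr Lrot29 (Lpr_bt (f489839 IH) (Lpr_et (f521150 IH) (Lpr_bt (f521152 IH) (Lpn (LP (LK LD1_c24 LD2_c41 LD3_c57))))))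
theorem f489860 : Led Lsl_et (LP (LK LD1_c14 LD2_c56 LD3_c8)) = (LP (LK LD1_c7 LD2_c55 LD3_c0)) :=
  Lre_e IH (LK LD1_c14 LD2_c56 LD3_c8) (LK LD1_c7 LD2_c55 LD3_c0) Lrfl Lrfl
theorem f521156 : Led Lsl_ft (LP (LK LD1_c14 LD2_c54 LD3_c46)) = (LP (LK LD1_c24 LD2_c41 LD3_c57)) :=
  Lre_f IH (LK LD1_c14 LD2_c54 LD3_c46) (LK LD1_c24 LD2_c41 LD3_c57) Lrfl Lrfl
theorem f480475 : Led Lsl_et (LP (LK LD1_c7 LD2_c54 LD3_c17)) = (LP (LK LD1_c14 LD2_c54 LD3_c46)) :=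
  Lre_e IH (LK LD1_c7 LD2_c54 LD3_c17) (LK LD1_c14 LD2_c54 LD3_c46) Lrfl Lrfl
theorem f521157 : Led Lsl_ft (LP (LK LD1_c7 LD2_c55 LD3_c0)) = (LP (LK LD1_c7 LD2_c54 LD3_c17)) :=
  Lgr Lrot86 (Lpe (f489860 IH) (Lpe (f489844 IH) (Lpr_ef (f521153 IH) (Lpe (f521156 IH) (Lpe (f480475 IH) (Lpn (LP (LK LD1_c7 LD2_c54 LD3_c17))))))))
theorem f489875 : Led Lsl_at (LP (LK LD1_c14 LD2_c56 LD3_c6)) = (LP (LK LD1_c7 LD2_c55 LD3_c0)) :=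
  Lre_a IH (LK LD1_c14 LD2_c56 LD3_c6) (LK LD1_c7 LD2_c55 LD3_c0) Lrfl Lrfl
theorem f480481 : Led Lsl_at (LP (LK LD1_c7 LD2_c54 LD3_c17)) = (LP (LK LD1_c14 LD2_c54 LD3_c44)) :=
  Lre_a IH (LK LD1_c7 LD2_c54 LD3_c17) (LK LD1_c14 LD2_c54 LD3_c44) Lrfl Lrfl
theorem f521159 : Led Lsl_ff (LP (LK LD1_c14 LD2_c56 LD3_c6)) = (LP (LK LD1_c14 LD2_c54 LD3_c44)) :=
  Lgr Lrot30 (Lpr_at (f489875 IH) (Lpr_ft (f521157 IH) (Lpr_at (f480481 IH) (Lpn (LP (LK LD1_c14 LD2_c54 LD3_c44))))))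
theorem f521169 : Led Lsl_ft (LP (LK LD1_c14 LD2_c56 LD3_c6)) = (LP (LK LD1_c14 LD2_c54 LD3_c44)) :=
  Lgr Lrot48 (Lpr_ff (f521159 IH) (Lpn (LP (LK LD1_c14 LD2_c54 LD3_c44))))
theorem f480471 : Led Lsl_at (LP (LK LD1_c14 LD2_c54 LD3_c44)) = (LP (LK LD1_c7 LD2_c54 LD3_c17)) :=
  Lre_a IH (LK LD1_c14 LD2_c54 LD3_c44) (LK LD1_c7 LD2_c54 LD3_c17) Lrfl Lrfl
theorem f610658 : Led Lsl_gf (LP (LK LD1_c7 LD2_c54 LD3_c17)) = (LP (LK LD1_c14 LD2_c46 LD3_c23)) :=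
  Lgr Lrot76 (Lpe (f480471 IH) (Lpe (f521169 IH) (Lpr_gt (f610656 IH) (Lpn (LP (LK LD1_c14 LD2_c46 LD3_c23))))))
theorem f464654 : Led Lsl_bt (LP (LK LD1_c3 LD2_c56 LD3_c18)) = (LP (LK LD1_c7 LD2_c54 LD3_c17)) :=
  Lre_b IH (LK LD1_c3 LD2_c56 LD3_c18) (LK LD1_c7 LD2_c54 LD3_c17) Lrfl Lrfl
theorem f480068 : Led Lsl_dt (LP (LK LD1_c7 LD2_c54 LD3_c17)) = (LP (LK LD1_c13 LD2_c25 LD3_c59)) :=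
  Lgr Lrot79 (Lpe (f464654 IH) (Lpr_df (K33.f480061 IH) (Lpe (f458247 IH) (Lpn (LP (LK LD1_c13 LD2_c25 LD3_c59))))))
theorem f160610 : Led Lsl_dt (LP (LK LD1_c7 LD2_c49 LD3_c56)) = (LP (LK LD1_c14 LD2_c46 LD3_c23)) :=
  Lre_d IH (LK LD1_c7 LD2_c49 LD3_c56) (LK LD1_c14 LD2_c46 LD3_c23) Lrfl Lrfl
theorem f470133 : Led Lsl_bt (LP (LK LD1_c7 LD2_c54 LD3_c6)) = (LP (LK LD1_c7 LD2_c54 LD3_c52)) :=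
  Lgr Lrot127 (Lpr_bf (K35.f470131 IH) (Lpn (LP (LK LD1_c7 LD2_c54 LD3_c52))))
theorem f471891 : Led Lsl_gt (LP (LK LD1_c7 LD2_c54 LD3_c52)) = (LP (LK LD1_c7 LD2_c49 LD3_c56)) :=
  Lgr Lrot82 (Lpe (f470133 IH) (Lpr_ct (K35.f463145 IH) (Lpe (K28.f461577 IH) (Lpr_cf (K29.f471712 IH) (Lpr_bt (K29.f203933 IH) (Lpe (K28.f12401 IH) (Lpe (K29.f12392 IH) (Lpe (K29.f425443 IH) (Lpe (K29.f425456 IH) (Lpe (K29.f470975 IH) (Lpn (LP (LK LD1_c7 LD2_c49 LD3_c56)))))))))))))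
theorem f160510 : Led Lsl_dt (LP (LK LD1_c7 LD2_c13 LD3_c34)) = (LP (LK LD1_c13 LD2_c40 LD3_c41)) :=
  Lre_d IH (LK LD1_c7 LD2_c13 LD3_c34) (LK LD1_c13 LD2_c40 LD3_c41) Lrfl Lrfl
theorem f610660 : Led Lsl_gf (LP (LK LD1_c23 LD2_c6 LD3_c9)) = (LP (LK LD1_c13 LD2_c40 LD3_c41)) :=
  Lgr Lrot143 (Lpr_dt (f609240 IH) (Lpe (f464603 IH) (Lpe (f480068 IH) (Lpr_gf (f610658 IH) (Lpe (f160610 IH) (Lpe (f471891 IH) (Lpe (K35.f470135 IH) (Lpe (K39.f464983 IH) (Lpr_dt (f160510 IH) (Lpn (LP (LK LD1_c13 LD2_c40 LD3_c41))))))))))))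
theorem f610172 : Led Lsl_et (LP (LK LD1_c7 LD2_c13 LD3_c34)) = (LP (LK LD1_c13 LD2_c40 LD3_c42)) :=
  Lre_e IH (LK LD1_c7 LD2_c13 LD3_c34) (LK LD1_c13 LD2_c40 LD3_c42) Lrfl Lrfl
theorem f610678 : Led Lsl_gt (LP (LK LD1_c13 LD2_c33 LD3_c5)) = (LP (LK LD1_c13 LD2_c40 LD3_c42)) :=
  Lgr Lrot131 (Lpe (f482572 IH) (Lpr_dt (f515427 IH) (Lpe (f515452 IH) (Lpr_df (f610676 IH) (Lpe (f450809 IH) (Lpe (f466631 IH) (Lpe (f609246 IH) (Lpr_gf (f610660 IH) (Lpe (f160510 IH) (Lpr_et (f610172 IH) (Lpn (LP (LK LD1_c13 LD2_c40 LD3_c42)))))))))))))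
theorem f464986 : Led Lsl_dt (LP (LK LD1_c13 LD2_c40 LD3_c42)) = (LP (LK LD1_c23 LD2_c6 LD3_c15)) :=
  Lre_d IH (LK LD1_c13 LD2_c40 LD3_c42) (LK LD1_c23 LD2_c6 LD3_c15) Lrfl Lrfl
theorem f609706 : Led Lsl_ef (LP (LK LD1_c14 LD2_c53 LD3_c33)) = (LP (LK LD1_c8 LD2_c45 LD3_c21)) :=
  Lgr Lrot88 (Lpr_et (f609704 IH) (Lpn (LP (LK LD1_c8 LD2_c45 LD3_c21))))
theorem f493742 : Led Lsl_dt (LP (LK LD1_c7 LD2_c17 LD3_c47)) = (LP (LK LD1_c13 LD2_c48 LD3_c18)) :=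
  Lre_d IH (LK LD1_c7 LD2_c17 LD3_c47) (LK LD1_c13 LD2_c48 LD3_c18) Lrfl Lrfl
theorem f608974 : Led Lsl_af (LP (LK LD1_c23 LD2_c7 LD3_c23)) = (LP (LK LD1_c13 LD2_c48 LD3_c18)) :=
  Lgr Lrot117 (Lpr_dt (f608971 IH) (Lpr_at (f493728 IH) (Lpr_dt (f493742 IH) (Lpn (LP (LK LD1_c13 LD2_c48 LD3_c18))))))
theorem f609139 : Led Lsl_gf (LP (LK LD1_c13 LD2_c41 LD3_c54)) = (LP (LK LD1_c14 LD2_c53 LD3_c33)) :=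
  Lgr Lrot47 (Lpr_gt (f425452 IH) (Lpr_af (f608974 IH) (Lpe (f526248 IH) (Lpn (LP (LK LD1_c14 LD2_c53 LD3_c33))))))
theorem f425521 : Led Lsl_dt (LP (LK LD1_c13 LD2_c41 LD3_c54)) = (LP (LK LD1_c7 LD2_c14 LD3_c20)) :=
  Lre_d IH (LK LD1_c13 LD2_c41 LD3_c54) (LK LD1_c7 LD2_c14 LD3_c20) Lrfl Lrfl
theorem f181380 : Led Lsl_ft (LP (LK LD1_c7 LD2_c56 LD3_c22)) = (LP (LK LD1_c14 LD2_c58 LD3_c40)) :=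
  Lre_f IH (LK LD1_c7 LD2_c56 LD3_c22) (LK LD1_c14 LD2_c58 LD3_c40) Lrfl Lrfl
theorem f552893 : Led Lsl_dt (LP (LK LD1_c14 LD2_c58 LD3_c40)) = (LP (LK LD1_c13 LD2_c41 LD3_c52)) :=
  Lgr Lrot60 (Lpe (f181380 IH) (Lpr_df (K39.f552885 IH) (Lpe (K29.f425479 IH) (Lpn (LP (LK LD1_c13 LD2_c41 LD3_c52))))))
theorem f270077 : Led Lsl_af (LP (LK LD1_c7 LD2_c56 LD3_c21)) = (LP (LK LD1_c4 LD2_c23 LD3_c9)) :=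
  Lgr Lrot0 (Lpr_at (K16.f270075 IH) (Lpn (LP (LK LD1_c4 LD2_c23 LD3_c9))))
theorem f59297 : Led Lsl_gt (LP (LK LD1_c14 LD2_c58 LD3_c36)) = (LP (LK LD1_c7 LD2_c56 LD3_c21)) :=
  Lre_g IH (LK LD1_c14 LD2_c58 LD3_c36) (LK LD1_c7 LD2_c56 LD3_c21) Lrfl Lrfl
theorem f411495 : Led Lsl_gf (LP (LK LD1_c14 LD2_c58 LD3_c36)) = (LP (LK LD1_c8 LD2_c44 LD3_c3)) :=
  Lgr Lrot47 (Lpr_gt (f59297 IH) (Lpr_af (f270077 IH) (Lpe (K16.f181643 IH) (Lpn (LP (LK LD1_c8 LD2_c44 LD3_c3))))))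
theorem f59305 : Led Lsl_et (LP (LK LD1_c24 LD2_c46 LD3_c2)) = (LP (LK LD1_c14 LD2_c58 LD3_c36)) :=
  Lre_e IH (LK LD1_c24 LD2_c46 LD3_c2) (LK LD1_c14 LD2_c58 LD3_c36) Lrfl Lrfl
theorem f39262 : Led Lsl_et (LP (LK LD1_c2 LD2_c9 LD3_c15)) = (LP (LK LD1_c4 LD2_c23 LD3_c43)) :=
  Lre_e IH (LK LD1_c2 LD2_c9 LD3_c15) (LK LD1_c4 LD2_c23 LD3_c43) Lrfl Lrfl
theorem f38891 : Led Lsl_dt (LP (LK LD1_c8 LD2_c45 LD3_c20)) = (LP (LK LD1_c16 LD2_c23 LD3_c25)) :=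
  Lre_d IH (LK LD1_c8 LD2_c45 LD3_c20) (LK LD1_c16 LD2_c23 LD3_c25) Lrfl Lrfl
theorem f38889 : Led Lsl_gt (LP (LK LD1_c16 LD2_c23 LD3_c25)) = (LP (LK LD1_c26 LD2_c21 LD3_c18)) :=
  Lre_g IH (LK LD1_c16 LD2_c23 LD3_c25) (LK LD1_c26 LD2_c21 LD3_c18) Lrfl Lrfl
theorem f101339 : Led Lsl_dt (LP (LK LD1_c24 LD2_c46 LD3_c2)) = (LP (LK LD1_c26 LD2_c21 LD3_c18)) :=
  Lgr Lrot56 (Lpr_et (f59305 IH) (Lpr_gt (f59297 IH) (Lpe (K16.f59303 IH) (Lpr_dt (K13.f59277 IH) (Lpr_gt (K11.f101331 IH) (Lpe (K1.f39199 IH) (Lpr_et (f39262 IH) (Lpr_gt (K37.f38882 IH) (Lpr_dt (f38891 IH) (Lpr_gt (f38889 IH) (Lpn (LP (LK LD1_c26 LD2_c21 LD3_c18)))))))))))))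
theorem f609718 : Led Lsl_gt (LP (LK LD1_c26 LD2_c21 LD3_c18)) = (LP (LK LD1_c16 LD2_c23 LD3_c27)) :=
  Lgr Lrot112 (Lpe (f101339 IH) (Lpr_et (f59305 IH) (Lpr_gf (f411495 IH) (Lpr_ef (K39.f411521 IH) (Lpr_dt (f552893 IH) (Lpe (K35.f425519 IH) (Lpe (f425521 IH) (Lpr_gf (f609139 IH) (Lpr_ef (f609706 IH) (Lpr_dt (f38909 IH) (Lpn (LP (LK LD1_c16 LD2_c23 LD3_c27)))))))))))))
theorem f101039 : Led Lsl_et (LP (LK LD1_c8 LD2_c45 LD3_c22)) = (LP (LK LD1_c4 LD2_c23 LD3_c44)) :=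
  Lre_e IH (LK LD1_c8 LD2_c45 LD3_c22) (LK LD1_c4 LD2_c23 LD3_c44) Lrfl Lrfl
theorem f59296 : Led Lsl_gt (LP (LK LD1_c11 LD2_c23 LD3_c25)) = (LP (LK LD1_c20 LD2_c21 LD3_c7)) :=
  Lre_g IH (LK LD1_c11 LD2_c23 LD3_c25) (LK LD1_c20 LD2_c21 LD3_c7) Lrfl Lrfl
theorem f60538 : Led Lsl_et (LP (LK LD1_c16 LD2_c32 LD3_c15)) = (LP (LK LD1_c8 LD2_c50 LD3_c52)) :=
  Lre_e IH (LK LD1_c16 LD2_c32 LD3_c15) (LK LD1_c8 LD2_c50 LD3_c52) Lrfl Lrfl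
theorem f60539 : Led Lsl_et (LP (LK LD1_c11 LD2_c23 LD3_c21)) = (LP (LK LD1_c20 LD2_c21 LD3_c2)) :=
  Lre_e IH (LK LD1_c11 LD2_c23 LD3_c21) (LK LD1_c20 LD2_c21 LD3_c2) Lrfl Lrfl
theorem f60540 : Led Lsl_df (LP (LK LD1_c16 LD2_c32 LD3_c15)) = (LP (LK LD1_c20 LD2_c21 LD3_c2)) :=
  Lgr Lrot70 (Lpr_et (f60538 IH) (Lpr_dt (K40.f16454 IH) (Lpr_et (K40.f60537 IH) (Lpr_dt (K2.f60532 IH) (Lpr_et (f60539 IH) (Lpn (LP (LK LD1_c20 LD2_c21 LD3_c2))))))))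
theorem f16463 : Led Lsl_gt (LP (LK LD1_c26 LD2_c28 LD3_c55)) = (LP (LK LD1_c16 LD2_c32 LD3_c15)) :=
  Lre_g IH (LK LD1_c26 LD2_c28 LD3_c55) (LK LD1_c16 LD2_c32 LD3_c15) Lrfl Lrfl
theorem f60531 : Led Lsl_et (LP (LK LD1_c20 LD2_c21 LD3_c2)) = (LP (LK LD1_c11 LD2_c23 LD3_c21)) :=
  Lre_e IH (LK LD1_c20 LD2_c21 LD3_c2) (LK LD1_c11 LD2_c23 LD3_c21) Lrfl Lrfl
theorem f60556 : Led Lsl_et (LP (LK LD1_c2 LD2_c49 LD3_c1)) = (LP (LK LD1_c5 LD2_c46 LD3_c34)) :=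
  Lre_e IH (LK LD1_c2 LD2_c49 LD3_c1) (LK LD1_c5 LD2_c46 LD3_c34) Lrfl Lrfl
theorem f59295 : Led Lsl_et (LP (LK LD1_c5 LD2_c46 LD3_c36)) = (LP (LK LD1_c11 LD2_c23 LD3_c25)) :=
  Lre_e IH (LK LD1_c5 LD2_c46 LD3_c36) (LK LD1_c11 LD2_c23 LD3_c25) Lrfl Lrfl
theorem f60557 : Led Lsl_df (LP (LK LD1_c26 LD2_c28 LD3_c55)) = (LP (LK LD1_c20 LD2_c21 LD3_c7)) :=
  Lgr Lrot135 (Lpr_gt (f16463 IH) (Lpr_df (f60540 IH) (Lpr_et (f60531 IH) (Lpr_gt (K2.f60527 IH) (Lpe (f60556 IH) (Lpr_dt (K1.f59281 IH) (Lpr_gt (K10.f59293 IH) (Lpe (K13.f59294 IH) (Lpr_et (f59295 IH) (Lpr_gt (f59296 IH) (Lpn (LP (LK LD1_c20 LD2_c21 LD3_c7)))))))))))))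
theorem f60559 : Led Lsl_dt (LP (LK LD1_c26 LD2_c28 LD3_c55)) = (LP (LK LD1_c20 LD2_c21 LD3_c7)) :=
  Lgr Lrot42 (Lpr_df (f60557 IH) (Lpn (LP (LK LD1_c20 LD2_c21 LD3_c7))))
theorem f609722 : Led Lsl_ef (LP (LK LD1_c26 LD2_c21 LD3_c18)) = (LP (LK LD1_c26 LD2_c28 LD3_c55)) :=
  Lgr Lrot167 (Lpr_gt (f609718 IH) (Lpr_dt (f38912 IH) (Lpr_gt (f38906 IH) (Lpe (K37.f16379 IH) (Lpr_et (f101039 IH) (Lpe (K11.f101328 IH) (Lpe (K37.f69403 IH) (Lpe (K37.f69375 IH) (Lpr_gt (f59296 IH) (Lpe (f60559 IH) (Lpn (LP (LK LD1_c26 LD2_c28 LD3_c55)))))))))))))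
theorem f101349 : Led Lsl_et (LP (LK LD1_c26 LD2_c21 LD3_c21)) = (LP (LK LD1_c16 LD2_c23 LD3_c25)) :=
  Lre_e IH (LK LD1_c26 LD2_c21 LD3_c21) (LK LD1_c16 LD2_c23 LD3_c25) Lrfl Lrfl
theorem f408059 : Led Lsl_et (LP (LK LD1_c16 LD2_c10 LD3_c27)) = (LP (LK LD1_c26 LD2_c7 LD3_c21)) :=
  Lre_e IH (LK LD1_c16 LD2_c10 LD3_c27) (LK LD1_c26 LD2_c7 LD3_c21) Lrfl Lrfl
theorem f101345 : Led Lsl_et (LP (LK LD1_c8 LD2_c45 LD3_c20)) = (LP (LK LD1_c16 LD2_c23 LD3_c26)) :=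
  Lre_e IH (LK LD1_c8 LD2_c45 LD3_c20) (LK LD1_c16 LD2_c23 LD3_c26) Lrfl Lrfl
theorem f38887 : Led Lsl_dt (LP (LK LD1_c16 LD2_c23 LD3_c25)) = (LP (LK LD1_c8 LD2_c45 LD3_c20)) :=
  Lre_d IH (LK LD1_c16 LD2_c23 LD3_c25) (LK LD1_c8 LD2_c45 LD3_c20) Lrfl Lrfl
theorem f408060 : Led Lsl_dt (LP (LK LD1_c26 LD2_c7 LD3_c21)) = (LP (LK LD1_c26 LD2_c21 LD3_c21)) :=
  Lgr Lrot77 (Lpe (f408059 IH) (Lpr_df (K37.f408054 IH) (Lpe (f101345 IH) (Lpe (f38887 IH) (Lpe (f101349 IH) (Lpn (LP (LK LD1_c26 LD2_c21 LD3_c21))))))))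
theorem f408176 : Led Lsl_df (LP (LK LD1_c26 LD2_c7 LD3_c21)) = (LP (LK LD1_c26 LD2_c21 LD3_c21)) :=
  Lgr Lrot38 (Lpr_dt (f408060 IH) (Lpn (LP (LK LD1_c26 LD2_c21 LD3_c21))))
theorem f410563 : Led Lsl_gt (LP (LK LD1_c20 LD2_c21 LD3_c7)) = (LP (LK LD1_c21 LD2_c12 LD3_c52)) :=
  Lgr Lrot46 (Lpe (f59296 IH) (Lpr_ft (K37.f69389 IH) (Lpr_at (K37.f410551 IH) (Lpn (LP (LK LD1_c21 LD2_c12 LD3_c52))))))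
theorem f101074 : Led Lsl_et (LP (LK LD1_c12 LD2_c5 LD3_c13)) = (LP (LK LD1_c6 LD2_c13 LD3_c8)) :=
  Lre_e IH (LK LD1_c12 LD2_c5 LD3_c13) (LK LD1_c6 LD2_c13 LD3_c8) Lrfl Lrfl
theorem f197937 : Led Lsl_ft (LP (LK LD1_c8 LD2_c51 LD3_c47)) = (LP (LK LD1_c16 LD2_c34 LD3_c16)) :=
  Lre_f IH (LK LD1_c8 LD2_c51 LD3_c47) (LK LD1_c16 LD2_c34 LD3_c16) Lrfl Lrfl
theorem f410720 : Led Lsl_ef (LP (LK LD1_c21 LD2_c10 LD3_c44)) = (LP (LK LD1_c16 LD2_c34 LD3_c16)) :=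
  Lgr Lrot21 (Lpr_ft (K39.f241051 IH) (Lpr_et (f101074 IH) (Lpr_ft (K37.f410714 IH) (Lpr_et (K37.f197922 IH) (Lpr_ft (f197937 IH) (Lpn (LP (LK LD1_c16 LD2_c34 LD3_c16))))))))
theorem f410712 : Led Lsl_at (LP (LK LD1_c12 LD2_c5 LD3_c13)) = (LP (LK LD1_c8 LD2_c51 LD3_c45)) :=
  Lgr Lrot80 (Lpe (K37.f241044 IH) (Lpr_af (K37.f410704 IH) (Lpe (K37.f101049 IH) (Lpn (LP (LK LD1_c8 LD2_c51 LD3_c45))))))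
theorem f198017 : Led Lsl_gt (LP (LK LD1_c16 LD2_c34 LD3_c10)) = (LP (LK LD1_c8 LD2_c51 LD3_c45)) :=
  Lre_g IH (LK LD1_c16 LD2_c34 LD3_c10) (LK LD1_c8 LD2_c51 LD3_c45) Lrfl Lrfl
theorem f410929 : Led Lsl_gt (LP (LK LD1_c21 LD2_c10 LD3_c44)) = (LP (LK LD1_c16 LD2_c34 LD3_c10)) :=
  Lgr Lrot5 (Lpr_ft (K39.f241051 IH) (Lpr_at (f410712 IH) (Lpe (f198017 IH) (Lpn (LP (LK LD1_c16 LD2_c34 LD3_c10))))))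
theorem f410931 : Led Lsl_dt (LP (LK LD1_c16 LD2_c34 LD3_c10)) = (LP (LK LD1_c26 LD2_c31 LD3_c21)) :=
  Lre_d IH (LK LD1_c16 LD2_c34 LD3_c10) (LK LD1_c26 LD2_c31 LD3_c21) Lrfl Lrfl
theorem f609726 : Led Lsl_gf (LP (LK LD1_c26 LD2_c7 LD3_c21)) = (LP (LK LD1_c26 LD2_c31 LD3_c21)) :=
  Lgr Lrot134 (Lpr_df (f408176 IH) (Lpr_et (f101349 IH) (Lpr_gt (f38889 IH) (Lpr_ef (f609722 IH) (Lpr_dt (f60559 IH) (Lpr_gt (f410563 IH) (Lpe (K39.f197962 IH) (Lpe (f410720 IH) (Lpr_gt (f410929 IH) (Lpr_dt (f410931 IH) (Lpn (LP (LK LD1_c26 LD2_c31 LD3_c21)))))))))))))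
theorem f205009 : Led Lsl_dt (LP (LK LD1_c26 LD2_c31 LD3_c21)) = (LP (LK LD1_c16 LD2_c34 LD3_c10)) :=
  Lre_d IH (LK LD1_c26 LD2_c31 LD3_c21) (LK LD1_c16 LD2_c34 LD3_c10) Lrfl Lrfl
theorem f92609 : Led Lsl_dt (LP (LK LD1_c13 LD2_c46 LD3_c44)) = (LP (LK LD1_c7 LD2_c16 LD3_c54)) :=
  Lre_d IH (LK LD1_c13 LD2_c46 LD3_c44) (LK LD1_c7 LD2_c16 LD3_c54) Lrfl Lrfl
theorem f567409 : Led Lsl_gf (LP (LK LD1_c26 LD2_c31 LD3_c21)) = (LP (LK LD1_c23 LD2_c9 LD3_c17)) :=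
  Lgr Lrot138 (Lpr_dt (f205009 IH) (Lpr_gt (f198017 IH) (Lpe (K39.f204945 IH) (Lpr_et (K40.f204938 IH) (Lpe (K14.f255132 IH) (Lpe (K43.f201600 IH) (Lpr_dt (K43.f567303 IH) (Lpr_gt (K43.f501786 IH) (Lpe (f92609 IH) (Lpr_et (f92587 IH) (Lpn (LP (LK LD1_c23 LD2_c9 LD3_c17)))))))))))))
theorem f525478 : Led Lsl_et (LP (LK LD1_c13 LD2_c48 LD3_c16)) = (LP (LK LD1_c7 LD2_c17 LD3_c46)) :=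
  Lre_e IH (LK LD1_c13 LD2_c48 LD3_c16) (LK LD1_c7 LD2_c17 LD3_c46) Lrfl Lrfl
theorem f525471 : Led Lsl_ft (LP (LK LD1_c7 LD2_c17 LD3_c46)) = (LP (LK LD1_c13 LD2_c46 LD3_c44)) :=
  Lgr Lrot48 (Lpr_ff (K35.f525465 IH) (Lpn (LP (LK LD1_c13 LD2_c46 LD3_c44))))
theorem f609009 : Led Lsl_ft (LP (LK LD1_c23 LD2_c9 LD3_c17)) = (LP (LK LD1_c18 LD2_c19 LD3_c26)) :=
  Lgr Lrot86 (Lpe (f92587 IH) (Lpe (f525471 IH) (Lpe (f525478 IH) (Lpr_ff (f609002 IH) (Lpe (f164931 IH) (Lpn (LP (LK LD1_c18 LD2_c19 LD3_c26))))))))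
theorem f609728 : Led Lsl_af (LP (LK LD1_c26 LD2_c7 LD3_c21)) = (LP (LK LD1_c18 LD2_c19 LD3_c26)) :=
  Lgr Lrot31 (Lpr_gf (f609726 IH) (Lpr_gf (f567409 IH) (Lpr_ft (f609009 IH) (Lpn (LP (LK LD1_c18 LD2_c19 LD3_c26))))))
theorem f180167 : Led Lsl_et (LP (LK LD1_c26 LD2_c7 LD3_c21)) = (LP (LK LD1_c16 LD2_c10 LD3_c27)) :=
  Lre_e IH (LK LD1_c26 LD2_c7 LD3_c21) (LK LD1_c16 LD2_c10 LD3_c27) Lrfl Lrfl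
theorem f609736 : Led Lsl_at (LP (LK LD1_c16 LD2_c10 LD3_c27)) = (LP (LK LD1_c10 LD2_c1 LD3_c36)) :=
  Lgr Lrot80 (Lpe (f180167 IH) (Lpr_af (f609728 IH) (Lpe (f236581 IH) (Lpn (LP (LK LD1_c10 LD2_c1 LD3_c36))))))
theorem f609746 : Led Lsl_ff (LP (LK LD1_c16 LD2_c10 LD3_c27)) = (LP (LK LD1_c10 LD2_c1 LD3_c35)) :=
  Lgr Lrot30 (Lpr_at (f609736 IH) (Lpe (f609002 IH) (Lpr_at (f608992 IH) (Lpn (LP (LK LD1_c10 LD2_c1 LD3_c35))))))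
theorem f609756 : Led Lsl_ft (LP (LK LD1_c16 LD2_c10 LD3_c27)) = (LP (LK LD1_c10 LD2_c1 LD3_c35)) :=
  Lgr Lrot48 (Lpr_ff (f609746 IH) (Lpn (LP (LK LD1_c10 LD2_c1 LD3_c35))))
theorem f608994 : Led Lsl_af (LP (LK LD1_c13 LD2_c48 LD3_c16)) = (LP (LK LD1_c10 LD2_c1 LD3_c35)) :=
  Lgr Lrot0 (Lpr_at (f608992 IH) (Lpn (LP (LK LD1_c10 LD2_c1 LD3_c35))))
theorem f609762 : Led Lsl_gt (LP (LK LD1_c8 LD2_c38 LD3_c8)) = (LP (LK LD1_c13 LD2_c48 LD3_c16)) :=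
  Lgr Lrot46 (Lpe (K37.f180163 IH) (Lpr_ft (f609756 IH) (Lpe (f608994 IH) (Lpn (LP (LK LD1_c13 LD2_c48 LD3_c16))))))
theorem f211175 : Led Lsl_ct (LP (LK LD1_c8 LD2_c51 LD3_c22)) = (LP (LK LD1_c16 LD2_c33 LD3_c27)) :=
  Lre_c IH (LK LD1_c8 LD2_c51 LD3_c22) (LK LD1_c16 LD2_c33 LD3_c27) Lrfl Lrfl
theorem f444915 : Led Lsl_et (LP (LK LD1_c8 LD2_c51 LD3_c21)) = (LP (LK LD1_c16 LD2_c33 LD3_c27)) :=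
  Lre_e IH (LK LD1_c8 LD2_c51 LD3_c21) (LK LD1_c16 LD2_c33 LD3_c27) Lrfl Lrfl
theorem f444938 : Led Lsl_gt (LP (LK LD1_c16 LD2_c14 LD3_c60)) = (LP (LK LD1_c16 LD2_c33 LD3_c27)) :=
  Lgr Lrot131 (Lpe (K23.f337277 IH) (Lpr_dt (K13.f229904 IH) (Lpe (K13.f239134 IH) (Lpe (K13.f28934 IH) (Lpr_gf (K12.f216588 IH) (Lpe (K1.f29589 IH) (Lpr_dt (K37.f29923 IH) (Lpr_gf (K43.f444917 IH) (Lpe (K37.f227635 IH) (Lpr_et (f444915 IH) (Lpn (LP (LK LD1_c16 LD2_c33 LD3_c27)))))))))))))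
theorem f337292 : Led Lsl_ft (LP (LK LD1_c16 LD2_c14 LD3_c60)) = (LP (LK LD1_c26 LD2_c12 LD3_c26)) :=
  Lre_f IH (LK LD1_c16 LD2_c14 LD3_c60) (LK LD1_c26 LD2_c12 LD3_c26) Lrfl Lrfl
theorem f444940 : Led Lsl_gf (LP (LK LD1_c25 LD2_c15 LD3_c57)) = (LP (LK LD1_c16 LD2_c33 LD3_c27)) :=
  Lgr Lrot76 (Lpr_af (K23.f337287 IH) (Lpe (f337292 IH) (Lpr_gt (f444938 IH) (Lpn (LP (LK LD1_c16 LD2_c33 LD3_c27))))))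
theorem f240664 : Led Lsl_et (LP (LK LD1_c16 LD2_c11 LD3_c18)) = (LP (LK LD1_c8 LD2_c38 LD3_c37)) :=
  Lre_e IH (LK LD1_c16 LD2_c11 LD3_c18) (LK LD1_c8 LD2_c38 LD3_c37) Lrfl Lrfl
theorem f240665 : Led Lsl_cf (LP (LK LD1_c16 LD2_c11 LD3_c18)) = (LP (LK LD1_c8 LD2_c39 LD3_c3)) :=
  Lgr Lrot39 (Lpr_et (f240664 IH) (Lpr_ct (K13.f240661 IH) (Lpr_et (K37.f240653 IH) (Lpn (LP (LK LD1_c8 LD2_c39 LD3_c3))))))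
theorem f346944 : Led Lsl_ct (LP (LK LD1_c11 LD2_c57 LD3_c18)) = (LP (LK LD1_c8 LD2_c38 LD3_c24)) :=
  Lgr Lrot111 (Lpr_af (K23.f346939 IH) (Lpr_cf (f240665 IH) (Lpr_af (K37.f346827 IH) (Lpn (LP (LK LD1_c8 LD2_c38 LD3_c24))))))
theorem f394625 : Led Lsl_ft (LP (LK LD1_c21 LD2_c2 LD3_c23)) = (LP (LK LD1_c11 LD2_c57 LD3_c18)) :=
  Lre_f IH (LK LD1_c21 LD2_c2 LD3_c23) (LK LD1_c11 LD2_c57 LD3_c18) Lrfl Lrfl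
theorem f394626 : Led Lsl_cf (LP (LK LD1_c21 LD2_c2 LD3_c23)) = (LP (LK LD1_c16 LD2_c10 LD3_c51)) :=
  Lgr Lrot108 (Lpr_ft (f394625 IH) (Lpr_ct (f346944 IH) (Lpr_ft (K37.f346791 IH) (Lpn (LP (LK LD1_c16 LD2_c10 LD3_c51))))))
theorem f394631 : Led Lsl_ct (LP (LK LD1_c21 LD2_c2 LD3_c23)) = (LP (LK LD1_c16 LD2_c10 LD3_c51)) :=
  Lgr Lrot59 (Lpr_cf (f394626 IH) (Lpn (LP (LK LD1_c16 LD2_c10 LD3_c51))))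
theorem f588178 : Led Lsl_ct (LP (LK LD1_c13 LD2_c48 LD3_c16)) = (LP (LK LD1_c23 LD2_c16 LD3_c21)) :=
  Lre_c IH (LK LD1_c13 LD2_c48 LD3_c16) (LK LD1_c23 LD2_c16 LD3_c21) Lrfl Lrfl
theorem f609766 : Led Lsl_gf (LP (LK LD1_c21 LD2_c2 LD3_c23)) = (LP (LK LD1_c23 LD2_c16 LD3_c21)) :=
  Lgr Lrot104 (Lpr_ct (f394631 IH) (Lpe (K37.f346816 IH) (Lpe (K37.f337290 IH) (Lpr_gf (f444940 IH) (Lpe (f211175 IH) (Lpe (K37.f211170 IH) (Lpr_df (K32.f180149 IH) (Lpr_gt (f609762 IH) (Lpr_ct (f588178 IH) (Lpn (LP (LK LD1_c23 LD2_c16 LD3_c21))))))))))))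
theorem f164922 : Led Lsl_ct (LP (LK LD1_c18 LD2_c19 LD3_c24)) = (LP (LK LD1_c10 LD2_c1 LD3_c36)) :=
  Lre_c IH (LK LD1_c18 LD2_c19 LD3_c24) (LK LD1_c10 LD2_c1 LD3_c36) Lrfl Lrfl
theorem f609007 : Led Lsl_ft (LP (LK LD1_c23 LD2_c16 LD3_c21)) = (LP (LK LD1_c18 LD2_c19 LD3_c24)) :=
  Lgr Lrot4 (Lpe (f588178 IH) (Lpr_ff (f609002 IH) (Lpe (f164922 IH) (Lpn (LP (LK LD1_c18 LD2_c19 LD3_c24))))))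
theorem f180164 : Led Lsl_ct (LP (LK LD1_c26 LD2_c7 LD3_c20)) = (LP (LK LD1_c16 LD2_c10 LD3_c27)) :=
  Lre_c IH (LK LD1_c26 LD2_c7 LD3_c20) (LK LD1_c16 LD2_c10 LD3_c27) Lrfl Lrfl
theorem f164924 : Led Lsl_ct (LP (LK LD1_c10 LD2_c1 LD3_c36)) = (LP (LK LD1_c18 LD2_c19 LD3_c24)) :=
  Lre_c IH (LK LD1_c10 LD2_c1 LD3_c36) (LK LD1_c18 LD2_c19 LD3_c24) Lrfl Lrfl
theorem f609742 : Led Lsl_af (LP (LK LD1_c26 LD2_c7 LD3_c20)) = (LP (LK LD1_c18 LD2_c19 LD3_c24)) :=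
  Lgr Lrot68 (Lpr_ct (f180164 IH) (Lpr_at (f609736 IH) (Lpr_ct (f164924 IH) (Lpn (LP (LK LD1_c18 LD2_c19 LD3_c24))))))
theorem f609966 : Led Lsl_gt (LP (LK LD1_c21 LD2_c2 LD3_c23)) = (LP (LK LD1_c26 LD2_c7 LD3_c20)) :=
  Lgr Lrot46 (Lpr_gf (f609766 IH) (Lpr_ft (f609007 IH) (Lpe (f609742 IH) (Lpn (LP (LK LD1_c26 LD2_c7 LD3_c20))))))
theorem f346941 : Led Lsl_at (LP (LK LD1_c11 LD2_c57 LD3_c18)) = (LP (LK LD1_c16 LD2_c11 LD3_c18)) :=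
  Lgr Lrot100 (Lpr_af (K23.f346939 IH) (Lpn (LP (LK LD1_c16 LD2_c11 LD3_c18))))
theorem f609968 : Led Lsl_gf (LP (LK LD1_c16 LD2_c11 LD3_c18)) = (LP (LK LD1_c26 LD2_c7 LD3_c20)) :=
  Lgr Lrot76 (Lpe (f346941 IH) (Lpe (f394625 IH) (Lpr_gt (f609966 IH) (Lpn (LP (LK LD1_c26 LD2_c7 LD3_c20))))))
theorem f180166 : Led Lsl_ct (LP (LK LD1_c16 LD2_c10 LD3_c27)) = (LP (LK LD1_c26 LD2_c7 LD3_c20)) :=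
  Lre_c IH (LK LD1_c16 LD2_c10 LD3_c27) (LK LD1_c26 LD2_c7 LD3_c20) Lrfl Lrfl
theorem f303938 : Led Lsl_ct (LP (LK LD1_c18 LD2_c19 LD3_c22)) = (LP (LK LD1_c10 LD2_c1 LD3_c35)) :=
  Lre_c IH (LK LD1_c18 LD2_c19 LD3_c22) (LK LD1_c10 LD2_c1 LD3_c35) Lrfl Lrfl
theorem f609750 : Led Lsl_ft (LP (LK LD1_c26 LD2_c7 LD3_c20)) = (LP (LK LD1_c18 LD2_c19 LD3_c22)) :=
  Lgr Lrot4 (Lpe (f180166 IH) (Lpr_ff (f609746 IH) (Lpe (f303938 IH) (Lpn (LP (LK LD1_c18 LD2_c19 LD3_c22))))))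
theorem f608999 : Led Lsl_ct (LP (LK LD1_c23 LD2_c16 LD3_c21)) = (LP (LK LD1_c13 LD2_c48 LD3_c16)) :=
  Lre_c IH (LK LD1_c23 LD2_c16 LD3_c21) (LK LD1_c13 LD2_c48 LD3_c16) Lrfl Lrfl
theorem f164927 : Led Lsl_ct (LP (LK LD1_c10 LD2_c1 LD3_c35)) = (LP (LK LD1_c18 LD2_c19 LD3_c22)) :=
  Lre_c IH (LK LD1_c10 LD2_c1 LD3_c35) (LK LD1_c18 LD2_c19 LD3_c22) Lrfl Lrfl
theorem f609000 : Led Lsl_af (LP (LK LD1_c23 LD2_c16 LD3_c21)) = (LP (LK LD1_c18 LD2_c19 LD3_c22)) :=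
  Lgr Lrot68 (Lpr_ct (f608999 IH) (Lpr_at (f608992 IH) (Lpr_ct (f164927 IH) (Lpn (LP (LK LD1_c18 LD2_c19 LD3_c22))))))
theorem f609970 : Led Lsl_gt (LP (LK LD1_c16 LD2_c11 LD3_c18)) = (LP (LK LD1_c23 LD2_c16 LD3_c21)) :=
  Lgr Lrot46 (Lpr_gf (f609968 IH) (Lpr_ft (f609750 IH) (Lpe (f609000 IH) (Lpn (LP (LK LD1_c23 LD2_c16 LD3_c21))))))
theorem f33688 : Led Lsl_et (LP (LK LD1_c8 LD2_c3 LD3_c55)) = (LP (LK LD1_c4 LD2_c1 LD3_c38)) :=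
  Lre_e IH (LK LD1_c8 LD2_c3 LD3_c55) (LK LD1_c4 LD2_c1 LD3_c38) Lrfl Lrfl
theorem f546553 : Led Lsl_bt (LP (LK LD1_c8 LD2_c39 LD3_c3)) = (LP (LK LD1_c8 LD2_c3 LD3_c55)) :=
  Lgr Lrot119 (Lpe (K37.f240653 IH) (Lpr_bf (K38.f546543 IH) (Lpe (f33688 IH) (Lpn (LP (LK LD1_c8 LD2_c3 LD3_c55))))))
theorem f33730 : Led Lsl_gt (LP (LK LD1_c15 LD2_c10 LD3_c61)) = (LP (LK LD1_c8 LD2_c3 LD3_c55)) :=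
  Lre_g IH (LK LD1_c15 LD2_c10 LD3_c61) (LK LD1_c8 LD2_c3 LD3_c55) Lrfl Lrfl
theorem f526194 : Led Lsl_bt (LP (LK LD1_c13 LD2_c48 LD3_c16)) = (LP (LK LD1_c7 LD2_c17 LD3_c49)) :=
  Lre_b IH (LK LD1_c13 LD2_c48 LD3_c16) (LK LD1_c7 LD2_c17 LD3_c49) Lrfl Lrfl
theorem f588150 : Led Lsl_at (LP (LK LD1_c18 LD2_c40 LD3_c43)) = (LP (LK LD1_c13 LD2_c47 LD3_c34)) :=
  Lgr Lrot51 (Lpe (K45.f411052 IH) (Lpr_af (K45.f588146 IH) (Lpr_df (K43.f573764 IH) (Lpn (LP (LK LD1_c13 LD2_c47 LD3_c34))))))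
theorem f588164 : Led Lsl_ef (LP (LK LD1_c18 LD2_c40 LD3_c43)) = (LP (LK LD1_c13 LD2_c48 LD3_c23)) :=
  Lgr Lrot20 (Lpr_at (f588150 IH) (Lpe (K43.f573768 IH) (Lpr_at (K45.f588075 IH) (Lpn (LP (LK LD1_c13 LD2_c48 LD3_c23))))))
theorem f588116 : Led Lsl_cf (LP (LK LD1_c25 LD2_c2 LD3_c49)) = (LP (LK LD1_c18 LD2_c40 LD3_c43)) :=
  Lgr Lrot11 (Lpr_ct (K45.f588114 IH) (Lpn (LP (LK LD1_c18 LD2_c40 LD3_c43))))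
theorem f471056 : Led Lsl_ct (LP (LK LD1_c23 LD2_c16 LD3_c34)) = (LP (LK LD1_c13 LD2_c48 LD3_c23)) :=
  Lre_c IH (LK LD1_c23 LD2_c16 LD3_c34) (LK LD1_c13 LD2_c48 LD3_c23) Lrfl Lrfl
theorem f588166 : Led Lsl_et (LP (LK LD1_c25 LD2_c2 LD3_c49)) = (LP (LK LD1_c23 LD2_c16 LD3_c34)) :=
  Lgr Lrot158 (Lpr_cf (f588116 IH) (Lpr_ef (f588164 IH) (Lpe (f471056 IH) (Lpn (LP (LK LD1_c23 LD2_c16 LD3_c34))))))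
theorem f4407 : Led Lsl_dt (LP (LK LD1_c13 LD2_c47 LD3_c43)) = (LP (LK LD1_c23 LD2_c15 LD3_c23)) :=
  Lre_d IH (LK LD1_c13 LD2_c47 LD3_c43) (LK LD1_c23 LD2_c15 LD3_c23) Lrfl Lrfl
theorem f4140 : Led Lsl_et (LP (LK LD1_c3 LD2_c38 LD3_c46)) = (LP (LK LD1_c7 LD2_c17 LD3_c34)) :=
  Lre_e IH (LK LD1_c3 LD2_c38 LD3_c46) (LK LD1_c7 LD2_c17 LD3_c34) Lrfl Lrfl
theorem f588170 : Led Lsl_gf (LP (LK LD1_c13 LD2_c49 LD3_c36)) = (LP (LK LD1_c23 LD2_c16 LD3_c34)) :=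
  Lgr Lrot141 (Lpe (K33.f481522 IH) (Lpe (K29.f481519 IH) (Lpr_gt (K29.f4397 IH) (Lpe (K29.f4091 IH) (Lpr_et (f4140 IH) (Lpr_gt (K43.f4406 IH) (Lpr_dt (f4407 IH) (Lpr_gt (K43.f573717 IH) (Lpr_df (K43.f573166 IH) (Lpr_et (f588166 IH) (Lpn (LP (LK LD1_c23 LD2_c16 LD3_c34)))))))))))))
theorem f517450 : Led Lsl_at (LP (LK LD1_c7 LD2_c18 LD3_c26)) = (LP (LK LD1_c13 LD2_c47 LD3_c2)) :=
  Lgr Lrot100 (Lpr_af (K33.f517443 IH) (Lpn (LP (LK LD1_c13 LD2_c47 LD3_c2))))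
theorem f517458 : Led Lsl_ct (LP (LK LD1_c13 LD2_c49 LD3_c36)) = (LP (LK LD1_c7 LD2_c18 LD3_c26)) :=
  Lre_c IH (LK LD1_c13 LD2_c49 LD3_c36) (LK LD1_c7 LD2_c18 LD3_c26) Lrfl Lrfl
theorem f488569 : Led Lsl_ct (LP (LK LD1_c13 LD2_c47 LD3_c2)) = (LP (LK LD1_c23 LD2_c14 LD3_c34)) :=
  Lre_c IH (LK LD1_c13 LD2_c47 LD3_c2) (LK LD1_c23 LD2_c14 LD3_c34) Lrfl Lrfl
theorem f518675 : Led Lsl_af (LP (LK LD1_c13 LD2_c49 LD3_c36)) = (LP (LK LD1_c23 LD2_c14 LD3_c34)) :=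
  Lgr Lrot68 (Lpr_ct (f517458 IH) (Lpr_at (f517450 IH) (Lpr_ct (f488569 IH) (Lpn (LP (LK LD1_c23 LD2_c14 LD3_c34))))))
theorem f588172 : Led Lsl_gt (LP (LK LD1_c30 LD2_c57 LD3_c43)) = (LP (LK LD1_c23 LD2_c16 LD3_c34)) :=
  Lgr Lrot5 (Lpr_ft (K33.f517419 IH) (Lpe (f518675 IH) (Lpr_gf (f588170 IH) (Lpn (LP (LK LD1_c23 LD2_c16 LD3_c34))))))
theorem f588077 : Led Lsl_at (LP (LK LD1_c30 LD2_c57 LD3_c17)) = (LP (LK LD1_c23 LD2_c16 LD3_c34)) :=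
  Lgr Lrot107 (Lpe (K45.f471425 IH) (Lpr_af (K45.f588073 IH) (Lpe (f471056 IH) (Lpn (LP (LK LD1_c23 LD2_c16 LD3_c34))))))
theorem f588174 : Led Lsl_gf (LP (LK LD1_c30 LD2_c57 LD3_c43)) = (LP (LK LD1_c23 LD2_c16 LD3_c30)) :=
  Lgr Lrot47 (Lpr_gt (f588172 IH) (Lpe (f588077 IH) (Lpr_ff (K45.f588100 IH) (Lpn (LP (LK LD1_c23 LD2_c16 LD3_c30))))))
theorem f609982 : Led Lsl_bf (LP (LK LD1_c15 LD2_c10 LD3_c61)) = (LP (LK LD1_c23 LD2_c14 LD3_c37)) :=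
  Lgr Lrot156 (Lpr_gt (f33730 IH) (Lpe (f546553 IH) (Lpe (f240665 IH) (Lpr_gt (f609970 IH) (Lpe (f588178 IH) (Lpr_bt (f526194 IH) (Lpr_gt (K45.f471020 IH) (Lpr_ct (K45.f526365 IH) (Lpe (f588174 IH) (Lpe (K33.f517429 IH) (Lpn (LP (LK LD1_c23 LD2_c14 LD3_c37)))))))))))))
theorem f517424 : Led Lsl_ct (LP (LK LD1_c30 LD2_c57 LD3_c43)) = (LP (LK LD1_c23 LD2_c14 LD3_c37)) :=
  Lre_c IH (LK LD1_c30 LD2_c57 LD3_c43) (LK LD1_c23 LD2_c14 LD3_c37) Lrfl Lrfl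
theorem f517425 : Led Lsl_ef (LP (LK LD1_c13 LD2_c49 LD3_c22)) = (LP (LK LD1_c23 LD2_c14 LD3_c37)) :=
  Lgr Lrot28 (Lpr_ct (K33.f517301 IH) (Lpr_et (K33.f517420 IH) (Lpr_ct (f517424 IH) (Lpn (LP (LK LD1_c23 LD2_c14 LD3_c37))))))
theorem f517427 : Led Lsl_et (LP (LK LD1_c13 LD2_c49 LD3_c22)) = (LP (LK LD1_c23 LD2_c14 LD3_c37)) :=
  Lgr Lrot87 (Lpr_ef (f517425 IH) (Lpn (LP (LK LD1_c23 LD2_c14 LD3_c37))))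
theorem f517304 : Led Lsl_bt (LP (LK LD1_c23 LD2_c18 LD3_c5)) = (LP (LK LD1_c13 LD2_c49 LD3_c22)) :=
  Lre_b IH (LK LD1_c23 LD2_c18 LD3_c5) (LK LD1_c13 LD2_c49 LD3_c22) Lrfl Lrfl
theorem f609986 : Led Lsl_et (LP (LK LD1_c15 LD2_c10 LD3_c61)) = (LP (LK LD1_c23 LD2_c18 LD3_c5)) :=
  Lgr Lrot74 (Lpr_bf (f609982 IH) (Lpe (f517427 IH) (Lpe (f517304 IH) (Lpn (LP (LK LD1_c23 LD2_c18 LD3_c5))))))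
theorem f609990 : Led Lsl_ef (LP (LK LD1_c15 LD2_c10 LD3_c61)) = (LP (LK LD1_c23 LD2_c18 LD3_c5)) :=
  Lgr Lrot88 (Lpr_et (f609986 IH) (Lpn (LP (LK LD1_c23 LD2_c18 LD3_c5))))
theorem f456437 : Led Lsl_dt (LP (LK LD1_c7 LD2_c18 LD3_c10)) = (LP (LK LD1_c3 LD2_c38 LD3_c54)) :=
  Lre_d IH (LK LD1_c7 LD2_c18 LD3_c10) (LK LD1_c3 LD2_c38 LD3_c54) Lrfl Lrfl
theorem f517495 : Led Lsl_et (LP (LK LD1_c7 LD2_c18 LD3_c10)) = (LP (LK LD1_c13 LD2_c49 LD3_c8)) :=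
  Lre_e IH (LK LD1_c7 LD2_c18 LD3_c10) (LK LD1_c13 LD2_c49 LD3_c8) Lrfl Lrfl
theorem f608768 : Led Lsl_gt (LP (LK LD1_c13 LD2_c49 LD3_c8)) = (LP (LK LD1_c23 LD2_c18 LD3_c2)) :=
  Lre_g IH (LK LD1_c13 LD2_c49 LD3_c8) (LK LD1_c23 LD2_c18 LD3_c2) Lrfl Lrfl
theorem f116226 : Led Lsl_dt (LP (LK LD1_c13 LD2_c38 LD3_c10)) = (LP (LK LD1_c7 LD2_c12 LD3_c1)) :=
  Lre_d IH (LK LD1_c13 LD2_c38 LD3_c10) (LK LD1_c7 LD2_c12 LD3_c1) Lrfl Lrfl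
theorem f606972 : Led Lsl_ft (LP (LK LD1_c6 LD2_c14 LD3_c12)) = (LP (LK LD1_c8 LD2_c45 LD3_c36)) :=
  Lgr Lrot48 (Lpr_ff (K46.f606966 IH) (Lpn (LP (LK LD1_c8 LD2_c45 LD3_c36))))
theorem f59747 : Led Lsl_dt (LP (LK LD1_c12 LD2_c6 LD3_c54)) = (LP (LK LD1_c6 LD2_c14 LD3_c12)) :=
  Lre_d IH (LK LD1_c12 LD2_c6 LD3_c54) (LK LD1_c6 LD2_c14 LD3_c12) Lrfl Lrfl
theorem f606974 : Led Lsl_ff (LP (LK LD1_c12 LD2_c6 LD3_c54)) = (LP (LK LD1_c16 LD2_c23 LD3_c48)) :=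
  Lgr Lrot19 (Lpr_dt (f59747 IH) (Lpr_ft (f606972 IH) (Lpr_dt (K46.f81160 IH) (Lpn (LP (LK LD1_c16 LD2_c23 LD3_c48))))))
theorem f59770 : Led Lsl_et (LP (LK LD1_c12 LD2_c6 LD3_c54)) = (LP (LK LD1_c21 LD2_c13 LD3_c1)) :=
  Lre_e IH (LK LD1_c12 LD2_c6 LD3_c54) (LK LD1_c21 LD2_c13 LD3_c1) Lrfl Lrfl
theorem f59741 : Led Lsl_bt (LP (LK LD1_c12 LD2_c5 LD3_c61)) = (LP (LK LD1_c21 LD2_c11 LD3_c55)) :=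
  Lre_b IH (LK LD1_c12 LD2_c5 LD3_c61) (LK LD1_c21 LD2_c11 LD3_c55) Lrfl Lrfl
theorem f59742 : Led Lsl_df (LP (LK LD1_c21 LD2_c12 LD3_c61)) = (LP (LK LD1_c21 LD2_c11 LD3_c55)) :=
  Lgr Lrot12 (Lpr_bt (K46.f59740 IH) (Lpr_dt (K40.f59738 IH) (Lpr_bt (f59741 IH) (Lpn (LP (LK LD1_c21 LD2_c11 LD3_c55))))))
theorem f519247 : Led Lsl_dt (LP (LK LD1_c22 LD2_c56 LD3_c58)) = (LP (LK LD1_c13 LD2_c33 LD3_c55)) :=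
  Lre_d IH (LK LD1_c22 LD2_c56 LD3_c58) (LK LD1_c13 LD2_c33 LD3_c55) Lrfl Lrfl
theorem f606819 : Led Lsl_af (LP (LK LD1_c21 LD2_c11 LD3_c55)) = (LP (LK LD1_c13 LD2_c33 LD3_c55)) :=
  Lgr Lrot117 (Lpe (f59742 IH) (Lpr_at (K46.f606815 IH) (Lpr_dt (f519247 IH) (Lpn (LP (LK LD1_c13 LD2_c33 LD3_c55))))))
theorem f519190 : Led Lsl_ft (LP (LK LD1_c7 LD2_c9 LD3_c41)) = (LP (LK LD1_c13 LD2_c33 LD3_c55)) :=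
  Lre_f IH (LK LD1_c7 LD2_c9 LD3_c41) (LK LD1_c13 LD2_c33 LD3_c55) Lrfl Lrfl
theorem f442156 : Led Lsl_dt (LP (LK LD1_c7 LD2_c6 LD3_c45)) = (LP (LK LD1_c3 LD2_c32 LD3_c53)) :=
  Lre_d IH (LK LD1_c7 LD2_c6 LD3_c45) (LK LD1_c3 LD2_c32 LD3_c53) Lrfl Lrfl
theorem f482405 : Led Lsl_dt (LP (LK LD1_c1 LD2_c43 LD3_c43)) = (LP (LK LD1_c3 LD2_c34 LD3_c6)) :=
  Lre_d IH (LK LD1_c1 LD2_c43 LD3_c43) (LK LD1_c3 LD2_c34 LD3_c6) Lrfl Lrfl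
theorem f515338 : Led Lsl_af (LP (LK LD1_c7 LD2_c6 LD3_c45)) = (LP (LK LD1_c3 LD2_c34 LD3_c6)) :=
  Lgr Lrot117 (Lpr_dt (f442156 IH) (Lpr_at (K33.f515331 IH) (Lpr_dt (f482405 IH) (Lpn (LP (LK LD1_c3 LD2_c34 LD3_c6))))))
theorem f515344 : Led Lsl_ft (LP (LK LD1_c7 LD2_c6 LD3_c45)) = (LP (LK LD1_c3 LD2_c34 LD3_c14)) :=
  Lgr Lrot54 (Lpe (K43.f442114 IH) (Lpr_ff (K33.f515340 IH) (Lpe (K41.f128140 IH) (Lpn (LP (LK LD1_c3 LD2_c34 LD3_c14))))))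
theorem f515374 : Led Lsl_af (LP (LK LD1_c7 LD2_c6 LD3_c47)) = (LP (LK LD1_c3 LD2_c34 LD3_c14)) :=
  Lgr Lrot45 (Lpr_ft (K33.f515372 IH) (Lpe (f515338 IH) (Lpr_ft (f515344 IH) (Lpn (LP (LK LD1_c3 LD2_c34 LD3_c14))))))
theorem f467128 : Led Lsl_et (LP (LK LD1_c7 LD2_c6 LD3_c47)) = (LP (LK LD1_c13 LD2_c28 LD3_c43)) :=
  Lre_e IH (LK LD1_c7 LD2_c6 LD3_c47) (LK LD1_c13 LD2_c28 LD3_c43) Lrfl Lrfl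
theorem f518850 : Led Lsl_et (LP (LK LD1_c7 LD2_c9 LD3_c41)) = (LP (LK LD1_c3 LD2_c34 LD3_c14)) :=
  Lre_e IH (LK LD1_c7 LD2_c9 LD3_c41) (LK LD1_c3 LD2_c34 LD3_c14) Lrfl Lrfl
theorem f519181 : Led Lsl_at (LP (LK LD1_c13 LD2_c28 LD3_c43)) = (LP (LK LD1_c7 LD2_c9 LD3_c41)) :=
  Lgr Lrot80 (Lpe (f467128 IH) (Lpr_af (f515374 IH) (Lpe (f518850 IH) (Lpn (LP (LK LD1_c7 LD2_c9 LD3_c41))))))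
theorem f606827 : Led Lsl_ft (LP (LK LD1_c21 LD2_c11 LD3_c55)) = (LP (LK LD1_c13 LD2_c28 LD3_c43)) :=
  Lgr Lrot101 (Lpr_af (f606819 IH) (Lpe (f519190 IH) (Lpe (f519181 IH) (Lpn (LP (LK LD1_c13 LD2_c28 LD3_c43))))))
theorem f606845 : Led Lsl_ff (LP (LK LD1_c21 LD2_c11 LD3_c55)) = (LP (LK LD1_c13 LD2_c28 LD3_c43)) :=
  Lgr Lrot3 (Lpr_ft (f606827 IH) (Lpn (LP (LK LD1_c13 LD2_c28 LD3_c43))))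
theorem f59780 : Led Lsl_ct (LP (LK LD1_c21 LD2_c11 LD3_c55)) = (LP (LK LD1_c29 LD2_c53 LD3_c51)) :=
  Lre_c IH (LK LD1_c21 LD2_c11 LD3_c55) (LK LD1_c29 LD2_c53 LD3_c51) Lrfl Lrfl
theorem f519186 : Led Lsl_ct (LP (LK LD1_c22 LD2_c48 LD3_c34)) = (LP (LK LD1_c13 LD2_c28 LD3_c43)) :=
  Lre_c IH (LK LD1_c22 LD2_c48 LD3_c34) (LK LD1_c13 LD2_c28 LD3_c43) Lrfl Lrfl
theorem f606847 : Led Lsl_ft (LP (LK LD1_c29 LD2_c53 LD3_c51)) = (LP (LK LD1_c22 LD2_c48 LD3_c34)) :=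
  Lgr Lrot4 (Lpe (f59780 IH) (Lpr_ff (f606845 IH) (Lpe (f519186 IH) (Lpn (LP (LK LD1_c22 LD2_c48 LD3_c34))))))
theorem f515394 : Led Lsl_et (LP (LK LD1_c22 LD2_c48 LD3_c34)) = (LP (LK LD1_c13 LD2_c28 LD3_c42)) :=
  Lre_e IH (LK LD1_c22 LD2_c48 LD3_c34) (LK LD1_c13 LD2_c28 LD3_c42) Lrfl Lrfl
theorem f515396 : Led Lsl_ft (LP (LK LD1_c13 LD2_c33 LD3_c19)) = (LP (LK LD1_c22 LD2_c56 LD3_c0)) :=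
  Lre_f IH (LK LD1_c13 LD2_c33 LD3_c19) (LK LD1_c22 LD2_c56 LD3_c0) Lrfl Lrfl
theorem f606855 : Led Lsl_ef (LP (LK LD1_c29 LD2_c53 LD3_c51)) = (LP (LK LD1_c22 LD2_c56 LD3_c0)) :=
  Lgr Lrot21 (Lpr_ft (f606847 IH) (Lpr_et (f515394 IH) (Lpr_ft (K33.f515389 IH) (Lpr_et (K43.f515395 IH) (Lpr_ft (f515396 IH) (Lpn (LP (LK LD1_c22 LD2_c56 LD3_c0))))))))
theorem f606860 : Led Lsl_et (LP (LK LD1_c29 LD2_c53 LD3_c51)) = (LP (LK LD1_c22 LD2_c56 LD3_c0)) :=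
  Lgr Lrot87 (Lpr_ef (f606855 IH) (Lpn (LP (LK LD1_c22 LD2_c56 LD3_c0))))
theorem f36825 : Led Lsl_bt (LP (LK LD1_c21 LD2_c11 LD3_c55)) = (LP (LK LD1_c12 LD2_c5 LD3_c61)) :=
  Lre_b IH (LK LD1_c21 LD2_c11 LD3_c55) (LK LD1_c12 LD2_c5 LD3_c61) Lrfl Lrfl
theorem f36826 : Led Lsl_ct (LP (LK LD1_c29 LD2_c53 LD3_c51)) = (LP (LK LD1_c21 LD2_c11 LD3_c55)) :=
  Lre_c IH (LK LD1_c29 LD2_c53 LD3_c51) (LK LD1_c21 LD2_c11 LD3_c55) Lrfl Lrfl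
theorem f445311 : Led Lsl_bt (LP (LK LD1_c16 LD2_c33 LD3_c50)) = (LP (LK LD1_c26 LD2_c30 LD3_c38)) :=
  Lre_b IH (LK LD1_c16 LD2_c33 LD3_c50) (LK LD1_c26 LD2_c30 LD3_c38) Lrfl Lrfl
theorem f16494 : Led Lsl_ct (LP (LK LD1_c26 LD2_c30 LD3_c38)) = (LP (LK LD1_c32 LD2_c10 LD3_c0)) :=
  Lre_c IH (LK LD1_c26 LD2_c30 LD3_c38) (LK LD1_c32 LD2_c10 LD3_c0) Lrfl Lrfl
theorem f445456 : Led Lsl_bf (LP (LK LD1_c29 LD2_c53 LD3_c51)) = (LP (LK LD1_c32 LD2_c10 LD3_c0)) :=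
  Lgr Lrot90 (Lpr_ct (f36826 IH) (Lpr_bt (f36825 IH) (Lpr_ct (K43.f445303 IH) (Lpr_bt (f445311 IH) (Lpr_ct (f16494 IH) (Lpn (LP (LK LD1_c32 LD2_c10 LD3_c0))))))))
theorem f518802 : Led Lsl_bt (LP (LK LD1_c22 LD2_c56 LD3_c0)) = (LP (LK LD1_c30 LD2_c48 LD3_c15)) :=
  Lre_b IH (LK LD1_c22 LD2_c56 LD3_c0) (LK LD1_c30 LD2_c48 LD3_c15) Lrfl Lrfl
theorem f606862 : Led Lsl_ef (LP (LK LD1_c32 LD2_c10 LD3_c0)) = (LP (LK LD1_c30 LD2_c48 LD3_c15)) :=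
  Lgr Lrot29 (Lpe (f445456 IH) (Lpr_et (f606860 IH) (Lpr_bt (f518802 IH) (Lpn (LP (LK LD1_c30 LD2_c48 LD3_c15))))))
theorem f16534 : Led Lsl_ct (LP (LK LD1_c32 LD2_c10 LD3_c0)) = (LP (LK LD1_c26 LD2_c30 LD3_c38)) :=
  Lre_c IH (LK LD1_c32 LD2_c10 LD3_c0) (LK LD1_c26 LD2_c30 LD3_c38) Lrfl Lrfl
theorem f606864 : Led Lsl_et (LP (LK LD1_c26 LD2_c30 LD3_c38)) = (LP (LK LD1_c32 LD2_c10 LD3_c1)) :=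
  Lre_e IH (LK LD1_c26 LD2_c30 LD3_c38) (LK LD1_c32 LD2_c10 LD3_c1) Lrfl Lrfl
theorem f606865 : Led Lsl_ct (LP (LK LD1_c32 LD2_c10 LD3_c1)) = (LP (LK LD1_c30 LD2_c48 LD3_c15)) :=
  Lgr Lrot15 (Lpe (f606864 IH) (Lpe (f16534 IH) (Lpr_ef (f606862 IH) (Lpn (LP (LK LD1_c30 LD2_c48 LD3_c15))))))
theorem f606871 : Led Lsl_cf (LP (LK LD1_c32 LD2_c10 LD3_c1)) = (LP (LK LD1_c30 LD2_c48 LD3_c15)) :=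
  Lgr Lrot11 (Lpr_ct (f606865 IH) (Lpn (LP (LK LD1_c30 LD2_c48 LD3_c15))))
theorem f445454 : Led Lsl_bt (LP (LK LD1_c32 LD2_c10 LD3_c1)) = (LP (LK LD1_c26 LD2_c30 LD3_c40)) :=
  Lre_b IH (LK LD1_c32 LD2_c10 LD3_c1) (LK LD1_c26 LD2_c30 LD3_c40) Lrfl Lrfl
theorem f59749 : Led Lsl_et (LP (LK LD1_c12 LD2_c5 LD3_c61)) = (LP (LK LD1_c21 LD2_c11 LD3_c56)) :=
  Lre_e IH (LK LD1_c12 LD2_c5 LD3_c61) (LK LD1_c21 LD2_c11 LD3_c56) Lrfl Lrfl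
theorem f16495 : Led Lsl_et (LP (LK LD1_c26 LD2_c30 LD3_c40)) = (LP (LK LD1_c16 LD2_c33 LD3_c50)) :=
  Lre_e IH (LK LD1_c26 LD2_c30 LD3_c40) (LK LD1_c16 LD2_c33 LD3_c50) Lrfl Lrfl
theorem f445305 : Led Lsl_ct (LP (LK LD1_c21 LD2_c11 LD3_c56)) = (LP (LK LD1_c26 LD2_c30 LD3_c40)) :=
  Lgr Lrot15 (Lpe (f59749 IH) (Lpr_cf (K40.f445299 IH) (Lpe (f16495 IH) (Lpn (LP (LK LD1_c26 LD2_c30 LD3_c40))))))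
theorem f445452 : Led Lsl_cf (LP (LK LD1_c21 LD2_c11 LD3_c56)) = (LP (LK LD1_c26 LD2_c30 LD3_c40)) :=
  Lgr Lrot11 (Lpr_ct (f445305 IH) (Lpn (LP (LK LD1_c26 LD2_c30 LD3_c40))))
theorem f518795 : Led Lsl_ct (LP (LK LD1_c13 LD2_c33 LD3_c23)) = (LP (LK LD1_c22 LD2_c56 LD3_c0)) :=
  Lre_c IH (LK LD1_c13 LD2_c33 LD3_c23) (LK LD1_c22 LD2_c56 LD3_c0) Lrfl Lrfl
theorem f606882 : Led Lsl_bt (LP (LK LD1_c21 LD2_c11 LD3_c56)) = (LP (LK LD1_c13 LD2_c33 LD3_c23)) :=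
  Lgr Lrot128 (Lpr_cf (f445452 IH) (Lpe (f445454 IH) (Lpr_cf (f606871 IH) (Lpe (f518802 IH) (Lpe (f518795 IH) (Lpn (LP (LK LD1_c13 LD2_c33 LD3_c23))))))))
theorem f518796 : Led Lsl_ft (LP (LK LD1_c13 LD2_c33 LD3_c23)) = (LP (LK LD1_c7 LD2_c9 LD3_c23)) :=
  Lre_f IH (LK LD1_c13 LD2_c33 LD3_c23) (LK LD1_c7 LD2_c9 LD3_c23) Lrfl Lrfl
theorem f518813 : Led Lsl_bt (LP (LK LD1_c7 LD2_c9 LD3_c23)) = (LP (LK LD1_c13 LD2_c33 LD3_c9)) :=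
  Lre_b IH (LK LD1_c7 LD2_c9 LD3_c23) (LK LD1_c13 LD2_c33 LD3_c9) Lrfl Lrfl
theorem f606886 : Led Lsl_ff (LP (LK LD1_c21 LD2_c11 LD3_c56)) = (LP (LK LD1_c13 LD2_c33 LD3_c9)) :=
  Lgr Lrot25 (Lpr_bt (f606882 IH) (Lpr_ft (f518796 IH) (Lpr_bt (f518813 IH) (Lpn (LP (LK LD1_c13 LD2_c33 LD3_c9))))))
theorem f59748 : Led Lsl_et (LP (LK LD1_c21 LD2_c13 LD3_c1)) = (LP (LK LD1_c12 LD2_c6 LD3_c54)) :=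
  Lre_e IH (LK LD1_c21 LD2_c13 LD3_c1) (LK LD1_c12 LD2_c6 LD3_c54) Lrfl Lrfl
theorem f59750 : Led Lsl_df (LP (LK LD1_c21 LD2_c13 LD3_c1)) = (LP (LK LD1_c21 LD2_c11 LD3_c56)) :=
  Lgr Lrot70 (Lpr_et (f59748 IH) (Lpr_dt (f59747 IH) (Lpr_et (K46.f59746 IH) (Lpr_dt (K40.f59738 IH) (Lpr_et (f59749 IH) (Lpn (LP (LK LD1_c21 LD2_c11 LD3_c56))))))))
theorem f560721 : Led Lsl_dt (LP (LK LD1_c22 LD2_c55 LD3_c47)) = (LP (LK LD1_c13 LD2_c33 LD3_c9)) :=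
  Lre_d IH (LK LD1_c22 LD2_c55 LD3_c47) (LK LD1_c13 LD2_c33 LD3_c9) Lrfl Lrfl
theorem f606888 : Led Lsl_ft (LP (LK LD1_c21 LD2_c13 LD3_c1)) = (LP (LK LD1_c22 LD2_c55 LD3_c47)) :=
  Lgr Lrot54 (Lpr_df (f59750 IH) (Lpr_ff (f606886 IH) (Lpe (f560721 IH) (Lpn (LP (LK LD1_c22 LD2_c55 LD3_c47))))))
theorem f518889 : Led Lsl_et (LP (LK LD1_c22 LD2_c55 LD3_c47)) = (LP (LK LD1_c13 LD2_c33 LD3_c11)) :=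
  Lre_e IH (LK LD1_c22 LD2_c55 LD3_c47) (LK LD1_c13 LD2_c33 LD3_c11) Lrfl Lrfl
theorem f518762 : Led Lsl_af (LP (LK LD1_c7 LD2_c18 LD3_c31)) = (LP (LK LD1_c7 LD2_c9 LD3_c25)) :=
  Lgr Lrot68 (Lpe (K30.f481626 IH) (Lpr_at (K43.f518760 IH) (Lpr_ct (K33.f92494 IH) (Lpn (LP (LK LD1_c7 LD2_c9 LD3_c25))))))
theorem f518880 : Led Lsl_ft (LP (LK LD1_c7 LD2_c18 LD3_c20)) = (LP (LK LD1_c7 LD2_c9 LD3_c25)) :=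
  Lgr Lrot2 (Lpr_gt (K29.f476406 IH) (Lpe (K28.f4416 IH) (Lpr_af (f518762 IH) (Lpn (LP (LK LD1_c7 LD2_c9 LD3_c25))))))
theorem f476408 : Led Lsl_bt (LP (LK LD1_c13 LD2_c49 LD3_c26)) = (LP (LK LD1_c7 LD2_c18 LD3_c20)) :=
  Lre_b IH (LK LD1_c13 LD2_c49 LD3_c26) (LK LD1_c7 LD2_c18 LD3_c20) Lrfl Lrfl
theorem f517363 : Led Lsl_bt (LP (LK LD1_c7 LD2_c9 LD3_c25)) = (LP (LK LD1_c13 LD2_c33 LD3_c11)) :=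
  Lre_b IH (LK LD1_c7 LD2_c9 LD3_c25) (LK LD1_c13 LD2_c33 LD3_c11) Lrfl Lrfl
theorem f518882 : Led Lsl_ff (LP (LK LD1_c13 LD2_c49 LD3_c26)) = (LP (LK LD1_c13 LD2_c33 LD3_c11)) :=
  Lgr Lrot25 (Lpr_bt (f476408 IH) (Lpr_ft (f518880 IH) (Lpr_bt (f517363 IH) (Lpn (LP (LK LD1_c13 LD2_c33 LD3_c11))))))
theorem f606980 : Led Lsl_et (LP (LK LD1_c13 LD2_c49 LD3_c26)) = (LP (LK LD1_c16 LD2_c23 LD3_c48)) :=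
  Lgr Lrot69 (Lpr_ff (f518882 IH) (Lpe (f518889 IH) (Lpe (f606888 IH) (Lpe (f59770 IH) (Lpr_ff (f606974 IH) (Lpn (LP (LK LD1_c16 LD2_c23 LD3_c48))))))))
theorem f606986 : Led Lsl_ef (LP (LK LD1_c13 LD2_c49 LD3_c26)) = (LP (LK LD1_c16 LD2_c23 LD3_c48)) :=
  Lgr Lrot88 (Lpr_et (f606980 IH) (Lpn (LP (LK LD1_c16 LD2_c23 LD3_c48))))
theorem f80841 : Led Lsl_dt (LP (LK LD1_c16 LD2_c23 LD3_c47)) = (LP (LK LD1_c8 LD2_c45 LD3_c35)) :=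
  Lre_d IH (LK LD1_c16 LD2_c23 LD3_c47) (LK LD1_c8 LD2_c45 LD3_c35) Lrfl Lrfl
theorem f606938 : Led Lsl_at (LP (LK LD1_c12 LD2_c6 LD3_c54)) = (LP (LK LD1_c16 LD2_c23 LD3_c47)) :=
  Lgr Lrot51 (Lpe (K46.f59730 IH) (Lpr_af (K46.f606936 IH) (Lpe (f80841 IH) (Lpn (LP (LK LD1_c16 LD2_c23 LD3_c47))))))
theorem f80835 : Led Lsl_dt (LP (LK LD1_c8 LD2_c45 LD3_c35)) = (LP (LK LD1_c16 LD2_c23 LD3_c47)) :=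
  Lre_d IH (LK LD1_c8 LD2_c45 LD3_c35) (LK LD1_c16 LD2_c23 LD3_c47) Lrfl Lrfl
theorem f606946 : Led Lsl_ff (LP (LK LD1_c12 LD2_c6 LD3_c57)) = (LP (LK LD1_c16 LD2_c23 LD3_c47)) :=
  Lgr Lrot19 (Lpr_dt (K46.f81236 IH) (Lpr_ft (K46.f606940 IH) (Lpr_dt (f80835 IH) (Lpn (LP (LK LD1_c16 LD2_c23 LD3_c47))))))
theorem f606976 : Led Lsl_at (LP (LK LD1_c12 LD2_c6 LD3_c57)) = (LP (LK LD1_c16 LD2_c23 LD3_c48)) :=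
  Lgr Lrot66 (Lpr_ff (f606946 IH) (Lpe (f606938 IH) (Lpr_ff (f606974 IH) (Lpn (LP (LK LD1_c16 LD2_c23 LD3_c48))))))
theorem f606988 : Led Lsl_et (LP (LK LD1_c21 LD2_c13 LD3_c5)) = (LP (LK LD1_c12 LD2_c6 LD3_c57)) :=
  Lre_e IH (LK LD1_c21 LD2_c13 LD3_c5) (LK LD1_c12 LD2_c6 LD3_c57) Lrfl Lrfl
theorem f606989 : Led Lsl_at (LP (LK LD1_c13 LD2_c49 LD3_c26)) = (LP (LK LD1_c21 LD2_c13 LD3_c5)) :=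
  Lgr Lrot80 (Lpr_ef (f606986 IH) (Lpe (f606976 IH) (Lpe (f606988 IH) (Lpn (LP (LK LD1_c21 LD2_c13 LD3_c5))))))
theorem f482584 : Led Lsl_et (LP (LK LD1_c7 LD2_c9 LD3_c19)) = (LP (LK LD1_c3 LD2_c34 LD3_c5)) :=
  Lre_e IH (LK LD1_c7 LD2_c9 LD3_c19) (LK LD1_c3 LD2_c34 LD3_c5) Lrfl Lrfl
theorem f482583 : Led Lsl_dt (LP (LK LD1_c7 LD2_c9 LD3_c19)) = (LP (LK LD1_c13 LD2_c33 LD3_c11)) :=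
  Lre_d IH (LK LD1_c7 LD2_c9 LD3_c19) (LK LD1_c13 LD2_c33 LD3_c11) Lrfl Lrfl
theorem f108286 : Led Lsl_dt (LP (LK LD1_c7 LD2_c5 LD3_c36)) = (LP (LK LD1_c13 LD2_c26 LD3_c38)) :=
  Lre_d IH (LK LD1_c7 LD2_c5 LD3_c36) (LK LD1_c13 LD2_c26 LD3_c38) Lrfl Lrfl
theorem f560717 : Led Lsl_gt (LP (LK LD1_c13 LD2_c33 LD3_c11)) = (LP (LK LD1_c13 LD2_c26 LD3_c38)) :=
  Lgr Lrot112 (Lpe (f482583 IH) (Lpr_et (f482584 IH) (Lpr_gf (K40.f560706 IH) (Lpe (K40.f239196 IH) (Lpr_dt (K37.f182403 IH) (Lpr_gf (K37.f239190 IH) (Lpe (K36.f540313 IH) (Lpr_gf (K24.f108283 IH) (Lpe (K24.f108285 IH) (Lpr_dt (f108286 IH) (Lpn (LP (LK LD1_c13 LD2_c26 LD3_c38)))))))))))))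
theorem f607003 : Led Lsl_gt (LP (LK LD1_c13 LD2_c26 LD3_c38)) = (LP (LK LD1_c21 LD2_c13 LD3_c5)) :=
  Lgr Lrot46 (Lpe (f560717 IH) (Lpe (f518882 IH) (Lpr_at (f606989 IH) (Lpn (LP (LK LD1_c21 LD2_c13 LD3_c5))))))
theorem f81238 : Led Lsl_et (LP (LK LD1_c12 LD2_c6 LD3_c57)) = (LP (LK LD1_c21 LD2_c13 LD3_c5)) :=
  Lre_e IH (LK LD1_c12 LD2_c6 LD3_c57) (LK LD1_c21 LD2_c13 LD3_c5) Lrfl Lrfl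
theorem f34492 : Led Lsl_et (LP (LK LD1_c4 LD2_c2 LD3_c24)) = (LP (LK LD1_c1 LD2_c58 LD3_c9)) :=
  Lre_e IH (LK LD1_c4 LD2_c2 LD3_c24) (LK LD1_c1 LD2_c58 LD3_c9) Lrfl Lrfl
theorem f607005 : Led Lsl_ef (LP (LK LD1_c13 LD2_c26 LD3_c38)) = (LP (LK LD1_c8 LD2_c3 LD3_c36)) :=
  Lgr Lrot114 (Lpr_gt (f607003 IH) (Lpe (f81238 IH) (Lpr_dt (K46.f81236 IH) (Lpr_gt (K46.f70201 IH) (Lpr_df (K32.f81206 IH) (Lpr_et (f34492 IH) (Lpr_gt (K13.f34584 IH) (Lpr_dt (K13.f193409 IH) (Lpr_gt (K20.f262416 IH) (Lpr_df (K13.f242574 IH) (Lpn (LP (LK LD1_c8 LD2_c3 LD3_c36)))))))))))))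
theorem f116232 : Led Lsl_dt (LP (LK LD1_c7 LD2_c12 LD3_c1)) = (LP (LK LD1_c13 LD2_c38 LD3_c10)) :=
  Lre_d IH (LK LD1_c7 LD2_c12 LD3_c1) (LK LD1_c13 LD2_c38 LD3_c10) Lrfl Lrfl
theorem f439240 : Led Lsl_dt (LP (LK LD1_c13 LD2_c26 LD3_c38)) = (LP (LK LD1_c7 LD2_c5 LD3_c36)) :=
  Lre_d IH (LK LD1_c13 LD2_c26 LD3_c38) (LK LD1_c7 LD2_c5 LD3_c36) Lrfl Lrfl
theorem f439343 : Led Lsl_at (LP (LK LD1_c13 LD2_c38 LD3_c10)) = (LP (LK LD1_c13 LD2_c26 LD3_c38)) :=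
  Lgr Lrot51 (Lpe (f116232 IH) (Lpr_af (K24.f439339 IH) (Lpe (f439240 IH) (Lpn (LP (LK LD1_c13 LD2_c26 LD3_c38))))))
theorem f439620 : Led Lsl_af (LP (LK LD1_c13 LD2_c38 LD3_c10)) = (LP (LK LD1_c13 LD2_c26 LD3_c38)) :=
  Lgr Lrot0 (Lpr_at (f439343 IH) (Lpn (LP (LK LD1_c13 LD2_c26 LD3_c38))))
theorem f342058 : Led Lsl_ft (LP (LK LD1_c10 LD2_c7 LD3_c34)) = (LP (LK LD1_c9 LD2_c55 LD3_c23)) :=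
  Lgr Lrot54 (Lpe (K13.f240247 IH) (Lpr_ff (K44.f342052 IH) (Lpe (K13.f169629 IH) (Lpn (LP (LK LD1_c9 LD2_c55 LD3_c23))))))
theorem f342062 : Led Lsl_ff (LP (LK LD1_c8 LD2_c3 LD3_c14)) = (LP (LK LD1_c8 LD2_c3 LD3_c35)) :=
  Lgr Lrot23 (Lpr_ct (K13.f242337 IH) (Lpr_ft (f342058 IH) (Lpe (K13.f242797 IH) (Lpn (LP (LK LD1_c8 LD2_c3 LD3_c35))))))
theorem f315206 : Led Lsl_at (LP (LK LD1_c8 LD2_c3 LD3_c15)) = (LP (LK LD1_c8 LD2_c3 LD3_c35)) :=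
  Lgr Lrot26 (Lpr_ff (K41.f315204 IH) (Lpr_gt (K13.f197248 IH) (Lpr_gt (K13.f80332 IH) (Lpn (LP (LK LD1_c8 LD2_c3 LD3_c35))))))
theorem f342068 : Led Lsl_at (LP (LK LD1_c8 LD2_c3 LD3_c14)) = (LP (LK LD1_c8 LD2_c3 LD3_c36)) :=
  Lgr Lrot66 (Lpr_ff (f342062 IH) (Lpe (f315206 IH) (Lpr_ff (K41.f315204 IH) (Lpn (LP (LK LD1_c8 LD2_c3 LD3_c36))))))
theorem f607007 : Led Lsl_et (LP (LK LD1_c13 LD2_c38 LD3_c10)) = (LP (LK LD1_c8 LD2_c3 LD3_c14)) :=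
  Lgr Lrot123 (Lpr_af (f439620 IH) (Lpr_ef (f607005 IH) (Lpe (f342068 IH) (Lpn (LP (LK LD1_c8 LD2_c3 LD3_c14))))))
theorem f193882 : Led Lsl_dt (LP (LK LD1_c8 LD2_c4 LD3_c58)) = (LP (LK LD1_c15 LD2_c13 LD3_c10)) :=
  Lre_d IH (LK LD1_c8 LD2_c4 LD3_c58) (LK LD1_c15 LD2_c13 LD3_c10) Lrfl Lrfl
theorem f193851 : Led Lsl_gt (LP (LK LD1_c25 LD2_c2 LD3_c8)) = (LP (LK LD1_c15 LD2_c13 LD3_c10)) :=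
  Lre_g IH (LK LD1_c25 LD2_c2 LD3_c8) (LK LD1_c15 LD2_c13 LD3_c10) Lrfl Lrfl
theorem f608786 : Led Lsl_dt (LP (LK LD1_c23 LD2_c18 LD3_c2)) = (LP (LK LD1_c25 LD2_c2 LD3_c8)) :=
  Lgr Lrot171 (Lpe (f608768 IH) (Lpe (f517495 IH) (Lpr_dt (f456437 IH) (Lpr_gf (K46.f608776 IH) (Lpe (f116226 IH) (Lpr_et (f607007 IH) (Lpe (K13.f242522 IH) (Lpe (K18.f193878 IH) (Lpr_dt (f193882 IH) (Lpe (f193851 IH) (Lpn (LP (LK LD1_c25 LD2_c2 LD3_c8)))))))))))))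
theorem f297194 : Led Lsl_at (LP (LK LD1_c15 LD2_c10 LD3_c30)) = (LP (LK LD1_c15 LD2_c13 LD3_c10)) :=
  Lgr Lrot100 (Lpr_af (K18.f297189 IH) (Lpn (LP (LK LD1_c15 LD2_c13 LD3_c10))))
theorem f240020 : Led Lsl_ft (LP (LK LD1_c24 LD2_c59 LD3_c51)) = (LP (LK LD1_c15 LD2_c10 LD3_c30)) :=
  Lre_f IH (LK LD1_c24 LD2_c59 LD3_c51) (LK LD1_c15 LD2_c10 LD3_c30) Lrfl Lrfl
theorem f407012 : Led Lsl_gt (LP (LK LD1_c24 LD2_c59 LD3_c51)) = (LP (LK LD1_c25 LD2_c2 LD3_c8)) :=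
  Lgr Lrot5 (Lpr_ft (f240020 IH) (Lpr_at (f297194 IH) (Lpe (f193851 IH) (Lpn (LP (LK LD1_c25 LD2_c2 LD3_c8))))))
theorem f297171 : Led Lsl_af (LP (LK LD1_c15 LD2_c13 LD3_c7)) = (LP (LK LD1_c15 LD2_c10 LD3_c21)) :=
  Lgr Lrot0 (Lpr_at (K18.f297164 IH) (Lpn (LP (LK LD1_c15 LD2_c10 LD3_c21))))
theorem f81535 : Led Lsl_gt (LP (LK LD1_c8 LD2_c3 LD3_c37)) = (LP (LK LD1_c15 LD2_c10 LD3_c19)) :=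
  Lre_g IH (LK LD1_c8 LD2_c3 LD3_c37) (LK LD1_c15 LD2_c10 LD3_c19) Lrfl Lrfl
theorem f407020 : Led Lsl_gf (LP (LK LD1_c15 LD2_c13 LD3_c7)) = (LP (LK LD1_c15 LD2_c10 LD3_c19)) :=
  Lgr Lrot76 (Lpr_af (f297171 IH) (Lpe (K18.f197280 IH) (Lpr_gt (f81535 IH) (Lpn (LP (LK LD1_c15 LD2_c10 LD3_c19))))))
theorem f81542 : Led Lsl_et (LP (LK LD1_c24 LD2_c59 LD3_c37)) = (LP (LK LD1_c15 LD2_c10 LD3_c19)) :=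
  Lre_e IH (LK LD1_c24 LD2_c59 LD3_c37) (LK LD1_c15 LD2_c10 LD3_c19) Lrfl Lrfl
theorem f197253 : Led Lsl_dt (LP (LK LD1_c8 LD2_c3 LD3_c37)) = (LP (LK LD1_c4 LD2_c56 LD3_c56)) :=
  Lgr Lrot77 (Lpe (K18.f81534 IH) (Lpe (K13.f80331 IH) (Lpr_ef (K12.f197246 IH) (Lpe (K13.f174988 IH) (Lpe (K18.f197252 IH) (Lpn (LP (LK LD1_c4 LD2_c56 LD3_c56))))))))
theorem f197285 : Led Lsl_gt (LP (LK LD1_c9 LD2_c45 LD3_c2)) = (LP (LK LD1_c4 LD2_c56 LD3_c56)) :=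
  Lre_g IH (LK LD1_c9 LD2_c45 LD3_c2) (LK LD1_c4 LD2_c56 LD3_c56) Lrfl Lrfl
theorem f197286 : Led Lsl_dt (LP (LK LD1_c17 LD2_c54 LD3_c35)) = (LP (LK LD1_c9 LD2_c45 LD3_c2)) :=
  Lre_d IH (LK LD1_c17 LD2_c54 LD3_c35) (LK LD1_c9 LD2_c45 LD3_c2) Lrfl Lrfl
theorem f193421 : Led Lsl_gt (LP (LK LD1_c8 LD2_c5 LD3_c16)) = (LP (LK LD1_c15 LD2_c13 LD3_c45)) :=
  Lre_g IH (LK LD1_c8 LD2_c5 LD3_c16) (LK LD1_c15 LD2_c13 LD3_c45) Lrfl Lrfl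
theorem f418122 : Led Lsl_et (LP (LK LD1_c17 LD2_c54 LD3_c35)) = (LP (LK LD1_c15 LD2_c13 LD3_c45)) :=
  Lgr Lrot122 (Lpr_dt (f197286 IH) (Lpr_gt (f197285 IH) (Lpe (f197253 IH) (Lpr_et (K18.f197272 IH) (Lpr_gt (K13.f80332 IH) (Lpr_dt (K13.f240643 IH) (Lpe (K13.f240586 IH) (Lpe (K13.f193409 IH) (Lpr_et (K16.f193420 IH) (Lpr_gt (f193421 IH) (Lpn (LP (LK LD1_c15 LD2_c13 LD3_c45)))))))))))))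
theorem f297158 : Led Lsl_gt (LP (LK LD1_c8 LD2_c43 LD3_c33)) = (LP (LK LD1_c9 LD2_c45 LD3_c2)) :=
  Lgr Lrot5 (Lpr_ft (K18.f225040 IH) (Lpr_at (K18.f297148 IH) (Lpe (f197285 IH) (Lpn (LP (LK LD1_c9 LD2_c45 LD3_c2))))))
theorem f272108 : Led Lsl_at (LP (LK LD1_c15 LD2_c13 LD3_c47)) = (LP (LK LD1_c15 LD2_c10 LD3_c41)) :=
  Lgr Lrot100 (Lpr_af (K16.f272104 IH) (Lpn (LP (LK LD1_c15 LD2_c10 LD3_c41))))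
theorem f411121 : Led Lsl_gt (LP (LK LD1_c15 LD2_c13 LD3_c45)) = (LP (LK LD1_c15 LD2_c10 LD3_c41)) :=
  Lgr Lrot46 (Lpe (f193421 IH) (Lpr_ft (K16.f272072 IH) (Lpr_at (f272108 IH) (Lpn (LP (LK LD1_c15 LD2_c10 LD3_c41))))))
theorem f272123 : Led Lsl_af (LP (LK LD1_c12 LD2_c5 LD3_c24)) = (LP (LK LD1_c8 LD2_c51 LD3_c54)) :=
  Lgr Lrot0 (Lpr_at (K16.f272121 IH) (Lpn (LP (LK LD1_c8 LD2_c51 LD3_c54))))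
theorem f227893 : Led Lsl_gt (LP (LK LD1_c21 LD2_c11 LD3_c4)) = (LP (LK LD1_c12 LD2_c5 LD3_c24)) :=
  Lre_g IH (LK LD1_c21 LD2_c11 LD3_c4) (LK LD1_c12 LD2_c5 LD3_c24) Lrfl Lrfl
theorem f411117 : Led Lsl_gf (LP (LK LD1_c21 LD2_c11 LD3_c4)) = (LP (LK LD1_c16 LD2_c34 LD3_c32)) :=
  Lgr Lrot47 (Lpr_gt (f227893 IH) (Lpr_af (f272123 IH) (Lpe (K37.f242878 IH) (Lpn (LP (LK LD1_c16 LD2_c34 LD3_c32))))))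
theorem f418126 : Led Lsl_dt (LP (LK LD1_c24 LD2_c59 LD3_c37)) = (LP (LK LD1_c21 LD2_c11 LD3_c4)) :=
  Lgr Lrot37 (Lpr_et (f81542 IH) (Lpe (f407020 IH) (Lpr_dt (K18.f225041 IH) (Lpr_gt (f297158 IH) (Lpe (f197286 IH) (Lpr_et (f418122 IH) (Lpr_gt (f411121 IH) (Lpe (K16.f272054 IH) (Lpe (K37.f242880 IH) (Lpe (f411117 IH) (Lpn (LP (LK LD1_c21 LD2_c11 LD3_c4)))))))))))))
theorem f239767 : Led Lsl_gt (LP (LK LD1_c8 LD2_c3 LD3_c49)) = (LP (LK LD1_c15 LD2_c10 LD3_c44)) :=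
  Lre_g IH (LK LD1_c8 LD2_c3 LD3_c49) (LK LD1_c15 LD2_c10 LD3_c44) Lrfl Lrfl
theorem f272118 : Led Lsl_gt (LP (LK LD1_c15 LD2_c10 LD3_c44)) = (LP (LK LD1_c15 LD2_c13 LD3_c51)) :=
  Lgr Lrot46 (Lpe (f239767 IH) (Lpr_ft (K16.f239779 IH) (Lpr_at (K16.f272110 IH) (Lpn (LP (LK LD1_c15 LD2_c13 LD3_c51))))))
theorem f608792 : Led Lsl_et (LP (LK LD1_c23 LD2_c18 LD3_c2)) = (LP (LK LD1_c15 LD2_c10 LD3_c44)) :=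
  Lgr Lrot121 (Lpr_dt (f608786 IH) (Lpe (f407012 IH) (Lpe (K18.f240014 IH) (Lpr_et (K18.f287355 IH) (Lpr_gf (f407020 IH) (Lpe (f81542 IH) (Lpr_dt (f418126 IH) (Lpr_gf (f411117 IH) (Lpr_df (K37.f242880 IH) (Lpe (f272118 IH) (Lpn (LP (LK LD1_c15 LD2_c10 LD3_c44)))))))))))))
theorem f608794 : Led Lsl_ef (LP (LK LD1_c23 LD2_c18 LD3_c2)) = (LP (LK LD1_c15 LD2_c10 LD3_c44)) :=
  Lgr Lrot88 (Lpr_et (f608792 IH) (Lpn (LP (LK LD1_c15 LD2_c10 LD3_c44))))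
theorem f239768 : Led Lsl_dt (LP (LK LD1_c15 LD2_c10 LD3_c44)) = (LP (LK LD1_c24 LD2_c59 LD3_c61)) :=
  Lre_d IH (LK LD1_c15 LD2_c10 LD3_c44) (LK LD1_c24 LD2_c59 LD3_c61) Lrfl Lrfl
theorem f445267 : Led Lsl_df (LP (LK LD1_c21 LD2_c13 LD3_c2)) = (LP (LK LD1_c16 LD2_c32 LD3_c56)) :=
  Lgr Lrot155 (Lpr_gt (K46.f59752 IH) (Lpe (K40.f445214 IH) (Lpr_gt (K37.f241149 IH) (Lpe (K37.f408082 IH) (Lpr_dt (K40.f70556 IH) (Lpe (K46.f408093 IH) (Lpr_gf (K46.f445262 IH) (Lpe (K37.f444950 IH) (Lpe (K46.f444875 IH) (Lpn (LP (LK LD1_c16 LD2_c32 LD3_c56))))))))))))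
theorem f198448 : Led Lsl_gt (LP (LK LD1_c16 LD2_c34 LD3_c38)) = (LP (LK LD1_c8 LD2_c51 LD3_c59)) :=
  Lre_g IH (LK LD1_c16 LD2_c34 LD3_c38) (LK LD1_c8 LD2_c51 LD3_c59) Lrfl Lrfl
theorem f445558 : Led Lsl_et (LP (LK LD1_c16 LD2_c32 LD3_c56)) = (LP (LK LD1_c16 LD2_c34 LD3_c38)) :=
  Lgr Lrot185 (Lpe (f445267 IH) (Lpr_gf (K46.f445538 IH) (Lpr_df (K40.f445345 IH) (Lpe (K40.f37355 IH) (Lpe (K38.f59767 IH) (Lpr_dt (K1.f36888 IH) (Lpr_gf (K13.f198438 IH) (Lpe (K13.f101302 IH) (Lpr_et (K16.f198442 IH) (Lpe (f198448 IH) (Lpn (LP (LK LD1_c16 LD2_c34 LD3_c38)))))))))))))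
theorem f272276 : Led Lsl_ct (LP (LK LD1_c18 LD2_c2 LD3_c36)) = (LP (LK LD1_c9 LD2_c51 LD3_c25)) :=
  Lre_c IH (LK LD1_c18 LD2_c2 LD3_c36) (LK LD1_c9 LD2_c51 LD3_c25) Lrfl Lrfl
theorem f272274 : Led Lsl_ct (LP (LK LD1_c8 LD2_c51 LD3_c59)) = (LP (LK LD1_c16 LD2_c34 LD3_c37)) :=
  Lre_c IH (LK LD1_c8 LD2_c51 LD3_c59) (LK LD1_c16 LD2_c34 LD3_c37) Lrfl Lrfl
theorem f272277 : Led Lsl_at (LP (LK LD1_c9 LD2_c51 LD3_c25)) = (LP (LK LD1_c8 LD2_c51 LD3_c59)) :=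
  Lgr Lrot107 (Lpe (f272276 IH) (Lpr_af (K16.f272269 IH) (Lpe (f272274 IH) (Lpn (LP (LK LD1_c8 LD2_c51 LD3_c59))))))
theorem f411077 : Led Lsl_gt (LP (LK LD1_c18 LD2_c2 LD3_c38)) = (LP (LK LD1_c16 LD2_c34 LD3_c38)) :=
  Lgr Lrot5 (Lpr_ft (K16.f272191 IH) (Lpr_at (f272277 IH) (Lpe (f198448 IH) (Lpn (LP (LK LD1_c16 LD2_c34 LD3_c38))))))
theorem f242888 : Led Lsl_dt (LP (LK LD1_c16 LD2_c34 LD3_c32)) = (LP (LK LD1_c15 LD2_c13 LD3_c51)) :=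
  Lgr Lrot42 (Lpr_df (K37.f242880 IH) (Lpn (LP (LK LD1_c15 LD2_c13 LD3_c51))))
theorem f272120 : Led Lsl_dt (LP (LK LD1_c24 LD2_c59 LD3_c61)) = (LP (LK LD1_c15 LD2_c10 LD3_c44)) :=
  Lre_d IH (LK LD1_c24 LD2_c59 LD3_c61) (LK LD1_c15 LD2_c10 LD3_c44) Lrfl Lrfl
theorem f445566 : Led Lsl_gt (LP (LK LD1_c21 LD2_c11 LD3_c56)) = (LP (LK LD1_c24 LD2_c59 LD3_c61)) :=
  Lgr Lrot137 (Lpe (f59749 IH) (Lpe (K40.f59744 IH) (Lpe (K46.f59752 IH) (Lpr_df (f445267 IH) (Lpr_et (f445558 IH) (Lpe (f411077 IH) (Lpr_ef (K16.f272192 IH) (Lpr_dt (f242888 IH) (Lpe (f272118 IH) (Lpe (f272120 IH) (Lpn (LP (LK LD1_c24 LD2_c59 LD3_c61)))))))))))))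
theorem f59764 : Led Lsl_dt (LP (LK LD1_c21 LD2_c13 LD3_c1)) = (LP (LK LD1_c21 LD2_c11 LD3_c56)) :=
  Lgr Lrot42 (Lpr_df (f59750 IH) (Lpn (LP (LK LD1_c21 LD2_c11 LD3_c56))))
theorem f59775 : Led Lsl_gt (LP (LK LD1_c21 LD2_c13 LD3_c0)) = (LP (LK LD1_c12 LD2_c6 LD3_c54)) :=
  Lre_g IH (LK LD1_c21 LD2_c13 LD3_c0) (LK LD1_c12 LD2_c6 LD3_c54) Lrfl Lrfl
theorem f607794 : Led Lsl_bf (LP (LK LD1_c13 LD2_c57 LD3_c59)) = (LP (LK LD1_c22 LD2_c43 LD3_c7)) :=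
  Lgr Lrot93 (Lpe (K46.f607718 IH) (Lpr_bt (K46.f607792 IH) (Lpr_dt (K46.f489354 IH) (Lpn (LP (LK LD1_c22 LD2_c43 LD3_c7))))))
theorem f607800 : Led Lsl_bt (LP (LK LD1_c13 LD2_c57 LD3_c59)) = (LP (LK LD1_c22 LD2_c43 LD3_c7)) :=
  Lgr Lrot127 (Lpr_bf (f607794 IH) (Lpn (LP (LK LD1_c22 LD2_c43 LD3_c7))))
theorem f560318 : Led Lsl_gt (LP (LK LD1_c22 LD2_c42 LD3_c50)) = (LP (LK LD1_c23 LD2_c38 LD3_c34)) :=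
  Lgr Lrot5 (Lpr_ft (K39.f463357 IH) (Lpr_at (K39.f560308 IH) (Lpe (K33.f469282 IH) (Lpn (LP (LK LD1_c23 LD2_c38 LD3_c34))))))
theorem f607082 : Led Lsl_bt (LP (LK LD1_c13 LD2_c55 LD3_c29)) = (LP (LK LD1_c14 LD2_c5 LD3_c22)) :=
  Lgr Lrot92 (Lpe (K46.f607080 IH) (Lpr_gt (K46.f607076 IH) (Lpr_cf (K46.f576590 IH) (Lpr_bt (K46.f146950 IH) (Lpr_gt (K33.f147151 IH) (Lpr_ct (K33.f464336 IH) (Lpr_gt (K33.f131931 IH) (Lpe (K33.f131791 IH) (Lpr_bt (K33.f131786 IH) (Lpr_gt (K33.f464364 IH) (Lpn (LP (LK LD1_c14 LD2_c5 LD3_c22)))))))))))))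
theorem f607084 : Led Lsl_bf (LP (LK LD1_c13 LD2_c55 LD3_c29)) = (LP (LK LD1_c14 LD2_c5 LD3_c22)) :=
  Lgr Lrot24 (Lpr_bt (f607082 IH) (Lpn (LP (LK LD1_c14 LD2_c5 LD3_c22))))
theorem f205516 : Led Lsl_gt (LP (LK LD1_c12 LD2_c22 LD3_c49)) = (LP (LK LD1_c21 LD2_c29 LD3_c42)) :=
  Lre_g IH (LK LD1_c12 LD2_c22 LD3_c49) (LK LD1_c21 LD2_c29 LD3_c42) Lrfl Lrfl
theorem f607802 : Led Lsl_ct (LP (LK LD1_c13 LD2_c57 LD3_c59)) = (LP (LK LD1_c21 LD2_c29 LD3_c42)) :=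
  Lgr Lrot63 (Lpr_bt (f607800 IH) (Lpe (K46.f489352 IH) (Lpr_bf (K4.f116295 IH) (Lpe (K39.f560288 IH) (Lpr_gt (f560318 IH) (Lpe (K33.f464365 IH) (Lpe (f607084 IH) (Lpr_gt (K43.f560426 IH) (Lpr_ct (K11.f205496 IH) (Lpr_gt (f205516 IH) (Lpn (LP (LK LD1_c21 LD2_c29 LD3_c42)))))))))))))
theorem f439411 : Led Lsl_ct (LP (LK LD1_c13 LD2_c55 LD3_c31)) = (LP (LK LD1_c7 LD2_c21 LD3_c54)) :=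
  Lre_c IH (LK LD1_c13 LD2_c55 LD3_c31) (LK LD1_c7 LD2_c21 LD3_c54) Lrfl Lrfl
theorem f607808 : Led Lsl_gf (LP (LK LD1_c13 LD2_c55 LD3_c31)) = (LP (LK LD1_c21 LD2_c29 LD3_c42)) :=
  Lgr Lrot104 (Lpr_ct (f439411 IH) (Lpe (K39.f159688 IH) (Lpr_cf (K37.f128306 IH) (Lpe (K37.f439422 IH) (Lpe (K37.f488282 IH) (Lpe (K37.f147176 IH) (Lpe (f147412 IH) (Lpr_gt (K46.f147413 IH) (Lpr_ct (f607802 IH) (Lpn (LP (LK LD1_c21 LD2_c29 LD3_c42))))))))))))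
theorem f205518 : Led Lsl_gt (LP (LK LD1_c12 LD2_c22 LD3_c48)) = (LP (LK LD1_c6 LD2_c24 LD3_c54)) :=
  Lre_g IH (LK LD1_c12 LD2_c22 LD3_c48) (LK LD1_c6 LD2_c24 LD3_c54) Lrfl Lrfl
theorem f205582 : Led Lsl_gt (LP (LK LD1_c16 LD2_c25 LD3_c11)) = (LP (LK LD1_c12 LD2_c22 LD3_c48)) :=
  Lgr Lrot5 (Lpr_ft (K11.f205564 IH) (Lpr_at (K11.f205566 IH) (Lpe (f205518 IH) (Lpn (LP (LK LD1_c12 LD2_c22 LD3_c48))))))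
theorem f205584 : Led Lsl_dt (LP (LK LD1_c12 LD2_c22 LD3_c48)) = (LP (LK LD1_c21 LD2_c29 LD3_c40)) :=
  Lre_d IH (LK LD1_c12 LD2_c22 LD3_c48) (LK LD1_c21 LD2_c29 LD3_c40) Lrfl Lrfl
theorem f607804 : Led Lsl_cf (LP (LK LD1_c13 LD2_c57 LD3_c59)) = (LP (LK LD1_c21 LD2_c29 LD3_c42)) :=
  Lgr Lrot11 (Lpr_ct (f607802 IH) (Lpn (LP (LK LD1_c21 LD2_c29 LD3_c42))))
theorem f147283 : Led Lsl_gt (LP (LK LD1_c13 LD2_c57 LD3_c59)) = (LP (LK LD1_c7 LD2_c23 LD3_c10)) :=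
  Lre_g IH (LK LD1_c13 LD2_c57 LD3_c59) (LK LD1_c7 LD2_c23 LD3_c10) Lrfl Lrfl
theorem f607812 : Led Lsl_cf (LP (LK LD1_c21 LD2_c29 LD3_c40)) = (LP (LK LD1_c13 LD2_c57 LD3_c55)) :=
  Lgr Lrot14 (Lpe (f205584 IH) (Lpe (f205582 IH) (Lpr_df (K39.f543416 IH) (Lpr_gf (f607808 IH) (Lpe (f607804 IH) (Lpr_gt (f147283 IH) (Lpr_dt (f147272 IH) (Lpr_gt (K35.f147280 IH) (Lpr_dt (K46.f147281 IH) (Lpn (LP (LK LD1_c13 LD2_c57 LD3_c55))))))))))))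
theorem f534477 : Led Lsl_bt (LP (LK LD1_c13 LD2_c57 LD3_c55)) = (LP (LK LD1_c23 LD2_c29 LD3_c50)) :=
  Lre_b IH (LK LD1_c13 LD2_c57 LD3_c55) (LK LD1_c23 LD2_c29 LD3_c50) Lrfl Lrfl
theorem f469799 : Led Lsl_dt (LP (LK LD1_c13 LD2_c57 LD3_c54)) = (LP (LK LD1_c23 LD2_c29 LD3_c50)) :=
  Lre_d IH (LK LD1_c13 LD2_c57 LD3_c54) (LK LD1_c23 LD2_c29 LD3_c50) Lrfl Lrfl
theorem f469654 : Led Lsl_dt (LP (LK LD1_c13 LD2_c56 LD3_c1)) = (LP (LK LD1_c7 LD2_c22 LD3_c4)) :=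
  Lre_d IH (LK LD1_c13 LD2_c56 LD3_c1) (LK LD1_c7 LD2_c22 LD3_c4) Lrfl Lrfl
theorem f469784 : Led Lsl_ct (LP (LK LD1_c23 LD2_c27 LD3_c3)) = (LP (LK LD1_c13 LD2_c56 LD3_c1)) :=
  Lre_c IH (LK LD1_c23 LD2_c27 LD3_c3) (LK LD1_c13 LD2_c56 LD3_c1) Lrfl Lrfl
theorem f469842 : Led Lsl_gt (LP (LK LD1_c31 LD2_c3 LD3_c37)) = (LP (LK LD1_c23 LD2_c27 LD3_c3)) :=
  Lre_g IH (LK LD1_c31 LD2_c3 LD3_c37) (LK LD1_c23 LD2_c27 LD3_c3) Lrfl Lrfl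
theorem f469565 : Led Lsl_bt (LP (LK LD1_c13 LD2_c56 LD3_c1)) = (LP (LK LD1_c7 LD2_c22 LD3_c5)) :=
  Lre_b IH (LK LD1_c13 LD2_c56 LD3_c1) (LK LD1_c7 LD2_c22 LD3_c5) Lrfl Lrfl
theorem f469566 : Led Lsl_ct (LP (LK LD1_c13 LD2_c56 LD3_c1)) = (LP (LK LD1_c23 LD2_c27 LD3_c3)) :=
  Lre_c IH (LK LD1_c13 LD2_c56 LD3_c1) (LK LD1_c23 LD2_c27 LD3_c3) Lrfl Lrfl
theorem f458918 : Led Lsl_gt (LP (LK LD1_c13 LD2_c24 LD3_c40)) = (LP (LK LD1_c22 LD2_c42 LD3_c58)) :=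
  Lre_g IH (LK LD1_c13 LD2_c24 LD3_c40) (LK LD1_c22 LD2_c42 LD3_c58) Lrfl Lrfl
theorem f459174 : Led Lsl_bt (LP (LK LD1_c30 LD2_c40 LD3_c12)) = (LP (LK LD1_c22 LD2_c42 LD3_c58)) :=
  Lre_b IH (LK LD1_c30 LD2_c40 LD3_c12) (LK LD1_c22 LD2_c42 LD3_c58) Lrfl Lrfl
theorem f479630 : Led Lsl_cf (LP (LK LD1_c31 LD2_c3 LD3_c37)) = (LP (LK LD1_c30 LD2_c40 LD3_c12)) :=
  Lgr Lrot160 (Lpr_gt (f469842 IH) (Lpe (f469566 IH) (Lpr_bt (f469565 IH) (Lpe (K29.f479628 IH) (Lpr_ct (K29.f479616 IH) (Lpr_gt (K29.f459169 IH) (Lpe (K28.f458914 IH) (Lpr_bt (f458917 IH) (Lpr_gt (f458918 IH) (Lpe (f459174 IH) (Lpn (LP (LK LD1_c30 LD2_c40 LD3_c12)))))))))))))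
theorem f533538 : Led Lsl_gt (LP (LK LD1_c23 LD2_c29 LD3_c50)) = (LP (LK LD1_c30 LD2_c40 LD3_c12)) :=
  Lgr Lrot9 (Lpe (f469799 IH) (Lpr_gt (K35.f533532 IH) (Lpr_ct (K34.f469843 IH) (Lpr_gt (K34.f463954 IH) (Lpe (K34.f469642 IH) (Lpe (f469654 IH) (Lpe (f469784 IH) (Lpe (f469842 IH) (Lpr_cf (f479630 IH) (Lpn (LP (LK LD1_c30 LD2_c40 LD3_c12))))))))))))
theorem f479632 : Led Lsl_bt (LP (LK LD1_c22 LD2_c42 LD3_c58)) = (LP (LK LD1_c30 LD2_c40 LD3_c12)) :=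
  Lre_b IH (LK LD1_c22 LD2_c42 LD3_c58) (LK LD1_c30 LD2_c40 LD3_c12) Lrfl Lrfl
theorem f459175 : Led Lsl_ct (LP (LK LD1_c22 LD2_c42 LD3_c58)) = (LP (LK LD1_c30 LD2_c40 LD3_c13)) :=
  Lre_c IH (LK LD1_c22 LD2_c42 LD3_c58) (LK LD1_c30 LD2_c40 LD3_c13) Lrfl Lrfl
theorem f534414 : Led Lsl_cf (LP (LK LD1_c13 LD2_c55 LD3_c26)) = (LP (LK LD1_c14 LD2_c5 LD3_c19)) :=
  Lgr Lrot11 (Lpr_ct (K46.f533961 IH) (Lpn (LP (LK LD1_c14 LD2_c5 LD3_c19))))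
theorem f534417 : Led Lsl_ct (LP (LK LD1_c31 LD2_c3 LD3_c2)) = (LP (LK LD1_c23 LD2_c26 LD3_c10)) :=
  Lre_c IH (LK LD1_c31 LD2_c3 LD3_c2) (LK LD1_c23 LD2_c26 LD3_c10) Lrfl Lrfl
theorem f534473 : Led Lsl_gf (LP (LK LD1_c31 LD2_c3 LD3_c2)) = (LP (LK LD1_c30 LD2_c40 LD3_c13)) :=
  Lgr Lrot104 (Lpr_ct (f534417 IH) (Lpe (K46.f534429 IH) (Lpr_cf (f534414 IH) (Lpe (K39.f533929 IH) (Lpe (K34.f459277 IH) (Lpe (K34.f459164 IH) (Lpe (K34.f459151 IH) (Lpr_gt (f458918 IH) (Lpr_ct (f459175 IH) (Lpn (LP (LK LD1_c30 LD2_c40 LD3_c13))))))))))))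
theorem f534431 : Led Lsl_ct (LP (LK LD1_c23 LD2_c26 LD3_c10)) = (LP (LK LD1_c31 LD2_c3 LD3_c2)) :=
  Lre_c IH (LK LD1_c23 LD2_c26 LD3_c10) (LK LD1_c31 LD2_c3 LD3_c2) Lrfl Lrfl
theorem f534476 : Led Lsl_bt (LP (LK LD1_c23 LD2_c26 LD3_c10)) = (LP (LK LD1_c13 LD2_c55 LD3_c27)) :=
  Lre_b IH (LK LD1_c23 LD2_c26 LD3_c10) (LK LD1_c13 LD2_c55 LD3_c27) Lrfl Lrfl
theorem f534478 : Led Lsl_gt (LP (LK LD1_c13 LD2_c55 LD3_c27)) = (LP (LK LD1_c14 LD2_c55 LD3_c6)) :=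
  Lgr Lrot164 (Lpe (f534476 IH) (Lpr_ct (f534431 IH) (Lpr_gf (f534473 IH) (Lpe (f459175 IH) (Lpe (f458918 IH) (Lpe (f458917 IH) (Lpr_ct (K28.f458914 IH) (Lpe (K29.f459169 IH) (Lpe (K29.f479616 IH) (Lpr_bt (f479612 IH) (Lpn (LP (LK LD1_c14 LD2_c55 LD3_c6)))))))))))))
theorem f607831 : Led Lsl_gf (LP (LK LD1_c21 LD2_c29 LD3_c40)) = (LP (LK LD1_c24 LD2_c42 LD3_c27)) :=
  Lgr Lrot129 (Lpr_cf (f607812 IH) (Lpr_bt (f534477 IH) (Lpr_gt (f533538 IH) (Lpe (f479632 IH) (Lpr_ct (f459175 IH) (Lpe (f534473 IH) (Lpe (f534431 IH) (Lpr_bt (f534476 IH) (Lpr_gt (f534478 IH) (Lpr_ct (f479613 IH) (Lpn (LP (LK LD1_c24 LD2_c42 LD3_c27)))))))))))))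
theorem f205519 : Led Lsl_dt (LP (LK LD1_c21 LD2_c29 LD3_c40)) = (LP (LK LD1_c12 LD2_c22 LD3_c48)) :=
  Lre_d IH (LK LD1_c21 LD2_c29 LD3_c40) (LK LD1_c12 LD2_c22 LD3_c48) Lrfl Lrfl
theorem f205508 : Led Lsl_cf (LP (LK LD1_c21 LD2_c14 LD3_c37)) = (LP (LK LD1_c12 LD2_c22 LD3_c49)) :=
  Lgr Lrot11 (Lpr_ct (K11.f205496 IH) (Lpn (LP (LK LD1_c12 LD2_c22 LD3_c49))))
theorem f462595 : Led Lsl_dt (LP (LK LD1_c13 LD2_c55 LD3_c24)) = (LP (LK LD1_c7 LD2_c21 LD3_c52)) :=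
  Lre_d IH (LK LD1_c13 LD2_c55 LD3_c24) (LK LD1_c7 LD2_c21 LD3_c52) Lrfl Lrfl
theorem f607833 : Led Lsl_gf (LP (LK LD1_c13 LD2_c55 LD3_c24)) = (LP (LK LD1_c14 LD2_c55 LD3_c6)) :=
  Lgr Lrot144 (Lpr_dt (f462595 IH) (Lpe (K39.f543404 IH) (Lpr_dt (K11.f75745 IH) (Lpr_cf (f205508 IH) (Lpe (K39.f205517 IH) (Lpe (f205518 IH) (Lpe (f205519 IH) (Lpr_gf (f607831 IH) (Lpe (f479613 IH) (Lpn (LP (LK LD1_c14 LD2_c55 LD3_c6))))))))))))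
theorem f439414 : Led Lsl_gt (LP (LK LD1_c13 LD2_c55 LD3_c24)) = (LP (LK LD1_c23 LD2_c26 LD3_c8)) :=
  Lre_g IH (LK LD1_c13 LD2_c55 LD3_c24) (LK LD1_c23 LD2_c26 LD3_c8) Lrfl Lrfl
theorem f607837 : Led Lsl_af (LP (LK LD1_c23 LD2_c26 LD3_c8)) = (LP (LK LD1_c14 LD2_c55 LD3_c17)) :=
  Lgr Lrot31 (Lpe (f439414 IH) (Lpr_gf (f607833 IH) (Lpr_ft (f529625 IH) (Lpn (LP (LK LD1_c14 LD2_c55 LD3_c17))))))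
theorem f529602 : Led Lsl_at (LP (LK LD1_c24 LD2_c42 LD3_c26)) = (LP (LK LD1_c14 LD2_c55 LD3_c6)) :=
  Lre_a IH (LK LD1_c24 LD2_c42 LD3_c26) (LK LD1_c14 LD2_c55 LD3_c6) Lrfl Lrfl
theorem f607843 : Led Lsl_ft (LP (LK LD1_c23 LD2_c26 LD3_c8)) = (LP (LK LD1_c24 LD2_c42 LD3_c26)) :=
  Lgr Lrot101 (Lpr_af (f607837 IH) (Lpe (f529625 IH) (Lpe (f529602 IH) (Lpn (LP (LK LD1_c24 LD2_c42 LD3_c26))))))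
theorem f607849 : Led Lsl_gt (LP (LK LD1_c23 LD2_c26 LD3_c8)) = (LP (LK LD1_c13 LD2_c55 LD3_c27)) :=
  Lgr Lrot5 (Lpr_ft (f607843 IH) (Lpr_at (f529602 IH) (Lpe (f534478 IH) (Lpn (LP (LK LD1_c13 LD2_c55 LD3_c27))))))
theorem f439416 : Led Lsl_dt (LP (LK LD1_c13 LD2_c55 LD3_c27)) = (LP (LK LD1_c7 LD2_c21 LD3_c53)) :=
  Lre_d IH (LK LD1_c13 LD2_c55 LD3_c27) (LK LD1_c7 LD2_c21 LD3_c53) Lrfl Lrfl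
theorem f560435 : Led Lsl_df (LP (LK LD1_c13 LD2_c55 LD3_c31)) = (LP (LK LD1_c16 LD2_c25 LD3_c11)) :=
  Lgr Lrot177 (Lpr_ct (f439411 IH) (Lpr_af (K39.f560424 IH) (Lpe (K39.f75729 IH) (Lpr_dt (K43.f75726 IH) (Lpr_ct (K37.f75725 IH) (Lpr_dt (K46.f75724 IH) (Lpe (K11.f75682 IH) (Lpr_dt (K37.f75722 IH) (Lpr_ct (K11.f75723 IH) (Lpn (LP (LK LD1_c16 LD2_c25 LD3_c11))))))))))))
theorem f205568 : Led Lsl_gt (LP (LK LD1_c6 LD2_c24 LD3_c54)) = (LP (LK LD1_c12 LD2_c22 LD3_c47)) :=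
  Lre_g IH (LK LD1_c6 LD2_c24 LD3_c54) (LK LD1_c12 LD2_c22 LD3_c47) Lrfl Lrfl
theorem f205569 : Led Lsl_gf (LP (LK LD1_c16 LD2_c25 LD3_c11)) = (LP (LK LD1_c12 LD2_c22 LD3_c47)) :=
  Lgr Lrot76 (Lpr_af (K11.f205554 IH) (Lpe (K11.f205565 IH) (Lpr_gt (f205568 IH) (Lpn (LP (LK LD1_c12 LD2_c22 LD3_c47))))))
theorem f205571 : Led Lsl_dt (LP (LK LD1_c21 LD2_c29 LD3_c37)) = (LP (LK LD1_c12 LD2_c22 LD3_c47)) :=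
  Lre_d IH (LK LD1_c21 LD2_c29 LD3_c37) (LK LD1_c12 LD2_c22 LD3_c47) Lrfl Lrfl
theorem f205572 : Led Lsl_gt (LP (LK LD1_c30 LD2_c2 LD3_c58)) = (LP (LK LD1_c21 LD2_c29 LD3_c37)) :=
  Lre_g IH (LK LD1_c30 LD2_c2 LD3_c58) (LK LD1_c21 LD2_c29 LD3_c37) Lrfl Lrfl
theorem f607851 : Led Lsl_ct (LP (LK LD1_c23 LD2_c26 LD3_c8)) = (LP (LK LD1_c30 LD2_c2 LD3_c58)) :=
  Lgr Lrot8 (Lpr_gt (f607849 IH) (Lpr_dt (f439416 IH) (Lpr_gt (K46.f439415 IH) (Lpr_dt (K39.f159688 IH) (Lpe (f439411 IH) (Lpr_df (f560435 IH) (Lpr_gf (f205569 IH) (Lpe (f205571 IH) (Lpe (f205572 IH) (Lpn (LP (LK LD1_c30 LD2_c2 LD3_c58))))))))))))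
theorem f147177 : Led Lsl_dt (LP (LK LD1_c7 LD2_c23 LD3_c9)) = (LP (LK LD1_c13 LD2_c57 LD3_c57)) :=
  Lre_d IH (LK LD1_c7 LD2_c23 LD3_c9) (LK LD1_c13 LD2_c57 LD3_c57) Lrfl Lrfl
theorem f607861 : Led Lsl_cf (LP (LK LD1_c13 LD2_c57 LD3_c57)) = (LP (LK LD1_c21 LD2_c29 LD3_c37)) :=
  Lgr Lrot99 (Lpe (f147177 IH) (Lpr_cf (K37.f488284 IH) (Lpe (K37.f543400 IH) (Lpe (K37.f75725 IH) (Lpr_gf (K39.f543404 IH) (Lpe (f462595 IH) (Lpr_gt (f439414 IH) (Lpr_ct (f607851 IH) (Lpr_gt (f205572 IH) (Lpn (LP (LK LD1_c21 LD2_c29 LD3_c37))))))))))))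
theorem f607864 : Led Lsl_ct (LP (LK LD1_c13 LD2_c57 LD3_c57)) = (LP (LK LD1_c21 LD2_c29 LD3_c37)) :=
  Lgr Lrot59 (Lpr_cf (f607861 IH) (Lpn (LP (LK LD1_c21 LD2_c29 LD3_c37))))
theorem f147414 : Led Lsl_gt (LP (LK LD1_c13 LD2_c57 LD3_c58)) = (LP (LK LD1_c23 LD2_c29 LD3_c41)) :=
  Lre_g IH (LK LD1_c13 LD2_c57 LD3_c58) (LK LD1_c23 LD2_c29 LD3_c41) Lrfl Lrfl
theorem f205573 : Led Lsl_dt (LP (LK LD1_c12 LD2_c22 LD3_c47)) = (LP (LK LD1_c21 LD2_c29 LD3_c37)) :=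
  Lre_d IH (LK LD1_c12 LD2_c22 LD3_c47) (LK LD1_c21 LD2_c29 LD3_c37) Lrfl Lrfl
theorem f205521 : Led Lsl_gt (LP (LK LD1_c21 LD2_c29 LD3_c43)) = (LP (LK LD1_c12 LD2_c22 LD3_c49)) :=
  Lre_g IH (LK LD1_c21 LD2_c29 LD3_c43) (LK LD1_c12 LD2_c22 LD3_c49) Lrfl Lrfl
theorem f607867 : Led Lsl_cf (LP (LK LD1_c13 LD2_c57 LD3_c58)) = (LP (LK LD1_c21 LD2_c29 LD3_c43)) :=
  Lgr Lrot166 (Lpr_gt (f147414 IH) (Lpr_dt (f147412 IH) (Lpr_gt (K37.f147176 IH) (Lpr_dt (f147177 IH) (Lpr_ct (f607864 IH) (Lpe (f205573 IH) (Lpe (f205568 IH) (Lpe (K11.f205495 IH) (Lpe (f205521 IH) (Lpn (LP (LK LD1_c21 LD2_c29 LD3_c43))))))))))))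
theorem f456096 : Led Lsl_et (LP (LK LD1_c3 LD2_c54 LD3_c22)) = (LP (LK LD1_c7 LD2_c50 LD3_c24)) :=
  Lre_e IH (LK LD1_c3 LD2_c54 LD3_c22) (LK LD1_c7 LD2_c50 LD3_c24) Lrfl Lrfl
theorem f576680 : Led Lsl_gt (LP (LK LD1_c7 LD2_c50 LD3_c24)) = (LP (LK LD1_c14 LD2_c47 LD3_c24)) :=
  Lre_g IH (LK LD1_c7 LD2_c50 LD3_c24) (LK LD1_c14 LD2_c47 LD3_c24) Lrfl Lrfl
theorem f576681 : Led Lsl_dt (LP (LK LD1_c14 LD2_c47 LD3_c24)) = (LP (LK LD1_c13 LD2_c57 LD3_c58)) :=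
  Lgr Lrot171 (Lpe (f576680 IH) (Lpe (f456096 IH) (Lpr_dt (K33.f456093 IH) (Lpe (f456101 IH) (Lpr_df (f576671 IH) (Lpr_et (f469377 IH) (Lpe (K34.f469371 IH) (Lpr_ef (K43.f469249 IH) (Lpr_dt (K37.f147169 IH) (Lpe (f147414 IH) (Lpn (LP (LK LD1_c13 LD2_c57 LD3_c58)))))))))))))
theorem f576683 : Led Lsl_df (LP (LK LD1_c14 LD2_c47 LD3_c24)) = (LP (LK LD1_c13 LD2_c57 LD3_c58)) :=
  Lgr Lrot38 (Lpr_dt (f576681 IH) (Lpn (LP (LK LD1_c13 LD2_c57 LD3_c58))))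
theorem f488287 : Led Lsl_gt (LP (LK LD1_c7 LD2_c23 LD3_c10)) = (LP (LK LD1_c13 LD2_c57 LD3_c58)) :=
  Lre_g IH (LK LD1_c7 LD2_c23 LD3_c10) (LK LD1_c13 LD2_c57 LD3_c58) Lrfl Lrfl
theorem f543418 : Led Lsl_df (LP (LK LD1_c3 LD2_c3 LD3_c46)) = (LP (LK LD1_c3 LD2_c39 LD3_c28)) :=
  Lgr Lrot38 (Lpr_dt (K37.f543410 IH) (Lpn (LP (LK LD1_c3 LD2_c39 LD3_c28))))
theorem f75737 : Led Lsl_dt (LP (LK LD1_c6 LD2_c13 LD3_c52)) = (LP (LK LD1_c12 LD2_c6 LD3_c21)) :=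
  Lre_d IH (LK LD1_c6 LD2_c13 LD3_c52) (LK LD1_c12 LD2_c6 LD3_c21) Lrfl Lrfl
theorem f576688 : Led Lsl_ct (LP (LK LD1_c14 LD2_c47 LD3_c24)) = (LP (LK LD1_c12 LD2_c6 LD3_c21)) :=
  Lgr Lrot7 (Lpr_df (f576683 IH) (Lpe (f488287 IH) (Lpe (K39.f147299 IH) (Lpe (K37.f147284 IH) (Lpr_cf (K37.f488284 IH) (Lpr_gt (K37.f439422 IH) (Lpe (f543418 IH) (Lpr_gt (K37.f205500 IH) (Lpr_dt (f75737 IH) (Lpn (LP (LK LD1_c12 LD2_c6 LD3_c21))))))))))))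
theorem f56647 : Led Lsl_ct (LP (LK LD1_c9 LD2_c19 LD3_c33)) = (LP (LK LD1_c17 LD2_c15 LD3_c16)) :=
  Lre_c IH (LK LD1_c9 LD2_c19 LD3_c33) (LK LD1_c17 LD2_c15 LD3_c16) Lrfl Lrfl
theorem f81316 : Led Lsl_dt (LP (LK LD1_c12 LD2_c22 LD3_c39)) = (LP (LK LD1_c21 LD2_c29 LD3_c28)) :=
  Lre_d IH (LK LD1_c12 LD2_c22 LD3_c39) (LK LD1_c21 LD2_c29 LD3_c28) Lrfl Lrfl
theorem f607430 : Led Lsl_gt (LP (LK LD1_c21 LD2_c29 LD3_c14)) = (LP (LK LD1_c12 LD2_c22 LD3_c39)) :=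
  Lgr Lrot180 (Lpr_ct (K46.f607419 IH) (Lpr_gt (K37.f421085 IH) (Lpr_dt (K37.f80501 IH) (Lpr_gt (K37.f80460 IH) (Lpr_dt (K39.f40017 IH) (Lpr_ct (K43.f80904 IH) (Lpe (K43.f99310 IH) (Lpe (K46.f607076 IH) (Lpe (f81316 IH) (Lpn (LP (LK LD1_c12 LD2_c22 LD3_c39))))))))))))
theorem f607556 : Led Lsl_ct (LP (LK LD1_c23 LD2_c38 LD3_c25)) = (LP (LK LD1_c21 LD2_c14 LD3_c30)) :=
  Lgr Lrot8 (Lpr_gt (f607552 IH) (Lpr_dt (K46.f607409 IH) (Lpr_gt (f607430 IH) (Lpr_dt (f81316 IH) (Lpr_cf (K46.f607080 IH) (Lpr_df (K43.f560545 IH) (Lpe (K43.f464688 IH) (Lpe (K40.f487877 IH) (Lpe (K40.f543678 IH) (Lpn (LP (LK LD1_c21 LD2_c14 LD3_c30))))))))))))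
theorem f80357 : Led Lsl_gt (LP (LK LD1_c6 LD2_c24 LD3_c48)) = (LP (LK LD1_c12 LD2_c22 LD3_c30)) :=
  Lre_g IH (LK LD1_c6 LD2_c24 LD3_c48) (LK LD1_c12 LD2_c22 LD3_c30) Lrfl Lrfl
theorem f80405 : Led Lsl_ct (LP (LK LD1_c12 LD2_c22 LD3_c30)) = (LP (LK LD1_c21 LD2_c29 LD3_c12)) :=
  Lre_c IH (LK LD1_c12 LD2_c22 LD3_c30) (LK LD1_c21 LD2_c29 LD3_c12) Lrfl Lrfl
theorem f607654 : Led Lsl_dt (LP (LK LD1_c21 LD2_c29 LD3_c12)) = (LP (LK LD1_c24 LD2_c42 LD3_c35)) :=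
  Lgr Lrot27 (Lpe (f80405 IH) (Lpe (f80357 IH) (Lpe (K46.f80425 IH) (Lpe (f607349 IH) (Lpe (f607398 IH) (Lpe (f607550 IH) (Lpr_ct (f607556 IH) (Lpr_gt (K40.f543678 IH) (Lpr_ct (f480024 IH) (Lpn (LP (LK LD1_c24 LD2_c42 LD3_c35))))))))))))
theorem f205561 : Led Lsl_dt (LP (LK LD1_c26 LD2_c22 LD3_c44)) = (LP (LK LD1_c16 LD2_c25 LD3_c8)) :=
  Lre_d IH (LK LD1_c26 LD2_c22 LD3_c44) (LK LD1_c16 LD2_c25 LD3_c8) Lrfl Lrfl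
theorem f480023 : Led Lsl_ct (LP (LK LD1_c24 LD2_c42 LD3_c35)) = (LP (LK LD1_c14 LD2_c55 LD3_c17)) :=
  Lre_c IH (LK LD1_c24 LD2_c42 LD3_c35) (LK LD1_c14 LD2_c55 LD3_c17) Lrfl Lrfl
theorem f568194 : Led Lsl_gf (LP (LK LD1_c26 LD2_c22 LD3_c44)) = (LP (LK LD1_c24 LD2_c42 LD3_c35)) :=
  Lgr Lrot144 (Lpr_dt (f205561 IH) (Lpr_gt (K39.f205559 IH) (Lpe (K39.f205637 IH) (Lpe (K39.f75765 IH) (Lpe (K39.f75764 IH) (Lpe (K37.f75771 IH) (Lpe (f205646 IH) (Lpr_gf (f568190 IH) (Lpe (f480023 IH) (Lpn (LP (LK LD1_c24 LD2_c42 LD3_c35))))))))))))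
theorem f56648 : Led Lsl_ct (LP (LK LD1_c17 LD2_c15 LD3_c16)) = (LP (LK LD1_c9 LD2_c19 LD3_c33)) :=
  Lre_c IH (LK LD1_c17 LD2_c15 LD3_c16) (LK LD1_c9 LD2_c19 LD3_c33) Lrfl Lrfl
theorem f607662 : Led Lsl_gf (LP (LK LD1_c21 LD2_c29 LD3_c12)) = (LP (LK LD1_c17 LD2_c15 LD3_c16)) :=
  Lgr Lrot144 (Lpr_dt (f607654 IH) (Lpe (f568194 IH) (Lpr_dt (f205561 IH) (Lpe (K39.f543473 IH) (Lpe (K46.f40019 IH) (Lpe (K43.f576274 IH) (Lpe (K43.f56624 IH) (Lpe (K43.f56610 IH) (Lpe (f56648 IH) (Lpn (LP (LK LD1_c17 LD2_c15 LD3_c16))))))))))))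
theorem f607664 : Led Lsl_df (LP (LK LD1_c17 LD2_c15 LD3_c16)) = (LP (LK LD1_c21 LD2_c29 LD3_c42)) :=
  Lgr Lrot153 (Lpe (f607662 IH) (Lpr_dt (f607654 IH) (Lpe (f480024 IH) (Lpe (K40.f480518 IH) (Lpr_gf (f559032 IH) (Lpe (K46.f462583 IH) (Lpe (K46.f554220 IH) (Lpr_cf (f205508 IH) (Lpr_gt (f205516 IH) (Lpn (LP (LK LD1_c21 LD2_c29 LD3_c42))))))))))))
theorem f607670 : Led Lsl_dt (LP (LK LD1_c17 LD2_c15 LD3_c16)) = (LP (LK LD1_c21 LD2_c29 LD3_c42)) :=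
  Lgr Lrot42 (Lpr_df (f607664 IH) (Lpn (LP (LK LD1_c21 LD2_c29 LD3_c42))))
theorem f561109 : Led Lsl_cf (LP (LK LD1_c4 LD2_c42 LD3_c40)) = (LP (LK LD1_c6 LD2_c13 LD3_c53)) :=
  Lgr Lrot169 (Lpr_gt (K32.f201975 IH) (Lpr_ct (K39.f59242 IH) (Lpr_df (K40.f561102 IH) (Lpr_cf (K28.f147266 IH) (Lpe (K37.f147284 IH) (Lpr_cf (K37.f488284 IH) (Lpe (K37.f543400 IH) (Lpe (K11.f75743 IH) (Lpr_gt (K46.f75731 IH) (Lpn (LP (LK LD1_c6 LD2_c13 LD3_c53))))))))))))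
theorem f201979 : Led Lsl_ct (LP (LK LD1_c9 LD2_c19 LD3_c36)) = (LP (LK LD1_c17 LD2_c15 LD3_c19)) :=
  Lre_c IH (LK LD1_c9 LD2_c19 LD3_c36) (LK LD1_c17 LD2_c15 LD3_c19) Lrfl Lrfl
theorem f607967 : Led Lsl_dt (LP (LK LD1_c17 LD2_c15 LD3_c19)) = (LP (LK LD1_c21 LD2_c29 LD3_c43)) :=
  Lgr Lrot173 (Lpe (f201979 IH) (Lpe (K43.f201978 IH) (Lpr_cf (f561109 IH) (Lpe (K46.f420660 IH) (Lpe (K46.f607757 IH) (Lpr_df (K46.f607718 IH) (Lpr_cf (f607804 IH) (Lpe (f607670 IH) (Lpe (f56647 IH) (Lpe (K43.f56609 IH) (Lpe (K37.f543426 IH) (Lpe (K43.f75736 IH) (Lpe (f576688 IH) (Lpr_df (f576683 IH) (Lpr_cf (f607867 IH) (Lpn (LP (LK LD1_c21 LD2_c29 LD3_c43))))))))))))))))))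
theorem f80415 : Led Lsl_ct (LP (LK LD1_c21 LD2_c29 LD3_c12)) = (LP (LK LD1_c12 LD2_c22 LD3_c30)) :=
  Lre_c IH (LK LD1_c21 LD2_c29 LD3_c12) (LK LD1_c12 LD2_c22 LD3_c30) Lrfl Lrfl
theorem f607814 : Led Lsl_gf (LP (LK LD1_c6 LD2_c24 LD3_c51)) = (LP (LK LD1_c12 LD2_c22 LD3_c30)) :=
  Lgr Lrot104 (Lpr_ct (K46.f81315 IH) (Lpe (K46.f81293 IH) (Lpr_cf (K46.f607080 IH) (Lpe (K43.f462206 IH) (Lpe (f439411 IH) (Lpr_gf (f607808 IH) (Lpe (f607670 IH) (Lpe (f607662 IH) (Lpr_ct (f80415 IH) (Lpn (LP (LK LD1_c12 LD2_c22 LD3_c30))))))))))))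
theorem f607985 : Led Lsl_gf (LP (LK LD1_c17 LD2_c15 LD3_c19)) = (LP (LK LD1_c21 LD2_c29 LD3_c12)) :=
  Lgr Lrot144 (Lpr_dt (f607967 IH) (Lpr_gt (f205521 IH) (Lpr_dt (K11.f205495 IH) (Lpe (K43.f205520 IH) (Lpe (K46.f59754 IH) (Lpe (K46.f59732 IH) (Lpe (K46.f81291 IH) (Lpr_gf (f607814 IH) (Lpe (f80415 IH) (Lpn (LP (LK LD1_c21 LD2_c29 LD3_c12))))))))))))
theorem f607447 : Led Lsl_dt (LP (LK LD1_c21 LD2_c29 LD3_c15)) = (LP (LK LD1_c30 LD2_c2 LD3_c45)) :=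
  Lre_d IH (LK LD1_c21 LD2_c29 LD3_c15) (LK LD1_c30 LD2_c2 LD3_c45) Lrfl Lrfl
theorem f607658 : Led Lsl_df (LP (LK LD1_c21 LD2_c29 LD3_c12)) = (LP (LK LD1_c24 LD2_c42 LD3_c35)) :=
  Lgr Lrot162 (Lpe (f80405 IH) (Lpe (f80357 IH) (Lpe (K46.f80425 IH) (Lpe (f607349 IH) (Lpr_dt (f607447 IH) (Lpe (f607550 IH) (Lpr_ct (f607556 IH) (Lpr_gt (K40.f543678 IH) (Lpr_ct (f480024 IH) (Lpn (LP (LK LD1_c24 LD2_c42 LD3_c35))))))))))))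
theorem f543378 : Led Lsl_cf (LP (LK LD1_c21 LD2_c29 LD3_c43)) = (LP (LK LD1_c13 LD2_c57 LD3_c58)) :=
  Lgr Lrot169 (Lpr_gt (f205521 IH) (Lpe (f205508 IH) (Lpe (K11.f75745 IH) (Lpe (K11.f75744 IH) (Lpr_gf (K37.f543374 IH) (Lpe (K35.f533540 IH) (Lpe (K35.f147280 IH) (Lpe (f147272 IH) (Lpr_gt (f488287 IH) (Lpn (LP (LK LD1_c13 LD2_c57 LD3_c58))))))))))))
theorem f515891 : Led Lsl_dt (LP (LK LD1_c14 LD2_c47 LD3_c26)) = (LP (LK LD1_c7 LD2_c50 LD3_c24)) :=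
  Lre_d IH (LK LD1_c14 LD2_c47 LD3_c26) (LK LD1_c7 LD2_c50 LD3_c24) Lrfl Lrfl
theorem f439644 : Led Lsl_bt (LP (LK LD1_c14 LD2_c5 LD3_c19)) = (LP (LK LD1_c7 LD2_c27 LD3_c48)) :=
  Lre_b IH (LK LD1_c14 LD2_c5 LD3_c19) (LK LD1_c7 LD2_c27 LD3_c48) Lrfl Lrfl
theorem f607376 : Led Lsl_ct (LP (LK LD1_c8 LD2_c45 LD3_c61)) = (LP (LK LD1_c7 LD2_c21 LD3_c53)) :=
  Lgr Lrot83 (Lpr_bf (K46.f576598 IH) (Lpe (K39.f489714 IH) (Lpe (f439644 IH) (Lpe (K46.f533961 IH) (Lpe (K46.f534413 IH) (Lpn (LP (LK LD1_c7 LD2_c21 LD3_c53))))))))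
theorem f607382 : Led Lsl_gf (LP (LK LD1_c14 LD2_c47 LD3_c26)) = (LP (LK LD1_c21 LD2_c14 LD3_c22)) :=
  Lgr Lrot147 (Lpr_ct (K46.f463559 IH) (Lpe (K46.f607161 IH) (Lpr_ct (K46.f607155 IH) (Lpe (K46.f439417 IH) (Lpe (f607376 IH) (Lpr_gf (K46.f607380 IH) (Lpr_cf (K28.f147289 IH) (Lpe (K37.f544196 IH) (Lpe (K43.f80512 IH) (Lpn (LP (LK LD1_c21 LD2_c14 LD3_c22))))))))))))
theorem f607987 : Led Lsl_gf (LP (LK LD1_c24 LD2_c42 LD3_c35)) = (LP (LK LD1_c26 LD2_c22 LD3_c46)) :=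
  Lgr Lrot144 (Lpe (f607658 IH) (Lpe (f607985 IH) (Lpr_dt (f607967 IH) (Lpr_cf (f543378 IH) (Lpe (f576681 IH) (Lpe (f576680 IH) (Lpe (f515891 IH) (Lpr_gf (f607382 IH) (Lpr_cf (K43.f576307 IH) (Lpn (LP (LK LD1_c26 LD2_c22 LD3_c46))))))))))))
theorem f80356 : Led Lsl_dt (LP (LK LD1_c3 LD2_c10 LD3_c0)) = (LP (LK LD1_c6 LD2_c24 LD3_c48)) :=
  Lre_d IH (LK LD1_c3 LD2_c10 LD3_c0) (LK LD1_c6 LD2_c24 LD3_c48) Lrfl Lrfl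
theorem f70166 : Led Lsl_gt (LP (LK LD1_c6 LD2_c13 LD3_c58)) = (LP (LK LD1_c3 LD2_c3 LD3_c50)) :=
  Lre_g IH (LK LD1_c6 LD2_c13 LD3_c58) (LK LD1_c3 LD2_c3 LD3_c50) Lrfl Lrfl
theorem f70174 : Led Lsl_et (LP (LK LD1_c12 LD2_c6 LD3_c32)) = (LP (LK LD1_c6 LD2_c13 LD3_c58)) :=
  Lre_e IH (LK LD1_c12 LD2_c6 LD3_c32) (LK LD1_c6 LD2_c13 LD3_c58) Lrfl Lrfl
theorem f80359 : Led Lsl_df (LP (LK LD1_c12 LD2_c22 LD3_c30)) = (LP (LK LD1_c12 LD2_c6 LD3_c32)) :=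
  Lgr Lrot132 (Lpe (f80357 IH) (Lpe (f80356 IH) (Lpe (K46.f80355 IH) (Lpe (K46.f59731 IH) (Lpr_dt (K4.f36318 IH) (Lpr_gf (K4.f80344 IH) (Lpe (K2.f37185 IH) (Lpr_et (K32.f80358 IH) (Lpe (f70166 IH) (Lpe (f70174 IH) (Lpn (LP (LK LD1_c12 LD2_c6 LD3_c32)))))))))))))
theorem f205485 : Led Lsl_ct (LP (LK LD1_c6 LD2_c24 LD3_c55)) = (LP (LK LD1_c12 LD2_c22 LD3_c50)) :=
  Lre_c IH (LK LD1_c6 LD2_c24 LD3_c55) (LK LD1_c12 LD2_c22 LD3_c50) Lrfl Lrfl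
theorem f607989 : Led Lsl_gf (LP (LK LD1_c12 LD2_c6 LD3_c32)) = (LP (LK LD1_c8 LD2_c46 LD3_c51)) :=
  Lgr Lrot143 (Lpe (f80359 IH) (Lpe (f80415 IH) (Lpr_df (f607658 IH) (Lpr_gf (f607987 IH) (Lpe (K43.f205667 IH) (Lpr_gf (K43.f205665 IH) (Lpe (f205485 IH) (Lpe (K40.f205673 IH) (Lpe (K40.f443106 IH) (Lpn (LP (LK LD1_c8 LD2_c46 LD3_c51))))))))))))
theorem f576162 : Led Lsl_dt (LP (LK LD1_c16 LD2_c23 LD3_c12)) = (LP (LK LD1_c15 LD2_c0 LD3_c25)) :=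
  Lgr Lrot6 (Lpr_gt (K43.f576160 IH) (Lpr_ct (K46.f38079 IH) (Lpr_gt (K37.f445137 IH) (Lpe (K37.f443145 IH) (Lpe (K37.f35838 IH) (Lpr_cf (K40.f445239 IH) (Lpe (K40.f37807 IH) (Lpe (K40.f37808 IH) (Lpe (f39987 IH) (Lpn (LP (LK LD1_c15 LD2_c0 LD3_c25))))))))))))
theorem f37795 : Led Lsl_et (LP (LK LD1_c3 LD2_c58 LD3_c0)) = (LP (LK LD1_c7 LD2_c57 LD3_c27)) :=
  Lre_e IH (LK LD1_c3 LD2_c58 LD3_c0) (LK LD1_c7 LD2_c57 LD3_c27) Lrfl Lrfl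
theorem f576180 : Led Lsl_et (LP (LK LD1_c4 LD2_c42 LD3_c40)) = (LP (LK LD1_c9 LD2_c19 LD3_c37)) :=
  Lre_e IH (LK LD1_c4 LD2_c42 LD3_c40) (LK LD1_c9 LD2_c19 LD3_c37) Lrfl Lrfl
theorem f576181 : Led Lsl_gt (LP (LK LD1_c7 LD2_c57 LD3_c27)) = (LP (LK LD1_c9 LD2_c19 LD3_c37)) :=
  Lgr Lrot131 (Lpe (f37795 IH) (Lpr_dt (K1.f37781 IH) (Lpe (f39987 IH) (Lpe (f576162 IH) (Lpe (K43.f408182 IH) (Lpe (K4.f99320 IH) (Lpr_dt (K43.f576172 IH) (Lpe (K43.f561100 IH) (Lpe (K43.f201978 IH) (Lpr_et (f576180 IH) (Lpn (LP (LK LD1_c9 LD2_c19 LD3_c37)))))))))))))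
theorem f201985 : Led Lsl_dt (LP (LK LD1_c9 LD2_c19 LD3_c37)) = (LP (LK LD1_c17 LD2_c15 LD3_c21)) :=
  Lre_d IH (LK LD1_c9 LD2_c19 LD3_c37) (LK LD1_c17 LD2_c15 LD3_c21) Lrfl Lrfl
theorem f443899 : Led Lsl_dt (LP (LK LD1_c27 LD2_c5 LD3_c21)) = (LP (LK LD1_c17 LD2_c15 LD3_c20)) :=
  Lre_d IH (LK LD1_c27 LD2_c5 LD3_c21) (LK LD1_c17 LD2_c15 LD3_c20) Lrfl Lrfl
theorem f443898 : Led Lsl_et (LP (LK LD1_c27 LD2_c5 LD3_c21)) = (LP (LK LD1_c17 LD2_c15 LD3_c21)) :=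
  Lre_e IH (LK LD1_c27 LD2_c5 LD3_c21) (LK LD1_c17 LD2_c15 LD3_c21) Lrfl Lrfl
theorem f407962 : Led Lsl_dt (LP (LK LD1_c8 LD2_c3 LD3_c17)) = (LP (LK LD1_c12 LD2_c23 LD3_c47)) :=
  Lgr Lrot42 (Lpr_df (K37.f407959 IH) (Lpn (LP (LK LD1_c12 LD2_c23 LD3_c47))))
theorem f56352 : Led Lsl_gt (LP (LK LD1_c6 LD2_c24 LD3_c22)) = (LP (LK LD1_c3 LD2_c9 LD3_c49)) :=
  Lre_g IH (LK LD1_c6 LD2_c24 LD3_c22) (LK LD1_c3 LD2_c9 LD3_c49) Lrfl Lrfl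
theorem f56353 : Led Lsl_dt (LP (LK LD1_c12 LD2_c21 LD3_c56)) = (LP (LK LD1_c6 LD2_c24 LD3_c22)) :=
  Lre_d IH (LK LD1_c12 LD2_c21 LD3_c56) (LK LD1_c6 LD2_c24 LD3_c22) Lrfl Lrfl
theorem f503185 : Led Lsl_gt (LP (LK LD1_c17 LD2_c15 LD3_c21)) = (LP (LK LD1_c12 LD2_c21 LD3_c56)) :=
  Lgr Lrot137 (Lpe (f443898 IH) (Lpr_dt (f443899 IH) (Lpr_gf (K32.f503180 IH) (Lpe (f407962 IH) (Lpr_et (K37.f271959 IH) (Lpe (K13.f182460 IH) (Lpe (K1.f46714 IH) (Lpr_dt (K8.f56337 IH) (Lpe (f56352 IH) (Lpe (f56353 IH) (Lpn (LP (LK LD1_c12 LD2_c21 LD3_c56)))))))))))))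
theorem f56507 : Led Lsl_dt (LP (LK LD1_c6 LD2_c24 LD3_c22)) = (LP (LK LD1_c12 LD2_c21 LD3_c56)) :=
  Lre_d IH (LK LD1_c6 LD2_c24 LD3_c22) (LK LD1_c12 LD2_c21 LD3_c56) Lrfl Lrfl
theorem f503187 : Led Lsl_et (LP (LK LD1_c6 LD2_c24 LD3_c22)) = (LP (LK LD1_c12 LD2_c21 LD3_c57)) :=
  Lre_e IH (LK LD1_c6 LD2_c24 LD3_c22) (LK LD1_c12 LD2_c21 LD3_c57) Lrfl Lrfl
theorem f576185 : Led Lsl_gf (LP (LK LD1_c12 LD2_c8 LD3_c9)) = (LP (LK LD1_c12 LD2_c21 LD3_c57)) :=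
  Lgr Lrot141 (Lpe (f576170 IH) (Lpr_dt (f576162 IH) (Lpr_gt (f39987 IH) (Lpe (K1.f37781 IH) (Lpr_et (f37795 IH) (Lpr_gt (f576181 IH) (Lpr_dt (f201985 IH) (Lpr_gt (f503185 IH) (Lpe (f56507 IH) (Lpr_et (f503187 IH) (Lpn (LP (LK LD1_c12 LD2_c21 LD3_c57)))))))))))))
theorem f607991 : Led Lsl_ct (LP (LK LD1_c12 LD2_c6 LD3_c32)) = (LP (LK LD1_c12 LD2_c21 LD3_c57)) :=
  Lgr Lrot152 (Lpr_gf (f607989 IH) (Lpr_df (K40.f443106 IH) (Lpr_gt (K40.f70725 IH) (Lpr_ct (f205550 IH) (Lpr_gt (K39.f205558 IH) (Lpe (K39.f543477 IH) (Lpe (K46.f40019 IH) (Lpe (K43.f80505 IH) (Lpr_gf (f576185 IH) (Lpn (LP (LK LD1_c12 LD2_c21 LD3_c57))))))))))))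
theorem f80409 : Led Lsl_et (LP (LK LD1_c6 LD2_c13 LD3_c58)) = (LP (LK LD1_c12 LD2_c6 LD3_c32)) :=
  Lre_e IH (LK LD1_c6 LD2_c13 LD3_c58) (LK LD1_c12 LD2_c6 LD3_c32) Lrfl Lrfl
theorem f56355 : Led Lsl_et (LP (LK LD1_c12 LD2_c21 LD3_c57)) = (LP (LK LD1_c6 LD2_c24 LD3_c22)) :=
  Lre_e IH (LK LD1_c12 LD2_c21 LD3_c57) (LK LD1_c6 LD2_c24 LD3_c22) Lrfl Lrfl
theorem f607997 : Led Lsl_cf (LP (LK LD1_c6 LD2_c13 LD3_c58)) = (LP (LK LD1_c6 LD2_c24 LD3_c22)) :=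
  Lgr Lrot39 (Lpr_et (f80409 IH) (Lpr_ct (f607991 IH) (Lpr_et (f56355 IH) (Lpn (LP (LK LD1_c6 LD2_c24 LD3_c22))))))
theorem f34095 : Led Lsl_gt (LP (LK LD1_c15 LD2_c10 LD3_c51)) = (LP (LK LD1_c8 LD2_c3 LD3_c51)) :=
  Lre_g IH (LK LD1_c15 LD2_c10 LD3_c51) (LK LD1_c8 LD2_c3 LD3_c51) Lrfl Lrfl
theorem f56505 : Led Lsl_gt (LP (LK LD1_c4 LD2_c39 LD3_c40)) = (LP (LK LD1_c6 LD2_c24 LD3_c22)) :=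
  Lgr Lrot5 (Lpr_ft (K1.f56089 IH) (Lpr_at (K39.f56346 IH) (Lpe (f56352 IH) (Lpn (LP (LK LD1_c6 LD2_c24 LD3_c22))))))
theorem f608002 : Led Lsl_cf (LP (LK LD1_c15 LD2_c10 LD3_c51)) = (LP (LK LD1_c8 LD2_c10 LD3_c43)) :=
  Lgr Lrot169 (Lpr_gt (f34095 IH) (Lpr_ct (K10.f34480 IH) (Lpe (K32.f81135 IH) (Lpr_cf (K10.f81141 IH) (Lpe (f70166 IH) (Lpr_cf (f607997 IH) (Lpe (f56505 IH) (Lpe (K1.f56090 IH) (Lpr_gt (K37.f46720 IH) (Lpn (LP (LK LD1_c8 LD2_c10 LD3_c43))))))))))))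
theorem f608004 : Led Lsl_ct (LP (LK LD1_c15 LD2_c10 LD3_c51)) = (LP (LK LD1_c8 LD2_c10 LD3_c43)) :=
  Lgr Lrot59 (Lpr_cf (f608002 IH) (Lpn (LP (LK LD1_c8 LD2_c10 LD3_c43))))
theorem f34434 : Led Lsl_af (LP (LK LD1_c8 LD2_c3 LD3_c51)) = (LP (LK LD1_c8 LD2_c5 LD3_c20)) :=
  Lgr Lrot0 (Lpr_at (K10.f34428 IH) (Lpn (LP (LK LD1_c8 LD2_c5 LD3_c20))))
theorem f34235 : Led Lsl_ft (LP (LK LD1_c15 LD2_c13 LD3_c59)) = (LP (LK LD1_c8 LD2_c5 LD3_c20)) :=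
  Lre_f IH (LK LD1_c15 LD2_c13 LD3_c59) (LK LD1_c8 LD2_c5 LD3_c20) Lrfl Lrfl
theorem f34525 : Led Lsl_gf (LP (LK LD1_c15 LD2_c10 LD3_c51)) = (LP (LK LD1_c15 LD2_c13 LD3_c59)) :=
  Lgr Lrot47 (Lpr_gt (f34095 IH) (Lpr_af (f34434 IH) (Lpe (f34235 IH) (Lpn (LP (LK LD1_c15 LD2_c13 LD3_c59))))))
theorem f34426 : Led Lsl_at (LP (LK LD1_c8 LD2_c3 LD3_c54)) = (LP (LK LD1_c8 LD2_c5 LD3_c23)) :=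
  Lgr Lrot107 (Lpe (K2.f34115 IH) (Lpr_af (K10.f34419 IH) (Lpe (K2.f34218 IH) (Lpn (LP (LK LD1_c8 LD2_c5 LD3_c23))))))
theorem f34530 : Led Lsl_gt (LP (LK LD1_c4 LD2_c1 LD3_c37)) = (LP (LK LD1_c8 LD2_c3 LD3_c52)) :=
  Lre_g IH (LK LD1_c4 LD2_c1 LD3_c37) (LK LD1_c8 LD2_c3 LD3_c52) Lrfl Lrfl
theorem f34531 : Led Lsl_gt (LP (LK LD1_c8 LD2_c3 LD3_c52)) = (LP (LK LD1_c8 LD2_c5 LD3_c23)) :=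
  Lgr Lrot46 (Lpe (f34530 IH) (Lpr_ft (K32.f34475 IH) (Lpr_at (f34426 IH) (Lpn (LP (LK LD1_c8 LD2_c5 LD3_c23))))))
theorem f81317 : Led Lsl_et (LP (LK LD1_c3 LD2_c10 LD3_c1)) = (LP (LK LD1_c6 LD2_c24 LD3_c52)) :=
  Lre_e IH (LK LD1_c3 LD2_c10 LD3_c1) (LK LD1_c6 LD2_c24 LD3_c52) Lrfl Lrfl
theorem f59772 : Led Lsl_gt (LP (LK LD1_c6 LD2_c24 LD3_c52)) = (LP (LK LD1_c12 LD2_c22 LD3_c41)) :=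
  Lre_g IH (LK LD1_c6 LD2_c24 LD3_c52) (LK LD1_c12 LD2_c22 LD3_c41) Lrfl Lrfl
theorem f70167 : Led Lsl_gf (LP (LK LD1_c6 LD2_c13 LD3_c58)) = (LP (LK LD1_c8 LD2_c45 LD3_c32)) :=
  Lgr Lrot47 (Lpr_gt (f70166 IH) (Lpr_af (K2.f70152 IH) (Lpe (K2.f70151 IH) (Lpn (LP (LK LD1_c8 LD2_c45 LD3_c32))))))
theorem f607818 : Led Lsl_dt (LP (LK LD1_c12 LD2_c22 LD3_c41)) = (LP (LK LD1_c8 LD2_c3 LD3_c52)) :=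
  Lgr Lrot171 (Lpe (f59772 IH) (Lpe (f81317 IH) (Lpr_dt (K46.f81314 IH) (Lpr_gf (f607814 IH) (Lpr_df (f80359 IH) (Lpr_et (f70174 IH) (Lpr_gf (f70167 IH) (Lpe (K32.f81350 IH) (Lpr_dt (K37.f81228 IH) (Lpe (f34531 IH) (Lpn (LP (LK LD1_c8 LD2_c3 LD3_c52)))))))))))))
theorem f607821 : Led Lsl_df (LP (LK LD1_c12 LD2_c22 LD3_c41)) = (LP (LK LD1_c8 LD2_c3 LD3_c52)) :=
  Lgr Lrot38 (Lpr_dt (f607818 IH) (Lpn (LP (LK LD1_c8 LD2_c3 LD3_c52))))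
theorem f69521 : Led Lsl_ct (LP (LK LD1_c8 LD2_c51 LD3_c6)) = (LP (LK LD1_c4 LD2_c26 LD3_c46)) :=
  Lre_c IH (LK LD1_c8 LD2_c51 LD3_c6) (LK LD1_c4 LD2_c26 LD3_c46) Lrfl Lrfl
theorem f69535 : Led Lsl_gt (LP (LK LD1_c16 LD2_c32 LD3_c59)) = (LP (LK LD1_c8 LD2_c51 LD3_c6)) :=
  Lre_g IH (LK LD1_c16 LD2_c32 LD3_c59) (LK LD1_c8 LD2_c51 LD3_c6) Lrfl Lrfl
theorem f37406 : Led Lsl_gt (LP (LK LD1_c15 LD2_c8 LD3_c37)) = (LP (LK LD1_c8 LD2_c2 LD3_c36)) :=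
  Lre_g IH (LK LD1_c15 LD2_c8 LD3_c37) (LK LD1_c8 LD2_c2 LD3_c36) Lrfl Lrfl
theorem f444891 : Led Lsl_ct (LP (LK LD1_c15 LD2_c8 LD3_c37)) = (LP (LK LD1_c16 LD2_c32 LD3_c59)) :=
  Lgr Lrot8 (Lpr_gt (f37406 IH) (Lpr_dt (K37.f81510 IH) (Lpr_gt (K37.f34477 IH) (Lpe (K10.f81156 IH) (Lpr_cf (K10.f81141 IH) (Lpe (K32.f70125 IH) (Lpe (K37.f70132 IH) (Lpr_df (K37.f444853 IH) (Lpe (f69535 IH) (Lpn (LP (LK LD1_c16 LD2_c32 LD3_c59))))))))))))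
theorem f608007 : Led Lsl_gt (LP (LK LD1_c12 LD2_c22 LD3_c41)) = (LP (LK LD1_c15 LD2_c8 LD3_c37)) :=
  Lgr Lrot9 (Lpr_df (f607821 IH) (Lpr_gt (f34531 IH) (Lpr_ct (K2.f34218 IH) (Lpe (f34525 IH) (Lpr_ct (f608004 IH) (Lpe (K8.f69511 IH) (Lpe (f69521 IH) (Lpe (f69535 IH) (Lpe (f444891 IH) (Lpn (LP (LK LD1_c15 LD2_c8 LD3_c37))))))))))))
theorem f81265 : Led Lsl_ft (LP (LK LD1_c6 LD2_c24 LD3_c52)) = (LP (LK LD1_c12 LD2_c22 LD3_c43)) :=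
  Lre_f IH (LK LD1_c6 LD2_c24 LD3_c52) (LK LD1_c12 LD2_c22 LD3_c43) Lrfl Lrfl
theorem f608009 : Led Lsl_at (LP (LK LD1_c12 LD2_c22 LD3_c43)) = (LP (LK LD1_c15 LD2_c8 LD3_c37)) :=
  Lgr Lrot26 (Lpe (f81265 IH) (Lpr_gt (f59772 IH) (Lpr_gt (f608007 IH) (Lpn (LP (LK LD1_c15 LD2_c8 LD3_c37))))))
theorem f81276 : Led Lsl_dt (LP (LK LD1_c21 LD2_c29 LD3_c31)) = (LP (LK LD1_c12 LD2_c22 LD3_c43)) :=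
  Lre_d IH (LK LD1_c21 LD2_c29 LD3_c31) (LK LD1_c12 LD2_c22 LD3_c43) Lrfl Lrfl
theorem f606955 : Led Lsl_ft (LP (LK LD1_c12 LD2_c6 LD3_c57)) = (LP (LK LD1_c16 LD2_c23 LD3_c47)) :=
  Lgr Lrot54 (Lpe (K46.f81250 IH) (Lpr_ff (K46.f606948 IH) (Lpe (f80841 IH) (Lpn (LP (LK LD1_c16 LD2_c23 LD3_c47))))))
theorem f607029 : Led Lsl_af (LP (LK LD1_c12 LD2_c6 LD3_c54)) = (LP (LK LD1_c16 LD2_c23 LD3_c47)) :=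
  Lgr Lrot45 (Lpr_ft (K46.f606970 IH) (Lpe (K46.f606964 IH) (Lpr_ft (f606955 IH) (Lpn (LP (LK LD1_c16 LD2_c23 LD3_c47))))))
theorem f607212 : Led Lsl_gf (LP (LK LD1_c21 LD2_c13 LD3_c0)) = (LP (LK LD1_c12 LD2_c6 LD3_c57)) :=
  Lgr Lrot47 (Lpr_gt (f59775 IH) (Lpr_af (f607029 IH) (Lpe (f606955 IH) (Lpn (LP (LK LD1_c12 LD2_c6 LD3_c57))))))
theorem f81339 : Led Lsl_ft (LP (LK LD1_c12 LD2_c22 LD3_c42)) = (LP (LK LD1_c21 LD2_c29 LD3_c31)) :=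
  Lre_f IH (LK LD1_c12 LD2_c22 LD3_c42) (LK LD1_c21 LD2_c29 LD3_c31) Lrfl Lrfl
theorem f607214 : Led Lsl_af (LP (LK LD1_c21 LD2_c13 LD3_c0)) = (LP (LK LD1_c21 LD2_c29 LD3_c31)) :=
  Lgr Lrot31 (Lpr_gf (f607212 IH) (Lpe (K46.f607031 IH) (Lpr_ft (f81339 IH) (Lpn (LP (LK LD1_c21 LD2_c29 LD3_c31))))))
theorem f607216 : Led Lsl_at (LP (LK LD1_c21 LD2_c13 LD3_c0)) = (LP (LK LD1_c21 LD2_c29 LD3_c31)) :=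
  Lgr Lrot100 (Lpr_af (f607214 IH) (Lpn (LP (LK LD1_c21 LD2_c29 LD3_c31))))
theorem f608015 : Led Lsl_df (LP (LK LD1_c21 LD2_c13 LD3_c0)) = (LP (LK LD1_c15 LD2_c8 LD3_c37)) :=
  Lgr Lrot18 (Lpr_at (f607216 IH) (Lpr_dt (f81276 IH) (Lpr_at (f608009 IH) (Lpn (LP (LK LD1_c15 LD2_c8 LD3_c37))))))
theorem f608017 : Led Lsl_dt (LP (LK LD1_c21 LD2_c13 LD3_c0)) = (LP (LK LD1_c15 LD2_c8 LD3_c37)) :=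
  Lgr Lrot42 (Lpr_df (f608015 IH) (Lpn (LP (LK LD1_c15 LD2_c8 LD3_c37))))
theorem f34491 : Led Lsl_et (LP (LK LD1_c1 LD2_c57 LD3_c45)) = (LP (LK LD1_c4 LD2_c1 LD3_c37)) :=
  Lre_e IH (LK LD1_c1 LD2_c57 LD3_c45) (LK LD1_c4 LD2_c1 LD3_c37) Lrfl Lrfl
theorem f240005 : Led Lsl_gt (LP (LK LD1_c15 LD2_c10 LD3_c29)) = (LP (LK LD1_c8 LD2_c3 LD3_c42)) :=
  Lre_g IH (LK LD1_c15 LD2_c10 LD3_c29) (LK LD1_c8 LD2_c3 LD3_c42) Lrfl Lrfl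
theorem f608019 : Led Lsl_et (LP (LK LD1_c21 LD2_c13 LD3_c0)) = (LP (LK LD1_c15 LD2_c10 LD3_c29)) :=
  Lgr Lrot185 (Lpr_dt (f608017 IH) (Lpe (f608007 IH) (Lpr_df (f607821 IH) (Lpe (f34530 IH) (Lpe (f34491 IH) (Lpr_dt (K0.f33713 IH) (Lpe (K13.f33823 IH) (Lpe (K13.f33824 IH) (Lpr_et (K18.f239974 IH) (Lpe (f240005 IH) (Lpn (LP (LK LD1_c15 LD2_c10 LD3_c29)))))))))))))
theorem f608024 : Led Lsl_ef (LP (LK LD1_c21 LD2_c13 LD3_c0)) = (LP (LK LD1_c15 LD2_c10 LD3_c29)) :=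
  Lgr Lrot88 (Lpr_et (f608019 IH) (Lpn (LP (LK LD1_c15 LD2_c10 LD3_c29))))
theorem f70408 : Led Lsl_et (LP (LK LD1_c2 LD2_c26 LD3_c54)) = (LP (LK LD1_c4 LD2_c58 LD3_c2)) :=
  Lre_e IH (LK LD1_c2 LD2_c26 LD3_c54) (LK LD1_c4 LD2_c58 LD3_c2) Lrfl Lrfl
theorem f37408 : Led Lsl_gt (LP (LK LD1_c4 LD2_c58 LD3_c2)) = (LP (LK LD1_c9 LD2_c46 LD3_c61)) :=
  Lre_g IH (LK LD1_c4 LD2_c58 LD3_c2) (LK LD1_c9 LD2_c46 LD3_c61) Lrfl Lrfl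
theorem f37625 : Led Lsl_et (LP (LK LD1_c17 LD2_c57 LD3_c8)) = (LP (LK LD1_c9 LD2_c46 LD3_c61)) :=
  Lre_e IH (LK LD1_c17 LD2_c57 LD3_c8) (LK LD1_c9 LD2_c46 LD3_c61) Lrfl Lrfl
theorem f211635 : Led Lsl_dt (LP (LK LD1_c15 LD2_c10 LD3_c30)) = (LP (LK LD1_c8 LD2_c3 LD3_c42)) :=
  Lre_d IH (LK LD1_c15 LD2_c10 LD3_c30) (LK LD1_c8 LD2_c3 LD3_c42) Lrfl Lrfl
theorem f272645 : Led Lsl_dt (LP (LK LD1_c17 LD2_c57 LD3_c8)) = (LP (LK LD1_c15 LD2_c10 LD3_c29)) :=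
  Lgr Lrot136 (Lpr_et (f37625 IH) (Lpe (f37408 IH) (Lpe (f70408 IH) (Lpr_dt (K1.f37682 IH) (Lpe (K11.f37693 IH) (Lpe (K31.f37694 IH) (Lpr_gf (K18.f272640 IH) (Lpe (K18.f211634 IH) (Lpr_dt (f211635 IH) (Lpe (f240005 IH) (Lpn (LP (LK LD1_c15 LD2_c10 LD3_c29)))))))))))))
theorem f272652 : Led Lsl_df (LP (LK LD1_c17 LD2_c57 LD3_c8)) = (LP (LK LD1_c15 LD2_c10 LD3_c29)) :=
  Lgr Lrot38 (Lpr_dt (f272645 IH) (Lpn (LP (LK LD1_c15 LD2_c10 LD3_c29))))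
theorem f272647 : Led Lsl_gt (LP (LK LD1_c27 LD2_c41 LD3_c47)) = (LP (LK LD1_c17 LD2_c57 LD3_c8)) :=
  Lre_g IH (LK LD1_c27 LD2_c41 LD3_c47) (LK LD1_c17 LD2_c57 LD3_c8) Lrfl Lrfl
theorem f33689 : Led Lsl_ct (LP (LK LD1_c8 LD2_c4 LD3_c34)) = (LP (LK LD1_c8 LD2_c3 LD3_c55)) :=
  Lgr Lrot15 (Lpe (K2.f33687 IH) (Lpr_cf (K0.f33678 IH) (Lpe (f33688 IH) (Lpn (LP (LK LD1_c8 LD2_c3 LD3_c55))))))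
theorem f33757 : Led Lsl_et (LP (LK LD1_c4 LD2_c2 LD3_c25)) = (LP (LK LD1_c8 LD2_c5 LD3_c24)) :=
  Lre_e IH (LK LD1_c4 LD2_c2 LD3_c25) (LK LD1_c8 LD2_c5 LD3_c24) Lrfl Lrfl
theorem f33780 : Led Lsl_ct (LP (LK LD1_c8 LD2_c5 LD3_c24)) = (LP (LK LD1_c5 LD2_c9 LD3_c22)) :=
  Lgr Lrot15 (Lpe (f33757 IH) (Lpr_cf (K0.f33765 IH) (Lpe (K2.f21721 IH) (Lpn (LP (LK LD1_c5 LD2_c9 LD3_c22))))))
theorem f34405 : Led Lsl_at (LP (LK LD1_c8 LD2_c3 LD3_c55)) = (LP (LK LD1_c8 LD2_c5 LD3_c24)) :=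
  Lgr Lrot107 (Lpe (f33689 IH) (Lpr_af (K2.f34403 IH) (Lpe (f33780 IH) (Lpn (LP (LK LD1_c8 LD2_c5 LD3_c24))))))
theorem f34128 : Led Lsl_ft (LP (LK LD1_c15 LD2_c10 LD3_c59)) = (LP (LK LD1_c8 LD2_c3 LD3_c55)) :=
  Lre_f IH (LK LD1_c15 LD2_c10 LD3_c59) (LK LD1_c8 LD2_c3 LD3_c55) Lrfl Lrfl
theorem f34268 : Led Lsl_gt (LP (LK LD1_c15 LD2_c14 LD3_c6)) = (LP (LK LD1_c8 LD2_c5 LD3_c24)) :=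
  Lre_g IH (LK LD1_c15 LD2_c14 LD3_c6) (LK LD1_c8 LD2_c5 LD3_c24) Lrfl Lrfl
theorem f34558 : Led Lsl_gt (LP (LK LD1_c15 LD2_c10 LD3_c59)) = (LP (LK LD1_c15 LD2_c14 LD3_c6)) :=
  Lgr Lrot5 (Lpr_ft (f34128 IH) (Lpr_at (f34405 IH) (Lpe (f34268 IH) (Lpn (LP (LK LD1_c15 LD2_c14 LD3_c6))))))
theorem f34560 : Led Lsl_et (LP (LK LD1_c25 LD2_c3 LD3_c12)) = (LP (LK LD1_c15 LD2_c14 LD3_c6)) :=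
  Lre_e IH (LK LD1_c25 LD2_c3 LD3_c12) (LK LD1_c15 LD2_c14 LD3_c6) Lrfl Lrfl
theorem f608026 : Led Lsl_dt (LP (LK LD1_c25 LD2_c3 LD3_c12)) = (LP (LK LD1_c27 LD2_c41 LD3_c47)) :=
  Lgr Lrot136 (Lpr_et (f34560 IH) (Lpe (f34558 IH) (Lpe (K2.f34116 IH) (Lpe (K10.f81128 IH) (Lpe (K40.f81449 IH) (Lpe (f59747 IH) (Lpe (f59775 IH) (Lpr_ef (f608024 IH) (Lpe (f272652 IH) (Lpe (f272647 IH) (Lpn (LP (LK LD1_c27 LD2_c41 LD3_c47)))))))))))))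
theorem f608796 : Led Lsl_gt (LP (LK LD1_c23 LD2_c18 LD3_c2)) = (LP (LK LD1_c25 LD2_c3 LD3_c12)) :=
  Lgr Lrot137 (Lpr_ef (f608794 IH) (Lpr_dt (f239768 IH) (Lpe (f445566 IH) (Lpe (f59764 IH) (Lpr_et (f59748 IH) (Lpe (f59775 IH) (Lpr_ef (f608024 IH) (Lpe (f272652 IH) (Lpe (f272647 IH) (Lpe (f608026 IH) (Lpn (LP (LK LD1_c25 LD2_c3 LD3_c12)))))))))))))
theorem f517496 : Led Lsl_ft (LP (LK LD1_c13 LD2_c49 LD3_c8)) = (LP (LK LD1_c23 LD2_c18 LD3_c5)) :=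
  Lre_f IH (LK LD1_c13 LD2_c49 LD3_c8) (LK LD1_c23 LD2_c18 LD3_c5) Lrfl Lrfl
theorem f608798 : Led Lsl_at (LP (LK LD1_c23 LD2_c18 LD3_c5)) = (LP (LK LD1_c25 LD2_c3 LD3_c12)) :=
  Lgr Lrot26 (Lpe (f517496 IH) (Lpr_gt (f608768 IH) (Lpr_gt (f608796 IH) (Lpn (LP (LK LD1_c25 LD2_c3 LD3_c12))))))
theorem f608800 : Led Lsl_af (LP (LK LD1_c23 LD2_c18 LD3_c5)) = (LP (LK LD1_c25 LD2_c3 LD3_c12)) :=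
  Lgr Lrot0 (Lpr_at (f608798 IH) (Lpn (LP (LK LD1_c25 LD2_c3 LD3_c12))))
theorem f608030 : Led Lsl_et (LP (LK LD1_c15 LD2_c14 LD3_c6)) = (LP (LK LD1_c25 LD2_c3 LD3_c12)) :=
  Lre_e IH (LK LD1_c15 LD2_c14 LD3_c6) (LK LD1_c25 LD2_c3 LD3_c12) Lrfl Lrfl
theorem f609992 : Led Lsl_at (LP (LK LD1_c15 LD2_c10 LD3_c61)) = (LP (LK LD1_c15 LD2_c14 LD3_c6)) :=
  Lgr Lrot80 (Lpr_ef (f609990 IH) (Lpr_af (f608800 IH) (Lpe (f608030 IH) (Lpn (LP (LK LD1_c15 LD2_c14 LD3_c6))))))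
theorem f34262 : Led Lsl_gt (LP (LK LD1_c8 LD2_c5 LD3_c24)) = (LP (LK LD1_c15 LD2_c14 LD3_c5)) :=
  Lre_g IH (LK LD1_c8 LD2_c5 LD3_c24) (LK LD1_c15 LD2_c14 LD3_c5) Lrfl Lrfl
theorem f34550 : Led Lsl_gf (LP (LK LD1_c15 LD2_c10 LD3_c59)) = (LP (LK LD1_c15 LD2_c14 LD3_c5)) :=
  Lgr Lrot76 (Lpr_af (K2.f34415 IH) (Lpe (K2.f34249 IH) (Lpr_gt (f34262 IH) (Lpn (LP (LK LD1_c15 LD2_c14 LD3_c5))))))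
theorem f609994 : Led Lsl_ff (LP (LK LD1_c15 LD2_c10 LD3_c61)) = (LP (LK LD1_c15 LD2_c14 LD3_c5)) :=
  Lgr Lrot52 (Lpr_at (f609992 IH) (Lpe (f34558 IH) (Lpr_gf (f34550 IH) (Lpn (LP (LK LD1_c15 LD2_c14 LD3_c5))))))
theorem f518610 : Led Lsl_ft (LP (LK LD1_c23 LD2_c18 LD3_c5)) = (LP (LK LD1_c13 LD2_c49 LD3_c8)) :=
  Lre_f IH (LK LD1_c23 LD2_c18 LD3_c5) (LK LD1_c13 LD2_c49 LD3_c8) Lrfl Lrfl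
theorem f518609 : Led Lsl_et (LP (LK LD1_c13 LD2_c49 LD3_c8)) = (LP (LK LD1_c7 LD2_c18 LD3_c10)) :=
  Lre_e IH (LK LD1_c13 LD2_c49 LD3_c8) (LK LD1_c7 LD2_c18 LD3_c10) Lrfl Lrfl
theorem f517481 : Led Lsl_dt (LP (LK LD1_c3 LD2_c38 LD3_c54)) = (LP (LK LD1_c7 LD2_c18 LD3_c10)) :=
  Lre_d IH (LK LD1_c3 LD2_c38 LD3_c54) (LK LD1_c7 LD2_c18 LD3_c10) Lrfl Lrfl
theorem f456547 : Led Lsl_dt (LP (LK LD1_c13 LD2_c46 LD3_c61)) = (LP (LK LD1_c7 LD2_c17 LD3_c3)) :=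
  Lre_d IH (LK LD1_c13 LD2_c46 LD3_c61) (LK LD1_c7 LD2_c17 LD3_c3) Lrfl Lrfl
theorem f517482 : Led Lsl_ft (LP (LK LD1_c7 LD2_c18 LD3_c10)) = (LP (LK LD1_c13 LD2_c46 LD3_c61)) :=
  Lgr Lrot54 (Lpe (f517481 IH) (Lpr_ff (K34.f517477 IH) (Lpe (f456547 IH) (Lpn (LP (LK LD1_c13 LD2_c46 LD3_c61))))))
theorem f610000 : Led Lsl_et (LP (LK LD1_c13 LD2_c46 LD3_c61)) = (LP (LK LD1_c15 LD2_c14 LD3_c5)) :=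
  Lgr Lrot69 (Lpe (f517482 IH) (Lpe (f518609 IH) (Lpe (f518610 IH) (Lpe (f609986 IH) (Lpr_ff (f609994 IH) (Lpn (LP (LK LD1_c15 LD2_c14 LD3_c5))))))))
theorem f607009 : Led Lsl_et (LP (LK LD1_c13 LD2_c26 LD3_c38)) = (LP (LK LD1_c8 LD2_c3 LD3_c36)) :=
  Lgr Lrot87 (Lpr_ef (f607005 IH) (Lpn (LP (LK LD1_c8 LD2_c3 LD3_c36))))
theorem f610047 : Led Lsl_gt (LP (LK LD1_c7 LD2_c17 LD3_c3)) = (LP (LK LD1_c7 LD2_c5 LD3_c36)) :=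
  Lgr Lrot112 (Lpe (f456547 IH) (Lpr_et (f610000 IH) (Lpe (f34262 IH) (Lpe (f33757 IH) (Lpr_dt (K0.f33740 IH) (Lpe (K13.f197353 IH) (Lpe (K13.f81533 IH) (Lpe (K13.f197248 IH) (Lpe (f607009 IH) (Lpr_dt (f439240 IH) (Lpn (LP (LK LD1_c7 LD2_c5 LD3_c36)))))))))))))
theorem f517158 : Led Lsl_at (LP (LK LD1_c3 LD2_c38 LD3_c54)) = (LP (LK LD1_c7 LD2_c18 LD3_c9)) :=
  Lre_a IH (LK LD1_c3 LD2_c38 LD3_c54) (LK LD1_c7 LD2_c18 LD3_c9) Lrfl Lrfl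
theorem f610112 : Led Lsl_gf (LP (LK LD1_c7 LD2_c18 LD3_c9)) = (LP (LK LD1_c7 LD2_c5 LD3_c36)) :=
  Lgr Lrot76 (Lpe (f517158 IH) (Lpr_ff (K34.f517477 IH) (Lpr_gt (f610047 IH) (Lpn (LP (LK LD1_c7 LD2_c5 LD3_c36))))))
theorem f517502 : Led Lsl_dt (LP (LK LD1_c7 LD2_c18 LD3_c9)) = (LP (LK LD1_c13 LD2_c49 LD3_c4)) :=
  Lre_d IH (LK LD1_c7 LD2_c18 LD3_c9) (LK LD1_c13 LD2_c49 LD3_c4) Lrfl Lrfl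
theorem f464985 : Led Lsl_et (LP (LK LD1_c13 LD2_c40 LD3_c42)) = (LP (LK LD1_c7 LD2_c13 LD3_c34)) :=
  Lre_e IH (LK LD1_c13 LD2_c40 LD3_c42) (LK LD1_c7 LD2_c13 LD3_c34) Lrfl Lrfl
theorem f610119 : Led Lsl_gt (LP (LK LD1_c13 LD2_c49 LD3_c4)) = (LP (LK LD1_c23 LD2_c6 LD3_c15)) :=
  Lgr Lrot139 (Lpe (f517502 IH) (Lpr_gf (f610112 IH) (Lpe (K24.f439241 IH) (Lpe (K40.f552221 IH) (Lpe (K32.f237360 IH) (Lpq (K45.f542939 IH) (Lpe (K45.f519639 IH) (Lpr_et (f160501 IH) (Lpe (K39.f160509 IH) (Lpe (f464985 IH) (Lpr_dt (f464986 IH) (Lpn (LP (LK LD1_c23 LD2_c6 LD3_c15))))))))))))))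
theorem f610002 : Led Lsl_ft (LP (LK LD1_c15 LD2_c10 LD3_c61)) = (LP (LK LD1_c15 LD2_c14 LD3_c5)) :=
  Lgr Lrot48 (Lpr_ff (f609994 IH) (Lpn (LP (LK LD1_c15 LD2_c14 LD3_c5))))
theorem f33750 : Led Lsl_gt (LP (LK LD1_c8 LD2_c3 LD3_c55)) = (LP (LK LD1_c15 LD2_c10 LD3_c60)) :=
  Lre_g IH (LK LD1_c8 LD2_c3 LD3_c55) (LK LD1_c15 LD2_c10 LD3_c60) Lrfl Lrfl
theorem f610010 : Led Lsl_af (LP (LK LD1_c15 LD2_c10 LD3_c60)) = (LP (LK LD1_c15 LD2_c14 LD3_c5)) :=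
  Lgr Lrot31 (Lpe (f33750 IH) (Lpe (f33730 IH) (Lpr_ft (f610002 IH) (Lpn (LP (LK LD1_c15 LD2_c14 LD3_c5))))))
theorem f609988 : Led Lsl_af (LP (LK LD1_c15 LD2_c10 LD3_c61)) = (LP (LK LD1_c15 LD2_c14 LD3_c6)) :=
  Lgr Lrot50 (Lpr_et (f609986 IH) (Lpr_at (f608798 IH) (Lpr_et (f34560 IH) (Lpn (LP (LK LD1_c15 LD2_c14 LD3_c6))))))
theorem f610014 : Led Lsl_ft (LP (LK LD1_c15 LD2_c10 LD3_c60)) = (LP (LK LD1_c15 LD2_c14 LD3_c6)) :=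
  Lgr Lrot101 (Lpr_af (f610010 IH) (Lpe (f610002 IH) (Lpr_af (f609988 IH) (Lpn (LP (LK LD1_c15 LD2_c14 LD3_c6))))))
theorem f116230 : Led Lsl_dt (LP (LK LD1_c23 LD2_c3 LD3_c17)) = (LP (LK LD1_c13 LD2_c38 LD3_c9)) :=
  Lre_d IH (LK LD1_c23 LD2_c3 LD3_c17) (LK LD1_c13 LD2_c38 LD3_c9) Lrfl Lrfl
theorem f33729 : Led Lsl_et (LP (LK LD1_c4 LD2_c1 LD3_c38)) = (LP (LK LD1_c8 LD2_c3 LD3_c55)) :=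
  Lre_e IH (LK LD1_c4 LD2_c1 LD3_c38) (LK LD1_c8 LD2_c3 LD3_c55) Lrfl Lrfl
theorem f607021 : Led Lsl_et (LP (LK LD1_c23 LD2_c3 LD3_c17)) = (LP (LK LD1_c15 LD2_c10 LD3_c60)) :=
  Lgr Lrot122 (Lpr_dt (f116230 IH) (Lpr_gt (K46.f116228 IH) (Lpe (f116226 IH) (Lpr_et (f607007 IH) (Lpr_gt (K13.f242490 IH) (Lpr_dt (K13.f33747 IH) (Lpr_gt (K13.f33745 IH) (Lpe (K0.f33723 IH) (Lpr_et (f33729 IH) (Lpr_gt (f33750 IH) (Lpn (LP (LK LD1_c15 LD2_c10 LD3_c60)))))))))))))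
theorem f517290 : Led Lsl_at (LP (LK LD1_c23 LD2_c17 LD3_c56)) = (LP (LK LD1_c13 LD2_c49 LD3_c8)) :=
  Lre_a IH (LK LD1_c23 LD2_c17 LD3_c56) (LK LD1_c13 LD2_c49 LD3_c8) Lrfl Lrfl
theorem f608802 : Led Lsl_ff (LP (LK LD1_c23 LD2_c17 LD3_c56)) = (LP (LK LD1_c25 LD2_c3 LD3_c12)) :=
  Lgr Lrot30 (Lpr_at (f517290 IH) (Lpr_ft (f517496 IH) (Lpr_at (f608798 IH) (Lpn (LP (LK LD1_c25 LD2_c3 LD3_c12))))))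
theorem f517503 : Led Lsl_et (LP (LK LD1_c23 LD2_c17 LD3_c56)) = (LP (LK LD1_c13 LD2_c49 LD3_c4)) :=
  Lre_e IH (LK LD1_c23 LD2_c17 LD3_c56) (LK LD1_c13 LD2_c49 LD3_c4) Lrfl Lrfl
theorem f610016 : Led Lsl_ff (LP (LK LD1_c23 LD2_c3 LD3_c17)) = (LP (LK LD1_c13 LD2_c49 LD3_c4)) :=
  Lgr Lrot72 (Lpr_et (f607021 IH) (Lpr_ft (f610014 IH) (Lpr_et (f608030 IH) (Lpe (f608802 IH) (Lpr_et (f517503 IH) (Lpn (LP (LK LD1_c13 LD2_c49 LD3_c4))))))))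
theorem f116229 : Led Lsl_dt (LP (LK LD1_c13 LD2_c38 LD3_c9)) = (LP (LK LD1_c23 LD2_c3 LD3_c17)) :=
  Lre_d IH (LK LD1_c13 LD2_c38 LD3_c9) (LK LD1_c23 LD2_c3 LD3_c17) Lrfl Lrfl
theorem f608902 : Led Lsl_at (LP (LK LD1_c23 LD2_c3 LD3_c17)) = (LP (LK LD1_c13 LD2_c46 LD3_c61)) :=
  Lgr Lrot51 (Lpe (f116229 IH) (Lpr_af (K46.f608894 IH) (Lpe (f456547 IH) (Lpn (LP (LK LD1_c13 LD2_c46 LD3_c61))))))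
theorem f610125 : Led Lsl_gf (LP (LK LD1_c13 LD2_c46 LD3_c61)) = (LP (LK LD1_c23 LD2_c6 LD3_c15)) :=
  Lgr Lrot76 (Lpe (f608902 IH) (Lpr_ff (f610016 IH) (Lpr_gt (f610119 IH) (Lpn (LP (LK LD1_c23 LD2_c6 LD3_c15))))))
theorem f456558 : Led Lsl_dt (LP (LK LD1_c7 LD2_c17 LD3_c3)) = (LP (LK LD1_c13 LD2_c46 LD3_c61)) :=
  Lre_d IH (LK LD1_c7 LD2_c17 LD3_c3) (LK LD1_c13 LD2_c46 LD3_c61) Lrfl Lrfl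
theorem f456557 : Led Lsl_et (LP (LK LD1_c7 LD2_c17 LD3_c3)) = (LP (LK LD1_c13 LD2_c47 LD3_c0)) :=
  Lre_e IH (LK LD1_c7 LD2_c17 LD3_c3) (LK LD1_c13 LD2_c47 LD3_c0) Lrfl Lrfl
theorem f610691 : Led Lsl_gt (LP (LK LD1_c13 LD2_c47 LD3_c0)) = (LP (LK LD1_c22 LD2_c49 LD3_c40)) :=
  Lgr Lrot131 (Lpe (f456557 IH) (Lpr_dt (f456558 IH) (Lpr_gf (f610125 IH) (Lpe (f464986 IH) (Lpe (f610678 IH) (Lpe (f482572 IH) (Lpr_dt (f515427 IH) (Lpe (f515452 IH) (Lpr_df (f610676 IH) (Lpr_et (f610689 IH) (Lpn (LP (LK LD1_c22 LD2_c49 LD3_c40)))))))))))))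
theorem f529204 : Led Lsl_gt (LP (LK LD1_c7 LD2_c19 LD3_c32)) = (LP (LK LD1_c6 LD2_c52 LD3_c25)) :=
  Lgr Lrot180 (Lpr_ct (K42.f529193 IH) (Lpr_gt (K33.f466568 IH) (Lpr_dt (K28.f466476 IH) (Lpr_gt (K28.f466566 IH) (Lpr_dt (K4.f106117 IH) (Lpe (K28.f17475 IH) (Lpe (K8.f17487 IH) (Lpe (K28.f10683 IH) (Lpr_df (K29.f464331 IH) (Lpn (LP (LK LD1_c6 LD2_c52 LD3_c25))))))))))))
theorem f529195 : Led Lsl_ct (LP (LK LD1_c13 LD2_c51 LD3_c20)) = (LP (LK LD1_c13 LD2_c25 LD3_c10)) :=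
  Lgr Lrot59 (Lpr_cf (K42.f529187 IH) (Lpn (LP (LK LD1_c13 LD2_c25 LD3_c10))))
theorem f459221 : Led Lsl_gt (LP (LK LD1_c22 LD2_c43 LD3_c55)) = (LP (LK LD1_c13 LD2_c25 LD3_c10)) :=
  Lre_g IH (LK LD1_c22 LD2_c43 LD3_c55) (LK LD1_c13 LD2_c25 LD3_c10) Lrfl Lrfl
theorem f610693 : Led Lsl_cf (LP (LK LD1_c22 LD2_c43 LD3_c55)) = (LP (LK LD1_c22 LD2_c49 LD3_c40)) :=
  Lgr Lrot125 (Lpr_gt (f459221 IH) (Lpe (f529195 IH) (Lpr_bt (K42.f479765 IH) (Lpr_gt (f529204 IH) (Lpe (K29.f457401 IH) (Lpr_ct (K35.f455947 IH) (Lpr_gt (K29.f483722 IH) (Lpe (K33.f456532 IH) (Lpr_bt (K46.f456521 IH) (Lpr_gt (f610691 IH) (Lpn (LP (LK LD1_c22 LD2_c49 LD3_c40)))))))))))))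
theorem f610696 : Led Lsl_ct (LP (LK LD1_c22 LD2_c43 LD3_c55)) = (LP (LK LD1_c22 LD2_c49 LD3_c40)) :=
  Lgr Lrot59 (Lpr_cf (f610693 IH) (Lpn (LP (LK LD1_c22 LD2_c49 LD3_c40))))
theorem f480443 : Led Lsl_at (LP (LK LD1_c13 LD2_c25 LD3_c10)) = (LP (LK LD1_c22 LD2_c43 LD3_c56)) :=
  Lre_a IH (LK LD1_c13 LD2_c25 LD3_c10) (LK LD1_c22 LD2_c43 LD3_c56) Lrfl Lrfl
theorem f529198 : Led Lsl_cf (LP (LK LD1_c23 LD2_c20 LD3_c30)) = (LP (LK LD1_c22 LD2_c43 LD3_c56)) :=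
  Lgr Lrot1 (Lpr_at (f479734 IH) (Lpr_ct (f529195 IH) (Lpr_at (f480443 IH) (Lpn (LP (LK LD1_c22 LD2_c43 LD3_c56))))))
theorem f479732 : Led Lsl_ft (LP (LK LD1_c23 LD2_c20 LD3_c30)) = (LP (LK LD1_c13 LD2_c51 LD3_c13)) :=
  Lre_f IH (LK LD1_c23 LD2_c20 LD3_c30) (LK LD1_c13 LD2_c51 LD3_c13) Lrfl Lrfl
theorem f479739 : Led Lsl_at (LP (LK LD1_c13 LD2_c51 LD3_c13)) = (LP (LK LD1_c7 LD2_c19 LD3_c30)) :=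
  Lre_a IH (LK LD1_c13 LD2_c51 LD3_c13) (LK LD1_c7 LD2_c19 LD3_c30) Lrfl Lrfl
theorem f479775 : Led Lsl_at (LP (LK LD1_c13 LD2_c25 LD3_c56)) = (LP (LK LD1_c22 LD2_c45 LD3_c15)) :=
  Lre_a IH (LK LD1_c13 LD2_c25 LD3_c56) (LK LD1_c22 LD2_c45 LD3_c15) Lrfl Lrfl
theorem f479776 : Led Lsl_cf (LP (LK LD1_c13 LD2_c51 LD3_c13)) = (LP (LK LD1_c22 LD2_c45 LD3_c15)) :=
  Lgr Lrot1 (Lpr_at (f479739 IH) (Lpr_ct (K42.f479748 IH) (Lpr_at (f479775 IH) (Lpn (LP (LK LD1_c22 LD2_c45 LD3_c15))))))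
theorem f479779 : Led Lsl_ct (LP (LK LD1_c13 LD2_c51 LD3_c13)) = (LP (LK LD1_c22 LD2_c45 LD3_c15)) :=
  Lgr Lrot59 (Lpr_cf (f479776 IH) (Lpn (LP (LK LD1_c22 LD2_c45 LD3_c15))))
theorem f529200 : Led Lsl_ft (LP (LK LD1_c22 LD2_c45 LD3_c15)) = (LP (LK LD1_c22 LD2_c43 LD3_c56)) :=
  Lgr Lrot4 (Lpe (f479779 IH) (Lpe (f479732 IH) (Lpr_cf (f529198 IH) (Lpn (LP (LK LD1_c22 LD2_c43 LD3_c56))))))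
theorem f480447 : Led Lsl_at (LP (LK LD1_c22 LD2_c43 LD3_c56)) = (LP (LK LD1_c13 LD2_c25 LD3_c10)) :=
  Lre_a IH (LK LD1_c22 LD2_c43 LD3_c56) (LK LD1_c13 LD2_c25 LD3_c10) Lrfl Lrfl
theorem f529202 : Led Lsl_gt (LP (LK LD1_c22 LD2_c45 LD3_c15)) = (LP (LK LD1_c22 LD2_c43 LD3_c55)) :=
  Lgr Lrot5 (Lpr_ft (f529200 IH) (Lpr_at (f480447 IH) (Lpe (f459221 IH) (Lpn (LP (LK LD1_c22 LD2_c43 LD3_c55))))))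
theorem f470367 : Led Lsl_dt (LP (LK LD1_c13 LD2_c29 LD3_c18)) = (LP (LK LD1_c22 LD2_c49 LD3_c40)) :=
  Lre_d IH (LK LD1_c13 LD2_c29 LD3_c18) (LK LD1_c22 LD2_c49 LD3_c40) Lrfl Lrfl
theorem f470597 : Led Lsl_ct (LP (LK LD1_c22 LD2_c49 LD3_c39)) = (LP (LK LD1_c13 LD2_c29 LD3_c18)) :=
  Lre_c IH (LK LD1_c22 LD2_c49 LD3_c39) (LK LD1_c13 LD2_c29 LD3_c18) Lrfl Lrfl
theorem f547000 : Led Lsl_gf (LP (LK LD1_c22 LD2_c49 LD3_c39)) = (LP (LK LD1_c20 LD2_c21 LD3_c16)) :=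
  Lgr Lrot47 (Lpr_gt (K29.f470579 IH) (Lpr_af (K38.f546993 IH) (Lpe (K38.f270190 IH) (Lpn (LP (LK LD1_c20 LD2_c21 LD3_c16))))))
theorem f546995 : Led Lsl_ct (LP (LK LD1_c11 LD2_c23 LD3_c31)) = (LP (LK LD1_c20 LD2_c21 LD3_c16)) :=
  Lre_c IH (LK LD1_c11 LD2_c23 LD3_c31) (LK LD1_c20 LD2_c21 LD3_c16) Lrfl Lrfl
theorem f610708 : Led Lsl_gf (LP (LK LD1_c13 LD2_c51 LD3_c13)) = (LP (LK LD1_c13 LD2_c47 LD3_c19)) :=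
  Lgr Lrot147 (Lpr_ct (f479779 IH) (Lpr_gt (f529202 IH) (Lpr_ct (f610696 IH) (Lpe (f470367 IH) (Lpe (f470597 IH) (Lpr_gf (f547000 IH) (Lpe (f546995 IH) (Lpe (K43.f411489 IH) (Lpe (K43.f547026 IH) (Lpn (LP (LK LD1_c13 LD2_c47 LD3_c19))))))))))))
theorem f479720 : Led Lsl_at (LP (LK LD1_c7 LD2_c19 LD3_c30)) = (LP (LK LD1_c13 LD2_c51 LD3_c13)) :=
  Lre_a IH (LK LD1_c7 LD2_c19 LD3_c30) (LK LD1_c13 LD2_c51 LD3_c13) Lrfl Lrfl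
theorem f610710 : Led Lsl_gt (LP (LK LD1_c13 LD2_c51 LD3_c20)) = (LP (LK LD1_c13 LD2_c47 LD3_c19)) :=
  Lgr Lrot5 (Lpr_ft (K42.f479744 IH) (Lpr_at (f479720 IH) (Lpr_gf (f610708 IH) (Lpn (LP (LK LD1_c13 LD2_c47 LD3_c19))))))
theorem f479773 : Led Lsl_bt (LP (LK LD1_c7 LD2_c19 LD3_c32)) = (LP (LK LD1_c13 LD2_c51 LD3_c20)) :=
  Lre_b IH (LK LD1_c7 LD2_c19 LD3_c32) (LK LD1_c13 LD2_c51 LD3_c20) Lrfl Lrfl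
theorem f511733 : Led Lsl_bt (LP (LK LD1_c7 LD2_c19 LD3_c53)) = (LP (LK LD1_c3 LD2_c39 LD3_c51)) :=
  Lre_b IH (LK LD1_c7 LD2_c19 LD3_c53) (LK LD1_c3 LD2_c39 LD3_c51) Lrfl Lrfl
theorem f5350 : Led Lsl_ct (LP (LK LD1_c1 LD2_c46 LD3_c50)) = (LP (LK LD1_c0 LD2_c50 LD3_c8)) :=
  Lre_c IH (LK LD1_c1 LD2_c46 LD3_c50) (LK LD1_c0 LD2_c50 LD3_c8) Lrfl Lrfl
theorem f511759 : Led Lsl_bt (LP (LK LD1_c3 LD2_c39 LD3_c49)) = (LP (LK LD1_c1 LD2_c46 LD3_c50)) :=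
  Lre_b IH (LK LD1_c3 LD2_c39 LD3_c49) (LK LD1_c1 LD2_c46 LD3_c50) Lrfl Lrfl
theorem f511758 : Led Lsl_bt (LP (LK LD1_c1 LD2_c50 LD3_c31)) = (LP (LK LD1_c3 LD2_c46 LD3_c52)) :=
  Lre_b IH (LK LD1_c1 LD2_c50 LD3_c31) (LK LD1_c3 LD2_c46 LD3_c52) Lrfl Lrfl
theorem f511760 : Led Lsl_cf (LP (LK LD1_c3 LD2_c39 LD3_c49)) = (LP (LK LD1_c3 LD2_c46 LD3_c52)) :=
  Lgr Lrot97 (Lpr_bt (f511759 IH) (Lpr_ct (f5350 IH) (Lpr_bt (K34.f457062 IH) (Lpr_ct (K33.f511756 IH) (Lpr_bt (f511758 IH) (Lpn (LP (LK LD1_c3 LD2_c46 LD3_c52))))))))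
theorem f511773 : Led Lsl_et (LP (LK LD1_c3 LD2_c39 LD3_c49)) = (LP (LK LD1_c7 LD2_c19 LD3_c53)) :=
  Lre_e IH (LK LD1_c3 LD2_c39 LD3_c49) (LK LD1_c7 LD2_c19 LD3_c53) Lrfl Lrfl
theorem f460025 : Led Lsl_et (LP (LK LD1_c7 LD2_c34 LD3_c39)) = (LP (LK LD1_c3 LD2_c46 LD3_c52)) :=
  Lre_e IH (LK LD1_c7 LD2_c34 LD3_c39) (LK LD1_c3 LD2_c46 LD3_c52) Lrfl Lrfl
theorem f511774 : Led Lsl_ct (LP (LK LD1_c7 LD2_c19 LD3_c53)) = (LP (LK LD1_c7 LD2_c34 LD3_c39)) :=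
  Lgr Lrot15 (Lpe (f511773 IH) (Lpr_cf (f511760 IH) (Lpe (f460025 IH) (Lpn (LP (LK LD1_c7 LD2_c34 LD3_c39))))))
theorem f460020 : Led Lsl_gt (LP (LK LD1_c14 LD2_c17 LD3_c21)) = (LP (LK LD1_c7 LD2_c34 LD3_c39)) :=
  Lre_g IH (LK LD1_c14 LD2_c17 LD3_c21) (LK LD1_c7 LD2_c34 LD3_c39) Lrfl Lrfl
theorem f470250 : Led Lsl_bt (LP (LK LD1_c23 LD2_c14 LD3_c49)) = (LP (LK LD1_c13 LD2_c47 LD3_c19)) :=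
  Lre_b IH (LK LD1_c23 LD2_c14 LD3_c49) (LK LD1_c13 LD2_c47 LD3_c19) Lrfl Lrfl
theorem f610716 : Led Lsl_cf (LP (LK LD1_c14 LD2_c17 LD3_c21)) = (LP (LK LD1_c23 LD2_c14 LD3_c49)) :=
  Lgr Lrot160 (Lpr_gt (f460020 IH) (Lpe (f511774 IH) (Lpr_bt (f511733 IH) (Lpr_gt (K33.f511712 IH) (Lpr_ct (K33.f511838 IH) (Lpr_gt (K33.f488242 IH) (Lpe (K42.f529193 IH) (Lpr_bt (f479773 IH) (Lpr_gt (f610710 IH) (Lpe (f470250 IH) (Lpn (LP (LK LD1_c23 LD2_c14 LD3_c49)))))))))))))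
theorem f520952 : Led Lsl_af (LP (LK LD1_c7 LD2_c15 LD3_c28)) = (LP (LK LD1_c13 LD2_c4 LD3_c15)) :=
  Lgr Lrot68 (Lpr_ct (K30.f477547 IH) (Lpr_at (K34.f520946 IH) (Lpr_ct (K28.f458348 IH) (Lpn (LP (LK LD1_c13 LD2_c4 LD3_c15))))))
theorem f520965 : Led Lsl_at (LP (LK LD1_c7 LD2_c47 LD3_c61)) = (LP (LK LD1_c13 LD2_c40 LD3_c46)) :=
  Lgr Lrot51 (Lpe (K29.f477595 IH) (Lpr_af (f520952 IH) (Lpe (K33.f480603 IH) (Lpn (LP (LK LD1_c13 LD2_c40 LD3_c46))))))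
theorem f520973 : Led Lsl_ff (LP (LK LD1_c7 LD2_c47 LD3_c61)) = (LP (LK LD1_c7 LD2_c19 LD3_c56)) :=
  Lgr Lrot52 (Lpr_at (f520965 IH) (Lpe (K33.f475198 IH) (Lpe (K34.f511852 IH) (Lpn (LP (LK LD1_c7 LD2_c19 LD3_c56))))))
theorem f520982 : Led Lsl_ft (LP (LK LD1_c7 LD2_c47 LD3_c61)) = (LP (LK LD1_c7 LD2_c19 LD3_c56)) :=
  Lgr Lrot48 (Lpr_ff (f520973 IH) (Lpn (LP (LK LD1_c7 LD2_c19 LD3_c56))))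
theorem f520988 : Led Lsl_ff (LP (LK LD1_c7 LD2_c15 LD3_c28)) = (LP (LK LD1_c3 LD2_c39 LD3_c51)) :=
  Lgr Lrot19 (Lpr_dt (K29.f477595 IH) (Lpr_ft (f520982 IH) (Lpr_dt (K33.f511705 IH) (Lpn (LP (LK LD1_c3 LD2_c39 LD3_c51))))))
theorem f477592 : Led Lsl_bt (LP (LK LD1_c7 LD2_c15 LD3_c28)) = (LP (LK LD1_c13 LD2_c44 LD3_c6)) :=
  Lre_b IH (LK LD1_c7 LD2_c15 LD3_c28) (LK LD1_c13 LD2_c44 LD3_c6) Lrfl Lrfl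
theorem f521028 : Led Lsl_ft (LP (LK LD1_c13 LD2_c44 LD3_c6)) = (LP (LK LD1_c7 LD2_c19 LD3_c53)) :=
  Lgr Lrot75 (Lpe (f477592 IH) (Lpr_ff (f520988 IH) (Lpe (f511733 IH) (Lpn (LP (LK LD1_c7 LD2_c19 LD3_c53))))))
theorem f521030 : Led Lsl_ff (LP (LK LD1_c13 LD2_c44 LD3_c6)) = (LP (LK LD1_c7 LD2_c19 LD3_c53)) :=
  Lgr Lrot3 (Lpr_ft (f521028 IH) (Lpn (LP (LK LD1_c7 LD2_c19 LD3_c53))))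
theorem f477514 : Led Lsl_bt (LP (LK LD1_c13 LD2_c23 LD3_c9)) = (LP (LK LD1_c7 LD2_c3 LD3_c32)) :=
  Lre_b IH (LK LD1_c13 LD2_c23 LD3_c9) (LK LD1_c7 LD2_c3 LD3_c32) Lrfl Lrfl
theorem f477681 : Led Lsl_cf (LP (LK LD1_c13 LD2_c23 LD3_c9)) = (LP (LK LD1_c13 LD2_c44 LD3_c6)) :=
  Lgr Lrot97 (Lpr_bt (f477514 IH) (Lpr_ct (K29.f477533 IH) (Lpr_bt (K34.f470752 IH) (Lpr_ct (K29.f441629 IH) (Lpr_bt (f477592 IH) (Lpn (LP (LK LD1_c13 LD2_c44 LD3_c6))))))))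
theorem f460014 : Led Lsl_bt (LP (LK LD1_c3 LD2_c46 LD3_c54)) = (LP (LK LD1_c7 LD2_c34 LD3_c39)) :=
  Lre_b IH (LK LD1_c3 LD2_c46 LD3_c54) (LK LD1_c7 LD2_c34 LD3_c39) Lrfl Lrfl
theorem f511734 : Led Lsl_cf (LP (LK LD1_c7 LD2_c19 LD3_c53)) = (LP (LK LD1_c7 LD2_c34 LD3_c39)) :=
  Lgr Lrot97 (Lpr_bt (f511733 IH) (Lpr_ct (K33.f511704 IH) (Lpr_bt (K42.f511732 IH) (Lpr_ct (K33.f511717 IH) (Lpr_bt (f460014 IH) (Lpn (LP (LK LD1_c7 LD2_c34 LD3_c39))))))))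
theorem f521032 : Led Lsl_ft (LP (LK LD1_c13 LD2_c23 LD3_c9)) = (LP (LK LD1_c7 LD2_c34 LD3_c39)) :=
  Lgr Lrot4 (Lpr_cf (f477681 IH) (Lpr_ff (f521030 IH) (Lpr_cf (f511734 IH) (Lpn (LP (LK LD1_c7 LD2_c34 LD3_c39))))))
theorem f460037 : Led Lsl_at (LP (LK LD1_c7 LD2_c34 LD3_c39)) = (LP (LK LD1_c14 LD2_c17 LD3_c15)) :=
  Lre_a IH (LK LD1_c7 LD2_c34 LD3_c39) (LK LD1_c14 LD2_c17 LD3_c15) Lrfl Lrfl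
theorem f521034 : Led Lsl_ff (LP (LK LD1_c22 LD2_c41 LD3_c0)) = (LP (LK LD1_c14 LD2_c17 LD3_c15)) :=
  Lgr Lrot30 (Lpr_at (K34.f477686 IH) (Lpr_ft (f521032 IH) (Lpr_at (f460037 IH) (Lpn (LP (LK LD1_c14 LD2_c17 LD3_c15))))))
theorem f521038 : Led Lsl_ft (LP (LK LD1_c22 LD2_c41 LD3_c0)) = (LP (LK LD1_c14 LD2_c17 LD3_c15)) :=
  Lgr Lrot48 (Lpr_ff (f521034 IH) (Lpn (LP (LK LD1_c14 LD2_c17 LD3_c15))))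
theorem f460010 : Led Lsl_at (LP (LK LD1_c14 LD2_c17 LD3_c15)) = (LP (LK LD1_c7 LD2_c34 LD3_c39)) :=
  Lre_a IH (LK LD1_c14 LD2_c17 LD3_c15) (LK LD1_c7 LD2_c34 LD3_c39) Lrfl Lrfl
theorem f521044 : Led Lsl_gt (LP (LK LD1_c22 LD2_c41 LD3_c0)) = (LP (LK LD1_c14 LD2_c17 LD3_c21)) :=
  Lgr Lrot5 (Lpr_ft (f521038 IH) (Lpr_at (f460010 IH) (Lpe (f460020 IH) (Lpn (LP (LK LD1_c14 LD2_c17 LD3_c21))))))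
theorem f181391 : Led Lsl_gt (LP (LK LD1_c9 LD2_c2 LD3_c38)) = (LP (LK LD1_c16 LD2_c53 LD3_c4)) :=
  Lre_g IH (LK LD1_c9 LD2_c2 LD3_c38) (LK LD1_c16 LD2_c53 LD3_c4) Lrfl Lrfl
theorem f566245 : Led Lsl_gt (LP (LK LD1_c16 LD2_c53 LD3_c4)) = (LP (LK LD1_c13 LD2_c30 LD3_c35)) :=
  Lgr Lrot46 (Lpe (f181391 IH) (Lpr_ft (K41.f181388 IH) (Lpr_at (K41.f566239 IH) (Lpn (LP (LK LD1_c13 LD2_c30 LD3_c35))))))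
theorem f155686 : Led Lsl_dt (LP (LK LD1_c7 LD2_c14 LD3_c1)) = (LP (LK LD1_c13 LD2_c41 LD3_c25)) :=
  Lre_d IH (LK LD1_c7 LD2_c14 LD3_c1) (LK LD1_c13 LD2_c41 LD3_c25) Lrfl Lrfl
theorem f96808 : Led Lsl_dt (LP (LK LD1_c13 LD2_c30 LD3_c22)) = (LP (LK LD1_c7 LD2_c7 LD3_c50)) :=
  Lre_d IH (LK LD1_c13 LD2_c30 LD3_c22) (LK LD1_c7 LD2_c7 LD3_c50) Lrfl Lrfl
theorem f488841 : Led Lsl_ff (LP (LK LD1_c13 LD2_c30 LD3_c22)) = (LP (LK LD1_c22 LD2_c47 LD3_c55)) :=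
  Lgr Lrot19 (Lpr_dt (f96808 IH) (Lpr_ft (K33.f488837 IH) (Lpr_dt (f481144 IH) (Lpn (LP (LK LD1_c22 LD2_c47 LD3_c55))))))
theorem f488845 : Led Lsl_gf (LP (LK LD1_c13 LD2_c41 LD3_c25)) = (LP (LK LD1_c13 LD2_c28 LD3_c27)) :=
  Lgr Lrot76 (Lpr_af (K43.f162212 IH) (Lpr_ff (f488841 IH) (Lpr_gt (f481175 IH) (Lpn (LP (LK LD1_c13 LD2_c28 LD3_c27))))))
theorem f17586 : Led Lsl_gt (LP (LK LD1_c13 LD2_c51 LD3_c7)) = (LP (LK LD1_c7 LD2_c19 LD3_c25)) :=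
  Lre_g IH (LK LD1_c13 LD2_c51 LD3_c7) (LK LD1_c7 LD2_c19 LD3_c25) Lrfl Lrfl
theorem f17593 : Led Lsl_et (LP (LK LD1_c23 LD2_c20 LD3_c23)) = (LP (LK LD1_c13 LD2_c51 LD3_c7)) :=
  Lre_e IH (LK LD1_c23 LD2_c20 LD3_c23) (LK LD1_c13 LD2_c51 LD3_c7) Lrfl Lrfl
theorem f566225 : Led Lsl_df (LP (LK LD1_c16 LD2_c53 LD3_c4)) = (LP (LK LD1_c23 LD2_c20 LD3_c23)) :=
  Lgr Lrot168 (Lpe (f181391 IH) (Lpr_df (K41.f566221 IH) (Lpr_et (K29.f162846 IH) (Lpr_gf (K44.f162850 IH) (Lpe (K8.f155689 IH) (Lpr_dt (f155686 IH) (Lpr_gf (f488845 IH) (Lpr_df (f17577 IH) (Lpe (f17586 IH) (Lpe (f17593 IH) (Lpn (LP (LK LD1_c23 LD2_c20 LD3_c23)))))))))))))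
theorem f464839 : Led Lsl_ct (LP (LK LD1_c22 LD2_c51 LD3_c4)) = (LP (LK LD1_c13 LD2_c30 LD3_c13)) :=
  Lre_c IH (LK LD1_c22 LD2_c51 LD3_c4) (LK LD1_c13 LD2_c30 LD3_c13) Lrfl Lrfl
theorem f566249 : Led Lsl_gt (LP (LK LD1_c23 LD2_c20 LD3_c23)) = (LP (LK LD1_c22 LD2_c41 LD3_c22)) :=
  Lgr Lrot146 (Lpe (f566225 IH) (Lpr_gt (f566245 IH) (Lpr_ct (K41.f425390 IH) (Lpr_gt (K41.f493677 IH) (Lpr_ct (f464839 IH) (Lpe (K41.f466606 IH) (Lpe (K41.f63105 IH) (Lpe (K33.f63106 IH) (Lpe (K33.f476513 IH) (Lpn (LP (LK LD1_c22 LD2_c41 LD3_c22))))))))))))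
theorem f460023 : Led Lsl_gt (LP (LK LD1_c7 LD2_c34 LD3_c39)) = (LP (LK LD1_c14 LD2_c17 LD3_c20)) :=
  Lre_g IH (LK LD1_c7 LD2_c34 LD3_c39) (LK LD1_c14 LD2_c17 LD3_c20) Lrfl Lrfl
theorem f511749 : Led Lsl_ct (LP (LK LD1_c23 LD2_c54 LD3_c55)) = (LP (LK LD1_c14 LD2_c17 LD3_c20)) :=
  Lre_c IH (LK LD1_c23 LD2_c54 LD3_c55) (LK LD1_c14 LD2_c17 LD3_c20) Lrfl Lrfl
theorem f566266 : Led Lsl_bf (LP (LK LD1_c23 LD2_c20 LD3_c23)) = (LP (LK LD1_c23 LD2_c54 LD3_c55)) :=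
  Lgr Lrot165 (Lpr_gt (f566249 IH) (Lpr_ct (K33.f476513 IH) (Lpr_gt (K33.f63106 IH) (Lpe (K33.f63098 IH) (Lpr_bt (K33.f466481 IH) (Lpe (K33.f511715 IH) (Lpe (f511733 IH) (Lpr_ct (f511774 IH) (Lpr_gt (f460023 IH) (Lpe (f511749 IH) (Lpn (LP (LK LD1_c23 LD2_c54 LD3_c55)))))))))))))
theorem f566257 : Led Lsl_bt (LP (LK LD1_c16 LD2_c53 LD3_c4)) = (LP (LK LD1_c26 LD2_c49 LD3_c53)) :=
  Lre_b IH (LK LD1_c16 LD2_c53 LD3_c4) (LK LD1_c26 LD2_c49 LD3_c53) Lrfl Lrfl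
theorem f566273 : Led Lsl_dt (LP (LK LD1_c26 LD2_c49 LD3_c53)) = (LP (LK LD1_c23 LD2_c54 LD3_c55)) :=
  Lgr Lrot79 (Lpe (f566257 IH) (Lpr_df (f566225 IH) (Lpr_bf (f566266 IH) (Lpn (LP (LK LD1_c23 LD2_c54 LD3_c55))))))
theorem f181392 : Led Lsl_bt (LP (LK LD1_c26 LD2_c49 LD3_c53)) = (LP (LK LD1_c16 LD2_c53 LD3_c4)) :=
  Lre_b IH (LK LD1_c26 LD2_c49 LD3_c53) (LK LD1_c16 LD2_c53 LD3_c4) Lrfl Lrfl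
theorem f493680 : Led Lsl_gt (LP (LK LD1_c13 LD2_c30 LD3_c5)) = (LP (LK LD1_c22 LD2_c50 LD3_c57)) :=
  Lre_g IH (LK LD1_c13 LD2_c30 LD3_c5) (LK LD1_c22 LD2_c50 LD3_c57) Lrfl Lrfl
theorem f566251 : Led Lsl_ct (LP (LK LD1_c26 LD2_c49 LD3_c53)) = (LP (LK LD1_c22 LD2_c50 LD3_c57)) :=
  Lgr Lrot10 (Lpr_bt (f181392 IH) (Lpr_gt (f566245 IH) (Lpr_ct (K41.f425390 IH) (Lpr_gt (K41.f493677 IH) (Lpe (K41.f464959 IH) (Lpr_bt (K41.f464838 IH) (Lpr_gt (K28.f97378 IH) (Lpe (K39.f440175 IH) (Lpr_ct (K29.f460342 IH) (Lpr_gt (f493680 IH) (Lpn (LP (LK LD1_c22 LD2_c50 LD3_c57)))))))))))))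
theorem f566259 : Led Lsl_cf (LP (LK LD1_c26 LD2_c49 LD3_c53)) = (LP (LK LD1_c22 LD2_c50 LD3_c57)) :=
  Lgr Lrot11 (Lpr_ct (f566251 IH) (Lpn (LP (LK LD1_c22 LD2_c50 LD3_c57))))
theorem f11575 : Led Lsl_et (LP (LK LD1_c13 LD2_c27 LD3_c42)) = (LP (LK LD1_c7 LD2_c6 LD3_c11)) :=
  Lre_e IH (LK LD1_c13 LD2_c27 LD3_c42) (LK LD1_c7 LD2_c6 LD3_c11) Lrfl Lrfl
theorem f11576 : Led Lsl_et (LP (LK LD1_c7 LD2_c7 LD3_c18)) = (LP (LK LD1_c13 LD2_c29 LD3_c40)) :=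
  Lre_e IH (LK LD1_c7 LD2_c7 LD3_c18) (LK LD1_c13 LD2_c29 LD3_c40) Lrfl Lrfl
theorem f11577 : Led Lsl_df (LP (LK LD1_c13 LD2_c27 LD3_c42)) = (LP (LK LD1_c13 LD2_c29 LD3_c40)) :=
  Lgr Lrot70 (Lpr_et (f11575 IH) (Lpr_dt (K33.f11574 IH) (Lpr_et (K34.f11573 IH) (Lpr_dt (K8.f11555 IH) (Lpr_et (f11576 IH) (Lpn (LP (LK LD1_c13 LD2_c29 LD3_c40))))))))
theorem f11593 : Led Lsl_dt (LP (LK LD1_c13 LD2_c27 LD3_c42)) = (LP (LK LD1_c13 LD2_c29 LD3_c40)) :=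
  Lgr Lrot42 (Lpr_df (f11577 IH) (Lpn (LP (LK LD1_c13 LD2_c29 LD3_c40))))
theorem f11608 : Led Lsl_bt (LP (LK LD1_c22 LD2_c47 LD3_c12)) = (LP (LK LD1_c13 LD2_c27 LD3_c42)) :=
  Lre_b IH (LK LD1_c22 LD2_c47 LD3_c12) (LK LD1_c13 LD2_c27 LD3_c42) Lrfl Lrfl
theorem f11609 : Led Lsl_bt (LP (LK LD1_c13 LD2_c29 LD3_c40)) = (LP (LK LD1_c22 LD2_c50 LD3_c16)) :=
  Lre_b IH (LK LD1_c13 LD2_c29 LD3_c40) (LK LD1_c22 LD2_c50 LD3_c16) Lrfl Lrfl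
theorem f11610 : Led Lsl_df (LP (LK LD1_c22 LD2_c47 LD3_c12)) = (LP (LK LD1_c22 LD2_c50 LD3_c16)) :=
  Lgr Lrot12 (Lpr_bt (f11608 IH) (Lpr_dt (f11593 IH) (Lpr_bt (f11609 IH) (Lpn (LP (LK LD1_c22 LD2_c50 LD3_c16))))))
theorem f11617 : Led Lsl_et (LP (LK LD1_c22 LD2_c47 LD3_c12)) = (LP (LK LD1_c13 LD2_c27 LD3_c39)) :=
  Lre_e IH (LK LD1_c22 LD2_c47 LD3_c12) (LK LD1_c13 LD2_c27 LD3_c39) Lrfl Lrfl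
theorem f11618 : Led Lsl_dt (LP (LK LD1_c13 LD2_c27 LD3_c39)) = (LP (LK LD1_c7 LD2_c6 LD3_c10)) :=
  Lre_d IH (LK LD1_c13 LD2_c27 LD3_c39) (LK LD1_c7 LD2_c6 LD3_c10) Lrfl Lrfl
theorem f11620 : Led Lsl_et (LP (LK LD1_c13 LD2_c29 LD3_c38)) = (LP (LK LD1_c22 LD2_c50 LD3_c16)) :=
  Lre_e IH (LK LD1_c13 LD2_c29 LD3_c38) (LK LD1_c22 LD2_c50 LD3_c16) Lrfl Lrfl
theorem f11621 : Led Lsl_dt (LP (LK LD1_c13 LD2_c27 LD3_c40)) = (LP (LK LD1_c13 LD2_c29 LD3_c38)) :=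
  Lgr Lrot77 (Lpe (K34.f11619 IH) (Lpe (f11618 IH) (Lpe (f11617 IH) (Lpr_df (f11610 IH) (Lpe (f11620 IH) (Lpn (LP (LK LD1_c13 LD2_c29 LD3_c38))))))))
theorem f460024 : Led Lsl_ct (LP (LK LD1_c14 LD2_c17 LD3_c20)) = (LP (LK LD1_c23 LD2_c54 LD3_c55)) :=
  Lre_c IH (LK LD1_c14 LD2_c17 LD3_c20) (LK LD1_c23 LD2_c54 LD3_c55) Lrfl Lrfl
theorem f566282 : Led Lsl_gt (LP (LK LD1_c13 LD2_c27 LD3_c40)) = (LP (LK LD1_c7 LD2_c19 LD3_c53)) :=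
  Lgr Lrot146 (Lpr_dt (f11621 IH) (Lpr_gt (K41.f493675 IH) (Lpr_ct (K29.f460342 IH) (Lpr_gt (f493680 IH) (Lpe (f566259 IH) (Lpr_dt (f566273 IH) (Lpe (f460024 IH) (Lpe (f460023 IH) (Lpe (f511774 IH) (Lpn (LP (LK LD1_c7 LD2_c19 LD3_c53))))))))))))
theorem f511792 : Led Lsl_gt (LP (LK LD1_c7 LD2_c19 LD3_c53)) = (LP (LK LD1_c13 LD2_c52 LD3_c6)) :=
  Lre_g IH (LK LD1_c7 LD2_c19 LD3_c53) (LK LD1_c13 LD2_c52 LD3_c6) Lrfl Lrfl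
theorem f566286 : Led Lsl_at (LP (LK LD1_c13 LD2_c49 LD3_c41)) = (LP (LK LD1_c13 LD2_c52 LD3_c6)) :=
  Lgr Lrot26 (Lpe (K41.f513591 IH) (Lpr_gt (f566282 IH) (Lpr_gt (f511792 IH) (Lpn (LP (LK LD1_c13 LD2_c52 LD3_c6))))))
theorem f566307 : Led Lsl_ff (LP (LK LD1_c13 LD2_c38 LD3_c52)) = (LP (LK LD1_c13 LD2_c52 LD3_c6)) :=
  Lgr Lrot30 (Lpr_at (K34.f513483 IH) (Lpr_ft (K41.f513591 IH) (Lpr_at (f566286 IH) (Lpn (LP (LK LD1_c13 LD2_c52 LD3_c6))))))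
theorem f11628 : Led Lsl_gt (LP (LK LD1_c22 LD2_c47 LD3_c13)) = (LP (LK LD1_c13 LD2_c27 LD3_c40)) :=
  Lre_g IH (LK LD1_c22 LD2_c47 LD3_c13) (LK LD1_c13 LD2_c27 LD3_c40) Lrfl Lrfl
theorem f566327 : Led Lsl_gf (LP (LK LD1_c22 LD2_c47 LD3_c13)) = (LP (LK LD1_c13 LD2_c52 LD3_c6)) :=
  Lgr Lrot47 (Lpr_gt (f11628 IH) (Lpe (K34.f513483 IH) (Lpr_ff (f566307 IH) (Lpn (LP (LK LD1_c13 LD2_c52 LD3_c6))))))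
theorem f11626 : Led Lsl_ct (LP (LK LD1_c13 LD2_c29 LD3_c38)) = (LP (LK LD1_c22 LD2_c50 LD3_c15)) :=
  Lre_c IH (LK LD1_c13 LD2_c29 LD3_c38) (LK LD1_c22 LD2_c50 LD3_c15) Lrfl Lrfl
theorem f11627 : Led Lsl_dt (LP (LK LD1_c22 LD2_c50 LD3_c15)) = (LP (LK LD1_c30 LD2_c44 LD3_c47)) :=
  Lre_d IH (LK LD1_c22 LD2_c50 LD3_c15) (LK LD1_c30 LD2_c44 LD3_c47) Lrfl Lrfl
theorem f512972 : Led Lsl_cf (LP (LK LD1_c31 LD2_c27 LD3_c12)) = (LP (LK LD1_c30 LD2_c44 LD3_c47)) :=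
  Lgr Lrot11 (Lpr_ct (K35.f512970 IH) (Lpn (LP (LK LD1_c30 LD2_c44 LD3_c47))))
theorem f460493 : Led Lsl_dt (LP (LK LD1_c31 LD2_c27 LD3_c12)) = (LP (LK LD1_c24 LD2_c16 LD3_c46)) :=
  Lre_d IH (LK LD1_c31 LD2_c27 LD3_c12) (LK LD1_c24 LD2_c16 LD3_c46) Lrfl Lrfl
theorem f460480 : Led Lsl_ct (LP (LK LD1_c24 LD2_c16 LD3_c46)) = (LP (LK LD1_c14 LD2_c34 LD3_c13)) :=
  Lre_c IH (LK LD1_c24 LD2_c16 LD3_c46) (LK LD1_c14 LD2_c34 LD3_c13) Lrfl Lrfl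
theorem f566309 : Led Lsl_ct (LP (LK LD1_c23 LD2_c19 LD3_c16)) = (LP (LK LD1_c13 LD2_c52 LD3_c6)) :=
  Lgr Lrot98 (Lpe (K35.f486049 IH) (Lpe (f460480 IH) (Lpe (f460493 IH) (Lpr_cf (f512972 IH) (Lpe (f11627 IH) (Lpe (f11626 IH) (Lpe (f11621 IH) (Lpr_ft (K41.f513591 IH) (Lpr_at (f566286 IH) (Lpn (LP (LK LD1_c13 LD2_c52 LD3_c6))))))))))))
theorem f91080 : Led Lsl_gt (LP (LK LD1_c22 LD2_c13 LD3_c21)) = (LP (LK LD1_c13 LD2_c3 LD3_c28)) :=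
  Lre_g IH (LK LD1_c22 LD2_c13 LD3_c21) (LK LD1_c13 LD2_c3 LD3_c28) Lrfl Lrfl
theorem f512968 : Led Lsl_gt (LP (LK LD1_c23 LD2_c19 LD3_c16)) = (LP (LK LD1_c22 LD2_c13 LD3_c21)) :=
  Lgr Lrot5 (Lpr_ft (K35.f512960 IH) (Lpr_at (K35.f91076 IH) (Lpe (f91080 IH) (Lpn (LP (LK LD1_c22 LD2_c13 LD3_c21))))))
theorem f459925 : Led Lsl_bt (LP (LK LD1_c7 LD2_c34 LD3_c39)) = (LP (LK LD1_c3 LD2_c46 LD3_c54)) :=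
  Lre_b IH (LK LD1_c7 LD2_c34 LD3_c39) (LK LD1_c3 LD2_c46 LD3_c54) Lrfl Lrfl
theorem f459926 : Led Lsl_bt (LP (LK LD1_c3 LD2_c52 LD3_c51)) = (LP (LK LD1_c7 LD2_c47 LD3_c27)) :=
  Lre_b IH (LK LD1_c3 LD2_c52 LD3_c51) (LK LD1_c7 LD2_c47 LD3_c27) Lrfl Lrfl
theorem f459927 : Led Lsl_df (LP (LK LD1_c7 LD2_c34 LD3_c39)) = (LP (LK LD1_c7 LD2_c47 LD3_c27)) :=
  Lgr Lrot12 (Lpr_bt (f459925 IH) (Lpr_dt (K33.f459923 IH) (Lpr_bt (f459926 IH) (Lpn (LP (LK LD1_c7 LD2_c47 LD3_c27))))))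
theorem f460021 : Led Lsl_ct (LP (LK LD1_c14 LD2_c42 LD3_c2)) = (LP (LK LD1_c7 LD2_c47 LD3_c27)) :=
  Lre_c IH (LK LD1_c14 LD2_c42 LD3_c2) (LK LD1_c7 LD2_c47 LD3_c27) Lrfl Lrfl
theorem f534614 : Led Lsl_gf (LP (LK LD1_c7 LD2_c37 LD3_c24)) = (LP (LK LD1_c3 LD2_c51 LD3_c8)) :=
  Lgr Lrot76 (Lpe (K6.f130024 IH) (Lpr_ff (K46.f534600 IH) (Lpr_gt (K35.f527276 IH) (Lpn (LP (LK LD1_c3 LD2_c51 LD3_c8))))))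
theorem f475469 : Led Lsl_ct (LP (LK LD1_c7 LD2_c47 LD3_c2)) = (LP (LK LD1_c3 LD2_c52 LD3_c48)) :=
  Lre_c IH (LK LD1_c7 LD2_c47 LD3_c2) (LK LD1_c3 LD2_c52 LD3_c48) Lrfl Lrfl
theorem f475530 : Led Lsl_ct (LP (LK LD1_c14 LD2_c41 LD3_c41)) = (LP (LK LD1_c7 LD2_c47 LD3_c18)) :=
  Lre_c IH (LK LD1_c14 LD2_c41 LD3_c41) (LK LD1_c7 LD2_c47 LD3_c18) Lrfl Lrfl
theorem f475512 : Led Lsl_at (LP (LK LD1_c7 LD2_c47 LD3_c22)) = (LP (LK LD1_c14 LD2_c41 LD3_c41)) :=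
  Lre_a IH (LK LD1_c7 LD2_c47 LD3_c22) (LK LD1_c14 LD2_c41 LD3_c41) Lrfl Lrfl
theorem f474233 : Led Lsl_gt (LP (LK LD1_c14 LD2_c22 LD3_c12)) = (LP (LK LD1_c24 LD2_c0 LD3_c18)) :=
  Lre_g IH (LK LD1_c14 LD2_c22 LD3_c12) (LK LD1_c24 LD2_c0 LD3_c18) Lrfl Lrfl
theorem f475524 : Led Lsl_gf (LP (LK LD1_c14 LD2_c41 LD3_c41)) = (LP (LK LD1_c24 LD2_c0 LD3_c18)) :=
  Lgr Lrot76 (Lpe (f475512 IH) (Lpr_ff (K34.f475500 IH) (Lpr_gt (f474233 IH) (Lpn (LP (LK LD1_c24 LD2_c0 LD3_c18))))))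
theorem f531180 : Led Lsl_dt (LP (LK LD1_c7 LD2_c43 LD3_c39)) = (LP (LK LD1_c3 LD2_c51 LD3_c8)) :=
  Lre_d IH (LK LD1_c7 LD2_c43 LD3_c39) (LK LD1_c3 LD2_c51 LD3_c8) Lrfl Lrfl
theorem f531196 : Led Lsl_gt (LP (LK LD1_c7 LD2_c43 LD3_c39)) = (LP (LK LD1_c14 LD2_c34 LD3_c6)) :=
  Lre_g IH (LK LD1_c7 LD2_c43 LD3_c39) (LK LD1_c14 LD2_c34 LD3_c6) Lrfl Lrfl
theorem f534618 : Led Lsl_cf (LP (LK LD1_c24 LD2_c0 LD3_c18)) = (LP (LK LD1_c14 LD2_c34 LD3_c6)) :=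
  Lgr Lrot169 (Lpe (f475524 IH) (Lpr_ct (f475530 IH) (Lpe (K34.f475527 IH) (Lpe (f475469 IH) (Lpr_gf (K34.f532819 IH) (Lpr_cf (K6.f129586 IH) (Lpr_gf (f534614 IH) (Lpe (f531180 IH) (Lpr_gt (f531196 IH) (Lpn (LP (LK LD1_c14 LD2_c34 LD3_c6))))))))))))
theorem f475526 : Led Lsl_ct (LP (LK LD1_c7 LD2_c47 LD3_c18)) = (LP (LK LD1_c14 LD2_c41 LD3_c41)) :=
  Lre_c IH (LK LD1_c7 LD2_c47 LD3_c18) (LK LD1_c14 LD2_c41 LD3_c41) Lrfl Lrfl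
theorem f477676 : Led Lsl_bt (LP (LK LD1_c3 LD2_c45 LD3_c3)) = (LP (LK LD1_c7 LD2_c30 LD3_c56)) :=
  Lre_b IH (LK LD1_c3 LD2_c45 LD3_c3) (LK LD1_c7 LD2_c30 LD3_c56) Lrfl Lrfl
theorem f523489 : Led Lsl_bt (LP (LK LD1_c7 LD2_c34 LD3_c17)) = (LP (LK LD1_c6 LD2_c53 LD3_c32)) :=
  Lgr Lrot128 (Lpr_cf (K46.f523485 IH) (Lpe (K46.f471426 IH) (Lpe (K45.f483255 IH) (Lpe (f477676 IH) (Lpr_cf (K45.f483323 IH) (Lpn (LP (LK LD1_c6 LD2_c53 LD3_c32))))))))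
theorem f476195 : Led Lsl_df (LP (LK LD1_c7 LD2_c34 LD3_c17)) = (LP (LK LD1_c7 LD2_c48 LD3_c9)) :=
  Lgr Lrot38 (Lpr_dt (K46.f476192 IH) (Lpn (LP (LK LD1_c7 LD2_c48 LD3_c9))))
theorem f523495 : Led Lsl_bf (LP (LK LD1_c7 LD2_c48 LD3_c9)) = (LP (LK LD1_c13 LD2_c5 LD3_c61)) :=
  Lgr Lrot93 (Lpe (f476195 IH) (Lpr_bt (f523489 IH) (Lpr_dt (K45.f102631 IH) (Lpn (LP (LK LD1_c13 LD2_c5 LD3_c61))))))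
theorem f531191 : Led Lsl_bt (LP (LK LD1_c3 LD2_c51 LD3_c9)) = (LP (LK LD1_c7 LD2_c43 LD3_c39)) :=
  Lre_b IH (LK LD1_c3 LD2_c51 LD3_c9) (LK LD1_c7 LD2_c43 LD3_c39) Lrfl Lrfl
theorem f14837 : Led Lsl_ct (LP (LK LD1_c3 LD2_c51 LD3_c9)) = (LP (LK LD1_c7 LD2_c43 LD3_c40)) :=
  Lre_c IH (LK LD1_c3 LD2_c51 LD3_c9) (LK LD1_c7 LD2_c43 LD3_c40) Lrfl Lrfl
theorem f531019 : Led Lsl_dt (LP (LK LD1_c7 LD2_c42 LD3_c60)) = (LP (LK LD1_c3 LD2_c50 LD3_c55)) :=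
  Lre_d IH (LK LD1_c7 LD2_c42 LD3_c60) (LK LD1_c3 LD2_c50 LD3_c55) Lrfl Lrfl
theorem f15712 : Led Lsl_bt (LP (LK LD1_c0 LD2_c53 LD3_c3)) = (LP (LK LD1_c1 LD2_c52 LD3_c27)) :=
  Lre_b IH (LK LD1_c0 LD2_c53 LD3_c3) (LK LD1_c1 LD2_c52 LD3_c27) Lrfl Lrfl
theorem f17096 : Led Lsl_gt (LP (LK LD1_c1 LD2_c52 LD3_c27)) = (LP (LK LD1_c3 LD2_c50 LD3_c55)) :=
  Lre_g IH (LK LD1_c1 LD2_c52 LD3_c27) (LK LD1_c3 LD2_c50 LD3_c55) Lrfl Lrfl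
theorem f14809 : Led Lsl_bt (LP (LK LD1_c7 LD2_c42 LD3_c59)) = (LP (LK LD1_c3 LD2_c50 LD3_c55)) :=
  Lre_b IH (LK LD1_c7 LD2_c42 LD3_c59) (LK LD1_c3 LD2_c50 LD3_c55) Lrfl Lrfl
theorem f475284 : Led Lsl_cf (LP (LK LD1_c7 LD2_c7 LD3_c15)) = (LP (LK LD1_c7 LD2_c42 LD3_c59)) :=
  Lgr Lrot160 (Lpr_gt (K35.f475274 IH) (Lpe (K29.f460293 IH) (Lpr_bt (K29.f127758 IH) (Lpr_gt (K24.f460592 IH) (Lpr_ct (K24.f129788 IH) (Lpr_gt (K24.f129671 IH) (Lpe (K28.f11238 IH) (Lpr_bt (f15712 IH) (Lpr_gt (f17096 IH) (Lpe (f14809 IH) (Lpn (LP (LK LD1_c7 LD2_c42 LD3_c59)))))))))))))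
theorem f530865 : Led Lsl_ff (LP (LK LD1_c7 LD2_c42 LD3_c59)) = (LP (LK LD1_c3 LD2_c51 LD3_c5)) :=
  Lgr Lrot23 (Lpe (f475284 IH) (Lpr_ft (K41.f530861 IH) (Lpr_ct (K41.f471933 IH) (Lpn (LP (LK LD1_c3 LD2_c51 LD3_c5))))))
def v2677 : LQ := Led Lsl_ft (LP (LK LD1_c1 LD2_c52 LD3_c24))
theorem f530298 : Led Lsl_ft (LP (LK LD1_c1 LD2_c52 LD3_c24)) = v2677 :=
  Lrfl
theorem f530300 : Led Lsl_ff (LP (LK LD1_c1 LD2_c52 LD3_c24)) = v2677 :=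
  Lgr Lrot3 (Lpr_ft (f530298 IH) (Lpn v2677))
theorem f531014 : (LP (LK LD1_c3 LD2_c50 LD3_c55)) = v2677 :=
  (Llr Lrot35 (Lpe (f14809 IH) (Lpr_ff (f530865 IH) (Lpe (K41.f471186 IH) (Lpr_ff (f530300 IH) (Lpn v2677)))))).symm
theorem f530299 : Led Lsl_af (LP (LK LD1_c1 LD2_c52 LD3_c25)) = v2677 :=
  Lgr Lrot45 (Lpr_ft (K41.f530296 IH) (Lpe (K41.f530295 IH) (Lpr_ft (f530298 IH) (Lpn v2677))))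
theorem f14836 : Led Lsl_dt (LP (LK LD1_c1 LD2_c52 LD3_c25)) = (LP (LK LD1_c3 LD2_c51 LD3_c9)) :=
  Lre_d IH (LK LD1_c1 LD2_c52 LD3_c25) (LK LD1_c3 LD2_c51 LD3_c9) Lrfl Lrfl
theorem f531065 : Led Lsl_af (LP (LK LD1_c7 LD2_c42 LD3_c60)) = (LP (LK LD1_c3 LD2_c51 LD3_c9)) :=
  Lgr Lrot117 (Lpr_dt (f531019 IH) (Lpqs (f531014 IH) (Lpe (f530299 IH) (Lpr_dt (f14836 IH) (Lpn (LP (LK LD1_c3 LD2_c51 LD3_c9)))))))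
theorem f463881 : Led Lsl_ct (LP (LK LD1_c7 LD2_c42 LD3_c60)) = (LP (LK LD1_c14 LD2_c32 LD3_c42)) :=
  Lre_c IH (LK LD1_c7 LD2_c42 LD3_c60) (LK LD1_c14 LD2_c32 LD3_c42) Lrfl Lrfl
theorem f527272 : Led Lsl_ct (LP (LK LD1_c7 LD2_c43 LD3_c40)) = (LP (LK LD1_c3 LD2_c51 LD3_c9)) :=
  Lre_c IH (LK LD1_c7 LD2_c43 LD3_c40) (LK LD1_c3 LD2_c51 LD3_c9) Lrfl Lrfl
theorem f531071 : Led Lsl_at (LP (LK LD1_c14 LD2_c32 LD3_c42)) = (LP (LK LD1_c7 LD2_c43 LD3_c40)) :=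
  Lgr Lrot107 (Lpe (f463881 IH) (Lpr_af (f531065 IH) (Lpe (f527272 IH) (Lpn (LP (LK LD1_c7 LD2_c43 LD3_c40))))))
theorem f457544 : Led Lsl_dt (LP (LK LD1_c3 LD2_c51 LD3_c6)) = (LP (LK LD1_c1 LD2_c52 LD3_c24)) :=
  Lre_d IH (LK LD1_c3 LD2_c51 LD3_c6) (LK LD1_c1 LD2_c52 LD3_c24) Lrfl Lrfl
theorem f17097 : Led Lsl_dt (LP (LK LD1_c3 LD2_c50 LD3_c55)) = (LP (LK LD1_c7 LD2_c42 LD3_c60)) :=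
  Lre_d IH (LK LD1_c3 LD2_c50 LD3_c55) (LK LD1_c7 LD2_c42 LD3_c60) Lrfl Lrfl
theorem f531020 : Led Lsl_ff (LP (LK LD1_c3 LD2_c51 LD3_c6)) = (LP (LK LD1_c7 LD2_c42 LD3_c60)) :=
  Lgr Lrot19 (Lpr_dt (f457544 IH) (Lpr_ft (f530298 IH) (Lpq (f531014 IH) (Lpr_dt (f17097 IH) (Lpn (LP (LK LD1_c7 LD2_c42 LD3_c60)))))))
theorem f471189 : Led Lsl_ct (LP (LK LD1_c3 LD2_c51 LD3_c6)) = (LP (LK LD1_c7 LD2_c43 LD3_c34)) :=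
  Lre_c IH (LK LD1_c3 LD2_c51 LD3_c6) (LK LD1_c7 LD2_c43 LD3_c34) Lrfl Lrfl
theorem f472477 : Led Lsl_ct (LP (LK LD1_c14 LD2_c32 LD3_c42)) = (LP (LK LD1_c7 LD2_c42 LD3_c60)) :=
  Lre_c IH (LK LD1_c14 LD2_c32 LD3_c42) (LK LD1_c7 LD2_c42 LD3_c60) Lrfl Lrfl
theorem f531025 : Led Lsl_ft (LP (LK LD1_c7 LD2_c43 LD3_c34)) = (LP (LK LD1_c14 LD2_c32 LD3_c42)) :=
  Lgr Lrot4 (Lpe (f471189 IH) (Lpr_ff (f531020 IH) (Lpe (f472477 IH) (Lpn (LP (LK LD1_c14 LD2_c32 LD3_c42))))))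
theorem f479062 : Led Lsl_gt (LP (LK LD1_c7 LD2_c43 LD3_c34)) = (LP (LK LD1_c14 LD2_c33 LD3_c57)) :=
  Lre_g IH (LK LD1_c7 LD2_c43 LD3_c34) (LK LD1_c14 LD2_c33 LD3_c57) Lrfl Lrfl
theorem f531221 : Led Lsl_gt (LP (LK LD1_c14 LD2_c33 LD3_c57)) = (LP (LK LD1_c7 LD2_c43 LD3_c40)) :=
  Lgr Lrot46 (Lpe (f479062 IH) (Lpr_ft (f531025 IH) (Lpr_at (f531071 IH) (Lpn (LP (LK LD1_c7 LD2_c43 LD3_c40))))))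
theorem f534624 : Led Lsl_ct (LP (LK LD1_c13 LD2_c5 LD3_c61)) = (LP (LK LD1_c14 LD2_c33 LD3_c57)) :=
  Lgr Lrot64 (Lpe (f523495 IH) (Lpe (K46.f476188 IH) (Lpe (K34.f475767 IH) (Lpr_ct (f475526 IH) (Lpr_gf (f475524 IH) (Lpr_cf (f534618 IH) (Lpe (f531196 IH) (Lpe (f531191 IH) (Lpr_ct (f14837 IH) (Lpe (f531221 IH) (Lpn (LP (LK LD1_c14 LD2_c33 LD3_c57)))))))))))))
theorem f471193 : Led Lsl_gt (LP (LK LD1_c7 LD2_c43 LD3_c33)) = (LP (LK LD1_c3 LD2_c51 LD3_c6)) :=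
  Lre_g IH (LK LD1_c7 LD2_c43 LD3_c33) (LK LD1_c3 LD2_c51 LD3_c6) Lrfl Lrfl
theorem f534636 : Led Lsl_bt (LP (LK LD1_c3 LD2_c51 LD3_c61)) = (LP (LK LD1_c7 LD2_c43 LD3_c33)) :=
  Lgr Lrot130 (Lpr_ct (K29.f461190 IH) (Lpe (K29.f461165 IH) (Lpe (K29.f459918 IH) (Lpr_bt (K29.f461167 IH) (Lpe (K46.f461192 IH) (Lpr_bf (f523495 IH) (Lpr_ct (f534624 IH) (Lpe (f479062 IH) (Lpe (f471189 IH) (Lpe (f471193 IH) (Lpn (LP (LK LD1_c7 LD2_c43 LD3_c33)))))))))))))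
theorem f460015 : Led Lsl_bt (LP (LK LD1_c7 LD2_c47 LD3_c27)) = (LP (LK LD1_c3 LD2_c52 LD3_c51)) :=
  Lre_b IH (LK LD1_c7 LD2_c47 LD3_c27) (LK LD1_c3 LD2_c52 LD3_c51) Lrfl Lrfl
theorem f460016 : Led Lsl_ct (LP (LK LD1_c7 LD2_c47 LD3_c27)) = (LP (LK LD1_c14 LD2_c42 LD3_c2)) :=
  Lre_c IH (LK LD1_c7 LD2_c47 LD3_c27) (LK LD1_c14 LD2_c42 LD3_c2) Lrfl Lrfl
theorem f479063 : Led Lsl_bt (LP (LK LD1_c7 LD2_c43 LD3_c30)) = (LP (LK LD1_c3 LD2_c51 LD3_c6)) :=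
  Lre_b IH (LK LD1_c7 LD2_c43 LD3_c30) (LK LD1_c3 LD2_c51 LD3_c6) Lrfl Lrfl
theorem f472005 : Led Lsl_ct (LP (LK LD1_c7 LD2_c43 LD3_c30)) = (LP (LK LD1_c14 LD2_c33 LD3_c49)) :=
  Lre_c IH (LK LD1_c7 LD2_c43 LD3_c30) (LK LD1_c14 LD2_c33 LD3_c49) Lrfl Lrfl
theorem f534646 : Led Lsl_gf (LP (LK LD1_c14 LD2_c42 LD3_c2)) = (LP (LK LD1_c14 LD2_c33 LD3_c49)) :=
  Lgr Lrot126 (Lpe (f460016 IH) (Lpr_bt (f460015 IH) (Lpr_gt (K29.f474118 IH) (Lpr_ct (K29.f459918 IH) (Lpr_gt (K29.f461165 IH) (Lpe (K29.f461190 IH) (Lpr_bt (f534636 IH) (Lpr_gt (f471193 IH) (Lpe (f479063 IH) (Lpr_ct (f472005 IH) (Lpn (LP (LK LD1_c14 LD2_c33 LD3_c49)))))))))))))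
theorem f471962 : Led Lsl_gt (LP (LK LD1_c14 LD2_c33 LD3_c48)) = (LP (LK LD1_c7 LD2_c43 LD3_c30)) :=
  Lre_g IH (LK LD1_c14 LD2_c33 LD3_c48) (LK LD1_c7 LD2_c43 LD3_c30) Lrfl Lrfl
theorem f566288 : Led Lsl_dt (LP (LK LD1_c22 LD2_c13 LD3_c21)) = (LP (LK LD1_c14 LD2_c33 LD3_c48)) :=
  Lgr Lrot6 (Lpr_gt (f91080 IH) (Lpr_ct (K34.f488215 IH) (Lpr_gt (f566282 IH) (Lpr_ct (f511774 IH) (Lpr_df (f459927 IH) (Lpe (f460021 IH) (Lpr_gf (f534646 IH) (Lpe (f472005 IH) (Lpe (f471962 IH) (Lpn (LP (LK LD1_c14 LD2_c33 LD3_c48))))))))))))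
theorem f471958 : Led Lsl_dt (LP (LK LD1_c7 LD2_c43 LD3_c30)) = (LP (LK LD1_c3 LD2_c51 LD3_c5)) :=
  Lre_d IH (LK LD1_c7 LD2_c43 LD3_c30) (LK LD1_c3 LD2_c51 LD3_c5) Lrfl Lrfl
theorem f98597 : Led Lsl_dt (LP (LK LD1_c13 LD2_c41 LD3_c1)) = (LP (LK LD1_c7 LD2_c13 LD3_c51)) :=
  Lre_d IH (LK LD1_c13 LD2_c41 LD3_c1) (LK LD1_c7 LD2_c13 LD3_c51) Lrfl Lrfl
theorem f471961 : Led Lsl_gt (LP (LK LD1_c23 LD2_c6 LD3_c29)) = (LP (LK LD1_c13 LD2_c41 LD3_c1)) :=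
  Lre_g IH (LK LD1_c23 LD2_c6 LD3_c29) (LK LD1_c13 LD2_c41 LD3_c1) Lrfl Lrfl
theorem f566331 : Led Lsl_dt (LP (LK LD1_c22 LD2_c47 LD3_c13)) = (LP (LK LD1_c23 LD2_c6 LD3_c29)) :=
  Lgr Lrot57 (Lpr_gf (f566327 IH) (Lpe (f566309 IH) (Lpr_gt (f512968 IH) (Lpr_dt (f566288 IH) (Lpr_gt (f471962 IH) (Lpr_dt (f471958 IH) (Lpe (K41.f471933 IH) (Lpe (f98597 IH) (Lpe (f471961 IH) (Lpn (LP (LK LD1_c23 LD2_c6 LD3_c29))))))))))))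
theorem f471972 : Led Lsl_ct (LP (LK LD1_c23 LD2_c6 LD3_c29)) = (LP (LK LD1_c30 LD2_c54 LD3_c1)) :=
  Lre_c IH (LK LD1_c23 LD2_c6 LD3_c29) (LK LD1_c30 LD2_c54 LD3_c1) Lrfl Lrfl
theorem f530886 : Led Lsl_ff (LP (LK LD1_c7 LD2_c7 LD3_c36)) = (LP (LK LD1_c13 LD2_c14 LD3_c22)) :=
  Lgr Lrot3 (Lpr_ft (K41.f530880 IH) (Lpn (LP (LK LD1_c13 LD2_c14 LD3_c22))))
theorem f98505 : Led Lsl_dt (LP (LK LD1_c7 LD2_c7 LD3_c36)) = (LP (LK LD1_c13 LD2_c30 LD3_c2)) :=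
  Lre_d IH (LK LD1_c7 LD2_c7 LD3_c36) (LK LD1_c13 LD2_c30 LD3_c2) Lrfl Lrfl
theorem f463806 : Led Lsl_dt (LP (LK LD1_c22 LD2_c29 LD3_c7)) = (LP (LK LD1_c13 LD2_c14 LD3_c22)) :=
  Lre_d IH (LK LD1_c22 LD2_c29 LD3_c7) (LK LD1_c13 LD2_c14 LD3_c22) Lrfl Lrfl
theorem f530891 : Led Lsl_ft (LP (LK LD1_c13 LD2_c30 LD3_c2)) = (LP (LK LD1_c22 LD2_c29 LD3_c7)) :=
  Lgr Lrot54 (Lpe (f98505 IH) (Lpr_ff (f530886 IH) (Lpe (f463806 IH) (Lpn (LP (LK LD1_c22 LD2_c29 LD3_c7))))))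
theorem f530621 : Led Lsl_dt (LP (LK LD1_c23 LD2_c6 LD3_c39)) = (LP (LK LD1_c13 LD2_c41 LD3_c8)) :=
  Lre_d IH (LK LD1_c23 LD2_c6 LD3_c39) (LK LD1_c13 LD2_c41 LD3_c8) Lrfl Lrfl
theorem f463807 : Led Lsl_dt (LP (LK LD1_c13 LD2_c14 LD3_c22)) = (LP (LK LD1_c22 LD2_c29 LD3_c7)) :=
  Lre_d IH (LK LD1_c13 LD2_c14 LD3_c22) (LK LD1_c22 LD2_c29 LD3_c7) Lrfl Lrfl
theorem f530630 : Led Lsl_bf (LP (LK LD1_c23 LD2_c6 LD3_c39)) = (LP (LK LD1_c22 LD2_c29 LD3_c7)) :=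
  Lgr Lrot93 (Lpr_dt (f530621 IH) (Lpr_bt (K41.f530626 IH) (Lpr_dt (f463807 IH) (Lpn (LP (LK LD1_c22 LD2_c29 LD3_c7))))))
theorem f530636 : Led Lsl_at (LP (LK LD1_c13 LD2_c41 LD3_c9)) = (LP (LK LD1_c23 LD2_c6 LD3_c39)) :=
  Lre_a IH (LK LD1_c13 LD2_c41 LD3_c9) (LK LD1_c23 LD2_c6 LD3_c39) Lrfl Lrfl
theorem f530690 : Led Lsl_at (LP (LK LD1_c22 LD2_c49 LD3_c56)) = (LP (LK LD1_c13 LD2_c29 LD3_c28)) :=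
  Lre_a IH (LK LD1_c22 LD2_c49 LD3_c56) (LK LD1_c13 LD2_c29 LD3_c28) Lrfl Lrfl
theorem f530691 : Led Lsl_ft (LP (LK LD1_c23 LD2_c6 LD3_c39)) = (LP (LK LD1_c22 LD2_c49 LD3_c56)) :=
  Lgr Lrot101 (Lpe (f530636 IH) (Lpr_ff (K41.f530688 IH) (Lpe (f530690 IH) (Lpn (LP (LK LD1_c22 LD2_c49 LD3_c56))))))
theorem f530893 : Led Lsl_bf (LP (LK LD1_c13 LD2_c30 LD3_c2)) = (LP (LK LD1_c22 LD2_c49 LD3_c56)) :=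
  Lgr Lrot61 (Lpr_ft (f530891 IH) (Lpe (f530630 IH) (Lpr_ft (f530691 IH) (Lpn (LP (LK LD1_c22 LD2_c49 LD3_c56))))))
theorem f463822 : Led Lsl_et (LP (LK LD1_c13 LD2_c30 LD3_c2)) = (LP (LK LD1_c22 LD2_c50 LD3_c54)) :=
  Lre_e IH (LK LD1_c13 LD2_c30 LD3_c2) (LK LD1_c22 LD2_c50 LD3_c54) Lrfl Lrfl
theorem f108605 : Led Lsl_et (LP (LK LD1_c30 LD2_c44 LD3_c39)) = (LP (LK LD1_c22 LD2_c49 LD3_c56)) :=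
  Lre_e IH (LK LD1_c30 LD2_c44 LD3_c39) (LK LD1_c22 LD2_c49 LD3_c56) Lrfl Lrfl
theorem f530906 : Led Lsl_bt (LP (LK LD1_c22 LD2_c50 LD3_c54)) = (LP (LK LD1_c30 LD2_c44 LD3_c39)) :=
  Lgr Lrot119 (Lpe (f463822 IH) (Lpr_bf (f530893 IH) (Lpe (f108605 IH) (Lpn (LP (LK LD1_c30 LD2_c44 LD3_c39))))))
theorem f530910 : Led Lsl_bf (LP (LK LD1_c22 LD2_c50 LD3_c54)) = (LP (LK LD1_c30 LD2_c44 LD3_c39)) :=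
  Lgr Lrot24 (Lpr_bt (f530906 IH) (Lpn (LP (LK LD1_c30 LD2_c44 LD3_c39))))
theorem f108578 : Led Lsl_at (LP (LK LD1_c22 LD2_c49 LD3_c61)) = (LP (LK LD1_c30 LD2_c44 LD3_c39)) :=
  Lre_a IH (LK LD1_c22 LD2_c49 LD3_c61) (LK LD1_c30 LD2_c44 LD3_c39) Lrfl Lrfl
theorem f108564 : Led Lsl_bt (LP (LK LD1_c13 LD2_c29 LD3_c31)) = (LP (LK LD1_c22 LD2_c49 LD3_c61)) :=
  Lre_b IH (LK LD1_c13 LD2_c29 LD3_c31) (LK LD1_c22 LD2_c49 LD3_c61) Lrfl Lrfl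
theorem f98585 : Led Lsl_bt (LP (LK LD1_c23 LD2_c6 LD3_c31)) = (LP (LK LD1_c13 LD2_c41 LD3_c6)) :=
  Lre_b IH (LK LD1_c23 LD2_c6 LD3_c31) (LK LD1_c13 LD2_c41 LD3_c6) Lrfl Lrfl
theorem f530912 : Led Lsl_at (LP (LK LD1_c22 LD2_c50 LD3_c54)) = (LP (LK LD1_c23 LD2_c6 LD3_c31)) :=
  Lgr Lrot67 (Lpr_bf (f530910 IH) (Lpe (f108578 IH) (Lpe (f108564 IH) (Lpe (K41.f530715 IH) (Lpe (f98585 IH) (Lpn (LP (LK LD1_c23 LD2_c6 LD3_c31))))))))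
theorem f98598 : Led Lsl_et (LP (LK LD1_c23 LD2_c6 LD3_c31)) = (LP (LK LD1_c13 LD2_c41 LD3_c1)) :=
  Lre_e IH (LK LD1_c23 LD2_c6 LD3_c31) (LK LD1_c13 LD2_c41 LD3_c1) Lrfl Lrfl
theorem f530914 : Led Lsl_af (LP (LK LD1_c13 LD2_c30 LD3_c2)) = (LP (LK LD1_c13 LD2_c41 LD3_c1)) :=
  Lgr Lrot50 (Lpr_et (f463822 IH) (Lpr_at (f530912 IH) (Lpr_et (f98598 IH) (Lpn (LP (LK LD1_c13 LD2_c41 LD3_c1))))))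
theorem f160214 : Led Lsl_ct (LP (LK LD1_c13 LD2_c29 LD3_c33)) = (LP (LK LD1_c7 LD2_c7 LD3_c16)) :=
  Lre_c IH (LK LD1_c13 LD2_c29 LD3_c33) (LK LD1_c7 LD2_c7 LD3_c16) Lrfl Lrfl
theorem f530812 : Led Lsl_ff (LP (LK LD1_c13 LD2_c29 LD3_c33)) = (LP (LK LD1_c13 LD2_c41 LD3_c5)) :=
  Lgr Lrot23 (Lpr_ct (f160214 IH) (Lpr_ft (K41.f530797 IH) (Lpr_ct (K46.f17403 IH) (Lpn (LP (LK LD1_c13 LD2_c41 LD3_c5))))))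
theorem f530818 : Led Lsl_ft (LP (LK LD1_c13 LD2_c29 LD3_c33)) = (LP (LK LD1_c13 LD2_c41 LD3_c5)) :=
  Lgr Lrot48 (Lpr_ff (f530812 IH) (Lpn (LP (LK LD1_c13 LD2_c41 LD3_c5))))
theorem f475323 : Led Lsl_bt (LP (LK LD1_c22 LD2_c50 LD3_c4)) = (LP (LK LD1_c13 LD2_c29 LD3_c33)) :=
  Lre_b IH (LK LD1_c22 LD2_c50 LD3_c4) (LK LD1_c13 LD2_c29 LD3_c33) Lrfl Lrfl
theorem f17404 : Led Lsl_bt (LP (LK LD1_c13 LD2_c41 LD3_c5)) = (LP (LK LD1_c23 LD2_c6 LD3_c35)) :=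
  Lre_b IH (LK LD1_c13 LD2_c41 LD3_c5) (LK LD1_c23 LD2_c6 LD3_c35) Lrfl Lrfl
theorem f530822 : Led Lsl_ff (LP (LK LD1_c22 LD2_c50 LD3_c4)) = (LP (LK LD1_c23 LD2_c6 LD3_c35)) :=
  Lgr Lrot25 (Lpr_bt (f475323 IH) (Lpr_ft (f530818 IH) (Lpr_bt (f17404 IH) (Lpn (LP (LK LD1_c23 LD2_c6 LD3_c35))))))
theorem f475324 : Led Lsl_ct (LP (LK LD1_c22 LD2_c50 LD3_c4)) = (LP (LK LD1_c30 LD2_c44 LD3_c42)) :=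
  Lre_c IH (LK LD1_c22 LD2_c50 LD3_c4) (LK LD1_c30 LD2_c44 LD3_c42) Lrfl Lrfl
theorem f526277 : Led Lsl_ct (LP (LK LD1_c30 LD2_c54 LD3_c2)) = (LP (LK LD1_c23 LD2_c6 LD3_c35)) :=
  Lre_c IH (LK LD1_c30 LD2_c54 LD3_c2) (LK LD1_c23 LD2_c6 LD3_c35) Lrfl Lrfl
theorem f530826 : Led Lsl_ft (LP (LK LD1_c30 LD2_c44 LD3_c42)) = (LP (LK LD1_c30 LD2_c54 LD3_c2)) :=
  Lgr Lrot4 (Lpe (f475324 IH) (Lpr_ff (f530822 IH) (Lpe (f526277 IH) (Lpn (LP (LK LD1_c30 LD2_c54 LD3_c2))))))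
theorem f475301 : Led Lsl_bt (LP (LK LD1_c22 LD2_c50 LD3_c3)) = (LP (LK LD1_c30 LD2_c44 LD3_c42)) :=
  Lre_b IH (LK LD1_c22 LD2_c50 LD3_c3) (LK LD1_c30 LD2_c44 LD3_c42) Lrfl Lrfl
theorem f530828 : Led Lsl_bt (LP (LK LD1_c30 LD2_c54 LD3_c2)) = (LP (LK LD1_c23 LD2_c6 LD3_c30)) :=
  Lre_b IH (LK LD1_c30 LD2_c54 LD3_c2) (LK LD1_c23 LD2_c6 LD3_c30) Lrfl Lrfl
theorem f530829 : Led Lsl_ff (LP (LK LD1_c22 LD2_c50 LD3_c3)) = (LP (LK LD1_c23 LD2_c6 LD3_c30)) :=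
  Lgr Lrot25 (Lpr_bt (f475301 IH) (Lpr_ft (f530826 IH) (Lpr_bt (f530828 IH) (Lpn (LP (LK LD1_c23 LD2_c6 LD3_c30))))))
theorem f475293 : Led Lsl_ct (LP (LK LD1_c22 LD2_c50 LD3_c3)) = (LP (LK LD1_c13 LD2_c29 LD3_c32)) :=
  Lre_c IH (LK LD1_c22 LD2_c50 LD3_c3) (LK LD1_c13 LD2_c29 LD3_c32) Lrfl Lrfl
theorem f465190 : Led Lsl_ct (LP (LK LD1_c13 LD2_c41 LD3_c1)) = (LP (LK LD1_c23 LD2_c6 LD3_c30)) :=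
  Lre_c IH (LK LD1_c13 LD2_c41 LD3_c1) (LK LD1_c23 LD2_c6 LD3_c30) Lrfl Lrfl
theorem f530836 : Led Lsl_ft (LP (LK LD1_c13 LD2_c29 LD3_c32)) = (LP (LK LD1_c13 LD2_c41 LD3_c1)) :=
  Lgr Lrot4 (Lpe (f475293 IH) (Lpr_ff (f530829 IH) (Lpe (f465190 IH) (Lpn (LP (LK LD1_c13 LD2_c41 LD3_c1))))))
theorem f530918 : Led Lsl_at (LP (LK LD1_c22 LD2_c29 LD3_c7)) = (LP (LK LD1_c13 LD2_c29 LD3_c32)) :=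
  Lgr Lrot66 (Lpe (f530891 IH) (Lpr_af (f530914 IH) (Lpe (f530836 IH) (Lpn (LP (LK LD1_c13 LD2_c29 LD3_c32))))))
theorem f475279 : Led Lsl_gt (LP (LK LD1_c22 LD2_c50 LD3_c2)) = (LP (LK LD1_c13 LD2_c29 LD3_c32)) :=
  Lre_g IH (LK LD1_c22 LD2_c50 LD3_c2) (LK LD1_c13 LD2_c29 LD3_c32) Lrfl Lrfl
theorem f530925 : Led Lsl_gt (LP (LK LD1_c13 LD2_c30 LD3_c2)) = (LP (LK LD1_c22 LD2_c50 LD3_c2)) :=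
  Lgr Lrot5 (Lpr_ft (f530891 IH) (Lpr_at (f530918 IH) (Lpe (f475279 IH) (Lpn (LP (LK LD1_c22 LD2_c50 LD3_c2))))))
theorem f160213 : Led Lsl_dt (LP (LK LD1_c3 LD2_c33 LD3_c10)) = (LP (LK LD1_c7 LD2_c7 LD3_c16)) :=
  Lre_d IH (LK LD1_c3 LD2_c33 LD3_c10) (LK LD1_c7 LD2_c7 LD3_c16) Lrfl Lrfl
theorem f458590 : Led Lsl_ct (LP (LK LD1_c7 LD2_c53 LD3_c48)) = (LP (LK LD1_c14 LD2_c53 LD3_c31)) :=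
  Lre_c IH (LK LD1_c7 LD2_c53 LD3_c48) (LK LD1_c14 LD2_c53 LD3_c31) Lrfl Lrfl
theorem f475320 : Led Lsl_gf (LP (LK LD1_c13 LD2_c29 LD3_c33)) = (LP (LK LD1_c14 LD2_c53 LD3_c31)) :=
  Lgr Lrot104 (Lpr_ct (f160214 IH) (Lpe (f160213 IH) (Lpr_cf (K41.f475269 IH) (Lpr_gf (K35.f425227 IH) (Lpr_cf (K29.f97334 IH) (Lpe (K34.f471385 IH) (Lpe (K29.f446553 IH) (Lpr_gt (K33.f458589 IH) (Lpr_ct (f458590 IH) (Lpn (LP (LK LD1_c14 LD2_c53 LD3_c31))))))))))))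
theorem f160215 : Led Lsl_ct (LP (LK LD1_c7 LD2_c7 LD3_c16)) = (LP (LK LD1_c13 LD2_c29 LD3_c33)) :=
  Lre_c IH (LK LD1_c7 LD2_c7 LD3_c16) (LK LD1_c13 LD2_c29 LD3_c33) Lrfl Lrfl
theorem f475322 : Led Lsl_bt (LP (LK LD1_c7 LD2_c7 LD3_c16)) = (LP (LK LD1_c13 LD2_c29 LD3_c32)) :=
  Lre_b IH (LK LD1_c7 LD2_c7 LD3_c16) (LK LD1_c13 LD2_c29 LD3_c32) Lrfl Lrfl
theorem f455283 : Led Lsl_ct (LP (LK LD1_c3 LD2_c28 LD3_c2)) = (LP (LK LD1_c6 LD2_c58 LD3_c18)) :=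
  Lre_c IH (LK LD1_c3 LD2_c28 LD3_c2) (LK LD1_c6 LD2_c58 LD3_c18) Lrfl Lrfl
theorem f455153 : Led Lsl_gt (LP (LK LD1_c13 LD2_c14 LD3_c13)) = (LP (LK LD1_c6 LD2_c58 LD3_c18)) :=
  Lre_g IH (LK LD1_c13 LD2_c14 LD3_c13) (LK LD1_c6 LD2_c58 LD3_c18) Lrfl Lrfl
def v660 : LQ := Led Lsl_gt (LP (LK LD1_c0 LD2_c48 LD3_c22))
theorem f455826 : Led Lsl_gt (LP (LK LD1_c0 LD2_c48 LD3_c22)) = v660 :=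
  Lrfl
theorem f461953 : (LP (LK LD1_c0 LD2_c46 LD3_c45)) = v660 :=
  Lefun (Lecon (Lfl_gf (K28.f455145 IH)) (K28.f461943 IH)) (f455826 IH)
theorem f455151 : Led Lsl_dt (LP (LK LD1_c1 LD2_c40 LD3_c37)) = (LP (LK LD1_c3 LD2_c28 LD3_c2)) :=
  Lre_d IH (LK LD1_c1 LD2_c40 LD3_c37) (LK LD1_c3 LD2_c28 LD3_c2) Lrfl Lrfl
theorem f455152 : Led Lsl_ct (LP (LK LD1_c6 LD2_c58 LD3_c18)) = (LP (LK LD1_c3 LD2_c28 LD3_c2)) :=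
  Lre_c IH (LK LD1_c6 LD2_c58 LD3_c18) (LK LD1_c3 LD2_c28 LD3_c2) Lrfl Lrfl
theorem f464867 : Led Lsl_cf (LP (LK LD1_c13 LD2_c14 LD3_c13)) = (LP (LK LD1_c7 LD2_c47 LD3_c61)) :=
  Lgr Lrot169 (Lpr_gt (f455153 IH) (Lpr_ct (f455152 IH) (Lpe (f455151 IH) (Lpe (K28.f15759 IH) (Lpqs (f461953 IH) (Lpe (f455826 IH) (Lpe (K28.f128101 IH) (Lpr_gf (K28.f464841 IH) (Lpe (K29.f458606 IH) (Lpr_gt (K29.f458595 IH) (Lpn (LP (LK LD1_c7 LD2_c47 LD3_c61)))))))))))))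
theorem f464882 : Led Lsl_bt (LP (LK LD1_c7 LD2_c47 LD3_c61)) = (LP (LK LD1_c14 LD2_c43 LD3_c2)) :=
  Lre_b IH (LK LD1_c7 LD2_c47 LD3_c61) (LK LD1_c14 LD2_c43 LD3_c2) Lrfl Lrfl
theorem f475325 : Led Lsl_gt (LP (LK LD1_c13 LD2_c29 LD3_c32)) = (LP (LK LD1_c14 LD2_c43 LD3_c2)) :=
  Lgr Lrot164 (Lpe (f475322 IH) (Lpr_ct (f160215 IH) (Lpr_gf (f475320 IH) (Lpe (f458590 IH) (Lpe (K33.f458589 IH) (Lpr_bf (K29.f458568 IH) (Lpr_ct (f455283 IH) (Lpe (f455153 IH) (Lpr_cf (f464867 IH) (Lpr_bt (f464882 IH) (Lpn (LP (LK LD1_c14 LD2_c43 LD3_c2)))))))))))))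
theorem f530920 : Led Lsl_gf (LP (LK LD1_c13 LD2_c30 LD3_c2)) = (LP (LK LD1_c14 LD2_c43 LD3_c2)) :=
  Lgr Lrot76 (Lpr_af (f530914 IH) (Lpe (f530836 IH) (Lpr_gt (f475325 IH) (Lpn (LP (LK LD1_c14 LD2_c43 LD3_c2))))))
theorem f511856 : Led Lsl_bt (LP (LK LD1_c13 LD2_c52 LD3_c7)) = (LP (LK LD1_c7 LD2_c19 LD3_c56)) :=
  Lre_b IH (LK LD1_c13 LD2_c52 LD3_c7) (LK LD1_c7 LD2_c19 LD3_c56) Lrfl Lrfl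
theorem f520975 : Led Lsl_ft (LP (LK LD1_c14 LD2_c43 LD3_c2)) = (LP (LK LD1_c13 LD2_c52 LD3_c7)) :=
  Lgr Lrot75 (Lpe (f464882 IH) (Lpr_ff (f520973 IH) (Lpe (f511856 IH) (Lpn (LP (LK LD1_c13 LD2_c52 LD3_c7))))))
theorem f530927 : Led Lsl_at (LP (LK LD1_c13 LD2_c52 LD3_c7)) = (LP (LK LD1_c22 LD2_c50 LD3_c2)) :=
  Lgr Lrot26 (Lpe (f520975 IH) (Lpe (f530920 IH) (Lpr_gt (f530925 IH) (Lpn (LP (LK LD1_c22 LD2_c50 LD3_c2))))))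
theorem f530929 : Led Lsl_af (LP (LK LD1_c13 LD2_c52 LD3_c7)) = (LP (LK LD1_c22 LD2_c50 LD3_c2)) :=
  Lgr Lrot0 (Lpr_at (f530927 IH) (Lpn (LP (LK LD1_c22 LD2_c50 LD3_c2))))
theorem f530950 : Led Lsl_ft (LP (LK LD1_c23 LD2_c6 LD3_c29)) = (LP (LK LD1_c22 LD2_c50 LD3_c2)) :=
  Lgr Lrot2 (Lpr_gt (f471961 IH) (Lpe (K46.f511870 IH) (Lpr_af (f530929 IH) (Lpn (LP (LK LD1_c22 LD2_c50 LD3_c2))))))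
theorem f530956 : Led Lsl_ff (LP (LK LD1_c23 LD2_c6 LD3_c29)) = (LP (LK LD1_c22 LD2_c50 LD3_c2)) :=
  Lgr Lrot3 (Lpr_ft (f530950 IH) (Lpn (LP (LK LD1_c22 LD2_c50 LD3_c2))))
theorem f475281 : Led Lsl_ct (LP (LK LD1_c30 LD2_c44 LD3_c40)) = (LP (LK LD1_c22 LD2_c50 LD3_c2)) :=
  Lre_c IH (LK LD1_c30 LD2_c44 LD3_c40) (LK LD1_c22 LD2_c50 LD3_c2) Lrfl Lrfl
theorem f530960 : Led Lsl_ft (LP (LK LD1_c30 LD2_c54 LD3_c1)) = (LP (LK LD1_c30 LD2_c44 LD3_c40)) :=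
  Lgr Lrot4 (Lpe (f471972 IH) (Lpr_ff (f530956 IH) (Lpe (f475281 IH) (Lpn (LP (LK LD1_c30 LD2_c44 LD3_c40))))))
theorem f511790 : Led Lsl_ct (LP (LK LD1_c23 LD2_c21 LD3_c51)) = (LP (LK LD1_c13 LD2_c52 LD3_c7)) :=
  Lre_c IH (LK LD1_c23 LD2_c21 LD3_c51) (LK LD1_c13 LD2_c52 LD3_c7) Lrfl Lrfl
theorem f475280 : Led Lsl_ct (LP (LK LD1_c22 LD2_c50 LD3_c2)) = (LP (LK LD1_c30 LD2_c44 LD3_c40)) :=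
  Lre_c IH (LK LD1_c22 LD2_c50 LD3_c2) (LK LD1_c30 LD2_c44 LD3_c40) Lrfl Lrfl
theorem f530931 : Led Lsl_af (LP (LK LD1_c23 LD2_c21 LD3_c51)) = (LP (LK LD1_c30 LD2_c44 LD3_c40)) :=
  Lgr Lrot68 (Lpr_ct (f511790 IH) (Lpr_at (f530927 IH) (Lpr_ct (f475280 IH) (Lpn (LP (LK LD1_c30 LD2_c44 LD3_c40))))))
theorem f511818 : Led Lsl_dt (LP (LK LD1_c7 LD2_c19 LD3_c53)) = (LP (LK LD1_c13 LD2_c52 LD3_c7)) :=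
  Lre_d IH (LK LD1_c7 LD2_c19 LD3_c53) (LK LD1_c13 LD2_c52 LD3_c7) Lrfl Lrfl
theorem f460022 : Led Lsl_dt (LP (LK LD1_c24 LD2_c26 LD3_c60)) = (LP (LK LD1_c14 LD2_c42 LD3_c2)) :=
  Lre_d IH (LK LD1_c24 LD2_c26 LD3_c60) (LK LD1_c14 LD2_c42 LD3_c2) Lrfl Lrfl
theorem f460080 : Led Lsl_ct (LP (LK LD1_c31 LD2_c32 LD3_c0)) = (LP (LK LD1_c24 LD2_c26 LD3_c60)) :=
  Lre_c IH (LK LD1_c31 LD2_c32 LD3_c0) (LK LD1_c24 LD2_c26 LD3_c60) Lrfl Lrfl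
theorem f530964 : Led Lsl_dt (LP (LK LD1_c30 LD2_c54 LD3_c1)) = (LP (LK LD1_c31 LD2_c32 LD3_c0)) :=
  Lgr Lrot159 (Lpr_ft (f530960 IH) (Lpe (f530931 IH) (Lpe (K46.f511819 IH) (Lpe (f511818 IH) (Lpr_cf (f511734 IH) (Lpr_df (f459927 IH) (Lpe (f460021 IH) (Lpe (f460022 IH) (Lpe (f460080 IH) (Lpn (LP (LK LD1_c31 LD2_c32 LD3_c0))))))))))))
theorem f460038 : Led Lsl_at (LP (LK LD1_c14 LD2_c42 LD3_c1)) = (LP (LK LD1_c7 LD2_c47 LD3_c27)) :=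
  Lre_a IH (LK LD1_c14 LD2_c42 LD3_c1) (LK LD1_c7 LD2_c47 LD3_c27) Lrfl Lrfl
theorem f477695 : Led Lsl_dt (LP (LK LD1_c22 LD2_c41 LD3_c0)) = (LP (LK LD1_c24 LD2_c0 LD3_c2)) :=
  Lgr Lrot42 (Lpr_df (K34.f477692 IH) (Lpn (LP (LK LD1_c24 LD2_c0 LD3_c2))))
theorem f459967 : Led Lsl_df (LP (LK LD1_c14 LD2_c17 LD3_c22)) = (LP (LK LD1_c14 LD2_c42 LD3_c8)) :=
  Lgr Lrot38 (Lpr_dt (K33.f459950 IH) (Lpn (LP (LK LD1_c14 LD2_c42 LD3_c8))))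
theorem f459971 : Led Lsl_bt (LP (LK LD1_c14 LD2_c17 LD3_c22)) = (LP (LK LD1_c23 LD2_c54 LD3_c53)) :=
  Lre_b IH (LK LD1_c14 LD2_c17 LD3_c22) (LK LD1_c23 LD2_c54 LD3_c53) Lrfl Lrfl
theorem f459972 : Led Lsl_bt (LP (LK LD1_c24 LD2_c27 LD3_c2)) = (LP (LK LD1_c14 LD2_c42 LD3_c8)) :=
  Lre_b IH (LK LD1_c24 LD2_c27 LD3_c2) (LK LD1_c14 LD2_c42 LD3_c8) Lrfl Lrfl
theorem f459973 : Led Lsl_dt (LP (LK LD1_c23 LD2_c54 LD3_c53)) = (LP (LK LD1_c24 LD2_c27 LD3_c2)) :=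
  Lgr Lrot79 (Lpe (f459971 IH) (Lpr_df (f459967 IH) (Lpe (f459972 IH) (Lpn (LP (LK LD1_c24 LD2_c27 LD3_c2))))))
theorem f459977 : Led Lsl_ft (LP (LK LD1_c14 LD2_c17 LD3_c19)) = (LP (LK LD1_c23 LD2_c54 LD3_c53)) :=
  Lre_f IH (LK LD1_c14 LD2_c17 LD3_c19) (LK LD1_c23 LD2_c54 LD3_c53) Lrfl Lrfl
theorem f459978 : Led Lsl_ft (LP (LK LD1_c24 LD2_c27 LD3_c2)) = (LP (LK LD1_c14 LD2_c42 LD3_c3)) :=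
  Lre_f IH (LK LD1_c24 LD2_c27 LD3_c2) (LK LD1_c14 LD2_c42 LD3_c3) Lrfl Lrfl
theorem f459979 : Led Lsl_df (LP (LK LD1_c14 LD2_c17 LD3_c19)) = (LP (LK LD1_c14 LD2_c42 LD3_c3)) :=
  Lgr Lrot78 (Lpr_ft (f459977 IH) (Lpr_dt (f459973 IH) (Lpr_ft (f459978 IH) (Lpn (LP (LK LD1_c14 LD2_c42 LD3_c3))))))
theorem f459993 : Led Lsl_et (LP (LK LD1_c14 LD2_c17 LD3_c19)) = (LP (LK LD1_c7 LD2_c34 LD3_c38)) :=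
  Lre_e IH (LK LD1_c14 LD2_c17 LD3_c19) (LK LD1_c7 LD2_c34 LD3_c38) Lrfl Lrfl
theorem f459994 : Led Lsl_dt (LP (LK LD1_c7 LD2_c34 LD3_c38)) = (LP (LK LD1_c3 LD2_c46 LD3_c52)) :=
  Lre_d IH (LK LD1_c7 LD2_c34 LD3_c38) (LK LD1_c3 LD2_c46 LD3_c52) Lrfl Lrfl
theorem f459995 : Led Lsl_et (LP (LK LD1_c3 LD2_c46 LD3_c52)) = (LP (LK LD1_c7 LD2_c34 LD3_c39)) :=
  Lre_e IH (LK LD1_c3 LD2_c46 LD3_c52) (LK LD1_c7 LD2_c34 LD3_c39) Lrfl Lrfl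
theorem f459996 : Led Lsl_et (LP (LK LD1_c7 LD2_c47 LD3_c27)) = (LP (LK LD1_c14 LD2_c42 LD3_c3)) :=
  Lre_e IH (LK LD1_c7 LD2_c47 LD3_c27) (LK LD1_c14 LD2_c42 LD3_c3) Lrfl Lrfl
theorem f459997 : Led Lsl_dt (LP (LK LD1_c7 LD2_c34 LD3_c39)) = (LP (LK LD1_c7 LD2_c47 LD3_c27)) :=
  Lgr Lrot77 (Lpe (f459995 IH) (Lpe (f459994 IH) (Lpe (f459993 IH) (Lpr_df (f459979 IH) (Lpe (f459996 IH) (Lpn (LP (LK LD1_c7 LD2_c47 LD3_c27))))))))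
theorem f460011 : Led Lsl_at (LP (LK LD1_c7 LD2_c47 LD3_c27)) = (LP (LK LD1_c14 LD2_c42 LD3_c1)) :=
  Lre_a IH (LK LD1_c7 LD2_c47 LD3_c27) (LK LD1_c14 LD2_c42 LD3_c1) Lrfl Lrfl
theorem f460012 : Led Lsl_df (LP (LK LD1_c14 LD2_c17 LD3_c15)) = (LP (LK LD1_c14 LD2_c42 LD3_c1)) :=
  Lgr Lrot18 (Lpr_at (f460010 IH) (Lpr_dt (f459997 IH) (Lpr_at (f460011 IH) (Lpn (LP (LK LD1_c14 LD2_c42 LD3_c1))))))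
theorem f521036 : Led Lsl_ft (LP (LK LD1_c24 LD2_c0 LD3_c2)) = (LP (LK LD1_c14 LD2_c42 LD3_c1)) :=
  Lgr Lrot54 (Lpe (f477695 IH) (Lpr_ff (f521034 IH) (Lpr_df (f460012 IH) (Lpn (LP (LK LD1_c14 LD2_c42 LD3_c1))))))
theorem f566341 : Led Lsl_cf (LP (LK LD1_c22 LD2_c47 LD3_c13)) = (LP (LK LD1_c22 LD2_c41 LD3_c0)) :=
  Lgr Lrot118 (Lpr_dt (f566331 IH) (Lpr_ct (f471972 IH) (Lpr_dt (f530964 IH) (Lpr_ct (f460080 IH) (Lpr_dt (f460022 IH) (Lpr_ct (f460021 IH) (Lpe (f460038 IH) (Lpe (f521036 IH) (Lpe (K34.f477692 IH) (Lpn (LP (LK LD1_c22 LD2_c41 LD3_c0))))))))))))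
theorem f566345 : Led Lsl_ct (LP (LK LD1_c22 LD2_c47 LD3_c13)) = (LP (LK LD1_c22 LD2_c41 LD3_c0)) :=
  Lgr Lrot59 (Lpr_cf (f566341 IH) (Lpn (LP (LK LD1_c22 LD2_c41 LD3_c0))))
theorem f553299 : Led Lsl_bt (LP (LK LD1_c13 LD2_c29 LD3_c18)) = (LP (LK LD1_c8 LD2_c43 LD3_c57)) :=
  Lgr Lrot92 (Lpr_ct (K29.f470578 IH) (Lpr_gt (K29.f470579 IH) (Lpe (K29.f470600 IH) (Lpr_bt (K28.f470601 IH) (Lpr_gt (K28.f470629 IH) (Lpe (K32.f470791 IH) (Lpr_gt (K32.f440168 IH) (Lpe (K28.f440169 IH) (Lpr_bt (K39.f553290 IH) (Lpr_gt (K39.f237633 IH) (Lpn (LP (LK LD1_c8 LD2_c43 LD3_c57)))))))))))))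
theorem f237634 : Led Lsl_dt (LP (LK LD1_c8 LD2_c43 LD3_c57)) = (LP (LK LD1_c16 LD2_c21 LD3_c7)) :=
  Lre_d IH (LK LD1_c8 LD2_c43 LD3_c57) (LK LD1_c16 LD2_c21 LD3_c7) Lrfl Lrfl
theorem f553303 : Led Lsl_bf (LP (LK LD1_c22 LD2_c49 LD3_c40)) = (LP (LK LD1_c16 LD2_c21 LD3_c7)) :=
  Lgr Lrot93 (Lpr_dt (f514934 IH) (Lpr_bt (f553299 IH) (Lpr_dt (f237634 IH) (Lpn (LP (LK LD1_c16 LD2_c21 LD3_c7))))))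
theorem f553313 : Led Lsl_bt (LP (LK LD1_c22 LD2_c49 LD3_c40)) = (LP (LK LD1_c16 LD2_c21 LD3_c7)) :=
  Lgr Lrot127 (Lpr_bf (f553303 IH) (Lpn (LP (LK LD1_c16 LD2_c21 LD3_c7))))
theorem f237635 : Led Lsl_gt (LP (LK LD1_c16 LD2_c21 LD3_c7)) = (LP (LK LD1_c26 LD2_c19 LD3_c8)) :=
  Lre_g IH (LK LD1_c16 LD2_c21 LD3_c7) (LK LD1_c26 LD2_c19 LD3_c8) Lrfl Lrfl
theorem f610722 : Led Lsl_bt (LP (LK LD1_c22 LD2_c47 LD3_c13)) = (LP (LK LD1_c26 LD2_c19 LD3_c8)) :=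
  Lgr Lrot92 (Lpr_ct (f566345 IH) (Lpr_gt (f521044 IH) (Lpr_cf (f610716 IH) (Lpr_bt (f470250 IH) (Lpe (f610708 IH) (Lpr_ct (f479779 IH) (Lpr_gt (f529202 IH) (Lpr_cf (f610693 IH) (Lpr_bt (f553313 IH) (Lpr_gt (f237635 IH) (Lpn (LP (LK LD1_c26 LD2_c19 LD3_c8)))))))))))))
theorem f520926 : Led Lsl_bf (LP (LK LD1_c22 LD2_c41 LD3_c0)) = (LP (LK LD1_c24 LD2_c27 LD3_c13)) :=
  Lgr Lrot24 (Lpr_bt (K34.f520922 IH) (Lpn (LP (LK LD1_c24 LD2_c27 LD3_c13))))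
theorem f521425 : Led Lsl_cf (LP (LK LD1_c13 LD2_c25 LD3_c12)) = (LP (LK LD1_c14 LD2_c42 LD3_c11)) :=
  Lgr Lrot11 (Lpr_ct (K34.f521421 IH) (Lpn (LP (LK LD1_c14 LD2_c42 LD3_c11))))
theorem f472585 : Led Lsl_at (LP (LK LD1_c13 LD2_c25 LD3_c12)) = (LP (LK LD1_c22 LD2_c43 LD3_c58)) :=
  Lre_a IH (LK LD1_c13 LD2_c25 LD3_c12) (LK LD1_c22 LD2_c43 LD3_c58) Lrfl Lrfl
theorem f521454 : Led Lsl_ct (LP (LK LD1_c22 LD2_c43 LD3_c58)) = (LP (LK LD1_c24 LD2_c27 LD3_c13)) :=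
  Lgr Lrot111 (Lpe (f472585 IH) (Lpr_cf (f521425 IH) (Lpe (K34.f477831 IH) (Lpn (LP (LK LD1_c24 LD2_c27 LD3_c13))))))
theorem f472592 : Led Lsl_at (LP (LK LD1_c22 LD2_c43 LD3_c58)) = (LP (LK LD1_c13 LD2_c25 LD3_c12)) :=
  Lre_a IH (LK LD1_c22 LD2_c43 LD3_c58) (LK LD1_c13 LD2_c25 LD3_c12) Lrfl Lrfl
theorem f464602 : Led Lsl_at (LP (LK LD1_c13 LD2_c25 LD3_c59)) = (LP (LK LD1_c22 LD2_c45 LD3_c20)) :=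
  Lre_a IH (LK LD1_c13 LD2_c25 LD3_c59) (LK LD1_c22 LD2_c45 LD3_c20) Lrfl Lrfl
theorem f521100 : Led Lsl_bf (LP (LK LD1_c22 LD2_c43 LD3_c58)) = (LP (LK LD1_c22 LD2_c45 LD3_c20)) :=
  Lgr Lrot81 (Lpr_at (f472592 IH) (Lpr_bt (K34.f459198 IH) (Lpr_at (K34.f521088 IH) (Lpr_bt (f464593 IH) (Lpr_at (f464602 IH) (Lpn (LP (LK LD1_c22 LD2_c45 LD3_c20))))))))
theorem f610726 : Led Lsl_cf (LP (LK LD1_c22 LD2_c45 LD3_c20)) = (LP (LK LD1_c26 LD2_c19 LD3_c8)) :=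
  Lgr Lrot97 (Lpe (f521100 IH) (Lpr_ct (f521454 IH) (Lpe (f520926 IH) (Lpe (f566341 IH) (Lpr_bt (f610722 IH) (Lpn (LP (LK LD1_c26 LD2_c19 LD3_c8))))))))
theorem f489790 : Led Lsl_bt (LP (LK LD1_c3 LD2_c44 LD3_c21)) = (LP (LK LD1_c7 LD2_c29 LD3_c41)) :=
  Lre_b IH (LK LD1_c3 LD2_c44 LD3_c21) (LK LD1_c7 LD2_c29 LD3_c41) Lrfl Lrfl
theorem f521134 : Led Lsl_ft (LP (LK LD1_c7 LD2_c29 LD3_c41)) = (LP (LK LD1_c13 LD2_c25 LD3_c59)) :=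
  Lgr Lrot75 (Lpe (f489790 IH) (Lpr_ff (f521132 IH) (Lpe (f458247 IH) (Lpn (LP (LK LD1_c13 LD2_c25 LD3_c59))))))
theorem f489791 : Led Lsl_gt (LP (LK LD1_c7 LD2_c29 LD3_c41)) = (LP (LK LD1_c14 LD2_c9 LD3_c10)) :=
  Lre_g IH (LK LD1_c7 LD2_c29 LD3_c41) (LK LD1_c14 LD2_c9 LD3_c10) Lrfl Lrfl
theorem f521415 : Led Lsl_gt (LP (LK LD1_c14 LD2_c9 LD3_c10)) = (LP (LK LD1_c22 LD2_c45 LD3_c20)) :=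
  Lgr Lrot46 (Lpe (f489791 IH) (Lpr_ft (f521134 IH) (Lpr_at (f464602 IH) (Lpn (LP (LK LD1_c22 LD2_c45 LD3_c20))))))
theorem f610724 : Led Lsl_bf (LP (LK LD1_c22 LD2_c47 LD3_c13)) = (LP (LK LD1_c26 LD2_c19 LD3_c8)) :=
  Lgr Lrot24 (Lpr_bt (f610722 IH) (Lpn (LP (LK LD1_c26 LD2_c19 LD3_c8))))
theorem f470418 : Led Lsl_ct (LP (LK LD1_c14 LD2_c53 LD3_c34)) = (LP (LK LD1_c7 LD2_c53 LD3_c49)) :=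
  Lre_c IH (LK LD1_c14 LD2_c53 LD3_c34) (LK LD1_c7 LD2_c53 LD3_c49) Lrfl Lrfl
theorem f471030 : Led Lsl_ct (LP (LK LD1_c7 LD2_c17 LD3_c51)) = (LP (LK LD1_c13 LD2_c48 LD3_c26)) :=
  Lre_c IH (LK LD1_c7 LD2_c17 LD3_c51) (LK LD1_c13 LD2_c48 LD3_c26) Lrfl Lrfl
theorem f526241 : Led Lsl_ff (LP (LK LD1_c14 LD2_c53 LD3_c34)) = (LP (LK LD1_c13 LD2_c48 LD3_c26)) :=
  Lgr Lrot23 (Lpr_ct (f470418 IH) (Lpr_ft (f526237 IH) (Lpr_ct (f471030 IH) (Lpn (LP (LK LD1_c13 LD2_c48 LD3_c26))))))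
theorem f470417 : Led Lsl_ct (LP (LK LD1_c7 LD2_c53 LD3_c49)) = (LP (LK LD1_c14 LD2_c53 LD3_c34)) :=
  Lre_c IH (LK LD1_c7 LD2_c53 LD3_c49) (LK LD1_c14 LD2_c53 LD3_c34) Lrfl Lrfl
theorem f470479 : Led Lsl_ct (LP (LK LD1_c14 LD2_c53 LD3_c44)) = (LP (LK LD1_c7 LD2_c53 LD3_c52)) :=
  Lre_c IH (LK LD1_c14 LD2_c53 LD3_c44) (LK LD1_c7 LD2_c53 LD3_c52) Lrfl Lrfl
theorem f526232 : Led Lsl_at (LP (LK LD1_c14 LD2_c53 LD3_c34)) = (LP (LK LD1_c14 LD2_c53 LD3_c44)) :=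
  Lgr Lrot107 (Lpe (f470417 IH) (Lpr_af (f526225 IH) (Lpe (f470479 IH) (Lpn (LP (LK LD1_c14 LD2_c53 LD3_c44))))))
theorem f465164 : Led Lsl_ct (LP (LK LD1_c14 LD2_c53 LD3_c31)) = (LP (LK LD1_c7 LD2_c53 LD3_c48)) :=
  Lre_c IH (LK LD1_c14 LD2_c53 LD3_c31) (LK LD1_c7 LD2_c53 LD3_c48) Lrfl Lrfl
theorem f526221 : Led Lsl_ff (LP (LK LD1_c14 LD2_c53 LD3_c31)) = (LP (LK LD1_c14 LD2_c53 LD3_c44)) :=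
  Lgr Lrot23 (Lpr_ct (f465164 IH) (Lpr_ft (K46.f526217 IH) (Lpr_ct (K46.f458711 IH) (Lpn (LP (LK LD1_c14 LD2_c53 LD3_c44))))))
theorem f526269 : Led Lsl_at (LP (LK LD1_c14 LD2_c53 LD3_c31)) = (LP (LK LD1_c13 LD2_c48 LD3_c26)) :=
  Lgr Lrot66 (Lpr_ff (f526221 IH) (Lpe (f526232 IH) (Lpr_ff (f526241 IH) (Lpn (LP (LK LD1_c13 LD2_c48 LD3_c26))))))
theorem f526273 : Led Lsl_gt (LP (LK LD1_c13 LD2_c41 LD3_c5)) = (LP (LK LD1_c13 LD2_c48 LD3_c26)) :=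
  Lgr Lrot46 (Lpr_gf (K46.f471939 IH) (Lpe (f526221 IH) (Lpr_at (f526269 IH) (Lpn (LP (LK LD1_c13 LD2_c48 LD3_c26))))))
theorem f481469 : Led Lsl_dt (LP (LK LD1_c3 LD2_c39 LD3_c0)) = (LP (LK LD1_c7 LD2_c18 LD3_c28)) :=
  Lre_d IH (LK LD1_c3 LD2_c39 LD3_c0) (LK LD1_c7 LD2_c18 LD3_c28) Lrfl Lrfl
theorem f517153 : Led Lsl_ft (LP (LK LD1_c7 LD2_c18 LD3_c29)) = (LP (LK LD1_c3 LD2_c39 LD3_c0)) :=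
  Lre_f IH (LK LD1_c7 LD2_c18 LD3_c29) (LK LD1_c3 LD2_c39 LD3_c0) Lrfl Lrfl
theorem f518661 : Led Lsl_df (LP (LK LD1_c7 LD2_c18 LD3_c29)) = (LP (LK LD1_c13 LD2_c41 LD3_c4)) :=
  Lgr Lrot78 (Lpr_ft (f517153 IH) (Lpr_dt (f481469 IH) (Lpr_ft (K41.f518657 IH) (Lpn (LP (LK LD1_c13 LD2_c41 LD3_c4))))))
theorem f471035 : Led Lsl_ct (LP (LK LD1_c13 LD2_c48 LD3_c26)) = (LP (LK LD1_c7 LD2_c17 LD3_c51)) :=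
  Lre_c IH (LK LD1_c13 LD2_c48 LD3_c26) (LK LD1_c7 LD2_c17 LD3_c51) Lrfl Lrfl
theorem f526275 : Led Lsl_gt (LP (LK LD1_c7 LD2_c11 LD3_c59)) = (LP (LK LD1_c7 LD2_c0 LD3_c48)) :=
  Lgr Lrot150 (Lpr_cf (K34.f488187 IH) (Lpe (K33.f518618 IH) (Lpr_df (f518661 IH) (Lpr_gt (K41.f98588 IH) (Lpr_ct (K46.f17403 IH) (Lpr_gt (f526273 IH) (Lpr_ct (f471035 IH) (Lpe (K33.f441960 IH) (Lpe (K30.f476442 IH) (Lpn (LP (LK LD1_c7 LD2_c0 LD3_c48))))))))))))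
theorem f610937 : Led Lsl_cf (LP (LK LD1_c14 LD2_c9 LD3_c10)) = (LP (LK LD1_c13 LD2_c48 LD3_c17)) :=
  Lgr Lrot125 (Lpr_gt (f521415 IH) (Lpr_cf (f610726 IH) (Lpe (f610724 IH) (Lpr_gt (f11628 IH) (Lpe (K41.f11624 IH) (Lpe (K34.f488187 IH) (Lpr_gt (f526275 IH) (Lpr_cf (K30.f476438 IH) (Lpr_bt (f476445 IH) (Lpr_gt (f476446 IH) (Lpn (LP (LK LD1_c13 LD2_c48 LD3_c17)))))))))))))
theorem f159813 : Led Lsl_dt (LP (LK LD1_c3 LD2_c54 LD3_c11)) = (LP (LK LD1_c7 LD2_c49 LD3_c57)) :=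
  Lre_d IH (LK LD1_c3 LD2_c54 LD3_c11) (LK LD1_c7 LD2_c49 LD3_c57) Lrfl Lrfl
theorem f160578 : Led Lsl_gt (LP (LK LD1_c7 LD2_c49 LD3_c57)) = (LP (LK LD1_c14 LD2_c46 LD3_c24)) :=
  Lre_g IH (LK LD1_c7 LD2_c49 LD3_c57) (LK LD1_c14 LD2_c46 LD3_c24) Lrfl Lrfl
theorem f610943 : Led Lsl_df (LP (LK LD1_c14 LD2_c9 LD3_c10)) = (LP (LK LD1_c14 LD2_c46 LD3_c24)) :=
  Lgr Lrot84 (Lpr_cf (f610937 IH) (Lpe (f609609 IH) (Lpe (K37.f237296 IH) (Lpr_df (K39.f552914 IH) (Lpe (K29.f425456 IH) (Lpe (K29.f470975 IH) (Lpr_gt (K29.f160515 IH) (Lpr_dt (f159813 IH) (Lpr_gt (f160578 IH) (Lpn (LP (LK LD1_c14 LD2_c46 LD3_c24))))))))))))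
theorem f610947 : Led Lsl_dt (LP (LK LD1_c14 LD2_c9 LD3_c10)) = (LP (LK LD1_c14 LD2_c46 LD3_c24)) :=
  Lgr Lrot42 (Lpr_df (f610943 IH) (Lpn (LP (LK LD1_c14 LD2_c46 LD3_c24))))
theorem f489792 : Led Lsl_bt (LP (LK LD1_c23 LD2_c44 LD3_c11)) = (LP (LK LD1_c14 LD2_c9 LD3_c10)) :=
  Lre_b IH (LK LD1_c23 LD2_c44 LD3_c11) (LK LD1_c14 LD2_c9 LD3_c10) Lrfl Lrfl
theorem f15453 : Led Lsl_bf (LP (LK LD1_c0 LD2_c53 LD3_c4)) = (LP (LK LD1_c0 LD2_c46 LD3_c38)) :=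
  Lgr Lrot93 (Lpr_dt (K3.f15451 IH) (Lpr_bt (K0.f15429 IH) (Lpr_dt (K28.f15452 IH) (Lpn (LP (LK LD1_c0 LD2_c46 LD3_c38))))))
theorem f473400 : Led Lsl_cf (LP (LK LD1_c3 LD2_c56 LD3_c29)) = (LP (LK LD1_c6 LD2_c57 LD3_c20)) :=
  Lgr Lrot58 (Lpr_gf (K46.f471122 IH) (Lpe (K34.f471109 IH) (Lpr_bt (K34.f14903 IH) (Lpe (K28.f17013 IH) (Lpr_bf (f15453 IH) (Lpr_ct (K24.f15674 IH) (Lpe (K24.f16742 IH) (Lpe (K28.f16734 IH) (Lpr_gf (K28.f473352 IH) (Lpe (K34.f457939 IH) (Lpn (LP (LK LD1_c6 LD2_c57 LD3_c20)))))))))))))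
theorem f462239 : Led Lsl_ct (LP (LK LD1_c14 LD2_c55 LD3_c25)) = (LP (LK LD1_c7 LD2_c54 LD3_c43)) :=
  Lre_c IH (LK LD1_c14 LD2_c55 LD3_c25) (LK LD1_c7 LD2_c54 LD3_c43) Lrfl Lrfl
theorem f462243 : Led Lsl_gt (LP (LK LD1_c24 LD2_c42 LD3_c46)) = (LP (LK LD1_c14 LD2_c55 LD3_c25)) :=
  Lre_g IH (LK LD1_c24 LD2_c42 LD3_c46) (LK LD1_c14 LD2_c55 LD3_c25) Lrfl Lrfl
theorem f144920 : Led Lsl_dt (LP (LK LD1_c14 LD2_c28 LD3_c41)) = (LP (LK LD1_c7 LD2_c40 LD3_c47)) :=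
  Lre_d IH (LK LD1_c14 LD2_c28 LD3_c41) (LK LD1_c7 LD2_c40 LD3_c47) Lrfl Lrfl
theorem f533442 : Led Lsl_gt (LP (LK LD1_c14 LD2_c28 LD3_c41)) = (LP (LK LD1_c24 LD2_c9 LD3_c49)) :=
  Lre_g IH (LK LD1_c14 LD2_c28 LD3_c41) (LK LD1_c24 LD2_c9 LD3_c49) Lrfl Lrfl
theorem f533443 : Led Lsl_cf (LP (LK LD1_c24 LD2_c42 LD3_c46)) = (LP (LK LD1_c24 LD2_c9 LD3_c49)) :=
  Lgr Lrot169 (Lpr_gt (f462243 IH) (Lpr_ct (f462239 IH) (Lpe (K34.f462260 IH) (Lpr_cf (f473400 IH) (Lpe (K34.f476617 IH) (Lpr_cf (K34.f533435 IH) (Lpe (K34.f144912 IH) (Lpe (f144920 IH) (Lpr_gt (f533442 IH) (Lpn (LP (LK LD1_c24 LD2_c9 LD3_c49))))))))))))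
theorem f428431 : Led Lsl_ct (LP (LK LD1_c23 LD2_c24 LD3_c12)) = (LP (LK LD1_c13 LD2_c54 LD3_c1)) :=
  Lre_c IH (LK LD1_c23 LD2_c24 LD3_c12) (LK LD1_c13 LD2_c54 LD3_c1) Lrfl Lrfl
theorem f462286 : Led Lsl_ct (LP (LK LD1_c14 LD2_c55 LD3_c23)) = (LP (LK LD1_c24 LD2_c42 LD3_c43)) :=
  Lre_c IH (LK LD1_c14 LD2_c55 LD3_c23) (LK LD1_c24 LD2_c42 LD3_c43) Lrfl Lrfl
theorem f462290 : Led Lsl_ff (LP (LK LD1_c23 LD2_c24 LD3_c12)) = (LP (LK LD1_c24 LD2_c42 LD3_c43)) :=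
  Lgr Lrot23 (Lpr_ct (f428431 IH) (Lpr_ft (K28.f462282 IH) (Lpr_ct (f462286 IH) (Lpn (LP (LK LD1_c24 LD2_c42 LD3_c43))))))
theorem f462296 : Led Lsl_ft (LP (LK LD1_c23 LD2_c24 LD3_c12)) = (LP (LK LD1_c24 LD2_c42 LD3_c43)) :=
  Lgr Lrot48 (Lpr_ff (f462290 IH) (Lpn (LP (LK LD1_c24 LD2_c42 LD3_c43))))
theorem f462305 : Led Lsl_at (LP (LK LD1_c24 LD2_c42 LD3_c43)) = (LP (LK LD1_c14 LD2_c55 LD3_c25)) :=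
  Lre_a IH (LK LD1_c24 LD2_c42 LD3_c43) (LK LD1_c14 LD2_c55 LD3_c25) Lrfl Lrfl
theorem f462308 : Led Lsl_gt (LP (LK LD1_c23 LD2_c24 LD3_c12)) = (LP (LK LD1_c24 LD2_c42 LD3_c46)) :=
  Lgr Lrot5 (Lpr_ft (f462296 IH) (Lpr_at (f462305 IH) (Lpe (f462243 IH) (Lpn (LP (LK LD1_c24 LD2_c42 LD3_c46))))))
theorem f425566 : Led Lsl_ct (LP (LK LD1_c13 LD2_c54 LD3_c1)) = (LP (LK LD1_c23 LD2_c24 LD3_c12)) :=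
  Lre_c IH (LK LD1_c13 LD2_c54 LD3_c1) (LK LD1_c23 LD2_c24 LD3_c12) Lrfl Lrfl
theorem f159344 : Led Lsl_bt (LP (LK LD1_c7 LD2_c25 LD3_c17)) = (LP (LK LD1_c3 LD2_c42 LD3_c24)) :=
  Lre_b IH (LK LD1_c7 LD2_c25 LD3_c17) (LK LD1_c3 LD2_c42 LD3_c24) Lrfl Lrfl
theorem f159345 : Led Lsl_at (LP (LK LD1_c14 LD2_c1 LD3_c53)) = (LP (LK LD1_c7 LD2_c25 LD3_c17)) :=
  Lre_a IH (LK LD1_c14 LD2_c1 LD3_c53) (LK LD1_c7 LD2_c25 LD3_c17) Lrfl Lrfl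
theorem f159348 : Led Lsl_bf (LP (LK LD1_c14 LD2_c1 LD3_c53)) = (LP (LK LD1_c13 LD2_c54 LD3_c1)) :=
  Lgr Lrot81 (Lpr_at (f159345 IH) (Lpr_bt (f159344 IH) (Lpr_at (K8.f159335 IH) (Lpr_bt (K34.f159346 IH) (Lpr_at (K34.f159347 IH) (Lpn (LP (LK LD1_c13 LD2_c54 LD3_c1))))))))
theorem f425565 : Led Lsl_at (LP (LK LD1_c7 LD2_c25 LD3_c17)) = (LP (LK LD1_c14 LD2_c1 LD3_c53)) :=
  Lre_a IH (LK LD1_c7 LD2_c25 LD3_c17) (LK LD1_c14 LD2_c1 LD3_c53) Lrfl Lrfl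
theorem f462522 : Led Lsl_gf (LP (LK LD1_c14 LD2_c1 LD3_c53)) = (LP (LK LD1_c14 LD2_c53 LD3_c58)) :=
  Lgr Lrot76 (Lpe (f425565 IH) (Lpr_ff (K28.f462511 IH) (Lpr_gt (K28.f462521 IH) (Lpn (LP (LK LD1_c14 LD2_c53 LD3_c58))))))
theorem f160512 : Led Lsl_ct (LP (LK LD1_c14 LD2_c46 LD3_c26)) = (LP (LK LD1_c7 LD2_c49 LD3_c57)) :=
  Lre_c IH (LK LD1_c14 LD2_c46 LD3_c26) (LK LD1_c7 LD2_c49 LD3_c57) Lrfl Lrfl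
theorem f160513 : Led Lsl_gt (LP (LK LD1_c24 LD2_c32 LD3_c38)) = (LP (LK LD1_c14 LD2_c46 LD3_c26)) :=
  Lre_g IH (LK LD1_c24 LD2_c32 LD3_c38) (LK LD1_c14 LD2_c46 LD3_c26) Lrfl Lrfl
theorem f425529 : Led Lsl_dt (LP (LK LD1_c13 LD2_c52 LD3_c60)) = (LP (LK LD1_c7 LD2_c20 LD3_c28)) :=
  Lre_d IH (LK LD1_c13 LD2_c52 LD3_c60) (LK LD1_c7 LD2_c20 LD3_c28) Lrfl Lrfl
theorem f471162 : Led Lsl_cf (LP (LK LD1_c24 LD2_c32 LD3_c38)) = (LP (LK LD1_c23 LD2_c22 LD3_c46)) :=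
  Lgr Lrot169 (Lpr_gt (f160513 IH) (Lpr_ct (f160512 IH) (Lpe (f159813 IH) (Lpe (K29.f160481 IH) (Lpe (K39.f160509 IH) (Lpe (K39.f160511 IH) (Lpr_gf (K39.f471158 IH) (Lpe (f425529 IH) (Lpr_gt (K39.f462590 IH) (Lpn (LP (LK LD1_c23 LD2_c22 LD3_c46))))))))))))
theorem f471167 : Led Lsl_bf (LP (LK LD1_c14 LD2_c53 LD3_c58)) = (LP (LK LD1_c23 LD2_c22 LD3_c46)) :=
  Lgr Lrot34 (Lpe (K28.f462521 IH) (Lpe (K28.f462517 IH) (Lpr_ct (K28.f462422 IH) (Lpe (K28.f470051 IH) (Lpe (K28.f455638 IH) (Lpr_gf (K28.f470049 IH) (Lpe (K28.f160541 IH) (Lpr_ct (K28.f160500 IH) (Lpe (f160513 IH) (Lpr_cf (f471162 IH) (Lpn (LP (LK LD1_c23 LD2_c22 LD3_c46)))))))))))))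
theorem f462464 : Led Lsl_gt (LP (LK LD1_c24 LD2_c40 LD3_c55)) = (LP (LK LD1_c14 LD2_c53 LD3_c60)) :=
  Lre_g IH (LK LD1_c24 LD2_c40 LD3_c55) (LK LD1_c14 LD2_c53 LD3_c60) Lrfl Lrfl
theorem f462546 : Led Lsl_gt (LP (LK LD1_c23 LD2_c34 LD3_c43)) = (LP (LK LD1_c24 LD2_c40 LD3_c55)) :=
  Lgr Lrot5 (Lpr_ft (K28.f462538 IH) (Lpr_at (K28.f462537 IH) (Lpe (f462464 IH) (Lpn (LP (LK LD1_c24 LD2_c40 LD3_c55))))))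
theorem f462463 : Led Lsl_ct (LP (LK LD1_c7 LD2_c53 LD3_c59)) = (LP (LK LD1_c14 LD2_c53 LD3_c60)) :=
  Lre_c IH (LK LD1_c7 LD2_c53 LD3_c59) (LK LD1_c14 LD2_c53 LD3_c60) Lrfl Lrfl
theorem f121187 : Led Lsl_gt (LP (LK LD1_c7 LD2_c51 LD3_c40)) = (LP (LK LD1_c14 LD2_c49 LD3_c37)) :=
  Lre_g IH (LK LD1_c7 LD2_c51 LD3_c40) (LK LD1_c14 LD2_c49 LD3_c37) Lrfl Lrfl
theorem f463084 : Led Lsl_bt (LP (LK LD1_c24 LD2_c35 LD3_c55)) = (LP (LK LD1_c14 LD2_c49 LD3_c37)) :=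
  Lre_b IH (LK LD1_c24 LD2_c35 LD3_c55) (LK LD1_c14 LD2_c49 LD3_c37) Lrfl Lrfl
theorem f464657 : Led Lsl_cf (LP (LK LD1_c24 LD2_c40 LD3_c55)) = (LP (LK LD1_c24 LD2_c35 LD3_c55)) :=
  Lgr Lrot160 (Lpr_gt (f462464 IH) (Lpe (f462463 IH) (Lpr_bt (K28.f462452 IH) (Lpe (K28.f462459 IH) (Lpr_ct (K28.f132089 IH) (Lpr_gt (K28.f464632 IH) (Lpe (K28.f121076 IH) (Lpr_bt (K5.f121072 IH) (Lpr_gt (f121187 IH) (Lpe (f463084 IH) (Lpn (LP (LK LD1_c24 LD2_c35 LD3_c55)))))))))))))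
theorem f463066 : Led Lsl_at (LP (LK LD1_c7 LD2_c54 LD3_c7)) = (LP (LK LD1_c14 LD2_c54 LD3_c14)) :=
  Lre_a IH (LK LD1_c7 LD2_c54 LD3_c7) (LK LD1_c14 LD2_c54 LD3_c14) Lrfl Lrfl
theorem f463077 : Led Lsl_gf (LP (LK LD1_c14 LD2_c54 LD3_c14)) = (LP (LK LD1_c14 LD2_c49 LD3_c37)) :=
  Lgr Lrot76 (Lpe (f463066 IH) (Lpr_ff (K28.f463047 IH) (Lpr_gt (f121187 IH) (Lpn (LP (LK LD1_c14 LD2_c49 LD3_c37))))))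
theorem f463080 : Led Lsl_dt (LP (LK LD1_c14 LD2_c54 LD3_c14)) = (LP (LK LD1_c7 LD2_c54 LD3_c6)) :=
  Lre_d IH (LK LD1_c14 LD2_c54 LD3_c14) (LK LD1_c7 LD2_c54 LD3_c6) Lrfl Lrfl
theorem f465043 : Led Lsl_dt (LP (LK LD1_c7 LD2_c54 LD3_c52)) = (LP (LK LD1_c14 LD2_c55 LD3_c42)) :=
  Lre_d IH (LK LD1_c7 LD2_c54 LD3_c52) (LK LD1_c14 LD2_c55 LD3_c42) Lrfl Lrfl
theorem f470141 : Led Lsl_bf (LP (LK LD1_c14 LD2_c54 LD3_c14)) = (LP (LK LD1_c14 LD2_c55 LD3_c42)) :=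
  Lgr Lrot93 (Lpr_dt (f463080 IH) (Lpr_bt (f470133 IH) (Lpr_dt (f465043 IH) (Lpn (LP (LK LD1_c14 LD2_c55 LD3_c42))))))
theorem f465045 : Led Lsl_ct (LP (LK LD1_c14 LD2_c55 LD3_c42)) = (LP (LK LD1_c24 LD2_c43 LD3_c4)) :=
  Lre_c IH (LK LD1_c14 LD2_c55 LD3_c42) (LK LD1_c24 LD2_c43 LD3_c4) Lrfl Lrfl
theorem f471169 : Led Lsl_gf (LP (LK LD1_c24 LD2_c32 LD3_c38)) = (LP (LK LD1_c24 LD2_c43 LD3_c4)) :=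
  Lgr Lrot126 (Lpr_cf (f471162 IH) (Lpe (f471167 IH) (Lpe (f462522 IH) (Lpr_ct (K28.f108136 IH) (Lpr_gt (f462546 IH) (Lpr_cf (f464657 IH) (Lpr_bt (f463084 IH) (Lpe (f463077 IH) (Lpr_bf (f470141 IH) (Lpr_ct (f465045 IH) (Lpn (LP (LK LD1_c24 LD2_c43 LD3_c4)))))))))))))
theorem f465027 : Led Lsl_ft (LP (LK LD1_c7 LD2_c49 LD3_c57)) = (LP (LK LD1_c7 LD2_c54 LD3_c53)) :=
  Lgr Lrot54 (Lpe (f159813 IH) (Lpr_ff (K28.f465016 IH) (Lpe (f464993 IH) (Lpn (LP (LK LD1_c7 LD2_c54 LD3_c53))))))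
theorem f470143 : Led Lsl_at (LP (LK LD1_c7 LD2_c54 LD3_c53)) = (LP (LK LD1_c14 LD2_c55 LD3_c42)) :=
  Lre_a IH (LK LD1_c7 LD2_c54 LD3_c53) (LK LD1_c14 LD2_c55 LD3_c42) Lrfl Lrfl
theorem f489527 : Led Lsl_gt (LP (LK LD1_c14 LD2_c46 LD3_c24)) = (LP (LK LD1_c14 LD2_c55 LD3_c42)) :=
  Lgr Lrot46 (Lpe (f160578 IH) (Lpr_ft (f465027 IH) (Lpr_at (f470143 IH) (Lpn (LP (LK LD1_c14 LD2_c55 LD3_c42))))))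
theorem f535107 : Led Lsl_bf (LP (LK LD1_c14 LD2_c46 LD3_c24)) = (LP (LK LD1_c24 LD2_c9 LD3_c49)) :=
  Lgr Lrot165 (Lpr_gt (f489527 IH) (Lpr_ct (f465045 IH) (Lpe (f471169 IH) (Lpr_cf (f471162 IH) (Lpe (f471167 IH) (Lpe (f462522 IH) (Lpr_bf (f159348 IH) (Lpr_ct (f425566 IH) (Lpr_gt (f462308 IH) (Lpr_cf (f533443 IH) (Lpn (LP (LK LD1_c24 LD2_c9 LD3_c49)))))))))))))
theorem f535109 : Led Lsl_bt (LP (LK LD1_c14 LD2_c46 LD3_c24)) = (LP (LK LD1_c24 LD2_c9 LD3_c49)) :=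
  Lgr Lrot127 (Lpr_bf (f535107 IH) (Lpn (LP (LK LD1_c24 LD2_c9 LD3_c49))))
theorem f611039 : Led Lsl_df (LP (LK LD1_c23 LD2_c44 LD3_c11)) = (LP (LK LD1_c24 LD2_c9 LD3_c49)) :=
  Lgr Lrot12 (Lpr_bt (f489792 IH) (Lpr_dt (f610947 IH) (Lpr_bt (f535109 IH) (Lpn (LP (LK LD1_c24 LD2_c9 LD3_c49))))))
theorem f477208 : Led Lsl_bt (LP (LK LD1_c22 LD2_c14 LD3_c22)) = (LP (LK LD1_c13 LD2_c4 LD3_c0)) :=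
  Lre_b IH (LK LD1_c22 LD2_c14 LD3_c22) (LK LD1_c13 LD2_c4 LD3_c0) Lrfl Lrfl
theorem f458330 : Led Lsl_bt (LP (LK LD1_c7 LD2_c5 LD3_c6)) = (LP (LK LD1_c13 LD2_c25 LD3_c57)) :=
  Lre_b IH (LK LD1_c7 LD2_c5 LD3_c6) (LK LD1_c13 LD2_c25 LD3_c57) Lrfl Lrfl
theorem f477211 : Led Lsl_cf (LP (LK LD1_c22 LD2_c14 LD3_c22)) = (LP (LK LD1_c13 LD2_c25 LD3_c57)) :=
  Lgr Lrot97 (Lpr_bt (f477208 IH) (Lpr_ct (K32.f477202 IH) (Lpe (K29.f477195 IH) (Lpr_ct (K29.f455749 IH) (Lpr_bt (f458330 IH) (Lpn (LP (LK LD1_c13 LD2_c25 LD3_c57))))))))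
theorem f477210 : Led Lsl_gt (LP (LK LD1_c30 LD2_c22 LD3_c54)) = (LP (LK LD1_c22 LD2_c14 LD3_c22)) :=
  Lre_g IH (LK LD1_c30 LD2_c22 LD3_c54) (LK LD1_c22 LD2_c14 LD3_c22) Lrfl Lrfl
theorem f489793 : Led Lsl_ct (LP (LK LD1_c23 LD2_c44 LD3_c11)) = (LP (LK LD1_c30 LD2_c22 LD3_c54)) :=
  Lgr Lrot64 (Lpr_bt (f489792 IH) (Lpe (f489791 IH) (Lpe (f489790 IH) (Lpr_ct (K34.f489784 IH) (Lpr_gf (K33.f480041 IH) (Lpe (K28.f464548 IH) (Lpe (K29.f469646 IH) (Lpe (K42.f469825 IH) (Lpe (f477211 IH) (Lpe (f477210 IH) (Lpn (LP (LK LD1_c30 LD2_c22 LD3_c54)))))))))))))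
theorem f489797 : Led Lsl_cf (LP (LK LD1_c23 LD2_c44 LD3_c11)) = (LP (LK LD1_c30 LD2_c22 LD3_c54)) :=
  Lgr Lrot11 (Lpr_ct (f489793 IH) (Lpn (LP (LK LD1_c30 LD2_c22 LD3_c54))))
theorem f477214 : Led Lsl_at (LP (LK LD1_c30 LD2_c22 LD3_c55)) = (LP (LK LD1_c22 LD2_c14 LD3_c22)) :=
  Lre_a IH (LK LD1_c30 LD2_c22 LD3_c55) (LK LD1_c22 LD2_c14 LD3_c22) Lrfl Lrfl
theorem f488458 : Led Lsl_at (LP (LK LD1_c13 LD2_c7 LD3_c1)) = (LP (LK LD1_c22 LD2_c18 LD3_c34)) :=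
  Lre_a IH (LK LD1_c13 LD2_c7 LD3_c1) (LK LD1_c22 LD2_c18 LD3_c34) Lrfl Lrfl
theorem f529121 : Led Lsl_ff (LP (LK LD1_c30 LD2_c22 LD3_c55)) = (LP (LK LD1_c22 LD2_c18 LD3_c34)) :=
  Lgr Lrot30 (Lpr_at (f477214 IH) (Lpr_ft (K42.f529119 IH) (Lpr_at (f488458 IH) (Lpn (LP (LK LD1_c22 LD2_c18 LD3_c34))))))
theorem f529447 : Led Lsl_gf (LP (LK LD1_c30 LD2_c22 LD3_c54)) = (LP (LK LD1_c22 LD2_c18 LD3_c34)) :=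
  Lgr Lrot47 (Lpr_gt (f477210 IH) (Lpe (f477214 IH) (Lpr_ff (f529121 IH) (Lpn (LP (LK LD1_c22 LD2_c18 LD3_c34))))))
theorem f488459 : Led Lsl_at (LP (LK LD1_c14 LD2_c10 LD3_c2)) = (LP (LK LD1_c7 LD2_c30 LD3_c6)) :=
  Lre_a IH (LK LD1_c14 LD2_c10 LD3_c2) (LK LD1_c7 LD2_c30 LD3_c6) Lrfl Lrfl
theorem f488460 : Led Lsl_ct (LP (LK LD1_c22 LD2_c18 LD3_c34)) = (LP (LK LD1_c14 LD2_c10 LD3_c2)) :=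
  Lgr Lrot111 (Lpe (f488458 IH) (Lpr_cf (K42.f488446 IH) (Lpe (f488459 IH) (Lpn (LP (LK LD1_c14 LD2_c10 LD3_c2))))))
theorem f488468 : Led Lsl_cf (LP (LK LD1_c22 LD2_c18 LD3_c34)) = (LP (LK LD1_c14 LD2_c10 LD3_c2)) :=
  Lgr Lrot11 (Lpr_ct (f488460 IH) (Lpn (LP (LK LD1_c14 LD2_c10 LD3_c2))))
theorem f535105 : Led Lsl_ct (LP (LK LD1_c24 LD2_c42 LD3_c46)) = (LP (LK LD1_c24 LD2_c9 LD3_c49)) :=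
  Lgr Lrot59 (Lpr_cf (f533443 IH) (Lpn (LP (LK LD1_c24 LD2_c9 LD3_c49))))
theorem f611043 : Led Lsl_gf (LP (LK LD1_c14 LD2_c10 LD3_c2)) = (LP (LK LD1_c13 LD2_c56 LD3_c25)) :=
  Lgr Lrot147 (Lpe (f488468 IH) (Lpe (f529447 IH) (Lpe (f489797 IH) (Lpr_df (f611039 IH) (Lpe (f535105 IH) (Lpe (f462308 IH) (Lpe (f425566 IH) (Lpr_gf (K34.f462337 IH) (Lpe (K34.f462340 IH) (Lpn (LP (LK LD1_c13 LD2_c56 LD3_c25))))))))))))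
theorem f488472 : Led Lsl_at (LP (LK LD1_c7 LD2_c30 LD3_c6)) = (LP (LK LD1_c14 LD2_c10 LD3_c2)) :=
  Lre_a IH (LK LD1_c7 LD2_c30 LD3_c6) (LK LD1_c14 LD2_c10 LD3_c2) Lrfl Lrfl
theorem f611045 : Led Lsl_gt (LP (LK LD1_c13 LD2_c25 LD3_c57)) = (LP (LK LD1_c13 LD2_c56 LD3_c25)) :=
  Lgr Lrot5 (Lpr_ft (K42.f529129 IH) (Lpr_at (f488472 IH) (Lpr_gf (f611043 IH) (Lpn (LP (LK LD1_c13 LD2_c56 LD3_c25))))))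
theorem f458246 : Led Lsl_bt (LP (LK LD1_c13 LD2_c25 LD3_c58)) = (LP (LK LD1_c7 LD2_c5 LD3_c7)) :=
  Lre_b IH (LK LD1_c13 LD2_c25 LD3_c58) (LK LD1_c7 LD2_c5 LD3_c7) Lrfl Lrfl
theorem f479791 : Led Lsl_bt (LP (LK LD1_c7 LD2_c5 LD3_c7)) = (LP (LK LD1_c13 LD2_c25 LD3_c58)) :=
  Lre_b IH (LK LD1_c7 LD2_c5 LD3_c7) (LK LD1_c13 LD2_c25 LD3_c58) Lrfl Lrfl
theorem f521112 : Led Lsl_ff (LP (LK LD1_c13 LD2_c25 LD3_c12)) = (LP (LK LD1_c13 LD2_c25 LD3_c58)) :=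
  Lgr Lrot25 (Lpr_bt (K34.f459198 IH) (Lpr_ft (K34.f521110 IH) (Lpr_bt (f479791 IH) (Lpn (LP (LK LD1_c13 LD2_c25 LD3_c58))))))
theorem f460635 : Led Lsl_bt (LP (LK LD1_c31 LD2_c18 LD3_c51)) = (LP (LK LD1_c24 LD2_c0 LD3_c1)) :=
  Lre_b IH (LK LD1_c31 LD2_c18 LD3_c51) (LK LD1_c24 LD2_c0 LD3_c1) Lrfl Lrfl
theorem f520821 : Led Lsl_ef (LP (LK LD1_c31 LD2_c18 LD3_c51)) = (LP (LK LD1_c24 LD2_c27 LD3_c23)) :=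
  Lgr Lrot29 (Lpr_bt (f460635 IH) (Lpr_et (K34.f520819 IH) (Lpr_bt (K34.f477773 IH) (Lpn (LP (LK LD1_c24 LD2_c27 LD3_c23))))))
theorem f460639 : Led Lsl_ft (LP (LK LD1_c31 LD2_c18 LD3_c51)) = (LP (LK LD1_c23 LD2_c59 LD3_c60)) :=
  Lre_f IH (LK LD1_c31 LD2_c18 LD3_c51) (LK LD1_c23 LD2_c59 LD3_c60) Lrfl Lrfl
theorem f460657 : Led Lsl_et (LP (LK LD1_c23 LD2_c59 LD3_c60)) = (LP (LK LD1_c14 LD2_c21 LD3_c58)) :=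
  Lre_e IH (LK LD1_c23 LD2_c59 LD3_c60) (LK LD1_c14 LD2_c21 LD3_c58) Lrfl Lrfl
theorem f477827 : Led Lsl_et (LP (LK LD1_c7 LD2_c47 LD3_c30)) = (LP (LK LD1_c14 LD2_c42 LD3_c12)) :=
  Lre_e IH (LK LD1_c7 LD2_c47 LD3_c30) (LK LD1_c14 LD2_c42 LD3_c12) Lrfl Lrfl
theorem f520848 : Led Lsl_ft (LP (LK LD1_c14 LD2_c21 LD3_c58)) = (LP (LK LD1_c7 LD2_c47 LD3_c30)) :=
  Lgr Lrot86 (Lpe (f460657 IH) (Lpe (f460639 IH) (Lpr_ef (f520821 IH) (Lpe (K34.f477781 IH) (Lpe (f477827 IH) (Lpn (LP (LK LD1_c7 LD2_c47 LD3_c30))))))))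
theorem f460634 : Led Lsl_bt (LP (LK LD1_c22 LD2_c33 LD3_c49)) = (LP (LK LD1_c30 LD2_c34 LD3_c52)) :=
  Lre_b IH (LK LD1_c22 LD2_c33 LD3_c49) (LK LD1_c30 LD2_c34 LD3_c52) Lrfl Lrfl
theorem f460636 : Led Lsl_dt (LP (LK LD1_c30 LD2_c34 LD3_c52)) = (LP (LK LD1_c31 LD2_c18 LD3_c51)) :=
  Lgr Lrot79 (Lpe (f460634 IH) (Lpr_df (K33.f460631 IH) (Lpe (f460635 IH) (Lpn (LP (LK LD1_c31 LD2_c18 LD3_c51))))))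
theorem f460638 : Led Lsl_ft (LP (LK LD1_c22 LD2_c33 LD3_c45)) = (LP (LK LD1_c30 LD2_c34 LD3_c52)) :=
  Lre_f IH (LK LD1_c22 LD2_c33 LD3_c45) (LK LD1_c30 LD2_c34 LD3_c52) Lrfl Lrfl
theorem f460640 : Led Lsl_df (LP (LK LD1_c22 LD2_c33 LD3_c45)) = (LP (LK LD1_c23 LD2_c59 LD3_c60)) :=
  Lgr Lrot78 (Lpr_ft (f460638 IH) (Lpr_dt (f460636 IH) (Lpr_ft (f460639 IH) (Lpn (LP (LK LD1_c23 LD2_c59 LD3_c60))))))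
theorem f460648 : Led Lsl_et (LP (LK LD1_c22 LD2_c33 LD3_c45)) = (LP (LK LD1_c13 LD2_c17 LD3_c58)) :=
  Lre_e IH (LK LD1_c22 LD2_c33 LD3_c45) (LK LD1_c13 LD2_c17 LD3_c58) Lrfl Lrfl
theorem f460649 : Led Lsl_dt (LP (LK LD1_c13 LD2_c17 LD3_c58)) = (LP (LK LD1_c7 LD2_c0 LD3_c34)) :=
  Lre_d IH (LK LD1_c13 LD2_c17 LD3_c58) (LK LD1_c7 LD2_c0 LD3_c34) Lrfl Lrfl
theorem f460650 : Led Lsl_et (LP (LK LD1_c7 LD2_c0 LD3_c34)) = (LP (LK LD1_c13 LD2_c17 LD3_c59)) :=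
  Lre_e IH (LK LD1_c7 LD2_c0 LD3_c34) (LK LD1_c13 LD2_c17 LD3_c59) Lrfl Lrfl
theorem f460651 : Led Lsl_et (LP (LK LD1_c14 LD2_c21 LD3_c58)) = (LP (LK LD1_c23 LD2_c59 LD3_c60)) :=
  Lre_e IH (LK LD1_c14 LD2_c21 LD3_c58) (LK LD1_c23 LD2_c59 LD3_c60) Lrfl Lrfl
theorem f460652 : Led Lsl_dt (LP (LK LD1_c13 LD2_c17 LD3_c59)) = (LP (LK LD1_c14 LD2_c21 LD3_c58)) :=
  Lgr Lrot77 (Lpe (f460650 IH) (Lpe (f460649 IH) (Lpe (f460648 IH) (Lpr_df (f460640 IH) (Lpe (f460651 IH) (Lpn (LP (LK LD1_c14 LD2_c21 LD3_c58))))))))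
theorem f520853 : Led Lsl_ff (LP (LK LD1_c13 LD2_c17 LD3_c59)) = (LP (LK LD1_c14 LD2_c42 LD3_c11)) :=
  Lgr Lrot19 (Lpr_dt (f460652 IH) (Lpr_ft (f520848 IH) (Lpr_dt (K34.f477794 IH) (Lpn (LP (LK LD1_c14 LD2_c42 LD3_c11))))))
theorem f521429 : Led Lsl_cf (LP (LK LD1_c13 LD2_c25 LD3_c58)) = (LP (LK LD1_c13 LD2_c17 LD3_c59)) :=
  Lgr Lrot108 (Lpe (f521112 IH) (Lpr_ct (K34.f521421 IH) (Lpe (f520853 IH) (Lpn (LP (LK LD1_c13 LD2_c17 LD3_c59))))))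
theorem f521436 : Led Lsl_ct (LP (LK LD1_c13 LD2_c25 LD3_c58)) = (LP (LK LD1_c13 LD2_c17 LD3_c59)) :=
  Lgr Lrot59 (Lpr_cf (f521429 IH) (Lpn (LP (LK LD1_c13 LD2_c17 LD3_c59))))
theorem f460661 : Led Lsl_gt (LP (LK LD1_c22 LD2_c33 LD3_c46)) = (LP (LK LD1_c13 LD2_c17 LD3_c59)) :=
  Lre_g IH (LK LD1_c22 LD2_c33 LD3_c46) (LK LD1_c13 LD2_c17 LD3_c59) Lrfl Lrfl
theorem f657151 : Led Lsl_cf (LP (LK LD1_c22 LD2_c33 LD3_c46)) = (LP (LK LD1_c23 LD2_c26 LD3_c53)) :=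
  Lgr Lrot160 (Lpr_gt (f460661 IH) (Lpe (f521436 IH) (Lpr_bt (f458246 IH) (Lpr_gt (K32.f458929 IH) (Lpr_ct (K28.f458931 IH) (Lpe (K29.f458989 IH) (Lpe (K34.f455751 IH) (Lpr_bt (f458330 IH) (Lpr_gt (f611045 IH) (Lpr_bf (K46.f655187 IH) (Lpn (LP (LK LD1_c23 LD2_c26 LD3_c53)))))))))))))
theorem f521142 : Led Lsl_ff (LP (LK LD1_c7 LD2_c55 LD3_c1)) = (LP (LK LD1_c7 LD2_c54 LD3_c18)) :=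
  Lgr Lrot23 (Lpr_ct (K33.f451987 IH) (Lpr_ft (f521136 IH) (Lpr_ct (K33.f451882 IH) (Lpn (LP (LK LD1_c7 LD2_c54 LD3_c18))))))
theorem f521182 : Led Lsl_at (LP (LK LD1_c7 LD2_c55 LD3_c1)) = (LP (LK LD1_c7 LD2_c54 LD3_c15)) :=
  Lgr Lrot26 (Lpr_ff (f521142 IH) (Lpe (K33.f464640 IH) (Lpr_gt (K33.f480460 IH) (Lpn (LP (LK LD1_c7 LD2_c54 LD3_c15))))))
theorem f521184 : Led Lsl_af (LP (LK LD1_c7 LD2_c55 LD3_c1)) = (LP (LK LD1_c7 LD2_c54 LD3_c15)) :=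
  Lgr Lrot0 (Lpr_at (f521182 IH) (Lpn (LP (LK LD1_c7 LD2_c54 LD3_c15))))
theorem f464780 : Led Lsl_gf (LP (LK LD1_c13 LD2_c54 LD3_c20)) = (LP (LK LD1_c7 LD2_c54 LD3_c60)) :=
  Lgr Lrot104 (Lpr_ct (K33.f464656 IH) (Lpe (K33.f129167 IH) (Lpr_cf (K28.f464713 IH) (Lpe (K28.f128085 IH) (Lpr_cf (K28.f121199 IH) (Lpr_gf (K28.f463653 IH) (Lpe (K33.f11342 IH) (Lpr_gt (K34.f451809 IH) (Lpr_ct (K34.f451812 IH) (Lpn (LP (LK LD1_c7 LD2_c54 LD3_c60))))))))))))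
theorem f521223 : Led Lsl_ft (LP (LK LD1_c7 LD2_c54 LD3_c60)) = (LP (LK LD1_c7 LD2_c54 LD3_c15)) :=
  Lgr Lrot2 (Lpe (f464780 IH) (Lpr_gt (K33.f480489 IH) (Lpr_af (f521184 IH) (Lpn (LP (LK LD1_c7 LD2_c54 LD3_c15))))))
theorem f521229 : Led Lsl_ff (LP (LK LD1_c7 LD2_c54 LD3_c60)) = (LP (LK LD1_c7 LD2_c54 LD3_c15)) :=
  Lgr Lrot3 (Lpr_ft (f521223 IH) (Lpn (LP (LK LD1_c7 LD2_c54 LD3_c15))))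
theorem f451822 : Led Lsl_bt (LP (LK LD1_c7 LD2_c54 LD3_c60)) = (LP (LK LD1_c14 LD2_c56 LD3_c1)) :=
  Lre_b IH (LK LD1_c7 LD2_c54 LD3_c60) (LK LD1_c14 LD2_c56 LD3_c1) Lrfl Lrfl
theorem f469986 : Led Lsl_bt (LP (LK LD1_c14 LD2_c54 LD3_c39)) = (LP (LK LD1_c7 LD2_c54 LD3_c15)) :=
  Lre_b IH (LK LD1_c14 LD2_c54 LD3_c39) (LK LD1_c7 LD2_c54 LD3_c15) Lrfl Lrfl
theorem f521233 : Led Lsl_ft (LP (LK LD1_c14 LD2_c56 LD3_c1)) = (LP (LK LD1_c14 LD2_c54 LD3_c39)) :=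
  Lgr Lrot75 (Lpe (f451822 IH) (Lpr_ff (f521229 IH) (Lpe (f469986 IH) (Lpn (LP (LK LD1_c14 LD2_c54 LD3_c39))))))
theorem f489568 : Led Lsl_ct (LP (LK LD1_c24 LD2_c43 LD3_c29)) = (LP (LK LD1_c14 LD2_c56 LD3_c1)) :=
  Lre_c IH (LK LD1_c24 LD2_c43 LD3_c29) (LK LD1_c14 LD2_c56 LD3_c1) Lrfl Lrfl
theorem f469990 : Led Lsl_ct (LP (LK LD1_c14 LD2_c54 LD3_c39)) = (LP (LK LD1_c24 LD2_c41 LD3_c44)) :=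
  Lre_c IH (LK LD1_c14 LD2_c54 LD3_c39) (LK LD1_c24 LD2_c41 LD3_c44) Lrfl Lrfl
theorem f521235 : Led Lsl_ff (LP (LK LD1_c24 LD2_c43 LD3_c29)) = (LP (LK LD1_c24 LD2_c41 LD3_c44)) :=
  Lgr Lrot23 (Lpr_ct (f489568 IH) (Lpr_ft (f521233 IH) (Lpr_ct (f469990 IH) (Lpn (LP (LK LD1_c24 LD2_c41 LD3_c44))))))
theorem f521242 : Led Lsl_ft (LP (LK LD1_c24 LD2_c43 LD3_c29)) = (LP (LK LD1_c24 LD2_c41 LD3_c44)) :=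
  Lgr Lrot48 (Lpr_ff (f521235 IH) (Lpn (LP (LK LD1_c24 LD2_c41 LD3_c44))))
theorem f480362 : Led Lsl_bt (LP (LK LD1_c14 LD2_c55 LD3_c61)) = (LP (LK LD1_c24 LD2_c43 LD3_c29)) :=
  Lre_b IH (LK LD1_c14 LD2_c55 LD3_c61) (LK LD1_c24 LD2_c43 LD3_c29) Lrfl Lrfl
theorem f521246 : Led Lsl_bt (LP (LK LD1_c24 LD2_c41 LD3_c44)) = (LP (LK LD1_c14 LD2_c54 LD3_c37)) :=
  Lre_b IH (LK LD1_c24 LD2_c41 LD3_c44) (LK LD1_c14 LD2_c54 LD3_c37) Lrfl Lrfl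
theorem f521247 : Led Lsl_ff (LP (LK LD1_c14 LD2_c55 LD3_c61)) = (LP (LK LD1_c14 LD2_c54 LD3_c37)) :=
  Lgr Lrot25 (Lpr_bt (f480362 IH) (Lpr_ft (f521242 IH) (Lpr_bt (f521246 IH) (Lpn (LP (LK LD1_c14 LD2_c54 LD3_c37))))))
theorem f451816 : Led Lsl_ct (LP (LK LD1_c14 LD2_c55 LD3_c61)) = (LP (LK LD1_c7 LD2_c54 LD3_c59)) :=
  Lre_c IH (LK LD1_c14 LD2_c55 LD3_c61) (LK LD1_c7 LD2_c54 LD3_c59) Lrfl Lrfl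
theorem f452004 : Led Lsl_ct (LP (LK LD1_c7 LD2_c54 LD3_c14)) = (LP (LK LD1_c14 LD2_c54 LD3_c37)) :=
  Lre_c IH (LK LD1_c7 LD2_c54 LD3_c14) (LK LD1_c14 LD2_c54 LD3_c37) Lrfl Lrfl
theorem f521253 : Led Lsl_ft (LP (LK LD1_c7 LD2_c54 LD3_c59)) = (LP (LK LD1_c7 LD2_c54 LD3_c14)) :=
  Lgr Lrot4 (Lpe (f451816 IH) (Lpr_ff (f521247 IH) (Lpe (f452004 IH) (Lpn (LP (LK LD1_c7 LD2_c54 LD3_c14))))))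
theorem f521265 : Led Lsl_ff (LP (LK LD1_c7 LD2_c54 LD3_c59)) = (LP (LK LD1_c7 LD2_c54 LD3_c14)) :=
  Lgr Lrot3 (Lpr_ft (f521253 IH) (Lpn (LP (LK LD1_c7 LD2_c54 LD3_c14))))
theorem f480357 : Led Lsl_at (LP (LK LD1_c7 LD2_c54 LD3_c59)) = (LP (LK LD1_c14 LD2_c55 LD3_c60)) :=
  Lre_a IH (LK LD1_c7 LD2_c54 LD3_c59) (LK LD1_c14 LD2_c55 LD3_c60) Lrfl Lrfl
theorem f480578 : Led Lsl_at (LP (LK LD1_c14 LD2_c54 LD3_c36)) = (LP (LK LD1_c7 LD2_c54 LD3_c14)) :=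
  Lre_a IH (LK LD1_c14 LD2_c54 LD3_c36) (LK LD1_c7 LD2_c54 LD3_c14) Lrfl Lrfl
theorem f521267 : Led Lsl_ft (LP (LK LD1_c14 LD2_c55 LD3_c60)) = (LP (LK LD1_c14 LD2_c54 LD3_c36)) :=
  Lgr Lrot101 (Lpe (f480357 IH) (Lpr_ff (f521265 IH) (Lpe (f480578 IH) (Lpn (LP (LK LD1_c14 LD2_c54 LD3_c36))))))
theorem f480289 : Led Lsl_et (LP (LK LD1_c3 LD2_c56 LD3_c37)) = (LP (LK LD1_c7 LD2_c54 LD3_c61)) :=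
  Lre_e IH (LK LD1_c3 LD2_c56 LD3_c37) (LK LD1_c7 LD2_c54 LD3_c61) Lrfl Lrfl
theorem f206269 : Led Lsl_et (LP (LK LD1_c7 LD2_c50 LD3_c30)) = (LP (LK LD1_c3 LD2_c54 LD3_c25)) :=
  Lre_e IH (LK LD1_c7 LD2_c50 LD3_c30) (LK LD1_c3 LD2_c54 LD3_c25) Lrfl Lrfl
theorem f480290 : Led Lsl_dt (LP (LK LD1_c7 LD2_c54 LD3_c61)) = (LP (LK LD1_c7 LD2_c50 LD3_c30)) :=
  Lgr Lrot77 (Lpe (f480289 IH) (Lpr_df (K34.f480284 IH) (Lpe (K34.f472574 IH) (Lpr_df (K34.f472569 IH) (Lpe (f206269 IH) (Lpn (LP (LK LD1_c7 LD2_c50 LD3_c30))))))))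
theorem f480305 : Led Lsl_df (LP (LK LD1_c7 LD2_c54 LD3_c61)) = (LP (LK LD1_c7 LD2_c50 LD3_c30)) :=
  Lgr Lrot38 (Lpr_dt (f480290 IH) (Lpn (LP (LK LD1_c7 LD2_c50 LD3_c30))))
theorem f480331 : Led Lsl_bt (LP (LK LD1_c7 LD2_c54 LD3_c61)) = (LP (LK LD1_c14 LD2_c56 LD3_c0)) :=
  Lre_b IH (LK LD1_c7 LD2_c54 LD3_c61) (LK LD1_c14 LD2_c56 LD3_c0) Lrfl Lrfl
theorem f480332 : Led Lsl_bt (LP (LK LD1_c14 LD2_c47 LD3_c35)) = (LP (LK LD1_c7 LD2_c50 LD3_c30)) :=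
  Lre_b IH (LK LD1_c14 LD2_c47 LD3_c35) (LK LD1_c7 LD2_c50 LD3_c30) Lrfl Lrfl
theorem f480333 : Led Lsl_dt (LP (LK LD1_c14 LD2_c56 LD3_c0)) = (LP (LK LD1_c14 LD2_c47 LD3_c35)) :=
  Lgr Lrot79 (Lpe (f480331 IH) (Lpr_df (f480305 IH) (Lpe (f480332 IH) (Lpn (LP (LK LD1_c14 LD2_c47 LD3_c35))))))
theorem f480350 : Led Lsl_et (LP (LK LD1_c7 LD2_c54 LD3_c59)) = (LP (LK LD1_c14 LD2_c56 LD3_c0)) :=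
  Lre_e IH (LK LD1_c7 LD2_c54 LD3_c59) (LK LD1_c14 LD2_c56 LD3_c0) Lrfl Lrfl
theorem f472588 : Led Lsl_et (LP (LK LD1_c14 LD2_c47 LD3_c35)) = (LP (LK LD1_c7 LD2_c50 LD3_c28)) :=
  Lre_e IH (LK LD1_c14 LD2_c47 LD3_c35) (LK LD1_c7 LD2_c50 LD3_c28) Lrfl Lrfl
theorem f472565 : Led Lsl_bt (LP (LK LD1_c13 LD2_c25 LD3_c52)) = (LP (LK LD1_c7 LD2_c5 LD3_c2)) :=
  Lre_b IH (LK LD1_c13 LD2_c25 LD3_c52) (LK LD1_c7 LD2_c5 LD3_c2) Lrfl Lrfl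
theorem f472567 : Led Lsl_df (LP (LK LD1_c13 LD2_c25 LD3_c52)) = (LP (LK LD1_c7 LD2_c50 LD3_c28)) :=
  Lgr Lrot12 (Lpr_bt (f472565 IH) (Lpr_dt (K34.f472563 IH) (Lpr_bt (K34.f472566 IH) (Lpn (LP (LK LD1_c7 LD2_c50 LD3_c28))))))
theorem f480351 : Led Lsl_df (LP (LK LD1_c7 LD2_c54 LD3_c59)) = (LP (LK LD1_c13 LD2_c25 LD3_c12)) :=
  Lgr Lrot70 (Lpr_et (f480350 IH) (Lpr_dt (f480333 IH) (Lpr_et (f472588 IH) (Lpe (f472567 IH) (Lpr_et (K34.f472582 IH) (Lpn (LP (LK LD1_c13 LD2_c25 LD3_c12))))))))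
theorem f480358 : Led Lsl_dt (LP (LK LD1_c14 LD2_c55 LD3_c60)) = (LP (LK LD1_c22 LD2_c43 LD3_c58)) :=
  Lgr Lrot44 (Lpe (f480357 IH) (Lpr_df (f480351 IH) (Lpe (f472592 IH) (Lpn (LP (LK LD1_c22 LD2_c43 LD3_c58))))))
theorem f480365 : Led Lsl_df (LP (LK LD1_c14 LD2_c55 LD3_c60)) = (LP (LK LD1_c22 LD2_c43 LD3_c58)) :=
  Lgr Lrot38 (Lpr_dt (f480358 IH) (Lpn (LP (LK LD1_c22 LD2_c43 LD3_c58))))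
theorem f452001 : Led Lsl_bt (LP (LK LD1_c7 LD2_c54 LD3_c14)) = (LP (LK LD1_c3 LD2_c56 LD3_c17)) :=
  Lre_b IH (LK LD1_c7 LD2_c54 LD3_c14) (LK LD1_c3 LD2_c56 LD3_c17) Lrfl Lrfl
theorem f479792 : Led Lsl_df (LP (LK LD1_c7 LD2_c54 LD3_c14)) = (LP (LK LD1_c13 LD2_c25 LD3_c58)) :=
  Lgr Lrot12 (Lpr_bt (f452001 IH) (Lpr_dt (K32.f479787 IH) (Lpr_bt (f479791 IH) (Lpn (LP (LK LD1_c13 LD2_c25 LD3_c58))))))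
theorem f480565 : Led Lsl_at (LP (LK LD1_c7 LD2_c54 LD3_c14)) = (LP (LK LD1_c14 LD2_c54 LD3_c36)) :=
  Lre_a IH (LK LD1_c7 LD2_c54 LD3_c14) (LK LD1_c14 LD2_c54 LD3_c36) Lrfl Lrfl
theorem f480566 : Led Lsl_at (LP (LK LD1_c22 LD2_c45 LD3_c18)) = (LP (LK LD1_c13 LD2_c25 LD3_c58)) :=
  Lre_a IH (LK LD1_c22 LD2_c45 LD3_c18) (LK LD1_c13 LD2_c25 LD3_c58) Lrfl Lrfl
theorem f480567 : Led Lsl_dt (LP (LK LD1_c14 LD2_c54 LD3_c36)) = (LP (LK LD1_c22 LD2_c45 LD3_c18)) :=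
  Lgr Lrot44 (Lpe (f480565 IH) (Lpr_df (f479792 IH) (Lpe (f480566 IH) (Lpn (LP (LK LD1_c22 LD2_c45 LD3_c18))))))
theorem f521271 : Led Lsl_ff (LP (LK LD1_c22 LD2_c43 LD3_c58)) = (LP (LK LD1_c22 LD2_c45 LD3_c18)) :=
  Lgr Lrot19 (Lpe (f480365 IH) (Lpr_ft (f521267 IH) (Lpr_dt (f480567 IH) (Lpn (LP (LK LD1_c22 LD2_c45 LD3_c18))))))
theorem f521120 : Led Lsl_bt (LP (LK LD1_c14 LD2_c9 LD3_c7)) = (LP (LK LD1_c22 LD2_c45 LD3_c18)) :=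
  Lgr Lrot62 (Lpe (f489874 IH) (Lpe (f489790 IH) (Lpr_af (K34.f521116 IH) (Lpe (f458246 IH) (Lpe (f480566 IH) (Lpn (LP (LK LD1_c22 LD2_c45 LD3_c18))))))))
theorem f480472 : Led Lsl_df (LP (LK LD1_c14 LD2_c54 LD3_c44)) = (LP (LK LD1_c22 LD2_c45 LD3_c20)) :=
  Lgr Lrot18 (Lpr_at (f480471 IH) (Lpr_dt (f480068 IH) (Lpr_at (f464602 IH) (Lpn (LP (LK LD1_c22 LD2_c45 LD3_c20))))))
theorem f480478 : Led Lsl_dt (LP (LK LD1_c14 LD2_c54 LD3_c44)) = (LP (LK LD1_c22 LD2_c45 LD3_c20)) :=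
  Lgr Lrot42 (Lpr_df (f480472 IH) (Lpn (LP (LK LD1_c22 LD2_c45 LD3_c20))))
theorem f521171 : Led Lsl_ff (LP (LK LD1_c14 LD2_c9 LD3_c7)) = (LP (LK LD1_c22 LD2_c45 LD3_c20)) :=
  Lgr Lrot19 (Lpr_dt (f489869 IH) (Lpr_ft (f521169 IH) (Lpr_dt (f480478 IH) (Lpn (LP (LK LD1_c22 LD2_c45 LD3_c20))))))
theorem f521273 : Led Lsl_bt (LP (LK LD1_c22 LD2_c43 LD3_c58)) = (LP (LK LD1_c22 LD2_c45 LD3_c20)) :=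
  Lgr Lrot35 (Lpr_ff (f521271 IH) (Lpe (f521120 IH) (Lpr_ff (f521171 IH) (Lpn (LP (LK LD1_c22 LD2_c45 LD3_c20))))))
theorem f657165 : Led Lsl_gf (LP (LK LD1_c22 LD2_c33 LD3_c46)) = (LP (LK LD1_c24 LD2_c27 LD3_c13)) :=
  Lgr Lrot126 (Lpr_cf (f657151 IH) (Lpe (K46.f655187 IH) (Lpe (f611043 IH) (Lpe (f488468 IH) (Lpe (f529447 IH) (Lpe (f489793 IH) (Lpr_bt (f489792 IH) (Lpr_gt (f521415 IH) (Lpe (f521273 IH) (Lpr_ct (f521454 IH) (Lpn (LP (LK LD1_c24 LD2_c27 LD3_c13)))))))))))))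
theorem f523289 : Led Lsl_et (LP (LK LD1_c13 LD2_c9 LD3_c6)) = (LP (LK LD1_c22 LD2_c21 LD3_c36)) :=
  Lre_e IH (LK LD1_c13 LD2_c9 LD3_c6) (LK LD1_c22 LD2_c21 LD3_c36) Lrfl Lrfl
theorem f523326 : Led Lsl_ft (LP (LK LD1_c22 LD2_c21 LD3_c36)) = (LP (LK LD1_c30 LD2_c27 LD3_c9)) :=
  Lre_f IH (LK LD1_c22 LD2_c21 LD3_c36) (LK LD1_c30 LD2_c27 LD3_c9) Lrfl Lrfl
theorem f92882 : Led Lsl_et (LP (LK LD1_c24 LD2_c4 LD3_c30)) = (LP (LK LD1_c14 LD2_c25 LD3_c2)) :=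
  Lre_e IH (LK LD1_c24 LD2_c4 LD3_c30) (LK LD1_c14 LD2_c25 LD3_c2) Lrfl Lrfl
theorem f92899 : Led Lsl_ft (LP (LK LD1_c31 LD2_c21 LD3_c60)) = (LP (LK LD1_c24 LD2_c4 LD3_c30)) :=
  Lre_f IH (LK LD1_c31 LD2_c21 LD3_c60) (LK LD1_c24 LD2_c4 LD3_c30) Lrfl Lrfl
theorem f523327 : Led Lsl_et (LP (LK LD1_c30 LD2_c27 LD3_c9)) = (LP (LK LD1_c31 LD2_c21 LD3_c60)) :=
  Lgr Lrot69 (Lpe (f523326 IH) (Lpe (f523289 IH) (Lpr_ff (K34.f523319 IH) (Lpe (f92882 IH) (Lpe (f92899 IH) (Lpn (LP (LK LD1_c31 LD2_c21 LD3_c60))))))))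
theorem f523331 : Led Lsl_ef (LP (LK LD1_c30 LD2_c27 LD3_c9)) = (LP (LK LD1_c31 LD2_c21 LD3_c60)) :=
  Lgr Lrot88 (Lpr_et (f523327 IH) (Lpn (LP (LK LD1_c31 LD2_c21 LD3_c60))))
theorem f92827 : Led Lsl_at (LP (LK LD1_c24 LD2_c4 LD3_c37)) = (LP (LK LD1_c31 LD2_c21 LD3_c60)) :=
  Lre_a IH (LK LD1_c24 LD2_c4 LD3_c37) (LK LD1_c31 LD2_c21 LD3_c60) Lrfl Lrfl
theorem f520827 : Led Lsl_ef (LP (LK LD1_c24 LD2_c4 LD3_c37)) = (LP (LK LD1_c31 LD2_c17 LD3_c16)) :=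
  Lgr Lrot88 (Lpr_et (K34.f520825 IH) (Lpn (LP (LK LD1_c31 LD2_c17 LD3_c16))))
theorem f523333 : Led Lsl_at (LP (LK LD1_c30 LD2_c27 LD3_c9)) = (LP (LK LD1_c31 LD2_c17 LD3_c16)) :=
  Lgr Lrot80 (Lpr_ef (f523331 IH) (Lpe (f92827 IH) (Lpr_ef (f520827 IH) (Lpn (LP (LK LD1_c31 LD2_c17 LD3_c16))))))
theorem f523340 : Led Lsl_af (LP (LK LD1_c22 LD2_c21 LD3_c36)) = (LP (LK LD1_c23 LD2_c55 LD3_c47)) :=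
  Lgr Lrot45 (Lpr_ft (f523326 IH) (Lpr_at (f523333 IH) (Lpr_ft (K34.f477782 IH) (Lpn (LP (LK LD1_c23 LD2_c55 LD3_c47))))))
theorem f477745 : Led Lsl_bt (LP (LK LD1_c7 LD2_c47 LD3_c33)) = (LP (LK LD1_c14 LD2_c42 LD3_c12)) :=
  Lre_b IH (LK LD1_c7 LD2_c47 LD3_c33) (LK LD1_c14 LD2_c42 LD3_c12) Lrfl Lrfl
theorem f477746 : Led Lsl_bt (LP (LK LD1_c23 LD2_c55 LD3_c47)) = (LP (LK LD1_c14 LD2_c17 LD3_c61)) :=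
  Lre_b IH (LK LD1_c23 LD2_c55 LD3_c47) (LK LD1_c14 LD2_c17 LD3_c61) Lrfl Lrfl
theorem f477747 : Led Lsl_dt (LP (LK LD1_c14 LD2_c42 LD3_c12)) = (LP (LK LD1_c23 LD2_c55 LD3_c47)) :=
  Lgr Lrot79 (Lpe (f477745 IH) (Lpr_df (K34.f477741 IH) (Lpe (f477746 IH) (Lpn (LP (LK LD1_c23 LD2_c55 LD3_c47))))))
theorem f523345 : Led Lsl_dt (LP (LK LD1_c22 LD2_c21 LD3_c36)) = (LP (LK LD1_c24 LD2_c27 LD3_c14)) :=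
  Lgr Lrot44 (Lpr_af (f523340 IH) (Lpe (f477747 IH) (Lpe (K34.f477826 IH) (Lpn (LP (LK LD1_c24 LD2_c27 LD3_c14))))))
theorem f114434 : Led Lsl_dt (LP (LK LD1_c22 LD2_c21 LD3_c35)) = (LP (LK LD1_c13 LD2_c9 LD3_c6)) :=
  Lre_d IH (LK LD1_c22 LD2_c21 LD3_c35) (LK LD1_c13 LD2_c9 LD3_c6) Lrfl Lrfl
theorem f520928 : Led Lsl_dt (LP (LK LD1_c14 LD2_c42 LD3_c9)) = (LP (LK LD1_c24 LD2_c27 LD3_c13)) :=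
  Lre_d IH (LK LD1_c14 LD2_c42 LD3_c9) (LK LD1_c24 LD2_c27 LD3_c13) Lrfl Lrfl
theorem f523355 : Led Lsl_ef (LP (LK LD1_c22 LD2_c21 LD3_c35)) = (LP (LK LD1_c24 LD2_c27 LD3_c13)) :=
  Lgr Lrot73 (Lpr_dt (f114434 IH) (Lpr_et (f523289 IH) (Lpr_dt (f523345 IH) (Lpr_et (K34.f520915 IH) (Lpr_dt (f520928 IH) (Lpn (LP (LK LD1_c24 LD2_c27 LD3_c13))))))))
theorem f523364 : Led Lsl_et (LP (LK LD1_c22 LD2_c21 LD3_c35)) = (LP (LK LD1_c24 LD2_c27 LD3_c13)) :=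
  Lgr Lrot87 (Lpr_ef (f523355 IH) (Lpn (LP (LK LD1_c24 LD2_c27 LD3_c13))))
theorem f114432 : Led Lsl_dt (LP (LK LD1_c3 LD2_c26 LD3_c50)) = (LP (LK LD1_c6 LD2_c55 LD3_c27)) :=
  Lre_d IH (LK LD1_c3 LD2_c26 LD3_c50) (LK LD1_c6 LD2_c55 LD3_c27) Lrfl Lrfl
theorem f114431 : Led Lsl_et (LP (LK LD1_c3 LD2_c26 LD3_c50)) = (LP (LK LD1_c1 LD2_c40 LD3_c2)) :=
  Lre_e IH (LK LD1_c3 LD2_c26 LD3_c50) (LK LD1_c1 LD2_c40 LD3_c2) Lrfl Lrfl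
theorem f657171 : Led Lsl_dt (LP (LK LD1_c22 LD2_c33 LD3_c46)) = (LP (LK LD1_c14 LD2_c23 LD3_c2)) :=
  Lgr Lrot171 (Lpr_gf (f657165 IH) (Lpe (f523364 IH) (Lpr_dt (f114434 IH) (Lpe (K34.f114433 IH) (Lpe (f114432 IH) (Lpr_et (f114431 IH) (Lpe (K5.f114422 IH) (Lpe (K5.f88215 IH) (Lpr_dt (K29.f88285 IH) (Lpe (K35.f88225 IH) (Lpn (LP (LK LD1_c14 LD2_c23 LD3_c2)))))))))))))
theorem f142439 : Led Lsl_et (LP (LK LD1_c13 LD2_c55 LD3_c56)) = (LP (LK LD1_c23 LD2_c26 LD3_c53)) :=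
  Lre_e IH (LK LD1_c13 LD2_c55 LD3_c56) (LK LD1_c23 LD2_c26 LD3_c53) Lrfl Lrfl
theorem f655496 : Led Lsl_bt (LP (LK LD1_c7 LD2_c2 LD3_c41)) = (LP (LK LD1_c13 LD2_c16 LD3_c60)) :=
  Lgr Lrot127 (Lpr_bf (K46.f655492 IH) (Lpn (LP (LK LD1_c13 LD2_c16 LD3_c60))))
theorem f655540 : Led Lsl_bt (LP (LK LD1_c7 LD2_c2 LD3_c26)) = (LP (LK LD1_c13 LD2_c16 LD3_c54)) :=
  Lgr Lrot35 (Lpe (K46.f655223 IH) (Lpe (f655496 IH) (Lpr_ff (K46.f655536 IH) (Lpn (LP (LK LD1_c13 LD2_c16 LD3_c54))))))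
theorem f655609 : Led Lsl_cf (LP (LK LD1_c13 LD2_c55 LD3_c56)) = (LP (LK LD1_c14 LD2_c12 LD3_c47)) :=
  Lgr Lrot97 (Lpr_bt (K46.f655607 IH) (Lpr_ct (K46.f655198 IH) (Lpr_bt (f655540 IH) (Lpe (K46.f458403 IH) (Lpe (K46.f655550 IH) (Lpn (LP (LK LD1_c14 LD2_c12 LD3_c47))))))))
theorem f657159 : Led Lsl_et (LP (LK LD1_c22 LD2_c33 LD3_c46)) = (LP (LK LD1_c14 LD2_c12 LD3_c47)) :=
  Lgr Lrot158 (Lpr_cf (f657151 IH) (Lpe (f142439 IH) (Lpr_cf (f655609 IH) (Lpn (LP (LK LD1_c14 LD2_c12 LD3_c47))))))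
theorem f460108 : Led Lsl_ef (LP (LK LD1_c7 LD2_c32 LD3_c18)) = (LP (LK LD1_c13 LD2_c17 LD3_c8)) :=
  Lgr Lrot29 (Lpr_bt (K24.f123788 IH) (Lpr_et (K24.f460106 IH) (Lpr_bt (K29.f63039 IH) (Lpn (LP (LK LD1_c13 LD2_c17 LD3_c8))))))
theorem f63041 : Led Lsl_dt (LP (LK LD1_c13 LD2_c17 LD3_c8)) = (LP (LK LD1_c14 LD2_c42 LD3_c34)) :=
  Lgr Lrot79 (Lpe (K29.f63039 IH) (Lpr_df (K24.f63027 IH) (Lpe (K28.f63040 IH) (Lpn (LP (LK LD1_c14 LD2_c42 LD3_c34))))))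
theorem f657702 : Led Lsl_gf (LP (LK LD1_c22 LD2_c16 LD3_c7)) = (LP (LK LD1_c14 LD2_c42 LD3_c34)) :=
  Lgr Lrot145 (Lpr_df (K46.f657696 IH) (Lpe (K46.f657700 IH) (Lpr_gt (K28.f461577 IH) (Lpr_dt (K28.f461075 IH) (Lpe (K35.f461116 IH) (Lpe (f657171 IH) (Lpr_et (f657159 IH) (Lpr_gt (K46.f123805 IH) (Lpr_ef (f460108 IH) (Lpr_dt (f63041 IH) (Lpn (LP (LK LD1_c14 LD2_c42 LD3_c34)))))))))))))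
theorem f657691 : Led Lsl_bt (LP (LK LD1_c13 LD2_c5 LD3_c21)) = (LP (LK LD1_c22 LD2_c16 LD3_c7)) :=
  Lre_b IH (LK LD1_c13 LD2_c5 LD3_c21) (LK LD1_c22 LD2_c16 LD3_c7) Lrfl Lrfl
theorem f657682 : Led Lsl_bt (LP (LK LD1_c13 LD2_c37 LD3_c11)) = (LP (LK LD1_c7 LD2_c11 LD3_c20)) :=
  Lre_b IH (LK LD1_c13 LD2_c37 LD3_c11) (LK LD1_c7 LD2_c11 LD3_c20) Lrfl Lrfl
theorem f657692 : Led Lsl_dt (LP (LK LD1_c22 LD2_c16 LD3_c7)) = (LP (LK LD1_c13 LD2_c37 LD3_c11)) :=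
  Lgr Lrot79 (Lpe (f657691 IH) (Lpr_df (K46.f657687 IH) (Lpe (f657682 IH) (Lpn (LP (LK LD1_c13 LD2_c37 LD3_c11))))))
theorem f461005 : Led Lsl_gt (LP (LK LD1_c13 LD2_c6 LD3_c37)) = (LP (LK LD1_c13 LD2_c17 LD3_c8)) :=
  Lgr Lrot46 (Lpe (K33.f116475 IH) (Lpr_ft (K28.f103794 IH) (Lpr_at (K28.f460997 IH) (Lpn (LP (LK LD1_c13 LD2_c17 LD3_c8))))))
theorem f533080 : Led Lsl_ff (LP (LK LD1_c23 LD2_c38 LD3_c12)) = (LP (LK LD1_c23 LD2_c28 LD3_c13)) :=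
  Lgr Lrot19 (Lpr_dt (K34.f108948 IH) (Lpr_ft (K34.f533075 IH) (Lpr_dt (K34.f466298 IH) (Lpn (LP (LK LD1_c23 LD2_c28 LD3_c13))))))
theorem f533594 : Led Lsl_gt (LP (LK LD1_c23 LD2_c28 LD3_c13)) = (LP (LK LD1_c13 LD2_c56 LD3_c54)) :=
  Lgr Lrot5 (Lpe (f533080 IH) (Lpe (K35.f108951 IH) (Lpr_gf (K35.f533592 IH) (Lpn (LP (LK LD1_c13 LD2_c56 LD3_c54))))))
theorem f122496 : Led Lsl_bt (LP (LK LD1_c13 LD2_c53 LD3_c16)) = (LP (LK LD1_c7 LD2_c20 LD3_c37)) :=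
  Lre_b IH (LK LD1_c13 LD2_c53 LD3_c16) (LK LD1_c7 LD2_c20 LD3_c37) Lrfl Lrfl
theorem f122498 : Led Lsl_df (LP (LK LD1_c13 LD2_c53 LD3_c16)) = (LP (LK LD1_c13 LD2_c56 LD3_c54)) :=
  Lgr Lrot12 (Lpr_bt (f122496 IH) (Lpr_dt (K28.f122489 IH) (Lpr_bt (K35.f122497 IH) (Lpn (LP (LK LD1_c13 LD2_c56 LD3_c54))))))
theorem f657706 : Led Lsl_cf (LP (LK LD1_c13 LD2_c37 LD3_c11)) = (LP (LK LD1_c13 LD2_c53 LD3_c16)) :=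
  Lgr Lrot14 (Lpe (f657692 IH) (Lpr_gf (f657702 IH) (Lpe (f63041 IH) (Lpe (f461005 IH) (Lpe (K46.f654897 IH) (Lpr_gt (K46.f654891 IH) (Lpr_dt (K34.f466298 IH) (Lpr_gt (f533594 IH) (Lpe (f122498 IH) (Lpn (LP (LK LD1_c13 LD2_c53 LD3_c16))))))))))))
def v2772 : LQ := Led Lsl_bt (LP (LK LD1_c1 LD2_c54 LD3_c56))
theorem f535523 : Led Lsl_bt (LP (LK LD1_c1 LD2_c54 LD3_c56)) = v2772 :=
  Lrfl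
theorem f535524 : Led Lsl_bf (LP (LK LD1_c1 LD2_c54 LD3_c56)) = v2772 :=
  Lgr Lrot24 (Lpr_bt (f535523 IH) (Lpn v2772))
def v1092 : LQ := Led Lsl_bt K24.v246
theorem f491394 : Led Lsl_bt K24.v246 = v1092 :=
  Lrfl
theorem f491395 : Led Lsl_bf K24.v246 = v1092 :=
  Lgr Lrot24 (Lpr_bt (f491394 IH) (Lpn v1092))
theorem f535525 : Led Lsl_cf v1092 = v2772 :=
  Lgr Lrot97 (Lpe (f491395 IH) (Lpe (K24.f451322 IH) (Lpr_bt (K24.f451319 IH) (Lpr_ct (K28.f451254 IH) (Lpr_bt (f535523 IH) (Lpn v2772))))))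
theorem f203893 : Led Lsl_et (LP (LK LD1_c3 LD2_c40 LD3_c17)) = (LP (LK LD1_c1 LD2_c47 LD3_c4)) :=
  Lre_e IH (LK LD1_c3 LD2_c40 LD3_c17) (LK LD1_c1 LD2_c47 LD3_c4) Lrfl Lrfl
theorem f490523 : Led Lsl_af (LP (LK LD1_c3 LD2_c40 LD3_c17)) = K34.v919 :=
  Lgr Lrot50 (Lpr_et (f203893 IH) (Lpe (K30.f471303 IH) (Lpr_et (K34.f490522 IH) (Lpn K34.v919))))
theorem f490524 : Led Lsl_bf K24.v241 = K34.v919 :=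
  Lgr Lrot96 (Lpe (K24.f451297 IH) (Lpr_bt (K28.f11211 IH) (Lpr_et (K34.f490522 IH) (Lpn K34.v919))))
theorem f491396 : Led Lsl_ff K34.v919 = v1092 :=
  Lgr Lrot25 (Lpe (f490524 IH) (Lpe (K24.f452062 IH) (Lpr_bt (f491394 IH) (Lpn v1092))))
theorem f527035 : Led Lsl_gt v1092 = K34.v2527 :=
  Lgr Lrot5 (Lpe (f491396 IH) (Lpe (f490523 IH) (Lpr_gf (K34.f527034 IH) (Lpn K34.v2527))))
theorem f490238 : Led Lsl_ft (LP (LK LD1_c1 LD2_c53 LD3_c57)) = (LP (LK LD1_c3 LD2_c54 LD3_c44)) :=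
  Lre_f IH (LK LD1_c1 LD2_c53 LD3_c57) (LK LD1_c3 LD2_c54 LD3_c44) Lrfl Lrfl
theorem f527024 : Led Lsl_at (LP (LK LD1_c3 LD2_c54 LD3_c44)) = K34.v2527 :=
  Lgr Lrot66 (Lpe (f490238 IH) (Lpe (K34.f524433 IH) (Lpr_ff (K34.f527023 IH) (Lpn K34.v2527))))
theorem f527129 : Led Lsl_gf v1092 = (LP (LK LD1_c1 LD2_c53 LD3_c57)) :=
  Lgr Lrot47 (Lpr_gt (f527035 IH) (Lpe (f527024 IH) (Lpe (f490238 IH) (Lpn (LP (LK LD1_c1 LD2_c53 LD3_c57))))))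
theorem f657714 : Led Lsl_gf (LP (LK LD1_c3 LD2_c54 LD3_c41)) = (LP (LK LD1_c7 LD2_c20 LD3_c37)) :=
  Lgr Lrot181 (Lpr_ct (K37.f488120 IH) (Lpe (f527129 IH) (Lpr_cf (f535525 IH) (Lpe (f535524 IH) (Lpr_gt (K32.f451309 IH) (Lpe (K40.f451959 IH) (Lpr_ct (K46.f474029 IH) (Lpe (K46.f491917 IH) (Lpr_cf (f657706 IH) (Lpr_bt (f122496 IH) (Lpn (LP (LK LD1_c7 LD2_c20 LD3_c37)))))))))))))
theorem f657715 : Led Lsl_gt (LP (LK LD1_c7 LD2_c20 LD3_c37)) = (LP (LK LD1_c3 LD2_c54 LD3_c41)) :=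
  Leop (Lpr_gf (f657714 IH) (Lpn (LP (LK LD1_c7 LD2_c20 LD3_c37))))
theorem seed_396 : LEOK LG_g (LK LD1_c7 LD2_c20 LD3_c37) :=
  Leoe_g (LK LD1_c7 LD2_c20 LD3_c37) (f657715 IH)
def v6692 : LQ := Led Lsl_ft (LP (LK LD1_c3 LD2_c26 LD3_c5))
theorem f657812 : Led Lsl_ft (LP (LK LD1_c3 LD2_c26 LD3_c5)) = v6692 :=
  Lrfl
theorem f657817 : Led Lsl_ff (LP (LK LD1_c3 LD2_c26 LD3_c5)) = v6692 :=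
  Lgr Lrot3 (Lpr_ft (f657812 IH) (Lpn v6692))
theorem f102431 : Led Lsl_at (LP (LK LD1_c3 LD2_c26 LD3_c5)) = (LP (LK LD1_c6 LD2_c53 LD3_c60)) :=
  Lre_a IH (LK LD1_c3 LD2_c26 LD3_c5) (LK LD1_c6 LD2_c53 LD3_c60) Lrfl Lrfl
theorem f13147 : Led Lsl_ft (LP (LK LD1_c7 LD2_c21 LD3_c31)) = (LP (LK LD1_c3 LD2_c40 LD3_c38)) :=
  Lre_f IH (LK LD1_c7 LD2_c21 LD3_c31) (LK LD1_c3 LD2_c40 LD3_c38) Lrfl Lrfl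
theorem f13149 : Led Lsl_gf (LP (LK LD1_c7 LD2_c26 LD3_c36)) = (LP (LK LD1_c7 LD2_c21 LD3_c31)) :=
  Lgr Lrot47 (Lpr_gt (K34.f13148 IH) (Lpr_af (K7.f13133 IH) (Lpe (f13147 IH) (Lpn (LP (LK LD1_c7 LD2_c21 LD3_c31))))))
theorem f4638 : Led Lsl_ct (LP (LK LD1_c3 LD2_c40 LD3_c42)) = (LP (LK LD1_c1 LD2_c47 LD3_c20)) :=
  Lre_c IH (LK LD1_c3 LD2_c40 LD3_c42) (LK LD1_c1 LD2_c47 LD3_c20) Lrfl Lrfl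
theorem f436789 : Led Lsl_bt (LP (LK LD1_c7 LD2_c21 LD3_c31)) = (LP (LK LD1_c3 LD2_c40 LD3_c42)) :=
  Lre_b IH (LK LD1_c7 LD2_c21 LD3_c31) (LK LD1_c3 LD2_c40 LD3_c42) Lrfl Lrfl
theorem f4858 : Led Lsl_bt (LP (LK LD1_c3 LD2_c40 LD3_c42)) = (LP (LK LD1_c7 LD2_c21 LD3_c31)) :=
  Lre_b IH (LK LD1_c3 LD2_c40 LD3_c42) (LK LD1_c7 LD2_c21 LD3_c31) Lrfl Lrfl
theorem f436790 : Led Lsl_cf (LP (LK LD1_c7 LD2_c21 LD3_c31)) = (LP (LK LD1_c7 LD2_c21 LD3_c31)) :=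
  Lgr Lrot97 (Lpr_bt (f436789 IH) (Lpr_ct (f4638 IH) (Lpr_bt (K11.f436785 IH) (Lpr_ct (K28.f4639 IH) (Lpr_bt (f4858 IH) (Lpn (LP (LK LD1_c7 LD2_c21 LD3_c31))))))))
theorem f4649 : Led Lsl_gt (LP (LK LD1_c1 LD2_c47 LD3_c42)) = (LP (LK LD1_c3 LD2_c40 LD3_c42)) :=
  Lre_g IH (LK LD1_c1 LD2_c47 LD3_c42) (LK LD1_c3 LD2_c40 LD3_c42) Lrfl Lrfl
theorem f4656 : Led Lsl_bt (LP (LK LD1_c3 LD2_c41 LD3_c35)) = (LP (LK LD1_c1 LD2_c47 LD3_c42)) :=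
  Lre_b IH (LK LD1_c3 LD2_c41 LD3_c35) (LK LD1_c1 LD2_c47 LD3_c42) Lrfl Lrfl
theorem f517728 : Led Lsl_ct (LP (LK LD1_c3 LD2_c38 LD3_c49)) = (LP (LK LD1_c1 LD2_c47 LD3_c42)) :=
  Lgr Lrot8 (Lpr_gt (f517724 IH) (Lpr_dt (K29.f65527 IH) (Lpr_gt (K34.f482592 IH) (Lpr_dt (K33.f92488 IH) (Lpe (K33.f482466 IH) (Lpr_df (K33.f482481 IH) (Lpe (K33.f4615 IH) (Lpe (K34.f4640 IH) (Lpe (f4649 IH) (Lpn (LP (LK LD1_c1 LD2_c47 LD3_c42))))))))))))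
theorem f517914 : Led Lsl_ct (LP (LK LD1_c3 LD2_c41 LD3_c35)) = (LP (LK LD1_c7 LD2_c1 LD3_c0)) :=
  Lgr Lrot83 (Lpe (f517734 IH) (Lpe (f517728 IH) (Lpr_bf (f517730 IH) (Lpe (K29.f482917 IH) (Lpe (f440749 IH) (Lpn (LP (LK LD1_c7 LD2_c1 LD3_c0))))))))
theorem f511487 : Led Lsl_ft (LP (LK LD1_c3 LD2_c25 LD3_c59)) = (LP (LK LD1_c3 LD2_c44 LD3_c26)) :=
  Lgr Lrot48 (Lpr_ff (K33.f511474 IH) (Lpn (LP (LK LD1_c3 LD2_c44 LD3_c26))))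
theorem f137111 : Led Lsl_bt (LP (LK LD1_c6 LD2_c53 LD3_c48)) = (LP (LK LD1_c3 LD2_c25 LD3_c59)) :=
  Lre_b IH (LK LD1_c6 LD2_c53 LD3_c48) (LK LD1_c3 LD2_c25 LD3_c59) Lrfl Lrfl
theorem f511542 : Led Lsl_ff (LP (LK LD1_c6 LD2_c53 LD3_c48)) = (LP (LK LD1_c7 LD2_c29 LD3_c53)) :=
  Lgr Lrot25 (Lpr_bt (f137111 IH) (Lpr_ft (f511487 IH) (Lpr_bt (K34.f511469 IH) (Lpn (LP (LK LD1_c7 LD2_c29 LD3_c53))))))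
theorem f137098 : Led Lsl_at (LP (LK LD1_c6 LD2_c53 LD3_c48)) = (LP (LK LD1_c13 LD2_c6 LD3_c22)) :=
  Lre_a IH (LK LD1_c6 LD2_c53 LD3_c48) (LK LD1_c13 LD2_c6 LD3_c22) Lrfl Lrfl
theorem f511629 : Led Lsl_gf (LP (LK LD1_c13 LD2_c6 LD3_c22)) = (LP (LK LD1_c14 LD2_c9 LD3_c37)) :=
  Lgr Lrot76 (Lpe (f137098 IH) (Lpr_ff (f511542 IH) (Lpr_gt (K34.f511478 IH) (Lpn (LP (LK LD1_c14 LD2_c9 LD3_c37))))))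
theorem f102463 : Led Lsl_ct (LP (LK LD1_c13 LD2_c6 LD3_c22)) = (LP (LK LD1_c6 LD2_c53 LD3_c60)) :=
  Lre_c IH (LK LD1_c13 LD2_c6 LD3_c22) (LK LD1_c6 LD2_c53 LD3_c60) Lrfl Lrfl
theorem f522792 : Led Lsl_gf (LP (LK LD1_c7 LD2_c1 LD3_c0)) = (LP (LK LD1_c6 LD2_c53 LD3_c60)) :=
  Lgr Lrot129 (Lpe (f517914 IH) (Lpr_bt (f4656 IH) (Lpr_gt (f4649 IH) (Lpe (f436789 IH) (Lpe (f436790 IH) (Lpe (f13149 IH) (Lpe (K34.f13160 IH) (Lpr_bt (K34.f522783 IH) (Lpe (f511629 IH) (Lpr_ct (f102463 IH) (Lpn (LP (LK LD1_c6 LD2_c53 LD3_c60)))))))))))))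
theorem f486123 : Led Lsl_at (LP (LK LD1_c3 LD2_c46 LD3_c8)) = (LP (LK LD1_c7 LD2_c33 LD3_c15)) :=
  Lre_a IH (LK LD1_c3 LD2_c46 LD3_c8) (LK LD1_c7 LD2_c33 LD3_c15) Lrfl Lrfl
theorem f482932 : Led Lsl_bt (LP (LK LD1_c3 LD2_c29 LD3_c43)) = (LP (LK LD1_c7 LD2_c1 LD3_c0)) :=
  Lre_b IH (LK LD1_c3 LD2_c29 LD3_c43) (LK LD1_c7 LD2_c1 LD3_c0) Lrfl Lrfl
theorem f517930 : Led Lsl_ff (LP (LK LD1_c3 LD2_c46 LD3_c8)) = (LP (LK LD1_c7 LD2_c1 LD3_c0)) :=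
  Lgr Lrot25 (Lpr_bt (K43.f441425 IH) (Lpr_ft (f517926 IH) (Lpr_bt (f482932 IH) (Lpn (LP (LK LD1_c7 LD2_c1 LD3_c0))))))
theorem f518149 : Led Lsl_af (LP (LK LD1_c7 LD2_c1 LD3_c0)) = (LP (LK LD1_c6 LD2_c54 LD3_c2)) :=
  Lgr Lrot45 (Lpe (f517930 IH) (Lpr_at (f486123 IH) (Lpr_ft (f518146 IH) (Lpn (LP (LK LD1_c6 LD2_c54 LD3_c2))))))
theorem f522794 : Led Lsl_gt (LP (LK LD1_c7 LD2_c33 LD3_c15)) = (LP (LK LD1_c6 LD2_c53 LD3_c60)) :=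
  Lgr Lrot5 (Lpr_ft (f518146 IH) (Lpe (f518149 IH) (Lpr_gf (f522792 IH) (Lpn (LP (LK LD1_c6 LD2_c53 LD3_c60))))))
theorem f657822 : Led Lsl_gf (LP (LK LD1_c7 LD2_c33 LD3_c15)) = v6692 :=
  Lgr Lrot47 (Lpr_gt (f522794 IH) (Lpe (f102431 IH) (Lpr_ff (f657817 IH) (Lpn v6692))))
theorem f516970 : Led Lsl_bt (LP (LK LD1_c14 LD2_c14 LD3_c49)) = (LP (LK LD1_c22 LD2_c34 LD3_c47)) :=
  Lgr Lrot127 (Lpr_bf (f516965 IH) (Lpn (LP (LK LD1_c22 LD2_c34 LD3_c47))))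
theorem f516974 : Led Lsl_bf (LP (LK LD1_c7 LD2_c33 LD3_c15)) = (LP (LK LD1_c13 LD2_c18 LD3_c43)) :=
  Lgr Lrot93 (Lpr_dt (f486120 IH) (Lpr_bt (f516970 IH) (Lpr_dt (f482997 IH) (Lpn (LP (LK LD1_c13 LD2_c18 LD3_c43))))))
theorem f102457 : Led Lsl_bt (LP (LK LD1_c3 LD2_c26 LD3_c5)) = (LP (LK LD1_c1 LD2_c39 LD3_c45)) :=
  Lre_b IH (LK LD1_c3 LD2_c26 LD3_c5) (LK LD1_c1 LD2_c39 LD3_c45) Lrfl Lrfl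
theorem f657819 : Led Lsl_bt K34.v2269 = v6692 :=
  Lgr Lrot35 (Lpe (K34.f511367 IH) (Lpe (f102457 IH) (Lpr_ff (f657817 IH) (Lpn v6692))))
theorem f102440 : Led Lsl_ct (LP (LK LD1_c0 LD2_c46 LD3_c25)) = (LP (LK LD1_c1 LD2_c39 LD3_c45)) :=
  Lre_c IH (LK LD1_c0 LD2_c46 LD3_c25) (LK LD1_c1 LD2_c39 LD3_c45) Lrfl Lrfl
theorem f511368 : Led Lsl_cf K33.v594 = K34.v2269 :=
  Lgr Lrot108 (Lpe (K33.f455089 IH) (Lpr_ct (f102440 IH) (Lpr_ft (K34.f511367 IH) (Lpn K34.v2269))))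
def v2246 : LQ := Led Lsl_gt (LP (LK LD1_c1 LD2_c38 LD3_c43))
theorem f510461 : Led Lsl_gt (LP (LK LD1_c1 LD2_c38 LD3_c43)) = v2246 :=
  Lrfl
theorem f491712 : Led Lsl_ft (LP (LK LD1_c1 LD2_c38 LD3_c43)) = K29.v1136 :=
  Lgr Lrot48 (Lpr_ff (K29.f491709 IH) (Lpn K29.v1136))
theorem f491713 : Led Lsl_af K33.v594 = K29.v1136 :=
  Lgr Lrot45 (Lpe (K33.f455089 IH) (Lpr_at (K33.f102436 IH) (Lpr_ft (f491712 IH) (Lpn K29.v1136))))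
theorem f510462 : Led Lsl_gf K33.v594 = v2246 :=
  Lgr Lrot76 (Lpr_af (f491713 IH) (Lpe (f491712 IH) (Lpr_gt (f510461 IH) (Lpn v2246))))
def v1137 : LQ := Led Lsl_at K29.v278
theorem f493319 : Led Lsl_at K29.v278 = v1137 :=
  Lrfl
theorem f493323 : Led Lsl_gt K32.v755 = v1137 :=
  Lgr Lrot46 (Lpe (K32.f457097 IH) (Lpr_ft (K29.f457105 IH) (Lpqs (K29.f457212 IH) (Lpr_at (f493319 IH) (Lpn v1137)))))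
theorem f511459 : v1137 = v2246 :=
  Lefun (Lecon (f493323 IH) (K33.f511458 IH)) (f510461 IH)
def v3945 : LQ := Led Lsl_ct v1137
theorem f628669 : Led Lsl_ct v1137 = v3945 :=
  Lrfl
theorem f628671 : Led Lsl_cf v1137 = v3945 :=
  Lgr Lrot11 (Lpr_ct (f628669 IH) (Lpn v3945))
theorem f450988 : Led Lsl_af K24.v88 = K24.v189 :=
  Lgr Lrot45 (Lpr_ft (K24.f450981 IH) (Lpe (K24.f450978 IH) (Lpr_ft (K24.f450987 IH) (Lpn K24.v189))))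
theorem f451501 : Led Lsl_bf K24.v88 = K29.v278 :=
  Lgr Lrot24 (Lpr_bt (K29.f451500 IH) (Lpn K29.v278))
theorem f493320 : Led Lsl_af K29.v278 = v1137 :=
  Lgr Lrot0 (Lpr_at (f493319 IH) (Lpn v1137))
theorem f493321 : Led Lsl_bf v1137 = v1137 :=
  Lgr Lrot81 (Lpe (f493320 IH) (Lpe (f451501 IH) (Lpqs (K24.f456259 IH) (Lpq (K24.f457207 IH) (Lpe (f450988 IH) (Lpr_bt (K29.f451500 IH) (Lpr_at (f493319 IH) (Lpn v1137))))))))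
theorem f493322 : Led Lsl_ff K28.v757 = v1137 :=
  Lgr Lrot30 (Lpe (K28.f457100 IH) (Lpr_ft (K29.f457105 IH) (Lpqs (K29.f457212 IH) (Lpr_at (f493319 IH) (Lpn v1137)))))
def v756 : LQ := Led Lsl_gf (LP (LK LD1_c0 LD2_c50 LD3_c13))
theorem f457098 : Led Lsl_gf (LP (LK LD1_c0 LD2_c50 LD3_c13)) = v756 :=
  Lrfl
theorem f493325 : Led Lsl_gf v756 = v1137 :=
  Lgr Lrot47 (Lpe (f457098 IH) (Lpr_af (K28.f457100 IH) (Lpr_ff (f493322 IH) (Lpn v1137))))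
theorem f511462 : K33.v594 = v756 :=
  Lefun (Lecon (Lfl_gf (f510462 IH)) (f511459 IH).symm) (Lfl_gf (f493325 IH))
theorem f628673 : Led Lsl_gt (LP (LK LD1_c3 LD2_c24 LD3_c42)) = v3945 :=
  Lgr Lrot65 (Lpe (K33.f116657 IH) (Lpr_bt (K33.f116558 IH) (Lpr_gf (K34.f527943 IH) (Lpe (K34.f527946 IH) (Lpe (K34.f473824 IH) (Lpr_gf (K34.f511373 IH) (Lpe (K34.f511371 IH) (Lpqs (f511462 IH) (Lpr_gf (f493325 IH) (Lpr_bf (f493321 IH) (Lpr_ct (f628669 IH) (Lpn v3945))))))))))))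
theorem f657824 : Led Lsl_gt (LP (LK LD1_c7 LD2_c18 LD3_c22)) = (LP (LK LD1_c7 LD2_c5 LD3_c33)) :=
  Lgr Lrot65 (Lpe (K46.f482987 IH) (Lpe (f516974 IH) (Lpr_gf (f657822 IH) (Lpe (f657819 IH) (Lpe (f511368 IH) (Lpr_gf (f510462 IH) (Lpq (f511459 IH) (Lpr_cf (f628671 IH) (Lpe (f628673 IH) (Lpe (K34.f116651 IH) (Lpr_ct (K34.f116631 IH) (Lpn (LP (LK LD1_c7 LD2_c5 LD3_c33))))))))))))))
theorem f657825 : Led Lsl_gt (LP (LK LD1_c7 LD2_c18 LD3_c22)) = (LP (LK LD1_c7 LD2_c5 LD3_c33)) :=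
  Leop (Lpe (f657824 IH) (Lpn (LP (LK LD1_c7 LD2_c18 LD3_c22))))
theorem seed_397 : LEOK LG_g (LK LD1_c7 LD2_c18 LD3_c22) :=
  Leoe_g (LK LD1_c7 LD2_c18 LD3_c22) (f657825 IH)
theorem f155609 : Led Lsl_ct (LP (LK LD1_c13 LD2_c50 LD3_c19)) = (LP (LK LD1_c7 LD2_c18 LD3_c54)) :=
  Lre_c IH (LK LD1_c13 LD2_c50 LD3_c19) (LK LD1_c7 LD2_c18 LD3_c54) Lrfl Lrfl
theorem f523471 : Led Lsl_ct (LP (LK LD1_c3 LD2_c46 LD3_c43)) = (LP (LK LD1_c7 LD2_c16 LD3_c56)) :=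
  Lgr Lrot59 (Lpr_cf (K34.f523467 IH) (Lpn (LP (LK LD1_c7 LD2_c16 LD3_c56))))
theorem f483319 : Led Lsl_cf (LP (LK LD1_c1 LD2_c49 LD3_c37)) = (LP (LK LD1_c3 LD2_c25 LD3_c48)) :=
  Lgr Lrot11 (Lpr_ct (K34.f483029 IH) (Lpn (LP (LK LD1_c3 LD2_c25 LD3_c48))))
theorem f523469 : Led Lsl_bt (LP (LK LD1_c3 LD2_c46 LD3_c43)) = (LP (LK LD1_c3 LD2_c25 LD3_c48)) :=
  Lgr Lrot128 (Lpr_cf (K34.f523467 IH) (Lpe (K46.f483035 IH) (Lpe (K30.f483033 IH) (Lpe (K34.f467376 IH) (Lpr_cf (f483319 IH) (Lpn (LP (LK LD1_c3 LD2_c25 LD3_c48))))))))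
theorem f483968 : Led Lsl_gt (LP (LK LD1_c14 LD2_c0 LD3_c24)) = (LP (LK LD1_c7 LD2_c24 LD3_c14)) :=
  Lre_g IH (LK LD1_c14 LD2_c0 LD3_c24) (LK LD1_c7 LD2_c24 LD3_c14) Lrfl Lrfl
theorem f85254 : Led Lsl_bt (LP (LK LD1_c1 LD2_c49 LD3_c35)) = (LP (LK LD1_c3 LD2_c44 LD3_c57)) :=
  Lre_b IH (LK LD1_c1 LD2_c49 LD3_c35) (LK LD1_c3 LD2_c44 LD3_c57) Lrfl Lrfl
theorem f85255 : Led Lsl_gt (LP (LK LD1_c3 LD2_c44 LD3_c57)) = (LP (LK LD1_c7 LD2_c30 LD3_c47)) :=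
  Lre_g IH (LK LD1_c3 LD2_c44 LD3_c57) (LK LD1_c7 LD2_c30 LD3_c47) Lrfl Lrfl
theorem f483328 : Led Lsl_bt (LP (LK LD1_c14 LD2_c10 LD3_c60)) = (LP (LK LD1_c7 LD2_c30 LD3_c47)) :=
  Lre_b IH (LK LD1_c14 LD2_c10 LD3_c60) (LK LD1_c7 LD2_c30 LD3_c47) Lrfl Lrfl
theorem f485732 : Led Lsl_cf (LP (LK LD1_c14 LD2_c0 LD3_c24)) = (LP (LK LD1_c14 LD2_c10 LD3_c60)) :=
  Lgr Lrot160 (Lpr_gt (f483968 IH) (Lpe (K46.f484013 IH) (Lpr_bt (K46.f484103 IH) (Lpr_gt (K34.f485727 IH) (Lpe (f483319 IH) (Lpr_gt (K28.f85251 IH) (Lpe (K28.f85218 IH) (Lpr_bt (f85254 IH) (Lpr_gt (f85255 IH) (Lpe (f483328 IH) (Lpn (LP (LK LD1_c14 LD2_c10 LD3_c60)))))))))))))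
theorem f600946 : Led Lsl_gt (LP (LK LD1_c13 LD2_c57 LD3_c1)) = (LP (LK LD1_c14 LD2_c10 LD3_c60)) :=
  Lgr Lrot82 (Lpr_bf (K46.f155607 IH) (Lpr_ct (f155609 IH) (Lpr_gf (K46.f600940 IH) (Lpe (f523471 IH) (Lpr_bt (f523469 IH) (Lpe (K34.f485727 IH) (Lpe (K46.f484103 IH) (Lpr_ct (K46.f484013 IH) (Lpe (f483968 IH) (Lpr_cf (f485732 IH) (Lpn (LP (LK LD1_c14 LD2_c10 LD3_c60)))))))))))))
theorem f485736 : Led Lsl_ct (LP (LK LD1_c14 LD2_c0 LD3_c24)) = (LP (LK LD1_c14 LD2_c10 LD3_c60)) :=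
  Lgr Lrot59 (Lpr_cf (f485732 IH) (Lpn (LP (LK LD1_c14 LD2_c10 LD3_c60))))
theorem f488456 : Led Lsl_ct (LP (LK LD1_c3 LD2_c26 LD3_c5)) = (LP (LK LD1_c6 LD2_c53 LD3_c48)) :=
  Lre_c IH (LK LD1_c3 LD2_c26 LD3_c5) (LK LD1_c6 LD2_c53 LD3_c48) Lrfl Lrfl
theorem f137099 : Led Lsl_bt (LP (LK LD1_c3 LD2_c25 LD3_c59)) = (LP (LK LD1_c6 LD2_c53 LD3_c48)) :=
  Lre_b IH (LK LD1_c3 LD2_c25 LD3_c59) (LK LD1_c6 LD2_c53 LD3_c48) Lrfl Lrfl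
theorem f511480 : Led Lsl_bt (LP (LK LD1_c7 LD2_c29 LD3_c53)) = (LP (LK LD1_c3 LD2_c44 LD3_c26)) :=
  Lre_b IH (LK LD1_c7 LD2_c29 LD3_c53) (LK LD1_c3 LD2_c44 LD3_c26) Lrfl Lrfl
theorem f511481 : Led Lsl_ft (LP (LK LD1_c6 LD2_c53 LD3_c48)) = (LP (LK LD1_c7 LD2_c29 LD3_c53)) :=
  Lgr Lrot75 (Lpe (f137099 IH) (Lpr_ff (K33.f511474 IH) (Lpe (f511480 IH) (Lpn (LP (LK LD1_c7 LD2_c29 LD3_c53))))))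
theorem f657820 : Led Lsl_ct (LP (LK LD1_c7 LD2_c29 LD3_c53)) = v6692 :=
  Lgr Lrot40 (Lpe (f511481 IH) (Lpe (f488456 IH) (Lpr_ff (f657817 IH) (Lpn v6692))))
theorem f511597 : Led Lsl_gt (LP (LK LD1_c14 LD2_c9 LD3_c38)) = (LP (LK LD1_c7 LD2_c29 LD3_c53)) :=
  Lre_g IH (LK LD1_c14 LD2_c9 LD3_c38) (LK LD1_c7 LD2_c29 LD3_c53) Lrfl Lrfl
theorem f657826 : Led Lsl_bt (LP (LK LD1_c14 LD2_c0 LD3_c24)) = (LP (LK LD1_c14 LD2_c9 LD3_c38)) :=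
  Lgr Lrot130 (Lpr_ct (f485736 IH) (Lpe (f600946 IH) (Lpe (K46.f155586 IH) (Lpr_bt (K46.f155584 IH) (Lpe (f608746 IH) (Lpe (K46.f517521 IH) (Lpe (K46.f486097 IH) (Lpr_gf (f657822 IH) (Lpe (f657820 IH) (Lpe (f511597 IH) (Lpn (LP (LK LD1_c14 LD2_c9 LD3_c38)))))))))))))
theorem f657827 : Led Lsl_bt (LP (LK LD1_c14 LD2_c0 LD3_c24)) = (LP (LK LD1_c14 LD2_c9 LD3_c38)) :=
  Leop (Lpe (f657826 IH) (Lpn (LP (LK LD1_c14 LD2_c0 LD3_c24))))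
theorem seed_398 : LEOK LG_b (LK LD1_c14 LD2_c0 LD3_c24) :=
  Leoe_b (LK LD1_c14 LD2_c0 LD3_c24) (f657827 IH)
def v6728 : LQ := Led Lsl_gt (LP (LK LD1_c3 LD2_c27 LD3_c58))
theorem f658072 : Led Lsl_gt (LP (LK LD1_c3 LD2_c27 LD3_c58)) = v6728 :=
  Lrfl
theorem f17191 : Led Lsl_et (LP (LK LD1_c6 LD2_c58 LD3_c7)) = (LP (LK LD1_c3 LD2_c27 LD3_c58)) :=
  Lre_e IH (LK LD1_c6 LD2_c58 LD3_c7) (LK LD1_c3 LD2_c27 LD3_c58) Lrfl Lrfl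
theorem f17189 : Led Lsl_dt (LP (LK LD1_c1 LD2_c54 LD3_c42)) = (LP (LK LD1_c3 LD2_c56 LD3_c2)) :=
  Lre_d IH (LK LD1_c1 LD2_c54 LD3_c42) (LK LD1_c3 LD2_c56 LD3_c2) Lrfl Lrfl
theorem f17190 : Led Lsl_et (LP (LK LD1_c3 LD2_c56 LD3_c2)) = (LP (LK LD1_c7 LD2_c53 LD3_c47)) :=
  Lre_e IH (LK LD1_c3 LD2_c56 LD3_c2) (LK LD1_c7 LD2_c53 LD3_c47) Lrfl Lrfl
theorem f11479 : Led Lsl_dt (LP (LK LD1_c3 LD2_c27 LD3_c58)) = (LP (LK LD1_c1 LD2_c40 LD3_c34)) :=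
  Lre_d IH (LK LD1_c3 LD2_c27 LD3_c58) (LK LD1_c1 LD2_c40 LD3_c34) Lrfl Lrfl
theorem f17192 : Led Lsl_dt (LP (LK LD1_c7 LD2_c53 LD3_c47)) = (LP (LK LD1_c6 LD2_c58 LD3_c7)) :=
  Lgr Lrot77 (Lpe (f17190 IH) (Lpe (f17189 IH) (Lpr_ef (K24.f17180 IH) (Lpe (f11479 IH) (Lpe (f17191 IH) (Lpn (LP (LK LD1_c6 LD2_c58 LD3_c7))))))))
theorem f17203 : Led Lsl_df (LP (LK LD1_c7 LD2_c53 LD3_c47)) = (LP (LK LD1_c6 LD2_c58 LD3_c7)) :=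
  Lgr Lrot38 (Lpr_dt (f17192 IH) (Lpn (LP (LK LD1_c6 LD2_c58 LD3_c7))))
theorem f17210 : Led Lsl_gt (LP (LK LD1_c14 LD2_c53 LD3_c28)) = (LP (LK LD1_c7 LD2_c53 LD3_c47)) :=
  Lre_g IH (LK LD1_c14 LD2_c53 LD3_c28) (LK LD1_c7 LD2_c53 LD3_c47) Lrfl Lrfl
theorem f17215 : Led Lsl_dt (LP (LK LD1_c24 LD2_c40 LD3_c19)) = (LP (LK LD1_c14 LD2_c53 LD3_c28)) :=
  Lre_d IH (LK LD1_c24 LD2_c40 LD3_c19) (LK LD1_c14 LD2_c53 LD3_c28) Lrfl Lrfl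
theorem f106268 : Led Lsl_ct (LP (LK LD1_c3 LD2_c27 LD3_c56)) = (LP (LK LD1_c3 LD2_c28 LD3_c31)) :=
  Lgr Lrot59 (Lpr_cf (K3.f106262 IH) (Lpn (LP (LK LD1_c3 LD2_c28 LD3_c31))))
def v2544 : LQ := Led Lsl_dt (LP (LK LD1_c1 LD2_c48 LD3_c12))
theorem f527293 : Led Lsl_dt (LP (LK LD1_c1 LD2_c48 LD3_c12)) = v2544 :=
  Lrfl
def v160 : LQ := Led Lsl_dt (LP (LK LD1_c0 LD2_c21 LD3_c50))
def v993 : LQ := Led Lsl_ct v160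
def v3666 : LQ := Led Lsl_gt v993
theorem f626673 : Led Lsl_gt v993 = v3666 :=
  Lrfl
theorem f490911 : Led Lsl_ct v160 = v993 :=
  Lrfl
theorem f450817 : Led Lsl_dt (LP (LK LD1_c0 LD2_c21 LD3_c50)) = v160 :=
  Lrfl
def v85 : LQ := Led Lsl_dt (LP (LK LD1_c0 LD2_c9 LD3_c49))
theorem f447625 : Led Lsl_dt (LP (LK LD1_c0 LD2_c9 LD3_c49)) = v85 :=
  Lrfl
theorem f447626 : Led Lsl_df (LP (LK LD1_c0 LD2_c9 LD3_c49)) = v85 :=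
  Lgr Lrot38 (Lpr_dt (f447625 IH) (Lpn v85))
theorem f450818 : Led Lsl_bf v85 = v160 :=
  Lgr Lrot93 (Lpe (f447626 IH) (Lpr_bt (K7.f154356 IH) (Lpr_dt (f450817 IH) (Lpn v160))))
theorem f447629 : Led Lsl_gt (LP (LK LD1_c0 LD2_c22 LD3_c18)) = v85 :=
  Lgr Lrot139 (Lpe (K0.f9978 IH) (Lpr_gf (K0.f11887 IH) (Lpe (K0.f11471 IH) (Lpr_dt (K0.f11460 IH) (Lpe (K0.f11427 IH) (Lpe (K0.f3928 IH) (Lpr_et (K0.f3989 IH) (Lpr_gf (K7.f4919 IH) (Lpe (K33.f429014 IH) (Lpr_dt (f447625 IH) (Lpn v85)))))))))))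
theorem f527295 : Led Lsl_bf (LP (LK LD1_c3 LD2_c28 LD3_c52)) = v2544 :=
  Lgr Lrot93 (Lpr_dt (K3.f85011 IH) (Lpr_bt (K4.f120915 IH) (Lpr_dt (f527293 IH) (Lpn v2544))))
theorem f626676 : Led Lsl_ct v2544 = v3666 :=
  Lgr Lrot10 (Lpe (f527295 IH) (Lpe (K33.f432997 IH) (Lpr_ct (K33.f429057 IH) (Lpr_gt (K33.f433003 IH) (Lpe (K3.f10939 IH) (Lpr_bt (K33.f10102 IH) (Lpr_gt (f447629 IH) (Lpr_bf (f450818 IH) (Lpr_ct (f490911 IH) (Lpr_gt (f626673 IH) (Lpn v3666)))))))))))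
theorem f658074 : Led Lsl_df v3666 = v6728 :=
  Lgr Lrot84 (Lpe (f626676 IH) (Lpe (f527293 IH) (Lpe (K4.f120870 IH) (Lpe (K5.f120873 IH) (Lpe (K11.f120864 IH) (Lpe (f106268 IH) (Lpr_gt (K3.f11481 IH) (Lpr_dt (K2.f17197 IH) (Lpr_gt (f658072 IH) (Lpn v6728))))))))))
theorem f450820 : Led Lsl_ff (LP (LK LD1_c0 LD2_c48 LD3_c49)) = v160 :=
  Lgr Lrot19 (Lpr_dt (K7.f10928 IH) (Lpe (K33.f446883 IH) (Lpr_dt (f450817 IH) (Lpn v160))))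
theorem f450822 : Led Lsl_ft (LP (LK LD1_c0 LD2_c48 LD3_c49)) = v160 :=
  Lgr Lrot48 (Lpr_ff (f450820 IH) (Lpn v160))
theorem f490913 : Led Lsl_ff (LP (LK LD1_c1 LD2_c44 LD3_c25)) = v993 :=
  Lgr Lrot23 (Lpr_ct (K7.f10935 IH) (Lpr_ft (f450822 IH) (Lpr_ct (f490911 IH) (Lpn v993))))
theorem f434787 : Led Lsl_at (LP (LK LD1_c1 LD2_c44 LD3_c25)) = (LP (LK LD1_c3 LD2_c35 LD3_c11)) :=
  Lre_a IH (LK LD1_c1 LD2_c44 LD3_c25) (LK LD1_c3 LD2_c35 LD3_c11) Lrfl Lrfl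
theorem f626674 : Led Lsl_gf (LP (LK LD1_c3 LD2_c35 LD3_c11)) = v3666 :=
  Lgr Lrot76 (Lpe (f434787 IH) (Lpr_ff (f490913 IH) (Lpr_gt (f626673 IH) (Lpn v3666))))
theorem f434850 : Led Lsl_dt (LP (LK LD1_c7 LD2_c11 LD3_c25)) = (LP (LK LD1_c3 LD2_c35 LD3_c11)) :=
  Lre_d IH (LK LD1_c7 LD2_c11 LD3_c25) (LK LD1_c3 LD2_c35 LD3_c11) Lrfl Lrfl
theorem f447594 : Led Lsl_et (LP (LK LD1_c7 LD2_c11 LD3_c25)) = (LP (LK LD1_c13 LD2_c37 LD3_c19)) :=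
  Lre_e IH (LK LD1_c7 LD2_c11 LD3_c25) (LK LD1_c13 LD2_c37 LD3_c19) Lrfl Lrfl
theorem f447588 : Led Lsl_gt (LP (LK LD1_c13 LD2_c37 LD3_c19)) = (LP (LK LD1_c23 LD2_c1 LD3_c61)) :=
  Lre_g IH (LK LD1_c13 LD2_c37 LD3_c19) (LK LD1_c23 LD2_c1 LD3_c61) Lrfl Lrfl
theorem f658075 : Led Lsl_et (LP (LK LD1_c24 LD2_c40 LD3_c19)) = (LP (LK LD1_c23 LD2_c1 LD3_c61)) :=
  Lgr Lrot122 (Lpr_dt (f17215 IH) (Lpr_gt (f17210 IH) (Lpr_df (f17203 IH) (Lpr_et (f17191 IH) (Lpr_gt (f658072 IH) (Lpe (f658074 IH) (Lpe (f626674 IH) (Lpe (f434850 IH) (Lpr_et (f447594 IH) (Lpr_gt (f447588 IH) (Lpn (LP (LK LD1_c23 LD2_c1 LD3_c61)))))))))))))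
theorem f658076 : Led Lsl_et (LP (LK LD1_c24 LD2_c40 LD3_c19)) = (LP (LK LD1_c23 LD2_c1 LD3_c61)) :=
  Leop (Lpe (f658075 IH) (Lpn (LP (LK LD1_c24 LD2_c40 LD3_c19))))
theorem seed_399 : LEOK LG_e (LK LD1_c24 LD2_c40 LD3_c19) :=
  Leoe_e (LK LD1_c24 LD2_c40 LD3_c19) (f658076 IH)
def v6734 : LQ := Led Lsl_bt (LP (LK LD1_c3 LD2_c28 LD3_c13))
theorem f658123 : Led Lsl_bt (LP (LK LD1_c3 LD2_c28 LD3_c13)) = v6734 :=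
  Lrfl
theorem f658124 : Led Lsl_bf (LP (LK LD1_c3 LD2_c28 LD3_c13)) = v6734 :=
  Lgr Lrot24 (Lpr_bt (f658123 IH) (Lpn v6734))
theorem f11486 : Led Lsl_gt (LP (LK LD1_c3 LD2_c28 LD3_c13)) = (LP (LK LD1_c1 LD2_c40 LD3_c44)) :=
  Lre_g IH (LK LD1_c3 LD2_c28 LD3_c13) (LK LD1_c1 LD2_c40 LD3_c44) Lrfl Lrfl
theorem f10737 : Led Lsl_bt (LP (LK LD1_c0 LD2_c21 LD3_c53)) = (LP (LK LD1_c0 LD2_c48 LD3_c50)) :=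
  Lre_b IH (LK LD1_c0 LD2_c21 LD3_c53) (LK LD1_c0 LD2_c48 LD3_c50) Lrfl Lrfl
theorem f11482 : Led Lsl_gt (LP (LK LD1_c0 LD2_c48 LD3_c50)) = (LP (LK LD1_c1 LD2_c44 LD3_c26)) :=
  Lre_g IH (LK LD1_c0 LD2_c48 LD3_c50) (LK LD1_c1 LD2_c44 LD3_c26) Lrfl Lrfl
theorem f11487 : Led Lsl_ct (LP (LK LD1_c1 LD2_c44 LD3_c26)) = (LP (LK LD1_c3 LD2_c35 LD3_c16)) :=
  Lre_c IH (LK LD1_c1 LD2_c44 LD3_c26) (LK LD1_c3 LD2_c35 LD3_c16) Lrfl Lrfl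
theorem f11488 : Led Lsl_gt (LP (LK LD1_c3 LD2_c35 LD3_c16)) = (LP (LK LD1_c7 LD2_c11 LD3_c31)) :=
  Lre_g IH (LK LD1_c3 LD2_c35 LD3_c16) (LK LD1_c7 LD2_c11 LD3_c31) Lrfl Lrfl
theorem f658126 : Led Lsl_cf (LP (LK LD1_c7 LD2_c11 LD3_c31)) = v6734 :=
  Lgr Lrot163 (Lpe (f11488 IH) (Lpe (f11487 IH) (Lpe (f11482 IH) (Lpe (f10737 IH) (Lpr_ct (K29.f9949 IH) (Lpe (K0.f11472 IH) (Lpe (K29.f9864 IH) (Lpr_bt (K29.f9858 IH) (Lpe (f11486 IH) (Lpr_bf (f658124 IH) (Lpn v6734)))))))))))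
theorem f658127 : Led Lsl_bt (LP (LK LD1_c7 LD2_c11 LD3_c31)) = (LP (LK LD1_c13 LD2_c37 LD3_c29)) :=
  Lre_b IH (LK LD1_c7 LD2_c11 LD3_c31) (LK LD1_c13 LD2_c37 LD3_c29) Lrfl Lrfl
theorem f106243 : Led Lsl_ct (LP (LK LD1_c6 LD2_c58 LD3_c40)) = (LP (LK LD1_c3 LD2_c28 LD3_c13)) :=
  Lre_c IH (LK LD1_c6 LD2_c58 LD3_c40) (LK LD1_c3 LD2_c28 LD3_c13) Lrfl Lrfl
theorem f658125 : Led Lsl_bt (LP (LK LD1_c13 LD2_c14 LD3_c50)) = (LP (LK LD1_c6 LD2_c58 LD3_c40)) :=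
  Lre_b IH (LK LD1_c13 LD2_c14 LD3_c50) (LK LD1_c6 LD2_c58 LD3_c40) Lrfl Lrfl
theorem f658128 : Led Lsl_ct (LP (LK LD1_c13 LD2_c37 LD3_c29)) = (LP (LK LD1_c13 LD2_c14 LD3_c50)) :=
  Lgr Lrot83 (Lpe (f658127 IH) (Lpr_cf (f658126 IH) (Lpe (f658123 IH) (Lpe (f106243 IH) (Lpe (f658125 IH) (Lpn (LP (LK LD1_c13 LD2_c14 LD3_c50))))))))
theorem f658129 : Led Lsl_ct (LP (LK LD1_c13 LD2_c37 LD3_c29)) = (LP (LK LD1_c13 LD2_c14 LD3_c50)) :=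
  Leop (Lpe (f658128 IH) (Lpn (LP (LK LD1_c13 LD2_c37 LD3_c29))))
theorem seed_400 : LEOK LG_c (LK LD1_c13 LD2_c37 LD3_c29) :=
  Leoe_c (LK LD1_c13 LD2_c37 LD3_c29) (f658129 IH)
def v6778 : LQ := Led Lsl_et (LP (LK LD1_c3 LD2_c29 LD3_c18))
theorem f658383 : Led Lsl_et (LP (LK LD1_c3 LD2_c29 LD3_c18)) = v6778 :=
  Lrfl
theorem f658386 : Led Lsl_cf (LP (LK LD1_c3 LD2_c29 LD3_c24)) = v6778 :=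
  Lgr Lrot39 (Lpr_et (K4.f120358 IH) (Lpr_ct (K4.f11448 IH) (Lpr_et (f658383 IH) (Lpn v6778))))
theorem f493796 : Led Lsl_cf (LP (LK LD1_c7 LD2_c0 LD3_c24)) = (LP (LK LD1_c7 LD2_c32 LD3_c32)) :=
  Lgr Lrot11 (Lpr_ct (K30.f493793 IH) (Lpn (LP (LK LD1_c7 LD2_c32 LD3_c32))))
theorem f493795 : Led Lsl_bt (LP (LK LD1_c7 LD2_c32 LD3_c32)) = (LP (LK LD1_c14 LD2_c13 LD3_c25)) :=
  Lre_b IH (LK LD1_c7 LD2_c32 LD3_c32) (LK LD1_c14 LD2_c13 LD3_c25) Lrfl Lrfl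
def v2296 : LQ := Led Lsl_et (LP (LK LD1_c1 LD2_c41 LD3_c22))
theorem f511933 : Led Lsl_et (LP (LK LD1_c1 LD2_c41 LD3_c22)) = v2296 :=
  Lrfl
theorem f511936 : Led Lsl_ef (LP (LK LD1_c1 LD2_c41 LD3_c22)) = v2296 :=
  Lgr Lrot88 (Lpr_et (f511933 IH) (Lpn v2296))
theorem f658385 : Led Lsl_bf v2296 = v6778 :=
  Lgr Lrot96 (Lpe (f511936 IH) (Lpr_bt (K3.f18062 IH) (Lpr_et (f658383 IH) (Lpn v6778))))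
theorem f90899 : Led Lsl_et (LP (LK LD1_c6 LD2_c54 LD3_c18)) = (LP (LK LD1_c3 LD2_c26 LD3_c10)) :=
  Lre_e IH (LK LD1_c6 LD2_c54 LD3_c18) (LK LD1_c3 LD2_c26 LD3_c10) Lrfl Lrfl
theorem f511937 : Led Lsl_gt (LP (LK LD1_c3 LD2_c26 LD3_c10)) = v2296 :=
  Lgr Lrot131 (Lpe (f90899 IH) (Lpr_dt (K28.f90898 IH) (Lpe (K28.f90897 IH) (Lpe (K29.f15686 IH) (Lpe (K2.f15685 IH) (Lpe (K2.f17010 IH) (Lpr_dt (K2.f11970 IH) (Lpe (K2.f15010 IH) (Lpe (K2.f90885 IH) (Lpr_et (f511933 IH) (Lpn v2296)))))))))))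
theorem f466822 : Led Lsl_ct (LP (LK LD1_c14 LD2_c15 LD3_c23)) = (LP (LK LD1_c7 LD2_c33 LD3_c34)) :=
  Lre_c IH (LK LD1_c14 LD2_c15 LD3_c23) (LK LD1_c7 LD2_c33 LD3_c34) Lrfl Lrfl
theorem f658393 : Led Lsl_gt (LP (LK LD1_c14 LD2_c13 LD3_c25)) = (LP (LK LD1_c14 LD2_c15 LD3_c23)) :=
  Lgr Lrot82 (Lpe (f493795 IH) (Lpe (f493796 IH) (Lpe (K30.f120373 IH) (Lpr_cf (f658386 IH) (Lpe (f658385 IH) (Lpe (f511937 IH) (Lpe (K33.f472857 IH) (Lpe (K33.f472859 IH) (Lpe (f474704 IH) (Lpe (f466822 IH) (Lpn (LP (LK LD1_c14 LD2_c15 LD3_c23)))))))))))))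
theorem f658394 : Led Lsl_gt (LP (LK LD1_c14 LD2_c13 LD3_c25)) = (LP (LK LD1_c14 LD2_c15 LD3_c23)) :=
  Leop (Lpe (f658393 IH) (Lpn (LP (LK LD1_c14 LD2_c13 LD3_c25))))
theorem seed_401 : LEOK LG_g (LK LD1_c14 LD2_c13 LD3_c25) :=
  Leoe_g (LK LD1_c14 LD2_c13 LD3_c25) (f658394 IH)
theorem f120371 : Led Lsl_gt (LP (LK LD1_c7 LD2_c0 LD3_c25)) = (LP (LK LD1_c3 LD2_c29 LD3_c24)) :=
  Lre_g IH (LK LD1_c7 LD2_c0 LD3_c25) (LK LD1_c3 LD2_c29 LD3_c24) Lrfl Lrfl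
theorem f511939 : Led Lsl_ct (LP (LK LD1_c1 LD2_c41 LD3_c23)) = v2296 :=
  Lgr Lrot15 (Lpe (K29.f107339 IH) (Lpe (K3.f11444 IH) (Lpr_ef (f511936 IH) (Lpn v2296))))
def v1138 : LQ := Led Lsl_ct K29.v278
theorem f493326 : Led Lsl_ct K29.v278 = v1138 :=
  Lrfl
theorem f511940 : Led Lsl_gf v1138 = v2296 :=
  Lgr Lrot126 (Lpe (f493326 IH) (Lpe (f451501 IH) (Lpr_gt (K24.f447658 IH) (Lpe (K24.f447651 IH) (Lpe (K24.f5320 IH) (Lpqs (K29.f455959 IH) (Lpe (K29.f451573 IH) (Lpr_bt (K30.f451571 IH) (Lpq (K30.f493782 IH) (Lpe (K30.f455512 IH) (Lpe (K34.f120562 IH) (Lpr_ct (f511939 IH) (Lpn v2296)))))))))))))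
theorem f493329 : Led Lsl_ff (LP (LK LD1_c1 LD2_c46 LD3_c53)) = v1138 :=
  Lgr Lrot23 (Lpr_ct (K46.f447646 IH) (Lpr_ft (K29.f457105 IH) (Lpqs (K29.f457212 IH) (Lpr_ct (f493326 IH) (Lpn v1138)))))
theorem f493330 : Led Lsl_bt (LP (LK LD1_c1 LD2_c47 LD3_c54)) = v1138 :=
  Lgr Lrot35 (Lpr_ff (K29.f458713 IH) (Lpe (K29.f456287 IH) (Lpr_ff (f493329 IH) (Lpn v1138))))
theorem f85244 : Led Lsl_gt (LP (LK LD1_c3 LD2_c45 LD3_c58)) = (LP (LK LD1_c7 LD2_c32 LD3_c33)) :=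
  Lre_g IH (LK LD1_c3 LD2_c45 LD3_c58) (LK LD1_c7 LD2_c32 LD3_c33) Lrfl Lrfl
theorem f658395 : Led Lsl_cf (LP (LK LD1_c7 LD2_c0 LD3_c25)) = (LP (LK LD1_c7 LD2_c32 LD3_c33)) :=
  Lgr Lrot125 (Lpr_gt (f120371 IH) (Lpr_cf (f658386 IH) (Lpe (f658385 IH) (Lpe (f511940 IH) (Lpe (f493330 IH) (Lpr_ct (K29.f436801 IH) (Lpr_gt (K28.f457176 IH) (Lpqs (K28.f467667 IH) (Lpe (K3.f85237 IH) (Lpr_bt (K3.f85243 IH) (Lpr_gt (f85244 IH) (Lpn (LP (LK LD1_c7 LD2_c32 LD3_c33))))))))))))))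
theorem f658396 : Led Lsl_ct (LP (LK LD1_c7 LD2_c32 LD3_c33)) = (LP (LK LD1_c7 LD2_c0 LD3_c25)) :=
  Leop (Lpr_cf (f658395 IH) (Lpn (LP (LK LD1_c7 LD2_c32 LD3_c33))))
theorem seed_402 : LEOK LG_c (LK LD1_c7 LD2_c32 LD3_c33) :=
  Leoe_c (LK LD1_c7 LD2_c32 LD3_c33) (f658396 IH)
def v6825 : LQ := Led Lsl_dt (LP (LK LD1_c3 LD2_c31 LD3_c11))
theorem f658733 : Led Lsl_dt (LP (LK LD1_c3 LD2_c31 LD3_c11)) = v6825 :=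
  Lrfl
theorem f628170 : Led Lsl_et (LP (LK LD1_c3 LD2_c31 LD3_c11)) = K46.v3941 :=
  Lgr Lrot87 (Lpr_ef (K46.f628169 IH) (Lpn K46.v3941))
def v6686 : LQ := Led Lsl_ft (LP (LK LD1_c3 LD2_c25 LD3_c53))
theorem f657768 : Led Lsl_ft (LP (LK LD1_c3 LD2_c25 LD3_c53)) = v6686 :=
  Lrfl
theorem f657771 : Led Lsl_ff (LP (LK LD1_c3 LD2_c25 LD3_c53)) = v6686 :=
  Lgr Lrot3 (Lpr_ft (f657768 IH) (Lpn v6686))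
theorem f657775 : Led Lsl_gf K46.v3942 = v6686 :=
  Lgr Lrot47 (Lpe (K46.f628171 IH) (Lpe (K29.f491667 IH) (Lpr_ff (f657771 IH) (Lpn v6686))))
theorem f654667 : Led Lsl_af (LP (LK LD1_c3 LD2_c24 LD3_c55)) = (LP (LK LD1_c3 LD2_c31 LD3_c16)) :=
  Lgr Lrot0 (Lpr_at (K46.f654665 IH) (Lpn (LP (LK LD1_c3 LD2_c31 LD3_c16))))
theorem f655974 : Led Lsl_at K46.v6635 = (LP (LK LD1_c3 LD2_c24 LD3_c51)) :=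
  Lgr Lrot66 (Lpe (K46.f654664 IH) (Lpr_af (f654667 IH) (Lpr_ff (K46.f655972 IH) (Lpn (LP (LK LD1_c3 LD2_c24 LD3_c51))))))
theorem f654539 : Led Lsl_et K46.v3942 = K46.v6635 :=
  Lgr Lrot87 (Lpr_ef (K46.f654537 IH) (Lpn K46.v6635))
theorem f657436 : Led Lsl_af K46.v3942 = K46.v6644 :=
  Lgr Lrot50 (Lpr_et (f654539 IH) (Lpr_at (f655974 IH) (Lpr_et (K46.f657435 IH) (Lpn K46.v6644))))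
theorem f657445 : Led Lsl_ft K46.v3941 = K46.v6644 :=
  Lgr Lrot48 (Lpr_ff (K46.f657439 IH) (Lpn K46.v6644))
theorem f657776 : Led Lsl_gt K46.v3941 = v6686 :=
  Lgr Lrot5 (Lpr_ft (f657445 IH) (Lpe (f657436 IH) (Lpr_gf (f657775 IH) (Lpn v6686))))
def v3505 : LQ := Led Lsl_gt K29.v898
theorem f626003 : Led Lsl_gt K29.v898 = v3505 :=
  Lrfl
theorem f490319 : Led Lsl_df (LP (LK LD1_c0 LD2_c53 LD3_c52)) = K29.v898 :=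
  Lgr Lrot38 (Lpr_dt (K29.f490317 IH) (Lpn K29.v898))
theorem f522431 : Led Lsl_ff K29.v898 = K46.v2461 :=
  Lgr Lrot19 (Lpe (f490319 IH) (Lpr_ft (K29.f476787 IH) (Lpr_dt (K46.f522428 IH) (Lpn K46.v2461))))
theorem f522435 : Led Lsl_ft K29.v898 = K46.v2461 :=
  Lgr Lrot48 (Lpr_ff (f522431 IH) (Lpn K46.v2461))
theorem f476778 : Led Lsl_dt (LP (LK LD1_c3 LD2_c26 LD3_c60)) = (LP (LK LD1_c1 LD2_c40 LD3_c7)) :=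
  Lre_d IH (LK LD1_c3 LD2_c26 LD3_c60) (LK LD1_c1 LD2_c40 LD3_c7) Lrfl Lrfl
theorem f522429 : Led Lsl_af (LP (LK LD1_c3 LD2_c26 LD3_c60)) = K46.v2461 :=
  Lgr Lrot117 (Lpr_dt (f476778 IH) (Lpr_at (K29.f476771 IH) (Lpr_dt (K46.f522428 IH) (Lpn K46.v2461))))
theorem f626005 : Led Lsl_gf (LP (LK LD1_c3 LD2_c26 LD3_c60)) = v3505 :=
  Lgr Lrot76 (Lpr_af (f522429 IH) (Lpe (f522435 IH) (Lpr_gt (f626003 IH) (Lpn v3505))))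
theorem f481867 : Led Lsl_et (LP (LK LD1_c3 LD2_c25 LD3_c53)) = (LP (LK LD1_c1 LD2_c39 LD3_c31)) :=
  Lre_e IH (LK LD1_c3 LD2_c25 LD3_c53) (LK LD1_c1 LD2_c39 LD3_c31) Lrfl Lrfl
theorem f491664 : Led Lsl_af (LP (LK LD1_c3 LD2_c25 LD3_c53)) = K29.v1134 :=
  Lgr Lrot50 (Lpr_et (f481867 IH) (Lpe (K35.f485773 IH) (Lpqs (K29.f478889 IH) (Lpr_et (K29.f491663 IH) (Lpn K29.v1134)))))
theorem f95055 : Led Lsl_dt (LP (LK LD1_c3 LD2_c25 LD3_c53)) = (LP (LK LD1_c3 LD2_c26 LD3_c58)) :=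
  Lre_d IH (LK LD1_c3 LD2_c25 LD3_c53) (LK LD1_c3 LD2_c26 LD3_c58) Lrfl Lrfl
theorem f491674 : Led Lsl_af (LP (LK LD1_c1 LD2_c45 LD3_c56)) = (LP (LK LD1_c3 LD2_c26 LD3_c58)) :=
  Lgr Lrot117 (Lpr_dt (K33.f491673 IH) (Lpe (f491664 IH) (Lpr_dt (f95055 IH) (Lpn (LP (LK LD1_c3 LD2_c26 LD3_c58))))))
theorem f626006 : Led Lsl_ff (LP (LK LD1_c3 LD2_c26 LD3_c58)) = v3505 :=
  Lgr Lrot52 (Lpe (f491674 IH) (Lpe (K29.f487439 IH) (Lpr_gf (f626005 IH) (Lpn v3505))))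
theorem f657770 : Led Lsl_df v3505 = v6686 :=
  Lgr Lrot78 (Lpe (f626006 IH) (Lpr_dt (K29.f485844 IH) (Lpr_ft (f657768 IH) (Lpn v6686))))
theorem f136650 : Led Lsl_dt (LP (LK LD1_c1 LD2_c40 LD3_c7)) = (LP (LK LD1_c3 LD2_c26 LD3_c60)) :=
  Lre_d IH (LK LD1_c1 LD2_c40 LD3_c7) (LK LD1_c3 LD2_c26 LD3_c60) Lrfl Lrfl
theorem f96977 : Led Lsl_et (LP (LK LD1_c6 LD2_c55 LD3_c9)) = (LP (LK LD1_c7 LD2_c5 LD3_c27)) :=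
  Lgr Lrot69 (Lpe (K5.f96976 IH) (Lpe (K33.f96975 IH) (Lpr_ff (K5.f96972 IH) (Lpe (K5.f84924 IH) (Lpe (K7.f84940 IH) (Lpn (LP (LK LD1_c7 LD2_c5 LD3_c27))))))))
theorem f96989 : Led Lsl_at (LP (LK LD1_c3 LD2_c26 LD3_c46)) = (LP (LK LD1_c6 LD2_c55 LD3_c9)) :=
  Lre_a IH (LK LD1_c3 LD2_c26 LD3_c46) (LK LD1_c6 LD2_c55 LD3_c9) Lrfl Lrfl
theorem f482601 : Led Lsl_ef (LP (LK LD1_c3 LD2_c26 LD3_c46)) = (LP (LK LD1_c3 LD2_c33 LD3_c61)) :=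
  Lgr Lrot20 (Lpr_at (f96989 IH) (Lpr_et (f96977 IH) (Lpr_at (K33.f482596 IH) (Lpn (LP (LK LD1_c3 LD2_c33 LD3_c61))))))
theorem f484308 : Led Lsl_et (LP (LK LD1_c1 LD2_c40 LD3_c7)) = (LP (LK LD1_c1 LD2_c44 LD3_c14)) :=
  Lgr Lrot74 (Lpe (K29.f476775 IH) (Lpr_ef (f482601 IH) (Lpr_bf (K33.f484299 IH) (Lpn (LP (LK LD1_c1 LD2_c44 LD3_c14))))))
def v2394 : LQ := Led Lsl_dt (LP (LK LD1_c1 LD2_c44 LD3_c18))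
theorem f519463 : Led Lsl_dt (LP (LK LD1_c1 LD2_c44 LD3_c18)) = v2394 :=
  Lrfl
theorem f658737 : Led Lsl_gt v2394 = v6825 :=
  Lgr Lrot112 (Lpe (f519463 IH) (Lpr_et (K33.f456250 IH) (Lpe (K33.f450791 IH) (Lpe (f484308 IH) (Lpr_dt (f136650 IH) (Lpr_gf (f626005 IH) (Lpr_df (f657770 IH) (Lpe (f657776 IH) (Lpe (f628170 IH) (Lpr_dt (f658733 IH) (Lpn v6825)))))))))))
theorem f658735 : Led Lsl_df (LP (LK LD1_c3 LD2_c31 LD3_c11)) = v6825 :=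
  Lgr Lrot38 (Lpr_dt (f658733 IH) (Lpn v6825))
theorem f457453 : Led Lsl_ct (LP (LK LD1_c7 LD2_c4 LD3_c13)) = (LP (LK LD1_c3 LD2_c31 LD3_c11)) :=
  Lre_c IH (LK LD1_c7 LD2_c4 LD3_c13) (LK LD1_c3 LD2_c31 LD3_c11) Lrfl Lrfl
theorem f481733 : Led Lsl_dt (LP (LK LD1_c13 LD2_c8 LD3_c32)) = (LP (LK LD1_c6 LD2_c54 LD3_c61)) :=
  Lre_d IH (LK LD1_c13 LD2_c8 LD3_c32) (LK LD1_c6 LD2_c54 LD3_c61) Lrfl Lrfl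
theorem f108807 : Led Lsl_dt (LP (LK LD1_c7 LD2_c37 LD3_c40)) = (LP (LK LD1_c3 LD2_c48 LD3_c19)) :=
  Lre_d IH (LK LD1_c7 LD2_c37 LD3_c40) (LK LD1_c3 LD2_c48 LD3_c19) Lrfl Lrfl
theorem f84666 : Led Lsl_dt (LP (LK LD1_c3 LD2_c48 LD3_c19)) = (LP (LK LD1_c7 LD2_c37 LD3_c40)) :=
  Lre_d IH (LK LD1_c3 LD2_c48 LD3_c19) (LK LD1_c7 LD2_c37 LD3_c40) Lrfl Lrfl
theorem f108804 : Led Lsl_dt (LP (LK LD1_c3 LD2_c40 LD3_c59)) = (LP (LK LD1_c7 LD2_c22 LD3_c12)) :=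
  Lre_d IH (LK LD1_c3 LD2_c40 LD3_c59) (LK LD1_c7 LD2_c22 LD3_c12) Lrfl Lrfl
theorem f108805 : Led Lsl_gf (LP (LK LD1_c7 LD2_c37 LD3_c40)) = (LP (LK LD1_c7 LD2_c22 LD3_c12)) :=
  Lgr Lrot134 (Lpe (f84666 IH) (Lpr_et (K33.f84665 IH) (Lpr_gt (K24.f84664 IH) (Lpe (K24.f84663 IH) (Lpe (K5.f64287 IH) (Lpr_gt (K2.f84654 IH) (Lpr_df (K3.f108786 IH) (Lpr_et (K4.f108798 IH) (Lpr_gt (K28.f108800 IH) (Lpr_dt (f108804 IH) (Lpn (LP (LK LD1_c7 LD2_c22 LD3_c12)))))))))))))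
theorem f481736 : Led Lsl_gf (LP (LK LD1_c13 LD2_c8 LD3_c32)) = (LP (LK LD1_c13 LD2_c24 LD3_c13)) :=
  Lgr Lrot154 (Lpr_dt (f481733 IH) (Lpr_ct (K33.f481718 IH) (Lpe (f108807 IH) (Lpr_gf (f108805 IH) (Lpe (f108804 IH) (Lpe (K28.f108800 IH) (Lpr_ct (K46.f108809 IH) (Lpe (K46.f464388 IH) (Lpr_dt (K46.f92012 IH) (Lpn (LP (LK LD1_c13 LD2_c24 LD3_c13))))))))))))
theorem f654713 : Led Lsl_af (LP (LK LD1_c13 LD2_c24 LD3_c14)) = (LP (LK LD1_c7 LD2_c4 LD3_c21)) :=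
  Lgr Lrot0 (Lpr_at (K46.f654711 IH) (Lpn (LP (LK LD1_c7 LD2_c4 LD3_c21))))
theorem f654736 : Led Lsl_gt (LP (LK LD1_c13 LD2_c8 LD3_c32)) = (LP (LK LD1_c13 LD2_c24 LD3_c14)) :=
  Lgr Lrot46 (Lpr_gf (f481736 IH) (Lpr_ft (K46.f654724 IH) (Lpe (f654713 IH) (Lpn (LP (LK LD1_c13 LD2_c24 LD3_c14))))))
theorem f481743 : Led Lsl_dt (LP (LK LD1_c6 LD2_c54 LD3_c61)) = (LP (LK LD1_c13 LD2_c8 LD3_c32)) :=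
  Lre_d IH (LK LD1_c6 LD2_c54 LD3_c61) (LK LD1_c13 LD2_c8 LD3_c32) Lrfl Lrfl
theorem f658740 : Led Lsl_gt (LP (LK LD1_c7 LD2_c11 LD3_c20)) = (LP (LK LD1_c6 LD2_c54 LD3_c61)) :=
  Lgr Lrot94 (Lpe (K46.f519466 IH) (Lpr_gt (K46.f456057 IH) (Lpr_dt (f519463 IH) (Lpr_gt (f658737 IH) (Lpe (f658735 IH) (Lpe (f457453 IH) (Lpe (K46.f460831 IH) (Lpe (f654736 IH) (Lpe (f481743 IH) (Lpn (LP (LK LD1_c6 LD2_c54 LD3_c61))))))))))))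
theorem f658741 : Led Lsl_gt (LP (LK LD1_c7 LD2_c11 LD3_c20)) = (LP (LK LD1_c6 LD2_c54 LD3_c61)) :=
  Leop (Lpe (f658740 IH) (Lpn (LP (LK LD1_c7 LD2_c11 LD3_c20))))
theorem seed_403 : LEOK LG_g (LK LD1_c7 LD2_c11 LD3_c20) :=
  Leoe_g (LK LD1_c7 LD2_c11 LD3_c20) (f658741 IH)
def v6830 : LQ := Led Lsl_et (LP (LK LD1_c3 LD2_c31 LD3_c21))
theorem f658798 : Led Lsl_et (LP (LK LD1_c3 LD2_c31 LD3_c21)) = v6830 :=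
  Lrfl
theorem f526215 : Led Lsl_dt (LP (LK LD1_c13 LD2_c38 LD3_c48)) = (LP (LK LD1_c7 LD2_c53 LD3_c52)) :=
  Lgr Lrot60 (Lpr_ff (K45.f525960 IH) (Lpe (K46.f471398 IH) (Lpr_ff (K46.f526209 IH) (Lpn (LP (LK LD1_c7 LD2_c53 LD3_c52))))))
theorem f658802 : Led Lsl_gf (LP (LK LD1_c7 LD2_c14 LD3_c56)) = v6830 :=
  Lgr Lrot141 (Lpe (K45.f470686 IH) (Lpr_dt (f526215 IH) (Lpr_gt (K46.f470477 IH) (Lpe (K33.f470394 IH) (Lpr_et (K35.f470397 IH) (Lpr_gt (K33.f522623 IH) (Lpr_dt (K33.f10667 IH) (Lpe (K33.f510968 IH) (Lpe (K33.f457457 IH) (Lpr_et (f658798 IH) (Lpn v6830)))))))))))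
theorem f10548 : Led Lsl_gt (LP (LK LD1_c3 LD2_c37 LD3_c13)) = (LP (LK LD1_c7 LD2_c13 LD3_c7)) :=
  Lre_g IH (LK LD1_c3 LD2_c37 LD3_c13) (LK LD1_c7 LD2_c13 LD3_c7) Lrfl Lrfl
theorem f10564 : Led Lsl_dt (LP (LK LD1_c7 LD2_c13 LD3_c7)) = (LP (LK LD1_c3 LD2_c36 LD3_c22)) :=
  Lre_d IH (LK LD1_c7 LD2_c13 LD3_c7) (LK LD1_c3 LD2_c36 LD3_c22) Lrfl Lrfl
theorem f6592 : Led Lsl_dt (LP (LK LD1_c3 LD2_c36 LD3_c28)) = (LP (LK LD1_c1 LD2_c45 LD3_c4)) :=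
  Lre_d IH (LK LD1_c3 LD2_c36 LD3_c28) (LK LD1_c1 LD2_c45 LD3_c4) Lrfl Lrfl
theorem f6593 : Led Lsl_gt (LP (LK LD1_c1 LD2_c45 LD3_c37)) = (LP (LK LD1_c3 LD2_c36 LD3_c28)) :=
  Lre_g IH (LK LD1_c1 LD2_c45 LD3_c37) (LK LD1_c3 LD2_c36 LD3_c28) Lrfl Lrfl
def v2324 : LQ := Led Lsl_et (LP (LK LD1_c1 LD2_c42 LD3_c14))
theorem f514644 : Led Lsl_et (LP (LK LD1_c1 LD2_c42 LD3_c14)) = v2324 :=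
  Lrfl
theorem f519583 : Led Lsl_gf (LP (LK LD1_c3 LD2_c37 LD3_c32)) = v2324 :=
  Lgr Lrot138 (Lpr_dt (K33.f10811 IH) (Lpr_gt (f6593 IH) (Lpe (K2.f10810 IH) (Lpe (K2.f10210 IH) (Lpr_gt (K28.f6380 IH) (Lpe (K33.f10812 IH) (Lpr_dt (K33.f519300 IH) (Lpr_gt (K33.f519582 IH) (Lpe (K33.f514638 IH) (Lpr_et (f514644 IH) (Lpn v2324)))))))))))
theorem f658803 : Led Lsl_ct v2324 = v6830 :=
  Lgr Lrot8 (Lpe (f519583 IH) (Lpr_dt (K33.f10811 IH) (Lpr_gt (f6593 IH) (Lpr_dt (f6592 IH) (Lpe (K29.f6595 IH) (Lpe (f10564 IH) (Lpe (f10548 IH) (Lpe (K33.f10665 IH) (Lpr_gf (f658802 IH) (Lpn v6830))))))))))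
def v2535 : LQ := Led Lsl_ft (LP (LK LD1_c1 LD2_c47 LD3_c56))
theorem f527216 : Led Lsl_ft (LP (LK LD1_c1 LD2_c47 LD3_c56)) = v2535 :=
  Lrfl
theorem f527220 : Led Lsl_ff (LP (LK LD1_c1 LD2_c47 LD3_c56)) = v2535 :=
  Lgr Lrot3 (Lpr_ft (f527216 IH) (Lpn v2535))
theorem f527224 : Led Lsl_gf (LP (LK LD1_c3 LD2_c30 LD3_c46)) = v2535 :=
  Lgr Lrot47 (Lpr_gt (K5.f87961 IH) (Lpr_af (K29.f466762 IH) (Lpr_ff (f527220 IH) (Lpn v2535))))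
theorem f87967 : Led Lsl_ct (LP (LK LD1_c3 LD2_c30 LD3_c46)) = (LP (LK LD1_c7 LD2_c3 LD3_c35)) :=
  Lre_c IH (LK LD1_c3 LD2_c30 LD3_c46) (LK LD1_c7 LD2_c3 LD3_c35) Lrfl Lrfl
theorem f88114 : Led Lsl_bt (LP (LK LD1_c3 LD2_c46 LD3_c7)) = (LP (LK LD1_c7 LD2_c33 LD3_c10)) :=
  Lre_b IH (LK LD1_c3 LD2_c46 LD3_c7) (LK LD1_c7 LD2_c33 LD3_c10) Lrfl Lrfl
theorem f483315 : Led Lsl_ct (LP (LK LD1_c6 LD2_c53 LD3_c1)) = (LP (LK LD1_c3 LD2_c46 LD3_c7)) :=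
  Lgr Lrot83 (Lpe (K35.f483261 IH) (Lpe (K33.f92505 IH) (Lpe (K35.f93116 IH) (Lpr_cf (f483272 IH) (Lpe (f88114 IH) (Lpn (LP (LK LD1_c3 LD2_c46 LD3_c7))))))))
theorem f527221 : Led Lsl_bt K30.v781 = v2535 :=
  Lgr Lrot35 (Lpe (K30.f459346 IH) (Lpe (K29.f455712 IH) (Lpr_ff (f527220 IH) (Lpn v2535))))
theorem f514646 : Led Lsl_ef (LP (LK LD1_c1 LD2_c42 LD3_c14)) = v2324 :=
  Lgr Lrot88 (Lpr_et (f514644 IH) (Lpn v2324))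
theorem f514647 : Led Lsl_bt K30.v629 = v2324 :=
  Lgr Lrot119 (Lpe (K30.f455609 IH) (Lpe (K28.f446510 IH) (Lpr_ef (f514646 IH) (Lpn v2324))))
theorem f527226 : Led Lsl_gt (LP (LK LD1_c3 LD2_c37 LD3_c35)) = v2324 :=
  Lgr Lrot164 (Lpr_bf (K35.f483263 IH) (Lpr_ct (f483315 IH) (Lpr_gf (K5.f87963 IH) (Lpe (f87967 IH) (Lpr_gf (f527224 IH) (Lpe (f527221 IH) (Lpr_ct (K30.f490870 IH) (Lpe (K30.f490876 IH) (Lpr_cf (K30.f457420 IH) (Lpr_bt (f514647 IH) (Lpn v2324)))))))))))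
theorem f88025 : Led Lsl_bt (LP (LK LD1_c3 LD2_c30 LD3_c46)) = (LP (LK LD1_c7 LD2_c3 LD3_c16)) :=
  Lre_b IH (LK LD1_c3 LD2_c30 LD3_c46) (LK LD1_c7 LD2_c3 LD3_c16) Lrfl Lrfl
theorem f88026 : Led Lsl_gt (LP (LK LD1_c13 LD2_c22 LD3_c42)) = (LP (LK LD1_c7 LD2_c3 LD3_c16)) :=
  Lre_g IH (LK LD1_c13 LD2_c22 LD3_c42) (LK LD1_c7 LD2_c3 LD3_c16) Lrfl Lrfl
theorem f658804 : Led Lsl_bt (LP (LK LD1_c7 LD2_c39 LD3_c22)) = (LP (LK LD1_c13 LD2_c22 LD3_c42)) :=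
  Lgr Lrot22 (Lpe (K45.f487835 IH) (Lpr_gf (f658802 IH) (Lpe (f658803 IH) (Lpe (f527226 IH) (Lpr_bf (K35.f483263 IH) (Lpr_ct (f483315 IH) (Lpr_gf (K5.f87963 IH) (Lpe (f87967 IH) (Lpr_bt (f88025 IH) (Lpe (f88026 IH) (Lpn (LP (LK LD1_c13 LD2_c22 LD3_c42)))))))))))))
theorem f658805 : Led Lsl_bt (LP (LK LD1_c7 LD2_c39 LD3_c22)) = (LP (LK LD1_c13 LD2_c22 LD3_c42)) :=
  Leop (Lpe (f658804 IH) (Lpn (LP (LK LD1_c7 LD2_c39 LD3_c22))))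
theorem seed_404 : LEOK LG_b (LK LD1_c7 LD2_c39 LD3_c22) :=
  Leoe_b (LK LD1_c7 LD2_c39 LD3_c22) (f658805 IH)
def v6840 : LQ := Led Lsl_ft (LP (LK LD1_c3 LD2_c31 LD3_c44))
theorem f658889 : Led Lsl_ft (LP (LK LD1_c3 LD2_c31 LD3_c44)) = v6840 :=
  Lrfl
theorem f658893 : Led Lsl_ff (LP (LK LD1_c3 LD2_c31 LD3_c44)) = v6840 :=
  Lgr Lrot3 (Lpr_ft (f658889 IH) (Lpn v6840))
theorem f459270 : Led Lsl_et (LP (LK LD1_c3 LD2_c31 LD3_c44)) = (LP (LK LD1_c1 LD2_c42 LD3_c26)) :=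
  Lre_e IH (LK LD1_c3 LD2_c31 LD3_c44) (LK LD1_c1 LD2_c42 LD3_c26) Lrfl Lrfl
theorem f458817 : Led Lsl_ft (LP (LK LD1_c1 LD2_c42 LD3_c26)) = (LP (LK LD1_c1 LD2_c42 LD3_c17)) :=
  Lgr Lrot75 (Lpe (K28.f458442 IH) (Lpr_ff (K24.f458815 IH) (Lpe (K28.f455629 IH) (Lpn (LP (LK LD1_c1 LD2_c42 LD3_c17))))))
theorem f658896 : Led Lsl_et (LP (LK LD1_c7 LD2_c4 LD3_c42)) = v6840 :=
  Lgr Lrot69 (Lpe (K29.f458324 IH) (Lpe (K24.f458240 IH) (Lpe (f458817 IH) (Lpe (f459270 IH) (Lpr_ff (f658893 IH) (Lpn v6840))))))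
theorem f658897 : Led Lsl_gf (LP (LK LD1_c3 LD2_c44 LD3_c18)) = v6840 :=
  Lgr Lrot138 (Lpr_dt (K34.f142291 IH) (Lpe (K34.f142292 IH) (Lpe (K34.f142289 IH) (Lpr_et (K34.f134758 IH) (Lpe (K6.f134762 IH) (Lpe (K28.f11814 IH) (Lpr_dt (K8.f11812 IH) (Lpr_gt (K28.f142318 IH) (Lpe (K29.f470311 IH) (Lpr_et (f658896 IH) (Lpn v6840)))))))))))
theorem f489992 : Led Lsl_at (LP (LK LD1_c3 LD2_c31 LD3_c44)) = (LP (LK LD1_c7 LD2_c4 LD3_c55)) :=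
  Lre_a IH (LK LD1_c3 LD2_c31 LD3_c44) (LK LD1_c7 LD2_c4 LD3_c55) Lrfl Lrfl
theorem f658898 : Led Lsl_gt (LP (LK LD1_c3 LD2_c44 LD3_c18)) = (LP (LK LD1_c7 LD2_c4 LD3_c55)) :=
  Lgr Lrot46 (Lpr_gf (f658897 IH) (Lpe (f658893 IH) (Lpr_at (f489992 IH) (Lpn (LP (LK LD1_c7 LD2_c4 LD3_c55))))))
theorem f658899 : Led Lsl_gt (LP (LK LD1_c3 LD2_c44 LD3_c18)) = (LP (LK LD1_c7 LD2_c4 LD3_c55)) :=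
  Leop (Lpe (f658898 IH) (Lpn (LP (LK LD1_c3 LD2_c44 LD3_c18))))
theorem seed_405 : LEOK LG_g (LK LD1_c3 LD2_c44 LD3_c18) :=
  Leoe_g (LK LD1_c3 LD2_c44 LD3_c18) (f658899 IH)
def v6869 : LQ := Led Lsl_gt (LP (LK LD1_c3 LD2_c32 LD3_c33))
theorem f659050 : Led Lsl_gt (LP (LK LD1_c3 LD2_c32 LD3_c33)) = v6869 :=
  Lrfl
theorem f94400 : Led Lsl_dt (LP (LK LD1_c3 LD2_c32 LD3_c33)) = (LP (LK LD1_c1 LD2_c42 LD3_c58)) :=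
  Lre_d IH (LK LD1_c3 LD2_c32 LD3_c33) (LK LD1_c1 LD2_c42 LD3_c58) Lrfl Lrfl
theorem f659053 : Led Lsl_cf (LP (LK LD1_c6 LD2_c59 LD3_c24)) = v6869 :=
  Lgr Lrot169 (Lpe (K33.f107714 IH) (Lpr_ct (K33.f105776 IH) (Lpe (K3.f10988 IH) (Lpe (K3.f86844 IH) (Lpe (K3.f105766 IH) (Lpe (K3.f106061 IH) (Lpe (K3.f106014 IH) (Lpe (f94400 IH) (Lpr_gt (f659050 IH) (Lpn v6869))))))))))
theorem f659055 : Led Lsl_ct (LP (LK LD1_c6 LD2_c59 LD3_c24)) = v6869 :=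
  Lgr Lrot59 (Lpr_cf (f659053 IH) (Lpn v6869))
theorem f659054 : Led Lsl_bt (LP (LK LD1_c6 LD2_c59 LD3_c24)) = (LP (LK LD1_c13 LD2_c15 LD3_c54)) :=
  Lre_b IH (LK LD1_c6 LD2_c59 LD3_c24) (LK LD1_c13 LD2_c15 LD3_c54) Lrfl Lrfl
theorem f87054 : Led Lsl_gt (LP (LK LD1_c13 LD2_c15 LD3_c54)) = (LP (LK LD1_c22 LD2_c31 LD3_c1)) :=
  Lre_g IH (LK LD1_c13 LD2_c15 LD3_c54) (LK LD1_c22 LD2_c31 LD3_c1) Lrfl Lrfl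
theorem f659061 : Led Lsl_bt (LP (LK LD1_c30 LD2_c33 LD3_c0)) = (LP (LK LD1_c22 LD2_c31 LD3_c1)) :=
  Lre_b IH (LK LD1_c30 LD2_c33 LD3_c0) (LK LD1_c22 LD2_c31 LD3_c1) Lrfl Lrfl
theorem f429072 : Led Lsl_ct (LP (LK LD1_c3 LD2_c34 LD3_c41)) = (LP (LK LD1_c3 LD2_c32 LD3_c33)) :=
  Lgr Lrot176 (Lpe (K29.f106021 IH) (Lpr_cf (K29.f429061 IH) (Lpe (K3.f94363 IH) (Lpe (K3.f94364 IH) (Lpe (K3.f107796 IH) (Lpe (K3.f106437 IH) (Lpe (K3.f106476 IH) (Lpe (K3.f106477 IH) (Lpe (K3.f106009 IH) (Lpr_cf (K3.f106274 IH) (Lpe (K3.f84736 IH) (Lpe (K2.f87478 IH) (Lpe (K3.f94408 IH) (Lpe (K4.f94401 IH) (Lpe (f94400 IH) (Lpn (LP (LK LD1_c3 LD2_c32 LD3_c33))))))))))))))))))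
theorem f19807 : Led Lsl_bt (LP (LK LD1_c7 LD2_c16 LD3_c12)) = (LP (LK LD1_c3 LD2_c37 LD3_c54)) :=
  Lre_b IH (LK LD1_c7 LD2_c16 LD3_c12) (LK LD1_c3 LD2_c37 LD3_c54) Lrfl Lrfl
theorem f19965 : Led Lsl_ct (LP (LK LD1_c7 LD2_c16 LD3_c12)) = (LP (LK LD1_c13 LD2_c45 LD3_c14)) :=
  Lre_c IH (LK LD1_c7 LD2_c16 LD3_c12) (LK LD1_c13 LD2_c45 LD3_c14) Lrfl Lrfl
theorem f429123 : Led Lsl_gt (LP (LK LD1_c23 LD2_c12 LD3_c5)) = (LP (LK LD1_c13 LD2_c45 LD3_c14)) :=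
  Lre_g IH (LK LD1_c23 LD2_c12 LD3_c5) (LK LD1_c13 LD2_c45 LD3_c14) Lrfl Lrfl
theorem f659062 : Led Lsl_ct (LP (LK LD1_c30 LD2_c33 LD3_c0)) = (LP (LK LD1_c23 LD2_c12 LD3_c5)) :=
  Lgr Lrot64 (Lpr_bt (f659061 IH) (Lpe (f87054 IH) (Lpe (f659054 IH) (Lpr_ct (f659055 IH) (Lpe (f659050 IH) (Lpe (f429072 IH) (Lpr_gf (K29.f429097 IH) (Lpe (f19807 IH) (Lpr_ct (f19965 IH) (Lpe (f429123 IH) (Lpn (LP (LK LD1_c23 LD2_c12 LD3_c5)))))))))))))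
theorem f659063 : Led Lsl_ct (LP (LK LD1_c30 LD2_c33 LD3_c0)) = (LP (LK LD1_c23 LD2_c12 LD3_c5)) :=
  Leop (Lpe (f659062 IH) (Lpn (LP (LK LD1_c30 LD2_c33 LD3_c0))))
theorem seed_406 : LEOK LG_c (LK LD1_c30 LD2_c33 LD3_c0) :=
  Leoe_c (LK LD1_c30 LD2_c33 LD3_c0) (f659063 IH)
def v6870 : LQ := Led Lsl_gf (LP (LK LD1_c3 LD2_c32 LD3_c33))
theorem f659067 : Led Lsl_gf (LP (LK LD1_c3 LD2_c32 LD3_c33)) = v6870 :=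
  Lrfl
def v2425 : LQ := Led Lsl_ft (LP (LK LD1_c1 LD2_c45 LD3_c5))
theorem f519626 : Led Lsl_ft (LP (LK LD1_c1 LD2_c45 LD3_c5)) = v2425 :=
  Lrfl
theorem f519629 : Led Lsl_df (LP (LK LD1_c3 LD2_c37 LD3_c54)) = v2425 :=
  Lgr Lrot78 (Lpe (K29.f19803 IH) (Lpr_dt (K3.f10910 IH) (Lpr_ft (f519626 IH) (Lpn v2425))))
theorem f519631 : Led Lsl_ff (LP (LK LD1_c1 LD2_c45 LD3_c5)) = v2425 :=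
  Lgr Lrot3 (Lpr_ft (f519626 IH) (Lpn v2425))
theorem f107074 : Led Lsl_af (LP (LK LD1_c0 LD2_c22 LD3_c10)) = (LP (LK LD1_c0 LD2_c22 LD3_c21)) :=
  Lgr Lrot36 (Lpr_bt (K3.f94365 IH) (Lpr_at (K3.f106699 IH) (Lpe (K3.f23660 IH) (Lpr_at (K3.f107070 IH) (Lpr_bt (K3.f86722 IH) (Lpn (LP (LK LD1_c0 LD2_c22 LD3_c21))))))))
theorem f106464 : Led Lsl_ft (LP (LK LD1_c0 LD2_c21 LD3_c32)) = (LP (LK LD1_c0 LD2_c22 LD3_c21)) :=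
  Lgr Lrot54 (Lpe (K3.f94408 IH) (Lpr_ff (K3.f106458 IH) (Lpe (K3.f4454 IH) (Lpn (LP (LK LD1_c0 LD2_c22 LD3_c21))))))
theorem f441701 : Led Lsl_gf (LP (LK LD1_c0 LD2_c22 LD3_c10)) = (LP (LK LD1_c0 LD2_c48 LD3_c3)) :=
  Lgr Lrot76 (Lpr_af (f107074 IH) (Lpe (f106464 IH) (Lpr_gt (K33.f87494 IH) (Lpn (LP (LK LD1_c0 LD2_c48 LD3_c3))))))
theorem f106680 : Led Lsl_dt (LP (LK LD1_c0 LD2_c22 LD3_c10)) = (LP (LK LD1_c0 LD2_c48 LD3_c36)) :=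
  Lgr Lrot79 (Lpe (K3.f94407 IH) (Lpr_df (K3.f106677 IH) (Lpe (K3.f106444 IH) (Lpn (LP (LK LD1_c0 LD2_c48 LD3_c36))))))
theorem f441709 : Led Lsl_et (LP (LK LD1_c0 LD2_c48 LD3_c16)) = (LP (LK LD1_c0 LD2_c48 LD3_c3)) :=
  Lgr Lrot121 (Lpe (K3.f106620 IH) (Lpe (K3.f94398 IH) (Lpe (K3.f10276 IH) (Lpr_et (K3.f10275 IH) (Lpe (K2.f10015 IH) (Lpe (K0.f10256 IH) (Lpr_dt (K3.f19732 IH) (Lpe (K3.f94430 IH) (Lpe (f106680 IH) (Lpr_gf (f441701 IH) (Lpn (LP (LK LD1_c0 LD2_c48 LD3_c3)))))))))))))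
theorem f10364 : Led Lsl_at (LP (LK LD1_c0 LD2_c21 LD3_c45)) = (LP (LK LD1_c0 LD2_c48 LD3_c16)) :=
  Lre_a IH (LK LD1_c0 LD2_c21 LD3_c45) (LK LD1_c0 LD2_c48 LD3_c16) Lrfl Lrfl
theorem f10309 : Led Lsl_at (LP (LK LD1_c0 LD2_c48 LD3_c16)) = (LP (LK LD1_c0 LD2_c21 LD3_c45)) :=
  Lre_a IH (LK LD1_c0 LD2_c48 LD3_c16) (LK LD1_c0 LD2_c21 LD3_c45) Lrfl Lrfl
theorem f10365 : Led Lsl_bt (LP (LK LD1_c0 LD2_c48 LD3_c16)) = (LP (LK LD1_c0 LD2_c48 LD3_c16)) :=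
  Lgr Lrot62 (Lpe (f10364 IH) (Lpe (K0.f9975 IH) (Lpr_af (K0.f10343 IH) (Lpe (K6.f10345 IH) (Lpe (f10309 IH) (Lpn (LP (LK LD1_c0 LD2_c48 LD3_c16))))))))
theorem f441705 : Led Lsl_ct (LP (LK LD1_c0 LD2_c48 LD3_c3)) = (LP (LK LD1_c0 LD2_c48 LD3_c3)) :=
  Lgr Lrot8 (Lpe (f441701 IH) (Lpr_dt (f106680 IH) (Lpr_gt (K3.f94430 IH) (Lpr_dt (K3.f19733 IH) (Lpe (K7.f19427 IH) (Lpe (K3.f19733 IH) (Lpe (K3.f94430 IH) (Lpe (f106680 IH) (Lpr_gf (f441701 IH) (Lpn (LP (LK LD1_c0 LD2_c48 LD3_c3))))))))))))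
theorem f441707 : Led Lsl_bt (LP (LK LD1_c0 LD2_c48 LD3_c3)) = (LP (LK LD1_c0 LD2_c48 LD3_c3)) :=
  Lgr Lrot130 (Lpr_ct (f441705 IH) (Lpe (K33.f87494 IH) (Lpe (K2.f87498 IH) (Lpr_bt (K2.f87479 IH) (Lpr_gf (K4.f120925 IH) (Lpe (K4.f120915 IH) (Lpe (K3.f84716 IH) (Lpr_gf (K3.f106773 IH) (Lpe (K3.f94364 IH) (Lpr_gf (f441701 IH) (Lpn (LP (LK LD1_c0 LD2_c48 LD3_c3)))))))))))))
theorem f441713 : Led Lsl_ef (LP (LK LD1_c0 LD2_c48 LD3_c16)) = (LP (LK LD1_c0 LD2_c48 LD3_c3)) :=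
  Lgr Lrot29 (Lpr_bt (f10365 IH) (Lpr_et (f441709 IH) (Lpr_bt (f441707 IH) (Lpn (LP (LK LD1_c0 LD2_c48 LD3_c3))))))
theorem f10740 : Led Lsl_gt (LP (LK LD1_c0 LD2_c48 LD3_c16)) = (LP (LK LD1_c0 LD2_c21 LD3_c43)) :=
  Lre_g IH (LK LD1_c0 LD2_c48 LD3_c16) (LK LD1_c0 LD2_c21 LD3_c43) Lrfl Lrfl
theorem f455817 : Led Lsl_gt (LP (LK LD1_c0 LD2_c49 LD3_c31)) = K33.v657 :=
  Lgr Lrot112 (Lpe (K7.f156059 IH) (Lpr_et (K7.f156055 IH) (Lpe (K3.f9976 IH) (Lpr_ef (K0.f10260 IH) (Lpr_dt (K0.f10314 IH) (Lpe (K11.f450863 IH) (Lpe (K11.f10741 IH) (Lpe (f10740 IH) (Lpr_ef (f441713 IH) (Lpr_dt (K33.f455813 IH) (Lpn K33.v657)))))))))))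
theorem f446282 : Led Lsl_ft (LP (LK LD1_c0 LD2_c22 LD3_c11)) = (LP (LK LD1_c0 LD2_c49 LD3_c33)) :=
  Lre_f IH (LK LD1_c0 LD2_c22 LD3_c11) (LK LD1_c0 LD2_c49 LD3_c33) Lrfl Lrfl
theorem f455819 : Led Lsl_at (LP (LK LD1_c0 LD2_c49 LD3_c33)) = K33.v657 :=
  Lgr Lrot26 (Lpe (f446282 IH) (Lpr_gt (K7.f10087 IH) (Lpr_gt (f455817 IH) (Lpn K33.v657))))
theorem f10101 : Led Lsl_bt (LP (LK LD1_c0 LD2_c22 LD3_c18)) = (LP (LK LD1_c0 LD2_c49 LD3_c33)) :=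
  Lre_b IH (LK LD1_c0 LD2_c22 LD3_c18) (LK LD1_c0 LD2_c49 LD3_c33) Lrfl Lrfl
theorem f94396 : Led Lsl_af (LP (LK LD1_c0 LD2_c48 LD3_c3)) = (LP (LK LD1_c0 LD2_c22 LD3_c12)) :=
  Lgr Lrot31 (Lpe (K33.f87494 IH) (Lpr_gf (K2.f94376 IH) (Lpr_ft (K0.f10259 IH) (Lpn (LP (LK LD1_c0 LD2_c22 LD3_c12))))))
theorem f455814 : Led Lsl_af (LP (LK LD1_c0 LD2_c49 LD3_c33)) = K33.v657 :=
  Lgr Lrot117 (Lpr_dt (K3.f10337 IH) (Lpe (f94396 IH) (Lpr_dt (K33.f455813 IH) (Lpn K33.v657))))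
theorem f455820 : Led Lsl_bf K33.v657 = K33.v657 :=
  Lgr Lrot81 (Lpe (f455814 IH) (Lpr_bt (K33.f10102 IH) (Lpe (K0.f10099 IH) (Lpr_bt (f10101 IH) (Lpr_at (f455819 IH) (Lpn K33.v657))))))
theorem f441715 : Led Lsl_ft (LP (LK LD1_c0 LD2_c22 LD3_c5)) = (LP (LK LD1_c0 LD2_c48 LD3_c3)) :=
  Lgr Lrot86 (Lpe (K3.f10440 IH) (Lpe (K0.f10285 IH) (Lpe (K0.f10307 IH) (Lpe (K3.f10434 IH) (Lpr_ef (f441713 IH) (Lpn (LP (LK LD1_c0 LD2_c48 LD3_c3))))))))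
theorem f455816 : Led Lsl_ff (LP (LK LD1_c0 LD2_c49 LD3_c14)) = K33.v657 :=
  Lgr Lrot19 (Lpr_dt (K3.f10446 IH) (Lpr_ft (f441715 IH) (Lpr_dt (K33.f455813 IH) (Lpn K33.v657))))
theorem f10088 : Led Lsl_bt (LP (LK LD1_c0 LD2_c22 LD3_c11)) = (LP (LK LD1_c0 LD2_c10 LD3_c0)) :=
  Lre_b IH (LK LD1_c0 LD2_c22 LD3_c11) (LK LD1_c0 LD2_c10 LD3_c0) Lrfl Lrfl
theorem f10089 : Led Lsl_at (LP (LK LD1_c0 LD2_c49 LD3_c14)) = (LP (LK LD1_c0 LD2_c22 LD3_c11)) :=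
  Lre_a IH (LK LD1_c0 LD2_c49 LD3_c14) (LK LD1_c0 LD2_c22 LD3_c11) Lrfl Lrfl
theorem f10091 : Led Lsl_bf (LP (LK LD1_c0 LD2_c49 LD3_c14)) = (LP (LK LD1_c0 LD2_c49 LD3_c14)) :=
  Lgr Lrot81 (Lpr_at (f10089 IH) (Lpr_bt (f10088 IH) (Lpr_at (K0.f10084 IH) (Lpr_bt (K35.f10086 IH) (Lpr_at (K3.f10090 IH) (Lpn (LP (LK LD1_c0 LD2_c49 LD3_c14))))))))
theorem f455821 : Led Lsl_ft (LP (LK LD1_c0 LD2_c49 LD3_c14)) = K33.v657 :=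
  Lgr Lrot75 (Lpr_bf (f10091 IH) (Lpr_ff (f455816 IH) (Lpr_bf (f455820 IH) (Lpn K33.v657))))
theorem f519633 : Led Lsl_ct K33.v657 = v2425 :=
  Lgr Lrot40 (Lpe (f455821 IH) (Lpe (K3.f10883 IH) (Lpr_ff (f519631 IH) (Lpn v2425))))
theorem f156067 : Led Lsl_ct (LP (LK LD1_c1 LD2_c45 LD3_c43)) = (LP (LK LD1_c0 LD2_c49 LD3_c31)) :=
  Lre_c IH (LK LD1_c1 LD2_c45 LD3_c43) (LK LD1_c0 LD2_c49 LD3_c31) Lrfl Lrfl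
def v2452 : LQ := Led Lsl_gf (LP (LK LD1_c1 LD2_c45 LD3_c43))
theorem f522378 : Led Lsl_gf (LP (LK LD1_c1 LD2_c45 LD3_c43)) = v2452 :=
  Lrfl
theorem f659070 : Led Lsl_df v2452 = v6870 :=
  Lgr Lrot155 (Lpe (f522378 IH) (Lpr_ct (f156067 IH) (Lpr_gt (f455817 IH) (Lpr_ct (f519633 IH) (Lpe (f519629 IH) (Lpe (K3.f19774 IH) (Lpe (K29.f429088 IH) (Lpe (K29.f429232 IH) (Lpr_gf (f659067 IH) (Lpn v6870))))))))))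
theorem f156068 : Led Lsl_dt (LP (LK LD1_c3 LD2_c37 LD3_c46)) = (LP (LK LD1_c1 LD2_c45 LD3_c43)) :=
  Lre_d IH (LK LD1_c3 LD2_c37 LD3_c46) (LK LD1_c1 LD2_c45 LD3_c43) Lrfl Lrfl
theorem f429184 : Led Lsl_et (LP (LK LD1_c3 LD2_c37 LD3_c46)) = (LP (LK LD1_c7 LD2_c15 LD3_c57)) :=
  Lre_e IH (LK LD1_c3 LD2_c37 LD3_c46) (LK LD1_c7 LD2_c15 LD3_c57) Lrfl Lrfl
theorem f448722 : Led Lsl_gt (LP (LK LD1_c7 LD2_c15 LD3_c57)) = (LP (LK LD1_c13 LD2_c44 LD3_c43)) :=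
  Lre_g IH (LK LD1_c7 LD2_c15 LD3_c57) (LK LD1_c13 LD2_c44 LD3_c43) Lrfl Lrfl
theorem f448728 : Led Lsl_et (LP (LK LD1_c23 LD2_c11 LD3_c34)) = (LP (LK LD1_c13 LD2_c44 LD3_c43)) :=
  Lre_e IH (LK LD1_c23 LD2_c11 LD3_c34) (LK LD1_c13 LD2_c44 LD3_c43) Lrfl Lrfl
theorem f659068 : Led Lsl_gt (LP (LK LD1_c3 LD2_c34 LD3_c33)) = v6870 :=
  Lgr Lrot5 (Lpr_ft (K4.f121669 IH) (Lpr_at (K4.f107703 IH) (Lpr_gf (f659067 IH) (Lpn v6870))))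
theorem f106573 : Led Lsl_dt (LP (LK LD1_c7 LD2_c10 LD3_c14)) = (LP (LK LD1_c13 LD2_c34 LD3_c49)) :=
  Lre_d IH (LK LD1_c7 LD2_c10 LD3_c14) (LK LD1_c13 LD2_c34 LD3_c49) Lrfl Lrfl
theorem f106528 : Led Lsl_gt (LP (LK LD1_c22 LD2_c58 LD3_c12)) = (LP (LK LD1_c13 LD2_c34 LD3_c49)) :=
  Lre_g IH (LK LD1_c22 LD2_c58 LD3_c12) (LK LD1_c13 LD2_c34 LD3_c49) Lrfl Lrfl
theorem f659073 : Led Lsl_dt (LP (LK LD1_c23 LD2_c11 LD3_c34)) = (LP (LK LD1_c22 LD2_c58 LD3_c12)) :=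
  Lgr Lrot136 (Lpr_et (f448728 IH) (Lpe (f448722 IH) (Lpe (f429184 IH) (Lpr_dt (f156068 IH) (Lpr_gf (f522378 IH) (Lpr_df (f659070 IH) (Lpe (f659068 IH) (Lpe (K4.f106577 IH) (Lpr_dt (f106573 IH) (Lpe (f106528 IH) (Lpn (LP (LK LD1_c22 LD2_c58 LD3_c12)))))))))))))
theorem f659074 : Led Lsl_dt (LP (LK LD1_c23 LD2_c11 LD3_c34)) = (LP (LK LD1_c22 LD2_c58 LD3_c12)) :=
  Leop (Lpe (f659073 IH) (Lpn (LP (LK LD1_c23 LD2_c11 LD3_c34))))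
theorem seed_407 : LEOK LG_d (LK LD1_c23 LD2_c11 LD3_c34) :=
  Leoe_d (LK LD1_c23 LD2_c11 LD3_c34) (f659074 IH)
def v6871 : LQ := Led Lsl_gt (LP (LK LD1_c3 LD2_c32 LD3_c44))
theorem f659094 : Led Lsl_gt (LP (LK LD1_c3 LD2_c32 LD3_c44)) = v6871 :=
  Lrfl
theorem f446447 : Led Lsl_et (LP (LK LD1_c0 LD2_c46 LD3_c45)) = (LP (LK LD1_c1 LD2_c40 LD3_c39)) :=
  Lre_e IH (LK LD1_c0 LD2_c46 LD3_c45) (LK LD1_c1 LD2_c40 LD3_c39) Lrfl Lrfl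
theorem f659098 : Led Lsl_et (LP (LK LD1_c3 LD2_c37 LD3_c29)) = v6871 :=
  Lgr Lrot122 (Lpr_dt (K42.f470751 IH) (Lpr_gt (K29.f477584 IH) (Lpe (K24.f446483 IH) (Lpr_et (f446447 IH) (Lpr_gt (K29.f446452 IH) (Lpr_dt (K33.f479553 IH) (Lpr_gt (K28.f466613 IH) (Lpe (K28.f128114 IH) (Lpr_et (K32.f128116 IH) (Lpr_gt (f659094 IH) (Lpn v6871)))))))))))
theorem f457063 : Led Lsl_et (LP (LK LD1_c0 LD2_c50 LD3_c8)) = (LP (LK LD1_c1 LD2_c46 LD3_c51)) :=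
  Lre_e IH (LK LD1_c0 LD2_c50 LD3_c8) (LK LD1_c1 LD2_c46 LD3_c51) Lrfl Lrfl
def v2498 : LQ := Led Lsl_at (LP (LK LD1_c1 LD2_c46 LD3_c48))
theorem f523625 : Led Lsl_at (LP (LK LD1_c1 LD2_c46 LD3_c48)) = v2498 :=
  Lrfl
theorem f457058 : Led Lsl_et (LP (LK LD1_c0 LD2_c50 LD3_c7)) = (LP (LK LD1_c1 LD2_c46 LD3_c48)) :=
  Lre_e IH (LK LD1_c0 LD2_c50 LD3_c7) (LK LD1_c1 LD2_c46 LD3_c48) Lrfl Lrfl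
theorem f523628 : Led Lsl_ef K34.v747 = v2498 :=
  Lgr Lrot20 (Lpe (K34.f457056 IH) (Lpr_et (f457058 IH) (Lpr_at (f523625 IH) (Lpn v2498))))
theorem f659101 : Led Lsl_ff v2498 = v6871 :=
  Lgr Lrot72 (Lpe (f523628 IH) (Lpe (K35.f457061 IH) (Lpr_et (f457063 IH) (Lpe (K34.f520941 IH) (Lpr_et (f659098 IH) (Lpn v6871))))))
theorem f659103 : Led Lsl_ft v2498 = v6871 :=
  Lgr Lrot48 (Lpr_ff (f659101 IH) (Lpn v6871))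
theorem f659099 : Led Lsl_af (LP (LK LD1_c3 LD2_c34 LD3_c20)) = v6871 :=
  Lgr Lrot50 (Lpe (K28.f466615 IH) (Lpe (K34.f520948 IH) (Lpr_et (f659098 IH) (Lpn v6871))))
theorem f446475 : Led Lsl_et (LP (LK LD1_c1 LD2_c40 LD3_c36)) = (LP (LK LD1_c3 LD2_c28 LD3_c0)) :=
  Lre_e IH (LK LD1_c1 LD2_c40 LD3_c36) (LK LD1_c3 LD2_c28 LD3_c0) Lrfl Lrfl
theorem f511259 : Led Lsl_gf (LP (LK LD1_c3 LD2_c34 LD3_c20)) = K32.v2252 :=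
  Lgr Lrot141 (Lpe (K28.f466623 IH) (Lpe (K29.f479551 IH) (Lpe (K29.f455434 IH) (Lpe (K29.f446464 IH) (Lpr_et (f446475 IH) (Lpe (K29.f477587 IH) (Lpr_dt (K29.f10817 IH) (Lpe (K32.f489535 IH) (Lpe (K28.f446494 IH) (Lpr_et (K32.f511255 IH) (Lpn K32.v2252)))))))))))
theorem f659104 : Led Lsl_gt v2498 = K32.v2252 :=
  Lgr Lrot5 (Lpr_ft (f659103 IH) (Lpe (f659099 IH) (Lpr_gf (f511259 IH) (Lpn K32.v2252))))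
theorem f523627 : Led Lsl_df K33.v665 = v2498 :=
  Lgr Lrot18 (Lpr_at (K33.f519317 IH) (Lpqs (K33.f522179 IH) (Lpe (K33.f514780 IH) (Lpr_at (f523625 IH) (Lpn v2498)))))
theorem f128141 : Led Lsl_ct (LP (LK LD1_c0 LD2_c48 LD3_c29)) = (LP (LK LD1_c1 LD2_c43 LD3_c51)) :=
  Lre_c IH (LK LD1_c0 LD2_c48 LD3_c29) (LK LD1_c1 LD2_c43 LD3_c51) Lrfl Lrfl
theorem f429636 : Led Lsl_gt (LP (LK LD1_c1 LD2_c43 LD3_c51)) = (LP (LK LD1_c3 LD2_c34 LD3_c21)) :=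
  Lre_g IH (LK LD1_c1 LD2_c43 LD3_c51) (LK LD1_c3 LD2_c34 LD3_c21) Lrfl Lrfl
theorem f455855 : Led Lsl_ct (LP (LK LD1_c3 LD2_c34 LD3_c21)) = (LP (LK LD1_c7 LD2_c9 LD3_c52)) :=
  Lre_c IH (LK LD1_c3 LD2_c34 LD3_c21) (LK LD1_c7 LD2_c9 LD3_c52) Lrfl Lrfl
def v6647 : LQ := Led Lsl_et (LP (LK LD1_c3 LD2_c24 LD3_c60))
theorem f657454 : Led Lsl_et (LP (LK LD1_c3 LD2_c24 LD3_c60)) = v6647 :=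
  Lrfl
theorem f455303 : Led Lsl_et (LP (LK LD1_c3 LD2_c27 LD3_c60)) = (LP (LK LD1_c6 LD2_c58 LD3_c12)) :=
  Lre_e IH (LK LD1_c3 LD2_c27 LD3_c60) (LK LD1_c6 LD2_c58 LD3_c12) Lrfl Lrfl
theorem f657458 : Led Lsl_gf (LP (LK LD1_c7 LD2_c8 LD3_c57)) = v6647 :=
  Lgr Lrot141 (Lpe (K29.f479493 IH) (Lpe (K29.f479543 IH) (Lpe (K29.f455292 IH) (Lpe (K33.f455302 IH) (Lpr_et (f455303 IH) (Lpr_gt (K34.f487915 IH) (Lpr_dt (K33.f10527 IH) (Lpe (K34.f489549 IH) (Lpe (K33.f457472 IH) (Lpr_et (f657454 IH) (Lpn v6647)))))))))))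
theorem f10523 : Led Lsl_gt (LP (LK LD1_c3 LD2_c33 LD3_c57)) = (LP (LK LD1_c7 LD2_c6 LD3_c42)) :=
  Lre_g IH (LK LD1_c3 LD2_c33 LD3_c57) (LK LD1_c7 LD2_c6 LD3_c42) Lrfl Lrfl
theorem f10800 : Led Lsl_ft (LP (LK LD1_c1 LD2_c43 LD3_c10)) = (LP (LK LD1_c0 LD2_c48 LD3_c12)) :=
  Lre_f IH (LK LD1_c1 LD2_c43 LD3_c10) (LK LD1_c0 LD2_c48 LD3_c12) Lrfl Lrfl
theorem f514907 : Led Lsl_df (LP (LK LD1_c1 LD2_c43 LD3_c10)) = K33.v2352 :=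
  Lgr Lrot78 (Lpr_ft (f10800 IH) (Lpr_dt (K33.f10248 IH) (Lpr_ft (K33.f514905 IH) (Lpn K33.v2352))))
theorem f514908 : Led Lsl_ff (LP (LK LD1_c1 LD2_c43 LD3_c9)) = K33.v2352 :=
  Lgr Lrot3 (Lpr_ft (K33.f514905 IH) (Lpn K33.v2352))
theorem f10417 : Led Lsl_dt (LP (LK LD1_c1 LD2_c43 LD3_c9)) = (LP (LK LD1_c0 LD2_c48 LD3_c12)) :=
  Lre_d IH (LK LD1_c1 LD2_c43 LD3_c9) (LK LD1_c0 LD2_c48 LD3_c12) Lrfl Lrfl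
theorem f10457 : Led Lsl_ft (LP (LK LD1_c0 LD2_c48 LD3_c12)) = (LP (LK LD1_c1 LD2_c43 LD3_c10)) :=
  Lre_f IH (LK LD1_c0 LD2_c48 LD3_c12) (LK LD1_c1 LD2_c43 LD3_c10) Lrfl Lrfl
theorem f514912 : Led Lsl_dt (LP (LK LD1_c1 LD2_c43 LD3_c10)) = K33.v2352 :=
  Lgr Lrot60 (Lpe (f10457 IH) (Lpe (f10417 IH) (Lpr_ff (f514908 IH) (Lpn K33.v2352))))
theorem f10198 : Led Lsl_et (LP (LK LD1_c1 LD2_c43 LD3_c10)) = (LP (LK LD1_c1 LD2_c45 LD3_c4)) :=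
  Lgr Lrot123 (Lpe (K24.f10155 IH) (Lpr_ef (K0.f10196 IH) (Lpe (K29.f10141 IH) (Lpn (LP (LK LD1_c1 LD2_c45 LD3_c4))))))
theorem f10816 : Led Lsl_et (LP (LK LD1_c1 LD2_c45 LD3_c36)) = (LP (LK LD1_c0 LD2_c49 LD3_c26)) :=
  Lre_e IH (LK LD1_c1 LD2_c45 LD3_c36) (LK LD1_c0 LD2_c49 LD3_c26) Lrfl Lrfl
theorem f514916 : Led Lsl_gt (LP (LK LD1_c1 LD2_c43 LD3_c50)) = K33.v2352 :=
  Lgr Lrot139 (Lpe (K28.f128109 IH) (Lpr_gf (f511259 IH) (Lpe (K32.f511255 IH) (Lpr_dt (K28.f446494 IH) (Lpr_gf (K32.f489535 IH) (Lpe (K29.f10817 IH) (Lpr_et (f10816 IH) (Lpe (K29.f6618 IH) (Lpe (f10198 IH) (Lpr_dt (f514912 IH) (Lpn K33.v2352)))))))))))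
theorem f657459 : Led Lsl_ct K32.v2252 = v6647 :=
  Lgr Lrot8 (Lpe (f511259 IH) (Lpr_dt (K28.f128109 IH) (Lpr_gt (f514916 IH) (Lpe (f514907 IH) (Lpe (K29.f6379 IH) (Lpe (K3.f10513 IH) (Lpe (f10523 IH) (Lpe (K29.f10524 IH) (Lpr_gf (f657458 IH) (Lpn v6647))))))))))
theorem f488263 : Led Lsl_ef (LP (LK LD1_c7 LD2_c48 LD3_c3)) = (LP (LK LD1_c7 LD2_c3 LD3_c45)) :=
  Lgr Lrot88 (Lpr_et (K34.f488259 IH) (Lpn (LP (LK LD1_c7 LD2_c3 LD3_c45))))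
theorem f488265 : Led Lsl_ct (LP (LK LD1_c7 LD2_c8 LD3_c57)) = (LP (LK LD1_c7 LD2_c3 LD3_c45)) :=
  Lgr Lrot15 (Lpe (K29.f479493 IH) (Lpr_cf (K29.f479474 IH) (Lpr_ef (f488263 IH) (Lpn (LP (LK LD1_c7 LD2_c3 LD3_c45))))))
theorem f659105 : Led Lsl_dt (LP (LK LD1_c7 LD2_c9 LD3_c52)) = (LP (LK LD1_c7 LD2_c3 LD3_c45)) :=
  Lgr Lrot27 (Lpe (f455855 IH) (Lpe (f429636 IH) (Lpe (f128141 IH) (Lpr_gf (K33.f455852 IH) (Lpr_df (f523627 IH) (Lpr_gt (f659104 IH) (Lpr_ct (f657459 IH) (Lpe (f657458 IH) (Lpr_ct (f488265 IH) (Lpn (LP (LK LD1_c7 LD2_c3 LD3_c45))))))))))))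
theorem f659106 : Led Lsl_dt (LP (LK LD1_c7 LD2_c9 LD3_c52)) = (LP (LK LD1_c7 LD2_c3 LD3_c45)) :=
  Leop (Lpe (f659105 IH) (Lpn (LP (LK LD1_c7 LD2_c9 LD3_c52))))
theorem seed_408 : LEOK LG_d (LK LD1_c7 LD2_c9 LD3_c52) :=
  Leoe_d (LK LD1_c7 LD2_c9 LD3_c52) (f659106 IH)
def v6890 : LQ := Led Lsl_ft (LP (LK LD1_c3 LD2_c33 LD3_c16))
theorem f659266 : Led Lsl_ft (LP (LK LD1_c3 LD2_c33 LD3_c16)) = v6890 :=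
  Lrfl
theorem f107628 : Led Lsl_gt (LP (LK LD1_c3 LD2_c33 LD3_c16)) = (LP (LK LD1_c7 LD2_c7 LD3_c25)) :=
  Lre_g IH (LK LD1_c3 LD2_c33 LD3_c16) (LK LD1_c7 LD2_c7 LD3_c25) Lrfl Lrfl
theorem f107951 : Led Lsl_ct (LP (LK LD1_c3 LD2_c34 LD3_c34)) = (LP (LK LD1_c1 LD2_c44 LD3_c4)) :=
  Lre_c IH (LK LD1_c3 LD2_c34 LD3_c34) (LK LD1_c1 LD2_c44 LD3_c4) Lrfl Lrfl
theorem f160114 : Led Lsl_af (LP (LK LD1_c3 LD2_c34 LD3_c34)) = (LP (LK LD1_c3 LD2_c33 LD3_c16)) :=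
  Lgr Lrot68 (Lpr_ct (f107951 IH) (Lpr_at (K29.f160102 IH) (Lpr_ct (K3.f107605 IH) (Lpn (LP (LK LD1_c3 LD2_c33 LD3_c16))))))
theorem f160118 : Led Lsl_at (LP (LK LD1_c3 LD2_c34 LD3_c34)) = (LP (LK LD1_c3 LD2_c33 LD3_c16)) :=
  Lgr Lrot100 (Lpr_af (f160114 IH) (Lpn (LP (LK LD1_c3 LD2_c33 LD3_c16))))
theorem f160202 : Led Lsl_ft (LP (LK LD1_c7 LD2_c10 LD3_c17)) = (LP (LK LD1_c3 LD2_c34 LD3_c34)) :=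
  Lre_f IH (LK LD1_c7 LD2_c10 LD3_c17) (LK LD1_c3 LD2_c34 LD3_c34) Lrfl Lrfl
theorem f659267 : Led Lsl_af (LP (LK LD1_c7 LD2_c10 LD3_c17)) = v6890 :=
  Lgr Lrot45 (Lpr_ft (f160202 IH) (Lpr_at (f160118 IH) (Lpr_ft (f659266 IH) (Lpn v6890))))
theorem f659271 : Led Lsl_gt (LP (LK LD1_c7 LD2_c7 LD3_c25)) = (LP (LK LD1_c7 LD2_c10 LD3_c17)) :=
  Lgr Lrot46 (Lpe (f107628 IH) (Lpr_ft (f659266 IH) (Lpe (f659267 IH) (Lpn (LP (LK LD1_c7 LD2_c10 LD3_c17))))))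
theorem f659272 : Led Lsl_gt (LP (LK LD1_c7 LD2_c7 LD3_c25)) = (LP (LK LD1_c7 LD2_c10 LD3_c17)) :=
  Leop (Lpe (f659271 IH) (Lpn (LP (LK LD1_c7 LD2_c7 LD3_c25))))
theorem seed_409 : LEOK LG_g (LK LD1_c7 LD2_c7 LD3_c25) :=
  Leoe_g (LK LD1_c7 LD2_c7 LD3_c25) (f659272 IH)
theorem f659270 : Led Lsl_ff (LP (LK LD1_c3 LD2_c33 LD3_c16)) = v6890 :=
  Lgr Lrot3 (Lpr_ft (f659266 IH) (Lpn v6890))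
theorem f160125 : Led Lsl_ft (LP (LK LD1_c3 LD2_c34 LD3_c34)) = (LP (LK LD1_c7 LD2_c10 LD3_c17)) :=
  Lre_f IH (LK LD1_c3 LD2_c34 LD3_c34) (LK LD1_c7 LD2_c10 LD3_c17) Lrfl Lrfl
theorem f659274 : Led Lsl_at (LP (LK LD1_c7 LD2_c10 LD3_c17)) = v6890 :=
  Lgr Lrot66 (Lpe (f160125 IH) (Lpr_af (f160114 IH) (Lpr_ff (f659270 IH) (Lpn v6890))))
theorem f107964 : Led Lsl_gt (LP (LK LD1_c3 LD2_c34 LD3_c34)) = (LP (LK LD1_c7 LD2_c10 LD3_c15)) :=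
  Lre_g IH (LK LD1_c3 LD2_c34 LD3_c34) (LK LD1_c7 LD2_c10 LD3_c15) Lrfl Lrfl
theorem f659277 : Led Lsl_gt (LP (LK LD1_c7 LD2_c10 LD3_c15)) = v6890 :=
  Lgr Lrot46 (Lpe (f107964 IH) (Lpr_ft (f160125 IH) (Lpr_at (f659274 IH) (Lpn v6890))))
def v2356 : LQ := Led Lsl_ft (LP (LK LD1_c1 LD2_c43 LD3_c21))
theorem f514944 : Led Lsl_ft (LP (LK LD1_c1 LD2_c43 LD3_c21)) = v2356 :=
  Lrfl
theorem f514948 : Led Lsl_ff (LP (LK LD1_c1 LD2_c43 LD3_c21)) = v2356 :=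
  Lgr Lrot3 (Lpr_ft (f514944 IH) (Lpn v2356))
theorem f659268 : Led Lsl_cf v2356 = v6890 :=
  Lgr Lrot108 (Lpe (f514948 IH) (Lpr_ct (K3.f107605 IH) (Lpr_ft (f659266 IH) (Lpn v6890))))
theorem f514950 : Led Lsl_dt (LP (LK LD1_c1 LD2_c43 LD3_c22)) = v2356 :=
  Lgr Lrot60 (Lpe (K29.f160433 IH) (Lpe (K29.f11581 IH) (Lpr_ff (f514948 IH) (Lpn v2356))))
theorem f86842 : Led Lsl_gt (LP (LK LD1_c3 LD2_c38 LD3_c7)) = (LP (LK LD1_c7 LD2_c16 LD3_c38)) :=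
  Lre_g IH (LK LD1_c3 LD2_c38 LD3_c7) (LK LD1_c7 LD2_c16 LD3_c38) Lrfl Lrfl
theorem f659278 : Led Lsl_cf (LP (LK LD1_c7 LD2_c10 LD3_c15)) = (LP (LK LD1_c7 LD2_c16 LD3_c38)) :=
  Lgr Lrot169 (Lpr_gt (f659277 IH) (Lpe (f659268 IH) (Lpe (f514950 IH) (Lpe (K28.f11684 IH) (Lpe (K28.f160431 IH) (Lpr_cf (K34.f471930 IH) (Lpe (K34.f97336 IH) (Lpe (K3.f86835 IH) (Lpr_gt (f86842 IH) (Lpn (LP (LK LD1_c7 LD2_c16 LD3_c38))))))))))))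
theorem f659279 : Led Lsl_ct (LP (LK LD1_c7 LD2_c16 LD3_c38)) = (LP (LK LD1_c7 LD2_c10 LD3_c15)) :=
  Leop (Lpr_cf (f659278 IH) (Lpn (LP (LK LD1_c7 LD2_c16 LD3_c38))))
theorem seed_410 : LEOK LG_c (LK LD1_c7 LD2_c16 LD3_c38) :=
  Leoe_c (LK LD1_c7 LD2_c16 LD3_c38) (f659279 IH)
theorem f160116 : Led Lsl_ct (LP (LK LD1_c3 LD2_c33 LD3_c16)) = (LP (LK LD1_c1 LD2_c43 LD3_c21)) :=
  Lre_c IH (LK LD1_c3 LD2_c33 LD3_c16) (LK LD1_c1 LD2_c43 LD3_c21) Lrfl Lrfl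
theorem f659275 : Led Lsl_ct v2356 = v6890 :=
  Lgr Lrot40 (Lpe (f514944 IH) (Lpe (f160116 IH) (Lpr_ff (f659270 IH) (Lpn v6890))))
def v6884 : LQ := Led Lsl_ft (LP (LK LD1_c3 LD2_c33 LD3_c1))
theorem f659220 : Led Lsl_ft (LP (LK LD1_c3 LD2_c33 LD3_c1)) = v6884 :=
  Lrfl
theorem f659224 : Led Lsl_ff (LP (LK LD1_c3 LD2_c33 LD3_c1)) = v6884 :=
  Lgr Lrot3 (Lpr_ft (f659220 IH) (Lpn v6884))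
theorem f659225 : Led Lsl_bt v2356 = v6884 :=
  Lgr Lrot35 (Lpe (f514944 IH) (Lpe (K3.f107588 IH) (Lpr_ff (f659224 IH) (Lpn v6884))))
theorem f107088 : Led Lsl_at (LP (LK LD1_c3 LD2_c13 LD3_c32)) = (LP (LK LD1_c1 LD2_c45 LD3_c59)) :=
  Lgr Lrot100 (Lpr_af (K3.f107076 IH) (Lpn (LP (LK LD1_c1 LD2_c45 LD3_c59))))
theorem f95922 : Led Lsl_et (LP (LK LD1_c6 LD2_c30 LD3_c43)) = (LP (LK LD1_c3 LD2_c13 LD3_c32)) :=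
  Lre_e IH (LK LD1_c6 LD2_c30 LD3_c43) (LK LD1_c3 LD2_c13 LD3_c32) Lrfl Lrfl
theorem f107586 : Led Lsl_af (LP (LK LD1_c6 LD2_c30 LD3_c43)) = (LP (LK LD1_c3 LD2_c33 LD3_c1)) :=
  Lgr Lrot50 (Lpr_et (f95922 IH) (Lpr_at (f107088 IH) (Lpr_et (K3.f107572 IH) (Lpn (LP (LK LD1_c3 LD2_c33 LD3_c1))))))
def v3519 : LQ := Led Lsl_bt K34.v906
theorem f626076 : Led Lsl_bt K34.v906 = v3519 :=
  Lrfl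
theorem f532601 : Led Lsl_dt (LP (LK LD1_c3 LD2_c39 LD3_c11)) = K34.v906 :=
  Lgr Lrot6 (Lpr_gt (K34.f455687 IH) (Lpr_ct (K30.f455689 IH) (Lpr_gt (K34.f455949 IH) (Lpr_ct (K34.f527351 IH) (Lpe (K34.f527355 IH) (Lpr_cf (K34.f532593 IH) (Lpe (K34.f17195 IH) (Lpe (K34.f17269 IH) (Lpr_gf (K34.f490380 IH) (Lpn K34.v906))))))))))
theorem f626078 : Led Lsl_df (LP (LK LD1_c7 LD2_c11 LD3_c55)) = v3519 :=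
  Lgr Lrot12 (Lpe (K34.f532646 IH) (Lpr_dt (f532601 IH) (Lpr_bt (f626076 IH) (Lpn v3519))))
theorem f626079 : Led Lsl_dt (LP (LK LD1_c7 LD2_c11 LD3_c55)) = v3519 :=
  Lgr Lrot42 (Lpr_df (f626078 IH) (Lpn v3519))
theorem f438028 : Led Lsl_et (LP (LK LD1_c7 LD2_c11 LD3_c55)) = (LP (LK LD1_c3 LD2_c35 LD3_c32)) :=
  Lre_e IH (LK LD1_c7 LD2_c11 LD3_c55) (LK LD1_c3 LD2_c35 LD3_c32) Lrfl Lrfl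
theorem f626080 : Led Lsl_gf (LP (LK LD1_c6 LD2_c30 LD3_c43)) = v3519 :=
  Lgr Lrot145 (Lpe (K4.f95835 IH) (Lpr_et (K4.f95840 IH) (Lpr_gt (K6.f142692 IH) (Lpr_dt (K6.f142714 IH) (Lpr_gt (K6.f21159 IH) (Lpe (K4.f21167 IH) (Lpr_et (K4.f87520 IH) (Lpr_gt (K33.f106211 IH) (Lpe (f438028 IH) (Lpr_dt (f626079 IH) (Lpn v3519)))))))))))
theorem f659228 : Led Lsl_gf v3519 = v6884 :=
  Lgr Lrot47 (Lpe (f626080 IH) (Lpr_af (f107586 IH) (Lpr_ff (f659224 IH) (Lpn v6884))))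
theorem f659226 : Led Lsl_dt (LP (LK LD1_c3 LD2_c33 LD3_c2)) = v6884 :=
  Lgr Lrot60 (Lpe (K8.f11668 IH) (Lpe (K3.f11674 IH) (Lpr_ff (f659224 IH) (Lpn v6884))))
theorem f142944 : Led Lsl_ct (LP (LK LD1_c3 LD2_c42 LD3_c46)) = (LP (LK LD1_c1 LD2_c48 LD3_c22)) :=
  Lre_c IH (LK LD1_c3 LD2_c42 LD3_c46) (LK LD1_c1 LD2_c48 LD3_c22) Lrfl Lrfl
theorem f142952 : Led Lsl_gt (LP (LK LD1_c7 LD2_c26 LD3_c10)) = (LP (LK LD1_c3 LD2_c42 LD3_c46)) :=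
  Lre_g IH (LK LD1_c7 LD2_c26 LD3_c10) (LK LD1_c3 LD2_c42 LD3_c46) Lrfl Lrfl
theorem f659229 : Led Lsl_ct v3519 = (LP (LK LD1_c7 LD2_c26 LD3_c10)) :=
  Lgr Lrot152 (Lpr_gf (f659228 IH) (Lpe (f659226 IH) (Lpr_gt (K34.f471922 IH) (Lpr_ct (K29.f471174 IH) (Lpr_gt (K29.f203948 IH) (Lpr_ct (K28.f142382 IH) (Lpe (K34.f124277 IH) (Lpe (f142944 IH) (Lpe (f142952 IH) (Lpn (LP (LK LD1_c7 LD2_c26 LD3_c10))))))))))))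
theorem f142953 : Led Lsl_ct (LP (LK LD1_c1 LD2_c48 LD3_c22)) = (LP (LK LD1_c3 LD2_c42 LD3_c46)) :=
  Lre_c IH (LK LD1_c1 LD2_c48 LD3_c22) (LK LD1_c3 LD2_c42 LD3_c46) Lrfl Lrfl
theorem f659280 : Led Lsl_bt (LP (LK LD1_c7 LD2_c16 LD3_c38)) = (LP (LK LD1_c7 LD2_c25 LD3_c35)) :=
  Lgr Lrot92 (Lpe (f659278 IH) (Lpr_gt (f659277 IH) (Lpe (f659275 IH) (Lpr_bt (f659225 IH) (Lpe (f659228 IH) (Lpr_ct (f659229 IH) (Lpr_gt (f142952 IH) (Lpe (f142953 IH) (Lpr_bt (K35.f203899 IH) (Lpr_gt (K34.f440584 IH) (Lpn (LP (LK LD1_c7 LD2_c25 LD3_c35)))))))))))))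
theorem f659281 : Led Lsl_bt (LP (LK LD1_c7 LD2_c16 LD3_c38)) = (LP (LK LD1_c7 LD2_c25 LD3_c35)) :=
  Leop (Lpe (f659280 IH) (Lpn (LP (LK LD1_c7 LD2_c16 LD3_c38))))
theorem seed_411 : LEOK LG_b (LK LD1_c7 LD2_c16 LD3_c38) :=
  Leoe_b (LK LD1_c7 LD2_c16 LD3_c38) (f659281 IH)
def v6926 : LQ := Led Lsl_gf (LP (LK LD1_c3 LD2_c34 LD3_c39))
theorem f659484 : Led Lsl_gf (LP (LK LD1_c3 LD2_c34 LD3_c39)) = v6926 :=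
  Lrfl
theorem f439482 : Led Lsl_ct (LP (LK LD1_c13 LD2_c47 LD3_c27)) = (LP (LK LD1_c7 LD2_c17 LD3_c23)) :=
  Lre_c IH (LK LD1_c13 LD2_c47 LD3_c27) (LK LD1_c7 LD2_c17 LD3_c23) Lrfl Lrfl
theorem f92303 : Led Lsl_dt (LP (LK LD1_c1 LD2_c42 LD3_c47)) = (LP (LK LD1_c3 LD2_c32 LD3_c11)) :=
  Lre_d IH (LK LD1_c1 LD2_c42 LD3_c47) (LK LD1_c3 LD2_c32 LD3_c11) Lrfl Lrfl
theorem f106662 : Led Lsl_et (LP (LK LD1_c3 LD2_c34 LD3_c39)) = (LP (LK LD1_c1 LD2_c44 LD3_c5)) :=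
  Lre_e IH (LK LD1_c3 LD2_c34 LD3_c39) (LK LD1_c1 LD2_c44 LD3_c5) Lrfl Lrfl
theorem f106768 : Led Lsl_et (LP (LK LD1_c1 LD2_c42 LD3_c49)) = (LP (LK LD1_c3 LD2_c32 LD3_c11)) :=
  Lre_e IH (LK LD1_c1 LD2_c42 LD3_c49) (LK LD1_c3 LD2_c32 LD3_c11) Lrfl Lrfl
theorem f107792 : Led Lsl_cf (LP (LK LD1_c3 LD2_c34 LD3_c39)) = (LP (LK LD1_c3 LD2_c32 LD3_c11)) :=
  Lgr Lrot39 (Lpr_et (f106662 IH) (Lpr_ct (K3.f107790 IH) (Lpr_et (f106768 IH) (Lpn (LP (LK LD1_c3 LD2_c32 LD3_c11))))))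
theorem f106663 : Led Lsl_dt (LP (LK LD1_c3 LD2_c34 LD3_c39)) = (LP (LK LD1_c7 LD2_c10 LD3_c26)) :=
  Lre_d IH (LK LD1_c3 LD2_c34 LD3_c39) (LK LD1_c7 LD2_c10 LD3_c26) Lrfl Lrfl
theorem f121776 : Led Lsl_ct (LP (LK LD1_c7 LD2_c10 LD3_c26)) = (LP (LK LD1_c13 LD2_c35 LD3_c11)) :=
  Lre_c IH (LK LD1_c7 LD2_c10 LD3_c26) (LK LD1_c13 LD2_c35 LD3_c11) Lrfl Lrfl
theorem f439495 : Led Lsl_df (LP (LK LD1_c13 LD2_c47 LD3_c27)) = (LP (LK LD1_c13 LD2_c35 LD3_c11)) :=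
  Lgr Lrot177 (Lpr_ct (f439482 IH) (Lpr_af (K43.f439484 IH) (Lpe (K43.f92314 IH) (Lpr_dt (K43.f92307 IH) (Lpr_ct (K2.f92292 IH) (Lpr_dt (f92303 IH) (Lpe (f107792 IH) (Lpr_dt (f106663 IH) (Lpr_ct (f121776 IH) (Lpn (LP (LK LD1_c13 LD2_c35 LD3_c11))))))))))))
theorem f439498 : Led Lsl_dt (LP (LK LD1_c13 LD2_c47 LD3_c27)) = (LP (LK LD1_c13 LD2_c35 LD3_c11)) :=
  Lgr Lrot42 (Lpr_df (f439495 IH) (Lpn (LP (LK LD1_c13 LD2_c35 LD3_c11))))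
theorem f92334 : Led Lsl_ct (LP (LK LD1_c3 LD2_c39 LD3_c24)) = (LP (LK LD1_c7 LD2_c19 LD3_c2)) :=
  Lre_c IH (LK LD1_c3 LD2_c39 LD3_c24) (LK LD1_c7 LD2_c19 LD3_c2) Lrfl Lrfl
theorem f439503 : Led Lsl_ct (LP (LK LD1_c13 LD2_c35 LD3_c11)) = (LP (LK LD1_c7 LD2_c10 LD3_c26)) :=
  Lre_c IH (LK LD1_c13 LD2_c35 LD3_c11) (LK LD1_c7 LD2_c10 LD3_c26) Lrfl Lrfl
theorem f439504 : Led Lsl_dt (LP (LK LD1_c7 LD2_c10 LD3_c26)) = (LP (LK LD1_c3 LD2_c34 LD3_c39)) :=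
  Lre_d IH (LK LD1_c7 LD2_c10 LD3_c26) (LK LD1_c3 LD2_c34 LD3_c39) Lrfl Lrfl
theorem f439505 : Led Lsl_cf (LP (LK LD1_c3 LD2_c32 LD3_c11)) = (LP (LK LD1_c3 LD2_c34 LD3_c39)) :=
  Lgr Lrot116 (Lpr_dt (K4.f92315 IH) (Lpe (K28.f92305 IH) (Lpr_dt (K35.f5803 IH) (Lpr_ct (f92334 IH) (Lpe (K43.f439466 IH) (Lpe (K43.f439476 IH) (Lpr_dt (f439498 IH) (Lpr_ct (f439503 IH) (Lpr_dt (f439504 IH) (Lpn (LP (LK LD1_c3 LD2_c34 LD3_c39))))))))))))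
def v2418 : LQ := Led Lsl_dt (LP (LK LD1_c1 LD2_c44 LD3_c59))
theorem f519589 : Led Lsl_dt (LP (LK LD1_c1 LD2_c44 LD3_c59)) = v2418 :=
  Lrfl
theorem f108005 : Led Lsl_ft (LP (LK LD1_c0 LD2_c21 LD3_c38)) = (LP (LK LD1_c0 LD2_c22 LD3_c6)) :=
  Lgr Lrot54 (Lpr_df (K5.f98604 IH) (Lpr_ff (K3.f107999 IH) (Lpr_df (K2.f92512 IH) (Lpn (LP (LK LD1_c0 LD2_c22 LD3_c6))))))
theorem f10822 : Led Lsl_et (LP (LK LD1_c0 LD2_c48 LD3_c19)) = (LP (LK LD1_c0 LD2_c21 LD3_c38)) :=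
  Lre_e IH (LK LD1_c0 LD2_c48 LD3_c19) (LK LD1_c0 LD2_c21 LD3_c38) Lrfl Lrfl
theorem f456842 : Led Lsl_ef (LP (LK LD1_c1 LD2_c43 LD3_c22)) = K24.v702 :=
  Lgr Lrot21 (Lpr_ft (K29.f160105 IH) (Lpr_et (f10822 IH) (Lpr_ft (f108005 IH) (Lpr_et (K28.f92524 IH) (Lpr_ft (K24.f456839 IH) (Lpn K24.v702))))))
theorem f519594 : Led Lsl_gf K33.v2342 = v2418 :=
  Lgr Lrot134 (Lpe (K33.f514738 IH) (Lpe (K33.f490389 IH) (Lpq (K28.f465133 IH) (Lpe (K28.f456851 IH) (Lpr_ef (f456842 IH) (Lpe (K28.f456841 IH) (Lpr_gt (K24.f441675 IH) (Lpr_df (K28.f128110 IH) (Lpr_et (K28.f108433 IH) (Lpe (K28.f108427 IH) (Lpr_dt (f519589 IH) (Lpn v2418))))))))))))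
theorem f659485 : Led Lsl_ct K33.v2342 = v6926 :=
  Lgr Lrot152 (Lpr_gf (f519594 IH) (Lpe (f519589 IH) (Lpr_gt (K34.f455812 IH) (Lpqs (K34.f460763 IH) (Lpr_ct (K28.f446511 IH) (Lpe (K28.f463582 IH) (Lpr_ct (K2.f92292 IH) (Lpe (K4.f92315 IH) (Lpr_cf (f439505 IH) (Lpr_gf (f659484 IH) (Lpn v6926)))))))))))
theorem f659487 : Led Lsl_gf (LP (LK LD1_c13 LD2_c27 LD3_c13)) = (LP (LK LD1_c7 LD2_c10 LD3_c26)) :=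
  Lgr Lrot154 (Lpr_dt (K33.f128160 IH) (Lpr_ct (K33.f128130 IH) (Lpe (K33.f108431 IH) (Lpe (K28.f106036 IH) (Lpe (K24.f98567 IH) (Lpr_gf (K33.f514737 IH) (Lpr_ct (f659485 IH) (Lpe (f659484 IH) (Lpr_dt (f106663 IH) (Lpn (LP (LK LD1_c7 LD2_c10 LD3_c26))))))))))))
theorem f659488 : Led Lsl_gt (LP (LK LD1_c7 LD2_c10 LD3_c26)) = (LP (LK LD1_c13 LD2_c27 LD3_c13)) :=
  Leop (Lpr_gf (f659487 IH) (Lpn (LP (LK LD1_c7 LD2_c10 LD3_c26))))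
theorem seed_412 : LEOK LG_g (LK LD1_c7 LD2_c10 LD3_c26) :=
  Leoe_g (LK LD1_c7 LD2_c10 LD3_c26) (f659488 IH)
def v6928 : LQ := Led Lsl_gt (LP (LK LD1_c3 LD2_c34 LD3_c43))
theorem f659497 : Led Lsl_gt (LP (LK LD1_c3 LD2_c34 LD3_c43)) = v6928 :=
  Lrfl
theorem f107846 : Led Lsl_bt (LP (LK LD1_c7 LD2_c10 LD3_c35)) = (LP (LK LD1_c3 LD2_c34 LD3_c43)) :=
  Lre_b IH (LK LD1_c7 LD2_c10 LD3_c35) (LK LD1_c3 LD2_c34 LD3_c43) Lrfl Lrfl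
theorem f107841 : Led Lsl_gf (LP (LK LD1_c1 LD2_c44 LD3_c3)) = (LP (LK LD1_c3 LD2_c32 LD3_c30)) :=
  Lgr Lrot172 (Lpr_ct (K3.f106437 IH) (Lpr_dt (K3.f107796 IH) (Lpe (K3.f94360 IH) (Lpe (K3.f94361 IH) (Lpr_cf (K2.f94368 IH) (Lpe (K5.f105932 IH) (Lpr_dt (K3.f17707 IH) (Lpe (K3.f106107 IH) (Lpe (K3.f106022 IH) (Lpn (LP (LK LD1_c3 LD2_c32 LD3_c30))))))))))))
theorem f106025 : Led Lsl_bt (LP (LK LD1_c0 LD2_c48 LD3_c37)) = (LP (LK LD1_c1 LD2_c44 LD3_c7)) :=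
  Lre_b IH (LK LD1_c0 LD2_c48 LD3_c37) (LK LD1_c1 LD2_c44 LD3_c7) Lrfl Lrfl
theorem f11904 : Led Lsl_gt (LP (LK LD1_c1 LD2_c44 LD3_c7)) = (LP (LK LD1_c3 LD2_c34 LD3_c43)) :=
  Lre_g IH (LK LD1_c1 LD2_c44 LD3_c7) (LK LD1_c3 LD2_c34 LD3_c43) Lrfl Lrfl
theorem f106067 : Led Lsl_bt (LP (LK LD1_c7 LD2_c5 LD3_c59)) = (LP (LK LD1_c3 LD2_c32 LD3_c30)) :=
  Lre_b IH (LK LD1_c7 LD2_c5 LD3_c59) (LK LD1_c3 LD2_c32 LD3_c30) Lrfl Lrfl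
theorem f106058 : Led Lsl_bt (LP (LK LD1_c3 LD2_c32 LD3_c30)) = (LP (LK LD1_c7 LD2_c5 LD3_c59)) :=
  Lre_b IH (LK LD1_c3 LD2_c32 LD3_c30) (LK LD1_c7 LD2_c5 LD3_c59) Lrfl Lrfl
theorem f85353 : Led Lsl_bt (LP (LK LD1_c3 LD2_c53 LD3_c41)) = (LP (LK LD1_c1 LD2_c53 LD3_c28)) :=
  Lre_b IH (LK LD1_c3 LD2_c53 LD3_c41) (LK LD1_c1 LD2_c53 LD3_c28) Lrfl Lrfl
theorem f106059 : Led Lsl_ct (LP (LK LD1_c7 LD2_c5 LD3_c59)) = (LP (LK LD1_c3 LD2_c53 LD3_c41)) :=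
  Lgr Lrot83 (Lpe (f106058 IH) (Lpr_cf (K3.f106022 IH) (Lpe (K3.f85315 IH) (Lpe (K11.f85325 IH) (Lpe (f85353 IH) (Lpn (LP (LK LD1_c3 LD2_c53 LD3_c41))))))))
theorem f85514 : Led Lsl_gt (LP (LK LD1_c7 LD2_c48 LD3_c56)) = (LP (LK LD1_c3 LD2_c53 LD3_c41)) :=
  Lre_g IH (LK LD1_c7 LD2_c48 LD3_c56) (LK LD1_c3 LD2_c53 LD3_c41) Lrfl Lrfl
theorem f107847 : Led Lsl_ct (LP (LK LD1_c7 LD2_c10 LD3_c35)) = (LP (LK LD1_c7 LD2_c48 LD3_c56)) :=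
  Lgr Lrot64 (Lpr_bt (f107846 IH) (Lpe (f11904 IH) (Lpe (f106025 IH) (Lpr_ct (K3.f19734 IH) (Lpe (K3.f94430 IH) (Lpe (K3.f106437 IH) (Lpr_gf (f107841 IH) (Lpe (f106067 IH) (Lpr_ct (f106059 IH) (Lpe (f85514 IH) (Lpn (LP (LK LD1_c7 LD2_c48 LD3_c56)))))))))))))
theorem f85392 : Led Lsl_bt (LP (LK LD1_c7 LD2_c48 LD3_c58)) = (LP (LK LD1_c3 LD2_c53 LD3_c42)) :=
  Lre_b IH (LK LD1_c7 LD2_c48 LD3_c58) (LK LD1_c3 LD2_c53 LD3_c42) Lrfl Lrfl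
theorem f85393 : Led Lsl_bt (LP (LK LD1_c6 LD2_c58 LD3_c53)) = (LP (LK LD1_c13 LD2_c15 LD3_c8)) :=
  Lre_b IH (LK LD1_c6 LD2_c58 LD3_c53) (LK LD1_c13 LD2_c15 LD3_c8) Lrfl Lrfl
theorem f85394 : Led Lsl_ff (LP (LK LD1_c7 LD2_c48 LD3_c58)) = (LP (LK LD1_c13 LD2_c15 LD3_c8)) :=
  Lgr Lrot25 (Lpr_bt (f85392 IH) (Lpr_ft (K11.f85385 IH) (Lpr_bt (f85393 IH) (Lpn (LP (LK LD1_c13 LD2_c15 LD3_c8))))))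
theorem f85481 : Led Lsl_dt (LP (LK LD1_c7 LD2_c48 LD3_c58)) = (LP (LK LD1_c3 LD2_c53 LD3_c41)) :=
  Lre_d IH (LK LD1_c7 LD2_c48 LD3_c58) (LK LD1_c3 LD2_c53 LD3_c41) Lrfl Lrfl
theorem f85482 : Led Lsl_dt (LP (LK LD1_c6 LD2_c58 LD3_c52)) = (LP (LK LD1_c13 LD2_c15 LD3_c8)) :=
  Lre_d IH (LK LD1_c6 LD2_c58 LD3_c52) (LK LD1_c13 LD2_c15 LD3_c8) Lrfl Lrfl
theorem f85483 : Led Lsl_ft (LP (LK LD1_c3 LD2_c53 LD3_c41)) = (LP (LK LD1_c6 LD2_c58 LD3_c52)) :=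
  Lgr Lrot54 (Lpe (f85481 IH) (Lpr_ff (f85394 IH) (Lpe (f85482 IH) (Lpn (LP (LK LD1_c6 LD2_c58 LD3_c52))))))
theorem f85487 : Led Lsl_at (LP (LK LD1_c7 LD2_c48 LD3_c57)) = (LP (LK LD1_c3 LD2_c53 LD3_c41)) :=
  Lre_a IH (LK LD1_c7 LD2_c48 LD3_c57) (LK LD1_c3 LD2_c53 LD3_c41) Lrfl Lrfl
theorem f85488 : Led Lsl_at (LP (LK LD1_c6 LD2_c58 LD3_c52)) = (LP (LK LD1_c13 LD2_c15 LD3_c7)) :=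
  Lre_a IH (LK LD1_c6 LD2_c58 LD3_c52) (LK LD1_c13 LD2_c15 LD3_c7) Lrfl Lrfl
theorem f85489 : Led Lsl_ff (LP (LK LD1_c7 LD2_c48 LD3_c57)) = (LP (LK LD1_c13 LD2_c15 LD3_c7)) :=
  Lgr Lrot30 (Lpr_at (f85487 IH) (Lpr_ft (f85483 IH) (Lpr_at (f85488 IH) (Lpn (LP (LK LD1_c13 LD2_c15 LD3_c7))))))
theorem f85515 : Led Lsl_gf (LP (LK LD1_c7 LD2_c48 LD3_c56)) = (LP (LK LD1_c13 LD2_c15 LD3_c7)) :=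
  Lgr Lrot47 (Lpr_gt (f85514 IH) (Lpe (f85487 IH) (Lpr_ff (f85489 IH) (Lpn (LP (LK LD1_c13 LD2_c15 LD3_c7))))))
theorem f106804 : Led Lsl_ft (LP (LK LD1_c3 LD2_c36 LD3_c14)) = (LP (LK LD1_c3 LD2_c32 LD3_c30)) :=
  Lgr Lrot4 (Lpr_cf (K3.f106777 IH) (Lpe (K3.f85340 IH) (Lpe (K3.f106061 IH) (Lpn (LP (LK LD1_c3 LD2_c32 LD3_c30))))))
theorem f106810 : Led Lsl_ff (LP (LK LD1_c3 LD2_c36 LD3_c14)) = (LP (LK LD1_c3 LD2_c32 LD3_c30)) :=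
  Lgr Lrot3 (Lpr_ft (f106804 IH) (Lpn (LP (LK LD1_c3 LD2_c32 LD3_c30))))
theorem f106799 : Led Lsl_bt (LP (LK LD1_c3 LD2_c36 LD3_c14)) = (LP (LK LD1_c7 LD2_c12 LD3_c49)) :=
  Lre_b IH (LK LD1_c3 LD2_c36 LD3_c14) (LK LD1_c7 LD2_c12 LD3_c49) Lrfl Lrfl
theorem f106812 : Led Lsl_ft (LP (LK LD1_c7 LD2_c12 LD3_c49)) = (LP (LK LD1_c7 LD2_c5 LD3_c59)) :=
  Lgr Lrot75 (Lpe (f106799 IH) (Lpr_ff (f106810 IH) (Lpe (f106067 IH) (Lpn (LP (LK LD1_c7 LD2_c5 LD3_c59))))))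
theorem f106818 : Led Lsl_cf (LP (LK LD1_c7 LD2_c12 LD3_c49)) = (LP (LK LD1_c6 LD2_c58 LD3_c52)) :=
  Lgr Lrot108 (Lpr_ft (f106812 IH) (Lpr_ct (f106059 IH) (Lpr_ft (f85483 IH) (Lpn (LP (LK LD1_c6 LD2_c58 LD3_c52))))))
theorem f106824 : Led Lsl_at (LP (LK LD1_c7 LD2_c12 LD3_c49)) = (LP (LK LD1_c13 LD2_c39 LD3_c15)) :=
  Lre_a IH (LK LD1_c7 LD2_c12 LD3_c49) (LK LD1_c13 LD2_c39 LD3_c15) Lrfl Lrfl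
theorem f85519 : Led Lsl_at (LP (LK LD1_c13 LD2_c15 LD3_c7)) = (LP (LK LD1_c6 LD2_c58 LD3_c52)) :=
  Lre_a IH (LK LD1_c13 LD2_c15 LD3_c7) (LK LD1_c6 LD2_c58 LD3_c52) Lrfl Lrfl
theorem f106825 : Led Lsl_ct (LP (LK LD1_c13 LD2_c39 LD3_c15)) = (LP (LK LD1_c13 LD2_c15 LD3_c7)) :=
  Lgr Lrot111 (Lpe (f106824 IH) (Lpr_cf (f106818 IH) (Lpe (f85519 IH) (Lpn (LP (LK LD1_c13 LD2_c15 LD3_c7))))))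
theorem f107844 : Led Lsl_af (LP (LK LD1_c3 LD2_c32 LD3_c31)) = (LP (LK LD1_c3 LD2_c36 LD3_c14)) :=
  Lgr Lrot31 (Lpe (K11.f107788 IH) (Lpr_gf (f107841 IH) (Lpe (f106810 IH) (Lpn (LP (LK LD1_c3 LD2_c36 LD3_c14))))))
theorem f107873 : Led Lsl_ct (LP (LK LD1_c3 LD2_c32 LD3_c31)) = (LP (LK LD1_c3 LD2_c35 LD3_c36)) :=
  Lgr Lrot111 (Lpr_af (f107844 IH) (Lpr_cf (K3.f106777 IH) (Lpr_af (K3.f19393 IH) (Lpn (LP (LK LD1_c3 LD2_c35 LD3_c36))))))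
theorem f107877 : Led Lsl_bt (LP (LK LD1_c7 LD2_c5 LD3_c60)) = (LP (LK LD1_c3 LD2_c32 LD3_c31)) :=
  Lre_b IH (LK LD1_c7 LD2_c5 LD3_c60) (LK LD1_c3 LD2_c32 LD3_c31) Lrfl Lrfl
theorem f106236 : Led Lsl_bt (LP (LK LD1_c3 LD2_c27 LD3_c55)) = (LP (LK LD1_c6 LD2_c57 LD3_c61)) :=
  Lre_b IH (LK LD1_c3 LD2_c27 LD3_c55) (LK LD1_c6 LD2_c57 LD3_c61) Lrfl Lrfl
theorem f107886 : Led Lsl_cf (LP (LK LD1_c7 LD2_c5 LD3_c60)) = (LP (LK LD1_c6 LD2_c57 LD3_c61)) :=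
  Lgr Lrot97 (Lpr_bt (f107877 IH) (Lpr_ct (f107873 IH) (Lpe (K2.f19399 IH) (Lpr_ct (K3.f106109 IH) (Lpr_bt (f106236 IH) (Lpn (LP (LK LD1_c6 LD2_c57 LD3_c61))))))))
theorem f107870 : Led Lsl_at (LP (LK LD1_c7 LD2_c5 LD3_c60)) = (LP (LK LD1_c13 LD2_c27 LD3_c23)) :=
  Lre_a IH (LK LD1_c7 LD2_c5 LD3_c60) (LK LD1_c13 LD2_c27 LD3_c23) Lrfl Lrfl
theorem f107897 : Led Lsl_at (LP (LK LD1_c13 LD2_c13 LD3_c39)) = (LP (LK LD1_c6 LD2_c57 LD3_c61)) :=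
  Lre_a IH (LK LD1_c13 LD2_c13 LD3_c39) (LK LD1_c6 LD2_c57 LD3_c61) Lrfl Lrfl
theorem f107898 : Led Lsl_ct (LP (LK LD1_c13 LD2_c27 LD3_c23)) = (LP (LK LD1_c13 LD2_c13 LD3_c39)) :=
  Lgr Lrot111 (Lpe (f107870 IH) (Lpr_cf (f107886 IH) (Lpe (f107897 IH) (Lpn (LP (LK LD1_c13 LD2_c13 LD3_c39))))))
theorem f85618 : Led Lsl_bt (LP (LK LD1_c6 LD2_c58 LD3_c57)) = (LP (LK LD1_c3 LD2_c28 LD3_c30)) :=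
  Lre_b IH (LK LD1_c6 LD2_c58 LD3_c57) (LK LD1_c3 LD2_c28 LD3_c30) Lrfl Lrfl
theorem f106247 : Led Lsl_at (LP (LK LD1_c13 LD2_c15 LD3_c12)) = (LP (LK LD1_c6 LD2_c58 LD3_c57)) :=
  Lre_a IH (LK LD1_c13 LD2_c15 LD3_c12) (LK LD1_c6 LD2_c58 LD3_c57) Lrfl Lrfl
theorem f106248 : Led Lsl_at (LP (LK LD1_c6 LD2_c57 LD3_c61)) = (LP (LK LD1_c13 LD2_c13 LD3_c39)) :=
  Lre_a IH (LK LD1_c6 LD2_c57 LD3_c61) (LK LD1_c13 LD2_c13 LD3_c39) Lrfl Lrfl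
theorem f106249 : Led Lsl_bf (LP (LK LD1_c13 LD2_c15 LD3_c12)) = (LP (LK LD1_c13 LD2_c13 LD3_c39)) :=
  Lgr Lrot81 (Lpr_at (f106247 IH) (Lpr_bt (f85618 IH) (Lpr_at (K3.f106240 IH) (Lpr_bt (f106236 IH) (Lpr_at (f106248 IH) (Lpn (LP (LK LD1_c13 LD2_c13 LD3_c39))))))))
theorem f85517 : Led Lsl_ct (LP (LK LD1_c13 LD2_c15 LD3_c12)) = (LP (LK LD1_c6 LD2_c59 LD3_c17)) :=
  Lre_c IH (LK LD1_c13 LD2_c15 LD3_c12) (LK LD1_c6 LD2_c59 LD3_c17) Lrfl Lrfl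
theorem f85503 : Led Lsl_bt (LP (LK LD1_c6 LD2_c59 LD3_c17)) = (LP (LK LD1_c13 LD2_c15 LD3_c7)) :=
  Lre_b IH (LK LD1_c6 LD2_c59 LD3_c17) (LK LD1_c13 LD2_c15 LD3_c7) Lrfl Lrfl
theorem f106828 : Led Lsl_cf (LP (LK LD1_c13 LD2_c39 LD3_c15)) = (LP (LK LD1_c13 LD2_c15 LD3_c7)) :=
  Lgr Lrot11 (Lpr_ct (f106825 IH) (Lpn (LP (LK LD1_c13 LD2_c15 LD3_c7))))
theorem f107934 : Led Lsl_bf (LP (LK LD1_c13 LD2_c27 LD3_c23)) = (LP (LK LD1_c13 LD2_c39 LD3_c15)) :=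
  Lgr Lrot90 (Lpr_ct (f107898 IH) (Lpe (f106249 IH) (Lpr_ct (f85517 IH) (Lpr_bt (f85503 IH) (Lpe (f106828 IH) (Lpn (LP (LK LD1_c13 LD2_c39 LD3_c15))))))))
theorem f106065 : Led Lsl_af (LP (LK LD1_c3 LD2_c32 LD3_c30)) = (LP (LK LD1_c3 LD2_c36 LD3_c13)) :=
  Lgr Lrot68 (Lpr_ct (K3.f106061 IH) (Lpe (K3.f105967 IH) (Lpr_ct (K5.f105984 IH) (Lpn (LP (LK LD1_c3 LD2_c36 LD3_c13))))))
theorem f107875 : Led Lsl_ft (LP (LK LD1_c3 LD2_c32 LD3_c31)) = (LP (LK LD1_c3 LD2_c36 LD3_c13)) :=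
  Lgr Lrot101 (Lpr_af (f107844 IH) (Lpr_ff (f106810 IH) (Lpr_af (f106065 IH) (Lpn (LP (LK LD1_c3 LD2_c36 LD3_c13))))))
theorem f105986 : Led Lsl_bt (LP (LK LD1_c3 LD2_c36 LD3_c13)) = (LP (LK LD1_c7 LD2_c12 LD3_c48)) :=
  Lre_b IH (LK LD1_c3 LD2_c36 LD3_c13) (LK LD1_c7 LD2_c12 LD3_c48) Lrfl Lrfl
theorem f107878 : Led Lsl_ff (LP (LK LD1_c7 LD2_c5 LD3_c60)) = (LP (LK LD1_c7 LD2_c12 LD3_c48)) :=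
  Lgr Lrot25 (Lpr_bt (f107877 IH) (Lpr_ft (f107875 IH) (Lpr_bt (f105986 IH) (Lpn (LP (LK LD1_c7 LD2_c12 LD3_c48))))))
theorem f106493 : Led Lsl_bt (LP (LK LD1_c1 LD2_c44 LD3_c7)) = (LP (LK LD1_c0 LD2_c48 LD3_c37)) :=
  Lre_b IH (LK LD1_c1 LD2_c44 LD3_c7) (LK LD1_c0 LD2_c48 LD3_c37) Lrfl Lrfl
theorem f107803 : Led Lsl_ct (LP (LK LD1_c1 LD2_c44 LD3_c7)) = (LP (LK LD1_c0 LD2_c48 LD3_c50)) :=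
  Lre_c IH (LK LD1_c1 LD2_c44 LD3_c7) (LK LD1_c0 LD2_c48 LD3_c50) Lrfl Lrfl
theorem f107804 : Led Lsl_gt (LP (LK LD1_c1 LD2_c44 LD3_c27)) = (LP (LK LD1_c0 LD2_c48 LD3_c50)) :=
  Lre_g IH (LK LD1_c1 LD2_c44 LD3_c27) (LK LD1_c0 LD2_c48 LD3_c50) Lrfl Lrfl
theorem f107805 : Led Lsl_ct (LP (LK LD1_c3 LD2_c35 LD3_c18)) = (LP (LK LD1_c1 LD2_c44 LD3_c27)) :=
  Lre_c IH (LK LD1_c3 LD2_c35 LD3_c18) (LK LD1_c1 LD2_c44 LD3_c27) Lrfl Lrfl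
theorem f107806 : Led Lsl_bt (LP (LK LD1_c3 LD2_c35 LD3_c18)) = (LP (LK LD1_c7 LD2_c11 LD3_c36)) :=
  Lre_b IH (LK LD1_c3 LD2_c35 LD3_c18) (LK LD1_c7 LD2_c11 LD3_c36) Lrfl Lrfl
theorem f107807 : Led Lsl_gf (LP (LK LD1_c7 LD2_c11 LD3_c36)) = (LP (LK LD1_c7 LD2_c12 LD3_c48)) :=
  Lgr Lrot124 (Lpe (f107806 IH) (Lpr_ct (f107805 IH) (Lpr_gt (f107804 IH) (Lpe (f107803 IH) (Lpr_bt (f106493 IH) (Lpr_gt (K3.f11485 IH) (Lpr_ct (K3.f107790 IH) (Lpr_gt (K3.f94370 IH) (Lpr_cf (K33.f105987 IH) (Lpr_bt (f105986 IH) (Lpn (LP (LK LD1_c7 LD2_c12 LD3_c48)))))))))))))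
theorem f107882 : Led Lsl_gf (LP (LK LD1_c13 LD2_c27 LD3_c23)) = (LP (LK LD1_c7 LD2_c11 LD3_c36)) :=
  Lgr Lrot76 (Lpe (f107870 IH) (Lpr_ff (f107878 IH) (Lpe (f107807 IH) (Lpn (LP (LK LD1_c7 LD2_c11 LD3_c36))))))
def v2399 : LQ := Led Lsl_gt (LP (LK LD1_c1 LD2_c44 LD3_c26))
theorem f519488 : Led Lsl_gt (LP (LK LD1_c1 LD2_c44 LD3_c26)) = v2399 :=
  Lrfl
theorem f10954 : Led Lsl_ft (LP (LK LD1_c0 LD2_c48 LD3_c50)) = (LP (LK LD1_c1 LD2_c44 LD3_c29)) :=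
  Lre_f IH (LK LD1_c0 LD2_c48 LD3_c50) (LK LD1_c1 LD2_c44 LD3_c29) Lrfl Lrfl
theorem f519489 : Led Lsl_at (LP (LK LD1_c1 LD2_c44 LD3_c29)) = v2399 :=
  Lgr Lrot26 (Lpe (f10954 IH) (Lpr_gt (f11482 IH) (Lpr_gt (f519488 IH) (Lpn v2399))))
theorem f10735 : Led Lsl_at (LP (LK LD1_c1 LD2_c44 LD3_c28)) = (LP (LK LD1_c0 LD2_c48 LD3_c50)) :=
  Lre_a IH (LK LD1_c1 LD2_c44 LD3_c28) (LK LD1_c0 LD2_c48 LD3_c50) Lrfl Lrfl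
theorem f519494 : Led Lsl_ff (LP (LK LD1_c1 LD2_c44 LD3_c28)) = v2399 :=
  Lgr Lrot30 (Lpr_at (f10735 IH) (Lpr_ft (f10954 IH) (Lpr_at (f519489 IH) (Lpn v2399))))
theorem f519496 : Led Lsl_gf (LP (LK LD1_c1 LD2_c44 LD3_c27)) = v2399 :=
  Lgr Lrot47 (Lpr_gt (f107804 IH) (Lpe (f10735 IH) (Lpr_ff (f519494 IH) (Lpn v2399))))
theorem f659501 : Led Lsl_cf v2399 = v6928 :=
  Lgr Lrot125 (Lpe (f519496 IH) (Lpe (f107805 IH) (Lpr_bt (f107806 IH) (Lpe (f107882 IH) (Lpr_bf (f107934 IH) (Lpr_ct (f106825 IH) (Lpe (f85515 IH) (Lpe (f107847 IH) (Lpr_bt (f107846 IH) (Lpr_gt (f659497 IH) (Lpn v6928)))))))))))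
theorem f10725 : Led Lsl_ct (LP (LK LD1_c1 LD2_c44 LD3_c28)) = (LP (LK LD1_c3 LD2_c34 LD3_c45)) :=
  Lre_c IH (LK LD1_c1 LD2_c44 LD3_c28) (LK LD1_c3 LD2_c34 LD3_c45) Lrfl Lrfl
theorem f659504 : Led Lsl_ft (LP (LK LD1_c3 LD2_c34 LD3_c45)) = v6928 :=
  Lgr Lrot4 (Lpe (f10725 IH) (Lpr_ff (f519494 IH) (Lpr_cf (f659501 IH) (Lpn v6928))))
theorem f659506 : Led Lsl_ff (LP (LK LD1_c3 LD2_c34 LD3_c45)) = v6928 :=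
  Lgr Lrot3 (Lpr_ft (f659504 IH) (Lpn v6928))
theorem f456800 : Led Lsl_at (LP (LK LD1_c3 LD2_c34 LD3_c45)) = (LP (LK LD1_c1 LD2_c44 LD3_c7)) :=
  Lre_a IH (LK LD1_c3 LD2_c34 LD3_c45) (LK LD1_c1 LD2_c44 LD3_c7) Lrfl Lrfl
theorem f106026 : Led Lsl_gt (LP (LK LD1_c3 LD2_c34 LD3_c44)) = (LP (LK LD1_c1 LD2_c44 LD3_c7)) :=
  Lre_g IH (LK LD1_c3 LD2_c34 LD3_c44) (LK LD1_c1 LD2_c44 LD3_c7) Lrfl Lrfl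
theorem f659507 : Led Lsl_gf (LP (LK LD1_c3 LD2_c34 LD3_c44)) = v6928 :=
  Lgr Lrot47 (Lpr_gt (f106026 IH) (Lpe (f456800 IH) (Lpr_ff (f659506 IH) (Lpn v6928))))
theorem f659499 : Led Lsl_ft (LP (LK LD1_c3 LD2_c34 LD3_c43)) = (LP (LK LD1_c7 LD2_c10 LD3_c38)) :=
  Lre_f IH (LK LD1_c3 LD2_c34 LD3_c43) (LK LD1_c7 LD2_c10 LD3_c38) Lrfl Lrfl
theorem f659508 : Led Lsl_af (LP (LK LD1_c3 LD2_c34 LD3_c44)) = (LP (LK LD1_c7 LD2_c10 LD3_c38)) :=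
  Lgr Lrot31 (Lpr_gf (f659507 IH) (Lpe (f659497 IH) (Lpr_ft (f659499 IH) (Lpn (LP (LK LD1_c7 LD2_c10 LD3_c38))))))
theorem f659509 : Led Lsl_at (LP (LK LD1_c7 LD2_c10 LD3_c38)) = (LP (LK LD1_c3 LD2_c34 LD3_c44)) :=
  Leop (Lpr_af (f659508 IH) (Lpn (LP (LK LD1_c7 LD2_c10 LD3_c38))))
theorem seed_413 : LEOK LG_a (LK LD1_c7 LD2_c10 LD3_c38) :=
  Leoe_a (LK LD1_c7 LD2_c10 LD3_c38) (f659509 IH)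
def v6948 : LQ := Led Lsl_ft (LP (LK LD1_c3 LD2_c35 LD3_c2))
theorem f659610 : Led Lsl_ft (LP (LK LD1_c3 LD2_c35 LD3_c2)) = v6948 :=
  Lrfl
theorem f659614 : Led Lsl_ff (LP (LK LD1_c3 LD2_c35 LD3_c2)) = v6948 :=
  Lgr Lrot3 (Lpr_ft (f659610 IH) (Lpn v6948))
theorem f659616 : Led Lsl_ct K33.v2395 = v6948 :=
  Lgr Lrot40 (Lpe (K33.f519468 IH) (Lpe (K46.f456053 IH) (Lpr_ff (f659614 IH) (Lpn v6948))))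
theorem f456056 : Led Lsl_bt (LP (LK LD1_c0 LD2_c48 LD3_c43)) = (LP (LK LD1_c1 LD2_c44 LD3_c18)) :=
  Lre_b IH (LK LD1_c0 LD2_c48 LD3_c43) (LK LD1_c1 LD2_c44 LD3_c18) Lrfl Lrfl
theorem f519469 : Led Lsl_bf K29.v687 = K33.v2395 :=
  Lgr Lrot61 (Lpe (K29.f456772 IH) (Lpr_bt (f456056 IH) (Lpr_ft (K33.f519468 IH) (Lpn K33.v2395))))
theorem f522671 : Led Lsl_ft K33.v908 = K34.v2366 :=
  Lgr Lrot48 (Lpr_ff (K34.f522669 IH) (Lpn K34.v2366))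
theorem f490391 : Led Lsl_bt (LP (LK LD1_c0 LD2_c54 LD3_c0)) = K33.v908 :=
  Lgr Lrot119 (Lpe (K24.f451210 IH) (Lpe (K28.f446551 IH) (Lpr_ef (K33.f490389 IH) (Lpn K33.v908))))
theorem f522672 : Led Lsl_bf K24.v608 = K34.v2366 :=
  Lgr Lrot61 (Lpr_ft (K24.f455486 IH) (Lpqs (K24.f457393 IH) (Lpr_bt (f490391 IH) (Lpr_ft (f522671 IH) (Lpn K34.v2366)))))
def v6731 : LQ := Led Lsl_bt (LP (LK LD1_c3 LD2_c28 LD3_c5))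
theorem f658105 : Led Lsl_bt (LP (LK LD1_c3 LD2_c28 LD3_c5)) = v6731 :=
  Lrfl
theorem f160612 : Led Lsl_ct (LP (LK LD1_c13 LD2_c40 LD3_c36)) = (LP (LK LD1_c7 LD2_c13 LD3_c33)) :=
  Lre_c IH (LK LD1_c13 LD2_c40 LD3_c36) (LK LD1_c7 LD2_c13 LD3_c33) Lrfl Lrfl
theorem f554208 : Led Lsl_cf (LP (LK LD1_c22 LD2_c53 LD3_c51)) = (LP (LK LD1_c13 LD2_c40 LD3_c38)) :=
  Lgr Lrot39 (Lpr_et (K39.f554206 IH) (Lpr_ct (f160612 IH) (Lpr_et (f470587 IH) (Lpn (LP (LK LD1_c13 LD2_c40 LD3_c38))))))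
theorem f456585 : Led Lsl_bt (LP (LK LD1_c7 LD2_c8 LD3_c48)) = (LP (LK LD1_c3 LD2_c33 LD3_c56)) :=
  Lre_b IH (LK LD1_c7 LD2_c8 LD3_c48) (LK LD1_c3 LD2_c33 LD3_c56) Lrfl Lrfl
theorem f658109 : Led Lsl_gt (LP (LK LD1_c3 LD2_c33 LD3_c56)) = v6731 :=
  Lgr Lrot164 (Lpe (f456585 IH) (Lpr_ct (K33.f456569 IH) (Lpe (K39.f456591 IH) (Lpr_cf (f554208 IH) (Lpe (f559024 IH) (Lpe (f455399 IH) (Lpr_ct (K42.f455398 IH) (Lpe (K28.f455146 IH) (Lpe (K34.f455149 IH) (Lpr_bt (f658105 IH) (Lpn v6731)))))))))))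
theorem f524530 : Led Lsl_af (LP (LK LD1_c3 LD2_c54 LD3_c1)) = (LP (LK LD1_c1 LD2_c53 LD3_c57)) :=
  Lgr Lrot0 (Lpr_at (K34.f524433 IH) (Lpn (LP (LK LD1_c1 LD2_c53 LD3_c57))))
theorem f527562 : Led Lsl_gf (LP (LK LD1_c3 LD2_c54 LD3_c1)) = K34.v919 :=
  Lgr Lrot76 (Lpr_af (f524530 IH) (Lpe (K34.f490236 IH) (Lpr_gt (K34.f527561 IH) (Lpn K34.v919))))
theorem f490527 : Led Lsl_bt K24.v241 = K34.v919 :=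
  Lgr Lrot119 (Lpe (K24.f451295 IH) (Lpe (K28.f451273 IH) (Lpr_ef (K34.f490525 IH) (Lpn K34.v919))))
theorem f451296 : Led Lsl_cf (LP (LK LD1_c0 LD2_c24 LD3_c23)) = K24.v241 :=
  Lgr Lrot39 (Lpr_et (K11.f11215 IH) (Lpr_ct (K24.f11197 IH) (Lpr_et (K24.f451295 IH) (Lpn K24.v241))))
theorem f479088 : Led Lsl_ct K29.v687 = K11.v243 :=
  Lgr Lrot59 (Lpr_cf (K29.f479087 IH) (Lpn K11.v243))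
theorem f658110 : Led Lsl_ct K34.v2366 = v6731 :=
  Lgr Lrot10 (Lpe (f522672 IH) (Lpe (K30.f479090 IH) (Lpr_ct (f479088 IH) (Lpr_gt (K11.f451342 IH) (Lpr_cf (f451296 IH) (Lpr_bt (f490527 IH) (Lpe (f527562 IH) (Lpr_bf (K35.f456564 IH) (Lpr_ct (K33.f456567 IH) (Lpr_gt (f658109 IH) (Lpn v6731)))))))))))
theorem f514597 : Led Lsl_df (LP (LK LD1_c1 LD2_c42 LD3_c8)) = K34.v2316 :=
  Lgr Lrot38 (Lpr_dt (K34.f514595 IH) (Lpn K34.v2316))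
theorem f18739 : Led Lsl_dt (LP (LK LD1_c7 LD2_c1 LD3_c55)) = (LP (LK LD1_c3 LD2_c30 LD3_c5)) :=
  Lre_d IH (LK LD1_c7 LD2_c1 LD3_c55) (LK LD1_c3 LD2_c30 LD3_c5) Lrfl Lrfl
theorem f659618 : Led Lsl_gf (LP (LK LD1_c3 LD2_c51 LD3_c7)) = v6948 :=
  Lgr Lrot148 (Lpr_dt (K2.f15299 IH) (Lpe (K2.f91730 IH) (Lpr_dt (f18739 IH) (Lpr_ct (K28.f18714 IH) (Lpr_df (f514597 IH) (Lpr_gf (K34.f531774 IH) (Lpe (K34.f531771 IH) (Lpr_gf (K34.f531766 IH) (Lpq (K34.f531775 IH) (Lpr_ct (f659616 IH) (Lpn v6948)))))))))))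
theorem f659619 : Led Lsl_gf (LP (LK LD1_c7 LD2_c8 LD3_c50)) = (LP (LK LD1_c7 LD2_c16 LD3_c37)) :=
  Lgr Lrot181 (Lpr_ct (K33.f456567 IH) (Lpr_gt (f658109 IH) (Lpe (f658110 IH) (Lpe (f522672 IH) (Lpe (K30.f479090 IH) (Lpr_bf (f519469 IH) (Lpr_ct (f659616 IH) (Lpe (f659618 IH) (Lpr_cf (K41.f471217 IH) (Lpe (K41.f471213 IH) (Lpn (LP (LK LD1_c7 LD2_c16 LD3_c37)))))))))))))
theorem f659620 : Led Lsl_gt (LP (LK LD1_c7 LD2_c16 LD3_c37)) = (LP (LK LD1_c7 LD2_c8 LD3_c50)) :=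
  Leop (Lpr_gf (f659619 IH) (Lpn (LP (LK LD1_c7 LD2_c16 LD3_c37))))
theorem seed_414 : LEOK LG_g (LK LD1_c7 LD2_c16 LD3_c37) :=
  Leoe_g (LK LD1_c7 LD2_c16 LD3_c37) (f659620 IH)
theorem f474018 : Led Lsl_at (LP (LK LD1_c3 LD2_c35 LD3_c2)) = (LP (LK LD1_c7 LD2_c11 LD3_c6)) :=
  Lre_a IH (LK LD1_c3 LD2_c35 LD3_c2) (LK LD1_c7 LD2_c11 LD3_c6) Lrfl Lrfl
theorem f659621 : Led Lsl_gt (LP (LK LD1_c3 LD2_c51 LD3_c7)) = (LP (LK LD1_c7 LD2_c11 LD3_c6)) :=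
  Lgr Lrot46 (Lpr_gf (f659618 IH) (Lpe (f659614 IH) (Lpr_at (f474018 IH) (Lpn (LP (LK LD1_c7 LD2_c11 LD3_c6))))))
theorem f659622 : Led Lsl_gt (LP (LK LD1_c3 LD2_c51 LD3_c7)) = (LP (LK LD1_c7 LD2_c11 LD3_c6)) :=
  Leop (Lpe (f659621 IH) (Lpn (LP (LK LD1_c3 LD2_c51 LD3_c7))))
theorem seed_415 : LEOK LG_g (LK LD1_c3 LD2_c51 LD3_c7) :=
  Leoe_g (LK LD1_c3 LD2_c51 LD3_c7) (f659622 IH)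
theorem f464832 : Led Lsl_gf (LP (LK LD1_c6 LD2_c57 LD3_c16)) = (LP (LK LD1_c3 LD2_c51 LD3_c59)) :=
  Lgr Lrot147 (Lpr_ct (K33.f461909 IH) (Lpr_gt (K29.f459901 IH) (Lpr_ct (K29.f64659 IH) (Lpe (K29.f62988 IH) (Lpe (K24.f451111 IH) (Lpr_gf (K24.f459896 IH) (Lpq (K24.f459919 IH) (Lpe (K5.f128079 IH) (Lpr_gf (K28.f463733 IH) (Lpr_df (K28.f464825 IH) (Lpn (LP (LK LD1_c3 LD2_c51 LD3_c59)))))))))))))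
theorem f530366 : Led Lsl_df (LP (LK LD1_c7 LD2_c2 LD3_c34)) = K34.v2682 :=
  Lgr Lrot155 (Lpr_gt (K29.f461383 IH) (Lpr_ct (K29.f443530 IH) (Lpr_gt (K29.f443529 IH) (Lpe (K29.f477271 IH) (Lpr_dt (K29.f461259 IH) (Lpe (K33.f461909 IH) (Lpr_gf (f464832 IH) (Lpe (K33.f63670 IH) (Lpr_gf (K34.f530360 IH) (Lpn K34.v2682))))))))))
theorem f487599 : Led Lsl_ff (LP (LK LD1_c7 LD2_c47 LD3_c45)) = (LP (LK LD1_c7 LD2_c2 LD3_c34)) :=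
  Lgr Lrot23 (Lpe (K29.f468592 IH) (Lpr_ft (K33.f487597 IH) (Lpr_ct (K29.f461384 IH) (Lpn (LP (LK LD1_c7 LD2_c2 LD3_c34))))))
theorem f530374 : Led Lsl_ft (LP (LK LD1_c3 LD2_c52 LD3_c58)) = K34.v2682 :=
  Lgr Lrot54 (Lpe (K29.f461512 IH) (Lpr_ff (f487599 IH) (Lpr_df (f530366 IH) (Lpn K34.v2682))))
theorem f659615 : Led Lsl_bt K34.v2682 = v6948 :=
  Lgr Lrot35 (Lpe (f530374 IH) (Lpe (K46.f473981 IH) (Lpr_ff (f659614 IH) (Lpn v6948))))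
theorem f446534 : Led Lsl_bt (LP (LK LD1_c3 LD2_c48 LD3_c4)) = (LP (LK LD1_c7 LD2_c37 LD3_c16)) :=
  Lre_b IH (LK LD1_c3 LD2_c48 LD3_c4) (LK LD1_c7 LD2_c37 LD3_c16) Lrfl Lrfl
def v2066 : LQ := Led Lsl_ft (LP (LK LD1_c1 LD2_c34 LD3_c39))
theorem f508659 : Led Lsl_ft (LP (LK LD1_c1 LD2_c34 LD3_c39)) = v2066 :=
  Lrfl
theorem f508662 : Led Lsl_ff (LP (LK LD1_c1 LD2_c34 LD3_c39)) = v2066 :=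
  Lgr Lrot3 (Lpr_ft (f508659 IH) (Lpn v2066))
theorem f508663 : Led Lsl_bt K29.v1136 = v2066 :=
  Lgr Lrot35 (Lpe (f491712 IH) (Lpe (K46.f65922 IH) (Lpr_ff (f508662 IH) (Lpn v2066))))
theorem f508600 : Led Lsl_at (LP (LK LD1_c1 LD2_c34 LD3_c39)) = K34.v2055 :=
  Lgr Lrot80 (Lpe (K29.f65931 IH) (Lpe (K3.f65846 IH) (Lpr_ef (K34.f508599 IH) (Lpn K34.v2055))))
def v2500 : LQ := Led Lsl_gf (LP (LK LD1_c1 LD2_c46 LD3_c49))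
theorem f523632 : Led Lsl_gf (LP (LK LD1_c1 LD2_c46 LD3_c49)) = v2500 :=
  Lrfl
theorem f528039 : v2066 = v2500 :=
  (Llr Lrot52 (Lpe (f508662 IH) (Lpr_at (f508600 IH) (Lpq (K34.f528007 IH) (Lpe (K34.f523631 IH) (Lpr_gf (f523632 IH) (Lpn v2500))))))).symm
theorem f511861 : Led Lsl_gt (LP (LK LD1_c1 LD2_c46 LD3_c50)) = (LP (LK LD1_c3 LD2_c32 LD3_c16)) :=
  Lgr Lrot131 (Lpe (K34.f511857 IH) (Lpr_dt (K34.f511821 IH) (Lpr_gf (K33.f511850 IH) (Lpe (K33.f94441 IH) (Lpe (K28.f94439 IH) (Lpe (K28.f94438 IH) (Lpr_dt (K3.f17503 IH) (Lpe (K3.f94420 IH) (Lpe (K3.f94419 IH) (Lpr_et (K3.f94440 IH) (Lpn (LP (LK LD1_c3 LD2_c32 LD3_c16)))))))))))))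
def v2630 : LQ := Led Lsl_bt (LP (LK LD1_c1 LD2_c50 LD3_c18))
theorem f529917 : Led Lsl_bt (LP (LK LD1_c1 LD2_c50 LD3_c18)) = v2630 :=
  Lrfl
theorem f529921 : Led Lsl_gt (LP (LK LD1_c3 LD2_c29 LD3_c17)) = v2630 :=
  Lgr Lrot164 (Lpe (K34.f120564 IH) (Lpr_ct (K34.f440975 IH) (Lpe (f511861 IH) (Lpe (K34.f450953 IH) (Lpr_gf (K33.f457041 IH) (Lpe (K33.f457039 IH) (Lpr_ct (K33.f522735 IH) (Lpe (K33.f522739 IH) (Lpr_cf (K33.f522740 IH) (Lpr_bt (f529917 IH) (Lpn v2630)))))))))))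
theorem f628186 : Led Lsl_cf (LP (LK LD1_c3 LD2_c26 LD3_c7)) = v2630 :=
  Lgr Lrot125 (Lpr_gt (K35.f628179 IH) (Lpe (K35.f628172 IH) (Lpr_bt (f508663 IH) (Lpqs (f528039 IH) (Lpe (f523632 IH) (Lpe (K34.f457062 IH) (Lpr_ct (K34.f450953 IH) (Lpr_gt (f511861 IH) (Lpe (K34.f440975 IH) (Lpr_bt (K34.f120564 IH) (Lpr_gt (f529921 IH) (Lpn v2630))))))))))))
theorem f628188 : Led Lsl_ct (LP (LK LD1_c3 LD2_c26 LD3_c7)) = v2630 :=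
  Lgr Lrot59 (Lpr_cf (f628186 IH) (Lpn v2630))
theorem f628187 : Led Lsl_bt (LP (LK LD1_c3 LD2_c26 LD3_c7)) = (LP (LK LD1_c6 LD2_c54 LD3_c7)) :=
  Lre_b IH (LK LD1_c3 LD2_c26 LD3_c7) (LK LD1_c6 LD2_c54 LD3_c7) Lrfl Lrfl
theorem f116647 : Led Lsl_bt (LP (LK LD1_c3 LD2_c24 LD3_c42)) = (LP (LK LD1_c6 LD2_c51 LD3_c53)) :=
  Lre_b IH (LK LD1_c3 LD2_c24 LD3_c42) (LK LD1_c6 LD2_c51 LD3_c53) Lrfl Lrfl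
theorem f628194 : Led Lsl_gt (LP (LK LD1_c6 LD2_c54 LD3_c7)) = (LP (LK LD1_c7 LD2_c0 LD3_c57)) :=
  Lgr Lrot82 (Lpe (f628187 IH) (Lpr_ct (f628188 IH) (Lpe (f529921 IH) (Lpr_cf (K34.f440973 IH) (Lpr_bt (f116647 IH) (Lpe (K43.f95406 IH) (Lpe (K43.f116652 IH) (Lpe (K43.f483285 IH) (Lpe (K43.f466992 IH) (Lpr_cf (K43.f467062 IH) (Lpn (LP (LK LD1_c7 LD2_c0 LD3_c57)))))))))))))
theorem f628183 : Led Lsl_bt (LP (LK LD1_c6 LD2_c54 LD3_c7)) = (LP (LK LD1_c3 LD2_c26 LD3_c7)) :=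
  Lre_b IH (LK LD1_c6 LD2_c54 LD3_c7) (LK LD1_c3 LD2_c26 LD3_c7) Lrfl Lrfl
theorem f529919 : Led Lsl_bf (LP (LK LD1_c1 LD2_c50 LD3_c18)) = v2630 :=
  Lgr Lrot24 (Lpr_bt (f529917 IH) (Lpn v2630))
theorem f628189 : Led Lsl_cf (LP (LK LD1_c6 LD2_c54 LD3_c7)) = (LP (LK LD1_c3 LD2_c39 LD3_c35)) :=
  Lgr Lrot97 (Lpr_bt (f628183 IH) (Lpr_ct (f628188 IH) (Lpe (f529919 IH) (Lpe (K33.f522740 IH) (Lpr_bt (f522742 IH) (Lpn (LP (LK LD1_c3 LD2_c39 LD3_c35))))))))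
theorem f94529 : Led Lsl_et (LP (LK LD1_c3 LD2_c39 LD3_c21)) = (LP (LK LD1_c7 LD2_c18 LD3_c56)) :=
  Lre_e IH (LK LD1_c3 LD2_c39 LD3_c21) (LK LD1_c7 LD2_c18 LD3_c56) Lrfl Lrfl
theorem f551683 : Led Lsl_gt (LP (LK LD1_c7 LD2_c18 LD3_c56)) = (LP (LK LD1_c3 LD2_c39 LD3_c35)) :=
  Lgr Lrot131 (Lpe (f94529 IH) (Lpe (K33.f522542 IH) (Lpr_gf (K39.f551676 IH) (Lpe (K44.f551670 IH) (Lpr_gf (K44.f162850 IH) (Lpe (K8.f155689 IH) (Lpr_dt (f155686 IH) (Lpr_gf (f488845 IH) (Lpr_df (f17577 IH) (Lpr_et (f17594 IH) (Lpn (LP (LK LD1_c3 LD2_c39 LD3_c35)))))))))))))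
theorem f4432 : Led Lsl_ct (LP (LK LD1_c23 LD2_c17 LD3_c47)) = (LP (LK LD1_c13 LD2_c49 LD3_c0)) :=
  Lre_c IH (LK LD1_c23 LD2_c17 LD3_c47) (LK LD1_c13 LD2_c49 LD3_c0) Lrfl Lrfl
theorem f5336 : Led Lsl_dt (LP (LK LD1_c1 LD2_c46 LD3_c45)) = (LP (LK LD1_c0 LD2_c50 LD3_c6)) :=
  Lre_d IH (LK LD1_c1 LD2_c46 LD3_c45) (LK LD1_c0 LD2_c50 LD3_c6) Lrfl Lrfl
theorem f5337 : Led Lsl_bt (LP (LK LD1_c1 LD2_c46 LD3_c19)) = (LP (LK LD1_c1 LD2_c46 LD3_c45)) :=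
  Lgr Lrot95 (Lpe (K29.f4124 IH) (Lpr_bf (K2.f5326 IH) (Lpe (f5336 IH) (Lpn (LP (LK LD1_c1 LD2_c46 LD3_c45))))))
theorem f5636 : Led Lsl_gt (LP (LK LD1_c1 LD2_c46 LD3_c45)) = (LP (LK LD1_c3 LD2_c39 LD3_c41)) :=
  Lre_g IH (LK LD1_c1 LD2_c46 LD3_c45) (LK LD1_c3 LD2_c39 LD3_c41) Lrfl Lrfl
theorem f5640 : Led Lsl_bt (LP (LK LD1_c7 LD2_c19 LD3_c33)) = (LP (LK LD1_c3 LD2_c39 LD3_c41)) :=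
  Lre_b IH (LK LD1_c7 LD2_c19 LD3_c33) (LK LD1_c3 LD2_c39 LD3_c41) Lrfl Lrfl
theorem f5641 : Led Lsl_ct (LP (LK LD1_c7 LD2_c19 LD3_c33)) = (LP (LK LD1_c13 LD2_c51 LD3_c25)) :=
  Lre_c IH (LK LD1_c7 LD2_c19 LD3_c33) (LK LD1_c13 LD2_c51 LD3_c25) Lrfl Lrfl
theorem f4433 : Led Lsl_ct (LP (LK LD1_c13 LD2_c49 LD3_c0)) = (LP (LK LD1_c23 LD2_c17 LD3_c47)) :=
  Lre_c IH (LK LD1_c13 LD2_c49 LD3_c0) (LK LD1_c23 LD2_c17 LD3_c47) Lrfl Lrfl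
theorem f481665 : Led Lsl_gt (LP (LK LD1_c13 LD2_c51 LD3_c25)) = (LP (LK LD1_c23 LD2_c17 LD3_c47)) :=
  Lgr Lrot65 (Lpe (f5641 IH) (Lpr_bt (f5640 IH) (Lpe (f5636 IH) (Lpe (f5337 IH) (Lpr_ct (K24.f4125 IH) (Lpe (K29.f4117 IH) (Lpr_cf (K30.f481626 IH) (Lpr_gf (K28.f4416 IH) (Lpe (K45.f4431 IH) (Lpr_ct (f4433 IH) (Lpn (LP (LK LD1_c23 LD2_c17 LD3_c47)))))))))))))
theorem f628203 : Led Lsl_gt (LP (LK LD1_c13 LD2_c50 LD3_c22)) = (LP (LK LD1_c7 LD2_c19 LD3_c33)) :=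
  Lgr Lrot9 (Lpe (K43.f94517 IH) (Lpr_gt (f551683 IH) (Lpe (f628189 IH) (Lpr_gt (f628194 IH) (Lpe (K43.f467062 IH) (Lpe (K43.f467054 IH) (Lpe (f4432 IH) (Lpe (f481665 IH) (Lpe (f5641 IH) (Lpn (LP (LK LD1_c7 LD2_c19 LD3_c33))))))))))))
theorem f427873 : Led Lsl_et (LP (LK LD1_c16 LD2_c29 LD3_c38)) = (LP (LK LD1_c8 LD2_c49 LD3_c12)) :=
  Lre_e IH (LK LD1_c16 LD2_c29 LD3_c38) (LK LD1_c8 LD2_c49 LD3_c12) Lrfl Lrfl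
theorem f567289 : Led Lsl_et (LP (LK LD1_c10 LD2_c17 LD3_c58)) = (LP (LK LD1_c13 LD2_c50 LD3_c22)) :=
  Lgr Lrot74 (Lpr_bf (K39.f427877 IH) (Lpe (f427873 IH) (Lpr_bf (K43.f567285 IH) (Lpn (LP (LK LD1_c13 LD2_c50 LD3_c22))))))
theorem f498826 : Led Lsl_et (LP (LK LD1_c12 LD2_c7 LD3_c24)) = (LP (LK LD1_c6 LD2_c14 LD3_c36)) :=
  Lre_e IH (LK LD1_c12 LD2_c7 LD3_c24) (LK LD1_c6 LD2_c14 LD3_c36) Lrfl Lrfl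
theorem f498720 : Led Lsl_dt (LP (LK LD1_c12 LD2_c7 LD3_c24)) = (LP (LK LD1_c6 LD2_c14 LD3_c34)) :=
  Lre_d IH (LK LD1_c12 LD2_c7 LD3_c24) (LK LD1_c6 LD2_c14 LD3_c34) Lrfl Lrfl
theorem f498777 : Led Lsl_gt (LP (LK LD1_c12 LD2_c7 LD3_c23)) = (LP (LK LD1_c6 LD2_c14 LD3_c34)) :=
  Lre_g IH (LK LD1_c12 LD2_c7 LD3_c23) (LK LD1_c6 LD2_c14 LD3_c34) Lrfl Lrfl
theorem f628210 : Led Lsl_et (LP (LK LD1_c13 LD2_c51 LD3_c26)) = (LP (LK LD1_c7 LD2_c19 LD3_c33)) :=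
  Lre_e IH (LK LD1_c13 LD2_c51 LD3_c26) (LK LD1_c7 LD2_c19 LD3_c33) Lrfl Lrfl
theorem f628211 : Led Lsl_df (LP (LK LD1_c12 LD2_c7 LD3_c23)) = (LP (LK LD1_c13 LD2_c51 LD3_c26)) :=
  Lgr Lrot170 (Lpr_gt (f498777 IH) (Lpe (f498720 IH) (Lpr_et (f498826 IH) (Lpr_gt (K38.f546557 IH) (Lpr_dt (K38.f159186 IH) (Lpe (K39.f544452 IH) (Lpe (K32.f308494 IH) (Lpr_et (f567289 IH) (Lpr_gt (f628203 IH) (Lpe (f628210 IH) (Lpn (LP (LK LD1_c13 LD2_c51 LD3_c26)))))))))))))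
theorem f628217 : Led Lsl_dt (LP (LK LD1_c12 LD2_c7 LD3_c23)) = (LP (LK LD1_c13 LD2_c51 LD3_c26)) :=
  Lgr Lrot42 (Lpr_df (f628211 IH) (Lpn (LP (LK LD1_c13 LD2_c51 LD3_c26))))
theorem f628223 : Led Lsl_bt (LP (LK LD1_c13 LD2_c51 LD3_c26)) = (LP (LK LD1_c7 LD2_c19 LD3_c35)) :=
  Lre_b IH (LK LD1_c13 LD2_c51 LD3_c26) (LK LD1_c7 LD2_c19 LD3_c35) Lrfl Lrfl
theorem f574104 : Led Lsl_dt (LP (LK LD1_c7 LD2_c19 LD3_c35)) = (LP (LK LD1_c13 LD2_c51 LD3_c31)) :=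
  Lre_d IH (LK LD1_c7 LD2_c19 LD3_c35) (LK LD1_c13 LD2_c51 LD3_c31) Lrfl Lrfl
theorem f628224 : Led Lsl_bf (LP (LK LD1_c12 LD2_c7 LD3_c23)) = (LP (LK LD1_c13 LD2_c51 LD3_c31)) :=
  Lgr Lrot93 (Lpr_dt (f628217 IH) (Lpr_bt (f628223 IH) (Lpr_dt (f574104 IH) (Lpn (LP (LK LD1_c13 LD2_c51 LD3_c31))))))
theorem f628219 : Led Lsl_et (LP (LK LD1_c12 LD2_c7 LD3_c23)) = (LP (LK LD1_c21 LD2_c13 LD3_c33)) :=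
  Lre_e IH (LK LD1_c12 LD2_c7 LD3_c23) (LK LD1_c21 LD2_c13 LD3_c33) Lrfl Lrfl
theorem f574103 : Led Lsl_et (LP (LK LD1_c7 LD2_c19 LD3_c35)) = (LP (LK LD1_c3 LD2_c39 LD3_c41)) :=
  Lre_e IH (LK LD1_c7 LD2_c19 LD3_c35) (LK LD1_c3 LD2_c39 LD3_c41) Lrfl Lrfl
theorem f420402 : Led Lsl_dt (LP (LK LD1_c16 LD2_c28 LD3_c26)) = (LP (LK LD1_c8 LD2_c48 LD3_c18)) :=
  Lre_d IH (LK LD1_c16 LD2_c28 LD3_c26) (LK LD1_c8 LD2_c48 LD3_c18) Lrfl Lrfl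
theorem f574105 : Led Lsl_gt (LP (LK LD1_c13 LD2_c51 LD3_c31)) = (LP (LK LD1_c8 LD2_c48 LD3_c18)) :=
  Lgr Lrot112 (Lpe (f574104 IH) (Lpr_et (f574103 IH) (Lpe (f5636 IH) (Lpe (K24.f5504 IH) (Lpr_dt (K45.f5187 IH) (Lpe (K41.f5196 IH) (Lpe (K43.f5228 IH) (Lpr_gf (K43.f574097 IH) (Lpr_ef (K43.f420392 IH) (Lpr_dt (f420402 IH) (Lpn (LP (LK LD1_c8 LD2_c48 LD3_c18)))))))))))))
theorem f439431 : Led Lsl_at (LP (LK LD1_c3 LD2_c39 LD3_c29)) = (LP (LK LD1_c3 LD2_c38 LD3_c27)) :=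
  Lgr Lrot51 (Lpe (K29.f5704 IH) (Lpr_af (K28.f439424 IH) (Lpe (K28.f18035 IH) (Lpn (LP (LK LD1_c3 LD2_c38 LD3_c27))))))
theorem f565871 : Led Lsl_ef (LP (LK LD1_c3 LD2_c39 LD3_c29)) = (LP (LK LD1_c3 LD2_c3 LD3_c45)) :=
  Lgr Lrot20 (Lpr_at (f439431 IH) (Lpr_et (K41.f565869 IH) (Lpr_at (K42.f38204 IH) (Lpn (LP (LK LD1_c3 LD2_c3 LD3_c45))))))
theorem f455148 : Led Lsl_dt (LP (LK LD1_c6 LD2_c58 LD3_c24)) = (LP (LK LD1_c3 LD2_c28 LD3_c5)) :=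
  Lre_d IH (LK LD1_c6 LD2_c58 LD3_c24) (LK LD1_c3 LD2_c28 LD3_c5) Lrfl Lrfl
theorem f455169 : Led Lsl_gt (LP (LK LD1_c3 LD2_c28 LD3_c5)) = (LP (LK LD1_c6 LD2_c58 LD3_c23)) :=
  Lre_g IH (LK LD1_c3 LD2_c28 LD3_c5) (LK LD1_c6 LD2_c58 LD3_c23) Lrfl Lrfl
theorem f455250 : Led Lsl_ft (LP (LK LD1_c3 LD2_c28 LD3_c5)) = (LP (LK LD1_c3 LD2_c28 LD3_c3)) :=
  Lgr Lrot142 (Lpr_dt (K24.f455157 IH) (Lpr_ct (K24.f455158 IH) (Lpr_dt (K24.f455245 IH) (Lpr_ct (K24.f446460 IH) (Lpr_dt (K24.f446459 IH) (Lpr_ct (K24.f446458 IH) (Lpe (K24.f446441 IH) (Lpr_ct (K28.f446457 IH) (Lpe (K29.f446466 IH) (Lpn (LP (LK LD1_c3 LD2_c28 LD3_c3))))))))))))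
theorem f455428 : Led Lsl_gt (LP (LK LD1_c6 LD2_c58 LD3_c23)) = (LP (LK LD1_c6 LD2_c58 LD3_c12)) :=
  Lgr Lrot46 (Lpe (f455169 IH) (Lpr_ft (f455250 IH) (Lpr_at (K29.f446466 IH) (Lpn (LP (LK LD1_c6 LD2_c58 LD3_c12))))))
theorem f511158 : Led Lsl_df (LP (LK LD1_c6 LD2_c58 LD3_c23)) = (LP (LK LD1_c13 LD2_c4 LD3_c17)) :=
  Lgr Lrot155 (Lpr_gt (f455428 IH) (Lpr_ct (K29.f446467 IH) (Lpe (K29.f477587 IH) (Lpr_ct (K29.f467465 IH) (Lpr_dt (K29.f97087 IH) (Lpe (K33.f477591 IH) (Lpr_gf (K33.f511152 IH) (Lpe (K32.f464952 IH) (Lpe (K33.f488248 IH) (Lpn (LP (LK LD1_c13 LD2_c4 LD3_c17))))))))))))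
theorem f574115 : Led Lsl_ef (LP (LK LD1_c13 LD2_c51 LD3_c31)) = (LP (LK LD1_c13 LD2_c4 LD3_c17)) :=
  Lgr Lrot114 (Lpr_gt (f574105 IH) (Lpe (K43.f420391 IH) (Lpe (K36.f420388 IH) (Lpr_gt (K11.f80736 IH) (Lpe (K11.f38153 IH) (Lpe (f565871 IH) (Lpr_gt (K33.f470771 IH) (Lpr_dt (f455148 IH) (Lpr_gt (f455169 IH) (Lpr_df (f511158 IH) (Lpn (LP (LK LD1_c13 LD2_c4 LD3_c17)))))))))))))
theorem f628227 : Led Lsl_bt (LP (LK LD1_c21 LD2_c13 LD3_c33)) = (LP (LK LD1_c13 LD2_c4 LD3_c17)) :=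
  Lgr Lrot119 (Lpe (f628219 IH) (Lpr_bf (f628224 IH) (Lpr_ef (f574115 IH) (Lpn (LP (LK LD1_c13 LD2_c4 LD3_c17))))))
theorem f528157 : Led Lsl_af (LP (LK LD1_c3 LD2_c37 LD3_c12)) = (LP (LK LD1_c6 LD2_c58 LD3_c20)) :=
  Lgr Lrot68 (Lpr_ct (K33.f487852 IH) (Lpr_at (K35.f528153 IH) (Lpe (K29.f468088 IH) (Lpn (LP (LK LD1_c6 LD2_c58 LD3_c20))))))
theorem f455423 : Led Lsl_ct (LP (LK LD1_c13 LD2_c14 LD3_c10)) = (LP (LK LD1_c6 LD2_c58 LD3_c17)) :=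
  Lre_c IH (LK LD1_c13 LD2_c14 LD3_c10) (LK LD1_c6 LD2_c58 LD3_c17) Lrfl Lrfl
theorem f455247 : Led Lsl_df (LP (LK LD1_c13 LD2_c14 LD3_c18)) = (LP (LK LD1_c13 LD2_c14 LD3_c29)) :=
  Lgr Lrot38 (Lpr_dt (K24.f455245 IH) (Lpn (LP (LK LD1_c13 LD2_c14 LD3_c29))))
theorem f455284 : Led Lsl_ft (LP (LK LD1_c6 LD2_c58 LD3_c18)) = (LP (LK LD1_c6 LD2_c58 LD3_c35)) :=
  Lgr Lrot4 (Lpe (f455283 IH) (Lpr_ff (K24.f455264 IH) (Lpe (K46.f446482 IH) (Lpn (LP (LK LD1_c6 LD2_c58 LD3_c35))))))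
theorem f455403 : Led Lsl_gt (LP (LK LD1_c6 LD2_c58 LD3_c18)) = (LP (LK LD1_c13 LD2_c14 LD3_c12)) :=
  Lre_g IH (LK LD1_c6 LD2_c58 LD3_c18) (LK LD1_c13 LD2_c14 LD3_c12) Lrfl Lrfl
theorem f446477 : Led Lsl_at (LP (LK LD1_c6 LD2_c58 LD3_c35)) = (LP (LK LD1_c13 LD2_c14 LD3_c29)) :=
  Lre_a IH (LK LD1_c6 LD2_c58 LD3_c35) (LK LD1_c13 LD2_c14 LD3_c29) Lrfl Lrfl
theorem f455404 : Led Lsl_gt (LP (LK LD1_c13 LD2_c14 LD3_c12)) = (LP (LK LD1_c13 LD2_c14 LD3_c29)) :=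
  Lgr Lrot46 (Lpe (f455403 IH) (Lpr_ft (f455284 IH) (Lpr_at (f446477 IH) (Lpn (LP (LK LD1_c13 LD2_c14 LD3_c29))))))
theorem f511154 : Led Lsl_dt (LP (LK LD1_c13 LD2_c44 LD3_c4)) = (LP (LK LD1_c13 LD2_c14 LD3_c12)) :=
  Lgr Lrot57 (Lpr_gf (K33.f511152 IH) (Lpe (K32.f464952 IH) (Lpr_gt (K33.f470688 IH) (Lpr_dt (K33.f470690 IH) (Lpe (K33.f487917 IH) (Lpr_dt (K24.f455157 IH) (Lpe (K33.f455325 IH) (Lpr_df (f455247 IH) (Lpe (f455404 IH) (Lpn (LP (LK LD1_c13 LD2_c14 LD3_c12))))))))))))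
theorem f455421 : Led Lsl_ct (LP (LK LD1_c6 LD2_c58 LD3_c17)) = (LP (LK LD1_c13 LD2_c14 LD3_c10)) :=
  Lre_c IH (LK LD1_c6 LD2_c58 LD3_c17) (LK LD1_c13 LD2_c14 LD3_c10) Lrfl Lrfl
theorem f511164 : Led Lsl_df (LP (LK LD1_c22 LD2_c14 LD3_c38)) = (LP (LK LD1_c13 LD2_c14 LD3_c10)) :=
  Lgr Lrot162 (Lpe (K33.f457469 IH) (Lpe (K33.f457467 IH) (Lpe (K33.f457470 IH) (Lpr_gf (K33.f490114 IH) (Lpr_dt (f511154 IH) (Lpr_gt (f455404 IH) (Lpr_ct (K24.f446460 IH) (Lpe (K42.f455419 IH) (Lpr_ct (f455421 IH) (Lpn (LP (LK LD1_c13 LD2_c14 LD3_c10))))))))))))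
theorem f511170 : Led Lsl_dt (LP (LK LD1_c22 LD2_c14 LD3_c38)) = (LP (LK LD1_c13 LD2_c14 LD3_c10)) :=
  Lgr Lrot42 (Lpr_df (f511164 IH) (Lpn (LP (LK LD1_c13 LD2_c14 LD3_c10))))
theorem f477578 : Led Lsl_dt (LP (LK LD1_c7 LD2_c15 LD3_c25)) = (LP (LK LD1_c3 LD2_c37 LD3_c27)) :=
  Lre_d IH (LK LD1_c7 LD2_c15 LD3_c25) (LK LD1_c3 LD2_c37 LD3_c27) Lrfl Lrfl
theorem f511156 : Led Lsl_dt (LP (LK LD1_c6 LD2_c58 LD3_c23)) = (LP (LK LD1_c13 LD2_c4 LD3_c17)) :=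
  Lgr Lrot6 (Lpr_gt (f455428 IH) (Lpr_ct (K29.f446467 IH) (Lpe (K29.f477587 IH) (Lpr_ct (K29.f467465 IH) (Lpe (f477578 IH) (Lpe (K33.f477591 IH) (Lpr_gf (K33.f511152 IH) (Lpe (K32.f464952 IH) (Lpe (K33.f488248 IH) (Lpn (LP (LK LD1_c13 LD2_c4 LD3_c17))))))))))))
theorem f529415 : Led Lsl_ff (LP (LK LD1_c6 LD2_c58 LD3_c20)) = (LP (LK LD1_c6 LD2_c58 LD3_c23)) :=
  Lgr Lrot103 (Lpe (f528157 IH) (Lpr_cf (K33.f487833 IH) (Lpr_df (K33.f488251 IH) (Lpe (K42.f529193 IH) (Lpr_df (K42.f529206 IH) (Lpe (f455423 IH) (Lpe (f511170 IH) (Lpe (K33.f457469 IH) (Lpe (f511156 IH) (Lpn (LP (LK LD1_c6 LD2_c58 LD3_c23))))))))))))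
theorem f529421 : Led Lsl_ft (LP (LK LD1_c6 LD2_c58 LD3_c20)) = (LP (LK LD1_c6 LD2_c58 LD3_c23)) :=
  Lgr Lrot48 (Lpr_ff (f529415 IH) (Lpn (LP (LK LD1_c6 LD2_c58 LD3_c23))))
theorem f529425 : Led Lsl_ff (LP (LK LD1_c13 LD2_c4 LD3_c13)) = (LP (LK LD1_c13 LD2_c4 LD3_c17)) :=
  Lgr Lrot19 (Lpr_dt (K29.f477601 IH) (Lpr_ft (f529421 IH) (Lpr_dt (f511156 IH) (Lpn (LP (LK LD1_c13 LD2_c4 LD3_c17))))))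
theorem f477612 : Led Lsl_bt (LP (LK LD1_c13 LD2_c4 LD3_c13)) = (LP (LK LD1_c22 LD2_c14 LD3_c33)) :=
  Lre_b IH (LK LD1_c13 LD2_c4 LD3_c13) (LK LD1_c22 LD2_c14 LD3_c33) Lrfl Lrfl
theorem f628233 : Led Lsl_ff (LP (LK LD1_c21 LD2_c13 LD3_c33)) = (LP (LK LD1_c22 LD2_c14 LD3_c33)) :=
  Lgr Lrot25 (Lpr_bt (f628227 IH) (Lpe (f529425 IH) (Lpr_bt (f477612 IH) (Lpn (LP (LK LD1_c22 LD2_c14 LD3_c33))))))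
theorem f458548 : Led Lsl_bt (LP (LK LD1_c22 LD2_c14 LD3_c33)) = (LP (LK LD1_c13 LD2_c4 LD3_c13)) :=
  Lre_b IH (LK LD1_c22 LD2_c14 LD3_c33) (LK LD1_c13 LD2_c4 LD3_c13) Lrfl Lrfl
theorem f477608 : Led Lsl_df (LP (LK LD1_c22 LD2_c14 LD3_c33)) = (LP (LK LD1_c13 LD2_c14 LD3_c14)) :=
  Lgr Lrot12 (Lpr_bt (f458548 IH) (Lpr_dt (K29.f477601 IH) (Lpr_bt (K33.f470788 IH) (Lpn (LP (LK LD1_c13 LD2_c14 LD3_c14))))))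
theorem f455391 : Led Lsl_bt (LP (LK LD1_c13 LD2_c14 LD3_c14)) = (LP (LK LD1_c6 LD2_c58 LD3_c20)) :=
  Lre_b IH (LK LD1_c13 LD2_c14 LD3_c14) (LK LD1_c6 LD2_c58 LD3_c20) Lrfl Lrfl
theorem f511160 : Led Lsl_bt (LP (LK LD1_c6 LD2_c58 LD3_c23)) = (LP (LK LD1_c13 LD2_c14 LD3_c17)) :=
  Lre_b IH (LK LD1_c6 LD2_c58 LD3_c23) (LK LD1_c13 LD2_c14 LD3_c17) Lrfl Lrfl
theorem f529423 : Led Lsl_ff (LP (LK LD1_c13 LD2_c14 LD3_c14)) = (LP (LK LD1_c13 LD2_c14 LD3_c17)) :=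
  Lgr Lrot25 (Lpr_bt (f455391 IH) (Lpr_ft (f529421 IH) (Lpr_bt (f511160 IH) (Lpn (LP (LK LD1_c13 LD2_c14 LD3_c17))))))
theorem f628235 : Led Lsl_dt (LP (LK LD1_c21 LD2_c13 LD3_c33)) = (LP (LK LD1_c13 LD2_c14 LD3_c17)) :=
  Lgr Lrot60 (Lpr_ff (f628233 IH) (Lpr_df (f477608 IH) (Lpr_ff (f529423 IH) (Lpn (LP (LK LD1_c13 LD2_c14 LD3_c17))))))
theorem f498815 : Led Lsl_et (LP (LK LD1_c21 LD2_c13 LD3_c33)) = (LP (LK LD1_c12 LD2_c7 LD3_c23)) :=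
  Lre_e IH (LK LD1_c21 LD2_c13 LD3_c33) (LK LD1_c12 LD2_c7 LD3_c23) Lrfl Lrfl
theorem f112716 : Led Lsl_et (LP (LK LD1_c1 LD2_c28 LD3_c9)) = (LP (LK LD1_c3 LD2_c4 LD3_c15)) :=
  Lre_e IH (LK LD1_c1 LD2_c28 LD3_c9) (LK LD1_c3 LD2_c4 LD3_c15) Lrfl Lrfl
theorem f75773 : Led Lsl_dt (LP (LK LD1_c6 LD2_c14 LD3_c42)) = (LP (LK LD1_c12 LD2_c7 LD3_c40)) :=
  Lre_d IH (LK LD1_c6 LD2_c14 LD3_c42) (LK LD1_c12 LD2_c7 LD3_c40) Lrfl Lrfl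
theorem f628239 : Led Lsl_gt (LP (LK LD1_c12 LD2_c7 LD3_c40)) = (LP (LK LD1_c13 LD2_c14 LD3_c17)) :=
  Lgr Lrot139 (Lpe (f75773 IH) (Lpe (K37.f75673 IH) (Lpe (f112716 IH) (Lpr_dt (K11.f59802 IH) (Lpe (K6.f59804 IH) (Lpe (K6.f99137 IH) (Lpr_et (K36.f205770 IH) (Lpe (f498777 IH) (Lpe (f498815 IH) (Lpr_dt (f628235 IH) (Lpn (LP (LK LD1_c13 LD2_c14 LD3_c17)))))))))))))
theorem f543733 : Led Lsl_gt (LP (LK LD1_c21 LD2_c13 LD3_c57)) = (LP (LK LD1_c12 LD2_c7 LD3_c40)) :=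
  Lre_g IH (LK LD1_c21 LD2_c13 LD3_c57) (LK LD1_c12 LD2_c7 LD3_c40) Lrfl Lrfl
theorem f529433 : Led Lsl_at (LP (LK LD1_c22 LD2_c29 LD3_c2)) = (LP (LK LD1_c13 LD2_c14 LD3_c17)) :=
  Lre_a IH (LK LD1_c22 LD2_c29 LD3_c2) (LK LD1_c13 LD2_c14 LD3_c17) Lrfl Lrfl
theorem f628241 : Led Lsl_ft (LP (LK LD1_c21 LD2_c13 LD3_c57)) = (LP (LK LD1_c22 LD2_c29 LD3_c2)) :=
  Lgr Lrot2 (Lpr_gt (f543733 IH) (Lpr_gt (f628239 IH) (Lpe (f529433 IH) (Lpn (LP (LK LD1_c22 LD2_c29 LD3_c2))))))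
theorem f628245 : Led Lsl_ff (LP (LK LD1_c21 LD2_c13 LD3_c57)) = (LP (LK LD1_c22 LD2_c29 LD3_c2)) :=
  Lgr Lrot3 (Lpr_ft (f628241 IH) (Lpn (LP (LK LD1_c22 LD2_c29 LD3_c2))))
theorem f529436 : Led Lsl_at (LP (LK LD1_c13 LD2_c14 LD3_c17)) = (LP (LK LD1_c22 LD2_c29 LD3_c2)) :=
  Lre_a IH (LK LD1_c13 LD2_c14 LD3_c17) (LK LD1_c22 LD2_c29 LD3_c2) Lrfl Lrfl
theorem f455430 : Led Lsl_bt (LP (LK LD1_c13 LD2_c14 LD3_c17)) = (LP (LK LD1_c6 LD2_c58 LD3_c23)) :=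
  Lre_b IH (LK LD1_c13 LD2_c14 LD3_c17) (LK LD1_c6 LD2_c58 LD3_c23) Lrfl Lrfl
theorem f529417 : Led Lsl_ft (LP (LK LD1_c13 LD2_c14 LD3_c14)) = (LP (LK LD1_c13 LD2_c14 LD3_c17)) :=
  Lgr Lrot75 (Lpe (K33.f470788 IH) (Lpr_ff (f529415 IH) (Lpe (f455430 IH) (Lpn (LP (LK LD1_c13 LD2_c14 LD3_c17))))))
theorem f628247 : Led Lsl_at (LP (LK LD1_c21 LD2_c13 LD3_c57)) = (LP (LK LD1_c13 LD2_c14 LD3_c14)) :=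
  Lgr Lrot66 (Lpr_ff (f628245 IH) (Lpe (f529436 IH) (Lpe (f529417 IH) (Lpn (LP (LK LD1_c13 LD2_c14 LD3_c14))))))
theorem f467021 : Led Lsl_at (LP (LK LD1_c7 LD2_c13 LD3_c2)) = (LP (LK LD1_c13 LD2_c39 LD3_c42)) :=
  Lre_a IH (LK LD1_c7 LD2_c13 LD3_c2) (LK LD1_c13 LD2_c39 LD3_c42) Lrfl Lrfl
theorem f628255 : Led Lsl_ef (LP (LK LD1_c21 LD2_c13 LD3_c57)) = (LP (LK LD1_c13 LD2_c39 LD3_c42)) :=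
  Lgr Lrot20 (Lpr_at (f628247 IH) (Lpe (K33.f477623 IH) (Lpr_at (f467021 IH) (Lpn (LP (LK LD1_c13 LD2_c39 LD3_c42))))))
theorem f628259 : Led Lsl_et (LP (LK LD1_c21 LD2_c13 LD3_c57)) = (LP (LK LD1_c13 LD2_c39 LD3_c42)) :=
  Lgr Lrot87 (Lpr_ef (f628255 IH) (Lpn (LP (LK LD1_c13 LD2_c39 LD3_c42))))
theorem f528653 : Led Lsl_gt (LP (LK LD1_c7 LD2_c14 LD3_c39)) = (LP (LK LD1_c13 LD2_c39 LD3_c42)) :=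
  Lgr Lrot46 (Lpe (K33.f467446 IH) (Lpr_ft (K35.f528646 IH) (Lpr_at (f467021 IH) (Lpn (LP (LK LD1_c13 LD2_c39 LD3_c42))))))
theorem f528655 : Led Lsl_gf (LP (LK LD1_c7 LD2_c14 LD3_c4)) = (LP (LK LD1_c13 LD2_c39 LD3_c42)) :=
  Lgr Lrot76 (Lpe (K33.f162541 IH) (Lpe (K33.f486389 IH) (Lpr_gt (f528653 IH) (Lpn (LP (LK LD1_c13 LD2_c39 LD3_c42))))))
theorem f162561 : Led Lsl_et (LP (LK LD1_c3 LD2_c36 LD3_c55)) = (LP (LK LD1_c7 LD2_c14 LD3_c4)) :=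
  Lre_e IH (LK LD1_c3 LD2_c36 LD3_c55) (LK LD1_c7 LD2_c14 LD3_c4) Lrfl Lrfl
theorem f18038 : Led Lsl_dt (LP (LK LD1_c7 LD2_c17 LD3_c11)) = (LP (LK LD1_c13 LD2_c47 LD3_c7)) :=
  Lre_d IH (LK LD1_c7 LD2_c17 LD3_c11) (LK LD1_c13 LD2_c47 LD3_c7) Lrfl Lrfl
theorem f97520 : Led Lsl_gt (LP (LK LD1_c13 LD2_c47 LD3_c7)) = (LP (LK LD1_c23 LD2_c14 LD3_c42)) :=
  Lre_g IH (LK LD1_c13 LD2_c47 LD3_c7) (LK LD1_c23 LD2_c14 LD3_c42) Lrfl Lrfl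
theorem f628261 : Led Lsl_dt (LP (LK LD1_c21 LD2_c13 LD3_c57)) = (LP (LK LD1_c23 LD2_c14 LD3_c42)) :=
  Lgr Lrot56 (Lpr_et (f628259 IH) (Lpe (f528655 IH) (Lpe (f162561 IH) (Lpe (K41.f559145 IH) (Lpr_gt (K40.f202194 IH) (Lpqs (K37.f543803 IH) (Lpe (K41.f519732 IH) (Lpr_et (K37.f97538 IH) (Lpr_gt (K37.f18037 IH) (Lpr_dt (f18038 IH) (Lpr_gt (f97520 IH) (Lpn (LP (LK LD1_c23 LD2_c14 LD3_c42))))))))))))))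
theorem f488892 : Led Lsl_ef (LP (LK LD1_c7 LD2_c14 LD3_c39)) = (LP (LK LD1_c7 LD2_c8 LD3_c31)) :=
  Lgr Lrot28 (Lpr_ct (K33.f467609 IH) (Lpr_et (K33.f488886 IH) (Lpr_ct (K33.f478008 IH) (Lpn (LP (LK LD1_c7 LD2_c8 LD3_c31))))))
theorem f477991 : Led Lsl_dt (LP (LK LD1_c7 LD2_c8 LD3_c31)) = (LP (LK LD1_c13 LD2_c31 LD3_c34)) :=
  Lre_d IH (LK LD1_c7 LD2_c8 LD3_c31) (LK LD1_c13 LD2_c31 LD3_c34) Lrfl Lrfl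
theorem f6577 : Led Lsl_bt (LP (LK LD1_c7 LD2_c8 LD3_c55)) = (LP (LK LD1_c3 LD2_c33 LD3_c57)) :=
  Lre_b IH (LK LD1_c7 LD2_c8 LD3_c55) (LK LD1_c3 LD2_c33 LD3_c57) Lrfl Lrfl
theorem f6578 : Led Lsl_ct (LP (LK LD1_c7 LD2_c8 LD3_c55)) = (LP (LK LD1_c13 LD2_c32 LD3_c18)) :=
  Lre_c IH (LK LD1_c7 LD2_c8 LD3_c55) (LK LD1_c13 LD2_c32 LD3_c18) Lrfl Lrfl
theorem f6579 : Led Lsl_gt (LP (LK LD1_c13 LD2_c32 LD3_c18)) = (LP (LK LD1_c22 LD2_c54 LD3_c7)) :=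
  Lre_g IH (LK LD1_c13 LD2_c32 LD3_c18) (LK LD1_c22 LD2_c54 LD3_c7) Lrfl Lrfl
theorem f481211 : Led Lsl_ct (LP (LK LD1_c13 LD2_c43 LD3_c30)) = (LP (LK LD1_c22 LD2_c54 LD3_c7)) :=
  Lgr Lrot10 (Lpr_bt (K29.f481051 IH) (Lpr_gt (K29.f481203 IH) (Lpe (K29.f481207 IH) (Lpr_gt (K29.f6293 IH) (Lpe (K29.f6278 IH) (Lpr_bt (f6009 IH) (Lpr_gt (K29.f6572 IH) (Lpe (f6577 IH) (Lpr_ct (f6578 IH) (Lpr_gt (f6579 IH) (Lpn (LP (LK LD1_c22 LD2_c54 LD3_c7)))))))))))))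
theorem f481218 : Led Lsl_cf (LP (LK LD1_c13 LD2_c43 LD3_c30)) = (LP (LK LD1_c22 LD2_c54 LD3_c7)) :=
  Lgr Lrot11 (Lpr_ct (f481211 IH) (Lpn (LP (LK LD1_c22 LD2_c54 LD3_c7))))
theorem f488938 : Led Lsl_gt (LP (LK LD1_c13 LD2_c30 LD3_c22)) = (LP (LK LD1_c7 LD2_c8 LD3_c55)) :=
  Lgr Lrot9 (Lpe (K43.f96796 IH) (Lpr_gt (K33.f488934 IH) (Lpr_ct (K29.f6663 IH) (Lpe (K29.f477981 IH) (Lpe (K29.f481040 IH) (Lpe (K29.f481042 IH) (Lpr_cf (f481218 IH) (Lpe (f6579 IH) (Lpe (f6578 IH) (Lpn (LP (LK LD1_c7 LD2_c8 LD3_c55))))))))))))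
theorem f481143 : Led Lsl_dt (LP (LK LD1_c22 LD2_c47 LD3_c55)) = (LP (LK LD1_c13 LD2_c28 LD3_c18)) :=
  Lre_d IH (LK LD1_c22 LD2_c47 LD3_c55) (LK LD1_c13 LD2_c28 LD3_c18) Lrfl Lrfl
theorem f488833 : Led Lsl_ft (LP (LK LD1_c13 LD2_c30 LD3_c22)) = (LP (LK LD1_c22 LD2_c47 LD3_c55)) :=
  Lgr Lrot54 (Lpe (K43.f96796 IH) (Lpr_ff (K33.f488818 IH) (Lpe (f481143 IH) (Lpn (LP (LK LD1_c22 LD2_c47 LD3_c55))))))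
theorem f488914 : Led Lsl_ff (LP (LK LD1_c13 LD2_c41 LD3_c25)) = (LP (LK LD1_c13 LD2_c31 LD3_c34)) :=
  Lgr Lrot19 (Lpr_dt (K43.f136381 IH) (Lpr_ft (K34.f488911 IH) (Lpr_dt (f477991 IH) (Lpn (LP (LK LD1_c13 LD2_c31 LD3_c34))))))
theorem f488916 : Led Lsl_at (LP (LK LD1_c22 LD2_c47 LD3_c55)) = (LP (LK LD1_c13 LD2_c31 LD3_c34)) :=
  Lgr Lrot66 (Lpe (f488833 IH) (Lpe (K43.f162214 IH) (Lpr_ff (f488914 IH) (Lpn (LP (LK LD1_c13 LD2_c31 LD3_c34))))))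
theorem f489088 : Led Lsl_gf (LP (LK LD1_c13 LD2_c31 LD3_c34)) = (LP (LK LD1_c7 LD2_c8 LD3_c55)) :=
  Lgr Lrot76 (Lpe (f488916 IH) (Lpe (f488833 IH) (Lpr_gt (f488938 IH) (Lpn (LP (LK LD1_c7 LD2_c8 LD3_c55))))))
theorem f480638 : Led Lsl_dt (LP (LK LD1_c13 LD2_c32 LD3_c19)) = (LP (LK LD1_c7 LD2_c8 LD3_c55)) :=
  Lre_d IH (LK LD1_c13 LD2_c32 LD3_c19) (LK LD1_c7 LD2_c8 LD3_c55) Lrfl Lrfl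
theorem f466666 : Led Lsl_ct (LP (LK LD1_c22 LD2_c46 LD3_c20)) = (LP (LK LD1_c13 LD2_c26 LD3_c49)) :=
  Lre_c IH (LK LD1_c22 LD2_c46 LD3_c20) (LK LD1_c13 LD2_c26 LD3_c49) Lrfl Lrfl
theorem f514156 : Led Lsl_ft (LP (LK LD1_c23 LD2_c4 LD3_c9)) = (LP (LK LD1_c22 LD2_c46 LD3_c20)) :=
  Lgr Lrot4 (Lpe (K43.f490099 IH) (Lpr_ff (K41.f514151 IH) (Lpe (f466666 IH) (Lpn (LP (LK LD1_c22 LD2_c46 LD3_c20))))))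
theorem f514162 : Led Lsl_ff (LP (LK LD1_c23 LD2_c4 LD3_c9)) = (LP (LK LD1_c22 LD2_c46 LD3_c20)) :=
  Lgr Lrot3 (Lpr_ft (f514156 IH) (Lpn (LP (LK LD1_c22 LD2_c46 LD3_c20))))
theorem f514164 : Led Lsl_gt (LP (LK LD1_c22 LD2_c46 LD3_c20)) = (LP (LK LD1_c30 LD2_c42 LD3_c49)) :=
  Lre_g IH (LK LD1_c22 LD2_c46 LD3_c20) (LK LD1_c30 LD2_c42 LD3_c49) Lrfl Lrfl
theorem f578485 : Led Lsl_gf (LP (LK LD1_c26 LD2_c56 LD3_c1)) = (LP (LK LD1_c30 LD2_c42 LD3_c49)) :=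
  Lgr Lrot76 (Lpr_af (K43.f578483 IH) (Lpr_ff (f514162 IH) (Lpr_gt (f514164 IH) (Lpn (LP (LK LD1_c30 LD2_c42 LD3_c49))))))
theorem f514128 : Led Lsl_cf (LP (LK LD1_c13 LD2_c38 LD3_c61)) = (LP (LK LD1_c13 LD2_c18 LD3_c12)) :=
  Lgr Lrot11 (Lpr_ct (K37.f514059 IH) (Lpn (LP (LK LD1_c13 LD2_c18 LD3_c12))))
theorem f578487 : Led Lsl_ct (LP (LK LD1_c23 LD2_c14 LD3_c42)) = (LP (LK LD1_c30 LD2_c42 LD3_c49)) :=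
  Lgr Lrot152 (Lpe (f97520 IH) (Lpe (f18038 IH) (Lpe (K41.f543594 IH) (Lpr_ct (K37.f543383 IH) (Lpr_gt (K37.f419741 IH) (Lpe (f514128 IH) (Lpe (K41.f514116 IH) (Lpe (K43.f578481 IH) (Lpr_gf (f578485 IH) (Lpn (LP (LK LD1_c30 LD2_c42 LD3_c49))))))))))))
theorem f202178 : Led Lsl_dt (LP (LK LD1_c21 LD2_c13 LD3_c40)) = (LP (LK LD1_c12 LD2_c7 LD3_c28)) :=
  Lre_d IH (LK LD1_c21 LD2_c13 LD3_c40) (LK LD1_c12 LD2_c7 LD3_c28) Lrfl Lrfl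
theorem f578491 : Led Lsl_gt (LP (LK LD1_c23 LD2_c14 LD3_c42)) = (LP (LK LD1_c13 LD2_c47 LD3_c11)) :=
  Lgr Lrot180 (Lpr_ct (f578487 IH) (Lpe (f578485 IH) (Lpr_dt (K43.f202168 IH) (Lpr_gt (K43.f202167 IH) (Lpr_dt (f202178 IH) (Lpr_ct (K43.f202180 IH) (Lpr_df (K37.f543725 IH) (Lpe (K43.f18050 IH) (Lpe (K43.f97539 IH) (Lpn (LP (LK LD1_c13 LD2_c47 LD3_c11))))))))))))
theorem f575391 : Led Lsl_et (LP (LK LD1_c7 LD2_c17 LD3_c12)) = (LP (LK LD1_c13 LD2_c47 LD3_c12)) :=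
  Lre_e IH (LK LD1_c7 LD2_c17 LD3_c12) (LK LD1_c13 LD2_c47 LD3_c12) Lrfl Lrfl
theorem f628269 : Led Lsl_gf (LP (LK LD1_c13 LD2_c32 LD3_c19)) = (LP (LK LD1_c13 LD2_c47 LD3_c12)) :=
  Lgr Lrot138 (Lpr_dt (f480638 IH) (Lpe (f489088 IH) (Lpe (f477991 IH) (Lpe (f488892 IH) (Lpr_gt (f528653 IH) (Lpe (f628259 IH) (Lpr_dt (f628261 IH) (Lpr_gt (f578491 IH) (Lpe (K43.f97540 IH) (Lpr_et (f575391 IH) (Lpn (LP (LK LD1_c13 LD2_c47 LD3_c12)))))))))))))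
theorem f480660 : Led Lsl_at (LP (LK LD1_c22 LD2_c54 LD3_c5)) = (LP (LK LD1_c13 LD2_c32 LD3_c19)) :=
  Lre_a IH (LK LD1_c22 LD2_c54 LD3_c5) (LK LD1_c13 LD2_c32 LD3_c19) Lrfl Lrfl
theorem f17584 : Led Lsl_bt (LP (LK LD1_c3 LD2_c39 LD3_c37)) = (LP (LK LD1_c7 LD2_c19 LD3_c25)) :=
  Lre_b IH (LK LD1_c3 LD2_c39 LD3_c37) (LK LD1_c7 LD2_c19 LD3_c25) Lrfl Lrfl
theorem f479490 : Led Lsl_bt (LP (LK LD1_c13 LD2_c32 LD3_c19)) = (LP (LK LD1_c7 LD2_c8 LD3_c57)) :=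
  Lre_b IH (LK LD1_c13 LD2_c32 LD3_c19) (LK LD1_c7 LD2_c8 LD3_c57) Lrfl Lrfl
theorem f528127 : Led Lsl_ft (LP (LK LD1_c7 LD2_c19 LD3_c25)) = (LP (LK LD1_c13 LD2_c32 LD3_c19)) :=
  Lgr Lrot75 (Lpe (f17584 IH) (Lpr_ff (K35.f528112 IH) (Lpe (f479490 IH) (Lpn (LP (LK LD1_c13 LD2_c32 LD3_c19))))))
theorem f529725 : Led Lsl_ff (LP (LK LD1_c7 LD2_c19 LD3_c25)) = (LP (LK LD1_c13 LD2_c32 LD3_c19)) :=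
  Lgr Lrot3 (Lpr_ft (f528127 IH) (Lpn (LP (LK LD1_c13 LD2_c32 LD3_c19))))
theorem f17602 : Led Lsl_at (LP (LK LD1_c7 LD2_c19 LD3_c25)) = (LP (LK LD1_c13 LD2_c51 LD3_c1)) :=
  Lre_a IH (LK LD1_c7 LD2_c19 LD3_c25) (LK LD1_c13 LD2_c51 LD3_c1) Lrfl Lrfl
theorem f529734 : Led Lsl_ft (LP (LK LD1_c13 LD2_c51 LD3_c1)) = (LP (LK LD1_c22 LD2_c54 LD3_c5)) :=
  Lgr Lrot101 (Lpe (f17602 IH) (Lpr_ff (f529725 IH) (Lpe (f480660 IH) (Lpn (LP (LK LD1_c22 LD2_c54 LD3_c5))))))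
theorem f628271 : Led Lsl_gt (LP (LK LD1_c13 LD2_c51 LD3_c1)) = (LP (LK LD1_c13 LD2_c47 LD3_c12)) :=
  Lgr Lrot5 (Lpr_ft (f529734 IH) (Lpr_at (f480660 IH) (Lpr_gf (f628269 IH) (Lpn (LP (LK LD1_c13 LD2_c47 LD3_c12))))))
theorem f17580 : Led Lsl_at (LP (LK LD1_c13 LD2_c28 LD3_c27)) = (LP (LK LD1_c22 LD2_c48 LD3_c7)) :=
  Lre_a IH (LK LD1_c13 LD2_c28 LD3_c27) (LK LD1_c22 LD2_c48 LD3_c7) Lrfl Lrfl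
theorem f17581 : Led Lsl_at (LP (LK LD1_c13 LD2_c51 LD3_c1)) = (LP (LK LD1_c7 LD2_c19 LD3_c25)) :=
  Lre_a IH (LK LD1_c13 LD2_c51 LD3_c1) (LK LD1_c7 LD2_c19 LD3_c25) Lrfl Lrfl
theorem f17582 : Led Lsl_dt (LP (LK LD1_c22 LD2_c48 LD3_c7)) = (LP (LK LD1_c13 LD2_c51 LD3_c1)) :=
  Lgr Lrot44 (Lpe (f17580 IH) (Lpr_df (f17577 IH) (Lpe (f17581 IH) (Lpn (LP (LK LD1_c13 LD2_c51 LD3_c1))))))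
theorem f480663 : Led Lsl_dt (LP (LK LD1_c22 LD2_c54 LD3_c5)) = (LP (LK LD1_c13 LD2_c32 LD3_c17)) :=
  Lre_d IH (LK LD1_c22 LD2_c54 LD3_c5) (LK LD1_c13 LD2_c32 LD3_c17) Lrfl Lrfl
theorem f529738 : Led Lsl_ff (LP (LK LD1_c22 LD2_c48 LD3_c7)) = (LP (LK LD1_c13 LD2_c32 LD3_c17)) :=
  Lgr Lrot19 (Lpr_dt (f17582 IH) (Lpr_ft (f529734 IH) (Lpr_dt (f480663 IH) (Lpn (LP (LK LD1_c13 LD2_c32 LD3_c17))))))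
theorem f529741 : Led Lsl_ft (LP (LK LD1_c22 LD2_c48 LD3_c7)) = (LP (LK LD1_c13 LD2_c32 LD3_c17)) :=
  Lgr Lrot48 (Lpr_ff (f529738 IH) (Lpn (LP (LK LD1_c13 LD2_c32 LD3_c17))))
theorem f489087 : Led Lsl_at (LP (LK LD1_c13 LD2_c32 LD3_c17)) = (LP (LK LD1_c7 LD2_c8 LD3_c55)) :=
  Lre_a IH (LK LD1_c13 LD2_c32 LD3_c17) (LK LD1_c7 LD2_c8 LD3_c55) Lrfl Lrfl
theorem f529801 : Led Lsl_gt (LP (LK LD1_c22 LD2_c48 LD3_c7)) = (LP (LK LD1_c13 LD2_c30 LD3_c22)) :=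
  Lgr Lrot5 (Lpr_ft (f529741 IH) (Lpr_at (f489087 IH) (Lpe (f488938 IH) (Lpn (LP (LK LD1_c13 LD2_c30 LD3_c22))))))
theorem f529803 : Led Lsl_gf (LP (LK LD1_c22 LD2_c48 LD3_c7)) = (LP (LK LD1_c13 LD2_c31 LD3_c34)) :=
  Lgr Lrot47 (Lpr_gt (f529801 IH) (Lpe (K43.f162214 IH) (Lpr_ff (f488914 IH) (Lpn (LP (LK LD1_c13 LD2_c31 LD3_c34))))))
theorem f158561 : Led Lsl_dt (LP (LK LD1_c3 LD2_c49 LD3_c29)) = (LP (LK LD1_c7 LD2_c39 LD3_c52)) :=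
  Lre_d IH (LK LD1_c3 LD2_c49 LD3_c29) (LK LD1_c7 LD2_c39 LD3_c52) Lrfl Lrfl
theorem f158560 : Led Lsl_gt (LP (LK LD1_c7 LD2_c39 LD3_c52)) = (LP (LK LD1_c14 LD2_c26 LD3_c4)) :=
  Lre_g IH (LK LD1_c7 LD2_c39 LD3_c52) (LK LD1_c14 LD2_c26 LD3_c4) Lrfl Lrfl
theorem f89799 : Led Lsl_dt (LP (LK LD1_c3 LD2_c49 LD3_c21)) = (LP (LK LD1_c7 LD2_c39 LD3_c32)) :=
  Lre_d IH (LK LD1_c3 LD2_c49 LD3_c21) (LK LD1_c7 LD2_c39 LD3_c32) Lrfl Lrfl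
theorem f96870 : Led Lsl_gt (LP (LK LD1_c14 LD2_c26 LD3_c4)) = (LP (LK LD1_c7 LD2_c39 LD3_c32)) :=
  Lre_g IH (LK LD1_c14 LD2_c26 LD3_c4) (LK LD1_c7 LD2_c39 LD3_c32) Lrfl Lrfl
theorem f120295 : Led Lsl_et (LP (LK LD1_c1 LD2_c41 LD3_c32)) = (LP (LK LD1_c3 LD2_c29 LD3_c41)) :=
  Lre_e IH (LK LD1_c1 LD2_c41 LD3_c32) (LK LD1_c3 LD2_c29 LD3_c41) Lrfl Lrfl
theorem f120296 : Led Lsl_gt (LP (LK LD1_c3 LD2_c29 LD3_c41)) = (LP (LK LD1_c7 LD2_c0 LD3_c54)) :=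
  Lre_g IH (LK LD1_c3 LD2_c29 LD3_c41) (LK LD1_c7 LD2_c0 LD3_c54) Lrfl Lrfl
theorem f120299 : Led Lsl_et (LP (LK LD1_c13 LD2_c18 LD3_c23)) = (LP (LK LD1_c7 LD2_c0 LD3_c54)) :=
  Lre_e IH (LK LD1_c13 LD2_c18 LD3_c23) (LK LD1_c7 LD2_c0 LD3_c54) Lrfl Lrfl
theorem f158551 : Led Lsl_df (LP (LK LD1_c14 LD2_c26 LD3_c4)) = (LP (LK LD1_c13 LD2_c18 LD3_c23)) :=
  Lgr Lrot170 (Lpr_gt (f96870 IH) (Lpe (f89799 IH) (Lpr_et (K3.f88577 IH) (Lpr_gt (K3.f96862 IH) (Lpr_dt (K34.f158519 IH) (Lpe (K28.f120290 IH) (Lpe (K3.f97508 IH) (Lpr_et (f120295 IH) (Lpr_gt (f120296 IH) (Lpe (f120299 IH) (Lpn (LP (LK LD1_c13 LD2_c18 LD3_c23)))))))))))))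
theorem f158553 : Led Lsl_dt (LP (LK LD1_c14 LD2_c26 LD3_c4)) = (LP (LK LD1_c13 LD2_c18 LD3_c23)) :=
  Lgr Lrot42 (Lpr_df (f158551 IH) (Lpn (LP (LK LD1_c13 LD2_c18 LD3_c23))))
theorem f529816 : Led Lsl_ct (LP (LK LD1_c13 LD2_c51 LD3_c1)) = (LP (LK LD1_c13 LD2_c18 LD3_c23)) :=
  Lgr Lrot7 (Lpe (f17582 IH) (Lpr_gf (f529803 IH) (Lpe (f477991 IH) (Lpe (K33.f467222 IH) (Lpe (K29.f466682 IH) (Lpe (K29.f477981 IH) (Lpr_dt (f158561 IH) (Lpr_gt (f158560 IH) (Lpr_dt (f158553 IH) (Lpn (LP (LK LD1_c13 LD2_c18 LD3_c23))))))))))))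
theorem f157549 : Led Lsl_dt (LP (LK LD1_c3 LD2_c49 LD3_c26)) = (LP (LK LD1_c7 LD2_c39 LD3_c46)) :=
  Lre_d IH (LK LD1_c3 LD2_c49 LD3_c26) (LK LD1_c7 LD2_c39 LD3_c46) Lrfl Lrfl
theorem f481441 : Led Lsl_dt (LP (LK LD1_c14 LD2_c26 LD3_c2)) = (LP (LK LD1_c7 LD2_c39 LD3_c31)) :=
  Lre_d IH (LK LD1_c14 LD2_c26 LD3_c2) (LK LD1_c7 LD2_c39 LD3_c31) Lrfl Lrfl
theorem f524729 : Led Lsl_ft (LP (LK LD1_c7 LD2_c39 LD3_c46)) = (LP (LK LD1_c14 LD2_c26 LD3_c2)) :=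
  Lgr Lrot54 (Lpe (f157549 IH) (Lpr_ff (K35.f524723 IH) (Lpe (f481441 IH) (Lpn (LP (LK LD1_c14 LD2_c26 LD3_c2))))))
theorem f157550 : Led Lsl_gt (LP (LK LD1_c7 LD2_c39 LD3_c46)) = (LP (LK LD1_c14 LD2_c26 LD3_c26)) :=
  Lre_g IH (LK LD1_c7 LD2_c39 LD3_c46) (LK LD1_c14 LD2_c26 LD3_c26) Lrfl Lrfl
theorem f524721 : Led Lsl_af (LP (LK LD1_c7 LD2_c39 LD3_c47)) = (LP (LK LD1_c14 LD2_c26 LD3_c2)) :=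
  Lgr Lrot117 (Lpr_dt (K35.f481139 IH) (Lpr_at (K35.f524712 IH) (Lpr_dt (K35.f481028 IH) (Lpn (LP (LK LD1_c14 LD2_c26 LD3_c2))))))
theorem f526841 : Led Lsl_gt (LP (LK LD1_c14 LD2_c26 LD3_c26)) = (LP (LK LD1_c7 LD2_c39 LD3_c47)) :=
  Lgr Lrot46 (Lpe (f157550 IH) (Lpr_ft (f524729 IH) (Lpe (f524721 IH) (Lpn (LP (LK LD1_c7 LD2_c39 LD3_c47))))))
theorem f157547 : Led Lsl_et (LP (LK LD1_c0 LD2_c52 LD3_c39)) = (LP (LK LD1_c1 LD2_c51 LD3_c45)) :=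
  Lre_e IH (LK LD1_c0 LD2_c52 LD3_c39) (LK LD1_c1 LD2_c51 LD3_c45) Lrfl Lrfl
theorem f157551 : Led Lsl_et (LP (LK LD1_c22 LD2_c34 LD3_c10)) = (LP (LK LD1_c13 LD2_c18 LD3_c12)) :=
  Lre_e IH (LK LD1_c22 LD2_c34 LD3_c10) (LK LD1_c13 LD2_c18 LD3_c12) Lrfl Lrfl
theorem f157552 : Led Lsl_df (LP (LK LD1_c14 LD2_c26 LD3_c26)) = (LP (LK LD1_c22 LD2_c34 LD3_c10)) :=
  Lgr Lrot132 (Lpe (f157550 IH) (Lpe (f157549 IH) (Lpe (K35.f157548 IH) (Lpe (f157547 IH) (Lpr_dt (K4.f87298 IH) (Lpe (K34.f87189 IH) (Lpr_df (K34.f157527 IH) (Lpr_et (K3.f97504 IH) (Lpe (K37.f97522 IH) (Lpe (f157551 IH) (Lpn (LP (LK LD1_c22 LD2_c34 LD3_c10)))))))))))))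
theorem f628278 : Led Lsl_gt (LP (LK LD1_c13 LD2_c18 LD3_c23)) = (LP (LK LD1_c22 LD2_c34 LD3_c10)) :=
  Lgr Lrot94 (Lpe (f529816 IH) (Lpr_gt (f628271 IH) (Lpe (K43.f575388 IH) (Lpr_gt (K43.f481140 IH) (Lpr_dt (K35.f481130 IH) (Lpe (K33.f481126 IH) (Lpe (K35.f481139 IH) (Lpe (f526841 IH) (Lpr_df (f157552 IH) (Lpn (LP (LK LD1_c22 LD2_c34 LD3_c10))))))))))))
theorem f158555 : Led Lsl_et (LP (LK LD1_c7 LD2_c0 LD3_c54)) = (LP (LK LD1_c13 LD2_c18 LD3_c23)) :=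
  Lre_e IH (LK LD1_c7 LD2_c0 LD3_c54) (LK LD1_c13 LD2_c18 LD3_c23) Lrfl Lrfl
theorem f120297 : Led Lsl_dt (LP (LK LD1_c7 LD2_c0 LD3_c54)) = (LP (LK LD1_c13 LD2_c18 LD3_c22)) :=
  Lre_d IH (LK LD1_c7 LD2_c0 LD3_c54) (LK LD1_c13 LD2_c18 LD3_c22) Lrfl Lrfl
theorem f474942 : Led Lsl_et (LP (LK LD1_c7 LD2_c48 LD3_c7)) = (LP (LK LD1_c3 LD2_c53 LD3_c14)) :=
  Lre_e IH (LK LD1_c7 LD2_c48 LD3_c7) (LK LD1_c3 LD2_c53 LD3_c14) Lrfl Lrfl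
theorem f474958 : Led Lsl_dt (LP (LK LD1_c7 LD2_c48 LD3_c7)) = (LP (LK LD1_c14 LD2_c43 LD3_c17)) :=
  Lre_d IH (LK LD1_c7 LD2_c48 LD3_c7) (LK LD1_c14 LD2_c43 LD3_c17) Lrfl Lrfl
theorem f475048 : Led Lsl_gt (LP (LK LD1_c13 LD2_c18 LD3_c22)) = (LP (LK LD1_c14 LD2_c43 LD3_c17)) :=
  Lgr Lrot139 (Lpe (f120297 IH) (Lpe (f120296 IH) (Lpe (f120295 IH) (Lpr_dt (K3.f97508 IH) (Lpr_gf (K28.f120290 IH) (Lpe (K34.f158519 IH) (Lpr_et (K28.f96854 IH) (Lpr_gf (K29.f475041 IH) (Lpe (f474942 IH) (Lpr_dt (f474958 IH) (Lpn (LP (LK LD1_c14 LD2_c43 LD3_c17)))))))))))))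
theorem f474312 : Led Lsl_at (LP (LK LD1_c7 LD2_c48 LD3_c13)) = (LP (LK LD1_c14 LD2_c43 LD3_c17)) :=
  Lre_a IH (LK LD1_c7 LD2_c48 LD3_c13) (LK LD1_c14 LD2_c43 LD3_c17) Lrfl Lrfl
theorem f475050 : Led Lsl_ft (LP (LK LD1_c14 LD2_c43 LD3_c33)) = (LP (LK LD1_c7 LD2_c48 LD3_c13)) :=
  Lre_f IH (LK LD1_c14 LD2_c43 LD3_c33) (LK LD1_c7 LD2_c48 LD3_c13) Lrfl Lrfl
theorem f475051 : Led Lsl_gf (LP (LK LD1_c13 LD2_c18 LD3_c22)) = (LP (LK LD1_c14 LD2_c43 LD3_c33)) :=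
  Lgr Lrot47 (Lpr_gt (f475048 IH) (Lpe (f474312 IH) (Lpe (f475050 IH) (Lpn (LP (LK LD1_c14 LD2_c43 LD3_c33))))))
theorem f475059 : Led Lsl_dt (LP (LK LD1_c7 LD2_c48 LD3_c14)) = (LP (LK LD1_c14 LD2_c43 LD3_c33)) :=
  Lre_d IH (LK LD1_c7 LD2_c48 LD3_c14) (LK LD1_c14 LD2_c43 LD3_c33) Lrfl Lrfl
theorem f474055 : Led Lsl_ff (LP (LK LD1_c3 LD2_c53 LD3_c22)) = (LP (LK LD1_c7 LD2_c37 LD3_c16)) :=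
  Lgr Lrot25 (Lpr_bt (K34.f129818 IH) (Lpr_ft (K29.f474053 IH) (Lpr_bt (f446534 IH) (Lpn (LP (LK LD1_c7 LD2_c37 LD3_c16))))))
theorem f475033 : Led Lsl_et (LP (LK LD1_c1 LD2_c53 LD3_c11)) = (LP (LK LD1_c3 LD2_c53 LD3_c16)) :=
  Lre_e IH (LK LD1_c1 LD2_c53 LD3_c11) (LK LD1_c3 LD2_c53 LD3_c16) Lrfl Lrfl
theorem f475034 : Led Lsl_ft (LP (LK LD1_c3 LD2_c53 LD3_c16)) = (LP (LK LD1_c7 LD2_c48 LD3_c14)) :=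
  Lre_f IH (LK LD1_c3 LD2_c53 LD3_c16) (LK LD1_c7 LD2_c48 LD3_c14) Lrfl Lrfl
theorem f475035 : Led Lsl_ef (LP (LK LD1_c7 LD2_c37 LD3_c16)) = (LP (LK LD1_c7 LD2_c48 LD3_c14)) :=
  Lgr Lrot21 (Lpe (f474055 IH) (Lpr_et (K34.f129866 IH) (Lpr_ft (K29.f475018 IH) (Lpr_et (f475033 IH) (Lpr_ft (f475034 IH) (Lpn (LP (LK LD1_c7 LD2_c48 LD3_c14))))))))
theorem f628282 : Led Lsl_gf (LP (LK LD1_c7 LD2_c37 LD3_c16)) = (LP (LK LD1_c7 LD2_c39 LD3_c48)) :=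
  Lgr Lrot141 (Lpr_ef (f475035 IH) (Lpr_dt (f475059 IH) (Lpe (f475051 IH) (Lpe (f120297 IH) (Lpr_et (f158555 IH) (Lpr_gt (f628278 IH) (Lpe (f157552 IH) (Lpr_gt (f526841 IH) (Lpe (K35.f481121 IH) (Lpr_et (K33.f481133 IH) (Lpn (LP (LK LD1_c7 LD2_c39 LD3_c48)))))))))))))
theorem f659623 : Led Lsl_gt (LP (LK LD1_c7 LD2_c25 LD3_c34)) = (LP (LK LD1_c3 LD2_c48 LD3_c19)) :=
  Lgr Lrot149 (Lpe (K41.f471191 IH) (Lpr_gf (f659618 IH) (Lpe (f659615 IH) (Lpe (K34.f530365 IH) (Lpe (K30.f490175 IH) (Lpe (K29.f129891 IH) (Lpr_bt (f446534 IH) (Lpr_gf (f628282 IH) (Lpe (K33.f481748 IH) (Lpr_ct (K33.f481718 IH) (Lpn (LP (LK LD1_c3 LD2_c48 LD3_c19)))))))))))))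
theorem f659624 : Led Lsl_gt (LP (LK LD1_c7 LD2_c25 LD3_c34)) = (LP (LK LD1_c3 LD2_c48 LD3_c19)) :=
  Leop (Lpe (f659623 IH) (Lpn (LP (LK LD1_c7 LD2_c25 LD3_c34))))
theorem seed_416 : LEOK LG_g (LK LD1_c7 LD2_c25 LD3_c34) :=
  Leoe_g (LK LD1_c7 LD2_c25 LD3_c34) (f659624 IH)
theorem f477554 : Led Lsl_gt (LP (LK LD1_c3 LD2_c49 LD3_c39)) = (LP (LK LD1_c3 LD2_c48 LD3_c4)) :=
  Lgr Lrot150 (Lpe (K29.f467469 IH) (Lpr_gf (K29.f477537 IH) (Lpe (K29.f458078 IH) (Lpe (K28.f463707 IH) (Lpr_ct (K28.f108766 IH) (Lpr_gt (K24.f460592 IH) (Lpr_ct (K24.f129788 IH) (Lpe (K29.f85282 IH) (Lpe (K29.f129891 IH) (Lpn (LP (LK LD1_c3 LD2_c48 LD3_c4))))))))))))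
theorem f659625 : Led Lsl_gt (LP (LK LD1_c13 LD2_c41 LD3_c2)) = (LP (LK LD1_c7 LD2_c15 LD3_c21)) :=
  Lgr Lrot65 (Lpr_cf (K41.f471946 IH) (Lpr_bt (K41.f471215 IH) (Lpr_gf (f659618 IH) (Lpe (f659615 IH) (Lpe (K34.f530365 IH) (Lpe (K30.f490175 IH) (Lpe (K29.f129891 IH) (Lpe (f477554 IH) (Lpe (K33.f461672 IH) (Lpe (K33.f467500 IH) (Lpn (LP (LK LD1_c7 LD2_c15 LD3_c21)))))))))))))
theorem f659626 : Led Lsl_gt (LP (LK LD1_c13 LD2_c41 LD3_c2)) = (LP (LK LD1_c7 LD2_c15 LD3_c21)) :=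
  Leop (Lpe (f659625 IH) (Lpn (LP (LK LD1_c13 LD2_c41 LD3_c2))))
theorem seed_417 : LEOK LG_g (LK LD1_c13 LD2_c41 LD3_c2) :=
  Leoe_g (LK LD1_c13 LD2_c41 LD3_c2) (f659626 IH)
theorem f659612 : Led Lsl_cf K33.v2395 = v6948 :=
  Lgr Lrot108 (Lpe (K33.f519471 IH) (Lpr_ct (K34.f456058 IH) (Lpr_ft (f659610 IH) (Lpn v6948))))
theorem f476626 : Led Lsl_ct (LP (LK LD1_c3 LD2_c55 LD3_c58)) = (LP (LK LD1_c1 LD2_c54 LD3_c38)) :=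
  Lre_c IH (LK LD1_c3 LD2_c55 LD3_c58) (LK LD1_c1 LD2_c54 LD3_c38) Lrfl Lrfl
theorem f531764 : Led Lsl_bt (LP (LK LD1_c3 LD2_c55 LD3_c58)) = (LP (LK LD1_c7 LD2_c53 LD3_c33)) :=
  Lre_b IH (LK LD1_c3 LD2_c55 LD3_c58) (LK LD1_c7 LD2_c53 LD3_c33) Lrfl Lrfl
theorem f473966 : Led Lsl_bf (LP (LK LD1_c3 LD2_c35 LD3_c2)) = (LP (LK LD1_c3 LD2_c52 LD3_c58)) :=
  Lgr Lrot90 (Lpr_ct (K46.f456053 IH) (Lpr_bt (K34.f456052 IH) (Lpe (K24.f456050 IH) (Lpr_bt (K29.f473962 IH) (Lpr_ct (K29.f461511 IH) (Lpn (LP (LK LD1_c3 LD2_c52 LD3_c58))))))))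
theorem f443501 : Led Lsl_ct (LP (LK LD1_c3 LD2_c49 LD3_c46)) = (LP (LK LD1_c1 LD2_c51 LD3_c52)) :=
  Lre_c IH (LK LD1_c3 LD2_c49 LD3_c46) (LK LD1_c1 LD2_c51 LD3_c52) Lrfl Lrfl
theorem f477497 : Led Lsl_gf (LP (LK LD1_c3 LD2_c49 LD3_c46)) = (LP (LK LD1_c1 LD2_c52 LD3_c42)) :=
  Lgr Lrot147 (Lpr_ct (f443501 IH) (Lpr_gt (K29.f477490 IH) (Lpr_ct (K29.f129799 IH) (Lpe (K29.f464167 IH) (Lpr_cf (K29.f460253 IH) (Lpe (K29.f64169 IH) (Lpe (K29.f64168 IH) (Lpr_gf (K29.f63663 IH) (Lpe (K3.f63657 IH) (Lpn (LP (LK LD1_c1 LD2_c52 LD3_c42))))))))))))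
theorem f487546 : Led Lsl_at (LP (LK LD1_c3 LD2_c52 LD3_c58)) = (LP (LK LD1_c3 LD2_c49 LD3_c46)) :=
  Lgr Lrot107 (Lpe (K29.f461511 IH) (Lpr_af (K30.f487542 IH) (Lpe (f443501 IH) (Lpn (LP (LK LD1_c3 LD2_c49 LD3_c46))))))
theorem f530362 : Led Lsl_ff (LP (LK LD1_c3 LD2_c52 LD3_c58)) = K34.v2682 :=
  Lgr Lrot52 (Lpr_at (f487546 IH) (Lpr_gf (f477497 IH) (Lpr_gf (K34.f530360 IH) (Lpn K34.v2682))))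
theorem f659611 : Led Lsl_bf K34.v2682 = v6948 :=
  Lgr Lrot61 (Lpe (f530362 IH) (Lpe (f473966 IH) (Lpr_ft (f659610 IH) (Lpn v6948))))
theorem f659627 : Led Lsl_gt (LP (LK LD1_c7 LD2_c53 LD3_c33)) = (LP (LK LD1_c14 LD2_c41 LD3_c59)) :=
  Lgr Lrot82 (Lpe (f531764 IH) (Lpr_ct (f476626 IH) (Lpr_gf (K34.f531766 IH) (Lpq (K34.f531775 IH) (Lpr_cf (f659612 IH) (Lpe (f659611 IH) (Lpe (K34.f530361 IH) (Lpe (K34.f463933 IH) (Lpr_ct (K34.f463938 IH) (Lpe (K34.f463944 IH) (Lpe (K34.f530376 IH) (Lpn (LP (LK LD1_c14 LD2_c41 LD3_c59))))))))))))))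
theorem f659628 : Led Lsl_gt (LP (LK LD1_c7 LD2_c53 LD3_c33)) = (LP (LK LD1_c14 LD2_c41 LD3_c59)) :=
  Leop (Lpe (f659627 IH) (Lpn (LP (LK LD1_c7 LD2_c53 LD3_c33))))
theorem seed_418 : LEOK LG_g (LK LD1_c7 LD2_c53 LD3_c33) :=
  Leoe_g (LK LD1_c7 LD2_c53 LD3_c33) (f659628 IH)
def v6969 : LQ := Led Lsl_at (LP (LK LD1_c3 LD2_c35 LD3_c16))
theorem f659711 : Led Lsl_at (LP (LK LD1_c3 LD2_c35 LD3_c16)) = v6969 :=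
  Lrfl
def v2400 : LQ := Led Lsl_at (LP (LK LD1_c1 LD2_c44 LD3_c26))
theorem f519501 : Led Lsl_at (LP (LK LD1_c1 LD2_c44 LD3_c26)) = v2400 :=
  Lrfl
theorem f519502 : Led Lsl_af (LP (LK LD1_c1 LD2_c44 LD3_c26)) = v2400 :=
  Lgr Lrot0 (Lpr_at (f519501 IH) (Lpn v2400))
theorem f659714 : Led Lsl_cf v2400 = v6969 :=
  Lgr Lrot1 (Lpe (f519502 IH) (Lpr_ct (f11487 IH) (Lpr_at (f659711 IH) (Lpn v6969))))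
theorem f519506 : Led Lsl_ft (LP (LK LD1_c1 LD2_c44 LD3_c27)) = v2400 :=
  Lgr Lrot2 (Lpr_gt (f107804 IH) (Lpr_gt (f11482 IH) (Lpr_af (f519502 IH) (Lpn v2400))))
theorem f519509 : Led Lsl_ff (LP (LK LD1_c1 LD2_c44 LD3_c27)) = v2400 :=
  Lgr Lrot3 (Lpr_ft (f519506 IH) (Lpn v2400))
theorem f107884 : Led Lsl_ct (LP (LK LD1_c1 LD2_c44 LD3_c27)) = (LP (LK LD1_c3 LD2_c35 LD3_c18)) :=
  Lre_c IH (LK LD1_c1 LD2_c44 LD3_c27) (LK LD1_c3 LD2_c35 LD3_c18) Lrfl Lrfl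
theorem f659716 : Led Lsl_ft (LP (LK LD1_c3 LD2_c35 LD3_c18)) = v6969 :=
  Lgr Lrot4 (Lpe (f107884 IH) (Lpr_ff (f519509 IH) (Lpr_cf (f659714 IH) (Lpn v6969))))
theorem f659712 : Led Lsl_af (LP (LK LD1_c3 LD2_c35 LD3_c16)) = v6969 :=
  Lgr Lrot0 (Lpr_at (f659711 IH) (Lpn v6969))
theorem f519490 : Led Lsl_gt (LP (LK LD1_c7 LD2_c11 LD3_c32)) = (LP (LK LD1_c3 LD2_c35 LD3_c16)) :=
  Lre_g IH (LK LD1_c7 LD2_c11 LD3_c32) (LK LD1_c3 LD2_c35 LD3_c16) Lrfl Lrfl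
theorem f659718 : Led Lsl_gt (LP (LK LD1_c3 LD2_c35 LD3_c18)) = (LP (LK LD1_c7 LD2_c11 LD3_c32)) :=
  Lgr Lrot5 (Lpr_ft (f659716 IH) (Lpe (f659712 IH) (Lpe (f519490 IH) (Lpn (LP (LK LD1_c7 LD2_c11 LD3_c32))))))
theorem f659719 : Led Lsl_gt (LP (LK LD1_c3 LD2_c35 LD3_c18)) = (LP (LK LD1_c7 LD2_c11 LD3_c32)) :=
  Leop (Lpe (f659718 IH) (Lpn (LP (LK LD1_c3 LD2_c35 LD3_c18))))
theorem seed_419 : LEOK LG_g (LK LD1_c3 LD2_c35 LD3_c18) :=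
  Leoe_g (LK LD1_c3 LD2_c35 LD3_c18) (f659719 IH)
def v6995 : LQ := Led Lsl_et (LP (LK LD1_c3 LD2_c35 LD3_c39))
theorem f659862 : Led Lsl_et (LP (LK LD1_c3 LD2_c35 LD3_c39)) = v6995 :=
  Lrfl
theorem f94909 : Led Lsl_et (LP (LK LD1_c7 LD2_c1 LD3_c51)) = (LP (LK LD1_c3 LD2_c30 LD3_c3)) :=
  Lre_e IH (LK LD1_c7 LD2_c1 LD3_c51) (LK LD1_c3 LD2_c30 LD3_c3) Lrfl Lrfl
theorem f659865 : Led Lsl_cf (LP (LK LD1_c7 LD2_c1 LD3_c51)) = v6995 :=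
  Lgr Lrot39 (Lpr_et (f94909 IH) (Lpr_ct (K4.f109479 IH) (Lpr_et (f659862 IH) (Lpn v6995))))
theorem f94898 : Led Lsl_gt (LP (LK LD1_c7 LD2_c1 LD3_c51)) = (LP (LK LD1_c13 LD2_c20 LD3_c6)) :=
  Lre_g IH (LK LD1_c7 LD2_c1 LD3_c51) (LK LD1_c13 LD2_c20 LD3_c6) Lrfl Lrfl
theorem f659870 : Led Lsl_ct (LP (LK LD1_c22 LD2_c36 LD3_c31)) = (LP (LK LD1_c13 LD2_c20 LD3_c6)) :=
  Lre_c IH (LK LD1_c22 LD2_c36 LD3_c31) (LK LD1_c13 LD2_c20 LD3_c6) Lrfl Lrfl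
theorem f659864 : Led Lsl_bf (LP (LK LD1_c3 LD2_c35 LD3_c40)) = v6995 :=
  Lgr Lrot96 (Lpr_et (K28.f108552 IH) (Lpr_bt (K3.f98483 IH) (Lpr_et (f659862 IH) (Lpn v6995))))
theorem f481467 : Led Lsl_bt (LP (LK LD1_c3 LD2_c38 LD3_c60)) = (LP (LK LD1_c1 LD2_c46 LD3_c26)) :=
  Lre_b IH (LK LD1_c3 LD2_c38 LD3_c60) (LK LD1_c1 LD2_c46 LD3_c26) Lrfl Lrfl
theorem f441380 : Led Lsl_bt (LP (LK LD1_c7 LD2_c1 LD3_c3)) = (LP (LK LD1_c3 LD2_c29 LD3_c44)) :=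
  Lre_b IH (LK LD1_c7 LD2_c1 LD3_c3) (LK LD1_c3 LD2_c29 LD3_c44) Lrfl Lrfl
theorem f5648 : Led Lsl_bt (LP (LK LD1_c1 LD2_c46 LD3_c26)) = (LP (LK LD1_c3 LD2_c38 LD3_c60)) :=
  Lre_b IH (LK LD1_c1 LD2_c46 LD3_c26) (LK LD1_c3 LD2_c38 LD3_c60) Lrfl Lrfl
theorem f482950 : Led Lsl_cf (LP (LK LD1_c7 LD2_c1 LD3_c3)) = (LP (LK LD1_c3 LD2_c38 LD3_c60)) :=
  Lgr Lrot97 (Lpr_bt (f441380 IH) (Lpr_ct (K30.f482948 IH) (Lpr_bt (K33.f4451 IH) (Lpr_ct (K29.f4420 IH) (Lpr_bt (f5648 IH) (Lpn (LP (LK LD1_c3 LD2_c38 LD3_c60))))))))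
theorem f472463 : Led Lsl_gt (LP (LK LD1_c13 LD2_c18 LD3_c42)) = (LP (LK LD1_c7 LD2_c1 LD3_c3)) :=
  Lre_g IH (LK LD1_c13 LD2_c18 LD3_c42) (LK LD1_c7 LD2_c1 LD3_c3) Lrfl Lrfl
theorem f609145 : Led Lsl_ct (LP (LK LD1_c21 LD2_c14 LD3_c46)) = (LP (LK LD1_c13 LD2_c18 LD3_c42)) :=
  Lgr Lrot64 (Lpr_bt (K41.f424491 IH) (Lpr_gf (f609143 IH) (Lpe (K35.f92535 IH) (Lpe (K28.f456474 IH) (Lpr_gf (K28.f467381 IH) (Lpr_cf (K28.f441469 IH) (Lpr_gf (K29.f481460 IH) (Lpe (f481467 IH) (Lpe (f482950 IH) (Lpe (f472463 IH) (Lpn (LP (LK LD1_c13 LD2_c18 LD3_c42)))))))))))))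
theorem f450902 : Led Lsl_ct (LP (LK LD1_c13 LD2_c42 LD3_c61)) = (LP (LK LD1_c7 LD2_c14 LD3_c58)) :=
  Lre_c IH (LK LD1_c13 LD2_c42 LD3_c61) (LK LD1_c7 LD2_c14 LD3_c58) Lrfl Lrfl
theorem f456480 : Led Lsl_bt (LP (LK LD1_c3 LD2_c41 LD3_c46)) = (LP (LK LD1_c1 LD2_c47 LD3_c49)) :=
  Lre_b IH (LK LD1_c3 LD2_c41 LD3_c46) (LK LD1_c1 LD2_c47 LD3_c49) Lrfl Lrfl
theorem f437920 : Led Lsl_bt (LP (LK LD1_c3 LD2_c41 LD3_c50)) = (LP (LK LD1_c7 LD2_c24 LD3_c19)) :=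
  Lre_b IH (LK LD1_c3 LD2_c41 LD3_c50) (LK LD1_c7 LD2_c24 LD3_c19) Lrfl Lrfl
theorem f456481 : Led Lsl_ct (LP (LK LD1_c7 LD2_c24 LD3_c19)) = (LP (LK LD1_c13 LD2_c43 LD3_c0)) :=
  Lgr Lrot83 (Lpe (f437920 IH) (Lpe (K33.f437917 IH) (Lpe (f456480 IH) (Lpr_cf (K29.f456478 IH) (Lpe (K43.f92536 IH) (Lpn (LP (LK LD1_c13 LD2_c43 LD3_c0))))))))
theorem f456503 : Led Lsl_gt (LP (LK LD1_c14 LD2_c0 LD3_c35)) = (LP (LK LD1_c7 LD2_c24 LD3_c19)) :=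
  Lre_g IH (LK LD1_c14 LD2_c0 LD3_c35) (LK LD1_c7 LD2_c24 LD3_c19) Lrfl Lrfl
theorem f611220 : Led Lsl_cf (LP (LK LD1_c14 LD2_c0 LD3_c35)) = (LP (LK LD1_c22 LD2_c57 LD3_c3)) :=
  Lgr Lrot169 (Lpr_gt (f456503 IH) (Lpr_ct (f456481 IH) (Lpe (f92604 IH) (Lpe (f450902 IH) (Lpe (f609163 IH) (Lpe (K42.f6064 IH) (Lpe (K40.f560899 IH) (Lpr_df (f609179 IH) (Lpr_gt (f450809 IH) (Lpn (LP (LK LD1_c22 LD2_c57 LD3_c3))))))))))))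
theorem f456105 : Led Lsl_dt (LP (LK LD1_c7 LD2_c6 LD3_c46)) = (LP (LK LD1_c13 LD2_c28 LD3_c41)) :=
  Lre_d IH (LK LD1_c7 LD2_c6 LD3_c46) (LK LD1_c13 LD2_c28 LD3_c41) Lrfl Lrfl
theorem f519998 : Led Lsl_ct (LP (LK LD1_c13 LD2_c43 LD3_c25)) = (LP (LK LD1_c7 LD2_c15 LD3_c11)) :=
  Lre_c IH (LK LD1_c13 LD2_c43 LD3_c25) (LK LD1_c7 LD2_c15 LD3_c11) Lrfl Lrfl
theorem f529042 : Led Lsl_gt (LP (LK LD1_c7 LD2_c52 LD3_c36)) = (LP (LK LD1_c13 LD2_c42 LD3_c36)) :=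
  Lgr Lrot82 (Lpe (K46.f478648 IH) (Lpe (K40.f478646 IH) (Lpe (K40.f522143 IH) (Lpe (f519998 IH) (Lpr_bt (K33.f520043 IH) (Lpe (K37.f522327 IH) (Lpe (K8.f155653 IH) (Lpr_ct (K8.f155675 IH) (Lpr_gf (K37.f529040 IH) (Lpe (K37.f487908 IH) (Lpn (LP (LK LD1_c13 LD2_c42 LD3_c36)))))))))))))
theorem f487909 : Led Lsl_dt (LP (LK LD1_c13 LD2_c42 LD3_c36)) = (LP (LK LD1_c23 LD2_c8 LD3_c33)) :=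
  Lre_d IH (LK LD1_c13 LD2_c42 LD3_c36) (LK LD1_c23 LD2_c8 LD3_c33) Lrfl Lrfl
theorem f528250 : Led Lsl_at (LP (LK LD1_c14 LD2_c51 LD3_c31)) = (LP (LK LD1_c7 LD2_c52 LD3_c38)) :=
  Lre_a IH (LK LD1_c14 LD2_c51 LD3_c31) (LK LD1_c7 LD2_c52 LD3_c38) Lrfl Lrfl
theorem f487903 : Led Lsl_at (LP (LK LD1_c13 LD2_c42 LD3_c38)) = (LP (LK LD1_c23 LD2_c8 LD3_c33)) :=
  Lre_a IH (LK LD1_c13 LD2_c42 LD3_c38) (LK LD1_c23 LD2_c8 LD3_c33) Lrfl Lrfl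
theorem f528251 : Led Lsl_ff (LP (LK LD1_c14 LD2_c51 LD3_c31)) = (LP (LK LD1_c23 LD2_c8 LD3_c33)) :=
  Lgr Lrot30 (Lpr_at (f528250 IH) (Lpr_ft (K40.f528223 IH) (Lpr_at (f487903 IH) (Lpn (LP (LK LD1_c23 LD2_c8 LD3_c33))))))
theorem f456635 : Led Lsl_gt (LP (LK LD1_c14 LD2_c51 LD3_c33)) = (LP (LK LD1_c7 LD2_c52 LD3_c38)) :=
  Lre_g IH (LK LD1_c14 LD2_c51 LD3_c33) (LK LD1_c7 LD2_c52 LD3_c38) Lrfl Lrfl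
theorem f528275 : Led Lsl_gf (LP (LK LD1_c14 LD2_c51 LD3_c33)) = (LP (LK LD1_c23 LD2_c8 LD3_c33)) :=
  Lgr Lrot47 (Lpr_gt (f456635 IH) (Lpe (f528250 IH) (Lpr_ff (f528251 IH) (Lpn (LP (LK LD1_c23 LD2_c8 LD3_c33))))))
theorem f611227 : Led Lsl_df (LP (LK LD1_c14 LD2_c0 LD3_c35)) = (LP (LK LD1_c14 LD2_c51 LD3_c33)) :=
  Lgr Lrot84 (Lpr_cf (f611220 IH) (Lpe (f610674 IH) (Lpe (f515451 IH) (Lpe (f456105 IH) (Lpr_gf (K43.f560755 IH) (Lpe (K46.f560757 IH) (Lpr_gt (f529042 IH) (Lpr_dt (f487909 IH) (Lpe (f528275 IH) (Lpn (LP (LK LD1_c14 LD2_c51 LD3_c33))))))))))))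
theorem f611231 : Led Lsl_dt (LP (LK LD1_c14 LD2_c0 LD3_c35)) = (LP (LK LD1_c14 LD2_c51 LD3_c33)) :=
  Lgr Lrot42 (Lpr_df (f611227 IH) (Lpn (LP (LK LD1_c14 LD2_c51 LD3_c33))))
theorem f592483 : Led Lsl_df (LP (LK LD1_c22 LD2_c49 LD3_c41)) = (LP (LK LD1_c24 LD2_c57 LD3_c49)) :=
  Lgr Lrot38 (Lpr_dt (f592479 IH) (Lpn (LP (LK LD1_c24 LD2_c57 LD3_c49))))
theorem f610685 : Led Lsl_ef (LP (LK LD1_c22 LD2_c57 LD3_c3)) = (LP (LK LD1_c22 LD2_c49 LD3_c40)) :=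
  Lgr Lrot73 (Lpe (f610676 IH) (Lpr_et (f610683 IH) (Lpe (f592483 IH) (Lpr_et (f553305 IH) (Lpr_dt (f470367 IH) (Lpn (LP (LK LD1_c22 LD2_c49 LD3_c40))))))))
theorem f611225 : Led Lsl_et (LP (LK LD1_c14 LD2_c0 LD3_c35)) = (LP (LK LD1_c22 LD2_c43 LD3_c55)) :=
  Lgr Lrot158 (Lpr_cf (f611220 IH) (Lpr_ef (f610685 IH) (Lpe (f610696 IH) (Lpn (LP (LK LD1_c22 LD2_c43 LD3_c55))))))
theorem f480444 : Led Lsl_dt (LP (LK LD1_c13 LD2_c25 LD3_c10)) = (LP (LK LD1_c22 LD2_c43 LD3_c57)) :=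
  Lre_d IH (LK LD1_c13 LD2_c25 LD3_c10) (LK LD1_c22 LD2_c43 LD3_c57) Lrfl Lrfl
theorem f487878 : Led Lsl_at (LP (LK LD1_c7 LD2_c14 LD3_c48)) = (LP (LK LD1_c13 LD2_c42 LD3_c36)) :=
  Lre_a IH (LK LD1_c7 LD2_c14 LD3_c48) (LK LD1_c13 LD2_c42 LD3_c36) Lrfl Lrfl
theorem f487879 : Led Lsl_ef (LP (LK LD1_c14 LD2_c55 LD3_c16)) = (LP (LK LD1_c13 LD2_c42 LD3_c36)) :=
  Lgr Lrot20 (Lpr_at (f487876 IH) (Lpr_et (K33.f487874 IH) (Lpr_at (f487878 IH) (Lpn (LP (LK LD1_c13 LD2_c42 LD3_c36))))))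
theorem f607560 : Led Lsl_cf (LP (LK LD1_c23 LD2_c38 LD3_c25)) = (LP (LK LD1_c21 LD2_c14 LD3_c30)) :=
  Lgr Lrot166 (Lpr_gt (f607552 IH) (Lpr_dt (K46.f607409 IH) (Lpr_gt (f607430 IH) (Lpr_dt (f81316 IH) (Lpr_ct (K46.f607150 IH) (Lpr_df (K43.f560545 IH) (Lpe (K43.f464688 IH) (Lpe (K40.f487877 IH) (Lpe (K40.f543678 IH) (Lpn (LP (LK LD1_c21 LD2_c14 LD3_c30))))))))))))
theorem f205643 : Led Lsl_dt (LP (LK LD1_c12 LD2_c8 LD3_c16)) = (LP (LK LD1_c6 LD2_c14 LD3_c57)) :=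
  Lre_d IH (LK LD1_c12 LD2_c8 LD3_c16) (LK LD1_c6 LD2_c14 LD3_c57) Lrfl Lrfl
theorem f205641 : Led Lsl_gt (LP (LK LD1_c21 LD2_c14 LD3_c34)) = (LP (LK LD1_c12 LD2_c8 LD3_c16)) :=
  Lre_g IH (LK LD1_c21 LD2_c14 LD3_c34) (LK LD1_c12 LD2_c8 LD3_c16) Lrfl Lrfl
theorem f607569 : Led Lsl_ct (LP (LK LD1_c23 LD2_c29 LD3_c59)) = (LP (LK LD1_c21 LD2_c14 LD3_c34)) :=
  Lgr Lrot8 (Lpr_gt (K43.f147303 IH) (Lpe (K43.f560359 IH) (Lpe (f607558 IH) (Lpr_dt (f560365 IH) (Lpr_cf (f607560 IH) (Lpe (K40.f543681 IH) (Lpe (K37.f70728 IH) (Lpe (f205643 IH) (Lpe (f205641 IH) (Lpn (LP (LK LD1_c21 LD2_c14 LD3_c34))))))))))))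
theorem f607571 : Led Lsl_cf (LP (LK LD1_c23 LD2_c29 LD3_c59)) = (LP (LK LD1_c21 LD2_c14 LD3_c34)) :=
  Lgr Lrot11 (Lpr_ct (f607569 IH) (Lpn (LP (LK LD1_c21 LD2_c14 LD3_c34))))
theorem f147415 : Led Lsl_bt (LP (LK LD1_c23 LD2_c29 LD3_c55)) = (LP (LK LD1_c13 LD2_c57 LD3_c58)) :=
  Lre_b IH (LK LD1_c23 LD2_c29 LD3_c55) (LK LD1_c13 LD2_c57 LD3_c58) Lrfl Lrfl
theorem f147104 : Led Lsl_gt (LP (LK LD1_c13 LD2_c58 LD3_c11)) = (LP (LK LD1_c7 LD2_c23 LD3_c17)) :=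
  Lre_g IH (LK LD1_c13 LD2_c58 LD3_c11) (LK LD1_c7 LD2_c23 LD3_c17) Lrfl Lrfl
theorem f489901 : Led Lsl_ct (LP (LK LD1_c7 LD2_c28 LD3_c0)) = (LP (LK LD1_c13 LD2_c58 LD3_c11)) :=
  Lgr Lrot152 (Lpe (K28.f131800 IH) (Lpe (K28.f131755 IH) (Lpr_gt (K28.f209148 IH) (Lpr_ct (K35.f463567 IH) (Lpr_gt (K28.f90119 IH) (Lpe (K28.f146926 IH) (Lpe (K33.f144426 IH) (Lpe (K8.f147095 IH) (Lpe (f147104 IH) (Lpn (LP (LK LD1_c13 LD2_c58 LD3_c11))))))))))))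
theorem f440464 : Led Lsl_at (LP (LK LD1_c13 LD2_c56 LD3_c27)) = (LP (LK LD1_c23 LD2_c27 LD3_c24)) :=
  Lre_a IH (LK LD1_c13 LD2_c56 LD3_c27) (LK LD1_c23 LD2_c27 LD3_c24) Lrfl Lrfl
theorem f440465 : Led Lsl_ft (LP (LK LD1_c23 LD2_c27 LD3_c40)) = (LP (LK LD1_c13 LD2_c56 LD3_c27)) :=
  Lre_f IH (LK LD1_c23 LD2_c27 LD3_c40) (LK LD1_c13 LD2_c56 LD3_c27) Lrfl Lrfl
theorem f469749 : Led Lsl_at (LP (LK LD1_c31 LD2_c3 LD3_c32)) = (LP (LK LD1_c23 LD2_c27 LD3_c40)) :=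
  Lgr Lrot66 (Lpr_ff (K34.f469747 IH) (Lpe (f440464 IH) (Lpe (f440465 IH) (Lpn (LP (LK LD1_c23 LD2_c27 LD3_c40))))))
theorem f209140 : Led Lsl_gt (LP (LK LD1_c23 LD2_c27 LD3_c24)) = (LP (LK LD1_c31 LD2_c3 LD3_c46)) :=
  Lre_g IH (LK LD1_c23 LD2_c27 LD3_c24) (LK LD1_c31 LD2_c3 LD3_c46) Lrfl Lrfl
theorem f469753 : Led Lsl_gf (LP (LK LD1_c23 LD2_c27 LD3_c40)) = (LP (LK LD1_c31 LD2_c3 LD3_c46)) :=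
  Lgr Lrot76 (Lpe (f469749 IH) (Lpr_ff (K34.f469747 IH) (Lpr_gt (f209140 IH) (Lpn (LP (LK LD1_c31 LD2_c3 LD3_c46))))))
theorem f147349 : Led Lsl_bt (LP (LK LD1_c3 LD2_c41 LD3_c23)) = (LP (LK LD1_c7 LD2_c23 LD3_c10)) :=
  Lre_b IH (LK LD1_c3 LD2_c41 LD3_c23) (LK LD1_c7 LD2_c23 LD3_c10) Lrfl Lrfl
theorem f489921 : Led Lsl_cf (LP (LK LD1_c31 LD2_c3 LD3_c46)) = (LP (LK LD1_c23 LD2_c29 LD3_c55)) :=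
  Lgr Lrot160 (Lpe (f469753 IH) (Lpe (K34.f131778 IH) (Lpr_bt (K39.f131777 IH) (Lpr_gt (K28.f131800 IH) (Lpr_ct (f489901 IH) (Lpr_gt (f147104 IH) (Lpe (K34.f147084 IH) (Lpr_bt (f147349 IH) (Lpr_gt (f488287 IH) (Lpe (f147415 IH) (Lpn (LP (LK LD1_c23 LD2_c29 LD3_c55)))))))))))))
theorem f607577 : Led Lsl_bf (LP (LK LD1_c23 LD2_c22 LD3_c55)) = (LP (LK LD1_c21 LD2_c14 LD3_c34)) :=
  Lgr Lrot156 (Lpe (K40.f558908 IH) (Lpe (K37.f209129 IH) (Lpr_ct (K34.f209139 IH) (Lpr_gt (f209140 IH) (Lpr_cf (f489921 IH) (Lpr_bt (f147415 IH) (Lpr_gt (f147414 IH) (Lpe (K43.f560341 IH) (Lpr_gt (K43.f560348 IH) (Lpr_cf (f607571 IH) (Lpn (LP (LK LD1_c21 LD2_c14 LD3_c34)))))))))))))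
theorem f439635 : Led Lsl_et (LP (LK LD1_c14 LD2_c2 LD3_c0)) = (LP (LK LD1_c7 LD2_c25 LD3_c15)) :=
  Lre_e IH (LK LD1_c14 LD2_c2 LD3_c0) (LK LD1_c7 LD2_c25 LD3_c15) Lrfl Lrfl
theorem f471720 : Led Lsl_bf (LP (LK LD1_c14 LD2_c2 LD3_c0)) = (LP (LK LD1_c13 LD2_c52 LD3_c54)) :=
  Lgr Lrot96 (Lpr_et (f439635 IH) (Lpr_bt (K29.f471714 IH) (Lpr_et (K40.f471282 IH) (Lpn (LP (LK LD1_c13 LD2_c52 LD3_c54))))))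
theorem f607581 : Led Lsl_dt (LP (LK LD1_c14 LD2_c2 LD3_c0)) = (LP (LK LD1_c21 LD2_c14 LD3_c34)) :=
  Lgr Lrot79 (Lpr_bf (f471720 IH) (Lpe (K40.f471289 IH) (Lpr_bf (f607577 IH) (Lpn (LP (LK LD1_c21 LD2_c14 LD3_c34))))))
theorem f543358 : Led Lsl_cf (LP (LK LD1_c12 LD2_c7 LD3_c55)) = (LP (LK LD1_c14 LD2_c55 LD3_c16)) :=
  Lgr Lrot39 (Lpr_et (K37.f543353 IH) (Lpr_ct (K40.f487912 IH) (Lpe (f487879 IH) (Lpn (LP (LK LD1_c14 LD2_c55 LD3_c16))))))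
theorem f607587 : Led Lsl_gt (LP (LK LD1_c14 LD2_c2 LD3_c0)) = (LP (LK LD1_c14 LD2_c55 LD3_c16)) :=
  Lgr Lrot146 (Lpr_dt (f607581 IH) (Lpr_gt (f205641 IH) (Lpr_ct (K39.f75765 IH) (Lpr_gt (K39.f205647 IH) (Lpr_ct (K39.f560405 IH) (Lpr_dt (K39.f543484 IH) (Lpe (K43.f543355 IH) (Lpe (K37.f543348 IH) (Lpr_cf (f543358 IH) (Lpn (LP (LK LD1_c14 LD2_c55 LD3_c16))))))))))))
theorem f471875 : Led Lsl_et (LP (LK LD1_c7 LD2_c25 LD3_c15)) = (LP (LK LD1_c14 LD2_c2 LD3_c0)) :=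
  Lre_e IH (LK LD1_c7 LD2_c25 LD3_c15) (LK LD1_c14 LD2_c2 LD3_c0) Lrfl Lrfl
theorem f108068 : Led Lsl_dt (LP (LK LD1_c7 LD2_c25 LD3_c15)) = (LP (LK LD1_c14 LD2_c1 LD3_c61)) :=
  Lre_d IH (LK LD1_c7 LD2_c25 LD3_c15) (LK LD1_c14 LD2_c1 LD3_c61) Lrfl Lrfl
theorem f611248 : Led Lsl_gt (LP (LK LD1_c22 LD2_c43 LD3_c57)) = (LP (LK LD1_c14 LD2_c1 LD3_c61)) :=
  Lgr Lrot139 (Lpe (f480444 IH) (Lpe (f459221 IH) (Lpe (f611225 IH) (Lpr_dt (f611231 IH) (Lpr_gf (f528275 IH) (Lpe (f487909 IH) (Lpe (f487879 IH) (Lpe (f607587 IH) (Lpe (f471875 IH) (Lpr_dt (f108068 IH) (Lpn (LP (LK LD1_c14 LD2_c1 LD3_c61)))))))))))))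
theorem f529167 : Led Lsl_ft (LP (LK LD1_c13 LD2_c13 LD3_c5)) = (LP (LK LD1_c13 LD2_c25 LD3_c11)) :=
  Lgr Lrot54 (Lpr_df (K33.f480050 IH) (Lpr_ff (K42.f529161 IH) (Lpe (K42.f464355 IH) (Lpn (LP (LK LD1_c13 LD2_c25 LD3_c11))))))
theorem f19075 : Led Lsl_bt (LP (LK LD1_c22 LD2_c27 LD3_c8)) = (LP (LK LD1_c13 LD2_c13 LD3_c5)) :=
  Lre_b IH (LK LD1_c22 LD2_c27 LD3_c8) (LK LD1_c13 LD2_c13 LD3_c5) Lrfl Lrfl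
theorem f529147 : Led Lsl_bt (LP (LK LD1_c13 LD2_c25 LD3_c11)) = (LP (LK LD1_c22 LD2_c43 LD3_c57)) :=
  Lre_b IH (LK LD1_c13 LD2_c25 LD3_c11) (LK LD1_c22 LD2_c43 LD3_c57) Lrfl Lrfl
theorem f529179 : Led Lsl_ff (LP (LK LD1_c22 LD2_c27 LD3_c8)) = (LP (LK LD1_c22 LD2_c43 LD3_c57)) :=
  Lgr Lrot25 (Lpr_bt (f19075 IH) (Lpr_ft (f529167 IH) (Lpr_bt (f529147 IH) (Lpn (LP (LK LD1_c22 LD2_c43 LD3_c57))))))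
theorem f108069 : Led Lsl_gt (LP (LK LD1_c14 LD2_c1 LD3_c61)) = (LP (LK LD1_c23 LD2_c34 LD3_c54)) :=
  Lre_g IH (LK LD1_c14 LD2_c1 LD3_c61) (LK LD1_c23 LD2_c34 LD3_c54) Lrfl Lrfl
theorem f611250 : Led Lsl_at (LP (LK LD1_c22 LD2_c27 LD3_c8)) = (LP (LK LD1_c23 LD2_c34 LD3_c54)) :=
  Lgr Lrot26 (Lpr_ff (f529179 IH) (Lpr_gt (f611248 IH) (Lpr_gt (f108069 IH) (Lpn (LP (LK LD1_c23 LD2_c34 LD3_c54))))))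
theorem f480485 : Led Lsl_df (LP (LK LD1_c22 LD2_c27 LD3_c8)) = (LP (LK LD1_c13 LD2_c25 LD3_c56)) :=
  Lgr Lrot12 (Lpr_bt (f19075 IH) (Lpr_dt (K33.f480054 IH) (Lpr_bt (K42.f458326 IH) (Lpn (LP (LK LD1_c13 LD2_c25 LD3_c56))))))
theorem f479778 : Led Lsl_at (LP (LK LD1_c22 LD2_c45 LD3_c15)) = (LP (LK LD1_c13 LD2_c25 LD3_c56)) :=
  Lre_a IH (LK LD1_c22 LD2_c45 LD3_c15) (LK LD1_c13 LD2_c25 LD3_c56) Lrfl Lrfl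
theorem f611258 : Led Lsl_df (LP (LK LD1_c22 LD2_c45 LD3_c15)) = (LP (LK LD1_c23 LD2_c34 LD3_c54)) :=
  Lgr Lrot18 (Lpr_at (f479778 IH) (Lpe (f480485 IH) (Lpr_at (f611250 IH) (Lpn (LP (LK LD1_c23 LD2_c34 LD3_c54))))))
theorem f92641 : Led Lsl_et (LP (LK LD1_c3 LD2_c39 LD3_c40)) = (LP (LK LD1_c1 LD2_c46 LD3_c44)) :=
  Lre_e IH (LK LD1_c3 LD2_c39 LD3_c40) (LK LD1_c1 LD2_c46 LD3_c44) Lrfl Lrfl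
theorem f479659 : Led Lsl_dt (LP (LK LD1_c1 LD2_c46 LD3_c44)) = (LP (LK LD1_c3 LD2_c39 LD3_c39)) :=
  Lre_d IH (LK LD1_c1 LD2_c46 LD3_c44) (LK LD1_c3 LD2_c39 LD3_c39) Lrfl Lrfl
theorem f479680 : Led Lsl_et (LP (LK LD1_c3 LD2_c39 LD3_c39)) = (LP (LK LD1_c7 LD2_c19 LD3_c31)) :=
  Lre_e IH (LK LD1_c3 LD2_c39 LD3_c39) (LK LD1_c7 LD2_c19 LD3_c31) Lrfl Lrfl
theorem f455414 : Led Lsl_et (LP (LK LD1_c13 LD2_c14 LD3_c38)) = (LP (LK LD1_c6 LD2_c58 LD3_c34)) :=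
  Lre_e IH (LK LD1_c13 LD2_c14 LD3_c38) (LK LD1_c6 LD2_c58 LD3_c34) Lrfl Lrfl
theorem f479681 : Led Lsl_dt (LP (LK LD1_c7 LD2_c19 LD3_c31)) = (LP (LK LD1_c13 LD2_c14 LD3_c38)) :=
  Lgr Lrot77 (Lpe (f479680 IH) (Lpe (f479659 IH) (Lpe (f92641 IH) (Lpr_df (K33.f479670 IH) (Lpe (f455414 IH) (Lpn (LP (LK LD1_c13 LD2_c14 LD3_c38))))))))
theorem f479690 : Led Lsl_df (LP (LK LD1_c7 LD2_c19 LD3_c31)) = (LP (LK LD1_c13 LD2_c14 LD3_c38)) :=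
  Lgr Lrot38 (Lpr_dt (f479681 IH) (Lpn (LP (LK LD1_c13 LD2_c14 LD3_c38))))
theorem f479698 : Led Lsl_bt (LP (LK LD1_c7 LD2_c19 LD3_c31)) = (LP (LK LD1_c13 LD2_c51 LD3_c17)) :=
  Lre_b IH (LK LD1_c7 LD2_c19 LD3_c31) (LK LD1_c13 LD2_c51 LD3_c17) Lrfl Lrfl
theorem f479699 : Led Lsl_bt (LP (LK LD1_c22 LD2_c29 LD3_c31)) = (LP (LK LD1_c13 LD2_c14 LD3_c38)) :=
  Lre_b IH (LK LD1_c22 LD2_c29 LD3_c31) (LK LD1_c13 LD2_c14 LD3_c38) Lrfl Lrfl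
theorem f479700 : Led Lsl_dt (LP (LK LD1_c13 LD2_c51 LD3_c17)) = (LP (LK LD1_c22 LD2_c29 LD3_c31)) :=
  Lgr Lrot79 (Lpe (f479698 IH) (Lpr_df (f479690 IH) (Lpe (f479699 IH) (Lpn (LP (LK LD1_c22 LD2_c29 LD3_c31))))))
theorem f479711 : Led Lsl_dt (LP (LK LD1_c3 LD2_c39 LD3_c38)) = (LP (LK LD1_c7 LD2_c19 LD3_c29)) :=
  Lre_d IH (LK LD1_c3 LD2_c39 LD3_c38) (LK LD1_c7 LD2_c19 LD3_c29) Lrfl Lrfl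
theorem f479713 : Led Lsl_et (LP (LK LD1_c22 LD2_c29 LD3_c31)) = (LP (LK LD1_c13 LD2_c14 LD3_c37)) :=
  Lre_e IH (LK LD1_c22 LD2_c29 LD3_c31) (LK LD1_c13 LD2_c14 LD3_c37) Lrfl Lrfl
theorem f479714 : Led Lsl_df (LP (LK LD1_c7 LD2_c19 LD3_c30)) = (LP (LK LD1_c13 LD2_c14 LD3_c37)) :=
  Lgr Lrot70 (Lpr_et (f479712 IH) (Lpr_dt (f479711 IH) (Lpr_et (f479710 IH) (Lpr_dt (f479700 IH) (Lpr_et (f479713 IH) (Lpn (LP (LK LD1_c13 LD2_c14 LD3_c37))))))))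
theorem f479722 : Led Lsl_dt (LP (LK LD1_c13 LD2_c51 LD3_c13)) = (LP (LK LD1_c22 LD2_c29 LD3_c29)) :=
  Lgr Lrot44 (Lpe (f479720 IH) (Lpr_df (f479714 IH) (Lpe (f479721 IH) (Lpn (LP (LK LD1_c22 LD2_c29 LD3_c29))))))
theorem f479728 : Led Lsl_df (LP (LK LD1_c13 LD2_c51 LD3_c13)) = (LP (LK LD1_c22 LD2_c29 LD3_c29)) :=
  Lgr Lrot38 (Lpr_dt (f479722 IH) (Lpn (LP (LK LD1_c22 LD2_c29 LD3_c29))))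
theorem f108040 : Led Lsl_dt (LP (LK LD1_c7 LD2_c8 LD3_c4)) = (LP (LK LD1_c13 LD2_c30 LD3_c51)) :=
  Lre_d IH (LK LD1_c7 LD2_c8 LD3_c4) (LK LD1_c13 LD2_c30 LD3_c51) Lrfl Lrfl
theorem f611270 : Led Lsl_gf (LP (LK LD1_c22 LD2_c29 LD3_c29)) = (LP (LK LD1_c13 LD2_c30 LD3_c51)) :=
  Lgr Lrot143 (Lpe (f479728 IH) (Lpr_cf (f479776 IH) (Lpr_df (f611258 IH) (Lpe (f108069 IH) (Lpe (f108068 IH) (Lpe (K28.f108067 IH) (Lpe (K41.f108030 IH) (Lpr_gt (K39.f108039 IH) (Lpr_dt (f108040 IH) (Lpn (LP (LK LD1_c13 LD2_c30 LD3_c51))))))))))))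
theorem f479737 : Led Lsl_gt (LP (LK LD1_c13 LD2_c51 LD3_c13)) = (LP (LK LD1_c23 LD2_c20 LD3_c29)) :=
  Lre_g IH (LK LD1_c13 LD2_c51 LD3_c13) (LK LD1_c23 LD2_c20 LD3_c29) Lrfl Lrfl
theorem f475843 : Led Lsl_dt (LP (LK LD1_c13 LD2_c30 LD3_c51)) = (LP (LK LD1_c7 LD2_c8 LD3_c4)) :=
  Lre_d IH (LK LD1_c13 LD2_c30 LD3_c51) (LK LD1_c7 LD2_c8 LD3_c4) Lrfl Lrfl
theorem f80521 : Led Lsl_et (LP (LK LD1_c3 LD2_c4 LD3_c21)) = (LP (LK LD1_c6 LD2_c14 LD3_c54)) :=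
  Lre_e IH (LK LD1_c3 LD2_c4 LD3_c21) (LK LD1_c6 LD2_c14 LD3_c54) Lrfl Lrfl
theorem f38087 : Led Lsl_dt (LP (LK LD1_c6 LD2_c14 LD3_c54)) = (LP (LK LD1_c12 LD2_c8 LD3_c6)) :=
  Lre_d IH (LK LD1_c6 LD2_c14 LD3_c54) (LK LD1_c12 LD2_c8 LD3_c6) Lrfl Lrfl
theorem f552948 : Led Lsl_ef (LP (LK LD1_c13 LD2_c30 LD3_c51)) = (LP (LK LD1_c12 LD2_c8 LD3_c6)) :=
  Lgr Lrot73 (Lpr_dt (f475843 IH) (Lpr_et (K39.f552941 IH) (Lpr_dt (K39.f80492 IH) (Lpr_et (f80521 IH) (Lpr_dt (f38087 IH) (Lpn (LP (LK LD1_c12 LD2_c8 LD3_c6))))))))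
theorem f543429 : Led Lsl_cf (LP (LK LD1_c6 LD2_c13 LD3_c52)) = (LP (LK LD1_c4 LD2_c42 LD3_c39)) :=
  Lgr Lrot11 (Lpr_ct (K37.f543426 IH) (Lpn (LP (LK LD1_c4 LD2_c42 LD3_c39))))
theorem f239030 : Led Lsl_gt (LP (LK LD1_c4 LD2_c42 LD3_c41)) = (LP (LK LD1_c9 LD2_c19 LD3_c38)) :=
  Lre_g IH (LK LD1_c4 LD2_c42 LD3_c41) (LK LD1_c9 LD2_c19 LD3_c38) Lrfl Lrfl
theorem f543527 : Led Lsl_cf (LP (LK LD1_c12 LD2_c22 LD3_c47)) = (LP (LK LD1_c9 LD2_c19 LD3_c38)) :=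
  Lgr Lrot169 (Lpe (f205569 IH) (Lpr_ct (K39.f75734 IH) (Lpe (K37.f75722 IH) (Lpr_cf (K11.f75682 IH) (Lpe (K37.f75735 IH) (Lpr_cf (f543429 IH) (Lpe (K11.f56608 IH) (Lpe (K32.f59316 IH) (Lpr_gt (f239030 IH) (Lpn (LP (LK LD1_c9 LD2_c19 LD3_c38))))))))))))
theorem f607403 : Led Lsl_ct (LP (LK LD1_c30 LD2_c2 LD3_c42)) = (LP (LK LD1_c23 LD2_c29 LD3_c52)) :=
  Lgr Lrot7 (Lpe (K46.f80424 IH) (Lpe (K46.f80423 IH) (Lpe (K46.f607053 IH) (Lpr_gf (K46.f607401 IH) (Lpr_cf (K46.f576590 IH) (Lpr_gt (K43.f552954 IH) (Lpr_dt (K39.f80494 IH) (Lpe (K46.f607392 IH) (Lpe (K46.f568163 IH) (Lpn (LP (LK LD1_c23 LD2_c29 LD3_c52))))))))))))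
theorem f607869 : Led Lsl_gf (LP (LK LD1_c13 LD2_c57 LD3_c57)) = (LP (LK LD1_c23 LD2_c29 LD3_c52)) :=
  Lgr Lrot104 (Lpr_ct (f607864 IH) (Lpe (f205573 IH) (Lpr_cf (f543527 IH) (Lpe (f239030 IH) (Lpe (K39.f560351 IH) (Lpe (K43.f159675 IH) (Lpe (f560368 IH) (Lpr_gt (f607552 IH) (Lpr_ct (f607403 IH) (Lpn (LP (LK LD1_c23 LD2_c29 LD3_c52))))))))))))
theorem f147285 : Led Lsl_dt (LP (LK LD1_c13 LD2_c57 LD3_c57)) = (LP (LK LD1_c7 LD2_c23 LD3_c9)) :=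
  Lre_d IH (LK LD1_c13 LD2_c57 LD3_c57) (LK LD1_c7 LD2_c23 LD3_c9) Lrfl Lrfl
theorem f607938 : Led Lsl_gf (LP (LK LD1_c12 LD2_c7 LD3_c55)) = (LP (LK LD1_c6 LD2_c14 LD3_c53)) :=
  Lgr Lrot144 (Lpr_dt (K37.f543351 IH) (Lpr_gt (K37.f35569 IH) (Lpr_dt (K37.f543406 IH) (Lpe (K37.f488282 IH) (Lpe (f147285 IH) (Lpr_gf (f607869 IH) (Lpr_df (K46.f568163 IH) (Lpr_gf (K46.f607392 IH) (Lpe (K39.f80519 IH) (Lpn (LP (LK LD1_c6 LD2_c14 LD3_c53))))))))))))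
theorem f445520 : Led Lsl_dt (LP (LK LD1_c21 LD2_c28 LD3_c39)) = (LP (LK LD1_c16 LD2_c32 LD3_c13)) :=
  Lgr Lrot42 (Lpr_df (K46.f445517 IH) (Lpn (LP (LK LD1_c16 LD2_c32 LD3_c13))))
theorem f38144 : Led Lsl_dt (LP (LK LD1_c3 LD2_c4 LD3_c21)) = (LP (LK LD1_c6 LD2_c14 LD3_c53)) :=
  Lre_d IH (LK LD1_c3 LD2_c4 LD3_c21) (LK LD1_c6 LD2_c14 LD3_c53) Lrfl Lrfl
theorem f607941 : Led Lsl_gt (LP (LK LD1_c8 LD2_c50 LD3_c53)) = (LP (LK LD1_c6 LD2_c14 LD3_c54)) :=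
  Lgr Lrot131 (Lpe (K40.f60537 IH) (Lpr_dt (K40.f16458 IH) (Lpe (K46.f16455 IH) (Lpe (f445520 IH) (Lpe (K40.f445297 IH) (Lpr_ef (K37.f408087 IH) (Lpe (K37.f543349 IH) (Lpr_gf (f607938 IH) (Lpe (f38144 IH) (Lpr_et (f80521 IH) (Lpn (LP (LK LD1_c6 LD2_c14 LD3_c54)))))))))))))
theorem f609768 : Led Lsl_gf (LP (LK LD1_c6 LD2_c15 LD3_c5)) = (LP (LK LD1_c3 LD2_c38 LD3_c41)) :=
  Lgr Lrot145 (Lpe (f424477 IH) (Lpr_et (K37.f211549 IH) (Lpr_gt (K13.f197832 IH) (Lpe (K13.f211527 IH) (Lpr_gt (K12.f225561 IH) (Lpe (K11.f180135 IH) (Lpr_et (K32.f180148 IH) (Lpr_gt (f609762 IH) (Lpe (f525470 IH) (Lpr_dt (K35.f5368 IH) (Lpn (LP (LK LD1_c3 LD2_c38 LD3_c41)))))))))))))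
theorem f425475 : Led Lsl_et (LP (LK LD1_c3 LD2_c36 LD3_c61)) = (LP (LK LD1_c7 LD2_c14 LD3_c19)) :=
  Lre_e IH (LK LD1_c3 LD2_c36 LD3_c61) (LK LD1_c7 LD2_c14 LD3_c19) Lrfl Lrfl
theorem f471503 : Led Lsl_dt (LP (LK LD1_c13 LD2_c41 LD3_c31)) = (LP (LK LD1_c23 LD2_c7 LD3_c4)) :=
  Lre_d IH (LK LD1_c13 LD2_c41 LD3_c31) (LK LD1_c23 LD2_c7 LD3_c4) Lrfl Lrfl
theorem f493717 : Led Lsl_et (LP (LK LD1_c7 LD2_c17 LD3_c47)) = (LP (LK LD1_c3 LD2_c38 LD3_c41)) :=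
  Lre_e IH (LK LD1_c7 LD2_c17 LD3_c47) (LK LD1_c3 LD2_c38 LD3_c41) Lrfl Lrfl
theorem f609772 : Led Lsl_gt (LP (LK LD1_c23 LD2_c7 LD3_c4)) = (LP (LK LD1_c13 LD2_c48 LD3_c18)) :=
  Lgr Lrot139 (Lpe (f471503 IH) (Lpr_gf (K39.f471494 IH) (Lpe (f425475 IH) (Lpr_dt (K38.f547048 IH) (Lpr_gf (K38.f241035 IH) (Lpr_df (f424469 IH) (Lpr_et (K37.f424471 IH) (Lpr_gf (f609768 IH) (Lpe (f493717 IH) (Lpr_dt (f493742 IH) (Lpn (LP (LK LD1_c13 LD2_c48 LD3_c18)))))))))))))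
theorem f608967 : Led Lsl_at (LP (LK LD1_c23 LD2_c7 LD3_c23)) = (LP (LK LD1_c13 LD2_c48 LD3_c18)) :=
  Lgr Lrot51 (Lpr_df (f608965 IH) (Lpe (f493737 IH) (Lpe (f493731 IH) (Lpn (LP (LK LD1_c13 LD2_c48 LD3_c18))))))
theorem f609133 : Led Lsl_ff (LP (LK LD1_c23 LD2_c7 LD3_c23)) = (LP (LK LD1_c24 LD2_c40 LD3_c24)) :=
  Lgr Lrot3 (Lpr_ft (f609131 IH) (Lpn (LP (LK LD1_c24 LD2_c40 LD3_c24))))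
theorem f609774 : Led Lsl_gf (LP (LK LD1_c23 LD2_c7 LD3_c4)) = (LP (LK LD1_c24 LD2_c40 LD3_c24)) :=
  Lgr Lrot47 (Lpr_gt (f609772 IH) (Lpe (f608967 IH) (Lpr_ff (f609133 IH) (Lpn (LP (LK LD1_c24 LD2_c40 LD3_c24))))))
theorem f471505 : Led Lsl_dt (LP (LK LD1_c23 LD2_c7 LD3_c4)) = (LP (LK LD1_c13 LD2_c41 LD3_c31)) :=
  Lre_d IH (LK LD1_c23 LD2_c7 LD3_c4) (LK LD1_c13 LD2_c41 LD3_c31) Lrfl Lrfl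
theorem f39216 : Led Lsl_gt (LP (LK LD1_c8 LD2_c44 LD3_c1)) = (LP (LK LD1_c4 LD2_c23 LD3_c9)) :=
  Lre_g IH (LK LD1_c8 LD2_c44 LD3_c1) (LK LD1_c4 LD2_c23 LD3_c9) Lrfl Lrfl
theorem f270083 : Led Lsl_gt (LP (LK LD1_c14 LD2_c58 LD3_c37)) = (LP (LK LD1_c8 LD2_c44 LD3_c1)) :=
  Lgr Lrot5 (Lpr_ft (K39.f59304 IH) (Lpr_at (K16.f270075 IH) (Lpe (f39216 IH) (Lpn (LP (LK LD1_c8 LD2_c44 LD3_c1))))))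
theorem f39217 : Led Lsl_et (LP (LK LD1_c16 LD2_c21 LD3_c18)) = (LP (LK LD1_c8 LD2_c44 LD3_c1)) :=
  Lre_e IH (LK LD1_c16 LD2_c21 LD3_c18) (LK LD1_c8 LD2_c44 LD3_c1) Lrfl Lrfl
theorem f39218 : Led Lsl_dt (LP (LK LD1_c16 LD2_c21 LD3_c18)) = (LP (LK LD1_c26 LD2_c19 LD3_c21)) :=
  Lre_d IH (LK LD1_c16 LD2_c21 LD3_c18) (LK LD1_c26 LD2_c19 LD3_c21) Lrfl Lrfl
theorem f418108 : Led Lsl_dt (LP (LK LD1_c14 LD2_c59 LD3_c24)) = (LP (LK LD1_c24 LD2_c46 LD3_c57)) :=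
  Lre_d IH (LK LD1_c14 LD2_c59 LD3_c24) (LK LD1_c24 LD2_c46 LD3_c57) Lrfl Lrfl
theorem f609777 : Led Lsl_gt (LP (LK LD1_c26 LD2_c19 LD3_c21)) = (LP (LK LD1_c24 LD2_c46 LD3_c57)) :=
  Lgr Lrot112 (Lpe (f39218 IH) (Lpr_et (f39217 IH) (Lpe (f270083 IH) (Lpe (K39.f270059 IH) (Lpr_dt (K39.f552919 IH) (Lpe (K41.f471501 IH) (Lpe (f471505 IH) (Lpr_gf (f609774 IH) (Lpe (f609605 IH) (Lpr_dt (f418108 IH) (Lpn (LP (LK LD1_c24 LD2_c46 LD3_c57)))))))))))))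
theorem f39219 : Led Lsl_gt (LP (LK LD1_c24 LD2_c46 LD3_c56)) = (LP (LK LD1_c26 LD2_c19 LD3_c21)) :=
  Lgr Lrot139 (Lpe (f39214 IH) (Lpe (K37.f39213 IH) (Lpe (K1.f38902 IH) (Lpr_dt (K1.f38918 IH) (Lpr_gf (K13.f39203 IH) (Lpe (K13.f39205 IH) (Lpr_et (K16.f39215 IH) (Lpe (f39216 IH) (Lpe (f39217 IH) (Lpr_dt (f39218 IH) (Lpn (LP (LK LD1_c26 LD2_c19 LD3_c21)))))))))))))
theorem f609779 : Led Lsl_at (LP (LK LD1_c16 LD2_c23 LD3_c27)) = (LP (LK LD1_c24 LD2_c46 LD3_c57)) :=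
  Lgr Lrot26 (Lpe (f609682 IH) (Lpr_gt (f39219 IH) (Lpr_gt (f609777 IH) (Lpn (LP (LK LD1_c24 LD2_c46 LD3_c57))))))
theorem f6607 : Led Lsl_bt (LP (LK LD1_c13 LD2_c39 LD3_c46)) = (LP (LK LD1_c7 LD2_c13 LD3_c4)) :=
  Lre_b IH (LK LD1_c13 LD2_c39 LD3_c46) (LK LD1_c7 LD2_c13 LD3_c4) Lrfl Lrfl
theorem f609676 : Led Lsl_bt (LP (LK LD1_c13 LD2_c39 LD3_c48)) = (LP (LK LD1_c16 LD2_c23 LD3_c27)) :=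
  Lgr Lrot119 (Lpe (K45.f525988 IH) (Lpe (f6607 IH) (Lpr_ef (f609674 IH) (Lpn (LP (LK LD1_c16 LD2_c23 LD3_c27))))))
theorem f525991 : Led Lsl_at (LP (LK LD1_c7 LD2_c14 LD3_c57)) = (LP (LK LD1_c13 LD2_c39 LD3_c48)) :=
  Lgr Lrot100 (Lpr_af (K45.f525989 IH) (Lpn (LP (LK LD1_c13 LD2_c39 LD3_c48))))
theorem f526063 : Led Lsl_bt (LP (LK LD1_c13 LD2_c42 LD3_c52)) = (LP (LK LD1_c7 LD2_c14 LD3_c57)) :=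
  Lre_b IH (LK LD1_c13 LD2_c42 LD3_c52) (LK LD1_c7 LD2_c14 LD3_c57) Lrfl Lrfl
theorem f526064 : Led Lsl_at (LP (LK LD1_c23 LD2_c8 LD3_c57)) = (LP (LK LD1_c13 LD2_c42 LD3_c52)) :=
  Lre_a IH (LK LD1_c23 LD2_c8 LD3_c57) (LK LD1_c13 LD2_c42 LD3_c52) Lrfl Lrfl
theorem f609781 : Led Lsl_bf (LP (LK LD1_c23 LD2_c8 LD3_c57)) = (LP (LK LD1_c24 LD2_c46 LD3_c57)) :=
  Lgr Lrot81 (Lpr_at (f526064 IH) (Lpr_bt (f526063 IH) (Lpr_at (f525991 IH) (Lpr_bt (f609676 IH) (Lpr_at (f609779 IH) (Lpn (LP (LK LD1_c24 LD2_c46 LD3_c57))))))))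
theorem f609702 : Led Lsl_at (LP (LK LD1_c24 LD2_c46 LD3_c57)) = (LP (LK LD1_c16 LD2_c23 LD3_c27)) :=
  Lgr Lrot51 (Lpe (f418108 IH) (Lpr_af (f609698 IH) (Lpe (f38912 IH) (Lpn (LP (LK LD1_c16 LD2_c23 LD3_c27))))))
theorem f609720 : Led Lsl_ft (LP (LK LD1_c16 LD2_c23 LD3_c25)) = (LP (LK LD1_c24 LD2_c46 LD3_c57)) :=
  Lgr Lrot2 (Lpr_gt (f38889 IH) (Lpr_gt (f609718 IH) (Lpe (f609702 IH) (Lpn (LP (LK LD1_c24 LD2_c46 LD3_c57))))))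
theorem f101348 : Led Lsl_bt (LP (LK LD1_c26 LD2_c21 LD3_c16)) = (LP (LK LD1_c16 LD2_c23 LD3_c25)) :=
  Lre_b IH (LK LD1_c26 LD2_c21 LD3_c16) (LK LD1_c16 LD2_c23 LD3_c25) Lrfl Lrfl
theorem f609797 : Led Lsl_ft (LP (LK LD1_c23 LD2_c8 LD3_c57)) = (LP (LK LD1_c26 LD2_c21 LD3_c16)) :=
  Lgr Lrot75 (Lpr_bf (f609781 IH) (Lpe (f609720 IH) (Lpe (f101348 IH) (Lpn (LP (LK LD1_c26 LD2_c21 LD3_c16))))))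
theorem f609802 : Led Lsl_ff (LP (LK LD1_c23 LD2_c8 LD3_c57)) = (LP (LK LD1_c26 LD2_c21 LD3_c16)) :=
  Lgr Lrot3 (Lpr_ft (f609797 IH) (Lpn (LP (LK LD1_c26 LD2_c21 LD3_c16))))
theorem f609680 : Led Lsl_et (LP (LK LD1_c13 LD2_c39 LD3_c46)) = (LP (LK LD1_c16 LD2_c23 LD3_c27)) :=
  Lgr Lrot87 (Lpr_ef (f609674 IH) (Lpn (LP (LK LD1_c16 LD2_c23 LD3_c27))))
theorem f609783 : Led Lsl_af (LP (LK LD1_c13 LD2_c39 LD3_c46)) = (LP (LK LD1_c21 LD2_c14 LD3_c41)) :=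
  Lgr Lrot50 (Lpr_et (f609680 IH) (Lpr_at (f609779 IH) (Lpe (K40.f418106 IH) (Lpn (LP (LK LD1_c21 LD2_c14 LD3_c41))))))
theorem f525983 : Led Lsl_af (LP (LK LD1_c3 LD2_c37 LD3_c13)) = (LP (LK LD1_c7 LD2_c13 LD3_c4)) :=
  Lgr Lrot0 (Lpr_at (K45.f525981 IH) (Lpn (LP (LK LD1_c7 LD2_c13 LD3_c4))))
theorem f488543 : Led Lsl_bt (LP (LK LD1_c3 LD2_c37 LD3_c13)) = (LP (LK LD1_c7 LD2_c14 LD3_c54)) :=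
  Lre_b IH (LK LD1_c3 LD2_c37 LD3_c13) (LK LD1_c7 LD2_c14 LD3_c54) Lrfl Lrfl
theorem f526500 : Led Lsl_at (LP (LK LD1_c7 LD2_c14 LD3_c54)) = (LP (LK LD1_c13 LD2_c42 LD3_c50)) :=
  Lre_a IH (LK LD1_c7 LD2_c14 LD3_c54) (LK LD1_c13 LD2_c42 LD3_c50) Lrfl Lrfl
theorem f609787 : Led Lsl_bt (LP (LK LD1_c13 LD2_c42 LD3_c50)) = (LP (LK LD1_c21 LD2_c14 LD3_c41)) :=
  Lgr Lrot62 (Lpe (f526500 IH) (Lpe (f488543 IH) (Lpr_af (f525983 IH) (Lpe (f6607 IH) (Lpr_af (f609783 IH) (Lpn (LP (LK LD1_c21 LD2_c14 LD3_c41))))))))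
theorem f609791 : Led Lsl_bf (LP (LK LD1_c13 LD2_c42 LD3_c50)) = (LP (LK LD1_c21 LD2_c14 LD3_c41)) :=
  Lgr Lrot24 (Lpr_bt (f609787 IH) (Lpn (LP (LK LD1_c21 LD2_c14 LD3_c41))))
theorem f609794 : Led Lsl_et (LP (LK LD1_c13 LD2_c42 LD3_c50)) = (LP (LK LD1_c23 LD2_c8 LD3_c57)) :=
  Lre_e IH (LK LD1_c13 LD2_c42 LD3_c50) (LK LD1_c23 LD2_c8 LD3_c57) Lrfl Lrfl
theorem f609795 : Led Lsl_bt (LP (LK LD1_c23 LD2_c8 LD3_c57)) = (LP (LK LD1_c24 LD2_c46 LD3_c57)) :=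
  Lgr Lrot119 (Lpe (f609794 IH) (Lpr_bf (f609791 IH) (Lpr_ef (K40.f418106 IH) (Lpn (LP (LK LD1_c24 LD2_c46 LD3_c57))))))
theorem f609806 : Led Lsl_bt (LP (LK LD1_c16 LD2_c23 LD3_c25)) = (LP (LK LD1_c26 LD2_c21 LD3_c16)) :=
  Lre_b IH (LK LD1_c16 LD2_c23 LD3_c25) (LK LD1_c26 LD2_c21 LD3_c16) Lrfl Lrfl
theorem f609807 : Led Lsl_ft (LP (LK LD1_c24 LD2_c46 LD3_c57)) = (LP (LK LD1_c16 LD2_c23 LD3_c25)) :=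
  Lgr Lrot75 (Lpe (f609795 IH) (Lpr_ff (f609802 IH) (Lpe (f609806 IH) (Lpn (LP (LK LD1_c16 LD2_c23 LD3_c25))))))
theorem f418109 : Led Lsl_et (LP (LK LD1_c21 LD2_c14 LD3_c41)) = (LP (LK LD1_c24 LD2_c46 LD3_c57)) :=
  Lgr Lrot87 (Lpr_ef (K40.f418106 IH) (Lpn (LP (LK LD1_c24 LD2_c46 LD3_c57))))
theorem f609789 : Led Lsl_ft (LP (LK LD1_c13 LD2_c42 LD3_c60)) = (LP (LK LD1_c21 LD2_c14 LD3_c41)) :=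
  Lgr Lrot101 (Lpe (f526406 IH) (Lpe (f526122 IH) (Lpr_af (f609783 IH) (Lpn (LP (LK LD1_c21 LD2_c14 LD3_c41))))))
theorem f609669 : Led Lsl_et (LP (LK LD1_c23 LD2_c9 LD3_c12)) = (LP (LK LD1_c13 LD2_c42 LD3_c60)) :=
  Lre_e IH (LK LD1_c23 LD2_c9 LD3_c12) (LK LD1_c13 LD2_c42 LD3_c60) Lrfl Lrfl
theorem f38895 : Led Lsl_et (LP (LK LD1_c16 LD2_c23 LD3_c25)) = (LP (LK LD1_c26 LD2_c21 LD3_c21)) :=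
  Lre_e IH (LK LD1_c16 LD2_c23 LD3_c25) (LK LD1_c26 LD2_c21 LD3_c21) Lrfl Lrfl
theorem f609814 : Led Lsl_ff (LP (LK LD1_c23 LD2_c9 LD3_c12)) = (LP (LK LD1_c26 LD2_c21 LD3_c21)) :=
  Lgr Lrot72 (Lpr_et (f609669 IH) (Lpr_ft (f609789 IH) (Lpr_et (f418109 IH) (Lpr_ft (f609807 IH) (Lpr_et (f38895 IH) (Lpn (LP (LK LD1_c26 LD2_c21 LD3_c21))))))))
theorem f526162 : Led Lsl_at (LP (LK LD1_c23 LD2_c9 LD3_c12)) = (LP (LK LD1_c13 LD2_c43 LD3_c1)) :=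
  Lre_a IH (LK LD1_c23 LD2_c9 LD3_c12) (LK LD1_c13 LD2_c43 LD3_c1) Lrfl Lrfl
theorem f609816 : Led Lsl_at (LP (LK LD1_c23 LD2_c9 LD3_c18)) = (LP (LK LD1_c26 LD2_c21 LD3_c21)) :=
  Lgr Lrot66 (Lpe (f526409 IH) (Lpe (f526162 IH) (Lpr_ff (f609814 IH) (Lpn (LP (LK LD1_c26 LD2_c21 LD3_c21))))))
theorem f92617 : Led Lsl_gt (LP (LK LD1_c13 LD2_c43 LD3_c1)) = (LP (LK LD1_c23 LD2_c9 LD3_c15)) :=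
  Lre_g IH (LK LD1_c13 LD2_c43 LD3_c1) (LK LD1_c23 LD2_c9 LD3_c15) Lrfl Lrfl
theorem f609839 : Led Lsl_gt (LP (LK LD1_c23 LD2_c9 LD3_c15)) = (LP (LK LD1_c26 LD2_c21 LD3_c21)) :=
  Lgr Lrot46 (Lpe (f92617 IH) (Lpr_ft (f526409 IH) (Lpr_at (f609816 IH) (Lpn (LP (LK LD1_c26 LD2_c21 LD3_c21))))))
theorem f239509 : Led Lsl_et (LP (LK LD1_c5 LD2_c6 LD3_c45)) = (LP (LK LD1_c10 LD2_c4 LD3_c14)) :=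
  Lre_e IH (LK LD1_c5 LD2_c6 LD3_c45) (LK LD1_c10 LD2_c4 LD3_c14) Lrfl Lrfl
theorem f201459 : Led Lsl_et (LP (LK LD1_c8 LD2_c47 LD3_c54)) = (LP (LK LD1_c16 LD2_c27 LD3_c55)) :=
  Lre_e IH (LK LD1_c8 LD2_c47 LD3_c54) (LK LD1_c16 LD2_c27 LD3_c55) Lrfl Lrfl
theorem f241037 : Led Lsl_gf (LP (LK LD1_c16 LD2_c27 LD3_c55)) = (LP (LK LD1_c10 LD2_c4 LD3_c14)) :=
  Lgr Lrot141 (Lpe (f201459 IH) (Lpr_dt (K37.f99396 IH) (Lpr_gt (K37.f70554 IH) (Lpe (K37.f70775 IH) (Lpr_et (K37.f201413 IH) (Lpr_gt (K11.f201435 IH) (Lpr_dt (K11.f180135 IH) (Lpr_gt (K13.f241031 IH) (Lpr_df (K13.f239504 IH) (Lpr_et (f239509 IH) (Lpn (LP (LK LD1_c10 LD2_c4 LD3_c14)))))))))))))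
theorem f609843 : Led Lsl_df (LP (LK LD1_c23 LD2_c9 LD3_c15)) = (LP (LK LD1_c16 LD2_c27 LD3_c55)) :=
  Lgr Lrot135 (Lpr_gt (f609839 IH) (Lpe (f408060 IH) (Lpr_et (f180167 IH) (Lpr_gt (K37.f180163 IH) (Lpe (K32.f180148 IH) (Lpr_dt (K11.f180135 IH) (Lpr_gt (K13.f241031 IH) (Lpr_df (K13.f239504 IH) (Lpr_et (f239509 IH) (Lpe (f241037 IH) (Lpn (LP (LK LD1_c16 LD2_c27 LD3_c55)))))))))))))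
theorem f609847 : Led Lsl_et (LP (LK LD1_c23 LD2_c9 LD3_c15)) = (LP (LK LD1_c16 LD2_c27 LD3_c57)) :=
  Lgr Lrot71 (Lpr_df (f609843 IH) (Lpe (f201459 IH) (Lpe (K37.f99397 IH) (Lpe (K40.f70555 IH) (Lpe (K46.f408080 IH) (Lpn (LP (LK LD1_c16 LD2_c27 LD3_c57))))))))
theorem f609845 : Led Lsl_dt (LP (LK LD1_c23 LD2_c9 LD3_c15)) = (LP (LK LD1_c16 LD2_c27 LD3_c55)) :=
  Lgr Lrot42 (Lpr_df (f609843 IH) (Lpn (LP (LK LD1_c16 LD2_c27 LD3_c55))))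
theorem f410761 : Led Lsl_gt (LP (LK LD1_c16 LD2_c27 LD3_c55)) = (LP (LK LD1_c18 LD2_c18 LD3_c58)) :=
  Lgr Lrot46 (Lpr_gf (f241037 IH) (Lpr_ft (K39.f241052 IH) (Lpr_at (K39.f410746 IH) (Lpn (LP (LK LD1_c18 LD2_c18 LD3_c58))))))
theorem f410702 : Led Lsl_ef (LP (LK LD1_c21 LD2_c10 LD3_c49)) = (LP (LK LD1_c16 LD2_c34 LD3_c11)) :=
  Lgr Lrot21 (Lpr_ft (K37.f69390 IH) (Lpr_et (K37.f69403 IH) (Lpr_ft (K37.f410696 IH) (Lpr_et (K40.f198014 IH) (Lpr_ft (K39.f205001 IH) (Lpn (LP (LK LD1_c16 LD2_c34 LD3_c11))))))))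
theorem f410549 : Led Lsl_at (LP (LK LD1_c12 LD2_c5 LD3_c15)) = (LP (LK LD1_c8 LD2_c51 LD3_c47)) :=
  Lgr Lrot51 (Lpe (f69387 IH) (Lpr_af (K37.f410543 IH) (Lpe (K37.f197925 IH) (Lpn (LP (LK LD1_c8 LD2_c51 LD3_c47))))))
theorem f197938 : Led Lsl_gt (LP (LK LD1_c16 LD2_c34 LD3_c15)) = (LP (LK LD1_c8 LD2_c51 LD3_c47)) :=
  Lre_g IH (LK LD1_c16 LD2_c34 LD3_c15) (LK LD1_c8 LD2_c51 LD3_c47) Lrfl Lrfl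
theorem f410956 : Led Lsl_gt (LP (LK LD1_c21 LD2_c10 LD3_c49)) = (LP (LK LD1_c16 LD2_c34 LD3_c15)) :=
  Lgr Lrot5 (Lpr_ft (K37.f69390 IH) (Lpr_at (f410549 IH) (Lpe (f197938 IH) (Lpn (LP (LK LD1_c16 LD2_c34 LD3_c15))))))
theorem f198293 : Led Lsl_dt (LP (LK LD1_c16 LD2_c34 LD3_c15)) = (LP (LK LD1_c26 LD2_c31 LD3_c34)) :=
  Lre_d IH (LK LD1_c16 LD2_c34 LD3_c15) (LK LD1_c26 LD2_c31 LD3_c34) Lrfl Lrfl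
theorem f60547 : Led Lsl_dt (LP (LK LD1_c16 LD2_c32 LD3_c15)) = (LP (LK LD1_c20 LD2_c21 LD3_c2)) :=
  Lgr Lrot42 (Lpr_df (f60540 IH) (Lpn (LP (LK LD1_c20 LD2_c21 LD3_c2))))
theorem f609849 : Led Lsl_gt (LP (LK LD1_c26 LD2_c31 LD3_c34)) = (LP (LK LD1_c20 LD2_c21 LD3_c2)) :=
  Lgr Lrot139 (Lpe (f198293 IH) (Lpe (f410956 IH) (Lpr_ef (f410702 IH) (Lpe (K39.f205002 IH) (Lpe (f410761 IH) (Lpe (f609845 IH) (Lpr_et (f609847 IH) (Lpe (K40.f70557 IH) (Lpe (f60538 IH) (Lpr_dt (f60547 IH) (Lpn (LP (LK LD1_c20 LD2_c21 LD3_c2)))))))))))))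
theorem f411486 : Led Lsl_gt (LP (LK LD1_c11 LD2_c23 LD3_c31)) = (LP (LK LD1_c20 LD2_c21 LD3_c17)) :=
  Lre_g IH (LK LD1_c11 LD2_c23 LD3_c31) (LK LD1_c20 LD2_c21 LD3_c17) Lrfl Lrfl
theorem f197931 : Led Lsl_df (LP (LK LD1_c8 LD2_c51 LD3_c47)) = (LP (LK LD1_c12 LD2_c6 LD3_c46)) :=
  Lgr Lrot38 (Lpr_dt (K37.f197925 IH) (Lpn (LP (LK LD1_c12 LD2_c6 LD3_c46))))
theorem f197940 : Led Lsl_dt (LP (LK LD1_c26 LD2_c31 LD3_c34)) = (LP (LK LD1_c16 LD2_c34 LD3_c15)) :=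
  Lre_d IH (LK LD1_c26 LD2_c31 LD3_c34) (LK LD1_c16 LD2_c34 LD3_c15) Lrfl Lrfl
theorem f411487 : Led Lsl_ef (LP (LK LD1_c20 LD2_c21 LD3_c17)) = (LP (LK LD1_c26 LD2_c31 LD3_c34)) :=
  Lgr Lrot17 (Lpe (f411486 IH) (Lpe (K43.f270165 IH) (Lpr_dt (K38.f270163 IH) (Lpe (K35.f268639 IH) (Lpe (K36.f177027 IH) (Lpe (K39.f198280 IH) (Lpe (K37.f197924 IH) (Lpe (f197931 IH) (Lpe (f197938 IH) (Lpe (f197940 IH) (Lpn (LP (LK LD1_c26 LD2_c31 LD3_c34)))))))))))))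
theorem f411492 : Led Lsl_et (LP (LK LD1_c20 LD2_c21 LD3_c17)) = (LP (LK LD1_c26 LD2_c31 LD3_c34)) :=
  Lgr Lrot87 (Lpr_ef (f411487 IH) (Lpn (LP (LK LD1_c26 LD2_c31 LD3_c34))))
theorem f611274 : Led Lsl_df (LP (LK LD1_c23 LD2_c20 LD3_c29)) = (LP (LK LD1_c20 LD2_c21 LD3_c17)) :=
  Lgr Lrot132 (Lpe (f479737 IH) (Lpr_df (f479728 IH) (Lpr_gf (f611270 IH) (Lpr_ef (f552948 IH) (Lpr_dt (K39.f38090 IH) (Lpe (f607941 IH) (Lpr_df (K40.f60535 IH) (Lpr_et (f60539 IH) (Lpe (f609849 IH) (Lpe (f411492 IH) (Lpn (LP (LK LD1_c20 LD2_c21 LD3_c17)))))))))))))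
theorem f239032 : Led Lsl_gt (LP (LK LD1_c16 LD2_c34 LD3_c4)) = (LP (LK LD1_c8 LD2_c51 LD3_c42)) :=
  Lre_g IH (LK LD1_c16 LD2_c34 LD3_c4) (LK LD1_c8 LD2_c51 LD3_c42) Lrfl Lrfl
theorem f101319 : Led Lsl_et (LP (LK LD1_c4 LD2_c26 LD3_c57)) = (LP (LK LD1_c8 LD2_c51 LD3_c42)) :=
  Lre_e IH (LK LD1_c4 LD2_c26 LD3_c57) (LK LD1_c8 LD2_c51 LD3_c42) Lrfl Lrfl
theorem f445526 : Led Lsl_ef (LP (LK LD1_c16 LD2_c34 LD3_c4)) = (LP (LK LD1_c16 LD2_c32 LD3_c13)) :=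
  Lgr Lrot114 (Lpr_gt (f239032 IH) (Lpe (f101319 IH) (Lpr_dt (K12.f43028 IH) (Lpr_gt (K10.f43027 IH) (Lpe (K9.f101019 IH) (Lpr_et (K12.f16576 IH) (Lpr_gt (K37.f16537 IH) (Lpe (K37.f408076 IH) (Lpr_gt (K40.f445297 IH) (Lpr_df (K46.f445517 IH) (Lpn (LP (LK LD1_c16 LD2_c32 LD3_c13)))))))))))))
theorem f543102 : Led Lsl_et (LP (LK LD1_c8 LD2_c51 LD3_c33)) = (LP (LK LD1_c13 LD2_c42 LD3_c37)) :=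
  Lgr Lrot122 (Lpe (K37.f408076 IH) (Lpr_gt (K40.f445297 IH) (Lpr_df (K46.f445517 IH) (Lpe (f445526 IH) (Lpr_gt (f239032 IH) (Lpe (K37.f239020 IH) (Lpr_gt (K39.f239028 IH) (Lpe (K39.f239055 IH) (Lpr_et (K39.f543098 IH) (Lpe (K39.f528424 IH) (Lpn (LP (LK LD1_c13 LD2_c42 LD3_c37)))))))))))))
theorem f576700 : Led Lsl_at (LP (LK LD1_c21 LD2_c14 LD3_c40)) = (LP (LK LD1_c13 LD2_c39 LD3_c37)) :=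
  Lgr Lrot66 (Lpr_ff (f576698 IH) (Lpe (K39.f528420 IH) (Lpr_ff (K39.f528306 IH) (Lpn (LP (LK LD1_c13 LD2_c39 LD3_c37))))))
theorem f456637 : Led Lsl_gt (LP (LK LD1_c23 LD2_c4 LD3_c55)) = (LP (LK LD1_c13 LD2_c39 LD3_c37)) :=
  Lre_g IH (LK LD1_c23 LD2_c4 LD3_c55) (LK LD1_c13 LD2_c39 LD3_c37) Lrfl Lrfl
theorem f576704 : Led Lsl_gf (LP (LK LD1_c23 LD2_c4 LD3_c55)) = (LP (LK LD1_c13 LD2_c42 LD3_c37)) :=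
  Lgr Lrot47 (Lpr_gt (f456637 IH) (Lpe (f576700 IH) (Lpr_ff (f576698 IH) (Lpn (LP (LK LD1_c13 LD2_c42 LD3_c37))))))
theorem f609851 : Led Lsl_et (LP (LK LD1_c16 LD2_c34 LD3_c15)) = (LP (LK LD1_c23 LD2_c4 LD3_c55)) :=
  Lgr Lrot122 (Lpr_dt (f198293 IH) (Lpr_gt (f609849 IH) (Lpe (f60547 IH) (Lpr_et (f60538 IH) (Lpr_gt (K40.f70557 IH) (Lpr_dt (K46.f408080 IH) (Lpr_gt (K37.f211196 IH) (Lpr_df (K37.f408076 IH) (Lpr_et (f543102 IH) (Lpe (f576704 IH) (Lpn (LP (LK LD1_c23 LD2_c4 LD3_c55)))))))))))))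
theorem f609855 : Led Lsl_ef (LP (LK LD1_c16 LD2_c34 LD3_c15)) = (LP (LK LD1_c23 LD2_c4 LD3_c55)) :=
  Lgr Lrot88 (Lpr_et (f609851 IH) (Lpn (LP (LK LD1_c23 LD2_c4 LD3_c55))))
theorem f92638 : Led Lsl_gt (LP (LK LD1_c23 LD2_c9 LD3_c14)) = (LP (LK LD1_c13 LD2_c43 LD3_c0)) :=
  Lre_g IH (LK LD1_c23 LD2_c9 LD3_c14) (LK LD1_c13 LD2_c43 LD3_c0) Lrfl Lrfl
theorem f609859 : Led Lsl_df (LP (LK LD1_c23 LD2_c9 LD3_c14)) = (LP (LK LD1_c23 LD2_c4 LD3_c55)) :=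
  Lgr Lrot170 (Lpr_gt (f92638 IH) (Lpe (f92604 IH) (Lpr_et (f92613 IH) (Lpr_gt (f92617 IH) (Lpr_dt (f609845 IH) (Lpr_gt (f410761 IH) (Lpr_df (K39.f205002 IH) (Lpe (f410702 IH) (Lpr_gt (f410956 IH) (Lpr_ef (f609855 IH) (Lpn (LP (LK LD1_c23 LD2_c4 LD3_c55)))))))))))))
theorem f609861 : Led Lsl_dt (LP (LK LD1_c23 LD2_c9 LD3_c14)) = (LP (LK LD1_c23 LD2_c4 LD3_c55)) :=
  Lgr Lrot42 (Lpr_df (f609859 IH) (Lpn (LP (LK LD1_c23 LD2_c4 LD3_c55))))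
theorem f611409 : Led Lsl_et (LP (LK LD1_c23 LD2_c20 LD3_c29)) = (LP (LK LD1_c23 LD2_c9 LD3_c14)) :=
  Lgr Lrot71 (Lpr_df (f611274 IH) (Lpr_ef (f411487 IH) (Lpe (f198293 IH) (Lpr_ef (f609855 IH) (Lpe (f609861 IH) (Lpn (LP (LK LD1_c23 LD2_c9 LD3_c14))))))))
theorem f611411 : Led Lsl_ef (LP (LK LD1_c23 LD2_c20 LD3_c29)) = (LP (LK LD1_c23 LD2_c9 LD3_c14)) :=
  Lgr Lrot88 (Lpr_et (f611409 IH) (Lpn (LP (LK LD1_c23 LD2_c9 LD3_c14))))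
theorem f11710 : Led Lsl_dt (LP (LK LD1_c13 LD2_c29 LD3_c21)) = (LP (LK LD1_c7 LD2_c7 LD3_c5)) :=
  Lre_d IH (LK LD1_c13 LD2_c29 LD3_c21) (LK LD1_c7 LD2_c7 LD3_c5) Lrfl Lrfl
theorem f11711 : Led Lsl_ct (LP (LK LD1_c22 LD2_c49 LD3_c50)) = (LP (LK LD1_c13 LD2_c29 LD3_c21)) :=
  Lre_c IH (LK LD1_c22 LD2_c49 LD3_c50) (LK LD1_c13 LD2_c29 LD3_c21) Lrfl Lrfl
theorem f411491 : Led Lsl_ct (LP (LK LD1_c20 LD2_c21 LD3_c17)) = (LP (LK LD1_c29 LD2_c25 LD3_c6)) :=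
  Lre_c IH (LK LD1_c20 LD2_c21 LD3_c17) (LK LD1_c29 LD2_c25 LD3_c6) Lrfl Lrfl
theorem f547024 : Led Lsl_gf (LP (LK LD1_c22 LD2_c49 LD3_c50)) = (LP (LK LD1_c29 LD2_c25 LD3_c6)) :=
  Lgr Lrot172 (Lpr_ct (f11711 IH) (Lpr_dt (f11710 IH) (Lpe (K28.f11686 IH) (Lpr_gf (K41.f470553 IH) (Lpe (K41.f470548 IH) (Lpr_gf (K41.f470541 IH) (Lpr_dt (K38.f547016 IH) (Lpr_gt (f411486 IH) (Lpr_ct (f411491 IH) (Lpn (LP (LK LD1_c29 LD2_c25 LD3_c6))))))))))))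
theorem f11789 : Led Lsl_ct (LP (LK LD1_c13 LD2_c29 LD3_c21)) = (LP (LK LD1_c22 LD2_c49 LD3_c50)) :=
  Lre_c IH (LK LD1_c13 LD2_c29 LD3_c21) (LK LD1_c22 LD2_c49 LD3_c50) Lrfl Lrfl
theorem f160242 : Led Lsl_bt (LP (LK LD1_c13 LD2_c29 LD3_c21)) = (LP (LK LD1_c7 LD2_c7 LD3_c20)) :=
  Lre_b IH (LK LD1_c13 LD2_c29 LD3_c21) (LK LD1_c7 LD2_c7 LD3_c20) Lrfl Lrfl
theorem f97061 : Led Lsl_ct (LP (LK LD1_c13 LD2_c41 LD3_c13)) = (LP (LK LD1_c23 LD2_c6 LD3_c51)) :=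
  Lre_c IH (LK LD1_c13 LD2_c41 LD3_c13) (LK LD1_c23 LD2_c6 LD3_c51) Lrfl Lrfl
theorem f162824 : Led Lsl_ct (LP (LK LD1_c23 LD2_c7 LD3_c3)) = (LP (LK LD1_c13 LD2_c41 LD3_c30)) :=
  Lre_c IH (LK LD1_c23 LD2_c7 LD3_c3) (LK LD1_c13 LD2_c41 LD3_c30) Lrfl Lrfl
theorem f493288 : Led Lsl_gf (LP (LK LD1_c23 LD2_c7 LD3_c3)) = (LP (LK LD1_c23 LD2_c6 LD3_c51)) :=
  Lgr Lrot104 (Lpr_ct (f162824 IH) (Lpe (K41.f160377 IH) (Lpe (K8.f162812 IH) (Lpe (K28.f465391 IH) (Lpr_cf (K28.f465233 IH) (Lpe (K41.f465374 IH) (Lpe (K45.f465387 IH) (Lpr_gt (K46.f493286 IH) (Lpr_ct (f97061 IH) (Lpn (LP (LK LD1_c23 LD2_c6 LD3_c51))))))))))))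
theorem f547040 : Led Lsl_bt (LP (LK LD1_c13 LD2_c41 LD3_c30)) = (LP (LK LD1_c11 LD2_c23 LD3_c31)) :=
  Lgr Lrot130 (Lpr_ct (K41.f162820 IH) (Lpr_gf (f493288 IH) (Lpe (f97061 IH) (Lpr_bt (K46.f97053 IH) (Lpr_gf (K28.f160441 IH) (Lpe (f160242 IH) (Lpr_ct (f11789 IH) (Lpr_gf (f547024 IH) (Lpe (f411491 IH) (Lpe (f411486 IH) (Lpn (LP (LK LD1_c11 LD2_c23 LD3_c31)))))))))))))
theorem f547042 : Led Lsl_bt (LP (LK LD1_c13 LD2_c30 LD3_c32)) = (LP (LK LD1_c20 LD2_c21 LD3_c17)) :=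
  Lgr Lrot92 (Lpr_ct (K46.f471087 IH) (Lpe (K46.f493283 IH) (Lpe (K46.f475864 IH) (Lpe (K45.f488344 IH) (Lpr_gt (K46.f493286 IH) (Lpr_ct (f97061 IH) (Lpe (f493288 IH) (Lpe (K41.f162820 IH) (Lpr_bt (f547040 IH) (Lpr_gt (f411486 IH) (Lpn (LP (LK LD1_c20 LD2_c21 LD3_c17)))))))))))))
theorem f529809 : Led Lsl_dt (LP (LK LD1_c22 LD2_c51 LD3_c17)) = (LP (LK LD1_c13 LD2_c30 LD3_c32)) :=
  Lre_d IH (LK LD1_c22 LD2_c51 LD3_c17) (LK LD1_c13 LD2_c30 LD3_c32) Lrfl Lrfl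
theorem f611405 : Led Lsl_bt (LP (LK LD1_c23 LD2_c20 LD3_c29)) = (LP (LK LD1_c22 LD2_c51 LD3_c17)) :=
  Lgr Lrot95 (Lpr_df (f611274 IH) (Lpe (f547042 IH) (Lpe (f529809 IH) (Lpn (LP (LK LD1_c22 LD2_c51 LD3_c17))))))
theorem f17597 : Led Lsl_df (LP (LK LD1_c22 LD2_c48 LD3_c7)) = (LP (LK LD1_c13 LD2_c51 LD3_c1)) :=
  Lgr Lrot38 (Lpr_dt (f17582 IH) (Lpn (LP (LK LD1_c13 LD2_c51 LD3_c1))))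
theorem f480647 : Led Lsl_gt (LP (LK LD1_c13 LD2_c32 LD3_c19)) = (LP (LK LD1_c22 LD2_c54 LD3_c12)) :=
  Lre_g IH (LK LD1_c13 LD2_c32 LD3_c19) (LK LD1_c22 LD2_c54 LD3_c12) Lrfl Lrfl
theorem f529736 : Led Lsl_gf (LP (LK LD1_c13 LD2_c51 LD3_c1)) = (LP (LK LD1_c22 LD2_c54 LD3_c12)) :=
  Lgr Lrot76 (Lpe (f17602 IH) (Lpr_ff (f529725 IH) (Lpr_gt (f480647 IH) (Lpn (LP (LK LD1_c22 LD2_c54 LD3_c12))))))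
theorem f425556 : Led Lsl_et (LP (LK LD1_c3 LD2_c33 LD3_c31)) = (LP (LK LD1_c1 LD2_c43 LD3_c28)) :=
  Lre_e IH (LK LD1_c3 LD2_c33 LD3_c31) (LK LD1_c1 LD2_c43 LD3_c28) Lrfl Lrfl
theorem f470942 : Led Lsl_dt (LP (LK LD1_c3 LD2_c33 LD3_c31)) = (LP (LK LD1_c7 LD2_c7 LD3_c55)) :=
  Lre_d IH (LK LD1_c3 LD2_c33 LD3_c31) (LK LD1_c7 LD2_c7 LD3_c55) Lrfl Lrfl
theorem f529810 : Led Lsl_ef (LP (LK LD1_c22 LD2_c54 LD3_c12)) = (LP (LK LD1_c22 LD2_c51 LD3_c17)) :=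
  Lgr Lrot167 (Lpe (f529736 IH) (Lpe (f17597 IH) (Lpr_gt (f529801 IH) (Lpe (K43.f96796 IH) (Lpr_et (K8.f96800 IH) (Lpr_gt (K3.f96769 IH) (Lpe (f425556 IH) (Lpr_dt (f470942 IH) (Lpr_gt (K46.f470943 IH) (Lpe (f529809 IH) (Lpn (LP (LK LD1_c22 LD2_c51 LD3_c17)))))))))))))
theorem f611417 : Led Lsl_bt (LP (LK LD1_c22 LD2_c54 LD3_c12)) = (LP (LK LD1_c23 LD2_c9 LD3_c14)) :=
  Lgr Lrot119 (Lpr_ef (f529810 IH) (Lpe (f611405 IH) (Lpr_ef (f611411 IH) (Lpn (LP (LK LD1_c23 LD2_c9 LD3_c14))))))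
theorem f6040 : Led Lsl_dt (LP (LK LD1_c7 LD2_c9 LD3_c18)) = (LP (LK LD1_c3 LD2_c34 LD3_c5)) :=
  Lre_d IH (LK LD1_c7 LD2_c9 LD3_c18) (LK LD1_c3 LD2_c34 LD3_c5) Lrfl Lrfl
theorem f486591 : Led Lsl_ct (LP (LK LD1_c13 LD2_c33 LD3_c8)) = (LP (LK LD1_c7 LD2_c9 LD3_c18)) :=
  Lre_c IH (LK LD1_c13 LD2_c33 LD3_c8) (LK LD1_c7 LD2_c9 LD3_c18) Lrfl Lrfl
theorem f515801 : Led Lsl_gt (LP (LK LD1_c22 LD2_c55 LD3_c41)) = (LP (LK LD1_c13 LD2_c33 LD3_c8)) :=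
  Lre_g IH (LK LD1_c22 LD2_c55 LD3_c41) (LK LD1_c13 LD2_c33 LD3_c8) Lrfl Lrfl
theorem f576706 : Led Lsl_ct (LP (LK LD1_c23 LD2_c4 LD3_c55)) = (LP (LK LD1_c22 LD2_c55 LD3_c41)) :=
  Lgr Lrot152 (Lpr_gf (f576704 IH) (Lpe (K37.f528277 IH) (Lpe (K37.f529040 IH) (Lpe (K8.f155671 IH) (Lpe (K34.f515797 IH) (Lpr_ct (K40.f456005 IH) (Lpe (f6040 IH) (Lpe (f486591 IH) (Lpe (f515801 IH) (Lpn (LP (LK LD1_c22 LD2_c55 LD3_c41))))))))))))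
theorem f486590 : Led Lsl_bt (LP (LK LD1_c7 LD2_c9 LD3_c18)) = (LP (LK LD1_c3 LD2_c34 LD3_c6)) :=
  Lre_b IH (LK LD1_c7 LD2_c9 LD3_c18) (LK LD1_c3 LD2_c34 LD3_c6) Lrfl Lrfl
theorem f5989 : Led Lsl_ct (LP (LK LD1_c7 LD2_c6 LD3_c37)) = (LP (LK LD1_c13 LD2_c28 LD3_c22)) :=
  Lre_c IH (LK LD1_c7 LD2_c6 LD3_c37) (LK LD1_c13 LD2_c28 LD3_c22) Lrfl Lrfl
theorem f488822 : Led Lsl_gt (LP (LK LD1_c13 LD2_c28 LD3_c20)) = (LP (LK LD1_c22 LD2_c47 LD3_c57)) :=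
  Lre_g IH (LK LD1_c13 LD2_c28 LD3_c20) (LK LD1_c22 LD2_c47 LD3_c57) Lrfl Lrfl
theorem f576710 : Led Lsl_bt (LP (LK LD1_c23 LD2_c4 LD3_c55)) = (LP (LK LD1_c22 LD2_c47 LD3_c57)) :=
  Lgr Lrot92 (Lpr_ct (f576706 IH) (Lpr_gt (f515801 IH) (Lpe (K40.f515449 IH) (Lpr_bt (f486590 IH) (Lpr_gt (K34.f482406 IH) (Lpr_ct (K34.f486547 IH) (Lpe (K34.f530032 IH) (Lpe (f5989 IH) (Lpr_bt (K35.f488830 IH) (Lpr_gt (f488822 IH) (Lpn (LP (LK LD1_c22 LD2_c47 LD3_c57)))))))))))))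
theorem f611421 : Led Lsl_df (LP (LK LD1_c22 LD2_c54 LD3_c12)) = (LP (LK LD1_c22 LD2_c47 LD3_c57)) :=
  Lgr Lrot12 (Lpr_bt (f611417 IH) (Lpr_dt (f609861 IH) (Lpr_bt (f576710 IH) (Lpn (LP (LK LD1_c22 LD2_c47 LD3_c57))))))
theorem f501778 : Led Lsl_gt (LP (LK LD1_c30 LD2_c36 LD3_c32)) = (LP (LK LD1_c22 LD2_c36 LD3_c11)) :=
  Lre_g IH (LK LD1_c30 LD2_c36 LD3_c32) (LK LD1_c22 LD2_c36 LD3_c11) Lrfl Lrfl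
theorem f529805 : Led Lsl_ct (LP (LK LD1_c22 LD2_c54 LD3_c12)) = (LP (LK LD1_c30 LD2_c36 LD3_c32)) :=
  Lgr Lrot8 (Lpe (f529736 IH) (Lpe (f17597 IH) (Lpr_gt (f529801 IH) (Lpr_dt (f96808 IH) (Lpr_cf (K28.f96793 IH) (Lpe (K43.f96799 IH) (Lpe (K43.f96809 IH) (Lpr_df (K43.f501775 IH) (Lpe (f501778 IH) (Lpn (LP (LK LD1_c30 LD2_c36 LD3_c32))))))))))))
theorem f481190 : Led Lsl_dt (LP (LK LD1_c7 LD2_c6 LD3_c36)) = (LP (LK LD1_c13 LD2_c28 LD3_c20)) :=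
  Lre_d IH (LK LD1_c7 LD2_c6 LD3_c36) (LK LD1_c13 LD2_c28 LD3_c20) Lrfl Lrfl
theorem f482352 : Led Lsl_dt (LP (LK LD1_c13 LD2_c10 LD3_c6)) = (LP (LK LD1_c22 LD2_c22 LD3_c40)) :=
  Lre_d IH (LK LD1_c13 LD2_c10 LD3_c6) (LK LD1_c22 LD2_c22 LD3_c40) Lrfl Lrfl
theorem f17601 : Led Lsl_at (LP (LK LD1_c22 LD2_c48 LD3_c7)) = (LP (LK LD1_c13 LD2_c28 LD3_c27)) :=
  Lre_a IH (LK LD1_c22 LD2_c48 LD3_c7) (LK LD1_c13 LD2_c28 LD3_c27) Lrfl Lrfl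
theorem f529743 : Led Lsl_gf (LP (LK LD1_c22 LD2_c47 LD3_c55)) = (LP (LK LD1_c13 LD2_c32 LD3_c17)) :=
  Lgr Lrot47 (Lpr_gt (f481175 IH) (Lpe (f17601 IH) (Lpr_ff (f529738 IH) (Lpn (LP (LK LD1_c13 LD2_c32 LD3_c17))))))
theorem f488930 : Led Lsl_af (LP (LK LD1_c22 LD2_c47 LD3_c55)) = (LP (LK LD1_c13 LD2_c31 LD3_c34)) :=
  Lgr Lrot0 (Lpr_at (f488916 IH) (Lpn (LP (LK LD1_c13 LD2_c31 LD3_c34))))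
theorem f486834 : Led Lsl_dt (LP (LK LD1_c13 LD2_c31 LD3_c34)) = (LP (LK LD1_c7 LD2_c8 LD3_c31)) :=
  Lre_d IH (LK LD1_c13 LD2_c31 LD3_c34) (LK LD1_c7 LD2_c8 LD3_c31) Lrfl Lrfl
theorem f488909 : Led Lsl_ft (LP (LK LD1_c13 LD2_c41 LD3_c25)) = (LP (LK LD1_c13 LD2_c31 LD3_c34)) :=
  Lgr Lrot54 (Lpe (f155686 IH) (Lpr_ff (K33.f488903 IH) (Lpe (f486834 IH) (Lpn (LP (LK LD1_c13 LD2_c31 LD3_c34))))))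
theorem f529745 : Led Lsl_gt (LP (LK LD1_c13 LD2_c41 LD3_c25)) = (LP (LK LD1_c13 LD2_c32 LD3_c17)) :=
  Lgr Lrot5 (Lpr_ft (f488909 IH) (Lpe (f488930 IH) (Lpr_gf (f529743 IH) (Lpn (LP (LK LD1_c13 LD2_c32 LD3_c17))))))
theorem f529732 : Led Lsl_ct (LP (LK LD1_c13 LD2_c32 LD3_c17)) = (LP (LK LD1_c22 LD2_c54 LD3_c4)) :=
  Lre_c IH (LK LD1_c13 LD2_c32 LD3_c17) (LK LD1_c22 LD2_c54 LD3_c4) Lrfl Lrfl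
theorem f529751 : Led Lsl_gf (LP (LK LD1_c30 LD2_c43 LD3_c27)) = (LP (LK LD1_c22 LD2_c54 LD3_c4)) :=
  Lgr Lrot104 (Lpe (K33.f481095 IH) (Lpe (K33.f481068 IH) (Lpe (K34.f481118 IH) (Lpe (K34.f481124 IH) (Lpe (K35.f524675 IH) (Lpr_gf (K43.f524668 IH) (Lpe (K43.f136381 IH) (Lpr_gt (f529745 IH) (Lpr_ct (f529732 IH) (Lpn (LP (LK LD1_c22 LD2_c54 LD3_c4))))))))))))
theorem f529757 : Led Lsl_gt (LP (LK LD1_c24 LD2_c6 LD3_c60)) = (LP (LK LD1_c30 LD2_c43 LD3_c25)) :=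
  Lgr Lrot49 (Lpr_df (K33.f481101 IH) (Lpr_gf (f529751 IH) (Lpe (f529732 IH) (Lpe (f529743 IH) (Lpr_dt (f481143 IH) (Lpr_gt (K33.f481142 IH) (Lpr_dt (f481190 IH) (Lpe (K35.f481131 IH) (Lpe (K35.f481132 IH) (Lpn (LP (LK LD1_c30 LD2_c43 LD3_c25))))))))))))
theorem f10825 : Led Lsl_ct (LP (LK LD1_c22 LD2_c48 LD3_c8)) = (LP (LK LD1_c13 LD2_c28 LD3_c27)) :=
  Lre_c IH (LK LD1_c22 LD2_c48 LD3_c8) (LK LD1_c13 LD2_c28 LD3_c27) Lrfl Lrfl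
theorem f162225 : Led Lsl_dt (LP (LK LD1_c23 LD2_c7 LD3_c1)) = (LP (LK LD1_c30 LD2_c54 LD3_c9)) :=
  Lre_d IH (LK LD1_c23 LD2_c7 LD3_c1) (LK LD1_c30 LD2_c54 LD3_c9) Lrfl Lrfl
theorem f481189 : Led Lsl_dt (LP (LK LD1_c24 LD2_c6 LD3_c38)) = (LP (LK LD1_c14 LD2_c26 LD3_c29)) :=
  Lre_d IH (LK LD1_c24 LD2_c6 LD3_c38) (LK LD1_c14 LD2_c26 LD3_c29) Lrfl Lrfl
theorem f481191 : Led Lsl_ct (LP (LK LD1_c13 LD2_c28 LD3_c20)) = (LP (LK LD1_c22 LD2_c47 LD3_c59)) :=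
  Lre_c IH (LK LD1_c13 LD2_c28 LD3_c20) (LK LD1_c22 LD2_c47 LD3_c59) Lrfl Lrfl
theorem f481192 : Led Lsl_dt (LP (LK LD1_c22 LD2_c47 LD3_c59)) = (LP (LK LD1_c30 LD2_c43 LD3_c25)) :=
  Lre_d IH (LK LD1_c22 LD2_c47 LD3_c59) (LK LD1_c30 LD2_c43 LD3_c25) Lrfl Lrfl
theorem f524677 : Led Lsl_ct (LP (LK LD1_c30 LD2_c43 LD3_c25)) = (LP (LK LD1_c24 LD2_c6 LD3_c34)) :=
  Lgr Lrot176 (Lpe (f481192 IH) (Lpe (f481191 IH) (Lpe (f481190 IH) (Lpe (K33.f481126 IH) (Lpe (K35.f481139 IH) (Lpe (K35.f481141 IH) (Lpe (f481189 IH) (Lpe (K35.f524612 IH) (Lpe (K35.f524618 IH) (Lpe (K35.f524619 IH) (Lpe (K35.f524634 IH) (Lpr_cf (K35.f524670 IH) (Lpe (K35.f481196 IH) (Lpe (K35.f157577 IH) (Lpe (K35.f515885 IH) (Lpn (LP (LK LD1_c24 LD2_c6 LD3_c34))))))))))))))))))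
theorem f524697 : Led Lsl_gt (LP (LK LD1_c24 LD2_c6 LD3_c34)) = (LP (LK LD1_c31 LD2_c22 LD3_c55)) :=
  Lre_g IH (LK LD1_c24 LD2_c6 LD3_c34) (LK LD1_c31 LD2_c22 LD3_c55) Lrfl Lrfl
theorem f529760 : Led Lsl_cf (LP (LK LD1_c30 LD2_c54 LD3_c9)) = (LP (LK LD1_c31 LD2_c22 LD3_c55)) :=
  Lgr Lrot99 (Lpe (f162225 IH) (Lpe (K43.f155702 IH) (Lpr_gf (f488845 IH) (Lpe (f10825 IH) (Lpe (K33.f17591 IH) (Lpe (K33.f481106 IH) (Lpr_gt (f529757 IH) (Lpr_ct (f524677 IH) (Lpr_gt (f524697 IH) (Lpn (LP (LK LD1_c31 LD2_c22 LD3_c55))))))))))))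
theorem f155701 : Led Lsl_dt (LP (LK LD1_c30 LD2_c54 LD3_c9)) = (LP (LK LD1_c23 LD2_c7 LD3_c1)) :=
  Lre_d IH (LK LD1_c30 LD2_c54 LD3_c9) (LK LD1_c23 LD2_c7 LD3_c1) Lrfl Lrfl
theorem f155696 : Led Lsl_ct (LP (LK LD1_c23 LD2_c7 LD3_c1)) = (LP (LK LD1_c13 LD2_c41 LD3_c25)) :=
  Lre_c IH (LK LD1_c23 LD2_c7 LD3_c1) (LK LD1_c13 LD2_c41 LD3_c25) Lrfl Lrfl
theorem f481137 : Led Lsl_gt (LP (LK LD1_c3 LD2_c49 LD3_c28)) = (LP (LK LD1_c7 LD2_c39 LD3_c49)) :=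
  Lre_g IH (LK LD1_c3 LD2_c49 LD3_c28) (LK LD1_c7 LD2_c39 LD3_c49) Lrfl Lrfl
theorem f524682 : Led Lsl_ct (LP (LK LD1_c7 LD2_c39 LD3_c49)) = (LP (LK LD1_c14 LD2_c26 LD3_c32)) :=
  Lre_c IH (LK LD1_c7 LD2_c39 LD3_c49) (LK LD1_c14 LD2_c26 LD3_c32) Lrfl Lrfl
theorem f524683 : Led Lsl_gt (LP (LK LD1_c14 LD2_c26 LD3_c32)) = (LP (LK LD1_c24 LD2_c6 LD3_c44)) :=
  Lre_g IH (LK LD1_c14 LD2_c26 LD3_c32) (LK LD1_c24 LD2_c6 LD3_c44) Lrfl Lrfl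
theorem f524684 : Led Lsl_cf (LP (LK LD1_c23 LD2_c57 LD3_c42)) = (LP (LK LD1_c24 LD2_c6 LD3_c44)) :=
  Lgr Lrot99 (Lpe (K43.f162231 IH) (Lpr_cf (K37.f488839 IH) (Lpe (K35.f524666 IH) (Lpr_cf (K35.f524670 IH) (Lpe (K35.f157548 IH) (Lpe (K33.f481097 IH) (Lpr_gt (f481137 IH) (Lpr_ct (f524682 IH) (Lpr_gt (f524683 IH) (Lpn (LP (LK LD1_c24 LD2_c6 LD3_c44))))))))))))
theorem f524687 : Led Lsl_ct (LP (LK LD1_c23 LD2_c57 LD3_c42)) = (LP (LK LD1_c24 LD2_c6 LD3_c44)) :=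
  Lgr Lrot59 (Lpr_cf (f524684 IH) (Lpn (LP (LK LD1_c24 LD2_c6 LD3_c44))))
theorem f529765 : Led Lsl_dt (LP (LK LD1_c24 LD2_c6 LD3_c44)) = (LP (LK LD1_c31 LD2_c22 LD3_c55)) :=
  Lgr Lrot140 (Lpe (f524687 IH) (Lpe (K43.f162231 IH) (Lpr_cf (K37.f488839 IH) (Lpe (f481143 IH) (Lpe (f488841 IH) (Lpe (K43.f162212 IH) (Lpe (f155696 IH) (Lpe (f155701 IH) (Lpr_cf (f529760 IH) (Lpn (LP (LK LD1_c31 LD2_c22 LD3_c55))))))))))))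
theorem f529767 : Led Lsl_df (LP (LK LD1_c24 LD2_c6 LD3_c44)) = (LP (LK LD1_c31 LD2_c22 LD3_c55)) :=
  Lgr Lrot38 (Lpr_dt (f529765 IH) (Lpn (LP (LK LD1_c31 LD2_c22 LD3_c55))))
theorem f486977 : Led Lsl_gt (LP (LK LD1_c24 LD2_c12 LD3_c45)) = (LP (LK LD1_c14 LD2_c31 LD3_c8)) :=
  Lre_g IH (LK LD1_c24 LD2_c12 LD3_c45) (LK LD1_c14 LD2_c31 LD3_c8) Lrfl Lrfl
theorem f524703 : Led Lsl_gt (LP (LK LD1_c24 LD2_c6 LD3_c33)) = (LP (LK LD1_c14 LD2_c26 LD3_c27)) :=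
  Lre_g IH (LK LD1_c24 LD2_c6 LD3_c33) (LK LD1_c14 LD2_c26 LD3_c27) Lrfl Lrfl
theorem f529770 : Led Lsl_ct (LP (LK LD1_c24 LD2_c12 LD3_c45)) = (LP (LK LD1_c24 LD2_c6 LD3_c33)) :=
  Lgr Lrot8 (Lpr_gt (f486977 IH) (Lpr_dt (K43.f486976 IH) (Lpe (K37.f488847 IH) (Lpr_dt (K43.f162231 IH) (Lpr_cf (f524684 IH) (Lpr_df (f529767 IH) (Lpe (f524697 IH) (Lpe (K35.f524693 IH) (Lpe (f524703 IH) (Lpn (LP (LK LD1_c24 LD2_c6 LD3_c33))))))))))))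
theorem f482345 : Led Lsl_dt (LP (LK LD1_c22 LD2_c22 LD3_c40)) = (LP (LK LD1_c13 LD2_c10 LD3_c6)) :=
  Lre_d IH (LK LD1_c22 LD2_c22 LD3_c40) (LK LD1_c13 LD2_c10 LD3_c6) Lrfl Lrfl
theorem f529775 : Led Lsl_gf (LP (LK LD1_c24 LD2_c12 LD3_c45)) = (LP (LK LD1_c22 LD2_c22 LD3_c40)) :=
  Lgr Lrot147 (Lpr_ct (f529770 IH) (Lpr_gt (f524703 IH) (Lpr_ct (K35.f157577 IH) (Lpe (f157549 IH) (Lpe (K35.f524675 IH) (Lpr_gf (K43.f524668 IH) (Lpe (K8.f136382 IH) (Lpr_gf (K37.f488809 IH) (Lpe (f482345 IH) (Lpn (LP (LK LD1_c22 LD2_c22 LD3_c40))))))))))))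
theorem f611425 : Led Lsl_df (LP (LK LD1_c30 LD2_c36 LD3_c32)) = (LP (LK LD1_c24 LD2_c12 LD3_c45)) :=
  Lgr Lrot84 (Lpe (f529805 IH) (Lpr_df (f611421 IH) (Lpe (f488822 IH) (Lpe (f481190 IH) (Lpe (K33.f481142 IH) (Lpe (K33.f488831 IH) (Lpr_gt (K37.f488812 IH) (Lpr_dt (f482352 IH) (Lpe (f529775 IH) (Lpn (LP (LK LD1_c24 LD2_c12 LD3_c45))))))))))))
theorem f486975 : Led Lsl_ct (LP (LK LD1_c14 LD2_c31 LD3_c8)) = (LP (LK LD1_c24 LD2_c12 LD3_c46)) :=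
  Lre_c IH (LK LD1_c14 LD2_c31 LD3_c8) (LK LD1_c24 LD2_c12 LD3_c46) Lrfl Lrfl
theorem f477993 : Led Lsl_gt (LP (LK LD1_c22 LD2_c53 LD3_c1)) = (LP (LK LD1_c13 LD2_c31 LD3_c37)) :=
  Lre_g IH (LK LD1_c22 LD2_c53 LD3_c1) (LK LD1_c13 LD2_c31 LD3_c37) Lrfl Lrfl
theorem f524787 : Led Lsl_gf (LP (LK LD1_c22 LD2_c53 LD3_c1)) = (LP (LK LD1_c14 LD2_c26 LD3_c2)) :=
  Lgr Lrot47 (Lpr_gt (f477993 IH) (Lpr_af (K43.f524763 IH) (Lpr_ff (K43.f524743 IH) (Lpn (LP (LK LD1_c14 LD2_c26 LD3_c2))))))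
theorem f477995 : Led Lsl_ct (LP (LK LD1_c22 LD2_c53 LD3_c1)) = (LP (LK LD1_c30 LD2_c46 LD3_c29)) :=
  Lre_c IH (LK LD1_c22 LD2_c53 LD3_c1) (LK LD1_c30 LD2_c46 LD3_c29) Lrfl Lrfl
theorem f89800 : Led Lsl_gt (LP (LK LD1_c7 LD2_c39 LD3_c31)) = (LP (LK LD1_c3 LD2_c49 LD3_c21)) :=
  Lre_g IH (LK LD1_c7 LD2_c39 LD3_c31) (LK LD1_c3 LD2_c49 LD3_c21) Lrfl Lrfl
theorem f151630 : Led Lsl_ct (LP (LK LD1_c24 LD2_c12 LD3_c46)) = (LP (LK LD1_c14 LD2_c31 LD3_c8)) :=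
  Lre_c IH (LK LD1_c24 LD2_c12 LD3_c46) (LK LD1_c14 LD2_c31 LD3_c8) Lrfl Lrfl
theorem f524789 : Led Lsl_gt (LP (LK LD1_c30 LD2_c46 LD3_c29)) = (LP (LK LD1_c24 LD2_c12 LD3_c46)) :=
  Lgr Lrot150 (Lpe (f477995 IH) (Lpr_gf (f524787 IH) (Lpe (K35.f481028 IH) (Lpr_gt (f89800 IH) (Lpr_ct (K37.f89798 IH) (Lpe (K41.f481436 IH) (Lpe (K37.f486970 IH) (Lpe (K43.f486976 IH) (Lpe (f151630 IH) (Lpn (LP (LK LD1_c24 LD2_c12 LD3_c46))))))))))))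
theorem f490111 : Led Lsl_et (LP (LK LD1_c7 LD2_c4 LD3_c0)) = (LP (LK LD1_c13 LD2_c23 LD3_c52)) :=
  Lre_e IH (LK LD1_c7 LD2_c4 LD3_c0) (LK LD1_c13 LD2_c23 LD3_c52) Lrfl Lrfl
theorem f514063 : Led Lsl_at (LP (LK LD1_c13 LD2_c23 LD3_c52)) = (LP (LK LD1_c22 LD2_c34 LD3_c10)) :=
  Lgr Lrot80 (Lpe (f490111 IH) (Lpr_af (K37.f514051 IH) (Lpe (f157551 IH) (Lpn (LP (LK LD1_c22 LD2_c34 LD3_c10))))))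
theorem f514067 : Led Lsl_af (LP (LK LD1_c22 LD2_c41 LD3_c50)) = (LP (LK LD1_c14 LD2_c26 LD3_c26)) :=
  Lgr Lrot117 (Lpr_dt (K41.f478014 IH) (Lpr_at (f514063 IH) (Lpe (f157552 IH) (Lpn (LP (LK LD1_c14 LD2_c26 LD3_c26))))))
theorem f514073 : Led Lsl_ft (LP (LK LD1_c22 LD2_c53 LD3_c1)) = (LP (LK LD1_c14 LD2_c26 LD3_c26)) :=
  Lgr Lrot2 (Lpr_gt (f477993 IH) (Lpe (K33.f478011 IH) (Lpr_af (f514067 IH) (Lpn (LP (LK LD1_c14 LD2_c26 LD3_c26))))))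
theorem f514077 : Led Lsl_ff (LP (LK LD1_c22 LD2_c53 LD3_c1)) = (LP (LK LD1_c14 LD2_c26 LD3_c26)) :=
  Lgr Lrot3 (Lpr_ft (f514073 IH) (Lpn (LP (LK LD1_c14 LD2_c26 LD3_c26))))
theorem f157564 : Led Lsl_ct (LP (LK LD1_c24 LD2_c6 LD3_c30)) = (LP (LK LD1_c14 LD2_c26 LD3_c26)) :=
  Lre_c IH (LK LD1_c24 LD2_c6 LD3_c30) (LK LD1_c14 LD2_c26 LD3_c26) Lrfl Lrfl
theorem f514079 : Led Lsl_ft (LP (LK LD1_c30 LD2_c46 LD3_c29)) = (LP (LK LD1_c24 LD2_c6 LD3_c30)) :=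
  Lgr Lrot4 (Lpe (f477995 IH) (Lpr_ff (f514077 IH) (Lpe (f157564 IH) (Lpn (LP (LK LD1_c24 LD2_c6 LD3_c30))))))
theorem f461843 : Led Lsl_ct (LP (LK LD1_c22 LD2_c41 LD3_c50)) = (LP (LK LD1_c30 LD2_c39 LD3_c44)) :=
  Lre_c IH (LK LD1_c22 LD2_c41 LD3_c50) (LK LD1_c30 LD2_c39 LD3_c44) Lrfl Lrfl
theorem f514071 : Led Lsl_at (LP (LK LD1_c30 LD2_c39 LD3_c44)) = (LP (LK LD1_c24 LD2_c6 LD3_c30)) :=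
  Lgr Lrot107 (Lpe (f461843 IH) (Lpr_af (f514067 IH) (Lpe (f157564 IH) (Lpn (LP (LK LD1_c24 LD2_c6 LD3_c30))))))
theorem f514084 : Led Lsl_af (LP (LK LD1_c30 LD2_c39 LD3_c44)) = (LP (LK LD1_c24 LD2_c6 LD3_c30)) :=
  Lgr Lrot0 (Lpr_at (f514071 IH) (Lpn (LP (LK LD1_c24 LD2_c6 LD3_c30))))
theorem f524792 : Led Lsl_gf (LP (LK LD1_c30 LD2_c39 LD3_c44)) = (LP (LK LD1_c24 LD2_c12 LD3_c46)) :=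
  Lgr Lrot76 (Lpr_af (f514084 IH) (Lpe (f514079 IH) (Lpr_gt (f524789 IH) (Lpn (LP (LK LD1_c24 LD2_c12 LD3_c46))))))
theorem f477352 : Led Lsl_ct (LP (LK LD1_c30 LD2_c39 LD3_c44)) = (LP (LK LD1_c22 LD2_c41 LD3_c50)) :=
  Lre_c IH (LK LD1_c30 LD2_c39 LD3_c44) (LK LD1_c22 LD2_c41 LD3_c50) Lrfl Lrfl
theorem f478186 : Led Lsl_gt (LP (LK LD1_c23 LD2_c4 LD3_c11)) = (LP (LK LD1_c13 LD2_c39 LD3_c1)) :=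
  Lre_g IH (LK LD1_c23 LD2_c4 LD3_c11) (LK LD1_c13 LD2_c39 LD3_c1) Lrfl Lrfl
theorem f611443 : Led Lsl_ct (LP (LK LD1_c22 LD2_c36 LD3_c11)) = (LP (LK LD1_c23 LD2_c4 LD3_c11)) :=
  Lgr Lrot152 (Lpe (f501778 IH) (Lpr_df (f611425 IH) (Lpr_gt (f486977 IH) (Lpr_ct (f486975 IH) (Lpe (f524792 IH) (Lpr_ct (f477352 IH) (Lpe (K33.f463612 IH) (Lpr_cf (K41.f490100 IH) (Lpe (f478186 IH) (Lpn (LP (LK LD1_c23 LD2_c4 LD3_c11))))))))))))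
theorem f480646 : Led Lsl_dt (LP (LK LD1_c7 LD2_c8 LD3_c55)) = (LP (LK LD1_c13 LD2_c32 LD3_c19)) :=
  Lre_d IH (LK LD1_c7 LD2_c8 LD3_c55) (LK LD1_c13 LD2_c32 LD3_c19) Lrfl Lrfl
theorem f488913 : Led Lsl_ct (LP (LK LD1_c13 LD2_c31 LD3_c34)) = (LP (LK LD1_c22 LD2_c52 LD3_c59)) :=
  Lre_c IH (LK LD1_c13 LD2_c31 LD3_c34) (LK LD1_c22 LD2_c52 LD3_c59) Lrfl Lrfl
theorem f481049 : Led Lsl_ft (LP (LK LD1_c23 LD2_c9 LD3_c60)) = (LP (LK LD1_c14 LD2_c25 LD3_c33)) :=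
  Lgr Lrot101 (Lpe (K33.f481048 IH) (Lpr_ff (K29.f481044 IH) (Lpe (K28.f96897 IH) (Lpn (LP (LK LD1_c14 LD2_c25 LD3_c33))))))
theorem f481428 : Led Lsl_gt (LP (LK LD1_c14 LD2_c25 LD3_c40)) = (LP (LK LD1_c7 LD2_c39 LD3_c17)) :=
  Lre_g IH (LK LD1_c14 LD2_c25 LD3_c40) (LK LD1_c7 LD2_c39 LD3_c17) Lrfl Lrfl
theorem f481429 : Led Lsl_gt (LP (LK LD1_c23 LD2_c9 LD3_c60)) = (LP (LK LD1_c14 LD2_c25 LD3_c40)) :=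
  Lgr Lrot5 (Lpr_ft (f481049 IH) (Lpr_at (K28.f96897 IH) (Lpe (f481428 IH) (Lpn (LP (LK LD1_c14 LD2_c25 LD3_c40))))))
theorem f481431 : Led Lsl_ct (LP (LK LD1_c14 LD2_c25 LD3_c40)) = (LP (LK LD1_c24 LD2_c5 LD3_c33)) :=
  Lre_c IH (LK LD1_c14 LD2_c25 LD3_c40) (LK LD1_c24 LD2_c5 LD3_c33) Lrfl Lrfl
theorem f489024 : Led Lsl_gf (LP (LK LD1_c22 LD2_c51 LD3_c9)) = (LP (LK LD1_c24 LD2_c5 LD3_c33)) :=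
  Lgr Lrot104 (Lpr_ct (K43.f96810 IH) (Lpe (K43.f96796 IH) (Lpr_cf (K28.f96793 IH) (Lpe (K33.f96811 IH) (Lpr_cf (K33.f489000 IH) (Lpe (K33.f487782 IH) (Lpe (K33.f481065 IH) (Lpr_gt (f481429 IH) (Lpr_ct (f481431 IH) (Lpn (LP (LK LD1_c24 LD2_c5 LD3_c33))))))))))))
theorem f488918 : Led Lsl_ct (LP (LK LD1_c22 LD2_c52 LD3_c59)) = (LP (LK LD1_c13 LD2_c31 LD3_c34)) :=
  Lre_c IH (LK LD1_c22 LD2_c52 LD3_c59) (LK LD1_c13 LD2_c31 LD3_c34) Lrfl Lrfl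
theorem f488919 : Led Lsl_ft (LP (LK LD1_c23 LD2_c7 LD3_c1)) = (LP (LK LD1_c22 LD2_c52 LD3_c59)) :=
  Lgr Lrot4 (Lpe (K43.f155702 IH) (Lpr_ff (f488914 IH) (Lpe (f488918 IH) (Lpn (LP (LK LD1_c22 LD2_c52 LD3_c59))))))
theorem f488925 : Led Lsl_ff (LP (LK LD1_c23 LD2_c7 LD3_c1)) = (LP (LK LD1_c22 LD2_c52 LD3_c59)) :=
  Lgr Lrot3 (Lpr_ft (f488919 IH) (Lpn (LP (LK LD1_c22 LD2_c52 LD3_c59))))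
theorem f489060 : Led Lsl_gt (LP (LK LD1_c22 LD2_c52 LD3_c59)) = (LP (LK LD1_c24 LD2_c5 LD3_c33)) :=
  Lgr Lrot5 (Lpe (f488925 IH) (Lpr_at (K43.f162217 IH) (Lpr_gf (f489024 IH) (Lpn (LP (LK LD1_c24 LD2_c5 LD3_c33))))))
theorem f481434 : Led Lsl_ct (LP (LK LD1_c24 LD2_c5 LD3_c33)) = (LP (LK LD1_c14 LD2_c25 LD3_c40)) :=
  Lre_c IH (LK LD1_c24 LD2_c5 LD3_c33) (LK LD1_c14 LD2_c25 LD3_c40) Lrfl Lrfl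
theorem f611451 : Led Lsl_df (LP (LK LD1_c14 LD2_c25 LD3_c40)) = (LP (LK LD1_c23 LD2_c4 LD3_c11)) :=
  Lgr Lrot162 (Lpe (f481434 IH) (Lpe (f489060 IH) (Lpe (f488913 IH) (Lpr_gf (f489088 IH) (Lpr_dt (f480646 IH) (Lpr_gt (f480647 IH) (Lpr_ct (f529805 IH) (Lpr_gt (f501778 IH) (Lpr_ct (f611443 IH) (Lpn (LP (LK LD1_c23 LD2_c4 LD3_c11))))))))))))
theorem f481215 : Led Lsl_af (LP (LK LD1_c30 LD2_c43 LD3_c27)) = (LP (LK LD1_c22 LD2_c54 LD3_c7)) :=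
  Lgr Lrot68 (Lpe (K33.f481095 IH) (Lpr_at (K33.f481069 IH) (Lpr_ct (f481211 IH) (Lpn (LP (LK LD1_c22 LD2_c54 LD3_c7))))))
theorem f481220 : Led Lsl_ff (LP (LK LD1_c14 LD2_c25 LD3_c41)) = (LP (LK LD1_c22 LD2_c54 LD3_c7)) :=
  Lgr Lrot23 (Lpr_ct (f481054 IH) (Lpe (K29.f481044 IH) (Lpr_ct (f481211 IH) (Lpn (LP (LK LD1_c22 LD2_c54 LD3_c7))))))
theorem f481228 : Led Lsl_ft (LP (LK LD1_c14 LD2_c25 LD3_c41)) = (LP (LK LD1_c22 LD2_c54 LD3_c7)) :=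
  Lgr Lrot48 (Lpr_ff (f481220 IH) (Lpn (LP (LK LD1_c22 LD2_c54 LD3_c7))))
theorem f529755 : Led Lsl_gt (LP (LK LD1_c14 LD2_c25 LD3_c41)) = (LP (LK LD1_c22 LD2_c54 LD3_c4)) :=
  Lgr Lrot5 (Lpr_ft (f481228 IH) (Lpe (f481215 IH) (Lpr_gf (f529751 IH) (Lpn (LP (LK LD1_c22 LD2_c54 LD3_c4))))))
theorem f529729 : Led Lsl_ct (LP (LK LD1_c22 LD2_c54 LD3_c4)) = (LP (LK LD1_c13 LD2_c32 LD3_c17)) :=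
  Lre_c IH (LK LD1_c22 LD2_c54 LD3_c4) (LK LD1_c13 LD2_c32 LD3_c17) Lrfl Lrfl
theorem f480668 : Led Lsl_dt (LP (LK LD1_c13 LD2_c32 LD3_c17)) = (LP (LK LD1_c22 LD2_c54 LD3_c5)) :=
  Lre_d IH (LK LD1_c13 LD2_c32 LD3_c17) (LK LD1_c22 LD2_c54 LD3_c5) Lrfl Lrfl
theorem f481138 : Led Lsl_dt (LP (LK LD1_c7 LD2_c39 LD3_c49)) = (LP (LK LD1_c14 LD2_c26 LD3_c33)) :=
  Lre_d IH (LK LD1_c7 LD2_c39 LD3_c49) (LK LD1_c14 LD2_c26 LD3_c33) Lrfl Lrfl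
theorem f529747 : Led Lsl_ct (LP (LK LD1_c14 LD2_c26 LD3_c33)) = (LP (LK LD1_c22 LD2_c54 LD3_c5)) :=
  Lgr Lrot7 (Lpe (f481138 IH) (Lpe (f481137 IH) (Lpe (K33.f110298 IH) (Lpe (K33.f157586 IH) (Lpr_cf (K33.f481122 IH) (Lpe (K33.f488815 IH) (Lpr_dt (f155686 IH) (Lpr_gt (f529745 IH) (Lpr_dt (f480668 IH) (Lpn (LP (LK LD1_c22 LD2_c54 LD3_c5))))))))))))
theorem f611453 : Led Lsl_gf (LP (LK LD1_c14 LD2_c26 LD3_c33)) = (LP (LK LD1_c13 LD2_c23 LD3_c52)) :=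
  Lgr Lrot104 (Lpr_ct (f529747 IH) (Lpe (f480668 IH) (Lpe (f529729 IH) (Lpe (f529755 IH) (Lpe (f467973 IH) (Lpe (f481428 IH) (Lpr_df (f611451 IH) (Lpr_gt (f478186 IH) (Lpe (K41.f490100 IH) (Lpn (LP (LK LD1_c13 LD2_c23 LD3_c52))))))))))))
theorem f480667 : Led Lsl_at (LP (LK LD1_c13 LD2_c32 LD3_c19)) = (LP (LK LD1_c22 LD2_c54 LD3_c5)) :=
  Lre_a IH (LK LD1_c13 LD2_c32 LD3_c19) (LK LD1_c22 LD2_c54 LD3_c5) Lrfl Lrfl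
theorem f529723 : Led Lsl_ff (LP (LK LD1_c13 LD2_c51 LD3_c1)) = (LP (LK LD1_c22 LD2_c54 LD3_c5)) :=
  Lgr Lrot30 (Lpr_at (f17581 IH) (Lpr_ft (f528127 IH) (Lpr_at (f480667 IH) (Lpn (LP (LK LD1_c22 LD2_c54 LD3_c5))))))
theorem f529868 : Led Lsl_gf (LP (LK LD1_c13 LD2_c51 LD3_c7)) = (LP (LK LD1_c22 LD2_c54 LD3_c5)) :=
  Lgr Lrot47 (Lpr_gt (f17586 IH) (Lpe (f17581 IH) (Lpr_ff (f529723 IH) (Lpn (LP (LK LD1_c22 LD2_c54 LD3_c5))))))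
theorem f17587 : Led Lsl_ct (LP (LK LD1_c23 LD2_c20 LD3_c22)) = (LP (LK LD1_c13 LD2_c51 LD3_c7)) :=
  Lre_c IH (LK LD1_c23 LD2_c20 LD3_c22) (LK LD1_c13 LD2_c51 LD3_c7) Lrfl Lrfl
theorem f490110 : Led Lsl_bt (LP (LK LD1_c7 LD2_c4 LD3_c2)) = (LP (LK LD1_c13 LD2_c23 LD3_c52)) :=
  Lre_b IH (LK LD1_c7 LD2_c4 LD3_c2) (LK LD1_c13 LD2_c23 LD3_c52) Lrfl Lrfl
theorem f461840 : Led Lsl_ct (LP (LK LD1_c7 LD2_c4 LD3_c2)) = (LP (LK LD1_c3 LD2_c31 LD3_c3)) :=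
  Lre_c IH (LK LD1_c7 LD2_c4 LD3_c2) (LK LD1_c3 LD2_c31 LD3_c3) Lrfl Lrfl
theorem f466805 : Led Lsl_gt (LP (LK LD1_c14 LD2_c15 LD3_c30)) = (LP (LK LD1_c7 LD2_c33 LD3_c36)) :=
  Lre_g IH (LK LD1_c14 LD2_c15 LD3_c30) (LK LD1_c7 LD2_c33 LD3_c36) Lrfl Lrfl
theorem f611459 : Led Lsl_bt (LP (LK LD1_c23 LD2_c20 LD3_c22)) = (LP (LK LD1_c14 LD2_c15 LD3_c30)) :=
  Lgr Lrot22 (Lpr_ct (f17587 IH) (Lpr_gf (f529868 IH) (Lpe (f529747 IH) (Lpr_gf (f611453 IH) (Lpe (f490110 IH) (Lpr_ct (f461840 IH) (Lpe (K34.f527213 IH) (Lpe (K29.f466766 IH) (Lpr_bt (f466772 IH) (Lpe (f466805 IH) (Lpn (LP (LK LD1_c14 LD2_c15 LD3_c30)))))))))))))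
theorem f511745 : Led Lsl_bt (LP (LK LD1_c23 LD2_c54 LD3_c54)) = (LP (LK LD1_c14 LD2_c17 LD3_c20)) :=
  Lre_b IH (LK LD1_c23 LD2_c54 LD3_c54) (LK LD1_c14 LD2_c17 LD3_c20) Lrfl Lrfl
theorem f471833 : Led Lsl_dt (LP (LK LD1_c13 LD2_c17 LD3_c17)) = (LP (LK LD1_c7 LD2_c37 LD3_c2)) :=
  Lgr Lrot42 (Lpr_df (K29.f471804 IH) (Lpn (LP (LK LD1_c7 LD2_c37 LD3_c2))))
theorem f471802 : Led Lsl_cf (LP (LK LD1_c13 LD2_c17 LD3_c16)) = (LP (LK LD1_c7 LD2_c37 LD3_c2)) :=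
  Lgr Lrot11 (Lpr_ct (K29.f471797 IH) (Lpn (LP (LK LD1_c7 LD2_c37 LD3_c2))))
theorem f459930 : Led Lsl_df (LP (LK LD1_c3 LD2_c46 LD3_c54)) = (LP (LK LD1_c3 LD2_c52 LD3_c51)) :=
  Lgr Lrot38 (Lpr_dt (K33.f459923 IH) (Lpn (LP (LK LD1_c3 LD2_c52 LD3_c51))))
theorem f477943 : Led Lsl_gf (LP (LK LD1_c7 LD2_c0 LD3_c11)) = (LP (LK LD1_c3 LD2_c46 LD3_c54)) :=
  Lgr Lrot143 (Lpr_dt (K29.f464149 IH) (Lpr_cf (f471802 IH) (Lpe (f471833 IH) (Lpr_gf (K29.f477172 IH) (Lpe (K29.f464013 IH) (Lpr_gf (K29.f468584 IH) (Lpe (K29.f459899 IH) (Lpr_gt (K29.f459898 IH) (Lpe (f459930 IH) (Lpn (LP (LK LD1_c3 LD2_c46 LD3_c54))))))))))))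
theorem f511743 : Led Lsl_gf (LP (LK LD1_c3 LD2_c39 LD3_c48)) = (LP (LK LD1_c7 LD2_c2 LD3_c45)) :=
  Lgr Lrot147 (Lpr_ct (K33.f511717 IH) (Lpe (f477943 IH) (Lpr_ct (K29.f460229 IH) (Lpe (K29.f18788 IH) (Lpe (K28.f63020 IH) (Lpe (K29.f460222 IH) (Lpr_cf (K4.f92402 IH) (Lpe (K29.f468356 IH) (Lpe (K28.f457652 IH) (Lpn (LP (LK LD1_c7 LD2_c2 LD3_c45))))))))))))
theorem f458487 : Led Lsl_bt (LP (LK LD1_c13 LD2_c23 LD3_c8)) = (LP (LK LD1_c7 LD2_c3 LD3_c31)) :=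
  Lre_b IH (LK LD1_c13 LD2_c23 LD3_c8) (LK LD1_c7 LD2_c3 LD3_c31) Lrfl Lrfl
theorem f477703 : Led Lsl_bf (LP (LK LD1_c3 LD2_c30 LD3_c44)) = (LP (LK LD1_c3 LD2_c30 LD3_c44)) :=
  Lgr Lrot93 (Lpe (K29.f443503 IH) (Lpr_bt (K29.f477699 IH) (Lpr_dt (K29.f443499 IH) (Lpn (LP (LK LD1_c3 LD2_c30 LD3_c44))))))
theorem f443507 : Led Lsl_bt (LP (LK LD1_c7 LD2_c3 LD3_c31)) = (LP (LK LD1_c13 LD2_c23 LD3_c8)) :=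
  Lre_b IH (LK LD1_c7 LD2_c3 LD3_c31) (LK LD1_c13 LD2_c23 LD3_c8) Lrfl Lrfl
theorem f477718 : Led Lsl_ct (LP (LK LD1_c13 LD2_c23 LD3_c8)) = (LP (LK LD1_c13 LD2_c23 LD3_c8)) :=
  Lgr Lrot83 (Lpe (f443507 IH) (Lpe (K29.f443502 IH) (Lpr_bf (f477703 IH) (Lpe (K29.f443506 IH) (Lpe (f458487 IH) (Lpn (LP (LK LD1_c13 LD2_c23 LD3_c8))))))))
theorem f458496 : Led Lsl_gt (LP (LK LD1_c22 LD2_c40 LD3_c60)) = (LP (LK LD1_c13 LD2_c23 LD3_c8)) :=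
  Lre_g IH (LK LD1_c22 LD2_c40 LD3_c60) (LK LD1_c13 LD2_c23 LD3_c8) Lrfl Lrfl
theorem f511746 : Led Lsl_ct (LP (LK LD1_c23 LD2_c54 LD3_c54)) = (LP (LK LD1_c22 LD2_c40 LD3_c60)) :=
  Lgr Lrot64 (Lpr_bt (f511745 IH) (Lpe (f460023 IH) (Lpe (f460014 IH) (Lpe (K34.f511736 IH) (Lpr_gf (f511743 IH) (Lpr_cf (K29.f458470 IH) (Lpe (K29.f458485 IH) (Lpe (f458487 IH) (Lpr_ct (f477718 IH) (Lpe (f458496 IH) (Lpn (LP (LK LD1_c22 LD2_c40 LD3_c60)))))))))))))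
theorem f511751 : Led Lsl_cf (LP (LK LD1_c23 LD2_c54 LD3_c54)) = (LP (LK LD1_c22 LD2_c40 LD3_c60)) :=
  Lgr Lrot11 (Lpr_ct (f511746 IH) (Lpn (LP (LK LD1_c22 LD2_c40 LD3_c60))))
theorem f458497 : Led Lsl_bt (LP (LK LD1_c30 LD2_c39 LD3_c9)) = (LP (LK LD1_c22 LD2_c40 LD3_c60)) :=
  Lre_b IH (LK LD1_c30 LD2_c39 LD3_c9) (LK LD1_c22 LD2_c40 LD3_c60) Lrfl Lrfl
theorem f566271 : Led Lsl_ct (LP (LK LD1_c23 LD2_c20 LD3_c23)) = (LP (LK LD1_c30 LD2_c39 LD3_c9)) :=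
  Lgr Lrot83 (Lpr_bf (f566266 IH) (Lpe (f460024 IH) (Lpe (f511745 IH) (Lpr_cf (f511751 IH) (Lpe (f458497 IH) (Lpn (LP (LK LD1_c30 LD2_c39 LD3_c9))))))))
theorem f566268 : Led Lsl_et (LP (LK LD1_c13 LD2_c51 LD3_c7)) = (LP (LK LD1_c23 LD2_c20 LD3_c23)) :=
  Lre_e IH (LK LD1_c13 LD2_c51 LD3_c7) (LK LD1_c23 LD2_c20 LD3_c23) Lrfl Lrfl
theorem f566357 : Led Lsl_ef (LP (LK LD1_c23 LD2_c20 LD3_c22)) = (LP (LK LD1_c30 LD2_c39 LD3_c9)) :=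
  Lgr Lrot28 (Lpr_ct (f17587 IH) (Lpr_et (f566268 IH) (Lpr_ct (f566271 IH) (Lpn (LP (LK LD1_c30 LD2_c39 LD3_c9))))))
theorem f511750 : Led Lsl_bt (LP (LK LD1_c22 LD2_c40 LD3_c60)) = (LP (LK LD1_c30 LD2_c39 LD3_c9)) :=
  Lre_b IH (LK LD1_c22 LD2_c40 LD3_c60) (LK LD1_c30 LD2_c39 LD3_c9) Lrfl Lrfl
theorem f611464 : Led Lsl_ef (LP (LK LD1_c22 LD2_c40 LD3_c60)) = (LP (LK LD1_c14 LD2_c15 LD3_c30)) :=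
  Lgr Lrot29 (Lpr_bt (f511750 IH) (Lpe (f566357 IH) (Lpr_bt (f611459 IH) (Lpn (LP (LK LD1_c14 LD2_c15 LD3_c30))))))
theorem f611468 : Led Lsl_et (LP (LK LD1_c22 LD2_c40 LD3_c60)) = (LP (LK LD1_c14 LD2_c15 LD3_c30)) :=
  Lgr Lrot87 (Lpr_ef (f611464 IH) (Lpn (LP (LK LD1_c14 LD2_c15 LD3_c30))))
theorem f471460 : Led Lsl_ct (LP (LK LD1_c3 LD2_c53 LD3_c13)) = (LP (LK LD1_c7 LD2_c7 LD3_c56)) :=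
  Lgr Lrot59 (Lpr_cf (K34.f471454 IH) (Lpn (LP (LK LD1_c7 LD2_c7 LD3_c56))))
theorem f476535 : Led Lsl_dt (LP (LK LD1_c22 LD2_c41 LD3_c23)) = (LP (LK LD1_c13 LD2_c23 LD3_c39)) :=
  Lre_d IH (LK LD1_c22 LD2_c41 LD3_c23) (LK LD1_c13 LD2_c23 LD3_c39) Lrfl Lrfl
theorem f513278 : Led Lsl_dt (LP (LK LD1_c22 LD2_c32 LD3_c60)) = (LP (LK LD1_c14 LD2_c25 LD3_c52)) :=
  Lgr Lrot60 (Lpr_ff (K33.f513252 IH) (Lpe (f476535 IH) (Lpr_ff (K34.f476523 IH) (Lpn (LP (LK LD1_c14 LD2_c25 LD3_c52))))))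
theorem f513282 : Led Lsl_ff (LP (LK LD1_c13 LD2_c17 LD3_c15)) = (LP (LK LD1_c7 LD2_c3 LD3_c55)) :=
  Lgr Lrot30 (Lpr_at (K33.f513243 IH) (Lpr_ft (K33.f513280 IH) (Lpr_at (K33.f63096 IH) (Lpn (LP (LK LD1_c7 LD2_c3 LD3_c55))))))
theorem f514204 : Led Lsl_gf (LP (LK LD1_c22 LD2_c32 LD3_c60)) = (LP (LK LD1_c13 LD2_c23 LD3_c37)) :=
  Lgr Lrot76 (Lpe (K33.f513243 IH) (Lpr_ff (f513282 IH) (Lpr_gt (K46.f18820 IH) (Lpn (LP (LK LD1_c13 LD2_c23 LD3_c37))))))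
theorem f566247 : Led Lsl_gf (LP (LK LD1_c23 LD2_c20 LD3_c23)) = (LP (LK LD1_c22 LD2_c41 LD3_c21)) :=
  Lgr Lrot144 (Lpe (f566225 IH) (Lpr_gt (f566245 IH) (Lpr_dt (K41.f465629 IH) (Lpe (f471460 IH) (Lpe (K34.f471470 IH) (Lpr_gf (K34.f471541 IH) (Lpe (f513278 IH) (Lpr_gf (f514204 IH) (Lpe (f466482 IH) (Lpn (LP (LK LD1_c22 LD2_c41 LD3_c21))))))))))))
theorem f110269 : Led Lsl_ct (LP (LK LD1_c7 LD2_c39 LD3_c25)) = (LP (LK LD1_c14 LD2_c25 LD3_c53)) :=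
  Lre_c IH (LK LD1_c7 LD2_c39 LD3_c25) (LK LD1_c14 LD2_c25 LD3_c53) Lrfl Lrfl
theorem f110278 : Led Lsl_gt (LP (LK LD1_c14 LD2_c25 LD3_c53)) = (LP (LK LD1_c24 LD2_c5 LD3_c48)) :=
  Lre_g IH (LK LD1_c14 LD2_c25 LD3_c53) (LK LD1_c24 LD2_c5 LD3_c48) Lrfl Lrfl
theorem f460444 : Led Lsl_bt (LP (LK LD1_c7 LD2_c3 LD3_c56)) = (LP (LK LD1_c13 LD2_c23 LD3_c40)) :=
  Lre_b IH (LK LD1_c7 LD2_c3 LD3_c56) (LK LD1_c13 LD2_c23 LD3_c40) Lrfl Lrfl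
theorem f14874 : Led Lsl_gt (LP (LK LD1_c14 LD2_c19 LD3_c59)) = (LP (LK LD1_c7 LD2_c36 LD3_c34)) :=
  Lre_g IH (LK LD1_c14 LD2_c19 LD3_c59) (LK LD1_c7 LD2_c36 LD3_c34) Lrfl Lrfl
theorem f14876 : Led Lsl_bt (LP (LK LD1_c23 LD2_c57 LD3_c59)) = (LP (LK LD1_c14 LD2_c19 LD3_c59)) :=
  Lre_b IH (LK LD1_c23 LD2_c57 LD3_c59) (LK LD1_c14 LD2_c19 LD3_c59) Lrfl Lrfl
theorem f476514 : Led Lsl_ct (LP (LK LD1_c23 LD2_c57 LD3_c59)) = (LP (LK LD1_c24 LD2_c5 LD3_c48)) :=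
  Lgr Lrot63 (Lpr_bt (f14876 IH) (Lpr_gt (f14874 IH) (Lpe (K29.f425689 IH) (Lpr_ct (K29.f460446 IH) (Lpr_gt (K29.f460445 IH) (Lpr_cf (K24.f460415 IH) (Lpr_bt (f460444 IH) (Lpr_gt (K34.f476508 IH) (Lpr_ct (f110269 IH) (Lpr_gt (f110278 IH) (Lpn (LP (LK LD1_c24 LD2_c5 LD3_c48)))))))))))))
theorem f476517 : Led Lsl_cf (LP (LK LD1_c23 LD2_c57 LD3_c59)) = (LP (LK LD1_c24 LD2_c5 LD3_c48)) :=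
  Lgr Lrot11 (Lpr_ct (f476514 IH) (Lpn (LP (LK LD1_c24 LD2_c5 LD3_c48))))
theorem f566361 : Led Lsl_df (LP (LK LD1_c23 LD2_c57 LD3_c59)) = (LP (LK LD1_c30 LD2_c39 LD3_c9)) :=
  Lgr Lrot162 (Lpr_cf (f476517 IH) (Lpe (f110278 IH) (Lpe (f110269 IH) (Lpe (K34.f476508 IH) (Lpr_dt (K34.f63089 IH) (Lpr_gt (K46.f18820 IH) (Lpr_ct (K46.f458498 IH) (Lpe (f566247 IH) (Lpr_ct (f566271 IH) (Lpn (LP (LK LD1_c30 LD2_c39 LD3_c9))))))))))))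
theorem f566363 : Led Lsl_dt (LP (LK LD1_c14 LD2_c19 LD3_c59)) = (LP (LK LD1_c22 LD2_c40 LD3_c60)) :=
  Lgr Lrot79 (Lpe (f14876 IH) (Lpr_df (f566361 IH) (Lpe (f511750 IH) (Lpn (LP (LK LD1_c22 LD2_c40 LD3_c60))))))
theorem f566365 : Led Lsl_df (LP (LK LD1_c14 LD2_c19 LD3_c59)) = (LP (LK LD1_c22 LD2_c40 LD3_c60)) :=
  Lgr Lrot38 (Lpr_dt (f566363 IH) (Lpn (LP (LK LD1_c22 LD2_c40 LD3_c60))))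
theorem f476520 : Led Lsl_gt (LP (LK LD1_c7 LD2_c36 LD3_c8)) = (LP (LK LD1_c14 LD2_c19 LD3_c59)) :=
  Lre_g IH (LK LD1_c7 LD2_c36 LD3_c8) (LK LD1_c14 LD2_c19 LD3_c59) Lrfl Lrfl
theorem f16779 : Led Lsl_et (LP (LK LD1_c7 LD2_c30 LD3_c14)) = (LP (LK LD1_c3 LD2_c44 LD3_c34)) :=
  Lre_e IH (LK LD1_c7 LD2_c30 LD3_c14) (LK LD1_c3 LD2_c44 LD3_c34) Lrfl Lrfl
theorem f16780 : Led Lsl_dt (LP (LK LD1_c7 LD2_c30 LD3_c14)) = (LP (LK LD1_c14 LD2_c10 LD3_c16)) :=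
  Lre_d IH (LK LD1_c7 LD2_c30 LD3_c14) (LK LD1_c14 LD2_c10 LD3_c16) Lrfl Lrfl
theorem f64956 : Led Lsl_et (LP (LK LD1_c0 LD2_c52 LD3_c52)) = (LP (LK LD1_c0 LD2_c23 LD3_c50)) :=
  Lre_e IH (LK LD1_c0 LD2_c52 LD3_c52) (LK LD1_c0 LD2_c23 LD3_c50) Lrfl Lrfl
theorem f64957 : Led Lsl_dt (LP (LK LD1_c0 LD2_c52 LD3_c52)) = (LP (LK LD1_c1 LD2_c52 LD3_c14)) :=
  Lre_d IH (LK LD1_c0 LD2_c52 LD3_c52) (LK LD1_c1 LD2_c52 LD3_c14) Lrfl Lrfl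
theorem f12324 : Led Lsl_gt (LP (LK LD1_c3 LD2_c50 LD3_c44)) = (LP (LK LD1_c1 LD2_c52 LD3_c14)) :=
  Lre_g IH (LK LD1_c3 LD2_c50 LD3_c44) (LK LD1_c1 LD2_c52 LD3_c14) Lrfl Lrfl
theorem f478310 : Led Lsl_df (LP (LK LD1_c3 LD2_c50 LD3_c44)) = (LP (LK LD1_c3 LD2_c46 LD3_c17)) :=
  Lgr Lrot170 (Lpr_gt (f12324 IH) (Lpe (f64957 IH) (Lpr_et (f64956 IH) (Lpr_gt (K0.f12192 IH) (Lpr_dt (K3.f64184 IH) (Lpr_gt (K1.f15048 IH) (Lpr_df (K2.f65182 IH) (Lpr_et (K4.f65186 IH) (Lpr_gt (K29.f478300 IH) (Lpe (K29.f466840 IH) (Lpn (LP (LK LD1_c3 LD2_c46 LD3_c17)))))))))))))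
theorem f478326 : Led Lsl_et (LP (LK LD1_c3 LD2_c50 LD3_c44)) = (LP (LK LD1_c7 LD2_c42 LD3_c34)) :=
  Lre_e IH (LK LD1_c3 LD2_c50 LD3_c44) (LK LD1_c7 LD2_c42 LD3_c34) Lrfl Lrfl
theorem f466767 : Led Lsl_et (LP (LK LD1_c1 LD2_c50 LD3_c11)) = (LP (LK LD1_c3 LD2_c46 LD3_c17)) :=
  Lre_e IH (LK LD1_c1 LD2_c50 LD3_c11) (LK LD1_c3 LD2_c46 LD3_c17) Lrfl Lrfl
theorem f478327 : Led Lsl_dt (LP (LK LD1_c7 LD2_c42 LD3_c34)) = (LP (LK LD1_c7 LD2_c33 LD3_c38)) :=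
  Lgr Lrot77 (Lpe (f478326 IH) (Lpr_df (f478310 IH) (Lpe (f466767 IH) (Lpe (K29.f459570 IH) (Lpe (K29.f466865 IH) (Lpn (LP (LK LD1_c7 LD2_c33 LD3_c38))))))))
theorem f478409 : Led Lsl_df (LP (LK LD1_c7 LD2_c42 LD3_c34)) = (LP (LK LD1_c7 LD2_c33 LD3_c38)) :=
  Lgr Lrot38 (Lpr_dt (f478327 IH) (Lpn (LP (LK LD1_c7 LD2_c33 LD3_c38))))
theorem f478423 : Led Lsl_bt (LP (LK LD1_c7 LD2_c42 LD3_c34)) = (LP (LK LD1_c14 LD2_c31 LD3_c57)) :=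
  Lre_b IH (LK LD1_c7 LD2_c42 LD3_c34) (LK LD1_c14 LD2_c31 LD3_c57) Lrfl Lrfl
theorem f466868 : Led Lsl_bt (LP (LK LD1_c14 LD2_c15 LD3_c28)) = (LP (LK LD1_c7 LD2_c33 LD3_c38)) :=
  Lre_b IH (LK LD1_c14 LD2_c15 LD3_c28) (LK LD1_c7 LD2_c33 LD3_c38) Lrfl Lrfl
theorem f478424 : Led Lsl_dt (LP (LK LD1_c14 LD2_c31 LD3_c57)) = (LP (LK LD1_c14 LD2_c15 LD3_c28)) :=
  Lgr Lrot79 (Lpe (f478423 IH) (Lpr_df (f478409 IH) (Lpe (f466868 IH) (Lpn (LP (LK LD1_c14 LD2_c15 LD3_c28))))))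
theorem f478428 : Led Lsl_et (LP (LK LD1_c7 LD2_c42 LD3_c33)) = (LP (LK LD1_c14 LD2_c31 LD3_c57)) :=
  Lre_e IH (LK LD1_c7 LD2_c42 LD3_c33) (LK LD1_c14 LD2_c31 LD3_c57) Lrfl Lrfl
theorem f474696 : Led Lsl_et (LP (LK LD1_c14 LD2_c15 LD3_c28)) = (LP (LK LD1_c7 LD2_c33 LD3_c35)) :=
  Lre_e IH (LK LD1_c14 LD2_c15 LD3_c28) (LK LD1_c7 LD2_c33 LD3_c35) Lrfl Lrfl
theorem f466813 : Led Lsl_dt (LP (LK LD1_c7 LD2_c33 LD3_c35)) = (LP (LK LD1_c3 LD2_c46 LD3_c15)) :=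
  Lre_d IH (LK LD1_c7 LD2_c33 LD3_c35) (LK LD1_c3 LD2_c46 LD3_c15) Lrfl Lrfl
theorem f478429 : Led Lsl_df (LP (LK LD1_c7 LD2_c42 LD3_c33)) = (LP (LK LD1_c7 LD2_c33 LD3_c36)) :=
  Lgr Lrot70 (Lpr_et (f478428 IH) (Lpr_dt (f478424 IH) (Lpr_et (f474696 IH) (Lpr_dt (f466813 IH) (Lpr_et (f466800 IH) (Lpn (LP (LK LD1_c7 LD2_c33 LD3_c36))))))))
theorem f611472 : Led Lsl_gf (LP (LK LD1_c14 LD2_c10 LD3_c16)) = (LP (LK LD1_c7 LD2_c42 LD3_c33)) :=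
  Lgr Lrot134 (Lpe (f16780 IH) (Lpr_et (f16779 IH) (Lpr_gt (K5.f14771 IH) (Lpe (K8.f14768 IH) (Lpr_dt (K8.f14787 IH) (Lpr_gt (f476520 IH) (Lpr_df (f566365 IH) (Lpr_et (f611468 IH) (Lpr_gt (f466805 IH) (Lpe (f478429 IH) (Lpn (LP (LK LD1_c7 LD2_c42 LD3_c33)))))))))))))
theorem f205868 : Led Lsl_et (LP (LK LD1_c3 LD2_c29 LD3_c1)) = (LP (LK LD1_c6 LD2_c59 LD3_c47)) :=
  Lre_e IH (LK LD1_c3 LD2_c29 LD3_c1) (LK LD1_c6 LD2_c59 LD3_c47) Lrfl Lrfl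
theorem f611477 : Led Lsl_gt (LP (LK LD1_c6 LD2_c59 LD3_c47)) = (LP (LK LD1_c3 LD2_c46 LD3_c15)) :=
  Lgr Lrot131 (Lpe (f205868 IH) (Lpe (K11.f205860 IH) (Lpr_gf (K11.f16772 IH) (Lpe (K0.f14752 IH) (Lpe (K5.f14771 IH) (Lpe (f16779 IH) (Lpr_dt (f16780 IH) (Lpr_gf (f611472 IH) (Lpr_df (f478429 IH) (Lpr_et (f466801 IH) (Lpn (LP (LK LD1_c3 LD2_c46 LD3_c15)))))))))))))
theorem f91248 : Led Lsl_bf (LP (LK LD1_c13 LD2_c17 LD3_c21)) = (LP (LK LD1_c13 LD2_c16 LD3_c29)) :=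
  Lgr Lrot24 (Lpr_bt (K32.f91246 IH) (Lpn (LP (LK LD1_c13 LD2_c16 LD3_c29))))
theorem f481697 : Led Lsl_bt (LP (LK LD1_c3 LD2_c29 LD3_c44)) = (LP (LK LD1_c7 LD2_c1 LD3_c3)) :=
  Lre_b IH (LK LD1_c3 LD2_c29 LD3_c44) (LK LD1_c7 LD2_c1 LD3_c3) Lrfl Lrfl
theorem f611479 : Led Lsl_gf (LP (LK LD1_c13 LD2_c17 LD3_c21)) = (LP (LK LD1_c7 LD2_c1 LD3_c3)) :=
  Lgr Lrot124 (Lpr_bf (f91248 IH) (Lpr_ct (K32.f91250 IH) (Lpr_gt (f611477 IH) (Lpr_cf (f466802 IH) (Lpr_bt (f459575 IH) (Lpe (K29.f478469 IH) (Lpe (K4.f115957 IH) (Lpr_gt (K29.f481684 IH) (Lpe (K30.f482948 IH) (Lpr_bt (f481697 IH) (Lpn (LP (LK LD1_c7 LD2_c1 LD3_c3)))))))))))))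
theorem f115951 : Led Lsl_gt (LP (LK LD1_c13 LD2_c19 LD3_c37)) = (LP (LK LD1_c7 LD2_c1 LD3_c40)) :=
  Lre_g IH (LK LD1_c13 LD2_c19 LD3_c37) (LK LD1_c7 LD2_c1 LD3_c40) Lrfl Lrfl
theorem f473271 : Led Lsl_gt (LP (LK LD1_c3 LD2_c26 LD3_c35)) = (LP (LK LD1_c6 LD2_c55 LD3_c0)) :=
  Lre_g IH (LK LD1_c3 LD2_c26 LD3_c35) (LK LD1_c6 LD2_c55 LD3_c0) Lrfl Lrfl
theorem f484464 : Led Lsl_ct (LP (LK LD1_c6 LD2_c55 LD3_c0)) = (LP (LK LD1_c13 LD2_c8 LD3_c34)) :=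
  Lre_c IH (LK LD1_c6 LD2_c55 LD3_c0) (LK LD1_c13 LD2_c8 LD3_c34) Lrfl Lrfl
theorem f90022 : Led Lsl_dt (LP (LK LD1_c6 LD2_c56 LD3_c12)) = (LP (LK LD1_c3 LD2_c27 LD3_c8)) :=
  Lre_d IH (LK LD1_c6 LD2_c56 LD3_c12) (LK LD1_c3 LD2_c27 LD3_c8) Lrfl Lrfl
theorem f90023 : Led Lsl_ct (LP (LK LD1_c13 LD2_c10 LD3_c26)) = (LP (LK LD1_c6 LD2_c56 LD3_c12)) :=
  Lre_c IH (LK LD1_c13 LD2_c10 LD3_c26) (LK LD1_c6 LD2_c56 LD3_c12) Lrfl Lrfl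
theorem f485651 : Led Lsl_gt (LP (LK LD1_c13 LD2_c8 LD3_c34)) = (LP (LK LD1_c13 LD2_c10 LD3_c26)) :=
  Lgr Lrot150 (Lpe (f484464 IH) (Lpe (f473271 IH) (Lpe (K35.f102536 IH) (Lpr_gt (K29.f15189 IH) (Lpr_ct (K34.f484135 IH) (Lpr_gt (K29.f90050 IH) (Lpe (K29.f90043 IH) (Lpe (f90022 IH) (Lpe (f90023 IH) (Lpn (LP (LK LD1_c13 LD2_c10 LD3_c26))))))))))))
theorem f112178 : Led Lsl_bt (LP (LK LD1_c6 LD2_c54 LD3_c51)) = (LP (LK LD1_c3 LD2_c26 LD3_c35)) :=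
  Lre_b IH (LK LD1_c6 LD2_c54 LD3_c51) (LK LD1_c3 LD2_c26 LD3_c35) Lrfl Lrfl
theorem f15165 : Led Lsl_ct (LP (LK LD1_c6 LD2_c54 LD3_c51)) = (LP (LK LD1_c13 LD2_c8 LD3_c14)) :=
  Lre_c IH (LK LD1_c6 LD2_c54 LD3_c51) (LK LD1_c13 LD2_c8 LD3_c14) Lrfl Lrfl
theorem f136673 : Led Lsl_gt (LP (LK LD1_c7 LD2_c42 LD3_c2)) = (LP (LK LD1_c3 LD2_c50 LD3_c36)) :=
  Lre_g IH (LK LD1_c7 LD2_c42 LD3_c2) (LK LD1_c3 LD2_c50 LD3_c36) Lrfl Lrfl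
theorem f135958 : Led Lsl_dt (LP (LK LD1_c7 LD2_c42 LD3_c2)) = (LP (LK LD1_c14 LD2_c30 LD3_c53)) :=
  Lre_d IH (LK LD1_c7 LD2_c42 LD3_c2) (LK LD1_c14 LD2_c30 LD3_c53) Lrfl Lrfl
theorem f135957 : Led Lsl_gt (LP (LK LD1_c14 LD2_c30 LD3_c53)) = (LP (LK LD1_c7 LD2_c42 LD3_c20)) :=
  Lre_g IH (LK LD1_c14 LD2_c30 LD3_c53) (LK LD1_c7 LD2_c42 LD3_c20) Lrfl Lrfl
theorem f485378 : Led Lsl_ct (LP (LK LD1_c7 LD2_c42 LD3_c20)) = (LP (LK LD1_c14 LD2_c31 LD3_c22)) :=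
  Lre_c IH (LK LD1_c7 LD2_c42 LD3_c20) (LK LD1_c14 LD2_c31 LD3_c22) Lrfl Lrfl
theorem f15183 : Led Lsl_ct (LP (LK LD1_c13 LD2_c8 LD3_c14)) = (LP (LK LD1_c6 LD2_c54 LD3_c51)) :=
  Lre_c IH (LK LD1_c13 LD2_c8 LD3_c14) (LK LD1_c6 LD2_c54 LD3_c51) Lrfl Lrfl
theorem f485379 : Led Lsl_gt (LP (LK LD1_c14 LD2_c31 LD3_c22)) = (LP (LK LD1_c13 LD2_c8 LD3_c14)) :=
  Lgr Lrot150 (Lpe (f485378 IH) (Lpe (f135957 IH) (Lpe (f135958 IH) (Lpr_gt (f136673 IH) (Lpr_ct (K37.f485364 IH) (Lpr_gt (K37.f15113 IH) (Lpe (K4.f15143 IH) (Lpe (K4.f15180 IH) (Lpe (f15183 IH) (Lpn (LP (LK LD1_c13 LD2_c8 LD3_c14))))))))))))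
theorem f485401 : Led Lsl_bt (LP (LK LD1_c7 LD2_c42 LD3_c20)) = (LP (LK LD1_c14 LD2_c31 LD3_c21)) :=
  Lre_b IH (LK LD1_c7 LD2_c42 LD3_c20) (LK LD1_c14 LD2_c31 LD3_c21) Lrfl Lrfl
theorem f89867 : Led Lsl_ct (LP (LK LD1_c6 LD2_c56 LD3_c12)) = (LP (LK LD1_c13 LD2_c10 LD3_c26)) :=
  Lre_c IH (LK LD1_c6 LD2_c56 LD3_c12) (LK LD1_c13 LD2_c10 LD3_c26) Lrfl Lrfl
theorem f467338 : Led Lsl_bt (LP (LK LD1_c6 LD2_c56 LD3_c12)) = (LP (LK LD1_c13 LD2_c10 LD3_c13)) :=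
  Lre_b IH (LK LD1_c6 LD2_c56 LD3_c12) (LK LD1_c13 LD2_c10 LD3_c13) Lrfl Lrfl
theorem f485659 : Led Lsl_gf (LP (LK LD1_c14 LD2_c31 LD3_c21)) = (LP (LK LD1_c13 LD2_c10 LD3_c13)) :=
  Lgr Lrot124 (Lpe (f485401 IH) (Lpr_ct (f485378 IH) (Lpr_gt (f485379 IH) (Lpe (f15165 IH) (Lpr_bt (f112178 IH) (Lpr_gt (f473271 IH) (Lpr_ct (f484464 IH) (Lpr_gt (f485651 IH) (Lpe (f89867 IH) (Lpr_bt (f467338 IH) (Lpn (LP (LK LD1_c13 LD2_c10 LD3_c13)))))))))))))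
theorem f480750 : Led Lsl_ft (LP (LK LD1_c13 LD2_c10 LD3_c13)) = (LP (LK LD1_c6 LD2_c56 LD3_c3)) :=
  Lre_f IH (LK LD1_c13 LD2_c10 LD3_c13) (LK LD1_c6 LD2_c56 LD3_c3) Lrfl Lrfl
theorem f485662 : Led Lsl_gt (LP (LK LD1_c14 LD2_c31 LD3_c21)) = (LP (LK LD1_c13 LD2_c9 LD3_c53)) :=
  Lgr Lrot46 (Lpr_gf (f485659 IH) (Lpr_ft (f480750 IH) (Lpr_at (K5.f89872 IH) (Lpn (LP (LK LD1_c13 LD2_c9 LD3_c53))))))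
theorem f97926 : Led Lsl_dt (LP (LK LD1_c3 LD2_c50 LD3_c47)) = (LP (LK LD1_c7 LD2_c42 LD3_c40)) :=
  Lre_d IH (LK LD1_c3 LD2_c50 LD3_c47) (LK LD1_c7 LD2_c42 LD3_c40) Lrfl Lrfl
theorem f95363 : Led Lsl_dt (LP (LK LD1_c6 LD2_c51 LD3_c54)) = (LP (LK LD1_c3 LD2_c24 LD3_c42)) :=
  Lre_d IH (LK LD1_c6 LD2_c51 LD3_c54) (LK LD1_c3 LD2_c24 LD3_c42) Lrfl Lrfl
theorem f95281 : Led Lsl_et (LP (LK LD1_c1 LD2_c52 LD3_c21)) = (LP (LK LD1_c3 LD2_c50 LD3_c59)) :=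
  Lre_e IH (LK LD1_c1 LD2_c52 LD3_c21) (LK LD1_c3 LD2_c50 LD3_c59) Lrfl Lrfl
theorem f17145 : Led Lsl_dt (LP (LK LD1_c3 LD2_c50 LD3_c59)) = (LP (LK LD1_c7 LD2_c43 LD3_c6)) :=
  Lre_d IH (LK LD1_c3 LD2_c50 LD3_c59) (LK LD1_c7 LD2_c43 LD3_c6) Lrfl Lrfl
theorem f95364 : Led Lsl_ef (LP (LK LD1_c6 LD2_c51 LD3_c54)) = (LP (LK LD1_c7 LD2_c43 LD3_c6)) :=
  Lgr Lrot73 (Lpr_dt (f95363 IH) (Lpr_et (K33.f18232 IH) (Lpr_dt (K2.f95357 IH) (Lpr_et (f95281 IH) (Lpr_dt (f17145 IH) (Lpn (LP (LK LD1_c7 LD2_c43 LD3_c6))))))))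
theorem f95373 : Led Lsl_et (LP (LK LD1_c6 LD2_c51 LD3_c54)) = (LP (LK LD1_c7 LD2_c43 LD3_c6)) :=
  Lgr Lrot87 (Lpr_ef (f95364 IH) (Lpn (LP (LK LD1_c7 LD2_c43 LD3_c6))))
theorem f95379 : Led Lsl_bt (LP (LK LD1_c13 LD2_c3 LD3_c19)) = (LP (LK LD1_c6 LD2_c51 LD3_c54)) :=
  Lre_b IH (LK LD1_c13 LD2_c3 LD3_c19) (LK LD1_c6 LD2_c51 LD3_c54) Lrfl Lrfl
theorem f95380 : Led Lsl_bt (LP (LK LD1_c7 LD2_c43 LD3_c6)) = (LP (LK LD1_c14 LD2_c32 LD3_c59)) :=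
  Lre_b IH (LK LD1_c7 LD2_c43 LD3_c6) (LK LD1_c14 LD2_c32 LD3_c59) Lrfl Lrfl
theorem f95381 : Led Lsl_ef (LP (LK LD1_c13 LD2_c3 LD3_c19)) = (LP (LK LD1_c14 LD2_c32 LD3_c59)) :=
  Lgr Lrot29 (Lpr_bt (f95379 IH) (Lpr_et (f95373 IH) (Lpr_bt (f95380 IH) (Lpn (LP (LK LD1_c14 LD2_c32 LD3_c59))))))
theorem f95386 : Led Lsl_dt (LP (LK LD1_c13 LD2_c3 LD3_c19)) = (LP (LK LD1_c6 LD2_c51 LD3_c53)) :=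
  Lre_d IH (LK LD1_c13 LD2_c3 LD3_c19) (LK LD1_c6 LD2_c51 LD3_c53) Lrfl Lrfl
theorem f95387 : Led Lsl_et (LP (LK LD1_c6 LD2_c51 LD3_c53)) = (LP (LK LD1_c3 LD2_c24 LD3_c41)) :=
  Lre_e IH (LK LD1_c6 LD2_c51 LD3_c53) (LK LD1_c3 LD2_c24 LD3_c41) Lrfl Lrfl
theorem f95388 : Led Lsl_dt (LP (LK LD1_c7 LD2_c43 LD3_c4)) = (LP (LK LD1_c14 LD2_c32 LD3_c59)) :=
  Lre_d IH (LK LD1_c7 LD2_c43 LD3_c4) (LK LD1_c14 LD2_c32 LD3_c59) Lrfl Lrfl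
theorem f95389 : Led Lsl_et (LP (LK LD1_c3 LD2_c50 LD3_c58)) = (LP (LK LD1_c7 LD2_c43 LD3_c4)) :=
  Lre_e IH (LK LD1_c3 LD2_c50 LD3_c58) (LK LD1_c7 LD2_c43 LD3_c4) Lrfl Lrfl
theorem f95390 : Led Lsl_dt (LP (LK LD1_c3 LD2_c24 LD3_c41)) = (LP (LK LD1_c3 LD2_c50 LD3_c58)) :=
  Lgr Lrot77 (Lpe (f95387 IH) (Lpe (f95386 IH) (Lpr_ef (f95381 IH) (Lpe (f95388 IH) (Lpe (f95389 IH) (Lpn (LP (LK LD1_c3 LD2_c50 LD3_c58))))))))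
theorem f95402 : Led Lsl_gt (LP (LK LD1_c6 LD2_c51 LD3_c53)) = (LP (LK LD1_c13 LD2_c3 LD3_c17)) :=
  Lre_g IH (LK LD1_c6 LD2_c51 LD3_c53) (LK LD1_c13 LD2_c3 LD3_c17) Lrfl Lrfl
theorem f95403 : Led Lsl_et (LP (LK LD1_c22 LD2_c13 LD3_c0)) = (LP (LK LD1_c13 LD2_c3 LD3_c17)) :=
  Lre_e IH (LK LD1_c22 LD2_c13 LD3_c0) (LK LD1_c13 LD2_c3 LD3_c17) Lrfl Lrfl
theorem f485665 : Led Lsl_df (LP (LK LD1_c14 LD2_c31 LD3_c21)) = (LP (LK LD1_c22 LD2_c13 LD3_c0)) :=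
  Lgr Lrot170 (Lpr_gt (f485662 IH) (Lpe (K37.f97889 IH) (Lpr_et (K3.f97882 IH) (Lpe (K36.f145197 IH) (Lpr_dt (f97926 IH) (Lpe (K36.f97924 IH) (Lpe (f95390 IH) (Lpr_et (K34.f95401 IH) (Lpr_gt (f95402 IH) (Lpe (f95403 IH) (Lpn (LP (LK LD1_c22 LD2_c13 LD3_c0)))))))))))))
theorem f485670 : Led Lsl_dt (LP (LK LD1_c14 LD2_c31 LD3_c21)) = (LP (LK LD1_c22 LD2_c13 LD3_c0)) :=
  Lgr Lrot42 (Lpr_df (f485665 IH) (Lpn (LP (LK LD1_c22 LD2_c13 LD3_c0))))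
theorem f135948 : Led Lsl_dt (LP (LK LD1_c14 LD2_c31 LD3_c23)) = (LP (LK LD1_c7 LD2_c42 LD3_c20)) :=
  Lre_d IH (LK LD1_c14 LD2_c31 LD3_c23) (LK LD1_c7 LD2_c42 LD3_c20) Lrfl Lrfl
theorem f485674 : Led Lsl_bf (LP (LK LD1_c14 LD2_c31 LD3_c23)) = (LP (LK LD1_c22 LD2_c13 LD3_c0)) :=
  Lgr Lrot93 (Lpr_dt (f135948 IH) (Lpr_bt (f485401 IH) (Lpr_dt (f485670 IH) (Lpn (LP (LK LD1_c22 LD2_c13 LD3_c0))))))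
theorem f135946 : Led Lsl_et (LP (LK LD1_c1 LD2_c52 LD3_c11)) = (LP (LK LD1_c0 LD2_c52 LD3_c49)) :=
  Lre_e IH (LK LD1_c1 LD2_c52 LD3_c11) (LK LD1_c0 LD2_c52 LD3_c49) Lrfl Lrfl
theorem f135947 : Led Lsl_dt (LP (LK LD1_c1 LD2_c52 LD3_c11)) = (LP (LK LD1_c3 LD2_c50 LD3_c37)) :=
  Lre_d IH (LK LD1_c1 LD2_c52 LD3_c11) (LK LD1_c3 LD2_c50 LD3_c37) Lrfl Lrfl
theorem f12235 : Led Lsl_gt (LP (LK LD1_c7 LD2_c42 LD3_c20)) = (LP (LK LD1_c3 LD2_c50 LD3_c37)) :=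
  Lre_g IH (LK LD1_c7 LD2_c42 LD3_c20) (LK LD1_c3 LD2_c50 LD3_c37) Lrfl Lrfl
theorem f135949 : Led Lsl_gt (LP (LK LD1_c7 LD2_c1 LD3_c35)) = (LP (LK LD1_c13 LD2_c19 LD3_c37)) :=
  Lre_g IH (LK LD1_c7 LD2_c1 LD3_c35) (LK LD1_c13 LD2_c19 LD3_c37) Lrfl Lrfl
theorem f135950 : Led Lsl_et (LP (LK LD1_c14 LD2_c31 LD3_c23)) = (LP (LK LD1_c13 LD2_c19 LD3_c37)) :=
  Lgr Lrot122 (Lpr_dt (f135948 IH) (Lpr_gt (f12235 IH) (Lpe (f135947 IH) (Lpr_et (f135946 IH) (Lpr_gt (K6.f12296 IH) (Lpe (K6.f124191 IH) (Lpr_gt (K6.f135935 IH) (Lpe (K6.f135923 IH) (Lpr_et (K4.f115785 IH) (Lpr_gt (f135949 IH) (Lpn (LP (LK LD1_c13 LD2_c19 LD3_c37)))))))))))))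
theorem f485673 : Led Lsl_et (LP (LK LD1_c13 LD2_c3 LD3_c17)) = (LP (LK LD1_c22 LD2_c13 LD3_c0)) :=
  Lre_e IH (LK LD1_c13 LD2_c3 LD3_c17) (LK LD1_c22 LD2_c13 LD3_c0) Lrfl Lrfl
theorem f485677 : Led Lsl_bt (LP (LK LD1_c13 LD2_c19 LD3_c37)) = (LP (LK LD1_c13 LD2_c3 LD3_c17)) :=
  Lgr Lrot119 (Lpe (f135950 IH) (Lpr_bf (f485674 IH) (Lpe (f485673 IH) (Lpn (LP (LK LD1_c13 LD2_c3 LD3_c17))))))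
theorem f485679 : Led Lsl_bf (LP (LK LD1_c13 LD2_c19 LD3_c37)) = (LP (LK LD1_c13 LD2_c3 LD3_c17)) :=
  Lgr Lrot24 (Lpr_bt (f485677 IH) (Lpn (LP (LK LD1_c13 LD2_c3 LD3_c17))))
theorem f116654 : Led Lsl_ct (LP (LK LD1_c13 LD2_c3 LD3_c17)) = (LP (LK LD1_c22 LD2_c12 LD3_c61)) :=
  Lre_c IH (LK LD1_c13 LD2_c3 LD3_c17) (LK LD1_c22 LD2_c12 LD3_c61) Lrfl Lrfl
theorem f611485 : Led Lsl_gt (LP (LK LD1_c13 LD2_c50 LD3_c21)) = (LP (LK LD1_c22 LD2_c12 LD3_c61)) :=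
  Lgr Lrot149 (Lpe (K32.f94505 IH) (Lpr_gf (f611479 IH) (Lpe (f481697 IH) (Lpr_ct (K30.f482948 IH) (Lpe (K29.f481684 IH) (Lpr_cf (K4.f115957 IH) (Lpr_bt (K4.f115936 IH) (Lpe (f115951 IH) (Lpr_bf (f485679 IH) (Lpr_ct (f116654 IH) (Lpn (LP (LK LD1_c22 LD2_c12 LD3_c61)))))))))))))
theorem f497982 : Led Lsl_af (LP (LK LD1_c13 LD2_c56 LD3_c12)) = (LP (LK LD1_c13 LD2_c5 LD3_c12)) :=
  Lgr Lrot68 (Lpe (f419789 IH) (Lpr_at (f497976 IH) (Lpe (f122112 IH) (Lpn (LP (LK LD1_c13 LD2_c5 LD3_c12))))))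
theorem f419814 : Led Lsl_bt (LP (LK LD1_c13 LD2_c56 LD3_c12)) = (LP (LK LD1_c7 LD2_c31 LD3_c58)) :=
  Lgr Lrot127 (Lpr_bf (f419807 IH) (Lpn (LP (LK LD1_c7 LD2_c31 LD3_c58))))
theorem f65920 : Led Lsl_et (LP (LK LD1_c14 LD2_c13 LD3_c15)) = (LP (LK LD1_c7 LD2_c32 LD3_c26)) :=
  Lre_e IH (LK LD1_c14 LD2_c13 LD3_c15) (LK LD1_c7 LD2_c32 LD3_c26) Lrfl Lrfl
theorem f122098 : Led Lsl_bt (LP (LK LD1_c13 LD2_c5 LD3_c12)) = (LP (LK LD1_c14 LD2_c13 LD3_c15)) :=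
  Lgr Lrot119 (Lpe (f122097 IH) (Lpr_bf (K4.f122089 IH) (Lpe (f65920 IH) (Lpn (LP (LK LD1_c14 LD2_c13 LD3_c15))))))
theorem f122100 : Led Lsl_bf (LP (LK LD1_c13 LD2_c5 LD3_c12)) = (LP (LK LD1_c14 LD2_c13 LD3_c15)) :=
  Lgr Lrot24 (Lpr_bt (f122098 IH) (Lpn (LP (LK LD1_c14 LD2_c13 LD3_c15))))
theorem f91257 : Led Lsl_et (LP (LK LD1_c6 LD2_c59 LD3_c46)) = (LP (LK LD1_c13 LD2_c16 LD3_c29)) :=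
  Lre_e IH (LK LD1_c6 LD2_c59 LD3_c46) (LK LD1_c13 LD2_c16 LD3_c29) Lrfl Lrfl
theorem f497804 : Led Lsl_at (LP (LK LD1_c13 LD2_c16 LD3_c29)) = (LP (LK LD1_c14 LD2_c13 LD3_c15)) :=
  Lgr Lrot80 (Lpe (f91257 IH) (Lpr_af (K32.f497798 IH) (Lpe (f65920 IH) (Lpn (LP (LK LD1_c14 LD2_c13 LD3_c15))))))
theorem f497995 : Led Lsl_at (LP (LK LD1_c7 LD2_c31 LD3_c58)) = (LP (LK LD1_c13 LD2_c17 LD3_c21)) :=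
  Lgr Lrot67 (Lpe (f419814 IH) (Lpr_af (f497982 IH) (Lpr_bf (f122100 IH) (Lpe (f497804 IH) (Lpe (K32.f91246 IH) (Lpn (LP (LK LD1_c13 LD2_c17 LD3_c21))))))))
theorem f498001 : Led Lsl_af (LP (LK LD1_c7 LD2_c31 LD3_c58)) = (LP (LK LD1_c13 LD2_c17 LD3_c21)) :=
  Lgr Lrot0 (Lpr_at (f497995 IH) (Lpn (LP (LK LD1_c13 LD2_c17 LD3_c21))))
theorem f482995 : Led Lsl_at (LP (LK LD1_c7 LD2_c1 LD3_c3)) = (LP (LK LD1_c13 LD2_c18 LD3_c43)) :=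
  Lre_a IH (LK LD1_c7 LD2_c1 LD3_c3) (LK LD1_c13 LD2_c18 LD3_c43) Lrfl Lrfl
theorem f518314 : Led Lsl_ft (LP (LK LD1_c3 LD2_c46 LD3_c5)) = (LP (LK LD1_c7 LD2_c1 LD3_c3)) :=
  Lgr Lrot101 (Lpe (f483276 IH) (Lpr_ff (f518226 IH) (Lpe (f482995 IH) (Lpn (LP (LK LD1_c7 LD2_c1 LD3_c3))))))
theorem f88122 : Led Lsl_gt (LP (LK LD1_c3 LD2_c46 LD3_c5)) = (LP (LK LD1_c7 LD2_c33 LD3_c7)) :=
  Lre_g IH (LK LD1_c3 LD2_c46 LD3_c5) (LK LD1_c7 LD2_c33 LD3_c7) Lrfl Lrfl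
theorem f518316 : Led Lsl_gt (LP (LK LD1_c7 LD2_c33 LD3_c7)) = (LP (LK LD1_c13 LD2_c18 LD3_c43)) :=
  Lgr Lrot46 (Lpe (f88122 IH) (Lpr_ft (f518314 IH) (Lpr_at (f482995 IH) (Lpn (LP (LK LD1_c13 LD2_c18 LD3_c43))))))
theorem f599321 : Led Lsl_ff (LP (LK LD1_c13 LD2_c17 LD3_c21)) = (LP (LK LD1_c7 LD2_c33 LD3_c7)) :=
  Lgr Lrot52 (Lpe (f498001 IH) (Lpr_gf (f599319 IH) (Lpe (f518316 IH) (Lpn (LP (LK LD1_c7 LD2_c33 LD3_c7))))))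
theorem f483284 : Led Lsl_ct (LP (LK LD1_c14 LD2_c14 LD3_c33)) = (LP (LK LD1_c7 LD2_c33 LD3_c7)) :=
  Lre_c IH (LK LD1_c14 LD2_c14 LD3_c33) (LK LD1_c7 LD2_c33 LD3_c7) Lrfl Lrfl
theorem f599354 : Led Lsl_ft (LP (LK LD1_c13 LD2_c50 LD3_c21)) = (LP (LK LD1_c14 LD2_c14 LD3_c33)) :=
  Lgr Lrot4 (Lpe (K32.f94505 IH) (Lpr_ff (f599321 IH) (Lpe (f483284 IH) (Lpn (LP (LK LD1_c14 LD2_c14 LD3_c33))))))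
theorem f599358 : Led Lsl_ft (LP (LK LD1_c13 LD2_c17 LD3_c21)) = (LP (LK LD1_c7 LD2_c33 LD3_c7)) :=
  Lgr Lrot48 (Lpr_ff (f599321 IH) (Lpn (LP (LK LD1_c7 LD2_c33 LD3_c7))))
theorem f483279 : Led Lsl_ct (LP (LK LD1_c7 LD2_c33 LD3_c7)) = (LP (LK LD1_c14 LD2_c14 LD3_c33)) :=
  Lre_c IH (LK LD1_c7 LD2_c33 LD3_c7) (LK LD1_c14 LD2_c14 LD3_c33) Lrfl Lrfl
theorem f599360 : Led Lsl_ff (LP (LK LD1_c13 LD2_c50 LD3_c21)) = (LP (LK LD1_c14 LD2_c14 LD3_c33)) :=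
  Lgr Lrot23 (Lpe (K32.f94510 IH) (Lpr_ft (f599358 IH) (Lpr_ct (f483279 IH) (Lpn (LP (LK LD1_c14 LD2_c14 LD3_c33))))))
theorem f483283 : Led Lsl_dt (LP (LK LD1_c23 LD2_c50 LD3_c25)) = (LP (LK LD1_c14 LD2_c14 LD3_c33)) :=
  Lre_d IH (LK LD1_c23 LD2_c50 LD3_c25) (LK LD1_c14 LD2_c14 LD3_c33) Lrfl Lrfl
theorem f599367 : Led Lsl_ft (LP (LK LD1_c16 LD2_c29 LD3_c38)) = (LP (LK LD1_c23 LD2_c50 LD3_c25)) :=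
  Lgr Lrot54 (Lpr_df (K43.f567278 IH) (Lpr_ff (f599360 IH) (Lpe (f483283 IH) (Lpn (LP (LK LD1_c23 LD2_c50 LD3_c25))))))
theorem f599373 : Led Lsl_ff (LP (LK LD1_c16 LD2_c29 LD3_c38)) = (LP (LK LD1_c23 LD2_c50 LD3_c25)) :=
  Lgr Lrot3 (Lpr_ft (f599367 IH) (Lpn (LP (LK LD1_c23 LD2_c50 LD3_c25))))
theorem f599377 : Led Lsl_at (LP (LK LD1_c18 LD2_c22 LD3_c50)) = (LP (LK LD1_c23 LD2_c50 LD3_c25)) :=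
  Lgr Lrot66 (Lpe (K19.f308203 IH) (Lpr_af (K36.f427871 IH) (Lpr_ff (f599373 IH) (Lpn (LP (LK LD1_c23 LD2_c50 LD3_c25))))))
theorem f308222 : Led Lsl_bt (LP (LK LD1_c18 LD2_c22 LD3_c50)) = (LP (LK LD1_c10 LD2_c4 LD3_c20)) :=
  Lre_b IH (LK LD1_c18 LD2_c22 LD3_c50) (LK LD1_c10 LD2_c4 LD3_c20) Lrfl Lrfl
theorem f424486 : Led Lsl_bt (LP (LK LD1_c12 LD2_c8 LD3_c30)) = (LP (LK LD1_c21 LD2_c14 LD3_c46)) :=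
  Lre_b IH (LK LD1_c12 LD2_c8 LD3_c30) (LK LD1_c21 LD2_c14 LD3_c46) Lrfl Lrfl
theorem f424487 : Led Lsl_df (LP (LK LD1_c18 LD2_c22 LD3_c50)) = (LP (LK LD1_c21 LD2_c14 LD3_c46)) :=
  Lgr Lrot12 (Lpr_bt (f308222 IH) (Lpr_dt (K41.f424480 IH) (Lpr_bt (f424486 IH) (Lpn (LP (LK LD1_c21 LD2_c14 LD3_c46))))))
theorem f599381 : Led Lsl_af (LP (LK LD1_c21 LD2_c14 LD3_c46)) = (LP (LK LD1_c14 LD2_c14 LD3_c33)) :=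
  Lgr Lrot117 (Lpe (f424487 IH) (Lpr_at (f599377 IH) (Lpr_dt (f483283 IH) (Lpn (LP (LK LD1_c14 LD2_c14 LD3_c33))))))
theorem f611491 : Led Lsl_gf (LP (LK LD1_c21 LD2_c14 LD3_c46)) = (LP (LK LD1_c22 LD2_c12 LD3_c61)) :=
  Lgr Lrot76 (Lpr_af (f599381 IH) (Lpe (f599354 IH) (Lpr_gt (f611485 IH) (Lpn (LP (LK LD1_c22 LD2_c12 LD3_c61))))))
theorem f659875 : Led Lsl_bt (LP (LK LD1_c22 LD2_c36 LD3_c31)) = (LP (LK LD1_c22 LD2_c12 LD3_c61)) :=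
  Lgr Lrot130 (Lpr_ct (f659870 IH) (Lpe (f94898 IH) (Lpr_cf (f659865 IH) (Lpe (f659864 IH) (Lpr_gf (K29.f481460 IH) (Lpe (f481467 IH) (Lpe (f482950 IH) (Lpe (f472463 IH) (Lpe (f609145 IH) (Lpr_gf (f611491 IH) (Lpn (LP (LK LD1_c22 LD2_c12 LD3_c61)))))))))))))
theorem f659876 : Led Lsl_bt (LP (LK LD1_c22 LD2_c36 LD3_c31)) = (LP (LK LD1_c22 LD2_c12 LD3_c61)) :=
  Leop (Lpe (f659875 IH) (Lpn (LP (LK LD1_c22 LD2_c36 LD3_c31))))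
theorem seed_420 : LEOK LG_b (LK LD1_c22 LD2_c36 LD3_c31) :=
  Leoe_b (LK LD1_c22 LD2_c36 LD3_c31) (f659876 IH)
theorem f94901 : Led Lsl_gt (LP (LK LD1_c13 LD2_c20 LD3_c7)) = (LP (LK LD1_c7 LD2_c1 LD3_c51)) :=
  Lre_g IH (LK LD1_c13 LD2_c20 LD3_c7) (LK LD1_c7 LD2_c1 LD3_c51) Lrfl Lrfl
theorem f4264 : Led Lsl_ct (LP (LK LD1_c3 LD2_c38 LD3_c19)) = (LP (LK LD1_c1 LD2_c46 LD3_c10)) :=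
  Lre_c IH (LK LD1_c3 LD2_c38 LD3_c19) (LK LD1_c1 LD2_c46 LD3_c10) Lrfl Lrfl
theorem f4421 : Led Lsl_bt (LP (LK LD1_c3 LD2_c38 LD3_c19)) = (LP (LK LD1_c7 LD2_c16 LD3_c51)) :=
  Lre_b IH (LK LD1_c3 LD2_c38 LD3_c19) (LK LD1_c7 LD2_c16 LD3_c51) Lrfl Lrfl
theorem f5058 : Led Lsl_ft (LP (LK LD1_c7 LD2_c16 LD3_c51)) = (LP (LK LD1_c3 LD2_c38 LD3_c14)) :=
  Lre_f IH (LK LD1_c7 LD2_c16 LD3_c51) (LK LD1_c3 LD2_c38 LD3_c14) Lrfl Lrfl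
theorem f5089 : Led Lsl_gt (LP (LK LD1_c7 LD2_c18 LD3_c51)) = (LP (LK LD1_c3 LD2_c39 LD3_c18)) :=
  Lre_g IH (LK LD1_c7 LD2_c18 LD3_c51) (LK LD1_c3 LD2_c39 LD3_c18) Lrfl Lrfl
theorem f5649 : Led Lsl_gt (LP (LK LD1_c7 LD2_c16 LD3_c51)) = (LP (LK LD1_c7 LD2_c18 LD3_c51)) :=
  Lgr Lrot5 (Lpr_ft (f5058 IH) (Lpr_at (K33.f5332 IH) (Lpe (f5089 IH) (Lpn (LP (LK LD1_c7 LD2_c18 LD3_c51))))))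
theorem f5572 : Led Lsl_bt (LP (LK LD1_c13 LD2_c50 LD3_c12)) = (LP (LK LD1_c7 LD2_c18 LD3_c51)) :=
  Lre_b IH (LK LD1_c13 LD2_c50 LD3_c12) (LK LD1_c7 LD2_c18 LD3_c51) Lrfl Lrfl
theorem f659877 : Led Lsl_cf (LP (LK LD1_c13 LD2_c20 LD3_c7)) = (LP (LK LD1_c13 LD2_c50 LD3_c12)) :=
  Lgr Lrot160 (Lpr_gt (f94901 IH) (Lpr_cf (f659865 IH) (Lpe (f659864 IH) (Lpe (K28.f467976 IH) (Lpr_ct (K28.f4274 IH) (Lpr_gt (K3.f4273 IH) (Lpe (f4264 IH) (Lpr_bt (f4421 IH) (Lpr_gt (f5649 IH) (Lpe (f5572 IH) (Lpn (LP (LK LD1_c13 LD2_c50 LD3_c12)))))))))))))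
theorem f659878 : Led Lsl_ct (LP (LK LD1_c13 LD2_c50 LD3_c12)) = (LP (LK LD1_c13 LD2_c20 LD3_c7)) :=
  Leop (Lpr_cf (f659877 IH) (Lpn (LP (LK LD1_c13 LD2_c50 LD3_c12))))
theorem seed_421 : LEOK LG_c (LK LD1_c13 LD2_c50 LD3_c12) :=
  Leoe_c (LK LD1_c13 LD2_c50 LD3_c12) (f659878 IH)
theorem f659895 : Led Lsl_bf (LP (LK LD1_c22 LD2_c36 LD3_c31)) = (LP (LK LD1_c22 LD2_c12 LD3_c61)) :=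
  Lgr Lrot24 (Lpr_bt (f659875 IH) (Lpn (LP (LK LD1_c22 LD2_c12 LD3_c61))))
theorem f116655 : Led Lsl_ct (LP (LK LD1_c22 LD2_c12 LD3_c61)) = (LP (LK LD1_c13 LD2_c3 LD3_c17)) :=
  Lre_c IH (LK LD1_c22 LD2_c12 LD3_c61) (LK LD1_c13 LD2_c3 LD3_c17) Lrfl Lrfl
theorem f5351 : Led Lsl_bt (LP (LK LD1_c1 LD2_c46 LD3_c50)) = (LP (LK LD1_c3 LD2_c39 LD3_c49)) :=
  Lre_b IH (LK LD1_c1 LD2_c46 LD3_c50) (LK LD1_c3 LD2_c39 LD3_c49) Lrfl Lrfl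
theorem f451065 : Led Lsl_bt (LP (LK LD1_c3 LD2_c46 LD3_c52)) = (LP (LK LD1_c1 LD2_c50 LD3_c31)) :=
  Lre_b IH (LK LD1_c3 LD2_c46 LD3_c52) (LK LD1_c1 LD2_c50 LD3_c31) Lrfl Lrfl
theorem f511754 : Led Lsl_ct (LP (LK LD1_c3 LD2_c39 LD3_c49)) = (LP (LK LD1_c3 LD2_c46 LD3_c52)) :=
  Lgr Lrot83 (Lpe (f5351 IH) (Lpe (K34.f450953 IH) (Lpe (K33.f5822 IH) (Lpr_cf (K33.f511739 IH) (Lpe (f451065 IH) (Lpn (LP (LK LD1_c3 LD2_c46 LD3_c52))))))))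
theorem f460026 : Led Lsl_gt (LP (LK LD1_c7 LD2_c34 LD3_c36)) = (LP (LK LD1_c3 LD2_c46 LD3_c52)) :=
  Lre_g IH (LK LD1_c7 LD2_c34 LD3_c36) (LK LD1_c3 LD2_c46 LD3_c52) Lrfl Lrfl
theorem f511782 : Led Lsl_ct (LP (LK LD1_c14 LD2_c17 LD3_c12)) = (LP (LK LD1_c7 LD2_c34 LD3_c36)) :=
  Lre_c IH (LK LD1_c14 LD2_c17 LD3_c12) (LK LD1_c7 LD2_c34 LD3_c36) Lrfl Lrfl
theorem f659898 : Led Lsl_gt (LP (LK LD1_c22 LD2_c36 LD3_c31)) = (LP (LK LD1_c14 LD2_c17 LD3_c12)) :=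
  Lgr Lrot82 (Lpr_bf (f659895 IH) (Lpr_ct (f116655 IH) (Lpe (f95402 IH) (Lpr_cf (K34.f116648 IH) (Lpr_bt (K3.f109507 IH) (Lpe (f511861 IH) (Lpe (f511759 IH) (Lpr_ct (f511754 IH) (Lpe (f460026 IH) (Lpe (f511782 IH) (Lpn (LP (LK LD1_c14 LD2_c17 LD3_c12)))))))))))))
theorem f95340 : Led Lsl_ct (LP (LK LD1_c13 LD2_c20 LD3_c6)) = (LP (LK LD1_c22 LD2_c36 LD3_c31)) :=
  Lre_c IH (LK LD1_c13 LD2_c20 LD3_c6) (LK LD1_c22 LD2_c36 LD3_c31) Lrfl Lrfl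
theorem f483584 : Led Lsl_bt (LP (LK LD1_c3 LD2_c41 LD3_c53)) = (LP (LK LD1_c7 LD2_c24 LD3_c30)) :=
  Lre_b IH (LK LD1_c3 LD2_c41 LD3_c53) (LK LD1_c7 LD2_c24 LD3_c30) Lrfl Lrfl
theorem f478563 : Led Lsl_gt (LP (LK LD1_c14 LD2_c0 LD3_c54)) = (LP (LK LD1_c7 LD2_c24 LD3_c30)) :=
  Lre_g IH (LK LD1_c14 LD2_c0 LD3_c54) (LK LD1_c7 LD2_c24 LD3_c30) Lrfl Lrfl
theorem f659904 : Led Lsl_ct (LP (LK LD1_c7 LD2_c34 LD3_c36)) = (LP (LK LD1_c14 LD2_c17 LD3_c12)) :=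
  Lre_c IH (LK LD1_c7 LD2_c34 LD3_c36) (LK LD1_c14 LD2_c17 LD3_c12) Lrfl Lrfl
theorem f659905 : Led Lsl_bf (LP (LK LD1_c14 LD2_c0 LD3_c54)) = (LP (LK LD1_c7 LD2_c34 LD3_c36)) :=
  Lgr Lrot156 (Lpr_gt (f478563 IH) (Lpe (f483584 IH) (Lpr_ct (K29.f4891 IH) (Lpr_gt (K29.f483576 IH) (Lpe (K2.f95334 IH) (Lpr_bt (K3.f95333 IH) (Lpr_gt (f94898 IH) (Lpr_ct (f95340 IH) (Lpr_gt (f659898 IH) (Lpe (f659904 IH) (Lpn (LP (LK LD1_c7 LD2_c34 LD3_c36)))))))))))))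
theorem f522804 : Led Lsl_dt (LP (LK LD1_c14 LD2_c0 LD3_c54)) = (LP (LK LD1_c23 LD2_c33 LD3_c30)) :=
  Lre_d IH (LK LD1_c14 LD2_c0 LD3_c54) (LK LD1_c23 LD2_c33 LD3_c30) Lrfl Lrfl
theorem f511783 : Led Lsl_dt (LP (LK LD1_c14 LD2_c17 LD3_c13)) = (LP (LK LD1_c7 LD2_c34 LD3_c36)) :=
  Lre_d IH (LK LD1_c14 LD2_c17 LD3_c13) (LK LD1_c7 LD2_c34 LD3_c36) Lrfl Lrfl
theorem f659910 : Led Lsl_bt (LP (LK LD1_c23 LD2_c33 LD3_c30)) = (LP (LK LD1_c14 LD2_c17 LD3_c13)) :=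
  Lgr Lrot95 (Lpe (f522804 IH) (Lpr_bf (f659905 IH) (Lpe (f511783 IH) (Lpn (LP (LK LD1_c14 LD2_c17 LD3_c13))))))
theorem f659912 : Led Lsl_bf (LP (LK LD1_c23 LD2_c33 LD3_c30)) = (LP (LK LD1_c14 LD2_c17 LD3_c13)) :=
  Lgr Lrot24 (Lpr_bt (f659910 IH) (Lpn (LP (LK LD1_c14 LD2_c17 LD3_c13))))
theorem f659914 : Led Lsl_ct (LP (LK LD1_c14 LD2_c17 LD3_c13)) = (LP (LK LD1_c23 LD2_c54 LD3_c40)) :=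
  Lre_c IH (LK LD1_c14 LD2_c17 LD3_c13) (LK LD1_c23 LD2_c54 LD3_c40) Lrfl Lrfl
theorem f94911 : Led Lsl_gt (LP (LK LD1_c13 LD2_c20 LD3_c8)) = (LP (LK LD1_c22 LD2_c36 LD3_c37)) :=
  Lre_g IH (LK LD1_c13 LD2_c20 LD3_c8) (LK LD1_c22 LD2_c36 LD3_c37) Lrfl Lrfl
theorem f483917 : Led Lsl_ct (LP (LK LD1_c22 LD2_c36 LD3_c37)) = (LP (LK LD1_c30 LD2_c36 LD3_c42)) :=
  Lre_c IH (LK LD1_c22 LD2_c36 LD3_c37) (LK LD1_c30 LD2_c36 LD3_c42) Lrfl Lrfl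
theorem f659901 : Led Lsl_ct (LP (LK LD1_c23 LD2_c54 LD3_c40)) = (LP (LK LD1_c14 LD2_c17 LD3_c13)) :=
  Lre_c IH (LK LD1_c23 LD2_c54 LD3_c40) (LK LD1_c14 LD2_c17 LD3_c13) Lrfl Lrfl
theorem f659902 : Led Lsl_gt (LP (LK LD1_c30 LD2_c36 LD3_c42)) = (LP (LK LD1_c23 LD2_c54 LD3_c40)) :=
  Lgr Lrot150 (Lpe (f483917 IH) (Lpe (f94911 IH) (Lpe (K38.f94891 IH) (Lpr_gt (f94898 IH) (Lpr_ct (f95340 IH) (Lpr_gt (f659898 IH) (Lpr_ct (f511782 IH) (Lpe (f511783 IH) (Lpe (f659901 IH) (Lpn (LP (LK LD1_c23 LD2_c54 LD3_c40))))))))))))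
theorem f91152 : Led Lsl_ct (LP (LK LD1_c13 LD2_c3 LD3_c13)) = (LP (LK LD1_c22 LD2_c12 LD3_c57)) :=
  Lre_c IH (LK LD1_c13 LD2_c3 LD3_c13) (LK LD1_c22 LD2_c12 LD3_c57) Lrfl Lrfl
theorem f94834 : Led Lsl_dt (LP (LK LD1_c7 LD2_c1 LD3_c52)) = (LP (LK LD1_c3 LD2_c30 LD3_c4)) :=
  Lre_d IH (LK LD1_c7 LD2_c1 LD3_c52) (LK LD1_c3 LD2_c30 LD3_c4) Lrfl Lrfl
theorem f94841 : Led Lsl_ct (LP (LK LD1_c13 LD2_c20 LD3_c9)) = (LP (LK LD1_c7 LD2_c1 LD3_c52)) :=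
  Lre_c IH (LK LD1_c13 LD2_c20 LD3_c9) (LK LD1_c7 LD2_c1 LD3_c52) Lrfl Lrfl
theorem f483580 : Led Lsl_gt (LP (LK LD1_c22 LD2_c12 LD3_c57)) = (LP (LK LD1_c13 LD2_c20 LD3_c9)) :=
  Lgr Lrot150 (Lpe (f91152 IH) (Lpe (K29.f102825 IH) (Lpe (K29.f94320 IH) (Lpr_gt (K29.f478477 IH) (Lpr_ct (K29.f4891 IH) (Lpr_gt (K29.f483576 IH) (Lpe (K2.f95326 IH) (Lpe (f94834 IH) (Lpe (f94841 IH) (Lpn (LP (LK LD1_c13 LD2_c20 LD3_c9))))))))))))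
theorem f91149 : Led Lsl_bt (LP (LK LD1_c13 LD2_c3 LD3_c13)) = (LP (LK LD1_c22 LD2_c12 LD3_c56)) :=
  Lre_b IH (LK LD1_c13 LD2_c3 LD3_c13) (LK LD1_c22 LD2_c12 LD3_c56) Lrfl Lrfl
theorem f659918 : Led Lsl_gt (LP (LK LD1_c23 LD2_c33 LD3_c30)) = (LP (LK LD1_c22 LD2_c12 LD3_c56)) :=
  Lgr Lrot164 (Lpr_bf (f659912 IH) (Lpr_ct (f659914 IH) (Lpe (f659902 IH) (Lpe (f483917 IH) (Lpe (f94911 IH) (Lpe (K3.f94847 IH) (Lpr_ct (K3.f94851 IH) (Lpe (f483580 IH) (Lpe (f91152 IH) (Lpr_bt (f91149 IH) (Lpn (LP (LK LD1_c22 LD2_c12 LD3_c56)))))))))))))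
theorem f437951 : Led Lsl_bt (LP (LK LD1_c7 LD2_c49 LD3_c36)) = (LP (LK LD1_c3 LD2_c53 LD3_c60)) :=
  Lre_b IH (LK LD1_c7 LD2_c49 LD3_c36) (LK LD1_c3 LD2_c53 LD3_c60) Lrfl Lrfl
theorem f489328 : Led Lsl_gt (LP (LK LD1_c13 LD2_c7 LD3_c53)) = (LP (LK LD1_c6 LD2_c54 LD3_c57)) :=
  Lgr Lrot65 (Lpr_cf (K34.f425578 IH) (Lpr_bt (K33.f203212 IH) (Lpr_gf (K37.f489325 IH) (Lpe (K46.f456076 IH) (Lpe (K33.f456079 IH) (Lpr_gf (K29.f482306 IH) (Lpe (K5.f96356 IH) (Lpr_gf (K33.f484538 IH) (Lpe (f437951 IH) (Lpe (K34.f485649 IH) (Lpn (LP (LK LD1_c6 LD2_c54 LD3_c57)))))))))))))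
theorem f148908 : Led Lsl_ct (LP (LK LD1_c7 LD2_c34 LD3_c4)) = (LP (LK LD1_c7 LD2_c43 LD3_c56)) :=
  Lgr Lrot63 (Lpr_bt (K8.f109897 IH) (Lpe (K3.f109893 IH) (Lpe (K3.f78100 IH) (Lpe (K2.f78103 IH) (Lpe (K3.f103184 IH) (Lpr_cf (K7.f129902 IH) (Lpr_bt (K7.f144949 IH) (Lpe (K7.f148753 IH) (Lpr_ct (K7.f130582 IH) (Lpr_gt (K7.f148906 IH) (Lpn (LP (LK LD1_c7 LD2_c43 LD3_c56)))))))))))))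
theorem f419433 : Led Lsl_gf (LP (LK LD1_c3 LD2_c46 LD3_c32)) = (LP (LK LD1_c7 LD2_c22 LD3_c9)) :=
  Lgr Lrot147 (Lpr_ct (K28.f419421 IH) (Lpe (K34.f123566 IH) (Lpr_ct (K6.f122614 IH) (Lpr_df (K7.f146682 IH) (Lpe (K6.f14677 IH) (Lpe (K7.f65384 IH) (Lpe (f148908 IH) (Lpe (K32.f203703 IH) (Lpe (K32.f151384 IH) (Lpn (LP (LK LD1_c7 LD2_c22 LD3_c9))))))))))))
theorem f123995 : Led Lsl_et (LP (LK LD1_c13 LD2_c56 LD3_c11)) = (LP (LK LD1_c7 LD2_c22 LD3_c9)) :=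
  Lre_e IH (LK LD1_c13 LD2_c56 LD3_c11) (LK LD1_c7 LD2_c22 LD3_c9) Lrfl Lrfl
theorem f123991 : Led Lsl_dt (LP (LK LD1_c13 LD2_c56 LD3_c11)) = (LP (LK LD1_c23 LD2_c27 LD3_c17)) :=
  Lre_d IH (LK LD1_c13 LD2_c56 LD3_c11) (LK LD1_c23 LD2_c27 LD3_c17) Lrfl Lrfl
theorem f91211 : Led Lsl_et (LP (LK LD1_c13 LD2_c8 LD3_c26)) = (LP (LK LD1_c6 LD2_c54 LD3_c57)) :=
  Lre_e IH (LK LD1_c13 LD2_c8 LD3_c26) (LK LD1_c6 LD2_c54 LD3_c57) Lrfl Lrfl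
theorem f91156 : Led Lsl_dt (LP (LK LD1_c6 LD2_c54 LD3_c58)) = (LP (LK LD1_c3 LD2_c26 LD3_c33)) :=
  Lre_d IH (LK LD1_c6 LD2_c54 LD3_c58) (LK LD1_c3 LD2_c26 LD3_c33) Lrfl Lrfl
theorem f91158 : Led Lsl_et (LP (LK LD1_c13 LD2_c3 LD3_c13)) = (LP (LK LD1_c22 LD2_c12 LD3_c58)) :=
  Lre_e IH (LK LD1_c13 LD2_c3 LD3_c13) (LK LD1_c22 LD2_c12 LD3_c58) Lrfl Lrfl
theorem f91159 : Led Lsl_df (LP (LK LD1_c13 LD2_c8 LD3_c29)) = (LP (LK LD1_c22 LD2_c12 LD3_c58)) :=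
  Lgr Lrot70 (Lpr_et (K43.f91157 IH) (Lpr_dt (f91156 IH) (Lpr_et (K29.f91155 IH) (Lpr_dt (K29.f91145 IH) (Lpr_et (f91158 IH) (Lpn (LP (LK LD1_c22 LD2_c12 LD3_c58))))))))
theorem f91170 : Led Lsl_dt (LP (LK LD1_c13 LD2_c8 LD3_c29)) = (LP (LK LD1_c22 LD2_c12 LD3_c58)) :=
  Lgr Lrot42 (Lpr_df (f91159 IH) (Lpn (LP (LK LD1_c22 LD2_c12 LD3_c58))))
theorem f91190 : Led Lsl_bt (LP (LK LD1_c22 LD2_c12 LD3_c58)) = (LP (LK LD1_c30 LD2_c21 LD3_c7)) :=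
  Lre_b IH (LK LD1_c22 LD2_c12 LD3_c58) (LK LD1_c30 LD2_c21 LD3_c7) Lrfl Lrfl
theorem f91191 : Led Lsl_df (LP (LK LD1_c22 LD2_c20 LD3_c37)) = (LP (LK LD1_c30 LD2_c21 LD3_c7)) :=
  Lgr Lrot12 (Lpr_bt (K43.f91189 IH) (Lpr_dt (f91170 IH) (Lpr_bt (f91190 IH) (Lpn (LP (LK LD1_c30 LD2_c21 LD3_c7))))))
theorem f91196 : Led Lsl_et (LP (LK LD1_c22 LD2_c20 LD3_c37)) = (LP (LK LD1_c13 LD2_c8 LD3_c25)) :=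
  Lre_e IH (LK LD1_c22 LD2_c20 LD3_c37) (LK LD1_c13 LD2_c8 LD3_c25) Lrfl Lrfl
theorem f91198 : Led Lsl_et (LP (LK LD1_c6 LD2_c54 LD3_c57)) = (LP (LK LD1_c13 LD2_c8 LD3_c26)) :=
  Lre_e IH (LK LD1_c6 LD2_c54 LD3_c57) (LK LD1_c13 LD2_c8 LD3_c26) Lrfl Lrfl
theorem f91199 : Led Lsl_et (LP (LK LD1_c22 LD2_c12 LD3_c56)) = (LP (LK LD1_c30 LD2_c21 LD3_c7)) :=
  Lre_e IH (LK LD1_c22 LD2_c12 LD3_c56) (LK LD1_c30 LD2_c21 LD3_c7) Lrfl Lrfl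
theorem f91200 : Led Lsl_dt (LP (LK LD1_c13 LD2_c8 LD3_c26)) = (LP (LK LD1_c22 LD2_c12 LD3_c56)) :=
  Lgr Lrot77 (Lpe (f91198 IH) (Lpe (K35.f91197 IH) (Lpe (f91196 IH) (Lpr_df (f91191 IH) (Lpe (f91199 IH) (Lpn (LP (LK LD1_c22 LD2_c12 LD3_c56))))))))
theorem f489335 : Led Lsl_gf (LP (LK LD1_c23 LD2_c27 LD3_c17)) = (LP (LK LD1_c22 LD2_c12 LD3_c56)) :=
  Lgr Lrot145 (Lpe (f123991 IH) (Lpr_et (f123995 IH) (Lpe (f419433 IH) (Lpr_dt (K33.f419410 IH) (Lpr_gt (K28.f419411 IH) (Lpe (K8.f162744 IH) (Lpr_et (K34.f162097 IH) (Lpr_gt (f489328 IH) (Lpe (f91211 IH) (Lpr_dt (f91200 IH) (Lpn (LP (LK LD1_c22 LD2_c12 LD3_c56)))))))))))))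
theorem f497870 : Led Lsl_at (LP (LK LD1_c13 LD2_c5 LD3_c13)) = (LP (LK LD1_c13 LD2_c56 LD3_c11)) :=
  Lgr Lrot107 (Lpr_cf (K46.f162945 IH) (Lpr_af (K46.f497866 IH) (Lpe (K32.f123642 IH) (Lpn (LP (LK LD1_c13 LD2_c56 LD3_c11))))))
theorem f424990 : Led Lsl_dt (LP (LK LD1_c22 LD2_c15 LD3_c53)) = (LP (LK LD1_c13 LD2_c5 LD3_c13)) :=
  Lre_d IH (LK LD1_c22 LD2_c15 LD3_c53) (LK LD1_c13 LD2_c5 LD3_c13) Lrfl Lrfl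
theorem f497882 : Led Lsl_af (LP (LK LD1_c22 LD2_c15 LD3_c53)) = (LP (LK LD1_c23 LD2_c27 LD3_c17)) :=
  Lgr Lrot117 (Lpr_dt (f424990 IH) (Lpr_at (f497870 IH) (Lpr_dt (f123991 IH) (Lpn (LP (LK LD1_c23 LD2_c27 LD3_c17))))))
theorem f497884 : Led Lsl_at (LP (LK LD1_c22 LD2_c15 LD3_c53)) = (LP (LK LD1_c23 LD2_c27 LD3_c17)) :=
  Lgr Lrot100 (Lpr_af (f497882 IH) (Lpn (LP (LK LD1_c23 LD2_c27 LD3_c17))))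
theorem f659920 : Led Lsl_ft (LP (LK LD1_c23 LD2_c33 LD3_c30)) = (LP (LK LD1_c22 LD2_c15 LD3_c53)) :=
  Lgr Lrot2 (Lpr_gt (f659918 IH) (Lpe (f489335 IH) (Lpe (f497884 IH) (Lpn (LP (LK LD1_c22 LD2_c15 LD3_c53))))))
theorem f659924 : Led Lsl_ff (LP (LK LD1_c23 LD2_c33 LD3_c30)) = (LP (LK LD1_c22 LD2_c15 LD3_c53)) :=
  Lgr Lrot3 (Lpr_ft (f659920 IH) (Lpn (LP (LK LD1_c22 LD2_c15 LD3_c53))))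
theorem f522805 : Led Lsl_dt (LP (LK LD1_c23 LD2_c33 LD3_c30)) = (LP (LK LD1_c14 LD2_c0 LD3_c54)) :=
  Lre_d IH (LK LD1_c23 LD2_c33 LD3_c30) (LK LD1_c14 LD2_c0 LD3_c54) Lrfl Lrfl
theorem f122298 : Led Lsl_dt (LP (LK LD1_c13 LD2_c5 LD3_c13)) = (LP (LK LD1_c22 LD2_c15 LD3_c53)) :=
  Lre_d IH (LK LD1_c13 LD2_c5 LD3_c13) (LK LD1_c22 LD2_c15 LD3_c53) Lrfl Lrfl
theorem f659926 : Led Lsl_ft (LP (LK LD1_c14 LD2_c0 LD3_c54)) = (LP (LK LD1_c13 LD2_c5 LD3_c13)) :=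
  Lgr Lrot54 (Lpe (f522805 IH) (Lpr_ff (f659924 IH) (Lpe (f122298 IH) (Lpn (LP (LK LD1_c13 LD2_c5 LD3_c13))))))
theorem f659930 : Led Lsl_gt (LP (LK LD1_c7 LD2_c24 LD3_c30)) = (LP (LK LD1_c13 LD2_c56 LD3_c11)) :=
  Lgr Lrot46 (Lpe (f478563 IH) (Lpr_ft (f659926 IH) (Lpr_at (f497870 IH) (Lpn (LP (LK LD1_c13 LD2_c56 LD3_c11))))))
theorem f478495 : Led Lsl_ct (LP (LK LD1_c3 LD2_c41 LD3_c56)) = (LP (LK LD1_c7 LD2_c24 LD3_c30)) :=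
  Lre_c IH (LK LD1_c3 LD2_c41 LD3_c56) (LK LD1_c7 LD2_c24 LD3_c30) Lrfl Lrfl
theorem f483596 : Led Lsl_bt (LP (LK LD1_c3 LD2_c41 LD3_c56)) = (LP (LK LD1_c1 LD2_c47 LD3_c51)) :=
  Lre_b IH (LK LD1_c3 LD2_c41 LD3_c56) (LK LD1_c1 LD2_c47 LD3_c51) Lrfl Lrfl
theorem f484028 : Led Lsl_bt (LP (LK LD1_c13 LD2_c49 LD3_c47)) = (LP (LK LD1_c7 LD2_c18 LD3_c33)) :=
  Lre_b IH (LK LD1_c13 LD2_c49 LD3_c47) (LK LD1_c7 LD2_c18 LD3_c33) Lrfl Lrfl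
theorem f102720 : Led Lsl_bt (LP (LK LD1_c6 LD2_c51 LD3_c50)) = (LP (LK LD1_c13 LD2_c3 LD3_c6)) :=
  Lre_b IH (LK LD1_c6 LD2_c51 LD3_c50) (LK LD1_c13 LD2_c3 LD3_c6) Lrfl Lrfl
theorem f484045 : Led Lsl_ff (LP (LK LD1_c13 LD2_c49 LD3_c47)) = (LP (LK LD1_c13 LD2_c3 LD3_c6)) :=
  Lgr Lrot25 (Lpr_bt (f484028 IH) (Lpr_ft (K29.f484041 IH) (Lpr_bt (f102720 IH) (Lpn (LP (LK LD1_c13 LD2_c3 LD3_c6))))))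
theorem f485700 : Led Lsl_dt (LP (LK LD1_c13 LD2_c49 LD3_c47)) = (LP (LK LD1_c7 LD2_c18 LD3_c32)) :=
  Lre_d IH (LK LD1_c13 LD2_c49 LD3_c47) (LK LD1_c7 LD2_c18 LD3_c32) Lrfl Lrfl
theorem f12807 : Led Lsl_dt (LP (LK LD1_c6 LD2_c51 LD3_c47)) = (LP (LK LD1_c13 LD2_c3 LD3_c6)) :=
  Lre_d IH (LK LD1_c6 LD2_c51 LD3_c47) (LK LD1_c13 LD2_c3 LD3_c6) Lrfl Lrfl
theorem f485701 : Led Lsl_ft (LP (LK LD1_c7 LD2_c18 LD3_c32)) = (LP (LK LD1_c6 LD2_c51 LD3_c47)) :=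
  Lgr Lrot54 (Lpe (f485700 IH) (Lpr_ff (f484045 IH) (Lpe (f12807 IH) (Lpn (LP (LK LD1_c6 LD2_c51 LD3_c47))))))
theorem f12782 : Led Lsl_bt (LP (LK LD1_c7 LD2_c27 LD3_c38)) = (LP (LK LD1_c3 LD2_c43 LD3_c31)) :=
  Lre_b IH (LK LD1_c7 LD2_c27 LD3_c38) (LK LD1_c3 LD2_c43 LD3_c31) Lrfl Lrfl
theorem f12786 : Led Lsl_cf (LP (LK LD1_c7 LD2_c27 LD3_c38)) = (LP (LK LD1_c6 LD2_c51 LD3_c47)) :=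
  Lgr Lrot97 (Lpr_bt (f12782 IH) (Lpr_ct (K4.f12778 IH) (Lpr_bt (K29.f12783 IH) (Lpr_ct (K29.f12784 IH) (Lpr_bt (K6.f12785 IH) (Lpn (LP (LK LD1_c6 LD2_c51 LD3_c47))))))))
theorem f483528 : Led Lsl_ff (LP (LK LD1_c7 LD2_c24 LD3_c14)) = (LP (LK LD1_c7 LD2_c27 LD3_c38)) :=
  Lgr Lrot25 (Lpr_bt (K46.f456509 IH) (Lpr_ft (K29.f483526 IH) (Lpr_bt (K4.f12791 IH) (Lpn (LP (LK LD1_c7 LD2_c27 LD3_c38))))))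
theorem f485725 : Led Lsl_cf (LP (LK LD1_c7 LD2_c18 LD3_c32)) = (LP (LK LD1_c7 LD2_c24 LD3_c14)) :=
  Lgr Lrot108 (Lpr_ft (f485701 IH) (Lpe (f12786 IH) (Lpe (f483528 IH) (Lpn (LP (LK LD1_c7 LD2_c24 LD3_c14))))))
theorem f103671 : Led Lsl_et (LP (LK LD1_c3 LD2_c45 LD3_c45)) = (LP (LK LD1_c7 LD2_c32 LD3_c11)) :=
  Lre_e IH (LK LD1_c3 LD2_c45 LD3_c45) (LK LD1_c7 LD2_c32 LD3_c11) Lrfl Lrfl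
theorem f92877 : Led Lsl_et (LP (LK LD1_c7 LD2_c34 LD3_c34)) = (LP (LK LD1_c3 LD2_c46 LD3_c49)) :=
  Lre_e IH (LK LD1_c7 LD2_c34 LD3_c34) (LK LD1_c3 LD2_c46 LD3_c49) Lrfl Lrfl
theorem f523094 : Led Lsl_gt (LP (LK LD1_c7 LD2_c32 LD3_c11)) = (LP (LK LD1_c3 LD2_c46 LD3_c49)) :=
  Lgr Lrot131 (Lpe (f103671 IH) (Lpr_dt (K5.f130116 IH) (Lpe (K5.f130105 IH) (Lpe (K34.f127912 IH) (Lpe (K5.f91299 IH) (Lpe (f114431 IH) (Lpr_dt (f114432 IH) (Lpr_gf (K34.f523090 IH) (Lpr_df (K34.f92850 IH) (Lpr_et (f92877 IH) (Lpn (LP (LK LD1_c3 LD2_c46 LD3_c49)))))))))))))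
theorem f465466 : Led Lsl_et (LP (LK LD1_c6 LD2_c57 LD3_c49)) = (LP (LK LD1_c3 LD2_c27 LD3_c47)) :=
  Lre_e IH (LK LD1_c6 LD2_c57 LD3_c49) (LK LD1_c3 LD2_c27 LD3_c47) Lrfl Lrfl
theorem f465467 : Led Lsl_dt (LP (LK LD1_c6 LD2_c57 LD3_c49)) = (LP (LK LD1_c13 LD2_c13 LD3_c18)) :=
  Lre_d IH (LK LD1_c6 LD2_c57 LD3_c49) (LK LD1_c13 LD2_c13 LD3_c18) Lrfl Lrfl
theorem f92920 : Led Lsl_dt (LP (LK LD1_c3 LD2_c46 LD3_c49)) = (LP (LK LD1_c7 LD2_c34 LD3_c33)) :=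
  Lre_d IH (LK LD1_c3 LD2_c46 LD3_c49) (LK LD1_c7 LD2_c34 LD3_c33) Lrfl Lrfl
theorem f523107 : Led Lsl_gf (LP (LK LD1_c13 LD2_c13 LD3_c18)) = (LP (LK LD1_c7 LD2_c34 LD3_c33)) :=
  Lgr Lrot134 (Lpe (f465467 IH) (Lpr_et (f465466 IH) (Lpe (K28.f465457 IH) (Lpe (K6.f127914 IH) (Lpr_dt (K34.f127912 IH) (Lpr_gt (K5.f130105 IH) (Lpe (K5.f130116 IH) (Lpr_et (f103671 IH) (Lpr_gt (f523094 IH) (Lpr_dt (f92920 IH) (Lpn (LP (LK LD1_c7 LD2_c34 LD3_c33)))))))))))))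
theorem f485821 : Led Lsl_gt (LP (LK LD1_c13 LD2_c13 LD3_c18)) = (LP (LK LD1_c22 LD2_c27 LD3_c33)) :=
  Lre_g IH (LK LD1_c13 LD2_c13 LD3_c18) (LK LD1_c22 LD2_c27 LD3_c33) Lrfl Lrfl
theorem f92815 : Led Lsl_bt (LP (LK LD1_c23 LD2_c54 LD3_c35)) = (LP (LK LD1_c14 LD2_c17 LD3_c11)) :=
  Lre_b IH (LK LD1_c23 LD2_c54 LD3_c35) (LK LD1_c14 LD2_c17 LD3_c11) Lrfl Lrfl
theorem f520733 : Led Lsl_ef (LP (LK LD1_c23 LD2_c54 LD3_c35)) = (LP (LK LD1_c30 LD2_c34 LD3_c52)) :=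
  Lgr Lrot29 (Lpr_bt (f92815 IH) (Lpr_et (K34.f520731 IH) (Lpr_bt (f460634 IH) (Lpn (LP (LK LD1_c30 LD2_c34 LD3_c52))))))
theorem f92835 : Led Lsl_ft (LP (LK LD1_c23 LD2_c54 LD3_c35)) = (LP (LK LD1_c14 LD2_c17 LD3_c7)) :=
  Lre_f IH (LK LD1_c23 LD2_c54 LD3_c35) (LK LD1_c14 LD2_c17 LD3_c7) Lrfl Lrfl
theorem f460667 : Led Lsl_et (LP (LK LD1_c13 LD2_c17 LD3_c58)) = (LP (LK LD1_c22 LD2_c33 LD3_c45)) :=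
  Lre_e IH (LK LD1_c13 LD2_c17 LD3_c58) (LK LD1_c22 LD2_c33 LD3_c45) Lrfl Lrfl
theorem f520735 : Led Lsl_ft (LP (LK LD1_c7 LD2_c34 LD3_c33)) = (LP (LK LD1_c13 LD2_c17 LD3_c58)) :=
  Lgr Lrot86 (Lpe (K34.f92847 IH) (Lpe (f92835 IH) (Lpr_ef (f520733 IH) (Lpe (f460638 IH) (Lpe (f460667 IH) (Lpn (LP (LK LD1_c13 LD2_c17 LD3_c58))))))))
theorem f523112 : Led Lsl_af (LP (LK LD1_c22 LD2_c27 LD3_c33)) = (LP (LK LD1_c13 LD2_c17 LD3_c58)) :=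
  Lgr Lrot31 (Lpe (f485821 IH) (Lpr_gf (f523107 IH) (Lpr_ft (f520735 IH) (Lpn (LP (LK LD1_c13 LD2_c17 LD3_c58))))))
theorem f523135 : Led Lsl_ct (LP (LK LD1_c30 LD2_c31 LD3_c12)) = (LP (LK LD1_c22 LD2_c27 LD3_c33)) :=
  Lre_c IH (LK LD1_c30 LD2_c31 LD3_c12) (LK LD1_c22 LD2_c27 LD3_c33) Lrfl Lrfl
theorem f523078 : Led Lsl_et (LP (LK LD1_c3 LD2_c44 LD3_c16)) = (LP (LK LD1_c7 LD2_c29 LD3_c34)) :=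
  Lre_e IH (LK LD1_c3 LD2_c44 LD3_c16) (LK LD1_c7 LD2_c29 LD3_c34) Lrfl Lrfl
theorem f523079 : Led Lsl_cf (LP (LK LD1_c3 LD2_c44 LD3_c16)) = (LP (LK LD1_c3 LD2_c46 LD3_c49)) :=
  Lgr Lrot39 (Lpr_et (f523078 IH) (Lpr_ct (K34.f523071 IH) (Lpr_et (f92877 IH) (Lpn (LP (LK LD1_c3 LD2_c46 LD3_c49))))))
theorem f523105 : Led Lsl_dt (LP (LK LD1_c3 LD2_c44 LD3_c16)) = (LP (LK LD1_c7 LD2_c29 LD3_c33)) :=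
  Lre_d IH (LK LD1_c3 LD2_c44 LD3_c16) (LK LD1_c7 LD2_c29 LD3_c33) Lrfl Lrfl
theorem f523136 : Led Lsl_ct (LP (LK LD1_c7 LD2_c29 LD3_c33)) = (LP (LK LD1_c14 LD2_c8 LD3_c55)) :=
  Lre_c IH (LK LD1_c7 LD2_c29 LD3_c33) (LK LD1_c14 LD2_c8 LD3_c55) Lrfl Lrfl
theorem f523137 : Led Lsl_dt (LP (LK LD1_c14 LD2_c8 LD3_c55)) = (LP (LK LD1_c23 LD2_c43 LD3_c44)) :=
  Lre_d IH (LK LD1_c14 LD2_c8 LD3_c55) (LK LD1_c23 LD2_c43 LD3_c44) Lrfl Lrfl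
theorem f523138 : Led Lsl_ct (LP (LK LD1_c23 LD2_c43 LD3_c44)) = (LP (LK LD1_c31 LD2_c11 LD3_c57)) :=
  Lre_c IH (LK LD1_c23 LD2_c43 LD3_c44) (LK LD1_c31 LD2_c11 LD3_c57) Lrfl Lrfl
theorem f523139 : Led Lsl_df (LP (LK LD1_c30 LD2_c31 LD3_c12)) = (LP (LK LD1_c31 LD2_c11 LD3_c57)) :=
  Lgr Lrot177 (Lpr_ct (f523135 IH) (Lpr_af (f523112 IH) (Lpe (f520735 IH) (Lpr_dt (K34.f92848 IH) (Lpe (f523079 IH) (Lpr_dt (f523105 IH) (Lpr_ct (f523136 IH) (Lpr_dt (f523137 IH) (Lpr_ct (f523138 IH) (Lpn (LP (LK LD1_c31 LD2_c11 LD3_c57))))))))))))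
theorem f485822 : Led Lsl_ct (LP (LK LD1_c22 LD2_c27 LD3_c33)) = (LP (LK LD1_c30 LD2_c31 LD3_c12)) :=
  Lre_c IH (LK LD1_c22 LD2_c27 LD3_c33) (LK LD1_c30 LD2_c31 LD3_c12) Lrfl Lrfl
theorem f520764 : Led Lsl_ct (LP (LK LD1_c22 LD2_c33 LD3_c44)) = (LP (LK LD1_c13 LD2_c17 LD3_c58)) :=
  Lre_c IH (LK LD1_c22 LD2_c33 LD3_c44) (LK LD1_c13 LD2_c17 LD3_c58) Lrfl Lrfl
theorem f523129 : Led Lsl_at (LP (LK LD1_c30 LD2_c31 LD3_c12)) = (LP (LK LD1_c22 LD2_c33 LD3_c44)) :=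
  Lgr Lrot107 (Lpe (f485822 IH) (Lpr_af (f523112 IH) (Lpe (f520764 IH) (Lpn (LP (LK LD1_c22 LD2_c33 LD3_c44))))))
theorem f520757 : Led Lsl_dt (LP (LK LD1_c22 LD2_c33 LD3_c44)) = (LP (LK LD1_c30 LD2_c34 LD3_c50)) :=
  Lre_d IH (LK LD1_c22 LD2_c33 LD3_c44) (LK LD1_c30 LD2_c34 LD3_c50) Lrfl Lrfl
theorem f523141 : Led Lsl_at (LP (LK LD1_c30 LD2_c34 LD3_c50)) = (LP (LK LD1_c31 LD2_c11 LD3_c57)) :=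
  Lgr Lrot51 (Lpe (f520757 IH) (Lpe (f523129 IH) (Lpr_df (f523139 IH) (Lpn (LP (LK LD1_c31 LD2_c11 LD3_c57))))))
theorem f520740 : Led Lsl_ct (LP (LK LD1_c14 LD2_c17 LD3_c6)) = (LP (LK LD1_c7 LD2_c34 LD3_c33)) :=
  Lre_c IH (LK LD1_c14 LD2_c17 LD3_c6) (LK LD1_c7 LD2_c34 LD3_c33) Lrfl Lrfl
theorem f520741 : Led Lsl_ct (LP (LK LD1_c13 LD2_c17 LD3_c58)) = (LP (LK LD1_c22 LD2_c33 LD3_c44)) :=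
  Lre_c IH (LK LD1_c13 LD2_c17 LD3_c58) (LK LD1_c22 LD2_c33 LD3_c44) Lrfl Lrfl
theorem f520742 : Led Lsl_ff (LP (LK LD1_c14 LD2_c17 LD3_c6)) = (LP (LK LD1_c22 LD2_c33 LD3_c44)) :=
  Lgr Lrot23 (Lpr_ct (f520740 IH) (Lpr_ft (f520735 IH) (Lpr_ct (f520741 IH) (Lpn (LP (LK LD1_c22 LD2_c33 LD3_c44))))))
theorem f520745 : Led Lsl_dt (LP (LK LD1_c14 LD2_c17 LD3_c6)) = (LP (LK LD1_c23 LD2_c54 LD3_c31)) :=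
  Lre_d IH (LK LD1_c14 LD2_c17 LD3_c6) (LK LD1_c23 LD2_c54 LD3_c31) Lrfl Lrfl
theorem f520746 : Led Lsl_dt (LP (LK LD1_c30 LD2_c34 LD3_c50)) = (LP (LK LD1_c22 LD2_c33 LD3_c44)) :=
  Lre_d IH (LK LD1_c30 LD2_c34 LD3_c50) (LK LD1_c22 LD2_c33 LD3_c44) Lrfl Lrfl
theorem f520747 : Led Lsl_ft (LP (LK LD1_c23 LD2_c54 LD3_c31)) = (LP (LK LD1_c30 LD2_c34 LD3_c50)) :=
  Lgr Lrot54 (Lpe (f520745 IH) (Lpr_ff (f520742 IH) (Lpe (f520746 IH) (Lpn (LP (LK LD1_c30 LD2_c34 LD3_c50))))))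
theorem f520773 : Led Lsl_at (LP (LK LD1_c31 LD2_c16 LD3_c30)) = (LP (LK LD1_c23 LD2_c54 LD3_c31)) :=
  Lre_a IH (LK LD1_c31 LD2_c16 LD3_c30) (LK LD1_c23 LD2_c54 LD3_c31) Lrfl Lrfl
theorem f523157 : Led Lsl_ff (LP (LK LD1_c31 LD2_c16 LD3_c30)) = (LP (LK LD1_c31 LD2_c11 LD3_c57)) :=
  Lgr Lrot30 (Lpr_at (f520773 IH) (Lpr_ft (f520747 IH) (Lpr_at (f523141 IH) (Lpn (LP (LK LD1_c31 LD2_c11 LD3_c57))))))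
theorem f523168 : Led Lsl_ft (LP (LK LD1_c31 LD2_c16 LD3_c30)) = (LP (LK LD1_c31 LD2_c11 LD3_c57)) :=
  Lgr Lrot48 (Lpr_ff (f523157 IH) (Lpn (LP (LK LD1_c31 LD2_c11 LD3_c57))))
theorem f520761 : Led Lsl_dt (LP (LK LD1_c31 LD2_c16 LD3_c30)) = (LP (LK LD1_c23 LD2_c54 LD3_c24)) :=
  Lre_d IH (LK LD1_c31 LD2_c16 LD3_c30) (LK LD1_c23 LD2_c54 LD3_c24) Lrfl Lrfl
theorem f520759 : Led Lsl_ct (LP (LK LD1_c23 LD2_c54 LD3_c24)) = (LP (LK LD1_c14 LD2_c17 LD3_c3)) :=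
  Lre_c IH (LK LD1_c23 LD2_c54 LD3_c24) (LK LD1_c14 LD2_c17 LD3_c3) Lrfl Lrfl
theorem f92892 : Led Lsl_dt (LP (LK LD1_c14 LD2_c17 LD3_c3)) = (LP (LK LD1_c7 LD2_c34 LD3_c32)) :=
  Lre_d IH (LK LD1_c14 LD2_c17 LD3_c3) (LK LD1_c7 LD2_c34 LD3_c32) Lrfl Lrfl
theorem f523152 : Led Lsl_af (LP (LK LD1_c30 LD2_c34 LD3_c50)) = (LP (LK LD1_c31 LD2_c11 LD3_c57)) :=
  Lgr Lrot0 (Lpr_at (f523141 IH) (Lpn (LP (LK LD1_c31 LD2_c11 LD3_c57))))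
theorem f523148 : Led Lsl_ct (LP (LK LD1_c31 LD2_c11 LD3_c57)) = (LP (LK LD1_c23 LD2_c43 LD3_c44)) :=
  Lre_c IH (LK LD1_c31 LD2_c11 LD3_c57) (LK LD1_c23 LD2_c43 LD3_c44) Lrfl Lrfl
theorem f523154 : Led Lsl_at (LP (LK LD1_c23 LD2_c43 LD3_c44)) = (LP (LK LD1_c31 LD2_c11 LD3_c50)) :=
  Lre_a IH (LK LD1_c23 LD2_c43 LD3_c44) (LK LD1_c31 LD2_c11 LD3_c50) Lrfl Lrfl
theorem f523155 : Led Lsl_cf (LP (LK LD1_c30 LD2_c34 LD3_c50)) = (LP (LK LD1_c31 LD2_c11 LD3_c50)) :=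
  Lgr Lrot1 (Lpr_at (f523141 IH) (Lpr_ct (f523148 IH) (Lpr_at (f523154 IH) (Lpn (LP (LK LD1_c31 LD2_c11 LD3_c50))))))
theorem f523180 : Led Lsl_dt (LP (LK LD1_c23 LD2_c43 LD3_c35)) = (LP (LK LD1_c31 LD2_c11 LD3_c50)) :=
  Lre_d IH (LK LD1_c23 LD2_c43 LD3_c35) (LK LD1_c31 LD2_c11 LD3_c50) Lrfl Lrfl
theorem f523181 : Led Lsl_ct (LP (LK LD1_c14 LD2_c8 LD3_c51)) = (LP (LK LD1_c23 LD2_c43 LD3_c35)) :=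
  Lre_c IH (LK LD1_c14 LD2_c8 LD3_c51) (LK LD1_c23 LD2_c43 LD3_c35) Lrfl Lrfl
theorem f523182 : Led Lsl_dt (LP (LK LD1_c7 LD2_c29 LD3_c32)) = (LP (LK LD1_c14 LD2_c8 LD3_c51)) :=
  Lre_d IH (LK LD1_c7 LD2_c29 LD3_c32) (LK LD1_c14 LD2_c8 LD3_c51) Lrfl Lrfl
theorem f523183 : Led Lsl_ct (LP (LK LD1_c7 LD2_c34 LD3_c32)) = (LP (LK LD1_c7 LD2_c29 LD3_c32)) :=
  Lgr Lrot41 (Lpe (f92892 IH) (Lpe (f520759 IH) (Lpe (f520761 IH) (Lpr_ft (f523168 IH) (Lpe (f523152 IH) (Lpr_cf (f523155 IH) (Lpe (f523180 IH) (Lpe (f523181 IH) (Lpe (f523182 IH) (Lpn (LP (LK LD1_c7 LD2_c29 LD3_c32))))))))))))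
theorem f520723 : Led Lsl_at (LP (LK LD1_c3 LD2_c46 LD3_c49)) = (LP (LK LD1_c7 LD2_c34 LD3_c32)) :=
  Lre_a IH (LK LD1_c3 LD2_c46 LD3_c49) (LK LD1_c7 LD2_c34 LD3_c32) Lrfl Lrfl
theorem f523185 : Led Lsl_at (LP (LK LD1_c7 LD2_c29 LD3_c32)) = (LP (LK LD1_c3 LD2_c44 LD3_c16)) :=
  Lre_a IH (LK LD1_c7 LD2_c29 LD3_c32) (LK LD1_c3 LD2_c44 LD3_c16) Lrfl Lrfl
theorem f523186 : Led Lsl_cf (LP (LK LD1_c3 LD2_c46 LD3_c49)) = (LP (LK LD1_c3 LD2_c44 LD3_c16)) :=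
  Lgr Lrot1 (Lpr_at (f520723 IH) (Lpr_ct (f523183 IH) (Lpr_at (f523185 IH) (Lpn (LP (LK LD1_c3 LD2_c44 LD3_c16))))))
theorem f12884 : Led Lsl_bt (LP (LK LD1_c3 LD2_c44 LD3_c16)) = (LP (LK LD1_c1 LD2_c49 LD3_c10)) :=
  Lre_b IH (LK LD1_c3 LD2_c44 LD3_c16) (LK LD1_c1 LD2_c49 LD3_c10) Lrfl Lrfl
theorem f523213 : Led Lsl_gt (LP (LK LD1_c3 LD2_c46 LD3_c49)) = (LP (LK LD1_c7 LD2_c18 LD3_c32)) :=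
  Lgr Lrot65 (Lpr_cf (f523186 IH) (Lpr_bt (f12884 IH) (Lpe (K34.f12878 IH) (Lpr_bf (K4.f12858 IH) (Lpr_ct (f4611 IH) (Lpe (K29.f4883 IH) (Lpe (K29.f4888 IH) (Lpr_gf (K29.f483582 IH) (Lpe (K46.f456509 IH) (Lpe (f485725 IH) (Lpn (LP (LK LD1_c7 LD2_c18 LD3_c32)))))))))))))
theorem f123984 : Led Lsl_ct (LP (LK LD1_c13 LD2_c16 LD3_c25)) = (LP (LK LD1_c6 LD2_c59 LD3_c44)) :=
  Lre_c IH (LK LD1_c13 LD2_c16 LD3_c25) (LK LD1_c6 LD2_c59 LD3_c44) Lrfl Lrfl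
theorem f123983 : Led Lsl_bt (LP (LK LD1_c6 LD2_c59 LD3_c44)) = (LP (LK LD1_c13 LD2_c16 LD3_c24)) :=
  Lre_b IH (LK LD1_c6 LD2_c59 LD3_c44) (LK LD1_c13 LD2_c16 LD3_c24) Lrfl Lrfl
theorem f123975 : Led Lsl_ct (LP (LK LD1_c13 LD2_c16 LD3_c24)) = (LP (LK LD1_c7 LD2_c28 LD3_c32)) :=
  Lgr Lrot59 (Lpr_cf (K32.f123962 IH) (Lpn (LP (LK LD1_c7 LD2_c28 LD3_c32))))
theorem f123981 : Led Lsl_bt (LP (LK LD1_c7 LD2_c28 LD3_c32)) = (LP (LK LD1_c14 LD2_c6 LD3_c37)) :=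
  Lre_b IH (LK LD1_c7 LD2_c28 LD3_c32) (LK LD1_c14 LD2_c6 LD3_c37) Lrfl Lrfl
theorem f124001 : Led Lsl_ct (LP (LK LD1_c14 LD2_c6 LD3_c37)) = (LP (LK LD1_c13 LD2_c56 LD3_c11)) :=
  Lgr Lrot83 (Lpe (f123981 IH) (Lpe (f123975 IH) (Lpe (f123983 IH) (Lpe (f123984 IH) (Lpr_bf (K32.f123988 IH) (Lpn (LP (LK LD1_c13 LD2_c56 LD3_c11))))))))
theorem f659934 : Led Lsl_gf (LP (LK LD1_c3 LD2_c44 LD3_c16)) = (LP (LK LD1_c7 LD2_c28 LD3_c32)) :=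
  Lgr Lrot181 (Lpe (f523186 IH) (Lpr_gt (f523213 IH) (Lpr_cf (f485725 IH) (Lpr_bt (K46.f456509 IH) (Lpe (K29.f483582 IH) (Lpe (f483596 IH) (Lpr_ct (f478495 IH) (Lpr_gt (f659930 IH) (Lpe (f124001 IH) (Lpr_bt (K32.f123972 IH) (Lpn (LP (LK LD1_c7 LD2_c28 LD3_c32)))))))))))))
theorem f511968 : Led Lsl_bt (LP (LK LD1_c3 LD2_c46 LD3_c49)) = (LP (LK LD1_c1 LD2_c50 LD3_c30)) :=
  Lre_b IH (LK LD1_c3 LD2_c46 LD3_c49) (LK LD1_c1 LD2_c50 LD3_c30) Lrfl Lrfl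
theorem f511959 : Led Lsl_cf K34.v618 = K33.v2301 :=
  Lgr Lrot108 (Lpe (K34.f455523 IH) (Lpr_ct (K28.f120546 IH) (Lpr_ft (K33.f511957 IH) (Lpn K33.v2301))))
theorem f659939 : Led Lsl_gt (LP (LK LD1_c3 LD2_c46 LD3_c57)) = (LP (LK LD1_c6 LD2_c59 LD3_c44)) :=
  Lgr Lrot164 (Lpe (K30.f455528 IH) (Lpr_ct (K30.f451070 IH) (Lpr_gf (K34.f455527 IH) (Lpr_cf (f511959 IH) (Lpe (K33.f511967 IH) (Lpe (f511968 IH) (Lpe (f523079 IH) (Lpr_gf (f659934 IH) (Lpe (f123975 IH) (Lpr_bt (K32.f123970 IH) (Lpn (LP (LK LD1_c6 LD2_c59 LD3_c44)))))))))))))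
theorem f659940 : Led Lsl_gt (LP (LK LD1_c3 LD2_c46 LD3_c57)) = (LP (LK LD1_c6 LD2_c59 LD3_c44)) :=
  Leop (Lpe (f659939 IH) (Lpn (LP (LK LD1_c3 LD2_c46 LD3_c57))))
theorem seed_422 : LEOK LG_g (LK LD1_c3 LD2_c46 LD3_c57) :=
  Leoe_g (LK LD1_c3 LD2_c46 LD3_c57) (f659940 IH)
def v7010 : LQ := Led Lsl_dt (LP (LK LD1_c3 LD2_c36 LD3_c13))
theorem f660180 : Led Lsl_dt (LP (LK LD1_c3 LD2_c36 LD3_c13)) = v7010 :=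
  Lrfl
theorem f659051 : Led Lsl_gf (LP (LK LD1_c3 LD2_c34 LD3_c33)) = v6869 :=
  Lgr Lrot76 (Lpr_af (K4.f121671 IH) (Lpr_ff (K4.f107699 IH) (Lpr_gt (f659050 IH) (Lpn v6869))))
def v6867 : LQ := Led Lsl_dt (LP (LK LD1_c3 LD2_c32 LD3_c31))
theorem f659043 : Led Lsl_dt (LP (LK LD1_c3 LD2_c32 LD3_c31)) = v6867 :=
  Lrfl
theorem f660186 : Led Lsl_ct v6867 = v7010 :=
  Lgr Lrot7 (Lpe (f659043 IH) (Lpe (K11.f107788 IH) (Lpe (K3.f106476 IH) (Lpr_gf (f659051 IH) (Lpe (f659055 IH) (Lpe (K33.f107714 IH) (Lpr_dt (K3.f105765 IH) (Lpr_gt (K5.f86711 IH) (Lpr_dt (f660180 IH) (Lpn v7010))))))))))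
def v981 : LQ := Led Lsl_ct K11.v150
theorem f490849 : Led Lsl_ct K11.v150 = v981 :=
  Lrfl
def v3646 : LQ := Led Lsl_dt v981
theorem f626571 : Led Lsl_dt v981 = v3646 :=
  Lrfl
theorem f626573 : Led Lsl_df v981 = v3646 :=
  Lgr Lrot38 (Lpr_dt (f626571 IH) (Lpn v3646))
theorem f659045 : Led Lsl_gf v3646 = v6867 :=
  Lgr Lrot143 (Lpe (f626573 IH) (Lpe (f490849 IH) (Lpe (K11.f450759 IH) (Lpe (K3.f9988 IH) (Lpe (K3.f19733 IH) (Lpe (K3.f94430 IH) (Lpe (K3.f106437 IH) (Lpr_gt (K11.f107788 IH) (Lpr_dt (f659043 IH) (Lpn v6867))))))))))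
def v1008 : LQ := Led Lsl_ct K11.v167
def v3703 : LQ := Led Lsl_dt v1008
theorem f626880 : Led Lsl_dt v1008 = v3703 :=
  Lrfl
theorem f490979 : Led Lsl_ct K11.v167 = v1008 :=
  Lrfl
theorem f490982 : Led Lsl_ff (LP (LK LD1_c1 LD2_c44 LD3_c1)) = v1008 :=
  Lgr Lrot23 (Lpr_ct (K33.f106639 IH) (Lpr_ft (K11.f450861 IH) (Lpr_ct (f490979 IH) (Lpn v1008))))
theorem f448674 : Led Lsl_at (LP (LK LD1_c1 LD2_c45 LD3_c43)) = (LP (LK LD1_c1 LD2_c44 LD3_c1)) :=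
  Lgr Lrot107 (Lpe (K35.f94402 IH) (Lpr_af (K11.f448670 IH) (Lpe (K33.f106639 IH) (Lpn (LP (LK LD1_c1 LD2_c44 LD3_c1))))))
theorem f448676 : Led Lsl_af (LP (LK LD1_c1 LD2_c45 LD3_c43)) = (LP (LK LD1_c1 LD2_c44 LD3_c1)) :=
  Lgr Lrot0 (Lpr_at (f448674 IH) (Lpn (LP (LK LD1_c1 LD2_c44 LD3_c1))))
theorem f450765 : Led Lsl_ft (LP (LK LD1_c0 LD2_c49 LD3_c31)) = K11.v150 :=
  Lgr Lrot48 (Lpr_ff (K11.f450761 IH) (Lpn K11.v150))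
theorem f490851 : Led Lsl_ff (LP (LK LD1_c1 LD2_c45 LD3_c43)) = v981 :=
  Lgr Lrot23 (Lpr_ct (f156067 IH) (Lpr_ft (f450765 IH) (Lpr_ct (f490849 IH) (Lpn v981))))
theorem f490855 : Led Lsl_ft (LP (LK LD1_c1 LD2_c45 LD3_c43)) = v981 :=
  Lgr Lrot48 (Lpr_ff (f490851 IH) (Lpn v981))
theorem f490983 : Led Lsl_at v981 = v1008 :=
  Lgr Lrot66 (Lpe (f490855 IH) (Lpr_af (f448676 IH) (Lpr_ff (f490982 IH) (Lpn v1008))))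
theorem f626881 : Led Lsl_af v3646 = v3703 :=
  Lgr Lrot117 (Lpe (f626573 IH) (Lpr_at (f490983 IH) (Lpr_dt (f626880 IH) (Lpn v3703))))
theorem f490984 : Led Lsl_ft (LP (LK LD1_c1 LD2_c44 LD3_c1)) = v1008 :=
  Lgr Lrot48 (Lpr_ff (f490982 IH) (Lpn v1008))
theorem f626884 : Led Lsl_ff (LP (LK LD1_c3 LD2_c34 LD3_c29)) = v3703 :=
  Lgr Lrot19 (Lpr_dt (K33.f106640 IH) (Lpr_ft (f490984 IH) (Lpr_dt (f626880 IH) (Lpn v3703))))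
theorem f626889 : Led Lsl_ft (LP (LK LD1_c3 LD2_c34 LD3_c29)) = v3703 :=
  Lgr Lrot48 (Lpr_ff (f626884 IH) (Lpn v3703))
theorem f659046 : Led Lsl_gt (LP (LK LD1_c3 LD2_c34 LD3_c29)) = v6867 :=
  Lgr Lrot5 (Lpr_ft (f626889 IH) (Lpe (f626881 IH) (Lpr_gf (f659045 IH) (Lpn v6867))))
theorem f448688 : Led Lsl_bt (LP (LK LD1_c7 LD2_c10 LD3_c3)) = (LP (LK LD1_c3 LD2_c34 LD3_c29)) :=
  Lre_b IH (LK LD1_c7 LD2_c10 LD3_c3) (LK LD1_c3 LD2_c34 LD3_c29) Lrfl Lrfl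
theorem f519420 : Led Lsl_ct (LP (LK LD1_c7 LD2_c10 LD3_c3)) = (LP (LK LD1_c13 LD2_c34 LD3_c30)) :=
  Lre_c IH (LK LD1_c7 LD2_c10 LD3_c3) (LK LD1_c13 LD2_c34 LD3_c30) Lrfl Lrfl
theorem f519394 : Led Lsl_gt (LP (LK LD1_c22 LD2_c57 LD3_c48)) = (LP (LK LD1_c13 LD2_c34 LD3_c30)) :=
  Lre_g IH (LK LD1_c22 LD2_c57 LD3_c48) (LK LD1_c13 LD2_c34 LD3_c30) Lrfl Lrfl
theorem f660185 : Led Lsl_gf (LP (LK LD1_c3 LD2_c37 LD3_c46)) = v7010 :=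
  Lgr Lrot143 (Lpr_dt (f156068 IH) (Lpe (K35.f94402 IH) (Lpe (K7.f156059 IH) (Lpe (K3.f9976 IH) (Lpe (K0.f10312 IH) (Lpe (K3.f86709 IH) (Lpe (K3.f86705 IH) (Lpr_gt (K5.f86711 IH) (Lpr_dt (f660180 IH) (Lpn v7010))))))))))
theorem f19439 : Led Lsl_af (LP (LK LD1_c3 LD2_c34 LD3_c51)) = (LP (LK LD1_c3 LD2_c34 LD3_c49)) :=
  Lgr Lrot68 (Lpr_ct (K0.f19432 IH) (Lpr_at (K3.f19437 IH) (Lpr_ct (K3.f19438 IH) (Lpn (LP (LK LD1_c3 LD2_c34 LD3_c49))))))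
theorem f429169 : Led Lsl_gf (LP (LK LD1_c3 LD2_c34 LD3_c51)) = (LP (LK LD1_c3 LD2_c37 LD3_c51)) :=
  Lgr Lrot76 (Lpr_af (f19439 IH) (Lpr_ff (K3.f19456 IH) (Lpr_gt (K32.f429167 IH) (Lpn (LP (LK LD1_c3 LD2_c37 LD3_c51))))))
theorem f156064 : Led Lsl_dt (LP (LK LD1_c1 LD2_c45 LD3_c43)) = (LP (LK LD1_c3 LD2_c37 LD3_c46)) :=
  Lre_d IH (LK LD1_c1 LD2_c45 LD3_c43) (LK LD1_c3 LD2_c37 LD3_c46) Lrfl Lrfl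
theorem f429171 : Led Lsl_cf (LP (LK LD1_c3 LD2_c37 LD3_c46)) = (LP (LK LD1_c3 LD2_c37 LD3_c51)) :=
  Lgr Lrot99 (Lpe (f156064 IH) (Lpe (K35.f94402 IH) (Lpe (K7.f10087 IH) (Lpe (K11.f10940 IH) (Lpe (K32.f10943 IH) (Lpe (K32.f429166 IH) (Lpe (f429169 IH) (Lpr_ct (K0.f19432 IH) (Lpr_gt (K32.f429167 IH) (Lpn (LP (LK LD1_c3 LD2_c37 LD3_c51))))))))))))
theorem f429186 : Led Lsl_bt (LP (LK LD1_c3 LD2_c37 LD3_c51)) = (LP (LK LD1_c7 LD2_c16 LD3_c7)) :=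
  Lre_b IH (LK LD1_c3 LD2_c37 LD3_c51) (LK LD1_c7 LD2_c16 LD3_c7) Lrfl Lrfl
theorem f429188 : Led Lsl_gt (LP (LK LD1_c7 LD2_c16 LD3_c7)) = (LP (LK LD1_c13 LD2_c45 LD3_c7)) :=
  Lre_g IH (LK LD1_c7 LD2_c16 LD3_c7) (LK LD1_c13 LD2_c45 LD3_c7) Lrfl Lrfl
theorem f429189 : Led Lsl_bt (LP (LK LD1_c23 LD2_c11 LD3_c59)) = (LP (LK LD1_c13 LD2_c45 LD3_c7)) :=
  Lre_b IH (LK LD1_c23 LD2_c11 LD3_c59) (LK LD1_c13 LD2_c45 LD3_c7) Lrfl Lrfl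
theorem f660187 : Led Lsl_cf (LP (LK LD1_c22 LD2_c57 LD3_c48)) = (LP (LK LD1_c23 LD2_c11 LD3_c59)) :=
  Lgr Lrot160 (Lpr_gt (f519394 IH) (Lpe (f519420 IH) (Lpr_bt (f448688 IH) (Lpr_gt (f659046 IH) (Lpr_ct (f660186 IH) (Lpe (f660185 IH) (Lpr_cf (f429171 IH) (Lpr_bt (f429186 IH) (Lpr_gt (f429188 IH) (Lpe (f429189 IH) (Lpn (LP (LK LD1_c23 LD2_c11 LD3_c59)))))))))))))
theorem f660188 : Led Lsl_ct (LP (LK LD1_c23 LD2_c11 LD3_c59)) = (LP (LK LD1_c22 LD2_c57 LD3_c48)) :=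
  Leop (Lpr_cf (f660187 IH) (Lpn (LP (LK LD1_c23 LD2_c11 LD3_c59))))
theorem seed_423 : LEOK LG_c (LK LD1_c23 LD2_c11 LD3_c59) :=
  Leoe_c (LK LD1_c23 LD2_c11 LD3_c59) (f660188 IH)
def v7015 : LQ := Led Lsl_gt (LP (LK LD1_c3 LD2_c36 LD3_c16))
theorem f660225 : Led Lsl_gt (LP (LK LD1_c3 LD2_c36 LD3_c16)) = v7015 :=
  Lrfl
theorem f105829 : Led Lsl_bt (LP (LK LD1_c7 LD2_c12 LD3_c53)) = (LP (LK LD1_c3 LD2_c36 LD3_c16)) :=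
  Lre_b IH (LK LD1_c7 LD2_c12 LD3_c53) (LK LD1_c3 LD2_c36 LD3_c16) Lrfl Lrfl
theorem f86892 : Led Lsl_gt (LP (LK LD1_c23 LD2_c4 LD3_c28)) = (LP (LK LD1_c13 LD2_c39 LD3_c20)) :=
  Lre_g IH (LK LD1_c23 LD2_c4 LD3_c28) (LK LD1_c13 LD2_c39 LD3_c20) Lrfl Lrfl
theorem f660229 : Led Lsl_cf v6870 = v7015 :=
  Lgr Lrot169 (Lpe (f659067 IH) (Lpr_ct (K29.f429232 IH) (Lpe (K29.f106021 IH) (Lpr_cf (K29.f429061 IH) (Lpe (K29.f105982 IH) (Lpr_cf (K33.f105987 IH) (Lpe (K5.f86711 IH) (Lpe (K3.f105765 IH) (Lpr_gt (f660225 IH) (Lpn v7015))))))))))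
theorem f429236 : Led Lsl_gt (LP (LK LD1_c7 LD2_c10 LD3_c30)) = (LP (LK LD1_c13 LD2_c35 LD3_c21)) :=
  Lre_g IH (LK LD1_c7 LD2_c10 LD3_c30) (LK LD1_c13 LD2_c35 LD3_c21) Lrfl Lrfl
theorem f429310 : Led Lsl_bt (LP (LK LD1_c22 LD2_c59 LD3_c7)) = (LP (LK LD1_c13 LD2_c35 LD3_c21)) :=
  Lre_b IH (LK LD1_c22 LD2_c59 LD3_c7) (LK LD1_c13 LD2_c35 LD3_c21) Lrfl Lrfl
theorem f660230 : Led Lsl_cf (LP (LK LD1_c23 LD2_c4 LD3_c28)) = (LP (LK LD1_c22 LD2_c59 LD3_c7)) :=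
  Lgr Lrot160 (Lpr_gt (f86892 IH) (Lpe (K4.f86882 IH) (Lpr_bt (f105829 IH) (Lpr_gt (f660225 IH) (Lpe (f660229 IH) (Lpe (f659067 IH) (Lpe (f429072 IH) (Lpr_bt (K29.f429226 IH) (Lpr_gt (f429236 IH) (Lpe (f429310 IH) (Lpn (LP (LK LD1_c22 LD2_c59 LD3_c7)))))))))))))
theorem f660231 : Led Lsl_ct (LP (LK LD1_c22 LD2_c59 LD3_c7)) = (LP (LK LD1_c23 LD2_c4 LD3_c28)) :=
  Leop (Lpr_cf (f660230 IH) (Lpn (LP (LK LD1_c22 LD2_c59 LD3_c7))))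
theorem seed_424 : LEOK LG_c (LK LD1_c22 LD2_c59 LD3_c7) :=
  Leoe_c (LK LD1_c22 LD2_c59 LD3_c7) (f660231 IH)
def v7016 : LQ := Led Lsl_et (LP (LK LD1_c3 LD2_c36 LD3_c19))
theorem f660240 : Led Lsl_et (LP (LK LD1_c3 LD2_c36 LD3_c19)) = v7016 :=
  Lrfl
theorem f660243 : Led Lsl_ef (LP (LK LD1_c3 LD2_c36 LD3_c19)) = v7016 :=
  Lgr Lrot88 (Lpr_et (f660240 IH) (Lpn v7016))
theorem f5502 : Led Lsl_dt (LP (LK LD1_c0 LD2_c50 LD3_c6)) = (LP (LK LD1_c1 LD2_c46 LD3_c45)) :=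
  Lre_d IH (LK LD1_c0 LD2_c50 LD3_c6) (LK LD1_c1 LD2_c46 LD3_c45) Lrfl Lrfl
theorem f5637 : Led Lsl_gt (LP (LK LD1_c3 LD2_c39 LD3_c42)) = (LP (LK LD1_c1 LD2_c46 LD3_c45)) :=
  Lre_g IH (LK LD1_c3 LD2_c39 LD3_c42) (LK LD1_c1 LD2_c46 LD3_c45) Lrfl Lrfl
theorem f660246 : Led Lsl_df (LP (LK LD1_c3 LD2_c39 LD3_c42)) = v7016 :=
  Lgr Lrot170 (Lpr_gt (f5637 IH) (Lpe (f5502 IH) (Lpr_et (K33.f5644 IH) (Lpr_gt (K2.f5394 IH) (Lpr_dt (K28.f98035 IH) (Lpe (K3.f98033 IH) (Lpe (K3.f98049 IH) (Lpr_et (K28.f10474 IH) (Lpr_gt (K29.f10660 IH) (Lpr_ef (f660243 IH) (Lpn v7016)))))))))))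
theorem f660250 : Led Lsl_et (LP (LK LD1_c3 LD2_c39 LD3_c42)) = (LP (LK LD1_c7 LD2_c19 LD3_c38)) :=
  Lre_e IH (LK LD1_c3 LD2_c39 LD3_c42) (LK LD1_c7 LD2_c19 LD3_c38) Lrfl Lrfl
theorem f98448 : Led Lsl_dt (LP (LK LD1_c7 LD2_c13 LD3_c1)) = (LP (LK LD1_c3 LD2_c36 LD3_c19)) :=
  Lre_d IH (LK LD1_c7 LD2_c13 LD3_c1) (LK LD1_c3 LD2_c36 LD3_c19) Lrfl Lrfl
theorem f528300 : Led Lsl_et (LP (LK LD1_c13 LD2_c39 LD3_c40)) = (LP (LK LD1_c7 LD2_c13 LD3_c1)) :=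
  Lre_e IH (LK LD1_c13 LD2_c39 LD3_c40) (LK LD1_c7 LD2_c13 LD3_c1) Lrfl Lrfl
theorem f660251 : Led Lsl_dt (LP (LK LD1_c7 LD2_c19 LD3_c38)) = (LP (LK LD1_c13 LD2_c39 LD3_c40)) :=
  Lgr Lrot77 (Lpe (f660250 IH) (Lpr_df (f660246 IH) (Lpe (f660240 IH) (Lpe (f98448 IH) (Lpe (f528300 IH) (Lpn (LP (LK LD1_c13 LD2_c39 LD3_c40))))))))
theorem f660252 : Led Lsl_dt (LP (LK LD1_c7 LD2_c19 LD3_c38)) = (LP (LK LD1_c13 LD2_c39 LD3_c40)) :=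
  Leop (Lpe (f660251 IH) (Lpn (LP (LK LD1_c7 LD2_c19 LD3_c38))))
theorem seed_425 : LEOK LG_d (LK LD1_c7 LD2_c19 LD3_c38) :=
  Leoe_d (LK LD1_c7 LD2_c19 LD3_c38) (f660252 IH)
def v7020 : LQ := Led Lsl_gt (LP (LK LD1_c3 LD2_c36 LD3_c27))
theorem f660359 : Led Lsl_gt (LP (LK LD1_c3 LD2_c36 LD3_c27)) = v7020 :=
  Lrfl
theorem f10865 : Led Lsl_ct (LP (LK LD1_c1 LD2_c45 LD3_c3)) = (LP (LK LD1_c3 LD2_c36 LD3_c27)) :=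
  Lre_c IH (LK LD1_c1 LD2_c45 LD3_c3) (LK LD1_c3 LD2_c36 LD3_c27) Lrfl Lrfl
theorem f437617 : Led Lsl_gt (LP (LK LD1_c7 LD2_c51 LD3_c33)) = (LP (LK LD1_c3 LD2_c55 LD3_c34)) :=
  Lre_g IH (LK LD1_c7 LD2_c51 LD3_c33) (LK LD1_c3 LD2_c55 LD3_c34) Lrfl Lrfl
theorem f437615 : Led Lsl_ct (LP (LK LD1_c3 LD2_c54 LD3_c57)) = (LP (LK LD1_c7 LD2_c51 LD3_c33)) :=
  Lre_c IH (LK LD1_c3 LD2_c54 LD3_c57) (LK LD1_c7 LD2_c51 LD3_c33) Lrfl Lrfl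
theorem f145401 : Led Lsl_bt (LP (LK LD1_c0 LD2_c53 LD3_c50)) = (LP (LK LD1_c1 LD2_c54 LD3_c23)) :=
  Lre_b IH (LK LD1_c0 LD2_c53 LD3_c50) (LK LD1_c1 LD2_c54 LD3_c23) Lrfl Lrfl
theorem f145402 : Led Lsl_at (LP (LK LD1_c1 LD2_c54 LD3_c23)) = (LP (LK LD1_c3 LD2_c54 LD3_c57)) :=
  Lre_a IH (LK LD1_c1 LD2_c54 LD3_c23) (LK LD1_c3 LD2_c54 LD3_c57) Lrfl Lrfl
theorem f145403 : Led Lsl_bt (LP (LK LD1_c1 LD2_c54 LD3_c23)) = (LP (LK LD1_c0 LD2_c53 LD3_c50)) :=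
  Lre_b IH (LK LD1_c1 LD2_c54 LD3_c23) (LK LD1_c0 LD2_c53 LD3_c50) Lrfl Lrfl
theorem f145404 : Led Lsl_at (LP (LK LD1_c3 LD2_c54 LD3_c57)) = (LP (LK LD1_c1 LD2_c54 LD3_c23)) :=
  Lre_a IH (LK LD1_c3 LD2_c54 LD3_c57) (LK LD1_c1 LD2_c54 LD3_c23) Lrfl Lrfl
theorem f145405 : Led Lsl_bt (LP (LK LD1_c3 LD2_c54 LD3_c57)) = (LP (LK LD1_c3 LD2_c54 LD3_c57)) :=
  Lgr Lrot62 (Lpe (f145402 IH) (Lpe (f145401 IH) (Lpr_af (K6.f145399 IH) (Lpe (f145403 IH) (Lpe (f145404 IH) (Lpn (LP (LK LD1_c3 LD2_c54 LD3_c57))))))))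
theorem f123216 : Led Lsl_gt (LP (LK LD1_c1 LD2_c54 LD3_c20)) = (LP (LK LD1_c3 LD2_c54 LD3_c57)) :=
  Lre_g IH (LK LD1_c1 LD2_c54 LD3_c20) (LK LD1_c3 LD2_c54 LD3_c57) Lrfl Lrfl
theorem f123217 : Led Lsl_bt (LP (LK LD1_c3 LD2_c55 LD3_c28)) = (LP (LK LD1_c1 LD2_c54 LD3_c20)) :=
  Lre_b IH (LK LD1_c3 LD2_c55 LD3_c28) (LK LD1_c1 LD2_c54 LD3_c20) Lrfl Lrfl
theorem f660363 : Led Lsl_ct (LP (LK LD1_c3 LD2_c55 LD3_c28)) = v7020 :=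
  Lgr Lrot63 (Lpr_bt (f123217 IH) (Lpr_gt (f123216 IH) (Lpe (f145405 IH) (Lpr_ct (f437615 IH) (Lpr_gt (f437617 IH) (Lpe (K29.f478267 IH) (Lpr_bt (K29.f478275 IH) (Lpr_gt (K3.f10466 IH) (Lpr_ct (f10865 IH) (Lpr_gt (f660359 IH) (Lpn v7020)))))))))))
theorem f660366 : Led Lsl_cf (LP (LK LD1_c3 LD2_c55 LD3_c28)) = v7020 :=
  Lgr Lrot11 (Lpr_ct (f660363 IH) (Lpn v7020))
theorem f526945 : Led Lsl_af (LP (LK LD1_c1 LD2_c54 LD3_c21)) = (LP (LK LD1_c3 LD2_c41 LD3_c52)) :=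
  Lgr Lrot0 (Lpr_at (K34.f526943 IH) (Lpn (LP (LK LD1_c3 LD2_c41 LD3_c52))))
theorem f526959 : Led Lsl_ft (LP (LK LD1_c1 LD2_c54 LD3_c20)) = (LP (LK LD1_c3 LD2_c41 LD3_c52)) :=
  Lgr Lrot2 (Lpr_gt (f123216 IH) (Lpr_gt (K34.f437645 IH) (Lpr_af (f526945 IH) (Lpn (LP (LK LD1_c3 LD2_c41 LD3_c52))))))
theorem f526965 : Led Lsl_ff (LP (LK LD1_c1 LD2_c54 LD3_c20)) = (LP (LK LD1_c3 LD2_c41 LD3_c52)) :=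
  Lgr Lrot3 (Lpr_ft (f526959 IH) (Lpn (LP (LK LD1_c3 LD2_c41 LD3_c52))))
theorem f487438 : Led Lsl_bt (LP (LK LD1_c1 LD2_c54 LD3_c20)) = (LP (LK LD1_c3 LD2_c55 LD3_c28)) :=
  Lre_b IH (LK LD1_c1 LD2_c54 LD3_c20) (LK LD1_c3 LD2_c55 LD3_c28) Lrfl Lrfl
theorem f467409 : Led Lsl_bf (LP (LK LD1_c3 LD2_c41 LD3_c52)) = (LP (LK LD1_c3 LD2_c49 LD3_c14)) :=
  Lgr Lrot93 (Lpr_dt (K33.f437915 IH) (Lpr_bt (K43.f456487 IH) (Lpr_dt (K28.f467407 IH) (Lpn (LP (LK LD1_c3 LD2_c49 LD3_c14))))))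
theorem f526967 : Led Lsl_ft (LP (LK LD1_c3 LD2_c55 LD3_c28)) = (LP (LK LD1_c3 LD2_c49 LD3_c14)) :=
  Lgr Lrot75 (Lpe (f487438 IH) (Lpr_ff (f526965 IH) (Lpr_bf (f467409 IH) (Lpn (LP (LK LD1_c3 LD2_c49 LD3_c14))))))
theorem f481004 : Led Lsl_ct (LP (LK LD1_c7 LD2_c0 LD3_c47)) = (LP (LK LD1_c3 LD2_c38 LD3_c40)) :=
  Lgr Lrot7 (Lpr_df (K29.f107240 IH) (Lpe (K29.f107244 IH) (Lpe (K29.f98005 IH) (Lpr_gf (K29.f480912 IH) (Lpr_cf (K29.f456622 IH) (Lpr_gt (K29.f6629 IH) (Lpr_dt (K29.f6331 IH) (Lpr_gt (K29.f6602 IH) (Lpe (K29.f442004 IH) (Lpn (LP (LK LD1_c3 LD2_c38 LD3_c40))))))))))))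
theorem f526104 : Led Lsl_af (LP (LK LD1_c7 LD2_c0 LD3_c47)) = (LP (LK LD1_c3 LD2_c41 LD3_c46)) :=
  Lgr Lrot68 (Lpr_ct (f481004 IH) (Lpr_at (K45.f526100 IH) (Lpe (K29.f456478 IH) (Lpn (LP (LK LD1_c3 LD2_c41 LD3_c46))))))
theorem f526427 : Led Lsl_at (LP (LK LD1_c7 LD2_c39 LD3_c9)) = (LP (LK LD1_c3 LD2_c49 LD3_c14)) :=
  Lgr Lrot51 (Lpe (K29.f107238 IH) (Lpr_af (f526104 IH) (Lpr_df (K29.f467411 IH) (Lpn (LP (LK LD1_c3 LD2_c49 LD3_c14))))))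
theorem f526429 : Led Lsl_af (LP (LK LD1_c7 LD2_c39 LD3_c9)) = (LP (LK LD1_c3 LD2_c49 LD3_c14)) :=
  Lgr Lrot0 (Lpr_at (f526427 IH) (Lpn (LP (LK LD1_c3 LD2_c49 LD3_c14))))
theorem f526998 : Led Lsl_gt (LP (LK LD1_c3 LD2_c55 LD3_c28)) = (LP (LK LD1_c3 LD2_c49 LD3_c16)) :=
  Lgr Lrot5 (Lpr_ft (f526967 IH) (Lpe (f526429 IH) (Lpe (K29.f107244 IH) (Lpn (LP (LK LD1_c3 LD2_c49 LD3_c16))))))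
theorem f456950 : Led Lsl_bt (LP (LK LD1_c0 LD2_c53 LD3_c49)) = (LP (LK LD1_c1 LD2_c54 LD3_c25)) :=
  Lre_b IH (LK LD1_c0 LD2_c53 LD3_c49) (LK LD1_c1 LD2_c54 LD3_c25) Lrfl Lrfl
def v727 : LQ := Led Lsl_gf (LP (LK LD1_c0 LD2_c49 LD3_c38))
theorem f456947 : Led Lsl_gf (LP (LK LD1_c0 LD2_c49 LD3_c38)) = v727 :=
  Lrfl
theorem f456948 : Led Lsl_ct (LP (LK LD1_c0 LD2_c53 LD3_c49)) = v727 :=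
  Lgr Lrot152 (Lpe (K24.f145417 IH) (Lpe (K6.f123369 IH) (Lpe (K24.f437663 IH) (Lpqs (K29.f456045 IH) (Lpe (K29.f450790 IH) (Lpr_gt (K24.f5928 IH) (Lpe (K0.f5896 IH) (Lpe (K28.f5925 IH) (Lpe (K29.f5927 IH) (Lpr_gf (f456947 IH) (Lpn v727)))))))))))
theorem f10114 : Led Lsl_bt (LP (LK LD1_c0 LD2_c22 LD3_c15)) = (LP (LK LD1_c0 LD2_c49 LD3_c27)) :=
  Lre_b IH (LK LD1_c0 LD2_c22 LD3_c15) (LK LD1_c0 LD2_c49 LD3_c27) Lrfl Lrfl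
theorem f456949 : Led Lsl_gt (LP (LK LD1_c3 LD2_c37 LD3_c31)) = (LP (LK LD1_c7 LD2_c15 LD3_c30)) :=
  Lre_g IH (LK LD1_c3 LD2_c37 LD3_c31) (LK LD1_c7 LD2_c15 LD3_c30) Lrfl Lrfl
theorem f487087 : Led Lsl_bt (LP (LK LD1_c3 LD2_c49 LD3_c16)) = (LP (LK LD1_c1 LD2_c51 LD3_c56)) :=
  Lre_b IH (LK LD1_c3 LD2_c49 LD3_c16) (LK LD1_c1 LD2_c51 LD3_c56) Lrfl Lrfl
theorem f487088 : Led Lsl_cf (LP (LK LD1_c7 LD2_c15 LD3_c30)) = (LP (LK LD1_c3 LD2_c49 LD3_c16)) :=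
  Lgr Lrot163 (Lpe (f456949 IH) (Lpe (K33.f97110 IH) (Lpe (K33.f97091 IH) (Lpe (f10114 IH) (Lpr_ct (K29.f5915 IH) (Lpr_gf (f456947 IH) (Lpe (f456948 IH) (Lpr_bt (f456950 IH) (Lpr_gf (K29.f487085 IH) (Lpe (f487087 IH) (Lpn (LP (LK LD1_c3 LD2_c49 LD3_c16)))))))))))))
theorem f487094 : Led Lsl_ct (LP (LK LD1_c7 LD2_c15 LD3_c30)) = (LP (LK LD1_c3 LD2_c49 LD3_c16)) :=
  Lgr Lrot59 (Lpr_cf (f487088 IH) (Lpn (LP (LK LD1_c3 LD2_c49 LD3_c16))))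
theorem f487090 : Led Lsl_bt (LP (LK LD1_c7 LD2_c15 LD3_c30)) = (LP (LK LD1_c13 LD2_c44 LD3_c7)) :=
  Lre_b IH (LK LD1_c7 LD2_c15 LD3_c30) (LK LD1_c13 LD2_c44 LD3_c7) Lrfl Lrfl
theorem f487098 : Led Lsl_gt (LP (LK LD1_c13 LD2_c44 LD3_c7)) = (LP (LK LD1_c23 LD2_c10 LD3_c49)) :=
  Lre_g IH (LK LD1_c13 LD2_c44 LD3_c7) (LK LD1_c23 LD2_c10 LD3_c49) Lrfl Lrfl
theorem f10863 : Led Lsl_bt (LP (LK LD1_c7 LD2_c13 LD3_c15)) = (LP (LK LD1_c3 LD2_c36 LD3_c27)) :=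
  Lre_b IH (LK LD1_c7 LD2_c13 LD3_c15) (LK LD1_c3 LD2_c36 LD3_c27) Lrfl Lrfl
theorem f10128 : Led Lsl_bt (LP (LK LD1_c1 LD2_c45 LD3_c40)) = (LP (LK LD1_c0 LD2_c49 LD3_c39)) :=
  Lre_b IH (LK LD1_c1 LD2_c45 LD3_c40) (LK LD1_c0 LD2_c49 LD3_c39) Lrfl Lrfl
theorem f10133 : Led Lsl_at (LP (LK LD1_c3 LD2_c36 LD3_c28)) = (LP (LK LD1_c1 LD2_c45 LD3_c40)) :=
  Lre_a IH (LK LD1_c3 LD2_c36 LD3_c28) (LK LD1_c1 LD2_c45 LD3_c40) Lrfl Lrfl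
theorem f10135 : Led Lsl_at (LP (LK LD1_c1 LD2_c45 LD3_c40)) = (LP (LK LD1_c3 LD2_c36 LD3_c28)) :=
  Lre_a IH (LK LD1_c1 LD2_c45 LD3_c40) (LK LD1_c3 LD2_c36 LD3_c28) Lrfl Lrfl
theorem f10136 : Led Lsl_bf (LP (LK LD1_c3 LD2_c36 LD3_c28)) = (LP (LK LD1_c3 LD2_c36 LD3_c28)) :=
  Lgr Lrot81 (Lpr_at (f10133 IH) (Lpr_bt (f10128 IH) (Lpr_at (K0.f10124 IH) (Lpr_bt (K29.f10134 IH) (Lpr_at (f10135 IH) (Lpn (LP (LK LD1_c3 LD2_c36 LD3_c28))))))))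
theorem f10841 : Led Lsl_ct (LP (LK LD1_c3 LD2_c36 LD3_c28)) = (LP (LK LD1_c7 LD2_c13 LD3_c17)) :=
  Lre_c IH (LK LD1_c3 LD2_c36 LD3_c28) (LK LD1_c7 LD2_c13 LD3_c17) Lrfl Lrfl
theorem f10842 : Led Lsl_bt (LP (LK LD1_c7 LD2_c13 LD3_c17)) = (LP (LK LD1_c13 LD2_c40 LD3_c12)) :=
  Lre_b IH (LK LD1_c7 LD2_c13 LD3_c17) (LK LD1_c13 LD2_c40 LD3_c12) Lrfl Lrfl
theorem f10844 : Led Lsl_bt (LP (LK LD1_c13 LD2_c40 LD3_c12)) = (LP (LK LD1_c7 LD2_c13 LD3_c17)) :=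
  Lre_b IH (LK LD1_c13 LD2_c40 LD3_c12) (LK LD1_c7 LD2_c13 LD3_c17) Lrfl Lrfl
theorem f10845 : Led Lsl_ct (LP (LK LD1_c13 LD2_c40 LD3_c12)) = (LP (LK LD1_c13 LD2_c40 LD3_c12)) :=
  Lgr Lrot83 (Lpe (f10842 IH) (Lpe (f10841 IH) (Lpr_bf (f10136 IH) (Lpe (K45.f10843 IH) (Lpe (f10844 IH) (Lpn (LP (LK LD1_c13 LD2_c40 LD3_c12))))))))
theorem f10855 : Led Lsl_ft (LP (LK LD1_c7 LD2_c13 LD3_c15)) = (LP (LK LD1_c13 LD2_c40 LD3_c12)) :=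
  Lre_f IH (LK LD1_c7 LD2_c13 LD3_c15) (LK LD1_c13 LD2_c40 LD3_c12) Lrfl Lrfl
theorem f10856 : Led Lsl_ft (LP (LK LD1_c13 LD2_c40 LD3_c12)) = (LP (LK LD1_c7 LD2_c13 LD3_c15)) :=
  Lre_f IH (LK LD1_c13 LD2_c40 LD3_c12) (LK LD1_c7 LD2_c13 LD3_c15) Lrfl Lrfl
theorem f10857 : Led Lsl_cf (LP (LK LD1_c7 LD2_c13 LD3_c15)) = (LP (LK LD1_c7 LD2_c13 LD3_c15)) :=
  Lgr Lrot108 (Lpr_ft (f10855 IH) (Lpr_ct (f10845 IH) (Lpr_ft (f10856 IH) (Lpn (LP (LK LD1_c7 LD2_c13 LD3_c15))))))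
theorem f10874 : Led Lsl_gt (LP (LK LD1_c13 LD2_c40 LD3_c10)) = (LP (LK LD1_c7 LD2_c13 LD3_c15)) :=
  Lre_g IH (LK LD1_c13 LD2_c40 LD3_c10) (LK LD1_c7 LD2_c13 LD3_c15) Lrfl Lrfl
theorem f10875 : Led Lsl_ct (LP (LK LD1_c23 LD2_c5 LD3_c43)) = (LP (LK LD1_c13 LD2_c40 LD3_c10)) :=
  Lre_c IH (LK LD1_c23 LD2_c5 LD3_c43) (LK LD1_c13 LD2_c40 LD3_c10) Lrfl Lrfl
theorem f660369 : Led Lsl_bf (LP (LK LD1_c23 LD2_c10 LD3_c49)) = (LP (LK LD1_c23 LD2_c5 LD3_c43)) :=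
  Lgr Lrot34 (Lpe (f487098 IH) (Lpe (f487090 IH) (Lpr_ct (f487094 IH) (Lpe (f526998 IH) (Lpr_cf (f660366 IH) (Lpe (f660359 IH) (Lpe (f10863 IH) (Lpe (f10857 IH) (Lpe (f10874 IH) (Lpe (f10875 IH) (Lpn (LP (LK LD1_c23 LD2_c5 LD3_c43)))))))))))))
theorem f660370 : Led Lsl_bt (LP (LK LD1_c23 LD2_c5 LD3_c43)) = (LP (LK LD1_c23 LD2_c10 LD3_c49)) :=
  Leop (Lpr_bf (f660369 IH) (Lpn (LP (LK LD1_c23 LD2_c5 LD3_c43))))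
theorem seed_426 : LEOK LG_b (LK LD1_c23 LD2_c5 LD3_c43) :=
  Leoe_b (LK LD1_c23 LD2_c5 LD3_c43) (f660370 IH)
def v7040 : LQ := Led Lsl_ct (LP (LK LD1_c3 LD2_c37 LD3_c30))
theorem f660500 : Led Lsl_ct (LP (LK LD1_c3 LD2_c37 LD3_c30)) = v7040 :=
  Lrfl
theorem f6594 : Led Lsl_bt (LP (LK LD1_c3 LD2_c37 LD3_c30)) = (LP (LK LD1_c1 LD2_c45 LD3_c37)) :=
  Lre_b IH (LK LD1_c3 LD2_c37 LD3_c30) (LK LD1_c1 LD2_c45 LD3_c37) Lrfl Lrfl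
theorem f10854 : Led Lsl_gt (LP (LK LD1_c7 LD2_c13 LD3_c17)) = (LP (LK LD1_c3 LD2_c37 LD3_c38)) :=
  Lre_g IH (LK LD1_c7 LD2_c13 LD3_c17) (LK LD1_c3 LD2_c37 LD3_c38) Lrfl Lrfl
theorem f84882 : Led Lsl_ct (LP (LK LD1_c1 LD2_c54 LD3_c3)) = (LP (LK LD1_c3 LD2_c54 LD3_c56)) :=
  Lre_c IH (LK LD1_c1 LD2_c54 LD3_c3) (LK LD1_c3 LD2_c54 LD3_c56) Lrfl Lrfl
theorem f660505 : Led Lsl_gt (LP (LK LD1_c3 LD2_c54 LD3_c56)) = v7040 :=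
  Lgr Lrot65 (Lpe (f84882 IH) (Lpe (K33.f145413 IH) (Lpe (K29.f437909 IH) (Lpr_bf (f467409 IH) (Lpe (K45.f487855 IH) (Lpe (f10854 IH) (Lpe (f10841 IH) (Lpe (f6593 IH) (Lpe (f6594 IH) (Lpr_ct (f660500 IH) (Lpn v7040)))))))))))
theorem f84878 : Led Lsl_bt (LP (LK LD1_c7 LD2_c51 LD3_c32)) = (LP (LK LD1_c3 LD2_c54 LD3_c56)) :=
  Lre_b IH (LK LD1_c7 LD2_c51 LD3_c32) (LK LD1_c3 LD2_c54 LD3_c56) Lrfl Lrfl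
theorem f84797 : Led Lsl_bt (LP (LK LD1_c0 LD2_c20 LD3_c41)) = (LP (LK LD1_c0 LD2_c46 LD3_c5)) :=
  Lre_b IH (LK LD1_c0 LD2_c20 LD3_c41) (LK LD1_c0 LD2_c46 LD3_c5) Lrfl Lrfl
theorem f84777 : Led Lsl_at (LP (LK LD1_c0 LD2_c46 LD3_c5)) = (LP (LK LD1_c1 LD2_c39 LD3_c15)) :=
  Lre_a IH (LK LD1_c0 LD2_c46 LD3_c5) (LK LD1_c1 LD2_c39 LD3_c15) Lrfl Lrfl
theorem f145424 : Led Lsl_bt (LP (LK LD1_c1 LD2_c39 LD3_c15)) = (LP (LK LD1_c1 LD2_c39 LD3_c15)) :=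
  Lgr Lrot62 (Lpe (f84777 IH) (Lpe (f84797 IH) (Lpr_af (K6.f145415 IH) (Lpe (K6.f12171 IH) (Lpe (K5.f84793 IH) (Lpn (LP (LK LD1_c1 LD2_c39 LD3_c15))))))))
theorem f84883 : Led Lsl_ct (LP (LK LD1_c3 LD2_c25 LD3_c18)) = (LP (LK LD1_c1 LD2_c39 LD3_c15)) :=
  Lre_c IH (LK LD1_c3 LD2_c25 LD3_c18) (LK LD1_c1 LD2_c39 LD3_c15) Lrfl Lrfl
theorem f84865 : Led Lsl_bt (LP (LK LD1_c6 LD2_c52 LD3_c49)) = (LP (LK LD1_c3 LD2_c25 LD3_c18)) :=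
  Lre_b IH (LK LD1_c6 LD2_c52 LD3_c49) (LK LD1_c3 LD2_c25 LD3_c18) Lrfl Lrfl
theorem f84879 : Led Lsl_bt (LP (LK LD1_c3 LD2_c25 LD3_c18)) = (LP (LK LD1_c6 LD2_c52 LD3_c49)) :=
  Lre_b IH (LK LD1_c3 LD2_c25 LD3_c18) (LK LD1_c6 LD2_c52 LD3_c49) Lrfl Lrfl
theorem f437605 : Led Lsl_cf (LP (LK LD1_c6 LD2_c52 LD3_c49)) = (LP (LK LD1_c6 LD2_c52 LD3_c49)) :=
  Lgr Lrot97 (Lpr_bt (f84865 IH) (Lpr_ct (f84883 IH) (Lpr_bt (f145424 IH) (Lpr_ct (K11.f84869 IH) (Lpr_bt (f84879 IH) (Lpn (LP (LK LD1_c6 LD2_c52 LD3_c49))))))))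
theorem f12172 : Led Lsl_ct (LP (LK LD1_c1 LD2_c39 LD3_c17)) = (LP (LK LD1_c0 LD2_c46 LD3_c5)) :=
  Lre_c IH (LK LD1_c1 LD2_c39 LD3_c17) (LK LD1_c0 LD2_c46 LD3_c5) Lrfl Lrfl
theorem f84799 : Led Lsl_et (LP (LK LD1_c1 LD2_c54 LD3_c22)) = (LP (LK LD1_c1 LD2_c39 LD3_c17)) :=
  Lgr Lrot158 (Lpe (K29.f84798 IH) (Lpr_ef (K5.f84786 IH) (Lpe (f12172 IH) (Lpn (LP (LK LD1_c1 LD2_c39 LD3_c17))))))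
theorem f84806 : Led Lsl_at (LP (LK LD1_c3 LD2_c54 LD3_c56)) = (LP (LK LD1_c1 LD2_c54 LD3_c22)) :=
  Lre_a IH (LK LD1_c3 LD2_c54 LD3_c56) (LK LD1_c1 LD2_c54 LD3_c22) Lrfl Lrfl
theorem f84807 : Led Lsl_at (LP (LK LD1_c1 LD2_c39 LD3_c17)) = (LP (LK LD1_c3 LD2_c25 LD3_c18)) :=
  Lre_a IH (LK LD1_c1 LD2_c39 LD3_c17) (LK LD1_c3 LD2_c25 LD3_c18) Lrfl Lrfl
theorem f84808 : Led Lsl_ef (LP (LK LD1_c3 LD2_c54 LD3_c56)) = (LP (LK LD1_c3 LD2_c25 LD3_c18)) :=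
  Lgr Lrot20 (Lpr_at (f84806 IH) (Lpr_et (f84799 IH) (Lpr_at (f84807 IH) (Lpn (LP (LK LD1_c3 LD2_c25 LD3_c18))))))
theorem f84872 : Led Lsl_et (LP (LK LD1_c3 LD2_c54 LD3_c56)) = (LP (LK LD1_c3 LD2_c25 LD3_c18)) :=
  Lgr Lrot87 (Lpr_ef (f84808 IH) (Lpn (LP (LK LD1_c3 LD2_c25 LD3_c18))))
theorem f84880 : Led Lsl_ef (LP (LK LD1_c7 LD2_c51 LD3_c32)) = (LP (LK LD1_c6 LD2_c52 LD3_c49)) :=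
  Lgr Lrot29 (Lpr_bt (f84878 IH) (Lpr_et (f84872 IH) (Lpr_bt (f84879 IH) (Lpn (LP (LK LD1_c6 LD2_c52 LD3_c49))))))
theorem f84864 : Led Lsl_bt (LP (LK LD1_c3 LD2_c54 LD3_c56)) = (LP (LK LD1_c7 LD2_c51 LD3_c32)) :=
  Lre_b IH (LK LD1_c3 LD2_c54 LD3_c56) (LK LD1_c7 LD2_c51 LD3_c32) Lrfl Lrfl
theorem f84866 : Led Lsl_et (LP (LK LD1_c7 LD2_c51 LD3_c32)) = (LP (LK LD1_c6 LD2_c52 LD3_c49)) :=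
  Lgr Lrot74 (Lpe (f84864 IH) (Lpr_ef (f84808 IH) (Lpe (f84865 IH) (Lpn (LP (LK LD1_c6 LD2_c52 LD3_c49))))))
theorem f437607 : Led Lsl_ct (LP (LK LD1_c7 LD2_c51 LD3_c32)) = (LP (LK LD1_c7 LD2_c51 LD3_c32)) :=
  Lgr Lrot15 (Lpr_ef (f84880 IH) (Lpr_cf (f437605 IH) (Lpe (f84866 IH) (Lpn (LP (LK LD1_c7 LD2_c51 LD3_c32))))))
theorem f84890 : Led Lsl_gt (LP (LK LD1_c14 LD2_c49 LD3_c29)) = (LP (LK LD1_c7 LD2_c51 LD3_c32)) :=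
  Lre_g IH (LK LD1_c14 LD2_c49 LD3_c29) (LK LD1_c7 LD2_c51 LD3_c32) Lrfl Lrfl
theorem f437611 : Led Lsl_ct (LP (LK LD1_c24 LD2_c35 LD3_c51)) = (LP (LK LD1_c14 LD2_c49 LD3_c29)) :=
  Lre_c IH (LK LD1_c24 LD2_c35 LD3_c51) (LK LD1_c14 LD2_c49 LD3_c29) Lrfl Lrfl
theorem f660502 : Led Lsl_cf (LP (LK LD1_c3 LD2_c37 LD3_c30)) = v7040 :=
  Lgr Lrot11 (Lpr_ct (f660500 IH) (Lpn v7040))
theorem f517741 : Led Lsl_at (LP (LK LD1_c6 LD2_c55 LD3_c19)) = (LP (LK LD1_c13 LD2_c8 LD3_c45)) :=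
  Lgr Lrot51 (Lpr_df (K29.f478281 IH) (Lpe (f478284 IH) (Lpr_df (f517739 IH) (Lpn (LP (LK LD1_c13 LD2_c8 LD3_c45))))))
theorem f517231 : Led Lsl_ff (LP (LK LD1_c1 LD2_c45 LD3_c37)) = (LP (LK LD1_c3 LD2_c36 LD3_c26)) :=
  Lgr Lrot19 (Lpr_dt (K33.f97092 IH) (Lpr_ft (f517226 IH) (Lpr_dt (K3.f97294 IH) (Lpn (LP (LK LD1_c3 LD2_c36 LD3_c26))))))
theorem f487099 : Led Lsl_bt (LP (LK LD1_c1 LD2_c45 LD3_c37)) = (LP (LK LD1_c3 LD2_c37 LD3_c30)) :=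
  Lre_b IH (LK LD1_c1 LD2_c45 LD3_c37) (LK LD1_c3 LD2_c37 LD3_c30) Lrfl Lrfl
theorem f517257 : Led Lsl_ft (LP (LK LD1_c3 LD2_c37 LD3_c30)) = (LP (LK LD1_c6 LD2_c55 LD3_c19)) :=
  Lgr Lrot75 (Lpe (f487099 IH) (Lpr_ff (f517231 IH) (Lpe (K29.f478275 IH) (Lpn (LP (LK LD1_c6 LD2_c55 LD3_c19))))))
theorem f517758 : Led Lsl_gt (LP (LK LD1_c3 LD2_c37 LD3_c30)) = (LP (LK LD1_c6 LD2_c55 LD3_c21)) :=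
  Lgr Lrot5 (Lpr_ft (f517257 IH) (Lpr_at (f517741 IH) (Lpe (f480270 IH) (Lpn (LP (LK LD1_c6 LD2_c55 LD3_c21))))))
theorem f487420 : Led Lsl_bt (LP (LK LD1_c7 LD2_c52 LD3_c49)) = (LP (LK LD1_c14 LD2_c51 LD3_c58)) :=
  Lre_b IH (LK LD1_c7 LD2_c52 LD3_c49) (LK LD1_c14 LD2_c51 LD3_c58) Lrfl Lrfl
theorem f487421 : Led Lsl_gt (LP (LK LD1_c14 LD2_c51 LD3_c58)) = (LP (LK LD1_c24 LD2_c38 LD3_c32)) :=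
  Lre_g IH (LK LD1_c14 LD2_c51 LD3_c58) (LK LD1_c24 LD2_c38 LD3_c32) Lrfl Lrfl
theorem f660508 : Led Lsl_bt (LP (LK LD1_c24 LD2_c35 LD3_c51)) = (LP (LK LD1_c24 LD2_c38 LD3_c32)) :=
  Lgr Lrot92 (Lpr_ct (f437611 IH) (Lpr_gt (f84890 IH) (Lpe (f437607 IH) (Lpr_bt (f84878 IH) (Lpr_gt (f660505 IH) (Lpe (f660502 IH) (Lpr_gt (f517758 IH) (Lpr_cf (K29.f487407 IH) (Lpr_bt (f487420 IH) (Lpr_gt (f487421 IH) (Lpn (LP (LK LD1_c24 LD2_c38 LD3_c32)))))))))))))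
theorem f660509 : Led Lsl_bt (LP (LK LD1_c24 LD2_c35 LD3_c51)) = (LP (LK LD1_c24 LD2_c38 LD3_c32)) :=
  Leop (Lpe (f660508 IH) (Lpn (LP (LK LD1_c24 LD2_c35 LD3_c51))))
theorem seed_427 : LEOK LG_b (LK LD1_c24 LD2_c35 LD3_c51) :=
  Leoe_b (LK LD1_c24 LD2_c35 LD3_c51) (f660509 IH)
def v7043 : LQ := Led Lsl_at (LP (LK LD1_c3 LD2_c37 LD3_c31))
theorem f660519 : Led Lsl_at (LP (LK LD1_c3 LD2_c37 LD3_c31)) = v7043 :=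
  Lrfl
theorem f517235 : Led Lsl_at (LP (LK LD1_c1 LD2_c45 LD3_c38)) = (LP (LK LD1_c3 LD2_c36 LD3_c26)) :=
  Lgr Lrot51 (Lpe (K2.f10815 IH) (Lpr_af (f517233 IH) (Lpr_df (K28.f97300 IH) (Lpn (LP (LK LD1_c3 LD2_c36 LD3_c26))))))
theorem f456863 : Led Lsl_ct (LP (LK LD1_c3 LD2_c37 LD3_c34)) = (LP (LK LD1_c1 LD2_c45 LD3_c38)) :=
  Lre_c IH (LK LD1_c3 LD2_c37 LD3_c34) (LK LD1_c1 LD2_c45 LD3_c38) Lrfl Lrfl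
theorem f517239 : Led Lsl_af (LP (LK LD1_c3 LD2_c37 LD3_c34)) = (LP (LK LD1_c7 LD2_c13 LD3_c13)) :=
  Lgr Lrot68 (Lpr_ct (f456863 IH) (Lpr_at (f517235 IH) (Lpr_ct (K29.f97299 IH) (Lpn (LP (LK LD1_c7 LD2_c13 LD3_c13))))))
theorem f517244 : Led Lsl_ft (LP (LK LD1_c3 LD2_c37 LD3_c31)) = (LP (LK LD1_c7 LD2_c13 LD3_c13)) :=
  Lgr Lrot142 (Lpr_dt (K33.f97111 IH) (Lpr_ct (K33.f517189 IH) (Lpr_dt (K33.f481209 IH) (Lpr_ct (K33.f481260 IH) (Lpe (K29.f481205 IH) (Lpr_ct (K33.f92505 IH) (Lpr_dt (K2.f10815 IH) (Lpr_ct (K33.f10852 IH) (Lpr_af (f517239 IH) (Lpn (LP (LK LD1_c7 LD2_c13 LD3_c13))))))))))))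
theorem f517248 : Led Lsl_ff (LP (LK LD1_c3 LD2_c37 LD3_c31)) = (LP (LK LD1_c7 LD2_c13 LD3_c13)) :=
  Lgr Lrot3 (Lpr_ft (f517244 IH) (Lpn (LP (LK LD1_c7 LD2_c13 LD3_c13))))
theorem f517241 : Led Lsl_at (LP (LK LD1_c3 LD2_c37 LD3_c34)) = (LP (LK LD1_c7 LD2_c13 LD3_c13)) :=
  Lgr Lrot100 (Lpr_af (f517239 IH) (Lpn (LP (LK LD1_c7 LD2_c13 LD3_c13))))
theorem f660522 : Led Lsl_ff (LP (LK LD1_c3 LD2_c37 LD3_c34)) = v7043 :=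
  Lgr Lrot30 (Lpr_at (f517241 IH) (Lpe (f517248 IH) (Lpr_at (f660519 IH) (Lpn v7043))))
theorem f660526 : Led Lsl_ft (LP (LK LD1_c3 LD2_c37 LD3_c34)) = v7043 :=
  Lgr Lrot48 (Lpr_ff (f660522 IH) (Lpn v7043))
theorem f660520 : Led Lsl_af (LP (LK LD1_c3 LD2_c37 LD3_c31)) = v7043 :=
  Lgr Lrot0 (Lpr_at (f660519 IH) (Lpn v7043))
def v7042 : LQ := Led Lsl_gf (LP (LK LD1_c3 LD2_c37 LD3_c31))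
theorem f660518 : Led Lsl_gf (LP (LK LD1_c3 LD2_c37 LD3_c31)) = v7042 :=
  Lrfl
theorem f660527 : Led Lsl_gt (LP (LK LD1_c3 LD2_c37 LD3_c34)) = v7042 :=
  Lgr Lrot5 (Lpr_ft (f660526 IH) (Lpe (f660520 IH) (Lpr_gf (f660518 IH) (Lpn v7042))))
theorem f660529 : Led Lsl_cf (LP (LK LD1_c3 LD2_c49 LD3_c2)) = v7042 :=
  Lgr Lrot99 (Lpe (K3.f87144 IH) (Lpe (K29.f98003 IH) (Lpr_gf (K29.f97089 IH) (Lpe (K29.f10840 IH) (Lpe (K29.f6618 IH) (Lpe (f6592 IH) (Lpr_gt (K2.f10814 IH) (Lpr_ct (K33.f10852 IH) (Lpr_gt (f660527 IH) (Lpn v7042))))))))))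
theorem f660530 : Led Lsl_ct (LP (LK LD1_c3 LD2_c49 LD3_c2)) = v7042 :=
  Lgr Lrot59 (Lpr_cf (f660529 IH) (Lpn v7042))
theorem f97120 : Led Lsl_ct (LP (LK LD1_c3 LD2_c37 LD3_c31)) = (LP (LK LD1_c1 LD2_c45 LD3_c37)) :=
  Lre_c IH (LK LD1_c3 LD2_c37 LD3_c31) (LK LD1_c1 LD2_c45 LD3_c37) Lrfl Lrfl
theorem f108398 : Led Lsl_dt (LP (LK LD1_c3 LD2_c32 LD3_c22)) = (LP (LK LD1_c7 LD2_c5 LD3_c46)) :=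
  Lre_d IH (LK LD1_c3 LD2_c32 LD3_c22) (LK LD1_c7 LD2_c5 LD3_c46) Lrfl Lrfl
theorem f464569 : Led Lsl_et (LP (LK LD1_c3 LD2_c32 LD3_c22)) = (LP (LK LD1_c7 LD2_c5 LD3_c47)) :=
  Lre_e IH (LK LD1_c3 LD2_c32 LD3_c22) (LK LD1_c7 LD2_c5 LD3_c47) Lrfl Lrfl
theorem f477974 : Led Lsl_ff (LP (LK LD1_c3 LD2_c37 LD3_c18)) = (LP (LK LD1_c1 LD2_c51 LD3_c36)) :=
  Lgr Lrot3 (Lpr_ft (K29.f477960 IH) (Lpn (LP (LK LD1_c1 LD2_c51 LD3_c36))))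
theorem f486617 : Led Lsl_et (LP (LK LD1_c3 LD2_c37 LD3_c18)) = (LP (LK LD1_c3 LD2_c34 LD3_c4)) :=
  Lgr Lrot69 (Lpr_ff (f477974 IH) (Lpe (K29.f11644 IH) (Lpr_ff (K3.f88502 IH) (Lpe (K29.f88489 IH) (Lpr_ff (K34.f486609 IH) (Lpn (LP (LK LD1_c3 LD2_c34 LD3_c4))))))))
theorem f481403 : Led Lsl_gf (LP (LK LD1_c7 LD2_c15 LD3_c9)) = (LP (LK LD1_c13 LD2_c40 LD3_c31)) :=
  Lgr Lrot76 (Lpr_af (K33.f481198 IH) (Lpr_ff (K28.f467966 IH) (Lpr_gt (K33.f97039 IH) (Lpn (LP (LK LD1_c13 LD2_c40 LD3_c31))))))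
theorem f97112 : Led Lsl_df (LP (LK LD1_c13 LD2_c40 LD3_c31)) = (LP (LK LD1_c7 LD2_c15 LD3_c33)) :=
  Lgr Lrot38 (Lpr_dt (K33.f97094 IH) (Lpn (LP (LK LD1_c7 LD2_c15 LD3_c33))))
theorem f514181 : Led Lsl_gt (LP (LK LD1_c7 LD2_c5 LD3_c47)) = (LP (LK LD1_c7 LD2_c15 LD3_c33)) :=
  Lgr Lrot137 (Lpe (f464569 IH) (Lpr_dt (f108398 IH) (Lpr_gf (K41.f514176 IH) (Lpe (K34.f466653 IH) (Lpr_et (K34.f466652 IH) (Lpr_gf (K34.f486621 IH) (Lpe (f486617 IH) (Lpr_dt (K29.f477958 IH) (Lpr_gf (f481403 IH) (Lpr_df (f97112 IH) (Lpn (LP (LK LD1_c7 LD2_c15 LD3_c33)))))))))))))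
theorem f121768 : Led Lsl_et (LP (LK LD1_c7 LD2_c12 LD3_c29)) = (LP (LK LD1_c3 LD2_c36 LD3_c0)) :=
  Lre_e IH (LK LD1_c7 LD2_c12 LD3_c29) (LK LD1_c3 LD2_c36 LD3_c0) Lrfl Lrfl
theorem f464570 : Led Lsl_cf (LP (LK LD1_c7 LD2_c12 LD3_c29)) = (LP (LK LD1_c7 LD2_c5 LD3_c47)) :=
  Lgr Lrot39 (Lpr_et (f121768 IH) (Lpr_ct (K28.f464562 IH) (Lpr_et (f464569 IH) (Lpn (LP (LK LD1_c7 LD2_c5 LD3_c47))))))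
theorem f489652 : Led Lsl_ct (LP (LK LD1_c7 LD2_c12 LD3_c29)) = (LP (LK LD1_c7 LD2_c5 LD3_c47)) :=
  Lgr Lrot59 (Lpr_cf (f464570 IH) (Lpn (LP (LK LD1_c7 LD2_c5 LD3_c47))))
theorem f660534 : Led Lsl_gt (LP (LK LD1_c7 LD2_c0 LD3_c47)) = (LP (LK LD1_c7 LD2_c12 LD3_c29)) :=
  Lgr Lrot9 (Lpr_df (K29.f107240 IH) (Lpr_gt (K29.f87141 IH) (Lpr_ct (f660530 IH) (Lpe (f660518 IH) (Lpr_ct (f97120 IH) (Lpe (K33.f10811 IH) (Lpe (K33.f97093 IH) (Lpe (f514181 IH) (Lpe (f489652 IH) (Lpn (LP (LK LD1_c7 LD2_c12 LD3_c29))))))))))))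
theorem f660535 : Led Lsl_gt (LP (LK LD1_c7 LD2_c0 LD3_c47)) = (LP (LK LD1_c7 LD2_c12 LD3_c29)) :=
  Leop (Lpe (f660534 IH) (Lpn (LP (LK LD1_c7 LD2_c0 LD3_c47))))
theorem seed_428 : LEOK LG_g (LK LD1_c7 LD2_c0 LD3_c47) :=
  Leoe_g (LK LD1_c7 LD2_c0 LD3_c47) (f660535 IH)
def v7052 : LQ := Led Lsl_gt (LP (LK LD1_c3 LD2_c37 LD3_c42))
theorem f660587 : Led Lsl_gt (LP (LK LD1_c3 LD2_c37 LD3_c42)) = v7052 :=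
  Lrfl
theorem f94367 : Led Lsl_et (LP (LK LD1_c1 LD2_c45 LD3_c41)) = (LP (LK LD1_c3 LD2_c37 LD3_c42)) :=
  Lre_e IH (LK LD1_c1 LD2_c45 LD3_c41) (LK LD1_c3 LD2_c37 LD3_c42) Lrfl Lrfl
theorem f106771 : Led Lsl_df (LP (LK LD1_c1 LD2_c46 LD3_c35)) = (LP (LK LD1_c3 LD2_c37 LD3_c42)) :=
  Lgr Lrot70 (Lpr_et (K28.f12395 IH) (Lpr_dt (K2.f5245 IH) (Lpr_et (K3.f106766 IH) (Lpr_dt (K3.f94363 IH) (Lpr_et (f94367 IH) (Lpn (LP (LK LD1_c3 LD2_c37 LD3_c42))))))))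
theorem f107972 : Led Lsl_ct (LP (LK LD1_c7 LD2_c10 LD3_c17)) = (LP (LK LD1_c3 LD2_c34 LD3_c36)) :=
  Lre_c IH (LK LD1_c7 LD2_c10 LD3_c17) (LK LD1_c3 LD2_c34 LD3_c36) Lrfl Lrfl
theorem f660588 : Led Lsl_cf (LP (LK LD1_c7 LD2_c7 LD3_c25)) = v7052 :=
  Lgr Lrot169 (Lpr_gt (f659271 IH) (Lpr_ct (f107972 IH) (Lpr_df (K29.f107975 IH) (Lpe (K28.f17340 IH) (Lpr_gf (K8.f160225 IH) (Lpe (K29.f472123 IH) (Lpe (K29.f12400 IH) (Lpr_df (f106771 IH) (Lpr_gt (f660587 IH) (Lpn v7052))))))))))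
def v2601 : LQ := Led Lsl_gt (LP (LK LD1_c1 LD2_c49 LD3_c23))
theorem f527717 : Led Lsl_gt (LP (LK LD1_c1 LD2_c49 LD3_c23)) = v2601 :=
  Lrfl
theorem f129752 : Led Lsl_ft (LP (LK LD1_c1 LD2_c53 LD3_c16)) = (LP (LK LD1_c0 LD2_c53 LD3_c16)) :=
  Lre_f IH (LK LD1_c1 LD2_c53 LD3_c16) (LK LD1_c0 LD2_c53 LD3_c16) Lrfl Lrfl
theorem f11143 : Led Lsl_at (LP (LK LD1_c0 LD2_c53 LD3_c16)) = (LP (LK LD1_c1 LD2_c49 LD3_c23)) :=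
  Lre_a IH (LK LD1_c0 LD2_c53 LD3_c16) (LK LD1_c1 LD2_c49 LD3_c23) Lrfl Lrfl
theorem f129753 : Led Lsl_gt (LP (LK LD1_c3 LD2_c30 LD3_c48)) = (LP (LK LD1_c1 LD2_c49 LD3_c23)) :=
  Lgr Lrot46 (Lpr_gf (K30.f129672 IH) (Lpr_ft (f129752 IH) (Lpr_at (f11143 IH) (Lpn (LP (LK LD1_c1 LD2_c49 LD3_c23))))))
theorem f527718 : Led Lsl_at (LP (LK LD1_c1 LD2_c53 LD3_c22)) = v2601 :=
  Lgr Lrot26 (Lpe (K34.f513927 IH) (Lpr_gt (f129753 IH) (Lpr_gt (f527717 IH) (Lpn v2601))))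
theorem f527720 : Led Lsl_ff K46.v876 = v2601 :=
  Lgr Lrot30 (Lpe (K46.f513678 IH) (Lpr_ft (K34.f513927 IH) (Lpr_at (f527718 IH) (Lpn v2601))))
theorem f527722 : Led Lsl_gf (LP (LK LD1_c1 LD2_c53 LD3_c16)) = v2601 :=
  Lgr Lrot47 (Lpe (K30.f129672 IH) (Lpr_af (K46.f513678 IH) (Lpr_ff (f527720 IH) (Lpn v2601))))
theorem f660591 : Led Lsl_bf v2601 = v7052 :=
  Lgr Lrot156 (Lpe (f527722 IH) (Lpr_bf (K30.f451379 IH) (Lpr_ct (K29.f491421 IH) (Lpe (K29.f491425 IH) (Lpe (K29.f491335 IH) (Lpr_bt (K29.f491329 IH) (Lpe (K29.f491334 IH) (Lpr_ct (K3.f107605 IH) (Lpr_gt (f107628 IH) (Lpr_cf (f660588 IH) (Lpn v7052)))))))))))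
def v3480 : LQ := Led Lsl_bt K46.v876
theorem f625840 : Led Lsl_bt K46.v876 = v3480 :=
  Lrfl
theorem f660594 : Led Lsl_ft v3480 = v7052 :=
  Lgr Lrot75 (Lpe (f625840 IH) (Lpr_ff (f527720 IH) (Lpr_bf (f660591 IH) (Lpn v7052))))
theorem f463855 : Led Lsl_bt (LP (LK LD1_c7 LD2_c0 LD3_c6)) = (LP (LK LD1_c3 LD2_c29 LD3_c13)) :=
  Lre_b IH (LK LD1_c7 LD2_c0 LD3_c6) (LK LD1_c3 LD2_c29 LD3_c13) Lrfl Lrfl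
theorem f625842 : Led Lsl_df (LP (LK LD1_c7 LD2_c0 LD3_c6)) = v3480 :=
  Lgr Lrot12 (Lpr_bt (f463855 IH) (Lpr_dt (K46.f490200 IH) (Lpr_bt (f625840 IH) (Lpn v3480))))
theorem f625843 : Led Lsl_dt (LP (LK LD1_c7 LD2_c0 LD3_c6)) = v3480 :=
  Lgr Lrot42 (Lpr_df (f625842 IH) (Lpn v3480))
theorem f97356 : Led Lsl_et (LP (LK LD1_c1 LD2_c46 LD3_c0)) = (LP (LK LD1_c0 LD2_c49 LD3_c44)) :=
  Lre_e IH (LK LD1_c1 LD2_c46 LD3_c0) (LK LD1_c0 LD2_c49 LD3_c44) Lrfl Lrfl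
theorem f625844 : Led Lsl_gf (LP (LK LD1_c3 LD2_c38 LD3_c7)) = v3480 :=
  Lgr Lrot145 (Lpe (K35.f86827 IH) (Lpr_et (f97356 IH) (Lpe (K3.f97909 IH) (Lpe (K3.f87136 IH) (Lpe (K2.f84689 IH) (Lpe (K2.f10783 IH) (Lpr_et (K28.f84699 IH) (Lpr_gt (K28.f468101 IH) (Lpe (K34.f463852 IH) (Lpr_dt (f625843 IH) (Lpn v3480)))))))))))
theorem f660597 : Led Lsl_af (LP (LK LD1_c7 LD2_c16 LD3_c38)) = v7052 :=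
  Lgr Lrot31 (Lpe (f86842 IH) (Lpr_gf (f625844 IH) (Lpr_ft (f660594 IH) (Lpn v7052))))
theorem f660590 : Led Lsl_ct (LP (LK LD1_c7 LD2_c7 LD3_c25)) = v7052 :=
  Lgr Lrot59 (Lpr_cf (f660588 IH) (Lpn v7052))
theorem f660598 : Led Lsl_at (LP (LK LD1_c7 LD2_c10 LD3_c15)) = (LP (LK LD1_c7 LD2_c7 LD3_c25)) :=
  Lgr Lrot107 (Lpr_cf (f659278 IH) (Lpr_af (f660597 IH) (Lpe (f660590 IH) (Lpn (LP (LK LD1_c7 LD2_c7 LD3_c25))))))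
theorem f660599 : Led Lsl_at (LP (LK LD1_c7 LD2_c10 LD3_c15)) = (LP (LK LD1_c7 LD2_c7 LD3_c25)) :=
  Leop (Lpe (f660598 IH) (Lpn (LP (LK LD1_c7 LD2_c10 LD3_c15))))
theorem seed_429 : LEOK LG_a (LK LD1_c7 LD2_c10 LD3_c15) :=
  Leoe_a (LK LD1_c7 LD2_c10 LD3_c15) (f660599 IH)
def v7089 : LQ := Led Lsl_ct (LP (LK LD1_c3 LD2_c38 LD3_c38))
theorem f660817 : Led Lsl_ct (LP (LK LD1_c3 LD2_c38 LD3_c38)) = v7089 :=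
  Lrfl
theorem f660820 : Led Lsl_cf (LP (LK LD1_c3 LD2_c38 LD3_c38)) = v7089 :=
  Lgr Lrot11 (Lpr_ct (f660817 IH) (Lpn v7089))
theorem f609425 : Led Lsl_ct (LP (LK LD1_c13 LD2_c47 LD3_c49)) = (LP (LK LD1_c7 LD2_c17 LD3_c36)) :=
  Lre_c IH (LK LD1_c13 LD2_c47 LD3_c49) (LK LD1_c7 LD2_c17 LD3_c36) Lrfl Lrfl
theorem f609549 : Led Lsl_bt (LP (LK LD1_c7 LD2_c33 LD3_c49)) = (LP (LK LD1_c13 LD2_c18 LD3_c6)) :=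
  Lgr Lrot127 (Lpr_bf (f609547 IH) (Lpn (LP (LK LD1_c13 LD2_c18 LD3_c6))))
theorem f609551 : Led Lsl_ct (LP (LK LD1_c7 LD2_c33 LD3_c49)) = (LP (LK LD1_c14 LD2_c15 LD3_c43)) :=
  Lre_c IH (LK LD1_c7 LD2_c33 LD3_c49) (LK LD1_c14 LD2_c15 LD3_c43) Lrfl Lrfl
theorem f109571 : Led Lsl_bt (LP (LK LD1_c3 LD2_c29 LD3_c33)) = (LP (LK LD1_c7 LD2_c0 LD3_c44)) :=
  Lre_b IH (LK LD1_c3 LD2_c29 LD3_c33) (LK LD1_c7 LD2_c0 LD3_c44) Lrfl Lrfl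
theorem f487406 : Led Lsl_ct (LP (LK LD1_c7 LD2_c17 LD3_c36)) = (LP (LK LD1_c13 LD2_c47 LD3_c49)) :=
  Lre_c IH (LK LD1_c7 LD2_c17 LD3_c36) (LK LD1_c13 LD2_c47 LD3_c49) Lrfl Lrfl
theorem f610235 : Led Lsl_gf (LP (LK LD1_c14 LD2_c15 LD3_c43)) = (LP (LK LD1_c13 LD2_c47 LD3_c49)) :=
  Lgr Lrot129 (Lpe (f609551 IH) (Lpr_bt (f609549 IH) (Lpr_gt (f482933 IH) (Lpe (f109571 IH) (Lpr_ct (K29.f440660 IH) (Lpr_gt (K29.f107236 IH) (Lpr_cf (K35.f481452 IH) (Lpr_bt (f481451 IH) (Lpr_gt (f442083 IH) (Lpr_ct (f487406 IH) (Lpn (LP (LK LD1_c13 LD2_c47 LD3_c49)))))))))))))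
theorem f523413 : Led Lsl_ct (LP (LK LD1_c14 LD2_c15 LD3_c43)) = (LP (LK LD1_c7 LD2_c33 LD3_c49)) :=
  Lre_c IH (LK LD1_c14 LD2_c15 LD3_c43) (LK LD1_c7 LD2_c33 LD3_c49) Lrfl Lrfl
theorem f493764 : Led Lsl_ct (LP (LK LD1_c1 LD2_c50 LD3_c28)) = (LP (LK LD1_c3 LD2_c46 LD3_c23)) :=
  Lre_c IH (LK LD1_c1 LD2_c50 LD3_c28) (LK LD1_c3 LD2_c46 LD3_c23) Lrfl Lrfl
theorem f120572 : Led Lsl_bt (LP (LK LD1_c1 LD2_c50 LD3_c28)) = (LP (LK LD1_c0 LD2_c52 LD3_c9)) :=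
  Lre_b IH (LK LD1_c1 LD2_c50 LD3_c28) (LK LD1_c0 LD2_c52 LD3_c9) Lrfl Lrfl
theorem f485508 : Led Lsl_gt (LP (LK LD1_c3 LD2_c44 LD3_c16)) = (LP (LK LD1_c7 LD2_c29 LD3_c31)) :=
  Lre_g IH (LK LD1_c3 LD2_c44 LD3_c16) (LK LD1_c7 LD2_c29 LD3_c31) Lrfl Lrfl
theorem f523106 : Led Lsl_ct (LP (LK LD1_c14 LD2_c8 LD3_c49)) = (LP (LK LD1_c7 LD2_c29 LD3_c31)) :=
  Lre_c IH (LK LD1_c14 LD2_c8 LD3_c49) (LK LD1_c7 LD2_c29 LD3_c31) Lrfl Lrfl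
theorem f610239 : Led Lsl_bt (LP (LK LD1_c14 LD2_c8 LD3_c49)) = (LP (LK LD1_c13 LD2_c47 LD3_c49)) :=
  Lgr Lrot130 (Lpr_ct (f523106 IH) (Lpe (f485508 IH) (Lpr_cf (f523079 IH) (Lpr_bt (f511968 IH) (Lpe (K33.f88377 IH) (Lpe (f120572 IH) (Lpr_ct (f493764 IH) (Lpe (f502725 IH) (Lpe (f523413 IH) (Lpr_gf (f610235 IH) (Lpn (LP (LK LD1_c13 LD2_c47 LD3_c49)))))))))))))
theorem f610242 : Led Lsl_bf (LP (LK LD1_c14 LD2_c8 LD3_c49)) = (LP (LK LD1_c13 LD2_c47 LD3_c49)) :=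
  Lgr Lrot24 (Lpr_bt (f610239 IH) (Lpn (LP (LK LD1_c13 LD2_c47 LD3_c49))))
theorem f609435 : Led Lsl_ft (LP (LK LD1_c13 LD2_c47 LD3_c49)) = (LP (LK LD1_c13 LD2_c50 LD3_c19)) :=
  Lgr Lrot4 (Lpe (f487406 IH) (Lpr_ff (f609431 IH) (Lpe (f155609 IH) (Lpn (LP (LK LD1_c13 LD2_c50 LD3_c19))))))
theorem f610248 : Led Lsl_ff (LP (LK LD1_c14 LD2_c8 LD3_c49)) = (LP (LK LD1_c13 LD2_c57 LD3_c1)) :=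
  Lgr Lrot25 (Lpr_bt (f610239 IH) (Lpr_ft (f609435 IH) (Lpe (K46.f155607 IH) (Lpn (LP (LK LD1_c13 LD2_c57 LD3_c1))))))
theorem f610257 : Led Lsl_ft (LP (LK LD1_c14 LD2_c8 LD3_c49)) = (LP (LK LD1_c13 LD2_c57 LD3_c1)) :=
  Lgr Lrot48 (Lpr_ff (f610248 IH) (Lpn (LP (LK LD1_c13 LD2_c57 LD3_c1))))
theorem f497932 : Led Lsl_at (LP (LK LD1_c13 LD2_c57 LD3_c1)) = (LP (LK LD1_c13 LD2_c16 LD3_c24)) :=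
  Lgr Lrot107 (Lpe (K46.f155586 IH) (Lpr_af (K32.f497926 IH) (Lpe (f123975 IH) (Lpn (LP (LK LD1_c13 LD2_c16 LD3_c24))))))
theorem f123982 : Led Lsl_gt (LP (LK LD1_c22 LD2_c31 LD3_c61)) = (LP (LK LD1_c13 LD2_c16 LD3_c24)) :=
  Lre_g IH (LK LD1_c22 LD2_c31 LD3_c61) (LK LD1_c13 LD2_c16 LD3_c24) Lrfl Lrfl
theorem f610265 : Led Lsl_gt (LP (LK LD1_c14 LD2_c8 LD3_c49)) = (LP (LK LD1_c22 LD2_c31 LD3_c61)) :=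
  Lgr Lrot5 (Lpr_ft (f610257 IH) (Lpr_at (f497932 IH) (Lpe (f123982 IH) (Lpn (LP (LK LD1_c22 LD2_c31 LD3_c61))))))
theorem f85214 : Led Lsl_dt (LP (LK LD1_c7 LD2_c30 LD3_c35)) = (LP (LK LD1_c3 LD2_c44 LD3_c46)) :=
  Lre_d IH (LK LD1_c7 LD2_c30 LD3_c35) (LK LD1_c3 LD2_c44 LD3_c46) Lrfl Lrfl
theorem f482923 : Led Lsl_bt (LP (LK LD1_c3 LD2_c44 LD3_c46)) = (LP (LK LD1_c3 LD2_c29 LD3_c34)) :=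
  Lgr Lrot95 (Lpe (f85214 IH) (Lpr_bf (K32.f482919 IH) (Lpr_df (K29.f473624 IH) (Lpn (LP (LK LD1_c3 LD2_c29 LD3_c34))))))
theorem f484119 : Led Lsl_ct (LP (LK LD1_c6 LD2_c51 LD3_c49)) = (LP (LK LD1_c3 LD2_c44 LD3_c46)) :=
  Lgr Lrot59 (Lpr_cf (K29.f484116 IH) (Lpn (LP (LK LD1_c3 LD2_c44 LD3_c46))))
theorem f660819 : Led Lsl_bf (LP (LK LD1_c6 LD2_c51 LD3_c49)) = v7089 :=
  Lgr Lrot90 (Lpr_ct (f484119 IH) (Lpr_bt (f482923 IH) (Lpr_ct (K29.f481449 IH) (Lpr_bt (f481451 IH) (Lpr_ct (f660817 IH) (Lpn v7089))))))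
theorem f12793 : Led Lsl_gt (LP (LK LD1_c14 LD2_c5 LD3_c5)) = (LP (LK LD1_c7 LD2_c27 LD3_c38)) :=
  Lre_g IH (LK LD1_c14 LD2_c5 LD3_c5) (LK LD1_c7 LD2_c27 LD3_c38) Lrfl Lrfl
theorem f660827 : Led Lsl_ct (LP (LK LD1_c22 LD2_c31 LD3_c61)) = (LP (LK LD1_c14 LD2_c5 LD3_c5)) :=
  Lgr Lrot91 (Lpe (f610265 IH) (Lpr_bf (f610242 IH) (Lpr_ct (f609425 IH) (Lpe (f442083 IH) (Lpr_cf (f660820 IH) (Lpe (f660819 IH) (Lpe (K29.f12820 IH) (Lpe (K4.f12796 IH) (Lpe (f12786 IH) (Lpe (f12793 IH) (Lpn (LP (LK LD1_c14 LD2_c5 LD3_c5)))))))))))))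
theorem f660828 : Led Lsl_ct (LP (LK LD1_c22 LD2_c31 LD3_c61)) = (LP (LK LD1_c14 LD2_c5 LD3_c5)) :=
  Leop (Lpe (f660827 IH) (Lpn (LP (LK LD1_c22 LD2_c31 LD3_c61))))
theorem seed_430 : LEOK LG_c (LK LD1_c22 LD2_c31 LD3_c61) :=
  Leoe_c (LK LD1_c22 LD2_c31 LD3_c61) (f660828 IH)
def v7090 : LQ := Led Lsl_gf (LP (LK LD1_c3 LD2_c38 LD3_c39))
theorem f660859 : Led Lsl_gf (LP (LK LD1_c3 LD2_c38 LD3_c39)) = v7090 :=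
  Lrfl
theorem f483133 : Led Lsl_cf (LP (LK LD1_c13 LD2_c40 LD3_c50)) = (LP (LK LD1_c13 LD2_c48 LD3_c0)) :=
  Lgr Lrot11 (Lpr_ct (K34.f483127 IH) (Lpn (LP (LK LD1_c13 LD2_c48 LD3_c0))))
theorem f92550 : Led Lsl_ct (LP (LK LD1_c3 LD2_c33 LD3_c52)) = (LP (LK LD1_c7 LD2_c8 LD3_c38)) :=
  Lre_c IH (LK LD1_c3 LD2_c33 LD3_c52) (LK LD1_c7 LD2_c8 LD3_c38) Lrfl Lrfl
def v6732 : LQ := Led Lsl_et (LP (LK LD1_c3 LD2_c28 LD3_c5))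
theorem f658112 : Led Lsl_et (LP (LK LD1_c3 LD2_c28 LD3_c5)) = v6732 :=
  Lrfl
theorem f93167 : Led Lsl_et (LP (LK LD1_c1 LD2_c43 LD3_c38)) = (LP (LK LD1_c3 LD2_c33 LD3_c52)) :=
  Lre_e IH (LK LD1_c1 LD2_c43 LD3_c38) (LK LD1_c3 LD2_c33 LD3_c52) Lrfl Lrfl
theorem f658116 : Led Lsl_gf (LP (LK LD1_c3 LD2_c33 LD3_c52)) = v6732 :=
  Lgr Lrot141 (Lpe (f93167 IH) (Lpr_dt (K24.f6658 IH) (Lpr_gt (K24.f93154 IH) (Lpe (K24.f93155 IH) (Lpr_et (K24.f93156 IH) (Lpe (K24.f93157 IH) (Lpr_dt (K29.f5704 IH) (Lpr_gt (K33.f470771 IH) (Lpe (K24.f455157 IH) (Lpr_et (f658112 IH) (Lpn v6732)))))))))))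
theorem f660862 : Led Lsl_dt v6732 = v7090 :=
  Lgr Lrot6 (Lpe (f658116 IH) (Lpr_ct (f92550 IH) (Lpe (K29.f473633 IH) (Lpe (K29.f475112 IH) (Lpe (K29.f475114 IH) (Lpr_cf (f483133 IH) (Lpe (K34.f462161 IH) (Lpe (K29.f5345 IH) (Lpr_gf (f660859 IH) (Lpn v7090))))))))))
theorem f658114 : Led Lsl_ef (LP (LK LD1_c3 LD2_c28 LD3_c5)) = v6732 :=
  Lgr Lrot88 (Lpr_et (f658112 IH) (Lpn v6732))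
theorem f481309 : Led Lsl_et (LP (LK LD1_c1 LD2_c45 LD3_c28)) = (LP (LK LD1_c3 LD2_c37 LD3_c12)) :=
  Lre_e IH (LK LD1_c1 LD2_c45 LD3_c28) (LK LD1_c3 LD2_c37 LD3_c12) Lrfl Lrfl
theorem f10528 : Led Lsl_dt (LP (LK LD1_c1 LD2_c45 LD3_c28)) = (LP (LK LD1_c3 LD2_c37 LD3_c11)) :=
  Lre_d IH (LK LD1_c1 LD2_c45 LD3_c28) (LK LD1_c3 LD2_c37 LD3_c11) Lrfl Lrfl
theorem f97260 : Led Lsl_gt (LP (LK LD1_c3 LD2_c37 LD3_c9)) = (LP (LK LD1_c7 LD2_c14 LD3_c42)) :=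
  Lre_g IH (LK LD1_c3 LD2_c37 LD3_c9) (LK LD1_c7 LD2_c14 LD3_c42) Lrfl Lrfl
theorem f6477 : Led Lsl_gt (LP (LK LD1_c13 LD2_c43 LD3_c20)) = (LP (LK LD1_c7 LD2_c15 LD3_c49)) :=
  Lre_g IH (LK LD1_c13 LD2_c43 LD3_c20) (LK LD1_c7 LD2_c15 LD3_c49) Lrfl Lrfl
theorem f6476 : Led Lsl_dt (LP (LK LD1_c7 LD2_c15 LD3_c49)) = (LP (LK LD1_c13 LD2_c39 LD3_c56)) :=
  Lre_d IH (LK LD1_c7 LD2_c15 LD3_c49) (LK LD1_c13 LD2_c39 LD3_c56) Lrfl Lrfl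
theorem f467441 : Led Lsl_gt (LP (LK LD1_c7 LD2_c14 LD3_c43)) = (LP (LK LD1_c3 LD2_c37 LD3_c9)) :=
  Lre_g IH (LK LD1_c7 LD2_c14 LD3_c43) (LK LD1_c3 LD2_c37 LD3_c9) Lrfl Lrfl
theorem f481287 : Led Lsl_ct (LP (LK LD1_c7 LD2_c14 LD3_c43)) = (LP (LK LD1_c13 LD2_c42 LD3_c26)) :=
  Lre_c IH (LK LD1_c7 LD2_c14 LD3_c43) (LK LD1_c13 LD2_c42 LD3_c26) Lrfl Lrfl
theorem f481288 : Led Lsl_gt (LP (LK LD1_c13 LD2_c42 LD3_c26)) = (LP (LK LD1_c7 LD2_c15 LD3_c15)) :=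
  Lgr Lrot94 (Lpe (f481287 IH) (Lpr_gt (f467441 IH) (Lpr_dt (K35.f467440 IH) (Lpr_gt (K29.f10522 IH) (Lpr_dt (K3.f10515 IH) (Lpe (K33.f6475 IH) (Lpe (f6476 IH) (Lpe (f6477 IH) (Lpr_df (K33.f481267 IH) (Lpn (LP (LK LD1_c7 LD2_c15 LD3_c15))))))))))))
theorem f481295 : Led Lsl_gf (LP (LK LD1_c7 LD2_c14 LD3_c43)) = (LP (LK LD1_c3 LD2_c37 LD3_c11)) :=
  Lgr Lrot147 (Lpr_ct (f481287 IH) (Lpr_gt (f481288 IH) (Lpr_ct (K29.f456857 IH) (Lpe (K29.f456864 IH) (Lpe (K29.f6644 IH) (Lpe (K29.f5931 IH) (Lpe (K29.f6004 IH) (Lpe (K33.f6023 IH) (Lpe (K39.f481294 IH) (Lpn (LP (LK LD1_c3 LD2_c37 LD3_c11))))))))))))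
theorem f528314 : Led Lsl_af (LP (LK LD1_c3 LD2_c37 LD3_c9)) = (LP (LK LD1_c7 LD2_c13 LD3_c1)) :=
  Lgr Lrot31 (Lpe (f467441 IH) (Lpr_gf (f481295 IH) (Lpr_ft (K39.f528304 IH) (Lpn (LP (LK LD1_c7 LD2_c13 LD3_c1))))))
theorem f528460 : Led Lsl_af (LP (LK LD1_c3 LD2_c37 LD3_c11)) = (LP (LK LD1_c7 LD2_c13 LD3_c3)) :=
  Lgr Lrot45 (Lpr_ft (K39.f528304 IH) (Lpe (f528314 IH) (Lpr_ft (K35.f528455 IH) (Lpn (LP (LK LD1_c7 LD2_c13 LD3_c3))))))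
theorem f528469 : Led Lsl_gt (LP (LK LD1_c7 LD2_c14 LD3_c42)) = (LP (LK LD1_c3 LD2_c37 LD3_c11)) :=
  Lgr Lrot46 (Lpe (f97260 IH) (Lpr_ft (K35.f528455 IH) (Lpe (f528460 IH) (Lpn (LP (LK LD1_c3 LD2_c37 LD3_c11))))))
def v7009 : LQ := Led Lsl_et (LP (LK LD1_c3 LD2_c36 LD3_c12))
theorem f660171 : Led Lsl_et (LP (LK LD1_c3 LD2_c36 LD3_c12)) = v7009 :=
  Lrfl
theorem f510965 : Led Lsl_et (LP (LK LD1_c13 LD2_c39 LD3_c12)) = (LP (LK LD1_c7 LD2_c12 LD3_c47)) :=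
  Lre_e IH (LK LD1_c13 LD2_c39 LD3_c12) (LK LD1_c7 LD2_c12 LD3_c47) Lrfl Lrfl
theorem f97263 : Led Lsl_ef (LP (LK LD1_c7 LD2_c14 LD3_c28)) = (LP (LK LD1_c3 LD2_c38 LD3_c30)) :=
  Lgr Lrot88 (Lpr_et (K36.f97258 IH) (Lpn (LP (LK LD1_c3 LD2_c38 LD3_c30))))
theorem f489982 : Led Lsl_et (LP (LK LD1_c7 LD2_c12 LD3_c47)) = (LP (LK LD1_c13 LD2_c39 LD3_c12)) :=
  Lre_e IH (LK LD1_c7 LD2_c12 LD3_c47) (LK LD1_c13 LD2_c39 LD3_c12) Lrfl Lrfl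
theorem f159189 : Led Lsl_et (LP (LK LD1_c7 LD2_c57 LD3_c8)) = (LP (LK LD1_c14 LD2_c59 LD3_c60)) :=
  Lre_e IH (LK LD1_c7 LD2_c57 LD3_c8) (LK LD1_c14 LD2_c59 LD3_c60) Lrfl Lrfl
theorem f621968 : Led Lsl_gf (LP (LK LD1_c13 LD2_c39 LD3_c12)) = (LP (LK LD1_c14 LD2_c59 LD3_c60)) :=
  Lgr Lrot141 (Lpe (f489982 IH) (Lpr_dt (K33.f108481 IH) (Lpe (K33.f489975 IH) (Lpe (K35.f97257 IH) (Lpe (f97263 IH) (Lpr_gt (K39.f542501 IH) (Lpr_dt (K28.f38536 IH) (Lpr_gt (K8.f159209 IH) (Lpe (K28.f112560 IH) (Lpr_et (f159189 IH) (Lpn (LP (LK LD1_c14 LD2_c59 LD3_c60)))))))))))))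
theorem f565623 : Led Lsl_et (LP (LK LD1_c7 LD2_c14 LD3_c35)) = (LP (LK LD1_c13 LD2_c42 LD3_c12)) :=
  Lre_e IH (LK LD1_c7 LD2_c14 LD3_c35) (LK LD1_c13 LD2_c42 LD3_c12) Lrfl Lrfl
theorem f159127 : Led Lsl_et (LP (LK LD1_c14 LD2_c59 LD3_c60)) = (LP (LK LD1_c7 LD2_c57 LD3_c8)) :=
  Lre_e IH (LK LD1_c14 LD2_c59 LD3_c60) (LK LD1_c7 LD2_c57 LD3_c8) Lrfl Lrfl
theorem f565624 : Led Lsl_dt (LP (LK LD1_c13 LD2_c42 LD3_c12)) = (LP (LK LD1_c14 LD2_c59 LD3_c60)) :=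
  Lgr Lrot77 (Lpe (f565623 IH) (Lpr_df (K41.f565589 IH) (Lpe (K41.f159129 IH) (Lpe (K28.f112560 IH) (Lpe (f159127 IH) (Lpn (LP (LK LD1_c14 LD2_c59 LD3_c60))))))))
theorem f98308 : Led Lsl_et (LP (LK LD1_c13 LD2_c42 LD3_c12)) = (LP (LK LD1_c7 LD2_c14 LD3_c35)) :=
  Lre_e IH (LK LD1_c13 LD2_c42 LD3_c12) (LK LD1_c7 LD2_c14 LD3_c35) Lrfl Lrfl
theorem f528476 : Led Lsl_et (LP (LK LD1_c13 LD2_c42 LD3_c25)) = (LP (LK LD1_c7 LD2_c14 LD3_c42)) :=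
  Lre_e IH (LK LD1_c13 LD2_c42 LD3_c25) (LK LD1_c7 LD2_c14 LD3_c42) Lrfl Lrfl
theorem f621972 : Led Lsl_df (LP (LK LD1_c13 LD2_c39 LD3_c12)) = (LP (LK LD1_c13 LD2_c42 LD3_c25)) :=
  Lgr Lrot168 (Lpr_gf (f621968 IH) (Lpe (f565624 IH) (Lpr_et (f98308 IH) (Lpe (K41.f6536 IH) (Lpe (K41.f6303 IH) (Lpr_dt (K41.f6301 IH) (Lpe (K33.f6023 IH) (Lpe (K39.f481294 IH) (Lpe (f528469 IH) (Lpe (f528476 IH) (Lpn (LP (LK LD1_c13 LD2_c42 LD3_c25)))))))))))))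
theorem f621977 : Led Lsl_et (LP (LK LD1_c7 LD2_c14 LD3_c42)) = (LP (LK LD1_c13 LD2_c42 LD3_c25)) :=
  Lre_e IH (LK LD1_c7 LD2_c14 LD3_c42) (LK LD1_c13 LD2_c42 LD3_c25) Lrfl Lrfl
theorem f660174 : Led Lsl_df (LP (LK LD1_c7 LD2_c14 LD3_c42)) = v7009 :=
  Lgr Lrot70 (Lpr_et (f621977 IH) (Lpe (f621972 IH) (Lpr_et (f510965 IH) (Lpr_dt (K33.f108481 IH) (Lpr_et (f660171 IH) (Lpn v7009))))))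
theorem f660864 : Led Lsl_gt (LP (LK LD1_c3 LD2_c38 LD3_c40)) = v7009 :=
  Lgr Lrot137 (Lpe (K29.f442006 IH) (Lpr_dt (K29.f5344 IH) (Lpr_gf (f660859 IH) (Lpe (f660862 IH) (Lpe (f658114 IH) (Lpr_gf (K33.f487917 IH) (Lpe (f481309 IH) (Lpr_dt (f10528 IH) (Lpe (f528469 IH) (Lpr_df (f660174 IH) (Lpn v7009)))))))))))
theorem f6333 : Led Lsl_et (LP (LK LD1_c7 LD2_c15 LD3_c5)) = (LP (LK LD1_c3 LD2_c37 LD3_c16)) :=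
  Lre_e IH (LK LD1_c7 LD2_c15 LD3_c5) (LK LD1_c3 LD2_c37 LD3_c16) Lrfl Lrfl
theorem f6209 : Led Lsl_gt (LP (LK LD1_c13 LD2_c32 LD3_c52)) = (LP (LK LD1_c7 LD2_c9 LD3_c6)) :=
  Lre_g IH (LK LD1_c13 LD2_c32 LD3_c52) (LK LD1_c7 LD2_c9 LD3_c6) Lrfl Lrfl
theorem f10586 : Led Lsl_dt (LP (LK LD1_c22 LD2_c55 LD3_c12)) = (LP (LK LD1_c13 LD2_c32 LD3_c52)) :=
  Lre_d IH (LK LD1_c22 LD2_c55 LD3_c12) (LK LD1_c13 LD2_c32 LD3_c52) Lrfl Lrfl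
theorem f660175 : Led Lsl_ef (LP (LK LD1_c3 LD2_c36 LD3_c12)) = v7009 :=
  Lgr Lrot88 (Lpr_et (f660171 IH) (Lpn v7009))
theorem f621975 : Led Lsl_dt (LP (LK LD1_c13 LD2_c39 LD3_c12)) = (LP (LK LD1_c13 LD2_c42 LD3_c25)) :=
  Lgr Lrot42 (Lpr_df (f621972 IH) (Lpn (LP (LK LD1_c13 LD2_c42 LD3_c25))))
theorem f660178 : Led Lsl_dt (LP (LK LD1_c7 LD2_c14 LD3_c42)) = v7009 :=
  Lgr Lrot77 (Lpe (f528476 IH) (Lpe (f621975 IH) (Lpe (f489982 IH) (Lpe (K33.f108479 IH) (Lpr_ef (f660175 IH) (Lpn v7009))))))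
theorem f621983 : Led Lsl_gt (LP (LK LD1_c13 LD2_c42 LD3_c25)) = (LP (LK LD1_c23 LD2_c8 LD3_c14)) :=
  Lre_g IH (LK LD1_c13 LD2_c42 LD3_c25) (LK LD1_c23 LD2_c8 LD3_c14) Lrfl Lrfl
theorem f660865 : Led Lsl_et (LP (LK LD1_c22 LD2_c55 LD3_c12)) = (LP (LK LD1_c23 LD2_c8 LD3_c14)) :=
  Lgr Lrot122 (Lpr_dt (f10586 IH) (Lpr_gt (f6209 IH) (Lpr_df (K3.f10559 IH) (Lpr_et (f6333 IH) (Lpr_gt (K29.f6602 IH) (Lpe (K29.f442004 IH) (Lpr_gt (f660864 IH) (Lpe (f660178 IH) (Lpr_et (f621977 IH) (Lpr_gt (f621983 IH) (Lpn (LP (LK LD1_c23 LD2_c8 LD3_c14)))))))))))))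
theorem f660866 : Led Lsl_et (LP (LK LD1_c22 LD2_c55 LD3_c12)) = (LP (LK LD1_c23 LD2_c8 LD3_c14)) :=
  Leop (Lpe (f660865 IH) (Lpn (LP (LK LD1_c22 LD2_c55 LD3_c12))))
theorem seed_431 : LEOK LG_e (LK LD1_c22 LD2_c55 LD3_c12) :=
  Leoe_e (LK LD1_c22 LD2_c55 LD3_c12) (f660866 IH)
def v7091 : LQ := Led Lsl_gf (LP (LK LD1_c3 LD2_c38 LD3_c40))
theorem f660873 : Led Lsl_gf (LP (LK LD1_c3 LD2_c38 LD3_c40)) = v7091 :=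
  Lrfl
theorem f442033 : Led Lsl_gt (LP (LK LD1_c13 LD2_c39 LD3_c51)) = (LP (LK LD1_c23 LD2_c5 LD3_c13)) :=
  Lre_g IH (LK LD1_c13 LD2_c39 LD3_c51) (LK LD1_c23 LD2_c5 LD3_c13) Lrfl Lrfl
theorem f442059 : Led Lsl_dt (LP (LK LD1_c23 LD2_c5 LD3_c13)) = (LP (LK LD1_c30 LD2_c53 LD3_c30)) :=
  Lre_d IH (LK LD1_c23 LD2_c5 LD3_c13) (LK LD1_c30 LD2_c53 LD3_c30) Lrfl Lrfl
theorem f588945 : Led Lsl_df (LP (LK LD1_c11 LD2_c23 LD3_c26)) = (LP (LK LD1_c13 LD2_c41 LD3_c43)) :=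
  Lgr Lrot38 (Lpr_dt (K45.f588939 IH) (Lpn (LP (LK LD1_c13 LD2_c41 LD3_c43))))
theorem f160371 : Led Lsl_et (LP (LK LD1_c3 LD2_c36 LD3_c60)) = (LP (LK LD1_c7 LD2_c14 LD3_c14)) :=
  Lre_e IH (LK LD1_c3 LD2_c36 LD3_c60) (LK LD1_c7 LD2_c14 LD3_c14) Lrfl Lrfl
theorem f458704 : Led Lsl_gt (LP (LK LD1_c13 LD2_c14 LD3_c44)) = (LP (LK LD1_c6 LD2_c58 LD3_c36)) :=
  Lre_g IH (LK LD1_c13 LD2_c14 LD3_c44) (LK LD1_c6 LD2_c58 LD3_c36) Lrfl Lrfl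
theorem f601264 : Led Lsl_et (LP (LK LD1_c11 LD2_c23 LD3_c27)) = (LP (LK LD1_c13 LD2_c14 LD3_c44)) :=
  Lgr Lrot185 (Lpr_dt (K39.f197510 IH) (Lpe (K45.f197473 IH) (Lpr_df (f588945 IH) (Lpe (K45.f92640 IH) (Lpe (f160371 IH) (Lpr_dt (K8.f17487 IH) (Lpr_gf (K28.f464215 IH) (Lpe (K33.f18580 IH) (Lpr_et (K29.f455262 IH) (Lpe (f458704 IH) (Lpn (LP (LK LD1_c13 LD2_c14 LD3_c44)))))))))))))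
theorem f601272 : Led Lsl_ef (LP (LK LD1_c11 LD2_c23 LD3_c27)) = (LP (LK LD1_c13 LD2_c14 LD3_c44)) :=
  Lgr Lrot88 (Lpr_et (f601264 IH) (Lpn (LP (LK LD1_c13 LD2_c14 LD3_c44))))
theorem f575585 : Led Lsl_ct (LP (LK LD1_c11 LD2_c35 LD3_c37)) = (LP (LK LD1_c20 LD2_c32 LD3_c43)) :=
  Lgr Lrot59 (Lpr_cf (K45.f575576 IH) (Lpn (LP (LK LD1_c20 LD2_c32 LD3_c43))))
theorem f575588 : Led Lsl_cf (LP (LK LD1_c11 LD2_c35 LD3_c15)) = (LP (LK LD1_c20 LD2_c32 LD3_c51)) :=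
  Lgr Lrot166 (Lpr_gt (K45.f575563 IH) (Lpe (K45.f575564 IH) (Lpr_gt (K38.f545685 IH) (Lpr_dt (K45.f538434 IH) (Lpr_ct (f575585 IH) (Lpe (K45.f420949 IH) (Lpe (K45.f420933 IH) (Lpe (K45.f420954 IH) (Lpe (K45.f420955 IH) (Lpn (LP (LK LD1_c20 LD2_c32 LD3_c51))))))))))))
theorem f186263 : Led Lsl_ct (LP (LK LD1_c10 LD2_c4 LD3_c31)) = (LP (LK LD1_c5 LD2_c6 LD3_c53)) :=
  Lre_c IH (LK LD1_c10 LD2_c4 LD3_c31) (LK LD1_c5 LD2_c6 LD3_c53) Lrfl Lrfl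
theorem f575590 : Led Lsl_gf (LP (LK LD1_c10 LD2_c4 LD3_c31)) = (LP (LK LD1_c10 LD2_c5 LD3_c15)) :=
  Lgr Lrot147 (Lpr_ct (f186263 IH) (Lpe (K39.f553857 IH) (Lpr_ct (K45.f409404 IH) (Lpe (K45.f553861 IH) (Lpr_cf (f575588 IH) (Lpe (K45.f442767 IH) (Lpe (K38.f546621 IH) (Lpe (K43.f166175 IH) (Lpe (K43.f570482 IH) (Lpn (LP (LK LD1_c10 LD2_c5 LD3_c15))))))))))))
theorem f186264 : Led Lsl_dt (LP (LK LD1_c18 LD2_c23 LD3_c18)) = (LP (LK LD1_c10 LD2_c4 LD3_c31)) :=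
  Lre_d IH (LK LD1_c18 LD2_c23 LD3_c18) (LK LD1_c10 LD2_c4 LD3_c31) Lrfl Lrfl
theorem f186265 : Led Lsl_ct (LP (LK LD1_c28 LD2_c0 LD3_c46)) = (LP (LK LD1_c18 LD2_c23 LD3_c18)) :=
  Lre_c IH (LK LD1_c28 LD2_c0 LD3_c46) (LK LD1_c18 LD2_c23 LD3_c18) Lrfl Lrfl
theorem f556887 : Led Lsl_dt (LP (LK LD1_c20 LD2_c32 LD3_c23)) = (LP (LK LD1_c28 LD2_c0 LD3_c46)) :=
  Lgr Lrot173 (Lpe (K41.f556886 IH) (Lpr_df (K39.f556882 IH) (Lpe (K39.f553818 IH) (Lpe (K39.f553872 IH) (Lpe (K39.f553877 IH) (Lpe (K39.f553878 IH) (Lpr_cf (K39.f553879 IH) (Lpe (K39.f205041 IH) (Lpe (K39.f205040 IH) (Lpe (K39.f205032 IH) (Lpr_cf (K39.f205038 IH) (Lpr_df (K39.f186249 IH) (Lpe (f186263 IH) (Lpe (f186264 IH) (Lpe (f186265 IH) (Lpn (LP (LK LD1_c28 LD2_c0 LD3_c46))))))))))))))))))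
theorem f538479 : Led Lsl_gt (LP (LK LD1_c11 LD2_c34 LD3_c45)) = (LP (LK LD1_c20 LD2_c32 LD3_c50)) :=
  Lre_g IH (LK LD1_c11 LD2_c34 LD3_c45) (LK LD1_c20 LD2_c32 LD3_c50) Lrfl Lrfl
theorem f158338 : Led Lsl_dt (LP (LK LD1_c11 LD2_c32 LD3_c58)) = (LP (LK LD1_c5 LD2_c53 LD3_c28)) :=
  Lre_d IH (LK LD1_c11 LD2_c32 LD3_c58) (LK LD1_c5 LD2_c53 LD3_c28) Lrfl Lrfl
theorem f538480 : Led Lsl_df (LP (LK LD1_c11 LD2_c35 LD3_c11)) = (LP (LK LD1_c20 LD2_c32 LD3_c50)) :=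
  Lgr Lrot174 (Lpr_ct (K41.f428089 IH) (Lpe (K36.f186705 IH) (Lpr_gf (K36.f428085 IH) (Lpe (f158338 IH) (Lpe (K45.f538466 IH) (Lpr_ct (K35.f538468 IH) (Lpr_gt (K35.f420932 IH) (Lpr_dt (K45.f538478 IH) (Lpr_gt (f538479 IH) (Lpn (LP (LK LD1_c20 LD2_c32 LD3_c50))))))))))))
theorem f575596 : Led Lsl_gf (LP (LK LD1_c20 LD2_c32 LD3_c23)) = (LP (LK LD1_c11 LD2_c35 LD3_c11)) :=
  Lgr Lrot143 (Lpr_dt (f556887 IH) (Lpe (K45.f186281 IH) (Lpe (K45.f186280 IH) (Lpr_gf (f575590 IH) (Lpr_df (K43.f575492 IH) (Lpe (K43.f575496 IH) (Lpr_cf (K45.f575529 IH) (Lpr_gt (f538479 IH) (Lpe (f538480 IH) (Lpn (LP (LK LD1_c11 LD2_c35 LD3_c11))))))))))))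
theorem f587942 : Led Lsl_bt (LP (LK LD1_c11 LD2_c34 LD3_c34)) = (LP (LK LD1_c7 LD2_c17 LD3_c32)) :=
  Lgr Lrot130 (Lpr_ct (K41.f556886 IH) (Lpr_gf (f575596 IH) (Lpe (K41.f428088 IH) (Lpr_bt (K41.f566899 IH) (Lpe (K45.f567604 IH) (Lpr_bf (K45.f587936 IH) (Lpe (K45.f570960 IH) (Lpe (K45.f4178 IH) (Lpe (K0.f4236 IH) (Lpe (K42.f5167 IH) (Lpn (LP (LK LD1_c7 LD2_c17 LD3_c32)))))))))))))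
theorem f587946 : Led Lsl_bf (LP (LK LD1_c20 LD2_c32 LD3_c24)) = (LP (LK LD1_c13 LD2_c47 LD3_c40)) :=
  Lgr Lrot96 (Lpr_et (K45.f556900 IH) (Lpr_bt (f587942 IH) (Lpr_et (K45.f481562 IH) (Lpn (LP (LK LD1_c13 LD2_c47 LD3_c40))))))
theorem f551980 : Led Lsl_et (LP (LK LD1_c14 LD2_c58 LD3_c48)) = (LP (LK LD1_c7 LD2_c56 LD3_c26)) :=
  Lre_e IH (LK LD1_c14 LD2_c58 LD3_c48) (LK LD1_c7 LD2_c56 LD3_c26) Lrfl Lrfl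
theorem f556892 : Led Lsl_dt (LP (LK LD1_c20 LD2_c32 LD3_c24)) = (LP (LK LD1_c14 LD2_c58 LD3_c48)) :=
  Lgr Lrot77 (Lpe (K45.f556891 IH) (Lpr_df (K39.f556882 IH) (Lpe (K39.f556790 IH) (Lpr_df (K42.f556808 IH) (Lpe (f551980 IH) (Lpn (LP (LK LD1_c14 LD2_c58 LD3_c48))))))))
theorem f481548 : Led Lsl_et (LP (LK LD1_c13 LD2_c47 LD3_c40)) = (LP (LK LD1_c7 LD2_c17 LD3_c32)) :=
  Lre_e IH (LK LD1_c13 LD2_c47 LD3_c40) (LK LD1_c7 LD2_c17 LD3_c32) Lrfl Lrfl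
theorem f442061 : Led Lsl_et (LP (LK LD1_c13 LD2_c47 LD3_c61)) = (LP (LK LD1_c7 LD2_c17 LD3_c40)) :=
  Lre_e IH (LK LD1_c13 LD2_c47 LD3_c61) (LK LD1_c7 LD2_c17 LD3_c40) Lrfl Lrfl
theorem f455277 : Led Lsl_et (LP (LK LD1_c3 LD2_c28 LD3_c8)) = (LP (LK LD1_c6 LD2_c58 LD3_c30)) :=
  Lre_e IH (LK LD1_c3 LD2_c28 LD3_c8) (LK LD1_c6 LD2_c58 LD3_c30) Lrfl Lrfl
theorem f455278 : Led Lsl_et (LP (LK LD1_c13 LD2_c14 LD3_c30)) = (LP (LK LD1_c6 LD2_c58 LD3_c29)) :=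
  Lre_e IH (LK LD1_c13 LD2_c14 LD3_c30) (LK LD1_c6 LD2_c58 LD3_c29) Lrfl Lrfl
theorem f462058 : Led Lsl_et (LP (LK LD1_c7 LD2_c17 LD3_c40)) = (LP (LK LD1_c13 LD2_c47 LD3_c61)) :=
  Lre_e IH (LK LD1_c7 LD2_c17 LD3_c40) (LK LD1_c13 LD2_c47 LD3_c61) Lrfl Lrfl
theorem f462059 : Led Lsl_df (LP (LK LD1_c13 LD2_c14 LD3_c30)) = (LP (LK LD1_c13 LD2_c47 LD3_c61)) :=
  Lgr Lrot70 (Lpr_et (f455278 IH) (Lpr_dt (K24.f446459 IH) (Lpr_et (f455277 IH) (Lpr_dt (K30.f462046 IH) (Lpr_et (f462058 IH) (Lpn (LP (LK LD1_c13 LD2_c47 LD3_c61))))))))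
theorem f462048 : Led Lsl_gt (LP (LK LD1_c22 LD2_c29 LD3_c16)) = (LP (LK LD1_c13 LD2_c14 LD3_c30)) :=
  Lre_g IH (LK LD1_c22 LD2_c29 LD3_c16) (LK LD1_c13 LD2_c14 LD3_c30) Lrfl Lrfl
theorem f481549 : Led Lsl_dt (LP (LK LD1_c13 LD2_c47 LD3_c40)) = (LP (LK LD1_c22 LD2_c29 LD3_c16)) :=
  Lgr Lrot136 (Lpr_et (f481548 IH) (Lpe (K42.f5618 IH) (Lpe (K24.f5503 IH) (Lpr_dt (K29.f4121 IH) (Lpe (K29.f4399 IH) (Lpe (K29.f4400 IH) (Lpr_gf (K29.f481541 IH) (Lpe (f442061 IH) (Lpe (f462059 IH) (Lpe (f462048 IH) (Lpn (LP (LK LD1_c22 LD2_c29 LD3_c16)))))))))))))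
theorem f481569 : Led Lsl_df (LP (LK LD1_c13 LD2_c47 LD3_c40)) = (LP (LK LD1_c22 LD2_c29 LD3_c16)) :=
  Lgr Lrot38 (Lpr_dt (f481549 IH) (Lpn (LP (LK LD1_c22 LD2_c29 LD3_c16))))
theorem f587948 : Led Lsl_bt (LP (LK LD1_c14 LD2_c58 LD3_c48)) = (LP (LK LD1_c22 LD2_c29 LD3_c16)) :=
  Lgr Lrot95 (Lpe (f556892 IH) (Lpr_bf (f587946 IH) (Lpr_df (f481569 IH) (Lpn (LP (LK LD1_c22 LD2_c29 LD3_c16))))))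
theorem f587951 : Led Lsl_bf (LP (LK LD1_c14 LD2_c58 LD3_c48)) = (LP (LK LD1_c22 LD2_c29 LD3_c16)) :=
  Lgr Lrot24 (Lpr_bt (f587948 IH) (Lpn (LP (LK LD1_c22 LD2_c29 LD3_c16))))
theorem f587953 : Led Lsl_et (LP (LK LD1_c14 LD2_c58 LD3_c46)) = (LP (LK LD1_c22 LD2_c29 LD3_c16)) :=
  Lgr Lrot74 (Lpe (K41.f404357 IH) (Lpe (f551980 IH) (Lpr_bf (f587951 IH) (Lpn (LP (LK LD1_c22 LD2_c29 LD3_c16))))))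
theorem f601274 : Led Lsl_at (LP (LK LD1_c22 LD2_c29 LD3_c16)) = (LP (LK LD1_c13 LD2_c14 LD3_c44)) :=
  Lgr Lrot80 (Lpe (f587953 IH) (Lpe (K41.f556819 IH) (Lpr_ef (f601272 IH) (Lpn (LP (LK LD1_c13 LD2_c14 LD3_c44))))))
theorem f462089 : Led Lsl_gt (LP (LK LD1_c22 LD2_c29 LD3_c17)) = (LP (LK LD1_c13 LD2_c14 LD3_c44)) :=
  Lre_g IH (LK LD1_c22 LD2_c29 LD3_c17) (LK LD1_c13 LD2_c14 LD3_c44) Lrfl Lrfl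
theorem f462087 : Led Lsl_gt (LP (LK LD1_c13 LD2_c14 LD3_c43)) = (LP (LK LD1_c22 LD2_c29 LD3_c17)) :=
  Lre_g IH (LK LD1_c13 LD2_c14 LD3_c43) (LK LD1_c22 LD2_c29 LD3_c17) Lrfl Lrfl
theorem f601280 : Led Lsl_ff (LP (LK LD1_c22 LD2_c29 LD3_c16)) = (LP (LK LD1_c13 LD2_c14 LD3_c43)) :=
  Lgr Lrot52 (Lpr_at (f601274 IH) (Lpe (f462089 IH) (Lpe (f462087 IH) (Lpn (LP (LK LD1_c13 LD2_c14 LD3_c43))))))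
theorem f601286 : Led Lsl_ft (LP (LK LD1_c22 LD2_c29 LD3_c16)) = (LP (LK LD1_c13 LD2_c14 LD3_c43)) :=
  Lgr Lrot48 (Lpr_ff (f601280 IH) (Lpn (LP (LK LD1_c13 LD2_c14 LD3_c43))))
theorem f455316 : Led Lsl_gt (LP (LK LD1_c13 LD2_c14 LD3_c30)) = (LP (LK LD1_c22 LD2_c29 LD3_c15)) :=
  Lre_g IH (LK LD1_c13 LD2_c14 LD3_c30) (LK LD1_c22 LD2_c29 LD3_c15) Lrfl Lrfl
theorem f601294 : Led Lsl_af (LP (LK LD1_c22 LD2_c29 LD3_c15)) = (LP (LK LD1_c13 LD2_c14 LD3_c43)) :=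
  Lgr Lrot31 (Lpe (f455316 IH) (Lpe (f462048 IH) (Lpr_ft (f601286 IH) (Lpn (LP (LK LD1_c13 LD2_c14 LD3_c43))))))
theorem f556833 : Led Lsl_af (LP (LK LD1_c11 LD2_c23 LD3_c27)) = (LP (LK LD1_c14 LD2_c58 LD3_c46)) :=
  Lgr Lrot0 (Lpr_at (K41.f556819 IH) (Lpn (LP (LK LD1_c14 LD2_c58 LD3_c46))))
theorem f569596 : Led Lsl_et (LP (LK LD1_c22 LD2_c29 LD3_c16)) = (LP (LK LD1_c14 LD2_c58 LD3_c46)) :=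
  Lgr Lrot71 (Lpe (f481549 IH) (Lpe (K45.f481562 IH) (Lpr_df (K42.f569587 IH) (Lpr_ef (K41.f556857 IH) (Lpr_df (K41.f556806 IH) (Lpn (LP (LK LD1_c14 LD2_c58 LD3_c46))))))))
theorem f601266 : Led Lsl_af (LP (LK LD1_c22 LD2_c29 LD3_c16)) = (LP (LK LD1_c13 LD2_c14 LD3_c44)) :=
  Lgr Lrot50 (Lpr_et (f569596 IH) (Lpe (f556833 IH) (Lpr_et (f601264 IH) (Lpn (LP (LK LD1_c13 LD2_c14 LD3_c44))))))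
theorem f601298 : Led Lsl_ft (LP (LK LD1_c22 LD2_c29 LD3_c15)) = (LP (LK LD1_c13 LD2_c14 LD3_c44)) :=
  Lgr Lrot101 (Lpr_af (f601294 IH) (Lpe (f601286 IH) (Lpr_af (f601266 IH) (Lpn (LP (LK LD1_c13 LD2_c14 LD3_c44))))))
theorem f601304 : Led Lsl_ff (LP (LK LD1_c22 LD2_c29 LD3_c15)) = (LP (LK LD1_c13 LD2_c14 LD3_c44)) :=
  Lgr Lrot3 (Lpr_ft (f601298 IH) (Lpn (LP (LK LD1_c13 LD2_c14 LD3_c44))))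
theorem f240839 : Led Lsl_et (LP (LK LD1_c10 LD2_c1 LD3_c25)) = (LP (LK LD1_c18 LD2_c18 LD3_c60)) :=
  Lre_e IH (LK LD1_c10 LD2_c1 LD3_c25) (LK LD1_c18 LD2_c18 LD3_c60) Lrfl Lrfl
theorem f601278 : Led Lsl_dt (LP (LK LD1_c18 LD2_c18 LD3_c60)) = (LP (LK LD1_c13 LD2_c14 LD3_c44)) :=
  Lgr Lrot77 (Lpe (f240839 IH) (Lpe (K41.f240838 IH) (Lpe (K13.f240833 IH) (Lpe (K39.f197510 IH) (Lpr_ef (f601272 IH) (Lpn (LP (LK LD1_c13 LD2_c14 LD3_c44))))))))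
theorem f591048 : Led Lsl_ft (LP (LK LD1_c27 LD2_c57 LD3_c45)) = (LP (LK LD1_c18 LD2_c18 LD3_c60)) :=
  Lre_f IH (LK LD1_c27 LD2_c57 LD3_c45) (LK LD1_c18 LD2_c18 LD3_c60) Lrfl Lrfl
theorem f601308 : Led Lsl_dt (LP (LK LD1_c22 LD2_c29 LD3_c15)) = (LP (LK LD1_c27 LD2_c57 LD3_c45)) :=
  Lgr Lrot60 (Lpr_ff (f601304 IH) (Lpe (f601278 IH) (Lpe (f591048 IH) (Lpn (LP (LK LD1_c27 LD2_c57 LD3_c45))))))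
theorem f462088 : Led Lsl_dt (LP (LK LD1_c22 LD2_c29 LD3_c37)) = (LP (LK LD1_c13 LD2_c14 LD3_c43)) :=
  Lre_d IH (LK LD1_c22 LD2_c29 LD3_c37) (LK LD1_c13 LD2_c14 LD3_c43) Lrfl Lrfl
theorem f601310 : Led Lsl_af (LP (LK LD1_c22 LD2_c29 LD3_c37)) = (LP (LK LD1_c27 LD2_c57 LD3_c45)) :=
  Lgr Lrot117 (Lpr_dt (f462088 IH) (Lpe (f601294 IH) (Lpr_dt (f601308 IH) (Lpn (LP (LK LD1_c27 LD2_c57 LD3_c45))))))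
theorem f462094 : Led Lsl_et (LP (LK LD1_c22 LD2_c29 LD3_c37)) = (LP (LK LD1_c30 LD2_c32 LD3_c3)) :=
  Lre_e IH (LK LD1_c22 LD2_c29 LD3_c37) (LK LD1_c30 LD2_c32 LD3_c3) Lrfl Lrfl
theorem f420751 : Led Lsl_dt (LP (LK LD1_c11 LD2_c33 LD3_c40)) = (LP (LK LD1_c5 LD2_c53 LD3_c53)) :=
  Lre_d IH (LK LD1_c11 LD2_c33 LD3_c40) (LK LD1_c5 LD2_c53 LD3_c53) Lrfl Lrfl
theorem f574660 : Led Lsl_gf (LP (LK LD1_c20 LD2_c31 LD3_c3)) = (LP (LK LD1_c15 LD2_c23 LD3_c40)) :=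
  Lgr Lrot104 (Lpr_ct (K45.f428020 IH) (Lpe (K41.f428018 IH) (Lpe (K37.f428023 IH) (Lpe (K37.f112388 IH) (Lpe (K37.f71813 IH) (Lpe (K37.f71822 IH) (Lpe (f420751 IH) (Lpr_gt (K43.f574656 IH) (Lpr_ct (K45.f56271 IH) (Lpn (LP (LK LD1_c15 LD2_c23 LD3_c40))))))))))))
theorem f590837 : Led Lsl_gt (LP (LK LD1_c20 LD2_c31 LD3_c6)) = (LP (LK LD1_c15 LD2_c23 LD3_c40)) :=
  Lgr Lrot5 (Lpr_ft (K45.f590831 IH) (Lpr_at (K45.f566932 IH) (Lpr_gf (f574660 IH) (Lpn (LP (LK LD1_c15 LD2_c23 LD3_c40))))))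
theorem f556970 : Led Lsl_bt (LP (LK LD1_c8 LD2_c5 LD3_c1)) = (LP (LK LD1_c15 LD2_c13 LD3_c14)) :=
  Lre_b IH (LK LD1_c8 LD2_c5 LD3_c1) (LK LD1_c15 LD2_c13 LD3_c14) Lrfl Lrfl
theorem f190287 : Led Lsl_ct (LP (LK LD1_c8 LD2_c5 LD3_c1)) = (LP (LK LD1_c15 LD2_c13 LD3_c18)) :=
  Lre_c IH (LK LD1_c8 LD2_c5 LD3_c1) (LK LD1_c15 LD2_c13 LD3_c18) Lrfl Lrfl
theorem f590839 : Led Lsl_bf (LP (LK LD1_c13 LD2_c42 LD3_c8)) = (LP (LK LD1_c8 LD2_c10 LD3_c34)) :=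
  Lgr Lrot156 (Lpr_gt (K41.f17614 IH) (Lpe (K24.f5513 IH) (Lpr_ct (K42.f5525 IH) (Lpr_gt (K43.f570971 IH) (Lpe (f190287 IH) (Lpr_bt (f556970 IH) (Lpe (K45.f570448 IH) (Lpr_ct (K45.f421513 IH) (Lpr_gt (f590837 IH) (Lpe (K45.f56271 IH) (Lpn (LP (LK LD1_c8 LD2_c10 LD3_c34)))))))))))))
theorem f556910 : Led Lsl_at (LP (LK LD1_c10 LD2_c1 LD3_c20)) = (LP (LK LD1_c8 LD2_c10 LD3_c34)) :=
  Lgr Lrot100 (Lpr_af (K41.f556908 IH) (Lpn (LP (LK LD1_c8 LD2_c10 LD3_c34))))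
theorem f410759 : Led Lsl_af (LP (LK LD1_c10 LD2_c4 LD3_c14)) = (LP (LK LD1_c10 LD2_c1 LD3_c21)) :=
  Lgr Lrot45 (Lpr_ft (K39.f241052 IH) (Lpr_at (K39.f410746 IH) (Lpr_ft (K39.f205000 IH) (Lpn (LP (LK LD1_c10 LD2_c1 LD3_c21))))))
theorem f410767 : Led Lsl_at (LP (LK LD1_c5 LD2_c6 LD3_c45)) = (LP (LK LD1_c5 LD2_c5 LD3_c8)) :=
  Lgr Lrot80 (Lpe (K39.f201388 IH) (Lpr_af (f410759 IH) (Lpe (K39.f201358 IH) (Lpn (LP (LK LD1_c5 LD2_c5 LD3_c8))))))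
theorem f590841 : Led Lsl_at (LP (LK LD1_c13 LD2_c42 LD3_c8)) = (LP (LK LD1_c7 LD2_c17 LD3_c33)) :=
  Lgr Lrot67 (Lpr_bf (f590839 IH) (Lpe (f556910 IH) (Lpe (K41.f255285 IH) (Lpe (f410767 IH) (Lpe (K45.f573681 IH) (Lpn (LP (LK LD1_c7 LD2_c17 LD3_c33))))))))
theorem f17623 : Led Lsl_et (LP (LK LD1_c23 LD2_c7 LD3_c47)) = (LP (LK LD1_c13 LD2_c42 LD3_c8)) :=
  Lre_e IH (LK LD1_c23 LD2_c7 LD3_c47) (LK LD1_c13 LD2_c42 LD3_c8) Lrfl Lrfl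
theorem f573687 : Led Lsl_et (LP (LK LD1_c7 LD2_c17 LD3_c33)) = (LP (LK LD1_c13 LD2_c47 LD3_c42)) :=
  Lre_e IH (LK LD1_c7 LD2_c17 LD3_c33) (LK LD1_c13 LD2_c47 LD3_c42) Lrfl Lrfl
theorem f590858 : Led Lsl_af (LP (LK LD1_c23 LD2_c7 LD3_c47)) = (LP (LK LD1_c13 LD2_c47 LD3_c42)) :=
  Lgr Lrot50 (Lpr_et (f17623 IH) (Lpr_at (f590841 IH) (Lpr_et (f573687 IH) (Lpn (LP (LK LD1_c13 LD2_c47 LD3_c42))))))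
theorem f573202 : Led Lsl_et (LP (LK LD1_c13 LD2_c42 LD3_c8)) = (LP (LK LD1_c23 LD2_c7 LD3_c47)) :=
  Lre_e IH (LK LD1_c13 LD2_c42 LD3_c8) (LK LD1_c23 LD2_c7 LD3_c47) Lrfl Lrfl
theorem f556914 : Led Lsl_et (LP (LK LD1_c15 LD2_c23 LD3_c41)) = (LP (LK LD1_c8 LD2_c10 LD3_c34)) :=
  Lre_e IH (LK LD1_c15 LD2_c23 LD3_c41) (LK LD1_c8 LD2_c10 LD3_c34) Lrfl Lrfl
theorem f590843 : Led Lsl_bt (LP (LK LD1_c23 LD2_c7 LD3_c47)) = (LP (LK LD1_c15 LD2_c23 LD3_c41)) :=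
  Lgr Lrot119 (Lpe (f573202 IH) (Lpr_bf (f590839 IH) (Lpe (f556914 IH) (Lpn (LP (LK LD1_c15 LD2_c23 LD3_c41))))))
theorem f201369 : Led Lsl_bt (LP (LK LD1_c18 LD2_c18 LD3_c55)) = (LP (LK LD1_c10 LD2_c1 LD3_c21)) :=
  Lre_b IH (LK LD1_c18 LD2_c18 LD3_c55) (LK LD1_c10 LD2_c1 LD3_c21) Lrfl Lrfl
theorem f590862 : Led Lsl_bt (LP (LK LD1_c10 LD2_c4 LD3_c14)) = (LP (LK LD1_c13 LD2_c47 LD3_c42)) :=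
  Lgr Lrot62 (Lpr_af (f410759 IH) (Lpe (f201369 IH) (Lpr_af (K45.f556998 IH) (Lpe (f590843 IH) (Lpr_af (f590858 IH) (Lpn (LP (LK LD1_c13 LD2_c47 LD3_c42))))))))
theorem f241066 : Led Lsl_ft (LP (LK LD1_c18 LD2_c22 LD3_c59)) = (LP (LK LD1_c10 LD2_c4 LD3_c14)) :=
  Lre_f IH (LK LD1_c18 LD2_c22 LD3_c59) (LK LD1_c10 LD2_c4 LD3_c14) Lrfl Lrfl
theorem f591037 : Led Lsl_ft (LP (LK LD1_c13 LD2_c47 LD3_c42)) = (LP (LK LD1_c23 LD2_c15 LD3_c21)) :=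
  Lre_f IH (LK LD1_c13 LD2_c47 LD3_c42) (LK LD1_c23 LD2_c15 LD3_c21) Lrfl Lrfl
theorem f591038 : Led Lsl_bf (LP (LK LD1_c18 LD2_c22 LD3_c59)) = (LP (LK LD1_c23 LD2_c15 LD3_c21)) :=
  Lgr Lrot61 (Lpr_ft (f241066 IH) (Lpr_bt (f590862 IH) (Lpr_ft (f591037 IH) (Lpn (LP (LK LD1_c23 LD2_c15 LD3_c21))))))
theorem f410734 : Led Lsl_et (LP (LK LD1_c18 LD2_c22 LD3_c59)) = (LP (LK LD1_c18 LD2_c19 LD3_c1)) :=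
  Lgr Lrot87 (Lpr_ef (K39.f410732 IH) (Lpn (LP (LK LD1_c18 LD2_c19 LD3_c1))))
theorem f240884 : Led Lsl_bt (LP (LK LD1_c18 LD2_c19 LD3_c1)) = (LP (LK LD1_c27 LD2_c57 LD3_c45)) :=
  Lre_b IH (LK LD1_c18 LD2_c19 LD3_c1) (LK LD1_c27 LD2_c57 LD3_c45) Lrfl Lrfl
theorem f591044 : Led Lsl_et (LP (LK LD1_c27 LD2_c57 LD3_c45)) = (LP (LK LD1_c23 LD2_c15 LD3_c21)) :=
  Lgr Lrot74 (Lpe (f240884 IH) (Lpe (f410734 IH) (Lpr_bf (f591038 IH) (Lpn (LP (LK LD1_c23 LD2_c15 LD3_c21))))))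
theorem f591046 : Led Lsl_ef (LP (LK LD1_c27 LD2_c57 LD3_c45)) = (LP (LK LD1_c23 LD2_c15 LD3_c21)) :=
  Lgr Lrot88 (Lpr_et (f591044 IH) (Lpn (LP (LK LD1_c23 LD2_c15 LD3_c21))))
theorem f601316 : Led Lsl_at (LP (LK LD1_c30 LD2_c32 LD3_c3)) = (LP (LK LD1_c23 LD2_c15 LD3_c21)) :=
  Lgr Lrot80 (Lpe (f462094 IH) (Lpr_af (f601310 IH) (Lpr_ef (f591046 IH) (Lpn (LP (LK LD1_c23 LD2_c15 LD3_c21))))))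
theorem f590869 : Led Lsl_ft (LP (LK LD1_c23 LD2_c15 LD3_c21)) = (LP (LK LD1_c13 LD2_c47 LD3_c42)) :=
  Lre_f IH (LK LD1_c23 LD2_c15 LD3_c21) (LK LD1_c13 LD2_c47 LD3_c42) Lrfl Lrfl
theorem f601328 : Led Lsl_ff (LP (LK LD1_c30 LD2_c32 LD3_c3)) = (LP (LK LD1_c23 LD2_c7 LD3_c47)) :=
  Lgr Lrot30 (Lpr_at (f601316 IH) (Lpr_ft (f590869 IH) (Lpe (f590858 IH) (Lpn (LP (LK LD1_c23 LD2_c7 LD3_c47))))))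
theorem f525462 : Led Lsl_dt (LP (LK LD1_c23 LD2_c9 LD3_c34)) = (LP (LK LD1_c13 LD2_c43 LD3_c8)) :=
  Lre_d IH (LK LD1_c23 LD2_c9 LD3_c34) (LK LD1_c13 LD2_c43 LD3_c8) Lrfl Lrfl
theorem f526175 : Led Lsl_gt (LP (LK LD1_c23 LD2_c5 LD3_c13)) = (LP (LK LD1_c13 LD2_c43 LD3_c8)) :=
  Lgr Lrot46 (Lpe (f442033 IH) (Lpr_ft (K45.f442025 IH) (Lpr_at (K45.f526165 IH) (Lpn (LP (LK LD1_c13 LD2_c43 LD3_c8))))))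
theorem f442062 : Led Lsl_dt (LP (LK LD1_c30 LD2_c53 LD3_c30)) = (LP (LK LD1_c23 LD2_c5 LD3_c13)) :=
  Lre_d IH (LK LD1_c30 LD2_c53 LD3_c30) (LK LD1_c23 LD2_c5 LD3_c13) Lrfl Lrfl
theorem f573776 : Led Lsl_gf (LP (LK LD1_c30 LD2_c53 LD3_c30)) = (LP (LK LD1_c23 LD2_c7 LD3_c47)) :=
  Lgr Lrot138 (Lpr_dt (f442062 IH) (Lpr_gt (f526175 IH) (Lpe (f525462 IH) (Lpe (K35.f525455 IH) (Lpe (K45.f526201 IH) (Lpr_ef (K43.f573768 IH) (Lpe (K43.f573764 IH) (Lpe (K43.f573193 IH) (Lpe (K43.f17621 IH) (Lpr_et (f573202 IH) (Lpn (LP (LK LD1_c23 LD2_c7 LD3_c47)))))))))))))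
theorem f601330 : Led Lsl_gt (LP (LK LD1_c30 LD2_c53 LD3_c30)) = (LP (LK LD1_c23 LD2_c15 LD3_c21)) :=
  Lgr Lrot46 (Lpr_gf (f573776 IH) (Lpe (f601328 IH) (Lpr_at (f601316 IH) (Lpn (LP (LK LD1_c23 LD2_c15 LD3_c21))))))
theorem f241061 : Led Lsl_bt (LP (LK LD1_c21 LD2_c10 LD3_c44)) = (LP (LK LD1_c29 LD2_c52 LD3_c56)) :=
  Lre_b IH (LK LD1_c21 LD2_c10 LD3_c44) (LK LD1_c29 LD2_c52 LD3_c56) Lrfl Lrfl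
theorem f591042 : Led Lsl_dt (LP (LK LD1_c29 LD2_c52 LD3_c56)) = (LP (LK LD1_c23 LD2_c15 LD3_c21)) :=
  Lgr Lrot79 (Lpe (f241061 IH) (Lpr_df (K39.f241053 IH) (Lpr_bf (f591038 IH) (Lpn (LP (LK LD1_c23 LD2_c15 LD3_c21))))))
theorem f17624 : Led Lsl_dt (LP (LK LD1_c23 LD2_c7 LD3_c47)) = (LP (LK LD1_c13 LD2_c42 LD3_c7)) :=
  Lre_d IH (LK LD1_c23 LD2_c7 LD3_c47) (LK LD1_c13 LD2_c42 LD3_c7) Lrfl Lrfl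
theorem f482737 : Led Lsl_et (LP (LK LD1_c13 LD2_c47 LD3_c42)) = (LP (LK LD1_c7 LD2_c17 LD3_c33)) :=
  Lre_e IH (LK LD1_c13 LD2_c47 LD3_c42) (LK LD1_c7 LD2_c17 LD3_c33) Lrfl Lrfl
theorem f574745 : Led Lsl_et (LP (LK LD1_c12 LD2_c5 LD3_c11)) = (LP (LK LD1_c21 LD2_c10 LD3_c39)) :=
  Lre_e IH (LK LD1_c12 LD2_c5 LD3_c11) (LK LD1_c21 LD2_c10 LD3_c39) Lrfl Lrfl
theorem f574746 : Led Lsl_df (LP (LK LD1_c13 LD2_c47 LD3_c42)) = (LP (LK LD1_c21 LD2_c10 LD3_c39)) :=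
  Lgr Lrot70 (Lpr_et (f482737 IH) (Lpr_dt (K45.f573685 IH) (Lpe (K43.f573672 IH) (Lpr_dt (K43.f574741 IH) (Lpr_et (f574745 IH) (Lpn (LP (LK LD1_c21 LD2_c10 LD3_c39))))))))
theorem f590867 : Led Lsl_at (LP (LK LD1_c13 LD2_c42 LD3_c7)) = (LP (LK LD1_c21 LD2_c10 LD3_c39)) :=
  Lgr Lrot51 (Lpe (f17624 IH) (Lpr_af (f590858 IH) (Lpr_df (f574746 IH) (Lpn (LP (LK LD1_c21 LD2_c10 LD3_c39))))))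
theorem f590856 : Led Lsl_ft (LP (LK LD1_c23 LD2_c7 LD3_c48)) = (LP (LK LD1_c13 LD2_c42 LD3_c7)) :=
  Lre_f IH (LK LD1_c23 LD2_c7 LD3_c48) (LK LD1_c13 LD2_c42 LD3_c7) Lrfl Lrfl
theorem f590877 : Led Lsl_ft (LP (LK LD1_c21 LD2_c10 LD3_c39)) = (LP (LK LD1_c29 LD2_c52 LD3_c56)) :=
  Lre_f IH (LK LD1_c21 LD2_c10 LD3_c39) (LK LD1_c29 LD2_c52 LD3_c56) Lrfl Lrfl
theorem f590878 : Led Lsl_af (LP (LK LD1_c23 LD2_c7 LD3_c48)) = (LP (LK LD1_c29 LD2_c52 LD3_c56)) :=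
  Lgr Lrot45 (Lpr_ft (f590856 IH) (Lpr_at (f590867 IH) (Lpr_ft (f590877 IH) (Lpn (LP (LK LD1_c29 LD2_c52 LD3_c56))))))
theorem f92629 : Led Lsl_dt (LP (LK LD1_c13 LD2_c42 LD3_c7)) = (LP (LK LD1_c23 LD2_c7 LD3_c47)) :=
  Lre_d IH (LK LD1_c13 LD2_c42 LD3_c7) (LK LD1_c23 LD2_c7 LD3_c47) Lrfl Lrfl
theorem f570206 : Led Lsl_et (LP (LK LD1_c20 LD2_c31 LD3_c26)) = (LP (LK LD1_c11 LD2_c33 LD3_c61)) :=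
  Lre_e IH (LK LD1_c20 LD2_c31 LD3_c26) (LK LD1_c11 LD2_c33 LD3_c61) Lrfl Lrfl
theorem f570220 : Led Lsl_dt (LP (LK LD1_c15 LD2_c23 LD3_c41)) = (LP (LK LD1_c20 LD2_c31 LD3_c26)) :=
  Lgr Lrot77 (Lpe (K45.f556902 IH) (Lpe (K39.f56270 IH) (Lpr_ef (K42.f570216 IH) (Lpe (K42.f570200 IH) (Lpe (f570206 IH) (Lpn (LP (LK LD1_c20 LD2_c31 LD3_c26))))))))
theorem f590847 : Led Lsl_bf (LP (LK LD1_c13 LD2_c42 LD3_c7)) = (LP (LK LD1_c20 LD2_c31 LD3_c26)) :=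
  Lgr Lrot93 (Lpr_dt (f92629 IH) (Lpr_bt (f590843 IH) (Lpr_dt (f570220 IH) (Lpn (LP (LK LD1_c20 LD2_c31 LD3_c26))))))
theorem f590851 : Led Lsl_ft (LP (LK LD1_c13 LD2_c42 LD3_c7)) = (LP (LK LD1_c23 LD2_c7 LD3_c48)) :=
  Lre_f IH (LK LD1_c13 LD2_c42 LD3_c7) (LK LD1_c23 LD2_c7 LD3_c48) Lrfl Lrfl
theorem f574058 : Led Lsl_ft (LP (LK LD1_c29 LD2_c29 LD3_c37)) = (LP (LK LD1_c20 LD2_c31 LD3_c26)) :=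
  Lre_f IH (LK LD1_c29 LD2_c29 LD3_c37) (LK LD1_c20 LD2_c31 LD3_c26) Lrfl Lrfl
theorem f590852 : Led Lsl_bt (LP (LK LD1_c23 LD2_c7 LD3_c48)) = (LP (LK LD1_c29 LD2_c29 LD3_c37)) :=
  Lgr Lrot35 (Lpe (f590851 IH) (Lpr_bf (f590847 IH) (Lpe (f574058 IH) (Lpn (LP (LK LD1_c29 LD2_c29 LD3_c37))))))
theorem f205012 : Led Lsl_bt (LP (LK LD1_c26 LD2_c31 LD3_c11)) = (LP (LK LD1_c16 LD2_c34 LD3_c11)) :=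
  Lre_b IH (LK LD1_c26 LD2_c31 LD3_c11) (LK LD1_c16 LD2_c34 LD3_c11) Lrfl Lrfl
theorem f590883 : Led Lsl_at (LP (LK LD1_c29 LD2_c29 LD3_c37)) = (LP (LK LD1_c26 LD2_c31 LD3_c11)) :=
  Lgr Lrot67 (Lpe (f590852 IH) (Lpr_af (f590878 IH) (Lpe (f241061 IH) (Lpr_af (K37.f410728 IH) (Lpe (f205012 IH) (Lpn (LP (LK LD1_c26 LD2_c31 LD3_c11))))))))
theorem f590886 : Led Lsl_af (LP (LK LD1_c29 LD2_c29 LD3_c37)) = (LP (LK LD1_c26 LD2_c31 LD3_c11)) :=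
  Lgr Lrot0 (Lpr_at (f590883 IH) (Lpn (LP (LK LD1_c26 LD2_c31 LD3_c11))))
theorem f205025 : Led Lsl_ft (LP (LK LD1_c16 LD2_c34 LD3_c6)) = (LP (LK LD1_c26 LD2_c31 LD3_c11)) :=
  Lre_f IH (LK LD1_c16 LD2_c34 LD3_c6) (LK LD1_c26 LD2_c31 LD3_c11) Lrfl Lrfl
theorem f590894 : Led Lsl_at (LP (LK LD1_c20 LD2_c31 LD3_c26)) = (LP (LK LD1_c16 LD2_c34 LD3_c6)) :=
  Lgr Lrot66 (Lpe (f574058 IH) (Lpr_af (f590886 IH) (Lpe (f205025 IH) (Lpn (LP (LK LD1_c16 LD2_c34 LD3_c6))))))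
theorem f570207 : Led Lsl_et (LP (LK LD1_c11 LD2_c33 LD3_c61)) = (LP (LK LD1_c20 LD2_c31 LD3_c26)) :=
  Lre_e IH (LK LD1_c11 LD2_c33 LD3_c61) (LK LD1_c20 LD2_c31 LD3_c26) Lrfl Lrfl
theorem f198022 : Led Lsl_et (LP (LK LD1_c16 LD2_c34 LD3_c6)) = (LP (LK LD1_c8 LD2_c51 LD3_c43)) :=
  Lre_e IH (LK LD1_c16 LD2_c34 LD3_c6) (LK LD1_c8 LD2_c51 LD3_c43) Lrfl Lrfl
theorem f590898 : Led Lsl_af (LP (LK LD1_c11 LD2_c33 LD3_c61)) = (LP (LK LD1_c8 LD2_c51 LD3_c43)) :=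
  Lgr Lrot50 (Lpr_et (f570207 IH) (Lpr_at (f590894 IH) (Lpr_et (f198022 IH) (Lpn (LP (LK LD1_c8 LD2_c51 LD3_c43))))))
theorem f71034 : Led Lsl_gt (LP (LK LD1_c11 LD2_c34 LD3_c0)) = (LP (LK LD1_c5 LD2_c54 LD3_c6)) :=
  Lre_g IH (LK LD1_c11 LD2_c34 LD3_c0) (LK LD1_c5 LD2_c54 LD3_c6) Lrfl Lrfl
theorem f590902 : Led Lsl_ft (LP (LK LD1_c11 LD2_c34 LD3_c0)) = (LP (LK LD1_c8 LD2_c51 LD3_c43)) :=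
  Lgr Lrot2 (Lpr_gt (f71034 IH) (Lpr_gt (K42.f81867 IH) (Lpr_af (f590898 IH) (Lpn (LP (LK LD1_c8 LD2_c51 LD3_c43))))))
theorem f590910 : Led Lsl_ff (LP (LK LD1_c11 LD2_c34 LD3_c0)) = (LP (LK LD1_c8 LD2_c51 LD3_c43)) :=
  Lgr Lrot3 (Lpr_ft (f590902 IH) (Lpn (LP (LK LD1_c8 LD2_c51 LD3_c43))))
theorem f590914 : Led Lsl_bt (LP (LK LD1_c11 LD2_c34 LD3_c0)) = (LP (LK LD1_c6 LD2_c13 LD3_c9)) :=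
  Lgr Lrot35 (Lpr_ff (f590910 IH) (Lpe (K38.f198019 IH) (Lpe (K37.f410696 IH) (Lpn (LP (LK LD1_c6 LD2_c13 LD3_c9))))))
theorem f571274 : Led Lsl_et (LP (LK LD1_c20 LD2_c31 LD3_c27)) = (LP (LK LD1_c11 LD2_c34 LD3_c0)) :=
  Lre_e IH (LK LD1_c20 LD2_c31 LD3_c27) (LK LD1_c11 LD2_c34 LD3_c0) Lrfl Lrfl
theorem f590961 : Led Lsl_bf (LP (LK LD1_c20 LD2_c31 LD3_c27)) = (LP (LK LD1_c12 LD2_c5 LD3_c15)) :=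
  Lgr Lrot96 (Lpr_et (f571274 IH) (Lpr_bt (f590914 IH) (Lpr_et (K37.f69374 IH) (Lpn (LP (LK LD1_c12 LD2_c5 LD3_c15))))))
theorem f577207 : Led Lsl_bt (LP (LK LD1_c13 LD2_c42 LD3_c10)) = (LP (LK LD1_c8 LD2_c51 LD3_c47)) :=
  Lgr Lrot119 (Lpe (K43.f98406 IH) (Lpr_bf (K43.f577203 IH) (Lpe (K37.f101066 IH) (Lpn (LP (LK LD1_c8 LD2_c51 LD3_c47))))))
theorem f577233 : Led Lsl_af (LP (LK LD1_c13 LD2_c42 LD3_c10)) = (LP (LK LD1_c22 LD2_c52 LD3_c14)) :=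
  Lgr Lrot0 (Lpr_at (K43.f577231 IH) (Lpn (LP (LK LD1_c22 LD2_c52 LD3_c14))))
theorem f574054 : Led Lsl_ft (LP (LK LD1_c11 LD2_c33 LD3_c61)) = (LP (LK LD1_c11 LD2_c32 LD3_c5)) :=
  Lgr Lrot48 (Lpr_ff (K43.f574049 IH) (Lpn (LP (LK LD1_c11 LD2_c32 LD3_c5))))
theorem f573651 : Led Lsl_ff (LP (LK LD1_c7 LD2_c14 LD3_c31)) = (LP (LK LD1_c13 LD2_c31 LD3_c12)) :=
  Lgr Lrot19 (Lpr_dt (K43.f92637 IH) (Lpr_ft (K43.f573645 IH) (Lpr_dt (K42.f98414 IH) (Lpn (LP (LK LD1_c13 LD2_c31 LD3_c12))))))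
theorem f574056 : Led Lsl_bf (LP (LK LD1_c13 LD2_c31 LD3_c12)) = (LP (LK LD1_c11 LD2_c32 LD3_c5)) :=
  Lgr Lrot61 (Lpe (f573651 IH) (Lpe (K43.f570202 IH) (Lpr_ft (f574054 IH) (Lpn (LP (LK LD1_c11 LD2_c32 LD3_c5))))))
theorem f98138 : Led Lsl_et (LP (LK LD1_c13 LD2_c31 LD3_c12)) = (LP (LK LD1_c22 LD2_c52 LD3_c14)) :=
  Lre_e IH (LK LD1_c13 LD2_c31 LD3_c12) (LK LD1_c22 LD2_c52 LD3_c14) Lrfl Lrfl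
theorem f547227 : Led Lsl_et (LP (LK LD1_c20 LD2_c28 LD3_c45)) = (LP (LK LD1_c11 LD2_c32 LD3_c5)) :=
  Lre_e IH (LK LD1_c20 LD2_c28 LD3_c45) (LK LD1_c11 LD2_c32 LD3_c5) Lrfl Lrfl
theorem f574059 : Led Lsl_bt (LP (LK LD1_c22 LD2_c52 LD3_c14)) = (LP (LK LD1_c20 LD2_c28 LD3_c45)) :=
  Lgr Lrot119 (Lpe (f98138 IH) (Lpr_bf (f574056 IH) (Lpe (f547227 IH) (Lpn (LP (LK LD1_c20 LD2_c28 LD3_c45))))))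
theorem f574061 : Led Lsl_bf (LP (LK LD1_c22 LD2_c52 LD3_c14)) = (LP (LK LD1_c20 LD2_c28 LD3_c45)) :=
  Lgr Lrot24 (Lpr_bt (f574059 IH) (Lpn (LP (LK LD1_c20 LD2_c28 LD3_c45))))
theorem f590963 : Led Lsl_at (LP (LK LD1_c20 LD2_c31 LD3_c27)) = (LP (LK LD1_c20 LD2_c28 LD3_c45)) :=
  Lgr Lrot67 (Lpr_bf (f590961 IH) (Lpr_af (K37.f410676 IH) (Lpe (f577207 IH) (Lpr_af (f577233 IH) (Lpr_bf (f574061 IH) (Lpn (LP (LK LD1_c20 LD2_c28 LD3_c45))))))))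
theorem f590992 : Led Lsl_af (LP (LK LD1_c20 LD2_c31 LD3_c27)) = (LP (LK LD1_c20 LD2_c28 LD3_c45)) :=
  Lgr Lrot0 (Lpr_at (f590963 IH) (Lpn (LP (LK LD1_c20 LD2_c28 LD3_c45))))
theorem f590965 : Led Lsl_bt (LP (LK LD1_c20 LD2_c31 LD3_c27)) = (LP (LK LD1_c12 LD2_c5 LD3_c15)) :=
  Lgr Lrot127 (Lpr_bf (f590961 IH) (Lpn (LP (LK LD1_c12 LD2_c5 LD3_c15))))
theorem f591014 : Led Lsl_bt (LP (LK LD1_c8 LD2_c51 LD3_c47)) = (LP (LK LD1_c13 LD2_c42 LD3_c10)) :=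
  Lgr Lrot62 (Lpe (f410549 IH) (Lpe (f590965 IH) (Lpr_af (f590992 IH) (Lpe (f574059 IH) (Lpe (K43.f577231 IH) (Lpn (LP (LK LD1_c13 LD2_c42 LD3_c10))))))))
theorem f577248 : Led Lsl_ft (LP (LK LD1_c13 LD2_c42 LD3_c10)) = (LP (LK LD1_c23 LD2_c7 LD3_c54)) :=
  Lre_f IH (LK LD1_c13 LD2_c42 LD3_c10) (LK LD1_c23 LD2_c7 LD3_c54) Lrfl Lrfl
theorem f591016 : Led Lsl_bf (LP (LK LD1_c16 LD2_c34 LD3_c16)) = (LP (LK LD1_c23 LD2_c7 LD3_c54)) :=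
  Lgr Lrot61 (Lpr_ft (K37.f197933 IH) (Lpr_bt (f591014 IH) (Lpr_ft (f577248 IH) (Lpn (LP (LK LD1_c23 LD2_c7 LD3_c54))))))
theorem f591021 : Led Lsl_et (LP (LK LD1_c29 LD2_c52 LD3_c56)) = (LP (LK LD1_c23 LD2_c7 LD3_c54)) :=
  Lgr Lrot74 (Lpe (f241061 IH) (Lpr_ef (f410720 IH) (Lpr_bf (f591016 IH) (Lpn (LP (LK LD1_c23 LD2_c7 LD3_c54))))))
theorem f519753 : Led Lsl_et (LP (LK LD1_c7 LD2_c14 LD3_c45)) = (LP (LK LD1_c3 LD2_c37 LD3_c9)) :=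
  Lre_e IH (LK LD1_c7 LD2_c14 LD3_c45) (LK LD1_c3 LD2_c37 LD3_c9) Lrfl Lrfl
theorem f528332 : Led Lsl_ft (LP (LK LD1_c13 LD2_c42 LD3_c34)) = (LP (LK LD1_c7 LD2_c14 LD3_c45)) :=
  Lre_f IH (LK LD1_c13 LD2_c42 LD3_c34) (LK LD1_c7 LD2_c14 LD3_c45) Lrfl Lrfl
theorem f98454 : Led Lsl_et (LP (LK LD1_c7 LD2_c13 LD3_c3)) = (LP (LK LD1_c13 LD2_c39 LD3_c45)) :=
  Lre_e IH (LK LD1_c7 LD2_c13 LD3_c3) (LK LD1_c13 LD2_c39 LD3_c45) Lrfl Lrfl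
theorem f528466 : Led Lsl_ft (LP (LK LD1_c13 LD2_c39 LD3_c45)) = (LP (LK LD1_c23 LD2_c5 LD3_c4)) :=
  Lre_f IH (LK LD1_c13 LD2_c39 LD3_c45) (LK LD1_c23 LD2_c5 LD3_c4) Lrfl Lrfl
theorem f528467 : Led Lsl_ef (LP (LK LD1_c13 LD2_c42 LD3_c34)) = (LP (LK LD1_c23 LD2_c5 LD3_c4)) :=
  Lgr Lrot21 (Lpr_ft (f528332 IH) (Lpr_et (f519753 IH) (Lpr_ft (K35.f528455 IH) (Lpr_et (f98454 IH) (Lpr_ft (f528466 IH) (Lpn (LP (LK LD1_c23 LD2_c5 LD3_c4))))))))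
theorem f528338 : Led Lsl_ct (LP (LK LD1_c13 LD2_c42 LD3_c34)) = (LP (LK LD1_c23 LD2_c8 LD3_c25)) :=
  Lre_c IH (LK LD1_c13 LD2_c42 LD3_c34) (LK LD1_c23 LD2_c8 LD3_c25) Lrfl Lrfl
theorem f528479 : Led Lsl_ct (LP (LK LD1_c30 LD2_c53 LD3_c25)) = (LP (LK LD1_c23 LD2_c5 LD3_c4)) :=
  Lre_c IH (LK LD1_c30 LD2_c53 LD3_c25) (LK LD1_c23 LD2_c5 LD3_c4) Lrfl Lrfl
theorem f528480 : Led Lsl_et (LP (LK LD1_c23 LD2_c8 LD3_c25)) = (LP (LK LD1_c30 LD2_c53 LD3_c25)) :=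
  Lgr Lrot158 (Lpe (f528338 IH) (Lpr_ef (f528467 IH) (Lpe (f528479 IH) (Lpn (LP (LK LD1_c30 LD2_c53 LD3_c25))))))
theorem f528484 : Led Lsl_ef (LP (LK LD1_c23 LD2_c8 LD3_c25)) = (LP (LK LD1_c30 LD2_c53 LD3_c25)) :=
  Lgr Lrot88 (Lpr_et (f528480 IH) (Lpn (LP (LK LD1_c30 LD2_c53 LD3_c25))))
theorem f519755 : Led Lsl_et (LP (LK LD1_c3 LD2_c37 LD3_c9)) = (LP (LK LD1_c7 LD2_c14 LD3_c45)) :=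
  Lre_e IH (LK LD1_c3 LD2_c37 LD3_c9) (LK LD1_c7 LD2_c14 LD3_c45) Lrfl Lrfl
theorem f528322 : Led Lsl_at (LP (LK LD1_c7 LD2_c14 LD3_c45)) = (LP (LK LD1_c13 LD2_c39 LD3_c40)) :=
  Lgr Lrot80 (Lpe (f519755 IH) (Lpr_af (f528314 IH) (Lpe (f528300 IH) (Lpn (LP (LK LD1_c13 LD2_c39 LD3_c40))))))
theorem f528311 : Led Lsl_ft (LP (LK LD1_c13 LD2_c39 LD3_c40)) = (LP (LK LD1_c23 LD2_c5 LD3_c0)) :=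
  Lre_f IH (LK LD1_c13 LD2_c39 LD3_c40) (LK LD1_c23 LD2_c5 LD3_c0) Lrfl Lrfl
theorem f528333 : Led Lsl_af (LP (LK LD1_c13 LD2_c42 LD3_c34)) = (LP (LK LD1_c23 LD2_c5 LD3_c0)) :=
  Lgr Lrot45 (Lpr_ft (f528332 IH) (Lpr_at (f528322 IH) (Lpr_ft (f528311 IH) (Lpn (LP (LK LD1_c23 LD2_c5 LD3_c0))))))
theorem f528339 : Led Lsl_ct (LP (LK LD1_c30 LD2_c53 LD3_c24)) = (LP (LK LD1_c23 LD2_c5 LD3_c0)) :=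
  Lre_c IH (LK LD1_c30 LD2_c53 LD3_c24) (LK LD1_c23 LD2_c5 LD3_c0) Lrfl Lrfl
theorem f528340 : Led Lsl_at (LP (LK LD1_c23 LD2_c8 LD3_c25)) = (LP (LK LD1_c30 LD2_c53 LD3_c24)) :=
  Lgr Lrot107 (Lpe (f528338 IH) (Lpr_af (f528333 IH) (Lpe (f528339 IH) (Lpn (LP (LK LD1_c30 LD2_c53 LD3_c24))))))
theorem f481306 : Led Lsl_et (LP (LK LD1_c7 LD2_c14 LD3_c52)) = (LP (LK LD1_c3 LD2_c37 LD3_c11)) :=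
  Lre_e IH (LK LD1_c7 LD2_c14 LD3_c52) (LK LD1_c3 LD2_c37 LD3_c11) Lrfl Lrfl
theorem f528310 : Led Lsl_ft (LP (LK LD1_c13 LD2_c42 LD3_c48)) = (LP (LK LD1_c7 LD2_c14 LD3_c52)) :=
  Lre_f IH (LK LD1_c13 LD2_c42 LD3_c48) (LK LD1_c7 LD2_c14 LD3_c52) Lrfl Lrfl
theorem f98449 : Led Lsl_et (LP (LK LD1_c7 LD2_c13 LD3_c1)) = (LP (LK LD1_c13 LD2_c39 LD3_c40)) :=
  Lre_e IH (LK LD1_c7 LD2_c13 LD3_c1) (LK LD1_c13 LD2_c39 LD3_c40) Lrfl Lrfl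
theorem f528312 : Led Lsl_ef (LP (LK LD1_c13 LD2_c42 LD3_c48)) = (LP (LK LD1_c23 LD2_c5 LD3_c0)) :=
  Lgr Lrot21 (Lpr_ft (f528310 IH) (Lpr_et (f481306 IH) (Lpr_ft (K39.f528304 IH) (Lpr_et (f98449 IH) (Lpr_ft (f528311 IH) (Lpn (LP (LK LD1_c23 LD2_c5 LD3_c0))))))))
theorem f528403 : Led Lsl_ct (LP (LK LD1_c13 LD2_c42 LD3_c48)) = (LP (LK LD1_c23 LD2_c8 LD3_c50)) :=
  Lre_c IH (LK LD1_c13 LD2_c42 LD3_c48) (LK LD1_c23 LD2_c8 LD3_c50) Lrfl Lrfl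
theorem f528404 : Led Lsl_et (LP (LK LD1_c23 LD2_c8 LD3_c50)) = (LP (LK LD1_c30 LD2_c53 LD3_c24)) :=
  Lgr Lrot158 (Lpe (f528403 IH) (Lpr_ef (f528312 IH) (Lpe (f528339 IH) (Lpn (LP (LK LD1_c30 LD2_c53 LD3_c24))))))
theorem f528406 : Led Lsl_ef (LP (LK LD1_c23 LD2_c8 LD3_c50)) = (LP (LK LD1_c30 LD2_c53 LD3_c24)) :=
  Lgr Lrot88 (Lpr_et (f528404 IH) (Lpn (LP (LK LD1_c30 LD2_c53 LD3_c24))))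
theorem f528487 : Led Lsl_at (LP (LK LD1_c23 LD2_c8 LD3_c50)) = (LP (LK LD1_c30 LD2_c53 LD3_c25)) :=
  Lgr Lrot80 (Lpr_ef (f528406 IH) (Lpe (f528340 IH) (Lpr_ef (f528484 IH) (Lpn (LP (LK LD1_c30 LD2_c53 LD3_c25))))))
theorem f528408 : Led Lsl_ft (LP (LK LD1_c13 LD2_c42 LD3_c44)) = (LP (LK LD1_c23 LD2_c8 LD3_c50)) :=
  Lre_f IH (LK LD1_c13 LD2_c42 LD3_c44) (LK LD1_c23 LD2_c8 LD3_c50) Lrfl Lrfl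
theorem f528486 : Led Lsl_ft (LP (LK LD1_c30 LD2_c53 LD3_c25)) = (LP (LK LD1_c23 LD2_c5 LD3_c2)) :=
  Lre_f IH (LK LD1_c30 LD2_c53 LD3_c25) (LK LD1_c23 LD2_c5 LD3_c2) Lrfl Lrfl
theorem f528494 : Led Lsl_af (LP (LK LD1_c13 LD2_c42 LD3_c44)) = (LP (LK LD1_c23 LD2_c5 LD3_c2)) :=
  Lgr Lrot45 (Lpr_ft (f528408 IH) (Lpr_at (f528487 IH) (Lpr_ft (f528486 IH) (Lpn (LP (LK LD1_c23 LD2_c5 LD3_c2))))))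
theorem f528371 : Led Lsl_et (LP (LK LD1_c13 LD2_c42 LD3_c44)) = (LP (LK LD1_c7 LD2_c14 LD3_c51)) :=
  Lre_e IH (LK LD1_c13 LD2_c42 LD3_c44) (LK LD1_c7 LD2_c14 LD3_c51) Lrfl Lrfl
theorem f528490 : Led Lsl_et (LP (LK LD1_c13 LD2_c39 LD3_c44)) = (LP (LK LD1_c23 LD2_c5 LD3_c2)) :=
  Lre_e IH (LK LD1_c13 LD2_c39 LD3_c44) (LK LD1_c23 LD2_c5 LD3_c2) Lrfl Lrfl
theorem f528506 : Led Lsl_at (LP (LK LD1_c7 LD2_c14 LD3_c51)) = (LP (LK LD1_c13 LD2_c39 LD3_c44)) :=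
  Lgr Lrot80 (Lpe (f528371 IH) (Lpr_af (f528494 IH) (Lpe (f528490 IH) (Lpn (LP (LK LD1_c13 LD2_c39 LD3_c44))))))
theorem f528512 : Led Lsl_af (LP (LK LD1_c7 LD2_c14 LD3_c51)) = (LP (LK LD1_c13 LD2_c39 LD3_c44)) :=
  Lgr Lrot0 (Lpr_at (f528506 IH) (Lpn (LP (LK LD1_c13 LD2_c39 LD3_c44))))
theorem f6017 : Led Lsl_ct (LP (LK LD1_c3 LD2_c37 LD3_c9)) = (LP (LK LD1_c7 LD2_c14 LD3_c44)) :=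
  Lre_c IH (LK LD1_c3 LD2_c37 LD3_c9) (LK LD1_c7 LD2_c14 LD3_c44) Lrfl Lrfl
theorem f477628 : Led Lsl_ct (LP (LK LD1_c13 LD2_c39 LD3_c44)) = (LP (LK LD1_c7 LD2_c13 LD3_c3)) :=
  Lre_c IH (LK LD1_c13 LD2_c39 LD3_c44) (LK LD1_c7 LD2_c13 LD3_c3) Lrfl Lrfl
theorem f528450 : Led Lsl_ft (LP (LK LD1_c7 LD2_c14 LD3_c44)) = (LP (LK LD1_c13 LD2_c39 LD3_c44)) :=
  Lgr Lrot4 (Lpe (f6017 IH) (Lpr_ff (K35.f528443 IH) (Lpe (f477628 IH) (Lpn (LP (LK LD1_c13 LD2_c39 LD3_c44))))))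
theorem f525034 : Led Lsl_gt (LP (LK LD1_c7 LD2_c14 LD3_c44)) = (LP (LK LD1_c13 LD2_c42 LD3_c28)) :=
  Lre_g IH (LK LD1_c7 LD2_c14 LD3_c44) (LK LD1_c13 LD2_c42 LD3_c28) Lrfl Lrfl
theorem f528516 : Led Lsl_gf (LP (LK LD1_c7 LD2_c14 LD3_c51)) = (LP (LK LD1_c13 LD2_c42 LD3_c28)) :=
  Lgr Lrot76 (Lpr_af (f528512 IH) (Lpe (f528450 IH) (Lpr_gt (f525034 IH) (Lpn (LP (LK LD1_c13 LD2_c42 LD3_c28))))))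
theorem f481302 : Led Lsl_ct (LP (LK LD1_c7 LD2_c14 LD3_c51)) = (LP (LK LD1_c3 LD2_c37 LD3_c11)) :=
  Lre_c IH (LK LD1_c7 LD2_c14 LD3_c51) (LK LD1_c3 LD2_c37 LD3_c11) Lrfl Lrfl
theorem f481147 : Led Lsl_dt (LP (LK LD1_c3 LD2_c36 LD3_c24)) = (LP (LK LD1_c7 LD2_c13 LD3_c10)) :=
  Lre_d IH (LK LD1_c3 LD2_c36 LD3_c24) (LK LD1_c7 LD2_c13 LD3_c10) Lrfl Lrfl
theorem f481154 : Led Lsl_gf (LP (LK LD1_c13 LD2_c26 LD3_c58)) = (LP (LK LD1_c7 LD2_c13 LD3_c10)) :=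
  Lgr Lrot134 (Lpe (K36.f97409 IH) (Lpr_et (K36.f97408 IH) (Lpr_gt (K28.f97407 IH) (Lpe (K28.f97379 IH) (Lpr_dt (K3.f92337 IH) (Lpr_gt (K3.f97405 IH) (Lpe (K3.f11533 IH) (Lpr_et (K29.f11644 IH) (Lpr_gt (K33.f481145 IH) (Lpr_dt (f481147 IH) (Lpn (LP (LK LD1_c7 LD2_c13 LD3_c10)))))))))))))
theorem f528518 : Led Lsl_ct (LP (LK LD1_c13 LD2_c26 LD3_c58)) = (LP (LK LD1_c13 LD2_c42 LD3_c28)) :=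
  Lgr Lrot152 (Lpr_gf (f481154 IH) (Lpe (f481147 IH) (Lpr_gt (K28.f10694 IH) (Lpr_ct (K33.f467936 IH) (Lpr_gt (K45.f467430 IH) (Lpe (K33.f487830 IH) (Lpe (K39.f481294 IH) (Lpe (f481302 IH) (Lpr_gf (f528516 IH) (Lpn (LP (LK LD1_c13 LD2_c42 LD3_c28))))))))))))
theorem f528523 : Led Lsl_cf (LP (LK LD1_c13 LD2_c26 LD3_c58)) = (LP (LK LD1_c13 LD2_c42 LD3_c28)) :=
  Lgr Lrot11 (Lpr_ct (f528518 IH) (Lpn (LP (LK LD1_c13 LD2_c42 LD3_c28))))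
theorem f660877 : Led Lsl_dt (LP (LK LD1_c7 LD2_c14 LD3_c43)) = v7091 :=
  Lgr Lrot6 (Lpr_gt (f467441 IH) (Lpr_ct (f6017 IH) (Lpr_gt (f525034 IH) (Lpe (f528523 IH) (Lpe (K36.f97409 IH) (Lpe (f489652 IH) (Lpe (f660534 IH) (Lpr_cf (K29.f481006 IH) (Lpr_gf (f660873 IH) (Lpn v7091))))))))))
theorem f525031 : Led Lsl_et (LP (LK LD1_c7 LD2_c14 LD3_c43)) = (LP (LK LD1_c13 LD2_c42 LD3_c27)) :=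
  Lre_e IH (LK LD1_c7 LD2_c14 LD3_c43) (LK LD1_c13 LD2_c42 LD3_c27) Lrfl Lrfl
theorem f660880 : Led Lsl_gt (LP (LK LD1_c23 LD2_c7 LD3_c54)) = (LP (LK LD1_c13 LD2_c42 LD3_c27)) :=
  Lgr Lrot131 (Lpe (f591021 IH) (Lpr_dt (f591042 IH) (Lpe (f601330 IH) (Lpe (f442059 IH) (Lpe (f442033 IH) (Lpe (K45.f442008 IH) (Lpe (K29.f442004 IH) (Lpr_gf (f660873 IH) (Lpe (f660877 IH) (Lpr_et (f525031 IH) (Lpn (LP (LK LD1_c13 LD2_c42 LD3_c27)))))))))))))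
theorem f660881 : Led Lsl_gt (LP (LK LD1_c23 LD2_c7 LD3_c54)) = (LP (LK LD1_c13 LD2_c42 LD3_c27)) :=
  Leop (Lpe (f660880 IH) (Lpn (LP (LK LD1_c23 LD2_c7 LD3_c54))))
theorem seed_432 : LEOK LG_g (LK LD1_c23 LD2_c7 LD3_c54) :=
  Leoe_g (LK LD1_c23 LD2_c7 LD3_c54) (f660881 IH)
def v7092 : LQ := Led Lsl_et (LP (LK LD1_c3 LD2_c38 LD3_c50))
theorem f660886 : Led Lsl_et (LP (LK LD1_c3 LD2_c38 LD3_c50)) = v7092 :=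
  Lrfl
theorem f660889 : Led Lsl_ef (LP (LK LD1_c3 LD2_c38 LD3_c50)) = v7092 :=
  Lgr Lrot88 (Lpr_et (f660886 IH) (Lpn v7092))
theorem f134759 : Led Lsl_ft (LP (LK LD1_c3 LD2_c53 LD3_c59)) = (LP (LK LD1_c1 LD2_c53 LD3_c36)) :=
  Lre_f IH (LK LD1_c3 LD2_c53 LD3_c59) (LK LD1_c1 LD2_c53 LD3_c36) Lrfl Lrfl
theorem f134760 : Led Lsl_et (LP (LK LD1_c3 LD2_c54 LD3_c53)) = (LP (LK LD1_c3 LD2_c53 LD3_c59)) :=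
  Lgr Lrot69 (Lpe (K33.f134757 IH) (Lpe (K33.f134756 IH) (Lpr_ff (K5.f134736 IH) (Lpe (K34.f134758 IH) (Lpe (f134759 IH) (Lpn (LP (LK LD1_c3 LD2_c53 LD3_c59))))))))
theorem f148180 : Led Lsl_dt (LP (LK LD1_c3 LD2_c54 LD3_c53)) = (LP (LK LD1_c7 LD2_c51 LD3_c28)) :=
  Lre_d IH (LK LD1_c3 LD2_c54 LD3_c53) (LK LD1_c7 LD2_c51 LD3_c28) Lrfl Lrfl
theorem f148181 : Led Lsl_gt (LP (LK LD1_c7 LD2_c51 LD3_c28)) = (LP (LK LD1_c3 LD2_c55 LD3_c19)) :=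
  Lre_g IH (LK LD1_c7 LD2_c51 LD3_c28) (LK LD1_c3 LD2_c55 LD3_c19) Lrfl Lrfl
theorem f660892 : Led Lsl_df (LP (LK LD1_c3 LD2_c55 LD3_c19)) = v7092 :=
  Lgr Lrot168 (Lpe (f148181 IH) (Lpe (f148180 IH) (Lpr_et (f134760 IH) (Lpe (K33.f148177 IH) (Lpe (K33.f148161 IH) (Lpr_dt (K33.f148163 IH) (Lpe (K33.f4587 IH) (Lpe (K29.f4508 IH) (Lpr_gf (K29.f456429 IH) (Lpr_ef (f660889 IH) (Lpn v7092)))))))))))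
theorem f517565 : Led Lsl_at (LP (LK LD1_c3 LD2_c38 LD3_c50)) = (LP (LK LD1_c1 LD2_c47 LD3_c42)) :=
  Lgr Lrot51 (Lpe (K33.f4424 IH) (Lpr_af (K34.f517561 IH) (Lpe (K29.f13409 IH) (Lpn (LP (LK LD1_c1 LD2_c47 LD3_c42))))))
theorem f462961 : Led Lsl_et (LP (LK LD1_c1 LD2_c47 LD3_c42)) = (LP (LK LD1_c3 LD2_c41 LD3_c37)) :=
  Lre_e IH (LK LD1_c1 LD2_c47 LD3_c42) (LK LD1_c3 LD2_c41 LD3_c37) Lrfl Lrfl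
theorem f660890 : Led Lsl_at (LP (LK LD1_c3 LD2_c41 LD3_c37)) = v7092 :=
  Lgr Lrot80 (Lpe (f462961 IH) (Lpe (f517565 IH) (Lpr_ef (f660889 IH) (Lpn v7092))))
theorem f660893 : Led Lsl_at (LP (LK LD1_c3 LD2_c55 LD3_c19)) = (LP (LK LD1_c7 LD2_c23 LD3_c56)) :=
  Lgr Lrot51 (Lpr_df (f660892 IH) (Lpe (f660890 IH) (Lpe (f437022 IH) (Lpn (LP (LK LD1_c7 LD2_c23 LD3_c56))))))
theorem f660894 : Led Lsl_at (LP (LK LD1_c3 LD2_c55 LD3_c19)) = (LP (LK LD1_c7 LD2_c23 LD3_c56)) :=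
  Leop (Lpe (f660893 IH) (Lpn (LP (LK LD1_c3 LD2_c55 LD3_c19))))
theorem seed_433 : LEOK LG_a (LK LD1_c3 LD2_c55 LD3_c19) :=
  Leoe_a (LK LD1_c3 LD2_c55 LD3_c19) (f660894 IH)
def v7098 : LQ := Led Lsl_et (LP (LK LD1_c3 LD2_c38 LD3_c57))
theorem f660970 : Led Lsl_et (LP (LK LD1_c3 LD2_c38 LD3_c57)) = v7098 :=
  Lrfl
theorem f481468 : Led Lsl_et (LP (LK LD1_c3 LD2_c39 LD3_c0)) = (LP (LK LD1_c1 LD2_c46 LD3_c26)) :=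
  Lre_e IH (LK LD1_c3 LD2_c39 LD3_c0) (LK LD1_c1 LD2_c46 LD3_c26) Lrfl Lrfl
theorem f481472 : Led Lsl_gt (LP (LK LD1_c7 LD2_c7 LD3_c13)) = (LP (LK LD1_c7 LD2_c18 LD3_c28)) :=
  Lgr Lrot139 (Lpe (K41.f11758 IH) (Lpe (K8.f11605 IH) (Lpe (K8.f96998 IH) (Lpr_dt (K3.f11539 IH) (Lpe (K3.f11537 IH) (Lpe (K3.f98478 IH) (Lpr_et (K28.f98486 IH) (Lpr_gf (K29.f481460 IH) (Lpe (f481468 IH) (Lpr_dt (f481469 IH) (Lpn (LP (LK LD1_c7 LD2_c18 LD3_c28)))))))))))))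
theorem f660975 : Led Lsl_gf (LP (LK LD1_c7 LD2_c7 LD3_c14)) = v7098 :=
  Lgr Lrot141 (Lpe (K41.f108559 IH) (Lpr_dt (K41.f11758 IH) (Lpr_gt (f481472 IH) (Lpe (f481469 IH) (Lpr_et (f481468 IH) (Lpe (K29.f481460 IH) (Lpr_dt (K29.f98487 IH) (Lpr_gt (K29.f481464 IH) (Lpe (K29.f457000 IH) (Lpr_et (f660970 IH) (Lpn v7098)))))))))))
theorem f515323 : Led Lsl_ff (LP (LK LD1_c3 LD2_c38 LD3_c57)) = (LP (LK LD1_c3 LD2_c34 LD3_c7)) :=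
  Lgr Lrot3 (Lpr_ft (K33.f515317 IH) (Lpn (LP (LK LD1_c3 LD2_c34 LD3_c7))))
def v6875 : LQ := Led Lsl_et (LP (LK LD1_c3 LD2_c32 LD3_c55))
theorem f659164 : Led Lsl_et (LP (LK LD1_c3 LD2_c32 LD3_c55)) = v6875 :=
  Lrfl
theorem f659167 : Led Lsl_ef (LP (LK LD1_c3 LD2_c32 LD3_c55)) = v6875 :=
  Lgr Lrot88 (Lpr_et (f659164 IH) (Lpn v6875))
theorem f660974 : Led Lsl_ff v6875 = v7098 :=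
  Lgr Lrot72 (Lpe (f659167 IH) (Lpr_ft (K33.f515362 IH) (Lpr_et (K33.f482444 IH) (Lpe (f515323 IH) (Lpr_et (f660970 IH) (Lpn v7098))))))
theorem f659165 : Led Lsl_af (LP (LK LD1_c3 LD2_c34 LD3_c15)) = v6875 :=
  Lgr Lrot50 (Lpr_et (K34.f466652 IH) (Lpe (K33.f515355 IH) (Lpr_et (f659164 IH) (Lpn v6875))))
def v6905 : LQ := Led Lsl_gf (LP (LK LD1_c3 LD2_c34 LD3_c15))
theorem f659361 : Led Lsl_gf (LP (LK LD1_c3 LD2_c34 LD3_c15)) = v6905 :=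
  Lrfl
theorem f660978 : (LP (LK LD1_c7 LD2_c7 LD3_c14)) = v6905 :=
  (Llr Lrot5 (Lpr_gf (f660975 IH) (Lpe (f660974 IH) (Lpe (f659165 IH) (Lpr_gf (f659361 IH) (Lpn v6905)))))).symm
theorem f660979 : Led Lsl_gt (LP (LK LD1_c7 LD2_c7 LD3_c14)) = (LP (LK LD1_c3 LD2_c34 LD3_c15)) :=
  Leop (Lpr_gf (f659361 IH) (Lpq (f660978 IH) (Lpn (LP (LK LD1_c7 LD2_c7 LD3_c14)))))
theorem seed_434 : LEOK LG_g (LK LD1_c7 LD2_c7 LD3_c14) :=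
  Leoe_g (LK LD1_c7 LD2_c7 LD3_c14) (f660979 IH)
def v7102 : LQ := Led Lsl_gt (LP (LK LD1_c3 LD2_c38 LD3_c60))
theorem f661012 : Led Lsl_gt (LP (LK LD1_c3 LD2_c38 LD3_c60)) = v7102 :=
  Lrfl
def v7103 : LQ := Led Lsl_gf (LP (LK LD1_c3 LD2_c38 LD3_c60))
theorem f661013 : Led Lsl_gf (LP (LK LD1_c3 LD2_c38 LD3_c60)) = v7103 :=
  Lrfl
def v2629 : LQ := Led Lsl_ft (LP (LK LD1_c1 LD2_c50 LD3_c14))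
theorem f529909 : Led Lsl_ft (LP (LK LD1_c1 LD2_c50 LD3_c14)) = v2629 :=
  Lrfl
theorem f529912 : Led Lsl_ff (LP (LK LD1_c1 LD2_c50 LD3_c14)) = v2629 :=
  Lgr Lrot3 (Lpr_ft (f529909 IH) (Lpn v2629))
theorem f120554 : Led Lsl_at (LP (LK LD1_c1 LD2_c50 LD3_c14)) = (LP (LK LD1_c0 LD2_c51 LD3_c61)) :=
  Lre_a IH (LK LD1_c1 LD2_c50 LD3_c14) (LK LD1_c0 LD2_c51 LD3_c61) Lrfl Lrfl
theorem f529915 : Led Lsl_gf (LP (LK LD1_c1 LD2_c50 LD3_c19)) = v2629 :=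
  Lgr Lrot47 (Lpr_gt (K30.f5770 IH) (Lpe (f120554 IH) (Lpr_ff (f529912 IH) (Lpn v2629))))
theorem f529916 : Led Lsl_gt K34.v2582 = v2629 :=
  Lgr Lrot5 (Lpr_ft (K34.f527954 IH) (Lpe (K34.f527955 IH) (Lpqs (K34.f528000 IH) (Lpr_gf (f529915 IH) (Lpn v2629)))))
def v6859 : LQ := Led Lsl_ft (LP (LK LD1_c3 LD2_c32 LD3_c16))
theorem f659003 : Led Lsl_ft (LP (LK LD1_c3 LD2_c32 LD3_c16)) = v6859 :=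
  Lrfl
theorem f659005 : Led Lsl_cf v2629 = v6859 :=
  Lgr Lrot108 (Lpe (f529912 IH) (Lpr_ct (K34.f440975 IH) (Lpr_ft (f659003 IH) (Lpn v6859))))
theorem f661014 : Led Lsl_bt v6859 = v7103 :=
  Lgr Lrot130 (Lpe (f659005 IH) (Lpe (f529916 IH) (Lpq (K35.f528041 IH) (Lpe (f522743 IH) (Lpr_bt (f522742 IH) (Lpe (f551683 IH) (Lpe (K43.f94507 IH) (Lpe (K32.f94510 IH) (Lpr_gf (f611479 IH) (Lpr_cf (f482950 IH) (Lpr_gf (f661013 IH) (Lpn v7103))))))))))))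
theorem f661017 : Led Lsl_ff (LP (LK LD1_c7 LD2_c5 LD3_c33)) = v7103 :=
  Lgr Lrot25 (Lpr_bt (K3.f109507 IH) (Lpr_ft (f659003 IH) (Lpr_bt (f661014 IH) (Lpn v7103))))
theorem f661020 : (LP (LK LD1_c7 LD2_c12 LD3_c30)) = v7102 :=
  (Llr Lrot26 (Lpr_af (K42.f109505 IH) (Lpr_ff (f661017 IH) (Lpe (f661013 IH) (Lpr_gt (f661012 IH) (Lpn v7102)))))).symm
theorem f661021 : Led Lsl_gt (LP (LK LD1_c3 LD2_c38 LD3_c60)) = (LP (LK LD1_c7 LD2_c12 LD3_c30)) :=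
  Leop (Lpqs (f661020 IH) (Lpe (f661012 IH) (Lpn (LP (LK LD1_c3 LD2_c38 LD3_c60)))))
theorem seed_435 : LEOK LG_g (LK LD1_c3 LD2_c38 LD3_c60) :=
  Leoe_g (LK LD1_c3 LD2_c38 LD3_c60) (f661021 IH)
theorem f109536 : Led Lsl_ct (LP (LK LD1_c7 LD2_c33 LD3_c45)) = (LP (LK LD1_c3 LD2_c46 LD3_c37)) :=
  Lre_c IH (LK LD1_c7 LD2_c33 LD3_c45) (LK LD1_c3 LD2_c46 LD3_c37) Lrfl Lrfl
theorem f661055 : Led Lsl_gt (LP (LK LD1_c3 LD2_c46 LD3_c37)) = v7089 :=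
  Lgr Lrot65 (Lpe (f109536 IH) (Lpe (K3.f109510 IH) (Lpqs (f661020 IH) (Lpe (f661012 IH) (Lpe (f5648 IH) (Lpr_ct (K29.f4449 IH) (Lpe (K3.f4410 IH) (Lpe (f4264 IH) (Lpe (K29.f4270 IH) (Lpe (f4375 IH) (Lpr_ct (f660817 IH) (Lpn v7089))))))))))))
theorem f120511 : Led Lsl_bt (LP (LK LD1_c6 LD2_c33 LD3_c33)) = (LP (LK LD1_c3 LD2_c46 LD3_c37)) :=
  Lgr Lrot127 (Lpr_bf (K4.f120507 IH) (Lpn (LP (LK LD1_c3 LD2_c46 LD3_c37))))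
theorem f107394 : Led Lsl_et (LP (LK LD1_c3 LD2_c14 LD3_c43)) = (LP (LK LD1_c6 LD2_c32 LD3_c57)) :=
  Lre_e IH (LK LD1_c3 LD2_c14 LD3_c43) (LK LD1_c6 LD2_c32 LD3_c57) Lrfl Lrfl
theorem f120495 : Led Lsl_cf (LP (LK LD1_c6 LD2_c33 LD3_c33)) = (LP (LK LD1_c6 LD2_c32 LD3_c57)) :=
  Lgr Lrot39 (Lpr_et (K4.f120494 IH) (Lpr_ct (K4.f120483 IH) (Lpr_et (f107394 IH) (Lpn (LP (LK LD1_c6 LD2_c32 LD3_c57))))))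
theorem f440750 : Led Lsl_ct (LP (LK LD1_c6 LD2_c33 LD3_c33)) = (LP (LK LD1_c6 LD2_c32 LD3_c57)) :=
  Lgr Lrot59 (Lpr_cf (f120495 IH) (Lpn (LP (LK LD1_c6 LD2_c32 LD3_c57))))
theorem f129914 : Led Lsl_gt (LP (LK LD1_c12 LD2_c33 LD3_c13)) = (LP (LK LD1_c6 LD2_c32 LD3_c57)) :=
  Lre_g IH (LK LD1_c12 LD2_c33 LD3_c13) (LK LD1_c6 LD2_c32 LD3_c57) Lrfl Lrfl
theorem f4865 : Led Lsl_bt (LP (LK LD1_c14 LD2_c0 LD3_c26)) = (LP (LK LD1_c7 LD2_c24 LD3_c15)) :=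
  Lre_b IH (LK LD1_c14 LD2_c0 LD3_c26) (LK LD1_c7 LD2_c24 LD3_c15) Lrfl Lrfl
theorem f137012 : Led Lsl_bt (LP (LK LD1_c7 LD2_c27 LD3_c39)) = (LP (LK LD1_c14 LD2_c5 LD3_c6)) :=
  Lre_b IH (LK LD1_c7 LD2_c27 LD3_c39) (LK LD1_c14 LD2_c5 LD3_c6) Lrfl Lrfl
theorem f483549 : Led Lsl_ff (LP (LK LD1_c14 LD2_c0 LD3_c26)) = (LP (LK LD1_c14 LD2_c5 LD3_c6)) :=
  Lgr Lrot25 (Lpr_bt (f4865 IH) (Lpr_ft (K29.f483544 IH) (Lpr_bt (f137012 IH) (Lpn (LP (LK LD1_c14 LD2_c5 LD3_c6))))))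
theorem f483931 : Led Lsl_ft (LP (LK LD1_c14 LD2_c0 LD3_c26)) = (LP (LK LD1_c14 LD2_c5 LD3_c6)) :=
  Lgr Lrot48 (Lpr_ff (f483549 IH) (Lpn (LP (LK LD1_c14 LD2_c5 LD3_c6))))
theorem f483939 : Led Lsl_at (LP (LK LD1_c23 LD2_c33 LD3_c3)) = (LP (LK LD1_c14 LD2_c0 LD3_c26)) :=
  Lre_a IH (LK LD1_c23 LD2_c33 LD3_c3) (LK LD1_c14 LD2_c0 LD3_c26) Lrfl Lrfl
theorem f137011 : Led Lsl_at (LP (LK LD1_c14 LD2_c5 LD3_c6)) = (LP (LK LD1_c23 LD2_c38 LD3_c13)) :=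
  Lre_a IH (LK LD1_c14 LD2_c5 LD3_c6) (LK LD1_c23 LD2_c38 LD3_c13) Lrfl Lrfl
theorem f483940 : Led Lsl_ff (LP (LK LD1_c23 LD2_c33 LD3_c3)) = (LP (LK LD1_c23 LD2_c38 LD3_c13)) :=
  Lgr Lrot30 (Lpr_at (f483939 IH) (Lpr_ft (f483931 IH) (Lpr_at (f137011 IH) (Lpn (LP (LK LD1_c23 LD2_c38 LD3_c13))))))
theorem f483935 : Led Lsl_dt (LP (LK LD1_c23 LD2_c33 LD3_c3)) = (LP (LK LD1_c14 LD2_c0 LD3_c25)) :=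
  Lre_d IH (LK LD1_c23 LD2_c33 LD3_c3) (LK LD1_c14 LD2_c0 LD3_c25) Lrfl Lrfl
theorem f483952 : Led Lsl_ft (LP (LK LD1_c14 LD2_c0 LD3_c25)) = (LP (LK LD1_c14 LD2_c5 LD3_c3)) :=
  Lgr Lrot54 (Lpe (f483935 IH) (Lpr_ff (f483940 IH) (Lpe (K29.f102878 IH) (Lpn (LP (LK LD1_c14 LD2_c5 LD3_c3))))))
theorem f483963 : Led Lsl_gt (LP (LK LD1_c14 LD2_c0 LD3_c25)) = (LP (LK LD1_c14 LD2_c5 LD3_c5)) :=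
  Lgr Lrot5 (Lpr_ft (f483952 IH) (Lpr_at (K4.f12803 IH) (Lpe (f12793 IH) (Lpn (LP (LK LD1_c14 LD2_c5 LD3_c5))))))
theorem f485704 : Led Lsl_ft (LP (LK LD1_c13 LD2_c49 LD3_c47)) = (LP (LK LD1_c13 LD2_c3 LD3_c6)) :=
  Lgr Lrot48 (Lpr_ff (f484045 IH) (Lpn (LP (LK LD1_c13 LD2_c3 LD3_c6))))
theorem f485708 : Led Lsl_dt (LP (LK LD1_c7 LD2_c18 LD3_c32)) = (LP (LK LD1_c13 LD2_c49 LD3_c47)) :=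
  Lre_d IH (LK LD1_c7 LD2_c18 LD3_c32) (LK LD1_c13 LD2_c49 LD3_c47) Lrfl Lrfl
theorem f485709 : Led Lsl_ff (LP (LK LD1_c7 LD2_c18 LD3_c32)) = (LP (LK LD1_c6 LD2_c51 LD3_c47)) :=
  Lgr Lrot19 (Lpr_dt (f485708 IH) (Lpr_ft (f485704 IH) (Lpr_dt (K4.f12815 IH) (Lpn (LP (LK LD1_c6 LD2_c51 LD3_c47))))))
theorem f520713 : Led Lsl_bt (LP (LK LD1_c1 LD2_c50 LD3_c30)) = (LP (LK LD1_c3 LD2_c46 LD3_c49)) :=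
  Lre_b IH (LK LD1_c1 LD2_c50 LD3_c30) (LK LD1_c3 LD2_c46 LD3_c49) Lrfl Lrfl
theorem f455510 : Led Lsl_bt (LP (LK LD1_c7 LD2_c0 LD3_c34)) = (LP (LK LD1_c3 LD2_c29 LD3_c28)) :=
  Lre_b IH (LK LD1_c7 LD2_c0 LD3_c34) (LK LD1_c3 LD2_c29 LD3_c28) Lrfl Lrfl
theorem f520714 : Led Lsl_ft (LP (LK LD1_c3 LD2_c46 LD3_c49)) = (LP (LK LD1_c7 LD2_c0 LD3_c34)) :=
  Lgr Lrot75 (Lpe (f520713 IH) (Lpr_ff (K34.f520711 IH) (Lpe (f455510 IH) (Lpn (LP (LK LD1_c7 LD2_c0 LD3_c34))))))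
theorem f520720 : Led Lsl_at (LP (LK LD1_c7 LD2_c34 LD3_c32)) = (LP (LK LD1_c3 LD2_c46 LD3_c49)) :=
  Lre_a IH (LK LD1_c7 LD2_c34 LD3_c32) (LK LD1_c3 LD2_c46 LD3_c49) Lrfl Lrfl
theorem f520777 : Led Lsl_at (LP (LK LD1_c7 LD2_c0 LD3_c34)) = (LP (LK LD1_c13 LD2_c17 LD3_c57)) :=
  Lre_a IH (LK LD1_c7 LD2_c0 LD3_c34) (LK LD1_c13 LD2_c17 LD3_c57) Lrfl Lrfl
theorem f520778 : Led Lsl_ff (LP (LK LD1_c7 LD2_c34 LD3_c32)) = (LP (LK LD1_c13 LD2_c17 LD3_c57)) :=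
  Lgr Lrot30 (Lpr_at (f520720 IH) (Lpr_ft (f520714 IH) (Lpr_at (f520777 IH) (Lpn (LP (LK LD1_c13 LD2_c17 LD3_c57))))))
theorem f520780 : Led Lsl_ft (LP (LK LD1_c7 LD2_c34 LD3_c32)) = (LP (LK LD1_c13 LD2_c17 LD3_c57)) :=
  Lgr Lrot48 (Lpr_ff (f520778 IH) (Lpn (LP (LK LD1_c13 LD2_c17 LD3_c57))))
theorem f520696 : Led Lsl_at (LP (LK LD1_c13 LD2_c17 LD3_c57)) = (LP (LK LD1_c7 LD2_c0 LD3_c34)) :=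
  Lre_a IH (LK LD1_c13 LD2_c17 LD3_c57) (LK LD1_c7 LD2_c0 LD3_c34) Lrfl Lrfl
theorem f460664 : Led Lsl_gt (LP (LK LD1_c13 LD2_c17 LD3_c56)) = (LP (LK LD1_c7 LD2_c0 LD3_c34)) :=
  Lre_g IH (LK LD1_c13 LD2_c17 LD3_c56) (LK LD1_c7 LD2_c0 LD3_c34) Lrfl Lrfl
theorem f520782 : Led Lsl_gt (LP (LK LD1_c7 LD2_c34 LD3_c32)) = (LP (LK LD1_c13 LD2_c17 LD3_c56)) :=
  Lgr Lrot5 (Lpr_ft (f520780 IH) (Lpr_at (f520696 IH) (Lpe (f460664 IH) (Lpn (LP (LK LD1_c13 LD2_c17 LD3_c56))))))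
theorem f532805 : Led Lsl_at (LP (LK LD1_c7 LD2_c18 LD3_c32)) = (LP (LK LD1_c13 LD2_c17 LD3_c56)) :=
  Lgr Lrot26 (Lpr_ff (f485709 IH) (Lpr_gt (K34.f532801 IH) (Lpr_gt (f520782 IH) (Lpn (LP (LK LD1_c13 LD2_c17 LD3_c56))))))
theorem f483967 : Led Lsl_at (LP (LK LD1_c14 LD2_c0 LD3_c25)) = (LP (LK LD1_c7 LD2_c24 LD3_c14)) :=
  Lre_a IH (LK LD1_c14 LD2_c0 LD3_c25) (LK LD1_c7 LD2_c24 LD3_c14) Lrfl Lrfl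
theorem f535246 : Led Lsl_cf (LP (LK LD1_c14 LD2_c0 LD3_c25)) = (LP (LK LD1_c13 LD2_c17 LD3_c56)) :=
  Lgr Lrot1 (Lpr_at (f483967 IH) (Lpe (f485725 IH) (Lpr_at (f532805 IH) (Lpn (LP (LK LD1_c13 LD2_c17 LD3_c56))))))
theorem f115943 : Led Lsl_at (LP (LK LD1_c13 LD2_c5 LD3_c32)) = (LP (LK LD1_c6 LD2_c53 LD3_c21)) :=
  Lre_a IH (LK LD1_c13 LD2_c5 LD3_c32) (LK LD1_c6 LD2_c53 LD3_c21) Lrfl Lrfl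
theorem f535244 : Led Lsl_bf (LP (LK LD1_c13 LD2_c5 LD3_c32)) = (LP (LK LD1_c13 LD2_c17 LD3_c56)) :=
  Lgr Lrot81 (Lpr_at (f115943 IH) (Lpr_bt (K4.f115935 IH) (Lpe (K29.f484090 IH) (Lpr_bt (K46.f467635 IH) (Lpr_at (f532805 IH) (Lpn (LP (LK LD1_c13 LD2_c17 LD3_c56))))))))
theorem f441042 : Led Lsl_gt (LP (LK LD1_c6 LD2_c53 LD3_c18)) = (LP (LK LD1_c13 LD2_c5 LD3_c32)) :=
  Lre_g IH (LK LD1_c6 LD2_c53 LD3_c18) (LK LD1_c13 LD2_c5 LD3_c32) Lrfl Lrfl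
theorem f94312 : Led Lsl_gt (LP (LK LD1_c3 LD2_c25 LD3_c43)) = (LP (LK LD1_c6 LD2_c53 LD3_c18)) :=
  Lre_g IH (LK LD1_c3 LD2_c25 LD3_c43) (LK LD1_c6 LD2_c53 LD3_c18) Lrfl Lrfl
theorem f493798 : Led Lsl_bt (LP (LK LD1_c7 LD2_c0 LD3_c24)) = (LP (LK LD1_c6 LD2_c53 LD3_c18)) :=
  Lgr Lrot92 (Lpr_ct (K30.f493793 IH) (Lpr_gt (K30.f440747 IH) (Lpe (K30.f467653 IH) (Lpr_bt (K30.f457005 IH) (Lpr_gt (K28.f5329 IH) (Lpr_ct (K30.f4036 IH) (Lpr_gt (K34.f457004 IH) (Lpq (K34.f481865 IH) (Lpe (K29.f94290 IH) (Lpr_bt (K29.f94311 IH) (Lpr_gt (f94312 IH) (Lpn (LP (LK LD1_c6 LD2_c53 LD3_c18))))))))))))))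
theorem f95511 : Led Lsl_gt (LP (LK LD1_c3 LD2_c45 LD3_c54)) = (LP (LK LD1_c7 LD2_c32 LD3_c32)) :=
  Lre_g IH (LK LD1_c3 LD2_c45 LD3_c54) (LK LD1_c7 LD2_c32 LD3_c32) Lrfl Lrfl
theorem f467642 : Led Lsl_bt (LP (LK LD1_c3 LD2_c39 LD3_c7)) = (LP (LK LD1_c7 LD2_c18 LD3_c37)) :=
  Lre_b IH (LK LD1_c3 LD2_c39 LD3_c7) (LK LD1_c7 LD2_c18 LD3_c37) Lrfl Lrfl
theorem f467643 : Led Lsl_ft (LP (LK LD1_c7 LD2_c18 LD3_c37)) = (LP (LK LD1_c3 LD2_c44 LD3_c57)) :=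
  Lgr Lrot75 (Lpe (f467642 IH) (Lpr_ff (K30.f467640 IH) (Lpe (K3.f95343 IH) (Lpn (LP (LK LD1_c3 LD2_c44 LD3_c57))))))
theorem f467649 : Led Lsl_gt (LP (LK LD1_c7 LD2_c18 LD3_c37)) = (LP (LK LD1_c13 LD2_c49 LD3_c52)) :=
  Lre_g IH (LK LD1_c7 LD2_c18 LD3_c37) (LK LD1_c13 LD2_c49 LD3_c52) Lrfl Lrfl
theorem f95502 : Led Lsl_at (LP (LK LD1_c3 LD2_c44 LD3_c57)) = (LP (LK LD1_c7 LD2_c30 LD3_c46)) :=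
  Lre_a IH (LK LD1_c3 LD2_c44 LD3_c57) (LK LD1_c7 LD2_c30 LD3_c46) Lrfl Lrfl
theorem f467665 : Led Lsl_gt (LP (LK LD1_c13 LD2_c49 LD3_c52)) = (LP (LK LD1_c7 LD2_c30 LD3_c46)) :=
  Lgr Lrot46 (Lpe (f467649 IH) (Lpr_ft (f467643 IH) (Lpr_at (f95502 IH) (Lpn (LP (LK LD1_c7 LD2_c30 LD3_c46))))))
theorem f660835 : Led Lsl_bt (LP (LK LD1_c22 LD2_c31 LD3_c61)) = (LP (LK LD1_c13 LD2_c49 LD3_c52)) :=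
  Lgr Lrot130 (Lpr_ct (f660827 IH) (Lpe (f483963 IH) (Lpr_cf (f535246 IH) (Lpe (f535244 IH) (Lpe (f441042 IH) (Lpe (f493798 IH) (Lpr_ct (K30.f493793 IH) (Lpe (f95511 IH) (Lpe (K3.f95509 IH) (Lpe (f467665 IH) (Lpn (LP (LK LD1_c13 LD2_c49 LD3_c52)))))))))))))
theorem f660837 : Led Lsl_bf (LP (LK LD1_c22 LD2_c31 LD3_c61)) = (LP (LK LD1_c13 LD2_c49 LD3_c52)) :=
  Lgr Lrot24 (Lpr_bt (f660835 IH) (Lpn (LP (LK LD1_c13 LD2_c49 LD3_c52))))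
theorem f661056 : Led Lsl_cf (LP (LK LD1_c12 LD2_c33 LD3_c13)) = (LP (LK LD1_c13 LD2_c49 LD3_c52)) :=
  Lgr Lrot160 (Lpr_gt (f129914 IH) (Lpe (f440750 IH) (Lpr_bt (f120511 IH) (Lpr_gt (f661055 IH) (Lpe (f660820 IH) (Lpr_gt (f442083 IH) (Lpe (f609425 IH) (Lpe (f610242 IH) (Lpr_gt (f610265 IH) (Lpr_bf (f660837 IH) (Lpn (LP (LK LD1_c13 LD2_c49 LD3_c52)))))))))))))
theorem f661057 : Led Lsl_ct (LP (LK LD1_c13 LD2_c49 LD3_c52)) = (LP (LK LD1_c12 LD2_c33 LD3_c13)) :=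
  Leop (Lpr_cf (f661056 IH) (Lpn (LP (LK LD1_c13 LD2_c49 LD3_c52))))
theorem seed_436 : LEOK LG_c (LK LD1_c13 LD2_c49 LD3_c52) :=
  Leoe_c (LK LD1_c13 LD2_c49 LD3_c52) (f661057 IH)
def v7113 : LQ := Led Lsl_ft (LP (LK LD1_c3 LD2_c39 LD3_c18))
theorem f661179 : Led Lsl_ft (LP (LK LD1_c3 LD2_c39 LD3_c18)) = v7113 :=
  Lrfl
theorem f5092 : Led Lsl_gt (LP (LK LD1_c3 LD2_c39 LD3_c18)) = (LP (LK LD1_c7 LD2_c18 LD3_c50)) :=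
  Lre_g IH (LK LD1_c3 LD2_c39 LD3_c18) (LK LD1_c7 LD2_c18 LD3_c50) Lrfl Lrfl
theorem f661180 : Led Lsl_af (LP (LK LD1_c7 LD2_c16 LD3_c51)) = v7113 :=
  Lgr Lrot45 (Lpr_ft (f5058 IH) (Lpr_at (K33.f5332 IH) (Lpr_ft (f661179 IH) (Lpn v7113))))
theorem f661184 : Led Lsl_gt (LP (LK LD1_c7 LD2_c18 LD3_c50)) = (LP (LK LD1_c7 LD2_c16 LD3_c51)) :=
  Lgr Lrot46 (Lpe (f5092 IH) (Lpr_ft (f661179 IH) (Lpe (f661180 IH) (Lpn (LP (LK LD1_c7 LD2_c16 LD3_c51))))))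
theorem f661185 : Led Lsl_gt (LP (LK LD1_c7 LD2_c18 LD3_c50)) = (LP (LK LD1_c7 LD2_c16 LD3_c51)) :=
  Leop (Lpe (f661184 IH) (Lpn (LP (LK LD1_c7 LD2_c18 LD3_c50))))
theorem seed_437 : LEOK LG_g (LK LD1_c7 LD2_c18 LD3_c50) :=
  Leoe_g (LK LD1_c7 LD2_c18 LD3_c50) (f661185 IH)

end

end K47

end

end Cfsg.Agent.Helper28.S1692
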