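import Cfsg.Agent.Lib.Helper28.S1692.Seeds47

set_option autoImplicit false
set_option maxRecDepth 100000
set_option linter.all false

namespace Cfsg.Agent.Helper28.S1692

open Cfsg.Agent.Helper28
open Cfsg.Spor.ON (Gen)

noncomputable section

namespace K48
abbrev LD1_c0 := D1.c0
abbrev LD1_c1 := D1.c1
abbrev LD1_c2 := D1.c2
abbrev LD1_c3 := D1.c3
abbrev LD1_c4 := D1.c4
abbrev LD1_c5 := D1.c5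
abbrev LD1_c6 := D1.c6
abbrev LD1_c7 := D1.c7
abbrev LD1_c8 := D1.c8
abbrev LD1_c9 := D1.c9
abbrev LD1_c10 := D1.c10
abbrev LD1_c11 := D1.c11
abbrev LD1_c12 := D1.c12
abbrev LD1_c13 := D1.c13
abbrev LD1_c14 := D1.c14
abbrev LD1_c15 := D1.c15
abbrev LD1_c16 := D1.c16
abbrev LD1_c17 := D1.c17
abbrev LD1_c18 := D1.c18
abbrev LD1_c19 := D1.c19
abbrev LD1_c20 := D1.c20
abbrev LD1_c21 := D1.c21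
abbrev LD1_c22 := D1.c22
abbrev LD1_c23 := D1.c23
abbrev LD1_c24 := D1.c24
abbrev LD1_c25 := D1.c25
abbrev LD1_c26 := D1.c26
abbrev LD1_c27 := D1.c27
abbrev LD1_c28 := D1.c28
abbrev LD1_c29 := D1.c29
abbrev LD1_c30 := D1.c30
abbrev LD1_c31 := D1.c31
abbrev LD1_c32 := D1.c32
abbrev LD2_c0 := D2.c0
abbrev LD2_c1 := D2.c1
abbrev LD2_c2 := D2.c2
abbrev LD2_c3 := D2.c3
abbrev LD2_c4 := D2.c4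
abbrev LD2_c5 := D2.c5
abbrev LD2_c6 := D2.c6
abbrev LD2_c7 := D2.c7
abbrev LD2_c8 := D2.c8
abbrev LD2_c9 := D2.c9
abbrev LD2_c10 := D2.c10
abbrev LD2_c11 := D2.c11
abbrev LD2_c12 := D2.c12
abbrev LD2_c13 := D2.c13
abbrev LD2_c14 := D2.c14
abbrev LD2_c15 := D2.c15
abbrev LD2_c16 := D2.c16
abbrev LD2_c17 := D2.c17
abbrev LD2_c18 := D2.c18
abbrev LD2_c19 := D2.c19
abbrev LD2_c20 := D2.c20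
abbrev LD2_c21 := D2.c21
abbrev LD2_c22 := D2.c22
abbrev LD2_c23 := D2.c23
abbrev LD2_c24 := D2.c24
abbrev LD2_c25 := D2.c25
abbrev LD2_c26 := D2.c26
abbrev LD2_c27 := D2.c27
abbrev LD2_c28 := D2.c28
abbrev LD2_c29 := D2.c29
abbrev LD2_c30 := D2.c30
abbrev LD2_c31 := D2.c31
abbrev LD2_c32 := D2.c32
abbrev LD2_c33 := D2.c33
abbrev LD2_c34 := D2.c34
abbrev LD2_c35 := D2.c35
abbrev LD2_c36 := D2.c36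
abbrev LD2_c37 := D2.c37
abbrev LD2_c38 := D2.c38
abbrev LD2_c39 := D2.c39
abbrev LD2_c40 := D2.c40
abbrev LD2_c41 := D2.c41
abbrev LD2_c42 := D2.c42
abbrev LD2_c43 := D2.c43
abbrev LD2_c44 := D2.c44
abbrev LD2_c45 := D2.c45
abbrev LD2_c46 := D2.c46
abbrev LD2_c47 := D2.c47
abbrev LD2_c48 := D2.c48
abbrev LD2_c49 := D2.c49
abbrev LD2_c50 := D2.c50
abbrev LD2_c51 := D2.c51
abbrev LD2_c52 := D2.c52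
abbrev LD2_c53 := D2.c53
abbrev LD2_c54 := D2.c54
abbrev LD2_c55 := D2.c55
abbrev LD2_c56 := D2.c56
abbrev LD2_c57 := D2.c57
abbrev LD2_c58 := D2.c58
abbrev LD2_c59 := D2.c59
abbrev LD3_c0 := D3.c0
abbrev LD3_c1 := D3.c1
abbrev LD3_c2 := D3.c2
abbrev LD3_c3 := D3.c3
abbrev LD3_c4 := D3.c4
abbrev LD3_c5 := D3.c5
abbrev LD3_c6 := D3.c6
abbrev LD3_c7 := D3.c7
abbrev LD3_c8 := D3.c8
abbrev LD3_c9 := D3.c9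
abbrev LD3_c10 := D3.c10
abbrev LD3_c11 := D3.c11
abbrev LD3_c12 := D3.c12
abbrev LD3_c13 := D3.c13
abbrev LD3_c14 := D3.c14
abbrev LD3_c15 := D3.c15
abbrev LD3_c16 := D3.c16
abbrev LD3_c17 := D3.c17
abbrev LD3_c18 := D3.c18
abbrev LD3_c19 := D3.c19
abbrev LD3_c20 := D3.c20
abbrev LD3_c21 := D3.c21
abbrev LD3_c22 := D3.c22
abbrev LD3_c23 := D3.c23
abbrev LD3_c24 := D3.c24
abbrev LD3_c25 := D3.c25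
abbrev LD3_c26 := D3.c26
abbrev LD3_c27 := D3.c27
abbrev LD3_c28 := D3.c28
abbrev LD3_c29 := D3.c29
abbrev LD3_c30 := D3.c30
abbrev LD3_c31 := D3.c31
abbrev LD3_c32 := D3.c32
abbrev LD3_c33 := D3.c33
abbrev LD3_c34 := D3.c34
abbrev LD3_c35 := D3.c35
abbrev LD3_c36 := D3.c36
abbrev LD3_c37 := D3.c37
abbrev LD3_c38 := D3.c38
abbrev LD3_c39 := D3.c39
abbrev LD3_c40 := D3.c40
abbrev LD3_c41 := D3.c41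
abbrev LD3_c42 := D3.c42
abbrev LD3_c43 := D3.c43
abbrev LD3_c44 := D3.c44
abbrev LD3_c45 := D3.c45
abbrev LD3_c46 := D3.c46
abbrev LD3_c47 := D3.c47
abbrev LD3_c48 := D3.c48
abbrev LD3_c49 := D3.c49
abbrev LD3_c50 := D3.c50
abbrev LD3_c51 := D3.c51
abbrev LD3_c52 := D3.c52
abbrev LD3_c53 := D3.c53
abbrev LD3_c54 := D3.c54
abbrev LD3_c55 := D3.c55
abbrev LD3_c56 := D3.c56
abbrev LD3_c57 := D3.c57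
abbrev LD3_c58 := D3.c58
abbrev LD3_c59 := D3.c59
abbrev LD3_c60 := D3.c60
abbrev LD3_c61 := D3.c61
abbrev LG_g := Gen.g
abbrev Lsl_gt : Gen × Bool := sl_gt
alias Lfl_gt := fl_gt
alias Lpr_gt := pr_gt
abbrev Lsl_gf : Gen × Bool := sl_gf
alias Lfl_gf := fl_gf
alias Lpr_gf := pr_gf
alias Lre_g := re_g
alias Leoe_g := eoe_g
abbrev LG_a := Gen.a
abbrev Lsl_at : Gen × Bool := sl_at
alias Lfl_at := fl_at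
alias Lpr_at := pr_at
abbrev Lsl_af : Gen × Bool := sl_af
alias Lfl_af := fl_af
alias Lpr_af := pr_af
alias Lre_a := re_a
alias Leoe_a := eoe_a
abbrev LG_b := Gen.b
abbrev Lsl_bt : Gen × Bool := sl_bt
alias Lfl_bt := fl_bt
alias Lpr_bt := pr_bt
abbrev Lsl_bf : Gen × Bool := sl_bf
alias Lfl_bf := fl_bf
alias Lpr_bf := pr_bf
alias Lre_b := re_b
alias Leoe_b := eoe_b
abbrev LG_c := Gen.c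
abbrev Lsl_ct : Gen × Bool := sl_ct
alias Lfl_ct := fl_ct
alias Lpr_ct := pr_ct
abbrev Lsl_cf : Gen × Bool := sl_cf
alias Lfl_cf := fl_cf
alias Lpr_cf := pr_cf
alias Lre_c := re_c
alias Leoe_c := eoe_c
abbrev LG_d := Gen.d
abbrev Lsl_dt : Gen × Bool := sl_dt
alias Lfl_dt := fl_dt
alias Lpr_dt := pr_dt
abbrev Lsl_df : Gen × Bool := sl_df
alias Lfl_df := fl_df
alias Lpr_df := pr_df
alias Lre_d := re_d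
alias Leoe_d := eoe_d
abbrev LG_e := Gen.e
abbrev Lsl_et : Gen × Bool := sl_et
alias Lfl_et := fl_et
alias Lpr_et := pr_et
abbrev Lsl_ef : Gen × Bool := sl_ef
alias Lfl_ef := fl_ef
alias Lpr_ef := pr_ef
alias Lre_e := re_e
alias Leoe_e := eoe_e
abbrev LG_f := Gen.f
abbrev Lsl_ft : Gen × Bool := sl_ft
alias Lfl_ft := fl_ft
alias Lpr_ft := pr_ft
abbrev Lsl_ff : Gen × Bool := sl_ff
alias Lfl_ff := fl_ff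
alias Lpr_ff := pr_ff
alias Lre_f := re_f
alias Leoe_f := eoe_f
abbrev LK := Pt.mk
abbrev LQ : Type := Qt rels S
abbrev LP (p : Pt) : LQ := P p
abbrev Led (l : Gen × Bool) (c : LQ) : LQ := ed l c
abbrev LEOK (x : Gen) (p : Pt) : Prop := EntryOK rels S fwd inv o plet idx x p
alias Lpe := pe
alias Lpn := pn
alias Lgr := gr
alias Lpq := pq
alias Lpqs := pqs
alias Llr := lr
alias Leop := eop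
alias Lefun := efun
alias Lecon := econ
theorem Lrfl {α : Sort _} {a : α} : a = a := rfl
alias Lrot0 := rot0
alias Lrot1 := rot1
alias Lrot2 := rot2
alias Lrot3 := rot3
alias Lrot4 := rot4
alias Lrot5 := rot5
alias Lrot6 := rot6
alias Lrot7 := rot7
alias Lrot8 := rot8
alias Lrot9 := rot9
alias Lrot10 := rot10
alias Lrot11 := rot11
alias Lrot12 := rot12
alias Lrot14 := rot14
alias Lrot15 := rot15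
alias Lrot17 := rot17
alias Lrot18 := rot18
alias Lrot19 := rot19
alias Lrot20 := rot20
alias Lrot21 := rot21
alias Lrot22 := rot22
alias Lrot23 := rot23
alias Lrot24 := rot24
alias Lrot25 := rot25
alias Lrot26 := rot26
alias Lrot27 := rot27
alias Lrot28 := rot28
alias Lrot29 := rot29
alias Lrot30 := rot30
alias Lrot31 := rot31
alias Lrot33 := rot33
alias Lrot34 := rot34
alias Lrot35 := rot35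
alias Lrot36 := rot36
alias Lrot37 := rot37
alias Lrot38 := rot38
alias Lrot39 := rot39
alias Lrot40 := rot40
alias Lrot41 := rot41
alias Lrot42 := rot42
alias Lrot44 := rot44
alias Lrot45 := rot45
alias Lrot46 := rot46
alias Lrot47 := rot47
alias Lrot48 := rot48
alias Lrot49 := rot49
alias Lrot50 := rot50
alias Lrot51 := rot51
alias Lrot52 := rot52
alias Lrot53 := rot53
alias Lrot54 := rot54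
alias Lrot55 := rot55
alias Lrot56 := rot56
alias Lrot57 := rot57
alias Lrot58 := rot58
alias Lrot59 := rot59
alias Lrot60 := rot60
alias Lrot61 := rot61
alias Lrot62 := rot62
alias Lrot63 := rot63
alias Lrot64 := rot64
alias Lrot65 := rot65
alias Lrot66 := rot66
alias Lrot67 := rot67
alias Lrot68 := rot68
alias Lrot69 := rot69
alias Lrot70 := rot70
alias Lrot71 := rot71
alias Lrot72 := rot72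
alias Lrot73 := rot73
alias Lrot74 := rot74
alias Lrot75 := rot75
alias Lrot76 := rot76
alias Lrot77 := rot77
alias Lrot78 := rot78
alias Lrot79 := rot79
alias Lrot80 := rot80
alias Lrot81 := rot81
alias Lrot82 := rot82
alias Lrot83 := rot83
alias Lrot84 := rot84
alias Lrot86 := rot86
alias Lrot87 := rot87
alias Lrot88 := rot88
alias Lrot90 := rot90
alias Lrot91 := rot91
alias Lrot92 := rot92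
alias Lrot93 := rot93
alias Lrot94 := rot94
alias Lrot95 := rot95
alias Lrot96 := rot96
alias Lrot97 := rot97
alias Lrot99 := rot99
alias Lrot100 := rot100
alias Lrot101 := rot101
alias Lrot103 := rot103
alias Lrot104 := rot104
alias Lrot105 := rot105
alias Lrot106 := rot106
alias Lrot107 := rot107
alias Lrot108 := rot108
alias Lrot110 := rot110
alias Lrot111 := rot111
alias Lrot112 := rot112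
alias Lrot113 := rot113
alias Lrot114 := rot114
alias Lrot116 := rot116
alias Lrot117 := rot117
alias Lrot119 := rot119
alias Lrot121 := rot121
alias Lrot122 := rot122
alias Lrot123 := rot123
alias Lrot124 := rot124
alias Lrot125 := rot125
alias Lrot126 := rot126
alias Lrot127 := rot127
alias Lrot128 := rot128
alias Lrot129 := rot129
alias Lrot130 := rot130
alias Lrot131 := rot131
alias Lrot132 := rot132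
alias Lrot134 := rot134
alias Lrot135 := rot135
alias Lrot136 := rot136
alias Lrot137 := rot137
alias Lrot138 := rot138
alias Lrot139 := rot139
alias Lrot141 := rot141
alias Lrot143 := rot143
alias Lrot144 := rot144
alias Lrot145 := rot145
alias Lrot147 := rot147
alias Lrot148 := rot148
alias Lrot149 := rot149
alias Lrot150 := rot150
alias Lrot151 := rot151
alias Lrot152 := rot152
alias Lrot153 := rot153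
alias Lrot154 := rot154
alias Lrot155 := rot155
alias Lrot156 := rot156
alias Lrot158 := rot158
alias Lrot160 := rot160
alias Lrot162 := rot162
alias Lrot163 := rot163
alias Lrot164 := rot164
alias Lrot166 := rot166
alias Lrot167 := rot167
alias Lrot168 := rot168
alias Lrot169 := rot169
alias Lrot170 := rot170
alias Lrot171 := rot171
alias Lrot172 := rot172
alias Lrot173 := rot173
alias Lrot176 := rot176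
alias Lrot177 := rot177
alias Lrot181 := rot181
alias Lrot185 := rot185
alias Lrot189 := rot189

section
variable (IH : IHT)
include IH

theorem f661183 : Led Lsl_ff (LP (LK LD1_c3 LD2_c39 LD3_c18)) = K47.v7113 :=
  Lgr Lrot3 (Lpr_ft (K47.f661179 IH) (Lpn K47.v7113))
theorem f5303 : Led Lsl_gt (LP (LK LD1_c7 LD2_c16 LD3_c49)) = (LP (LK LD1_c3 LD2_c38 LD3_c14)) :=
  Lre_g IH (LK LD1_c7 LD2_c16 LD3_c49) (LK LD1_c3 LD2_c38 LD3_c14) Lrfl Lrfl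
theorem f661223 : Led Lsl_gf (LP (LK LD1_c7 LD2_c16 LD3_c49)) = K47.v7113 :=
  Lgr Lrot47 (Lpr_gt (f5303 IH) (Lpr_af (K33.f5543 IH) (Lpr_ff (f661183 IH) (Lpn K47.v7113))))
theorem f467391 : Led Lsl_ct (LP (LK LD1_c7 LD2_c16 LD3_c49)) = (LP (LK LD1_c13 LD2_c46 LD3_c35)) :=
  Lre_c IH (LK LD1_c7 LD2_c16 LD3_c49) (LK LD1_c13 LD2_c46 LD3_c35) Lrfl Lrfl
theorem f661220 : Led Lsl_bt K33.v2486 = K47.v7113 :=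
  Lgr Lrot35 (Lpe (K33.f522729 IH) (Lpe (K33.f5331 IH) (Lpr_ff (f661183 IH) (Lpn K47.v7113))))
theorem f522731 : Led Lsl_cf K33.v745 = K33.v2486 :=
  Lgr Lrot108 (Lpe (K33.f457036 IH) (Lpr_ct (K33.f5561 IH) (Lpr_ft (K33.f522729 IH) (Lpn K33.v2486))))
theorem f439367 : Led Lsl_et (LP (LK LD1_c3 LD2_c32 LD3_c18)) = (LP (LK LD1_c7 LD2_c5 LD3_c38)) :=
  Lre_e IH (LK LD1_c3 LD2_c32 LD3_c18) (LK LD1_c7 LD2_c5 LD3_c38) Lrfl Lrfl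
theorem f608863 : Led Lsl_gf (LP (LK LD1_c3 LD2_c39 LD3_c45)) = (LP (LK LD1_c7 LD2_c5 LD3_c38)) :=
  Lgr Lrot141 (Lpe (K47.f522281 IH) (Lpr_dt (K47.f514832 IH) (Lpr_gt (K47.f608849 IH) (Lpe (K42.f108107 IH) (Lpr_et (K40.f108098 IH) (Lpr_gt (K28.f203669 IH) (Lpr_dt (K40.f561111 IH) (Lpe (K13.f241378 IH) (Lpr_df (K39.f552209 IH) (Lpr_et (f439367 IH) (Lpn (LP (LK LD1_c7 LD2_c5 LD3_c38)))))))))))))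
theorem f439395 : Led Lsl_ct (LP (LK LD1_c13 LD2_c26 LD3_c39)) = (LP (LK LD1_c13 LD2_c38 LD3_c8)) :=
  Lgr Lrot59 (Lpr_cf (K46.f439388 IH) (Lpn (LP (LK LD1_c13 LD2_c38 LD3_c8))))
theorem f661226 : Led Lsl_gt (LP (LK LD1_c13 LD2_c46 LD3_c35)) = (LP (LK LD1_c13 LD2_c38 LD3_c8)) :=
  Lgr Lrot149 (Lpe (f467391 IH) (Lpr_gf (f661223 IH) (Lpe (f661220 IH) (Lpe (f522731 IH) (Lpe (K34.f457044 IH) (Lpe (K34.f5354 IH) (Lpr_bt (K46.f5355 IH) (Lpr_gf (f608863 IH) (Lpe (K46.f439392 IH) (Lpr_ct (f439395 IH) (Lpn (LP (LK LD1_c13 LD2_c38 LD3_c8)))))))))))))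
theorem f661227 : Led Lsl_gt (LP (LK LD1_c13 LD2_c46 LD3_c35)) = (LP (LK LD1_c13 LD2_c38 LD3_c8)) :=
  Leop (Lpe (f661226 IH) (Lpn (LP (LK LD1_c13 LD2_c46 LD3_c35))))
theorem seed_438 : LEOK LG_g (LK LD1_c13 LD2_c46 LD3_c35) :=
  Leoe_g (LK LD1_c13 LD2_c46 LD3_c35) (f661227 IH)
theorem f5068 : Led Lsl_ft (LP (LK LD1_c3 LD2_c38 LD3_c14)) = (LP (LK LD1_c7 LD2_c16 LD3_c51)) :=
  Lre_f IH (LK LD1_c3 LD2_c38 LD3_c14) (LK LD1_c7 LD2_c16 LD3_c51) Lrfl Lrfl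
theorem f661219 : Led Lsl_at (LP (LK LD1_c7 LD2_c16 LD3_c51)) = K47.v7113 :=
  Lgr Lrot66 (Lpe (f5068 IH) (Lpr_af (K33.f5543 IH) (Lpr_ff (f661183 IH) (Lpn K47.v7113))))
theorem f4392 : Led Lsl_gt (LP (LK LD1_c3 LD2_c38 LD3_c14)) = (LP (LK LD1_c7 LD2_c16 LD3_c48)) :=
  Lre_g IH (LK LD1_c3 LD2_c38 LD3_c14) (LK LD1_c7 LD2_c16 LD3_c48) Lrfl Lrfl
theorem f661240 : Led Lsl_gt (LP (LK LD1_c7 LD2_c16 LD3_c48)) = K47.v7113 :=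
  Lgr Lrot46 (Lpe (f4392 IH) (Lpr_ft (f5068 IH) (Lpr_at (f661219 IH) (Lpn K47.v7113))))
theorem f5314 : Led Lsl_ct (LP (LK LD1_c13 LD2_c46 LD3_c31)) = (LP (LK LD1_c7 LD2_c16 LD3_c48)) :=
  Lre_c IH (LK LD1_c13 LD2_c46 LD3_c31) (LK LD1_c7 LD2_c16 LD3_c48) Lrfl Lrfl
theorem f661221 : Led Lsl_ct K47.v7113 = K47.v7113 :=
  Lgr Lrot40 (Lpe (K47.f661179 IH) (Lpe (K33.f5559 IH) (Lpr_ff (f661183 IH) (Lpn K47.v7113))))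
theorem f661181 : Led Lsl_bf K33.v2486 = K47.v7113 :=
  Lgr Lrot61 (Lpe (K33.f522733 IH) (Lpr_bt (K33.f5558 IH) (Lpr_ft (K47.f661179 IH) (Lpn K47.v7113))))
theorem f479657 : Led Lsl_ct (LP (LK LD1_c1 LD2_c46 LD3_c44)) = (LP (LK LD1_c1 LD2_c50 LD3_c19)) :=
  Lgr Lrot59 (Lpr_cf (K33.f479654 IH) (Lpn (LP (LK LD1_c1 LD2_c50 LD3_c19))))
theorem f120279 : Led Lsl_gt (LP (LK LD1_c3 LD2_c46 LD3_c23)) = (LP (LK LD1_c7 LD2_c33 LD3_c48)) :=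
  Lre_g IH (LK LD1_c3 LD2_c46 LD3_c23) (LK LD1_c7 LD2_c33 LD3_c48) Lrfl Lrfl
theorem f661241 : Led Lsl_bt (LP (LK LD1_c13 LD2_c46 LD3_c31)) = (LP (LK LD1_c7 LD2_c33 LD3_c48)) :=
  Lgr Lrot92 (Lpr_ct (f5314 IH) (Lpr_gt (f661240 IH) (Lpe (f661221 IH) (Lpe (f661181 IH) (Lpe (K34.f522737 IH) (Lpr_ct (f479657 IH) (Lpr_gt (K30.f5770 IH) (Lpe (K47.f440977 IH) (Lpr_bt (K3.f109508 IH) (Lpr_gt (f120279 IH) (Lpn (LP (LK LD1_c7 LD2_c33 LD3_c48)))))))))))))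
theorem f661242 : Led Lsl_bt (LP (LK LD1_c13 LD2_c46 LD3_c31)) = (LP (LK LD1_c7 LD2_c33 LD3_c48)) :=
  Leop (Lpe (f661241 IH) (Lpn (LP (LK LD1_c13 LD2_c46 LD3_c31))))
theorem seed_439 : LEOK LG_b (LK LD1_c13 LD2_c46 LD3_c31) :=
  Leoe_b (LK LD1_c13 LD2_c46 LD3_c31) (f661242 IH)
def v7117 : LQ := Led Lsl_ft (LP (LK LD1_c3 LD2_c39 LD3_c19))
theorem f661272 : Led Lsl_ft (LP (LK LD1_c3 LD2_c39 LD3_c19)) = v7117 :=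
  Lrfl
theorem f661275 : Led Lsl_ff (LP (LK LD1_c3 LD2_c39 LD3_c19)) = v7117 :=
  Lgr Lrot3 (Lpr_ft (f661272 IH) (Lpn v7117))
theorem f661289 : Led Lsl_gf (LP (LK LD1_c3 LD2_c39 LD3_c42)) = v7117 :=
  Lgr Lrot47 (Lpr_gt (K47.f5637 IH) (Lpe (K0.f5110 IH) (Lpr_ff (f661275 IH) (Lpn v7117))))
theorem f660248 : Led Lsl_ct (LP (LK LD1_c3 LD2_c39 LD3_c42)) = (LP (LK LD1_c7 LD2_c19 LD3_c37)) :=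
  Lre_c IH (LK LD1_c3 LD2_c39 LD3_c42) (LK LD1_c7 LD2_c19 LD3_c37) Lrfl Lrfl
theorem f5115 : Led Lsl_dt (LP (LK LD1_c3 LD2_c39 LD3_c19)) = (LP (LK LD1_c1 LD2_c46 LD3_c37)) :=
  Lre_d IH (LK LD1_c3 LD2_c39 LD3_c19) (LK LD1_c1 LD2_c46 LD3_c37) Lrfl Lrfl
theorem f661288 : Led Lsl_dt K33.v2486 = v7117 :=
  Lgr Lrot60 (Lpe (K33.f522729 IH) (Lpe (f5115 IH) (Lpr_ff (f661275 IH) (Lpn v7117))))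
theorem f441455 : Led Lsl_ct (LP (LK LD1_c7 LD2_c33 LD3_c52)) = (LP (LK LD1_c3 LD2_c46 LD3_c25)) :=
  Lre_c IH (LK LD1_c7 LD2_c33 LD3_c52) (LK LD1_c3 LD2_c46 LD3_c25) Lrfl Lrfl
theorem f661291 : Led Lsl_gt (LP (LK LD1_c7 LD2_c19 LD3_c37)) = (LP (LK LD1_c7 LD2_c33 LD3_c52)) :=
  Lgr Lrot150 (Lpe (f660248 IH) (Lpr_gf (f661289 IH) (Lpe (f661288 IH) (Lpe (K34.f522737 IH) (Lpr_ct (f479657 IH) (Lpr_gt (K30.f5770 IH) (Lpr_ct (K34.f441443 IH) (Lpe (K42.f441444 IH) (Lpe (f441455 IH) (Lpn (LP (LK LD1_c7 LD2_c33 LD3_c52))))))))))))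
theorem f661292 : Led Lsl_gt (LP (LK LD1_c7 LD2_c19 LD3_c37)) = (LP (LK LD1_c7 LD2_c33 LD3_c52)) :=
  Leop (Lpe (f661291 IH) (Lpn (LP (LK LD1_c7 LD2_c19 LD3_c37))))
theorem seed_440 : LEOK LG_g (LK LD1_c7 LD2_c19 LD3_c37) :=
  Leoe_g (LK LD1_c7 LD2_c19 LD3_c37) (f661292 IH)
def v7124 : LQ := Led Lsl_gt (LP (LK LD1_c3 LD2_c39 LD3_c37))
theorem f661334 : Led Lsl_gt (LP (LK LD1_c3 LD2_c39 LD3_c37)) = v7124 :=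
  Lrfl
def v7125 : LQ := Led Lsl_gf (LP (LK LD1_c3 LD2_c39 LD3_c37))
theorem f661335 : Led Lsl_gf (LP (LK LD1_c3 LD2_c39 LD3_c37)) = v7125 :=
  Lrfl
theorem f661338 : Led Lsl_et (LP (LK LD1_c7 LD2_c17 LD3_c50)) = v7125 :=
  Lgr Lrot121 (Lpr_dt (K30.f481551 IH) (Lpe (K30.f10488 IH) (Lpe (K28.f10487 IH) (Lpr_et (K33.f10486 IH) (Lpe (K3.f10480 IH) (Lpe (K28.f10472 IH) (Lpr_dt (K33.f10483 IH) (Lpe (K33.f10484 IH) (Lpr_df (K33.f17508 IH) (Lpr_gf (f661335 IH) (Lpn v7125)))))))))))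
theorem f510813 : Led Lsl_ft (LP (LK LD1_c7 LD2_c14 LD3_c23)) = (LP (LK LD1_c7 LD2_c7 LD3_c61)) :=
  Lgr Lrot75 (Lpr_bf (K33.f493665 IH) (Lpr_ff (K33.f510811 IH) (Lpe (K29.f470797 IH) (Lpn (LP (LK LD1_c7 LD2_c7 LD3_c61))))))
theorem f511177 : Led Lsl_ff (LP (LK LD1_c7 LD2_c17 LD3_c50)) = (LP (LK LD1_c6 LD2_c52 LD3_c21)) :=
  Lgr Lrot19 (Lpr_dt (K30.f481551 IH) (Lpr_ft (f510813 IH) (Lpr_dt (K29.f472499 IH) (Lpn (LP (LK LD1_c6 LD2_c52 LD3_c21))))))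
theorem f458560 : Led Lsl_et (LP (LK LD1_c3 LD2_c24 LD3_c57)) = (LP (LK LD1_c6 LD2_c52 LD3_c21)) :=
  Lre_e IH (LK LD1_c3 LD2_c24 LD3_c57) (LK LD1_c6 LD2_c52 LD3_c21) Lrfl Lrfl
theorem f510706 : Led Lsl_ft (LP (LK LD1_c3 LD2_c24 LD3_c60)) = (LP (LK LD1_c3 LD2_c24 LD3_c57)) :=
  Lgr Lrot54 (Lpe (K33.f16740 IH) (Lpr_ff (K33.f510700 IH) (Lpe (K29.f458558 IH) (Lpn (LP (LK LD1_c3 LD2_c24 LD3_c57))))))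
theorem f657457 : Led Lsl_ef (LP (LK LD1_c3 LD2_c24 LD3_c60)) = K47.v6647 :=
  Lgr Lrot88 (Lpr_et (K47.f657454 IH) (Lpn K47.v6647))
theorem f661342 : Led Lsl_ff K47.v6647 = v7125 :=
  Lgr Lrot72 (Lpe (f657457 IH) (Lpr_ft (f510706 IH) (Lpr_et (f458560 IH) (Lpe (f511177 IH) (Lpr_et (f661338 IH) (Lpn v7125))))))
theorem f657455 : Led Lsl_af (LP (LK LD1_c7 LD2_c6 LD3_c19)) = K47.v6647 :=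
  Lgr Lrot50 (Lpr_et (K24.f93156 IH) (Lpe (K32.f510682 IH) (Lpr_et (K47.f657454 IH) (Lpn K47.v6647))))
theorem f661345 : (LP (LK LD1_c7 LD2_c6 LD3_c19)) = v7124 :=
  (Llr Lrot26 (Lpr_af (f657455 IH) (Lpr_ff (f661342 IH) (Lpe (f661335 IH) (Lpr_gt (f661334 IH) (Lpn v7124)))))).symm
theorem f661346 : Led Lsl_gt (LP (LK LD1_c3 LD2_c39 LD3_c37)) = (LP (LK LD1_c7 LD2_c6 LD3_c19)) :=
  Leop (Lpqs (f661345 IH) (Lpe (f661334 IH) (Lpn (LP (LK LD1_c3 LD2_c39 LD3_c37)))))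
theorem seed_441 : LEOK LG_g (LK LD1_c3 LD2_c39 LD3_c37) :=
  Leoe_g (LK LD1_c3 LD2_c39 LD3_c37) (f661346 IH)
theorem f661341 : Led Lsl_ef (LP (LK LD1_c7 LD2_c17 LD3_c50)) = v7125 :=
  Lgr Lrot88 (Lpr_et (f661338 IH) (Lpn v7125))
theorem f510974 : Led Lsl_ft (LP (LK LD1_c13 LD2_c39 LD3_c12)) = (LP (LK LD1_c23 LD2_c4 LD3_c22)) :=
  Lre_f IH (LK LD1_c13 LD2_c39 LD3_c12) (LK LD1_c23 LD2_c4 LD3_c22) Lrfl Lrfl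
theorem f621978 : Led Lsl_ft (LP (LK LD1_c23 LD2_c8 LD3_c16)) = (LP (LK LD1_c13 LD2_c42 LD3_c25)) :=
  Lre_f IH (LK LD1_c23 LD2_c8 LD3_c16) (LK LD1_c13 LD2_c42 LD3_c25) Lrfl Lrfl
theorem f621979 : Led Lsl_dt (LP (LK LD1_c23 LD2_c4 LD3_c22)) = (LP (LK LD1_c23 LD2_c8 LD3_c16)) :=
  Lgr Lrot60 (Lpe (f510974 IH) (Lpr_df (K47.f621972 IH) (Lpe (f621978 IH) (Lpn (LP (LK LD1_c23 LD2_c8 LD3_c16))))))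
theorem f621984 : Led Lsl_df (LP (LK LD1_c23 LD2_c4 LD3_c22)) = (LP (LK LD1_c23 LD2_c8 LD3_c16)) :=
  Lgr Lrot38 (Lpr_dt (f621979 IH) (Lpn (LP (LK LD1_c23 LD2_c8 LD3_c16))))
theorem f540697 : Led Lsl_df (LP (LK LD1_c7 LD2_c56 LD3_c56)) = (LP (LK LD1_c13 LD2_c31 LD3_c6)) :=
  Lgr Lrot84 (Lpe (K6.f37050 IH) (Lpr_df (K28.f202057 IH) (Lpe (K28.f38225 IH) (Lpe (K11.f38218 IH) (Lpe (K11.f80736 IH) (Lpe (K11.f80742 IH) (Lpr_gt (K36.f540693 IH) (Lpr_dt (K36.f98027 IH) (Lpr_gt (K41.f441964 IH) (Lpn (LP (LK LD1_c13 LD2_c31 LD3_c6))))))))))))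
theorem f541070 : Led Lsl_gf (LP (LK LD1_c13 LD2_c24 LD3_c35)) = (LP (LK LD1_c20 LD2_c26 LD3_c20)) :=
  Lgr Lrot141 (Lpe (K41.f457473 IH) (Lpr_dt (K33.f450705 IH) (Lpe (K28.f463582 IH) (Lpe (K43.f92307 IH) (Lpr_et (K36.f98043 IH) (Lpr_gt (K41.f441964 IH) (Lpe (f540697 IH) (Lpr_gt (K36.f159214 IH) (Lpr_df (K36.f541060 IH) (Lpr_et (K42.f239056 IH) (Lpn (LP (LK LD1_c20 LD2_c26 LD3_c20)))))))))))))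
theorem f510966 : Led Lsl_at (LP (LK LD1_c13 LD2_c24 LD3_c35)) = (LP (LK LD1_c13 LD2_c39 LD3_c12)) :=
  Lgr Lrot80 (Lpe (K41.f457473 IH) (Lpr_af (K33.f510956 IH) (Lpe (K47.f510965 IH) (Lpn (LP (LK LD1_c13 LD2_c39 LD3_c12))))))
theorem f510970 : Led Lsl_af (LP (LK LD1_c13 LD2_c24 LD3_c35)) = (LP (LK LD1_c13 LD2_c39 LD3_c12)) :=
  Lgr Lrot0 (Lpr_at (f510966 IH) (Lpn (LP (LK LD1_c13 LD2_c39 LD3_c12))))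
theorem f510982 : Led Lsl_ft (LP (LK LD1_c23 LD2_c4 LD3_c22)) = (LP (LK LD1_c13 LD2_c39 LD3_c12)) :=
  Lre_f IH (LK LD1_c23 LD2_c4 LD3_c22) (LK LD1_c13 LD2_c39 LD3_c12) Lrfl Lrfl
theorem f541072 : Led Lsl_gt (LP (LK LD1_c23 LD2_c4 LD3_c22)) = (LP (LK LD1_c20 LD2_c26 LD3_c20)) :=
  Lgr Lrot5 (Lpr_ft (f510982 IH) (Lpe (f510970 IH) (Lpr_gf (f541070 IH) (Lpn (LP (LK LD1_c20 LD2_c26 LD3_c20))))))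
theorem f98418 : Led Lsl_gt (LP (LK LD1_c22 LD2_c52 LD3_c14)) = (LP (LK LD1_c30 LD2_c46 LD3_c5)) :=
  Lre_g IH (LK LD1_c22 LD2_c52 LD3_c14) (LK LD1_c30 LD2_c46 LD3_c5) Lrfl Lrfl
theorem f621986 : Led Lsl_ef (LP (LK LD1_c30 LD2_c46 LD3_c5)) = (LP (LK LD1_c23 LD2_c8 LD3_c16)) :=
  Lgr Lrot17 (Lpe (f98418 IH) (Lpe (K47.f98138 IH) (Lpr_dt (K42.f98137 IH) (Lpe (K42.f98412 IH) (Lpe (K3.f6517 IH) (Lpr_gf (K41.f540975 IH) (Lpe (K42.f239057 IH) (Lpe (K36.f239017 IH) (Lpe (f541072 IH) (Lpr_df (f621984 IH) (Lpn (LP (LK LD1_c23 LD2_c8 LD3_c16)))))))))))))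
theorem f465677 : Led Lsl_ft (LP (LK LD1_c13 LD2_c27 LD3_c11)) = (LP (LK LD1_c22 LD2_c46 LD3_c45)) :=
  Lre_f IH (LK LD1_c13 LD2_c27 LD3_c11) (LK LD1_c22 LD2_c46 LD3_c45) Lrfl Lrfl
theorem f511005 : Led Lsl_et (LP (LK LD1_c22 LD2_c46 LD3_c45)) = (LP (LK LD1_c23 LD2_c4 LD3_c22)) :=
  Lgr Lrot69 (Lpe (f465677 IH) (Lpe (K33.f465664 IH) (Lpr_ff (K33.f510932 IH) (Lpe (K47.f510965 IH) (Lpe (f510982 IH) (Lpn (LP (LK LD1_c23 LD2_c4 LD3_c22))))))))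
theorem f621988 : Led Lsl_dt (LP (LK LD1_c30 LD2_c46 LD3_c5)) = (LP (LK LD1_c23 LD2_c7 LD3_c16)) :=
  Lgr Lrot77 (Lpr_ef (f621986 IH) (Lpe (f621979 IH) (Lpe (f511005 IH) (Lpr_df (K33.f465675 IH) (Lpr_ef (K33.f510795 IH) (Lpn (LP (LK LD1_c23 LD2_c7 LD3_c16))))))))
theorem f6508 : Led Lsl_et (LP (LK LD1_c7 LD2_c14 LD3_c38)) = (LP (LK LD1_c13 LD2_c42 LD3_c17)) :=
  Lre_e IH (LK LD1_c7 LD2_c14 LD3_c38) (LK LD1_c13 LD2_c42 LD3_c17) Lrfl Lrfl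
theorem f10543 : Led Lsl_gt (LP (LK LD1_c13 LD2_c39 LD3_c57)) = (LP (LK LD1_c23 LD2_c5 LD3_c24)) :=
  Lre_g IH (LK LD1_c13 LD2_c39 LD3_c57) (LK LD1_c23 LD2_c5 LD3_c24) Lrfl Lrfl
theorem f6496 : Led Lsl_at (LP (LK LD1_c7 LD2_c15 LD3_c5)) = (LP (LK LD1_c13 LD2_c39 LD3_c57)) :=
  Lre_a IH (LK LD1_c7 LD2_c15 LD3_c5) (LK LD1_c13 LD2_c39 LD3_c57) Lrfl Lrfl
theorem f98139 : Led Lsl_af (LP (LK LD1_c13 LD2_c42 LD3_c17)) = (LP (LK LD1_c22 LD2_c52 LD3_c18)) :=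
  Lgr Lrot45 (Lpr_ft (K3.f6181 IH) (Lpr_at (f6496 IH) (Lpr_ft (K36.f98135 IH) (Lpn (LP (LK LD1_c22 LD2_c52 LD3_c18))))))
theorem f98145 : Led Lsl_gt (LP (LK LD1_c23 LD2_c5 LD3_c24)) = (LP (LK LD1_c13 LD2_c42 LD3_c17)) :=
  Lgr Lrot46 (Lpe (f10543 IH) (Lpr_ft (K36.f98135 IH) (Lpe (f98139 IH) (Lpn (LP (LK LD1_c13 LD2_c42 LD3_c17))))))
theorem f464182 : Led Lsl_gt (LP (LK LD1_c22 LD2_c51 LD3_c61)) = (LP (LK LD1_c13 LD2_c31 LD3_c0)) :=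
  Lre_g IH (LK LD1_c22 LD2_c51 LD3_c61) (LK LD1_c13 LD2_c31 LD3_c0) Lrfl Lrfl
theorem f510877 : Led Lsl_gt (LP (LK LD1_c23 LD2_c7 LD3_c16)) = (LP (LK LD1_c22 LD2_c51 LD3_c61)) :=
  Lgr Lrot5 (Lpr_ft (K33.f464948 IH) (Lpr_at (K33.f510861 IH) (Lpe (f464182 IH) (Lpn (LP (LK LD1_c22 LD2_c51 LD3_c61))))))
theorem f510881 : Led Lsl_dt (LP (LK LD1_c30 LD2_c45 LD3_c61)) = (LP (LK LD1_c22 LD2_c51 LD3_c61)) :=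
  Lre_d IH (LK LD1_c30 LD2_c45 LD3_c61) (LK LD1_c22 LD2_c51 LD3_c61) Lrfl Lrfl
theorem f621994 : Led Lsl_ef (LP (LK LD1_c23 LD2_c5 LD3_c24)) = (LP (LK LD1_c30 LD2_c45 LD3_c61)) :=
  Lgr Lrot114 (Lpr_gt (f98145 IH) (Lpe (f6508 IH) (Lpr_dt (K3.f6517 IH) (Lpr_gt (K42.f98412 IH) (Lpe (K42.f98137 IH) (Lpr_et (K47.f98138 IH) (Lpr_gt (f98418 IH) (Lpr_dt (f621988 IH) (Lpr_gt (f510877 IH) (Lpe (f510881 IH) (Lpn (LP (LK LD1_c30 LD2_c45 LD3_c61)))))))))))))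
theorem f481310 : Led Lsl_et (LP (LK LD1_c13 LD2_c42 LD3_c27)) = (LP (LK LD1_c7 LD2_c14 LD3_c43)) :=
  Lre_e IH (LK LD1_c13 LD2_c42 LD3_c27) (LK LD1_c7 LD2_c14 LD3_c43) Lrfl Lrfl
theorem f621998 : Led Lsl_dt (LP (LK LD1_c13 LD2_c42 LD3_c27)) = (LP (LK LD1_c13 LD2_c31 LD3_c0)) :=
  Lgr Lrot37 (Lpr_et (f481310 IH) (Lpr_gt (K47.f467441 IH) (Lpr_dt (K35.f467440 IH) (Lpr_gt (K29.f10522 IH) (Lpe (K47.f10564 IH) (Lpr_et (K3.f10516 IH) (Lpr_gt (f10543 IH) (Lpr_ef (f621994 IH) (Lpr_dt (f510881 IH) (Lpr_gt (f464182 IH) (Lpn (LP (LK LD1_c13 LD2_c31 LD3_c0)))))))))))))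
theorem f466688 : Led Lsl_gt (LP (LK LD1_c7 LD2_c8 LD3_c40)) = (LP (LK LD1_c3 LD2_c33 LD3_c51)) :=
  Lre_g IH (LK LD1_c7 LD2_c8 LD3_c40) (LK LD1_c3 LD2_c33 LD3_c51) Lrfl Lrfl
theorem f525010 : Led Lsl_gt (LP (LK LD1_c3 LD2_c33 LD3_c55)) = (LP (LK LD1_c7 LD2_c8 LD3_c40)) :=
  Lgr Lrot5 (Lpr_ft (K34.f524028 IH) (Lpr_at (K35.f524941 IH) (Lpe (f466688 IH) (Lpn (LP (LK LD1_c7 LD2_c8 LD3_c40))))))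
theorem f455841 : Led Lsl_ct (LP (LK LD1_c7 LD2_c9 LD3_c22)) = (LP (LK LD1_c3 LD2_c34 LD3_c6)) :=
  Lre_c IH (LK LD1_c7 LD2_c9 LD3_c22) (LK LD1_c3 LD2_c34 LD3_c6) Lrfl Lrfl
theorem f525012 : Led Lsl_ct (LP (LK LD1_c7 LD2_c8 LD3_c40)) = (LP (LK LD1_c13 LD2_c31 LD3_c48)) :=
  Lre_c IH (LK LD1_c7 LD2_c8 LD3_c40) (LK LD1_c13 LD2_c31 LD3_c48) Lrfl Lrfl
theorem f525013 : Led Lsl_gf (LP (LK LD1_c7 LD2_c9 LD3_c22)) = (LP (LK LD1_c13 LD2_c31 LD3_c48)) :=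
  Lgr Lrot104 (Lpr_ct (f455841 IH) (Lpe (K47.f482405 IH) (Lpe (K33.f5943 IH) (Lpe (K2.f5940 IH) (Lpe (K29.f5909 IH) (Lpe (K24.f6071 IH) (Lpe (K34.f456039 IH) (Lpr_gt (f525010 IH) (Lpr_ct (f525012 IH) (Lpn (LP (LK LD1_c13 LD2_c31 LD3_c48))))))))))))
theorem f6041 : Led Lsl_gt (LP (LK LD1_c7 LD2_c9 LD3_c18)) = (LP (LK LD1_c13 LD2_c33 LD3_c6)) :=
  Lre_g IH (LK LD1_c7 LD2_c9 LD3_c18) (LK LD1_c13 LD2_c33 LD3_c6) Lrfl Lrfl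
theorem f6042 : Led Lsl_ct (LP (LK LD1_c13 LD2_c33 LD3_c6)) = (LP (LK LD1_c22 LD2_c55 LD3_c37)) :=
  Lre_c IH (LK LD1_c13 LD2_c33 LD3_c6) (LK LD1_c22 LD2_c55 LD3_c37) Lrfl Lrfl
theorem f6039 : Led Lsl_ct (LP (LK LD1_c13 LD2_c42 LD3_c41)) = (LP (LK LD1_c7 LD2_c14 LD3_c49)) :=
  Lre_c IH (LK LD1_c13 LD2_c42 LD3_c41) (LK LD1_c7 LD2_c14 LD3_c49) Lrfl Lrfl
theorem f6043 : Led Lsl_gf (LP (LK LD1_c13 LD2_c42 LD3_c41)) = (LP (LK LD1_c22 LD2_c55 LD3_c37)) :=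
  Lgr Lrot104 (Lpr_ct (f6039 IH) (Lpe (K47.f6038 IH) (Lpe (K33.f6037 IH) (Lpr_gf (K40.f6030 IH) (Lpe (K40.f6029 IH) (Lpe (K40.f6028 IH) (Lpe (K47.f6040 IH) (Lpr_gt (f6041 IH) (Lpr_ct (f6042 IH) (Lpn (LP (LK LD1_c22 LD2_c55 LD3_c37))))))))))))
theorem f6079 : Led Lsl_ct (LP (LK LD1_c7 LD2_c14 LD3_c49)) = (LP (LK LD1_c13 LD2_c42 LD3_c41)) :=
  Lre_c IH (LK LD1_c7 LD2_c14 LD3_c49) (LK LD1_c13 LD2_c42 LD3_c41) Lrfl Lrfl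
theorem f525023 : Led Lsl_bf (LP (LK LD1_c7 LD2_c14 LD3_c43)) = (LP (LK LD1_c7 LD2_c8 LD3_c40)) :=
  Lgr Lrot34 (Lpr_gf (K47.f481295 IH) (Lpe (K39.f6080 IH) (Lpr_ct (f6079 IH) (Lpr_gf (f6043 IH) (Lpe (f6042 IH) (Lpe (f6041 IH) (Lpe (K43.f6084 IH) (Lpr_ct (K33.f6085 IH) (Lpr_gf (f525013 IH) (Lpe (f525012 IH) (Lpn (LP (LK LD1_c7 LD2_c8 LD3_c40)))))))))))))
theorem f525017 : Led Lsl_et (LP (LK LD1_c13 LD2_c31 LD3_c49)) = (LP (LK LD1_c7 LD2_c8 LD3_c40)) :=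
  Lre_e IH (LK LD1_c13 LD2_c31 LD3_c49) (LK LD1_c7 LD2_c8 LD3_c40) Lrfl Lrfl
theorem f525032 : Led Lsl_bt (LP (LK LD1_c13 LD2_c42 LD3_c27)) = (LP (LK LD1_c13 LD2_c31 LD3_c49)) :=
  Lgr Lrot119 (Lpe (K47.f525031 IH) (Lpr_bf (f525023 IH) (Lpe (f525017 IH) (Lpn (LP (LK LD1_c13 LD2_c31 LD3_c49))))))
theorem f525036 : Led Lsl_bf (LP (LK LD1_c13 LD2_c42 LD3_c27)) = (LP (LK LD1_c13 LD2_c31 LD3_c49)) :=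
  Lgr Lrot24 (Lpr_bt (f525032 IH) (Lpn (LP (LK LD1_c13 LD2_c31 LD3_c49))))
theorem f622000 : Led Lsl_df (LP (LK LD1_c13 LD2_c31 LD3_c49)) = (LP (LK LD1_c13 LD2_c41 LD3_c57)) :=
  Lgr Lrot12 (Lpe (f525036 IH) (Lpr_dt (f621998 IH) (Lpe (K33.f493683 IH) (Lpn (LP (LK LD1_c13 LD2_c41 LD3_c57))))))
theorem f661351 : Led Lsl_dt (LP (LK LD1_c7 LD2_c8 LD3_c40)) = v7125 :=
  Lgr Lrot77 (Lpe (f525017 IH) (Lpr_df (f622000 IH) (Lpe (K33.f471451 IH) (Lpe (K30.f481551 IH) (Lpr_ef (f661341 IH) (Lpn v7125))))))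
theorem f525042 : Led Lsl_et (LP (LK LD1_c7 LD2_c8 LD3_c40)) = (LP (LK LD1_c13 LD2_c31 LD3_c49)) :=
  Lre_e IH (LK LD1_c7 LD2_c8 LD3_c40) (LK LD1_c13 LD2_c31 LD3_c49) Lrfl Lrfl
theorem f564876 : Led Lsl_ef (LP (LK LD1_c4 LD2_c23 LD3_c14)) = (LP (LK LD1_c3 LD2_c37 LD3_c1)) :=
  Lgr Lrot88 (Lpr_et (K41.f564870 IH) (Lpn (LP (LK LD1_c3 LD2_c37 LD3_c1))))
theorem f201539 : Led Lsl_et (LP (LK LD1_c8 LD2_c44 LD3_c59)) = (LP (LK LD1_c16 LD2_c22 LD3_c40)) :=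
  Lre_e IH (LK LD1_c8 LD2_c44 LD3_c59) (LK LD1_c16 LD2_c22 LD3_c40) Lrfl Lrfl
theorem f616098 : Led Lsl_gt (LP (LK LD1_c16 LD2_c22 LD3_c40)) = (LP (LK LD1_c13 LD2_c41 LD3_c22)) :=
  Lgr Lrot131 (Lpe (f201539 IH) (Lpr_dt (K18.f201530 IH) (Lpr_gf (K38.f297416 IH) (Lpe (K38.f550013 IH) (Lpe (K38.f237724 IH) (Lpr_ef (f564876 IH) (Lpr_dt (K30.f425229 IH) (Lpe (K30.f471336 IH) (Lpe (K29.f160110 IH) (Lpr_et (K29.f465159 IH) (Lpn (LP (LK LD1_c13 LD2_c41 LD3_c22)))))))))))))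
theorem f458651 : Led Lsl_et (LP (LK LD1_c3 LD2_c56 LD3_c5)) = (LP (LK LD1_c7 LD2_c53 LD3_c54)) :=
  Lre_e IH (LK LD1_c3 LD2_c56 LD3_c5) (LK LD1_c7 LD2_c53 LD3_c54) Lrfl Lrfl
theorem f614235 : Led Lsl_gt (LP (LK LD1_c8 LD2_c44 LD3_c61)) = (LP (LK LD1_c7 LD2_c53 LD3_c54)) :=
  Lgr Lrot131 (Lpe (K18.f201520 IH) (Lpr_dt (K18.f201463 IH) (Lpe (K45.f69738 IH) (Lpr_df (K45.f569768 IH) (Lpe (K45.f441958 IH) (Lpe (K41.f425532 IH) (Lpr_dt (K28.f97337 IH) (Lpr_gf (K34.f470835 IH) (Lpe (K33.f451247 IH) (Lpr_et (f458651 IH) (Lpn (LP (LK LD1_c7 LD2_c53 LD3_c54)))))))))))))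
theorem f201524 : Led Lsl_ft (LP (LK LD1_c8 LD2_c44 LD3_c61)) = (LP (LK LD1_c16 LD2_c22 LD3_c46)) :=
  Lre_f IH (LK LD1_c8 LD2_c44 LD3_c61) (LK LD1_c16 LD2_c22 LD3_c46) Lrfl Lrfl
theorem f458684 : Led Lsl_gt (LP (LK LD1_c7 LD2_c53 LD3_c54)) = (LP (LK LD1_c14 LD2_c53 LD3_c49)) :=
  Lre_g IH (LK LD1_c7 LD2_c53 LD3_c54) (LK LD1_c14 LD2_c53 LD3_c49) Lrfl Lrfl
theorem f614239 : Led Lsl_at (LP (LK LD1_c16 LD2_c22 LD3_c46)) = (LP (LK LD1_c14 LD2_c53 LD3_c49)) :=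
  Lgr Lrot26 (Lpe (f201524 IH) (Lpr_gt (f614235 IH) (Lpr_gt (f458684 IH) (Lpn (LP (LK LD1_c14 LD2_c53 LD3_c49))))))
theorem f614246 : Led Lsl_ff (LP (LK LD1_c16 LD2_c22 LD3_c40)) = (LP (LK LD1_c14 LD2_c53 LD3_c49)) :=
  Lgr Lrot30 (Lpr_at (K39.f201518 IH) (Lpr_ft (f201524 IH) (Lpr_at (f614239 IH) (Lpn (LP (LK LD1_c14 LD2_c53 LD3_c49))))))
theorem f614252 : Led Lsl_ft (LP (LK LD1_c16 LD2_c22 LD3_c40)) = (LP (LK LD1_c14 LD2_c53 LD3_c49)) :=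
  Lgr Lrot48 (Lpr_ff (f614246 IH) (Lpn (LP (LK LD1_c14 LD2_c53 LD3_c49))))
theorem f614241 : Led Lsl_af (LP (LK LD1_c16 LD2_c22 LD3_c46)) = (LP (LK LD1_c14 LD2_c53 LD3_c49)) :=
  Lgr Lrot0 (Lpr_at (f614239 IH) (Lpn (LP (LK LD1_c14 LD2_c53 LD3_c49))))
theorem f616102 : Led Lsl_gf (LP (LK LD1_c16 LD2_c22 LD3_c46)) = (LP (LK LD1_c13 LD2_c41 LD3_c22)) :=
  Lgr Lrot76 (Lpr_af (f614241 IH) (Lpe (f614252 IH) (Lpr_gt (f616098 IH) (Lpn (LP (LK LD1_c13 LD2_c41 LD3_c22))))))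
theorem f201482 : Led Lsl_ft (LP (LK LD1_c4 LD2_c23 LD3_c37)) = (LP (LK LD1_c8 LD2_c45 LD3_c2)) :=
  Lre_f IH (LK LD1_c4 LD2_c23 LD3_c37) (LK LD1_c8 LD2_c45 LD3_c2) Lrfl Lrfl
theorem f197777 : Led Lsl_ft (LP (LK LD1_c14 LD2_c59 LD3_c2)) = (LP (LK LD1_c7 LD2_c56 LD3_c31)) :=
  Lre_f IH (LK LD1_c14 LD2_c59 LD3_c2) (LK LD1_c7 LD2_c56 LD3_c31) Lrfl Lrfl
theorem f262300 : Led Lsl_et (LP (LK LD1_c8 LD2_c45 LD3_c2)) = (LP (LK LD1_c14 LD2_c59 LD3_c2)) :=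
  Lgr Lrot69 (Lpe (f201482 IH) (Lpe (K15.f201467 IH) (Lpr_ff (K15.f262292 IH) (Lpe (K15.f197740 IH) (Lpe (f197777 IH) (Lpn (LP (LK LD1_c14 LD2_c59 LD3_c2))))))))
theorem f201513 : Led Lsl_bt (LP (LK LD1_c16 LD2_c22 LD3_c46)) = (LP (LK LD1_c8 LD2_c45 LD3_c2)) :=
  Lre_b IH (LK LD1_c16 LD2_c22 LD3_c46) (LK LD1_c8 LD2_c45 LD3_c2) Lrfl Lrfl
theorem f197775 : Led Lsl_bt (LP (LK LD1_c14 LD2_c59 LD3_c2)) = (LP (LK LD1_c24 LD2_c46 LD3_c31)) :=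
  Lre_b IH (LK LD1_c14 LD2_c59 LD3_c2) (LK LD1_c24 LD2_c46 LD3_c31) Lrfl Lrfl
theorem f413165 : Led Lsl_ef (LP (LK LD1_c16 LD2_c22 LD3_c46)) = (LP (LK LD1_c24 LD2_c46 LD3_c31)) :=
  Lgr Lrot29 (Lpr_bt (f201513 IH) (Lpr_et (f262300 IH) (Lpr_bt (f197775 IH) (Lpn (LP (LK LD1_c24 LD2_c46 LD3_c31))))))
theorem f577148 : Led Lsl_ft (LP (LK LD1_c11 LD2_c32 LD3_c36)) = (LP (LK LD1_c7 LD2_c8 LD3_c26)) :=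
  Lgr Lrot48 (Lpr_ff (K43.f577137 IH) (Lpn (LP (LK LD1_c7 LD2_c8 LD3_c26))))
theorem f577152 : Led Lsl_et (LP (LK LD1_c20 LD2_c29 LD3_c32)) = (LP (LK LD1_c11 LD2_c32 LD3_c36)) :=
  Lre_e IH (LK LD1_c20 LD2_c29 LD3_c32) (LK LD1_c11 LD2_c32 LD3_c36) Lrfl Lrfl
theorem f577153 : Led Lsl_ft (LP (LK LD1_c29 LD2_c28 LD3_c29)) = (LP (LK LD1_c20 LD2_c29 LD3_c32)) :=
  Lre_f IH (LK LD1_c29 LD2_c28 LD3_c29) (LK LD1_c20 LD2_c29 LD3_c32) Lrfl Lrfl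
theorem f577122 : Led Lsl_ft (LP (LK LD1_c13 LD2_c31 LD3_c24)) = (LP (LK LD1_c22 LD2_c52 LD3_c38)) :=
  Lre_f IH (LK LD1_c13 LD2_c31 LD3_c24) (LK LD1_c22 LD2_c52 LD3_c38) Lrfl Lrfl
theorem f577154 : Led Lsl_ef (LP (LK LD1_c29 LD2_c28 LD3_c29)) = (LP (LK LD1_c22 LD2_c52 LD3_c38)) :=
  Lgr Lrot21 (Lpr_ft (f577153 IH) (Lpr_et (f577152 IH) (Lpr_ft (f577148 IH) (Lpr_et (K43.f565637 IH) (Lpr_ft (f577122 IH) (Lpn (LP (LK LD1_c22 LD2_c52 LD3_c38))))))))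
theorem f242207 : Led Lsl_bt (LP (LK LD1_c29 LD2_c28 LD3_c29)) = (LP (LK LD1_c20 LD2_c29 LD3_c36)) :=
  Lre_b IH (LK LD1_c29 LD2_c28 LD3_c29) (LK LD1_c20 LD2_c29 LD3_c36) Lrfl Lrfl
theorem f386008 : Led Lsl_ff (LP (LK LD1_c15 LD2_c10 LD3_c16)) = (LP (LK LD1_c9 LD2_c44 LD3_c38)) :=
  Lgr Lrot3 (Lpr_ft (K42.f385997 IH) (Lpn (LP (LK LD1_c9 LD2_c44 LD3_c38))))
theorem f386017 : Led Lsl_at (LP (LK LD1_c15 LD2_c10 LD3_c16)) = (LP (LK LD1_c11 LD2_c32 LD3_c37)) :=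
  Lgr Lrot26 (Lpr_ff (f386008 IH) (Lpr_gt (K12.f227480 IH) (Lpe (K18.f272614 IH) (Lpn (LP (LK LD1_c11 LD2_c32 LD3_c37))))))
theorem f227452 : Led Lsl_et (LP (LK LD1_c24 LD2_c59 LD3_c31)) = (LP (LK LD1_c15 LD2_c10 LD3_c16)) :=
  Lre_e IH (LK LD1_c24 LD2_c59 LD3_c31) (LK LD1_c15 LD2_c10 LD3_c16) Lrfl Lrfl
theorem f272582 : Led Lsl_et (LP (LK LD1_c11 LD2_c32 LD3_c37)) = (LP (LK LD1_c20 LD2_c29 LD3_c33)) :=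
  Lre_e IH (LK LD1_c11 LD2_c32 LD3_c37) (LK LD1_c20 LD2_c29 LD3_c33) Lrfl Lrfl
theorem f386019 : Led Lsl_af (LP (LK LD1_c24 LD2_c59 LD3_c31)) = (LP (LK LD1_c20 LD2_c29 LD3_c33)) :=
  Lgr Lrot50 (Lpr_et (f227452 IH) (Lpr_at (f386017 IH) (Lpr_et (f272582 IH) (Lpn (LP (LK LD1_c20 LD2_c29 LD3_c33))))))
theorem f386014 : Led Lsl_ft (LP (LK LD1_c24 LD2_c59 LD3_c31)) = (LP (LK LD1_c31 LD2_c44 LD3_c8)) :=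
  Lre_f IH (LK LD1_c24 LD2_c59 LD3_c31) (LK LD1_c31 LD2_c44 LD3_c8) Lrfl Lrfl
theorem f386025 : Led Lsl_ft (LP (LK LD1_c29 LD2_c28 LD3_c31)) = (LP (LK LD1_c20 LD2_c29 LD3_c33)) :=
  Lre_f IH (LK LD1_c29 LD2_c28 LD3_c31) (LK LD1_c20 LD2_c29 LD3_c33) Lrfl Lrfl
theorem f386026 : Led Lsl_at (LP (LK LD1_c31 LD2_c44 LD3_c8)) = (LP (LK LD1_c29 LD2_c28 LD3_c31)) :=
  Lgr Lrot66 (Lpe (f386014 IH) (Lpr_af (f386019 IH) (Lpe (f386025 IH) (Lpn (LP (LK LD1_c29 LD2_c28 LD3_c31))))))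
theorem f386030 : Led Lsl_ct (LP (LK LD1_c24 LD2_c59 LD3_c32)) = (LP (LK LD1_c31 LD2_c44 LD3_c8)) :=
  Lre_c IH (LK LD1_c24 LD2_c59 LD3_c32) (LK LD1_c31 LD2_c44 LD3_c8) Lrfl Lrfl
theorem f242208 : Led Lsl_ct (LP (LK LD1_c29 LD2_c28 LD3_c31)) = (LP (LK LD1_c20 LD2_c29 LD3_c36)) :=
  Lre_c IH (LK LD1_c29 LD2_c28 LD3_c31) (LK LD1_c20 LD2_c29 LD3_c36) Lrfl Lrfl
theorem f386031 : Led Lsl_af (LP (LK LD1_c24 LD2_c59 LD3_c32)) = (LP (LK LD1_c20 LD2_c29 LD3_c36)) :=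
  Lgr Lrot68 (Lpr_ct (f386030 IH) (Lpr_at (f386026 IH) (Lpr_ct (f242208 IH) (Lpn (LP (LK LD1_c20 LD2_c29 LD3_c36))))))
theorem f197785 : Led Lsl_ft (LP (LK LD1_c14 LD2_c59 LD3_c1)) = (LP (LK LD1_c24 LD2_c46 LD3_c35)) :=
  Lre_f IH (LK LD1_c14 LD2_c59 LD3_c1) (LK LD1_c24 LD2_c46 LD3_c35) Lrfl Lrfl
theorem f177053 : Led Lsl_et (LP (LK LD1_c11 LD2_c32 LD3_c38)) = (LP (LK LD1_c5 LD2_c53 LD3_c16)) :=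
  Lre_e IH (LK LD1_c11 LD2_c32 LD3_c38) (LK LD1_c5 LD2_c53 LD3_c16) Lrfl Lrfl
theorem f242211 : Led Lsl_ft (LP (LK LD1_c20 LD2_c29 LD3_c36)) = (LP (LK LD1_c11 LD2_c32 LD3_c38)) :=
  Lre_f IH (LK LD1_c20 LD2_c29 LD3_c36) (LK LD1_c11 LD2_c32 LD3_c38) Lrfl Lrfl
theorem f385975 : Led Lsl_et (LP (LK LD1_c24 LD2_c46 LD3_c35)) = (LP (LK LD1_c20 LD2_c29 LD3_c36)) :=
  Lgr Lrot69 (Lpe (f197785 IH) (Lpe (K37.f210750 IH) (Lpr_ff (K42.f385971 IH) (Lpe (f177053 IH) (Lpe (f242211 IH) (Lpn (LP (LK LD1_c20 LD2_c29 LD3_c36))))))))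
theorem f216682 : Led Lsl_dt (LP (LK LD1_c8 LD2_c44 LD3_c58)) = (LP (LK LD1_c16 LD2_c22 LD3_c38)) :=
  Lre_d IH (LK LD1_c8 LD2_c44 LD3_c58) (LK LD1_c16 LD2_c22 LD3_c38) Lrfl Lrfl
theorem f197769 : Led Lsl_dt (LP (LK LD1_c24 LD2_c46 LD3_c35)) = (LP (LK LD1_c14 LD2_c59 LD3_c2)) :=
  Lre_d IH (LK LD1_c24 LD2_c46 LD3_c35) (LK LD1_c14 LD2_c59 LD3_c2) Lrfl Lrfl
theorem f262258 : Led Lsl_at (LP (LK LD1_c16 LD2_c22 LD3_c38)) = (LP (LK LD1_c24 LD2_c46 LD3_c35)) :=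
  Lgr Lrot51 (Lpe (f216682 IH) (Lpr_af (K15.f262252 IH) (Lpe (f197769 IH) (Lpn (LP (LK LD1_c24 LD2_c46 LD3_c35))))))
theorem f386040 : Led Lsl_et (LP (LK LD1_c24 LD2_c59 LD3_c32)) = (LP (LK LD1_c16 LD2_c22 LD3_c38)) :=
  Lgr Lrot123 (Lpr_af (f386031 IH) (Lpe (f385975 IH) (Lpe (f262258 IH) (Lpn (LP (LK LD1_c16 LD2_c22 LD3_c38))))))
theorem f386047 : Led Lsl_ef (LP (LK LD1_c24 LD2_c59 LD3_c32)) = (LP (LK LD1_c16 LD2_c22 LD3_c38)) :=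
  Lgr Lrot88 (Lpr_et (f386040 IH) (Lpn (LP (LK LD1_c16 LD2_c22 LD3_c38))))
theorem f386035 : Led Lsl_at (LP (LK LD1_c24 LD2_c59 LD3_c32)) = (LP (LK LD1_c20 LD2_c29 LD3_c36)) :=
  Lgr Lrot100 (Lpr_af (f386031 IH) (Lpn (LP (LK LD1_c20 LD2_c29 LD3_c36))))
theorem f385985 : Led Lsl_af (LP (LK LD1_c14 LD2_c59 LD3_c1)) = (LP (LK LD1_c8 LD2_c44 LD3_c57)) :=
  Lgr Lrot50 (Lpe (K37.f210746 IH) (Lpr_at (K42.f385979 IH) (Lpe (K30.f210384 IH) (Lpn (LP (LK LD1_c8 LD2_c44 LD3_c57))))))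
theorem f210386 : Led Lsl_ft (LP (LK LD1_c16 LD2_c22 LD3_c38)) = (LP (LK LD1_c8 LD2_c44 LD3_c57)) :=
  Lre_f IH (LK LD1_c16 LD2_c22 LD3_c38) (LK LD1_c8 LD2_c44 LD3_c57) Lrfl Lrfl
theorem f385987 : Led Lsl_at (LP (LK LD1_c24 LD2_c46 LD3_c35)) = (LP (LK LD1_c16 LD2_c22 LD3_c38)) :=
  Lgr Lrot66 (Lpe (f197785 IH) (Lpr_af (f385985 IH) (Lpe (f210386 IH) (Lpn (LP (LK LD1_c16 LD2_c22 LD3_c38))))))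
theorem f386050 : Led Lsl_et (LP (LK LD1_c20 LD2_c29 LD3_c36)) = (LP (LK LD1_c24 LD2_c46 LD3_c35)) :=
  Lgr Lrot123 (Lpe (f386035 IH) (Lpr_ef (f386047 IH) (Lpe (f385987 IH) (Lpn (LP (LK LD1_c24 LD2_c46 LD3_c35))))))
theorem f577162 : Led Lsl_bt (LP (LK LD1_c24 LD2_c46 LD3_c35)) = (LP (LK LD1_c22 LD2_c52 LD3_c38)) :=
  Lgr Lrot119 (Lpe (f386050 IH) (Lpe (f242207 IH) (Lpr_ef (f577154 IH) (Lpn (LP (LK LD1_c22 LD2_c52 LD3_c38))))))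
theorem f197776 : Led Lsl_dt (LP (LK LD1_c14 LD2_c59 LD3_c2)) = (LP (LK LD1_c24 LD2_c46 LD3_c35)) :=
  Lre_d IH (LK LD1_c14 LD2_c59 LD3_c2) (LK LD1_c24 LD2_c46 LD3_c35) Lrfl Lrfl
theorem f197766 : Led Lsl_bt (LP (LK LD1_c24 LD2_c46 LD3_c31)) = (LP (LK LD1_c14 LD2_c59 LD3_c2)) :=
  Lre_b IH (LK LD1_c24 LD2_c46 LD3_c31) (LK LD1_c14 LD2_c59 LD3_c2) Lrfl Lrfl
theorem f577166 : Led Lsl_df (LP (LK LD1_c24 LD2_c46 LD3_c31)) = (LP (LK LD1_c22 LD2_c52 LD3_c38)) :=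
  Lgr Lrot12 (Lpr_bt (f197766 IH) (Lpr_dt (f197776 IH) (Lpr_bt (f577162 IH) (Lpn (LP (LK LD1_c22 LD2_c52 LD3_c38))))))
theorem f577168 : Led Lsl_dt (LP (LK LD1_c24 LD2_c46 LD3_c31)) = (LP (LK LD1_c22 LD2_c52 LD3_c38)) :=
  Lgr Lrot42 (Lpr_df (f577166 IH) (Lpn (LP (LK LD1_c22 LD2_c52 LD3_c38))))
theorem f622014 : Led Lsl_gf (LP (LK LD1_c13 LD2_c31 LD3_c49)) = (LP (LK LD1_c22 LD2_c52 LD3_c38)) :=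
  Lgr Lrot145 (Lpr_df (f622000 IH) (Lpr_et (K33.f425425 IH) (Lpr_gt (K30.f425423 IH) (Lpr_dt (K32.f97344 IH) (Lpe (K32.f471378 IH) (Lpe (K29.f160110 IH) (Lpr_et (K29.f465159 IH) (Lpe (f616102 IH) (Lpr_ef (f413165 IH) (Lpr_dt (f577168 IH) (Lpn (LP (LK LD1_c22 LD2_c52 LD3_c38)))))))))))))
theorem f577143 : Led Lsl_et (LP (LK LD1_c11 LD2_c32 LD3_c36)) = (LP (LK LD1_c20 LD2_c29 LD3_c32)) :=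
  Lre_e IH (LK LD1_c11 LD2_c32 LD3_c36) (LK LD1_c20 LD2_c29 LD3_c32) Lrfl Lrfl
theorem f577144 : Led Lsl_ft (LP (LK LD1_c20 LD2_c29 LD3_c32)) = (LP (LK LD1_c29 LD2_c28 LD3_c29)) :=
  Lre_f IH (LK LD1_c20 LD2_c29 LD3_c32) (LK LD1_c29 LD2_c28 LD3_c29) Lrfl Lrfl
theorem f577145 : Led Lsl_ft (LP (LK LD1_c22 LD2_c52 LD3_c38)) = (LP (LK LD1_c13 LD2_c31 LD3_c24)) :=
  Lre_f IH (LK LD1_c22 LD2_c52 LD3_c38) (LK LD1_c13 LD2_c31 LD3_c24) Lrfl Lrfl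
theorem f577146 : Led Lsl_et (LP (LK LD1_c29 LD2_c28 LD3_c29)) = (LP (LK LD1_c22 LD2_c52 LD3_c38)) :=
  Lgr Lrot69 (Lpe (f577144 IH) (Lpe (f577143 IH) (Lpr_ff (K43.f577137 IH) (Lpe (K43.f577119 IH) (Lpe (f577145 IH) (Lpn (LP (LK LD1_c22 LD2_c52 LD3_c38))))))))
theorem f557829 : Led Lsl_ct (LP (LK LD1_c5 LD2_c54 LD3_c23)) = (LP (LK LD1_c11 LD2_c34 LD3_c37)) :=
  Lre_c IH (LK LD1_c5 LD2_c54 LD3_c23) (LK LD1_c11 LD2_c34 LD3_c37) Lrfl Lrfl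
theorem f590586 : Led Lsl_bt (LP (LK LD1_c7 LD2_c19 LD3_c19)) = (LP (LK LD1_c4 LD2_c2 LD3_c10)) :=
  Lgr Lrot92 (Lpr_ct (K45.f5695 IH) (Lpe (K45.f587616 IH) (Lpe (K45.f441459 IH) (Lpe (K45.f543946 IH) (Lpr_gt (K45.f590404 IH) (Lpr_ct (K45.f556950 IH) (Lpe (K45.f590584 IH) (Lpe (f557829 IH) (Lpe (K43.f557807 IH) (Lpe (K12.f227329 IH) (Lpn (LP (LK LD1_c4 LD2_c2 LD3_c10)))))))))))))
theorem f5699 : Led Lsl_et (LP (LK LD1_c13 LD2_c50 LD3_c54)) = (LP (LK LD1_c7 LD2_c19 LD3_c19)) :=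
  Lre_e IH (LK LD1_c13 LD2_c50 LD3_c54) (LK LD1_c7 LD2_c19 LD3_c19) Lrfl Lrfl
theorem f590597 : Led Lsl_bf (LP (LK LD1_c13 LD2_c50 LD3_c54)) = (LP (LK LD1_c8 LD2_c4 LD3_c53)) :=
  Lgr Lrot96 (Lpr_et (f5699 IH) (Lpr_bt (f590586 IH) (Lpr_et (K37.f242147 IH) (Lpn (LP (LK LD1_c8 LD2_c4 LD3_c53))))))
theorem f590620 : Led Lsl_ft (LP (LK LD1_c13 LD2_c50 LD3_c54)) = (LP (LK LD1_c23 LD2_c20 LD3_c6)) :=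
  Lre_f IH (LK LD1_c13 LD2_c50 LD3_c54) (LK LD1_c23 LD2_c20 LD3_c6) Lrfl Lrfl
theorem f242191 : Led Lsl_ft (LP (LK LD1_c15 LD2_c13 LD3_c0)) = (LP (LK LD1_c8 LD2_c4 LD3_c53)) :=
  Lre_f IH (LK LD1_c15 LD2_c13 LD3_c0) (LK LD1_c8 LD2_c4 LD3_c53) Lrfl Lrfl
theorem f590621 : Led Lsl_bt (LP (LK LD1_c23 LD2_c20 LD3_c6)) = (LP (LK LD1_c15 LD2_c13 LD3_c0)) :=
  Lgr Lrot35 (Lpe (f590620 IH) (Lpr_bf (f590597 IH) (Lpe (f242191 IH) (Lpn (LP (LK LD1_c15 LD2_c13 LD3_c0))))))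
theorem f242162 : Led Lsl_dt (LP (LK LD1_c8 LD2_c4 LD3_c53)) = (LP (LK LD1_c11 LD2_c32 LD3_c38)) :=
  Lgr Lrot77 (Lpe (K37.f242147 IH) (Lpe (K12.f34053 IH) (Lpe (K18.f242138 IH) (Lpr_df (K18.f242159 IH) (Lpe (f177053 IH) (Lpn (LP (LK LD1_c11 LD2_c32 LD3_c38))))))))
theorem f242192 : Led Lsl_ft (LP (LK LD1_c11 LD2_c32 LD3_c38)) = (LP (LK LD1_c20 LD2_c29 LD3_c36)) :=
  Lre_f IH (LK LD1_c11 LD2_c32 LD3_c38) (LK LD1_c20 LD2_c29 LD3_c36) Lrfl Lrfl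
theorem f242193 : Led Lsl_df (LP (LK LD1_c15 LD2_c13 LD3_c0)) = (LP (LK LD1_c20 LD2_c29 LD3_c36)) :=
  Lgr Lrot78 (Lpr_ft (f242191 IH) (Lpr_dt (f242162 IH) (Lpr_ft (f242192 IH) (Lpn (LP (LK LD1_c20 LD2_c29 LD3_c36))))))
theorem f242209 : Led Lsl_dt (LP (LK LD1_c15 LD2_c13 LD3_c0)) = (LP (LK LD1_c20 LD2_c29 LD3_c36)) :=
  Lgr Lrot42 (Lpr_df (f242193 IH) (Lpn (LP (LK LD1_c20 LD2_c29 LD3_c36))))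
theorem f242212 : Led Lsl_bt (LP (LK LD1_c20 LD2_c29 LD3_c36)) = (LP (LK LD1_c29 LD2_c28 LD3_c29)) :=
  Lre_b IH (LK LD1_c20 LD2_c29 LD3_c36) (LK LD1_c29 LD2_c28 LD3_c29) Lrfl Lrfl
theorem f590625 : Led Lsl_df (LP (LK LD1_c23 LD2_c20 LD3_c6)) = (LP (LK LD1_c29 LD2_c28 LD3_c29)) :=
  Lgr Lrot12 (Lpr_bt (f590621 IH) (Lpr_dt (f242209 IH) (Lpr_bt (f242212 IH) (Lpn (LP (LK LD1_c29 LD2_c28 LD3_c29))))))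
theorem f17542 : Led Lsl_gt (LP (LK LD1_c13 LD2_c28 LD3_c29)) = (LP (LK LD1_c22 LD2_c48 LD3_c12)) :=
  Lre_g IH (LK LD1_c13 LD2_c28 LD3_c29) (LK LD1_c22 LD2_c48 LD3_c12) Lrfl Lrfl
theorem f17571 : Led Lsl_dt (LP (LK LD1_c22 LD2_c48 LD3_c12)) = (LP (LK LD1_c30 LD2_c43 LD3_c30)) :=
  Lre_d IH (LK LD1_c22 LD2_c48 LD3_c12) (LK LD1_c30 LD2_c43 LD3_c30) Lrfl Lrfl
theorem f661352 : Led Lsl_gf (LP (LK LD1_c23 LD2_c20 LD3_c6)) = (LP (LK LD1_c30 LD2_c43 LD3_c30)) :=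
  Lgr Lrot134 (Lpr_df (f590625 IH) (Lpr_et (f577146 IH) (Lpe (f622014 IH) (Lpe (f525042 IH) (Lpr_dt (f661351 IH) (Lpe (f661335 IH) (Lpe (K35.f17515 IH) (Lpr_et (K47.f17517 IH) (Lpr_gt (f17542 IH) (Lpr_dt (f17571 IH) (Lpn (LP (LK LD1_c30 LD2_c43 LD3_c30)))))))))))))
theorem f661353 : Led Lsl_gt (LP (LK LD1_c30 LD2_c43 LD3_c30)) = (LP (LK LD1_c23 LD2_c20 LD3_c6)) :=
  Leop (Lpr_gf (f661352 IH) (Lpn (LP (LK LD1_c30 LD2_c43 LD3_c30))))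
theorem seed_442 : LEOK LG_g (LK LD1_c30 LD2_c43 LD3_c30) :=
  Leoe_g (LK LD1_c30 LD2_c43 LD3_c30) (f661353 IH)
def v7126 : LQ := Led Lsl_ct (LP (LK LD1_c3 LD2_c39 LD3_c38))
theorem f661354 : Led Lsl_ct (LP (LK LD1_c3 LD2_c39 LD3_c38)) = v7126 :=
  Lrfl
theorem f479664 : Led Lsl_bt (LP (LK LD1_c7 LD2_c19 LD3_c30)) = (LP (LK LD1_c3 LD2_c39 LD3_c40)) :=
  Lre_b IH (LK LD1_c7 LD2_c19 LD3_c30) (LK LD1_c3 LD2_c39 LD3_c40) Lrfl Lrfl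
theorem f479665 : Led Lsl_cf (LP (LK LD1_c7 LD2_c19 LD3_c30)) = (LP (LK LD1_c13 LD2_c25 LD3_c56)) :=
  Lgr Lrot97 (Lpr_bt (f479664 IH) (Lpr_ct (K33.f479661 IH) (Lpr_bt (K33.f479640 IH) (Lpr_ct (K33.f455754 IH) (Lpr_bt (K42.f458326 IH) (Lpn (LP (LK LD1_c13 LD2_c25 LD3_c56))))))))
theorem f661357 : Led Lsl_ef (LP (LK LD1_c13 LD2_c25 LD3_c56)) = v7126 :=
  Lgr Lrot28 (Lpe (f479665 IH) (Lpr_et (K47.f479712 IH) (Lpr_ct (f661354 IH) (Lpn v7126))))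
theorem f661359 : Led Lsl_et (LP (LK LD1_c13 LD2_c25 LD3_c56)) = v7126 :=
  Lgr Lrot87 (Lpr_ef (f661357 IH) (Lpn v7126))
theorem f462571 : Led Lsl_dt (LP (LK LD1_c7 LD2_c53 LD3_c57)) = (LP (LK LD1_c14 LD2_c53 LD3_c55)) :=
  Lre_d IH (LK LD1_c7 LD2_c53 LD3_c57) (LK LD1_c14 LD2_c53 LD3_c55) Lrfl Lrfl
theorem f470122 : Led Lsl_bt (LP (LK LD1_c13 LD2_c13 LD3_c5)) = (LP (LK LD1_c22 LD2_c27 LD3_c8)) :=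
  Lre_b IH (LK LD1_c13 LD2_c13 LD3_c5) (LK LD1_c22 LD2_c27 LD3_c8) Lrfl Lrfl
theorem f480052 : Led Lsl_dt (LP (LK LD1_c22 LD2_c27 LD3_c8)) = (LP (LK LD1_c13 LD2_c25 LD3_c56)) :=
  Lgr Lrot79 (Lpe (f470122 IH) (Lpr_df (K33.f480050 IH) (Lpe (K42.f463640 IH) (Lpn (LP (LK LD1_c13 LD2_c25 LD3_c56))))))
theorem f609333 : Led Lsl_gt (LP (LK LD1_c14 LD2_c53 LD3_c55)) = (LP (LK LD1_c22 LD2_c27 LD3_c8)) :=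
  Lgr Lrot49 (Lpe (f462571 IH) (Lpe (K46.f462569 IH) (Lpe (K8.f108054 IH) (Lpe (K41.f470541 IH) (Lpr_dt (K47.f470543 IH) (Lpr_gt (K47.f609285 IH) (Lpe (K47.f479714 IH) (Lpr_cf (f479665 IH) (Lpe (f480052 IH) (Lpn (LP (LK LD1_c22 LD2_c27 LD3_c8))))))))))))
theorem f116213 : Led Lsl_et (LP (LK LD1_c3 LD2_c40 LD3_c47)) = (LP (LK LD1_c7 LD2_c21 LD3_c48)) :=
  Lre_e IH (LK LD1_c3 LD2_c40 LD3_c47) (LK LD1_c7 LD2_c21 LD3_c48) Lrfl Lrfl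
theorem f661363 : Led Lsl_gf (LP (LK LD1_c7 LD2_c21 LD3_c48)) = v7126 :=
  Lgr Lrot141 (Lpe (f116213 IH) (Lpe (K24.f159670 IH) (Lpr_gt (K36.f159755 IH) (Lpe (K28.f108127 IH) (Lpr_et (K28.f108129 IH) (Lpr_gt (K46.f462569 IH) (Lpr_dt (f462571 IH) (Lpr_gt (f609333 IH) (Lpr_df (K47.f480485 IH) (Lpr_et (f661359 IH) (Lpn v7126)))))))))))
theorem f480435 : Led Lsl_ct (LP (LK LD1_c7 LD2_c5 LD3_c11)) = (LP (LK LD1_c3 LD2_c31 LD3_c48)) :=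
  Lre_c IH (LK LD1_c7 LD2_c5 LD3_c11) (LK LD1_c3 LD2_c31 LD3_c48) Lrfl Lrfl
theorem f480436 : Led Lsl_ef (LP (LK LD1_c7 LD2_c5 LD3_c11)) = (LP (LK LD1_c7 LD2_c4 LD3_c43)) :=
  Lgr Lrot28 (Lpr_ct (f480435 IH) (Lpr_et (K34.f480433 IH) (Lpr_ct (K28.f458227 IH) (Lpn (LP (LK LD1_c7 LD2_c4 LD3_c43))))))
theorem f480438 : Led Lsl_bt (LP (LK LD1_c7 LD2_c5 LD3_c11)) = (LP (LK LD1_c13 LD2_c26 LD3_c0)) :=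
  Lre_b IH (LK LD1_c7 LD2_c5 LD3_c11) (LK LD1_c13 LD2_c26 LD3_c0) Lrfl Lrfl
theorem f480439 : Led Lsl_et (LP (LK LD1_c13 LD2_c26 LD3_c0)) = (LP (LK LD1_c13 LD2_c25 LD3_c10)) :=
  Lgr Lrot74 (Lpe (f480438 IH) (Lpr_ef (f480436 IH) (Lpe (K42.f464357 IH) (Lpn (LP (LK LD1_c13 LD2_c25 LD3_c10))))))
theorem f480445 : Led Lsl_ef (LP (LK LD1_c13 LD2_c26 LD3_c0)) = (LP (LK LD1_c13 LD2_c25 LD3_c10)) :=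
  Lgr Lrot88 (Lpr_et (f480439 IH) (Lpn (LP (LK LD1_c13 LD2_c25 LD3_c10))))
theorem f511641 : Led Lsl_ct (LP (LK LD1_c3 LD2_c44 LD3_c29)) = (LP (LK LD1_c1 LD2_c49 LD3_c15)) :=
  Lre_c IH (LK LD1_c3 LD2_c44 LD3_c29) (LK LD1_c1 LD2_c49 LD3_c15) Lrfl Lrfl
theorem f455782 : Led Lsl_ct (LP (LK LD1_c3 LD2_c31 LD3_c48)) = (LP (LK LD1_c7 LD2_c5 LD3_c11)) :=
  Lre_c IH (LK LD1_c3 LD2_c31 LD3_c48) (LK LD1_c7 LD2_c5 LD3_c11) Lrfl Lrfl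
theorem f527660 : Led Lsl_ff (LP (LK LD1_c3 LD2_c44 LD3_c29)) = (LP (LK LD1_c7 LD2_c5 LD3_c11)) :=
  Lgr Lrot23 (Lpr_ct (f511641 IH) (Lpr_ft (K34.f527637 IH) (Lpq (K34.f527655 IH) (Lpr_ct (f455782 IH) (Lpn (LP (LK LD1_c7 LD2_c5 LD3_c11)))))))
theorem f527668 : Led Lsl_ft (LP (LK LD1_c3 LD2_c44 LD3_c29)) = (LP (LK LD1_c7 LD2_c5 LD3_c11)) :=
  Lgr Lrot48 (Lpr_ff (f527660 IH) (Lpn (LP (LK LD1_c7 LD2_c5 LD3_c11))))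
theorem f522699 : Led Lsl_bt (LP (LK LD1_c7 LD2_c29 LD3_c58)) = (LP (LK LD1_c3 LD2_c44 LD3_c29)) :=
  Lre_b IH (LK LD1_c7 LD2_c29 LD3_c58) (LK LD1_c3 LD2_c44 LD3_c29) Lrfl Lrfl
theorem f527670 : Led Lsl_ff (LP (LK LD1_c7 LD2_c29 LD3_c58)) = (LP (LK LD1_c13 LD2_c26 LD3_c0)) :=
  Lgr Lrot25 (Lpr_bt (f522699 IH) (Lpr_ft (f527668 IH) (Lpr_bt (f480438 IH) (Lpn (LP (LK LD1_c13 LD2_c26 LD3_c0))))))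
theorem f522708 : Led Lsl_et (LP (LK LD1_c7 LD2_c29 LD3_c58)) = (LP (LK LD1_c3 LD2_c44 LD3_c27)) :=
  Lre_e IH (LK LD1_c7 LD2_c29 LD3_c58) (LK LD1_c3 LD2_c44 LD3_c27) Lrfl Lrfl
theorem f661360 : Led Lsl_ft (LP (LK LD1_c3 LD2_c44 LD3_c27)) = v7126 :=
  Lgr Lrot86 (Lpe (f522708 IH) (Lpr_ff (f527670 IH) (Lpr_ef (f480445 IH) (Lpe (K42.f529165 IH) (Lpr_ef (f661357 IH) (Lpn v7126))))))
theorem f661361 : Led Lsl_ff (LP (LK LD1_c3 LD2_c44 LD3_c27)) = v7126 :=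
  Lgr Lrot3 (Lpr_ft (f661360 IH) (Lpn v7126))
theorem f527622 : Led Lsl_at (LP (LK LD1_c3 LD2_c44 LD3_c27)) = (LP (LK LD1_c7 LD2_c29 LD3_c56)) :=
  Lre_a IH (LK LD1_c3 LD2_c44 LD3_c27) (LK LD1_c7 LD2_c29 LD3_c56) Lrfl Lrfl
theorem f661364 : Led Lsl_gt (LP (LK LD1_c7 LD2_c21 LD3_c48)) = (LP (LK LD1_c7 LD2_c29 LD3_c56)) :=
  Lgr Lrot46 (Lpr_gf (f661363 IH) (Lpe (f661361 IH) (Lpr_at (f527622 IH) (Lpn (LP (LK LD1_c7 LD2_c29 LD3_c56))))))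
theorem f661365 : Led Lsl_gt (LP (LK LD1_c7 LD2_c21 LD3_c48)) = (LP (LK LD1_c7 LD2_c29 LD3_c56)) :=
  Leop (Lpe (f661364 IH) (Lpn (LP (LK LD1_c7 LD2_c21 LD3_c48))))
theorem seed_443 : LEOK LG_g (LK LD1_c7 LD2_c21 LD3_c48) :=
  Leoe_g (LK LD1_c7 LD2_c21 LD3_c48) (f661365 IH)
theorem f5387 : Led Lsl_bt (LP (LK LD1_c3 LD2_c39 LD3_c38)) = (LP (LK LD1_c1 LD2_c46 LD3_c44)) :=
  Lre_b IH (LK LD1_c3 LD2_c39 LD3_c38) (LK LD1_c1 LD2_c46 LD3_c44) Lrfl Lrfl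
theorem f661366 : Led Lsl_gt (LP (LK LD1_c13 LD2_c38 LD3_c8)) = (LP (LK LD1_c13 LD2_c46 LD3_c31)) :=
  Lgr Lrot82 (Lpe (K46.f116231 IH) (Lpr_ct (K24.f116219 IH) (Lpr_gf (f661363 IH) (Lpe (f661354 IH) (Lpr_bt (f5387 IH) (Lpr_gf (K34.f522737 IH) (Lpr_bf (f661181 IH) (Lpr_ct (f661221 IH) (Lpe (f661240 IH) (Lpe (f5314 IH) (Lpn (LP (LK LD1_c13 LD2_c46 LD3_c31)))))))))))))
theorem f661367 : Led Lsl_gt (LP (LK LD1_c13 LD2_c38 LD3_c8)) = (LP (LK LD1_c13 LD2_c46 LD3_c31)) :=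
  Leop (Lpe (f661366 IH) (Lpn (LP (LK LD1_c13 LD2_c38 LD3_c8))))
theorem seed_444 : LEOK LG_g (LK LD1_c13 LD2_c38 LD3_c8) :=
  Leoe_g (LK LD1_c13 LD2_c38 LD3_c8) (f661367 IH)
def v7127 : LQ := Led Lsl_ft (LP (LK LD1_c3 LD2_c39 LD3_c38))
theorem f661370 : Led Lsl_ft (LP (LK LD1_c3 LD2_c39 LD3_c38)) = v7127 :=
  Lrfl
theorem f661356 : Led Lsl_cf (LP (LK LD1_c3 LD2_c39 LD3_c38)) = v7126 :=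
  Lgr Lrot11 (Lpr_ct (f661354 IH) (Lpn v7126))
theorem f661372 : Led Lsl_cf (LP (LK LD1_c3 LD2_c44 LD3_c27)) = v7127 :=
  Lgr Lrot108 (Lpr_ft (f661360 IH) (Lpe (f661356 IH) (Lpr_ft (f661370 IH) (Lpn v7127))))
theorem f479656 : Led Lsl_bt (LP (LK LD1_c1 LD2_c46 LD3_c44)) = (LP (LK LD1_c3 LD2_c39 LD3_c38)) :=
  Lre_b IH (LK LD1_c1 LD2_c46 LD3_c44) (LK LD1_c3 LD2_c39 LD3_c38) Lrfl Lrfl
theorem f661371 : Led Lsl_bf K35.v2488 = v7127 :=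
  Lgr Lrot61 (Lpe (K35.f522764 IH) (Lpr_bt (f479656 IH) (Lpr_ft (f661370 IH) (Lpn v7127))))
theorem f439244 : Led Lsl_ct (LP (LK LD1_c7 LD2_c5 LD3_c36)) = (LP (LK LD1_c7 LD2_c27 LD3_c43)) :=
  Lgr Lrot59 (Lpr_cf (K24.f439228 IH) (Lpn (LP (LK LD1_c7 LD2_c27 LD3_c43))))
theorem f661383 : Led Lsl_gf (LP (LK LD1_c3 LD2_c44 LD3_c27)) = (LP (LK LD1_c7 LD2_c27 LD3_c43)) :=
  Lgr Lrot129 (Lpr_cf (f661372 IH) (Lpe (f661371 IH) (Lpq (K35.f528005 IH) (Lpe (K33.f522686 IH) (Lpe (K35.f457050 IH) (Lpr_ct (K2.f4047 IH) (Lpr_gt (K2.f4071 IH) (Lpe (K47.f4389 IH) (Lpr_bt (K34.f92502 IH) (Lpr_gt (K47.f610047 IH) (Lpr_ct (f439244 IH) (Lpn (LP (LK LD1_c7 LD2_c27 LD3_c43))))))))))))))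
theorem f661384 : Led Lsl_gt (LP (LK LD1_c7 LD2_c27 LD3_c43)) = (LP (LK LD1_c3 LD2_c44 LD3_c27)) :=
  Leop (Lpr_gf (f661383 IH) (Lpn (LP (LK LD1_c7 LD2_c27 LD3_c43))))
theorem seed_445 : LEOK LG_g (LK LD1_c7 LD2_c27 LD3_c43) :=
  Leoe_g (LK LD1_c7 LD2_c27 LD3_c43) (f661384 IH)
def v7133 : LQ := Led Lsl_ct (LP (LK LD1_c3 LD2_c39 LD3_c45))
theorem f661416 : Led Lsl_ct (LP (LK LD1_c3 LD2_c39 LD3_c45)) = v7133 :=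
  Lrfl
theorem f514847 : Led Lsl_bt (LP (LK LD1_c3 LD2_c39 LD3_c45)) = (LP (LK LD1_c1 LD2_c46 LD3_c47)) :=
  Lre_b IH (LK LD1_c3 LD2_c39 LD3_c45) (LK LD1_c1 LD2_c46 LD3_c47) Lrfl Lrfl
theorem f109473 : Led Lsl_ff (LP (LK LD1_c0 LD2_c23 LD3_c31)) = (LP (LK LD1_c0 LD2_c47 LD3_c19)) :=
  Lgr Lrot103 (Lpr_at (K30.f109108 IH) (Lpe (K7.f109102 IH) (Lpe (K3.f94422 IH) (Lpe (K3.f97153 IH) (Lpe (K3.f98478 IH) (Lpr_cf (K3.f109095 IH) (Lpr_df (K3.f109462 IH) (Lpr_cf (K3.f95965 IH) (Lpe (K3.f95975 IH) (Lpn (LP (LK LD1_c0 LD2_c47 LD3_c19))))))))))))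
theorem f459597 : Led Lsl_ef (LP (LK LD1_c3 LD2_c29 LD3_c36)) = K34.v827 :=
  Lgr Lrot21 (Lpr_ft (K28.f440668 IH) (Lpr_et (K29.f89663 IH) (Lpe (f109473 IH) (Lpr_et (K30.f5769 IH) (Lpr_ft (K34.f459595 IH) (Lpn K34.v827))))))
theorem f523442 : Led Lsl_cf K34.v827 = K34.v2494 :=
  Lgr Lrot39 (Lpe (f459597 IH) (Lpr_ct (K29.f466979 IH) (Lpr_et (K34.f523441 IH) (Lpn K34.v2494))))
def v7118 : LQ := Led Lsl_ft (LP (LK LD1_c3 LD2_c39 LD3_c35))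
theorem f661300 : Led Lsl_ft (LP (LK LD1_c3 LD2_c39 LD3_c35)) = v7118 :=
  Lrfl
theorem f661303 : Led Lsl_ff (LP (LK LD1_c3 LD2_c39 LD3_c35)) = v7118 :=
  Lgr Lrot3 (Lpr_ft (f661300 IH) (Lpn v7118))
theorem f5647 : Led Lsl_bt (LP (LK LD1_c3 LD2_c39 LD3_c35)) = (LP (LK LD1_c1 LD2_c46 LD3_c43)) :=
  Lre_b IH (LK LD1_c3 LD2_c39 LD3_c35) (LK LD1_c1 LD2_c46 LD3_c43) Lrfl Lrfl
theorem f661304 : Led Lsl_bt K35.v2489 = v7118 :=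
  Lgr Lrot35 (Lpe (K35.f522765 IH) (Lpe (f5647 IH) (Lpr_ff (f661303 IH) (Lpn v7118))))
theorem f522762 : Led Lsl_at (LP (LK LD1_c3 LD2_c39 LD3_c35)) = (LP (LK LD1_c7 LD2_c19 LD3_c23)) :=
  Lre_a IH (LK LD1_c3 LD2_c39 LD3_c35) (LK LD1_c7 LD2_c19 LD3_c23) Lrfl Lrfl
theorem f17599 : Led Lsl_et (LP (LK LD1_c13 LD2_c51 LD3_c1)) = (LP (LK LD1_c7 LD2_c19 LD3_c23)) :=
  Lre_e IH (LK LD1_c13 LD2_c51 LD3_c1) (LK LD1_c7 LD2_c19 LD3_c23) Lrfl Lrfl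
theorem f556326 : Led Lsl_gf (LP (LK LD1_c7 LD2_c19 LD3_c23)) = (LP (LK LD1_c7 LD2_c17 LD3_c7)) :=
  Lgr Lrot141 (Lpe (f17599 IH) (Lpe (K47.f17597 IH) (Lpr_gt (K47.f529801 IH) (Lpe (K43.f96796 IH) (Lpr_et (K8.f96800 IH) (Lpr_gt (K3.f96769 IH) (Lpr_dt (K39.f96815 IH) (Lpr_gt (K39.f556318 IH) (Lpr_df (K38.f548884 IH) (Lpr_et (K32.f147255 IH) (Lpn (LP (LK LD1_c7 LD2_c17 LD3_c7)))))))))))))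
theorem f661306 : Led Lsl_gf (LP (LK LD1_c7 LD2_c17 LD3_c7)) = v7118 :=
  Lgr Lrot47 (Lpe (f556326 IH) (Lpe (f522762 IH) (Lpr_ff (f661303 IH) (Lpn v7118))))
theorem f661420 : Led Lsl_gt (LP (LK LD1_c7 LD2_c23 LD3_c2)) = v7133 :=
  Lgr Lrot65 (Lpe (K47.f147307 IH) (Lpr_bt (K43.f147305 IH) (Lpr_gf (f661306 IH) (Lpe (f661304 IH) (Lpqs (K35.f528040 IH) (Lpr_ct (K35.f527947 IH) (Lpe (K34.f527944 IH) (Lpr_cf (f523442 IH) (Lpe (K34.f523439 IH) (Lpe (f514847 IH) (Lpr_ct (f661416 IH) (Lpn v7133))))))))))))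
theorem f661418 : Led Lsl_cf (LP (LK LD1_c3 LD2_c39 LD3_c45)) = v7133 :=
  Lgr Lrot11 (Lpr_ct (f661416 IH) (Lpn v7133))
theorem f5359 : Led Lsl_bt (LP (LK LD1_c13 LD2_c48 LD3_c11)) = (LP (LK LD1_c23 LD2_c16 LD3_c17)) :=
  Lre_b IH (LK LD1_c13 LD2_c48 LD3_c11) (LK LD1_c23 LD2_c16 LD3_c17) Lrfl Lrfl
theorem f81239 : Led Lsl_af (LP (LK LD1_c3 LD2_c3 LD3_c61)) = (LP (LK LD1_c4 LD2_c23 LD3_c53)) :=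
  Lgr Lrot68 (Lpr_ct (K32.f81230 IH) (Lpe (K2.f70152 IH) (Lpe (K10.f81141 IH) (Lpn (LP (LK LD1_c4 LD2_c23 LD3_c53))))))
theorem f81497 : Led Lsl_gf (LP (LK LD1_c6 LD2_c14 LD3_c13)) = (LP (LK LD1_c8 LD2_c45 LD3_c37)) :=
  Lgr Lrot47 (Lpr_gt (K46.f70201 IH) (Lpr_af (f81239 IH) (Lpe (K32.f81113 IH) (Lpn (LP (LK LD1_c8 LD2_c45 LD3_c37))))))
theorem f34473 : Led Lsl_et (LP (LK LD1_c4 LD2_c1 LD3_c37)) = (LP (LK LD1_c1 LD2_c57 LD3_c45)) :=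
  Lre_e IH (LK LD1_c4 LD2_c1 LD3_c37) (LK LD1_c1 LD2_c57 LD3_c45) Lrfl Lrfl
theorem f315703 : Led Lsl_at (LP (LK LD1_c4 LD2_c20 LD3_c33)) = (LP (LK LD1_c4 LD2_c20 LD3_c8)) :=
  Lgr Lrot107 (Lpe (K19.f231544 IH) (Lpr_af (K20.f315699 IH) (Lpe (K13.f241367 IH) (Lpn (LP (LK LD1_c4 LD2_c20 LD3_c8))))))
theorem f241373 : Led Lsl_bt (LP (LK LD1_c4 LD2_c20 LD3_c8)) = (LP (LK LD1_c8 LD2_c38 LD3_c10)) :=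
  Lre_b IH (LK LD1_c4 LD2_c20 LD3_c8) (LK LD1_c8 LD2_c38 LD3_c10) Lrfl Lrfl
theorem f421342 : Led Lsl_at (LP (LK LD1_c8 LD2_c38 LD3_c10)) = (LP (LK LD1_c15 LD2_c7 LD3_c57)) :=
  Lgr Lrot100 (Lpr_af (K40.f421339 IH) (Lpn (LP (LK LD1_c15 LD2_c7 LD3_c57))))
theorem f544891 : Led Lsl_bt (LP (LK LD1_c15 LD2_c7 LD3_c57)) = (LP (LK LD1_c8 LD2_c3 LD3_c14)) :=
  Lgr Lrot62 (Lpe (f421342 IH) (Lpe (f241373 IH) (Lpe (f315703 IH) (Lpr_bf (K38.f544889 IH) (Lpe (K47.f342068 IH) (Lpn (LP (LK LD1_c8 LD2_c3 LD3_c14))))))))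
theorem f439623 : Led Lsl_bt (LP (LK LD1_c13 LD2_c38 LD3_c10)) = (LP (LK LD1_c23 LD2_c3 LD3_c15)) :=
  Lre_b IH (LK LD1_c13 LD2_c38 LD3_c10) (LK LD1_c23 LD2_c3 LD3_c15) Lrfl Lrfl
theorem f559073 : Led Lsl_et (LP (LK LD1_c8 LD2_c3 LD3_c14)) = (LP (LK LD1_c13 LD2_c38 LD3_c10)) :=
  Lgr Lrot74 (Lpe (f544891 IH) (Lpr_ef (K40.f559071 IH) (Lpe (f439623 IH) (Lpn (LP (LK LD1_c13 LD2_c38 LD3_c10))))))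
theorem f606991 : Led Lsl_gf (LP (LK LD1_c13 LD2_c49 LD3_c26)) = (LP (LK LD1_c13 LD2_c38 LD3_c10)) :=
  Lgr Lrot141 (Lpr_ef (K47.f606986 IH) (Lpr_dt (K46.f81162 IH) (Lpr_gt (K46.f81151 IH) (Lpr_df (K10.f81156 IH) (Lpr_et (f34473 IH) (Lpr_gt (K10.f33761 IH) (Lpr_dt (K13.f211601 IH) (Lpe (K12.f227925 IH) (Lpe (K13.f190438 IH) (Lpr_et (f559073 IH) (Lpn (LP (LK LD1_c13 LD2_c38 LD3_c10)))))))))))))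
theorem f606982 : Led Lsl_af (LP (LK LD1_c13 LD2_c49 LD3_c26)) = (LP (LK LD1_c21 LD2_c13 LD3_c5)) :=
  Lgr Lrot50 (Lpr_et (K47.f606980 IH) (Lpe (K46.f606964 IH) (Lpr_et (K47.f81238 IH) (Lpn (LP (LK LD1_c21 LD2_c13 LD3_c5))))))
theorem f560777 : Led Lsl_gt (LP (LK LD1_c22 LD2_c55 LD3_c36)) = (LP (LK LD1_c13 LD2_c38 LD3_c10)) :=
  Lgr Lrot112 (Lpe (K46.f482567 IH) (Lpr_et (K46.f482568 IH) (Lpr_gf (K47.f560769 IH) (Lpe (K40.f108118 IH) (Lpr_dt (K47.f554235 IH) (Lpe (K31.f272470 IH) (Lpq (K40.f540323 IH) (Lpe (K40.f519562 IH) (Lpe (K24.f116190 IH) (Lpe (K24.f116233 IH) (Lpr_dt (K47.f116232 IH) (Lpn (LP (LK LD1_c13 LD2_c38 LD3_c10))))))))))))))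
theorem f606993 : Led Lsl_ff (LP (LK LD1_c21 LD2_c13 LD3_c5)) = (LP (LK LD1_c22 LD2_c55 LD3_c36)) :=
  Lgr Lrot52 (Lpe (f606982 IH) (Lpr_gf (f606991 IH) (Lpe (f560777 IH) (Lpn (LP (LK LD1_c22 LD2_c55 LD3_c36))))))
theorem f606997 : Led Lsl_ft (LP (LK LD1_c21 LD2_c13 LD3_c5)) = (LP (LK LD1_c22 LD2_c55 LD3_c36)) :=
  Lgr Lrot48 (Lpr_ff (f606993 IH) (Lpn (LP (LK LD1_c22 LD2_c55 LD3_c36))))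
theorem f518879 : Led Lsl_at (LP (LK LD1_c22 LD2_c55 LD3_c36)) = (LP (LK LD1_c13 LD2_c33 LD3_c11)) :=
  Lre_a IH (LK LD1_c22 LD2_c55 LD3_c36) (LK LD1_c13 LD2_c33 LD3_c11) Lrfl Lrfl
theorem f482563 : Led Lsl_gt (LP (LK LD1_c22 LD2_c55 LD3_c48)) = (LP (LK LD1_c13 LD2_c33 LD3_c11)) :=
  Lre_g IH (LK LD1_c22 LD2_c55 LD3_c48) (LK LD1_c13 LD2_c33 LD3_c11) Lrfl Lrfl
theorem f607001 : Led Lsl_gt (LP (LK LD1_c21 LD2_c13 LD3_c5)) = (LP (LK LD1_c22 LD2_c55 LD3_c48)) :=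
  Lgr Lrot5 (Lpr_ft (f606997 IH) (Lpr_at (f518879 IH) (Lpe (f482563 IH) (Lpn (LP (LK LD1_c22 LD2_c55 LD3_c48))))))
theorem f560719 : Led Lsl_ft (LP (LK LD1_c22 LD2_c55 LD3_c48)) = (LP (LK LD1_c13 LD2_c38 LD3_c10)) :=
  Lgr Lrot2 (Lpr_gt (f482563 IH) (Lpr_gt (K47.f560717 IH) (Lpe (K47.f439343 IH) (Lpn (LP (LK LD1_c13 LD2_c38 LD3_c10))))))
theorem f560729 : Led Lsl_ff (LP (LK LD1_c22 LD2_c55 LD3_c48)) = (LP (LK LD1_c13 LD2_c38 LD3_c10)) :=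
  Lgr Lrot3 (Lpr_ft (f560719 IH) (Lpn (LP (LK LD1_c13 LD2_c38 LD3_c10))))
theorem f116227 : Led Lsl_ft (LP (LK LD1_c13 LD2_c38 LD3_c11)) = (LP (LK LD1_c7 LD2_c12 LD3_c1)) :=
  Lre_f IH (LK LD1_c13 LD2_c38 LD3_c11) (LK LD1_c7 LD2_c12 LD3_c1) Lrfl Lrfl
theorem f560731 : Led Lsl_dt (LP (LK LD1_c22 LD2_c55 LD3_c48)) = (LP (LK LD1_c13 LD2_c38 LD3_c11)) :=
  Lgr Lrot60 (Lpr_ff (f560729 IH) (Lpe (K47.f116232 IH) (Lpe (f116227 IH) (Lpn (LP (LK LD1_c13 LD2_c38 LD3_c11))))))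
theorem f610049 : Led Lsl_gf (LP (LK LD1_c7 LD2_c17 LD3_c3)) = (LP (LK LD1_c13 LD2_c38 LD3_c11)) :=
  Lgr Lrot134 (Lpe (K47.f456547 IH) (Lpr_et (K47.f610000 IH) (Lpe (K47.f34550 IH) (Lpe (K2.f34116 IH) (Lpe (K10.f81128 IH) (Lpe (f81497 IH) (Lpe (K46.f81236 IH) (Lpr_et (K47.f81238 IH) (Lpr_gt (f607001 IH) (Lpr_dt (f560731 IH) (Lpn (LP (LK LD1_c13 LD2_c38 LD3_c11)))))))))))))
theorem f13412 : Led Lsl_ct (LP (LK LD1_c1 LD2_c49 LD3_c14)) = (LP (LK LD1_c0 LD2_c51 LD3_c22)) :=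
  Lre_c IH (LK LD1_c1 LD2_c49 LD3_c14) (LK LD1_c0 LD2_c51 LD3_c22) Lrfl Lrfl
theorem f13413 : Led Lsl_bt (LP (LK LD1_c1 LD2_c49 LD3_c14)) = (LP (LK LD1_c3 LD2_c44 LD3_c27)) :=
  Lre_b IH (LK LD1_c1 LD2_c49 LD3_c14) (LK LD1_c3 LD2_c44 LD3_c27) Lrfl Lrfl
theorem f13414 : Led Lsl_gt (LP (LK LD1_c3 LD2_c44 LD3_c27)) = (LP (LK LD1_c7 LD2_c29 LD3_c55)) :=
  Lre_g IH (LK LD1_c3 LD2_c44 LD3_c27) (LK LD1_c7 LD2_c29 LD3_c55) Lrfl Lrfl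
theorem f610055 : Led Lsl_ct (LP (LK LD1_c7 LD2_c29 LD3_c55)) = (LP (LK LD1_c13 LD2_c38 LD3_c11)) :=
  Lgr Lrot91 (Lpe (f13414 IH) (Lpe (f13413 IH) (Lpr_ct (f13412 IH) (Lpe (K33.f12853 IH) (Lpe (K4.f12857 IH) (Lpr_bt (K47.f12849 IH) (Lpe (K24.f4809 IH) (Lpe (K46.f13415 IH) (Lpr_ct (K47.f456460 IH) (Lpr_gf (f610049 IH) (Lpn (LP (LK LD1_c13 LD2_c38 LD3_c11)))))))))))))
theorem f12887 : Led Lsl_bt (LP (LK LD1_c1 LD2_c47 LD3_c47)) = (LP (LK LD1_c3 LD2_c41 LD3_c48)) :=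
  Lre_b IH (LK LD1_c1 LD2_c47 LD3_c47) (LK LD1_c3 LD2_c41 LD3_c48) Lrfl Lrfl
theorem f12888 : Led Lsl_gt (LP (LK LD1_c3 LD2_c41 LD3_c48)) = (LP (LK LD1_c7 LD2_c24 LD3_c16)) :=
  Lre_g IH (LK LD1_c3 LD2_c41 LD3_c48) (LK LD1_c7 LD2_c24 LD3_c16) Lrfl Lrfl
theorem f610065 : Led Lsl_bt (LP (LK LD1_c7 LD2_c29 LD3_c55)) = (LP (LK LD1_c7 LD2_c24 LD3_c16)) :=
  Lgr Lrot92 (Lpr_ct (f610055 IH) (Lpe (f610049 IH) (Lpe (K47.f456460 IH) (Lpr_bt (K46.f13415 IH) (Lpr_gt (K24.f4809 IH) (Lpr_ct (K47.f4611 IH) (Lpr_gt (K29.f4884 IH) (Lpe (K29.f4813 IH) (Lpr_bt (f12887 IH) (Lpr_gt (f12888 IH) (Lpn (LP (LK LD1_c7 LD2_c24 LD3_c16)))))))))))))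
theorem f610060 : Led Lsl_ff (LP (LK LD1_c7 LD2_c29 LD3_c55)) = (LP (LK LD1_c7 LD2_c21 LD3_c48)) :=
  Lgr Lrot23 (Lpr_ct (f610055 IH) (Lpr_ft (f116227 IH) (Lpr_ct (K24.f116219 IH) (Lpn (LP (LK LD1_c7 LD2_c21 LD3_c48))))))
theorem f610069 : Led Lsl_ff (LP (LK LD1_c7 LD2_c27 LD3_c41)) = (LP (LK LD1_c7 LD2_c24 LD3_c16)) :=
  Lgr Lrot25 (Lpe (K24.f116201 IH) (Lpe (f610060 IH) (Lpr_bt (f610065 IH) (Lpn (LP (LK LD1_c7 LD2_c24 LD3_c16))))))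
theorem f476460 : Led Lsl_at (LP (LK LD1_c7 LD2_c17 LD3_c45)) = (LP (LK LD1_c13 LD2_c48 LD3_c8)) :=
  Lre_a IH (LK LD1_c7 LD2_c17 LD3_c45) (LK LD1_c13 LD2_c48 LD3_c8) Lrfl Lrfl
theorem f525489 : Led Lsl_gf (LP (LK LD1_c13 LD2_c48 LD3_c8)) = (LP (LK LD1_c7 LD2_c24 LD3_c16)) :=
  Lgr Lrot76 (Lpe (f476460 IH) (Lpr_ff (K35.f525479 IH) (Lpr_gt (f12888 IH) (Lpn (LP (LK LD1_c7 LD2_c24 LD3_c16))))))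
theorem f610077 : Led Lsl_gf (LP (LK LD1_c7 LD2_c21 LD3_c50)) = (LP (LK LD1_c13 LD2_c48 LD3_c8)) :=
  Lgr Lrot76 (Lpr_af (K46.f439279 IH) (Lpr_ff (f610069 IH) (Lpe (f525489 IH) (Lpn (LP (LK LD1_c13 LD2_c48 LD3_c8))))))
theorem f456504 : Led Lsl_at (LP (LK LD1_c7 LD2_c24 LD3_c17)) = (LP (LK LD1_c3 LD2_c41 LD3_c48)) :=
  Lre_a IH (LK LD1_c7 LD2_c24 LD3_c17) (LK LD1_c3 LD2_c41 LD3_c48) Lrfl Lrfl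
theorem f525481 : Led Lsl_ft (LP (LK LD1_c13 LD2_c48 LD3_c8)) = (LP (LK LD1_c7 LD2_c24 LD3_c17)) :=
  Lgr Lrot101 (Lpe (f476460 IH) (Lpr_ff (K35.f525479 IH) (Lpe (f456504 IH) (Lpn (LP (LK LD1_c7 LD2_c24 LD3_c17))))))
theorem f610079 : Led Lsl_gt (LP (LK LD1_c7 LD2_c21 LD3_c50)) = (LP (LK LD1_c3 LD2_c41 LD3_c48)) :=
  Lgr Lrot46 (Lpr_gf (f610077 IH) (Lpr_ft (f525481 IH) (Lpr_at (f456504 IH) (Lpn (LP (LK LD1_c3 LD2_c41 LD3_c48))))))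
theorem f439281 : Led Lsl_bt (LP (LK LD1_c13 LD2_c55 LD3_c18)) = (LP (LK LD1_c7 LD2_c21 LD3_c50)) :=
  Lre_b IH (LK LD1_c13 LD2_c55 LD3_c18) (LK LD1_c7 LD2_c21 LD3_c50) Lrfl Lrfl
theorem f439237 : Led Lsl_bt (LP (LK LD1_c7 LD2_c5 LD3_c36)) = (LP (LK LD1_c7 LD2_c11 LD3_c61)) :=
  Lgr Lrot127 (Lpr_bf (K46.f439235 IH) (Lpn (LP (LK LD1_c7 LD2_c11 LD3_c61))))
theorem f439239 : Led Lsl_bt (LP (LK LD1_c14 LD2_c5 LD3_c9)) = (LP (LK LD1_c7 LD2_c27 LD3_c43)) :=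
  Lre_b IH (LK LD1_c14 LD2_c5 LD3_c9) (LK LD1_c7 LD2_c27 LD3_c43) Lrfl Lrfl
theorem f439289 : Led Lsl_bt (LP (LK LD1_c7 LD2_c21 LD3_c50)) = (LP (LK LD1_c13 LD2_c55 LD3_c18)) :=
  Lre_b IH (LK LD1_c7 LD2_c21 LD3_c50) (LK LD1_c13 LD2_c55 LD3_c18) Lrfl Lrfl
theorem f439625 : Led Lsl_cf (LP (LK LD1_c14 LD2_c5 LD3_c9)) = (LP (LK LD1_c13 LD2_c55 LD3_c18)) :=
  Lgr Lrot97 (Lpr_bt (f439239 IH) (Lpe (K24.f439228 IH) (Lpr_bt (f439237 IH) (Lpr_ct (K46.f439308 IH) (Lpr_bt (f439289 IH) (Lpn (LP (LK LD1_c13 LD2_c55 LD3_c18))))))))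
theorem f13156 : Led Lsl_ct (LP (LK LD1_c7 LD2_c26 LD3_c36)) = (LP (LK LD1_c14 LD2_c4 LD3_c4)) :=
  Lre_c IH (LK LD1_c7 LD2_c26 LD3_c36) (LK LD1_c14 LD2_c4 LD3_c4) Lrfl Lrfl
theorem f610081 : Led Lsl_gf (LP (LK LD1_c14 LD2_c5 LD3_c9)) = (LP (LK LD1_c14 LD2_c4 LD3_c4)) :=
  Lgr Lrot129 (Lpr_cf (f439625 IH) (Lpr_bt (f439281 IH) (Lpr_gt (f610079 IH) (Lpe (f12887 IH) (Lpr_ct (K29.f4813 IH) (Lpr_gt (K28.f4812 IH) (Lpe (K47.f4638 IH) (Lpr_bt (K47.f4858 IH) (Lpe (K47.f13149 IH) (Lpr_ct (f13156 IH) (Lpn (LP (LK LD1_c14 LD2_c4 LD3_c4)))))))))))))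
theorem f608835 : Led Lsl_ft (LP (LK LD1_c23 LD2_c16 LD3_c17)) = (LP (LK LD1_c13 LD2_c55 LD3_c18)) :=
  Lgr Lrot75 (Lpe (f5359 IH) (Lpr_ff (K46.f608833 IH) (Lpe (f439281 IH) (Lpn (LP (LK LD1_c13 LD2_c55 LD3_c18))))))
theorem f610083 : Led Lsl_gt (LP (LK LD1_c23 LD2_c16 LD3_c17)) = (LP (LK LD1_c14 LD2_c4 LD3_c4)) :=
  Lgr Lrot5 (Lpr_ft (f608835 IH) (Lpr_at (K24.f439318 IH) (Lpr_gf (f610081 IH) (Lpn (LP (LK LD1_c14 LD2_c4 LD3_c4))))))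
theorem f522785 : Led Lsl_bf (LP (LK LD1_c14 LD2_c4 LD3_c4)) = (LP (LK LD1_c14 LD2_c9 LD3_c37)) :=
  Lgr Lrot24 (Lpr_bt (K34.f522783 IH) (Lpn (LP (LK LD1_c14 LD2_c9 LD3_c37))))
theorem f13161 : Led Lsl_bt (LP (LK LD1_c14 LD2_c4 LD3_c3)) = (LP (LK LD1_c7 LD2_c26 LD3_c36)) :=
  Lre_b IH (LK LD1_c14 LD2_c4 LD3_c3) (LK LD1_c7 LD2_c26 LD3_c36) Lrfl Lrfl
theorem f123560 : Led Lsl_gt (LP (LK LD1_c12 LD2_c34 LD3_c55)) = (LP (LK LD1_c6 LD2_c34 LD3_c8)) :=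
  Lre_g IH (LK LD1_c12 LD2_c34 LD3_c55) (LK LD1_c6 LD2_c34 LD3_c8) Lrfl Lrfl
theorem f487387 : Led Lsl_cf (LP (LK LD1_c12 LD2_c34 LD3_c55)) = (LP (LK LD1_c14 LD2_c4 LD3_c3)) :=
  Lgr Lrot160 (Lpr_gt (f123560 IH) (Lpe (K4.f123546 IH) (Lpr_bt (K29.f123537 IH) (Lpr_gt (K29.f481690 IH) (Lpr_ct (K29.f4813 IH) (Lpr_gt (K28.f4812 IH) (Lpe (K47.f4638 IH) (Lpr_bt (K47.f4858 IH) (Lpe (K47.f13149 IH) (Lpe (f13161 IH) (Lpn (LP (LK LD1_c14 LD2_c4 LD3_c3)))))))))))))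
theorem f487391 : Led Lsl_ct (LP (LK LD1_c12 LD2_c34 LD3_c55)) = (LP (LK LD1_c14 LD2_c4 LD3_c3)) :=
  Lgr Lrot59 (Lpr_cf (f487387 IH) (Lpn (LP (LK LD1_c14 LD2_c4 LD3_c3))))
theorem f440378 : Led Lsl_bt (LP (LK LD1_c21 LD2_c41 LD3_c21)) = (LP (LK LD1_c12 LD2_c34 LD3_c55)) :=
  Lre_b IH (LK LD1_c21 LD2_c41 LD3_c21) (LK LD1_c12 LD2_c34 LD3_c55) Lrfl Lrfl
theorem f522787 : Led Lsl_cf (LP (LK LD1_c21 LD2_c41 LD3_c21)) = (LP (LK LD1_c14 LD2_c9 LD3_c37)) :=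
  Lgr Lrot97 (Lpr_bt (f440378 IH) (Lpr_ct (f487391 IH) (Lpr_bt (f13161 IH) (Lpr_ct (f13156 IH) (Lpr_bt (K34.f522783 IH) (Lpn (LP (LK LD1_c14 LD2_c9 LD3_c37))))))))
theorem f661421 : Led Lsl_gf (LP (LK LD1_c14 LD2_c6 LD3_c33)) = (LP (LK LD1_c21 LD2_c41 LD3_c21)) :=
  Lgr Lrot126 (Lpe (K47.f123622 IH) (Lpe (K43.f147225 IH) (Lpr_gt (f661420 IH) (Lpe (f661418 IH) (Lpr_gt (K46.f5356 IH) (Lpe (K46.f5360 IH) (Lpr_bt (f5359 IH) (Lpr_gt (f610083 IH) (Lpr_bf (f522785 IH) (Lpe (f522787 IH) (Lpn (LP (LK LD1_c21 LD2_c41 LD3_c21)))))))))))))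
theorem f661422 : Led Lsl_gt (LP (LK LD1_c21 LD2_c41 LD3_c21)) = (LP (LK LD1_c14 LD2_c6 LD3_c33)) :=
  Leop (Lpr_gf (f661421 IH) (Lpn (LP (LK LD1_c21 LD2_c41 LD3_c21))))
theorem seed_446 : LEOK LG_g (LK LD1_c21 LD2_c41 LD3_c21) :=
  Leoe_g (LK LD1_c21 LD2_c41 LD3_c21) (f661422 IH)
def v7134 : LQ := Led Lsl_ft (LP (LK LD1_c3 LD2_c39 LD3_c45))
theorem f661434 : Led Lsl_ft (LP (LK LD1_c3 LD2_c39 LD3_c45)) = v7134 :=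
  Lrfl
theorem f661437 : Led Lsl_ff (LP (LK LD1_c3 LD2_c39 LD3_c45)) = v7134 :=
  Lgr Lrot3 (Lpr_ft (f661434 IH) (Lpn v7134))
theorem f523454 : Led Lsl_at (LP (LK LD1_c3 LD2_c39 LD3_c45)) = (LP (LK LD1_c7 LD2_c19 LD3_c44)) :=
  Lre_a IH (LK LD1_c3 LD2_c39 LD3_c45) (LK LD1_c7 LD2_c19 LD3_c44) Lrfl Lrfl
theorem f241833 : Led Lsl_gt (LP (LK LD1_c21 LD2_c14 LD3_c59)) = (LP (LK LD1_c12 LD2_c8 LD3_c39)) :=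
  Lre_g IH (LK LD1_c21 LD2_c14 LD3_c59) (LK LD1_c12 LD2_c8 LD3_c39) Lrfl Lrfl
theorem f611132 : Led Lsl_dt (LP (LK LD1_c13 LD2_c51 LD3_c50)) = (LP (LK LD1_c21 LD2_c14 LD3_c59)) :=
  Lgr Lrot171 (Lpe (K47.f522284 IH) (Lpr_ef (K47.f610685 IH) (Lpr_dt (K47.f514934 IH) (Lpe (K29.f470366 IH) (Lpe (K29.f11736 IH) (Lpr_et (K8.f11740 IH) (Lpr_gf (K37.f514930 IH) (Lpqs (K37.f542946 IH) (Lpe (K46.f542957 IH) (Lpr_dt (K47.f418454 IH) (Lpe (f241833 IH) (Lpn (LP (LK LD1_c21 LD2_c14 LD3_c59))))))))))))))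
theorem f522294 : Led Lsl_et (LP (LK LD1_c13 LD2_c51 LD3_c50)) = (LP (LK LD1_c7 LD2_c19 LD3_c44)) :=
  Lre_e IH (LK LD1_c13 LD2_c51 LD3_c50) (LK LD1_c7 LD2_c19 LD3_c44) Lrfl Lrfl
theorem f558979 : Led Lsl_gt (LP (LK LD1_c3 LD2_c33 LD3_c5)) = (LP (LK LD1_c4 LD2_c20 LD3_c34)) :=
  Lgr Lrot46 (Lpr_gf (K40.f558977 IH) (Lpr_ft (K32.f402899 IH) (Lpr_at (K39.f315745 IH) (Lpn (LP (LK LD1_c4 LD2_c20 LD3_c34))))))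
theorem f611141 : Led Lsl_gf (LP (LK LD1_c7 LD2_c19 LD3_c44)) = (LP (LK LD1_c7 LD2_c11 LD3_c61)) :=
  Lgr Lrot141 (Lpe (f522294 IH) (Lpr_dt (f611132 IH) (Lpr_gt (f241833 IH) (Lpe (K47.f418454 IH) (Lpr_et (K46.f542957 IH) (Lpq (K37.f542946 IH) (Lpe (K37.f514930 IH) (Lpr_dt (K37.f11831 IH) (Lpr_gt (f558979 IH) (Lpr_df (K39.f552183 IH) (Lpr_et (K46.f439234 IH) (Lpn (LP (LK LD1_c7 LD2_c11 LD3_c61))))))))))))))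
theorem f661440 : Led Lsl_gf (LP (LK LD1_c7 LD2_c11 LD3_c61)) = v7134 :=
  Lgr Lrot47 (Lpe (f611141 IH) (Lpe (f523454 IH) (Lpr_ff (f661437 IH) (Lpn v7134))))
theorem f661423 : Led Lsl_bt K33.v2492 = v7133 :=
  Lgr Lrot92 (Lpe (K34.f522779 IH) (Lpr_gt (K34.f514846 IH) (Lpr_cf (K34.f511470 IH) (Lpr_bt (K34.f511469 IH) (Lpr_gt (K34.f511478 IH) (Lpe (f522787 IH) (Lpe (f661421 IH) (Lpe (K47.f123622 IH) (Lpe (K43.f147225 IH) (Lpr_gt (f661420 IH) (Lpn v7133)))))))))))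
theorem f12886 : Led Lsl_bt (LP (LK LD1_c3 LD2_c44 LD3_c19)) = (LP (LK LD1_c1 LD2_c49 LD3_c11)) :=
  Lre_b IH (LK LD1_c3 LD2_c44 LD3_c19) (LK LD1_c1 LD2_c49 LD3_c11) Lrfl Lrfl
theorem f661424 : Led Lsl_ff (LP (LK LD1_c3 LD2_c44 LD3_c19)) = v7133 :=
  Lgr Lrot25 (Lpr_bt (f12886 IH) (Lpr_ft (K34.f522857 IH) (Lpr_bt (f661423 IH) (Lpn v7133))))
theorem f661439 : Led Lsl_ct (LP (LK LD1_c3 LD2_c44 LD3_c19)) = v7134 :=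
  Lgr Lrot40 (Lpr_ff (f661424 IH) (Lpe (f661416 IH) (Lpr_ff (f661437 IH) (Lpn v7134))))
theorem f489806 : Led Lsl_gt (LP (LK LD1_c7 LD2_c29 LD3_c38)) = (LP (LK LD1_c3 LD2_c44 LD3_c19)) :=
  Lre_g IH (LK LD1_c7 LD2_c29 LD3_c38) (LK LD1_c3 LD2_c44 LD3_c19) Lrfl Lrfl
theorem f609566 : Led Lsl_dt (LP (LK LD1_c21 LD2_c14 LD3_c23)) = (LP (LK LD1_c24 LD2_c40 LD3_c24)) :=
  Lgr Lrot79 (Lpr_bf (K47.f609560 IH) (Lpe (K46.f526603 IH) (Lpe (K47.f526230 IH) (Lpn (LP (LK LD1_c24 LD2_c40 LD3_c24))))))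
theorem f471440 : Led Lsl_dt (LP (LK LD1_c14 LD2_c55 LD3_c41)) = (LP (LK LD1_c7 LD2_c54 LD3_c51)) :=
  Lre_d IH (LK LD1_c14 LD2_c55 LD3_c41) (LK LD1_c7 LD2_c54 LD3_c51) Lrfl Lrfl
theorem f610941 : Led Lsl_gt (LP (LK LD1_c14 LD2_c54 LD3_c44)) = (LP (LK LD1_c14 LD2_c55 LD3_c41)) :=
  Lgr Lrot49 (Lpr_df (K47.f480472 IH) (Lpe (K47.f521415 IH) (Lpr_cf (K47.f610937 IH) (Lpe (K47.f609607 IH) (Lpr_dt (f609566 IH) (Lpe (K47.f609774 IH) (Lpr_dt (K47.f471505 IH) (Lpr_cf (K41.f488320 IH) (Lpe (f471440 IH) (Lpn (LP (LK LD1_c14 LD2_c55 LD3_c41))))))))))))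
theorem f611075 : Led Lsl_gf (LP (LK LD1_c7 LD2_c55 LD3_c0)) = (LP (LK LD1_c14 LD2_c55 LD3_c41)) :=
  Lgr Lrot76 (Lpe (K47.f489875 IH) (Lpr_ff (K47.f521159 IH) (Lpr_gt (f610941 IH) (Lpn (LP (LK LD1_c14 LD2_c55 LD3_c41))))))
theorem f489867 : Led Lsl_et (LP (LK LD1_c7 LD2_c29 LD3_c41)) = (LP (LK LD1_c3 LD2_c44 LD3_c19)) :=
  Lre_e IH (LK LD1_c7 LD2_c29 LD3_c41) (LK LD1_c3 LD2_c44 LD3_c19) Lrfl Lrfl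
theorem f471439 : Led Lsl_dt (LP (LK LD1_c7 LD2_c54 LD3_c51)) = (LP (LK LD1_c14 LD2_c55 LD3_c41)) :=
  Lre_d IH (LK LD1_c7 LD2_c54 LD3_c51) (LK LD1_c14 LD2_c55 LD3_c41) Lrfl Lrfl
theorem f488322 : Led Lsl_gt (LP (LK LD1_c7 LD2_c49 LD3_c54)) = (LP (LK LD1_c7 LD2_c54 LD3_c51)) :=
  Lgr Lrot82 (Lpe (K8.f159983 IH) (Lpr_ct (K28.f129374 IH) (Lpe (K29.f471242 IH) (Lpr_cf (K29.f471180 IH) (Lpr_bt (K29.f203954 IH) (Lpr_gf (K29.f203949 IH) (Lpe (K29.f12385 IH) (Lpe (K29.f425432 IH) (Lpe (K41.f471501 IH) (Lpr_cf (K41.f488320 IH) (Lpn (LP (LK LD1_c7 LD2_c54 LD3_c51)))))))))))))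
theorem f159811 : Led Lsl_dt (LP (LK LD1_c3 LD2_c54 LD3_c10)) = (LP (LK LD1_c7 LD2_c23 LD3_c24)) :=
  Lgr Lrot44 (Lpe (K8.f147593 IH) (Lpr_df (K8.f159809 IH) (Lpe (K8.f159639 IH) (Lpn (LP (LK LD1_c7 LD2_c23 LD3_c24))))))
theorem f611077 : Led Lsl_gt (LP (LK LD1_c3 LD2_c44 LD3_c19)) = (LP (LK LD1_c7 LD2_c28 LD3_c52)) :=
  Lgr Lrot131 (Lpe (f489867 IH) (Lpr_dt (K47.f489856 IH) (Lpr_gf (f611075 IH) (Lpe (f471439 IH) (Lpe (f488322 IH) (Lpe (K8.f159864 IH) (Lpr_dt (f159811 IH) (Lpe (K39.f552166 IH) (Lpr_df (K39.f552175 IH) (Lpr_et (K47.f497902 IH) (Lpn (LP (LK LD1_c7 LD2_c28 LD3_c52)))))))))))))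
theorem f611079 : Led Lsl_ft (LP (LK LD1_c7 LD2_c29 LD3_c38)) = (LP (LK LD1_c7 LD2_c23 LD3_c2)) :=
  Lgr Lrot2 (Lpr_gt (f489806 IH) (Lpr_gt (f611077 IH) (Lpe (K47.f497907 IH) (Lpn (LP (LK LD1_c7 LD2_c23 LD3_c2))))))
theorem f611081 : Led Lsl_bf (LP (LK LD1_c7 LD2_c29 LD3_c38)) = (LP (LK LD1_c7 LD2_c23 LD3_c49)) :=
  Lgr Lrot61 (Lpr_ft (f611079 IH) (Lpr_bt (K34.f147222 IH) (Lpe (K47.f517855 IH) (Lpn (LP (LK LD1_c7 LD2_c23 LD3_c49))))))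
theorem f517840 : Led Lsl_ct (LP (LK LD1_c7 LD2_c23 LD3_c49)) = (LP (LK LD1_c13 LD2_c59 LD3_c22)) :=
  Lre_c IH (LK LD1_c7 LD2_c23 LD3_c49) (LK LD1_c13 LD2_c59 LD3_c22) Lrfl Lrfl
theorem f489799 : Led Lsl_bt (LP (LK LD1_c1 LD2_c49 LD3_c11)) = (LP (LK LD1_c3 LD2_c44 LD3_c19)) :=
  Lre_b IH (LK LD1_c1 LD2_c49 LD3_c11) (LK LD1_c3 LD2_c44 LD3_c19) Lrfl Lrfl
theorem f127982 : Led Lsl_gt (LP (LK LD1_c6 LD2_c53 LD3_c48)) = (LP (LK LD1_c13 LD2_c6 LD3_c26)) :=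
  Lre_g IH (LK LD1_c6 LD2_c53 LD3_c48) (LK LD1_c13 LD2_c6 LD3_c26) Lrfl Lrfl
theorem f489807 : Led Lsl_ct (LP (LK LD1_c13 LD2_c6 LD3_c26)) = (LP (LK LD1_c22 LD2_c17 LD3_c49)) :=
  Lre_c IH (LK LD1_c13 LD2_c6 LD3_c26) (LK LD1_c22 LD2_c17 LD3_c49) Lrfl Lrfl
theorem f611115 : Led Lsl_gt (LP (LK LD1_c22 LD2_c17 LD3_c49)) = (LP (LK LD1_c13 LD2_c59 LD3_c22)) :=
  Lgr Lrot149 (Lpe (f489807 IH) (Lpe (f127982 IH) (Lpe (K47.f137099 IH) (Lpr_ct (K33.f137118 IH) (Lpe (K33.f128088 IH) (Lpe (K34.f489800 IH) (Lpr_bt (f489799 IH) (Lpe (f489806 IH) (Lpr_bf (f611081 IH) (Lpr_ct (f517840 IH) (Lpn (LP (LK LD1_c13 LD2_c59 LD3_c22)))))))))))))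
theorem f517830 : Led Lsl_at (LP (LK LD1_c7 LD2_c23 LD3_c50)) = (LP (LK LD1_c3 LD2_c41 LD3_c35)) :=
  Lre_a IH (LK LD1_c7 LD2_c23 LD3_c50) (LK LD1_c3 LD2_c41 LD3_c35) Lrfl Lrfl
theorem f518140 : Led Lsl_at (LP (LK LD1_c7 LD2_c1 LD3_c0)) = (LP (LK LD1_c6 LD2_c54 LD3_c2)) :=
  Lgr Lrot107 (Lpe (K47.f517914 IH) (Lpe (f517830 IH) (Lpr_cf (K47.f518138 IH) (Lpn (LP (LK LD1_c6 LD2_c54 LD3_c2))))))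
theorem f518327 : Led Lsl_gt (LP (LK LD1_c3 LD2_c46 LD3_c8)) = (LP (LK LD1_c3 LD2_c26 LD3_c5)) :=
  Lgr Lrot5 (Lpr_ft (K47.f518035 IH) (Lpr_at (f518140 IH) (Lpe (K47.f96319 IH) (Lpn (LP (LK LD1_c3 LD2_c26 LD3_c5))))))
theorem f483344 : Led Lsl_gt (LP (LK LD1_c7 LD2_c33 LD3_c14)) = (LP (LK LD1_c3 LD2_c46 LD3_c8)) :=
  Lre_g IH (LK LD1_c7 LD2_c33 LD3_c14) (LK LD1_c3 LD2_c46 LD3_c8) Lrfl Lrfl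
theorem f102456 : Led Lsl_at (LP (LK LD1_c6 LD2_c53 LD3_c60)) = (LP (LK LD1_c3 LD2_c26 LD3_c5)) :=
  Lre_a IH (LK LD1_c6 LD2_c53 LD3_c60) (LK LD1_c3 LD2_c26 LD3_c5) Lrfl Lrfl
theorem f518329 : Led Lsl_ft (LP (LK LD1_c7 LD2_c33 LD3_c14)) = (LP (LK LD1_c6 LD2_c53 LD3_c60)) :=
  Lgr Lrot2 (Lpr_gt (f483344 IH) (Lpr_gt (f518327 IH) (Lpe (f102456 IH) (Lpn (LP (LK LD1_c6 LD2_c53 LD3_c60))))))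
theorem f102459 : Led Lsl_ct (LP (LK LD1_c6 LD2_c53 LD3_c60)) = (LP (LK LD1_c13 LD2_c6 LD3_c22)) :=
  Lre_c IH (LK LD1_c6 LD2_c53 LD3_c60) (LK LD1_c13 LD2_c6 LD3_c22) Lrfl Lrfl
theorem f137147 : Led Lsl_dt (LP (LK LD1_c6 LD2_c53 LD3_c51)) = (LP (LK LD1_c3 LD2_c25 LD3_c59)) :=
  Lre_d IH (LK LD1_c6 LD2_c53 LD3_c51) (LK LD1_c3 LD2_c25 LD3_c59) Lrfl Lrfl
theorem f459449 : Led Lsl_dt (LP (LK LD1_c3 LD2_c44 LD3_c26)) = (LP (LK LD1_c7 LD2_c29 LD3_c54)) :=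
  Lre_d IH (LK LD1_c3 LD2_c44 LD3_c26) (LK LD1_c7 LD2_c29 LD3_c54) Lrfl Lrfl
theorem f511544 : Led Lsl_ff (LP (LK LD1_c6 LD2_c53 LD3_c51)) = (LP (LK LD1_c7 LD2_c29 LD3_c54)) :=
  Lgr Lrot19 (Lpr_dt (f137147 IH) (Lpr_ft (K47.f511487 IH) (Lpr_dt (f459449 IH) (Lpn (LP (LK LD1_c7 LD2_c29 LD3_c54))))))
theorem f137109 : Led Lsl_bt (LP (LK LD1_c6 LD2_c53 LD3_c51)) = (LP (LK LD1_c13 LD2_c6 LD3_c28)) :=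
  Lre_b IH (LK LD1_c6 LD2_c53 LD3_c51) (LK LD1_c13 LD2_c6 LD3_c28) Lrfl Lrfl
theorem f511546 : Led Lsl_bt (LP (LK LD1_c14 LD2_c9 LD3_c40)) = (LP (LK LD1_c7 LD2_c29 LD3_c54)) :=
  Lre_b IH (LK LD1_c14 LD2_c9 LD3_c40) (LK LD1_c7 LD2_c29 LD3_c54) Lrfl Lrfl
theorem f511547 : Led Lsl_ft (LP (LK LD1_c13 LD2_c6 LD3_c28)) = (LP (LK LD1_c14 LD2_c9 LD3_c40)) :=
  Lgr Lrot75 (Lpe (f137109 IH) (Lpr_ff (f511544 IH) (Lpe (f511546 IH) (Lpn (LP (LK LD1_c14 LD2_c9 LD3_c40))))))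
theorem f511560 : Led Lsl_ff (LP (LK LD1_c13 LD2_c6 LD3_c28)) = (LP (LK LD1_c14 LD2_c9 LD3_c40)) :=
  Lgr Lrot3 (Lpr_ft (f511547 IH) (Lpn (LP (LK LD1_c14 LD2_c9 LD3_c40))))
theorem f137108 : Led Lsl_at (LP (LK LD1_c13 LD2_c6 LD3_c28)) = (LP (LK LD1_c22 LD2_c17 LD3_c46)) :=
  Lre_a IH (LK LD1_c13 LD2_c6 LD3_c28) (LK LD1_c22 LD2_c17 LD3_c46) Lrfl Lrfl
theorem f511571 : Led Lsl_at (LP (LK LD1_c23 LD2_c44 LD3_c43)) = (LP (LK LD1_c14 LD2_c9 LD3_c40)) :=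
  Lre_a IH (LK LD1_c23 LD2_c44 LD3_c43) (LK LD1_c14 LD2_c9 LD3_c40) Lrfl Lrfl
theorem f511572 : Led Lsl_ft (LP (LK LD1_c22 LD2_c17 LD3_c46)) = (LP (LK LD1_c23 LD2_c44 LD3_c43)) :=
  Lgr Lrot101 (Lpe (f137108 IH) (Lpr_ff (f511560 IH) (Lpe (f511571 IH) (Lpn (LP (LK LD1_c23 LD2_c44 LD3_c43))))))
theorem f102895 : Led Lsl_dt (LP (LK LD1_c13 LD2_c6 LD3_c22)) = (LP (LK LD1_c22 LD2_c17 LD3_c46)) :=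
  Lre_d IH (LK LD1_c13 LD2_c6 LD3_c22) (LK LD1_c22 LD2_c17 LD3_c46) Lrfl Lrfl
theorem f511569 : Led Lsl_dt (LP (LK LD1_c23 LD2_c44 LD3_c43)) = (LP (LK LD1_c14 LD2_c9 LD3_c39)) :=
  Lre_d IH (LK LD1_c23 LD2_c44 LD3_c43) (LK LD1_c14 LD2_c9 LD3_c39) Lrfl Lrfl
theorem f511577 : Led Lsl_ff (LP (LK LD1_c13 LD2_c6 LD3_c22)) = (LP (LK LD1_c14 LD2_c9 LD3_c39)) :=
  Lgr Lrot19 (Lpr_dt (f102895 IH) (Lpr_ft (f511572 IH) (Lpr_dt (f511569 IH) (Lpn (LP (LK LD1_c14 LD2_c9 LD3_c39))))))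
theorem f511583 : Led Lsl_ft (LP (LK LD1_c13 LD2_c6 LD3_c22)) = (LP (LK LD1_c14 LD2_c9 LD3_c39)) :=
  Lgr Lrot48 (Lpr_ff (f511577 IH) (Lpn (LP (LK LD1_c14 LD2_c9 LD3_c39))))
theorem f518435 : Led Lsl_cf (LP (LK LD1_c7 LD2_c33 LD3_c14)) = (LP (LK LD1_c14 LD2_c9 LD3_c39)) :=
  Lgr Lrot108 (Lpr_ft (f518329 IH) (Lpr_ct (f102459 IH) (Lpr_ft (f511583 IH) (Lpn (LP (LK LD1_c14 LD2_c9 LD3_c39))))))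
theorem f4839 : Led Lsl_gt (LP (LK LD1_c3 LD2_c40 LD3_c38)) = (LP (LK LD1_c7 LD2_c21 LD3_c28)) :=
  Lre_g IH (LK LD1_c3 LD2_c40 LD3_c38) (LK LD1_c7 LD2_c21 LD3_c28) Lrfl Lrfl
theorem f436811 : Led Lsl_ct (LP (LK LD1_c13 LD2_c54 LD3_c37)) = (LP (LK LD1_c7 LD2_c21 LD3_c28)) :=
  Lre_c IH (LK LD1_c13 LD2_c54 LD3_c37) (LK LD1_c7 LD2_c21 LD3_c28) Lrfl Lrfl
theorem f511580 : Led Lsl_at (LP (LK LD1_c7 LD2_c29 LD3_c53)) = (LP (LK LD1_c14 LD2_c9 LD3_c39)) :=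
  Lre_a IH (LK LD1_c7 LD2_c29 LD3_c53) (LK LD1_c14 LD2_c9 LD3_c39) Lrfl Lrfl
theorem f511652 : Led Lsl_gt (LP (LK LD1_c13 LD2_c6 LD3_c26)) = (LP (LK LD1_c14 LD2_c9 LD3_c39)) :=
  Lgr Lrot46 (Lpe (f127982 IH) (Lpr_ft (K47.f511481 IH) (Lpr_at (f511580 IH) (Lpn (LP (LK LD1_c14 LD2_c9 LD3_c39))))))
theorem f518456 : Led Lsl_bt (LP (LK LD1_c13 LD2_c54 LD3_c37)) = (LP (LK LD1_c13 LD2_c6 LD3_c26)) :=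
  Lgr Lrot130 (Lpr_ct (f436811 IH) (Lpe (f4839 IH) (Lpe (K34.f436783 IH) (Lpr_bt (K34.f12868 IH) (Lpe (K29.f4560 IH) (Lpe (K43.f436812 IH) (Lpe (K46.f483457 IH) (Lpe (f483344 IH) (Lpr_cf (f518435 IH) (Lpe (f511652 IH) (Lpn (LP (LK LD1_c13 LD2_c6 LD3_c26)))))))))))))
theorem f518458 : Led Lsl_bf (LP (LK LD1_c13 LD2_c54 LD3_c37)) = (LP (LK LD1_c13 LD2_c6 LD3_c26)) :=
  Lgr Lrot24 (Lpr_bt (f518456 IH) (Lpn (LP (LK LD1_c13 LD2_c6 LD3_c26))))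
theorem f661441 : Led Lsl_gt (LP (LK LD1_c13 LD2_c55 LD3_c18)) = (LP (LK LD1_c13 LD2_c54 LD3_c37)) :=
  Lgr Lrot164 (Lpe (f439289 IH) (Lpe (K46.f439618 IH) (Lpr_gf (f661440 IH) (Lpe (f661439 IH) (Lpe (f489806 IH) (Lpr_bf (f611081 IH) (Lpr_ct (f517840 IH) (Lpe (f611115 IH) (Lpe (f489807 IH) (Lpe (f518458 IH) (Lpn (LP (LK LD1_c13 LD2_c54 LD3_c37)))))))))))))
theorem f661442 : Led Lsl_gt (LP (LK LD1_c13 LD2_c55 LD3_c18)) = (LP (LK LD1_c13 LD2_c54 LD3_c37)) :=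
  Leop (Lpe (f661441 IH) (Lpn (LP (LK LD1_c13 LD2_c55 LD3_c18))))
theorem seed_447 : LEOK LG_g (LK LD1_c13 LD2_c55 LD3_c18) :=
  Leoe_g (LK LD1_c13 LD2_c55 LD3_c18) (f661442 IH)
def v7176 : LQ := Led Lsl_et (LP (LK LD1_c3 LD2_c41 LD3_c9))
theorem f661706 : Led Lsl_et (LP (LK LD1_c3 LD2_c41 LD3_c9)) = v7176 :=
  Lrfl
theorem f661709 : Led Lsl_ef (LP (LK LD1_c3 LD2_c41 LD3_c9)) = v7176 :=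
  Lgr Lrot88 (Lpr_et (f661706 IH) (Lpn v7176))
theorem f144410 : Led Lsl_gt (LP (LK LD1_c3 LD2_c55 LD3_c14)) = (LP (LK LD1_c7 LD2_c52 LD3_c15)) :=
  Lre_g IH (LK LD1_c3 LD2_c55 LD3_c14) (LK LD1_c7 LD2_c52 LD3_c15) Lrfl Lrfl
theorem f661712 : Led Lsl_df (LP (LK LD1_c7 LD2_c52 LD3_c15)) = v7176 :=
  Lgr Lrot132 (Lpe (f144410 IH) (Lpe (K33.f123418 IH) (Lpe (K29.f123417 IH) (Lpe (K6.f122754 IH) (Lpr_dt (K6.f11654 IH) (Lpr_gf (K42.f144376 IH) (Lpe (K7.f124022 IH) (Lpr_et (K8.f124030 IH) (Lpe (K28.f465713 IH) (Lpr_ef (f661709 IH) (Lpn v7176)))))))))))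
theorem f661715 : Led Lsl_et (LP (LK LD1_c7 LD2_c52 LD3_c15)) = (LP (LK LD1_c14 LD2_c50 LD3_c51)) :=
  Lre_e IH (LK LD1_c7 LD2_c52 LD3_c15) (LK LD1_c14 LD2_c50 LD3_c51) Lrfl Lrfl
theorem f465995 : Led Lsl_et (LP (LK LD1_c13 LD2_c57 LD3_c0)) = (LP (LK LD1_c7 LD2_c22 LD3_c38)) :=
  Lre_e IH (LK LD1_c13 LD2_c57 LD3_c0) (LK LD1_c7 LD2_c22 LD3_c38) Lrfl Lrfl
theorem f661716 : Led Lsl_dt (LP (LK LD1_c14 LD2_c50 LD3_c51)) = (LP (LK LD1_c13 LD2_c57 LD3_c0)) :=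
  Lgr Lrot77 (Lpe (f661715 IH) (Lpr_df (f661712 IH) (Lpe (f661706 IH) (Lpe (K34.f439215 IH) (Lpe (f465995 IH) (Lpn (LP (LK LD1_c13 LD2_c57 LD3_c0))))))))
theorem f661717 : Led Lsl_dt (LP (LK LD1_c14 LD2_c50 LD3_c51)) = (LP (LK LD1_c13 LD2_c57 LD3_c0)) :=
  Leop (Lpe (f661716 IH) (Lpn (LP (LK LD1_c14 LD2_c50 LD3_c51))))
theorem seed_448 : LEOK LG_d (LK LD1_c14 LD2_c50 LD3_c51) :=
  Leoe_d (LK LD1_c14 LD2_c50 LD3_c51) (f661717 IH)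
def v7184 : LQ := Led Lsl_ft (LP (LK LD1_c3 LD2_c41 LD3_c37))
theorem f661823 : Led Lsl_ft (LP (LK LD1_c3 LD2_c41 LD3_c37)) = v7184 :=
  Lrfl
theorem f661826 : Led Lsl_ff (LP (LK LD1_c3 LD2_c41 LD3_c37)) = v7184 :=
  Lgr Lrot3 (Lpr_ft (f661823 IH) (Lpn v7184))
theorem f517555 : Led Lsl_ff (LP (LK LD1_c3 LD2_c40 LD3_c40)) = (LP (LK LD1_c1 LD2_c47 LD3_c42)) :=
  Lgr Lrot19 (Lpr_dt (K34.f148260 IH) (Lpr_ft (K34.f517548 IH) (Lpr_dt (K47.f4650 IH) (Lpn (LP (LK LD1_c1 LD2_c47 LD3_c42))))))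
theorem f516857 : Led Lsl_ft (LP (LK LD1_c3 LD2_c46 LD3_c10)) = (LP (LK LD1_c7 LD2_c3 LD3_c28)) :=
  Lgr Lrot48 (Lpr_ff (K47.f516853 IH) (Lpn (LP (LK LD1_c7 LD2_c3 LD3_c28))))
theorem f461601 : Led Lsl_bt (LP (LK LD1_c7 LD2_c3 LD3_c28)) = (LP (LK LD1_c13 LD2_c23 LD3_c4)) :=
  Lre_b IH (LK LD1_c7 LD2_c3 LD3_c28) (LK LD1_c13 LD2_c23 LD3_c4) Lrfl Lrfl
theorem f516859 : Led Lsl_ff (LP (LK LD1_c7 LD2_c33 LD3_c17)) = (LP (LK LD1_c13 LD2_c23 LD3_c4)) :=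
  Lgr Lrot25 (Lpr_bt (K46.f477401 IH) (Lpr_ft (f516857 IH) (Lpr_bt (f461601 IH) (Lpn (LP (LK LD1_c13 LD2_c23 LD3_c4))))))
theorem f461621 : Led Lsl_ct (LP (LK LD1_c22 LD2_c40 LD3_c55)) = (LP (LK LD1_c13 LD2_c23 LD3_c4)) :=
  Lre_c IH (LK LD1_c22 LD2_c40 LD3_c55) (LK LD1_c13 LD2_c23 LD3_c4) Lrfl Lrfl
theorem f531522 : Led Lsl_ft (LP (LK LD1_c13 LD2_c25 LD3_c8)) = (LP (LK LD1_c22 LD2_c40 LD3_c55)) :=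
  Lgr Lrot4 (Lpr_cf (K46.f531515 IH) (Lpr_ff (f516859 IH) (Lpe (f461621 IH) (Lpn (LP (LK LD1_c22 LD2_c40 LD3_c55))))))
theorem f531532 : Led Lsl_ff (LP (LK LD1_c13 LD2_c25 LD3_c8)) = (LP (LK LD1_c22 LD2_c40 LD3_c55)) :=
  Lgr Lrot3 (Lpr_ft (f531522 IH) (Lpn (LP (LK LD1_c22 LD2_c40 LD3_c55))))
theorem f458329 : Led Lsl_bt (LP (LK LD1_c13 LD2_c25 LD3_c8)) = (LP (LK LD1_c7 LD2_c4 LD3_c39)) :=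
  Lre_b IH (LK LD1_c13 LD2_c25 LD3_c8) (LK LD1_c7 LD2_c4 LD3_c39) Lrfl Lrfl
theorem f129759 : Led Lsl_gt (LP (LK LD1_c13 LD2_c23 LD3_c5)) = (LP (LK LD1_c7 LD2_c3 LD3_c29)) :=
  Lre_g IH (LK LD1_c13 LD2_c23 LD3_c5) (LK LD1_c7 LD2_c3 LD3_c29) Lrfl Lrfl
theorem f461586 : Led Lsl_ff (LP (LK LD1_c7 LD2_c34 LD3_c49)) = (LP (LK LD1_c13 LD2_c23 LD3_c5)) :=
  Lgr Lrot52 (Lpr_at (K5.f126438 IH) (Lpr_gf (K34.f461583 IH) (Lpe (f129759 IH) (Lpn (LP (LK LD1_c13 LD2_c23 LD3_c5))))))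
theorem f461647 : Led Lsl_ft (LP (LK LD1_c7 LD2_c34 LD3_c49)) = (LP (LK LD1_c13 LD2_c23 LD3_c5)) :=
  Lgr Lrot48 (Lpr_ff (f461586 IH) (Lpn (LP (LK LD1_c13 LD2_c23 LD3_c5))))
theorem f461649 : Led Lsl_af (LP (LK LD1_c7 LD2_c37 LD3_c53)) = (LP (LK LD1_c13 LD2_c23 LD3_c5)) :=
  Lgr Lrot45 (Lpr_ft (K29.f17361 IH) (Lpe (K6.f126441 IH) (Lpr_ft (f461647 IH) (Lpn (LP (LK LD1_c13 LD2_c23 LD3_c5))))))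
theorem f513839 : Led Lsl_gt (LP (LK LD1_c13 LD2_c23 LD3_c7)) = (LP (LK LD1_c7 LD2_c37 LD3_c53)) :=
  Lgr Lrot46 (Lpr_gf (K34.f513837 IH) (Lpr_ft (f461647 IH) (Lpe (f461649 IH) (Lpn (LP (LK LD1_c7 LD2_c37 LD3_c53))))))
theorem f88005 : Led Lsl_et (LP (LK LD1_c1 LD2_c53 LD3_c13)) = (LP (LK LD1_c0 LD2_c53 LD3_c10)) :=
  Lre_e IH (LK LD1_c1 LD2_c53 LD3_c13) (LK LD1_c0 LD2_c53 LD3_c10) Lrfl Lrfl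
theorem f513969 : Led Lsl_gf (LP (LK LD1_c7 LD2_c3 LD3_c30)) = (LP (LK LD1_c3 LD2_c46 LD3_c10)) :=
  Lgr Lrot138 (Lpr_dt (K34.f461627 IH) (Lpr_gt (f513839 IH) (Lpe (K28.f17347 IH) (Lpr_et (K24.f460195 IH) (Lpe (K24.f460405 IH) (Lpe (f88005 IH) (Lpr_dt (K29.f88004 IH) (Lpr_gt (K29.f474337 IH) (Lpe (K29.f441420 IH) (Lpr_et (K33.f474341 IH) (Lpn (LP (LK LD1_c3 LD2_c46 LD3_c10)))))))))))))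
theorem f513680 : Led Lsl_at (LP (LK LD1_c3 LD2_c30 LD3_c43)) = (LP (LK LD1_c7 LD2_c0 LD3_c10)) :=
  Lgr Lrot100 (Lpr_af (K34.f513676 IH) (Lpn (LP (LK LD1_c7 LD2_c0 LD3_c10))))
theorem f513700 : Led Lsl_ft (LP (LK LD1_c7 LD2_c3 LD3_c30)) = (LP (LK LD1_c3 LD2_c30 LD3_c43)) :=
  Lre_f IH (LK LD1_c7 LD2_c3 LD3_c30) (LK LD1_c3 LD2_c30 LD3_c43) Lrfl Lrfl
theorem f460221 : Led Lsl_gt (LP (LK LD1_c13 LD2_c17 LD3_c13)) = (LP (LK LD1_c7 LD2_c0 LD3_c10)) :=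
  Lre_g IH (LK LD1_c13 LD2_c17 LD3_c13) (LK LD1_c7 LD2_c0 LD3_c10) Lrfl Lrfl
theorem f514019 : Led Lsl_gt (LP (LK LD1_c7 LD2_c3 LD3_c30)) = (LP (LK LD1_c13 LD2_c17 LD3_c13)) :=
  Lgr Lrot5 (Lpr_ft (f513700 IH) (Lpr_at (f513680 IH) (Lpe (f460221 IH) (Lpn (LP (LK LD1_c13 LD2_c17 LD3_c13))))))
theorem f516861 : Led Lsl_af (LP (LK LD1_c13 LD2_c17 LD3_c13)) = (LP (LK LD1_c7 LD2_c3 LD3_c28)) :=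
  Lgr Lrot31 (Lpe (f514019 IH) (Lpr_gf (f513969 IH) (Lpr_ft (f516857 IH) (Lpn (LP (LK LD1_c7 LD2_c3 LD3_c28))))))
theorem f516844 : Led Lsl_af (LP (LK LD1_c3 LD2_c46 LD3_c10)) = (LP (LK LD1_c7 LD2_c1 LD3_c5)) :=
  Lgr Lrot0 (Lpr_at (K33.f516842 IH) (Lpn (LP (LK LD1_c7 LD2_c1 LD3_c5))))
theorem f516866 : Led Lsl_ft (LP (LK LD1_c13 LD2_c17 LD3_c13)) = (LP (LK LD1_c7 LD2_c1 LD3_c5)) :=
  Lgr Lrot101 (Lpr_af (f516861 IH) (Lpe (f516857 IH) (Lpr_af (f516844 IH) (Lpn (LP (LK LD1_c7 LD2_c1 LD3_c5))))))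
theorem f516870 : Led Lsl_ff (LP (LK LD1_c13 LD2_c17 LD3_c13)) = (LP (LK LD1_c7 LD2_c1 LD3_c5)) :=
  Lgr Lrot3 (Lpr_ft (f516866 IH) (Lpn (LP (LK LD1_c7 LD2_c1 LD3_c5))))
theorem f516865 : Led Lsl_bt (LP (LK LD1_c13 LD2_c17 LD3_c13)) = (LP (LK LD1_c22 LD2_c32 LD3_c59)) :=
  Lre_b IH (LK LD1_c13 LD2_c17 LD3_c13) (LK LD1_c22 LD2_c32 LD3_c59) Lrfl Lrfl
theorem f516872 : Led Lsl_ft (LP (LK LD1_c22 LD2_c32 LD3_c59)) = (LP (LK LD1_c13 LD2_c18 LD3_c45)) :=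
  Lgr Lrot75 (Lpe (f516865 IH) (Lpr_ff (f516870 IH) (Lpe (K46.f472392 IH) (Lpn (LP (LK LD1_c13 LD2_c18 LD3_c45))))))
theorem f481482 : Led Lsl_bt (LP (LK LD1_c1 LD2_c46 LD3_c28)) = (LP (LK LD1_c3 LD2_c38 LD3_c59)) :=
  Lre_b IH (LK LD1_c1 LD2_c46 LD3_c28) (LK LD1_c3 LD2_c38 LD3_c59) Lrfl Lrfl
theorem f482956 : Led Lsl_bt (LP (LK LD1_c7 LD2_c18 LD3_c24)) = (LP (LK LD1_c3 LD2_c39 LD3_c0)) :=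
  Lre_b IH (LK LD1_c7 LD2_c18 LD3_c24) (LK LD1_c3 LD2_c39 LD3_c0) Lrfl Lrfl
theorem f482957 : Led Lsl_ct (LP (LK LD1_c13 LD2_c18 LD3_c45)) = (LP (LK LD1_c7 LD2_c18 LD3_c24)) :=
  Lgr Lrot83 (Lpe (K46.f472459 IH) (Lpr_cf (K30.f482954 IH) (Lpe (f481482 IH) (Lpe (K30.f481477 IH) (Lpe (f482956 IH) (Lpn (LP (LK LD1_c7 LD2_c18 LD3_c24))))))))
theorem f483008 : Led Lsl_ft (LP (LK LD1_c7 LD2_c18 LD3_c24)) = (LP (LK LD1_c13 LD2_c49 LD3_c34)) :=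
  Lre_f IH (LK LD1_c7 LD2_c18 LD3_c24) (LK LD1_c13 LD2_c49 LD3_c34) Lrfl Lrfl
theorem f516874 : Led Lsl_cf (LP (LK LD1_c22 LD2_c32 LD3_c59)) = (LP (LK LD1_c13 LD2_c49 LD3_c34)) :=
  Lgr Lrot108 (Lpr_ft (f516872 IH) (Lpr_ct (f482957 IH) (Lpr_ft (f483008 IH) (Lpn (LP (LK LD1_c13 LD2_c49 LD3_c34))))))
theorem f516878 : Led Lsl_ct (LP (LK LD1_c22 LD2_c32 LD3_c59)) = (LP (LK LD1_c13 LD2_c49 LD3_c34)) :=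
  Lgr Lrot59 (Lpr_cf (f516874 IH) (Lpn (LP (LK LD1_c13 LD2_c49 LD3_c34))))
theorem f463878 : Led Lsl_bt (LP (LK LD1_c22 LD2_c32 LD3_c59)) = (LP (LK LD1_c13 LD2_c17 LD3_c13)) :=
  Lre_b IH (LK LD1_c22 LD2_c32 LD3_c59) (LK LD1_c13 LD2_c17 LD3_c13) Lrfl Lrfl
theorem f473246 : Led Lsl_gf (LP (LK LD1_c6 LD2_c57 LD3_c4)) = (LP (LK LD1_c3 LD2_c39 LD3_c53)) :=
  Lgr Lrot144 (Lpr_dt (K33.f15297 IH) (Lpr_gt (K28.f15296 IH) (Lpr_dt (K28.f15289 IH) (Lpe (K28.f15284 IH) (Lpe (K28.f15822 IH) (Lpe (K28.f15835 IH) (Lpe (K28.f17091 IH) (Lpr_gf (K28.f473244 IH) (Lpe (K28.f455952 IH) (Lpn (LP (LK LD1_c3 LD2_c39 LD3_c53))))))))))))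
theorem f516882 : Led Lsl_gt (LP (LK LD1_c13 LD2_c52 LD3_c12)) = (LP (LK LD1_c13 LD2_c49 LD3_c34)) :=
  Lgr Lrot65 (Lpe (K33.f513088 IH) (Lpr_bt (K33.f473265 IH) (Lpr_gf (f473246 IH) (Lpr_bf (K29.f456279 IH) (Lpr_ct (K30.f456272 IH) (Lpr_gf (K29.f477419 IH) (Lpe (K47.f460212 IH) (Lpe (f460221 IH) (Lpe (f463878 IH) (Lpr_ct (f516878 IH) (Lpn (LP (LK LD1_c13 LD2_c49 LD3_c34)))))))))))))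
theorem f488652 : Led Lsl_at (LP (LK LD1_c22 LD2_c41 LD3_c14)) = (LP (LK LD1_c13 LD2_c23 LD3_c22)) :=
  Lre_a IH (LK LD1_c22 LD2_c41 LD3_c14) (LK LD1_c13 LD2_c23 LD3_c22) Lrfl Lrfl
theorem f513350 : Led Lsl_af (LP (LK LD1_c13 LD2_c27 LD3_c36)) = (LP (LK LD1_c13 LD2_c38 LD3_c57)) :=
  Lgr Lrot36 (Lpr_bt (K43.f513348 IH) (Lpr_at (f488652 IH) (Lpr_bt (K33.f466481 IH) (Lpe (K33.f513155 IH) (Lpr_bt (K33.f441666 IH) (Lpn (LP (LK LD1_c13 LD2_c38 LD3_c57))))))))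
theorem f516884 : Led Lsl_gf (LP (LK LD1_c13 LD2_c27 LD3_c36)) = (LP (LK LD1_c13 LD2_c49 LD3_c34)) :=
  Lgr Lrot76 (Lpr_af (f513350 IH) (Lpr_ff (K33.f513093 IH) (Lpr_gt (f516882 IH) (Lpn (LP (LK LD1_c13 LD2_c49 LD3_c34))))))
theorem f482972 : Led Lsl_ft (LP (LK LD1_c13 LD2_c49 LD3_c34)) = (LP (LK LD1_c7 LD2_c18 LD3_c24)) :=
  Lre_f IH (LK LD1_c13 LD2_c49 LD3_c34) (LK LD1_c7 LD2_c18 LD3_c24) Lrfl Lrfl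
theorem f483006 : Led Lsl_at (LP (LK LD1_c7 LD2_c18 LD3_c24)) = (LP (LK LD1_c13 LD2_c49 LD3_c29)) :=
  Lre_a IH (LK LD1_c7 LD2_c18 LD3_c24) (LK LD1_c13 LD2_c49 LD3_c29) Lrfl Lrfl
theorem f516886 : Led Lsl_gt (LP (LK LD1_c13 LD2_c27 LD3_c36)) = (LP (LK LD1_c13 LD2_c49 LD3_c29)) :=
  Lgr Lrot46 (Lpr_gf (f516884 IH) (Lpr_ft (f482972 IH) (Lpr_at (f483006 IH) (Lpn (LP (LK LD1_c13 LD2_c49 LD3_c29))))))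
theorem f513358 : Led Lsl_ft (LP (LK LD1_c13 LD2_c27 LD3_c36)) = (LP (LK LD1_c13 LD2_c49 LD3_c33)) :=
  Lgr Lrot48 (Lpr_ff (K43.f513354 IH) (Lpn (LP (LK LD1_c13 LD2_c49 LD3_c33))))
theorem f513225 : Led Lsl_at (LP (LK LD1_c13 LD2_c49 LD3_c33)) = (LP (LK LD1_c13 LD2_c52 LD3_c12)) :=
  Lgr Lrot100 (Lpr_af (K33.f513223 IH) (Lpn (LP (LK LD1_c13 LD2_c52 LD3_c12))))
theorem f516888 : Led Lsl_gf (LP (LK LD1_c13 LD2_c52 LD3_c12)) = (LP (LK LD1_c13 LD2_c49 LD3_c29)) :=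
  Lgr Lrot76 (Lpe (f513225 IH) (Lpe (f513358 IH) (Lpr_gt (f516886 IH) (Lpn (LP (LK LD1_c13 LD2_c49 LD3_c29))))))
theorem f473261 : Led Lsl_gt (LP (LK LD1_c6 LD2_c57 LD3_c4)) = (LP (LK LD1_c13 LD2_c3 LD3_c61)) :=
  Lgr Lrot9 (Lpe (K33.f15461 IH) (Lpr_gt (K28.f15296 IH) (Lpr_ct (K28.f17052 IH) (Lpr_gt (K28.f17080 IH) (Lpr_ct (K28.f473253 IH) (Lpe (K28.f92002 IH) (Lpe (K28.f15826 IH) (Lpe (K28.f458374 IH) (Lpe (K28.f91507 IH) (Lpn (LP (LK LD1_c13 LD2_c3 LD3_c61))))))))))))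
theorem f482966 : Led Lsl_at (LP (LK LD1_c13 LD2_c49 LD3_c29)) = (LP (LK LD1_c7 LD2_c18 LD3_c24)) :=
  Lre_a IH (LK LD1_c13 LD2_c49 LD3_c29) (LK LD1_c7 LD2_c18 LD3_c24) Lrfl Lrfl
theorem f482967 : Led Lsl_ct (LP (LK LD1_c22 LD2_c34 LD3_c48)) = (LP (LK LD1_c13 LD2_c49 LD3_c29)) :=
  Lgr Lrot111 (Lpe (K46.f472472 IH) (Lpr_cf (K46.f482964 IH) (Lpe (f482966 IH) (Lpn (LP (LK LD1_c13 LD2_c49 LD3_c29))))))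
theorem f516890 : Led Lsl_gt (LP (LK LD1_c13 LD2_c4 LD3_c11)) = (LP (LK LD1_c14 LD2_c14 LD3_c50)) :=
  Lgr Lrot164 (Lpe (K28.f15827 IH) (Lpr_ct (K28.f90862 IH) (Lpe (K28.f458374 IH) (Lpe (K28.f91507 IH) (Lpe (f473261 IH) (Lpe (K33.f473265 IH) (Lpr_ct (K33.f513088 IH) (Lpr_gf (f516888 IH) (Lpe (f482967 IH) (Lpe (K46.f516847 IH) (Lpn (LP (LK LD1_c14 LD2_c14 LD3_c50)))))))))))))
theorem f516893 : Led Lsl_gf (LP (LK LD1_c13 LD2_c4 LD3_c11)) = (LP (LK LD1_c13 LD2_c23 LD3_c4)) :=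
  Lgr Lrot47 (Lpr_gt (f516890 IH) (Lpe (K46.f516892 IH) (Lpr_ff (f516859 IH) (Lpn (LP (LK LD1_c13 LD2_c23 LD3_c4))))))
theorem f458244 : Led Lsl_ft (LP (LK LD1_c7 LD2_c4 LD3_c42)) = (LP (LK LD1_c3 LD2_c31 LD3_c29)) :=
  Lre_f IH (LK LD1_c7 LD2_c4 LD3_c42) (LK LD1_c3 LD2_c31 LD3_c29) Lrfl Lrfl
theorem f458921 : Led Lsl_bf (LP (LK LD1_c7 LD2_c4 LD3_c42)) = (LP (LK LD1_c3 LD2_c31 LD3_c31)) :=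
  Lgr Lrot61 (Lpr_ft (f458244 IH) (Lpe (K24.f458228 IH) (Lpr_ft (K24.f458912 IH) (Lpn (LP (LK LD1_c3 LD2_c31 LD3_c31))))))
theorem f455745 : Led Lsl_gt (LP (LK LD1_c7 LD2_c4 LD3_c42)) = (LP (LK LD1_c13 LD2_c24 LD3_c44)) :=
  Lre_g IH (LK LD1_c7 LD2_c4 LD3_c42) (LK LD1_c13 LD2_c24 LD3_c44) Lrfl Lrfl
theorem f516895 : Led Lsl_bf (LP (LK LD1_c13 LD2_c24 LD3_c44)) = (LP (LK LD1_c22 LD2_c40 LD3_c55)) :=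
  Lgr Lrot34 (Lpe (f455745 IH) (Lpr_bf (f458921 IH) (Lpr_ct (K28.f12141 IH) (Lpe (K33.f483767 IH) (Lpe (K34.f483761 IH) (Lpr_gf (K34.f483773 IH) (Lpe (K28.f132085 IH) (Lpe (K28.f464349 IH) (Lpr_gf (f516893 IH) (Lpe (f461621 IH) (Lpn (LP (LK LD1_c22 LD2_c40 LD3_c55)))))))))))))
theorem f516897 : Led Lsl_bt (LP (LK LD1_c13 LD2_c24 LD3_c44)) = (LP (LK LD1_c22 LD2_c40 LD3_c55)) :=
  Lgr Lrot127 (Lpr_bf (f516895 IH) (Lpn (LP (LK LD1_c22 LD2_c40 LD3_c55))))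
theorem f531534 : Led Lsl_ft (LP (LK LD1_c7 LD2_c4 LD3_c39)) = (LP (LK LD1_c13 LD2_c24 LD3_c44)) :=
  Lgr Lrot75 (Lpe (f458329 IH) (Lpr_ff (f531532 IH) (Lpe (f516897 IH) (Lpn (LP (LK LD1_c13 LD2_c24 LD3_c44))))))
theorem f661828 : Led Lsl_et (LP (LK LD1_c13 LD2_c24 LD3_c44)) = v7184 :=
  Lgr Lrot69 (Lpe (f531534 IH) (Lpr_ef (K34.f531419 IH) (Lpr_ff (f517555 IH) (Lpe (K47.f437011 IH) (Lpr_ff (f661826 IH) (Lpn v7184))))))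
theorem f488755 : Led Lsl_bt (LP (LK LD1_c7 LD2_c54 LD3_c10)) = (LP (LK LD1_c14 LD2_c54 LD3_c24)) :=
  Lre_b IH (LK LD1_c7 LD2_c54 LD3_c10) (LK LD1_c14 LD2_c54 LD3_c24) Lrfl Lrfl
theorem f531406 : Led Lsl_df (LP (LK LD1_c13 LD2_c25 LD3_c8)) = (LP (LK LD1_c14 LD2_c54 LD3_c24)) :=
  Lgr Lrot12 (Lpr_bt (f458329 IH) (Lpr_dt (K34.f531404 IH) (Lpr_bt (f488755 IH) (Lpn (LP (LK LD1_c14 LD2_c54 LD3_c24))))))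
theorem f486102 : Led Lsl_et (LP (LK LD1_c7 LD2_c33 LD3_c17)) = (LP (LK LD1_c3 LD2_c46 LD3_c8)) :=
  Lre_e IH (LK LD1_c7 LD2_c33 LD3_c17) (LK LD1_c3 LD2_c46 LD3_c8) Lrfl Lrfl
theorem f96318 : Led Lsl_et (LP (LK LD1_c1 LD2_c39 LD3_c43)) = (LP (LK LD1_c3 LD2_c26 LD3_c5)) :=
  Lre_e IH (LK LD1_c1 LD2_c39 LD3_c43) (LK LD1_c3 LD2_c26 LD3_c5) Lrfl Lrfl
theorem f98803 : Led Lsl_dt (LP (LK LD1_c13 LD2_c7 LD3_c42)) = (LP (LK LD1_c22 LD2_c19 LD3_c43)) :=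
  Lre_d IH (LK LD1_c13 LD2_c7 LD3_c42) (LK LD1_c22 LD2_c19 LD3_c43) Lrfl Lrfl
theorem f492603 : Led Lsl_dt (LP (LK LD1_c13 LD2_c13 LD3_c11)) = (LP (LK LD1_c6 LD2_c57 LD3_c47)) :=
  Lre_d IH (LK LD1_c13 LD2_c13 LD3_c11) (LK LD1_c6 LD2_c57 LD3_c47) Lrfl Lrfl
theorem f492604 : Led Lsl_ft (LP (LK LD1_c22 LD2_c19 LD3_c43)) = (LP (LK LD1_c13 LD2_c13 LD3_c11)) :=
  Lgr Lrot54 (Lpe (f98803 IH) (Lpr_ff (K33.f492475 IH) (Lpe (f492603 IH) (Lpn (LP (LK LD1_c13 LD2_c13 LD3_c11))))))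
theorem f493039 : Led Lsl_at (LP (LK LD1_c13 LD2_c13 LD3_c11)) = (LP (LK LD1_c6 LD2_c57 LD3_c48)) :=
  Lre_a IH (LK LD1_c13 LD2_c13 LD3_c11) (LK LD1_c6 LD2_c57 LD3_c48) Lrfl Lrfl
theorem f462757 : Led Lsl_gt (LP (LK LD1_c13 LD2_c13 LD3_c14)) = (LP (LK LD1_c6 LD2_c57 LD3_c48)) :=
  Lre_g IH (LK LD1_c13 LD2_c13 LD3_c14) (LK LD1_c6 LD2_c57 LD3_c48) Lrfl Lrfl
theorem f493139 : Led Lsl_gt (LP (LK LD1_c22 LD2_c19 LD3_c43)) = (LP (LK LD1_c13 LD2_c13 LD3_c14)) :=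
  Lgr Lrot5 (Lpr_ft (f492604 IH) (Lpr_at (f493039 IH) (Lpe (f462757 IH) (Lpn (LP (LK LD1_c13 LD2_c13 LD3_c14))))))
theorem f518333 : Led Lsl_dt (LP (LK LD1_c7 LD2_c33 LD3_c17)) = (LP (LK LD1_c13 LD2_c13 LD3_c14)) :=
  Lgr Lrot56 (Lpr_et (f486102 IH) (Lpr_gt (f518327 IH) (Lpe (f96318 IH) (Lpr_dt (K8.f95249 IH) (Lpr_gt (K5.f94698 IH) (Lpe (K34.f127912 IH) (Lpr_et (K6.f127914 IH) (Lpe (K34.f492816 IH) (Lpr_dt (f98803 IH) (Lpr_gt (f493139 IH) (Lpn (LP (LK LD1_c13 LD2_c13 LD3_c14)))))))))))))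
theorem f518338 : Led Lsl_df (LP (LK LD1_c7 LD2_c33 LD3_c17)) = (LP (LK LD1_c13 LD2_c13 LD3_c14)) :=
  Lgr Lrot38 (Lpr_dt (f518333 IH) (Lpn (LP (LK LD1_c13 LD2_c13 LD3_c14))))
theorem f129366 : Led Lsl_dt (LP (LK LD1_c14 LD2_c46 LD3_c8)) = (LP (LK LD1_c24 LD2_c32 LD3_c22)) :=
  Lre_d IH (LK LD1_c14 LD2_c46 LD3_c8) (LK LD1_c24 LD2_c32 LD3_c22) Lrfl Lrfl
theorem f531524 : Led Lsl_gf (LP (LK LD1_c14 LD2_c54 LD3_c24)) = (LP (LK LD1_c24 LD2_c32 LD3_c22)) :=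
  Lgr Lrot143 (Lpe (f531406 IH) (Lpr_cf (K46.f531515 IH) (Lpr_df (f518338 IH) (Lpe (f493139 IH) (Lpe (f98803 IH) (Lpr_gf (K34.f492816 IH) (Lpe (K6.f129498 IH) (Lpr_gt (K28.f129365 IH) (Lpr_dt (f129366 IH) (Lpn (LP (LK LD1_c24 LD2_c32 LD3_c22))))))))))))
theorem f531526 : Led Lsl_df (LP (LK LD1_c14 LD2_c54 LD3_c24)) = (LP (LK LD1_c13 LD2_c25 LD3_c8)) :=
  Lgr Lrot132 (Lpr_gf (f531524 IH) (Lpe (f129366 IH) (Lpe (K28.f129365 IH) (Lpe (K8.f129363 IH) (Lpe (K6.f129355 IH) (Lpr_gf (K8.f129382 IH) (Lpe (K8.f123635 IH) (Lpr_et (K47.f129486 IH) (Lpr_gf (K43.f501781 IH) (Lpe (K46.f531424 IH) (Lpn (LP (LK LD1_c13 LD2_c25 LD3_c8)))))))))))))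
theorem f471644 : Led Lsl_bt (LP (LK LD1_c14 LD2_c55 LD3_c52)) = (LP (LK LD1_c7 LD2_c54 LD3_c56)) :=
  Lre_b IH (LK LD1_c14 LD2_c55 LD3_c52) (LK LD1_c7 LD2_c54 LD3_c56) Lrfl Lrfl
theorem f531455 : Led Lsl_ft (LP (LK LD1_c14 LD2_c54 LD3_c24)) = (LP (LK LD1_c14 LD2_c55 LD3_c52)) :=
  Lgr Lrot75 (Lpe (f488755 IH) (Lpr_ff (K34.f531453 IH) (Lpe (f471644 IH) (Lpn (LP (LK LD1_c14 LD2_c55 LD3_c52))))))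
theorem f531536 : Led Lsl_dt (LP (LK LD1_c14 LD2_c55 LD3_c52)) = (LP (LK LD1_c22 LD2_c40 LD3_c55)) :=
  Lgr Lrot60 (Lpe (f531455 IH) (Lpr_df (f531526 IH) (Lpr_ff (f531532 IH) (Lpn (LP (LK LD1_c22 LD2_c40 LD3_c55))))))
theorem f471100 : Led Lsl_bt (LP (LK LD1_c7 LD2_c54 LD3_c56)) = (LP (LK LD1_c14 LD2_c55 LD3_c52)) :=
  Lre_b IH (LK LD1_c7 LD2_c54 LD3_c56) (LK LD1_c14 LD2_c55 LD3_c52) Lrfl Lrfl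
theorem f531538 : Led Lsl_df (LP (LK LD1_c7 LD2_c54 LD3_c56)) = (LP (LK LD1_c13 LD2_c24 LD3_c44)) :=
  Lgr Lrot12 (Lpr_bt (f471100 IH) (Lpr_dt (f531536 IH) (Lpe (f516895 IH) (Lpn (LP (LK LD1_c13 LD2_c24 LD3_c44))))))
theorem f531542 : Led Lsl_dt (LP (LK LD1_c7 LD2_c54 LD3_c56)) = (LP (LK LD1_c13 LD2_c24 LD3_c44)) :=
  Lgr Lrot42 (Lpr_df (f531538 IH) (Lpn (LP (LK LD1_c13 LD2_c24 LD3_c44))))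
theorem f660895 : Led Lsl_dt (LP (LK LD1_c3 LD2_c55 LD3_c19)) = K47.v7092 :=
  Lgr Lrot42 (Lpr_df (K47.f660892 IH) (Lpn K47.v7092))
theorem f518471 : Led Lsl_af (LP (LK LD1_c3 LD2_c38 LD3_c50)) = (LP (LK LD1_c1 LD2_c47 LD3_c42)) :=
  Lgr Lrot68 (Lpr_ct (K33.f4423 IH) (Lpr_at (K47.f456989 IH) (Lpr_ct (K47.f517728 IH) (Lpn (LP (LK LD1_c1 LD2_c47 LD3_c42))))))
theorem f660887 : Led Lsl_af (LP (LK LD1_c3 LD2_c41 LD3_c37)) = K47.v7092 :=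
  Lgr Lrot50 (Lpr_et (K47.f437011 IH) (Lpe (f518471 IH) (Lpr_et (K47.f660886 IH) (Lpn K47.v7092))))
theorem f660896 : Led Lsl_af (LP (LK LD1_c3 LD2_c55 LD3_c19)) = (LP (LK LD1_c7 LD2_c23 LD3_c56)) :=
  Lgr Lrot117 (Lpr_dt (f660895 IH) (Lpe (f660887 IH) (Lpr_dt (K47.f437012 IH) (Lpn (LP (LK LD1_c7 LD2_c23 LD3_c56))))))
theorem f437649 : Led Lsl_gt (LP (LK LD1_c3 LD2_c55 LD3_c18)) = (LP (LK LD1_c7 LD2_c51 LD3_c28)) :=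
  Lre_g IH (LK LD1_c3 LD2_c55 LD3_c18) (LK LD1_c7 LD2_c51 LD3_c28) Lrfl Lrfl
theorem f660898 : Led Lsl_ft (LP (LK LD1_c3 LD2_c55 LD3_c18)) = (LP (LK LD1_c7 LD2_c23 LD3_c56)) :=
  Lgr Lrot2 (Lpr_gt (f437649 IH) (Lpr_gt (K47.f148181 IH) (Lpr_af (f660896 IH) (Lpn (LP (LK LD1_c7 LD2_c23 LD3_c56))))))
theorem f661824 : Led Lsl_df (LP (LK LD1_c3 LD2_c55 LD3_c18)) = v7184 :=
  Lgr Lrot78 (Lpr_ft (f660898 IH) (Lpr_dt (K47.f437022 IH) (Lpr_ft (f661823 IH) (Lpn v7184))))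
theorem f660903 : Led Lsl_et (LP (LK LD1_c3 LD2_c55 LD3_c18)) = (LP (LK LD1_c7 LD2_c52 LD3_c26)) :=
  Lre_e IH (LK LD1_c3 LD2_c55 LD3_c18) (LK LD1_c7 LD2_c52 LD3_c26) Lrfl Lrfl
theorem f437681 : Led Lsl_dt (LP (LK LD1_c7 LD2_c52 LD3_c26)) = (LP (LK LD1_c14 LD2_c51 LD3_c12)) :=
  Lre_d IH (LK LD1_c7 LD2_c52 LD3_c26) (LK LD1_c14 LD2_c51 LD3_c12) Lrfl Lrfl
theorem f661829 : Led Lsl_ef (LP (LK LD1_c7 LD2_c54 LD3_c56)) = (LP (LK LD1_c14 LD2_c51 LD3_c12)) :=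
  Lgr Lrot73 (Lpr_dt (f531542 IH) (Lpr_et (f661828 IH) (Lpe (f661824 IH) (Lpr_et (f660903 IH) (Lpr_dt (f437681 IH) (Lpn (LP (LK LD1_c14 LD2_c51 LD3_c12))))))))
theorem f661830 : Led Lsl_et (LP (LK LD1_c14 LD2_c51 LD3_c12)) = (LP (LK LD1_c7 LD2_c54 LD3_c56)) :=
  Leop (Lpr_ef (f661829 IH) (Lpn (LP (LK LD1_c14 LD2_c51 LD3_c12))))
theorem seed_449 : LEOK LG_e (LK LD1_c14 LD2_c51 LD3_c12) :=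
  Leoe_e (LK LD1_c14 LD2_c51 LD3_c12) (f661830 IH)
def v7186 : LQ := Led Lsl_et (LP (LK LD1_c3 LD2_c41 LD3_c45))
theorem f661861 : Led Lsl_et (LP (LK LD1_c3 LD2_c41 LD3_c45)) = v7186 :=
  Lrfl
def v6856 : LQ := Led Lsl_gf (LP (LK LD1_c3 LD2_c32 LD3_c11))
theorem f658994 : Led Lsl_gf (LP (LK LD1_c3 LD2_c32 LD3_c11)) = v6856 :=
  Lrfl
def v7110 : LQ := Led Lsl_et (LP (LK LD1_c3 LD2_c39 LD3_c14))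
theorem f661147 : Led Lsl_et (LP (LK LD1_c3 LD2_c39 LD3_c14)) = v7110 :=
  Lrfl
theorem f661151 : Led Lsl_ef (LP (LK LD1_c3 LD2_c39 LD3_c14)) = v7110 :=
  Lgr Lrot88 (Lpr_et (f661147 IH) (Lpn v7110))
def v7087 : LQ := Led Lsl_ft (LP (LK LD1_c3 LD2_c38 LD3_c7))
theorem f660797 : Led Lsl_ft (LP (LK LD1_c3 LD2_c38 LD3_c7)) = v7087 :=
  Lrfl
theorem f660801 : Led Lsl_ff (LP (LK LD1_c3 LD2_c38 LD3_c7)) = v7087 :=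
  Lgr Lrot3 (Lpr_ft (f660797 IH) (Lpn v7087))
theorem f660803 : Led Lsl_dt (LP (LK LD1_c3 LD2_c38 LD3_c8)) = v7087 :=
  Lgr Lrot60 (Lpe (K34.f86859 IH) (Lpe (K3.f86835 IH) (Lpr_ff (f660801 IH) (Lpn v7087))))
def v7053 : LQ := Led Lsl_gf (LP (LK LD1_c3 LD2_c37 LD3_c42))
theorem f660610 : Led Lsl_gf (LP (LK LD1_c3 LD2_c37 LD3_c42)) = v7053 :=
  Lrfl
theorem f660805 : Led Lsl_gf v7053 = v7087 :=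
  Lgr Lrot47 (Lpe (f660610 IH) (Lpr_af (K35.f425278 IH) (Lpr_ff (f660801 IH) (Lpn v7087))))
theorem f660612 : Led Lsl_dt (LP (LK LD1_c7 LD2_c11 LD3_c59)) = v7053 :=
  Lgr Lrot6 (Lpr_gt (K47.f526275 IH) (Lpr_ct (K30.f476442 IH) (Lpr_gt (K30.f471017 IH) (Lpe (K33.f483095 IH) (Lpr_df (K30.f493654 IH) (Lpe (K32.f14945 IH) (Lpe (K29.f491445 IH) (Lpr_cf (K29.f429433 IH) (Lpr_gf (f660610 IH) (Lpn v7053))))))))))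
theorem f466562 : Led Lsl_ef (LP (LK LD1_c3 LD2_c30 LD3_c50)) = (LP (LK LD1_c3 LD2_c36 LD3_c2)) :=
  Lgr Lrot21 (Lpr_ft (K28.f466552 IH) (Lpr_et (K5.f94480 IH) (Lpr_ft (K4.f121781 IH) (Lpr_et (K5.f90096 IH) (Lpr_ft (K5.f121762 IH) (Lpn (LP (LK LD1_c3 LD2_c36 LD3_c2))))))))
def v7008 : LQ := Led Lsl_ft (LP (LK LD1_c3 LD2_c36 LD3_c1))
theorem f660160 : Led Lsl_ft (LP (LK LD1_c3 LD2_c36 LD3_c1)) = v7008 :=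
  Lrfl
theorem f660164 : Led Lsl_ff (LP (LK LD1_c3 LD2_c36 LD3_c1)) = v7008 :=
  Lgr Lrot3 (Lpr_ft (f660160 IH) (Lpn v7008))
theorem f660168 : Led Lsl_dt (LP (LK LD1_c3 LD2_c36 LD3_c2)) = v7008 :=
  Lgr Lrot60 (Lpe (K5.f121762 IH) (Lpe (K29.f106111 IH) (Lpr_ff (f660164 IH) (Lpn v7008))))
theorem f660169 : Led Lsl_gf v6856 = v7008 :=
  Lgr Lrot47 (Lpe (f658994 IH) (Lpr_af (K4.f121750 IH) (Lpr_ff (f660164 IH) (Lpn v7008))))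
theorem f661155 : Led Lsl_df v6856 = v7110 :=
  Lgr Lrot168 (Lpr_gf (f660169 IH) (Lpe (f660168 IH) (Lpe (f466562 IH) (Lpe (K33.f488189 IH) (Lpe (K34.f19360 IH) (Lpr_dt (f660612 IH) (Lpr_gf (f660805 IH) (Lpe (f660803 IH) (Lpe (K29.f425234 IH) (Lpr_ef (f661151 IH) (Lpn v7110)))))))))))
theorem f661866 : Led Lsl_gf v7110 = v7186 :=
  Lgr Lrot138 (Lpe (f661155 IH) (Lpe (f658994 IH) (Lpe (K47.f92303 IH) (Lpr_et (K2.f92280 IH) (Lpe (K3.f109451 IH) (Lpe (K28.f109464 IH) (Lpr_dt (K28.f109469 IH) (Lpe (K28.f467381 IH) (Lpe (K29.f456476 IH) (Lpr_et (f661861 IH) (Lpn v7186)))))))))))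
theorem f523933 : Led Lsl_ff (LP (LK LD1_c1 LD2_c53 LD3_c50)) = (LP (LK LD1_c3 LD2_c33 LD3_c54)) :=
  Lgr Lrot25 (Lpr_bt (K29.f123411 IH) (Lpr_ft (K34.f490239 IH) (Lpqs (K34.f523928 IH) (Lpr_bt (K29.f456027 IH) (Lpn (LP (LK LD1_c3 LD2_c33 LD3_c54)))))))
theorem f661865 : Led Lsl_ff (LP (LK LD1_c7 LD2_c8 LD3_c50)) = v7186 :=
  Lgr Lrot72 (Lpr_et (K33.f456036 IH) (Lpe (f523933 IH) (Lpe (K29.f476416 IH) (Lpe (K34.f524171 IH) (Lpr_et (f661861 IH) (Lpn v7186))))))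
theorem f524534 : Led Lsl_at (LP (LK LD1_c7 LD2_c8 LD3_c50)) = (LP (LK LD1_c7 LD2_c37 LD3_c38)) :=
  Lgr Lrot100 (Lpr_af (K35.f524532 IH) (Lpn (LP (LK LD1_c7 LD2_c37 LD3_c38))))
theorem f661867 : Led Lsl_gt v7110 = (LP (LK LD1_c7 LD2_c37 LD3_c38)) :=
  Lgr Lrot46 (Lpr_gf (f661866 IH) (Lpe (f661865 IH) (Lpr_at (f524534 IH) (Lpn (LP (LK LD1_c7 LD2_c37 LD3_c38))))))
theorem f661154 : Led Lsl_ct (LP (LK LD1_c7 LD2_c7 LD3_c14)) = v7110 :=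
  Lgr Lrot15 (Lpe (K41.f108559 IH) (Lpe (K29.f472123 IH) (Lpr_ef (f661151 IH) (Lpn v7110))))
theorem f108590 : Led Lsl_bt (LP (LK LD1_c7 LD2_c7 LD3_c14)) = (LP (LK LD1_c13 LD2_c29 LD3_c29)) :=
  Lre_b IH (LK LD1_c7 LD2_c7 LD3_c14) (LK LD1_c13 LD2_c29 LD3_c29) Lrfl Lrfl
theorem f108591 : Led Lsl_gt (LP (LK LD1_c22 LD2_c50 LD3_c1)) = (LP (LK LD1_c13 LD2_c29 LD3_c29)) :=
  Lre_g IH (LK LD1_c22 LD2_c50 LD3_c1) (LK LD1_c13 LD2_c29 LD3_c29) Lrfl Lrfl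
theorem f481186 : Led Lsl_bt (LP (LK LD1_c7 LD2_c6 LD3_c38)) = (LP (LK LD1_c13 LD2_c28 LD3_c21)) :=
  Lre_b IH (LK LD1_c7 LD2_c6 LD3_c38) (LK LD1_c13 LD2_c28 LD3_c21) Lrfl Lrfl
theorem f481187 : Led Lsl_et (LP (LK LD1_c7 LD2_c6 LD3_c36)) = (LP (LK LD1_c13 LD2_c28 LD3_c21)) :=
  Lre_e IH (LK LD1_c7 LD2_c6 LD3_c36) (LK LD1_c13 LD2_c28 LD3_c21) Lrfl Lrfl
theorem f543392 : Led Lsl_ef (LP (LK LD1_c12 LD2_c7 LD3_c48)) = (LP (LK LD1_c13 LD2_c50 LD3_c25)) :=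
  Lgr Lrot28 (Lpr_ct (K37.f543383 IH) (Lpr_et (K28.f464084 IH) (Lpe (K28.f464067 IH) (Lpn (LP (LK LD1_c13 LD2_c50 LD3_c25))))))
theorem f108471 : Led Lsl_ct (LP (LK LD1_c7 LD2_c12 LD3_c43)) = (LP (LK LD1_c13 LD2_c39 LD3_c5)) :=
  Lre_c IH (LK LD1_c7 LD2_c12 LD3_c43) (LK LD1_c13 LD2_c39 LD3_c5) Lrfl Lrfl
theorem f108247 : Led Lsl_dt (LP (LK LD1_c7 LD2_c5 LD3_c51)) = (LP (LK LD1_c3 LD2_c32 LD3_c24)) :=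
  Lre_d IH (LK LD1_c7 LD2_c5 LD3_c51) (LK LD1_c3 LD2_c32 LD3_c24) Lrfl Lrfl
theorem f464555 : Led Lsl_gf (LP (LK LD1_c7 LD2_c19 LD3_c2)) = (LP (LK LD1_c13 LD2_c39 LD3_c5)) :=
  Lgr Lrot104 (Lpr_ct (K43.f92308 IH) (Lpe (K35.f5803 IH) (Lpr_cf (K28.f92305 IH) (Lpr_gf (K28.f464553 IH) (Lpr_cf (K37.f461803 IH) (Lpr_gf (K24.f108485 IH) (Lpe (f108247 IH) (Lpe (K8.f108469 IH) (Lpr_ct (f108471 IH) (Lpn (LP (LK LD1_c13 LD2_c39 LD3_c5))))))))))))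
theorem f439521 : Led Lsl_bt (LP (LK LD1_c3 LD2_c39 LD3_c24)) = (LP (LK LD1_c7 LD2_c18 LD3_c60)) :=
  Lre_b IH (LK LD1_c3 LD2_c39 LD3_c24) (LK LD1_c7 LD2_c18 LD3_c60) Lrfl Lrfl
theorem f543469 : Led Lsl_bt (LP (LK LD1_c3 LD2_c4 LD3_c20)) = (LP (LK LD1_c6 LD2_c14 LD3_c49)) :=
  Lre_b IH (LK LD1_c3 LD2_c4 LD3_c20) (LK LD1_c6 LD2_c14 LD3_c49) Lrfl Lrfl
theorem f543487 : Led Lsl_gt (LP (LK LD1_c7 LD2_c18 LD3_c60)) = (LP (LK LD1_c6 LD2_c14 LD3_c49)) :=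
  Lgr Lrot164 (Lpe (f439521 IH) (Lpr_ct (K47.f92334 IH) (Lpr_gf (f464555 IH) (Lpe (f108471 IH) (Lpr_gf (K8.f108469 IH) (Lpe (K37.f540627 IH) (Lpe (K37.f210841 IH) (Lpr_gf (K37.f420716 IH) (Lpr_cf (K37.f543470 IH) (Lpr_bt (f543469 IH) (Lpn (LP (LK LD1_c6 LD2_c14 LD3_c49)))))))))))))
theorem f543476 : Led Lsl_gt (LP (LK LD1_c6 LD2_c14 LD3_c49)) = (LP (LK LD1_c12 LD2_c7 LD3_c51)) :=
  Lre_g IH (LK LD1_c6 LD2_c14 LD3_c49) (LK LD1_c12 LD2_c7 LD3_c51) Lrfl Lrfl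
theorem f543490 : Led Lsl_at (LP (LK LD1_c13 LD2_c50 LD3_c31)) = (LP (LK LD1_c12 LD2_c7 LD3_c51)) :=
  Lgr Lrot26 (Lpe (K42.f94563 IH) (Lpr_gt (f543487 IH) (Lpr_gt (f543476 IH) (Lpn (LP (LK LD1_c12 LD2_c7 LD3_c51))))))
theorem f121845 : Led Lsl_dt (LP (LK LD1_c7 LD2_c18 LD3_c61)) = (LP (LK LD1_c13 LD2_c50 LD3_c31)) :=
  Lre_d IH (LK LD1_c7 LD2_c18 LD3_c61) (LK LD1_c13 LD2_c50 LD3_c31) Lrfl Lrfl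
theorem f121841 : Led Lsl_at (LP (LK LD1_c13 LD2_c50 LD3_c25)) = (LP (LK LD1_c7 LD2_c18 LD3_c61)) :=
  Lre_a IH (LK LD1_c13 LD2_c50 LD3_c25) (LK LD1_c7 LD2_c18 LD3_c61) Lrfl Lrfl
theorem f543500 : Led Lsl_df (LP (LK LD1_c13 LD2_c50 LD3_c25)) = (LP (LK LD1_c12 LD2_c7 LD3_c51)) :=
  Lgr Lrot18 (Lpr_at (f121841 IH) (Lpr_dt (f121845 IH) (Lpr_at (f543490 IH) (Lpn (LP (LK LD1_c12 LD2_c7 LD3_c51))))))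
theorem f543502 : Led Lsl_dt (LP (LK LD1_c13 LD2_c50 LD3_c25)) = (LP (LK LD1_c12 LD2_c7 LD3_c51)) :=
  Lgr Lrot42 (Lpr_df (f543500 IH) (Lpn (LP (LK LD1_c12 LD2_c7 LD3_c51))))
theorem f543495 : Led Lsl_dt (LP (LK LD1_c12 LD2_c7 LD3_c53)) = (LP (LK LD1_c6 LD2_c14 LD3_c49)) :=
  Lre_d IH (LK LD1_c12 LD2_c7 LD3_c53) (LK LD1_c6 LD2_c14 LD3_c49) Lrfl Lrfl
theorem f576846 : Led Lsl_gt (LP (LK LD1_c13 LD2_c28 LD3_c21)) = (LP (LK LD1_c12 LD2_c7 LD3_c53)) :=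
  Lgr Lrot137 (Lpe (f481187 IH) (Lpr_dt (K47.f481190 IH) (Lpe (K43.f481140 IH) (Lpr_df (K43.f575388 IH) (Lpr_et (K43.f519735 IH) (Lpr_gf (K43.f576827 IH) (Lpr_ef (f543392 IH) (Lpr_dt (f543502 IH) (Lpe (f543476 IH) (Lpe (f543495 IH) (Lpn (LP (LK LD1_c12 LD2_c7 LD3_c53)))))))))))))
theorem f543494 : Led Lsl_ct (LP (LK LD1_c12 LD2_c7 LD3_c53)) = (LP (LK LD1_c21 LD2_c14 LD3_c13)) :=
  Lre_c IH (LK LD1_c12 LD2_c7 LD3_c53) (LK LD1_c21 LD2_c14 LD3_c13) Lrfl Lrfl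
theorem f520405 : Led Lsl_ff (LP (LK LD1_c7 LD2_c54 LD3_c29)) = (LP (LK LD1_c7 LD2_c52 LD3_c21)) :=
  Lgr Lrot25 (Lpr_bt (K47.f451935 IH) (Lpr_ft (K33.f520401 IH) (Lpr_bt (K33.f472673 IH) (Lpn (LP (LK LD1_c7 LD2_c52 LD3_c21))))))
theorem f521986 : Led Lsl_gf (LP (LK LD1_c14 LD2_c55 LD3_c3)) = (LP (LK LD1_c14 LD2_c51 LD3_c0)) :=
  Lgr Lrot76 (Lpe (K40.f464676 IH) (Lpr_ff (f520405 IH) (Lpr_gt (K39.f472685 IH) (Lpn (LP (LK LD1_c14 LD2_c51 LD3_c0))))))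
theorem f464677 : Led Lsl_at (LP (LK LD1_c22 LD2_c29 LD3_c0)) = (LP (LK LD1_c13 LD2_c14 LD3_c15)) :=
  Lre_a IH (LK LD1_c22 LD2_c29 LD3_c0) (LK LD1_c13 LD2_c14 LD3_c15) Lrfl Lrfl
theorem f464678 : Led Lsl_ct (LP (LK LD1_c14 LD2_c55 LD3_c3)) = (LP (LK LD1_c22 LD2_c29 LD3_c0)) :=
  Lgr Lrot111 (Lpe (K40.f464676 IH) (Lpr_cf (K47.f464674 IH) (Lpe (f464677 IH) (Lpn (LP (LK LD1_c22 LD2_c29 LD3_c0))))))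
theorem f607591 : Led Lsl_gf (LP (LK LD1_c22 LD2_c28 LD3_c37)) = (LP (LK LD1_c22 LD2_c29 LD3_c0)) :=
  Lgr Lrot129 (Lpe (K40.f471283 IH) (Lpe (K47.f471720 IH) (Lpr_gt (K47.f607587 IH) (Lpe (K37.f529032 IH) (Lpe (K39.f528998 IH) (Lpr_gt (K39.f529582 IH) (Lpr_cf (K39.f493303 IH) (Lpr_bt (K39.f478616 IH) (Lpe (f521986 IH) (Lpr_ct (f464678 IH) (Lpn (LP (LK LD1_c22 LD2_c29 LD3_c0)))))))))))))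
theorem f520596 : Led Lsl_ff (LP (LK LD1_c14 LD2_c55 LD3_c1)) = (LP (LK LD1_c14 LD2_c55 LD3_c9)) :=
  Lgr Lrot3 (Lpr_ft (K40.f520592 IH) (Lpn (LP (LK LD1_c14 LD2_c55 LD3_c9))))
theorem f520616 : Led Lsl_bf (LP (LK LD1_c14 LD2_c55 LD3_c9)) = (LP (LK LD1_c14 LD2_c55 LD3_c3)) :=
  Lgr Lrot61 (Lpe (f520596 IH) (Lpr_bt (K40.f520339 IH) (Lpr_ft (K40.f520612 IH) (Lpn (LP (LK LD1_c14 LD2_c55 LD3_c3))))))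
theorem f520584 : Led Lsl_ft (LP (LK LD1_c7 LD2_c54 LD3_c28)) = (LP (LK LD1_c7 LD2_c54 LD3_c32)) :=
  Lgr Lrot4 (Lpr_cf (K33.f479846 IH) (Lpr_ff (K40.f520582 IH) (Lpe (K46.f474029 IH) (Lpn (LP (LK LD1_c7 LD2_c54 LD3_c32))))))
theorem f464666 : Led Lsl_gt (LP (LK LD1_c7 LD2_c54 LD3_c28)) = (LP (LK LD1_c14 LD2_c55 LD3_c0)) :=
  Lre_g IH (LK LD1_c7 LD2_c54 LD3_c28) (LK LD1_c14 LD2_c55 LD3_c0) Lrfl Lrfl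
theorem f520642 : Led Lsl_gt (LP (LK LD1_c14 LD2_c55 LD3_c0)) = (LP (LK LD1_c14 LD2_c55 LD3_c9)) :=
  Lgr Lrot46 (Lpe (f464666 IH) (Lpr_ft (f520584 IH) (Lpr_at (K40.f474028 IH) (Lpn (LP (LK LD1_c14 LD2_c55 LD3_c9))))))
theorem f607599 : Led Lsl_bt (LP (LK LD1_c12 LD2_c7 LD3_c56)) = (LP (LK LD1_c14 LD2_c55 LD3_c0)) :=
  Lgr Lrot22 (Lpr_ct (K39.f543475 IH) (Lpe (K37.f543348 IH) (Lpr_cf (K47.f543358 IH) (Lpe (K47.f607587 IH) (Lpr_bf (K47.f471720 IH) (Lpr_ct (K40.f471283 IH) (Lpr_gf (f607591 IH) (Lpe (f464678 IH) (Lpe (f520616 IH) (Lpe (f520642 IH) (Lpn (LP (LK LD1_c14 LD2_c55 LD3_c0)))))))))))))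
theorem f607603 : Led Lsl_bt (LP (LK LD1_c12 LD2_c7 LD3_c53)) = (LP (LK LD1_c6 LD2_c14 LD3_c50)) :=
  Lre_b IH (LK LD1_c12 LD2_c7 LD3_c53) (LK LD1_c6 LD2_c14 LD3_c50) Lrfl Lrfl
theorem f543493 : Led Lsl_ct (LP (LK LD1_c21 LD2_c14 LD3_c13)) = (LP (LK LD1_c12 LD2_c7 LD3_c53)) :=
  Lre_c IH (LK LD1_c21 LD2_c14 LD3_c13) (LK LD1_c12 LD2_c7 LD3_c53) Lrfl Lrfl
theorem f464667 : Led Lsl_ct (LP (LK LD1_c14 LD2_c55 LD3_c0)) = (LP (LK LD1_c24 LD2_c42 LD3_c24)) :=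
  Lre_c IH (LK LD1_c14 LD2_c55 LD3_c0) (LK LD1_c24 LD2_c42 LD3_c24) Lrfl Lrfl
theorem f607604 : Led Lsl_bf (LP (LK LD1_c21 LD2_c14 LD3_c13)) = (LP (LK LD1_c24 LD2_c42 LD3_c24)) :=
  Lgr Lrot90 (Lpr_ct (f543493 IH) (Lpr_bt (f607603 IH) (Lpr_ct (K43.f543355 IH) (Lpr_bt (f607599 IH) (Lpr_ct (f464667 IH) (Lpn (LP (LK LD1_c24 LD2_c42 LD3_c24))))))))
theorem f479851 : Led Lsl_ct (LP (LK LD1_c24 LD2_c42 LD3_c24)) = (LP (LK LD1_c14 LD2_c55 LD3_c0)) :=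
  Lre_c IH (LK LD1_c24 LD2_c42 LD3_c24) (LK LD1_c14 LD2_c55 LD3_c0) Lrfl Lrfl
theorem f129862 : Led Lsl_ct (LP (LK LD1_c3 LD2_c53 LD3_c22)) = (LP (LK LD1_c7 LD2_c48 LD3_c4)) :=
  Lre_c IH (LK LD1_c3 LD2_c53 LD3_c22) (LK LD1_c7 LD2_c48 LD3_c4) Lrfl Lrfl
theorem f462035 : Led Lsl_gt (LP (LK LD1_c14 LD2_c43 LD3_c11)) = (LP (LK LD1_c7 LD2_c48 LD3_c4)) :=
  Lre_g IH (LK LD1_c14 LD2_c43 LD3_c11) (LK LD1_c7 LD2_c48 LD3_c4) Lrfl Lrfl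
theorem f468507 : Led Lsl_ct (LP (LK LD1_c24 LD2_c28 LD3_c31)) = (LP (LK LD1_c14 LD2_c43 LD3_c11)) :=
  Lre_c IH (LK LD1_c24 LD2_c28 LD3_c31) (LK LD1_c14 LD2_c43 LD3_c11) Lrfl Lrfl
theorem f607608 : Led Lsl_gt (LP (LK LD1_c21 LD2_c14 LD3_c13)) = (LP (LK LD1_c24 LD2_c28 LD3_c31)) :=
  Lgr Lrot82 (Lpr_bf (f607604 IH) (Lpr_ct (f479851 IH) (Lpe (f464666 IH) (Lpr_cf (K33.f479846 IH) (Lpr_bt (K33.f461538 IH) (Lpr_gf (K29.f468504 IH) (Lpe (K34.f129818 IH) (Lpr_ct (f129862 IH) (Lpe (f462035 IH) (Lpe (f468507 IH) (Lpn (LP (LK LD1_c24 LD2_c28 LD3_c31)))))))))))))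
theorem f468515 : Led Lsl_ct (LP (LK LD1_c14 LD2_c43 LD3_c11)) = (LP (LK LD1_c24 LD2_c28 LD3_c31)) :=
  Lre_c IH (LK LD1_c14 LD2_c43 LD3_c11) (LK LD1_c24 LD2_c28 LD3_c31) Lrfl Lrfl
theorem f661869 : Led Lsl_bf (LP (LK LD1_c22 LD2_c50 LD3_c1)) = (LP (LK LD1_c14 LD2_c43 LD3_c11)) :=
  Lgr Lrot156 (Lpr_gt (f108591 IH) (Lpe (f108590 IH) (Lpr_ct (f661154 IH) (Lpr_gt (f661867 IH) (Lpe (K33.f467928 IH) (Lpr_bt (f481186 IH) (Lpr_gt (f576846 IH) (Lpr_ct (f543494 IH) (Lpr_gt (f607608 IH) (Lpe (f468515 IH) (Lpn (LP (LK LD1_c14 LD2_c43 LD3_c11)))))))))))))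
theorem f661870 : Led Lsl_bt (LP (LK LD1_c14 LD2_c43 LD3_c11)) = (LP (LK LD1_c22 LD2_c50 LD3_c1)) :=
  Leop (Lpr_bf (f661869 IH) (Lpn (LP (LK LD1_c14 LD2_c43 LD3_c11))))
theorem seed_450 : LEOK LG_b (LK LD1_c14 LD2_c43 LD3_c11) :=
  Leoe_b (LK LD1_c14 LD2_c43 LD3_c11) (f661870 IH)
def v7187 : LQ := Led Lsl_gf (LP (LK LD1_c3 LD2_c41 LD3_c46))
theorem f661875 : Led Lsl_gf (LP (LK LD1_c3 LD2_c41 LD3_c46)) = v7187 :=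
  Lrfl
theorem f97304 : Led Lsl_gt (LP (LK LD1_c7 LD2_c18 LD3_c16)) = (LP (LK LD1_c3 LD2_c38 LD3_c56)) :=
  Lre_g IH (LK LD1_c7 LD2_c18 LD3_c16) (LK LD1_c3 LD2_c38 LD3_c56) Lrfl Lrfl
theorem f661879 : Led Lsl_cf (LP (LK LD1_c7 LD2_c18 LD3_c16)) = v7187 :=
  Lgr Lrot166 (Lpr_gt (f97304 IH) (Lpr_dt (K28.f4441 IH) (Lpr_gt (K28.f467970 IH) (Lpr_dt (K29.f97998 IH) (Lpr_ct (K29.f98006 IH) (Lpe (K45.f87131 IH) (Lpe (K28.f87173 IH) (Lpe (K28.f467407 IH) (Lpr_gf (f661875 IH) (Lpn v7187))))))))))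
def v7095 : LQ := Led Lsl_gt (LP (LK LD1_c3 LD2_c38 LD3_c52))
theorem f660953 : Led Lsl_gt (LP (LK LD1_c3 LD2_c38 LD3_c52)) = v7095 :=
  Lrfl
def v7096 : LQ := Led Lsl_gf (LP (LK LD1_c3 LD2_c38 LD3_c52))
theorem f660954 : Led Lsl_gf (LP (LK LD1_c3 LD2_c38 LD3_c52)) = v7096 :=
  Lrfl
theorem f91699 : Led Lsl_dt (LP (LK LD1_c3 LD2_c26 LD3_c45)) = (LP (LK LD1_c1 LD2_c40 LD3_c1)) :=
  Lre_d IH (LK LD1_c3 LD2_c26 LD3_c45) (LK LD1_c1 LD2_c40 LD3_c1) Lrfl Lrfl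
theorem f132223 : Led Lsl_dt (LP (LK LD1_c6 LD2_c55 LD3_c16)) = (LP (LK LD1_c3 LD2_c26 LD3_c42)) :=
  Lre_d IH (LK LD1_c6 LD2_c55 LD3_c16) (LK LD1_c3 LD2_c26 LD3_c42) Lrfl Lrfl
theorem f660956 : Led Lsl_cf (LP (LK LD1_c7 LD2_c24 LD3_c24)) = v7096 :=
  Lgr Lrot166 (Lpr_gt (K34.f456512 IH) (Lpr_dt (K33.f4875 IH) (Lpe (K34.f484663 IH) (Lpr_dt (f132223 IH) (Lpr_ct (K29.f132190 IH) (Lpe (f91699 IH) (Lpe (K29.f91705 IH) (Lpr_df (K29.f478281 IH) (Lpr_gf (f660954 IH) (Lpn v7096))))))))))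
theorem f90120 : Led Lsl_et (LP (LK LD1_c7 LD2_c5 LD3_c28)) = (LP (LK LD1_c3 LD2_c32 LD3_c4)) :=
  Lre_e IH (LK LD1_c7 LD2_c5 LD3_c28) (LK LD1_c3 LD2_c32 LD3_c4) Lrfl Lrfl
theorem f463570 : Led Lsl_ct (LP (LK LD1_c7 LD2_c27 LD3_c60)) = (LP (LK LD1_c7 LD2_c5 LD3_c28)) :=
  Lgr Lrot15 (Lpe (K46.f463569 IH) (Lpr_cf (K28.f463548 IH) (Lpe (f90120 IH) (Lpn (LP (LK LD1_c7 LD2_c5 LD3_c28))))))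
theorem f660957 : Led Lsl_ft (LP (LK LD1_c7 LD2_c5 LD3_c28)) = v7096 :=
  Lgr Lrot4 (Lpe (f463570 IH) (Lpe (K46.f654998 IH) (Lpr_cf (f660956 IH) (Lpn v7096))))
theorem f660958 : Led Lsl_ff (LP (LK LD1_c7 LD2_c5 LD3_c28)) = v7096 :=
  Lgr Lrot3 (Lpr_ft (f660957 IH) (Lpn v7096))
def v6829 : LQ := Led Lsl_et (LP (LK LD1_c3 LD2_c31 LD3_c17))
theorem f658790 : Led Lsl_et (LP (LK LD1_c3 LD2_c31 LD3_c17)) = v6829 :=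
  Lrfl
theorem f658794 : Led Lsl_ef (LP (LK LD1_c3 LD2_c31 LD3_c17)) = v6829 :=
  Lgr Lrot88 (Lpr_et (f658790 IH) (Lpn v6829))
theorem f458480 : Led Lsl_bt (LP (LK LD1_c7 LD2_c2 LD3_c45)) = (LP (LK LD1_c3 LD2_c31 LD3_c16)) :=
  Lgr Lrot119 (Lpr_ef (K28.f458475 IH) (Lpe (K28.f458445 IH) (Lpe (K28.f18074 IH) (Lpn (LP (LK LD1_c3 LD2_c31 LD3_c16))))))
theorem f655978 : Led Lsl_ff (LP (LK LD1_c7 LD2_c2 LD3_c45)) = (LP (LK LD1_c6 LD2_c52 LD3_c6)) :=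
  Lgr Lrot25 (Lpr_bt (f458480 IH) (Lpr_ft (K46.f655975 IH) (Lpr_bt (K35.f467476 IH) (Lpn (LP (LK LD1_c6 LD2_c52 LD3_c6))))))
theorem f655980 : Led Lsl_at (LP (LK LD1_c7 LD2_c2 LD3_c45)) = (LP (LK LD1_c7 LD2_c12 LD3_c26)) :=
  Lgr Lrot26 (Lpr_ff (f655978 IH) (Lpe (K29.f467473 IH) (Lpr_gt (K29.f477543 IH) (Lpn (LP (LK LD1_c7 LD2_c12 LD3_c26))))))
theorem f655984 : Led Lsl_af (LP (LK LD1_c3 LD2_c31 LD3_c13)) = (LP (LK LD1_c3 LD2_c35 LD3_c57)) :=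
  Lgr Lrot50 (Lpe (K28.f458475 IH) (Lpr_at (f655980 IH) (Lpr_et (K24.f95182 IH) (Lpn (LP (LK LD1_c3 LD2_c35 LD3_c57))))))
theorem f655994 : Led Lsl_ft (LP (LK LD1_c6 LD2_c52 LD3_c61)) = (LP (LK LD1_c3 LD2_c35 LD3_c57)) :=
  Lgr Lrot2 (Lpr_gt (K28.f109159 IH) (Lpe (K43.f464559 IH) (Lpr_af (f655984 IH) (Lpn (LP (LK LD1_c3 LD2_c35 LD3_c57))))))
theorem f655998 : Led Lsl_ff (LP (LK LD1_c6 LD2_c52 LD3_c61)) = (LP (LK LD1_c3 LD2_c35 LD3_c57)) :=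
  Lgr Lrot3 (Lpr_ft (f655994 IH) (Lpn (LP (LK LD1_c3 LD2_c35 LD3_c57))))
theorem f655986 : Led Lsl_at (LP (LK LD1_c3 LD2_c31 LD3_c13)) = (LP (LK LD1_c3 LD2_c35 LD3_c57)) :=
  Lgr Lrot100 (Lpr_af (f655984 IH) (Lpn (LP (LK LD1_c3 LD2_c35 LD3_c57))))
theorem f654691 : Led Lsl_ff (LP (LK LD1_c3 LD2_c31 LD3_c13)) = (LP (LK LD1_c3 LD2_c35 LD3_c58)) :=
  Lgr Lrot25 (Lpr_bt (K28.f18952 IH) (Lpr_ft (K46.f514611 IH) (Lpqs (K46.f654686 IH) (Lpe (K46.f460829 IH) (Lpn (LP (LK LD1_c3 LD2_c35 LD3_c58)))))))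
theorem f656000 : Led Lsl_at (LP (LK LD1_c6 LD2_c52 LD3_c61)) = (LP (LK LD1_c3 LD2_c35 LD3_c58)) :=
  Lgr Lrot66 (Lpr_ff (f655998 IH) (Lpe (f655986 IH) (Lpr_ff (f654691 IH) (Lpn (LP (LK LD1_c3 LD2_c35 LD3_c58))))))
theorem f656317 : Led Lsl_af (LP (LK LD1_c3 LD2_c32 LD3_c4)) = (LP (LK LD1_c3 LD2_c31 LD3_c17)) :=
  Lgr Lrot36 (Lpe (K28.f460861 IH) (Lpr_at (f656000 IH) (Lpr_bt (K46.f460750 IH) (Lpq (K46.f654686 IH) (Lpe (K46.f514612 IH) (Lpr_bt (K28.f466199 IH) (Lpn (LP (LK LD1_c3 LD2_c31 LD3_c17)))))))))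
theorem f460863 : Led Lsl_et (LP (LK LD1_c3 LD2_c32 LD3_c4)) = (LP (LK LD1_c7 LD2_c5 LD3_c28)) :=
  Lre_e IH (LK LD1_c3 LD2_c32 LD3_c4) (LK LD1_c7 LD2_c5 LD3_c28) Lrfl Lrfl
theorem f658795 : Led Lsl_at (LP (LK LD1_c7 LD2_c5 LD3_c28)) = v6829 :=
  Lgr Lrot80 (Lpe (f460863 IH) (Lpr_af (f656317 IH) (Lpr_ef (f658794 IH) (Lpn v6829))))
theorem f660959 : v6829 = v7095 :=
  (Llr Lrot26 (Lpe (f658795 IH) (Lpr_ff (f660958 IH) (Lpe (f660954 IH) (Lpr_gt (f660953 IH) (Lpn v7095)))))).symm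
theorem f658796 : Led Lsl_bt (LP (LK LD1_c3 LD2_c31 LD3_c19)) = v6829 :=
  Lgr Lrot119 (Lpe (K33.f514610 IH) (Lpe (K28.f18950 IH) (Lpr_ef (f658794 IH) (Lpn v6829))))
theorem f526425 : Led Lsl_at (LP (LK LD1_c7 LD2_c0 LD3_c47)) = (LP (LK LD1_c3 LD2_c41 LD3_c46)) :=
  Lgr Lrot100 (Lpr_af (K47.f526104 IH) (Lpn (LP (LK LD1_c3 LD2_c41 LD3_c46))))
theorem f467423 : Led Lsl_gt (LP (LK LD1_c3 LD2_c49 LD3_c13)) = (LP (LK LD1_c7 LD2_c39 LD3_c10)) :=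
  Lre_g IH (LK LD1_c3 LD2_c49 LD3_c13) (LK LD1_c7 LD2_c39 LD3_c10) Lrfl Lrfl
theorem f526433 : Led Lsl_ff (LP (LK LD1_c7 LD2_c39 LD3_c9)) = (LP (LK LD1_c3 LD2_c49 LD3_c13)) :=
  Lgr Lrot52 (Lpr_at (K47.f526427 IH) (Lpe (K28.f467413 IH) (Lpe (f467423 IH) (Lpn (LP (LK LD1_c3 LD2_c49 LD3_c13))))))
theorem f526437 : Led Lsl_ft (LP (LK LD1_c7 LD2_c39 LD3_c9)) = (LP (LK LD1_c3 LD2_c49 LD3_c13)) :=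
  Lgr Lrot48 (Lpr_ff (f526433 IH) (Lpn (LP (LK LD1_c3 LD2_c49 LD3_c13))))
theorem f526441 : Led Lsl_ff (LP (LK LD1_c7 LD2_c0 LD3_c47)) = (LP (LK LD1_c7 LD2_c39 LD3_c22)) :=
  Lgr Lrot19 (Lpr_dt (K29.f107238 IH) (Lpr_ft (f526437 IH) (Lpr_dt (K45.f87174 IH) (Lpn (LP (LK LD1_c7 LD2_c39 LD3_c22))))))
theorem f661876 : Led Lsl_gt (LP (LK LD1_c7 LD2_c39 LD3_c22)) = v7187 :=
  Lgr Lrot5 (Lpe (f526441 IH) (Lpr_at (f526425 IH) (Lpr_gf (f661875 IH) (Lpn v7187))))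
theorem f658806 : Led Lsl_bf (LP (LK LD1_c7 LD2_c39 LD3_c22)) = (LP (LK LD1_c13 LD2_c22 LD3_c42)) :=
  Lgr Lrot24 (Lpr_bt (K47.f658804 IH) (Lpn (LP (LK LD1_c13 LD2_c22 LD3_c42))))
theorem f661883 : Led Lsl_cf (LP (LK LD1_c13 LD2_c9 LD3_c21)) = (LP (LK LD1_c13 LD2_c22 LD3_c42)) :=
  Lgr Lrot58 (Lpe (K46.f657447 IH) (Lpe (K46.f466237 IH) (Lpr_bt (f658796 IH) (Lpqs (f660959 IH) (Lpe (f660953 IH) (Lpe (K29.f442093 IH) (Lpr_ct (K28.f442094 IH) (Lpe (f97304 IH) (Lpr_cf (f661879 IH) (Lpe (f661876 IH) (Lpr_bf (f658806 IH) (Lpn (LP (LK LD1_c13 LD2_c22 LD3_c42))))))))))))))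
theorem f661884 : Led Lsl_ct (LP (LK LD1_c13 LD2_c22 LD3_c42)) = (LP (LK LD1_c13 LD2_c9 LD3_c21)) :=
  Leop (Lpr_cf (f661883 IH) (Lpn (LP (LK LD1_c13 LD2_c22 LD3_c42))))
theorem seed_451 : LEOK LG_c (LK LD1_c13 LD2_c22 LD3_c42) :=
  Leoe_c (LK LD1_c13 LD2_c22 LD3_c42) (f661884 IH)
def v7194 : LQ := Led Lsl_gt (LP (LK LD1_c3 LD2_c41 LD3_c54))
theorem f661944 : Led Lsl_gt (LP (LK LD1_c3 LD2_c41 LD3_c54)) = v7194 :=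
  Lrfl
theorem f483572 : Led Lsl_et (LP (LK LD1_c1 LD2_c47 LD3_c50)) = (LP (LK LD1_c3 LD2_c41 LD3_c55)) :=
  Lre_e IH (LK LD1_c1 LD2_c47 LD3_c50) (LK LD1_c3 LD2_c41 LD3_c55) Lrfl Lrfl
theorem f513917 : Led Lsl_bt (LP (LK LD1_c7 LD2_c3 LD3_c19)) = (LP (LK LD1_c3 LD2_c30 LD3_c49)) :=
  Lre_b IH (LK LD1_c7 LD2_c3 LD3_c19) (LK LD1_c3 LD2_c30 LD3_c49) Lrfl Lrfl
theorem f513918 : Led Lsl_df (LP (LK LD1_c7 LD2_c3 LD3_c19)) = (LP (LK LD1_c3 LD2_c53 LD3_c31)) :=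
  Lgr Lrot12 (Lpr_bt (f513917 IH) (Lpr_dt (K34.f513915 IH) (Lpr_bt (K34.f491348 IH) (Lpn (LP (LK LD1_c3 LD2_c53 LD3_c31))))))
theorem f527361 : Led Lsl_at (LP (LK LD1_c7 LD2_c3 LD3_c19)) = (LP (LK LD1_c7 LD2_c24 LD3_c33)) :=
  Lgr Lrot51 (Lpr_df (f513918 IH) (Lpe (K34.f513955 IH) (Lpr_df (K34.f527359 IH) (Lpn (LP (LK LD1_c7 LD2_c24 LD3_c33))))))
theorem f512003 : Led Lsl_ft (LP (LK LD1_c3 LD2_c30 LD3_c39)) = (LP (LK LD1_c7 LD2_c3 LD3_c19)) :=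
  Lre_f IH (LK LD1_c3 LD2_c30 LD3_c39) (LK LD1_c7 LD2_c3 LD3_c19) Lrfl Lrfl
theorem f527365 : Led Lsl_gt (LP (LK LD1_c3 LD2_c30 LD3_c39)) = (LP (LK LD1_c3 LD2_c41 LD3_c55)) :=
  Lgr Lrot5 (Lpr_ft (f512003 IH) (Lpr_at (f527361 IH) (Lpe (K34.f483587 IH) (Lpn (LP (LK LD1_c3 LD2_c41 LD3_c55))))))
theorem f480546 : Led Lsl_et (LP (LK LD1_c1 LD2_c41 LD3_c55)) = (LP (LK LD1_c3 LD2_c30 LD3_c39)) :=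
  Lre_e IH (LK LD1_c1 LD2_c41 LD3_c55) (LK LD1_c3 LD2_c30 LD3_c39) Lrfl Lrfl
theorem f468348 : Led Lsl_at (LP (LK LD1_c7 LD2_c3 LD3_c9)) = (LP (LK LD1_c3 LD2_c30 LD3_c38)) :=
  Lre_a IH (LK LD1_c7 LD2_c3 LD3_c9) (LK LD1_c3 LD2_c30 LD3_c38) Lrfl Lrfl
theorem f479375 : Led Lsl_gf (LP (LK LD1_c3 LD2_c30 LD3_c38)) = (LP (LK LD1_c7 LD2_c0 LD3_c15)) :=
  Lgr Lrot76 (Lpe (f468348 IH) (Lpe (K33.f468345 IH) (Lpr_gt (K29.f479372 IH) (Lpn (LP (LK LD1_c7 LD2_c0 LD3_c15))))))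
theorem f525807 : Led Lsl_dt (LP (LK LD1_c6 LD2_c57 LD3_c36)) = (LP (LK LD1_c13 LD2_c5 LD3_c56)) :=
  Lgr Lrot42 (Lpr_df (K35.f525805 IH) (Lpn (LP (LK LD1_c13 LD2_c5 LD3_c56))))
theorem f468948 : Led Lsl_bt (LP (LK LD1_c3 LD2_c27 LD3_c41)) = (LP (LK LD1_c6 LD2_c57 LD3_c18)) :=
  Lre_b IH (LK LD1_c3 LD2_c27 LD3_c41) (LK LD1_c6 LD2_c57 LD3_c18) Lrfl Lrfl
theorem f491734 : Led Lsl_gf (LP (LK LD1_c6 LD2_c57 LD3_c36)) = (LP (LK LD1_c6 LD2_c57 LD3_c52)) :=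
  Lgr Lrot126 (Lpe (K29.f468945 IH) (Lpr_bt (f468948 IH) (Lpr_gt (K34.f481695 IH) (Lpe (K29.f482909 IH) (Lpe (K29.f474292 IH) (Lpe (K32.f466933 IH) (Lpr_bt (K29.f473617 IH) (Lpr_gt (K29.f129816 IH) (Lpe (K32.f482921 IH) (Lpr_ct (K32.f491726 IH) (Lpn (LP (LK LD1_c6 LD2_c57 LD3_c52)))))))))))))
theorem f491728 : Led Lsl_cf (LP (LK LD1_c7 LD2_c30 LD3_c35)) = (LP (LK LD1_c6 LD2_c57 LD3_c52)) :=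
  Lgr Lrot14 (Lpe (K32.f85213 IH) (Lpe (K29.f85212 IH) (Lpe (K3.f85201 IH) (Lpe (K29.f483576 IH) (Lpr_ct (K29.f12855 IH) (Lpe (K32.f478479 IH) (Lpr_dt (K6.f91143 IH) (Lpr_gt (K30.f441546 IH) (Lpr_dt (K32.f491723 IH) (Lpn (LP (LK LD1_c6 LD2_c57 LD3_c52))))))))))))
theorem f85222 : Led Lsl_dt (LP (LK LD1_c3 LD2_c44 LD3_c61)) = (LP (LK LD1_c1 LD2_c49 LD3_c36)) :=
  Lre_d IH (LK LD1_c3 LD2_c44 LD3_c61) (LK LD1_c1 LD2_c49 LD3_c36) Lrfl Lrfl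
theorem f525809 : Led Lsl_gt (LP (LK LD1_c3 LD2_c48 LD3_c5)) = (LP (LK LD1_c3 LD2_c44 LD3_c61)) :=
  Lgr Lrot49 (Lpr_df (K34.f62972 IH) (Lpr_gf (K32.f464235 IH) (Lpr_cf (f491728 IH) (Lpe (f491734 IH) (Lpr_dt (f525807 IH) (Lpr_gt (K35.f95123 IH) (Lpr_dt (K35.f95049 IH) (Lpe (K34.f483492 IH) (Lpe (f85222 IH) (Lpn (LP (LK LD1_c3 LD2_c44 LD3_c61))))))))))))
theorem f489718 : Led Lsl_gt (LP (LK LD1_c3 LD2_c44 LD3_c61)) = (LP (LK LD1_c7 LD2_c30 LD3_c55)) :=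
  Lre_g IH (LK LD1_c3 LD2_c44 LD3_c61) (LK LD1_c7 LD2_c30 LD3_c55) Lrfl Lrfl
theorem f525816 : Led Lsl_at (LP (LK LD1_c3 LD2_c52 LD3_c42)) = (LP (LK LD1_c7 LD2_c30 LD3_c55)) :=
  Lgr Lrot26 (Lpr_ff (K29.f473685 IH) (Lpr_gt (f525809 IH) (Lpr_gt (f489718 IH) (Lpn (LP (LK LD1_c7 LD2_c30 LD3_c55))))))
theorem f63009 : Led Lsl_et (LP (LK LD1_c1 LD2_c52 LD3_c58)) = (LP (LK LD1_c3 LD2_c52 LD3_c42)) :=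
  Lre_e IH (LK LD1_c1 LD2_c52 LD3_c58) (LK LD1_c3 LD2_c52 LD3_c42) Lrfl Lrfl
theorem f525822 : Led Lsl_ef (LP (LK LD1_c3 LD2_c52 LD3_c34)) = (LP (LK LD1_c7 LD2_c30 LD3_c55)) :=
  Lgr Lrot20 (Lpr_at (K41.f473678 IH) (Lpr_et (f63009 IH) (Lpr_at (f525816 IH) (Lpn (LP (LK LD1_c7 LD2_c30 LD3_c55))))))
theorem f661950 : Led Lsl_dt (LP (LK LD1_c7 LD2_c30 LD3_c55)) = v7194 :=
  Lgr Lrot37 (Lpe (f525822 IH) (Lpe (K29.f473809 IH) (Lpr_dt (K29.f473815 IH) (Lpe (f479375 IH) (Lpe (K29.f457635 IH) (Lpr_et (f480546 IH) (Lpr_gt (f527365 IH) (Lpe (f483572 IH) (Lpr_dt (K29.f478485 IH) (Lpr_gt (f661944 IH) (Lpn v7194)))))))))))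
theorem f525826 : Led Lsl_et (LP (LK LD1_c3 LD2_c52 LD3_c34)) = (LP (LK LD1_c7 LD2_c30 LD3_c55)) :=
  Lgr Lrot87 (Lpr_ef (f525822 IH) (Lpn (LP (LK LD1_c7 LD2_c30 LD3_c55))))
theorem f661953 : Led Lsl_ef (LP (LK LD1_c3 LD2_c44 LD3_c44)) = v7194 :=
  Lgr Lrot73 (Lpr_dt (K29.f473799 IH) (Lpr_et (K29.f473560 IH) (Lpr_dt (K29.f473555 IH) (Lpr_et (f525826 IH) (Lpr_dt (f661950 IH) (Lpn v7194))))))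
theorem f468330 : Led Lsl_et (LP (LK LD1_c3 LD2_c30 LD3_c38)) = (LP (LK LD1_c7 LD2_c3 LD3_c16)) :=
  Lre_e IH (LK LD1_c3 LD2_c30 LD3_c38) (LK LD1_c7 LD2_c3 LD3_c16) Lrfl Lrfl
theorem f464767 : Led Lsl_gt (LP (LK LD1_c3 LD2_c27 LD3_c46)) = (LP (LK LD1_c6 LD2_c57 LD3_c45)) :=
  Lre_g IH (LK LD1_c3 LD2_c27 LD3_c46) (LK LD1_c6 LD2_c57 LD3_c45) Lrfl Lrfl
theorem f518549 : Led Lsl_cf (LP (LK LD1_c3 LD2_c56 LD3_c41)) = (LP (LK LD1_c6 LD2_c57 LD3_c45)) :=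
  Lgr Lrot99 (Lpe (K33.f483864 IH) (Lpe (K33.f4653 IH) (Lpe (K34.f4654 IH) (Lpr_cf (K34.f517685 IH) (Lpe (K33.f485164 IH) (Lpe (K33.f148254 IH) (Lpr_gt (K30.f491719 IH) (Lpr_ct (K34.f484703 IH) (Lpr_gt (f464767 IH) (Lpn (LP (LK LD1_c6 LD2_c57 LD3_c45))))))))))))
theorem f474455 : Led Lsl_ct (LP (LK LD1_c14 LD2_c1 LD3_c11)) = (LP (LK LD1_c7 LD2_c24 LD3_c44)) :=
  Lre_c IH (LK LD1_c14 LD2_c1 LD3_c11) (LK LD1_c7 LD2_c24 LD3_c44) Lrfl Lrfl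
theorem f65519 : Led Lsl_dt (LP (LK LD1_c3 LD2_c15 LD3_c25)) = (LP (LK LD1_c6 LD2_c34 LD3_c10)) :=
  Lre_d IH (LK LD1_c3 LD2_c15 LD3_c25) (LK LD1_c6 LD2_c34 LD3_c10) Lrfl Lrfl
theorem f481458 : Led Lsl_cf (LP (LK LD1_c3 LD2_c29 LD3_c44)) = (LP (LK LD1_c1 LD2_c46 LD3_c25)) :=
  Lgr Lrot58 (Lpr_gf (K29.f441373 IH) (Lpe (K3.f85234 IH) (Lpr_bt (K3.f85227 IH) (Lpe (K29.f85233 IH) (Lpe (K29.f481456 IH) (Lpr_ct (K29.f481449 IH) (Lpe (K29.f5343 IH) (Lpe (K29.f4123 IH) (Lpe (K3.f4444 IH) (Lpe (K33.f4451 IH) (Lpn (LP (LK LD1_c1 LD2_c46 LD3_c25)))))))))))))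
theorem f474419 : Led Lsl_dt (LP (LK LD1_c7 LD2_c1 LD3_c6)) = (LP (LK LD1_c3 LD2_c53 LD3_c19)) :=
  Lgr Lrot42 (Lpr_df (K33.f474416 IH) (Lpn (LP (LK LD1_c3 LD2_c53 LD3_c19))))
theorem f481687 : Led Lsl_cf (LP (LK LD1_c6 LD2_c34 LD3_c10)) = (LP (LK LD1_c3 LD2_c53 LD3_c19)) :=
  Lgr Lrot14 (Lpe (f65519 IH) (Lpe (K29.f65518 IH) (Lpe (K29.f65501 IH) (Lpr_gf (K29.f481678 IH) (Lpe (f481458 IH) (Lpr_gt (K29.f105566 IH) (Lpr_dt (K3.f64644 IH) (Lpr_gt (K29.f89661 IH) (Lpr_dt (f474419 IH) (Lpn (LP (LK LD1_c3 LD2_c53 LD3_c19))))))))))))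
theorem f492011 : Led Lsl_gf (LP (LK LD1_c6 LD2_c57 LD3_c18)) = (LP (LK LD1_c6 LD2_c34 LD3_c10)) :=
  Lgr Lrot172 (Lpe (K33.f491984 IH) (Lpr_dt (K34.f492000 IH) (Lpe (f474455 IH) (Lpe (K33.f483010 IH) (Lpe (K33.f441422 IH) (Lpe (K29.f474337 IH) (Lpr_dt (K29.f88084 IH) (Lpr_gt (K33.f88085 IH) (Lpe (f481687 IH) (Lpn (LP (LK LD1_c6 LD2_c34 LD3_c10))))))))))))
theorem f518557 : Led Lsl_bf (LP (LK LD1_c6 LD2_c34 LD3_c10)) = (LP (LK LD1_c6 LD2_c57 LD3_c45)) :=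
  Lgr Lrot156 (Lpe (f492011 IH) (Lpe (f468948 IH) (Lpr_ct (K29.f468945 IH) (Lpe (K29.f468943 IH) (Lpr_cf (K29.f484128 IH) (Lpr_bt (K29.f437924 IH) (Lpq (K29.f491657 IH) (Lpe (K29.f490528 IH) (Lpr_ct (K29.f451365 IH) (Lpr_gt (K33.f451370 IH) (Lpr_cf (f518549 IH) (Lpn (LP (LK LD1_c6 LD2_c57 LD3_c45))))))))))))))
theorem f518559 : Led Lsl_bt (LP (LK LD1_c6 LD2_c34 LD3_c10)) = (LP (LK LD1_c6 LD2_c57 LD3_c45)) :=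
  Lgr Lrot127 (Lpr_bf (f518557 IH) (Lpn (LP (LK LD1_c6 LD2_c57 LD3_c45))))
theorem f441377 : Led Lsl_ct (LP (LK LD1_c13 LD2_c18 LD3_c46)) = (LP (LK LD1_c7 LD2_c1 LD3_c4)) :=
  Lre_c IH (LK LD1_c13 LD2_c18 LD3_c46) (LK LD1_c7 LD2_c1 LD3_c4) Lrfl Lrfl
theorem f474868 : Led Lsl_dt (LP (LK LD1_c13 LD2_c18 LD3_c49)) = (LP (LK LD1_c13 LD2_c18 LD3_c46)) :=
  Lgr Lrot27 (Lpe (K29.f109676 IH) (Lpe (K29.f89661 IH) (Lpe (K29.f109654 IH) (Lpe (K29.f109667 IH) (Lpe (K29.f474445 IH) (Lpr_gt (K29.f458742 IH) (Lpr_ct (K29.f474523 IH) (Lpe (K29.f474432 IH) (Lpr_ct (K33.f441376 IH) (Lpn (LP (LK LD1_c13 LD2_c18 LD3_c46))))))))))))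
theorem f482952 : Led Lsl_cf (LP (LK LD1_c3 LD2_c53 LD3_c19)) = (LP (LK LD1_c6 LD2_c34 LD3_c10)) :=
  Lgr Lrot55 (Lpe (K33.f474416 IH) (Lpr_ct (K29.f109676 IH) (Lpr_dt (f474868 IH) (Lpr_ct (f441377 IH) (Lpr_dt (K29.f440723 IH) (Lpr_ct (K30.f482948 IH) (Lpr_dt (K29.f481689 IH) (Lpe (K29.f482909 IH) (Lpr_dt (K29.f64646 IH) (Lpr_ct (K29.f64679 IH) (Lpe (K33.f474565 IH) (Lpr_ct (K29.f464156 IH) (Lpr_dt (K29.f64728 IH) (Lpr_ct (K29.f482917 IH) (Lpr_dt (f65519 IH) (Lpn (LP (LK LD1_c6 LD2_c34 LD3_c10))))))))))))))))))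
theorem f474290 : Led Lsl_at (LP (LK LD1_c3 LD2_c53 LD3_c21)) = (LP (LK LD1_c3 LD2_c53 LD3_c1)) :=
  Lgr Lrot66 (Lpe (K29.f474050 IH) (Lpr_af (K29.f474281 IH) (Lpe (K29.f473695 IH) (Lpn (LP (LK LD1_c3 LD2_c53 LD3_c1))))))
theorem f474299 : Led Lsl_gt (LP (LK LD1_c3 LD2_c53 LD3_c19)) = (LP (LK LD1_c3 LD2_c53 LD3_c1)) :=
  Lgr Lrot46 (Lpe (K33.f88085 IH) (Lpr_ft (K29.f474050 IH) (Lpr_at (f474290 IH) (Lpn (LP (LK LD1_c3 LD2_c53 LD3_c1))))))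
theorem f483585 : Led Lsl_gf (LP (LK LD1_c3 LD2_c41 LD3_c54)) = (LP (LK LD1_c3 LD2_c52 LD3_c42)) :=
  Lgr Lrot138 (Lpr_dt (K29.f478484 IH) (Lpr_gt (K29.f483576 IH) (Lpe (K3.f85201 IH) (Lpr_et (K3.f85200 IH) (Lpr_gt (K3.f97545 IH) (Lpe (K3.f17674 IH) (Lpr_dt (K4.f106132 IH) (Lpqs (K29.f464226 IH) (Lpe (K29.f459884 IH) (Lpe (K29.f62995 IH) (Lpr_et (f63009 IH) (Lpn (LP (LK LD1_c3 LD2_c52 LD3_c42))))))))))))))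
theorem f518565 : Led Lsl_gt (LP (LK LD1_c6 LD2_c54 LD3_c59)) = (LP (LK LD1_c3 LD2_c27 LD3_c49)) :=
  Lgr Lrot149 (Lpr_cf (K29.f484128 IH) (Lpr_gf (f483585 IH) (Lpe (K32.f62971 IH) (Lpr_ct (K29.f62728 IH) (Lpe (f474299 IH) (Lpr_cf (f482952 IH) (Lpr_bt (f518559 IH) (Lpe (f464767 IH) (Lpe (K32.f468900 IH) (Lpr_ct (K32.f468894 IH) (Lpn (LP (LK LD1_c3 LD2_c27 LD3_c49)))))))))))))
theorem f525828 : Led Lsl_gf (LP (LK LD1_c3 LD2_c45 LD3_c2)) = (LP (LK LD1_c7 LD2_c30 LD3_c55)) :=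
  Lgr Lrot138 (Lpr_dt (K28.f85225 IH) (Lpr_gt (K28.f85251 IH) (Lpr_df (K28.f85205 IH) (Lpr_et (K28.f85249 IH) (Lpe (K7.f121967 IH) (Lpe (K5.f121970 IH) (Lpe (K28.f124901 IH) (Lpr_gt (K29.f473786 IH) (Lpe (K29.f473559 IH) (Lpr_et (f525826 IH) (Lpn (LP (LK LD1_c7 LD2_c30 LD3_c55)))))))))))))
theorem f661947 : Led Lsl_df (LP (LK LD1_c7 LD2_c30 LD3_c55)) = v7194 :=
  Lgr Lrot153 (Lpe (f525828 IH) (Lpr_dt (K28.f85225 IH) (Lpr_cf (K47.f483319 IH) (Lpe (K35.f102754 IH) (Lpe (K35.f485972 IH) (Lpe (K35.f468886 IH) (Lpe (f518565 IH) (Lpr_cf (K29.f484128 IH) (Lpr_gt (f661944 IH) (Lpn v7194))))))))))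
theorem f85253 : Led Lsl_dt (LP (LK LD1_c1 LD2_c49 LD3_c36)) = (LP (LK LD1_c3 LD2_c44 LD3_c61)) :=
  Lre_d IH (LK LD1_c1 LD2_c49 LD3_c36) (LK LD1_c3 LD2_c44 LD3_c61) Lrfl Lrfl
theorem f661957 : Led Lsl_gt (LP (LK LD1_c7 LD2_c3 LD3_c16)) = (LP (LK LD1_c3 LD2_c45 LD3_c0)) :=
  Lgr Lrot131 (Lpe (f468330 IH) (Lpr_dt (K29.f457636 IH) (Lpe (K29.f468324 IH) (Lpr_df (K28.f106119 IH) (Lpe (K28.f5743 IH) (Lpr_ef (f661953 IH) (Lpe (f661947 IH) (Lpe (f489718 IH) (Lpe (f85253 IH) (Lpr_et (K34.f483490 IH) (Lpn (LP (LK LD1_c3 LD2_c45 LD3_c0)))))))))))))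
theorem f661958 : Led Lsl_gt (LP (LK LD1_c7 LD2_c3 LD3_c16)) = (LP (LK LD1_c3 LD2_c45 LD3_c0)) :=
  Leop (Lpe (f661957 IH) (Lpn (LP (LK LD1_c7 LD2_c3 LD3_c16))))
theorem seed_452 : LEOK LG_g (LK LD1_c7 LD2_c3 LD3_c16) :=
  Leoe_g (LK LD1_c7 LD2_c3 LD3_c16) (f661958 IH)
def v7195 : LQ := Led Lsl_dt (LP (LK LD1_c3 LD2_c41 LD3_c55))
theorem f661960 : Led Lsl_dt (LP (LK LD1_c3 LD2_c41 LD3_c55)) = v7195 :=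
  Lrfl
theorem f483575 : Led Lsl_et (LP (LK LD1_c3 LD2_c41 LD3_c55)) = (LP (LK LD1_c1 LD2_c47 LD3_c50)) :=
  Lre_e IH (LK LD1_c3 LD2_c41 LD3_c55) (LK LD1_c1 LD2_c47 LD3_c50) Lrfl Lrfl
def v2695 : LQ := Led Lsl_dt (LP (LK LD1_c1 LD2_c53 LD3_c17))
theorem f530445 : Led Lsl_dt (LP (LK LD1_c1 LD2_c53 LD3_c17)) = v2695 :=
  Lrfl
theorem f661964 : Led Lsl_gt v2695 = v7195 :=
  Lgr Lrot139 (Lpe (f530445 IH) (Lpe (K34.f472327 IH) (Lpe (K3.f86838 IH) (Lpr_dt (K3.f86820 IH) (Lpe (K3.f107233 IH) (Lpe (K2.f5799 IH) (Lpr_et (K2.f85199 IH) (Lpe (K29.f483576 IH) (Lpe (f483575 IH) (Lpr_dt (f661960 IH) (Lpn v7195)))))))))))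
theorem f481751 : Led Lsl_ft (LP (LK LD1_c7 LD2_c37 LD3_c41)) = (LP (LK LD1_c3 LD2_c48 LD3_c19)) :=
  Lre_f IH (LK LD1_c7 LD2_c37 LD3_c41) (LK LD1_c3 LD2_c48 LD3_c19) Lrfl Lrfl
theorem f523812 : Led Lsl_ff (LP (LK LD1_c7 LD2_c30 LD3_c35)) = (LP (LK LD1_c3 LD2_c45 LD3_c2)) :=
  Lgr Lrot19 (Lpr_dt (K47.f85214 IH) (Lpr_ft (K34.f523795 IH) (Lpr_dt (K28.f85224 IH) (Lpn (LP (LK LD1_c3 LD2_c45 LD3_c2))))))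
theorem f524207 : Led Lsl_ef (LP (LK LD1_c7 LD2_c37 LD3_c41)) = (LP (LK LD1_c7 LD2_c30 LD3_c35)) :=
  Lgr Lrot21 (Lpr_ft (f481751 IH) (Lpr_et (K33.f84665 IH) (Lpr_ft (K34.f524199 IH) (Lpr_et (K28.f124893 IH) (Lpe (f523812 IH) (Lpn (LP (LK LD1_c7 LD2_c30 LD3_c35))))))))
theorem f661965 : Led Lsl_gf (LP (LK LD1_c3 LD2_c53 LD3_c25)) = (LP (LK LD1_c7 LD2_c37 LD3_c41)) :=
  Lgr Lrot141 (Lpe (K41.f458208 IH) (Lpr_dt (f530445 IH) (Lpr_gt (f661964 IH) (Lpe (f661960 IH) (Lpr_et (f483575 IH) (Lpr_gt (K29.f483576 IH) (Lpr_dt (K3.f85201 IH) (Lpr_gt (K29.f85212 IH) (Lpe (K47.f85214 IH) (Lpe (f524207 IH) (Lpn (LP (LK LD1_c7 LD2_c37 LD3_c41)))))))))))))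
theorem f661966 : Led Lsl_gt (LP (LK LD1_c7 LD2_c37 LD3_c41)) = (LP (LK LD1_c3 LD2_c53 LD3_c25)) :=
  Leop (Lpr_gf (f661965 IH) (Lpn (LP (LK LD1_c7 LD2_c37 LD3_c41))))
theorem seed_453 : LEOK LG_g (LK LD1_c7 LD2_c37 LD3_c41) :=
  Leoe_g (LK LD1_c7 LD2_c37 LD3_c41) (f661966 IH)
def v7197 : LQ := Led Lsl_ft (LP (LK LD1_c3 LD2_c41 LD3_c61))
theorem f661978 : Led Lsl_ft (LP (LK LD1_c3 LD2_c41 LD3_c61)) = v7197 :=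
  Lrfl
theorem f661981 : Led Lsl_ff (LP (LK LD1_c3 LD2_c41 LD3_c61)) = v7197 :=
  Lgr Lrot3 (Lpr_ft (f661978 IH) (Lpn v7197))
theorem f466778 : Led Lsl_gt (LP (LK LD1_c7 LD2_c33 LD3_c39)) = (LP (LK LD1_c3 LD2_c46 LD3_c17)) :=
  Lre_g IH (LK LD1_c7 LD2_c33 LD3_c39) (LK LD1_c3 LD2_c46 LD3_c17) Lrfl Lrfl
theorem f661984 : Led Lsl_gf (LP (LK LD1_c7 LD2_c33 LD3_c39)) = v7197 :=
  Lgr Lrot47 (Lpr_gt (f466778 IH) (Lpr_af (K29.f466823 IH) (Lpr_ff (f661981 IH) (Lpn v7197))))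
theorem f656319 : Led Lsl_af (LP (LK LD1_c6 LD2_c58 LD3_c45)) = (LP (LK LD1_c3 LD2_c30 LD3_c33)) :=
  Lgr Lrot68 (Lpe (K28.f460850 IH) (Lpr_at (f656000 IH) (Lpr_ct (K24.f460730 IH) (Lpn (LP (LK LD1_c3 LD2_c30 LD3_c33))))))
theorem f656002 : Led Lsl_ft (LP (LK LD1_c6 LD2_c58 LD3_c45)) = (LP (LK LD1_c3 LD2_c30 LD3_c32)) :=
  Lgr Lrot4 (Lpe (K28.f460852 IH) (Lpr_ff (f655998 IH) (Lpe (K34.f461809 IH) (Lpn (LP (LK LD1_c3 LD2_c30 LD3_c32))))))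
theorem f63646 : Led Lsl_et (LP (LK LD1_c6 LD2_c58 LD3_c44)) = (LP (LK LD1_c3 LD2_c52 LD3_c17)) :=
  Lgr Lrot87 (Lpr_ef (K3.f63633 IH) (Lpn (LP (LK LD1_c3 LD2_c52 LD3_c17))))
theorem f655380 : Led Lsl_af (LP (LK LD1_c6 LD2_c58 LD3_c44)) = (LP (LK LD1_c3 LD2_c30 LD3_c32)) :=
  Lgr Lrot50 (Lpr_et (f63646 IH) (Lpr_at (K46.f655374 IH) (Lpr_et (K24.f64998 IH) (Lpn (LP (LK LD1_c3 LD2_c30 LD3_c32))))))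
theorem f656327 : Led Lsl_ft (LP (LK LD1_c6 LD2_c58 LD3_c44)) = (LP (LK LD1_c3 LD2_c30 LD3_c33)) :=
  Lgr Lrot101 (Lpr_af (f655380 IH) (Lpe (f656002 IH) (Lpr_af (f656319 IH) (Lpn (LP (LK LD1_c3 LD2_c30 LD3_c33))))))
theorem f656335 : Led Lsl_ff (LP (LK LD1_c6 LD2_c58 LD3_c44)) = (LP (LK LD1_c3 LD2_c30 LD3_c33)) :=
  Lgr Lrot3 (Lpr_ft (f656327 IH) (Lpn (LP (LK LD1_c3 LD2_c30 LD3_c33))))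
theorem f655372 : Led Lsl_ft (LP (LK LD1_c3 LD2_c52 LD3_c17)) = (LP (LK LD1_c7 LD2_c34 LD3_c47)) :=
  Lgr Lrot48 (Lpr_ff (K46.f655366 IH) (Lpn (LP (LK LD1_c7 LD2_c34 LD3_c47))))
theorem f458722 : Led Lsl_et (LP (LK LD1_c3 LD2_c41 LD3_c61)) = (LP (LK LD1_c1 LD2_c47 LD3_c54)) :=
  Lre_e IH (LK LD1_c3 LD2_c41 LD3_c61) (LK LD1_c1 LD2_c47 LD3_c54) Lrfl Lrfl
theorem f466921 : Led Lsl_dt (LP (LK LD1_c3 LD2_c41 LD3_c61)) = (LP (LK LD1_c7 LD2_c24 LD3_c49)) :=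
  Lre_d IH (LK LD1_c3 LD2_c41 LD3_c61) (LK LD1_c7 LD2_c24 LD3_c49) Lrfl Lrfl
theorem f481891 : Led Lsl_gf (LP (LK LD1_c3 LD2_c47 LD3_c28)) = (LP (LK LD1_c7 LD2_c24 LD3_c49)) :=
  Lgr Lrot145 (Lpe (K3.f63711 IH) (Lpr_et (K3.f63710 IH) (Lpr_gt (K3.f17281 IH) (Lpr_dt (K1.f15272 IH) (Lpe (K3.f63799 IH) (Lpe (K34.f19044 IH) (Lpr_et (K34.f63810 IH) (Lpr_gt (K29.f481878 IH) (Lpe (f458722 IH) (Lpr_dt (f466921 IH) (Lpn (LP (LK LD1_c7 LD2_c24 LD3_c49)))))))))))))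
theorem f93487 : Led Lsl_et (LP (LK LD1_c0 LD2_c52 LD3_c21)) = (LP (LK LD1_c0 LD2_c23 LD3_c41)) :=
  Lre_e IH (LK LD1_c0 LD2_c52 LD3_c21) (LK LD1_c0 LD2_c23 LD3_c41) Lrfl Lrfl
theorem f459327 : Led Lsl_gt (LP (LK LD1_c7 LD2_c24 LD3_c48)) = (LP (LK LD1_c3 LD2_c41 LD3_c61)) :=
  Lre_g IH (LK LD1_c7 LD2_c24 LD3_c48) (LK LD1_c3 LD2_c41 LD3_c61) Lrfl Lrfl
theorem f481897 : Led Lsl_et (LP (LK LD1_c7 LD2_c34 LD3_c47)) = (LP (LK LD1_c7 LD2_c24 LD3_c48)) :=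
  Lgr Lrot121 (Lpr_dt (K29.f477414 IH) (Lpe (K29.f457958 IH) (Lpe (K29.f93486 IH) (Lpr_et (f93487 IH) (Lpe (K3.f17281 IH) (Lpe (K3.f63710 IH) (Lpr_dt (K3.f63711 IH) (Lpr_gf (f481891 IH) (Lpe (f466921 IH) (Lpe (f459327 IH) (Lpn (LP (LK LD1_c7 LD2_c24 LD3_c48)))))))))))))
theorem f63742 : Led Lsl_et (LP (LK LD1_c7 LD2_c3 LD3_c5)) = (LP (LK LD1_c3 LD2_c30 LD3_c33)) :=
  Lre_e IH (LK LD1_c7 LD2_c3 LD3_c5) (LK LD1_c3 LD2_c30 LD3_c33) Lrfl Lrfl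
theorem f656343 : Led Lsl_ft (LP (LK LD1_c7 LD2_c24 LD3_c48)) = (LP (LK LD1_c7 LD2_c3 LD3_c5)) :=
  Lgr Lrot86 (Lpe (f481897 IH) (Lpe (f655372 IH) (Lpe (f63646 IH) (Lpr_ff (f656335 IH) (Lpe (f63742 IH) (Lpn (LP (LK LD1_c7 LD2_c3 LD3_c5))))))))
theorem f455714 : Led Lsl_gt (LP (LK LD1_c3 LD2_c41 LD3_c61)) = (LP (LK LD1_c7 LD2_c24 LD3_c47)) :=
  Lre_g IH (LK LD1_c3 LD2_c41 LD3_c61) (LK LD1_c7 LD2_c24 LD3_c47) Lrfl Lrfl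
theorem f656347 : Led Lsl_af (LP (LK LD1_c7 LD2_c24 LD3_c47)) = (LP (LK LD1_c7 LD2_c3 LD3_c5)) :=
  Lgr Lrot31 (Lpe (f455714 IH) (Lpe (f459327 IH) (Lpr_ft (f656343 IH) (Lpn (LP (LK LD1_c7 LD2_c3 LD3_c5))))))
theorem f460746 : Led Lsl_et (LP (LK LD1_c3 LD2_c30 LD3_c33)) = (LP (LK LD1_c7 LD2_c3 LD3_c5)) :=
  Lre_e IH (LK LD1_c3 LD2_c30 LD3_c33) (LK LD1_c7 LD2_c3 LD3_c5) Lrfl Lrfl
theorem f656321 : Led Lsl_at (LP (LK LD1_c6 LD2_c58 LD3_c45)) = (LP (LK LD1_c3 LD2_c30 LD3_c33)) :=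
  Lgr Lrot100 (Lpr_af (f656319 IH) (Lpn (LP (LK LD1_c3 LD2_c30 LD3_c33))))
theorem f656352 : Led Lsl_et (LP (LK LD1_c7 LD2_c24 LD3_c47)) = (LP (LK LD1_c6 LD2_c58 LD3_c45)) :=
  Lgr Lrot123 (Lpr_af (f656347 IH) (Lpe (f460746 IH) (Lpe (f656321 IH) (Lpn (LP (LK LD1_c6 LD2_c58 LD3_c45))))))
theorem f655391 : Led Lsl_ff (LP (LK LD1_c3 LD2_c52 LD3_c13)) = (LP (LK LD1_c7 LD2_c3 LD3_c2)) :=
  Lgr Lrot19 (Lpr_dt (K29.f468747 IH) (Lpr_ft (K46.f530412 IH) (Lpqs (K46.f655382 IH) (Lpr_dt (K24.f443328 IH) (Lpn (LP (LK LD1_c7 LD2_c3 LD3_c2)))))))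
theorem f478330 : Led Lsl_et (LP (LK LD1_c3 LD2_c52 LD3_c13)) = (LP (LK LD1_c7 LD2_c33 LD3_c39)) :=
  Lgr Lrot121 (Lpr_dt (K29.f468747 IH) (Lpe (K29.f459876 IH) (Lpe (K3.f63630 IH) (Lpr_et (K3.f63629 IH) (Lpe (K0.f12192 IH) (Lpe (K47.f64956 IH) (Lpr_dt (K47.f64957 IH) (Lpe (K47.f12324 IH) (Lpr_df (K47.f478310 IH) (Lpe (f466778 IH) (Lpn (LP (LK LD1_c7 LD2_c33 LD3_c39)))))))))))))
theorem f656358 : Led Lsl_ff (LP (LK LD1_c7 LD2_c24 LD3_c47)) = (LP (LK LD1_c7 LD2_c33 LD3_c39)) :=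
  Lgr Lrot72 (Lpr_et (f656352 IH) (Lpr_ft (f656002 IH) (Lpr_et (K24.f443331 IH) (Lpe (f655391 IH) (Lpr_et (f478330 IH) (Lpn (LP (LK LD1_c7 LD2_c33 LD3_c39))))))))
theorem f656349 : Led Lsl_at (LP (LK LD1_c7 LD2_c24 LD3_c47)) = (LP (LK LD1_c7 LD2_c3 LD3_c5)) :=
  Lgr Lrot100 (Lpr_af (f656347 IH) (Lpn (LP (LK LD1_c7 LD2_c3 LD3_c5))))
theorem f481902 : Led Lsl_ef (LP (LK LD1_c7 LD2_c34 LD3_c47)) = (LP (LK LD1_c7 LD2_c24 LD3_c48)) :=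
  Lgr Lrot88 (Lpr_et (f481897 IH) (Lpn (LP (LK LD1_c7 LD2_c24 LD3_c48))))
theorem f656333 : Led Lsl_ff (LP (LK LD1_c7 LD2_c24 LD3_c48)) = (LP (LK LD1_c7 LD2_c3 LD3_c5)) :=
  Lgr Lrot72 (Lpe (f481902 IH) (Lpe (K46.f655366 IH) (Lpe (K3.f63633 IH) (Lpr_ft (f656327 IH) (Lpr_et (f460746 IH) (Lpn (LP (LK LD1_c7 LD2_c3 LD3_c5))))))))
theorem f656360 : Led Lsl_at (LP (LK LD1_c7 LD2_c24 LD3_c48)) = (LP (LK LD1_c7 LD2_c33 LD3_c39)) :=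
  Lgr Lrot66 (Lpr_ff (f656333 IH) (Lpe (f656349 IH) (Lpr_ff (f656358 IH) (Lpn (LP (LK LD1_c7 LD2_c33 LD3_c39))))))
theorem f661985 : Led Lsl_gt (LP (LK LD1_c7 LD2_c3 LD3_c5)) = v7197 :=
  Lgr Lrot5 (Lpe (f656333 IH) (Lpr_at (f656360 IH) (Lpr_gf (f661984 IH) (Lpn v7197))))
theorem f473975 : Led Lsl_et (LP (LK LD1_c1 LD2_c54 LD3_c24)) = (LP (LK LD1_c3 LD2_c52 LD3_c58)) :=
  Lgr Lrot158 (Lpe (K29.f437666 IH) (Lpr_ef (K29.f473970 IH) (Lpe (K29.f461300 IH) (Lpn (LP (LK LD1_c3 LD2_c52 LD3_c58))))))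
theorem f451198 : Led Lsl_gt (LP (LK LD1_c7 LD2_c53 LD3_c0)) = (LP (LK LD1_c3 LD2_c55 LD3_c37)) :=
  Lre_g IH (LK LD1_c7 LD2_c53 LD3_c0) (LK LD1_c3 LD2_c55 LD3_c37) Lrfl Lrfl
theorem f491868 : Led Lsl_df (LP (LK LD1_c3 LD2_c30 LD3_c27)) = (LP (LK LD1_c3 LD2_c52 LD3_c3)) :=
  Lgr Lrot78 (Lpr_ft (K33.f491861 IH) (Lpr_dt (K33.f63666 IH) (Lpr_ft (K33.f459873 IH) (Lpn (LP (LK LD1_c3 LD2_c52 LD3_c3))))))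
theorem f491919 : Led Lsl_df (LP (LK LD1_c7 LD2_c53 LD3_c0)) = (LP (LK LD1_c7 LD2_c3 LD3_c5)) :=
  Lgr Lrot170 (Lpr_gt (f451198 IH) (Lpe (K33.f456218 IH) (Lpr_et (f473975 IH) (Lpr_gt (K46.f491915 IH) (Lpe (f491868 IH) (Lpr_gt (K29.f18812 IH) (Lpe (K1.f64970 IH) (Lpr_et (K24.f64997 IH) (Lpr_gt (K24.f18853 IH) (Lpe (f63742 IH) (Lpn (LP (LK LD1_c7 LD2_c3 LD3_c5)))))))))))))
theorem f456210 : Led Lsl_gt (LP (LK LD1_c7 LD2_c53 LD3_c1)) = (LP (LK LD1_c14 LD2_c52 LD3_c21)) :=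
  Lre_g IH (LK LD1_c7 LD2_c53 LD3_c1) (LK LD1_c14 LD2_c52 LD3_c21) Lrfl Lrfl
theorem f661979 : Led Lsl_cf K47.v2535 = v7197 :=
  Lgr Lrot108 (Lpe (K47.f527220 IH) (Lpr_ct (K29.f455713 IH) (Lpr_ft (f661978 IH) (Lpn v7197))))
theorem f87965 : Led Lsl_dt (LP (LK LD1_c13 LD2_c23 LD3_c15)) = (LP (LK LD1_c7 LD2_c3 LD3_c35)) :=
  Lre_d IH (LK LD1_c13 LD2_c23 LD3_c15) (LK LD1_c7 LD2_c3 LD3_c35) Lrfl Lrfl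
theorem f661986 : Led Lsl_ct (LP (LK LD1_c14 LD2_c52 LD3_c21)) = (LP (LK LD1_c13 LD2_c23 LD3_c15)) :=
  Lgr Lrot110 (Lpe (f456210 IH) (Lpe (K33.f456143 IH) (Lpe (f451198 IH) (Lpr_df (f491919 IH) (Lpr_gt (f661985 IH) (Lpe (f661979 IH) (Lpe (K47.f527224 IH) (Lpr_ct (K47.f87967 IH) (Lpe (f87965 IH) (Lpn (LP (LK LD1_c13 LD2_c23 LD3_c15))))))))))))
theorem f661987 : Led Lsl_ct (LP (LK LD1_c14 LD2_c52 LD3_c21)) = (LP (LK LD1_c13 LD2_c23 LD3_c15)) :=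
  Leop (Lpe (f661986 IH) (Lpn (LP (LK LD1_c14 LD2_c52 LD3_c21))))
theorem seed_454 : LEOK LG_c (LK LD1_c14 LD2_c52 LD3_c21) :=
  Leoe_c (LK LD1_c14 LD2_c52 LD3_c21) (f661987 IH)
theorem f456255 : Led Lsl_ct (LP (LK LD1_c3 LD2_c41 LD3_c61)) = (LP (LK LD1_c1 LD2_c47 LD3_c56)) :=
  Lre_c IH (LK LD1_c3 LD2_c41 LD3_c61) (LK LD1_c1 LD2_c47 LD3_c56) Lrfl Lrfl
theorem f661982 : Led Lsl_ct K47.v2535 = v7197 :=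
  Lgr Lrot40 (Lpe (K47.f527216 IH) (Lpe (f456255 IH) (Lpr_ff (f661981 IH) (Lpn v7197))))
theorem f512588 : Led Lsl_at (LP (LK LD1_c1 LD2_c41 LD3_c57)) = (LP (LK LD1_c3 LD2_c29 LD3_c12)) :=
  Lgr Lrot107 (Lpe (K5.f87979 IH) (Lpr_af (K33.f512582 IH) (Lpe (K29.f18789 IH) (Lpn (LP (LK LD1_c3 LD2_c29 LD3_c12))))))
theorem f443515 : Led Lsl_et (LP (LK LD1_c3 LD2_c30 LD3_c46)) = (LP (LK LD1_c1 LD2_c41 LD3_c57)) :=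
  Lre_e IH (LK LD1_c3 LD2_c30 LD3_c46) (LK LD1_c1 LD2_c41 LD3_c57) Lrfl Lrfl
theorem f527203 : Led Lsl_af (LP (LK LD1_c3 LD2_c30 LD3_c46)) = K34.v2534 :=
  Lgr Lrot50 (Lpr_et (f443515 IH) (Lpr_at (f512588 IH) (Lpr_et (K34.f527202 IH) (Lpn K34.v2534))))
theorem f527206 : Led Lsl_ft (LP (LK LD1_c3 LD2_c31 LD3_c3)) = K34.v2534 :=
  Lgr Lrot48 (Lpr_ff (K34.f527205 IH) (Lpn K34.v2534))
theorem f527225 : Led Lsl_gt (LP (LK LD1_c3 LD2_c31 LD3_c3)) = K47.v2535 :=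
  Lgr Lrot5 (Lpr_ft (f527206 IH) (Lpe (f527203 IH) (Lpr_gf (K47.f527224 IH) (Lpn K47.v2535))))
theorem f474320 : Led Lsl_df (LP (LK LD1_c7 LD2_c33 LD3_c11)) = (LP (LK LD1_c3 LD2_c53 LD3_c1)) :=
  Lgr Lrot78 (Lpr_ft (K29.f474316 IH) (Lpr_dt (K29.f62975 IH) (Lpe (K29.f473691 IH) (Lpn (LP (LK LD1_c3 LD2_c53 LD3_c1))))))
theorem f477347 : Led Lsl_gt (LP (LK LD1_c3 LD2_c46 LD3_c7)) = (LP (LK LD1_c7 LD2_c4 LD3_c2)) :=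
  Lgr Lrot137 (Lpe (K35.f87953 IH) (Lpr_dt (K29.f88002 IH) (Lpe (K29.f88090 IH) (Lpr_df (f474320 IH) (Lpr_et (K29.f473711 IH) (Lpe (K29.f459901 IH) (Lpr_ef (K33.f477338 IH) (Lpr_dt (K33.f89212 IH) (Lpe (K33.f477345 IH) (Lpe (K33.f461832 IH) (Lpn (LP (LK LD1_c7 LD2_c4 LD3_c2)))))))))))))
theorem f87951 : Led Lsl_df (LP (LK LD1_c3 LD2_c46 LD3_c7)) = (LP (LK LD1_c3 LD2_c49 LD3_c41)) :=
  Lgr Lrot38 (Lpr_dt (K5.f87940 IH) (Lpn (LP (LK LD1_c3 LD2_c49 LD3_c41))))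
theorem f87969 : Led Lsl_ct (LP (LK LD1_c1 LD2_c51 LD3_c49)) = (LP (LK LD1_c3 LD2_c49 LD3_c42)) :=
  Lre_c IH (LK LD1_c1 LD2_c51 LD3_c49) (LK LD1_c3 LD2_c49 LD3_c42) Lrfl Lrfl
theorem f87970 : Led Lsl_gt (LP (LK LD1_c3 LD2_c49 LD3_c42)) = (LP (LK LD1_c7 LD2_c40 LD3_c20)) :=
  Lre_g IH (LK LD1_c3 LD2_c49 LD3_c42) (LK LD1_c7 LD2_c40 LD3_c20) Lrfl Lrfl
theorem f440685 : Led Lsl_gt (LP (LK LD1_c7 LD2_c0 LD3_c57)) = (LP (LK LD1_c13 LD2_c18 LD3_c15)) :=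
  Lre_g IH (LK LD1_c7 LD2_c0 LD3_c57) (LK LD1_c13 LD2_c18 LD3_c15) Lrfl Lrfl
theorem f516828 : Led Lsl_ff (LP (LK LD1_c3 LD2_c46 LD3_c5)) = (LP (LK LD1_c7 LD2_c1 LD3_c3)) :=
  Lgr Lrot25 (Lpr_bt (K35.f441416 IH) (Lpr_ft (K33.f516826 IH) (Lpr_bt (K47.f481697 IH) (Lpn (LP (LK LD1_c7 LD2_c1 LD3_c3))))))
theorem f483318 : Led Lsl_at (LP (LK LD1_c3 LD2_c46 LD3_c5)) = (LP (LK LD1_c7 LD2_c33 LD3_c8)) :=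
  Lre_a IH (LK LD1_c3 LD2_c46 LD3_c5) (LK LD1_c7 LD2_c33 LD3_c8) Lrfl Lrfl
theorem f611483 : Led Lsl_gt (LP (LK LD1_c13 LD2_c17 LD3_c21)) = (LP (LK LD1_c7 LD2_c33 LD3_c8)) :=
  Lgr Lrot46 (Lpr_gf (K47.f611479 IH) (Lpe (f516828 IH) (Lpr_at (f483318 IH) (Lpn (LP (LK LD1_c7 LD2_c33 LD3_c8))))))
theorem f88126 : Led Lsl_et (LP (LK LD1_c14 LD2_c14 LD3_c36)) = (LP (LK LD1_c7 LD2_c33 LD3_c8)) :=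
  Lre_e IH (LK LD1_c14 LD2_c14 LD3_c36) (LK LD1_c7 LD2_c33 LD3_c8) Lrfl Lrfl
theorem f88110 : Led Lsl_at (LP (LK LD1_c14 LD2_c14 LD3_c36)) = (LP (LK LD1_c7 LD2_c33 LD3_c10)) :=
  Lre_a IH (LK LD1_c14 LD2_c14 LD3_c36) (LK LD1_c7 LD2_c33 LD3_c10) Lrfl Lrfl
theorem f88111 : Led Lsl_at (LP (LK LD1_c7 LD2_c40 LD3_c17)) = (LP (LK LD1_c14 LD2_c27 LD3_c47)) :=
  Lre_a IH (LK LD1_c7 LD2_c40 LD3_c17) (LK LD1_c14 LD2_c27 LD3_c47) Lrfl Lrfl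
theorem f88112 : Led Lsl_df (LP (LK LD1_c14 LD2_c14 LD3_c36)) = (LP (LK LD1_c14 LD2_c27 LD3_c47)) :=
  Lgr Lrot18 (Lpr_at (f88110 IH) (Lpr_dt (K47.f88100 IH) (Lpr_at (f88111 IH) (Lpn (LP (LK LD1_c14 LD2_c27 LD3_c47))))))
theorem f88124 : Led Lsl_dt (LP (LK LD1_c14 LD2_c14 LD3_c36)) = (LP (LK LD1_c14 LD2_c27 LD3_c47)) :=
  Lgr Lrot42 (Lpr_df (f88112 IH) (Lpn (LP (LK LD1_c14 LD2_c27 LD3_c47))))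
theorem f611502 : Led Lsl_gf (LP (LK LD1_c22 LD2_c50 LD3_c44)) = (LP (LK LD1_c14 LD2_c27 LD3_c47)) :=
  Lgr Lrot145 (Lpe (K34.f104064 IH) (Lpr_et (K34.f104063 IH) (Lpr_gt (K8.f96333 IH) (Lpr_dt (K5.f104049 IH) (Lpr_gt (K32.f205908 IH) (Lpr_df (K44.f205916 IH) (Lpr_et (K32.f91244 IH) (Lpr_gt (f611483 IH) (Lpe (f88126 IH) (Lpr_dt (f88124 IH) (Lpn (LP (LK LD1_c14 LD2_c27 LD3_c47)))))))))))))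
theorem f95153 : Led Lsl_dt (LP (LK LD1_c14 LD2_c22 LD3_c39)) = (LP (LK LD1_c7 LD2_c37 LD3_c43)) :=
  Lre_d IH (LK LD1_c14 LD2_c22 LD3_c39) (LK LD1_c7 LD2_c37 LD3_c43) Lrfl Lrfl
theorem f486880 : Led Lsl_dt (LP (LK LD1_c14 LD2_c18 LD3_c18)) = (LP (LK LD1_c23 LD2_c56 LD3_c20)) :=
  Lre_d IH (LK LD1_c14 LD2_c18 LD3_c18) (LK LD1_c23 LD2_c56 LD3_c20) Lrfl Lrfl
theorem f489207 : Led Lsl_ff (LP (LK LD1_c14 LD2_c22 LD3_c39)) = (LP (LK LD1_c23 LD2_c56 LD3_c20)) :=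
  Lgr Lrot19 (Lpr_dt (f95153 IH) (Lpr_ft (K40.f489203 IH) (Lpr_dt (f486880 IH) (Lpn (LP (LK LD1_c23 LD2_c56 LD3_c20))))))
theorem f611504 : Led Lsl_gt (LP (LK LD1_c23 LD2_c56 LD3_c20)) = (LP (LK LD1_c14 LD2_c27 LD3_c47)) :=
  Lgr Lrot5 (Lpe (f489207 IH) (Lpr_at (K34.f206578 IH) (Lpr_gf (f611502 IH) (Lpn (LP (LK LD1_c14 LD2_c27 LD3_c47))))))
theorem f489209 : Led Lsl_ef (LP (LK LD1_c7 LD2_c38 LD3_c38)) = (LP (LK LD1_c14 LD2_c18 LD3_c18)) :=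
  Lgr Lrot21 (Lpr_ft (K33.f486315 IH) (Lpr_et (K8.f89752 IH) (Lpr_ft (K8.f162187 IH) (Lpr_et (K8.f95146 IH) (Lpr_ft (K40.f489203 IH) (Lpn (LP (LK LD1_c14 LD2_c18 LD3_c18))))))))
theorem f64767 : Led Lsl_et (LP (LK LD1_c7 LD2_c38 LD3_c41)) = (LP (LK LD1_c3 LD2_c48 LD3_c46)) :=
  Lre_e IH (LK LD1_c7 LD2_c38 LD3_c41) (LK LD1_c3 LD2_c48 LD3_c46) Lrfl Lrfl
theorem f62741 : Led Lsl_dt (LP (LK LD1_c3 LD2_c48 LD3_c47)) = (LP (LK LD1_c1 LD2_c51 LD3_c23)) :=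
  Lre_d IH (LK LD1_c3 LD2_c48 LD3_c47) (LK LD1_c1 LD2_c51 LD3_c23) Lrfl Lrfl
theorem f64700 : Led Lsl_et (LP (LK LD1_c7 LD2_c1 LD3_c7)) = (LP (LK LD1_c13 LD2_c18 LD3_c53)) :=
  Lre_e IH (LK LD1_c7 LD2_c1 LD3_c7) (LK LD1_c13 LD2_c18 LD3_c53) Lrfl Lrfl
theorem f64701 : Led Lsl_df (LP (LK LD1_c7 LD2_c38 LD3_c44)) = (LP (LK LD1_c13 LD2_c18 LD3_c53)) :=
  Lgr Lrot70 (Lpr_et (K33.f62750 IH) (Lpr_dt (f62741 IH) (Lpr_et (K29.f62753 IH) (Lpr_dt (K29.f64646 IH) (Lpr_et (f64700 IH) (Lpn (LP (LK LD1_c13 LD2_c18 LD3_c53))))))))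
theorem f64712 : Led Lsl_dt (LP (LK LD1_c7 LD2_c38 LD3_c44)) = (LP (LK LD1_c13 LD2_c18 LD3_c53)) :=
  Lgr Lrot42 (Lpr_df (f64701 IH) (Lpn (LP (LK LD1_c13 LD2_c18 LD3_c53))))
theorem f64731 : Led Lsl_bt (LP (LK LD1_c14 LD2_c24 LD3_c28)) = (LP (LK LD1_c7 LD2_c38 LD3_c44)) :=
  Lre_b IH (LK LD1_c14 LD2_c24 LD3_c28) (LK LD1_c7 LD2_c38 LD3_c44) Lrfl Lrfl
theorem f64732 : Led Lsl_bt (LP (LK LD1_c13 LD2_c18 LD3_c53)) = (LP (LK LD1_c22 LD2_c35 LD3_c8)) :=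
  Lre_b IH (LK LD1_c13 LD2_c18 LD3_c53) (LK LD1_c22 LD2_c35 LD3_c8) Lrfl Lrfl
theorem f64733 : Led Lsl_df (LP (LK LD1_c14 LD2_c24 LD3_c28)) = (LP (LK LD1_c22 LD2_c35 LD3_c8)) :=
  Lgr Lrot12 (Lpr_bt (f64731 IH) (Lpr_dt (f64712 IH) (Lpr_bt (f64732 IH) (Lpn (LP (LK LD1_c22 LD2_c35 LD3_c8))))))
theorem f64746 : Led Lsl_dt (LP (LK LD1_c7 LD2_c38 LD3_c40)) = (LP (LK LD1_c3 LD2_c48 LD3_c46)) :=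
  Lre_d IH (LK LD1_c7 LD2_c38 LD3_c40) (LK LD1_c3 LD2_c48 LD3_c46) Lrfl Lrfl
theorem f64747 : Led Lsl_et (LP (LK LD1_c3 LD2_c48 LD3_c46)) = (LP (LK LD1_c7 LD2_c38 LD3_c41)) :=
  Lre_e IH (LK LD1_c3 LD2_c48 LD3_c46) (LK LD1_c7 LD2_c38 LD3_c41) Lrfl Lrfl
theorem f64748 : Led Lsl_et (LP (LK LD1_c13 LD2_c18 LD3_c51)) = (LP (LK LD1_c22 LD2_c35 LD3_c8)) :=
  Lre_e IH (LK LD1_c13 LD2_c18 LD3_c51) (LK LD1_c22 LD2_c35 LD3_c8) Lrfl Lrfl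
theorem f64749 : Led Lsl_dt (LP (LK LD1_c7 LD2_c38 LD3_c41)) = (LP (LK LD1_c13 LD2_c18 LD3_c51)) :=
  Lgr Lrot77 (Lpe (f64747 IH) (Lpe (f64746 IH) (Lpe (K34.f64745 IH) (Lpr_df (f64733 IH) (Lpe (f64748 IH) (Lpn (LP (LK LD1_c13 LD2_c18 LD3_c51))))))))
theorem f518230 : Led Lsl_ff (LP (LK LD1_c14 LD2_c14 LD3_c35)) = (LP (LK LD1_c22 LD2_c34 LD3_c47)) :=
  Lgr Lrot3 (Lpr_ft (K47.f518219 IH) (Lpn (LP (LK LD1_c22 LD2_c34 LD3_c47))))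
theorem f88134 : Led Lsl_dt (LP (LK LD1_c14 LD2_c14 LD3_c35)) = (LP (LK LD1_c7 LD2_c33 LD3_c8)) :=
  Lre_d IH (LK LD1_c14 LD2_c14 LD3_c35) (LK LD1_c7 LD2_c33 LD3_c8) Lrfl Lrfl
theorem f482989 : Led Lsl_dt (LP (LK LD1_c13 LD2_c18 LD3_c43)) = (LP (LK LD1_c22 LD2_c34 LD3_c47)) :=
  Lre_d IH (LK LD1_c13 LD2_c18 LD3_c43) (LK LD1_c22 LD2_c34 LD3_c47) Lrfl Lrfl
theorem f518236 : Led Lsl_ft (LP (LK LD1_c7 LD2_c33 LD3_c8)) = (LP (LK LD1_c13 LD2_c18 LD3_c43)) :=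
  Lgr Lrot54 (Lpe (f88134 IH) (Lpr_ff (f518230 IH) (Lpe (f482989 IH) (Lpn (LP (LK LD1_c13 LD2_c18 LD3_c43))))))
theorem f518252 : Led Lsl_gt (LP (LK LD1_c7 LD2_c33 LD3_c8)) = (LP (LK LD1_c13 LD2_c18 LD3_c42)) :=
  Lgr Lrot5 (Lpr_ft (f518236 IH) (Lpr_at (K46.f482975 IH) (Lpe (K47.f472463 IH) (Lpn (LP (LK LD1_c13 LD2_c18 LD3_c42))))))
theorem f482984 : Led Lsl_dt (LP (LK LD1_c13 LD2_c18 LD3_c42)) = (LP (LK LD1_c22 LD2_c34 LD3_c46)) :=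
  Lre_d IH (LK LD1_c13 LD2_c18 LD3_c42) (LK LD1_c22 LD2_c34 LD3_c46) Lrfl Lrfl
theorem f611508 : Led Lsl_gf (LP (LK LD1_c13 LD2_c18 LD3_c51)) = (LP (LK LD1_c22 LD2_c34 LD3_c46)) :=
  Lgr Lrot134 (Lpe (f64749 IH) (Lpr_et (f64767 IH) (Lpr_gt (K33.f64768 IH) (Lpr_ef (f489209 IH) (Lpr_dt (f486880 IH) (Lpr_gt (f611504 IH) (Lpe (f88124 IH) (Lpr_et (f88126 IH) (Lpr_gt (f518252 IH) (Lpr_dt (f482984 IH) (Lpn (LP (LK LD1_c22 LD2_c34 LD3_c46)))))))))))))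
theorem f91256 : Led Lsl_et (LP (LK LD1_c13 LD2_c17 LD3_c21)) = (LP (LK LD1_c7 LD2_c0 LD3_c16)) :=
  Lre_e IH (LK LD1_c13 LD2_c17 LD3_c21) (LK LD1_c7 LD2_c0 LD3_c16) Lrfl Lrfl
theorem f91255 : Led Lsl_dt (LP (LK LD1_c13 LD2_c17 LD3_c21)) = (LP (LK LD1_c22 LD2_c33 LD3_c6)) :=
  Lre_d IH (LK LD1_c13 LD2_c17 LD3_c21) (LK LD1_c22 LD2_c33 LD3_c6) Lrfl Lrfl
theorem f486309 : Led Lsl_gt (LP (LK LD1_c13 LD2_c18 LD3_c51)) = (LP (LK LD1_c22 LD2_c33 LD3_c6)) :=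
  Lgr Lrot112 (Lpe (f64749 IH) (Lpr_et (f64767 IH) (Lpr_gf (K33.f486303 IH) (Lpe (K8.f127436 IH) (Lpr_dt (K8.f127431 IH) (Lpe (K8.f127429 IH) (Lpe (K38.f92458 IH) (Lpr_gf (K4.f111497 IH) (Lpe (f91256 IH) (Lpr_dt (f91255 IH) (Lpn (LP (LK LD1_c22 LD2_c33 LD3_c6)))))))))))))
theorem f419817 : Led Lsl_dt (LP (LK LD1_c14 LD2_c12 LD3_c27)) = (LP (LK LD1_c7 LD2_c31 LD3_c58)) :=
  Lre_d IH (LK LD1_c14 LD2_c12 LD3_c27) (LK LD1_c7 LD2_c31 LD3_c58) Lrfl Lrfl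
theorem f498003 : Led Lsl_af (LP (LK LD1_c14 LD2_c12 LD3_c27)) = (LP (LK LD1_c22 LD2_c33 LD3_c6)) :=
  Lgr Lrot117 (Lpr_dt (f419817 IH) (Lpr_at (K47.f497995 IH) (Lpr_dt (f91255 IH) (Lpn (LP (LK LD1_c22 LD2_c33 LD3_c6))))))
theorem f498005 : Led Lsl_at (LP (LK LD1_c14 LD2_c12 LD3_c27)) = (LP (LK LD1_c22 LD2_c33 LD3_c6)) :=
  Lgr Lrot100 (Lpr_af (f498003 IH) (Lpn (LP (LK LD1_c22 LD2_c33 LD3_c6))))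
theorem f611512 : Led Lsl_ff (LP (LK LD1_c14 LD2_c12 LD3_c27)) = (LP (LK LD1_c22 LD2_c34 LD3_c46)) :=
  Lgr Lrot52 (Lpr_at (f498005 IH) (Lpe (f486309 IH) (Lpr_gf (f611508 IH) (Lpn (LP (LK LD1_c22 LD2_c34 LD3_c46))))))
theorem f611520 : Led Lsl_ft (LP (LK LD1_c14 LD2_c12 LD3_c27)) = (LP (LK LD1_c22 LD2_c34 LD3_c46)) :=
  Lgr Lrot48 (Lpr_ff (f611512 IH) (Lpn (LP (LK LD1_c22 LD2_c34 LD3_c46))))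
theorem f419783 : Led Lsl_dt (LP (LK LD1_c13 LD2_c56 LD3_c12)) = (LP (LK LD1_c23 LD2_c27 LD3_c18)) :=
  Lre_d IH (LK LD1_c13 LD2_c56 LD3_c12) (LK LD1_c23 LD2_c27 LD3_c18) Lrfl Lrfl
theorem f419818 : Led Lsl_bt (LP (LK LD1_c23 LD2_c27 LD3_c18)) = (LP (LK LD1_c14 LD2_c12 LD3_c27)) :=
  Lgr Lrot95 (Lpe (f419783 IH) (Lpr_bf (K47.f419807 IH) (Lpe (f419817 IH) (Lpn (LP (LK LD1_c14 LD2_c12 LD3_c27))))))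
theorem f488434 : Led Lsl_gt (LP (LK LD1_c13 LD2_c6 LD3_c60)) = (LP (LK LD1_c6 LD2_c54 LD3_c10)) :=
  Lre_g IH (LK LD1_c13 LD2_c6 LD3_c60) (LK LD1_c6 LD2_c54 LD3_c10) Lrfl Lrfl
theorem f497846 : Led Lsl_af (LP (LK LD1_c13 LD2_c5 LD3_c12)) = (LP (LK LD1_c13 LD2_c56 LD3_c12)) :=
  Lgr Lrot50 (Lpr_et (K47.f122091 IH) (Lpr_at (K32.f497840 IH) (Lpr_et (K47.f419788 IH) (Lpn (LP (LK LD1_c13 LD2_c56 LD3_c12))))))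
theorem f517825 : Led Lsl_ft (LP (LK LD1_c13 LD2_c6 LD3_c60)) = (LP (LK LD1_c13 LD2_c56 LD3_c12)) :=
  Lgr Lrot2 (Lpr_gt (f488434 IH) (Lpr_gt (K47.f517823 IH) (Lpr_af (f497846 IH) (Lpn (LP (LK LD1_c13 LD2_c56 LD3_c12))))))
theorem f517884 : Led Lsl_ff (LP (LK LD1_c13 LD2_c6 LD3_c60)) = (LP (LK LD1_c13 LD2_c56 LD3_c12)) :=
  Lgr Lrot3 (Lpr_ft (f517825 IH) (Lpn (LP (LK LD1_c13 LD2_c56 LD3_c12))))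
theorem f488452 : Led Lsl_dt (LP (LK LD1_c13 LD2_c6 LD3_c60)) = (LP (LK LD1_c22 LD2_c18 LD3_c32)) :=
  Lre_d IH (LK LD1_c13 LD2_c6 LD3_c60) (LK LD1_c22 LD2_c18 LD3_c32) Lrfl Lrfl
theorem f419822 : Led Lsl_dt (LP (LK LD1_c23 LD2_c27 LD3_c18)) = (LP (LK LD1_c13 LD2_c56 LD3_c12)) :=
  Lre_d IH (LK LD1_c23 LD2_c27 LD3_c18) (LK LD1_c13 LD2_c56 LD3_c12) Lrfl Lrfl
theorem f517889 : Led Lsl_ft (LP (LK LD1_c22 LD2_c18 LD3_c32)) = (LP (LK LD1_c23 LD2_c27 LD3_c18)) :=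
  Lgr Lrot54 (Lpe (f488452 IH) (Lpr_ff (f517884 IH) (Lpe (f419822 IH) (Lpn (LP (LK LD1_c23 LD2_c27 LD3_c18))))))
theorem f611524 : Led Lsl_bf (LP (LK LD1_c22 LD2_c18 LD3_c32)) = (LP (LK LD1_c22 LD2_c34 LD3_c46)) :=
  Lgr Lrot61 (Lpr_ft (f517889 IH) (Lpr_bt (f419818 IH) (Lpr_ft (f611520 IH) (Lpn (LP (LK LD1_c22 LD2_c34 LD3_c46))))))
theorem f488455 : Led Lsl_dt (LP (LK LD1_c22 LD2_c18 LD3_c32)) = (LP (LK LD1_c13 LD2_c6 LD3_c60)) :=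
  Lre_d IH (LK LD1_c22 LD2_c18 LD3_c32) (LK LD1_c13 LD2_c6 LD3_c60) Lrfl Lrfl
theorem f611526 : Led Lsl_bt (LP (LK LD1_c13 LD2_c6 LD3_c60)) = (LP (LK LD1_c13 LD2_c18 LD3_c42)) :=
  Lgr Lrot95 (Lpe (f488455 IH) (Lpr_bf (f611524 IH) (Lpe (f482984 IH) (Lpn (LP (LK LD1_c13 LD2_c18 LD3_c42))))))
theorem f611528 : Led Lsl_bf (LP (LK LD1_c13 LD2_c6 LD3_c60)) = (LP (LK LD1_c13 LD2_c18 LD3_c42)) :=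
  Lgr Lrot24 (Lpr_bt (f611526 IH) (Lpn (LP (LK LD1_c13 LD2_c18 LD3_c42))))
theorem f611540 : Led Lsl_cf (LP (LK LD1_c21 LD2_c14 LD3_c46)) = (LP (LK LD1_c13 LD2_c18 LD3_c42)) :=
  Lgr Lrot58 (Lpr_gf (K47.f611491 IH) (Lpe (K47.f116654 IH) (Lpe (K47.f485679 IH) (Lpe (K47.f135949 IH) (Lpe (K29.f115780 IH) (Lpe (K6.f136997 IH) (Lpe (K47.f517808 IH) (Lpe (K42.f488435 IH) (Lpe (f488434 IH) (Lpr_bf (f611528 IH) (Lpn (LP (LK LD1_c13 LD2_c18 LD3_c42)))))))))))))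
theorem f518250 : Led Lsl_bf (LP (LK LD1_c7 LD2_c33 LD3_c8)) = (LP (LK LD1_c6 LD2_c54 LD3_c2)) :=
  Lgr Lrot61 (Lpr_ft (f518236 IH) (Lpe (K47.f516974 IH) (Lpr_ft (K47.f518146 IH) (Lpn (LP (LK LD1_c6 LD2_c54 LD3_c2))))))
theorem f483287 : Led Lsl_bt (LP (LK LD1_c13 LD2_c3 LD3_c18)) = (LP (LK LD1_c22 LD2_c13 LD3_c1)) :=
  Lre_b IH (LK LD1_c13 LD2_c3 LD3_c18) (LK LD1_c22 LD2_c13 LD3_c1) Lrfl Lrfl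
theorem f5304 : Led Lsl_ct (LP (LK LD1_c13 LD2_c46 LD3_c35)) = (LP (LK LD1_c7 LD2_c16 LD3_c49)) :=
  Lre_c IH (LK LD1_c13 LD2_c46 LD3_c35) (LK LD1_c7 LD2_c16 LD3_c49) Lrfl Lrfl
theorem f467387 : Led Lsl_bt (LP (LK LD1_c13 LD2_c46 LD3_c35)) = (LP (LK LD1_c13 LD2_c48 LD3_c60)) :=
  Lgr Lrot92 (Lpr_ct (f5304 IH) (Lpr_gt (f5303 IH) (Lpr_cf (K33.f5270 IH) (Lpr_bt (K33.f5269 IH) (Lpr_gt (K28.f5274 IH) (Lpe (K28.f456474 IH) (Lpr_gt (K28.f467378 IH) (Lpr_cf (K29.f466984 IH) (Lpr_bt (K43.f466981 IH) (Lpr_gt (K43.f466992 IH) (Lpn (LP (LK LD1_c13 LD2_c48 LD3_c60)))))))))))))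
theorem f5315 : Led Lsl_bt (LP (LK LD1_c13 LD2_c46 LD3_c34)) = (LP (LK LD1_c7 LD2_c16 LD3_c49)) :=
  Lre_b IH (LK LD1_c13 LD2_c46 LD3_c34) (LK LD1_c7 LD2_c16 LD3_c49) Lrfl Lrfl
theorem f483293 : Led Lsl_cf (LP (LK LD1_c13 LD2_c46 LD3_c34)) = (LP (LK LD1_c13 LD2_c3 LD3_c18)) :=
  Lgr Lrot97 (Lpr_bt (f5315 IH) (Lpr_ct (f467391 IH) (Lpr_bt (f467387 IH) (Lpr_ct (K43.f483290 IH) (Lpr_bt (K43.f116652 IH) (Lpn (LP (LK LD1_c13 LD2_c3 LD3_c18))))))))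
theorem f611542 : Led Lsl_gt (LP (LK LD1_c21 LD2_c14 LD3_c46)) = (LP (LK LD1_c13 LD2_c46 LD3_c34)) :=
  Lgr Lrot149 (Lpr_cf (f611540 IH) (Lpe (f518252 IH) (Lpr_bf (f518250 IH) (Lpe (K47.f518138 IH) (Lpr_gf (K47.f518134 IH) (Lpe (K43.f123628 IH) (Lpe (K43.f123617 IH) (Lpr_gf (K43.f501788 IH) (Lpe (f483287 IH) (Lpe (f483293 IH) (Lpn (LP (LK LD1_c13 LD2_c46 LD3_c34)))))))))))))
theorem f529818 : Led Lsl_cf (LP (LK LD1_c13 LD2_c51 LD3_c1)) = (LP (LK LD1_c13 LD2_c18 LD3_c23)) :=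
  Lgr Lrot14 (Lpe (K47.f17582 IH) (Lpr_gf (K47.f529803 IH) (Lpe (K47.f477991 IH) (Lpe (K33.f467222 IH) (Lpr_ct (K29.f6663 IH) (Lpe (K29.f477981 IH) (Lpr_dt (K47.f158561 IH) (Lpr_gt (K47.f158560 IH) (Lpr_dt (K47.f158553 IH) (Lpn (LP (LK LD1_c13 LD2_c18 LD3_c23))))))))))))
theorem f529820 : Led Lsl_ct (LP (LK LD1_c7 LD2_c19 LD3_c23)) = (LP (LK LD1_c7 LD2_c0 LD3_c54)) :=
  Lgr Lrot15 (Lpe (f17599 IH) (Lpr_cf (f529818 IH) (Lpe (K47.f158555 IH) (Lpn (LP (LK LD1_c7 LD2_c0 LD3_c54))))))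
theorem f529864 : Led Lsl_cf (LP (LK LD1_c7 LD2_c19 LD3_c23)) = (LP (LK LD1_c7 LD2_c0 LD3_c54)) :=
  Lgr Lrot11 (Lpr_ct (f529820 IH) (Lpn (LP (LK LD1_c7 LD2_c0 LD3_c54))))
theorem f529863 : Led Lsl_bt (LP (LK LD1_c7 LD2_c0 LD3_c54)) = (LP (LK LD1_c13 LD2_c18 LD3_c21)) :=
  Lre_b IH (LK LD1_c7 LD2_c0 LD3_c54) (LK LD1_c13 LD2_c18 LD3_c21) Lrfl Lrfl
theorem f611544 : Led Lsl_gt (LP (LK LD1_c13 LD2_c18 LD3_c21)) = (LP (LK LD1_c13 LD2_c6 LD3_c60)) :=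
  Lgr Lrot164 (Lpe (f529863 IH) (Lpe (f529864 IH) (Lpr_gf (f556326 IH) (Lpe (K43.f123621 IH) (Lpr_gf (K43.f501788 IH) (Lpe (f483287 IH) (Lpe (f483293 IH) (Lpe (f611542 IH) (Lpr_cf (f611540 IH) (Lpe (f611528 IH) (Lpn (LP (LK LD1_c13 LD2_c6 LD3_c60)))))))))))))
theorem f488437 : Led Lsl_at (LP (LK LD1_c13 LD2_c6 LD3_c61)) = (LP (LK LD1_c6 LD2_c54 LD3_c10)) :=
  Lre_a IH (LK LD1_c13 LD2_c6 LD3_c61) (LK LD1_c6 LD2_c54 LD3_c10) Lrfl Lrfl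
theorem f611546 : Led Lsl_ft (LP (LK LD1_c13 LD2_c18 LD3_c21)) = (LP (LK LD1_c13 LD2_c6 LD3_c61)) :=
  Lgr Lrot2 (Lpr_gt (f611544 IH) (Lpr_gt (f488434 IH) (Lpe (f488437 IH) (Lpn (LP (LK LD1_c13 LD2_c6 LD3_c61))))))
theorem f611554 : Led Lsl_ff (LP (LK LD1_c13 LD2_c18 LD3_c21)) = (LP (LK LD1_c13 LD2_c6 LD3_c61)) :=
  Lgr Lrot3 (Lpr_ft (f611546 IH) (Lpn (LP (LK LD1_c13 LD2_c6 LD3_c61))))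
theorem f109638 : Led Lsl_bt (LP (LK LD1_c13 LD2_c18 LD3_c21)) = (LP (LK LD1_c7 LD2_c0 LD3_c54)) :=
  Lre_b IH (LK LD1_c13 LD2_c18 LD3_c21) (LK LD1_c7 LD2_c0 LD3_c54) Lrfl Lrfl
theorem f532272 : Led Lsl_cf (LP (LK LD1_c7 LD2_c37 LD3_c58)) = (LP (LK LD1_c14 LD2_c3 LD3_c11)) :=
  Lgr Lrot108 (Lpe (K35.f532260 IH) (Lpr_ct (K35.f532236 IH) (Lpr_ft (K41.f532269 IH) (Lpn (LP (LK LD1_c14 LD2_c3 LD3_c11))))))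
theorem f451983 : Led Lsl_gt (LP (LK LD1_c3 LD2_c56 LD3_c29)) = (LP (LK LD1_c7 LD2_c54 LD3_c41)) :=
  Lre_g IH (LK LD1_c3 LD2_c56 LD3_c29) (LK LD1_c7 LD2_c54 LD3_c41) Lrfl Lrfl
theorem f532296 : Led Lsl_bf (LP (LK LD1_c7 LD2_c54 LD3_c41)) = (LP (LK LD1_c14 LD2_c3 LD3_c11)) :=
  Lgr Lrot34 (Lpe (f451983 IH) (Lpe (K28.f451982 IH) (Lpr_ct (K28.f11385 IH) (Lpr_gf (K28.f451977 IH) (Lpe (K28.f451270 IH) (Lpe (K33.f463689 IH) (Lpe (K28.f121202 IH) (Lpr_ct (K28.f128077 IH) (Lpe (K35.f88243 IH) (Lpr_cf (f532272 IH) (Lpn (LP (LK LD1_c14 LD2_c3 LD3_c11)))))))))))))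
theorem f532304 : Led Lsl_ft (LP (LK LD1_c7 LD2_c54 LD3_c41)) = (LP (LK LD1_c7 LD2_c21 LD3_c12)) :=
  Lgr Lrot75 (Lpr_bf (f532296 IH) (Lpe (K41.f532269 IH) (Lpe (K41.f532093 IH) (Lpn (LP (LK LD1_c7 LD2_c21 LD3_c12))))))
theorem f532310 : Led Lsl_ff (LP (LK LD1_c7 LD2_c54 LD3_c41)) = (LP (LK LD1_c7 LD2_c21 LD3_c12)) :=
  Lgr Lrot3 (Lpr_ft (f532304 IH) (Lpn (LP (LK LD1_c7 LD2_c21 LD3_c12))))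
theorem f462265 : Led Lsl_dt (LP (LK LD1_c7 LD2_c54 LD3_c41)) = (LP (LK LD1_c14 LD2_c55 LD3_c22)) :=
  Lre_d IH (LK LD1_c7 LD2_c54 LD3_c41) (LK LD1_c14 LD2_c55 LD3_c22) Lrfl Lrfl
theorem f532312 : Led Lsl_ft (LP (LK LD1_c14 LD2_c55 LD3_c22)) = (LP (LK LD1_c13 LD2_c54 LD3_c7)) :=
  Lgr Lrot54 (Lpe (f462265 IH) (Lpr_ff (f532310 IH) (Lpe (K34.f462391 IH) (Lpn (LP (LK LD1_c13 LD2_c54 LD3_c7))))))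
theorem f122590 : Led Lsl_dt (LP (LK LD1_c13 LD2_c53 LD3_c14)) = (LP (LK LD1_c23 LD2_c23 LD3_c20)) :=
  Lre_d IH (LK LD1_c13 LD2_c53 LD3_c14) (LK LD1_c23 LD2_c23 LD3_c20) Lrfl Lrfl
theorem f532266 : Led Lsl_dt (LP (LK LD1_c23 LD2_c36 LD3_c12)) = (LP (LK LD1_c14 LD2_c3 LD3_c11)) :=
  Lre_d IH (LK LD1_c23 LD2_c36 LD3_c12) (LK LD1_c14 LD2_c3 LD3_c11) Lrfl Lrfl
theorem f532267 : Led Lsl_ft (LP (LK LD1_c23 LD2_c23 LD3_c20)) = (LP (LK LD1_c23 LD2_c36 LD3_c12)) :=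
  Lgr Lrot54 (Lpe (f122590 IH) (Lpr_ff (K35.f532264 IH) (Lpe (f532266 IH) (Lpn (LP (LK LD1_c23 LD2_c36 LD3_c12))))))
theorem f532316 : Led Lsl_bf (LP (LK LD1_c14 LD2_c55 LD3_c22)) = (LP (LK LD1_c23 LD2_c36 LD3_c12)) :=
  Lgr Lrot61 (Lpr_ft (f532312 IH) (Lpr_bt (K34.f532222 IH) (Lpr_ft (f532267 IH) (Lpn (LP (LK LD1_c23 LD2_c36 LD3_c12))))))
theorem f532279 : Led Lsl_at (LP (LK LD1_c14 LD2_c3 LD3_c12)) = (LP (LK LD1_c23 LD2_c36 LD3_c12)) :=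
  Lre_a IH (LK LD1_c14 LD2_c3 LD3_c12) (LK LD1_c23 LD2_c36 LD3_c12) Lrfl Lrfl
theorem f472008 : Led Lsl_bt (LP (LK LD1_c7 LD2_c26 LD3_c3)) = (LP (LK LD1_c14 LD2_c3 LD3_c12)) :=
  Lre_b IH (LK LD1_c7 LD2_c26 LD3_c3) (LK LD1_c14 LD2_c3 LD3_c12) Lrfl Lrfl
theorem f203921 : Led Lsl_dt (LP (LK LD1_c3 LD2_c40 LD3_c13)) = (LP (LK LD1_c7 LD2_c20 LD3_c39)) :=
  Lre_d IH (LK LD1_c3 LD2_c40 LD3_c13) (LK LD1_c7 LD2_c20 LD3_c39) Lrfl Lrfl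
theorem f531867 : Led Lsl_at (LP (LK LD1_c7 LD2_c20 LD3_c39)) = (LP (LK LD1_c7 LD2_c26 LD3_c3)) :=
  Lgr Lrot51 (Lpe (f203921 IH) (Lpr_af (K34.f531863 IH) (Lpe (K34.f203955 IH) (Lpn (LP (LK LD1_c7 LD2_c26 LD3_c3))))))
theorem f532321 : Led Lsl_at (LP (LK LD1_c14 LD2_c55 LD3_c22)) = (LP (LK LD1_c13 LD2_c53 LD3_c19)) :=
  Lgr Lrot67 (Lpr_bf (f532316 IH) (Lpe (f532279 IH) (Lpe (f472008 IH) (Lpe (f531867 IH) (Lpe (K34.f532078 IH) (Lpn (LP (LK LD1_c13 LD2_c53 LD3_c19))))))))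
theorem f462274 : Led Lsl_dt (LP (LK LD1_c14 LD2_c55 LD3_c22)) = (LP (LK LD1_c7 LD2_c54 LD3_c41)) :=
  Lre_d IH (LK LD1_c14 LD2_c55 LD3_c22) (LK LD1_c7 LD2_c54 LD3_c41) Lrfl Lrfl
theorem f532308 : Led Lsl_ff (LP (LK LD1_c14 LD2_c55 LD3_c22)) = (LP (LK LD1_c13 LD2_c54 LD3_c7)) :=
  Lgr Lrot19 (Lpr_dt (f462274 IH) (Lpr_ft (f532304 IH) (Lpr_dt (K34.f148752 IH) (Lpn (LP (LK LD1_c13 LD2_c54 LD3_c7))))))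
theorem f488741 : Led Lsl_gt (LP (LK LD1_c23 LD2_c23 LD3_c30)) = (LP (LK LD1_c13 LD2_c53 LD3_c19)) :=
  Lre_g IH (LK LD1_c23 LD2_c23 LD3_c30) (LK LD1_c13 LD2_c53 LD3_c19) Lrfl Lrfl
theorem f532325 : Led Lsl_gt (LP (LK LD1_c13 LD2_c54 LD3_c7)) = (LP (LK LD1_c23 LD2_c23 LD3_c30)) :=
  Lgr Lrot5 (Lpe (f532308 IH) (Lpr_at (f532321 IH) (Lpe (f488741 IH) (Lpn (LP (LK LD1_c23 LD2_c23 LD3_c30))))))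
theorem f532086 : Led Lsl_ft (LP (LK LD1_c13 LD2_c53 LD3_c19)) = (LP (LK LD1_c14 LD2_c3 LD3_c6)) :=
  Lgr Lrot48 (Lpr_ff (K34.f532079 IH) (Lpn (LP (LK LD1_c14 LD2_c3 LD3_c6))))
theorem f203923 : Led Lsl_ct (LP (LK LD1_c7 LD2_c20 LD3_c39)) = (LP (LK LD1_c13 LD2_c53 LD3_c20)) :=
  Lre_c IH (LK LD1_c7 LD2_c20 LD3_c39) (LK LD1_c13 LD2_c53 LD3_c20) Lrfl Lrfl
theorem f488751 : Led Lsl_bt (LP (LK LD1_c7 LD2_c20 LD3_c39)) = (LP (LK LD1_c13 LD2_c53 LD3_c19)) :=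
  Lre_b IH (LK LD1_c7 LD2_c20 LD3_c39) (LK LD1_c13 LD2_c53 LD3_c19) Lrfl Lrfl
theorem f488752 : Led Lsl_gf (LP (LK LD1_c22 LD2_c27 LD3_c6)) = (LP (LK LD1_c13 LD2_c53 LD3_c19)) :=
  Lgr Lrot124 (Lpe (K42.f462772 IH) (Lpe (K33.f462753 IH) (Lpr_gt (K33.f451261 IH) (Lpe (K32.f451755 IH) (Lpr_bt (K28.f451648 IH) (Lpr_gt (K34.f451661 IH) (Lpr_ct (K34.f462771 IH) (Lpr_gt (K34.f488749 IH) (Lpe (f203923 IH) (Lpr_bt (f488751 IH) (Lpn (LP (LK LD1_c13 LD2_c53 LD3_c19)))))))))))))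
theorem f532224 : Led Lsl_gf (LP (LK LD1_c13 LD2_c54 LD3_c7)) = (LP (LK LD1_c22 LD2_c27 LD3_c6)) :=
  Lgr Lrot76 (Lpr_af (K34.f532219 IH) (Lpe (f532086 IH) (Lpe (f488752 IH) (Lpn (LP (LK LD1_c22 LD2_c27 LD3_c6))))))
theorem f532327 : Led Lsl_at (LP (LK LD1_c14 LD2_c10 LD3_c8)) = (LP (LK LD1_c23 LD2_c23 LD3_c30)) :=
  Lgr Lrot26 (Lpe (K42.f529139 IH) (Lpe (f532224 IH) (Lpr_gt (f532325 IH) (Lpn (LP (LK LD1_c23 LD2_c23 LD3_c30))))))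
theorem f532333 : Led Lsl_df (LP (LK LD1_c14 LD2_c10 LD3_c2)) = (LP (LK LD1_c23 LD2_c23 LD3_c30)) :=
  Lgr Lrot18 (Lpr_at (K47.f488459 IH) (Lpr_dt (K42.f488489 IH) (Lpr_at (f532327 IH) (Lpn (LP (LK LD1_c23 LD2_c23 LD3_c30))))))
theorem f532335 : Led Lsl_dt (LP (LK LD1_c14 LD2_c10 LD3_c2)) = (LP (LK LD1_c23 LD2_c23 LD3_c30)) :=
  Lgr Lrot42 (Lpr_df (f532333 IH) (Lpn (LP (LK LD1_c23 LD2_c23 LD3_c30))))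
theorem f488471 : Led Lsl_et (LP (LK LD1_c14 LD2_c10 LD3_c2)) = (LP (LK LD1_c7 LD2_c30 LD3_c4)) :=
  Lre_e IH (LK LD1_c14 LD2_c10 LD3_c2) (LK LD1_c7 LD2_c30 LD3_c4) Lrfl Lrfl
theorem f532350 : Led Lsl_gt (LP (LK LD1_c7 LD2_c30 LD3_c4)) = (LP (LK LD1_c7 LD2_c21 LD3_c46)) :=
  Lgr Lrot131 (Lpe (f488471 IH) (Lpr_dt (f532335 IH) (Lpe (f532325 IH) (Lpe (K34.f148752 IH) (Lpe (K34.f148747 IH) (Lpe (K34.f148730 IH) (Lpr_dt (K7.f122728 IH) (Lpe (K34.f148744 IH) (Lpr_df (K34.f146801 IH) (Lpr_et (K4.f123554 IH) (Lpn (LP (LK LD1_c7 LD2_c21 LD3_c46)))))))))))))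
theorem f488473 : Led Lsl_et (LP (LK LD1_c22 LD2_c18 LD3_c34)) = (LP (LK LD1_c13 LD2_c6 LD3_c61)) :=
  Lre_e IH (LK LD1_c22 LD2_c18 LD3_c34) (LK LD1_c13 LD2_c6 LD3_c61) Lrfl Lrfl
theorem f488474 : Led Lsl_et (LP (LK LD1_c7 LD2_c30 LD3_c4)) = (LP (LK LD1_c14 LD2_c10 LD3_c2)) :=
  Lre_e IH (LK LD1_c7 LD2_c30 LD3_c4) (LK LD1_c14 LD2_c10 LD3_c2) Lrfl Lrfl
theorem f488475 : Led Lsl_ct (LP (LK LD1_c13 LD2_c6 LD3_c61)) = (LP (LK LD1_c7 LD2_c30 LD3_c4)) :=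
  Lgr Lrot15 (Lpe (f488473 IH) (Lpr_cf (K47.f488468 IH) (Lpe (f488474 IH) (Lpn (LP (LK LD1_c7 LD2_c30 LD3_c4))))))
theorem f532352 : Led Lsl_bt (LP (LK LD1_c13 LD2_c6 LD3_c61)) = (LP (LK LD1_c13 LD2_c18 LD3_c15)) :=
  Lgr Lrot92 (Lpr_ct (f488475 IH) (Lpr_gt (f532350 IH) (Lpr_cf (K47.f123538 IH) (Lpr_bt (K4.f115773 IH) (Lpr_gt (K29.f478300 IH) (Lpr_ct (K29.f441410 IH) (Lpe (K29.f441408 IH) (Lpe (K29.f440678 IH) (Lpr_bt (K29.f109615 IH) (Lpr_gt (f440685 IH) (Lpn (LP (LK LD1_c13 LD2_c18 LD3_c15)))))))))))))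
theorem f532355 : Led Lsl_bf (LP (LK LD1_c13 LD2_c6 LD3_c61)) = (LP (LK LD1_c13 LD2_c18 LD3_c15)) :=
  Lgr Lrot24 (Lpr_bt (f532352 IH) (Lpn (LP (LK LD1_c13 LD2_c18 LD3_c15))))
theorem f611556 : Led Lsl_ft (LP (LK LD1_c7 LD2_c0 LD3_c54)) = (LP (LK LD1_c13 LD2_c18 LD3_c15)) :=
  Lgr Lrot75 (Lpe (f109638 IH) (Lpr_ff (f611554 IH) (Lpr_bf (f532355 IH) (Lpn (LP (LK LD1_c13 LD2_c18 LD3_c15))))))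
theorem f109637 : Led Lsl_gt (LP (LK LD1_c7 LD2_c0 LD3_c54)) = (LP (LK LD1_c13 LD2_c18 LD3_c17)) :=
  Lre_g IH (LK LD1_c7 LD2_c0 LD3_c54) (LK LD1_c13 LD2_c18 LD3_c17) Lrfl Lrfl
theorem f109634 : Led Lsl_gt (LP (LK LD1_c13 LD2_c18 LD3_c17)) = (LP (LK LD1_c7 LD2_c0 LD3_c55)) :=
  Lre_g IH (LK LD1_c13 LD2_c18 LD3_c17) (LK LD1_c7 LD2_c0 LD3_c55) Lrfl Lrfl
theorem f611564 : Led Lsl_af (LP (LK LD1_c7 LD2_c0 LD3_c55)) = (LP (LK LD1_c13 LD2_c18 LD3_c15)) :=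
  Lgr Lrot31 (Lpe (f109634 IH) (Lpe (f109637 IH) (Lpr_ft (f611556 IH) (Lpn (LP (LK LD1_c13 LD2_c18 LD3_c15))))))
theorem f611566 : Led Lsl_at (LP (LK LD1_c7 LD2_c0 LD3_c55)) = (LP (LK LD1_c13 LD2_c18 LD3_c15)) :=
  Lgr Lrot100 (Lpr_af (f611564 IH) (Lpn (LP (LK LD1_c13 LD2_c18 LD3_c15))))
theorem f628198 : Led Lsl_ft (LP (LK LD1_c6 LD2_c54 LD3_c7)) = (LP (LK LD1_c7 LD2_c0 LD3_c55)) :=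
  Lgr Lrot2 (Lpr_gt (K47.f628194 IH) (Lpr_gt (f440685 IH) (Lpe (f611566 IH) (Lpn (LP (LK LD1_c7 LD2_c0 LD3_c55))))))
theorem f628339 : Led Lsl_ff (LP (LK LD1_c6 LD2_c54 LD3_c7)) = (LP (LK LD1_c7 LD2_c0 LD3_c55)) :=
  Lgr Lrot3 (Lpr_ft (f628198 IH) (Lpn (LP (LK LD1_c7 LD2_c0 LD3_c55))))
theorem f628342 : Led Lsl_at (LP (LK LD1_c6 LD2_c54 LD3_c7)) = (LP (LK LD1_c7 LD2_c0 LD3_c54)) :=
  Lgr Lrot66 (Lpr_ff (f628339 IH) (Lpr_af (f611564 IH) (Lpe (f611556 IH) (Lpn (LP (LK LD1_c7 LD2_c0 LD3_c54))))))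
theorem f628205 : Led Lsl_et (LP (LK LD1_c13 LD2_c6 LD3_c58)) = (LP (LK LD1_c6 LD2_c54 LD3_c7)) :=
  Lre_e IH (LK LD1_c13 LD2_c6 LD3_c58) (LK LD1_c6 LD2_c54 LD3_c7) Lrfl Lrfl
theorem f628359 : Led Lsl_af (LP (LK LD1_c13 LD2_c6 LD3_c58)) = (LP (LK LD1_c13 LD2_c18 LD3_c23)) :=
  Lgr Lrot50 (Lpr_et (f628205 IH) (Lpr_at (f628342 IH) (Lpr_et (K47.f158555 IH) (Lpn (LP (LK LD1_c13 LD2_c18 LD3_c23))))))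
theorem f529749 : Led Lsl_cf (LP (LK LD1_c14 LD2_c26 LD3_c33)) = (LP (LK LD1_c22 LD2_c54 LD3_c5)) :=
  Lgr Lrot14 (Lpe (K47.f481138 IH) (Lpe (K47.f481137 IH) (Lpe (K33.f110298 IH) (Lpe (K33.f157586 IH) (Lpr_ct (K33.f481126 IH) (Lpe (K33.f488815 IH) (Lpr_dt (K47.f155686 IH) (Lpr_gt (K47.f529745 IH) (Lpr_dt (K47.f480668 IH) (Lpn (LP (LK LD1_c22 LD2_c54 LD3_c5))))))))))))
theorem f529822 : Led Lsl_ft (LP (LK LD1_c14 LD2_c26 LD3_c33)) = (LP (LK LD1_c13 LD2_c18 LD3_c23)) :=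
  Lgr Lrot4 (Lpr_cf (f529749 IH) (Lpe (K47.f529734 IH) (Lpr_cf (f529818 IH) (Lpn (LP (LK LD1_c13 LD2_c18 LD3_c23))))))
theorem f529824 : Led Lsl_ff (LP (LK LD1_c7 LD2_c39 LD3_c49)) = (LP (LK LD1_c14 LD2_c26 LD3_c4)) :=
  Lgr Lrot19 (Lpr_dt (K47.f481138 IH) (Lpr_ft (f529822 IH) (Lpe (K47.f158551 IH) (Lpn (LP (LK LD1_c14 LD2_c26 LD3_c4))))))
theorem f137226 : Led Lsl_gt (LP (LK LD1_c7 LD2_c39 LD3_c32)) = (LP (LK LD1_c14 LD2_c26 LD3_c3)) :=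
  Lre_g IH (LK LD1_c7 LD2_c39 LD3_c32) (LK LD1_c14 LD2_c26 LD3_c3) Lrfl Lrfl
theorem f529833 : Led Lsl_at (LP (LK LD1_c7 LD2_c39 LD3_c49)) = (LP (LK LD1_c14 LD2_c26 LD3_c3)) :=
  Lgr Lrot26 (Lpr_ff (f529824 IH) (Lpr_gt (K47.f96870 IH) (Lpr_gt (f137226 IH) (Lpn (LP (LK LD1_c14 LD2_c26 LD3_c3))))))
theorem f529835 : Led Lsl_af (LP (LK LD1_c7 LD2_c39 LD3_c49)) = (LP (LK LD1_c14 LD2_c26 LD3_c3)) :=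
  Lgr Lrot0 (Lpr_at (f529833 IH) (Lpn (LP (LK LD1_c14 LD2_c26 LD3_c3))))
theorem f110299 : Led Lsl_gt (LP (LK LD1_c7 LD2_c39 LD3_c50)) = (LP (LK LD1_c3 LD2_c49 LD3_c28)) :=
  Lre_g IH (LK LD1_c7 LD2_c39 LD3_c50) (LK LD1_c3 LD2_c49 LD3_c28) Lrfl Lrfl
theorem f529848 : Led Lsl_ft (LP (LK LD1_c7 LD2_c39 LD3_c50)) = (LP (LK LD1_c14 LD2_c26 LD3_c3)) :=
  Lgr Lrot2 (Lpr_gt (f110299 IH) (Lpr_gt (K47.f481137 IH) (Lpr_af (f529835 IH) (Lpn (LP (LK LD1_c14 LD2_c26 LD3_c3))))))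
theorem f529854 : Led Lsl_ff (LP (LK LD1_c7 LD2_c39 LD3_c50)) = (LP (LK LD1_c14 LD2_c26 LD3_c3)) :=
  Lgr Lrot3 (Lpr_ft (f529848 IH) (Lpn (LP (LK LD1_c14 LD2_c26 LD3_c3))))
theorem f529856 : Led Lsl_at (LP (LK LD1_c7 LD2_c39 LD3_c50)) = (LP (LK LD1_c14 LD2_c26 LD3_c4)) :=
  Lgr Lrot66 (Lpr_ff (f529854 IH) (Lpe (f529833 IH) (Lpr_ff (f529824 IH) (Lpn (LP (LK LD1_c14 LD2_c26 LD3_c4))))))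
theorem f628365 : Led Lsl_dt (LP (LK LD1_c13 LD2_c6 LD3_c58)) = (LP (LK LD1_c7 LD2_c39 LD3_c50)) :=
  Lgr Lrot44 (Lpr_af (f628359 IH) (Lpe (K47.f158553 IH) (Lpe (f529856 IH) (Lpn (LP (LK LD1_c7 LD2_c39 LD3_c50))))))
theorem f628346 : Led Lsl_et (LP (LK LD1_c6 LD2_c54 LD3_c7)) = (LP (LK LD1_c13 LD2_c6 LD3_c58)) :=
  Lre_e IH (LK LD1_c6 LD2_c54 LD3_c7) (LK LD1_c13 LD2_c6 LD3_c58) Lrfl Lrfl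
theorem f628200 : Led Lsl_dt (LP (LK LD1_c13 LD2_c6 LD3_c57)) = (LP (LK LD1_c6 LD2_c54 LD3_c7)) :=
  Lre_d IH (LK LD1_c13 LD2_c6 LD3_c57) (LK LD1_c6 LD2_c54 LD3_c7) Lrfl Lrfl
theorem f628351 : Led Lsl_et (LP (LK LD1_c22 LD2_c18 LD3_c27)) = (LP (LK LD1_c13 LD2_c6 LD3_c57)) :=
  Lre_e IH (LK LD1_c22 LD2_c18 LD3_c27) (LK LD1_c13 LD2_c6 LD3_c57) Lrfl Lrfl
theorem f529859 : Led Lsl_et (LP (LK LD1_c7 LD2_c39 LD3_c50)) = (LP (LK LD1_c14 LD2_c26 LD3_c36)) :=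
  Lre_e IH (LK LD1_c7 LD2_c39 LD3_c50) (LK LD1_c14 LD2_c26 LD3_c36) Lrfl Lrfl
theorem f628376 : Led Lsl_df (LP (LK LD1_c22 LD2_c18 LD3_c27)) = (LP (LK LD1_c14 LD2_c26 LD3_c36)) :=
  Lgr Lrot70 (Lpr_et (f628351 IH) (Lpr_dt (f628200 IH) (Lpr_et (f628346 IH) (Lpr_dt (f628365 IH) (Lpr_et (f529859 IH) (Lpn (LP (LK LD1_c14 LD2_c26 LD3_c36))))))))
theorem f628380 : Led Lsl_dt (LP (LK LD1_c22 LD2_c18 LD3_c27)) = (LP (LK LD1_c14 LD2_c26 LD3_c36)) :=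
  Lgr Lrot42 (Lpr_df (f628376 IH) (Lpn (LP (LK LD1_c14 LD2_c26 LD3_c36))))
theorem f102562 : Led Lsl_bt (LP (LK LD1_c13 LD2_c6 LD3_c59)) = (LP (LK LD1_c22 LD2_c18 LD3_c27)) :=
  Lre_b IH (LK LD1_c13 LD2_c6 LD3_c59) (LK LD1_c22 LD2_c18 LD3_c27) Lrfl Lrfl
theorem f102549 : Led Lsl_et (LP (LK LD1_c6 LD2_c55 LD3_c1)) = (LP (LK LD1_c13 LD2_c8 LD3_c37)) :=
  Lre_e IH (LK LD1_c6 LD2_c55 LD3_c1) (LK LD1_c13 LD2_c8 LD3_c37) Lrfl Lrfl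
theorem f102550 : Led Lsl_et (LP (LK LD1_c3 LD2_c26 LD3_c7)) = (LP (LK LD1_c6 LD2_c54 LD3_c9)) :=
  Lre_e IH (LK LD1_c3 LD2_c26 LD3_c7) (LK LD1_c6 LD2_c54 LD3_c9) Lrfl Lrfl
theorem f102551 : Led Lsl_dt (LP (LK LD1_c6 LD2_c54 LD3_c8)) = (LP (LK LD1_c3 LD2_c26 LD3_c7)) :=
  Lre_d IH (LK LD1_c6 LD2_c54 LD3_c8) (LK LD1_c3 LD2_c26 LD3_c7) Lrfl Lrfl
theorem f102552 : Led Lsl_et (LP (LK LD1_c13 LD2_c6 LD3_c59)) = (LP (LK LD1_c6 LD2_c54 LD3_c8)) :=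
  Lre_e IH (LK LD1_c13 LD2_c6 LD3_c59) (LK LD1_c6 LD2_c54 LD3_c8) Lrfl Lrfl
theorem f102553 : Led Lsl_dt (LP (LK LD1_c13 LD2_c8 LD3_c37)) = (LP (LK LD1_c13 LD2_c6 LD3_c59)) :=
  Lgr Lrot77 (Lpe (f102549 IH) (Lpr_df (K35.f102540 IH) (Lpe (f102550 IH) (Lpe (f102551 IH) (Lpe (f102552 IH) (Lpn (LP (LK LD1_c13 LD2_c6 LD3_c59))))))))
theorem f628383 : Led Lsl_bf (LP (LK LD1_c13 LD2_c8 LD3_c37)) = (LP (LK LD1_c14 LD2_c26 LD3_c36)) :=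
  Lgr Lrot93 (Lpr_dt (f102553 IH) (Lpr_bt (f102562 IH) (Lpr_dt (f628380 IH) (Lpn (LP (LK LD1_c14 LD2_c26 LD3_c36))))))
theorem f102575 : Led Lsl_et (LP (LK LD1_c13 LD2_c8 LD3_c37)) = (LP (LK LD1_c6 LD2_c55 LD3_c1)) :=
  Lre_e IH (LK LD1_c13 LD2_c8 LD3_c37) (LK LD1_c6 LD2_c55 LD3_c1) Lrfl Lrfl
theorem f628385 : Led Lsl_bt (LP (LK LD1_c6 LD2_c55 LD3_c1)) = (LP (LK LD1_c7 LD2_c39 LD3_c50)) :=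
  Lgr Lrot119 (Lpe (f102575 IH) (Lpr_bf (f628383 IH) (Lpe (f529859 IH) (Lpn (LP (LK LD1_c7 LD2_c39 LD3_c50))))))
theorem f102546 : Led Lsl_ct (LP (LK LD1_c6 LD2_c55 LD3_c1)) = (LP (LK LD1_c13 LD2_c8 LD3_c36)) :=
  Lre_c IH (LK LD1_c6 LD2_c55 LD3_c1) (LK LD1_c13 LD2_c8 LD3_c36) Lrfl Lrfl
theorem f90018 : Led Lsl_dt (LP (LK LD1_c3 LD2_c48 LD3_c15)) = (LP (LK LD1_c1 LD2_c51 LD3_c8)) :=
  Lre_d IH (LK LD1_c3 LD2_c48 LD3_c15) (LK LD1_c1 LD2_c51 LD3_c8) Lrfl Lrfl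
theorem f89875 : Led Lsl_ct (LP (LK LD1_c7 LD2_c37 LD3_c35)) = (LP (LK LD1_c3 LD2_c48 LD3_c15)) :=
  Lre_c IH (LK LD1_c7 LD2_c37 LD3_c35) (LK LD1_c3 LD2_c48 LD3_c15) Lrfl Lrfl
theorem f485555 : Led Lsl_gt (LP (LK LD1_c13 LD2_c8 LD3_c36)) = (LP (LK LD1_c7 LD2_c37 LD3_c35)) :=
  Lgr Lrot150 (Lpe (f102546 IH) (Lpr_gf (K35.f485553 IH) (Lpe (K33.f478874 IH) (Lpe (K33.f484239 IH) (Lpr_ct (K33.f481713 IH) (Lpr_gt (K24.f84664 IH) (Lpr_ct (K28.f89868 IH) (Lpe (f90018 IH) (Lpe (f89875 IH) (Lpn (LP (LK LD1_c7 LD2_c37 LD3_c35))))))))))))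
theorem f89874 : Led Lsl_ct (LP (LK LD1_c3 LD2_c27 LD3_c7)) = (LP (LK LD1_c6 LD2_c56 LD3_c11)) :=
  Lre_c IH (LK LD1_c3 LD2_c27 LD3_c7) (LK LD1_c6 LD2_c56 LD3_c11) Lrfl Lrfl
theorem f89876 : Led Lsl_at (LP (LK LD1_c6 LD2_c56 LD3_c11)) = (LP (LK LD1_c7 LD2_c37 LD3_c35)) :=
  Lgr Lrot107 (Lpe (f89874 IH) (Lpr_af (K3.f89863 IH) (Lpe (f89875 IH) (Lpn (LP (LK LD1_c7 LD2_c37 LD3_c35))))))
theorem f90014 : Led Lsl_ft (LP (LK LD1_c13 LD2_c10 LD3_c26)) = (LP (LK LD1_c6 LD2_c56 LD3_c11)) :=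
  Lre_f IH (LK LD1_c13 LD2_c10 LD3_c26) (LK LD1_c6 LD2_c56 LD3_c11) Lrfl Lrfl
theorem f485557 : Led Lsl_gf (LP (LK LD1_c13 LD2_c8 LD3_c36)) = (LP (LK LD1_c13 LD2_c10 LD3_c26)) :=
  Lgr Lrot47 (Lpr_gt (f485555 IH) (Lpe (f89876 IH) (Lpe (f90014 IH) (Lpn (LP (LK LD1_c13 LD2_c10 LD3_c26))))))
theorem f456741 : Led Lsl_dt (LP (LK LD1_c3 LD2_c35 LD3_c0)) = (LP (LK LD1_c7 LD2_c11 LD3_c9)) :=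
  Lre_d IH (LK LD1_c3 LD2_c35 LD3_c0) (LK LD1_c7 LD2_c11 LD3_c9) Lrfl Lrfl
theorem f467269 : Led Lsl_ff (LP (LK LD1_c3 LD2_c48 LD3_c15)) = (LP (LK LD1_c7 LD2_c11 LD3_c9)) :=
  Lgr Lrot19 (Lpr_dt (f90018 IH) (Lpr_ft (K29.f467243 IH) (Lpr_dt (f456741 IH) (Lpn (LP (LK LD1_c7 LD2_c11 LD3_c9))))))
theorem f89987 : Led Lsl_ct (LP (LK LD1_c3 LD2_c48 LD3_c15)) = (LP (LK LD1_c7 LD2_c37 LD3_c35)) :=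
  Lre_c IH (LK LD1_c3 LD2_c48 LD3_c15) (LK LD1_c7 LD2_c37 LD3_c35) Lrfl Lrfl
theorem f467234 : Led Lsl_ct (LP (LK LD1_c13 LD2_c36 LD3_c50)) = (LP (LK LD1_c7 LD2_c11 LD3_c9)) :=
  Lre_c IH (LK LD1_c13 LD2_c36 LD3_c50) (LK LD1_c7 LD2_c11 LD3_c9) Lrfl Lrfl
theorem f467290 : Led Lsl_ft (LP (LK LD1_c7 LD2_c37 LD3_c35)) = (LP (LK LD1_c13 LD2_c36 LD3_c50)) :=
  Lgr Lrot4 (Lpe (f89987 IH) (Lpr_ff (f467269 IH) (Lpe (f467234 IH) (Lpn (LP (LK LD1_c13 LD2_c36 LD3_c50))))))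
theorem f467295 : Led Lsl_ff (LP (LK LD1_c7 LD2_c37 LD3_c35)) = (LP (LK LD1_c13 LD2_c36 LD3_c50)) :=
  Lgr Lrot3 (Lpr_ft (f467290 IH) (Lpn (LP (LK LD1_c13 LD2_c36 LD3_c50))))
theorem f89905 : Led Lsl_ct (LP (LK LD1_c13 LD2_c10 LD3_c20)) = (LP (LK LD1_c22 LD2_c22 LD3_c58)) :=
  Lre_c IH (LK LD1_c13 LD2_c10 LD3_c20) (LK LD1_c22 LD2_c22 LD3_c58) Lrfl Lrfl
theorem f89917 : Led Lsl_ct (LP (LK LD1_c24 LD2_c0 LD3_c41)) = (LP (LK LD1_c14 LD2_c22 LD3_c33)) :=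
  Lre_c IH (LK LD1_c24 LD2_c0 LD3_c41) (LK LD1_c14 LD2_c22 LD3_c33) Lrfl Lrfl
theorem f89918 : Led Lsl_at (LP (LK LD1_c22 LD2_c22 LD3_c58)) = (LP (LK LD1_c24 LD2_c0 LD3_c41)) :=
  Lgr Lrot107 (Lpe (f89905 IH) (Lpr_af (K3.f89897 IH) (Lpe (f89917 IH) (Lpn (LP (LK LD1_c24 LD2_c0 LD3_c41))))))
theorem f89969 : Led Lsl_af (LP (LK LD1_c22 LD2_c22 LD3_c58)) = (LP (LK LD1_c24 LD2_c0 LD3_c41)) :=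
  Lgr Lrot0 (Lpr_at (f89918 IH) (Lpn (LP (LK LD1_c24 LD2_c0 LD3_c41))))
theorem f89974 : Led Lsl_ft (LP (LK LD1_c22 LD2_c22 LD3_c58)) = (LP (LK LD1_c13 LD2_c10 LD3_c19)) :=
  Lre_f IH (LK LD1_c22 LD2_c22 LD3_c58) (LK LD1_c13 LD2_c10 LD3_c19) Lrfl Lrfl
theorem f89975 : Led Lsl_ft (LP (LK LD1_c14 LD2_c22 LD3_c32)) = (LP (LK LD1_c24 LD2_c0 LD3_c41)) :=
  Lre_f IH (LK LD1_c14 LD2_c22 LD3_c32) (LK LD1_c24 LD2_c0 LD3_c41) Lrfl Lrfl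
theorem f89976 : Led Lsl_at (LP (LK LD1_c13 LD2_c10 LD3_c19)) = (LP (LK LD1_c14 LD2_c22 LD3_c32)) :=
  Lgr Lrot66 (Lpe (f89974 IH) (Lpr_af (f89969 IH) (Lpe (f89975 IH) (Lpn (LP (LK LD1_c14 LD2_c22 LD3_c32))))))
theorem f89982 : Led Lsl_et (LP (LK LD1_c6 LD2_c56 LD3_c11)) = (LP (LK LD1_c13 LD2_c10 LD3_c19)) :=
  Lre_e IH (LK LD1_c6 LD2_c56 LD3_c11) (LK LD1_c13 LD2_c10 LD3_c19) Lrfl Lrfl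
theorem f89983 : Led Lsl_et (LP (LK LD1_c14 LD2_c22 LD3_c32)) = (LP (LK LD1_c7 LD2_c37 LD3_c35)) :=
  Lre_e IH (LK LD1_c14 LD2_c22 LD3_c32) (LK LD1_c7 LD2_c37 LD3_c35) Lrfl Lrfl
theorem f89984 : Led Lsl_af (LP (LK LD1_c6 LD2_c56 LD3_c11)) = (LP (LK LD1_c7 LD2_c37 LD3_c35)) :=
  Lgr Lrot50 (Lpr_et (f89982 IH) (Lpr_at (f89976 IH) (Lpr_et (f89983 IH) (Lpn (LP (LK LD1_c7 LD2_c37 LD3_c35))))))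
theorem f89988 : Led Lsl_ft (LP (LK LD1_c6 LD2_c56 LD3_c11)) = (LP (LK LD1_c13 LD2_c10 LD3_c26)) :=
  Lre_f IH (LK LD1_c6 LD2_c56 LD3_c11) (LK LD1_c13 LD2_c10 LD3_c26) Lrfl Lrfl
theorem f467297 : Led Lsl_at (LP (LK LD1_c13 LD2_c10 LD3_c26)) = (LP (LK LD1_c13 LD2_c36 LD3_c50)) :=
  Lgr Lrot66 (Lpe (f89988 IH) (Lpr_af (f89984 IH) (Lpr_ff (f467295 IH) (Lpn (LP (LK LD1_c13 LD2_c36 LD3_c50))))))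
theorem f467306 : Led Lsl_af (LP (LK LD1_c6 LD2_c56 LD3_c12)) = (LP (LK LD1_c7 LD2_c11 LD3_c9)) :=
  Lgr Lrot68 (Lpr_ct (K47.f89867 IH) (Lpr_at (f467297 IH) (Lpr_ct (f467234 IH) (Lpn (LP (LK LD1_c7 LD2_c11 LD3_c9))))))
theorem f456742 : Led Lsl_dt (LP (LK LD1_c7 LD2_c11 LD3_c9)) = (LP (LK LD1_c3 LD2_c35 LD3_c0)) :=
  Lre_d IH (LK LD1_c7 LD2_c11 LD3_c9) (LK LD1_c3 LD2_c35 LD3_c0) Lrfl Lrfl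
theorem f467239 : Led Lsl_ft (LP (LK LD1_c3 LD2_c48 LD3_c15)) = (LP (LK LD1_c7 LD2_c11 LD3_c9)) :=
  Lgr Lrot54 (Lpe (K3.f11859 IH) (Lpr_ff (K29.f467232 IH) (Lpe (f456742 IH) (Lpn (LP (LK LD1_c7 LD2_c11 LD3_c9))))))
theorem f14658 : Led Lsl_gt (LP (LK LD1_c3 LD2_c48 LD3_c15)) = (LP (LK LD1_c7 LD2_c37 LD3_c33)) :=
  Lre_g IH (LK LD1_c3 LD2_c48 LD3_c15) (LK LD1_c7 LD2_c37 LD3_c33) Lrfl Lrfl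
theorem f467340 : Led Lsl_gf (LP (LK LD1_c6 LD2_c56 LD3_c12)) = (LP (LK LD1_c7 LD2_c37 LD3_c33)) :=
  Lgr Lrot76 (Lpr_af (f467306 IH) (Lpe (f467239 IH) (Lpr_gt (f14658 IH) (Lpn (LP (LK LD1_c7 LD2_c37 LD3_c33))))))
theorem f125893 : Led Lsl_dt (LP (LK LD1_c3 LD2_c26 LD3_c36)) = (LP (LK LD1_c6 LD2_c55 LD3_c3)) :=
  Lre_d IH (LK LD1_c3 LD2_c26 LD3_c36) (LK LD1_c6 LD2_c55 LD3_c3) Lrfl Lrfl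
theorem f125996 : Led Lsl_ct (LP (LK LD1_c13 LD2_c8 LD3_c39)) = (LP (LK LD1_c6 LD2_c55 LD3_c3)) :=
  Lre_c IH (LK LD1_c13 LD2_c8 LD3_c39) (LK LD1_c6 LD2_c55 LD3_c3) Lrfl Lrfl
theorem f467343 : Led Lsl_ct (LP (LK LD1_c7 LD2_c37 LD3_c33)) = (LP (LK LD1_c14 LD2_c22 LD3_c34)) :=
  Lre_c IH (LK LD1_c7 LD2_c37 LD3_c33) (LK LD1_c14 LD2_c22 LD3_c34) Lrfl Lrfl
theorem f487299 : Led Lsl_gf (LP (LK LD1_c13 LD2_c8 LD3_c39)) = (LP (LK LD1_c14 LD2_c22 LD3_c34)) :=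
  Lgr Lrot104 (Lpr_ct (f125996 IH) (Lpe (f125893 IH) (Lpe (K4.f15127 IH) (Lpqs (K29.f481858 IH) (Lpe (K29.f455886 IH) (Lpe (K29.f10164 IH) (Lpr_gf (K28.f467907 IH) (Lpe (f90018 IH) (Lpr_gt (f14658 IH) (Lpr_ct (f467343 IH) (Lpn (LP (LK LD1_c14 LD2_c22 LD3_c34)))))))))))))
theorem f125894 : Led Lsl_ct (LP (LK LD1_c6 LD2_c55 LD3_c3)) = (LP (LK LD1_c13 LD2_c8 LD3_c39)) :=
  Lre_c IH (LK LD1_c6 LD2_c55 LD3_c3) (LK LD1_c13 LD2_c8 LD3_c39) Lrfl Lrfl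
theorem f484499 : Led Lsl_bt (LP (LK LD1_c6 LD2_c55 LD3_c3)) = (LP (LK LD1_c13 LD2_c8 LD3_c15)) :=
  Lre_b IH (LK LD1_c6 LD2_c55 LD3_c3) (LK LD1_c13 LD2_c8 LD3_c15) Lrfl Lrfl
theorem f476831 : Led Lsl_gt (LP (LK LD1_c13 LD2_c8 LD3_c15)) = (LP (LK LD1_c22 LD2_c20 LD3_c1)) :=
  Lre_g IH (LK LD1_c13 LD2_c8 LD3_c15) (LK LD1_c22 LD2_c20 LD3_c1) Lrfl Lrfl
theorem f486178 : Led Lsl_at (LP (LK LD1_c14 LD2_c19 LD3_c26)) = (LP (LK LD1_c14 LD2_c47 LD3_c0)) :=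
  Lgr Lrot66 (Lpe (K33.f425720 IH) (Lpe (K33.f162088 IH) (Lpr_ff (K33.f486176 IH) (Lpn (LP (LK LD1_c14 LD2_c47 LD3_c0))))))
theorem f126499 : Led Lsl_gt (LP (LK LD1_c7 LD2_c35 LD3_c54)) = (LP (LK LD1_c14 LD2_c19 LD3_c23)) :=
  Lre_g IH (LK LD1_c7 LD2_c35 LD3_c54) (LK LD1_c14 LD2_c19 LD3_c23) Lrfl Lrfl
theorem f486183 : Led Lsl_gt (LP (LK LD1_c14 LD2_c19 LD3_c23)) = (LP (LK LD1_c14 LD2_c47 LD3_c0)) :=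
  Lgr Lrot46 (Lpe (f126499 IH) (Lpr_ft (K33.f425720 IH) (Lpr_at (f486178 IH) (Lpn (LP (LK LD1_c14 LD2_c47 LD3_c0))))))
theorem f486174 : Led Lsl_bf (LP (LK LD1_c7 LD2_c52 LD3_c18)) = (LP (LK LD1_c7 LD2_c50 LD3_c14)) :=
  Lgr Lrot61 (Lpr_ft (K33.f485450 IH) (Lpe (K33.f162032 IH) (Lpr_ft (K33.f486170 IH) (Lpn (LP (LK LD1_c7 LD2_c50 LD3_c14))))))
theorem f486187 : Led Lsl_cf (LP (LK LD1_c14 LD2_c19 LD3_c23)) = (LP (LK LD1_c13 LD2_c8 LD3_c53)) :=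
  Lgr Lrot125 (Lpr_gt (f486183 IH) (Lpe (K33.f486157 IH) (Lpe (f486174 IH) (Lpr_gt (K33.f472687 IH) (Lpe (K33.f478260 IH) (Lpe (K33.f478263 IH) (Lpr_gt (K29.f91710 IH) (Lpe (K29.f132190 IH) (Lpr_bt (K33.f132196 IH) (Lpr_gt (K33.f155727 IH) (Lpn (LP (LK LD1_c13 LD2_c8 LD3_c53)))))))))))))
theorem f486191 : Led Lsl_ct (LP (LK LD1_c14 LD2_c19 LD3_c23)) = (LP (LK LD1_c13 LD2_c8 LD3_c53)) :=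
  Lgr Lrot59 (Lpr_cf (f486187 IH) (Lpn (LP (LK LD1_c13 LD2_c8 LD3_c53))))
theorem f123188 : Led Lsl_ct (LP (LK LD1_c7 LD2_c49 LD3_c23)) = (LP (LK LD1_c14 LD2_c45 LD3_c40)) :=
  Lre_c IH (LK LD1_c7 LD2_c49 LD3_c23) (LK LD1_c14 LD2_c45 LD3_c40) Lrfl Lrfl
theorem f117314 : Led Lsl_ct (LP (LK LD1_c7 LD2_c40 LD3_c60)) = (LP (LK LD1_c14 LD2_c28 LD3_c60)) :=
  Lre_c IH (LK LD1_c7 LD2_c40 LD3_c60) (LK LD1_c14 LD2_c28 LD3_c60) Lrfl Lrfl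
theorem f486189 : Led Lsl_bt (LP (LK LD1_c14 LD2_c19 LD3_c23)) = (LP (LK LD1_c7 LD2_c40 LD3_c60)) :=
  Lgr Lrot128 (Lpr_cf (f486187 IH) (Lpr_bf (K33.f478622 IH) (Lpe (f123188 IH) (Lpe (K29.f481797 IH) (Lpe (f117314 IH) (Lpn (LP (LK LD1_c7 LD2_c40 LD3_c60))))))))
theorem f15233 : Led Lsl_gt (LP (LK LD1_c13 LD2_c8 LD3_c2)) = (LP (LK LD1_c6 LD2_c54 LD3_c48)) :=
  Lre_g IH (LK LD1_c13 LD2_c8 LD3_c2) (LK LD1_c6 LD2_c54 LD3_c48) Lrfl Lrfl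
theorem f12320 : Led Lsl_gt (LP (LK LD1_c7 LD2_c42 LD3_c5)) = (LP (LK LD1_c3 LD2_c50 LD3_c31)) :=
  Lre_g IH (LK LD1_c7 LD2_c42 LD3_c5) (LK LD1_c3 LD2_c50 LD3_c31) Lrfl Lrfl
theorem f476990 : Led Lsl_gf (LP (LK LD1_c7 LD2_c42 LD3_c5)) = (LP (LK LD1_c13 LD2_c45 LD3_c39)) :=
  Lgr Lrot47 (Lpr_gt (f12320 IH) (Lpe (K29.f12225 IH) (Lpr_ff (K37.f476972 IH) (Lpn (LP (LK LD1_c13 LD2_c45 LD3_c39))))))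
theorem f486195 : Led Lsl_cf (LP (LK LD1_c13 LD2_c8 LD3_c2)) = (LP (LK LD1_c7 LD2_c42 LD3_c5)) :=
  Lgr Lrot125 (Lpr_gt (f15233 IH) (Lpr_cf (K8.f15215 IH) (Lpe (K4.f117302 IH) (Lpr_gt (K29.f117155 IH) (Lpe (f486189 IH) (Lpr_ct (f486191 IH) (Lpr_gt (K33.f484811 IH) (Lpe (K33.f484821 IH) (Lpe (K37.f484859 IH) (Lpe (f476990 IH) (Lpn (LP (LK LD1_c7 LD2_c42 LD3_c5)))))))))))))
theorem f486197 : Led Lsl_ct (LP (LK LD1_c13 LD2_c8 LD3_c2)) = (LP (LK LD1_c7 LD2_c42 LD3_c5)) :=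
  Lgr Lrot59 (Lpr_cf (f486195 IH) (Lpn (LP (LK LD1_c7 LD2_c42 LD3_c5))))
theorem f15151 : Led Lsl_gt (LP (LK LD1_c6 LD2_c54 LD3_c52)) = (LP (LK LD1_c13 LD2_c8 LD3_c2)) :=
  Lre_g IH (LK LD1_c6 LD2_c54 LD3_c52) (LK LD1_c13 LD2_c8 LD3_c2) Lrfl Lrfl
theorem f15226 : Led Lsl_dt (LP (LK LD1_c6 LD2_c54 LD3_c52)) = (LP (LK LD1_c13 LD2_c8 LD3_c15)) :=
  Lre_d IH (LK LD1_c6 LD2_c54 LD3_c52) (LK LD1_c13 LD2_c8 LD3_c15) Lrfl Lrfl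
theorem f12234 : Led Lsl_dt (LP (LK LD1_c3 LD2_c50 LD3_c37)) = (LP (LK LD1_c1 LD2_c52 LD3_c11)) :=
  Lre_d IH (LK LD1_c3 LD2_c50 LD3_c37) (LK LD1_c1 LD2_c52 LD3_c11) Lrfl Lrfl
theorem f476978 : Led Lsl_ct (LP (LK LD1_c7 LD2_c42 LD3_c21)) = (LP (LK LD1_c3 LD2_c50 LD3_c37)) :=
  Lre_c IH (LK LD1_c7 LD2_c42 LD3_c21) (LK LD1_c3 LD2_c50 LD3_c37) Lrfl Lrfl
theorem f486199 : Led Lsl_gt (LP (LK LD1_c14 LD2_c31 LD3_c26)) = (LP (LK LD1_c7 LD2_c42 LD3_c21)) :=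
  Lre_g IH (LK LD1_c14 LD2_c31 LD3_c26) (LK LD1_c7 LD2_c42 LD3_c21) Lrfl Lrfl
theorem f486200 : Led Lsl_ct (LP (LK LD1_c22 LD2_c20 LD3_c1)) = (LP (LK LD1_c14 LD2_c31 LD3_c26)) :=
  Lgr Lrot152 (Lpe (f476831 IH) (Lpe (f15226 IH) (Lpr_gt (f15151 IH) (Lpr_ct (f486197 IH) (Lpr_gt (f12320 IH) (Lpr_ct (K33.f12239 IH) (Lpe (f12234 IH) (Lpe (f476978 IH) (Lpe (f486199 IH) (Lpn (LP (LK LD1_c14 LD2_c31 LD3_c26))))))))))))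
theorem f476963 : Led Lsl_ct (LP (LK LD1_c3 LD2_c50 LD3_c37)) = (LP (LK LD1_c7 LD2_c42 LD3_c21)) :=
  Lre_c IH (LK LD1_c3 LD2_c50 LD3_c37) (LK LD1_c7 LD2_c42 LD3_c21) Lrfl Lrfl
theorem f136831 : Led Lsl_bt (LP (LK LD1_c3 LD2_c50 LD3_c37)) = (LP (LK LD1_c1 LD2_c52 LD3_c14)) :=
  Lre_b IH (LK LD1_c3 LD2_c50 LD3_c37) (LK LD1_c1 LD2_c52 LD3_c14) Lrfl Lrfl
theorem f64958 : Led Lsl_gt (LP (LK LD1_c1 LD2_c52 LD3_c14)) = (LP (LK LD1_c3 LD2_c50 LD3_c43)) :=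
  Lre_g IH (LK LD1_c1 LD2_c52 LD3_c14) (LK LD1_c3 LD2_c50 LD3_c43) Lrfl Lrfl
theorem f487315 : Led Lsl_bf (LP (LK LD1_c3 LD2_c50 LD3_c43)) = (LP (LK LD1_c7 LD2_c37 LD3_c33)) :=
  Lgr Lrot34 (Lpe (f64958 IH) (Lpe (f136831 IH) (Lpr_ct (f476963 IH) (Lpe (f486199 IH) (Lpe (f486200 IH) (Lpe (f476831 IH) (Lpe (f484499 IH) (Lpr_ct (f125894 IH) (Lpr_gf (f487299 IH) (Lpe (f467343 IH) (Lpn (LP (LK LD1_c7 LD2_c37 LD3_c33)))))))))))))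
theorem f487317 : Led Lsl_bt (LP (LK LD1_c3 LD2_c50 LD3_c43)) = (LP (LK LD1_c7 LD2_c37 LD3_c33)) :=
  Lgr Lrot127 (Lpr_bf (f487315 IH) (Lpn (LP (LK LD1_c7 LD2_c37 LD3_c33))))
theorem f89229 : Led Lsl_bt (LP (LK LD1_c1 LD2_c51 LD3_c49)) = (LP (LK LD1_c3 LD2_c49 LD3_c28)) :=
  Lre_b IH (LK LD1_c1 LD2_c51 LD3_c49) (LK LD1_c3 LD2_c49 LD3_c28) Lrfl Lrfl
theorem f628387 : Led Lsl_ct (LP (LK LD1_c3 LD2_c50 LD3_c43)) = (LP (LK LD1_c7 LD2_c40 LD3_c20)) :=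
  Lgr Lrot10 (Lpr_bt (f487317 IH) (Lpe (f467340 IH) (Lpr_ct (K47.f89867 IH) (Lpe (f485557 IH) (Lpe (f102546 IH) (Lpr_bt (f628385 IH) (Lpr_gt (f110299 IH) (Lpe (f89229 IH) (Lpr_ct (f87969 IH) (Lpr_gt (f87970 IH) (Lpn (LP (LK LD1_c7 LD2_c40 LD3_c20)))))))))))))
theorem f628390 : Led Lsl_cf (LP (LK LD1_c3 LD2_c50 LD3_c43)) = (LP (LK LD1_c7 LD2_c40 LD3_c20)) :=
  Lgr Lrot11 (Lpr_ct (f628387 IH) (Lpn (LP (LK LD1_c7 LD2_c40 LD3_c20))))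
theorem f661999 : Led Lsl_df (LP (LK LD1_c3 LD2_c50 LD3_c43)) = v7197 :=
  Lgr Lrot162 (Lpr_cf (f628390 IH) (Lpe (f87970 IH) (Lpe (f87969 IH) (Lpe (K5.f87939 IH) (Lpe (f87951 IH) (Lpr_gt (f477347 IH) (Lpr_ct (K47.f461840 IH) (Lpr_gt (f527225 IH) (Lpr_ct (f661982 IH) (Lpn v7197))))))))))
theorem f518087 : Led Lsl_dt (LP (LK LD1_c7 LD2_c40 LD3_c20)) = (LP (LK LD1_c14 LD2_c27 LD3_c54)) :=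
  Lre_d IH (LK LD1_c7 LD2_c40 LD3_c20) (LK LD1_c14 LD2_c27 LD3_c54) Lrfl Lrfl
theorem f145421 : Led Lsl_bt (LP (LK LD1_c1 LD2_c54 LD3_c25)) = (LP (LK LD1_c0 LD2_c53 LD3_c49)) :=
  Lre_b IH (LK LD1_c1 LD2_c54 LD3_c25) (LK LD1_c0 LD2_c53 LD3_c49) Lrfl Lrfl
theorem f487770 : Led Lsl_ft (LP (LK LD1_c1 LD2_c51 LD3_c53)) = (LP (LK LD1_c1 LD2_c54 LD3_c25)) :=
  Lgr Lrot75 (Lpr_bf (K29.f487766 IH) (Lpr_ff (K30.f457358 IH) (Lpe (f145421 IH) (Lpn (LP (LK LD1_c1 LD2_c54 LD3_c25))))))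
theorem f487774 : Led Lsl_ff (LP (LK LD1_c1 LD2_c51 LD3_c53)) = (LP (LK LD1_c1 LD2_c54 LD3_c25)) :=
  Lgr Lrot3 (Lpr_ft (f487770 IH) (Lpn (LP (LK LD1_c1 LD2_c54 LD3_c25))))
theorem f527222 : Led Lsl_dt (LP (LK LD1_c1 LD2_c51 LD3_c53)) = K47.v2535 :=
  Lgr Lrot60 (Lpr_ff (f487774 IH) (Lpe (K29.f457177 IH) (Lpr_ff (K47.f527220 IH) (Lpn K47.v2535))))
theorem f467603 : Led Lsl_ct (LP (LK LD1_c3 LD2_c49 LD3_c47)) = (LP (LK LD1_c1 LD2_c51 LD3_c53)) :=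
  Lre_c IH (LK LD1_c3 LD2_c49 LD3_c47) (LK LD1_c1 LD2_c51 LD3_c53) Lrfl Lrfl
theorem f487778 : Led Lsl_dt (LP (LK LD1_c7 LD2_c40 LD3_c28)) = (LP (LK LD1_c3 LD2_c49 LD3_c47)) :=
  Lre_d IH (LK LD1_c7 LD2_c40 LD3_c28) (LK LD1_c3 LD2_c49 LD3_c47) Lrfl Lrfl
theorem f162300 : Led Lsl_ft (LP (LK LD1_c14 LD2_c19 LD3_c49)) = (LP (LK LD1_c7 LD2_c36 LD3_c2)) :=
  Lre_f IH (LK LD1_c14 LD2_c19 LD3_c49) (LK LD1_c7 LD2_c36 LD3_c2) Lrfl Lrfl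
theorem f611474 : Led Lsl_gt (LP (LK LD1_c14 LD2_c19 LD3_c49)) = (LP (LK LD1_c7 LD2_c42 LD3_c33)) :=
  Lgr Lrot5 (Lpr_ft (f162300 IH) (Lpe (K8.f162288 IH) (Lpr_gf (K47.f611472 IH) (Lpn (LP (LK LD1_c7 LD2_c42 LD3_c33))))))
theorem f489136 : Led Lsl_bt (LP (LK LD1_c23 LD2_c57 LD3_c42)) = (LP (LK LD1_c14 LD2_c19 LD3_c49)) :=
  Lre_b IH (LK LD1_c23 LD2_c57 LD3_c42) (LK LD1_c14 LD2_c19 LD3_c49) Lrfl Lrfl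
theorem f442239 : Led Lsl_gt (LP (LK LD1_c7 LD2_c40 LD3_c21)) = (LP (LK LD1_c3 LD2_c49 LD3_c42)) :=
  Lre_g IH (LK LD1_c7 LD2_c40 LD3_c21) (LK LD1_c3 LD2_c49 LD3_c42) Lrfl Lrfl
theorem f478321 : Led Lsl_bt (LP (LK LD1_c3 LD2_c50 LD3_c44)) = (LP (LK LD1_c7 LD2_c42 LD3_c33)) :=
  Lre_b IH (LK LD1_c3 LD2_c50 LD3_c44) (LK LD1_c7 LD2_c42 LD3_c33) Lrfl Lrfl
theorem f611675 : Led Lsl_cf (LP (LK LD1_c7 LD2_c40 LD3_c21)) = (LP (LK LD1_c3 LD2_c50 LD3_c44)) :=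
  Lgr Lrot160 (Lpr_gt (f442239 IH) (Lpe (f87969 IH) (Lpr_bt (f89229 IH) (Lpr_gt (K47.f481137 IH) (Lpr_ct (K47.f524682 IH) (Lpr_gt (K47.f524683 IH) (Lpe (K47.f524687 IH) (Lpr_bt (f489136 IH) (Lpr_gt (f611474 IH) (Lpe (f478321 IH) (Lpn (LP (LK LD1_c3 LD2_c50 LD3_c44)))))))))))))
theorem f611682 : Led Lsl_dt (LP (LK LD1_c7 LD2_c40 LD3_c21)) = (LP (LK LD1_c14 LD2_c27 LD3_c57)) :=
  Lre_d IH (LK LD1_c7 LD2_c40 LD3_c21) (LK LD1_c14 LD2_c27 LD3_c57) Lrfl Lrfl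
theorem f466768 : Led Lsl_dt (LP (LK LD1_c1 LD2_c51 LD3_c54)) = (LP (LK LD1_c1 LD2_c50 LD3_c13)) :=
  Lre_d IH (LK LD1_c1 LD2_c51 LD3_c54) (LK LD1_c1 LD2_c50 LD3_c13) Lrfl Lrfl
def v2667 : LQ := Led Lsl_at (LP (LK LD1_c1 LD2_c51 LD3_c53))
theorem f530233 : Led Lsl_at (LP (LK LD1_c1 LD2_c51 LD3_c53)) = v2667 :=
  Lrfl
theorem f466825 : Led Lsl_af (LP (LK LD1_c1 LD2_c51 LD3_c54)) = (LP (LK LD1_c1 LD2_c54 LD3_c25)) :=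
  Lgr Lrot117 (Lpr_dt (f466768 IH) (Lpr_at (K29.f466769 IH) (Lpr_dt (K29.f457177 IH) (Lpn (LP (LK LD1_c1 LD2_c54 LD3_c25))))))
theorem f466828 : Led Lsl_at (LP (LK LD1_c1 LD2_c51 LD3_c54)) = (LP (LK LD1_c1 LD2_c54 LD3_c25)) :=
  Lgr Lrot100 (Lpr_af (f466825 IH) (Lpn (LP (LK LD1_c1 LD2_c54 LD3_c25))))
theorem f530237 : Led Lsl_ff (LP (LK LD1_c1 LD2_c51 LD3_c54)) = v2667 :=
  Lgr Lrot30 (Lpr_at (f466828 IH) (Lpe (f487774 IH) (Lpr_at (f530233 IH) (Lpn v2667))))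
theorem f466776 : Led Lsl_bt (LP (LK LD1_c1 LD2_c51 LD3_c54)) = (LP (LK LD1_c1 LD2_c51 LD3_c54)) :=
  Lgr Lrot95 (Lpe (K5.f87960 IH) (Lpr_bf (K29.f466764 IH) (Lpe (f466768 IH) (Lpn (LP (LK LD1_c1 LD2_c51 LD3_c54))))))
theorem f457360 : Led Lsl_at (LP (LK LD1_c0 LD2_c53 LD3_c48)) = (LP (LK LD1_c0 LD2_c53 LD3_c48)) :=
  Lgr Lrot66 (Lpr_ff (K30.f457358 IH) (Lpr_af (K30.f457352 IH) (Lpe (K30.f457355 IH) (Lpn (LP (LK LD1_c0 LD2_c53 LD3_c48))))))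
theorem f487768 : Led Lsl_bt (LP (LK LD1_c1 LD2_c51 LD3_c53)) = (LP (LK LD1_c0 LD2_c53 LD3_c48)) :=
  Lgr Lrot127 (Lpr_bf (K29.f487766 IH) (Lpn (LP (LK LD1_c0 LD2_c53 LD3_c48))))
theorem f530234 : Led Lsl_af (LP (LK LD1_c1 LD2_c51 LD3_c53)) = v2667 :=
  Lgr Lrot0 (Lpr_at (f530233 IH) (Lpn v2667))
theorem f530235 : Led Lsl_bf v2667 = v2667 :=
  Lgr Lrot81 (Lpe (f530234 IH) (Lpr_bt (f487768 IH) (Lpr_at (f457360 IH) (Lpe (K29.f487766 IH) (Lpr_at (f530233 IH) (Lpn v2667))))))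
theorem f530240 : Led Lsl_ft (LP (LK LD1_c1 LD2_c51 LD3_c54)) = v2667 :=
  Lgr Lrot75 (Lpe (f466776 IH) (Lpr_ff (f530237 IH) (Lpr_bf (f530235 IH) (Lpn v2667))))
theorem f611686 : Led Lsl_ct (LP (LK LD1_c14 LD2_c27 LD3_c57)) = (LP (LK LD1_c7 LD2_c40 LD3_c28)) :=
  Lgr Lrot53 (Lpe (f611682 IH) (Lpr_cf (f611675 IH) (Lpr_df (K47.f478310 IH) (Lpe (K47.f466771 IH) (Lpe (f466768 IH) (Lpr_ft (f530240 IH) (Lpe (f530234 IH) (Lpe (f467603 IH) (Lpe (f487778 IH) (Lpn (LP (LK LD1_c7 LD2_c40 LD3_c28))))))))))))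
theorem f451099 : Led Lsl_ct (LP (LK LD1_c3 LD2_c49 LD3_c48)) = (LP (LK LD1_c1 LD2_c51 LD3_c54)) :=
  Lre_c IH (LK LD1_c3 LD2_c49 LD3_c48) (LK LD1_c1 LD2_c51 LD3_c54) Lrfl Lrfl
theorem f466787 : Led Lsl_dt (LP (LK LD1_c7 LD2_c40 LD3_c30)) = (LP (LK LD1_c3 LD2_c49 LD3_c48)) :=
  Lre_d IH (LK LD1_c7 LD2_c40 LD3_c30) (LK LD1_c3 LD2_c49 LD3_c48) Lrfl Lrfl
theorem f662000 : Led Lsl_ct (LP (LK LD1_c14 LD2_c27 LD3_c54)) = (LP (LK LD1_c7 LD2_c40 LD3_c30)) :=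
  Lgr Lrot176 (Lpe (f518087 IH) (Lpe (f628387 IH) (Lpr_df (f661999 IH) (Lpe (f661982 IH) (Lpe (f527222 IH) (Lpe (f467603 IH) (Lpe (f487778 IH) (Lpe (f611686 IH) (Lpe (f611682 IH) (Lpr_cf (f611675 IH) (Lpr_df (K47.f478310 IH) (Lpe (K47.f466771 IH) (Lpe (f466768 IH) (Lpe (f451099 IH) (Lpe (f466787 IH) (Lpn (LP (LK LD1_c7 LD2_c40 LD3_c30))))))))))))))))))
theorem f662001 : Led Lsl_ct (LP (LK LD1_c14 LD2_c27 LD3_c54)) = (LP (LK LD1_c7 LD2_c40 LD3_c30)) :=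
  Leop (Lpe (f662000 IH) (Lpn (LP (LK LD1_c14 LD2_c27 LD3_c54))))
theorem seed_455 : LEOK LG_c (LK LD1_c14 LD2_c27 LD3_c54) :=
  Leoe_c (LK LD1_c14 LD2_c27 LD3_c54) (f662001 IH)
theorem f459326 : Led Lsl_dt (LP (LK LD1_c7 LD2_c24 LD3_c49)) = (LP (LK LD1_c3 LD2_c41 LD3_c61)) :=
  Lre_d IH (LK LD1_c7 LD2_c24 LD3_c49) (LK LD1_c3 LD2_c41 LD3_c61) Lrfl Lrfl
theorem f662004 : Led Lsl_ft (LP (LK LD1_c3 LD2_c50 LD3_c43)) = (LP (LK LD1_c7 LD2_c24 LD3_c49)) :=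
  Lgr Lrot54 (Lpr_df (f661999 IH) (Lpe (f661978 IH) (Lpe (f459326 IH) (Lpn (LP (LK LD1_c7 LD2_c24 LD3_c49))))))
theorem f662009 : Led Lsl_ff (LP (LK LD1_c3 LD2_c50 LD3_c43)) = (LP (LK LD1_c7 LD2_c24 LD3_c49)) :=
  Lgr Lrot3 (Lpr_ft (f662004 IH) (Lpn (LP (LK LD1_c7 LD2_c24 LD3_c49))))
def v6708 : LQ := Led Lsl_gf (LP (LK LD1_c3 LD2_c27 LD3_c7))
theorem f657930 : Led Lsl_gf (LP (LK LD1_c3 LD2_c27 LD3_c7)) = v6708 :=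
  Lrfl
theorem f89990 : Led Lsl_dt (LP (LK LD1_c1 LD2_c40 LD3_c10)) = (LP (LK LD1_c3 LD2_c27 LD3_c7)) :=
  Lre_d IH (LK LD1_c1 LD2_c40 LD3_c10) (LK LD1_c3 LD2_c27 LD3_c7) Lrfl Lrfl
theorem f90034 : Led Lsl_et (LP (LK LD1_c1 LD2_c40 LD3_c10)) = (LP (LK LD1_c0 LD2_c46 LD3_c35)) :=
  Lre_e IH (LK LD1_c1 LD2_c40 LD3_c10) (LK LD1_c0 LD2_c46 LD3_c35) Lrfl Lrfl
theorem f108882 : Led Lsl_gt (LP (LK LD1_c1 LD2_c52 LD3_c19)) = (LP (LK LD1_c1 LD2_c40 LD3_c15)) :=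
  Lgr Lrot49 (Lpe (K0.f14579 IH) (Lpr_gf (K2.f91295 IH) (Lpr_cf (K2.f90056 IH) (Lpe (K3.f97366 IH) (Lpr_dt (K3.f86820 IH) (Lpr_gt (K3.f108880 IH) (Lpr_dt (K3.f107328 IH) (Lpe (K3.f11444 IH) (Lpr_df (K4.f90891 IH) (Lpn (LP (LK LD1_c1 LD2_c40 LD3_c15))))))))))))
def v3950 : LQ := Led Lsl_et K47.v1138
theorem f628707 : Led Lsl_et K47.v1138 = v3950 :=
  Lrfl
theorem f628710 : Led Lsl_ef K47.v1138 = v3950 :=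
  Lgr Lrot88 (Lpr_et (f628707 IH) (Lpn v3950))
theorem f657933 : Led Lsl_dt v3950 = v6708 :=
  Lgr Lrot136 (Lpe (f628710 IH) (Lpr_gf (K47.f511940 IH) (Lpe (K47.f511933 IH) (Lpr_dt (K2.f90885 IH) (Lpe (f108882 IH) (Lpe (K0.f14579 IH) (Lpr_gf (K2.f91295 IH) (Lpe (f90034 IH) (Lpr_dt (f89990 IH) (Lpr_gf (f657930 IH) (Lpn v6708)))))))))))
theorem f493327 : Led Lsl_bf (LP (LK LD1_c1 LD2_c47 LD3_c54)) = K47.v1138 :=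
  Lgr Lrot90 (Lpr_ct (K29.f436801 IH) (Lpr_bt (K28.f436800 IH) (Lpq (K24.f456258 IH) (Lpe (K24.f451503 IH) (Lpr_bt (K29.f451500 IH) (Lpr_ct (K47.f493326 IH) (Lpn K47.v1138)))))))
theorem f628711 : Led Lsl_bt (LP (LK LD1_c3 LD2_c41 LD3_c61)) = v3950 :=
  Lgr Lrot119 (Lpe (K29.f458717 IH) (Lpr_bf (f493327 IH) (Lpr_ef (f628710 IH) (Lpn v3950))))
theorem f657934 : Led Lsl_bf (LP (LK LD1_c7 LD2_c24 LD3_c49)) = v6708 :=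
  Lgr Lrot93 (Lpr_dt (f459326 IH) (Lpr_bt (f628711 IH) (Lpr_dt (f657933 IH) (Lpn v6708))))
theorem f662011 : Led Lsl_ft (LP (LK LD1_c7 LD2_c37 LD3_c33)) = v6708 :=
  Lgr Lrot75 (Lpe (f487317 IH) (Lpr_ff (f662009 IH) (Lpr_bf (f657934 IH) (Lpn v6708))))
theorem f89869 : Led Lsl_at (LP (LK LD1_c3 LD2_c27 LD3_c7)) = (LP (LK LD1_c3 LD2_c48 LD3_c15)) :=
  Lgr Lrot100 (Lpr_af (K3.f89863 IH) (Lpn (LP (LK LD1_c3 LD2_c48 LD3_c15))))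
theorem f90019 : Led Lsl_ft (LP (LK LD1_c6 LD2_c56 LD3_c12)) = (LP (LK LD1_c3 LD2_c27 LD3_c7)) :=
  Lre_f IH (LK LD1_c6 LD2_c56 LD3_c12) (LK LD1_c3 LD2_c27 LD3_c7) Lrfl Lrfl
theorem f11860 : Led Lsl_gt (LP (LK LD1_c7 LD2_c37 LD3_c34)) = (LP (LK LD1_c3 LD2_c48 LD3_c15)) :=
  Lre_g IH (LK LD1_c7 LD2_c37 LD3_c34) (LK LD1_c3 LD2_c48 LD3_c15) Lrfl Lrfl
theorem f90020 : Led Lsl_gt (LP (LK LD1_c6 LD2_c56 LD3_c12)) = (LP (LK LD1_c7 LD2_c37 LD3_c34)) :=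
  Lgr Lrot5 (Lpr_ft (f90019 IH) (Lpr_at (f89869 IH) (Lpe (f11860 IH) (Lpn (LP (LK LD1_c7 LD2_c37 LD3_c34))))))
theorem f662159 : Led Lsl_af (LP (LK LD1_c7 LD2_c37 LD3_c34)) = v6708 :=
  Lgr Lrot31 (Lpe (f90020 IH) (Lpr_gf (f467340 IH) (Lpr_ft (f662011 IH) (Lpn v6708))))
theorem f662160 : Led Lsl_at (LP (LK LD1_c7 LD2_c37 LD3_c34)) = v6708 :=
  Lgr Lrot100 (Lpr_af (f662159 IH) (Lpn v6708))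
theorem f657931 : Led Lsl_gt (LP (LK LD1_c7 LD2_c11 LD3_c9)) = v6708 :=
  Lgr Lrot5 (Lpe (f467269 IH) (Lpe (K3.f89863 IH) (Lpr_gf (f657930 IH) (Lpn v6708))))
theorem f89882 : Led Lsl_ft (LP (LK LD1_c3 LD2_c27 LD3_c7)) = (LP (LK LD1_c6 LD2_c56 LD3_c12)) :=
  Lre_f IH (LK LD1_c3 LD2_c27 LD3_c7) (LK LD1_c6 LD2_c56 LD3_c12) Lrfl Lrfl
theorem f467285 : Led Lsl_at (LP (LK LD1_c6 LD2_c56 LD3_c12)) = (LP (LK LD1_c7 LD2_c11 LD3_c9)) :=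
  Lgr Lrot66 (Lpe (f89882 IH) (Lpr_af (K3.f89863 IH) (Lpr_ff (f467269 IH) (Lpn (LP (LK LD1_c7 LD2_c11 LD3_c9))))))
theorem f458379 : Led Lsl_gt (LP (LK LD1_c3 LD2_c27 LD3_c7)) = (LP (LK LD1_c6 LD2_c56 LD3_c10)) :=
  Lre_g IH (LK LD1_c3 LD2_c27 LD3_c7) (LK LD1_c6 LD2_c56 LD3_c10) Lrfl Lrfl
theorem f467349 : Led Lsl_gt (LP (LK LD1_c6 LD2_c56 LD3_c10)) = (LP (LK LD1_c7 LD2_c11 LD3_c9)) :=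
  Lgr Lrot46 (Lpe (f458379 IH) (Lpr_ft (f89882 IH) (Lpr_at (f467285 IH) (Lpn (LP (LK LD1_c7 LD2_c11 LD3_c9))))))
theorem f662162 : Led Lsl_ff (LP (LK LD1_c7 LD2_c37 LD3_c34)) = (LP (LK LD1_c6 LD2_c56 LD3_c10)) :=
  Lgr Lrot52 (Lpr_at (f662160 IH) (Lpe (f657931 IH) (Lpe (f467349 IH) (Lpn (LP (LK LD1_c6 LD2_c56 LD3_c10))))))
theorem f662163 : Led Lsl_ft (LP (LK LD1_c6 LD2_c56 LD3_c10)) = (LP (LK LD1_c7 LD2_c37 LD3_c34)) :=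
  Leop (Lpr_ff (f662162 IH) (Lpn (LP (LK LD1_c6 LD2_c56 LD3_c10))))
theorem seed_456 : LEOK LG_f (LK LD1_c6 LD2_c56 LD3_c10) :=
  Leoe_f (LK LD1_c6 LD2_c56 LD3_c10) (f662163 IH)
theorem f661998 : Led Lsl_dt (LP (LK LD1_c3 LD2_c50 LD3_c43)) = v7197 :=
  Lgr Lrot113 (Lpe (f64958 IH) (Lpe (K47.f64957 IH) (Lpe (K33.f443604 IH) (Lpr_ct (K33.f443606 IH) (Lpr_gt (K29.f86925 IH) (Lpr_dt (K3.f84978 IH) (Lpr_gt (K29.f86937 IH) (Lpr_dt (f527222 IH) (Lpr_ct (f661982 IH) (Lpn v7197))))))))))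
theorem f441331 : Led Lsl_et (LP (LK LD1_c3 LD2_c50 LD3_c41)) = (LP (LK LD1_c1 LD2_c52 LD3_c14)) :=
  Lre_e IH (LK LD1_c3 LD2_c50 LD3_c41) (LK LD1_c1 LD2_c52 LD3_c14) Lrfl Lrfl
theorem f66185 : Led Lsl_dt (LP (LK LD1_c3 LD2_c50 LD3_c41)) = (LP (LK LD1_c1 LD2_c52 LD3_c13)) :=
  Lre_d IH (LK LD1_c3 LD2_c50 LD3_c41) (LK LD1_c1 LD2_c52 LD3_c13) Lrfl Lrfl
theorem f66195 : Led Lsl_gt (LP (LK LD1_c3 LD2_c50 LD3_c40)) = (LP (LK LD1_c1 LD2_c52 LD3_c13)) :=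
  Lre_g IH (LK LD1_c3 LD2_c50 LD3_c40) (LK LD1_c1 LD2_c52 LD3_c13) Lrfl Lrfl
theorem f66254 : Led Lsl_dt (LP (LK LD1_c7 LD2_c42 LD3_c26)) = (LP (LK LD1_c3 LD2_c50 LD3_c40)) :=
  Lre_d IH (LK LD1_c7 LD2_c42 LD3_c26) (LK LD1_c3 LD2_c50 LD3_c40) Lrfl Lrfl
theorem f441327 : Led Lsl_et (LP (LK LD1_c7 LD2_c42 LD3_c26)) = (LP (LK LD1_c14 LD2_c31 LD3_c41)) :=
  Lre_e IH (LK LD1_c7 LD2_c42 LD3_c26) (LK LD1_c14 LD2_c31 LD3_c41) Lrfl Lrfl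
theorem f478337 : Led Lsl_ef (LP (LK LD1_c3 LD2_c52 LD3_c13)) = (LP (LK LD1_c7 LD2_c33 LD3_c39)) :=
  Lgr Lrot88 (Lpr_et (f478330 IH) (Lpn (LP (LK LD1_c7 LD2_c33 LD3_c39))))
theorem f477217 : Led Lsl_dt (LP (LK LD1_c7 LD2_c3 LD3_c31)) = (LP (LK LD1_c7 LD2_c36 LD3_c50)) :=
  Lgr Lrot27 (Lpe (K29.f443502 IH) (Lpe (K29.f443498 IH) (Lpe (K5.f87979 IH) (Lpr_gf (K29.f477191 IH) (Lpr_df (K29.f460605 IH) (Lpr_gt (K29.f474227 IH) (Lpr_ct (K29.f62779 IH) (Lpe (K29.f468652 IH) (Lpr_ct (K29.f463978 IH) (Lpn (LP (LK LD1_c7 LD2_c36 LD3_c50))))))))))))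
theorem f425690 : Led Lsl_ct (LP (LK LD1_c7 LD2_c2 LD3_c58)) = (LP (LK LD1_c3 LD2_c47 LD3_c61)) :=
  Lre_c IH (LK LD1_c7 LD2_c2 LD3_c58) (LK LD1_c3 LD2_c47 LD3_c61) Lrfl Lrfl
theorem f468794 : Led Lsl_gt (LP (LK LD1_c7 LD2_c3 LD3_c51)) = (LP (LK LD1_c13 LD2_c21 LD3_c22)) :=
  Lgr Lrot9 (Lpe (K29.f461307 IH) (Lpr_gt (K29.f459900 IH) (Lpr_ct (f425690 IH) (Lpr_gt (K3.f63648 IH) (Lpr_ct (K29.f458474 IH) (Lpr_df (K29.f468781 IH) (Lpe (K29.f443530 IH) (Lpe (K29.f461383 IH) (Lpe (K29.f461384 IH) (Lpn (LP (LK LD1_c13 LD2_c21 LD3_c22))))))))))))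
theorem f477297 : Led Lsl_gf (LP (LK LD1_c7 LD2_c3 LD3_c31)) = (LP (LK LD1_c3 LD2_c52 LD3_c13)) :=
  Lgr Lrot143 (Lpr_dt (f477217 IH) (Lpe (K29.f463978 IH) (Lpr_df (K29.f477291 IH) (Lpe (f468794 IH) (Lpe (K29.f461307 IH) (Lpe (K29.f460587 IH) (Lpe (K29.f459879 IH) (Lpr_gt (K29.f459876 IH) (Lpr_dt (K29.f461315 IH) (Lpn (LP (LK LD1_c3 LD2_c52 LD3_c13))))))))))))
theorem f456152 : Led Lsl_gt (LP (LK LD1_c3 LD2_c55 LD3_c37)) = (LP (LK LD1_c7 LD2_c52 LD3_c61)) :=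
  Lre_g IH (LK LD1_c3 LD2_c55 LD3_c37) (LK LD1_c7 LD2_c52 LD3_c61) Lrfl Lrfl
theorem f478341 : Led Lsl_df (LP (LK LD1_c7 LD2_c52 LD3_c61)) = (LP (LK LD1_c7 LD2_c33 LD3_c39)) :=
  Lgr Lrot168 (Lpe (f456152 IH) (Lpe (K33.f456218 IH) (Lpr_et (f473975 IH) (Lpr_gf (K29.f461301 IH) (Lpe (K24.f64981 IH) (Lpr_dt (K29.f14966 IH) (Lpe (K29.f443453 IH) (Lpe (f477217 IH) (Lpr_gf (f477297 IH) (Lpr_ef (f478337 IH) (Lpn (LP (LK LD1_c7 LD2_c33 LD3_c39)))))))))))))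
theorem f478346 : Led Lsl_dt (LP (LK LD1_c7 LD2_c52 LD3_c61)) = (LP (LK LD1_c7 LD2_c33 LD3_c39)) :=
  Lgr Lrot42 (Lpr_df (f478341 IH) (Lpn (LP (LK LD1_c7 LD2_c33 LD3_c39))))
theorem f478336 : Led Lsl_dt (LP (LK LD1_c7 LD2_c46 LD3_c16)) = (LP (LK LD1_c3 LD2_c52 LD3_c14)) :=
  Lre_d IH (LK LD1_c7 LD2_c46 LD3_c16) (LK LD1_c3 LD2_c52 LD3_c14) Lrfl Lrfl
theorem f478348 : Led Lsl_et (LP (LK LD1_c7 LD2_c52 LD3_c61)) = (LP (LK LD1_c7 LD2_c46 LD3_c16)) :=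
  Lgr Lrot71 (Lpr_df (f478341 IH) (Lpe (f478330 IH) (Lpe (K29.f461315 IH) (Lpe (K46.f478335 IH) (Lpe (f478336 IH) (Lpn (LP (LK LD1_c7 LD2_c46 LD3_c16))))))))
theorem f662226 : Led Lsl_gf (LP (LK LD1_c14 LD2_c31 LD3_c41)) = (LP (LK LD1_c7 LD2_c46 LD3_c16)) :=
  Lgr Lrot141 (Lpe (f441327 IH) (Lpr_dt (f66254 IH) (Lpr_gt (f66195 IH) (Lpe (f66185 IH) (Lpr_et (f441331 IH) (Lpr_gt (f64958 IH) (Lpr_dt (f661998 IH) (Lpe (f661984 IH) (Lpe (f478346 IH) (Lpr_et (f478348 IH) (Lpn (LP (LK LD1_c7 LD2_c46 LD3_c16)))))))))))))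
theorem f662227 : Led Lsl_gt (LP (LK LD1_c7 LD2_c46 LD3_c16)) = (LP (LK LD1_c14 LD2_c31 LD3_c41)) :=
  Leop (Lpr_gf (f662226 IH) (Lpn (LP (LK LD1_c7 LD2_c46 LD3_c16))))
theorem seed_457 : LEOK LG_g (LK LD1_c7 LD2_c46 LD3_c16) :=
  Leoe_g (LK LD1_c7 LD2_c46 LD3_c16) (f662227 IH)
def v7199 : LQ := Led Lsl_et (LP (LK LD1_c3 LD2_c42 LD3_c0))
theorem f662241 : Led Lsl_et (LP (LK LD1_c3 LD2_c42 LD3_c0)) = v7199 :=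
  Lrfl
theorem f17014 : Led Lsl_dt (LP (LK LD1_c1 LD2_c52 LD3_c52)) = (LP (LK LD1_c3 LD2_c52 LD3_c27)) :=
  Lre_d IH (LK LD1_c1 LD2_c52 LD3_c52) (LK LD1_c3 LD2_c52 LD3_c27) Lrfl Lrfl
theorem f63873 : Led Lsl_gt (LP (LK LD1_c3 LD2_c52 LD3_c27)) = (LP (LK LD1_c7 LD2_c46 LD3_c45)) :=
  Lre_g IH (LK LD1_c3 LD2_c52 LD3_c27) (LK LD1_c7 LD2_c46 LD3_c45) Lrfl Lrfl
theorem f487172 : Led Lsl_df (LP (LK LD1_c7 LD2_c46 LD3_c45)) = (LP (LK LD1_c7 LD2_c1 LD3_c12)) :=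
  Lgr Lrot132 (Lpe (f63873 IH) (Lpe (f17014 IH) (Lpe (K28.f17013 IH) (Lpe (K0.f15622 IH) (Lpr_dt (K0.f15088 IH) (Lpe (K3.f63802 IH) (Lpe (K34.f19044 IH) (Lpr_et (K34.f63810 IH) (Lpr_gf (K29.f481880 IH) (Lpe (K29.f474679 IH) (Lpn (LP (LK LD1_c7 LD2_c1 LD3_c12)))))))))))))
theorem f662246 : Led Lsl_gf (LP (LK LD1_c3 LD2_c52 LD3_c28)) = v7199 :=
  Lgr Lrot141 (Lpe (K34.f465242 IH) (Lpr_dt (f17014 IH) (Lpr_gt (f63873 IH) (Lpr_df (f487172 IH) (Lpr_et (K29.f474679 IH) (Lpe (K29.f481880 IH) (Lpr_dt (K4.f63887 IH) (Lpr_gt (K32.f63888 IH) (Lpr_df (K32.f481945 IH) (Lpr_et (f662241 IH) (Lpn v7199)))))))))))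
theorem f477141 : Led Lsl_cf (LP (LK LD1_c13 LD2_c9 LD3_c19)) = (LP (LK LD1_c7 LD2_c52 LD3_c44)) :=
  Lgr Lrot11 (Lpr_ct (K32.f477132 IH) (Lpn (LP (LK LD1_c7 LD2_c52 LD3_c44))))
theorem f477146 : Led Lsl_gt (LP (LK LD1_c22 LD2_c21 LD3_c60)) = (LP (LK LD1_c13 LD2_c9 LD3_c19)) :=
  Lre_g IH (LK LD1_c22 LD2_c21 LD3_c60) (LK LD1_c13 LD2_c9 LD3_c19) Lrfl Lrfl
theorem f533453 : Led Lsl_bf (LP (LK LD1_c14 LD2_c46 LD3_c22)) = (LP (LK LD1_c24 LD2_c9 LD3_c47)) :=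
  Lgr Lrot24 (Lpr_bt (K34.f533451 IH) (Lpn (LP (LK LD1_c24 LD2_c9 LD3_c47))))
theorem f554089 : Led Lsl_cf (LP (LK LD1_c22 LD2_c21 LD3_c60)) = (LP (LK LD1_c24 LD2_c9 LD3_c47)) :=
  Lgr Lrot160 (Lpr_gt (f477146 IH) (Lpr_cf (f477141 IH) (Lpr_bt (K32.f477140 IH) (Lpr_gt (K32.f463668 IH) (Lpe (K35.f479827 IH) (Lpe (K32.f464715 IH) (Lpr_cf (K33.f464628 IH) (Lpr_bt (K40.f464668 IH) (Lpr_gt (K40.f554085 IH) (Lpr_bf (f533453 IH) (Lpn (LP (LK LD1_c24 LD2_c9 LD3_c47)))))))))))))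
theorem f533457 : Led Lsl_dt (LP (LK LD1_c30 LD2_c41 LD3_c42)) = (LP (LK LD1_c24 LD2_c9 LD3_c47)) :=
  Lgr Lrot42 (Lpr_df (K34.f533455 IH) (Lpn (LP (LK LD1_c24 LD2_c9 LD3_c47))))
theorem f464392 : Led Lsl_ff (LP (LK LD1_c13 LD2_c3 LD3_c49)) = (LP (LK LD1_c6 LD2_c53 LD3_c8)) :=
  Lgr Lrot25 (Lpr_bt (K28.f98763 IH) (Lpr_ft (K28.f464386 IH) (Lpr_bt (K46.f121934 IH) (Lpn (LP (LK LD1_c6 LD2_c53 LD3_c8))))))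
theorem f464501 : Led Lsl_gt (LP (LK LD1_c13 LD2_c5 LD3_c15)) = (LP (LK LD1_c14 LD2_c16 LD3_c0)) :=
  Lgr Lrot46 (Lpe (K46.f162861 IH) (Lpe (f464392 IH) (Lpr_at (K28.f464493 IH) (Lpn (LP (LK LD1_c14 LD2_c16 LD3_c0))))))
theorem f419616 : Led Lsl_at (LP (LK LD1_c14 LD2_c15 LD3_c61)) = (LP (LK LD1_c13 LD2_c5 LD3_c17)) :=
  Lgr Lrot100 (Lpr_af (K28.f419614 IH) (Lpn (LP (LK LD1_c13 LD2_c5 LD3_c17))))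
theorem f419762 : Led Lsl_ft (LP (LK LD1_c23 LD2_c52 LD3_c45)) = (LP (LK LD1_c14 LD2_c15 LD3_c61)) :=
  Lre_f IH (LK LD1_c23 LD2_c52 LD3_c45) (LK LD1_c14 LD2_c15 LD3_c61) Lrfl Lrfl
theorem f151476 : Led Lsl_gt (LP (LK LD1_c22 LD2_c16 LD3_c2)) = (LP (LK LD1_c13 LD2_c5 LD3_c17)) :=
  Lre_g IH (LK LD1_c22 LD2_c16 LD3_c2) (LK LD1_c13 LD2_c5 LD3_c17) Lrfl Lrfl
theorem f419763 : Led Lsl_gt (LP (LK LD1_c23 LD2_c52 LD3_c45)) = (LP (LK LD1_c22 LD2_c16 LD3_c2)) :=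
  Lgr Lrot5 (Lpr_ft (f419762 IH) (Lpr_at (f419616 IH) (Lpe (f151476 IH) (Lpn (LP (LK LD1_c22 LD2_c16 LD3_c2))))))
theorem f554097 : Led Lsl_df (LP (LK LD1_c22 LD2_c21 LD3_c60)) = (LP (LK LD1_c22 LD2_c16 LD3_c2)) :=
  Lgr Lrot84 (Lpr_cf (f554089 IH) (Lpe (f533457 IH) (Lpr_gf (K34.f533462 IH) (Lpe (K35.f111264 IH) (Lpe (K46.f533242 IH) (Lpe (K46.f420083 IH) (Lpr_gt (f464501 IH) (Lpr_dt (K28.f419638 IH) (Lpr_gt (f419763 IH) (Lpn (LP (LK LD1_c22 LD2_c16 LD3_c2))))))))))))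
theorem f554101 : Led Lsl_dt (LP (LK LD1_c22 LD2_c21 LD3_c60)) = (LP (LK LD1_c22 LD2_c16 LD3_c2)) :=
  Lgr Lrot42 (Lpr_df (f554097 IH) (Lpn (LP (LK LD1_c22 LD2_c16 LD3_c2))))
theorem f529022 : Led Lsl_cf (LP (LK LD1_c14 LD2_c29 LD3_c14)) = (LP (LK LD1_c22 LD2_c21 LD3_c55)) :=
  Lgr Lrot1 (Lpr_at (K37.f529016 IH) (Lpe (f477141 IH) (Lpr_at (K39.f477148 IH) (Lpn (LP (LK LD1_c22 LD2_c21 LD3_c55))))))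
theorem f483839 : Led Lsl_ct (LP (LK LD1_c14 LD2_c55 LD3_c19)) = (LP (LK LD1_c22 LD2_c26 LD3_c50)) :=
  Lgr Lrot111 (Lpe (K39.f483838 IH) (Lpr_cf (K39.f483832 IH) (Lpe (K39.f483835 IH) (Lpn (LP (LK LD1_c22 LD2_c26 LD3_c50))))))
theorem f529028 : Led Lsl_ff (LP (LK LD1_c22 LD2_c21 LD3_c55)) = (LP (LK LD1_c22 LD2_c26 LD3_c50)) :=
  Lgr Lrot23 (Lpe (f529022 IH) (Lpr_ft (K39.f529026 IH) (Lpr_ct (f483839 IH) (Lpn (LP (LK LD1_c22 LD2_c26 LD3_c50))))))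
theorem f477138 : Led Lsl_at (LP (LK LD1_c22 LD2_c21 LD3_c55)) = (LP (LK LD1_c13 LD2_c9 LD3_c19)) :=
  Lre_a IH (LK LD1_c22 LD2_c21 LD3_c55) (LK LD1_c13 LD2_c9 LD3_c19) Lrfl Lrfl
theorem f529030 : Led Lsl_gf (LP (LK LD1_c22 LD2_c21 LD3_c60)) = (LP (LK LD1_c22 LD2_c26 LD3_c50)) :=
  Lgr Lrot47 (Lpr_gt (f477146 IH) (Lpe (f477138 IH) (Lpr_ff (f529028 IH) (Lpn (LP (LK LD1_c22 LD2_c26 LD3_c50))))))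
theorem f483829 : Led Lsl_at (LP (LK LD1_c13 LD2_c12 LD3_c52)) = (LP (LK LD1_c22 LD2_c26 LD3_c50)) :=
  Lre_a IH (LK LD1_c13 LD2_c12 LD3_c52) (LK LD1_c22 LD2_c26 LD3_c50) Lrfl Lrfl
theorem f483830 : Led Lsl_cf (LP (LK LD1_c14 LD2_c55 LD3_c19)) = (LP (LK LD1_c22 LD2_c26 LD3_c50)) :=
  Lgr Lrot1 (Lpr_at (K39.f483828 IH) (Lpr_ct (K35.f483820 IH) (Lpr_at (f483829 IH) (Lpn (LP (LK LD1_c22 LD2_c26 LD3_c50))))))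
theorem f419747 : Led Lsl_dt (LP (LK LD1_c13 LD2_c5 LD3_c17)) = (LP (LK LD1_c6 LD2_c53 LD3_c8)) :=
  Lre_d IH (LK LD1_c13 LD2_c5 LD3_c17) (LK LD1_c6 LD2_c53 LD3_c8) Lrfl Lrfl
theorem f554103 : Led Lsl_gt (LP (LK LD1_c14 LD2_c55 LD3_c19)) = (LP (LK LD1_c14 LD2_c3 LD3_c7)) :=
  Lgr Lrot94 (Lpr_cf (f483830 IH) (Lpe (f529030 IH) (Lpr_dt (f554101 IH) (Lpr_gt (f151476 IH) (Lpr_dt (f419747 IH) (Lpr_cf (K28.f420071 IH) (Lpe (K35.f420079 IH) (Lpr_gf (K34.f471126 IH) (Lpe (K34.f437750 IH) (Lpn (LP (LK LD1_c14 LD2_c3 LD3_c7))))))))))))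
theorem f554107 : Led Lsl_gf (LP (LK LD1_c7 LD2_c52 LD3_c44)) = (LP (LK LD1_c14 LD2_c3 LD3_c7)) :=
  Lgr Lrot76 (Lpe (K37.f529016 IH) (Lpr_ff (K39.f529024 IH) (Lpr_gt (f554103 IH) (Lpn (LP (LK LD1_c14 LD2_c3 LD3_c7))))))
def v6714 : LQ := Led Lsl_gf (LP (LK LD1_c3 LD2_c27 LD3_c24))
theorem f657969 : Led Lsl_gf (LP (LK LD1_c3 LD2_c27 LD3_c24)) = v6714 :=
  Lrfl
theorem f657973 : Led Lsl_cf K32.v2281 = v6714 :=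
  Lgr Lrot166 (Lpe (K32.f511448 IH) (Lpe (K2.f90867 IH) (Lpr_gt (K2.f15903 IH) (Lpr_dt (K46.f14646 IH) (Lpr_ct (K24.f15795 IH) (Lpe (K29.f15808 IH) (Lpr_gf (K2.f90895 IH) (Lpe (K2.f15322 IH) (Lpr_gf (f657969 IH) (Lpn v6714))))))))))
theorem f662249 : Led Lsl_bt v6714 = v7199 :=
  Lgr Lrot22 (Lpe (f657973 IH) (Lpe (K33.f511449 IH) (Lpe (K29.f462844 IH) (Lpr_gf (K32.f479858 IH) (Lpe (K33.f477147 IH) (Lpr_ct (K32.f477132 IH) (Lpr_gf (f554107 IH) (Lpe (K35.f471101 IH) (Lpr_bt (K34.f465367 IH) (Lpr_gf (f662246 IH) (Lpn v7199)))))))))))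
theorem f484752 : Led Lsl_bt (LP (LK LD1_c3 LD2_c48 LD3_c51)) = (LP (LK LD1_c7 LD2_c38 LD3_c49)) :=
  Lre_b IH (LK LD1_c3 LD2_c48 LD3_c51) (LK LD1_c7 LD2_c38 LD3_c49) Lrfl Lrfl
theorem f92032 : Led Lsl_et (LP (LK LD1_c6 LD2_c54 LD3_c39)) = (LP (LK LD1_c3 LD2_c26 LD3_c22)) :=
  Lre_e IH (LK LD1_c6 LD2_c54 LD3_c39) (LK LD1_c3 LD2_c26 LD3_c22) Lrfl Lrfl
theorem f484534 : Led Lsl_et (LP (LK LD1_c1 LD2_c51 LD3_c24)) = (LP (LK LD1_c3 LD2_c48 LD3_c51)) :=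
  Lre_e IH (LK LD1_c1 LD2_c51 LD3_c24) (LK LD1_c3 LD2_c48 LD3_c51) Lrfl Lrfl
theorem f484535 : Led Lsl_cf (LP (LK LD1_c6 LD2_c54 LD3_c39)) = (LP (LK LD1_c3 LD2_c48 LD3_c51)) :=
  Lgr Lrot39 (Lpr_et (f92032 IH) (Lpr_ct (K33.f484525 IH) (Lpr_et (f484534 IH) (Lpn (LP (LK LD1_c3 LD2_c48 LD3_c51))))))
theorem f662250 : Led Lsl_gf (LP (LK LD1_c6 LD2_c54 LD3_c39)) = (LP (LK LD1_c7 LD2_c13 LD3_c43)) :=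
  Lgr Lrot129 (Lpr_cf (f484535 IH) (Lpr_bt (f484752 IH) (Lpe (K39.f492922 IH) (Lpe (K34.f15895 IH) (Lpr_ct (K29.f462844 IH) (Lpr_gt (K33.f511449 IH) (Lpr_cf (f657973 IH) (Lpr_bt (f662249 IH) (Lpe (f662246 IH) (Lpr_ct (K34.f465243 IH) (Lpn (LP (LK LD1_c7 LD2_c13 LD3_c43)))))))))))))
theorem f662251 : Led Lsl_gt (LP (LK LD1_c7 LD2_c13 LD3_c43)) = (LP (LK LD1_c6 LD2_c54 LD3_c39)) :=
  Leop (Lpr_gf (f662250 IH) (Lpn (LP (LK LD1_c7 LD2_c13 LD3_c43))))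
theorem seed_458 : LEOK LG_g (LK LD1_c7 LD2_c13 LD3_c43) :=
  Leoe_g (LK LD1_c7 LD2_c13 LD3_c43) (f662251 IH)
def v7213 : LQ := Led Lsl_ft (LP (LK LD1_c3 LD2_c42 LD3_c40))
theorem f662336 : Led Lsl_ft (LP (LK LD1_c3 LD2_c42 LD3_c40)) = v7213 :=
  Lrfl
theorem f120994 : Led Lsl_gt (LP (LK LD1_c3 LD2_c42 LD3_c40)) = (LP (LK LD1_c7 LD2_c25 LD3_c58)) :=
  Lre_g IH (LK LD1_c3 LD2_c42 LD3_c40) (LK LD1_c7 LD2_c25 LD3_c58) Lrfl Lrfl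
theorem f146828 : Led Lsl_et (LP (LK LD1_c1 LD2_c47 LD3_c2)) = (LP (LK LD1_c3 LD2_c40 LD3_c11)) :=
  Lre_e IH (LK LD1_c1 LD2_c47 LD3_c2) (LK LD1_c3 LD2_c40 LD3_c11) Lrfl Lrfl
theorem f146829 : Led Lsl_et (LP (LK LD1_c3 LD2_c42 LD3_c40)) = (LP (LK LD1_c1 LD2_c48 LD3_c19)) :=
  Lre_e IH (LK LD1_c3 LD2_c42 LD3_c40) (LK LD1_c1 LD2_c48 LD3_c19) Lrfl Lrfl
theorem f146830 : Led Lsl_at (LP (LK LD1_c3 LD2_c40 LD3_c11)) = (LP (LK LD1_c3 LD2_c42 LD3_c40)) :=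
  Lgr Lrot80 (Lpe (f146828 IH) (Lpr_af (K6.f146814 IH) (Lpe (f146829 IH) (Lpn (LP (LK LD1_c3 LD2_c42 LD3_c40))))))
theorem f662337 : Led Lsl_af (LP (LK LD1_c7 LD2_c20 LD3_c34)) = v7213 :=
  Lgr Lrot45 (Lpr_ft (K28.f159392 IH) (Lpr_at (f146830 IH) (Lpr_ft (f662336 IH) (Lpn v7213))))
theorem f662340 : Led Lsl_gt (LP (LK LD1_c7 LD2_c25 LD3_c58)) = (LP (LK LD1_c7 LD2_c20 LD3_c34)) :=
  Lgr Lrot46 (Lpe (f120994 IH) (Lpr_ft (f662336 IH) (Lpe (f662337 IH) (Lpn (LP (LK LD1_c7 LD2_c20 LD3_c34))))))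
theorem f662341 : Led Lsl_gt (LP (LK LD1_c7 LD2_c25 LD3_c58)) = (LP (LK LD1_c7 LD2_c20 LD3_c34)) :=
  Leop (Lpe (f662340 IH) (Lpn (LP (LK LD1_c7 LD2_c25 LD3_c58))))
theorem seed_459 : LEOK LG_g (LK LD1_c7 LD2_c25 LD3_c58) :=
  Leoe_g (LK LD1_c7 LD2_c25 LD3_c58) (f662341 IH)
def v7214 : LQ := Led Lsl_et (LP (LK LD1_c3 LD2_c42 LD3_c42))
theorem f662347 : Led Lsl_et (LP (LK LD1_c3 LD2_c42 LD3_c42)) = v7214 :=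
  Lrfl
theorem f662350 : Led Lsl_ef (LP (LK LD1_c3 LD2_c42 LD3_c42)) = v7214 :=
  Lgr Lrot88 (Lpr_et (f662347 IH) (Lpn v7214))
theorem f483781 : Led Lsl_et (LP (LK LD1_c1 LD2_c49 LD3_c17)) = (LP (LK LD1_c3 LD2_c44 LD3_c33)) :=
  Lre_e IH (LK LD1_c1 LD2_c49 LD3_c17) (LK LD1_c3 LD2_c44 LD3_c33) Lrfl Lrfl
theorem f459445 : Led Lsl_dt (LP (LK LD1_c1 LD2_c49 LD3_c17)) = (LP (LK LD1_c3 LD2_c44 LD3_c32)) :=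
  Lre_d IH (LK LD1_c1 LD2_c49 LD3_c17) (LK LD1_c3 LD2_c44 LD3_c32) Lrfl Lrfl
theorem f511643 : Led Lsl_gt (LP (LK LD1_c7 LD2_c30 LD3_c1)) = (LP (LK LD1_c3 LD2_c44 LD3_c29)) :=
  Lre_g IH (LK LD1_c7 LD2_c30 LD3_c1) (LK LD1_c3 LD2_c44 LD3_c29) Lrfl Lrfl
theorem f517619 : Led Lsl_et (LP (LK LD1_c7 LD2_c24 LD3_c39)) = (LP (LK LD1_c7 LD2_c30 LD3_c1)) :=
  Lgr Lrot121 (Lpr_dt (K34.f517610 IH) (Lpe (K34.f120998 IH) (Lpe (K28.f120997 IH) (Lpr_et (K28.f120996 IH) (Lpr_gf (K4.f120979 IH) (Lpe (K7.f120990 IH) (Lpr_dt (K7.f120991 IH) (Lpr_gf (K34.f511637 IH) (Lpe (K34.f511634 IH) (Lpe (f511643 IH) (Lpn (LP (LK LD1_c7 LD2_c30 LD3_c1)))))))))))))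
theorem f517621 : Led Lsl_et (LP (LK LD1_c1 LD2_c49 LD3_c14)) = (LP (LK LD1_c3 LD2_c44 LD3_c29)) :=
  Lre_e IH (LK LD1_c1 LD2_c49 LD3_c14) (LK LD1_c3 LD2_c44 LD3_c29) Lrfl Lrfl
theorem f459518 : Led Lsl_dt (LP (LK LD1_c1 LD2_c49 LD3_c14)) = (LP (LK LD1_c3 LD2_c44 LD3_c28)) :=
  Lre_d IH (LK LD1_c1 LD2_c49 LD3_c14) (LK LD1_c3 LD2_c44 LD3_c28) Lrfl Lrfl
theorem f511646 : Led Lsl_gt (LP (LK LD1_c3 LD2_c44 LD3_c28)) = (LP (LK LD1_c7 LD2_c29 LD3_c59)) :=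
  Lre_g IH (LK LD1_c3 LD2_c44 LD3_c28) (LK LD1_c7 LD2_c29 LD3_c59) Lrfl Lrfl
theorem f662353 : Led Lsl_df (LP (LK LD1_c7 LD2_c29 LD3_c59)) = v7214 :=
  Lgr Lrot168 (Lpe (f511646 IH) (Lpe (f459518 IH) (Lpr_et (f517621 IH) (Lpe (f511643 IH) (Lpe (f517619 IH) (Lpr_dt (K34.f517610 IH) (Lpe (K34.f120998 IH) (Lpe (K28.f120997 IH) (Lpe (K29.f203948 IH) (Lpr_ef (f662350 IH) (Lpn v7214)))))))))))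
theorem f662354 : Led Lsl_gf (LP (LK LD1_c3 LD2_c44 LD3_c32)) = (LP (LK LD1_c7 LD2_c29 LD3_c59)) :=
  Lgr Lrot145 (Lpe (f459445 IH) (Lpr_et (f483781 IH) (Lpr_gt (K33.f483770 IH) (Lpr_dt (K33.f483771 IH) (Lpr_gt (K33.f462718 IH) (Lpe (K28.f452021 IH) (Lpe (K28.f462465 IH) (Lpe (K29.f203949 IH) (Lpr_ef (f662350 IH) (Lpe (f662353 IH) (Lpn (LP (LK LD1_c7 LD2_c29 LD3_c59)))))))))))))
theorem f662355 : Led Lsl_gt (LP (LK LD1_c7 LD2_c29 LD3_c59)) = (LP (LK LD1_c3 LD2_c44 LD3_c32)) :=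
  Leop (Lpr_gf (f662354 IH) (Lpn (LP (LK LD1_c7 LD2_c29 LD3_c59))))
theorem seed_460 : LEOK LG_g (LK LD1_c7 LD2_c29 LD3_c59) :=
  Leoe_g (LK LD1_c7 LD2_c29 LD3_c59) (f662355 IH)
theorem f662363 : Led Lsl_et (LP (LK LD1_c7 LD2_c29 LD3_c59)) = (LP (LK LD1_c14 LD2_c9 LD3_c52)) :=
  Lre_e IH (LK LD1_c7 LD2_c29 LD3_c59) (LK LD1_c14 LD2_c9 LD3_c52) Lrfl Lrfl
theorem f531890 : Led Lsl_et (LP (LK LD1_c14 LD2_c3 LD3_c14)) = (LP (LK LD1_c7 LD2_c26 LD3_c3)) :=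
  Lre_e IH (LK LD1_c14 LD2_c3 LD3_c14) (LK LD1_c7 LD2_c26 LD3_c3) Lrfl Lrfl
theorem f662364 : Led Lsl_dt (LP (LK LD1_c14 LD2_c9 LD3_c52)) = (LP (LK LD1_c14 LD2_c3 LD3_c14)) :=
  Lgr Lrot77 (Lpe (f662363 IH) (Lpr_df (f662353 IH) (Lpe (f662347 IH) (Lpe (K34.f203955 IH) (Lpe (f531890 IH) (Lpn (LP (LK LD1_c14 LD2_c3 LD3_c14))))))))
theorem f662365 : Led Lsl_dt (LP (LK LD1_c14 LD2_c9 LD3_c52)) = (LP (LK LD1_c14 LD2_c3 LD3_c14)) :=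
  Leop (Lpe (f662364 IH) (Lpn (LP (LK LD1_c14 LD2_c9 LD3_c52))))
theorem seed_461 : LEOK LG_d (LK LD1_c14 LD2_c9 LD3_c52) :=
  Leoe_d (LK LD1_c14 LD2_c9 LD3_c52) (f662365 IH)
def v7217 : LQ := Led Lsl_ft (LP (LK LD1_c3 LD2_c42 LD3_c46))
theorem f662404 : Led Lsl_ft (LP (LK LD1_c3 LD2_c42 LD3_c46)) = v7217 :=
  Lrfl
theorem f662407 : Led Lsl_ff (LP (LK LD1_c3 LD2_c42 LD3_c46)) = v7217 :=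
  Lgr Lrot3 (Lpr_ft (f662404 IH) (Lpn v7217))
theorem f142936 : Led Lsl_at (LP (LK LD1_c3 LD2_c42 LD3_c46)) = (LP (LK LD1_c3 LD2_c40 LD3_c19)) :=
  Lgr Lrot100 (Lpr_af (K6.f142934 IH) (Lpn (LP (LK LD1_c3 LD2_c40 LD3_c19))))
def v7157 : LQ := Led Lsl_ft (LP (LK LD1_c3 LD2_c40 LD3_c19))
theorem f661594 : Led Lsl_ft (LP (LK LD1_c3 LD2_c40 LD3_c19)) = v7157 :=
  Lrfl
theorem f662409 : Led Lsl_at v7157 = v7217 :=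
  Lgr Lrot66 (Lpe (f661594 IH) (Lpe (f142936 IH) (Lpr_ff (f662407 IH) (Lpn v7217))))
theorem f425277 : Led Lsl_gt (LP (LK LD1_c3 LD2_c40 LD3_c19)) = (LP (LK LD1_c7 LD2_c20 LD3_c48)) :=
  Lre_g IH (LK LD1_c3 LD2_c40 LD3_c19) (LK LD1_c7 LD2_c20 LD3_c48) Lrfl Lrfl
theorem f662412 : Led Lsl_gt (LP (LK LD1_c7 LD2_c20 LD3_c48)) = v7217 :=
  Lgr Lrot46 (Lpe (f425277 IH) (Lpr_ft (f661594 IH) (Lpr_at (f662409 IH) (Lpn v7217))))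
def v2550 : LQ := Led Lsl_ft (LP (LK LD1_c1 LD2_c48 LD3_c22))
theorem f527419 : Led Lsl_ft (LP (LK LD1_c1 LD2_c48 LD3_c22)) = v2550 :=
  Lrfl
theorem f527423 : Led Lsl_ff (LP (LK LD1_c1 LD2_c48 LD3_c22)) = v2550 :=
  Lgr Lrot3 (Lpr_ft (f527419 IH) (Lpn v2550))
theorem f662406 : Led Lsl_cf v2550 = v7217 :=
  Lgr Lrot108 (Lpe (f527423 IH) (Lpr_ct (K47.f142953 IH) (Lpr_ft (f662404 IH) (Lpn v7217))))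
theorem f527425 : Led Lsl_dt (LP (LK LD1_c1 LD2_c48 LD3_c23)) = v2550 :=
  Lgr Lrot60 (Lpe (K29.f203909 IH) (Lpe (K34.f124277 IH) (Lpr_ff (f527423 IH) (Lpn v2550))))
theorem f84925 : Led Lsl_gt (LP (LK LD1_c3 LD2_c33 LD3_c1)) = (LP (LK LD1_c7 LD2_c6 LD3_c61)) :=
  Lre_g IH (LK LD1_c3 LD2_c33 LD3_c1) (LK LD1_c7 LD2_c6 LD3_c61) Lrfl Lrfl
theorem f662414 : Led Lsl_cf (LP (LK LD1_c7 LD2_c20 LD3_c48)) = (LP (LK LD1_c7 LD2_c6 LD3_c61)) :=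
  Lgr Lrot169 (Lpr_gt (f662412 IH) (Lpe (f662406 IH) (Lpe (f527425 IH) (Lpe (K29.f203835 IH) (Lpr_gf (K28.f203931 IH) (Lpe (K29.f471730 IH) (Lpe (K29.f11672 IH) (Lpe (K3.f11674 IH) (Lpr_gt (f84925 IH) (Lpn (LP (LK LD1_c7 LD2_c6 LD3_c61))))))))))))
theorem f662415 : Led Lsl_ct (LP (LK LD1_c7 LD2_c6 LD3_c61)) = (LP (LK LD1_c7 LD2_c20 LD3_c48)) :=
  Leop (Lpr_cf (f662414 IH) (Lpn (LP (LK LD1_c7 LD2_c6 LD3_c61))))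
theorem seed_462 : LEOK LG_c (LK LD1_c7 LD2_c6 LD3_c61) :=
  Leoe_c (LK LD1_c7 LD2_c6 LD3_c61) (f662415 IH)
theorem f142945 : Led Lsl_ct (LP (LK LD1_c1 LD2_c47 LD3_c5)) = (LP (LK LD1_c3 LD2_c40 LD3_c19)) :=
  Lre_c IH (LK LD1_c1 LD2_c47 LD3_c5) (LK LD1_c3 LD2_c40 LD3_c19) Lrfl Lrfl
theorem f14940 : Led Lsl_bt (LP (LK LD1_c0 LD2_c54 LD3_c3)) = (LP (LK LD1_c1 LD2_c54 LD3_c43)) :=
  Lre_b IH (LK LD1_c0 LD2_c54 LD3_c3) (LK LD1_c1 LD2_c54 LD3_c43) Lrfl Lrfl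
def v2744 : LQ := Led Lsl_gt (LP (LK LD1_c1 LD2_c54 LD3_c34))
theorem f531719 : Led Lsl_gt (LP (LK LD1_c1 LD2_c54 LD3_c34)) = v2744 :=
  Lrfl
theorem f17261 : Led Lsl_ft (LP (LK LD1_c1 LD2_c54 LD3_c43)) = (LP (LK LD1_c0 LD2_c53 LD3_c59)) :=
  Lre_f IH (LK LD1_c1 LD2_c54 LD3_c43) (LK LD1_c0 LD2_c53 LD3_c59) Lrfl Lrfl
theorem f531725 : Led Lsl_af (LP (LK LD1_c1 LD2_c54 LD3_c43)) = K34.v2746 :=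
  Lgr Lrot45 (Lpr_ft (f17261 IH) (Lpr_at (K24.f14920 IH) (Lpr_ft (K34.f531724 IH) (Lpn K34.v2746))))
theorem f531728 : Led Lsl_gt v2744 = (LP (LK LD1_c1 LD2_c54 LD3_c43)) :=
  Lgr Lrot46 (Lpe (f531719 IH) (Lpr_ft (K34.f531724 IH) (Lpe (f531725 IH) (Lpn (LP (LK LD1_c1 LD2_c54 LD3_c43))))))
theorem f662419 : Led Lsl_bf v2744 = (LP (LK LD1_c7 LD2_c6 LD3_c61)) :=
  Lgr Lrot156 (Lpr_gt (f531728 IH) (Lpe (f14940 IH) (Lpr_ct (K29.f490420 IH) (Lpr_gt (K29.f491350 IH) (Lpe (K29.f491352 IH) (Lpr_bt (K29.f491433 IH) (Lpe (K29.f491440 IH) (Lpr_ct (f142945 IH) (Lpr_gt (f425277 IH) (Lpr_cf (f662414 IH) (Lpn (LP (LK LD1_c7 LD2_c6 LD3_c61)))))))))))))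
theorem f655921 : Led Lsl_af (LP (LK LD1_c13 LD2_c2 LD3_c59)) = (LP (LK LD1_c6 LD2_c52 LD3_c10)) :=
  Lgr Lrot68 (Lpr_ct (K29.f460874 IH) (Lpr_at (K46.f655917 IH) (Lpr_ct (K28.f472705 IH) (Lpn (LP (LK LD1_c6 LD2_c52 LD3_c10))))))
theorem f656573 : Led Lsl_ft (LP (LK LD1_c13 LD2_c2 LD3_c60)) = (LP (LK LD1_c6 LD2_c52 LD3_c10)) :=
  Lgr Lrot101 (Lpr_af (K46.f655895 IH) (Lpe (K46.f655907 IH) (Lpr_af (f655921 IH) (Lpn (LP (LK LD1_c6 LD2_c52 LD3_c10))))))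
theorem f656580 : Led Lsl_ff (LP (LK LD1_c13 LD2_c2 LD3_c60)) = (LP (LK LD1_c6 LD2_c52 LD3_c10)) :=
  Lgr Lrot3 (Lpr_ft (f656573 IH) (Lpn (LP (LK LD1_c6 LD2_c52 LD3_c10))))
theorem f656584 : Led Lsl_ft (LP (LK LD1_c6 LD2_c51 LD3_c39)) = (LP (LK LD1_c3 LD2_c24 LD3_c50)) :=
  Lgr Lrot54 (Lpe (K46.f98731 IH) (Lpr_ff (f656580 IH) (Lpe (K28.f468318 IH) (Lpn (LP (LK LD1_c3 LD2_c24 LD3_c50))))))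
theorem f458501 : Led Lsl_at (LP (LK LD1_c7 LD2_c2 LD3_c42)) = (LP (LK LD1_c13 LD2_c21 LD3_c34)) :=
  Lre_a IH (LK LD1_c7 LD2_c2 LD3_c42) (LK LD1_c13 LD2_c21 LD3_c34) Lrfl Lrfl
theorem f655566 : Led Lsl_at (LP (LK LD1_c3 LD2_c24 LD3_c54)) = (LP (LK LD1_c6 LD2_c51 LD3_c39)) :=
  Lgr Lrot67 (Lpe (K28.f463396 IH) (Lpr_af (K46.f655562 IH) (Lpe (K46.f655508 IH) (Lpe (f458501 IH) (Lpr_bf (K46.f457650 IH) (Lpn (LP (LK LD1_c6 LD2_c51 LD3_c39))))))))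
theorem f654659 : Led Lsl_ff (LP (LK LD1_c3 LD2_c24 LD3_c54)) = (LP (LK LD1_c6 LD2_c51 LD3_c38)) :=
  Lgr Lrot23 (Lpr_ct (K28.f18999 IH) (Lpqs (K46.f654646 IH) (Lpe (K46.f654546 IH) (Lpr_ct (K28.f15811 IH) (Lpn (LP (LK LD1_c6 LD2_c51 LD3_c38)))))))
theorem f656587 : Led Lsl_af (LP (LK LD1_c6 LD2_c51 LD3_c38)) = (LP (LK LD1_c3 LD2_c24 LD3_c50)) :=
  Lgr Lrot45 (Lpe (f654659 IH) (Lpr_at (f655566 IH) (Lpr_ft (f656584 IH) (Lpn (LP (LK LD1_c3 LD2_c24 LD3_c50))))))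
theorem f98759 : Led Lsl_et (LP (LK LD1_c6 LD2_c52 LD3_c11)) = (LP (LK LD1_c3 LD2_c24 LD3_c50)) :=
  Lre_e IH (LK LD1_c6 LD2_c52 LD3_c11) (LK LD1_c3 LD2_c24 LD3_c50) Lrfl Lrfl
theorem f656602 : Led Lsl_at (LP (LK LD1_c7 LD2_c18 LD3_c45)) = (LP (LK LD1_c6 LD2_c52 LD3_c11)) :=
  Lgr Lrot80 (Lpr_ef (K34.f532626 IH) (Lpr_af (f656587 IH) (Lpe (f98759 IH) (Lpn (LP (LK LD1_c6 LD2_c52 LD3_c11))))))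
theorem f656608 : Led Lsl_af (LP (LK LD1_c13 LD2_c50 LD3_c6)) = (LP (LK LD1_c13 LD2_c3 LD3_c60)) :=
  Lgr Lrot117 (Lpr_dt (K34.f532605 IH) (Lpr_at (f656602 IH) (Lpr_dt (K34.f98760 IH) (Lpn (LP (LK LD1_c13 LD2_c3 LD3_c60))))))
theorem f525910 : Led Lsl_ft (LP (LK LD1_c3 LD2_c31 LD3_c33)) = (LP (LK LD1_c1 LD2_c47 LD3_c53)) :=
  Lgr Lrot2 (Lpr_gt (K24.f455672 IH) (Lpr_gt (K30.f455670 IH) (Lpr_af (K45.f525899 IH) (Lpn (LP (LK LD1_c1 LD2_c47 LD3_c53))))))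
theorem f525916 : Led Lsl_ff (LP (LK LD1_c3 LD2_c31 LD3_c33)) = (LP (LK LD1_c1 LD2_c47 LD3_c53)) :=
  Lgr Lrot3 (Lpr_ft (f525910 IH) (Lpn (LP (LK LD1_c1 LD2_c47 LD3_c53))))
theorem f491453 : Led Lsl_bt (LP (LK LD1_c3 LD2_c31 LD3_c33)) = (LP (LK LD1_c7 LD2_c4 LD3_c47)) :=
  Lre_b IH (LK LD1_c3 LD2_c31 LD3_c33) (LK LD1_c7 LD2_c4 LD3_c47) Lrfl Lrfl
theorem f525918 : Led Lsl_ft (LP (LK LD1_c7 LD2_c4 LD3_c47)) = (LP (LK LD1_c3 LD2_c41 LD3_c55)) :=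
  Lgr Lrot75 (Lpe (f491453 IH) (Lpr_ff (f525916 IH) (Lpe (K34.f478572 IH) (Lpn (LP (LK LD1_c3 LD2_c41 LD3_c55))))))
theorem f523793 : Led Lsl_at (LP (LK LD1_c3 LD2_c41 LD3_c55)) = (LP (LK LD1_c3 LD2_c45 LD3_c3)) :=
  Lgr Lrot80 (Lpe (f483572 IH) (Lpr_af (K34.f523785 IH) (Lpe (K45.f85258 IH) (Lpn (LP (LK LD1_c3 LD2_c45 LD3_c3))))))
theorem f523885 : Led Lsl_af (LP (LK LD1_c1 LD2_c47 LD3_c52)) = (LP (LK LD1_c1 LD2_c53 LD3_c53)) :=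
  Lgr Lrot0 (Lpr_at (K34.f523883 IH) (Lpn (LP (LK LD1_c1 LD2_c53 LD3_c53))))
theorem f524170 : Led Lsl_af (LP (LK LD1_c1 LD2_c47 LD3_c48)) = K34.v2516 :=
  Lgr Lrot45 (Lpr_ft (K34.f524168 IH) (Lpe (f523885 IH) (Lpr_ft (K34.f523882 IH) (Lpn K34.v2516))))
theorem f523723 : Led Lsl_bt (LP (LK LD1_c3 LD2_c44 LD3_c61)) = K34.v2516 :=
  Lgr Lrot95 (Lpe (f85253 IH) (Lpr_bf (K34.f483468 IH) (Lpr_df (K34.f523721 IH) (Lpn K34.v2516))))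
theorem f524177 : Led Lsl_af (LP (LK LD1_c3 LD2_c44 LD3_c61)) = (LP (LK LD1_c7 LD2_c30 LD3_c35)) :=
  Lgr Lrot36 (Lpr_bt (f523723 IH) (Lpe (f524170 IH) (Lpr_bt (K33.f468082 IH) (Lpr_at (K34.f524173 IH) (Lpe (K32.f482919 IH) (Lpn (LP (LK LD1_c7 LD2_c30 LD3_c35))))))))
theorem f525814 : Led Lsl_gf (LP (LK LD1_c3 LD2_c48 LD3_c5)) = (LP (LK LD1_c3 LD2_c45 LD3_c2)) :=
  Lgr Lrot47 (Lpr_gt (f525809 IH) (Lpr_af (f524177 IH) (Lpr_ff (f523812 IH) (Lpn (LP (LK LD1_c3 LD2_c45 LD3_c2))))))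
theorem f488390 : Led Lsl_ct (LP (LK LD1_c6 LD2_c54 LD3_c12)) = (LP (LK LD1_c3 LD2_c44 LD3_c30)) :=
  Lgr Lrot7 (Lpr_df (K35.f488367 IH) (Lpe (K35.f472800 IH) (Lpe (K28.f469051 IH) (Lpe (K28.f468093 IH) (Lpr_cf (K24.f95189 IH) (Lpqs (K29.f464226 IH) (Lpe (K29.f459884 IH) (Lpr_dt (K29.f63008 IH) (Lpr_gt (K34.f63011 IH) (Lpe (K34.f483790 IH) (Lpn (LP (LK LD1_c3 LD2_c44 LD3_c30)))))))))))))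
theorem f512290 : Led Lsl_gt (LP (LK LD1_c3 LD2_c44 LD3_c30)) = (LP (LK LD1_c7 LD2_c3 LD3_c9)) :=
  Lgr Lrot150 (Lpe (f488390 IH) (Lpr_gf (K35.f488400 IH) (Lpe (K28.f98725 IH) (Lpe (K28.f464101 IH) (Lpe (K32.f473078 IH) (Lpr_gt (K28.f473053 IH) (Lpr_ct (K28.f465310 IH) (Lpe (K33.f15297 IH) (Lpr_cf (K33.f512278 IH) (Lpn (LP (LK LD1_c7 LD2_c3 LD3_c9))))))))))))
theorem f468341 : Led Lsl_et (LP (LK LD1_c3 LD2_c30 LD3_c36)) = (LP (LK LD1_c7 LD2_c3 LD3_c10)) :=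
  Lre_e IH (LK LD1_c3 LD2_c30 LD3_c36) (LK LD1_c7 LD2_c3 LD3_c10) Lrfl Lrfl
theorem f124896 : Led Lsl_et (LP (LK LD1_c1 LD2_c49 LD3_c37)) = (LP (LK LD1_c3 LD2_c45 LD3_c3)) :=
  Lre_e IH (LK LD1_c1 LD2_c49 LD3_c37) (LK LD1_c3 LD2_c45 LD3_c3) Lrfl Lrfl
theorem f525873 : Led Lsl_gt (LP (LK LD1_c7 LD2_c3 LD3_c10)) = (LP (LK LD1_c3 LD2_c45 LD3_c3)) :=
  Lgr Lrot131 (Lpe (f468341 IH) (Lpr_dt (K33.f468338 IH) (Lpe (f512290 IH) (Lpr_df (K34.f483790 IH) (Lpe (K34.f63011 IH) (Lpe (K29.f62994 IH) (Lpe (K34.f62972 IH) (Lpr_gf (f525814 IH) (Lpe (K28.f85224 IH) (Lpr_et (f124896 IH) (Lpn (LP (LK LD1_c3 LD2_c45 LD3_c3)))))))))))))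
theorem f525926 : Led Lsl_gt (LP (LK LD1_c7 LD2_c4 LD3_c47)) = (LP (LK LD1_c7 LD2_c3 LD3_c10)) :=
  Lgr Lrot5 (Lpr_ft (f525918 IH) (Lpr_at (f523793 IH) (Lpe (f525873 IH) (Lpn (LP (LK LD1_c7 LD2_c3 LD3_c10))))))
theorem f458339 : Led Lsl_ct (LP (LK LD1_c13 LD2_c25 LD3_c17)) = (LP (LK LD1_c7 LD2_c4 LD3_c47)) :=
  Lre_c IH (LK LD1_c13 LD2_c25 LD3_c17) (LK LD1_c7 LD2_c4 LD3_c47) Lrfl Lrfl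
theorem f458338 : Led Lsl_dt (LP (LK LD1_c7 LD2_c18 LD3_c44)) = (LP (LK LD1_c13 LD2_c50 LD3_c4)) :=
  Lre_d IH (LK LD1_c7 LD2_c18 LD3_c44) (LK LD1_c13 LD2_c50 LD3_c4) Lrfl Lrfl
theorem f457765 : Led Lsl_ct (LP (LK LD1_c7 LD2_c53 LD3_c30)) = (LP (LK LD1_c14 LD2_c52 LD3_c61)) :=
  Lre_c IH (LK LD1_c7 LD2_c53 LD3_c30) (LK LD1_c14 LD2_c52 LD3_c61) Lrfl Lrfl
theorem f525930 : Led Lsl_gt (LP (LK LD1_c13 LD2_c50 LD3_c4)) = (LP (LK LD1_c7 LD2_c53 LD3_c30)) :=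
  Lgr Lrot9 (Lpe (f458338 IH) (Lpr_gt (K24.f458334 IH) (Lpr_ct (f458339 IH) (Lpr_gt (f525926 IH) (Lpr_ct (K34.f512633 IH) (Lpe (K34.f90996 IH) (Lpe (K34.f91004 IH) (Lpr_gf (K34.f512902 IH) (Lpe (f457765 IH) (Lpn (LP (LK LD1_c7 LD2_c53 LD3_c30))))))))))))
theorem f656614 : Led Lsl_ft (LP (LK LD1_c13 LD2_c50 LD3_c4)) = (LP (LK LD1_c13 LD2_c3 LD3_c60)) :=
  Lgr Lrot2 (Lpr_gt (f525930 IH) (Lpe (K34.f532606 IH) (Lpr_af (f656608 IH) (Lpn (LP (LK LD1_c13 LD2_c3 LD3_c60))))))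
theorem f656618 : Led Lsl_ff (LP (LK LD1_c13 LD2_c50 LD3_c4)) = (LP (LK LD1_c13 LD2_c3 LD3_c60)) :=
  Lgr Lrot3 (Lpr_ft (f656614 IH) (Lpn (LP (LK LD1_c13 LD2_c3 LD3_c60))))
theorem f458337 : Led Lsl_dt (LP (LK LD1_c13 LD2_c50 LD3_c4)) = (LP (LK LD1_c7 LD2_c18 LD3_c44)) :=
  Lre_d IH (LK LD1_c13 LD2_c50 LD3_c4) (LK LD1_c7 LD2_c18 LD3_c44) Lrfl Lrfl
theorem f656620 : Led Lsl_ft (LP (LK LD1_c7 LD2_c18 LD3_c44)) = (LP (LK LD1_c6 LD2_c52 LD3_c11)) :=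
  Lgr Lrot54 (Lpe (f458337 IH) (Lpr_ff (f656618 IH) (Lpe (K34.f98760 IH) (Lpn (LP (LK LD1_c6 LD2_c52 LD3_c11))))))
theorem f656689 : Led Lsl_ff (LP (LK LD1_c3 LD2_c39 LD3_c10)) = (LP (LK LD1_c3 LD2_c24 LD3_c52)) :=
  Lgr Lrot23 (Lpr_ct (K24.f455693 IH) (Lpr_ft (f656620 IH) (Lpr_ct (K43.f458389 IH) (Lpn (LP (LK LD1_c3 LD2_c24 LD3_c52))))))
theorem f64401 : Led Lsl_gt (LP (LK LD1_c3 LD2_c51 LD3_c11)) = (LP (LK LD1_c1 LD2_c52 LD3_c26)) :=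
  Lre_g IH (LK LD1_c3 LD2_c51 LD3_c11) (LK LD1_c1 LD2_c52 LD3_c26) Lrfl Lrfl
theorem f457511 : Led Lsl_ct (LP (LK LD1_c1 LD2_c52 LD3_c26)) = (LP (LK LD1_c3 LD2_c51 LD3_c12)) :=
  Lre_c IH (LK LD1_c1 LD2_c52 LD3_c26) (LK LD1_c3 LD2_c51 LD3_c12) Lrfl Lrfl
theorem f457512 : Led Lsl_gt (LP (LK LD1_c3 LD2_c51 LD3_c12)) = (LP (LK LD1_c7 LD2_c43 LD3_c48)) :=
  Lre_g IH (LK LD1_c3 LD2_c51 LD3_c12) (LK LD1_c7 LD2_c43 LD3_c48) Lrfl Lrfl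
theorem f493609 : Led Lsl_ct (LP (LK LD1_c7 LD2_c43 LD3_c48)) = (LP (LK LD1_c13 LD2_c50 LD3_c4)) :=
  Lgr Lrot110 (Lpe (f457512 IH) (Lpe (f457511 IH) (Lpe (f64401 IH) (Lpe (K34.f457490 IH) (Lpr_gt (K30.f493607 IH) (Lpr_ct (K46.f455199 IH) (Lpr_gt (K24.f455691 IH) (Lpr_ct (K24.f455693 IH) (Lpe (f458337 IH) (Lpn (LP (LK LD1_c13 LD2_c50 LD3_c4))))))))))))
theorem f493613 : Led Lsl_cf (LP (LK LD1_c7 LD2_c43 LD3_c48)) = (LP (LK LD1_c13 LD2_c50 LD3_c4)) :=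
  Lgr Lrot11 (Lpr_ct (f493609 IH) (Lpn (LP (LK LD1_c13 LD2_c50 LD3_c4))))
theorem f470926 : Led Lsl_gt (LP (LK LD1_c7 LD2_c43 LD3_c48)) = (LP (LK LD1_c14 LD2_c32 LD3_c53)) :=
  Lre_g IH (LK LD1_c7 LD2_c43 LD3_c48) (LK LD1_c14 LD2_c32 LD3_c53) Lrfl Lrfl
theorem f457624 : Led Lsl_ct (LP (LK LD1_c14 LD2_c32 LD3_c53)) = (LP (LK LD1_c7 LD2_c43 LD3_c2)) :=
  Lre_c IH (LK LD1_c14 LD2_c32 LD3_c53) (LK LD1_c7 LD2_c43 LD3_c2) Lrfl Lrfl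
theorem f493625 : Led Lsl_gt (LP (LK LD1_c7 LD2_c53 LD3_c5)) = (LP (LK LD1_c13 LD2_c50 LD3_c4)) :=
  Lgr Lrot9 (Lpe (K34.f96850 IH) (Lpe (K29.f470920 IH) (Lpr_ct (K29.f457722 IH) (Lpr_gt (K29.f14858 IH) (Lpr_ct (K34.f14817 IH) (Lpe (K0.f14851 IH) (Lpe (f457624 IH) (Lpe (f470926 IH) (Lpr_cf (f493613 IH) (Lpn (LP (LK LD1_c13 LD2_c50 LD3_c4))))))))))))
theorem f17258 : Led Lsl_dt (LP (LK LD1_c0 LD2_c24 LD3_c15)) = (LP (LK LD1_c0 LD2_c53 LD3_c59)) :=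
  Lre_d IH (LK LD1_c0 LD2_c24 LD3_c15) (LK LD1_c0 LD2_c53 LD3_c59) Lrfl Lrfl
theorem f493635 : Led Lsl_dt (LP (LK LD1_c1 LD2_c54 LD3_c41)) = (LP (LK LD1_c3 LD2_c39 LD3_c10)) :=
  Lgr Lrot105 (Lpe (K35.f17276 IH) (Lpe (f17258 IH) (Lpe (K29.f17265 IH) (Lpe (K29.f471177 IH) (Lpe (K34.f471206 IH) (Lpr_dt (K34.f96850 IH) (Lpr_gt (f493625 IH) (Lpr_dt (f458337 IH) (Lpe (K24.f455693 IH) (Lpn (LP (LK LD1_c3 LD2_c39 LD3_c10))))))))))))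
theorem f493641 : Led Lsl_df (LP (LK LD1_c1 LD2_c54 LD3_c41)) = (LP (LK LD1_c3 LD2_c39 LD3_c10)) :=
  Lgr Lrot38 (Lpr_dt (f493635 IH) (Lpn (LP (LK LD1_c3 LD2_c39 LD3_c10))))
def v2764 : LQ := Led Lsl_ft (LP (LK LD1_c1 LD2_c54 LD3_c41))
theorem f532573 : Led Lsl_ft (LP (LK LD1_c1 LD2_c54 LD3_c41)) = v2764 :=
  Lrfl
def v2745 : LQ := Led Lsl_gf (LP (LK LD1_c1 LD2_c54 LD3_c34))
theorem f531720 : Led Lsl_gf (LP (LK LD1_c1 LD2_c54 LD3_c34)) = v2745 :=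
  Lrfl
theorem f14611 : Led Lsl_et (LP (LK LD1_c0 LD2_c53 LD3_c56)) = (LP (LK LD1_c0 LD2_c24 LD3_c14)) :=
  Lre_e IH (LK LD1_c0 LD2_c53 LD3_c56) (LK LD1_c0 LD2_c24 LD3_c14) Lrfl Lrfl
theorem f19144 : Led Lsl_et (LP (LK LD1_c3 LD2_c24 LD3_c52)) = (LP (LK LD1_c1 LD2_c38 LD3_c50)) :=
  Lre_e IH (LK LD1_c3 LD2_c24 LD3_c52) (LK LD1_c1 LD2_c38 LD3_c50) Lrfl Lrfl
theorem f531722 : Led Lsl_dt (LP (LK LD1_c3 LD2_c24 LD3_c52)) = v2745 :=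
  Lgr Lrot136 (Lpr_et (f19144 IH) (Lpe (K28.f18584 IH) (Lpe (K28.f18196 IH) (Lpr_dt (K1.f12844 IH) (Lpe (K2.f18617 IH) (Lpr_df (K2.f91301 IH) (Lpe (K2.f91297 IH) (Lpe (f14611 IH) (Lpr_dt (K24.f14612 IH) (Lpr_gf (f531720 IH) (Lpn v2745)))))))))))
theorem f531723 : Led Lsl_df (LP (LK LD1_c3 LD2_c24 LD3_c52)) = v2745 :=
  Lgr Lrot38 (Lpr_dt (f531722 IH) (Lpn v2745))
theorem f656695 : v2764 = v2745 :=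
  (Llr Lrot54 (Lpe (f532573 IH) (Lpr_df (f493641 IH) (Lpr_ff (f656689 IH) (Lpr_df (f531723 IH) (Lpn v2745)))))).symm
theorem f532575 : Led Lsl_ff (LP (LK LD1_c1 LD2_c54 LD3_c41)) = v2764 :=
  Lgr Lrot3 (Lpr_ft (f532573 IH) (Lpn v2764))
theorem f656696 : K35.v2762 = v2744 :=
  (Llr Lrot26 (Lpe (K35.f532567 IH) (Lpr_ff (f532575 IH) (Lpqs (f656695 IH) (Lpe (f531720 IH) (Lpr_gt (f531719 IH) (Lpn v2744))))))).symm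
theorem f532570 : Led Lsl_ff K34.v906 = K35.v2762 :=
  Lgr Lrot3 (Lpr_ft (K35.f532569 IH) (Lpn K35.v2762))
theorem f662421 : Led Lsl_ft K47.v3519 = (LP (LK LD1_c7 LD2_c6 LD3_c61)) :=
  Lgr Lrot75 (Lpe (K47.f626076 IH) (Lpr_ff (f532570 IH) (Lpqs (f656696 IH) (Lpr_bf (f662419 IH) (Lpn (LP (LK LD1_c7 LD2_c6 LD3_c61)))))))
theorem f659231 : Led Lsl_cf K47.v3519 = (LP (LK LD1_c7 LD2_c26 LD3_c10)) :=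
  Lgr Lrot11 (Lpr_ct (K47.f659229 IH) (Lpn (LP (LK LD1_c7 LD2_c26 LD3_c10))))
theorem f662422 : Led Lsl_ff (LP (LK LD1_c7 LD2_c26 LD3_c10)) = (LP (LK LD1_c7 LD2_c20 LD3_c48)) :=
  Lgr Lrot23 (Lpe (f659231 IH) (Lpr_ft (f662421 IH) (Lpe (f662414 IH) (Lpn (LP (LK LD1_c7 LD2_c20 LD3_c48))))))
theorem f662423 : Led Lsl_ft (LP (LK LD1_c7 LD2_c20 LD3_c48)) = (LP (LK LD1_c7 LD2_c26 LD3_c10)) :=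
  Leop (Lpr_ff (f662422 IH) (Lpn (LP (LK LD1_c7 LD2_c20 LD3_c48))))
theorem seed_463 : LEOK LG_f (LK LD1_c7 LD2_c20 LD3_c48) :=
  Leoe_f (LK LD1_c7 LD2_c20 LD3_c48) (f662423 IH)
def v7224 : LQ := Led Lsl_ft (LP (LK LD1_c3 LD2_c42 LD3_c56))
theorem f662488 : Led Lsl_ft (LP (LK LD1_c3 LD2_c42 LD3_c56)) = v7224 :=
  Lrfl
theorem f203601 : Led Lsl_gt (LP (LK LD1_c3 LD2_c42 LD3_c56)) = (LP (LK LD1_c7 LD2_c26 LD3_c35)) :=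
  Lre_g IH (LK LD1_c3 LD2_c42 LD3_c56) (LK LD1_c7 LD2_c26 LD3_c35) Lrfl Lrfl
theorem f662489 : Led Lsl_af (LP (LK LD1_c7 LD2_c21 LD3_c31)) = v7224 :=
  Lgr Lrot45 (Lpr_ft (K47.f13147 IH) (Lpe (K7.f13133 IH) (Lpr_ft (f662488 IH) (Lpn v7224))))
theorem f662493 : Led Lsl_gt (LP (LK LD1_c7 LD2_c26 LD3_c35)) = (LP (LK LD1_c7 LD2_c21 LD3_c31)) :=
  Lgr Lrot46 (Lpe (f203601 IH) (Lpr_ft (f662488 IH) (Lpe (f662489 IH) (Lpn (LP (LK LD1_c7 LD2_c21 LD3_c31))))))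
theorem f662494 : Led Lsl_gt (LP (LK LD1_c7 LD2_c26 LD3_c35)) = (LP (LK LD1_c7 LD2_c21 LD3_c31)) :=
  Leop (Lpe (f662493 IH) (Lpn (LP (LK LD1_c7 LD2_c26 LD3_c35))))
theorem seed_464 : LEOK LG_g (LK LD1_c7 LD2_c26 LD3_c35) :=
  Leoe_g (LK LD1_c7 LD2_c26 LD3_c35) (f662494 IH)
theorem f662492 : Led Lsl_ff (LP (LK LD1_c3 LD2_c42 LD3_c56)) = v7224 :=
  Lgr Lrot3 (Lpr_ft (f662488 IH) (Lpn v7224))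
theorem f13405 : Led Lsl_gt (LP (LK LD1_c7 LD2_c21 LD3_c29)) = (LP (LK LD1_c3 LD2_c40 LD3_c38)) :=
  Lre_g IH (LK LD1_c7 LD2_c21 LD3_c29) (LK LD1_c3 LD2_c40 LD3_c38) Lrfl Lrfl
theorem f662515 : Led Lsl_gf (LP (LK LD1_c7 LD2_c21 LD3_c29)) = v7224 :=
  Lgr Lrot47 (Lpr_gt (f13405 IH) (Lpe (K34.f12869 IH) (Lpr_ff (f662492 IH) (Lpn v7224))))
theorem f486077 : Led Lsl_ct (LP (LK LD1_c7 LD2_c21 LD3_c29)) = (LP (LK LD1_c13 LD2_c54 LD3_c40)) :=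
  Lre_c IH (LK LD1_c7 LD2_c21 LD3_c29) (LK LD1_c13 LD2_c54 LD3_c40) Lrfl Lrfl
def v2554 : LQ := Led Lsl_ft (LP (LK LD1_c1 LD2_c48 LD3_c30))
theorem f527451 : Led Lsl_ft (LP (LK LD1_c1 LD2_c48 LD3_c30)) = v2554 :=
  Lrfl
theorem f662512 : Led Lsl_bt v2554 = v7224 :=
  Lgr Lrot35 (Lpe (f527451 IH) (Lpe (K34.f13141 IH) (Lpr_ff (f662492 IH) (Lpn v7224))))
theorem f527453 : Led Lsl_cf K33.v798 = v2554 :=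
  Lgr Lrot108 (Lpe (K33.f459439 IH) (Lpr_ct (K34.f436814 IH) (Lpr_ft (f527451 IH) (Lpn v2554))))
theorem f459441 : Led Lsl_at K33.v198 = K33.v798 :=
  Lgr Lrot66 (Lpe (K33.f451032 IH) (Lpe (K33.f436825 IH) (Lpr_ff (K33.f459439 IH) (Lpn K33.v798))))
theorem f459448 : Led Lsl_gt (LP (LK LD1_c0 LD2_c51 LD3_c22)) = K33.v798 :=
  Lgr Lrot46 (Lpe (K33.f12853 IH) (Lpr_ft (K33.f451032 IH) (Lpr_at (f459441 IH) (Lpn K33.v798))))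
theorem f439262 : Led Lsl_et (LP (LK LD1_c13 LD2_c55 LD3_c18)) = (LP (LK LD1_c7 LD2_c21 LD3_c49)) :=
  Lre_e IH (LK LD1_c13 LD2_c55 LD3_c18) (LK LD1_c7 LD2_c21 LD3_c49) Lrfl Lrfl
theorem f439263 : Led Lsl_et (LP (LK LD1_c7 LD2_c27 LD3_c42)) = (LP (LK LD1_c14 LD2_c5 LD3_c9)) :=
  Lre_e IH (LK LD1_c7 LD2_c27 LD3_c42) (LK LD1_c14 LD2_c5 LD3_c9) Lrfl Lrfl
theorem f439264 : Led Lsl_cf (LP (LK LD1_c13 LD2_c55 LD3_c18)) = (LP (LK LD1_c14 LD2_c5 LD3_c9)) :=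
  Lgr Lrot39 (Lpr_et (f439262 IH) (Lpr_ct (K24.f439255 IH) (Lpr_et (f439263 IH) (Lpn (LP (LK LD1_c14 LD2_c5 LD3_c9))))))
theorem f662516 : Led Lsl_gt (LP (LK LD1_c13 LD2_c54 LD3_c40)) = (LP (LK LD1_c13 LD2_c55 LD3_c18)) :=
  Lgr Lrot149 (Lpe (f486077 IH) (Lpr_gf (f662515 IH) (Lpe (f662512 IH) (Lpe (f527453 IH) (Lpe (f459448 IH) (Lpe (f13412 IH) (Lpr_bt (f13413 IH) (Lpr_gf (f661383 IH) (Lpe (f439239 IH) (Lpe (f439264 IH) (Lpn (LP (LK LD1_c13 LD2_c55 LD3_c18)))))))))))))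
theorem f662517 : Led Lsl_gt (LP (LK LD1_c13 LD2_c54 LD3_c40)) = (LP (LK LD1_c13 LD2_c55 LD3_c18)) :=
  Leop (Lpe (f662516 IH) (Lpn (LP (LK LD1_c13 LD2_c54 LD3_c40))))
theorem seed_465 : LEOK LG_g (LK LD1_c13 LD2_c54 LD3_c40) :=
  Leoe_g (LK LD1_c13 LD2_c54 LD3_c40) (f662517 IH)
def v7228 : LQ := Led Lsl_ft (LP (LK LD1_c3 LD2_c42 LD3_c58))
theorem f662539 : Led Lsl_ft (LP (LK LD1_c3 LD2_c42 LD3_c58)) = v7228 :=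
  Lrfl
theorem f662542 : Led Lsl_ff (LP (LK LD1_c3 LD2_c42 LD3_c58)) = v7228 :=
  Lgr Lrot3 (Lpr_ft (f662539 IH) (Lpn v7228))
theorem f13260 : Led Lsl_at (LP (LK LD1_c3 LD2_c42 LD3_c58)) = (LP (LK LD1_c1 LD2_c49 LD3_c12)) :=
  Lre_a IH (LK LD1_c3 LD2_c42 LD3_c58) (LK LD1_c1 LD2_c49 LD3_c12) Lrfl Lrfl
theorem f13082 : Led Lsl_gt (LP (LK LD1_c3 LD2_c44 LD3_c23)) = (LP (LK LD1_c1 LD2_c49 LD3_c12)) :=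
  Lre_g IH (LK LD1_c3 LD2_c44 LD3_c23) (LK LD1_c1 LD2_c49 LD3_c12) Lrfl Lrfl
theorem f662560 : Led Lsl_gf (LP (LK LD1_c3 LD2_c44 LD3_c23)) = v7228 :=
  Lgr Lrot47 (Lpr_gt (f13082 IH) (Lpe (f13260 IH) (Lpr_ff (f662542 IH) (Lpn v7228))))
theorem f660431 : Led Lsl_ct (LP (LK LD1_c3 LD2_c44 LD3_c23)) = (LP (LK LD1_c7 LD2_c29 LD3_c48)) :=
  Lre_c IH (LK LD1_c3 LD2_c44 LD3_c23) (LK LD1_c7 LD2_c29 LD3_c48) Lrfl Lrfl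
theorem f436877 : Led Lsl_dt (LP (LK LD1_c3 LD2_c42 LD3_c58)) = (LP (LK LD1_c1 LD2_c48 LD3_c30)) :=
  Lre_d IH (LK LD1_c3 LD2_c42 LD3_c58) (LK LD1_c1 LD2_c48 LD3_c30) Lrfl Lrfl
theorem f662559 : Led Lsl_dt v2554 = v7228 :=
  Lgr Lrot60 (Lpe (f527451 IH) (Lpe (f436877 IH) (Lpr_ff (f662542 IH) (Lpn v7228))))
theorem f527455 : Led Lsl_ff (LP (LK LD1_c1 LD2_c48 LD3_c30)) = v2554 :=
  Lgr Lrot3 (Lpr_ft (f527451 IH) (Lpn v2554))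
theorem f13142 : Led Lsl_at (LP (LK LD1_c1 LD2_c48 LD3_c30)) = (LP (LK LD1_c0 LD2_c51 LD3_c21)) :=
  Lre_a IH (LK LD1_c1 LD2_c48 LD3_c30) (LK LD1_c0 LD2_c51 LD3_c21) Lrfl Lrfl
theorem f527459 : Led Lsl_gf (LP (LK LD1_c1 LD2_c49 LD3_c11)) = v2554 :=
  Lgr Lrot47 (Lpr_gt (K34.f12885 IH) (Lpe (f13142 IH) (Lpr_ff (f527455 IH) (Lpn v2554))))
theorem f137125 : Led Lsl_ct (LP (LK LD1_c1 LD2_c39 LD3_c38)) = (LP (LK LD1_c3 LD2_c25 LD3_c59)) :=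
  Lre_c IH (LK LD1_c1 LD2_c39 LD3_c38) (LK LD1_c3 LD2_c25 LD3_c59) Lrfl Lrfl
theorem f137130 : Led Lsl_ct (LP (LK LD1_c13 LD2_c6 LD3_c32)) = (LP (LK LD1_c6 LD2_c53 LD3_c51)) :=
  Lre_c IH (LK LD1_c13 LD2_c6 LD3_c32) (LK LD1_c6 LD2_c53 LD3_c51) Lrfl Lrfl
theorem f662562 : Led Lsl_gt (LP (LK LD1_c7 LD2_c29 LD3_c48)) = (LP (LK LD1_c13 LD2_c6 LD3_c32)) :=
  Lgr Lrot150 (Lpe (f660431 IH) (Lpr_gf (f662560 IH) (Lpe (f662559 IH) (Lpe (f527459 IH) (Lpr_ct (K34.f489800 IH) (Lpr_gt (K33.f128088 IH) (Lpr_ct (f137125 IH) (Lpe (f137147 IH) (Lpe (f137130 IH) (Lpn (LP (LK LD1_c13 LD2_c6 LD3_c32))))))))))))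
theorem f662563 : Led Lsl_gt (LP (LK LD1_c7 LD2_c29 LD3_c48)) = (LP (LK LD1_c13 LD2_c6 LD3_c32)) :=
  Leop (Lpe (f662562 IH) (Lpn (LP (LK LD1_c7 LD2_c29 LD3_c48))))
theorem seed_466 : LEOK LG_g (LK LD1_c7 LD2_c29 LD3_c48) :=
  Leoe_g (LK LD1_c7 LD2_c29 LD3_c48) (f662563 IH)
def v7261 : LQ := Led Lsl_gf (LP (LK LD1_c3 LD2_c43 LD3_c24))
theorem f662713 : Led Lsl_gf (LP (LK LD1_c3 LD2_c43 LD3_c24)) = v7261 :=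
  Lrfl
theorem f128338 : Led Lsl_cf (LP (LK LD1_c3 LD2_c10 LD3_c30)) = (LP (LK LD1_c3 LD2_c43 LD3_c24)) :=
  Lgr Lrot39 (Lpr_et (K34.f125659 IH) (Lpr_ct (K5.f128331 IH) (Lpr_et (K46.f128337 IH) (Lpn (LP (LK LD1_c3 LD2_c43 LD3_c24))))))
theorem f454635 : Led Lsl_ct (LP (LK LD1_c2 LD2_c22 LD3_c43)) = (LP (LK LD1_c4 LD2_c49 LD3_c58)) :=
  Lre_c IH (LK LD1_c2 LD2_c22 LD3_c43) (LK LD1_c4 LD2_c49 LD3_c58) Lrfl Lrfl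
theorem f454716 : Led Lsl_gt (LP (LK LD1_c1 LD2_c36 LD3_c52)) = (LP (LK LD1_c2 LD2_c22 LD3_c43)) :=
  Lgr Lrot46 (Lpe (K46.f414093 IH) (Lpr_ft (K35.f454000 IH) (Lpqs (K35.f454083 IH) (Lpr_at (K46.f446260 IH) (Lpn (LP (LK LD1_c2 LD2_c22 LD3_c43)))))))
def v2173 : LQ := Led Lsl_dt (LP (LK LD1_c1 LD2_c36 LD3_c52))
theorem f509467 : Led Lsl_dt (LP (LK LD1_c1 LD2_c36 LD3_c52)) = v2173 :=
  Lrfl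
theorem f646825 : Led Lsl_df (LP (LK LD1_c3 LD2_c2 LD3_c43)) = K46.v5259 :=
  Lgr Lrot38 (Lpr_dt (K46.f646824 IH) (Lpn K46.v5259))
theorem f649438 : (LP (LK LD1_c3 LD2_c2 LD3_c43)) = v2173 :=
  Lefun (Lecon (Lfl_df (f646825 IH)) (K46.f649437 IH)) (f509467 IH)
def v4252 : LQ := Led Lsl_at (LP (LK LD1_c2 LD2_c17 LD3_c38))
theorem f632211 : Led Lsl_at (LP (LK LD1_c2 LD2_c17 LD3_c38)) = v4252 :=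
  Lrfl
def v1793 : LQ := Led Lsl_ft (LP (LK LD1_c1 LD2_c27 LD3_c19))
theorem f502939 : Led Lsl_ft (LP (LK LD1_c1 LD2_c27 LD3_c19)) = v1793 :=
  Lrfl
theorem f502941 : Led Lsl_ff (LP (LK LD1_c1 LD2_c27 LD3_c19)) = v1793 :=
  Lgr Lrot3 (Lpr_ft (f502939 IH) (Lpn v1793))
theorem f502942 : Led Lsl_bt K32.v462 = v1793 :=
  Lgr Lrot35 (Lpe (K32.f453017 IH) (Lpe (K46.f414632 IH) (Lpr_ff (f502941 IH) (Lpn v1793))))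
theorem f414313 : Led Lsl_bt (LP (LK LD1_c1 LD2_c5 LD3_c43)) = (LP (LK LD1_c2 LD2_c17 LD3_c38)) :=
  Lre_b IH (LK LD1_c1 LD2_c5 LD3_c43) (LK LD1_c2 LD2_c17 LD3_c38) Lrfl Lrfl
theorem f503356 : v1793 = (LP (LK LD1_c2 LD2_c17 LD3_c38)) :=
  Lefun (Lecon (f502942 IH) (K32.f503351 IH).symm) (f414313 IH)
theorem f632215 : Led Lsl_gt (LP (LK LD1_c3 LD2_c2 LD3_c43)) = v4252 :=
  Lgr Lrot46 (Lpe (K46.f413474 IH) (Lpr_ft (f502939 IH) (Lpqs (f503356 IH) (Lpr_at (f632211 IH) (Lpn v4252)))))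
theorem f662716 : Led Lsl_ct v4252 = v7261 :=
  Lgr Lrot152 (Lpe (f632215 IH) (Lpqs (f649438 IH) (Lpe (f509467 IH) (Lpr_gt (f454716 IH) (Lpr_ct (f454635 IH) (Lpr_gt (K46.f509490 IH) (Lpqs (K46.f527842 IH) (Lpr_ct (K35.f209087 IH) (Lpe (K35.f125668 IH) (Lpr_cf (f128338 IH) (Lpr_gf (f662713 IH) (Lpn v7261))))))))))))
theorem f453011 : Led Lsl_at (LP (LK LD1_c3 LD2_c2 LD3_c44)) = (LP (LK LD1_c1 LD2_c27 LD3_c19)) :=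
  Lre_a IH (LK LD1_c3 LD2_c2 LD3_c44) (LK LD1_c1 LD2_c27 LD3_c19) Lrfl Lrfl
theorem f632214 : Led Lsl_ff (LP (LK LD1_c3 LD2_c2 LD3_c44)) = v4252 :=
  Lgr Lrot30 (Lpr_at (f453011 IH) (Lpr_ft (f502939 IH) (Lpqs (f503356 IH) (Lpr_at (f632211 IH) (Lpn v4252)))))
theorem f632221 : Led Lsl_gf K46.v1792 = v4252 :=
  Lgr Lrot47 (Lpe (K46.f502934 IH) (Lpe (f453011 IH) (Lpr_ff (f632214 IH) (Lpn v4252))))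
theorem f446266 : Led Lsl_dt (LP (LK LD1_c0 LD2_c44 LD3_c52)) = (LP (LK LD1_c1 LD2_c36 LD3_c55)) :=
  Lre_d IH (LK LD1_c0 LD2_c44 LD3_c52) (LK LD1_c1 LD2_c36 LD3_c55) Lrfl Lrfl
theorem f453996 : Led Lsl_ct (LP (LK LD1_c3 LD2_c21 LD3_c20)) = (LP (LK LD1_c1 LD2_c36 LD3_c55)) :=
  Lre_c IH (LK LD1_c3 LD2_c21 LD3_c20) (LK LD1_c1 LD2_c36 LD3_c55) Lrfl Lrfl
theorem f453995 : Led Lsl_dt (LP (LK LD1_c6 LD2_c46 LD3_c22)) = (LP (LK LD1_c3 LD2_c21 LD3_c20)) :=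
  Lre_d IH (LK LD1_c6 LD2_c46 LD3_c22) (LK LD1_c3 LD2_c21 LD3_c20) Lrfl Lrfl
theorem f148650 : Led Lsl_dt (LP (LK LD1_c3 LD2_c43 LD3_c24)) = (LP (LK LD1_c7 LD2_c27 LD3_c27)) :=
  Lre_d IH (LK LD1_c3 LD2_c43 LD3_c24) (LK LD1_c7 LD2_c27 LD3_c27) Lrfl Lrfl
theorem f662719 : Led Lsl_gf (LP (LK LD1_c6 LD2_c46 LD3_c22)) = (LP (LK LD1_c7 LD2_c27 LD3_c27)) :=
  Lgr Lrot154 (Lpr_dt (f453995 IH) (Lpr_ct (f453996 IH) (Lpe (f446266 IH) (Lpr_gf (K46.f453994 IH) (Lpr_df (K46.f624593 IH) (Lpqs (K46.f649434 IH) (Lpr_gf (f632221 IH) (Lpr_ct (f662716 IH) (Lpe (f662713 IH) (Lpr_dt (f148650 IH) (Lpn (LP (LK LD1_c7 LD2_c27 LD3_c27)))))))))))))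
theorem f662720 : Led Lsl_gt (LP (LK LD1_c7 LD2_c27 LD3_c27)) = (LP (LK LD1_c6 LD2_c46 LD3_c22)) :=
  Leop (Lpr_gf (f662719 IH) (Lpn (LP (LK LD1_c7 LD2_c27 LD3_c27))))
theorem seed_467 : LEOK LG_g (LK LD1_c7 LD2_c27 LD3_c27) :=
  Leoe_g (LK LD1_c7 LD2_c27 LD3_c27) (f662720 IH)
theorem f57646 : Led Lsl_bt (LP (LK LD1_c1 LD2_c29 LD3_c8)) = (LP (LK LD1_c3 LD2_c6 LD3_c6)) :=
  Lre_b IH (LK LD1_c1 LD2_c29 LD3_c8) (LK LD1_c3 LD2_c6 LD3_c6) Lrfl Lrfl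
def v1984 : LQ := Led Lsl_bt (LP (LK LD1_c1 LD2_c32 LD3_c54))
theorem f506757 : Led Lsl_bt (LP (LK LD1_c1 LD2_c32 LD3_c54)) = v1984 :=
  Lrfl
theorem f506758 : Led Lsl_bf (LP (LK LD1_c1 LD2_c32 LD3_c54)) = v1984 :=
  Lgr Lrot24 (Lpr_bt (f506757 IH) (Lpn v1984))
def v5326 : LQ := Led Lsl_gt (LP (LK LD1_c3 LD2_c6 LD3_c6))
theorem f647097 : Led Lsl_gt (LP (LK LD1_c3 LD2_c6 LD3_c6)) = v5326 :=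
  Lrfl
theorem f20141 : Led Lsl_bt (LP (LK LD1_c3 LD2_c3 LD3_c6)) = (LP (LK LD1_c1 LD2_c27 LD3_c28)) :=
  Lre_b IH (LK LD1_c3 LD2_c3 LD3_c6) (LK LD1_c1 LD2_c27 LD3_c28) Lrfl Lrfl
theorem f503384 : Led Lsl_ff (LP (LK LD1_c3 LD2_c3 LD3_c6)) = (LP (LK LD1_c3 LD2_c6 LD3_c6)) :=
  Lgr Lrot25 (Lpr_bt (f20141 IH) (Lpq (K32.f503373 IH) (Lpe (K32.f503220 IH) (Lpr_bt (f57646 IH) (Lpn (LP (LK LD1_c3 LD2_c6 LD3_c6)))))))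
def v5291 : LQ := Led Lsl_at (LP (LK LD1_c3 LD2_c3 LD3_c6))
theorem f646918 : Led Lsl_at (LP (LK LD1_c3 LD2_c3 LD3_c6)) = v5291 :=
  Lrfl
theorem f647098 : Led Lsl_gf v5291 = v5326 :=
  Lgr Lrot76 (Lpe (f646918 IH) (Lpr_ff (f503384 IH) (Lpr_gt (f647097 IH) (Lpn v5326))))
theorem f116079 : Led Lsl_gt (LP (LK LD1_c1 LD2_c48 LD3_c40)) = (LP (LK LD1_c3 LD2_c43 LD3_c13)) :=
  Lre_g IH (LK LD1_c1 LD2_c48 LD3_c40) (LK LD1_c3 LD2_c43 LD3_c13) Lrfl Lrfl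
theorem f415757 : Led Lsl_ct (LP (LK LD1_c3 LD2_c22 LD3_c5)) = (LP (LK LD1_c1 LD2_c37 LD3_c20)) :=
  Lre_c IH (LK LD1_c3 LD2_c22 LD3_c5) (LK LD1_c1 LD2_c37 LD3_c20) Lrfl Lrfl
theorem f503783 : Led Lsl_ft (LP (LK LD1_c1 LD2_c37 LD3_c20)) = (LP (LK LD1_c2 LD2_c22 LD3_c55)) :=
  Lgr Lrot4 (Lpe (f415757 IH) (Lpr_ff (K32.f503779 IH) (Lpe (K32.f415315 IH) (Lpn (LP (LK LD1_c2 LD2_c22 LD3_c55))))))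
theorem f454907 : Led Lsl_bt (LP (LK LD1_c3 LD2_c22 LD3_c4)) = (LP (LK LD1_c1 LD2_c37 LD3_c20)) :=
  Lre_b IH (LK LD1_c3 LD2_c22 LD3_c4) (LK LD1_c1 LD2_c37 LD3_c20) Lrfl Lrfl
theorem f415311 : Led Lsl_bt (LP (LK LD1_c2 LD2_c22 LD3_c55)) = (LP (LK LD1_c4 LD2_c50 LD3_c13)) :=
  Lre_b IH (LK LD1_c2 LD2_c22 LD3_c55) (LK LD1_c4 LD2_c50 LD3_c13) Lrfl Lrfl
theorem f504172 : Led Lsl_ff (LP (LK LD1_c3 LD2_c22 LD3_c4)) = (LP (LK LD1_c4 LD2_c50 LD3_c13)) :=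
  Lgr Lrot25 (Lpr_bt (f454907 IH) (Lpr_ft (f503783 IH) (Lpr_bt (f415311 IH) (Lpn (LP (LK LD1_c4 LD2_c50 LD3_c13))))))
theorem f504178 : Led Lsl_ft (LP (LK LD1_c3 LD2_c22 LD3_c4)) = (LP (LK LD1_c4 LD2_c50 LD3_c13)) :=
  Lgr Lrot48 (Lpr_ff (f504172 IH) (Lpn (LP (LK LD1_c4 LD2_c50 LD3_c13))))
theorem f415312 : Led Lsl_bt (LP (LK LD1_c3 LD2_c2 LD3_c47)) = (LP (LK LD1_c1 LD2_c27 LD3_c22)) :=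
  Lre_b IH (LK LD1_c3 LD2_c2 LD3_c47) (LK LD1_c1 LD2_c27 LD3_c22) Lrfl Lrfl
theorem f415313 : Led Lsl_dt (LP (LK LD1_c4 LD2_c50 LD3_c13)) = (LP (LK LD1_c3 LD2_c2 LD3_c47)) :=
  Lgr Lrot79 (Lpe (f415311 IH) (Lpr_df (K16.f415309 IH) (Lpe (f415312 IH) (Lpn (LP (LK LD1_c3 LD2_c2 LD3_c47))))))
theorem f416118 : Led Lsl_ft (LP (LK LD1_c3 LD2_c2 LD3_c47)) = (LP (LK LD1_c6 LD2_c12 LD3_c27)) :=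
  Lre_f IH (LK LD1_c3 LD2_c2 LD3_c47) (LK LD1_c6 LD2_c12 LD3_c27) Lrfl Lrfl
theorem f504183 : Led Lsl_df (LP (LK LD1_c3 LD2_c22 LD3_c4)) = (LP (LK LD1_c6 LD2_c12 LD3_c27)) :=
  Lgr Lrot78 (Lpr_ft (f504178 IH) (Lpr_dt (f415313 IH) (Lpr_ft (f416118 IH) (Lpn (LP (LK LD1_c6 LD2_c12 LD3_c27))))))
def v6464 : LQ := Led Lsl_gf (LP (LK LD1_c3 LD2_c22 LD3_c4))
theorem f653514 : Led Lsl_gf (LP (LK LD1_c3 LD2_c22 LD3_c4)) = v6464 :=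
  Lrfl
theorem f57656 : Led Lsl_dt (LP (LK LD1_c6 LD2_c17 LD3_c50)) = (LP (LK LD1_c3 LD2_c6 LD3_c6)) :=
  Lre_d IH (LK LD1_c6 LD2_c17 LD3_c50) (LK LD1_c3 LD2_c6 LD3_c6) Lrfl Lrfl
def v5328 : LQ := Led Lsl_at (LP (LK LD1_c3 LD2_c6 LD3_c6))
theorem f647101 : Led Lsl_at (LP (LK LD1_c3 LD2_c6 LD3_c6)) = v5328 :=
  Lrfl
theorem f504238 : Led Lsl_cf (LP (LK LD1_c6 LD2_c21 LD3_c44)) = (LP (LK LD1_c4 LD2_c41 LD3_c16)) :=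
  Lgr Lrot108 (Lpr_ft (K35.f504233 IH) (Lpr_ct (K32.f146022 IH) (Lpe (K32.f503553 IH) (Lpn (LP (LK LD1_c4 LD2_c41 LD3_c16))))))
theorem f504275 : Led Lsl_et (LP (LK LD1_c6 LD2_c21 LD3_c44)) = (LP (LK LD1_c6 LD2_c12 LD3_c48)) :=
  Lgr Lrot158 (Lpr_cf (f504238 IH) (Lpr_ef (K24.f20131 IH) (Lpe (K32.f20108 IH) (Lpn (LP (LK LD1_c6 LD2_c12 LD3_c48))))))
theorem f443973 : Led Lsl_ef (LP (LK LD1_c6 LD2_c12 LD3_c45)) = (LP (LK LD1_c6 LD2_c17 LD3_c48)) :=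
  Lgr Lrot28 (Lpr_ct (K35.f24649 IH) (Lpr_et (K29.f443969 IH) (Lpr_ct (K32.f68257 IH) (Lpn (LP (LK LD1_c6 LD2_c17 LD3_c48))))))
theorem f504315 : Led Lsl_af (LP (LK LD1_c6 LD2_c17 LD3_c48)) = (LP (LK LD1_c6 LD2_c12 LD3_c48)) :=
  Lgr Lrot50 (Lpe (f443973 IH) (Lpe (K35.f504223 IH) (Lpr_et (f504275 IH) (Lpn (LP (LK LD1_c6 LD2_c12 LD3_c48))))))
theorem f503487 : Led Lsl_ft (LP (LK LD1_c3 LD2_c3 LD3_c9)) = (LP (LK LD1_c3 LD2_c6 LD3_c5)) :=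
  Lgr Lrot48 (Lpr_ff (K35.f503481 IH) (Lpn (LP (LK LD1_c3 LD2_c6 LD3_c5))))
theorem f146110 : Led Lsl_ct (LP (LK LD1_c6 LD2_c12 LD3_c52)) = (LP (LK LD1_c3 LD2_c3 LD3_c9)) :=
  Lre_c IH (LK LD1_c6 LD2_c12 LD3_c52) (LK LD1_c3 LD2_c3 LD3_c9) Lrfl Lrfl
theorem f503493 : Led Lsl_ff (LP (LK LD1_c6 LD2_c12 LD3_c52)) = (LP (LK LD1_c6 LD2_c17 LD3_c48)) :=
  Lgr Lrot23 (Lpr_ct (f146110 IH) (Lpr_ft (f503487 IH) (Lpr_ct (K32.f68257 IH) (Lpn (LP (LK LD1_c6 LD2_c17 LD3_c48))))))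
theorem f503402 : Led Lsl_dt (LP (LK LD1_c11 LD2_c58 LD3_c35)) = (LP (LK LD1_c11 LD2_c25 LD3_c9)) :=
  Lgr Lrot42 (Lpr_df (K32.f503400 IH) (Lpn (LP (LK LD1_c11 LD2_c25 LD3_c9))))
theorem f57645 : Led Lsl_ct (LP (LK LD1_c11 LD2_c25 LD3_c9)) = (LP (LK LD1_c5 LD2_c47 LD3_c40)) :=
  Lre_c IH (LK LD1_c11 LD2_c25 LD3_c9) (LK LD1_c5 LD2_c47 LD3_c40) Lrfl Lrfl
theorem f57644 : Led Lsl_dt (LP (LK LD1_c5 LD2_c47 LD3_c40)) = (LP (LK LD1_c2 LD2_c49 LD3_c47)) :=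
  Lre_d IH (LK LD1_c5 LD2_c47 LD3_c40) (LK LD1_c2 LD2_c49 LD3_c47) Lrfl Lrfl
theorem f57638 : Led Lsl_cf (LP (LK LD1_c1 LD2_c29 LD3_c8)) = (LP (LK LD1_c2 LD2_c49 LD3_c47)) :=
  Lgr Lrot11 (Lpr_ct (K32.f57630 IH) (Lpn (LP (LK LD1_c2 LD2_c49 LD3_c47))))
theorem f57649 : Led Lsl_ct (LP (LK LD1_c3 LD2_c6 LD3_c7)) = (LP (LK LD1_c6 LD2_c17 LD3_c52)) :=
  Lre_c IH (LK LD1_c3 LD2_c6 LD3_c7) (LK LD1_c6 LD2_c17 LD3_c52) Lrfl Lrfl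
theorem f503495 : Led Lsl_at (LP (LK LD1_c6 LD2_c12 LD3_c52)) = (LP (LK LD1_c6 LD2_c17 LD3_c52)) :=
  Lgr Lrot33 (Lpr_ff (f503493 IH) (Lpr_dt (K35.f68265 IH) (Lpr_ct (K32.f444289 IH) (Lpr_dt (f503402 IH) (Lpr_ct (f57645 IH) (Lpr_dt (f57644 IH) (Lpe (f57638 IH) (Lpr_dt (K32.f57620 IH) (Lpr_ct (f57649 IH) (Lpn (LP (LK LD1_c6 LD2_c17 LD3_c52))))))))))))
theorem f504319 : Led Lsl_ft (LP (LK LD1_c6 LD2_c17 LD3_c52)) = (LP (LK LD1_c6 LD2_c12 LD3_c48)) :=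
  Lgr Lrot101 (Lpe (f503495 IH) (Lpr_ff (f503493 IH) (Lpr_af (f504315 IH) (Lpn (LP (LK LD1_c6 LD2_c12 LD3_c48))))))
theorem f503499 : Led Lsl_bt (LP (LK LD1_c12 LD2_c12 LD3_c3)) = (LP (LK LD1_c6 LD2_c17 LD3_c52)) :=
  Lre_b IH (LK LD1_c12 LD2_c12 LD3_c3) (LK LD1_c6 LD2_c17 LD3_c52) Lrfl Lrfl
theorem f20122 : Led Lsl_bt (LP (LK LD1_c6 LD2_c12 LD3_c48)) = (LP (LK LD1_c12 LD2_c4 LD3_c44)) :=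
  Lre_b IH (LK LD1_c6 LD2_c12 LD3_c48) (LK LD1_c12 LD2_c4 LD3_c44) Lrfl Lrfl
theorem f504321 : Led Lsl_ff (LP (LK LD1_c12 LD2_c12 LD3_c3)) = (LP (LK LD1_c12 LD2_c4 LD3_c44)) :=
  Lgr Lrot25 (Lpr_bt (f503499 IH) (Lpr_ft (f504319 IH) (Lpr_bt (f20122 IH) (Lpn (LP (LK LD1_c12 LD2_c4 LD3_c44))))))
theorem f504326 : Led Lsl_ft (LP (LK LD1_c12 LD2_c12 LD3_c3)) = (LP (LK LD1_c12 LD2_c4 LD3_c44)) :=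
  Lgr Lrot48 (Lpr_ff (f504321 IH) (Lpn (LP (LK LD1_c12 LD2_c4 LD3_c44))))
theorem f504328 : Led Lsl_ct (LP (LK LD1_c21 LD2_c17 LD3_c47)) = (LP (LK LD1_c12 LD2_c12 LD3_c3)) :=
  Lre_c IH (LK LD1_c21 LD2_c17 LD3_c47) (LK LD1_c12 LD2_c12 LD3_c3) Lrfl Lrfl
theorem f438653 : Led Lsl_ct (LP (LK LD1_c12 LD2_c4 LD3_c44)) = (LP (LK LD1_c21 LD2_c10 LD3_c1)) :=
  Lre_c IH (LK LD1_c12 LD2_c4 LD3_c44) (LK LD1_c21 LD2_c10 LD3_c1) Lrfl Lrfl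
theorem f504329 : Led Lsl_ff (LP (LK LD1_c21 LD2_c17 LD3_c47)) = (LP (LK LD1_c21 LD2_c10 LD3_c1)) :=
  Lgr Lrot23 (Lpr_ct (f504328 IH) (Lpr_ft (f504326 IH) (Lpr_ct (f438653 IH) (Lpn (LP (LK LD1_c21 LD2_c10 LD3_c1))))))
theorem f416592 : Led Lsl_bt (LP (LK LD1_c21 LD2_c17 LD3_c47)) = (LP (LK LD1_c12 LD2_c12 LD3_c2)) :=
  Lre_b IH (LK LD1_c21 LD2_c17 LD3_c47) (LK LD1_c12 LD2_c12 LD3_c2) Lrfl Lrfl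
theorem f20167 : Led Lsl_bt (LP (LK LD1_c12 LD2_c4 LD3_c43)) = (LP (LK LD1_c21 LD2_c10 LD3_c1)) :=
  Lre_b IH (LK LD1_c12 LD2_c4 LD3_c43) (LK LD1_c21 LD2_c10 LD3_c1) Lrfl Lrfl
theorem f504331 : Led Lsl_ft (LP (LK LD1_c12 LD2_c12 LD3_c2)) = (LP (LK LD1_c12 LD2_c4 LD3_c43)) :=
  Lgr Lrot75 (Lpe (f416592 IH) (Lpr_ff (f504329 IH) (Lpe (f20167 IH) (Lpn (LP (LK LD1_c12 LD2_c4 LD3_c43))))))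
theorem f504333 : Led Lsl_ff (LP (LK LD1_c12 LD2_c12 LD3_c2)) = (LP (LK LD1_c12 LD2_c4 LD3_c43)) :=
  Lgr Lrot3 (Lpr_ft (f504331 IH) (Lpn (LP (LK LD1_c12 LD2_c4 LD3_c43))))
theorem f416165 : Led Lsl_ct (LP (LK LD1_c12 LD2_c12 LD3_c2)) = (LP (LK LD1_c6 LD2_c17 LD3_c50)) :=
  Lre_c IH (LK LD1_c12 LD2_c12 LD3_c2) (LK LD1_c6 LD2_c17 LD3_c50) Lrfl Lrfl
theorem f20119 : Led Lsl_ct (LP (LK LD1_c6 LD2_c12 LD3_c47)) = (LP (LK LD1_c12 LD2_c4 LD3_c43)) :=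
  Lre_c IH (LK LD1_c6 LD2_c12 LD3_c47) (LK LD1_c12 LD2_c4 LD3_c43) Lrfl Lrfl
theorem f504335 : Led Lsl_ft (LP (LK LD1_c6 LD2_c17 LD3_c50)) = (LP (LK LD1_c6 LD2_c12 LD3_c47)) :=
  Lgr Lrot4 (Lpe (f416165 IH) (Lpr_ff (f504333 IH) (Lpe (f20119 IH) (Lpn (LP (LK LD1_c6 LD2_c12 LD3_c47))))))
theorem f57658 : Led Lsl_dt (LP (LK LD1_c3 LD2_c6 LD3_c6)) = (LP (LK LD1_c6 LD2_c17 LD3_c50)) :=
  Lre_d IH (LK LD1_c3 LD2_c6 LD3_c6) (LK LD1_c6 LD2_c17 LD3_c50) Lrfl Lrfl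
theorem f20158 : Led Lsl_dt (LP (LK LD1_c6 LD2_c12 LD3_c47)) = (LP (LK LD1_c3 LD2_c3 LD3_c6)) :=
  Lre_d IH (LK LD1_c6 LD2_c12 LD3_c47) (LK LD1_c3 LD2_c3 LD3_c6) Lrfl Lrfl
theorem f504337 : Led Lsl_ff (LP (LK LD1_c3 LD2_c6 LD3_c6)) = (LP (LK LD1_c3 LD2_c3 LD3_c6)) :=
  Lgr Lrot19 (Lpr_dt (f57658 IH) (Lpr_ft (f504335 IH) (Lpr_dt (f20158 IH) (Lpn (LP (LK LD1_c3 LD2_c3 LD3_c6))))))
def v5289 : LQ := Led Lsl_gt (LP (LK LD1_c3 LD2_c3 LD3_c6))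
theorem f646914 : Led Lsl_gt (LP (LK LD1_c3 LD2_c3 LD3_c6)) = v5289 :=
  Lrfl
theorem f647105 : Led Lsl_gt v5289 = v5328 :=
  Lgr Lrot46 (Lpe (f646914 IH) (Lpe (f504337 IH) (Lpr_at (f647101 IH) (Lpn v5328))))
theorem f209405 : Led Lsl_ct (LP (LK LD1_c1 LD2_c33 LD3_c35)) = (LP (LK LD1_c3 LD2_c14 LD3_c0)) :=
  Lre_c IH (LK LD1_c1 LD2_c33 LD3_c35) (LK LD1_c3 LD2_c14 LD3_c0) Lrfl Lrfl
theorem f208789 : Led Lsl_ct (LP (LK LD1_c3 LD2_c43 LD3_c12)) = (LP (LK LD1_c1 LD2_c48 LD3_c40)) :=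
  Lre_c IH (LK LD1_c3 LD2_c43 LD3_c12) (LK LD1_c1 LD2_c48 LD3_c40) Lrfl Lrfl
theorem f209406 : Led Lsl_af (LP (LK LD1_c1 LD2_c33 LD3_c35)) = (LP (LK LD1_c1 LD2_c48 LD3_c40)) :=
  Lgr Lrot68 (Lpr_ct (f209405 IH) (Lpr_at (K46.f209398 IH) (Lpr_ct (f208789 IH) (Lpn (LP (LK LD1_c1 LD2_c48 LD3_c40))))))
theorem f209513 : Led Lsl_gt (LP (LK LD1_c3 LD2_c14 LD3_c1)) = (LP (LK LD1_c1 LD2_c33 LD3_c35)) :=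
  Lre_g IH (LK LD1_c3 LD2_c14 LD3_c1) (LK LD1_c1 LD2_c33 LD3_c35) Lrfl Lrfl
theorem f208787 : Led Lsl_ft (LP (LK LD1_c3 LD2_c43 LD3_c15)) = (LP (LK LD1_c1 LD2_c48 LD3_c40)) :=
  Lre_f IH (LK LD1_c3 LD2_c43 LD3_c15) (LK LD1_c1 LD2_c48 LD3_c40) Lrfl Lrfl
theorem f209514 : Led Lsl_gf (LP (LK LD1_c3 LD2_c14 LD3_c1)) = (LP (LK LD1_c3 LD2_c43 LD3_c15)) :=
  Lgr Lrot47 (Lpr_gt (f209513 IH) (Lpr_af (f209406 IH) (Lpe (f208787 IH) (Lpn (LP (LK LD1_c3 LD2_c43 LD3_c15))))))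
def v4253 : LQ := Led Lsl_dt (LP (LK LD1_c2 LD2_c17 LD3_c38))
theorem f632224 : Led Lsl_dt (LP (LK LD1_c2 LD2_c17 LD3_c38)) = v4253 :=
  Lrfl
theorem f20154 : Led Lsl_et (LP (LK LD1_c4 LD2_c41 LD3_c12)) = (LP (LK LD1_c2 LD2_c17 LD3_c38)) :=
  Lre_e IH (LK LD1_c4 LD2_c41 LD3_c12) (LK LD1_c2 LD2_c17 LD3_c38) Lrfl Lrfl
theorem f20153 : Led Lsl_dt (LP (LK LD1_c9 LD2_c17 LD3_c43)) = (LP (LK LD1_c4 LD2_c41 LD3_c12)) :=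
  Lre_d IH (LK LD1_c9 LD2_c17 LD3_c43) (LK LD1_c4 LD2_c41 LD3_c12) Lrfl Lrfl
theorem f20146 : Led Lsl_bt (LP (LK LD1_c9 LD2_c17 LD3_c43)) = (LP (LK LD1_c4 LD2_c41 LD3_c16)) :=
  Lre_b IH (LK LD1_c9 LD2_c17 LD3_c43) (LK LD1_c4 LD2_c41 LD3_c16) Lrfl Lrfl
theorem f20147 : Led Lsl_bt (LP (LK LD1_c3 LD2_c3 LD3_c7)) = (LP (LK LD1_c6 LD2_c12 LD3_c47)) :=
  Lre_b IH (LK LD1_c3 LD2_c3 LD3_c7) (LK LD1_c6 LD2_c12 LD3_c47) Lrfl Lrfl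
theorem f20148 : Led Lsl_ef (LP (LK LD1_c9 LD2_c17 LD3_c43)) = (LP (LK LD1_c6 LD2_c12 LD3_c47)) :=
  Lgr Lrot29 (Lpr_bt (f20146 IH) (Lpr_et (K32.f20144 IH) (Lpr_bt (f20147 IH) (Lpn (LP (LK LD1_c6 LD2_c12 LD3_c47))))))
theorem f20155 : Led Lsl_dt (LP (LK LD1_c3 LD2_c3 LD3_c6)) = (LP (LK LD1_c6 LD2_c12 LD3_c47)) :=
  Lre_d IH (LK LD1_c3 LD2_c3 LD3_c6) (LK LD1_c6 LD2_c12 LD3_c47) Lrfl Lrfl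
theorem f632227 : Led Lsl_ef (LP (LK LD1_c3 LD2_c3 LD3_c6)) = v4253 :=
  Lgr Lrot73 (Lpr_dt (f20155 IH) (Lpe (f20148 IH) (Lpr_dt (f20153 IH) (Lpr_et (f20154 IH) (Lpr_dt (f632224 IH) (Lpn v4253))))))
theorem f632226 : Led Lsl_df (LP (LK LD1_c2 LD2_c17 LD3_c38)) = v4253 :=
  Lgr Lrot38 (Lpr_dt (f632224 IH) (Lpn v4253))
def v4251 : LQ := Led Lsl_gf (LP (LK LD1_c2 LD2_c17 LD3_c38))
theorem f632210 : Led Lsl_gf (LP (LK LD1_c2 LD2_c17 LD3_c38)) = v4251 :=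
  Lrfl
theorem f26236 : Led Lsl_ct (LP (LK LD1_c3 LD2_c42 LD3_c7)) = (LP (LK LD1_c1 LD2_c48 LD3_c3)) :=
  Lre_c IH (LK LD1_c3 LD2_c42 LD3_c7) (LK LD1_c1 LD2_c48 LD3_c3) Lrfl Lrfl
theorem f130883 : Led Lsl_ct (LP (LK LD1_c1 LD2_c49 LD3_c50)) = (LP (LK LD1_c3 LD2_c45 LD3_c19)) :=
  Lre_c IH (LK LD1_c1 LD2_c49 LD3_c50) (LK LD1_c3 LD2_c45 LD3_c19) Lrfl Lrfl
theorem f148579 : Led Lsl_bt (LP (LK LD1_c3 LD2_c45 LD3_c19)) = (LP (LK LD1_c7 LD2_c31 LD3_c23)) :=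
  Lre_b IH (LK LD1_c3 LD2_c45 LD3_c19) (LK LD1_c7 LD2_c31 LD3_c23) Lrfl Lrfl
theorem f148538 : Led Lsl_et (LP (LK LD1_c7 LD2_c31 LD3_c23)) = (LP (LK LD1_c3 LD2_c45 LD3_c18)) :=
  Lre_e IH (LK LD1_c7 LD2_c31 LD3_c23) (LK LD1_c3 LD2_c45 LD3_c18) Lrfl Lrfl
theorem f148539 : Led Lsl_et (LP (LK LD1_c3 LD2_c14 LD3_c4)) = (LP (LK LD1_c6 LD2_c31 LD3_c49)) :=
  Lre_e IH (LK LD1_c3 LD2_c14 LD3_c4) (LK LD1_c6 LD2_c31 LD3_c49) Lrfl Lrfl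
theorem f148540 : Led Lsl_cf (LP (LK LD1_c7 LD2_c31 LD3_c23)) = (LP (LK LD1_c6 LD2_c31 LD3_c49)) :=
  Lgr Lrot39 (Lpr_et (f148538 IH) (Lpr_ct (K7.f148445 IH) (Lpr_et (f148539 IH) (Lpn (LP (LK LD1_c6 LD2_c31 LD3_c49))))))
theorem f148571 : Led Lsl_ct (LP (LK LD1_c7 LD2_c31 LD3_c23)) = (LP (LK LD1_c6 LD2_c31 LD3_c49)) :=
  Lgr Lrot59 (Lpr_cf (f148540 IH) (Lpn (LP (LK LD1_c6 LD2_c31 LD3_c49))))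
theorem f148577 : Led Lsl_bt (LP (LK LD1_c6 LD2_c31 LD3_c49)) = (LP (LK LD1_c3 LD2_c14 LD3_c6)) :=
  Lre_b IH (LK LD1_c6 LD2_c31 LD3_c49) (LK LD1_c3 LD2_c14 LD3_c6) Lrfl Lrfl
theorem f209012 : Led Lsl_ct (LP (LK LD1_c3 LD2_c14 LD3_c6)) = (LP (LK LD1_c3 LD2_c25 LD3_c15)) :=
  Lgr Lrot83 (Lpe (f148577 IH) (Lpe (f148571 IH) (Lpe (f148579 IH) (Lpe (f130883 IH) (Lpr_bf (K34.f208999 IH) (Lpn (LP (LK LD1_c3 LD2_c25 LD3_c15))))))))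
theorem f139988 : Led Lsl_bt (LP (LK LD1_c2 LD2_c17 LD3_c38)) = (LP (LK LD1_c1 LD2_c5 LD3_c43)) :=
  Lre_b IH (LK LD1_c2 LD2_c17 LD3_c38) (LK LD1_c1 LD2_c5 LD3_c43) Lrfl Lrfl
theorem f139989 : Led Lsl_ct (LP (LK LD1_c2 LD2_c17 LD3_c38)) = (LP (LK LD1_c4 LD2_c41 LD3_c11)) :=
  Lre_c IH (LK LD1_c2 LD2_c17 LD3_c38) (LK LD1_c4 LD2_c41 LD3_c11) Lrfl Lrfl
theorem f527826 : Led Lsl_gf (LP (LK LD1_c4 LD2_c41 LD3_c11)) = (LP (LK LD1_c7 LD2_c27 LD3_c28)) :=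
  Lgr Lrot126 (Lpe (f139989 IH) (Lpr_bt (f139988 IH) (Lpr_gt (K17.f20092 IH) (Lpr_ct (K17.f22866 IH) (Lpr_gt (K24.f22860 IH) (Lpr_cf (K9.f139974 IH) (Lpr_bt (K34.f139987 IH) (Lpqs (K34.f527823 IH) (Lpr_gt (K34.f506792 IH) (Lpe (K46.f129077 IH) (Lpe (K46.f208909 IH) (Lpn (LP (LK LD1_c7 LD2_c27 LD3_c28))))))))))))))
theorem f208915 : Led Lsl_ft (LP (LK LD1_c7 LD2_c27 LD3_c28)) = (LP (LK LD1_c3 LD2_c43 LD3_c24)) :=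
  Lre_f IH (LK LD1_c7 LD2_c27 LD3_c28) (LK LD1_c3 LD2_c43 LD3_c24) Lrfl Lrfl
theorem f148449 : Led Lsl_et (LP (LK LD1_c3 LD2_c14 LD3_c6)) = (LP (LK LD1_c1 LD2_c33 LD3_c36)) :=
  Lre_e IH (LK LD1_c3 LD2_c14 LD3_c6) (LK LD1_c1 LD2_c33 LD3_c36) Lrfl Lrfl
theorem f148632 : Led Lsl_at (LP (LK LD1_c3 LD2_c43 LD3_c24)) = (LP (LK LD1_c3 LD2_c14 LD3_c6)) :=
  Lgr Lrot80 (Lpe (K46.f128337 IH) (Lpr_af (K7.f148625 IH) (Lpe (f148449 IH) (Lpn (LP (LK LD1_c3 LD2_c14 LD3_c6))))))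
theorem f527828 : Led Lsl_gt (LP (LK LD1_c4 LD2_c41 LD3_c11)) = (LP (LK LD1_c3 LD2_c14 LD3_c6)) :=
  Lgr Lrot46 (Lpr_gf (f527826 IH) (Lpr_ft (f208915 IH) (Lpr_at (f148632 IH) (Lpn (LP (LK LD1_c3 LD2_c14 LD3_c6))))))
theorem f414278 : Led Lsl_gt (LP (LK LD1_c2 LD2_c22 LD3_c42)) = (LP (LK LD1_c1 LD2_c8 LD3_c28)) :=
  Lre_g IH (LK LD1_c2 LD2_c22 LD3_c42) (LK LD1_c1 LD2_c8 LD3_c28) Lrfl Lrfl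
def v4502 : LQ := Led Lsl_dt (LP (LK LD1_c2 LD2_c22 LD3_c42))
theorem f634260 : Led Lsl_dt (LP (LK LD1_c2 LD2_c22 LD3_c42)) = v4502 :=
  Lrfl
theorem f634261 : Led Lsl_df (LP (LK LD1_c2 LD2_c22 LD3_c42)) = v4502 :=
  Lgr Lrot38 (Lpr_dt (f634260 IH) (Lpn v4502))
theorem f634298 : v4251 = v4502 :=
  (Llr Lrot147 (Lpe (f632210 IH) (Lpr_ct (f139989 IH) (Lpr_gt (f527828 IH) (Lpr_ct (f209012 IH) (Lpe (K34.f209014 IH) (Lpe (f26236 IH) (Lpqs (K35.f634278 IH) (Lpe (K35.f634268 IH) (Lpe (K35.f140006 IH) (Lpe (f414278 IH) (Lpr_df (f634261 IH) (Lpn v4502))))))))))))).symm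
theorem f454005 : Led Lsl_ct (LP (LK LD1_c3 LD2_c21 LD3_c14)) = (LP (LK LD1_c1 LD2_c36 LD3_c53)) :=
  Lre_c IH (LK LD1_c3 LD2_c21 LD3_c14) (LK LD1_c1 LD2_c36 LD3_c53) Lrfl Lrfl
theorem f454759 : Led Lsl_ft (LP (LK LD1_c1 LD2_c36 LD3_c53)) = (LP (LK LD1_c2 LD2_c22 LD3_c43)) :=
  Lgr Lrot4 (Lpe (f454005 IH) (Lpr_ff (K46.f454751 IH) (Lpe (f454635 IH) (Lpn (LP (LK LD1_c2 LD2_c22 LD3_c43))))))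
theorem f446274 : Led Lsl_at (LP (LK LD1_c2 LD2_c22 LD3_c43)) = (LP (LK LD1_c1 LD2_c8 LD3_c28)) :=
  Lre_a IH (LK LD1_c2 LD2_c22 LD3_c43) (LK LD1_c1 LD2_c8 LD3_c28) Lrfl Lrfl
theorem f454768 : Led Lsl_gt (LP (LK LD1_c1 LD2_c36 LD3_c53)) = (LP (LK LD1_c2 LD2_c22 LD3_c42)) :=
  Lgr Lrot5 (Lpr_ft (f454759 IH) (Lpr_at (f446274 IH) (Lpe (f414278 IH) (Lpn (LP (LK LD1_c2 LD2_c22 LD3_c42))))))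
def v2176 : LQ := Led Lsl_et (LP (LK LD1_c1 LD2_c36 LD3_c53))
theorem f509477 : Led Lsl_et (LP (LK LD1_c1 LD2_c36 LD3_c53)) = v2176 :=
  Lrfl
theorem f509479 : Led Lsl_ef (LP (LK LD1_c1 LD2_c36 LD3_c53)) = v2176 :=
  Lgr Lrot88 (Lpr_et (f509477 IH) (Lpn v2176))
theorem f446256 : Led Lsl_et (LP (LK LD1_c0 LD2_c44 LD3_c52)) = (LP (LK LD1_c1 LD2_c36 LD3_c56)) :=
  Lre_e IH (LK LD1_c0 LD2_c44 LD3_c52) (LK LD1_c1 LD2_c36 LD3_c56) Lrfl Lrfl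
theorem f509480 : Led Lsl_at (LP (LK LD1_c1 LD2_c36 LD3_c56)) = v2176 :=
  Lgr Lrot80 (Lpe (f446256 IH) (Lpe (K46.f450662 IH) (Lpr_ef (f509479 IH) (Lpn v2176))))
theorem f509481 : Led Lsl_df (LP (LK LD1_c2 LD2_c22 LD3_c43)) = v2176 :=
  Lgr Lrot18 (Lpr_at (f446274 IH) (Lpr_dt (K46.f23192 IH) (Lpr_at (f509480 IH) (Lpn v2176))))
theorem f509468 : Led Lsl_df (LP (LK LD1_c1 LD2_c36 LD3_c52)) = v2173 :=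
  Lgr Lrot38 (Lpr_dt (f509467 IH) (Lpn v2173))
theorem f646915 : Led Lsl_et v2173 = v5289 :=
  Lgr Lrot122 (Lpe (f509468 IH) (Lpr_gt (f454716 IH) (Lpr_df (f509481 IH) (Lpe (f509479 IH) (Lpr_gt (f454768 IH) (Lpr_dt (f634260 IH) (Lpq (f634298 IH) (Lpe (f632210 IH) (Lpr_df (f632226 IH) (Lpe (f632227 IH) (Lpr_gt (f646914 IH) (Lpn v5289))))))))))))
def v5260 : LQ := Led Lsl_et (LP (LK LD1_c3 LD2_c2 LD3_c43))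
theorem f646826 : Led Lsl_et (LP (LK LD1_c3 LD2_c2 LD3_c43)) = v5260 :=
  Lrfl
theorem f649441 : v5289 = v5260 :=
  Lefun (Lecon (f646915 IH) (f649438 IH).symm) (f646826 IH)
def v2013 : LQ := Led Lsl_ft (LP (LK LD1_c1 LD2_c33 LD3_c32))
theorem f506886 : Led Lsl_ft (LP (LK LD1_c1 LD2_c33 LD3_c32)) = v2013 :=
  Lrfl
theorem f148389 : Led Lsl_ff (LP (LK LD1_c0 LD2_c43 LD3_c22)) = (LP (LK LD1_c0 LD2_c51 LD3_c6)) :=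
  Lgr Lrot52 (Lpr_at (K11.f148086 IH) (Lpr_gf (K7.f148368 IH) (Lpe (K7.f148289 IH) (Lpn (LP (LK LD1_c0 LD2_c51 LD3_c6))))))
theorem f506888 : Led Lsl_ef (LP (LK LD1_c3 LD2_c43 LD3_c15)) = v2013 :=
  Lgr Lrot21 (Lpr_ft (f208787 IH) (Lpr_et (K46.f116069 IH) (Lpe (f148389 IH) (Lpr_et (K46.f129277 IH) (Lpr_ft (f506886 IH) (Lpn v2013))))))
def v2563 : LQ := Led Lsl_gt (LP (LK LD1_c1 LD2_c48 LD3_c43))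
theorem f527500 : Led Lsl_gt (LP (LK LD1_c1 LD2_c48 LD3_c43)) = v2563 :=
  Lrfl
theorem f209368 : Led Lsl_ft (LP (LK LD1_c1 LD2_c48 LD3_c43)) = (LP (LK LD1_c3 LD2_c43 LD3_c20)) :=
  Lre_f IH (LK LD1_c1 LD2_c48 LD3_c43) (LK LD1_c3 LD2_c43 LD3_c20) Lrfl Lrfl
theorem f506889 : Led Lsl_ff (LP (LK LD1_c1 LD2_c33 LD3_c32)) = v2013 :=
  Lgr Lrot3 (Lpr_ft (f506886 IH) (Lpn v2013))
theorem f506891 : Led Lsl_at (LP (LK LD1_c3 LD2_c43 LD3_c20)) = v2013 :=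
  Lgr Lrot66 (Lpe (f209368 IH) (Lpr_af (K46.f209489 IH) (Lpr_ff (f506889 IH) (Lpn v2013))))
theorem f527501 : Led Lsl_gf v2013 = v2563 :=
  Lgr Lrot76 (Lpe (f506891 IH) (Lpe (f209368 IH) (Lpr_gt (f527500 IH) (Lpn v2563))))
def v2180 : LQ := Led Lsl_gf (LP (LK LD1_c1 LD2_c36 LD3_c56))
theorem f509497 : Led Lsl_gf (LP (LK LD1_c1 LD2_c36 LD3_c56)) = v2180 :=
  Lrfl
def v4509 : LQ := Led Lsl_gt (LP (LK LD1_c2 LD2_c22 LD3_c45))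
theorem f634309 : Led Lsl_gt (LP (LK LD1_c2 LD2_c22 LD3_c45)) = v4509 :=
  Lrfl
def v6392 : LQ := Led Lsl_et (LP (LK LD1_c3 LD2_c21 LD3_c15))
theorem f653183 : Led Lsl_et (LP (LK LD1_c3 LD2_c21 LD3_c15)) = v6392 :=
  Lrfl
theorem f454026 : Led Lsl_at (LP (LK LD1_c3 LD2_c21 LD3_c15)) = (LP (LK LD1_c1 LD2_c36 LD3_c55)) :=
  Lre_a IH (LK LD1_c3 LD2_c21 LD3_c15) (LK LD1_c1 LD2_c36 LD3_c55) Lrfl Lrfl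
theorem f509482 : Led Lsl_ff (LP (LK LD1_c3 LD2_c21 LD3_c15)) = v2176 :=
  Lgr Lrot30 (Lpr_at (f454026 IH) (Lpr_ft (K46.f454722 IH) (Lpr_at (f509480 IH) (Lpn v2176))))
theorem f653187 : Led Lsl_ff (LP (LK LD1_c4 LD2_c49 LD3_c59)) = v6392 :=
  Lgr Lrot72 (Lpr_et (K46.f454623 IH) (Lpe (K46.f454710 IH) (Lpr_et (f509477 IH) (Lpe (f509482 IH) (Lpr_et (f653183 IH) (Lpn v6392))))))
theorem f653188 : Led Lsl_at (LP (LK LD1_c3 LD2_c21 LD3_c21)) = v6392 :=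
  Lgr Lrot66 (Lpr_ff (K46.f454734 IH) (Lpe (K46.f446252 IH) (Lpr_ff (f653187 IH) (Lpn v6392))))
theorem f653191 : Led Lsl_gt v4509 = v6392 :=
  Lgr Lrot46 (Lpe (f634309 IH) (Lpe (K46.f454734 IH) (Lpr_at (f653188 IH) (Lpn v6392))))
theorem f20163 : Led Lsl_dt (LP (LK LD1_c4 LD2_c41 LD3_c12)) = (LP (LK LD1_c9 LD2_c17 LD3_c43)) :=
  Lre_d IH (LK LD1_c4 LD2_c41 LD3_c12) (LK LD1_c9 LD2_c17 LD3_c43) Lrfl Lrfl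
def v4250 : LQ := Led Lsl_gt (LP (LK LD1_c2 LD2_c17 LD3_c38))
theorem f632208 : Led Lsl_gt (LP (LK LD1_c2 LD2_c17 LD3_c38)) = v4250 :=
  Lrfl
theorem f209089 : Led Lsl_cf (LP (LK LD1_c3 LD2_c14 LD3_c6)) = (LP (LK LD1_c3 LD2_c25 LD3_c15)) :=
  Lgr Lrot11 (Lpr_ct (f209012 IH) (Lpn (LP (LK LD1_c3 LD2_c25 LD3_c15))))
theorem f209092 : Led Lsl_at (LP (LK LD1_c3 LD2_c14 LD3_c6)) = (LP (LK LD1_c3 LD2_c43 LD3_c24)) :=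
  Lgr Lrot107 (Lpr_cf (f209089 IH) (Lpe (K34.f208995 IH) (Lpr_cf (f128338 IH) (Lpn (LP (LK LD1_c3 LD2_c43 LD3_c24))))))
theorem f649411 : Led Lsl_ff (LP (LK LD1_c3 LD2_c14 LD3_c6)) = (LP (LK LD1_c6 LD2_c12 LD3_c20)) :=
  Lgr Lrot30 (Lpr_at (f209092 IH) (Lpr_ft (K46.f208906 IH) (Lpr_at (K46.f649402 IH) (Lpn (LP (LK LD1_c6 LD2_c12 LD3_c20))))))
theorem f649419 : Led Lsl_ft (LP (LK LD1_c3 LD2_c14 LD3_c6)) = (LP (LK LD1_c6 LD2_c12 LD3_c20)) :=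
  Lgr Lrot48 (Lpr_ff (f649411 IH) (Lpn (LP (LK LD1_c6 LD2_c12 LD3_c20))))
def v5262 : LQ := Led Lsl_ct (LP (LK LD1_c3 LD2_c2 LD3_c44))
theorem f646832 : Led Lsl_ct (LP (LK LD1_c3 LD2_c2 LD3_c44)) = v5262 :=
  Lrfl
theorem f646834 : Led Lsl_cf (LP (LK LD1_c3 LD2_c2 LD3_c44)) = v5262 :=
  Lgr Lrot11 (Lpr_ct (f646832 IH) (Lpn v5262))
theorem f646835 : Led Lsl_at (LP (LK LD1_c3 LD2_c2 LD3_c45)) = v5262 :=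
  Lgr Lrot107 (Lpe (K46.f414633 IH) (Lpe (f453011 IH) (Lpr_cf (f646834 IH) (Lpn v5262))))
def v1795 : LQ := Led Lsl_ft (LP (LK LD1_c1 LD2_c27 LD3_c20))
theorem f502949 : Led Lsl_ft (LP (LK LD1_c1 LD2_c27 LD3_c20)) = v1795 :=
  Lrfl
theorem f502952 : Led Lsl_ff (LP (LK LD1_c1 LD2_c27 LD3_c20)) = v1795 :=
  Lgr Lrot3 (Lpr_ft (f502949 IH) (Lpn v1795))
theorem f502954 : Led Lsl_ct K32.v462 = v1795 :=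
  Lgr Lrot40 (Lpe (K32.f453017 IH) (Lpe (K16.f413458 IH) (Lpr_ff (f502952 IH) (Lpn v1795))))
theorem f503360 : v1795 = (LP (LK LD1_c2 LD2_c17 LD3_c39)) :=
  Lefun (Lecon (f502954 IH) (K32.f503351 IH).symm) (K17.f414275 IH)
theorem f413476 : Led Lsl_bt (LP (LK LD1_c3 LD2_c2 LD3_c48)) = (LP (LK LD1_c1 LD2_c27 LD3_c20)) :=
  Lre_b IH (LK LD1_c3 LD2_c2 LD3_c48) (LK LD1_c1 LD2_c27 LD3_c20) Lrfl Lrfl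
theorem f416685 : Led Lsl_bt (LP (LK LD1_c2 LD2_c17 LD3_c39)) = (LP (LK LD1_c4 LD2_c41 LD3_c13)) :=
  Lre_b IH (LK LD1_c2 LD2_c17 LD3_c39) (LK LD1_c4 LD2_c41 LD3_c13) Lrfl Lrfl
theorem f504387 : Led Lsl_ff (LP (LK LD1_c3 LD2_c2 LD3_c48)) = (LP (LK LD1_c4 LD2_c41 LD3_c13)) :=
  Lgr Lrot25 (Lpr_bt (f413476 IH) (Lpr_ft (f502949 IH) (Lpqs (f503360 IH) (Lpr_bt (f416685 IH) (Lpn (LP (LK LD1_c4 LD2_c41 LD3_c13)))))))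
theorem f504391 : Led Lsl_ft (LP (LK LD1_c3 LD2_c2 LD3_c48)) = (LP (LK LD1_c4 LD2_c41 LD3_c13)) :=
  Lgr Lrot48 (Lpr_ff (f504387 IH) (Lpn (LP (LK LD1_c4 LD2_c41 LD3_c13))))
theorem f413546 : Led Lsl_ct (LP (LK LD1_c6 LD2_c12 LD3_c21)) = (LP (LK LD1_c3 LD2_c2 LD3_c48)) :=
  Lre_c IH (LK LD1_c6 LD2_c12 LD3_c21) (LK LD1_c3 LD2_c2 LD3_c48) Lrfl Lrfl
theorem f414312 : Led Lsl_ct (LP (LK LD1_c4 LD2_c41 LD3_c13)) = (LP (LK LD1_c9 LD2_c17 LD3_c41)) :=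
  Lre_c IH (LK LD1_c4 LD2_c41 LD3_c13) (LK LD1_c9 LD2_c17 LD3_c41) Lrfl Lrfl
theorem f504393 : Led Lsl_ff (LP (LK LD1_c6 LD2_c12 LD3_c21)) = (LP (LK LD1_c9 LD2_c17 LD3_c41)) :=
  Lgr Lrot23 (Lpr_ct (f413546 IH) (Lpr_ft (f504391 IH) (Lpr_ct (f414312 IH) (Lpn (LP (LK LD1_c9 LD2_c17 LD3_c41))))))
theorem f504395 : Led Lsl_bt (LP (LK LD1_c6 LD2_c12 LD3_c21)) = (LP (LK LD1_c3 LD2_c2 LD3_c45)) :=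
  Lre_b IH (LK LD1_c6 LD2_c12 LD3_c21) (LK LD1_c3 LD2_c2 LD3_c45) Lrfl Lrfl
theorem f504396 : Led Lsl_bt (LP (LK LD1_c4 LD2_c41 LD3_c11)) = (LP (LK LD1_c9 LD2_c17 LD3_c41)) :=
  Lre_b IH (LK LD1_c4 LD2_c41 LD3_c11) (LK LD1_c9 LD2_c17 LD3_c41) Lrfl Lrfl
theorem f504397 : Led Lsl_ft (LP (LK LD1_c3 LD2_c2 LD3_c45)) = (LP (LK LD1_c4 LD2_c41 LD3_c11)) :=
  Lgr Lrot75 (Lpe (f504395 IH) (Lpr_ff (f504393 IH) (Lpe (f504396 IH) (Lpn (LP (LK LD1_c4 LD2_c41 LD3_c11))))))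
theorem f504403 : Led Lsl_ff (LP (LK LD1_c3 LD2_c2 LD3_c45)) = (LP (LK LD1_c4 LD2_c41 LD3_c11)) :=
  Lgr Lrot3 (Lpr_ft (f504397 IH) (Lpn (LP (LK LD1_c4 LD2_c41 LD3_c11))))
theorem f646836 : Led Lsl_gt (LP (LK LD1_c3 LD2_c14 LD3_c6)) = v5262 :=
  Lgr Lrot46 (Lpe (f527828 IH) (Lpe (f504403 IH) (Lpr_at (f646835 IH) (Lpn v5262))))
theorem f649404 : Led Lsl_af (LP (LK LD1_c7 LD2_c27 LD3_c28)) = (LP (LK LD1_c6 LD2_c12 LD3_c20)) :=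
  Lgr Lrot0 (Lpr_at (K46.f649402 IH) (Lpn (LP (LK LD1_c6 LD2_c12 LD3_c20))))
theorem f649423 : Led Lsl_gt v5262 = (LP (LK LD1_c7 LD2_c27 LD3_c28)) :=
  Lgr Lrot46 (Lpe (f646836 IH) (Lpr_ft (f649419 IH) (Lpe (f649404 IH) (Lpn (LP (LK LD1_c7 LD2_c27 LD3_c28))))))
theorem f453012 : Led Lsl_at (LP (LK LD1_c1 LD2_c27 LD3_c19)) = (LP (LK LD1_c3 LD2_c2 LD3_c44)) :=
  Lre_a IH (LK LD1_c1 LD2_c27 LD3_c19) (LK LD1_c3 LD2_c2 LD3_c44) Lrfl Lrfl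
theorem f632209 : Led Lsl_gf (LP (LK LD1_c3 LD2_c2 LD3_c44)) = v4250 :=
  Lgr Lrot76 (Lpe (f453012 IH) (Lpr_ff (f502941 IH) (Lpqs (f503356 IH) (Lpr_gt (f632208 IH) (Lpn v4250)))))
theorem f209059 : Led Lsl_af (LP (LK LD1_c3 LD2_c42 LD3_c8)) = (LP (LK LD1_c3 LD2_c40 LD3_c28)) :=
  Lgr Lrot45 (Lpr_ft (K46.f26238 IH) (Lpr_at (K34.f209055 IH) (Lpr_ft (K35.f208921 IH) (Lpn (LP (LK LD1_c3 LD2_c40 LD3_c28))))))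
theorem f209053 : Led Lsl_dt (LP (LK LD1_c3 LD2_c42 LD3_c8)) = (LP (LK LD1_c6 LD2_c52 LD3_c45)) :=
  Lgr Lrot42 (Lpr_df (K46.f209051 IH) (Lpn (LP (LK LD1_c6 LD2_c52 LD3_c45))))
theorem f209065 : Led Lsl_dt (LP (LK LD1_c6 LD2_c25 LD3_c37)) = (LP (LK LD1_c3 LD2_c40 LD3_c28)) :=
  Lgr Lrot44 (Lpr_af (K46.f209002 IH) (Lpe (f209053 IH) (Lpr_af (f209059 IH) (Lpn (LP (LK LD1_c3 LD2_c40 LD3_c28))))))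
theorem f634274 : Led Lsl_cf (LP (LK LD1_c3 LD2_c40 LD3_c28)) = K35.v4506 :=
  Lgr Lrot11 (Lpr_ct (K35.f634272 IH) (Lpn K35.v4506))
theorem f446261 : Led Lsl_at (LP (LK LD1_c4 LD2_c49 LD3_c58)) = (LP (LK LD1_c2 LD2_c22 LD3_c44)) :=
  Lre_a IH (LK LD1_c4 LD2_c49 LD3_c58) (LK LD1_c2 LD2_c22 LD3_c44) Lrfl Lrfl
theorem f454761 : Led Lsl_ft (LP (LK LD1_c3 LD2_c21 LD3_c14)) = (LP (LK LD1_c4 LD2_c49 LD3_c58)) :=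
  Lgr Lrot48 (Lpr_ff (K46.f454751 IH) (Lpn (LP (LK LD1_c4 LD2_c49 LD3_c58))))
theorem f634271 : Led Lsl_gt (LP (LK LD1_c3 LD2_c21 LD3_c14)) = K35.v4506 :=
  Lgr Lrot5 (Lpr_ft (f454761 IH) (Lpr_at (f446261 IH) (Lpr_gf (K35.f634270 IH) (Lpn K35.v4506))))
def v1371 : LQ := Led Lsl_gt (LP (LK LD1_c1 LD2_c8 LD3_c28))
theorem f495184 : Led Lsl_gt (LP (LK LD1_c1 LD2_c8 LD3_c28)) = v1371 :=
  Lrfl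
theorem f450663 : Led Lsl_at (LP (LK LD1_c0 LD2_c44 LD3_c52)) = (LP (LK LD1_c1 LD2_c36 LD3_c53)) :=
  Lre_a IH (LK LD1_c0 LD2_c44 LD3_c52) (LK LD1_c1 LD2_c36 LD3_c53) Lrfl Lrfl
theorem f495185 : Led Lsl_gf (LP (LK LD1_c1 LD2_c36 LD3_c53)) = v1371 :=
  Lgr Lrot76 (Lpe (f450663 IH) (Lpr_ff (K35.f454002 IH) (Lpqs (K35.f454083 IH) (Lpr_gt (f495184 IH) (Lpn v1371)))))
theorem f649425 : Led Lsl_df v4250 = v1371 :=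
  Lgr Lrot155 (Lpe (f632209 IH) (Lpr_ct (f646832 IH) (Lpr_gt (f649423 IH) (Lpr_ct (K46.f208913 IH) (Lpr_dt (f209065 IH) (Lpr_cf (f634274 IH) (Lpe (f634271 IH) (Lpe (K46.f454728 IH) (Lpr_gf (f495185 IH) (Lpn v1371))))))))))
theorem f23745 : Led Lsl_et (LP (LK LD1_c1 LD2_c33 LD3_c32)) = (LP (LK LD1_c0 LD2_c43 LD3_c22)) :=
  Lre_e IH (LK LD1_c1 LD2_c33 LD3_c32) (LK LD1_c0 LD2_c43 LD3_c22) Lrfl Lrfl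
theorem f121286 : Led Lsl_dt (LP (LK LD1_c1 LD2_c48 LD3_c33)) = (LP (LK LD1_c1 LD2_c33 LD3_c32)) :=
  Lgr Lrot77 (Lpe (K5.f121275 IH) (Lpe (K7.f13597 IH) (Lpr_ef (K4.f121278 IH) (Lpr_df (K3.f109390 IH) (Lpe (f23745 IH) (Lpn (LP (LK LD1_c1 LD2_c33 LD3_c32))))))))
def v2556 : LQ := Led Lsl_gf (LP (LK LD1_c1 LD2_c48 LD3_c33))
theorem f527465 : Led Lsl_gf (LP (LK LD1_c1 LD2_c48 LD3_c33)) = v2556 :=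
  Lrfl
theorem f148376 : Led Lsl_dt (LP (LK LD1_c3 LD2_c13 LD3_c50)) = (LP (LK LD1_c6 LD2_c31 LD3_c16)) :=
  Lre_d IH (LK LD1_c3 LD2_c13 LD3_c50) (LK LD1_c6 LD2_c31 LD3_c16) Lrfl Lrfl
theorem f148371 : Led Lsl_et (LP (LK LD1_c0 LD2_c43 LD3_c21)) = (LP (LK LD1_c1 LD2_c33 LD3_c29)) :=
  Lre_e IH (LK LD1_c0 LD2_c43 LD3_c21) (LK LD1_c1 LD2_c33 LD3_c29) Lrfl Lrfl
def v6226 : LQ := Led Lsl_at (LP (LK LD1_c3 LD2_c19 LD3_c15))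
theorem f652197 : Led Lsl_at (LP (LK LD1_c3 LD2_c19 LD3_c15)) = v6226 :=
  Lrfl
theorem f24862 : Led Lsl_et (LP (LK LD1_c0 LD2_c19 LD3_c49)) = (LP (LK LD1_c0 LD2_c44 LD3_c32)) :=
  Lre_e IH (LK LD1_c0 LD2_c19 LD3_c49) (LK LD1_c0 LD2_c44 LD3_c32) Lrfl Lrfl
theorem f24866 : Led Lsl_et (LP (LK LD1_c3 LD2_c19 LD3_c15)) = (LP (LK LD1_c1 LD2_c36 LD3_c2)) :=
  Lre_e IH (LK LD1_c3 LD2_c19 LD3_c15) (LK LD1_c1 LD2_c36 LD3_c2) Lrfl Lrfl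
theorem f148399 : Led Lsl_et (LP (LK LD1_c1 LD2_c33 LD3_c29)) = (LP (LK LD1_c0 LD2_c43 LD3_c21)) :=
  Lre_e IH (LK LD1_c1 LD2_c33 LD3_c29) (LK LD1_c0 LD2_c43 LD3_c21) Lrfl Lrfl
theorem f23722 : Led Lsl_dt (LP (LK LD1_c1 LD2_c33 LD3_c29)) = (LP (LK LD1_c1 LD2_c33 LD3_c29)) :=
  Lgr Lrot44 (Lpe (K32.f23720 IH) (Lpr_df (K0.f23716 IH) (Lpe (K46.f23721 IH) (Lpn (LP (LK LD1_c1 LD2_c33 LD3_c29))))))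
theorem f148401 : Led Lsl_dt (LP (LK LD1_c3 LD2_c19 LD3_c15)) = (LP (LK LD1_c3 LD2_c13 LD3_c51)) :=
  Lgr Lrot136 (Lpr_et (f24866 IH) (Lpe (K46.f24863 IH) (Lpe (f24862 IH) (Lpr_dt (K5.f24850 IH) (Lpe (K2.f21024 IH) (Lpr_df (K7.f148075 IH) (Lpr_gf (K7.f148368 IH) (Lpe (f148399 IH) (Lpr_dt (f23722 IH) (Lpe (K46.f148400 IH) (Lpn (LP (LK LD1_c3 LD2_c13 LD3_c51)))))))))))))
theorem f148405 : Led Lsl_df (LP (LK LD1_c3 LD2_c19 LD3_c15)) = (LP (LK LD1_c3 LD2_c13 LD3_c51)) :=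
  Lgr Lrot38 (Lpr_dt (f148401 IH) (Lpn (LP (LK LD1_c3 LD2_c13 LD3_c51))))
def v5825 : LQ := Led Lsl_ft (LP (LK LD1_c3 LD2_c13 LD3_c50))
theorem f649600 : Led Lsl_ft (LP (LK LD1_c3 LD2_c13 LD3_c50)) = v5825 :=
  Lrfl
def v5823 : LQ := Led Lsl_at (LP (LK LD1_c3 LD2_c13 LD3_c50))
theorem f649592 : Led Lsl_at (LP (LK LD1_c3 LD2_c13 LD3_c50)) = v5823 :=
  Lrfl
theorem f649593 : Led Lsl_af (LP (LK LD1_c3 LD2_c13 LD3_c50)) = v5823 :=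
  Lgr Lrot0 (Lpr_at (f649592 IH) (Lpn v5823))
theorem f649594 : Led Lsl_ft (LP (LK LD1_c3 LD2_c13 LD3_c51)) = v5823 :=
  Lgr Lrot2 (Lpr_gt (K46.f148400 IH) (Lpr_gt (K32.f148372 IH) (Lpr_af (f649593 IH) (Lpn v5823))))
theorem f649601 : Led Lsl_af (LP (LK LD1_c3 LD2_c13 LD3_c51)) = v5825 :=
  Lgr Lrot45 (Lpr_ft (f649594 IH) (Lpe (f649593 IH) (Lpr_ft (f649600 IH) (Lpn v5825))))
theorem f652199 : Led Lsl_df v5825 = v6226 :=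
  Lgr Lrot18 (Lpe (f649601 IH) (Lpe (f148405 IH) (Lpr_at (f652197 IH) (Lpn v6226))))
theorem f649602 : Led Lsl_ff (LP (LK LD1_c3 LD2_c13 LD3_c50)) = v5825 :=
  Lgr Lrot3 (Lpr_ft (f649600 IH) (Lpn v5825))
theorem f652203 : Led Lsl_ft (LP (LK LD1_c6 LD2_c31 LD3_c16)) = v6226 :=
  Lgr Lrot54 (Lpe (f148376 IH) (Lpr_ff (f649602 IH) (Lpr_df (f652199 IH) (Lpn v6226))))
theorem f652198 : Led Lsl_af (LP (LK LD1_c3 LD2_c19 LD3_c15)) = v6226 :=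
  Lgr Lrot0 (Lpr_at (f652197 IH) (Lpn v6226))
def v6225 : LQ := Led Lsl_gf (LP (LK LD1_c3 LD2_c19 LD3_c15))
theorem f652196 : Led Lsl_gf (LP (LK LD1_c3 LD2_c19 LD3_c15)) = v6225 :=
  Lrfl
theorem f652205 : Led Lsl_gt (LP (LK LD1_c6 LD2_c31 LD3_c16)) = v6225 :=
  Lgr Lrot5 (Lpr_ft (f652203 IH) (Lpe (f652198 IH) (Lpr_gf (f652196 IH) (Lpn v6225))))
def v6407 : LQ := Led Lsl_gt (LP (LK LD1_c3 LD2_c21 LD3_c21))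
theorem f653235 : Led Lsl_gt (LP (LK LD1_c3 LD2_c21 LD3_c21)) = v6407 :=
  Lrfl
theorem f454003 : Led Lsl_dt (LP (LK LD1_c3 LD2_c21 LD3_c20)) = (LP (LK LD1_c6 LD2_c46 LD3_c22)) :=
  Lre_d IH (LK LD1_c3 LD2_c21 LD3_c20) (LK LD1_c6 LD2_c46 LD3_c22) Lrfl Lrfl
theorem f454739 : Led Lsl_et (LP (LK LD1_c3 LD2_c21 LD3_c20)) = (LP (LK LD1_c6 LD2_c46 LD3_c23)) :=
  Lre_e IH (LK LD1_c3 LD2_c21 LD3_c20) (LK LD1_c6 LD2_c46 LD3_c23) Lrfl Lrfl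
theorem f148649 : Led Lsl_et (LP (LK LD1_c3 LD2_c43 LD3_c24)) = (LP (LK LD1_c1 LD2_c48 LD3_c45)) :=
  Lre_e IH (LK LD1_c3 LD2_c43 LD3_c24) (LK LD1_c1 LD2_c48 LD3_c45) Lrfl Lrfl
theorem f148415 : Led Lsl_et (LP (LK LD1_c3 LD2_c13 LD3_c49)) = (LP (LK LD1_c1 LD2_c33 LD3_c28)) :=
  Lre_e IH (LK LD1_c3 LD2_c13 LD3_c49) (LK LD1_c1 LD2_c33 LD3_c28) Lrfl Lrfl
theorem f23775 : Led Lsl_dt (LP (LK LD1_c3 LD2_c13 LD3_c49)) = (LP (LK LD1_c6 LD2_c31 LD3_c14)) :=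
  Lre_d IH (LK LD1_c3 LD2_c13 LD3_c49) (LK LD1_c6 LD2_c31 LD3_c14) Lrfl Lrfl
theorem f23777 : Led Lsl_gt (LP (LK LD1_c12 LD2_c31 LD3_c0)) = (LP (LK LD1_c6 LD2_c31 LD3_c14)) :=
  Lre_g IH (LK LD1_c12 LD2_c31 LD3_c0) (LK LD1_c6 LD2_c31 LD3_c14) Lrfl Lrfl
theorem f141155 : Led Lsl_gt (LP (LK LD1_c1 LD2_c36 LD3_c1)) = (LP (LK LD1_c3 LD2_c19 LD3_c8)) :=
  Lre_g IH (LK LD1_c1 LD2_c36 LD3_c1) (LK LD1_c3 LD2_c19 LD3_c8) Lrfl Lrfl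
theorem f148646 : Led Lsl_et (LP (LK LD1_c6 LD2_c42 LD3_c21)) = (LP (LK LD1_c3 LD2_c19 LD3_c8)) :=
  Lre_e IH (LK LD1_c6 LD2_c42 LD3_c21) (LK LD1_c3 LD2_c19 LD3_c8) Lrfl Lrfl
theorem f148647 : Led Lsl_dt (LP (LK LD1_c6 LD2_c42 LD3_c21)) = (LP (LK LD1_c12 LD2_c31 LD3_c0)) :=
  Lgr Lrot136 (Lpr_et (f148646 IH) (Lpe (f141155 IH) (Lpe (K6.f139795 IH) (Lpr_dt (K34.f66560 IH) (Lpe (K8.f59687 IH) (Lpe (K24.f148638 IH) (Lpr_gf (K7.f148636 IH) (Lpe (f148415 IH) (Lpr_dt (f23775 IH) (Lpe (f23777 IH) (Lpn (LP (LK LD1_c12 LD2_c31 LD3_c0)))))))))))))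
theorem f662721 : Led Lsl_gt (LP (LK LD1_c6 LD2_c46 LD3_c23)) = (LP (LK LD1_c6 LD2_c42 LD3_c21)) :=
  Lgr Lrot137 (Lpe (f454739 IH) (Lpr_dt (f454003 IH) (Lpr_gf (f662719 IH) (Lpe (f148650 IH) (Lpr_et (f148649 IH) (Lpr_gf (K7.f148636 IH) (Lpe (f148415 IH) (Lpr_dt (f23775 IH) (Lpe (f23777 IH) (Lpe (f148647 IH) (Lpn (LP (LK LD1_c6 LD2_c42 LD3_c21)))))))))))))
theorem f24663 : Led Lsl_ct (LP (LK LD1_c6 LD2_c46 LD3_c23)) = (LP (LK LD1_c3 LD2_c21 LD3_c21)) :=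
  Lre_c IH (LK LD1_c6 LD2_c46 LD3_c23) (LK LD1_c3 LD2_c21 LD3_c21) Lrfl Lrfl
theorem f23772 : Led Lsl_dt (LP (LK LD1_c6 LD2_c31 LD3_c14)) = (LP (LK LD1_c3 LD2_c13 LD3_c49)) :=
  Lre_d IH (LK LD1_c6 LD2_c31 LD3_c14) (LK LD1_c3 LD2_c13 LD3_c49) Lrfl Lrfl
theorem f23774 : Led Lsl_ct (LP (LK LD1_c1 LD2_c33 LD3_c29)) = (LP (LK LD1_c3 LD2_c13 LD3_c49)) :=
  Lre_c IH (LK LD1_c1 LD2_c33 LD3_c29) (LK LD1_c3 LD2_c13 LD3_c49) Lrfl Lrfl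
theorem f662725 : v6407 = (LP (LK LD1_c3 LD2_c19 LD3_c15)) :=
  (Llr Lrot94 (Lpe (f653235 IH) (Lpe (f24663 IH) (Lpr_gt (f662721 IH) (Lpr_dt (f148647 IH) (Lpr_gt (f23777 IH) (Lpr_dt (f23772 IH) (Lpe (f23774 IH) (Lpe (f23722 IH) (Lpe (K46.f148400 IH) (Lpe (f148401 IH) (Lpn (LP (LK LD1_c3 LD2_c19 LD3_c15)))))))))))))).symm
theorem f662728 : (LP (LK LD1_c3 LD2_c21 LD3_c21)) = v6225 :=
  Lefun (Lecon (Lfl_gt (f653235 IH)) (f662725 IH)) (f652196 IH)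
theorem f446139 : Led Lsl_bt (LP (LK LD1_c1 LD2_c8 LD3_c30)) = (LP (LK LD1_c2 LD2_c22 LD3_c45)) :=
  Lre_b IH (LK LD1_c1 LD2_c8 LD3_c30) (LK LD1_c2 LD2_c22 LD3_c45) Lrfl Lrfl
theorem f24662 : Led Lsl_bt (LP (LK LD1_c3 LD2_c21 LD3_c21)) = (LP (LK LD1_c1 LD2_c37 LD3_c2)) :=
  Lre_b IH (LK LD1_c3 LD2_c21 LD3_c21) (LK LD1_c1 LD2_c37 LD3_c2) Lrfl Lrfl
theorem f446140 : Led Lsl_dt (LP (LK LD1_c2 LD2_c22 LD3_c45)) = (LP (LK LD1_c3 LD2_c21 LD3_c21)) :=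
  Lgr Lrot79 (Lpe (f446139 IH) (Lpr_df (K24.f446137 IH) (Lpe (f24662 IH) (Lpn (LP (LK LD1_c3 LD2_c21 LD3_c21))))))
theorem f446259 : Led Lsl_et (LP (LK LD1_c2 LD2_c22 LD3_c45)) = (LP (LK LD1_c1 LD2_c8 LD3_c28)) :=
  Lre_e IH (LK LD1_c2 LD2_c22 LD3_c45) (LK LD1_c1 LD2_c8 LD3_c28) Lrfl Lrfl
theorem f662733 : v2556 = (LP (LK LD1_c1 LD2_c8 LD3_c28)) :=
  (Llr Lrot141 (Lpe (f527465 IH) (Lpe (K5.f121275 IH) (Lpr_dt (K4.f120811 IH) (Lpr_gt (K7.f148360 IH) (Lpe (K7.f148288 IH) (Lpr_et (f148371 IH) (Lpr_gt (K32.f148372 IH) (Lpr_dt (f148376 IH) (Lpr_gt (f652205 IH) (Lpq (f662728 IH) (Lpe (f446140 IH) (Lpr_et (f446259 IH) (Lpn (LP (LK LD1_c1 LD2_c8 LD3_c28)))))))))))))))).symm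
theorem f662734 : (LP (LK LD1_c1 LD2_c48 LD3_c33)) = v1371 :=
  Lefun (Lecon (Lfl_gf (f527465 IH)) (f662733 IH)) (f495184 IH)
theorem f662742 : v4250 = (LP (LK LD1_c1 LD2_c33 LD3_c32)) :=
  Lefun (Lecon (Lfl_df (f649425 IH)) (f662734 IH).symm) (f121286 IH)
theorem f24835 : Led Lsl_gt (LP (LK LD1_c1 LD2_c35 LD3_c59)) = (LP (LK LD1_c3 LD2_c18 LD3_c59)) :=
  Lre_g IH (LK LD1_c1 LD2_c35 LD3_c59) (LK LD1_c3 LD2_c18 LD3_c59) Lrfl Lrfl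
theorem f24848 : Led Lsl_dt (LP (LK LD1_c3 LD2_c18 LD3_c59)) = (LP (LK LD1_c6 LD2_c41 LD3_c59)) :=
  Lre_d IH (LK LD1_c3 LD2_c18 LD3_c59) (LK LD1_c6 LD2_c41 LD3_c59) Lrfl Lrfl
theorem f662760 : Led Lsl_gf (LP (LK LD1_c9 LD2_c17 LD3_c43)) = (LP (LK LD1_c6 LD2_c41 LD3_c59)) :=
  Lgr Lrot134 (Lpe (f20163 IH) (Lpr_et (f20154 IH) (Lpr_gt (f632208 IH) (Lpqs (f662742 IH) (Lpe (K46.f129277 IH) (Lpe (K3.f109390 IH) (Lpe (K5.f134799 IH) (Lpe (K5.f24842 IH) (Lpr_et (K5.f24829 IH) (Lpr_gt (f24835 IH) (Lpr_dt (f24848 IH) (Lpn (LP (LK LD1_c6 LD2_c41 LD3_c59))))))))))))))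
theorem f23734 : Led Lsl_dt (LP (LK LD1_c3 LD2_c14 LD3_c22)) = (LP (LK LD1_c1 LD2_c33 LD3_c41)) :=
  Lre_d IH (LK LD1_c3 LD2_c14 LD3_c22) (LK LD1_c1 LD2_c33 LD3_c41) Lrfl Lrfl
theorem f438897 : Led Lsl_ef (LP (LK LD1_c3 LD2_c18 LD3_c59)) = (LP (LK LD1_c3 LD2_c14 LD3_c22)) :=
  Lgr Lrot17 (Lpe (f24835 IH) (Lpe (K5.f24829 IH) (Lpr_dt (K5.f24842 IH) (Lpr_gf (K5.f134799 IH) (Lpr_df (K3.f109390 IH) (Lpe (K3.f22497 IH) (Lpe (K0.f23714 IH) (Lpe (K0.f23716 IH) (Lpe (K46.f22737 IH) (Lpe (f23734 IH) (Lpn (LP (LK LD1_c3 LD2_c14 LD3_c22)))))))))))))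
theorem f438906 : Led Lsl_et (LP (LK LD1_c3 LD2_c18 LD3_c59)) = (LP (LK LD1_c3 LD2_c14 LD3_c22)) :=
  Lgr Lrot87 (Lpr_ef (f438897 IH) (Lpn (LP (LK LD1_c3 LD2_c14 LD3_c22))))
theorem f121266 : Led Lsl_et (LP (LK LD1_c1 LD2_c48 LD3_c33)) = (LP (LK LD1_c0 LD2_c51 LD3_c2)) :=
  Lre_e IH (LK LD1_c1 LD2_c48 LD3_c33) (LK LD1_c0 LD2_c51 LD3_c2) Lrfl Lrfl
theorem f147513 : Led Lsl_df (LP (LK LD1_c1 LD2_c48 LD3_c33)) = (LP (LK LD1_c1 LD2_c33 LD3_c32)) :=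
  Lgr Lrot70 (Lpr_et (f121266 IH) (Lpr_dt (K4.f120811 IH) (Lpr_et (K4.f121288 IH) (Lpr_dt (K6.f147508 IH) (Lpr_et (K46.f129277 IH) (Lpn (LP (LK LD1_c1 LD2_c33 LD3_c32))))))))
def v2555 : LQ := Led Lsl_gt (LP (LK LD1_c1 LD2_c48 LD3_c33))
theorem f527464 : Led Lsl_gt (LP (LK LD1_c1 LD2_c48 LD3_c33)) = v2555 :=
  Lrfl
theorem f662737 : (LP (LK LD1_c1 LD2_c36 LD3_c53)) = v2555 :=
  Lefun (Lecon (Lfl_gf (f495185 IH)) (f662734 IH).symm) (f527464 IH)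
theorem f454726 : Led Lsl_dt (LP (LK LD1_c3 LD2_c21 LD3_c15)) = (LP (LK LD1_c1 LD2_c36 LD3_c53)) :=
  Lre_d IH (LK LD1_c3 LD2_c21 LD3_c15) (LK LD1_c1 LD2_c36 LD3_c53) Lrfl Lrfl
theorem f662762 : (LP (LK LD1_c6 LD2_c32 LD3_c19)) = v6392 :=
  (Llr Lrot141 (Lpr_gt (K46.f649890 IH) (Lpe (f438906 IH) (Lpr_dt (f24848 IH) (Lpe (f662760 IH) (Lpe (f20163 IH) (Lpr_et (f20154 IH) (Lpr_gt (f632208 IH) (Lpqs (f662742 IH) (Lpe (f147513 IH) (Lpr_gt (f527464 IH) (Lpq (f662737 IH) (Lpe (f454726 IH) (Lpr_et (f653183 IH) (Lpn v6392))))))))))))))).symm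
theorem f662772 : v4509 = (LP (LK LD1_c3 LD2_c14 LD3_c19)) :=
  Lefun (Lecon (Lfl_gt (f653191 IH)) (f662762 IH).symm) (Lfl_gt (K46.f506863 IH))
theorem f23738 : Led Lsl_dt (LP (LK LD1_c3 LD2_c14 LD3_c19)) = (LP (LK LD1_c1 LD2_c33 LD3_c40)) :=
  Lre_d IH (LK LD1_c3 LD2_c14 LD3_c19) (LK LD1_c1 LD2_c33 LD3_c40) Lrfl Lrfl
theorem f506872 : Led Lsl_ff (LP (LK LD1_c1 LD2_c33 LD3_c29)) = K32.v2010 :=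
  Lgr Lrot3 (Lpr_ft (K32.f506870 IH) (Lpn K32.v2010))
theorem f506879 : Led Lsl_gf (LP (LK LD1_c1 LD2_c33 LD3_c41)) = K32.v2010 :=
  Lgr Lrot47 (Lpr_gt (K46.f22737 IH) (Lpe (K46.f23721 IH) (Lpr_ff (f506872 IH) (Lpn K32.v2010))))
theorem f134822 : Led Lsl_gt (LP (LK LD1_c3 LD2_c18 LD3_c59)) = (LP (LK LD1_c1 LD2_c36 LD3_c5)) :=
  Lre_g IH (LK LD1_c3 LD2_c18 LD3_c59) (LK LD1_c1 LD2_c36 LD3_c5) Lrfl Lrfl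
theorem f146057 : Led Lsl_bt (LP (LK LD1_c1 LD2_c8 LD3_c16)) = (LP (LK LD1_c2 LD2_c22 LD3_c7)) :=
  Lre_b IH (LK LD1_c1 LD2_c8 LD3_c16) (LK LD1_c2 LD2_c22 LD3_c7) Lrfl Lrfl
theorem f146058 : Led Lsl_ef (LP (LK LD1_c1 LD2_c36 LD3_c5)) = (LP (LK LD1_c2 LD2_c22 LD3_c7)) :=
  Lgr Lrot29 (Lpr_bt (K6.f139830 IH) (Lpr_et (K6.f146053 IH) (Lpr_bt (f146057 IH) (Lpn (LP (LK LD1_c2 LD2_c22 LD3_c7))))))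
theorem f416843 : Led Lsl_dt (LP (LK LD1_c2 LD2_c22 LD3_c7)) = (LP (LK LD1_c4 LD2_c48 LD3_c28)) :=
  Lre_d IH (LK LD1_c2 LD2_c22 LD3_c7) (LK LD1_c4 LD2_c48 LD3_c28) Lrfl Lrfl
theorem f144145 : Led Lsl_et (LP (LK LD1_c3 LD2_c14 LD3_c20)) = (LP (LK LD1_c1 LD2_c33 LD3_c40)) :=
  Lre_e IH (LK LD1_c3 LD2_c14 LD3_c20) (LK LD1_c1 LD2_c33 LD3_c40) Lrfl Lrfl
theorem f144146 : Led Lsl_dt (LP (LK LD1_c3 LD2_c14 LD3_c20)) = (LP (LK LD1_c6 LD2_c32 LD3_c22)) :=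
  Lre_d IH (LK LD1_c3 LD2_c14 LD3_c20) (LK LD1_c6 LD2_c32 LD3_c22) Lrfl Lrfl
theorem f144147 : Led Lsl_gt (LP (LK LD1_c6 LD2_c32 LD3_c22)) = (LP (LK LD1_c4 LD2_c48 LD3_c15)) :=
  Lgr Lrot112 (Lpe (f144146 IH) (Lpr_et (f144145 IH) (Lpe (K46.f22529 IH) (Lpe (K0.f23715 IH) (Lpr_dt (K0.f23675 IH) (Lpe (K1.f12422 IH) (Lpe (K4.f23695 IH) (Lpr_gf (K6.f144137 IH) (Lpe (K6.f84603 IH) (Lpr_dt (K6.f84597 IH) (Lpn (LP (LK LD1_c4 LD2_c48 LD3_c15)))))))))))))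
theorem f84579 : Led Lsl_at (LP (LK LD1_c2 LD2_c22 LD3_c6)) = (LP (LK LD1_c4 LD2_c48 LD3_c15)) :=
  Lre_a IH (LK LD1_c2 LD2_c22 LD3_c6) (LK LD1_c4 LD2_c48 LD3_c15) Lrfl Lrfl
theorem f84485 : Led Lsl_ft (LP (LK LD1_c4 LD2_c48 LD3_c28)) = (LP (LK LD1_c2 LD2_c22 LD3_c6)) :=
  Lre_f IH (LK LD1_c4 LD2_c48 LD3_c28) (LK LD1_c2 LD2_c22 LD3_c6) Lrfl Lrfl
theorem f437786 : Led Lsl_gf (LP (LK LD1_c6 LD2_c32 LD3_c22)) = (LP (LK LD1_c4 LD2_c48 LD3_c28)) :=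
  Lgr Lrot47 (Lpr_gt (f144147 IH) (Lpe (f84579 IH) (Lpe (f84485 IH) (Lpn (LP (LK LD1_c4 LD2_c48 LD3_c28))))))
theorem f506878 : Led Lsl_dt K32.v2010 = K32.v2010 :=
  Lgr Lrot60 (Lpe (K32.f506870 IH) (Lpe (f23722 IH) (Lpr_ff (f506872 IH) (Lpn K32.v2010))))
theorem f506882 : Led Lsl_gt (LP (LK LD1_c1 LD2_c33 LD3_c40)) = K32.v2010 :=
  Lgr Lrot137 (Lpe (f144145 IH) (Lpr_dt (f144146 IH) (Lpr_gf (f437786 IH) (Lpe (f416843 IH) (Lpe (f146058 IH) (Lpe (f134822 IH) (Lpr_ef (f438897 IH) (Lpr_dt (f23734 IH) (Lpr_gf (f506879 IH) (Lpe (f506878 IH) (Lpn K32.v2010)))))))))))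
def v2570 : LQ := Led Lsl_gt (LP (LK LD1_c1 LD2_c48 LD3_c49))
theorem f527534 : Led Lsl_gt (LP (LK LD1_c1 LD2_c48 LD3_c49)) = v2570 :=
  Lrfl
theorem f134806 : Led Lsl_et (LP (LK LD1_c3 LD2_c43 LD3_c29)) = (LP (LK LD1_c1 LD2_c48 LD3_c49)) :=
  Lre_e IH (LK LD1_c3 LD2_c43 LD3_c29) (LK LD1_c1 LD2_c48 LD3_c49) Lrfl Lrfl
theorem f24845 : Led Lsl_gt (LP (LK LD1_c6 LD2_c42 LD3_c0)) = (LP (LK LD1_c3 LD2_c18 LD3_c61)) :=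
  Lre_g IH (LK LD1_c6 LD2_c42 LD3_c0) (LK LD1_c3 LD2_c18 LD3_c61) Lrfl Lrfl
theorem f134805 : Led Lsl_gt (LP (LK LD1_c0 LD2_c51 LD3_c9)) = (LP (LK LD1_c1 LD2_c48 LD3_c49)) :=
  Lre_g IH (LK LD1_c0 LD2_c51 LD3_c9) (LK LD1_c1 LD2_c48 LD3_c49) Lrfl Lrfl
theorem f134807 : Led Lsl_df (LP (LK LD1_c6 LD2_c42 LD3_c0)) = (LP (LK LD1_c3 LD2_c43 LD3_c29)) :=
  Lgr Lrot170 (Lpr_gt (f24845 IH) (Lpe (K5.f24828 IH) (Lpr_et (K5.f24841 IH) (Lpr_gt (K5.f134794 IH) (Lpr_dt (K4.f5810 IH) (Lpr_gt (K4.f26221 IH) (Lpe (K4.f64387 IH) (Lpr_et (K24.f124188 IH) (Lpr_gt (f134805 IH) (Lpe (f134806 IH) (Lpn (LP (LK LD1_c3 LD2_c43 LD3_c29)))))))))))))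
theorem f134820 : Led Lsl_gt (LP (LK LD1_c3 LD2_c19 LD3_c22)) = (LP (LK LD1_c6 LD2_c42 LD3_c0)) :=
  Lre_g IH (LK LD1_c3 LD2_c19 LD3_c22) (LK LD1_c6 LD2_c42 LD3_c0) Lrfl Lrfl
theorem f134821 : Led Lsl_dt (LP (LK LD1_c1 LD2_c36 LD3_c5)) = (LP (LK LD1_c3 LD2_c19 LD3_c22)) :=
  Lre_d IH (LK LD1_c1 LD2_c36 LD3_c5) (LK LD1_c3 LD2_c19 LD3_c22) Lrfl Lrfl
theorem f527536 : Led Lsl_et K32.v2010 = v2570 :=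
  Lgr Lrot122 (Lpr_dt (f506878 IH) (Lpe (f506879 IH) (Lpe (f23734 IH) (Lpe (f438897 IH) (Lpr_gt (f134822 IH) (Lpr_dt (f134821 IH) (Lpr_gt (f134820 IH) (Lpr_df (f134807 IH) (Lpr_et (f134806 IH) (Lpr_gt (f527534 IH) (Lpn v2570)))))))))))
theorem f65915 : Led Lsl_at (LP (LK LD1_c0 LD2_c43 LD3_c34)) = (LP (LK LD1_c0 LD2_c19 LD3_c27)) :=
  Lre_a IH (LK LD1_c0 LD2_c43 LD3_c34) (LK LD1_c0 LD2_c19 LD3_c27) Lrfl Lrfl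
theorem f144104 : Led Lsl_dt (LP (LK LD1_c0 LD2_c30 LD3_c52)) = (LP (LK LD1_c1 LD2_c7 LD3_c16)) :=
  Lre_d IH (LK LD1_c0 LD2_c30 LD3_c52) (LK LD1_c1 LD2_c7 LD3_c16) Lrfl Lrfl
theorem f156581 : Led Lsl_ff (LP (LK LD1_c0 LD2_c43 LD3_c34)) = (LP (LK LD1_c1 LD2_c7 LD3_c16)) :=
  Lgr Lrot103 (Lpr_at (f65915 IH) (Lpe (K3.f24017 IH) (Lpe (K3.f24136 IH) (Lpe (K4.f65877 IH) (Lpr_df (K7.f156553 IH) (Lpe (K7.f156509 IH) (Lpe (f144104 IH) (Lpr_cf (K7.f156510 IH) (Lpe (K7.f144105 IH) (Lpn (LP (LK LD1_c1 LD2_c7 LD3_c16))))))))))))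
theorem f148391 : Led Lsl_at (LP (LK LD1_c0 LD2_c50 LD3_c59)) = (LP (LK LD1_c0 LD2_c23 LD3_c5)) :=
  Lre_a IH (LK LD1_c0 LD2_c50 LD3_c59) (LK LD1_c0 LD2_c23 LD3_c5) Lrfl Lrfl
theorem f152080 : Led Lsl_at (LP (LK LD1_c0 LD2_c19 LD3_c27)) = (LP (LK LD1_c0 LD2_c43 LD3_c34)) :=
  Lre_a IH (LK LD1_c0 LD2_c19 LD3_c27) (LK LD1_c0 LD2_c43 LD3_c34) Lrfl Lrfl
theorem f152081 : Led Lsl_bf (LP (LK LD1_c0 LD2_c50 LD3_c59)) = (LP (LK LD1_c0 LD2_c43 LD3_c34)) :=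
  Lgr Lrot81 (Lpr_at (f148391 IH) (Lpe (K5.f124184 IH) (Lpr_at (K7.f152076 IH) (Lpr_bt (K2.f24028 IH) (Lpr_at (f152080 IH) (Lpn (LP (LK LD1_c0 LD2_c43 LD3_c34))))))))
theorem f156584 : Led Lsl_ft (LP (LK LD1_c0 LD2_c50 LD3_c59)) = (LP (LK LD1_c0 LD2_c43 LD3_c21)) :=
  Lgr Lrot75 (Lpr_bf (f152081 IH) (Lpr_ff (f156581 IH) (Lpe (K7.f156517 IH) (Lpn (LP (LK LD1_c0 LD2_c43 LD3_c21))))))
def v793 : LQ := Led Lsl_et (LP (LK LD1_c0 LD2_c50 LD3_c59))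
theorem f459412 : Led Lsl_et (LP (LK LD1_c0 LD2_c50 LD3_c59)) = v793 :=
  Lrfl
theorem f459415 : Led Lsl_ef (LP (LK LD1_c0 LD2_c50 LD3_c59)) = v793 :=
  Lgr Lrot88 (Lpr_et (f459412 IH) (Lpn v793))
theorem f527539 : Led Lsl_ff v793 = v2570 :=
  Lgr Lrot72 (Lpe (f459415 IH) (Lpr_ft (f156584 IH) (Lpr_et (f148371 IH) (Lpr_ft (K32.f506870 IH) (Lpr_et (f527536 IH) (Lpn v2570))))))
theorem f124183 : Led Lsl_at (LP (LK LD1_c0 LD2_c23 LD3_c5)) = (LP (LK LD1_c0 LD2_c50 LD3_c59)) :=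
  Lre_a IH (LK LD1_c0 LD2_c23 LD3_c5) (LK LD1_c0 LD2_c50 LD3_c59) Lrfl Lrfl
theorem f116081 : Led Lsl_et (LP (LK LD1_c0 LD2_c51 LD3_c9)) = (LP (LK LD1_c0 LD2_c23 LD3_c5)) :=
  Lre_e IH (LK LD1_c0 LD2_c51 LD3_c9) (LK LD1_c0 LD2_c23 LD3_c5) Lrfl Lrfl
theorem f459413 : Led Lsl_af (LP (LK LD1_c0 LD2_c51 LD3_c9)) = v793 :=
  Lgr Lrot50 (Lpr_et (f116081 IH) (Lpr_at (f124183 IH) (Lpr_et (f459412 IH) (Lpn v793))))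
def v799 : LQ := Led Lsl_gf (LP (LK LD1_c0 LD2_c51 LD3_c9))
theorem f459450 : Led Lsl_gf (LP (LK LD1_c0 LD2_c51 LD3_c9)) = v799 :=
  Lrfl
theorem f527541 : Led Lsl_gf v799 = v2570 :=
  Lgr Lrot47 (Lpe (f459450 IH) (Lpr_af (f459413 IH) (Lpr_ff (f527539 IH) (Lpn v2570))))
def v3393 : LQ := Led Lsl_et v799
theorem f625476 : Led Lsl_et v799 = v3393 :=
  Lrfl
theorem f625477 : Led Lsl_ef v799 = v3393 :=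
  Lgr Lrot88 (Lpr_et (f625476 IH) (Lpn v3393))
theorem f662776 : Led Lsl_df v2180 = v3393 :=
  Lgr Lrot170 (Lpe (f509497 IH) (Lpe (K46.f23192 IH) (Lpr_et (K46.f446253 IH) (Lpr_gt (f634309 IH) (Lpqs (f662772 IH) (Lpr_dt (f23738 IH) (Lpr_gt (f506882 IH) (Lpe (f506878 IH) (Lpr_et (f527536 IH) (Lpe (f527541 IH) (Lpr_ef (f625477 IH) (Lpn v3393))))))))))))
theorem f509478 : Led Lsl_af (LP (LK LD1_c1 LD2_c36 LD3_c56)) = v2176 :=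
  Lgr Lrot50 (Lpr_et (K46.f446264 IH) (Lpr_at (f450663 IH) (Lpr_et (f509477 IH) (Lpn v2176))))
theorem f509487 : Led Lsl_ft (LP (LK LD1_c3 LD2_c21 LD3_c15)) = v2176 :=
  Lgr Lrot48 (Lpr_ff (f509482 IH) (Lpn v2176))
theorem f509498 : Led Lsl_gt (LP (LK LD1_c3 LD2_c21 LD3_c15)) = v2180 :=
  Lgr Lrot5 (Lpr_ft (f509487 IH) (Lpe (f509478 IH) (Lpr_gf (f509497 IH) (Lpn v2180))))
theorem f454731 : Led Lsl_dt (LP (LK LD1_c1 LD2_c36 LD3_c53)) = (LP (LK LD1_c3 LD2_c21 LD3_c15)) :=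
  Lre_d IH (LK LD1_c1 LD2_c36 LD3_c53) (LK LD1_c3 LD2_c21 LD3_c15) Lrfl Lrfl
theorem f141146 : Led Lsl_gt (LP (LK LD1_c1 LD2_c36 LD3_c55)) = (LP (LK LD1_c3 LD2_c21 LD3_c18)) :=
  Lre_g IH (LK LD1_c1 LD2_c36 LD3_c55) (LK LD1_c3 LD2_c21 LD3_c18) Lrfl Lrfl
theorem f509483 : Led Lsl_gt (LP (LK LD1_c3 LD2_c21 LD3_c18)) = v2176 :=
  Lgr Lrot46 (Lpe (f141146 IH) (Lpr_ft (K46.f454722 IH) (Lpr_at (f509480 IH) (Lpn v2176))))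
def v6400 : LQ := Led Lsl_et (LP (LK LD1_c3 LD2_c21 LD3_c18))
theorem f653219 : Led Lsl_et (LP (LK LD1_c3 LD2_c21 LD3_c18)) = v6400 :=
  Lrfl
theorem f653220 : Led Lsl_ef (LP (LK LD1_c3 LD2_c21 LD3_c18)) = v6400 :=
  Lgr Lrot88 (Lpr_et (f653219 IH) (Lpn v6400))
def v800 : LQ := Led Lsl_dt (LP (LK LD1_c0 LD2_c51 LD3_c9))
theorem f459451 : Led Lsl_dt (LP (LK LD1_c0 LD2_c51 LD3_c9)) = v800 :=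
  Lrfl
def v3394 : LQ := Led Lsl_gt v800
theorem f625478 : Led Lsl_gt v800 = v3394 :=
  Lrfl
theorem f662778 : Led Lsl_dt v6400 = v3394 :=
  Lgr Lrot56 (Lpe (f653220 IH) (Lpr_gt (f509483 IH) (Lpe (f509477 IH) (Lpr_dt (f454731 IH) (Lpr_gt (f509498 IH) (Lpr_df (f662776 IH) (Lpe (f625477 IH) (Lpe (f459450 IH) (Lpr_dt (f459451 IH) (Lpr_gt (f625478 IH) (Lpn v3394)))))))))))
theorem f454772 : Led Lsl_gf K46.v560 = (LP (LK LD1_c2 LD2_c22 LD3_c43)) :=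
  Lgr Lrot47 (Lpe (K46.f453994 IH) (Lpe (K46.f450662 IH) (Lpr_ff (K46.f454710 IH) (Lpn (LP (LK LD1_c2 LD2_c22 LD3_c43))))))
theorem f662780 : K46.v3197 = (LP (LK LD1_c1 LD2_c48 LD3_c43)) :=
  (Llr Lrot132 (Lpe (K46.f624593 IH) (Lpr_gf (f454772 IH) (Lpr_df (f509481 IH) (Lpe (f509483 IH) (Lpr_ef (f653220 IH) (Lpr_dt (f662778 IH) (Lpe (f625478 IH) (Lpe (f459451 IH) (Lpr_et (f116081 IH) (Lpe (K7.f64388 IH) (Lpe (K46.f148094 IH) (Lpn (LP (LK LD1_c1 LD2_c48 LD3_c43))))))))))))))).symm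
theorem f662781 : (LP (LK LD1_c1 LD2_c27 LD3_c19)) = v2563 :=
  Lefun (Lecon (Lfl_gf (K46.f502934 IH)) ((K46.f649434 IH).symm.trans (f662780 IH))) (f527500 IH)
theorem f662787 : v2013 = (LP (LK LD1_c3 LD2_c2 LD3_c43)) :=
  Lefun (Lecon (Lfl_gf (f527501 IH)) (f662781 IH).symm) (K46.f413474 IH)
theorem f662830 : (LP (LK LD1_c3 LD2_c43 LD3_c15)) = v5260 :=
  Lefun (Lecon (Lfl_ef (f506888 IH)) (f662787 IH)) (f646826 IH)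
theorem f662849 : v5328 = (LP (LK LD1_c3 LD2_c14 LD3_c1)) :=
  Lefun (Lecon (f647105 IH) ((f649441 IH).trans (f662830 IH).symm)) (Lfl_gf (f209514 IH))
theorem f209516 : Led Lsl_dt (LP (LK LD1_c3 LD2_c14 LD3_c1)) = (LP (LK LD1_c6 LD2_c31 LD3_c41)) :=
  Lre_d IH (LK LD1_c3 LD2_c14 LD3_c1) (LK LD1_c6 LD2_c31 LD3_c41) Lrfl Lrfl
theorem f662897 : Led Lsl_af (LP (LK LD1_c6 LD2_c17 LD3_c50)) = (LP (LK LD1_c6 LD2_c31 LD3_c41)) :=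
  Lgr Lrot117 (Lpr_dt (f57656 IH) (Lpr_at (f647101 IH) (Lpqs (f662849 IH) (Lpr_dt (f209516 IH) (Lpn (LP (LK LD1_c6 LD2_c31 LD3_c41)))))))
theorem f416575 : Led Lsl_bt (LP (LK LD1_c6 LD2_c24 LD3_c17)) = (LP (LK LD1_c3 LD2_c9 LD3_c46)) :=
  Lre_b IH (LK LD1_c6 LD2_c24 LD3_c17) (LK LD1_c3 LD2_c9 LD3_c46) Lrfl Lrfl
theorem f416576 : Led Lsl_bt (LP (LK LD1_c3 LD2_c6 LD3_c7)) = (LP (LK LD1_c6 LD2_c17 LD3_c50)) :=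
  Lre_b IH (LK LD1_c3 LD2_c6 LD3_c7) (LK LD1_c6 LD2_c17 LD3_c50) Lrfl Lrfl
theorem f416577 : Led Lsl_ef (LP (LK LD1_c6 LD2_c24 LD3_c17)) = (LP (LK LD1_c6 LD2_c17 LD3_c50)) :=
  Lgr Lrot29 (Lpr_bt (f416575 IH) (Lpr_et (K32.f416571 IH) (Lpr_bt (f416576 IH) (Lpn (LP (LK LD1_c6 LD2_c17 LD3_c50))))))
theorem f416579 : Led Lsl_at (LP (LK LD1_c6 LD2_c24 LD3_c17)) = (LP (LK LD1_c12 LD2_c21 LD3_c48)) :=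
  Lre_a IH (LK LD1_c6 LD2_c24 LD3_c17) (LK LD1_c12 LD2_c21 LD3_c48) Lrfl Lrfl
theorem f662903 : Led Lsl_et (LP (LK LD1_c12 LD2_c21 LD3_c48)) = (LP (LK LD1_c6 LD2_c31 LD3_c41)) :=
  Lgr Lrot123 (Lpe (f416579 IH) (Lpr_ef (f416577 IH) (Lpr_af (f662897 IH) (Lpn (LP (LK LD1_c6 LD2_c31 LD3_c41))))))
theorem f662905 : Led Lsl_ef (LP (LK LD1_c12 LD2_c21 LD3_c48)) = (LP (LK LD1_c6 LD2_c31 LD3_c41)) :=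
  Lgr Lrot88 (Lpr_et (f662903 IH) (Lpn (LP (LK LD1_c6 LD2_c31 LD3_c41))))
theorem f209524 : Led Lsl_dt (LP (LK LD1_c6 LD2_c31 LD3_c41)) = (LP (LK LD1_c3 LD2_c14 LD3_c1)) :=
  Lre_d IH (LK LD1_c6 LD2_c31 LD3_c41) (LK LD1_c3 LD2_c14 LD3_c1) Lrfl Lrfl
theorem f82430 : Led Lsl_ct (LP (LK LD1_c3 LD2_c1 LD3_c2)) = (LP (LK LD1_c6 LD2_c9 LD3_c18)) :=
  Lre_c IH (LK LD1_c3 LD2_c1 LD3_c2) (LK LD1_c6 LD2_c9 LD3_c18) Lrfl Lrfl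
theorem f153313 : Led Lsl_ff (LP (LK LD1_c3 LD2_c1 LD3_c2)) = (LP (LK LD1_c1 LD2_c33 LD3_c24)) :=
  Lgr Lrot23 (Lpr_ct (f82430 IH) (Lpr_ft (K7.f153307 IH) (Lpr_ct (K3.f95809 IH) (Lpn (LP (LK LD1_c1 LD2_c33 LD3_c24))))))
theorem f153386 : Led Lsl_af (LP (LK LD1_c3 LD2_c22 LD3_c51)) = (LP (LK LD1_c3 LD2_c1 LD3_c2)) :=
  Lgr Lrot31 (Lpr_gf (K7.f153384 IH) (Lpe (K5.f134858 IH) (Lpe (f153313 IH) (Lpn (LP (LK LD1_c3 LD2_c1 LD3_c2))))))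
theorem f435819 : Led Lsl_at (LP (LK LD1_c3 LD2_c22 LD3_c51)) = (LP (LK LD1_c3 LD2_c1 LD3_c2)) :=
  Lgr Lrot100 (Lpr_af (f153386 IH) (Lpn (LP (LK LD1_c3 LD2_c1 LD3_c2))))
theorem f116070 : Led Lsl_dt (LP (LK LD1_c3 LD2_c43 LD3_c14)) = (LP (LK LD1_c1 LD2_c48 LD3_c40)) :=
  Lre_d IH (LK LD1_c3 LD2_c43 LD3_c14) (LK LD1_c1 LD2_c48 LD3_c40) Lrfl Lrfl
theorem f116071 : Led Lsl_ef (LP (LK LD1_c3 LD2_c43 LD3_c14)) = (LP (LK LD1_c3 LD2_c1 LD3_c2)) :=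
  Lgr Lrot73 (Lpr_dt (f116070 IH) (Lpr_et (K46.f116069 IH) (Lpr_dt (K4.f116055 IH) (Lpr_et (K3.f82416 IH) (Lpr_dt (K5.f82433 IH) (Lpn (LP (LK LD1_c3 LD2_c1 LD3_c2))))))))
theorem f435821 : Led Lsl_ef (LP (LK LD1_c3 LD2_c22 LD3_c51)) = (LP (LK LD1_c3 LD2_c14 LD3_c2)) :=
  Lgr Lrot20 (Lpr_at (f435819 IH) (Lpe (f116071 IH) (Lpe (K46.f209436 IH) (Lpn (LP (LK LD1_c3 LD2_c14 LD3_c2))))))
theorem f430515 : Led Lsl_dt (LP (LK LD1_c3 LD2_c22 LD3_c13)) = (LP (LK LD1_c3 LD2_c1 LD3_c3)) :=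
  Lgr Lrot42 (Lpr_df (K11.f430492 IH) (Lpn (LP (LK LD1_c3 LD2_c1 LD3_c3))))
theorem f430500 : Led Lsl_et (LP (LK LD1_c3 LD2_c22 LD3_c13)) = (LP (LK LD1_c6 LD2_c48 LD3_c3)) :=
  Lre_e IH (LK LD1_c3 LD2_c22 LD3_c13) (LK LD1_c6 LD2_c48 LD3_c3) Lrfl Lrfl
theorem f662907 : Led Lsl_gf (LP (LK LD1_c12 LD2_c21 LD3_c48)) = (LP (LK LD1_c6 LD2_c48 LD3_c3)) :=
  Lgr Lrot141 (Lpr_ef (f662905 IH) (Lpr_dt (f209524 IH) (Lpr_gt (f209513 IH) (Lpe (K46.f209471 IH) (Lpe (f435821 IH) (Lpe (K5.f121391 IH) (Lpr_dt (K7.f134883 IH) (Lpr_gt (K6.f21048 IH) (Lpe (f430515 IH) (Lpr_et (f430500 IH) (Lpn (LP (LK LD1_c6 LD2_c48 LD3_c3)))))))))))))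
theorem f436116 : Led Lsl_bt (LP (LK LD1_c4 LD2_c42 LD3_c33)) = (LP (LK LD1_c9 LD2_c19 LD3_c24)) :=
  Lre_b IH (LK LD1_c4 LD2_c42 LD3_c33) (LK LD1_c9 LD2_c19 LD3_c24) Lrfl Lrfl
theorem f503257 : Led Lsl_ff (LP (LK LD1_c6 LD2_c24 LD3_c17)) = (LP (LK LD1_c9 LD2_c19 LD3_c24)) :=
  Lgr Lrot25 (Lpr_bt (f416575 IH) (Lpr_ft (K32.f503255 IH) (Lpr_bt (f436116 IH) (Lpn (LP (LK LD1_c9 LD2_c19 LD3_c24))))))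
theorem f662909 : Led Lsl_gt (LP (LK LD1_c9 LD2_c19 LD3_c24)) = (LP (LK LD1_c6 LD2_c48 LD3_c3)) :=
  Lgr Lrot5 (Lpe (f503257 IH) (Lpr_at (f416579 IH) (Lpr_gf (f662907 IH) (Lpn (LP (LK LD1_c6 LD2_c48 LD3_c3))))))
theorem f436125 : Led Lsl_bt (LP (LK LD1_c3 LD2_c22 LD3_c6)) = (LP (LK LD1_c6 LD2_c47 LD3_c47)) :=
  Lre_b IH (LK LD1_c3 LD2_c22 LD3_c6) (LK LD1_c6 LD2_c47 LD3_c47) Lrfl Lrfl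
theorem f86100 : Led Lsl_bt (LP (LK LD1_c9 LD2_c19 LD3_c24)) = (LP (LK LD1_c4 LD2_c42 LD3_c33)) :=
  Lre_b IH (LK LD1_c9 LD2_c19 LD3_c24) (LK LD1_c4 LD2_c42 LD3_c33) Lrfl Lrfl
theorem f436126 : Led Lsl_dt (LP (LK LD1_c6 LD2_c47 LD3_c47)) = (LP (LK LD1_c9 LD2_c19 LD3_c24)) :=
  Lgr Lrot79 (Lpe (f436125 IH) (Lpr_df (K32.f436120 IH) (Lpe (f86100 IH) (Lpn (LP (LK LD1_c9 LD2_c19 LD3_c24))))))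
theorem f436131 : Led Lsl_et (LP (LK LD1_c6 LD2_c47 LD3_c47)) = (LP (LK LD1_c3 LD2_c22 LD3_c4)) :=
  Lre_e IH (LK LD1_c6 LD2_c47 LD3_c47) (LK LD1_c3 LD2_c22 LD3_c4) Lrfl Lrfl
theorem f84489 : Led Lsl_et (LP (LK LD1_c6 LD2_c48 LD3_c3)) = (LP (LK LD1_c3 LD2_c22 LD3_c13)) :=
  Lre_e IH (LK LD1_c6 LD2_c48 LD3_c3) (LK LD1_c3 LD2_c22 LD3_c13) Lrfl Lrfl
theorem f430517 : Led Lsl_dt (LP (LK LD1_c6 LD2_c48 LD3_c3)) = (LP (LK LD1_c6 LD2_c48 LD3_c3)) :=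
  Lgr Lrot77 (Lpe (f430500 IH) (Lpr_df (K11.f430492 IH) (Lpe (K11.f430494 IH) (Lpe (f430515 IH) (Lpe (f84489 IH) (Lpn (LP (LK LD1_c6 LD2_c48 LD3_c3))))))))
theorem f86743 : Led Lsl_et (LP (LK LD1_c1 LD2_c48 LD3_c38)) = (LP (LK LD1_c3 LD2_c43 LD3_c6)) :=
  Lre_e IH (LK LD1_c1 LD2_c48 LD3_c38) (LK LD1_c3 LD2_c43 LD3_c6) Lrfl Lrfl
theorem f662911 : v6464 = (LP (LK LD1_c3 LD2_c43 LD3_c6)) :=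
  (Llr Lrot141 (Lpe (f653514 IH) (Lpe (f436131 IH) (Lpr_dt (f436126 IH) (Lpr_gt (f662909 IH) (Lpe (f430517 IH) (Lpr_et (f84489 IH) (Lpr_gt (K11.f430485 IH) (Lpr_dt (K6.f126889 IH) (Lpr_gt (K5.f124264 IH) (Lpe (K4.f86735 IH) (Lpr_et (f86743 IH) (Lpn (LP (LK LD1_c3 LD2_c43 LD3_c6))))))))))))))).symm
theorem f107036 : Led Lsl_dt (LP (LK LD1_c1 LD2_c48 LD3_c37)) = (LP (LK LD1_c3 LD2_c43 LD3_c6)) :=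
  Lre_d IH (LK LD1_c1 LD2_c48 LD3_c37) (LK LD1_c3 LD2_c43 LD3_c6) Lrfl Lrfl
theorem f134809 : Led Lsl_gt (LP (LK LD1_c7 LD2_c27 LD3_c34)) = (LP (LK LD1_c3 LD2_c43 LD3_c29)) :=
  Lre_g IH (LK LD1_c7 LD2_c27 LD3_c34) (LK LD1_c3 LD2_c43 LD3_c29) Lrfl Lrfl
theorem f662932 : Led Lsl_ef (LP (LK LD1_c7 LD2_c27 LD3_c34)) = (LP (LK LD1_c6 LD2_c12 LD3_c27)) :=
  Lgr Lrot167 (Lpr_gt (f134809 IH) (Lpe (f134807 IH) (Lpr_gt (f24845 IH) (Lpe (K5.f24828 IH) (Lpr_et (K5.f24841 IH) (Lpr_gt (K5.f134794 IH) (Lpe (K3.f107049 IH) (Lpr_dt (f107036 IH) (Lpq (f662911 IH) (Lpe (f653514 IH) (Lpr_df (f504183 IH) (Lpn (LP (LK LD1_c6 LD2_c12 LD3_c27))))))))))))))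
theorem f662937 : Led Lsl_et (LP (LK LD1_c7 LD2_c27 LD3_c34)) = (LP (LK LD1_c6 LD2_c12 LD3_c27)) :=
  Lgr Lrot87 (Lpr_ef (f662932 IH) (Lpn (LP (LK LD1_c6 LD2_c12 LD3_c27))))
theorem f140815 : Led Lsl_bt (LP (LK LD1_c4 LD2_c50 LD3_c13)) = (LP (LK LD1_c2 LD2_c22 LD3_c55)) :=
  Lre_b IH (LK LD1_c4 LD2_c50 LD3_c13) (LK LD1_c2 LD2_c22 LD3_c55) Lrfl Lrfl
theorem f413503 : Led Lsl_bt (LP (LK LD1_c1 LD2_c27 LD3_c22)) = (LP (LK LD1_c3 LD2_c2 LD3_c47)) :=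
  Lre_b IH (LK LD1_c1 LD2_c27 LD3_c22) (LK LD1_c3 LD2_c2 LD3_c47) Lrfl Lrfl
theorem f415541 : Led Lsl_df (LP (LK LD1_c4 LD2_c50 LD3_c13)) = (LP (LK LD1_c3 LD2_c2 LD3_c47)) :=
  Lgr Lrot12 (Lpr_bt (f140815 IH) (Lpr_dt (K24.f415317 IH) (Lpr_bt (f413503 IH) (Lpn (LP (LK LD1_c3 LD2_c2 LD3_c47))))))
theorem f416117 : Led Lsl_ft (LP (LK LD1_c6 LD2_c12 LD3_c27)) = (LP (LK LD1_c3 LD2_c2 LD3_c47)) :=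
  Lre_f IH (LK LD1_c6 LD2_c12 LD3_c27) (LK LD1_c3 LD2_c2 LD3_c47) Lrfl Lrfl
theorem f504176 : Led Lsl_dt (LP (LK LD1_c3 LD2_c22 LD3_c4)) = (LP (LK LD1_c6 LD2_c12 LD3_c27)) :=
  Lgr Lrot60 (Lpr_ff (f504172 IH) (Lpr_df (f415541 IH) (Lpe (f416117 IH) (Lpn (LP (LK LD1_c6 LD2_c12 LD3_c27))))))
theorem f436115 : Led Lsl_bt (LP (LK LD1_c6 LD2_c47 LD3_c47)) = (LP (LK LD1_c3 LD2_c22 LD3_c6)) :=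
  Lre_b IH (LK LD1_c6 LD2_c47 LD3_c47) (LK LD1_c3 LD2_c22 LD3_c6) Lrfl Lrfl
theorem f436117 : Led Lsl_df (LP (LK LD1_c6 LD2_c47 LD3_c47)) = (LP (LK LD1_c9 LD2_c19 LD3_c24)) :=
  Lgr Lrot12 (Lpr_bt (f436115 IH) (Lpr_dt (K32.f436107 IH) (Lpr_bt (f436116 IH) (Lpn (LP (LK LD1_c9 LD2_c19 LD3_c24))))))
def v6252 : LQ := Led Lsl_bt (LP (LK LD1_c3 LD2_c19 LD3_c26))
theorem f652300 : Led Lsl_bt (LP (LK LD1_c3 LD2_c19 LD3_c26)) = v6252 :=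
  Lrfl
theorem f652302 : Led Lsl_ef (LP (LK LD1_c9 LD2_c19 LD3_c24)) = v6252 :=
  Lgr Lrot29 (Lpr_bt (f86100 IH) (Lpr_et (K32.f503287 IH) (Lpr_bt (f652300 IH) (Lpn v6252))))
theorem f662936 : Led Lsl_dt (LP (LK LD1_c7 LD2_c27 LD3_c34)) = v6252 :=
  Lgr Lrot77 (Lpr_ef (f662932 IH) (Lpe (f504176 IH) (Lpe (f436131 IH) (Lpr_df (f436117 IH) (Lpr_ef (f652302 IH) (Lpn v6252))))))
theorem f632219 : Led Lsl_ft (LP (LK LD1_c6 LD2_c12 LD3_c19)) = (LP (LK LD1_c12 LD2_c4 LD3_c15)) :=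
  Lre_f IH (LK LD1_c6 LD2_c12 LD3_c19) (LK LD1_c12 LD2_c4 LD3_c15) Lrfl Lrfl
theorem f503661 : Led Lsl_at (LP (LK LD1_c12 LD2_c4 LD3_c15)) = (LP (LK LD1_c6 LD2_c12 LD3_c27)) :=
  Lre_a IH (LK LD1_c12 LD2_c4 LD3_c15) (LK LD1_c6 LD2_c12 LD3_c27) Lrfl Lrfl
theorem f435827 : Led Lsl_et (LP (LK LD1_c7 LD2_c26 LD3_c56)) = (LP (LK LD1_c6 LD2_c31 LD3_c44)) :=
  Lgr Lrot69 (Lpe (K3.f106987 IH) (Lpe (f86743 IH) (Lpe (K3.f106983 IH) (Lpr_ef (f435821 IH) (Lpe (K46.f209432 IH) (Lpn (LP (LK LD1_c6 LD2_c31 LD3_c44))))))))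
theorem f107013 : Led Lsl_at (LP (LK LD1_c6 LD2_c30 LD3_c61)) = (LP (LK LD1_c7 LD2_c26 LD3_c56)) :=
  Lgr Lrot100 (Lpr_af (K3.f107004 IH) (Lpn (LP (LK LD1_c7 LD2_c26 LD3_c56))))
theorem f209426 : Led Lsl_at (LP (LK LD1_c6 LD2_c31 LD3_c44)) = (LP (LK LD1_c7 LD2_c27 LD3_c7)) :=
  Lgr Lrot100 (Lpr_af (K46.f209422 IH) (Lpn (LP (LK LD1_c7 LD2_c27 LD3_c7))))
theorem f435829 : Led Lsl_ef (LP (LK LD1_c6 LD2_c30 LD3_c61)) = (LP (LK LD1_c7 LD2_c27 LD3_c7)) :=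
  Lgr Lrot20 (Lpr_at (f107013 IH) (Lpr_et (f435827 IH) (Lpr_at (f209426 IH) (Lpn (LP (LK LD1_c7 LD2_c27 LD3_c7))))))
theorem f208782 : Led Lsl_dt (LP (LK LD1_c7 LD2_c27 LD3_c7)) = (LP (LK LD1_c3 LD2_c43 LD3_c15)) :=
  Lre_d IH (LK LD1_c7 LD2_c27 LD3_c7) (LK LD1_c3 LD2_c43 LD3_c15) Lrfl Lrfl
def v2014 : LQ := Led Lsl_gt (LP (LK LD1_c1 LD2_c33 LD3_c35))
theorem f506894 : Led Lsl_gt (LP (LK LD1_c1 LD2_c33 LD3_c35)) = v2014 :=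
  Lrfl
theorem f209373 : Led Lsl_ft (LP (LK LD1_c1 LD2_c33 LD3_c35)) = (LP (LK LD1_c3 LD2_c14 LD3_c3)) :=
  Lre_f IH (LK LD1_c1 LD2_c33 LD3_c35) (LK LD1_c3 LD2_c14 LD3_c3) Lrfl Lrfl
theorem f506895 : Led Lsl_gf (LP (LK LD1_c3 LD2_c43 LD3_c15)) = v2014 :=
  Lgr Lrot76 (Lpe (K46.f209416 IH) (Lpe (f209373 IH) (Lpr_gt (f506894 IH) (Lpn v2014))))
theorem f662850 : (LP (LK LD1_c3 LD2_c3 LD3_c6)) = v2014 :=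
  Lefun (Lecon (Lfl_gt (f646914 IH)) ((f649441 IH).trans (f662830 IH).symm)) (f506895 IH)
theorem f24836 : Led Lsl_dt (LP (LK LD1_c6 LD2_c41 LD3_c59)) = (LP (LK LD1_c3 LD2_c18 LD3_c59)) :=
  Lre_d IH (LK LD1_c6 LD2_c41 LD3_c59) (LK LD1_c3 LD2_c18 LD3_c59) Lrfl Lrfl
theorem f438911 : Led Lsl_et (LP (LK LD1_c1 LD2_c33 LD3_c41)) = (LP (LK LD1_c3 LD2_c14 LD3_c23)) :=
  Lre_e IH (LK LD1_c1 LD2_c33 LD3_c41) (LK LD1_c3 LD2_c14 LD3_c23) Lrfl Lrfl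
theorem f23741 : Led Lsl_dt (LP (LK LD1_c3 LD2_c14 LD3_c23)) = (LP (LK LD1_c6 LD2_c32 LD3_c28)) :=
  Lre_d IH (LK LD1_c3 LD2_c14 LD3_c23) (LK LD1_c6 LD2_c32 LD3_c28) Lrfl Lrfl
theorem f438912 : Led Lsl_ef (LP (LK LD1_c6 LD2_c41 LD3_c59)) = (LP (LK LD1_c6 LD2_c32 LD3_c28)) :=
  Lgr Lrot73 (Lpr_dt (f24836 IH) (Lpr_et (f438906 IH) (Lpr_dt (f23734 IH) (Lpr_et (f438911 IH) (Lpr_dt (f23741 IH) (Lpn (LP (LK LD1_c6 LD2_c32 LD3_c28))))))))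
theorem f438903 : Led Lsl_dt (LP (LK LD1_c6 LD2_c32 LD3_c28)) = (LP (LK LD1_c3 LD2_c14 LD3_c23)) :=
  Lre_d IH (LK LD1_c6 LD2_c32 LD3_c28) (LK LD1_c3 LD2_c14 LD3_c23) Lrfl Lrfl
def v5872 : LQ := Led Lsl_gf (LP (LK LD1_c3 LD2_c14 LD3_c23))
theorem f649906 : Led Lsl_gf (LP (LK LD1_c3 LD2_c14 LD3_c23)) = v5872 :=
  Lrfl
theorem f86744 : Led Lsl_gt (LP (LK LD1_c7 LD2_c26 LD3_c54)) = (LP (LK LD1_c3 LD2_c43 LD3_c6)) :=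
  Lre_g IH (LK LD1_c7 LD2_c26 LD3_c54) (LK LD1_c3 LD2_c43 LD3_c6) Lrfl Lrfl
theorem f107006 : Led Lsl_gt (LP (LK LD1_c6 LD2_c30 LD3_c61)) = (LP (LK LD1_c7 LD2_c26 LD3_c54)) :=
  Lgr Lrot5 (Lpr_ft (K3.f95799 IH) (Lpr_at (K3.f106994 IH) (Lpe (f86744 IH) (Lpn (LP (LK LD1_c7 LD2_c26 LD3_c54))))))
theorem f662916 : Led Lsl_df v5872 = (LP (LK LD1_c7 LD2_c26 LD3_c54)) :=
  Lgr Lrot135 (Lpe (f649906 IH) (Lpe (f438903 IH) (Lpe (f438912 IH) (Lpe (f662760 IH) (Lpr_ef (f20148 IH) (Lpr_dt (f20158 IH) (Lpqs (f662850 IH) (Lpe (f506895 IH) (Lpe (f208782 IH) (Lpe (f435829 IH) (Lpr_gt (f107006 IH) (Lpn (LP (LK LD1_c7 LD2_c26 LD3_c54))))))))))))))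
theorem f662917 : Led Lsl_dt v5872 = (LP (LK LD1_c7 LD2_c26 LD3_c54)) :=
  Lgr Lrot42 (Lpr_df (f662916 IH) (Lpn (LP (LK LD1_c7 LD2_c26 LD3_c54))))
def v2557 : LQ := Led Lsl_ft (LP (LK LD1_c1 LD2_c48 LD3_c33))
theorem f527467 : Led Lsl_ft (LP (LK LD1_c1 LD2_c48 LD3_c33)) = v2557 :=
  Lrfl
theorem f527471 : Led Lsl_ff (LP (LK LD1_c1 LD2_c48 LD3_c33)) = v2557 :=
  Lgr Lrot3 (Lpr_ft (f527467 IH) (Lpn v2557))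
theorem f23624 : Led Lsl_ft (LP (LK LD1_c1 LD2_c33 LD3_c22)) = (LP (LK LD1_c3 LD2_c13 LD3_c40)) :=
  Lre_f IH (LK LD1_c1 LD2_c33 LD3_c22) (LK LD1_c3 LD2_c13 LD3_c40) Lrfl Lrfl
theorem f527475 : Led Lsl_et (LP (LK LD1_c3 LD2_c13 LD3_c40)) = v2557 :=
  Lgr Lrot69 (Lpe (f23624 IH) (Lpe (K3.f23646 IH) (Lpe (K4.f121257 IH) (Lpe (f121266 IH) (Lpr_ff (f527471 IH) (Lpn v2557))))))
theorem f527474 : Led Lsl_dt v2013 = v2557 :=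
  Lgr Lrot60 (Lpe (f506886 IH) (Lpe (f121286 IH) (Lpr_ff (f527471 IH) (Lpn v2557))))
theorem f662825 : v2557 = K46.v5259 :=
  Lefun (Lecon (f527474 IH) (f662787 IH)) (K46.f646824 IH)
theorem f446257 : Led Lsl_df (LP (LK LD1_c1 LD2_c8 LD3_c28)) = (LP (LK LD1_c1 LD2_c36 LD3_c56)) :=
  Lgr Lrot70 (Lpr_et (K46.f446253 IH) (Lpr_dt (f446140 IH) (Lpr_et (K46.f446254 IH) (Lpr_dt (K46.f446255 IH) (Lpr_et (f446256 IH) (Lpn (LP (LK LD1_c1 LD2_c36 LD3_c56))))))))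
def v2009 : LQ := Led Lsl_ft (LP (LK LD1_c1 LD2_c33 LD3_c27))
theorem f506864 : Led Lsl_ft (LP (LK LD1_c1 LD2_c33 LD3_c27)) = v2009 :=
  Lrfl
theorem f129280 : Led Lsl_af (LP (LK LD1_c1 LD2_c48 LD3_c33)) = (LP (LK LD1_c1 LD2_c33 LD3_c27)) :=
  Lgr Lrot0 (Lpr_at (K5.f129278 IH) (Lpn (LP (LK LD1_c1 LD2_c33 LD3_c27))))
theorem f209496 : Led Lsl_dt (LP (LK LD1_c1 LD2_c48 LD3_c43)) = (LP (LK LD1_c1 LD2_c33 LD3_c27)) :=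
  Lgr Lrot44 (Lpr_af (K46.f209489 IH) (Lpe (f121286 IH) (Lpr_af (f129280 IH) (Lpn (LP (LK LD1_c1 LD2_c33 LD3_c27))))))
theorem f209374 : Led Lsl_ft (LP (LK LD1_c3 LD2_c43 LD3_c20)) = (LP (LK LD1_c1 LD2_c48 LD3_c43)) :=
  Lre_f IH (LK LD1_c3 LD2_c43 LD3_c20) (LK LD1_c1 LD2_c48 LD3_c43) Lrfl Lrfl
theorem f506865 : Led Lsl_df (LP (LK LD1_c3 LD2_c43 LD3_c20)) = v2009 :=
  Lgr Lrot78 (Lpr_ft (f209374 IH) (Lpr_dt (f209496 IH) (Lpr_ft (f506864 IH) (Lpn v2009))))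
theorem f506867 : Led Lsl_ff (LP (LK LD1_c1 LD2_c33 LD3_c27)) = v2009 :=
  Lgr Lrot3 (Lpr_ft (f506864 IH) (Lpn v2009))
theorem f527466 : Led Lsl_gt v2009 = v2556 :=
  Lgr Lrot5 (Lpe (f506867 IH) (Lpe (f129280 IH) (Lpr_gf (f527465 IH) (Lpn v2556))))
theorem f662736 : v2009 = (LP (LK LD1_c2 LD2_c22 LD3_c42)) :=
  Lefun (Lecon (Lfl_gt (f527466 IH)) (f662733 IH)) (Lfl_gt (f414278 IH))
theorem f662748 : (LP (LK LD1_c3 LD2_c43 LD3_c20)) = v4502 :=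
  Lefun (Lecon (Lfl_df (f506865 IH)) (f662736 IH)) (f634260 IH)
def v2011 : LQ := Led Lsl_gt (LP (LK LD1_c1 LD2_c33 LD3_c32))
theorem f506883 : Led Lsl_gt (LP (LK LD1_c1 LD2_c33 LD3_c32)) = v2011 :=
  Lrfl
theorem f209491 : Led Lsl_at (LP (LK LD1_c1 LD2_c48 LD3_c43)) = (LP (LK LD1_c1 LD2_c33 LD3_c32)) :=
  Lgr Lrot100 (Lpr_af (K46.f209489 IH) (Lpn (LP (LK LD1_c1 LD2_c33 LD3_c32))))
theorem f506887 : Led Lsl_af (LP (LK LD1_c3 LD2_c43 LD3_c20)) = v2013 :=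
  Lgr Lrot45 (Lpr_ft (f209374 IH) (Lpr_at (f209491 IH) (Lpr_ft (f506886 IH) (Lpn v2013))))
theorem f506890 : Led Lsl_gt v2011 = (LP (LK LD1_c3 LD2_c43 LD3_c20)) :=
  Lgr Lrot46 (Lpe (f506883 IH) (Lpr_ft (f506886 IH) (Lpe (f506887 IH) (Lpn (LP (LK LD1_c3 LD2_c43 LD3_c20))))))
theorem f662754 : (LP (LK LD1_c3 LD2_c2 LD3_c44)) = v2011 :=
  Lefun (Lecon (Lfl_gf (f632209 IH)) (f662742 IH)) (f506883 IH)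
theorem f632201 : Led Lsl_et (LP (LK LD1_c6 LD2_c12 LD3_c19)) = (LP (LK LD1_c3 LD2_c2 LD3_c44)) :=
  Lre_e IH (LK LD1_c6 LD2_c12 LD3_c19) (LK LD1_c3 LD2_c2 LD3_c44) Lrfl Lrfl
theorem f662918 : v5872 = (LP (LK LD1_c6 LD2_c12 LD3_c19)) :=
  (Llr Lrot168 (Lpr_dt (f662917 IH) (Lpe (f107006 IH) (Lpe (K3.f23640 IH) (Lpr_et (f527475 IH) (Lpqs (f662825 IH) (Lpqs (K46.f649437 IH) (Lpe (K46.f414093 IH) (Lpe (K46.f446264 IH) (Lpe (f446257 IH) (Lpe (f414278 IH) (Lpr_df (f634261 IH) (Lpq (f662748 IH) (Lpe (f506890 IH) (Lpq (f662754 IH) (Lpe (f632201 IH) (Lpn (LP (LK LD1_c6 LD2_c12 LD3_c19))))))))))))))))))).symm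
def v5871 : LQ := Led Lsl_gt (LP (LK LD1_c3 LD2_c14 LD3_c23))
theorem f649905 : Led Lsl_gt (LP (LK LD1_c3 LD2_c14 LD3_c23)) = v5871 :=
  Lrfl
theorem f662930 : (LP (LK LD1_c6 LD2_c12 LD3_c27)) = v5871 :=
  (Llr Lrot26 (Lpe (f503661 IH) (Lpe (f632219 IH) (Lpq (f662918 IH) (Lpe (f649906 IH) (Lpr_gt (f649905 IH) (Lpn v5871))))))).symm
theorem f653186 : Led Lsl_ef (LP (LK LD1_c3 LD2_c21 LD3_c15)) = v6392 :=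
  Lgr Lrot88 (Lpr_et (f653183 IH) (Lpn v6392))
theorem f454649 : Led Lsl_et (LP (LK LD1_c2 LD2_c22 LD3_c43)) = (LP (LK LD1_c4 LD2_c49 LD3_c59)) :=
  Lre_e IH (LK LD1_c2 LD2_c22 LD3_c43) (LK LD1_c4 LD2_c49 LD3_c59) Lrfl Lrfl
theorem f653192 : Led Lsl_dt (LP (LK LD1_c4 LD2_c49 LD3_c59)) = v6392 :=
  Lgr Lrot77 (Lpe (f454649 IH) (Lpr_df (f509481 IH) (Lpe (f509477 IH) (Lpe (f454726 IH) (Lpr_ef (f653186 IH) (Lpn v6392))))))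
theorem f139950 : Led Lsl_bt (LP (LK LD1_c1 LD2_c37 LD3_c2)) = (LP (LK LD1_c3 LD2_c21 LD3_c21)) :=
  Lre_b IH (LK LD1_c1 LD2_c37 LD3_c2) (LK LD1_c3 LD2_c21 LD3_c21) Lrfl Lrfl
theorem f454042 : Led Lsl_ff (LP (LK LD1_c2 LD2_c22 LD3_c45)) = (LP (LK LD1_c3 LD2_c21 LD3_c21)) :=
  Lgr Lrot25 (Lpr_bt (K46.f446133 IH) (Lpr_ft (K24.f454040 IH) (Lpr_bt (f139950 IH) (Lpn (LP (LK LD1_c3 LD2_c21 LD3_c21))))))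
theorem f446265 : Led Lsl_at (LP (LK LD1_c2 LD2_c22 LD3_c45)) = (LP (LK LD1_c4 LD2_c49 LD3_c59)) :=
  Lre_a IH (LK LD1_c2 LD2_c22 LD3_c45) (LK LD1_c4 LD2_c49 LD3_c59) Lrfl Lrfl
theorem f653236 : Led Lsl_gf (LP (LK LD1_c4 LD2_c49 LD3_c59)) = v6407 :=
  Lgr Lrot76 (Lpe (f446265 IH) (Lpr_ff (f454042 IH) (Lpr_gt (f653235 IH) (Lpn v6407))))
theorem f148407 : Led Lsl_et (LP (LK LD1_c1 LD2_c36 LD3_c2)) = (LP (LK LD1_c3 LD2_c19 LD3_c15)) :=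
  Lre_e IH (LK LD1_c1 LD2_c36 LD3_c2) (LK LD1_c3 LD2_c19 LD3_c15) Lrfl Lrfl
theorem f662946 : v6252 = (LP (LK LD1_c6 LD2_c42 LD3_c31)) :=
  (Llr Lrot136 (Lpe (f662936 IH) (Lpr_et (f662937 IH) (Lpqs (f662930 IH) (Lpe (f649905 IH) (Lpe (f438911 IH) (Lpr_dt (K46.f438902 IH) (Lpe (K46.f649890 IH) (Lpqs (f662762 IH) (Lpe (f653192 IH) (Lpr_gf (f653236 IH) (Lpqs (f662725 IH) (Lpe (f148407 IH) (Lpr_dt (K46.f24864 IH) (Lpe (K46.f649691 IH) (Lpn (LP (LK LD1_c6 LD2_c42 LD3_c31)))))))))))))))))).symm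
theorem f652303 : Led Lsl_ff (LP (LK LD1_c9 LD2_c17 LD3_c43)) = v6252 :=
  Lgr Lrot25 (Lpr_bt (f20146 IH) (Lpr_ft (K32.f503394 IH) (Lpr_bt (f652300 IH) (Lpn v6252))))
theorem f662967 : Led Lsl_at (LP (LK LD1_c9 LD2_c17 LD3_c43)) = (LP (LK LD1_c6 LD2_c42 LD3_c30)) :=
  Lgr Lrot26 (Lpr_ff (f652303 IH) (Lpqs (f662946 IH) (Lpr_gt (K46.f649691 IH) (Lpr_gt (K46.f24865 IH) (Lpn (LP (LK LD1_c6 LD2_c42 LD3_c30)))))))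
theorem f24947 : Led Lsl_dt (LP (LK LD1_c3 LD2_c19 LD3_c18)) = (LP (LK LD1_c1 LD2_c36 LD3_c3)) :=
  Lre_d IH (LK LD1_c3 LD2_c19 LD3_c18) (LK LD1_c1 LD2_c36 LD3_c3) Lrfl Lrfl
theorem f24860 : Led Lsl_dt (LP (LK LD1_c1 LD2_c36 LD3_c4)) = (LP (LK LD1_c0 LD2_c44 LD3_c32)) :=
  Lre_d IH (LK LD1_c1 LD2_c36 LD3_c4) (LK LD1_c0 LD2_c44 LD3_c32) Lrfl Lrfl
theorem f24672 : Led Lsl_bt (LP (LK LD1_c0 LD2_c44 LD3_c35)) = (LP (LK LD1_c1 LD2_c36 LD3_c4)) :=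
  Lre_b IH (LK LD1_c0 LD2_c44 LD3_c35) (LK LD1_c1 LD2_c36 LD3_c4) Lrfl Lrfl
theorem f24674 : Led Lsl_et (LP (LK LD1_c1 LD2_c36 LD3_c4)) = (LP (LK LD1_c1 LD2_c26 LD3_c29)) :=
  Lgr Lrot74 (Lpe (f24672 IH) (Lpr_ef (K5.f24612 IH) (Lpe (K6.f24673 IH) (Lpn (LP (LK LD1_c1 LD2_c26 LD3_c29))))))
theorem f435833 : Led Lsl_ef (LP (LK LD1_c7 LD2_c26 LD3_c56)) = (LP (LK LD1_c6 LD2_c31 LD3_c44)) :=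
  Lgr Lrot88 (Lpr_et (f435827 IH) (Lpn (LP (LK LD1_c6 LD2_c31 LD3_c44))))
theorem f435837 : Led Lsl_ct (LP (LK LD1_c7 LD2_c26 LD3_c56)) = (LP (LK LD1_c14 LD2_c4 LD3_c33)) :=
  Lre_c IH (LK LD1_c7 LD2_c26 LD3_c56) (LK LD1_c14 LD2_c4 LD3_c33) Lrfl Lrfl
theorem f209418 : Led Lsl_ct (LP (LK LD1_c12 LD2_c31 LD3_c24)) = (LP (LK LD1_c6 LD2_c31 LD3_c44)) :=
  Lre_c IH (LK LD1_c12 LD2_c31 LD3_c24) (LK LD1_c6 LD2_c31 LD3_c44) Lrfl Lrfl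
theorem f435838 : Led Lsl_et (LP (LK LD1_c14 LD2_c4 LD3_c33)) = (LP (LK LD1_c12 LD2_c31 LD3_c24)) :=
  Lgr Lrot158 (Lpe (f435837 IH) (Lpr_ef (f435833 IH) (Lpe (f209418 IH) (Lpn (LP (LK LD1_c12 LD2_c31 LD3_c24))))))
theorem f106979 : Led Lsl_ft (LP (LK LD1_c7 LD2_c26 LD3_c55)) = (LP (LK LD1_c14 LD2_c4 LD3_c33)) :=
  Lre_f IH (LK LD1_c7 LD2_c26 LD3_c55) (LK LD1_c14 LD2_c4 LD3_c33) Lrfl Lrfl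
theorem f106978 : Led Lsl_et (LP (LK LD1_c3 LD2_c43 LD3_c9)) = (LP (LK LD1_c7 LD2_c26 LD3_c55)) :=
  Lre_e IH (LK LD1_c3 LD2_c43 LD3_c9) (LK LD1_c7 LD2_c26 LD3_c55) Lrfl Lrfl
theorem f209473 : Led Lsl_ft (LP (LK LD1_c12 LD2_c31 LD3_c24)) = (LP (LK LD1_c6 LD2_c31 LD3_c43)) :=
  Lre_f IH (LK LD1_c12 LD2_c31 LD3_c24) (LK LD1_c6 LD2_c31 LD3_c43) Lrfl Lrfl
theorem f435842 : Led Lsl_ef (LP (LK LD1_c6 LD2_c49 LD3_c15)) = (LP (LK LD1_c6 LD2_c31 LD3_c43)) :=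
  Lgr Lrot21 (Lpr_ft (K3.f106971 IH) (Lpr_et (f106978 IH) (Lpr_ft (f106979 IH) (Lpr_et (f435838 IH) (Lpr_ft (f209473 IH) (Lpn (LP (LK LD1_c6 LD2_c31 LD3_c43))))))))
theorem f106961 : Led Lsl_ff (LP (LK LD1_c6 LD2_c49 LD3_c15)) = (LP (LK LD1_c3 LD2_c43 LD3_c9)) :=
  Lgr Lrot19 (Lpr_dt (K7.f87504 IH) (Lpr_ft (K3.f106956 IH) (Lpr_dt (K6.f106380 IH) (Lpn (LP (LK LD1_c3 LD2_c43 LD3_c9))))))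
theorem f153311 : Led Lsl_af (LP (LK LD1_c6 LD2_c9 LD3_c18)) = (LP (LK LD1_c6 LD2_c49 LD3_c15)) :=
  Lgr Lrot45 (Lpr_ft (K7.f153307 IH) (Lpr_at (K7.f106954 IH) (Lpe (f106961 IH) (Lpn (LP (LK LD1_c6 LD2_c49 LD3_c15))))))
theorem f209438 : Led Lsl_ct (LP (LK LD1_c6 LD2_c31 LD3_c43)) = (LP (LK LD1_c3 LD2_c14 LD3_c2)) :=
  Lre_c IH (LK LD1_c6 LD2_c31 LD3_c43) (LK LD1_c3 LD2_c14 LD3_c2) Lrfl Lrfl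
theorem f209439 : Led Lsl_ct (LP (LK LD1_c3 LD2_c43 LD3_c14)) = (LP (LK LD1_c7 LD2_c27 LD3_c6)) :=
  Lre_c IH (LK LD1_c3 LD2_c43 LD3_c14) (LK LD1_c7 LD2_c27 LD3_c6) Lrfl Lrfl
theorem f209440 : Led Lsl_af (LP (LK LD1_c6 LD2_c31 LD3_c43)) = (LP (LK LD1_c7 LD2_c27 LD3_c6)) :=
  Lgr Lrot68 (Lpr_ct (f209438 IH) (Lpr_at (K46.f209434 IH) (Lpr_ct (f209439 IH) (Lpn (LP (LK LD1_c7 LD2_c27 LD3_c6))))))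
theorem f435844 : Led Lsl_et (LP (LK LD1_c6 LD2_c9 LD3_c18)) = (LP (LK LD1_c7 LD2_c27 LD3_c6)) :=
  Lgr Lrot123 (Lpr_af (f153311 IH) (Lpr_ef (f435842 IH) (Lpr_af (f209440 IH) (Lpn (LP (LK LD1_c7 LD2_c27 LD3_c6))))))
theorem f209412 : Led Lsl_ct (LP (LK LD1_c7 LD2_c27 LD3_c6)) = (LP (LK LD1_c3 LD2_c43 LD3_c14)) :=
  Lre_c IH (LK LD1_c7 LD2_c27 LD3_c6) (LK LD1_c3 LD2_c43 LD3_c14) Lrfl Lrfl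
theorem f435854 : Led Lsl_ef (LP (LK LD1_c3 LD2_c1 LD3_c2)) = (LP (LK LD1_c3 LD2_c43 LD3_c14)) :=
  Lgr Lrot28 (Lpr_ct (f82430 IH) (Lpr_et (f435844 IH) (Lpr_ct (f209412 IH) (Lpn (LP (LK LD1_c3 LD2_c43 LD3_c14))))))
theorem f209508 : Led Lsl_dt (LP (LK LD1_c7 LD2_c27 LD3_c5)) = (LP (LK LD1_c3 LD2_c43 LD3_c13)) :=
  Lre_d IH (LK LD1_c7 LD2_c27 LD3_c5) (LK LD1_c3 LD2_c43 LD3_c13) Lrfl Lrfl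
theorem f652189 : Led Lsl_ef (LP (LK LD1_c6 LD2_c42 LD3_c30)) = (LP (LK LD1_c7 LD2_c27 LD3_c5)) :=
  Lgr Lrot167 (Lpr_gt (K46.f652185 IH) (Lpr_dt (f24947 IH) (Lpr_gt (K46.f24867 IH) (Lpe (f24860 IH) (Lpr_et (f24674 IH) (Lpe (K6.f134885 IH) (Lpr_ef (f435854 IH) (Lpr_dt (f116070 IH) (Lpr_gt (f116079 IH) (Lpe (f209508 IH) (Lpn (LP (LK LD1_c7 LD2_c27 LD3_c5)))))))))))))
theorem f652191 : Led Lsl_et (LP (LK LD1_c6 LD2_c42 LD3_c30)) = (LP (LK LD1_c7 LD2_c27 LD3_c5)) :=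
  Lgr Lrot87 (Lpr_ef (f652189 IH) (Lpn (LP (LK LD1_c7 LD2_c27 LD3_c5))))
theorem f662974 : Led Lsl_af (LP (LK LD1_c6 LD2_c12 LD3_c47)) = (LP (LK LD1_c7 LD2_c27 LD3_c5)) :=
  Lgr Lrot50 (Lpe (f20148 IH) (Lpr_at (f662967 IH) (Lpr_et (f652191 IH) (Lpn (LP (LK LD1_c7 LD2_c27 LD3_c5))))))
theorem f116080 : Led Lsl_dt (LP (LK LD1_c3 LD2_c43 LD3_c13)) = (LP (LK LD1_c7 LD2_c27 LD3_c5)) :=
  Lre_d IH (LK LD1_c3 LD2_c43 LD3_c13) (LK LD1_c7 LD2_c27 LD3_c5) Lrfl Lrfl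
theorem f662980 : v5291 = (LP (LK LD1_c3 LD2_c43 LD3_c13)) :=
  (Llr Lrot51 (Lpe (f646918 IH) (Lpe (f20158 IH) (Lpr_af (f662974 IH) (Lpe (f116080 IH) (Lpn (LP (LK LD1_c3 LD2_c43 LD3_c13)))))))).symm
theorem f662982 : v5326 = (LP (LK LD1_c1 LD2_c48 LD3_c40)) :=
  Lefun (Lecon (f647098 IH) (f662980 IH)) (Lfl_gt (f116079 IH))
theorem f124815 : Led Lsl_af (LP (LK LD1_c1 LD2_c6 LD3_c0)) = (LP (LK LD1_c0 LD2_c42 LD3_c19)) :=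
  Lgr Lrot0 (Lpr_at (K5.f124813 IH) (Lpn (LP (LK LD1_c0 LD2_c42 LD3_c19))))
theorem f160776 : Led Lsl_at (LP (LK LD1_c1 LD2_c33 LD3_c30)) = (LP (LK LD1_c1 LD2_c31 LD3_c35)) :=
  Lgr Lrot51 (Lpr_df (K8.f160774 IH) (Lpr_af (f124815 IH) (Lpe (K5.f82402 IH) (Lpn (LP (LK LD1_c1 LD2_c31 LD3_c35))))))
theorem f208102 : Led Lsl_ff (LP (LK LD1_c1 LD2_c33 LD3_c30)) = (LP (LK LD1_c1 LD2_c31 LD3_c38)) :=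
  Lgr Lrot30 (Lpr_at (f160776 IH) (Lpr_ft (K30.f128913 IH) (Lpr_at (K30.f208077 IH) (Lpn (LP (LK LD1_c1 LD2_c31 LD3_c38))))))
theorem f208764 : Led Lsl_bt (LP (LK LD1_c0 LD2_c51 LD3_c6)) = (LP (LK LD1_c1 LD2_c31 LD3_c38)) :=
  Lgr Lrot35 (Lpr_ff (K46.f147515 IH) (Lpe (K8.f22500 IH) (Lpr_ff (f208102 IH) (Lpn (LP (LK LD1_c1 LD2_c31 LD3_c38))))))
theorem f115519 : Led Lsl_et (LP (LK LD1_c1 LD2_c31 LD3_c38)) = (LP (LK LD1_c3 LD2_c10 LD3_c36)) :=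
  Lre_e IH (LK LD1_c1 LD2_c31 LD3_c38) (LK LD1_c3 LD2_c10 LD3_c36) Lrfl Lrfl
theorem f208767 : Led Lsl_bf (LP (LK LD1_c1 LD2_c48 LD3_c40)) = (LP (LK LD1_c3 LD2_c10 LD3_c36)) :=
  Lgr Lrot96 (Lpr_et (K46.f116069 IH) (Lpr_bt (f208764 IH) (Lpr_et (f115519 IH) (Lpn (LP (LK LD1_c3 LD2_c10 LD3_c36))))))
theorem f208769 : Led Lsl_bt (LP (LK LD1_c1 LD2_c48 LD3_c40)) = (LP (LK LD1_c3 LD2_c10 LD3_c36)) :=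
  Lgr Lrot127 (Lpr_bf (f208767 IH) (Lpn (LP (LK LD1_c3 LD2_c10 LD3_c36))))
theorem f208790 : Led Lsl_bt (LP (LK LD1_c7 LD2_c26 LD3_c61)) = (LP (LK LD1_c3 LD2_c43 LD3_c12)) :=
  Lre_b IH (LK LD1_c7 LD2_c26 LD3_c61) (LK LD1_c3 LD2_c43 LD3_c12) Lrfl Lrfl
theorem f156928 : Led Lsl_et (LP (LK LD1_c7 LD2_c26 LD3_c61)) = (LP (LK LD1_c3 LD2_c43 LD3_c10)) :=
  Lre_e IH (LK LD1_c7 LD2_c26 LD3_c61) (LK LD1_c3 LD2_c43 LD3_c10) Lrfl Lrfl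
theorem f156929 : Led Lsl_ct (LP (LK LD1_c6 LD2_c28 LD3_c61)) = (LP (LK LD1_c7 LD2_c26 LD3_c61)) :=
  Lgr Lrot15 (Lpe (K35.f152572 IH) (Lpr_cf (K7.f156923 IH) (Lpe (f156928 IH) (Lpn (LP (LK LD1_c7 LD2_c26 LD3_c61))))))
theorem f207055 : Led Lsl_bt (LP (LK LD1_c3 LD2_c12 LD3_c29)) = (LP (LK LD1_c6 LD2_c28 LD3_c61)) :=
  Lre_b IH (LK LD1_c3 LD2_c12 LD3_c29) (LK LD1_c6 LD2_c28 LD3_c61) Lrfl Lrfl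
theorem f208791 : Led Lsl_cf (LP (LK LD1_c3 LD2_c12 LD3_c29)) = (LP (LK LD1_c3 LD2_c10 LD3_c36)) :=
  Lgr Lrot97 (Lpr_bt (f207055 IH) (Lpr_ct (f156929 IH) (Lpr_bt (f208790 IH) (Lpr_ct (f208789 IH) (Lpr_bt (f208769 IH) (Lpn (LP (LK LD1_c3 LD2_c10 LD3_c36))))))))
def v5718 : LQ := Led Lsl_gt (LP (LK LD1_c3 LD2_c12 LD3_c29))
theorem f649032 : Led Lsl_gt (LP (LK LD1_c3 LD2_c12 LD3_c29)) = v5718 :=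
  Lrfl
theorem f663031 : Led Lsl_ct v1984 = v5718 :=
  Lgr Lrot10 (Lpe (f506758 IH) (Lpr_gt (K9.f68287 IH) (Lpe (K32.f73601 IH) (Lpr_gt (K32.f79869 IH) (Lpe (K32.f57630 IH) (Lpr_bt (f57646 IH) (Lpr_gt (f647097 IH) (Lpqs (f662982 IH) (Lpr_bf (f208767 IH) (Lpe (f208791 IH) (Lpr_gt (f649032 IH) (Lpn v5718))))))))))))
def v1985 : LQ := Led Lsl_ft (LP (LK LD1_c1 LD2_c32 LD3_c54))
theorem f506759 : Led Lsl_ft (LP (LK LD1_c1 LD2_c32 LD3_c54)) = v1985 :=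
  Lrfl
theorem f506761 : Led Lsl_ff (LP (LK LD1_c1 LD2_c32 LD3_c54)) = v1985 :=
  Lgr Lrot3 (Lpr_ft (f506759 IH) (Lpn v1985))
theorem f639159 : Led Lsl_dt K31.v1504 = K38.v4818 :=
  Lgr Lrot42 (Lpr_df (K38.f639158 IH) (Lpn K38.v4818))
def v4183 : LQ := Led Lsl_ft (LP (LK LD1_c2 LD2_c13 LD3_c45))
theorem f631703 : Led Lsl_ft (LP (LK LD1_c2 LD2_c13 LD3_c45)) = v4183 :=
  Lrfl
theorem f631706 : Led Lsl_ff (LP (LK LD1_c2 LD2_c13 LD3_c45)) = v4183 :=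
  Lgr Lrot3 (Lpr_ft (f631703 IH) (Lpn v4183))
def v1505 : LQ := Led Lsl_ft (LP (LK LD1_c1 LD2_c20 LD3_c29))
theorem f495942 : Led Lsl_ft (LP (LK LD1_c1 LD2_c20 LD3_c29)) = v1505 :=
  Lrfl
theorem f495943 : Led Lsl_af (LP (LK LD1_c1 LD2_c20 LD3_c30)) = v1505 :=
  Lgr Lrot45 (Lpr_ft (K31.f495929 IH) (Lpe (K31.f495926 IH) (Lpr_ft (f495942 IH) (Lpn v1505))))
theorem f631702 : Led Lsl_ff (LP (LK LD1_c2 LD2_c13 LD3_c46)) = K35.v4182 :=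
  Lgr Lrot3 (Lpr_ft (K35.f631696 IH) (Lpn K35.v4182))
theorem f631707 : Led Lsl_at (LP (LK LD1_c2 LD2_c13 LD3_c46)) = v4183 :=
  Lgr Lrot66 (Lpr_ff (f631702 IH) (Lpe (K35.f631692 IH) (Lpr_ff (f631706 IH) (Lpn v4183))))
theorem f495945 : Led Lsl_ff (LP (LK LD1_c1 LD2_c20 LD3_c29)) = v1505 :=
  Lgr Lrot3 (Lpr_ft (f495942 IH) (Lpn v1505))
theorem f639165 : Led Lsl_df v1505 = K38.v4819 :=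
  Lgr Lrot78 (Lpe (f495945 IH) (Lpr_dt (K38.f140579 IH) (Lpr_ft (K38.f639163 IH) (Lpn K38.v4819))))
theorem f639170 : Led Lsl_et K38.v1790 = K38.v4819 :=
  Lgr Lrot87 (Lpr_ef (K38.f639169 IH) (Lpn K38.v4819))
def v4246 : LQ := Led Lsl_ft (LP (LK LD1_c2 LD2_c17 LD3_c30))
theorem f632178 : Led Lsl_ft (LP (LK LD1_c2 LD2_c17 LD3_c30)) = v4246 :=
  Lrfl
theorem f632181 : Led Lsl_ff (LP (LK LD1_c2 LD2_c17 LD3_c30)) = v4246 :=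
  Lgr Lrot3 (Lpr_ft (f632178 IH) (Lpn v4246))
def v1791 : LQ := Led Lsl_ft (LP (LK LD1_c1 LD2_c27 LD3_c15))
theorem f502928 : Led Lsl_ft (LP (LK LD1_c1 LD2_c27 LD3_c15)) = v1791 :=
  Lrfl
theorem f502929 : Led Lsl_af (LP (LK LD1_c1 LD2_c27 LD3_c16)) = v1791 :=
  Lgr Lrot45 (Lpr_ft (K38.f502926 IH) (Lpe (K38.f502925 IH) (Lpr_ft (f502928 IH) (Lpn v1791))))
def v4245 : LQ := Led Lsl_at (LP (LK LD1_c2 LD2_c17 LD3_c30))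
theorem f632172 : Led Lsl_at (LP (LK LD1_c2 LD2_c17 LD3_c30)) = v4245 :=
  Lrfl
def v1979 : LQ := Led Lsl_at (LP (LK LD1_c1 LD2_c32 LD3_c48))
theorem f506730 : Led Lsl_at (LP (LK LD1_c1 LD2_c32 LD3_c48)) = v1979 :=
  Lrfl
theorem f506731 : Led Lsl_af (LP (LK LD1_c1 LD2_c32 LD3_c48)) = v1979 :=
  Lgr Lrot0 (Lpr_at (f506730 IH) (Lpn v1979))
theorem f632174 : Led Lsl_cf v1979 = v4245 :=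
  Lgr Lrot1 (Lpe (f506731 IH) (Lpe (K9.f139974 IH) (Lpr_at (f632172 IH) (Lpn v4245))))
theorem f506732 : Led Lsl_ft (LP (LK LD1_c1 LD2_c32 LD3_c49)) = v1979 :=
  Lgr Lrot2 (Lpr_gt (K8.f61017 IH) (Lpr_gt (K9.f61021 IH) (Lpr_af (f506731 IH) (Lpn v1979))))
theorem f506733 : Led Lsl_ff (LP (LK LD1_c1 LD2_c32 LD3_c49)) = v1979 :=
  Lgr Lrot3 (Lpr_ft (f506732 IH) (Lpn v1979))
theorem f632176 : Led Lsl_ft (LP (LK LD1_c2 LD2_c17 LD3_c31)) = v4245 :=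
  Lgr Lrot4 (Lpr_cf (K17.f61043 IH) (Lpr_ff (f506733 IH) (Lpr_cf (f632174 IH) (Lpn v4245))))
theorem f632177 : Led Lsl_ff (LP (LK LD1_c2 LD2_c17 LD3_c31)) = v4245 :=
  Lgr Lrot3 (Lpr_ft (f632176 IH) (Lpn v4245))
theorem f632182 : Led Lsl_at (LP (LK LD1_c2 LD2_c17 LD3_c31)) = v4246 :=
  Lgr Lrot66 (Lpr_ff (f632177 IH) (Lpe (f632172 IH) (Lpr_ff (f632181 IH) (Lpn v4246))))
theorem f639176 : Led Lsl_ff (LP (LK LD1_c3 LD2_c2 LD3_c38)) = (LP (LK LD1_c5 LD2_c45 LD3_c59)) :=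
  Lgr Lrot3 (Lpr_ft (K38.f639171 IH) (Lpn (LP (LK LD1_c5 LD2_c45 LD3_c59))))
theorem f419102 : Led Lsl_gt (LP (LK LD1_c5 LD2_c45 LD3_c59)) = (LP (LK LD1_c2 LD2_c53 LD3_c58)) :=
  Lre_g IH (LK LD1_c5 LD2_c45 LD3_c59) (LK LD1_c2 LD2_c53 LD3_c58) Lrfl Lrfl
theorem f639181 : Led Lsl_at (LP (LK LD1_c3 LD2_c2 LD3_c38)) = (LP (LK LD1_c4 LD2_c40 LD3_c59)) :=
  Lgr Lrot26 (Lpr_ff (f639176 IH) (Lpr_gt (f419102 IH) (Lpr_gt (K35.f437529 IH) (Lpn (LP (LK LD1_c4 LD2_c40 LD3_c59))))))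
theorem f639188 : v1791 = (LP (LK LD1_c2 LD2_c17 LD3_c31)) :=
  (Llr Lrot50 (Lpe (f502929 IH) (Lpr_et (K32.f413437 IH) (Lpr_at (f639181 IH) (Lpr_et (K8.f27030 IH) (Lpn (LP (LK LD1_c2 LD2_c17 LD3_c31)))))))).symm
theorem f639189 : (LP (LK LD1_c1 LD2_c27 LD3_c16)) = v4246 :=
  Lefun (Lecon (Lfl_af (f502929 IH)) (f639188 IH)) (f632182 IH)
theorem f639199 : (LP (LK LD1_c2 LD2_c17 LD3_c30)) = K38.v1790 :=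
  Lefun (Lecon (Lfl_ff (f632181 IH)) (f639189 IH).symm) (K38.f502926 IH)
theorem f639212 : K38.v4819 = (LP (LK LD1_c4 LD2_c33 LD3_c50)) :=
  Lefun (Lecon (f639170 IH) (f639199 IH).symm) (K32.f23118 IH)
theorem f639217 : v1505 = (LP (LK LD1_c2 LD2_c13 LD3_c46)) :=
  Lefun (Lecon (Lfl_df (f639165 IH)) (f639212 IH)) (K32.f22932 IH)
theorem f639218 : (LP (LK LD1_c1 LD2_c20 LD3_c30)) = v4183 :=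
  Lefun (Lecon (Lfl_af (f495943 IH)) (f639217 IH)) (f631707 IH)
theorem f639233 : (LP (LK LD1_c2 LD2_c13 LD3_c45)) = K31.v1504 :=
  Lefun (Lecon (Lfl_ff (f631706 IH)) (f639218 IH).symm) (K31.f495929 IH)
theorem f639244 : K38.v4818 = (LP (LK LD1_c4 LD2_c33 LD3_c46)) :=
  Lefun (Lecon (f639159 IH) (f639233 IH).symm) (K24.f140281 IH)
theorem f639251 : Led Lsl_ff (LP (LK LD1_c3 LD2_c6 LD3_c61)) = (LP (LK LD1_c3 LD2_c13 LD3_c15)) :=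
  Lgr Lrot23 (Lpe (K38.f140242 IH) (Lpr_ft (K38.f639160 IH) (Lpqs (f639244 IH) (Lpr_ct (K35.f454864 IH) (Lpn (LP (LK LD1_c3 LD2_c13 LD3_c15)))))))
theorem f505120 : Led Lsl_gt (LP (LK LD1_c4 LD2_c43 LD3_c53)) = (LP (LK LD1_c3 LD2_c12 LD3_c43)) :=
  Lgr Lrot94 (Lpe (K32.f445607 IH) (Lpr_gt (K32.f505109 IH) (Lpr_dt (K16.f413487 IH) (Lpr_gt (K16.f40472 IH) (Lpr_dt (K24.f40464 IH) (Lpe (K24.f36246 IH) (Lpr_df (K35.f83199 IH) (Lpe (K24.f83694 IH) (Lpe (K32.f83697 IH) (Lpn (LP (LK LD1_c3 LD2_c12 LD3_c43))))))))))))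
theorem f639257 : Led Lsl_at (LP (LK LD1_c3 LD2_c6 LD3_c61)) = (LP (LK LD1_c3 LD2_c12 LD3_c43)) :=
  Lgr Lrot26 (Lpr_ff (f639251 IH) (Lpe (K32.f505105 IH) (Lpr_gt (f505120 IH) (Lpn (LP (LK LD1_c3 LD2_c12 LD3_c43))))))
theorem f639261 : Led Lsl_af (LP (LK LD1_c3 LD2_c8 LD3_c21)) = (LP (LK LD1_c3 LD2_c9 LD3_c20)) :=
  Lgr Lrot117 (Lpe (K31.f67059 IH) (Lpr_at (f639257 IH) (Lpr_dt (K32.f83697 IH) (Lpn (LP (LK LD1_c3 LD2_c9 LD3_c20))))))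
theorem f639269 : Led Lsl_ft (LP (LK LD1_c3 LD2_c8 LD3_c20)) = (LP (LK LD1_c3 LD2_c9 LD3_c20)) :=
  Lgr Lrot2 (Lpr_gt (K35.f83919 IH) (Lpe (K31.f83555 IH) (Lpr_af (f639261 IH) (Lpn (LP (LK LD1_c3 LD2_c9 LD3_c20))))))
theorem f639277 : Led Lsl_ff (LP (LK LD1_c3 LD2_c8 LD3_c20)) = (LP (LK LD1_c3 LD2_c9 LD3_c20)) :=
  Lgr Lrot3 (Lpr_ft (f639269 IH) (Lpn (LP (LK LD1_c3 LD2_c9 LD3_c20))))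
theorem f639283 : Led Lsl_at (LP (LK LD1_c3 LD2_c8 LD3_c20)) = (LP (LK LD1_c3 LD2_c9 LD3_c19)) :=
  Lgr Lrot26 (Lpr_ff (f639277 IH) (Lpr_gt (K24.f83694 IH) (Lpr_gt (K24.f83711 IH) (Lpn (LP (LK LD1_c3 LD2_c9 LD3_c19))))))
theorem f639263 : Led Lsl_at (LP (LK LD1_c3 LD2_c8 LD3_c21)) = (LP (LK LD1_c3 LD2_c9 LD3_c20)) :=
  Lgr Lrot100 (Lpr_af (f639261 IH) (Lpn (LP (LK LD1_c3 LD2_c9 LD3_c20))))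
theorem f639291 : Led Lsl_ff (LP (LK LD1_c3 LD2_c8 LD3_c21)) = (LP (LK LD1_c3 LD2_c9 LD3_c19)) :=
  Lgr Lrot30 (Lpr_at (f639263 IH) (Lpe (f639277 IH) (Lpr_at (f639283 IH) (Lpn (LP (LK LD1_c3 LD2_c9 LD3_c19))))))
theorem f639293 : Led Lsl_ft (LP (LK LD1_c4 LD2_c50 LD3_c16)) = (LP (LK LD1_c3 LD2_c22 LD3_c9)) :=
  Lgr Lrot4 (Lpr_cf (K31.f415893 IH) (Lpr_ff (f639291 IH) (Lpe (K35.f140117 IH) (Lpn (LP (LK LD1_c3 LD2_c22 LD3_c9))))))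
theorem f62076 : Led Lsl_gt (LP (LK LD1_c4 LD2_c50 LD3_c15)) = (LP (LK LD1_c3 LD2_c21 LD3_c58)) :=
  Lre_g IH (LK LD1_c4 LD2_c50 LD3_c15) (LK LD1_c3 LD2_c21 LD3_c58) Lrfl Lrfl
theorem f140707 : Led Lsl_cf (LP (LK LD1_c4 LD2_c50 LD3_c15)) = (LP (LK LD1_c3 LD2_c8 LD3_c20)) :=
  Lgr Lrot169 (Lpr_gt (f62076 IH) (Lpr_ct (K32.f62074 IH) (Lpe (K16.f23820 IH) (Lpe (K24.f140706 IH) (Lpe (K31.f27121 IH) (Lpe (K31.f140236 IH) (Lpr_gf (K24.f140234 IH) (Lpe (K32.f67062 IH) (Lpr_gt (K35.f77738 IH) (Lpn (LP (LK LD1_c3 LD2_c8 LD3_c20))))))))))))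
theorem f140812 : Led Lsl_ct (LP (LK LD1_c4 LD2_c50 LD3_c15)) = (LP (LK LD1_c3 LD2_c8 LD3_c20)) :=
  Lgr Lrot59 (Lpr_cf (f140707 IH) (Lpn (LP (LK LD1_c3 LD2_c8 LD3_c20))))
theorem f639285 : Led Lsl_af (LP (LK LD1_c4 LD2_c50 LD3_c15)) = (LP (LK LD1_c3 LD2_c22 LD3_c9)) :=
  Lgr Lrot68 (Lpr_ct (f140812 IH) (Lpr_at (f639283 IH) (Lpe (K35.f140110 IH) (Lpn (LP (LK LD1_c3 LD2_c22 LD3_c9))))))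
theorem f454900 : Led Lsl_ct (LP (LK LD1_c3 LD2_c22 LD3_c10)) = (LP (LK LD1_c3 LD2_c9 LD3_c20)) :=
  Lgr Lrot59 (Lpr_cf (K24.f454897 IH) (Lpn (LP (LK LD1_c3 LD2_c9 LD3_c20))))
theorem f639279 : Led Lsl_ft (LP (LK LD1_c4 LD2_c50 LD3_c15)) = (LP (LK LD1_c3 LD2_c22 LD3_c10)) :=
  Lgr Lrot4 (Lpr_cf (f140707 IH) (Lpr_ff (f639277 IH) (Lpe (f454900 IH) (Lpn (LP (LK LD1_c3 LD2_c22 LD3_c10))))))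
theorem f639295 : Led Lsl_af (LP (LK LD1_c4 LD2_c50 LD3_c16)) = (LP (LK LD1_c3 LD2_c22 LD3_c10)) :=
  Lgr Lrot45 (Lpr_ft (f639293 IH) (Lpe (f639285 IH) (Lpr_ft (f639279 IH) (Lpn (LP (LK LD1_c3 LD2_c22 LD3_c10))))))
theorem f435500 : Led Lsl_ef (LP (LK LD1_c9 LD2_c20 LD3_c15)) = (LP (LK LD1_c4 LD2_c50 LD3_c16)) :=
  Lgr Lrot28 (Lpr_ct (K32.f435374 IH) (Lpr_et (K32.f435498 IH) (Lpe (K31.f415893 IH) (Lpn (LP (LK LD1_c4 LD2_c50 LD3_c16))))))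
theorem f454902 : Led Lsl_et (LP (LK LD1_c3 LD2_c22 LD3_c10)) = (LP (LK LD1_c6 LD2_c26 LD3_c38)) :=
  Lgr Lrot158 (Lpr_cf (K24.f454897 IH) (Lpe (K32.f435320 IH) (Lpe (K32.f153685 IH) (Lpn (LP (LK LD1_c6 LD2_c26 LD3_c38))))))
theorem f454918 : Led Lsl_ef (LP (LK LD1_c3 LD2_c22 LD3_c10)) = (LP (LK LD1_c6 LD2_c26 LD3_c38)) :=
  Lgr Lrot88 (Lpr_et (f454902 IH) (Lpn (LP (LK LD1_c6 LD2_c26 LD3_c38))))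
theorem f639324 : Led Lsl_at (LP (LK LD1_c9 LD2_c20 LD3_c15)) = (LP (LK LD1_c6 LD2_c26 LD3_c38)) :=
  Lgr Lrot80 (Lpr_ef (f435500 IH) (Lpr_af (f639295 IH) (Lpr_ef (f454918 IH) (Lpn (LP (LK LD1_c6 LD2_c26 LD3_c38))))))
theorem f154411 : Led Lsl_dt (LP (LK LD1_c3 LD2_c8 LD3_c53)) = (LP (LK LD1_c6 LD2_c22 LD3_c20)) :=
  Lre_d IH (LK LD1_c3 LD2_c8 LD3_c53) (LK LD1_c6 LD2_c22 LD3_c20) Lrfl Lrfl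
theorem f415476 : Led Lsl_ef (LP (LK LD1_c3 LD2_c20 LD3_c4)) = (LP (LK LD1_c3 LD2_c8 LD3_c53)) :=
  Lgr Lrot88 (Lpr_et (K29.f415471 IH) (Lpn (LP (LK LD1_c3 LD2_c8 LD3_c53))))
theorem f454920 : Led Lsl_gt (LP (LK LD1_c3 LD2_c20 LD3_c4)) = (LP (LK LD1_c6 LD2_c26 LD3_c38)) :=
  Lgr Lrot131 (Lpr_ef (f415476 IH) (Lpr_dt (f154411 IH) (Lpe (K29.f415483 IH) (Lpe (K29.f445934 IH) (Lpr_gf (K29.f445932 IH) (Lpe (K29.f68401 IH) (Lpr_dt (K29.f68400 IH) (Lpr_gf (K29.f416147 IH) (Lpe (K29.f416146 IH) (Lpr_et (f454902 IH) (Lpn (LP (LK LD1_c6 LD2_c26 LD3_c38)))))))))))))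
theorem f639330 : Led Lsl_ff (LP (LK LD1_c9 LD2_c20 LD3_c15)) = (LP (LK LD1_c6 LD2_c26 LD3_c37)) :=
  Lgr Lrot52 (Lpr_at (f639324 IH) (Lpe (f454920 IH) (Lpr_gf (K17.f415440 IH) (Lpn (LP (LK LD1_c6 LD2_c26 LD3_c37))))))
theorem f639338 : Led Lsl_ft (LP (LK LD1_c9 LD2_c20 LD3_c15)) = (LP (LK LD1_c6 LD2_c26 LD3_c37)) :=
  Lgr Lrot48 (Lpr_ff (f639330 IH) (Lpn (LP (LK LD1_c6 LD2_c26 LD3_c37))))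
theorem f59495 : Led Lsl_ct (LP (LK LD1_c9 LD2_c20 LD3_c14)) = (LP (LK LD1_c4 LD2_c43 LD3_c27)) :=
  Lre_c IH (LK LD1_c9 LD2_c20 LD3_c14) (LK LD1_c4 LD2_c43 LD3_c27) Lrfl Lrfl
theorem f23295 : Led Lsl_ct (LP (LK LD1_c2 LD2_c22 LD3_c8)) = (LP (LK LD1_c4 LD2_c48 LD3_c31)) :=
  Lre_c IH (LK LD1_c2 LD2_c22 LD3_c8) (LK LD1_c4 LD2_c48 LD3_c31) Lrfl Lrfl
theorem f446178 : Led Lsl_gf (LP (LK LD1_c9 LD2_c20 LD3_c14)) = (LP (LK LD1_c4 LD2_c48 LD3_c31)) :=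
  Lgr Lrot104 (Lpr_ct (f59495 IH) (Lpr_df (K11.f59484 IH) (Lpr_cf (K29.f445906 IH) (Lpr_gf (K32.f446174 IH) (Lpr_cf (K32.f442890 IH) (Lpe (K29.f57137 IH) (Lpr_df (K29.f438804 IH) (Lpr_gt (K29.f417083 IH) (Lpr_ct (f23295 IH) (Lpn (LP (LK LD1_c4 LD2_c48 LD3_c31))))))))))))
theorem f639346 : Led Lsl_af (LP (LK LD1_c9 LD2_c20 LD3_c14)) = (LP (LK LD1_c6 LD2_c26 LD3_c37)) :=
  Lgr Lrot31 (Lpr_gf (f446178 IH) (Lpr_gf (K32.f435375 IH) (Lpr_ft (f639338 IH) (Lpn (LP (LK LD1_c6 LD2_c26 LD3_c37))))))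
theorem f639326 : Led Lsl_af (LP (LK LD1_c9 LD2_c20 LD3_c15)) = (LP (LK LD1_c6 LD2_c26 LD3_c38)) :=
  Lgr Lrot0 (Lpr_at (f639324 IH) (Lpn (LP (LK LD1_c6 LD2_c26 LD3_c38))))
theorem f639353 : Led Lsl_ft (LP (LK LD1_c9 LD2_c20 LD3_c14)) = (LP (LK LD1_c6 LD2_c26 LD3_c38)) :=
  Lgr Lrot101 (Lpr_af (f639346 IH) (Lpe (f639338 IH) (Lpr_af (f639326 IH) (Lpn (LP (LK LD1_c6 LD2_c26 LD3_c38))))))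
theorem f639359 : Led Lsl_ff (LP (LK LD1_c9 LD2_c20 LD3_c14)) = (LP (LK LD1_c6 LD2_c26 LD3_c38)) :=
  Lgr Lrot3 (Lpr_ft (f639353 IH) (Lpn (LP (LK LD1_c6 LD2_c26 LD3_c38))))
theorem f639363 : Led Lsl_ft (LP (LK LD1_c4 LD2_c43 LD3_c27)) = (LP (LK LD1_c3 LD2_c11 LD3_c13)) :=
  Lgr Lrot4 (Lpe (f59495 IH) (Lpr_ff (f639359 IH) (Lpe (K32.f153684 IH) (Lpn (LP (LK LD1_c3 LD2_c11 LD3_c13))))))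
theorem f639369 : Led Lsl_ff (LP (LK LD1_c9 LD2_c19 LD3_c4)) = (LP (LK LD1_c6 LD2_c21 LD3_c18)) :=
  Lgr Lrot72 (Lpr_et (K24.f435261 IH) (Lpr_ft (f639363 IH) (Lpr_et (K32.f435320 IH) (Lpe (f639277 IH) (Lpr_et (K46.f140819 IH) (Lpn (LP (LK LD1_c6 LD2_c21 LD3_c18))))))))
theorem f639373 : Led Lsl_ft (LP (LK LD1_c9 LD2_c19 LD3_c4)) = (LP (LK LD1_c6 LD2_c21 LD3_c18)) :=
  Lgr Lrot48 (Lpr_ff (f639369 IH) (Lpn (LP (LK LD1_c6 LD2_c21 LD3_c18))))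
theorem f639375 : Led Lsl_ff (LP (LK LD1_c4 LD2_c42 LD3_c22)) = (LP (LK LD1_c3 LD2_c9 LD3_c12)) :=
  Lgr Lrot19 (Lpr_dt (K24.f152259 IH) (Lpr_ft (f639373 IH) (Lpr_dt (K35.f435098 IH) (Lpn (LP (LK LD1_c3 LD2_c9 LD3_c12))))))
theorem f639377 : Led Lsl_at (LP (LK LD1_c4 LD2_c42 LD3_c22)) = (LP (LK LD1_c3 LD2_c9 LD3_c11)) :=
  Lgr Lrot26 (Lpr_ff (f639375 IH) (Lpr_gt (K35.f155861 IH) (Lpr_gt (K17.f67176 IH) (Lpn (LP (LK LD1_c3 LD2_c9 LD3_c11))))))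
theorem f155843 : Led Lsl_ef (LP (LK LD1_c3 LD2_c6 LD3_c43)) = (LP (LK LD1_c3 LD2_c9 LD3_c11)) :=
  Lgr Lrot88 (Lpr_et (K17.f155834 IH) (Lpn (LP (LK LD1_c3 LD2_c9 LD3_c11))))
theorem f639383 : Led Lsl_af (LP (LK LD1_c3 LD2_c12 LD3_c55)) = (LP (LK LD1_c3 LD2_c6 LD3_c43)) :=
  Lgr Lrot50 (Lpe (K24.f435258 IH) (Lpr_at (f639377 IH) (Lpe (f155843 IH) (Lpn (LP (LK LD1_c3 LD2_c6 LD3_c43))))))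
def v1983 : LQ := Led Lsl_at (LP (LK LD1_c1 LD2_c32 LD3_c54))
theorem f506753 : Led Lsl_at (LP (LK LD1_c1 LD2_c32 LD3_c54)) = v1983 :=
  Lrfl
theorem f506754 : Led Lsl_af (LP (LK LD1_c1 LD2_c32 LD3_c54)) = v1983 :=
  Lgr Lrot0 (Lpr_at (f506753 IH) (Lpn v1983))
theorem f506755 : Led Lsl_ft (LP (LK LD1_c1 LD2_c32 LD3_c55)) = v1983 :=
  Lgr Lrot2 (Lpr_gt (K11.f59482 IH) (Lpr_gt (K9.f59486 IH) (Lpr_af (f506754 IH) (Lpn v1983))))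
theorem f506756 : Led Lsl_ff (LP (LK LD1_c1 LD2_c32 LD3_c55)) = v1983 :=
  Lgr Lrot3 (Lpr_ft (f506755 IH) (Lpn v1983))
theorem f506762 : Led Lsl_at (LP (LK LD1_c1 LD2_c32 LD3_c55)) = v1985 :=
  Lgr Lrot66 (Lpr_ff (f506756 IH) (Lpe (f506753 IH) (Lpr_ff (f506761 IH) (Lpn v1985))))
theorem f639389 : v1985 = (LP (LK LD1_c1 LD2_c29 LD3_c27)) :=
  (Llr Lrot51 (Lpe (f506762 IH) (Lpe (K24.f59494 IH) (Lpr_af (f639383 IH) (Lpe (K17.f61698 IH) (Lpn (LP (LK LD1_c1 LD2_c29 LD3_c27)))))))).symm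
theorem f416064 : Led Lsl_bt (LP (LK LD1_c3 LD2_c6 LD3_c42)) = (LP (LK LD1_c1 LD2_c29 LD3_c27)) :=
  Lre_b IH (LK LD1_c3 LD2_c6 LD3_c42) (LK LD1_c1 LD2_c29 LD3_c27) Lrfl Lrfl
theorem f640055 : Led Lsl_ff (LP (LK LD1_c3 LD2_c6 LD3_c42)) = v1984 :=
  Lgr Lrot25 (Lpr_bt (f416064 IH) (Lpq (f639389 IH) (Lpe (f506761 IH) (Lpr_bt (f506757 IH) (Lpn v1984)))))
theorem f640057 : Led Lsl_ft (LP (LK LD1_c3 LD2_c6 LD3_c42)) = v1984 :=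
  Lgr Lrot48 (Lpr_ff (f640055 IH) (Lpn v1984))
theorem f444200 : Led Lsl_ct (LP (LK LD1_c6 LD2_c18 LD3_c50)) = (LP (LK LD1_c3 LD2_c6 LD3_c42)) :=
  Lre_c IH (LK LD1_c6 LD2_c18 LD3_c50) (LK LD1_c3 LD2_c6 LD3_c42) Lrfl Lrfl
theorem f663034 : Led Lsl_ff (LP (LK LD1_c6 LD2_c18 LD3_c50)) = v5718 :=
  Lgr Lrot23 (Lpr_ct (f444200 IH) (Lpr_ft (f640057 IH) (Lpr_ct (f663031 IH) (Lpn v5718))))
theorem f207487 : Led Lsl_ft (LP (LK LD1_c3 LD2_c12 LD3_c29)) = (LP (LK LD1_c6 LD2_c29 LD3_c2)) :=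
  Lre_f IH (LK LD1_c3 LD2_c12 LD3_c29) (LK LD1_c6 LD2_c29 LD3_c2) Lrfl Lrfl
theorem f128937 : Led Lsl_et (LP (LK LD1_c2 LD2_c19 LD3_c49)) = (LP (LK LD1_c4 LD2_c43 LD3_c55)) :=
  Lre_e IH (LK LD1_c2 LD2_c19 LD3_c49) (LK LD1_c4 LD2_c43 LD3_c55) Lrfl Lrfl
theorem f107550 : Led Lsl_et (LP (LK LD1_c3 LD2_c12 LD3_c29)) = (LP (LK LD1_c1 LD2_c32 LD3_c41)) :=
  Lre_e IH (LK LD1_c3 LD2_c12 LD3_c29) (LK LD1_c1 LD2_c32 LD3_c41) Lrfl Lrfl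
theorem f208079 : Led Lsl_at (LP (LK LD1_c4 LD2_c43 LD3_c55)) = (LP (LK LD1_c3 LD2_c12 LD3_c29)) :=
  Lgr Lrot80 (Lpe (f128937 IH) (Lpr_af (K30.f208073 IH) (Lpe (f107550 IH) (Lpn (LP (LK LD1_c3 LD2_c12 LD3_c29))))))
theorem f208086 : Led Lsl_ft (LP (LK LD1_c9 LD2_c20 LD3_c46)) = (LP (LK LD1_c4 LD2_c43 LD3_c55)) :=
  Lre_f IH (LK LD1_c9 LD2_c20 LD3_c46) (LK LD1_c4 LD2_c43 LD3_c55) Lrfl Lrfl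
theorem f208087 : Led Lsl_af (LP (LK LD1_c9 LD2_c20 LD3_c46)) = (LP (LK LD1_c6 LD2_c29 LD3_c2)) :=
  Lgr Lrot45 (Lpr_ft (f208086 IH) (Lpr_at (f208079 IH) (Lpr_ft (f207487 IH) (Lpn (LP (LK LD1_c6 LD2_c29 LD3_c2))))))
theorem f649033 : Led Lsl_gf (LP (LK LD1_c9 LD2_c20 LD3_c46)) = v5718 :=
  Lgr Lrot76 (Lpr_af (f208087 IH) (Lpe (f207487 IH) (Lpr_gt (f649032 IH) (Lpn v5718))))
def v5719 : LQ := Led Lsl_gf (LP (LK LD1_c3 LD2_c12 LD3_c29))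
theorem f649034 : Led Lsl_gf (LP (LK LD1_c3 LD2_c12 LD3_c29)) = v5719 :=
  Lrfl
theorem f649035 : Led Lsl_gt (LP (LK LD1_c9 LD2_c20 LD3_c46)) = v5719 :=
  Lgr Lrot5 (Lpr_ft (f208086 IH) (Lpr_at (f208079 IH) (Lpr_gf (f649034 IH) (Lpn v5719))))
theorem f663037 : Led Lsl_at (LP (LK LD1_c6 LD2_c18 LD3_c50)) = v5719 :=
  Lgr Lrot26 (Lpr_ff (f663034 IH) (Lpe (f649033 IH) (Lpr_gt (f649035 IH) (Lpn v5719))))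
theorem f416065 : Led Lsl_ct (LP (LK LD1_c3 LD2_c6 LD3_c42)) = (LP (LK LD1_c6 LD2_c18 LD3_c50)) :=
  Lre_c IH (LK LD1_c3 LD2_c6 LD3_c42) (LK LD1_c6 LD2_c18 LD3_c50) Lrfl Lrfl
def v5357 : LQ := Led Lsl_at (LP (LK LD1_c3 LD2_c6 LD3_c42))
theorem f647241 : Led Lsl_at (LP (LK LD1_c3 LD2_c6 LD3_c42)) = v5357 :=
  Lrfl
theorem f647242 : Led Lsl_af (LP (LK LD1_c3 LD2_c6 LD3_c42)) = v5357 :=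
  Lgr Lrot0 (Lpr_at (f647241 IH) (Lpn v5357))
theorem f663039 : Led Lsl_cf v5357 = v5719 :=
  Lgr Lrot1 (Lpe (f647242 IH) (Lpr_ct (f416065 IH) (Lpr_at (f663037 IH) (Lpn v5719))))
theorem f663040 : Led Lsl_ct v5357 = v5719 :=
  Lgr Lrot59 (Lpr_cf (f663039 IH) (Lpn v5719))
def v5755 : LQ := Led Lsl_at (LP (LK LD1_c3 LD2_c12 LD3_c54))
theorem f649208 : Led Lsl_at (LP (LK LD1_c3 LD2_c12 LD3_c54)) = v5755 :=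
  Lrfl
theorem f445920 : Led Lsl_bt (LP (LK LD1_c1 LD2_c32 LD3_c55)) = (LP (LK LD1_c3 LD2_c12 LD3_c54)) :=
  Lre_b IH (LK LD1_c1 LD2_c32 LD3_c55) (LK LD1_c3 LD2_c12 LD3_c54) Lrfl Lrfl
theorem f506760 : Led Lsl_af (LP (LK LD1_c1 LD2_c32 LD3_c55)) = v1985 :=
  Lgr Lrot45 (Lpr_ft (f506755 IH) (Lpe (f506754 IH) (Lpr_ft (f506759 IH) (Lpn v1985))))
theorem f649210 : Led Lsl_bf v5357 = v5755 :=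
  Lgr Lrot81 (Lpe (f647242 IH) (Lpr_bt (f416064 IH) (Lpq (f639389 IH) (Lpe (f506760 IH) (Lpr_bt (f445920 IH) (Lpr_at (f649208 IH) (Lpn v5755)))))))
theorem f649216 : Led Lsl_bt v5357 = v5755 :=
  Lgr Lrot127 (Lpr_bf (f649210 IH) (Lpn v5755))
def v1836 : LQ := Led Lsl_ft (LP (LK LD1_c1 LD2_c29 LD3_c26))
theorem f504477 : Led Lsl_ft (LP (LK LD1_c1 LD2_c29 LD3_c26)) = v1836 :=
  Lrfl
theorem f504480 : Led Lsl_ff (LP (LK LD1_c1 LD2_c29 LD3_c26)) = v1836 :=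
  Lgr Lrot3 (Lpr_ft (f504477 IH) (Lpn v1836))
def v1835 : LQ := Led Lsl_at (LP (LK LD1_c1 LD2_c29 LD3_c26))
theorem f504471 : Led Lsl_at (LP (LK LD1_c1 LD2_c29 LD3_c26)) = v1835 :=
  Lrfl
def v1778 : LQ := Led Lsl_at (LP (LK LD1_c1 LD2_c26 LD3_c11))
theorem f502833 : Led Lsl_at (LP (LK LD1_c1 LD2_c26 LD3_c11)) = v1778 :=
  Lrfl
theorem f502834 : Led Lsl_af (LP (LK LD1_c1 LD2_c26 LD3_c11)) = v1778 :=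
  Lgr Lrot0 (Lpr_at (f502833 IH) (Lpn v1778))
theorem f504473 : Led Lsl_cf v1778 = v1835 :=
  Lgr Lrot1 (Lpe (f502834 IH) (Lpr_ct (K32.f140089 IH) (Lpr_at (f504471 IH) (Lpn v1835))))
theorem f502835 : Led Lsl_ft (LP (LK LD1_c1 LD2_c26 LD3_c12)) = v1778 :=
  Lgr Lrot2 (Lpr_gt (K32.f58490 IH) (Lpr_gt (K29.f22979 IH) (Lpr_af (f502834 IH) (Lpn v1778))))
theorem f502836 : Led Lsl_ff (LP (LK LD1_c1 LD2_c26 LD3_c12)) = v1778 :=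
  Lgr Lrot3 (Lpr_ft (f502835 IH) (Lpn v1778))
theorem f504475 : Led Lsl_ft (LP (LK LD1_c1 LD2_c29 LD3_c27)) = v1835 :=
  Lgr Lrot4 (Lpr_cf (K32.f444204 IH) (Lpr_ff (f502836 IH) (Lpr_cf (f504473 IH) (Lpn v1835))))
theorem f504476 : Led Lsl_ff (LP (LK LD1_c1 LD2_c29 LD3_c27)) = v1835 :=
  Lgr Lrot3 (Lpr_ft (f504475 IH) (Lpn v1835))
theorem f504481 : Led Lsl_at (LP (LK LD1_c1 LD2_c29 LD3_c27)) = v1836 :=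
  Lgr Lrot66 (Lpr_ff (f504476 IH) (Lpe (f504471 IH) (Lpr_ff (f504480 IH) (Lpn v1836))))
theorem f639390 : (LP (LK LD1_c1 LD2_c32 LD3_c55)) = v1836 :=
  Lefun (Lecon (Lfl_af (f506760 IH)) (f639389 IH)) (f504481 IH)
theorem f68275 : Led Lsl_bt (LP (LK LD1_c3 LD2_c12 LD3_c54)) = (LP (LK LD1_c1 LD2_c32 LD3_c55)) :=
  Lre_b IH (LK LD1_c3 LD2_c12 LD3_c54) (LK LD1_c1 LD2_c32 LD3_c55) Lrfl Lrfl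
theorem f140096 : Led Lsl_bt (LP (LK LD1_c1 LD2_c29 LD3_c26)) = (LP (LK LD1_c3 LD2_c6 LD3_c39)) :=
  Lre_b IH (LK LD1_c1 LD2_c29 LD3_c26) (LK LD1_c3 LD2_c6 LD3_c39) Lrfl Lrfl
theorem f639967 : Led Lsl_ff (LP (LK LD1_c3 LD2_c12 LD3_c54)) = (LP (LK LD1_c3 LD2_c6 LD3_c39)) :=
  Lgr Lrot25 (Lpr_bt (f68275 IH) (Lpqs (f639390 IH) (Lpe (f504480 IH) (Lpr_bt (f140096 IH) (Lpn (LP (LK LD1_c3 LD2_c6 LD3_c39)))))))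
def v5351 : LQ := Led Lsl_at (LP (LK LD1_c3 LD2_c6 LD3_c39))
theorem f647223 : Led Lsl_at (LP (LK LD1_c3 LD2_c6 LD3_c39)) = v5351 :=
  Lrfl
theorem f647224 : Led Lsl_af (LP (LK LD1_c3 LD2_c6 LD3_c39)) = v5351 :=
  Lgr Lrot0 (Lpr_at (f647223 IH) (Lpn v5351))
theorem f649211 : Led Lsl_ff v5351 = v5755 :=
  Lgr Lrot30 (Lpe (f647224 IH) (Lpe (f639967 IH) (Lpr_at (f649208 IH) (Lpn v5755))))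
theorem f649214 : Led Lsl_gf K46.v5350 = v5755 :=
  Lgr Lrot47 (Lpe (K46.f647222 IH) (Lpr_af (f647224 IH) (Lpr_ff (f649211 IH) (Lpn v5755))))
theorem f209264 : Led Lsl_gt (LP (LK LD1_c3 LD2_c10 LD3_c38)) = (LP (LK LD1_c1 LD2_c31 LD3_c40)) :=
  Lre_g IH (LK LD1_c3 LD2_c10 LD3_c38) (LK LD1_c1 LD2_c31 LD3_c40) Lrfl Lrfl
theorem f649376 : v5755 = (LP (LK LD1_c3 LD2_c10 LD3_c38)) :=
  Lefun (Lecon (f649214 IH) (K46.f649373 IH)) (Lfl_gt (f209264 IH))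
theorem f209254 : Led Lsl_ff (LP (LK LD1_c0 LD2_c42 LD3_c23)) = (LP (LK LD1_c0 LD2_c43 LD3_c7)) :=
  Lgr Lrot30 (Lpr_at (K34.f209248 IH) (Lpr_ft (K5.f129063 IH) (Lpe (K5.f129057 IH) (Lpn (LP (LK LD1_c0 LD2_c43 LD3_c7))))))
theorem f111560 : Led Lsl_ft (LP (LK LD1_c0 LD2_c51 LD3_c46)) = (LP (LK LD1_c1 LD2_c33 LD3_c9)) :=
  Lgr Lrot4 (Lpe (K3.f65257 IH) (Lpr_ff (K4.f111555 IH) (Lpr_cf (K3.f65391 IH) (Lpn (LP (LK LD1_c1 LD2_c33 LD3_c9))))))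
theorem f209256 : Led Lsl_bt (LP (LK LD1_c0 LD2_c42 LD3_c23)) = (LP (LK LD1_c0 LD2_c51 LD3_c46)) :=
  Lgr Lrot35 (Lpr_ff (f209254 IH) (Lpe (K3.f23456 IH) (Lpe (f111560 IH) (Lpn (LP (LK LD1_c0 LD2_c51 LD3_c46))))))
theorem f209258 : Led Lsl_bf (LP (LK LD1_c1 LD2_c31 LD3_c40)) = (LP (LK LD1_c1 LD2_c49 LD3_c52)) :=
  Lgr Lrot96 (Lpr_et (K46.f119851 IH) (Lpr_bt (f209256 IH) (Lpr_et (K34.f109205 IH) (Lpn (LP (LK LD1_c1 LD2_c49 LD3_c52))))))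
theorem f209213 : Led Lsl_ct (LP (LK LD1_c1 LD2_c49 LD3_c52)) = (LP (LK LD1_c3 LD2_c45 LD3_c24)) :=
  Lre_c IH (LK LD1_c1 LD2_c49 LD3_c52) (LK LD1_c3 LD2_c45 LD3_c24) Lrfl Lrfl
theorem f96617 : Led Lsl_gt (LP (LK LD1_c3 LD2_c45 LD3_c24)) = (LP (LK LD1_c7 LD2_c31 LD3_c29)) :=
  Lre_g IH (LK LD1_c3 LD2_c45 LD3_c24) (LK LD1_c7 LD2_c31 LD3_c29) Lrfl Lrfl
theorem f124474 : Led Lsl_dt (LP (LK LD1_c7 LD2_c31 LD3_c9)) = (LP (LK LD1_c3 LD2_c45 LD3_c11)) :=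
  Lre_d IH (LK LD1_c7 LD2_c31 LD3_c9) (LK LD1_c3 LD2_c45 LD3_c11) Lrfl Lrfl
theorem f508933 : Led Lsl_ft (LP (LK LD1_c6 LD2_c40 LD3_c46)) = (LP (LK LD1_c7 LD2_c31 LD3_c9)) :=
  Lgr Lrot54 (Lpe (K32.f508883 IH) (Lpr_ff (K46.f508927 IH) (Lpe (f124474 IH) (Lpn (LP (LK LD1_c7 LD2_c31 LD3_c9))))))
theorem f436568 : Led Lsl_dt (LP (LK LD1_c3 LD2_c45 LD3_c11)) = (LP (LK LD1_c7 LD2_c31 LD3_c9)) :=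
  Lre_d IH (LK LD1_c3 LD2_c45 LD3_c11) (LK LD1_c7 LD2_c31 LD3_c9) Lrfl Lrfl
theorem f66003 : Led Lsl_dt (LP (LK LD1_c6 LD2_c36 LD3_c43)) = (LP (LK LD1_c3 LD2_c16 LD3_c41)) :=
  Lre_d IH (LK LD1_c6 LD2_c36 LD3_c43) (LK LD1_c3 LD2_c16 LD3_c41) Lrfl Lrfl
theorem f436569 : Led Lsl_at (LP (LK LD1_c7 LD2_c31 LD3_c9)) = (LP (LK LD1_c6 LD2_c36 LD3_c43)) :=
  Lgr Lrot51 (Lpe (f436568 IH) (Lpr_af (K46.f436563 IH) (Lpe (f66003 IH) (Lpn (LP (LK LD1_c6 LD2_c36 LD3_c43))))))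
theorem f508938 : Led Lsl_gt (LP (LK LD1_c12 LD2_c3 LD3_c6)) = (LP (LK LD1_c6 LD2_c36 LD3_c43)) :=
  Lgr Lrot46 (Lpe (K32.f508884 IH) (Lpr_ft (f508933 IH) (Lpr_at (f436569 IH) (Lpn (LP (LK LD1_c6 LD2_c36 LD3_c43))))))
theorem f66028 : Led Lsl_dt (LP (LK LD1_c3 LD2_c16 LD3_c41)) = (LP (LK LD1_c6 LD2_c36 LD3_c43)) :=
  Lre_d IH (LK LD1_c3 LD2_c16 LD3_c41) (LK LD1_c6 LD2_c36 LD3_c43) Lrfl Lrfl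
theorem f96198 : Led Lsl_et (LP (LK LD1_c1 LD2_c49 LD3_c51)) = (LP (LK LD1_c3 LD2_c45 LD3_c24)) :=
  Lre_e IH (LK LD1_c1 LD2_c49 LD3_c51) (LK LD1_c3 LD2_c45 LD3_c24) Lrfl Lrfl
theorem f508940 : Led Lsl_et (LP (LK LD1_c6 LD2_c11 LD3_c32)) = (LP (LK LD1_c7 LD2_c31 LD3_c29)) :=
  Lgr Lrot122 (Lpr_dt (K32.f502900 IH) (Lpr_gt (f508938 IH) (Lpe (f66028 IH) (Lpr_et (K5.f66002 IH) (Lpr_gt (K3.f64480 IH) (Lpr_dt (K3.f64253 IH) (Lpr_gt (K3.f64911 IH) (Lpr_df (K3.f96190 IH) (Lpr_et (f96198 IH) (Lpr_gt (f96617 IH) (Lpn (LP (LK LD1_c7 LD2_c31 LD3_c29)))))))))))))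
theorem f508945 : Led Lsl_ef (LP (LK LD1_c6 LD2_c11 LD3_c32)) = (LP (LK LD1_c7 LD2_c31 LD3_c29)) :=
  Lgr Lrot88 (Lpr_et (f508940 IH) (Lpn (LP (LK LD1_c7 LD2_c31 LD3_c29))))
theorem f443617 : Led Lsl_ct (LP (LK LD1_c6 LD2_c11 LD3_c32)) = (LP (LK LD1_c3 LD2_c2 LD3_c20)) :=
  Lre_c IH (LK LD1_c6 LD2_c11 LD3_c32) (LK LD1_c3 LD2_c2 LD3_c20) Lrfl Lrfl
theorem f508948 : Led Lsl_ct (LP (LK LD1_c6 LD2_c9 LD3_c50)) = (LP (LK LD1_c7 LD2_c31 LD3_c29)) :=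
  Lgr Lrot15 (Lpr_ef (K24.f443615 IH) (Lpe (f443617 IH) (Lpr_ef (f508945 IH) (Lpn (LP (LK LD1_c7 LD2_c31 LD3_c29))))))
theorem f115554 : Led Lsl_et (LP (LK LD1_c3 LD2_c15 LD3_c45)) = (LP (LK LD1_c1 LD2_c34 LD3_c36)) :=
  Lre_e IH (LK LD1_c3 LD2_c15 LD3_c45) (LK LD1_c1 LD2_c34 LD3_c36) Lrfl Lrfl
theorem f208100 : Led Lsl_af (LP (LK LD1_c3 LD2_c15 LD3_c45)) = (LP (LK LD1_c3 LD2_c10 LD3_c36)) :=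
  Lgr Lrot50 (Lpr_et (f115554 IH) (Lpr_at (K30.f208077 IH) (Lpr_et (f115519 IH) (Lpn (LP (LK LD1_c3 LD2_c10 LD3_c36))))))
theorem f208813 : Led Lsl_ft (LP (LK LD1_c3 LD2_c15 LD3_c45)) = (LP (LK LD1_c6 LD2_c34 LD3_c49)) :=
  Lre_f IH (LK LD1_c3 LD2_c15 LD3_c45) (LK LD1_c6 LD2_c34 LD3_c49) Lrfl Lrfl
theorem f208766 : Led Lsl_ft (LP (LK LD1_c6 LD2_c25 LD3_c43)) = (LP (LK LD1_c3 LD2_c10 LD3_c36)) :=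
  Lre_f IH (LK LD1_c6 LD2_c25 LD3_c43) (LK LD1_c3 LD2_c10 LD3_c36) Lrfl Lrfl
theorem f208814 : Led Lsl_at (LP (LK LD1_c6 LD2_c34 LD3_c49)) = (LP (LK LD1_c6 LD2_c25 LD3_c43)) :=
  Lgr Lrot66 (Lpe (f208813 IH) (Lpr_af (f208100 IH) (Lpe (f208766 IH) (Lpn (LP (LK LD1_c6 LD2_c25 LD3_c43))))))
theorem f208796 : Led Lsl_ct (LP (LK LD1_c6 LD2_c29 LD3_c2)) = (LP (LK LD1_c6 LD2_c25 LD3_c43)) :=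
  Lgr Lrot40 (Lpe (f207487 IH) (Lpr_cf (f208791 IH) (Lpe (f208766 IH) (Lpn (LP (LK LD1_c6 LD2_c25 LD3_c43))))))
theorem f208800 : Led Lsl_cf (LP (LK LD1_c6 LD2_c29 LD3_c2)) = (LP (LK LD1_c6 LD2_c25 LD3_c43)) :=
  Lgr Lrot11 (Lpr_ct (f208796 IH) (Lpn (LP (LK LD1_c6 LD2_c25 LD3_c43))))
theorem f208818 : Led Lsl_cf (LP (LK LD1_c6 LD2_c34 LD3_c49)) = (LP (LK LD1_c9 LD2_c20 LD3_c46)) :=
  Lgr Lrot1 (Lpr_at (f208814 IH) (Lpe (f208800 IH) (Lpe (f208087 IH) (Lpn (LP (LK LD1_c9 LD2_c20 LD3_c46))))))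
theorem f208820 : Led Lsl_ct (LP (LK LD1_c6 LD2_c34 LD3_c49)) = (LP (LK LD1_c9 LD2_c20 LD3_c46)) :=
  Lgr Lrot59 (Lpr_cf (f208818 IH) (Lpn (LP (LK LD1_c9 LD2_c20 LD3_c46))))
theorem f208816 : Led Lsl_af (LP (LK LD1_c6 LD2_c34 LD3_c49)) = (LP (LK LD1_c6 LD2_c25 LD3_c43)) :=
  Lgr Lrot0 (Lpr_at (f208814 IH) (Lpn (LP (LK LD1_c6 LD2_c25 LD3_c43))))
theorem f208788 : Led Lsl_ft (LP (LK LD1_c3 LD2_c10 LD3_c36)) = (LP (LK LD1_c6 LD2_c25 LD3_c43)) :=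
  Lre_f IH (LK LD1_c3 LD2_c10 LD3_c36) (LK LD1_c6 LD2_c25 LD3_c43) Lrfl Lrfl
theorem f207467 : Led Lsl_gt (LP (LK LD1_c3 LD2_c10 LD3_c36)) = (LP (LK LD1_c6 LD2_c25 LD3_c41)) :=
  Lre_g IH (LK LD1_c3 LD2_c10 LD3_c36) (LK LD1_c6 LD2_c25 LD3_c41) Lrfl Lrfl
theorem f208831 : Led Lsl_gf (LP (LK LD1_c6 LD2_c34 LD3_c49)) = (LP (LK LD1_c6 LD2_c25 LD3_c41)) :=
  Lgr Lrot76 (Lpr_af (f208816 IH) (Lpe (f208788 IH) (Lpr_gt (f207467 IH) (Lpn (LP (LK LD1_c6 LD2_c25 LD3_c41))))))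
theorem f663041 : Led Lsl_bt (LP (LK LD1_c6 LD2_c9 LD3_c50)) = (LP (LK LD1_c6 LD2_c25 LD3_c41)) :=
  Lgr Lrot130 (Lpr_ct (f508948 IH) (Lpe (f96617 IH) (Lpe (f209213 IH) (Lpe (f209258 IH) (Lpe (f209264 IH) (Lpq (f649376 IH) (Lpe (f649216 IH) (Lpr_ct (f663040 IH) (Lpe (f649035 IH) (Lpe (f208820 IH) (Lpr_gf (f208831 IH) (Lpn (LP (LK LD1_c6 LD2_c25 LD3_c41))))))))))))))
theorem f663042 : Led Lsl_bt (LP (LK LD1_c6 LD2_c9 LD3_c50)) = (LP (LK LD1_c6 LD2_c25 LD3_c41)) :=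
  Leop (Lpe (f663041 IH) (Lpn (LP (LK LD1_c6 LD2_c9 LD3_c50))))
theorem seed_468 : LEOK LG_b (LK LD1_c6 LD2_c9 LD3_c50) :=
  Leoe_b (LK LD1_c6 LD2_c9 LD3_c50) (f663042 IH)
def v5230 : LQ := Led Lsl_gt (LP (LK LD1_c3 LD2_c2 LD3_c18))
theorem f646696 : Led Lsl_gt (LP (LK LD1_c3 LD2_c2 LD3_c18)) = v5230 :=
  Lrfl
def v5231 : LQ := Led Lsl_dt (LP (LK LD1_c3 LD2_c2 LD3_c18))
theorem f646699 : Led Lsl_dt (LP (LK LD1_c3 LD2_c2 LD3_c18)) = v5231 :=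
  Lrfl
theorem f130885 : Led Lsl_bt (LP (LK LD1_c1 LD2_c27 LD3_c8)) = (LP (LK LD1_c3 LD2_c2 LD3_c18)) :=
  Lre_b IH (LK LD1_c1 LD2_c27 LD3_c8) (LK LD1_c3 LD2_c2 LD3_c18) Lrfl Lrfl
theorem f646700 : Led Lsl_bf (LP (LK LD1_c3 LD2_c2 LD3_c20)) = v5231 :=
  Lgr Lrot93 (Lpr_dt (K24.f443614 IH) (Lpr_bt (f130885 IH) (Lpr_dt (f646699 IH) (Lpn v5231))))
theorem f663045 : Led Lsl_ef v5231 = (LP (LK LD1_c6 LD2_c25 LD3_c41)) :=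
  Lgr Lrot29 (Lpe (f646700 IH) (Lpe (K24.f443615 IH) (Lpr_bt (f663041 IH) (Lpn (LP (LK LD1_c6 LD2_c25 LD3_c41))))))
theorem f663050 : Led Lsl_et v5231 = (LP (LK LD1_c6 LD2_c25 LD3_c41)) :=
  Lgr Lrot87 (Lpr_ef (f663045 IH) (Lpn (LP (LK LD1_c6 LD2_c25 LD3_c41))))
theorem f646702 : Led Lsl_df (LP (LK LD1_c3 LD2_c2 LD3_c18)) = v5231 :=
  Lgr Lrot38 (Lpr_dt (f646699 IH) (Lpn v5231))
theorem f124556 : Led Lsl_et (LP (LK LD1_c3 LD2_c13 LD3_c18)) = (LP (LK LD1_c1 LD2_c33 LD3_c4)) :=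
  Lre_e IH (LK LD1_c3 LD2_c13 LD3_c18) (LK LD1_c1 LD2_c33 LD3_c4) Lrfl Lrfl
theorem f160780 : Led Lsl_et (LP (LK LD1_c1 LD2_c33 LD3_c30)) = (LP (LK LD1_c3 LD2_c13 LD3_c52)) :=
  Lre_e IH (LK LD1_c1 LD2_c33 LD3_c30) (LK LD1_c3 LD2_c13 LD3_c52) Lrfl Lrfl
theorem f120809 : Led Lsl_et (LP (LK LD1_c3 LD2_c42 LD3_c59)) = (LP (LK LD1_c1 LD2_c48 LD3_c31)) :=
  Lre_e IH (LK LD1_c3 LD2_c42 LD3_c59) (LK LD1_c1 LD2_c48 LD3_c31) Lrfl Lrfl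
theorem f160781 : Led Lsl_dt (LP (LK LD1_c3 LD2_c13 LD3_c52)) = (LP (LK LD1_c3 LD2_c42 LD3_c59)) :=
  Lgr Lrot77 (Lpe (f160780 IH) (Lpr_df (K8.f160774 IH) (Lpe (K4.f121282 IH) (Lpe (K5.f26106 IH) (Lpe (f120809 IH) (Lpn (LP (LK LD1_c3 LD2_c42 LD3_c59))))))))
theorem f139694 : Led Lsl_et (LP (LK LD1_c3 LD2_c42 LD3_c60)) = (LP (LK LD1_c7 LD2_c26 LD3_c45)) :=
  Lre_e IH (LK LD1_c3 LD2_c42 LD3_c60) (LK LD1_c7 LD2_c26 LD3_c45) Lrfl Lrfl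
theorem f139696 : Led Lsl_ct (LP (LK LD1_c7 LD2_c26 LD3_c45)) = (LP (LK LD1_c6 LD2_c20 LD3_c17)) :=
  Lgr Lrot15 (Lpe (f139694 IH) (Lpr_cf (K7.f139672 IH) (Lpe (K6.f139695 IH) (Lpn (LP (LK LD1_c6 LD2_c20 LD3_c17))))))
theorem f129291 : Led Lsl_bt (LP (LK LD1_c3 LD2_c43 LD3_c0)) = (LP (LK LD1_c7 LD2_c26 LD3_c45)) :=
  Lre_b IH (LK LD1_c3 LD2_c43 LD3_c0) (LK LD1_c7 LD2_c26 LD3_c45) Lrfl Lrfl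
theorem f129292 : Led Lsl_ct (LP (LK LD1_c1 LD2_c48 LD3_c33)) = (LP (LK LD1_c3 LD2_c43 LD3_c0)) :=
  Lre_c IH (LK LD1_c1 LD2_c48 LD3_c33) (LK LD1_c3 LD2_c43 LD3_c0) Lrfl Lrfl
theorem f129282 : Led Lsl_bt (LP (LK LD1_c3 LD2_c42 LD3_c59)) = (LP (LK LD1_c1 LD2_c48 LD3_c33)) :=
  Lre_b IH (LK LD1_c3 LD2_c42 LD3_c59) (LK LD1_c1 LD2_c48 LD3_c33) Lrfl Lrfl
theorem f139712 : Led Lsl_bt (LP (LK LD1_c6 LD2_c20 LD3_c17)) = (LP (LK LD1_c3 LD2_c7 LD3_c44)) :=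
  Lre_b IH (LK LD1_c6 LD2_c20 LD3_c17) (LK LD1_c3 LD2_c7 LD3_c44) Lrfl Lrfl
theorem f139713 : Led Lsl_cf (LP (LK LD1_c3 LD2_c42 LD3_c59)) = (LP (LK LD1_c3 LD2_c7 LD3_c44)) :=
  Lgr Lrot97 (Lpr_bt (f129282 IH) (Lpr_ct (f129292 IH) (Lpr_bt (f129291 IH) (Lpr_ct (f139696 IH) (Lpr_bt (f139712 IH) (Lpn (LP (LK LD1_c3 LD2_c7 LD3_c44))))))))
theorem f124545 : Led Lsl_et (LP (LK LD1_c1 LD2_c33 LD3_c4)) = (LP (LK LD1_c3 LD2_c13 LD3_c18)) :=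
  Lre_e IH (LK LD1_c1 LD2_c33 LD3_c4) (LK LD1_c3 LD2_c13 LD3_c18) Lrfl Lrfl
theorem f124546 : Led Lsl_et (LP (LK LD1_c4 LD2_c43 LD3_c12)) = (LP (LK LD1_c2 LD2_c19 LD3_c16)) :=
  Lre_e IH (LK LD1_c4 LD2_c43 LD3_c12) (LK LD1_c2 LD2_c19 LD3_c16) Lrfl Lrfl
theorem f124547 : Led Lsl_ct (LP (LK LD1_c3 LD2_c13 LD3_c18)) = (LP (LK LD1_c4 LD2_c43 LD3_c12)) :=
  Lgr Lrot15 (Lpe (f124545 IH) (Lpr_cf (K5.f124538 IH) (Lpe (f124546 IH) (Lpn (LP (LK LD1_c4 LD2_c43 LD3_c12))))))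
theorem f139724 : Led Lsl_at (LP (LK LD1_c3 LD2_c42 LD3_c59)) = (LP (LK LD1_c3 LD2_c13 LD3_c18)) :=
  Lgr Lrot107 (Lpr_cf (f139713 IH) (Lpe (K6.f128969 IH) (Lpe (f124547 IH) (Lpn (LP (LK LD1_c3 LD2_c13 LD3_c18))))))
theorem f207461 : Led Lsl_dt (LP (LK LD1_c3 LD2_c13 LD3_c18)) = (LP (LK LD1_c3 LD2_c10 LD3_c33)) :=
  Lgr Lrot44 (Lpe (f139724 IH) (Lpe (f160781 IH) (Lpr_af (K24.f207455 IH) (Lpn (LP (LK LD1_c3 LD2_c10 LD3_c33))))))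
theorem f663051 : v5230 = (LP (LK LD1_c3 LD2_c10 LD3_c33)) :=
  (Llr Lrot112 (Lpe (f646696 IH) (Lpr_df (f646702 IH) (Lpr_et (f663050 IH) (Lpe (f207467 IH) (Lpe (f115519 IH) (Lpr_dt (K30.f82414 IH) (Lpe (K7.f125517 IH) (Lpe (K5.f125469 IH) (Lpe (K7.f125521 IH) (Lpe (f124556 IH) (Lpr_dt (f207461 IH) (Lpn (LP (LK LD1_c3 LD2_c10 LD3_c33))))))))))))))).symm
theorem f663053 : Led Lsl_gt (LP (LK LD1_c3 LD2_c2 LD3_c18)) = (LP (LK LD1_c3 LD2_c10 LD3_c33)) :=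
  Leop (Lpq (f663051 IH) (Lpe (f646696 IH) (Lpn (LP (LK LD1_c3 LD2_c2 LD3_c18)))))
theorem seed_469 : LEOK LG_g (LK LD1_c3 LD2_c2 LD3_c18) :=
  Leoe_g (LK LD1_c3 LD2_c2 LD3_c18) (f663053 IH)
def v7164 : LQ := Led Lsl_ct (LP (LK LD1_c3 LD2_c40 LD3_c27))
theorem f661629 : Led Lsl_ct (LP (LK LD1_c3 LD2_c40 LD3_c27)) = v7164 :=
  Lrfl
theorem f107294 : Led Lsl_gt (LP (LK LD1_c3 LD2_c40 LD3_c27)) = (LP (LK LD1_c1 LD2_c47 LD3_c11)) :=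
  Lre_g IH (LK LD1_c3 LD2_c40 LD3_c27) (LK LD1_c1 LD2_c47 LD3_c11) Lrfl Lrfl
theorem f209061 : Led Lsl_gt (LP (LK LD1_c3 LD2_c42 LD3_c8)) = (LP (LK LD1_c3 LD2_c40 LD3_c27)) :=
  Lgr Lrot5 (Lpr_ft (K46.f26238 IH) (Lpr_at (K34.f209055 IH) (Lpe (f107294 IH) (Lpn (LP (LK LD1_c3 LD2_c40 LD3_c27))))))
def v5566 : LQ := Led Lsl_gf (LP (LK LD1_c3 LD2_c10 LD3_c30))
theorem f648281 : Led Lsl_gf (LP (LK LD1_c3 LD2_c10 LD3_c30)) = v5566 :=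
  Lrfl
theorem f209009 : Led Lsl_ft (LP (LK LD1_c6 LD2_c52 LD3_c45)) = (LP (LK LD1_c3 LD2_c25 LD3_c15)) :=
  Lre_f IH (LK LD1_c6 LD2_c52 LD3_c45) (LK LD1_c3 LD2_c25 LD3_c15) Lrfl Lrfl
theorem f648282 : Led Lsl_gt (LP (LK LD1_c6 LD2_c52 LD3_c45)) = v5566 :=
  Lgr Lrot5 (Lpr_ft (f209009 IH) (Lpe (K35.f208997 IH) (Lpr_gf (f648281 IH) (Lpn v5566))))
theorem f139720 : Led Lsl_bt (LP (LK LD1_c1 LD2_c48 LD3_c33)) = (LP (LK LD1_c3 LD2_c42 LD3_c59)) :=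
  Lre_b IH (LK LD1_c1 LD2_c48 LD3_c33) (LK LD1_c3 LD2_c42 LD3_c59) Lrfl Lrfl
def v7234 : LQ := Led Lsl_gf (LP (LK LD1_c3 LD2_c43 LD3_c0))
theorem f662593 : Led Lsl_gf (LP (LK LD1_c3 LD2_c43 LD3_c0)) = v7234 :=
  Lrfl
def v7229 : LQ := Led Lsl_gt (LP (LK LD1_c3 LD2_c42 LD3_c59))
theorem f662566 : Led Lsl_gt (LP (LK LD1_c3 LD2_c42 LD3_c59)) = v7229 :=
  Lrfl
def v6014 : LQ := Led Lsl_gt (LP (LK LD1_c3 LD2_c16 LD3_c23))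
theorem f650541 : Led Lsl_gt (LP (LK LD1_c3 LD2_c16 LD3_c23)) = v6014 :=
  Lrfl
def v7231 : LQ := Led Lsl_ft (LP (LK LD1_c3 LD2_c42 LD3_c59))
theorem f662569 : Led Lsl_ft (LP (LK LD1_c3 LD2_c42 LD3_c59)) = v7231 :=
  Lrfl
theorem f139730 : Led Lsl_af (LP (LK LD1_c3 LD2_c42 LD3_c59)) = (LP (LK LD1_c3 LD2_c13 LD3_c18)) :=
  Lgr Lrot0 (Lpr_at (f139724 IH) (Lpn (LP (LK LD1_c3 LD2_c13 LD3_c18))))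
theorem f124554 : Led Lsl_ft (LP (LK LD1_c6 LD2_c30 LD3_c27)) = (LP (LK LD1_c3 LD2_c13 LD3_c18)) :=
  Lre_f IH (LK LD1_c6 LD2_c30 LD3_c27) (LK LD1_c3 LD2_c13 LD3_c18) Lrfl Lrfl
theorem f662570 : Led Lsl_af (LP (LK LD1_c6 LD2_c30 LD3_c27)) = v7231 :=
  Lgr Lrot45 (Lpr_ft (f124554 IH) (Lpe (f139730 IH) (Lpr_ft (f662569 IH) (Lpn v7231))))
theorem f662576 : Led Lsl_gt v7229 = (LP (LK LD1_c6 LD2_c30 LD3_c27)) :=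
  Lgr Lrot46 (Lpe (f662566 IH) (Lpr_ft (f662569 IH) (Lpe (f662570 IH) (Lpn (LP (LK LD1_c6 LD2_c30 LD3_c27))))))
def v5830 : LQ := Led Lsl_ft (LP (LK LD1_c3 LD2_c13 LD3_c52))
theorem f649697 : Led Lsl_ft (LP (LK LD1_c3 LD2_c13 LD3_c52)) = v5830 :=
  Lrfl
theorem f649702 : Led Lsl_ff (LP (LK LD1_c3 LD2_c13 LD3_c52)) = v5830 :=
  Lgr Lrot3 (Lpr_ft (f649697 IH) (Lpn v5830))
def v5568 : LQ := Led Lsl_gf (LP (LK LD1_c3 LD2_c10 LD3_c33))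
theorem f648291 : Led Lsl_gf (LP (LK LD1_c3 LD2_c10 LD3_c33)) = v5568 :=
  Lrfl
theorem f649708 : Led Lsl_gf v5568 = v5830 :=
  Lgr Lrot47 (Lpe (f648291 IH) (Lpe (K24.f207448 IH) (Lpr_ff (f649702 IH) (Lpn v5830))))
theorem f130886 : Led Lsl_gt (LP (LK LD1_c6 LD2_c11 LD3_c25)) = (LP (LK LD1_c3 LD2_c2 LD3_c18)) :=
  Lre_g IH (LK LD1_c6 LD2_c11 LD3_c25) (LK LD1_c3 LD2_c2 LD3_c18) Lrfl Lrfl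
theorem f663052 : (LP (LK LD1_c3 LD2_c2 LD3_c18)) = v5568 :=
  Lefun (Lecon (Lfl_gt (f646696 IH)) (f663051 IH)) (f648291 IH)
theorem f663054 : v5830 = (LP (LK LD1_c6 LD2_c11 LD3_c25)) :=
  Lefun (Lecon (f649708 IH) (f663052 IH).symm) (Lfl_gt (f130886 IH))
theorem f207458 : Led Lsl_bt (LP (LK LD1_c3 LD2_c13 LD3_c52)) = (LP (LK LD1_c1 LD2_c33 LD3_c32)) :=
  Lre_b IH (LK LD1_c3 LD2_c13 LD3_c52) (LK LD1_c1 LD2_c33 LD3_c32) Lrfl Lrfl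
theorem f649705 : Led Lsl_bt v2013 = v5830 :=
  Lgr Lrot35 (Lpe (f506886 IH) (Lpe (f207458 IH) (Lpr_ff (f649702 IH) (Lpn v5830))))
def v5258 : LQ := Led Lsl_bt (LP (LK LD1_c3 LD2_c2 LD3_c43))
theorem f646821 : Led Lsl_bt (LP (LK LD1_c3 LD2_c2 LD3_c43)) = v5258 :=
  Lrfl
theorem f662815 : v5830 = v5258 :=
  Lefun (Lecon (f649705 IH) (f662787 IH)) (f646821 IH)
def v2172 : LQ := Led Lsl_bt (LP (LK LD1_c1 LD2_c36 LD3_c52))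
theorem f509464 : Led Lsl_bt (LP (LK LD1_c1 LD2_c36 LD3_c52)) = v2172 :=
  Lrfl
theorem f509465 : Led Lsl_bf (LP (LK LD1_c1 LD2_c36 LD3_c52)) = v2172 :=
  Lgr Lrot24 (Lpr_bt (f509464 IH) (Lpn v2172))
theorem f649444 : Led Lsl_df v2172 = v5258 :=
  Lgr Lrot12 (Lpe (f509465 IH) (Lpq (K46.f649437 IH) (Lpe (f646825 IH) (Lpr_bt (f646821 IH) (Lpn v5258)))))
theorem f649445 : Led Lsl_dt v2172 = v5258 :=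
  Lgr Lrot42 (Lpr_df (f649444 IH) (Lpn v5258))
theorem f651559 : Led Lsl_bf (LP (LK LD1_c3 LD2_c18 LD3_c30)) = K46.v6158 :=
  Lgr Lrot24 (Lpr_bt (K46.f651558 IH) (Lpn K46.v6158))
theorem f651564 : (LP (LK LD1_c3 LD2_c18 LD3_c30)) = v2172 :=
  Lefun (Lecon (Lfl_bf (f651559 IH)) (K46.f651563 IH)) (f509464 IH)
def v6163 : LQ := Led Lsl_dt (LP (LK LD1_c3 LD2_c18 LD3_c31))
theorem f651587 : Led Lsl_dt (LP (LK LD1_c3 LD2_c18 LD3_c31)) = v6163 :=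
  Lrfl
theorem f651589 : Led Lsl_df (LP (LK LD1_c3 LD2_c18 LD3_c31)) = v6163 :=
  Lgr Lrot38 (Lpr_dt (f651587 IH) (Lpn v6163))
theorem f62161 : Led Lsl_dt (LP (LK LD1_c1 LD2_c35 LD3_c42)) = (LP (LK LD1_c3 LD2_c18 LD3_c33)) :=
  Lre_d IH (LK LD1_c1 LD2_c35 LD3_c42) (LK LD1_c3 LD2_c18 LD3_c33) Lrfl Lrfl
theorem f651590 : Led Lsl_at (LP (LK LD1_c3 LD2_c18 LD3_c33)) = v6163 :=
  Lgr Lrot51 (Lpe (f62161 IH) (Lpe (K46.f453938 IH) (Lpr_df (f651589 IH) (Lpn v6163))))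
theorem f62090 : Led Lsl_bt (LP (LK LD1_c3 LD2_c18 LD3_c33)) = (LP (LK LD1_c1 LD2_c35 LD3_c44)) :=
  Lre_b IH (LK LD1_c3 LD2_c18 LD3_c33) (LK LD1_c1 LD2_c35 LD3_c44) Lrfl Lrfl
theorem f62092 : Led Lsl_ef (LP (LK LD1_c3 LD2_c18 LD3_c33)) = (LP (LK LD1_c3 LD2_c16 LD3_c23)) :=
  Lgr Lrot29 (Lpr_bt (f62090 IH) (Lpr_et (K32.f62087 IH) (Lpr_bt (K46.f62091 IH) (Lpn (LP (LK LD1_c3 LD2_c16 LD3_c23))))))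
theorem f650548 : Led Lsl_af (LP (LK LD1_c3 LD2_c16 LD3_c23)) = K46.v6016 :=
  Lgr Lrot0 (Lpr_at (K46.f650547 IH) (Lpn K46.v6016))
theorem f651591 : Led Lsl_ef K46.v6016 = v6163 :=
  Lgr Lrot20 (Lpe (f650548 IH) (Lpe (f62092 IH) (Lpr_at (f651590 IH) (Lpn v6163))))
theorem f453939 : Led Lsl_at (LP (LK LD1_c1 LD2_c35 LD3_c42)) = (LP (LK LD1_c3 LD2_c18 LD3_c31)) :=
  Lre_a IH (LK LD1_c1 LD2_c35 LD3_c42) (LK LD1_c3 LD2_c18 LD3_c31) Lrfl Lrfl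
theorem f650542 : Led Lsl_gf (LP (LK LD1_c3 LD2_c18 LD3_c31)) = v6014 :=
  Lgr Lrot76 (Lpe (f453939 IH) (Lpr_ff (K46.f509023 IH) (Lpqs (K46.f624144 IH) (Lpr_gt (f650541 IH) (Lpn v6014)))))
theorem f207429 : Led Lsl_ft (LP (LK LD1_c4 LD2_c43 LD3_c56)) = (LP (LK LD1_c9 LD2_c20 LD3_c47)) :=
  Lre_f IH (LK LD1_c4 LD2_c43 LD3_c56) (LK LD1_c9 LD2_c20 LD3_c47) Lrfl Lrfl
theorem f207430 : Led Lsl_ft (LP (LK LD1_c6 LD2_c29 LD3_c2)) = (LP (LK LD1_c3 LD2_c12 LD3_c29)) :=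
  Lre_f IH (LK LD1_c6 LD2_c29 LD3_c2) (LK LD1_c3 LD2_c12 LD3_c29) Lrfl Lrfl
theorem f207431 : Led Lsl_et (LP (LK LD1_c9 LD2_c20 LD3_c47)) = (LP (LK LD1_c6 LD2_c29 LD3_c2)) :=
  Lgr Lrot69 (Lpe (f207429 IH) (Lpe (K24.f110458 IH) (Lpr_ff (K11.f207409 IH) (Lpe (f107550 IH) (Lpe (f207430 IH) (Lpn (LP (LK LD1_c6 LD2_c29 LD3_c2))))))))
theorem f128391 : Led Lsl_ft (LP (LK LD1_c6 LD2_c28 LD3_c58)) = (LP (LK LD1_c3 LD2_c12 LD3_c26)) :=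
  Lre_f IH (LK LD1_c6 LD2_c28 LD3_c58) (LK LD1_c3 LD2_c12 LD3_c26) Lrfl Lrfl
theorem f207450 : Led Lsl_at (LP (LK LD1_c9 LD2_c20 LD3_c47)) = (LP (LK LD1_c6 LD2_c28 LD3_c58)) :=
  Lgr Lrot66 (Lpe (f207429 IH) (Lpr_af (K24.f207444 IH) (Lpe (f128391 IH) (Lpn (LP (LK LD1_c6 LD2_c28 LD3_c58))))))
theorem f207452 : Led Lsl_af (LP (LK LD1_c9 LD2_c20 LD3_c47)) = (LP (LK LD1_c6 LD2_c28 LD3_c58)) :=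
  Lgr Lrot0 (Lpr_at (f207450 IH) (Lpn (LP (LK LD1_c6 LD2_c28 LD3_c58))))
theorem f208092 : Led Lsl_et (LP (LK LD1_c9 LD2_c20 LD3_c46)) = (LP (LK LD1_c6 LD2_c28 LD3_c58)) :=
  Lgr Lrot123 (Lpr_af (f208087 IH) (Lpe (f207431 IH) (Lpr_af (f207452 IH) (Lpn (LP (LK LD1_c6 LD2_c28 LD3_c58))))))
theorem f208095 : Led Lsl_ef (LP (LK LD1_c9 LD2_c20 LD3_c46)) = (LP (LK LD1_c6 LD2_c28 LD3_c58)) :=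
  Lgr Lrot88 (Lpr_et (f208092 IH) (Lpn (LP (LK LD1_c6 LD2_c28 LD3_c58))))
theorem f128390 : Led Lsl_ft (LP (LK LD1_c3 LD2_c10 LD3_c33)) = (LP (LK LD1_c6 LD2_c25 LD3_c40)) :=
  Lre_f IH (LK LD1_c3 LD2_c10 LD3_c33) (LK LD1_c6 LD2_c25 LD3_c40) Lrfl Lrfl
theorem f128392 : Led Lsl_ct (LP (LK LD1_c6 LD2_c25 LD3_c40)) = (LP (LK LD1_c6 LD2_c28 LD3_c58)) :=
  Lgr Lrot40 (Lpe (f128390 IH) (Lpr_cf (K24.f128374 IH) (Lpe (f128391 IH) (Lpn (LP (LK LD1_c6 LD2_c28 LD3_c58))))))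
theorem f208822 : Led Lsl_et (LP (LK LD1_c6 LD2_c34 LD3_c49)) = (LP (LK LD1_c6 LD2_c25 LD3_c40)) :=
  Lgr Lrot158 (Lpr_cf (f208818 IH) (Lpr_ef (f208095 IH) (Lpe (f128392 IH) (Lpn (LP (LK LD1_c6 LD2_c25 LD3_c40))))))
theorem f208825 : Led Lsl_ef (LP (LK LD1_c6 LD2_c34 LD3_c49)) = (LP (LK LD1_c6 LD2_c25 LD3_c40)) :=
  Lgr Lrot88 (Lpr_et (f208822 IH) (Lpn (LP (LK LD1_c6 LD2_c25 LD3_c40))))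
theorem f207465 : Led Lsl_df (LP (LK LD1_c6 LD2_c30 LD3_c27)) = (LP (LK LD1_c6 LD2_c25 LD3_c40)) :=
  Lgr Lrot78 (Lpr_ft (f124554 IH) (Lpr_dt (f207461 IH) (Lpr_ft (f128390 IH) (Lpn (LP (LK LD1_c6 LD2_c25 LD3_c40))))))
theorem f663068 : v6014 = (LP (LK LD1_c6 LD2_c30 LD3_c27)) :=
  (Llr Lrot145 (Lpe (f650542 IH) (Lpr_df (f651589 IH) (Lpe (f651591 IH) (Lpe (K46.f650554 IH) (Lpqs (f651564 IH) (Lpr_dt (f649445 IH) (Lpq (f662815 IH) (Lpqs (f663054 IH) (Lpr_gt (f130886 IH) (Lpr_df (f646702 IH) (Lpr_et (f663050 IH) (Lpe (f208831 IH) (Lpr_ef (f208825 IH) (Lpe (f207465 IH) (Lpn (LP (LK LD1_c6 LD2_c30 LD3_c27)))))))))))))))))).symm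
theorem f663071 : (LP (LK LD1_c3 LD2_c16 LD3_c23)) = v7229 :=
  Lefun (Lecon (Lfl_gt (f650541 IH)) (f663068 IH)) (Lfl_gt (f662576 IH))
theorem f527793 : Led Lsl_bt K34.v2239 = K34.v2615 :=
  Lgr Lrot127 (Lpr_bf (K34.f527792 IH) (Lpn K34.v2615))
theorem f527795 : Led Lsl_af K34.v2239 = K35.v1932 :=
  Lgr Lrot45 (Lpr_ft (K34.f527794 IH) (Lpr_at (K34.f209069 IH) (Lpr_ft (K35.f506448 IH) (Lpn K35.v1932))))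
theorem f209063 : Led Lsl_at (LP (LK LD1_c3 LD2_c42 LD3_c8)) = (LP (LK LD1_c3 LD2_c40 LD3_c28)) :=
  Lgr Lrot100 (Lpr_af (f209059 IH) (Lpn (LP (LK LD1_c3 LD2_c40 LD3_c28))))
theorem f651175 : Led Lsl_bf (LP (LK LD1_c3 LD2_c42 LD3_c8)) = K46.v6113 :=
  Lgr Lrot81 (Lpr_at (f209063 IH) (Lpr_bt (K35.f506452 IH) (Lpe (f527795 IH) (Lpr_bt (f527793 IH) (Lpr_at (K46.f651173 IH) (Lpn K46.v6113))))))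
theorem f663115 : v7234 = v7164 :=
  (Llr Lrot129 (Lpe (f662593 IH) (Lpe (f129292 IH) (Lpr_bt (f139720 IH) (Lpr_gt (f662566 IH) (Lpq (f663071 IH) (Lpe (K46.f62091 IH) (Lpr_ct (K46.f62095 IH) (Lpr_gt (K46.f62141 IH) (Lpr_cf (K46.f651176 IH) (Lpe (f651175 IH) (Lpr_gt (f209061 IH) (Lpr_ct (f661629 IH) (Lpn v7164)))))))))))))).symm
theorem f209291 : Led Lsl_gt (LP (LK LD1_c6 LD2_c31 LD3_c29)) = (LP (LK LD1_c3 LD2_c13 LD3_c57)) :=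
  Lre_g IH (LK LD1_c6 LD2_c31 LD3_c29) (LK LD1_c3 LD2_c13 LD3_c57) Lrfl Lrfl
theorem f663116 : Led Lsl_ct v5566 = (LP (LK LD1_c6 LD2_c31 LD3_c29)) :=
  Lgr Lrot152 (Lpe (f648282 IH) (Lpe (f209053 IH) (Lpr_gt (f209061 IH) (Lpr_ct (f661629 IH) (Lpq (f663115 IH) (Lpe (f662593 IH) (Lpr_ct (K5.f129284 IH) (Lpr_df (f147513 IH) (Lpe (K24.f207472 IH) (Lpe (f209291 IH) (Lpn (LP (LK LD1_c6 LD2_c31 LD3_c29)))))))))))))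
theorem f209016 : Led Lsl_bt (LP (LK LD1_c3 LD2_c45 LD3_c22)) = (LP (LK LD1_c6 LD2_c52 LD3_c45)) :=
  Lgr Lrot35 (Lpe (K46.f130966 IH) (Lpr_bf (K34.f208999 IH) (Lpe (f209009 IH) (Lpn (LP (LK LD1_c6 LD2_c52 LD3_c45))))))
theorem f130984 : Led Lsl_ct (LP (LK LD1_c3 LD2_c45 LD3_c22)) = (LP (LK LD1_c7 LD2_c31 LD3_c25)) :=
  Lre_c IH (LK LD1_c3 LD2_c45 LD3_c22) (LK LD1_c7 LD2_c31 LD3_c25) Lrfl Lrfl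
theorem f646474 : Led Lsl_bt (LP (LK LD1_c3 LD2_c1 LD3_c45)) = (LP (LK LD1_c6 LD2_c10 LD3_c16)) :=
  Lre_b IH (LK LD1_c3 LD2_c1 LD3_c45) (LK LD1_c6 LD2_c10 LD3_c16) Lrfl Lrfl
theorem f209284 : Led Lsl_ct (LP (LK LD1_c1 LD2_c33 LD3_c32)) = (LP (LK LD1_c3 LD2_c13 LD3_c57)) :=
  Lre_c IH (LK LD1_c1 LD2_c33 LD3_c32) (LK LD1_c3 LD2_c13 LD3_c57) Lrfl Lrfl
def v5828 : LQ := Led Lsl_gt (LP (LK LD1_c3 LD2_c13 LD3_c52))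
theorem f649694 : Led Lsl_gt (LP (LK LD1_c3 LD2_c13 LD3_c52)) = v5828 :=
  Lrfl
theorem f663119 : (LP (LK LD1_c6 LD2_c10 LD3_c16)) = v5828 :=
  (Llr Lrot92 (Lpe (f646474 IH) (Lpr_ct (K46.f453929 IH) (Lpq (K46.f651206 IH) (Lpe (K46.f650214 IH) (Lpe (f130984 IH) (Lpr_bt (f209016 IH) (Lpr_gt (f648282 IH) (Lpr_ct (f663116 IH) (Lpr_gt (f209291 IH) (Lpe (f209284 IH) (Lpr_bt (K24.f207457 IH) (Lpr_gt (f649694 IH) (Lpn v5828)))))))))))))).symm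
theorem f128397 : Led Lsl_ft (LP (LK LD1_c6 LD2_c25 LD3_c40)) = (LP (LK LD1_c3 LD2_c10 LD3_c33)) :=
  Lre_f IH (LK LD1_c6 LD2_c25 LD3_c40) (LK LD1_c3 LD2_c10 LD3_c33) Lrfl Lrfl
theorem f649698 : Led Lsl_af (LP (LK LD1_c6 LD2_c25 LD3_c40)) = v5830 :=
  Lgr Lrot45 (Lpr_ft (f128397 IH) (Lpe (K24.f207455 IH) (Lpr_ft (f649697 IH) (Lpn v5830))))
theorem f649703 : Led Lsl_gt v5828 = (LP (LK LD1_c6 LD2_c25 LD3_c40)) :=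
  Lgr Lrot46 (Lpe (f649694 IH) (Lpr_ft (f649697 IH) (Lpe (f649698 IH) (Lpn (LP (LK LD1_c6 LD2_c25 LD3_c40))))))
theorem f663120 : Led Lsl_gt (LP (LK LD1_c6 LD2_c10 LD3_c16)) = (LP (LK LD1_c6 LD2_c25 LD3_c40)) :=
  Leop (Lpe (f649703 IH) (Lpq (f663119 IH) (Lpn (LP (LK LD1_c6 LD2_c10 LD3_c16)))))
theorem seed_470 : LEOK LG_g (LK LD1_c6 LD2_c10 LD3_c16) :=
  Leoe_g (LK LD1_c6 LD2_c10 LD3_c16) (f663120 IH)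
theorem f649704 : Led Lsl_at (LP (LK LD1_c6 LD2_c25 LD3_c40)) = v5830 :=
  Lgr Lrot66 (Lpe (f128390 IH) (Lpe (K24.f207448 IH) (Lpr_ff (f649702 IH) (Lpn v5830))))
theorem f124831 : Led Lsl_gt (LP (LK LD1_c3 LD2_c10 LD3_c33)) = (LP (LK LD1_c6 LD2_c25 LD3_c39)) :=
  Lre_g IH (LK LD1_c3 LD2_c10 LD3_c33) (LK LD1_c6 LD2_c25 LD3_c39) Lrfl Lrfl
theorem f649709 : Led Lsl_gt (LP (LK LD1_c6 LD2_c25 LD3_c39)) = v5830 :=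
  Lgr Lrot46 (Lpe (f124831 IH) (Lpr_ft (f128390 IH) (Lpr_at (f649704 IH) (Lpn v5830))))
theorem f502917 : Led Lsl_at (LP (LK LD1_c6 LD2_c11 LD3_c26)) = (LP (LK LD1_c3 LD2_c2 LD3_c18)) :=
  Lre_a IH (LK LD1_c6 LD2_c11 LD3_c26) (LK LD1_c3 LD2_c2 LD3_c18) Lrfl Lrfl
theorem f663150 : Led Lsl_ft (LP (LK LD1_c6 LD2_c25 LD3_c39)) = (LP (LK LD1_c6 LD2_c11 LD3_c26)) :=
  Lgr Lrot2 (Lpr_gt (f649709 IH) (Lpqs (f663054 IH) (Lpr_gt (f130886 IH) (Lpe (f502917 IH) (Lpn (LP (LK LD1_c6 LD2_c11 LD3_c26)))))))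
theorem f663153 : Led Lsl_ff (LP (LK LD1_c6 LD2_c25 LD3_c39)) = (LP (LK LD1_c6 LD2_c11 LD3_c26)) :=
  Lgr Lrot3 (Lpr_ft (f663150 IH) (Lpn (LP (LK LD1_c6 LD2_c11 LD3_c26))))
theorem f502918 : Led Lsl_at (LP (LK LD1_c3 LD2_c2 LD3_c18)) = (LP (LK LD1_c6 LD2_c11 LD3_c26)) :=
  Lre_a IH (LK LD1_c3 LD2_c2 LD3_c18) (LK LD1_c6 LD2_c11 LD3_c26) Lrfl Lrfl
def v5232 : LQ := Led Lsl_ft (LP (LK LD1_c3 LD2_c2 LD3_c18))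
theorem f646706 : Led Lsl_ft (LP (LK LD1_c3 LD2_c2 LD3_c18)) = v5232 :=
  Lrfl
theorem f646708 : Led Lsl_ff (LP (LK LD1_c3 LD2_c2 LD3_c18)) = v5232 :=
  Lgr Lrot3 (Lpr_ft (f646706 IH) (Lpn v5232))
theorem f663155 : Led Lsl_at (LP (LK LD1_c6 LD2_c25 LD3_c39)) = v5232 :=
  Lgr Lrot66 (Lpr_ff (f663153 IH) (Lpe (f502918 IH) (Lpr_ff (f646708 IH) (Lpn v5232))))
theorem f646707 : Led Lsl_bf K32.v1787 = v5232 :=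
  Lgr Lrot61 (Lpe (K46.f502902 IH) (Lpr_bt (f130885 IH) (Lpr_ft (f646706 IH) (Lpn v5232))))
theorem f502896 : Led Lsl_bt (LP (LK LD1_c1 LD2_c27 LD3_c7)) = (LP (LK LD1_c3 LD2_c2 LD3_c15)) :=
  Lre_b IH (LK LD1_c1 LD2_c27 LD3_c7) (LK LD1_c3 LD2_c2 LD3_c15) Lrfl Lrfl
def v5221 : LQ := Led Lsl_at (LP (LK LD1_c3 LD2_c2 LD3_c15))
theorem f646597 : Led Lsl_at (LP (LK LD1_c3 LD2_c2 LD3_c15)) = v5221 :=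
  Lrfl
theorem f663157 : Led Lsl_bf (LP (LK LD1_c6 LD2_c25 LD3_c39)) = v5221 :=
  Lgr Lrot81 (Lpr_at (f663155 IH) (Lpe (f646707 IH) (Lpe (K32.f502894 IH) (Lpr_bt (f502896 IH) (Lpr_at (f646597 IH) (Lpn v5221))))))
theorem f207454 : Led Lsl_ft (LP (LK LD1_c9 LD2_c20 LD3_c47)) = (LP (LK LD1_c4 LD2_c43 LD3_c56)) :=
  Lre_f IH (LK LD1_c9 LD2_c20 LD3_c47) (LK LD1_c4 LD2_c43 LD3_c56) Lrfl Lrfl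
theorem f649700 : Led Lsl_cf (LP (LK LD1_c9 LD2_c20 LD3_c47)) = v5830 :=
  Lgr Lrot108 (Lpr_ft (f207454 IH) (Lpe (K24.f160768 IH) (Lpr_ft (f649697 IH) (Lpn v5830))))
def v5717 : LQ := Led Lsl_gf (LP (LK LD1_c3 LD2_c12 LD3_c26))
theorem f649030 : Led Lsl_gf (LP (LK LD1_c3 LD2_c12 LD3_c26)) = v5717 :=
  Lrfl
theorem f649031 : Led Lsl_gt (LP (LK LD1_c9 LD2_c20 LD3_c47)) = v5717 :=
  Lgr Lrot5 (Lpr_ft (f207454 IH) (Lpr_at (K24.f207446 IH) (Lpr_gf (f649030 IH) (Lpn v5717))))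
theorem f646822 : Led Lsl_bf (LP (LK LD1_c3 LD2_c2 LD3_c43)) = v5258 :=
  Lgr Lrot24 (Lpr_bt (f646821 IH) (Lpn v5258))
theorem f413473 : Led Lsl_bt (LP (LK LD1_c0 LD2_c40 LD3_c25)) = (LP (LK LD1_c1 LD2_c27 LD3_c19)) :=
  Lre_b IH (LK LD1_c0 LD2_c40 LD3_c25) (LK LD1_c1 LD2_c27 LD3_c19) Lrfl Lrfl
def v1982 : LQ := Led Lsl_bt (LP (LK LD1_c1 LD2_c32 LD3_c49))
theorem f506751 : Led Lsl_bt (LP (LK LD1_c1 LD2_c32 LD3_c49)) = v1982 :=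
  Lrfl
theorem f506752 : Led Lsl_bf (LP (LK LD1_c1 LD2_c32 LD3_c49)) = v1982 :=
  Lgr Lrot24 (Lpr_bt (f506751 IH) (Lpn v1982))
theorem f663134 : Led Lsl_cf v5717 = v1982 :=
  Lgr Lrot58 (Lpe (f649031 IH) (Lpr_cf (f649700 IH) (Lpqs (f663054 IH) (Lpq (f663054 IH) (Lpqs (f662815 IH) (Lpe (f646822 IH) (Lpe (K46.f413474 IH) (Lpe (f413473 IH) (Lpr_ct (K16.f413472 IH) (Lpr_gf (K16.f413459 IH) (Lpe (K2.f61426 IH) (Lpe (K8.f61017 IH) (Lpr_bf (f506752 IH) (Lpn v1982))))))))))))))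
theorem f61517 : Led Lsl_gt (LP (LK LD1_c3 LD2_c12 LD3_c38)) = (LP (LK LD1_c6 LD2_c29 LD3_c24)) :=
  Lre_g IH (LK LD1_c3 LD2_c12 LD3_c38) (LK LD1_c6 LD2_c29 LD3_c24) Lrfl Lrfl
theorem f663159 : Led Lsl_cf (LP (LK LD1_c6 LD2_c29 LD3_c24)) = v5221 :=
  Lgr Lrot58 (Lpe (f61517 IH) (Lpe (K9.f61421 IH) (Lpr_bt (K9.f61507 IH) (Lpe (K8.f61017 IH) (Lpr_bf (f506752 IH) (Lpe (f663134 IH) (Lpe (f649031 IH) (Lpr_cf (f649700 IH) (Lpe (f649709 IH) (Lpr_bf (f663157 IH) (Lpn v5221)))))))))))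
theorem f414644 : Led Lsl_ct (LP (LK LD1_c6 LD2_c11 LD3_c17)) = (LP (LK LD1_c3 LD2_c2 LD3_c15)) :=
  Lre_c IH (LK LD1_c6 LD2_c11 LD3_c17) (LK LD1_c3 LD2_c2 LD3_c15) Lrfl Lrfl
theorem f663164 : Led Lsl_at (LP (LK LD1_c6 LD2_c29 LD3_c24)) = (LP (LK LD1_c6 LD2_c11 LD3_c17)) :=
  Lgr Lrot107 (Lpr_cf (f663159 IH) (Lpe (f646597 IH) (Lpe (f414644 IH) (Lpn (LP (LK LD1_c6 LD2_c11 LD3_c17))))))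
theorem f663165 : Led Lsl_at (LP (LK LD1_c6 LD2_c29 LD3_c24)) = (LP (LK LD1_c6 LD2_c11 LD3_c17)) :=
  Leop (Lpe (f663164 IH) (Lpn (LP (LK LD1_c6 LD2_c29 LD3_c24))))
theorem seed_471 : LEOK LG_a (LK LD1_c6 LD2_c29 LD3_c24) :=
  Leoe_a (LK LD1_c6 LD2_c29 LD3_c24) (f663165 IH)
def v5195 : LQ := Led Lsl_dt (LP (LK LD1_c3 LD2_c1 LD3_c46))
theorem f646483 : Led Lsl_dt (LP (LK LD1_c3 LD2_c1 LD3_c46)) = v5195 :=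
  Lrfl
theorem f646484 : Led Lsl_df (LP (LK LD1_c3 LD2_c1 LD3_c46)) = v5195 :=
  Lgr Lrot38 (Lpr_dt (f646483 IH) (Lpn v5195))
theorem f110217 : Led Lsl_et (LP (LK LD1_c0 LD2_c44 LD3_c10)) = (LP (LK LD1_c0 LD2_c19 LD3_c42)) :=
  Lre_e IH (LK LD1_c0 LD2_c44 LD3_c10) (LK LD1_c0 LD2_c19 LD3_c42) Lrfl Lrfl
theorem f110219 : Led Lsl_et (LP (LK LD1_c0 LD2_c40 LD3_c21)) = (LP (LK LD1_c1 LD2_c27 LD3_c10)) :=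
  Lre_e IH (LK LD1_c0 LD2_c40 LD3_c21) (LK LD1_c1 LD2_c27 LD3_c10) Lrfl Lrfl
theorem f23886 : Led Lsl_gt (LP (LK LD1_c1 LD2_c27 LD3_c10)) = (LP (LK LD1_c3 LD2_c2 LD3_c23)) :=
  Lre_g IH (LK LD1_c1 LD2_c27 LD3_c10) (LK LD1_c3 LD2_c2 LD3_c23) Lrfl Lrfl
theorem f646485 : Led Lsl_ef (LP (LK LD1_c3 LD2_c2 LD3_c23)) = v5195 :=
  Lgr Lrot17 (Lpe (f23886 IH) (Lpe (f110219 IH) (Lpr_dt (K1.f12153 IH) (Lpr_gf (K44.f110021 IH) (Lpe (K3.f110197 IH) (Lpe (K3.f93517 IH) (Lpe (f110217 IH) (Lpr_dt (K46.f110218 IH) (Lpe (K9.f62168 IH) (Lpr_df (f646484 IH) (Lpn v5195)))))))))))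
theorem f646486 : Led Lsl_et (LP (LK LD1_c3 LD2_c2 LD3_c23)) = v5195 :=
  Lgr Lrot87 (Lpr_ef (f646485 IH) (Lpn v5195))
def v5239 : LQ := Led Lsl_at (LP (LK LD1_c3 LD2_c2 LD3_c23))
theorem f646741 : Led Lsl_at (LP (LK LD1_c3 LD2_c2 LD3_c23)) = v5239 :=
  Lrfl
theorem f646742 : Led Lsl_af (LP (LK LD1_c3 LD2_c2 LD3_c23)) = v5239 :=
  Lgr Lrot0 (Lpr_at (f646741 IH) (Lpn v5239))
def v5235 : LQ := Led Lsl_at (LP (LK LD1_c3 LD2_c2 LD3_c20))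
theorem f646721 : Led Lsl_at (LP (LK LD1_c3 LD2_c2 LD3_c20)) = v5235 :=
  Lrfl
def v1789 : LQ := Led Lsl_ft (LP (LK LD1_c1 LD2_c27 LD3_c7))
theorem f502910 : Led Lsl_ft (LP (LK LD1_c1 LD2_c27 LD3_c7)) = v1789 :=
  Lrfl
theorem f502911 : Led Lsl_af (LP (LK LD1_c1 LD2_c27 LD3_c8)) = v1789 :=
  Lgr Lrot45 (Lpr_ft (K32.f502897 IH) (Lpe (K32.f502894 IH) (Lpr_ft (f502910 IH) (Lpn v1789))))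
theorem f646723 : Led Lsl_df v1789 = v5235 :=
  Lgr Lrot18 (Lpe (f502911 IH) (Lpr_dt (K32.f443618 IH) (Lpr_at (f646721 IH) (Lpn v5235))))
theorem f646724 : Led Lsl_dt v1789 = v5235 :=
  Lgr Lrot42 (Lpr_df (f646723 IH) (Lpn v5235))
def v5223 : LQ := Led Lsl_ft (LP (LK LD1_c3 LD2_c2 LD3_c15))
theorem f646604 : Led Lsl_ft (LP (LK LD1_c3 LD2_c2 LD3_c15)) = v5223 :=
  Lrfl
theorem f502913 : Led Lsl_ff (LP (LK LD1_c1 LD2_c27 LD3_c7)) = v1789 :=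
  Lgr Lrot3 (Lpr_ft (f502910 IH) (Lpn v1789))
theorem f646605 : Led Lsl_bf v1789 = v5223 :=
  Lgr Lrot61 (Lpe (f502913 IH) (Lpr_bt (f502896 IH) (Lpr_ft (f646604 IH) (Lpn v5223))))
theorem f663167 : Led Lsl_ct (LP (LK LD1_c6 LD2_c29 LD3_c24)) = v5221 :=
  Lgr Lrot59 (Lpr_cf (f663159 IH) (Lpn v5221))
theorem f646598 : Led Lsl_af (LP (LK LD1_c3 LD2_c2 LD3_c15)) = v5221 :=
  Lgr Lrot0 (Lpr_at (f646597 IH) (Lpn v5221))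
theorem f414635 : Led Lsl_ct (LP (LK LD1_c3 LD2_c2 LD3_c15)) = (LP (LK LD1_c6 LD2_c11 LD3_c17)) :=
  Lre_c IH (LK LD1_c3 LD2_c2 LD3_c15) (LK LD1_c6 LD2_c11 LD3_c17) Lrfl Lrfl
theorem f663171 : Led Lsl_af (LP (LK LD1_c6 LD2_c29 LD3_c24)) = (LP (LK LD1_c6 LD2_c11 LD3_c17)) :=
  Lgr Lrot68 (Lpr_ct (f663167 IH) (Lpe (f646598 IH) (Lpr_ct (f414635 IH) (Lpn (LP (LK LD1_c6 LD2_c11 LD3_c17))))))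
theorem f663178 : Led Lsl_ft (LP (LK LD1_c6 LD2_c29 LD3_c25)) = (LP (LK LD1_c6 LD2_c11 LD3_c17)) :=
  Lgr Lrot2 (Lpr_gt (K9.f61523 IH) (Lpr_gt (f61517 IH) (Lpr_af (f663171 IH) (Lpn (LP (LK LD1_c6 LD2_c11 LD3_c17))))))
theorem f663184 : (LP (LK LD1_c6 LD2_c10 LD3_c20)) = v5223 :=
  (Llr Lrot108 (Lpr_ct (K9.f139964 IH) (Lpr_ft (f663178 IH) (Lpr_ct (f414644 IH) (Lpr_ft (f646604 IH) (Lpn v5223)))))).symm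
theorem f663187 : v1789 = (LP (LK LD1_c3 LD2_c1 LD3_c46)) :=
  Lefun (Lecon (Lfl_bf (f646605 IH)) (f663184 IH).symm) (K9.f139963 IH)
theorem f663197 : v5235 = v5195 :=
  Lefun (Lecon (f646724 IH) (f663187 IH)) (f646483 IH)
theorem f646722 : Led Lsl_af (LP (LK LD1_c3 LD2_c2 LD3_c20)) = v5235 :=
  Lgr Lrot0 (Lpr_at (f646721 IH) (Lpn v5235))
theorem f663351 : v5239 = (LP (LK LD1_c6 LD2_c9 LD3_c50)) :=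
  (Llr Lrot50 (Lpe (f646742 IH) (Lpr_et (f646486 IH) (Lpq (f663197 IH) (Lpe (f646722 IH) (Lpe (K24.f443615 IH) (Lpn (LP (LK LD1_c6 LD2_c9 LD3_c50))))))))).symm
theorem f663352 : Led Lsl_at (LP (LK LD1_c6 LD2_c9 LD3_c50)) = (LP (LK LD1_c3 LD2_c2 LD3_c23)) :=
  Leop (Lpr_af (f646742 IH) (Lpqs (f663351 IH) (Lpn (LP (LK LD1_c6 LD2_c9 LD3_c50)))))
theorem seed_472 : LEOK LG_a (LK LD1_c6 LD2_c9 LD3_c50) :=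
  Leoe_a (LK LD1_c6 LD2_c9 LD3_c50) (f663352 IH)
def v5325 : LQ := Led Lsl_at (LP (LK LD1_c3 LD2_c6 LD3_c4))
theorem f647086 : Led Lsl_at (LP (LK LD1_c3 LD2_c6 LD3_c4)) = v5325 :=
  Lrfl
def v1800 : LQ := Led Lsl_dt (LP (LK LD1_c1 LD2_c27 LD3_c23))
theorem f502977 : Led Lsl_dt (LP (LK LD1_c1 LD2_c27 LD3_c23)) = v1800 :=
  Lrfl
theorem f444188 : Led Lsl_et (LP (LK LD1_c3 LD2_c2 LD3_c59)) = (LP (LK LD1_c1 LD2_c27 LD3_c23)) :=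
  Lre_e IH (LK LD1_c3 LD2_c2 LD3_c59) (LK LD1_c1 LD2_c27 LD3_c23) Lrfl Lrfl
theorem f444187 : Led Lsl_dt (LP (LK LD1_c6 LD2_c12 LD3_c39)) = (LP (LK LD1_c3 LD2_c2 LD3_c59)) :=
  Lre_d IH (LK LD1_c6 LD2_c12 LD3_c39) (LK LD1_c3 LD2_c2 LD3_c59) Lrfl Lrfl
theorem f24651 : Led Lsl_bt (LP (LK LD1_c6 LD2_c12 LD3_c39)) = (LP (LK LD1_c3 LD2_c3 LD3_c3)) :=
  Lre_b IH (LK LD1_c6 LD2_c12 LD3_c39) (LK LD1_c3 LD2_c3 LD3_c3) Lrfl Lrfl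
theorem f68268 : Led Lsl_bt (LP (LK LD1_c3 LD2_c6 LD3_c5)) = (LP (LK LD1_c6 LD2_c17 LD3_c47)) :=
  Lre_b IH (LK LD1_c3 LD2_c6 LD3_c5) (LK LD1_c6 LD2_c17 LD3_c47) Lrfl Lrfl
theorem f443971 : Led Lsl_ef (LP (LK LD1_c6 LD2_c12 LD3_c39)) = (LP (LK LD1_c6 LD2_c17 LD3_c47)) :=
  Lgr Lrot29 (Lpr_bt (f24651 IH) (Lpr_et (K29.f443969 IH) (Lpr_bt (f68268 IH) (Lpn (LP (LK LD1_c6 LD2_c17 LD3_c47))))))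
theorem f444189 : Led Lsl_dt (LP (LK LD1_c3 LD2_c6 LD3_c4)) = (LP (LK LD1_c6 LD2_c17 LD3_c47)) :=
  Lre_d IH (LK LD1_c3 LD2_c6 LD3_c4) (LK LD1_c6 LD2_c17 LD3_c47) Lrfl Lrfl
theorem f502981 : Led Lsl_ef (LP (LK LD1_c3 LD2_c6 LD3_c4)) = v1800 :=
  Lgr Lrot73 (Lpr_dt (f444189 IH) (Lpe (f443971 IH) (Lpr_dt (f444187 IH) (Lpr_et (f444188 IH) (Lpr_dt (f502977 IH) (Lpn v1800))))))
def v5279 : LQ := Led Lsl_dt (LP (LK LD1_c3 LD2_c2 LD3_c57))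
theorem f646885 : Led Lsl_dt (LP (LK LD1_c3 LD2_c2 LD3_c57)) = v5279 :=
  Lrfl
theorem f453022 : Led Lsl_at (LP (LK LD1_c1 LD2_c27 LD3_c23)) = (LP (LK LD1_c3 LD2_c2 LD3_c57)) :=
  Lre_a IH (LK LD1_c1 LD2_c27 LD3_c23) (LK LD1_c3 LD2_c2 LD3_c57) Lrfl Lrfl
theorem f502980 : Led Lsl_df (LP (LK LD1_c1 LD2_c27 LD3_c23)) = v1800 :=
  Lgr Lrot38 (Lpr_dt (f502977 IH) (Lpn v1800))
theorem f646886 : Led Lsl_af v1800 = v5279 :=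
  Lgr Lrot117 (Lpe (f502980 IH) (Lpr_at (f453022 IH) (Lpr_dt (f646885 IH) (Lpn v5279))))
theorem f647089 : Led Lsl_ef v5279 = v5325 :=
  Lgr Lrot20 (Lpe (f646886 IH) (Lpe (f502981 IH) (Lpr_at (f647086 IH) (Lpn v5325))))
theorem f647095 : Led Lsl_et v5279 = v5325 :=
  Lgr Lrot87 (Lpr_ef (f647089 IH) (Lpn v5325))
theorem f444280 : Led Lsl_bt (LP (LK LD1_c1 LD2_c29 LD3_c7)) = (LP (LK LD1_c3 LD2_c6 LD3_c4)) :=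
  Lre_b IH (LK LD1_c1 LD2_c29 LD3_c7) (LK LD1_c3 LD2_c6 LD3_c4) Lrfl Lrfl
theorem f646919 : Led Lsl_af (LP (LK LD1_c3 LD2_c3 LD3_c6)) = v5291 :=
  Lgr Lrot0 (Lpr_at (f646918 IH) (Lpn v5291))
theorem f647088 : Led Lsl_bf v5291 = v5325 :=
  Lgr Lrot81 (Lpe (f646919 IH) (Lpr_bt (f20141 IH) (Lpq (K32.f503373 IH) (Lpe (K32.f503214 IH) (Lpr_bt (f444280 IH) (Lpr_at (f647086 IH) (Lpn v5325)))))))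
def v7248 : LQ := Led Lsl_et (LP (LK LD1_c3 LD2_c43 LD3_c13))
theorem f662651 : Led Lsl_et (LP (LK LD1_c3 LD2_c43 LD3_c13)) = v7248 :=
  Lrfl
theorem f663513 : Led Lsl_bf v5279 = v7248 :=
  Lgr Lrot96 (Lpr_et (f647095 IH) (Lpe (f647088 IH) (Lpqs (f662980 IH) (Lpr_et (f662651 IH) (Lpn v7248)))))
theorem f139943 : Led Lsl_bt (LP (LK LD1_c0 LD2_c40 LD3_c26)) = (LP (LK LD1_c1 LD2_c27 LD3_c23)) :=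
  Lre_b IH (LK LD1_c0 LD2_c40 LD3_c26) (LK LD1_c1 LD2_c27 LD3_c23) Lrfl Lrfl
theorem f502978 : Led Lsl_bf (LP (LK LD1_c1 LD2_c27 LD3_c25)) = v1800 :=
  Lgr Lrot93 (Lpr_dt (K24.f22959 IH) (Lpr_bt (f139943 IH) (Lpr_dt (f502977 IH) (Lpn v1800))))
theorem f502960 : Led Lsl_ff (LP (LK LD1_c1 LD2_c27 LD3_c25)) = K32.v1796 :=
  Lgr Lrot3 (Lpr_ft (K32.f502959 IH) (Lpn K32.v1796))
theorem f502966 : Led Lsl_at (LP (LK LD1_c1 LD2_c27 LD3_c25)) = K32.v1797 :=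
  Lgr Lrot66 (Lpr_ff (f502960 IH) (Lpe (K32.f502955 IH) (Lpr_ff (K32.f502965 IH) (Lpn K32.v1797))))
theorem f416115 : Led Lsl_dt (LP (LK LD1_c3 LD2_c2 LD3_c46)) = (LP (LK LD1_c1 LD2_c27 LD3_c19)) :=
  Lre_d IH (LK LD1_c3 LD2_c2 LD3_c46) (LK LD1_c1 LD2_c27 LD3_c19) Lrfl Lrfl
theorem f632228 : Led Lsl_ff (LP (LK LD1_c3 LD2_c2 LD3_c46)) = v4253 :=
  Lgr Lrot19 (Lpr_dt (f416115 IH) (Lpr_ft (f502939 IH) (Lpqs (f503356 IH) (Lpr_dt (f632224 IH) (Lpn v4253)))))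
theorem f415422 : Led Lsl_bt (LP (LK LD1_c3 LD2_c2 LD3_c46)) = (LP (LK LD1_c1 LD2_c27 LD3_c21)) :=
  Lre_b IH (LK LD1_c3 LD2_c2 LD3_c46) (LK LD1_c1 LD2_c27 LD3_c21) Lrfl Lrfl
theorem f632229 : Led Lsl_bt K32.v1797 = v4253 :=
  Lgr Lrot35 (Lpe (K32.f502962 IH) (Lpe (f415422 IH) (Lpr_ff (f632228 IH) (Lpn v4253))))
theorem f663514 : Led Lsl_at v4253 = v7248 :=
  Lgr Lrot67 (Lpe (f632229 IH) (Lpe (f502966 IH) (Lpr_bf (f502978 IH) (Lpr_af (f646886 IH) (Lpr_bf (f663513 IH) (Lpn v7248))))))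
theorem f632231 : Led Lsl_ft (LP (LK LD1_c3 LD2_c2 LD3_c46)) = v4253 :=
  Lgr Lrot48 (Lpr_ff (f632228 IH) (Lpn v4253))
theorem f502935 : Led Lsl_gt (LP (LK LD1_c3 LD2_c2 LD3_c46)) = (LP (LK LD1_c6 LD2_c12 LD3_c23)) :=
  Lre_g IH (LK LD1_c3 LD2_c2 LD3_c46) (LK LD1_c6 LD2_c12 LD3_c23) Lrfl Lrfl
theorem f663520 : Led Lsl_gt (LP (LK LD1_c6 LD2_c12 LD3_c23)) = v7248 :=
  Lgr Lrot46 (Lpe (f502935 IH) (Lpr_ft (f632231 IH) (Lpr_at (f663514 IH) (Lpn v7248))))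
theorem f662652 : Led Lsl_ef (LP (LK LD1_c3 LD2_c43 LD3_c13)) = v7248 :=
  Lgr Lrot88 (Lpr_et (f662651 IH) (Lpn v7248))
theorem f116078 : Led Lsl_et (LP (LK LD1_c0 LD2_c51 LD3_c6)) = (LP (LK LD1_c1 LD2_c48 LD3_c40)) :=
  Lre_e IH (LK LD1_c0 LD2_c51 LD3_c6) (LK LD1_c1 LD2_c48 LD3_c40) Lrfl Lrfl
theorem f106198 : Led Lsl_et (LP (LK LD1_c0 LD2_c43 LD3_c20)) = (LP (LK LD1_c1 LD2_c33 LD3_c27)) :=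
  Lre_e IH (LK LD1_c0 LD2_c43 LD3_c20) (LK LD1_c1 LD2_c33 LD3_c27) Lrfl Lrfl
theorem f148095 : Led Lsl_dt (LP (LK LD1_c1 LD2_c33 LD3_c27)) = (LP (LK LD1_c1 LD2_c48 LD3_c43)) :=
  Lgr Lrot77 (Lpe (f106198 IH) (Lpe (K1.f23692 IH) (Lpe (K4.f106142 IH) (Lpr_df (K7.f148075 IH) (Lpe (K46.f148094 IH) (Lpn (LP (LK LD1_c1 LD2_c48 LD3_c43))))))))
theorem f148104 : Led Lsl_gt (LP (LK LD1_c3 LD2_c43 LD3_c19)) = (LP (LK LD1_c1 LD2_c48 LD3_c43)) :=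
  Lre_g IH (LK LD1_c3 LD2_c43 LD3_c19) (LK LD1_c1 LD2_c48 LD3_c43) Lrfl Lrfl
theorem f662653 : Led Lsl_df (LP (LK LD1_c3 LD2_c43 LD3_c19)) = v7248 :=
  Lgr Lrot170 (Lpr_gt (f148104 IH) (Lpe (f148095 IH) (Lpr_et (K5.f66571 IH) (Lpr_gt (K1.f66557 IH) (Lpr_dt (K5.f24850 IH) (Lpr_gt (K3.f21026 IH) (Lpe (K4.f116055 IH) (Lpr_et (f116078 IH) (Lpr_gt (f116079 IH) (Lpr_ef (f662652 IH) (Lpn v7248)))))))))))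
theorem f24859 : Led Lsl_et (LP (LK LD1_c0 LD2_c44 LD3_c32)) = (LP (LK LD1_c0 LD2_c19 LD3_c49)) :=
  Lre_e IH (LK LD1_c0 LD2_c44 LD3_c32) (LK LD1_c0 LD2_c19 LD3_c49) Lrfl Lrfl
theorem f24943 : Led Lsl_dt (LP (LK LD1_c0 LD2_c44 LD3_c32)) = (LP (LK LD1_c1 LD2_c36 LD3_c4)) :=
  Lre_d IH (LK LD1_c0 LD2_c44 LD3_c32) (LK LD1_c1 LD2_c36 LD3_c4) Lrfl Lrfl
theorem f24930 : Led Lsl_gt (LP (LK LD1_c1 LD2_c36 LD3_c4)) = (LP (LK LD1_c3 LD2_c19 LD3_c19)) :=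
  Lre_g IH (LK LD1_c1 LD2_c36 LD3_c4) (LK LD1_c3 LD2_c19 LD3_c19) Lrfl Lrfl
theorem f66572 : Led Lsl_dt (LP (LK LD1_c6 LD2_c42 LD3_c40)) = (LP (LK LD1_c3 LD2_c19 LD3_c19)) :=
  Lre_d IH (LK LD1_c6 LD2_c42 LD3_c40) (LK LD1_c3 LD2_c19 LD3_c19) Lrfl Lrfl
theorem f663521 : Led Lsl_ef (LP (LK LD1_c6 LD2_c12 LD3_c23)) = (LP (LK LD1_c6 LD2_c42 LD3_c40)) :=
  Lgr Lrot167 (Lpr_gt (f663520 IH) (Lpe (f662653 IH) (Lpr_gt (f148104 IH) (Lpe (f148095 IH) (Lpr_et (K5.f66571 IH) (Lpr_gt (K1.f66557 IH) (Lpe (f24859 IH) (Lpr_dt (f24943 IH) (Lpr_gt (f24930 IH) (Lpe (f66572 IH) (Lpn (LP (LK LD1_c6 LD2_c42 LD3_c40)))))))))))))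
theorem f663522 : Led Lsl_et (LP (LK LD1_c6 LD2_c42 LD3_c40)) = (LP (LK LD1_c6 LD2_c12 LD3_c23)) :=
  Leop (Lpr_ef (f663521 IH) (Lpn (LP (LK LD1_c6 LD2_c42 LD3_c40))))
theorem seed_473 : LEOK LG_e (LK LD1_c6 LD2_c42 LD3_c40) :=
  Leoe_e (LK LD1_c6 LD2_c42 LD3_c40) (f663522 IH)
def v5875 : LQ := Led Lsl_ft (LP (LK LD1_c3 LD2_c14 LD3_c23))
theorem f649915 : Led Lsl_ft (LP (LK LD1_c3 LD2_c14 LD3_c23)) = v5875 :=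
  Lrfl
theorem f503740 : Led Lsl_gt (LP (LK LD1_c6 LD2_c12 LD3_c27)) = (LP (LK LD1_c12 LD2_c4 LD3_c14)) :=
  Lre_g IH (LK LD1_c6 LD2_c12 LD3_c27) (LK LD1_c12 LD2_c4 LD3_c14) Lrfl Lrfl
theorem f663580 : Led Lsl_at v5875 = (LP (LK LD1_c12 LD2_c4 LD3_c14)) :=
  Lgr Lrot26 (Lpe (f649915 IH) (Lpr_gt (f649905 IH) (Lpq (f662930 IH) (Lpr_gt (f503740 IH) (Lpn (LP (LK LD1_c12 LD2_c4 LD3_c14)))))))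
def v5873 : LQ := Led Lsl_at (LP (LK LD1_c3 LD2_c14 LD3_c23))
theorem f649907 : Led Lsl_at (LP (LK LD1_c3 LD2_c14 LD3_c23)) = v5873 :=
  Lrfl
theorem f649908 : Led Lsl_af (LP (LK LD1_c3 LD2_c14 LD3_c23)) = v5873 :=
  Lgr Lrot0 (Lpr_at (f649907 IH) (Lpn v5873))
theorem f663582 : Led Lsl_ff v5873 = (LP (LK LD1_c12 LD2_c4 LD3_c14)) :=
  Lgr Lrot30 (Lpe (f649908 IH) (Lpr_ft (f649915 IH) (Lpr_at (f663580 IH) (Lpn (LP (LK LD1_c12 LD2_c4 LD3_c14))))))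
def v2016 : LQ := Led Lsl_ft (LP (LK LD1_c1 LD2_c33 LD3_c40))
theorem f506904 : Led Lsl_ft (LP (LK LD1_c1 LD2_c33 LD3_c40)) = v2016 :=
  Lrfl
theorem f506905 : Led Lsl_af (LP (LK LD1_c1 LD2_c33 LD3_c41)) = v2016 :=
  Lgr Lrot45 (Lpr_ft (K46.f506900 IH) (Lpe (K46.f506897 IH) (Lpr_ft (f506904 IH) (Lpn v2016))))
theorem f649909 : Led Lsl_ef v2016 = v5873 :=
  Lgr Lrot20 (Lpe (f506905 IH) (Lpr_et (f438911 IH) (Lpr_at (f649907 IH) (Lpn v5873))))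
theorem f506907 : Led Lsl_ff (LP (LK LD1_c1 LD2_c33 LD3_c40)) = v2016 :=
  Lgr Lrot3 (Lpr_ft (f506904 IH) (Lpn v2016))
theorem f506899 : Led Lsl_et (LP (LK LD1_c1 LD2_c33 LD3_c40)) = (LP (LK LD1_c3 LD2_c14 LD3_c20)) :=
  Lre_e IH (LK LD1_c1 LD2_c33 LD3_c40) (LK LD1_c3 LD2_c14 LD3_c20) Lrfl Lrfl
theorem f506910 : Led Lsl_ft (LP (LK LD1_c3 LD2_c14 LD3_c20)) = (LP (LK LD1_c6 LD2_c32 LD3_c23)) :=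
  Lre_f IH (LK LD1_c3 LD2_c14 LD3_c20) (LK LD1_c6 LD2_c32 LD3_c23) Lrfl Lrfl
theorem f663583 : Led Lsl_et (LP (LK LD1_c6 LD2_c32 LD3_c23)) = (LP (LK LD1_c12 LD2_c4 LD3_c14)) :=
  Lgr Lrot69 (Lpe (f506910 IH) (Lpe (f506899 IH) (Lpr_ff (f506907 IH) (Lpr_ef (f649909 IH) (Lpr_ff (f663582 IH) (Lpn (LP (LK LD1_c12 LD2_c4 LD3_c14))))))))
theorem f663584 : Led Lsl_et (LP (LK LD1_c6 LD2_c32 LD3_c23)) = (LP (LK LD1_c12 LD2_c4 LD3_c14)) :=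
  Leop (Lpe (f663583 IH) (Lpn (LP (LK LD1_c6 LD2_c32 LD3_c23))))
theorem seed_474 : LEOK LG_e (LK LD1_c6 LD2_c32 LD3_c23) :=
  Leoe_e (LK LD1_c6 LD2_c32 LD3_c23) (f663584 IH)
def v5859 : LQ := Led Lsl_ft (LP (LK LD1_c3 LD2_c14 LD3_c17))
theorem f649845 : Led Lsl_ft (LP (LK LD1_c3 LD2_c14 LD3_c17)) = v5859 :=
  Lrfl
theorem f649847 : Led Lsl_ff (LP (LK LD1_c3 LD2_c14 LD3_c17)) = v5859 :=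
  Lgr Lrot3 (Lpr_ft (f649845 IH) (Lpn v5859))
theorem f649848 : Led Lsl_bt v2016 = v5859 :=
  Lgr Lrot35 (Lpe (f506904 IH) (Lpe (K46.f22734 IH) (Lpr_ff (f649847 IH) (Lpn v5859))))
theorem f649596 : Led Lsl_ff (LP (LK LD1_c3 LD2_c13 LD3_c51)) = v5823 :=
  Lgr Lrot3 (Lpr_ft (f649594 IH) (Lpn v5823))
def v5869 : LQ := Led Lsl_at (LP (LK LD1_c3 LD2_c14 LD3_c20))
theorem f649897 : Led Lsl_at (LP (LK LD1_c3 LD2_c14 LD3_c20)) = v5869 :=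
  Lrfl
theorem f649899 : Led Lsl_ef K46.v2015 = v5869 :=
  Lgr Lrot20 (Lpe (K46.f506897 IH) (Lpr_et (f506899 IH) (Lpr_at (f649897 IH) (Lpn v5869))))
theorem f148373 : Led Lsl_et (LP (LK LD1_c6 LD2_c31 LD3_c17)) = (LP (LK LD1_c3 LD2_c13 LD3_c50)) :=
  Lre_e IH (LK LD1_c6 LD2_c31 LD3_c17) (LK LD1_c3 LD2_c13 LD3_c50) Lrfl Lrfl
theorem f646840 : Led Lsl_gt (LP (LK LD1_c12 LD2_c4 LD3_c14)) = (LP (LK LD1_c6 LD2_c12 LD3_c19)) :=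
  Lre_g IH (LK LD1_c12 LD2_c4 LD3_c14) (LK LD1_c6 LD2_c12 LD3_c19) Lrfl Lrfl
theorem f84484 : Led Lsl_dt (LP (LK LD1_c1 LD2_c8 LD3_c12)) = (LP (LK LD1_c2 LD2_c22 LD3_c6)) :=
  Lre_d IH (LK LD1_c1 LD2_c8 LD3_c12) (LK LD1_c2 LD2_c22 LD3_c6) Lrfl Lrfl
theorem f84586 : Led Lsl_gt (LP (LK LD1_c2 LD2_c22 LD3_c6)) = (LP (LK LD1_c4 LD2_c48 LD3_c25)) :=
  Lre_g IH (LK LD1_c2 LD2_c22 LD3_c6) (LK LD1_c4 LD2_c48 LD3_c25) Lrfl Lrfl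
theorem f663588 : Led Lsl_dt (LP (LK LD1_c6 LD2_c32 LD3_c23)) = (LP (LK LD1_c4 LD2_c48 LD3_c25)) :=
  Lgr Lrot37 (Lpr_et (f663583 IH) (Lpr_gt (f646840 IH) (Lpq (f662918 IH) (Lpr_dt (f662917 IH) (Lpr_gt (f86744 IH) (Lpe (f107036 IH) (Lpr_et (K3.f107049 IH) (Lpe (K5.f129269 IH) (Lpe (K5.f84581 IH) (Lpr_dt (f84484 IH) (Lpr_gt (f84586 IH) (Lpn (LP (LK LD1_c4 LD2_c48 LD3_c25))))))))))))))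
theorem f437791 : Led Lsl_dt (LP (LK LD1_c6 LD2_c32 LD3_c22)) = (LP (LK LD1_c3 LD2_c14 LD3_c20)) :=
  Lre_d IH (LK LD1_c6 LD2_c32 LD3_c22) (LK LD1_c3 LD2_c14 LD3_c20) Lrfl Lrfl
theorem f663593 : Led Lsl_ff (LP (LK LD1_c6 LD2_c32 LD3_c22)) = (LP (LK LD1_c4 LD2_c48 LD3_c25)) :=
  Lgr Lrot19 (Lpr_dt (f437791 IH) (Lpr_ft (f506910 IH) (Lpr_dt (f663588 IH) (Lpn (LP (LK LD1_c4 LD2_c48 LD3_c25))))))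
theorem f663599 : Led Lsl_ft (LP (LK LD1_c6 LD2_c32 LD3_c22)) = (LP (LK LD1_c4 LD2_c48 LD3_c25)) :=
  Lgr Lrot48 (Lpr_ff (f663593 IH) (Lpn (LP (LK LD1_c4 LD2_c48 LD3_c25))))
theorem f437788 : Led Lsl_gt (LP (LK LD1_c4 LD2_c48 LD3_c15)) = (LP (LK LD1_c9 LD2_c29 LD3_c14)) :=
  Lre_g IH (LK LD1_c4 LD2_c48 LD3_c15) (LK LD1_c9 LD2_c29 LD3_c14) Lrfl Lrfl
theorem f663603 : Led Lsl_af (LP (LK LD1_c9 LD2_c29 LD3_c14)) = (LP (LK LD1_c4 LD2_c48 LD3_c25)) :=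
  Lgr Lrot31 (Lpe (f437788 IH) (Lpe (f144147 IH) (Lpr_ft (f663599 IH) (Lpn (LP (LK LD1_c4 LD2_c48 LD3_c25))))))
theorem f663607 : Led Lsl_at (LP (LK LD1_c9 LD2_c29 LD3_c14)) = (LP (LK LD1_c4 LD2_c48 LD3_c25)) :=
  Lgr Lrot100 (Lpr_af (f663603 IH) (Lpn (LP (LK LD1_c4 LD2_c48 LD3_c25))))
theorem f84585 : Led Lsl_gt (LP (LK LD1_c4 LD2_c48 LD3_c26)) = (LP (LK LD1_c2 LD2_c22 LD3_c6)) :=
  Lre_g IH (LK LD1_c4 LD2_c48 LD3_c26) (LK LD1_c2 LD2_c22 LD3_c6) Lrfl Lrfl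
theorem f663613 : Led Lsl_ff (LP (LK LD1_c9 LD2_c29 LD3_c14)) = (LP (LK LD1_c4 LD2_c48 LD3_c26)) :=
  Lgr Lrot52 (Lpr_at (f663607 IH) (Lpe (f84586 IH) (Lpe (f84585 IH) (Lpn (LP (LK LD1_c4 LD2_c48 LD3_c26))))))
theorem f663619 : Led Lsl_ft (LP (LK LD1_c9 LD2_c29 LD3_c14)) = (LP (LK LD1_c4 LD2_c48 LD3_c26)) :=
  Lgr Lrot48 (Lpr_ff (f663613 IH) (Lpn (LP (LK LD1_c4 LD2_c48 LD3_c26))))
theorem f663621 : Led Lsl_af (LP (LK LD1_c6 LD2_c32 LD3_c22)) = (LP (LK LD1_c4 LD2_c48 LD3_c26)) :=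
  Lgr Lrot45 (Lpr_ft (f663599 IH) (Lpe (f663603 IH) (Lpr_ft (f663619 IH) (Lpn (LP (LK LD1_c4 LD2_c48 LD3_c26))))))
theorem f148374 : Led Lsl_df (LP (LK LD1_c4 LD2_c48 LD3_c26)) = (LP (LK LD1_c6 LD2_c31 LD3_c17)) :=
  Lgr Lrot170 (Lpr_gt (f84585 IH) (Lpe (f84484 IH) (Lpr_et (K5.f84581 IH) (Lpe (K5.f124230 IH) (Lpr_dt (K4.f120811 IH) (Lpr_gt (K7.f148360 IH) (Lpe (K7.f148288 IH) (Lpr_et (f148371 IH) (Lpr_gt (K32.f148372 IH) (Lpe (f148373 IH) (Lpn (LP (LK LD1_c6 LD2_c31 LD3_c17)))))))))))))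
theorem f663632 : v5869 = (LP (LK LD1_c6 LD2_c31 LD3_c17)) :=
  (Llr Lrot51 (Lpe (f649897 IH) (Lpe (f437791 IH) (Lpr_af (f663621 IH) (Lpr_df (f148374 IH) (Lpn (LP (LK LD1_c6 LD2_c31 LD3_c17)))))))).symm
theorem f663635 : K46.v2015 = (LP (LK LD1_c3 LD2_c13 LD3_c50)) :=
  Lefun (Lecon (Lfl_ef (f649899 IH)) (f663632 IH)) (f148373 IH)
theorem f663636 : (LP (LK LD1_c1 LD2_c33 LD3_c40)) = v5823 :=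
  Lefun (Lecon (Lfl_af (K46.f506897 IH)) (f663635 IH)) (f649592 IH)
theorem f663651 : (LP (LK LD1_c3 LD2_c13 LD3_c51)) = v2016 :=
  Lefun (Lecon (Lfl_ff (f649596 IH)) (f663636 IH).symm) (f506904 IH)
theorem f663664 : v5859 = K46.v5826 :=
  Lefun (Lecon (f649848 IH) (f663651 IH).symm) (K46.f649604 IH)
theorem f648890 : Led Lsl_ct (LP (LK LD1_c6 LD2_c28 LD3_c13)) = (LP (LK LD1_c3 LD2_c14 LD3_c17)) :=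
  Lgr Lrot59 (Lpr_cf (K46.f648884 IH) (Lpn (LP (LK LD1_c3 LD2_c14 LD3_c17))))
def v5720 : LQ := Led Lsl_at (LP (LK LD1_c3 LD2_c12 LD3_c30))
theorem f649036 : Led Lsl_at (LP (LK LD1_c3 LD2_c12 LD3_c30)) = v5720 :=
  Lrfl
theorem f649037 : Led Lsl_af (LP (LK LD1_c3 LD2_c12 LD3_c30)) = v5720 :=
  Lgr Lrot0 (Lpr_at (f649036 IH) (Lpn v5720))
theorem f83085 : Led Lsl_gt (LP (LK LD1_c1 LD2_c32 LD3_c43)) = (LP (LK LD1_c3 LD2_c12 LD3_c30)) :=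
  Lre_g IH (LK LD1_c1 LD2_c32 LD3_c43) (LK LD1_c3 LD2_c12 LD3_c30) Lrfl Lrfl
theorem f649042 : Led Lsl_ft K46.v1973 = v5720 :=
  Lgr Lrot2 (Lpe (K46.f506694 IH) (Lpr_gt (f83085 IH) (Lpr_af (f649037 IH) (Lpn v5720))))
theorem f663847 : (LP (LK LD1_c6 LD2_c28 LD3_c13)) = v5720 :=
  (Llr Lrot108 (Lpr_ct (f648890 IH) (Lpr_ft (f649845 IH) (Lpqs (f663664 IH) (Lpe (K46.f649606 IH) (Lpr_ft (f649042 IH) (Lpn v5720))))))).symm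
theorem f663848 : Led Lsl_at (LP (LK LD1_c6 LD2_c28 LD3_c13)) = (LP (LK LD1_c3 LD2_c12 LD3_c30)) :=
  Leop (Lpr_af (f649037 IH) (Lpq (f663847 IH) (Lpn (LP (LK LD1_c6 LD2_c28 LD3_c13)))))
theorem seed_475 : LEOK LG_a (LK LD1_c6 LD2_c28 LD3_c13) :=
  Leoe_a (LK LD1_c6 LD2_c28 LD3_c13) (f663848 IH)
def v7291 : LQ := Led Lsl_dt (LP (LK LD1_c3 LD2_c44 LD3_c22))
theorem f664160 : Led Lsl_dt (LP (LK LD1_c3 LD2_c44 LD3_c22)) = v7291 :=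
  Lrfl
def v7225 : LQ := Led Lsl_gt (LP (LK LD1_c3 LD2_c42 LD3_c58))
theorem f662519 : Led Lsl_gt (LP (LK LD1_c3 LD2_c42 LD3_c58)) = v7225 :=
  Lrfl
def v2580 : LQ := Led Lsl_ft (LP (LK LD1_c1 LD2_c49 LD3_c12))
theorem f527597 : Led Lsl_ft (LP (LK LD1_c1 LD2_c49 LD3_c12)) = v2580 :=
  Lrfl
theorem f527600 : Led Lsl_ff (LP (LK LD1_c1 LD2_c49 LD3_c12)) = v2580 :=
  Lgr Lrot3 (Lpr_ft (f527597 IH) (Lpn v2580))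
theorem f662540 : Led Lsl_af v2580 = v7228 :=
  Lgr Lrot45 (Lpe (f527600 IH) (Lpr_at (K7.f13066 IH) (Lpr_ft (f662539 IH) (Lpn v7228))))
theorem f662543 : Led Lsl_gt v7225 = v2580 :=
  Lgr Lrot46 (Lpe (f662519 IH) (Lpr_ft (f662539 IH) (Lpe (f662540 IH) (Lpn v2580))))
def v7226 : LQ := Led Lsl_gf (LP (LK LD1_c3 LD2_c42 LD3_c58))
theorem f662521 : Led Lsl_gf (LP (LK LD1_c3 LD2_c42 LD3_c58)) = v7226 :=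
  Lrfl
theorem f662522 : Led Lsl_gt v2580 = v7226 :=
  Lgr Lrot5 (Lpe (f527600 IH) (Lpr_at (K7.f13066 IH) (Lpr_gf (f662521 IH) (Lpn v7226))))
theorem f147753 : Led Lsl_dt (LP (LK LD1_c1 LD2_c48 LD3_c30)) = (LP (LK LD1_c3 LD2_c42 LD3_c58)) :=
  Lre_d IH (LK LD1_c1 LD2_c48 LD3_c30) (LK LD1_c3 LD2_c42 LD3_c58) Lrfl Lrfl
theorem f147752 : Led Lsl_et (LP (LK LD1_c1 LD2_c48 LD3_c30)) = (LP (LK LD1_c0 LD2_c50 LD3_c61)) :=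
  Lre_e IH (LK LD1_c1 LD2_c48 LD3_c30) (LK LD1_c0 LD2_c50 LD3_c61) Lrfl Lrfl
def v2730 : LQ := Led Lsl_et (LP (LK LD1_c1 LD2_c54 LD3_c11))
theorem f531644 : Led Lsl_et (LP (LK LD1_c1 LD2_c54 LD3_c11)) = v2730 :=
  Lrfl
theorem f531645 : Led Lsl_ef (LP (LK LD1_c1 LD2_c54 LD3_c11)) = v2730 :=
  Lgr Lrot88 (Lpr_et (f531644 IH) (Lpn v2730))
theorem f662524 : Led Lsl_dt v2730 = v7226 :=
  Lgr Lrot136 (Lpe (f531645 IH) (Lpe (K29.f123417 IH) (Lpe (K6.f122754 IH) (Lpr_dt (K6.f11654 IH) (Lpr_gf (K42.f144376 IH) (Lpe (K7.f124022 IH) (Lpe (K7.f147731 IH) (Lpe (f147752 IH) (Lpr_dt (f147753 IH) (Lpr_gf (f662521 IH) (Lpn v7226)))))))))))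
theorem f662526 : Led Lsl_df v2730 = v7226 :=
  Lgr Lrot38 (Lpr_dt (f662524 IH) (Lpn v7226))
def v7028 : LQ := Led Lsl_et (LP (LK LD1_c3 LD2_c37 LD3_c17))
theorem f660423 : Led Lsl_et (LP (LK LD1_c3 LD2_c37 LD3_c17)) = v7028 :=
  Lrfl
theorem f660426 : Led Lsl_ef (LP (LK LD1_c3 LD2_c37 LD3_c17)) = v7028 :=
  Lgr Lrot88 (Lpr_et (f660423 IH) (Lpn v7028))
theorem f660427 : Led Lsl_at v2730 = v7028 :=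
  Lgr Lrot80 (Lpe (f531644 IH) (Lpe (K33.f520038 IH) (Lpr_ef (f660426 IH) (Lpn v7028))))
theorem f143196 : Led Lsl_gt (LP (LK LD1_c1 LD2_c49 LD3_c1)) = (LP (LK LD1_c1 LD2_c53 LD3_c61)) :=
  Lgr Lrot49 (Lpe (K7.f124014 IH) (Lpe (K4.f11313 IH) (Lpe (K4.f11304 IH) (Lpr_gt (K3.f12761 IH) (Lpe (K5.f131652 IH) (Lpr_gt (K6.f143188 IH) (Lpe (K5.f84898 IH) (Lpe (K28.f84909 IH) (Lpe (K7.f84908 IH) (Lpn (LP (LK LD1_c1 LD2_c53 LD3_c61))))))))))))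
theorem f12871 : Led Lsl_dt (LP (LK LD1_c0 LD2_c51 LD3_c21)) = (LP (LK LD1_c1 LD2_c49 LD3_c12)) :=
  Lre_d IH (LK LD1_c0 LD2_c51 LD3_c21) (LK LD1_c1 LD2_c49 LD3_c12) Lrfl Lrfl
theorem f660429 : Led Lsl_df (LP (LK LD1_c3 LD2_c44 LD3_c23)) = v7028 :=
  Lgr Lrot170 (Lpr_gt (f13082 IH) (Lpe (f12871 IH) (Lpr_et (K4.f12874 IH) (Lpr_gt (K4.f11313 IH) (Lpr_dt (K7.f124014 IH) (Lpr_gt (f143196 IH) (Lpe (K5.f84906 IH) (Lpr_et (K33.f134756 IH) (Lpe (K33.f456232 IH) (Lpr_ef (f660426 IH) (Lpn v7028)))))))))))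
theorem f662527 : Led Lsl_at (LP (LK LD1_c3 LD2_c44 LD3_c23)) = v7226 :=
  Lgr Lrot51 (Lpr_df (f660429 IH) (Lpe (f660427 IH) (Lpr_df (f662526 IH) (Lpn v7226))))
theorem f662544 : Led Lsl_ft v7225 = (LP (LK LD1_c3 LD2_c44 LD3_c23)) :=
  Lgr Lrot2 (Lpr_gt (f662543 IH) (Lpr_gt (f662522 IH) (Lpe (f662527 IH) (Lpn (LP (LK LD1_c3 LD2_c44 LD3_c23))))))
theorem f662546 : Led Lsl_ff v7225 = (LP (LK LD1_c3 LD2_c44 LD3_c23)) :=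
  Lgr Lrot3 (Lpr_ft (f662544 IH) (Lpn (LP (LK LD1_c3 LD2_c44 LD3_c23))))
theorem f13077 : Led Lsl_gt (LP (LK LD1_c1 LD2_c49 LD3_c12)) = (LP (LK LD1_c3 LD2_c44 LD3_c22)) :=
  Lre_g IH (LK LD1_c1 LD2_c49 LD3_c12) (LK LD1_c3 LD2_c44 LD3_c22) Lrfl Lrfl
theorem f662548 : Led Lsl_at v7225 = (LP (LK LD1_c3 LD2_c44 LD3_c22)) :=
  Lgr Lrot26 (Lpr_ff (f662546 IH) (Lpr_gt (f13082 IH) (Lpr_gt (f13077 IH) (Lpn (LP (LK LD1_c3 LD2_c44 LD3_c22))))))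
theorem f519805 : Led Lsl_af (LP (LK LD1_c3 LD2_c54 LD3_c51)) = (LP (LK LD1_c1 LD2_c54 LD3_c12)) :=
  Lgr Lrot0 (Lpr_at (K33.f519803 IH) (Lpn (LP (LK LD1_c1 LD2_c54 LD3_c12))))
theorem f519801 : Led Lsl_ft (LP (LK LD1_c3 LD2_c54 LD3_c51)) = (LP (LK LD1_c1 LD2_c54 LD3_c11)) :=
  Lgr Lrot48 (Lpr_ff (K33.f519795 IH) (Lpn (LP (LK LD1_c1 LD2_c54 LD3_c11))))
theorem f520018 : Led Lsl_af (LP (LK LD1_c3 LD2_c37 LD3_c17)) = (LP (LK LD1_c1 LD2_c54 LD3_c11)) :=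
  Lgr Lrot45 (Lpr_ft (K33.f520011 IH) (Lpe (f519805 IH) (Lpr_ft (f519801 IH) (Lpn (LP (LK LD1_c1 LD2_c54 LD3_c11))))))
theorem f660424 : Led Lsl_af v2730 = v7028 :=
  Lgr Lrot50 (Lpe (f531645 IH) (Lpe (f520018 IH) (Lpr_et (f660423 IH) (Lpn v7028))))
theorem f660432 : Led Lsl_dt (LP (LK LD1_c3 LD2_c44 LD3_c23)) = v7028 :=
  Lgr Lrot42 (Lpr_df (f660429 IH) (Lpn v7028))
theorem f662525 : Led Lsl_af (LP (LK LD1_c3 LD2_c44 LD3_c23)) = v7226 :=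
  Lgr Lrot117 (Lpr_dt (f660432 IH) (Lpe (f660424 IH) (Lpr_dt (f662524 IH) (Lpn v7226))))
theorem f662553 : Led Lsl_ff v7226 = (LP (LK LD1_c3 LD2_c44 LD3_c22)) :=
  Lgr Lrot30 (Lpe (f662525 IH) (Lpe (f662546 IH) (Lpr_at (f662548 IH) (Lpn (LP (LK LD1_c3 LD2_c44 LD3_c22))))))
theorem f662556 : Led Lsl_ft v7226 = (LP (LK LD1_c3 LD2_c44 LD3_c22)) :=
  Lgr Lrot48 (Lpr_ff (f662553 IH) (Lpn (LP (LK LD1_c3 LD2_c44 LD3_c22))))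
theorem f664162 : Led Lsl_ff v2730 = v7291 :=
  Lgr Lrot19 (Lpr_dt (f662524 IH) (Lpr_ft (f662556 IH) (Lpr_dt (f664160 IH) (Lpn v7291))))
theorem f664169 : Led Lsl_ft v2730 = v7291 :=
  Lgr Lrot48 (Lpr_ff (f664162 IH) (Lpn v7291))
theorem f520370 : Led Lsl_ff (LP (LK LD1_c3 LD2_c56 LD3_c21)) = (LP (LK LD1_c3 LD2_c56 LD3_c25)) :=
  Lgr Lrot19 (Lpr_dt (K33.f480166 IH) (Lpr_ft (K33.f520364 IH) (Lpe (K33.f479856 IH) (Lpn (LP (LK LD1_c3 LD2_c56 LD3_c25))))))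
theorem f664170 : Led Lsl_ef (LP (LK LD1_c3 LD2_c56 LD3_c25)) = v7291 :=
  Lgr Lrot21 (Lpe (f520370 IH) (Lpr_et (K33.f480175 IH) (Lpr_ft (f519801 IH) (Lpr_et (f531644 IH) (Lpr_ft (f664169 IH) (Lpn v7291))))))
theorem f479854 : Led Lsl_dt (LP (LK LD1_c3 LD2_c56 LD3_c25)) = (LP (LK LD1_c7 LD2_c4 LD3_c60)) :=
  Lgr Lrot6 (Lpe (K32.f451956 IH) (Lpr_ct (K28.f11366 IH) (Lpr_gt (K32.f479835 IH) (Lpr_ct (K32.f463662 IH) (Lpe (K32.f463658 IH) (Lpr_cf (K33.f469532 IH) (Lpr_gf (K33.f459049 IH) (Lpe (K28.f458914 IH) (Lpe (K33.f458895 IH) (Lpn (LP (LK LD1_c7 LD2_c4 LD3_c60))))))))))))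
theorem f479994 : Led Lsl_et (LP (LK LD1_c7 LD2_c4 LD3_c60)) = (LP (LK LD1_c13 LD2_c25 LD3_c39)) :=
  Lre_e IH (LK LD1_c7 LD2_c4 LD3_c60) (LK LD1_c13 LD2_c25 LD3_c39) Lrfl Lrfl
theorem f662554 : Led Lsl_et (LP (LK LD1_c7 LD2_c29 LD3_c46)) = (LP (LK LD1_c3 LD2_c44 LD3_c22)) :=
  Lre_e IH (LK LD1_c7 LD2_c29 LD3_c46) (LK LD1_c3 LD2_c44 LD3_c22) Lrfl Lrfl
theorem f664171 : Led Lsl_dt (LP (LK LD1_c13 LD2_c25 LD3_c39)) = (LP (LK LD1_c7 LD2_c29 LD3_c46)) :=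
  Lgr Lrot77 (Lpe (f479994 IH) (Lpe (f479854 IH) (Lpr_ef (f664170 IH) (Lpe (f664160 IH) (Lpe (f662554 IH) (Lpn (LP (LK LD1_c7 LD2_c29 LD3_c46))))))))
theorem f664172 : Led Lsl_dt (LP (LK LD1_c13 LD2_c25 LD3_c39)) = (LP (LK LD1_c7 LD2_c29 LD3_c46)) :=
  Leop (Lpe (f664171 IH) (Lpn (LP (LK LD1_c13 LD2_c25 LD3_c39))))
theorem seed_476 : LEOK LG_d (LK LD1_c13 LD2_c25 LD3_c39) :=
  Leoe_d (LK LD1_c13 LD2_c25 LD3_c39) (f664172 IH)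
def v7294 : LQ := Led Lsl_gf (LP (LK LD1_c3 LD2_c44 LD3_c25))
theorem f664216 : Led Lsl_gf (LP (LK LD1_c3 LD2_c44 LD3_c25)) = v7294 :=
  Lrfl
theorem f528046 : Led Lsl_at (LP (LK LD1_c3 LD2_c46 LD3_c26)) = (LP (LK LD1_c3 LD2_c44 LD3_c25)) :=
  Lgr Lrot100 (Lpr_af (K35.f528044 IH) (Lpn (LP (LK LD1_c3 LD2_c44 LD3_c25))))
theorem f522691 : Led Lsl_bt (LP (LK LD1_c3 LD2_c44 LD3_c25)) = (LP (LK LD1_c1 LD2_c49 LD3_c15)) :=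
  Lre_b IH (LK LD1_c3 LD2_c44 LD3_c25) (LK LD1_c1 LD2_c49 LD3_c15) Lrfl Lrfl
theorem f480430 : Led Lsl_bt (LP (LK LD1_c3 LD2_c31 LD3_c48)) = (LP (LK LD1_c7 LD2_c5 LD3_c10)) :=
  Lre_b IH (LK LD1_c3 LD2_c31 LD3_c48) (LK LD1_c7 LD2_c5 LD3_c10) Lrfl Lrfl
theorem f527658 : Led Lsl_ff (LP (LK LD1_c3 LD2_c44 LD3_c25)) = (LP (LK LD1_c7 LD2_c5 LD3_c10)) :=
  Lgr Lrot25 (Lpr_bt (f522691 IH) (Lpr_ft (K34.f527637 IH) (Lpq (K34.f527655 IH) (Lpr_bt (f480430 IH) (Lpn (LP (LK LD1_c7 LD2_c5 LD3_c10)))))))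
theorem f527677 : Led Lsl_ft (LP (LK LD1_c3 LD2_c44 LD3_c25)) = (LP (LK LD1_c7 LD2_c5 LD3_c10)) :=
  Lgr Lrot48 (Lpr_ff (f527658 IH) (Lpn (LP (LK LD1_c7 LD2_c5 LD3_c10))))
theorem f528139 : Led Lsl_at (LP (LK LD1_c7 LD2_c5 LD3_c10)) = (LP (LK LD1_c7 LD2_c3 LD3_c45)) :=
  Lgr Lrot66 (Lpe (f527677 IH) (Lpe (f528046 IH) (Lpr_ff (K35.f528135 IH) (Lpn (LP (LK LD1_c7 LD2_c3 LD3_c45))))))
theorem f529721 : Led Lsl_gt (LP (LK LD1_c3 LD2_c44 LD3_c25)) = (LP (LK LD1_c3 LD2_c30 LD3_c54)) :=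
  Lgr Lrot5 (Lpr_ft (f527677 IH) (Lpr_at (f528139 IH) (Lpe (K34.f62743 IH) (Lpn (LP (LK LD1_c3 LD2_c30 LD3_c54))))))
theorem f486588 : Led Lsl_at (LP (LK LD1_c7 LD2_c3 LD3_c38)) = (LP (LK LD1_c3 LD2_c30 LD3_c54)) :=
  Lre_a IH (LK LD1_c7 LD2_c3 LD3_c38) (LK LD1_c3 LD2_c30 LD3_c54) Lrfl Lrfl
theorem f664218 : Led Lsl_ff (LP (LK LD1_c7 LD2_c3 LD3_c38)) = v7294 :=
  Lgr Lrot52 (Lpr_at (f486588 IH) (Lpe (f529721 IH) (Lpr_gf (f664216 IH) (Lpn v7294))))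
def v6997 : LQ := Led Lsl_et (LP (LK LD1_c3 LD2_c35 LD3_c49))
theorem f660071 : Led Lsl_et (LP (LK LD1_c3 LD2_c35 LD3_c49)) = v6997 :=
  Lrfl
theorem f660074 : Led Lsl_ef (LP (LK LD1_c3 LD2_c35 LD3_c49)) = v6997 :=
  Lgr Lrot88 (Lpr_et (f660071 IH) (Lpn v6997))
theorem f488234 : Led Lsl_et (LP (LK LD1_c3 LD2_c30 LD3_c51)) = (LP (LK LD1_c7 LD2_c3 LD3_c38)) :=
  Lre_e IH (LK LD1_c3 LD2_c30 LD3_c51) (LK LD1_c7 LD2_c3 LD3_c38) Lrfl Lrfl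
theorem f660079 : Led Lsl_ct (LP (LK LD1_c7 LD2_c3 LD3_c38)) = v6997 :=
  Lgr Lrot15 (Lpe (f488234 IH) (Lpe (K33.f513161 IH) (Lpr_ef (f660074 IH) (Lpn v6997))))
theorem f513167 : Led Lsl_ff (LP (LK LD1_c3 LD2_c35 LD3_c49)) = (LP (LK LD1_c3 LD2_c32 LD3_c40)) :=
  Lgr Lrot23 (Lpr_ct (K33.f513161 IH) (Lpe (K33.f488235 IH) (Lpr_ct (K33.f468871 IH) (Lpn (LP (LK LD1_c3 LD2_c32 LD3_c40))))))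
theorem f514781 : Led Lsl_gt (LP (LK LD1_c7 LD2_c19 LD3_c48)) = (LP (LK LD1_c3 LD2_c39 LD3_c47)) :=
  Lre_g IH (LK LD1_c7 LD2_c19 LD3_c48) (LK LD1_c3 LD2_c39 LD3_c47) Lrfl Lrfl
theorem f514842 : Led Lsl_ef (LP (LK LD1_c7 LD2_c19 LD3_c48)) = (LP (LK LD1_c7 LD2_c18 LD3_c27)) :=
  Lgr Lrot167 (Lpr_gt (f514781 IH) (Lpr_dt (K34.f514784 IH) (Lpr_gt (K34.f514789 IH) (Lpe (K34.f88617 IH) (Lpr_et (K29.f88489 IH) (Lpr_gt (K3.f96765 IH) (Lpe (K8.f96773 IH) (Lpr_dt (K28.f96774 IH) (Lpr_gt (K41.f96775 IH) (Lpe (K41.f483075 IH) (Lpn (LP (LK LD1_c7 LD2_c18 LD3_c27)))))))))))))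
theorem f514855 : Led Lsl_et (LP (LK LD1_c7 LD2_c19 LD3_c48)) = (LP (LK LD1_c7 LD2_c18 LD3_c27)) :=
  Lgr Lrot87 (Lpr_ef (f514842 IH) (Lpn (LP (LK LD1_c7 LD2_c18 LD3_c27))))
theorem f660075 : Led Lsl_ff (LP (LK LD1_c7 LD2_c19 LD3_c48)) = v6997 :=
  Lgr Lrot72 (Lpr_et (f514855 IH) (Lpe (K41.f513588 IH) (Lpr_et (K8.f11551 IH) (Lpe (f513167 IH) (Lpr_et (f660071 IH) (Lpn v6997))))))
theorem f664220 : Led Lsl_ct (LP (LK LD1_c7 LD2_c19 LD3_c48)) = v7294 :=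
  Lgr Lrot40 (Lpr_ff (f660075 IH) (Lpe (f660079 IH) (Lpr_ff (f664218 IH) (Lpn v7294))))
theorem f514852 : Led Lsl_bt (LP (LK LD1_c7 LD2_c19 LD3_c48)) = (LP (LK LD1_c13 LD2_c51 LD3_c60)) :=
  Lre_b IH (LK LD1_c7 LD2_c19 LD3_c48) (LK LD1_c13 LD2_c51 LD3_c60) Lrfl Lrfl
theorem f514809 : Led Lsl_bt (LP (LK LD1_c13 LD2_c51 LD3_c60)) = (LP (LK LD1_c7 LD2_c19 LD3_c48)) :=
  Lre_b IH (LK LD1_c13 LD2_c51 LD3_c60) (LK LD1_c7 LD2_c19 LD3_c48) Lrfl Lrfl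
theorem f483081 : Led Lsl_bt (LP (LK LD1_c7 LD2_c18 LD3_c27)) = (LP (LK LD1_c13 LD2_c49 LD3_c41)) :=
  Lre_b IH (LK LD1_c7 LD2_c18 LD3_c27) (LK LD1_c13 LD2_c49 LD3_c41) Lrfl Lrfl
theorem f514858 : Led Lsl_ef (LP (LK LD1_c13 LD2_c51 LD3_c60)) = (LP (LK LD1_c13 LD2_c49 LD3_c41)) :=
  Lgr Lrot29 (Lpr_bt (f514809 IH) (Lpr_et (f514855 IH) (Lpr_bt (f483081 IH) (Lpn (LP (LK LD1_c13 LD2_c49 LD3_c41))))))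
theorem f599301 : Led Lsl_gt (LP (LK LD1_c13 LD2_c51 LD3_c60)) = (LP (LK LD1_c13 LD2_c44 LD3_c12)) :=
  Lgr Lrot137 (Lpr_ef (f514858 IH) (Lpr_dt (K41.f553043 IH) (Lpe (K41.f172798 IH) (Lpe (K41.f552855 IH) (Lpr_et (K42.f127859 IH) (Lpr_gf (K6.f127864 IH) (Lpe (K47.f96564 IH) (Lpr_dt (K47.f599224 IH) (Lpe (K47.f599226 IH) (Lpe (K47.f599299 IH) (Lpn (LP (LK LD1_c13 LD2_c44 LD3_c12)))))))))))))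
theorem f88120 : Led Lsl_gt (LP (LK LD1_c7 LD2_c33 LD3_c10)) = (LP (LK LD1_c14 LD2_c14 LD3_c41)) :=
  Lre_g IH (LK LD1_c7 LD2_c33 LD3_c10) (LK LD1_c14 LD2_c14 LD3_c41) Lrfl Lrfl
theorem f664217 : Led Lsl_gt (LP (LK LD1_c7 LD2_c3 LD3_c45)) = v7294 :=
  Lgr Lrot5 (Lpe (K35.f528135 IH) (Lpr_at (f528046 IH) (Lpr_gf (f664216 IH) (Lpn v7294))))
theorem f479495 : Led Lsl_bt (LP (LK LD1_c7 LD2_c8 LD3_c57)) = (LP (LK LD1_c13 LD2_c32 LD3_c19)) :=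
  Lre_b IH (LK LD1_c7 LD2_c8 LD3_c57) (LK LD1_c13 LD2_c32 LD3_c19) Lrfl Lrfl
theorem f575390 : Led Lsl_bt (LP (LK LD1_c23 LD2_c14 LD3_c44)) = (LP (LK LD1_c13 LD2_c47 LD3_c12)) :=
  Lre_b IH (LK LD1_c23 LD2_c14 LD3_c44) (LK LD1_c13 LD2_c47 LD3_c12) Lrfl Lrfl
theorem f664224 : Led Lsl_cf (LP (LK LD1_c14 LD2_c14 LD3_c41)) = (LP (LK LD1_c23 LD2_c14 LD3_c44)) :=
  Lgr Lrot163 (Lpe (f88120 IH) (Lpe (K35.f483270 IH) (Lpe (f599301 IH) (Lpe (f514852 IH) (Lpr_ct (f664220 IH) (Lpe (f664217 IH) (Lpe (K47.f488265 IH) (Lpr_bt (f479495 IH) (Lpr_gf (K47.f628269 IH) (Lpe (f575390 IH) (Lpn (LP (LK LD1_c23 LD2_c14 LD3_c44)))))))))))))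
theorem f664225 : Led Lsl_ct (LP (LK LD1_c23 LD2_c14 LD3_c44)) = (LP (LK LD1_c14 LD2_c14 LD3_c41)) :=
  Leop (Lpr_cf (f664224 IH) (Lpn (LP (LK LD1_c23 LD2_c14 LD3_c44))))
theorem seed_477 : LEOK LG_c (LK LD1_c23 LD2_c14 LD3_c44) :=
  Leoe_c (LK LD1_c23 LD2_c14 LD3_c44) (f664225 IH)
def v7296 : LQ := Led Lsl_at (LP (LK LD1_c3 LD2_c44 LD3_c28))
theorem f664259 : Led Lsl_at (LP (LK LD1_c3 LD2_c44 LD3_c28)) = v7296 :=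
  Lrfl
def v2585 : LQ := Led Lsl_at (LP (LK LD1_c1 LD2_c49 LD3_c14))
theorem f527615 : Led Lsl_at (LP (LK LD1_c1 LD2_c49 LD3_c14)) = v2585 :=
  Lrfl
theorem f527616 : Led Lsl_af (LP (LK LD1_c1 LD2_c49 LD3_c14)) = v2585 :=
  Lgr Lrot0 (Lpr_at (f527615 IH) (Lpn v2585))
theorem f664262 : Led Lsl_df v2585 = v7296 :=
  Lgr Lrot18 (Lpe (f527616 IH) (Lpr_dt (f459518 IH) (Lpr_at (f664259 IH) (Lpn v7296))))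
theorem f527618 : Led Lsl_cf K34.v810 = v2585 :=
  Lgr Lrot1 (Lpe (K34.f459507 IH) (Lpr_ct (K33.f12861 IH) (Lpr_at (f527615 IH) (Lpn v2585))))
theorem f459513 : Led Lsl_ff (LP (LK LD1_c0 LD2_c51 LD3_c23)) = K34.v810 :=
  Lgr Lrot3 (Lpr_ft (K34.f459510 IH) (Lpn K34.v810))
theorem f527620 : Led Lsl_ft (LP (LK LD1_c1 LD2_c49 LD3_c17)) = v2585 :=
  Lgr Lrot4 (Lpe (K34.f451028 IH) (Lpr_ff (f459513 IH) (Lpr_cf (f527618 IH) (Lpn v2585))))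
theorem f527621 : Led Lsl_ff (LP (LK LD1_c1 LD2_c49 LD3_c17)) = v2585 :=
  Lgr Lrot3 (Lpr_ft (f527620 IH) (Lpn v2585))
theorem f664264 : Led Lsl_ft (LP (LK LD1_c3 LD2_c44 LD3_c32)) = v7296 :=
  Lgr Lrot54 (Lpe (f459445 IH) (Lpr_ff (f527621 IH) (Lpr_df (f664262 IH) (Lpn v7296))))
theorem f664260 : Led Lsl_af (LP (LK LD1_c3 LD2_c44 LD3_c28)) = v7296 :=
  Lgr Lrot0 (Lpr_at (f664259 IH) (Lpn v7296))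
theorem f459520 : Led Lsl_gt (LP (LK LD1_c7 LD2_c29 LD3_c60)) = (LP (LK LD1_c3 LD2_c44 LD3_c28)) :=
  Lre_g IH (LK LD1_c7 LD2_c29 LD3_c60) (LK LD1_c3 LD2_c44 LD3_c28) Lrfl Lrfl
theorem f664267 : Led Lsl_gt (LP (LK LD1_c3 LD2_c44 LD3_c32)) = (LP (LK LD1_c7 LD2_c29 LD3_c60)) :=
  Lgr Lrot5 (Lpr_ft (f664264 IH) (Lpe (f664260 IH) (Lpe (f459520 IH) (Lpn (LP (LK LD1_c7 LD2_c29 LD3_c60))))))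
theorem f664268 : Led Lsl_gt (LP (LK LD1_c3 LD2_c44 LD3_c32)) = (LP (LK LD1_c7 LD2_c29 LD3_c60)) :=
  Leop (Lpe (f664267 IH) (Lpn (LP (LK LD1_c3 LD2_c44 LD3_c32))))
theorem seed_478 : LEOK LG_g (LK LD1_c3 LD2_c44 LD3_c32) :=
  Leoe_g (LK LD1_c3 LD2_c44 LD3_c32) (f664268 IH)
def v7300 : LQ := Led Lsl_et (LP (LK LD1_c3 LD2_c44 LD3_c37))
theorem f664298 : Led Lsl_et (LP (LK LD1_c3 LD2_c44 LD3_c37)) = v7300 :=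
  Lrfl
theorem f664302 : Led Lsl_ef (LP (LK LD1_c3 LD2_c44 LD3_c37)) = v7300 :=
  Lgr Lrot88 (Lpr_et (f664298 IH) (Lpn v7300))
theorem f664304 : Led Lsl_ct (LP (LK LD1_c3 LD2_c55 LD3_c54)) = v7300 :=
  Lgr Lrot15 (Lpe (K34.f457734 IH) (Lpe (K28.f457726 IH) (Lpr_ef (f664302 IH) (Lpn v7300))))
theorem f531763 : Led Lsl_bt (LP (LK LD1_c3 LD2_c55 LD3_c54)) = (LP (LK LD1_c1 LD2_c54 LD3_c38)) :=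
  Lre_b IH (LK LD1_c3 LD2_c55 LD3_c54) (LK LD1_c1 LD2_c54 LD3_c38) Lrfl Lrfl
theorem f519472 : Led Lsl_bt K29.v687 = K33.v2395 :=
  Lgr Lrot35 (Lpe (K29.f456771 IH) (Lpe (K34.f456052 IH) (Lpr_ff (K33.f519471 IH) (Lpn K33.v2395))))
theorem f467709 : Led Lsl_ct (LP (LK LD1_c1 LD2_c51 LD3_c32)) = (LP (LK LD1_c3 LD2_c48 LD3_c61)) :=
  Lre_c IH (LK LD1_c1 LD2_c51 LD3_c32) (LK LD1_c3 LD2_c48 LD3_c61) Lrfl Lrfl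
theorem f664306 : Led Lsl_gf (LP (LK LD1_c3 LD2_c48 LD3_c61)) = v7300 :=
  Lgr Lrot126 (Lpe (f467709 IH) (Lpe (K29.f467701 IH) (Lpr_gt (K24.f457685 IH) (Lpe (K24.f451322 IH) (Lpr_gt (K11.f451306 IH) (Lpe (K47.f479088 IH) (Lpr_bt (f519472 IH) (Lpqs (K34.f531775 IH) (Lpe (K34.f531766 IH) (Lpe (f531763 IH) (Lpr_ct (f664304 IH) (Lpn v7300))))))))))))
theorem f467708 : Led Lsl_dt (LP (LK LD1_c7 LD2_c39 LD3_c8)) = (LP (LK LD1_c3 LD2_c48 LD3_c61)) :=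
  Lre_d IH (LK LD1_c7 LD2_c39 LD3_c8) (LK LD1_c3 LD2_c48 LD3_c61) Lrfl Lrfl
theorem f467851 : Led Lsl_et (LP (LK LD1_c7 LD2_c39 LD3_c8)) = (LP (LK LD1_c14 LD2_c25 LD3_c28)) :=
  Lre_e IH (LK LD1_c7 LD2_c39 LD3_c8) (LK LD1_c14 LD2_c25 LD3_c28) Lrfl Lrfl
theorem f467877 : Led Lsl_gt (LP (LK LD1_c14 LD2_c25 LD3_c28)) = (LP (LK LD1_c24 LD2_c5 LD3_c21)) :=
  Lre_g IH (LK LD1_c14 LD2_c25 LD3_c28) (LK LD1_c24 LD2_c5 LD3_c21) Lrfl Lrfl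
theorem f17287 : Led Lsl_dt (LP (LK LD1_c3 LD2_c44 LD3_c37)) = (LP (LK LD1_c7 LD2_c30 LD3_c23)) :=
  Lre_d IH (LK LD1_c3 LD2_c44 LD3_c37) (LK LD1_c7 LD2_c30 LD3_c23) Lrfl Lrfl
theorem f64026 : Led Lsl_et (LP (LK LD1_c7 LD2_c30 LD3_c23)) = (LP (LK LD1_c14 LD2_c10 LD3_c33)) :=
  Lre_e IH (LK LD1_c7 LD2_c30 LD3_c23) (LK LD1_c14 LD2_c10 LD3_c33) Lrfl Lrfl
theorem f533654 : Led Lsl_ff (LP (LK LD1_c24 LD2_c24 LD3_c45)) = (LP (LK LD1_c21 LD2_c41 LD3_c15)) :=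
  Lgr Lrot3 (Lpr_ft (K35.f533648 IH) (Lpn (LP (LK LD1_c21 LD2_c41 LD3_c15))))
theorem f111262 : Led Lsl_dt (LP (LK LD1_c22 LD2_c35 LD3_c27)) = (LP (LK LD1_c13 LD2_c19 LD3_c3)) :=
  Lre_d IH (LK LD1_c22 LD2_c35 LD3_c27) (LK LD1_c13 LD2_c19 LD3_c3) Lrfl Lrfl
theorem f533642 : Led Lsl_at (LP (LK LD1_c24 LD2_c24 LD3_c45)) = (LP (LK LD1_c22 LD2_c35 LD3_c27)) :=
  Lgr Lrot51 (Lpr_df (K35.f533640 IH) (Lpe (K34.f111266 IH) (Lpe (f111262 IH) (Lpn (LP (LK LD1_c22 LD2_c35 LD3_c27))))))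
theorem f462865 : Led Lsl_ct (LP (LK LD1_c13 LD2_c13 LD3_c28)) = (LP (LK LD1_c22 LD2_c27 LD3_c51)) :=
  Lre_c IH (LK LD1_c13 LD2_c13 LD3_c28) (LK LD1_c22 LD2_c27 LD3_c51) Lrfl Lrfl
theorem f465422 : Led Lsl_gt (LP (LK LD1_c22 LD2_c27 LD3_c51)) = (LP (LK LD1_c30 LD2_c31 LD3_c34)) :=
  Lre_g IH (LK LD1_c22 LD2_c27 LD3_c51) (LK LD1_c30 LD2_c31 LD3_c34) Lrfl Lrfl
theorem f533163 : Led Lsl_ct (LP (LK LD1_c30 LD2_c31 LD3_c34)) = (LP (LK LD1_c30 LD2_c7 LD3_c28)) :=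
  Lgr Lrot110 (Lpe (f465422 IH) (Lpe (f462865 IH) (Lpe (K46.f465420 IH) (Lpe (K34.f123790 IH) (Lpr_gt (K28.f463446 IH) (Lpe (K34.f463426 IH) (Lpr_gt (K34.f533139 IH) (Lpr_ct (K4.f111335 IH) (Lpe (K37.f111287 IH) (Lpn (LP (LK LD1_c30 LD2_c7 LD3_c28))))))))))))
theorem f533167 : Led Lsl_cf (LP (LK LD1_c30 LD2_c31 LD3_c34)) = (LP (LK LD1_c30 LD2_c7 LD3_c28)) :=
  Lgr Lrot11 (Lpr_ct (f533163 IH) (Lpn (LP (LK LD1_c30 LD2_c7 LD3_c28))))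
theorem f441251 : Led Lsl_bt (LP (LK LD1_c7 LD2_c32 LD3_c25)) = (LP (LK LD1_c14 LD2_c13 LD3_c1)) :=
  Lre_b IH (LK LD1_c7 LD2_c32 LD3_c25) (LK LD1_c14 LD2_c13 LD3_c1) Lrfl Lrfl
theorem f111786 : Led Lsl_ct (LP (LK LD1_c7 LD2_c32 LD3_c25)) = (LP (LK LD1_c14 LD2_c13 LD3_c13)) :=
  Lre_c IH (LK LD1_c7 LD2_c32 LD3_c25) (LK LD1_c14 LD2_c13 LD3_c13) Lrfl Lrfl
theorem f18346 : Led Lsl_bf (LP (LK LD1_c3 LD2_c30 LD3_c34)) = (LP (LK LD1_c3 LD2_c24 LD3_c47)) :=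
  Lgr Lrot24 (Lpr_bt (K2.f18328 IH) (Lpn (LP (LK LD1_c3 LD2_c24 LD3_c47))))
theorem f19089 : Led Lsl_gt (LP (LK LD1_c3 LD2_c30 LD3_c34)) = (LP (LK LD1_c7 LD2_c3 LD3_c6)) :=
  Lre_g IH (LK LD1_c3 LD2_c30 LD3_c34) (LK LD1_c7 LD2_c3 LD3_c6) Lrfl Lrfl
theorem f19092 : Led Lsl_ct (LP (LK LD1_c7 LD2_c3 LD3_c6)) = (LP (LK LD1_c13 LD2_c22 LD3_c27)) :=
  Lre_c IH (LK LD1_c7 LD2_c3 LD3_c6) (LK LD1_c13 LD2_c22 LD3_c27) Lrfl Lrfl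
theorem f472713 : Led Lsl_gf (LP (LK LD1_c14 LD2_c13 LD3_c13)) = (LP (LK LD1_c13 LD2_c22 LD3_c27)) :=
  Lgr Lrot129 (Lpe (f111786 IH) (Lpr_bt (f441251 IH) (Lpr_gt (K46.f465420 IH) (Lpe (K41.f465423 IH) (Lpr_ct (K28.f469124 IH) (Lpr_gt (K28.f17049 IH) (Lpe (K28.f18350 IH) (Lpe (f18346 IH) (Lpr_gt (f19089 IH) (Lpr_ct (f19092 IH) (Lpn (LP (LK LD1_c13 LD2_c22 LD3_c27)))))))))))))
theorem f472721 : Led Lsl_bt (LP (LK LD1_c7 LD2_c3 LD3_c6)) = (LP (LK LD1_c13 LD2_c22 LD3_c26)) :=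
  Lre_b IH (LK LD1_c7 LD2_c3 LD3_c6) (LK LD1_c13 LD2_c22 LD3_c26) Lrfl Lrfl
theorem f111242 : Led Lsl_bt (LP (LK LD1_c30 LD2_c7 LD3_c28)) = (LP (LK LD1_c21 LD2_c41 LD3_c15)) :=
  Lre_b IH (LK LD1_c30 LD2_c7 LD3_c28) (LK LD1_c21 LD2_c41 LD3_c15) Lrfl Lrfl
theorem f533169 : Led Lsl_gf (LP (LK LD1_c13 LD2_c22 LD3_c26)) = (LP (LK LD1_c21 LD2_c41 LD3_c15)) :=
  Lgr Lrot124 (Lpe (f472721 IH) (Lpr_ct (f19092 IH) (Lpe (f472713 IH) (Lpe (f111786 IH) (Lpr_bt (f441251 IH) (Lpr_gt (K46.f465420 IH) (Lpr_ct (f462865 IH) (Lpr_gt (f465422 IH) (Lpr_cf (f533167 IH) (Lpr_bt (f111242 IH) (Lpn (LP (LK LD1_c21 LD2_c41 LD3_c15)))))))))))))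
theorem f534874 : Led Lsl_gf (LP (LK LD1_c22 LD2_c35 LD3_c27)) = (LP (LK LD1_c13 LD2_c22 LD3_c26)) :=
  Lgr Lrot76 (Lpe (f533642 IH) (Lpr_ff (f533654 IH) (Lpe (f533169 IH) (Lpn (LP (LK LD1_c13 LD2_c22 LD3_c26))))))
theorem f144849 : Led Lsl_et (LP (LK LD1_c1 LD2_c51 LD3_c57)) = (LP (LK LD1_c3 LD2_c49 LD3_c57)) :=
  Lre_e IH (LK LD1_c1 LD2_c51 LD3_c57) (LK LD1_c3 LD2_c49 LD3_c57) Lrfl Lrfl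
theorem f148765 : Led Lsl_et (LP (LK LD1_c14 LD2_c28 LD3_c47)) = (LP (LK LD1_c7 LD2_c40 LD3_c49)) :=
  Lre_e IH (LK LD1_c14 LD2_c28 LD3_c47) (LK LD1_c7 LD2_c40 LD3_c49) Lrfl Lrfl
theorem f148766 : Led Lsl_dt (LP (LK LD1_c14 LD2_c28 LD3_c47)) = (LP (LK LD1_c24 LD2_c9 LD3_c56)) :=
  Lre_d IH (LK LD1_c14 LD2_c28 LD3_c47) (LK LD1_c24 LD2_c9 LD3_c56) Lrfl Lrfl
theorem f148767 : Led Lsl_gf (LP (LK LD1_c21 LD2_c41 LD3_c15)) = (LP (LK LD1_c24 LD2_c9 LD3_c56)) :=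
  Lgr Lrot145 (Lpe (K7.f111236 IH) (Lpr_et (K46.f111127 IH) (Lpr_gt (K4.f65362 IH) (Lpe (K32.f65179 IH) (Lpr_gt (K7.f148755 IH) (Lpe (K7.f84967 IH) (Lpr_et (f144849 IH) (Lpr_gt (K41.f144943 IH) (Lpe (f148765 IH) (Lpr_dt (f148766 IH) (Lpn (LP (LK LD1_c24 LD2_c9 LD3_c56)))))))))))))
theorem f111191 : Led Lsl_ft (LP (LK LD1_c22 LD2_c35 LD3_c27)) = (LP (LK LD1_c13 LD2_c19 LD3_c2)) :=
  Lre_f IH (LK LD1_c22 LD2_c35 LD3_c27) (LK LD1_c13 LD2_c19 LD3_c2) Lrfl Lrfl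
theorem f148771 : Led Lsl_gt (LP (LK LD1_c22 LD2_c35 LD3_c27)) = (LP (LK LD1_c24 LD2_c9 LD3_c56)) :=
  Lgr Lrot5 (Lpr_ft (f111191 IH) (Lpr_at (K7.f111240 IH) (Lpr_gf (f148767 IH) (Lpn (LP (LK LD1_c24 LD2_c9 LD3_c56))))))
theorem f534130 : Led Lsl_et (LP (LK LD1_c7 LD2_c40 LD3_c49)) = (LP (LK LD1_c14 LD2_c28 LD3_c47)) :=
  Lre_e IH (LK LD1_c7 LD2_c40 LD3_c49) (LK LD1_c14 LD2_c28 LD3_c47) Lrfl Lrfl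
theorem f534131 : Led Lsl_cf (LP (LK LD1_c13 LD2_c54 LD3_c8)) = (LP (LK LD1_c14 LD2_c28 LD3_c47)) :=
  Lgr Lrot39 (Lpr_et (K34.f148748 IH) (Lpr_ct (K41.f534121 IH) (Lpr_et (f534130 IH) (Lpn (LP (LK LD1_c14 LD2_c28 LD3_c47))))))
theorem f534135 : Led Lsl_ct (LP (LK LD1_c13 LD2_c54 LD3_c8)) = (LP (LK LD1_c14 LD2_c28 LD3_c47)) :=
  Lgr Lrot59 (Lpr_cf (f534131 IH) (Lpn (LP (LK LD1_c14 LD2_c28 LD3_c47))))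
theorem f534137 : Led Lsl_af (LP (LK LD1_c7 LD2_c46 LD3_c44)) = (LP (LK LD1_c14 LD2_c28 LD3_c47)) :=
  Lgr Lrot68 (Lpr_ct (K35.f471101 IH) (Lpe (K39.f532099 IH) (Lpr_ct (f534135 IH) (Lpn (LP (LK LD1_c14 LD2_c28 LD3_c47))))))
theorem f148773 : Led Lsl_dt (LP (LK LD1_c24 LD2_c9 LD3_c56)) = (LP (LK LD1_c14 LD2_c28 LD3_c47)) :=
  Lre_d IH (LK LD1_c24 LD2_c9 LD3_c56) (LK LD1_c14 LD2_c28 LD3_c47) Lrfl Lrfl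
theorem f534139 : Led Lsl_at (LP (LK LD1_c14 LD2_c40 LD3_c32)) = (LP (LK LD1_c24 LD2_c9 LD3_c56)) :=
  Lgr Lrot51 (Lpe (K35.f471107 IH) (Lpr_af (f534137 IH) (Lpe (f148773 IH) (Lpn (LP (LK LD1_c24 LD2_c9 LD3_c56))))))
theorem f534876 : Led Lsl_ff (LP (LK LD1_c14 LD2_c40 LD3_c32)) = (LP (LK LD1_c13 LD2_c22 LD3_c26)) :=
  Lgr Lrot52 (Lpr_at (f534139 IH) (Lpe (f148771 IH) (Lpr_gf (f534874 IH) (Lpn (LP (LK LD1_c13 LD2_c22 LD3_c26))))))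
theorem f534924 : Led Lsl_ft (LP (LK LD1_c14 LD2_c40 LD3_c32)) = (LP (LK LD1_c13 LD2_c22 LD3_c26)) :=
  Lgr Lrot48 (Lpr_ff (f534876 IH) (Lpn (LP (LK LD1_c13 LD2_c22 LD3_c26))))
theorem f533658 : Led Lsl_bt (LP (LK LD1_c7 LD2_c46 LD3_c49)) = (LP (LK LD1_c14 LD2_c40 LD3_c32)) :=
  Lre_b IH (LK LD1_c7 LD2_c46 LD3_c49) (LK LD1_c14 LD2_c40 LD3_c32) Lrfl Lrfl
theorem f18846 : Led Lsl_bt (LP (LK LD1_c13 LD2_c22 LD3_c26)) = (LP (LK LD1_c7 LD2_c3 LD3_c6)) :=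
  Lre_b IH (LK LD1_c13 LD2_c22 LD3_c26) (LK LD1_c7 LD2_c3 LD3_c6) Lrfl Lrfl
theorem f534926 : Led Lsl_ff (LP (LK LD1_c7 LD2_c46 LD3_c49)) = (LP (LK LD1_c7 LD2_c3 LD3_c6)) :=
  Lgr Lrot25 (Lpr_bt (f533658 IH) (Lpr_ft (f534924 IH) (Lpr_bt (f18846 IH) (Lpn (LP (LK LD1_c7 LD2_c3 LD3_c6))))))
theorem f18845 : Led Lsl_gt (LP (LK LD1_c7 LD2_c3 LD3_c6)) = (LP (LK LD1_c13 LD2_c14 LD3_c61)) :=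
  Lre_g IH (LK LD1_c7 LD2_c3 LD3_c6) (LK LD1_c13 LD2_c14 LD3_c61) Lrfl Lrfl
theorem f64966 : Led Lsl_gt (LP (LK LD1_c13 LD2_c14 LD3_c61)) = (LP (LK LD1_c7 LD2_c3 LD3_c7)) :=
  Lre_g IH (LK LD1_c13 LD2_c14 LD3_c61) (LK LD1_c7 LD2_c3 LD3_c7) Lrfl Lrfl
theorem f534964 : Led Lsl_at (LP (LK LD1_c7 LD2_c46 LD3_c49)) = (LP (LK LD1_c7 LD2_c3 LD3_c7)) :=
  Lgr Lrot26 (Lpr_ff (f534926 IH) (Lpr_gt (f18845 IH) (Lpr_gt (f64966 IH) (Lpn (LP (LK LD1_c7 LD2_c3 LD3_c7))))))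
theorem f63879 : Led Lsl_et (LP (LK LD1_c14 LD2_c40 LD3_c40)) = (LP (LK LD1_c7 LD2_c46 LD3_c49)) :=
  Lre_e IH (LK LD1_c14 LD2_c40 LD3_c40) (LK LD1_c7 LD2_c46 LD3_c49) Lrfl Lrfl
theorem f534968 : Led Lsl_et (LP (LK LD1_c7 LD2_c3 LD3_c7)) = (LP (LK LD1_c13 LD2_c22 LD3_c31)) :=
  Lre_e IH (LK LD1_c7 LD2_c3 LD3_c7) (LK LD1_c13 LD2_c22 LD3_c31) Lrfl Lrfl
theorem f534969 : Led Lsl_af (LP (LK LD1_c14 LD2_c40 LD3_c40)) = (LP (LK LD1_c13 LD2_c22 LD3_c31)) :=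
  Lgr Lrot50 (Lpr_et (f63879 IH) (Lpr_at (f534964 IH) (Lpr_et (f534968 IH) (Lpn (LP (LK LD1_c13 LD2_c22 LD3_c31))))))
theorem f63880 : Led Lsl_dt (LP (LK LD1_c14 LD2_c40 LD3_c40)) = (LP (LK LD1_c7 LD2_c46 LD3_c48)) :=
  Lre_d IH (LK LD1_c14 LD2_c40 LD3_c40) (LK LD1_c7 LD2_c46 LD3_c48) Lrfl Lrfl
theorem f493590 : Led Lsl_dt (LP (LK LD1_c3 LD2_c52 LD3_c30)) = (LP (LK LD1_c1 LD2_c52 LD3_c53)) :=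
  Lre_d IH (LK LD1_c3 LD2_c52 LD3_c30) (LK LD1_c1 LD2_c52 LD3_c53) Lrfl Lrfl
theorem f531812 : Led Lsl_ff (LP (LK LD1_c3 LD2_c52 LD3_c30)) = (LP (LK LD1_c7 LD2_c30 LD3_c23)) :=
  Lgr Lrot19 (Lpr_dt (f493590 IH) (Lpr_ft (K34.f530426 IH) (Lpqs (K34.f531805 IH) (Lpr_dt (f17287 IH) (Lpn (LP (LK LD1_c7 LD2_c30 LD3_c23)))))))
theorem f532489 : Led Lsl_ft (LP (LK LD1_c3 LD2_c52 LD3_c30)) = (LP (LK LD1_c7 LD2_c30 LD3_c23)) :=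
  Lgr Lrot48 (Lpr_ff (f531812 IH) (Lpn (LP (LK LD1_c7 LD2_c30 LD3_c23))))
theorem f516899 : Led Lsl_at (LP (LK LD1_c7 LD2_c33 LD3_c20)) = (LP (LK LD1_c7 LD2_c48 LD3_c30)) :=
  Lgr Lrot100 (Lpr_af (K47.f516851 IH) (Lpn (LP (LK LD1_c7 LD2_c48 LD3_c30))))
theorem f472332 : Led Lsl_gt (LP (LK LD1_c7 LD2_c48 LD3_c31)) = (LP (LK LD1_c3 LD2_c53 LD3_c27)) :=
  Lre_g IH (LK LD1_c7 LD2_c48 LD3_c31) (LK LD1_c3 LD2_c53 LD3_c27) Lrfl Lrfl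
theorem f517020 : Led Lsl_ff (LP (LK LD1_c7 LD2_c33 LD3_c20)) = (LP (LK LD1_c7 LD2_c48 LD3_c31)) :=
  Lgr Lrot52 (Lpr_at (f516899 IH) (Lpe (K34.f472336 IH) (Lpe (f472332 IH) (Lpn (LP (LK LD1_c7 LD2_c48 LD3_c31))))))
theorem f517026 : Led Lsl_ft (LP (LK LD1_c7 LD2_c33 LD3_c20)) = (LP (LK LD1_c7 LD2_c48 LD3_c31)) :=
  Lgr Lrot48 (Lpr_ff (f517020 IH) (Lpn (LP (LK LD1_c7 LD2_c48 LD3_c31))))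
theorem f92938 : Led Lsl_dt (LP (LK LD1_c3 LD2_c46 LD3_c10)) = (LP (LK LD1_c7 LD2_c33 LD3_c20)) :=
  Lre_d IH (LK LD1_c3 LD2_c46 LD3_c10) (LK LD1_c7 LD2_c33 LD3_c20) Lrfl Lrfl
theorem f517031 : Led Lsl_df (LP (LK LD1_c7 LD2_c3 LD3_c28)) = (LP (LK LD1_c7 LD2_c48 LD3_c31)) :=
  Lgr Lrot78 (Lpe (K47.f516853 IH) (Lpr_dt (f92938 IH) (Lpr_ft (f517026 IH) (Lpn (LP (LK LD1_c7 LD2_c48 LD3_c31))))))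
theorem f487185 : Led Lsl_ct (LP (LK LD1_c14 LD2_c40 LD3_c34)) = (LP (LK LD1_c7 LD2_c46 LD3_c45)) :=
  Lre_c IH (LK LD1_c14 LD2_c40 LD3_c34) (LK LD1_c7 LD2_c46 LD3_c45) Lrfl Lrfl
theorem f472369 : Led Lsl_ct (LP (LK LD1_c3 LD2_c53 LD3_c27)) = (LP (LK LD1_c7 LD2_c48 LD3_c32)) :=
  Lre_c IH (LK LD1_c3 LD2_c53 LD3_c27) (LK LD1_c7 LD2_c48 LD3_c32) Lrfl Lrfl
theorem f517037 : Led Lsl_gf (LP (LK LD1_c14 LD2_c40 LD3_c34)) = (LP (LK LD1_c7 LD2_c48 LD3_c32)) :=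
  Lgr Lrot104 (Lpr_ct (f487185 IH) (Lpr_df (f487172 IH) (Lpe (K30.f474668 IH) (Lpe (K30.f493548 IH) (Lpe (K34.f129760 IH) (Lpe (K47.f461591 IH) (Lpr_df (f517031 IH) (Lpr_gt (f472332 IH) (Lpr_ct (f472369 IH) (Lpn (LP (LK LD1_c7 LD2_c48 LD3_c32))))))))))))
theorem f487182 : Led Lsl_et (LP (LK LD1_c7 LD2_c46 LD3_c45)) = (LP (LK LD1_c14 LD2_c40 LD3_c35)) :=
  Lre_e IH (LK LD1_c7 LD2_c46 LD3_c45) (LK LD1_c14 LD2_c40 LD3_c35) Lrfl Lrfl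
theorem f474676 : Led Lsl_et (LP (LK LD1_c3 LD2_c29 LD3_c47)) = (LP (LK LD1_c7 LD2_c1 LD3_c12)) :=
  Lre_e IH (LK LD1_c3 LD2_c29 LD3_c47) (LK LD1_c7 LD2_c1 LD3_c12) Lrfl Lrfl
theorem f474602 : Led Lsl_et (LP (LK LD1_c13 LD2_c18 LD3_c60)) = (LP (LK LD1_c7 LD2_c1 LD3_c11)) :=
  Lre_e IH (LK LD1_c13 LD2_c18 LD3_c60) (LK LD1_c7 LD2_c1 LD3_c11) Lrfl Lrfl
theorem f487183 : Led Lsl_dt (LP (LK LD1_c14 LD2_c40 LD3_c35)) = (LP (LK LD1_c13 LD2_c18 LD3_c60)) :=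
  Lgr Lrot77 (Lpe (f487182 IH) (Lpr_df (f487172 IH) (Lpe (f474676 IH) (Lpe (K29.f440744 IH) (Lpe (f474602 IH) (Lpn (LP (LK LD1_c13 LD2_c18 LD3_c60))))))))
theorem f487190 : Led Lsl_ft (LP (LK LD1_c24 LD2_c24 LD3_c46)) = (LP (LK LD1_c14 LD2_c40 LD3_c35)) :=
  Lre_f IH (LK LD1_c24 LD2_c24 LD3_c46) (LK LD1_c14 LD2_c40 LD3_c35) Lrfl Lrfl
theorem f487191 : Led Lsl_df (LP (LK LD1_c24 LD2_c24 LD3_c46)) = (LP (LK LD1_c22 LD2_c35 LD3_c20)) :=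
  Lgr Lrot78 (Lpr_ft (f487190 IH) (Lpr_dt (f487183 IH) (Lpr_ft (K29.f474593 IH) (Lpn (LP (LK LD1_c22 LD2_c35 LD3_c20))))))
theorem f487198 : Led Lsl_dt (LP (LK LD1_c24 LD2_c24 LD3_c46)) = (LP (LK LD1_c22 LD2_c35 LD3_c20)) :=
  Lgr Lrot42 (Lpr_df (f487191 IH) (Lpn (LP (LK LD1_c22 LD2_c35 LD3_c20))))
theorem f456342 : Led Lsl_dt (LP (LK LD1_c14 LD2_c1 LD3_c32)) = (LP (LK LD1_c23 LD2_c34 LD3_c25)) :=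
  Lre_d IH (LK LD1_c14 LD2_c1 LD3_c32) (LK LD1_c23 LD2_c34 LD3_c25) Lrfl Lrfl
theorem f487200 : Led Lsl_af (LP (LK LD1_c24 LD2_c24 LD3_c46)) = (LP (LK LD1_c23 LD2_c34 LD3_c25)) :=
  Lgr Lrot117 (Lpr_dt (f487198 IH) (Lpe (K29.f474600 IH) (Lpr_dt (f456342 IH) (Lpn (LP (LK LD1_c23 LD2_c34 LD3_c25))))))
theorem f456361 : Led Lsl_ft (LP (LK LD1_c14 LD2_c1 LD3_c31)) = (LP (LK LD1_c23 LD2_c34 LD3_c25)) :=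
  Lre_f IH (LK LD1_c14 LD2_c1 LD3_c31) (LK LD1_c23 LD2_c34 LD3_c25) Lrfl Lrfl
theorem f487202 : Led Lsl_at (LP (LK LD1_c14 LD2_c40 LD3_c35)) = (LP (LK LD1_c14 LD2_c1 LD3_c31)) :=
  Lgr Lrot66 (Lpe (f487190 IH) (Lpr_af (f487200 IH) (Lpe (f456361 IH) (Lpn (LP (LK LD1_c14 LD2_c1 LD3_c31))))))
theorem f456358 : Led Lsl_et (LP (LK LD1_c14 LD2_c1 LD3_c31)) = (LP (LK LD1_c7 LD2_c24 LD3_c54)) :=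
  Lre_e IH (LK LD1_c14 LD2_c1 LD3_c31) (LK LD1_c7 LD2_c24 LD3_c54) Lrfl Lrfl
theorem f487206 : Led Lsl_af (LP (LK LD1_c7 LD2_c46 LD3_c45)) = (LP (LK LD1_c7 LD2_c24 LD3_c54)) :=
  Lgr Lrot50 (Lpr_et (f487182 IH) (Lpr_at (f487202 IH) (Lpr_et (f456358 IH) (Lpn (LP (LK LD1_c7 LD2_c24 LD3_c54))))))
theorem f487179 : Led Lsl_ct (LP (LK LD1_c7 LD2_c46 LD3_c45)) = (LP (LK LD1_c14 LD2_c40 LD3_c34)) :=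
  Lre_c IH (LK LD1_c7 LD2_c46 LD3_c45) (LK LD1_c14 LD2_c40 LD3_c34) Lrfl Lrfl
theorem f456366 : Led Lsl_ct (LP (LK LD1_c14 LD2_c1 LD3_c33)) = (LP (LK LD1_c7 LD2_c24 LD3_c54)) :=
  Lre_c IH (LK LD1_c14 LD2_c1 LD3_c33) (LK LD1_c7 LD2_c24 LD3_c54) Lrfl Lrfl
theorem f487212 : Led Lsl_at (LP (LK LD1_c14 LD2_c40 LD3_c34)) = (LP (LK LD1_c14 LD2_c1 LD3_c33)) :=
  Lgr Lrot107 (Lpe (f487179 IH) (Lpr_af (f487206 IH) (Lpe (f456366 IH) (Lpn (LP (LK LD1_c14 LD2_c1 LD3_c33))))))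
theorem f487262 : Led Lsl_af (LP (LK LD1_c14 LD2_c40 LD3_c34)) = (LP (LK LD1_c14 LD2_c1 LD3_c33)) :=
  Lgr Lrot0 (Lpr_at (f487212 IH) (Lpn (LP (LK LD1_c14 LD2_c1 LD3_c33))))
theorem f465245 : Led Lsl_gt (LP (LK LD1_c7 LD2_c46 LD3_c46)) = (LP (LK LD1_c3 LD2_c52 LD3_c27)) :=
  Lre_g IH (LK LD1_c7 LD2_c46 LD3_c46) (LK LD1_c3 LD2_c52 LD3_c27) Lrfl Lrfl
theorem f487214 : Led Lsl_ft (LP (LK LD1_c7 LD2_c46 LD3_c46)) = (LP (LK LD1_c7 LD2_c24 LD3_c54)) :=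
  Lgr Lrot2 (Lpr_gt (f465245 IH) (Lpr_gt (f63873 IH) (Lpr_af (f487206 IH) (Lpn (LP (LK LD1_c7 LD2_c24 LD3_c54))))))
theorem f487221 : Led Lsl_ff (LP (LK LD1_c7 LD2_c46 LD3_c46)) = (LP (LK LD1_c7 LD2_c24 LD3_c54)) :=
  Lgr Lrot3 (Lpr_ft (f487214 IH) (Lpn (LP (LK LD1_c7 LD2_c24 LD3_c54))))
theorem f487225 : Led Lsl_ct (LP (LK LD1_c7 LD2_c46 LD3_c46)) = (LP (LK LD1_c14 LD2_c40 LD3_c36)) :=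
  Lre_c IH (LK LD1_c7 LD2_c46 LD3_c46) (LK LD1_c14 LD2_c40 LD3_c36) Lrfl Lrfl
theorem f487226 : Led Lsl_ft (LP (LK LD1_c14 LD2_c40 LD3_c36)) = (LP (LK LD1_c14 LD2_c1 LD3_c33)) :=
  Lgr Lrot4 (Lpe (f487225 IH) (Lpr_ff (f487221 IH) (Lpe (f456366 IH) (Lpn (LP (LK LD1_c14 LD2_c1 LD3_c33))))))
theorem f517040 : Led Lsl_gt (LP (LK LD1_c14 LD2_c40 LD3_c36)) = (LP (LK LD1_c7 LD2_c48 LD3_c32)) :=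
  Lgr Lrot5 (Lpr_ft (f487226 IH) (Lpe (f487262 IH) (Lpr_gf (f517037 IH) (Lpn (LP (LK LD1_c7 LD2_c48 LD3_c32))))))
theorem f472370 : Led Lsl_ct (LP (LK LD1_c7 LD2_c48 LD3_c32)) = (LP (LK LD1_c3 LD2_c53 LD3_c27)) :=
  Lre_c IH (LK LD1_c7 LD2_c48 LD3_c32) (LK LD1_c3 LD2_c53 LD3_c27) Lrfl Lrfl
theorem f517049 : Led Lsl_gf (LP (LK LD1_c7 LD2_c46 LD3_c46)) = (LP (LK LD1_c3 LD2_c52 LD3_c30)) :=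
  Lgr Lrot147 (Lpr_ct (f487225 IH) (Lpr_gt (f517040 IH) (Lpr_ct (f472370 IH) (Lpe (K34.f472335 IH) (Lpe (K34.f446577 IH) (Lpe (K34.f15692 IH) (Lpe (K28.f15691 IH) (Lpe (K34.f17019 IH) (Lpe (f493590 IH) (Lpn (LP (LK LD1_c3 LD2_c52 LD3_c30))))))))))))
theorem f532498 : Led Lsl_af (LP (LK LD1_c3 LD2_c52 LD3_c27)) = (LP (LK LD1_c7 LD2_c30 LD3_c23)) :=
  Lgr Lrot31 (Lpe (f465245 IH) (Lpr_gf (f517049 IH) (Lpr_ft (f532489 IH) (Lpn (LP (LK LD1_c7 LD2_c30 LD3_c23))))))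
theorem f64105 : Led Lsl_et (LP (LK LD1_c3 LD2_c52 LD3_c27)) = (LP (LK LD1_c7 LD2_c46 LD3_c48)) :=
  Lre_e IH (LK LD1_c3 LD2_c52 LD3_c27) (LK LD1_c7 LD2_c46 LD3_c48) Lrfl Lrfl
theorem f478307 : Led Lsl_et (LP (LK LD1_c14 LD2_c10 LD3_c33)) = (LP (LK LD1_c7 LD2_c30 LD3_c23)) :=
  Lre_e IH (LK LD1_c14 LD2_c10 LD3_c33) (LK LD1_c7 LD2_c30 LD3_c23) Lrfl Lrfl
theorem f532503 : Led Lsl_at (LP (LK LD1_c7 LD2_c46 LD3_c48)) = (LP (LK LD1_c14 LD2_c10 LD3_c33)) :=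
  Lgr Lrot80 (Lpe (f64105 IH) (Lpr_af (f532498 IH) (Lpe (f478307 IH) (Lpn (LP (LK LD1_c14 LD2_c10 LD3_c33))))))
theorem f534975 : Led Lsl_dt (LP (LK LD1_c14 LD2_c10 LD3_c33)) = (LP (LK LD1_c13 LD2_c22 LD3_c31)) :=
  Lgr Lrot44 (Lpe (f532503 IH) (Lpe (f63880 IH) (Lpr_af (f534969 IH) (Lpn (LP (LK LD1_c13 LD2_c22 LD3_c31))))))
theorem f64070 : Led Lsl_et (LP (LK LD1_c13 LD2_c22 LD3_c31)) = (LP (LK LD1_c7 LD2_c3 LD3_c7)) :=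
  Lre_e IH (LK LD1_c13 LD2_c22 LD3_c31) (LK LD1_c7 LD2_c3 LD3_c7) Lrfl Lrfl
theorem f664305 : Led Lsl_dt (LP (LK LD1_c7 LD2_c3 LD3_c7)) = v7300 :=
  Lgr Lrot77 (Lpe (f64070 IH) (Lpe (f534975 IH) (Lpe (f64026 IH) (Lpe (f17287 IH) (Lpr_ef (f664302 IH) (Lpn v7300))))))
theorem f63271 : Led Lsl_et (LP (LK LD1_c22 LD2_c29 LD3_c59)) = (LP (LK LD1_c13 LD2_c14 LD3_c61)) :=
  Lre_e IH (LK LD1_c22 LD2_c29 LD3_c59) (LK LD1_c13 LD2_c14 LD3_c61) Lrfl Lrfl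
theorem f535009 : Led Lsl_gt (LP (LK LD1_c22 LD2_c32 LD3_c49)) = (LP (LK LD1_c13 LD2_c17 LD3_c6)) :=
  Lre_g IH (LK LD1_c22 LD2_c32 LD3_c49) (LK LD1_c13 LD2_c17 LD3_c6) Lrfl Lrfl
theorem f63301 : Led Lsl_dt (LP (LK LD1_c30 LD2_c34 LD3_c7)) = (LP (LK LD1_c22 LD2_c32 LD3_c49)) :=
  Lre_d IH (LK LD1_c30 LD2_c34 LD3_c7) (LK LD1_c22 LD2_c32 LD3_c49) Lrfl Lrfl
theorem f664307 : Led Lsl_ef (LP (LK LD1_c24 LD2_c5 LD3_c21)) = (LP (LK LD1_c30 LD2_c34 LD3_c7)) :=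
  Lgr Lrot17 (Lpe (f467877 IH) (Lpe (f467851 IH) (Lpr_dt (f467708 IH) (Lpr_gf (f664306 IH) (Lpe (f664305 IH) (Lpe (f64966 IH) (Lpe (f63271 IH) (Lpr_dt (K2.f63253 IH) (Lpe (f535009 IH) (Lpe (f63301 IH) (Lpn (LP (LK LD1_c30 LD2_c34 LD3_c7)))))))))))))
theorem f664308 : Led Lsl_et (LP (LK LD1_c30 LD2_c34 LD3_c7)) = (LP (LK LD1_c24 LD2_c5 LD3_c21)) :=
  Leop (Lpr_ef (f664307 IH) (Lpn (LP (LK LD1_c30 LD2_c34 LD3_c7))))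
theorem seed_479 : LEOK LG_e (LK LD1_c30 LD2_c34 LD3_c7) :=
  Leoe_e (LK LD1_c30 LD2_c34 LD3_c7) (f664308 IH)
def v7301 : LQ := Led Lsl_gt (LP (LK LD1_c3 LD2_c44 LD3_c40))
theorem f664315 : Led Lsl_gt (LP (LK LD1_c3 LD2_c44 LD3_c40)) = v7301 :=
  Lrfl
theorem f472159 : Led Lsl_bt (LP (LK LD1_c7 LD2_c30 LD3_c27)) = (LP (LK LD1_c3 LD2_c44 LD3_c40)) :=
  Lre_b IH (LK LD1_c7 LD2_c30 LD3_c27) (LK LD1_c3 LD2_c44 LD3_c40) Lrfl Lrfl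
theorem f564714 : Led Lsl_gt (LP (LK LD1_c7 LD2_c39 LD3_c12)) = (LP (LK LD1_c7 LD2_c7 LD3_c12)) :=
  Lgr Lrot46 (Lpr_gf (K41.f564712 IH) (Lpr_ft (K41.f530608 IH) (Lpr_at (K41.f472155 IH) (Lpn (LP (LK LD1_c7 LD2_c7 LD3_c12))))))
theorem f493595 : Led Lsl_bt (LP (LK LD1_c7 LD2_c46 LD3_c50)) = (LP (LK LD1_c3 LD2_c52 LD3_c30)) :=
  Lre_b IH (LK LD1_c7 LD2_c46 LD3_c50) (LK LD1_c3 LD2_c52 LD3_c30) Lrfl Lrfl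
theorem f532491 : Led Lsl_bt (LP (LK LD1_c7 LD2_c30 LD3_c23)) = (LP (LK LD1_c14 LD2_c10 LD3_c32)) :=
  Lre_b IH (LK LD1_c7 LD2_c30 LD3_c23) (LK LD1_c14 LD2_c10 LD3_c32) Lrfl Lrfl
theorem f532492 : Led Lsl_ff (LP (LK LD1_c7 LD2_c46 LD3_c50)) = (LP (LK LD1_c14 LD2_c10 LD3_c32)) :=
  Lgr Lrot25 (Lpr_bt (f493595 IH) (Lpr_ft (f532489 IH) (Lpr_bt (f532491 IH) (Lpn (LP (LK LD1_c14 LD2_c10 LD3_c32))))))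
theorem f517083 : Led Lsl_dt (LP (LK LD1_c7 LD2_c46 LD3_c50)) = (LP (LK LD1_c3 LD2_c52 LD3_c29)) :=
  Lre_d IH (LK LD1_c7 LD2_c46 LD3_c50) (LK LD1_c3 LD2_c52 LD3_c29) Lrfl Lrfl
theorem f457740 : Led Lsl_dt (LP (LK LD1_c7 LD2_c30 LD3_c22)) = (LP (LK LD1_c14 LD2_c10 LD3_c32)) :=
  Lre_d IH (LK LD1_c7 LD2_c30 LD3_c22) (LK LD1_c14 LD2_c10 LD3_c32) Lrfl Lrfl
theorem f532550 : Led Lsl_ft (LP (LK LD1_c3 LD2_c52 LD3_c29)) = (LP (LK LD1_c7 LD2_c30 LD3_c22)) :=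
  Lgr Lrot54 (Lpe (f517083 IH) (Lpr_ff (f532492 IH) (Lpe (f457740 IH) (Lpn (LP (LK LD1_c7 LD2_c30 LD3_c22))))))
theorem f564718 : Led Lsl_gf (LP (LK LD1_c7 LD2_c35 LD3_c22)) = (LP (LK LD1_c3 LD2_c52 LD3_c29)) :=
  Lgr Lrot47 (Lpr_gt (K41.f564716 IH) (Lpe (K41.f457736 IH) (Lpe (f532550 IH) (Lpn (LP (LK LD1_c3 LD2_c52 LD3_c29))))))
theorem f519656 : Led Lsl_bt (LP (LK LD1_c1 LD2_c52 LD3_c53)) = (LP (LK LD1_c3 LD2_c52 LD3_c29)) :=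
  Lre_b IH (LK LD1_c1 LD2_c52 LD3_c53) (LK LD1_c3 LD2_c52 LD3_c29) Lrfl Lrfl
theorem f519651 : Led Lsl_gt (LP (LK LD1_c6 LD2_c34 LD3_c0)) = K33.v2428 :=
  Lgr Lrot5 (Lpr_ft (K28.f95844 IH) (Lpr_at (K3.f107166 IH) (Lpr_gf (K33.f519650 IH) (Lpn K33.v2428))))
theorem f664319 : Led Lsl_cf (LP (LK LD1_c6 LD2_c34 LD3_c0)) = v7301 :=
  Lgr Lrot125 (Lpr_gt (f519651 IH) (Lpe (K33.f519652 IH) (Lpr_bt (f519656 IH) (Lpe (f564718 IH) (Lpe (K41.f110235 IH) (Lpe (K6.f110236 IH) (Lpr_gt (f564714 IH) (Lpr_cf (K29.f472147 IH) (Lpr_bt (f472159 IH) (Lpr_gt (f664315 IH) (Lpn v7301)))))))))))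
theorem f14899 : Led Lsl_dt (LP (LK LD1_c1 LD2_c52 LD3_c53)) = (LP (LK LD1_c3 LD2_c52 LD3_c30)) :=
  Lre_d IH (LK LD1_c1 LD2_c52 LD3_c53) (LK LD1_c3 LD2_c52 LD3_c30) Lrfl Lrfl
theorem f493594 : Led Lsl_ct (LP (LK LD1_c7 LD2_c46 LD3_c51)) = (LP (LK LD1_c3 LD2_c52 LD3_c30)) :=
  Lre_c IH (LK LD1_c7 LD2_c46 LD3_c51) (LK LD1_c3 LD2_c52 LD3_c30) Lrfl Lrfl
theorem f472259 : Led Lsl_dt (LP (LK LD1_c7 LD2_c30 LD3_c28)) = (LP (LK LD1_c3 LD2_c44 LD3_c40)) :=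
  Lre_d IH (LK LD1_c7 LD2_c30 LD3_c28) (LK LD1_c3 LD2_c44 LD3_c40) Lrfl Lrfl
theorem f472265 : Led Lsl_gf (LP (LK LD1_c7 LD2_c33 LD3_c20)) = (LP (LK LD1_c7 LD2_c30 LD3_c28)) :=
  Lgr Lrot134 (Lpe (f92938 IH) (Lpr_et (K33.f92937 IH) (Lpr_gt (K29.f85277 IH) (Lpe (K5.f87935 IH) (Lpr_dt (K3.f65698 IH) (Lpr_gt (K3.f87187 IH) (Lpr_df (K5.f92754 IH) (Lpr_et (K3.f17314 IH) (Lpr_gt (K34.f472260 IH) (Lpr_dt (K41.f472262 IH) (Lpn (LP (LK LD1_c7 LD2_c30 LD3_c28)))))))))))))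
theorem f472288 : Led Lsl_ct (LP (LK LD1_c7 LD2_c33 LD3_c20)) = (LP (LK LD1_c14 LD2_c14 LD3_c61)) :=
  Lre_c IH (LK LD1_c7 LD2_c33 LD3_c20) (LK LD1_c14 LD2_c14 LD3_c61) Lrfl Lrfl
theorem f664330 : Led Lsl_gf (LP (LK LD1_c7 LD2_c46 LD3_c51)) = (LP (LK LD1_c14 LD2_c14 LD3_c61)) :=
  Lgr Lrot104 (Lpr_ct (f493594 IH) (Lpe (f14899 IH) (Lpr_cf (K34.f519653 IH) (Lpe (f519651 IH) (Lpr_cf (f664319 IH) (Lpe (f664315 IH) (Lpe (f472259 IH) (Lpe (f472265 IH) (Lpr_ct (f472288 IH) (Lpn (LP (LK LD1_c14 LD2_c14 LD3_c61))))))))))))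
theorem f664331 : Led Lsl_gt (LP (LK LD1_c14 LD2_c14 LD3_c61)) = (LP (LK LD1_c7 LD2_c46 LD3_c51)) :=
  Leop (Lpr_gf (f664330 IH) (Lpn (LP (LK LD1_c14 LD2_c14 LD3_c61))))
theorem seed_480 : LEOK LG_g (LK LD1_c14 LD2_c14 LD3_c61) :=
  Leoe_g (LK LD1_c14 LD2_c14 LD3_c61) (f664331 IH)
def v7302 : LQ := Led Lsl_et (LP (LK LD1_c3 LD2_c44 LD3_c40))
theorem f664344 : Led Lsl_et (LP (LK LD1_c3 LD2_c44 LD3_c40)) = v7302 :=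
  Lrfl
theorem f664347 : Led Lsl_ef (LP (LK LD1_c3 LD2_c44 LD3_c40)) = v7302 :=
  Lgr Lrot88 (Lpr_et (f664344 IH) (Lpn v7302))
theorem f664318 : Led Lsl_df (LP (LK LD1_c13 LD2_c23 LD3_c5)) = v7301 :=
  Lgr Lrot153 (Lpr_gt (f129759 IH) (Lpr_dt (K46.f129758 IH) (Lpe (K30.f129757 IH) (Lpe (K34.f129755 IH) (Lpr_gf (K30.f129672 IH) (Lpe (K30.f62982 IH) (Lpe (K29.f15730 IH) (Lpe (K29.f17065 IH) (Lpr_gt (f664315 IH) (Lpn v7301))))))))))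
theorem f460549 : Led Lsl_et (LP (LK LD1_c7 LD2_c0 LD3_c21)) = (LP (LK LD1_c3 LD2_c30 LD3_c40)) :=
  Lgr Lrot69 (Lpe (K4.f17815 IH) (Lpe (K4.f17938 IH) (Lpr_ff (K3.f108671 IH) (Lpe (K24.f92367 IH) (Lpr_ff (K24.f460535 IH) (Lpn (LP (LK LD1_c3 LD2_c30 LD3_c40))))))))
theorem f664350 : Led Lsl_df (LP (LK LD1_c7 LD2_c32 LD3_c23)) = v7302 :=
  Lgr Lrot168 (Lpr_gf (K41.f111706 IH) (Lpe (K28.f17847 IH) (Lpr_et (f460549 IH) (Lpe (K24.f129831 IH) (Lpe (K34.f129832 IH) (Lpr_dt (K34.f129781 IH) (Lpe (f129759 IH) (Lpr_df (f664318 IH) (Lpe (f664315 IH) (Lpr_ef (f664347 IH) (Lpn v7302)))))))))))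
theorem f530454 : Led Lsl_af (LP (LK LD1_c1 LD2_c53 LD3_c18)) = K41.v2697 :=
  Lgr Lrot0 (Lpr_at (K41.f530453 IH) (Lpn K41.v2697))
theorem f472404 : Led Lsl_et (LP (LK LD1_c1 LD2_c53 LD3_c18)) = (LP (LK LD1_c3 LD2_c53 LD3_c28)) :=
  Lre_e IH (LK LD1_c1 LD2_c53 LD3_c18) (LK LD1_c3 LD2_c53 LD3_c28) Lrfl Lrfl
theorem f664348 : Led Lsl_at (LP (LK LD1_c3 LD2_c53 LD3_c28)) = v7302 :=
  Lgr Lrot80 (Lpe (f472404 IH) (Lpr_af (f530454 IH) (Lpqs (K41.f530530 IH) (Lpr_ef (f664347 IH) (Lpn v7302)))))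
theorem f664351 : Led Lsl_at (LP (LK LD1_c7 LD2_c32 LD3_c23)) = (LP (LK LD1_c7 LD2_c48 LD3_c34)) :=
  Lgr Lrot51 (Lpr_df (f664350 IH) (Lpe (f664348 IH) (Lpe (K34.f472347 IH) (Lpn (LP (LK LD1_c7 LD2_c48 LD3_c34))))))
theorem f664352 : Led Lsl_at (LP (LK LD1_c7 LD2_c32 LD3_c23)) = (LP (LK LD1_c7 LD2_c48 LD3_c34)) :=
  Leop (Lpe (f664351 IH) (Lpn (LP (LK LD1_c7 LD2_c32 LD3_c23))))
theorem seed_481 : LEOK LG_a (LK LD1_c7 LD2_c32 LD3_c23) :=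
  Leoe_a (LK LD1_c7 LD2_c32 LD3_c23) (f664352 IH)
def v7306 : LQ := Led Lsl_ft (LP (LK LD1_c3 LD2_c44 LD3_c41))
theorem f664416 : Led Lsl_ft (LP (LK LD1_c3 LD2_c44 LD3_c41)) = v7306 :=
  Lrfl
def v7303 : LQ := Led Lsl_gt (LP (LK LD1_c3 LD2_c44 LD3_c41))
theorem f664408 : Led Lsl_gt (LP (LK LD1_c3 LD2_c44 LD3_c41)) = v7303 :=
  Lrfl
theorem f531300 : Led Lsl_at (LP (LK LD1_c1 LD2_c53 LD3_c23)) = (LP (LK LD1_c3 LD2_c44 LD3_c41)) :=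
  Lre_a IH (LK LD1_c1 LD2_c53 LD3_c23) (LK LD1_c3 LD2_c44 LD3_c41) Lrfl Lrfl
theorem f514591 : Led Lsl_ft (LP (LK LD1_c3 LD2_c53 LD3_c24)) = (LP (LK LD1_c1 LD2_c53 LD3_c23)) :=
  Lre_f IH (LK LD1_c3 LD2_c53 LD3_c24) (LK LD1_c1 LD2_c53 LD3_c23) Lrfl Lrfl
theorem f664417 : Led Lsl_af (LP (LK LD1_c3 LD2_c53 LD3_c24)) = v7306 :=
  Lgr Lrot45 (Lpr_ft (f514591 IH) (Lpr_at (f531300 IH) (Lpr_ft (f664416 IH) (Lpn v7306))))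
theorem f664420 : Led Lsl_gt v7303 = (LP (LK LD1_c3 LD2_c53 LD3_c24)) :=
  Lgr Lrot46 (Lpe (f664408 IH) (Lpr_ft (f664416 IH) (Lpe (f664417 IH) (Lpn (LP (LK LD1_c3 LD2_c53 LD3_c24))))))
theorem f129762 : Led Lsl_ct (LP (LK LD1_c1 LD2_c53 LD3_c16)) = (LP (LK LD1_c3 LD2_c53 LD3_c24)) :=
  Lre_c IH (LK LD1_c1 LD2_c53 LD3_c16) (LK LD1_c3 LD2_c53 LD3_c24) Lrfl Lrfl
theorem f451382 : Led Lsl_ft (LP (LK LD1_c0 LD2_c53 LD3_c16)) = (LP (LK LD1_c1 LD2_c53 LD3_c16)) :=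
  Lre_f IH (LK LD1_c0 LD2_c53 LD3_c16) (LK LD1_c1 LD2_c53 LD3_c16) Lrfl Lrfl
theorem f451383 : Led Lsl_bt (LP (LK LD1_c1 LD2_c53 LD3_c16)) = K24.v256 :=
  Lgr Lrot35 (Lpe (f451382 IH) (Lpe (K29.f11142 IH) (Lpr_ff (K24.f451381 IH) (Lpn K24.v256))))
theorem f451249 : Led Lsl_bt (LP (LK LD1_c3 LD2_c55 LD3_c61)) = (LP (LK LD1_c1 LD2_c54 LD3_c41)) :=
  Lre_b IH (LK LD1_c3 LD2_c55 LD3_c61) (LK LD1_c1 LD2_c54 LD3_c41) Lrfl Lrfl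
theorem f664421 : Led Lsl_cf v7303 = (LP (LK LD1_c3 LD2_c55 LD3_c61)) :=
  Lgr Lrot160 (Lpr_gt (f664420 IH) (Lpe (f129762 IH) (Lpr_bt (f451383 IH) (Lpr_gt (K29.f451392 IH) (Lpr_ct (K29.f491352 IH) (Lpe (K29.f491349 IH) (Lpe (K29.f451244 IH) (Lpr_bt (K24.f14921 IH) (Lpr_gt (K35.f17276 IH) (Lpe (f451249 IH) (Lpn (LP (LK LD1_c3 LD2_c55 LD3_c61)))))))))))))
theorem f129756 : Led Lsl_ct (LP (LK LD1_c3 LD2_c53 LD3_c24)) = (LP (LK LD1_c1 LD2_c53 LD3_c16)) :=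
  Lre_c IH (LK LD1_c3 LD2_c53 LD3_c24) (LK LD1_c1 LD2_c53 LD3_c16) Lrfl Lrfl
theorem f65969 : Led Lsl_dt (LP (LK LD1_c3 LD2_c15 LD3_c19)) = (LP (LK LD1_c6 LD2_c33 LD3_c61)) :=
  Lre_d IH (LK LD1_c3 LD2_c15 LD3_c19) (LK LD1_c6 LD2_c33 LD3_c61) Lrfl Lrfl
theorem f664426 : Led Lsl_gt (LP (LK LD1_c6 LD2_c33 LD3_c61)) = (LP (LK LD1_c3 LD2_c55 LD3_c61)) :=
  Lgr Lrot9 (Lpe (f65969 IH) (Lpr_gt (K28.f465412 IH) (Lpe (K28.f457718 IH) (Lpr_gt (K28.f15719 IH) (Lpr_ct (K0.f15705 IH) (Lpe (K30.f17060 IH) (Lpe (f129756 IH) (Lpe (f664420 IH) (Lpr_cf (f664421 IH) (Lpn (LP (LK LD1_c3 LD2_c55 LD3_c61))))))))))))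
theorem f664427 : Led Lsl_gt (LP (LK LD1_c6 LD2_c33 LD3_c61)) = (LP (LK LD1_c3 LD2_c55 LD3_c61)) :=
  Leop (Lpe (f664426 IH) (Lpn (LP (LK LD1_c6 LD2_c33 LD3_c61))))
theorem seed_482 : LEOK LG_g (LK LD1_c6 LD2_c33 LD3_c61) :=
  Leoe_g (LK LD1_c6 LD2_c33 LD3_c61) (f664427 IH)
theorem f664419 : Led Lsl_ff (LP (LK LD1_c3 LD2_c44 LD3_c41)) = v7306 :=
  Lgr Lrot3 (Lpr_ft (f664416 IH) (Lpn v7306))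
theorem f531294 : Led Lsl_at (LP (LK LD1_c3 LD2_c44 LD3_c41)) = (LP (LK LD1_c1 LD2_c53 LD3_c23)) :=
  Lre_a IH (LK LD1_c3 LD2_c44 LD3_c41) (LK LD1_c1 LD2_c53 LD3_c23) Lrfl Lrfl
def v2708 : LQ := Led Lsl_gf (LP (LK LD1_c1 LD2_c53 LD3_c23))
theorem f531293 : Led Lsl_gf (LP (LK LD1_c1 LD2_c53 LD3_c23)) = v2708 :=
  Lrfl
theorem f664438 : Led Lsl_gf v2708 = v7306 :=
  Lgr Lrot47 (Lpe (f531293 IH) (Lpe (f531294 IH) (Lpr_ff (f664419 IH) (Lpn v7306))))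
def v6922 : LQ := Led Lsl_gf (LP (LK LD1_c3 LD2_c34 LD3_c31))
theorem f659460 : Led Lsl_gf (LP (LK LD1_c3 LD2_c34 LD3_c31)) = v6922 :=
  Lrfl
theorem f659462 : Led Lsl_dt (LP (LK LD1_c6 LD2_c52 LD3_c7)) = v6922 :=
  Lgr Lrot136 (Lpr_et (K43.f458359 IH) (Lpe (K28.f463705 IH) (Lpe (K3.f108754 IH) (Lpr_dt (K3.f108752 IH) (Lpr_gf (K4.f114420 IH) (Lpe (K4.f91240 IH) (Lpr_gf (K3.f96758 IH) (Lpe (K3.f17313 IH) (Lpr_dt (K3.f106683 IH) (Lpr_gf (f659460 IH) (Lpn v6922)))))))))))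
theorem f659463 : Led Lsl_bf v2745 = v6922 :=
  Lgr Lrot93 (Lpe (f531723 IH) (Lpr_bt (K43.f458388 IH) (Lpr_dt (f659462 IH) (Lpn v6922))))
theorem f531721 : Led Lsl_gt (LP (LK LD1_c1 LD2_c54 LD3_c43)) = v2745 :=
  Lgr Lrot5 (Lpr_ft (f17261 IH) (Lpr_at (K24.f14920 IH) (Lpr_gf (f531720 IH) (Lpn v2745))))
def v923 : LQ := Led Lsl_ct (LP (LK LD1_c0 LD2_c54 LD3_c15))
theorem f490539 : Led Lsl_ct (LP (LK LD1_c0 LD2_c54 LD3_c15)) = v923 :=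
  Lrfl
theorem f490421 : Led Lsl_cf (LP (LK LD1_c0 LD2_c54 LD3_c3)) = K29.v916 :=
  Lgr Lrot11 (Lpr_ct (K29.f490420 IH) (Lpn K29.v916))
theorem f490541 : Led Lsl_gf K29.v916 = v923 :=
  Lgr Lrot104 (Lpe (f490421 IH) (Lpe (K24.f11198 IH) (Lpe (K0.f11177 IH) (Lpr_gf (K28.f11189 IH) (Lpe (K24.f11194 IH) (Lpq (K24.f457687 IH) (Lpe (K24.f448777 IH) (Lpe (K0.f11147 IH) (Lpr_gt (K24.f446400 IH) (Lpr_ct (f490539 IH) (Lpn v923)))))))))))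
theorem f11140 : Led Lsl_bt (LP (LK LD1_c0 LD2_c53 LD3_c16)) = (LP (LK LD1_c0 LD2_c24 LD3_c28)) :=
  Lre_b IH (LK LD1_c0 LD2_c53 LD3_c16) (LK LD1_c0 LD2_c24 LD3_c28) Lrfl Lrfl
theorem f659467 : Led Lsl_cf v2708 = v6922 :=
  Lgr Lrot160 (Lpe (f531293 IH) (Lpe (K46.f451393 IH) (Lpr_bt (f11140 IH) (Lpr_gt (K24.f446400 IH) (Lpr_ct (f490539 IH) (Lpe (f490541 IH) (Lpe (K29.f490420 IH) (Lpr_bt (f14940 IH) (Lpr_gt (f531721 IH) (Lpr_bf (f659463 IH) (Lpn v6922)))))))))))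
theorem f14928 : Led Lsl_ct (LP (LK LD1_c1 LD2_c54 LD3_c34)) = (LP (LK LD1_c3 LD2_c55 LD3_c53)) :=
  Lre_c IH (LK LD1_c1 LD2_c54 LD3_c34) (LK LD1_c3 LD2_c55 LD3_c53) Lrfl Lrfl
theorem f86623 : Led Lsl_ct (LP (LK LD1_c3 LD2_c44 LD3_c41)) = (LP (LK LD1_c1 LD2_c49 LD3_c23)) :=
  Lre_c IH (LK LD1_c3 LD2_c44 LD3_c41) (LK LD1_c1 LD2_c49 LD3_c23) Lrfl Lrfl
theorem f664437 : Led Lsl_ct K46.v2602 = v7306 :=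
  Lgr Lrot40 (Lpe (K46.f527723 IH) (Lpe (f86623 IH) (Lpr_ff (f664419 IH) (Lpn v7306))))
theorem f11144 : Led Lsl_bf (LP (LK LD1_c1 LD2_c49 LD3_c23)) = (LP (LK LD1_c1 LD2_c49 LD3_c23)) :=
  Lgr Lrot81 (Lpr_at (K46.f11141 IH) (Lpr_bt (f11140 IH) (Lpr_at (K0.f11124 IH) (Lpr_bt (K29.f11142 IH) (Lpr_at (K47.f11143 IH) (Lpn (LP (LK LD1_c1 LD2_c49 LD3_c23))))))))
theorem f527728 : Led Lsl_bt K46.v2602 = K46.v2602 :=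
  Lgr Lrot35 (Lpe (K46.f527723 IH) (Lpr_bf (f11144 IH) (Lpr_ff (K46.f527726 IH) (Lpn K46.v2602))))
theorem f664440 : Led Lsl_gt (LP (LK LD1_c3 LD2_c55 LD3_c53)) = (LP (LK LD1_c7 LD2_c48 LD3_c38)) :=
  Lgr Lrot149 (Lpe (f14928 IH) (Lpr_gf (f531720 IH) (Lpr_bf (f659463 IH) (Lpe (f659467 IH) (Lpr_gf (f664438 IH) (Lpe (f664437 IH) (Lpr_bt (f527728 IH) (Lpe (K46.f527731 IH) (Lpe (K29.f451404 IH) (Lpr_ct (K29.f451405 IH) (Lpn (LP (LK LD1_c7 LD2_c48 LD3_c38)))))))))))))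
theorem f664441 : Led Lsl_gt (LP (LK LD1_c3 LD2_c55 LD3_c53)) = (LP (LK LD1_c7 LD2_c48 LD3_c38)) :=
  Leop (Lpe (f664440 IH) (Lpn (LP (LK LD1_c3 LD2_c55 LD3_c53))))
theorem seed_483 : LEOK LG_g (LK LD1_c3 LD2_c55 LD3_c53) :=
  Leoe_g (LK LD1_c3 LD2_c55 LD3_c53) (f664441 IH)
def v7321 : LQ := Led Lsl_et (LP (LK LD1_c3 LD2_c44 LD3_c61))
theorem f664531 : Led Lsl_et (LP (LK LD1_c3 LD2_c44 LD3_c61)) = v7321 :=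
  Lrfl
theorem f4868 : Led Lsl_bt (LP (LK LD1_c1 LD2_c47 LD3_c52)) = (LP (LK LD1_c3 LD2_c41 LD3_c54)) :=
  Lre_b IH (LK LD1_c1 LD2_c47 LD3_c52) (LK LD1_c3 LD2_c41 LD3_c54) Lrfl Lrfl
theorem f523880 : Led Lsl_ft (LP (LK LD1_c3 LD2_c41 LD3_c54)) = (LP (LK LD1_c3 LD2_c44 LD3_c61)) :=
  Lgr Lrot75 (Lpe (f4868 IH) (Lpr_ff (K34.f523879 IH) (Lpe (f523723 IH) (Lpn (LP (LK LD1_c3 LD2_c44 LD3_c61))))))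
theorem f488043 : Led Lsl_et (LP (LK LD1_c3 LD2_c54 LD3_c38)) = (LP (LK LD1_c1 LD2_c53 LD3_c54)) :=
  Lre_e IH (LK LD1_c3 LD2_c54 LD3_c38) (LK LD1_c1 LD2_c53 LD3_c54) Lrfl Lrfl
theorem f664536 : Led Lsl_ff (LP (LK LD1_c3 LD2_c54 LD3_c38)) = v7321 :=
  Lgr Lrot72 (Lpr_et (f488043 IH) (Lpe (K34.f524226 IH) (Lpe (K29.f483570 IH) (Lpr_ft (f523880 IH) (Lpr_et (f664531 IH) (Lpn v7321))))))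
theorem f481735 : Led Lsl_ft (LP (LK LD1_c3 LD2_c48 LD3_c19)) = (LP (LK LD1_c7 LD2_c37 LD3_c41)) :=
  Lre_f IH (LK LD1_c3 LD2_c48 LD3_c19) (LK LD1_c7 LD2_c37 LD3_c41) Lrfl Lrfl
theorem f664537 : Led Lsl_at (LP (LK LD1_c7 LD2_c37 LD3_c41)) = v7321 :=
  Lgr Lrot66 (Lpe (f481735 IH) (Lpr_af (K35.f524224 IH) (Lpr_ff (f664536 IH) (Lpn v7321))))
theorem f526733 : Led Lsl_ft (LP (LK LD1_c6 LD2_c58 LD3_c37)) = (LP (LK LD1_c3 LD2_c33 LD3_c52)) :=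
  Lgr Lrot48 (Lpr_ff (K43.f526729 IH) (Lpn (LP (LK LD1_c3 LD2_c33 LD3_c52))))
theorem f526737 : Led Lsl_ff (LP (LK LD1_c3 LD2_c53 LD3_c10)) = (LP (LK LD1_c7 LD2_c8 LD3_c38)) :=
  Lgr Lrot23 (Lpr_ct (K29.f482796 IH) (Lpr_ft (f526733 IH) (Lpr_ct (K47.f92550 IH) (Lpn (LP (LK LD1_c7 LD2_c8 LD3_c38))))))
theorem f526754 : Led Lsl_ft (LP (LK LD1_c7 LD2_c30 LD3_c35)) = (LP (LK LD1_c3 LD2_c45 LD3_c2)) :=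
  Lgr Lrot75 (Lpr_bf (K32.f482919 IH) (Lpr_ff (f526737 IH) (Lpe (K28.f466685 IH) (Lpn (LP (LK LD1_c3 LD2_c45 LD3_c2))))))
theorem f481750 : Led Lsl_et (LP (LK LD1_c1 LD2_c51 LD3_c10)) = (LP (LK LD1_c3 LD2_c48 LD3_c19)) :=
  Lre_e IH (LK LD1_c1 LD2_c51 LD3_c10) (LK LD1_c3 LD2_c48 LD3_c19) Lrfl Lrfl
theorem f526758 : Led Lsl_ef (LP (LK LD1_c7 LD2_c30 LD3_c35)) = (LP (LK LD1_c7 LD2_c37 LD3_c41)) :=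
  Lgr Lrot21 (Lpr_ft (f526754 IH) (Lpe (K28.f124891 IH) (Lpe (K34.f524209 IH) (Lpr_et (f481750 IH) (Lpr_ft (f481735 IH) (Lpn (LP (LK LD1_c7 LD2_c37 LD3_c41))))))))
theorem f94603 : Led Lsl_dt (LP (LK LD1_c3 LD2_c44 LD3_c52)) = (LP (LK LD1_c7 LD2_c30 LD3_c42)) :=
  Lre_d IH (LK LD1_c3 LD2_c44 LD3_c52) (LK LD1_c7 LD2_c30 LD3_c42) Lrfl Lrfl
theorem f512064 : Led Lsl_ft (LP (LK LD1_c3 LD2_c44 LD3_c52)) = (LP (LK LD1_c3 LD2_c40 LD3_c59)) :=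
  Lgr Lrot75 (Lpe (K28.f464319 IH) (Lpr_ff (K33.f512062 IH) (Lpr_bf (K28.f466217 IH) (Lpn (LP (LK LD1_c3 LD2_c40 LD3_c59))))))
theorem f94602 : Led Lsl_dt (LP (LK LD1_c7 LD2_c30 LD3_c42)) = (LP (LK LD1_c3 LD2_c44 LD3_c52)) :=
  Lre_d IH (LK LD1_c7 LD2_c30 LD3_c42) (LK LD1_c3 LD2_c44 LD3_c52) Lrfl Lrfl
theorem f514523 : Led Lsl_ff (LP (LK LD1_c7 LD2_c30 LD3_c42)) = (LP (LK LD1_c7 LD2_c22 LD3_c12)) :=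
  Lgr Lrot19 (Lpr_dt (f94602 IH) (Lpr_ft (f512064 IH) (Lpr_dt (K47.f108804 IH) (Lpn (LP (LK LD1_c7 LD2_c22 LD3_c12))))))
theorem f514525 : Led Lsl_ft (LP (LK LD1_c7 LD2_c30 LD3_c42)) = (LP (LK LD1_c7 LD2_c22 LD3_c12)) :=
  Lgr Lrot48 (Lpr_ff (f514523 IH) (Lpn (LP (LK LD1_c7 LD2_c22 LD3_c12))))
theorem f512144 : Led Lsl_at (LP (LK LD1_c3 LD2_c44 LD3_c52)) = (LP (LK LD1_c3 LD2_c40 LD3_c60)) :=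
  Lgr Lrot100 (Lpr_af (K33.f512129 IH) (Lpn (LP (LK LD1_c3 LD2_c40 LD3_c60))))
theorem f512058 : Led Lsl_ff (LP (LK LD1_c3 LD2_c44 LD3_c52)) = (LP (LK LD1_c3 LD2_c40 LD3_c59)) :=
  Lgr Lrot25 (Lpe (K28.f464317 IH) (Lpr_ft (K33.f512056 IH) (Lpr_bt (K28.f466219 IH) (Lpn (LP (LK LD1_c3 LD2_c40 LD3_c59))))))
theorem f512158 : Led Lsl_at (LP (LK LD1_c3 LD2_c30 LD3_c60)) = (LP (LK LD1_c3 LD2_c40 LD3_c59)) :=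
  Lgr Lrot66 (Lpr_ff (K33.f512156 IH) (Lpe (f512144 IH) (Lpr_ff (f512058 IH) (Lpn (LP (LK LD1_c3 LD2_c40 LD3_c59))))))
theorem f129750 : Led Lsl_dt (LP (LK LD1_c7 LD2_c3 LD3_c58)) = (LP (LK LD1_c3 LD2_c30 LD3_c60)) :=
  Lre_d IH (LK LD1_c7 LD2_c3 LD3_c58) (LK LD1_c3 LD2_c30 LD3_c60) Lrfl Lrfl
theorem f514517 : Led Lsl_af (LP (LK LD1_c7 LD2_c3 LD3_c58)) = (LP (LK LD1_c7 LD2_c22 LD3_c12)) :=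
  Lgr Lrot117 (Lpr_dt (f129750 IH) (Lpr_at (f512158 IH) (Lpr_dt (K47.f108804 IH) (Lpn (LP (LK LD1_c7 LD2_c22 LD3_c12))))))
theorem f129751 : Led Lsl_gt (LP (LK LD1_c13 LD2_c23 LD3_c43)) = (LP (LK LD1_c7 LD2_c3 LD3_c58)) :=
  Lre_g IH (LK LD1_c13 LD2_c23 LD3_c43) (LK LD1_c7 LD2_c3 LD3_c58) Lrfl Lrfl
theorem f514527 : Led Lsl_gt (LP (LK LD1_c7 LD2_c30 LD3_c42)) = (LP (LK LD1_c13 LD2_c23 LD3_c43)) :=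
  Lgr Lrot5 (Lpr_ft (f514525 IH) (Lpe (f514517 IH) (Lpe (f129751 IH) (Lpn (LP (LK LD1_c13 LD2_c23 LD3_c43))))))
theorem f526760 : Led Lsl_df (LP (LK LD1_c13 LD2_c23 LD3_c43)) = (LP (LK LD1_c7 LD2_c37 LD3_c41)) :=
  Lgr Lrot132 (Lpe (f514527 IH) (Lpe (f94603 IH) (Lpe (K28.f122026 IH) (Lpr_ef (K29.f468312 IH) (Lpe (K29.f473411 IH) (Lpe (K28.f63007 IH) (Lpe (K29.f62995 IH) (Lpr_et (f63009 IH) (Lpr_gf (K32.f464235 IH) (Lpr_ef (f526758 IH) (Lpn (LP (LK LD1_c7 LD2_c37 LD3_c41)))))))))))))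
theorem f526762 : Led Lsl_dt (LP (LK LD1_c13 LD2_c23 LD3_c43)) = (LP (LK LD1_c7 LD2_c37 LD3_c41)) :=
  Lgr Lrot42 (Lpr_df (f526760 IH) (Lpn (LP (LK LD1_c7 LD2_c37 LD3_c41))))
theorem f85226 : Led Lsl_et (LP (LK LD1_c3 LD2_c45 LD3_c0)) = (LP (LK LD1_c1 LD2_c49 LD3_c36)) :=
  Lre_e IH (LK LD1_c3 LD2_c45 LD3_c0) (LK LD1_c1 LD2_c49 LD3_c36) Lrfl Lrfl
theorem f477035 : Led Lsl_et (LP (LK LD1_c7 LD2_c52 LD3_c52)) = (LP (LK LD1_c3 LD2_c55 LD3_c30)) :=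
  Lre_e IH (LK LD1_c7 LD2_c52 LD3_c52) (LK LD1_c3 LD2_c55 LD3_c30) Lrfl Lrfl
theorem f664534 : Led Lsl_df (LP (LK LD1_c7 LD2_c52 LD3_c52)) = v7321 :=
  Lgr Lrot70 (Lpr_et (f477035 IH) (Lpr_dt (K34.f523730 IH) (Lpr_et (f85226 IH) (Lpr_dt (f85253 IH) (Lpr_et (f664531 IH) (Lpn v7321))))))
theorem f664541 : Led Lsl_af (LP (LK LD1_c13 LD2_c23 LD3_c43)) = (LP (LK LD1_c7 LD2_c52 LD3_c52)) :=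
  Lgr Lrot117 (Lpr_dt (f526762 IH) (Lpr_at (f664537 IH) (Lpe (f664534 IH) (Lpn (LP (LK LD1_c7 LD2_c52 LD3_c52))))))
theorem f664542 : Led Lsl_at (LP (LK LD1_c7 LD2_c52 LD3_c52)) = (LP (LK LD1_c13 LD2_c23 LD3_c43)) :=
  Leop (Lpr_af (f664541 IH) (Lpn (LP (LK LD1_c7 LD2_c52 LD3_c52))))
theorem seed_484 : LEOK LG_a (LK LD1_c7 LD2_c52 LD3_c52) :=
  Leoe_a (LK LD1_c7 LD2_c52 LD3_c52) (f664542 IH)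
theorem f664543 : Led Lsl_at (LP (LK LD1_c13 LD2_c23 LD3_c43)) = (LP (LK LD1_c7 LD2_c52 LD3_c52)) :=
  Lgr Lrot100 (Lpr_af (f664541 IH) (Lpn (LP (LK LD1_c7 LD2_c52 LD3_c52))))
theorem f526764 : Led Lsl_ft (LP (LK LD1_c13 LD2_c23 LD3_c43)) = (LP (LK LD1_c7 LD2_c37 LD3_c40)) :=
  Lgr Lrot54 (Lpr_df (f526760 IH) (Lpe (f481735 IH) (Lpe (K47.f108807 IH) (Lpn (LP (LK LD1_c7 LD2_c37 LD3_c40))))))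
theorem f526766 : Led Lsl_ff (LP (LK LD1_c13 LD2_c23 LD3_c43)) = (LP (LK LD1_c7 LD2_c37 LD3_c40)) :=
  Lgr Lrot3 (Lpr_ft (f526764 IH) (Lpn (LP (LK LD1_c7 LD2_c37 LD3_c40))))
def v7173 : LQ := Led Lsl_dt (LP (LK LD1_c3 LD2_c40 LD3_c60))
theorem f661683 : Led Lsl_dt (LP (LK LD1_c3 LD2_c40 LD3_c60)) = v7173 :=
  Lrfl
theorem f661687 : Led Lsl_ff (LP (LK LD1_c7 LD2_c3 LD3_c58)) = v7173 :=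
  Lgr Lrot19 (Lpr_dt (f129750 IH) (Lpr_ft (K33.f512148 IH) (Lpr_dt (f661683 IH) (Lpn v7173))))
theorem f514519 : Led Lsl_at (LP (LK LD1_c7 LD2_c3 LD3_c58)) = (LP (LK LD1_c7 LD2_c22 LD3_c12)) :=
  Lgr Lrot100 (Lpr_af (f514517 IH) (Lpn (LP (LK LD1_c7 LD2_c22 LD3_c12))))
theorem f661688 : Led Lsl_at (LP (LK LD1_c7 LD2_c30 LD3_c42)) = v7173 :=
  Lgr Lrot66 (Lpr_ff (f514523 IH) (Lpe (f514519 IH) (Lpr_ff (f661687 IH) (Lpn v7173))))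
theorem f661691 : Led Lsl_gt (LP (LK LD1_c7 LD2_c37 LD3_c40)) = v7173 :=
  Lgr Lrot46 (Lpr_gf (K47.f108805 IH) (Lpe (f514523 IH) (Lpr_at (f661688 IH) (Lpn v7173))))
theorem f664546 : Led Lsl_gt v7173 = (LP (LK LD1_c7 LD2_c52 LD3_c52)) :=
  Lgr Lrot46 (Lpe (f661691 IH) (Lpe (f526766 IH) (Lpr_at (f664543 IH) (Lpn (LP (LK LD1_c7 LD2_c52 LD3_c52))))))
theorem f664547 : Led Lsl_gf (LP (LK LD1_c7 LD2_c22 LD3_c12)) = (LP (LK LD1_c7 LD2_c52 LD3_c52)) :=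
  Lgr Lrot76 (Lpe (f514519 IH) (Lpr_ff (f661687 IH) (Lpr_gt (f664546 IH) (Lpn (LP (LK LD1_c7 LD2_c52 LD3_c52))))))
theorem f664548 : Led Lsl_gt (LP (LK LD1_c7 LD2_c52 LD3_c52)) = (LP (LK LD1_c7 LD2_c22 LD3_c12)) :=
  Leop (Lpr_gf (f664547 IH) (Lpn (LP (LK LD1_c7 LD2_c52 LD3_c52))))
theorem seed_485 : LEOK LG_g (LK LD1_c7 LD2_c52 LD3_c52) :=
  Leoe_g (LK LD1_c7 LD2_c52 LD3_c52) (f664548 IH)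
def v7344 : LQ := Led Lsl_dt (LP (LK LD1_c3 LD2_c45 LD3_c21))
theorem f664658 : Led Lsl_dt (LP (LK LD1_c3 LD2_c45 LD3_c21)) = v7344 :=
  Lrfl
theorem f664659 : Led Lsl_df (LP (LK LD1_c3 LD2_c45 LD3_c21)) = v7344 :=
  Lgr Lrot38 (Lpr_dt (f664658 IH) (Lpn v7344))
theorem f126263 : Led Lsl_gt (LP (LK LD1_c1 LD2_c49 LD3_c52)) = (LP (LK LD1_c3 LD2_c45 LD3_c25)) :=
  Lre_g IH (LK LD1_c1 LD2_c49 LD3_c52) (LK LD1_c3 LD2_c45 LD3_c25) Lrfl Lrfl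
theorem f664662 : Led Lsl_ef (LP (LK LD1_c3 LD2_c45 LD3_c25)) = v7344 :=
  Lgr Lrot17 (Lpe (f126263 IH) (Lpe (K34.f109205 IH) (Lpe (K3.f109202 IH) (Lpr_gf (K6.f109210 IH) (Lpe (K3.f93347 IH) (Lpr_gf (K30.f105605 IH) (Lpe (K5.f26229 IH) (Lpe (K5.f105623 IH) (Lpe (K46.f93354 IH) (Lpr_df (f664659 IH) (Lpn v7344)))))))))))
theorem f649367 : Led Lsl_dt K34.v2615 = K46.v5790 :=
  Lgr Lrot60 (Lpe (K34.f527788 IH) (Lpr_df (K34.f105636 IH) (Lpr_ff (K46.f649362 IH) (Lpn K46.v5790))))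
theorem f113049 : Led Lsl_dt (LP (LK LD1_c1 LD2_c35 LD3_c37)) = (LP (LK LD1_c3 LD2_c18 LD3_c17)) :=
  Lre_d IH (LK LD1_c1 LD2_c35 LD3_c37) (LK LD1_c3 LD2_c18 LD3_c17) Lrfl Lrfl
theorem f113048 : Led Lsl_gt (LP (LK LD1_c3 LD2_c18 LD3_c17)) = (LP (LK LD1_c6 LD2_c36 LD3_c6)) :=
  Lre_g IH (LK LD1_c3 LD2_c18 LD3_c17) (LK LD1_c6 LD2_c36 LD3_c6) Lrfl Lrfl
theorem f113029 : Led Lsl_et (LP (LK LD1_c1 LD2_c34 LD3_c54)) = (LP (LK LD1_c0 LD2_c44 LD3_c9)) :=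
  Lre_e IH (LK LD1_c1 LD2_c34 LD3_c54) (LK LD1_c0 LD2_c44 LD3_c9) Lrfl Lrfl
theorem f113031 : Led Lsl_gt (LP (LK LD1_c6 LD2_c36 LD3_c6)) = (LP (LK LD1_c3 LD2_c16 LD3_c21)) :=
  Lre_g IH (LK LD1_c6 LD2_c36 LD3_c6) (LK LD1_c3 LD2_c16 LD3_c21) Lrfl Lrfl
theorem f93473 : Led Lsl_et (LP (LK LD1_c1 LD2_c27 LD3_c6)) = (LP (LK LD1_c3 LD2_c2 LD3_c14)) :=
  Lre_e IH (LK LD1_c1 LD2_c27 LD3_c6) (LK LD1_c3 LD2_c2 LD3_c14) Lrfl Lrfl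
theorem f113032 : Led Lsl_gt (LP (LK LD1_c3 LD2_c2 LD3_c14)) = (LP (LK LD1_c6 LD2_c11 LD3_c13)) :=
  Lre_g IH (LK LD1_c3 LD2_c2 LD3_c14) (LK LD1_c6 LD2_c11 LD3_c13) Lrfl Lrfl
theorem f113033 : Led Lsl_et (LP (LK LD1_c12 LD2_c2 LD3_c46)) = (LP (LK LD1_c6 LD2_c11 LD3_c13)) :=
  Lre_e IH (LK LD1_c12 LD2_c2 LD3_c46) (LK LD1_c6 LD2_c11 LD3_c13) Lrfl Lrfl
theorem f113034 : Led Lsl_df (LP (LK LD1_c6 LD2_c36 LD3_c6)) = (LP (LK LD1_c12 LD2_c2 LD3_c46)) :=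
  Lgr Lrot170 (Lpr_gt (f113031 IH) (Lpe (K46.f113030 IH) (Lpr_et (f113029 IH) (Lpr_gt (K3.f63841 IH) (Lpe (K44.f113024 IH) (Lpr_gt (K4.f112090 IH) (Lpe (K3.f62841 IH) (Lpr_et (f93473 IH) (Lpr_gt (f113032 IH) (Lpe (f113033 IH) (Lpn (LP (LK LD1_c12 LD2_c2 LD3_c46)))))))))))))
theorem f113038 : Led Lsl_dt (LP (LK LD1_c6 LD2_c36 LD3_c6)) = (LP (LK LD1_c12 LD2_c2 LD3_c46)) :=
  Lgr Lrot42 (Lpr_df (f113034 IH) (Lpn (LP (LK LD1_c12 LD2_c2 LD3_c46))))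
theorem f664660 : Led Lsl_ct (LP (LK LD1_c12 LD2_c2 LD3_c46)) = v7344 :=
  Lgr Lrot7 (Lpe (f113038 IH) (Lpe (f113048 IH) (Lpe (f113049 IH) (Lpe (K46.f113050 IH) (Lpe (K46.f414281 IH) (Lpr_gt (K46.f651186 IH) (Lpr_dt (f649367 IH) (Lpe (K46.f649369 IH) (Lpr_dt (f664658 IH) (Lpn v7344))))))))))
theorem f113040 : Led Lsl_et (LP (LK LD1_c6 LD2_c11 LD3_c13)) = (LP (LK LD1_c12 LD2_c2 LD3_c46)) :=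
  Lre_e IH (LK LD1_c6 LD2_c11 LD3_c13) (LK LD1_c12 LD2_c2 LD3_c46) Lrfl Lrfl
theorem f664663 : Led Lsl_ct (LP (LK LD1_c3 LD2_c45 LD3_c25)) = (LP (LK LD1_c6 LD2_c11 LD3_c13)) :=
  Lgr Lrot15 (Lpr_ef (f664662 IH) (Lpe (f664660 IH) (Lpe (f113040 IH) (Lpn (LP (LK LD1_c6 LD2_c11 LD3_c13))))))
theorem f664664 : Led Lsl_ct (LP (LK LD1_c3 LD2_c45 LD3_c25)) = (LP (LK LD1_c6 LD2_c11 LD3_c13)) :=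
  Leop (Lpe (f664663 IH) (Lpn (LP (LK LD1_c3 LD2_c45 LD3_c25))))
theorem seed_486 : LEOK LG_c (LK LD1_c3 LD2_c45 LD3_c25) :=
  Leoe_c (LK LD1_c3 LD2_c45 LD3_c25) (f664664 IH)
def v7418 : LQ := Led Lsl_dt (LP (LK LD1_c3 LD2_c46 LD3_c55))
theorem f665035 : Led Lsl_dt (LP (LK LD1_c3 LD2_c46 LD3_c55)) = v7418 :=
  Lrfl
theorem f665036 : Led Lsl_df (LP (LK LD1_c3 LD2_c46 LD3_c55)) = v7418 :=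
  Lgr Lrot38 (Lpr_dt (f665035 IH) (Lpn v7418))
def v6783 : LQ := Led Lsl_ft (LP (LK LD1_c3 LD2_c29 LD3_c29))
theorem f658432 : Led Lsl_ft (LP (LK LD1_c3 LD2_c29 LD3_c29)) = v6783 :=
  Lrfl
theorem f658435 : Led Lsl_ff (LP (LK LD1_c3 LD2_c29 LD3_c29)) = v6783 :=
  Lgr Lrot3 (Lpr_ft (f658432 IH) (Lpn v6783))
theorem f88376 : Led Lsl_dt (LP (LK LD1_c1 LD2_c50 LD3_c32)) = (LP (LK LD1_c0 LD2_c52 LD3_c9)) :=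
  Lre_d IH (LK LD1_c1 LD2_c50 LD3_c32) (LK LD1_c0 LD2_c52 LD3_c9) Lrfl Lrfl
theorem f120575 : Led Lsl_af (LP (LK LD1_c1 LD2_c50 LD3_c32)) = (LP (LK LD1_c3 LD2_c29 LD3_c29)) :=
  Lgr Lrot117 (Lpr_dt (f88376 IH) (Lpr_at (K29.f120543 IH) (Lpr_dt (K34.f89313 IH) (Lpn (LP (LK LD1_c3 LD2_c29 LD3_c29))))))
def v2642 : LQ := Led Lsl_ft (LP (LK LD1_c1 LD2_c50 LD3_c32))
theorem f530006 : Led Lsl_ft (LP (LK LD1_c1 LD2_c50 LD3_c32)) = v2642 :=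
  Lrfl
theorem f658442 : Led Lsl_at v2642 = v6783 :=
  Lgr Lrot66 (Lpe (f530006 IH) (Lpr_af (f120575 IH) (Lpr_ff (f658435 IH) (Lpn v6783))))
theorem f92375 : Led Lsl_gt (LP (LK LD1_c1 LD2_c50 LD3_c32)) = (LP (LK LD1_c3 LD2_c46 LD3_c55)) :=
  Lre_g IH (LK LD1_c1 LD2_c50 LD3_c32) (LK LD1_c3 LD2_c46 LD3_c55) Lrfl Lrfl
theorem f658449 : Led Lsl_gt (LP (LK LD1_c3 LD2_c46 LD3_c55)) = v6783 :=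
  Lgr Lrot46 (Lpe (f92375 IH) (Lpr_ft (f530006 IH) (Lpr_at (f658442 IH) (Lpn v6783))))
theorem f120549 : Led Lsl_dt (LP (LK LD1_c3 LD2_c29 LD3_c29)) = (LP (LK LD1_c1 LD2_c41 LD3_c28)) :=
  Lre_d IH (LK LD1_c3 LD2_c29 LD3_c29) (LK LD1_c1 LD2_c41 LD3_c28) Lrfl Lrfl
theorem f658443 : Led Lsl_dt K33.v2301 = v6783 :=
  Lgr Lrot60 (Lpe (K33.f511957 IH) (Lpe (f120549 IH) (Lpr_ff (f658435 IH) (Lpn v6783))))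
theorem f511960 : Led Lsl_ef (LP (LK LD1_c1 LD2_c50 LD3_c10)) = K33.v2301 :=
  Lgr Lrot21 (Lpr_ft (K29.f109646 IH) (Lpr_et (K33.f89132 IH) (Lpr_ft (K29.f120355 IH) (Lpr_et (K29.f96180 IH) (Lpr_ft (K33.f511957 IH) (Lpn K33.v2301))))))
theorem f665041 : Led Lsl_ef (LP (LK LD1_c3 LD2_c52 LD3_c55)) = v7418 :=
  Lgr Lrot17 (Lpe (K29.f468639 IH) (Lpe (K29.f474051 IH) (Lpr_dt (K30.f473638 IH) (Lpe (K29.f474430 IH) (Lpe (K29.f441375 IH) (Lpr_gf (K29.f441373 IH) (Lpr_ef (f511960 IH) (Lpr_dt (f658443 IH) (Lpe (f658449 IH) (Lpr_df (f665036 IH) (Lpn v7418)))))))))))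
theorem f520429 : Led Lsl_ff (LP (LK LD1_c3 LD2_c52 LD3_c60)) = (LP (LK LD1_c3 LD2_c52 LD3_c55)) :=
  Lgr Lrot23 (Lpe (K29.f461911 IH) (Lpr_ft (K33.f520427 IH) (Lpe (K29.f463711 IH) (Lpn (LP (LK LD1_c3 LD2_c52 LD3_c55))))))
theorem f520079 : Led Lsl_ff (LP (LK LD1_c1 LD2_c51 LD3_c47)) = (LP (LK LD1_c3 LD2_c47 LD3_c13)) :=
  Lgr Lrot25 (Lpr_bt (K33.f487951 IH) (Lpr_ft (K33.f520077 IH) (Lpr_bt (K33.f12052 IH) (Lpn (LP (LK LD1_c3 LD2_c47 LD3_c13))))))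
theorem f665043 : Led Lsl_ft K34.v2665 = v7418 :=
  Lgr Lrot86 (Lpe (K34.f530185 IH) (Lpr_ff (f520079 IH) (Lpe (K33.f477331 IH) (Lpr_ff (f520429 IH) (Lpr_ef (f665041 IH) (Lpn v7418))))))
theorem f530189 : Led Lsl_dt (LP (LK LD1_c7 LD2_c0 LD3_c38)) = K34.v2665 :=
  Lgr Lrot42 (Lpr_df (K34.f530187 IH) (Lpn K34.v2665))
theorem f665044 : Led Lsl_ff (LP (LK LD1_c7 LD2_c0 LD3_c38)) = (LP (LK LD1_c3 LD2_c46 LD3_c55)) :=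
  Lgr Lrot19 (Lpr_dt (f530189 IH) (Lpr_ft (f665043 IH) (Lpe (f665036 IH) (Lpn (LP (LK LD1_c3 LD2_c46 LD3_c55))))))
theorem f665045 : Led Lsl_ft (LP (LK LD1_c3 LD2_c46 LD3_c55)) = (LP (LK LD1_c7 LD2_c0 LD3_c38)) :=
  Leop (Lpr_ff (f665044 IH) (Lpn (LP (LK LD1_c3 LD2_c46 LD3_c55))))
theorem seed_487 : LEOK LG_f (LK LD1_c3 LD2_c46 LD3_c55) :=
  Leoe_f (LK LD1_c3 LD2_c46 LD3_c55) (f665045 IH)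
def v7425 : LQ := Led Lsl_et (LP (LK LD1_c3 LD2_c47 LD3_c6))
theorem f665340 : Led Lsl_et (LP (LK LD1_c3 LD2_c47 LD3_c6)) = v7425 :=
  Lrfl
theorem f451094 : Led Lsl_ct (LP (LK LD1_c0 LD2_c52 LD3_c33)) = (LP (LK LD1_c1 LD2_c51 LD3_c27)) :=
  Lre_c IH (LK LD1_c0 LD2_c52 LD3_c33) (LK LD1_c1 LD2_c51 LD3_c27) Lrfl Lrfl
theorem f482032 : Led Lsl_ff (LP (LK LD1_c3 LD2_c47 LD3_c6)) = (LP (LK LD1_c1 LD2_c51 LD3_c27)) :=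
  Lgr Lrot23 (Lpr_ct (K29.f442359 IH) (Lpqs (K33.f467693 IH) (Lpe (K33.f459796 IH) (Lpr_ct (f451094 IH) (Lpn (LP (LK LD1_c1 LD2_c51 LD3_c27)))))))
theorem f481963 : Led Lsl_ft (LP (LK LD1_c3 LD2_c46 LD3_c18)) = (LP (LK LD1_c3 LD2_c48 LD3_c58)) :=
  Lgr Lrot48 (Lpr_ff (K32.f481949 IH) (Lpn (LP (LK LD1_c3 LD2_c48 LD3_c58))))
def v7387 : LQ := Led Lsl_et (LP (LK LD1_c3 LD2_c46 LD3_c18))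
theorem f664860 : Led Lsl_et (LP (LK LD1_c3 LD2_c46 LD3_c18)) = v7387 :=
  Lrfl
theorem f664863 : Led Lsl_ef (LP (LK LD1_c3 LD2_c46 LD3_c18)) = v7387 :=
  Lgr Lrot88 (Lpr_et (f664860 IH) (Lpn v7387))
theorem f665344 : Led Lsl_ff v7387 = v7425 :=
  Lgr Lrot72 (Lpe (f664863 IH) (Lpr_ft (f481963 IH) (Lpr_et (K37.f481982 IH) (Lpe (f482032 IH) (Lpr_et (f665340 IH) (Lpn v7425))))))
def v2625 : LQ := Led Lsl_et (LP (LK LD1_c1 LD2_c50 LD3_c12))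
theorem f527928 : Led Lsl_et (LP (LK LD1_c1 LD2_c50 LD3_c12)) = v2625 :=
  Lrfl
theorem f527931 : Led Lsl_ef (LP (LK LD1_c1 LD2_c50 LD3_c12)) = v2625 :=
  Lgr Lrot88 (Lpr_et (f527928 IH) (Lpn v2625))
theorem f664862 : Led Lsl_cf v2625 = v7387 :=
  Lgr Lrot39 (Lpe (f527931 IH) (Lpr_ct (K29.f85275 IH) (Lpr_et (f664860 IH) (Lpn v7387))))
def v2647 : LQ := Led Lsl_et (LP (LK LD1_c1 LD2_c50 LD3_c40))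
theorem f530065 : Led Lsl_et (LP (LK LD1_c1 LD2_c50 LD3_c40)) = v2647 :=
  Lrfl
theorem f62730 : Led Lsl_ct (LP (LK LD1_c1 LD2_c51 LD3_c29)) = (LP (LK LD1_c3 LD2_c48 LD3_c58)) :=
  Lre_c IH (LK LD1_c1 LD2_c51 LD3_c29) (LK LD1_c3 LD2_c48 LD3_c58) Lrfl Lrfl
theorem f481961 : Led Lsl_ft (LP (LK LD1_c1 LD2_c50 LD3_c12)) = (LP (LK LD1_c1 LD2_c51 LD3_c29)) :=
  Lgr Lrot4 (Lpe (K29.f85271 IH) (Lpr_ff (K32.f481949 IH) (Lpe (f62730 IH) (Lpn (LP (LK LD1_c1 LD2_c51 LD3_c29))))))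
theorem f530068 : Led Lsl_ff v2625 = v2647 :=
  Lgr Lrot72 (Lpe (f527931 IH) (Lpr_ft (f481961 IH) (Lpr_et (K28.f62692 IH) (Lpr_ft (K33.f459794 IH) (Lpq (K33.f467693 IH) (Lpr_et (f530065 IH) (Lpn v2647)))))))
theorem f530070 : Led Lsl_ft v2625 = v2647 :=
  Lgr Lrot48 (Lpr_ff (f530068 IH) (Lpn v2647))
theorem f665346 : Led Lsl_ct v2647 = v7425 :=
  Lgr Lrot40 (Lpe (f530070 IH) (Lpr_cf (f664862 IH) (Lpr_ff (f665344 IH) (Lpn v7425))))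
def v6813 : LQ := Led Lsl_gt (LP (LK LD1_c3 LD2_c31 LD3_c0))
theorem f658613 : Led Lsl_gt (LP (LK LD1_c3 LD2_c31 LD3_c0)) = v6813 :=
  Lrfl
theorem f18576 : Led Lsl_dt (LP (LK LD1_c1 LD2_c42 LD3_c2)) = (LP (LK LD1_c3 LD2_c31 LD3_c0)) :=
  Lre_d IH (LK LD1_c1 LD2_c42 LD3_c2) (LK LD1_c3 LD2_c31 LD3_c0) Lrfl Lrfl
theorem f87584 : Led Lsl_et (LP (LK LD1_c0 LD2_c21 LD3_c14)) = (LP (LK LD1_c0 LD2_c47 LD3_c31)) :=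
  Lre_e IH (LK LD1_c0 LD2_c21 LD3_c14) (LK LD1_c0 LD2_c47 LD3_c31) Lrfl Lrfl
theorem f530067 : Led Lsl_ef (LP (LK LD1_c1 LD2_c50 LD3_c40)) = v2647 :=
  Lgr Lrot88 (Lpr_et (f530065 IH) (Lpn v2647))
theorem f658618 : Led Lsl_dt v2647 = v6813 :=
  Lgr Lrot56 (Lpe (f530067 IH) (Lpr_gt (K29.f88618 IH) (Lpe (K2.f87671 IH) (Lpr_dt (K3.f87669 IH) (Lpr_gt (K2.f87566 IH) (Lpe (K1.f20960 IH) (Lpr_et (f87584 IH) (Lpr_gt (K28.f18575 IH) (Lpr_dt (f18576 IH) (Lpr_gt (f658613 IH) (Lpn v6813)))))))))))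
theorem f658620 : Led Lsl_df v2647 = v6813 :=
  Lgr Lrot38 (Lpr_dt (f658618 IH) (Lpn v6813))
theorem f19069 : Led Lsl_dt (LP (LK LD1_c3 LD2_c30 LD3_c32)) = (LP (LK LD1_c7 LD2_c3 LD3_c1)) :=
  Lre_d IH (LK LD1_c3 LD2_c30 LD3_c32) (LK LD1_c7 LD2_c3 LD3_c1) Lrfl Lrfl
theorem f93485 : Led Lsl_gt (LP (LK LD1_c7 LD2_c3 LD3_c1)) = (LP (LK LD1_c13 LD2_c22 LD3_c19)) :=
  Lre_g IH (LK LD1_c7 LD2_c3 LD3_c1) (LK LD1_c13 LD2_c22 LD3_c19) Lrfl Lrfl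
theorem f665348 : Led Lsl_dt (LP (LK LD1_c13 LD2_c22 LD3_c19)) = v7425 :=
  Lgr Lrot113 (Lpe (f93485 IH) (Lpe (f19069 IH) (Lpe (K28.f19068 IH) (Lpr_ct (K41.f18604 IH) (Lpr_gt (K28.f18575 IH) (Lpr_dt (f18576 IH) (Lpr_gt (f658613 IH) (Lpe (f658620 IH) (Lpr_ct (f665346 IH) (Lpn v7425))))))))))
theorem f665341 : Led Lsl_af (LP (LK LD1_c3 LD2_c48 LD3_c61)) = v7425 :=
  Lgr Lrot50 (Lpr_et (K29.f467715 IH) (Lpe (K29.f467816 IH) (Lpr_et (f665340 IH) (Lpn v7425))))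
theorem f467712 : Led Lsl_dt (LP (LK LD1_c3 LD2_c48 LD3_c61)) = (LP (LK LD1_c7 LD2_c39 LD3_c8)) :=
  Lre_d IH (LK LD1_c3 LD2_c48 LD3_c61) (LK LD1_c7 LD2_c39 LD3_c8) Lrfl Lrfl
theorem f665349 : Led Lsl_af (LP (LK LD1_c13 LD2_c22 LD3_c19)) = (LP (LK LD1_c7 LD2_c39 LD3_c8)) :=
  Lgr Lrot117 (Lpr_dt (f665348 IH) (Lpe (f665341 IH) (Lpr_dt (f467712 IH) (Lpn (LP (LK LD1_c7 LD2_c39 LD3_c8))))))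
theorem f665350 : Led Lsl_at (LP (LK LD1_c7 LD2_c39 LD3_c8)) = (LP (LK LD1_c13 LD2_c22 LD3_c19)) :=
  Leop (Lpr_af (f665349 IH) (Lpn (LP (LK LD1_c7 LD2_c39 LD3_c8))))
theorem seed_488 : LEOK LG_a (LK LD1_c7 LD2_c39 LD3_c8) :=
  Leoe_a (LK LD1_c7 LD2_c39 LD3_c8) (f665350 IH)
def v7430 : LQ := Led Lsl_ft (LP (LK LD1_c3 LD2_c47 LD3_c14))
theorem f665457 : Led Lsl_ft (LP (LK LD1_c3 LD2_c47 LD3_c14)) = v7430 :=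
  Lrfl
theorem f665460 : Led Lsl_ff (LP (LK LD1_c3 LD2_c47 LD3_c14)) = v7430 :=
  Lgr Lrot3 (Lpr_ft (f665457 IH) (Lpn v7430))
theorem f665463 : Led Lsl_gf (LP (LK LD1_c3 LD2_c49 LD3_c41)) = v7430 :=
  Lgr Lrot47 (Lpr_gt (K5.f87939 IH) (Lpe (K2.f89206 IH) (Lpr_ff (f665460 IH) (Lpn v7430))))
theorem f517938 : Led Lsl_ft (LP (LK LD1_c3 LD2_c49 LD3_c40)) = (LP (LK LD1_c7 LD2_c35 LD3_c19)) :=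
  Lgr Lrot54 (Lpe (K47.f92657 IH) (Lpr_ff (K47.f517932 IH) (Lpe (K47.f103972 IH) (Lpn (LP (LK LD1_c7 LD2_c35 LD3_c19))))))
theorem f517982 : Led Lsl_af (LP (LK LD1_c3 LD2_c49 LD3_c41)) = (LP (LK LD1_c7 LD2_c35 LD3_c19)) :=
  Lgr Lrot45 (Lpr_ft (K47.f517980 IH) (Lpe (K47.f517955 IH) (Lpr_ft (f517938 IH) (Lpn (LP (LK LD1_c7 LD2_c35 LD3_c19))))))
theorem f665464 : Led Lsl_gt (LP (LK LD1_c3 LD2_c49 LD3_c40)) = v7430 :=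
  Lgr Lrot5 (Lpr_ft (f517938 IH) (Lpe (f517982 IH) (Lpr_gf (f665463 IH) (Lpn v7430))))
theorem f461605 : Led Lsl_et (LP (LK LD1_c7 LD2_c40 LD3_c16)) = (LP (LK LD1_c3 LD2_c49 LD3_c40)) :=
  Lre_e IH (LK LD1_c7 LD2_c40 LD3_c16) (LK LD1_c3 LD2_c49 LD3_c40) Lrfl Lrfl
theorem f461615 : Led Lsl_dt (LP (LK LD1_c7 LD2_c40 LD3_c16)) = (LP (LK LD1_c14 LD2_c27 LD3_c45)) :=
  Lre_d IH (LK LD1_c7 LD2_c40 LD3_c16) (LK LD1_c14 LD2_c27 LD3_c45) Lrfl Lrfl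
theorem f517120 : Led Lsl_gt (LP (LK LD1_c24 LD2_c8 LD3_c36)) = (LP (LK LD1_c14 LD2_c27 LD3_c45)) :=
  Lre_g IH (LK LD1_c24 LD2_c8 LD3_c36) (LK LD1_c14 LD2_c27 LD3_c45) Lrfl Lrfl
def v2650 : LQ := Led Lsl_ft (LP (LK LD1_c1 LD2_c50 LD3_c44))
theorem f530090 : Led Lsl_ft (LP (LK LD1_c1 LD2_c50 LD3_c44)) = v2650 :=
  Lrfl
theorem f530094 : Led Lsl_ff (LP (LK LD1_c1 LD2_c50 LD3_c44)) = v2650 :=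
  Lgr Lrot3 (Lpr_ft (f530090 IH) (Lpn v2650))
theorem f665459 : Led Lsl_df v2650 = v7430 :=
  Lgr Lrot78 (Lpe (f530094 IH) (Lpr_dt (K2.f12065 IH) (Lpr_ft (f665457 IH) (Lpn v7430))))
theorem f89202 : Led Lsl_at (LP (LK LD1_c1 LD2_c50 LD3_c44)) = (LP (LK LD1_c0 LD2_c52 LD3_c41)) :=
  Lgr Lrot100 (Lpr_af (K2.f89199 IH) (Lpn (LP (LK LD1_c0 LD2_c52 LD3_c41))))
theorem f530098 : Led Lsl_gf (LP (LK LD1_c1 LD2_c51 LD3_c48)) = v2650 :=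
  Lgr Lrot47 (Lpr_gt (K29.f87813 IH) (Lpe (f89202 IH) (Lpr_ff (f530094 IH) (Lpn v2650))))
theorem f461721 : Led Lsl_et (LP (LK LD1_c3 LD2_c49 LD3_c38)) = (LP (LK LD1_c7 LD2_c40 LD3_c12)) :=
  Lre_e IH (LK LD1_c3 LD2_c49 LD3_c38) (LK LD1_c7 LD2_c40 LD3_c12) Lrfl Lrfl
theorem f461698 : Led Lsl_gt (LP (LK LD1_c7 LD2_c40 LD3_c12)) = (LP (LK LD1_c14 LD2_c27 LD3_c36)) :=
  Lre_g IH (LK LD1_c7 LD2_c40 LD3_c12) (LK LD1_c14 LD2_c27 LD3_c36) Lrfl Lrfl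
theorem f520500 : Led Lsl_et (LP (LK LD1_c24 LD2_c8 LD3_c24)) = (LP (LK LD1_c14 LD2_c27 LD3_c36)) :=
  Lre_e IH (LK LD1_c24 LD2_c8 LD3_c24) (LK LD1_c14 LD2_c27 LD3_c36) Lrfl Lrfl
theorem f665465 : Led Lsl_df (LP (LK LD1_c24 LD2_c8 LD3_c36)) = (LP (LK LD1_c24 LD2_c8 LD3_c24)) :=
  Lgr Lrot170 (Lpr_gt (f517120 IH) (Lpe (f461615 IH) (Lpr_et (f461605 IH) (Lpr_gt (f665464 IH) (Lpe (f665459 IH) (Lpe (f530098 IH) (Lpe (K33.f451102 IH) (Lpr_et (f461721 IH) (Lpr_gt (f461698 IH) (Lpe (f520500 IH) (Lpn (LP (LK LD1_c24 LD2_c8 LD3_c24)))))))))))))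
theorem f665466 : Led Lsl_dt (LP (LK LD1_c24 LD2_c8 LD3_c24)) = (LP (LK LD1_c24 LD2_c8 LD3_c36)) :=
  Leop (Lpr_df (f665465 IH) (Lpn (LP (LK LD1_c24 LD2_c8 LD3_c24))))
theorem seed_489 : LEOK LG_d (LK LD1_c24 LD2_c8 LD3_c24) :=
  Leoe_d (LK LD1_c24 LD2_c8 LD3_c24) (f665466 IH)
def v7435 : LQ := Led Lsl_ft (LP (LK LD1_c3 LD2_c47 LD3_c28))
theorem f665518 : Led Lsl_ft (LP (LK LD1_c3 LD2_c47 LD3_c28)) = v7435 :=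
  Lrfl
theorem f665521 : Led Lsl_ff (LP (LK LD1_c3 LD2_c47 LD3_c28)) = v7435 :=
  Lgr Lrot3 (Lpr_ft (f665518 IH) (Lpn v7435))
theorem f665524 : Led Lsl_gf (LP (LK LD1_c3 LD2_c50 LD3_c44)) = v7435 :=
  Lgr Lrot47 (Lpr_gt (K47.f12324 IH) (Lpe (K3.f110105 IH) (Lpr_ff (f665521 IH) (Lpn v7435))))
theorem f466866 : Led Lsl_af (LP (LK LD1_c7 LD2_c33 LD3_c38)) = (LP (LK LD1_c7 LD2_c24 LD3_c46)) :=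
  Lgr Lrot0 (Lpr_at (K29.f466854 IH) (Lpn (LP (LK LD1_c7 LD2_c24 LD3_c46))))
theorem f466911 : Led Lsl_dt (LP (LK LD1_c14 LD2_c1 LD3_c19)) = (LP (LK LD1_c7 LD2_c24 LD3_c46)) :=
  Lre_d IH (LK LD1_c14 LD2_c1 LD3_c19) (LK LD1_c7 LD2_c24 LD3_c46) Lrfl Lrfl
theorem f478421 : Led Lsl_at (LP (LK LD1_c7 LD2_c42 LD3_c34)) = (LP (LK LD1_c14 LD2_c1 LD3_c19)) :=
  Lgr Lrot51 (Lpr_df (K47.f478409 IH) (Lpr_af (f466866 IH) (Lpe (f466911 IH) (Lpn (LP (LK LD1_c14 LD2_c1 LD3_c19))))))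
theorem f478445 : Led Lsl_et (LP (LK LD1_c14 LD2_c1 LD3_c19)) = (LP (LK LD1_c7 LD2_c24 LD3_c49)) :=
  Lre_e IH (LK LD1_c14 LD2_c1 LD3_c19) (LK LD1_c7 LD2_c24 LD3_c49) Lrfl Lrfl
theorem f478446 : Led Lsl_af (LP (LK LD1_c3 LD2_c50 LD3_c44)) = (LP (LK LD1_c7 LD2_c24 LD3_c49)) :=
  Lgr Lrot50 (Lpr_et (K47.f478326 IH) (Lpr_at (f478421 IH) (Lpr_et (f478445 IH) (Lpn (LP (LK LD1_c7 LD2_c24 LD3_c49))))))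
theorem f665525 : Led Lsl_gt (LP (LK LD1_c3 LD2_c50 LD3_c43)) = v7435 :=
  Lgr Lrot5 (Lpr_ft (f662004 IH) (Lpe (f478446 IH) (Lpr_gf (f665524 IH) (Lpn v7435))))
theorem f487337 : Led Lsl_et (LP (LK LD1_c7 LD2_c42 LD3_c32)) = (LP (LK LD1_c3 LD2_c50 LD3_c43)) :=
  Lre_e IH (LK LD1_c7 LD2_c42 LD3_c32) (LK LD1_c3 LD2_c50 LD3_c43) Lrfl Lrfl
theorem f487336 : Led Lsl_dt (LP (LK LD1_c7 LD2_c42 LD3_c32)) = (LP (LK LD1_c14 LD2_c31 LD3_c54)) :=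
  Lre_d IH (LK LD1_c7 LD2_c42 LD3_c32) (LK LD1_c14 LD2_c31 LD3_c54) Lrfl Lrfl
theorem f628399 : Led Lsl_gt (LP (LK LD1_c24 LD2_c13 LD3_c52)) = (LP (LK LD1_c14 LD2_c31 LD3_c54)) :=
  Lre_g IH (LK LD1_c24 LD2_c13 LD3_c52) (LK LD1_c14 LD2_c31 LD3_c54) Lrfl Lrfl
def v2652 : LQ := Led Lsl_ft (LP (LK LD1_c1 LD2_c50 LD3_c50))
theorem f530111 : Led Lsl_ft (LP (LK LD1_c1 LD2_c50 LD3_c50)) = v2652 :=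
  Lrfl
theorem f530114 : Led Lsl_ff (LP (LK LD1_c1 LD2_c50 LD3_c50)) = v2652 :=
  Lgr Lrot3 (Lpr_ft (f530111 IH) (Lpn v2652))
theorem f665520 : Led Lsl_df v2652 = v7435 :=
  Lgr Lrot78 (Lpe (f530114 IH) (Lpr_dt (K3.f63711 IH) (Lpr_ft (f665518 IH) (Lpn v7435))))
theorem f110097 : Led Lsl_at (LP (LK LD1_c1 LD2_c50 LD3_c50)) = (LP (LK LD1_c0 LD2_c52 LD3_c52)) :=
  Lgr Lrot100 (Lpr_af (K3.f110095 IH) (Lpn (LP (LK LD1_c0 LD2_c52 LD3_c52))))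
theorem f530117 : Led Lsl_gf (LP (LK LD1_c1 LD2_c51 LD3_c51)) = v2652 :=
  Lgr Lrot47 (Lpr_gt (K33.f443604 IH) (Lpe (f110097 IH) (Lpr_ff (f530114 IH) (Lpn v2652))))
theorem f443577 : Led Lsl_dt (LP (LK LD1_c3 LD2_c49 LD3_c45)) = (LP (LK LD1_c1 LD2_c51 LD3_c51)) :=
  Lre_d IH (LK LD1_c3 LD2_c49 LD3_c45) (LK LD1_c1 LD2_c51 LD3_c51) Lrfl Lrfl
theorem f443524 : Led Lsl_et (LP (LK LD1_c3 LD2_c49 LD3_c45)) = (LP (LK LD1_c7 LD2_c40 LD3_c27)) :=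
  Lre_e IH (LK LD1_c3 LD2_c49 LD3_c45) (LK LD1_c7 LD2_c40 LD3_c27) Lrfl Lrfl
theorem f443559 : Led Lsl_gt (LP (LK LD1_c7 LD2_c40 LD3_c27)) = (LP (LK LD1_c14 LD2_c28 LD3_c8)) :=
  Lre_g IH (LK LD1_c7 LD2_c40 LD3_c27) (LK LD1_c14 LD2_c28 LD3_c8) Lrfl Lrfl
theorem f487705 : Led Lsl_et (LP (LK LD1_c24 LD2_c9 LD3_c12)) = (LP (LK LD1_c14 LD2_c28 LD3_c8)) :=
  Lre_e IH (LK LD1_c24 LD2_c9 LD3_c12) (LK LD1_c14 LD2_c28 LD3_c8) Lrfl Lrfl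
theorem f665526 : Led Lsl_df (LP (LK LD1_c24 LD2_c13 LD3_c52)) = (LP (LK LD1_c24 LD2_c9 LD3_c12)) :=
  Lgr Lrot170 (Lpr_gt (f628399 IH) (Lpe (f487336 IH) (Lpr_et (f487337 IH) (Lpr_gt (f665525 IH) (Lpe (f665520 IH) (Lpe (f530117 IH) (Lpe (f443577 IH) (Lpr_et (f443524 IH) (Lpr_gt (f443559 IH) (Lpe (f487705 IH) (Lpn (LP (LK LD1_c24 LD2_c9 LD3_c12)))))))))))))
theorem f665527 : Led Lsl_dt (LP (LK LD1_c24 LD2_c9 LD3_c12)) = (LP (LK LD1_c24 LD2_c13 LD3_c52)) :=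
  Leop (Lpr_df (f665526 IH) (Lpn (LP (LK LD1_c24 LD2_c9 LD3_c12))))
theorem seed_490 : LEOK LG_d (LK LD1_c24 LD2_c9 LD3_c12) :=
  Leoe_d (LK LD1_c24 LD2_c9 LD3_c12) (f665527 IH)
def v7470 : LQ := Led Lsl_gt (LP (LK LD1_c3 LD2_c48 LD3_c51))
theorem f665748 : Led Lsl_gt (LP (LK LD1_c3 LD2_c48 LD3_c51)) = v7470 :=
  Lrfl
theorem f482006 : Led Lsl_dt (LP (LK LD1_c1 LD2_c51 LD3_c24)) = (LP (LK LD1_c3 LD2_c48 LD3_c50)) :=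
  Lre_d IH (LK LD1_c1 LD2_c51 LD3_c24) (LK LD1_c3 LD2_c48 LD3_c50) Lrfl Lrfl
theorem f516097 : Led Lsl_af (LP (LK LD1_c22 LD2_c21 LD3_c33)) = (LP (LK LD1_c23 LD2_c51 LD3_c42)) :=
  Lgr Lrot0 (Lpr_at (K33.f516094 IH) (Lpn (LP (LK LD1_c23 LD2_c51 LD3_c42))))
theorem f484914 : Led Lsl_et (LP (LK LD1_c22 LD2_c21 LD3_c33)) = (LP (LK LD1_c13 LD2_c9 LD3_c5)) :=
  Lre_e IH (LK LD1_c22 LD2_c21 LD3_c33) (LK LD1_c13 LD2_c9 LD3_c5) Lrfl Lrfl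
theorem f516099 : Led Lsl_at (LP (LK LD1_c13 LD2_c9 LD3_c5)) = (LP (LK LD1_c14 LD2_c17 LD3_c58)) :=
  Lgr Lrot80 (Lpe (f484914 IH) (Lpr_af (f516097 IH) (Lpe (K33.f89150 IH) (Lpn (LP (LK LD1_c14 LD2_c17 LD3_c58))))))
theorem f89173 : Led Lsl_bt (LP (LK LD1_c14 LD2_c17 LD3_c58)) = (LP (LK LD1_c7 LD2_c35 LD3_c0)) :=
  Lre_b IH (LK LD1_c14 LD2_c17 LD3_c58) (LK LD1_c7 LD2_c35 LD3_c0) Lrfl Lrfl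
theorem f516246 : Led Lsl_at (LP (LK LD1_c7 LD2_c38 LD3_c40)) = (LP (LK LD1_c14 LD2_c24 LD3_c24)) :=
  Lre_a IH (LK LD1_c7 LD2_c38 LD3_c40) (LK LD1_c14 LD2_c24 LD3_c24) Lrfl Lrfl
theorem f516247 : Led Lsl_bt (LP (LK LD1_c3 LD2_c48 LD3_c47)) = (LP (LK LD1_c7 LD2_c38 LD3_c40)) :=
  Lre_b IH (LK LD1_c3 LD2_c48 LD3_c47) (LK LD1_c7 LD2_c38 LD3_c40) Lrfl Lrfl
theorem f516248 : Led Lsl_at (LP (LK LD1_c7 LD2_c35 LD3_c0)) = (LP (LK LD1_c3 LD2_c48 LD3_c47)) :=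
  Lgr Lrot67 (Lpe (f89173 IH) (Lpe (f516099 IH) (Lpr_bf (K33.f516244 IH) (Lpe (f516246 IH) (Lpe (f516247 IH) (Lpn (LP (LK LD1_c3 LD2_c48 LD3_c47))))))))
theorem f484933 : Led Lsl_at (LP (LK LD1_c14 LD2_c24 LD3_c46)) = (LP (LK LD1_c24 LD2_c3 LD3_c43)) :=
  Lre_a IH (LK LD1_c14 LD2_c24 LD3_c46) (LK LD1_c24 LD2_c3 LD3_c43) Lrfl Lrfl
theorem f516021 : Led Lsl_ff (LP (LK LD1_c14 LD2_c24 LD3_c46)) = (LP (LK LD1_c23 LD2_c55 LD3_c44)) :=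
  Lgr Lrot30 (Lpr_at (f484933 IH) (Lpe (K33.f484912 IH) (Lpr_at (K33.f516012 IH) (Lpn (LP (LK LD1_c23 LD2_c55 LD3_c44))))))
theorem f516031 : Led Lsl_ft (LP (LK LD1_c14 LD2_c24 LD3_c46)) = (LP (LK LD1_c23 LD2_c55 LD3_c44)) :=
  Lgr Lrot48 (Lpr_ff (f516021 IH) (Lpn (LP (LK LD1_c23 LD2_c55 LD3_c44))))
theorem f516033 : Led Lsl_bt (LP (LK LD1_c24 LD2_c3 LD3_c54)) = (LP (LK LD1_c14 LD2_c24 LD3_c46)) :=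
  Lre_b IH (LK LD1_c24 LD2_c3 LD3_c54) (LK LD1_c14 LD2_c24 LD3_c46) Lrfl Lrfl
theorem f89186 : Led Lsl_bt (LP (LK LD1_c23 LD2_c55 LD3_c44)) = (LP (LK LD1_c31 LD2_c17 LD3_c11)) :=
  Lre_b IH (LK LD1_c23 LD2_c55 LD3_c44) (LK LD1_c31 LD2_c17 LD3_c11) Lrfl Lrfl
theorem f516034 : Led Lsl_ff (LP (LK LD1_c24 LD2_c3 LD3_c54)) = (LP (LK LD1_c31 LD2_c17 LD3_c11)) :=
  Lgr Lrot25 (Lpr_bt (f516033 IH) (Lpr_ft (f516031 IH) (Lpr_bt (f89186 IH) (Lpn (LP (LK LD1_c31 LD2_c17 LD3_c11))))))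
theorem f516046 : Led Lsl_ct (LP (LK LD1_c24 LD2_c3 LD3_c54)) = (LP (LK LD1_c14 LD2_c24 LD3_c49)) :=
  Lre_c IH (LK LD1_c24 LD2_c3 LD3_c54) (LK LD1_c14 LD2_c24 LD3_c49) Lrfl Lrfl
theorem f487079 : Led Lsl_ct (LP (LK LD1_c23 LD2_c55 LD3_c45)) = (LP (LK LD1_c31 LD2_c17 LD3_c11)) :=
  Lre_c IH (LK LD1_c23 LD2_c55 LD3_c45) (LK LD1_c31 LD2_c17 LD3_c11) Lrfl Lrfl
theorem f516047 : Led Lsl_ft (LP (LK LD1_c14 LD2_c24 LD3_c49)) = (LP (LK LD1_c23 LD2_c55 LD3_c45)) :=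
  Lgr Lrot4 (Lpe (f516046 IH) (Lpr_ff (f516034 IH) (Lpe (f487079 IH) (Lpn (LP (LK LD1_c23 LD2_c55 LD3_c45))))))
theorem f516058 : Led Lsl_ff (LP (LK LD1_c14 LD2_c24 LD3_c49)) = (LP (LK LD1_c23 LD2_c55 LD3_c45)) :=
  Lgr Lrot3 (Lpr_ft (f516047 IH) (Lpn (LP (LK LD1_c23 LD2_c55 LD3_c45))))
theorem f516062 : Led Lsl_bt (LP (LK LD1_c14 LD2_c24 LD3_c49)) = (LP (LK LD1_c7 LD2_c38 LD3_c50)) :=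
  Lre_b IH (LK LD1_c14 LD2_c24 LD3_c49) (LK LD1_c7 LD2_c38 LD3_c50) Lrfl Lrfl
theorem f88563 : Led Lsl_bt (LP (LK LD1_c14 LD2_c17 LD3_c59)) = (LP (LK LD1_c23 LD2_c55 LD3_c45)) :=
  Lre_b IH (LK LD1_c14 LD2_c17 LD3_c59) (LK LD1_c23 LD2_c55 LD3_c45) Lrfl Lrfl
theorem f516063 : Led Lsl_ft (LP (LK LD1_c7 LD2_c38 LD3_c50)) = (LP (LK LD1_c14 LD2_c17 LD3_c59)) :=
  Lgr Lrot75 (Lpe (f516062 IH) (Lpr_ff (f516058 IH) (Lpe (f88563 IH) (Lpn (LP (LK LD1_c14 LD2_c17 LD3_c59))))))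
theorem f484533 : Led Lsl_ct (LP (LK LD1_c3 LD2_c48 LD3_c50)) = (LP (LK LD1_c7 LD2_c38 LD3_c50)) :=
  Lre_c IH (LK LD1_c3 LD2_c48 LD3_c50) (LK LD1_c7 LD2_c38 LD3_c50) Lrfl Lrfl
theorem f89160 : Led Lsl_ct (LP (LK LD1_c14 LD2_c17 LD3_c59)) = (LP (LK LD1_c7 LD2_c35 LD3_c0)) :=
  Lre_c IH (LK LD1_c14 LD2_c17 LD3_c59) (LK LD1_c7 LD2_c35 LD3_c0) Lrfl Lrfl
theorem f516071 : Led Lsl_ff (LP (LK LD1_c3 LD2_c48 LD3_c50)) = (LP (LK LD1_c7 LD2_c35 LD3_c0)) :=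
  Lgr Lrot23 (Lpr_ct (f484533 IH) (Lpr_ft (f516063 IH) (Lpr_ct (f89160 IH) (Lpn (LP (LK LD1_c7 LD2_c35 LD3_c0))))))
theorem f516078 : Led Lsl_ft (LP (LK LD1_c3 LD2_c48 LD3_c50)) = (LP (LK LD1_c7 LD2_c35 LD3_c0)) :=
  Lgr Lrot48 (Lpr_ff (f516071 IH) (Lpn (LP (LK LD1_c7 LD2_c35 LD3_c0))))
theorem f516290 : Led Lsl_at (LP (LK LD1_c7 LD2_c9 LD3_c31)) = (LP (LK LD1_c3 LD2_c48 LD3_c50)) :=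
  Lgr Lrot66 (Lpr_ff (K34.f516288 IH) (Lpe (f516248 IH) (Lpe (f516078 IH) (Lpn (LP (LK LD1_c3 LD2_c48 LD3_c50))))))
theorem f516298 : Led Lsl_gf (LP (LK LD1_c3 LD2_c48 LD3_c50)) = (LP (LK LD1_c7 LD2_c3 LD3_c54)) :=
  Lgr Lrot76 (Lpe (f516290 IH) (Lpr_ff (K34.f516288 IH) (Lpe (K5.f62707 IH) (Lpn (LP (LK LD1_c7 LD2_c3 LD3_c54))))))
def v7373 : LQ := Led Lsl_gt (LP (LK LD1_c3 LD2_c45 LD3_c50))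
theorem f664778 : Led Lsl_gt (LP (LK LD1_c3 LD2_c45 LD3_c50)) = v7373 :=
  Lrfl
theorem f664779 : Led Lsl_gf (LP (LK LD1_c13 LD2_c17 LD3_c29)) = v7373 :=
  Lgr Lrot76 (Lpe (K4.f111704 IH) (Lpe (K4.f111703 IH) (Lpr_gt (f664778 IH) (Lpn v7373))))
theorem f665750 : Led Lsl_df v7373 = v7470 :=
  Lgr Lrot135 (Lpe (f664779 IH) (Lpe (K28.f17847 IH) (Lpr_et (f460549 IH) (Lpe (K24.f460525 IH) (Lpe (K5.f62752 IH) (Lpr_dt (K5.f62751 IH) (Lpe (f516298 IH) (Lpe (f482006 IH) (Lpr_et (f484534 IH) (Lpr_gt (f665748 IH) (Lpn v7470)))))))))))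
theorem f484749 : Led Lsl_ct (LP (LK LD1_c6 LD2_c54 LD3_c39)) = (LP (LK LD1_c3 LD2_c48 LD3_c51)) :=
  Lgr Lrot59 (Lpr_cf (f484535 IH) (Lpn (LP (LK LD1_c3 LD2_c48 LD3_c51))))
theorem f526918 : Led Lsl_bt (LP (LK LD1_c3 LD2_c54 LD3_c38)) = (LP (LK LD1_c1 LD2_c53 LD3_c57)) :=
  Lre_b IH (LK LD1_c3 LD2_c54 LD3_c38) (LK LD1_c1 LD2_c53 LD3_c57) Lrfl Lrfl
theorem f664538 : Led Lsl_bt (LP (LK LD1_c3 LD2_c54 LD3_c44)) = v7321 :=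
  Lgr Lrot35 (Lpe (K47.f490238 IH) (Lpe (f526918 IH) (Lpr_ff (f664536 IH) (Lpn v7321))))
def v7453 : LQ := Led Lsl_gt (LP (LK LD1_c3 LD2_c48 LD3_c19))
theorem f665678 : Led Lsl_gt (LP (LK LD1_c3 LD2_c48 LD3_c19)) = v7453 :=
  Lrfl
theorem f665679 : Led Lsl_gf v7321 = v7453 :=
  Lgr Lrot76 (Lpe (f664537 IH) (Lpe (f481735 IH) (Lpr_gt (f665678 IH) (Lpn v7453))))
theorem f664540 : Led Lsl_gf (LP (LK LD1_c7 LD2_c25 LD3_c34)) = v7321 :=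
  Lgr Lrot47 (Lpr_gt (K47.f659623 IH) (Lpr_af (K35.f524224 IH) (Lpr_ff (f664536 IH) (Lpn v7321))))
theorem f665680 : Led Lsl_ff (LP (LK LD1_c3 LD2_c53 LD3_c25)) = v7453 :=
  Lgr Lrot52 (Lpe (K41.f530496 IH) (Lpr_gf (f664540 IH) (Lpr_gf (f665679 IH) (Lpn v7453))))
def v2701 : LQ := Led Lsl_ft (LP (LK LD1_c1 LD2_c53 LD3_c19))
theorem f530473 : Led Lsl_ft (LP (LK LD1_c1 LD2_c53 LD3_c19)) = v2701 :=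
  Lrfl
theorem f665681 : Led Lsl_bt v2701 = v7453 :=
  Lgr Lrot35 (Lpe (f530473 IH) (Lpe (K34.f527148 IH) (Lpr_ff (f665680 IH) (Lpn v7453))))
theorem f665749 : Led Lsl_ct v2701 = v7470 :=
  Lgr Lrot63 (Lpr_bt (f665681 IH) (Lpe (f665679 IH) (Lpe (f664538 IH) (Lpr_ct (K34.f523899 IH) (Lpr_gt (K34.f527563 IH) (Lpe (K34.f471103 IH) (Lpr_bt (K34.f465252 IH) (Lpe (f662250 IH) (Lpr_ct (f484749 IH) (Lpr_gt (f665748 IH) (Lpn v7470)))))))))))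
def v2699 : LQ := Led Lsl_at (LP (LK LD1_c1 LD2_c53 LD3_c19))
theorem f530465 : Led Lsl_at (LP (LK LD1_c1 LD2_c53 LD3_c19)) = v2699 :=
  Lrfl
theorem f490184 : Led Lsl_et (LP (LK LD1_c0 LD2_c53 LD3_c14)) = (LP (LK LD1_c1 LD2_c53 LD3_c19)) :=
  Lre_e IH (LK LD1_c0 LD2_c53 LD3_c14) (LK LD1_c1 LD2_c53 LD3_c19) Lrfl Lrfl
theorem f530467 : Led Lsl_ef K34.v871 = v2699 :=
  Lgr Lrot20 (Lpe (K34.f490183 IH) (Lpr_et (f490184 IH) (Lpr_at (f530465 IH) (Lpn v2699))))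
theorem f530468 : Led Lsl_et K34.v871 = v2699 :=
  Lgr Lrot87 (Lpr_ef (f530467 IH) (Lpn v2699))
def v2599 : LQ := Led Lsl_et (LP (LK LD1_c1 LD2_c49 LD3_c22))
theorem f527711 : Led Lsl_et (LP (LK LD1_c1 LD2_c49 LD3_c22)) = v2599 :=
  Lrfl
theorem f530535 : v2699 = v2599 :=
  Lefun (Lecon (f530468 IH) (K41.f530520 IH).symm) (f527711 IH)
theorem f530474 : Led Lsl_ff (LP (LK LD1_c1 LD2_c53 LD3_c19)) = v2701 :=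
  Lgr Lrot3 (Lpr_ft (f530473 IH) (Lpn v2701))
theorem f456451 : Led Lsl_et (LP (LK LD1_c1 LD2_c47 LD3_c58)) = (LP (LK LD1_c0 LD2_c50 LD3_c43)) :=
  Lre_e IH (LK LD1_c1 LD2_c47 LD3_c58) (LK LD1_c0 LD2_c50 LD3_c43) Lrfl Lrfl
def v2536 : LQ := Led Lsl_dt (LP (LK LD1_c1 LD2_c47 LD3_c58))
theorem f527228 : Led Lsl_dt (LP (LK LD1_c1 LD2_c47 LD3_c58)) = v2536 :=
  Lrfl
def v2598 : LQ := Led Lsl_dt (LP (LK LD1_c1 LD2_c49 LD3_c22))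
theorem f527708 : Led Lsl_dt (LP (LK LD1_c1 LD2_c49 LD3_c22)) = v2598 :=
  Lrfl
theorem f17282 : Led Lsl_ct (LP (LK LD1_c0 LD2_c51 LD3_c29)) = (LP (LK LD1_c1 LD2_c49 LD3_c21)) :=
  Lre_c IH (LK LD1_c0 LD2_c51 LD3_c29) (LK LD1_c1 LD2_c49 LD3_c21) Lrfl Lrfl
theorem f65778 : Led Lsl_et (LP (LK LD1_c0 LD2_c51 LD3_c28)) = (LP (LK LD1_c1 LD2_c49 LD3_c21)) :=
  Lre_e IH (LK LD1_c0 LD2_c51 LD3_c28) (LK LD1_c1 LD2_c49 LD3_c21) Lrfl Lrfl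
theorem f456427 : Led Lsl_et (LP (LK LD1_c3 LD2_c42 LD3_c2)) = (LP (LK LD1_c1 LD2_c47 LD3_c57)) :=
  Lre_e IH (LK LD1_c3 LD2_c42 LD3_c2) (LK LD1_c1 LD2_c47 LD3_c57) Lrfl Lrfl
theorem f456370 : Led Lsl_dt (LP (LK LD1_c3 LD2_c42 LD3_c2)) = (LP (LK LD1_c7 LD2_c24 LD3_c54)) :=
  Lre_d IH (LK LD1_c3 LD2_c42 LD3_c2) (LK LD1_c7 LD2_c24 LD3_c54) Lrfl Lrfl
theorem f478304 : Led Lsl_gt (LP (LK LD1_c7 LD2_c30 LD3_c23)) = (LP (LK LD1_c7 LD2_c24 LD3_c54)) :=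
  Lgr Lrot139 (Lpe (f17287 IH) (Lpe (K28.f17286 IH) (Lpe (f65778 IH) (Lpr_dt (K1.f64257 IH) (Lpe (K1.f14675 IH) (Lpr_df (K2.f65182 IH) (Lpr_et (K4.f65186 IH) (Lpr_gf (K29.f478295 IH) (Lpe (f456427 IH) (Lpr_dt (f456370 IH) (Lpn (LP (LK LD1_c7 LD2_c24 LD3_c54)))))))))))))
theorem f456282 : Led Lsl_dt (LP (LK LD1_c7 LD2_c24 LD3_c54)) = (LP (LK LD1_c3 LD2_c42 LD3_c2)) :=
  Lre_d IH (LK LD1_c7 LD2_c24 LD3_c54) (LK LD1_c3 LD2_c42 LD3_c2) Lrfl Lrfl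
theorem f527230 : Led Lsl_df (LP (LK LD1_c1 LD2_c47 LD3_c58)) = v2536 :=
  Lgr Lrot38 (Lpr_dt (f527228 IH) (Lpn v2536))
theorem f527710 : Led Lsl_gf v2536 = v2598 :=
  Lgr Lrot143 (Lpe (f527230 IH) (Lpe (K30.f456272 IH) (Lpe (f456282 IH) (Lpe (f478304 IH) (Lpe (f17287 IH) (Lpe (K28.f17286 IH) (Lpe (f17282 IH) (Lpr_gt (K35.f64948 IH) (Lpr_dt (f527708 IH) (Lpn v2598))))))))))
theorem f527932 : Led Lsl_gf v2599 = v2625 :=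
  Lgr Lrot141 (Lpe (f527711 IH) (Lpr_dt (f527708 IH) (Lpe (f527710 IH) (Lpe (f527228 IH) (Lpr_et (f456451 IH) (Lpqs (K29.f466752 IH) (Lpe (K29.f451050 IH) (Lpr_dt (K29.f85021 IH) (Lpr_gt (K29.f85269 IH) (Lpe (K29.f85283 IH) (Lpr_et (f527928 IH) (Lpn v2625))))))))))))
def v2660 : LQ := Led Lsl_gt (LP (LK LD1_c1 LD2_c51 LD3_c32))
theorem f530171 : Led Lsl_gt (LP (LK LD1_c1 LD2_c51 LD3_c32)) = v2660 :=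
  Lrfl
theorem f527145 : Led Lsl_ft (LP (LK LD1_c1 LD2_c51 LD3_c32)) = K34.v2532 :=
  Lgr Lrot48 (Lpr_ff (K34.f527143 IH) (Lpn K34.v2532))
theorem f527933 : Led Lsl_at K34.v2532 = v2625 :=
  Lgr Lrot80 (Lpe (K34.f527140 IH) (Lpe (K29.f466927 IH) (Lpr_ef (f527931 IH) (Lpn v2625))))
theorem f530172 : Led Lsl_gf v2625 = v2660 :=
  Lgr Lrot76 (Lpe (f527933 IH) (Lpe (f527145 IH) (Lpr_gt (f530171 IH) (Lpn v2660))))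
theorem f530536 : v2701 = v2660 :=
  (Llr Lrot52 (Lpe (f530474 IH) (Lpr_at (f530465 IH) (Lpqs (f530535 IH) (Lpr_gf (f527932 IH) (Lpr_gf (f530172 IH) (Lpn v2660))))))).symm
theorem f19094 : Led Lsl_gt (LP (LK LD1_c7 LD2_c3 LD3_c7)) = (LP (LK LD1_c3 LD2_c30 LD3_c34)) :=
  Lre_g IH (LK LD1_c7 LD2_c3 LD3_c7) (LK LD1_c3 LD2_c30 LD3_c34) Lrfl Lrfl
theorem f18365 : Led Lsl_gt (LP (LK LD1_c7 LD2_c3 LD3_c8)) = (LP (LK LD1_c13 LD2_c22 LD3_c32)) :=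
  Lre_g IH (LK LD1_c7 LD2_c3 LD3_c8) (LK LD1_c13 LD2_c22 LD3_c32) Lrfl Lrfl
theorem f665753 : Led Lsl_cf v7373 = (LP (LK LD1_c13 LD2_c22 LD3_c32)) :=
  Lgr Lrot99 (Lpr_df (f665750 IH) (Lpe (f665749 IH) (Lpqs (f530536 IH) (Lpe (f530171 IH) (Lpe (K29.f467705 IH) (Lpr_gf (f664306 IH) (Lpe (f664305 IH) (Lpr_gt (f19094 IH) (Lpr_ct (K41.f18364 IH) (Lpr_gt (f18365 IH) (Lpn (LP (LK LD1_c13 LD2_c22 LD3_c32)))))))))))))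
theorem f17837 : Led Lsl_ct (LP (LK LD1_c22 LD2_c33 LD3_c21)) = (LP (LK LD1_c13 LD2_c17 LD3_c29)) :=
  Lre_c IH (LK LD1_c22 LD2_c33 LD3_c21) (LK LD1_c13 LD2_c17 LD3_c29) Lrfl Lrfl
theorem f111710 : Led Lsl_bt (LP (LK LD1_c22 LD2_c33 LD3_c21)) = (LP (LK LD1_c30 LD2_c34 LD3_c33)) :=
  Lre_b IH (LK LD1_c22 LD2_c33 LD3_c21) (LK LD1_c30 LD2_c34 LD3_c33) Lrfl Lrfl
theorem f18349 : Led Lsl_bt (LP (LK LD1_c13 LD2_c22 LD3_c34)) = (LP (LK LD1_c7 LD2_c3 LD3_c8)) :=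
  Lre_b IH (LK LD1_c13 LD2_c22 LD3_c34) (LK LD1_c7 LD2_c3 LD3_c8) Lrfl Lrfl
theorem f18391 : Led Lsl_et (LP (LK LD1_c7 LD2_c2 LD3_c61)) = (LP (LK LD1_c13 LD2_c22 LD3_c15)) :=
  Lre_e IH (LK LD1_c7 LD2_c2 LD3_c61) (LK LD1_c13 LD2_c22 LD3_c15) Lrfl Lrfl
theorem f18392 : Led Lsl_et (LP (LK LD1_c13 LD2_c3 LD3_c48)) = (LP (LK LD1_c6 LD2_c52 LD3_c5)) :=
  Lre_e IH (LK LD1_c13 LD2_c3 LD3_c48) (LK LD1_c6 LD2_c52 LD3_c5) Lrfl Lrfl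
theorem f18393 : Led Lsl_bt (LP (LK LD1_c13 LD2_c22 LD3_c15)) = (LP (LK LD1_c13 LD2_c3 LD3_c48)) :=
  Lgr Lrot119 (Lpe (f18391 IH) (Lpr_bf (K2.f18360 IH) (Lpe (f18392 IH) (Lpn (LP (LK LD1_c13 LD2_c3 LD3_c48))))))
theorem f18403 : Led Lsl_ct (LP (LK LD1_c22 LD2_c39 LD3_c23)) = (LP (LK LD1_c13 LD2_c22 LD3_c15)) :=
  Lre_c IH (LK LD1_c22 LD2_c39 LD3_c23) (LK LD1_c13 LD2_c22 LD3_c15) Lrfl Lrfl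
theorem f18404 : Led Lsl_bt (LP (LK LD1_c30 LD2_c37 LD3_c53)) = (LP (LK LD1_c22 LD2_c39 LD3_c23)) :=
  Lre_b IH (LK LD1_c30 LD2_c37 LD3_c53) (LK LD1_c22 LD2_c39 LD3_c23) Lrfl Lrfl
theorem f18405 : Led Lsl_ct (LP (LK LD1_c13 LD2_c3 LD3_c48)) = (LP (LK LD1_c22 LD2_c13 LD3_c60)) :=
  Lre_c IH (LK LD1_c13 LD2_c3 LD3_c48) (LK LD1_c22 LD2_c13 LD3_c60) Lrfl Lrfl
theorem f18406 : Led Lsl_bt (LP (LK LD1_c22 LD2_c13 LD3_c60)) = (LP (LK LD1_c30 LD2_c22 LD3_c30)) :=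
  Lre_b IH (LK LD1_c22 LD2_c13 LD3_c60) (LK LD1_c30 LD2_c22 LD3_c30) Lrfl Lrfl
theorem f18407 : Led Lsl_cf (LP (LK LD1_c30 LD2_c37 LD3_c53)) = (LP (LK LD1_c30 LD2_c22 LD3_c30)) :=
  Lgr Lrot97 (Lpr_bt (f18404 IH) (Lpr_ct (f18403 IH) (Lpr_bt (f18393 IH) (Lpr_ct (f18405 IH) (Lpr_bt (f18406 IH) (Lpn (LP (LK LD1_c30 LD2_c22 LD3_c30))))))))
theorem f18415 : Led Lsl_ct (LP (LK LD1_c30 LD2_c37 LD3_c53)) = (LP (LK LD1_c30 LD2_c22 LD3_c30)) :=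
  Lgr Lrot59 (Lpr_cf (f18407 IH) (Lpn (LP (LK LD1_c30 LD2_c22 LD3_c30))))
theorem f18422 : Led Lsl_et (LP (LK LD1_c22 LD2_c39 LD3_c24)) = (LP (LK LD1_c30 LD2_c37 LD3_c53)) :=
  Lre_e IH (LK LD1_c22 LD2_c39 LD3_c24) (LK LD1_c30 LD2_c37 LD3_c53) Lrfl Lrfl
theorem f18423 : Led Lsl_et (LP (LK LD1_c30 LD2_c22 LD3_c30)) = (LP (LK LD1_c22 LD2_c13 LD3_c58)) :=
  Lre_e IH (LK LD1_c30 LD2_c22 LD3_c30) (LK LD1_c22 LD2_c13 LD3_c58) Lrfl Lrfl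
theorem f18424 : Led Lsl_cf (LP (LK LD1_c22 LD2_c39 LD3_c24)) = (LP (LK LD1_c22 LD2_c13 LD3_c58)) :=
  Lgr Lrot39 (Lpr_et (f18422 IH) (Lpr_ct (f18415 IH) (Lpr_et (f18423 IH) (Lpn (LP (LK LD1_c22 LD2_c13 LD3_c58))))))
theorem f18435 : Led Lsl_ft (LP (LK LD1_c22 LD2_c39 LD3_c24)) = (LP (LK LD1_c13 LD2_c22 LD3_c34)) :=
  Lre_f IH (LK LD1_c22 LD2_c39 LD3_c24) (LK LD1_c13 LD2_c22 LD3_c34) Lrfl Lrfl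
theorem f18436 : Led Lsl_ft (LP (LK LD1_c13 LD2_c3 LD3_c45)) = (LP (LK LD1_c22 LD2_c13 LD3_c58)) :=
  Lre_f IH (LK LD1_c13 LD2_c3 LD3_c45) (LK LD1_c22 LD2_c13 LD3_c58) Lrfl Lrfl
theorem f18437 : Led Lsl_ct (LP (LK LD1_c13 LD2_c22 LD3_c34)) = (LP (LK LD1_c13 LD2_c3 LD3_c45)) :=
  Lgr Lrot40 (Lpe (f18435 IH) (Lpr_cf (f18424 IH) (Lpe (f18436 IH) (Lpn (LP (LK LD1_c13 LD2_c3 LD3_c45))))))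
theorem f18470 : Led Lsl_gt (LP (LK LD1_c22 LD2_c13 LD3_c55)) = (LP (LK LD1_c13 LD2_c3 LD3_c45)) :=
  Lre_g IH (LK LD1_c22 LD2_c13 LD3_c55) (LK LD1_c13 LD2_c3 LD3_c45) Lrfl Lrfl
theorem f18471 : Led Lsl_ct (LP (LK LD1_c30 LD2_c22 LD3_c25)) = (LP (LK LD1_c22 LD2_c13 LD3_c55)) :=
  Lre_c IH (LK LD1_c30 LD2_c22 LD3_c25) (LK LD1_c22 LD2_c13 LD3_c55) Lrfl Lrfl
theorem f18472 : Led Lsl_bt (LP (LK LD1_c30 LD2_c22 LD3_c25)) = (LP (LK LD1_c32 LD2_c52 LD3_c9)) :=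
  Lre_b IH (LK LD1_c30 LD2_c22 LD3_c25) (LK LD1_c32 LD2_c52 LD3_c9) Lrfl Lrfl
theorem f665756 : Led Lsl_gt (LP (LK LD1_c30 LD2_c34 LD3_c33)) = (LP (LK LD1_c32 LD2_c52 LD3_c9)) :=
  Lgr Lrot164 (Lpe (f111710 IH) (Lpr_ct (f17837 IH) (Lpr_gf (f664779 IH) (Lpr_cf (f665753 IH) (Lpe (f18365 IH) (Lpe (f18349 IH) (Lpr_ct (f18437 IH) (Lpe (f18470 IH) (Lpe (f18471 IH) (Lpr_bt (f18472 IH) (Lpn (LP (LK LD1_c32 LD2_c52 LD3_c9)))))))))))))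
theorem f665757 : Led Lsl_gt (LP (LK LD1_c30 LD2_c34 LD3_c33)) = (LP (LK LD1_c32 LD2_c52 LD3_c9)) :=
  Leop (Lpe (f665756 IH) (Lpn (LP (LK LD1_c30 LD2_c34 LD3_c33))))
theorem seed_491 : LEOK LG_g (LK LD1_c30 LD2_c34 LD3_c33) :=
  Leoe_g (LK LD1_c30 LD2_c34 LD3_c33) (f665757 IH)
def v7471 : LQ := Led Lsl_ft (LP (LK LD1_c3 LD2_c48 LD3_c51))
theorem f665764 : Led Lsl_ft (LP (LK LD1_c3 LD2_c48 LD3_c51)) = v7471 :=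
  Lrfl
theorem f665768 : Led Lsl_ff (LP (LK LD1_c3 LD2_c48 LD3_c51)) = v7471 :=
  Lgr Lrot3 (Lpr_ft (f665764 IH) (Lpn v7471))
theorem f89665 : Led Lsl_et (LP (LK LD1_c3 LD2_c48 LD3_c51)) = (LP (LK LD1_c1 LD2_c51 LD3_c24)) :=
  Lre_e IH (LK LD1_c3 LD2_c48 LD3_c51) (LK LD1_c1 LD2_c51 LD3_c24) Lrfl Lrfl
theorem f665771 : Led Lsl_et (LP (LK LD1_c3 LD2_c53 LD3_c19)) = v7471 :=
  Lgr Lrot69 (Lpe (K33.f516694 IH) (Lpe (K33.f89141 IH) (Lpr_ff (K34.f515004 IH) (Lpe (f89665 IH) (Lpr_ff (f665768 IH) (Lpn v7471))))))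
theorem f441389 : Led Lsl_dt (LP (LK LD1_c22 LD2_c35 LD3_c4)) = (LP (LK LD1_c13 LD2_c18 LD3_c50)) :=
  Lre_d IH (LK LD1_c22 LD2_c35 LD3_c4) (LK LD1_c13 LD2_c18 LD3_c50) Lrfl Lrfl
theorem f484751 : Led Lsl_dt (LP (LK LD1_c7 LD2_c38 LD3_c52)) = (LP (LK LD1_c3 LD2_c48 LD3_c51)) :=
  Lre_d IH (LK LD1_c7 LD2_c38 LD3_c52) (LK LD1_c3 LD2_c48 LD3_c51) Lrfl Lrfl
theorem f467169 : Led Lsl_ft (LP (LK LD1_c22 LD2_c56 LD3_c31)) = (LP (LK LD1_c13 LD2_c33 LD3_c37)) :=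
  Lre_f IH (LK LD1_c22 LD2_c56 LD3_c31) (LK LD1_c13 LD2_c33 LD3_c37) Lrfl Lrfl
theorem f516077 : Led Lsl_ft (LP (LK LD1_c7 LD2_c38 LD3_c51)) = (LP (LK LD1_c14 LD2_c24 LD3_c54)) :=
  Lre_f IH (LK LD1_c7 LD2_c38 LD3_c51) (LK LD1_c14 LD2_c24 LD3_c54) Lrfl Lrfl
theorem f516493 : Led Lsl_at (LP (LK LD1_c13 LD2_c33 LD3_c37)) = (LP (LK LD1_c7 LD2_c38 LD3_c51)) :=
  Lgr Lrot66 (Lpe (f467169 IH) (Lpr_af (K34.f516487 IH) (Lpe (f516077 IH) (Lpn (LP (LK LD1_c7 LD2_c38 LD3_c51))))))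
theorem f512404 : Led Lsl_dt (LP (LK LD1_c7 LD2_c38 LD3_c51)) = (LP (LK LD1_c14 LD2_c24 LD3_c53)) :=
  Lre_d IH (LK LD1_c7 LD2_c38 LD3_c51) (LK LD1_c14 LD2_c24 LD3_c53) Lrfl Lrfl
theorem f516500 : Led Lsl_af (LP (LK LD1_c22 LD2_c41 LD3_c37)) = (LP (LK LD1_c14 LD2_c24 LD3_c53)) :=
  Lgr Lrot117 (Lpr_dt (K34.f467145 IH) (Lpr_at (f516493 IH) (Lpr_dt (f512404 IH) (Lpn (LP (LK LD1_c14 LD2_c24 LD3_c53))))))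
theorem f516534 : Led Lsl_et (LP (LK LD1_c7 LD2_c38 LD3_c52)) = (LP (LK LD1_c14 LD2_c24 LD3_c53)) :=
  Lre_e IH (LK LD1_c7 LD2_c38 LD3_c52) (LK LD1_c14 LD2_c24 LD3_c53) Lrfl Lrfl
theorem f516535 : Led Lsl_at (LP (LK LD1_c13 LD2_c23 LD3_c45)) = (LP (LK LD1_c7 LD2_c38 LD3_c52)) :=
  Lgr Lrot80 (Lpe (K34.f129724 IH) (Lpr_af (f516500 IH) (Lpe (f516534 IH) (Lpn (LP (LK LD1_c7 LD2_c38 LD3_c52))))))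
theorem f516539 : Led Lsl_af (LP (LK LD1_c13 LD2_c23 LD3_c45)) = (LP (LK LD1_c7 LD2_c38 LD3_c52)) :=
  Lgr Lrot0 (Lpr_at (f516535 IH) (Lpn (LP (LK LD1_c7 LD2_c38 LD3_c52))))
theorem f129726 : Led Lsl_gt (LP (LK LD1_c13 LD2_c23 LD3_c46)) = (LP (LK LD1_c7 LD2_c3 LD3_c60)) :=
  Lre_g IH (LK LD1_c13 LD2_c23 LD3_c46) (LK LD1_c7 LD2_c3 LD3_c60) Lrfl Lrfl
theorem f516560 : Led Lsl_ft (LP (LK LD1_c13 LD2_c23 LD3_c46)) = (LP (LK LD1_c7 LD2_c38 LD3_c52)) :=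
  Lgr Lrot2 (Lpr_gt (f129726 IH) (Lpr_gt (K33.f129723 IH) (Lpr_af (f516539 IH) (Lpn (LP (LK LD1_c7 LD2_c38 LD3_c52))))))
theorem f665766 : Led Lsl_df (LP (LK LD1_c13 LD2_c23 LD3_c46)) = v7471 :=
  Lgr Lrot78 (Lpr_ft (f516560 IH) (Lpr_dt (f484751 IH) (Lpr_ft (f665764 IH) (Lpn v7471))))
theorem f665773 : Led Lsl_ef (LP (LK LD1_c22 LD2_c35 LD3_c4)) = (LP (LK LD1_c13 LD2_c23 LD3_c46)) :=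
  Lgr Lrot73 (Lpr_dt (f441389 IH) (Lpr_et (K33.f109683 IH) (Lpr_dt (f474419 IH) (Lpr_et (f665771 IH) (Lpe (f665766 IH) (Lpn (LP (LK LD1_c13 LD2_c23 LD3_c46))))))))
theorem f665774 : Led Lsl_et (LP (LK LD1_c13 LD2_c23 LD3_c46)) = (LP (LK LD1_c22 LD2_c35 LD3_c4)) :=
  Leop (Lpr_ef (f665773 IH) (Lpn (LP (LK LD1_c13 LD2_c23 LD3_c46))))
theorem seed_492 : LEOK LG_e (LK LD1_c13 LD2_c23 LD3_c46) :=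
  Leoe_e (LK LD1_c13 LD2_c23 LD3_c46) (f665774 IH)
def v7480 : LQ := Led Lsl_gt (LP (LK LD1_c3 LD2_c48 LD3_c61))
theorem f665914 : Led Lsl_gt (LP (LK LD1_c3 LD2_c48 LD3_c61)) = v7480 :=
  Lrfl
def v622 : LQ := Led Lsl_dt (LP (LK LD1_c0 LD2_c47 LD3_c31))
def v3253 : LQ := Led Lsl_gt v622
theorem f624837 : Led Lsl_gt v622 = v3253 :=
  Lrfl
theorem f455557 : Led Lsl_dt (LP (LK LD1_c0 LD2_c47 LD3_c31)) = v622 :=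
  Lrfl
theorem f455560 : Led Lsl_ef (LP (LK LD1_c0 LD2_c47 LD3_c33)) = v622 :=
  Lgr Lrot73 (Lpr_dt (K4.f64518 IH) (Lpr_et (K2.f87585 IH) (Lpr_dt (K2.f62826 IH) (Lpr_et (f87584 IH) (Lpr_dt (f455557 IH) (Lpn v622))))))
theorem f455564 : Led Lsl_et (LP (LK LD1_c0 LD2_c47 LD3_c33)) = v622 :=
  Lgr Lrot87 (Lpr_ef (f455560 IH) (Lpn v622))
theorem f86936 : Led Lsl_et (LP (LK LD1_c3 LD2_c49 LD3_c49)) = (LP (LK LD1_c1 LD2_c51 LD3_c54)) :=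
  Lre_e IH (LK LD1_c3 LD2_c49 LD3_c49) (LK LD1_c1 LD2_c51 LD3_c54) Lrfl Lrfl
theorem f466784 : Led Lsl_et (LP (LK LD1_c1 LD2_c51 LD3_c54)) = (LP (LK LD1_c3 LD2_c49 LD3_c49)) :=
  Lre_e IH (LK LD1_c1 LD2_c51 LD3_c54) (LK LD1_c3 LD2_c49 LD3_c49) Lrfl Lrfl
theorem f527935 : Led Lsl_dt (LP (LK LD1_c3 LD2_c49 LD3_c49)) = v2625 :=
  Lgr Lrot77 (Lpe (f466784 IH) (Lpe (K5.f87960 IH) (Lpe (K29.f459568 IH) (Lpe (K29.f85283 IH) (Lpr_ef (f527931 IH) (Lpn v2625))))))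
theorem f624838 : Led Lsl_df v2660 = v3253 :=
  Lgr Lrot135 (Lpe (f530172 IH) (Lpe (f527935 IH) (Lpr_et (f86936 IH) (Lpr_gt (K5.f86935 IH) (Lpe (K3.f86921 IH) (Lpr_dt (K3.f84976 IH) (Lpr_gt (K2.f84990 IH) (Lpe (K4.f64518 IH) (Lpr_et (f455564 IH) (Lpr_gt (f624837 IH) (Lpn v3253)))))))))))
theorem f624839 : Led Lsl_dt v2660 = v3253 :=
  Lgr Lrot42 (Lpr_df (f624838 IH) (Lpn v3253))
def v6740 : LQ := Led Lsl_dt (LP (LK LD1_c3 LD2_c28 LD3_c19))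
theorem f658168 : Led Lsl_dt (LP (LK LD1_c3 LD2_c28 LD3_c19)) = v6740 :=
  Lrfl
theorem f467903 : Led Lsl_at (LP (LK LD1_c3 LD2_c47 LD3_c7)) = (LP (LK LD1_c1 LD2_c51 LD3_c31)) :=
  Lgr Lrot107 (Lpe (K46.f442351 IH) (Lpr_af (K46.f467899 IH) (Lpe (K46.f459685 IH) (Lpn (LP (LK LD1_c1 LD2_c51 LD3_c31))))))
theorem f482044 : Led Lsl_gf (LP (LK LD1_c1 LD2_c51 LD3_c31)) = (LP (LK LD1_c3 LD2_c30 LD3_c59)) :=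
  Lgr Lrot76 (Lpe (f467903 IH) (Lpr_ff (K46.f482036 IH) (Lpe (K5.f62697 IH) (Lpn (LP (LK LD1_c3 LD2_c30 LD3_c59))))))
theorem f658173 : Led Lsl_gt v3253 = v6740 :=
  Lgr Lrot139 (Lpe (f624839 IH) (Lpe (f530171 IH) (Lpe (K29.f459788 IH) (Lpr_dt (K46.f459684 IH) (Lpr_gf (f482044 IH) (Lpe (K5.f62695 IH) (Lpr_et (K5.f62694 IH) (Lpe (K1.f18816 IH) (Lpe (K3.f18807 IH) (Lpr_dt (f658168 IH) (Lpn v6740)))))))))))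
theorem f658170 : Led Lsl_df (LP (LK LD1_c3 LD2_c28 LD3_c19)) = v6740 :=
  Lgr Lrot38 (Lpr_dt (f658168 IH) (Lpn v6740))
theorem f18844 : Led Lsl_dt (LP (LK LD1_c13 LD2_c14 LD3_c61)) = (LP (LK LD1_c6 LD2_c58 LD3_c47)) :=
  Lre_d IH (LK LD1_c13 LD2_c14 LD3_c61) (LK LD1_c6 LD2_c58 LD3_c47) Lrfl Lrfl
theorem f665916 : Led Lsl_df (LP (LK LD1_c7 LD2_c3 LD3_c6)) = v7480 :=
  Lgr Lrot153 (Lpr_gt (f18845 IH) (Lpr_dt (f18844 IH) (Lpe (K24.f18834 IH) (Lpr_df (f658170 IH) (Lpe (f658173 IH) (Lpe (f624839 IH) (Lpe (f530171 IH) (Lpe (K29.f467705 IH) (Lpr_gt (f665914 IH) (Lpn v7480))))))))))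
theorem f665918 : Led Lsl_dt (LP (LK LD1_c7 LD2_c3 LD3_c6)) = v7480 :=
  Lgr Lrot42 (Lpr_df (f665916 IH) (Lpn v7480))
theorem f534962 : Led Lsl_et (LP (LK LD1_c7 LD2_c3 LD3_c6)) = (LP (LK LD1_c13 LD2_c22 LD3_c28)) :=
  Lre_e IH (LK LD1_c7 LD2_c3 LD3_c6) (LK LD1_c13 LD2_c22 LD3_c28) Lrfl Lrfl
theorem f665925 : Led Lsl_gt (LP (LK LD1_c13 LD2_c22 LD3_c28)) = (LP (LK LD1_c22 LD2_c39 LD3_c48)) :=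
  Lre_g IH (LK LD1_c13 LD2_c22 LD3_c28) (LK LD1_c22 LD2_c39 LD3_c48) Lrfl Lrfl
theorem f18923 : Led Lsl_dt (LP (LK LD1_c6 LD2_c58 LD3_c44)) = (LP (LK LD1_c13 LD2_c14 LD3_c57)) :=
  Lre_d IH (LK LD1_c6 LD2_c58 LD3_c44) (LK LD1_c13 LD2_c14 LD3_c57) Lrfl Lrfl
theorem f486994 : Led Lsl_gf (LP (LK LD1_c7 LD2_c39 LD3_c8)) = (LP (LK LD1_c13 LD2_c14 LD3_c57)) :=
  Lgr Lrot134 (Lpe (f467712 IH) (Lpr_et (K29.f467715 IH) (Lpqs (K37.f482298 IH) (Lpe (K37.f459821 IH) (Lpe (K37.f63628 IH) (Lpr_dt (K1.f17293 IH) (Lpr_gt (K1.f62675 IH) (Lpe (K3.f63119 IH) (Lpr_et (K3.f63121 IH) (Lpr_gt (K3.f18868 IH) (Lpr_dt (f18923 IH) (Lpn (LP (LK LD1_c13 LD2_c14 LD3_c57))))))))))))))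
theorem f63625 : Led Lsl_dt (LP (LK LD1_c13 LD2_c14 LD3_c57)) = (LP (LK LD1_c6 LD2_c58 LD3_c44)) :=
  Lre_d IH (LK LD1_c13 LD2_c14 LD3_c57) (LK LD1_c6 LD2_c58 LD3_c44) Lrfl Lrfl
theorem f64197 : Led Lsl_et (LP (LK LD1_c1 LD2_c52 LD3_c48)) = (LP (LK LD1_c3 LD2_c52 LD3_c18)) :=
  Lre_e IH (LK LD1_c1 LD2_c52 LD3_c48) (LK LD1_c3 LD2_c52 LD3_c18) Lrfl Lrfl
theorem f64198 : Led Lsl_dt (LP (LK LD1_c3 LD2_c52 LD3_c18)) = (LP (LK LD1_c7 LD2_c46 LD3_c26)) :=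
  Lre_d IH (LK LD1_c3 LD2_c52 LD3_c18) (LK LD1_c7 LD2_c46 LD3_c26) Lrfl Lrfl
theorem f64199 : Led Lsl_ef (LP (LK LD1_c13 LD2_c14 LD3_c57)) = (LP (LK LD1_c7 LD2_c46 LD3_c26)) :=
  Lgr Lrot73 (Lpr_dt (f63625 IH) (Lpr_et (f63646 IH) (Lpr_dt (K3.f63632 IH) (Lpr_et (f64197 IH) (Lpr_dt (f64198 IH) (Lpn (LP (LK LD1_c7 LD2_c46 LD3_c26))))))))
theorem f63643 : Led Lsl_dt (LP (LK LD1_c7 LD2_c46 LD3_c26)) = (LP (LK LD1_c3 LD2_c52 LD3_c18)) :=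
  Lre_d IH (LK LD1_c7 LD2_c46 LD3_c26) (LK LD1_c3 LD2_c52 LD3_c18) Lrfl Lrfl
theorem f64209 : Led Lsl_gt (LP (LK LD1_c7 LD2_c46 LD3_c25)) = (LP (LK LD1_c3 LD2_c52 LD3_c18)) :=
  Lre_g IH (LK LD1_c7 LD2_c46 LD3_c25) (LK LD1_c3 LD2_c52 LD3_c18) Lrfl Lrfl
theorem f64210 : Led Lsl_dt (LP (LK LD1_c14 LD2_c39 LD3_c42)) = (LP (LK LD1_c7 LD2_c46 LD3_c25)) :=
  Lre_d IH (LK LD1_c14 LD2_c39 LD3_c42) (LK LD1_c7 LD2_c46 LD3_c25) Lrfl Lrfl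
theorem f665927 : Led Lsl_ef (LP (LK LD1_c22 LD2_c39 LD3_c48)) = (LP (LK LD1_c14 LD2_c39 LD3_c42)) :=
  Lgr Lrot17 (Lpe (f665925 IH) (Lpe (f534962 IH) (Lpr_dt (f665918 IH) (Lpe (f665914 IH) (Lpe (f467708 IH) (Lpr_gf (f486994 IH) (Lpr_ef (f64199 IH) (Lpr_dt (f63643 IH) (Lpe (f64209 IH) (Lpe (f64210 IH) (Lpn (LP (LK LD1_c14 LD2_c39 LD3_c42)))))))))))))
theorem f665928 : Led Lsl_et (LP (LK LD1_c14 LD2_c39 LD3_c42)) = (LP (LK LD1_c22 LD2_c39 LD3_c48)) :=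
  Leop (Lpr_ef (f665927 IH) (Lpn (LP (LK LD1_c14 LD2_c39 LD3_c42))))
theorem seed_493 : LEOK LG_e (LK LD1_c14 LD2_c39 LD3_c42) :=
  Leoe_e (LK LD1_c14 LD2_c39 LD3_c42) (f665928 IH)
def v7487 : LQ := Led Lsl_bt (LP (LK LD1_c3 LD2_c49 LD3_c13))
theorem f665986 : Led Lsl_bt (LP (LK LD1_c3 LD2_c49 LD3_c13)) = v7487 :=
  Lrfl
def v7208 : LQ := Led Lsl_dt (LP (LK LD1_c3 LD2_c42 LD3_c25))
theorem f662285 : Led Lsl_dt (LP (LK LD1_c3 LD2_c42 LD3_c25)) = v7208 :=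
  Lrfl
theorem f85250 : Led Lsl_et (LP (LK LD1_c0 LD2_c23 LD3_c20)) = (LP (LK LD1_c0 LD2_c51 LD3_c38)) :=
  Lre_e IH (LK LD1_c0 LD2_c23 LD3_c20) (LK LD1_c0 LD2_c51 LD3_c38) Lrfl Lrfl
theorem f122780 : Led Lsl_bt (LP (LK LD1_c3 LD2_c55 LD3_c30)) = (LP (LK LD1_c1 LD2_c54 LD3_c21)) :=
  Lre_b IH (LK LD1_c3 LD2_c55 LD3_c30) (LK LD1_c1 LD2_c54 LD3_c21) Lrfl Lrfl
theorem f523726 : Led Lsl_bf (LP (LK LD1_c3 LD2_c45 LD3_c0)) = K34.v2517 :=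
  Lgr Lrot96 (Lpr_et (f85226 IH) (Lpr_bt (K34.f483487 IH) (Lpr_et (K34.f523725 IH) (Lpn K34.v2517))))
theorem f523736 : Led Lsl_df (LP (LK LD1_c3 LD2_c55 LD3_c30)) = (LP (LK LD1_c3 LD2_c45 LD3_c0)) :=
  Lgr Lrot12 (Lpr_bt (f122780 IH) (Lpr_dt (K34.f523733 IH) (Lpe (f523726 IH) (Lpn (LP (LK LD1_c3 LD2_c45 LD3_c0))))))
theorem f662291 : Led Lsl_gt (LP (LK LD1_c3 LD2_c55 LD3_c30)) = v7208 :=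
  Lgr Lrot112 (Lpr_df (f523736 IH) (Lpr_et (f85226 IH) (Lpe (K34.f85252 IH) (Lpe (f85250 IH) (Lpr_dt (K2.f65863 IH) (Lpe (K0.f5716 IH) (Lpe (K0.f5752 IH) (Lpr_gf (K5.f120946 IH) (Lpe (K29.f120936 IH) (Lpr_dt (f662285 IH) (Lpn v7208)))))))))))
theorem f437646 : Led Lsl_ct (LP (LK LD1_c1 LD2_c54 LD3_c21)) = (LP (LK LD1_c3 LD2_c55 LD3_c31)) :=
  Lre_c IH (LK LD1_c1 LD2_c54 LD3_c21) (LK LD1_c3 LD2_c55 LD3_c31) Lrfl Lrfl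
theorem f437914 : Led Lsl_ct (LP (LK LD1_c7 LD2_c24 LD3_c29)) = (LP (LK LD1_c3 LD2_c41 LD3_c52)) :=
  Lre_c IH (LK LD1_c7 LD2_c24 LD3_c29) (LK LD1_c3 LD2_c41 LD3_c52) Lrfl Lrfl
theorem f526969 : Led Lsl_ft (LP (LK LD1_c3 LD2_c55 LD3_c29)) = (LP (LK LD1_c7 LD2_c24 LD3_c29)) :=
  Lgr Lrot4 (Lpe (K29.f451201 IH) (Lpr_ff (K47.f526965 IH) (Lpe (f437914 IH) (Lpn (LP (LK LD1_c7 LD2_c24 LD3_c29))))))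
theorem f477030 : Led Lsl_ct (LP (LK LD1_c3 LD2_c55 LD3_c31)) = (LP (LK LD1_c1 LD2_c54 LD3_c21)) :=
  Lre_c IH (LK LD1_c3 LD2_c55 LD3_c31) (LK LD1_c1 LD2_c54 LD3_c21) Lrfl Lrfl
theorem f437913 : Led Lsl_ct (LP (LK LD1_c3 LD2_c41 LD3_c52)) = (LP (LK LD1_c7 LD2_c24 LD3_c29)) :=
  Lre_c IH (LK LD1_c3 LD2_c41 LD3_c52) (LK LD1_c7 LD2_c24 LD3_c29) Lrfl Lrfl
theorem f526947 : Led Lsl_af (LP (LK LD1_c3 LD2_c55 LD3_c31)) = (LP (LK LD1_c7 LD2_c24 LD3_c29)) :=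
  Lgr Lrot68 (Lpr_ct (f477030 IH) (Lpr_at (K34.f526943 IH) (Lpr_ct (f437913 IH) (Lpn (LP (LK LD1_c7 LD2_c24 LD3_c29))))))
theorem f526973 : Led Lsl_gt (LP (LK LD1_c7 LD2_c52 LD3_c49)) = (LP (LK LD1_c3 LD2_c55 LD3_c31)) :=
  Lgr Lrot46 (Lpe (K29.f451202 IH) (Lpr_ft (f526969 IH) (Lpe (f526947 IH) (Lpn (LP (LK LD1_c3 LD2_c55 LD3_c31))))))
theorem f662292 : Led Lsl_bt (LP (LK LD1_c3 LD2_c49 LD3_c2)) = v7208 :=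
  Lgr Lrot92 (Lpr_ct (K47.f660530 IH) (Lpe (K47.f660518 IH) (Lpe (K33.f97110 IH) (Lpr_bt (K47.f487099 IH) (Lpr_gt (K47.f517758 IH) (Lpr_ct (K29.f487413 IH) (Lpr_gt (f526973 IH) (Lpe (f437646 IH) (Lpr_bt (K34.f477029 IH) (Lpr_gt (f662291 IH) (Lpn v7208)))))))))))
theorem f665989 : Led Lsl_gt v7208 = v7487 :=
  Lgr Lrot164 (Lpe (f662292 IH) (Lpr_ct (K47.f660530 IH) (Lpe (K47.f660527 IH) (Lpe (K33.f10852 IH) (Lpe (K2.f10814 IH) (Lpr_bf (K47.f10136 IH) (Lpr_ct (K47.f10841 IH) (Lpe (K45.f10853 IH) (Lpr_cf (K45.f467444 IH) (Lpr_bt (f665986 IH) (Lpn v7487)))))))))))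
theorem f457513 : Led Lsl_gt (LP (LK LD1_c7 LD2_c3 LD3_c17)) = (LP (LK LD1_c3 LD2_c30 LD3_c39)) :=
  Lre_g IH (LK LD1_c7 LD2_c3 LD3_c17) (LK LD1_c3 LD2_c30 LD3_c39) Lrfl Lrfl
theorem f479944 : Led Lsl_ct (LP (LK LD1_c13 LD2_c3 LD3_c59)) = (LP (LK LD1_c7 LD2_c3 LD3_c17)) :=
  Lgr Lrot8 (Lpr_gt (K34.f458435 IH) (Lpr_dt (K34.f98760 IH) (Lpr_gt (K34.f479942 IH) (Lpr_dt (K34.f102605 IH) (Lpe (K28.f425199 IH) (Lpe (K35.f120886 IH) (Lpr_gf (K34.f468332 IH) (Lpe (K34.f457622 IH) (Lpe (f457513 IH) (Lpn (LP (LK LD1_c7 LD2_c3 LD3_c17))))))))))))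
theorem f661887 : Led Lsl_et (LP (LK LD1_c7 LD2_c3 LD3_c17)) = (LP (LK LD1_c13 LD2_c22 LD3_c42)) :=
  Lgr Lrot158 (Lpe (f479944 IH) (Lpr_ef (K34.f479938 IH) (Lpr_cf (f661883 IH) (Lpn (LP (LK LD1_c13 LD2_c22 LD3_c42))))))
theorem f661889 : Led Lsl_ef (LP (LK LD1_c7 LD2_c3 LD3_c17)) = (LP (LK LD1_c13 LD2_c22 LD3_c42)) :=
  Lgr Lrot88 (Lpr_et (f661887 IH) (Lpn (LP (LK LD1_c13 LD2_c22 LD3_c42))))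
theorem f665990 : Led Lsl_dt (LP (LK LD1_c13 LD2_c22 LD3_c42)) = v7487 :=
  Lgr Lrot56 (Lpe (f661889 IH) (Lpr_gt (f457513 IH) (Lpe (f480546 IH) (Lpr_dt (K29.f457635 IH) (Lpr_gt (K29.f87989 IH) (Lpr_df (K32.f479432 IH) (Lpr_et (K33.f479823 IH) (Lpe (K33.f480544 IH) (Lpr_dt (f662285 IH) (Lpr_gt (f665989 IH) (Lpn v7487)))))))))))
theorem f661885 : Led Lsl_ct (LP (LK LD1_c13 LD2_c9 LD3_c21)) = (LP (LK LD1_c13 LD2_c22 LD3_c42)) :=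
  Lgr Lrot59 (Lpr_cf (f661883 IH) (Lpn (LP (LK LD1_c13 LD2_c22 LD3_c42))))
theorem f91601 : Led Lsl_gt (LP (LK LD1_c3 LD2_c26 LD3_c58)) = (LP (LK LD1_c1 LD2_c40 LD3_c6)) :=
  Lre_g IH (LK LD1_c3 LD2_c26 LD3_c58) (LK LD1_c1 LD2_c40 LD3_c6) Lrfl Lrfl
theorem f91594 : Led Lsl_ct (LP (LK LD1_c1 LD2_c40 LD3_c6)) = (LP (LK LD1_c3 LD2_c26 LD3_c59)) :=
  Lre_c IH (LK LD1_c1 LD2_c40 LD3_c6) (LK LD1_c3 LD2_c26 LD3_c59) Lrfl Lrfl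
theorem f91627 : Led Lsl_gt (LP (LK LD1_c3 LD2_c26 LD3_c59)) = (LP (LK LD1_c6 LD2_c55 LD3_c47)) :=
  Lre_g IH (LK LD1_c3 LD2_c26 LD3_c59) (LK LD1_c6 LD2_c55 LD3_c47) Lrfl Lrfl
theorem f665991 : Led Lsl_ct (LP (LK LD1_c6 LD2_c55 LD3_c47)) = v7487 :=
  Lgr Lrot151 (Lpe (f91627 IH) (Lpe (f91594 IH) (Lpe (f91601 IH) (Lpr_dt (K29.f485844 IH) (Lpe (K33.f522463 IH) (Lpr_ct (K46.f466237 IH) (Lpr_gt (K46.f657447 IH) (Lpr_ct (f661885 IH) (Lpr_dt (f665990 IH) (Lpn v7487))))))))))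
theorem f665992 : Led Lsl_bt (LP (LK LD1_c13 LD2_c9 LD3_c37)) = (LP (LK LD1_c6 LD2_c55 LD3_c47)) :=
  Lre_b IH (LK LD1_c13 LD2_c9 LD3_c37) (LK LD1_c6 LD2_c55 LD3_c47) Lrfl Lrfl
theorem f665987 : Led Lsl_bf (LP (LK LD1_c3 LD2_c49 LD3_c13)) = v7487 :=
  Lgr Lrot24 (Lpr_bt (f665986 IH) (Lpn v7487))
theorem f467543 : Led Lsl_bt (LP (LK LD1_c3 LD2_c37 LD3_c37)) = (LP (LK LD1_c7 LD2_c15 LD3_c40)) :=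
  Lre_b IH (LK LD1_c3 LD2_c37 LD3_c37) (LK LD1_c7 LD2_c15 LD3_c40) Lrfl Lrfl
theorem f665993 : Led Lsl_cf (LP (LK LD1_c13 LD2_c9 LD3_c37)) = (LP (LK LD1_c7 LD2_c15 LD3_c40)) :=
  Lgr Lrot97 (Lpr_bt (f665992 IH) (Lpr_ct (f665991 IH) (Lpe (f665987 IH) (Lpe (K45.f467444 IH) (Lpr_bt (f467543 IH) (Lpn (LP (LK LD1_c7 LD2_c15 LD3_c40))))))))
theorem f665994 : Led Lsl_ct (LP (LK LD1_c7 LD2_c15 LD3_c40)) = (LP (LK LD1_c13 LD2_c9 LD3_c37)) :=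
  Leop (Lpr_cf (f665993 IH) (Lpn (LP (LK LD1_c7 LD2_c15 LD3_c40))))
theorem seed_494 : LEOK LG_c (LK LD1_c7 LD2_c15 LD3_c40) :=
  Leoe_c (LK LD1_c7 LD2_c15 LD3_c40) (f665994 IH)
def v7496 : LQ := Led Lsl_et (LP (LK LD1_c3 LD2_c49 LD3_c34))
theorem f666066 : Led Lsl_et (LP (LK LD1_c3 LD2_c49 LD3_c34)) = v7496 :=
  Lrfl
theorem f666069 : Led Lsl_ef (LP (LK LD1_c3 LD2_c49 LD3_c34)) = v7496 :=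
  Lgr Lrot88 (Lpr_et (f666066 IH) (Lpn v7496))
theorem f127951 : Led Lsl_at (LP (LK LD1_c7 LD2_c53 LD3_c18)) = (LP (LK LD1_c14 LD2_c22 LD3_c60)) :=
  Lgr Lrot100 (Lpr_af (K6.f127949 IH) (Lpn (LP (LK LD1_c14 LD2_c22 LD3_c60))))
theorem f96320 : Led Lsl_et (LP (LK LD1_c13 LD2_c6 LD3_c48)) = (LP (LK LD1_c6 LD2_c54 LD3_c2)) :=
  Lre_e IH (LK LD1_c13 LD2_c6 LD3_c48) (LK LD1_c6 LD2_c54 LD3_c2) Lrfl Lrfl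
theorem f96321 : Led Lsl_dt (LP (LK LD1_c13 LD2_c6 LD3_c48)) = (LP (LK LD1_c22 LD2_c18 LD3_c8)) :=
  Lre_d IH (LK LD1_c13 LD2_c6 LD3_c48) (LK LD1_c22 LD2_c18 LD3_c8) Lrfl Lrfl
theorem f96322 : Led Lsl_gf (LP (LK LD1_c14 LD2_c22 LD3_c60)) = (LP (LK LD1_c22 LD2_c18 LD3_c8)) :=
  Lgr Lrot145 (Lpe (K6.f88242 IH) (Lpr_et (K5.f88241 IH) (Lpr_gt (K5.f88234 IH) (Lpr_dt (K5.f88218 IH) (Lpr_gt (K5.f96306 IH) (Lpe (K8.f95249 IH) (Lpr_et (f96318 IH) (Lpr_gt (K47.f96319 IH) (Lpe (f96320 IH) (Lpr_dt (f96321 IH) (Lpn (LP (LK LD1_c22 LD2_c18 LD3_c8)))))))))))))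
theorem f484483 : Led Lsl_gf (LP (LK LD1_c22 LD2_c18 LD3_c8)) = (LP (LK LD1_c13 LD2_c36 LD3_c40)) :=
  Lgr Lrot47 (Lpe (f96322 IH) (Lpe (f127951 IH) (Lpr_ff (K33.f484446 IH) (Lpn (LP (LK LD1_c13 LD2_c36 LD3_c40))))))
theorem f518158 : Led Lsl_gf (LP (LK LD1_c7 LD2_c33 LD3_c14)) = (LP (LK LD1_c6 LD2_c54 LD3_c2)) :=
  Lgr Lrot47 (Lpr_gt (f483344 IH) (Lpe (K46.f486095 IH) (Lpr_ff (K47.f518154 IH) (Lpn (LP (LK LD1_c6 LD2_c54 LD3_c2))))))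
theorem f103674 : Led Lsl_af (LP (LK LD1_c6 LD2_c51 LD3_c47)) = (LP (LK LD1_c7 LD2_c32 LD3_c11)) :=
  Lgr Lrot68 (Lpe (K47.f12786 IH) (Lpr_at (K29.f12830 IH) (Lpr_ct (K4.f103672 IH) (Lpn (LP (LK LD1_c7 LD2_c32 LD3_c11))))))
theorem f535250 : Led Lsl_ff (LP (LK LD1_c7 LD2_c32 LD3_c11)) = (LP (LK LD1_c13 LD2_c17 LD3_c56)) :=
  Lgr Lrot30 (Lpe (f103674 IH) (Lpe (K47.f485709 IH) (Lpr_at (K47.f532805 IH) (Lpn (LP (LK LD1_c13 LD2_c17 LD3_c56))))))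
theorem f535260 : Led Lsl_ft (LP (LK LD1_c7 LD2_c32 LD3_c11)) = (LP (LK LD1_c13 LD2_c17 LD3_c56)) :=
  Lgr Lrot48 (Lpr_ff (f535250 IH) (Lpn (LP (LK LD1_c13 LD2_c17 LD3_c56))))
theorem f102452 : Led Lsl_et (LP (LK LD1_c6 LD2_c53 LD3_c60)) = (LP (LK LD1_c3 LD2_c26 LD3_c3)) :=
  Lre_e IH (LK LD1_c6 LD2_c53 LD3_c60) (LK LD1_c3 LD2_c26 LD3_c3) Lrfl Lrfl
theorem f535302 : Led Lsl_ef (LP (LK LD1_c7 LD2_c33 LD3_c14)) = (LP (LK LD1_c13 LD2_c17 LD3_c56)) :=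
  Lgr Lrot21 (Lpr_ft (f518329 IH) (Lpr_et (f102452 IH) (Lpr_ft (K4.f103665 IH) (Lpr_et (K47.f103671 IH) (Lpr_ft (f535260 IH) (Lpn (LP (LK LD1_c13 LD2_c17 LD3_c56))))))))
theorem f520784 : Led Lsl_dt (LP (LK LD1_c13 LD2_c17 LD3_c56)) = (LP (LK LD1_c22 LD2_c33 LD3_c43)) :=
  Lre_d IH (LK LD1_c13 LD2_c17 LD3_c56) (LK LD1_c22 LD2_c33 LD3_c43) Lrfl Lrfl
theorem f487973 : Led Lsl_et (LP (LK LD1_c14 LD2_c27 LD3_c19)) = (LP (LK LD1_c7 LD2_c40 LD3_c4)) :=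
  Lre_e IH (LK LD1_c14 LD2_c27 LD3_c19) (LK LD1_c7 LD2_c40 LD3_c4) Lrfl Lrfl
theorem f530197 : Led Lsl_df (LP (LK LD1_c13 LD2_c18 LD3_c2)) = (LP (LK LD1_c7 LD2_c40 LD3_c6)) :=
  Lgr Lrot38 (Lpr_dt (K34.f530191 IH) (Lpn (LP (LK LD1_c7 LD2_c40 LD3_c6))))
theorem f530215 : Led Lsl_bt (LP (LK LD1_c13 LD2_c18 LD3_c2)) = (LP (LK LD1_c22 LD2_c33 LD3_c56)) :=
  Lre_b IH (LK LD1_c13 LD2_c18 LD3_c2) (LK LD1_c22 LD2_c33 LD3_c56) Lrfl Lrfl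
theorem f530216 : Led Lsl_bt (LP (LK LD1_c14 LD2_c27 LD3_c19)) = (LP (LK LD1_c7 LD2_c40 LD3_c6)) :=
  Lre_b IH (LK LD1_c14 LD2_c27 LD3_c19) (LK LD1_c7 LD2_c40 LD3_c6) Lrfl Lrfl
theorem f530217 : Led Lsl_dt (LP (LK LD1_c22 LD2_c33 LD3_c56)) = (LP (LK LD1_c14 LD2_c27 LD3_c19)) :=
  Lgr Lrot79 (Lpe (f530215 IH) (Lpr_df (f530197 IH) (Lpe (f530216 IH) (Lpn (LP (LK LD1_c14 LD2_c27 LD3_c19))))))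
theorem f530220 : Led Lsl_et (LP (LK LD1_c13 LD2_c18 LD3_c1)) = (LP (LK LD1_c22 LD2_c33 LD3_c56)) :=
  Lre_e IH (LK LD1_c13 LD2_c18 LD3_c1) (LK LD1_c22 LD2_c33 LD3_c56) Lrfl Lrfl
theorem f666068 : Led Lsl_df (LP (LK LD1_c13 LD2_c18 LD3_c1)) = v7496 :=
  Lgr Lrot70 (Lpr_et (f530220 IH) (Lpr_dt (f530217 IH) (Lpr_et (f487973 IH) (Lpr_dt (K33.f487942 IH) (Lpr_et (f666066 IH) (Lpn v7496))))))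
theorem f666072 : Led Lsl_gt (LP (LK LD1_c22 LD2_c33 LD3_c43)) = (LP (LK LD1_c13 LD2_c18 LD3_c1)) :=
  Lgr Lrot112 (Lpe (f520784 IH) (Lpe (f535302 IH) (Lpr_gf (f518158 IH) (Lpe (f96320 IH) (Lpr_dt (f96321 IH) (Lpr_gf (f484483 IH) (Lpe (K33.f484477 IH) (Lpr_gf (K33.f487948 IH) (Lpr_ef (f666069 IH) (Lpe (f666068 IH) (Lpn (LP (LK LD1_c13 LD2_c18 LD3_c1)))))))))))))
theorem f666073 : Led Lsl_gt (LP (LK LD1_c22 LD2_c33 LD3_c43)) = (LP (LK LD1_c13 LD2_c18 LD3_c1)) :=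
  Leop (Lpe (f666072 IH) (Lpn (LP (LK LD1_c22 LD2_c33 LD3_c43))))
theorem seed_495 : LEOK LG_g (LK LD1_c22 LD2_c33 LD3_c43) :=
  Leoe_g (LK LD1_c22 LD2_c33 LD3_c43) (f666073 IH)
def v7502 : LQ := Led Lsl_gt (LP (LK LD1_c3 LD2_c49 LD3_c45))
theorem f666130 : Led Lsl_gt (LP (LK LD1_c3 LD2_c49 LD3_c45)) = v7502 :=
  Lrfl
theorem f110070 : Led Lsl_ft (LP (LK LD1_c0 LD2_c52 LD3_c18)) = (LP (LK LD1_c0 LD2_c23 LD3_c49)) :=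
  Lgr Lrot4 (Lpe (K3.f91234 IH) (Lpr_ff (K3.f110064 IH) (Lpe (K2.f64262 IH) (Lpn (LP (LK LD1_c0 LD2_c23 LD3_c49))))))
theorem f530116 : Led Lsl_et (LP (LK LD1_c1 LD2_c52 LD3_c5)) = v2652 :=
  Lgr Lrot69 (Lpe (K4.f117338 IH) (Lpe (K37.f63628 IH) (Lpe (f110070 IH) (Lpe (K3.f63710 IH) (Lpr_ff (f530114 IH) (Lpn v2652))))))
theorem f440839 : Led Lsl_dt (LP (LK LD1_c1 LD2_c52 LD3_c5)) = (LP (LK LD1_c3 LD2_c50 LD3_c21)) :=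
  Lre_d IH (LK LD1_c1 LD2_c52 LD3_c5) (LK LD1_c3 LD2_c50 LD3_c21) Lrfl Lrfl
def v7431 : LQ := Led Lsl_gt (LP (LK LD1_c3 LD2_c47 LD3_c20))
theorem f665470 : Led Lsl_gt (LP (LK LD1_c3 LD2_c47 LD3_c20)) = v7431 :=
  Lrfl
theorem f15251 : Led Lsl_dt (LP (LK LD1_c1 LD2_c50 LD3_c47)) = (LP (LK LD1_c3 LD2_c47 LD3_c20)) :=
  Lre_d IH (LK LD1_c1 LD2_c50 LD3_c47) (LK LD1_c3 LD2_c47 LD3_c20) Lrfl Lrfl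
theorem f467235 : Led Lsl_at (LP (LK LD1_c3 LD2_c27 LD3_c8)) = (LP (LK LD1_c3 LD2_c35 LD3_c0)) :=
  Lgr Lrot66 (Lpe (K29.f90035 IH) (Lpr_af (K29.f89854 IH) (Lpr_ff (K29.f467232 IH) (Lpn (LP (LK LD1_c3 LD2_c35 LD3_c0))))))
theorem f484237 : Led Lsl_gf (LP (LK LD1_c3 LD2_c35 LD3_c0)) = (LP (LK LD1_c3 LD2_c26 LD3_c37)) :=
  Lgr Lrot76 (Lpe (f467235 IH) (Lpe (K29.f90035 IH) (Lpr_gt (K33.f484235 IH) (Lpn (LP (LK LD1_c3 LD2_c26 LD3_c37))))))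
theorem f442358 : Led Lsl_bt (LP (LK LD1_c1 LD2_c51 LD3_c11)) = (LP (LK LD1_c0 LD2_c52 LD3_c35)) :=
  Lre_b IH (LK LD1_c1 LD2_c51 LD3_c11) (LK LD1_c0 LD2_c52 LD3_c35) Lrfl Lrfl
theorem f485563 : Led Lsl_gt (LP (LK LD1_c3 LD2_c47 LD3_c6)) = (LP (LK LD1_c1 LD2_c50 LD3_c47)) :=
  Lgr Lrot149 (Lpe (K29.f442353 IH) (Lpr_gf (K29.f442347 IH) (Lpe (f442358 IH) (Lpr_ct (K29.f466689 IH) (Lpr_gf (f484237 IH) (Lpe (K33.f15257 IH) (Lpq (K33.f484142 IH) (Lpe (K29.f479140 IH) (Lpqs (K33.f484142 IH) (Lpe (K33.f15107 IH) (Lpe (K33.f15091 IH) (Lpr_ct (K33.f15097 IH) (Lpn (LP (LK LD1_c1 LD2_c50 LD3_c47)))))))))))))))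
theorem f665343 : Led Lsl_ef (LP (LK LD1_c3 LD2_c47 LD3_c6)) = v7425 :=
  Lgr Lrot88 (Lpr_et (f665340 IH) (Lpn v7425))
theorem f665351 : Led Lsl_df (LP (LK LD1_c13 LD2_c22 LD3_c19)) = v7425 :=
  Lgr Lrot38 (Lpr_dt (f665348 IH) (Lpn v7425))
def v6803 : LQ := Led Lsl_gt (LP (LK LD1_c3 LD2_c30 LD3_c26))
theorem f658566 : Led Lsl_gt (LP (LK LD1_c3 LD2_c30 LD3_c26)) = v6803 :=
  Lrfl
theorem f461351 : Led Lsl_et (LP (LK LD1_c1 LD2_c41 LD3_c51)) = (LP (LK LD1_c3 LD2_c30 LD3_c26)) :=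
  Lre_e IH (LK LD1_c1 LD2_c41 LD3_c51) (LK LD1_c3 LD2_c30 LD3_c26) Lrfl Lrfl
theorem f459839 : Led Lsl_et (LP (LK LD1_c0 LD2_c53 LD3_c0)) = (LP (LK LD1_c1 LD2_c52 LD3_c42)) :=
  Lre_e IH (LK LD1_c0 LD2_c53 LD3_c0) (LK LD1_c1 LD2_c52 LD3_c42) Lrfl Lrfl
theorem f658568 : Led Lsl_et (LP (LK LD1_c7 LD2_c4 LD3_c50)) = v6803 :=
  Lgr Lrot122 (Lpr_dt (K29.f476329 IH) (Lpr_gt (K29.f459859 IH) (Lpe (K24.f65781 IH) (Lpr_et (f459839 IH) (Lpe (K47.f477497 IH) (Lpr_dt (K33.f443520 IH) (Lpe (K33.f461332 IH) (Lpe (K29.f18972 IH) (Lpr_et (f461351 IH) (Lpr_gt (f658566 IH) (Lpn v6803)))))))))))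
theorem f658570 : Led Lsl_ef (LP (LK LD1_c7 LD2_c4 LD3_c50)) = v6803 :=
  Lgr Lrot88 (Lpr_et (f658568 IH) (Lpn v6803))
theorem f665473 : Led Lsl_dt v6803 = v7431 :=
  Lgr Lrot56 (Lpe (f658570 IH) (Lpe (K29.f477181 IH) (Lpe (K24.f443331 IH) (Lpr_dt (f19069 IH) (Lpr_gt (f93485 IH) (Lpr_df (f665351 IH) (Lpe (f665343 IH) (Lpr_gt (f485563 IH) (Lpr_dt (f15251 IH) (Lpr_gt (f665470 IH) (Lpn v7431)))))))))))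
theorem f665475 : Led Lsl_gf (LP (LK LD1_c3 LD2_c50 LD3_c21)) = v7431 :=
  Lgr Lrot134 (Lpe (f440839 IH) (Lpr_et (f530116 IH) (Lpe (f530117 IH) (Lpe (K33.f443522 IH) (Lpr_dt (K33.f443520 IH) (Lpe (K33.f461332 IH) (Lpe (K29.f18972 IH) (Lpr_et (f461351 IH) (Lpr_gt (f658566 IH) (Lpr_dt (f665473 IH) (Lpn v7431)))))))))))
theorem f666131 : Led Lsl_dt (LP (LK LD1_c7 LD2_c24 LD3_c48)) = v7502 :=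
  Lgr Lrot56 (Lpe (f481902 IH) (Lpr_gt (K29.f477429 IH) (Lpr_ef (f658570 IH) (Lpr_dt (f665473 IH) (Lpe (f665475 IH) (Lpe (f440839 IH) (Lpr_et (f530116 IH) (Lpe (f530117 IH) (Lpr_dt (K33.f443523 IH) (Lpr_gt (f666130 IH) (Lpn v7502)))))))))))
theorem f666133 : Led Lsl_df (LP (LK LD1_c7 LD2_c24 LD3_c48)) = v7502 :=
  Lgr Lrot38 (Lpr_dt (f666131 IH) (Lpn v7502))
theorem f478455 : Led Lsl_et (LP (LK LD1_c7 LD2_c24 LD3_c49)) = (LP (LK LD1_c14 LD2_c1 LD3_c19)) :=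
  Lre_e IH (LK LD1_c7 LD2_c24 LD3_c49) (LK LD1_c14 LD2_c1 LD3_c19) Lrfl Lrfl
theorem f492275 : Led Lsl_gt (LP (LK LD1_c14 LD2_c1 LD3_c19)) = (LP (LK LD1_c23 LD2_c34 LD3_c3)) :=
  Lre_g IH (LK LD1_c14 LD2_c1 LD3_c19) (LK LD1_c23 LD2_c34 LD3_c3) Lrfl Lrfl
theorem f443525 : Led Lsl_et (LP (LK LD1_c13 LD2_c21 LD3_c21)) = (LP (LK LD1_c7 LD2_c2 LD3_c33)) :=
  Lre_e IH (LK LD1_c13 LD2_c21 LD3_c21) (LK LD1_c7 LD2_c2 LD3_c33) Lrfl Lrfl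
theorem f443526 : Led Lsl_dt (LP (LK LD1_c7 LD2_c40 LD3_c27)) = (LP (LK LD1_c13 LD2_c21 LD3_c21)) :=
  Lgr Lrot77 (Lpe (f443524 IH) (Lpe (K33.f443523 IH) (Lpe (K33.f443522 IH) (Lpr_df (K33.f443510 IH) (Lpe (f443525 IH) (Lpn (LP (LK LD1_c13 LD2_c21 LD3_c21))))))))
theorem f443537 : Led Lsl_gt (LP (LK LD1_c22 LD2_c38 LD3_c5)) = (LP (LK LD1_c13 LD2_c21 LD3_c21)) :=
  Lre_g IH (LK LD1_c22 LD2_c38 LD3_c5) (LK LD1_c13 LD2_c21 LD3_c21) Lrfl Lrfl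
theorem f443564 : Led Lsl_dt (LP (LK LD1_c30 LD2_c37 LD3_c22)) = (LP (LK LD1_c22 LD2_c38 LD3_c5)) :=
  Lre_d IH (LK LD1_c30 LD2_c37 LD3_c22) (LK LD1_c22 LD2_c38 LD3_c5) Lrfl Lrfl
theorem f666138 : Led Lsl_ef (LP (LK LD1_c23 LD2_c34 LD3_c3)) = (LP (LK LD1_c30 LD2_c37 LD3_c22)) :=
  Lgr Lrot17 (Lpe (f492275 IH) (Lpe (f478455 IH) (Lpr_dt (f459326 IH) (Lpe (f459327 IH) (Lpr_df (f666133 IH) (Lpe (f666130 IH) (Lpe (K33.f443563 IH) (Lpr_dt (f443526 IH) (Lpe (f443537 IH) (Lpe (f443564 IH) (Lpn (LP (LK LD1_c30 LD2_c37 LD3_c22)))))))))))))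
theorem f666139 : Led Lsl_et (LP (LK LD1_c30 LD2_c37 LD3_c22)) = (LP (LK LD1_c23 LD2_c34 LD3_c3)) :=
  Leop (Lpr_ef (f666138 IH) (Lpn (LP (LK LD1_c30 LD2_c37 LD3_c22))))
theorem seed_496 : LEOK LG_e (LK LD1_c30 LD2_c37 LD3_c22) :=
  Leoe_e (LK LD1_c30 LD2_c37 LD3_c22) (f666139 IH)
def v7505 : LQ := Led Lsl_ft (LP (LK LD1_c3 LD2_c49 LD3_c45))
theorem f666156 : Led Lsl_ft (LP (LK LD1_c3 LD2_c49 LD3_c45)) = v7505 :=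
  Lrfl
theorem f666159 : Led Lsl_ff (LP (LK LD1_c3 LD2_c49 LD3_c45)) = v7505 :=
  Lgr Lrot3 (Lpr_ft (f666156 IH) (Lpn v7505))
theorem f666162 : Led Lsl_gf (LP (LK LD1_c7 LD2_c53 LD3_c0)) = v7505 :=
  Lgr Lrot47 (Lpr_gt (f451198 IH) (Lpr_af (K33.f487651 IH) (Lpr_ff (f666159 IH) (Lpn v7505))))
def v2651 : LQ := Led Lsl_gt (LP (LK LD1_c1 LD2_c50 LD3_c50))
theorem f530102 : Led Lsl_gt (LP (LK LD1_c1 LD2_c50 LD3_c50)) = v2651 :=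
  Lrfl
def v845 : LQ := Led Lsl_gt (LP (LK LD1_c0 LD2_c52 LD3_c16))
theorem f459696 : Led Lsl_gt (LP (LK LD1_c0 LD2_c52 LD3_c16)) = v845 :=
  Lrfl
theorem f459709 : Led Lsl_af (LP (LK LD1_c0 LD2_c52 LD3_c44)) = K29.v848 :=
  Lgr Lrot45 (Lpr_ft (K29.f88470 IH) (Lpe (K29.f89195 IH) (Lpr_ft (K29.f459708 IH) (Lpn K29.v848))))
theorem f459712 : Led Lsl_gt v845 = (LP (LK LD1_c0 LD2_c52 LD3_c44)) :=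
  Lgr Lrot46 (Lpe (f459696 IH) (Lpr_ft (K29.f459708 IH) (Lpe (f459709 IH) (Lpn (LP (LK LD1_c0 LD2_c52 LD3_c44))))))
def v860 : LQ := Led Lsl_ft (LP (LK LD1_c0 LD2_c52 LD3_c42))
theorem f459815 : Led Lsl_ft (LP (LK LD1_c0 LD2_c52 LD3_c42)) = v860 :=
  Lrfl
theorem f459817 : Led Lsl_ff (LP (LK LD1_c0 LD2_c52 LD3_c42)) = v860 :=
  Lgr Lrot3 (Lpr_ft (f459815 IH) (Lpn v860))
theorem f459818 : Led Lsl_at K29.v209 = v860 :=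
  Lgr Lrot66 (Lpr_ff (K29.f459807 IH) (Lpe (K29.f459804 IH) (Lpr_ff (f459817 IH) (Lpn v860))))
theorem f487541 : v860 = v845 :=
  (Llr Lrot26 (Lpe (f459818 IH) (Lpr_ff (K29.f459807 IH) (Lpqs (K29.f478683 IH) (Lpq (K29.f477946 IH) (Lpe (K29.f459697 IH) (Lpr_gt (f459696 IH) (Lpn v845)))))))).symm
theorem f477707 : Led Lsl_bf v860 = v860 :=
  Lgr Lrot61 (Lpe (f459817 IH) (Lpr_bt (K29.f459808 IH) (Lpqs (K29.f477705 IH) (Lpr_ft (f459815 IH) (Lpn v860)))))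
theorem f530105 : Led Lsl_ct v860 = v2651 :=
  Lgr Lrot63 (Lpe (f477707 IH) (Lpqs (f487541 IH) (Lpr_gt (f459712 IH) (Lpe (K29.f459690 IH) (Lpe (K29.f477949 IH) (Lpr_gt (K29.f477976 IH) (Lpe (K29.f10840 IH) (Lpr_bt (K29.f97104 IH) (Lpr_gt (K29.f467479 IH) (Lpr_ct (K5.f91260 IH) (Lpr_gt (f530102 IH) (Lpn v2651))))))))))))
theorem f530107 : Led Lsl_ff (LP (LK LD1_c1 LD2_c51 LD3_c51)) = v2651 :=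
  Lgr Lrot23 (Lpr_ct (K33.f443606 IH) (Lpr_ft (f459815 IH) (Lpr_ct (f530105 IH) (Lpn v2651))))
theorem f530110 : Led Lsl_ft (LP (LK LD1_c1 LD2_c51 LD3_c51)) = v2651 :=
  Lgr Lrot48 (Lpr_ff (f530107 IH) (Lpn v2651))
theorem f666161 : Led Lsl_dt v2651 = v7505 :=
  Lgr Lrot60 (Lpe (f530110 IH) (Lpe (f443577 IH) (Lpr_ff (f666159 IH) (Lpn v7505))))
theorem f466837 : Led Lsl_dt (LP (LK LD1_c1 LD2_c54 LD3_c25)) = (LP (LK LD1_c1 LD2_c47 LD3_c56)) :=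
  Lre_d IH (LK LD1_c1 LD2_c54 LD3_c25) (LK LD1_c1 LD2_c47 LD3_c56) Lrfl Lrfl
theorem f110110 : Led Lsl_af (LP (LK LD1_c3 LD2_c47 LD3_c28)) = (LP (LK LD1_c1 LD2_c52 LD3_c14)) :=
  Lgr Lrot0 (Lpr_at (K3.f110105 IH) (Lpn (LP (LK LD1_c1 LD2_c52 LD3_c14))))
theorem f441343 : Led Lsl_ft (LP (LK LD1_c3 LD2_c50 LD3_c46)) = (LP (LK LD1_c1 LD2_c52 LD3_c14)) :=
  Lre_f IH (LK LD1_c3 LD2_c50 LD3_c46) (LK LD1_c1 LD2_c52 LD3_c14) Lrfl Lrfl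
theorem f481893 : Led Lsl_gt (LP (LK LD1_c3 LD2_c50 LD3_c46)) = (LP (LK LD1_c7 LD2_c24 LD3_c49)) :=
  Lgr Lrot5 (Lpr_ft (f441343 IH) (Lpe (f110110 IH) (Lpr_gf (f481891 IH) (Lpn (LP (LK LD1_c7 LD2_c24 LD3_c49))))))
theorem f530108 : Led Lsl_gf (LP (LK LD1_c1 LD2_c52 LD3_c15)) = v2651 :=
  Lgr Lrot148 (Lpr_dt (K43.f110108 IH) (Lpr_gt (f481893 IH) (Lpr_dt (f459326 IH) (Lpr_ct (f456255 IH) (Lpe (f466837 IH) (Lpr_gf (K29.f487085 IH) (Lpe (K29.f442290 IH) (Lpe (f459712 IH) (Lpq (f487541 IH) (Lpr_ct (f530105 IH) (Lpn v2651)))))))))))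
theorem f467463 : Led Lsl_ct (LP (LK LD1_c7 LD2_c40 LD3_c11)) = (LP (LK LD1_c3 LD2_c49 LD3_c38)) :=
  Lre_c IH (LK LD1_c7 LD2_c40 LD3_c11) (LK LD1_c3 LD2_c49 LD3_c38) Lrfl Lrfl
theorem f89214 : Led Lsl_ct (LP (LK LD1_c7 LD2_c35 LD3_c17)) = (LP (LK LD1_c14 LD2_c18 LD3_c23)) :=
  Lre_c IH (LK LD1_c7 LD2_c35 LD3_c17) (LK LD1_c14 LD2_c18 LD3_c23) Lrfl Lrfl
theorem f520255 : Led Lsl_af (LP (LK LD1_c7 LD2_c40 LD3_c11)) = (LP (LK LD1_c14 LD2_c18 LD3_c23)) :=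
  Lgr Lrot68 (Lpr_ct (f467463 IH) (Lpr_at (K33.f520251 IH) (Lpr_ct (f89214 IH) (Lpn (LP (LK LD1_c14 LD2_c18 LD3_c23))))))
theorem f487981 : Led Lsl_ct (LP (LK LD1_c3 LD2_c49 LD3_c36)) = (LP (LK LD1_c7 LD2_c40 LD3_c5)) :=
  Lre_c IH (LK LD1_c3 LD2_c49 LD3_c36) (LK LD1_c7 LD2_c40 LD3_c5) Lrfl Lrfl
theorem f89216 : Led Lsl_ct (LP (LK LD1_c14 LD2_c18 LD3_c23)) = (LP (LK LD1_c7 LD2_c35 LD3_c17)) :=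
  Lre_c IH (LK LD1_c14 LD2_c18 LD3_c23) (LK LD1_c7 LD2_c35 LD3_c17) Lrfl Lrfl
theorem f520095 : Led Lsl_ft (LP (LK LD1_c7 LD2_c40 LD3_c5)) = (LP (LK LD1_c14 LD2_c18 LD3_c23)) :=
  Lgr Lrot4 (Lpe (f487981 IH) (Lpr_ff (K33.f520092 IH) (Lpe (f89216 IH) (Lpn (LP (LK LD1_c14 LD2_c18 LD3_c23))))))
theorem f522122 : Led Lsl_gt (LP (LK LD1_c7 LD2_c40 LD3_c5)) = (LP (LK LD1_c14 LD2_c27 LD3_c20)) :=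
  Lre_g IH (LK LD1_c7 LD2_c40 LD3_c5) (LK LD1_c14 LD2_c27 LD3_c20) Lrfl Lrfl
theorem f522123 : Led Lsl_gf (LP (LK LD1_c7 LD2_c40 LD3_c11)) = (LP (LK LD1_c14 LD2_c27 LD3_c20)) :=
  Lgr Lrot76 (Lpr_af (f520255 IH) (Lpe (f520095 IH) (Lpr_gt (f522122 IH) (Lpn (LP (LK LD1_c14 LD2_c27 LD3_c20))))))
theorem f666164 : Led Lsl_ct (LP (LK LD1_c7 LD2_c53 LD3_c0)) = (LP (LK LD1_c14 LD2_c27 LD3_c20)) :=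
  Lgr Lrot152 (Lpr_gf (f666162 IH) (Lpe (f666161 IH) (Lpe (f530108 IH) (Lpe (K33.f467484 IH) (Lpr_gt (K29.f97105 IH) (Lpr_ct (K29.f467448 IH) (Lpe (K33.f451102 IH) (Lpe (f467463 IH) (Lpr_gf (f522123 IH) (Lpn (LP (LK LD1_c14 LD2_c27 LD3_c20))))))))))))
theorem f666165 : Led Lsl_ct (LP (LK LD1_c7 LD2_c53 LD3_c0)) = (LP (LK LD1_c14 LD2_c27 LD3_c20)) :=
  Leop (Lpe (f666164 IH) (Lpn (LP (LK LD1_c7 LD2_c53 LD3_c0))))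
theorem seed_497 : LEOK LG_c (LK LD1_c7 LD2_c53 LD3_c0) :=
  Leoe_c (LK LD1_c7 LD2_c53 LD3_c0) (f666165 IH)
def v7503 : LQ := Led Lsl_gf (LP (LK LD1_c3 LD2_c49 LD3_c45))
theorem f666142 : Led Lsl_gf (LP (LK LD1_c3 LD2_c49 LD3_c45)) = v7503 :=
  Lrfl
def v859 : LQ := Led Lsl_dt (LP (LK LD1_c0 LD2_c52 LD3_c42))
theorem f459812 : Led Lsl_dt (LP (LK LD1_c0 LD2_c52 LD3_c42)) = v859 :=
  Lrfl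
theorem f459813 : Led Lsl_df (LP (LK LD1_c0 LD2_c52 LD3_c42)) = v859 :=
  Lgr Lrot38 (Lpr_dt (f459812 IH) (Lpn v859))
def v3468 : LQ := Led Lsl_gf v859
theorem f625777 : Led Lsl_gf v859 = v3468 :=
  Lrfl
theorem f18551 : Led Lsl_gt (LP (LK LD1_c1 LD2_c42 LD3_c1)) = (LP (LK LD1_c3 LD2_c28 LD3_c18)) :=
  Lre_g IH (LK LD1_c1 LD2_c42 LD3_c1) (LK LD1_c3 LD2_c28 LD3_c18) Lrfl Lrfl
theorem f625779 : Led Lsl_dt K34.v2533 = v3468 :=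
  Lgr Lrot136 (Lpe (K34.f527209 IH) (Lpe (f18551 IH) (Lpe (K1.f62767 IH) (Lpr_dt (K1.f62768 IH) (Lpe (K24.f129671 IH) (Lpe (K29.f85282 IH) (Lpe (K29.f477490 IH) (Lpe (K29.f443505 IH) (Lpr_dt (f459812 IH) (Lpr_gf (f625777 IH) (Lpn v3468)))))))))))
theorem f666145 : Led Lsl_dt (LP (LK LD1_c7 LD2_c24 LD3_c47)) = v7503 :=
  Lgr Lrot57 (Lpe (f455714 IH) (Lpe (K29.f455713 IH) (Lpr_gt (K34.f527200 IH) (Lpr_dt (f625779 IH) (Lpe (f625777 IH) (Lpe (f459813 IH) (Lpe (K33.f443606 IH) (Lpe (f443577 IH) (Lpr_gf (f666142 IH) (Lpn v7503))))))))))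
theorem f491925 : Led Lsl_dt (LP (LK LD1_c7 LD2_c53 LD3_c0)) = (LP (LK LD1_c7 LD2_c3 LD3_c5)) :=
  Lgr Lrot42 (Lpr_df (f491919 IH) (Lpn (LP (LK LD1_c7 LD2_c3 LD3_c5))))
theorem f666146 : Led Lsl_af (LP (LK LD1_c7 LD2_c53 LD3_c0)) = v7503 :=
  Lgr Lrot117 (Lpr_dt (f491925 IH) (Lpe (f656347 IH) (Lpr_dt (f666145 IH) (Lpn v7503))))
theorem f666147 : Led Lsl_df (LP (LK LD1_c7 LD2_c24 LD3_c47)) = v7503 :=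
  Lgr Lrot38 (Lpr_dt (f666145 IH) (Lpn v7503))
theorem f656364 : Led Lsl_ft (LP (LK LD1_c7 LD2_c24 LD3_c47)) = (LP (LK LD1_c7 LD2_c33 LD3_c39)) :=
  Lgr Lrot48 (Lpr_ff (f656358 IH) (Lpn (LP (LK LD1_c7 LD2_c33 LD3_c39))))
theorem f666149 : Led Lsl_ft (LP (LK LD1_c7 LD2_c52 LD3_c61)) = v7503 :=
  Lgr Lrot54 (Lpr_df (f478341 IH) (Lpe (f656364 IH) (Lpr_df (f666147 IH) (Lpn v7503))))
theorem f666163 : Led Lsl_gt (LP (LK LD1_c7 LD2_c52 LD3_c61)) = v7505 :=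
  Lgr Lrot5 (Lpr_ft (f666149 IH) (Lpe (f666146 IH) (Lpr_gf (f666162 IH) (Lpn v7505))))
theorem f478354 : Led Lsl_ef (LP (LK LD1_c7 LD2_c52 LD3_c61)) = (LP (LK LD1_c7 LD2_c46 LD3_c16)) :=
  Lgr Lrot88 (Lpr_et (f478348 IH) (Lpn (LP (LK LD1_c7 LD2_c46 LD3_c16))))
theorem f477866 : Led Lsl_gt (LP (LK LD1_c7 LD2_c46 LD3_c15)) = (LP (LK LD1_c3 LD2_c52 LD3_c14)) :=
  Lre_g IH (LK LD1_c7 LD2_c46 LD3_c15) (LK LD1_c3 LD2_c52 LD3_c14) Lrfl Lrfl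
theorem f477896 : Led Lsl_dt (LP (LK LD1_c14 LD2_c39 LD3_c23)) = (LP (LK LD1_c7 LD2_c46 LD3_c15)) :=
  Lre_d IH (LK LD1_c14 LD2_c39 LD3_c23) (LK LD1_c7 LD2_c46 LD3_c15) Lrfl Lrfl
theorem f666158 : Led Lsl_df v2651 = v7505 :=
  Lgr Lrot78 (Lpe (f530107 IH) (Lpr_dt (K33.f443523 IH) (Lpr_ft (f666156 IH) (Lpn v7505))))
theorem f136697 : Led Lsl_dt (LP (LK LD1_c3 LD2_c50 LD3_c46)) = (LP (LK LD1_c1 LD2_c52 LD3_c15)) :=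
  Lre_d IH (LK LD1_c3 LD2_c50 LD3_c46) (LK LD1_c1 LD2_c52 LD3_c15) Lrfl Lrfl
theorem f136700 : Led Lsl_et (LP (LK LD1_c3 LD2_c50 LD3_c46)) = (LP (LK LD1_c7 LD2_c42 LD3_c39)) :=
  Lre_e IH (LK LD1_c3 LD2_c50 LD3_c46) (LK LD1_c7 LD2_c42 LD3_c39) Lrfl Lrfl
theorem f530109 : Led Lsl_gt (LP (LK LD1_c7 LD2_c42 LD3_c39)) = (LP (LK LD1_c14 LD2_c32 LD3_c6)) :=
  Lre_g IH (LK LD1_c7 LD2_c42 LD3_c39) (LK LD1_c14 LD2_c32 LD3_c6) Lrfl Lrfl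
theorem f666177 : Led Lsl_et (LP (LK LD1_c14 LD2_c39 LD3_c23)) = (LP (LK LD1_c14 LD2_c32 LD3_c6)) :=
  Lgr Lrot122 (Lpr_dt (f477896 IH) (Lpr_gt (f477866 IH) (Lpe (f478336 IH) (Lpe (f478354 IH) (Lpr_gt (f666163 IH) (Lpe (f666158 IH) (Lpe (f530108 IH) (Lpe (f136697 IH) (Lpr_et (f136700 IH) (Lpr_gt (f530109 IH) (Lpn (LP (LK LD1_c14 LD2_c32 LD3_c6)))))))))))))
theorem f666178 : Led Lsl_et (LP (LK LD1_c14 LD2_c39 LD3_c23)) = (LP (LK LD1_c14 LD2_c32 LD3_c6)) :=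
  Leop (Lpe (f666177 IH) (Lpn (LP (LK LD1_c14 LD2_c39 LD3_c23))))
theorem seed_498 : LEOK LG_e (LK LD1_c14 LD2_c39 LD3_c23) :=
  Leoe_e (LK LD1_c14 LD2_c39 LD3_c23) (f666178 IH)
def v7512 : LQ := Led Lsl_ct (LP (LK LD1_c3 LD2_c49 LD3_c50))
theorem f666228 : Led Lsl_ct (LP (LK LD1_c3 LD2_c49 LD3_c50)) = v7512 :=
  Lrfl
theorem f87170 : Led Lsl_gt (LP (LK LD1_c1 LD2_c51 LD3_c55)) = (LP (LK LD1_c3 LD2_c49 LD3_c50)) :=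
  Lre_g IH (LK LD1_c1 LD2_c51 LD3_c55) (LK LD1_c3 LD2_c49 LD3_c50) Lrfl Lrfl
theorem f86930 : Led Lsl_ct (LP (LK LD1_c0 LD2_c52 LD3_c43)) = (LP (LK LD1_c1 LD2_c51 LD3_c55)) :=
  Lre_c IH (LK LD1_c0 LD2_c52 LD3_c43) (LK LD1_c1 LD2_c51 LD3_c55) Lrfl Lrfl
theorem f461838 : Led Lsl_ct (LP (LK LD1_c3 LD2_c31 LD3_c3)) = (LP (LK LD1_c7 LD2_c4 LD3_c2)) :=
  Lre_c IH (LK LD1_c3 LD2_c31 LD3_c3) (LK LD1_c7 LD2_c4 LD3_c2) Lrfl Lrfl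
theorem f517024 : Led Lsl_dt (LP (LK LD1_c7 LD2_c3 LD3_c28)) = (LP (LK LD1_c7 LD2_c48 LD3_c31)) :=
  Lgr Lrot60 (Lpe (f516857 IH) (Lpe (K47.f472287 IH) (Lpr_ff (f517020 IH) (Lpn (LP (LK LD1_c7 LD2_c48 LD3_c31))))))
theorem f461607 : Led Lsl_ef (LP (LK LD1_c7 LD2_c40 LD3_c15)) = (LP (LK LD1_c7 LD2_c3 LD3_c28)) :=
  Lgr Lrot88 (Lpr_et (K47.f461598 IH) (Lpn (LP (LK LD1_c7 LD2_c3 LD3_c28))))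
theorem f477351 : Led Lsl_et (LP (LK LD1_c3 LD2_c31 LD3_c2)) = (LP (LK LD1_c7 LD2_c4 LD3_c2)) :=
  Lre_e IH (LK LD1_c3 LD2_c31 LD3_c2) (LK LD1_c7 LD2_c4 LD3_c2) Lrfl Lrfl
theorem f517124 : Led Lsl_gf (LP (LK LD1_c7 LD2_c40 LD3_c15)) = (LP (LK LD1_c7 LD2_c4 LD3_c2)) :=
  Lgr Lrot141 (Lpr_ef (f461607 IH) (Lpr_dt (f517024 IH) (Lpr_gt (f472332 IH) (Lpe (K34.f472335 IH) (Lpr_et (f472404 IH) (Lpr_gt (K34.f516600 IH) (Lpe (K33.f467134 IH) (Lpe (K34.f512452 IH) (Lpe (K33.f461827 IH) (Lpr_et (f477351 IH) (Lpn (LP (LK LD1_c7 LD2_c4 LD3_c2)))))))))))))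
theorem f486242 : Led Lsl_ft (LP (LK LD1_c12 LD2_c34 LD3_c58)) = (LP (LK LD1_c6 LD2_c34 LD3_c11)) :=
  Lre_f IH (LK LD1_c12 LD2_c34 LD3_c58) (LK LD1_c6 LD2_c34 LD3_c11) Lrfl Lrfl
theorem f517936 : Led Lsl_ct (LP (LK LD1_c7 LD2_c40 LD3_c15)) = (LP (LK LD1_c12 LD2_c34 LD3_c58)) :=
  Lgr Lrot40 (Lpr_ff (K47.f517932 IH) (Lpr_cf (K47.f482928 IH) (Lpe (f486242 IH) (Lpn (LP (LK LD1_c12 LD2_c34 LD3_c58))))))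
theorem f666232 : Led Lsl_df (LP (LK LD1_c12 LD2_c34 LD3_c58)) = v7512 :=
  Lgr Lrot162 (Lpe (f517936 IH) (Lpr_gf (f517124 IH) (Lpe (f461838 IH) (Lpe (K34.f527213 IH) (Lpr_dt (K5.f87960 IH) (Lpr_gt (K5.f86935 IH) (Lpr_ct (f86930 IH) (Lpr_gt (f87170 IH) (Lpr_ct (f666228 IH) (Lpn v7512))))))))))
theorem f486243 : Led Lsl_ft (LP (LK LD1_c6 LD2_c34 LD3_c11)) = (LP (LK LD1_c12 LD2_c34 LD3_c58)) :=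
  Lre_f IH (LK LD1_c6 LD2_c34 LD3_c11) (LK LD1_c12 LD2_c34 LD3_c58) Lrfl Lrfl
theorem f517944 : Led Lsl_cf (LP (LK LD1_c7 LD2_c40 LD3_c15)) = (LP (LK LD1_c12 LD2_c34 LD3_c58)) :=
  Lgr Lrot108 (Lpr_ft (K47.f517940 IH) (Lpr_ct (K47.f486240 IH) (Lpr_ft (f486243 IH) (Lpn (LP (LK LD1_c12 LD2_c34 LD3_c58))))))
def v7000 : LQ := Led Lsl_dt (LP (LK LD1_c3 LD2_c35 LD3_c55))
theorem f660103 : Led Lsl_dt (LP (LK LD1_c3 LD2_c35 LD3_c55)) = v7000 :=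
  Lrfl
theorem f666235 : Led Lsl_gt v7000 = v7512 :=
  Lgr Lrot49 (Lpe (f660103 IH) (Lpe (K29.f467479 IH) (Lpr_cf (K34.f467456 IH) (Lpr_gt (K29.f87813 IH) (Lpr_dt (K5.f87938 IH) (Lpr_gt (K43.f92656 IH) (Lpr_dt (K47.f461604 IH) (Lpr_cf (f517944 IH) (Lpr_df (f666232 IH) (Lpn v7512))))))))))
theorem f6656 : Led Lsl_bt (LP (LK LD1_c3 LD2_c37 LD3_c33)) = (LP (LK LD1_c1 LD2_c45 LD3_c38)) :=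
  Lre_b IH (LK LD1_c3 LD2_c37 LD3_c33) (LK LD1_c1 LD2_c45 LD3_c38) Lrfl Lrfl
theorem f483265 : Led Lsl_df (LP (LK LD1_c3 LD2_c37 LD3_c33)) = (LP (LK LD1_c6 LD2_c53 LD3_c1)) :=
  Lgr Lrot12 (Lpr_bt (f6656 IH) (Lpr_dt (K29.f10849 IH) (Lpr_bt (K35.f483261 IH) (Lpn (LP (LK LD1_c6 LD2_c53 LD3_c1))))))
theorem f660108 : Led Lsl_gt (LP (LK LD1_c3 LD2_c37 LD3_c33)) = v7000 :=
  Lgr Lrot112 (Lpr_df (f483265 IH) (Lpr_et (K35.f114424 IH) (Lpe (K29.f94337 IH) (Lpe (K4.f94334 IH) (Lpr_dt (K2.f94332 IH) (Lpe (K3.f94617 IH) (Lpe (K28.f103570 IH) (Lpr_gf (K4.f114418 IH) (Lpe (K29.f91277 IH) (Lpr_dt (f660103 IH) (Lpn v7000)))))))))))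
def v7046 : LQ := Led Lsl_ft (LP (LK LD1_c3 LD2_c37 LD3_c33))
theorem f660550 : Led Lsl_ft (LP (LK LD1_c3 LD2_c37 LD3_c33)) = v7046 :=
  Lrfl
theorem f666236 : Led Lsl_at v7046 = v7512 :=
  Lgr Lrot26 (Lpe (f660550 IH) (Lpr_gt (f660108 IH) (Lpr_gt (f666235 IH) (Lpn v7512))))
theorem f467550 : Led Lsl_at (LP (LK LD1_c7 LD2_c15 LD3_c34)) = (LP (LK LD1_c3 LD2_c37 LD3_c33)) :=
  Lre_a IH (LK LD1_c7 LD2_c15 LD3_c34) (LK LD1_c3 LD2_c37 LD3_c33) Lrfl Lrfl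
theorem f666238 : Led Lsl_ff (LP (LK LD1_c7 LD2_c15 LD3_c34)) = v7512 :=
  Lgr Lrot30 (Lpr_at (f467550 IH) (Lpr_ft (f660550 IH) (Lpr_at (f666236 IH) (Lpn v7512))))
theorem f478277 : Led Lsl_bf (LP (LK LD1_c6 LD2_c55 LD3_c19)) = (LP (LK LD1_c3 LD2_c36 LD3_c26)) :=
  Lgr Lrot24 (Lpr_bt (K29.f478275 IH) (Lpn (LP (LK LD1_c3 LD2_c36 LD3_c26))))
theorem f517752 : Led Lsl_bf (LP (LK LD1_c7 LD2_c15 LD3_c34)) = (LP (LK LD1_c13 LD2_c8 LD3_c45)) :=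
  Lgr Lrot81 (Lpr_at (f467550 IH) (Lpr_bt (f6656 IH) (Lpr_at (K47.f517235 IH) (Lpe (f478277 IH) (Lpr_at (K47.f517741 IH) (Lpn (LP (LK LD1_c13 LD2_c8 LD3_c45))))))))
theorem f517794 : Led Lsl_bt (LP (LK LD1_c7 LD2_c15 LD3_c34)) = (LP (LK LD1_c13 LD2_c8 LD3_c45)) :=
  Lgr Lrot127 (Lpr_bf (f517752 IH) (Lpn (LP (LK LD1_c13 LD2_c8 LD3_c45))))
theorem f517260 : Led Lsl_ff (LP (LK LD1_c3 LD2_c37 LD3_c30)) = (LP (LK LD1_c6 LD2_c55 LD3_c19)) :=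
  Lgr Lrot3 (Lpr_ft (K47.f517257 IH) (Lpn (LP (LK LD1_c6 LD2_c55 LD3_c19))))
theorem f91706 : Led Lsl_gt (LP (LK LD1_c3 LD2_c26 LD3_c45)) = (LP (LK LD1_c6 LD2_c55 LD3_c18)) :=
  Lre_g IH (LK LD1_c3 LD2_c26 LD3_c45) (LK LD1_c6 LD2_c55 LD3_c18) Lrfl Lrfl
theorem f517263 : Led Lsl_at (LP (LK LD1_c3 LD2_c37 LD3_c30)) = (LP (LK LD1_c6 LD2_c55 LD3_c18)) :=
  Lgr Lrot26 (Lpr_ff (f517260 IH) (Lpr_gt (K29.f91705 IH) (Lpr_gt (f91706 IH) (Lpn (LP (LK LD1_c6 LD2_c55 LD3_c18))))))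
theorem f517265 : Led Lsl_af (LP (LK LD1_c3 LD2_c37 LD3_c30)) = (LP (LK LD1_c6 LD2_c55 LD3_c18)) :=
  Lgr Lrot0 (Lpr_at (f517263 IH) (Lpn (LP (LK LD1_c6 LD2_c55 LD3_c18))))
theorem f517756 : Led Lsl_ff (LP (LK LD1_c6 LD2_c55 LD3_c18)) = (LP (LK LD1_c13 LD2_c8 LD3_c45)) :=
  Lgr Lrot30 (Lpe (f517265 IH) (Lpr_ft (K47.f517257 IH) (Lpr_at (K47.f517741 IH) (Lpn (LP (LK LD1_c13 LD2_c8 LD3_c45))))))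
theorem f666239 : Led Lsl_bt (LP (LK LD1_c6 LD2_c55 LD3_c18)) = v7512 :=
  Lgr Lrot35 (Lpr_ff (f517756 IH) (Lpe (f517794 IH) (Lpr_ff (f666238 IH) (Lpn v7512))))
theorem f123215 : Led Lsl_dt (LP (LK LD1_c3 LD2_c54 LD3_c57)) = (LP (LK LD1_c1 LD2_c54 LD3_c4)) :=
  Lre_d IH (LK LD1_c3 LD2_c54 LD3_c57) (LK LD1_c1 LD2_c54 LD3_c4) Lrfl Lrfl
theorem f437614 : Led Lsl_ct (LP (LK LD1_c7 LD2_c51 LD3_c33)) = (LP (LK LD1_c3 LD2_c54 LD3_c57)) :=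
  Lre_c IH (LK LD1_c7 LD2_c51 LD3_c33) (LK LD1_c3 LD2_c54 LD3_c57) Lrfl Lrfl
theorem f437618 : Led Lsl_gt (LP (LK LD1_c3 LD2_c55 LD3_c33)) = (LP (LK LD1_c7 LD2_c51 LD3_c33)) :=
  Lre_g IH (LK LD1_c3 LD2_c55 LD3_c33) (LK LD1_c7 LD2_c51 LD3_c33) Lrfl Lrfl
theorem f477018 : Led Lsl_ct (LP (LK LD1_c6 LD2_c55 LD3_c18)) = (LP (LK LD1_c3 LD2_c55 LD3_c33)) :=
  Lgr Lrot152 (Lpe (f91706 IH) (Lpe (K29.f91716 IH) (Lpr_gt (K29.f91712 IH) (Lpr_ct (K29.f477012 IH) (Lpr_gt (K29.f437638 IH) (Lpr_ct (K29.f123191 IH) (Lpe (f123215 IH) (Lpe (f437614 IH) (Lpe (f437618 IH) (Lpn (LP (LK LD1_c3 LD2_c55 LD3_c33))))))))))))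
theorem f477024 : Led Lsl_cf (LP (LK LD1_c6 LD2_c55 LD3_c18)) = (LP (LK LD1_c3 LD2_c55 LD3_c33)) :=
  Lgr Lrot11 (Lpr_ct (f477018 IH) (Lpn (LP (LK LD1_c3 LD2_c55 LD3_c33))))
theorem f437619 : Led Lsl_bt (LP (LK LD1_c7 LD2_c52 LD3_c56)) = (LP (LK LD1_c3 LD2_c55 LD3_c33)) :=
  Lre_b IH (LK LD1_c7 LD2_c52 LD3_c56) (LK LD1_c3 LD2_c55 LD3_c33) Lrfl Lrfl
theorem f666230 : Led Lsl_cf (LP (LK LD1_c3 LD2_c49 LD3_c50)) = v7512 :=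
  Lgr Lrot11 (Lpr_ct (f666228 IH) (Lpn v7512))
theorem f666217 : Led Lsl_bt (LP (LK LD1_c3 LD2_c49 LD3_c50)) = (LP (LK LD1_c7 LD2_c40 LD3_c32)) :=
  Lre_b IH (LK LD1_c3 LD2_c49 LD3_c50) (LK LD1_c7 LD2_c40 LD3_c32) Lrfl Lrfl
theorem f666241 : Led Lsl_cf (LP (LK LD1_c7 LD2_c52 LD3_c56)) = (LP (LK LD1_c7 LD2_c40 LD3_c32)) :=
  Lgr Lrot97 (Lpr_bt (f437619 IH) (Lpe (f477024 IH) (Lpr_bt (f666239 IH) (Lpe (f666230 IH) (Lpr_bt (f666217 IH) (Lpn (LP (LK LD1_c7 LD2_c40 LD3_c32))))))))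
theorem f666242 : Led Lsl_ct (LP (LK LD1_c7 LD2_c40 LD3_c32)) = (LP (LK LD1_c7 LD2_c52 LD3_c56)) :=
  Leop (Lpr_cf (f666241 IH) (Lpn (LP (LK LD1_c7 LD2_c40 LD3_c32))))
theorem seed_499 : LEOK LG_c (LK LD1_c7 LD2_c40 LD3_c32) :=
  Leoe_c (LK LD1_c7 LD2_c40 LD3_c32) (f666242 IH)
def v7532 : LQ := Led Lsl_dt (LP (LK LD1_c3 LD2_c50 LD3_c19))
theorem f666364 : Led Lsl_dt (LP (LK LD1_c3 LD2_c50 LD3_c19)) = v7532 :=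
  Lrfl
theorem f458492 : Led Lsl_gt (LP (LK LD1_c1 LD2_c52 LD3_c4)) = (LP (LK LD1_c3 LD2_c50 LD3_c19)) :=
  Lre_g IH (LK LD1_c1 LD2_c52 LD3_c4) (LK LD1_c3 LD2_c50 LD3_c19) Lrfl Lrfl
def v1061 : LQ := Led Lsl_gt K34.v208
theorem f491206 : Led Lsl_gt K34.v208 = v1061 :=
  Lrfl
def v3829 : LQ := Led Lsl_dt v1061
theorem f627438 : Led Lsl_dt v1061 = v3829 :=
  Lrfl
theorem f666369 : Led Lsl_cf v3829 = v7532 :=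
  Lgr Lrot14 (Lpe (f627438 IH) (Lpe (f491206 IH) (Lpe (K34.f451088 IH) (Lpe (K28.f62688 IH) (Lpr_ct (K34.f451091 IH) (Lpqs (K37.f482298 IH) (Lpe (K37.f459821 IH) (Lpr_dt (K4.f65780 IH) (Lpr_gt (f458492 IH) (Lpr_dt (f666364 IH) (Lpn v7532)))))))))))
def v843 : LQ := Led Lsl_dt (LP (LK LD1_c0 LD2_c52 LD3_c13))
def v3457 : LQ := Led Lsl_gf v843
theorem f625711 : Led Lsl_gf v843 = v3457 :=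
  Lrfl
def v1062 : LQ := Led Lsl_gf K34.v208
theorem f491210 : Led Lsl_gf K34.v208 = v1062 :=
  Lrfl
theorem f120557 : Led Lsl_et (LP (LK LD1_c0 LD2_c10 LD3_c35)) = (LP (LK LD1_c0 LD2_c23 LD3_c37)) :=
  Lre_e IH (LK LD1_c0 LD2_c10 LD3_c35) (LK LD1_c0 LD2_c23 LD3_c37) Lrfl Lrfl
theorem f491211 : Led Lsl_dt K34.v1054 = v1062 :=
  Lgr Lrot136 (Lpe (K34.f491188 IH) (Lpe (K34.f451062 IH) (Lpe (f120557 IH) (Lpr_dt (K1.f23359 IH) (Lpe (K1.f14692 IH) (Lpe (K1.f14667 IH) (Lpe (K0.f12211 IH) (Lpe (K2.f62671 IH) (Lpr_dt (K34.f451088 IH) (Lpr_gf (f491210 IH) (Lpn v1062)))))))))))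
theorem f491212 : Led Lsl_df K34.v1054 = v1062 :=
  Lgr Lrot38 (Lpr_dt (f491211 IH) (Lpn v1062))
theorem f493758 : Led Lsl_bf v1062 = K24.v308 :=
  Lgr Lrot93 (Lpe (f491212 IH) (Lpq (K34.f493757 IH) (Lpe (K34.f493497 IH) (Lpr_dt (K24.f452101 IH) (Lpn K24.v308)))))
theorem f493759 : Led Lsl_bt v1062 = K24.v308 :=
  Lgr Lrot127 (Lpr_bf (f493758 IH) (Lpn K24.v308))
theorem f493883 : Led Lsl_ff v1062 = K33.v1193 :=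
  Lgr Lrot25 (Lpr_bt (f493759 IH) (Lpe (K30.f479072 IH) (Lpr_bt (K33.f493880 IH) (Lpn K33.v1193))))
theorem f493884 : Led Lsl_ft v1062 = K33.v1193 :=
  Lgr Lrot48 (Lpr_ff (f493883 IH) (Lpn K33.v1193))
theorem f493885 : Led Lsl_af v1061 = K33.v1193 :=
  Lgr Lrot31 (Lpe (f491206 IH) (Lpr_gf (f491210 IH) (Lpr_ft (f493884 IH) (Lpn K33.v1193))))
theorem f451095 : Led Lsl_et (LP (LK LD1_c0 LD2_c47 LD3_c6)) = K34.v208 :=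
  Lgr Lrot87 (Lpr_ef (K34.f451090 IH) (Lpn K34.v208))
theorem f155205 : Led Lsl_gt (LP (LK LD1_c0 LD2_c47 LD3_c13)) = (LP (LK LD1_c0 LD2_c48 LD3_c57)) :=
  Lgr Lrot49 (Lpe (K5.f64302 IH) (Lpr_gf (K2.f84987 IH) (Lpe (K3.f64502 IH) (Lpe (K3.f64492 IH) (Lpr_dt (K1.f61983 IH) (Lpr_gt (K7.f155201 IH) (Lpr_dt (K46.f154335 IH) (Lpr_cf (K7.f154352 IH) (Lpe (K7.f10028 IH) (Lpn (LP (LK LD1_c0 LD2_c48 LD3_c57))))))))))))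
theorem f491207 : Led Lsl_et v859 = v1061 :=
  Lgr Lrot122 (Lpe (f459813 IH) (Lpr_gt (K29.f86925 IH) (Lpe (K5.f86924 IH) (Lpe (K3.f84979 IH) (Lpr_gt (f155205 IH) (Lpr_dt (K7.f10028 IH) (Lpr_gt (K7.f155093 IH) (Lpe (K3.f64290 IH) (Lpr_et (f451095 IH) (Lpr_gt (f491206 IH) (Lpn v1061)))))))))))
theorem f491208 : Led Lsl_ef v859 = v1061 :=
  Lgr Lrot88 (Lpr_et (f491207 IH) (Lpn v1061))
theorem f490291 : Led Lsl_at v859 = K33.v893 :=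
  Lgr Lrot51 (Lpe (f459812 IH) (Lpr_af (K29.f459805 IH) (Lpqs (K29.f478683 IH) (Lpr_df (K33.f490290 IH) (Lpn K33.v893)))))
theorem f493887 : Led Lsl_et K33.v893 = K33.v1193 :=
  Lgr Lrot123 (Lpe (f490291 IH) (Lpr_ef (f491208 IH) (Lpr_af (f493885 IH) (Lpn K33.v1193))))
theorem f459702 : Led Lsl_df (LP (LK LD1_c0 LD2_c52 LD3_c16)) = K34.v847 :=
  Lgr Lrot38 (Lpr_dt (K34.f459700 IH) (Lpn K34.v847))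
theorem f459703 : Led Lsl_ef K34.v212 = K34.v847 :=
  Lgr Lrot73 (Lpe (K34.f451130 IH) (Lpr_et (K2.f88659 IH) (Lpe (K2.f87608 IH) (Lpr_et (K2.f87619 IH) (Lpr_dt (K34.f459700 IH) (Lpn K34.v847))))))
theorem f451132 : Led Lsl_gf (LP (LK LD1_c1 LD2_c44 LD3_c35)) = K34.v212 :=
  Lgr Lrot143 (Lpr_dt (K11.f10030 IH) (Lpe (K11.f433140 IH) (Lpe (K11.f154300 IH) (Lpr_gf (K11.f433245 IH) (Lpe (K4.f7446 IH) (Lpe (K3.f7445 IH) (Lpe (K3.f12168 IH) (Lpr_gt (K2.f7426 IH) (Lpr_dt (K34.f451128 IH) (Lpn K34.v212))))))))))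
theorem f433239 : Led Lsl_gt (LP (LK LD1_c0 LD2_c48 LD3_c56)) = (LP (LK LD1_c0 LD2_c46 LD3_c55)) :=
  Lgr Lrot94 (Lpe (K11.f433140 IH) (Lpr_gt (K11.f433235 IH) (Lpr_dt (K4.f110033 IH) (Lpr_gt (K4.f113995 IH) (Lpr_dt (K5.f11112 IH) (Lpe (K3.f11113 IH) (Lpe (K4.f64518 IH) (Lpe (K2.f87588 IH) (Lpe (K2.f85345 IH) (Lpn (LP (LK LD1_c0 LD2_c46 LD3_c55))))))))))))
theorem f85334 : Led Lsl_dt (LP (LK LD1_c1 LD2_c40 LD3_c50)) = (LP (LK LD1_c0 LD2_c46 LD3_c55)) :=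
  Lre_d IH (LK LD1_c1 LD2_c40 LD3_c50) (LK LD1_c0 LD2_c46 LD3_c55) Lrfl Lrfl
theorem f459669 : Led Lsl_dt (LP (LK LD1_c0 LD2_c52 LD3_c13)) = v843 :=
  Lrfl
theorem f459672 : Led Lsl_ef (LP (LK LD1_c1 LD2_c40 LD3_c50)) = v843 :=
  Lgr Lrot73 (Lpr_dt (f85334 IH) (Lpr_et (K2.f87581 IH) (Lpe (K2.f88462 IH) (Lpr_et (K2.f87671 IH) (Lpr_dt (f459669 IH) (Lpn v843))))))
theorem f459674 : Led Lsl_et (LP (LK LD1_c1 LD2_c40 LD3_c50)) = v843 :=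
  Lgr Lrot87 (Lpr_ef (f459672 IH) (Lpn v843))
theorem f493888 : Led Lsl_gt v843 = K33.v1193 :=
  Lgr Lrot131 (Lpe (f459674 IH) (Lpr_dt (f85334 IH) (Lpe (f433239 IH) (Lpe (K11.f10030 IH) (Lpr_gf (f451132 IH) (Lpr_ef (f459703 IH) (Lpe (f459702 IH) (Lpr_gf (K29.f459697 IH) (Lpqs (K29.f477946 IH) (Lpr_df (K33.f490290 IH) (Lpr_et (f493887 IH) (Lpn K33.v1193))))))))))))
theorem f493886 : Led Lsl_at v1061 = K33.v1193 :=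
  Lgr Lrot100 (Lpr_af (f493885 IH) (Lpn K33.v1193))
theorem f625713 : Led Lsl_ff v1061 = v3457 :=
  Lgr Lrot52 (Lpr_at (f493886 IH) (Lpe (f493888 IH) (Lpr_gf (f625711 IH) (Lpn v3457))))
def v3249 : LQ := Led Lsl_et K34.v615
theorem f624803 : Led Lsl_et K34.v615 = v3249 :=
  Lrfl
theorem f624805 : Led Lsl_ef K34.v615 = v3249 :=
  Lgr Lrot88 (Lpr_et (f624803 IH) (Lpn v3249))
theorem f625714 : Led Lsl_dt v3249 = v3457 :=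
  Lgr Lrot136 (Lpe (f624805 IH) (Lpe (K34.f455507 IH) (Lpe (K28.f120566 IH) (Lpr_dt (K24.f95728 IH) (Lpe (K3.f95963 IH) (Lpe (K7.f12062 IH) (Lpe (K2.f63847 IH) (Lpe (K29.f88464 IH) (Lpr_dt (f459669 IH) (Lpr_gf (f625711 IH) (Lpn v3457)))))))))))
theorem f627442 : Led Lsl_ff v3249 = v3829 :=
  Lgr Lrot19 (Lpr_dt (f625714 IH) (Lpe (f625713 IH) (Lpr_dt (f627438 IH) (Lpn v3829))))
def v3467 : LQ := Led Lsl_gt v859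
theorem f625770 : Led Lsl_gt v859 = v3467 :=
  Lrfl
theorem f514535 : Led Lsl_ef (LP (LK LD1_c3 LD2_c31 LD3_c36)) = K33.v2308 :=
  Lgr Lrot88 (Lpr_et (K33.f514532 IH) (Lpn K33.v2308))
theorem f527204 : Led Lsl_ef (LP (LK LD1_c3 LD2_c29 LD3_c12)) = K34.v2534 :=
  Lgr Lrot88 (Lpr_et (K34.f527202 IH) (Lpn K34.v2534))
theorem f625772 : Led Lsl_dt K34.v2534 = v3467 :=
  Lgr Lrot56 (Lpe (f527204 IH) (Lpr_gt (K29.f477170 IH) (Lpr_ef (f514535 IH) (Lpe (K33.f514534 IH) (Lpr_gt (K33.f514540 IH) (Lpe (K33.f459800 IH) (Lpr_et (K33.f459716 IH) (Lpe (K29.f459717 IH) (Lpr_dt (f459812 IH) (Lpr_gt (f625770 IH) (Lpn v3467)))))))))))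
theorem f625773 : Led Lsl_df K34.v2534 = v3467 :=
  Lgr Lrot38 (Lpr_dt (f625772 IH) (Lpn v3467))
def v2738 : LQ := Led Lsl_et (LP (LK LD1_c1 LD2_c54 LD3_c25))
theorem f531685 : Led Lsl_et (LP (LK LD1_c1 LD2_c54 LD3_c25)) = v2738 :=
  Lrfl
theorem f531689 : Led Lsl_ef (LP (LK LD1_c1 LD2_c54 LD3_c25)) = v2738 :=
  Lgr Lrot88 (Lpr_et (f531685 IH) (Lpn v2738))
theorem f531692 : Led Lsl_dt K34.v2532 = v2738 :=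
  Lgr Lrot77 (Lpe (K34.f527140 IH) (Lpe (K28.f451585 IH) (Lpe (K29.f456563 IH) (Lpe (f466837 IH) (Lpr_ef (f531689 IH) (Lpn v2738))))))
theorem f527142 : Led Lsl_ef (LP (LK LD1_c1 LD2_c47 LD3_c55)) = K34.v2532 :=
  Lgr Lrot88 (Lpr_et (K34.f527140 IH) (Lpn K34.v2532))
theorem f531695 : Led Lsl_gf (LP (LK LD1_c3 LD2_c31 LD3_c0)) = v2738 :=
  Lgr Lrot145 (Lpe (f18576 IH) (Lpr_et (K24.f129687 IH) (Lpe (K29.f477313 IH) (Lpr_dt (K29.f451072 IH) (Lpr_gt (K30.f458086 IH) (Lpe (K24.f129662 IH) (Lpr_et (K29.f129791 IH) (Lpe (K29.f474412 IH) (Lpr_ef (f527142 IH) (Lpr_dt (f531692 IH) (Lpn v2738)))))))))))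
def v2724 : LQ := Led Lsl_gt (LP (LK LD1_c1 LD2_c53 LD3_c59))
theorem f531598 : Led Lsl_gt (LP (LK LD1_c1 LD2_c53 LD3_c59)) = v2724 :=
  Lrfl
def v2295 : LQ := Led Lsl_et (LP (LK LD1_c1 LD2_c41 LD3_c19))
theorem f511931 : Led Lsl_et (LP (LK LD1_c1 LD2_c41 LD3_c19)) = v2295 :=
  Lrfl
theorem f511932 : Led Lsl_ef (LP (LK LD1_c1 LD2_c41 LD3_c19)) = v2295 :=
  Lgr Lrot88 (Lpr_et (f511931 IH) (Lpn v2295))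
theorem f531600 : Led Lsl_dt v2295 = v2724 :=
  Lgr Lrot56 (Lpe (f511932 IH) (Lpr_gt (K28.f18795 IH) (Lpe (K29.f18782 IH) (Lpr_dt (K2.f58193 IH) (Lpe (K2.f87569 IH) (Lpe (K3.f87669 IH) (Lpr_et (K2.f87671 IH) (Lpr_gt (K29.f459668 IH) (Lpqs (K29.f466709 IH) (Lpr_dt (K29.f456726 IH) (Lpr_gt (f531598 IH) (Lpn v2724))))))))))))
theorem f129697 : Led Lsl_dt (LP (LK LD1_c3 LD2_c31 LD3_c0)) = (LP (LK LD1_c1 LD2_c42 LD3_c2)) :=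
  Lre_d IH (LK LD1_c3 LD2_c31 LD3_c0) (LK LD1_c1 LD2_c42 LD3_c2) Lrfl Lrfl
theorem f531603 : Led Lsl_ef (LP (LK LD1_c3 LD2_c31 LD3_c0)) = v2724 :=
  Lgr Lrot73 (Lpr_dt (f129697 IH) (Lpr_et (K24.f129687 IH) (Lpr_dt (K24.f129675 IH) (Lpr_et (f511931 IH) (Lpr_dt (f531600 IH) (Lpn v2724))))))
theorem f531602 : Led Lsl_df v2295 = v2724 :=
  Lgr Lrot38 (Lpr_dt (f531600 IH) (Lpn v2724))
theorem f627443 : Led Lsl_gt v2295 = v3829 :=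
  Lgr Lrot112 (Lpr_df (f531602 IH) (Lpe (f531603 IH) (Lpr_gf (f531695 IH) (Lpe (f531685 IH) (Lpr_dt (f466837 IH) (Lpr_gf (K34.f527201 IH) (Lpr_df (f625773 IH) (Lpe (f625770 IH) (Lpr_ef (f491208 IH) (Lpr_dt (f627438 IH) (Lpn v3829)))))))))))
theorem f627445 : Led Lsl_et (LP (LK LD1_c3 LD2_c30 LD3_c44)) = v3829 :=
  Lgr Lrot122 (Lpe (K29.f443503 IH) (Lpr_gt (K29.f477490 IH) (Lpe (K29.f129653 IH) (Lpe (K24.f129667 IH) (Lpr_gt (K29.f473960 IH) (Lpe (K29.f473968 IH) (Lpe (K29.f477183 IH) (Lpe (K29.f129686 IH) (Lpr_et (f511931 IH) (Lpr_gt (f627443 IH) (Lpn v3829)))))))))))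
theorem f627441 : Led Lsl_ef (LP (LK LD1_c3 LD2_c30 LD3_c44)) = v3829 :=
  Lgr Lrot73 (Lpe (K29.f443503 IH) (Lpr_et (K29.f443497 IH) (Lpr_dt (f459812 IH) (Lpr_et (f491207 IH) (Lpr_dt (f627438 IH) (Lpn v3829))))))
theorem f627446 : Led Lsl_bf v3829 = v3829 :=
  Lgr Lrot96 (Lpe (f627441 IH) (Lpe (K47.f477703 IH) (Lpr_et (f627445 IH) (Lpn v3829))))
theorem f624807 : Led Lsl_bt v3249 = v3249 :=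
  Lgr Lrot119 (Lpe (f624803 IH) (Lpq (K34.f493785 IH) (Lpqs (K34.f493753 IH) (Lpr_bf (K34.f477469 IH) (Lpq (K34.f493753 IH) (Lpqs (K34.f493785 IH) (Lpr_ef (f624805 IH) (Lpn v3249))))))))
theorem f627450 : Led Lsl_ft v3249 = v3829 :=
  Lgr Lrot75 (Lpe (f624807 IH) (Lpr_ff (f627442 IH) (Lpr_bf (f627446 IH) (Lpn v3829))))
theorem f627439 : Led Lsl_af K33.v2308 = v3829 :=
  Lgr Lrot117 (Lpe (K33.f514534 IH) (Lpe (f493885 IH) (Lpr_dt (f627438 IH) (Lpn v3829))))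
def v2309 : LQ := Led Lsl_gf (LP (LK LD1_c1 LD2_c42 LD3_c0))
theorem f514549 : Led Lsl_gf (LP (LK LD1_c1 LD2_c42 LD3_c0)) = v2309 :=
  Lrfl
theorem f627451 : v3249 = v2309 :=
  (Llr Lrot52 (Lpr_ft (f627450 IH) (Lpe (f627439 IH) (Lpe (K33.f514531 IH) (Lpr_gf (f514549 IH) (Lpn v2309)))))).symm
def v6804 : LQ := Led Lsl_gf (LP (LK LD1_c3 LD2_c30 LD3_c26))
theorem f658573 : Led Lsl_gf (LP (LK LD1_c3 LD2_c30 LD3_c26)) = v6804 :=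
  Lrfl
theorem f64274 : Led Lsl_dt (LP (LK LD1_c3 LD2_c30 LD3_c26)) = (LP (LK LD1_c7 LD2_c2 LD3_c48)) :=
  Lre_d IH (LK LD1_c3 LD2_c30 LD3_c26) (LK LD1_c7 LD2_c2 LD3_c48) Lrfl Lrfl
theorem f467743 : Led Lsl_at (LP (LK LD1_c7 LD2_c35 LD3_c5)) = (LP (LK LD1_c3 LD2_c48 LD3_c60)) :=
  Lgr Lrot100 (Lpr_af (K29.f467741 IH) (Lpn (LP (LK LD1_c3 LD2_c48 LD3_c60))))
theorem f64273 : Led Lsl_et (LP (LK LD1_c3 LD2_c30 LD3_c26)) = (LP (LK LD1_c1 LD2_c41 LD3_c51)) :=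
  Lre_e IH (LK LD1_c3 LD2_c30 LD3_c26) (LK LD1_c1 LD2_c41 LD3_c51) Lrfl Lrfl
theorem f482014 : Led Lsl_gt (LP (LK LD1_c3 LD2_c48 LD3_c57)) = (LP (LK LD1_c7 LD2_c2 LD3_c48)) :=
  Lgr Lrot139 (Lpe (K33.f474810 IH) (Lpq (K37.f481983 IH) (Lpe (K37.f459819 IH) (Lpe (K37.f63628 IH) (Lpr_dt (K1.f17293 IH) (Lpe (K1.f64255 IH) (Lpe (K1.f63494 IH) (Lpr_et (K1.f64271 IH) (Lpe (K24.f64272 IH) (Lpe (f64273 IH) (Lpr_dt (f64274 IH) (Lpn (LP (LK LD1_c7 LD2_c2 LD3_c48))))))))))))))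
theorem f482085 : Led Lsl_gf (LP (LK LD1_c3 LD2_c48 LD3_c60)) = (LP (LK LD1_c7 LD2_c2 LD3_c48)) :=
  Lgr Lrot76 (Lpe (f467743 IH) (Lpr_ff (K33.f482073 IH) (Lpr_gt (f482014 IH) (Lpn (LP (LK LD1_c7 LD2_c2 LD3_c48))))))
theorem f451092 : Led Lsl_dt (LP (LK LD1_c1 LD2_c51 LD3_c31)) = (LP (LK LD1_c0 LD2_c52 LD3_c34)) :=
  Lre_d IH (LK LD1_c1 LD2_c51 LD3_c31) (LK LD1_c0 LD2_c52 LD3_c34) Lrfl Lrfl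
theorem f658574 : Led Lsl_ct v2309 = v6804 :=
  Lgr Lrot8 (Lpe (f514549 IH) (Lpr_dt (K5.f62695 IH) (Lpe (f482044 IH) (Lpr_dt (f451092 IH) (Lpe (K37.f451093 IH) (Lpe (K29.f459689 IH) (Lpr_gf (f482085 IH) (Lpe (f64274 IH) (Lpr_gf (f658573 IH) (Lpn v6804))))))))))
theorem f666375 : Led Lsl_ft v6804 = v7532 :=
  Lgr Lrot4 (Lpe (f658574 IH) (Lpq (f627451 IH) (Lpr_ff (f627442 IH) (Lpr_cf (f666369 IH) (Lpn v7532)))))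
theorem f658575 : Led Lsl_cf v2309 = v6804 :=
  Lgr Lrot166 (Lpe (f514549 IH) (Lpr_dt (K5.f62695 IH) (Lpe (f482044 IH) (Lpr_dt (f451092 IH) (Lpr_ct (K34.f451091 IH) (Lpe (K29.f459689 IH) (Lpr_gf (f482085 IH) (Lpe (f64274 IH) (Lpr_gf (f658573 IH) (Lpn v6804))))))))))
theorem f658577 : Led Lsl_et K34.v2302 = v6804 :=
  Lgr Lrot158 (Lpr_cf (K34.f528008 IH) (Lpq (K34.f493753 IH) (Lpqs (K34.f493785 IH) (Lpr_ef (f624805 IH) (Lpqs (f627451 IH) (Lpr_cf (f658575 IH) (Lpn v6804)))))))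
theorem f528013 : Led Lsl_ff K34.v2302 = (LP (LK LD1_c1 LD2_c50 LD3_c33)) :=
  Lgr Lrot3 (Lpr_ft (K34.f528011 IH) (Lpn (LP (LK LD1_c1 LD2_c50 LD3_c33))))
theorem f487566 : Led Lsl_ff (LP (LK LD1_c3 LD2_c46 LD3_c58)) = (LP (LK LD1_c7 LD2_c3 LD3_c31)) :=
  Lgr Lrot3 (Lpr_ft (K33.f487560 IH) (Lpn (LP (LK LD1_c7 LD2_c3 LD3_c31))))
theorem f666376 : Led Lsl_ef (LP (LK LD1_c7 LD2_c3 LD3_c31)) = v7532 :=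
  Lgr Lrot21 (Lpe (f487566 IH) (Lpr_et (K46.f65784 IH) (Lpe (f528013 IH) (Lpr_et (f658577 IH) (Lpr_ft (f666375 IH) (Lpn v7532))))))
theorem f665485 : Led Lsl_et (LP (LK LD1_c7 LD2_c41 LD3_c45)) = (LP (LK LD1_c3 LD2_c50 LD3_c19)) :=
  Lre_e IH (LK LD1_c7 LD2_c41 LD3_c45) (LK LD1_c3 LD2_c50 LD3_c19) Lrfl Lrfl
theorem f666377 : Led Lsl_dt (LP (LK LD1_c14 LD2_c21 LD3_c18)) = (LP (LK LD1_c7 LD2_c41 LD3_c45)) :=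
  Lgr Lrot77 (Lpe (K33.f477240 IH) (Lpe (f477217 IH) (Lpr_ef (f666376 IH) (Lpe (f666364 IH) (Lpe (f665485 IH) (Lpn (LP (LK LD1_c7 LD2_c41 LD3_c45))))))))
theorem f666378 : Led Lsl_dt (LP (LK LD1_c14 LD2_c21 LD3_c18)) = (LP (LK LD1_c7 LD2_c41 LD3_c45)) :=
  Leop (Lpe (f666377 IH) (Lpn (LP (LK LD1_c14 LD2_c21 LD3_c18))))
theorem seed_500 : LEOK LG_d (LK LD1_c14 LD2_c21 LD3_c18) :=
  Leoe_d (LK LD1_c14 LD2_c21 LD3_c18) (f666378 IH)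
def v7536 : LQ := Led Lsl_ft (LP (LK LD1_c3 LD2_c50 LD3_c35))
theorem f666440 : Led Lsl_ft (LP (LK LD1_c3 LD2_c50 LD3_c35)) = v7536 :=
  Lrfl
theorem f151610 : Led Lsl_dt (LP (LK LD1_c3 LD2_c50 LD3_c35)) = (LP (LK LD1_c7 LD2_c42 LD3_c15)) :=
  Lre_d IH (LK LD1_c3 LD2_c50 LD3_c35) (LK LD1_c7 LD2_c42 LD3_c15) Lrfl Lrfl
theorem f151627 : Led Lsl_ct (LP (LK LD1_c7 LD2_c42 LD3_c15)) = (LP (LK LD1_c14 LD2_c31 LD3_c10)) :=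
  Lre_c IH (LK LD1_c7 LD2_c42 LD3_c15) (LK LD1_c14 LD2_c31 LD3_c10) Lrfl Lrfl
theorem f484880 : Led Lsl_dt (LP (LK LD1_c14 LD2_c31 LD3_c10)) = (LP (LK LD1_c24 LD2_c12 LD3_c50)) :=
  Lre_d IH (LK LD1_c14 LD2_c31 LD3_c10) (LK LD1_c24 LD2_c12 LD3_c50) Lrfl Lrfl
def v7534 : LQ := Led Lsl_at (LP (LK LD1_c3 LD2_c50 LD3_c35))
theorem f666433 : Led Lsl_at (LP (LK LD1_c3 LD2_c50 LD3_c35)) = v7534 :=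
  Lrfl
theorem f666434 : Led Lsl_af (LP (LK LD1_c3 LD2_c50 LD3_c35)) = v7534 :=
  Lgr Lrot0 (Lpr_at (f666433 IH) (Lpn v7534))
theorem f12240 : Led Lsl_gt (LP (LK LD1_c1 LD2_c52 LD3_c11)) = (LP (LK LD1_c3 LD2_c50 LD3_c35)) :=
  Lre_g IH (LK LD1_c1 LD2_c52 LD3_c11) (LK LD1_c3 LD2_c50 LD3_c35) Lrfl Lrfl
theorem f666435 : Led Lsl_ft (LP (LK LD1_c3 LD2_c50 LD3_c36)) = v7534 :=
  Lgr Lrot2 (Lpr_gt (K37.f12241 IH) (Lpr_gt (f12240 IH) (Lpr_af (f666434 IH) (Lpn v7534))))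
theorem f666441 : Led Lsl_af (LP (LK LD1_c3 LD2_c50 LD3_c36)) = v7536 :=
  Lgr Lrot45 (Lpr_ft (f666435 IH) (Lpe (f666434 IH) (Lpr_ft (f666440 IH) (Lpn v7536))))
theorem f15186 : Led Lsl_dt (LP (LK LD1_c14 LD2_c18 LD3_c40)) = (LP (LK LD1_c7 LD2_c35 LD3_c26)) :=
  Lre_d IH (LK LD1_c14 LD2_c18 LD3_c40) (LK LD1_c7 LD2_c35 LD3_c26) Lrfl Lrfl
theorem f485368 : Led Lsl_ct (LP (LK LD1_c23 LD2_c56 LD3_c33)) = (LP (LK LD1_c14 LD2_c18 LD3_c40)) :=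
  Lre_c IH (LK LD1_c23 LD2_c56 LD3_c33) (LK LD1_c14 LD2_c18 LD3_c40) Lrfl Lrfl
theorem f485369 : Led Lsl_dt (LP (LK LD1_c31 LD2_c17 LD3_c33)) = (LP (LK LD1_c23 LD2_c56 LD3_c33)) :=
  Lre_d IH (LK LD1_c31 LD2_c17 LD3_c33) (LK LD1_c23 LD2_c56 LD3_c33) Lrfl Lrfl
theorem f666443 : Led Lsl_ct (LP (LK LD1_c24 LD2_c12 LD3_c50)) = (LP (LK LD1_c31 LD2_c17 LD3_c33)) :=
  Lgr Lrot41 (Lpe (f484880 IH) (Lpe (f151627 IH) (Lpe (f151610 IH) (Lpr_ft (f666440 IH) (Lpe (f666441 IH) (Lpr_cf (K37.f485360 IH) (Lpe (f15186 IH) (Lpe (f485368 IH) (Lpe (f485369 IH) (Lpn (LP (LK LD1_c31 LD2_c17 LD3_c33))))))))))))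
theorem f666444 : Led Lsl_ct (LP (LK LD1_c24 LD2_c12 LD3_c50)) = (LP (LK LD1_c31 LD2_c17 LD3_c33)) :=
  Leop (Lpe (f666443 IH) (Lpn (LP (LK LD1_c24 LD2_c12 LD3_c50))))
theorem seed_501 : LEOK LG_c (LK LD1_c24 LD2_c12 LD3_c50) :=
  Leoe_c (LK LD1_c24 LD2_c12 LD3_c50) (f666444 IH)
def v7545 : LQ := Led Lsl_gf (LP (LK LD1_c3 LD2_c50 LD3_c52))
theorem f666485 : Led Lsl_gf (LP (LK LD1_c3 LD2_c50 LD3_c52)) = v7545 :=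
  Lrfl
theorem f97716 : Led Lsl_et (LP (LK LD1_c1 LD2_c52 LD3_c18)) = (LP (LK LD1_c0 LD2_c52 LD3_c53)) :=
  Lre_e IH (LK LD1_c1 LD2_c52 LD3_c18) (LK LD1_c0 LD2_c52 LD3_c53) Lrfl Lrfl
def v3939 : LQ := Led Lsl_et K30.v1132
theorem f628021 : Led Lsl_et K30.v1132 = v3939 :=
  Lrfl
theorem f628025 : Led Lsl_ef K30.v1132 = v3939 :=
  Lgr Lrot88 (Lpr_et (f628021 IH) (Lpn v3939))
theorem f666487 : Led Lsl_dt v3939 = v7545 :=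
  Lgr Lrot136 (Lpe (f628025 IH) (Lpe (K35.f491643 IH) (Lpe (K2.f91766 IH) (Lpr_dt (K2.f65859 IH) (Lpr_gf (K2.f91754 IH) (Lpe (K0.f14639 IH) (Lpr_gf (K3.f97709 IH) (Lpe (f97716 IH) (Lpr_dt (K46.f97717 IH) (Lpr_gf (f666485 IH) (Lpn v7545)))))))))))
theorem f666490 : Led Lsl_df v3939 = v7545 :=
  Lgr Lrot38 (Lpr_dt (f666487 IH) (Lpn v7545))
def v3810 : LQ := Led Lsl_et K34.v1052
theorem f627378 : Led Lsl_et K34.v1052 = v3810 :=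
  Lrfl
theorem f627380 : Led Lsl_ef K34.v1052 = v3810 :=
  Lgr Lrot88 (Lpr_et (f627378 IH) (Lpn v3810))
theorem f628023 : Led Lsl_bf v3810 = v3939 :=
  Lgr Lrot96 (Lpe (f627380 IH) (Lpq (K34.f493755 IH) (Lpe (K30.f493489 IH) (Lpr_et (f628021 IH) (Lpn v3939)))))
theorem f65779 : Led Lsl_et (LP (LK LD1_c0 LD2_c52 LD3_c48)) = (LP (LK LD1_c0 LD2_c23 LD3_c49)) :=
  Lre_e IH (LK LD1_c0 LD2_c52 LD3_c48) (LK LD1_c0 LD2_c23 LD3_c49) Lrfl Lrfl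
def v2672 : LQ := Led Lsl_gf (LP (LK LD1_c1 LD2_c52 LD3_c4))
theorem f530263 : Led Lsl_gf (LP (LK LD1_c1 LD2_c52 LD3_c4)) = v2672 :=
  Lrfl
theorem f627382 : Led Lsl_df v2672 = v3810 :=
  Lgr Lrot170 (Lpe (f530263 IH) (Lpe (K4.f65780 IH) (Lpr_et (f65779 IH) (Lpr_gt (K1.f14680 IH) (Lpr_dt (K1.f64257 IH) (Lpr_gt (K2.f64004 IH) (Lpe (K2.f65708 IH) (Lpr_et (K46.f508647 IH) (Lpe (K46.f511669 IH) (Lpr_ef (f627380 IH) (Lpn v3810)))))))))))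
theorem f666492 : Led Lsl_bt v2672 = v7545 :=
  Lgr Lrot95 (Lpr_df (f627382 IH) (Lpr_bf (f628023 IH) (Lpr_df (f666490 IH) (Lpn v7545))))
theorem f629017 : Led Lsl_ef K30.v1179 = K35.v4018 :=
  Lgr Lrot88 (Lpr_et (K35.f629013 IH) (Lpn K35.v4018))
theorem f629020 : Led Lsl_ct K30.v1181 = K35.v4018 :=
  Lgr Lrot15 (Lpe (K30.f493538 IH) (Lpr_cf (K30.f493528 IH) (Lpr_ef (f629017 IH) (Lpn K35.v4018))))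
theorem f487558 : Led Lsl_ft (LP (LK LD1_c1 LD2_c50 LD3_c34)) = (LP (LK LD1_c3 LD2_c30 LD3_c44)) :=
  Lgr Lrot75 (Lpe (K29.f477460 IH) (Lpr_ff (K33.f487556 IH) (Lpr_bf (K47.f477703 IH) (Lpn (LP (LK LD1_c3 LD2_c30 LD3_c44))))))
theorem f487570 : Led Lsl_at (LP (LK LD1_c7 LD2_c4 LD3_c50)) = (LP (LK LD1_c7 LD2_c3 LD3_c31)) :=
  Lgr Lrot100 (Lpr_af (K33.f487568 IH) (Lpn (LP (LK LD1_c7 LD2_c3 LD3_c31))))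
theorem f487761 : Led Lsl_af (LP (LK LD1_c3 LD2_c31 LD3_c36)) = (LP (LK LD1_c3 LD2_c30 LD3_c44)) :=
  Lgr Lrot68 (Lpr_ct (K29.f455722 IH) (Lpr_at (f487570 IH) (Lpr_ct (K29.f443506 IH) (Lpn (LP (LK LD1_c3 LD2_c30 LD3_c44))))))
theorem f493747 : Led Lsl_ft (LP (LK LD1_c3 LD2_c31 LD3_c36)) = K30.v1181 :=
  Lgr Lrot101 (Lpr_af (f487761 IH) (Lpe (f487558 IH) (Lpr_af (K30.f493745 IH) (Lpn K30.v1181))))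
theorem f629021 : Led Lsl_ff (LP (LK LD1_c7 LD2_c4 LD3_c50)) = K35.v4018 :=
  Lgr Lrot23 (Lpr_ct (K29.f455721 IH) (Lpr_ft (f493747 IH) (Lpr_ct (f629020 IH) (Lpn K35.v4018))))
theorem f493531 : Led Lsl_ft K30.v1170 = K30.v1179 :=
  Lgr Lrot48 (Lpr_ff (K30.f493529 IH) (Lpn K30.v1179))
theorem f658571 : Led Lsl_ff v3810 = v6803 :=
  Lgr Lrot72 (Lpe (f627380 IH) (Lpq (K34.f493755 IH) (Lpr_ft (f493531 IH) (Lpr_et (K35.f629013 IH) (Lpe (f629021 IH) (Lpr_et (f658568 IH) (Lpn v6803)))))))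
theorem f658572 : Led Lsl_ft v3810 = v6803 :=
  Lgr Lrot48 (Lpr_ff (f658571 IH) (Lpn v6803))
theorem f627383 : Led Lsl_dt v2672 = v3810 :=
  Lgr Lrot42 (Lpr_df (f627382 IH) (Lpn v3810))
theorem f665474 : Led Lsl_ff v2672 = v7431 :=
  Lgr Lrot19 (Lpr_dt (f627383 IH) (Lpr_ft (f658572 IH) (Lpr_dt (f665473 IH) (Lpn v7431))))
theorem f440840 : Led Lsl_ct (LP (LK LD1_c3 LD2_c50 LD3_c21)) = (LP (LK LD1_c7 LD2_c41 LD3_c49)) :=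
  Lre_c IH (LK LD1_c3 LD2_c50 LD3_c21) (LK LD1_c7 LD2_c41 LD3_c49) Lrfl Lrfl
theorem f477738 : Led Lsl_df (LP (LK LD1_c7 LD2_c3 LD3_c53)) = (LP (LK LD1_c7 LD2_c35 LD3_c1)) :=
  Lgr Lrot38 (Lpr_dt (K33.f477733 IH) (Lpn (LP (LK LD1_c7 LD2_c35 LD3_c1))))
theorem f520791 : Led Lsl_ft (LP (LK LD1_c3 LD2_c48 LD3_c53)) = (LP (LK LD1_c7 LD2_c35 LD3_c1)) :=
  Lgr Lrot54 (Lpr_df (K34.f92764 IH) (Lpr_ff (K34.f520709 IH) (Lpr_df (f477738 IH) (Lpn (LP (LK LD1_c7 LD2_c35 LD3_c1))))))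
theorem f460141 : Led Lsl_gt (LP (LK LD1_c1 LD2_c51 LD3_c25)) = (LP (LK LD1_c3 LD2_c48 LD3_c52)) :=
  Lre_g IH (LK LD1_c1 LD2_c51 LD3_c25) (LK LD1_c3 LD2_c48 LD3_c52) Lrfl Lrfl
theorem f521555 : Led Lsl_af (LP (LK LD1_c3 LD2_c48 LD3_c52)) = (LP (LK LD1_c7 LD2_c35 LD3_c1)) :=
  Lgr Lrot31 (Lpe (f460141 IH) (Lpe (K34.f87713 IH) (Lpr_ft (f520791 IH) (Lpn (LP (LK LD1_c7 LD2_c35 LD3_c1))))))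
theorem f92774 : Led Lsl_dt (LP (LK LD1_c3 LD2_c48 LD3_c53)) = (LP (LK LD1_c3 LD2_c46 LD3_c51)) :=
  Lgr Lrot42 (Lpr_df (K34.f92764 IH) (Lpn (LP (LK LD1_c3 LD2_c46 LD3_c51))))
theorem f520797 : Led Lsl_ff (LP (LK LD1_c3 LD2_c48 LD3_c53)) = (LP (LK LD1_c7 LD2_c35 LD3_c1)) :=
  Lgr Lrot19 (Lpr_dt (f92774 IH) (Lpr_ft (K34.f520793 IH) (Lpr_dt (K33.f477733 IH) (Lpn (LP (LK LD1_c7 LD2_c35 LD3_c1))))))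
theorem f87700 : Led Lsl_af (LP (LK LD1_c3 LD2_c47 LD3_c5)) = (LP (LK LD1_c1 LD2_c51 LD3_c25)) :=
  Lgr Lrot0 (Lpr_at (K2.f87693 IH) (Lpn (LP (LK LD1_c1 LD2_c51 LD3_c25))))
theorem f89189 : Led Lsl_gt (LP (LK LD1_c7 LD2_c35 LD3_c2)) = (LP (LK LD1_c3 LD2_c47 LD3_c5)) :=
  Lre_g IH (LK LD1_c7 LD2_c35 LD3_c2) (LK LD1_c3 LD2_c47 LD3_c5) Lrfl Lrfl
theorem f442338 : Led Lsl_ft (LP (LK LD1_c3 LD2_c48 LD3_c55)) = (LP (LK LD1_c1 LD2_c51 LD3_c25)) :=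
  Lre_f IH (LK LD1_c3 LD2_c48 LD3_c55) (LK LD1_c1 LD2_c51 LD3_c25) Lrfl Lrfl
theorem f442339 : Led Lsl_gf (LP (LK LD1_c7 LD2_c35 LD3_c2)) = (LP (LK LD1_c3 LD2_c48 LD3_c55)) :=
  Lgr Lrot47 (Lpr_gt (f89189 IH) (Lpr_af (f87700 IH) (Lpe (f442338 IH) (Lpn (LP (LK LD1_c3 LD2_c48 LD3_c55))))))
theorem f521476 : Led Lsl_at (LP (LK LD1_c3 LD2_c48 LD3_c53)) = (LP (LK LD1_c7 LD2_c35 LD3_c2)) :=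
  Lgr Lrot26 (Lpr_ff (f520797 IH) (Lpr_gt (K33.f514541 IH) (Lpe (f442339 IH) (Lpn (LP (LK LD1_c7 LD2_c35 LD3_c2))))))
theorem f521478 : Led Lsl_af (LP (LK LD1_c3 LD2_c48 LD3_c53)) = (LP (LK LD1_c7 LD2_c35 LD3_c2)) :=
  Lgr Lrot0 (Lpr_at (f521476 IH) (Lpn (LP (LK LD1_c7 LD2_c35 LD3_c2))))
theorem f521563 : Led Lsl_ft (LP (LK LD1_c3 LD2_c48 LD3_c52)) = (LP (LK LD1_c7 LD2_c35 LD3_c2)) :=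
  Lgr Lrot101 (Lpr_af (f521555 IH) (Lpe (f520791 IH) (Lpr_af (f521478 IH) (Lpn (LP (LK LD1_c7 LD2_c35 LD3_c2))))))
theorem f521574 : Led Lsl_ff (LP (LK LD1_c3 LD2_c48 LD3_c52)) = (LP (LK LD1_c7 LD2_c35 LD3_c2)) :=
  Lgr Lrot3 (Lpr_ft (f521563 IH) (Lpn (LP (LK LD1_c7 LD2_c35 LD3_c2))))
theorem f486249 : Led Lsl_ct (LP (LK LD1_c3 LD2_c48 LD3_c52)) = (LP (LK LD1_c7 LD2_c38 LD3_c54)) :=
  Lre_c IH (LK LD1_c3 LD2_c48 LD3_c52) (LK LD1_c7 LD2_c38 LD3_c54) Lrfl Lrfl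
theorem f87698 : Led Lsl_dt (LP (LK LD1_c1 LD2_c51 LD3_c26)) = (LP (LK LD1_c3 LD2_c48 LD3_c55)) :=
  Lre_d IH (LK LD1_c1 LD2_c51 LD3_c26) (LK LD1_c3 LD2_c48 LD3_c55) Lrfl Lrfl
theorem f84960 : Led Lsl_dt (LP (LK LD1_c1 LD2_c52 LD3_c4)) = (LP (LK LD1_c0 LD2_c52 LD3_c48)) :=
  Lre_d IH (LK LD1_c1 LD2_c52 LD3_c4) (LK LD1_c0 LD2_c52 LD3_c48) Lrfl Lrfl
theorem f117366 : Led Lsl_gt (LP (LK LD1_c7 LD2_c41 LD3_c47)) = (LP (LK LD1_c3 LD2_c50 LD3_c20)) :=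
  Lre_g IH (LK LD1_c7 LD2_c41 LD3_c47) (LK LD1_c3 LD2_c50 LD3_c20) Lrfl Lrfl
theorem f484347 : Led Lsl_ct (LP (LK LD1_c7 LD2_c35 LD3_c2)) = (LP (LK LD1_c7 LD2_c41 LD3_c47)) :=
  Lgr Lrot152 (Lpr_gf (f442339 IH) (Lpe (f87698 IH) (Lpr_gt (K28.f466691 IH) (Lpr_ct (K33.f466698 IH) (Lpr_gt (K33.f484334 IH) (Lpr_ct (K33.f84937 IH) (Lpe (f84960 IH) (Lpe (K4.f117351 IH) (Lpe (f117366 IH) (Lpn (LP (LK LD1_c7 LD2_c41 LD3_c47))))))))))))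
theorem f484355 : Led Lsl_cf (LP (LK LD1_c7 LD2_c35 LD3_c2)) = (LP (LK LD1_c7 LD2_c41 LD3_c47)) :=
  Lgr Lrot11 (Lpr_ct (f484347 IH) (Lpn (LP (LK LD1_c7 LD2_c41 LD3_c47))))
theorem f521578 : Led Lsl_ft (LP (LK LD1_c7 LD2_c38 LD3_c54)) = (LP (LK LD1_c7 LD2_c41 LD3_c47)) :=
  Lgr Lrot4 (Lpe (f486249 IH) (Lpr_ff (f521574 IH) (Lpr_cf (f484355 IH) (Lpn (LP (LK LD1_c7 LD2_c41 LD3_c47))))))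
theorem f84950 : Led Lsl_dt (LP (LK LD1_c3 LD2_c50 LD3_c21)) = (LP (LK LD1_c1 LD2_c52 LD3_c5)) :=
  Lre_d IH (LK LD1_c3 LD2_c50 LD3_c21) (LK LD1_c1 LD2_c52 LD3_c5) Lrfl Lrfl
theorem f440837 : Led Lsl_ct (LP (LK LD1_c7 LD2_c41 LD3_c49)) = (LP (LK LD1_c3 LD2_c50 LD3_c21)) :=
  Lre_c IH (LK LD1_c7 LD2_c41 LD3_c49) (LK LD1_c3 LD2_c50 LD3_c21) Lrfl Lrfl
theorem f486250 : Led Lsl_gt (LP (LK LD1_c7 LD2_c38 LD3_c54)) = (LP (LK LD1_c7 LD2_c41 LD3_c49)) :=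
  Lgr Lrot150 (Lpe (f486249 IH) (Lpe (f460141 IH) (Lpe (K34.f92762 IH) (Lpr_gt (K5.f62705 IH) (Lpr_ct (K33.f482915 IH) (Lpe (K29.f440835 IH) (Lpr_ct (K7.f84951 IH) (Lpe (f84950 IH) (Lpe (f440837 IH) (Lpn (LP (LK LD1_c7 LD2_c41 LD3_c49))))))))))))
theorem f92781 : Led Lsl_ct (LP (LK LD1_c7 LD2_c38 LD3_c57)) = (LP (LK LD1_c3 LD2_c48 LD3_c53)) :=
  Lre_c IH (LK LD1_c7 LD2_c38 LD3_c57) (LK LD1_c3 LD2_c48 LD3_c53) Lrfl Lrfl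
theorem f521483 : Led Lsl_af (LP (LK LD1_c7 LD2_c38 LD3_c57)) = (LP (LK LD1_c7 LD2_c41 LD3_c47)) :=
  Lgr Lrot68 (Lpr_ct (f92781 IH) (Lpr_at (f521476 IH) (Lpr_ct (f484347 IH) (Lpn (LP (LK LD1_c7 LD2_c41 LD3_c47))))))
theorem f521764 : Led Lsl_gt (LP (LK LD1_c7 LD2_c41 LD3_c49)) = (LP (LK LD1_c7 LD2_c38 LD3_c57)) :=
  Lgr Lrot46 (Lpe (f486250 IH) (Lpr_ft (f521578 IH) (Lpe (f521483 IH) (Lpn (LP (LK LD1_c7 LD2_c38 LD3_c57))))))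
theorem f92773 : Led Lsl_ct (LP (LK LD1_c3 LD2_c48 LD3_c53)) = (LP (LK LD1_c7 LD2_c38 LD3_c57)) :=
  Lre_c IH (LK LD1_c3 LD2_c48 LD3_c53) (LK LD1_c7 LD2_c38 LD3_c57) Lrfl Lrfl
theorem f95058 : Led Lsl_ct (LP (LK LD1_c3 LD2_c26 LD3_c54)) = (LP (LK LD1_c6 LD2_c55 LD3_c40)) :=
  Lre_c IH (LK LD1_c3 LD2_c26 LD3_c54) (LK LD1_c6 LD2_c55 LD3_c40) Lrfl Lrfl
theorem f95059 : Led Lsl_gt (LP (LK LD1_c6 LD2_c55 LD3_c40)) = (LP (LK LD1_c13 LD2_c9 LD3_c26)) :=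
  Lre_g IH (LK LD1_c6 LD2_c55 LD3_c40) (LK LD1_c13 LD2_c9 LD3_c26) Lrfl Lrfl
theorem f15074 : Led Lsl_gt (LP (LK LD1_c3 LD2_c27 LD3_c14)) = (LP (LK LD1_c6 LD2_c56 LD3_c25)) :=
  Lre_g IH (LK LD1_c3 LD2_c27 LD3_c14) (LK LD1_c6 LD2_c56 LD3_c25) Lrfl Lrfl
theorem f457329 : Led Lsl_ct (LP (LK LD1_c13 LD2_c45 LD3_c41)) = (LP (LK LD1_c7 LD2_c16 LD3_c20)) :=
  Lre_c IH (LK LD1_c13 LD2_c45 LD3_c41) (LK LD1_c7 LD2_c16 LD3_c20) Lrfl Lrfl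
theorem f12253 : Led Lsl_ct (LP (LK LD1_c3 LD2_c55 LD3_c45)) = (LP (LK LD1_c7 LD2_c53 LD3_c16)) :=
  Lre_c IH (LK LD1_c3 LD2_c55 LD3_c45) (LK LD1_c7 LD2_c53 LD3_c16) Lrfl Lrfl
theorem f476901 : Led Lsl_ft (LP (LK LD1_c7 LD2_c53 LD3_c16)) = (LP (LK LD1_c13 LD2_c45 LD3_c41)) :=
  Lgr Lrot4 (Lpe (f12253 IH) (Lpr_ff (K46.f476892 IH) (Lpe (f457329 IH) (Lpn (LP (LK LD1_c13 LD2_c45 LD3_c41))))))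
theorem f12248 : Led Lsl_ct (LP (LK LD1_c7 LD2_c53 LD3_c16)) = (LP (LK LD1_c3 LD2_c55 LD3_c45)) :=
  Lre_c IH (LK LD1_c7 LD2_c53 LD3_c16) (LK LD1_c3 LD2_c55 LD3_c45) Lrfl Lrfl
theorem f136571 : Led Lsl_af (LP (LK LD1_c7 LD2_c53 LD3_c16)) = (LP (LK LD1_c6 LD2_c55 LD3_c40)) :=
  Lgr Lrot68 (Lpr_ct (f12248 IH) (Lpr_at (K8.f136566 IH) (Lpr_ct (f95058 IH) (Lpn (LP (LK LD1_c6 LD2_c55 LD3_c40))))))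
theorem f136644 : Led Lsl_ft (LP (LK LD1_c13 LD2_c9 LD3_c29)) = (LP (LK LD1_c6 LD2_c55 LD3_c40)) :=
  Lre_f IH (LK LD1_c13 LD2_c9 LD3_c29) (LK LD1_c6 LD2_c55 LD3_c40) Lrfl Lrfl
theorem f476906 : Led Lsl_af (LP (LK LD1_c13 LD2_c9 LD3_c29)) = (LP (LK LD1_c13 LD2_c45 LD3_c41)) :=
  Lgr Lrot45 (Lpr_ft (f136644 IH) (Lpe (f136571 IH) (Lpr_ft (f476901 IH) (Lpn (LP (LK LD1_c13 LD2_c45 LD3_c41))))))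
theorem f476911 : Led Lsl_at (LP (LK LD1_c13 LD2_c9 LD3_c29)) = (LP (LK LD1_c13 LD2_c45 LD3_c41)) :=
  Lgr Lrot100 (Lpr_af (f476906 IH) (Lpn (LP (LK LD1_c13 LD2_c45 LD3_c41))))
theorem f136639 : Led Lsl_ft (LP (LK LD1_c6 LD2_c55 LD3_c40)) = (LP (LK LD1_c13 LD2_c9 LD3_c29)) :=
  Lre_f IH (LK LD1_c6 LD2_c55 LD3_c40) (LK LD1_c13 LD2_c9 LD3_c29) Lrfl Lrfl
theorem f476931 : Led Lsl_gt (LP (LK LD1_c13 LD2_c9 LD3_c26)) = (LP (LK LD1_c13 LD2_c45 LD3_c41)) :=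
  Lgr Lrot46 (Lpe (f95059 IH) (Lpr_ft (f136639 IH) (Lpr_at (f476911 IH) (Lpn (LP (LK LD1_c13 LD2_c45 LD3_c41))))))
theorem f479177 : Led Lsl_ct (LP (LK LD1_c6 LD2_c56 LD3_c25)) = (LP (LK LD1_c13 LD2_c9 LD3_c26)) :=
  Lgr Lrot152 (Lpe (f15074 IH) (Lpe (K3.f12008 IH) (Lpr_gt (K29.f479171 IH) (Lpr_ct (K33.f10149 IH) (Lpr_gt (K29.f450898 IH) (Lpr_ct (K29.f450899 IH) (Lpe (K46.f457328 IH) (Lpe (f457329 IH) (Lpe (f476931 IH) (Lpn (LP (LK LD1_c13 LD2_c9 LD3_c26))))))))))))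
theorem f665476 : Led Lsl_bt (LP (LK LD1_c6 LD2_c56 LD3_c25)) = v7431 :=
  Lgr Lrot130 (Lpr_ct (f479177 IH) (Lpe (f95059 IH) (Lpe (f95058 IH) (Lpr_bt (K8.f136565 IH) (Lpr_gf (K34.f523090 IH) (Lpe (K34.f92769 IH) (Lpr_ct (f92773 IH) (Lpe (f521764 IH) (Lpe (f440840 IH) (Lpr_gf (f665475 IH) (Lpn v7431)))))))))))
theorem f666493 : Led Lsl_ff (LP (LK LD1_c6 LD2_c56 LD3_c25)) = v7545 :=
  Lgr Lrot25 (Lpr_bt (f665476 IH) (Lpe (f665474 IH) (Lpr_bt (f666492 IH) (Lpn v7545))))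
theorem f457516 : Led Lsl_gt (LP (LK LD1_c3 LD2_c50 LD3_c52)) = (LP (LK LD1_c7 LD2_c42 LD3_c51)) :=
  Lre_g IH (LK LD1_c3 LD2_c50 LD3_c52) (LK LD1_c7 LD2_c42 LD3_c51) Lrfl Lrfl
theorem f666496 : Led Lsl_at (LP (LK LD1_c6 LD2_c56 LD3_c25)) = (LP (LK LD1_c7 LD2_c42 LD3_c51)) :=
  Lgr Lrot26 (Lpr_ff (f666493 IH) (Lpe (f666485 IH) (Lpr_gt (f457516 IH) (Lpn (LP (LK LD1_c7 LD2_c42 LD3_c51))))))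
theorem f666497 : Led Lsl_at (LP (LK LD1_c6 LD2_c56 LD3_c25)) = (LP (LK LD1_c7 LD2_c42 LD3_c51)) :=
  Leop (Lpe (f666496 IH) (Lpn (LP (LK LD1_c6 LD2_c56 LD3_c25))))
theorem seed_502 : LEOK LG_a (LK LD1_c6 LD2_c56 LD3_c25) :=
  Leoe_a (LK LD1_c6 LD2_c56 LD3_c25) (f666497 IH)
theorem f480549 : Led Lsl_ct (LP (LK LD1_c14 LD2_c32 LD3_c31)) = (LP (LK LD1_c7 LD2_c42 LD3_c51)) :=
  Lre_c IH (LK LD1_c14 LD2_c32 LD3_c31) (LK LD1_c7 LD2_c42 LD3_c51) Lrfl Lrfl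
theorem f628024 : Led Lsl_cf K29.v1134 = v3939 :=
  Lgr Lrot39 (Lpe (K29.f491666 IH) (Lpr_ct (K30.f491639 IH) (Lpr_et (f628021 IH) (Lpn v3939))))
theorem f10132 : Led Lsl_ct (LP (LK LD1_c1 LD2_c45 LD3_c56)) = (LP (LK LD1_c3 LD2_c38 LD3_c3)) :=
  Lre_c IH (LK LD1_c1 LD2_c45 LD3_c56) (LK LD1_c3 LD2_c38 LD3_c3) Lrfl Lrfl
theorem f487442 : Led Lsl_dt (LP (LK LD1_c3 LD2_c38 LD3_c3)) = (LP (LK LD1_c7 LD2_c16 LD3_c36)) :=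
  Lre_d IH (LK LD1_c3 LD2_c38 LD3_c3) (LK LD1_c7 LD2_c16 LD3_c36) Lrfl Lrfl
theorem f491672 : Led Lsl_ct (LP (LK LD1_c7 LD2_c16 LD3_c36)) = (LP (LK LD1_c13 LD2_c46 LD3_c14)) :=
  Lre_c IH (LK LD1_c7 LD2_c16 LD3_c36) (LK LD1_c13 LD2_c46 LD3_c14) Lrfl Lrfl
theorem f666498 : Led Lsl_df (LP (LK LD1_c14 LD2_c32 LD3_c31)) = (LP (LK LD1_c13 LD2_c46 LD3_c14)) :=
  Lgr Lrot177 (Lpr_ct (f480549 IH) (Lpe (f666496 IH) (Lpr_ff (f666493 IH) (Lpe (f666490 IH) (Lpe (f628024 IH) (Lpe (K29.f491669 IH) (Lpr_ct (f10132 IH) (Lpr_dt (f487442 IH) (Lpr_ct (f491672 IH) (Lpn (LP (LK LD1_c13 LD2_c46 LD3_c14))))))))))))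
theorem f666499 : Led Lsl_dt (LP (LK LD1_c13 LD2_c46 LD3_c14)) = (LP (LK LD1_c14 LD2_c32 LD3_c31)) :=
  Leop (Lpr_df (f666498 IH) (Lpn (LP (LK LD1_c13 LD2_c46 LD3_c14))))
theorem seed_503 : LEOK LG_d (LK LD1_c13 LD2_c46 LD3_c14) :=
  Leoe_d (LK LD1_c13 LD2_c46 LD3_c14) (f666499 IH)
theorem f665478 : Led Lsl_bf (LP (LK LD1_c6 LD2_c56 LD3_c25)) = v7431 :=
  Lgr Lrot24 (Lpr_bt (f665476 IH) (Lpn v7431))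
theorem f665479 : Led Lsl_ft v2672 = v7431 :=
  Lgr Lrot48 (Lpr_ff (f665474 IH) (Lpn v7431))
theorem f665480 : Led Lsl_af (LP (LK LD1_c3 LD2_c50 LD3_c19)) = v7431 :=
  Lgr Lrot31 (Lpe (f458492 IH) (Lpr_gf (f530263 IH) (Lpr_ft (f665479 IH) (Lpn v7431))))
theorem f665481 : Led Lsl_at (LP (LK LD1_c3 LD2_c50 LD3_c19)) = v7431 :=
  Lgr Lrot100 (Lpr_af (f665480 IH) (Lpn v7431))
theorem f665484 : Led Lsl_bt (LP (LK LD1_c7 LD2_c41 LD3_c44)) = (LP (LK LD1_c3 LD2_c50 LD3_c19)) :=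
  Lre_b IH (LK LD1_c7 LD2_c41 LD3_c44) (LK LD1_c3 LD2_c50 LD3_c19) Lrfl Lrfl
theorem f123931 : Led Lsl_dt (LP (LK LD1_c7 LD2_c49 LD3_c43)) = (LP (LK LD1_c14 LD2_c46 LD3_c7)) :=
  Lre_d IH (LK LD1_c7 LD2_c49 LD3_c43) (LK LD1_c14 LD2_c46 LD3_c7) Lrfl Lrfl
theorem f521438 : Led Lsl_ct (LP (LK LD1_c13 LD2_c25 LD3_c52)) = (LP (LK LD1_c13 LD2_c23 LD3_c35)) :=
  Lgr Lrot59 (Lpr_cf (K34.f521427 IH) (Lpn (LP (LK LD1_c13 LD2_c23 LD3_c35))))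
theorem f532665 : Led Lsl_gt (LP (LK LD1_c14 LD2_c46 LD3_c7)) = (LP (LK LD1_c7 LD2_c50 LD3_c28)) :=
  Lgr Lrot49 (Lpe (f123931 IH) (Lpe (K33.f515561 IH) (Lpe (K33.f484895 IH) (Lpr_gt (K34.f515569 IH) (Lpr_dt (K34.f127889 IH) (Lpr_gt (K34.f532659 IH) (Lpe (K34.f477736 IH) (Lpe (f521438 IH) (Lpr_df (K47.f472567 IH) (Lpn (LP (LK LD1_c7 LD2_c50 LD3_c28))))))))))))
theorem f123939 : Led Lsl_dt (LP (LK LD1_c14 LD2_c46 LD3_c7)) = (LP (LK LD1_c7 LD2_c49 LD3_c43)) :=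
  Lre_d IH (LK LD1_c14 LD2_c46 LD3_c7) (LK LD1_c7 LD2_c49 LD3_c43) Lrfl Lrfl
theorem f480879 : Led Lsl_dt (LP (LK LD1_c7 LD2_c52 LD3_c34)) = (LP (LK LD1_c14 LD2_c51 LD3_c27)) :=
  Lre_d IH (LK LD1_c7 LD2_c52 LD3_c34) (LK LD1_c14 LD2_c51 LD3_c27) Lrfl Lrfl
theorem f123131 : Led Lsl_gt (LP (LK LD1_c14 LD2_c47 LD3_c34)) = (LP (LK LD1_c24 LD2_c34 LD3_c2)) :=
  Lre_g IH (LK LD1_c14 LD2_c47 LD3_c34) (LK LD1_c24 LD2_c34 LD3_c2) Lrfl Lrfl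
theorem f532680 : Led Lsl_cf (LP (LK LD1_c14 LD2_c51 LD3_c27)) = (LP (LK LD1_c24 LD2_c34 LD3_c2)) :=
  Lgr Lrot99 (Lpe (f480879 IH) (Lpe (K33.f480891 IH) (Lpe (K33.f486133 IH) (Lpr_cf (K33.f486137 IH) (Lpe (K33.f486147 IH) (Lpe (f123939 IH) (Lpr_gt (f532665 IH) (Lpr_ct (K34.f123130 IH) (Lpr_gt (f123131 IH) (Lpn (LP (LK LD1_c24 LD2_c34 LD3_c2))))))))))))
theorem f456644 : Led Lsl_dt (LP (LK LD1_c3 LD2_c55 LD3_c22)) = (LP (LK LD1_c7 LD2_c52 LD3_c35)) :=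
  Lre_d IH (LK LD1_c3 LD2_c55 LD3_c22) (LK LD1_c7 LD2_c52 LD3_c35) Lrfl Lrfl
theorem f480845 : Led Lsl_ff (LP (LK LD1_c6 LD2_c55 LD3_c16)) = (LP (LK LD1_c7 LD2_c52 LD3_c35)) :=
  Lgr Lrot19 (Lpr_dt (f132223 IH) (Lpr_ft (K33.f480841 IH) (Lpr_dt (f456644 IH) (Lpn (LP (LK LD1_c7 LD2_c52 LD3_c35))))))
theorem f132220 : Led Lsl_bt (LP (LK LD1_c6 LD2_c55 LD3_c16)) = (LP (LK LD1_c13 LD2_c8 LD3_c55)) :=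
  Lre_b IH (LK LD1_c6 LD2_c55 LD3_c16) (LK LD1_c13 LD2_c8 LD3_c55) Lrfl Lrfl
theorem f480847 : Led Lsl_bt (LP (LK LD1_c14 LD2_c51 LD3_c27)) = (LP (LK LD1_c7 LD2_c52 LD3_c35)) :=
  Lre_b IH (LK LD1_c14 LD2_c51 LD3_c27) (LK LD1_c7 LD2_c52 LD3_c35) Lrfl Lrfl
theorem f480848 : Led Lsl_ft (LP (LK LD1_c13 LD2_c8 LD3_c55)) = (LP (LK LD1_c14 LD2_c51 LD3_c27)) :=
  Lgr Lrot75 (Lpe (f132220 IH) (Lpr_ff (f480845 IH) (Lpe (f480847 IH) (Lpn (LP (LK LD1_c14 LD2_c51 LD3_c27))))))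
theorem f480872 : Led Lsl_ff (LP (LK LD1_c13 LD2_c8 LD3_c55)) = (LP (LK LD1_c14 LD2_c51 LD3_c27)) :=
  Lgr Lrot3 (Lpr_ft (f480848 IH) (Lpn (LP (LK LD1_c14 LD2_c51 LD3_c27))))
theorem f532684 : Led Lsl_ft (LP (LK LD1_c22 LD2_c21 LD3_c15)) = (LP (LK LD1_c24 LD2_c34 LD3_c2)) :=
  Lgr Lrot4 (Lpe (K34.f480878 IH) (Lpr_ff (f480872 IH) (Lpr_cf (f532680 IH) (Lpn (LP (LK LD1_c24 LD2_c34 LD3_c2))))))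
theorem f532686 : Led Lsl_ff (LP (LK LD1_c22 LD2_c21 LD3_c15)) = (LP (LK LD1_c24 LD2_c34 LD3_c2)) :=
  Lgr Lrot3 (Lpr_ft (f532684 IH) (Lpn (LP (LK LD1_c24 LD2_c34 LD3_c2))))
theorem f142306 : Led Lsl_ct (LP (LK LD1_c23 LD2_c43 LD3_c52)) = (LP (LK LD1_c14 LD2_c8 LD3_c59)) :=
  Lre_c IH (LK LD1_c23 LD2_c43 LD3_c52) (LK LD1_c14 LD2_c8 LD3_c59) Lrfl Lrfl
theorem f523069 : Led Lsl_ff (LP (LK LD1_c23 LD2_c43 LD3_c52)) = (LP (LK LD1_c14 LD2_c47 LD3_c34)) :=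
  Lgr Lrot23 (Lpr_ct (f142306 IH) (Lpr_ft (K34.f523065 IH) (Lpr_ct (K34.f123130 IH) (Lpn (LP (LK LD1_c14 LD2_c47 LD3_c34))))))
theorem f523419 : Led Lsl_at (LP (LK LD1_c23 LD2_c43 LD3_c52)) = (LP (LK LD1_c31 LD2_c11 LD3_c52)) :=
  Lre_a IH (LK LD1_c23 LD2_c43 LD3_c52) (LK LD1_c31 LD2_c11 LD3_c52) Lrfl Lrfl
theorem f523423 : Led Lsl_gf (LP (LK LD1_c31 LD2_c11 LD3_c52)) = (LP (LK LD1_c24 LD2_c34 LD3_c2)) :=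
  Lgr Lrot76 (Lpe (f523419 IH) (Lpr_ff (f523069 IH) (Lpr_gt (f123131 IH) (Lpn (LP (LK LD1_c24 LD2_c34 LD3_c2))))))
theorem f523414 : Led Lsl_at (LP (LK LD1_c31 LD2_c11 LD3_c52)) = (LP (LK LD1_c23 LD2_c43 LD3_c52)) :=
  Lre_a IH (LK LD1_c31 LD2_c11 LD3_c52) (LK LD1_c23 LD2_c43 LD3_c52) Lrfl Lrfl
theorem f521452 : Led Lsl_dt (LP (LK LD1_c24 LD2_c34 LD3_c0)) = (LP (LK LD1_c31 LD2_c22 LD3_c3)) :=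
  Lgr Lrot42 (Lpr_df (K34.f521450 IH) (Lpn (LP (LK LD1_c31 LD2_c22 LD3_c3))))
theorem f523415 : Led Lsl_ff (LP (LK LD1_c31 LD2_c11 LD3_c52)) = (LP (LK LD1_c24 LD2_c34 LD3_c0)) :=
  Lgr Lrot103 (Lpr_at (f523414 IH) (Lpe (K34.f142308 IH) (Lpe (K34.f485506 IH) (Lpr_cf (K34.f523076 IH) (Lpe (K34.f92771 IH) (Lpe (K34.f92873 IH) (Lpe (K34.f92869 IH) (Lpe (K34.f92926 IH) (Lpe (f521452 IH) (Lpn (LP (LK LD1_c24 LD2_c34 LD3_c0))))))))))))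
theorem f523417 : Led Lsl_ft (LP (LK LD1_c31 LD2_c11 LD3_c52)) = (LP (LK LD1_c24 LD2_c34 LD3_c0)) :=
  Lgr Lrot48 (Lpr_ff (f523415 IH) (Lpn (LP (LK LD1_c24 LD2_c34 LD3_c0))))
theorem f472609 : Led Lsl_gt (LP (LK LD1_c24 LD2_c34 LD3_c3)) = (LP (LK LD1_c14 LD2_c47 LD3_c34)) :=
  Lre_g IH (LK LD1_c24 LD2_c34 LD3_c3) (LK LD1_c14 LD2_c47 LD3_c34) Lrfl Lrfl
theorem f523420 : Led Lsl_gt (LP (LK LD1_c31 LD2_c11 LD3_c52)) = (LP (LK LD1_c24 LD2_c34 LD3_c3)) :=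
  Lgr Lrot5 (Lpr_ft (f523417 IH) (Lpr_at (K34.f472608 IH) (Lpe (f472609 IH) (Lpn (LP (LK LD1_c24 LD2_c34 LD3_c3))))))
theorem f532689 : Led Lsl_at (LP (LK LD1_c22 LD2_c21 LD3_c15)) = (LP (LK LD1_c24 LD2_c34 LD3_c3)) :=
  Lgr Lrot26 (Lpr_ff (f532686 IH) (Lpe (f523423 IH) (Lpr_gt (f523420 IH) (Lpn (LP (LK LD1_c24 LD2_c34 LD3_c3))))))
theorem f132203 : Led Lsl_at (LP (LK LD1_c22 LD2_c21 LD3_c8)) = (LP (LK LD1_c13 LD2_c8 LD3_c55)) :=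
  Lre_a IH (LK LD1_c22 LD2_c21 LD3_c8) (LK LD1_c13 LD2_c8 LD3_c55) Lrfl Lrfl
theorem f532693 : Led Lsl_cf (LP (LK LD1_c22 LD2_c21 LD3_c8)) = (LP (LK LD1_c24 LD2_c34 LD3_c3)) :=
  Lgr Lrot1 (Lpr_at (f132203 IH) (Lpr_ct (K34.f480878 IH) (Lpr_at (f532689 IH) (Lpn (LP (LK LD1_c24 LD2_c34 LD3_c3))))))
theorem f136553 : Led Lsl_dt (LP (LK LD1_c22 LD2_c21 LD3_c8)) = (LP (LK LD1_c13 LD2_c8 LD3_c50)) :=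
  Lre_d IH (LK LD1_c22 LD2_c21 LD3_c8) (LK LD1_c13 LD2_c8 LD3_c50) Lrfl Lrfl
theorem f515563 : Led Lsl_gf (LP (LK LD1_c14 LD2_c24 LD3_c39)) = (LP (LK LD1_c7 LD2_c50 LD3_c14)) :=
  Lgr Lrot47 (Lpr_gt (K33.f515561 IH) (Lpe (K33.f161980 IH) (Lpr_ff (K33.f486162 IH) (Lpn (LP (LK LD1_c7 LD2_c50 LD3_c14))))))
theorem f148229 : Led Lsl_dt (LP (LK LD1_c7 LD2_c50 LD3_c14)) = (LP (LK LD1_c14 LD2_c47 LD3_c1)) :=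
  Lre_d IH (LK LD1_c7 LD2_c50 LD3_c14) (LK LD1_c14 LD2_c47 LD3_c1) Lrfl Lrfl
theorem f523050 : Led Lsl_ct (LP (LK LD1_c23 LD2_c43 LD3_c37)) = (LP (LK LD1_c31 LD2_c11 LD3_c52)) :=
  Lre_c IH (LK LD1_c23 LD2_c43 LD3_c37) (LK LD1_c31 LD2_c11 LD3_c52) Lrfl Lrfl
theorem f532697 : Led Lsl_gt (LP (LK LD1_c14 LD2_c47 LD3_c1)) = (LP (LK LD1_c23 LD2_c43 LD3_c37)) :=
  Lgr Lrot9 (Lpe (f148229 IH) (Lpe (f515563 IH) (Lpr_ct (K33.f484904 IH) (Lpr_gt (K34.f515569 IH) (Lpr_ct (K34.f136554 IH) (Lpe (f136553 IH) (Lpr_cf (f532693 IH) (Lpe (f523420 IH) (Lpe (f523050 IH) (Lpn (LP (LK LD1_c23 LD2_c43 LD3_c37))))))))))))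
theorem f480884 : Led Lsl_dt (LP (LK LD1_c6 LD2_c55 LD3_c28)) = (LP (LK LD1_c13 LD2_c9 LD3_c8)) :=
  Lre_d IH (LK LD1_c6 LD2_c55 LD3_c28) (LK LD1_c13 LD2_c9 LD3_c8) Lrfl Lrfl
theorem f523053 : Led Lsl_dt (LP (LK LD1_c23 LD2_c43 LD3_c37)) = (LP (LK LD1_c14 LD2_c8 LD3_c52)) :=
  Lre_d IH (LK LD1_c23 LD2_c43 LD3_c37) (LK LD1_c14 LD2_c8 LD3_c52) Lrfl Lrfl
theorem f523073 : Led Lsl_at (LP (LK LD1_c14 LD2_c8 LD3_c52)) = (LP (LK LD1_c7 LD2_c29 LD3_c34)) :=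
  Lre_a IH (LK LD1_c14 LD2_c8 LD3_c52) (LK LD1_c7 LD2_c29 LD3_c34) Lrfl Lrfl
theorem f92888 : Led Lsl_at (LP (LK LD1_c7 LD2_c34 LD3_c34)) = (LP (LK LD1_c14 LD2_c17 LD3_c4)) :=
  Lre_a IH (LK LD1_c7 LD2_c34 LD3_c34) (LK LD1_c14 LD2_c17 LD3_c4) Lrfl Lrfl
theorem f523074 : Led Lsl_cf (LP (LK LD1_c14 LD2_c8 LD3_c52)) = (LP (LK LD1_c14 LD2_c17 LD3_c4)) :=
  Lgr Lrot1 (Lpr_at (f523073 IH) (Lpr_ct (K34.f523071 IH) (Lpr_at (f92888 IH) (Lpn (LP (LK LD1_c14 LD2_c17 LD3_c4))))))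
theorem f532699 : Led Lsl_gt (LP (LK LD1_c13 LD2_c9 LD3_c8)) = (LP (LK LD1_c14 LD2_c25 LD3_c2)) :=
  Lgr Lrot49 (Lpe (f480884 IH) (Lpe (K33.f486133 IH) (Lpr_cf (K33.f486137 IH) (Lpr_gt (K33.f148228 IH) (Lpr_dt (f148229 IH) (Lpr_gt (f532697 IH) (Lpr_dt (f523053 IH) (Lpr_cf (f523074 IH) (Lpe (K34.f92861 IH) (Lpn (LP (LK LD1_c14 LD2_c25 LD3_c2))))))))))))
theorem f476939 : Led Lsl_bt (LP (LK LD1_c6 LD2_c55 LD3_c41)) = (LP (LK LD1_c13 LD2_c9 LD3_c8)) :=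
  Lre_b IH (LK LD1_c6 LD2_c55 LD3_c41) (LK LD1_c13 LD2_c9 LD3_c8) Lrfl Lrfl
theorem f136655 : Led Lsl_ct (LP (LK LD1_c6 LD2_c55 LD3_c41)) = (LP (LK LD1_c13 LD2_c9 LD3_c29)) :=
  Lre_c IH (LK LD1_c6 LD2_c55 LD3_c41) (LK LD1_c13 LD2_c9 LD3_c29) Lrfl Lrfl
theorem f136654 : Led Lsl_dt (LP (LK LD1_c3 LD2_c26 LD3_c55)) = (LP (LK LD1_c6 LD2_c55 LD3_c41)) :=
  Lre_d IH (LK LD1_c3 LD2_c26 LD3_c55) (LK LD1_c6 LD2_c55 LD3_c41) Lrfl Lrfl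
theorem f136653 : Led Lsl_ct (LP (LK LD1_c13 LD2_c9 LD3_c29)) = (LP (LK LD1_c6 LD2_c55 LD3_c41)) :=
  Lre_c IH (LK LD1_c13 LD2_c9 LD3_c29) (LK LD1_c6 LD2_c55 LD3_c41) Lrfl Lrfl
theorem f479300 : Led Lsl_ct (LP (LK LD1_c7 LD2_c42 LD3_c51)) = (LP (LK LD1_c14 LD2_c32 LD3_c31)) :=
  Lre_c IH (LK LD1_c7 LD2_c42 LD3_c51) (LK LD1_c14 LD2_c32 LD3_c31) Lrfl Lrfl
theorem f480799 : Led Lsl_gf (LP (LK LD1_c13 LD2_c9 LD3_c29)) = (LP (LK LD1_c14 LD2_c32 LD3_c31)) :=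
  Lgr Lrot104 (Lpr_ct (f136653 IH) (Lpe (f136654 IH) (Lpe (K29.f439091 IH) (Lpqs (K29.f480729 IH) (Lpr_gf (K29.f457325 IH) (Lpe (K33.f456898 IH) (Lpe (K29.f479294 IH) (Lpe (K3.f97840 IH) (Lpr_gt (f457516 IH) (Lpr_ct (f479300 IH) (Lpn (LP (LK LD1_c14 LD2_c32 LD3_c31)))))))))))))
theorem f92889 : Led Lsl_ct (LP (LK LD1_c14 LD2_c25 LD3_c2)) = (LP (LK LD1_c24 LD2_c4 LD3_c29)) :=
  Lre_c IH (LK LD1_c14 LD2_c25 LD3_c2) (LK LD1_c24 LD2_c4 LD3_c29) Lrfl Lrfl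
theorem f480893 : Led Lsl_dt (LP (LK LD1_c13 LD2_c9 LD3_c8)) = (LP (LK LD1_c6 LD2_c55 LD3_c28)) :=
  Lre_d IH (LK LD1_c13 LD2_c9 LD3_c8) (LK LD1_c6 LD2_c55 LD3_c28) Lrfl Lrfl
theorem f145033 : Led Lsl_dt (LP (LK LD1_c7 LD2_c35 LD3_c54)) = (LP (LK LD1_c14 LD2_c19 LD3_c25)) :=
  Lre_d IH (LK LD1_c7 LD2_c35 LD3_c54) (LK LD1_c14 LD2_c19 LD3_c25) Lrfl Lrfl
theorem f162089 : Led Lsl_ct (LP (LK LD1_c23 LD2_c57 LD3_c22)) = (LP (LK LD1_c14 LD2_c19 LD3_c25)) :=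
  Lre_c IH (LK LD1_c23 LD2_c57 LD3_c22) (LK LD1_c14 LD2_c19 LD3_c25) Lrfl Lrfl
theorem f532701 : Led Lsl_gf (LP (LK LD1_c23 LD2_c57 LD3_c22)) = (LP (LK LD1_c24 LD2_c4 LD3_c29)) :=
  Lgr Lrot104 (Lpr_ct (f162089 IH) (Lpe (f145033 IH) (Lpr_cf (K33.f126486 IH) (Lpe (K33.f515561 IH) (Lpe (K33.f484895 IH) (Lpr_gf (K33.f515565 IH) (Lpe (f480893 IH) (Lpr_gt (f532699 IH) (Lpr_ct (f92889 IH) (Lpn (LP (LK LD1_c24 LD2_c4 LD3_c29))))))))))))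
theorem f440281 : Led Lsl_ct (LP (LK LD1_c14 LD2_c19 LD3_c25)) = (LP (LK LD1_c23 LD2_c57 LD3_c22)) :=
  Lre_c IH (LK LD1_c14 LD2_c19 LD3_c25) (LK LD1_c23 LD2_c57 LD3_c22) Lrfl Lrfl
theorem f162433 : Led Lsl_bt (LP (LK LD1_c14 LD2_c19 LD3_c25)) = (LP (LK LD1_c7 LD2_c35 LD3_c57)) :=
  Lre_b IH (LK LD1_c14 LD2_c19 LD3_c25) (LK LD1_c7 LD2_c35 LD3_c57) Lrfl Lrfl
theorem f486778 : Led Lsl_gt (LP (LK LD1_c7 LD2_c35 LD3_c57)) = (LP (LK LD1_c14 LD2_c19 LD3_c32)) :=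
  Lre_g IH (LK LD1_c7 LD2_c35 LD3_c57) (LK LD1_c14 LD2_c19 LD3_c32) Lrfl Lrfl
theorem f532703 : Led Lsl_bt (LP (LK LD1_c7 LD2_c42 LD3_c51)) = (LP (LK LD1_c14 LD2_c19 LD3_c32)) :=
  Lgr Lrot92 (Lpr_ct (f479300 IH) (Lpe (f480799 IH) (Lpe (f136655 IH) (Lpr_bt (f476939 IH) (Lpr_gt (f532699 IH) (Lpr_ct (f92889 IH) (Lpe (f532701 IH) (Lpe (f440281 IH) (Lpr_bt (f162433 IH) (Lpr_gt (f486778 IH) (Lpn (LP (LK LD1_c14 LD2_c19 LD3_c32)))))))))))))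
theorem f666513 : Led Lsl_af (LP (LK LD1_c7 LD2_c41 LD3_c44)) = (LP (LK LD1_c14 LD2_c19 LD3_c32)) :=
  Lgr Lrot36 (Lpr_bt (f665484 IH) (Lpr_at (f665481 IH) (Lpe (f665478 IH) (Lpr_at (f666496 IH) (Lpr_bt (f532703 IH) (Lpn (LP (LK LD1_c14 LD2_c19 LD3_c32))))))))
theorem f666514 : Led Lsl_at (LP (LK LD1_c14 LD2_c19 LD3_c32)) = (LP (LK LD1_c7 LD2_c41 LD3_c44)) :=
  Leop (Lpr_af (f666513 IH) (Lpn (LP (LK LD1_c14 LD2_c19 LD3_c32))))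
theorem seed_504 : LEOK LG_a (LK LD1_c14 LD2_c19 LD3_c32) :=
  Leoe_a (LK LD1_c14 LD2_c19 LD3_c32) (f666514 IH)
def v7575 : LQ := Led Lsl_at (LP (LK LD1_c3 LD2_c51 LD3_c36))
theorem f666848 : Led Lsl_at (LP (LK LD1_c3 LD2_c51 LD3_c36)) = v7575 :=
  Lrfl
theorem f530323 : Led Lsl_ct (LP (LK LD1_c1 LD2_c52 LD3_c34)) = (LP (LK LD1_c3 LD2_c51 LD3_c36)) :=
  Lre_c IH (LK LD1_c1 LD2_c52 LD3_c34) (LK LD1_c3 LD2_c51 LD3_c36) Lrfl Lrfl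
def v2679 : LQ := Led Lsl_at (LP (LK LD1_c1 LD2_c52 LD3_c34))
theorem f530315 : Led Lsl_at (LP (LK LD1_c1 LD2_c52 LD3_c34)) = v2679 :=
  Lrfl
theorem f530316 : Led Lsl_af (LP (LK LD1_c1 LD2_c52 LD3_c34)) = v2679 :=
  Lgr Lrot0 (Lpr_at (f530315 IH) (Lpn v2679))
theorem f666850 : Led Lsl_cf v2679 = v7575 :=
  Lgr Lrot1 (Lpe (f530316 IH) (Lpr_ct (f530323 IH) (Lpr_at (f666848 IH) (Lpn v7575))))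
theorem f443247 : Led Lsl_gt (LP (LK LD1_c0 LD2_c52 LD3_c60)) = (LP (LK LD1_c1 LD2_c52 LD3_c34)) :=
  Lre_g IH (LK LD1_c0 LD2_c52 LD3_c60) (LK LD1_c1 LD2_c52 LD3_c34) Lrfl Lrfl
theorem f103877 : Led Lsl_gt (LP (LK LD1_c1 LD2_c52 LD3_c35)) = (LP (LK LD1_c0 LD2_c52 LD3_c60)) :=
  Lre_g IH (LK LD1_c1 LD2_c52 LD3_c35) (LK LD1_c0 LD2_c52 LD3_c60) Lrfl Lrfl
theorem f530326 : Led Lsl_ft (LP (LK LD1_c1 LD2_c52 LD3_c35)) = v2679 :=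
  Lgr Lrot2 (Lpr_gt (f103877 IH) (Lpr_gt (f443247 IH) (Lpr_af (f530316 IH) (Lpn v2679))))
theorem f530335 : Led Lsl_ff (LP (LK LD1_c1 LD2_c52 LD3_c35)) = v2679 :=
  Lgr Lrot3 (Lpr_ft (f530326 IH) (Lpn v2679))
theorem f103880 : Led Lsl_ct (LP (LK LD1_c1 LD2_c52 LD3_c35)) = (LP (LK LD1_c3 LD2_c51 LD3_c40)) :=
  Lre_c IH (LK LD1_c1 LD2_c52 LD3_c35) (LK LD1_c3 LD2_c51 LD3_c40) Lrfl Lrfl
theorem f666852 : Led Lsl_ft (LP (LK LD1_c3 LD2_c51 LD3_c40)) = v7575 :=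
  Lgr Lrot4 (Lpe (f103880 IH) (Lpr_ff (f530335 IH) (Lpr_cf (f666850 IH) (Lpn v7575))))
theorem f66097 : Led Lsl_et (LP (LK LD1_c1 LD2_c35 LD3_c12)) = (LP (LK LD1_c3 LD2_c17 LD3_c13)) :=
  Lre_e IH (LK LD1_c1 LD2_c35 LD3_c12) (LK LD1_c3 LD2_c17 LD3_c13) Lrfl Lrfl
theorem f66079 : Led Lsl_gt (LP (LK LD1_c3 LD2_c17 LD3_c13)) = (LP (LK LD1_c6 LD2_c37 LD3_c47)) :=
  Lre_g IH (LK LD1_c3 LD2_c17 LD3_c13) (LK LD1_c6 LD2_c37 LD3_c47) Lrfl Lrfl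
theorem f87406 : Led Lsl_dt (LP (LK LD1_c6 LD2_c37 LD3_c47)) = (LP (LK LD1_c12 LD2_c41 LD3_c17)) :=
  Lre_d IH (LK LD1_c6 LD2_c37 LD3_c47) (LK LD1_c12 LD2_c41 LD3_c17) Lrfl Lrfl
theorem f87385 : Led Lsl_et (LP (LK LD1_c3 LD2_c17 LD3_c13)) = (LP (LK LD1_c1 LD2_c35 LD3_c12)) :=
  Lre_e IH (LK LD1_c3 LD2_c17 LD3_c13) (LK LD1_c1 LD2_c35 LD3_c12) Lrfl Lrfl
theorem f87387 : Led Lsl_cf (LP (LK LD1_c3 LD2_c17 LD3_c13)) = (LP (LK LD1_c1 LD2_c52 LD3_c3)) :=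
  Lgr Lrot39 (Lpr_et (f87385 IH) (Lpr_ct (K3.f84969 IH) (Lpr_et (K4.f87386 IH) (Lpn (LP (LK LD1_c1 LD2_c52 LD3_c3))))))
theorem f87407 : Led Lsl_gt (LP (LK LD1_c1 LD2_c52 LD3_c3)) = (LP (LK LD1_c3 LD2_c50 LD3_c15)) :=
  Lre_g IH (LK LD1_c1 LD2_c52 LD3_c3) (LK LD1_c3 LD2_c50 LD3_c15) Lrfl Lrfl
theorem f87408 : Led Lsl_dt (LP (LK LD1_c3 LD2_c50 LD3_c15)) = (LP (LK LD1_c7 LD2_c41 LD3_c35)) :=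
  Lre_d IH (LK LD1_c3 LD2_c50 LD3_c15) (LK LD1_c7 LD2_c41 LD3_c35) Lrfl Lrfl
theorem f87409 : Led Lsl_gt (LP (LK LD1_c7 LD2_c41 LD3_c35)) = (LP (LK LD1_c7 LD2_c45 LD3_c2)) :=
  Lre_g IH (LK LD1_c7 LD2_c41 LD3_c35) (LK LD1_c7 LD2_c45 LD3_c2) Lrfl Lrfl
theorem f87410 : Led Lsl_dt (LP (LK LD1_c7 LD2_c45 LD3_c2)) = (LP (LK LD1_c3 LD2_c51 LD3_c42)) :=
  Lre_d IH (LK LD1_c7 LD2_c45 LD3_c2) (LK LD1_c3 LD2_c51 LD3_c42) Lrfl Lrfl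
theorem f87411 : Led Lsl_ct (LP (LK LD1_c7 LD2_c44 LD3_c60)) = (LP (LK LD1_c3 LD2_c51 LD3_c42)) :=
  Lre_c IH (LK LD1_c7 LD2_c44 LD3_c60) (LK LD1_c3 LD2_c51 LD3_c42) Lrfl Lrfl
theorem f87412 : Led Lsl_dt (LP (LK LD1_c14 LD2_c37 LD3_c4)) = (LP (LK LD1_c7 LD2_c44 LD3_c60)) :=
  Lre_d IH (LK LD1_c14 LD2_c37 LD3_c4) (LK LD1_c7 LD2_c44 LD3_c60) Lrfl Lrfl
theorem f87413 : Led Lsl_gt (LP (LK LD1_c12 LD2_c41 LD3_c17)) = (LP (LK LD1_c14 LD2_c37 LD3_c4)) :=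
  Lgr Lrot49 (Lpe (f87406 IH) (Lpe (f66079 IH) (Lpr_cf (f87387 IH) (Lpr_gt (f87407 IH) (Lpr_dt (f87408 IH) (Lpr_gt (f87409 IH) (Lpr_dt (f87410 IH) (Lpe (f87411 IH) (Lpe (f87412 IH) (Lpn (LP (LK LD1_c14 LD2_c37 LD3_c4))))))))))))
theorem f87436 : Led Lsl_dt (LP (LK LD1_c7 LD2_c44 LD3_c60)) = (LP (LK LD1_c14 LD2_c37 LD3_c4)) :=
  Lre_d IH (LK LD1_c7 LD2_c44 LD3_c60) (LK LD1_c14 LD2_c37 LD3_c4) Lrfl Lrfl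
theorem f87437 : Led Lsl_et (LP (LK LD1_c7 LD2_c44 LD3_c60)) = (LP (LK LD1_c3 LD2_c51 LD3_c40)) :=
  Lre_e IH (LK LD1_c7 LD2_c44 LD3_c60) (LK LD1_c3 LD2_c51 LD3_c40) Lrfl Lrfl
theorem f103839 : Led Lsl_gt (LP (LK LD1_c3 LD2_c51 LD3_c40)) = (LP (LK LD1_c6 LD2_c34 LD3_c30)) :=
  Lgr Lrot131 (Lpe (f87437 IH) (Lpr_dt (f87436 IH) (Lpe (f87413 IH) (Lpe (f87406 IH) (Lpe (f66079 IH) (Lpe (f66097 IH) (Lpr_dt (K3.f61998 IH) (Lpr_gf (K3.f103812 IH) (Lpe (K3.f103828 IH) (Lpr_et (K6.f103838 IH) (Lpn (LP (LK LD1_c6 LD2_c34 LD3_c30)))))))))))))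
theorem f666849 : Led Lsl_af (LP (LK LD1_c3 LD2_c51 LD3_c36)) = v7575 :=
  Lgr Lrot0 (Lpr_at (f666848 IH) (Lpn v7575))
def v7574 : LQ := Led Lsl_gf (LP (LK LD1_c3 LD2_c51 LD3_c36))
theorem f666836 : Led Lsl_gf (LP (LK LD1_c3 LD2_c51 LD3_c36)) = v7574 :=
  Lrfl
theorem f666857 : (LP (LK LD1_c6 LD2_c34 LD3_c30)) = v7574 :=
  (Llr Lrot5 (Lpe (f103839 IH) (Lpr_ft (f666852 IH) (Lpe (f666849 IH) (Lpr_gf (f666836 IH) (Lpn v7574)))))).symm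
theorem f666858 : Led Lsl_gt (LP (LK LD1_c6 LD2_c34 LD3_c30)) = (LP (LK LD1_c3 LD2_c51 LD3_c36)) :=
  Leop (Lpr_gf (f666836 IH) (Lpq (f666857 IH) (Lpn (LP (LK LD1_c6 LD2_c34 LD3_c30)))))
theorem seed_505 : LEOK LG_g (LK LD1_c6 LD2_c34 LD3_c30) :=
  Leoe_g (LK LD1_c6 LD2_c34 LD3_c30) (f666858 IH)
def v7577 : LQ := Led Lsl_at (LP (LK LD1_c3 LD2_c51 LD3_c37))
theorem f667001 : Led Lsl_at (LP (LK LD1_c3 LD2_c51 LD3_c37)) = v7577 :=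
  Lrfl
theorem f530324 : Led Lsl_dt (LP (LK LD1_c1 LD2_c52 LD3_c34)) = (LP (LK LD1_c3 LD2_c51 LD3_c37)) :=
  Lre_d IH (LK LD1_c1 LD2_c52 LD3_c34) (LK LD1_c3 LD2_c51 LD3_c37) Lrfl Lrfl
theorem f667004 : Led Lsl_df v2679 = v7577 :=
  Lgr Lrot18 (Lpe (f530316 IH) (Lpr_dt (f530324 IH) (Lpr_at (f667001 IH) (Lpn v7577))))
theorem f530329 : Led Lsl_dt (LP (LK LD1_c1 LD2_c52 LD3_c35)) = (LP (LK LD1_c3 LD2_c51 LD3_c41)) :=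
  Lre_d IH (LK LD1_c1 LD2_c52 LD3_c35) (LK LD1_c3 LD2_c51 LD3_c41) Lrfl Lrfl
theorem f667006 : Led Lsl_ft (LP (LK LD1_c3 LD2_c51 LD3_c41)) = v7577 :=
  Lgr Lrot54 (Lpe (f530329 IH) (Lpr_ff (f530335 IH) (Lpr_df (f667004 IH) (Lpn v7577))))
theorem f667002 : Led Lsl_af (LP (LK LD1_c3 LD2_c51 LD3_c37)) = v7577 :=
  Lgr Lrot0 (Lpr_at (f667001 IH) (Lpn v7577))
theorem f667000 : Led Lsl_gt (LP (LK LD1_c7 LD2_c44 LD3_c49)) = (LP (LK LD1_c3 LD2_c51 LD3_c37)) :=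
  Lre_g IH (LK LD1_c7 LD2_c44 LD3_c49) (LK LD1_c3 LD2_c51 LD3_c37) Lrfl Lrfl
theorem f667009 : Led Lsl_gt (LP (LK LD1_c3 LD2_c51 LD3_c41)) = (LP (LK LD1_c7 LD2_c44 LD3_c49)) :=
  Lgr Lrot5 (Lpr_ft (f667006 IH) (Lpe (f667002 IH) (Lpe (f667000 IH) (Lpn (LP (LK LD1_c7 LD2_c44 LD3_c49))))))
theorem f667010 : Led Lsl_gt (LP (LK LD1_c3 LD2_c51 LD3_c41)) = (LP (LK LD1_c7 LD2_c44 LD3_c49)) :=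
  Leop (Lpe (f667009 IH) (Lpn (LP (LK LD1_c3 LD2_c51 LD3_c41))))
theorem seed_506 : LEOK LG_g (LK LD1_c3 LD2_c51 LD3_c41) :=
  Leoe_g (LK LD1_c3 LD2_c51 LD3_c41) (f667010 IH)
def v7578 : LQ := Led Lsl_ft (LP (LK LD1_c3 LD2_c51 LD3_c37))
theorem f667017 : Led Lsl_ft (LP (LK LD1_c3 LD2_c51 LD3_c37)) = v7578 :=
  Lrfl
theorem f662139 : Led Lsl_gt (LP (LK LD1_c3 LD2_c51 LD3_c37)) = (LP (LK LD1_c7 LD2_c44 LD3_c48)) :=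
  Lre_g IH (LK LD1_c3 LD2_c51 LD3_c37) (LK LD1_c7 LD2_c44 LD3_c48) Lrfl Lrfl
theorem f667018 : Led Lsl_af (LP (LK LD1_c3 LD2_c51 LD3_c41)) = v7578 :=
  Lgr Lrot45 (Lpr_ft (f667006 IH) (Lpe (f667002 IH) (Lpr_ft (f667017 IH) (Lpn v7578))))
theorem f667022 : Led Lsl_gt (LP (LK LD1_c7 LD2_c44 LD3_c48)) = (LP (LK LD1_c3 LD2_c51 LD3_c41)) :=
  Lgr Lrot46 (Lpe (f662139 IH) (Lpr_ft (f667017 IH) (Lpe (f667018 IH) (Lpn (LP (LK LD1_c3 LD2_c51 LD3_c41))))))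
theorem f667023 : Led Lsl_gt (LP (LK LD1_c7 LD2_c44 LD3_c48)) = (LP (LK LD1_c3 LD2_c51 LD3_c41)) :=
  Leop (Lpe (f667022 IH) (Lpn (LP (LK LD1_c7 LD2_c44 LD3_c48))))
theorem seed_507 : LEOK LG_g (LK LD1_c7 LD2_c44 LD3_c48) :=
  Leoe_g (LK LD1_c7 LD2_c44 LD3_c48) (f667023 IH)
def v7610 : LQ := Led Lsl_et (LP (LK LD1_c3 LD2_c52 LD3_c59))
theorem f667232 : Led Lsl_et (LP (LK LD1_c3 LD2_c52 LD3_c59)) = v7610 :=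
  Lrfl
def v7420 : LQ := Led Lsl_dt (LP (LK LD1_c3 LD2_c46 LD3_c56))
theorem f665302 : Led Lsl_dt (LP (LK LD1_c3 LD2_c46 LD3_c56)) = v7420 :=
  Lrfl
theorem f658446 : Led Lsl_et (LP (LK LD1_c7 LD2_c34 LD3_c44)) = (LP (LK LD1_c3 LD2_c46 LD3_c56)) :=
  Lre_e IH (LK LD1_c7 LD2_c34 LD3_c44) (LK LD1_c3 LD2_c46 LD3_c56) Lrfl Lrfl
theorem f665136 : Led Lsl_dt (LP (LK LD1_c14 LD2_c17 LD3_c33)) = (LP (LK LD1_c7 LD2_c34 LD3_c44)) :=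
  Lre_d IH (LK LD1_c14 LD2_c17 LD3_c33) (LK LD1_c7 LD2_c34 LD3_c44) Lrfl Lrfl
theorem f665046 : Led Lsl_ff K34.v2665 = v7418 :=
  Lgr Lrot3 (Lpr_ft (f665043 IH) (Lpn v7418))
theorem f665047 : Led Lsl_ft (LP (LK LD1_c7 LD2_c0 LD3_c38)) = (LP (LK LD1_c3 LD2_c46 LD3_c55)) :=
  Lgr Lrot54 (Lpr_df (K34.f530187 IH) (Lpr_ff (f665046 IH) (Lpe (f665035 IH) (Lpn (LP (LK LD1_c3 LD2_c46 LD3_c55))))))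
theorem f460594 : Led Lsl_gt (LP (LK LD1_c3 LD2_c29 LD3_c29)) = (LP (LK LD1_c7 LD2_c0 LD3_c37)) :=
  Lre_g IH (LK LD1_c3 LD2_c29 LD3_c29) (LK LD1_c7 LD2_c0 LD3_c37) Lrfl Lrfl
def v7416 : LQ := Led Lsl_at (LP (LK LD1_c3 LD2_c46 LD3_c55))
theorem f665021 : Led Lsl_at (LP (LK LD1_c3 LD2_c46 LD3_c55)) = v7416 :=
  Lrfl
theorem f665056 : (LP (LK LD1_c7 LD2_c0 LD3_c37)) = v7416 :=
  (Llr Lrot46 (Lpe (f460594 IH) (Lpe (K34.f89314 IH) (Lpr_ft (f665047 IH) (Lpr_at (f665021 IH) (Lpn v7416)))))).symm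
theorem f665022 : Led Lsl_af (LP (LK LD1_c3 LD2_c46 LD3_c55)) = v7416 :=
  Lgr Lrot0 (Lpr_at (f665021 IH) (Lpn v7416))
theorem f93626 : Led Lsl_gt (LP (LK LD1_c3 LD2_c46 LD3_c56)) = (LP (LK LD1_c1 LD2_c50 LD3_c32)) :=
  Lre_g IH (LK LD1_c3 LD2_c46 LD3_c56) (LK LD1_c1 LD2_c50 LD3_c32) Lrfl Lrfl
theorem f665027 : Led Lsl_ft (LP (LK LD1_c3 LD2_c46 LD3_c56)) = v7416 :=
  Lgr Lrot2 (Lpr_gt (f93626 IH) (Lpr_gt (f92375 IH) (Lpr_af (f665022 IH) (Lpn v7416))))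
theorem f665063 : Led Lsl_af (LP (LK LD1_c3 LD2_c46 LD3_c56)) = (LP (LK LD1_c7 LD2_c0 LD3_c38)) :=
  Lgr Lrot45 (Lpr_ft (f665027 IH) (Lpq (f665056 IH) (Lpqs (f665056 IH) (Lpe (f665022 IH) (Lpe (f665044 IH) (Lpn (LP (LK LD1_c7 LD2_c0 LD3_c38))))))))
theorem f665031 : Led Lsl_et (LP (LK LD1_c3 LD2_c46 LD3_c56)) = (LP (LK LD1_c7 LD2_c34 LD3_c44)) :=
  Lre_e IH (LK LD1_c3 LD2_c46 LD3_c56) (LK LD1_c7 LD2_c34 LD3_c44) Lrfl Lrfl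
theorem f511956 : Led Lsl_et (LP (LK LD1_c13 LD2_c18 LD3_c2)) = (LP (LK LD1_c7 LD2_c0 LD3_c38)) :=
  Lre_e IH (LK LD1_c13 LD2_c18 LD3_c2) (LK LD1_c7 LD2_c0 LD3_c38) Lrfl Lrfl
theorem f665130 : Led Lsl_at (LP (LK LD1_c7 LD2_c34 LD3_c44)) = (LP (LK LD1_c13 LD2_c18 LD3_c2)) :=
  Lgr Lrot80 (Lpe (f665031 IH) (Lpr_af (f665063 IH) (Lpe (f511956 IH) (Lpn (LP (LK LD1_c13 LD2_c18 LD3_c2))))))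
theorem f665028 : Led Lsl_ft (LP (LK LD1_c14 LD2_c17 LD3_c34)) = (LP (LK LD1_c7 LD2_c34 LD3_c44)) :=
  Lre_f IH (LK LD1_c14 LD2_c17 LD3_c34) (LK LD1_c7 LD2_c34 LD3_c44) Lrfl Lrfl
theorem f530202 : Led Lsl_ft (LP (LK LD1_c13 LD2_c18 LD3_c2)) = (LP (LK LD1_c22 LD2_c33 LD3_c59)) :=
  Lre_f IH (LK LD1_c13 LD2_c18 LD3_c2) (LK LD1_c22 LD2_c33 LD3_c59) Lrfl Lrfl
theorem f665139 : Led Lsl_af (LP (LK LD1_c14 LD2_c17 LD3_c34)) = (LP (LK LD1_c22 LD2_c33 LD3_c59)) :=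
  Lgr Lrot45 (Lpr_ft (f665028 IH) (Lpr_at (f665130 IH) (Lpr_ft (f530202 IH) (Lpn (LP (LK LD1_c22 LD2_c33 LD3_c59))))))
theorem f665071 : Led Lsl_dt (LP (LK LD1_c14 LD2_c17 LD3_c34)) = (LP (LK LD1_c23 LD2_c55 LD3_c14)) :=
  Lre_d IH (LK LD1_c14 LD2_c17 LD3_c34) (LK LD1_c23 LD2_c55 LD3_c14) Lrfl Lrfl
theorem f530199 : Led Lsl_ft (LP (LK LD1_c22 LD2_c33 LD3_c59)) = (LP (LK LD1_c13 LD2_c18 LD3_c2)) :=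
  Lre_f IH (LK LD1_c22 LD2_c33 LD3_c59) (LK LD1_c13 LD2_c18 LD3_c2) Lrfl Lrfl
theorem f520099 : Led Lsl_ft (LP (LK LD1_c7 LD2_c40 LD3_c6)) = (LP (LK LD1_c14 LD2_c27 LD3_c25)) :=
  Lre_f IH (LK LD1_c7 LD2_c40 LD3_c6) (LK LD1_c14 LD2_c27 LD3_c25) Lrfl Lrfl
theorem f530200 : Led Lsl_df (LP (LK LD1_c22 LD2_c33 LD3_c59)) = (LP (LK LD1_c14 LD2_c27 LD3_c25)) :=
  Lgr Lrot78 (Lpr_ft (f530199 IH) (Lpr_dt (K34.f530191 IH) (Lpr_ft (f520099 IH) (Lpn (LP (LK LD1_c14 LD2_c27 LD3_c25))))))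
theorem f665149 : Led Lsl_at (LP (LK LD1_c23 LD2_c55 LD3_c14)) = (LP (LK LD1_c14 LD2_c27 LD3_c25)) :=
  Lgr Lrot51 (Lpe (f665071 IH) (Lpr_af (f665139 IH) (Lpr_df (f530200 IH) (Lpn (LP (LK LD1_c14 LD2_c27 LD3_c25))))))
theorem f87837 : Led Lsl_et (LP (LK LD1_c3 LD2_c49 LD3_c36)) = (LP (LK LD1_c7 LD2_c40 LD3_c6)) :=
  Lre_e IH (LK LD1_c3 LD2_c49 LD3_c36) (LK LD1_c7 LD2_c40 LD3_c6) Lrfl Lrfl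
theorem f477342 : Led Lsl_et (LP (LK LD1_c14 LD2_c18 LD3_c24)) = (LP (LK LD1_c7 LD2_c35 LD3_c17)) :=
  Lre_e IH (LK LD1_c14 LD2_c18 LD3_c24) (LK LD1_c7 LD2_c35 LD3_c17) Lrfl Lrfl
theorem f477381 : Led Lsl_ft (LP (LK LD1_c23 LD2_c56 LD3_c25)) = (LP (LK LD1_c14 LD2_c18 LD3_c24)) :=
  Lre_f IH (LK LD1_c23 LD2_c56 LD3_c25) (LK LD1_c14 LD2_c18 LD3_c24) Lrfl Lrfl
theorem f520100 : Led Lsl_et (LP (LK LD1_c14 LD2_c27 LD3_c25)) = (LP (LK LD1_c23 LD2_c56 LD3_c25)) :=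
  Lgr Lrot69 (Lpe (f520099 IH) (Lpe (f87837 IH) (Lpr_ff (K33.f520092 IH) (Lpe (f477342 IH) (Lpe (f477381 IH) (Lpn (LP (LK LD1_c23 LD2_c56 LD3_c25))))))))
theorem f477371 : Led Lsl_ft (LP (LK LD1_c24 LD2_c28 LD3_c6)) = (LP (LK LD1_c14 LD2_c42 LD3_c48)) :=
  Lre_f IH (LK LD1_c24 LD2_c28 LD3_c6) (LK LD1_c14 LD2_c42 LD3_c48) Lrfl Lrfl
theorem f461696 : Led Lsl_ft (LP (LK LD1_c13 LD2_c22 LD3_c58)) = (LP (LK LD1_c22 LD2_c40 LD3_c38)) :=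
  Lre_f IH (LK LD1_c13 LD2_c22 LD3_c58) (LK LD1_c22 LD2_c40 LD3_c38) Lrfl Lrfl
theorem f520486 : Led Lsl_af (LP (LK LD1_c24 LD2_c28 LD3_c6)) = (LP (LK LD1_c22 LD2_c40 LD3_c38)) :=
  Lgr Lrot45 (Lpr_ft (f477371 IH) (Lpr_at (K33.f520478 IH) (Lpr_ft (f461696 IH) (Lpn (LP (LK LD1_c22 LD2_c40 LD3_c38))))))
theorem f89220 : Led Lsl_dt (LP (LK LD1_c7 LD2_c35 LD3_c17)) = (LP (LK LD1_c3 LD2_c47 LD3_c13)) :=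
  Lre_d IH (LK LD1_c7 LD2_c35 LD3_c17) (LK LD1_c3 LD2_c47 LD3_c13) Lrfl Lrfl
theorem f477343 : Led Lsl_dt (LP (LK LD1_c14 LD2_c42 LD3_c48)) = (LP (LK LD1_c14 LD2_c18 LD3_c24)) :=
  Lgr Lrot77 (Lpe (K33.f468510 IH) (Lpe (K29.f461919 IH) (Lpr_ef (K33.f477338 IH) (Lpe (f89220 IH) (Lpe (f477342 IH) (Lpn (LP (LK LD1_c14 LD2_c18 LD3_c24))))))))
theorem f477372 : Led Lsl_ft (LP (LK LD1_c14 LD2_c18 LD3_c24)) = (LP (LK LD1_c23 LD2_c56 LD3_c25)) :=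
  Lre_f IH (LK LD1_c14 LD2_c18 LD3_c24) (LK LD1_c23 LD2_c56 LD3_c25) Lrfl Lrfl
theorem f477373 : Led Lsl_df (LP (LK LD1_c24 LD2_c28 LD3_c6)) = (LP (LK LD1_c23 LD2_c56 LD3_c25)) :=
  Lgr Lrot78 (Lpr_ft (f477371 IH) (Lpr_dt (f477343 IH) (Lpr_ft (f477372 IH) (Lpn (LP (LK LD1_c23 LD2_c56 LD3_c25))))))
theorem f477379 : Led Lsl_dt (LP (LK LD1_c24 LD2_c28 LD3_c6)) = (LP (LK LD1_c23 LD2_c56 LD3_c25)) :=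
  Lgr Lrot42 (Lpr_df (f477373 IH) (Lpn (LP (LK LD1_c23 LD2_c56 LD3_c25))))
theorem f461679 : Led Lsl_et (LP (LK LD1_c7 LD2_c40 LD3_c12)) = (LP (LK LD1_c3 LD2_c49 LD3_c38)) :=
  Lre_e IH (LK LD1_c7 LD2_c40 LD3_c12) (LK LD1_c3 LD2_c49 LD3_c38) Lrfl Lrfl
theorem f461680 : Led Lsl_et (LP (LK LD1_c7 LD2_c3 LD3_c24)) = (LP (LK LD1_c13 LD2_c22 LD3_c58)) :=
  Lre_e IH (LK LD1_c7 LD2_c3 LD3_c24) (LK LD1_c13 LD2_c22 LD3_c58) Lrfl Lrfl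
theorem f461681 : Led Lsl_df (LP (LK LD1_c7 LD2_c40 LD3_c12)) = (LP (LK LD1_c13 LD2_c22 LD3_c58)) :=
  Lgr Lrot70 (Lpr_et (f461679 IH) (Lpr_dt (K33.f451102 IH) (Lpr_et (K29.f461678 IH) (Lpr_dt (K29.f461581 IH) (Lpr_et (f461680 IH) (Lpn (LP (LK LD1_c13 LD2_c22 LD3_c58))))))))
theorem f461692 : Led Lsl_ft (LP (LK LD1_c7 LD2_c40 LD3_c12)) = (LP (LK LD1_c14 LD2_c27 LD3_c38)) :=
  Lre_f IH (LK LD1_c7 LD2_c40 LD3_c12) (LK LD1_c14 LD2_c27 LD3_c38) Lrfl Lrfl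
theorem f461693 : Led Lsl_ft (LP (LK LD1_c22 LD2_c40 LD3_c38)) = (LP (LK LD1_c13 LD2_c22 LD3_c58)) :=
  Lre_f IH (LK LD1_c22 LD2_c40 LD3_c38) (LK LD1_c13 LD2_c22 LD3_c58) Lrfl Lrfl
theorem f461694 : Led Lsl_dt (LP (LK LD1_c14 LD2_c27 LD3_c38)) = (LP (LK LD1_c22 LD2_c40 LD3_c38)) :=
  Lgr Lrot60 (Lpe (f461692 IH) (Lpr_df (f461681 IH) (Lpe (f461693 IH) (Lpn (LP (LK LD1_c22 LD2_c40 LD3_c38))))))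
theorem f520490 : Led Lsl_at (LP (LK LD1_c23 LD2_c56 LD3_c25)) = (LP (LK LD1_c14 LD2_c27 LD3_c38)) :=
  Lgr Lrot51 (Lpe (f477379 IH) (Lpr_af (f520486 IH) (Lpe (f461694 IH) (Lpn (LP (LK LD1_c14 LD2_c27 LD3_c38))))))
theorem f665176 : Led Lsl_ef (LP (LK LD1_c23 LD2_c55 LD3_c14)) = (LP (LK LD1_c14 LD2_c27 LD3_c38)) :=
  Lgr Lrot20 (Lpr_at (f665149 IH) (Lpr_et (f520100 IH) (Lpr_at (f520490 IH) (Lpn (LP (LK LD1_c14 LD2_c27 LD3_c38))))))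
theorem f665185 : Led Lsl_ft (LP (LK LD1_c23 LD2_c55 LD3_c14)) = (LP (LK LD1_c14 LD2_c17 LD3_c33)) :=
  Lre_f IH (LK LD1_c23 LD2_c55 LD3_c14) (LK LD1_c14 LD2_c17 LD3_c33) Lrfl Lrfl
theorem f665186 : Led Lsl_et (LP (LK LD1_c14 LD2_c17 LD3_c33)) = (LP (LK LD1_c7 LD2_c35 LD3_c15)) :=
  Lgr Lrot69 (Lpe (f665185 IH) (Lpr_ef (f665176 IH) (Lpe (f461692 IH) (Lpe (f461721 IH) (Lpr_ff (K33.f520244 IH) (Lpn (LP (LK LD1_c7 LD2_c35 LD3_c15))))))))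
theorem f665193 : Led Lsl_ef (LP (LK LD1_c14 LD2_c17 LD3_c33)) = (LP (LK LD1_c7 LD2_c35 LD3_c15)) :=
  Lgr Lrot88 (Lpr_et (f665186 IH) (Lpn (LP (LK LD1_c7 LD2_c35 LD3_c15))))
theorem f665305 : Led Lsl_ef (LP (LK LD1_c3 LD2_c47 LD3_c12)) = v7420 :=
  Lgr Lrot73 (Lpr_dt (K33.f12027 IH) (Lpe (f665193 IH) (Lpr_dt (f665136 IH) (Lpr_et (f658446 IH) (Lpr_dt (f665302 IH) (Lpn v7420))))))
theorem f667235 : Led Lsl_ff v7420 = v7610 :=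
  Lgr Lrot72 (Lpe (f665305 IH) (Lpe (K33.f520228 IH) (Lpr_et (K29.f461678 IH) (Lpe (K33.f520459 IH) (Lpr_et (f667232 IH) (Lpn v7610))))))
theorem f667238 : Led Lsl_ft v7420 = v7610 :=
  Lgr Lrot48 (Lpr_ff (f667235 IH) (Lpn v7610))
theorem f665029 : Led Lsl_ff (LP (LK LD1_c3 LD2_c46 LD3_c56)) = v7416 :=
  Lgr Lrot3 (Lpr_ft (f665027 IH) (Lpn v7416))
theorem f667239 : Led Lsl_df v7416 = v7610 :=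
  Lgr Lrot78 (Lpe (f665029 IH) (Lpr_dt (f665302 IH) (Lpr_ft (f667238 IH) (Lpn v7610))))
theorem f665062 : Led Lsl_et (LP (LK LD1_c7 LD2_c0 LD3_c37)) = (LP (LK LD1_c13 LD2_c18 LD3_c0)) :=
  Lre_e IH (LK LD1_c7 LD2_c0 LD3_c37) (LK LD1_c13 LD2_c18 LD3_c0) Lrfl Lrfl
theorem f477262 : Led Lsl_et (LP (LK LD1_c14 LD2_c42 LD3_c44)) = (LP (LK LD1_c7 LD2_c47 LD3_c47)) :=
  Lre_e IH (LK LD1_c14 LD2_c42 LD3_c44) (LK LD1_c7 LD2_c47 LD3_c47) Lrfl Lrfl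
theorem f667240 : Led Lsl_dt (LP (LK LD1_c13 LD2_c18 LD3_c0)) = (LP (LK LD1_c14 LD2_c42 LD3_c44)) :=
  Lgr Lrot77 (Lpe (f665062 IH) (Lpqs (f665056 IH) (Lpr_df (f667239 IH) (Lpe (f667232 IH) (Lpe (K29.f64691 IH) (Lpe (f477262 IH) (Lpn (LP (LK LD1_c14 LD2_c42 LD3_c44)))))))))
theorem f667241 : Led Lsl_dt (LP (LK LD1_c13 LD2_c18 LD3_c0)) = (LP (LK LD1_c14 LD2_c42 LD3_c44)) :=
  Leop (Lpe (f667240 IH) (Lpn (LP (LK LD1_c13 LD2_c18 LD3_c0))))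
theorem seed_508 : LEOK LG_d (LK LD1_c13 LD2_c18 LD3_c0) :=
  Leoe_d (LK LD1_c13 LD2_c18 LD3_c0) (f667241 IH)
def v7615 : LQ := Led Lsl_bt (LP (LK LD1_c3 LD2_c53 LD3_c19))
theorem f667282 : Led Lsl_bt (LP (LK LD1_c3 LD2_c53 LD3_c19)) = v7615 :=
  Lrfl
theorem f515010 : Led Lsl_ft (LP (LK LD1_c3 LD2_c47 LD3_c4)) = (LP (LK LD1_c1 LD2_c51 LD3_c24)) :=
  Lgr Lrot4 (Lpr_cf (K33.f483331 IH) (Lpr_ff (K33.f515006 IH) (Lpr_cf (K33.f484531 IH) (Lpn (LP (LK LD1_c1 LD2_c51 LD3_c24))))))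
theorem f665767 : Led Lsl_ef (LP (LK LD1_c3 LD2_c53 LD3_c19)) = v7471 :=
  Lgr Lrot21 (Lpe (K33.f516688 IH) (Lpe (K33.f89133 IH) (Lpr_ft (f515010 IH) (Lpr_et (f484534 IH) (Lpr_ft (f665764 IH) (Lpn v7471))))))
theorem f665769 : Led Lsl_bt (LP (LK LD1_c13 LD2_c13 LD3_c26)) = v7471 :=
  Lgr Lrot35 (Lpe (K46.f516226 IH) (Lpe (f484752 IH) (Lpr_ff (f665768 IH) (Lpn v7471))))
theorem f667286 : Led Lsl_ef (LP (LK LD1_c13 LD2_c13 LD3_c26)) = v7615 :=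
  Lgr Lrot29 (Lpr_bt (f665769 IH) (Lpe (f665767 IH) (Lpr_bt (f667282 IH) (Lpn v7615))))
theorem f102460 : Led Lsl_dt (LP (LK LD1_c6 LD2_c53 LD3_c60)) = (LP (LK LD1_c13 LD2_c6 LD3_c41)) :=
  Lre_d IH (LK LD1_c6 LD2_c53 LD3_c60) (LK LD1_c13 LD2_c6 LD3_c41) Lrfl Lrfl
theorem f109678 : Led Lsl_bt (LP (LK LD1_c13 LD2_c18 LD3_c48)) = (LP (LK LD1_c7 LD2_c1 LD3_c6)) :=
  Lre_b IH (LK LD1_c13 LD2_c18 LD3_c48) (LK LD1_c7 LD2_c1 LD3_c6) Lrfl Lrfl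
theorem f667285 : Led Lsl_df (LP (LK LD1_c13 LD2_c18 LD3_c48)) = v7615 :=
  Lgr Lrot12 (Lpr_bt (f109678 IH) (Lpr_dt (f474419 IH) (Lpr_bt (f667282 IH) (Lpn v7615))))
theorem f667289 : Led Lsl_gt (LP (LK LD1_c13 LD2_c6 LD3_c41)) = (LP (LK LD1_c13 LD2_c18 LD3_c48)) :=
  Lgr Lrot112 (Lpe (f102460 IH) (Lpr_et (f102452 IH) (Lpe (K7.f136750 IH) (Lpe (K4.f103795 IH) (Lpr_dt (K34.f111408 IH) (Lpr_gf (K34.f465418 IH) (Lpe (K34.f98783 IH) (Lpe (K46.f98789 IH) (Lpr_ef (f667286 IH) (Lpe (f667285 IH) (Lpn (LP (LK LD1_c13 LD2_c18 LD3_c48)))))))))))))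
theorem f667290 : Led Lsl_gt (LP (LK LD1_c13 LD2_c6 LD3_c41)) = (LP (LK LD1_c13 LD2_c18 LD3_c48)) :=
  Leop (Lpe (f667289 IH) (Lpn (LP (LK LD1_c13 LD2_c6 LD3_c41))))
theorem seed_509 : LEOK LG_g (LK LD1_c13 LD2_c6 LD3_c41) :=
  Leoe_g (LK LD1_c13 LD2_c6 LD3_c41) (f667290 IH)
theorem f518128 : Led Lsl_gt (LP (LK LD1_c7 LD2_c23 LD3_c49)) = (LP (LK LD1_c13 LD2_c54 LD3_c56)) :=
  Lgr Lrot46 (Lpe (K47.f517831 IH) (Lpr_ft (K47.f518121 IH) (Lpr_at (K46.f486096 IH) (Lpn (LP (LK LD1_c13 LD2_c54 LD3_c56))))))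
theorem f518130 : Led Lsl_gf (LP (LK LD1_c7 LD2_c22 LD3_c45)) = (LP (LK LD1_c13 LD2_c54 LD3_c56)) :=
  Lgr Lrot76 (Lpe (K47.f497920 IH) (Lpe (K47.f517846 IH) (Lpr_gt (f518128 IH) (Lpn (LP (LK LD1_c13 LD2_c54 LD3_c56))))))
theorem f123837 : Led Lsl_dt (LP (LK LD1_c7 LD2_c22 LD3_c45)) = (LP (LK LD1_c13 LD2_c57 LD3_c7)) :=
  Lre_d IH (LK LD1_c7 LD2_c22 LD3_c45) (LK LD1_c13 LD2_c57 LD3_c7) Lrfl Lrfl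
theorem f492563 : Led Lsl_et (LP (LK LD1_c22 LD2_c27 LD3_c50)) = (LP (LK LD1_c30 LD2_c31 LD3_c33)) :=
  Lre_e IH (LK LD1_c22 LD2_c27 LD3_c50) (LK LD1_c30 LD2_c31 LD3_c33) Lrfl Lrfl
theorem f665779 : Led Lsl_et (LP (LK LD1_c22 LD2_c35 LD3_c4)) = (LP (LK LD1_c13 LD2_c23 LD3_c46)) :=
  Lgr Lrot87 (Lpr_ef (f665773 IH) (Lpn (LP (LK LD1_c13 LD2_c23 LD3_c46))))
theorem f516567 : Led Lsl_ff (LP (LK LD1_c13 LD2_c23 LD3_c46)) = (LP (LK LD1_c7 LD2_c38 LD3_c52)) :=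
  Lgr Lrot3 (Lpr_ft (f516560 IH) (Lpn (LP (LK LD1_c7 LD2_c38 LD3_c52))))
theorem f490170 : Led Lsl_bt (LP (LK LD1_c14 LD2_c24 LD3_c48)) = (LP (LK LD1_c7 LD2_c38 LD3_c52)) :=
  Lre_b IH (LK LD1_c14 LD2_c24 LD3_c48) (LK LD1_c7 LD2_c38 LD3_c52) Lrfl Lrfl
theorem f516569 : Led Lsl_bt (LP (LK LD1_c13 LD2_c23 LD3_c46)) = (LP (LK LD1_c22 LD2_c27 LD3_c50)) :=
  Lgr Lrot35 (Lpr_ff (f516567 IH) (Lpe (f490170 IH) (Lpr_ff (K46.f516228 IH) (Lpn (LP (LK LD1_c22 LD2_c27 LD3_c50))))))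
theorem f665830 : Led Lsl_bf (LP (LK LD1_c22 LD2_c35 LD3_c4)) = (LP (LK LD1_c30 LD2_c31 LD3_c33)) :=
  Lgr Lrot96 (Lpr_et (f665779 IH) (Lpr_bt (f516569 IH) (Lpr_et (f492563 IH) (Lpn (LP (LK LD1_c30 LD2_c31 LD3_c33))))))
theorem f519061 : Led Lsl_bt (LP (LK LD1_c13 LD2_c18 LD3_c50)) = (LP (LK LD1_c22 LD2_c34 LD3_c61)) :=
  Lre_b IH (LK LD1_c13 LD2_c18 LD3_c50) (LK LD1_c22 LD2_c34 LD3_c61) Lrfl Lrfl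
theorem f665847 : Led Lsl_dt (LP (LK LD1_c22 LD2_c34 LD3_c61)) = (LP (LK LD1_c30 LD2_c31 LD3_c33)) :=
  Lgr Lrot79 (Lpe (f519061 IH) (Lpe (f441389 IH) (Lpr_bf (f665830 IH) (Lpn (LP (LK LD1_c30 LD2_c31 LD3_c33))))))
theorem f665850 : Led Lsl_df (LP (LK LD1_c22 LD2_c34 LD3_c61)) = (LP (LK LD1_c30 LD2_c31 LD3_c33)) :=
  Lgr Lrot38 (Lpr_dt (f665847 IH) (Lpn (LP (LK LD1_c30 LD2_c31 LD3_c33))))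
theorem f518981 : Led Lsl_et (LP (LK LD1_c22 LD2_c34 LD3_c61)) = (LP (LK LD1_c13 LD2_c18 LD3_c48)) :=
  Lre_e IH (LK LD1_c22 LD2_c34 LD3_c61) (LK LD1_c13 LD2_c18 LD3_c48) Lrfl Lrfl
theorem f667287 : Led Lsl_dt (LP (LK LD1_c13 LD2_c18 LD3_c48)) = v7615 :=
  Lgr Lrot77 (Lpe (f518981 IH) (Lpr_df (f665850 IH) (Lpe (f492563 IH) (Lpe (K46.f492559 IH) (Lpr_ef (f667286 IH) (Lpn v7615))))))
theorem f518551 : Led Lsl_ct (LP (LK LD1_c3 LD2_c56 LD3_c41)) = (LP (LK LD1_c6 LD2_c57 LD3_c45)) :=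
  Lgr Lrot59 (Lpr_cf (f518549 IH) (Lpn (LP (LK LD1_c6 LD2_c57 LD3_c45))))
theorem f483861 : Led Lsl_bt (LP (LK LD1_c7 LD2_c55 LD3_c10)) = (LP (LK LD1_c3 LD2_c56 LD3_c41)) :=
  Lre_b IH (LK LD1_c7 LD2_c55 LD3_c10) (LK LD1_c3 LD2_c56 LD3_c41) Lrfl Lrfl
theorem f667284 : Led Lsl_cf (LP (LK LD1_c7 LD2_c55 LD3_c10)) = v7615 :=
  Lgr Lrot97 (Lpr_bt (f483861 IH) (Lpr_ct (f518551 IH) (Lpe (f518557 IH) (Lpe (f482952 IH) (Lpr_bt (f667282 IH) (Lpn v7615))))))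
theorem f483860 : Led Lsl_bt (LP (LK LD1_c3 LD2_c41 LD3_c41)) = (LP (LK LD1_c7 LD2_c24 LD3_c2)) :=
  Lre_b IH (LK LD1_c3 LD2_c41 LD3_c41) (LK LD1_c7 LD2_c24 LD3_c2) Lrfl Lrfl
theorem f483862 : Led Lsl_dt (LP (LK LD1_c7 LD2_c24 LD3_c2)) = (LP (LK LD1_c7 LD2_c55 LD3_c10)) :=
  Lgr Lrot79 (Lpe (f483860 IH) (Lpr_df (K33.f483755 IH) (Lpe (f483861 IH) (Lpn (LP (LK LD1_c7 LD2_c55 LD3_c10))))))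
theorem f667291 : Led Lsl_gt (LP (LK LD1_c13 LD2_c57 LD3_c7)) = (LP (LK LD1_c7 LD2_c24 LD3_c2)) :=
  Lgr Lrot189 (Lpe (f123837 IH) (Lpr_gf (f518130 IH) (Lpe (K46.f486097 IH) (Lpr_gt (K47.f522794 IH) (Lpr_dt (f102460 IH) (Lpr_gt (f667289 IH) (Lpr_dt (f667287 IH) (Lpe (f667284 IH) (Lpe (f483862 IH) (Lpn (LP (LK LD1_c7 LD2_c24 LD3_c2))))))))))))
theorem f667292 : Led Lsl_gt (LP (LK LD1_c13 LD2_c57 LD3_c7)) = (LP (LK LD1_c7 LD2_c24 LD3_c2)) :=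
  Leop (Lpe (f667291 IH) (Lpn (LP (LK LD1_c13 LD2_c57 LD3_c7))))
theorem seed_510 : LEOK LG_g (LK LD1_c13 LD2_c57 LD3_c7) :=
  Leoe_g (LK LD1_c13 LD2_c57 LD3_c7) (f667292 IH)
theorem f497993 : Led Lsl_dt (LP (LK LD1_c13 LD2_c57 LD3_c7)) = (LP (LK LD1_c7 LD2_c22 LD3_c45)) :=
  Lre_d IH (LK LD1_c13 LD2_c57 LD3_c7) (LK LD1_c7 LD2_c22 LD3_c45) Lrfl Lrfl
theorem f657823 : Led Lsl_gt (LP (LK LD1_c7 LD2_c1 LD3_c0)) = K47.v6692 :=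
  Lgr Lrot5 (Lpe (K47.f517930 IH) (Lpr_at (K47.f486123 IH) (Lpr_gf (K47.f657822 IH) (Lpn K47.v6692))))
theorem f511566 : Led Lsl_ct (LP (LK LD1_c6 LD2_c53 LD3_c48)) = (LP (LK LD1_c3 LD2_c26 LD3_c5)) :=
  Lre_c IH (LK LD1_c6 LD2_c53 LD3_c48) (LK LD1_c3 LD2_c26 LD3_c5) Lrfl Lrfl
theorem f657815 : Led Lsl_cf (LP (LK LD1_c7 LD2_c29 LD3_c53)) = K47.v6692 :=
  Lgr Lrot108 (Lpe (K47.f511542 IH) (Lpr_ct (f511566 IH) (Lpr_ft (K47.f657812 IH) (Lpn K47.v6692))))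
theorem f511575 : Led Lsl_dt (LP (LK LD1_c7 LD2_c29 LD3_c53)) = (LP (LK LD1_c14 LD2_c9 LD3_c40)) :=
  Lre_d IH (LK LD1_c7 LD2_c29 LD3_c53) (LK LD1_c14 LD2_c9 LD3_c40) Lrfl Lrfl
theorem f4623 : Led Lsl_ct (LP (LK LD1_c7 LD2_c24 LD3_c2)) = (LP (LK LD1_c13 LD2_c59 LD3_c54)) :=
  Lre_c IH (LK LD1_c7 LD2_c24 LD3_c2) (LK LD1_c13 LD2_c59 LD3_c54) Lrfl Lrfl
theorem f13401 : Led Lsl_gt (LP (LK LD1_c13 LD2_c59 LD3_c54)) = (LP (LK LD1_c23 LD2_c31 LD3_c58)) :=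
  Lre_g IH (LK LD1_c13 LD2_c59 LD3_c54) (LK LD1_c23 LD2_c31 LD3_c58) Lrfl Lrfl
theorem f667298 : Led Lsl_cf (LP (LK LD1_c14 LD2_c9 LD3_c40)) = (LP (LK LD1_c23 LD2_c31 LD3_c58)) :=
  Lgr Lrot99 (Lpe (f511575 IH) (Lpr_cf (f657815 IH) (Lpe (f657823 IH) (Lpe (K47.f517914 IH) (Lpr_gf (K47.f517828 IH) (Lpe (f497993 IH) (Lpr_gt (f667291 IH) (Lpr_ct (f4623 IH) (Lpr_gt (f13401 IH) (Lpn (LP (LK LD1_c23 LD2_c31 LD3_c58))))))))))))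
theorem f667299 : Led Lsl_ct (LP (LK LD1_c23 LD2_c31 LD3_c58)) = (LP (LK LD1_c14 LD2_c9 LD3_c40)) :=
  Leop (Lpr_cf (f667298 IH) (Lpn (LP (LK LD1_c23 LD2_c31 LD3_c58))))
theorem seed_511 : LEOK LG_c (LK LD1_c23 LD2_c31 LD3_c58) :=
  Leoe_c (LK LD1_c23 LD2_c31 LD3_c58) (f667299 IH)
def v7621 : LQ := Led Lsl_gf (LP (LK LD1_c3 LD2_c53 LD3_c26))
theorem f667339 : Led Lsl_gf (LP (LK LD1_c3 LD2_c53 LD3_c26)) = v7621 :=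
  Lrfl
theorem f458198 : Led Lsl_bt (LP (LK LD1_c3 LD2_c50 LD3_c54)) = (LP (LK LD1_c7 LD2_c42 LD3_c57)) :=
  Lre_b IH (LK LD1_c3 LD2_c50 LD3_c54) (LK LD1_c7 LD2_c42 LD3_c57) Lrfl Lrfl
theorem f458200 : Led Lsl_bt (LP (LK LD1_c3 LD2_c53 LD3_c26)) = (LP (LK LD1_c1 LD2_c53 LD3_c18)) :=
  Lre_b IH (LK LD1_c3 LD2_c53 LD3_c26) (LK LD1_c1 LD2_c53 LD3_c18) Lrfl Lrfl
theorem f458201 : Led Lsl_ct (LP (LK LD1_c7 LD2_c42 LD3_c57)) = (LP (LK LD1_c3 LD2_c53 LD3_c26)) :=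
  Lgr Lrot83 (Lpe (f458198 IH) (Lpr_cf (K34.f458196 IH) (Lpe (K34.f458199 IH) (Lpe (K34.f15693 IH) (Lpe (f458200 IH) (Lpn (LP (LK LD1_c3 LD2_c53 LD3_c26))))))))
theorem f14805 : Led Lsl_bt (LP (LK LD1_c7 LD2_c42 LD3_c57)) = (LP (LK LD1_c3 LD2_c50 LD3_c54)) :=
  Lre_b IH (LK LD1_c7 LD2_c42 LD3_c57) (LK LD1_c3 LD2_c50 LD3_c54) Lrfl Lrfl
theorem f62794 : Led Lsl_bt (LP (LK LD1_c1 LD2_c51 LD3_c3)) = (LP (LK LD1_c3 LD2_c48 LD3_c6)) :=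
  Lre_b IH (LK LD1_c1 LD2_c51 LD3_c3) (LK LD1_c3 LD2_c48 LD3_c6) Lrfl Lrfl
def v7446 : LQ := Led Lsl_gt (LP (LK LD1_c3 LD2_c48 LD3_c6))
theorem f665633 : Led Lsl_gt (LP (LK LD1_c3 LD2_c48 LD3_c6)) = v7446 :=
  Lrfl
theorem f667340 : Led Lsl_ct v7446 = v7621 :=
  Lgr Lrot91 (Lpe (f665633 IH) (Lpe (f62794 IH) (Lpr_ct (K29.f62792 IH) (Lpe (K1.f14947 IH) (Lpe (K28.f11238 IH) (Lpr_bt (K47.f15712 IH) (Lpe (K34.f17098 IH) (Lpe (f14805 IH) (Lpr_ct (f458201 IH) (Lpr_gf (f667339 IH) (Lpn v7621)))))))))))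
theorem f457897 : Led Lsl_dt (LP (LK LD1_c3 LD2_c48 LD3_c6)) = (LP (LK LD1_c7 LD2_c37 LD3_c19)) :=
  Lre_d IH (LK LD1_c3 LD2_c48 LD3_c6) (LK LD1_c7 LD2_c37 LD3_c19) Lrfl Lrfl
theorem f468655 : Led Lsl_gt (LP (LK LD1_c7 LD2_c37 LD3_c19)) = (LP (LK LD1_c14 LD2_c22 LD3_c10)) :=
  Lre_g IH (LK LD1_c7 LD2_c37 LD3_c19) (LK LD1_c14 LD2_c22 LD3_c10) Lrfl Lrfl
theorem f476363 : Led Lsl_ct (LP (LK LD1_c14 LD2_c22 LD3_c10)) = (LP (LK LD1_c24 LD2_c0 LD3_c15)) :=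
  Lre_c IH (LK LD1_c14 LD2_c22 LD3_c10) (LK LD1_c24 LD2_c0 LD3_c15) Lrfl Lrfl
theorem f15694 : Led Lsl_bt (LP (LK LD1_c1 LD2_c53 LD3_c18)) = (LP (LK LD1_c3 LD2_c53 LD3_c26)) :=
  Lre_b IH (LK LD1_c1 LD2_c53 LD3_c18) (LK LD1_c3 LD2_c53 LD3_c26) Lrfl Lrfl
theorem f458206 : Led Lsl_cf (LP (LK LD1_c7 LD2_c42 LD3_c57)) = (LP (LK LD1_c3 LD2_c53 LD3_c26)) :=
  Lgr Lrot97 (Lpr_bt (f14805 IH) (Lpr_ct (K34.f458203 IH) (Lpr_bt (K34.f446570 IH) (Lpr_ct (K34.f446577 IH) (Lpr_bt (f15694 IH) (Lpn (LP (LK LD1_c3 LD2_c53 LD3_c26))))))))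
theorem f458217 : Led Lsl_dt (LP (LK LD1_c14 LD2_c32 LD3_c39)) = (LP (LK LD1_c7 LD2_c42 LD3_c57)) :=
  Lre_d IH (LK LD1_c14 LD2_c32 LD3_c39) (LK LD1_c7 LD2_c42 LD3_c57) Lrfl Lrfl
theorem f458219 : Led Lsl_ct (LP (LK LD1_c24 LD2_c15 LD3_c0)) = (LP (LK LD1_c14 LD2_c32 LD3_c39)) :=
  Lre_c IH (LK LD1_c24 LD2_c15 LD3_c0) (LK LD1_c14 LD2_c32 LD3_c39) Lrfl Lrfl
theorem f667343 : Led Lsl_gt (LP (LK LD1_c24 LD2_c0 LD3_c15)) = (LP (LK LD1_c24 LD2_c15 LD3_c0)) :=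
  Lgr Lrot150 (Lpe (f476363 IH) (Lpe (f468655 IH) (Lpe (f457897 IH) (Lpr_gt (f665633 IH) (Lpr_ct (f667340 IH) (Lpe (f667339 IH) (Lpe (f458206 IH) (Lpe (f458217 IH) (Lpe (f458219 IH) (Lpn (LP (LK LD1_c24 LD2_c15 LD3_c0))))))))))))
theorem f667344 : Led Lsl_gt (LP (LK LD1_c24 LD2_c0 LD3_c15)) = (LP (LK LD1_c24 LD2_c15 LD3_c0)) :=
  Leop (Lpe (f667343 IH) (Lpn (LP (LK LD1_c24 LD2_c0 LD3_c15))))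
theorem seed_512 : LEOK LG_g (LK LD1_c24 LD2_c0 LD3_c15) :=
  Leoe_g (LK LD1_c24 LD2_c0 LD3_c15) (f667344 IH)
def v7623 : LQ := Led Lsl_ft (LP (LK LD1_c3 LD2_c53 LD3_c27))
theorem f667347 : Led Lsl_ft (LP (LK LD1_c3 LD2_c53 LD3_c27)) = v7623 :=
  Lrfl
theorem f667350 : Led Lsl_ff (LP (LK LD1_c3 LD2_c53 LD3_c27)) = v7623 :=
  Lgr Lrot3 (Lpr_ft (f667347 IH) (Lpn v7623))
theorem f518085 : Led Lsl_gf (LP (LK LD1_c7 LD2_c3 LD3_c35)) = (LP (LK LD1_c7 LD2_c40 LD3_c15)) :=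
  Lgr Lrot47 (Lpe (K5.f87963 IH) (Lpr_af (K47.f517994 IH) (Lpe (K47.f517940 IH) (Lpn (LP (LK LD1_c7 LD2_c40 LD3_c15))))))
theorem f465259 : Led Lsl_dt (LP (LK LD1_c1 LD2_c53 LD3_c21)) = (LP (LK LD1_c3 LD2_c53 LD3_c30)) :=
  Lre_d IH (LK LD1_c1 LD2_c53 LD3_c21) (LK LD1_c3 LD2_c53 LD3_c30) Lrfl Lrfl
theorem f518088 : Led Lsl_gt (LP (LK LD1_c3 LD2_c53 LD3_c30)) = (LP (LK LD1_c7 LD2_c48 LD3_c31)) :=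
  Lgr Lrot139 (Lpe (f465259 IH) (Lpe (K28.f465256 IH) (Lpr_ef (K24.f460204 IH) (Lpr_dt (K24.f63036 IH) (Lpe (K29.f461120 IH) (Lpe (K5.f87973 IH) (Lpr_et (K5.f87972 IH) (Lpr_gf (f518085 IH) (Lpr_ef (f461607 IH) (Lpr_dt (f517024 IH) (Lpn (LP (LK LD1_c7 LD2_c48 LD3_c31)))))))))))))
theorem f530557 : Led Lsl_af (LP (LK LD1_c3 LD2_c53 LD3_c27)) = (LP (LK LD1_c7 LD2_c30 LD3_c28)) :=
  Lgr Lrot31 (Lpe (f472332 IH) (Lpe (f518088 IH) (Lpr_ft (K41.f530548 IH) (Lpn (LP (LK LD1_c7 LD2_c30 LD3_c28))))))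
theorem f530559 : Led Lsl_at (LP (LK LD1_c3 LD2_c53 LD3_c27)) = (LP (LK LD1_c7 LD2_c30 LD3_c28)) :=
  Lgr Lrot100 (Lpr_af (f530557 IH) (Lpn (LP (LK LD1_c7 LD2_c30 LD3_c28))))
theorem f667351 : Led Lsl_at (LP (LK LD1_c3 LD2_c53 LD3_c30)) = v7623 :=
  Lgr Lrot66 (Lpr_ff (K41.f530539 IH) (Lpe (f530559 IH) (Lpr_ff (f667350 IH) (Lpn v7623))))
theorem f667353 : Led Lsl_gt (LP (LK LD1_c7 LD2_c33 LD3_c20)) = v7623 :=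
  Lgr Lrot46 (Lpr_gf (f472265 IH) (Lpe (K41.f530539 IH) (Lpr_at (f667351 IH) (Lpn v7623))))
theorem f472292 : Led Lsl_et (LP (LK LD1_c14 LD2_c14 LD3_c59)) = (LP (LK LD1_c7 LD2_c33 LD3_c20)) :=
  Lre_e IH (LK LD1_c14 LD2_c14 LD3_c59) (LK LD1_c7 LD2_c33 LD3_c20) Lrfl Lrfl
theorem f472293 : Led Lsl_dt (LP (LK LD1_c14 LD2_c14 LD3_c59)) = (LP (LK LD1_c7 LD2_c33 LD3_c19)) :=
  Lre_d IH (LK LD1_c14 LD2_c14 LD3_c59) (LK LD1_c7 LD2_c33 LD3_c19) Lrfl Lrfl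
theorem f517003 : Led Lsl_gt (LP (LK LD1_c14 LD2_c14 LD3_c58)) = (LP (LK LD1_c7 LD2_c33 LD3_c19)) :=
  Lre_g IH (LK LD1_c14 LD2_c14 LD3_c58) (LK LD1_c7 LD2_c33 LD3_c19) Lrfl Lrfl
def v2698 : LQ := Led Lsl_ft (LP (LK LD1_c1 LD2_c53 LD3_c18))
theorem f530459 : Led Lsl_ft (LP (LK LD1_c1 LD2_c53 LD3_c18)) = v2698 :=
  Lrfl
theorem f530462 : Led Lsl_ff (LP (LK LD1_c1 LD2_c53 LD3_c18)) = v2698 :=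
  Lgr Lrot3 (Lpr_ft (f530459 IH) (Lpn v2698))
theorem f667349 : Led Lsl_df v2698 = v7623 :=
  Lgr Lrot78 (Lpe (f530462 IH) (Lpr_dt (K34.f472335 IH) (Lpr_ft (f667347 IH) (Lpn v7623))))
theorem f530464 : Led Lsl_ct K41.v873 = v2698 :=
  Lgr Lrot40 (Lpe (K41.f490189 IH) (Lpe (K34.f15693 IH) (Lpr_ff (f530462 IH) (Lpn v2698))))
def v2656 : LQ := Led Lsl_gf (LP (LK LD1_c1 LD2_c51 LD3_c13))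
theorem f530148 : Led Lsl_gf (LP (LK LD1_c1 LD2_c51 LD3_c13)) = v2656 :=
  Lrfl
theorem f107163 : Led Lsl_ct (LP (LK LD1_c7 LD2_c10 LD3_c6)) = (LP (LK LD1_c3 LD2_c34 LD3_c31)) :=
  Lre_c IH (LK LD1_c7 LD2_c10 LD3_c6) (LK LD1_c3 LD2_c34 LD3_c31) Lrfl Lrfl
theorem f530149 : Led Lsl_ct K41.v817 = v2656 :=
  Lgr Lrot152 (Lpe (K41.f459546 IH) (Lpe (K30.f17060 IH) (Lpe (K30.f129672 IH) (Lpr_ct (K30.f129763 IH) (Lpe (K30.f493658 IH) (Lpr_ct (f107163 IH) (Lpe (K3.f106683 IH) (Lpr_cf (K3.f17315 IH) (Lpr_gf (f530148 IH) (Lpn v2656))))))))))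
theorem f530518 : v2698 = v2656 :=
  Lefun (Lecon (f530464 IH) (K41.f530516 IH)) (f530149 IH)
theorem f92682 : Led Lsl_gt (LP (LK LD1_c7 LD2_c32 LD3_c48)) = (LP (LK LD1_c14 LD2_c13 LD3_c44)) :=
  Lre_g IH (LK LD1_c7 LD2_c32 LD3_c48) (LK LD1_c14 LD2_c13 LD3_c44) Lrfl Lrfl
theorem f93059 : Led Lsl_et (LP (LK LD1_c23 LD2_c49 LD3_c15)) = (LP (LK LD1_c14 LD2_c13 LD3_c44)) :=
  Lre_e IH (LK LD1_c23 LD2_c49 LD3_c15) (LK LD1_c14 LD2_c13 LD3_c44) Lrfl Lrfl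
theorem f667354 : Led Lsl_df (LP (LK LD1_c14 LD2_c14 LD3_c58)) = (LP (LK LD1_c23 LD2_c49 LD3_c15)) :=
  Lgr Lrot170 (Lpr_gt (f517003 IH) (Lpe (f472293 IH) (Lpr_et (f472292 IH) (Lpr_gt (f667353 IH) (Lpe (f667349 IH) (Lpqs (f530518 IH) (Lpe (f530148 IH) (Lpe (K5.f17327 IH) (Lpe (K5.f92946 IH) (Lpr_gt (f92682 IH) (Lpe (f93059 IH) (Lpn (LP (LK LD1_c23 LD2_c49 LD3_c15))))))))))))))
theorem f667355 : Led Lsl_dt (LP (LK LD1_c23 LD2_c49 LD3_c15)) = (LP (LK LD1_c14 LD2_c14 LD3_c58)) :=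
  Leop (Lpr_df (f667354 IH) (Lpn (LP (LK LD1_c23 LD2_c49 LD3_c15))))
theorem seed_513 : LEOK LG_d (LK LD1_c23 LD2_c49 LD3_c15) :=
  Leoe_d (LK LD1_c23 LD2_c49 LD3_c15) (f667355 IH)
def v7628 : LQ := Led Lsl_at (LP (LK LD1_c3 LD2_c53 LD3_c32))
theorem f667374 : Led Lsl_at (LP (LK LD1_c3 LD2_c53 LD3_c32)) = v7628 :=
  Lrfl
theorem f513925 : Led Lsl_ft (LP (LK LD1_c7 LD2_c3 LD3_c36)) = (LP (LK LD1_c3 LD2_c53 LD3_c32)) :=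
  Lgr Lrot4 (Lpe (K30.f129763 IH) (Lpr_ff (K34.f513920 IH) (Lpe (K34.f513853 IH) (Lpn (LP (LK LD1_c3 LD2_c53 LD3_c32))))))
def v3481 : LQ := Led Lsl_ct K46.v876
theorem f625845 : Led Lsl_ct K46.v876 = v3481 :=
  Lrfl
theorem f129769 : Led Lsl_ct (LP (LK LD1_c7 LD2_c3 LD3_c36)) = (LP (LK LD1_c3 LD2_c30 LD3_c48)) :=
  Lre_c IH (LK LD1_c7 LD2_c3 LD3_c36) (LK LD1_c3 LD2_c30 LD3_c48) Lrfl Lrfl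
theorem f625846 : Led Lsl_af (LP (LK LD1_c7 LD2_c3 LD3_c36)) = v3481 :=
  Lgr Lrot68 (Lpr_ct (f129769 IH) (Lpr_at (K46.f513679 IH) (Lpr_ct (f625845 IH) (Lpn v3481))))
theorem f667377 : Led Lsl_ff v3481 = v7628 :=
  Lgr Lrot30 (Lpe (f625846 IH) (Lpr_ft (f513925 IH) (Lpr_at (f667374 IH) (Lpn v7628))))
theorem f667381 : Led Lsl_ft v3481 = v7628 :=
  Lgr Lrot48 (Lpr_ff (f667377 IH) (Lpn v7628))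
theorem f95765 : Led Lsl_et (LP (LK LD1_c3 LD2_c15 LD3_c20)) = (LP (LK LD1_c6 LD2_c33 LD3_c61)) :=
  Lre_e IH (LK LD1_c3 LD2_c15 LD3_c20) (LK LD1_c6 LD2_c33 LD3_c61) Lrfl Lrfl
theorem f85368 : Led Lsl_et (LP (LK LD1_c6 LD2_c59 LD3_c14)) = (LP (LK LD1_c3 LD2_c28 LD3_c48)) :=
  Lre_e IH (LK LD1_c6 LD2_c59 LD3_c14) (LK LD1_c3 LD2_c28 LD3_c48) Lrfl Lrfl
theorem f95766 : Led Lsl_ct (LP (LK LD1_c6 LD2_c33 LD3_c61)) = (LP (LK LD1_c6 LD2_c59 LD3_c14)) :=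
  Lgr Lrot15 (Lpe (f95765 IH) (Lpr_cf (K3.f95760 IH) (Lpe (f85368 IH) (Lpn (LP (LK LD1_c6 LD2_c59 LD3_c14))))))
theorem f95771 : Led Lsl_cf (LP (LK LD1_c6 LD2_c33 LD3_c61)) = (LP (LK LD1_c6 LD2_c59 LD3_c14)) :=
  Lgr Lrot11 (Lpr_ct (f95766 IH) (Lpn (LP (LK LD1_c6 LD2_c59 LD3_c14))))
theorem f625849 : Led Lsl_gf (LP (LK LD1_c6 LD2_c59 LD3_c14)) = v3481 :=
  Lgr Lrot104 (Lpe (f95771 IH) (Lpe (f65969 IH) (Lpe (K5.f126452 IH) (Lpr_gf (K28.f465254 IH) (Lpe (K28.f446568 IH) (Lpe (K28.f16052 IH) (Lpr_df (K46.f527725 IH) (Lpe (K46.f527730 IH) (Lpr_ct (f625845 IH) (Lpn v3481))))))))))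
theorem f667375 : Led Lsl_af (LP (LK LD1_c3 LD2_c53 LD3_c32)) = v7628 :=
  Lgr Lrot0 (Lpr_at (f667374 IH) (Lpn v7628))
def v7627 : LQ := Led Lsl_gf (LP (LK LD1_c3 LD2_c53 LD3_c32))
theorem f667373 : Led Lsl_gf (LP (LK LD1_c3 LD2_c53 LD3_c32)) = v7627 :=
  Lrfl
theorem f667382 : (LP (LK LD1_c6 LD2_c59 LD3_c14)) = v7627 :=
  (Llr Lrot5 (Lpr_gf (f625849 IH) (Lpr_ft (f667381 IH) (Lpe (f667375 IH) (Lpr_gf (f667373 IH) (Lpn v7627)))))).symm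
theorem f667383 : Led Lsl_gt (LP (LK LD1_c6 LD2_c59 LD3_c14)) = (LP (LK LD1_c3 LD2_c53 LD3_c32)) :=
  Leop (Lpr_gf (f667373 IH) (Lpq (f667382 IH) (Lpn (LP (LK LD1_c6 LD2_c59 LD3_c14)))))
theorem seed_514 : LEOK LG_g (LK LD1_c6 LD2_c59 LD3_c14) :=
  Leoe_g (LK LD1_c6 LD2_c59 LD3_c14) (f667383 IH)
def v7635 : LQ := Led Lsl_ft (LP (LK LD1_c3 LD2_c53 LD3_c37))
theorem f667404 : Led Lsl_ft (LP (LK LD1_c3 LD2_c53 LD3_c37)) = v7635 :=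
  Lrfl
theorem f86349 : Led Lsl_gt (LP (LK LD1_c3 LD2_c53 LD3_c37)) = (LP (LK LD1_c7 LD2_c48 LD3_c49)) :=
  Lre_g IH (LK LD1_c3 LD2_c53 LD3_c37) (LK LD1_c7 LD2_c48 LD3_c49) Lrfl Lrfl
theorem f66625 : Led Lsl_ft (LP (LK LD1_c6 LD2_c59 LD3_c29)) = (LP (LK LD1_c3 LD2_c28 LD3_c56)) :=
  Lre_f IH (LK LD1_c6 LD2_c59 LD3_c29) (LK LD1_c3 LD2_c28 LD3_c56) Lrfl Lrfl
theorem f667405 : Led Lsl_af (LP (LK LD1_c6 LD2_c59 LD3_c29)) = v7635 :=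
  Lgr Lrot45 (Lpr_ft (f66625 IH) (Lpe (K3.f88681 IH) (Lpr_ft (f667404 IH) (Lpn v7635))))
theorem f667408 : Led Lsl_gt (LP (LK LD1_c7 LD2_c48 LD3_c49)) = (LP (LK LD1_c6 LD2_c59 LD3_c29)) :=
  Lgr Lrot46 (Lpe (f86349 IH) (Lpr_ft (f667404 IH) (Lpe (f667405 IH) (Lpn (LP (LK LD1_c6 LD2_c59 LD3_c29))))))
theorem f667409 : Led Lsl_gt (LP (LK LD1_c7 LD2_c48 LD3_c49)) = (LP (LK LD1_c6 LD2_c59 LD3_c29)) :=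
  Leop (Lpe (f667408 IH) (Lpn (LP (LK LD1_c7 LD2_c48 LD3_c49))))
theorem seed_515 : LEOK LG_g (LK LD1_c7 LD2_c48 LD3_c49) :=
  Leoe_g (LK LD1_c7 LD2_c48 LD3_c49) (f667409 IH)
def v7665 : LQ := Led Lsl_ft (LP (LK LD1_c3 LD2_c54 LD3_c24))
theorem f667531 : Led Lsl_ft (LP (LK LD1_c3 LD2_c54 LD3_c24)) = v7665 :=
  Lrfl
theorem f667535 : Led Lsl_ff (LP (LK LD1_c3 LD2_c54 LD3_c24)) = v7665 :=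
  Lgr Lrot3 (Lpr_ft (f667531 IH) (Lpn v7665))
theorem f515742 : Led Lsl_at (LP (LK LD1_c3 LD2_c54 LD3_c24)) = (LP (LK LD1_c7 LD2_c49 LD3_c32)) :=
  Lgr Lrot100 (Lpr_af (K34.f515708 IH) (Lpn (LP (LK LD1_c7 LD2_c49 LD3_c32))))
theorem f535451 : Led Lsl_ef (LP (LK LD1_c1 LD2_c54 LD3_c52)) = K35.v2770 :=
  Lgr Lrot88 (Lpr_et (K35.f535446 IH) (Lpn K35.v2770))
theorem f469350 : Led Lsl_df (LP (LK LD1_c14 LD2_c7 LD3_c14)) = (LP (LK LD1_c7 LD2_c54 LD3_c13)) :=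
  Lgr Lrot38 (Lpr_dt (K33.f469345 IH) (Lpn (LP (LK LD1_c7 LD2_c54 LD3_c13))))
theorem f535455 : Led Lsl_dt (LP (LK LD1_c7 LD2_c28 LD3_c48)) = K35.v2770 :=
  Lgr Lrot77 (Lpe (K33.f147155 IH) (Lpr_df (f469350 IH) (Lpe (K33.f451640 IH) (Lpe (K34.f451629 IH) (Lpr_ef (f535451 IH) (Lpn K35.v2770))))))
theorem f469159 : Led Lsl_et (LP (LK LD1_c13 LD2_c25 LD3_c34)) = (LP (LK LD1_c7 LD2_c4 LD3_c58)) :=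
  Lre_e IH (LK LD1_c13 LD2_c25 LD3_c34) (LK LD1_c7 LD2_c4 LD3_c58) Lrfl Lrfl
theorem f147407 : Led Lsl_et (LP (LK LD1_c7 LD2_c23 LD3_c18)) = (LP (LK LD1_c13 LD2_c58 LD3_c14)) :=
  Lre_e IH (LK LD1_c7 LD2_c23 LD3_c18) (LK LD1_c13 LD2_c58 LD3_c14) Lrfl Lrfl
theorem f469164 : Led Lsl_df (LP (LK LD1_c13 LD2_c25 LD3_c34)) = (LP (LK LD1_c13 LD2_c58 LD3_c14)) :=
  Lgr Lrot70 (Lpr_et (f469159 IH) (Lpr_dt (K33.f455757 IH) (Lpr_et (K28.f469160 IH) (Lpr_dt (K8.f146934 IH) (Lpr_et (f147407 IH) (Lpn (LP (LK LD1_c13 LD2_c58 LD3_c14))))))))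
theorem f469233 : Led Lsl_gt (LP (LK LD1_c22 LD2_c44 LD3_c37)) = (LP (LK LD1_c13 LD2_c25 LD3_c34)) :=
  Lre_g IH (LK LD1_c22 LD2_c44 LD3_c37) (LK LD1_c13 LD2_c25 LD3_c34) Lrfl Lrfl
theorem f469234 : Led Lsl_dt (LP (LK LD1_c30 LD2_c41 LD3_c54)) = (LP (LK LD1_c22 LD2_c44 LD3_c37)) :=
  Lre_d IH (LK LD1_c30 LD2_c41 LD3_c54) (LK LD1_c22 LD2_c44 LD3_c37) Lrfl Lrfl
theorem f515640 : Led Lsl_at (LP (LK LD1_c30 LD2_c40 LD3_c39)) = (LP (LK LD1_c24 LD2_c33 LD3_c61)) :=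
  Lgr Lrot51 (Lpe (K34.f460814 IH) (Lpr_af (K34.f515634 IH) (Lpe (K34.f515521 IH) (Lpn (LP (LK LD1_c24 LD2_c33 LD3_c61))))))
theorem f460816 : Led Lsl_ft (LP (LK LD1_c22 LD2_c43 LD3_c18)) = (LP (LK LD1_c30 LD2_c40 LD3_c39)) :=
  Lre_f IH (LK LD1_c22 LD2_c43 LD3_c18) (LK LD1_c30 LD2_c40 LD3_c39) Lrfl Lrfl
theorem f460820 : Led Lsl_gt (LP (LK LD1_c22 LD2_c43 LD3_c18)) = (LP (LK LD1_c30 LD2_c40 LD3_c37)) :=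
  Lre_g IH (LK LD1_c22 LD2_c43 LD3_c18) (LK LD1_c30 LD2_c40 LD3_c37) Lrfl Lrfl
theorem f515961 : Led Lsl_gt (LP (LK LD1_c30 LD2_c40 LD3_c37)) = (LP (LK LD1_c24 LD2_c33 LD3_c61)) :=
  Lgr Lrot46 (Lpe (f460820 IH) (Lpr_ft (f460816 IH) (Lpr_at (f515640 IH) (Lpn (LP (LK LD1_c24 LD2_c33 LD3_c61))))))
theorem f515648 : Led Lsl_af (LP (LK LD1_c14 LD2_c45 LD3_c54)) = (LP (LK LD1_c7 LD2_c50 LD3_c26)) :=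
  Lgr Lrot0 (Lpr_at (K34.f515642 IH) (Lpn (LP (LK LD1_c7 LD2_c50 LD3_c26))))
theorem f460821 : Led Lsl_gt (LP (LK LD1_c24 LD2_c32 LD3_c10)) = (LP (LK LD1_c14 LD2_c45 LD3_c54)) :=
  Lre_g IH (LK LD1_c24 LD2_c32 LD3_c10) (LK LD1_c14 LD2_c45 LD3_c54) Lrfl Lrfl
theorem f515913 : Led Lsl_gf (LP (LK LD1_c24 LD2_c32 LD3_c10)) = (LP (LK LD1_c14 LD2_c47 LD3_c32)) :=
  Lgr Lrot47 (Lpr_gt (f460821 IH) (Lpr_af (f515648 IH) (Lpe (K34.f515511 IH) (Lpn (LP (LK LD1_c14 LD2_c47 LD3_c32))))))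
theorem f465756 : Led Lsl_af (LP (LK LD1_c7 LD2_c22 LD3_c38)) = (LP (LK LD1_c7 LD2_c4 LD3_c59)) :=
  Lgr Lrot117 (Lpr_dt (K34.f439215 IH) (Lpr_at (K28.f465750 IH) (Lpr_dt (K24.f458819 IH) (Lpn (LP (LK LD1_c7 LD2_c4 LD3_c59))))))
theorem f466153 : Led Lsl_gf (LP (LK LD1_c7 LD2_c22 LD3_c38)) = (LP (LK LD1_c13 LD2_c24 LD3_c52)) :=
  Lgr Lrot76 (Lpr_af (f465756 IH) (Lpr_ff (K24.f458834 IH) (Lpr_gt (K33.f458268 IH) (Lpn (LP (LK LD1_c13 LD2_c24 LD3_c52))))))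
theorem f144425 : Led Lsl_et (LP (LK LD1_c3 LD2_c41 LD3_c23)) = (LP (LK LD1_c7 LD2_c23 LD3_c14)) :=
  Lre_e IH (LK LD1_c3 LD2_c41 LD3_c23) (LK LD1_c7 LD2_c23 LD3_c14) Lrfl Lrfl
theorem f147391 : Led Lsl_gt (LP (LK LD1_c7 LD2_c23 LD3_c14)) = (LP (LK LD1_c13 LD2_c58 LD3_c4)) :=
  Lre_g IH (LK LD1_c7 LD2_c23 LD3_c14) (LK LD1_c13 LD2_c58 LD3_c4) Lrfl Lrfl
theorem f147394 : Led Lsl_et (LP (LK LD1_c23 LD2_c30 LD3_c7)) = (LP (LK LD1_c13 LD2_c58 LD3_c4)) :=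
  Lre_e IH (LK LD1_c23 LD2_c30 LD3_c7) (LK LD1_c13 LD2_c58 LD3_c4) Lrfl Lrfl
theorem f458314 : Led Lsl_et (LP (LK LD1_c22 LD2_c43 LD3_c18)) = (LP (LK LD1_c13 LD2_c24 LD3_c52)) :=
  Lre_e IH (LK LD1_c22 LD2_c43 LD3_c18) (LK LD1_c13 LD2_c24 LD3_c52) Lrfl Lrfl
theorem f466155 : Led Lsl_dt (LP (LK LD1_c23 LD2_c30 LD3_c7)) = (LP (LK LD1_c24 LD2_c32 LD3_c10)) :=
  Lgr Lrot136 (Lpr_et (f147394 IH) (Lpe (f147391 IH) (Lpe (f144425 IH) (Lpr_dt (K33.f144426 IH) (Lpe (K28.f465713 IH) (Lpe (K34.f439215 IH) (Lpr_gf (f466153 IH) (Lpe (f458314 IH) (Lpe (K33.f460804 IH) (Lpe (f460821 IH) (Lpn (LP (LK LD1_c24 LD2_c32 LD3_c10)))))))))))))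
theorem f146996 : Led Lsl_at (LP (LK LD1_c13 LD2_c58 LD3_c7)) = (LP (LK LD1_c14 LD2_c7 LD3_c11)) :=
  Lgr Lrot100 (Lpr_af (K8.f146991 IH) (Lpn (LP (LK LD1_c14 LD2_c7 LD3_c11))))
theorem f147361 : Led Lsl_ft (LP (LK LD1_c7 LD2_c23 LD3_c14)) = (LP (LK LD1_c13 LD2_c58 LD3_c7)) :=
  Lre_f IH (LK LD1_c7 LD2_c23 LD3_c14) (LK LD1_c13 LD2_c58 LD3_c7) Lrfl Lrfl
theorem f147392 : Led Lsl_gt (LP (LK LD1_c13 LD2_c58 LD3_c4)) = (LP (LK LD1_c14 LD2_c7 LD3_c11)) :=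
  Lgr Lrot46 (Lpe (f147391 IH) (Lpr_ft (f147361 IH) (Lpr_at (f146996 IH) (Lpn (LP (LK LD1_c14 LD2_c7 LD3_c11))))))
theorem f466379 : Led Lsl_bt (LP (LK LD1_c22 LD2_c43 LD3_c15)) = (LP (LK LD1_c30 LD2_c40 LD3_c29)) :=
  Lre_b IH (LK LD1_c22 LD2_c43 LD3_c15) (LK LD1_c30 LD2_c40 LD3_c29) Lrfl Lrfl
theorem f466397 : Led Lsl_dt (LP (LK LD1_c23 LD2_c41 LD3_c34)) = (LP (LK LD1_c22 LD2_c43 LD3_c15)) :=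
  Lgr Lrot79 (Lpe (K43.f146980 IH) (Lpr_df (K28.f466389 IH) (Lpe (f466379 IH) (Lpn (LP (LK LD1_c22 LD2_c43 LD3_c15))))))
theorem f146962 : Led Lsl_at (LP (LK LD1_c13 LD2_c58 LD3_c14)) = (LP (LK LD1_c14 LD2_c7 LD3_c18)) :=
  Lgr Lrot100 (Lpr_af (K8.f146959 IH) (Lpn (LP (LK LD1_c14 LD2_c7 LD3_c18))))
theorem f469227 : Led Lsl_af (LP (LK LD1_c13 LD2_c25 LD3_c34)) = (LP (LK LD1_c13 LD2_c24 LD3_c51)) :=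
  Lgr Lrot117 (Lpr_dt (K28.f469225 IH) (Lpr_at (f146962 IH) (Lpr_dt (K28.f466421 IH) (Lpn (LP (LK LD1_c13 LD2_c24 LD3_c51))))))
theorem f466439 : Led Lsl_ft (LP (LK LD1_c22 LD2_c43 LD3_c15)) = (LP (LK LD1_c13 LD2_c24 LD3_c51)) :=
  Lre_f IH (LK LD1_c22 LD2_c43 LD3_c15) (LK LD1_c13 LD2_c24 LD3_c51) Lrfl Lrfl
theorem f470213 : Led Lsl_gf (LP (LK LD1_c22 LD2_c44 LD3_c37)) = (LP (LK LD1_c22 LD2_c43 LD3_c15)) :=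
  Lgr Lrot47 (Lpr_gt (f469233 IH) (Lpr_af (f469227 IH) (Lpe (f466439 IH) (Lpn (LP (LK LD1_c22 LD2_c43 LD3_c15))))))
theorem f515963 : Led Lsl_ef (LP (LK LD1_c30 LD2_c40 LD3_c37)) = (LP (LK LD1_c30 LD2_c41 LD3_c54)) :=
  Lgr Lrot167 (Lpr_gt (f515961 IH) (Lpr_dt (K34.f515521 IH) (Lpe (f515913 IH) (Lpe (f466155 IH) (Lpr_et (f147394 IH) (Lpr_gt (f147392 IH) (Lpe (K8.f123871 IH) (Lpr_dt (f466397 IH) (Lpe (f470213 IH) (Lpe (f469234 IH) (Lpn (LP (LK LD1_c30 LD2_c41 LD3_c54)))))))))))))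
theorem f535457 : Led Lsl_gf (LP (LK LD1_c7 LD2_c49 LD3_c32)) = K35.v2770 :=
  Lgr Lrot134 (Lpr_df (K33.f460798 IH) (Lpr_et (K33.f460803 IH) (Lpr_gt (f460820 IH) (Lpr_ef (f515963 IH) (Lpr_dt (f469234 IH) (Lpr_gt (f469233 IH) (Lpr_df (f469164 IH) (Lpr_et (K8.f146957 IH) (Lpr_gt (K33.f147151 IH) (Lpr_dt (f535455 IH) (Lpn K35.v2770)))))))))))
theorem f667539 : Led Lsl_gf K35.v2770 = v7665 :=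
  Lgr Lrot47 (Lpe (f535457 IH) (Lpe (f515742 IH) (Lpr_ff (f667535 IH) (Lpn v7665))))
theorem f464366 : Led Lsl_et (LP (LK LD1_c7 LD2_c28 LD3_c48)) = (LP (LK LD1_c14 LD2_c7 LD3_c14)) :=
  Lre_e IH (LK LD1_c7 LD2_c28 LD3_c48) (LK LD1_c14 LD2_c7 LD3_c14) Lrfl Lrfl
theorem f469347 : Led Lsl_gt (LP (LK LD1_c14 LD2_c7 LD3_c14)) = (LP (LK LD1_c23 LD2_c41 LD3_c40)) :=
  Lre_g IH (LK LD1_c14 LD2_c7 LD3_c14) (LK LD1_c23 LD2_c41 LD3_c40) Lrfl Lrfl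
theorem f535456 : Led Lsl_et (LP (LK LD1_c31 LD2_c11 LD3_c11)) = (LP (LK LD1_c23 LD2_c41 LD3_c40)) :=
  Lre_e IH (LK LD1_c31 LD2_c11 LD3_c11) (LK LD1_c23 LD2_c41 LD3_c40) Lrfl Lrfl
theorem f667537 : Led Lsl_dt (LP (LK LD1_c13 LD2_c24 LD3_c53)) = v7665 :=
  Lgr Lrot60 (Lpe (K34.f515693 IH) (Lpe (K34.f438030 IH) (Lpr_ff (f667535 IH) (Lpn v7665))))
theorem f465762 : Led Lsl_at (LP (LK LD1_c7 LD2_c28 LD3_c4)) = (LP (LK LD1_c7 LD2_c4 LD3_c34)) :=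
  Lgr Lrot51 (Lpe (K28.f463496 IH) (Lpr_af (K28.f465758 IH) (Lpe (K24.f455647 IH) (Lpn (LP (LK LD1_c7 LD2_c4 LD3_c34))))))
theorem f439213 : Led Lsl_dt (LP (LK LD1_c3 LD2_c41 LD3_c9)) = (LP (LK LD1_c7 LD2_c22 LD3_c38)) :=
  Lre_d IH (LK LD1_c3 LD2_c41 LD3_c9) (LK LD1_c7 LD2_c22 LD3_c38) Lrfl Lrfl
theorem f465748 : Led Lsl_ft (LP (LK LD1_c7 LD2_c22 LD3_c38)) = (LP (LK LD1_c7 LD2_c28 LD3_c4)) :=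
  Lgr Lrot54 (Lpe (f439213 IH) (Lpr_ff (K28.f465741 IH) (Lpe (K28.f463517 IH) (Lpn (LP (LK LD1_c7 LD2_c28 LD3_c4))))))
theorem f466142 : Led Lsl_gt (LP (LK LD1_c7 LD2_c22 LD3_c38)) = (LP (LK LD1_c13 LD2_c24 LD3_c53)) :=
  Lgr Lrot5 (Lpr_ft (f465748 IH) (Lpr_at (f465762 IH) (Lpe (K34.f455648 IH) (Lpn (LP (LK LD1_c13 LD2_c24 LD3_c53))))))
theorem f661721 : Led Lsl_df (LP (LK LD1_c14 LD2_c50 LD3_c51)) = (LP (LK LD1_c13 LD2_c57 LD3_c0)) :=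
  Lgr Lrot38 (Lpr_dt (f661716 IH) (Lpn (LP (LK LD1_c13 LD2_c57 LD3_c0))))
theorem f661727 : Led Lsl_gt (LP (LK LD1_c24 LD2_c37 LD3_c9)) = (LP (LK LD1_c14 LD2_c50 LD3_c51)) :=
  Lre_g IH (LK LD1_c24 LD2_c37 LD3_c9) (LK LD1_c14 LD2_c50 LD3_c51) Lrfl Lrfl
theorem f667540 : Led Lsl_dt (LP (LK LD1_c31 LD2_c11 LD3_c11)) = (LP (LK LD1_c24 LD2_c37 LD3_c9)) :=
  Lgr Lrot136 (Lpr_et (f535456 IH) (Lpe (f469347 IH) (Lpe (f464366 IH) (Lpr_dt (f535455 IH) (Lpr_gf (f667539 IH) (Lpe (f667537 IH) (Lpe (f466142 IH) (Lpe (f465995 IH) (Lpe (f661721 IH) (Lpe (f661727 IH) (Lpn (LP (LK LD1_c24 LD2_c37 LD3_c9)))))))))))))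
theorem f667541 : Led Lsl_dt (LP (LK LD1_c31 LD2_c11 LD3_c11)) = (LP (LK LD1_c24 LD2_c37 LD3_c9)) :=
  Leop (Lpe (f667540 IH) (Lpn (LP (LK LD1_c31 LD2_c11 LD3_c11))))
theorem seed_516 : LEOK LG_d (LK LD1_c31 LD2_c11 LD3_c11) :=
  Leoe_d (LK LD1_c31 LD2_c11 LD3_c11) (f667541 IH)
def v7669 : LQ := Led Lsl_at (LP (LK LD1_c3 LD2_c54 LD3_c35))
theorem f667564 : Led Lsl_at (LP (LK LD1_c3 LD2_c54 LD3_c35)) = v7669 :=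
  Lrfl
theorem f451159 : Led Lsl_ct (LP (LK LD1_c3 LD2_c54 LD3_c35)) = (LP (LK LD1_c1 LD2_c53 LD3_c52)) :=
  Lre_c IH (LK LD1_c3 LD2_c54 LD3_c35) (LK LD1_c1 LD2_c53 LD3_c52) Lrfl Lrfl
theorem f123361 : Led Lsl_ct (LP (LK LD1_c3 LD2_c54 LD3_c0)) = (LP (LK LD1_c7 LD2_c49 LD3_c40)) :=
  Lre_c IH (LK LD1_c3 LD2_c54 LD3_c0) (LK LD1_c7 LD2_c49 LD3_c40) Lrfl Lrfl
theorem f523947 : Led Lsl_ff (LP (LK LD1_c3 LD2_c54 LD3_c35)) = (LP (LK LD1_c7 LD2_c49 LD3_c40)) :=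
  Lgr Lrot23 (Lpr_ct (f451159 IH) (Lpr_ft (K34.f523943 IH) (Lpr_ct (f123361 IH) (Lpn (LP (LK LD1_c7 LD2_c49 LD3_c40))))))
theorem f523949 : Led Lsl_af (LP (LK LD1_c1 LD2_c53 LD3_c56)) = (LP (LK LD1_c3 LD2_c54 LD3_c0)) :=
  Lgr Lrot31 (Lpe (K29.f490074 IH) (Lpe (K29.f440373 IH) (Lpr_ft (K34.f523943 IH) (Lpn (LP (LK LD1_c3 LD2_c54 LD3_c0))))))
theorem f437660 : Led Lsl_ct (LP (LK LD1_c1 LD2_c53 LD3_c56)) = (LP (LK LD1_c3 LD2_c54 LD3_c42)) :=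
  Lre_c IH (LK LD1_c1 LD2_c53 LD3_c56) (LK LD1_c3 LD2_c54 LD3_c42) Lrfl Lrfl
theorem f456610 : Led Lsl_ct (LP (LK LD1_c7 LD2_c49 LD3_c40)) = (LP (LK LD1_c3 LD2_c54 LD3_c0)) :=
  Lre_c IH (LK LD1_c7 LD2_c49 LD3_c40) (LK LD1_c3 LD2_c54 LD3_c0) Lrfl Lrfl
theorem f523954 : Led Lsl_at (LP (LK LD1_c3 LD2_c54 LD3_c42)) = (LP (LK LD1_c7 LD2_c49 LD3_c40)) :=
  Lgr Lrot107 (Lpe (f437660 IH) (Lpr_af (f523949 IH) (Lpe (f456610 IH) (Lpn (LP (LK LD1_c7 LD2_c49 LD3_c40))))))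
theorem f667567 : Led Lsl_ff (LP (LK LD1_c3 LD2_c54 LD3_c42)) = v7669 :=
  Lgr Lrot30 (Lpr_at (f523954 IH) (Lpe (f523947 IH) (Lpr_at (f667564 IH) (Lpn v7669))))
theorem f667569 : Led Lsl_ft (LP (LK LD1_c3 LD2_c54 LD3_c42)) = v7669 :=
  Lgr Lrot48 (Lpr_ff (f667567 IH) (Lpn v7669))
theorem f667565 : Led Lsl_af (LP (LK LD1_c3 LD2_c54 LD3_c35)) = v7669 :=
  Lgr Lrot0 (Lpr_at (f667564 IH) (Lpn v7669))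
theorem f467266 : Led Lsl_gt (LP (LK LD1_c7 LD2_c50 LD3_c54)) = (LP (LK LD1_c3 LD2_c54 LD3_c35)) :=
  Lre_g IH (LK LD1_c7 LD2_c50 LD3_c54) (LK LD1_c3 LD2_c54 LD3_c35) Lrfl Lrfl
theorem f667570 : Led Lsl_gt (LP (LK LD1_c3 LD2_c54 LD3_c42)) = (LP (LK LD1_c7 LD2_c50 LD3_c54)) :=
  Lgr Lrot5 (Lpr_ft (f667569 IH) (Lpe (f667565 IH) (Lpe (f467266 IH) (Lpn (LP (LK LD1_c7 LD2_c50 LD3_c54))))))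
theorem f667571 : Led Lsl_gt (LP (LK LD1_c3 LD2_c54 LD3_c42)) = (LP (LK LD1_c7 LD2_c50 LD3_c54)) :=
  Leop (Lpe (f667570 IH) (Lpn (LP (LK LD1_c3 LD2_c54 LD3_c42))))
theorem seed_517 : LEOK LG_g (LK LD1_c3 LD2_c54 LD3_c42) :=
  Leoe_g (LK LD1_c3 LD2_c54 LD3_c42) (f667571 IH)
def v7671 : LQ := Led Lsl_et (LP (LK LD1_c3 LD2_c54 LD3_c36))
theorem f667577 : Led Lsl_et (LP (LK LD1_c3 LD2_c54 LD3_c36)) = v7671 :=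
  Lrfl
theorem f667580 : Led Lsl_ef (LP (LK LD1_c3 LD2_c54 LD3_c36)) = v7671 :=
  Lgr Lrot88 (Lpr_et (f667577 IH) (Lpn v7671))
theorem f441698 : Led Lsl_gt (LP (LK LD1_c3 LD2_c55 LD3_c51)) = (LP (LK LD1_c7 LD2_c53 LD3_c24)) :=
  Lre_g IH (LK LD1_c3 LD2_c55 LD3_c51) (LK LD1_c7 LD2_c53 LD3_c24) Lrfl Lrfl
theorem f479882 : Led Lsl_et (LP (LK LD1_c1 LD2_c40 LD3_c23)) = (LP (LK LD1_c3 LD2_c27 LD3_c38)) :=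
  Lre_e IH (LK LD1_c1 LD2_c40 LD3_c23) (LK LD1_c3 LD2_c27 LD3_c38) Lrfl Lrfl
theorem f476605 : Led Lsl_et (LP (LK LD1_c3 LD2_c24 LD3_c54)) = (LP (LK LD1_c6 LD2_c52 LD3_c18)) :=
  Lre_e IH (LK LD1_c3 LD2_c24 LD3_c54) (LK LD1_c6 LD2_c52 LD3_c18) Lrfl Lrfl
theorem f463429 : Led Lsl_gt (LP (LK LD1_c6 LD2_c52 LD3_c18)) = (LP (LK LD1_c13 LD2_c4 LD3_c9)) :=
  Lre_g IH (LK LD1_c6 LD2_c52 LD3_c18) (LK LD1_c13 LD2_c4 LD3_c9) Lrfl Lrfl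
theorem f479883 : Led Lsl_et (LP (LK LD1_c13 LD2_c12 LD3_c45)) = (LP (LK LD1_c13 LD2_c4 LD3_c9)) :=
  Lgr Lrot122 (Lpr_dt (K29.f472949 IH) (Lpr_gt (K29.f461913 IH) (Lpe (K28.f469051 IH) (Lpr_et (f479882 IH) (Lpr_gt (K32.f479874 IH) (Lpe (K32.f479877 IH) (Lpe (K32.f479879 IH) (Lpe (K28.f468925 IH) (Lpr_et (f476605 IH) (Lpr_gt (f463429 IH) (Lpn (LP (LK LD1_c13 LD2_c4 LD3_c9)))))))))))))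
theorem f479885 : Led Lsl_ef (LP (LK LD1_c13 LD2_c12 LD3_c45)) = (LP (LK LD1_c13 LD2_c4 LD3_c9)) :=
  Lgr Lrot88 (Lpr_et (f479883 IH) (Lpn (LP (LK LD1_c13 LD2_c4 LD3_c9))))
theorem f479887 : Led Lsl_df (LP (LK LD1_c7 LD2_c53 LD3_c24)) = (LP (LK LD1_c13 LD2_c4 LD3_c9)) :=
  Lgr Lrot168 (Lpe (f441698 IH) (Lpe (K6.f125889 IH) (Lpr_et (K5.f125882 IH) (Lpe (K5.f107297 IH) (Lpe (K28.f95919 IH) (Lpr_dt (K28.f95920 IH) (Lpr_gf (K28.f464101 IH) (Lpe (K28.f98733 IH) (Lpr_gf (K29.f479445 IH) (Lpr_ef (f479885 IH) (Lpn (LP (LK LD1_c13 LD2_c4 LD3_c9)))))))))))))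
theorem f479451 : Led Lsl_et (LP (LK LD1_c3 LD2_c31 LD3_c14)) = (LP (LK LD1_c7 LD2_c4 LD3_c18)) :=
  Lre_e IH (LK LD1_c3 LD2_c31 LD3_c14) (LK LD1_c7 LD2_c4 LD3_c18) Lrfl Lrfl
theorem f464098 : Led Lsl_gt (LP (LK LD1_c7 LD2_c4 LD3_c17)) = (LP (LK LD1_c13 LD2_c24 LD3_c19)) :=
  Lre_g IH (LK LD1_c7 LD2_c4 LD3_c17) (LK LD1_c13 LD2_c24 LD3_c19) Lrfl Lrfl
theorem f667583 : Led Lsl_df (LP (LK LD1_c13 LD2_c24 LD3_c19)) = v7671 :=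
  Lgr Lrot168 (Lpe (f464098 IH) (Lpe (K46.f464097 IH) (Lpr_et (f479451 IH) (Lpr_gf (K29.f479445 IH) (Lpr_ef (f479885 IH) (Lpe (f479887 IH) (Lpe (f441698 IH) (Lpe (K6.f125889 IH) (Lpr_gf (K33.f481847 IH) (Lpr_ef (f667580 IH) (Lpn v7671)))))))))))
theorem f667581 : Led Lsl_at (LP (LK LD1_c6 LD2_c54 LD3_c61)) = v7671 :=
  Lgr Lrot80 (Lpe (K33.f481717 IH) (Lpr_af (K35.f524219 IH) (Lpr_ef (f667580 IH) (Lpn v7671))))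
theorem f667584 : Led Lsl_at (LP (LK LD1_c13 LD2_c24 LD3_c19)) = (LP (LK LD1_c13 LD2_c8 LD3_c32)) :=
  Lgr Lrot51 (Lpr_df (f667583 IH) (Lpe (f667581 IH) (Lpe (K47.f481733 IH) (Lpn (LP (LK LD1_c13 LD2_c8 LD3_c32))))))
theorem f667585 : Led Lsl_at (LP (LK LD1_c13 LD2_c24 LD3_c19)) = (LP (LK LD1_c13 LD2_c8 LD3_c32)) :=
  Leop (Lpe (f667584 IH) (Lpn (LP (LK LD1_c13 LD2_c24 LD3_c19))))
theorem seed_518 : LEOK LG_a (LK LD1_c13 LD2_c24 LD3_c19) :=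
  Leoe_a (LK LD1_c13 LD2_c24 LD3_c19) (f667585 IH)
def v7673 : LQ := Led Lsl_gf (LP (LK LD1_c3 LD2_c54 LD3_c37))
theorem f667625 : Led Lsl_gf (LP (LK LD1_c3 LD2_c54 LD3_c37)) = v7673 :=
  Lrfl
def v2653 : LQ := Led Lsl_dt (LP (LK LD1_c1 LD2_c51 LD3_c5))
theorem f530126 : Led Lsl_dt (LP (LK LD1_c1 LD2_c51 LD3_c5)) = v2653 :=
  Lrfl
theorem f530128 : Led Lsl_df (LP (LK LD1_c1 LD2_c51 LD3_c5)) = v2653 :=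
  Lgr Lrot38 (Lpr_dt (f530126 IH) (Lpn v2653))
theorem f530129 : Led Lsl_ef (LP (LK LD1_c3 LD2_c28 LD3_c25)) = v2653 :=
  Lgr Lrot73 (Lpr_dt (K3.f19403 IH) (Lpr_et (K2.f19416 IH) (Lpe (K2.f88644 IH) (Lpr_et (K28.f88634 IH) (Lpr_dt (f530126 IH) (Lpn v2653))))))
def v2609 : LQ := Led Lsl_dt (LP (LK LD1_c1 LD2_c49 LD3_c32))
theorem f527772 : Led Lsl_dt (LP (LK LD1_c1 LD2_c49 LD3_c32)) = v2609 :=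
  Lrfl
theorem f87513 : Led Lsl_dt (LP (LK LD1_c3 LD2_c32 LD3_c9)) = (LP (LK LD1_c1 LD2_c42 LD3_c46)) :=
  Lre_d IH (LK LD1_c3 LD2_c32 LD3_c9) (LK LD1_c1 LD2_c42 LD3_c46) Lrfl Lrfl
theorem f527776 : Led Lsl_ef (LP (LK LD1_c3 LD2_c32 LD3_c9)) = v2609 :=
  Lgr Lrot73 (Lpr_dt (f87513 IH) (Lpr_et (K2.f87509 IH) (Lpe (K2.f90600 IH) (Lpr_et (K2.f92274 IH) (Lpr_dt (f527772 IH) (Lpn v2609))))))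
theorem f527775 : Led Lsl_df (LP (LK LD1_c1 LD2_c49 LD3_c32)) = v2609 :=
  Lgr Lrot38 (Lpr_dt (f527772 IH) (Lpn v2609))
theorem f667627 : Led Lsl_et (LP (LK LD1_c7 LD2_c3 LD3_c58)) = v7673 :=
  Lgr Lrot121 (Lpr_dt (f129750 IH) (Lpe (K28.f463580 IH) (Lpr_df (f527775 IH) (Lpe (f527776 IH) (Lpe (K11.f115102 IH) (Lpr_ef (f530129 IH) (Lpe (f530128 IH) (Lpr_gf (K33.f488028 IH) (Lpe (K34.f481852 IH) (Lpr_gf (f667625 IH) (Lpn v7673)))))))))))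
theorem f667631 : Led Lsl_ef (LP (LK LD1_c7 LD2_c3 LD3_c58)) = v7673 :=
  Lgr Lrot88 (Lpr_et (f667627 IH) (Lpn v7673))
theorem f514521 : Led Lsl_bt (LP (LK LD1_c7 LD2_c3 LD3_c58)) = (LP (LK LD1_c3 LD2_c31 LD3_c0)) :=
  Lre_b IH (LK LD1_c7 LD2_c3 LD3_c58) (LK LD1_c3 LD2_c31 LD3_c0) Lrfl Lrfl
theorem f531604 : Led Lsl_et (LP (LK LD1_c3 LD2_c31 LD3_c0)) = v2724 :=
  Lgr Lrot87 (Lpr_ef (f531603 IH) (Lpn v2724))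
theorem f667633 : Led Lsl_bt v2724 = v7673 :=
  Lgr Lrot119 (Lpe (f531604 IH) (Lpe (f514521 IH) (Lpr_ef (f667631 IH) (Lpn v7673))))
theorem f514412 : Led Lsl_af (LP (LK LD1_c1 LD2_c42 LD3_c0)) = v2295 :=
  Lgr Lrot50 (Lpr_et (K5.f62694 IH) (Lpr_at (K33.f455552 IH) (Lpqs (K33.f512300 IH) (Lpr_et (f511931 IH) (Lpn v2295)))))
theorem f514413 : Led Lsl_at (LP (LK LD1_c1 LD2_c42 LD3_c0)) = v2295 :=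
  Lgr Lrot100 (Lpr_af (f514412 IH) (Lpn v2295))
theorem f531601 : Led Lsl_af (LP (LK LD1_c3 LD2_c30 LD3_c59)) = v2724 :=
  Lgr Lrot117 (Lpr_dt (K5.f62699 IH) (Lpr_at (f514413 IH) (Lpr_dt (f531600 IH) (Lpn v2724))))
def v2657 : LQ := Led Lsl_gf (LP (LK LD1_c1 LD2_c51 LD3_c28))
theorem f530151 : Led Lsl_gf (LP (LK LD1_c1 LD2_c51 LD3_c28)) = v2657 :=
  Lrfl
theorem f531606 : Led Lsl_ft v2657 = v2724 :=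
  Lgr Lrot2 (Lpe (f530151 IH) (Lpe (K5.f62697 IH) (Lpr_af (f531601 IH) (Lpn v2724))))
def v7450 : LQ := Led Lsl_gf (LP (LK LD1_c3 LD2_c48 LD3_c16))
theorem f665662 : Led Lsl_gf (LP (LK LD1_c3 LD2_c48 LD3_c16)) = v7450 :=
  Lrfl
def v7447 : LQ := Led Lsl_dt (LP (LK LD1_c3 LD2_c48 LD3_c9))
theorem f665636 : Led Lsl_dt (LP (LK LD1_c3 LD2_c48 LD3_c9)) = v7447 :=
  Lrfl
theorem f90052 : Led Lsl_dt (LP (LK LD1_c3 LD2_c48 LD3_c16)) = (LP (LK LD1_c1 LD2_c51 LD3_c9)) :=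
  Lre_d IH (LK LD1_c3 LD2_c48 LD3_c16) (LK LD1_c1 LD2_c51 LD3_c9) Lrfl Lrfl
theorem f665637 : Led Lsl_af (LP (LK LD1_c3 LD2_c48 LD3_c16)) = v7447 :=
  Lgr Lrot117 (Lpr_dt (f90052 IH) (Lpr_at (K34.f524195 IH) (Lpr_dt (f665636 IH) (Lpn v7447))))
theorem f665641 : Led Lsl_ff (LP (LK LD1_c3 LD2_c48 LD3_c18)) = v7447 :=
  Lgr Lrot19 (Lpr_dt (K24.f459775 IH) (Lpr_ft (K34.f524199 IH) (Lpr_dt (f665636 IH) (Lpn v7447))))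
theorem f665644 : Led Lsl_ft (LP (LK LD1_c3 LD2_c48 LD3_c18)) = v7447 :=
  Lgr Lrot48 (Lpr_ff (f665641 IH) (Lpn v7447))
theorem f665663 : Led Lsl_gt (LP (LK LD1_c3 LD2_c48 LD3_c18)) = v7450 :=
  Lgr Lrot5 (Lpr_ft (f665644 IH) (Lpe (f665637 IH) (Lpr_gf (f665662 IH) (Lpn v7450))))
theorem f467913 : Led Lsl_gt (LP (LK LD1_c7 LD2_c10 LD3_c61)) = (LP (LK LD1_c3 LD2_c34 LD3_c56)) :=
  Lre_g IH (LK LD1_c7 LD2_c10 LD3_c61) (LK LD1_c3 LD2_c34 LD3_c56) Lrfl Lrfl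
theorem f665664 : Led Lsl_cf (LP (LK LD1_c7 LD2_c10 LD3_c61)) = v7450 :=
  Lgr Lrot169 (Lpr_gt (f467913 IH) (Lpr_ct (K46.f454985 IH) (Lpe (K46.f455891 IH) (Lpe (K29.f10164 IH) (Lpr_gf (K28.f467907 IH) (Lpe (K28.f89868 IH) (Lpe (K24.f84664 IH) (Lpe (K24.f459775 IH) (Lpr_gt (f665663 IH) (Lpn v7450))))))))))
theorem f454984 : Led Lsl_bt (LP (LK LD1_c1 LD2_c44 LD3_c12)) = (LP (LK LD1_c0 LD2_c48 LD3_c40)) :=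
  Lre_b IH (LK LD1_c1 LD2_c44 LD3_c12) (LK LD1_c0 LD2_c48 LD3_c40) Lrfl Lrfl
def v2389 : LQ := Led Lsl_ct (LP (LK LD1_c1 LD2_c44 LD3_c13))
theorem f519441 : Led Lsl_ct (LP (LK LD1_c1 LD2_c44 LD3_c13)) = v2389 :=
  Lrfl
def v885 : LQ := Led Lsl_ct (LP (LK LD1_c0 LD2_c53 LD3_c34))
theorem f490259 : Led Lsl_ct (LP (LK LD1_c0 LD2_c53 LD3_c34)) = v885 :=
  Lrfl
theorem f490260 : Led Lsl_cf (LP (LK LD1_c0 LD2_c53 LD3_c34)) = v885 :=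
  Lgr Lrot11 (Lpr_ct (f490259 IH) (Lpn v885))
theorem f519444 : Led Lsl_gf v885 = v2389 :=
  Lgr Lrot104 (Lpe (f490260 IH) (Lpe (K46.f123405 IH) (Lpq (K24.f455974 IH) (Lpe (K24.f450909 IH) (Lpe (K28.f10898 IH) (Lpr_cf (K0.f5951 IH) (Lpe (K24.f10160 IH) (Lpe (K24.f10162 IH) (Lpr_gt (K24.f5924 IH) (Lpr_ct (f519441 IH) (Lpn v2389)))))))))))
theorem f467889 : Led Lsl_bt (LP (LK LD1_c0 LD2_c53 LD3_c34)) = (LP (LK LD1_c1 LD2_c51 LD3_c31)) :=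
  Lgr Lrot127 (Lpr_bf (K46.f467887 IH) (Lpn (LP (LK LD1_c1 LD2_c51 LD3_c31))))
theorem f482038 : Led Lsl_at (LP (LK LD1_c1 LD2_c53 LD3_c59)) = (LP (LK LD1_c1 LD2_c51 LD3_c28)) :=
  Lgr Lrot66 (Lpr_ff (K46.f467895 IH) (Lpe (f467903 IH) (Lpr_ff (K46.f482036 IH) (Lpn (LP (LK LD1_c1 LD2_c51 LD3_c28))))))
theorem f530152 : Led Lsl_gt (LP (LK LD1_c1 LD2_c51 LD3_c31)) = v2657 :=
  Lgr Lrot5 (Lpe (K46.f467895 IH) (Lpr_at (f482038 IH) (Lpr_gf (f530151 IH) (Lpn v2657))))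
theorem f665666 : Led Lsl_bf v2657 = v7450 :=
  Lgr Lrot34 (Lpe (f530152 IH) (Lpe (f467889 IH) (Lpr_ct (f490259 IH) (Lpr_gf (f519444 IH) (Lpe (f519441 IH) (Lpe (K24.f5924 IH) (Lpe (f454984 IH) (Lpr_ct (K46.f455895 IH) (Lpe (f467913 IH) (Lpr_cf (f665664 IH) (Lpn v7450)))))))))))
theorem f667635 : Led Lsl_ff v7450 = v7673 :=
  Lgr Lrot25 (Lpe (f665666 IH) (Lpr_ft (f531606 IH) (Lpr_bt (f667633 IH) (Lpn v7673))))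
def v7672 : LQ := Led Lsl_gt (LP (LK LD1_c3 LD2_c54 LD3_c37))
theorem f667619 : Led Lsl_gt (LP (LK LD1_c3 LD2_c54 LD3_c37)) = v7672 :=
  Lrfl
theorem f667637 : Led Lsl_at v7450 = v7672 :=
  Lgr Lrot26 (Lpr_ff (f667635 IH) (Lpe (f667625 IH) (Lpr_gt (f667619 IH) (Lpn v7672))))
theorem f667632 : Led Lsl_at (LP (LK LD1_c7 LD2_c37 LD3_c36)) = v7673 :=
  Lgr Lrot80 (Lpr_ef (K34.f524237 IH) (Lpe (f514519 IH) (Lpr_ef (f667631 IH) (Lpn v7673))))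
theorem f667640 : Led Lsl_ff (LP (LK LD1_c7 LD2_c37 LD3_c36)) = v7672 :=
  Lgr Lrot30 (Lpr_at (f667632 IH) (Lpe (f667635 IH) (Lpr_at (f667637 IH) (Lpn v7672))))
theorem f667642 : Led Lsl_ft (LP (LK LD1_c7 LD2_c37 LD3_c36)) = v7672 :=
  Lgr Lrot48 (Lpr_ff (f667640 IH) (Lpn v7672))
theorem f456151 : Led Lsl_dt (LP (LK LD1_c13 LD2_c36 LD3_c61)) = (LP (LK LD1_c7 LD2_c11 LD3_c12)) :=
  Lre_d IH (LK LD1_c13 LD2_c36 LD3_c61) (LK LD1_c7 LD2_c11 LD3_c12) Lrfl Lrfl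
theorem f478767 : Led Lsl_ff (LP (LK LD1_c13 LD2_c36 LD3_c61)) = (LP (LK LD1_c13 LD2_c36 LD3_c28)) :=
  Lgr Lrot19 (Lpr_dt (f456151 IH) (Lpr_ft (K33.f478754 IH) (Lpr_dt (K29.f478719 IH) (Lpn (LP (LK LD1_c13 LD2_c36 LD3_c28))))))
theorem f455920 : Led Lsl_dt (LP (LK LD1_c3 LD2_c34 LD3_c56)) = (LP (LK LD1_c7 LD2_c11 LD3_c0)) :=
  Lre_d IH (LK LD1_c3 LD2_c34 LD3_c56) (LK LD1_c7 LD2_c11 LD3_c0) Lrfl Lrfl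
theorem f455921 : Led Lsl_ct (LP (LK LD1_c7 LD2_c11 LD3_c0)) = (LP (LK LD1_c13 LD2_c36 LD3_c36)) :=
  Lre_c IH (LK LD1_c7 LD2_c11 LD3_c0) (LK LD1_c13 LD2_c36 LD3_c36) Lrfl Lrfl
theorem f478772 : Led Lsl_at (LP (LK LD1_c13 LD2_c36 LD3_c61)) = (LP (LK LD1_c13 LD2_c36 LD3_c36)) :=
  Lgr Lrot33 (Lpr_ff (f478767 IH) (Lpr_dt (K29.f455901 IH) (Lpr_ct (K29.f455897 IH) (Lpr_dt (K29.f10165 IH) (Lpr_ct (K29.f10164 IH) (Lpr_dt (K46.f455891 IH) (Lpr_ct (K46.f455895 IH) (Lpr_dt (f455920 IH) (Lpr_ct (f455921 IH) (Lpn (LP (LK LD1_c13 LD2_c36 LD3_c36))))))))))))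
theorem f478780 : Led Lsl_ff (LP (LK LD1_c13 LD2_c37 LD3_c9)) = (LP (LK LD1_c13 LD2_c36 LD3_c36)) :=
  Lgr Lrot30 (Lpr_at (K43.f478723 IH) (Lpe (f478767 IH) (Lpr_at (f478772 IH) (Lpn (LP (LK LD1_c13 LD2_c36 LD3_c36))))))
theorem f478784 : Led Lsl_ft (LP (LK LD1_c7 LD2_c11 LD3_c19)) = (LP (LK LD1_c7 LD2_c11 LD3_c0)) :=
  Lgr Lrot4 (Lpe (K33.f478783 IH) (Lpr_ff (f478780 IH) (Lpe (f455921 IH) (Lpn (LP (LK LD1_c7 LD2_c11 LD3_c0))))))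
theorem f454986 : Led Lsl_dt (LP (LK LD1_c7 LD2_c11 LD3_c0)) = (LP (LK LD1_c3 LD2_c34 LD3_c56)) :=
  Lre_d IH (LK LD1_c7 LD2_c11 LD3_c0) (LK LD1_c3 LD2_c34 LD3_c56) Lrfl Lrfl
theorem f478794 : Led Lsl_ff (LP (LK LD1_c3 LD2_c35 LD3_c4)) = (LP (LK LD1_c3 LD2_c34 LD3_c56)) :=
  Lgr Lrot19 (Lpr_dt (K46.f456746 IH) (Lpr_ft (f478784 IH) (Lpr_dt (f454986 IH) (Lpn (LP (LK LD1_c3 LD2_c34 LD3_c56))))))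
theorem f478808 : Led Lsl_at (LP (LK LD1_c3 LD2_c35 LD3_c4)) = (LP (LK LD1_c7 LD2_c11 LD3_c7)) :=
  Lre_a IH (LK LD1_c3 LD2_c35 LD3_c4) (LK LD1_c7 LD2_c11 LD3_c7) Lrfl Lrfl
theorem f455924 : Led Lsl_gt (LP (LK LD1_c3 LD2_c34 LD3_c56)) = (LP (LK LD1_c7 LD2_c10 LD3_c60)) :=
  Lre_g IH (LK LD1_c3 LD2_c34 LD3_c56) (LK LD1_c7 LD2_c10 LD3_c60) Lrfl Lrfl
theorem f478809 : Led Lsl_gf (LP (LK LD1_c7 LD2_c11 LD3_c7)) = (LP (LK LD1_c7 LD2_c10 LD3_c60)) :=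
  Lgr Lrot76 (Lpe (f478808 IH) (Lpr_ff (f478794 IH) (Lpr_gt (f455924 IH) (Lpn (LP (LK LD1_c7 LD2_c10 LD3_c60))))))
theorem f478831 : Led Lsl_cf (LP (LK LD1_c7 LD2_c10 LD3_c60)) = (LP (LK LD1_c7 LD2_c37 LD3_c36)) :=
  Lgr Lrot169 (Lpe (f478809 IH) (Lpr_ct (K29.f478717 IH) (Lpe (K29.f478789 IH) (Lpe (K37.f456749 IH) (Lpr_gf (K29.f478827 IH) (Lpr_cf (K29.f90043 IH) (Lpe (K29.f90050 IH) (Lpe (f90052 IH) (Lpr_gt (K34.f90053 IH) (Lpn (LP (LK LD1_c7 LD2_c37 LD3_c36))))))))))))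
theorem f478836 : Led Lsl_ct (LP (LK LD1_c7 LD2_c10 LD3_c60)) = (LP (LK LD1_c7 LD2_c37 LD3_c36)) :=
  Lgr Lrot59 (Lpr_cf (f478831 IH) (Lpn (LP (LK LD1_c7 LD2_c37 LD3_c36))))
def v6949 : LQ := Led Lsl_gt (LP (LK LD1_c3 LD2_c35 LD3_c4))
theorem f659631 : Led Lsl_gt (LP (LK LD1_c3 LD2_c35 LD3_c4)) = v6949 :=
  Lrfl
theorem f659632 : Led Lsl_gf (LP (LK LD1_c6 LD2_c55 LD3_c6)) = v6949 :=
  Lgr Lrot76 (Lpe (K46.f485609 IH) (Lpe (K46.f478711 IH) (Lpr_gt (f659631 IH) (Lpn v6949))))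
theorem f667621 : Led Lsl_cf v6949 = v7672 :=
  Lgr Lrot169 (Lpe (f659632 IH) (Lpr_ct (K46.f455104 IH) (Lpe (K33.f15108 IH) (Lpe (K33.f481759 IH) (Lpe (K33.f484235 IH) (Lpr_cf (K2.f89860 IH) (Lpr_gf (K33.f488028 IH) (Lpe (K34.f481852 IH) (Lpr_gt (f667619 IH) (Lpn v7672))))))))))
theorem f667643 : Led Lsl_ff (LP (LK LD1_c7 LD2_c10 LD3_c60)) = v6949 :=
  Lgr Lrot23 (Lpr_ct (f478836 IH) (Lpr_ft (f667642 IH) (Lpe (f667621 IH) (Lpn v6949))))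
theorem f478880 : Led Lsl_at (LP (LK LD1_c7 LD2_c11 LD3_c7)) = (LP (LK LD1_c3 LD2_c35 LD3_c4)) :=
  Lre_a IH (LK LD1_c7 LD2_c11 LD3_c7) (LK LD1_c3 LD2_c35 LD3_c4) Lrfl Lrfl
theorem f485615 : Led Lsl_ff (LP (LK LD1_c7 LD2_c11 LD3_c7)) = (LP (LK LD1_c6 LD2_c55 LD3_c6)) :=
  Lgr Lrot30 (Lpr_at (f478880 IH) (Lpr_ft (K46.f478711 IH) (Lpr_at (K46.f485609 IH) (Lpn (LP (LK LD1_c6 LD2_c55 LD3_c6))))))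
theorem f455934 : Led Lsl_gt (LP (LK LD1_c7 LD2_c11 LD3_c18)) = (LP (LK LD1_c3 LD2_c35 LD3_c4)) :=
  Lre_g IH (LK LD1_c7 LD2_c11 LD3_c18) (LK LD1_c3 LD2_c35 LD3_c4) Lrfl Lrfl
theorem f485620 : Led Lsl_gf (LP (LK LD1_c7 LD2_c11 LD3_c18)) = (LP (LK LD1_c6 LD2_c55 LD3_c6)) :=
  Lgr Lrot47 (Lpr_gt (f455934 IH) (Lpe (f478880 IH) (Lpr_ff (f485615 IH) (Lpn (LP (LK LD1_c6 LD2_c55 LD3_c6))))))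
theorem f667644 : Led Lsl_at (LP (LK LD1_c7 LD2_c10 LD3_c60)) = (LP (LK LD1_c7 LD2_c11 LD3_c18)) :=
  Lgr Lrot26 (Lpr_ff (f667643 IH) (Lpe (f659632 IH) (Lpe (f485620 IH) (Lpn (LP (LK LD1_c7 LD2_c11 LD3_c18))))))
theorem f667645 : Led Lsl_at (LP (LK LD1_c7 LD2_c10 LD3_c60)) = (LP (LK LD1_c7 LD2_c11 LD3_c18)) :=
  Leop (Lpe (f667644 IH) (Lpn (LP (LK LD1_c7 LD2_c10 LD3_c60))))
theorem seed_519 : LEOK LG_a (LK LD1_c7 LD2_c10 LD3_c60) :=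
  Leoe_a (LK LD1_c7 LD2_c10 LD3_c60) (f667645 IH)
def v7715 : LQ := Led Lsl_et (LP (LK LD1_c3 LD2_c55 LD3_c43))
theorem f667913 : Led Lsl_et (LP (LK LD1_c3 LD2_c55 LD3_c43)) = v7715 :=
  Lrfl
theorem f667916 : Led Lsl_ef (LP (LK LD1_c3 LD2_c55 LD3_c43)) = v7715 :=
  Lgr Lrot88 (Lpr_et (f667913 IH) (Lpn v7715))
theorem f97674 : Led Lsl_gt (LP (LK LD1_c6 LD2_c54 LD3_c14)) = (LP (LK LD1_c3 LD2_c26 LD3_c9)) :=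
  Lre_g IH (LK LD1_c6 LD2_c54 LD3_c14) (LK LD1_c3 LD2_c26 LD3_c9) Lrfl Lrfl
theorem f667919 : Led Lsl_df (LP (LK LD1_c6 LD2_c54 LD3_c14)) = v7715 :=
  Lgr Lrot170 (Lpr_gt (f97674 IH) (Lpe (K4.f97673 IH) (Lpr_et (K4.f97672 IH) (Lpe (K3.f97670 IH) (Lpr_dt (K3.f94572 IH) (Lpr_gt (K3.f97667 IH) (Lpe (K5.f11842 IH) (Lpr_et (K29.f12293 IH) (Lpr_gt (K33.f12224 IH) (Lpr_ef (f667916 IH) (Lpn v7715)))))))))))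
theorem f667923 : Led Lsl_et (LP (LK LD1_c6 LD2_c54 LD3_c14)) = (LP (LK LD1_c13 LD2_c7 LD3_c8)) :=
  Lre_e IH (LK LD1_c6 LD2_c54 LD3_c14) (LK LD1_c13 LD2_c7 LD3_c8) Lrfl Lrfl
theorem f466240 : Led Lsl_dt (LP (LK LD1_c7 LD2_c53 LD3_c12)) = (LP (LK LD1_c3 LD2_c55 LD3_c43)) :=
  Lre_d IH (LK LD1_c7 LD2_c53 LD3_c12) (LK LD1_c3 LD2_c55 LD3_c43) Lrfl Lrfl
theorem f466244 : Led Lsl_et (LP (LK LD1_c14 LD2_c52 LD3_c40)) = (LP (LK LD1_c7 LD2_c53 LD3_c12)) :=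
  Lre_e IH (LK LD1_c14 LD2_c52 LD3_c40) (LK LD1_c7 LD2_c53 LD3_c12) Lrfl Lrfl
theorem f667924 : Led Lsl_dt (LP (LK LD1_c13 LD2_c7 LD3_c8)) = (LP (LK LD1_c14 LD2_c52 LD3_c40)) :=
  Lgr Lrot77 (Lpe (f667923 IH) (Lpr_df (f667919 IH) (Lpe (f667913 IH) (Lpe (f466240 IH) (Lpe (f466244 IH) (Lpn (LP (LK LD1_c14 LD2_c52 LD3_c40))))))))
theorem f667925 : Led Lsl_dt (LP (LK LD1_c13 LD2_c7 LD3_c8)) = (LP (LK LD1_c14 LD2_c52 LD3_c40)) :=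
  Leop (Lpe (f667924 IH) (Lpn (LP (LK LD1_c13 LD2_c7 LD3_c8))))
theorem seed_520 : LEOK LG_d (LK LD1_c13 LD2_c7 LD3_c8) :=
  Leoe_d (LK LD1_c13 LD2_c7 LD3_c8) (f667925 IH)
def v7722 : LQ := Led Lsl_gf (LP (LK LD1_c3 LD2_c55 LD3_c54))
theorem f667988 : Led Lsl_gf (LP (LK LD1_c3 LD2_c55 LD3_c54)) = v7722 :=
  Lrfl
def v2748 : LQ := Led Lsl_dt (LP (LK LD1_c1 LD2_c54 LD3_c36))
theorem f531742 : Led Lsl_dt (LP (LK LD1_c1 LD2_c54 LD3_c36)) = v2748 :=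
  Lrfl
def v7100 : LQ := Led Lsl_dt (LP (LK LD1_c3 LD2_c38 LD3_c59))
theorem f660997 : Led Lsl_dt (LP (LK LD1_c3 LD2_c38 LD3_c59)) = v7100 :=
  Lrfl
theorem f661001 : Led Lsl_gt v2748 = v7100 :=
  Lgr Lrot139 (Lpe (f531742 IH) (Lpe (K28.f465412 IH) (Lpe (K3.f94535 IH) (Lpr_dt (K3.f65959 IH) (Lpe (K2.f23460 IH) (Lpe (K1.f62816 IH) (Lpr_et (K29.f65499 IH) (Lpr_gf (K29.f481678 IH) (Lpe (K33.f481692 IH) (Lpr_dt (f660997 IH) (Lpn v7100)))))))))))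
theorem f65524 : Led Lsl_dt (LP (LK LD1_c6 LD2_c34 LD3_c10)) = (LP (LK LD1_c3 LD2_c15 LD3_c25)) :=
  Lre_d IH (LK LD1_c6 LD2_c34 LD3_c10) (LK LD1_c3 LD2_c15 LD3_c25) Lrfl Lrfl
theorem f667990 : Led Lsl_et (LP (LK LD1_c6 LD2_c34 LD3_c10)) = v7722 :=
  Lgr Lrot185 (Lpr_dt (f65524 IH) (Lpe (K29.f65518 IH) (Lpe (K29.f65501 IH) (Lpr_gf (K29.f481678 IH) (Lpe (K33.f481692 IH) (Lpr_dt (f660997 IH) (Lpe (f661001 IH) (Lpe (f531742 IH) (Lpr_et (K34.f457734 IH) (Lpr_gf (f667988 IH) (Lpn v7722)))))))))))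
theorem f516690 : Led Lsl_ft (LP (LK LD1_c6 LD2_c53 LD3_c2)) = (LP (LK LD1_c6 LD2_c34 LD3_c10)) :=
  Lgr Lrot4 (Lpe (K29.f483026 IH) (Lpr_ff (K33.f516688 IH) (Lpr_cf (f482952 IH) (Lpn (LP (LK LD1_c6 LD2_c34 LD3_c10))))))
theorem f94635 : Led Lsl_ef (LP (LK LD1_c6 LD2_c53 LD3_c2)) = (LP (LK LD1_c3 LD2_c50 LD3_c11)) :=
  Lgr Lrot88 (Lpr_et (K33.f94632 IH) (Lpn (LP (LK LD1_c3 LD2_c50 LD3_c11))))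
theorem f667994 : Led Lsl_ff (LP (LK LD1_c6 LD2_c54 LD3_c39)) = v7722 :=
  Lgr Lrot72 (Lpr_et (f92032 IH) (Lpe (K33.f515006 IH) (Lpe (f94635 IH) (Lpr_ft (f516690 IH) (Lpr_et (f667990 IH) (Lpn v7722))))))
theorem f516545 : Led Lsl_af (LP (LK LD1_c7 LD2_c9 LD3_c32)) = (LP (LK LD1_c3 LD2_c48 LD3_c51)) :=
  Lgr Lrot117 (Lpe (K33.f467134 IH) (Lpr_at (f516535 IH) (Lpr_dt (f484751 IH) (Lpn (LP (LK LD1_c3 LD2_c48 LD3_c51))))))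
theorem f516547 : Led Lsl_at (LP (LK LD1_c7 LD2_c9 LD3_c32)) = (LP (LK LD1_c3 LD2_c48 LD3_c51)) :=
  Lgr Lrot100 (Lpr_af (f516545 IH) (Lpn (LP (LK LD1_c3 LD2_c48 LD3_c51))))
theorem f516549 : Led Lsl_af (LP (LK LD1_c3 LD2_c34 LD3_c12)) = (LP (LK LD1_c6 LD2_c54 LD3_c39)) :=
  Lgr Lrot68 (Lpr_ct (K34.f467139 IH) (Lpr_at (f516547 IH) (Lpe (f484535 IH) (Lpn (LP (LK LD1_c6 LD2_c54 LD3_c39))))))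
def v6902 : LQ := Led Lsl_gf (LP (LK LD1_c3 LD2_c34 LD3_c12))
theorem f659348 : Led Lsl_gf (LP (LK LD1_c3 LD2_c34 LD3_c12)) = v6902 :=
  Lrfl
theorem f667998 : v6902 = (LP (LK LD1_c3 LD2_c55 LD3_c54)) :=
  (Llr Lrot76 (Lpe (f659348 IH) (Lpr_af (f516549 IH) (Lpr_ff (f667994 IH) (Lpe (f667988 IH) (Lpn (LP (LK LD1_c3 LD2_c55 LD3_c54)))))))).symm
theorem f668000 : Led Lsl_gt (LP (LK LD1_c3 LD2_c55 LD3_c54)) = (LP (LK LD1_c3 LD2_c34 LD3_c12)) :=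
  Leop (Lpr_gf (f659348 IH) (Lpqs (f667998 IH) (Lpn (LP (LK LD1_c3 LD2_c55 LD3_c54)))))
theorem seed_521 : LEOK LG_g (LK LD1_c3 LD2_c55 LD3_c54) :=
  Leoe_g (LK LD1_c3 LD2_c55 LD3_c54) (f668000 IH)
theorem f667993 : Led Lsl_ef (LP (LK LD1_c6 LD2_c34 LD3_c10)) = v7722 :=
  Lgr Lrot88 (Lpr_et (f667990 IH) (Lpn v7722))
def v7099 : LQ := Led Lsl_gt (LP (LK LD1_c3 LD2_c38 LD3_c58))
theorem f660982 : Led Lsl_gt (LP (LK LD1_c3 LD2_c38 LD3_c58)) = v7099 :=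
  Lrfl
theorem f657604 : Led Lsl_ft (LP (LK LD1_c3 LD2_c38 LD3_c58)) = K46.v6669 :=
  Lgr Lrot48 (Lpr_ff (K46.f657597 IH) (Lpn K46.v6669))
theorem f517920 : Led Lsl_af (LP (LK LD1_c3 LD2_c25 LD3_c26)) = (LP (LK LD1_c3 LD2_c15 LD3_c25)) :=
  Lgr Lrot45 (Lpr_ft (K33.f517133 IH) (Lpe (K33.f517129 IH) (Lpr_ft (K47.f517918 IH) (Lpn (LP (LK LD1_c3 LD2_c15 LD3_c25))))))
theorem f657592 : Led Lsl_af (LP (LK LD1_c6 LD2_c34 LD3_c10)) = K46.v6669 :=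
  Lgr Lrot117 (Lpr_dt (f65524 IH) (Lpe (f517920 IH) (Lpr_dt (K46.f657591 IH) (Lpn K46.v6669))))
theorem f660984 : Led Lsl_gf (LP (LK LD1_c6 LD2_c34 LD3_c10)) = v7099 :=
  Lgr Lrot76 (Lpr_af (f657592 IH) (Lpe (f657604 IH) (Lpr_gt (f660982 IH) (Lpn v7099))))
theorem f511988 : Led Lsl_ft (LP (LK LD1_c7 LD2_c2 LD3_c39)) = (LP (LK LD1_c3 LD2_c30 LD3_c22)) :=
  Lre_f IH (LK LD1_c7 LD2_c2 LD3_c39) (LK LD1_c3 LD2_c30 LD3_c22) Lrfl Lrfl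
theorem f64960 : Led Lsl_ct (LP (LK LD1_c3 LD2_c30 LD3_c22)) = (LP (LK LD1_c7 LD2_c2 LD3_c32)) :=
  Lre_c IH (LK LD1_c3 LD2_c30 LD3_c22) (LK LD1_c7 LD2_c2 LD3_c32) Lrfl Lrfl
theorem f656982 : Led Lsl_ft (LP (LK LD1_c7 LD2_c2 LD3_c32)) = (LP (LK LD1_c7 LD2_c18 LD3_c21)) :=
  Lgr Lrot4 (Lpe (f64960 IH) (Lpe (f511988 IH) (Lpr_cf (K46.f656978 IH) (Lpn (LP (LK LD1_c7 LD2_c18 LD3_c21))))))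
theorem f656994 : Led Lsl_ff (LP (LK LD1_c7 LD2_c2 LD3_c32)) = (LP (LK LD1_c7 LD2_c18 LD3_c21)) :=
  Lgr Lrot3 (Lpr_ft (f656982 IH) (Lpn (LP (LK LD1_c7 LD2_c18 LD3_c21))))
theorem f97527 : Led Lsl_ct (LP (LK LD1_c13 LD2_c47 LD3_c10)) = (LP (LK LD1_c7 LD2_c17 LD3_c12)) :=
  Lre_c IH (LK LD1_c13 LD2_c47 LD3_c10) (LK LD1_c7 LD2_c17 LD3_c12) Lrfl Lrfl
theorem f64162 : Led Lsl_gt (LP (LK LD1_c6 LD2_c59 LD3_c59)) = (LP (LK LD1_c13 LD2_c16 LD3_c53)) :=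
  Lre_g IH (LK LD1_c6 LD2_c59 LD3_c59) (LK LD1_c13 LD2_c16 LD3_c53) Lrfl Lrfl
theorem f575244 : Led Lsl_bt (LP (LK LD1_c20 LD2_c41 LD3_c51)) = (LP (LK LD1_c23 LD2_c4 LD3_c4)) :=
  Lgr Lrot127 (Lpr_bf (K43.f575240 IH) (Lpn (LP (LK LD1_c23 LD2_c4 LD3_c4))))
theorem f575284 : Led Lsl_cf (LP (LK LD1_c13 LD2_c16 LD3_c53)) = (LP (LK LD1_c20 LD2_c41 LD3_c51)) :=
  Lgr Lrot58 (Lpe (f64162 IH) (Lpe (K43.f458398 IH) (Lpr_bt (K43.f458352 IH) (Lpr_gf (K28.f466569 IH) (Lpe (K3.f97533 IH) (Lpr_ct (K3.f97506 IH) (Lpe (K43.f18050 IH) (Lpe (f97527 IH) (Lpr_gf (K43.f575276 IH) (Lpe (f575244 IH) (Lpn (LP (LK LD1_c20 LD2_c41 LD3_c51)))))))))))))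
theorem f426728 : Led Lsl_ft (LP (LK LD1_c11 LD2_c41 LD3_c47)) = (LP (LK LD1_c20 LD2_c41 LD3_c51)) :=
  Lre_f IH (LK LD1_c11 LD2_c41 LD3_c47) (LK LD1_c20 LD2_c41 LD3_c51) Lrfl Lrfl
theorem f575288 : Led Lsl_ft (LP (LK LD1_c13 LD2_c16 LD3_c53)) = (LP (LK LD1_c7 LD2_c1 LD3_c32)) :=
  Lgr Lrot4 (Lpr_cf (f575284 IH) (Lpe (f426728 IH) (Lpe (K46.f426611 IH) (Lpn (LP (LK LD1_c7 LD2_c1 LD3_c32))))))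
theorem f575292 : Led Lsl_ff (LP (LK LD1_c13 LD2_c16 LD3_c53)) = (LP (LK LD1_c7 LD2_c1 LD3_c32)) :=
  Lgr Lrot3 (Lpr_ft (f575288 IH) (Lpn (LP (LK LD1_c7 LD2_c1 LD3_c32))))
theorem f589955 : Led Lsl_at (LP (LK LD1_c13 LD2_c16 LD3_c53)) = (LP (LK LD1_c7 LD2_c2 LD3_c40)) :=
  Lgr Lrot66 (Lpr_ff (f575292 IH) (Lpe (K46.f426714 IH) (Lpr_ff (K46.f589934 IH) (Lpn (LP (LK LD1_c7 LD2_c2 LD3_c40))))))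
theorem f655548 : Led Lsl_gt (LP (LK LD1_c7 LD2_c1 LD3_c32)) = (LP (LK LD1_c13 LD2_c16 LD3_c54)) :=
  Lgr Lrot5 (Lpe (f575292 IH) (Lpr_at (f589955 IH) (Lpr_gf (K46.f655546 IH) (Lpn (LP (LK LD1_c13 LD2_c16 LD3_c54))))))
theorem f136458 : Led Lsl_dt (LP (LK LD1_c3 LD2_c50 LD3_c26)) = (LP (LK LD1_c7 LD2_c41 LD3_c58)) :=
  Lre_d IH (LK LD1_c3 LD2_c50 LD3_c26) (LK LD1_c7 LD2_c41 LD3_c58) Lrfl Lrfl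
theorem f136463 : Led Lsl_gt (LP (LK LD1_c14 LD2_c30 LD3_c44)) = (LP (LK LD1_c7 LD2_c41 LD3_c58)) :=
  Lre_g IH (LK LD1_c14 LD2_c30 LD3_c44) (LK LD1_c7 LD2_c41 LD3_c58) Lrfl Lrfl
theorem f458422 : Led Lsl_et (LP (LK LD1_c22 LD2_c32 LD3_c24)) = (LP (LK LD1_c13 LD2_c16 LD3_c54)) :=
  Lre_e IH (LK LD1_c22 LD2_c32 LD3_c24) (LK LD1_c13 LD2_c16 LD3_c54) Lrfl Lrfl
theorem f656744 : Led Lsl_df (LP (LK LD1_c14 LD2_c30 LD3_c44)) = (LP (LK LD1_c22 LD2_c32 LD3_c24)) :=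
  Lgr Lrot170 (Lpr_gt (f136463 IH) (Lpe (f136458 IH) (Lpr_et (K41.f136450 IH) (Lpr_gt (K6.f12298 IH) (Lpr_dt (K8.f64340 IH) (Lpr_gt (K28.f66165 IH) (Lpe (K28.f426588 IH) (Lpr_et (K46.f426598 IH) (Lpr_gt (f655548 IH) (Lpe (f458422 IH) (Lpn (LP (LK LD1_c22 LD2_c32 LD3_c24)))))))))))))
theorem f656748 : Led Lsl_dt (LP (LK LD1_c14 LD2_c30 LD3_c44)) = (LP (LK LD1_c22 LD2_c32 LD3_c24)) :=
  Lgr Lrot42 (Lpr_df (f656744 IH) (Lpn (LP (LK LD1_c22 LD2_c32 LD3_c24))))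
theorem f64155 : Led Lsl_at (LP (LK LD1_c22 LD2_c32 LD3_c24)) = (LP (LK LD1_c13 LD2_c16 LD3_c56)) :=
  Lre_a IH (LK LD1_c22 LD2_c32 LD3_c24) (LK LD1_c13 LD2_c16 LD3_c56) Lrfl Lrfl
theorem f63699 : Led Lsl_df (LP (LK LD1_c6 LD2_c59 LD3_c61)) = (LP (LK LD1_c3 LD2_c52 LD3_c32)) :=
  Lgr Lrot38 (Lpr_dt (K3.f63687 IH) (Lpn (LP (LK LD1_c3 LD2_c52 LD3_c32))))
theorem f16039 : Led Lsl_bt (LP (LK LD1_c7 LD2_c46 LD3_c56)) = (LP (LK LD1_c3 LD2_c52 LD3_c32)) :=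
  Lre_b IH (LK LD1_c7 LD2_c46 LD3_c56) (LK LD1_c3 LD2_c52 LD3_c32) Lrfl Lrfl
theorem f64152 : Led Lsl_dt (LP (LK LD1_c13 LD2_c16 LD3_c56)) = (LP (LK LD1_c7 LD2_c46 LD3_c56)) :=
  Lgr Lrot79 (Lpe (K43.f64151 IH) (Lpr_df (f63699 IH) (Lpe (f16039 IH) (Lpn (LP (LK LD1_c7 LD2_c46 LD3_c56))))))
theorem f656752 : Led Lsl_af (LP (LK LD1_c14 LD2_c30 LD3_c44)) = (LP (LK LD1_c7 LD2_c46 LD3_c56)) :=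
  Lgr Lrot117 (Lpr_dt (f656748 IH) (Lpr_at (f64155 IH) (Lpr_dt (f64152 IH) (Lpn (LP (LK LD1_c7 LD2_c46 LD3_c56))))))
theorem f63695 : Led Lsl_bt (LP (LK LD1_c3 LD2_c52 LD3_c32)) = (LP (LK LD1_c7 LD2_c46 LD3_c56)) :=
  Lre_b IH (LK LD1_c3 LD2_c52 LD3_c32) (LK LD1_c7 LD2_c46 LD3_c56) Lrfl Lrfl
theorem f64949 : Led Lsl_bt (LP (LK LD1_c13 LD2_c21 LD3_c17)) = (LP (LK LD1_c7 LD2_c2 LD3_c38)) :=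
  Lre_b IH (LK LD1_c13 LD2_c21 LD3_c17) (LK LD1_c7 LD2_c2 LD3_c38) Lrfl Lrfl
theorem f656754 : Led Lsl_bt (LP (LK LD1_c14 LD2_c30 LD3_c44)) = (LP (LK LD1_c22 LD2_c37 LD3_c46)) :=
  Lgr Lrot62 (Lpr_af (f656752 IH) (Lpe (f63695 IH) (Lpr_af (K46.f655285 IH) (Lpe (f64949 IH) (Lpe (K46.f533050 IH) (Lpn (LP (LK LD1_c22 LD2_c37 LD3_c46))))))))
theorem f656758 : Led Lsl_bf (LP (LK LD1_c22 LD2_c32 LD3_c24)) = (LP (LK LD1_c13 LD2_c21 LD3_c8)) :=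
  Lgr Lrot93 (Lpe (f656744 IH) (Lpr_bt (f656754 IH) (Lpr_dt (K46.f533054 IH) (Lpn (LP (LK LD1_c13 LD2_c21 LD3_c8))))))
theorem f656760 : Led Lsl_bt (LP (LK LD1_c22 LD2_c32 LD3_c24)) = (LP (LK LD1_c13 LD2_c21 LD3_c8)) :=
  Lgr Lrot127 (Lpr_bf (f656758 IH) (Lpn (LP (LK LD1_c13 LD2_c21 LD3_c8))))
theorem f64163 : Led Lsl_at (LP (LK LD1_c13 LD2_c16 LD3_c56)) = (LP (LK LD1_c22 LD2_c32 LD3_c24)) :=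
  Lre_a IH (LK LD1_c13 LD2_c16 LD3_c56) (LK LD1_c22 LD2_c32 LD3_c24) Lrfl Lrfl
theorem f488716 : Led Lsl_at (LP (LK LD1_c13 LD2_c21 LD3_c8)) = (LP (LK LD1_c7 LD2_c2 LD3_c29)) :=
  Lre_a IH (LK LD1_c13 LD2_c21 LD3_c8) (LK LD1_c7 LD2_c2 LD3_c29) Lrfl Lrfl
theorem f488718 : Led Lsl_bt (LP (LK LD1_c7 LD2_c2 LD3_c29)) = (LP (LK LD1_c3 LD2_c30 LD3_c22)) :=
  Lre_b IH (LK LD1_c7 LD2_c2 LD3_c29) (LK LD1_c3 LD2_c30 LD3_c22) Lrfl Lrfl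
theorem f656762 : Led Lsl_af (LP (LK LD1_c6 LD2_c59 LD3_c61)) = (LP (LK LD1_c3 LD2_c30 LD3_c22)) :=
  Lgr Lrot36 (Lpr_bt (K43.f64151 IH) (Lpr_at (f64163 IH) (Lpr_bt (f656760 IH) (Lpr_at (f488716 IH) (Lpr_bt (f488718 IH) (Lpn (LP (LK LD1_c3 LD2_c30 LD3_c22))))))))
theorem f64959 : Led Lsl_ct (LP (LK LD1_c7 LD2_c2 LD3_c32)) = (LP (LK LD1_c3 LD2_c30 LD3_c22)) :=
  Lre_c IH (LK LD1_c7 LD2_c2 LD3_c32) (LK LD1_c3 LD2_c30 LD3_c22) Lrfl Lrfl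
theorem f656764 : Led Lsl_at (LP (LK LD1_c6 LD2_c52 LD3_c7)) = (LP (LK LD1_c7 LD2_c2 LD3_c32)) :=
  Lgr Lrot107 (Lpr_cf (K43.f458360 IH) (Lpr_af (f656762 IH) (Lpe (f64959 IH) (Lpn (LP (LK LD1_c7 LD2_c2 LD3_c32))))))
theorem f656766 : Led Lsl_af (LP (LK LD1_c6 LD2_c52 LD3_c7)) = (LP (LK LD1_c7 LD2_c2 LD3_c32)) :=
  Lgr Lrot0 (Lpr_at (f656764 IH) (Lpn (LP (LK LD1_c7 LD2_c2 LD3_c32))))
theorem f656693 : Led Lsl_ft (LP (LK LD1_c3 LD2_c39 LD3_c10)) = (LP (LK LD1_c3 LD2_c24 LD3_c52)) :=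
  Lgr Lrot48 (Lpr_ff (f656689 IH) (Lpn (LP (LK LD1_c3 LD2_c24 LD3_c52))))
theorem f455694 : Led Lsl_bt (LP (LK LD1_c7 LD2_c18 LD3_c43)) = (LP (LK LD1_c3 LD2_c39 LD3_c10)) :=
  Lre_b IH (LK LD1_c7 LD2_c18 LD3_c43) (LK LD1_c3 LD2_c39 LD3_c10) Lrfl Lrfl
theorem f656703 : Led Lsl_ff (LP (LK LD1_c7 LD2_c18 LD3_c43)) = (LP (LK LD1_c6 LD2_c52 LD3_c7)) :=
  Lgr Lrot25 (Lpr_bt (f455694 IH) (Lpr_ft (f656693 IH) (Lpr_bt (K43.f458388 IH) (Lpn (LP (LK LD1_c6 LD2_c52 LD3_c7))))))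
theorem f657000 : Led Lsl_at (LP (LK LD1_c7 LD2_c18 LD3_c43)) = (LP (LK LD1_c7 LD2_c18 LD3_c21)) :=
  Lgr Lrot66 (Lpr_ff (f656703 IH) (Lpr_af (f656766 IH) (Lpr_ff (f656994 IH) (Lpn (LP (LK LD1_c7 LD2_c18 LD3_c21))))))
theorem f657004 : Led Lsl_gt (LP (LK LD1_c6 LD2_c52 LD3_c7)) = (LP (LK LD1_c3 LD2_c38 LD3_c59)) :=
  Lgr Lrot5 (Lpe (f656703 IH) (Lpr_at (f657000 IH) (Lpe (K46.f481483 IH) (Lpn (LP (LK LD1_c3 LD2_c38 LD3_c59))))))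
theorem f458393 : Led Lsl_et (LP (LK LD1_c3 LD2_c24 LD3_c49)) = (LP (LK LD1_c6 LD2_c52 LD3_c7)) :=
  Lre_e IH (LK LD1_c3 LD2_c24 LD3_c49) (LK LD1_c6 LD2_c52 LD3_c7) Lrfl Lrfl
theorem f660988 : Led Lsl_dt (LP (LK LD1_c7 LD2_c45 LD3_c45)) = v7099 :=
  Lgr Lrot37 (Lpr_et (K33.f464831 IH) (Lpe (K29.f464799 IH) (Lpe (K29.f464850 IH) (Lpe (K29.f477215 IH) (Lpe (K29.f458436 IH) (Lpr_et (f458393 IH) (Lpr_gt (f657004 IH) (Lpe (K30.f481698 IH) (Lpr_dt (K29.f481689 IH) (Lpr_gt (f660982 IH) (Lpn v7099)))))))))))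
theorem f660993 : Led Lsl_ct (LP (LK LD1_c3 LD2_c47 LD3_c57)) = v7099 :=
  Lgr Lrot7 (Lpr_df (K34.f481923 IH) (Lpe (K33.f458753 IH) (Lpe (K29.f457179 IH) (Lpe (K29.f481878 IH) (Lpe (K29.f115966 IH) (Lpr_gt (K29.f94337 IH) (Lpr_dt (K46.f657591 IH) (Lpe (K46.f657599 IH) (Lpr_dt (f660988 IH) (Lpn v7099))))))))))
theorem f660995 : Led Lsl_ff (LP (LK LD1_c7 LD2_c45 LD3_c45)) = v7099 :=
  Lgr Lrot23 (Lpr_ct (K32.f481978 IH) (Lpr_ft (K34.f492031 IH) (Lpr_ct (f660993 IH) (Lpn v7099))))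
theorem f492305 : Led Lsl_at (LP (LK LD1_c3 LD2_c51 LD3_c59)) = (LP (LK LD1_c3 LD2_c27 LD3_c34)) :=
  Lgr Lrot100 (Lpr_af (K33.f492303 IH) (Lpn (LP (LK LD1_c3 LD2_c27 LD3_c34))))
theorem f491978 : Led Lsl_ft (LP (LK LD1_c3 LD2_c27 LD3_c34)) = (LP (LK LD1_c3 LD2_c27 LD3_c33)) :=
  Lgr Lrot4 (Lpr_cf (K24.f457785 IH) (Lpr_ff (K33.f491972 IH) (Lpe (K29.f457890 IH) (Lpn (LP (LK LD1_c3 LD2_c27 LD3_c33))))))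
theorem f491906 : Led Lsl_af (LP (LK LD1_c3 LD2_c51 LD3_c58)) = (LP (LK LD1_c3 LD2_c27 LD3_c33)) :=
  Lgr Lrot68 (Lpr_ct (K33.f491900 IH) (Lpe (K33.f463976 IH) (Lpr_ct (K29.f457783 IH) (Lpn (LP (LK LD1_c3 LD2_c27 LD3_c33))))))
theorem f493171 : Led Lsl_ff (LP (LK LD1_c3 LD2_c51 LD3_c59)) = (LP (LK LD1_c3 LD2_c51 LD3_c58)) :=
  Lgr Lrot30 (Lpr_at (f492305 IH) (Lpr_ft (f491978 IH) (Lpe (f491906 IH) (Lpn (LP (LK LD1_c3 LD2_c51 LD3_c58))))))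
theorem f660996 : Led Lsl_et (LP (LK LD1_c3 LD2_c47 LD3_c55)) = v7099 :=
  Lgr Lrot69 (Lpe (K32.f491774 IH) (Lpe (K28.f464811 IH) (Lpr_ff (f493171 IH) (Lpe (K33.f464831 IH) (Lpr_ff (f660995 IH) (Lpn v7099))))))
def v6716 : LQ := Led Lsl_gt (LP (LK LD1_c3 LD2_c27 LD3_c33))
theorem f657990 : Led Lsl_gt (LP (LK LD1_c3 LD2_c27 LD3_c33)) = v6716 :=
  Lrfl
theorem f657992 : Led Lsl_gf (LP (LK LD1_c3 LD2_c51 LD3_c59)) = v6716 :=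
  Lgr Lrot76 (Lpr_af (K33.f492303 IH) (Lpr_ff (K33.f491968 IH) (Lpr_gt (f657990 IH) (Lpn v6716))))
theorem f511762 : Led Lsl_et (LP (LK LD1_c3 LD2_c39 LD3_c48)) = (LP (LK LD1_c1 LD2_c46 LD3_c49)) :=
  Lre_e IH (LK LD1_c3 LD2_c39 LD3_c48) (LK LD1_c1 LD2_c46 LD3_c49) Lrfl Lrfl
theorem f657995 : Led Lsl_dt (LP (LK LD1_c3 LD2_c39 LD3_c48)) = v6716 :=
  Lgr Lrot56 (Lpr_et (f511762 IH) (Lpr_gt (K34.f523631 IH) (Lpqs (K34.f528007 IH) (Lpe (K34.f508595 IH) (Lpr_dt (K3.f98647 IH) (Lpe (K3.f103560 IH) (Lpe (K28.f103570 IH) (Lpr_et (K5.f103571 IH) (Lpr_gt (K28.f463693 IH) (Lpr_dt (K29.f457957 IH) (Lpr_gt (f657990 IH) (Lpn v6716))))))))))))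
theorem f458457 : Led Lsl_dt (LP (LK LD1_c3 LD2_c31 LD3_c13)) = (LP (LK LD1_c7 LD2_c4 LD3_c14)) :=
  Lre_d IH (LK LD1_c3 LD2_c31 LD3_c13) (LK LD1_c7 LD2_c4 LD3_c14) Lrfl Lrfl
theorem f458453 : Led Lsl_gt (LP (LK LD1_c13 LD2_c24 LD3_c15)) = (LP (LK LD1_c7 LD2_c4 LD3_c14)) :=
  Lre_g IH (LK LD1_c13 LD2_c24 LD3_c15) (LK LD1_c7 LD2_c4 LD3_c14) Lrfl Lrfl
theorem f668001 : Led Lsl_df (LP (LK LD1_c13 LD2_c24 LD3_c15)) = v7722 :=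
  Lgr Lrot170 (Lpr_gt (f458453 IH) (Lpe (f458457 IH) (Lpe (K28.f458475 IH) (Lpe (K47.f511743 IH) (Lpr_dt (f657995 IH) (Lpe (f657992 IH) (Lpe (K33.f464046 IH) (Lpr_et (f660996 IH) (Lpe (f660984 IH) (Lpr_ef (f667993 IH) (Lpn v7722)))))))))))
theorem f667995 : Led Lsl_at (LP (LK LD1_c7 LD2_c9 LD3_c35)) = v7722 :=
  Lgr Lrot66 (Lpe (K46.f516551 IH) (Lpr_af (f516549 IH) (Lpr_ff (f667994 IH) (Lpn v7722))))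
theorem f522514 : Led Lsl_bt (LP (LK LD1_c7 LD2_c9 LD3_c35)) = (LP (LK LD1_c3 LD2_c34 LD3_c17)) :=
  Lre_b IH (LK LD1_c7 LD2_c9 LD3_c35) (LK LD1_c3 LD2_c34 LD3_c17) Lrfl Lrfl
theorem f467574 : Led Lsl_bt (LP (LK LD1_c3 LD2_c37 LD3_c36)) = (LP (LK LD1_c7 LD2_c15 LD3_c35)) :=
  Lre_b IH (LK LD1_c3 LD2_c37 LD3_c36) (LK LD1_c7 LD2_c15 LD3_c35) Lrfl Lrfl
theorem f522519 : Led Lsl_df (LP (LK LD1_c7 LD2_c9 LD3_c35)) = (LP (LK LD1_c7 LD2_c15 LD3_c35)) :=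
  Lgr Lrot12 (Lpr_bt (f522514 IH) (Lpr_dt (K33.f522507 IH) (Lpr_bt (f467574 IH) (Lpn (LP (LK LD1_c7 LD2_c15 LD3_c35))))))
theorem f668002 : Led Lsl_at (LP (LK LD1_c13 LD2_c24 LD3_c15)) = (LP (LK LD1_c7 LD2_c15 LD3_c35)) :=
  Lgr Lrot51 (Lpr_df (f668001 IH) (Lpe (f667995 IH) (Lpr_df (f522519 IH) (Lpn (LP (LK LD1_c7 LD2_c15 LD3_c35))))))
theorem f668003 : Led Lsl_at (LP (LK LD1_c13 LD2_c24 LD3_c15)) = (LP (LK LD1_c7 LD2_c15 LD3_c35)) :=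
  Leop (Lpe (f668002 IH) (Lpn (LP (LK LD1_c13 LD2_c24 LD3_c15))))
theorem seed_522 : LEOK LG_a (LK LD1_c13 LD2_c24 LD3_c15) :=
  Leoe_a (LK LD1_c13 LD2_c24 LD3_c15) (f668003 IH)
def v7727 : LQ := Led Lsl_gf (LP (LK LD1_c3 LD2_c55 LD3_c58))
theorem f668034 : Led Lsl_gf (LP (LK LD1_c3 LD2_c55 LD3_c58)) = v7727 :=
  Lrfl
theorem f470934 : Led Lsl_dt (LP (LK LD1_c3 LD2_c55 LD3_c58)) = (LP (LK LD1_c7 LD2_c53 LD3_c38)) :=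
  Lre_d IH (LK LD1_c3 LD2_c55 LD3_c58) (LK LD1_c7 LD2_c53 LD3_c38) Lrfl Lrfl
def v7172 : LQ := Led Lsl_dt (LP (LK LD1_c3 LD2_c40 LD3_c58))
theorem f661678 : Led Lsl_dt (LP (LK LD1_c3 LD2_c40 LD3_c58)) = v7172 :=
  Lrfl
theorem f108791 : Led Lsl_et (LP (LK LD1_c3 LD2_c40 LD3_c58)) = (LP (LK LD1_c1 LD2_c47 LD3_c25)) :=
  Lre_e IH (LK LD1_c3 LD2_c40 LD3_c58) (LK LD1_c1 LD2_c47 LD3_c25) Lrfl Lrfl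
theorem f470933 : Led Lsl_et (LP (LK LD1_c3 LD2_c55 LD3_c58)) = (LP (LK LD1_c1 LD2_c54 LD3_c37)) :=
  Lre_e IH (LK LD1_c3 LD2_c55 LD3_c58) (LK LD1_c1 LD2_c54 LD3_c37) Lrfl Lrfl
theorem f661681 : Led Lsl_gt (LP (LK LD1_c7 LD2_c53 LD3_c38)) = v7172 :=
  Lgr Lrot112 (Lpe (f470934 IH) (Lpr_et (f470933 IH) (Lpr_gf (K29.f470920 IH) (Lpe (K3.f91872 IH) (Lpr_dt (K5.f14641 IH) (Lpr_gf (K28.f102496 IH) (Lpe (K35.f19160 IH) (Lpr_gf (K4.f108782 IH) (Lpe (f108791 IH) (Lpr_dt (f661678 IH) (Lpn v7172)))))))))))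
theorem f668038 : Led Lsl_et (LP (LK LD1_c6 LD2_c57 LD3_c52)) = v7727 :=
  Lgr Lrot121 (Lpe (K30.f491716 IH) (Lpe (K30.f441546 IH) (Lpe (K6.f91143 IH) (Lpr_et (K29.f91142 IH) (Lpr_gf (K4.f108782 IH) (Lpe (f108791 IH) (Lpr_dt (f661678 IH) (Lpe (f661681 IH) (Lpe (f470934 IH) (Lpr_gf (f668034 IH) (Lpn v7727)))))))))))
theorem f668039 : Led Lsl_ef (LP (LK LD1_c6 LD2_c57 LD3_c52)) = v7727 :=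
  Lgr Lrot88 (Lpr_et (f668038 IH) (Lpn v7727))
def v7323 : LQ := Led Lsl_ct (LP (LK LD1_c3 LD2_c45 LD3_c2))
theorem f664560 : Led Lsl_ct (LP (LK LD1_c3 LD2_c45 LD3_c2)) = v7323 :=
  Lrfl
theorem f664565 : Led Lsl_ff (LP (LK LD1_c6 LD2_c57 LD3_c52)) = v7323 :=
  Lgr Lrot23 (Lpe (f491728 IH) (Lpr_ft (f526754 IH) (Lpr_ct (f664560 IH) (Lpn v7323))))
theorem f664570 : Led Lsl_ft (LP (LK LD1_c6 LD2_c57 LD3_c52)) = v7323 :=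
  Lgr Lrot48 (Lpr_ff (f664565 IH) (Lpn v7323))
theorem f664564 : Led Lsl_ef (LP (LK LD1_c3 LD2_c55 LD3_c50)) = v7323 :=
  Lgr Lrot28 (Lpe (K29.f482320 IH) (Lpr_et (K28.f124893 IH) (Lpr_ct (f664560 IH) (Lpn v7323))))
theorem f668040 : Led Lsl_ft (LP (LK LD1_c6 LD2_c54 LD3_c61)) = v7727 :=
  Lgr Lrot86 (Lpe (K33.f481717 IH) (Lpr_ff (K35.f524205 IH) (Lpr_ef (f664564 IH) (Lpe (f664570 IH) (Lpr_ef (f668039 IH) (Lpn v7727))))))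
theorem f481752 : Led Lsl_bf (LP (LK LD1_c6 LD2_c54 LD3_c61)) = (LP (LK LD1_c7 LD2_c39 LD3_c48)) :=
  Lgr Lrot24 (Lpr_bt (K33.f481748 IH) (Lpn (LP (LK LD1_c7 LD2_c39 LD3_c48))))
theorem f491908 : Led Lsl_ct (LP (LK LD1_c7 LD2_c45 LD3_c43)) = (LP (LK LD1_c14 LD2_c38 LD3_c15)) :=
  Lre_c IH (LK LD1_c7 LD2_c45 LD3_c43) (LK LD1_c14 LD2_c38 LD3_c15) Lrfl Lrfl
theorem f129878 : Led Lsl_bt (LP (LK LD1_c1 LD2_c53 LD3_c14)) = (LP (LK LD1_c3 LD2_c53 LD3_c22)) :=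
  Lre_b IH (LK LD1_c1 LD2_c53 LD3_c14) (LK LD1_c3 LD2_c53 LD3_c22) Lrfl Lrfl
theorem f129868 : Led Lsl_gt (LP (LK LD1_c3 LD2_c53 LD3_c22)) = (LP (LK LD1_c7 LD2_c48 LD3_c23)) :=
  Lre_g IH (LK LD1_c3 LD2_c53 LD3_c22) (LK LD1_c7 LD2_c48 LD3_c23) Lrfl Lrfl
theorem f458094 : Led Lsl_bt (LP (LK LD1_c14 LD2_c43 LD3_c52)) = (LP (LK LD1_c7 LD2_c48 LD3_c23)) :=
  Lre_b IH (LK LD1_c14 LD2_c43 LD3_c52) (LK LD1_c7 LD2_c48 LD3_c23) Lrfl Lrfl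
theorem f535466 : Led Lsl_cf (LP (LK LD1_c14 LD2_c48 LD3_c28)) = (LP (LK LD1_c14 LD2_c43 LD3_c52)) :=
  Lgr Lrot160 (Lpr_gt (K40.f535460 IH) (Lpe (f491908 IH) (Lpr_bt (K37.f463982 IH) (Lpe (K46.f491898 IH) (Lpr_ct (K29.f458085 IH) (Lpr_gt (K30.f458086 IH) (Lpe (K29.f129658 IH) (Lpr_bt (f129878 IH) (Lpr_gt (f129868 IH) (Lpe (f458094 IH) (Lpn (LP (LK LD1_c14 LD2_c43 LD3_c52)))))))))))))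
theorem f535474 : Led Lsl_et (LP (LK LD1_c14 LD2_c26 LD3_c1)) = (LP (LK LD1_c14 LD2_c43 LD3_c52)) :=
  Lgr Lrot158 (Lpe (K35.f524902 IH) (Lpe (K34.f477122 IH) (Lpr_cf (f535466 IH) (Lpn (LP (LK LD1_c14 LD2_c43 LD3_c52))))))
theorem f535484 : Led Lsl_ef (LP (LK LD1_c14 LD2_c26 LD3_c1)) = (LP (LK LD1_c14 LD2_c43 LD3_c52)) :=
  Lgr Lrot88 (Lpr_et (f535474 IH) (Lpn (LP (LK LD1_c14 LD2_c43 LD3_c52))))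
theorem f89801 : Led Lsl_bt (LP (LK LD1_c14 LD2_c26 LD3_c1)) = (LP (LK LD1_c7 LD2_c39 LD3_c31)) :=
  Lre_b IH (LK LD1_c14 LD2_c26 LD3_c1) (LK LD1_c7 LD2_c39 LD3_c31) Lrfl Lrfl
theorem f535468 : Led Lsl_bt (LP (LK LD1_c7 LD2_c48 LD3_c23)) = (LP (LK LD1_c14 LD2_c43 LD3_c52)) :=
  Lre_b IH (LK LD1_c7 LD2_c48 LD3_c23) (LK LD1_c14 LD2_c43 LD3_c52) Lrfl Lrfl
theorem f535486 : Led Lsl_et (LP (LK LD1_c7 LD2_c39 LD3_c31)) = (LP (LK LD1_c7 LD2_c48 LD3_c23)) :=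
  Lgr Lrot74 (Lpe (f89801 IH) (Lpr_ef (f535484 IH) (Lpe (f535468 IH) (Lpn (LP (LK LD1_c7 LD2_c48 LD3_c23))))))
theorem f458097 : Led Lsl_ct (LP (LK LD1_c7 LD2_c48 LD3_c23)) = (LP (LK LD1_c14 LD2_c43 LD3_c53)) :=
  Lre_c IH (LK LD1_c7 LD2_c48 LD3_c23) (LK LD1_c14 LD2_c43 LD3_c53) Lrfl Lrfl
theorem f535490 : Led Lsl_ef (LP (LK LD1_c13 LD2_c28 LD3_c19)) = (LP (LK LD1_c14 LD2_c43 LD3_c53)) :=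
  Lgr Lrot28 (Lpr_ct (K35.f524727 IH) (Lpr_et (f535486 IH) (Lpr_ct (f458097 IH) (Lpn (LP (LK LD1_c14 LD2_c43 LD3_c53))))))
theorem f535501 : Led Lsl_et (LP (LK LD1_c13 LD2_c28 LD3_c19)) = (LP (LK LD1_c14 LD2_c43 LD3_c53)) :=
  Lgr Lrot87 (Lpr_ef (f535490 IH) (Lpn (LP (LK LD1_c14 LD2_c43 LD3_c53))))
theorem f481188 : Led Lsl_at (LP (LK LD1_c7 LD2_c6 LD3_c36)) = (LP (LK LD1_c13 LD2_c28 LD3_c19)) :=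
  Lre_a IH (LK LD1_c7 LD2_c6 LD3_c36) (LK LD1_c13 LD2_c28 LD3_c19) Lrfl Lrfl
theorem f535503 : Led Lsl_af (LP (LK LD1_c13 LD2_c28 LD3_c21)) = (LP (LK LD1_c14 LD2_c43 LD3_c53)) :=
  Lgr Lrot50 (Lpr_et (K33.f481134 IH) (Lpr_at (f481188 IH) (Lpr_et (f535501 IH) (Lpn (LP (LK LD1_c14 LD2_c43 LD3_c53))))))
theorem f481184 : Led Lsl_cf (LP (LK LD1_c7 LD2_c39 LD3_c48)) = (LP (LK LD1_c13 LD2_c28 LD3_c21)) :=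
  Lgr Lrot11 (Lpr_ct (K33.f481135 IH) (Lpn (LP (LK LD1_c13 LD2_c28 LD3_c21))))
theorem f535509 : Led Lsl_at (LP (LK LD1_c7 LD2_c39 LD3_c48)) = (LP (LK LD1_c7 LD2_c48 LD3_c23)) :=
  Lgr Lrot107 (Lpr_cf (f481184 IH) (Lpr_af (f535503 IH) (Lpe (f458097 IH) (Lpn (LP (LK LD1_c7 LD2_c48 LD3_c23))))))
theorem f129872 : Led Lsl_gt (LP (LK LD1_c7 LD2_c48 LD3_c24)) = (LP (LK LD1_c3 LD2_c53 LD3_c22)) :=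
  Lre_g IH (LK LD1_c7 LD2_c48 LD3_c24) (LK LD1_c3 LD2_c53 LD3_c22) Lrfl Lrfl
theorem f535511 : Led Lsl_ff (LP (LK LD1_c7 LD2_c39 LD3_c48)) = (LP (LK LD1_c7 LD2_c48 LD3_c24)) :=
  Lgr Lrot52 (Lpr_at (f535509 IH) (Lpe (f129868 IH) (Lpe (f129872 IH) (Lpn (LP (LK LD1_c7 LD2_c48 LD3_c24))))))
theorem f668043 : Led Lsl_bf (LP (LK LD1_c7 LD2_c48 LD3_c24)) = v7727 :=
  Lgr Lrot61 (Lpe (f535511 IH) (Lpe (f481752 IH) (Lpr_ft (f668040 IH) (Lpn v7727))))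
theorem f475885 : Led Lsl_dt (LP (LK LD1_c7 LD2_c48 LD3_c24)) = (LP (LK LD1_c14 LD2_c43 LD3_c55)) :=
  Lre_d IH (LK LD1_c7 LD2_c48 LD3_c24) (LK LD1_c14 LD2_c43 LD3_c55) Lrfl Lrfl
theorem f480721 : Led Lsl_et (LP (LK LD1_c6 LD2_c57 LD3_c36)) = (LP (LK LD1_c3 LD2_c27 LD3_c40)) :=
  Lre_e IH (LK LD1_c6 LD2_c57 LD3_c36) (LK LD1_c3 LD2_c27 LD3_c40) Lrfl Lrfl
theorem f466231 : Led Lsl_et (LP (LK LD1_c7 LD2_c4 LD3_c22)) = (LP (LK LD1_c3 LD2_c31 LD3_c18)) :=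
  Lre_e IH (LK LD1_c7 LD2_c4 LD3_c22) (LK LD1_c3 LD2_c31 LD3_c18) Lrfl Lrfl
theorem f466232 : Led Lsl_dt (LP (LK LD1_c7 LD2_c4 LD3_c22)) = (LP (LK LD1_c13 LD2_c24 LD3_c29)) :=
  Lre_d IH (LK LD1_c7 LD2_c4 LD3_c22) (LK LD1_c13 LD2_c24 LD3_c29) Lrfl Lrfl
theorem f480722 : Led Lsl_gf (LP (LK LD1_c7 LD2_c53 LD3_c13)) = (LP (LK LD1_c13 LD2_c24 LD3_c29)) :=
  Lgr Lrot145 (Lpe (K35.f439090 IH) (Lpr_et (K29.f480712 IH) (Lpr_gt (K29.f468980 IH) (Lpr_dt (K28.f455123 IH) (Lpe (K28.f468957 IH) (Lpe (K28.f98758 IH) (Lpr_et (K28.f98761 IH) (Lpr_gt (K28.f466225 IH) (Lpe (f466231 IH) (Lpr_dt (f466232 IH) (Lpn (LP (LK LD1_c13 LD2_c24 LD3_c29)))))))))))))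
theorem f525811 : Led Lsl_gf (LP (LK LD1_c7 LD2_c4 LD3_c22)) = (LP (LK LD1_c6 LD2_c53 LD3_c30)) :=
  Lgr Lrot138 (Lpr_dt (f466232 IH) (Lpe (f480722 IH) (Lpe (K35.f439090 IH) (Lpr_et (K29.f480712 IH) (Lpr_gt (K29.f468980 IH) (Lpe (f480721 IH) (Lpr_dt (f525807 IH) (Lpr_gt (K35.f95123 IH) (Lpe (K35.f95039 IH) (Lpr_et (K46.f95048 IH) (Lpn (LP (LK LD1_c6 LD2_c53 LD3_c30)))))))))))))
theorem f525813 : Led Lsl_et (LP (LK LD1_c3 LD2_c31 LD3_c18)) = (LP (LK LD1_c7 LD2_c4 LD3_c22)) :=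
  Lre_e IH (LK LD1_c3 LD2_c31 LD3_c18) (LK LD1_c7 LD2_c4 LD3_c22) Lrfl Lrfl
theorem f466228 : Led Lsl_dt (LP (LK LD1_c3 LD2_c31 LD3_c18)) = (LP (LK LD1_c7 LD2_c4 LD3_c21)) :=
  Lre_d IH (LK LD1_c3 LD2_c31 LD3_c18) (LK LD1_c7 LD2_c4 LD3_c21) Lrfl Lrfl
theorem f464561 : Led Lsl_gt (LP (LK LD1_c13 LD2_c24 LD3_c20)) = (LP (LK LD1_c7 LD2_c4 LD3_c17)) :=
  Lre_g IH (LK LD1_c13 LD2_c24 LD3_c20) (LK LD1_c7 LD2_c4 LD3_c17) Lrfl Lrfl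
theorem f654726 : Led Lsl_gf (LP (LK LD1_c13 LD2_c24 LD3_c20)) = (LP (LK LD1_c7 LD2_c4 LD3_c21)) :=
  Lgr Lrot47 (Lpr_gt (f464561 IH) (Lpr_af (K46.f654703 IH) (Lpr_ff (K46.f654715 IH) (Lpn (LP (LK LD1_c7 LD2_c4 LD3_c21))))))
theorem f668041 : Led Lsl_df (LP (LK LD1_c13 LD2_c24 LD3_c20)) = v7727 :=
  Lgr Lrot168 (Lpr_gf (f654726 IH) (Lpe (f466228 IH) (Lpr_et (f525813 IH) (Lpr_gf (f525811 IH) (Lpe (K46.f95048 IH) (Lpr_dt (K35.f95039 IH) (Lpe (K35.f95123 IH) (Lpe (f525807 IH) (Lpr_gf (f491734 IH) (Lpr_ef (f668039 IH) (Lpn v7727)))))))))))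
theorem f668042 : Led Lsl_dt (LP (LK LD1_c13 LD2_c24 LD3_c20)) = v7727 :=
  Lgr Lrot42 (Lpr_df (f668041 IH) (Lpn v7727))
theorem f668045 : Led Lsl_bt (LP (LK LD1_c14 LD2_c43 LD3_c55)) = (LP (LK LD1_c13 LD2_c24 LD3_c20)) :=
  Lgr Lrot95 (Lpe (f475885 IH) (Lpr_bf (f668043 IH) (Lpe (f668042 IH) (Lpn (LP (LK LD1_c13 LD2_c24 LD3_c20))))))
theorem f668046 : Led Lsl_bt (LP (LK LD1_c14 LD2_c43 LD3_c55)) = (LP (LK LD1_c13 LD2_c24 LD3_c20)) :=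
  Leop (Lpe (f668045 IH) (Lpn (LP (LK LD1_c14 LD2_c43 LD3_c55))))
theorem seed_523 : LEOK LG_b (LK LD1_c14 LD2_c43 LD3_c55) :=
  Leoe_b (LK LD1_c14 LD2_c43 LD3_c55) (f668046 IH)
theorem f129874 : Led Lsl_at (LP (LK LD1_c7 LD2_c48 LD3_c25)) = (LP (LK LD1_c3 LD2_c53 LD3_c22)) :=
  Lre_a IH (LK LD1_c7 LD2_c48 LD3_c25) (LK LD1_c3 LD2_c53 LD3_c22) Lrfl Lrfl
theorem f129875 : Led Lsl_at (LP (LK LD1_c3 LD2_c48 LD3_c2)) = (LP (LK LD1_c7 LD2_c37 LD3_c10)) :=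
  Lre_a IH (LK LD1_c3 LD2_c48 LD3_c2) (LK LD1_c7 LD2_c37 LD3_c10) Lrfl Lrfl
theorem f129876 : Led Lsl_ef (LP (LK LD1_c7 LD2_c48 LD3_c25)) = (LP (LK LD1_c7 LD2_c37 LD3_c10)) :=
  Lgr Lrot20 (Lpr_at (f129874 IH) (Lpr_et (K34.f129866 IH) (Lpr_at (f129875 IH) (Lpn (LP (LK LD1_c7 LD2_c37 LD3_c10))))))
theorem f129885 : Led Lsl_ct (LP (LK LD1_c7 LD2_c48 LD3_c25)) = (LP (LK LD1_c14 LD2_c43 LD3_c12)) :=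
  Lre_c IH (LK LD1_c7 LD2_c48 LD3_c25) (LK LD1_c14 LD2_c43 LD3_c12) Lrfl Lrfl
theorem f461998 : Led Lsl_et (LP (LK LD1_c14 LD2_c43 LD3_c12)) = (LP (LK LD1_c13 LD2_c40 LD3_c44)) :=
  Lgr Lrot158 (Lpe (f129885 IH) (Lpr_ef (f129876 IH) (Lpr_cf (K34.f461990 IH) (Lpn (LP (LK LD1_c13 LD2_c40 LD3_c44))))))
theorem f475810 : Led Lsl_bt (LP (LK LD1_c13 LD2_c40 LD3_c58)) = (LP (LK LD1_c14 LD2_c43 LD3_c12)) :=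
  Lgr Lrot119 (Lpe (K43.f475809 IH) (Lpr_bf (K34.f475801 IH) (Lpe (f461998 IH) (Lpn (LP (LK LD1_c14 LD2_c43 LD3_c12))))))
theorem f129888 : Led Lsl_ct (LP (LK LD1_c14 LD2_c43 LD3_c12)) = (LP (LK LD1_c7 LD2_c48 LD3_c25)) :=
  Lre_c IH (LK LD1_c14 LD2_c43 LD3_c12) (LK LD1_c7 LD2_c48 LD3_c25) Lrfl Lrfl
theorem f472517 : Led Lsl_bt (LP (LK LD1_c6 LD2_c56 LD3_c50)) = (LP (LK LD1_c3 LD2_c27 LD3_c24)) :=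
  Lre_b IH (LK LD1_c6 LD2_c56 LD3_c50) (LK LD1_c3 LD2_c27 LD3_c24) Lrfl Lrfl
theorem f63050 : Led Lsl_bt (LP (LK LD1_c3 LD2_c52 LD3_c38)) = (LP (LK LD1_c7 LD2_c47 LD3_c4)) :=
  Lre_b IH (LK LD1_c3 LD2_c52 LD3_c38) (LK LD1_c7 LD2_c47 LD3_c4) Lrfl Lrfl
theorem f458044 : Led Lsl_at (LP (LK LD1_c7 LD2_c47 LD3_c4)) = (LP (LK LD1_c14 LD2_c41 LD3_c14)) :=
  Lre_a IH (LK LD1_c7 LD2_c47 LD3_c4) (LK LD1_c14 LD2_c41 LD3_c14) Lrfl Lrfl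
theorem f473736 : Led Lsl_bf (LP (LK LD1_c13 LD2_c11 LD3_c18)) = (LP (LK LD1_c14 LD2_c41 LD3_c14)) :=
  Lgr Lrot81 (Lpr_at (K43.f473735 IH) (Lpr_bt (f472517 IH) (Lpr_at (K29.f473730 IH) (Lpr_bt (f63050 IH) (Lpr_at (f458044 IH) (Lpn (LP (LK LD1_c14 LD2_c41 LD3_c14))))))))
theorem f458042 : Led Lsl_ct (LP (LK LD1_c7 LD2_c47 LD3_c19)) = (LP (LK LD1_c14 LD2_c41 LD3_c14)) :=
  Lre_c IH (LK LD1_c7 LD2_c47 LD3_c19) (LK LD1_c14 LD2_c41 LD3_c14) Lrfl Lrfl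
theorem f475876 : Led Lsl_bt (LP (LK LD1_c7 LD2_c48 LD3_c25)) = (LP (LK LD1_c7 LD2_c47 LD3_c19)) :=
  Lgr Lrot128 (Lpe (f129888 IH) (Lpe (f475810 IH) (Lpr_cf (K43.f475872 IH) (Lpr_bf (f473736 IH) (Lpe (f458042 IH) (Lpn (LP (LK LD1_c7 LD2_c47 LD3_c19))))))))
theorem f475653 : Led Lsl_et (LP (LK LD1_c3 LD2_c52 LD3_c48)) = (LP (LK LD1_c7 LD2_c47 LD3_c19)) :=
  Lre_e IH (LK LD1_c3 LD2_c52 LD3_c48) (LK LD1_c7 LD2_c47 LD3_c19) Lrfl Lrfl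
theorem f64684 : Led Lsl_bt (LP (LK LD1_c7 LD2_c47 LD3_c54)) = (LP (LK LD1_c3 LD2_c53 LD3_c1)) :=
  Lre_b IH (LK LD1_c7 LD2_c47 LD3_c54) (LK LD1_c3 LD2_c53 LD3_c1) Lrfl Lrfl
theorem f62989 : Led Lsl_bt (LP (LK LD1_c3 LD2_c48 LD3_c8)) = (LP (LK LD1_c7 LD2_c37 LD3_c20)) :=
  Lre_b IH (LK LD1_c3 LD2_c48 LD3_c8) (LK LD1_c7 LD2_c37 LD3_c20) Lrfl Lrfl
theorem f473697 : Led Lsl_ff (LP (LK LD1_c7 LD2_c47 LD3_c54)) = (LP (LK LD1_c7 LD2_c37 LD3_c20)) :=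
  Lgr Lrot25 (Lpr_bt (f64684 IH) (Lpr_ft (K29.f473695 IH) (Lpr_bt (f62989 IH) (Lpn (LP (LK LD1_c7 LD2_c37 LD3_c20))))))
theorem f473699 : Led Lsl_at (LP (LK LD1_c7 LD2_c47 LD3_c54)) = (LP (LK LD1_c14 LD2_c42 LD3_c52)) :=
  Lre_a IH (LK LD1_c7 LD2_c47 LD3_c54) (LK LD1_c14 LD2_c42 LD3_c52) Lrfl Lrfl
theorem f473700 : Led Lsl_ft (LP (LK LD1_c14 LD2_c42 LD3_c52)) = (LP (LK LD1_c14 LD2_c22 LD3_c9)) :=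
  Lgr Lrot101 (Lpe (f473699 IH) (Lpr_ff (f473697 IH) (Lpe (K34.f457828 IH) (Lpn (LP (LK LD1_c14 LD2_c22 LD3_c9))))))
theorem f473710 : Led Lsl_et (LP (LK LD1_c7 LD2_c47 LD3_c52)) = (LP (LK LD1_c14 LD2_c42 LD3_c52)) :=
  Lre_e IH (LK LD1_c7 LD2_c47 LD3_c52) (LK LD1_c14 LD2_c42 LD3_c52) Lrfl Lrfl
theorem f475654 : Led Lsl_ft (LP (LK LD1_c7 LD2_c47 LD3_c19)) = (LP (LK LD1_c7 LD2_c47 LD3_c52)) :=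
  Lgr Lrot86 (Lpe (f475653 IH) (Lpr_ff (K34.f475642 IH) (Lpe (K34.f457873 IH) (Lpe (f473700 IH) (Lpe (f473710 IH) (Lpn (LP (LK LD1_c7 LD2_c47 LD3_c52))))))))
theorem f451236 : Led Lsl_bt (LP (LK LD1_c1 LD2_c53 LD3_c4)) = (LP (LK LD1_c3 LD2_c52 LD3_c61)) :=
  Lre_b IH (LK LD1_c1 LD2_c53 LD3_c4) (LK LD1_c3 LD2_c52 LD3_c61) Lrfl Lrfl
theorem f474063 : Led Lsl_at (LP (LK LD1_c3 LD2_c52 LD3_c61)) = (LP (LK LD1_c7 LD2_c47 LD3_c52)) :=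
  Lre_a IH (LK LD1_c3 LD2_c52 LD3_c61) (LK LD1_c7 LD2_c47 LD3_c52) Lrfl Lrfl
theorem f462033 : Led Lsl_bt (LP (LK LD1_c7 LD2_c37 LD3_c16)) = (LP (LK LD1_c3 LD2_c48 LD3_c4)) :=
  Lre_b IH (LK LD1_c7 LD2_c37 LD3_c16) (LK LD1_c3 LD2_c48 LD3_c4) Lrfl Lrfl
theorem f462032 : Led Lsl_at (LP (LK LD1_c14 LD2_c22 LD3_c5)) = (LP (LK LD1_c7 LD2_c37 LD3_c16)) :=
  Lre_a IH (LK LD1_c14 LD2_c22 LD3_c5) (LK LD1_c7 LD2_c37 LD3_c16) Lrfl Lrfl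
theorem f474064 : Led Lsl_bt (LP (LK LD1_c7 LD2_c47 LD3_c52)) = (LP (LK LD1_c14 LD2_c22 LD3_c5)) :=
  Lgr Lrot62 (Lpe (f474063 IH) (Lpe (f451236 IH) (Lpr_af (K29.f474061 IH) (Lpe (f462033 IH) (Lpe (f462032 IH) (Lpn (LP (LK LD1_c14 LD2_c22 LD3_c5))))))))
theorem f475878 : Led Lsl_ff (LP (LK LD1_c7 LD2_c48 LD3_c25)) = (LP (LK LD1_c14 LD2_c22 LD3_c5)) :=
  Lgr Lrot25 (Lpr_bt (f475876 IH) (Lpr_ft (f475654 IH) (Lpr_bt (f474064 IH) (Lpn (LP (LK LD1_c14 LD2_c22 LD3_c5))))))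
theorem f475883 : Led Lsl_gf (LP (LK LD1_c7 LD2_c48 LD3_c24)) = (LP (LK LD1_c14 LD2_c22 LD3_c5)) :=
  Lgr Lrot47 (Lpr_gt (f129872 IH) (Lpe (f129874 IH) (Lpr_ff (f475878 IH) (Lpn (LP (LK LD1_c14 LD2_c22 LD3_c5))))))
theorem f475672 : Led Lsl_ct (LP (LK LD1_c7 LD2_c47 LD3_c52)) = (LP (LK LD1_c14 LD2_c41 LD3_c24)) :=
  Lre_c IH (LK LD1_c7 LD2_c47 LD3_c52) (LK LD1_c14 LD2_c41 LD3_c24) Lrfl Lrfl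
theorem f475661 : Led Lsl_et (LP (LK LD1_c7 LD2_c47 LD3_c19)) = (LP (LK LD1_c3 LD2_c52 LD3_c48)) :=
  Lre_e IH (LK LD1_c7 LD2_c47 LD3_c19) (LK LD1_c3 LD2_c52 LD3_c48) Lrfl Lrfl
theorem f457864 : Led Lsl_et (LP (LK LD1_c7 LD2_c37 LD3_c18)) = (LP (LK LD1_c14 LD2_c22 LD3_c9)) :=
  Lre_e IH (LK LD1_c7 LD2_c37 LD3_c18) (LK LD1_c14 LD2_c22 LD3_c9) Lrfl Lrfl
theorem f473703 : Led Lsl_ft (LP (LK LD1_c7 LD2_c47 LD3_c54)) = (LP (LK LD1_c7 LD2_c37 LD3_c20)) :=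
  Lgr Lrot48 (Lpr_ff (f473697 IH) (Lpn (LP (LK LD1_c7 LD2_c37 LD3_c20))))
theorem f473705 : Led Lsl_at (LP (LK LD1_c14 LD2_c42 LD3_c52)) = (LP (LK LD1_c7 LD2_c47 LD3_c54)) :=
  Lre_a IH (LK LD1_c14 LD2_c42 LD3_c52) (LK LD1_c7 LD2_c47 LD3_c54) Lrfl Lrfl
theorem f457819 : Led Lsl_at (LP (LK LD1_c7 LD2_c37 LD3_c20)) = (LP (LK LD1_c14 LD2_c22 LD3_c9)) :=
  Lre_a IH (LK LD1_c7 LD2_c37 LD3_c20) (LK LD1_c14 LD2_c22 LD3_c9) Lrfl Lrfl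
theorem f473706 : Led Lsl_ff (LP (LK LD1_c14 LD2_c42 LD3_c52)) = (LP (LK LD1_c14 LD2_c22 LD3_c9)) :=
  Lgr Lrot30 (Lpr_at (f473705 IH) (Lpr_ft (f473703 IH) (Lpr_at (f457819 IH) (Lpn (LP (LK LD1_c14 LD2_c22 LD3_c9))))))
theorem f473709 : Led Lsl_et (LP (LK LD1_c14 LD2_c42 LD3_c52)) = (LP (LK LD1_c7 LD2_c47 LD3_c52)) :=
  Lre_e IH (LK LD1_c14 LD2_c42 LD3_c52) (LK LD1_c7 LD2_c47 LD3_c52) Lrfl Lrfl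
theorem f475662 : Led Lsl_ff (LP (LK LD1_c7 LD2_c47 LD3_c19)) = (LP (LK LD1_c7 LD2_c47 LD3_c52)) :=
  Lgr Lrot72 (Lpr_et (f475661 IH) (Lpr_ft (K34.f475656 IH) (Lpr_et (f457864 IH) (Lpe (f473706 IH) (Lpr_et (f473709 IH) (Lpn (LP (LK LD1_c7 LD2_c47 LD3_c52))))))))
theorem f475667 : Led Lsl_ct (LP (LK LD1_c14 LD2_c41 LD3_c24)) = (LP (LK LD1_c7 LD2_c47 LD3_c52)) :=
  Lre_c IH (LK LD1_c14 LD2_c41 LD3_c24) (LK LD1_c7 LD2_c47 LD3_c52) Lrfl Lrfl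
theorem f475668 : Led Lsl_ft (LP (LK LD1_c14 LD2_c41 LD3_c14)) = (LP (LK LD1_c14 LD2_c41 LD3_c24)) :=
  Lgr Lrot4 (Lpe (f458042 IH) (Lpr_ff (f475662 IH) (Lpe (f475667 IH) (Lpn (LP (LK LD1_c14 LD2_c41 LD3_c24))))))
theorem f475675 : Led Lsl_ff (LP (LK LD1_c14 LD2_c41 LD3_c14)) = (LP (LK LD1_c14 LD2_c41 LD3_c24)) :=
  Lgr Lrot3 (Lpr_ft (f475668 IH) (Lpn (LP (LK LD1_c14 LD2_c41 LD3_c24))))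
theorem f458014 : Led Lsl_at (LP (LK LD1_c14 LD2_c41 LD3_c14)) = (LP (LK LD1_c7 LD2_c47 LD3_c4)) :=
  Lre_a IH (LK LD1_c14 LD2_c41 LD3_c14) (LK LD1_c7 LD2_c47 LD3_c4) Lrfl Lrfl
theorem f475679 : Led Lsl_at (LP (LK LD1_c7 LD2_c47 LD3_c7)) = (LP (LK LD1_c14 LD2_c41 LD3_c24)) :=
  Lre_a IH (LK LD1_c7 LD2_c47 LD3_c7) (LK LD1_c14 LD2_c41 LD3_c24) Lrfl Lrfl
theorem f475680 : Led Lsl_ft (LP (LK LD1_c7 LD2_c47 LD3_c4)) = (LP (LK LD1_c7 LD2_c47 LD3_c7)) :=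
  Lgr Lrot101 (Lpe (f458014 IH) (Lpr_ff (f475675 IH) (Lpe (f475679 IH) (Lpn (LP (LK LD1_c7 LD2_c47 LD3_c7))))))
theorem f63051 : Led Lsl_gt (LP (LK LD1_c7 LD2_c47 LD3_c4)) = (LP (LK LD1_c14 LD2_c41 LD3_c18)) :=
  Lre_g IH (LK LD1_c7 LD2_c47 LD3_c4) (LK LD1_c14 LD2_c41 LD3_c18) Lrfl Lrfl
theorem f475724 : Led Lsl_gt (LP (LK LD1_c14 LD2_c41 LD3_c18)) = (LP (LK LD1_c14 LD2_c41 LD3_c24)) :=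
  Lgr Lrot46 (Lpe (f63051 IH) (Lpr_ft (f475680 IH) (Lpr_at (f475679 IH) (Lpn (LP (LK LD1_c14 LD2_c41 LD3_c24))))))
theorem f655659 : Led Lsl_ft (LP (LK LD1_c23 LD2_c26 LD3_c52)) = (LP (LK LD1_c23 LD2_c40 LD3_c20)) :=
  Lgr Lrot48 (Lpr_ff (K46.f655650 IH) (Lpn (LP (LK LD1_c23 LD2_c40 LD3_c20))))
theorem f655663 : Led Lsl_at (LP (LK LD1_c23 LD2_c40 LD3_c20)) = (LP (LK LD1_c14 LD2_c6 LD3_c25)) :=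
  Lre_a IH (LK LD1_c23 LD2_c40 LD3_c20) (LK LD1_c14 LD2_c6 LD3_c25) Lrfl Lrfl
theorem f463436 : Led Lsl_gt (LP (LK LD1_c23 LD2_c40 LD3_c23)) = (LP (LK LD1_c14 LD2_c6 LD3_c25)) :=
  Lre_g IH (LK LD1_c23 LD2_c40 LD3_c23) (LK LD1_c14 LD2_c6 LD3_c25) Lrfl Lrfl
theorem f655666 : Led Lsl_gt (LP (LK LD1_c23 LD2_c26 LD3_c52)) = (LP (LK LD1_c23 LD2_c40 LD3_c23)) :=
  Lgr Lrot5 (Lpr_ft (f655659 IH) (Lpr_at (f655663 IH) (Lpe (f463436 IH) (Lpn (LP (LK LD1_c23 LD2_c40 LD3_c23))))))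
theorem f142434 : Led Lsl_dt (LP (LK LD1_c13 LD2_c55 LD3_c56)) = (LP (LK LD1_c23 LD2_c26 LD3_c52)) :=
  Lre_d IH (LK LD1_c13 LD2_c55 LD3_c56) (LK LD1_c23 LD2_c26 LD3_c52) Lrfl Lrfl
theorem f147809 : Led Lsl_bf (LP (LK LD1_c14 LD2_c5 LD3_c1)) = (LP (LK LD1_c14 LD2_c3 LD3_c56)) :=
  Lgr Lrot24 (Lpr_bt (K7.f147807 IH) (Lpn (LP (LK LD1_c14 LD2_c3 LD3_c56))))
theorem f655196 : Led Lsl_bt (LP (LK LD1_c7 LD2_c22 LD3_c20)) = (LP (LK LD1_c13 LD2_c55 LD3_c56)) :=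
  Lgr Lrot62 (Lpr_af (K46.f655192 IH) (Lpr_bf (K34.f488695 IH) (Lpe (K46.f655108 IH) (Lpe (K28.f439423 IH) (Lpe (K46.f473501 IH) (Lpn (LP (LK LD1_c13 LD2_c55 LD3_c56))))))))
theorem f655244 : Led Lsl_gt (LP (LK LD1_c14 LD2_c5 LD3_c1)) = (LP (LK LD1_c13 LD2_c55 LD3_c56)) :=
  Lgr Lrot164 (Lpr_bf (f147809 IH) (Lpr_ct (K7.f147811 IH) (Lpe (K34.f533131 IH) (Lpr_cf (K34.f465725 IH) (Lpr_gf (K34.f489439 IH) (Lpr_bf (K34.f469850 IH) (Lpr_ct (K34.f469843 IH) (Lpr_gf (K46.f655237 IH) (Lpe (K46.f655198 IH) (Lpr_bt (f655196 IH) (Lpn (LP (LK LD1_c13 LD2_c55 LD3_c56)))))))))))))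
theorem f88235 : Led Lsl_dt (LP (LK LD1_c7 LD2_c37 LD3_c54)) = (LP (LK LD1_c3 LD2_c48 LD3_c26)) :=
  Lre_d IH (LK LD1_c7 LD2_c37 LD3_c54) (LK LD1_c3 LD2_c48 LD3_c26) Lrfl Lrfl
theorem f155761 : Led Lsl_gt (LP (LK LD1_c6 LD2_c55 LD3_c24)) = (LP (LK LD1_c7 LD2_c37 LD3_c54)) :=
  Lgr Lrot5 (Lpe (K4.f111379 IH) (Lpe (K4.f111444 IH) (Lpr_gf (K36.f155758 IH) (Lpn (LP (LK LD1_c7 LD2_c37 LD3_c54))))))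
theorem f567528 : Led Lsl_df (LP (LK LD1_c11 LD2_c26 LD3_c58)) = (LP (LK LD1_c7 LD2_c27 LD3_c35)) :=
  Lgr Lrot153 (Lpr_gt (K41.f567522 IH) (Lpr_dt (K5.f123527 IH) (Lpr_cf (K5.f127967 IH) (Lpe (f88235 IH) (Lpe (f155761 IH) (Lpe (K4.f111368 IH) (Lpe (K4.f111343 IH) (Lpe (K4.f12772 IH) (Lpr_gt (K4.f12780 IH) (Lpn (LP (LK LD1_c7 LD2_c27 LD3_c35))))))))))))
theorem f111356 : Led Lsl_dt (LP (LK LD1_c3 LD2_c26 LD3_c40)) = (LP (LK LD1_c6 LD2_c55 LD3_c13)) :=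
  Lre_d IH (LK LD1_c3 LD2_c26 LD3_c40) (LK LD1_c6 LD2_c55 LD3_c13) Lrfl Lrfl
theorem f484842 : Led Lsl_et (LP (LK LD1_c22 LD2_c21 LD3_c13)) = (LP (LK LD1_c13 LD2_c8 LD3_c54)) :=
  Lre_e IH (LK LD1_c22 LD2_c21 LD3_c13) (LK LD1_c13 LD2_c8 LD3_c54) Lrfl Lrfl
theorem f655668 : Led Lsl_dt (LP (LK LD1_c22 LD2_c21 LD3_c13)) = (LP (LK LD1_c23 LD2_c40 LD3_c23)) :=
  Lgr Lrot56 (Lpr_et (f484842 IH) (Lpr_gt (K33.f476956 IH) (Lpe (K33.f155726 IH) (Lpr_dt (f111356 IH) (Lpe (K42.f567524 IH) (Lpr_df (f567528 IH) (Lpr_et (K4.f108916 IH) (Lpr_gt (f655244 IH) (Lpr_dt (f142434 IH) (Lpr_gt (f655666 IH) (Lpn (LP (LK LD1_c23 LD2_c40 LD3_c23)))))))))))))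
theorem f463435 : Led Lsl_dt (LP (LK LD1_c14 LD2_c6 LD3_c25)) = (LP (LK LD1_c7 LD2_c28 LD3_c21)) :=
  Lre_d IH (LK LD1_c14 LD2_c6 LD3_c25) (LK LD1_c7 LD2_c28 LD3_c21) Lrfl Lrfl
theorem f468964 : Led Lsl_dt (LP (LK LD1_c13 LD2_c12 LD3_c53)) = (LP (LK LD1_c6 LD2_c57 LD3_c32)) :=
  Lre_d IH (LK LD1_c13 LD2_c12 LD3_c53) (LK LD1_c6 LD2_c57 LD3_c32) Lrfl Lrfl
theorem f483806 : Led Lsl_gf (LP (LK LD1_c13 LD2_c2 LD3_c59)) = (LP (LK LD1_c13 LD2_c12 LD3_c53)) :=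
  Lgr Lrot147 (Lpr_ct (K29.f460874 IH) (Lpr_gt (K29.f480689 IH) (Lpr_ct (K29.f458194 IH) (Lpe (K28.f457372 IH) (Lpe (K28.f455985 IH) (Lpr_gf (K24.f458189 IH) (Lpe (K33.f98717 IH) (Lpr_gf (K35.f483802 IH) (Lpe (f468964 IH) (Lpn (LP (LK LD1_c13 LD2_c12 LD3_c53))))))))))))
theorem f472989 : Led Lsl_gt (LP (LK LD1_c22 LD2_c13 LD3_c26)) = (LP (LK LD1_c13 LD2_c3 LD3_c30)) :=
  Lre_g IH (LK LD1_c22 LD2_c13 LD3_c26) (LK LD1_c13 LD2_c3 LD3_c30) Lrfl Lrfl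
theorem f483811 : Led Lsl_cf (LP (LK LD1_c22 LD2_c13 LD3_c26)) = (LP (LK LD1_c13 LD2_c12 LD3_c53)) :=
  Lgr Lrot166 (Lpr_gt (f472989 IH) (Lpr_dt (K33.f472984 IH) (Lpe (K29.f473080 IH) (Lpr_dt (K29.f473054 IH) (Lpe (K29.f473033 IH) (Lpe (K28.f91991 IH) (Lpe (K28.f15812 IH) (Lpe (K34.f91998 IH) (Lpr_gf (f483806 IH) (Lpn (LP (LK LD1_c13 LD2_c12 LD3_c53))))))))))))
theorem f528891 : Led Lsl_ff (LP (LK LD1_c22 LD2_c14 LD3_c10)) = (LP (LK LD1_c22 LD2_c13 LD3_c26)) :=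
  Lgr Lrot23 (Lpr_ct (K32.f479869 IH) (Lpr_ft (K35.f528889 IH) (Lpe (f483811 IH) (Lpn (LP (LK LD1_c22 LD2_c13 LD3_c26))))))
theorem f91529 : Led Lsl_gt (LP (LK LD1_c13 LD2_c3 LD3_c30)) = (LP (LK LD1_c22 LD2_c13 LD3_c25)) :=
  Lre_g IH (LK LD1_c13 LD2_c3 LD3_c30) (LK LD1_c22 LD2_c13 LD3_c25) Lrfl Lrfl
theorem f529470 : Led Lsl_at (LP (LK LD1_c22 LD2_c14 LD3_c10)) = (LP (LK LD1_c22 LD2_c13 LD3_c25)) :=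
  Lgr Lrot26 (Lpr_ff (f528891 IH) (Lpr_gt (f472989 IH) (Lpr_gt (f91529 IH) (Lpn (LP (LK LD1_c22 LD2_c13 LD3_c25))))))
theorem f483809 : Led Lsl_ct (LP (LK LD1_c22 LD2_c13 LD3_c26)) = (LP (LK LD1_c13 LD2_c12 LD3_c53)) :=
  Lgr Lrot8 (Lpr_gt (f472989 IH) (Lpr_dt (K33.f472984 IH) (Lpe (K29.f473080 IH) (Lpr_dt (K29.f473054 IH) (Lpe (K29.f473037 IH) (Lpe (K28.f91991 IH) (Lpe (K28.f15812 IH) (Lpe (K34.f91998 IH) (Lpr_gf (f483806 IH) (Lpn (LP (LK LD1_c13 LD2_c12 LD3_c53))))))))))))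
theorem f528899 : Led Lsl_at (LP (LK LD1_c22 LD2_c14 LD3_c13)) = (LP (LK LD1_c22 LD2_c13 LD3_c26)) :=
  Lgr Lrot107 (Lpe (K29.f472227 IH) (Lpr_af (K35.f528895 IH) (Lpe (f483809 IH) (Lpn (LP (LK LD1_c22 LD2_c13 LD3_c26))))))
theorem f529477 : Led Lsl_ff (LP (LK LD1_c22 LD2_c14 LD3_c13)) = (LP (LK LD1_c22 LD2_c13 LD3_c25)) :=
  Lgr Lrot30 (Lpr_at (f528899 IH) (Lpe (f528891 IH) (Lpr_at (f529470 IH) (Lpn (LP (LK LD1_c22 LD2_c13 LD3_c25))))))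
theorem f479331 : Led Lsl_df (LP (LK LD1_c13 LD2_c3 LD3_c56)) = (LP (LK LD1_c6 LD2_c57 LD3_c29)) :=
  Lgr Lrot84 (Lpe (K32.f472228 IH) (Lpr_df (K29.f479313 IH) (Lpe (K29.f473110 IH) (Lpr_df (K28.f472951 IH) (Lpe (K28.f472959 IH) (Lpe (K28.f121918 IH) (Lpr_gt (K29.f463250 IH) (Lpe (K29.f463251 IH) (Lpe (K32.f473325 IH) (Lpn (LP (LK LD1_c6 LD2_c57 LD3_c29))))))))))))
theorem f528921 : Led Lsl_ft (LP (LK LD1_c13 LD2_c3 LD3_c56)) = (LP (LK LD1_c13 LD2_c12 LD3_c55)) :=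
  Lgr Lrot54 (Lpr_df (f479331 IH) (Lpr_ff (K35.f528913 IH) (Lpe (K29.f468981 IH) (Lpn (LP (LK LD1_c13 LD2_c12 LD3_c55))))))
theorem f529482 : Led Lsl_ct (LP (LK LD1_c13 LD2_c12 LD3_c55)) = (LP (LK LD1_c22 LD2_c13 LD3_c25)) :=
  Lgr Lrot40 (Lpe (f528921 IH) (Lpe (K32.f472228 IH) (Lpr_ff (f529477 IH) (Lpn (LP (LK LD1_c22 LD2_c13 LD3_c25))))))
theorem f477644 : Led Lsl_bt (LP (LK LD1_c13 LD2_c12 LD3_c55)) = (LP (LK LD1_c22 LD2_c26 LD3_c54)) :=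
  Lre_b IH (LK LD1_c13 LD2_c12 LD3_c55) (LK LD1_c22 LD2_c26 LD3_c54) Lrfl Lrfl
theorem f463604 : Led Lsl_dt (LP (LK LD1_c7 LD2_c4 LD3_c0)) = (LP (LK LD1_c13 LD2_c23 LD3_c51)) :=
  Lre_d IH (LK LD1_c7 LD2_c4 LD3_c0) (LK LD1_c13 LD2_c23 LD3_c51) Lrfl Lrfl
theorem f97525 : Led Lsl_dt (LP (LK LD1_c22 LD2_c34 LD3_c9)) = (LP (LK LD1_c13 LD2_c18 LD3_c12)) :=
  Lre_d IH (LK LD1_c22 LD2_c34 LD3_c9) (LK LD1_c13 LD2_c18 LD3_c12) Lrfl Lrfl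
theorem f514061 : Led Lsl_at (LP (LK LD1_c13 LD2_c23 LD3_c51)) = (LP (LK LD1_c22 LD2_c34 LD3_c9)) :=
  Lgr Lrot51 (Lpe (f463604 IH) (Lpr_af (K37.f514051 IH) (Lpe (f97525 IH) (Lpn (LP (LK LD1_c22 LD2_c34 LD3_c9))))))
theorem f514086 : Led Lsl_af (LP (LK LD1_c13 LD2_c23 LD3_c51)) = (LP (LK LD1_c22 LD2_c34 LD3_c9)) :=
  Lgr Lrot0 (Lpr_at (f514061 IH) (Lpn (LP (LK LD1_c22 LD2_c34 LD3_c9))))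
theorem f419662 : Led Lsl_dt (LP (LK LD1_c7 LD2_c33 LD3_c61)) = (LP (LK LD1_c14 LD2_c16 LD3_c3)) :=
  Lre_d IH (LK LD1_c7 LD2_c33 LD3_c61) (LK LD1_c14 LD2_c16 LD3_c3) Lrfl Lrfl
theorem f514047 : Led Lsl_ft (LP (LK LD1_c14 LD2_c16 LD3_c3)) = (LP (LK LD1_c22 LD2_c34 LD3_c9)) :=
  Lgr Lrot54 (Lpe (f419662 IH) (Lpr_ff (K37.f514043 IH) (Lpe (f97525 IH) (Lpn (LP (LK LD1_c22 LD2_c34 LD3_c9))))))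
theorem f88525 : Led Lsl_dt (LP (LK LD1_c1 LD2_c50 LD3_c37)) = (LP (LK LD1_c3 LD2_c47 LD3_c1)) :=
  Lre_d IH (LK LD1_c1 LD2_c50 LD3_c37) (LK LD1_c3 LD2_c47 LD3_c1) Lrfl Lrfl
theorem f473949 : Led Lsl_dt (LP (LK LD1_c13 LD2_c12 LD3_c54)) = (LP (LK LD1_c22 LD2_c26 LD3_c54)) :=
  Lre_d IH (LK LD1_c13 LD2_c12 LD3_c54) (LK LD1_c22 LD2_c26 LD3_c54) Lrfl Lrfl
theorem f477641 : Led Lsl_gt (LP (LK LD1_c14 LD2_c16 LD3_c3)) = (LP (LK LD1_c22 LD2_c26 LD3_c54)) :=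
  Lgr Lrot139 (Lpe (f419662 IH) (Lpe (K34.f419656 IH) (Lpe (K28.f419404 IH) (Lpr_dt (K28.f14697 IH) (Lpr_gf (K42.f419393 IH) (Lpe (f88525 IH) (Lpr_et (K3.f88526 IH) (Lpe (K33.f88550 IH) (Lpr_ef (K33.f477639 IH) (Lpr_dt (f473949 IH) (Lpn (LP (LK LD1_c22 LD2_c26 LD3_c54)))))))))))))
theorem f514126 : Led Lsl_gf (LP (LK LD1_c13 LD2_c23 LD3_c51)) = (LP (LK LD1_c22 LD2_c26 LD3_c54)) :=
  Lgr Lrot76 (Lpr_af (f514086 IH) (Lpe (f514047 IH) (Lpr_gt (f477641 IH) (Lpn (LP (LK LD1_c22 LD2_c26 LD3_c54))))))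
theorem f463607 : Led Lsl_ct (LP (LK LD1_c13 LD2_c23 LD3_c51)) = (LP (LK LD1_c22 LD2_c41 LD3_c48)) :=
  Lre_c IH (LK LD1_c13 LD2_c23 LD3_c51) (LK LD1_c22 LD2_c41 LD3_c48) Lrfl Lrfl
theorem f512455 : Led Lsl_gt (LP (LK LD1_c22 LD2_c41 LD3_c48)) = (LP (LK LD1_c30 LD2_c39 LD3_c38)) :=
  Lre_g IH (LK LD1_c22 LD2_c41 LD3_c48) (LK LD1_c30 LD2_c39 LD3_c38) Lrfl Lrfl
theorem f91096 : Led Lsl_gt (LP (LK LD1_c22 LD2_c13 LD3_c18)) = (LP (LK LD1_c13 LD2_c3 LD3_c27)) :=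
  Lre_g IH (LK LD1_c22 LD2_c13 LD3_c18) (LK LD1_c13 LD2_c3 LD3_c27) Lrfl Lrfl
theorem f488212 : Led Lsl_bt (LP (LK LD1_c30 LD2_c21 LD3_c29)) = (LP (LK LD1_c22 LD2_c13 LD3_c18)) :=
  Lre_b IH (LK LD1_c30 LD2_c21 LD3_c29) (LK LD1_c22 LD2_c13 LD3_c18) Lrfl Lrfl
theorem f529490 : Led Lsl_cf (LP (LK LD1_c30 LD2_c39 LD3_c38)) = (LP (LK LD1_c30 LD2_c21 LD3_c29)) :=
  Lgr Lrot163 (Lpe (f512455 IH) (Lpe (f463607 IH) (Lpr_gf (f514126 IH) (Lpe (f477644 IH) (Lpr_ct (f529482 IH) (Lpe (f91529 IH) (Lpe (K33.f18601 IH) (Lpr_bt (K34.f472977 IH) (Lpe (f91096 IH) (Lpe (f488212 IH) (Lpn (LP (LK LD1_c30 LD2_c21 LD3_c29)))))))))))))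
theorem f512386 : Led Lsl_bt (LP (LK LD1_c13 LD2_c23 LD3_c51)) = (LP (LK LD1_c7 LD2_c4 LD3_c1)) :=
  Lre_b IH (LK LD1_c13 LD2_c23 LD3_c51) (LK LD1_c7 LD2_c4 LD3_c1) Lrfl Lrfl
theorem f467198 : Led Lsl_bt (LP (LK LD1_c22 LD2_c41 LD3_c35)) = (LP (LK LD1_c13 LD2_c23 LD3_c45)) :=
  Lre_b IH (LK LD1_c22 LD2_c41 LD3_c35) (LK LD1_c13 LD2_c23 LD3_c45) Lrfl Lrfl
theorem f488218 : Led Lsl_ct (LP (LK LD1_c13 LD2_c3 LD3_c27)) = (LP (LK LD1_c22 LD2_c13 LD3_c19)) :=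
  Lre_c IH (LK LD1_c13 LD2_c3 LD3_c27) (LK LD1_c22 LD2_c13 LD3_c19) Lrfl Lrfl
theorem f473010 : Led Lsl_gt (LP (LK LD1_c22 LD2_c13 LD3_c19)) = (LP (LK LD1_c30 LD2_c21 LD3_c32)) :=
  Lre_g IH (LK LD1_c22 LD2_c13 LD3_c19) (LK LD1_c30 LD2_c21 LD3_c32) Lrfl Lrfl
theorem f529495 : Led Lsl_ct (LP (LK LD1_c22 LD2_c41 LD3_c35)) = (LP (LK LD1_c30 LD2_c21 LD3_c32)) :=
  Lgr Lrot63 (Lpr_bt (f467198 IH) (Lpe (K34.f512452 IH) (Lpe (f512386 IH) (Lpr_ct (f463607 IH) (Lpr_gt (f512455 IH) (Lpr_cf (f529490 IH) (Lpr_bt (f488212 IH) (Lpr_gt (f91096 IH) (Lpr_ct (f488218 IH) (Lpr_gt (f473010 IH) (Lpn (LP (LK LD1_c30 LD2_c21 LD3_c32)))))))))))))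
theorem f529499 : Led Lsl_cf (LP (LK LD1_c22 LD2_c41 LD3_c35)) = (LP (LK LD1_c30 LD2_c21 LD3_c32)) :=
  Lgr Lrot11 (Lpr_ct (f529495 IH) (Lpn (LP (LK LD1_c30 LD2_c21 LD3_c32))))
theorem f460840 : Led Lsl_bt (LP (LK LD1_c7 LD2_c38 LD3_c52)) = (LP (LK LD1_c14 LD2_c24 LD3_c48)) :=
  Lre_b IH (LK LD1_c7 LD2_c38 LD3_c52) (LK LD1_c14 LD2_c24 LD3_c48) Lrfl Lrfl
theorem f516146 : Led Lsl_bt (LP (LK LD1_c22 LD2_c27 LD3_c49)) = (LP (LK LD1_c30 LD2_c31 LD3_c29)) :=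
  Lre_b IH (LK LD1_c22 LD2_c27 LD3_c49) (LK LD1_c30 LD2_c31 LD3_c29) Lrfl Lrfl
theorem f516541 : Led Lsl_af (LP (LK LD1_c22 LD2_c41 LD3_c35)) = (LP (LK LD1_c30 LD2_c31 LD3_c29)) :=
  Lgr Lrot36 (Lpr_bt (f467198 IH) (Lpr_at (f516535 IH) (Lpr_bt (f460840 IH) (Lpr_at (K46.f516194 IH) (Lpr_bt (f516146 IH) (Lpn (LP (LK LD1_c30 LD2_c31 LD3_c29))))))))
theorem f516556 : Led Lsl_at (LP (LK LD1_c22 LD2_c41 LD3_c35)) = (LP (LK LD1_c30 LD2_c31 LD3_c29)) :=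
  Lgr Lrot100 (Lpr_af (f516541 IH) (Lpn (LP (LK LD1_c30 LD2_c31 LD3_c29))))
theorem f529501 : Led Lsl_at (LP (LK LD1_c32 LD2_c51 LD3_c34)) = (LP (LK LD1_c30 LD2_c21 LD3_c32)) :=
  Lgr Lrot107 (Lpr_cf (K34.f516144 IH) (Lpe (f516556 IH) (Lpr_cf (f529499 IH) (Lpn (LP (LK LD1_c30 LD2_c21 LD3_c32))))))
theorem f488221 : Led Lsl_gt (LP (LK LD1_c30 LD2_c21 LD3_c33)) = (LP (LK LD1_c22 LD2_c13 LD3_c19)) :=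
  Lre_g IH (LK LD1_c30 LD2_c21 LD3_c33) (LK LD1_c22 LD2_c13 LD3_c19) Lrfl Lrfl
theorem f529513 : Led Lsl_ff (LP (LK LD1_c32 LD2_c51 LD3_c34)) = (LP (LK LD1_c30 LD2_c21 LD3_c33)) :=
  Lgr Lrot52 (Lpr_at (f529501 IH) (Lpe (f473010 IH) (Lpe (f488221 IH) (Lpn (LP (LK LD1_c30 LD2_c21 LD3_c33))))))
theorem f529518 : Led Lsl_ft (LP (LK LD1_c32 LD2_c51 LD3_c34)) = (LP (LK LD1_c30 LD2_c21 LD3_c33)) :=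
  Lgr Lrot48 (Lpr_ff (f529513 IH) (Lpn (LP (LK LD1_c30 LD2_c21 LD3_c33))))
theorem f488227 : Led Lsl_ct (LP (LK LD1_c30 LD2_c21 LD3_c33)) = (LP (LK LD1_c30 LD2_c22 LD3_c56)) :=
  Lre_c IH (LK LD1_c30 LD2_c21 LD3_c33) (LK LD1_c30 LD2_c22 LD3_c56) Lrfl Lrfl
theorem f529520 : Led Lsl_ff (LP (LK LD1_c30 LD2_c31 LD3_c29)) = (LP (LK LD1_c30 LD2_c22 LD3_c56)) :=
  Lgr Lrot23 (Lpe (K34.f516144 IH) (Lpr_ft (f529518 IH) (Lpr_ct (f488227 IH) (Lpn (LP (LK LD1_c30 LD2_c22 LD3_c56))))))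
theorem f488228 : Led Lsl_bt (LP (LK LD1_c22 LD2_c14 LD3_c24)) = (LP (LK LD1_c30 LD2_c22 LD3_c56)) :=
  Lre_b IH (LK LD1_c22 LD2_c14 LD3_c24) (LK LD1_c30 LD2_c22 LD3_c56) Lrfl Lrfl
theorem f529523 : Led Lsl_ft (LP (LK LD1_c22 LD2_c27 LD3_c49)) = (LP (LK LD1_c22 LD2_c14 LD3_c24)) :=
  Lgr Lrot75 (Lpe (K34.f516143 IH) (Lpr_ff (f529520 IH) (Lpe (f488228 IH) (Lpn (LP (LK LD1_c22 LD2_c14 LD3_c24))))))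
theorem f529533 : Led Lsl_ff (LP (LK LD1_c22 LD2_c27 LD3_c49)) = (LP (LK LD1_c22 LD2_c14 LD3_c24)) :=
  Lgr Lrot3 (Lpr_ft (f529523 IH) (Lpn (LP (LK LD1_c22 LD2_c14 LD3_c24))))
theorem f492562 : Led Lsl_dt (LP (LK LD1_c22 LD2_c27 LD3_c50)) = (LP (LK LD1_c13 LD2_c13 LD3_c26)) :=
  Lre_d IH (LK LD1_c22 LD2_c27 LD3_c50) (LK LD1_c13 LD2_c13 LD3_c26) Lrfl Lrfl
theorem f516224 : Led Lsl_ft (LP (LK LD1_c14 LD2_c24 LD3_c48)) = (LP (LK LD1_c22 LD2_c27 LD3_c50)) :=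
  Lgr Lrot54 (Lpe (K33.f484786 IH) (Lpr_ff (K46.f516222 IH) (Lpe (f492562 IH) (Lpn (LP (LK LD1_c22 LD2_c27 LD3_c50))))))
theorem f529535 : Led Lsl_at (LP (LK LD1_c22 LD2_c27 LD3_c50)) = (LP (LK LD1_c22 LD2_c14 LD3_c24)) :=
  Lgr Lrot66 (Lpe (f516224 IH) (Lpr_af (K46.f516191 IH) (Lpr_ff (f529533 IH) (Lpn (LP (LK LD1_c22 LD2_c14 LD3_c24))))))
theorem f463455 : Led Lsl_gt (LP (LK LD1_c13 LD2_c4 LD3_c5)) = (LP (LK LD1_c22 LD2_c14 LD3_c24)) :=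
  Lre_g IH (LK LD1_c13 LD2_c4 LD3_c5) (LK LD1_c22 LD2_c14 LD3_c24) Lrfl Lrfl
theorem f529553 : Led Lsl_gt (LP (LK LD1_c14 LD2_c24 LD3_c48)) = (LP (LK LD1_c13 LD2_c4 LD3_c5)) :=
  Lgr Lrot5 (Lpr_ft (f516224 IH) (Lpr_at (f529535 IH) (Lpe (f463455 IH) (Lpn (LP (LK LD1_c13 LD2_c4 LD3_c5))))))
theorem f492924 : Led Lsl_gt (LP (LK LD1_c13 LD2_c13 LD3_c27)) = (LP (LK LD1_c7 LD2_c38 LD3_c49)) :=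
  Lgr Lrot5 (Lpe (K34.f492550 IH) (Lpr_at (K37.f462849 IH) (Lpr_gf (K39.f492922 IH) (Lpn (LP (LK LD1_c7 LD2_c38 LD3_c49))))))
theorem f98804 : Led Lsl_ct (LP (LK LD1_c22 LD2_c27 LD3_c15)) = (LP (LK LD1_c13 LD2_c13 LD3_c27)) :=
  Lre_c IH (LK LD1_c22 LD2_c27 LD3_c15) (LK LD1_c13 LD2_c13 LD3_c27) Lrfl Lrfl
theorem f655675 : Led Lsl_gf (LP (LK LD1_c22 LD2_c21 LD3_c13)) = (LP (LK LD1_c22 LD2_c27 LD3_c15)) :=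
  Lgr Lrot144 (Lpr_dt (f655668 IH) (Lpr_gt (f463436 IH) (Lpr_dt (f463435 IH) (Lpr_cf (K34.f463426 IH) (Lpe (K46.f463432 IH) (Lpe (f529553 IH) (Lpe (K33.f484786 IH) (Lpe (f492924 IH) (Lpe (f98804 IH) (Lpn (LP (LK LD1_c22 LD2_c27 LD3_c15))))))))))))
theorem f462826 : Led Lsl_at (LP (LK LD1_c13 LD2_c13 LD3_c9)) = (LP (LK LD1_c22 LD2_c27 LD3_c15)) :=
  Lre_a IH (LK LD1_c13 LD2_c13 LD3_c9) (LK LD1_c22 LD2_c27 LD3_c15) Lrfl Lrfl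
theorem f492738 : Led Lsl_ft (LP (LK LD1_c14 LD2_c55 LD3_c14)) = (LP (LK LD1_c13 LD2_c13 LD3_c9)) :=
  Lgr Lrot75 (Lpe (K39.f462841 IH) (Lpr_ff (K34.f492734 IH) (Lpe (K46.f458191 IH) (Lpn (LP (LK LD1_c13 LD2_c13 LD3_c9))))))
theorem f527094 : Led Lsl_af (LP (LK LD1_c14 LD2_c55 LD3_c14)) = (LP (LK LD1_c24 LD2_c34 LD3_c46)) :=
  Lgr Lrot45 (Lpr_ft (f492738 IH) (Lpr_at (f462826 IH) (Lpr_ft (K37.f527061 IH) (Lpn (LP (LK LD1_c24 LD2_c34 LD3_c46))))))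
theorem f655677 : Led Lsl_gt (LP (LK LD1_c22 LD2_c21 LD3_c13)) = (LP (LK LD1_c14 LD2_c55 LD3_c14)) :=
  Lgr Lrot46 (Lpr_gf (f655675 IH) (Lpr_ft (K37.f527061 IH) (Lpe (f527094 IH) (Lpn (LP (LK LD1_c14 LD2_c55 LD3_c14))))))
theorem f486414 : Led Lsl_et (LP (LK LD1_c13 LD2_c8 LD3_c54)) = (LP (LK LD1_c22 LD2_c21 LD3_c13)) :=
  Lre_e IH (LK LD1_c13 LD2_c8 LD3_c54) (LK LD1_c22 LD2_c21 LD3_c13) Lrfl Lrfl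
theorem f440280 : Led Lsl_et (LP (LK LD1_c23 LD2_c57 LD3_c21)) = (LP (LK LD1_c14 LD2_c19 LD3_c24)) :=
  Lre_e IH (LK LD1_c23 LD2_c57 LD3_c21) (LK LD1_c14 LD2_c19 LD3_c24) Lrfl Lrfl
theorem f486415 : Led Lsl_ct (LP (LK LD1_c22 LD2_c21 LD3_c13)) = (LP (LK LD1_c23 LD2_c57 LD3_c21)) :=
  Lgr Lrot15 (Lpe (f486414 IH) (Lpr_cf (K33.f486410 IH) (Lpe (f440280 IH) (Lpn (LP (LK LD1_c23 LD2_c57 LD3_c21))))))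
theorem f486417 : Led Lsl_cf (LP (LK LD1_c22 LD2_c21 LD3_c13)) = (LP (LK LD1_c23 LD2_c57 LD3_c21)) :=
  Lgr Lrot11 (Lpr_ct (f486415 IH) (Lpn (LP (LK LD1_c23 LD2_c57 LD3_c21))))
theorem f655681 : Led Lsl_bt (LP (LK LD1_c23 LD2_c57 LD3_c21)) = (LP (LK LD1_c14 LD2_c41 LD3_c18)) :=
  Lgr Lrot92 (Lpe (f486417 IH) (Lpr_gt (f655677 IH) (Lpe (K39.f462834 IH) (Lpr_bt (K34.f462845 IH) (Lpe (K32.f473325 IH) (Lpr_ct (K32.f473300 IH) (Lpr_gt (K29.f63004 IH) (Lpe (K29.f63003 IH) (Lpr_bt (f63050 IH) (Lpr_gt (f63051 IH) (Lpn (LP (LK LD1_c14 LD2_c41 LD3_c18)))))))))))))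
theorem f486419 : Led Lsl_et (LP (LK LD1_c14 LD2_c19 LD3_c24)) = (LP (LK LD1_c23 LD2_c57 LD3_c21)) :=
  Lre_e IH (LK LD1_c14 LD2_c19 LD3_c24) (LK LD1_c23 LD2_c57 LD3_c21) Lrfl Lrfl
theorem f655687 : Led Lsl_ef (LP (LK LD1_c13 LD2_c10 LD3_c31)) = (LP (LK LD1_c14 LD2_c41 LD3_c18)) :=
  Lgr Lrot29 (Lpe (K33.f486766 IH) (Lpr_et (f486419 IH) (Lpr_bt (f655681 IH) (Lpn (LP (LK LD1_c14 LD2_c41 LD3_c18))))))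
theorem f486765 : Led Lsl_et (LP (LK LD1_c12 LD2_c33 LD3_c61)) = (LP (LK LD1_c21 LD2_c40 LD3_c13)) :=
  Lre_e IH (LK LD1_c12 LD2_c33 LD3_c61) (LK LD1_c21 LD2_c40 LD3_c13) Lrfl Lrfl
theorem f655689 : Led Lsl_ct (LP (LK LD1_c21 LD2_c40 LD3_c13)) = (LP (LK LD1_c14 LD2_c41 LD3_c18)) :=
  Lgr Lrot15 (Lpe (f486765 IH) (Lpr_cf (K33.f486761 IH) (Lpr_ef (f655687 IH) (Lpn (LP (LK LD1_c14 LD2_c41 LD3_c18))))))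
theorem f661680 : Led Lsl_df (LP (LK LD1_c3 LD2_c40 LD3_c58)) = v7172 :=
  Lgr Lrot38 (Lpr_dt (f661678 IH) (Lpn v7172))
def v7619 : LQ := Led Lsl_dt (LP (LK LD1_c3 LD2_c53 LD3_c25))
theorem f667325 : Led Lsl_dt (LP (LK LD1_c3 LD2_c53 LD3_c25)) = v7619 :=
  Lrfl
theorem f108795 : Led Lsl_et (LP (LK LD1_c1 LD2_c47 LD3_c26)) = (LP (LK LD1_c0 LD2_c50 LD3_c30)) :=
  Lre_e IH (LK LD1_c1 LD2_c47 LD3_c26) (LK LD1_c0 LD2_c50 LD3_c30) Lrfl Lrfl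
theorem f667329 : Led Lsl_gf K34.v2520 = v7619 :=
  Lgr Lrot134 (Lpe (K34.f523752 IH) (Lpr_et (f108795 IH) (Lpe (K3.f108796 IH) (Lpe (K3.f85200 IH) (Lpr_dt (K3.f85201 IH) (Lpr_gt (K29.f85212 IH) (Lpe (K47.f85214 IH) (Lpe (f524207 IH) (Lpe (f661965 IH) (Lpr_dt (f667325 IH) (Lpn v7619)))))))))))
theorem f668037 : Led Lsl_cf (LP (LK LD1_c7 LD2_c37 LD3_c41)) = v7727 :=
  Lgr Lrot166 (Lpe (f661965 IH) (Lpr_dt (f667325 IH) (Lpe (f667329 IH) (Lpe (K34.f523754 IH) (Lpr_ct (K46.f108809 IH) (Lpr_df (f661680 IH) (Lpe (f661681 IH) (Lpe (f470934 IH) (Lpr_gf (f668034 IH) (Lpn v7727))))))))))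
theorem f527151 : Led Lsl_bt (LP (LK LD1_c7 LD2_c11 LD3_c15)) = (LP (LK LD1_c13 LD2_c37 LD3_c5)) :=
  Lre_b IH (LK LD1_c7 LD2_c11 LD3_c15) (LK LD1_c13 LD2_c37 LD3_c5) Lrfl Lrfl
theorem f668047 : Led Lsl_gf (LP (LK LD1_c21 LD2_c40 LD3_c13)) = (LP (LK LD1_c13 LD2_c37 LD3_c5)) :=
  Lgr Lrot181 (Lpr_ct (f655689 IH) (Lpr_gt (f475724 IH) (Lpe (f475672 IH) (Lpr_bt (f474064 IH) (Lpe (f475883 IH) (Lpr_bf (f668043 IH) (Lpe (f668037 IH) (Lpe (f661965 IH) (Lpr_cf (K41.f527154 IH) (Lpr_bt (f527151 IH) (Lpn (LP (LK LD1_c13 LD2_c37 LD3_c5)))))))))))))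
theorem f668048 : Led Lsl_gt (LP (LK LD1_c13 LD2_c37 LD3_c5)) = (LP (LK LD1_c21 LD2_c40 LD3_c13)) :=
  Leop (Lpr_gf (f668047 IH) (Lpn (LP (LK LD1_c13 LD2_c37 LD3_c5))))
theorem seed_524 : LEOK LG_g (LK LD1_c13 LD2_c37 LD3_c5) :=
  Leoe_g (LK LD1_c13 LD2_c37 LD3_c5) (f668048 IH)
def v7755 : LQ := Led Lsl_gt (LP (LK LD1_c3 LD2_c56 LD3_c39))
theorem f668220 : Led Lsl_gt (LP (LK LD1_c3 LD2_c56 LD3_c39)) = v7755 :=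
  Lrfl
theorem f471573 : Led Lsl_bt (LP (LK LD1_c13 LD2_c59 LD3_c45)) = (LP (LK LD1_c7 LD2_c24 LD3_c1)) :=
  Lre_b IH (LK LD1_c13 LD2_c59 LD3_c45) (LK LD1_c7 LD2_c24 LD3_c1) Lrfl Lrfl
theorem f456555 : Led Lsl_ct (LP (LK LD1_c13 LD2_c59 LD3_c45)) = (LP (LK LD1_c23 LD2_c31 LD3_c46)) :=
  Lre_c IH (LK LD1_c13 LD2_c59 LD3_c45) (LK LD1_c23 LD2_c31 LD3_c46) Lrfl Lrfl
theorem f11752 : Led Lsl_gt (LP (LK LD1_c13 LD2_c29 LD3_c19)) = (LP (LK LD1_c7 LD2_c7 LD3_c4)) :=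
  Lre_g IH (LK LD1_c13 LD2_c29 LD3_c19) (LK LD1_c7 LD2_c7 LD3_c4) Lrfl Lrfl
theorem f11753 : Led Lsl_dt (LP (LK LD1_c22 LD2_c49 LD3_c44)) = (LP (LK LD1_c13 LD2_c29 LD3_c19)) :=
  Lre_d IH (LK LD1_c22 LD2_c49 LD3_c44) (LK LD1_c13 LD2_c29 LD3_c19) Lrfl Lrfl
theorem f621896 : Led Lsl_ef (LP (LK LD1_c13 LD2_c38 LD3_c12)) = (LP (LK LD1_c22 LD2_c49 LD3_c44)) :=
  Lgr Lrot17 (Lpe (K37.f116247 IH) (Lpe (K33.f116240 IH) (Lpr_dt (K36.f540313 IH) (Lpe (K11.f210473 IH) (Lpe (K39.f210525 IH) (Lpq (K39.f542981 IH) (Lpe (K39.f514920 IH) (Lpe (K8.f11740 IH) (Lpr_dt (K29.f11736 IH) (Lpe (f11752 IH) (Lpe (f11753 IH) (Lpn (LP (LK LD1_c22 LD2_c49 LD3_c44))))))))))))))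
theorem f469295 : Led Lsl_et (LP (LK LD1_c7 LD2_c27 LD3_c47)) = (LP (LK LD1_c14 LD2_c5 LD3_c18)) :=
  Lre_e IH (LK LD1_c7 LD2_c27 LD3_c47) (LK LD1_c14 LD2_c5 LD3_c18) Lrfl Lrfl
theorem f621901 : Led Lsl_ct (LP (LK LD1_c14 LD2_c5 LD3_c18)) = (LP (LK LD1_c22 LD2_c49 LD3_c44)) :=
  Lgr Lrot15 (Lpe (f469295 IH) (Lpr_cf (K37.f469275 IH) (Lpr_ef (f621896 IH) (Lpn (LP (LK LD1_c22 LD2_c49 LD3_c44))))))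
theorem f547020 : Led Lsl_df (LP (LK LD1_c7 LD2_c8 LD3_c3)) = (LP (LK LD1_c11 LD2_c23 LD3_c31)) :=
  Lgr Lrot38 (Lpr_dt (K38.f547016 IH) (Lpn (LP (LK LD1_c11 LD2_c23 LD3_c31))))
theorem f469279 : Led Lsl_et (LP (LK LD1_c14 LD2_c5 LD3_c18)) = (LP (LK LD1_c7 LD2_c27 LD3_c47)) :=
  Lre_e IH (LK LD1_c14 LD2_c5 LD3_c18) (LK LD1_c7 LD2_c27 LD3_c47) Lrfl Lrfl
theorem f462520 : Led Lsl_dt (LP (LK LD1_c3 LD2_c56 LD3_c7)) = (LP (LK LD1_c7 LD2_c53 LD3_c59)) :=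
  Lre_d IH (LK LD1_c3 LD2_c56 LD3_c7) (LK LD1_c7 LD2_c53 LD3_c59) Lrfl Lrfl
theorem f554212 : Led Lsl_dt (LP (LK LD1_c14 LD2_c5 LD3_c18)) = (LP (LK LD1_c14 LD2_c53 LD3_c58)) :=
  Lgr Lrot37 (Lpr_et (f469279 IH) (Lpr_gt (K37.f469280 IH) (Lpr_dt (K39.f439569 IH) (Lpr_gt (K37.f469281 IH) (Lpe (K39.f554197 IH) (Lpr_et (K39.f554206 IH) (Lpe (K29.f470837 IH) (Lpr_ef (K29.f462630 IH) (Lpr_dt (f462520 IH) (Lpr_gt (K28.f462521 IH) (Lpn (LP (LK LD1_c14 LD2_c53 LD3_c58)))))))))))))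
theorem f610712 : Led Lsl_gt (LP (LK LD1_c13 LD2_c25 LD3_c10)) = (LP (LK LD1_c14 LD2_c5 LD3_c18)) :=
  Lgr Lrot94 (Lpe (K47.f529195 IH) (Lpr_gt (K47.f610710 IH) (Lpr_dt (K43.f547026 IH) (Lpr_gt (K43.f411489 IH) (Lpe (f547020 IH) (Lpr_cf (K28.f108130 IH) (Lpe (K28.f108133 IH) (Lpr_gf (K47.f462522 IH) (Lpe (f554212 IH) (Lpn (LP (LK LD1_c14 LD2_c5 LD3_c18))))))))))))
theorem f459219 : Led Lsl_ct (LP (LK LD1_c7 LD2_c4 LD3_c43)) = (LP (LK LD1_c3 LD2_c31 LD3_c30)) :=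
  Lre_c IH (LK LD1_c7 LD2_c4 LD3_c43) (LK LD1_c3 LD2_c31 LD3_c30) Lrfl Lrfl
theorem f621946 : Led Lsl_gf (LP (LK LD1_c13 LD2_c47 LD3_c0)) = (LP (LK LD1_c22 LD2_c49 LD3_c44)) :=
  Lgr Lrot129 (Lpe (K34.f456534 IH) (Lpr_bt (K46.f456518 IH) (Lpe (K29.f483720 IH) (Lpr_bf (f458921 IH) (Lpr_ct (K28.f12141 IH) (Lpr_gt (K28.f455621 IH) (Lpe (f459219 IH) (Lpr_bt (K42.f459220 IH) (Lpr_gt (f610712 IH) (Lpr_ct (f621901 IH) (Lpn (LP (LK LD1_c22 LD2_c49 LD3_c44)))))))))))))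
theorem f456554 : Led Lsl_dt (LP (LK LD1_c7 LD2_c23 LD3_c60)) = (LP (LK LD1_c13 LD2_c59 LD3_c45)) :=
  Lre_d IH (LK LD1_c7 LD2_c23 LD3_c60) (LK LD1_c13 LD2_c59 LD3_c45) Lrfl Lrfl
theorem f456539 : Led Lsl_ct (LP (LK LD1_c23 LD2_c31 LD3_c46)) = (LP (LK LD1_c13 LD2_c59 LD3_c45)) :=
  Lre_c IH (LK LD1_c23 LD2_c31 LD3_c46) (LK LD1_c13 LD2_c59 LD3_c45) Lrfl Lrfl
theorem f480449 : Led Lsl_dt (LP (LK LD1_c22 LD2_c43 LD3_c57)) = (LP (LK LD1_c13 LD2_c25 LD3_c10)) :=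
  Lre_d IH (LK LD1_c22 LD2_c43 LD3_c57) (LK LD1_c13 LD2_c25 LD3_c10) Lrfl Lrfl
theorem f159503 : Led Lsl_ct (LP (LK LD1_c14 LD2_c1 LD3_c61)) = (LP (LK LD1_c23 LD2_c34 LD3_c55)) :=
  Lre_c IH (LK LD1_c14 LD2_c1 LD3_c61) (LK LD1_c23 LD2_c34 LD3_c55) Lrfl Lrfl
theorem f621948 : Led Lsl_gf (LP (LK LD1_c23 LD2_c31 LD3_c46)) = (LP (LK LD1_c23 LD2_c34 LD3_c55)) :=
  Lgr Lrot104 (Lpr_ct (f456539 IH) (Lpe (f456554 IH) (Lpr_cf (K46.f456522 IH) (Lpr_gf (f621946 IH) (Lpe (f621901 IH) (Lpe (f610712 IH) (Lpe (f480449 IH) (Lpr_gt (K47.f611248 IH) (Lpr_ct (f159503 IH) (Lpn (LP (LK LD1_c23 LD2_c34 LD3_c55))))))))))))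
theorem f668225 : Led Lsl_ct (LP (LK LD1_c13 LD2_c25 LD3_c11)) = v7755 :=
  Lgr Lrot10 (Lpr_bt (K47.f529147 IH) (Lpr_gt (K47.f611248 IH) (Lpr_ct (f159503 IH) (Lpe (f621948 IH) (Lpe (f456555 IH) (Lpr_bt (f471573 IH) (Lpr_gt (K34.f471568 IH) (Lpe (K32.f451631 IH) (Lpr_ct (K28.f11334 IH) (Lpr_gt (f668220 IH) (Lpn v7755)))))))))))
theorem f462783 : Led Lsl_dt (LP (LK LD1_c14 LD2_c1 LD3_c61)) = (LP (LK LD1_c7 LD2_c25 LD3_c15)) :=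
  Lre_d IH (LK LD1_c14 LD2_c1 LD3_c61) (LK LD1_c7 LD2_c25 LD3_c15) Lrfl Lrfl
theorem f425454 : Led Lsl_dt (LP (LK LD1_c7 LD2_c20 LD3_c25)) = (LP (LK LD1_c13 LD2_c52 LD3_c53)) :=
  Lre_d IH (LK LD1_c7 LD2_c20 LD3_c25) (LK LD1_c13 LD2_c52 LD3_c53) Lrfl Lrfl
theorem f471718 : Led Lsl_bf (LP (LK LD1_c14 LD2_c1 LD3_c61)) = (LP (LK LD1_c13 LD2_c52 LD3_c53)) :=
  Lgr Lrot93 (Lpr_dt (f462783 IH) (Lpr_bt (K29.f471714 IH) (Lpr_dt (f425454 IH) (Lpn (LP (LK LD1_c13 LD2_c52 LD3_c53))))))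
theorem f471281 : Led Lsl_ct (LP (LK LD1_c13 LD2_c52 LD3_c53)) = (LP (LK LD1_c23 LD2_c22 LD3_c53)) :=
  Lre_c IH (LK LD1_c13 LD2_c52 LD3_c53) (LK LD1_c23 LD2_c22 LD3_c53) Lrfl Lrfl
theorem f451990 : Led Lsl_bt (LP (LK LD1_c7 LD2_c55 LD3_c0)) = (LP (LK LD1_c3 LD2_c56 LD3_c38)) :=
  Lre_b IH (LK LD1_c7 LD2_c55 LD3_c0) (LK LD1_c3 LD2_c56 LD3_c38) Lrfl Lrfl
theorem f451991 : Led Lsl_ct (LP (LK LD1_c7 LD2_c55 LD3_c0)) = (LP (LK LD1_c14 LD2_c56 LD3_c7)) :=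
  Lre_c IH (LK LD1_c7 LD2_c55 LD3_c0) (LK LD1_c14 LD2_c56 LD3_c7) Lrfl Lrfl
theorem f668230 : Led Lsl_gt (LP (LK LD1_c23 LD2_c22 LD3_c53)) = (LP (LK LD1_c14 LD2_c56 LD3_c7)) :=
  Lgr Lrot65 (Lpe (f471281 IH) (Lpe (f471718 IH) (Lpe (K47.f611248 IH) (Lpe (K47.f529147 IH) (Lpr_ct (f668225 IH) (Lpe (f668220 IH) (Lpe (K28.f11334 IH) (Lpe (K33.f11343 IH) (Lpe (f451990 IH) (Lpr_ct (f451991 IH) (Lpn (LP (LK LD1_c14 LD2_c56 LD3_c7)))))))))))))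
theorem f668231 : Led Lsl_gt (LP (LK LD1_c23 LD2_c22 LD3_c53)) = (LP (LK LD1_c14 LD2_c56 LD3_c7)) :=
  Leop (Lpe (f668230 IH) (Lpn (LP (LK LD1_c23 LD2_c22 LD3_c53))))
theorem seed_525 : LEOK LG_g (LK LD1_c23 LD2_c22 LD3_c53) :=
  Leoe_g (LK LD1_c23 LD2_c22 LD3_c53) (f668231 IH)
def v1391 : LQ := Led Lsl_et (LP (LK LD1_c1 LD2_c11 LD3_c3))
def v7930 : LQ := Led Lsl_ft v1391
theorem f669026 : Led Lsl_ft v1391 = v7930 :=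
  Lrfl
theorem f669030 : Led Lsl_ff v1391 = v7930 :=
  Lgr Lrot3 (Lpr_ft (f669026 IH) (Lpn v7930))
theorem f495310 : Led Lsl_et (LP (LK LD1_c1 LD2_c11 LD3_c3)) = v1391 :=
  Lrfl
theorem f495312 : Led Lsl_ef (LP (LK LD1_c1 LD2_c11 LD3_c3)) = v1391 :=
  Lgr Lrot88 (Lpr_et (f495310 IH) (Lpn v1391))
def v1390 : LQ := Led Lsl_ft (LP (LK LD1_c1 LD2_c11 LD3_c2))
theorem f495302 : Led Lsl_ft (LP (LK LD1_c1 LD2_c11 LD3_c2)) = v1390 :=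
  Lrfl
theorem f495305 : Led Lsl_ff (LP (LK LD1_c1 LD2_c11 LD3_c2)) = v1390 :=
  Lgr Lrot3 (Lpr_ft (f495302 IH) (Lpn v1390))
def v1389 : LQ := Led Lsl_at (LP (LK LD1_c1 LD2_c11 LD3_c2))
theorem f495294 : Led Lsl_at (LP (LK LD1_c1 LD2_c11 LD3_c2)) = v1389 :=
  Lrfl
theorem f415648 : Led Lsl_ct (LP (LK LD1_c0 LD2_c44 LD3_c61)) = (LP (LK LD1_c1 LD2_c11 LD3_c2)) :=
  Lgr Lrot59 (Lpr_cf (K32.f415642 IH) (Lpn (LP (LK LD1_c1 LD2_c11 LD3_c2))))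
theorem f495297 : Led Lsl_cf K35.v567 = v1389 :=
  Lgr Lrot1 (Lpe (K35.f454800 IH) (Lpr_ct (f415648 IH) (Lpr_at (f495294 IH) (Lpn v1389))))
theorem f495299 : Led Lsl_ft (LP (LK LD1_c1 LD2_c11 LD3_c3)) = v1389 :=
  Lgr Lrot4 (Lpe (K46.f140864 IH) (Lpr_ff (K35.f454802 IH) (Lpr_cf (f495297 IH) (Lpn v1389))))
theorem f495300 : Led Lsl_ff (LP (LK LD1_c1 LD2_c11 LD3_c3)) = v1389 :=
  Lgr Lrot3 (Lpr_ft (f495299 IH) (Lpn v1389))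
theorem f495306 : Led Lsl_at (LP (LK LD1_c1 LD2_c11 LD3_c3)) = v1390 :=
  Lgr Lrot66 (Lpr_ff (f495300 IH) (Lpe (f495294 IH) (Lpr_ff (f495305 IH) (Lpn v1390))))
theorem f495307 : Led Lsl_ct K35.v568 = v1390 :=
  Lgr Lrot40 (Lpe (K35.f454803 IH) (Lpr_cf (K32.f415642 IH) (Lpr_ff (f495305 IH) (Lpn v1390))))
theorem f633567 : v1390 = (LP (LK LD1_c1 LD2_c56 LD3_c36)) :=
  Lefun (Lecon (f495307 IH) (K35.f633556 IH)) (Lfl_cf (K32.f444589 IH))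
def v4072 : LQ := Led Lsl_et (LP (LK LD1_c1 LD2_c56 LD3_c36))
theorem f629283 : Led Lsl_et (LP (LK LD1_c1 LD2_c56 LD3_c36)) = v4072 :=
  Lrfl
theorem f633931 : Led Lsl_af v1391 = v4072 :=
  Lgr Lrot50 (Lpe (f495312 IH) (Lpr_at (f495306 IH) (Lpqs (f633567 IH) (Lpr_et (f629283 IH) (Lpn v4072)))))
theorem f633932 : Led Lsl_at v1391 = v4072 :=
  Lgr Lrot100 (Lpr_af (f633931 IH) (Lpn v4072))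
theorem f40473 : Led Lsl_dt (LP (LK LD1_c1 LD2_c56 LD3_c36)) = (LP (LK LD1_c3 LD2_c59 LD3_c57)) :=
  Lre_d IH (LK LD1_c1 LD2_c56 LD3_c36) (LK LD1_c3 LD2_c59 LD3_c57) Lrfl Lrfl
theorem f140732 : Led Lsl_ft (LP (LK LD1_c3 LD2_c13 LD3_c14)) = (LP (LK LD1_c6 LD2_c30 LD3_c25)) :=
  Lre_f IH (LK LD1_c3 LD2_c13 LD3_c14) (LK LD1_c6 LD2_c30 LD3_c25) Lrfl Lrfl
theorem f505540 : Led Lsl_df (LP (LK LD1_c8 LD2_c0 LD3_c56)) = (LP (LK LD1_c6 LD2_c30 LD3_c25)) :=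
  Lgr Lrot78 (Lpr_ft (K46.f505536 IH) (Lpr_dt (K24.f140723 IH) (Lpr_ft (f140732 IH) (Lpn (LP (LK LD1_c6 LD2_c30 LD3_c25))))))
theorem f503455 : Led Lsl_af (LP (LK LD1_c6 LD2_c30 LD3_c5)) = (LP (LK LD1_c5 LD2_c52 LD3_c46)) :=
  Lgr Lrot0 (Lpr_at (K35.f503447 IH) (Lpn (LP (LK LD1_c5 LD2_c52 LD3_c46))))
theorem f503457 : Led Lsl_ft (LP (LK LD1_c5 LD2_c47 LD3_c41)) = (LP (LK LD1_c5 LD2_c52 LD3_c46)) :=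
  Lgr Lrot101 (Lpr_af (K35.f503429 IH) (Lpe (K35.f503441 IH) (Lpr_af (f503455 IH) (Lpn (LP (LK LD1_c5 LD2_c52 LD3_c46))))))
theorem f505142 : Led Lsl_gf (LP (LK LD1_c6 LD2_c30 LD3_c5)) = (LP (LK LD1_c5 LD2_c52 LD3_c47)) :=
  Lgr Lrot76 (Lpr_af (f503455 IH) (Lpe (f503457 IH) (Lpr_gt (K32.f505140 IH) (Lpn (LP (LK LD1_c5 LD2_c52 LD3_c47))))))
theorem f504014 : Led Lsl_ef (LP (LK LD1_c6 LD2_c30 LD3_c5)) = (LP (LK LD1_c4 LD2_c41 LD3_c7)) :=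
  Lgr Lrot28 (Lpr_ct (K35.f504009 IH) (Lpr_et (K35.f23238 IH) (Lpr_ct (K17.f180337 IH) (Lpn (LP (LK LD1_c4 LD2_c41 LD3_c7))))))
theorem f413809 : Led Lsl_ef (LP (LK LD1_c4 LD2_c49 LD3_c46)) = (LP (LK LD1_c2 LD2_c27 LD3_c46)) :=
  Lgr Lrot88 (Lpr_et (K17.f413764 IH) (Lpn (LP (LK LD1_c2 LD2_c27 LD3_c46))))
theorem f415218 : Led Lsl_et (LP (LK LD1_c2 LD2_c22 LD3_c38)) = (LP (LK LD1_c1 LD2_c11 LD3_c4)) :=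
  Lgr Lrot74 (Lpe (K17.f413669 IH) (Lpr_ef (f413809 IH) (Lpe (K9.f77372 IH) (Lpn (LP (LK LD1_c1 LD2_c11 LD3_c4))))))
theorem f505654 : Led Lsl_gf (LP (LK LD1_c8 LD2_c0 LD3_c56)) = (LP (LK LD1_c3 LD2_c59 LD3_c57)) :=
  Lgr Lrot134 (Lpr_df (f505540 IH) (Lpe (K41.f505496 IH) (Lpe (f505142 IH) (Lpr_ef (f504014 IH) (Lpe (K24.f414438 IH) (Lpe (K17.f414796 IH) (Lpe (K17.f413724 IH) (Lpr_et (f415218 IH) (Lpe (K32.f444578 IH) (Lpr_dt (f40473 IH) (Lpn (LP (LK LD1_c3 LD2_c59 LD3_c57)))))))))))))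
theorem f629287 : Led Lsl_gt K35.v1533 = v4072 :=
  Lgr Lrot131 (Lpe (K35.f496136 IH) (Lpr_dt (K32.f57132 IH) (Lpe (K35.f437476 IH) (Lpe (K35.f503450 IH) (Lpr_gf (f505142 IH) (Lpr_ef (K41.f505496 IH) (Lpe (f505540 IH) (Lpr_gf (f505654 IH) (Lpe (f40473 IH) (Lpr_et (f629283 IH) (Lpn v4072)))))))))))
theorem f669034 : Led Lsl_gf K35.v1533 = v7930 :=
  Lgr Lrot47 (Lpr_gt (f629287 IH) (Lpe (f633932 IH) (Lpr_ff (f669030 IH) (Lpn v7930))))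
theorem f623715 : Led Lsl_at K35.v1951 = K35.v1533 :=
  Lgr Lrot100 (Lpr_af (K35.f623714 IH) (Lpn K35.v1533))
def v4603 : LQ := Led Lsl_dt (LP (LK LD1_c2 LD2_c34 LD3_c12))
theorem f636361 : Led Lsl_dt (LP (LK LD1_c2 LD2_c34 LD3_c12)) = v4603 :=
  Lrfl
theorem f164483 : Led Lsl_bt (LP (LK LD1_c2 LD2_c31 LD3_c14)) = (LP (LK LD1_c5 LD2_c7 LD3_c60)) :=
  Lre_b IH (LK LD1_c2 LD2_c31 LD3_c14) (LK LD1_c5 LD2_c7 LD3_c60) Lrfl Lrfl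
theorem f3207 : Led Lsl_ft (LP (LK LD1_c5 LD2_c8 LD3_c1)) = (LP (LK LD1_c2 LD2_c31 LD3_c14)) :=
  Lre_f IH (LK LD1_c5 LD2_c8 LD3_c1) (LK LD1_c2 LD2_c31 LD3_c14) Lrfl Lrfl
theorem f164484 : Led Lsl_bf (LP (LK LD1_c5 LD2_c8 LD3_c1)) = (LP (LK LD1_c5 LD2_c11 LD3_c42)) :=
  Lgr Lrot61 (Lpr_ft (f3207 IH) (Lpr_bt (f164483 IH) (Lpr_ft (K44.f164478 IH) (Lpn (LP (LK LD1_c5 LD2_c11 LD3_c42))))))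
theorem f3227 : Led Lsl_et (LP (LK LD1_c5 LD2_c8 LD3_c1)) = (LP (LK LD1_c10 LD2_c6 LD3_c38)) :=
  Lre_e IH (LK LD1_c5 LD2_c8 LD3_c1) (LK LD1_c10 LD2_c6 LD3_c38) Lrfl Lrfl
theorem f164509 : Led Lsl_et (LP (LK LD1_c10 LD2_c14 LD3_c13)) = (LP (LK LD1_c5 LD2_c11 LD3_c42)) :=
  Lre_e IH (LK LD1_c10 LD2_c14 LD3_c13) (LK LD1_c5 LD2_c11 LD3_c42) Lrfl Lrfl
theorem f164534 : Led Lsl_bt (LP (LK LD1_c10 LD2_c6 LD3_c38)) = (LP (LK LD1_c10 LD2_c14 LD3_c13)) :=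
  Lgr Lrot119 (Lpe (f3227 IH) (Lpr_bf (f164484 IH) (Lpe (f164509 IH) (Lpn (LP (LK LD1_c10 LD2_c14 LD3_c13))))))
theorem f164545 : Led Lsl_ft (LP (LK LD1_c18 LD2_c25 LD3_c42)) = (LP (LK LD1_c10 LD2_c6 LD3_c38)) :=
  Lre_f IH (LK LD1_c18 LD2_c25 LD3_c42) (LK LD1_c10 LD2_c6 LD3_c38) Lrfl Lrfl
theorem f164491 : Led Lsl_ft (LP (LK LD1_c10 LD2_c14 LD3_c13)) = (LP (LK LD1_c18 LD2_c38 LD3_c1)) :=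
  Lre_f IH (LK LD1_c10 LD2_c14 LD3_c13) (LK LD1_c18 LD2_c38 LD3_c1) Lrfl Lrfl
theorem f164546 : Led Lsl_bf (LP (LK LD1_c18 LD2_c25 LD3_c42)) = (LP (LK LD1_c18 LD2_c38 LD3_c1)) :=
  Lgr Lrot61 (Lpr_ft (f164545 IH) (Lpr_bt (f164534 IH) (Lpr_ft (f164491 IH) (Lpn (LP (LK LD1_c18 LD2_c38 LD3_c1))))))
theorem f151756 : Led Lsl_ct (LP (LK LD1_c18 LD2_c25 LD3_c42)) = (LP (LK LD1_c10 LD2_c6 LD3_c42)) :=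
  Lre_c IH (LK LD1_c18 LD2_c25 LD3_c42) (LK LD1_c10 LD2_c6 LD3_c42) Lrfl Lrfl
theorem f164550 : Led Lsl_bt (LP (LK LD1_c10 LD2_c6 LD3_c42)) = (LP (LK LD1_c5 LD2_c8 LD3_c25)) :=
  Lre_b IH (LK LD1_c10 LD2_c6 LD3_c42) (LK LD1_c5 LD2_c8 LD3_c25) Lrfl Lrfl
theorem f21930 : Led Lsl_ct (LP (LK LD1_c10 LD2_c14 LD3_c15)) = (LP (LK LD1_c18 LD2_c38 LD3_c1)) :=
  Lre_c IH (LK LD1_c10 LD2_c14 LD3_c15) (LK LD1_c18 LD2_c38 LD3_c1) Lrfl Lrfl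
theorem f164551 : Led Lsl_ct (LP (LK LD1_c5 LD2_c8 LD3_c25)) = (LP (LK LD1_c5 LD2_c11 LD3_c51)) :=
  Lgr Lrot83 (Lpe (f164550 IH) (Lpe (f151756 IH) (Lpr_bf (f164546 IH) (Lpe (f21930 IH) (Lpe (K0.f21432 IH) (Lpn (LP (LK LD1_c5 LD2_c11 LD3_c51))))))))
theorem f164556 : Led Lsl_cf (LP (LK LD1_c5 LD2_c8 LD3_c25)) = (LP (LK LD1_c5 LD2_c11 LD3_c51)) :=
  Lgr Lrot11 (Lpr_ct (f164551 IH) (Lpn (LP (LK LD1_c5 LD2_c11 LD3_c51))))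
theorem f163822 : Led Lsl_af (LP (LK LD1_c5 LD2_c4 LD3_c43)) = (LP (LK LD1_c5 LD2_c11 LD3_c51)) :=
  Lgr Lrot45 (Lpr_ft (K0.f21406 IH) (Lpr_at (K8.f163802 IH) (Lpr_ft (K0.f21405 IH) (Lpn (LP (LK LD1_c5 LD2_c11 LD3_c51))))))
theorem f163827 : Led Lsl_at (LP (LK LD1_c5 LD2_c4 LD3_c43)) = (LP (LK LD1_c5 LD2_c11 LD3_c51)) :=
  Lgr Lrot100 (Lpr_af (f163822 IH) (Lpn (LP (LK LD1_c5 LD2_c11 LD3_c51))))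
theorem f163949 : Led Lsl_ct (LP (LK LD1_c5 LD2_c14 LD3_c47)) = (LP (LK LD1_c2 LD2_c34 LD3_c14)) :=
  Lre_c IH (LK LD1_c5 LD2_c14 LD3_c47) (LK LD1_c2 LD2_c34 LD3_c14) Lrfl Lrfl
theorem f163950 : Led Lsl_et (LP (LK LD1_c2 LD2_c34 LD3_c14)) = (LP (LK LD1_c5 LD2_c14 LD3_c51)) :=
  Lre_e IH (LK LD1_c2 LD2_c34 LD3_c14) (LK LD1_c5 LD2_c14 LD3_c51) Lrfl Lrfl
theorem f163951 : Led Lsl_cf (LP (LK LD1_c5 LD2_c4 LD3_c43)) = (LP (LK LD1_c5 LD2_c14 LD3_c51)) :=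
  Lgr Lrot39 (Lpr_et (K10.f163934 IH) (Lpr_ct (f163949 IH) (Lpr_et (f163950 IH) (Lpn (LP (LK LD1_c5 LD2_c14 LD3_c51))))))
theorem f164559 : Led Lsl_at (LP (LK LD1_c5 LD2_c8 LD3_c25)) = (LP (LK LD1_c5 LD2_c14 LD3_c51)) :=
  Lgr Lrot107 (Lpr_cf (f164556 IH) (Lpe (f163827 IH) (Lpr_cf (f163951 IH) (Lpn (LP (LK LD1_c5 LD2_c14 LD3_c51))))))
theorem f22259 : Led Lsl_et (LP (LK LD1_c2 LD2_c31 LD3_c25)) = (LP (LK LD1_c5 LD2_c8 LD3_c25)) :=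
  Lre_e IH (LK LD1_c2 LD2_c31 LD3_c25) (LK LD1_c5 LD2_c8 LD3_c25) Lrfl Lrfl
theorem f164563 : Led Lsl_af (LP (LK LD1_c2 LD2_c31 LD3_c25)) = (LP (LK LD1_c2 LD2_c34 LD3_c14)) :=
  Lgr Lrot50 (Lpr_et (f22259 IH) (Lpr_at (f164559 IH) (Lpr_et (K10.f163959 IH) (Lpn (LP (LK LD1_c2 LD2_c34 LD3_c14))))))
theorem f164384 : Led Lsl_gt (LP (LK LD1_c1 LD2_c14 LD3_c4)) = (LP (LK LD1_c2 LD2_c34 LD3_c12)) :=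
  Lre_g IH (LK LD1_c1 LD2_c14 LD3_c4) (LK LD1_c2 LD2_c34 LD3_c12) Lrfl Lrfl
theorem f164568 : Led Lsl_gf (LP (LK LD1_c2 LD2_c31 LD3_c25)) = (LP (LK LD1_c2 LD2_c34 LD3_c12)) :=
  Lgr Lrot76 (Lpr_af (f164563 IH) (Lpe (K10.f164372 IH) (Lpr_gt (f164384 IH) (Lpn (LP (LK LD1_c2 LD2_c34 LD3_c12))))))
theorem f623723 : Led Lsl_ff (LP (LK LD1_c2 LD2_c31 LD3_c24)) = (LP (LK LD1_c2 LD2_c34 LD3_c12)) :=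
  Lgr Lrot52 (Lpr_at (K35.f623716 IH) (Lpe (K35.f165237 IH) (Lpr_gf (f164568 IH) (Lpn (LP (LK LD1_c2 LD2_c34 LD3_c12))))))
theorem f623726 : Led Lsl_ft (LP (LK LD1_c2 LD2_c31 LD3_c24)) = (LP (LK LD1_c2 LD2_c34 LD3_c12)) :=
  Lgr Lrot48 (Lpr_ff (f623723 IH) (Lpn (LP (LK LD1_c2 LD2_c34 LD3_c12))))
theorem f636364 : Led Lsl_ff K35.v1951 = v4603 :=
  Lgr Lrot19 (Lpe (K35.f506553 IH) (Lpr_ft (f623726 IH) (Lpr_dt (f636361 IH) (Lpn v4603))))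
theorem f669035 : Led Lsl_gt v4603 = v7930 :=
  Lgr Lrot5 (Lpe (f636364 IH) (Lpr_at (f623715 IH) (Lpr_gf (f669034 IH) (Lpn v7930))))
theorem f164391 : Led Lsl_et (LP (LK LD1_c0 LD2_c34 LD3_c19)) = (LP (LK LD1_c1 LD2_c14 LD3_c4)) :=
  Lre_e IH (LK LD1_c0 LD2_c34 LD3_c19) (LK LD1_c1 LD2_c14 LD3_c4) Lrfl Lrfl
theorem f193930 : Led Lsl_gt (LP (LK LD1_c5 LD2_c14 LD3_c19)) = (LP (LK LD1_c2 LD2_c34 LD3_c0)) :=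
  Lre_g IH (LK LD1_c5 LD2_c14 LD3_c19) (LK LD1_c2 LD2_c34 LD3_c0) Lrfl Lrfl
def v7929 : LQ := Led Lsl_dt v1391
theorem f669018 : Led Lsl_dt v1391 = v7929 :=
  Lrfl
theorem f629286 : Led Lsl_ef (LP (LK LD1_c1 LD2_c56 LD3_c36)) = v4072 :=
  Lgr Lrot88 (Lpr_et (f629283 IH) (Lpn v4072))
theorem f165091 : Led Lsl_gt (LP (LK LD1_c2 LD2_c44 LD3_c44)) = (LP (LK LD1_c5 LD2_c37 LD3_c33)) :=
  Lre_g IH (LK LD1_c2 LD2_c44 LD3_c44) (LK LD1_c5 LD2_c37 LD3_c33) Lrfl Lrfl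
theorem f40943 : Led Lsl_et (LP (LK LD1_c1 LD2_c56 LD3_c20)) = (LP (LK LD1_c0 LD2_c54 LD3_c59)) :=
  Lre_e IH (LK LD1_c1 LD2_c56 LD3_c20) (LK LD1_c0 LD2_c54 LD3_c59) Lrfl Lrfl
theorem f40474 : Led Lsl_dt (LP (LK LD1_c3 LD2_c59 LD3_c57)) = (LP (LK LD1_c1 LD2_c56 LD3_c36)) :=
  Lre_d IH (LK LD1_c3 LD2_c59 LD3_c57) (LK LD1_c1 LD2_c56 LD3_c36) Lrfl Lrfl
theorem f171820 : Led Lsl_ef (LP (LK LD1_c5 LD2_c37 LD3_c33)) = (LP (LK LD1_c3 LD2_c59 LD3_c57)) :=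
  Lgr Lrot17 (Lpe (f165091 IH) (Lpe (K17.f165069 IH) (Lpr_dt (K12.f164989 IH) (Lpe (K9.f164710 IH) (Lpe (K9.f165159 IH) (Lpr_gf (K9.f171769 IH) (Lpe (f40943 IH) (Lpr_dt (K24.f40464 IH) (Lpe (K32.f35538 IH) (Lpe (f40474 IH) (Lpn (LP (LK LD1_c3 LD2_c59 LD3_c57)))))))))))))
theorem f165092 : Led Lsl_dt (LP (LK LD1_c5 LD2_c37 LD3_c33)) = (LP (LK LD1_c11 LD2_c6 LD3_c43)) :=
  Lre_d IH (LK LD1_c5 LD2_c37 LD3_c33) (LK LD1_c11 LD2_c6 LD3_c43) Lrfl Lrfl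
theorem f165093 : Led Lsl_dt (LP (LK LD1_c11 LD2_c6 LD3_c43)) = (LP (LK LD1_c5 LD2_c37 LD3_c33)) :=
  Lre_d IH (LK LD1_c11 LD2_c6 LD3_c43) (LK LD1_c5 LD2_c37 LD3_c33) Lrfl Lrfl
theorem f627873 : Led Lsl_ef (LP (LK LD1_c5 LD2_c51 LD3_c53)) = (LP (LK LD1_c11 LD2_c6 LD3_c43)) :=
  Lgr Lrot167 (Lpr_gt (K35.f627871 IH) (Lpr_dt (K17.f22243 IH) (Lpr_gt (K17.f20291 IH) (Lpr_df (K10.f22216 IH) (Lpr_et (K7.f22227 IH) (Lpr_gt (K9.f22231 IH) (Lpe (K17.f22381 IH) (Lpe (K17.f165079 IH) (Lpr_gt (f165091 IH) (Lpe (f165093 IH) (Lpn (LP (LK LD1_c11 LD2_c6 LD3_c43)))))))))))))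
theorem f629289 : Led Lsl_dt (LP (LK LD1_c5 LD2_c51 LD3_c53)) = v4072 :=
  Lgr Lrot77 (Lpr_ef (f627873 IH) (Lpe (f165092 IH) (Lpr_ef (f171820 IH) (Lpe (f40473 IH) (Lpr_ef (f629286 IH) (Lpn v4072))))))
theorem f669019 : Led Lsl_af (LP (LK LD1_c5 LD2_c51 LD3_c53)) = v7929 :=
  Lgr Lrot117 (Lpr_dt (f629289 IH) (Lpe (f633931 IH) (Lpr_dt (f669018 IH) (Lpn v7929))))
theorem f669024 : Led Lsl_ft (LP (LK LD1_c5 LD2_c51 LD3_c54)) = v7929 :=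
  Lgr Lrot2 (Lpr_gt (K35.f163613 IH) (Lpr_gt (K35.f24040 IH) (Lpr_af (f669019 IH) (Lpn v7929))))
theorem f669025 : Led Lsl_ff (LP (LK LD1_c5 LD2_c51 LD3_c54)) = v7929 :=
  Lgr Lrot3 (Lpr_ft (f669024 IH) (Lpn v7929))
theorem f669032 : Led Lsl_dt (LP (LK LD1_c5 LD2_c51 LD3_c54)) = v7930 :=
  Lgr Lrot60 (Lpr_ff (f669025 IH) (Lpe (f669018 IH) (Lpr_ff (f669030 IH) (Lpn v7930))))
theorem f669036 : Led Lsl_ef (LP (LK LD1_c5 LD2_c14 LD3_c19)) = (LP (LK LD1_c5 LD2_c51 LD3_c54)) :=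
  Lgr Lrot114 (Lpr_gt (f193930 IH) (Lpe (K18.f186686 IH) (Lpr_dt (K10.f163769 IH) (Lpr_gt (K10.f56664 IH) (Lpe (K9.f163633 IH) (Lpr_et (f164391 IH) (Lpr_gt (f164384 IH) (Lpr_dt (f636361 IH) (Lpr_gt (f669035 IH) (Lpe (f669032 IH) (Lpn (LP (LK LD1_c5 LD2_c51 LD3_c54)))))))))))))
theorem f669037 : Led Lsl_et (LP (LK LD1_c5 LD2_c51 LD3_c54)) = (LP (LK LD1_c5 LD2_c14 LD3_c19)) :=
  Leop (Lpr_ef (f669036 IH) (Lpn (LP (LK LD1_c5 LD2_c51 LD3_c54))))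
theorem seed_526 : LEOK LG_e (LK LD1_c5 LD2_c51 LD3_c54) :=
  Leoe_e (LK LD1_c5 LD2_c51 LD3_c54) (f669037 IH)
def v7973 : LQ := Led Lsl_gf K37.v1535
theorem f669169 : Led Lsl_gf K37.v1535 = v7973 :=
  Lrfl
theorem f66353 : Led Lsl_gt (LP (LK LD1_c2 LD2_c50 LD3_c20)) = (LP (LK LD1_c5 LD2_c48 LD3_c34)) :=
  Lre_g IH (LK LD1_c2 LD2_c50 LD3_c20) (LK LD1_c5 LD2_c48 LD3_c34) Lrfl Lrfl
theorem f496157 : Led Lsl_ct (LP (LK LD1_c5 LD2_c48 LD3_c34)) = (LP (LK LD1_c11 LD2_c26 LD3_c38)) :=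
  Lre_c IH (LK LD1_c5 LD2_c48 LD3_c34) (LK LD1_c11 LD2_c26 LD3_c38) Lrfl Lrfl
theorem f496158 : Led Lsl_gt (LP (LK LD1_c11 LD2_c26 LD3_c38)) = (LP (LK LD1_c20 LD2_c24 LD3_c30)) :=
  Lre_g IH (LK LD1_c11 LD2_c26 LD3_c38) (LK LD1_c20 LD2_c24 LD3_c30) Lrfl Lrfl
theorem f496155 : Led Lsl_cf (LP (LK LD1_c1 LD2_c21 LD3_c16)) = K37.v1535 :=
  Lgr Lrot11 (Lpr_ct (K37.f496153 IH) (Lpn K37.v1535))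
def v1708 : LQ := Led Lsl_gf (LP (LK LD1_c1 LD2_c24 LD3_c20))
theorem f500962 : Led Lsl_gf (LP (LK LD1_c1 LD2_c24 LD3_c20)) = v1708 :=
  Lrfl
theorem f500963 : Led Lsl_gt (LP (LK LD1_c4 LD2_c38 LD3_c42)) = v1708 :=
  Lgr Lrot5 (Lpr_ft (K11.f26807 IH) (Lpr_at (K16.f210128 IH) (Lpr_gf (f500962 IH) (Lpn v1708))))
theorem f669170 : Led Lsl_ct v1708 = v7973 :=
  Lgr Lrot152 (Lpe (f500963 IH) (Lpe (K11.f150501 IH) (Lpr_gt (K17.f210113 IH) (Lpe (K17.f415427 IH) (Lpr_gt (K16.f57140 IH) (Lpr_ct (K1.f56744 IH) (Lpe (K35.f56700 IH) (Lpr_cf (f496155 IH) (Lpr_gf (f669169 IH) (Lpn v7973))))))))))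
theorem f416822 : Led Lsl_cf (LP (LK LD1_c1 LD2_c36 LD3_c29)) = (LP (LK LD1_c3 LD2_c11 LD3_c33)) :=
  Lgr Lrot11 (Lpr_ct (K32.f416814 IH) (Lpn (LP (LK LD1_c3 LD2_c11 LD3_c33))))
theorem f153726 : Led Lsl_ft (LP (LK LD1_c4 LD2_c43 LD3_c39)) = (LP (LK LD1_c2 LD2_c19 LD3_c34)) :=
  Lre_f IH (LK LD1_c4 LD2_c43 LD3_c39) (LK LD1_c2 LD2_c19 LD3_c34) Lrfl Lrfl
theorem f153727 : Led Lsl_gf (LP (LK LD1_c3 LD2_c11 LD3_c33)) = (LP (LK LD1_c4 LD2_c43 LD3_c39)) :=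
  Lgr Lrot47 (Lpr_gt (K32.f69110 IH) (Lpr_af (K7.f153708 IH) (Lpe (f153726 IH) (Lpn (LP (LK LD1_c4 LD2_c43 LD3_c39))))))
theorem f77740 : Led Lsl_et (LP (LK LD1_c0 LD2_c19 LD3_c0)) = (LP (LK LD1_c0 LD2_c42 LD3_c37)) :=
  Lre_e IH (LK LD1_c0 LD2_c19 LD3_c0) (LK LD1_c0 LD2_c42 LD3_c37) Lrfl Lrfl
theorem f435506 : Led Lsl_gf (LP (LK LD1_c3 LD2_c13 LD3_c5)) = (LP (LK LD1_c3 LD2_c11 LD3_c27)) :=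
  Lgr Lrot134 (Lpe (K32.f435496 IH) (Lpr_et (K32.f435498 IH) (Lpr_gt (K31.f67055 IH) (Lpr_ef (K35.f77725 IH) (Lpr_dt (K2.f67361 IH) (Lpr_gt (K1.f25787 IH) (Lpe (K1.f24983 IH) (Lpr_et (f77740 IH) (Lpr_gt (K32.f67068 IH) (Lpr_dt (K32.f77741 IH) (Lpn (LP (LK LD1_c3 LD2_c11 LD3_c27)))))))))))))
theorem f442896 : Led Lsl_cf (LP (LK LD1_c5 LD2_c57 LD3_c18)) = (LP (LK LD1_c3 LD2_c13 LD3_c5)) :=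
  Lgr Lrot169 (Lpr_gt (K46.f442895 IH) (Lpr_ct (K32.f442877 IH) (Lpe (K29.f135429 IH) (Lpr_cf (f416822 IH) (Lpr_gf (f153727 IH) (Lpe (K32.f150515 IH) (Lpe (K32.f435357 IH) (Lpe (K32.f67069 IH) (Lpe (f435506 IH) (Lpn (LP (LK LD1_c3 LD2_c13 LD3_c5))))))))))))
theorem f500964 : Led Lsl_dt (LP (LK LD1_c2 LD2_c54 LD3_c54)) = v1708 :=
  Lgr Lrot57 (Lpe (K46.f442895 IH) (Lpr_cf (f442896 IH) (Lpr_gt (K11.f13572 IH) (Lpr_dt (K11.f79728 IH) (Lpr_gt (K11.f69072 IH) (Lpr_dt (K9.f25848 IH) (Lpe (K24.f69058 IH) (Lpe (K16.f69071 IH) (Lpr_gf (f500962 IH) (Lpn v1708))))))))))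
theorem f500966 : Led Lsl_df (LP (LK LD1_c2 LD2_c54 LD3_c54)) = v1708 :=
  Lgr Lrot38 (Lpr_dt (f500964 IH) (Lpn v1708))
theorem f507152 : Led Lsl_ff v1708 = (LP (LK LD1_c4 LD2_c38 LD3_c41)) :=
  Lgr Lrot19 (Lpe (f500966 IH) (Lpr_ft (K32.f442925 IH) (Lpr_dt (K41.f507143 IH) (Lpn (LP (LK LD1_c4 LD2_c38 LD3_c41))))))
theorem f641942 : Led Lsl_bf K41.v5035 = v1708 :=
  Lgr Lrot61 (Lpr_ft (K41.f641852 IH) (Lpr_bt (K41.f210149 IH) (Lpe (f507152 IH) (Lpn v1708))))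
theorem f502600 : Led Lsl_bt (LP (LK LD1_c17 LD2_c31 LD3_c35)) = (LP (LK LD1_c9 LD2_c30 LD3_c24)) :=
  Lre_b IH (LK LD1_c17 LD2_c31 LD3_c35) (LK LD1_c9 LD2_c30 LD3_c24) Lrfl Lrfl
theorem f669171 : Led Lsl_cf (LP (LK LD1_c20 LD2_c24 LD3_c30)) = (LP (LK LD1_c17 LD2_c31 LD3_c35)) :=
  Lgr Lrot163 (Lpe (f496158 IH) (Lpe (f496157 IH) (Lpe (f66353 IH) (Lpe (K46.f146407 IH) (Lpr_ct (K37.f496153 IH) (Lpr_gf (f669169 IH) (Lpe (f669170 IH) (Lpe (f641942 IH) (Lpe (K42.f641433 IH) (Lpe (f502600 IH) (Lpn (LP (LK LD1_c17 LD2_c31 LD3_c35)))))))))))))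
theorem f669172 : Led Lsl_ct (LP (LK LD1_c17 LD2_c31 LD3_c35)) = (LP (LK LD1_c20 LD2_c24 LD3_c30)) :=
  Leop (Lpr_cf (f669171 IH) (Lpn (LP (LK LD1_c17 LD2_c31 LD3_c35))))
theorem seed_527 : LEOK LG_c (LK LD1_c17 LD2_c31 LD3_c35) :=
  Leoe_c (LK LD1_c17 LD2_c31 LD3_c35) (f669172 IH)
theorem f104890 : Led Lsl_et (LP (LK LD1_c2 LD2_c27 LD3_c29)) = (LP (LK LD1_c4 LD2_c59 LD3_c12)) :=
  Lre_e IH (LK LD1_c2 LD2_c27 LD3_c29) (LK LD1_c4 LD2_c59 LD3_c12) Lrfl Lrfl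
theorem f79700 : Led Lsl_et (LP (LK LD1_c2 LD2_c27 LD3_c11)) = (LP (LK LD1_c1 LD2_c10 LD3_c50)) :=
  Lre_e IH (LK LD1_c2 LD2_c27 LD3_c11) (LK LD1_c1 LD2_c10 LD3_c50) Lrfl Lrfl
theorem f79701 : Led Lsl_dt (LP (LK LD1_c2 LD2_c27 LD3_c11)) = (LP (LK LD1_c4 LD2_c58 LD3_c44)) :=
  Lre_d IH (LK LD1_c2 LD2_c27 LD3_c11) (LK LD1_c4 LD2_c58 LD3_c44) Lrfl Lrfl
theorem f437479 : Led Lsl_bt (LP (LK LD1_c2 LD2_c50 LD3_c27)) = (LP (LK LD1_c1 LD2_c21 LD3_c14)) :=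
  Lre_b IH (LK LD1_c2 LD2_c50 LD3_c27) (LK LD1_c1 LD2_c21 LD3_c14) Lrfl Lrfl
theorem f437483 : Led Lsl_ct (LP (LK LD1_c2 LD2_c50 LD3_c27)) = (LP (LK LD1_c5 LD2_c48 LD3_c49)) :=
  Lre_c IH (LK LD1_c2 LD2_c50 LD3_c27) (LK LD1_c5 LD2_c48 LD3_c49) Lrfl Lrfl
def v1707 : LQ := Led Lsl_bt (LP (LK LD1_c1 LD2_c24 LD3_c19))
theorem f500960 : Led Lsl_bt (LP (LK LD1_c1 LD2_c24 LD3_c19)) = v1707 :=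
  Lrfl
theorem f669175 : Led Lsl_ct (LP (LK LD1_c20 LD2_c24 LD3_c30)) = (LP (LK LD1_c17 LD2_c31 LD3_c35)) :=
  Lgr Lrot59 (Lpr_cf (f669171 IH) (Lpn (LP (LK LD1_c17 LD2_c31 LD3_c35))))
theorem f57520 : Led Lsl_dt (LP (LK LD1_c2 LD2_c50 LD3_c20)) = (LP (LK LD1_c1 LD2_c21 LD3_c11)) :=
  Lre_d IH (LK LD1_c2 LD2_c50 LD3_c20) (LK LD1_c1 LD2_c21 LD3_c11) Lrfl Lrfl
theorem f57513 : Led Lsl_ct (LP (LK LD1_c2 LD2_c50 LD3_c18)) = (LP (LK LD1_c5 LD2_c48 LD3_c27)) :=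
  Lre_c IH (LK LD1_c2 LD2_c50 LD3_c18) (LK LD1_c5 LD2_c48 LD3_c27) Lrfl Lrfl
theorem f57514 : Led Lsl_gt (LP (LK LD1_c5 LD2_c48 LD3_c27)) = (LP (LK LD1_c11 LD2_c26 LD3_c22)) :=
  Lre_g IH (LK LD1_c5 LD2_c48 LD3_c27) (LK LD1_c11 LD2_c26 LD3_c22) Lrfl Lrfl
theorem f501955 : Led Lsl_dt (LP (LK LD1_c9 LD2_c30 LD3_c15)) = (LP (LK LD1_c17 LD2_c31 LD3_c35)) :=
  Lre_d IH (LK LD1_c9 LD2_c30 LD3_c15) (LK LD1_c17 LD2_c31 LD3_c35) Lrfl Lrfl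
theorem f669186 : Led Lsl_ct (LP (LK LD1_c11 LD2_c26 LD3_c22)) = (LP (LK LD1_c9 LD2_c30 LD3_c15)) :=
  Lgr Lrot110 (Lpe (f57514 IH) (Lpe (f57513 IH) (Lpe (K7.f57147 IH) (Lpe (f57520 IH) (Lpr_gt (f66353 IH) (Lpr_ct (f496157 IH) (Lpr_gt (f496158 IH) (Lpr_ct (f669175 IH) (Lpe (f501955 IH) (Lpn (LP (LK LD1_c9 LD2_c30 LD3_c15))))))))))))
theorem f669191 : Led Lsl_cf (LP (LK LD1_c11 LD2_c26 LD3_c22)) = (LP (LK LD1_c9 LD2_c30 LD3_c15)) :=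
  Lgr Lrot11 (Lpr_ct (f669186 IH) (Lpn (LP (LK LD1_c9 LD2_c30 LD3_c15))))
theorem f57114 : Led Lsl_bt (LP (LK LD1_c0 LD2_c37 LD3_c30)) = (LP (LK LD1_c1 LD2_c21 LD3_c11)) :=
  Lre_b IH (LK LD1_c0 LD2_c37 LD3_c30) (LK LD1_c1 LD2_c21 LD3_c11) Lrfl Lrfl
theorem f75822 : Led Lsl_gt (LP (LK LD1_c2 LD2_c56 LD3_c17)) = (LP (LK LD1_c1 LD2_c24 LD3_c1)) :=
  Lre_g IH (LK LD1_c2 LD2_c56 LD3_c17) (LK LD1_c1 LD2_c24 LD3_c1) Lrfl Lrfl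
theorem f502750 : Led Lsl_gt (LP (LK LD1_c4 LD2_c48 LD3_c58)) = (LP (LK LD1_c2 LD2_c56 LD3_c17)) :=
  Lgr Lrot5 (Lpr_ft (K40.f495132 IH) (Lpq (K40.f501396 IH) (Lpe (K40.f500802 IH) (Lpe (f75822 IH) (Lpn (LP (LK LD1_c2 LD2_c56 LD3_c17)))))))
theorem f669222 : v1707 = (LP (LK LD1_c2 LD2_c56 LD3_c17)) :=
  (Llr Lrot92 (Lpe (f500960 IH) (Lpe (K17.f415427 IH) (Lpr_gt (K16.f57140 IH) (Lpr_cf (K32.f57118 IH) (Lpr_bt (f57114 IH) (Lpr_gt (K7.f57147 IH) (Lpr_ct (f57513 IH) (Lpr_gt (f57514 IH) (Lpr_cf (f669191 IH) (Lpr_bt (K37.f501905 IH) (Lpr_gt (f502750 IH) (Lpn (LP (LK LD1_c2 LD2_c56 LD3_c17))))))))))))))).symm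
theorem f500803 : Led Lsl_bt (LP (LK LD1_c2 LD2_c56 LD3_c10)) = (LP (LK LD1_c1 LD2_c24 LD3_c1)) :=
  Lre_b IH (LK LD1_c2 LD2_c56 LD3_c10) (LK LD1_c1 LD2_c24 LD3_c1) Lrfl Lrfl
theorem f502511 : Led Lsl_ct (LP (LK LD1_c2 LD2_c56 LD3_c10)) = (LP (LK LD1_c5 LD2_c59 LD3_c38)) :=
  Lre_c IH (LK LD1_c2 LD2_c56 LD3_c10) (LK LD1_c5 LD2_c59 LD3_c38) Lrfl Lrfl
theorem f669274 : Led Lsl_gf (LP (LK LD1_c5 LD2_c48 LD3_c49)) = (LP (LK LD1_c5 LD2_c59 LD3_c38)) :=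
  Lgr Lrot126 (Lpe (f437483 IH) (Lpr_bt (f437479 IH) (Lpe (K24.f437474 IH) (Lpr_ct (K24.f146072 IH) (Lpr_gt (K24.f416812 IH) (Lpr_cf (K17.f415427 IH) (Lpr_bt (f500960 IH) (Lpqs (f669222 IH) (Lpr_gt (f75822 IH) (Lpe (f500803 IH) (Lpr_ct (f502511 IH) (Lpn (LP (LK LD1_c5 LD2_c59 LD3_c38))))))))))))))
theorem f669276 : Led Lsl_gt (LP (LK LD1_c5 LD2_c48 LD3_c49)) = (LP (LK LD1_c9 LD2_c49 LD3_c48)) :=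
  Lgr Lrot46 (Lpr_gf (f669274 IH) (Lpr_ft (K42.f502452 IH) (Lpe (K42.f502497 IH) (Lpn (LP (LK LD1_c9 LD2_c49 LD3_c48))))))
theorem f57224 : Led Lsl_bt (LP (LK LD1_c1 LD2_c21 LD3_c11)) = (LP (LK LD1_c0 LD2_c37 LD3_c30)) :=
  Lre_b IH (LK LD1_c1 LD2_c21 LD3_c11) (LK LD1_c0 LD2_c37 LD3_c30) Lrfl Lrfl
theorem f57115 : Led Lsl_ct (LP (LK LD1_c1 LD2_c21 LD3_c11)) = (LP (LK LD1_c2 LD2_c50 LD3_c17)) :=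
  Lre_c IH (LK LD1_c1 LD2_c21 LD3_c11) (LK LD1_c2 LD2_c50 LD3_c17) Lrfl Lrfl
theorem f57240 : Led Lsl_gt (LP (LK LD1_c5 LD2_c48 LD3_c23)) = (LP (LK LD1_c2 LD2_c50 LD3_c17)) :=
  Lre_g IH (LK LD1_c5 LD2_c48 LD3_c23) (LK LD1_c2 LD2_c50 LD3_c17) Lrfl Lrfl
theorem f502460 : Led Lsl_ct (LP (LK LD1_c11 LD2_c43 LD3_c52)) = (LP (LK LD1_c5 LD2_c59 LD3_c42)) :=
  Lre_c IH (LK LD1_c11 LD2_c43 LD3_c52) (LK LD1_c5 LD2_c59 LD3_c42) Lrfl Lrfl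
theorem f502500 : Led Lsl_cf (LP (LK LD1_c9 LD2_c49 LD3_c48)) = (LP (LK LD1_c11 LD2_c43 LD3_c45)) :=
  Lgr Lrot1 (Lpr_at (K42.f502492 IH) (Lpr_ct (f502460 IH) (Lpr_at (K37.f501903 IH) (Lpn (LP (LK LD1_c11 LD2_c43 LD3_c45))))))
theorem f501911 : Led Lsl_gt (LP (LK LD1_c17 LD2_c31 LD3_c28)) = (LP (LK LD1_c9 LD2_c30 LD3_c13)) :=
  Lre_g IH (LK LD1_c17 LD2_c31 LD3_c28) (LK LD1_c9 LD2_c30 LD3_c13) Lrfl Lrfl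
theorem f669283 : Led Lsl_cf (LP (LK LD1_c5 LD2_c48 LD3_c23)) = (LP (LK LD1_c9 LD2_c30 LD3_c13)) :=
  Lgr Lrot125 (Lpr_gt (f57240 IH) (Lpe (f57115 IH) (Lpr_bt (f57224 IH) (Lpr_gt (K24.f56661 IH) (Lpe (f437479 IH) (Lpr_ct (f437483 IH) (Lpr_gt (f669276 IH) (Lpr_cf (f502500 IH) (Lpr_bt (K37.f501900 IH) (Lpr_gt (f501911 IH) (Lpn (LP (LK LD1_c9 LD2_c30 LD3_c13)))))))))))))
theorem f57225 : Led Lsl_ct (LP (LK LD1_c2 LD2_c50 LD3_c17)) = (LP (LK LD1_c1 LD2_c21 LD3_c11)) :=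
  Lre_c IH (LK LD1_c2 LD2_c50 LD3_c17) (LK LD1_c1 LD2_c21 LD3_c11) Lrfl Lrfl
theorem f544127 : Led Lsl_gt (LP (LK LD1_c11 LD2_c26 LD3_c45)) = (LP (LK LD1_c5 LD2_c48 LD3_c36)) :=
  Lre_g IH (LK LD1_c11 LD2_c26 LD3_c45) (LK LD1_c5 LD2_c48 LD3_c36) Lrfl Lrfl
theorem f501919 : Led Lsl_dt (LP (LK LD1_c27 LD2_c21 LD3_c6)) = (LP (LK LD1_c17 LD2_c31 LD3_c28)) :=
  Lre_d IH (LK LD1_c27 LD2_c21 LD3_c6) (LK LD1_c17 LD2_c31 LD3_c28) Lrfl Lrfl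
theorem f501968 : Led Lsl_gt (LP (LK LD1_c27 LD2_c21 LD3_c6)) = (LP (LK LD1_c17 LD2_c31 LD3_c33)) :=
  Lre_g IH (LK LD1_c27 LD2_c21 LD3_c6) (LK LD1_c17 LD2_c31 LD3_c33) Lrfl Lrfl
theorem f669291 : Led Lsl_cf (LP (LK LD1_c11 LD2_c26 LD3_c45)) = (LP (LK LD1_c17 LD2_c31 LD3_c33)) :=
  Lgr Lrot169 (Lpr_gt (f544127 IH) (Lpr_ct (K37.f496154 IH) (Lpe (K7.f66352 IH) (Lpe (f57225 IH) (Lpe (f57240 IH) (Lpr_cf (f669283 IH) (Lpe (f501911 IH) (Lpe (f501919 IH) (Lpr_gt (f501968 IH) (Lpn (LP (LK LD1_c17 LD2_c31 LD3_c33))))))))))))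
theorem f496162 : Led Lsl_ct (LP (LK LD1_c2 LD2_c50 LD3_c20)) = (LP (LK LD1_c5 LD2_c48 LD3_c36)) :=
  Lre_c IH (LK LD1_c2 LD2_c50 LD3_c20) (LK LD1_c5 LD2_c48 LD3_c36) Lrfl Lrfl
theorem f146431 : Led Lsl_bt (LP (LK LD1_c5 LD2_c48 LD3_c60)) = (LP (LK LD1_c2 LD2_c50 LD3_c32)) :=
  Lre_b IH (LK LD1_c5 LD2_c48 LD3_c60) (LK LD1_c2 LD2_c50 LD3_c32) Lrfl Lrfl
theorem f146434 : Led Lsl_ct (LP (LK LD1_c5 LD2_c48 LD3_c60)) = (LP (LK LD1_c11 LD2_c27 LD3_c21)) :=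
  Lre_c IH (LK LD1_c5 LD2_c48 LD3_c60) (LK LD1_c11 LD2_c27 LD3_c21) Lrfl Lrfl
theorem f186092 : Led Lsl_gt (LP (LK LD1_c11 LD2_c27 LD3_c21)) = (LP (LK LD1_c20 LD2_c25 LD3_c19)) :=
  Lre_g IH (LK LD1_c11 LD2_c27 LD3_c21) (LK LD1_c20 LD2_c25 LD3_c19) Lrfl Lrfl
theorem f75812 : Led Lsl_bt (LP (LK LD1_c5 LD2_c59 LD3_c41)) = (LP (LK LD1_c2 LD2_c56 LD3_c18)) :=
  Lre_b IH (LK LD1_c5 LD2_c59 LD3_c41) (LK LD1_c2 LD2_c56 LD3_c18) Lrfl Lrfl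
theorem f136290 : Led Lsl_at (LP (LK LD1_c9 LD2_c30 LD3_c14)) = (LP (LK LD1_c17 LD2_c31 LD3_c27)) :=
  Lre_a IH (LK LD1_c9 LD2_c30 LD3_c14) (LK LD1_c17 LD2_c31 LD3_c27) Lrfl Lrfl
theorem f559306 : Led Lsl_bf (LP (LK LD1_c11 LD2_c28 LD3_c13)) = (LP (LK LD1_c17 LD2_c31 LD3_c27)) :=
  Lgr Lrot81 (Lpr_at (K42.f559302 IH) (Lpr_bt (f75812 IH) (Lpr_at (K40.f502603 IH) (Lpr_bt (K40.f136300 IH) (Lpr_at (f136290 IH) (Lpn (LP (LK LD1_c17 LD2_c31 LD3_c27))))))))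
theorem f502533 : Led Lsl_ft (LP (LK LD1_c27 LD2_c21 LD3_c6)) = (LP (LK LD1_c17 LD2_c31 LD3_c27)) :=
  Lre_f IH (LK LD1_c27 LD2_c21 LD3_c6) (LK LD1_c17 LD2_c31 LD3_c27) Lrfl Lrfl
theorem f559320 : Led Lsl_bf (LP (LK LD1_c27 LD2_c21 LD3_c6)) = (LP (LK LD1_c17 LD2_c31 LD3_c46)) :=
  Lgr Lrot61 (Lpr_ft (f502533 IH) (Lpe (f559306 IH) (Lpr_ft (K42.f559316 IH) (Lpn (LP (LK LD1_c17 LD2_c31 LD3_c46))))))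
theorem f669307 : Led Lsl_cf (LP (LK LD1_c20 LD2_c25 LD3_c19)) = (LP (LK LD1_c17 LD2_c31 LD3_c46)) :=
  Lgr Lrot58 (Lpe (f186092 IH) (Lpe (f146434 IH) (Lpr_bt (f146431 IH) (Lpe (K32.f146425 IH) (Lpe (K37.f437494 IH) (Lpr_ct (f496162 IH) (Lpe (f544127 IH) (Lpr_cf (f669291 IH) (Lpe (f501968 IH) (Lpr_bf (f559320 IH) (Lpn (LP (LK LD1_c17 LD2_c31 LD3_c46)))))))))))))
theorem f669311 : Led Lsl_ct (LP (LK LD1_c20 LD2_c25 LD3_c19)) = (LP (LK LD1_c17 LD2_c31 LD3_c46)) :=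
  Lgr Lrot59 (Lpr_cf (f669307 IH) (Lpn (LP (LK LD1_c17 LD2_c31 LD3_c46))))
theorem f104908 : Led Lsl_et (LP (LK LD1_c4 LD2_c59 LD3_c12)) = (LP (LK LD1_c2 LD2_c27 LD3_c29)) :=
  Lre_e IH (LK LD1_c4 LD2_c59 LD3_c12) (LK LD1_c2 LD2_c27 LD3_c29) Lrfl Lrfl
theorem f104891 : Led Lsl_dt (LP (LK LD1_c4 LD2_c59 LD3_c12)) = (LP (LK LD1_c9 LD2_c48 LD3_c52)) :=
  Lre_d IH (LK LD1_c4 LD2_c59 LD3_c12) (LK LD1_c9 LD2_c48 LD3_c52) Lrfl Lrfl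
theorem f186093 : Led Lsl_dt (LP (LK LD1_c11 LD2_c27 LD3_c22)) = (LP (LK LD1_c5 LD2_c48 LD3_c60)) :=
  Lre_d IH (LK LD1_c11 LD2_c27 LD3_c22) (LK LD1_c5 LD2_c48 LD3_c60) Lrfl Lrfl
theorem f644386 : Led Lsl_gt (LP (LK LD1_c9 LD2_c48 LD3_c52)) = (LP (LK LD1_c5 LD2_c48 LD3_c60)) :=
  Lgr Lrot112 (Lpe (f104891 IH) (Lpr_et (f104908 IH) (Lpe (K4.f26416 IH) (Lpe (K1.f40298 IH) (Lpr_dt (K1.f40273 IH) (Lpe (K45.f104911 IH) (Lpe (K45.f104912 IH) (Lpr_gf (K45.f644380 IH) (Lpe (K45.f505773 IH) (Lpr_dt (f186093 IH) (Lpn (LP (LK LD1_c5 LD2_c48 LD3_c60)))))))))))))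
theorem f104903 : Led Lsl_dt (LP (LK LD1_c9 LD2_c48 LD3_c52)) = (LP (LK LD1_c4 LD2_c59 LD3_c12)) :=
  Lre_d IH (LK LD1_c9 LD2_c48 LD3_c52) (LK LD1_c4 LD2_c59 LD3_c12) Lrfl Lrfl
theorem f557435 : Led Lsl_df (LP (LK LD1_c5 LD2_c59 LD3_c35)) = (LP (LK LD1_c11 LD2_c28 LD3_c13)) :=
  Lgr Lrot70 (Lpr_et (K37.f501891 IH) (Lpe (K36.f501361 IH) (Lpr_et (K39.f502780 IH) (Lpqs (K40.f557423 IH) (Lpr_dt (K40.f421033 IH) (Lpr_et (K42.f557434 IH) (Lpn (LP (LK LD1_c11 LD2_c28 LD3_c13)))))))))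
theorem f559314 : Led Lsl_dt (LP (LK LD1_c11 LD2_c43 LD3_c45)) = (LP (LK LD1_c17 LD2_c31 LD3_c46)) :=
  Lgr Lrot60 (Lpe (K37.f501898 IH) (Lpr_df (f557435 IH) (Lpr_ff (K42.f559310 IH) (Lpn (LP (LK LD1_c17 LD2_c31 LD3_c46))))))
theorem f502506 : Led Lsl_ct (LP (LK LD1_c9 LD2_c49 LD3_c48)) = (LP (LK LD1_c11 LD2_c43 LD3_c45)) :=
  Lgr Lrot59 (Lpr_cf (f502500 IH) (Lpn (LP (LK LD1_c11 LD2_c43 LD3_c45))))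
def v4838 : LQ := Led Lsl_gf (LP (LK LD1_c2 LD2_c50 LD3_c27))
theorem f640533 : Led Lsl_gf (LP (LK LD1_c2 LD2_c50 LD3_c27)) = v4838 :=
  Lrfl
theorem f669344 : (LP (LK LD1_c4 LD2_c59 LD3_c12)) = v4838 :=
  (Llr Lrot6 (Lpe (f104903 IH) (Lpr_gt (f644386 IH) (Lpr_ct (f146434 IH) (Lpr_gt (f186092 IH) (Lpr_ct (f669311 IH) (Lpe (f559314 IH) (Lpe (f502506 IH) (Lpe (f669276 IH) (Lpe (f437483 IH) (Lpr_gf (f640533 IH) (Lpn v4838)))))))))))).symm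
def v4840 : LQ := Led Lsl_et (LP (LK LD1_c2 LD2_c50 LD3_c27))
theorem f640542 : Led Lsl_et (LP (LK LD1_c2 LD2_c50 LD3_c27)) = v4840 :=
  Lrfl
theorem f640544 : Led Lsl_ef (LP (LK LD1_c2 LD2_c50 LD3_c27)) = v4840 :=
  Lgr Lrot88 (Lpr_et (f640542 IH) (Lpn v4840))
theorem f640545 : Led Lsl_bt K35.v1533 = v4840 :=
  Lgr Lrot119 (Lpe (K35.f496136 IH) (Lpe (f437479 IH) (Lpr_ef (f640544 IH) (Lpn v4840))))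
theorem f164392 : Led Lsl_bt (LP (LK LD1_c5 LD2_c14 LD3_c49)) = (LP (LK LD1_c2 LD2_c34 LD3_c13)) :=
  Lre_b IH (LK LD1_c5 LD2_c14 LD3_c49) (LK LD1_c2 LD2_c34 LD3_c13) Lrfl Lrfl
theorem f640546 : Led Lsl_df (LP (LK LD1_c5 LD2_c14 LD3_c49)) = v4840 :=
  Lgr Lrot12 (Lpr_bt (f164392 IH) (Lpr_dt (K35.f496142 IH) (Lpr_bt (f640545 IH) (Lpn v4840))))
theorem f669349 : Led Lsl_gf (LP (LK LD1_c4 LD2_c58 LD3_c44)) = (LP (LK LD1_c5 LD2_c14 LD3_c49)) :=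
  Lgr Lrot145 (Lpe (f79701 IH) (Lpr_et (f79700 IH) (Lpr_gt (K4.f74198 IH) (Lpe (K2.f74192 IH) (Lpr_gt (K4.f72866 IH) (Lpr_df (K4.f104801 IH) (Lpr_et (f104890 IH) (Lpqs (f669344 IH) (Lpe (f640533 IH) (Lpr_ef (f640544 IH) (Lpe (f640546 IH) (Lpn (LP (LK LD1_c5 LD2_c14 LD3_c49))))))))))))))
theorem f669350 : Led Lsl_gt (LP (LK LD1_c5 LD2_c14 LD3_c49)) = (LP (LK LD1_c4 LD2_c58 LD3_c44)) :=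
  Leop (Lpr_gf (f669349 IH) (Lpn (LP (LK LD1_c5 LD2_c14 LD3_c49))))
theorem seed_528 : LEOK LG_g (LK LD1_c5 LD2_c14 LD3_c49) :=
  Leoe_g (LK LD1_c5 LD2_c14 LD3_c49) (f669350 IH)
def v7974 : LQ := Led Lsl_dt K37.v1535
theorem f669449 : Led Lsl_dt K37.v1535 = v7974 :=
  Lrfl
theorem f669453 : Led Lsl_cf (LP (LK LD1_c9 LD2_c29 LD3_c52)) = v7974 :=
  Lgr Lrot116 (Lpr_dt (K32.f135363 IH) (Lpr_ct (K24.f135364 IH) (Lpr_dt (K6.f135392 IH) (Lpe (K24.f146060 IH) (Lpr_af (K24.f146435 IH) (Lpe (K1.f57124 IH) (Lpr_dt (K24.f56682 IH) (Lpr_ct (K37.f496153 IH) (Lpr_dt (f669449 IH) (Lpn v7974))))))))))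
theorem f669454 : Led Lsl_ct (LP (LK LD1_c9 LD2_c29 LD3_c52)) = v7974 :=
  Lgr Lrot59 (Lpr_cf (f669453 IH) (Lpn v7974))
def v1542 : LQ := Led Lsl_dt (LP (LK LD1_c1 LD2_c21 LD3_c25))
theorem f496186 : Led Lsl_dt (LP (LK LD1_c1 LD2_c21 LD3_c25)) = v1542 :=
  Lrfl
theorem f496187 : Led Lsl_df (LP (LK LD1_c1 LD2_c21 LD3_c25)) = v1542 :=
  Lgr Lrot38 (Lpr_dt (f496186 IH) (Lpn v1542))
theorem f496190 : Led Lsl_ct K38.v947 = v1542 :=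
  Lgr Lrot151 (Lpr_gf (K38.f494294 IH) (Lpe (K38.f494280 IH) (Lpe (K38.f68650 IH) (Lpr_dt (K11.f204788 IH) (Lpe (K40.f269116 IH) (Lpr_ct (K40.f61312 IH) (Lpr_gt (K18.f61294 IH) (Lpr_ct (K18.f61314 IH) (Lpr_dt (f496186 IH) (Lpn v1542))))))))))
theorem f58875 : Led Lsl_ct (LP (LK LD1_c1 LD2_c3 LD3_c60)) = (LP (LK LD1_c2 LD2_c13 LD3_c54)) :=
  Lre_c IH (LK LD1_c1 LD2_c3 LD3_c60) (LK LD1_c2 LD2_c13 LD3_c54) Lrfl Lrfl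
theorem f537300 : v1542 = (LP (LK LD1_c2 LD2_c13 LD3_c54)) :=
  Lefun (Lecon (f496190 IH) (K38.f537128 IH)) (f58875 IH)
theorem f437393 : Led Lsl_dt (LP (LK LD1_c9 LD2_c5 LD3_c31)) = (LP (LK LD1_c4 LD2_c34 LD3_c0)) :=
  Lre_d IH (LK LD1_c9 LD2_c5 LD3_c31) (LK LD1_c4 LD2_c34 LD3_c0) Lrfl Lrfl
theorem f669452 : Led Lsl_ef (LP (LK LD1_c9 LD2_c5 LD3_c31)) = v7974 :=
  Lgr Lrot73 (Lpr_dt (f437393 IH) (Lpr_et (K6.f143157 IH) (Lpq (f537300 IH) (Lpe (f496187 IH) (Lpr_et (K37.f496161 IH) (Lpr_dt (f669449 IH) (Lpn v7974)))))))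
theorem f437377 : Led Lsl_ct (LP (LK LD1_c9 LD2_c5 LD3_c31)) = (LP (LK LD1_c16 LD2_c57 LD3_c27)) :=
  Lre_c IH (LK LD1_c9 LD2_c5 LD3_c31) (LK LD1_c16 LD2_c57 LD3_c27) Lrfl Lrfl
theorem f669457 : Led Lsl_ef (LP (LK LD1_c9 LD2_c29 LD3_c52)) = (LP (LK LD1_c16 LD2_c57 LD3_c27)) :=
  Lgr Lrot28 (Lpr_ct (f669454 IH) (Lpe (f669452 IH) (Lpr_ct (f437377 IH) (Lpn (LP (LK LD1_c16 LD2_c57 LD3_c27))))))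
theorem f669458 : Led Lsl_et (LP (LK LD1_c16 LD2_c57 LD3_c27)) = (LP (LK LD1_c9 LD2_c29 LD3_c52)) :=
  Leop (Lpr_ef (f669457 IH) (Lpn (LP (LK LD1_c16 LD2_c57 LD3_c27))))
theorem seed_529 : LEOK LG_e (LK LD1_c16 LD2_c57 LD3_c27) :=
  Leoe_e (LK LD1_c16 LD2_c57 LD3_c27) (f669458 IH)
def v7996 : LQ := Led Lsl_dt K42.v1606
theorem f669550 : Led Lsl_dt K42.v1606 = v7996 :=
  Lrfl
theorem f640902 : Led Lsl_cf (LP (LK LD1_c2 LD2_c52 LD3_c42)) = K41.v4916 :=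
  Lgr Lrot11 (Lpr_ct (K41.f640901 IH) (Lpn K41.v4916))
def v4989 : LQ := Led Lsl_ct (LP (LK LD1_c2 LD2_c54 LD3_c60))
theorem f641202 : Led Lsl_ct (LP (LK LD1_c2 LD2_c54 LD3_c60)) = v4989 :=
  Lrfl
theorem f509907 : Led Lsl_gf (LP (LK LD1_c4 LD2_c49 LD3_c28)) = (LP (LK LD1_c3 LD2_c20 LD3_c60)) :=
  Lgr Lrot47 (Lpr_gt (K35.f509905 IH) (Lpr_af (K35.f507252 IH) (Lpe (K35.f507747 IH) (Lpn (LP (LK LD1_c3 LD2_c20 LD3_c60))))))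
theorem f510142 : Led Lsl_ct (LP (LK LD1_c4 LD2_c49 LD3_c28)) = (LP (LK LD1_c3 LD2_c8 LD3_c36)) :=
  Lgr Lrot15 (Lpr_ef (K35.f509903 IH) (Lpqs (K35.f509911 IH) (Lpe (K32.f509792 IH) (Lpr_ef (K24.f82579 IH) (Lpn (LP (LK LD1_c3 LD2_c8 LD3_c36)))))))
theorem f82645 : Led Lsl_ct (LP (LK LD1_c1 LD2_c30 LD3_c28)) = (LP (LK LD1_c3 LD2_c8 LD3_c31)) :=
  Lre_c IH (LK LD1_c1 LD2_c30 LD3_c28) (LK LD1_c3 LD2_c8 LD3_c31) Lrfl Lrfl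
theorem f641206 : Led Lsl_gf K41.v4916 = v4989 :=
  Lgr Lrot104 (Lpe (f640902 IH) (Lpe (K32.f438457 IH) (Lpe (f82645 IH) (Lpe (K24.f82576 IH) (Lpe (f510142 IH) (Lpr_gf (f509907 IH) (Lpe (K32.f442817 IH) (Lpr_gt (K24.f442811 IH) (Lpr_ct (f641202 IH) (Lpn v4989))))))))))
theorem f72053 : Led Lsl_dt (LP (LK LD1_c2 LD2_c15 LD3_c26)) = (LP (LK LD1_c1 LD2_c4 LD3_c46)) :=
  Lre_d IH (LK LD1_c2 LD2_c15 LD3_c26) (LK LD1_c1 LD2_c4 LD3_c46) Lrfl Lrfl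
theorem f641205 : Led Lsl_df K41.v4210 = v4989 :=
  Lgr Lrot106 (Lpe (K41.f631905 IH) (Lpr_dt (f72053 IH) (Lpr_ct (K4.f26355 IH) (Lpr_dt (K11.f82566 IH) (Lpe (K24.f82914 IH) (Lpr_af (K2.f71326 IH) (Lpe (K2.f71338 IH) (Lpr_dt (K2.f71344 IH) (Lpr_ct (f641202 IH) (Lpn v4989))))))))))
theorem f82907 : Led Lsl_cf (LP (LK LD1_c1 LD2_c23 LD3_c24)) = (LP (LK LD1_c0 LD2_c43 LD3_c2)) :=
  Lgr Lrot11 (Lpr_ct (K24.f82895 IH) (Lpn (LP (LK LD1_c0 LD2_c43 LD3_c2))))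
theorem f641203 : Led Lsl_cf (LP (LK LD1_c2 LD2_c54 LD3_c60)) = v4989 :=
  Lgr Lrot11 (Lpr_ct (f641202 IH) (Lpn v4989))
theorem f641208 : Led Lsl_dt K41.v4210 = v4989 :=
  Lgr Lrot173 (Lpe (K41.f631903 IH) (Lpe (K32.f23026 IH) (Lpr_cf (K24.f82914 IH) (Lpe (K11.f82566 IH) (Lpe (K4.f26355 IH) (Lpe (f72053 IH) (Lpr_cf (K41.f631905 IH) (Lpr_df (f641205 IH) (Lpe (f641202 IH) (Lpe (K2.f71344 IH) (Lpr_cf (f82907 IH) (Lpe (K24.f82678 IH) (Lpe (K24.f82895 IH) (Lpe (K2.f71345 IH) (Lpr_cf (f641203 IH) (Lpn v4989))))))))))))))))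
def v4914 : LQ := Led Lsl_ct (LP (LK LD1_c2 LD2_c52 LD3_c41))
theorem f640893 : Led Lsl_ct (LP (LK LD1_c2 LD2_c52 LD3_c41)) = v4914 :=
  Lrfl
theorem f640894 : Led Lsl_cf (LP (LK LD1_c2 LD2_c52 LD3_c41)) = v4914 :=
  Lgr Lrot11 (Lpr_ct (f640893 IH) (Lpn v4914))
theorem f414605 : Led Lsl_cf (LP (LK LD1_c1 LD2_c38 LD3_c27)) = (LP (LK LD1_c1 LD2_c36 LD3_c47)) :=
  Lgr Lrot11 (Lpr_ct (K24.f414506 IH) (Lpn (LP (LK LD1_c1 LD2_c36 LD3_c47))))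
def v4209 : LQ := Led Lsl_gf (LP (LK LD1_c2 LD2_c15 LD3_c26))
theorem f631894 : Led Lsl_gf (LP (LK LD1_c2 LD2_c15 LD3_c26)) = v4209 :=
  Lrfl
theorem f445971 : Led Lsl_ct (LP (LK LD1_c2 LD2_c22 LD3_c31)) = (LP (LK LD1_c3 LD2_c13 LD3_c2)) :=
  Lgr Lrot15 (Lpe (K35.f76938 IH) (Lpe (K17.f76927 IH) (Lpr_ef (K24.f445969 IH) (Lpn (LP (LK LD1_c3 LD2_c13 LD3_c2))))))
theorem f509828 : Led Lsl_cf (LP (LK LD1_c4 LD2_c49 LD3_c28)) = (LP (LK LD1_c3 LD2_c8 LD3_c36)) :=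
  Lgr Lrot108 (Lpr_ft (K35.f446014 IH) (Lpr_ct (f445971 IH) (Lpr_ft (K32.f509826 IH) (Lpn (LP (LK LD1_c3 LD2_c8 LD3_c36))))))
theorem f631897 : Led Lsl_dt (LP (LK LD1_c2 LD2_c57 LD3_c22)) = v4209 :=
  Lgr Lrot57 (Lpe (K35.f509905 IH) (Lpr_cf (f509828 IH) (Lpr_gt (K24.f82576 IH) (Lpr_dt (K24.f82574 IH) (Lpr_gt (K24.f26065 IH) (Lpr_dt (K11.f82566 IH) (Lpe (K4.f26355 IH) (Lpe (f72053 IH) (Lpr_gf (f631894 IH) (Lpn v4209))))))))))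
theorem f640895 : Led Lsl_gt K41.v4210 = v4914 :=
  Lgr Lrot150 (Lpe (K41.f631903 IH) (Lpr_gf (f631894 IH) (Lpe (f631897 IH) (Lpe (K35.f507774 IH) (Lpe (f414605 IH) (Lpe (K24.f442819 IH) (Lpr_ct (K24.f82569 IH) (Lpe (K24.f445621 IH) (Lpr_cf (f640894 IH) (Lpn v4914))))))))))
theorem f669555 : Led Lsl_ct (LP (LK LD1_c4 LD2_c35 LD3_c3)) = v7996 :=
  Lgr Lrot151 (Lpr_gf (K24.f436293 IH) (Lpr_cf (f640894 IH) (Lpe (f640895 IH) (Lpr_dt (f641208 IH) (Lpe (f641206 IH) (Lpe (f640902 IH) (Lpr_gt (K32.f22527 IH) (Lpr_ct (K42.f500339 IH) (Lpr_dt (f669550 IH) (Lpn v7996))))))))))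
theorem f436291 : Led Lsl_bt (LP (LK LD1_c4 LD2_c35 LD3_c3)) = (LP (LK LD1_c9 LD2_c6 LD3_c38)) :=
  Lre_b IH (LK LD1_c4 LD2_c35 LD3_c3) (LK LD1_c9 LD2_c6 LD3_c38) Lrfl Lrfl
theorem f151724 : Led Lsl_dt (LP (LK LD1_c4 LD2_c34 LD3_c57)) = (LP (LK LD1_c9 LD2_c6 LD3_c38)) :=
  Lre_d IH (LK LD1_c4 LD2_c34 LD3_c57) (LK LD1_c9 LD2_c6 LD3_c38) Lrfl Lrfl
theorem f151725 : Led Lsl_gt (LP (LK LD1_c4 LD2_c34 LD3_c33)) = (LP (LK LD1_c9 LD2_c5 LD3_c52)) :=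
  Lre_g IH (LK LD1_c4 LD2_c34 LD3_c33) (LK LD1_c9 LD2_c5 LD3_c52) Lrfl Lrfl
theorem f151726 : Led Lsl_et (LP (LK LD1_c9 LD2_c6 LD3_c0)) = (LP (LK LD1_c4 LD2_c34 LD3_c33)) :=
  Lre_e IH (LK LD1_c9 LD2_c6 LD3_c0) (LK LD1_c4 LD2_c34 LD3_c33) Lrfl Lrfl
theorem f151727 : Led Lsl_dt (LP (LK LD1_c9 LD2_c6 LD3_c0)) = (LP (LK LD1_c16 LD2_c57 LD3_c50)) :=
  Lre_d IH (LK LD1_c9 LD2_c6 LD3_c0) (LK LD1_c16 LD2_c57 LD3_c50) Lrfl Lrfl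
theorem f151728 : Led Lsl_gt (LP (LK LD1_c9 LD2_c6 LD3_c38)) = (LP (LK LD1_c16 LD2_c57 LD3_c50)) :=
  Lgr Lrot139 (Lpe (f151724 IH) (Lpe (K7.f25248 IH) (Lpr_ef (K7.f151717 IH) (Lpr_dt (K7.f151590 IH) (Lpe (K7.f66362 IH) (Lpe (K7.f66364 IH) (Lpe (K45.f135916 IH) (Lpe (f151725 IH) (Lpe (f151726 IH) (Lpr_dt (f151727 IH) (Lpn (LP (LK LD1_c16 LD2_c57 LD3_c50)))))))))))))
theorem f426815 : Led Lsl_ct (LP (LK LD1_c2 LD2_c55 LD3_c47)) = (LP (LK LD1_c5 LD2_c58 LD3_c41)) :=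
  Lre_c IH (LK LD1_c2 LD2_c55 LD3_c47) (LK LD1_c5 LD2_c58 LD3_c41) Lrfl Lrfl
theorem f426826 : Led Lsl_gt (LP (LK LD1_c11 LD2_c41 LD3_c49)) = (LP (LK LD1_c5 LD2_c58 LD3_c41)) :=
  Lre_g IH (LK LD1_c11 LD2_c41 LD3_c49) (LK LD1_c5 LD2_c58 LD3_c41) Lrfl Lrfl
theorem f25238 : Led Lsl_cf (LP (LK LD1_c1 LD2_c7 LD3_c23)) = (LP (LK LD1_c2 LD2_c14 LD3_c38)) :=
  Lgr Lrot11 (Lpr_ct (K7.f25224 IH) (Lpn (LP (LK LD1_c2 LD2_c14 LD3_c38))))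
theorem f25242 : Led Lsl_gt (LP (LK LD1_c4 LD2_c34 LD3_c57)) = (LP (LK LD1_c9 LD2_c6 LD3_c18)) :=
  Lre_g IH (LK LD1_c4 LD2_c34 LD3_c57) (LK LD1_c9 LD2_c6 LD3_c18) Lrfl Lrfl
theorem f645089 : Led Lsl_cf (LP (LK LD1_c11 LD2_c41 LD3_c49)) = (LP (LK LD1_c9 LD2_c6 LD3_c18)) :=
  Lgr Lrot125 (Lpr_gt (f426826 IH) (Lpe (f426815 IH) (Lpr_bt (K42.f426004 IH) (Lpr_gt (K41.f500735 IH) (Lpqs (K41.f641742 IH) (Lpe (K45.f442873 IH) (Lpr_ct (K35.f442869 IH) (Lpe (K24.f151942 IH) (Lpr_cf (f25238 IH) (Lpr_bt (K24.f25236 IH) (Lpr_gt (f25242 IH) (Lpn (LP (LK LD1_c9 LD2_c6 LD3_c18))))))))))))))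
theorem f426791 : Led Lsl_ct (LP (LK LD1_c5 LD2_c58 LD3_c41)) = (LP (LK LD1_c2 LD2_c55 LD3_c47)) :=
  Lre_c IH (LK LD1_c5 LD2_c58 LD3_c41) (LK LD1_c2 LD2_c55 LD3_c47) Lrfl Lrfl
theorem f157623 : Led Lsl_dt (LP (LK LD1_c2 LD2_c55 LD3_c47)) = (LP (LK LD1_c5 LD2_c58 LD3_c44)) :=
  Lre_d IH (LK LD1_c2 LD2_c55 LD3_c47) (LK LD1_c5 LD2_c58 LD3_c44) Lrfl Lrfl
theorem f426803 : Led Lsl_ct (LP (LK LD1_c11 LD2_c41 LD3_c59)) = (LP (LK LD1_c5 LD2_c58 LD3_c44)) :=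
  Lre_c IH (LK LD1_c11 LD2_c41 LD3_c59) (LK LD1_c5 LD2_c58 LD3_c44) Lrfl Lrfl
theorem f595868 : Led Lsl_gt (LP (LK LD1_c20 LD2_c42 LD3_c2)) = (LP (LK LD1_c11 LD2_c41 LD3_c59)) :=
  Lre_g IH (LK LD1_c20 LD2_c42 LD3_c2) (LK LD1_c11 LD2_c41 LD3_c59) Lrfl Lrfl
theorem f645096 : Led Lsl_cf (LP (LK LD1_c20 LD2_c42 LD3_c2)) = (LP (LK LD1_c16 LD2_c57 LD3_c50)) :=
  Lgr Lrot169 (Lpr_gt (f595868 IH) (Lpr_ct (f426803 IH) (Lpe (f157623 IH) (Lpe (f426791 IH) (Lpe (f426826 IH) (Lpr_cf (f645089 IH) (Lpe (f25242 IH) (Lpe (K7.f151745 IH) (Lpr_gt (f151728 IH) (Lpn (LP (LK LD1_c16 LD2_c57 LD3_c50))))))))))))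
theorem f426785 : Led Lsl_ct (LP (LK LD1_c5 LD2_c58 LD3_c44)) = (LP (LK LD1_c11 LD2_c41 LD3_c59)) :=
  Lre_c IH (LK LD1_c5 LD2_c58 LD3_c44) (LK LD1_c11 LD2_c41 LD3_c59) Lrfl Lrfl
theorem f428331 : Led Lsl_bt (LP (LK LD1_c5 LD2_c58 LD3_c44)) = (LP (LK LD1_c2 LD2_c55 LD3_c58)) :=
  Lre_b IH (LK LD1_c5 LD2_c58 LD3_c44) (LK LD1_c2 LD2_c55 LD3_c58) Lrfl Lrfl
theorem f669558 : Led Lsl_gt K42.v4985 = v7996 :=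
  Lgr Lrot65 (Lpe (K42.f641182 IH) (Lpr_bt (K42.f23852 IH) (Lpq (K42.f642920 IH) (Lpe (K42.f641363 IH) (Lpe (f428331 IH) (Lpr_ct (f426785 IH) (Lpe (f595868 IH) (Lpr_cf (f645096 IH) (Lpe (f151728 IH) (Lpe (f436291 IH) (Lpr_ct (f669555 IH) (Lpn v7996))))))))))))
theorem f23845 : Led Lsl_bt (LP (LK LD1_c2 LD2_c54 LD3_c45)) = (LP (LK LD1_c1 LD2_c23 LD3_c23)) :=
  Lre_b IH (LK LD1_c2 LD2_c54 LD3_c45) (LK LD1_c1 LD2_c23 LD3_c23) Lrfl Lrfl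
theorem f500602 : Led Lsl_ct (LP (LK LD1_c2 LD2_c54 LD3_c45)) = (LP (LK LD1_c5 LD2_c56 LD3_c59)) :=
  Lre_c IH (LK LD1_c2 LD2_c54 LD3_c45) (LK LD1_c5 LD2_c56 LD3_c59) Lrfl Lrfl
theorem f562828 : Led Lsl_gt (LP (LK LD1_c11 LD2_c39 LD3_c14)) = (LP (LK LD1_c5 LD2_c56 LD3_c59)) :=
  Lre_g IH (LK LD1_c11 LD2_c39 LD3_c14) (LK LD1_c5 LD2_c56 LD3_c59) Lrfl Lrfl
theorem f641185 : Led Lsl_ct (LP (LK LD1_c20 LD2_c38 LD3_c42)) = (LP (LK LD1_c11 LD2_c39 LD3_c14)) :=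
  Lre_c IH (LK LD1_c20 LD2_c38 LD3_c42) (LK LD1_c11 LD2_c39 LD3_c14) Lrfl Lrfl
theorem f669559 : Led Lsl_bf (LP (LK LD1_c16 LD2_c57 LD3_c50)) = (LP (LK LD1_c20 LD2_c38 LD3_c42)) :=
  Lgr Lrot34 (Lpe (f151728 IH) (Lpe (f436291 IH) (Lpr_ct (f669555 IH) (Lpe (f669558 IH) (Lpe (K42.f641182 IH) (Lpe (K0.f23785 IH) (Lpe (f23845 IH) (Lpr_ct (f500602 IH) (Lpe (f562828 IH) (Lpe (f641185 IH) (Lpn (LP (LK LD1_c20 LD2_c38 LD3_c42)))))))))))))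
theorem f669560 : Led Lsl_bt (LP (LK LD1_c20 LD2_c38 LD3_c42)) = (LP (LK LD1_c16 LD2_c57 LD3_c50)) :=
  Leop (Lpr_bf (f669559 IH) (Lpn (LP (LK LD1_c20 LD2_c38 LD3_c42))))
theorem seed_530 : LEOK LG_b (LK LD1_c20 LD2_c38 LD3_c42) :=
  Leoe_b (LK LD1_c20 LD2_c38 LD3_c42) (f669560 IH)
theorem f436295 : Led Lsl_bt (LP (LK LD1_c5 LD2_c52 LD3_c52)) = (LP (LK LD1_c2 LD2_c52 LD3_c41)) :=
  Lre_b IH (LK LD1_c5 LD2_c52 LD3_c52) (LK LD1_c2 LD2_c52 LD3_c41) Lrfl Lrfl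
theorem f436299 : Led Lsl_ct (LP (LK LD1_c5 LD2_c52 LD3_c52)) = (LP (LK LD1_c11 LD2_c31 LD3_c61)) :=
  Lre_c IH (LK LD1_c5 LD2_c52 LD3_c52) (LK LD1_c11 LD2_c31 LD3_c61) Lrfl Lrfl
theorem f436300 : Led Lsl_gt (LP (LK LD1_c20 LD2_c28 LD3_c37)) = (LP (LK LD1_c11 LD2_c31 LD3_c61)) :=
  Lre_g IH (LK LD1_c20 LD2_c28 LD3_c37) (LK LD1_c11 LD2_c31 LD3_c61) Lrfl Lrfl
def v4987 : LQ := Led Lsl_ct (LP (LK LD1_c2 LD2_c54 LD3_c59))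
theorem f641197 : Led Lsl_ct (LP (LK LD1_c2 LD2_c54 LD3_c59)) = v4987 :=
  Lrfl
theorem f641198 : Led Lsl_cf (LP (LK LD1_c2 LD2_c54 LD3_c59)) = v4987 :=
  Lgr Lrot11 (Lpr_ct (f641197 IH) (Lpn v4987))
theorem f669557 : Led Lsl_gf v4987 = v7996 :=
  Lgr Lrot104 (Lpe (f641198 IH) (Lpe (K32.f435447 IH) (Lpe (K35.f68382 IH) (Lpr_gf (K24.f416136 IH) (Lpr_cf (K24.f454581 IH) (Lpe (K24.f454585 IH) (Lpe (K24.f445621 IH) (Lpe (K24.f436293 IH) (Lpr_ct (f669555 IH) (Lpn v7996))))))))))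
theorem f435449 : Led Lsl_bt (LP (LK LD1_c2 LD2_c54 LD3_c59)) = (LP (LK LD1_c5 LD2_c57 LD3_c24)) :=
  Lre_b IH (LK LD1_c2 LD2_c54 LD3_c59) (LK LD1_c5 LD2_c57 LD3_c24) Lrfl Lrfl
def v479 : LQ := Led Lsl_gf (LP (LK LD1_c0 LD2_c42 LD3_c9))
theorem f453547 : Led Lsl_gf (LP (LK LD1_c0 LD2_c42 LD3_c9)) = v479 :=
  Lrfl
theorem f537962 : (LP (LK LD1_c1 LD2_c20 LD3_c42)) = v479 :=
  Lefun (Lecon (Lfl_gt (K38.f452278 IH)) (K35.f537794 IH)) (f453547 IH)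
theorem f157176 : Led Lsl_et (LP (LK LD1_c4 LD2_c37 LD3_c17)) = (LP (LK LD1_c2 LD2_c15 LD3_c48)) :=
  Lre_e IH (LK LD1_c4 LD2_c37 LD3_c17) (LK LD1_c2 LD2_c15 LD3_c48) Lrfl Lrfl
theorem f157177 : Led Lsl_dt (LP (LK LD1_c4 LD2_c37 LD3_c17)) = (LP (LK LD1_c9 LD2_c10 LD3_c12)) :=
  Lre_d IH (LK LD1_c4 LD2_c37 LD3_c17) (LK LD1_c9 LD2_c10 LD3_c12) Lrfl Lrfl
theorem f614725 : Led Lsl_gt (LP (LK LD1_c5 LD2_c57 LD3_c24)) = (LP (LK LD1_c9 LD2_c10 LD3_c12)) :=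
  Lgr Lrot112 (Lpe (K42.f435454 IH) (Lpr_et (K42.f614721 IH) (Lpe (K42.f207327 IH) (Lpe (K11.f207315 IH) (Lpr_dt (K11.f452280 IH) (Lpqs (K35.f537794 IH) (Lpr_gf (f453547 IH) (Lpq (f537962 IH) (Lpr_df (K4.f72972 IH) (Lpe (K35.f157166 IH) (Lpe (f157176 IH) (Lpr_dt (f157177 IH) (Lpn (LP (LK LD1_c9 LD2_c10 LD3_c12)))))))))))))))
theorem f669561 : Led Lsl_cf (LP (LK LD1_c20 LD2_c28 LD3_c37)) = (LP (LK LD1_c17 LD2_c0 LD3_c33)) :=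
  Lgr Lrot160 (Lpr_gt (f436300 IH) (Lpe (f436299 IH) (Lpr_bt (f436295 IH) (Lpe (K24.f436293 IH) (Lpr_ct (f669555 IH) (Lpe (f669557 IH) (Lpe (f641197 IH) (Lpr_bt (f435449 IH) (Lpr_gt (f614725 IH) (Lpr_bf (K35.f538228 IH) (Lpn (LP (LK LD1_c17 LD2_c0 LD3_c33)))))))))))))
theorem f669562 : Led Lsl_ct (LP (LK LD1_c17 LD2_c0 LD3_c33)) = (LP (LK LD1_c20 LD2_c28 LD3_c37)) :=
  Leop (Lpr_cf (f669561 IH) (Lpn (LP (LK LD1_c17 LD2_c0 LD3_c33))))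
theorem seed_531 : LEOK LG_c (LK LD1_c17 LD2_c0 LD3_c33) :=
  Leoe_c (LK LD1_c17 LD2_c0 LD3_c33) (f669562 IH)
def v1658 : LQ := Led Lsl_ct (LP (LK LD1_c1 LD2_c23 LD3_c23))
def v8027 : LQ := Led Lsl_gt v1658
theorem f669682 : Led Lsl_gt v1658 = v8027 :=
  Lrfl
theorem f500597 : Led Lsl_ct (LP (LK LD1_c1 LD2_c23 LD3_c23)) = v1658 :=
  Lrfl
theorem f507759 : Led Lsl_af (LP (LK LD1_c4 LD2_c36 LD3_c33)) = (LP (LK LD1_c2 LD2_c54 LD3_c58)) :=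
  Lgr Lrot0 (Lpr_at (K42.f507757 IH) (Lpn (LP (LK LD1_c2 LD2_c54 LD3_c58))))
theorem f507767 : Led Lsl_at (LP (LK LD1_c3 LD2_c20 LD3_c60)) = (LP (LK LD1_c3 LD2_c14 LD3_c27)) :=
  Lgr Lrot51 (Lpe (K32.f442817 IH) (Lpr_af (f507759 IH) (Lpr_df (K0.f23843 IH) (Lpn (LP (LK LD1_c3 LD2_c14 LD3_c27))))))
theorem f507739 : Led Lsl_ff (LP (LK LD1_c3 LD2_c20 LD3_c60)) = (LP (LK LD1_c3 LD2_c14 LD3_c33)) :=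
  Lgr Lrot72 (Lpe (K35.f442821 IH) (Lpr_ft (K35.f507733 IH) (Lpr_et (K29.f411204 IH) (Lpr_ft (K35.f500986 IH) (Lpqs (K35.f506957 IH) (Lpe (K32.f435407 IH) (Lpn (LP (LK LD1_c3 LD2_c14 LD3_c33)))))))))
theorem f507769 : Led Lsl_gt (LP (LK LD1_c3 LD2_c14 LD3_c33)) = (LP (LK LD1_c2 LD2_c22 LD3_c31)) :=
  Lgr Lrot5 (Lpe (f507739 IH) (Lpr_at (f507767 IH) (Lpe (K24.f452309 IH) (Lpn (LP (LK LD1_c2 LD2_c22 LD3_c31))))))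
theorem f669683 : Led Lsl_cf (LP (LK LD1_c4 LD2_c35 LD3_c2)) = v8027 :=
  Lgr Lrot99 (Lpr_df (K32.f140756 IH) (Lpe (K32.f13576 IH) (Lpe (K11.f79774 IH) (Lpe (f445971 IH) (Lpe (f507769 IH) (Lpr_df (K32.f435452 IH) (Lpr_gt (K32.f23926 IH) (Lpr_ct (f500597 IH) (Lpr_gt (f669682 IH) (Lpn v8027))))))))))
theorem f669685 : Led Lsl_ct (LP (LK LD1_c4 LD2_c35 LD3_c2)) = v8027 :=
  Lgr Lrot59 (Lpr_cf (f669683 IH) (Lpn v8027))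
theorem f642279 : Led Lsl_ft (LP (LK LD1_c4 LD2_c59 LD3_c4)) = (LP (LK LD1_c9 LD2_c48 LD3_c39)) :=
  Lre_f IH (LK LD1_c4 LD2_c59 LD3_c4) (LK LD1_c9 LD2_c48 LD3_c39) Lrfl Lrfl
theorem f139032 : Led Lsl_dt (LP (LK LD1_c9 LD2_c48 LD3_c0)) = (LP (LK LD1_c4 LD2_c58 LD3_c46)) :=
  Lre_d IH (LK LD1_c9 LD2_c48 LD3_c0) (LK LD1_c4 LD2_c58 LD3_c46) Lrfl Lrfl
theorem f506251 : Led Lsl_dt (LP (LK LD1_c6 LD2_c30 LD3_c2)) = (LP (LK LD1_c12 LD2_c29 LD3_c43)) :=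
  Lre_d IH (LK LD1_c6 LD2_c30 LD3_c2) (LK LD1_c12 LD2_c29 LD3_c43) Lrfl Lrfl
theorem f642258 : Led Lsl_ff (LP (LK LD1_c9 LD2_c48 LD3_c0)) = (LP (LK LD1_c12 LD2_c29 LD3_c43)) :=
  Lgr Lrot19 (Lpr_dt (f139032 IH) (Lpr_ft (K45.f642250 IH) (Lpr_dt (f506251 IH) (Lpn (LP (LK LD1_c12 LD2_c29 LD3_c43))))))
theorem f139030 : Led Lsl_at (LP (LK LD1_c9 LD2_c48 LD3_c0)) = (LP (LK LD1_c4 LD2_c59 LD3_c4)) :=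
  Lre_a IH (LK LD1_c9 LD2_c48 LD3_c0) (LK LD1_c4 LD2_c59 LD3_c4) Lrfl Lrfl
theorem f642280 : Led Lsl_at (LP (LK LD1_c9 LD2_c48 LD3_c39)) = (LP (LK LD1_c12 LD2_c29 LD3_c43)) :=
  Lgr Lrot66 (Lpe (f642279 IH) (Lpe (f139030 IH) (Lpr_ff (f642258 IH) (Lpn (LP (LK LD1_c12 LD2_c29 LD3_c43))))))
theorem f643555 : Led Lsl_gf (LP (LK LD1_c12 LD2_c29 LD3_c43)) = (LP (LK LD1_c9 LD2_c6 LD3_c52)) :=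
  Lgr Lrot76 (Lpe (f642280 IH) (Lpe (f642279 IH) (Lpr_gt (K46.f643553 IH) (Lpn (LP (LK LD1_c9 LD2_c6 LD3_c52))))))
theorem f506252 : Led Lsl_ct (LP (LK LD1_c12 LD2_c29 LD3_c43)) = (LP (LK LD1_c21 LD2_c36 LD3_c31)) :=
  Lre_c IH (LK LD1_c12 LD2_c29 LD3_c43) (LK LD1_c21 LD2_c36 LD3_c31) Lrfl Lrfl
theorem f139002 : Led Lsl_ct (LP (LK LD1_c9 LD2_c48 LD3_c0)) = (LP (LK LD1_c17 LD2_c58 LD3_c13)) :=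
  Lre_c IH (LK LD1_c9 LD2_c48 LD3_c0) (LK LD1_c17 LD2_c58 LD3_c13) Lrfl Lrfl
theorem f642285 : Led Lsl_ct (LP (LK LD1_c21 LD2_c36 LD3_c31)) = (LP (LK LD1_c12 LD2_c29 LD3_c43)) :=
  Lre_c IH (LK LD1_c21 LD2_c36 LD3_c31) (LK LD1_c12 LD2_c29 LD3_c43) Lrfl Lrfl
theorem f642286 : Led Lsl_ft (LP (LK LD1_c17 LD2_c58 LD3_c13)) = (LP (LK LD1_c21 LD2_c36 LD3_c31)) :=
  Lgr Lrot4 (Lpe (f139002 IH) (Lpr_ff (f642258 IH) (Lpe (f642285 IH) (Lpn (LP (LK LD1_c21 LD2_c36 LD3_c31))))))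
theorem f642299 : Led Lsl_ff (LP (LK LD1_c17 LD2_c58 LD3_c13)) = (LP (LK LD1_c21 LD2_c36 LD3_c31)) :=
  Lgr Lrot3 (Lpr_ft (f642286 IH) (Lpn (LP (LK LD1_c21 LD2_c36 LD3_c31))))
theorem f642301 : Led Lsl_at (LP (LK LD1_c17 LD2_c58 LD3_c13)) = (LP (LK LD1_c9 LD2_c48 LD3_c38)) :=
  Lre_a IH (LK LD1_c17 LD2_c58 LD3_c13) (LK LD1_c9 LD2_c48 LD3_c38) Lrfl Lrfl
theorem f618546 : Led Lsl_gt (LP (LK LD1_c17 LD2_c58 LD3_c53)) = (LP (LK LD1_c9 LD2_c48 LD3_c38)) :=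
  Lre_g IH (LK LD1_c17 LD2_c58 LD3_c53) (LK LD1_c9 LD2_c48 LD3_c38) Lrfl Lrfl
theorem f642302 : Led Lsl_gf (LP (LK LD1_c17 LD2_c58 LD3_c53)) = (LP (LK LD1_c21 LD2_c36 LD3_c31)) :=
  Lgr Lrot47 (Lpr_gt (f618546 IH) (Lpe (f642301 IH) (Lpr_ff (f642299 IH) (Lpn (LP (LK LD1_c21 LD2_c36 LD3_c31))))))
theorem f72040 : Led Lsl_bt (LP (LK LD1_c1 LD2_c23 LD3_c23)) = (LP (LK LD1_c2 LD2_c54 LD3_c45)) :=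
  Lre_b IH (LK LD1_c1 LD2_c23 LD3_c23) (LK LD1_c2 LD2_c54 LD3_c45) Lrfl Lrfl
theorem f83083 : Led Lsl_gt (LP (LK LD1_c5 LD2_c56 LD3_c58)) = (LP (LK LD1_c2 LD2_c54 LD3_c45)) :=
  Lre_g IH (LK LD1_c5 LD2_c56 LD3_c58) (LK LD1_c2 LD2_c54 LD3_c45) Lrfl Lrfl
theorem f83084 : Led Lsl_bt (LP (LK LD1_c11 LD2_c39 LD3_c11)) = (LP (LK LD1_c5 LD2_c56 LD3_c58)) :=
  Lre_b IH (LK LD1_c11 LD2_c39 LD3_c11) (LK LD1_c5 LD2_c56 LD3_c58) Lrfl Lrfl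
theorem f669691 : Led Lsl_cf (LP (LK LD1_c17 LD2_c58 LD3_c53)) = (LP (LK LD1_c11 LD2_c39 LD3_c11)) :=
  Lgr Lrot163 (Lpr_gf (f642302 IH) (Lpe (f506252 IH) (Lpr_gf (f643555 IH) (Lpe (K32.f140766 IH) (Lpr_ct (f669685 IH) (Lpe (f669682 IH) (Lpe (f500597 IH) (Lpr_bt (f72040 IH) (Lpe (f83083 IH) (Lpe (f83084 IH) (Lpn (LP (LK LD1_c11 LD2_c39 LD3_c11)))))))))))))
theorem f669692 : Led Lsl_ct (LP (LK LD1_c11 LD2_c39 LD3_c11)) = (LP (LK LD1_c17 LD2_c58 LD3_c53)) :=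
  Leop (Lpr_cf (f669691 IH) (Lpn (LP (LK LD1_c11 LD2_c39 LD3_c11))))
theorem seed_532 : LEOK LG_c (LK LD1_c11 LD2_c39 LD3_c11) :=
  Leoe_c (LK LD1_c11 LD2_c39 LD3_c11) (f669692 IH)
def v1709 : LQ := Led Lsl_ct (LP (LK LD1_c1 LD2_c24 LD3_c20))
def v8044 : LQ := Led Lsl_gf v1709
theorem f669761 : Led Lsl_gf v1709 = v8044 :=
  Lrfl
theorem f500967 : Led Lsl_ct (LP (LK LD1_c1 LD2_c24 LD3_c20)) = v1709 :=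
  Lrfl
theorem f204678 : Led Lsl_bt (LP (LK LD1_c1 LD2_c24 LD3_c20)) = (LP (LK LD1_c2 LD2_c57 LD3_c4)) :=
  Lre_b IH (LK LD1_c1 LD2_c24 LD3_c20) (LK LD1_c2 LD2_c57 LD3_c4) Lrfl Lrfl
theorem f204738 : Led Lsl_gt (LP (LK LD1_c2 LD2_c57 LD3_c4)) = (LP (LK LD1_c6 LD2_c1 LD3_c59)) :=
  Lre_g IH (LK LD1_c2 LD2_c57 LD3_c4) (LK LD1_c6 LD2_c1 LD3_c59) Lrfl Lrfl
theorem f500971 : Led Lsl_bt (LP (LK LD1_c11 LD2_c48 LD3_c29)) = (LP (LK LD1_c6 LD2_c1 LD3_c59)) :=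
  Lre_b IH (LK LD1_c11 LD2_c48 LD3_c29) (LK LD1_c6 LD2_c1 LD3_c59) Lrfl Lrfl
theorem f500968 : Led Lsl_cf (LP (LK LD1_c1 LD2_c24 LD3_c20)) = v1709 :=
  Lgr Lrot11 (Lpr_ct (f500967 IH) (Lpn v1709))
theorem f146409 : Led Lsl_af (LP (LK LD1_c1 LD2_c4 LD3_c0)) = (LP (LK LD1_c0 LD2_c37 LD3_c30)) :=
  Lgr Lrot117 (Lpr_dt (K32.f69271 IH) (Lpr_at (K6.f146393 IH) (Lpr_dt (K35.f56700 IH) (Lpn (LP (LK LD1_c0 LD2_c37 LD3_c30))))))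
theorem f57196 : Led Lsl_ft (LP (LK LD1_c1 LD2_c21 LD3_c17)) = (LP (LK LD1_c0 LD2_c37 LD3_c30)) :=
  Lre_f IH (LK LD1_c1 LD2_c21 LD3_c17) (LK LD1_c0 LD2_c37 LD3_c30) Lrfl Lrfl
theorem f416346 : Led Lsl_gf (LP (LK LD1_c1 LD2_c32 LD3_c3)) = (LP (LK LD1_c1 LD2_c21 LD3_c17)) :=
  Lgr Lrot47 (Lpr_gt (K17.f416250 IH) (Lpr_af (f146409 IH) (Lpe (f57196 IH) (Lpn (LP (LK LD1_c1 LD2_c21 LD3_c17))))))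
def v4186 : LQ := Led Lsl_gf (LP (LK LD1_c2 LD2_c13 LD3_c57))
theorem f631730 : Led Lsl_gf (LP (LK LD1_c2 LD2_c13 LD3_c57)) = v4186 :=
  Lrfl
theorem f146404 : Led Lsl_af (LP (LK LD1_c2 LD2_c13 LD3_c57)) = (LP (LK LD1_c1 LD2_c21 LD3_c16)) :=
  Lgr Lrot0 (Lpr_at (K6.f146393 IH) (Lpn (LP (LK LD1_c1 LD2_c21 LD3_c16))))
theorem f57181 : Led Lsl_ft (LP (LK LD1_c2 LD2_c50 LD3_c34)) = (LP (LK LD1_c1 LD2_c21 LD3_c16)) :=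
  Lre_f IH (LK LD1_c2 LD2_c50 LD3_c34) (LK LD1_c1 LD2_c21 LD3_c16) Lrfl Lrfl
theorem f631731 : Led Lsl_gt (LP (LK LD1_c2 LD2_c50 LD3_c34)) = v4186 :=
  Lgr Lrot5 (Lpr_ft (f57181 IH) (Lpe (f146404 IH) (Lpr_gf (f631730 IH) (Lpn v4186))))
theorem f669763 : Led Lsl_ct v4186 = v8044 :=
  Lgr Lrot152 (Lpe (f631731 IH) (Lpe (K6.f57194 IH) (Lpe (f416346 IH) (Lpr_ct (K32.f69073 IH) (Lpr_gt (K9.f67048 IH) (Lpe (K11.f68989 IH) (Lpe (K16.f69071 IH) (Lpr_cf (f500968 IH) (Lpr_gf (f669761 IH) (Lpn v8044))))))))))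
theorem f146420 : Led Lsl_bt (LP (LK LD1_c5 LD2_c48 LD3_c37)) = (LP (LK LD1_c2 LD2_c50 LD3_c34)) :=
  Lre_b IH (LK LD1_c5 LD2_c48 LD3_c37) (LK LD1_c2 LD2_c50 LD3_c34) Lrfl Lrfl
theorem f146524 : Led Lsl_ct (LP (LK LD1_c5 LD2_c48 LD3_c37)) = (LP (LK LD1_c11 LD2_c26 LD3_c47)) :=
  Lre_c IH (LK LD1_c5 LD2_c48 LD3_c37) (LK LD1_c11 LD2_c26 LD3_c47) Lrfl Lrfl
theorem f146041 : Led Lsl_at (LP (LK LD1_c4 LD2_c34 LD3_c35)) = (LP (LK LD1_c9 LD2_c5 LD3_c52)) :=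
  Lre_a IH (LK LD1_c4 LD2_c34 LD3_c35) (LK LD1_c9 LD2_c5 LD3_c52) Lrfl Lrfl
theorem f146449 : Led Lsl_at (LP (LK LD1_c5 LD2_c48 LD3_c11)) = (LP (LK LD1_c2 LD2_c50 LD3_c21)) :=
  Lre_a IH (LK LD1_c5 LD2_c48 LD3_c11) (LK LD1_c2 LD2_c50 LD3_c21) Lrfl Lrfl
theorem f146450 : Led Lsl_et (LP (LK LD1_c9 LD2_c5 LD3_c52)) = (LP (LK LD1_c5 LD2_c48 LD3_c11)) :=
  Lgr Lrot123 (Lpe (f146041 IH) (Lpr_ef (K6.f146446 IH) (Lpe (f146449 IH) (Lpn (LP (LK LD1_c5 LD2_c48 LD3_c11))))))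
theorem f567755 : Led Lsl_bf (LP (LK LD1_c9 LD2_c5 LD3_c52)) = (LP (LK LD1_c4 LD2_c34 LD3_c39)) :=
  Lgr Lrot96 (Lpr_et (f146450 IH) (Lpe (K32.f146438 IH) (Lpr_et (K41.f567753 IH) (Lpn (LP (LK LD1_c4 LD2_c34 LD3_c39))))))
theorem f615482 : Led Lsl_dt (LP (LK LD1_c9 LD2_c5 LD3_c52)) = (LP (LK LD1_c4 LD2_c34 LD3_c35)) :=
  Lgr Lrot79 (Lpr_bf (f567755 IH) (Lpe (K6.f92118 IH) (Lpe (K6.f92217 IH) (Lpn (LP (LK LD1_c4 LD2_c34 LD3_c35))))))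
theorem f66361 : Led Lsl_dt (LP (LK LD1_c11 LD2_c25 LD3_c59)) = (LP (LK LD1_c5 LD2_c48 LD3_c11)) :=
  Lre_d IH (LK LD1_c11 LD2_c25 LD3_c59) (LK LD1_c5 LD2_c48 LD3_c11) Lrfl Lrfl
theorem f57171 : Led Lsl_bt (LP (LK LD1_c2 LD2_c50 LD3_c21)) = (LP (LK LD1_c1 LD2_c21 LD3_c17)) :=
  Lre_b IH (LK LD1_c2 LD2_c50 LD3_c21) (LK LD1_c1 LD2_c21 LD3_c17) Lrfl Lrfl
theorem f146442 : Led Lsl_et (LP (LK LD1_c4 LD2_c34 LD3_c35)) = (LP (LK LD1_c2 LD2_c50 LD3_c21)) :=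
  Lgr Lrot74 (Lpe (K6.f92107 IH) (Lpr_ef (K6.f146440 IH) (Lpe (f57171 IH) (Lpn (LP (LK LD1_c2 LD2_c50 LD3_c21))))))
theorem f146459 : Led Lsl_dt (LP (LK LD1_c2 LD2_c50 LD3_c21)) = (LP (LK LD1_c5 LD2_c48 LD3_c37)) :=
  Lre_d IH (LK LD1_c2 LD2_c50 LD3_c21) (LK LD1_c5 LD2_c48 LD3_c37) Lrfl Lrfl
theorem f615486 : Led Lsl_ef (LP (LK LD1_c11 LD2_c25 LD3_c59)) = (LP (LK LD1_c5 LD2_c48 LD3_c37)) :=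
  Lgr Lrot73 (Lpr_dt (f66361 IH) (Lpe (K45.f135916 IH) (Lpr_dt (f615482 IH) (Lpr_et (f146442 IH) (Lpr_dt (f146459 IH) (Lpn (LP (LK LD1_c5 LD2_c48 LD3_c37))))))))
theorem f615535 : Led Lsl_et (LP (LK LD1_c11 LD2_c25 LD3_c59)) = (LP (LK LD1_c5 LD2_c48 LD3_c37)) :=
  Lgr Lrot87 (Lpr_ef (f615486 IH) (Lpn (LP (LK LD1_c5 LD2_c48 LD3_c37))))
theorem f202550 : Led Lsl_et (LP (LK LD1_c7 LD2_c51 LD3_c15)) = (LP (LK LD1_c3 LD2_c54 LD3_c48)) :=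
  Lre_e IH (LK LD1_c7 LD2_c51 LD3_c15) (LK LD1_c3 LD2_c54 LD3_c48) Lrfl Lrfl
theorem f531364 : Led Lsl_ft (LP (LK LD1_c14 LD2_c48 LD3_c56)) = (LP (LK LD1_c7 LD2_c51 LD3_c15)) :=
  Lre_f IH (LK LD1_c14 LD2_c48 LD3_c56) (LK LD1_c7 LD2_c51 LD3_c15) Lrfl Lrfl
theorem f544138 : Led Lsl_et (LP (LK LD1_c2 LD2_c50 LD3_c26)) = (LP (LK LD1_c5 LD2_c48 LD3_c36)) :=
  Lre_e IH (LK LD1_c2 LD2_c50 LD3_c26) (LK LD1_c5 LD2_c48 LD3_c36) Lrfl Lrfl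
theorem f544122 : Led Lsl_ft (LP (LK LD1_c5 LD2_c48 LD3_c36)) = (LP (LK LD1_c11 LD2_c26 LD3_c47)) :=
  Lre_f IH (LK LD1_c5 LD2_c48 LD3_c36) (LK LD1_c11 LD2_c26 LD3_c47) Lrfl Lrfl
theorem f544141 : Led Lsl_ef (LP (LK LD1_c14 LD2_c48 LD3_c56)) = (LP (LK LD1_c11 LD2_c26 LD3_c47)) :=
  Lgr Lrot21 (Lpr_ft (f531364 IH) (Lpr_et (f202550 IH) (Lpr_ft (K34.f531363 IH) (Lpqs (K37.f544129 IH) (Lpr_et (f544138 IH) (Lpr_ft (f544122 IH) (Lpn (LP (LK LD1_c11 LD2_c26 LD3_c47)))))))))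
theorem f615540 : Led Lsl_cf (LP (LK LD1_c11 LD2_c25 LD3_c59)) = (LP (LK LD1_c14 LD2_c48 LD3_c56)) :=
  Lgr Lrot39 (Lpr_et (f615535 IH) (Lpr_ct (f146524 IH) (Lpe (f544141 IH) (Lpn (LP (LK LD1_c14 LD2_c48 LD3_c56))))))
theorem f615545 : Led Lsl_ct (LP (LK LD1_c11 LD2_c25 LD3_c59)) = (LP (LK LD1_c14 LD2_c48 LD3_c56)) :=
  Lgr Lrot59 (Lpr_cf (f615540 IH) (Lpn (LP (LK LD1_c14 LD2_c48 LD3_c56))))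
theorem f437487 : Led Lsl_at (LP (LK LD1_c5 LD2_c48 LD3_c37)) = (LP (LK LD1_c11 LD2_c25 LD3_c59)) :=
  Lre_a IH (LK LD1_c5 LD2_c48 LD3_c37) (LK LD1_c11 LD2_c25 LD3_c59) Lrfl Lrfl
theorem f146522 : Led Lsl_ct (LP (LK LD1_c11 LD2_c26 LD3_c47)) = (LP (LK LD1_c5 LD2_c48 LD3_c37)) :=
  Lre_c IH (LK LD1_c11 LD2_c26 LD3_c47) (LK LD1_c5 LD2_c48 LD3_c37) Lrfl Lrfl
theorem f615554 : Led Lsl_af (LP (LK LD1_c11 LD2_c26 LD3_c47)) = (LP (LK LD1_c14 LD2_c48 LD3_c56)) :=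
  Lgr Lrot68 (Lpr_ct (f146522 IH) (Lpr_at (f437487 IH) (Lpr_ct (f615545 IH) (Lpn (LP (LK LD1_c14 LD2_c48 LD3_c56))))))
theorem f531362 : Led Lsl_ft (LP (LK LD1_c7 LD2_c51 LD3_c15)) = (LP (LK LD1_c14 LD2_c48 LD3_c56)) :=
  Lre_f IH (LK LD1_c7 LD2_c51 LD3_c15) (LK LD1_c14 LD2_c48 LD3_c56) Lrfl Lrfl
theorem f144637 : Led Lsl_gt (LP (LK LD1_c7 LD2_c51 LD3_c15)) = (LP (LK LD1_c14 LD2_c48 LD3_c53)) :=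
  Lre_g IH (LK LD1_c7 LD2_c51 LD3_c15) (LK LD1_c14 LD2_c48 LD3_c53) Lrfl Lrfl
theorem f615647 : Led Lsl_gf (LP (LK LD1_c11 LD2_c26 LD3_c47)) = (LP (LK LD1_c14 LD2_c48 LD3_c53)) :=
  Lgr Lrot76 (Lpr_af (f615554 IH) (Lpe (f531362 IH) (Lpr_gt (f144637 IH) (Lpn (LP (LK LD1_c14 LD2_c48 LD3_c53))))))
theorem f669764 : Led Lsl_ct (LP (LK LD1_c11 LD2_c48 LD3_c29)) = (LP (LK LD1_c14 LD2_c48 LD3_c53)) :=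
  Lgr Lrot64 (Lpr_bt (f500971 IH) (Lpe (f204738 IH) (Lpe (f204678 IH) (Lpr_ct (f500967 IH) (Lpr_gf (f669761 IH) (Lpe (f669763 IH) (Lpe (f631731 IH) (Lpe (f146420 IH) (Lpr_ct (f146524 IH) (Lpr_gf (f615647 IH) (Lpn (LP (LK LD1_c14 LD2_c48 LD3_c53)))))))))))))
theorem f669765 : Led Lsl_ct (LP (LK LD1_c11 LD2_c48 LD3_c29)) = (LP (LK LD1_c14 LD2_c48 LD3_c53)) :=
  Leop (Lpe (f669764 IH) (Lpn (LP (LK LD1_c11 LD2_c48 LD3_c29))))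
theorem seed_533 : LEOK LG_c (LK LD1_c11 LD2_c48 LD3_c29) :=
  Leoe_c (LK LD1_c11 LD2_c48 LD3_c29) (f669765 IH)
def v8203 : LQ := Led Lsl_bt K38.v1912
theorem f670324 : Led Lsl_bt K38.v1912 = v8203 :=
  Lrfl
theorem f506361 : Led Lsl_cf K38.v1246 = K38.v1912 :=
  Lgr Lrot11 (Lpr_ct (K38.f506360 IH) (Lpn K38.v1912))
theorem f156699 : Led Lsl_bt (LP (LK LD1_c3 LD2_c47 LD3_c39)) = (LP (LK LD1_c7 LD2_c36 LD3_c10)) :=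
  Lre_b IH (LK LD1_c3 LD2_c47 LD3_c39) (LK LD1_c7 LD2_c36 LD3_c10) Lrfl Lrfl
theorem f57446 : Led Lsl_bt (LP (LK LD1_c3 LD2_c19 LD3_c42)) = (LP (LK LD1_c1 LD2_c36 LD3_c15)) :=
  Lre_b IH (LK LD1_c3 LD2_c19 LD3_c42) (LK LD1_c1 LD2_c36 LD3_c15) Lrfl Lrfl
theorem f156701 : Led Lsl_gt (LP (LK LD1_c7 LD2_c36 LD3_c11)) = (LP (LK LD1_c4 LD2_c48 LD3_c12)) :=
  Lgr Lrot65 (Lpe (K32.f16785 IH) (Lpr_bt (f156699 IH) (Lpr_gf (K32.f156697 IH) (Lpe (K42.f107402 IH) (Lpr_ct (K3.f104291 IH) (Lpe (K4.f120186 IH) (Lpe (K4.f120205 IH) (Lpr_gf (K7.f144026 IH) (Lpe (f57446 IH) (Lpe (K11.f144018 IH) (Lpn (LP (LK LD1_c4 LD2_c48 LD3_c12)))))))))))))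
theorem f567774 : Led Lsl_gf (LP (LK LD1_c7 LD2_c36 LD3_c11)) = (LP (LK LD1_c4 LD2_c34 LD3_c40)) :=
  Lgr Lrot47 (Lpr_gt (f156701 IH) (Lpe (K41.f437299 IH) (Lpr_ff (K41.f567766 IH) (Lpn (LP (LK LD1_c4 LD2_c34 LD3_c40))))))
theorem f40043 : Led Lsl_bf (LP (LK LD1_c8 LD2_c0 LD3_c39)) = (LP (LK LD1_c6 LD2_c54 LD3_c19)) :=
  Lgr Lrot93 (Lpr_dt (K1.f40038 IH) (Lpe (K1.f16133 IH) (Lpr_dt (K0.f16064 IH) (Lpn (LP (LK LD1_c6 LD2_c54 LD3_c19))))))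
theorem f670330 : Led Lsl_gt (LP (LK LD1_c8 LD2_c0 LD3_c39)) = v8203 :=
  Lgr Lrot164 (Lpr_bf (f40043 IH) (Lpr_ct (K0.f16063 IH) (Lpe (K7.f16783 IH) (Lpe (K37.f16786 IH) (Lpr_gf (f567774 IH) (Lpe (K42.f419045 IH) (Lpr_ct (K38.f176875 IH) (Lpq (K38.f537243 IH) (Lpe (K41.f452695 IH) (Lpq (K38.f537294 IH) (Lpr_cf (f506361 IH) (Lpr_bt (f670324 IH) (Lpn v8203)))))))))))))
theorem f16790 : Led Lsl_bt (LP (LK LD1_c7 LD2_c36 LD3_c11)) = (LP (LK LD1_c14 LD2_c20 LD3_c3)) :=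
  Lre_b IH (LK LD1_c7 LD2_c36 LD3_c11) (LK LD1_c14 LD2_c20 LD3_c3) Lrfl Lrfl
theorem f149384 : Led Lsl_bf (LP (LK LD1_c4 LD2_c38 LD3_c46)) = (LP (LK LD1_c8 LD2_c0 LD3_c2)) :=
  Lgr Lrot61 (Lpr_ft (K7.f149382 IH) (Lpr_bt (K6.f26494 IH) (Lpe (K8.f139514 IH) (Lpn (LP (LK LD1_c8 LD2_c0 LD3_c2))))))
theorem f670326 : Led Lsl_cf (LP (LK LD1_c8 LD2_c0 LD3_c2)) = v8203 :=
  Lgr Lrot97 (Lpe (f149384 IH) (Lpe (K8.f58891 IH) (Lpr_bt (K8.f58857 IH) (Lpq (K38.f537294 IH) (Lpr_ct (K38.f506360 IH) (Lpr_bt (f670324 IH) (Lpn v8203)))))))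
theorem f159050 : Led Lsl_dt (LP (LK LD1_c2 LD2_c15 LD3_c7)) = (LP (LK LD1_c4 LD2_c35 LD3_c52)) :=
  Lre_d IH (LK LD1_c2 LD2_c15 LD3_c7) (LK LD1_c4 LD2_c35 LD3_c52) Lrfl Lrfl
theorem f208392 : Led Lsl_gf (LP (LK LD1_c12 LD2_c49 LD3_c23)) = (LP (LK LD1_c8 LD2_c0 LD3_c2)) :=
  Lgr Lrot143 (Lpr_dt (K32.f208382 IH) (Lpe (K32.f159067 IH) (Lpe (f159050 IH) (Lpe (K8.f161360 IH) (Lpe (K4.f99594 IH) (Lpe (K8.f100334 IH) (Lpr_cf (K8.f157629 IH) (Lpr_gt (K8.f150233 IH) (Lpr_dt (K8.f139440 IH) (Lpn (LP (LK LD1_c8 LD2_c0 LD3_c2))))))))))))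
theorem f208406 : Led Lsl_bt (LP (LK LD1_c6 LD2_c42 LD3_c8)) = (LP (LK LD1_c12 LD2_c49 LD3_c22)) :=
  Lre_b IH (LK LD1_c6 LD2_c42 LD3_c8) (LK LD1_c12 LD2_c49 LD3_c22) Lrfl Lrfl
theorem f670331 : Led Lsl_gf (LP (LK LD1_c14 LD2_c20 LD3_c3)) = (LP (LK LD1_c12 LD2_c49 LD3_c22)) :=
  Lgr Lrot124 (Lpe (f16790 IH) (Lpr_ct (K37.f16786 IH) (Lpr_gt (K7.f16783 IH) (Lpe (K0.f16063 IH) (Lpe (f40043 IH) (Lpr_gt (f670330 IH) (Lpe (f670326 IH) (Lpe (f208392 IH) (Lpe (K32.f129258 IH) (Lpr_bt (f208406 IH) (Lpn (LP (LK LD1_c12 LD2_c49 LD3_c22)))))))))))))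
theorem f670332 : Led Lsl_gt (LP (LK LD1_c12 LD2_c49 LD3_c22)) = (LP (LK LD1_c14 LD2_c20 LD3_c3)) :=
  Leop (Lpr_gf (f670331 IH) (Lpn (LP (LK LD1_c12 LD2_c49 LD3_c22))))
theorem seed_534 : LEOK LG_g (LK LD1_c12 LD2_c49 LD3_c22) :=
  Leoe_g (LK LD1_c12 LD2_c49 LD3_c22) (f670332 IH)
def v1978 : LQ := Led Lsl_gt (LP (LK LD1_c1 LD2_c32 LD3_c46))
def v8315 : LQ := Led Lsl_bt v1978
theorem f670759 : Led Lsl_bt v1978 = v8315 :=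
  Lrfl
theorem f506722 : Led Lsl_gt (LP (LK LD1_c1 LD2_c32 LD3_c46)) = v1978 :=
  Lrfl
def v1783 : LQ := Led Lsl_at (LP (LK LD1_c1 LD2_c26 LD3_c58))
theorem f502865 : Led Lsl_at (LP (LK LD1_c1 LD2_c26 LD3_c58)) = v1783 :=
  Lrfl
theorem f115545 : Led Lsl_at (LP (LK LD1_c1 LD2_c34 LD3_c35)) = (LP (LK LD1_c0 LD2_c43 LD3_c61)) :=
  Lre_a IH (LK LD1_c1 LD2_c34 LD3_c35) (LK LD1_c0 LD2_c43 LD3_c61) Lrfl Lrfl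
theorem f502867 : Led Lsl_bf (LP (LK LD1_c1 LD2_c34 LD3_c35)) = v1783 :=
  Lgr Lrot81 (Lpr_at (f115545 IH) (Lpr_bt (K4.f62860 IH) (Lpe (K5.f130686 IH) (Lpr_bt (K5.f96077 IH) (Lpr_at (f502865 IH) (Lpn v1783))))))
theorem f506726 : Led Lsl_ct v1783 = v1978 :=
  Lgr Lrot63 (Lpe (f502867 IH) (Lpr_gt (K30.f208104 IH) (Lpe (f208764 IH) (Lpr_ct (K4.f116089 IH) (Lpr_gt (K4.f121235 IH) (Lpe (K4.f107290 IH) (Lpe (K4.f124195 IH) (Lpe (K4.f79381 IH) (Lpr_ct (K2.f61205 IH) (Lpr_gt (f506722 IH) (Lpn v1978)))))))))))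
theorem f209759 : Led Lsl_gf (LP (LK LD1_c1 LD2_c33 LD3_c61)) = (LP (LK LD1_c0 LD2_c43 LD3_c50)) :=
  Lgr Lrot172 (Lpr_ct (K42.f24031 IH) (Lpr_dt (K42.f127467 IH) (Lpr_cf (K42.f209755 IH) (Lpe (K42.f209757 IH) (Lpe (K4.f79639 IH) (Lpe (K4.f76507 IH) (Lpr_dt (K2.f25119 IH) (Lpe (K3.f76453 IH) (Lpr_ct (K3.f23339 IH) (Lpn (LP (LK LD1_c0 LD2_c43 LD3_c50))))))))))))
theorem f502870 : Led Lsl_gt (LP (LK LD1_c1 LD2_c33 LD3_c61)) = v1783 :=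
  Lgr Lrot46 (Lpr_gf (f209759 IH) (Lpr_ft (K3.f110939 IH) (Lpr_at (f502865 IH) (Lpn v1783))))
theorem f129594 : Led Lsl_gt (LP (LK LD1_c3 LD2_c14 LD3_c51)) = (LP (LK LD1_c1 LD2_c34 LD3_c0)) :=
  Lgr Lrot94 (Lpe (K2.f93178 IH) (Lpr_gt (K5.f129592 IH) (Lpr_dt (K5.f57592 IH) (Lpr_gt (K3.f66644 IH) (Lpr_dt (K2.f25033 IH) (Lpe (K4.f62284 IH) (Lpe (K6.f113311 IH) (Lpe (K5.f127352 IH) (Lpe (K5.f126563 IH) (Lpn (LP (LK LD1_c1 LD2_c34 LD3_c0))))))))))))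
theorem f502872 : Led Lsl_bt (LP (LK LD1_c1 LD2_c34 LD3_c35)) = v1783 :=
  Lgr Lrot92 (Lpr_ct (K30.f208106 IH) (Lpr_gt (K30.f89466 IH) (Lpe (K4.f89447 IH) (Lpr_bt (K4.f89390 IH) (Lpr_gt (K30.f146578 IH) (Lpr_ct (K2.f93178 IH) (Lpr_gt (f129594 IH) (Lpe (K5.f91850 IH) (Lpr_bt (K5.f126560 IH) (Lpr_gt (f502870 IH) (Lpn v1783)))))))))))
theorem f670761 : Led Lsl_cf (LP (LK LD1_c6 LD2_c19 LD3_c18)) = v8315 :=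
  Lgr Lrot97 (Lpr_bt (K32.f89496 IH) (Lpe (K32.f208108 IH) (Lpr_bt (f502872 IH) (Lpr_ct (f506726 IH) (Lpr_bt (f670759 IH) (Lpn v8315))))))
theorem f670760 : Led Lsl_bf v1978 = v8315 :=
  Lgr Lrot24 (Lpr_bt (f670759 IH) (Lpn v8315))
theorem f25125 : Led Lsl_at (LP (LK LD1_c1 LD2_c29 LD3_c21)) = (LP (LK LD1_c3 LD2_c6 LD3_c23)) :=
  Lre_a IH (LK LD1_c1 LD2_c29 LD3_c21) (LK LD1_c3 LD2_c6 LD3_c23) Lrfl Lrfl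
theorem f76442 : Led Lsl_ft (LP (LK LD1_c1 LD2_c32 LD3_c46)) = (LP (LK LD1_c1 LD2_c29 LD3_c21)) :=
  Lgr Lrot101 (Lpe (K2.f61525 IH) (Lpr_ff (K2.f76440 IH) (Lpe (f25125 IH) (Lpn (LP (LK LD1_c1 LD2_c29 LD3_c21))))))
theorem f506724 : Led Lsl_gf (LP (LK LD1_c3 LD2_c6 LD3_c23)) = v1978 :=
  Lgr Lrot76 (Lpe (f25125 IH) (Lpe (f76442 IH) (Lpr_gt (f506722 IH) (Lpn v1978))))
theorem f13529 : Led Lsl_bt (LP (LK LD1_c3 LD2_c11 LD3_c58)) = (LP (LK LD1_c6 LD2_c28 LD3_c7)) :=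
  Lre_b IH (LK LD1_c3 LD2_c11 LD3_c58) (LK LD1_c6 LD2_c28 LD3_c7) Lrfl Lrfl
theorem f13530 : Led Lsl_gt (LP (LK LD1_c6 LD2_c28 LD3_c7)) = (LP (LK LD1_c12 LD2_c27 LD3_c34)) :=
  Lre_g IH (LK LD1_c6 LD2_c28 LD3_c7) (LK LD1_c12 LD2_c27 LD3_c34) Lrfl Lrfl
theorem f670765 : Led Lsl_bt (LP (LK LD1_c12 LD2_c43 LD3_c25)) = (LP (LK LD1_c12 LD2_c27 LD3_c34)) :=
  Lgr Lrot92 (Lpr_ct (K32.f103899 IH) (Lpe (K32.f208111 IH) (Lpr_cf (f670761 IH) (Lpe (f670760 IH) (Lpe (f506724 IH) (Lpr_ct (K2.f25118 IH) (Lpr_gt (K3.f79379 IH) (Lpe (K42.f13526 IH) (Lpr_bt (f13529 IH) (Lpr_gt (f13530 IH) (Lpn (LP (LK LD1_c12 LD2_c27 LD3_c34)))))))))))))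
theorem f670766 : Led Lsl_bt (LP (LK LD1_c12 LD2_c43 LD3_c25)) = (LP (LK LD1_c12 LD2_c27 LD3_c34)) :=
  Leop (Lpe (f670765 IH) (Lpn (LP (LK LD1_c12 LD2_c43 LD3_c25))))
theorem seed_535 : LEOK LG_b (LK LD1_c12 LD2_c43 LD3_c25) :=
  Leoe_b (LK LD1_c12 LD2_c43 LD3_c25) (f670766 IH)
def v5753 : LQ := Led Lsl_gt (LP (LK LD1_c3 LD2_c12 LD3_c54))
theorem f649205 : Led Lsl_gt (LP (LK LD1_c3 LD2_c12 LD3_c54)) = v5753 :=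
  Lrfl
theorem f640053 : Led Lsl_ft (LP (LK LD1_c3 LD2_c12 LD3_c54)) = (LP (LK LD1_c3 LD2_c6 LD3_c39)) :=
  Lgr Lrot48 (Lpr_ff (f639967 IH) (Lpn (LP (LK LD1_c3 LD2_c6 LD3_c39))))
theorem f649206 : Led Lsl_gf v5351 = v5753 :=
  Lgr Lrot76 (Lpe (f647223 IH) (Lpe (f640053 IH) (Lpr_gt (f649205 IH) (Lpn v5753))))
def v1992 : LQ := Led Lsl_gt (LP (LK LD1_c1 LD2_c33 LD3_c8))
theorem f506781 : Led Lsl_gt (LP (LK LD1_c1 LD2_c33 LD3_c8)) = v1992 :=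
  Lrfl
def v8347 : LQ := Led Lsl_et v1992
theorem f670883 : Led Lsl_et v1992 = v8347 :=
  Lrfl
theorem f670884 : Led Lsl_ef v1992 = v8347 :=
  Lgr Lrot88 (Lpr_et (f670883 IH) (Lpn v8347))
theorem f129085 : Led Lsl_ft (LP (LK LD1_c1 LD2_c33 LD3_c8)) = (LP (LK LD1_c3 LD2_c13 LD3_c24)) :=
  Lre_f IH (LK LD1_c1 LD2_c33 LD3_c8) (LK LD1_c3 LD2_c13 LD3_c24) Lrfl Lrfl
theorem f506419 : Led Lsl_ff (LP (LK LD1_c1 LD2_c31 LD3_c40)) = K46.v1926 :=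
  Lgr Lrot3 (Lpr_ft (K46.f506416 IH) (Lpn K46.v1926))
theorem f108708 : Led Lsl_ct (LP (LK LD1_c3 LD2_c15 LD3_c32)) = (LP (LK LD1_c3 LD2_c28 LD3_c32)) :=
  Lgr Lrot59 (Lpr_cf (K34.f108694 IH) (Lpn (LP (LK LD1_c3 LD2_c28 LD3_c32))))
theorem f209214 : Led Lsl_af (LP (LK LD1_c1 LD2_c49 LD3_c52)) = (LP (LK LD1_c3 LD2_c28 LD3_c32)) :=
  Lgr Lrot68 (Lpr_ct (f209213 IH) (Lpr_at (K34.f209210 IH) (Lpr_ct (f108708 IH) (Lpn (LP (LK LD1_c3 LD2_c28 LD3_c32))))))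
theorem f109363 : Led Lsl_et (LP (LK LD1_c1 LD2_c38 LD3_c58)) = (LP (LK LD1_c3 LD2_c25 LD3_c0)) :=
  Lre_e IH (LK LD1_c1 LD2_c38 LD3_c58) (LK LD1_c3 LD2_c25 LD3_c0) Lrfl Lrfl
theorem f109368 : Led Lsl_bt (LP (LK LD1_c3 LD2_c25 LD3_c0)) = (LP (LK LD1_c3 LD2_c28 LD3_c32)) :=
  Lgr Lrot119 (Lpe (f109363 IH) (Lpr_bf (K4.f109365 IH) (Lpe (K34.f95737 IH) (Lpn (LP (LK LD1_c3 LD2_c28 LD3_c32))))))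
theorem f130977 : Led Lsl_ef (LP (LK LD1_c6 LD2_c58 LD3_c60)) = (LP (LK LD1_c3 LD2_c45 LD3_c22)) :=
  Lgr Lrot21 (Lpr_ft (K34.f108712 IH) (Lpr_et (K34.f95737 IH) (Lpr_ft (K5.f130973 IH) (Lpr_et (K5.f93353 IH) (Lpr_ft (K46.f130966 IH) (Lpn (LP (LK LD1_c3 LD2_c45 LD3_c22))))))))
theorem f130982 : Led Lsl_et (LP (LK LD1_c6 LD2_c58 LD3_c60)) = (LP (LK LD1_c3 LD2_c45 LD3_c22)) :=
  Lgr Lrot87 (Lpr_ef (f130977 IH) (Lpn (LP (LK LD1_c3 LD2_c45 LD3_c22))))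
theorem f109372 : Led Lsl_ft (LP (LK LD1_c6 LD2_c52 LD3_c26)) = (LP (LK LD1_c3 LD2_c25 LD3_c0)) :=
  Lre_f IH (LK LD1_c6 LD2_c52 LD3_c26) (LK LD1_c3 LD2_c25 LD3_c0) Lrfl Lrfl
theorem f109373 : Led Lsl_bf (LP (LK LD1_c6 LD2_c52 LD3_c26)) = (LP (LK LD1_c6 LD2_c58 LD3_c60)) :=
  Lgr Lrot61 (Lpr_ft (f109372 IH) (Lpr_bt (f109368 IH) (Lpr_ft (K34.f108725 IH) (Lpn (LP (LK LD1_c6 LD2_c58 LD3_c60))))))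
theorem f109375 : Led Lsl_bt (LP (LK LD1_c6 LD2_c52 LD3_c26)) = (LP (LK LD1_c6 LD2_c58 LD3_c60)) :=
  Lgr Lrot127 (Lpr_bf (f109373 IH) (Lpn (LP (LK LD1_c6 LD2_c58 LD3_c60))))
theorem f209021 : Led Lsl_ef (LP (LK LD1_c6 LD2_c52 LD3_c26)) = (LP (LK LD1_c6 LD2_c52 LD3_c45)) :=
  Lgr Lrot29 (Lpr_bt (f109375 IH) (Lpr_et (f130982 IH) (Lpr_bt (f209016 IH) (Lpn (LP (LK LD1_c6 LD2_c52 LD3_c45))))))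
theorem f209025 : Led Lsl_et (LP (LK LD1_c6 LD2_c52 LD3_c26)) = (LP (LK LD1_c6 LD2_c52 LD3_c45)) :=
  Lgr Lrot87 (Lpr_ef (f209021 IH) (Lpn (LP (LK LD1_c6 LD2_c52 LD3_c45))))
theorem f209027 : Led Lsl_af (LP (LK LD1_c6 LD2_c52 LD3_c26)) = (LP (LK LD1_c6 LD2_c30 LD3_c31)) :=
  Lgr Lrot50 (Lpr_et (f209025 IH) (Lpe (K46.f209002 IH) (Lpe (K5.f129083 IH) (Lpn (LP (LK LD1_c6 LD2_c30 LD3_c31))))))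
theorem f209031 : Led Lsl_at (LP (LK LD1_c3 LD2_c25 LD3_c0)) = (LP (LK LD1_c3 LD2_c13 LD3_c20)) :=
  Lgr Lrot66 (Lpe (f109372 IH) (Lpr_af (f209027 IH) (Lpe (K46.f68484 IH) (Lpn (LP (LK LD1_c3 LD2_c13 LD3_c20))))))
theorem f209035 : Led Lsl_af (LP (LK LD1_c3 LD2_c25 LD3_c0)) = (LP (LK LD1_c3 LD2_c13 LD3_c20)) :=
  Lgr Lrot0 (Lpr_at (f209031 IH) (Lpn (LP (LK LD1_c3 LD2_c13 LD3_c20))))
theorem f209260 : Led Lsl_at (LP (LK LD1_c1 LD2_c31 LD3_c40)) = (LP (LK LD1_c1 LD2_c33 LD3_c8)) :=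
  Lgr Lrot67 (Lpr_bf (f209258 IH) (Lpr_af (f209214 IH) (Lpe (f109368 IH) (Lpr_af (f209035 IH) (Lpe (K8.f68496 IH) (Lpn (LP (LK LD1_c1 LD2_c33 LD3_c8))))))))
theorem f506421 : Led Lsl_at (LP (LK LD1_c3 LD2_c13 LD3_c24)) = K46.v1926 :=
  Lgr Lrot66 (Lpe (f129085 IH) (Lpe (f209260 IH) (Lpr_ff (f506419 IH) (Lpn K46.v1926))))
theorem f506782 : Led Lsl_gf K46.v1926 = v1992 :=
  Lgr Lrot76 (Lpe (f506421 IH) (Lpe (f129085 IH) (Lpr_gt (f506781 IH) (Lpn v1992))))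
theorem f129013 : Led Lsl_ff (LP (LK LD1_c0 LD2_c43 LD3_c7)) = (LP (LK LD1_c0 LD2_c42 LD3_c23)) :=
  Lgr Lrot19 (Lpe (K3.f104340 IH) (Lpr_ft (K5.f129009 IH) (Lpr_dt (K5.f119850 IH) (Lpn (LP (LK LD1_c0 LD2_c42 LD3_c23))))))
theorem f506790 : Led Lsl_ef K46.v1926 = K34.v1996 :=
  Lgr Lrot21 (Lpe (f506419 IH) (Lpr_et (K46.f119851 IH) (Lpe (f129013 IH) (Lpr_et (K34.f104342 IH) (Lpr_ft (K34.f506788 IH) (Lpn K34.v1996))))))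
theorem f527796 : Led Lsl_df K34.v2239 = K34.v1996 :=
  Lgr Lrot78 (Lpr_ft (K34.f527794 IH) (Lpe (K34.f124432 IH) (Lpr_ft (K34.f506788 IH) (Lpn K34.v1996))))
theorem f506450 : Led Lsl_df (LP (LK LD1_c3 LD2_c10 LD3_c34)) = K35.v1932 :=
  Lgr Lrot78 (Lpr_ft (K34.f129087 IH) (Lpr_dt (K34.f209072 IH) (Lpr_ft (K35.f506448 IH) (Lpn K35.v1932))))
def v1995 : LQ := Led Lsl_gf (LP (LK LD1_c1 LD2_c33 LD3_c11))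
theorem f506786 : Led Lsl_gf (LP (LK LD1_c1 LD2_c33 LD3_c11)) = v1995 :=
  Lrfl
theorem f506787 : Led Lsl_gt (LP (LK LD1_c3 LD2_c10 LD3_c34)) = v1995 :=
  Lgr Lrot5 (Lpr_ft (K34.f129087 IH) (Lpr_at (K34.f209082 IH) (Lpr_gf (f506786 IH) (Lpn v1995))))
theorem f670885 : Led Lsl_df v1995 = v8347 :=
  Lgr Lrot132 (Lpe (f506787 IH) (Lpr_df (f506450 IH) (Lpe (K35.f527840 IH) (Lpr_ef (K34.f510431 IH) (Lpe (K34.f510429 IH) (Lpr_gf (K34.f510424 IH) (Lpr_df (f527796 IH) (Lpe (f506790 IH) (Lpr_gf (f506782 IH) (Lpr_ef (f670884 IH) (Lpn v8347)))))))))))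
def v5742 : LQ := Led Lsl_at (LP (LK LD1_c3 LD2_c12 LD3_c42))
theorem f649149 : Led Lsl_at (LP (LK LD1_c3 LD2_c12 LD3_c42)) = v5742 :=
  Lrfl
def v1981 : LQ := Led Lsl_ft (LP (LK LD1_c1 LD2_c32 LD3_c48))
theorem f506747 : Led Lsl_ft (LP (LK LD1_c1 LD2_c32 LD3_c48)) = v1981 :=
  Lrfl
theorem f506749 : Led Lsl_ff (LP (LK LD1_c1 LD2_c32 LD3_c48)) = v1981 :=
  Lgr Lrot3 (Lpr_ft (f506747 IH) (Lpn v1981))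
theorem f632180 : Led Lsl_cf v1981 = v4246 :=
  Lgr Lrot108 (Lpe (f506749 IH) (Lpe (K9.f139974 IH) (Lpr_ft (f632178 IH) (Lpn v4246))))
theorem f639196 : v1981 = (LP (LK LD1_c1 LD2_c29 LD3_c38)) :=
  Lefun (Lecon (Lfl_cf (f632180 IH)) (f639189 IH).symm) (Lfl_cf (K17.f414630 IH))
theorem f640441 : Led Lsl_ff K46.v1841 = (LP (LK LD1_c3 LD2_c12 LD3_c42)) :=
  Lgr Lrot25 (Lpe (K46.f504509 IH) (Lpq (f639196 IH) (Lpe (f506749 IH) (Lpr_bt (K34.f139987 IH) (Lpn (LP (LK LD1_c3 LD2_c12 LD3_c42)))))))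
theorem f640442 : Led Lsl_ft K46.v1841 = (LP (LK LD1_c3 LD2_c12 LD3_c42)) :=
  Lgr Lrot48 (Lpr_ff (f640441 IH) (Lpn (LP (LK LD1_c3 LD2_c12 LD3_c42))))
theorem f640443 : Led Lsl_at K46.v1841 = v1995 :=
  Lgr Lrot26 (Lpr_ff (f640441 IH) (Lpqs (K34.f527823 IH) (Lpr_gt (K34.f506792 IH) (Lpr_gt (f506787 IH) (Lpn v1995)))))
theorem f640444 : Led Lsl_af K46.v1841 = v1995 :=
  Lgr Lrot0 (Lpr_at (f640443 IH) (Lpn v1995))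
theorem f649152 : Led Lsl_ff v1995 = v5742 :=
  Lgr Lrot30 (Lpe (f640444 IH) (Lpr_ft (f640442 IH) (Lpr_at (f649149 IH) (Lpn v5742))))
theorem f649153 : Led Lsl_ft v1995 = v5742 :=
  Lgr Lrot48 (Lpr_ff (f649152 IH) (Lpn v5742))
def v1920 : LQ := Led Lsl_gt (LP (LK LD1_c1 LD2_c31 LD3_c36))
theorem f506395 : Led Lsl_gt (LP (LK LD1_c1 LD2_c31 LD3_c36)) = v1920 :=
  Lrfl
theorem f649372 : v5742 = v1920 :=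
  (Llr Lrot26 (Lpe (f649149 IH) (Lpe (f640442 IH) (Lpqs (K46.f649371 IH) (Lpe (K46.f506396 IH) (Lpr_gt (f506395 IH) (Lpn v1920))))))).symm
def v8206 : LQ := Led Lsl_dt v1920
theorem f670346 : Led Lsl_dt v1920 = v8206 :=
  Lrfl
theorem f670888 : Led Lsl_ft v8206 = v8347 :=
  Lgr Lrot54 (Lpe (f670346 IH) (Lpq (f649372 IH) (Lpe (f649153 IH) (Lpr_df (f670885 IH) (Lpn v8347)))))
theorem f670348 : Led Lsl_df v1920 = v8206 :=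
  Lgr Lrot38 (Lpr_dt (f670346 IH) (Lpn v8206))
theorem f649150 : Led Lsl_af (LP (LK LD1_c3 LD2_c12 LD3_c42)) = v5742 :=
  Lgr Lrot0 (Lpr_at (f649149 IH) (Lpn v5742))
def v5744 : LQ := Led Lsl_dt (LP (LK LD1_c3 LD2_c12 LD3_c42))
theorem f649159 : Led Lsl_dt (LP (LK LD1_c3 LD2_c12 LD3_c42)) = v5744 :=
  Lrfl
theorem f670349 : Led Lsl_at v5744 = v8206 :=
  Lgr Lrot51 (Lpe (f649159 IH) (Lpr_af (f649150 IH) (Lpqs (f649372 IH) (Lpr_df (f670348 IH) (Lpn v8206)))))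
theorem f649162 : Led Lsl_ff K46.v5354 = v5744 :=
  Lgr Lrot19 (Lpe (K46.f647237 IH) (Lpr_ft (f640442 IH) (Lpr_dt (f649159 IH) (Lpn v5744))))
theorem f649164 : Led Lsl_ft K46.v5354 = v5744 :=
  Lgr Lrot48 (Lpr_ff (f649162 IH) (Lpn v5744))
theorem f670889 : Led Lsl_af K46.v5354 = v8347 :=
  Lgr Lrot45 (Lpr_ft (f649164 IH) (Lpr_at (f670349 IH) (Lpr_ft (f670888 IH) (Lpn v8347))))
theorem f670891 : v5351 = v1992 :=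
  (Llr Lrot80 (Lpe (f647223 IH) (Lpr_ef (K46.f647235 IH) (Lpr_af (f670889 IH) (Lpe (f670883 IH) (Lpn v1992)))))).symm
theorem f670893 : v5753 = (LP (LK LD1_c1 LD2_c33 LD3_c8)) :=
  Lefun (Lecon (f649206 IH) (f670891 IH)) (Lfl_gt (f506781 IH))
theorem f670897 : Led Lsl_gt (LP (LK LD1_c3 LD2_c12 LD3_c54)) = (LP (LK LD1_c1 LD2_c33 LD3_c8)) :=
  Leop (Lpq (f670893 IH) (Lpe (f649205 IH) (Lpn (LP (LK LD1_c3 LD2_c12 LD3_c54)))))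
theorem seed_536 : LEOK LG_g (LK LD1_c3 LD2_c12 LD3_c54) :=
  Leoe_g (LK LD1_c3 LD2_c12 LD3_c54) (f670897 IH)
theorem f23885 : Led Lsl_bt (LP (LK LD1_c0 LD2_c40 LD3_c28)) = (LP (LK LD1_c1 LD2_c27 LD3_c10)) :=
  Lre_b IH (LK LD1_c0 LD2_c40 LD3_c28) (LK LD1_c1 LD2_c27 LD3_c10) Lrfl Lrfl
theorem f445921 : Led Lsl_ct (LP (LK LD1_c3 LD2_c2 LD3_c23)) = (LP (LK LD1_c6 LD2_c11 LD3_c37)) :=
  Lre_c IH (LK LD1_c3 LD2_c2 LD3_c23) (LK LD1_c6 LD2_c11 LD3_c37) Lrfl Lrfl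
def v5754 : LQ := Led Lsl_gf (LP (LK LD1_c3 LD2_c12 LD3_c54))
theorem f649207 : Led Lsl_gf (LP (LK LD1_c3 LD2_c12 LD3_c54)) = v5754 :=
  Lrfl
theorem f649213 : Led Lsl_ft v5351 = v5755 :=
  Lgr Lrot48 (Lpr_ff (f649211 IH) (Lpn v5755))
theorem f649209 : Led Lsl_af (LP (LK LD1_c3 LD2_c12 LD3_c54)) = v5755 :=
  Lgr Lrot0 (Lpr_at (f649208 IH) (Lpn v5755))
theorem f649215 : Led Lsl_gt v5351 = v5754 :=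
  Lgr Lrot5 (Lpr_ft (f649213 IH) (Lpe (f649209 IH) (Lpr_gf (f649207 IH) (Lpn v5754))))
theorem f670892 : v5754 = K46.v1926 :=
  Lefun (Lecon (f649215 IH) (f670891 IH)) (Lfl_gf (f506782 IH))
theorem f209262 : Led Lsl_bt (LP (LK LD1_c1 LD2_c31 LD3_c40)) = (LP (LK LD1_c1 LD2_c49 LD3_c52)) :=
  Lgr Lrot127 (Lpr_bf (f209258 IH) (Lpn (LP (LK LD1_c1 LD2_c49 LD3_c52))))
theorem f209233 : Led Lsl_ft (LP (LK LD1_c1 LD2_c49 LD3_c52)) = (LP (LK LD1_c3 LD2_c45 LD3_c28)) :=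
  Lre_f IH (LK LD1_c1 LD2_c49 LD3_c52) (LK LD1_c3 LD2_c45 LD3_c28) Lrfl Lrfl
theorem f506422 : Led Lsl_bt (LP (LK LD1_c3 LD2_c45 LD3_c28)) = K46.v1926 :=
  Lgr Lrot35 (Lpe (f209233 IH) (Lpe (f209262 IH) (Lpr_ff (f506419 IH) (Lpn K46.v1926))))
theorem f209230 : Led Lsl_ct (LP (LK LD1_c3 LD2_c45 LD3_c28)) = (LP (LK LD1_c7 LD2_c31 LD3_c32)) :=
  Lre_c IH (LK LD1_c3 LD2_c45 LD3_c28) (LK LD1_c7 LD2_c31 LD3_c32) Lrfl Lrfl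
def v5954 : LQ := Led Lsl_gt (LP (LK LD1_c3 LD2_c15 LD3_c32))
theorem f650215 : Led Lsl_gt (LP (LK LD1_c3 LD2_c15 LD3_c32)) = v5954 :=
  Lrfl
theorem f650216 : Led Lsl_gf (LP (LK LD1_c7 LD2_c31 LD3_c32)) = v5954 :=
  Lgr Lrot76 (Lpr_af (K34.f209221 IH) (Lpe (K34.f108711 IH) (Lpr_gt (f650215 IH) (Lpn v5954))))
theorem f670898 : (LP (LK LD1_c6 LD2_c11 LD3_c37)) = v5954 :=
  (Llr Lrot91 (Lpe (f445921 IH) (Lpe (f23886 IH) (Lpe (f23885 IH) (Lpr_ct (K35.f20112 IH) (Lpe (K11.f198670 IH) (Lpe (K29.f445910 IH) (Lpr_bt (f445920 IH) (Lpr_gf (f649207 IH) (Lpqs (f670892 IH) (Lpe (f506422 IH) (Lpr_ct (f209230 IH) (Lpr_gf (f650216 IH) (Lpn v5954)))))))))))))).symm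
theorem f670899 : Led Lsl_gt (LP (LK LD1_c6 LD2_c11 LD3_c37)) = (LP (LK LD1_c7 LD2_c31 LD3_c32)) :=
  Leop (Lpr_gf (f650216 IH) (Lpq (f670898 IH) (Lpn (LP (LK LD1_c6 LD2_c11 LD3_c37)))))
theorem seed_537 : LEOK LG_g (LK LD1_c6 LD2_c11 LD3_c37) :=
  Leoe_g (LK LD1_c6 LD2_c11 LD3_c37) (f670899 IH)
def v5292 : LQ := Led Lsl_ct (LP (LK LD1_c3 LD2_c3 LD3_c6))
theorem f646920 : Led Lsl_ct (LP (LK LD1_c3 LD2_c3 LD3_c6)) = v5292 :=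
  Lrfl
theorem f57636 : Led Lsl_ct (LP (LK LD1_c6 LD2_c17 LD3_c49)) = (LP (LK LD1_c3 LD2_c6 LD3_c6)) :=
  Lre_c IH (LK LD1_c6 LD2_c17 LD3_c49) (LK LD1_c3 LD2_c6 LD3_c6) Lrfl Lrfl
theorem f646922 : Led Lsl_ff (LP (LK LD1_c6 LD2_c17 LD3_c49)) = v5292 :=
  Lgr Lrot23 (Lpr_ct (f57636 IH) (Lpe (f503384 IH) (Lpr_ct (f646920 IH) (Lpn v5292))))
theorem f647104 : Led Lsl_ff v5291 = v5328 :=
  Lgr Lrot30 (Lpe (f646919 IH) (Lpe (f504337 IH) (Lpr_at (f647101 IH) (Lpn v5328))))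
theorem f209522 : Led Lsl_ct (LP (LK LD1_c6 LD2_c31 LD3_c40)) = (LP (LK LD1_c3 LD2_c14 LD3_c1)) :=
  Lre_c IH (LK LD1_c6 LD2_c31 LD3_c40) (LK LD1_c3 LD2_c14 LD3_c1) Lrfl Lrfl
def v7259 : LQ := Led Lsl_gt (LP (LK LD1_c3 LD2_c43 LD3_c22))
theorem f662701 : Led Lsl_gt (LP (LK LD1_c3 LD2_c43 LD3_c22)) = v7259 :=
  Lrfl
theorem f57635 : Led Lsl_bt (LP (LK LD1_c3 LD2_c6 LD3_c6)) = (LP (LK LD1_c1 LD2_c29 LD3_c8)) :=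
  Lre_b IH (LK LD1_c3 LD2_c6 LD3_c6) (LK LD1_c1 LD2_c29 LD3_c8) Lrfl Lrfl
theorem f57647 : Led Lsl_ct (LP (LK LD1_c3 LD2_c6 LD3_c6)) = (LP (LK LD1_c6 LD2_c17 LD3_c49)) :=
  Lre_c IH (LK LD1_c3 LD2_c6 LD3_c6) (LK LD1_c6 LD2_c17 LD3_c49) Lrfl Lrfl
theorem f649390 : Led Lsl_gt (LP (LK LD1_c6 LD2_c31 LD3_c59)) = (LP (LK LD1_c6 LD2_c17 LD3_c49)) :=
  Lgr Lrot65 (Lpr_cf (K46.f68485 IH) (Lpr_bt (K5.f68493 IH) (Lpe (K46.f506420 IH) (Lpq (K46.f649374 IH) (Lpe (f140096 IH) (Lpe (K9.f140086 IH) (Lpe (K29.f22979 IH) (Lpe (K29.f25168 IH) (Lpe (K24.f25646 IH) (Lpe (f57635 IH) (Lpr_ct (f57647 IH) (Lpn (LP (LK LD1_c6 LD2_c17 LD3_c49))))))))))))))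
theorem f128422 : Led Lsl_et (LP (LK LD1_c3 LD2_c15 LD3_c30)) = (LP (LK LD1_c6 LD2_c34 LD3_c19)) :=
  Lre_e IH (LK LD1_c3 LD2_c15 LD3_c30) (LK LD1_c6 LD2_c34 LD3_c19) Lrfl Lrfl
theorem f148599 : Led Lsl_et (LP (LK LD1_c7 LD2_c27 LD3_c21)) = (LP (LK LD1_c3 LD2_c43 LD3_c21)) :=
  Lre_e IH (LK LD1_c7 LD2_c27 LD3_c21) (LK LD1_c3 LD2_c43 LD3_c21) Lrfl Lrfl
theorem f208860 : Led Lsl_ct (LP (LK LD1_c6 LD2_c34 LD3_c19)) = (LP (LK LD1_c7 LD2_c27 LD3_c21)) :=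
  Lgr Lrot15 (Lpe (f128422 IH) (Lpr_cf (K36.f208858 IH) (Lpe (f148599 IH) (Lpn (LP (LK LD1_c7 LD2_c27 LD3_c21))))))
theorem f208866 : Led Lsl_bt (LP (LK LD1_c7 LD2_c27 LD3_c21)) = (LP (LK LD1_c3 LD2_c43 LD3_c22)) :=
  Lre_b IH (LK LD1_c7 LD2_c27 LD3_c21) (LK LD1_c3 LD2_c43 LD3_c22) Lrfl Lrfl
theorem f208867 : Led Lsl_cf (LP (LK LD1_c3 LD2_c25 LD3_c0)) = (LP (LK LD1_c3 LD2_c43 LD3_c22)) :=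
  Lgr Lrot97 (Lpr_bt (f109368 IH) (Lpe (K34.f108694 IH) (Lpr_bt (K34.f108707 IH) (Lpr_ct (f208860 IH) (Lpr_bt (f208866 IH) (Lpn (LP (LK LD1_c3 LD2_c43 LD3_c22))))))))
theorem f209037 : Led Lsl_af (LP (LK LD1_c3 LD2_c43 LD3_c22)) = (LP (LK LD1_c3 LD2_c14 LD3_c9)) :=
  Lgr Lrot68 (Lpe (f208867 IH) (Lpr_at (f209031 IH) (Lpe (K8.f68479 IH) (Lpn (LP (LK LD1_c3 LD2_c14 LD3_c9))))))
theorem f649392 : Led Lsl_gf (LP (LK LD1_c3 LD2_c43 LD3_c22)) = (LP (LK LD1_c6 LD2_c17 LD3_c49)) :=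
  Lgr Lrot76 (Lpr_af (f209037 IH) (Lpe (K46.f68483 IH) (Lpr_gt (f649390 IH) (Lpn (LP (LK LD1_c6 LD2_c17 LD3_c49))))))
theorem f646924 : Led Lsl_ft (LP (LK LD1_c6 LD2_c17 LD3_c49)) = v5292 :=
  Lgr Lrot48 (Lpr_ff (f646922 IH) (Lpn v5292))
theorem f662702 : Led Lsl_at v5292 = v7259 :=
  Lgr Lrot26 (Lpe (f646924 IH) (Lpe (f649392 IH) (Lpr_gt (f662701 IH) (Lpn v7259))))
theorem f662705 : Led Lsl_cf v5291 = v7259 :=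
  Lgr Lrot1 (Lpe (f646919 IH) (Lpr_ct (f646920 IH) (Lpr_at (f662702 IH) (Lpn v7259))))
theorem f662706 : Led Lsl_ct v5291 = v7259 :=
  Lgr Lrot59 (Lpr_cf (f662705 IH) (Lpn v7259))
theorem f662877 : Led Lsl_ff (LP (LK LD1_c6 LD2_c31 LD3_c40)) = v7259 :=
  Lgr Lrot23 (Lpr_ct (f209522 IH) (Lpq (f662849 IH) (Lpe (f647104 IH) (Lpr_ct (f662706 IH) (Lpn v7259)))))
theorem f662881 : Led Lsl_ft (LP (LK LD1_c6 LD2_c31 LD3_c40)) = v7259 :=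
  Lgr Lrot48 (Lpr_ff (f662877 IH) (Lpn v7259))
theorem f662704 : Led Lsl_af v5292 = v7259 :=
  Lgr Lrot0 (Lpr_at (f662702 IH) (Lpn v7259))
theorem f662882 : Led Lsl_af (LP (LK LD1_c6 LD2_c31 LD3_c40)) = (LP (LK LD1_c6 LD2_c17 LD3_c49)) :=
  Lgr Lrot45 (Lpr_ft (f662881 IH) (Lpe (f662704 IH) (Lpe (f646922 IH) (Lpn (LP (LK LD1_c6 LD2_c17 LD3_c49))))))
theorem f58579 : Led Lsl_gt (LP (LK LD1_c1 LD2_c26 LD3_c13)) = (LP (LK LD1_c2 LD2_c17 LD3_c5)) :=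
  Lre_g IH (LK LD1_c1 LD2_c26 LD3_c13) (LK LD1_c2 LD2_c17 LD3_c5) Lrfl Lrfl
theorem f68474 : Led Lsl_bt (LP (LK LD1_c3 LD2_c13 LD3_c20)) = (LP (LK LD1_c1 LD2_c33 LD3_c8)) :=
  Lre_b IH (LK LD1_c3 LD2_c13 LD3_c20) (LK LD1_c1 LD2_c33 LD3_c8) Lrfl Lrfl
def v5848 : LQ := Led Lsl_gt (LP (LK LD1_c3 LD2_c14 LD3_c9))
theorem f649802 : Led Lsl_gt (LP (LK LD1_c3 LD2_c14 LD3_c9)) = v5848 :=
  Lrfl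
theorem f670901 : v5292 = v5848 :=
  (Llr Lrot10 (Lpe (f646920 IH) (Lpr_bt (f20141 IH) (Lpr_gt (K24.f415335 IH) (Lpe (K46.f58482 IH) (Lpr_gt (f58579 IH) (Lpe (K29.f445910 IH) (Lpr_bt (f445920 IH) (Lpr_gt (f649205 IH) (Lpqs (f670893 IH) (Lpe (f68474 IH) (Lpe (K8.f68479 IH) (Lpr_gt (f649802 IH) (Lpn v5848)))))))))))))).symm
theorem f68494 : Led Lsl_ft (LP (LK LD1_c3 LD2_c14 LD3_c9)) = (LP (LK LD1_c6 LD2_c31 LD3_c59)) :=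
  Lre_f IH (LK LD1_c3 LD2_c14 LD3_c9) (LK LD1_c6 LD2_c31 LD3_c59) Lrfl Lrfl

end

end K48

end

end Cfsg.Agent.Helper28.S1692
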