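import Cfsg.Agent.Lib.Helper28.S1692.Seeds48

set_option autoImplicit false
set_option maxRecDepth 100000
set_option linter.all false

namespace Cfsg.Agent.Helper28.S1692

open Cfsg.Agent.Helper28
open Cfsg.Spor.ON (Gen)

noncomputable section

namespace K49
abbrev LD1_c0 := D1.c0
abbrev LD1_c1 := D1.c1
abbrev LD1_c2 := D1.c2
abbrev LD1_c3 := D1.c3
abbrev LD1_c4 := D1.c4
abbrev LD1_c5 := D1.c5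
abbrev LD1_c6 := D1.c6
abbrev LD1_c7 := D1.c7
abbrev LD1_c8 := D1.c8
abbrev LD1_c9 := D1.c9
abbrev LD1_c10 := D1.c10
abbrev LD1_c11 := D1.c11
abbrev LD1_c12 := D1.c12
abbrev LD1_c13 := D1.c13
abbrev LD1_c14 := D1.c14
abbrev LD1_c15 := D1.c15
abbrev LD1_c16 := D1.c16
abbrev LD1_c17 := D1.c17
abbrev LD1_c18 := D1.c18
abbrev LD1_c19 := D1.c19
abbrev LD1_c20 := D1.c20
abbrev LD1_c21 := D1.c21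
abbrev LD1_c22 := D1.c22
abbrev LD1_c23 := D1.c23
abbrev LD1_c24 := D1.c24
abbrev LD1_c25 := D1.c25
abbrev LD1_c26 := D1.c26
abbrev LD1_c27 := D1.c27
abbrev LD1_c28 := D1.c28
abbrev LD1_c29 := D1.c29
abbrev LD1_c30 := D1.c30
abbrev LD1_c31 := D1.c31
abbrev LD1_c32 := D1.c32
abbrev LD2_c0 := D2.c0
abbrev LD2_c1 := D2.c1
abbrev LD2_c2 := D2.c2
abbrev LD2_c3 := D2.c3
abbrev LD2_c4 := D2.c4
abbrev LD2_c5 := D2.c5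
abbrev LD2_c6 := D2.c6
abbrev LD2_c7 := D2.c7
abbrev LD2_c8 := D2.c8
abbrev LD2_c9 := D2.c9
abbrev LD2_c10 := D2.c10
abbrev LD2_c11 := D2.c11
abbrev LD2_c12 := D2.c12
abbrev LD2_c13 := D2.c13
abbrev LD2_c14 := D2.c14
abbrev LD2_c15 := D2.c15
abbrev LD2_c16 := D2.c16
abbrev LD2_c17 := D2.c17
abbrev LD2_c18 := D2.c18
abbrev LD2_c19 := D2.c19
abbrev LD2_c20 := D2.c20
abbrev LD2_c21 := D2.c21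
abbrev LD2_c22 := D2.c22
abbrev LD2_c23 := D2.c23
abbrev LD2_c24 := D2.c24
abbrev LD2_c25 := D2.c25
abbrev LD2_c26 := D2.c26
abbrev LD2_c27 := D2.c27
abbrev LD2_c28 := D2.c28
abbrev LD2_c29 := D2.c29
abbrev LD2_c30 := D2.c30
abbrev LD2_c31 := D2.c31
abbrev LD2_c32 := D2.c32
abbrev LD2_c33 := D2.c33
abbrev LD2_c34 := D2.c34
abbrev LD2_c35 := D2.c35
abbrev LD2_c36 := D2.c36
abbrev LD2_c37 := D2.c37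
abbrev LD2_c38 := D2.c38
abbrev LD2_c39 := D2.c39
abbrev LD2_c40 := D2.c40
abbrev LD2_c41 := D2.c41
abbrev LD2_c42 := D2.c42
abbrev LD2_c43 := D2.c43
abbrev LD2_c44 := D2.c44
abbrev LD2_c45 := D2.c45
abbrev LD2_c46 := D2.c46
abbrev LD2_c47 := D2.c47
abbrev LD2_c48 := D2.c48
abbrev LD2_c49 := D2.c49
abbrev LD2_c50 := D2.c50
abbrev LD2_c51 := D2.c51
abbrev LD2_c52 := D2.c52
abbrev LD2_c53 := D2.c53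
abbrev LD2_c54 := D2.c54
abbrev LD2_c55 := D2.c55
abbrev LD2_c56 := D2.c56
abbrev LD2_c57 := D2.c57
abbrev LD2_c58 := D2.c58
abbrev LD2_c59 := D2.c59
abbrev LD3_c0 := D3.c0
abbrev LD3_c1 := D3.c1
abbrev LD3_c2 := D3.c2
abbrev LD3_c3 := D3.c3
abbrev LD3_c4 := D3.c4
abbrev LD3_c5 := D3.c5
abbrev LD3_c6 := D3.c6
abbrev LD3_c7 := D3.c7
abbrev LD3_c8 := D3.c8
abbrev LD3_c9 := D3.c9
abbrev LD3_c10 := D3.c10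
abbrev LD3_c11 := D3.c11
abbrev LD3_c12 := D3.c12
abbrev LD3_c13 := D3.c13
abbrev LD3_c14 := D3.c14
abbrev LD3_c15 := D3.c15
abbrev LD3_c16 := D3.c16
abbrev LD3_c17 := D3.c17
abbrev LD3_c18 := D3.c18
abbrev LD3_c19 := D3.c19
abbrev LD3_c20 := D3.c20
abbrev LD3_c21 := D3.c21
abbrev LD3_c22 := D3.c22
abbrev LD3_c23 := D3.c23
abbrev LD3_c24 := D3.c24
abbrev LD3_c25 := D3.c25
abbrev LD3_c26 := D3.c26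
abbrev LD3_c27 := D3.c27
abbrev LD3_c28 := D3.c28
abbrev LD3_c29 := D3.c29
abbrev LD3_c30 := D3.c30
abbrev LD3_c31 := D3.c31
abbrev LD3_c32 := D3.c32
abbrev LD3_c33 := D3.c33
abbrev LD3_c34 := D3.c34
abbrev LD3_c35 := D3.c35
abbrev LD3_c36 := D3.c36
abbrev LD3_c37 := D3.c37
abbrev LD3_c38 := D3.c38
abbrev LD3_c39 := D3.c39
abbrev LD3_c40 := D3.c40
abbrev LD3_c41 := D3.c41
abbrev LD3_c42 := D3.c42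
abbrev LD3_c43 := D3.c43
abbrev LD3_c44 := D3.c44
abbrev LD3_c45 := D3.c45
abbrev LD3_c46 := D3.c46
abbrev LD3_c47 := D3.c47
abbrev LD3_c48 := D3.c48
abbrev LD3_c49 := D3.c49
abbrev LD3_c50 := D3.c50
abbrev LD3_c51 := D3.c51
abbrev LD3_c52 := D3.c52
abbrev LD3_c53 := D3.c53
abbrev LD3_c54 := D3.c54
abbrev LD3_c55 := D3.c55
abbrev LD3_c56 := D3.c56
abbrev LD3_c57 := D3.c57
abbrev LD3_c58 := D3.c58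
abbrev LD3_c59 := D3.c59
abbrev LD3_c60 := D3.c60
abbrev LD3_c61 := D3.c61
abbrev LG_g := Gen.g
abbrev Lsl_gt : Gen × Bool := sl_gt
alias Lfl_gt := fl_gt
alias Lpr_gt := pr_gt
abbrev Lsl_gf : Gen × Bool := sl_gf
alias Lfl_gf := fl_gf
alias Lpr_gf := pr_gf
alias Lre_g := re_g
alias Leoe_g := eoe_g
abbrev LG_a := Gen.a
abbrev Lsl_at : Gen × Bool := sl_at
alias Lfl_at := fl_at
alias Lpr_at := pr_at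
abbrev Lsl_af : Gen × Bool := sl_af
alias Lfl_af := fl_af
alias Lpr_af := pr_af
alias Lre_a := re_a
alias Leoe_a := eoe_a
abbrev LG_b := Gen.b
abbrev Lsl_bt : Gen × Bool := sl_bt
alias Lfl_bt := fl_bt
alias Lpr_bt := pr_bt
abbrev Lsl_bf : Gen × Bool := sl_bf
alias Lfl_bf := fl_bf
alias Lpr_bf := pr_bf
alias Lre_b := re_b
alias Leoe_b := eoe_b
abbrev LG_c := Gen.c
abbrev Lsl_ct : Gen × Bool := sl_ct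
alias Lfl_ct := fl_ct
alias Lpr_ct := pr_ct
abbrev Lsl_cf : Gen × Bool := sl_cf
alias Lfl_cf := fl_cf
alias Lpr_cf := pr_cf
alias Lre_c := re_c
alias Leoe_c := eoe_c
abbrev LG_d := Gen.d
abbrev Lsl_dt : Gen × Bool := sl_dt
alias Lfl_dt := fl_dt
alias Lpr_dt := pr_dt
abbrev Lsl_df : Gen × Bool := sl_df
alias Lfl_df := fl_df
alias Lpr_df := pr_df
alias Lre_d := re_d
alias Leoe_d := eoe_d
abbrev LG_e := Gen.e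
abbrev Lsl_et : Gen × Bool := sl_et
alias Lfl_et := fl_et
alias Lpr_et := pr_et
abbrev Lsl_ef : Gen × Bool := sl_ef
alias Lfl_ef := fl_ef
alias Lpr_ef := pr_ef
alias Lre_e := re_e
alias Leoe_e := eoe_e
abbrev LG_f := Gen.f
abbrev Lsl_ft : Gen × Bool := sl_ft
alias Lfl_ft := fl_ft
alias Lpr_ft := pr_ft
abbrev Lsl_ff : Gen × Bool := sl_ff
alias Lfl_ff := fl_ff
alias Lpr_ff := pr_ff
alias Lre_f := re_f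
alias Leoe_f := eoe_f
abbrev LK := Pt.mk
abbrev LQ : Type := Qt rels S
abbrev LP (p : Pt) : LQ := P p
abbrev Led (l : Gen × Bool) (c : LQ) : LQ := ed l c
abbrev LEOK (x : Gen) (p : Pt) : Prop := EntryOK rels S fwd inv o plet idx x p
alias Lpe := pe
alias Lpn := pn
alias Lgr := gr
alias Lpq := pq
alias Lpqs := pqs
alias Llr := lr
alias Leop := eop
alias Lefun := efun
alias Lecon := econ
theorem Lrfl {α : Sort _} {a : α} : a = a := rfl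
alias Lrot0 := rot0
alias Lrot1 := rot1
alias Lrot2 := rot2
alias Lrot3 := rot3
alias Lrot4 := rot4
alias Lrot5 := rot5
alias Lrot6 := rot6
alias Lrot7 := rot7
alias Lrot8 := rot8
alias Lrot9 := rot9
alias Lrot10 := rot10
alias Lrot11 := rot11
alias Lrot12 := rot12
alias Lrot14 := rot14
alias Lrot15 := rot15
alias Lrot17 := rot17
alias Lrot18 := rot18
alias Lrot19 := rot19
alias Lrot20 := rot20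
alias Lrot21 := rot21
alias Lrot22 := rot22
alias Lrot23 := rot23
alias Lrot24 := rot24
alias Lrot25 := rot25
alias Lrot26 := rot26
alias Lrot27 := rot27
alias Lrot28 := rot28
alias Lrot29 := rot29
alias Lrot30 := rot30
alias Lrot31 := rot31
alias Lrot32 := rot32
alias Lrot33 := rot33
alias Lrot34 := rot34
alias Lrot35 := rot35
alias Lrot36 := rot36
alias Lrot38 := rot38
alias Lrot39 := rot39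
alias Lrot40 := rot40
alias Lrot41 := rot41
alias Lrot42 := rot42
alias Lrot44 := rot44
alias Lrot45 := rot45
alias Lrot46 := rot46
alias Lrot47 := rot47
alias Lrot48 := rot48
alias Lrot49 := rot49
alias Lrot50 := rot50
alias Lrot51 := rot51
alias Lrot52 := rot52
alias Lrot53 := rot53
alias Lrot54 := rot54
alias Lrot55 := rot55
alias Lrot56 := rot56
alias Lrot57 := rot57
alias Lrot58 := rot58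
alias Lrot59 := rot59
alias Lrot60 := rot60
alias Lrot61 := rot61
alias Lrot62 := rot62
alias Lrot63 := rot63
alias Lrot64 := rot64
alias Lrot65 := rot65
alias Lrot66 := rot66
alias Lrot67 := rot67
alias Lrot68 := rot68
alias Lrot69 := rot69
alias Lrot70 := rot70
alias Lrot71 := rot71
alias Lrot72 := rot72
alias Lrot73 := rot73
alias Lrot74 := rot74
alias Lrot75 := rot75
alias Lrot76 := rot76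
alias Lrot77 := rot77
alias Lrot78 := rot78
alias Lrot79 := rot79
alias Lrot80 := rot80
alias Lrot81 := rot81
alias Lrot82 := rot82
alias Lrot83 := rot83
alias Lrot84 := rot84
alias Lrot85 := rot85
alias Lrot86 := rot86
alias Lrot87 := rot87
alias Lrot88 := rot88
alias Lrot89 := rot89
alias Lrot90 := rot90
alias Lrot91 := rot91
alias Lrot92 := rot92
alias Lrot93 := rot93
alias Lrot94 := rot94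
alias Lrot95 := rot95
alias Lrot96 := rot96
alias Lrot97 := rot97
alias Lrot98 := rot98
alias Lrot99 := rot99
alias Lrot100 := rot100
alias Lrot101 := rot101
alias Lrot102 := rot102
alias Lrot103 := rot103
alias Lrot104 := rot104
alias Lrot105 := rot105
alias Lrot106 := rot106
alias Lrot107 := rot107
alias Lrot108 := rot108
alias Lrot109 := rot109
alias Lrot110 := rot110
alias Lrot111 := rot111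
alias Lrot112 := rot112
alias Lrot113 := rot113
alias Lrot114 := rot114
alias Lrot116 := rot116
alias Lrot117 := rot117
alias Lrot118 := rot118
alias Lrot119 := rot119
alias Lrot121 := rot121
alias Lrot122 := rot122
alias Lrot123 := rot123
alias Lrot124 := rot124
alias Lrot125 := rot125
alias Lrot126 := rot126
alias Lrot127 := rot127
alias Lrot128 := rot128
alias Lrot129 := rot129
alias Lrot130 := rot130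
alias Lrot131 := rot131
alias Lrot132 := rot132
alias Lrot133 := rot133
alias Lrot134 := rot134
alias Lrot135 := rot135
alias Lrot136 := rot136
alias Lrot137 := rot137
alias Lrot138 := rot138
alias Lrot139 := rot139
alias Lrot141 := rot141
alias Lrot142 := rot142
alias Lrot143 := rot143
alias Lrot144 := rot144
alias Lrot145 := rot145
alias Lrot146 := rot146
alias Lrot147 := rot147
alias Lrot148 := rot148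
alias Lrot149 := rot149
alias Lrot150 := rot150
alias Lrot152 := rot152
alias Lrot153 := rot153
alias Lrot156 := rot156
alias Lrot158 := rot158
alias Lrot160 := rot160
alias Lrot161 := rot161
alias Lrot162 := rot162
alias Lrot164 := rot164
alias Lrot166 := rot166
alias Lrot167 := rot167
alias Lrot168 := rot168
alias Lrot169 := rot169
alias Lrot170 := rot170
alias Lrot171 := rot171
alias Lrot172 := rot172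
alias Lrot173 := rot173
alias Lrot177 := rot177
alias Lrot179 := rot179
alias Lrot180 := rot180
alias Lrot181 := rot181
alias Lrot182 := rot182
alias Lrot183 := rot183
alias Lrot184 := rot184
alias Lrot185 := rot185
alias Lrot190 := rot190
alias Lrot191 := rot191

section
variable (IH : IHT)
include IH

theorem f209041 : Led Lsl_at (LP (LK LD1_c3 LD2_c43 LD3_c22)) = (LP (LK LD1_c3 LD2_c14 LD3_c9)) :=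
  Lgr Lrot100 (Lpr_af (K48.f209037 IH) (Lpn (LP (LK LD1_c3 LD2_c14 LD3_c9))))
theorem f148624 : Led Lsl_ft (LP (LK LD1_c7 LD2_c27 LD3_c22)) = (LP (LK LD1_c3 LD2_c43 LD3_c22)) :=
  Lre_f IH (LK LD1_c7 LD2_c27 LD3_c22) (LK LD1_c3 LD2_c43 LD3_c22) Lrfl Lrfl
theorem f209043 : Led Lsl_af (LP (LK LD1_c7 LD2_c27 LD3_c22)) = (LP (LK LD1_c6 LD2_c31 LD3_c59)) :=
  Lgr Lrot45 (Lpr_ft (f148624 IH) (Lpr_at (f209041 IH) (Lpr_ft (K48.f68494 IH) (Lpn (LP (LK LD1_c6 LD2_c31 LD3_c59))))))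
theorem f649803 : Led Lsl_gf (LP (LK LD1_c7 LD2_c27 LD3_c22)) = K48.v5848 :=
  Lgr Lrot76 (Lpr_af (f209043 IH) (Lpe (K48.f68494 IH) (Lpr_gt (K48.f649802 IH) (Lpn K48.v5848))))
def v5849 : LQ := Led Lsl_gf (LP (LK LD1_c3 LD2_c14 LD3_c9))
theorem f649804 : Led Lsl_gf (LP (LK LD1_c3 LD2_c14 LD3_c9)) = v5849 :=
  Lrfl
theorem f649805 : Led Lsl_gt (LP (LK LD1_c7 LD2_c27 LD3_c22)) = v5849 :=
  Lgr Lrot5 (Lpr_ft (f148624 IH) (Lpr_at (f209041 IH) (Lpr_gf (f649804 IH) (Lpn v5849))))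
theorem f670902 : (LP (LK LD1_c6 LD2_c31 LD3_c40)) = v5849 :=
  (Llr Lrot26 (Lpr_af (K48.f662882 IH) (Lpr_ff (K48.f646922 IH) (Lpqs (K48.f670901 IH) (Lpe (f649803 IH) (Lpr_gt (f649805 IH) (Lpn v5849))))))).symm
theorem f670903 : Led Lsl_gt (LP (LK LD1_c6 LD2_c31 LD3_c40)) = (LP (LK LD1_c3 LD2_c14 LD3_c9)) :=
  Leop (Lpr_gf (f649804 IH) (Lpq (f670902 IH) (Lpn (LP (LK LD1_c6 LD2_c31 LD3_c40)))))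
theorem seed_538 : LEOK LG_g (LK LD1_c6 LD2_c31 LD3_c40) :=
  Leoe_g (LK LD1_c6 LD2_c31 LD3_c40) (f670903 IH)
theorem f416066 : Led Lsl_ct (LP (LK LD1_c1 LD2_c27 LD3_c10)) = (LP (LK LD1_c3 LD2_c2 LD3_c14)) :=
  Lre_c IH (LK LD1_c1 LD2_c27 LD3_c10) (LK LD1_c3 LD2_c2 LD3_c14) Lrfl Lrfl
theorem f93474 : Led Lsl_gt (LP (LK LD1_c6 LD2_c11 LD3_c14)) = (LP (LK LD1_c3 LD2_c2 LD3_c14)) :=
  Lre_g IH (LK LD1_c6 LD2_c11 LD3_c14) (LK LD1_c3 LD2_c2 LD3_c14) Lrfl Lrfl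
theorem f208871 : Led Lsl_ft (LP (LK LD1_c12 LD2_c35 LD3_c8)) = (LP (LK LD1_c6 LD2_c34 LD3_c19)) :=
  Lre_f IH (LK LD1_c12 LD2_c35 LD3_c8) (LK LD1_c6 LD2_c34 LD3_c19) Lrfl Lrfl
theorem f148617 : Led Lsl_ft (LP (LK LD1_c7 LD2_c27 LD3_c21)) = (LP (LK LD1_c14 LD2_c4 LD3_c57)) :=
  Lre_f IH (LK LD1_c7 LD2_c27 LD3_c21) (LK LD1_c14 LD2_c4 LD3_c57) Lrfl Lrfl
theorem f208872 : Led Lsl_cf (LP (LK LD1_c12 LD2_c35 LD3_c8)) = (LP (LK LD1_c14 LD2_c4 LD3_c57)) :=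
  Lgr Lrot108 (Lpr_ft (f208871 IH) (Lpr_ct (K48.f208860 IH) (Lpr_ft (f148617 IH) (Lpn (LP (LK LD1_c14 LD2_c4 LD3_c57))))))
theorem f108717 : Led Lsl_bt (LP (LK LD1_c12 LD2_c35 LD3_c8)) = (LP (LK LD1_c6 LD2_c34 LD3_c22)) :=
  Lre_b IH (LK LD1_c12 LD2_c35 LD3_c8) (LK LD1_c6 LD2_c34 LD3_c22) Lrfl Lrfl
theorem f208876 : Led Lsl_bt (LP (LK LD1_c7 LD2_c27 LD3_c22)) = (LP (LK LD1_c14 LD2_c4 LD3_c57)) :=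
  Lre_b IH (LK LD1_c7 LD2_c27 LD3_c22) (LK LD1_c14 LD2_c4 LD3_c57) Lrfl Lrfl
theorem f208877 : Led Lsl_ct (LP (LK LD1_c6 LD2_c52 LD3_c26)) = (LP (LK LD1_c7 LD2_c27 LD3_c22)) :=
  Lgr Lrot83 (Lpr_bf (K48.f109373 IH) (Lpe (K34.f108713 IH) (Lpe (f108717 IH) (Lpr_cf (f208872 IH) (Lpe (f208876 IH) (Lpn (LP (LK LD1_c7 LD2_c27 LD3_c22))))))))
theorem f155074 : Led Lsl_gt (LP (LK LD1_c3 LD2_c45 LD3_c26)) = (LP (LK LD1_c1 LD2_c49 LD3_c52)) :=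
  Lre_g IH (LK LD1_c3 LD2_c45 LD3_c26) (LK LD1_c1 LD2_c49 LD3_c52) Lrfl Lrfl
theorem f209277 : Led Lsl_gf (LP (LK LD1_c3 LD2_c45 LD3_c26)) = (LP (LK LD1_c6 LD2_c58 LD3_c60)) :=
  Lgr Lrot47 (Lpr_gt (f155074 IH) (Lpr_af (K48.f209214 IH) (Lpe (K34.f108712 IH) (Lpn (LP (LK LD1_c6 LD2_c58 LD3_c60))))))
def v7352 : LQ := Led Lsl_ct (LP (LK LD1_c3 LD2_c45 LD3_c26))
theorem f664692 : Led Lsl_ct (LP (LK LD1_c3 LD2_c45 LD3_c26)) = v7352 :=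
  Lrfl
theorem f670913 : (LP (LK LD1_c6 LD2_c11 LD3_c14)) = v7352 :=
  (Llr Lrot129 (Lpr_gt (f93474 IH) (Lpe (f416066 IH) (Lpr_bt (K1.f58366 IH) (Lpr_gt (K24.f20095 IH) (Lpe (K48.f20141 IH) (Lpr_ct (K48.f646920 IH) (Lpqs (K48.f670901 IH) (Lpe (f649803 IH) (Lpe (f208877 IH) (Lpr_bt (K48.f109375 IH) (Lpe (f209277 IH) (Lpr_ct (f664692 IH) (Lpn v7352)))))))))))))).symm
theorem f664693 : Led Lsl_cf (LP (LK LD1_c3 LD2_c45 LD3_c26)) = v7352 :=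
  Lgr Lrot11 (Lpr_ct (f664692 IH) (Lpn v7352))
theorem f670914 : Led Lsl_ct (LP (LK LD1_c6 LD2_c11 LD3_c14)) = (LP (LK LD1_c3 LD2_c45 LD3_c26)) :=
  Leop (Lpr_cf (f664693 IH) (Lpq (f670913 IH) (Lpn (LP (LK LD1_c6 LD2_c11 LD3_c14)))))
theorem seed_539 : LEOK LG_c (LK LD1_c6 LD2_c11 LD3_c14) :=
  Leoe_c (LK LD1_c6 LD2_c11 LD3_c14) (f670914 IH)
def v9002 : LQ := Led Lsl_bt K33.v2381
theorem f673131 : Led Lsl_bt K33.v2381 = v9002 :=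
  Lrfl
def v818 : LQ := Led Lsl_dt (LP (LK LD1_c0 LD2_c51 LD3_c39))
theorem f459547 : Led Lsl_dt (LP (LK LD1_c0 LD2_c51 LD3_c39)) = v818 :=
  Lrfl
theorem f85178 : Led Lsl_et (LP (LK LD1_c0 LD2_c51 LD3_c39)) = (LP (LK LD1_c0 LD2_c23 LD3_c21)) :=
  Lre_e IH (LK LD1_c0 LD2_c51 LD3_c39) (LK LD1_c0 LD2_c23 LD3_c21) Lrfl Lrfl
theorem f152353 : Led Lsl_et (LP (LK LD1_c0 LD2_c51 LD3_c25)) = (LP (LK LD1_c1 LD2_c40 LD3_c55)) :=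
  Lgr Lrot87 (Lpr_ef (K11.f152348 IH) (Lpn (LP (LK LD1_c1 LD2_c40 LD3_c55))))
def v815 : LQ := Led Lsl_dt (LP (LK LD1_c0 LD2_c51 LD3_c25))
theorem f459532 : Led Lsl_dt (LP (LK LD1_c0 LD2_c51 LD3_c25)) = v815 :=
  Lrfl
theorem f459551 : Led Lsl_gf v815 = v818 :=
  Lgr Lrot145 (Lpe (f459532 IH) (Lpr_et (f152353 IH) (Lpr_gt (K11.f94096 IH) (Lpe (K3.f94087 IH) (Lpr_gt (K3.f94102 IH) (Lpe (K3.f86745 IH) (Lpr_et (K3.f86825 IH) (Lpr_gt (K3.f108880 IH) (Lpe (f85178 IH) (Lpr_dt (f459547 IH) (Lpn v818)))))))))))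
theorem f519357 : Led Lsl_gt (LP (LK LD1_c6 LD2_c27 LD3_c28)) = K33.v2376 :=
  Lgr Lrot112 (Lpe (K33.f86752 IH) (Lpr_et (K4.f94085 IH) (Lpe (K11.f94096 IH) (Lpe (f152353 IH) (Lpr_dt (f459532 IH) (Lpr_gf (f459551 IH) (Lpe (f459547 IH) (Lpr_gf (K11.f430194 IH) (Lpr_ef (K11.f430267 IH) (Lpr_dt (K33.f519351 IH) (Lpn K33.v2376)))))))))))
theorem f514709 : Led Lsl_bf (LP (LK LD1_c6 LD2_c27 LD3_c28)) = K33.v2337 :=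
  Lgr Lrot93 (Lpr_dt (K7.f84321 IH) (Lpe (K2.f94352 IH) (Lpr_dt (K33.f514707 IH) (Lpn K33.v2337))))
theorem f519387 : Led Lsl_ct K33.v2337 = K33.v2381 :=
  Lgr Lrot63 (Lpe (f514709 IH) (Lpr_gt (f519357 IH) (Lpe (K33.f519359 IH) (Lpr_ct (K33.f519361 IH) (Lpe (K33.f519365 IH) (Lpe (K3.f10882 IH) (Lpe (K47.f10091 IH) (Lpe (K33.f432993 IH) (Lpr_ct (K33.f10742 IH) (Lpr_gt (K33.f519381 IH) (Lpn K33.v2381)))))))))))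
theorem f429173 : Led Lsl_dt (LP (LK LD1_c1 LD2_c45 LD3_c45)) = (LP (LK LD1_c3 LD2_c37 LD3_c51)) :=
  Lre_d IH (LK LD1_c1 LD2_c45 LD3_c45) (LK LD1_c3 LD2_c37 LD3_c51) Lrfl Lrfl
theorem f511279 : Led Lsl_cf (LP (LK LD1_c1 LD2_c45 LD3_c45)) = K32.v2253 :=
  Lgr Lrot118 (Lpr_dt (f429173 IH) (Lpe (K47.f429171 IH) (Lpr_dt (K47.f156068 IH) (Lpr_ct (K47.f156067 IH) (Lpe (K7.f156065 IH) (Lpr_ct (K3.f10359 IH) (Lpe (K11.f447835 IH) (Lpr_ff (K11.f447829 IH) (Lpr_dt (K32.f511274 IH) (Lpn K32.v2253))))))))))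
theorem f514715 : Led Lsl_bt (LP (LK LD1_c6 LD2_c27 LD3_c28)) = K33.v2337 :=
  Lgr Lrot130 (Lpe (K33.f154978 IH) (Lpe (K7.f10944 IH) (Lpe (K7.f10937 IH) (Lpr_bt (K33.f10934 IH) (Lpe (K7.f10932 IH) (Lpe (K47.f10088 IH) (Lpr_ct (K11.f10942 IH) (Lpe (K32.f10943 IH) (Lpr_cf (f511279 IH) (Lpr_gf (K33.f514712 IH) (Lpn K33.v2337)))))))))))
theorem f154977 : Led Lsl_bt (LP (LK LD1_c7 LD2_c11 LD3_c26)) = (LP (LK LD1_c3 LD2_c35 LD3_c12)) :=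
  Lre_b IH (LK LD1_c7 LD2_c11 LD3_c26) (LK LD1_c3 LD2_c35 LD3_c12) Lrfl Lrfl
theorem f673133 : Led Lsl_cf (LP (LK LD1_c7 LD2_c11 LD3_c26)) = v9002 :=
  Lgr Lrot97 (Lpr_bt (f154977 IH) (Lpr_ct (K7.f154972 IH) (Lpr_bt (f514715 IH) (Lpr_ct (f519387 IH) (Lpr_bt (f673131 IH) (Lpn v9002))))))
theorem f154983 : Led Lsl_gt (LP (LK LD1_c13 LD2_c37 LD3_c20)) = (LP (LK LD1_c7 LD2_c11 LD3_c26)) :=
  Lre_g IH (LK LD1_c13 LD2_c37 LD3_c20) (LK LD1_c7 LD2_c11 LD3_c26) Lrfl Lrfl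
theorem f673132 : Led Lsl_bf K33.v2381 = v9002 :=
  Lgr Lrot24 (Lpr_bt (f673131 IH) (Lpn v9002))
theorem f430305 : Led Lsl_et (LP (LK LD1_c3 LD2_c24 LD3_c20)) = (LP (LK LD1_c1 LD2_c39 LD3_c42)) :=
  Lgr Lrot87 (Lpr_ef (K11.f430297 IH) (Lpn (LP (LK LD1_c1 LD2_c39 LD3_c42))))
theorem f447795 : Led Lsl_af (LP (LK LD1_c3 LD2_c24 LD3_c20)) = (LP (LK LD1_c3 LD2_c26 LD3_c1)) :=
  Lgr Lrot50 (Lpr_et (f430305 IH) (Lpr_at (K11.f447789 IH) (Lpr_et (K11.f209565 IH) (Lpn (LP (LK LD1_c3 LD2_c26 LD3_c1))))))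
theorem f448226 : Led Lsl_ft (LP (LK LD1_c3 LD2_c1 LD3_c8)) = (LP (LK LD1_c3 LD2_c26 LD3_c1)) :=
  Lgr Lrot101 (Lpr_af (K11.f448218 IH) (Lpe (K11.f448214 IH) (Lpr_af (f447795 IH) (Lpn (LP (LK LD1_c3 LD2_c26 LD3_c1))))))
theorem f448230 : Led Lsl_ff (LP (LK LD1_c3 LD2_c1 LD3_c8)) = (LP (LK LD1_c3 LD2_c26 LD3_c1)) :=
  Lgr Lrot72 (Lpe (K7.f156042 IH) (Lpr_ft (f448226 IH) (Lpr_et (K11.f209558 IH) (Lpe (K11.f447797 IH) (Lpr_et (K11.f209565 IH) (Lpn (LP (LK LD1_c3 LD2_c26 LD3_c1))))))))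
theorem f209563 : Led Lsl_dt (LP (LK LD1_c6 LD2_c48 LD3_c4)) = (LP (LK LD1_c3 LD2_c26 LD3_c1)) :=
  Lgr Lrot42 (Lpr_df (K11.f209559 IH) (Lpn (LP (LK LD1_c3 LD2_c26 LD3_c1))))
theorem f448234 : Led Lsl_ft (LP (LK LD1_c6 LD2_c9 LD3_c22)) = (LP (LK LD1_c6 LD2_c48 LD3_c4)) :=
  Lgr Lrot54 (Lpe (K7.f156021 IH) (Lpr_ff (f448230 IH) (Lpe (f209563 IH) (Lpn (LP (LK LD1_c6 LD2_c48 LD3_c4))))))
theorem f448236 : Led Lsl_ff (LP (LK LD1_c3 LD2_c1 LD3_c9)) = (LP (LK LD1_c3 LD2_c22 LD3_c14)) :=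
  Lgr Lrot25 (Lpr_bt (K7.f156026 IH) (Lpr_ft (f448234 IH) (Lpr_bt (K7.f84614 IH) (Lpn (LP (LK LD1_c3 LD2_c22 LD3_c14))))))
theorem f448252 : Led Lsl_at (LP (LK LD1_c3 LD2_c1 LD3_c9)) = (LP (LK LD1_c3 LD2_c22 LD3_c13)) :=
  Lgr Lrot26 (Lpr_ff (f448236 IH) (Lpr_gt (K7.f84490 IH) (Lpr_gt (K11.f84098 IH) (Lpn (LP (LK LD1_c3 LD2_c22 LD3_c13))))))
theorem f448258 : Led Lsl_af (LP (LK LD1_c1 LD2_c26 LD3_c28)) = (LP (LK LD1_c3 LD2_c1 LD3_c3)) :=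
  Lgr Lrot117 (Lpr_dt (K7.f21135 IH) (Lpr_at (f448252 IH) (Lpr_dt (K48.f430515 IH) (Lpn (LP (LK LD1_c3 LD2_c1 LD3_c3))))))
theorem f447865 : Led Lsl_ff (LP (LK LD1_c1 LD2_c43 LD3_c54)) = (LP (LK LD1_c1 LD2_c26 LD3_c28)) :=
  Lgr Lrot23 (Lpr_ct (K7.f156303 IH) (Lpr_ft (K11.f447861 IH) (Lpr_ct (K6.f143276 IH) (Lpn (LP (LK LD1_c1 LD2_c26 LD3_c28))))))
theorem f448184 : Led Lsl_ff (LP (LK LD1_c3 LD2_c1 LD3_c3)) = (LP (LK LD1_c1 LD2_c26 LD3_c27)) :=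
  Lgr Lrot25 (Lpr_bt (K11.f145494 IH) (Lpr_ft (K11.f448182 IH) (Lpr_bt (K11.f21139 IH) (Lpn (LP (LK LD1_c1 LD2_c26 LD3_c27))))))
theorem f448297 : Led Lsl_at (LP (LK LD1_c1 LD2_c43 LD3_c54)) = (LP (LK LD1_c1 LD2_c26 LD3_c27)) :=
  Lgr Lrot66 (Lpr_ff (f447865 IH) (Lpr_af (f448258 IH) (Lpr_ff (f448184 IH) (Lpn (LP (LK LD1_c1 LD2_c26 LD3_c27))))))
theorem f448301 : Led Lsl_af (LP (LK LD1_c0 LD2_c51 LD3_c11)) = (LP (LK LD1_c0 LD2_c51 LD3_c10)) :=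
  Lgr Lrot50 (Lpr_et (K11.f209683 IH) (Lpr_at (f448297 IH) (Lpr_et (K11.f431018 IH) (Lpn (LP (LK LD1_c0 LD2_c51 LD3_c10))))))
theorem f430253 : Led Lsl_cf (LP (LK LD1_c0 LD2_c50 LD3_c9)) = (LP (LK LD1_c0 LD2_c51 LD3_c11)) :=
  Lgr Lrot11 (Lpr_ct (K11.f430251 IH) (Lpn (LP (LK LD1_c0 LD2_c51 LD3_c11))))
theorem f448303 : Led Lsl_at (LP (LK LD1_c0 LD2_c50 LD3_c9)) = (LP (LK LD1_c1 LD2_c39 LD3_c39)) :=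
  Lgr Lrot107 (Lpr_cf (f430253 IH) (Lpr_af (f448301 IH) (Lpe (K11.f431024 IH) (Lpn (LP (LK LD1_c1 LD2_c39 LD3_c39))))))
theorem f448305 : Led Lsl_af (LP (LK LD1_c0 LD2_c50 LD3_c9)) = (LP (LK LD1_c1 LD2_c39 LD3_c39)) :=
  Lgr Lrot0 (Lpr_at (f448303 IH) (Lpn (LP (LK LD1_c1 LD2_c39 LD3_c39))))
theorem f448309 : Led Lsl_at (LP (LK LD1_c0 LD2_c22 LD3_c37)) = (LP (LK LD1_c0 LD2_c22 LD3_c38)) :=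
  Lgr Lrot67 (Lpe (K11.f4009 IH) (Lpr_af (f448305 IH) (Lpr_bf (K11.f447704 IH) (Lpe (K11.f447747 IH) (Lpe (K11.f430200 IH) (Lpn (LP (LK LD1_c0 LD2_c22 LD3_c38))))))))
theorem f430211 : Led Lsl_ef (LP (LK LD1_c0 LD2_c48 LD3_c13)) = (LP (LK LD1_c0 LD2_c22 LD3_c38)) :=
  Lgr Lrot29 (Lpr_bt (K7.f143267 IH) (Lpr_et (K11.f430203 IH) (Lpr_bt (K11.f4019 IH) (Lpn (LP (LK LD1_c0 LD2_c22 LD3_c38))))))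
theorem f448311 : Led Lsl_af (LP (LK LD1_c0 LD2_c21 LD3_c42)) = (LP (LK LD1_c0 LD2_c48 LD3_c13)) :=
  Lgr Lrot50 (Lpe (K11.f430263 IH) (Lpr_at (f448309 IH) (Lpe (f430211 IH) (Lpn (LP (LK LD1_c0 LD2_c48 LD3_c13))))))
theorem f450860 : Led Lsl_at K11.v150 = K11.v167 :=
  Lgr Lrot51 (Lpe (K11.f450759 IH) (Lpr_af (f448311 IH) (Lpr_df (K11.f450858 IH) (Lpn K11.v167))))
theorem f490850 : Led Lsl_cf K11.v150 = K47.v981 :=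
  Lgr Lrot11 (Lpr_ct (K47.f490849 IH) (Lpn K47.v981))
theorem f490980 : Led Lsl_af K47.v981 = K47.v1008 :=
  Lgr Lrot68 (Lpe (f490850 IH) (Lpr_at (f450860 IH) (Lpr_ct (K47.f490979 IH) (Lpn K47.v1008))))
theorem f519382 : Led Lsl_gf K47.v981 = K33.v2381 :=
  Lgr Lrot76 (Lpr_af (f490980 IH) (Lpe (K47.f490984 IH) (Lpr_gt (K33.f519381 IH) (Lpn K33.v2381))))
theorem f429060 : Led Lsl_ct (LP (LK LD1_c3 LD2_c34 LD3_c27)) = (LP (LK LD1_c1 LD2_c44 LD3_c0)) :=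
  Lre_c IH (LK LD1_c3 LD2_c34 LD3_c27) (LK LD1_c1 LD2_c44 LD3_c0) Lrfl Lrfl
theorem f429625 : Led Lsl_dt (LP (LK LD1_c3 LD2_c34 LD3_c27)) = (LP (LK LD1_c3 LD2_c34 LD3_c48)) :=
  Lgr Lrot42 (Lpr_df (K33.f429058 IH) (Lpn (LP (LK LD1_c3 LD2_c34 LD3_c48))))
theorem f432995 : Led Lsl_gf (LP (LK LD1_c3 LD2_c34 LD3_c27)) = (LP (LK LD1_c1 LD2_c45 LD3_c5)) :=
  Lgr Lrot144 (Lpr_dt (f429625 IH) (Lpr_gt (K33.f19484 IH) (Lpr_dt (K3.f19735 IH) (Lpe (K3.f11484 IH) (Lpe (K3.f19732 IH) (Lpe (K7.f106010 IH) (Lpe (K33.f106642 IH) (Lpr_gf (K33.f432993 IH) (Lpe (K3.f10883 IH) (Lpn (LP (LK LD1_c1 LD2_c45 LD3_c5))))))))))))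
theorem f450762 : Led Lsl_gf (LP (LK LD1_c0 LD2_c49 LD3_c14)) = K11.v150 :=
  Lgr Lrot179 (Lpr_ct (K3.f10882 IH) (Lpe (f432995 IH) (Lpr_ct (f429060 IH) (Lpr_dt (K33.f106806 IH) (Lpe (K11.f10752 IH) (Lpe (K47.f10740 IH) (Lpe (K3.f19429 IH) (Lpe (K3.f10747 IH) (Lpr_dt (K11.f450759 IH) (Lpn K11.v150))))))))))
theorem f10881 : Led Lsl_bt (LP (LK LD1_c1 LD2_c45 LD3_c5)) = (LP (LK LD1_c3 LD2_c36 LD3_c29)) :=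
  Lre_b IH (LK LD1_c1 LD2_c45 LD3_c5) (LK LD1_c3 LD2_c36 LD3_c29) Lrfl Lrfl
theorem f10889 : Led Lsl_gt (LP (LK LD1_c3 LD2_c36 LD3_c29)) = (LP (LK LD1_c7 LD2_c13 LD3_c18)) :=
  Lre_g IH (LK LD1_c3 LD2_c36 LD3_c29) (LK LD1_c7 LD2_c13 LD3_c18) Lrfl Lrfl
theorem f450764 : Led Lsl_bt (LP (LK LD1_c13 LD2_c40 LD3_c15)) = (LP (LK LD1_c7 LD2_c13 LD3_c18)) :=
  Lre_b IH (LK LD1_c13 LD2_c40 LD3_c15) (LK LD1_c7 LD2_c13 LD3_c18) Lrfl Lrfl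
theorem f673135 : Led Lsl_cf (LP (LK LD1_c13 LD2_c37 LD3_c20)) = (LP (LK LD1_c13 LD2_c40 LD3_c15)) :=
  Lgr Lrot160 (Lpr_gt (f154983 IH) (Lpr_cf (f673133 IH) (Lpe (f673132 IH) (Lpe (f519382 IH) (Lpe (f490850 IH) (Lpe (f450762 IH) (Lpe (K3.f10883 IH) (Lpr_bt (f10881 IH) (Lpr_gt (f10889 IH) (Lpe (f450764 IH) (Lpn (LP (LK LD1_c13 LD2_c40 LD3_c15)))))))))))))
theorem f673136 : Led Lsl_ct (LP (LK LD1_c13 LD2_c40 LD3_c15)) = (LP (LK LD1_c13 LD2_c37 LD3_c20)) :=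
  Leop (Lpr_cf (f673135 IH) (Lpn (LP (LK LD1_c13 LD2_c40 LD3_c15))))
theorem seed_540 : LEOK LG_c (LK LD1_c13 LD2_c40 LD3_c15) :=
  Leoe_c (LK LD1_c13 LD2_c40 LD3_c15) (f673136 IH)
def v2391 : LQ := Led Lsl_gt (LP (LK LD1_c1 LD2_c44 LD3_c17))
def v9025 : LQ := Led Lsl_ct v2391
theorem f673244 : Led Lsl_ct v2391 = v9025 :=
  Lrfl
theorem f455888 : Led Lsl_gt (LP (LK LD1_c3 LD2_c34 LD3_c55)) = (LP (LK LD1_c1 LD2_c44 LD3_c12)) :=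
  Lre_g IH (LK LD1_c3 LD2_c34 LD3_c55) (LK LD1_c1 LD2_c44 LD3_c12) Lrfl Lrfl
theorem f657380 : Led Lsl_ff (LP (LK LD1_c3 LD2_c35 LD3_c3)) = (LP (LK LD1_c3 LD2_c34 LD3_c55)) :=
  Lgr Lrot52 (Lpr_at (K46.f657374 IH) (Lpe (K29.f455892 IH) (Lpe (f455888 IH) (Lpn (LP (LK LD1_c3 LD2_c34 LD3_c55))))))
theorem f657384 : Led Lsl_ft (LP (LK LD1_c3 LD2_c35 LD3_c3)) = (LP (LK LD1_c3 LD2_c34 LD3_c55)) :=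
  Lgr Lrot48 (Lpr_ff (f657380 IH) (Lpn (LP (LK LD1_c3 LD2_c34 LD3_c55))))
theorem f519456 : Led Lsl_gt (LP (LK LD1_c1 LD2_c44 LD3_c17)) = v2391 :=
  Lrfl
theorem f657388 : Led Lsl_af v2391 = (LP (LK LD1_c3 LD2_c34 LD3_c55)) :=
  Lgr Lrot31 (Lpe (f519456 IH) (Lpe (K33.f456227 IH) (Lpr_ft (f657384 IH) (Lpn (LP (LK LD1_c3 LD2_c34 LD3_c55))))))
theorem f657376 : Led Lsl_af (LP (LK LD1_c3 LD2_c35 LD3_c3)) = (LP (LK LD1_c3 LD2_c34 LD3_c54)) :=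
  Lgr Lrot0 (Lpr_at (K46.f657374 IH) (Lpn (LP (LK LD1_c3 LD2_c34 LD3_c54))))
theorem f657390 : Led Lsl_ft v2391 = (LP (LK LD1_c3 LD2_c34 LD3_c54)) :=
  Lgr Lrot101 (Lpr_af (f657388 IH) (Lpe (f657384 IH) (Lpr_af (f657376 IH) (Lpn (LP (LK LD1_c3 LD2_c34 LD3_c54))))))
theorem f657391 : Led Lsl_ff v2391 = (LP (LK LD1_c3 LD2_c34 LD3_c54)) :=
  Lgr Lrot3 (Lpr_ft (f657390 IH) (Lpn (LP (LK LD1_c3 LD2_c34 LD3_c54))))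
theorem f478746 : Led Lsl_ct (LP (LK LD1_c7 LD2_c10 LD3_c58)) = (LP (LK LD1_c3 LD2_c34 LD3_c54)) :=
  Lre_c IH (LK LD1_c7 LD2_c10 LD3_c58) (LK LD1_c3 LD2_c34 LD3_c54) Lrfl Lrfl
theorem f673247 : Led Lsl_ff (LP (LK LD1_c7 LD2_c10 LD3_c58)) = v9025 :=
  Lgr Lrot23 (Lpr_ct (f478746 IH) (Lpe (f657391 IH) (Lpr_ct (f673244 IH) (Lpn v9025))))
theorem f673250 : Led Lsl_ft (LP (LK LD1_c7 LD2_c10 LD3_c58)) = v9025 :=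
  Lgr Lrot48 (Lpr_ff (f673247 IH) (Lpn v9025))
theorem f481853 : Led Lsl_ct (LP (LK LD1_c7 LD2_c50 LD3_c59)) = (LP (LK LD1_c3 LD2_c54 LD3_c37)) :=
  Lre_c IH (LK LD1_c7 LD2_c50 LD3_c59) (LK LD1_c3 LD2_c54 LD3_c37) Lrfl Lrfl
theorem f455893 : Led Lsl_ct (LP (LK LD1_c3 LD2_c34 LD3_c54)) = (LP (LK LD1_c7 LD2_c10 LD3_c58)) :=
  Lre_c IH (LK LD1_c3 LD2_c34 LD3_c54) (LK LD1_c7 LD2_c10 LD3_c58) Lrfl Lrfl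
theorem f487301 : Led Lsl_gf (LP (LK LD1_c7 LD2_c50 LD3_c59)) = (LP (LK LD1_c7 LD2_c10 LD3_c58)) :=
  Lgr Lrot104 (Lpr_ct (f481853 IH) (Lpe (K34.f481854 IH) (Lpe (K33.f451151 IH) (Lpe (K29.f481845 IH) (Lpe (K4.f15127 IH) (Lpqs (K29.f481858 IH) (Lpe (K29.f455886 IH) (Lpe (K29.f455887 IH) (Lpr_gt (K29.f455892 IH) (Lpr_ct (f455893 IH) (Lpn (LP (LK LD1_c7 LD2_c10 LD3_c58)))))))))))))
theorem f455890 : Led Lsl_ct (LP (LK LD1_c7 LD2_c10 LD3_c59)) = (LP (LK LD1_c3 LD2_c34 LD3_c55)) :=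
  Lre_c IH (LK LD1_c7 LD2_c10 LD3_c59) (LK LD1_c3 LD2_c34 LD3_c55) Lrfl Lrfl
theorem f673245 : Led Lsl_af (LP (LK LD1_c7 LD2_c10 LD3_c59)) = v9025 :=
  Lgr Lrot68 (Lpr_ct (f455890 IH) (Lpe (f657388 IH) (Lpr_ct (f673244 IH) (Lpn v9025))))
theorem f673251 : Led Lsl_gt (LP (LK LD1_c7 LD2_c50 LD3_c59)) = (LP (LK LD1_c7 LD2_c10 LD3_c59)) :=
  Lgr Lrot46 (Lpr_gf (f487301 IH) (Lpr_ft (f673250 IH) (Lpe (f673245 IH) (Lpn (LP (LK LD1_c7 LD2_c10 LD3_c59))))))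
theorem f673252 : Led Lsl_gt (LP (LK LD1_c7 LD2_c50 LD3_c59)) = (LP (LK LD1_c7 LD2_c10 LD3_c59)) :=
  Leop (Lpe (f673251 IH) (Lpn (LP (LK LD1_c7 LD2_c50 LD3_c59))))
theorem seed_541 : LEOK LG_g (LK LD1_c7 LD2_c50 LD3_c59) :=
  Leoe_g (LK LD1_c7 LD2_c50 LD3_c59) (f673252 IH)
def v2505 : LQ := Led Lsl_gf (LP (LK LD1_c1 LD2_c46 LD3_c53))
def v9178 : LQ := Led Lsl_bt v2505
theorem f673895 : Led Lsl_bt v2505 = v9178 :=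
  Lrfl
theorem f523663 : Led Lsl_gf (LP (LK LD1_c1 LD2_c46 LD3_c53)) = v2505 :=
  Lrfl
def v2299 : LQ := Led Lsl_ft (LP (LK LD1_c1 LD2_c41 LD3_c23))
theorem f511948 : Led Lsl_ft (LP (LK LD1_c1 LD2_c41 LD3_c23)) = v2299 :=
  Lrfl
theorem f511949 : Led Lsl_bf K34.v618 = v2299 :=
  Lgr Lrot61 (Lpe (K34.f455523 IH) (Lpr_bt (K35.f120556 IH) (Lpr_ft (f511948 IH) (Lpn v2299))))
theorem f523665 : Led Lsl_ct v2299 = v2505 :=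
  Lgr Lrot64 (Lpe (f511949 IH) (Lpe (K34.f455529 IH) (Lpqs (K34.f493750 IH) (Lpe (K30.f451559 IH) (Lpq (K24.f455962 IH) (Lpe (K29.f451492 IH) (Lpe (K24.f447638 IH) (Lpr_cf (K2.f3933 IH) (Lpe (K24.f4034 IH) (Lpe (K29.f5820 IH) (Lpr_ct (K28.f5821 IH) (Lpr_gf (f523663 IH) (Lpn v2505)))))))))))))
theorem f523666 : Led Lsl_cf v2299 = v2505 :=
  Lgr Lrot11 (Lpr_ct (f523665 IH) (Lpn v2505))
theorem f511951 : Led Lsl_ff (LP (LK LD1_c1 LD2_c41 LD3_c23)) = v2299 :=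
  Lgr Lrot3 (Lpr_ft (f511948 IH) (Lpn v2299))
theorem f120555 : Led Lsl_at (LP (LK LD1_c1 LD2_c41 LD3_c23)) = (LP (LK LD1_c3 LD2_c29 LD3_c17)) :=
  Lre_a IH (LK LD1_c1 LD2_c41 LD3_c23) (LK LD1_c3 LD2_c29 LD3_c17) Lrfl Lrfl
theorem f511954 : Led Lsl_gf (LP (LK LD1_c1 LD2_c49 LD3_c16)) = v2299 :=
  Lgr Lrot47 (Lpr_gt (K34.f483798 IH) (Lpe (f120555 IH) (Lpr_ff (f511951 IH) (Lpn v2299))))
theorem f122120 : Led Lsl_ct (LP (LK LD1_c13 LD2_c5 LD3_c12)) = (LP (LK LD1_c13 LD2_c57 LD3_c4)) :=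
  Lgr Lrot59 (Lpr_cf (K47.f122112 IH) (Lpn (LP (LK LD1_c13 LD2_c57 LD3_c4))))
theorem f122119 : Led Lsl_ct (LP (LK LD1_c13 LD2_c57 LD3_c5)) = (LP (LK LD1_c7 LD2_c22 LD3_c45)) :=
  Lre_c IH (LK LD1_c13 LD2_c57 LD3_c5) (LK LD1_c7 LD2_c22 LD3_c45) Lrfl Lrfl
theorem f498009 : Led Lsl_at (LP (LK LD1_c14 LD2_c6 LD3_c33)) = (LP (LK LD1_c13 LD2_c57 LD3_c5)) :=
  Lgr Lrot107 (Lpe (K47.f123622 IH) (Lpr_af (K47.f497980 IH) (Lpe (f122119 IH) (Lpn (LP (LK LD1_c13 LD2_c57 LD3_c5))))))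
theorem f498011 : Led Lsl_af (LP (LK LD1_c14 LD2_c6 LD3_c33)) = (LP (LK LD1_c13 LD2_c57 LD3_c5)) :=
  Lgr Lrot0 (Lpr_at (f498009 IH) (Lpn (LP (LK LD1_c13 LD2_c57 LD3_c5))))
theorem f486111 : Led Lsl_cf (LP (LK LD1_c14 LD2_c15 LD3_c22)) = (LP (LK LD1_c13 LD2_c54 LD3_c55)) :=
  Lgr Lrot11 (Lpr_ct (K47.f486108 IH) (Lpn (LP (LK LD1_c13 LD2_c54 LD3_c55))))
theorem f501796 : Led Lsl_ff (LP (LK LD1_c13 LD2_c57 LD3_c5)) = (LP (LK LD1_c14 LD2_c15 LD3_c22)) :=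
  Lgr Lrot23 (Lpr_ct (f122119 IH) (Lpr_ft (K47.f501794 IH) (Lpe (f486111 IH) (Lpn (LP (LK LD1_c14 LD2_c15 LD3_c22))))))
theorem f661426 : Led Lsl_gt (LP (LK LD1_c14 LD2_c15 LD3_c22)) = (LP (LK LD1_c21 LD2_c41 LD3_c21)) :=
  Lgr Lrot5 (Lpe (f501796 IH) (Lpe (f498011 IH) (Lpr_gf (K48.f661421 IH) (Lpn (LP (LK LD1_c21 LD2_c41 LD3_c21))))))
theorem f436807 : Led Lsl_ct (LP (LK LD1_c7 LD2_c21 LD3_c28)) = (LP (LK LD1_c13 LD2_c54 LD3_c37)) :=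
  Lre_c IH (LK LD1_c7 LD2_c21 LD3_c28) (LK LD1_c13 LD2_c54 LD3_c37) Lrfl Lrfl
theorem f518465 : Led Lsl_bt (LP (LK LD1_c7 LD2_c21 LD3_c28)) = (LP (LK LD1_c13 LD2_c54 LD3_c36)) :=
  Lre_b IH (LK LD1_c7 LD2_c21 LD3_c28) (LK LD1_c13 LD2_c54 LD3_c36) Lrfl Lrfl
theorem f661444 : Led Lsl_gt (LP (LK LD1_c13 LD2_c54 LD3_c36)) = (LP (LK LD1_c23 LD2_c24 LD3_c51)) :=
  Lre_g IH (LK LD1_c13 LD2_c54 LD3_c36) (LK LD1_c23 LD2_c24 LD3_c51) Lrfl Lrfl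
theorem f661445 : Led Lsl_bt (LP (LK LD1_c13 LD2_c54 LD3_c55)) = (LP (LK LD1_c23 LD2_c24 LD3_c51)) :=
  Lgr Lrot92 (Lpe (f486111 IH) (Lpr_gt (f661426 IH) (Lpr_cf (K48.f522787 IH) (Lpe (K48.f522785 IH) (Lpe (K48.f610081 IH) (Lpe (K48.f439264 IH) (Lpr_gt (K48.f661441 IH) (Lpe (f436807 IH) (Lpr_bt (f518465 IH) (Lpr_gt (f661444 IH) (Lpn (LP (LK LD1_c23 LD2_c24 LD3_c51)))))))))))))
theorem f661449 : Led Lsl_ff (LP (LK LD1_c13 LD2_c57 LD3_c4)) = (LP (LK LD1_c23 LD2_c24 LD3_c51)) :=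
  Lgr Lrot25 (Lpr_bt (K47.f122123 IH) (Lpr_ft (K47.f501794 IH) (Lpr_bt (f661445 IH) (Lpn (LP (LK LD1_c23 LD2_c24 LD3_c51))))))
theorem f661455 : Led Lsl_ft (LP (LK LD1_c13 LD2_c57 LD3_c4)) = (LP (LK LD1_c23 LD2_c24 LD3_c51)) :=
  Lgr Lrot48 (Lpr_ff (f661449 IH) (Lpn (LP (LK LD1_c23 LD2_c24 LD3_c51))))
theorem f517886 : Led Lsl_ct (LP (LK LD1_c13 LD2_c6 LD3_c60)) = (LP (LK LD1_c22 LD2_c18 LD3_c31)) :=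
  Lre_c IH (LK LD1_c13 LD2_c6 LD3_c60) (LK LD1_c22 LD2_c18 LD3_c31) Lrfl Lrfl
theorem f420062 : Led Lsl_ct (LP (LK LD1_c14 LD2_c7 LD3_c19)) = (LP (LK LD1_c13 LD2_c56 LD3_c12)) :=
  Lgr Lrot59 (Lpr_cf (K47.f419789 IH) (Lpn (LP (LK LD1_c13 LD2_c56 LD3_c12))))
theorem f517887 : Led Lsl_ft (LP (LK LD1_c22 LD2_c18 LD3_c31)) = (LP (LK LD1_c14 LD2_c7 LD3_c19)) :=
  Lgr Lrot4 (Lpe (f517886 IH) (Lpr_ff (K48.f517884 IH) (Lpe (f420062 IH) (Lpn (LP (LK LD1_c14 LD2_c7 LD3_c19))))))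
theorem f661457 : Led Lsl_af (LP (LK LD1_c22 LD2_c18 LD3_c31)) = (LP (LK LD1_c23 LD2_c24 LD3_c51)) :=
  Lgr Lrot45 (Lpr_ft (f517887 IH) (Lpr_at (K47.f497976 IH) (Lpr_ft (f661455 IH) (Lpn (LP (LK LD1_c23 LD2_c24 LD3_c51))))))
theorem f65521 : Led Lsl_gt (LP (LK LD1_c6 LD2_c34 LD3_c8)) = (LP (LK LD1_c12 LD2_c34 LD3_c54)) :=
  Lre_g IH (LK LD1_c6 LD2_c34 LD3_c8) (LK LD1_c12 LD2_c34 LD3_c54) Lrfl Lrfl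
theorem f123558 : Led Lsl_ct (LP (LK LD1_c12 LD2_c34 LD3_c54)) = (LP (LK LD1_c21 LD2_c41 LD3_c18)) :=
  Lre_c IH (LK LD1_c12 LD2_c34 LD3_c54) (LK LD1_c21 LD2_c41 LD3_c18) Lrfl Lrfl
theorem f611530 : Led Lsl_gf (LP (LK LD1_c22 LD2_c18 LD3_c31)) = (LP (LK LD1_c21 LD2_c41 LD3_c18)) :=
  Lgr Lrot129 (Lpe (f517886 IH) (Lpr_bt (K48.f611526 IH) (Lpr_gt (K47.f472463 IH) (Lpe (K47.f481697 IH) (Lpr_ct (K30.f482948 IH) (Lpe (K29.f481678 IH) (Lpe (K4.f65509 IH) (Lpr_bt (K47.f65520 IH) (Lpr_gt (f65521 IH) (Lpr_ct (f123558 IH) (Lpn (LP (LK LD1_c21 LD2_c41 LD3_c18)))))))))))))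
theorem f661461 : Led Lsl_gt (LP (LK LD1_c13 LD2_c57 LD3_c4)) = (LP (LK LD1_c21 LD2_c41 LD3_c18)) :=
  Lgr Lrot5 (Lpr_ft (f661455 IH) (Lpe (f661457 IH) (Lpr_gf (f611530 IH) (Lpn (LP (LK LD1_c21 LD2_c41 LD3_c18))))))
theorem f440753 : Led Lsl_bt (LP (LK LD1_c6 LD2_c32 LD3_c57)) = (LP (LK LD1_c12 LD2_c33 LD3_c9)) :=
  Lre_b IH (LK LD1_c6 LD2_c32 LD3_c57) (LK LD1_c12 LD2_c33 LD3_c9) Lrfl Lrfl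
theorem f440754 : Led Lsl_cf (LP (LK LD1_c7 LD2_c12 LD3_c30)) = (LP (LK LD1_c12 LD2_c33 LD3_c9)) :=
  Lgr Lrot97 (Lpr_bt (K3.f109531 IH) (Lpr_ct (K47.f109536 IH) (Lpe (K4.f120507 IH) (Lpr_ct (K47.f440750 IH) (Lpr_bt (f440753 IH) (Lpn (LP (LK LD1_c12 LD2_c33 LD3_c9))))))))
theorem f440624 : Led Lsl_bt (LP (LK LD1_c12 LD2_c33 LD3_c9)) = (LP (LK LD1_c6 LD2_c32 LD3_c57)) :=
  Lre_b IH (LK LD1_c12 LD2_c33 LD3_c9) (LK LD1_c6 LD2_c32 LD3_c57) Lrfl Lrfl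
theorem f107395 : Led Lsl_gt (LP (LK LD1_c6 LD2_c32 LD3_c57)) = (LP (LK LD1_c12 LD2_c33 LD3_c12)) :=
  Lre_g IH (LK LD1_c6 LD2_c32 LD3_c57) (LK LD1_c12 LD2_c33 LD3_c12) Lrfl Lrfl
theorem f661022 : Led Lsl_bf (LP (LK LD1_c12 LD2_c33 LD3_c12)) = (LP (LK LD1_c12 LD2_c34 LD3_c54)) :=
  Lgr Lrot34 (Lpe (f107395 IH) (Lpe (f440624 IH) (Lpe (f440754 IH) (Lpqs (K47.f661020 IH) (Lpe (K47.f661012 IH) (Lpe (K46.f482970 IH) (Lpe (K47.f472463 IH) (Lpe (K48.f611526 IH) (Lpr_ct (f517886 IH) (Lpr_gf (f611530 IH) (Lpe (f123558 IH) (Lpn (LP (LK LD1_c12 LD2_c34 LD3_c54))))))))))))))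
theorem f673900 : Led Lsl_gt (LP (LK LD1_c12 LD2_c33 LD3_c12)) = v9178 :=
  Lgr Lrot164 (Lpr_bf (f661022 IH) (Lpr_ct (f123558 IH) (Lpe (f661461 IH) (Lpe (f122120 IH) (Lpe (K47.f517823 IH) (Lpe (K42.f488433 IH) (Lpr_ct (K35.f488397 IH) (Lpr_gf (f511954 IH) (Lpr_cf (f523666 IH) (Lpr_bt (f673895 IH) (Lpn v9178)))))))))))
theorem f511952 : Led Lsl_bt K34.v618 = v2299 :=
  Lgr Lrot35 (Lpe (K34.f455520 IH) (Lpe (K34.f120562 IH) (Lpr_ff (f511951 IH) (Lpn v2299))))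
def v6780 : LQ := Led Lsl_ft (LP (LK LD1_c3 LD2_c29 LD3_c24))
theorem f658407 : Led Lsl_ft (LP (LK LD1_c3 LD2_c29 LD3_c24)) = v6780 :=
  Lrfl
theorem f658408 : Led Lsl_bf K33.v2301 = v6780 :=
  Lgr Lrot61 (Lpe (K33.f511961 IH) (Lpr_bt (K30.f120574 IH) (Lpr_ft (f658407 IH) (Lpn v6780))))
theorem f673897 : Led Lsl_cf v6780 = v9178 :=
  Lgr Lrot97 (Lpe (f658408 IH) (Lpe (K47.f511959 IH) (Lpr_bt (f511952 IH) (Lpr_ct (f523665 IH) (Lpr_bt (f673895 IH) (Lpn v9178))))))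
def v7378 : LQ := Led Lsl_ct (LP (LK LD1_c3 LD2_c45 LD3_c56))
theorem f664800 : Led Lsl_ct (LP (LK LD1_c3 LD2_c45 LD3_c56)) = v7378 :=
  Lrfl
theorem f664801 : Led Lsl_cf (LP (LK LD1_c3 LD2_c45 LD3_c56)) = v7378 :=
  Lgr Lrot11 (Lpr_ct (f664800 IH) (Lpn v7378))
theorem f109828 : Led Lsl_gt (LP (LK LD1_c3 LD2_c45 LD3_c56)) = (LP (LK LD1_c1 LD2_c50 LD3_c3)) :=
  Lre_g IH (LK LD1_c3 LD2_c45 LD3_c56) (LK LD1_c1 LD2_c50 LD3_c3) Lrfl Lrfl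
theorem f467096 : Led Lsl_ct (LP (LK LD1_c3 LD2_c44 LD3_c57)) = (LP (LK LD1_c1 LD2_c50 LD3_c3)) :=
  Lre_c IH (LK LD1_c3 LD2_c44 LD3_c57) (LK LD1_c1 LD2_c50 LD3_c3) Lrfl Lrfl
theorem f491184 : Led Lsl_cf K34.v204 = K34.v1052 :=
  Lgr Lrot11 (Lpr_ct (K34.f491183 IH) (Lpn K34.v1052))
theorem f658410 : Led Lsl_ff (LP (LK LD1_c3 LD2_c29 LD3_c24)) = v6780 :=
  Lgr Lrot3 (Lpr_ft (f658407 IH) (Lpn v6780))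
theorem f658411 : Led Lsl_bt K33.v2301 = v6780 :=
  Lgr Lrot35 (Lpe (K33.f511957 IH) (Lpe (K28.f120540 IH) (Lpr_ff (f658410 IH) (Lpn v6780))))
theorem f664803 : Led Lsl_gt v6780 = v7378 :=
  Lgr Lrot82 (Lpe (f658411 IH) (Lpe (K47.f511959 IH) (Lpe (K34.f455529 IH) (Lpr_cf (f491184 IH) (Lpq (K34.f493755 IH) (Lpe (K30.f493489 IH) (Lpe (K35.f491643 IH) (Lpe (K3.f95343 IH) (Lpr_ct (f467096 IH) (Lpe (f109828 IH) (Lpr_cf (f664801 IH) (Lpn v7378))))))))))))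
theorem f664790 : Led Lsl_bt (LP (LK LD1_c3 LD2_c45 LD3_c56)) = (LP (LK LD1_c7 LD2_c32 LD3_c39)) :=
  Lre_b IH (LK LD1_c3 LD2_c45 LD3_c56) (LK LD1_c7 LD2_c32 LD3_c39) Lrfl Lrfl
theorem f673903 : Led Lsl_gf (LP (LK LD1_c14 LD2_c13 LD3_c15)) = (LP (LK LD1_c7 LD2_c32 LD3_c39)) :=
  Lgr Lrot124 (Lpe (K47.f122098 IH) (Lpr_ct (f122120 IH) (Lpr_gt (f661461 IH) (Lpe (f123558 IH) (Lpe (f661022 IH) (Lpr_gt (f673900 IH) (Lpe (f673897 IH) (Lpr_gt (f664803 IH) (Lpe (f664800 IH) (Lpr_bt (f664790 IH) (Lpn (LP (LK LD1_c7 LD2_c32 LD3_c39)))))))))))))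
theorem f673904 : Led Lsl_gt (LP (LK LD1_c7 LD2_c32 LD3_c39)) = (LP (LK LD1_c14 LD2_c13 LD3_c15)) :=
  Leop (Lpr_gf (f673903 IH) (Lpn (LP (LK LD1_c7 LD2_c32 LD3_c39))))
theorem seed_542 : LEOK LG_g (LK LD1_c7 LD2_c32 LD3_c39) :=
  Leoe_g (LK LD1_c7 LD2_c32 LD3_c39) (f673904 IH)
def v4407 : LQ := Led Lsl_at (LP (LK LD1_c2 LD2_c20 LD3_c49))
theorem f633186 : Led Lsl_at (LP (LK LD1_c2 LD2_c20 LD3_c49)) = v4407 :=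
  Lrfl
theorem f633187 : Led Lsl_af (LP (LK LD1_c2 LD2_c20 LD3_c49)) = v4407 :=
  Lgr Lrot0 (Lpr_at (f633186 IH) (Lpn v4407))
def v1348 : LQ := Led Lsl_gt (LP (LK LD1_c1 LD2_c7 LD3_c45))
theorem f495016 : Led Lsl_gt (LP (LK LD1_c1 LD2_c7 LD3_c45)) = v1348 :=
  Lrfl
theorem f495017 : Led Lsl_ft (LP (LK LD1_c1 LD2_c7 LD3_c45)) = (LP (LK LD1_c2 LD2_c20 LD3_c50)) :=
  Lre_f IH (LK LD1_c1 LD2_c7 LD3_c45) (LK LD1_c2 LD2_c20 LD3_c50) Lrfl Lrfl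
theorem f495018 : Led Lsl_at (LP (LK LD1_c2 LD2_c20 LD3_c50)) = (LP (LK LD1_c1 LD2_c7 LD3_c60)) :=
  Lre_a IH (LK LD1_c2 LD2_c20 LD3_c50) (LK LD1_c1 LD2_c7 LD3_c60) Lrfl Lrfl
theorem f495019 : Led Lsl_gf (LP (LK LD1_c1 LD2_c7 LD3_c60)) = v1348 :=
  Lgr Lrot76 (Lpe (f495018 IH) (Lpe (f495017 IH) (Lpr_gt (f495016 IH) (Lpn v1348))))
theorem f633188 : Led Lsl_ft v1348 = v4407 :=
  Lgr Lrot2 (Lpe (f495019 IH) (Lpr_gt (K35.f98978 IH) (Lpr_af (f633187 IH) (Lpn v4407))))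
def v7895 : LQ := Led Lsl_bt K35.v1351
theorem f668897 : Led Lsl_bt K35.v1351 = v7895 :=
  Lrfl
theorem f668898 : Led Lsl_bf K35.v1351 = v7895 :=
  Lgr Lrot24 (Lpr_bt (f668897 IH) (Lpn v7895))
def v7884 : LQ := Led Lsl_bt v1348
theorem f668864 : Led Lsl_bt v1348 = v7884 :=
  Lrfl
theorem f668865 : Led Lsl_bf v1348 = v7884 :=
  Lgr Lrot24 (Lpr_bt (f668864 IH) (Lpn v7884))
def v2513 : LQ := Led Lsl_et (LP (LK LD1_c1 LD2_c47 LD3_c8))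
def v9198 : LQ := Led Lsl_gf v2513
theorem f673979 : Led Lsl_gf v2513 = v9198 :=
  Lrfl
theorem f139727 : Led Lsl_ft (LP (LK LD1_c6 LD2_c20 LD3_c20)) = (LP (LK LD1_c3 LD2_c7 LD3_c44)) :=
  Lre_f IH (LK LD1_c6 LD2_c20 LD3_c20) (LK LD1_c3 LD2_c7 LD3_c44) Lrfl Lrfl
theorem f662572 : Led Lsl_cf (LP (LK LD1_c6 LD2_c20 LD3_c20)) = K48.v7231 :=
  Lgr Lrot108 (Lpr_ft (f139727 IH) (Lpe (K48.f139713 IH) (Lpr_ft (K48.f662569 IH) (Lpn K48.v7231))))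
theorem f662575 : Led Lsl_ff (LP (LK LD1_c3 LD2_c42 LD3_c59)) = K48.v7231 :=
  Lgr Lrot3 (Lpr_ft (K48.f662569 IH) (Lpn K48.v7231))
theorem f207463 : Led Lsl_df (LP (LK LD1_c3 LD2_c13 LD3_c18)) = (LP (LK LD1_c3 LD2_c10 LD3_c33)) :=
  Lgr Lrot38 (Lpr_dt (K48.f207461 IH) (Lpn (LP (LK LD1_c3 LD2_c10 LD3_c33))))
theorem f207470 : Led Lsl_dt (LP (LK LD1_c3 LD2_c42 LD3_c59)) = (LP (LK LD1_c3 LD2_c13 LD3_c52)) :=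
  Lgr Lrot44 (Lpr_af (K48.f139730 IH) (Lpr_df (f207463 IH) (Lpe (K24.f207448 IH) (Lpn (LP (LK LD1_c3 LD2_c13 LD3_c52))))))
theorem f662580 : Led Lsl_dt K48.v5830 = K48.v7231 :=
  Lgr Lrot60 (Lpe (K48.f649697 IH) (Lpe (f207470 IH) (Lpr_ff (f662575 IH) (Lpn K48.v7231))))
theorem f662838 : K48.v7231 = K48.v2172 :=
  Lefun (Lecon (f662580 IH) (K48.f662815 IH)) (Lfl_df (K48.f649444 IH))
theorem f662859 : (LP (LK LD1_c6 LD2_c20 LD3_c20)) = K46.v6159 :=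
  Lefun (Lecon (Lfl_cf (f662572 IH)) ((f662838 IH).trans (K48.f651564 IH).symm)) (K46.f651560 IH)
theorem f79325 : Led Lsl_et (LP (LK LD1_c1 LD2_c48 LD3_c31)) = (LP (LK LD1_c3 LD2_c42 LD3_c59)) :=
  Lre_e IH (LK LD1_c1 LD2_c48 LD3_c31) (LK LD1_c3 LD2_c42 LD3_c59) Lrfl Lrfl
theorem f128951 : Led Lsl_ct (LP (LK LD1_c3 LD2_c42 LD3_c59)) = (LP (LK LD1_c3 LD2_c7 LD3_c44)) :=
  Lgr Lrot15 (Lpe (f79325 IH) (Lpr_cf (K5.f128940 IH) (Lpe (K6.f128950 IH) (Lpn (LP (LK LD1_c3 LD2_c7 LD3_c44))))))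
theorem f124552 : Led Lsl_cf (LP (LK LD1_c3 LD2_c13 LD3_c18)) = (LP (LK LD1_c4 LD2_c43 LD3_c12)) :=
  Lgr Lrot11 (Lpr_ct (K48.f124547 IH) (Lpn (LP (LK LD1_c4 LD2_c43 LD3_c12))))
theorem f139733 : Led Lsl_at (LP (LK LD1_c3 LD2_c7 LD3_c44)) = (LP (LK LD1_c4 LD2_c43 LD3_c12)) :=
  Lgr Lrot107 (Lpe (f128951 IH) (Lpr_af (K48.f139730 IH) (Lpr_cf (f124552 IH) (Lpn (LP (LK LD1_c4 LD2_c43 LD3_c12))))))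
theorem f663080 : Led Lsl_gt (LP (LK LD1_c6 LD2_c49 LD3_c7)) = (LP (LK LD1_c4 LD2_c43 LD3_c12)) :=
  Lgr Lrot46 (Lpr_gf (K46.f651562 IH) (Lpq (f662859 IH) (Lpr_ft (f139727 IH) (Lpr_at (f139733 IH) (Lpn (LP (LK LD1_c4 LD2_c43 LD3_c12)))))))
theorem f76920 : Led Lsl_ct (LP (LK LD1_c1 LD2_c38 LD3_c13)) = (LP (LK LD1_c3 LD2_c23 LD3_c45)) :=
  Lre_c IH (LK LD1_c1 LD2_c38 LD3_c13) (LK LD1_c3 LD2_c23 LD3_c45) Lrfl Lrfl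
theorem f76947 : Led Lsl_bt (LP (LK LD1_c0 LD2_c13 LD3_c54)) = (LP (LK LD1_c0 LD2_c31 LD3_c9)) :=
  Lre_b IH (LK LD1_c0 LD2_c13 LD3_c54) (LK LD1_c0 LD2_c31 LD3_c9) Lrfl Lrfl
theorem f76949 : Led Lsl_bt (LP (LK LD1_c2 LD2_c21 LD3_c29)) = (LP (LK LD1_c1 LD2_c7 LD3_c58)) :=
  Lre_b IH (LK LD1_c2 LD2_c21 LD3_c29) (LK LD1_c1 LD2_c7 LD3_c58) Lrfl Lrfl
theorem f76950 : Led Lsl_ct (LP (LK LD1_c2 LD2_c21 LD3_c29)) = (LP (LK LD1_c4 LD2_c47 LD3_c15)) :=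
  Lre_c IH (LK LD1_c2 LD2_c21 LD3_c29) (LK LD1_c4 LD2_c47 LD3_c15) Lrfl Lrfl
theorem f76951 : Led Lsl_gf (LP (LK LD1_c3 LD2_c23 LD3_c45)) = (LP (LK LD1_c4 LD2_c47 LD3_c15)) :=
  Lgr Lrot126 (Lpe (f76920 IH) (Lpr_bt (K2.f73785 IH) (Lpr_gt (K9.f73782 IH) (Lpr_ct (K17.f76927 IH) (Lpr_gt (K17.f61053 IH) (Lpe (K24.f23210 IH) (Lpr_bt (f76947 IH) (Lpr_gt (K35.f76948 IH) (Lpe (f76949 IH) (Lpr_ct (f76950 IH) (Lpn (LP (LK LD1_c4 LD2_c47 LD3_c15)))))))))))))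
def v4430 : LQ := Led Lsl_gf (LP (LK LD1_c2 LD2_c21 LD3_c29))
theorem f633335 : Led Lsl_gf (LP (LK LD1_c2 LD2_c21 LD3_c29)) = v4430 :=
  Lrfl
theorem f523705 : Led Lsl_et (LP (LK LD1_c1 LD2_c47 LD3_c8)) = v2513 :=
  Lrfl
theorem f523709 : Led Lsl_ef (LP (LK LD1_c1 LD2_c47 LD3_c8)) = v2513 :=
  Lgr Lrot88 (Lpr_et (f523705 IH) (Lpn v2513))
theorem f124563 : Led Lsl_bf (LP (LK LD1_c1 LD2_c33 LD3_c4)) = (LP (LK LD1_c1 LD2_c47 LD3_c8)) :=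
  Lgr Lrot24 (Lpr_bt (K5.f124561 IH) (Lpn (LP (LK LD1_c1 LD2_c47 LD3_c8))))
theorem f523711 : Led Lsl_bt (LP (LK LD1_c3 LD2_c13 LD3_c18)) = v2513 :=
  Lgr Lrot119 (Lpe (K48.f124545 IH) (Lpr_bf (f124563 IH) (Lpr_ef (f523709 IH) (Lpn v2513))))
theorem f663084 : v4430 = v2513 :=
  (Llr Lrot181 (Lpe (f633335 IH) (Lpr_ct (f76950 IH) (Lpe (f76951 IH) (Lpe (f76920 IH) (Lpr_bt (K2.f73785 IH) (Lpr_gt (K9.f73782 IH) (Lpe (K46.f73783 IH) (Lpr_ct (K46.f76966 IH) (Lpr_gt (f663080 IH) (Lpe (K48.f124547 IH) (Lpr_bt (f523711 IH) (Lpn v2513))))))))))))).symm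
def v4431 : LQ := Led Lsl_at (LP (LK LD1_c2 LD2_c21 LD3_c29))
theorem f633337 : Led Lsl_at (LP (LK LD1_c2 LD2_c21 LD3_c29)) = v4431 :=
  Lrfl
theorem f633338 : Led Lsl_af (LP (LK LD1_c2 LD2_c21 LD3_c29)) = v4431 :=
  Lgr Lrot0 (Lpr_at (f633337 IH) (Lpn v4431))
theorem f673981 : Led Lsl_ff v4431 = v9198 :=
  Lgr Lrot52 (Lpe (f633338 IH) (Lpr_gf (f633335 IH) (Lpqs (f663084 IH) (Lpr_gf (f673979 IH) (Lpn v9198)))))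
theorem f673983 : Led Lsl_ft v4431 = v9198 :=
  Lgr Lrot48 (Lpr_ff (f673981 IH) (Lpn v9198))
def v4434 : LQ := Led Lsl_ft (LP (LK LD1_c2 LD2_c21 LD3_c29))
theorem f633350 : Led Lsl_ft (LP (LK LD1_c2 LD2_c21 LD3_c29)) = v4434 :=
  Lrfl
theorem f633352 : Led Lsl_ff (LP (LK LD1_c2 LD2_c21 LD3_c29)) = v4434 :=
  Lgr Lrot3 (Lpr_ft (f633350 IH) (Lpn v4434))
theorem f673984 : Led Lsl_af v4434 = v9198 :=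
  Lgr Lrot45 (Lpe (f633352 IH) (Lpr_at (f633337 IH) (Lpr_ft (f673983 IH) (Lpn v9198))))
theorem f495047 : Led Lsl_bt (LP (LK LD1_c1 LD2_c7 LD3_c58)) = (LP (LK LD1_c2 LD2_c21 LD3_c29)) :=
  Lre_b IH (LK LD1_c1 LD2_c7 LD3_c58) (LK LD1_c2 LD2_c21 LD3_c29) Lrfl Lrfl
def v1353 : LQ := Led Lsl_ft (LP (LK LD1_c1 LD2_c7 LD3_c58))
theorem f495063 : Led Lsl_ft (LP (LK LD1_c1 LD2_c7 LD3_c58)) = v1353 :=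
  Lrfl
theorem f495065 : Led Lsl_ff (LP (LK LD1_c1 LD2_c7 LD3_c58)) = v1353 :=
  Lgr Lrot3 (Lpr_ft (f495063 IH) (Lpn v1353))
theorem f633351 : Led Lsl_bf v1353 = v4434 :=
  Lgr Lrot61 (Lpe (f495065 IH) (Lpr_bt (f495047 IH) (Lpr_ft (f633350 IH) (Lpn v4434))))
theorem f495064 : Led Lsl_af (LP (LK LD1_c1 LD2_c7 LD3_c59)) = v1353 :=
  Lgr Lrot45 (Lpr_ft (K35.f495048 IH) (Lpe (K35.f495045 IH) (Lpr_ft (f495063 IH) (Lpn v1353))))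
def v1354 : LQ := Led Lsl_bt (LP (LK LD1_c1 LD2_c7 LD3_c59))
theorem f495069 : Led Lsl_bt (LP (LK LD1_c1 LD2_c7 LD3_c59)) = v1354 :=
  Lrfl
def v7904 : LQ := Led Lsl_at v1354
theorem f668932 : Led Lsl_at v1354 = v7904 :=
  Lrfl
theorem f673985 : Led Lsl_bt v7904 = v9198 :=
  Lgr Lrot62 (Lpe (f668932 IH) (Lpe (f495069 IH) (Lpr_af (f495064 IH) (Lpr_bf (f633351 IH) (Lpr_af (f673984 IH) (Lpn v9198))))))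
def v2162 : LQ := Led Lsl_ft (LP (LK LD1_c1 LD2_c36 LD3_c43))
theorem f509398 : Led Lsl_ft (LP (LK LD1_c1 LD2_c36 LD3_c43)) = v2162 :=
  Lrfl
theorem f509402 : Led Lsl_ff (LP (LK LD1_c1 LD2_c36 LD3_c43)) = v2162 :=
  Lgr Lrot3 (Lpr_ft (f509398 IH) (Lpn v2162))
theorem f509404 : Led Lsl_dt K35.v559 = v2162 :=
  Lgr Lrot60 (Lpe (K35.f453984 IH) (Lpe (K24.f23979 IH) (Lpr_ff (f509402 IH) (Lpn v2162))))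
theorem f509891 : v2162 = (LP (LK LD1_c2 LD2_c22 LD3_c30)) :=
  Lefun (Lecon (f509404 IH) (K35.f509878 IH).symm) (K24.f76936 IH)
theorem f508564 : Led Lsl_bt (LP (LK LD1_c3 LD2_c20 LD3_c45)) = (LP (LK LD1_c1 LD2_c36 LD3_c43)) :=
  Lre_b IH (LK LD1_c3 LD2_c20 LD3_c45) (LK LD1_c1 LD2_c36 LD3_c43) Lrfl Lrfl
theorem f413598 : Led Lsl_bt (LP (LK LD1_c2 LD2_c22 LD3_c30)) = (LP (LK LD1_c4 LD2_c49 LD3_c24)) :=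
  Lre_b IH (LK LD1_c2 LD2_c22 LD3_c30) (LK LD1_c4 LD2_c49 LD3_c24) Lrfl Lrfl
theorem f510180 : Led Lsl_ff (LP (LK LD1_c3 LD2_c20 LD3_c45)) = (LP (LK LD1_c4 LD2_c49 LD3_c24)) :=
  Lgr Lrot25 (Lpr_bt (f508564 IH) (Lpr_ft (f509398 IH) (Lpqs (f509891 IH) (Lpr_bt (f413598 IH) (Lpn (LP (LK LD1_c4 LD2_c49 LD3_c24)))))))
theorem f509397 : Led Lsl_at (LP (LK LD1_c3 LD2_c20 LD3_c45)) = (LP (LK LD1_c6 LD2_c45 LD3_c14)) :=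
  Lre_a IH (LK LD1_c3 LD2_c20 LD3_c45) (LK LD1_c6 LD2_c45 LD3_c14) Lrfl Lrfl
theorem f510187 : Led Lsl_ct (LP (LK LD1_c12 LD2_c54 LD3_c46)) = (LP (LK LD1_c6 LD2_c45 LD3_c14)) :=
  Lre_c IH (LK LD1_c12 LD2_c54 LD3_c46) (LK LD1_c6 LD2_c45 LD3_c14) Lrfl Lrfl
theorem f510188 : Led Lsl_dt (LP (LK LD1_c22 LD2_c4 LD3_c28)) = (LP (LK LD1_c12 LD2_c54 LD3_c46)) :=
  Lre_d IH (LK LD1_c22 LD2_c4 LD3_c28) (LK LD1_c12 LD2_c54 LD3_c46) Lrfl Lrfl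
theorem f77072 : Led Lsl_dt (LP (LK LD1_c4 LD2_c49 LD3_c24)) = (LP (LK LD1_c2 LD2_c22 LD3_c29)) :=
  Lre_d IH (LK LD1_c4 LD2_c49 LD3_c24) (LK LD1_c2 LD2_c22 LD3_c29) Lrfl Lrfl
theorem f76931 : Led Lsl_ct (LP (LK LD1_c2 LD2_c22 LD3_c29)) = (LP (LK LD1_c4 LD2_c49 LD3_c23)) :=
  Lre_c IH (LK LD1_c2 LD2_c22 LD3_c29) (LK LD1_c4 LD2_c49 LD3_c23) Lrfl Lrfl
theorem f77065 : Led Lsl_dt (LP (LK LD1_c4 LD2_c49 LD3_c23)) = (LP (LK LD1_c9 LD2_c31 LD3_c33)) :=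
  Lre_d IH (LK LD1_c4 LD2_c49 LD3_c23) (LK LD1_c9 LD2_c31 LD3_c33) Lrfl Lrfl
theorem f510189 : Led Lsl_ct (LP (LK LD1_c9 LD2_c31 LD3_c33)) = (LP (LK LD1_c17 LD2_c33 LD3_c27)) :=
  Lre_c IH (LK LD1_c9 LD2_c31 LD3_c33) (LK LD1_c17 LD2_c33 LD3_c27) Lrfl Lrfl
theorem f510190 : Led Lsl_dt (LP (LK LD1_c17 LD2_c33 LD3_c27)) = (LP (LK LD1_c27 LD2_c22 LD3_c10)) :=
  Lre_d IH (LK LD1_c17 LD2_c33 LD3_c27) (LK LD1_c27 LD2_c22 LD3_c10) Lrfl Lrfl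
theorem f510191 : Led Lsl_cf (LP (LK LD1_c22 LD2_c4 LD3_c28)) = (LP (LK LD1_c27 LD2_c22 LD3_c10)) :=
  Lgr Lrot161 (Lpr_dt (f510188 IH) (Lpr_ct (f510187 IH) (Lpe (f509397 IH) (Lpr_ff (f510180 IH) (Lpr_dt (f77072 IH) (Lpr_ct (f76931 IH) (Lpr_dt (f77065 IH) (Lpr_ct (f510189 IH) (Lpr_dt (f510190 IH) (Lpn (LP (LK LD1_c27 LD2_c22 LD3_c10))))))))))))
theorem f510199 : Led Lsl_dt (LP (LK LD1_c6 LD2_c45 LD3_c14)) = (LP (LK LD1_c3 LD2_c20 LD3_c43)) :=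
  Lre_d IH (LK LD1_c6 LD2_c45 LD3_c14) (LK LD1_c3 LD2_c20 LD3_c43) Lrfl Lrfl
theorem f510200 : Led Lsl_ct (LP (LK LD1_c3 LD2_c20 LD3_c43)) = (LP (LK LD1_c6 LD2_c45 LD3_c13)) :=
  Lre_c IH (LK LD1_c3 LD2_c20 LD3_c43) (LK LD1_c6 LD2_c45 LD3_c13) Lrfl Lrfl
theorem f140992 : Led Lsl_at (LP (LK LD1_c3 LD2_c20 LD3_c44)) = (LP (LK LD1_c6 LD2_c45 LD3_c13)) :=
  Lre_a IH (LK LD1_c3 LD2_c20 LD3_c44) (LK LD1_c6 LD2_c45 LD3_c13) Lrfl Lrfl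
theorem f510206 : Led Lsl_ff (LP (LK LD1_c3 LD2_c20 LD3_c44)) = (LP (LK LD1_c4 LD2_c49 LD3_c23)) :=
  Lgr Lrot103 (Lpr_at (f140992 IH) (Lpe (f510200 IH) (Lpe (f510199 IH) (Lpe (f510187 IH) (Lpe (f510188 IH) (Lpr_cf (f510191 IH) (Lpe (f510190 IH) (Lpe (f510189 IH) (Lpe (f77065 IH) (Lpn (LP (LK LD1_c4 LD2_c49 LD3_c23))))))))))))
theorem f510216 : Led Lsl_ft (LP (LK LD1_c3 LD2_c20 LD3_c44)) = (LP (LK LD1_c4 LD2_c49 LD3_c23)) :=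
  Lgr Lrot48 (Lpr_ff (f510206 IH) (Lpn (LP (LK LD1_c4 LD2_c49 LD3_c23))))
theorem f140971 : Led Lsl_bt (LP (LK LD1_c1 LD2_c36 LD3_c42)) = (LP (LK LD1_c0 LD2_c44 LD3_c48)) :=
  Lre_b IH (LK LD1_c1 LD2_c36 LD3_c42) (LK LD1_c0 LD2_c44 LD3_c48) Lrfl Lrfl
theorem f140972 : Led Lsl_ct (LP (LK LD1_c3 LD2_c20 LD3_c44)) = (LP (LK LD1_c1 LD2_c36 LD3_c42)) :=
  Lre_c IH (LK LD1_c3 LD2_c20 LD3_c44) (LK LD1_c1 LD2_c36 LD3_c42) Lrfl Lrfl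
theorem f140973 : Led Lsl_ct (LP (LK LD1_c1 LD2_c38 LD3_c22)) = (LP (LK LD1_c3 LD2_c24 LD3_c12)) :=
  Lre_c IH (LK LD1_c1 LD2_c38 LD3_c22) (LK LD1_c3 LD2_c24 LD3_c12) Lrfl Lrfl
theorem f140974 : Led Lsl_bf (LP (LK LD1_c3 LD2_c20 LD3_c44)) = (LP (LK LD1_c3 LD2_c24 LD3_c12)) :=
  Lgr Lrot90 (Lpr_ct (f140972 IH) (Lpr_bt (f140971 IH) (Lpr_ct (K17.f140046 IH) (Lpr_bt (K46.f140059 IH) (Lpr_ct (f140973 IH) (Lpn (LP (LK LD1_c3 LD2_c24 LD3_c12))))))))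
theorem f76929 : Led Lsl_ct (LP (LK LD1_c6 LD2_c49 LD3_c7)) = (LP (LK LD1_c3 LD2_c22 LD3_c45)) :=
  Lre_c IH (LK LD1_c6 LD2_c49 LD3_c7) (LK LD1_c3 LD2_c22 LD3_c45) Lrfl Lrfl
theorem f76930 : Led Lsl_bt (LP (LK LD1_c1 LD2_c8 LD3_c22)) = (LP (LK LD1_c2 LD2_c22 LD3_c29)) :=
  Lre_b IH (LK LD1_c1 LD2_c8 LD3_c22) (LK LD1_c2 LD2_c22 LD3_c29) Lrfl Lrfl
theorem f76932 : Led Lsl_bf (LP (LK LD1_c6 LD2_c49 LD3_c7)) = (LP (LK LD1_c4 LD2_c49 LD3_c23)) :=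
  Lgr Lrot90 (Lpr_ct (f76929 IH) (Lpr_bt (K46.f73783 IH) (Lpr_ct (K17.f76927 IH) (Lpr_bt (f76930 IH) (Lpr_ct (f76931 IH) (Lpn (LP (LK LD1_c4 LD2_c49 LD3_c23))))))))
theorem f510220 : Led Lsl_ff (LP (LK LD1_c3 LD2_c24 LD3_c12)) = (LP (LK LD1_c6 LD2_c49 LD3_c7)) :=
  Lgr Lrot25 (Lpe (f140974 IH) (Lpr_ft (f510216 IH) (Lpe (f76932 IH) (Lpn (LP (LK LD1_c6 LD2_c49 LD3_c7))))))
theorem f141002 : Led Lsl_at (LP (LK LD1_c3 LD2_c24 LD3_c12)) = (LP (LK LD1_c6 LD2_c51 LD3_c19)) :=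
  Lre_a IH (LK LD1_c3 LD2_c24 LD3_c12) (LK LD1_c6 LD2_c51 LD3_c19) Lrfl Lrfl
theorem f663082 : Led Lsl_gf (LP (LK LD1_c6 LD2_c51 LD3_c19)) = (LP (LK LD1_c4 LD2_c43 LD3_c12)) :=
  Lgr Lrot76 (Lpe (f141002 IH) (Lpr_ff (f510220 IH) (Lpr_gt (f663080 IH) (Lpn (LP (LK LD1_c4 LD2_c43 LD3_c12))))))
theorem f510230 : Led Lsl_ct (LP (LK LD1_c3 LD2_c24 LD3_c11)) = (LP (LK LD1_c6 LD2_c51 LD3_c19)) :=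
  Lre_c IH (LK LD1_c3 LD2_c24 LD3_c11) (LK LD1_c6 LD2_c51 LD3_c19) Lrfl Lrfl
theorem f73755 : Led Lsl_bt (LP (LK LD1_c1 LD2_c38 LD3_c22)) = (LP (LK LD1_c0 LD2_c45 LD3_c35)) :=
  Lre_b IH (LK LD1_c1 LD2_c38 LD3_c22) (LK LD1_c0 LD2_c45 LD3_c35) Lrfl Lrfl
theorem f454815 : Led Lsl_at (LP (LK LD1_c3 LD2_c24 LD3_c11)) = (LP (LK LD1_c1 LD2_c38 LD3_c22)) :=
  Lre_a IH (LK LD1_c3 LD2_c24 LD3_c11) (LK LD1_c1 LD2_c38 LD3_c22) Lrfl Lrfl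
theorem f527803 : Led Lsl_bf (LP (LK LD1_c3 LD2_c24 LD3_c11)) = K35.v1930 :=
  Lgr Lrot81 (Lpr_at (f454815 IH) (Lpr_bt (f73755 IH) (Lpqs (K35.f509842 IH) (Lpe (K32.f509699 IH) (Lpr_bt (K34.f509704 IH) (Lpr_at (K35.f527801 IH) (Lpn K35.v1930)))))))
theorem f527807 : Led Lsl_bt (LP (LK LD1_c3 LD2_c24 LD3_c11)) = K35.v1930 :=
  Lgr Lrot127 (Lpr_bf (f527803 IH) (Lpn K35.v1930))
theorem f527806 : Led Lsl_gf K34.v2239 = K35.v1930 :=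
  Lgr Lrot47 (Lpe (K34.f510424 IH) (Lpr_af (K35.f510426 IH) (Lpr_ff (K35.f527804 IH) (Lpn K35.v1930))))
def v8851 : LQ := Led Lsl_ct K34.v2239
theorem f672484 : Led Lsl_ct K34.v2239 = v8851 :=
  Lrfl
theorem f527797 : Led Lsl_ff K34.v2239 = (LP (LK LD1_c2 LD2_c18 LD3_c5)) :=
  Lgr Lrot3 (Lpr_ft (K34.f527794 IH) (Lpn (LP (LK LD1_c2 LD2_c18 LD3_c5))))
def v4263 : LQ := Led Lsl_et (LP (LK LD1_c2 LD2_c18 LD3_c4))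
theorem f632300 : Led Lsl_et (LP (LK LD1_c2 LD2_c18 LD3_c4)) = v4263 :=
  Lrfl
theorem f124471 : Led Lsl_et (LP (LK LD1_c2 LD2_c18 LD3_c5)) = (LP (LK LD1_c1 LD2_c6 LD3_c4)) :=
  Lre_e IH (LK LD1_c2 LD2_c18 LD3_c5) (LK LD1_c1 LD2_c6 LD3_c4) Lrfl Lrfl
theorem f632302 : Led Lsl_cf (LP (LK LD1_c2 LD2_c18 LD3_c5)) = v4263 :=
  Lgr Lrot39 (Lpr_et (f124471 IH) (Lpr_ct (K7.f124425 IH) (Lpr_et (f632300 IH) (Lpn v4263))))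
theorem f672488 : Led Lsl_ff v4263 = v8851 :=
  Lgr Lrot23 (Lpe (f632302 IH) (Lpe (f527797 IH) (Lpr_ct (f672484 IH) (Lpn v8851))))
theorem f150675 : Led Lsl_et (LP (LK LD1_c3 LD2_c10 LD3_c44)) = (LP (LK LD1_c1 LD2_c31 LD3_c44)) :=
  Lre_e IH (LK LD1_c3 LD2_c10 LD3_c44) (LK LD1_c1 LD2_c31 LD3_c44) Lrfl Lrfl
theorem f632301 : Led Lsl_af (LP (LK LD1_c3 LD2_c10 LD3_c44)) = v4263 :=
  Lgr Lrot50 (Lpr_et (f150675 IH) (Lpr_at (K7.f150660 IH) (Lpr_et (f632300 IH) (Lpn v4263))))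
def v5589 : LQ := Led Lsl_gf (LP (LK LD1_c3 LD2_c10 LD3_c44))
theorem f648402 : Led Lsl_gf (LP (LK LD1_c3 LD2_c10 LD3_c44)) = v5589 :=
  Lrfl
theorem f672494 : Led Lsl_gf v5589 = v8851 :=
  Lgr Lrot47 (Lpe (f648402 IH) (Lpr_af (f632301 IH) (Lpr_ff (f672488 IH) (Lpn v8851))))
theorem f673987 : Led Lsl_ct v7904 = v5589 :=
  Lgr Lrot63 (Lpr_bt (f673985 IH) (Lpe (f673979 IH) (Lpe (f523711 IH) (Lpr_ct (K48.f124547 IH) (Lpe (f663082 IH) (Lpe (f510230 IH) (Lpr_bt (f527807 IH) (Lpe (f527806 IH) (Lpr_ct (f672484 IH) (Lpe (f672494 IH) (Lpn v5589)))))))))))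
theorem f673989 : Led Lsl_cf v7904 = v5589 :=
  Lgr Lrot11 (Lpr_ct (f673987 IH) (Lpn v5589))
theorem f668933 : Led Lsl_af v1354 = v7904 :=
  Lgr Lrot0 (Lpr_at (f668932 IH) (Lpn v7904))
def v7905 : LQ := Led Lsl_ct v1354
theorem f668934 : Led Lsl_ct v1354 = v7905 :=
  Lrfl
theorem f674002 : Led Lsl_at v7905 = v5589 :=
  Lgr Lrot107 (Lpe (f668934 IH) (Lpr_af (f668933 IH) (Lpr_cf (f673989 IH) (Lpn v5589))))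
theorem f113044 : Led Lsl_ct (LP (LK LD1_c0 LD2_c44 LD3_c10)) = (LP (LK LD1_c1 LD2_c34 LD3_c54)) :=
  Lre_c IH (LK LD1_c0 LD2_c44 LD3_c10) (LK LD1_c1 LD2_c34 LD3_c54) Lrfl Lrfl
theorem f414292 : Led Lsl_bt (LP (LK LD1_c0 LD2_c44 LD3_c10)) = (LP (LK LD1_c1 LD2_c7 LD3_c45)) :=
  Lre_b IH (LK LD1_c0 LD2_c44 LD3_c10) (LK LD1_c1 LD2_c7 LD3_c45) Lrfl Lrfl
theorem f98990 : Led Lsl_ct (LP (LK LD1_c1 LD2_c7 LD3_c60)) = (LP (LK LD1_c2 LD2_c21 LD3_c27)) :=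
  Lre_c IH (LK LD1_c1 LD2_c7 LD3_c60) (LK LD1_c2 LD2_c21 LD3_c27) Lrfl Lrfl
theorem f98987 : Led Lsl_gt (LP (LK LD1_c2 LD2_c21 LD3_c27)) = (LP (LK LD1_c4 LD2_c45 LD3_c23)) :=
  Lre_g IH (LK LD1_c2 LD2_c21 LD3_c27) (LK LD1_c4 LD2_c45 LD3_c23) Lrfl Lrfl
theorem f208923 : Led Lsl_bt (LP (LK LD1_c7 LD2_c21 LD3_c5)) = (LP (LK LD1_c3 LD2_c40 LD3_c27)) :=
  Lre_b IH (LK LD1_c7 LD2_c21 LD3_c5) (LK LD1_c3 LD2_c40 LD3_c27) Lrfl Lrfl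
theorem f141113 : Led Lsl_bt (LP (LK LD1_c1 LD2_c7 LD3_c60)) = (LP (LK LD1_c0 LD2_c31 LD3_c20)) :=
  Lre_b IH (LK LD1_c1 LD2_c7 LD3_c60) (LK LD1_c0 LD2_c31 LD3_c20) Lrfl Lrfl
theorem f527845 : Led Lsl_ct (LP (LK LD1_c7 LD2_c21 LD3_c5)) = (LP (LK LD1_c4 LD2_c45 LD3_c23)) :=
  Lgr Lrot10 (Lpr_bt (f208923 IH) (Lpr_gt (K48.f107294 IH) (Lpr_ct (K46.f129251 IH) (Lpq (K46.f527842 IH) (Lpe (K46.f509489 IH) (Lpe (K46.f414624 IH) (Lpr_bt (K35.f414623 IH) (Lpr_gt (K0.f23218 IH) (Lpe (f141113 IH) (Lpr_ct (f98990 IH) (Lpr_gt (f98987 IH) (Lpn (LP (LK LD1_c4 LD2_c45 LD3_c23))))))))))))))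
theorem f209076 : Led Lsl_ct (LP (LK LD1_c1 LD2_c31 LD3_c45)) = (LP (LK LD1_c3 LD2_c10 LD3_c44)) :=
  Lre_c IH (LK LD1_c1 LD2_c31 LD3_c45) (LK LD1_c3 LD2_c10 LD3_c44) Lrfl Lrfl
def v5588 : LQ := Led Lsl_gt (LP (LK LD1_c3 LD2_c10 LD3_c44))
theorem f648401 : Led Lsl_gt (LP (LK LD1_c3 LD2_c10 LD3_c44)) = v5588 :=
  Lrfl
theorem f668866 : Led Lsl_cf v5588 = v7884 :=
  Lgr Lrot58 (Lpe (f648401 IH) (Lpe (f209076 IH) (Lpe (K35.f209074 IH) (Lpe (K48.f107294 IH) (Lpe (f208923 IH) (Lpr_ct (f527845 IH) (Lpe (f98987 IH) (Lpe (f98990 IH) (Lpr_gf (f495019 IH) (Lpr_bf (f668865 IH) (Lpn v7884)))))))))))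
theorem f672489 : Led Lsl_gt v5588 = v8851 :=
  Lgr Lrot65 (Lpr_cf (f668866 IH) (Lpe (f668865 IH) (Lpe (f495016 IH) (Lpe (f414292 IH) (Lpr_ct (f113044 IH) (Lpe (K46.f443304 IH) (Lpr_cf (K46.f650534 IH) (Lpr_gf (K46.f651367 IH) (Lpe (K48.f527793 IH) (Lpr_ct (f672484 IH) (Lpn v8851)))))))))))
theorem f674003 : Led Lsl_ff v7905 = v5588 :=
  Lgr Lrot52 (Lpr_at (f674002 IH) (Lpr_gf (f672494 IH) (Lpe (f672489 IH) (Lpn v5588))))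
theorem f668935 : Led Lsl_cf v1354 = v7905 :=
  Lgr Lrot11 (Lpr_ct (f668934 IH) (Lpn v7905))
theorem f495070 : Led Lsl_bf (LP (LK LD1_c1 LD2_c7 LD3_c59)) = v1354 :=
  Lgr Lrot24 (Lpr_bt (f495069 IH) (Lpn v1354))
theorem f668899 : Led Lsl_ff v1354 = v7895 :=
  Lgr Lrot25 (Lpe (f495070 IH) (Lpr_ft (K35.f495048 IH) (Lpr_bt (f668897 IH) (Lpn v7895))))
theorem f668900 : Led Lsl_ft v1354 = v7895 :=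
  Lgr Lrot48 (Lpr_ff (f668899 IH) (Lpn v7895))
theorem f674005 : v7895 = v7884 :=
  (Llr Lrot4 (Lpe (f668900 IH) (Lpr_cf (f668935 IH) (Lpr_ff (f674003 IH) (Lpr_cf (f668866 IH) (Lpn v7884)))))).symm
theorem f674006 : K35.v1351 = v1348 :=
  Lefun (Lecon (Lfl_bf (f668898 IH)) (f674005 IH)) (Lfl_bf (f668865 IH))
theorem f674013 : (LP (LK LD1_c1 LD2_c7 LD3_c59)) = v4407 :=
  Lefun (Lecon (Lfl_ff (K35.f495051 IH)) (f674006 IH)) (f633188 IH)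
theorem f674015 : Led Lsl_at (LP (LK LD1_c2 LD2_c20 LD3_c49)) = (LP (LK LD1_c1 LD2_c7 LD3_c59)) :=
  Leop (Lpqs (f674013 IH) (Lpe (f633186 IH) (Lpn (LP (LK LD1_c2 LD2_c20 LD3_c49)))))
theorem seed_543 : LEOK LG_a (LK LD1_c2 LD2_c20 LD3_c49) :=
  Leoe_a (LK LD1_c2 LD2_c20 LD3_c49) (f674015 IH)
def v1352 : LQ := Led Lsl_dt (LP (LK LD1_c1 LD2_c7 LD3_c58))
def v7901 : LQ := Led Lsl_ft v1352
theorem f668919 : Led Lsl_ft v1352 = v7901 :=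
  Lrfl
theorem f668922 : Led Lsl_ff v1352 = v7901 :=
  Lgr Lrot3 (Lpr_ft (f668919 IH) (Lpn v7901))
def v7896 : LQ := Led Lsl_dt K35.v1351
theorem f668901 : Led Lsl_dt K35.v1351 = v7896 :=
  Lrfl
theorem f668903 : Led Lsl_df K35.v1351 = v7896 :=
  Lgr Lrot38 (Lpr_dt (f668901 IH) (Lpn v7896))
theorem f495054 : Led Lsl_dt (LP (LK LD1_c1 LD2_c7 LD3_c58)) = v1352 :=
  Lrfl
theorem f668906 : Led Lsl_at v1352 = v7896 :=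
  Lgr Lrot51 (Lpe (f495054 IH) (Lpr_af (K35.f495045 IH) (Lpr_df (f668903 IH) (Lpn v7896))))
def v1355 : LQ := Led Lsl_dt (LP (LK LD1_c1 LD2_c7 LD3_c59))
theorem f495075 : Led Lsl_dt (LP (LK LD1_c1 LD2_c7 LD3_c59)) = v1355 :=
  Lrfl
theorem f495076 : Led Lsl_df (LP (LK LD1_c1 LD2_c7 LD3_c59)) = v1355 :=
  Lgr Lrot38 (Lpr_dt (f495075 IH) (Lpn v1355))
theorem f668904 : Led Lsl_ff v1355 = v7896 :=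
  Lgr Lrot19 (Lpe (f495076 IH) (Lpr_ft (K35.f495048 IH) (Lpr_dt (f668901 IH) (Lpn v7896))))
theorem f668924 : Led Lsl_at v1355 = v7901 :=
  Lgr Lrot66 (Lpr_ff (f668904 IH) (Lpe (f668906 IH) (Lpr_ff (f668922 IH) (Lpn v7901))))
theorem f103354 : Led Lsl_dt (LP (LK LD1_c1 LD2_c5 LD3_c39)) = (LP (LK LD1_c0 LD2_c31 LD3_c9)) :=
  Lre_d IH (LK LD1_c1 LD2_c5 LD3_c39) (LK LD1_c0 LD2_c31 LD3_c9) Lrfl Lrfl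
theorem f58764 : Led Lsl_et (LP (LK LD1_c1 LD2_c5 LD3_c39)) = (LP (LK LD1_c0 LD2_c30 LD3_c0)) :=
  Lre_e IH (LK LD1_c1 LD2_c5 LD3_c39) (LK LD1_c0 LD2_c30 LD3_c0) Lrfl Lrfl
theorem f103475 : Led Lsl_et (LP (LK LD1_c0 LD2_c31 LD3_c5)) = (LP (LK LD1_c1 LD2_c7 LD3_c45)) :=
  Lre_e IH (LK LD1_c0 LD2_c31 LD3_c5) (LK LD1_c1 LD2_c7 LD3_c45) Lrfl Lrfl
theorem f495090 : Led Lsl_ef v1348 = v1355 :=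
  Lgr Lrot17 (Lpe (f495016 IH) (Lpe (f103475 IH) (Lpr_dt (K0.f13696 IH) (Lpr_gf (K3.f103467 IH) (Lpe (K4.f104144 IH) (Lpe (K2.f23924 IH) (Lpe (f58764 IH) (Lpr_dt (f103354 IH) (Lpe (K35.f140007 IH) (Lpr_df (f495076 IH) (Lpn v1355)))))))))))
theorem f495091 : Led Lsl_et v1348 = v1355 :=
  Lgr Lrot87 (Lpr_ef (f495090 IH) (Lpn v1355))
def v4409 : LQ := Led Lsl_ft (LP (LK LD1_c2 LD2_c20 LD3_c49))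
theorem f633228 : Led Lsl_ft (LP (LK LD1_c2 LD2_c20 LD3_c49)) = v4409 :=
  Lrfl
theorem f633229 : Led Lsl_af v1348 = v4409 :=
  Lgr Lrot45 (Lpr_ft (f633188 IH) (Lpe (f633187 IH) (Lpr_ft (f633228 IH) (Lpn v4409))))
theorem f668926 : Led Lsl_ef v4409 = v7901 :=
  Lgr Lrot20 (Lpe (f633229 IH) (Lpr_et (f495091 IH) (Lpr_at (f668924 IH) (Lpn v7901))))
theorem f633230 : Led Lsl_ff (LP (LK LD1_c2 LD2_c20 LD3_c49)) = v4409 :=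
  Lgr Lrot3 (Lpr_ft (f633228 IH) (Lpn v4409))
theorem f98968 : Led Lsl_et (LP (LK LD1_c2 LD2_c20 LD3_c49)) = (LP (LK LD1_c4 LD2_c45 LD3_c27)) :=
  Lre_e IH (LK LD1_c2 LD2_c20 LD3_c49) (LK LD1_c4 LD2_c45 LD3_c27) Lrfl Lrfl
def v7900 : LQ := Led Lsl_et v1352
theorem f668912 : Led Lsl_et v1352 = v7900 :=
  Lrfl
theorem f668914 : Led Lsl_ef v1352 = v7900 :=
  Lgr Lrot88 (Lpr_et (f668912 IH) (Lpn v7900))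
theorem f668928 : Led Lsl_ft (LP (LK LD1_c4 LD2_c45 LD3_c27)) = v7900 :=
  Lgr Lrot86 (Lpe (f98968 IH) (Lpr_ff (f633230 IH) (Lpr_ef (f668926 IH) (Lpe (f668919 IH) (Lpr_ef (f668914 IH) (Lpn v7900))))))
theorem f668929 : Led Lsl_ff (LP (LK LD1_c4 LD2_c45 LD3_c27)) = v7900 :=
  Lgr Lrot3 (Lpr_ft (f668928 IH) (Lpn v7900))
theorem f495055 : Led Lsl_df (LP (LK LD1_c1 LD2_c7 LD3_c58)) = v1352 :=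
  Lgr Lrot38 (Lpr_dt (f495054 IH) (Lpn v1352))
theorem f99094 : Led Lsl_et (LP (LK LD1_c1 LD2_c7 LD3_c36)) = (LP (LK LD1_c0 LD2_c30 LD3_c61)) :=
  Lre_e IH (LK LD1_c1 LD2_c7 LD3_c36) (LK LD1_c0 LD2_c30 LD3_c61) Lrfl Lrfl
theorem f99105 : Led Lsl_dt (LP (LK LD1_c1 LD2_c7 LD3_c36)) = (LP (LK LD1_c1 LD2_c7 LD3_c36)) :=
  Lgr Lrot77 (Lpe (K7.f99104 IH) (Lpe (K3.f98846 IH) (Lpr_ef (K3.f99095 IH) (Lpe (K3.f13799 IH) (Lpe (f99094 IH) (Lpn (LP (LK LD1_c1 LD2_c7 LD3_c36))))))))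
theorem f103342 : Led Lsl_at (LP (LK LD1_c2 LD2_c17 LD3_c19)) = (LP (LK LD1_c1 LD2_c7 LD3_c36)) :=
  Lgr Lrot100 (Lpr_af (K7.f103340 IH) (Lpn (LP (LK LD1_c1 LD2_c7 LD3_c36))))
theorem f103346 : Led Lsl_dt (LP (LK LD1_c2 LD2_c17 LD3_c19)) = (LP (LK LD1_c2 LD2_c17 LD3_c19)) :=
  Lgr Lrot44 (Lpr_af (K7.f103340 IH) (Lpe (f99105 IH) (Lpe (f103342 IH) (Lpn (LP (LK LD1_c2 LD2_c17 LD3_c19))))))
theorem f103348 : Led Lsl_gt (LP (LK LD1_c4 LD2_c40 LD3_c29)) = (LP (LK LD1_c2 LD2_c17 LD3_c19)) :=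
  Lre_g IH (LK LD1_c4 LD2_c40 LD3_c29) (LK LD1_c2 LD2_c17 LD3_c19) Lrfl Lrfl
theorem f78236 : Led Lsl_gt (LP (LK LD1_c1 LD2_c7 LD3_c48)) = (LP (LK LD1_c2 LD2_c20 LD3_c58)) :=
  Lre_g IH (LK LD1_c1 LD2_c7 LD3_c48) (LK LD1_c2 LD2_c20 LD3_c58) Lrfl Lrfl
theorem f78496 : Led Lsl_et (LP (LK LD1_c4 LD2_c45 LD3_c52)) = (LP (LK LD1_c2 LD2_c20 LD3_c58)) :=
  Lre_e IH (LK LD1_c4 LD2_c45 LD3_c52) (LK LD1_c2 LD2_c20 LD3_c58) Lrfl Lrfl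
theorem f103352 : Led Lsl_dt (LP (LK LD1_c4 LD2_c45 LD3_c52)) = (LP (LK LD1_c4 LD2_c40 LD3_c29)) :=
  Lgr Lrot136 (Lpr_et (f78496 IH) (Lpe (f78236 IH) (Lpe (K3.f78231 IH) (Lpr_dt (K3.f78204 IH) (Lpe (K2.f13664 IH) (Lpe (K1.f13657 IH) (Lpe (K3.f13665 IH) (Lpe (K7.f78497 IH) (Lpr_dt (f103346 IH) (Lpe (f103348 IH) (Lpn (LP (LK LD1_c4 LD2_c40 LD3_c29)))))))))))))
theorem f668915 : Led Lsl_gf (LP (LK LD1_c4 LD2_c45 LD3_c52)) = v7900 :=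
  Lgr Lrot138 (Lpr_dt (f103352 IH) (Lpr_gt (f103348 IH) (Lpe (f103346 IH) (Lpr_et (K7.f78497 IH) (Lpr_gt (K3.f13665 IH) (Lpe (f58764 IH) (Lpr_dt (f103354 IH) (Lpr_gt (K35.f76948 IH) (Lpr_df (f495055 IH) (Lpr_et (f668912 IH) (Lpn v7900)))))))))))
def v4444 : LQ := Led Lsl_at (LP (LK LD1_c2 LD2_c21 LD3_c33))
theorem f633418 : Led Lsl_at (LP (LK LD1_c2 LD2_c21 LD3_c33)) = v4444 :=
  Lrfl
theorem f495053 : Led Lsl_et (LP (LK LD1_c1 LD2_c7 LD3_c59)) = (LP (LK LD1_c2 LD2_c21 LD3_c33)) :=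
  Lre_e IH (LK LD1_c1 LD2_c7 LD3_c59) (LK LD1_c2 LD2_c21 LD3_c33) Lrfl Lrfl
theorem f633420 : Led Lsl_ef v1353 = v4444 :=
  Lgr Lrot20 (Lpe (f495064 IH) (Lpr_et (f495053 IH) (Lpr_at (f633418 IH) (Lpn v4444))))
theorem f633421 : Led Lsl_et v1353 = v4444 :=
  Lgr Lrot87 (Lpr_ef (f633420 IH) (Lpn v4444))
def v7893 : LQ := Led Lsl_gt K35.v1351
theorem f668893 : Led Lsl_gt K35.v1351 = v7893 :=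
  Lrfl
theorem f495068 : Led Lsl_at (LP (LK LD1_c1 LD2_c7 LD3_c59)) = v1353 :=
  Lgr Lrot66 (Lpr_ff (K35.f495051 IH) (Lpe (K35.f495044 IH) (Lpr_ff (f495065 IH) (Lpn v1353))))
theorem f668894 : Led Lsl_gf v1353 = v7893 :=
  Lgr Lrot76 (Lpe (f495068 IH) (Lpr_ff (K35.f495051 IH) (Lpr_gt (f668893 IH) (Lpn v7893))))
theorem f674007 : v7893 = (LP (LK LD1_c1 LD2_c7 LD3_c60)) :=
  Lefun (Lecon (f668893 IH) (f674006 IH)) (Lfl_gf (f495019 IH))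
theorem f674014 : v1353 = (LP (LK LD1_c2 LD2_c20 LD3_c49)) :=
  Lefun (Lecon (Lfl_gf (f668894 IH)) (f674007 IH)) (K35.f98978 IH)
theorem f674029 : v4444 = (LP (LK LD1_c4 LD2_c45 LD3_c27)) :=
  Lefun (Lecon (f633421 IH) (f674014 IH)) (f98968 IH)
theorem f633419 : Led Lsl_af (LP (LK LD1_c2 LD2_c21 LD3_c33)) = v4444 :=
  Lgr Lrot0 (Lpr_at (f633418 IH) (Lpn v4444))
def v4443 : LQ := Led Lsl_gf (LP (LK LD1_c2 LD2_c21 LD3_c33))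
theorem f633415 : Led Lsl_gf (LP (LK LD1_c2 LD2_c21 LD3_c33)) = v4443 :=
  Lrfl
theorem f674033 : (LP (LK LD1_c4 LD2_c45 LD3_c52)) = v4443 :=
  (Llr Lrot5 (Lpr_gf (f668915 IH) (Lpe (f668929 IH) (Lpq (f674029 IH) (Lpe (f633419 IH) (Lpr_gf (f633415 IH) (Lpn v4443))))))).symm
theorem f674034 : Led Lsl_gt (LP (LK LD1_c4 LD2_c45 LD3_c52)) = (LP (LK LD1_c2 LD2_c21 LD3_c33)) :=
  Leop (Lpr_gf (f633415 IH) (Lpq (f674033 IH) (Lpn (LP (LK LD1_c4 LD2_c45 LD3_c52)))))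
theorem seed_544 : LEOK LG_g (LK LD1_c4 LD2_c45 LD3_c52) :=
  Leoe_g (LK LD1_c4 LD2_c45 LD3_c52) (f674034 IH)
def v2514 : LQ := Led Lsl_gt (LP (LK LD1_c1 LD2_c47 LD3_c11))
def v9201 : LQ := Led Lsl_et v2514
theorem f674233 : Led Lsl_et v2514 = v9201 :=
  Lrfl
theorem f674235 : Led Lsl_ef v2514 = v9201 :=
  Lgr Lrot88 (Lpr_et (f674233 IH) (Lpn v9201))
theorem f523713 : Led Lsl_gt (LP (LK LD1_c1 LD2_c47 LD3_c11)) = v2514 :=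
  Lrfl
def v587 : LQ := Led Lsl_dt (LP (LK LD1_c0 LD2_c46 LD3_c19))
theorem f455043 : Led Lsl_dt (LP (LK LD1_c0 LD2_c46 LD3_c19)) = v587 :=
  Lrfl
theorem f455046 : Led Lsl_df (LP (LK LD1_c0 LD2_c46 LD3_c19)) = v587 :=
  Lgr Lrot38 (Lpr_dt (f455043 IH) (Lpn v587))
theorem f147779 : Led Lsl_ct (LP (LK LD1_c0 LD2_c10 LD3_c22)) = (LP (LK LD1_c0 LD2_c23 LD3_c0)) :=
  Lre_c IH (LK LD1_c0 LD2_c10 LD3_c22) (LK LD1_c0 LD2_c23 LD3_c0) Lrfl Lrfl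
theorem f146868 : Led Lsl_ct (LP (LK LD1_c1 LD2_c39 LD3_c11)) = (LP (LK LD1_c1 LD2_c33 LD3_c36)) :=
  Lgr Lrot7 (Lpe (K5.f12108 IH) (Lpe (K6.f84704 IH) (Lpe (K11.f144159 IH) (Lpe (K4.f124108 IH) (Lpe (K5.f124131 IH) (Lpe (K5.f124129 IH) (Lpr_dt (K6.f124138 IH) (Lpr_gt (K6.f146861 IH) (Lpr_dt (K7.f146850 IH) (Lpn (LP (LK LD1_c1 LD2_c33 LD3_c36))))))))))))
theorem f148443 : Led Lsl_gf (LP (LK LD1_c0 LD2_c10 LD3_c22)) = (LP (LK LD1_c0 LD2_c10 LD3_c15)) :=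
  Lgr Lrot104 (Lpr_ct (f147779 IH) (Lpe (K7.f147776 IH) (Lpe (K8.f148440 IH) (Lpr_gf (K7.f148435 IH) (Lpe (f146868 IH) (Lpe (K5.f128325 IH) (Lpe (K5.f107287 IH) (Lpr_gt (K4.f12569 IH) (Lpr_ct (K4.f12419 IH) (Lpn (LP (LK LD1_c0 LD2_c10 LD3_c15))))))))))))
theorem f147745 : Led Lsl_dt (LP (LK LD1_c0 LD2_c10 LD3_c22)) = (LP (LK LD1_c0 LD2_c23 LD3_c1)) :=
  Lre_d IH (LK LD1_c0 LD2_c10 LD3_c22) (LK LD1_c0 LD2_c23 LD3_c1) Lrfl Lrfl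
theorem f129097 : Led Lsl_dt (LP (LK LD1_c1 LD2_c33 LD3_c6)) = (LP (LK LD1_c0 LD2_c46 LD3_c2)) :=
  Lgr Lrot42 (Lpr_df (K5.f129093 IH) (Lpn (LP (LK LD1_c0 LD2_c46 LD3_c2))))
theorem f455048 : Led Lsl_gf (LP (LK LD1_c1 LD2_c33 LD3_c6)) = v587 :=
  Lgr Lrot143 (Lpr_dt (f129097 IH) (Lpe (K2.f84643 IH) (Lpr_df (K3.f109394 IH) (Lpe (K7.f147739 IH) (Lpe (f147745 IH) (Lpr_gf (f148443 IH) (Lpe (K4.f12419 IH) (Lpr_gt (K3.f12341 IH) (Lpr_dt (f455043 IH) (Lpn v587))))))))))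
theorem f109367 : Led Lsl_et (LP (LK LD1_c3 LD2_c25 LD3_c0)) = (LP (LK LD1_c1 LD2_c38 LD3_c58)) :=
  Lre_e IH (LK LD1_c3 LD2_c25 LD3_c0) (LK LD1_c1 LD2_c38 LD3_c58) Lrfl Lrfl
theorem f68504 : Led Lsl_et (LP (LK LD1_c1 LD2_c33 LD3_c6)) = (LP (LK LD1_c3 LD2_c13 LD3_c20)) :=
  Lre_e IH (LK LD1_c1 LD2_c33 LD3_c6) (LK LD1_c3 LD2_c13 LD3_c20) Lrfl Lrfl
theorem f209045 : Led Lsl_at (LP (LK LD1_c1 LD2_c38 LD3_c58)) = (LP (LK LD1_c1 LD2_c33 LD3_c6)) :=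
  Lgr Lrot80 (Lpe (f109367 IH) (Lpr_af (K48.f209035 IH) (Lpe (f68504 IH) (Lpn (LP (LK LD1_c1 LD2_c33 LD3_c6))))))
theorem f148062 : Led Lsl_ct (LP (LK LD1_c1 LD2_c38 LD3_c58)) = (LP (LK LD1_c1 LD2_c48 LD3_c44)) :=
  Lgr Lrot59 (Lpr_cf (K7.f148056 IH) (Lpn (LP (LK LD1_c1 LD2_c48 LD3_c44))))
theorem f146851 : Led Lsl_cf (LP (LK LD1_c1 LD2_c39 LD3_c11)) = (LP (LK LD1_c1 LD2_c33 LD3_c36)) :=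
  Lgr Lrot55 (Lpr_dt (K5.f12109 IH) (Lpr_ct (K2.f84636 IH) (Lpe (K6.f128323 IH) (Lpr_ct (K6.f12574 IH) (Lpr_dt (K4.f12588 IH) (Lpe (K6.f129267 IH) (Lpr_dt (K7.f68471 IH) (Lpr_ct (K7.f68464 IH) (Lpr_dt (f129097 IH) (Lpr_ct (K2.f84591 IH) (Lpr_dt (K3.f108793 IH) (Lpr_ct (K3.f108818 IH) (Lpr_dt (K6.f116054 IH) (Lpr_ct (K6.f146842 IH) (Lpr_dt (K7.f146850 IH) (Lpn (LP (LK LD1_c1 LD2_c33 LD3_c36))))))))))))))))))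
theorem f148622 : Led Lsl_ff (LP (LK LD1_c1 LD2_c38 LD3_c58)) = (LP (LK LD1_c1 LD2_c39 LD3_c11)) :=
  Lgr Lrot23 (Lpr_ct (f148062 IH) (Lpr_ft (K7.f148614 IH) (Lpe (f146851 IH) (Lpn (LP (LK LD1_c1 LD2_c39 LD3_c11))))))
theorem f455049 : Led Lsl_gt (LP (LK LD1_c1 LD2_c39 LD3_c11)) = v587 :=
  Lgr Lrot5 (Lpe (f148622 IH) (Lpr_at (f209045 IH) (Lpr_gf (f455048 IH) (Lpn v587))))
def v2541 : LQ := Led Lsl_gf (LP (LK LD1_c1 LD2_c48 LD3_c3))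
theorem f527257 : Led Lsl_gf (LP (LK LD1_c1 LD2_c48 LD3_c3)) = v2541 :=
  Lrfl
theorem f674237 : Led Lsl_df v2541 = v9201 :=
  Lgr Lrot170 (Lpe (f527257 IH) (Lpr_df (K34.f209049 IH) (Lpr_et (K34.f128330 IH) (Lpr_gt (f455049 IH) (Lpe (f455046 IH) (Lpr_gt (K3.f107558 IH) (Lpe (K4.f107288 IH) (Lpr_et (K34.f107293 IH) (Lpr_gt (f523713 IH) (Lpr_ef (f674235 IH) (Lpn v9201)))))))))))
theorem f124756 : Led Lsl_af (LP (LK LD1_c1 LD2_c33 LD3_c25)) = (LP (LK LD1_c1 LD2_c47 LD3_c8)) :=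
  Lgr Lrot68 (Lpr_ct (K1.f23701 IH) (Lpr_at (K5.f124753 IH) (Lpe (K5.f107330 IH) (Lpn (LP (LK LD1_c1 LD2_c47 LD3_c8))))))
theorem f94652 : Led Lsl_et (LP (LK LD1_c1 LD2_c33 LD3_c25)) = (LP (LK LD1_c3 LD2_c13 LD3_c44)) :=
  Lre_e IH (LK LD1_c1 LD2_c33 LD3_c25) (LK LD1_c3 LD2_c13 LD3_c44) Lrfl Lrfl
theorem f523710 : Led Lsl_at (LP (LK LD1_c3 LD2_c13 LD3_c44)) = v2513 :=
  Lgr Lrot80 (Lpe (f94652 IH) (Lpr_af (f124756 IH) (Lpr_ef (f523709 IH) (Lpn v2513))))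
def v5812 : LQ := Led Lsl_ft (LP (LK LD1_c3 LD2_c13 LD3_c44))
theorem f649540 : Led Lsl_ft (LP (LK LD1_c3 LD2_c13 LD3_c44)) = v5812 :=
  Lrfl
theorem f649542 : Led Lsl_ff (LP (LK LD1_c3 LD2_c13 LD3_c44)) = v5812 :=
  Lgr Lrot3 (Lpr_ft (f649540 IH) (Lpn v5812))
theorem f673980 : Led Lsl_gt v5812 = v9198 :=
  Lgr Lrot5 (Lpe (f649542 IH) (Lpr_at (f523710 IH) (Lpr_gf (f673979 IH) (Lpn v9198))))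
theorem f139732 : Led Lsl_bt (LP (LK LD1_c3 LD2_c13 LD3_c44)) = (LP (LK LD1_c1 LD2_c33 LD3_c27)) :=
  Lre_b IH (LK LD1_c3 LD2_c13 LD3_c44) (LK LD1_c1 LD2_c33 LD3_c27) Lrfl Lrfl
theorem f649543 : Led Lsl_bt K48.v2009 = v5812 :=
  Lgr Lrot35 (Lpe (K48.f506864 IH) (Lpe (f139732 IH) (Lpr_ff (f649542 IH) (Lpn v5812))))
def v4501 : LQ := Led Lsl_bt (LP (LK LD1_c2 LD2_c22 LD3_c42))
theorem f634258 : Led Lsl_bt (LP (LK LD1_c2 LD2_c22 LD3_c42)) = v4501 :=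
  Lrfl
theorem f662744 : v5812 = v4501 :=
  Lefun (Lecon (f649543 IH) (K48.f662736 IH)) (f634258 IH)
theorem f446275 : Led Lsl_ct (LP (LK LD1_c2 LD2_c22 LD3_c42)) = (LP (LK LD1_c4 LD2_c49 LD3_c57)) :=
  Lre_c IH (LK LD1_c2 LD2_c22 LD3_c42) (LK LD1_c4 LD2_c49 LD3_c57) Lrfl Lrfl
def v5820 : LQ := Led Lsl_ft (LP (LK LD1_c3 LD2_c13 LD3_c47))
theorem f649571 : Led Lsl_ft (LP (LK LD1_c3 LD2_c13 LD3_c47)) = v5820 :=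
  Lrfl
theorem f649573 : Led Lsl_ff (LP (LK LD1_c3 LD2_c13 LD3_c47)) = v5820 :=
  Lgr Lrot3 (Lpr_ft (f649571 IH) (Lpn v5820))
theorem f129288 : Led Lsl_ct (LP (LK LD1_c3 LD2_c13 LD3_c47)) = (LP (LK LD1_c1 LD2_c33 LD3_c27)) :=
  Lre_c IH (LK LD1_c3 LD2_c13 LD3_c47) (LK LD1_c1 LD2_c33 LD3_c27) Lrfl Lrfl
theorem f649574 : Led Lsl_ct K48.v2009 = v5820 :=
  Lgr Lrot40 (Lpe (K48.f506864 IH) (Lpe (f129288 IH) (Lpr_ff (f649573 IH) (Lpn v5820))))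
theorem f662745 : v5820 = (LP (LK LD1_c4 LD2_c49 LD3_c57)) :=
  Lefun (Lecon (f649574 IH) (K48.f662736 IH)) (f446275 IH)
def v7236 : LQ := Led Lsl_ft (LP (LK LD1_c3 LD2_c43 LD3_c0))
theorem f662599 : Led Lsl_ft (LP (LK LD1_c3 LD2_c43 LD3_c0)) = v7236 :=
  Lrfl
def v7233 : LQ := Led Lsl_gt (LP (LK LD1_c3 LD2_c43 LD3_c0))
theorem f662592 : Led Lsl_gt (LP (LK LD1_c3 LD2_c43 LD3_c0)) = v7233 :=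
  Lrfl
theorem f662600 : Led Lsl_af v5820 = v7236 :=
  Lgr Lrot45 (Lpe (f649573 IH) (Lpe (K5.f129286 IH) (Lpr_ft (f662599 IH) (Lpn v7236))))
theorem f662604 : Led Lsl_gt v7233 = v5820 :=
  Lgr Lrot46 (Lpe (f662592 IH) (Lpr_ft (f662599 IH) (Lpe (f662600 IH) (Lpn v5820))))
theorem f673990 : Led Lsl_cf v7233 = v2514 :=
  Lgr Lrot125 (Lpr_gt (f662604 IH) (Lpqs (f662745 IH) (Lpe (f446275 IH) (Lpr_bt (f634258 IH) (Lpq (f662744 IH) (Lpr_gt (f673980 IH) (Lpe (f673985 IH) (Lpr_ct (f673987 IH) (Lpe (f648402 IH) (Lpe (f209076 IH) (Lpe (K35.f209074 IH) (Lpr_gt (f523713 IH) (Lpn v2514)))))))))))))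
theorem f76896 : Led Lsl_bt (LP (LK LD1_c1 LD2_c37 LD3_c40)) = (LP (LK LD1_c3 LD2_c22 LD3_c44)) :=
  Lre_b IH (LK LD1_c1 LD2_c37 LD3_c40) (LK LD1_c3 LD2_c22 LD3_c44) Lrfl Lrfl
def v6482 : LQ := Led Lsl_gt (LP (LK LD1_c3 LD2_c22 LD3_c35))
theorem f653585 : Led Lsl_gt (LP (LK LD1_c3 LD2_c22 LD3_c35)) = v6482 :=
  Lrfl
theorem f76848 : Led Lsl_ft (LP (LK LD1_c3 LD2_c22 LD3_c35)) = (LP (LK LD1_c6 LD2_c48 LD3_c60)) :=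
  Lre_f IH (LK LD1_c3 LD2_c22 LD3_c35) (LK LD1_c6 LD2_c48 LD3_c60) Lrfl Lrfl
theorem f653586 : Led Lsl_gf (LP (LK LD1_c3 LD2_c22 LD3_c44)) = v6482 :=
  Lgr Lrot76 (Lpe (K2.f76893 IH) (Lpe (f76848 IH) (Lpr_gt (f653585 IH) (Lpn v6482))))
theorem f673993 : Led Lsl_bf v6482 = v2514 :=
  Lgr Lrot156 (Lpe (f653586 IH) (Lpe (f76896 IH) (Lpe (K17.f413671 IH) (Lpr_gt (K17.f414253 IH) (Lpe (K17.f23194 IH) (Lpr_bt (K35.f23190 IH) (Lpq (K48.f662733 IH) (Lpe (K48.f527465 IH) (Lpr_ct (K48.f129292 IH) (Lpr_gt (f662592 IH) (Lpr_cf (f673990 IH) (Lpn v2514))))))))))))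
def v6498 : LQ := Led Lsl_dt (LP (LK LD1_c3 LD2_c22 LD3_c43))
theorem f653647 : Led Lsl_dt (LP (LK LD1_c3 LD2_c22 LD3_c43)) = v6498 :=
  Lrfl
theorem f653648 : Led Lsl_df (LP (LK LD1_c3 LD2_c22 LD3_c43)) = v6498 :=
  Lgr Lrot38 (Lpr_dt (f653647 IH) (Lpn v6498))
theorem f76912 : Led Lsl_gt (LP (LK LD1_c3 LD2_c22 LD3_c43)) = (LP (LK LD1_c1 LD2_c37 LD3_c37)) :=
  Lre_g IH (LK LD1_c3 LD2_c22 LD3_c43) (LK LD1_c1 LD2_c37 LD3_c37) Lrfl Lrfl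
theorem f76466 : Led Lsl_et (LP (LK LD1_c1 LD2_c32 LD3_c47)) = (LP (LK LD1_c0 LD2_c42 LD3_c58)) :=
  Lre_e IH (LK LD1_c1 LD2_c32 LD3_c47) (LK LD1_c0 LD2_c42 LD3_c58) Lrfl Lrfl
theorem f23338 : Led Lsl_dt (LP (LK LD1_c0 LD2_c43 LD3_c50)) = (LP (LK LD1_c0 LD2_c19 LD3_c34)) :=
  Lre_d IH (LK LD1_c0 LD2_c43 LD3_c50) (LK LD1_c0 LD2_c19 LD3_c34) Lrfl Lrfl
theorem f13461 : Led Lsl_dt (LP (LK LD1_c0 LD2_c42 LD3_c45)) = (LP (LK LD1_c1 LD2_c32 LD3_c22)) :=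
  Lre_d IH (LK LD1_c0 LD2_c42 LD3_c45) (LK LD1_c1 LD2_c32 LD3_c22) Lrfl Lrfl
theorem f76455 : Led Lsl_gt (LP (LK LD1_c1 LD2_c32 LD3_c22)) = (LP (LK LD1_c1 LD2_c29 LD3_c18)) :=
  Lgr Lrot9 (Lpe (f13461 IH) (Lpe (K0.f13485 IH) (Lpe (K0.f9746 IH) (Lpr_gt (K0.f13524 IH) (Lpr_ct (K3.f23335 IH) (Lpe (f23338 IH) (Lpe (K3.f23339 IH) (Lpr_gf (K3.f76453 IH) (Lpe (K2.f25121 IH) (Lpn (LP (LK LD1_c1 LD2_c29 LD3_c18))))))))))))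
theorem f76461 : Led Lsl_at (LP (LK LD1_c0 LD2_c41 LD3_c18)) = (LP (LK LD1_c1 LD2_c29 LD3_c18)) :=
  Lre_a IH (LK LD1_c0 LD2_c41 LD3_c18) (LK LD1_c1 LD2_c29 LD3_c18) Lrfl Lrfl
theorem f68308 : Led Lsl_ft (LP (LK LD1_c0 LD2_c42 LD3_c58)) = (LP (LK LD1_c0 LD2_c41 LD3_c18)) :=
  Lgr Lrot75 (Lpe (K4.f61282 IH) (Lpr_ff (K2.f68304 IH) (Lpe (K3.f61766 IH) (Lpn (LP (LK LD1_c0 LD2_c41 LD3_c18))))))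
theorem f76462 : Led Lsl_gf (LP (LK LD1_c1 LD2_c32 LD3_c22)) = (LP (LK LD1_c0 LD2_c42 LD3_c58)) :=
  Lgr Lrot47 (Lpr_gt (f76455 IH) (Lpe (f76461 IH) (Lpe (f68308 IH) (Lpn (LP (LK LD1_c0 LD2_c42 LD3_c58))))))
theorem f13488 : Led Lsl_dt (LP (LK LD1_c1 LD2_c32 LD3_c22)) = (LP (LK LD1_c0 LD2_c42 LD3_c45)) :=
  Lre_d IH (LK LD1_c1 LD2_c32 LD3_c22) (LK LD1_c0 LD2_c42 LD3_c45) Lrfl Lrfl
theorem f13491 : Led Lsl_et (LP (LK LD1_c1 LD2_c37 LD3_c33)) = (LP (LK LD1_c3 LD2_c22 LD3_c35)) :=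
  Lre_e IH (LK LD1_c1 LD2_c37 LD3_c33) (LK LD1_c3 LD2_c22 LD3_c35) Lrfl Lrfl
theorem f653649 : Led Lsl_ef v6482 = v6498 :=
  Lgr Lrot17 (Lpe (f653585 IH) (Lpe (f13491 IH) (Lpr_dt (K2.f9764 IH) (Lpr_gf (K0.f13485 IH) (Lpe (f13488 IH) (Lpr_gf (f76462 IH) (Lpe (f76466 IH) (Lpe (K3.f76898 IH) (Lpe (f76912 IH) (Lpr_df (f653648 IH) (Lpn v6498)))))))))))
theorem f653650 : Led Lsl_et v6482 = v6498 :=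
  Lgr Lrot87 (Lpr_ef (f653649 IH) (Lpn v6498))
theorem f674236 : Led Lsl_bt v6498 = v9201 :=
  Lgr Lrot119 (Lpe (f653650 IH) (Lpr_bf (f673993 IH) (Lpr_ef (f674235 IH) (Lpn v9201))))
def v6496 : LQ := Led Lsl_bt (LP (LK LD1_c3 LD2_c22 LD3_c43))
theorem f653641 : Led Lsl_bt (LP (LK LD1_c3 LD2_c22 LD3_c43)) = v6496 :=
  Lrfl
theorem f653642 : Led Lsl_bf (LP (LK LD1_c3 LD2_c22 LD3_c43)) = v6496 :=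
  Lgr Lrot24 (Lpr_bt (f653641 IH) (Lpn v6496))
theorem f674239 : v2541 = v6496 :=
  (Llr Lrot79 (Lpr_df (f674237 IH) (Lpe (f674236 IH) (Lpe (f653647 IH) (Lpr_bf (f653642 IH) (Lpn v6496)))))).symm
theorem f414094 : Led Lsl_ct (LP (LK LD1_c1 LD2_c36 LD3_c52)) = (LP (LK LD1_c3 LD2_c21 LD3_c13)) :=
  Lre_c IH (LK LD1_c1 LD2_c36 LD3_c52) (LK LD1_c3 LD2_c21 LD3_c13) Lrfl Lrfl
def v6382 : LQ := Led Lsl_gt (LP (LK LD1_c3 LD2_c21 LD3_c13))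
theorem f653131 : Led Lsl_gt (LP (LK LD1_c3 LD2_c21 LD3_c13)) = v6382 :=
  Lrfl
theorem f653643 : Led Lsl_cf v6382 = v6496 :=
  Lgr Lrot58 (Lpe (f653131 IH) (Lpe (f414094 IH) (Lpq (K46.f651563 IH) (Lpe (K48.f651559 IH) (Lpr_gf (K46.f650554 IH) (Lpe (K46.f650556 IH) (Lpr_ct (K46.f651498 IH) (Lpe (K46.f651508 IH) (Lpe (K46.f76903 IH) (Lpe (f76912 IH) (Lpr_bf (f653642 IH) (Lpn v6496))))))))))))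
def v6387 : LQ := Led Lsl_ft (LP (LK LD1_c3 LD2_c21 LD3_c13))
theorem f653148 : Led Lsl_ft (LP (LK LD1_c3 LD2_c21 LD3_c13)) = v6387 :=
  Lrfl
def v6384 : LQ := Led Lsl_at (LP (LK LD1_c3 LD2_c21 LD3_c13))
theorem f653135 : Led Lsl_at (LP (LK LD1_c3 LD2_c21 LD3_c13)) = v6384 :=
  Lrfl
theorem f653136 : Led Lsl_af (LP (LK LD1_c3 LD2_c21 LD3_c13)) = v6384 :=
  Lgr Lrot0 (Lpr_at (f653135 IH) (Lpn v6384))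
theorem f653137 : Led Lsl_cf K46.v2171 = v6384 :=
  Lgr Lrot1 (Lpe (K46.f509461 IH) (Lpr_ct (f414094 IH) (Lpr_at (f653135 IH) (Lpn v6384))))
theorem f509463 : Led Lsl_ff K46.v560 = K46.v2171 :=
  Lgr Lrot3 (Lpr_ft (K46.f509462 IH) (Lpn K46.v2171))
def v3196 : LQ := Led Lsl_ct K46.v560
theorem f624590 : Led Lsl_ct K46.v560 = v3196 :=
  Lrfl
theorem f653139 : Led Lsl_ft v3196 = v6384 :=
  Lgr Lrot4 (Lpe (f624590 IH) (Lpr_ff (f509463 IH) (Lpr_cf (f653137 IH) (Lpn v6384))))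
theorem f653149 : Led Lsl_af v3196 = v6387 :=
  Lgr Lrot45 (Lpr_ft (f653139 IH) (Lpe (f653136 IH) (Lpr_ft (f653148 IH) (Lpn v6387))))
theorem f653152 : Led Lsl_gt v6382 = v3196 :=
  Lgr Lrot46 (Lpe (f653131 IH) (Lpr_ft (f653148 IH) (Lpe (f653149 IH) (Lpn v3196))))
def v5818 : LQ := Led Lsl_gf (LP (LK LD1_c3 LD2_c13 LD3_c47))
theorem f649568 : Led Lsl_gf (LP (LK LD1_c3 LD2_c13 LD3_c47)) = v5818 :=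
  Lrfl
theorem f662785 : K46.v560 = (LP (LK LD1_c1 LD2_c33 LD3_c27)) :=
  Lefun (Lecon (Lfl_df (K46.f624593 IH)) (K48.f662780 IH)) (K48.f209496 IH)
theorem f662812 : v3196 = (LP (LK LD1_c3 LD2_c13 LD3_c47)) :=
  Lefun (Lecon (f624590 IH) (f662785 IH)) (K5.f129285 IH)
theorem f662836 : v6382 = v5818 :=
  Lefun (Lecon (Lfl_gt (f653152 IH)) (f662812 IH)) (f649568 IH)
theorem f209498 : Led Lsl_ct (LP (LK LD1_c3 LD2_c43 LD3_c18)) = (LP (LK LD1_c1 LD2_c48 LD3_c43)) :=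
  Lre_c IH (LK LD1_c3 LD2_c43 LD3_c18) (LK LD1_c1 LD2_c48 LD3_c43) Lrfl Lrfl
theorem f209502 : Led Lsl_gt (LP (LK LD1_c7 LD2_c27 LD3_c14)) = (LP (LK LD1_c3 LD2_c43 LD3_c18)) :=
  Lre_g IH (LK LD1_c7 LD2_c27 LD3_c14) (LK LD1_c3 LD2_c43 LD3_c18) Lrfl Lrfl
theorem f413475 : Led Lsl_ct (LP (LK LD1_c3 LD2_c2 LD3_c43)) = (LP (LK LD1_c6 LD2_c12 LD3_c18)) :=
  Lre_c IH (LK LD1_c3 LD2_c2 LD3_c43) (LK LD1_c6 LD2_c12 LD3_c18) Lrfl Lrfl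
theorem f649726 : Led Lsl_ff (LP (LK LD1_c3 LD2_c13 LD3_c57)) = K46.v5834 :=
  Lgr Lrot3 (Lpr_ft (K46.f649722 IH) (Lpn K46.v5834))
theorem f649730 : Led Lsl_ct K48.v2013 = K46.v5834 :=
  Lgr Lrot40 (Lpe (K48.f506886 IH) (Lpe (K24.f207472 IH) (Lpr_ff (f649726 IH) (Lpn K46.v5834))))
theorem f662816 : K46.v5834 = (LP (LK LD1_c6 LD2_c12 LD3_c18)) :=
  Lefun (Lecon (f649730 IH) (K48.f662787 IH)) (f413475 IH)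
theorem f147532 : Led Lsl_et (LP (LK LD1_c1 LD2_c33 LD3_c31)) = (LP (LK LD1_c3 LD2_c13 LD3_c57)) :=
  Lre_e IH (LK LD1_c1 LD2_c33 LD3_c31) (LK LD1_c3 LD2_c13 LD3_c57) Lrfl Lrfl
theorem f148116 : Led Lsl_et (LP (LK LD1_c3 LD2_c43 LD3_c18)) = (LP (LK LD1_c1 LD2_c48 LD3_c42)) :=
  Lre_e IH (LK LD1_c3 LD2_c43 LD3_c18) (LK LD1_c1 LD2_c48 LD3_c42) Lrfl Lrfl
theorem f209337 : Led Lsl_at (LP (LK LD1_c3 LD2_c13 LD3_c57)) = (LP (LK LD1_c3 LD2_c43 LD3_c18)) :=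
  Lgr Lrot80 (Lpe (f147532 IH) (Lpr_af (K11.f209335 IH) (Lpe (f148116 IH) (Lpn (LP (LK LD1_c3 LD2_c43 LD3_c18))))))
theorem f649732 : Led Lsl_gf (LP (LK LD1_c7 LD2_c27 LD3_c14)) = K46.v5834 :=
  Lgr Lrot47 (Lpr_gt (f209502 IH) (Lpe (f209337 IH) (Lpr_ff (f649726 IH) (Lpn K46.v5834))))
theorem f61606 : Led Lsl_gt (LP (LK LD1_c3 LD2_c12 LD3_c40)) = (LP (LK LD1_c1 LD2_c32 LD3_c47)) :=
  Lre_g IH (LK LD1_c3 LD2_c12 LD3_c40) (LK LD1_c1 LD2_c32 LD3_c47) Lrfl Lrfl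
theorem f61607 : Led Lsl_bt (LP (LK LD1_c6 LD2_c29 LD3_c31)) = (LP (LK LD1_c3 LD2_c12 LD3_c40)) :=
  Lre_b IH (LK LD1_c6 LD2_c29 LD3_c31) (LK LD1_c3 LD2_c12 LD3_c40) Lrfl Lrfl
theorem f663160 : Led Lsl_cf (LP (LK LD1_c7 LD2_c27 LD3_c14)) = (LP (LK LD1_c6 LD2_c29 LD3_c31)) :=
  Lgr Lrot58 (Lpr_gf (f649732 IH) (Lpqs (f662816 IH) (Lpe (f413475 IH) (Lpr_bt (K48.f646821 IH) (Lpq (K48.f662815 IH) (Lpe (K48.f649709 IH) (Lpr_bf (K48.f663157 IH) (Lpe (K48.f663159 IH) (Lpe (K48.f61517 IH) (Lpe (K9.f61421 IH) (Lpe (f61606 IH) (Lpe (f61607 IH) (Lpn (LP (LK LD1_c6 LD2_c29 LD3_c31)))))))))))))))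
theorem f125567 : Led Lsl_ft (LP (LK LD1_c3 LD2_c40 LD3_c28)) = (LP (LK LD1_c1 LD2_c47 LD3_c11)) :=
  Lre_f IH (LK LD1_c3 LD2_c40 LD3_c28) (LK LD1_c1 LD2_c47 LD3_c11) Lrfl Lrfl
theorem f527258 : Led Lsl_gt (LP (LK LD1_c3 LD2_c40 LD3_c28)) = v2541 :=
  Lgr Lrot5 (Lpr_ft (f125567 IH) (Lpe (K35.f209047 IH) (Lpr_gf (f527257 IH) (Lpn v2541))))
def v6661 : LQ := Led Lsl_gf (LP (LK LD1_c3 LD2_c25 LD3_c15))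
theorem f657526 : Led Lsl_gf (LP (LK LD1_c3 LD2_c25 LD3_c15)) = v6661 :=
  Lrfl
theorem f657527 : Led Lsl_gt (LP (LK LD1_c6 LD2_c25 LD3_c37)) = v6661 :=
  Lgr Lrot5 (Lpr_ft (K46.f208916 IH) (Lpr_at (K34.f208995 IH) (Lpr_gf (f657526 IH) (Lpn v6661))))
theorem f674240 : (LP (LK LD1_c6 LD2_c29 LD3_c31)) = v6661 :=
  (Llr Lrot169 (Lpe (f663160 IH) (Lpr_gt (f209502 IH) (Lpr_ct (f209498 IH) (Lpe (K48.f148095 IH) (Lpe (f129288 IH) (Lpr_gf (f649568 IH) (Lpq (f662836 IH) (Lpr_cf (f653643 IH) (Lpq (f674239 IH) (Lpe (f527258 IH) (Lpe (K48.f209065 IH) (Lpr_gt (f657527 IH) (Lpn v6661)))))))))))))).symm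
theorem f674241 : Led Lsl_gt (LP (LK LD1_c6 LD2_c29 LD3_c31)) = (LP (LK LD1_c3 LD2_c25 LD3_c15)) :=
  Leop (Lpr_gf (f657526 IH) (Lpq (f674240 IH) (Lpn (LP (LK LD1_c6 LD2_c29 LD3_c31)))))
theorem seed_545 : LEOK LG_g (LK LD1_c6 LD2_c29 LD3_c31) :=
  Leoe_g (LK LD1_c6 LD2_c29 LD3_c31) (f674241 IH)
theorem f649137 : Led Lsl_bt (LP (LK LD1_c3 LD2_c12 LD3_c40)) = (LP (LK LD1_c6 LD2_c29 LD3_c31)) :=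
  Lre_b IH (LK LD1_c3 LD2_c12 LD3_c40) (LK LD1_c6 LD2_c29 LD3_c31) Lrfl Lrfl
theorem f67003 : Led Lsl_ct (LP (LK LD1_c3 LD2_c12 LD3_c40)) = (LP (LK LD1_c6 LD2_c29 LD3_c32)) :=
  Lre_c IH (LK LD1_c3 LD2_c12 LD3_c40) (LK LD1_c6 LD2_c29 LD3_c32) Lrfl Lrfl
theorem f209010 : Led Lsl_bt (LP (LK LD1_c1 LD2_c49 LD3_c50)) = (LP (LK LD1_c3 LD2_c25 LD3_c15)) :=
  Lgr Lrot127 (Lpr_bf (K34.f208999 IH) (Lpn (LP (LK LD1_c3 LD2_c25 LD3_c15))))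
theorem f414642 : Led Lsl_gt (LP (LK LD1_c3 LD2_c2 LD3_c15)) = (LP (LK LD1_c6 LD2_c11 LD3_c16)) :=
  Lre_g IH (LK LD1_c3 LD2_c2 LD3_c15) (LK LD1_c6 LD2_c11 LD3_c16) Lrfl Lrfl
theorem f414648 : Led Lsl_ct (LP (LK LD1_c6 LD2_c11 LD3_c16)) = (LP (LK LD1_c12 LD2_c2 LD3_c50)) :=
  Lre_c IH (LK LD1_c6 LD2_c11 LD3_c16) (LK LD1_c12 LD2_c2 LD3_c50) Lrfl Lrfl
theorem f674248 : Led Lsl_gf (LP (LK LD1_c6 LD2_c29 LD3_c32)) = (LP (LK LD1_c12 LD2_c2 LD3_c50)) :=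
  Lgr Lrot129 (Lpe (f67003 IH) (Lpr_bt (f649137 IH) (Lpqs (f674240 IH) (Lpe (f657526 IH) (Lpe (f209010 IH) (Lpr_ct (K48.f130883 IH) (Lpqs (K46.f646618 IH) (Lpe (K46.f646608 IH) (Lpe (K46.f414638 IH) (Lpr_bt (K48.f502896 IH) (Lpr_gt (f414642 IH) (Lpr_ct (f414648 IH) (Lpn (LP (LK LD1_c12 LD2_c2 LD3_c50)))))))))))))))
def v4248 : LQ := Led Lsl_at (LP (LK LD1_c2 LD2_c17 LD3_c34))
theorem f632187 : Led Lsl_at (LP (LK LD1_c2 LD2_c17 LD3_c34)) = v4248 :=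
  Lrfl
theorem f413665 : Led Lsl_bt (LP (LK LD1_c1 LD2_c5 LD3_c42)) = (LP (LK LD1_c2 LD2_c17 LD3_c34)) :=
  Lre_b IH (LK LD1_c1 LD2_c5 LD3_c42) (LK LD1_c2 LD2_c17 LD3_c34) Lrfl Lrfl
theorem f632189 : Led Lsl_bf (LP (LK LD1_c3 LD2_c2 LD3_c44)) = v4248 :=
  Lgr Lrot81 (Lpr_at (K48.f453011 IH) (Lpr_bt (K46.f414632 IH) (Lpqs (K32.f503331 IH) (Lpe (K32.f494653 IH) (Lpr_bt (f413665 IH) (Lpr_at (f632187 IH) (Lpn v4248)))))))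
theorem f632199 : Led Lsl_bt (LP (LK LD1_c3 LD2_c2 LD3_c44)) = v4248 :=
  Lgr Lrot127 (Lpr_bf (f632189 IH) (Lpn v4248))
def v1801 : LQ := Led Lsl_ft (LP (LK LD1_c1 LD2_c27 LD3_c23))
theorem f502988 : Led Lsl_ft (LP (LK LD1_c1 LD2_c27 LD3_c23)) = v1801 :=
  Lrfl
theorem f502990 : Led Lsl_ff (LP (LK LD1_c1 LD2_c27 LD3_c23)) = v1801 :=
  Lgr Lrot3 (Lpr_ft (f502988 IH) (Lpn v1801))
theorem f139961 : Led Lsl_bt (LP (LK LD1_c1 LD2_c27 LD3_c23)) = (LP (LK LD1_c0 LD2_c40 LD3_c26)) :=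
  Lre_b IH (LK LD1_c1 LD2_c27 LD3_c23) (LK LD1_c0 LD2_c40 LD3_c26) Lrfl Lrfl
theorem f502991 : Led Lsl_bt K32.v461 = v1801 :=
  Lgr Lrot35 (Lpe (K32.f453013 IH) (Lpe (f139961 IH) (Lpr_ff (f502990 IH) (Lpn v1801))))
theorem f503334 : v1801 = (LP (LK LD1_c2 LD2_c17 LD3_c34)) :=
  Lefun (Lecon (f502991 IH) (K32.f503330 IH)) (f413665 IH)
theorem f453021 : Led Lsl_at (LP (LK LD1_c3 LD2_c2 LD3_c57)) = (LP (LK LD1_c1 LD2_c27 LD3_c23)) :=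
  Lre_a IH (LK LD1_c3 LD2_c2 LD3_c57) (LK LD1_c1 LD2_c27 LD3_c23) Lrfl Lrfl
theorem f632190 : Led Lsl_ff (LP (LK LD1_c3 LD2_c2 LD3_c57)) = v4248 :=
  Lgr Lrot30 (Lpr_at (f453021 IH) (Lpr_ft (f502988 IH) (Lpqs (f503334 IH) (Lpr_at (f632187 IH) (Lpn v4248)))))
theorem f139944 : Led Lsl_gt (LP (LK LD1_c3 LD2_c2 LD3_c56)) = (LP (LK LD1_c1 LD2_c27 LD3_c23)) :=
  Lre_g IH (LK LD1_c3 LD2_c2 LD3_c56) (LK LD1_c1 LD2_c27 LD3_c23) Lrfl Lrfl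
theorem f632193 : Led Lsl_gf (LP (LK LD1_c3 LD2_c2 LD3_c56)) = v4248 :=
  Lgr Lrot47 (Lpr_gt (f139944 IH) (Lpe (f453021 IH) (Lpr_ff (f632190 IH) (Lpn v4248))))
def v5275 : LQ := Led Lsl_bt (LP (LK LD1_c3 LD2_c2 LD3_c56))
theorem f646874 : Led Lsl_bt (LP (LK LD1_c3 LD2_c2 LD3_c56)) = v5275 :=
  Lrfl
theorem f646875 : Led Lsl_bf (LP (LK LD1_c3 LD2_c2 LD3_c56)) = v5275 :=
  Lgr Lrot24 (Lpr_bt (f646874 IH) (Lpn v5275))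
theorem f674250 : (LP (LK LD1_c6 LD2_c11 LD3_c16)) = v5275 :=
  (Llr Lrot160 (Lpr_ct (f414648 IH) (Lpe (f674248 IH) (Lpe (f67003 IH) (Lpr_bt (f649137 IH) (Lpqs (f674240 IH) (Lpe (f657526 IH) (Lpe (K48.f209089 IH) (Lpr_gt (K48.f646836 IH) (Lpe (K48.f646832 IH) (Lpr_bt (f632199 IH) (Lpe (f632193 IH) (Lpr_bf (f646875 IH) (Lpn v5275)))))))))))))).symm
theorem f674251 : Led Lsl_bt (LP (LK LD1_c6 LD2_c11 LD3_c16)) = (LP (LK LD1_c3 LD2_c2 LD3_c56)) :=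
  Leop (Lpr_bf (f646875 IH) (Lpq (f674250 IH) (Lpn (LP (LK LD1_c6 LD2_c11 LD3_c16)))))
theorem seed_546 : LEOK LG_b (LK LD1_c6 LD2_c11 LD3_c16) :=
  Leoe_b (LK LD1_c6 LD2_c11 LD3_c16) (f674251 IH)
def v2192 : LQ := Led Lsl_dt (LP (LK LD1_c1 LD2_c37 LD3_c4))
theorem f509548 : Led Lsl_dt (LP (LK LD1_c1 LD2_c37 LD3_c4)) = v2192 :=
  Lrfl
def v2095 : LQ := Led Lsl_gt (LP (LK LD1_c1 LD2_c35 LD3_c39))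
def v8569 : LQ := Led Lsl_dt v2095
theorem f671623 : Led Lsl_dt v2095 = v8569 :=
  Lrfl
def v2191 : LQ := Led Lsl_bt (LP (LK LD1_c1 LD2_c37 LD3_c4))
theorem f509545 : Led Lsl_bt (LP (LK LD1_c1 LD2_c37 LD3_c4)) = v2191 :=
  Lrfl
theorem f453900 : Led Lsl_bt (LP (LK LD1_c0 LD2_c44 LD3_c23)) = (LP (LK LD1_c1 LD2_c35 LD3_c39)) :=
  Lre_b IH (LK LD1_c0 LD2_c44 LD3_c23) (LK LD1_c1 LD2_c35 LD3_c39) Lrfl Lrfl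
theorem f508828 : Led Lsl_gt (LP (LK LD1_c1 LD2_c35 LD3_c39)) = v2095 :=
  Lrfl
theorem f653976 : v2191 = v2095 :=
  (Llr Lrot92 (Lpe (f509545 IH) (Lpr_ct (K46.f495171 IH) (Lpr_gt (K46.f653340 IH) (Lpe (K46.f653975 IH) (Lpr_bt (K46.f653974 IH) (Lpr_gt (K46.f651366 IH) (Lpr_ct (K46.f104096 IH) (Lpqs (K32.f508871 IH) (Lpe (K32.f508852 IH) (Lpe (K32.f414627 IH) (Lpr_bt (f453900 IH) (Lpr_gt (f508828 IH) (Lpn v2095)))))))))))))).symm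
theorem f509549 : Led Lsl_df (LP (LK LD1_c1 LD2_c37 LD3_c4)) = v2192 :=
  Lgr Lrot38 (Lpr_dt (f509548 IH) (Lpn v2192))
theorem f671624 : Led Lsl_bf v2192 = v8569 :=
  Lgr Lrot93 (Lpe (f509549 IH) (Lpr_bt (f509545 IH) (Lpqs (f653976 IH) (Lpr_dt (f671623 IH) (Lpn v8569)))))
theorem f61604 : Led Lsl_ct (LP (LK LD1_c3 LD2_c12 LD3_c39)) = (LP (LK LD1_c6 LD2_c29 LD3_c29)) :=
  Lre_c IH (LK LD1_c3 LD2_c12 LD3_c39) (LK LD1_c6 LD2_c29 LD3_c29) Lrfl Lrfl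
theorem f674260 : Led Lsl_gf (LP (LK LD1_c12 LD2_c2 LD3_c50)) = (LP (LK LD1_c6 LD2_c29 LD3_c29)) :=
  Lgr Lrot129 (Lpe (f414648 IH) (Lpqs (f674250 IH) (Lpe (f646875 IH) (Lpr_gt (f139944 IH) (Lpe (K48.f139943 IH) (Lpr_ct (K9.f59839 IH) (Lpr_gt (K9.f139920 IH) (Lpe (K2.f61426 IH) (Lpr_bt (K9.f61420 IH) (Lpr_gt (K9.f61435 IH) (Lpr_ct (f61604 IH) (Lpn (LP (LK LD1_c6 LD2_c29 LD3_c29))))))))))))))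
theorem f414649 : Led Lsl_ct (LP (LK LD1_c12 LD2_c2 LD3_c50)) = (LP (LK LD1_c6 LD2_c11 LD3_c16)) :=
  Lre_c IH (LK LD1_c12 LD2_c2 LD3_c50) (LK LD1_c6 LD2_c11 LD3_c16) Lrfl Lrfl
theorem f73757 : Led Lsl_bt (LP (LK LD1_c0 LD2_c45 LD3_c12)) = (LP (LK LD1_c1 LD2_c37 LD3_c37)) :=
  Lre_b IH (LK LD1_c0 LD2_c45 LD3_c12) (LK LD1_c1 LD2_c37 LD3_c37) Lrfl Lrfl
theorem f73758 : Led Lsl_df (LP (LK LD1_c1 LD2_c32 LD3_c47)) = (LP (LK LD1_c1 LD2_c37 LD3_c37)) :=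
  Lgr Lrot12 (Lpr_bt (K9.f61507 IH) (Lpr_dt (K2.f73751 IH) (Lpr_bt (f73757 IH) (Lpn (LP (LK LD1_c1 LD2_c37 LD3_c37))))))
theorem f76909 : Led Lsl_gt (LP (LK LD1_c1 LD2_c37 LD3_c37)) = (LP (LK LD1_c3 LD2_c22 LD3_c42)) :=
  Lre_g IH (LK LD1_c1 LD2_c37 LD3_c37) (LK LD1_c3 LD2_c22 LD3_c42) Lrfl Lrfl
def v6492 : LQ := Led Lsl_ct (LP (LK LD1_c3 LD2_c22 LD3_c42))
theorem f653629 : Led Lsl_ct (LP (LK LD1_c3 LD2_c22 LD3_c42)) = v6492 :=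
  Lrfl
def v8568 : LQ := Led Lsl_ct v2095
theorem f671620 : Led Lsl_ct v2095 = v8568 :=
  Lrfl
theorem f509546 : Led Lsl_bf (LP (LK LD1_c1 LD2_c37 LD3_c4)) = v2191 :=
  Lgr Lrot24 (Lpr_bt (f509545 IH) (Lpn v2191))
theorem f671622 : Led Lsl_gt v6492 = v8568 :=
  Lgr Lrot149 (Lpe (f653629 IH) (Lpe (f76909 IH) (Lpe (f73757 IH) (Lpr_ct (K2.f73760 IH) (Lpe (K17.f139933 IH) (Lpe (K17.f139932 IH) (Lpr_bt (K46.f141118 IH) (Lpe (K46.f141119 IH) (Lpr_bf (f509546 IH) (Lpqs (f653976 IH) (Lpr_ct (f671620 IH) (Lpn v8568))))))))))))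
theorem f671621 : Led Lsl_cf v2095 = v8568 :=
  Lgr Lrot11 (Lpr_ct (f671620 IH) (Lpn v8568))
theorem f671625 : Led Lsl_df v2095 = v8569 :=
  Lgr Lrot38 (Lpr_dt (f671623 IH) (Lpn v8569))
theorem f674263 : (LP (LK LD1_c6 LD2_c11 LD3_c16)) = v8569 :=
  (Llr Lrot110 (Lpe (f414649 IH) (Lpr_gf (f674260 IH) (Lpe (f61604 IH) (Lpe (K9.f61435 IH) (Lpr_df (f73758 IH) (Lpr_gt (f76909 IH) (Lpr_ct (f653629 IH) (Lpr_gt (f671622 IH) (Lpe (f671621 IH) (Lpr_df (f671625 IH) (Lpn v8569)))))))))))).symm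
theorem f674264 : v2192 = (LP (LK LD1_c3 LD2_c2 LD3_c56)) :=
  Lefun (Lecon (Lfl_bf (f671624 IH)) ((f674263 IH).symm.trans (f674250 IH))) (Lfl_bf (f646875 IH))
theorem f674270 : Led Lsl_dt (LP (LK LD1_c1 LD2_c37 LD3_c4)) = (LP (LK LD1_c3 LD2_c2 LD3_c56)) :=
  Leop (Lpq (f674264 IH) (Lpe (f509548 IH) (Lpn (LP (LK LD1_c1 LD2_c37 LD3_c4)))))
theorem seed_547 : LEOK LG_d (LK LD1_c1 LD2_c37 LD3_c4) :=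
  Leoe_d (LK LD1_c1 LD2_c37 LD3_c4) (f674270 IH)
def v2523 : LQ := Led Lsl_dt (LP (LK LD1_c1 LD2_c47 LD3_c31))
def v9205 : LQ := Led Lsl_ct v2523
theorem f674299 : Led Lsl_ct v2523 = v9205 :=
  Lrfl
theorem f523771 : Led Lsl_dt (LP (LK LD1_c1 LD2_c47 LD3_c31)) = v2523 :=
  Lrfl
theorem f523773 : Led Lsl_ff K29.v771 = v2523 :=
  Lgr Lrot19 (Lpe (K29.f457156 IH) (Lpr_ft (K28.f439194 IH) (Lpr_dt (f523771 IH) (Lpn v2523))))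
theorem f523774 : Led Lsl_ft K29.v771 = v2523 :=
  Lgr Lrot48 (Lpr_ff (f523773 IH) (Lpn v2523))
def v3373 : LQ := Led Lsl_ct K29.v771
theorem f625362 : Led Lsl_ct K29.v771 = v3373 :=
  Lrfl
theorem f625364 : Led Lsl_cf K29.v771 = v3373 :=
  Lgr Lrot11 (Lpr_ct (f625362 IH) (Lpn v3373))
theorem f674303 : Led Lsl_ff v3373 = v9205 :=
  Lgr Lrot23 (Lpe (f625364 IH) (Lpr_ft (f523774 IH) (Lpr_ct (f674299 IH) (Lpn v9205))))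
theorem f131668 : Led Lsl_et (LP (LK LD1_c1 LD2_c38 LD3_c60)) = (LP (LK LD1_c1 LD2_c48 LD3_c56)) :=
  Lgr Lrot71 (Lpe (K5.f17719 IH) (Lpe (K0.f17697 IH) (Lpr_df (K5.f131652 IH) (Lpe (K5.f131666 IH) (Lpe (K29.f131667 IH) (Lpn (LP (LK LD1_c1 LD2_c48 LD3_c56))))))))
theorem f457158 : Led Lsl_at (LP (LK LD1_c1 LD2_c48 LD3_c56)) = K29.v771 :=
  Lgr Lrot80 (Lpe (f131668 IH) (Lpe (K5.f124935 IH) (Lpr_ef (K29.f457157 IH) (Lpn K29.v771))))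
theorem f131935 : Led Lsl_ct (LP (LK LD1_c3 LD2_c43 LD3_c45)) = (LP (LK LD1_c1 LD2_c48 LD3_c56)) :=
  Lre_c IH (LK LD1_c3 LD2_c43 LD3_c45) (LK LD1_c1 LD2_c48 LD3_c56) Lrfl Lrfl
theorem f625363 : Led Lsl_af (LP (LK LD1_c3 LD2_c43 LD3_c45)) = v3373 :=
  Lgr Lrot68 (Lpr_ct (f131935 IH) (Lpr_at (f457158 IH) (Lpr_ct (f625362 IH) (Lpn v3373))))
theorem f131915 : Led Lsl_gt (LP (LK LD1_c7 LD2_c28 LD3_c6)) = (LP (LK LD1_c3 LD2_c43 LD3_c45)) :=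
  Lre_g IH (LK LD1_c7 LD2_c28 LD3_c6) (LK LD1_c3 LD2_c43 LD3_c45) Lrfl Lrfl
theorem f674312 : Led Lsl_gf (LP (LK LD1_c7 LD2_c28 LD3_c6)) = v9205 :=
  Lgr Lrot47 (Lpr_gt (f131915 IH) (Lpr_af (f625363 IH) (Lpr_ff (f674303 IH) (Lpn v9205))))
def v2578 : LQ := Led Lsl_ft (LP (LK LD1_c1 LD2_c48 LD3_c56))
theorem f527579 : Led Lsl_ft (LP (LK LD1_c1 LD2_c48 LD3_c56)) = v2578 :=
  Lrfl
def v2576 : LQ := Led Lsl_gt (LP (LK LD1_c1 LD2_c48 LD3_c56))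
theorem f527556 : Led Lsl_gt (LP (LK LD1_c1 LD2_c48 LD3_c56)) = v2576 :=
  Lrfl
theorem f457155 : Led Lsl_af (LP (LK LD1_c1 LD2_c48 LD3_c56)) = K29.v771 :=
  Lgr Lrot117 (Lpr_dt (K29.f131667 IH) (Lpe (K28.f131705 IH) (Lpr_dt (K29.f457154 IH) (Lpn K29.v771))))
theorem f527580 : Led Lsl_af v2523 = v2578 :=
  Lgr Lrot45 (Lpe (f523773 IH) (Lpe (f457155 IH) (Lpr_ft (f527579 IH) (Lpn v2578))))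
theorem f527584 : Led Lsl_gt v2576 = v2523 :=
  Lgr Lrot46 (Lpe (f527556 IH) (Lpr_ft (f527579 IH) (Lpe (f527580 IH) (Lpn v2523))))
def v3876 : LQ := Led Lsl_at K47.v1092
theorem f627683 : Led Lsl_at K47.v1092 = v3876 :=
  Lrfl
def v3371 : LQ := Led Lsl_gt K29.v771
theorem f625342 : Led Lsl_gt K29.v771 = v3371 :=
  Lrfl
theorem f527583 : Led Lsl_ff (LP (LK LD1_c1 LD2_c48 LD3_c56)) = v2578 :=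
  Lgr Lrot3 (Lpr_ft (f527579 IH) (Lpn v2578))
theorem f527585 : Led Lsl_at v2523 = v2578 :=
  Lgr Lrot66 (Lpe (f523774 IH) (Lpe (f457158 IH) (Lpr_ff (f527583 IH) (Lpn v2578))))
theorem f625343 : Led Lsl_gf v2578 = v3371 :=
  Lgr Lrot76 (Lpe (f527585 IH) (Lpe (f523774 IH) (Lpr_gt (f625342 IH) (Lpn v3371))))
theorem f527581 : Led Lsl_df (LP (LK LD1_c1 LD2_c48 LD3_c57)) = v2578 :=
  Lgr Lrot78 (Lpr_ft (K28.f131731 IH) (Lpr_dt (K5.f131711 IH) (Lpr_ft (f527579 IH) (Lpn v2578))))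
theorem f625344 : Led Lsl_dt K47.v1092 = v3371 :=
  Lgr Lrot57 (Lpr_gf (K47.f527129 IH) (Lpe (K37.f488120 IH) (Lpr_gt (K39.f488118 IH) (Lpr_dt (K39.f524092 IH) (Lpr_gt (K39.f439173 IH) (Lpr_dt (K35.f131726 IH) (Lpe (K28.f131727 IH) (Lpr_df (f527581 IH) (Lpr_gf (f625343 IH) (Lpn v3371))))))))))
theorem f625346 : Led Lsl_df K47.v1092 = v3371 :=
  Lgr Lrot38 (Lpr_dt (f625344 IH) (Lpn v3371))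
theorem f491397 : Led Lsl_ft K34.v919 = K47.v1092 :=
  Lgr Lrot48 (Lpr_ff (K47.f491396 IH) (Lpn K47.v1092))
theorem f527577 : Led Lsl_df K34.v919 = K34.v2577 :=
  Lgr Lrot38 (Lpr_dt (K34.f527560 IH) (Lpn K34.v2577))
theorem f625347 : Led Lsl_ff K34.v2577 = v3371 :=
  Lgr Lrot19 (Lpe (f527577 IH) (Lpr_ft (f491397 IH) (Lpr_dt (f625344 IH) (Lpn v3371))))
theorem f625349 : Led Lsl_ft K34.v2577 = v3371 :=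
  Lgr Lrot48 (Lpr_ff (f625347 IH) (Lpn v3371))
theorem f625350 : Led Lsl_af v2576 = v3371 :=
  Lgr Lrot31 (Lpe (f527556 IH) (Lpr_gf (K34.f527558 IH) (Lpr_ft (f625349 IH) (Lpn v3371))))
theorem f625351 : Led Lsl_at v2576 = v3371 :=
  Lgr Lrot100 (Lpr_af (f625350 IH) (Lpn v3371))
theorem f627686 : Led Lsl_df v2576 = v3876 :=
  Lgr Lrot18 (Lpr_at (f625351 IH) (Lpe (f625346 IH) (Lpr_at (f627683 IH) (Lpn v3876))))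
theorem f627688 : Led Lsl_gt (LP (LK LD1_c3 LD2_c54 LD3_c1)) = v3876 :=
  Lgr Lrot46 (Lpr_gf (K47.f527562 IH) (Lpr_ft (f491397 IH) (Lpr_at (f627683 IH) (Lpn v3876))))
theorem f527025 : Led Lsl_ft (LP (LK LD1_c3 LD2_c54 LD3_c1)) = K34.v2527 :=
  Lgr Lrot48 (Lpr_ff (K34.f527023 IH) (Lpn K34.v2527))
theorem f527021 : Led Lsl_af (LP (LK LD1_c3 LD2_c54 LD3_c44)) = K34.v2527 :=
  Lgr Lrot50 (Lpr_et (K34.f523902 IH) (Lpe (K48.f524170 IH) (Lpr_et (K34.f527020 IH) (Lpn K34.v2527))))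
theorem f627689 : Led Lsl_gf (LP (LK LD1_c3 LD2_c54 LD3_c44)) = v3876 :=
  Lgr Lrot76 (Lpr_af (f527021 IH) (Lpe (f527025 IH) (Lpr_gt (f627688 IH) (Lpn v3876))))
theorem f109122 : Led Lsl_dt (LP (LK LD1_c1 LD2_c42 LD3_c43)) = (LP (LK LD1_c3 LD2_c32 LD3_c5)) :=
  Lre_d IH (LK LD1_c1 LD2_c42 LD3_c43) (LK LD1_c3 LD2_c32 LD3_c5) Lrfl Lrfl
theorem f109123 : Led Lsl_gt (LP (LK LD1_c7 LD2_c5 LD3_c29)) = (LP (LK LD1_c3 LD2_c32 LD3_c5)) :=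
  Lre_g IH (LK LD1_c7 LD2_c5 LD3_c29) (LK LD1_c3 LD2_c32 LD3_c5) Lrfl Lrfl
theorem f109125 : Led Lsl_df (LP (LK LD1_c7 LD2_c5 LD3_c29)) = (LP (LK LD1_c12 LD2_c30 LD3_c20)) :=
  Lgr Lrot170 (Lpr_gt (f109123 IH) (Lpe (f109122 IH) (Lpr_et (K34.f108295 IH) (Lpr_gt (K3.f109118 IH) (Lpr_dt (K4.f104138 IH) (Lpe (K3.f107225 IH) (Lpe (K4.f23654 IH) (Lpr_et (K32.f95889 IH) (Lpr_gt (K28.f95847 IH) (Lpe (K34.f109124 IH) (Lpn (LP (LK LD1_c12 LD2_c30 LD3_c20)))))))))))))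
theorem f441541 : Led Lsl_dt (LP (LK LD1_c7 LD2_c5 LD3_c29)) = (LP (LK LD1_c12 LD2_c30 LD3_c20)) :=
  Lgr Lrot42 (Lpr_df (f109125 IH) (Lpn (LP (LK LD1_c12 LD2_c30 LD3_c20))))
theorem f674313 : Led Lsl_ct (LP (LK LD1_c7 LD2_c28 LD3_c6)) = (LP (LK LD1_c7 LD2_c5 LD3_c29)) :=
  Lgr Lrot110 (Lpr_gf (f674312 IH) (Lpe (f674299 IH) (Lpe (f527584 IH) (Lpr_df (f627686 IH) (Lpe (f627689 IH) (Lpr_ct (K34.f523899 IH) (Lpr_gt (K34.f527563 IH) (Lpe (K34.f470905 IH) (Lpe (f441541 IH) (Lpn (LP (LK LD1_c7 LD2_c5 LD3_c29))))))))))))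
theorem f674314 : Led Lsl_ct (LP (LK LD1_c7 LD2_c28 LD3_c6)) = (LP (LK LD1_c7 LD2_c5 LD3_c29)) :=
  Leop (Lpe (f674313 IH) (Lpn (LP (LK LD1_c7 LD2_c28 LD3_c6))))
theorem seed_548 : LEOK LG_c (LK LD1_c7 LD2_c28 LD3_c6) :=
  Leoe_c (LK LD1_c7 LD2_c28 LD3_c6) (f674314 IH)
def v9210 : LQ := Led Lsl_ct K34.v2533
theorem f674352 : Led Lsl_ct K34.v2533 = v9210 :=
  Lrfl
theorem f625780 : Led Lsl_df K34.v2533 = K48.v3468 :=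
  Lgr Lrot38 (Lpr_dt (K48.f625779 IH) (Lpn K48.v3468))
theorem f490288 : Led Lsl_af K48.v859 = K33.v893 :=
  Lgr Lrot117 (Lpe (K48.f459813 IH) (Lpr_at (K29.f459804 IH) (Lpqs (K29.f478683 IH) (Lpr_dt (K33.f490287 IH) (Lpn K33.v893)))))
def v1064 : LQ := Led Lsl_dt K29.v209
theorem f491217 : Led Lsl_dt K29.v209 = v1064 :=
  Lrfl
theorem f491220 : Led Lsl_ff K33.v893 = v1064 :=
  Lgr Lrot19 (Lpe (K33.f490290 IH) (Lpq (K29.f478683 IH) (Lpe (K29.f459807 IH) (Lpr_dt (f491217 IH) (Lpn v1064)))))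
theorem f625778 : Led Lsl_gt v1064 = K48.v3468 :=
  Lgr Lrot5 (Lpe (f491220 IH) (Lpe (f490288 IH) (Lpr_gf (K48.f625777 IH) (Lpn K48.v3468))))
theorem f89311 : Led Lsl_dt (LP (LK LD1_c1 LD2_c51 LD3_c47)) = (LP (LK LD1_c3 LD2_c49 LD3_c36)) :=
  Lre_d IH (LK LD1_c1 LD2_c51 LD3_c47) (LK LD1_c3 LD2_c49 LD3_c36) Lrfl Lrfl
def v7499 : LQ := Led Lsl_gt (LP (LK LD1_c3 LD2_c49 LD3_c36))
theorem f666123 : Led Lsl_gt (LP (LK LD1_c3 LD2_c49 LD3_c36)) = v7499 :=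
  Lrfl
theorem f674358 : Led Lsl_dt v7499 = v9210 :=
  Lgr Lrot113 (Lpe (f666123 IH) (Lpe (f89311 IH) (Lpe (K33.f87835 IH) (Lpr_ct (K33.f87968 IH) (Lpr_gt (K29.f451097 IH) (Lpr_dt (f491217 IH) (Lpr_gt (f625778 IH) (Lpe (f625780 IH) (Lpr_ct (f674352 IH) (Lpn v9210))))))))))
theorem f530203 : Led Lsl_gt (LP (LK LD1_c22 LD2_c33 LD3_c58)) = (LP (LK LD1_c13 LD2_c18 LD3_c2)) :=
  Lre_g IH (LK LD1_c22 LD2_c33 LD3_c58) (LK LD1_c13 LD2_c18 LD3_c2) Lrfl Lrfl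
theorem f530204 : Led Lsl_dt (LP (LK LD1_c30 LD2_c34 LD3_c59)) = (LP (LK LD1_c22 LD2_c33 LD3_c58)) :=
  Lre_d IH (LK LD1_c30 LD2_c34 LD3_c59) (LK LD1_c22 LD2_c33 LD3_c58) Lrfl Lrfl
def v2626 : LQ := Led Lsl_ft (LP (LK LD1_c1 LD2_c50 LD3_c13))
theorem f527936 : Led Lsl_ft (LP (LK LD1_c1 LD2_c50 LD3_c13)) = v2626 :=
  Lrfl
theorem f527938 : Led Lsl_ff (LP (LK LD1_c1 LD2_c50 LD3_c13)) = v2626 :=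
  Lgr Lrot3 (Lpr_ft (f527936 IH) (Lpn v2626))
theorem f527941 : Led Lsl_gf K34.v2534 = v2626 :=
  Lgr Lrot47 (Lpe (K34.f527201 IH) (Lpe (K29.f466769 IH) (Lpr_ff (f527938 IH) (Lpn v2626))))
theorem f527212 : Led Lsl_ff (LP (LK LD1_c3 LD2_c30 LD3_c46)) = K34.v2533 :=
  Lgr Lrot3 (Lpr_ft (K34.f527211 IH) (Lpn K34.v2533))
theorem f527215 : Led Lsl_at (LP (LK LD1_c3 LD2_c30 LD3_c46)) = K34.v2534 :=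
  Lgr Lrot66 (Lpr_ff (f527212 IH) (Lpe (K34.f527207 IH) (Lpr_ff (K34.f527205 IH) (Lpn K34.v2534))))
theorem f527942 : Led Lsl_gt K34.v2533 = v2626 :=
  Lgr Lrot5 (Lpe (f527212 IH) (Lpr_at (f527215 IH) (Lpr_gf (f527941 IH) (Lpn v2626))))
theorem f530241 : Led Lsl_dt v2626 = K48.v2667 :=
  Lgr Lrot60 (Lpe (f527936 IH) (Lpe (K48.f466768 IH) (Lpr_ff (K48.f530237 IH) (Lpn K48.v2667))))
theorem f530238 : Led Lsl_gt K34.v847 = K48.v2667 :=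
  Lgr Lrot46 (Lpr_gf (K34.f467678 IH) (Lpe (K48.f487774 IH) (Lpr_at (K48.f530233 IH) (Lpn K48.v2667))))
def v2666 : LQ := Led Lsl_gt (LP (LK LD1_c1 LD2_c51 LD3_c53))
theorem f530225 : Led Lsl_gt (LP (LK LD1_c1 LD2_c51 LD3_c53)) = v2666 :=
  Lrfl
theorem f530227 : Led Lsl_gf (LP (LK LD1_c1 LD2_c51 LD3_c54)) = v2666 :=
  Lgr Lrot76 (Lpr_af (K48.f466825 IH) (Lpe (K48.f487770 IH) (Lpr_gt (f530225 IH) (Lpn v2666))))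
theorem f87658 : Led Lsl_ff (LP (LK LD1_c0 LD2_c23 LD3_c40)) = (LP (LK LD1_c0 LD2_c10 LD3_c38)) :=
  Lgr Lrot3 (Lpr_ft (K2.f87620 IH) (Lpn (LP (LK LD1_c0 LD2_c10 LD3_c38))))
theorem f459710 : Led Lsl_ef (LP (LK LD1_c0 LD2_c52 LD3_c35)) = K29.v848 :=
  Lgr Lrot21 (Lpr_ft (K29.f442346 IH) (Lpr_et (K2.f62671 IH) (Lpe (f87658 IH) (Lpr_et (K2.f87619 IH) (Lpr_ft (K29.f459708 IH) (Lpn K29.v848))))))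
theorem f530229 : Led Lsl_dt K29.v848 = v2666 :=
  Lgr Lrot136 (Lpe (f459710 IH) (Lpe (K29.f459679 IH) (Lpqs (K29.f466709 IH) (Lpr_ef (K28.f459372 IH) (Lpe (K29.f459368 IH) (Lpqs (K29.f466752 IH) (Lpe (K29.f451051 IH) (Lpr_df (K29.f440665 IH) (Lpr_gf (K29.f441408 IH) (Lpe (K29.f441412 IH) (Lpr_dt (K5.f87960 IH) (Lpr_gf (f530227 IH) (Lpn v2666)))))))))))))
theorem f530231 : Led Lsl_df K29.v848 = v2666 :=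
  Lgr Lrot38 (Lpr_dt (f530229 IH) (Lpn v2666))
theorem f530232 : Led Lsl_ft K34.v847 = v2666 :=
  Lgr Lrot54 (Lpe (K34.f459700 IH) (Lpr_ff (K29.f459711 IH) (Lpr_df (f530231 IH) (Lpn v2666))))
theorem f459691 : Led Lsl_dt (LP (LK LD1_c1 LD2_c51 LD3_c56)) = (LP (LK LD1_c0 LD2_c52 LD3_c44)) :=
  Lre_d IH (LK LD1_c1 LD2_c51 LD3_c56) (LK LD1_c0 LD2_c52 LD3_c44) Lrfl Lrfl
theorem f530230 : Led Lsl_af (LP (LK LD1_c1 LD2_c51 LD3_c56)) = v2666 :=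
  Lgr Lrot117 (Lpr_dt (f459691 IH) (Lpr_at (K29.f459715 IH) (Lpr_dt (f530229 IH) (Lpn v2666))))
theorem f530239 : Led Lsl_gf (LP (LK LD1_c1 LD2_c51 LD3_c56)) = K48.v2667 :=
  Lgr Lrot76 (Lpr_af (f530230 IH) (Lpe (f530232 IH) (Lpr_gt (f530238 IH) (Lpn K48.v2667))))
theorem f89215 : Led Lsl_dt (LP (LK LD1_c3 LD2_c49 LD3_c43)) = (LP (LK LD1_c1 LD2_c51 LD3_c50)) :=
  Lre_d IH (LK LD1_c3 LD2_c49 LD3_c43) (LK LD1_c1 LD2_c51 LD3_c50) Lrfl Lrfl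
theorem f89226 : Led Lsl_af (LP (LK LD1_c3 LD2_c47 LD3_c14)) = (LP (LK LD1_c1 LD2_c51 LD3_c49)) :=
  Lgr Lrot0 (Lpr_at (K2.f89206 IH) (Lpn (LP (LK LD1_c1 LD2_c51 LD3_c49))))
theorem f442287 : Led Lsl_ft (LP (LK LD1_c3 LD2_c49 LD3_c43)) = (LP (LK LD1_c1 LD2_c51 LD3_c49)) :=
  Lre_f IH (LK LD1_c3 LD2_c49 LD3_c43) (LK LD1_c1 LD2_c51 LD3_c49) Lrfl Lrfl
theorem f442288 : Led Lsl_gf (LP (LK LD1_c7 LD2_c35 LD3_c19)) = (LP (LK LD1_c3 LD2_c49 LD3_c43)) :=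
  Lgr Lrot47 (Lpr_gt (K47.f12066 IH) (Lpr_af (f89226 IH) (Lpe (f442287 IH) (Lpn (LP (LK LD1_c3 LD2_c49 LD3_c43))))))
theorem f517992 : Led Lsl_gf (LP (LK LD1_c3 LD2_c49 LD3_c43)) = (LP (LK LD1_c7 LD2_c35 LD3_c18)) :=
  Lgr Lrot47 (Lpe (f442288 IH) (Lpe (K47.f517988 IH) (Lpr_ff (K47.f517986 IH) (Lpn (LP (LK LD1_c7 LD2_c35 LD3_c18))))))
def v7383 : LQ := Led Lsl_ft (LP (LK LD1_c3 LD2_c46 LD3_c7))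
theorem f664833 : Led Lsl_ft (LP (LK LD1_c3 LD2_c46 LD3_c7)) = v7383 :=
  Lrfl
theorem f664835 : Led Lsl_df (LP (LK LD1_c7 LD2_c35 LD3_c18)) = v7383 :=
  Lgr Lrot78 (Lpe (K47.f517986 IH) (Lpe (K48.f87951 IH) (Lpr_ft (f664833 IH) (Lpn v7383))))
theorem f674357 : Led Lsl_gf v7383 = v9210 :=
  Lgr Lrot148 (Lpe (f664835 IH) (Lpe (f517992 IH) (Lpr_dt (f89215 IH) (Lpr_ct (K29.f89217 IH) (Lpe (f459691 IH) (Lpr_gf (f530239 IH) (Lpe (f530241 IH) (Lpe (f527942 IH) (Lpr_ct (f674352 IH) (Lpn v9210))))))))))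
theorem f664837 : Led Lsl_ff (LP (LK LD1_c3 LD2_c46 LD3_c7)) = v7383 :=
  Lgr Lrot3 (Lpr_ft (f664833 IH) (Lpn v7383))
theorem f664839 : Led Lsl_dt (LP (LK LD1_c7 LD2_c35 LD3_c18)) = v7383 :=
  Lgr Lrot60 (Lpe (K47.f517980 IH) (Lpe (K5.f87940 IH) (Lpr_ff (f664837 IH) (Lpn v7383))))
theorem f517959 : Led Lsl_et (LP (LK LD1_c7 LD2_c35 LD3_c18)) = (LP (LK LD1_c14 LD2_c18 LD3_c26)) :=
  Lre_e IH (LK LD1_c7 LD2_c35 LD3_c18) (LK LD1_c14 LD2_c18 LD3_c26) Lrfl Lrfl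
theorem f520164 : Led Lsl_gt (LP (LK LD1_c14 LD2_c18 LD3_c26)) = (LP (LK LD1_c23 LD2_c56 LD3_c26)) :=
  Lre_g IH (LK LD1_c14 LD2_c18 LD3_c26) (LK LD1_c23 LD2_c56 LD3_c26) Lrfl Lrfl
theorem f674362 : Led Lsl_et (LP (LK LD1_c30 LD2_c34 LD3_c59)) = (LP (LK LD1_c23 LD2_c56 LD3_c26)) :=
  Lgr Lrot122 (Lpr_dt (f530204 IH) (Lpr_gt (f530203 IH) (Lpr_df (K48.f530197 IH) (Lpr_et (K34.f520109 IH) (Lpr_gt (f666123 IH) (Lpr_dt (f674358 IH) (Lpe (f674357 IH) (Lpe (f664839 IH) (Lpr_et (f517959 IH) (Lpr_gt (f520164 IH) (Lpn (LP (LK LD1_c23 LD2_c56 LD3_c26)))))))))))))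
theorem f674363 : Led Lsl_et (LP (LK LD1_c30 LD2_c34 LD3_c59)) = (LP (LK LD1_c23 LD2_c56 LD3_c26)) :=
  Leop (Lpe (f674362 IH) (Lpn (LP (LK LD1_c30 LD2_c34 LD3_c59))))
theorem seed_549 : LEOK LG_e (LK LD1_c30 LD2_c34 LD3_c59) :=
  Leoe_e (LK LD1_c30 LD2_c34 LD3_c59) (f674363 IH)
def v2540 : LQ := Led Lsl_gt (LP (LK LD1_c1 LD2_c48 LD3_c3))
def v9221 : LQ := Led Lsl_at v2540
theorem f674430 : Led Lsl_at v2540 = v9221 :=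
  Lrfl
theorem f674431 : Led Lsl_af v2540 = v9221 :=
  Lgr Lrot0 (Lpr_at (f674430 IH) (Lpn v9221))
theorem f527248 : Led Lsl_gt (LP (LK LD1_c1 LD2_c48 LD3_c3)) = v2540 :=
  Lrfl
theorem f674432 : Led Lsl_ft v2541 = v9221 :=
  Lgr Lrot2 (Lpe (f527257 IH) (Lpr_gt (f527248 IH) (Lpr_af (f674431 IH) (Lpn v9221))))
theorem f674434 : Led Lsl_ff v2541 = v9221 :=
  Lgr Lrot3 (Lpr_ft (f674432 IH) (Lpn v9221))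
def v6491 : LQ := Led Lsl_at (LP (LK LD1_c3 LD2_c22 LD3_c42))
theorem f653625 : Led Lsl_at (LP (LK LD1_c3 LD2_c22 LD3_c42)) = v6491 :=
  Lrfl
theorem f653626 : Led Lsl_af (LP (LK LD1_c3 LD2_c22 LD3_c42)) = v6491 :=
  Lgr Lrot0 (Lpr_at (f653625 IH) (Lpn v6491))
theorem f653627 : Led Lsl_ft (LP (LK LD1_c3 LD2_c22 LD3_c43)) = v6491 :=
  Lgr Lrot2 (Lpr_gt (f76912 IH) (Lpr_gt (f76909 IH) (Lpr_af (f653626 IH) (Lpn v6491))))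
theorem f674435 : Led Lsl_bt v6491 = v9221 :=
  Lgr Lrot35 (Lpe (f653627 IH) (Lpr_bf (f653642 IH) (Lpq (f674239 IH) (Lpr_ff (f674434 IH) (Lpn v9221)))))
theorem f76855 : Led Lsl_bt (LP (LK LD1_c6 LD2_c49 LD3_c6)) = (LP (LK LD1_c3 LD2_c22 LD3_c42)) :=
  Lre_b IH (LK LD1_c6 LD2_c49 LD3_c6) (LK LD1_c3 LD2_c22 LD3_c42) Lrfl Lrfl
theorem f66041 : Led Lsl_bt (LP (LK LD1_c2 LD2_c20 LD3_c50)) = (LP (LK LD1_c1 LD2_c34 LD3_c57)) :=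
  Lre_b IH (LK LD1_c2 LD2_c20 LD3_c50) (LK LD1_c1 LD2_c34 LD3_c57) Lrfl Lrfl
theorem f66042 : Led Lsl_ct (LP (LK LD1_c2 LD2_c20 LD3_c50)) = (LP (LK LD1_c4 LD2_c45 LD3_c25)) :=
  Lre_c IH (LK LD1_c2 LD2_c20 LD3_c50) (LK LD1_c4 LD2_c45 LD3_c25) Lrfl Lrfl
theorem f66043 : Led Lsl_gt (LP (LK LD1_c2 LD2_c21 LD3_c24)) = (LP (LK LD1_c4 LD2_c45 LD3_c25)) :=
  Lre_g IH (LK LD1_c2 LD2_c21 LD3_c24) (LK LD1_c4 LD2_c45 LD3_c25) Lrfl Lrfl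
theorem f66044 : Led Lsl_ct (LP (LK LD1_c4 LD2_c47 LD3_c0)) = (LP (LK LD1_c2 LD2_c21 LD3_c24)) :=
  Lre_c IH (LK LD1_c4 LD2_c47 LD3_c0) (LK LD1_c2 LD2_c21 LD3_c24) Lrfl Lrfl
theorem f527250 : Led Lsl_bt (LP (LK LD1_c4 LD2_c47 LD3_c0)) = v2540 :=
  Lgr Lrot92 (Lpr_ct (f66044 IH) (Lpr_gt (f66043 IH) (Lpe (f66042 IH) (Lpr_bt (f66041 IH) (Lpr_gt (K5.f62083 IH) (Lpr_ct (K5.f66031 IH) (Lpr_gt (K5.f66024 IH) (Lpe (K46.f104096 IH) (Lpe (K6.f26234 IH) (Lpr_gt (f527248 IH) (Lpn v2540)))))))))))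
theorem f527251 : Led Lsl_bf (LP (LK LD1_c4 LD2_c47 LD3_c0)) = v2540 :=
  Lgr Lrot24 (Lpr_bt (f527250 IH) (Lpn v2540))
theorem f674436 : Led Lsl_af (LP (LK LD1_c6 LD2_c49 LD3_c6)) = (LP (LK LD1_c4 LD2_c47 LD3_c0)) :=
  Lgr Lrot36 (Lpr_bt (f76855 IH) (Lpr_at (f653625 IH) (Lpr_bt (f674435 IH) (Lpe (f674431 IH) (Lpe (f527251 IH) (Lpn (LP (LK LD1_c4 LD2_c47 LD3_c0))))))))
theorem f674437 : Led Lsl_at (LP (LK LD1_c4 LD2_c47 LD3_c0)) = (LP (LK LD1_c6 LD2_c49 LD3_c6)) :=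
  Leop (Lpr_af (f674436 IH) (Lpn (LP (LK LD1_c4 LD2_c47 LD3_c0))))
theorem seed_550 : LEOK LG_a (LK LD1_c4 LD2_c47 LD3_c0) :=
  Leoe_a (LK LD1_c4 LD2_c47 LD3_c0) (f674437 IH)
def v2575 : LQ := Led Lsl_ft (LP (LK LD1_c1 LD2_c48 LD3_c49))
def v9290 : LQ := Led Lsl_et v2575
theorem f675032 : Led Lsl_et v2575 = v9290 :=
  Lrfl
theorem f675034 : Led Lsl_ef v2575 = v9290 :=
  Lgr Lrot88 (Lpr_et (f675032 IH) (Lpn v9290))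
theorem f527552 : Led Lsl_ft (LP (LK LD1_c1 LD2_c48 LD3_c49)) = v2575 :=
  Lrfl
def v2571 : LQ := Led Lsl_at (LP (LK LD1_c1 LD2_c48 LD3_c49))
theorem f527542 : Led Lsl_at (LP (LK LD1_c1 LD2_c48 LD3_c49)) = v2571 :=
  Lrfl
theorem f527543 : Led Lsl_af (LP (LK LD1_c1 LD2_c48 LD3_c49)) = v2571 :=
  Lgr Lrot0 (Lpr_at (f527542 IH) (Lpn v2571))
theorem f527544 : Led Lsl_ft K48.v799 = v2571 :=
  Lgr Lrot2 (Lpe (K48.f459450 IH) (Lpr_gt (K48.f134805 IH) (Lpr_af (f527543 IH) (Lpn v2571))))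
theorem f527553 : Led Lsl_af K48.v799 = v2575 :=
  Lgr Lrot45 (Lpr_ft (f527544 IH) (Lpe (f527543 IH) (Lpr_ft (f527552 IH) (Lpn v2575))))
theorem f675035 : Led Lsl_at K48.v3393 = v9290 :=
  Lgr Lrot80 (Lpe (K48.f625476 IH) (Lpr_af (f527553 IH) (Lpr_ef (f675034 IH) (Lpn v9290))))
theorem f662777 : Led Lsl_dt K48.v2180 = K48.v3393 :=
  Lgr Lrot42 (Lpr_df (K48.f662776 IH) (Lpn K48.v3393))
def v6413 : LQ := Led Lsl_ft (LP (LK LD1_c3 LD2_c21 LD3_c22))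
theorem f653250 : Led Lsl_ft (LP (LK LD1_c3 LD2_c21 LD3_c22)) = v6413 :=
  Lrfl
def v6409 : LQ := Led Lsl_at (LP (LK LD1_c3 LD2_c21 LD3_c22))
theorem f653239 : Led Lsl_at (LP (LK LD1_c3 LD2_c21 LD3_c22)) = v6409 :=
  Lrfl
theorem f653240 : Led Lsl_af (LP (LK LD1_c3 LD2_c21 LD3_c22)) = v6409 :=
  Lgr Lrot0 (Lpr_at (f653239 IH) (Lpn v6409))
theorem f413645 : Led Lsl_gt (LP (LK LD1_c1 LD2_c36 LD3_c56)) = (LP (LK LD1_c3 LD2_c21 LD3_c22)) :=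
  Lre_g IH (LK LD1_c1 LD2_c36 LD3_c56) (LK LD1_c3 LD2_c21 LD3_c22) Lrfl Lrfl
theorem f653241 : Led Lsl_ft K48.v2180 = v6409 :=
  Lgr Lrot2 (Lpe (K48.f509497 IH) (Lpr_gt (f413645 IH) (Lpr_af (f653240 IH) (Lpn v6409))))
theorem f653251 : Led Lsl_af K48.v2180 = v6413 :=
  Lgr Lrot45 (Lpr_ft (f653241 IH) (Lpe (f653240 IH) (Lpr_ft (f653250 IH) (Lpn v6413))))
theorem f675036 : Led Lsl_df v6413 = v9290 :=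
  Lgr Lrot18 (Lpe (f653251 IH) (Lpr_dt (f662777 IH) (Lpr_at (f675035 IH) (Lpn v9290))))
theorem f653252 : Led Lsl_ff (LP (LK LD1_c3 LD2_c21 LD3_c22)) = v6413 :=
  Lgr Lrot3 (Lpr_ft (f653250 IH) (Lpn v6413))
def v6411 : LQ := Led Lsl_dt (LP (LK LD1_c3 LD2_c21 LD3_c22))
theorem f653246 : Led Lsl_dt (LP (LK LD1_c3 LD2_c21 LD3_c22)) = v6411 :=
  Lrfl
theorem f675038 : Led Lsl_ft v6411 = v9290 :=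
  Lgr Lrot54 (Lpe (f653246 IH) (Lpr_ff (f653252 IH) (Lpr_df (f675036 IH) (Lpn v9290))))
theorem f527554 : Led Lsl_ff (LP (LK LD1_c1 LD2_c48 LD3_c49)) = v2575 :=
  Lgr Lrot3 (Lpr_ft (f527552 IH) (Lpn v2575))
theorem f527545 : Led Lsl_ff K48.v799 = v2571 :=
  Lgr Lrot3 (Lpr_ft (f527544 IH) (Lpn v2571))
theorem f527555 : Led Lsl_at K48.v799 = v2575 :=
  Lgr Lrot66 (Lpr_ff (f527545 IH) (Lpe (f527542 IH) (Lpr_ff (f527554 IH) (Lpn v2575))))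
theorem f675033 : Led Lsl_af K48.v3393 = v9290 :=
  Lgr Lrot50 (Lpe (K48.f625477 IH) (Lpr_at (f527555 IH) (Lpr_et (f675032 IH) (Lpn v9290))))
theorem f662976 : Led Lsl_at (LP (LK LD1_c6 LD2_c12 LD3_c47)) = (LP (LK LD1_c7 LD2_c27 LD3_c5)) :=
  Lgr Lrot100 (Lpr_af (K48.f662974 IH) (Lpn (LP (LK LD1_c7 LD2_c27 LD3_c5))))
theorem f416591 : Led Lsl_gt (LP (LK LD1_c6 LD2_c17 LD3_c50)) = (LP (LK LD1_c12 LD2_c12 LD3_c1)) :=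
  Lre_g IH (LK LD1_c6 LD2_c17 LD3_c50) (LK LD1_c12 LD2_c12 LD3_c1) Lrfl Lrfl
theorem f663539 : Led Lsl_gt (LP (LK LD1_c12 LD2_c12 LD3_c1)) = (LP (LK LD1_c7 LD2_c27 LD3_c5)) :=
  Lgr Lrot46 (Lpe (f416591 IH) (Lpr_ft (K48.f504335 IH) (Lpr_at (f662976 IH) (Lpn (LP (LK LD1_c7 LD2_c27 LD3_c5))))))
def v5327 : LQ := Led Lsl_gf (LP (LK LD1_c3 LD2_c6 LD3_c6))
theorem f647100 : Led Lsl_gf (LP (LK LD1_c3 LD2_c6 LD3_c6)) = v5327 :=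
  Lrfl
theorem f647107 : Led Lsl_ft K48.v5291 = K48.v5328 :=
  Lgr Lrot48 (Lpr_ff (K48.f647104 IH) (Lpn K48.v5328))
theorem f647102 : Led Lsl_af (LP (LK LD1_c3 LD2_c6 LD3_c6)) = K48.v5328 :=
  Lgr Lrot0 (Lpr_at (K48.f647101 IH) (Lpn K48.v5328))
theorem f647109 : Led Lsl_gt K48.v5291 = v5327 :=
  Lgr Lrot5 (Lpr_ft (f647107 IH) (Lpe (f647102 IH) (Lpr_gf (f647100 IH) (Lpn v5327))))
theorem f209420 : Led Lsl_af (LP (LK LD1_c3 LD2_c14 LD3_c3)) = (LP (LK LD1_c3 LD2_c43 LD3_c15)) :=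
  Lgr Lrot0 (Lpr_at (K46.f209416 IH) (Lpn (LP (LK LD1_c3 LD2_c43 LD3_c15))))
theorem f208774 : Led Lsl_ft (LP (LK LD1_c1 LD2_c48 LD3_c40)) = (LP (LK LD1_c3 LD2_c43 LD3_c15)) :=
  Lre_f IH (LK LD1_c1 LD2_c48 LD3_c40) (LK LD1_c3 LD2_c43 LD3_c15) Lrfl Lrfl
theorem f209505 : Led Lsl_gf (LP (LK LD1_c3 LD2_c14 LD3_c3)) = (LP (LK LD1_c3 LD2_c43 LD3_c13)) :=
  Lgr Lrot76 (Lpr_af (f209420 IH) (Lpe (f208774 IH) (Lpr_gt (K48.f116079 IH) (Lpn (LP (LK LD1_c3 LD2_c43 LD3_c13))))))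
theorem f662981 : v5327 = (LP (LK LD1_c3 LD2_c14 LD3_c3)) :=
  Lefun (Lecon (f647109 IH) (K48.f662980 IH)) (Lfl_gf (f209505 IH))
theorem f209355 : Led Lsl_ft (LP (LK LD1_c3 LD2_c14 LD3_c0)) = (LP (LK LD1_c6 LD2_c31 LD3_c39)) :=
  Lre_f IH (LK LD1_c3 LD2_c14 LD3_c0) (LK LD1_c6 LD2_c31 LD3_c39) Lrfl Lrfl
theorem f209357 : Led Lsl_et (LP (LK LD1_c6 LD2_c31 LD3_c39)) = (LP (LK LD1_c7 LD2_c27 LD3_c16)) :=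
  Lgr Lrot69 (Lpe (f209355 IH) (Lpe (K46.f147457 IH) (Lpr_ff (K36.f209349 IH) (Lpe (f148116 IH) (Lpe (K46.f209356 IH) (Lpn (LP (LK LD1_c7 LD2_c27 LD3_c16))))))))
theorem f209359 : Led Lsl_ct (LP (LK LD1_c3 LD2_c14 LD3_c3)) = (LP (LK LD1_c6 LD2_c31 LD3_c39)) :=
  Lre_c IH (LK LD1_c3 LD2_c14 LD3_c3) (LK LD1_c6 LD2_c31 LD3_c39) Lrfl Lrfl
theorem f209360 : Led Lsl_ct (LP (LK LD1_c7 LD2_c27 LD3_c16)) = (LP (LK LD1_c3 LD2_c43 LD3_c20)) :=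
  Lre_c IH (LK LD1_c7 LD2_c27 LD3_c16) (LK LD1_c3 LD2_c43 LD3_c20) Lrfl Lrfl
theorem f209361 : Led Lsl_ef (LP (LK LD1_c3 LD2_c14 LD3_c3)) = (LP (LK LD1_c3 LD2_c43 LD3_c20)) :=
  Lgr Lrot28 (Lpr_ct (f209359 IH) (Lpr_et (f209357 IH) (Lpr_ct (f209360 IH) (Lpn (LP (LK LD1_c3 LD2_c43 LD3_c20))))))
theorem f506868 : Led Lsl_dt (LP (LK LD1_c3 LD2_c43 LD3_c20)) = K48.v2009 :=
  Lgr Lrot60 (Lpe (K48.f209368 IH) (Lpe (K48.f148095 IH) (Lpr_ff (K48.f506867 IH) (Lpn K48.v2009))))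
theorem f649877 : Led Lsl_et (LP (LK LD1_c6 LD2_c32 LD3_c21)) = (LP (LK LD1_c3 LD2_c14 LD3_c19)) :=
  Lre_e IH (LK LD1_c6 LD2_c32 LD3_c21) (LK LD1_c3 LD2_c14 LD3_c19) Lrfl Lrfl
theorem f663016 : Led Lsl_df (LP (LK LD1_c12 LD2_c12 LD3_c1)) = (LP (LK LD1_c6 LD2_c32 LD3_c21)) :=
  Lgr Lrot132 (Lpe (f416591 IH) (Lpe (K48.f57658 IH) (Lpr_gf (f647100 IH) (Lpqs (f662981 IH) (Lpr_ef (f209361 IH) (Lpr_dt (f506868 IH) (Lpqs (K48.f662736 IH) (Lpe (K48.f454768 IH) (Lpe (K48.f454726 IH) (Lpr_et (K48.f653183 IH) (Lpq (K48.f662762 IH) (Lpe (K46.f506863 IH) (Lpe (f649877 IH) (Lpn (LP (LK LD1_c6 LD2_c32 LD3_c21))))))))))))))))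
def v5864 : LQ := Led Lsl_gf (LP (LK LD1_c3 LD2_c14 LD3_c19))
theorem f649875 : Led Lsl_gf (LP (LK LD1_c3 LD2_c14 LD3_c19)) = v5864 :=
  Lrfl
def v4510 : LQ := Led Lsl_gf (LP (LK LD1_c2 LD2_c22 LD3_c45))
theorem f634310 : Led Lsl_gf (LP (LK LD1_c2 LD2_c22 LD3_c45)) = v4510 :=
  Lrfl
theorem f649884 : Led Lsl_gt (LP (LK LD1_c3 LD2_c14 LD3_c22)) = v5864 :=
  Lgr Lrot5 (Lpr_ft (K46.f649882 IH) (Lpe (K46.f649879 IH) (Lpr_gf (f649875 IH) (Lpn v5864))))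
theorem f653190 : Led Lsl_gf v4510 = K48.v6392 :=
  Lgr Lrot47 (Lpe (f634310 IH) (Lpe (K46.f446252 IH) (Lpr_ff (K48.f653187 IH) (Lpn K48.v6392))))
theorem f662771 : v4510 = (LP (LK LD1_c3 LD2_c14 LD3_c22)) :=
  Lefun (Lecon (Lfl_gf (f653190 IH)) (K48.f662762 IH).symm) (K46.f649890 IH)
theorem f662773 : (LP (LK LD1_c2 LD2_c22 LD3_c45)) = v5864 :=
  Lefun (Lecon (Lfl_gf (f634310 IH)) (f662771 IH)) (f649884 IH)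
theorem f663515 : Led Lsl_bt K48.v5279 = K48.v7248 :=
  Lgr Lrot127 (Lpr_bf (K48.f663513 IH) (Lpn K48.v7248))
theorem f646887 : Led Lsl_df (LP (LK LD1_c3 LD2_c2 LD3_c57)) = K48.v5279 :=
  Lgr Lrot38 (Lpr_dt (K48.f646885 IH) (Lpn K48.v5279))
theorem f646888 : Led Lsl_at K48.v1800 = K48.v5279 :=
  Lgr Lrot51 (Lpe (K48.f502977 IH) (Lpe (f453021 IH) (Lpr_df (f646887 IH) (Lpn K48.v5279))))
theorem f443954 : Led Lsl_bt (LP (LK LD1_c3 LD2_c6 LD3_c4)) = (LP (LK LD1_c1 LD2_c29 LD3_c7)) :=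
  Lre_b IH (LK LD1_c3 LD2_c6 LD3_c4) (LK LD1_c1 LD2_c29 LD3_c7) Lrfl Lrfl
theorem f502984 : Led Lsl_bt (LP (LK LD1_c1 LD2_c27 LD3_c25)) = K48.v1800 :=
  Lgr Lrot119 (Lpr_ef (K29.f443975 IH) (Lpe (f443954 IH) (Lpr_ef (K48.f502981 IH) (Lpn K48.v1800))))
theorem f632225 : Led Lsl_bf (LP (LK LD1_c2 LD2_c17 LD3_c40)) = K48.v4253 :=
  Lgr Lrot93 (Lpr_dt (K24.f20093 IH) (Lpr_bt (K48.f414313 IH) (Lpr_dt (K48.f632224 IH) (Lpn K48.v4253))))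
theorem f663516 : Led Lsl_af K48.v4253 = K48.v7248 :=
  Lgr Lrot36 (Lpe (f632225 IH) (Lpq (K32.f503365 IH) (Lpe (K32.f502963 IH) (Lpr_bt (f502984 IH) (Lpr_at (f646888 IH) (Lpr_bt (f663515 IH) (Lpn K48.v7248)))))))
def v5263 : LQ := Led Lsl_dt (LP (LK LD1_c3 LD2_c2 LD3_c44))
theorem f646837 : Led Lsl_dt (LP (LK LD1_c3 LD2_c2 LD3_c44)) = v5263 :=
  Lrfl
theorem f646839 : Led Lsl_df (LP (LK LD1_c3 LD2_c2 LD3_c44)) = v5263 :=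
  Lgr Lrot38 (Lpr_dt (f646837 IH) (Lpn v5263))
theorem f416130 : Led Lsl_dt (LP (LK LD1_c1 LD2_c27 LD3_c19)) = (LP (LK LD1_c3 LD2_c2 LD3_c46)) :=
  Lre_d IH (LK LD1_c1 LD2_c27 LD3_c19) (LK LD1_c3 LD2_c2 LD3_c46) Lrfl Lrfl
theorem f646841 : Led Lsl_at (LP (LK LD1_c3 LD2_c2 LD3_c46)) = v5263 :=
  Lgr Lrot51 (Lpe (f416130 IH) (Lpe (K48.f453011 IH) (Lpr_df (f646839 IH) (Lpn v5263))))
theorem f663517 : Led Lsl_ft v5263 = K48.v7248 :=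
  Lgr Lrot101 (Lpe (f646841 IH) (Lpr_ff (K48.f632228 IH) (Lpr_af (f663516 IH) (Lpn K48.v7248))))
theorem f663518 : Led Lsl_ff v5263 = K48.v7248 :=
  Lgr Lrot3 (Lpr_ft (f663517 IH) (Lpn K48.v7248))
theorem f646838 : Led Lsl_af (LP (LK LD1_c3 LD2_c2 LD3_c46)) = v5263 :=
  Lgr Lrot117 (Lpr_dt (K48.f416115 IH) (Lpr_at (K48.f453012 IH) (Lpr_dt (f646837 IH) (Lpn v5263))))
def v5266 : LQ := Led Lsl_gf (LP (LK LD1_c3 LD2_c2 LD3_c46))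
theorem f646850 : Led Lsl_gf (LP (LK LD1_c3 LD2_c2 LD3_c46)) = v5266 :=
  Lrfl
theorem f663519 : Led Lsl_gf v5266 = K48.v7248 :=
  Lgr Lrot47 (Lpe (f646850 IH) (Lpr_af (f646838 IH) (Lpr_ff (f663518 IH) (Lpn K48.v7248))))
theorem f663541 : K48.v3393 = v5266 :=
  (Llr Lrot135 (Lpe (K48.f662776 IH) (Lpe (K48.f509497 IH) (Lpe (K46.f23192 IH) (Lpr_et (K46.f446253 IH) (Lpqs (f662773 IH) (Lpe (f649875 IH) (Lpe (f649877 IH) (Lpe (f663016 IH) (Lpr_gt (f663539 IH) (Lpe (K48.f116080 IH) (Lpr_et (K48.f662651 IH) (Lpe (f663519 IH) (Lpn v5266)))))))))))))).symm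
theorem f675041 : v6411 = (LP (LK LD1_c6 LD2_c12 LD3_c23)) :=
  (Llr Lrot52 (Lpr_ft (f675038 IH) (Lpe (f675033 IH) (Lpqs (f663541 IH) (Lpr_gf (f663519 IH) (Lpe (K48.f663520 IH) (Lpn (LP (LK LD1_c6 LD2_c12 LD3_c23))))))))).symm
theorem f653247 : Led Lsl_df (LP (LK LD1_c3 LD2_c21 LD3_c22)) = v6411 :=
  Lgr Lrot38 (Lpr_dt (f653246 IH) (Lpn v6411))
theorem f675042 : Led Lsl_dt (LP (LK LD1_c6 LD2_c12 LD3_c23)) = (LP (LK LD1_c3 LD2_c21 LD3_c22)) :=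
  Leop (Lpr_df (f653247 IH) (Lpqs (f675041 IH) (Lpn (LP (LK LD1_c6 LD2_c12 LD3_c23)))))
theorem seed_551 : LEOK LG_d (LK LD1_c6 LD2_c12 LD3_c23) :=
  Leoe_d (LK LD1_c6 LD2_c12 LD3_c23) (f675042 IH)
theorem f134814 : Led Lsl_et (LP (LK LD1_c1 LD2_c48 LD3_c49)) = (LP (LK LD1_c3 LD2_c43 LD3_c29)) :=
  Lre_e IH (LK LD1_c1 LD2_c48 LD3_c49) (LK LD1_c3 LD2_c43 LD3_c29) Lrfl Lrfl
def v7275 : LQ := Led Lsl_ft (LP (LK LD1_c3 LD2_c43 LD3_c29))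
theorem f664045 : Led Lsl_ft (LP (LK LD1_c3 LD2_c43 LD3_c29)) = v7275 :=
  Lrfl
theorem f675039 : Led Lsl_ef v6411 = v7275 :=
  Lgr Lrot21 (Lpr_ft (f675038 IH) (Lpe (f675034 IH) (Lpe (f527554 IH) (Lpr_et (f134814 IH) (Lpr_ft (f664045 IH) (Lpn v7275))))))
theorem f675044 : v7275 = (LP (LK LD1_c6 LD2_c42 LD3_c40)) :=
  Lefun (Lecon (f675039 IH) (f675041 IH)) (K48.f663521 IH)
theorem f664046 : Led Lsl_ff (LP (LK LD1_c3 LD2_c43 LD3_c29)) = v7275 :=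
  Lgr Lrot3 (Lpr_ft (f664045 IH) (Lpn v7275))
theorem f675045 : Led Lsl_ft (LP (LK LD1_c6 LD2_c42 LD3_c40)) = (LP (LK LD1_c3 LD2_c43 LD3_c29)) :=
  Leop (Lpr_ff (f664046 IH) (Lpqs (f675044 IH) (Lpn (LP (LK LD1_c6 LD2_c42 LD3_c40)))))
theorem seed_552 : LEOK LG_f (LK LD1_c6 LD2_c42 LD3_c40) :=
  Leoe_f (LK LD1_c6 LD2_c42 LD3_c40) (f675045 IH)
theorem f84388 : Led Lsl_bt (LP (LK LD1_c6 LD2_c48 LD3_c8)) = (LP (LK LD1_c3 LD2_c22 LD3_c15)) :=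
  Lre_b IH (LK LD1_c6 LD2_c48 LD3_c8) (LK LD1_c3 LD2_c22 LD3_c15) Lrfl Lrfl
theorem f84389 : Led Lsl_bt (LP (LK LD1_c4 LD2_c48 LD3_c27)) = (LP (LK LD1_c9 LD2_c29 LD3_c36)) :=
  Lre_b IH (LK LD1_c4 LD2_c48 LD3_c27) (LK LD1_c9 LD2_c29 LD3_c36) Lrfl Lrfl
theorem f84390 : Led Lsl_et (LP (LK LD1_c3 LD2_c22 LD3_c15)) = (LP (LK LD1_c4 LD2_c48 LD3_c27)) :=
  Lgr Lrot74 (Lpe (f84388 IH) (Lpr_ef (K6.f84374 IH) (Lpe (f84389 IH) (Lpn (LP (LK LD1_c4 LD2_c48 LD3_c27))))))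
theorem f84470 : Led Lsl_ct (LP (LK LD1_c4 LD2_c48 LD3_c27)) = (LP (LK LD1_c2 LD2_c22 LD3_c6)) :=
  Lre_c IH (LK LD1_c4 LD2_c48 LD3_c27) (LK LD1_c2 LD2_c22 LD3_c6) Lrfl Lrfl
theorem f84471 : Led Lsl_ef (LP (LK LD1_c1 LD2_c37 LD3_c23)) = (LP (LK LD1_c2 LD2_c22 LD3_c6)) :=
  Lgr Lrot28 (Lpr_ct (K11.f84469 IH) (Lpr_et (f84390 IH) (Lpr_ct (f84470 IH) (Lpn (LP (LK LD1_c2 LD2_c22 LD3_c6))))))
theorem f84487 : Led Lsl_gt (LP (LK LD1_c2 LD2_c22 LD3_c5)) = (LP (LK LD1_c1 LD2_c8 LD3_c12)) :=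
  Lre_g IH (LK LD1_c2 LD2_c22 LD3_c5) (LK LD1_c1 LD2_c8 LD3_c12) Lrfl Lrfl
theorem f84488 : Led Lsl_dt (LP (LK LD1_c4 LD2_c48 LD3_c24)) = (LP (LK LD1_c2 LD2_c22 LD3_c5)) :=
  Lre_d IH (LK LD1_c4 LD2_c48 LD3_c24) (LK LD1_c2 LD2_c22 LD3_c5) Lrfl Lrfl
theorem f430527 : Led Lsl_et (LP (LK LD1_c4 LD2_c48 LD3_c24)) = (LP (LK LD1_c6 LD2_c41 LD3_c61)) :=
  Lgr Lrot122 (Lpr_dt (f84488 IH) (Lpr_gt (f84487 IH) (Lpe (K5.f84486 IH) (Lpe (f84471 IH) (Lpr_gt (K11.f84098 IH) (Lpr_dt (K48.f430515 IH) (Lpr_gt (K6.f21127 IH) (Lpe (K5.f21124 IH) (Lpe (K5.f24832 IH) (Lpr_gt (K46.f24844 IH) (Lpn (LP (LK LD1_c6 LD2_c41 LD3_c61)))))))))))))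
theorem f134812 : Led Lsl_dt (LP (LK LD1_c6 LD2_c42 LD3_c0)) = (LP (LK LD1_c3 LD2_c43 LD3_c29)) :=
  Lgr Lrot42 (Lpr_df (K48.f134807 IH) (Lpn (LP (LK LD1_c3 LD2_c43 LD3_c29))))
def v6237 : LQ := Led Lsl_ft (LP (LK LD1_c3 LD2_c19 LD3_c19))
theorem f652246 : Led Lsl_ft (LP (LK LD1_c3 LD2_c19 LD3_c19)) = v6237 :=
  Lrfl
theorem f675047 : (LP (LK LD1_c6 LD2_c42 LD3_c0)) = v6237 :=
  (Llr Lrot78 (Lpr_dt (f134812 IH) (Lpr_ft (f664045 IH) (Lpqs (f675044 IH) (Lpr_dt (K48.f66572 IH) (Lpr_ft (f652246 IH) (Lpn v6237))))))).symm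
theorem f652248 : Led Lsl_ff (LP (LK LD1_c3 LD2_c19 LD3_c19)) = v6237 :=
  Lgr Lrot3 (Lpr_ft (f652246 IH) (Lpn v6237))
def v6235 : LQ := Led Lsl_at (LP (LK LD1_c3 LD2_c19 LD3_c19))
theorem f652237 : Led Lsl_at (LP (LK LD1_c3 LD2_c19 LD3_c19)) = v6235 :=
  Lrfl
theorem f675063 : v6235 = (LP (LK LD1_c6 LD2_c41 LD3_c61)) :=
  (Llr Lrot26 (Lpe (f652237 IH) (Lpr_ff (f652248 IH) (Lpq (f675047 IH) (Lpr_gt (K48.f24845 IH) (Lpr_gt (K46.f24844 IH) (Lpn (LP (LK LD1_c6 LD2_c41 LD3_c61))))))))).symm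
theorem f652238 : Led Lsl_af (LP (LK LD1_c3 LD2_c19 LD3_c19)) = v6235 :=
  Lgr Lrot0 (Lpr_at (f652237 IH) (Lpn v6235))
theorem f432224 : Led Lsl_et (LP (LK LD1_c3 LD2_c19 LD3_c19)) = (LP (LK LD1_c6 LD2_c42 LD3_c41)) :=
  Lre_e IH (LK LD1_c3 LD2_c19 LD3_c19) (LK LD1_c6 LD2_c42 LD3_c41) Lrfl Lrfl
theorem f675072 : Led Lsl_af (LP (LK LD1_c4 LD2_c48 LD3_c24)) = (LP (LK LD1_c6 LD2_c42 LD3_c41)) :=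
  Lgr Lrot50 (Lpr_et (f430527 IH) (Lpq (f675063 IH) (Lpe (f652238 IH) (Lpr_et (f432224 IH) (Lpn (LP (LK LD1_c6 LD2_c42 LD3_c41)))))))
def v4472 : LQ := Led Lsl_ft (LP (LK LD1_c2 LD2_c22 LD3_c4))
theorem f634071 : Led Lsl_ft (LP (LK LD1_c2 LD2_c22 LD3_c4)) = v4472 :=
  Lrfl
theorem f634073 : Led Lsl_ff (LP (LK LD1_c2 LD2_c22 LD3_c4)) = v4472 :=
  Lgr Lrot3 (Lpr_ft (f634071 IH) (Lpn v4472))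
def v4469 : LQ := Led Lsl_at (LP (LK LD1_c2 LD2_c22 LD3_c4))
theorem f634062 : Led Lsl_at (LP (LK LD1_c2 LD2_c22 LD3_c4)) = v4469 :=
  Lrfl
theorem f634063 : Led Lsl_af (LP (LK LD1_c2 LD2_c22 LD3_c4)) = v4469 :=
  Lgr Lrot0 (Lpr_at (f634062 IH) (Lpn v4469))
theorem f84491 : Led Lsl_gt (LP (LK LD1_c1 LD2_c8 LD3_c12)) = (LP (LK LD1_c2 LD2_c22 LD3_c4)) :=
  Lre_g IH (LK LD1_c1 LD2_c8 LD3_c12) (LK LD1_c2 LD2_c22 LD3_c4) Lrfl Lrfl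
theorem f634064 : Led Lsl_ft (LP (LK LD1_c2 LD2_c22 LD3_c5)) = v4469 :=
  Lgr Lrot2 (Lpr_gt (f84487 IH) (Lpr_gt (f84491 IH) (Lpr_af (f634063 IH) (Lpn v4469))))
theorem f634065 : Led Lsl_ff (LP (LK LD1_c2 LD2_c22 LD3_c5)) = v4469 :=
  Lgr Lrot3 (Lpr_ft (f634064 IH) (Lpn v4469))
theorem f634075 : Led Lsl_at (LP (LK LD1_c2 LD2_c22 LD3_c5)) = v4472 :=
  Lgr Lrot66 (Lpr_ff (f634065 IH) (Lpe (f634062 IH) (Lpr_ff (f634073 IH) (Lpn v4472))))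
theorem f125340 : Led Lsl_gf (LP (LK LD1_c2 LD2_c19 LD3_c54)) = (LP (LK LD1_c3 LD2_c7 LD3_c1)) :=
  Lgr Lrot76 (Lpe (K3.f107480 IH) (Lpr_ff (K5.f125330 IH) (Lpr_gt (K5.f62620 IH) (Lpn (LP (LK LD1_c3 LD2_c7 LD3_c1))))))
theorem f125345 : Led Lsl_ct (LP (LK LD1_c9 LD2_c20 LD3_c57)) = (LP (LK LD1_c12 LD2_c13 LD3_c61)) :=
  Lgr Lrot59 (Lpr_cf (K5.f125342 IH) (Lpn (LP (LK LD1_c12 LD2_c13 LD3_c61))))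
theorem f431202 : Led Lsl_cf (LP (LK LD1_c12 LD2_c59 LD3_c7)) = (LP (LK LD1_c12 LD2_c59 LD3_c10)) :=
  Lgr Lrot14 (Lpe (K46.f155995 IH) (Lpr_gf (K46.f431195 IH) (Lpr_df (K6.f145563 IH) (Lpe (K6.f125349 IH) (Lpr_ct (f125345 IH) (Lpe (K46.f155905 IH) (Lpr_dt (K7.f155904 IH) (Lpr_gt (K46.f84236 IH) (Lpr_dt (K46.f84237 IH) (Lpn (LP (LK LD1_c12 LD2_c59 LD3_c10))))))))))))
theorem f431234 : Led Lsl_gt (LP (LK LD1_c6 LD2_c48 LD3_c15)) = (LP (LK LD1_c6 LD2_c9 LD3_c34)) :=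
  Lgr Lrot9 (Lpe (K46.f155908 IH) (Lpr_gt (K46.f431230 IH) (Lpr_ct (K11.f143856 IH) (Lpe (K46.f431232 IH) (Lpe (f431202 IH) (Lpe (K46.f155995 IH) (Lpe (K7.f155992 IH) (Lpr_gf (K7.f155990 IH) (Lpe (K7.f62550 IH) (Lpn (LP (LK LD1_c6 LD2_c9 LD3_c34))))))))))))
theorem f431652 : Led Lsl_cf (LP (LK LD1_c6 LD2_c48 LD3_c15)) = (LP (LK LD1_c6 LD2_c20 LD3_c52)) :=
  Lgr Lrot169 (Lpr_gt (f431234 IH) (Lpr_ct (K7.f62550 IH) (Lpe (K7.f62604 IH) (Lpe (K6.f126736 IH) (Lpe (K6.f144037 IH) (Lpe (K6.f23507 IH) (Lpr_gf (f125340 IH) (Lpe (K6.f126625 IH) (Lpr_gt (K33.f431646 IH) (Lpn (LP (LK LD1_c6 LD2_c20 LD3_c52))))))))))))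
theorem f431654 : Led Lsl_bf (LP (LK LD1_c3 LD2_c13 LD3_c41)) = (LP (LK LD1_c3 LD2_c1 LD3_c15)) :=
  Lgr Lrot156 (Lpe (K7.f156032 IH) (Lpe (K7.f156013 IH) (Lpr_ct (K7.f156014 IH) (Lpr_gt (K7.f156017 IH) (Lpe (K33.f76746 IH) (Lpe (K6.f126634 IH) (Lpr_gt (K33.f431646 IH) (Lpe (f431652 IH) (Lpr_gt (f431234 IH) (Lpe (K6.f62570 IH) (Lpn (LP (LK LD1_c3 LD2_c1 LD3_c15)))))))))))))
theorem f95823 : Led Lsl_bt (LP (LK LD1_c6 LD2_c31 LD3_c0)) = (LP (LK LD1_c12 LD2_c30 LD3_c39)) :=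
  Lre_b IH (LK LD1_c6 LD2_c31 LD3_c0) (LK LD1_c12 LD2_c30 LD3_c39) Lrfl Lrfl
theorem f62533 : Led Lsl_bt (LP (LK LD1_c12 LD2_c0 LD3_c8)) = (LP (LK LD1_c6 LD2_c9 LD3_c34)) :=
  Lre_b IH (LK LD1_c12 LD2_c0 LD3_c8) (LK LD1_c6 LD2_c9 LD3_c34) Lrfl Lrfl
theorem f432145 : Led Lsl_ct (LP (LK LD1_c12 LD2_c30 LD3_c39)) = (LP (LK LD1_c12 LD2_c0 LD3_c8)) :=
  Lgr Lrot83 (Lpe (f95823 IH) (Lpe (K7.f95822 IH) (Lpr_bf (f431654 IH) (Lpe (K7.f62550 IH) (Lpe (f62533 IH) (Lpn (LP (LK LD1_c12 LD2_c0 LD3_c8))))))))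
theorem f62540 : Led Lsl_bt (LP (LK LD1_c6 LD2_c9 LD3_c34)) = (LP (LK LD1_c12 LD2_c0 LD3_c8)) :=
  Lre_b IH (LK LD1_c6 LD2_c9 LD3_c34) (LK LD1_c12 LD2_c0 LD3_c8) Lrfl Lrfl
theorem f126748 : Led Lsl_bt (LP (LK LD1_c12 LD2_c33 LD3_c18)) = (LP (LK LD1_c6 LD2_c32 LD3_c61)) :=
  Lre_b IH (LK LD1_c12 LD2_c33 LD3_c18) (LK LD1_c6 LD2_c32 LD3_c61) Lrfl Lrfl
theorem f126749 : Led Lsl_ft (LP (LK LD1_c12 LD2_c0 LD3_c8)) = (LP (LK LD1_c12 LD2_c33 LD3_c18)) :=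
  Lgr Lrot75 (Lpe (f62540 IH) (Lpr_ff (K5.f126743 IH) (Lpe (f126748 IH) (Lpn (LP (LK LD1_c12 LD2_c33 LD3_c18))))))
theorem f126760 : Led Lsl_bt (LP (LK LD1_c6 LD2_c32 LD3_c61)) = (LP (LK LD1_c12 LD2_c33 LD3_c18)) :=
  Lre_b IH (LK LD1_c6 LD2_c32 LD3_c61) (LK LD1_c12 LD2_c33 LD3_c18) Lrfl Lrfl
theorem f126862 : Led Lsl_bt (LP (LK LD1_c14 LD2_c3 LD3_c29)) = (LP (LK LD1_c7 LD2_c26 LD3_c13)) :=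
  Lre_b IH (LK LD1_c14 LD2_c3 LD3_c29) (LK LD1_c7 LD2_c26 LD3_c13) Lrfl Lrfl
theorem f126863 : Led Lsl_ct (LP (LK LD1_c12 LD2_c33 LD3_c18)) = (LP (LK LD1_c14 LD2_c3 LD3_c29)) :=
  Lgr Lrot83 (Lpe (f126760 IH) (Lpe (K5.f126740 IH) (Lpr_bf (K7.f126855 IH) (Lpe (K6.f126861 IH) (Lpe (f126862 IH) (Lpn (LP (LK LD1_c14 LD2_c3 LD3_c29))))))))
theorem f432154 : Led Lsl_ff (LP (LK LD1_c12 LD2_c30 LD3_c39)) = (LP (LK LD1_c14 LD2_c3 LD3_c29)) :=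
  Lgr Lrot23 (Lpr_ct (f432145 IH) (Lpr_ft (f126749 IH) (Lpr_ct (f126863 IH) (Lpn (LP (LK LD1_c14 LD2_c3 LD3_c29))))))
theorem f432161 : Led Lsl_ft (LP (LK LD1_c12 LD2_c30 LD3_c39)) = (LP (LK LD1_c14 LD2_c3 LD3_c29)) :=
  Lgr Lrot48 (Lpr_ff (f432154 IH) (Lpn (LP (LK LD1_c14 LD2_c3 LD3_c29))))
theorem f432167 : Led Lsl_ff (LP (LK LD1_c6 LD2_c31 LD3_c0)) = (LP (LK LD1_c7 LD2_c26 LD3_c13)) :=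
  Lgr Lrot25 (Lpr_bt (f95823 IH) (Lpr_ft (f432161 IH) (Lpr_bt (f126862 IH) (Lpn (LP (LK LD1_c7 LD2_c26 LD3_c13))))))
theorem f432171 : Led Lsl_at (LP (LK LD1_c6 LD2_c31 LD3_c0)) = (LP (LK LD1_c3 LD2_c22 LD3_c15)) :=
  Lgr Lrot66 (Lpr_ff (f432167 IH) (Lpr_af (K11.f430451 IH) (Lpe (K11.f430475 IH) (Lpn (LP (LK LD1_c3 LD2_c22 LD3_c15))))))
theorem f84468 : Led Lsl_at (LP (LK LD1_c4 LD2_c48 LD3_c27)) = (LP (LK LD1_c9 LD2_c29 LD3_c15)) :=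
  Lre_a IH (LK LD1_c4 LD2_c48 LD3_c27) (LK LD1_c9 LD2_c29 LD3_c15) Lrfl Lrfl
theorem f432193 : Led Lsl_ef (LP (LK LD1_c6 LD2_c31 LD3_c0)) = (LP (LK LD1_c9 LD2_c29 LD3_c15)) :=
  Lgr Lrot20 (Lpr_at (f432171 IH) (Lpr_et (f84390 IH) (Lpr_at (f84468 IH) (Lpn (LP (LK LD1_c9 LD2_c29 LD3_c15))))))
theorem f432197 : Led Lsl_et (LP (LK LD1_c6 LD2_c31 LD3_c0)) = (LP (LK LD1_c9 LD2_c29 LD3_c15)) :=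
  Lgr Lrot87 (Lpr_ef (f432193 IH) (Lpn (LP (LK LD1_c9 LD2_c29 LD3_c15))))
theorem f432215 : Led Lsl_ef (LP (LK LD1_c3 LD2_c13 LD3_c41)) = (LP (LK LD1_c4 LD2_c48 LD3_c15)) :=
  Lgr Lrot28 (Lpr_ct (K7.f95822 IH) (Lpr_et (f432197 IH) (Lpr_ct (K6.f143983 IH) (Lpn (LP (LK LD1_c4 LD2_c48 LD3_c15))))))
theorem f24686 : Led Lsl_bt (LP (LK LD1_c1 LD2_c36 LD3_c4)) = (LP (LK LD1_c0 LD2_c44 LD3_c35)) :=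
  Lre_b IH (LK LD1_c1 LD2_c36 LD3_c4) (LK LD1_c0 LD2_c44 LD3_c35) Lrfl Lrfl
theorem f24688 : Led Lsl_ef (LP (LK LD1_c1 LD2_c36 LD3_c4)) = (LP (LK LD1_c1 LD2_c26 LD3_c29)) :=
  Lgr Lrot29 (Lpr_bt (f24686 IH) (Lpr_et (K5.f24679 IH) (Lpr_bt (K5.f24687 IH) (Lpn (LP (LK LD1_c1 LD2_c26 LD3_c29))))))
theorem f24934 : Led Lsl_et (LP (LK LD1_c6 LD2_c42 LD3_c41)) = (LP (LK LD1_c3 LD2_c19 LD3_c19)) :=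
  Lre_e IH (LK LD1_c6 LD2_c42 LD3_c41) (LK LD1_c3 LD2_c19 LD3_c19) Lrfl Lrfl
theorem f84604 : Led Lsl_dt (LP (LK LD1_c4 LD2_c48 LD3_c15)) = (LP (LK LD1_c2 LD2_c22 LD3_c1)) :=
  Lre_d IH (LK LD1_c4 LD2_c48 LD3_c15) (LK LD1_c2 LD2_c22 LD3_c1) Lrfl Lrfl
theorem f84605 : Led Lsl_gt (LP (LK LD1_c4 LD2_c48 LD3_c14)) = (LP (LK LD1_c2 LD2_c22 LD3_c1)) :=
  Lre_g IH (LK LD1_c4 LD2_c48 LD3_c14) (LK LD1_c2 LD2_c22 LD3_c1) Lrfl Lrfl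
theorem f432217 : Led Lsl_dt (LP (LK LD1_c6 LD2_c42 LD3_c41)) = (LP (LK LD1_c4 LD2_c48 LD3_c14)) :=
  Lgr Lrot136 (Lpr_et (f24934 IH) (Lpe (K48.f24930 IH) (Lpr_ef (f24688 IH) (Lpr_dt (K5.f21087 IH) (Lpe (K6.f21093 IH) (Lpe (K7.f21153 IH) (Lpr_gf (K7.f156032 IH) (Lpr_ef (f432215 IH) (Lpr_dt (f84604 IH) (Lpe (f84605 IH) (Lpn (LP (LK LD1_c4 LD2_c48 LD3_c14)))))))))))))
theorem f432222 : Led Lsl_df (LP (LK LD1_c6 LD2_c42 LD3_c41)) = (LP (LK LD1_c4 LD2_c48 LD3_c14)) :=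
  Lgr Lrot38 (Lpr_dt (f432217 IH) (Lpn (LP (LK LD1_c4 LD2_c48 LD3_c14))))
theorem f675078 : v4472 = (LP (LK LD1_c4 LD2_c48 LD3_c14)) :=
  (Llr Lrot51 (Lpe (f634075 IH) (Lpe (f84488 IH) (Lpr_af (f675072 IH) (Lpr_df (f432222 IH) (Lpn (LP (LK LD1_c4 LD2_c48 LD3_c14)))))))).symm
theorem f675081 : Led Lsl_ft (LP (LK LD1_c4 LD2_c48 LD3_c14)) = (LP (LK LD1_c2 LD2_c22 LD3_c4)) :=
  Leop (Lpr_ff (f634073 IH) (Lpqs (f675078 IH) (Lpn (LP (LK LD1_c4 LD2_c48 LD3_c14)))))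
theorem seed_553 : LEOK LG_f (LK LD1_c4 LD2_c48 LD3_c14) :=
  Leoe_f (LK LD1_c4 LD2_c48 LD3_c14) (f675081 IH)
def v6399 : LQ := Led Lsl_dt (LP (LK LD1_c3 LD2_c21 LD3_c18))
theorem f653217 : Led Lsl_dt (LP (LK LD1_c3 LD2_c21 LD3_c18)) = v6399 :=
  Lrfl
theorem f653218 : Led Lsl_df (LP (LK LD1_c3 LD2_c21 LD3_c18)) = v6399 :=
  Lgr Lrot38 (Lpr_dt (f653217 IH) (Lpn v6399))
theorem f148382 : Led Lsl_dt (LP (LK LD1_c6 LD2_c31 LD3_c16)) = (LP (LK LD1_c3 LD2_c13 LD3_c50)) :=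
  Lre_d IH (LK LD1_c6 LD2_c31 LD3_c16) (LK LD1_c3 LD2_c13 LD3_c50) Lrfl Lrfl
def v801 : LQ := Led Lsl_ft (LP (LK LD1_c0 LD2_c51 LD3_c9))
theorem f459457 : Led Lsl_ft (LP (LK LD1_c0 LD2_c51 LD3_c9)) = v801 :=
  Lrfl
theorem f459460 : Led Lsl_ff (LP (LK LD1_c0 LD2_c51 LD3_c9)) = v801 :=
  Lgr Lrot3 (Lpr_ft (f459457 IH) (Lpn v801))
theorem f148355 : Led Lsl_at (LP (LK LD1_c0 LD2_c19 LD3_c22)) = (LP (LK LD1_c0 LD2_c43 LD3_c21)) :=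
  Lre_a IH (LK LD1_c0 LD2_c19 LD3_c22) (LK LD1_c0 LD2_c43 LD3_c21) Lrfl Lrfl
theorem f148356 : Led Lsl_ft (LP (LK LD1_c0 LD2_c23 LD3_c5)) = (LP (LK LD1_c0 LD2_c19 LD3_c22)) :=
  Lgr Lrot142 (Lpr_dt (K4.f64387 IH) (Lpr_ct (K3.f13439 IH) (Lpr_dt (K4.f12843 IH) (Lpr_ct (K4.f11304 IH) (Lpr_dt (K4.f13389 IH) (Lpr_ct (K6.f12916 IH) (Lpr_dt (K7.f148342 IH) (Lpr_ct (K7.f148341 IH) (Lpe (f148355 IH) (Lpn (LP (LK LD1_c0 LD2_c19 LD3_c22))))))))))))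
theorem f459462 : Led Lsl_et (LP (LK LD1_c1 LD2_c33 LD3_c42)) = v801 :=
  Lgr Lrot69 (Lpe (K24.f23727 IH) (Lpe (K0.f23715 IH) (Lpe (f148356 IH) (Lpe (K48.f116081 IH) (Lpr_ff (f459460 IH) (Lpn v801))))))
def v3381 : LQ := Led Lsl_gf K48.v793
theorem f625405 : Led Lsl_gf K48.v793 = v3381 :=
  Lrfl
theorem f459416 : Led Lsl_at (LP (LK LD1_c0 LD2_c51 LD3_c9)) = K48.v793 :=
  Lgr Lrot80 (Lpe (K24.f124188 IH) (Lpe (K48.f148391 IH) (Lpr_ef (K48.f459415 IH) (Lpn K48.v793))))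
theorem f625406 : Led Lsl_gt v801 = v3381 :=
  Lgr Lrot5 (Lpe (f459460 IH) (Lpr_at (f459416 IH) (Lpr_gf (f625405 IH) (Lpn v3381))))
def v6227 : LQ := Led Lsl_ft (LP (LK LD1_c3 LD2_c19 LD3_c15))
theorem f652207 : Led Lsl_ft (LP (LK LD1_c3 LD2_c19 LD3_c15)) = v6227 :=
  Lrfl
def v6224 : LQ := Led Lsl_gt (LP (LK LD1_c3 LD2_c19 LD3_c15))
theorem f652195 : Led Lsl_gt (LP (LK LD1_c3 LD2_c19 LD3_c15)) = v6224 :=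
  Lrfl
theorem f652208 : Led Lsl_af (LP (LK LD1_c6 LD2_c31 LD3_c16)) = v6227 :=
  Lgr Lrot45 (Lpr_ft (K48.f652203 IH) (Lpe (K48.f652198 IH) (Lpr_ft (f652207 IH) (Lpn v6227))))
theorem f652211 : Led Lsl_gt v6224 = (LP (LK LD1_c6 LD2_c31 LD3_c16)) :=
  Lgr Lrot46 (Lpe (f652195 IH) (Lpr_ft (f652207 IH) (Lpe (f652208 IH) (Lpn (LP (LK LD1_c6 LD2_c31 LD3_c16))))))
theorem f662726 : (LP (LK LD1_c4 LD2_c49 LD3_c59)) = v6224 :=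
  Lefun (Lecon (Lfl_gf (K48.f653236 IH)) (K48.f662725 IH)) (f652195 IH)
theorem f509486 : Led Lsl_dt (LP (LK LD1_c2 LD2_c22 LD3_c43)) = K48.v2176 :=
  Lgr Lrot60 (Lpe (K48.f454759 IH) (Lpe (K48.f454726 IH) (Lpr_ff (K48.f509482 IH) (Lpn K48.v2176))))
theorem f663912 : Led Lsl_ef v3381 = v6399 :=
  Lgr Lrot17 (Lpe (f625406 IH) (Lpe (f459462 IH) (Lpr_dt (K24.f23729 IH) (Lpe (K32.f506873 IH) (Lpe (f148382 IH) (Lpe (f652211 IH) (Lpq (f662726 IH) (Lpe (K48.f454649 IH) (Lpr_dt (f509486 IH) (Lpe (K48.f509483 IH) (Lpr_df (f653218 IH) (Lpn v6399))))))))))))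
theorem f663913 : Led Lsl_et v3381 = v6399 :=
  Lgr Lrot87 (Lpr_ef (f663912 IH) (Lpn v6399))
def v9269 : LQ := Led Lsl_gt v2571
theorem f674966 : Led Lsl_gt v2571 = v9269 :=
  Lrfl
theorem f674967 : Led Lsl_gf v2575 = v9269 :=
  Lgr Lrot76 (Lpe (f527555 IH) (Lpr_ff (f527545 IH) (Lpr_gt (f674966 IH) (Lpn v9269))))
def v3380 : LQ := Led Lsl_gt K48.v793
theorem f625403 : Led Lsl_gt K48.v793 = v3380 :=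
  Lrfl
theorem f527540 : Led Lsl_ft K48.v793 = K48.v2570 :=
  Lgr Lrot48 (Lpr_ff (K48.f527539 IH) (Lpn K48.v2570))
theorem f506877 : Led Lsl_at (LP (LK LD1_c1 LD2_c33 LD3_c42)) = K32.v2010 :=
  Lgr Lrot66 (Lpe (K24.f23727 IH) (Lpe (K46.f23721 IH) (Lpr_ff (K48.f506872 IH) (Lpn K32.v2010))))
theorem f148421 : Led Lsl_ff (LP (LK LD1_c0 LD2_c23 LD3_c5)) = (LP (LK LD1_c0 LD2_c19 LD3_c22)) :=
  Lgr Lrot23 (Lpr_ct (K5.f97369 IH) (Lpr_ft (K7.f148413 IH) (Lpr_ct (K8.f22483 IH) (Lpn (LP (LK LD1_c0 LD2_c19 LD3_c22))))))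
theorem f459459 : Led Lsl_ef (LP (LK LD1_c1 LD2_c33 LD3_c42)) = v801 :=
  Lgr Lrot21 (Lpr_ft (K24.f23728 IH) (Lpr_et (K0.f23714 IH) (Lpe (f148421 IH) (Lpr_et (K24.f124188 IH) (Lpr_ft (f459457 IH) (Lpn v801))))))
theorem f527537 : Led Lsl_af v801 = K48.v2570 :=
  Lgr Lrot50 (Lpe (f459459 IH) (Lpr_at (f506877 IH) (Lpr_et (K48.f527536 IH) (Lpn K48.v2570))))
theorem f625404 : Led Lsl_gf v801 = v3380 :=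
  Lgr Lrot76 (Lpr_af (f527537 IH) (Lpe (f527540 IH) (Lpr_gt (f625403 IH) (Lpn v3380))))
def v7272 : LQ := Led Lsl_at (LP (LK LD1_c3 LD2_c43 LD3_c29))
theorem f664033 : Led Lsl_at (LP (LK LD1_c3 LD2_c43 LD3_c29)) = v7272 :=
  Lrfl
theorem f664035 : Led Lsl_ef v2571 = v7272 :=
  Lgr Lrot20 (Lpe (f527543 IH) (Lpr_et (f134814 IH) (Lpr_at (f664033 IH) (Lpn v7272))))
def v6239 : LQ := Led Lsl_dt (LP (LK LD1_c3 LD2_c19 LD3_c20))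
theorem f652253 : Led Lsl_dt (LP (LK LD1_c3 LD2_c19 LD3_c20)) = v6239 :=
  Lrfl
theorem f652254 : Led Lsl_df (LP (LK LD1_c3 LD2_c19 LD3_c20)) = v6239 :=
  Lgr Lrot38 (Lpr_dt (f652253 IH) (Lpn v6239))
theorem f24935 : Led Lsl_gt (LP (LK LD1_c3 LD2_c19 LD3_c20)) = (LP (LK LD1_c1 LD2_c36 LD3_c4)) :=
  Lre_g IH (LK LD1_c3 LD2_c19 LD3_c20) (LK LD1_c1 LD2_c36 LD3_c4) Lrfl Lrfl
theorem f652255 : Led Lsl_ef v3380 = v6239 :=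
  Lgr Lrot17 (Lpe (f625403 IH) (Lpe (K48.f459412 IH) (Lpr_dt (K7.f147776 IH) (Lpr_gf (K40.f147743 IH) (Lpe (K3.f23650 IH) (Lpe (K4.f124063 IH) (Lpe (K48.f24859 IH) (Lpr_dt (K48.f24943 IH) (Lpe (f24935 IH) (Lpr_df (f652254 IH) (Lpn v6239)))))))))))
theorem f664034 : Led Lsl_af (LP (LK LD1_c3 LD2_c43 LD3_c29)) = v7272 :=
  Lgr Lrot0 (Lpr_at (f664033 IH) (Lpn v7272))
theorem f652239 : Led Lsl_ft (LP (LK LD1_c3 LD2_c19 LD3_c20)) = v6235 :=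
  Lgr Lrot2 (Lpr_gt (f24935 IH) (Lpr_gt (K48.f24930 IH) (Lpr_af (f652238 IH) (Lpn v6235))))
theorem f652247 : Led Lsl_af (LP (LK LD1_c3 LD2_c19 LD3_c20)) = v6237 :=
  Lgr Lrot45 (Lpr_ft (f652239 IH) (Lpe (f652238 IH) (Lpr_ft (f652246 IH) (Lpn v6237))))
theorem f675142 : v7272 = v6239 :=
  (Llr Lrot117 (Lpe (f664034 IH) (Lpe (K48.f134807 IH) (Lpqs (f675047 IH) (Lpe (f652247 IH) (Lpr_dt (f652253 IH) (Lpn v6239))))))).symm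
theorem f675143 : v2571 = v3380 :=
  Lefun (Lecon (Lfl_ef (f664035 IH)) (f675142 IH)) (Lfl_ef (f652255 IH))
theorem f675144 : v801 = v9269 :=
  Lefun (Lecon (Lfl_gf (f625404 IH)) (f675143 IH).symm) (f674966 IH)
theorem f675146 : v2575 = v3381 :=
  Lefun (Lecon (Lfl_gf (f674967 IH)) (f675144 IH).symm) (f625406 IH)
theorem f675147 : v6399 = v9290 :=
  Lefun (Lecon (f663913 IH) (f675146 IH).symm) (f675032 IH)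
theorem f675148 : v6413 = (LP (LK LD1_c3 LD2_c21 LD3_c18)) :=
  Lefun (Lecon (Lfl_df (f675036 IH)) (f675147 IH).symm) (Lfl_df (f653218 IH))
theorem f675151 : Led Lsl_ft (LP (LK LD1_c3 LD2_c21 LD3_c22)) = (LP (LK LD1_c3 LD2_c21 LD3_c18)) :=
  Leop (Lpq (f675148 IH) (Lpe (f653250 IH) (Lpn (LP (LK LD1_c3 LD2_c21 LD3_c22)))))
theorem seed_554 : LEOK LG_f (LK LD1_c3 LD2_c21 LD3_c22) :=
  Leoe_f (LK LD1_c3 LD2_c21 LD3_c22) (f675151 IH)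
def v6401 : LQ := Led Lsl_ft (LP (LK LD1_c3 LD2_c21 LD3_c18))
theorem f653221 : Led Lsl_ft (LP (LK LD1_c3 LD2_c21 LD3_c18)) = v6401 :=
  Lrfl
theorem f653223 : Led Lsl_ff (LP (LK LD1_c3 LD2_c21 LD3_c18)) = v6401 :=
  Lgr Lrot3 (Lpr_ft (f653221 IH) (Lpn v6401))
def v6397 : LQ := Led Lsl_at (LP (LK LD1_c3 LD2_c21 LD3_c18))
theorem f653210 : Led Lsl_at (LP (LK LD1_c3 LD2_c21 LD3_c18)) = v6397 :=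
  Lrfl
theorem f653211 : Led Lsl_af (LP (LK LD1_c3 LD2_c21 LD3_c18)) = v6397 :=
  Lgr Lrot0 (Lpr_at (f653210 IH) (Lpn v6397))
theorem f446269 : Led Lsl_gt (LP (LK LD1_c3 LD2_c21 LD3_c19)) = (LP (LK LD1_c1 LD2_c36 LD3_c55)) :=
  Lre_g IH (LK LD1_c3 LD2_c21 LD3_c19) (LK LD1_c1 LD2_c36 LD3_c55) Lrfl Lrfl
theorem f653212 : Led Lsl_ft (LP (LK LD1_c3 LD2_c21 LD3_c19)) = v6397 :=
  Lgr Lrot2 (Lpr_gt (f446269 IH) (Lpr_gt (K48.f141146 IH) (Lpr_af (f653211 IH) (Lpn v6397))))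
theorem f653213 : Led Lsl_ff (LP (LK LD1_c3 LD2_c21 LD3_c19)) = v6397 :=
  Lgr Lrot3 (Lpr_ft (f653212 IH) (Lpn v6397))
theorem f653224 : Led Lsl_at (LP (LK LD1_c3 LD2_c21 LD3_c19)) = v6401 :=
  Lgr Lrot66 (Lpr_ff (f653213 IH) (Lpe (f653210 IH) (Lpr_ff (f653223 IH) (Lpn v6401))))
theorem f675150 : (LP (LK LD1_c3 LD2_c21 LD3_c22)) = v6401 :=
  Lefun (Lecon (Lfl_ff (f653252 IH)) (f675148 IH)) (f653221 IH)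
theorem f675154 : Led Lsl_at (LP (LK LD1_c3 LD2_c21 LD3_c19)) = (LP (LK LD1_c3 LD2_c21 LD3_c22)) :=
  Leop (Lpqs (f675150 IH) (Lpe (f653224 IH) (Lpn (LP (LK LD1_c3 LD2_c21 LD3_c19)))))
theorem seed_555 : LEOK LG_a (LK LD1_c3 LD2_c21 LD3_c19) :=
  Leoe_a (LK LD1_c3 LD2_c21 LD3_c19) (f675154 IH)
def v4474 : LQ := Led Lsl_et (LP (LK LD1_c2 LD2_c22 LD3_c5))
theorem f634079 : Led Lsl_et (LP (LK LD1_c2 LD2_c22 LD3_c5)) = v4474 :=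
  Lrfl
theorem f634080 : Led Lsl_ef (LP (LK LD1_c2 LD2_c22 LD3_c5)) = v4474 :=
  Lgr Lrot88 (Lpr_et (f634079 IH) (Lpn v4474))
theorem f663523 : Led Lsl_et (LP (LK LD1_c6 LD2_c12 LD3_c23)) = (LP (LK LD1_c6 LD2_c42 LD3_c40)) :=
  Lgr Lrot87 (Lpr_ef (K48.f663521 IH) (Lpn (LP (LK LD1_c6 LD2_c42 LD3_c40))))
def v6412 : LQ := Led Lsl_et (LP (LK LD1_c3 LD2_c21 LD3_c22))
theorem f653248 : Led Lsl_et (LP (LK LD1_c3 LD2_c21 LD3_c22)) = v6412 :=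
  Lrfl
theorem f653249 : Led Lsl_ef (LP (LK LD1_c3 LD2_c21 LD3_c22)) = v6412 :=
  Lgr Lrot88 (Lpr_et (f653248 IH) (Lpn v6412))
theorem f675103 : v6412 = (LP (LK LD1_c4 LD2_c48 LD3_c14)) :=
  (Llr Lrot73 (Lpe (f653249 IH) (Lpr_dt (f653246 IH) (Lpqs (f675041 IH) (Lpr_et (f663523 IH) (Lpr_dt (K48.f66572 IH) (Lpr_et (f432224 IH) (Lpr_dt (f432217 IH) (Lpn (LP (LK LD1_c4 LD2_c48 LD3_c14))))))))))).symm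
theorem f634072 : Led Lsl_af (LP (LK LD1_c2 LD2_c22 LD3_c5)) = v4472 :=
  Lgr Lrot45 (Lpr_ft (f634064 IH) (Lpe (f634063 IH) (Lpr_ft (f634071 IH) (Lpn v4472))))
theorem f675108 : v6409 = v4474 :=
  (Llr Lrot50 (Lpe (f653240 IH) (Lpr_et (f653248 IH) (Lpqs (f675103 IH) (Lpq (f675078 IH) (Lpe (f634072 IH) (Lpr_et (f634079 IH) (Lpn v4474)))))))).symm
theorem f675149 : K48.v2180 = v6397 :=
  Lefun (Lecon (Lfl_af (f653251 IH)) (f675148 IH)) (f653210 IH)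
theorem f675153 : (LP (LK LD1_c3 LD2_c21 LD3_c19)) = v6409 :=
  Lefun (Lecon (Lfl_ff (f653213 IH)) (f675149 IH).symm) (f653241 IH)
def v6403 : LQ := Led Lsl_dt (LP (LK LD1_c3 LD2_c21 LD3_c19))
theorem f653227 : Led Lsl_dt (LP (LK LD1_c3 LD2_c21 LD3_c19)) = v6403 :=
  Lrfl
theorem f84483 : Led Lsl_et (LP (LK LD1_c0 LD2_c31 LD3_c14)) = (LP (LK LD1_c1 LD2_c8 LD3_c12)) :=
  Lre_e IH (LK LD1_c0 LD2_c31 LD3_c14) (LK LD1_c1 LD2_c8 LD3_c12) Lrfl Lrfl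
theorem f675162 : Led Lsl_gf v6403 = v5263 :=
  Lgr Lrot134 (Lpe (f653227 IH) (Lpqs (f675153 IH) (Lpqs (f675108 IH) (Lpe (f634080 IH) (Lpr_gt (f84487 IH) (Lpe (f84483 IH) (Lpe (K5.f84582 IH) (Lpr_gt (K3.f9670 IH) (Lpr_df (K3.f109390 IH) (Lpr_et (K46.f129277 IH) (Lpr_gt (K48.f506883 IH) (Lpq (K48.f662754 IH) (Lpr_dt (f646837 IH) (Lpn v5263))))))))))))))
theorem f675164 : Led Lsl_gt v6403 = K48.v4253 :=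
  Lgr Lrot46 (Lpr_gf (f675162 IH) (Lpr_ft (f663517 IH) (Lpe (f663516 IH) (Lpn K48.v4253))))
theorem f509488 : Led Lsl_gf (LP (LK LD1_c3 LD2_c21 LD3_c19)) = K48.v2176 :=
  Lgr Lrot47 (Lpr_gt (f446269 IH) (Lpe (K48.f454026 IH) (Lpr_ff (K48.f509482 IH) (Lpn K48.v2176))))
theorem f454031 : Led Lsl_at (LP (LK LD1_c1 LD2_c36 LD3_c55)) = (LP (LK LD1_c3 LD2_c21 LD3_c15)) :=
  Lre_a IH (LK LD1_c1 LD2_c36 LD3_c55) (LK LD1_c3 LD2_c21 LD3_c15) Lrfl Lrfl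
theorem f454724 : Led Lsl_gf (LP (LK LD1_c3 LD2_c21 LD3_c15)) = (LP (LK LD1_c3 LD2_c21 LD3_c22)) :=
  Lgr Lrot76 (Lpe (f454031 IH) (Lpr_ff (K46.f454714 IH) (Lpr_gt (f413645 IH) (Lpn (LP (LK LD1_c3 LD2_c21 LD3_c22))))))
theorem f20164 : Led Lsl_et (LP (LK LD1_c2 LD2_c17 LD3_c38)) = (LP (LK LD1_c4 LD2_c41 LD3_c12)) :=
  Lre_e IH (LK LD1_c2 LD2_c17 LD3_c38) (LK LD1_c4 LD2_c41 LD3_c12) Lrfl Lrfl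
theorem f675166 : Led Lsl_gf (LP (LK LD1_c6 LD2_c42 LD3_c40)) = (LP (LK LD1_c4 LD2_c41 LD3_c12)) :=
  Lgr Lrot141 (Lpe (f663523 IH) (Lpq (f675041 IH) (Lpe (f653247 IH) (Lpe (f454724 IH) (Lpe (K48.f454731 IH) (Lpr_et (K48.f509477 IH) (Lpe (f509488 IH) (Lpr_dt (f653227 IH) (Lpr_gt (f675164 IH) (Lpe (K48.f632224 IH) (Lpr_et (f20164 IH) (Lpn (LP (LK LD1_c4 LD2_c41 LD3_c12))))))))))))))
theorem f675167 : Led Lsl_gt (LP (LK LD1_c4 LD2_c41 LD3_c12)) = (LP (LK LD1_c6 LD2_c42 LD3_c40)) :=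
  Leop (Lpr_gf (f675166 IH) (Lpn (LP (LK LD1_c4 LD2_c41 LD3_c12))))
theorem seed_556 : LEOK LG_g (LK LD1_c4 LD2_c41 LD3_c12) :=
  Leoe_g (LK LD1_c4 LD2_c41 LD3_c12) (f675167 IH)
def v8726 : LQ := Led Lsl_et K48.v2180
theorem f672093 : Led Lsl_et K48.v2180 = v8726 :=
  Lrfl
theorem f672094 : Led Lsl_ef K48.v2180 = v8726 :=
  Lgr Lrot88 (Lpr_et (f672093 IH) (Lpn v8726))
theorem f653242 : Led Lsl_ff K48.v2180 = v6409 :=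
  Lgr Lrot3 (Lpr_ft (f653241 IH) (Lpn v6409))
theorem f653253 : Led Lsl_at K48.v2180 = v6413 :=
  Lgr Lrot66 (Lpr_ff (f653242 IH) (Lpe (f653239 IH) (Lpr_ff (f653252 IH) (Lpn v6413))))
theorem f675200 : Led Lsl_af v8726 = K48.v6400 :=
  Lgr Lrot50 (Lpe (f672094 IH) (Lpr_at (f653253 IH) (Lpqs (f675148 IH) (Lpr_et (K48.f653219 IH) (Lpn K48.v6400)))))
def v2559 : LQ := Led Lsl_gf (LP (LK LD1_c1 LD2_c48 LD3_c37))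
def v9253 : LQ := Led Lsl_et v2559
theorem f674904 : Led Lsl_et v2559 = v9253 :=
  Lrfl
def v9252 : LQ := Led Lsl_dt v2559
theorem f674901 : Led Lsl_dt v2559 = v9252 :=
  Lrfl
theorem f674902 : Led Lsl_df v2559 = v9252 :=
  Lgr Lrot38 (Lpr_dt (f674901 IH) (Lpn v9252))
theorem f527480 : Led Lsl_gf (LP (LK LD1_c1 LD2_c48 LD3_c37)) = v2559 :=
  Lrfl
theorem f24945 : Led Lsl_dt (LP (LK LD1_c3 LD2_c19 LD3_c14)) = (LP (LK LD1_c1 LD2_c36 LD3_c2)) :=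
  Lre_d IH (LK LD1_c3 LD2_c19 LD3_c14) (LK LD1_c1 LD2_c36 LD3_c2) Lrfl Lrfl
theorem f24946 : Led Lsl_et (LP (LK LD1_c3 LD2_c19 LD3_c14)) = (LP (LK LD1_c6 LD2_c42 LD3_c33)) :=
  Lre_e IH (LK LD1_c3 LD2_c19 LD3_c14) (LK LD1_c6 LD2_c42 LD3_c33) Lrfl Lrfl
theorem f674903 : Led Lsl_gt (LP (LK LD1_c6 LD2_c42 LD3_c33)) = v9252 :=
  Lgr Lrot137 (Lpe (f24946 IH) (Lpr_dt (f24945 IH) (Lpe (K46.f24863 IH) (Lpe (K48.f24860 IH) (Lpr_et (K48.f24674 IH) (Lpe (K5.f86761 IH) (Lpe (K3.f86776 IH) (Lpr_dt (K3.f86777 IH) (Lpr_gf (f527480 IH) (Lpr_df (f674902 IH) (Lpn v9252)))))))))))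
def v5827 : LQ := Led Lsl_et (LP (LK LD1_c3 LD2_c13 LD3_c51))
theorem f649685 : Led Lsl_et (LP (LK LD1_c3 LD2_c13 LD3_c51)) = v5827 :=
  Lrfl
theorem f148408 : Led Lsl_et (LP (LK LD1_c6 LD2_c42 LD3_c33)) = (LP (LK LD1_c3 LD2_c19 LD3_c14)) :=
  Lre_e IH (LK LD1_c6 LD2_c42 LD3_c33) (LK LD1_c3 LD2_c19 LD3_c14) Lrfl Lrfl
theorem f649686 : Led Lsl_df (LP (LK LD1_c6 LD2_c42 LD3_c33)) = v5827 :=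
  Lgr Lrot70 (Lpr_et (f148408 IH) (Lpr_dt (f24945 IH) (Lpr_et (K48.f148407 IH) (Lpr_dt (K48.f148401 IH) (Lpr_et (f649685 IH) (Lpn v5827))))))
theorem f653185 : Led Lsl_df (LP (LK LD1_c4 LD2_c49 LD3_c59)) = K48.v6392 :=
  Lgr Lrot70 (Lpr_et (K46.f454623 IH) (Lpr_dt (f509486 IH) (Lpe (K48.f509479 IH) (Lpr_dt (K48.f454731 IH) (Lpr_et (K48.f653183 IH) (Lpn K48.v6392))))))
theorem f416114 : Led Lsl_et (LP (LK LD1_c1 LD2_c27 LD3_c19)) = (LP (LK LD1_c3 LD2_c2 LD3_c47)) :=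
  Lre_e IH (LK LD1_c1 LD2_c27 LD3_c19) (LK LD1_c3 LD2_c2 LD3_c47) Lrfl Lrfl
theorem f413504 : Led Lsl_gt (LP (LK LD1_c3 LD2_c2 LD3_c47)) = (LP (LK LD1_c6 LD2_c12 LD3_c25)) :=
  Lre_g IH (LK LD1_c3 LD2_c2 LD3_c47) (LK LD1_c6 LD2_c12 LD3_c25) Lrfl Lrfl
theorem f663542 : v5827 = (LP (LK LD1_c6 LD2_c12 LD3_c25)) :=
  (Llr Lrot122 (Lpe (f649685 IH) (Lpe (K48.f148405 IH) (Lpq (K48.f662725 IH) (Lpe (K48.f653236 IH) (Lpr_df (f653185 IH) (Lpe (K48.f653186 IH) (Lpr_gt (K48.f509498 IH) (Lpr_dt (f662777 IH) (Lpqs (f663541 IH) (Lpe (f646850 IH) (Lpe (f416130 IH) (Lpr_et (f416114 IH) (Lpr_gt (f413504 IH) (Lpn (LP (LK LD1_c6 LD2_c12 LD3_c25))))))))))))))))).symm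
theorem f674906 : Led Lsl_gf v8726 = v9253 :=
  Lgr Lrot141 (Lpe (f672093 IH) (Lpr_dt (f662777 IH) (Lpqs (f663541 IH) (Lpe (f646850 IH) (Lpe (f416130 IH) (Lpr_et (f416114 IH) (Lpr_gt (f413504 IH) (Lpq (f663542 IH) (Lpe (f649686 IH) (Lpr_gt (f674903 IH) (Lpe (f674901 IH) (Lpr_et (f674904 IH) (Lpn v9253)))))))))))))
def v4471 : LQ := Led Lsl_et (LP (LK LD1_c2 LD2_c22 LD3_c4))
theorem f634069 : Led Lsl_et (LP (LK LD1_c2 LD2_c22 LD3_c4)) = v4471 :=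
  Lrfl
theorem f675189 : Led Lsl_ff K48.v6400 = v4471 :=
  Lgr Lrot72 (Lpe (K48.f653220 IH) (Lpq (f675148 IH) (Lpe (f653252 IH) (Lpr_et (f653248 IH) (Lpqs (f675103 IH) (Lpq (f675078 IH) (Lpe (f634073 IH) (Lpr_et (f634069 IH) (Lpn v4471)))))))))
theorem f675202 : Led Lsl_gf v9253 = v4471 :=
  Lgr Lrot47 (Lpe (f674906 IH) (Lpr_af (f675200 IH) (Lpr_ff (f675189 IH) (Lpn v4471))))
def v2574 : LQ := Led Lsl_dt (LP (LK LD1_c1 LD2_c48 LD3_c49))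
def v9285 : LQ := Led Lsl_gt v2574
theorem f675016 : Led Lsl_gt v2574 = v9285 :=
  Lrfl
theorem f527550 : Led Lsl_dt (LP (LK LD1_c1 LD2_c48 LD3_c49)) = v2574 :=
  Lrfl
theorem f436778 : Led Lsl_et (LP (LK LD1_c0 LD2_c51 LD3_c4)) = (LP (LK LD1_c1 LD2_c48 LD3_c37)) :=
  Lre_e IH (LK LD1_c0 LD2_c51 LD3_c4) (LK LD1_c1 LD2_c48 LD3_c37) Lrfl Lrfl
theorem f674905 : Led Lsl_ef v2559 = v9253 :=
  Lgr Lrot88 (Lpr_et (f674904 IH) (Lpn v9253))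
theorem f675017 : Led Lsl_dt v9253 = v9285 :=
  Lgr Lrot56 (Lpe (f674905 IH) (Lpe (f527480 IH) (Lpe (f436778 IH) (Lpr_dt (K4.f5810 IH) (Lpr_gt (K4.f26221 IH) (Lpe (K4.f64387 IH) (Lpr_et (K24.f124188 IH) (Lpr_gt (K48.f134805 IH) (Lpr_dt (f527550 IH) (Lpr_gt (f675016 IH) (Lpn v9285)))))))))))
theorem f527481 : Led Lsl_gt (LP (LK LD1_c3 LD2_c13 LD3_c40)) = v2559 :=
  Lgr Lrot5 (Lpr_ft (K3.f23641 IH) (Lpr_at (K3.f107043 IH) (Lpr_gf (f527480 IH) (Lpn v2559))))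
theorem f23610 : Led Lsl_et (LP (LK LD1_c1 LD2_c33 LD3_c22)) = (LP (LK LD1_c0 LD2_c43 LD3_c17)) :=
  Lre_e IH (LK LD1_c1 LD2_c33 LD3_c22) (LK LD1_c0 LD2_c43 LD3_c17) Lrfl Lrfl
theorem f527470 : Led Lsl_ef (LP (LK LD1_c3 LD2_c13 LD3_c40)) = K48.v2557 :=
  Lgr Lrot21 (Lpr_ft (K3.f23641 IH) (Lpr_et (f23610 IH) (Lpe (K4.f121267 IH) (Lpr_et (K5.f121275 IH) (Lpr_ft (K48.f527467 IH) (Lpn K48.v2557))))))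
def v3392 : LQ := Led Lsl_dt K48.v799
theorem f625474 : Led Lsl_dt K48.v799 = v3392 :=
  Lrfl
theorem f675019 : Led Lsl_gf v3392 = v9285 :=
  Lgr Lrot145 (Lpe (f625474 IH) (Lpr_et (K48.f625476 IH) (Lpqs (f663541 IH) (Lpe (f646850 IH) (Lpr_dt (K48.f416115 IH) (Lpr_gt (K46.f413474 IH) (Lpqs (K48.f649438 IH) (Lpe (K48.f509467 IH) (Lpq (K46.f649437 IH) (Lpq (K48.f662825 IH) (Lpe (f527470 IH) (Lpr_gt (f527481 IH) (Lpr_ef (f674905 IH) (Lpr_dt (f675017 IH) (Lpn v9285)))))))))))))))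
theorem f416116 : Led Lsl_et (LP (LK LD1_c6 LD2_c12 LD3_c24)) = (LP (LK LD1_c3 LD2_c2 LD3_c46)) :=
  Lre_e IH (LK LD1_c6 LD2_c12 LD3_c24) (LK LD1_c3 LD2_c2 LD3_c46) Lrfl Lrfl
theorem f84592 : Led Lsl_dt (LP (LK LD1_c2 LD2_c22 LD3_c4)) = (LP (LK LD1_c4 LD2_c48 LD3_c22)) :=
  Lre_d IH (LK LD1_c2 LD2_c22 LD3_c4) (LK LD1_c4 LD2_c48 LD3_c22) Lrfl Lrfl
theorem f634059 : Led Lsl_gt (LP (LK LD1_c9 LD2_c29 LD3_c27)) = (LP (LK LD1_c4 LD2_c48 LD3_c22)) :=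
  Lre_g IH (LK LD1_c9 LD2_c29 LD3_c27) (LK LD1_c4 LD2_c48 LD3_c22) Lrfl Lrfl
theorem f675203 : Led Lsl_dt (LP (LK LD1_c6 LD2_c12 LD3_c24)) = (LP (LK LD1_c9 LD2_c29 LD3_c27)) :=
  Lgr Lrot136 (Lpr_et (f416116 IH) (Lpr_gf (f646850 IH) (Lpq (f663541 IH) (Lpe (K48.f625476 IH) (Lpr_dt (f625474 IH) (Lpr_gf (f675019 IH) (Lpe (f675017 IH) (Lpr_gf (f675202 IH) (Lpe (f634069 IH) (Lpr_dt (f84592 IH) (Lpe (f634059 IH) (Lpn (LP (LK LD1_c9 LD2_c29 LD3_c27))))))))))))))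
theorem f675204 : Led Lsl_dt (LP (LK LD1_c6 LD2_c12 LD3_c24)) = (LP (LK LD1_c9 LD2_c29 LD3_c27)) :=
  Leop (Lpe (f675203 IH) (Lpn (LP (LK LD1_c6 LD2_c12 LD3_c24))))
theorem seed_557 : LEOK LG_d (LK LD1_c6 LD2_c12 LD3_c24) :=
  Leoe_d (LK LD1_c6 LD2_c12 LD3_c24) (f675204 IH)
def v6404 : LQ := Led Lsl_et (LP (LK LD1_c3 LD2_c21 LD3_c19))
theorem f653229 : Led Lsl_et (LP (LK LD1_c3 LD2_c21 LD3_c19)) = v6404 :=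
  Lrfl
theorem f653230 : Led Lsl_ef (LP (LK LD1_c3 LD2_c21 LD3_c19)) = v6404 :=
  Lgr Lrot88 (Lpr_et (f653229 IH) (Lpn v6404))
theorem f675156 : (LP (LK LD1_c2 LD2_c22 LD3_c5)) = v6404 :=
  Lefun (Lecon (Lfl_ef (f634080 IH)) ((f675108 IH).symm.trans (f675153 IH).symm)) (f653229 IH)
theorem f430532 : Led Lsl_dt (LP (LK LD1_c2 LD2_c22 LD3_c5)) = (LP (LK LD1_c4 LD2_c48 LD3_c24)) :=
  Lre_d IH (LK LD1_c2 LD2_c22 LD3_c5) (LK LD1_c4 LD2_c48 LD3_c24) Lrfl Lrfl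
theorem f675213 : Led Lsl_gt (LP (LK LD1_c4 LD2_c48 LD3_c24)) = (LP (LK LD1_c9 LD2_c29 LD3_c27)) :=
  Lgr Lrot112 (Lpe (f430532 IH) (Lpqs (f675156 IH) (Lpe (f653230 IH) (Lpr_gf (f509488 IH) (Lpe (K48.f509477 IH) (Lpr_dt (K48.f454731 IH) (Lpr_gf (f454724 IH) (Lpr_df (f653247 IH) (Lpqs (f675041 IH) (Lpe (K48.f502935 IH) (Lpe (f416116 IH) (Lpr_dt (f675203 IH) (Lpn (LP (LK LD1_c9 LD2_c29 LD3_c27)))))))))))))))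
theorem f675214 : Led Lsl_gt (LP (LK LD1_c4 LD2_c48 LD3_c24)) = (LP (LK LD1_c9 LD2_c29 LD3_c27)) :=
  Leop (Lpe (f675213 IH) (Lpn (LP (LK LD1_c4 LD2_c48 LD3_c24))))
theorem seed_558 : LEOK LG_g (LK LD1_c4 LD2_c48 LD3_c24) :=
  Leoe_g (LK LD1_c4 LD2_c48 LD3_c24) (f675214 IH)
def v2663 : LQ := Led Lsl_et (LP (LK LD1_c1 LD2_c51 LD3_c37))
def v9422 : LQ := Led Lsl_ft v2663
theorem f675851 : Led Lsl_ft v2663 = v9422 :=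
  Lrfl
theorem f675857 : Led Lsl_ff v2663 = v9422 :=
  Lgr Lrot3 (Lpr_ft (f675851 IH) (Lpn v9422))
theorem f530179 : Led Lsl_et (LP (LK LD1_c1 LD2_c51 LD3_c37)) = v2663 :=
  Lrfl
theorem f530181 : Led Lsl_ef (LP (LK LD1_c1 LD2_c51 LD3_c37)) = v2663 :=
  Lgr Lrot88 (Lpr_et (f530179 IH) (Lpn v2663))
theorem f528731 : Led Lsl_ff (LP (LK LD1_c1 LD2_c54 LD3_c17)) = (LP (LK LD1_c3 LD2_c47 LD3_c8)) :=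
  Lgr Lrot3 (Lpr_ft (K35.f528727 IH) (Lpn (LP (LK LD1_c3 LD2_c47 LD3_c8))))
theorem f528725 : Led Lsl_at (LP (LK LD1_c3 LD2_c49 LD3_c11)) = (LP (LK LD1_c3 LD2_c47 LD3_c8)) :=
  Lgr Lrot100 (Lpr_af (K35.f528692 IH) (Lpn (LP (LK LD1_c3 LD2_c47 LD3_c8))))
theorem f529071 : Led Lsl_ff (LP (LK LD1_c3 LD2_c49 LD3_c11)) = (LP (LK LD1_c3 LD2_c47 LD3_c9)) :=
  Lgr Lrot30 (Lpr_at (f528725 IH) (Lpe (f528731 IH) (Lpr_at (K35.f529067 IH) (Lpn (LP (LK LD1_c3 LD2_c47 LD3_c9))))))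
theorem f529073 : Led Lsl_ft (LP (LK LD1_c1 LD2_c51 LD3_c37)) = (LP (LK LD1_c3 LD2_c49 LD3_c1)) :=
  Lgr Lrot75 (Lpe (K29.f467438 IH) (Lpr_ff (f529071 IH) (Lpr_bf (K29.f479179 IH) (Lpn (LP (LK LD1_c3 LD2_c49 LD3_c1))))))
def v7445 : LQ := Led Lsl_gt (LP (LK LD1_c3 LD2_c48 LD3_c0))
theorem f665621 : Led Lsl_gt (LP (LK LD1_c3 LD2_c48 LD3_c0)) = v7445 :=
  Lrfl
theorem f120570 : Led Lsl_et (LP (LK LD1_c0 LD2_c51 LD3_c58)) = (LP (LK LD1_c1 LD2_c50 LD3_c14)) :=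
  Lre_e IH (LK LD1_c0 LD2_c51 LD3_c58) (LK LD1_c1 LD2_c50 LD3_c14) Lrfl Lrfl
theorem f665628 : Led Lsl_dt (LP (LK LD1_c7 LD2_c3 LD3_c42)) = v7445 :=
  Lgr Lrot56 (Lpr_et (K35.f527950 IH) (Lpe (K34.f527943 IH) (Lpe (f120570 IH) (Lpr_dt (K7.f5791 IH) (Lpe (K4.f107198 IH) (Lpe (K3.f5259 IH) (Lpr_et (K5.f26192 IH) (Lpr_gt (K28.f468097 IH) (Lpr_dt (K29.f129805 IH) (Lpr_gt (f665621 IH) (Lpn v7445)))))))))))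
theorem f522749 : Led Lsl_et (LP (LK LD1_c1 LD2_c50 LD3_c18)) = (LP (LK LD1_c3 LD2_c46 LD3_c26)) :=
  Lre_e IH (LK LD1_c1 LD2_c50 LD3_c18) (LK LD1_c3 LD2_c46 LD3_c26) Lrfl Lrfl
theorem f528133 : Led Lsl_ff (LP (LK LD1_c7 LD2_c3 LD3_c42)) = (LP (LK LD1_c7 LD2_c48 LD3_c3)) :=
  Lgr Lrot72 (Lpr_et (K35.f527950 IH) (Lpe (K34.f527945 IH) (Lpq (K35.f528041 IH) (Lpr_et (f522749 IH) (Lpr_ft (K35.f528129 IH) (Lpe (K47.f488263 IH) (Lpn (LP (LK LD1_c7 LD2_c48 LD3_c3)))))))))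
theorem f665631 : Led Lsl_ff (LP (LK LD1_c3 LD2_c53 LD3_c7)) = v7445 :=
  Lgr Lrot19 (Lpr_dt (K29.f129896 IH) (Lpe (f528133 IH) (Lpr_dt (f665628 IH) (Lpn v7445))))
theorem f665632 : Led Lsl_ft (LP (LK LD1_c3 LD2_c53 LD3_c7)) = v7445 :=
  Lgr Lrot48 (Lpr_ff (f665631 IH) (Lpn v7445))
theorem f675863 : Led Lsl_et v7445 = v9422 :=
  Lgr Lrot69 (Lpe (f665632 IH) (Lpe (K29.f477605 IH) (Lpe (f529073 IH) (Lpr_ef (f530181 IH) (Lpr_ff (f675857 IH) (Lpn v9422))))))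
def v7129 : LQ := Led Lsl_at (LP (LK LD1_c3 LD2_c39 LD3_c40))
theorem f661388 : Led Lsl_at (LP (LK LD1_c3 LD2_c39 LD3_c40)) = v7129 :=
  Lrfl
theorem f479669 : Led Lsl_ft (LP (LK LD1_c7 LD2_c19 LD3_c32)) = (LP (LK LD1_c3 LD2_c39 LD3_c40)) :=
  Lre_f IH (LK LD1_c7 LD2_c19 LD3_c32) (LK LD1_c3 LD2_c39 LD3_c40) Lrfl Lrfl
theorem f661394 : Led Lsl_gt (LP (LK LD1_c6 LD2_c52 LD3_c25)) = v7129 :=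
  Lgr Lrot46 (Lpe (K47.f529204 IH) (Lpr_ft (f479669 IH) (Lpr_at (f661388 IH) (Lpn v7129))))
theorem f661395 : Led Lsl_gf (LP (LK LD1_c7 LD2_c12 LD3_c24)) = v7129 :=
  Lgr Lrot76 (Lpe (K33.f510773 IH) (Lpr_ff (K33.f510765 IH) (Lpr_gt (f661394 IH) (Lpn v7129))))
theorem f511161 : Led Lsl_df (LP (LK LD1_c13 LD2_c44 LD3_c4)) = (LP (LK LD1_c13 LD2_c14 LD3_c12)) :=
  Lgr Lrot38 (Lpr_dt (K47.f511154 IH) (Lpn (LP (LK LD1_c13 LD2_c14 LD3_c12))))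
theorem f661397 : Led Lsl_dt (LP (LK LD1_c6 LD2_c58 LD3_c16)) = v7129 :=
  Lgr Lrot57 (Lpe (K47.f455266 IH) (Lpe (K47.f455152 IH) (Lpr_gt (K47.f455403 IH) (Lpe (f511161 IH) (Lpe (K33.f490114 IH) (Lpr_dt (K33.f510677 IH) (Lpr_cf (K33.f464927 IH) (Lpr_df (K33.f489724 IH) (Lpr_gf (f661395 IH) (Lpn v7129))))))))))
theorem f528165 : Led Lsl_ft (LP (LK LD1_c7 LD2_c3 LD3_c43)) = (LP (LK LD1_c3 LD2_c46 LD3_c27)) :=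
  Lgr Lrot54 (Lpe (K34.f488253 IH) (Lpr_ff (K35.f528161 IH) (Lpr_df (K30.f476491 IH) (Lpn (LP (LK LD1_c3 LD2_c46 LD3_c27))))))
theorem f529717 : Led Lsl_af (LP (LK LD1_c7 LD2_c3 LD3_c42)) = (LP (LK LD1_c3 LD2_c46 LD3_c27)) :=
  Lgr Lrot45 (Lpr_ft (K35.f528141 IH) (Lpe (K35.f528145 IH) (Lpr_ft (f528165 IH) (Lpn (LP (LK LD1_c3 LD2_c46 LD3_c27))))))
theorem f529719 : Led Lsl_at (LP (LK LD1_c7 LD2_c3 LD3_c42)) = (LP (LK LD1_c3 LD2_c46 LD3_c27)) :=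
  Lgr Lrot100 (Lpr_af (f529717 IH) (Lpn (LP (LK LD1_c3 LD2_c46 LD3_c27))))
theorem f661390 : Led Lsl_cf (LP (LK LD1_c7 LD2_c3 LD3_c42)) = v7129 :=
  Lgr Lrot1 (Lpr_at (f529719 IH) (Lpe (K33.f479667 IH) (Lpr_at (f661388 IH) (Lpn v7129))))
theorem f665624 : Led Lsl_df (LP (LK LD1_c7 LD2_c3 LD3_c42)) = v7445 :=
  Lgr Lrot84 (Lpr_cf (f661390 IH) (Lpe (f661397 IH) (Lpe (K47.f455266 IH) (Lpe (K47.f455151 IH) (Lpr_gf (K28.f462041 IH) (Lpr_cf (K8.f108025 IH) (Lpr_gt (K28.f468097 IH) (Lpr_dt (K29.f129805 IH) (Lpr_gt (f665621 IH) (Lpn v7445))))))))))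
def v7668 : LQ := Led Lsl_et (LP (LK LD1_c3 LD2_c54 LD3_c29))
theorem f667556 : Led Lsl_et (LP (LK LD1_c3 LD2_c54 LD3_c29)) = v7668 :=
  Lrfl
def v6994 : LQ := Led Lsl_dt (LP (LK LD1_c3 LD2_c35 LD3_c35))
theorem f659850 : Led Lsl_dt (LP (LK LD1_c3 LD2_c35 LD3_c35)) = v6994 :=
  Lrfl
theorem f659853 : Led Lsl_df (LP (LK LD1_c3 LD2_c35 LD3_c35)) = v6994 :=
  Lgr Lrot38 (Lpr_dt (f659850 IH) (Lpn v6994))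
theorem f659854 : Led Lsl_ef (LP (LK LD1_c3 LD2_c35 LD3_c36)) = v6994 :=
  Lgr Lrot73 (Lpr_dt (K2.f19390 IH) (Lpr_et (K3.f19375 IH) (Lpr_dt (K2.f10298 IH) (Lpr_et (K2.f87154 IH) (Lpr_dt (f659850 IH) (Lpn v6994))))))
def v2703 : LQ := Led Lsl_dt (LP (LK LD1_c1 LD2_c53 LD3_c20))
theorem f530479 : Led Lsl_dt (LP (LK LD1_c1 LD2_c53 LD3_c20)) = v2703 :=
  Lrfl
theorem f530481 : Led Lsl_df (LP (LK LD1_c1 LD2_c53 LD3_c20)) = v2703 :=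
  Lgr Lrot38 (Lpr_dt (f530479 IH) (Lpn v2703))
theorem f667560 : Led Lsl_gf v2703 = v7668 :=
  Lgr Lrot138 (Lpe (f530481 IH) (Lpr_gt (K29.f470912 IH) (Lpe (K3.f86835 IH) (Lpr_et (K3.f86839 IH) (Lpe (K3.f105769 IH) (Lpr_ef (f659854 IH) (Lpe (f659853 IH) (Lpr_gt (K29.f467249 IH) (Lpe (K34.f456070 IH) (Lpr_et (f667556 IH) (Lpn v7668)))))))))))
theorem f160458 : Led Lsl_dt (LP (LK LD1_c7 LD2_c13 LD3_c55)) = (LP (LK LD1_c3 LD2_c36 LD3_c50)) :=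
  Lre_d IH (LK LD1_c7 LD2_c13 LD3_c55) (LK LD1_c3 LD2_c36 LD3_c50) Lrfl Lrfl
theorem f530789 : Led Lsl_at (LP (LK LD1_c7 LD2_c7 LD3_c16)) = (LP (LK LD1_c7 LD2_c13 LD3_c55)) :=
  Lgr Lrot100 (Lpr_af (K41.f530787 IH) (Lpn (LP (LK LD1_c7 LD2_c13 LD3_c55))))
theorem f530774 : Led Lsl_ft (LP (LK LD1_c7 LD2_c13 LD3_c52)) = (LP (LK LD1_c7 LD2_c7 LD3_c16)) :=
  Lgr Lrot54 (Lpe (K33.f17402 IH) (Lpr_ff (K41.f530768 IH) (Lpe (K41.f160217 IH) (Lpn (LP (LK LD1_c7 LD2_c7 LD3_c16))))))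
theorem f531258 : Led Lsl_gt (LP (LK LD1_c13 LD2_c41 LD3_c3)) = (LP (LK LD1_c7 LD2_c13 LD3_c55)) :=
  Lgr Lrot46 (Lpe (K33.f98590 IH) (Lpr_ft (f530774 IH) (Lpr_at (f530789 IH) (Lpn (LP (LK LD1_c7 LD2_c13 LD3_c55))))))
theorem f518620 : Led Lsl_gf (LP (LK LD1_c7 LD2_c17 LD3_c5)) = (LP (LK LD1_c7 LD2_c6 LD3_c12)) :=
  Lgr Lrot76 (Lpe (K33.f517467 IH) (Lpe (K47.f517153 IH) (Lpr_gt (K33.f518618 IH) (Lpn (LP (LK LD1_c7 LD2_c6 LD3_c12))))))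
theorem f667562 : Led Lsl_dt (LP (LK LD1_c7 LD2_c0 LD3_c48)) = v7668 :=
  Lgr Lrot57 (Lpe (K47.f526275 IH) (Lpr_cf (K34.f488187 IH) (Lpe (f518620 IH) (Lpe (K33.f488559 IH) (Lpr_gt (f531258 IH) (Lpr_dt (f160458 IH) (Lpe (K28.f465228 IH) (Lpr_df (f530481 IH) (Lpr_gf (f667560 IH) (Lpn v7668))))))))))
def v2704 : LQ := Led Lsl_et (LP (LK LD1_c1 LD2_c53 LD3_c20))
theorem f530483 : Led Lsl_et (LP (LK LD1_c1 LD2_c53 LD3_c20)) = v2704 :=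
  Lrfl
theorem f675864 : Led Lsl_gt v2704 = v9422 :=
  Lgr Lrot131 (Lpe (f530483 IH) (Lpr_dt (f530479 IH) (Lpr_gf (f667560 IH) (Lpe (f667562 IH) (Lpe (K47.f526275 IH) (Lpe (K34.f488240 IH) (Lpr_dt (K33.f17692 IH) (Lpr_gf (K35.f511840 IH) (Lpr_df (f665624 IH) (Lpr_et (f675863 IH) (Lpn v9422)))))))))))
def v7025 : LQ := Led Lsl_et (LP (LK LD1_c3 LD2_c36 LD3_c50))
theorem f660405 : Led Lsl_et (LP (LK LD1_c3 LD2_c36 LD3_c50)) = v7025 :=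
  Lrfl
theorem f530485 : Led Lsl_ef (LP (LK LD1_c1 LD2_c53 LD3_c20)) = v2704 :=
  Lgr Lrot88 (Lpr_et (f530483 IH) (Lpn v2704))
theorem f660407 : Led Lsl_cf v2704 = v7025 :=
  Lgr Lrot39 (Lpe (f530485 IH) (Lpr_ct (K28.f465228 IH) (Lpr_et (f660405 IH) (Lpn v7025))))
theorem f660408 : Led Lsl_ef (LP (LK LD1_c3 LD2_c36 LD3_c50)) = v7025 :=
  Lgr Lrot88 (Lpr_et (f660405 IH) (Lpn v7025))
theorem f660410 : Led Lsl_ct v2704 = v7025 :=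
  Lgr Lrot15 (Lpe (f530483 IH) (Lpr_cf (K41.f465235 IH) (Lpr_ef (f660408 IH) (Lpn v7025))))
def v875 : LQ := Led Lsl_et (LP (LK LD1_c0 LD2_c53 LD3_c15))
theorem f490195 : Led Lsl_et (LP (LK LD1_c0 LD2_c53 LD3_c15)) = v875 :=
  Lrfl
theorem f490196 : Led Lsl_ef (LP (LK LD1_c0 LD2_c53 LD3_c15)) = v875 :=
  Lgr Lrot88 (Lpr_et (f490195 IH) (Lpn v875))
theorem f530484 : Led Lsl_bf v875 = v2704 :=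
  Lgr Lrot96 (Lpe (f490196 IH) (Lpr_bt (K28.f465230 IH) (Lpr_et (f530483 IH) (Lpn v2704))))
def v3472 : LQ := Led Lsl_et K30.v870
theorem f625795 : Led Lsl_et K30.v870 = v3472 :=
  Lrfl
theorem f625801 : Led Lsl_gt v875 = v3472 :=
  Lgr Lrot131 (Lpe (f490195 IH) (Lpr_dt (K34.f490193 IH) (Lpr_gf (K34.f530158 IH) (Lpe (K34.f530161 IH) (Lpe (K30.f493548 IH) (Lpe (K30.f443508 IH) (Lpr_dt (K5.f87980 IH) (Lpr_gf (K30.f493545 IH) (Lpe (K30.f493546 IH) (Lpr_et (f625795 IH) (Lpn v3472)))))))))))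
def v1065 : LQ := Led Lsl_et K29.v209
theorem f491223 : Led Lsl_et K29.v209 = v1065 :=
  Lrfl
theorem f491225 : Led Lsl_ef K29.v209 = v1065 :=
  Lgr Lrot88 (Lpr_et (f491223 IH) (Lpn v1065))
theorem f625800 : Led Lsl_ff v1065 = v3472 :=
  Lgr Lrot72 (Lpe (f491225 IH) (Lpr_ft (K29.f459806 IH) (Lpqs (K29.f478683 IH) (Lpr_et (K29.f473977 IH) (Lpr_ft (K30.f490179 IH) (Lpr_et (f625795 IH) (Lpn v3472)))))))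
theorem f491224 : Led Lsl_bf K29.v313 = v1065 :=
  Lgr Lrot96 (Lpe (K29.f452115 IH) (Lpr_bt (K29.f452108 IH) (Lpq (K29.f478680 IH) (Lpr_et (f491223 IH) (Lpn v1065)))))
theorem f491392 : Led Lsl_ft K29.v313 = K29.v1091 :=
  Lgr Lrot48 (Lpr_ff (K29.f491388 IH) (Lpn K29.v1091))
theorem f625803 : Led Lsl_bt K29.v1091 = v3472 :=
  Lgr Lrot35 (Lpe (f491392 IH) (Lpr_bf (f491224 IH) (Lpr_ff (f625800 IH) (Lpn v3472))))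
theorem f491385 : Led Lsl_cf K24.v276 = K29.v1091 :=
  Lgr Lrot39 (Lpe (K29.f479091 IH) (Lpr_ct (K47.f479088 IH) (Lpr_et (K29.f491384 IH) (Lpn K29.v1091))))
theorem f491009 : Led Lsl_cf K24.v609 = K35.v1014 :=
  Lgr Lrot166 (Lpe (K24.f455189 IH) (Lpe (K24.f450777 IH) (Lpr_gt (K24.f4033 IH) (Lpr_dt (K2.f4023 IH) (Lpr_ct (K2.f5318 IH) (Lpr_df (K24.f447644 IH) (Lpr_gf (K24.f451513 IH) (Lpe (K24.f451514 IH) (Lpr_gf (K35.f491005 IH) (Lpn K35.v1014))))))))))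
def v706 : LQ := Led Lsl_et (LP (LK LD1_c0 LD2_c49 LD3_c25))
def v3309 : LQ := Led Lsl_gf v706
theorem f625056 : Led Lsl_gf v706 = v3309 :=
  Lrfl
theorem f456867 : Led Lsl_et (LP (LK LD1_c0 LD2_c49 LD3_c25)) = v706 :=
  Lrfl
theorem f522173 : Led Lsl_at K33.v2421 = K33.v705 :=
  Lgr Lrot100 (Lpr_af (K33.f522172 IH) (Lpn K33.v705))
theorem f519833 : Led Lsl_ft (LP (LK LD1_c1 LD2_c45 LD3_c35)) = K33.v2421 :=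
  Lgr Lrot48 (Lpr_ff (K33.f519832 IH) (Lpn K33.v2421))
theorem f522175 : Led Lsl_at K33.v2370 = (LP (LK LD1_c1 LD2_c45 LD3_c35)) :=
  Lgr Lrot66 (Lpr_ff (K33.f522174 IH) (Lpe (f522173 IH) (Lpe (f519833 IH) (Lpn (LP (LK LD1_c1 LD2_c45 LD3_c35))))))
theorem f522344 : Led Lsl_gt K33.v705 = K33.v2447 :=
  Lgr Lrot5 (Lpe (K33.f522174 IH) (Lpr_at (f522175 IH) (Lpr_gf (K33.f522343 IH) (Lpn K33.v2447))))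
def v699 : LQ := Led Lsl_dt (LP (LK LD1_c0 LD2_c49 LD3_c10))
theorem f456828 : Led Lsl_dt (LP (LK LD1_c0 LD2_c49 LD3_c10)) = v699 :=
  Lrfl
def v3304 : LQ := Led Lsl_gt v699
theorem f625031 : Led Lsl_gt v699 = v3304 :=
  Lrfl
theorem f456830 : Led Lsl_df (LP (LK LD1_c0 LD2_c49 LD3_c10)) = v699 :=
  Lgr Lrot38 (Lpr_dt (f456828 IH) (Lpn v699))
theorem f519593 : Led Lsl_ff v699 = K47.v2418 :=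
  Lgr Lrot19 (Lpe (f456830 IH) (Lpr_ft (K3.f108435 IH) (Lpr_dt (K47.f519589 IH) (Lpn K47.v2418))))
theorem f519597 : Led Lsl_ft v699 = K47.v2418 :=
  Lgr Lrot48 (Lpr_ff (f519593 IH) (Lpn K47.v2418))
def v2343 : LQ := Led Lsl_ft (LP (LK LD1_c1 LD2_c42 LD3_c55))
theorem f514742 : Led Lsl_ft (LP (LK LD1_c1 LD2_c42 LD3_c55)) = v2343 :=
  Lrfl
theorem f514743 : Led Lsl_df (LP (LK LD1_c1 LD2_c42 LD3_c56)) = v2343 :=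
  Lgr Lrot78 (Lpr_ft (K3.f108230 IH) (Lpr_dt (K33.f94429 IH) (Lpr_ft (f514742 IH) (Lpn v2343))))
theorem f519590 : Led Lsl_af v2343 = K47.v2418 :=
  Lgr Lrot117 (Lpe (f514743 IH) (Lpe (K24.f108413 IH) (Lpr_dt (K47.f519589 IH) (Lpn K47.v2418))))
theorem f625032 : Led Lsl_gf v2343 = v3304 :=
  Lgr Lrot76 (Lpr_af (f519590 IH) (Lpe (f519597 IH) (Lpr_gt (f625031 IH) (Lpn v3304))))
theorem f514744 : Led Lsl_ff (LP (LK LD1_c1 LD2_c42 LD3_c55)) = v2343 :=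
  Lgr Lrot3 (Lpr_ft (f514742 IH) (Lpn v2343))
theorem f514745 : Led Lsl_dt (LP (LK LD1_c1 LD2_c42 LD3_c56)) = v2343 :=
  Lgr Lrot60 (Lpe (K28.f108221 IH) (Lpe (K24.f98567 IH) (Lpr_ff (f514744 IH) (Lpn v2343))))
theorem f97288 : Led Lsl_et (LP (LK LD1_c0 LD2_c49 LD3_c2)) = (LP (LK LD1_c0 LD2_c21 LD3_c61)) :=
  Lre_e IH (LK LD1_c0 LD2_c49 LD3_c2) (LK LD1_c0 LD2_c21 LD3_c61) Lrfl Lrfl
theorem f108222 : Led Lsl_ef (LP (LK LD1_c1 LD2_c44 LD3_c47)) = (LP (LK LD1_c1 LD2_c42 LD3_c56)) :=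
  Lgr Lrot21 (Lpr_ft (K24.f108220 IH) (Lpr_et (f97288 IH) (Lpr_ft (K3.f108214 IH) (Lpr_et (K28.f10282 IH) (Lpr_ft (K28.f108221 IH) (Lpn (LP (LK LD1_c1 LD2_c42 LD3_c56))))))))
theorem f128133 : Led Lsl_et (LP (LK LD1_c3 LD2_c32 LD3_c44)) = (LP (LK LD1_c1 LD2_c43 LD3_c2)) :=
  Lre_e IH (LK LD1_c3 LD2_c32 LD3_c44) (LK LD1_c1 LD2_c43 LD3_c2) Lrfl Lrfl
theorem f128117 : Led Lsl_dt (LP (LK LD1_c3 LD2_c32 LD3_c44)) = (LP (LK LD1_c3 LD2_c34 LD3_c8)) :=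
  Lre_d IH (LK LD1_c3 LD2_c32 LD3_c44) (LK LD1_c3 LD2_c34 LD3_c8) Lrfl Lrfl
theorem f128119 : Led Lsl_et (LP (LK LD1_c3 LD2_c34 LD3_c8)) = (LP (LK LD1_c3 LD2_c32 LD3_c26)) :=
  Lgr Lrot71 (Lpe (f128117 IH) (Lpe (K32.f128116 IH) (Lpr_df (K28.f128110 IH) (Lpe (K33.f128118 IH) (Lpe (K33.f106037 IH) (Lpn (LP (LK LD1_c3 LD2_c32 LD3_c26))))))))
theorem f128126 : Led Lsl_ef (LP (LK LD1_c3 LD2_c34 LD3_c8)) = (LP (LK LD1_c3 LD2_c32 LD3_c26)) :=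
  Lgr Lrot88 (Lpr_et (f128119 IH) (Lpn (LP (LK LD1_c3 LD2_c32 LD3_c26))))
theorem f106035 : Led Lsl_et (LP (LK LD1_c1 LD2_c42 LD3_c55)) = (LP (LK LD1_c0 LD2_c48 LD3_c4)) :=
  Lre_e IH (LK LD1_c1 LD2_c42 LD3_c55) (LK LD1_c0 LD2_c48 LD3_c4) Lrfl Lrfl
theorem f106033 : Led Lsl_et (LP (LK LD1_c0 LD2_c48 LD3_c29)) = (LP (LK LD1_c0 LD2_c21 LD3_c44)) :=
  Lre_e IH (LK LD1_c0 LD2_c48 LD3_c29) (LK LD1_c0 LD2_c21 LD3_c44) Lrfl Lrfl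
theorem f128134 : Led Lsl_gt (LP (LK LD1_c3 LD2_c34 LD3_c8)) = (LP (LK LD1_c1 LD2_c43 LD3_c48)) :=
  Lgr Lrot137 (Lpr_ef (f128126 IH) (Lpr_dt (K33.f106037 IH) (Lpe (K28.f106036 IH) (Lpe (K24.f98567 IH) (Lpr_et (f106035 IH) (Lpr_gf (K3.f106004 IH) (Lpe (f106033 IH) (Lpr_dt (K33.f6018 IH) (Lpe (K28.f5936 IH) (Lpe (K34.f106034 IH) (Lpn (LP (LK LD1_c1 LD2_c43 LD3_c48)))))))))))))
theorem f10809 : Led Lsl_dt (LP (LK LD1_c0 LD2_c48 LD3_c28)) = (LP (LK LD1_c1 LD2_c43 LD3_c48)) :=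
  Lre_d IH (LK LD1_c0 LD2_c48 LD3_c28) (LK LD1_c1 LD2_c43 LD3_c48) Lrfl Lrfl
theorem f625033 : Led Lsl_dt K34.v2366 = v3304 :=
  Lgr Lrot171 (Lpe (K34.f519297 IH) (Lpe (K33.f128148 IH) (Lpr_dt (f10809 IH) (Lpe (f128134 IH) (Lpe (f128117 IH) (Lpr_et (f128133 IH) (Lpe (K24.f441675 IH) (Lpr_ef (f108222 IH) (Lpr_dt (f514745 IH) (Lpr_gf (f625032 IH) (Lpn v3304)))))))))))
theorem f625057 : Led Lsl_et K34.v2366 = v3309 :=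
  Lgr Lrot185 (Lpr_dt (f625033 IH) (Lpe (f625031 IH) (Lpe (f456828 IH) (Lpe (K33.f17827 IH) (Lpr_ef (K33.f519586 IH) (Lpr_dt (K33.f522345 IH) (Lpe (f522344 IH) (Lpe (K33.f456861 IH) (Lpr_et (f456867 IH) (Lpr_gf (f625056 IH) (Lpn v3309)))))))))))
def v911 : LQ := Led Lsl_et (LP (LK LD1_c0 LD2_c54 LD3_c1))
theorem f490403 : Led Lsl_et (LP (LK LD1_c0 LD2_c54 LD3_c1)) = v911 :=
  Lrfl
theorem f490405 : Led Lsl_ef (LP (LK LD1_c0 LD2_c54 LD3_c1)) = v911 :=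
  Lgr Lrot88 (Lpr_et (f490403 IH) (Lpn v911))
theorem f625060 : Led Lsl_ff v911 = v3309 :=
  Lgr Lrot72 (Lpe (f490405 IH) (Lpr_ft (K28.f458625 IH) (Lpr_et (K33.f490386 IH) (Lpr_ft (K47.f522671 IH) (Lpr_et (f625057 IH) (Lpn v3309))))))
theorem f490404 : Led Lsl_bf K24.v232 = v911 :=
  Lgr Lrot96 (Lpe (K24.f451233 IH) (Lpr_bt (K28.f451213 IH) (Lpr_et (f490403 IH) (Lpn v911))))
def v975 : LQ := Led Lsl_gt K24.v142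
theorem f490794 : Led Lsl_gt K24.v142 = v975 :=
  Lrfl
theorem f490796 : Led Lsl_df K24.v608 = v975 :=
  Lgr Lrot84 (Lpe (K24.f455180 IH) (Lpe (K24.f15752 IH) (Lpe (K24.f15748 IH) (Lpe (K2.f11057 IH) (Lpe (K24.f15782 IH) (Lpqs (K24.f457415 IH) (Lpe (K24.f455604 IH) (Lpr_gt (K24.f446507 IH) (Lpr_dt (K24.f450701 IH) (Lpr_gt (f490794 IH) (Lpn v975)))))))))))
theorem f490797 : Led Lsl_dt K24.v608 = v975 :=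
  Lgr Lrot42 (Lpr_df (f490796 IH) (Lpn v975))
theorem f491010 : Led Lsl_et K24.v608 = K35.v1014 :=
  Lgr Lrot121 (Lpr_dt (f490797 IH) (Lpe (f490794 IH) (Lpe (K24.f450701 IH) (Lpr_et (K28.f11414 IH) (Lpe (K0.f11427 IH) (Lpe (K2.f4944 IH) (Lpr_dt (K24.f447643 IH) (Lpr_gf (K24.f451513 IH) (Lpe (K24.f451514 IH) (Lpr_gf (K35.f491005 IH) (Lpn K35.v1014)))))))))))
theorem f491011 : Led Lsl_ef K24.v608 = K35.v1014 :=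
  Lgr Lrot88 (Lpr_et (f491010 IH) (Lpn K35.v1014))
theorem f491013 : Led Lsl_ft K24.v232 = K35.v1014 :=
  Lgr Lrot86 (Lpe (K24.f451232 IH) (Lpq (K24.f457379 IH) (Lpqs (K24.f457380 IH) (Lpe (K24.f451223 IH) (Lpe (K34.f446504 IH) (Lpq (K24.f457393 IH) (Lpe (K24.f455486 IH) (Lpr_ef (f491011 IH) (Lpn K35.v1014)))))))))
theorem f625061 : Led Lsl_bt K35.v1014 = v3309 :=
  Lgr Lrot35 (Lpe (f491013 IH) (Lpr_bf (f490404 IH) (Lpr_ff (f625060 IH) (Lpn v3309))))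
def v2445 : LQ := Led Lsl_et (LP (LK LD1_c1 LD2_c45 LD3_c32))
theorem f522337 : Led Lsl_et (LP (LK LD1_c1 LD2_c45 LD3_c32)) = v2445 :=
  Lrfl
theorem f522339 : Led Lsl_ef (LP (LK LD1_c1 LD2_c45 LD3_c32)) = v2445 :=
  Lgr Lrot88 (Lpr_et (f522337 IH) (Lpn v2445))
theorem f522340 : Led Lsl_ct v706 = v2445 :=
  Lgr Lrot15 (Lpe (f456867 IH) (Lpe (K29.f6049 IH) (Lpr_ef (f522339 IH) (Lpn v2445))))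
theorem f660411 : Led Lsl_gt v2445 = v7025 :=
  Lgr Lrot149 (Lpe (f522340 IH) (Lpr_gf (f625056 IH) (Lpe (f625061 IH) (Lpe (f491009 IH) (Lpe (K24.f455192 IH) (Lpr_cf (f491385 IH) (Lpr_bt (f625803 IH) (Lpe (f625801 IH) (Lpr_bf (f530484 IH) (Lpr_ct (f660410 IH) (Lpn v7025)))))))))))
def v7390 : LQ := Led Lsl_gf (LP (LK LD1_c3 LD2_c46 LD3_c25))
theorem f664876 : Led Lsl_gf (LP (LK LD1_c3 LD2_c46 LD3_c25)) = v7390 :=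
  Lrfl
theorem f94493 : Led Lsl_dt (LP (LK LD1_c1 LD2_c50 LD3_c17)) = (LP (LK LD1_c3 LD2_c46 LD3_c25)) :=
  Lre_d IH (LK LD1_c1 LD2_c50 LD3_c17) (LK LD1_c3 LD2_c46 LD3_c25) Lrfl Lrfl
theorem f664877 : Led Lsl_dt v2445 = v7390 :=
  Lgr Lrot136 (Lpe (f522339 IH) (Lpr_gf (K29.f478142 IH) (Lpe (K29.f97024 IH) (Lpr_dt (K3.f97030 IH) (Lpr_gf (K3.f108524 IH) (Lpe (K3.f94481 IH) (Lpr_gf (K2.f94478 IH) (Lpe (K3.f94492 IH) (Lpr_dt (f94493 IH) (Lpr_gf (f664876 IH) (Lpn v7390)))))))))))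
theorem f441450 : Led Lsl_ct (LP (LK LD1_c3 LD2_c46 LD3_c25)) = (LP (LK LD1_c7 LD2_c33 LD3_c52)) :=
  Lre_c IH (LK LD1_c3 LD2_c46 LD3_c25) (LK LD1_c7 LD2_c33 LD3_c52) Lrfl Lrfl
def v2439 : LQ := Led Lsl_et (LP (LK LD1_c1 LD2_c45 LD3_c27))
theorem f519752 : Led Lsl_et (LP (LK LD1_c1 LD2_c45 LD3_c27)) = v2439 :=
  Lrfl
theorem f530182 : Led Lsl_ct v2439 = v2663 :=
  Lgr Lrot15 (Lpe (f519752 IH) (Lpr_cf (K29.f467435 IH) (Lpr_ef (f530181 IH) (Lpn v2663))))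
def v7130 : LQ := Led Lsl_dt (LP (LK LD1_c3 LD2_c39 LD3_c41))
theorem f661400 : Led Lsl_dt (LP (LK LD1_c3 LD2_c39 LD3_c41)) = v7130 :=
  Lrfl
def v7114 : LQ := Led Lsl_gt (LP (LK LD1_c3 LD2_c39 LD3_c19))
theorem f661258 : Led Lsl_gt (LP (LK LD1_c3 LD2_c39 LD3_c19)) = v7114 :=
  Lrfl
theorem f5593 : Led Lsl_at (LP (LK LD1_c1 LD2_c46 LD3_c45)) = (LP (LK LD1_c3 LD2_c39 LD3_c19)) :=
  Lre_a IH (LK LD1_c1 LD2_c46 LD3_c45) (LK LD1_c3 LD2_c39 LD3_c19) Lrfl Lrfl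
def v2490 : LQ := Led Lsl_ft (LP (LK LD1_c1 LD2_c46 LD3_c45))
theorem f522771 : Led Lsl_ft (LP (LK LD1_c1 LD2_c46 LD3_c45)) = v2490 :=
  Lrfl
theorem f522774 : Led Lsl_ff (LP (LK LD1_c1 LD2_c46 LD3_c45)) = v2490 :=
  Lgr Lrot3 (Lpr_ft (f522771 IH) (Lpn v2490))
theorem f661273 : Led Lsl_af v2490 = K48.v7117 :=
  Lgr Lrot45 (Lpe (f522774 IH) (Lpr_at (f5593 IH) (Lpr_ft (K48.f661272 IH) (Lpn K48.v7117))))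
theorem f661276 : Led Lsl_gt v7114 = v2490 :=
  Lgr Lrot46 (Lpe (f661258 IH) (Lpr_ft (K48.f661272 IH) (Lpe (f661273 IH) (Lpn v2490))))
def v7115 : LQ := Led Lsl_gf (LP (LK LD1_c3 LD2_c39 LD3_c19))
theorem f661259 : Led Lsl_gf (LP (LK LD1_c3 LD2_c39 LD3_c19)) = v7115 :=
  Lrfl
theorem f661260 : Led Lsl_gt v2490 = v7115 :=
  Lgr Lrot5 (Lpe (f522774 IH) (Lpr_at (f5593 IH) (Lpr_gf (f661259 IH) (Lpn v7115))))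
theorem f4991 : Led Lsl_dt (LP (LK LD1_c1 LD2_c46 LD3_c37)) = (LP (LK LD1_c3 LD2_c39 LD3_c19)) :=
  Lre_d IH (LK LD1_c1 LD2_c46 LD3_c37) (LK LD1_c3 LD2_c39 LD3_c19) Lrfl Lrfl
theorem f6652 : Led Lsl_et (LP (LK LD1_c0 LD2_c22 LD3_c8)) = (LP (LK LD1_c0 LD2_c49 LD3_c24)) :=
  Lre_e IH (LK LD1_c0 LD2_c22 LD3_c8) (LK LD1_c0 LD2_c49 LD3_c24) Lrfl Lrfl
theorem f519754 : Led Lsl_ef (LP (LK LD1_c1 LD2_c45 LD3_c27)) = v2439 :=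
  Lgr Lrot88 (Lpr_et (f519752 IH) (Lpn v2439))
theorem f661261 : Led Lsl_dt v2439 = v7115 :=
  Lgr Lrot136 (Lpe (f519754 IH) (Lpe (K35.f6015 IH) (Lpe (f6652 IH) (Lpr_dt (K3.f6561 IH) (Lpe (K3.f6126 IH) (Lpr_df (K3.f97196 IH) (Lpr_gf (K3.f5051 IH) (Lpe (K33.f5050 IH) (Lpr_dt (f4991 IH) (Lpr_gf (f661259 IH) (Lpn v7115)))))))))))
theorem f661263 : Led Lsl_df v2439 = v7115 :=
  Lgr Lrot38 (Lpr_dt (f661261 IH) (Lpn v7115))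
theorem f660244 : Led Lsl_at v2439 = K47.v7016 :=
  Lgr Lrot80 (Lpe (f519752 IH) (Lpr_af (K35.f519749 IH) (Lpq (K35.f528285 IH) (Lpr_ef (K47.f660243 IH) (Lpn K47.v7016)))))
theorem f661264 : Led Lsl_at (LP (LK LD1_c3 LD2_c39 LD3_c42)) = v7115 :=
  Lgr Lrot51 (Lpr_df (K47.f660246 IH) (Lpe (f660244 IH) (Lpr_df (f661263 IH) (Lpn v7115))))
theorem f661277 : Led Lsl_ft v7114 = (LP (LK LD1_c3 LD2_c39 LD3_c42)) :=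
  Lgr Lrot2 (Lpr_gt (f661276 IH) (Lpr_gt (f661260 IH) (Lpe (f661264 IH) (Lpn (LP (LK LD1_c3 LD2_c39 LD3_c42))))))
theorem f661278 : Led Lsl_ff v7114 = (LP (LK LD1_c3 LD2_c39 LD3_c42)) :=
  Lgr Lrot3 (Lpr_ft (f661277 IH) (Lpn (LP (LK LD1_c3 LD2_c39 LD3_c42))))
theorem f661279 : Led Lsl_at v7114 = (LP (LK LD1_c3 LD2_c39 LD3_c41)) :=
  Lgr Lrot26 (Lpr_ff (f661278 IH) (Lpr_gt (K47.f5637 IH) (Lpr_gt (K47.f5636 IH) (Lpn (LP (LK LD1_c3 LD2_c39 LD3_c41))))))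
theorem f660241 : Led Lsl_af v2439 = K47.v7016 :=
  Lgr Lrot50 (Lpe (f519754 IH) (Lpr_at (K35.f519748 IH) (Lpq (K35.f528285 IH) (Lpr_et (K47.f660240 IH) (Lpn K47.v7016)))))
theorem f660249 : Led Lsl_dt (LP (LK LD1_c3 LD2_c39 LD3_c42)) = K47.v7016 :=
  Lgr Lrot42 (Lpr_df (K47.f660246 IH) (Lpn K47.v7016))
theorem f661262 : Led Lsl_af (LP (LK LD1_c3 LD2_c39 LD3_c42)) = v7115 :=
  Lgr Lrot117 (Lpr_dt (f660249 IH) (Lpe (f660241 IH) (Lpr_dt (f661261 IH) (Lpn v7115))))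
theorem f661283 : Led Lsl_ff v7115 = (LP (LK LD1_c3 LD2_c39 LD3_c41)) :=
  Lgr Lrot30 (Lpe (f661262 IH) (Lpe (f661278 IH) (Lpr_at (f661279 IH) (Lpn (LP (LK LD1_c3 LD2_c39 LD3_c41))))))
theorem f661285 : Led Lsl_ft v7115 = (LP (LK LD1_c3 LD2_c39 LD3_c41)) :=
  Lgr Lrot48 (Lpr_ff (f661283 IH) (Lpn (LP (LK LD1_c3 LD2_c39 LD3_c41))))
theorem f661403 : Led Lsl_ff v2439 = v7130 :=
  Lgr Lrot19 (Lpr_dt (f661261 IH) (Lpr_ft (f661285 IH) (Lpr_dt (f661400 IH) (Lpn v7130))))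
theorem f675854 : Led Lsl_cf v7130 = v9422 :=
  Lgr Lrot108 (Lpe (f661403 IH) (Lpr_ct (f530182 IH) (Lpr_ft (f675851 IH) (Lpn v9422))))
theorem f661280 : Led Lsl_ct (LP (LK LD1_c7 LD2_c19 LD3_c34)) = (LP (LK LD1_c3 LD2_c39 LD3_c41)) :=
  Lre_c IH (LK LD1_c7 LD2_c19 LD3_c34) (LK LD1_c3 LD2_c39 LD3_c41) Lrfl Lrfl
theorem f675866 : Led Lsl_gt (LP (LK LD1_c7 LD2_c33 LD3_c52)) = (LP (LK LD1_c7 LD2_c19 LD3_c34)) :=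
  Lgr Lrot150 (Lpe (f441450 IH) (Lpr_gf (f664876 IH) (Lpe (f664877 IH) (Lpr_gt (f660411 IH) (Lpe (f660407 IH) (Lpr_gt (f675864 IH) (Lpe (f675854 IH) (Lpe (f661400 IH) (Lpe (f661280 IH) (Lpn (LP (LK LD1_c7 LD2_c19 LD3_c34))))))))))))
theorem f675867 : Led Lsl_gt (LP (LK LD1_c7 LD2_c33 LD3_c52)) = (LP (LK LD1_c7 LD2_c19 LD3_c34)) :=
  Leop (Lpe (f675866 IH) (Lpn (LP (LK LD1_c7 LD2_c33 LD3_c52))))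
theorem seed_559 : LEOK LG_g (LK LD1_c7 LD2_c33 LD3_c52) :=
  Leoe_g (LK LD1_c7 LD2_c33 LD3_c52) (f675867 IH)
def v2664 : LQ := Led Lsl_dt (LP (LK LD1_c1 LD2_c51 LD3_c38))
def v9423 : LQ := Led Lsl_ct v2664
theorem f675873 : Led Lsl_ct v2664 = v9423 :=
  Lrfl
def v1069 : LQ := Led Lsl_gt K29.v214
def v3845 : LQ := Led Lsl_bt v1069
theorem f627540 : Led Lsl_bt v1069 = v3845 :=
  Lrfl
def v2728 : LQ := Led Lsl_dt (LP (LK LD1_c1 LD2_c54 LD3_c2))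
theorem f531628 : Led Lsl_dt (LP (LK LD1_c1 LD2_c54 LD3_c2)) = v2728 :=
  Lrfl
theorem f491263 : Led Lsl_gt K29.v214 = v1069 :=
  Lrfl
theorem f480431 : Led Lsl_et (LP (LK LD1_c7 LD2_c5 LD3_c11)) = (LP (LK LD1_c7 LD2_c4 LD3_c43)) :=
  Lgr Lrot158 (Lpe (K48.f455782 IH) (Lpr_ef (K34.f480428 IH) (Lpe (K48.f459219 IH) (Lpn (LP (LK LD1_c7 LD2_c4 LD3_c43))))))
theorem f480441 : Led Lsl_dt (LP (LK LD1_c7 LD2_c5 LD3_c11)) = (LP (LK LD1_c13 LD2_c26 LD3_c1)) :=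
  Lre_d IH (LK LD1_c7 LD2_c5 LD3_c11) (LK LD1_c13 LD2_c26 LD3_c1) Lrfl Lrfl
theorem f480453 : Led Lsl_gf (LP (LK LD1_c13 LD2_c26 LD3_c1)) = (LP (LK LD1_c7 LD2_c20 LD3_c16)) :=
  Lgr Lrot145 (Lpe (f480441 IH) (Lpr_et (f480431 IH) (Lpr_gt (K28.f464353 IH) (Lpr_dt (K28.f132082 IH) (Lpr_gt (K28.f132081 IH) (Lpe (K28.f107320 IH) (Lpr_et (K28.f107319 IH) (Lpe (K7.f132072 IH) (Lpe (K5.f96458 IH) (Lpr_dt (K7.f96432 IH) (Lpn (LP (LK LD1_c7 LD2_c20 LD3_c16)))))))))))))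
theorem f480451 : Led Lsl_dt (LP (LK LD1_c13 LD2_c26 LD3_c1)) = (LP (LK LD1_c7 LD2_c5 LD3_c11)) :=
  Lre_d IH (LK LD1_c13 LD2_c26 LD3_c1) (LK LD1_c7 LD2_c5 LD3_c11) Lrfl Lrfl
theorem f491264 : Led Lsl_df (LP (LK LD1_c3 LD2_c31 LD3_c48)) = v1069 :=
  Lgr Lrot84 (Lpe (K48.f480435 IH) (Lpe (f480451 IH) (Lpr_gf (f480453 IH) (Lpe (K7.f96432 IH) (Lpr_gf (K34.f488020 IH) (Lpe (K33.f437662 IH) (Lpr_gt (K29.f123407 IH) (Lpr_dt (K29.f451146 IH) (Lpr_gt (f491263 IH) (Lpn v1069))))))))))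
theorem f531632 : Led Lsl_ef v1069 = v2728 :=
  Lgr Lrot73 (Lpe (f491264 IH) (Lpr_et (K34.f480433 IH) (Lpe (K34.f480118 IH) (Lpr_et (K33.f480128 IH) (Lpr_dt (f531628 IH) (Lpn v2728))))))
theorem f531631 : Led Lsl_df (LP (LK LD1_c1 LD2_c54 LD3_c2)) = v2728 :=
  Lgr Lrot38 (Lpr_dt (f531628 IH) (Lpn v2728))
theorem f530183 : Led Lsl_dt (LP (LK LD1_c1 LD2_c51 LD3_c38)) = v2664 :=
  Lrfl
theorem f531637 : Led Lsl_bt v2664 = v2728 :=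
  Lgr Lrot95 (Lpe (f530183 IH) (Lpe (K33.f487859 IH) (Lpr_df (f531631 IH) (Lpn v2728))))
theorem f627543 : Led Lsl_ef v2664 = v3845 :=
  Lgr Lrot29 (Lpr_bt (f531637 IH) (Lpe (f531632 IH) (Lpr_bt (f627540 IH) (Lpn v3845))))
def v6878 : LQ := Led Lsl_ft (LP (LK LD1_c3 LD2_c32 LD3_c56))
theorem f659176 : Led Lsl_ft (LP (LK LD1_c3 LD2_c32 LD3_c56)) = v6878 :=
  Lrfl
def v6876 : LQ := Led Lsl_gt (LP (LK LD1_c3 LD2_c32 LD3_c56))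
theorem f659171 : Led Lsl_gt (LP (LK LD1_c3 LD2_c32 LD3_c56)) = v6876 :=
  Lrfl
theorem f519326 : Led Lsl_at (LP (LK LD1_c1 LD2_c43 LD3_c51)) = (LP (LK LD1_c3 LD2_c32 LD3_c56)) :=
  Lre_a IH (LK LD1_c1 LD2_c43 LD3_c51) (LK LD1_c3 LD2_c32 LD3_c56) Lrfl Lrfl
def v2374 : LQ := Led Lsl_ft (LP (LK LD1_c1 LD2_c43 LD3_c51))
theorem f519339 : Led Lsl_ft (LP (LK LD1_c1 LD2_c43 LD3_c51)) = v2374 :=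
  Lrfl
theorem f519341 : Led Lsl_ff (LP (LK LD1_c1 LD2_c43 LD3_c51)) = v2374 :=
  Lgr Lrot3 (Lpr_ft (f519339 IH) (Lpn v2374))
theorem f659177 : Led Lsl_af v2374 = v6878 :=
  Lgr Lrot45 (Lpe (f519341 IH) (Lpr_at (f519326 IH) (Lpr_ft (f659176 IH) (Lpn v6878))))
theorem f659180 : Led Lsl_gt v6876 = v2374 :=
  Lgr Lrot46 (Lpe (f659171 IH) (Lpr_ft (f659176 IH) (Lpe (f659177 IH) (Lpn v2374))))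
theorem f128137 : Led Lsl_ct (LP (LK LD1_c1 LD2_c43 LD3_c51)) = (LP (LK LD1_c0 LD2_c48 LD3_c29)) :=
  Lre_c IH (LK LD1_c1 LD2_c43 LD3_c51) (LK LD1_c0 LD2_c48 LD3_c29) Lrfl Lrfl
theorem f519342 : Led Lsl_ct K33.v666 = v2374 :=
  Lgr Lrot40 (Lpe (K33.f455857 IH) (Lpe (f128137 IH) (Lpr_ff (f519341 IH) (Lpn v2374))))
theorem f10409 : Led Lsl_bt (LP (LK LD1_c0 LD2_c21 LD3_c48)) = (LP (LK LD1_c0 LD2_c48 LD3_c29)) :=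
  Lre_b IH (LK LD1_c0 LD2_c21 LD3_c48) (LK LD1_c0 LD2_c48 LD3_c29) Lrfl Lrfl
theorem f455858 : Led Lsl_bf K24.v159 = K33.v666 :=
  Lgr Lrot61 (Lpe (K24.f450812 IH) (Lpr_bt (f10409 IH) (Lpr_ft (K33.f455857 IH) (Lpn K33.v666))))
def v987 : LQ := Led Lsl_ct K24.v157
theorem f490882 : Led Lsl_ct K24.v157 = v987 :=
  Lrfl
theorem f450811 : Led Lsl_df (LP (LK LD1_c0 LD2_c21 LD3_c49)) = K24.v159 :=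
  Lgr Lrot78 (Lpr_ft (K0.f5918 IH) (Lpr_dt (K24.f6633 IH) (Lpr_ft (K24.f450810 IH) (Lpn K24.v159))))
def v309 : LQ := Led Lsl_ct K24.v100
theorem f452103 : Led Lsl_ct K24.v100 = v309 :=
  Lrfl
theorem f452104 : Led Lsl_cf K24.v100 = v309 :=
  Lgr Lrot11 (Lpr_ct (f452103 IH) (Lpn v309))
theorem f490885 : Led Lsl_gf v309 = v987 :=
  Lgr Lrot104 (Lpe (f452104 IH) (Lpe (K24.f448759 IH) (Lpr_cf (K24.f12187 IH) (Lpe (K24.f12124 IH) (Lpqs (K29.f456045 IH) (Lpe (K29.f450788 IH) (Lpr_gf (K29.f10177 IH) (Lpr_df (f450811 IH) (Lpe (K24.f450815 IH) (Lpr_ct (f490882 IH) (Lpn v987)))))))))))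
theorem f451153 : Led Lsl_bt K24.v100 = K29.v214 :=
  Lgr Lrot119 (Lpe (K24.f448762 IH) (Lpe (K3.f12730 IH) (Lpr_ef (K29.f451149 IH) (Lpn K29.v214))))
theorem f627541 : Led Lsl_bf v1069 = v3845 :=
  Lgr Lrot24 (Lpr_bt (f627540 IH) (Lpn v3845))
theorem f659181 : Led Lsl_cf v6876 = v3845 :=
  Lgr Lrot160 (Lpr_gt (f659180 IH) (Lpe (f519342 IH) (Lpe (f455858 IH) (Lpe (K24.f450815 IH) (Lpr_ct (f490882 IH) (Lpe (f490885 IH) (Lpe (f452103 IH) (Lpr_bt (f451153 IH) (Lpr_gt (f491263 IH) (Lpr_bf (f627541 IH) (Lpn v3845)))))))))))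
theorem f659183 : Led Lsl_ct v6876 = v3845 :=
  Lgr Lrot59 (Lpr_cf (f659181 IH) (Lpn v3845))
theorem f675876 : Led Lsl_ef v6876 = v9423 :=
  Lgr Lrot28 (Lpr_ct (f659183 IH) (Lpe (f627543 IH) (Lpr_ct (f675873 IH) (Lpn v9423))))
theorem f156091 : Led Lsl_et (LP (LK LD1_c1 LD2_c43 LD3_c14)) = (LP (LK LD1_c3 LD2_c32 LD3_c56)) :=
  Lre_e IH (LK LD1_c1 LD2_c43 LD3_c14) (LK LD1_c3 LD2_c32 LD3_c56) Lrfl Lrfl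
theorem f156094 : Led Lsl_et (LP (LK LD1_c1 LD2_c45 LD3_c39)) = (LP (LK LD1_c0 LD2_c49 LD3_c32)) :=
  Lre_e IH (LK LD1_c1 LD2_c45 LD3_c39) (LK LD1_c0 LD2_c49 LD3_c32) Lrfl Lrfl
theorem f156095 : Led Lsl_dt (LP (LK LD1_c1 LD2_c45 LD3_c39)) = (LP (LK LD1_c3 LD2_c37 LD3_c40)) :=
  Lre_d IH (LK LD1_c1 LD2_c45 LD3_c39) (LK LD1_c3 LD2_c37 LD3_c40) Lrfl Lrfl
theorem f156096 : Led Lsl_gt (LP (LK LD1_c7 LD2_c15 LD3_c48)) = (LP (LK LD1_c3 LD2_c37 LD3_c40)) :=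
  Lre_g IH (LK LD1_c7 LD2_c15 LD3_c48) (LK LD1_c3 LD2_c37 LD3_c40) Lrfl Lrfl
theorem f675880 : Led Lsl_df (LP (LK LD1_c7 LD2_c15 LD3_c48)) = v9423 :=
  Lgr Lrot170 (Lpr_gt (f156096 IH) (Lpe (f156095 IH) (Lpr_et (f156094 IH) (Lpr_gt (K11.f10964 IH) (Lpr_dt (K11.f10965 IH) (Lpe (K11.f156076 IH) (Lpe (K0.f17973 IH) (Lpr_et (f156091 IH) (Lpr_gt (f659171 IH) (Lpr_ef (f675876 IH) (Lpn v9423)))))))))))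
theorem f467442 : Led Lsl_ct (LP (LK LD1_c7 LD2_c14 LD3_c44)) = (LP (LK LD1_c3 LD2_c37 LD3_c9)) :=
  Lre_c IH (LK LD1_c7 LD2_c14 LD3_c44) (LK LD1_c3 LD2_c37 LD3_c9) Lrfl Lrfl
theorem f467608 : Led Lsl_dt (LP (LK LD1_c13 LD2_c42 LD3_c30)) = (LP (LK LD1_c7 LD2_c14 LD3_c44)) :=
  Lre_d IH (LK LD1_c13 LD2_c42 LD3_c30) (LK LD1_c7 LD2_c14 LD3_c44) Lrfl Lrfl
theorem f675884 : Led Lsl_ct (LP (LK LD1_c7 LD2_c15 LD3_c48)) = (LP (LK LD1_c13 LD2_c42 LD3_c30)) :=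
  Lgr Lrot53 (Lpr_df (f675880 IH) (Lpe (f675873 IH) (Lpe (f530183 IH) (Lpe (K33.f487828 IH) (Lpe (K39.f481294 IH) (Lpr_ft (K39.f528304 IH) (Lpe (K47.f528314 IH) (Lpe (f467442 IH) (Lpe (f467608 IH) (Lpn (LP (LK LD1_c13 LD2_c42 LD3_c30))))))))))))
theorem f675885 : Led Lsl_ct (LP (LK LD1_c7 LD2_c15 LD3_c48)) = (LP (LK LD1_c13 LD2_c42 LD3_c30)) :=
  Leop (Lpe (f675884 IH) (Lpn (LP (LK LD1_c7 LD2_c15 LD3_c48))))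
theorem seed_560 : LEOK LG_c (LK LD1_c7 LD2_c15 LD3_c48) :=
  Leoe_c (LK LD1_c7 LD2_c15 LD3_c48) (f675885 IH)
def v9424 : LQ := Led Lsl_gf K34.v2665
theorem f675899 : Led Lsl_gf K34.v2665 = v9424 :=
  Lrfl
def v617 : LQ := Led Lsl_dt (LP (LK LD1_c0 LD2_c47 LD3_c18))
theorem f455514 : Led Lsl_dt (LP (LK LD1_c0 LD2_c47 LD3_c18)) = v617 :=
  Lrfl
theorem f455516 : Led Lsl_df (LP (LK LD1_c0 LD2_c47 LD3_c18)) = v617 :=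
  Lgr Lrot38 (Lpr_dt (f455514 IH) (Lpn v617))
def v1183 : LQ := Led Lsl_bt K30.v302
theorem f493824 : Led Lsl_bt K30.v302 = v1183 :=
  Lrfl
theorem f493826 : Led Lsl_df v1065 = v1183 :=
  Lgr Lrot12 (Lpe (f491224 IH) (Lpe (K30.f452116 IH) (Lpr_bt (f493824 IH) (Lpn v1183))))
theorem f493829 : Led Lsl_dt v1065 = v1183 :=
  Lgr Lrot42 (Lpr_df (f493826 IH) (Lpn v1183))
theorem f120558 : Led Lsl_et (LP (LK LD1_c0 LD2_c47 LD3_c18)) = (LP (LK LD1_c0 LD2_c21 LD3_c10)) :=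
  Lre_e IH (LK LD1_c0 LD2_c47 LD3_c18) (LK LD1_c0 LD2_c21 LD3_c10) Lrfl Lrfl
theorem f493830 : Led Lsl_gf v617 = v1183 :=
  Lgr Lrot145 (Lpe (f455514 IH) (Lpr_et (f120558 IH) (Lpr_gt (K2.f18886 IH) (Lpr_dt (K1.f18877 IH) (Lpr_gt (K1.f18901 IH) (Lpe (K2.f64909 IH) (Lpr_et (K3.f84977 IH) (Lpr_gt (K29.f451097 IH) (Lpr_ef (f491225 IH) (Lpr_dt (f493829 IH) (Lpn v1183)))))))))))
def v3479 : LQ := Led Lsl_ft v875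
theorem f625832 : Led Lsl_ft v875 = v3479 :=
  Lrfl
theorem f625834 : Led Lsl_ff v875 = v3479 :=
  Lgr Lrot3 (Lpr_ft (f625832 IH) (Lpn v3479))
def v3416 : LQ := Led Lsl_et K41.v817
theorem f625566 : Led Lsl_et K41.v817 = v3416 :=
  Lrfl
theorem f625568 : Led Lsl_ef K41.v817 = v3416 :=
  Lgr Lrot88 (Lpr_et (f625566 IH) (Lpn v3416))
theorem f625570 : Led Lsl_at v875 = v3416 :=
  Lgr Lrot80 (Lpe (f490195 IH) (Lpqs (K41.f530517 IH) (Lpe (K41.f527716 IH) (Lpr_ef (f625568 IH) (Lpn v3416)))))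
def v840 : LQ := Led Lsl_dt (LP (LK LD1_c0 LD2_c52 LD3_c10))
theorem f459662 : Led Lsl_dt (LP (LK LD1_c0 LD2_c52 LD3_c10)) = v840 :=
  Lrfl
def v3455 : LQ := Led Lsl_gf v840
theorem f625705 : Led Lsl_gf v840 = v3455 :=
  Lrfl
theorem f129689 : Led Lsl_et (LP (LK LD1_c0 LD2_c23 LD3_c57)) = (LP (LK LD1_c0 LD2_c53 LD3_c13)) :=
  Lre_e IH (LK LD1_c0 LD2_c23 LD3_c57) (LK LD1_c0 LD2_c53 LD3_c13) Lrfl Lrfl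
theorem f625707 : Led Lsl_dt v3416 = v3455 :=
  Lgr Lrot136 (Lpe (f625568 IH) (Lpe (K41.f459546 IH) (Lpe (f129689 IH) (Lpr_dt (K24.f129674 IH) (Lpe (K24.f62798 IH) (Lpe (K29.f62979 IH) (Lpe (K29.f477394 IH) (Lpe (K34.f459656 IH) (Lpr_dt (f459662 IH) (Lpr_gf (f625705 IH) (Lpn v3455)))))))))))
def v3460 : LQ := Led Lsl_dt K48.v845
theorem f625736 : Led Lsl_dt K48.v845 = v3460 :=
  Lrfl
theorem f625739 : Led Lsl_ff K48.v859 = v3460 :=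
  Lgr Lrot19 (Lpe (K48.f459813 IH) (Lpr_ft (K48.f459815 IH) (Lpqs (K48.f487541 IH) (Lpr_dt (f625736 IH) (Lpn v3460)))))
theorem f625741 : Led Lsl_ft K48.v859 = v3460 :=
  Lgr Lrot48 (Lpr_ff (f625739 IH) (Lpn v3460))
theorem f491219 : Led Lsl_df K29.v209 = v1064 :=
  Lgr Lrot38 (Lpr_dt (f491217 IH) (Lpn v1064))
theorem f625737 : Led Lsl_af v1064 = v3460 :=
  Lgr Lrot117 (Lpe (f491219 IH) (Lpr_at (K48.f459818 IH) (Lpqs (K48.f487541 IH) (Lpr_dt (f625736 IH) (Lpn v3460)))))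
theorem f625771 : Led Lsl_gf v1064 = K48.v3467 :=
  Lgr Lrot76 (Lpr_af (f625737 IH) (Lpe (f625741 IH) (Lpr_gt (K48.f625770 IH) (Lpn K48.v3467))))
theorem f625775 : Led Lsl_gf v3416 = v1065 :=
  Lgr Lrot138 (Lpr_dt (f625707 IH) (Lpe (f625705 IH) (Lpe (f459662 IH) (Lpr_et (K34.f459656 IH) (Lpr_gt (K29.f477394 IH) (Lpr_ef (K48.f527204 IH) (Lpr_dt (K48.f625772 IH) (Lpe (f625771 IH) (Lpe (f491217 IH) (Lpr_et (f491223 IH) (Lpn v1065)))))))))))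
theorem f625836 : Led Lsl_gf v1065 = v3479 :=
  Lgr Lrot47 (Lpe (f625775 IH) (Lpe (f625570 IH) (Lpr_ff (f625834 IH) (Lpn v3479))))
theorem f675903 : Led Lsl_cf v3479 = v9424 :=
  Lgr Lrot166 (Lpe (f625836 IH) (Lpr_dt (f493829 IH) (Lpe (f493830 IH) (Lpe (f455516 IH) (Lpr_ct (K28.f120546 IH) (Lpe (K48.f120549 IH) (Lpe (K34.f89314 IH) (Lpr_df (K34.f530187 IH) (Lpr_gf (f675899 IH) (Lpn v9424))))))))))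
def v3478 : LQ := Led Lsl_dt v875
theorem f625824 : Led Lsl_dt v875 = v3478 :=
  Lrfl
theorem f527714 : Led Lsl_af K41.v817 = K41.v2600 :=
  Lgr Lrot45 (Lpr_ft (K41.f527706 IH) (Lpe (K41.f527705 IH) (Lpr_ft (K41.f527713 IH) (Lpn K41.v2600))))
theorem f625567 : Led Lsl_af v875 = v3416 :=
  Lgr Lrot50 (Lpe (f490196 IH) (Lpqs (K41.f530517 IH) (Lpe (f527714 IH) (Lpr_et (f625566 IH) (Lpn v3416)))))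
theorem f625708 : Led Lsl_df v3416 = v3455 :=
  Lgr Lrot38 (Lpr_dt (f625707 IH) (Lpn v3455))
theorem f625825 : Led Lsl_af v3455 = v3478 :=
  Lgr Lrot117 (Lpe (f625708 IH) (Lpe (f625567 IH) (Lpr_dt (f625824 IH) (Lpn v3478))))
theorem f459663 : Led Lsl_df (LP (LK LD1_c0 LD2_c52 LD3_c10)) = v840 :=
  Lgr Lrot38 (Lpr_dt (f459662 IH) (Lpn v840))
def v1180 : LQ := Led Lsl_dt K30.v297
theorem f493532 : Led Lsl_dt K30.v297 = v1180 :=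
  Lrfl
theorem f493765 : Led Lsl_af v840 = v1180 :=
  Lgr Lrot117 (Lpe (f459663 IH) (Lpr_at (K30.f459654 IH) (Lpqs (K30.f493748 IH) (Lpr_dt (f493532 IH) (Lpn v1180)))))
def v1171 : LQ := Led Lsl_dt K30.v292
theorem f493492 : Led Lsl_dt K30.v292 = v1171 :=
  Lrfl
theorem f493494 : Led Lsl_df K30.v292 = v1171 :=
  Lgr Lrot38 (Lpr_dt (f493492 IH) (Lpn v1171))
theorem f493535 : Led Lsl_ff v1171 = v1180 :=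
  Lgr Lrot19 (Lpe (f493494 IH) (Lpe (K30.f479064 IH) (Lpr_dt (f493532 IH) (Lpn v1180))))
theorem f493537 : Led Lsl_ft v1171 = v1180 :=
  Lgr Lrot48 (Lpr_ff (f493535 IH) (Lpn v1180))
theorem f625706 : Led Lsl_gt v1171 = v3455 :=
  Lgr Lrot5 (Lpr_ft (f493537 IH) (Lpe (f493765 IH) (Lpr_gf (f625705 IH) (Lpn v3455))))
def v1053 : LQ := Led Lsl_dt K34.v204
theorem f491185 : Led Lsl_dt K34.v204 = v1053 :=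
  Lrfl
theorem f493756 : v1171 = v1053 :=
  Lefun (Lecon (f493492 IH) (K34.f493750 IH).symm) (f491185 IH)
def v3454 : LQ := Led Lsl_gt v840
theorem f625703 : Led Lsl_gt v840 = v3454 :=
  Lrfl
def v3248 : LQ := Led Lsl_dt K34.v615
theorem f624796 : Led Lsl_dt K34.v615 = v3248 :=
  Lrfl
theorem f624799 : Led Lsl_ff v840 = v3248 :=
  Lgr Lrot19 (Lpe (f459663 IH) (Lpr_ft (K34.f459664 IH) (Lpq (K34.f493753 IH) (Lpqs (K34.f493785 IH) (Lpr_dt (f624796 IH) (Lpn v3248))))))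
theorem f624801 : Led Lsl_ft v840 = v3248 :=
  Lgr Lrot48 (Lpr_ff (f624799 IH) (Lpn v3248))
theorem f459667 : Led Lsl_at K34.v204 = K34.v841 :=
  Lgr Lrot66 (Lpr_ff (K34.f459658 IH) (Lpe (K30.f459654 IH) (Lpr_ff (K34.f459666 IH) (Lpn K34.v841))))
theorem f491186 : Led Lsl_df K34.v204 = v1053 :=
  Lgr Lrot38 (Lpr_dt (f491185 IH) (Lpn v1053))
theorem f624797 : Led Lsl_af v1053 = v3248 :=
  Lgr Lrot117 (Lpe (f491186 IH) (Lpr_at (f459667 IH) (Lpq (K34.f493753 IH) (Lpqs (K34.f493785 IH) (Lpr_dt (f624796 IH) (Lpn v3248))))))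
theorem f625704 : Led Lsl_gf v1053 = v3454 :=
  Lgr Lrot76 (Lpr_af (f624797 IH) (Lpe (f624801 IH) (Lpr_gt (f625703 IH) (Lpn v3454))))
theorem f625830 : Led Lsl_ft v3454 = v3478 :=
  Lgr Lrot2 (Lpe (f625704 IH) (Lpq (f493756 IH) (Lpr_gt (f625706 IH) (Lpr_af (f625825 IH) (Lpn v3478)))))
theorem f625831 : Led Lsl_ff v3454 = v3478 :=
  Lgr Lrot3 (Lpr_ft (f625830 IH) (Lpn v3478))
theorem f625835 : Led Lsl_dt v3454 = v3479 :=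
  Lgr Lrot60 (Lpr_ff (f625831 IH) (Lpe (f625824 IH) (Lpr_ff (f625834 IH) (Lpn v3479))))
theorem f511964 : Led Lsl_ct K34.v618 = K33.v2301 :=
  Lgr Lrot40 (Lpe (K34.f455520 IH) (Lpe (K30.f120559 IH) (Lpr_ff (K33.f511961 IH) (Lpn K33.v2301))))
def v7410 : LQ := Led Lsl_at (LP (LK LD1_c3 LD2_c46 LD3_c50))
theorem f664991 : Led Lsl_at (LP (LK LD1_c3 LD2_c46 LD3_c50)) = v7410 :=
  Lrfl
theorem f455508 : Led Lsl_dt (LP (LK LD1_c3 LD2_c29 LD3_c28)) = (LP (LK LD1_c7 LD2_c0 LD3_c35)) :=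
  Lre_d IH (LK LD1_c3 LD2_c29 LD3_c28) (LK LD1_c7 LD2_c0 LD3_c35) Lrfl Lrfl
theorem f520707 : Led Lsl_ff (LP (LK LD1_c3 LD2_c46 LD3_c50)) = (LP (LK LD1_c7 LD2_c0 LD3_c35)) :=
  Lgr Lrot19 (Lpr_dt (K34.f88378 IH) (Lpr_ft (K33.f520703 IH) (Lpr_dt (f455508 IH) (Lpn (LP (LK LD1_c7 LD2_c0 LD3_c35))))))
theorem f664994 : Led Lsl_ff (LP (LK LD1_c3 LD2_c46 LD3_c53)) = v7410 :=
  Lgr Lrot30 (Lpr_at (K33.f520685 IH) (Lpe (f520707 IH) (Lpr_at (f664991 IH) (Lpn v7410))))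
theorem f664996 : Led Lsl_ft (LP (LK LD1_c3 LD2_c46 LD3_c53)) = v7410 :=
  Lgr Lrot48 (Lpr_ff (f664994 IH) (Lpn v7410))
theorem f664992 : Led Lsl_af (LP (LK LD1_c3 LD2_c46 LD3_c50)) = v7410 :=
  Lgr Lrot0 (Lpr_at (f664991 IH) (Lpn v7410))
def v7409 : LQ := Led Lsl_gf (LP (LK LD1_c3 LD2_c46 LD3_c50))
theorem f664990 : Led Lsl_gf (LP (LK LD1_c3 LD2_c46 LD3_c50)) = v7409 :=
  Lrfl
theorem f664997 : Led Lsl_gt (LP (LK LD1_c3 LD2_c46 LD3_c53)) = v7409 :=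
  Lgr Lrot5 (Lpr_ft (f664996 IH) (Lpe (f664992 IH) (Lpr_gf (f664990 IH) (Lpn v7409))))
theorem f675906 : Led Lsl_dt v7409 = v9424 :=
  Lgr Lrot105 (Lpe (f664997 IH) (Lpe (K33.f451063 IH) (Lpr_gf (K33.f511966 IH) (Lpe (f511964 IH) (Lpe (K34.f455527 IH) (Lpr_dt (f459662 IH) (Lpr_gt (f625703 IH) (Lpr_dt (f625835 IH) (Lpr_cf (f675903 IH) (Lpn v9424))))))))))
theorem f459946 : Led Lsl_dt (LP (LK LD1_c7 LD2_c34 LD3_c40)) = (LP (LK LD1_c7 LD2_c47 LD3_c29)) :=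
  Lgr Lrot42 (Lpr_df (K33.f459935 IH) (Lpn (LP (LK LD1_c7 LD2_c47 LD3_c29))))
theorem f459953 : Led Lsl_gt (LP (LK LD1_c14 LD2_c42 LD3_c7)) = (LP (LK LD1_c7 LD2_c47 LD3_c29)) :=
  Lre_g IH (LK LD1_c14 LD2_c42 LD3_c7) (LK LD1_c7 LD2_c47 LD3_c29) Lrfl Lrfl
theorem f459954 : Led Lsl_dt (LP (LK LD1_c24 LD2_c27 LD3_c10)) = (LP (LK LD1_c14 LD2_c42 LD3_c7)) :=
  Lre_d IH (LK LD1_c24 LD2_c27 LD3_c10) (LK LD1_c14 LD2_c42 LD3_c7) Lrfl Lrfl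
theorem f530206 : Led Lsl_gt (LP (LK LD1_c13 LD2_c18 LD3_c2)) = (LP (LK LD1_c22 LD2_c33 LD3_c57)) :=
  Lre_g IH (LK LD1_c13 LD2_c18 LD3_c2) (LK LD1_c22 LD2_c33 LD3_c57) Lrfl Lrfl
theorem f675908 : Led Lsl_et (LP (LK LD1_c24 LD2_c27 LD3_c10)) = (LP (LK LD1_c22 LD2_c33 LD3_c57)) :=
  Lgr Lrot122 (Lpr_dt (f459954 IH) (Lpr_gt (f459953 IH) (Lpe (f459946 IH) (Lpr_et (K33.f459933 IH) (Lpr_gt (f664997 IH) (Lpr_dt (f675906 IH) (Lpe (f675899 IH) (Lpe (K48.f530189 IH) (Lpr_et (K34.f530190 IH) (Lpr_gt (f530206 IH) (Lpn (LP (LK LD1_c22 LD2_c33 LD3_c57)))))))))))))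
theorem f675909 : Led Lsl_et (LP (LK LD1_c24 LD2_c27 LD3_c10)) = (LP (LK LD1_c22 LD2_c33 LD3_c57)) :=
  Leop (Lpe (f675908 IH) (Lpn (LP (LK LD1_c24 LD2_c27 LD3_c10))))
theorem seed_561 : LEOK LG_e (LK LD1_c24 LD2_c27 LD3_c10) :=
  Leoe_e (LK LD1_c24 LD2_c27 LD3_c10) (f675909 IH)
def v2692 : LQ := Led Lsl_gf (LP (LK LD1_c1 LD2_c52 LD3_c61))
def v9448 : LQ := Led Lsl_dt v2692
theorem f676017 : Led Lsl_dt v2692 = v9448 :=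
  Lrfl
theorem f530435 : Led Lsl_gf (LP (LK LD1_c1 LD2_c52 LD3_c61)) = v2692 :=
  Lrfl
theorem f534106 : Led Lsl_ft (LP (LK LD1_c14 LD2_c1 LD3_c44)) = (LP (LK LD1_c13 LD2_c13 LD3_c0)) :=
  Lgr Lrot4 (Lpr_cf (K34.f122720 IH) (Lpr_ff (K41.f534102 IH) (Lpr_cf (K41.f468912 IH) (Lpn (LP (LK LD1_c13 LD2_c13 LD3_c0))))))
theorem f534207 : Led Lsl_ff (LP (LK LD1_c14 LD2_c1 LD3_c44)) = (LP (LK LD1_c13 LD2_c13 LD3_c0)) :=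
  Lgr Lrot3 (Lpr_ft (f534106 IH) (Lpn (LP (LK LD1_c13 LD2_c13 LD3_c0))))
theorem f145027 : Led Lsl_ft (LP (LK LD1_c7 LD2_c25 LD3_c0)) = (LP (LK LD1_c6 LD2_c55 LD3_c11)) :=
  Lgr Lrot4 (Lpr_cf (K5.f122709 IH) (Lpr_ff (K6.f145023 IH) (Lpe (K6.f144998 IH) (Lpn (LP (LK LD1_c6 LD2_c55 LD3_c11))))))
theorem f488357 : Led Lsl_bt (LP (LK LD1_c14 LD2_c3 LD3_c10)) = (LP (LK LD1_c13 LD2_c13 LD3_c0)) :=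
  Lgr Lrot127 (Lpr_bf (K41.f488353 IH) (Lpn (LP (LK LD1_c13 LD2_c13 LD3_c0))))
theorem f534209 : Led Lsl_ft (LP (LK LD1_c13 LD2_c8 LD3_c48)) = (LP (LK LD1_c14 LD2_c3 LD3_c10)) :=
  Lgr Lrot75 (Lpe (K35.f142551 IH) (Lpr_ff (f534207 IH) (Lpe (f488357 IH) (Lpn (LP (LK LD1_c14 LD2_c3 LD3_c10))))))
theorem f534211 : Led Lsl_et (LP (LK LD1_c14 LD2_c3 LD3_c10)) = (LP (LK LD1_c13 LD2_c13 LD3_c0)) :=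
  Lgr Lrot69 (Lpe (f534209 IH) (Lpe (K35.f127987 IH) (Lpe (f145027 IH) (Lpe (K6.f122725 IH) (Lpr_ff (f534207 IH) (Lpn (LP (LK LD1_c13 LD2_c13 LD3_c0))))))))
theorem f471234 : Led Lsl_ct (LP (LK LD1_c23 LD2_c36 LD3_c11)) = (LP (LK LD1_c14 LD2_c3 LD3_c10)) :=
  Lre_c IH (LK LD1_c23 LD2_c36 LD3_c11) (LK LD1_c14 LD2_c3 LD3_c10) Lrfl Lrfl
theorem f534213 : Led Lsl_ef (LP (LK LD1_c23 LD2_c36 LD3_c11)) = (LP (LK LD1_c14 LD2_c41 LD3_c11)) :=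
  Lgr Lrot28 (Lpr_ct (f471234 IH) (Lpr_et (f534211 IH) (Lpe (K41.f468912 IH) (Lpn (LP (LK LD1_c14 LD2_c41 LD3_c11))))))
theorem f534095 : Led Lsl_ft (LP (LK LD1_c13 LD2_c10 LD3_c28)) = (LP (LK LD1_c14 LD2_c41 LD3_c11)) :=
  Lgr Lrot54 (Lpe (K41.f122723 IH) (Lpr_ff (K41.f534091 IH) (Lpe (K41.f468918 IH) (Lpn (LP (LK LD1_c14 LD2_c41 LD3_c11))))))
theorem f534217 : Led Lsl_ft (LP (LK LD1_c23 LD2_c36 LD3_c11)) = (LP (LK LD1_c14 LD2_c19 LD3_c20)) :=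
  Lgr Lrot86 (Lpr_ef (f534213 IH) (Lpe (f534095 IH) (Lpe (K37.f122726 IH) (Lpr_ff (K6.f145023 IH) (Lpe (K37.f145017 IH) (Lpn (LP (LK LD1_c14 LD2_c19 LD3_c20))))))))
theorem f534225 : Led Lsl_ff (LP (LK LD1_c23 LD2_c36 LD3_c11)) = (LP (LK LD1_c14 LD2_c19 LD3_c20)) :=
  Lgr Lrot3 (Lpr_ft (f534217 IH) (Lpn (LP (LK LD1_c14 LD2_c19 LD3_c20))))
theorem f130010 : Led Lsl_ft (LP (LK LD1_c14 LD2_c22 LD3_c21)) = (LP (LK LD1_c7 LD2_c37 LD3_c24)) :=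
  Lre_f IH (LK LD1_c14 LD2_c22 LD3_c21) (LK LD1_c7 LD2_c37 LD3_c24) Lrfl Lrfl
theorem f534229 : Led Lsl_bt (LP (LK LD1_c23 LD2_c36 LD3_c11)) = (LP (LK LD1_c14 LD2_c22 LD3_c21)) :=
  Lgr Lrot35 (Lpr_ff (f534225 IH) (Lpr_bf (K35.f204037 IH) (Lpe (f130010 IH) (Lpn (LP (LK LD1_c14 LD2_c22 LD3_c21))))))
theorem f471222 : Led Lsl_ct (LP (LK LD1_c3 LD2_c55 LD3_c59)) = (LP (LK LD1_c7 LD2_c26 LD3_c2)) :=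
  Lgr Lrot83 (Lpe (K29.f471221 IH) (Lpe (K34.f14861 IH) (Lpe (K29.f14860 IH) (Lpr_cf (K41.f471182 IH) (Lpe (K29.f203954 IH) (Lpn (LP (LK LD1_c7 LD2_c26 LD3_c2))))))))
theorem f97327 : Led Lsl_cf (LP (LK LD1_c3 LD2_c38 LD3_c5)) = (LP (LK LD1_c3 LD2_c55 LD3_c40)) :=
  Lgr Lrot97 (Lpr_bt (K28.f86826 IH) (Lpr_ct (K3.f97325 IH) (Lpr_bt (K41.f96853 IH) (Lpr_ct (K29.f96852 IH) (Lpr_bt (K28.f96832 IH) (Lpn (LP (LK LD1_c3 LD2_c55 LD3_c40))))))))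
theorem f534250 : Led Lsl_gt (LP (LK LD1_c7 LD2_c42 LD3_c57)) = (LP (LK LD1_c14 LD2_c22 LD3_c21)) :=
  Lgr Lrot164 (Lpe (K48.f458198 IH) (Lpr_ct (K34.f458203 IH) (Lpe (K34.f472327 IH) (Lpr_cf (f97327 IH) (Lpr_gf (K34.f471206 IH) (Lpe (K29.f471178 IH) (Lpr_ct (f471222 IH) (Lpe (K41.f471224 IH) (Lpe (f471234 IH) (Lpr_bt (f534229 IH) (Lpn (LP (LK LD1_c14 LD2_c22 LD3_c21)))))))))))))
theorem f95871 : Led Lsl_gt (LP (LK LD1_c7 LD2_c49 LD3_c46)) = (LP (LK LD1_c3 LD2_c54 LD3_c5)) :=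
  Lre_g IH (LK LD1_c7 LD2_c49 LD3_c46) (LK LD1_c3 LD2_c54 LD3_c5) Lrfl Lrfl
theorem f468911 : Led Lsl_bt (LP (LK LD1_c7 LD2_c47 LD3_c1)) = (LP (LK LD1_c14 LD2_c41 LD3_c11)) :=
  Lre_b IH (LK LD1_c7 LD2_c47 LD3_c1) (LK LD1_c14 LD2_c41 LD3_c11) Lrfl Lrfl
theorem f534256 : Led Lsl_ct (LP (LK LD1_c7 LD2_c47 LD3_c1)) = (LP (LK LD1_c14 LD2_c22 LD3_c21)) :=
  Lgr Lrot10 (Lpr_bt (f468911 IH) (Lpe (K41.f534108 IH) (Lpr_ct (K28.f465549 IH) (Lpr_gt (f95871 IH) (Lpe (K6.f126458 IH) (Lpr_bt (K5.f126454 IH) (Lpe (K34.f472367 IH) (Lpe (K48.f458200 IH) (Lpe (K48.f458206 IH) (Lpr_gt (f534250 IH) (Lpn (LP (LK LD1_c14 LD2_c22 LD3_c21)))))))))))))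
theorem f130038 : Led Lsl_dt (LP (LK LD1_c24 LD2_c0 LD3_c31)) = (LP (LK LD1_c14 LD2_c22 LD3_c21)) :=
  Lre_d IH (LK LD1_c24 LD2_c0 LD3_c31) (LK LD1_c14 LD2_c22 LD3_c21) Lrfl Lrfl
theorem f488359 : Led Lsl_ct (LP (LK LD1_c14 LD2_c3 LD3_c10)) = (LP (LK LD1_c23 LD2_c36 LD3_c11)) :=
  Lre_c IH (LK LD1_c14 LD2_c3 LD3_c10) (LK LD1_c23 LD2_c36 LD3_c11) Lrfl Lrfl
theorem f534246 : Led Lsl_cf (LP (LK LD1_c7 LD2_c47 LD3_c1)) = (LP (LK LD1_c14 LD2_c22 LD3_c21)) :=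
  Lgr Lrot97 (Lpr_bt (f468911 IH) (Lpr_ct (K41.f468882 IH) (Lpe (K41.f488353 IH) (Lpr_ct (f488359 IH) (Lpr_bt (f534229 IH) (Lpn (LP (LK LD1_c14 LD2_c22 LD3_c21))))))))
theorem f459904 : Led Lsl_bt (LP (LK LD1_c1 LD2_c52 LD3_c61)) = (LP (LK LD1_c0 LD2_c53 LD3_c6)) :=
  Lre_b IH (LK LD1_c1 LD2_c52 LD3_c61) (LK LD1_c0 LD2_c53 LD3_c6) Lrfl Lrfl
theorem f145021 : Led Lsl_bf (LP (LK LD1_c7 LD2_c37 LD3_c24)) = (LP (LK LD1_c14 LD2_c19 LD3_c20)) :=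
  Lgr Lrot96 (Lpr_et (K6.f89834 IH) (Lpr_bt (K6.f145015 IH) (Lpr_et (K35.f145004 IH) (Lpn (LP (LK LD1_c14 LD2_c19 LD3_c20))))))
theorem f130015 : Led Lsl_ft (LP (LK LD1_c7 LD2_c37 LD3_c24)) = (LP (LK LD1_c14 LD2_c22 LD3_c21)) :=
  Lre_f IH (LK LD1_c7 LD2_c37 LD3_c24) (LK LD1_c14 LD2_c22 LD3_c21) Lrfl Lrfl
theorem f534221 : Led Lsl_bf (LP (LK LD1_c23 LD2_c36 LD3_c11)) = (LP (LK LD1_c14 LD2_c22 LD3_c21)) :=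
  Lgr Lrot61 (Lpr_ft (f534217 IH) (Lpe (f145021 IH) (Lpr_ft (f130015 IH) (Lpn (LP (LK LD1_c14 LD2_c22 LD3_c21))))))
theorem f534365 : Led Lsl_gf (LP (LK LD1_c14 LD2_c19 LD3_c58)) = (LP (LK LD1_c23 LD2_c36 LD3_c11)) :=
  Lgr Lrot181 (Lpe (K28.f463718 IH) (Lpr_gt (K28.f121118 IH) (Lpr_cf (K28.f129548 IH) (Lpr_bt (K28.f88017 IH) (Lpqs (K24.f459919 IH) (Lpe (K24.f459896 IH) (Lpe (f459904 IH) (Lpr_ct (K34.f458072 IH) (Lpr_gt (K41.f458031 IH) (Lpr_cf (f534246 IH) (Lpe (f534221 IH) (Lpn (LP (LK LD1_c23 LD2_c36 LD3_c11))))))))))))))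
theorem f87991 : Led Lsl_ct (LP (LK LD1_c14 LD2_c23 LD3_c3)) = (LP (LK LD1_c7 LD2_c37 LD3_c59)) :=
  Lre_c IH (LK LD1_c14 LD2_c23 LD3_c3) (LK LD1_c7 LD2_c37 LD3_c59) Lrfl Lrfl
theorem f488360 : Led Lsl_dt (LP (LK LD1_c31 LD2_c7 LD3_c31)) = (LP (LK LD1_c23 LD2_c36 LD3_c11)) :=
  Lre_d IH (LK LD1_c31 LD2_c7 LD3_c31) (LK LD1_c23 LD2_c36 LD3_c11) Lrfl Lrfl
theorem f534369 : Led Lsl_gf (LP (LK LD1_c23 LD2_c57 LD3_c60)) = (LP (LK LD1_c31 LD2_c7 LD3_c31)) :=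
  Lgr Lrot147 (Lpe (K29.f461566 IH) (Lpr_gt (K29.f87994 IH) (Lpr_ct (f87991 IH) (Lpe (K29.f88285 IH) (Lpe (K28.f128077 IH) (Lpe (K28.f121118 IH) (Lpr_cf (K28.f463718 IH) (Lpr_gf (f534365 IH) (Lpe (f488360 IH) (Lpn (LP (LK LD1_c31 LD2_c7 LD3_c31))))))))))))
theorem f87997 : Led Lsl_bt (LP (LK LD1_c13 LD2_c23 LD3_c12)) = (LP (LK LD1_c7 LD2_c3 LD3_c34)) :=
  Lre_b IH (LK LD1_c13 LD2_c23 LD3_c12) (LK LD1_c7 LD2_c3 LD3_c34) Lrfl Lrfl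
theorem f87998 : Led Lsl_ct (LP (LK LD1_c13 LD2_c23 LD3_c12)) = (LP (LK LD1_c22 LD2_c41 LD3_c2)) :=
  Lre_c IH (LK LD1_c13 LD2_c23 LD3_c12) (LK LD1_c22 LD2_c41 LD3_c2) Lrfl Lrfl
theorem f87999 : Led Lsl_gt (LP (LK LD1_c22 LD2_c41 LD3_c2)) = (LP (LK LD1_c30 LD2_c39 LD3_c10)) :=
  Lre_g IH (LK LD1_c22 LD2_c41 LD3_c2) (LK LD1_c30 LD2_c39 LD3_c10) Lrfl Lrfl
theorem f532278 : Led Lsl_dt (LP (LK LD1_c23 LD2_c36 LD3_c11)) = (LP (LK LD1_c31 LD2_c7 LD3_c31)) :=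
  Lre_d IH (LK LD1_c23 LD2_c36 LD3_c11) (LK LD1_c31 LD2_c7 LD3_c31) Lrfl Lrfl
theorem f534231 : Led Lsl_ft (LP (LK LD1_c31 LD2_c7 LD3_c31)) = (LP (LK LD1_c23 LD2_c57 LD3_c19)) :=
  Lgr Lrot54 (Lpe (f532278 IH) (Lpr_ff (f534225 IH) (Lpe (K35.f204006 IH) (Lpn (LP (LK LD1_c23 LD2_c57 LD3_c19))))))
theorem f130043 : Led Lsl_ft (LP (LK LD1_c14 LD2_c22 LD3_c20)) = (LP (LK LD1_c24 LD2_c0 LD3_c31)) :=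
  Lre_f IH (LK LD1_c14 LD2_c22 LD3_c20) (LK LD1_c24 LD2_c0 LD3_c31) Lrfl Lrfl
theorem f534235 : Led Lsl_bf (LP (LK LD1_c31 LD2_c7 LD3_c31)) = (LP (LK LD1_c24 LD2_c0 LD3_c31)) :=
  Lgr Lrot61 (Lpr_ft (f534231 IH) (Lpr_bt (K35.f204035 IH) (Lpr_ft (f130043 IH) (Lpn (LP (LK LD1_c24 LD2_c0 LD3_c31))))))
theorem f534373 : Led Lsl_cf (LP (LK LD1_c30 LD2_c39 LD3_c10)) = (LP (LK LD1_c24 LD2_c0 LD3_c31)) :=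
  Lgr Lrot58 (Lpe (f87999 IH) (Lpe (f87998 IH) (Lpr_bt (f87997 IH) (Lpr_gf (K5.f87974 IH) (Lpe (K5.f87990 IH) (Lpr_ct (K29.f87993 IH) (Lpe (K29.f87994 IH) (Lpr_cf (K29.f461566 IH) (Lpr_gf (f534369 IH) (Lpr_bf (f534235 IH) (Lpn (LP (LK LD1_c24 LD2_c0 LD3_c31)))))))))))))
theorem f534375 : Led Lsl_ct (LP (LK LD1_c30 LD2_c39 LD3_c10)) = (LP (LK LD1_c24 LD2_c0 LD3_c31)) :=
  Lgr Lrot59 (Lpr_cf (f534373 IH) (Lpn (LP (LK LD1_c24 LD2_c0 LD3_c31))))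
theorem f676019 : Led Lsl_gf (LP (LK LD1_c13 LD2_c23 LD3_c12)) = v9448 :=
  Lgr Lrot179 (Lpr_ct (f87998 IH) (Lpr_gt (f87999 IH) (Lpr_ct (f534375 IH) (Lpr_dt (f130038 IH) (Lpe (f534256 IH) (Lpe (K41.f458031 IH) (Lpe (K34.f458072 IH) (Lpr_gf (f530435 IH) (Lpr_dt (f676017 IH) (Lpn v9448))))))))))
theorem f472249 : Led Lsl_dt (LP (LK LD1_c13 LD2_c23 LD3_c12)) = (LP (LK LD1_c7 LD2_c3 LD3_c33)) :=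
  Lre_d IH (LK LD1_c13 LD2_c23 LD3_c12) (LK LD1_c7 LD2_c3 LD3_c33) Lrfl Lrfl
theorem f472250 : Led Lsl_ct (LP (LK LD1_c7 LD2_c3 LD3_c33)) = (LP (LK LD1_c13 LD2_c22 LD3_c41)) :=
  Lre_c IH (LK LD1_c7 LD2_c3 LD3_c33) (LK LD1_c13 LD2_c22 LD3_c41) Lrfl Lrfl
theorem f472221 : Led Lsl_df (LP (LK LD1_c7 LD2_c3 LD3_c15)) = (LP (LK LD1_c6 LD2_c54 LD3_c26)) :=
  Lgr Lrot84 (Lpe (K30.f458491 IH) (Lpe (K29.f457635 IH) (Lpe (K29.f468324 IH) (Lpr_df (K28.f106119 IH) (Lpe (K28.f5743 IH) (Lpr_cf (K29.f472216 IH) (Lpr_gt (K29.f15901 IH) (Lpr_dt (K29.f14654 IH) (Lpr_gt (K29.f97718 IH) (Lpn (LP (LK LD1_c6 LD2_c54 LD3_c26))))))))))))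
theorem f472235 : Led Lsl_dt (LP (LK LD1_c7 LD2_c3 LD3_c15)) = (LP (LK LD1_c6 LD2_c54 LD3_c26)) :=
  Lgr Lrot42 (Lpr_df (f472221 IH) (Lpn (LP (LK LD1_c6 LD2_c54 LD3_c26))))
theorem f472238 : Led Lsl_bt (LP (LK LD1_c13 LD2_c22 LD3_c41)) = (LP (LK LD1_c7 LD2_c3 LD3_c15)) :=
  Lre_b IH (LK LD1_c13 LD2_c22 LD3_c41) (LK LD1_c7 LD2_c3 LD3_c15) Lrfl Lrfl
theorem f472239 : Led Lsl_bt (LP (LK LD1_c6 LD2_c54 LD3_c26)) = (LP (LK LD1_c13 LD2_c7 LD3_c30)) :=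
  Lre_b IH (LK LD1_c6 LD2_c54 LD3_c26) (LK LD1_c13 LD2_c7 LD3_c30) Lrfl Lrfl
theorem f472240 : Led Lsl_df (LP (LK LD1_c13 LD2_c22 LD3_c41)) = (LP (LK LD1_c13 LD2_c7 LD3_c30)) :=
  Lgr Lrot12 (Lpr_bt (f472238 IH) (Lpr_dt (f472235 IH) (Lpr_bt (f472239 IH) (Lpn (LP (LK LD1_c13 LD2_c7 LD3_c30))))))
theorem f459912 : Led Lsl_at (LP (LK LD1_c3 LD2_c52 LD3_c48)) = (LP (LK LD1_c1 LD2_c52 LD3_c61)) :=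
  Lre_a IH (LK LD1_c3 LD2_c52 LD3_c48) (LK LD1_c1 LD2_c52 LD3_c61) Lrfl Lrfl
theorem f530436 : Led Lsl_gt (LP (LK LD1_c7 LD2_c37 LD3_c18)) = v2692 :=
  Lgr Lrot5 (Lpe (K34.f475642 IH) (Lpr_at (f459912 IH) (Lpr_gf (f530435 IH) (Lpn v2692))))
theorem f14845 : Led Lsl_bt (LP (LK LD1_c3 LD2_c51 LD3_c8)) = (LP (LK LD1_c1 LD2_c52 LD3_c25)) :=
  Lre_b IH (LK LD1_c3 LD2_c51 LD3_c8) (LK LD1_c1 LD2_c52 LD3_c25) Lrfl Lrfl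
theorem f530511 : Led Lsl_ff (LP (LK LD1_c3 LD2_c51 LD3_c8)) = (LP (LK LD1_c7 LD2_c42 LD3_c57)) :=
  Lgr Lrot25 (Lpr_bt (f14845 IH) (Lpr_ft (K41.f530296 IH) (Lpqs (K41.f530506 IH) (Lpr_bt (K48.f458198 IH) (Lpn (LP (LK LD1_c7 LD2_c42 LD3_c57)))))))
theorem f530303 : Led Lsl_at (LP (LK LD1_c3 LD2_c51 LD3_c8)) = (LP (LK LD1_c7 LD2_c43 LD3_c38)) :=
  Lre_a IH (LK LD1_c3 LD2_c51 LD3_c8) (LK LD1_c7 LD2_c43 LD3_c38) Lrfl Lrfl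
theorem f534252 : Led Lsl_gf (LP (LK LD1_c7 LD2_c43 LD3_c38)) = (LP (LK LD1_c14 LD2_c22 LD3_c21)) :=
  Lgr Lrot76 (Lpe (f530303 IH) (Lpr_ff (f530511 IH) (Lpr_gt (f534250 IH) (Lpn (LP (LK LD1_c14 LD2_c22 LD3_c21))))))
theorem f130026 : Led Lsl_af (LP (LK LD1_c6 LD2_c56 LD3_c15)) = (LP (LK LD1_c7 LD2_c37 LD3_c24)) :=
  Lgr Lrot0 (Lpr_at (K6.f130024 IH) (Lpn (LP (LK LD1_c7 LD2_c37 LD3_c24))))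
theorem f534274 : Led Lsl_gt (LP (LK LD1_c7 LD2_c43 LD3_c38)) = (LP (LK LD1_c6 LD2_c56 LD3_c15)) :=
  Lgr Lrot46 (Lpr_gf (f534252 IH) (Lpr_ft (f130010 IH) (Lpe (f130026 IH) (Lpn (LP (LK LD1_c6 LD2_c56 LD3_c15))))))
theorem f531188 : Led Lsl_dt (LP (LK LD1_c14 LD2_c34 LD3_c5)) = (LP (LK LD1_c7 LD2_c43 LD3_c38)) :=
  Lre_d IH (LK LD1_c14 LD2_c34 LD3_c5) (LK LD1_c7 LD2_c43 LD3_c38) Lrfl Lrfl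
theorem f527271 : Led Lsl_dt (LP (LK LD1_c3 LD2_c51 LD3_c9)) = (LP (LK LD1_c1 LD2_c52 LD3_c25)) :=
  Lre_d IH (LK LD1_c3 LD2_c51 LD3_c9) (LK LD1_c1 LD2_c52 LD3_c25) Lrfl Lrfl
theorem f530513 : Led Lsl_ff (LP (LK LD1_c3 LD2_c51 LD3_c9)) = (LP (LK LD1_c7 LD2_c42 LD3_c58)) :=
  Lgr Lrot19 (Lpr_dt (f527271 IH) (Lpr_ft (K41.f530296 IH) (Lpqs (K41.f530506 IH) (Lpr_dt (K46.f14804 IH) (Lpn (LP (LK LD1_c7 LD2_c42 LD3_c58)))))))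
theorem f531075 : Led Lsl_at (LP (LK LD1_c3 LD2_c51 LD3_c6)) = (LP (LK LD1_c7 LD2_c42 LD3_c58)) :=
  Lgr Lrot66 (Lpr_ff (K47.f531020 IH) (Lpr_af (K47.f531065 IH) (Lpr_ff (f530513 IH) (Lpn (LP (LK LD1_c7 LD2_c42 LD3_c58))))))
theorem f531081 : Led Lsl_af (LP (LK LD1_c3 LD2_c51 LD3_c6)) = (LP (LK LD1_c7 LD2_c42 LD3_c58)) :=
  Lgr Lrot0 (Lpr_at (f531075 IH) (Lpn (LP (LK LD1_c7 LD2_c42 LD3_c58))))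
theorem f531029 : Led Lsl_ft (LP (LK LD1_c3 LD2_c51 LD3_c6)) = (LP (LK LD1_c7 LD2_c42 LD3_c60)) :=
  Lgr Lrot48 (Lpr_ff (K47.f531020 IH) (Lpn (LP (LK LD1_c7 LD2_c42 LD3_c60))))
theorem f531068 : Led Lsl_at (LP (LK LD1_c7 LD2_c42 LD3_c60)) = (LP (LK LD1_c3 LD2_c51 LD3_c9)) :=
  Lgr Lrot100 (Lpr_af (K47.f531065 IH) (Lpn (LP (LK LD1_c3 LD2_c51 LD3_c9))))
theorem f531167 : Led Lsl_ft (LP (LK LD1_c3 LD2_c51 LD3_c9)) = (LP (LK LD1_c7 LD2_c42 LD3_c58)) :=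
  Lgr Lrot101 (Lpe (f531068 IH) (Lpe (f531029 IH) (Lpr_af (f531081 IH) (Lpn (LP (LK LD1_c7 LD2_c42 LD3_c58))))))
theorem f527404 : Led Lsl_bt (LP (LK LD1_c7 LD2_c43 LD3_c39)) = (LP (LK LD1_c3 LD2_c51 LD3_c9)) :=
  Lre_b IH (LK LD1_c7 LD2_c43 LD3_c39) (LK LD1_c3 LD2_c51 LD3_c9) Lrfl Lrfl
theorem f531083 : Led Lsl_bt (LP (LK LD1_c7 LD2_c42 LD3_c58)) = (LP (LK LD1_c14 LD2_c32 LD3_c39)) :=
  Lre_b IH (LK LD1_c7 LD2_c42 LD3_c58) (LK LD1_c14 LD2_c32 LD3_c39) Lrfl Lrfl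
theorem f531169 : Led Lsl_ff (LP (LK LD1_c7 LD2_c43 LD3_c39)) = (LP (LK LD1_c14 LD2_c32 LD3_c39)) :=
  Lgr Lrot25 (Lpr_bt (f527404 IH) (Lpr_ft (f531167 IH) (Lpr_bt (f531083 IH) (Lpn (LP (LK LD1_c14 LD2_c32 LD3_c39))))))
theorem f531177 : Led Lsl_at (LP (LK LD1_c7 LD2_c43 LD3_c39)) = (LP (LK LD1_c14 LD2_c34 LD3_c5)) :=
  Lre_a IH (LK LD1_c7 LD2_c43 LD3_c39) (LK LD1_c14 LD2_c34 LD3_c5) Lrfl Lrfl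
theorem f527199 : Led Lsl_gt (LP (LK LD1_c14 LD2_c32 LD3_c39)) = (LP (LK LD1_c24 LD2_c14 LD3_c61)) :=
  Lre_g IH (LK LD1_c14 LD2_c32 LD3_c39) (LK LD1_c24 LD2_c14 LD3_c61) Lrfl Lrfl
theorem f531186 : Led Lsl_gf (LP (LK LD1_c14 LD2_c34 LD3_c5)) = (LP (LK LD1_c24 LD2_c14 LD3_c61)) :=
  Lgr Lrot76 (Lpe (f531177 IH) (Lpr_ff (f531169 IH) (Lpr_gt (f527199 IH) (Lpn (LP (LK LD1_c24 LD2_c14 LD3_c61))))))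
theorem f458210 : Led Lsl_dt (LP (LK LD1_c7 LD2_c42 LD3_c57)) = (LP (LK LD1_c14 LD2_c32 LD3_c39)) :=
  Lre_d IH (LK LD1_c7 LD2_c42 LD3_c57) (LK LD1_c14 LD2_c32 LD3_c39) Lrfl Lrfl
theorem f475547 : Led Lsl_gt (LP (LK LD1_c7 LD2_c47 LD3_c22)) = (LP (LK LD1_c14 LD2_c41 LD3_c50)) :=
  Lre_g IH (LK LD1_c7 LD2_c47 LD3_c22) (LK LD1_c14 LD2_c41 LD3_c50) Lrfl Lrfl
theorem f475548 : Led Lsl_gt (LP (LK LD1_c14 LD2_c41 LD3_c50)) = (LP (LK LD1_c24 LD2_c0 LD3_c14)) :=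
  Lgr Lrot46 (Lpe (f475547 IH) (Lpr_ft (K34.f475522 IH) (Lpr_at (K34.f457866 IH) (Lpn (LP (LK LD1_c24 LD2_c0 LD3_c14))))))
theorem f534254 : Led Lsl_ct (LP (LK LD1_c24 LD2_c14 LD3_c61)) = (LP (LK LD1_c14 LD2_c41 LD3_c50)) :=
  Lgr Lrot152 (Lpe (f527199 IH) (Lpe (f458210 IH) (Lpr_gt (f534250 IH) (Lpe (f534246 IH) (Lpr_gt (K41.f475480 IH) (Lpr_ct (K34.f457833 IH) (Lpe (K34.f457867 IH) (Lpe (K34.f457868 IH) (Lpe (f475548 IH) (Lpn (LP (LK LD1_c14 LD2_c41 LD3_c50))))))))))))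
theorem f457862 : Led Lsl_dt (LP (LK LD1_c24 LD2_c0 LD3_c14)) = (LP (LK LD1_c31 LD2_c18 LD3_c60)) :=
  Lre_d IH (LK LD1_c24 LD2_c0 LD3_c14) (LK LD1_c31 LD2_c18 LD3_c60) Lrfl Lrfl
theorem f475576 : Led Lsl_ff (LP (LK LD1_c24 LD2_c25 LD3_c52)) = (LP (LK LD1_c22 LD2_c24 LD3_c40)) :=
  Lgr Lrot3 (Lpr_ft (K34.f475570 IH) (Lpn (LP (LK LD1_c22 LD2_c24 LD3_c40))))
theorem f475488 : Led Lsl_ct (LP (LK LD1_c24 LD2_c26 LD3_c46)) = (LP (LK LD1_c14 LD2_c41 LD3_c53)) :=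
  Lre_c IH (LK LD1_c24 LD2_c26 LD3_c46) (LK LD1_c14 LD2_c41 LD3_c53) Lrfl Lrfl
theorem f475564 : Led Lsl_at (LP (LK LD1_c14 LD2_c41 LD3_c53)) = (LP (LK LD1_c24 LD2_c26 LD3_c23)) :=
  Lre_a IH (LK LD1_c14 LD2_c41 LD3_c53) (LK LD1_c24 LD2_c26 LD3_c23) Lrfl Lrfl
theorem f475565 : Led Lsl_ct (LP (LK LD1_c24 LD2_c26 LD3_c23)) = (LP (LK LD1_c22 LD2_c24 LD3_c40)) :=
  Lgr Lrot111 (Lpe (f475564 IH) (Lpe (f475488 IH) (Lpr_af (K34.f475553 IH) (Lpn (LP (LK LD1_c22 LD2_c24 LD3_c40))))))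
theorem f475578 : Led Lsl_ft (LP (LK LD1_c31 LD2_c18 LD3_c60)) = (LP (LK LD1_c24 LD2_c26 LD3_c23)) :=
  Lgr Lrot4 (Lpe (K34.f475483 IH) (Lpr_ff (f475576 IH) (Lpe (f475565 IH) (Lpn (LP (LK LD1_c24 LD2_c26 LD3_c23))))))
theorem f475580 : Led Lsl_at (LP (LK LD1_c24 LD2_c26 LD3_c23)) = (LP (LK LD1_c14 LD2_c41 LD3_c53)) :=
  Lre_a IH (LK LD1_c24 LD2_c26 LD3_c23) (LK LD1_c14 LD2_c41 LD3_c53) Lrfl Lrfl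
theorem f460078 : Led Lsl_gt (LP (LK LD1_c24 LD2_c26 LD3_c45)) = (LP (LK LD1_c14 LD2_c41 LD3_c53)) :=
  Lre_g IH (LK LD1_c24 LD2_c26 LD3_c45) (LK LD1_c14 LD2_c41 LD3_c53) Lrfl Lrfl
theorem f475584 : Led Lsl_gt (LP (LK LD1_c31 LD2_c18 LD3_c60)) = (LP (LK LD1_c24 LD2_c26 LD3_c45)) :=
  Lgr Lrot5 (Lpr_ft (f475578 IH) (Lpr_at (f475580 IH) (Lpe (f460078 IH) (Lpn (LP (LK LD1_c24 LD2_c26 LD3_c45))))))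
theorem f113316 : Led Lsl_ct (LP (LK LD1_c22 LD2_c23 LD3_c8)) = (LP (LK LD1_c13 LD2_c10 LD3_c30)) :=
  Lre_c IH (LK LD1_c22 LD2_c23 LD3_c8) (LK LD1_c13 LD2_c10 LD3_c30) Lrfl Lrfl
theorem f534276 : Led Lsl_dt (LP (LK LD1_c24 LD2_c26 LD3_c45)) = (LP (LK LD1_c22 LD2_c23 LD3_c8)) :=
  Lgr Lrot105 (Lpe (f475584 IH) (Lpe (f457862 IH) (Lpe (f475548 IH) (Lpe (f534254 IH) (Lpe (f531186 IH) (Lpr_dt (f531188 IH) (Lpr_gt (f534274 IH) (Lpr_dt (K5.f113012 IH) (Lpe (f113316 IH) (Lpn (LP (LK LD1_c22 LD2_c23 LD3_c8))))))))))))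
theorem f130037 : Led Lsl_ft (LP (LK LD1_c24 LD2_c0 LD3_c31)) = (LP (LK LD1_c14 LD2_c22 LD3_c20)) :=
  Lre_f IH (LK LD1_c24 LD2_c0 LD3_c31) (LK LD1_c14 LD2_c22 LD3_c20) Lrfl Lrfl
theorem f458032 : Led Lsl_dt (LP (LK LD1_c7 LD2_c47 LD3_c1)) = (LP (LK LD1_c14 LD2_c41 LD3_c12)) :=
  Lre_d IH (LK LD1_c7 LD2_c47 LD3_c1) (LK LD1_c14 LD2_c41 LD3_c12) Lrfl Lrfl
theorem f473952 : Led Lsl_ct (LP (LK LD1_c14 LD2_c41 LD3_c12)) = (LP (LK LD1_c24 LD2_c25 LD3_c43)) :=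
  Lre_c IH (LK LD1_c14 LD2_c41 LD3_c12) (LK LD1_c24 LD2_c25 LD3_c43) Lrfl Lrfl
theorem f534280 : Led Lsl_dt (LP (LK LD1_c24 LD2_c25 LD3_c43)) = (LP (LK LD1_c31 LD2_c31 LD3_c8)) :=
  Lre_d IH (LK LD1_c24 LD2_c25 LD3_c43) (LK LD1_c31 LD2_c31 LD3_c8) Lrfl Lrfl
theorem f534281 : Led Lsl_cf (LP (LK LD1_c24 LD2_c26 LD3_c45)) = (LP (LK LD1_c31 LD2_c31 LD3_c8)) :=
  Lgr Lrot161 (Lpr_dt (f534276 IH) (Lpr_ct (f113316 IH) (Lpr_af (K35.f130030 IH) (Lpe (f130037 IH) (Lpr_dt (f130038 IH) (Lpe (f534246 IH) (Lpr_dt (f458032 IH) (Lpr_ct (f473952 IH) (Lpr_dt (f534280 IH) (Lpn (LP (LK LD1_c31 LD2_c31 LD3_c8))))))))))))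
theorem f144938 : Led Lsl_cf (LP (LK LD1_c7 LD2_c37 LD3_c25)) = (LP (LK LD1_c6 LD2_c56 LD3_c15)) :=
  Lgr Lrot97 (Lpr_bt (K6.f144915 IH) (Lpr_ct (K6.f144922 IH) (Lpe (K34.f144905 IH) (Lpr_ct (K34.f116686 IH) (Lpr_bt (K5.f116682 IH) (Lpn (LP (LK LD1_c6 LD2_c56 LD3_c15))))))))
theorem f534285 : Led Lsl_ff (LP (LK LD1_c6 LD2_c56 LD3_c14)) = (LP (LK LD1_c7 LD2_c47 LD3_c1)) :=
  Lgr Lrot103 (Lpe (K6.f130028 IH) (Lpr_cf (f144938 IH) (Lpe (K35.f113321 IH) (Lpe (f113316 IH) (Lpe (f534276 IH) (Lpr_cf (f534281 IH) (Lpe (f534280 IH) (Lpe (f473952 IH) (Lpe (f458032 IH) (Lpn (LP (LK LD1_c7 LD2_c47 LD3_c1))))))))))))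
theorem f534333 : Led Lsl_gf (LP (LK LD1_c7 LD2_c37 LD3_c25)) = (LP (LK LD1_c6 LD2_c56 LD3_c58)) :=
  Lgr Lrot76 (Lpr_af (K6.f130028 IH) (Lpr_ff (f534285 IH) (Lpr_gt (K41.f475480 IH) (Lpn (LP (LK LD1_c6 LD2_c56 LD3_c58))))))
theorem f676020 : Led Lsl_gf (LP (LK LD1_c13 LD2_c7 LD3_c30)) = (LP (LK LD1_c14 LD2_c22 LD3_c22)) :=
  Lgr Lrot143 (Lpe (f472240 IH) (Lpe (f472250 IH) (Lpe (f472249 IH) (Lpr_gf (f676019 IH) (Lpe (f676017 IH) (Lpe (f530436 IH) (Lpe (K34.f457833 IH) (Lpe (f534333 IH) (Lpr_dt (K46.f116717 IH) (Lpn (LP (LK LD1_c14 LD2_c22 LD3_c22))))))))))))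
theorem f676021 : Led Lsl_gt (LP (LK LD1_c14 LD2_c22 LD3_c22)) = (LP (LK LD1_c13 LD2_c7 LD3_c30)) :=
  Leop (Lpr_gf (f676020 IH) (Lpn (LP (LK LD1_c14 LD2_c22 LD3_c22))))
theorem seed_562 : LEOK LG_g (LK LD1_c14 LD2_c22 LD3_c22) :=
  Leoe_g (LK LD1_c14 LD2_c22 LD3_c22) (f676021 IH)
def v2723 : LQ := Led Lsl_et (LP (LK LD1_c1 LD2_c53 LD3_c58))
def v9490 : LQ := Led Lsl_dt v2723
theorem f676178 : Led Lsl_dt v2723 = v9490 :=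
  Lrfl
theorem f531586 : Led Lsl_et (LP (LK LD1_c1 LD2_c53 LD3_c58)) = v2723 :=
  Lrfl
theorem f531590 : Led Lsl_ef (LP (LK LD1_c1 LD2_c53 LD3_c58)) = v2723 :=
  Lgr Lrot88 (Lpr_et (f531586 IH) (Lpn v2723))
theorem f531593 : Led Lsl_ct K28.v785 = v2723 :=
  Lgr Lrot15 (Lpe (K28.f459373 IH) (Lpe (K29.f145393 IH) (Lpr_ef (f531590 IH) (Lpn v2723))))
theorem f676181 : Led Lsl_cf (LP (LK LD1_c7 LD2_c33 LD3_c30)) = v9490 :=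
  Lgr Lrot55 (Lpe (K29.f474474 IH) (Lpr_ct (K29.f459571 IH) (Lpr_dt (K29.f459570 IH) (Lpr_ct (K29.f441410 IH) (Lpr_dt (K29.f85270 IH) (Lpr_ct (K29.f85275 IH) (Lpr_dt (K29.f459579 IH) (Lpr_ct (K29.f474395 IH) (Lpe (K29.f474389 IH) (Lpr_ct (K29.f456298 IH) (Lpr_dt (K29.f4496 IH) (Lpr_ct (K35.f4495 IH) (Lpr_dt (K28.f459366 IH) (Lpr_ct (f531593 IH) (Lpr_dt (f676178 IH) (Lpn v9490))))))))))))))))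
theorem f441400 : Led Lsl_bt (LP (LK LD1_c7 LD2_c33 LD3_c21)) = (LP (LK LD1_c3 LD2_c46 LD3_c11)) :=
  Lre_b IH (LK LD1_c7 LD2_c33 LD3_c21) (LK LD1_c3 LD2_c46 LD3_c11) Lrfl Lrfl
theorem f441402 : Led Lsl_ct (LP (LK LD1_c7 LD2_c33 LD3_c21)) = (LP (LK LD1_c14 LD2_c15 LD3_c1)) :=
  Lre_c IH (LK LD1_c7 LD2_c33 LD3_c21) (LK LD1_c14 LD2_c15 LD3_c1) Lrfl Lrfl
def v2464 : LQ := Led Lsl_et (LP (LK LD1_c1 LD2_c45 LD3_c52))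
theorem f522448 : Led Lsl_et (LP (LK LD1_c1 LD2_c45 LD3_c52)) = v2464 :=
  Lrfl
theorem f531592 : Led Lsl_bt v2464 = v2723 :=
  Lgr Lrot119 (Lpe (f522448 IH) (Lpe (K29.f456653 IH) (Lpr_ef (f531590 IH) (Lpn v2723))))
def v9146 : LQ := Led Lsl_dt v2464
theorem f673777 : Led Lsl_dt v2464 = v9146 :=
  Lrfl
theorem f673778 : Led Lsl_df v2464 = v9146 :=
  Lgr Lrot38 (Lpr_dt (f673777 IH) (Lpn v9146))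
theorem f676180 : Led Lsl_bf v9146 = v9490 :=
  Lgr Lrot93 (Lpe (f673778 IH) (Lpr_bt (f531592 IH) (Lpr_dt (f676178 IH) (Lpn v9490))))
theorem f522450 : Led Lsl_ef (LP (LK LD1_c1 LD2_c45 LD3_c52)) = v2464 :=
  Lgr Lrot88 (Lpr_et (f522448 IH) (Lpn v2464))
theorem f18233 : Led Lsl_dt (LP (LK LD1_c3 LD2_c24 LD3_c42)) = (LP (LK LD1_c6 LD2_c51 LD3_c54)) :=
  Lre_d IH (LK LD1_c3 LD2_c24 LD3_c42) (LK LD1_c6 LD2_c51 LD3_c54) Lrfl Lrfl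
theorem f673779 : Led Lsl_gf (LP (LK LD1_c6 LD2_c51 LD3_c54)) = v9146 :=
  Lgr Lrot145 (Lpe (f18233 IH) (Lpr_et (K33.f18232 IH) (Lpe (K2.f18228 IH) (Lpr_dt (K2.f90934 IH) (Lpe (K2.f90977 IH) (Lpe (K2.f11965 IH) (Lpr_et (K3.f11967 IH) (Lpr_gt (K29.f479171 IH) (Lpr_ef (f522450 IH) (Lpr_dt (f673777 IH) (Lpn v9146)))))))))))
theorem f95385 : Led Lsl_ct (LP (LK LD1_c13 LD2_c3 LD3_c19)) = (LP (LK LD1_c22 LD2_c13 LD3_c4)) :=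
  Lre_c IH (LK LD1_c13 LD2_c3 LD3_c19) (LK LD1_c22 LD2_c13 LD3_c4) Lrfl Lrfl
theorem f676192 : Led Lsl_gf (LP (LK LD1_c14 LD2_c15 LD3_c1)) = (LP (LK LD1_c22 LD2_c13 LD3_c4)) :=
  Lgr Lrot126 (Lpe (f441402 IH) (Lpr_bt (f441400 IH) (Lpe (K29.f441394 IH) (Lpr_ct (K29.f440683 IH) (Lpr_gt (K32.f441351 IH) (Lpr_cf (f676181 IH) (Lpe (f676180 IH) (Lpe (f673779 IH) (Lpe (K47.f95379 IH) (Lpr_ct (f95385 IH) (Lpn (LP (LK LD1_c22 LD2_c13 LD3_c4)))))))))))))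
theorem f676193 : Led Lsl_gt (LP (LK LD1_c22 LD2_c13 LD3_c4)) = (LP (LK LD1_c14 LD2_c15 LD3_c1)) :=
  Leop (Lpr_gf (f676192 IH) (Lpn (LP (LK LD1_c22 LD2_c13 LD3_c4))))
theorem seed_563 : LEOK LG_g (LK LD1_c22 LD2_c13 LD3_c4) :=
  Leoe_g (LK LD1_c22 LD2_c13 LD3_c4) (f676193 IH)
def v9498 : LQ := Led Lsl_gf K48.v2730
theorem f676257 : Led Lsl_gf K48.v2730 = v9498 :=
  Lrfl
theorem f147107 : Led Lsl_dt (LP (LK LD1_c1 LD2_c47 LD3_c37)) = (LP (LK LD1_c3 LD2_c41 LD3_c23)) :=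
  Lre_d IH (LK LD1_c1 LD2_c47 LD3_c37) (LK LD1_c3 LD2_c41 LD3_c23) Lrfl Lrfl
def v7177 : LQ := Led Lsl_gt (LP (LK LD1_c3 LD2_c41 LD3_c23))
theorem f661777 : Led Lsl_gt (LP (LK LD1_c3 LD2_c41 LD3_c23)) = v7177 :=
  Lrfl
theorem f607575 : Led Lsl_gt (LP (LK LD1_c13 LD2_c24 LD3_c36)) = (LP (LK LD1_c21 LD2_c14 LD3_c34)) :=
  Lgr Lrot9 (Lpe (K39.f463362 IH) (Lpe (K37.f544230 IH) (Lpr_ct (K37.f544232 IH) (Lpr_gt (K37.f147288 IH) (Lpr_ct (K37.f147270 IH) (Lpe (K47.f147272 IH) (Lpe (K46.f147273 IH) (Lpe (K43.f147303 IH) (Lpr_cf (K47.f607571 IH) (Lpn (LP (LK LD1_c21 LD2_c14 LD3_c34))))))))))))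
theorem f470096 : Led Lsl_gf (LP (LK LD1_c13 LD2_c24 LD3_c37)) = (LP (LK LD1_c7 LD2_c54 LD3_c34)) :=
  Lgr Lrot144 (Lpe (K28.f463279 IH) (Lpe (K33.f470053 IH) (Lpe (K28.f458947 IH) (Lpe (K28.f458962 IH) (Lpe (K28.f458961 IH) (Lpr_gf (K33.f459229 IH) (Lpe (K28.f459231 IH) (Lpr_gf (K33.f470087 IH) (Lpe (K28.f451766 IH) (Lpn (LP (LK LD1_c7 LD2_c54 LD3_c34))))))))))))
theorem f661781 : Led Lsl_bt (LP (LK LD1_c3 LD2_c56 LD3_c26)) = v7177 :=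
  Lgr Lrot92 (Lpr_ct (K28.f451268 IH) (Lpe (f470096 IH) (Lpe (K28.f463278 IH) (Lpr_bt (K47.f463373 IH) (Lpr_gt (f607575 IH) (Lpe (K47.f607571 IH) (Lpr_gt (K43.f147303 IH) (Lpe (K39.f147300 IH) (Lpr_bt (K8.f147143 IH) (Lpr_gt (f661777 IH) (Lpn v7177)))))))))))
theorem f661784 : Led Lsl_ff (LP (LK LD1_c7 LD2_c28 LD3_c48)) = v7177 :=
  Lgr Lrot25 (Lpr_bt (K33.f469319 IH) (Lpr_ft (K28.f451954 IH) (Lpr_bt (f661781 IH) (Lpn v7177))))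
theorem f535526 : Led Lsl_ff K35.v2770 = K47.v2772 :=
  Lgr Lrot25 (Lpe (K35.f535448 IH) (Lpr_ft (K28.f451928 IH) (Lpr_bt (K47.f535523 IH) (Lpn K47.v2772))))
theorem f535528 : Led Lsl_ft K35.v2770 = K47.v2772 :=
  Lgr Lrot48 (Lpr_ff (f535526 IH) (Lpn K47.v2772))
theorem f661785 : Led Lsl_dt K47.v2772 = v7177 :=
  Lgr Lrot60 (Lpe (f535528 IH) (Lpe (K48.f535455 IH) (Lpr_ff (f661784 IH) (Lpn v7177))))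
theorem f676262 : Led Lsl_et K47.v2772 = v9498 :=
  Lgr Lrot121 (Lpr_dt (f661785 IH) (Lpe (f661777 IH) (Lpe (f147107 IH) (Lpr_et (K28.f147432 IH) (Lpe (K7.f147731 IH) (Lpe (K48.f147752 IH) (Lpr_dt (K48.f147753 IH) (Lpr_gf (K48.f662521 IH) (Lpe (K48.f662524 IH) (Lpr_gf (f676257 IH) (Lpn v9498)))))))))))
theorem f676264 : Led Lsl_ef K47.v2772 = v9498 :=
  Lgr Lrot88 (Lpr_et (f676262 IH) (Lpn v9498))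
def v2773 : LQ := Led Lsl_et (LP (LK LD1_c1 LD2_c54 LD3_c56))
theorem f535529 : Led Lsl_et (LP (LK LD1_c1 LD2_c54 LD3_c56)) = v2773 :=
  Lrfl
theorem f676265 : Led Lsl_bt v2773 = v9498 :=
  Lgr Lrot119 (Lpe (f535529 IH) (Lpr_bf (K47.f535524 IH) (Lpr_ef (f676264 IH) (Lpn v9498))))
theorem f535530 : Led Lsl_cf K29.v917 = v2773 :=
  Lgr Lrot39 (Lpe (K29.f490428 IH) (Lpr_ct (K28.f451254 IH) (Lpr_et (f535529 IH) (Lpn v2773))))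
def v7191 : LQ := Led Lsl_at (LP (LK LD1_c3 LD2_c41 LD3_c51))
theorem f661914 : Led Lsl_at (LP (LK LD1_c3 LD2_c41 LD3_c51)) = v7191 :=
  Lrfl
theorem f661916 : Led Lsl_cf K34.v2516 = v7191 :=
  Lgr Lrot1 (Lpe (K48.f524170 IH) (Lpr_ct (K29.f4889 IH) (Lpr_at (f661914 IH) (Lpn v7191))))
theorem f524150 : Led Lsl_ff (LP (LK LD1_c3 LD2_c41 LD3_c51)) = (LP (LK LD1_c3 LD2_c54 LD3_c33)) :=
  Lgr Lrot19 (Lpr_dt (K29.f457172 IH) (Lpr_ft (K34.f524144 IH) (Lpr_dt (K34.f148244 IH) (Lpn (LP (LK LD1_c3 LD2_c54 LD3_c33))))))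
theorem f661918 : Led Lsl_gt (LP (LK LD1_c6 LD2_c57 LD3_c41)) = v7191 :=
  Lgr Lrot46 (Lpe (K30.f491719 IH) (Lpe (f524150 IH) (Lpr_at (f661914 IH) (Lpn v7191))))
theorem f484677 : Led Lsl_bt (LP (LK LD1_c13 LD2_c13 LD3_c3)) = (LP (LK LD1_c6 LD2_c57 LD3_c41)) :=
  Lre_b IH (LK LD1_c13 LD2_c13 LD3_c3) (LK LD1_c6 LD2_c57 LD3_c41) Lrfl Lrfl
theorem f484738 : Led Lsl_ct (LP (LK LD1_c13 LD2_c13 LD3_c3)) = (LP (LK LD1_c6 LD2_c57 LD3_c49)) :=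
  Lre_c IH (LK LD1_c13 LD2_c13 LD3_c3) (LK LD1_c6 LD2_c57 LD3_c49) Lrfl Lrfl
def v7690 : LQ := Led Lsl_et (LP (LK LD1_c3 LD2_c55 LD3_c13))
theorem f667768 : Led Lsl_et (LP (LK LD1_c3 LD2_c55 LD3_c13)) = v7690 :=
  Lrfl
theorem f667769 : Led Lsl_bf K48.v2730 = v7690 :=
  Lgr Lrot96 (Lpe (K48.f531645 IH) (Lpr_bt (K33.f477014 IH) (Lpr_et (f667768 IH) (Lpn v7690))))
theorem f667770 : Led Lsl_cf K48.v7496 = v7690 :=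
  Lgr Lrot39 (Lpe (K48.f666069 IH) (Lpe (K33.f487938 IH) (Lpr_et (f667768 IH) (Lpn v7690))))
theorem f676269 : Led Lsl_gf (LP (LK LD1_c6 LD2_c57 LD3_c49)) = K48.v7496 :=
  Lgr Lrot126 (Lpe (f484738 IH) (Lpr_bt (f484677 IH) (Lpr_gt (f661918 IH) (Lpe (f661916 IH) (Lpe (K34.f523722 IH) (Lpr_cf (f535530 IH) (Lpr_bt (f676265 IH) (Lpe (f676257 IH) (Lpr_bf (f667769 IH) (Lpe (f667770 IH) (Lpn K48.v7496)))))))))))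
theorem f468905 : Led Lsl_ct (LP (LK LD1_c13 LD2_c13 LD3_c18)) = (LP (LK LD1_c22 LD2_c27 LD3_c34)) :=
  Lre_c IH (LK LD1_c13 LD2_c13 LD3_c18) (LK LD1_c22 LD2_c27 LD3_c34) Lrfl Lrfl
theorem f484714 : Led Lsl_dt (LP (LK LD1_c30 LD2_c31 LD3_c16)) = (LP (LK LD1_c22 LD2_c27 LD3_c34)) :=
  Lre_d IH (LK LD1_c30 LD2_c31 LD3_c16) (LK LD1_c22 LD2_c27 LD3_c34) Lrfl Lrfl
theorem f487940 : Led Lsl_dt (LP (LK LD1_c3 LD2_c49 LD3_c34)) = (LP (LK LD1_c7 LD2_c40 LD3_c4)) :=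
  Lre_d IH (LK LD1_c3 LD2_c49 LD3_c34) (LK LD1_c7 LD2_c40 LD3_c4) Lrfl Lrfl
theorem f487956 : Led Lsl_et (LP (LK LD1_c7 LD2_c40 LD3_c4)) = (LP (LK LD1_c14 LD2_c27 LD3_c19)) :=
  Lre_e IH (LK LD1_c7 LD2_c40 LD3_c4) (LK LD1_c14 LD2_c27 LD3_c19) Lrfl Lrfl
theorem f530193 : Led Lsl_bt (LP (LK LD1_c22 LD2_c33 LD3_c56)) = (LP (LK LD1_c13 LD2_c18 LD3_c2)) :=
  Lre_b IH (LK LD1_c22 LD2_c33 LD3_c56) (LK LD1_c13 LD2_c18 LD3_c2) Lrfl Lrfl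
theorem f530194 : Led Lsl_bt (LP (LK LD1_c7 LD2_c40 LD3_c6)) = (LP (LK LD1_c14 LD2_c27 LD3_c19)) :=
  Lre_b IH (LK LD1_c7 LD2_c40 LD3_c6) (LK LD1_c14 LD2_c27 LD3_c19) Lrfl Lrfl
theorem f530195 : Led Lsl_df (LP (LK LD1_c22 LD2_c33 LD3_c56)) = (LP (LK LD1_c14 LD2_c27 LD3_c19)) :=
  Lgr Lrot12 (Lpr_bt (f530193 IH) (Lpr_dt (K34.f530191 IH) (Lpr_bt (f530194 IH) (Lpn (LP (LK LD1_c14 LD2_c27 LD3_c19))))))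
theorem f530221 : Led Lsl_et (LP (LK LD1_c22 LD2_c33 LD3_c56)) = (LP (LK LD1_c13 LD2_c18 LD3_c1)) :=
  Lre_e IH (LK LD1_c22 LD2_c33 LD3_c56) (LK LD1_c13 LD2_c18 LD3_c1) Lrfl Lrfl
theorem f666071 : Led Lsl_dt (LP (LK LD1_c13 LD2_c18 LD3_c1)) = K48.v7496 :=
  Lgr Lrot77 (Lpe (f530221 IH) (Lpr_df (f530195 IH) (Lpe (f487956 IH) (Lpe (f487940 IH) (Lpr_ef (K48.f666069 IH) (Lpn K48.v7496))))))
theorem f520785 : Led Lsl_ct (LP (LK LD1_c30 LD2_c34 LD3_c47)) = (LP (LK LD1_c22 LD2_c33 LD3_c43)) :=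
  Lre_c IH (LK LD1_c30 LD2_c34 LD3_c47) (LK LD1_c22 LD2_c33 LD3_c43) Lrfl Lrfl
theorem f12804 : Led Lsl_dt (LP (LK LD1_c14 LD2_c5 LD3_c6)) = (LP (LK LD1_c7 LD2_c27 LD3_c38)) :=
  Lre_d IH (LK LD1_c14 LD2_c5 LD3_c6) (LK LD1_c7 LD2_c27 LD3_c38) Lrfl Lrfl
theorem f12805 : Led Lsl_ct (LP (LK LD1_c23 LD2_c38 LD3_c20)) = (LP (LK LD1_c14 LD2_c5 LD3_c6)) :=
  Lre_c IH (LK LD1_c23 LD2_c38 LD3_c20) (LK LD1_c14 LD2_c5 LD3_c6) Lrfl Lrfl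
theorem f12806 : Led Lsl_dt (LP (LK LD1_c31 LD2_c8 LD3_c25)) = (LP (LK LD1_c23 LD2_c38 LD3_c20)) :=
  Lre_d IH (LK LD1_c31 LD2_c8 LD3_c25) (LK LD1_c23 LD2_c38 LD3_c20) Lrfl Lrfl
theorem f520787 : Led Lsl_ct (LP (LK LD1_c22 LD2_c33 LD3_c43)) = (LP (LK LD1_c30 LD2_c34 LD3_c47)) :=
  Lre_c IH (LK LD1_c22 LD2_c33 LD3_c43) (LK LD1_c30 LD2_c34 LD3_c47) Lrfl Lrfl
theorem f535262 : Led Lsl_dt (LP (LK LD1_c30 LD2_c34 LD3_c47)) = (LP (LK LD1_c32 LD2_c53 LD3_c26)) :=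
  Lre_d IH (LK LD1_c30 LD2_c34 LD3_c47) (LK LD1_c32 LD2_c53 LD3_c26) Lrfl Lrfl
theorem f535263 : Led Lsl_cf (LP (LK LD1_c31 LD2_c8 LD3_c25)) = (LP (LK LD1_c32 LD2_c53 LD3_c26)) :=
  Lgr Lrot116 (Lpr_dt (f12806 IH) (Lpr_ct (f12805 IH) (Lpr_dt (f12804 IH) (Lpr_ct (K4.f12797 IH) (Lpr_af (K48.f103674 IH) (Lpr_ff (K48.f535250 IH) (Lpr_dt (K48.f520784 IH) (Lpr_ct (f520787 IH) (Lpr_dt (f535262 IH) (Lpn (LP (LK LD1_c32 LD2_c53 LD3_c26))))))))))))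
theorem f12808 : Led Lsl_ct (LP (LK LD1_c13 LD2_c3 LD3_c6)) = (LP (LK LD1_c22 LD2_c12 LD3_c47)) :=
  Lre_c IH (LK LD1_c13 LD2_c3 LD3_c6) (LK LD1_c22 LD2_c12 LD3_c47) Lrfl Lrfl
theorem f103683 : Led Lsl_ct (LP (LK LD1_c23 LD2_c47 LD3_c57)) = (LP (LK LD1_c14 LD2_c12 LD3_c46)) :=
  Lre_c IH (LK LD1_c23 LD2_c47 LD3_c57) (LK LD1_c14 LD2_c12 LD3_c46) Lrfl Lrfl
theorem f103695 : Led Lsl_at (LP (LK LD1_c22 LD2_c12 LD3_c47)) = (LP (LK LD1_c23 LD2_c47 LD3_c57)) :=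
  Lgr Lrot107 (Lpe (f12808 IH) (Lpr_af (K4.f103689 IH) (Lpe (f103683 IH) (Lpn (LP (LK LD1_c23 LD2_c47 LD3_c57))))))
theorem f103698 : Led Lsl_af (LP (LK LD1_c22 LD2_c12 LD3_c47)) = (LP (LK LD1_c23 LD2_c47 LD3_c57)) :=
  Lgr Lrot0 (Lpr_at (f103695 IH) (Lpn (LP (LK LD1_c23 LD2_c47 LD3_c57))))
theorem f535269 : Led Lsl_ff (LP (LK LD1_c23 LD2_c47 LD3_c57)) = (LP (LK LD1_c30 LD2_c34 LD3_c47)) :=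
  Lgr Lrot103 (Lpe (f103698 IH) (Lpe (f12808 IH) (Lpe (K47.f12807 IH) (Lpe (K4.f12797 IH) (Lpe (f12804 IH) (Lpe (f12805 IH) (Lpe (f12806 IH) (Lpr_cf (f535263 IH) (Lpe (f535262 IH) (Lpn (LP (LK LD1_c30 LD2_c34 LD3_c47))))))))))))
theorem f12818 : Led Lsl_gt (LP (LK LD1_c30 LD2_c21 LD3_c0)) = (LP (LK LD1_c22 LD2_c12 LD3_c47)) :=
  Lre_g IH (LK LD1_c30 LD2_c21 LD3_c0) (LK LD1_c22 LD2_c12 LD3_c47) Lrfl Lrfl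
theorem f535275 : Led Lsl_gf (LP (LK LD1_c30 LD2_c21 LD3_c0)) = (LP (LK LD1_c30 LD2_c34 LD3_c47)) :=
  Lgr Lrot47 (Lpr_gt (f12818 IH) (Lpr_af (f103698 IH) (Lpr_ff (f535269 IH) (Lpn (LP (LK LD1_c30 LD2_c34 LD3_c47))))))
theorem f535277 : Led Lsl_dt (LP (LK LD1_c30 LD2_c21 LD3_c0)) = (LP (LK LD1_c32 LD2_c51 LD3_c36)) :=
  Lre_d IH (LK LD1_c30 LD2_c21 LD3_c0) (LK LD1_c32 LD2_c51 LD3_c36) Lrfl Lrfl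
theorem f676270 : Led Lsl_gf (LP (LK LD1_c30 LD2_c31 LD3_c16)) = (LP (LK LD1_c32 LD2_c51 LD3_c36)) :=
  Lgr Lrot143 (Lpr_dt (f484714 IH) (Lpe (f468905 IH) (Lpe (K47.f465467 IH) (Lpr_gf (f676269 IH) (Lpe (f666071 IH) (Lpe (K48.f666072 IH) (Lpe (f520785 IH) (Lpe (f535275 IH) (Lpr_dt (f535277 IH) (Lpn (LP (LK LD1_c32 LD2_c51 LD3_c36))))))))))))
theorem f676271 : Led Lsl_gt (LP (LK LD1_c32 LD2_c51 LD3_c36)) = (LP (LK LD1_c30 LD2_c31 LD3_c16)) :=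
  Leop (Lpr_gf (f676270 IH) (Lpn (LP (LK LD1_c32 LD2_c51 LD3_c36))))
theorem seed_564 : LEOK LG_g (LK LD1_c32 LD2_c51 LD3_c36) :=
  Leoe_g (LK LD1_c32 LD2_c51 LD3_c36) (f676271 IH)
def v2733 : LQ := Led Lsl_et (LP (LK LD1_c1 LD2_c54 LD3_c16))
def v9504 : LQ := Led Lsl_gf v2733
theorem f676324 : Led Lsl_gf v2733 = v9504 :=
  Lrfl
theorem f531660 : Led Lsl_et (LP (LK LD1_c1 LD2_c54 LD3_c16)) = v2733 :=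
  Lrfl
theorem f676327 : Led Lsl_et (LP (LK LD1_c7 LD2_c51 LD3_c4)) = v9504 :=
  Lgr Lrot185 (Lpr_dt (K39.f524092 IH) (Lpe (K34.f439172 IH) (Lpe (K28.f122487 IH) (Lpe (K28.f437771 IH) (Lpe (K46.f437772 IH) (Lpr_dt (K46.f480914 IH) (Lpe (K46.f480906 IH) (Lpe (K46.f480905 IH) (Lpr_et (f531660 IH) (Lpr_gf (f676324 IH) (Lpn v9504)))))))))))
theorem f676328 : Led Lsl_ef (LP (LK LD1_c7 LD2_c51 LD3_c4)) = v9504 :=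
  Lgr Lrot88 (Lpr_et (f676327 IH) (Lpn v9504))
def v7192 : LQ := Led Lsl_et (LP (LK LD1_c3 LD2_c41 LD3_c51))
theorem f661924 : Led Lsl_et (LP (LK LD1_c3 LD2_c41 LD3_c51)) = v7192 :=
  Lrfl
theorem f483602 : Led Lsl_dt (LP (LK LD1_c3 LD2_c41 LD3_c58)) = (LP (LK LD1_c7 LD2_c24 LD3_c40)) :=
  Lre_d IH (LK LD1_c3 LD2_c41 LD3_c58) (LK LD1_c7 LD2_c24 LD3_c40) Lrfl Lrfl
theorem f483650 : Led Lsl_gf (LP (LK LD1_c7 LD2_c24 LD3_c40)) = (LP (LK LD1_c7 LD2_c20 LD3_c36)) :=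
  Lgr Lrot134 (Lpe (f483602 IH) (Lpr_et (K45.f483601 IH) (Lpr_gt (K29.f483588 IH) (Lpe (K4.f122618 IH) (Lpr_dt (K28.f122481 IH) (Lpr_gt (K6.f12366 IH) (Lpe (K6.f66556 IH) (Lpr_et (K28.f107582 IH) (Lpr_gt (K28.f12401 IH) (Lpr_dt (K34.f122605 IH) (Lpn (LP (LK LD1_c7 LD2_c20 LD3_c36)))))))))))))
theorem f661929 : Led Lsl_gf (LP (LK LD1_c7 LD2_c20 LD3_c37)) = v7192 :=
  Lgr Lrot141 (Lpe (K34.f122503 IH) (Lpr_dt (K34.f122605 IH) (Lpe (f483650 IH) (Lpe (f483602 IH) (Lpr_et (K45.f483601 IH) (Lpr_gt (K29.f483588 IH) (Lpr_dt (K29.f122495 IH) (Lpe (K29.f483648 IH) (Lpe (K29.f457172 IH) (Lpr_et (f661924 IH) (Lpn v7192)))))))))))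
theorem f531840 : Led Lsl_af (LP (LK LD1_c7 LD2_c20 LD3_c37)) = (LP (LK LD1_c7 LD2_c26 LD3_c1)) :=
  Lgr Lrot0 (Lpr_at (K34.f531838 IH) (Lpn (LP (LK LD1_c7 LD2_c26 LD3_c1))))
theorem f661930 : Led Lsl_gt (LP (LK LD1_c7 LD2_c51 LD3_c4)) = v7192 :=
  Lgr Lrot5 (Lpr_ft (K39.f531962 IH) (Lpe (f531840 IH) (Lpr_gf (f661929 IH) (Lpn v7192))))
theorem f676330 : Led Lsl_df (LP (LK LD1_c7 LD2_c29 LD3_c60)) = v9504 :=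
  Lgr Lrot132 (Lpe (K48.f664267 IH) (Lpe (K48.f459445 IH) (Lpr_gf (K33.f511489 IH) (Lpe (K33.f511485 IH) (Lpr_dt (K29.f4847 IH) (Lpe (K33.f483658 IH) (Lpe (K29.f457172 IH) (Lpr_et (f661924 IH) (Lpe (f661930 IH) (Lpr_ef (f676328 IH) (Lpn v9504)))))))))))
theorem f676333 : Led Lsl_et (LP (LK LD1_c7 LD2_c29 LD3_c60)) = (LP (LK LD1_c14 LD2_c9 LD3_c55)) :=
  Lre_e IH (LK LD1_c7 LD2_c29 LD3_c60) (LK LD1_c14 LD2_c9 LD3_c55) Lrfl Lrfl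
theorem f439183 : Led Lsl_et (LP (LK LD1_c13 LD2_c56 LD3_c53)) = (LP (LK LD1_c7 LD2_c22 LD3_c33)) :=
  Lre_e IH (LK LD1_c13 LD2_c56 LD3_c53) (LK LD1_c7 LD2_c22 LD3_c33) Lrfl Lrfl
theorem f676334 : Led Lsl_dt (LP (LK LD1_c14 LD2_c9 LD3_c55)) = (LP (LK LD1_c13 LD2_c56 LD3_c53)) :=
  Lgr Lrot77 (Lpe (f676333 IH) (Lpr_df (f676330 IH) (Lpe (f676327 IH) (Lpr_df (K39.f524100 IH) (Lpe (f439183 IH) (Lpn (LP (LK LD1_c13 LD2_c56 LD3_c53))))))))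
theorem f676335 : Led Lsl_dt (LP (LK LD1_c14 LD2_c9 LD3_c55)) = (LP (LK LD1_c13 LD2_c56 LD3_c53)) :=
  Leop (Lpe (f676334 IH) (Lpn (LP (LK LD1_c14 LD2_c9 LD3_c55))))
theorem seed_565 : LEOK LG_d (LK LD1_c14 LD2_c9 LD3_c55) :=
  Leoe_d (LK LD1_c14 LD2_c9 LD3_c55) (f676335 IH)
def v2759 : LQ := Led Lsl_et (LP (LK LD1_c1 LD2_c54 LD3_c39))
def v9528 : LQ := Led Lsl_gt v2759
theorem f676473 : Led Lsl_gt v2759 = v9528 :=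
  Lrfl
def v9505 : LQ := Led Lsl_dt v2733
theorem f676365 : Led Lsl_dt v2733 = v9505 :=
  Lrfl
theorem f676367 : Led Lsl_gf (LP (LK LD1_c6 LD2_c53 LD3_c51)) = v9505 :=
  Lgr Lrot134 (Lpe (K6.f12606 IH) (Lpr_et (K6.f12605 IH) (Lpr_gt (K3.f108819 IH) (Lpe (K28.f122244 IH) (Lpr_dt (K28.f122487 IH) (Lpr_gt (K34.f439172 IH) (Lpe (K39.f524092 IH) (Lpr_et (f676327 IH) (Lpe (f676324 IH) (Lpr_dt (f676365 IH) (Lpn v9505)))))))))))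
def v2263 : LQ := Led Lsl_dt (LP (LK LD1_c1 LD2_c39 LD3_c38))
theorem f511326 : Led Lsl_dt (LP (LK LD1_c1 LD2_c39 LD3_c38)) = v2263 :=
  Lrfl
theorem f511328 : Led Lsl_df (LP (LK LD1_c1 LD2_c39 LD3_c38)) = v2263 :=
  Lgr Lrot38 (Lpr_dt (f511326 IH) (Lpn v2263))
def v8884 : LQ := Led Lsl_gf v2263
theorem f672610 : Led Lsl_gf v2263 = v8884 :=
  Lrfl
def v2443 : LQ := Led Lsl_et (LP (LK LD1_c1 LD2_c45 LD3_c31))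
theorem f519770 : Led Lsl_et (LP (LK LD1_c1 LD2_c45 LD3_c31)) = v2443 :=
  Lrfl
theorem f519772 : Led Lsl_ef (LP (LK LD1_c1 LD2_c45 LD3_c31)) = v2443 :=
  Lgr Lrot88 (Lpr_et (f519770 IH) (Lpn v2443))
theorem f672611 : Led Lsl_dt v2443 = v8884 :=
  Lgr Lrot136 (Lpe (f519772 IH) (Lpe (K29.f477166 IH) (Lpe (K33.f96975 IH) (Lpr_dt (K6.f142714 IH) (Lpe (K6.f144151 IH) (Lpe (K4.f116021 IH) (Lpe (K4.f12590 IH) (Lpe (K33.f109455 IH) (Lpr_dt (f511326 IH) (Lpr_gf (f672610 IH) (Lpn v8884)))))))))))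
def v9107 : LQ := Led Lsl_gf v2443
theorem f673602 : Led Lsl_gf v2443 = v9107 :=
  Lrfl
theorem f676369 : Led Lsl_cf v9107 = v9504 :=
  Lgr Lrot166 (Lpe (f673602 IH) (Lpr_dt (f672611 IH) (Lpe (f672610 IH) (Lpe (f511328 IH) (Lpr_ct (K48.f137125 IH) (Lpe (K48.f137147 IH) (Lpr_gf (f676367 IH) (Lpe (f676365 IH) (Lpr_gf (f676324 IH) (Lpn v9504))))))))))
theorem f531856 : Led Lsl_ff (LP (LK LD1_c3 LD2_c40 LD3_c13)) = (LP (LK LD1_c3 LD2_c42 LD3_c41)) :=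
  Lgr Lrot3 (Lpr_ft (K34.f531850 IH) (Lpn (LP (LK LD1_c3 LD2_c42 LD3_c41))))
def v7154 : LQ := Led Lsl_et (LP (LK LD1_c3 LD2_c40 LD3_c13))
theorem f661584 : Led Lsl_et (LP (LK LD1_c3 LD2_c40 LD3_c13)) = v7154 :=
  Lrfl
theorem f676329 : Led Lsl_ft v7154 = v9504 :=
  Lgr Lrot86 (Lpe (f661584 IH) (Lpr_ff (f531856 IH) (Lpe (K28.f203880 IH) (Lpe (K39.f531962 IH) (Lpr_ef (f676328 IH) (Lpn v9504))))))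
theorem f661586 : Led Lsl_ef (LP (LK LD1_c3 LD2_c40 LD3_c13)) = v7154 :=
  Lgr Lrot88 (Lpr_et (f661584 IH) (Lpn v7154))
def v6882 : LQ := Led Lsl_et (LP (LK LD1_c3 LD2_c33 LD3_c0))
theorem f659215 : Led Lsl_et (LP (LK LD1_c3 LD2_c33 LD3_c0)) = v6882 :=
  Lrfl
theorem f661587 : Led Lsl_ct v6882 = v7154 :=
  Lgr Lrot15 (Lpe (f659215 IH) (Lpr_cf (K34.f488729 IH) (Lpr_ef (f661586 IH) (Lpn v7154))))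
theorem f676370 : Led Lsl_ft v9107 = v6882 :=
  Lgr Lrot4 (Lpr_cf (f676369 IH) (Lpe (f676329 IH) (Lpe (f661587 IH) (Lpn v6882))))
def v9106 : LQ := Led Lsl_gt v2443
theorem f673601 : Led Lsl_gt v2443 = v9106 :=
  Lrfl
theorem f531788 : Led Lsl_et (LP (LK LD1_c1 LD2_c54 LD3_c39)) = v2759 :=
  Lrfl
theorem f531790 : Led Lsl_ef (LP (LK LD1_c1 LD2_c54 LD3_c39)) = v2759 :=
  Lgr Lrot88 (Lpr_et (f531788 IH) (Lpn v2759))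
theorem f659216 : Led Lsl_af v2759 = v6882 :=
  Lgr Lrot50 (Lpe (f531790 IH) (Lpr_at (K34.f531780 IH) (Lpq (K34.f531858 IH) (Lpr_et (f659215 IH) (Lpn v6882)))))
theorem f676372 : v9106 = v2759 :=
  (Llr Lrot46 (Lpe (f673601 IH) (Lpr_gf (f673602 IH) (Lpr_ft (f676370 IH) (Lpe (f659216 IH) (Lpn v2759)))))).symm
def v9108 : LQ := Led Lsl_ft v2443
theorem f673603 : Led Lsl_ft v2443 = v9108 :=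
  Lrfl
theorem f676474 : Led Lsl_at v9108 = v9528 :=
  Lgr Lrot26 (Lpe (f673603 IH) (Lpr_gt (f673601 IH) (Lpqs (f676372 IH) (Lpr_gt (f676473 IH) (Lpn v9528)))))
theorem f673608 : Led Lsl_ff v2443 = v9108 :=
  Lgr Lrot3 (Lpr_ft (f673603 IH) (Lpn v9108))
theorem f660428 : Led Lsl_ct v2443 = K48.v7028 :=
  Lgr Lrot15 (Lpe (f519770 IH) (Lpe (K33.f456234 IH) (Lpr_ef (K48.f660426 IH) (Lpn K48.v7028))))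
def v7750 : LQ := Led Lsl_et (LP (LK LD1_c3 LD2_c56 LD3_c22))
theorem f668174 : Led Lsl_et (LP (LK LD1_c3 LD2_c56 LD3_c22)) = v7750 :=
  Lrfl
theorem f480034 : Led Lsl_dt (LP (LK LD1_c3 LD2_c56 LD3_c22)) = (LP (LK LD1_c7 LD2_c4 LD3_c36)) :=
  Lgr Lrot6 (Lpr_gt (K28.f11352 IH) (Lpr_ct (K28.f11336 IH) (Lpr_gt (K28.f11348 IH) (Lpr_ct (K28.f11349 IH) (Lpe (K33.f462838 IH) (Lpr_cf (K33.f480020 IH) (Lpe (K33.f459240 IH) (Lpe (K32.f458888 IH) (Lpe (K33.f446543 IH) (Lpn (LP (LK LD1_c7 LD2_c4 LD3_c36))))))))))))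
def v7216 : LQ := Led Lsl_et (LP (LK LD1_c3 LD2_c42 LD3_c45))
theorem f662398 : Led Lsl_et (LP (LK LD1_c3 LD2_c42 LD3_c45)) = v7216 :=
  Lrfl
theorem f668178 : Led Lsl_gt v7216 = v7750 :=
  Lgr Lrot131 (Lpe (f662398 IH) (Lpr_dt (K33.f203913 IH) (Lpe (K34.f470862 IH) (Lpe (K34.f531404 IH) (Lpe (K34.f455732 IH) (Lpe (K24.f458240 IH) (Lpr_dt (K32.f455625 IH) (Lpe (K33.f446543 IH) (Lpe (f480034 IH) (Lpr_et (f668174 IH) (Lpn v7750)))))))))))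
def v2548 : LQ := Led Lsl_et (LP (LK LD1_c1 LD2_c48 LD3_c21))
theorem f527325 : Led Lsl_et (LP (LK LD1_c1 LD2_c48 LD3_c21)) = v2548 :=
  Lrfl
theorem f527327 : Led Lsl_ef (LP (LK LD1_c1 LD2_c48 LD3_c21)) = v2548 :=
  Lgr Lrot88 (Lpr_et (f527325 IH) (Lpn v2548))
theorem f662400 : Led Lsl_cf v2548 = v7216 :=
  Lgr Lrot39 (Lpe (f527327 IH) (Lpr_ct (K29.f203912 IH) (Lpr_et (f662398 IH) (Lpn v7216))))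
def v2774 : LQ := Led Lsl_et (LP (LK LD1_c1 LD2_c54 LD3_c58))
theorem f535536 : Led Lsl_et (LP (LK LD1_c1 LD2_c54 LD3_c58)) = v2774 :=
  Lrfl
theorem f455632 : Led Lsl_et (LP (LK LD1_c0 LD2_c47 LD3_c39)) = (LP (LK LD1_c1 LD2_c42 LD3_c19)) :=
  Lre_e IH (LK LD1_c0 LD2_c47 LD3_c39) (LK LD1_c1 LD2_c42 LD3_c19) Lrfl Lrfl
theorem f535540 : Led Lsl_gt v2548 = v2774 :=
  Lgr Lrot131 (Lpe (f527325 IH) (Lpr_dt (K34.f527315 IH) (Lpr_gf (K34.f531401 IH) (Lpe (K34.f531403 IH) (Lpe (K30.f455670 IH) (Lpe (f455632 IH) (Lpr_dt (K28.f455620 IH) (Lpe (K33.f483767 IH) (Lpr_df (K34.f483763 IH) (Lpr_et (f535536 IH) (Lpn v2774)))))))))))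
def v797 : LQ := Led Lsl_dt (LP (LK LD1_c0 LD2_c51 LD3_c0))
def v3386 : LQ := Led Lsl_gt v797
theorem f625436 : Led Lsl_gt v797 = v3386 :=
  Lrfl
theorem f459428 : Led Lsl_dt (LP (LK LD1_c0 LD2_c51 LD3_c0)) = v797 :=
  Lrfl
theorem f535538 : Led Lsl_ef (LP (LK LD1_c1 LD2_c54 LD3_c58)) = v2774 :=
  Lgr Lrot88 (Lpr_et (f535536 IH) (Lpn v2774))
theorem f625437 : Led Lsl_dt v2774 = v3386 :=
  Lgr Lrot56 (Lpe (f535538 IH) (Lpr_gt (K33.f11344 IH) (Lpe (K29.f11339 IH) (Lpr_dt (K24.f11382 IH) (Lpr_gt (K24.f451253 IH) (Lpr_df (K29.f479638 IH) (Lpe (K33.f479648 IH) (Lpe (K33.f459426 IH) (Lpr_dt (f459428 IH) (Lpr_gt (f625436 IH) (Lpn v3386)))))))))))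
theorem f436876 : Led Lsl_et (LP (LK LD1_c0 LD2_c10 LD3_c24)) = (LP (LK LD1_c0 LD2_c23 LD3_c10)) :=
  Lre_e IH (LK LD1_c0 LD2_c10 LD3_c24) (LK LD1_c0 LD2_c23 LD3_c10) Lrfl Lrfl
theorem f147756 : Led Lsl_at (LP (LK LD1_c0 LD2_c10 LD3_c24)) = (LP (LK LD1_c0 LD2_c23 LD3_c1)) :=
  Lre_a IH (LK LD1_c0 LD2_c10 LD3_c24) (LK LD1_c0 LD2_c23 LD3_c1) Lrfl Lrfl
theorem f147770 : Led Lsl_ft (LP (LK LD1_c0 LD2_c10 LD3_c18)) = (LP (LK LD1_c0 LD2_c10 LD3_c24)) :=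
  Lgr Lrot2 (Lpr_gt (K4.f4893 IH) (Lpr_gt (K7.f147768 IH) (Lpe (f147756 IH) (Lpn (LP (LK LD1_c0 LD2_c10 LD3_c24))))))
theorem f4882 : Led Lsl_et (LP (LK LD1_c0 LD2_c22 LD3_c52)) = (LP (LK LD1_c0 LD2_c10 LD3_c18)) :=
  Lre_e IH (LK LD1_c0 LD2_c22 LD3_c52) (LK LD1_c0 LD2_c10 LD3_c18) Lrfl Lrfl
theorem f4513 : Led Lsl_ft (LP (LK LD1_c0 LD2_c50 LD3_c39)) = (LP (LK LD1_c0 LD2_c22 LD3_c52)) :=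
  Lre_f IH (LK LD1_c0 LD2_c50 LD3_c39) (LK LD1_c0 LD2_c22 LD3_c52) Lrfl Lrfl
theorem f451034 : Led Lsl_ef (LP (LK LD1_c0 LD2_c50 LD3_c39)) = K33.v198 :=
  Lgr Lrot21 (Lpr_ft (f4513 IH) (Lpr_et (f4882 IH) (Lpr_ft (f147770 IH) (Lpr_et (f436876 IH) (Lpr_ft (K33.f451032 IH) (Lpn K33.v198))))))
def v197 : LQ := Led Lsl_dt (LP (LK LD1_c0 LD2_c23 LD3_c10))
def v1044 : LQ := Led Lsl_ft v197
theorem f491149 : Led Lsl_ft v197 = v1044 :=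
  Lrfl
theorem f491152 : Led Lsl_ff v197 = v1044 :=
  Lgr Lrot3 (Lpr_ft (f491149 IH) (Lpn v1044))
theorem f451024 : Led Lsl_dt (LP (LK LD1_c0 LD2_c23 LD3_c10)) = v197 :=
  Lrfl
theorem f451026 : Led Lsl_df (LP (LK LD1_c0 LD2_c23 LD3_c10)) = v197 :=
  Lgr Lrot38 (Lpr_dt (f451024 IH) (Lpn v197))
theorem f491154 : Led Lsl_dt K33.v198 = v1044 :=
  Lgr Lrot60 (Lpe (K33.f451032 IH) (Lpr_df (f451026 IH) (Lpr_ff (f491152 IH) (Lpn v1044))))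
theorem f625445 : Led Lsl_gf v1044 = v3386 :=
  Lgr Lrot134 (Lpe (f491154 IH) (Lpe (f451034 IH) (Lpr_gt (K29.f4531 IH) (Lpr_ef (K34.f493697 IH) (Lpr_dt (K34.f531403 IH) (Lpe (K34.f531401 IH) (Lpe (K34.f527315 IH) (Lpr_et (f527325 IH) (Lpr_gt (f535540 IH) (Lpr_dt (f625437 IH) (Lpn v3386)))))))))))
theorem f491151 : Led Lsl_df K33.v198 = v1044 :=
  Lgr Lrot78 (Lpe (K33.f451035 IH) (Lpr_dt (f451024 IH) (Lpr_ft (f491149 IH) (Lpn v1044))))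
def v809 : LQ := Led Lsl_ft (LP (LK LD1_c0 LD2_c51 LD3_c21))
theorem f459496 : Led Lsl_ft (LP (LK LD1_c0 LD2_c51 LD3_c21)) = v809 :=
  Lrfl
theorem f459500 : Led Lsl_ff (LP (LK LD1_c0 LD2_c51 LD3_c21)) = v809 :=
  Lgr Lrot3 (Lpr_ft (f459496 IH) (Lpn v809))
theorem f459502 : Led Lsl_ct K33.v198 = v809 :=
  Lgr Lrot40 (Lpe (K33.f451032 IH) (Lpe (K4.f12857 IH) (Lpr_ff (f459500 IH) (Lpn v809))))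
theorem f527599 : Led Lsl_df v809 = K48.v2580 :=
  Lgr Lrot78 (Lpe (f459500 IH) (Lpr_dt (K48.f12871 IH) (Lpr_ft (K48.f527597 IH) (Lpn K48.v2580))))
theorem f668180 : Led Lsl_df K48.v7225 = v7750 :=
  Lgr Lrot153 (Lpr_gt (K48.f662543 IH) (Lpe (f527599 IH) (Lpe (f459502 IH) (Lpr_df (f491151 IH) (Lpr_gf (f625445 IH) (Lpe (f625437 IH) (Lpe (f535540 IH) (Lpr_cf (f662400 IH) (Lpr_gt (f668178 IH) (Lpn v7750))))))))))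
theorem f668182 : Led Lsl_ft K48.v7028 = v7750 :=
  Lgr Lrot54 (Lpe (K48.f660432 IH) (Lpe (K48.f662544 IH) (Lpr_df (f668180 IH) (Lpn v7750))))
theorem f673610 : Led Lsl_ct v7750 = v9108 :=
  Lgr Lrot40 (Lpe (f668182 IH) (Lpe (f660428 IH) (Lpr_ff (f673608 IH) (Lpn v9108))))
def v7691 : LQ := Led Lsl_gf (LP (LK LD1_c3 LD2_c55 LD3_c14))
theorem f667774 : Led Lsl_gf (LP (LK LD1_c3 LD2_c55 LD3_c14)) = v7691 :=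
  Lrfl
theorem f520034 : Led Lsl_at (LP (LK LD1_c7 LD2_c15 LD3_c7)) = (LP (LK LD1_c3 LD2_c55 LD3_c14)) :=
  Lgr Lrot100 (Lpr_af (K33.f520027 IH) (Lpn (LP (LK LD1_c3 LD2_c55 LD3_c14))))
theorem f667775 : Led Lsl_gt (LP (LK LD1_c3 LD2_c55 LD3_c16)) = v7691 :=
  Lgr Lrot5 (Lpe (K33.f520020 IH) (Lpr_at (f520034 IH) (Lpr_gf (f667774 IH) (Lpn v7691))))
def v6834 : LQ := Led Lsl_et (LP (LK LD1_c3 LD2_c31 LD3_c31))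
theorem f658838 : Led Lsl_et (LP (LK LD1_c3 LD2_c31 LD3_c31)) = v6834 :=
  Lrfl
theorem f658840 : Led Lsl_ef (LP (LK LD1_c3 LD2_c31 LD3_c31)) = v6834 :=
  Lgr Lrot88 (Lpr_et (f658838 IH) (Lpn v6834))
theorem f667777 : Led Lsl_dt v6834 = v7691 :=
  Lgr Lrot56 (Lpe (f658840 IH) (Lpr_gt (K33.f455688 IH) (Lpe (K34.f472574 IH) (Lpr_dt (K34.f472563 IH) (Lpr_gt (K34.f206268 IH) (Lpe (K34.f148178 IH) (Lpe (K34.f134734 IH) (Lpr_gt (K33.f437634 IH) (Lpr_dt (K33.f437635 IH) (Lpr_gt (f667775 IH) (Lpn v7691)))))))))))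
theorem f458935 : Led Lsl_ft (LP (LK LD1_c7 LD2_c4 LD3_c56)) = (LP (LK LD1_c7 LD2_c4 LD3_c30)) :=
  Lgr Lrot101 (Lpe (K28.f458230 IH) (Lpr_ff (K24.f458927 IH) (Lpe (K24.f458934 IH) (Lpn (LP (LK LD1_c7 LD2_c4 LD3_c30))))))
theorem f489782 : Led Lsl_gt (LP (LK LD1_c3 LD2_c44 LD3_c21)) = (LP (LK LD1_c3 LD2_c31 LD3_c31)) :=
  Lgr Lrot46 (Lpr_gf (K34.f489780 IH) (Lpr_ft (f458935 IH) (Lpr_at (K24.f458934 IH) (Lpn (LP (LK LD1_c3 LD2_c31 LD3_c31))))))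
theorem f489787 : Led Lsl_dt (LP (LK LD1_c1 LD2_c49 LD3_c11)) = (LP (LK LD1_c3 LD2_c44 LD3_c20)) :=
  Lre_d IH (LK LD1_c1 LD2_c49 LD3_c11) (LK LD1_c3 LD2_c44 LD3_c20) Lrfl Lrfl
def v7287 : LQ := Led Lsl_gt (LP (LK LD1_c3 LD2_c44 LD3_c17))
theorem f664131 : Led Lsl_gt (LP (LK LD1_c3 LD2_c44 LD3_c17)) = v7287 :=
  Lrfl
theorem f12879 : Led Lsl_dt (LP (LK LD1_c1 LD2_c49 LD3_c10)) = (LP (LK LD1_c3 LD2_c44 LD3_c17)) :=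
  Lre_d IH (LK LD1_c1 LD2_c49 LD3_c10) (LK LD1_c3 LD2_c44 LD3_c17) Lrfl Lrfl
theorem f662401 : Led Lsl_ef (LP (LK LD1_c3 LD2_c42 LD3_c45)) = v7216 :=
  Lgr Lrot88 (Lpr_et (f662398 IH) (Lpn v7216))
theorem f664136 : Led Lsl_dt v7216 = v7287 :=
  Lgr Lrot56 (Lpe (f662401 IH) (Lpe (K34.f470896 IH) (Lpe (K8.f11650 IH) (Lpr_dt (K6.f142269 IH) (Lpr_gt (K6.f11302 IH) (Lpe (K4.f13389 IH) (Lpr_et (K34.f13406 IH) (Lpr_gt (K34.f12878 IH) (Lpr_dt (f12879 IH) (Lpr_gt (f664131 IH) (Lpn v7287)))))))))))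
theorem f664137 : Led Lsl_gf (LP (LK LD1_c3 LD2_c44 LD3_c20)) = v7287 :=
  Lgr Lrot145 (Lpe (f489787 IH) (Lpr_et (K34.f489774 IH) (Lpr_gt (f489782 IH) (Lpr_dt (K24.f455637 IH) (Lpe (K28.f465820 IH) (Lpe (K28.f451836 IH) (Lpr_et (K28.f463121 IH) (Lpr_gt (K29.f470894 IH) (Lpr_ef (f662401 IH) (Lpr_dt (f664136 IH) (Lpn v7287)))))))))))
theorem f667779 : Led Lsl_gf v7216 = K48.v2730 :=
  Lgr Lrot138 (Lpr_dt (f664136 IH) (Lpe (f664137 IH) (Lpe (f489787 IH) (Lpr_et (K34.f489774 IH) (Lpr_gt (f489782 IH) (Lpr_ef (f658840 IH) (Lpr_dt (f667777 IH) (Lpe (f667774 IH) (Lpe (K33.f123418 IH) (Lpr_et (K48.f531644 IH) (Lpn K48.v2730)))))))))))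
theorem f668179 : Led Lsl_at K48.v7291 = v7750 :=
  Lgr Lrot26 (Lpe (K48.f664169 IH) (Lpe (f667779 IH) (Lpr_gt (f668178 IH) (Lpn v7750))))
theorem f676476 : Led Lsl_cf K48.v7291 = v9528 :=
  Lgr Lrot1 (Lpr_at (f668179 IH) (Lpr_ct (f673610 IH) (Lpr_at (f676474 IH) (Lpn v9528))))
theorem f664161 : Led Lsl_df (LP (LK LD1_c3 LD2_c44 LD3_c22)) = K48.v7291 :=
  Lgr Lrot38 (Lpr_dt (K48.f664160 IH) (Lpn K48.v7291))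
theorem f662549 : Led Lsl_ct (LP (LK LD1_c7 LD2_c29 LD3_c45)) = (LP (LK LD1_c3 LD2_c44 LD3_c22)) :=
  Lre_c IH (LK LD1_c7 LD2_c29 LD3_c45) (LK LD1_c3 LD2_c44 LD3_c22) Lrfl Lrfl
theorem f662349 : Led Lsl_cf v2759 = K48.v7214 :=
  Lgr Lrot39 (Lpe (f531790 IH) (Lpr_ct (K29.f471174 IH) (Lpr_et (K48.f662347 IH) (Lpn K48.v7214))))
theorem f459447 : Led Lsl_dt (LP (LK LD1_c3 LD2_c44 LD3_c32)) = (LP (LK LD1_c1 LD2_c49 LD3_c17)) :=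
  Lre_d IH (LK LD1_c3 LD2_c44 LD3_c32) (LK LD1_c1 LD2_c49 LD3_c17) Lrfl Lrfl
def v813 : LQ := Led Lsl_dt (LP (LK LD1_c0 LD2_c51 LD3_c23))
theorem f459526 : Led Lsl_dt (LP (LK LD1_c0 LD2_c51 LD3_c23)) = v813 :=
  Lrfl
theorem f459527 : Led Lsl_df (LP (LK LD1_c0 LD2_c51 LD3_c23)) = v813 :=
  Lgr Lrot38 (Lpr_dt (f459526 IH) (Lpn v813))
def v811 : LQ := Led Lsl_dt (LP (LK LD1_c0 LD2_c51 LD3_c22))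
def v3406 : LQ := Led Lsl_gt v811
theorem f625529 : Led Lsl_gt v811 = v3406 :=
  Lrfl
def v3385 : LQ := Led Lsl_dt K33.v796
theorem f625426 : Led Lsl_dt K33.v796 = v3385 :=
  Lrfl
theorem f459516 : Led Lsl_dt (LP (LK LD1_c0 LD2_c51 LD3_c22)) = v811 :=
  Lrfl
theorem f459517 : Led Lsl_df (LP (LK LD1_c0 LD2_c51 LD3_c22)) = v811 :=
  Lgr Lrot38 (Lpr_dt (f459516 IH) (Lpn v811))
theorem f625431 : Led Lsl_ff v811 = v3385 :=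
  Lgr Lrot19 (Lpe (f459517 IH) (Lpr_ft (K34.f459522 IH) (Lpqs (K34.f527999 IH) (Lpr_dt (f625426 IH) (Lpn v3385)))))
theorem f625434 : Led Lsl_ft v811 = v3385 :=
  Lgr Lrot48 (Lpr_ff (f625431 IH) (Lpn v3385))
theorem f459525 : Led Lsl_at (LP (LK LD1_c0 LD2_c51 LD3_c23)) = K34.v812 :=
  Lgr Lrot66 (Lpr_ff (K48.f459513 IH) (Lpe (K34.f459506 IH) (Lpr_ff (K34.f459524 IH) (Lpn K34.v812))))
theorem f625427 : Led Lsl_af v813 = v3385 :=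
  Lgr Lrot117 (Lpe (f459527 IH) (Lpr_at (f459525 IH) (Lpqs (K34.f527999 IH) (Lpr_dt (f625426 IH) (Lpn v3385)))))
theorem f625530 : Led Lsl_gf v813 = v3406 :=
  Lgr Lrot76 (Lpr_af (f625427 IH) (Lpe (f625434 IH) (Lpr_gt (f625529 IH) (Lpn v3406))))
theorem f625531 : Led Lsl_dt v2548 = v3406 :=
  Lgr Lrot56 (Lpe (f527327 IH) (Lpr_gt (K29.f124278 IH) (Lpe (K34.f148299 IH) (Lpr_dt (K4.f120983 IH) (Lpr_gt (K4.f12898 IH) (Lpe (K3.f12838 IH) (Lpr_et (f436876 IH) (Lpr_gt (K33.f12853 IH) (Lpr_dt (f459516 IH) (Lpr_gt (f625529 IH) (Lpn v3406)))))))))))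
def v2727 : LQ := Led Lsl_et (LP (LK LD1_c1 LD2_c54 LD3_c1))
theorem f531622 : Led Lsl_et (LP (LK LD1_c1 LD2_c54 LD3_c1)) = v2727 :=
  Lrfl
theorem f531624 : Led Lsl_ef (LP (LK LD1_c1 LD2_c54 LD3_c1)) = v2727 :=
  Lgr Lrot88 (Lpr_et (f531622 IH) (Lpn v2727))
theorem f535539 : Led Lsl_ff v2727 = v2774 :=
  Lgr Lrot72 (Lpe (f531624 IH) (Lpq (K35.f528733 IH) (Lpe (K35.f490276 IH) (Lpr_et (K33.f463661 IH) (Lpe (K34.f527982 IH) (Lpr_et (f535536 IH) (Lpn v2774)))))))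
def v890 : LQ := Led Lsl_et (LP (LK LD1_c0 LD2_c53 LD3_c42))
theorem f490279 : Led Lsl_et (LP (LK LD1_c0 LD2_c53 LD3_c42)) = v890 :=
  Lrfl
theorem f490280 : Led Lsl_ef (LP (LK LD1_c0 LD2_c53 LD3_c42)) = v890 :=
  Lgr Lrot88 (Lpr_et (f490279 IH) (Lpn v890))
theorem f531623 : Led Lsl_af v890 = v2727 :=
  Lgr Lrot50 (Lpe (f490280 IH) (Lpr_at (K35.f490273 IH) (Lpqs (K35.f528733 IH) (Lpr_et (f531622 IH) (Lpn v2727)))))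
def v2771 : LQ := Led Lsl_et (LP (LK LD1_c1 LD2_c54 LD3_c55))
theorem f535516 : Led Lsl_et (LP (LK LD1_c1 LD2_c54 LD3_c55)) = v2771 :=
  Lrfl
theorem f528163 : Led Lsl_ft (LP (LK LD1_c1 LD2_c54 LD3_c57)) = (LP (LK LD1_c1 LD2_c54 LD3_c55)) :=
  Lgr Lrot75 (Lpr_bf (K33.f487865 IH) (Lpr_ff (K35.f528161 IH) (Lpr_bf (K33.f476489 IH) (Lpn (LP (LK LD1_c1 LD2_c54 LD3_c55))))))
theorem f535518 : Led Lsl_ff v890 = v2771 :=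
  Lgr Lrot72 (Lpe (f490280 IH) (Lpr_ft (K35.f490281 IH) (Lpq (K35.f528201 IH) (Lpe (K33.f480122 IH) (Lpr_ft (f528163 IH) (Lpr_et (f535516 IH) (Lpn v2771)))))))
theorem f535520 : Led Lsl_ft v890 = v2771 :=
  Lgr Lrot48 (Lpr_ff (f535518 IH) (Lpn v2771))
theorem f535541 : Led Lsl_at v2771 = v2774 :=
  Lgr Lrot66 (Lpe (f535520 IH) (Lpr_af (f531623 IH) (Lpr_ff (f535539 IH) (Lpn v2774))))
theorem f535544 : Led Lsl_gt v890 = v2548 :=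
  Lgr Lrot5 (Lpr_ft (f535520 IH) (Lpr_at (f535541 IH) (Lpe (f535540 IH) (Lpn v2548))))
theorem f531662 : Led Lsl_ef (LP (LK LD1_c1 LD2_c54 LD3_c16)) = v2733 :=
  Lgr Lrot88 (Lpr_et (f531660 IH) (Lpn v2733))
theorem f531663 : Led Lsl_ct v890 = v2733 :=
  Lgr Lrot15 (Lpe (f490279 IH) (Lpe (K35.f122786 IH) (Lpr_ef (f531662 IH) (Lpn v2733))))
theorem f662356 : Led Lsl_gt v2733 = K48.v7214 :=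
  Lgr Lrot94 (Lpe (f531663 IH) (Lpr_gt (f535544 IH) (Lpr_dt (f625531 IH) (Lpe (f625530 IH) (Lpe (f459527 IH) (Lpe (K42.f13416 IH) (Lpe (f459447 IH) (Lpr_gf (K48.f662354 IH) (Lpr_df (K48.f662353 IH) (Lpn K48.v7214))))))))))
theorem f676366 : Led Lsl_df v2733 = v9505 :=
  Lgr Lrot38 (Lpr_dt (f676365 IH) (Lpn v9505))
theorem f137138 : Led Lsl_ct (LP (LK LD1_c6 LD2_c53 LD3_c51)) = (LP (LK LD1_c13 LD2_c6 LD3_c32)) :=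
  Lre_c IH (LK LD1_c6 LD2_c53 LD3_c51) (LK LD1_c13 LD2_c6 LD3_c32) Lrfl Lrfl
theorem f676488 : Led Lsl_gf (LP (LK LD1_c7 LD2_c29 LD3_c45)) = (LP (LK LD1_c13 LD2_c6 LD3_c32)) :=
  Lgr Lrot104 (Lpr_ct (f662549 IH) (Lpr_df (f664161 IH) (Lpr_cf (f676476 IH) (Lpe (f676473 IH) (Lpr_cf (f662349 IH) (Lpe (f662356 IH) (Lpr_df (f676366 IH) (Lpe (f676367 IH) (Lpr_ct (f137138 IH) (Lpn (LP (LK LD1_c13 LD2_c6 LD3_c32))))))))))))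
theorem f676489 : Led Lsl_gt (LP (LK LD1_c13 LD2_c6 LD3_c32)) = (LP (LK LD1_c7 LD2_c29 LD3_c45)) :=
  Leop (Lpr_gf (f676488 IH) (Lpn (LP (LK LD1_c13 LD2_c6 LD3_c32))))
theorem seed_566 : LEOK LG_g (LK LD1_c13 LD2_c6 LD3_c32) :=
  Leoe_g (LK LD1_c13 LD2_c6 LD3_c32) (f676489 IH)
def v2761 : LQ := Led Lsl_et (LP (LK LD1_c1 LD2_c54 LD3_c40))
def v9530 : LQ := Led Lsl_gt v2761
theorem f676508 : Led Lsl_gt v2761 = v9530 :=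
  Lrfl
theorem f532563 : Led Lsl_et (LP (LK LD1_c1 LD2_c54 LD3_c40)) = v2761 :=
  Lrfl
theorem f471209 : Led Lsl_dt (LP (LK LD1_c1 LD2_c54 LD3_c40)) = (LP (LK LD1_c3 LD2_c55 LD3_c60)) :=
  Lre_d IH (LK LD1_c1 LD2_c54 LD3_c40) (LK LD1_c3 LD2_c55 LD3_c60) Lrfl Lrfl
theorem f676510 : Led Lsl_et (LP (LK LD1_c6 LD2_c57 LD3_c29)) = v9530 :=
  Lgr Lrot122 (Lpe (K48.f479331 IH) (Lpr_gt (K29.f464051 IH) (Lpe (K28.f468318 IH) (Lpr_et (K34.f479937 IH) (Lpr_gt (K34.f527344 IH) (Lpe (K35.f478498 IH) (Lpr_gt (K35.f626047 IH) (Lpe (f471209 IH) (Lpr_et (f532563 IH) (Lpr_gt (f676508 IH) (Lpn v9530)))))))))))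
theorem f676512 : Led Lsl_ef (LP (LK LD1_c6 LD2_c57 LD3_c29)) = v9530 :=
  Lgr Lrot88 (Lpr_et (f676510 IH) (Lpn v9530))
theorem f121969 : Led Lsl_gt (LP (LK LD1_c3 LD2_c26 LD3_c9)) = (LP (LK LD1_c6 LD2_c54 LD3_c13)) :=
  Lre_g IH (LK LD1_c3 LD2_c26 LD3_c9) (LK LD1_c6 LD2_c54 LD3_c13) Lrfl Lrfl
theorem f676515 : Led Lsl_df (LP (LK LD1_c6 LD2_c54 LD3_c13)) = v9530 :=
  Lgr Lrot168 (Lpe (f121969 IH) (Lpe (K4.f97673 IH) (Lpr_et (K4.f97672 IH) (Lpe (K5.f121961 IH) (Lpe (K28.f121935 IH) (Lpr_dt (K28.f121931 IH) (Lpe (K29.f473298 IH) (Lpe (K28.f91987 IH) (Lpe (K29.f90880 IH) (Lpr_ef (f676512 IH) (Lpn v9530)))))))))))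
theorem f676518 : Led Lsl_et (LP (LK LD1_c6 LD2_c54 LD3_c13)) = (LP (LK LD1_c13 LD2_c7 LD3_c5)) :=
  Lre_e IH (LK LD1_c6 LD2_c54 LD3_c13) (LK LD1_c13 LD2_c7 LD3_c5) Lrfl Lrfl
theorem f476606 : Led Lsl_et (LP (LK LD1_c22 LD2_c14 LD3_c14)) = (LP (LK LD1_c13 LD2_c3 LD3_c56)) :=
  Lre_e IH (LK LD1_c22 LD2_c14 LD3_c14) (LK LD1_c13 LD2_c3 LD3_c56) Lrfl Lrfl
theorem f676519 : Led Lsl_dt (LP (LK LD1_c13 LD2_c7 LD3_c5)) = (LP (LK LD1_c22 LD2_c14 LD3_c14)) :=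
  Lgr Lrot77 (Lpe (f676518 IH) (Lpr_df (f676515 IH) (Lpe (f676510 IH) (Lpe (K29.f479368 IH) (Lpe (f476606 IH) (Lpn (LP (LK LD1_c22 LD2_c14 LD3_c14))))))))
theorem f676520 : Led Lsl_dt (LP (LK LD1_c13 LD2_c7 LD3_c5)) = (LP (LK LD1_c22 LD2_c14 LD3_c14)) :=
  Leop (Lpe (f676519 IH) (Lpn (LP (LK LD1_c13 LD2_c7 LD3_c5))))
theorem seed_567 : LEOK LG_d (LK LD1_c13 LD2_c7 LD3_c5) :=
  Leoe_d (LK LD1_c13 LD2_c7 LD3_c5) (f676520 IH)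
def v9547 : LQ := Led Lsl_at K47.v2772
theorem f676603 : Led Lsl_at K47.v2772 = v9547 :=
  Lrfl
theorem f676608 : Led Lsl_gt (LP (LK LD1_c7 LD2_c49 LD3_c32)) = v9547 :=
  Lgr Lrot46 (Lpr_gf (K48.f535457 IH) (Lpr_ft (f535528 IH) (Lpr_at (f676603 IH) (Lpn v9547))))
theorem f484747 : Led Lsl_bt (LP (LK LD1_c7 LD2_c38 LD3_c49)) = (LP (LK LD1_c3 LD2_c48 LD3_c51)) :=
  Lre_b IH (LK LD1_c7 LD2_c38 LD3_c49) (LK LD1_c3 LD2_c48 LD3_c51) Lrfl Lrfl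
theorem f484746 : Led Lsl_bt (LP (LK LD1_c6 LD2_c54 LD3_c39)) = (LP (LK LD1_c13 LD2_c7 LD3_c51)) :=
  Lre_b IH (LK LD1_c6 LD2_c54 LD3_c39) (LK LD1_c13 LD2_c7 LD3_c51) Lrfl Lrfl
theorem f484988 : Led Lsl_cf (LP (LK LD1_c7 LD2_c49 LD3_c32)) = (LP (LK LD1_c13 LD2_c7 LD3_c51)) :=
  Lgr Lrot97 (Lpr_bt (K33.f484806 IH) (Lpr_ct (K39.f484748 IH) (Lpr_bt (f484747 IH) (Lpe (K48.f484535 IH) (Lpr_bt (f484746 IH) (Lpn (LP (LK LD1_c13 LD2_c7 LD3_c51))))))))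
theorem f484753 : Led Lsl_bt (LP (LK LD1_c13 LD2_c7 LD3_c51)) = (LP (LK LD1_c6 LD2_c54 LD3_c39)) :=
  Lre_b IH (LK LD1_c13 LD2_c7 LD3_c51) (LK LD1_c6 LD2_c54 LD3_c39) Lrfl Lrfl
theorem f627684 : Led Lsl_af K47.v1092 = v3876 :=
  Lgr Lrot0 (Lpr_at (f627683 IH) (Lpn v3876))
theorem f627685 : Led Lsl_bf v3876 = v3876 :=
  Lgr Lrot81 (Lpe (f627684 IH) (Lpe (K47.f491395 IH) (Lpe (K24.f452064 IH) (Lpr_bt (K47.f491394 IH) (Lpr_at (f627683 IH) (Lpn v3876))))))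
theorem f676610 : Led Lsl_ct v3876 = v9547 :=
  Lgr Lrot10 (Lpe (f627685 IH) (Lpe (f627689 IH) (Lpr_ct (K34.f523899 IH) (Lpr_gt (K34.f527563 IH) (Lpe (K34.f471103 IH) (Lpr_bt (K34.f465252 IH) (Lpe (K48.f662250 IH) (Lpe (f484753 IH) (Lpe (f484988 IH) (Lpr_gt (f676608 IH) (Lpn v9547)))))))))))
theorem f523734 : Led Lsl_et (LP (LK LD1_c1 LD2_c54 LD3_c21)) = (LP (LK LD1_c3 LD2_c55 LD3_c32)) :=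
  Lre_e IH (LK LD1_c1 LD2_c54 LD3_c21) (LK LD1_c3 LD2_c55 LD3_c32) Lrfl Lrfl
theorem f523904 : Led Lsl_df (LP (LK LD1_c3 LD2_c54 LD3_c44)) = (LP (LK LD1_c3 LD2_c55 LD3_c32)) :=
  Lgr Lrot70 (Lpr_et (K34.f523902 IH) (Lpe (K34.f523721 IH) (Lpr_et (K34.f523725 IH) (Lpe (K34.f523729 IH) (Lpr_et (f523734 IH) (Lpn (LP (LK LD1_c3 LD2_c55 LD3_c32))))))))
theorem f84804 : Led Lsl_gt (LP (LK LD1_c1 LD2_c54 LD3_c21)) = (LP (LK LD1_c0 LD2_c53 LD3_c44)) :=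
  Lre_g IH (LK LD1_c1 LD2_c54 LD3_c21) (LK LD1_c0 LD2_c53 LD3_c44) Lrfl Lrfl
theorem f627690 : Led Lsl_dt v2576 = v3876 :=
  Lgr Lrot171 (Lpe (f527556 IH) (Lpe (f131668 IH) (Lpr_dt (K5.f17706 IH) (Lpe (K3.f19765 IH) (Lpe (K5.f19767 IH) (Lpe (K5.f84786 IH) (Lpe (f84804 IH) (Lpe (K34.f84805 IH) (Lpe (f523904 IH) (Lpr_gf (f627689 IH) (Lpn v3876)))))))))))
theorem f676611 : Led Lsl_dt (LP (LK LD1_c7 LD2_c28 LD3_c47)) = v9547 :=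
  Lgr Lrot113 (Lpe (K34.f147416 IH) (Lpe (K33.f146928 IH) (Lpr_gf (K28.f465764 IH) (Lpr_ct (K24.f455661 IH) (Lpq (K28.f464333 IH) (Lpe (K28.f459478 IH) (Lpr_dt (K5.f131711 IH) (Lpr_gt (f527556 IH) (Lpr_dt (f627690 IH) (Lpr_ct (f676610 IH) (Lpn v9547)))))))))))
theorem f471664 : Led Lsl_et (LP (LK LD1_c7 LD2_c28 LD3_c47)) = (LP (LK LD1_c14 LD2_c7 LD3_c13)) :=
  Lre_e IH (LK LD1_c7 LD2_c28 LD3_c47) (LK LD1_c14 LD2_c7 LD3_c13) Lrfl Lrfl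
theorem f489955 : Led Lsl_gt (LP (LK LD1_c14 LD2_c7 LD3_c13)) = (LP (LK LD1_c23 LD2_c41 LD3_c37)) :=
  Lre_g IH (LK LD1_c14 LD2_c7 LD3_c13) (LK LD1_c23 LD2_c41 LD3_c37) Lrfl Lrfl
theorem f458256 : Led Lsl_et (LP (LK LD1_c7 LD2_c4 LD3_c34)) = (LP (LK LD1_c13 LD2_c24 LD3_c55)) :=
  Lre_e IH (LK LD1_c7 LD2_c4 LD3_c34) (LK LD1_c13 LD2_c24 LD3_c55) Lrfl Lrfl
theorem f458257 : Led Lsl_df (LP (LK LD1_c13 LD2_c25 LD3_c61)) = (LP (LK LD1_c13 LD2_c24 LD3_c55)) :=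
  Lgr Lrot70 (Lpr_et (K28.f458254 IH) (Lpr_dt (K28.f455704 IH) (Lpr_et (K24.f458242 IH) (Lpr_dt (K33.f458255 IH) (Lpr_et (f458256 IH) (Lpn (LP (LK LD1_c13 LD2_c24 LD3_c55))))))))
theorem f458276 : Led Lsl_gt (LP (LK LD1_c22 LD2_c45 LD3_c22)) = (LP (LK LD1_c13 LD2_c25 LD3_c61)) :=
  Lre_g IH (LK LD1_c22 LD2_c45 LD3_c22) (LK LD1_c13 LD2_c25 LD3_c61) Lrfl Lrfl
theorem f458278 : Led Lsl_dt (LP (LK LD1_c30 LD2_c42 LD3_c23)) = (LP (LK LD1_c22 LD2_c45 LD3_c22)) :=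
  Lre_d IH (LK LD1_c30 LD2_c42 LD3_c23) (LK LD1_c22 LD2_c45 LD3_c22) Lrfl Lrfl
theorem f676613 : Led Lsl_ef (LP (LK LD1_c23 LD2_c41 LD3_c37)) = (LP (LK LD1_c30 LD2_c42 LD3_c23)) :=
  Lgr Lrot17 (Lpe (f489955 IH) (Lpe (f471664 IH) (Lpr_dt (f676611 IH) (Lpe (f676608 IH) (Lpr_df (K33.f460798 IH) (Lpe (K33.f458268 IH) (Lpe (K28.f458265 IH) (Lpe (f458257 IH) (Lpe (f458276 IH) (Lpe (f458278 IH) (Lpn (LP (LK LD1_c30 LD2_c42 LD3_c23)))))))))))))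
theorem f676614 : Led Lsl_et (LP (LK LD1_c30 LD2_c42 LD3_c23)) = (LP (LK LD1_c23 LD2_c41 LD3_c37)) :=
  Leop (Lpr_ef (f676613 IH) (Lpn (LP (LK LD1_c30 LD2_c42 LD3_c23))))
theorem seed_568 : LEOK LG_e (LK LD1_c30 LD2_c42 LD3_c23) :=
  Leoe_e (LK LD1_c30 LD2_c42 LD3_c23) (f676614 IH)
theorem f122511 : Led Lsl_ct (LP (LK LD1_c13 LD2_c56 LD3_c55)) = (LP (LK LD1_c7 LD2_c22 LD3_c34)) :=
  Lre_c IH (LK LD1_c13 LD2_c56 LD3_c55) (LK LD1_c7 LD2_c22 LD3_c34) Lrfl Lrfl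
def v7757 : LQ := Led Lsl_et (LP (LK LD1_c3 LD2_c56 LD3_c41))
theorem f668246 : Led Lsl_et (LP (LK LD1_c3 LD2_c56 LD3_c41)) = v7757 :=
  Lrfl
theorem f515045 : Led Lsl_ft (LP (LK LD1_c3 LD2_c34 LD3_c1)) = (LP (LK LD1_c1 LD2_c53 LD3_c47)) :=
  Lgr Lrot48 (Lpr_ff (K33.f515039 IH) (Lpn (LP (LK LD1_c1 LD2_c53 LD3_c47))))
theorem f515049 : Led Lsl_af (LP (LK LD1_c3 LD2_c34 LD3_c1)) = (LP (LK LD1_c1 LD2_c53 LD3_c46)) :=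
  Lgr Lrot0 (Lpr_at (K33.f515047 IH) (Lpn (LP (LK LD1_c1 LD2_c53 LD3_c46))))
theorem f515754 : Led Lsl_ff (LP (LK LD1_c1 LD2_c53 LD3_c46)) = (LP (LK LD1_c3 LD2_c53 LD3_c57)) :=
  Lgr Lrot30 (Lpe (f515049 IH) (Lpr_ft (f515045 IH) (Lpr_at (K34.f515746 IH) (Lpn (LP (LK LD1_c3 LD2_c53 LD3_c57))))))
theorem f668249 : Led Lsl_ff (LP (LK LD1_c7 LD2_c49 LD3_c32)) = v7757 :=
  Lgr Lrot72 (Lpr_et (K33.f145346 IH) (Lpe (f515754 IH) (Lpr_et (K33.f148171 IH) (Lpe (K33.f515071 IH) (Lpr_et (f668246 IH) (Lpn v7757))))))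
theorem f668253 : Led Lsl_ft (LP (LK LD1_c7 LD2_c49 LD3_c32)) = v7757 :=
  Lgr Lrot48 (Lpr_ff (f668249 IH) (Lpn v7757))
def v7093 : LQ := Led Lsl_ct (LP (LK LD1_c3 LD2_c38 LD3_c51))
theorem f660937 : Led Lsl_ct (LP (LK LD1_c3 LD2_c38 LD3_c51)) = v7093 :=
  Lrfl
theorem f517912 : Led Lsl_bt (LP (LK LD1_c3 LD2_c38 LD3_c49)) = (LP (LK LD1_c3 LD2_c15 LD3_c25)) :=
  Lgr Lrot127 (Lpr_bf (K47.f517730 IH) (Lpn (LP (LK LD1_c3 LD2_c15 LD3_c25))))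
theorem f518561 : Led Lsl_df (LP (LK LD1_c3 LD2_c38 LD3_c49)) = (LP (LK LD1_c6 LD2_c57 LD3_c45)) :=
  Lgr Lrot12 (Lpr_bt (f517912 IH) (Lpr_dt (K48.f65519 IH) (Lpr_bt (K48.f518559 IH) (Lpn (LP (LK LD1_c6 LD2_c57 LD3_c45))))))
theorem f456447 : Led Lsl_dt (LP (LK LD1_c1 LD2_c46 LD3_c21)) = (LP (LK LD1_c3 LD2_c38 LD3_c51)) :=
  Lre_d IH (LK LD1_c1 LD2_c46 LD3_c21) (LK LD1_c3 LD2_c38 LD3_c51) Lrfl Lrfl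
theorem f518569 : Led Lsl_at (LP (LK LD1_c3 LD2_c38 LD3_c51)) = (LP (LK LD1_c6 LD2_c57 LD3_c45)) :=
  Lgr Lrot51 (Lpe (f456447 IH) (Lpe (K33.f456987 IH) (Lpr_df (f518561 IH) (Lpn (LP (LK LD1_c6 LD2_c57 LD3_c45))))))
theorem f518571 : Led Lsl_af (LP (LK LD1_c3 LD2_c38 LD3_c51)) = (LP (LK LD1_c6 LD2_c57 LD3_c45)) :=
  Lgr Lrot0 (Lpr_at (f518569 IH) (Lpn (LP (LK LD1_c6 LD2_c57 LD3_c45))))
theorem f660938 : Led Lsl_af (LP (LK LD1_c3 LD2_c56 LD3_c41)) = v7093 :=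
  Lgr Lrot68 (Lpr_ct (K48.f518551 IH) (Lpe (f518571 IH) (Lpr_ct (f660937 IH) (Lpn v7093))))
theorem f456081 : Led Lsl_et (LP (LK LD1_c1 LD2_c53 LD3_c47)) = (LP (LK LD1_c3 LD2_c54 LD3_c24)) :=
  Lre_e IH (LK LD1_c1 LD2_c53 LD3_c47) (LK LD1_c3 LD2_c54 LD3_c24) Lrfl Lrfl
theorem f515284 : Led Lsl_bf (LP (LK LD1_c6 LD2_c53 LD3_c2)) = (LP (LK LD1_c7 LD2_c9 LD3_c8)) :=
  Lgr Lrot93 (Lpr_dt (K32.f94336 IH) (Lpe (K29.f483450 IH) (Lpr_dt (K33.f515280 IH) (Lpn (LP (LK LD1_c7 LD2_c9 LD3_c8))))))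
theorem f518563 : Led Lsl_ff (LP (LK LD1_c7 LD2_c9 LD3_c8)) = (LP (LK LD1_c6 LD2_c57 LD3_c45)) :=
  Lgr Lrot25 (Lpe (f515284 IH) (Lpr_ft (K48.f516690 IH) (Lpr_bt (K48.f518559 IH) (Lpn (LP (LK LD1_c6 LD2_c57 LD3_c45))))))
theorem f518573 : Led Lsl_ff (LP (LK LD1_c3 LD2_c38 LD3_c51)) = (LP (LK LD1_c3 LD2_c34 LD3_c3)) :=
  Lgr Lrot30 (Lpr_at (f518569 IH) (Lpe (f518563 IH) (Lpr_at (K33.f93140 IH) (Lpn (LP (LK LD1_c3 LD2_c34 LD3_c3))))))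
theorem f660941 : Led Lsl_ff (LP (LK LD1_c3 LD2_c56 LD3_c42)) = v7093 :=
  Lgr Lrot23 (Lpr_ct (K33.f482466 IH) (Lpe (f518573 IH) (Lpr_ct (f660937 IH) (Lpn v7093))))
theorem f667534 : Led Lsl_ef v7093 = K48.v7665 :=
  Lgr Lrot21 (Lpe (f660941 IH) (Lpr_et (K33.f482468 IH) (Lpr_ft (f515045 IH) (Lpr_et (f456081 IH) (Lpr_ft (K48.f667531 IH) (Lpn K48.v7665))))))
theorem f668247 : Led Lsl_af K48.v7665 = v7757 :=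
  Lgr Lrot50 (Lpe (f667534 IH) (Lpe (f660938 IH) (Lpr_et (f668246 IH) (Lpn v7757))))
theorem f676609 : Led Lsl_gf K48.v7665 = v9547 :=
  Lgr Lrot76 (Lpr_af (f668247 IH) (Lpe (f668253 IH) (Lpr_gt (f676608 IH) (Lpn v9547))))
def v6874 : LQ := Led Lsl_et (LP (LK LD1_c3 LD2_c32 LD3_c54))
theorem f659155 : Led Lsl_et (LP (LK LD1_c3 LD2_c32 LD3_c54)) = v6874 :=
  Lrfl
theorem f659158 : Led Lsl_cf (LP (LK LD1_c3 LD2_c54 LD3_c24)) = v6874 :=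
  Lgr Lrot39 (Lpr_et (K34.f438029 IH) (Lpe (K33.f456079 IH) (Lpr_et (f659155 IH) (Lpn v6874))))
def v7094 : LQ := Led Lsl_et (LP (LK LD1_c3 LD2_c38 LD3_c51))
theorem f660947 : Led Lsl_et (LP (LK LD1_c3 LD2_c38 LD3_c51)) = v7094 :=
  Lrfl
theorem f659159 : Led Lsl_ef (LP (LK LD1_c3 LD2_c32 LD3_c54)) = v6874 :=
  Lgr Lrot88 (Lpr_et (f659155 IH) (Lpn v6874))
theorem f660950 : Led Lsl_ff v6874 = v7094 :=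
  Lgr Lrot72 (Lpe (f659159 IH) (Lpq (K33.f515034 IH) (Lpe (K33.f514986 IH) (Lpr_et (K33.f93142 IH) (Lpe (f518573 IH) (Lpr_et (f660947 IH) (Lpn v7094)))))))
theorem f667532 : Led Lsl_cf v7094 = K48.v7665 :=
  Lgr Lrot108 (Lpe (f660950 IH) (Lpe (f659158 IH) (Lpr_ft (K48.f667531 IH) (Lpn K48.v7665))))
theorem f676612 : Led Lsl_gf (LP (LK LD1_c7 LD2_c6 LD3_c60)) = v7094 :=
  Lgr Lrot172 (Lpr_ct (K34.f471734 IH) (Lpr_dt (K28.f122489 IH) (Lpe (f122511 IH) (Lpe (K35.f466259 IH) (Lpe (K35.f146935 IH) (Lpr_gf (K34.f147417 IH) (Lpr_dt (f676611 IH) (Lpe (f676609 IH) (Lpe (f667532 IH) (Lpn v7094))))))))))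
theorem f485517 : Led Lsl_ff (LP (LK LD1_c6 LD2_c54 LD3_c37)) = (LP (LK LD1_c3 LD2_c34 LD3_c0)) :=
  Lgr Lrot3 (Lpr_ft (K33.f485511 IH) (Lpn (LP (LK LD1_c3 LD2_c34 LD3_c0))))
theorem f514987 : Led Lsl_at (LP (LK LD1_c6 LD2_c54 LD3_c37)) = K33.v2362 :=
  Lgr Lrot66 (Lpr_ff (f485517 IH) (Lpe (K33.f455838 IH) (Lpr_ff (K33.f514986 IH) (Lpn K33.v2362))))
theorem f484528 : Led Lsl_et (LP (LK LD1_c13 LD2_c7 LD3_c51)) = (LP (LK LD1_c6 LD2_c54 LD3_c37)) :=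
  Lre_e IH (LK LD1_c13 LD2_c7 LD3_c51) (LK LD1_c6 LD2_c54 LD3_c37) Lrfl Lrfl
theorem f659156 : Led Lsl_af (LP (LK LD1_c13 LD2_c7 LD3_c51)) = v6874 :=
  Lgr Lrot50 (Lpr_et (f484528 IH) (Lpr_at (f514987 IH) (Lpqs (K33.f515034 IH) (Lpr_et (f659155 IH) (Lpn v6874)))))
theorem f676628 : Led Lsl_gt (LP (LK LD1_c7 LD2_c6 LD3_c60)) = (LP (LK LD1_c13 LD2_c7 LD3_c51)) :=
  Lgr Lrot46 (Lpr_gf (f676612 IH) (Lpe (f660950 IH) (Lpe (f659156 IH) (Lpn (LP (LK LD1_c13 LD2_c7 LD3_c51))))))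
theorem f676629 : Led Lsl_gt (LP (LK LD1_c7 LD2_c6 LD3_c60)) = (LP (LK LD1_c13 LD2_c7 LD3_c51)) :=
  Leop (Lpe (f676628 IH) (Lpn (LP (LK LD1_c7 LD2_c6 LD3_c60))))
theorem seed_569 : LEOK LG_g (LK LD1_c7 LD2_c6 LD3_c60) :=
  Leoe_g (LK LD1_c7 LD2_c6 LD3_c60) (f676629 IH)
def v3146 : LQ := Led Lsl_ct K46.v531
def v10012 : LQ := Led Lsl_et v3146
theorem f678357 : Led Lsl_et v3146 = v10012 :=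
  Lrfl
theorem f678360 : Led Lsl_ef v3146 = v10012 :=
  Lgr Lrot88 (Lpr_et (f678357 IH) (Lpn v10012))
theorem f624031 : Led Lsl_ct K46.v531 = v3146 :=
  Lrfl
theorem f624032 : Led Lsl_cf K46.v531 = v3146 :=
  Lgr Lrot11 (Lpr_ct (f624031 IH) (Lpn v3146))
theorem f678362 : Led Lsl_ct K46.v3148 = v10012 :=
  Lgr Lrot15 (Lpe (K46.f624038 IH) (Lpr_cf (f624032 IH) (Lpr_ef (f678360 IH) (Lpn v10012))))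
theorem f62036 : Led Lsl_ct (LP (LK LD1_c1 LD2_c34 LD3_c14)) = (LP (LK LD1_c3 LD2_c15 LD3_c8)) :=
  Lre_c IH (LK LD1_c1 LD2_c34 LD3_c14) (LK LD1_c3 LD2_c15 LD3_c8) Lrfl Lrfl
theorem f443640 : Led Lsl_ct (LP (LK LD1_c12 LD2_c2 LD3_c37)) = (LP (LK LD1_c6 LD2_c11 LD3_c22)) :=
  Lgr Lrot8 (Lpr_gt (K46.f443639 IH) (Lpr_dt (K46.f443629 IH) (Lpr_gt (K46.f443632 IH) (Lpr_dt (K46.f62035 IH) (Lpe (f62036 IH) (Lpe (K46.f62031 IH) (Lpe (K32.f62018 IH) (Lpe (K32.f62015 IH) (Lpe (K46.f62033 IH) (Lpn (LP (LK LD1_c6 LD2_c11 LD3_c22))))))))))))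
theorem f678363 : Led Lsl_ff (LP (LK LD1_c12 LD2_c2 LD3_c37)) = v10012 :=
  Lgr Lrot23 (Lpr_ct (f443640 IH) (Lpe (K46.f651000 IH) (Lpr_ct (f678362 IH) (Lpn v10012))))
theorem f678364 : Led Lsl_ft (LP (LK LD1_c12 LD2_c2 LD3_c37)) = v10012 :=
  Lgr Lrot48 (Lpr_ff (f678363 IH) (Lpn v10012))
def v5966 : LQ := Led Lsl_ft (LP (LK LD1_c3 LD2_c15 LD3_c42))
theorem f650286 : Led Lsl_ft (LP (LK LD1_c3 LD2_c15 LD3_c42)) = v5966 :=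
  Lrfl
def v5965 : LQ := Led Lsl_at (LP (LK LD1_c3 LD2_c15 LD3_c42))
theorem f650276 : Led Lsl_at (LP (LK LD1_c3 LD2_c15 LD3_c42)) = v5965 :=
  Lrfl
theorem f650277 : Led Lsl_af (LP (LK LD1_c3 LD2_c15 LD3_c42)) = v5965 :=
  Lgr Lrot0 (Lpr_at (f650276 IH) (Lpn v5965))
theorem f65482 : Led Lsl_ct (LP (LK LD1_c1 LD2_c34 LD3_c34)) = (LP (LK LD1_c3 LD2_c15 LD3_c42)) :=
  Lre_c IH (LK LD1_c1 LD2_c34 LD3_c34) (LK LD1_c3 LD2_c15 LD3_c42) Lrfl Lrfl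
theorem f650279 : Led Lsl_cf K46.v2058 = v5965 :=
  Lgr Lrot1 (Lpe (K46.f508625 IH) (Lpr_ct (f65482 IH) (Lpr_at (f650276 IH) (Lpn v5965))))
theorem f650281 : Led Lsl_ft v3146 = v5965 :=
  Lgr Lrot4 (Lpe (f624031 IH) (Lpr_ff (K46.f508629 IH) (Lpr_cf (f650279 IH) (Lpn v5965))))
theorem f650287 : Led Lsl_af v3146 = v5966 :=
  Lgr Lrot45 (Lpr_ft (f650281 IH) (Lpe (f650277 IH) (Lpr_ft (f650286 IH) (Lpn v5966))))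
theorem f650290 : Led Lsl_ff (LP (LK LD1_c3 LD2_c15 LD3_c42)) = v5966 :=
  Lgr Lrot3 (Lpr_ft (f650286 IH) (Lpn v5966))
theorem f453816 : Led Lsl_ct (LP (LK LD1_c3 LD2_c15 LD3_c42)) = (LP (LK LD1_c1 LD2_c34 LD3_c34)) :=
  Lre_c IH (LK LD1_c3 LD2_c15 LD3_c42) (LK LD1_c1 LD2_c34 LD3_c34) Lrfl Lrfl
theorem f650293 : Led Lsl_ct K46.v2060 = v5966 :=
  Lgr Lrot40 (Lpe (K46.f508633 IH) (Lpe (f453816 IH) (Lpr_ff (f650290 IH) (Lpn v5966))))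
theorem f651822 : v5966 = (LP (LK LD1_c6 LD2_c10 LD3_c37)) :=
  Lefun (Lecon (f650293 IH) (K46.f651815 IH).symm) (K46.f130801 IH)
theorem f678358 : Led Lsl_af (LP (LK LD1_c12 LD2_c1 LD3_c51)) = v10012 :=
  Lgr Lrot50 (Lpr_et (K46.f439821 IH) (Lpq (f651822 IH) (Lpe (f650287 IH) (Lpr_et (f678357 IH) (Lpn v10012)))))
theorem f678365 : Led Lsl_gt (LP (LK LD1_c6 LD2_c11 LD3_c8)) = (LP (LK LD1_c12 LD2_c1 LD3_c51)) :=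
  Lgr Lrot46 (Lpe (K46.f443639 IH) (Lpr_ft (f678364 IH) (Lpe (f678358 IH) (Lpn (LP (LK LD1_c12 LD2_c1 LD3_c51))))))
theorem f678366 : Led Lsl_gt (LP (LK LD1_c6 LD2_c11 LD3_c8)) = (LP (LK LD1_c12 LD2_c1 LD3_c51)) :=
  Leop (Lpe (f678365 IH) (Lpn (LP (LK LD1_c6 LD2_c11 LD3_c8))))
theorem seed_570 : LEOK LG_g (LK LD1_c6 LD2_c11 LD3_c8) :=
  Leoe_g (LK LD1_c6 LD2_c11 LD3_c8) (f678366 IH)
def v540 : LQ := Led Lsl_gt (LP (LK LD1_c0 LD2_c44 LD3_c4))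
def v3159 : LQ := Led Lsl_at v540
def v10044 : LQ := Led Lsl_et v3159
theorem f678490 : Led Lsl_et v3159 = v10044 :=
  Lrfl
theorem f678492 : Led Lsl_ef v3159 = v10044 :=
  Lgr Lrot88 (Lpr_et (f678490 IH) (Lpn v10044))
theorem f624082 : Led Lsl_at v540 = v3159 :=
  Lrfl
theorem f624083 : Led Lsl_af v540 = v3159 :=
  Lgr Lrot0 (Lpr_at (f624082 IH) (Lpn v3159))
def v3163 : LQ := Led Lsl_et v540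
theorem f624092 : Led Lsl_et v540 = v3163 :=
  Lrfl
theorem f678493 : Led Lsl_at v3163 = v10044 :=
  Lgr Lrot80 (Lpe (f624092 IH) (Lpr_af (f624083 IH) (Lpr_ef (f678492 IH) (Lpn v10044))))
theorem f624093 : Led Lsl_ef v540 = v3163 :=
  Lgr Lrot88 (Lpr_et (f624092 IH) (Lpn v3163))
theorem f453863 : Led Lsl_gt (LP (LK LD1_c0 LD2_c44 LD3_c4)) = v540 :=
  Lrfl
theorem f78968 : Led Lsl_gt (LP (LK LD1_c3 LD2_c16 LD3_c59)) = (LP (LK LD1_c1 LD2_c35 LD3_c6)) :=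
  Lre_g IH (LK LD1_c3 LD2_c16 LD3_c59) (LK LD1_c1 LD2_c35 LD3_c6) Lrfl Lrfl
theorem f624094 : Led Lsl_df (LP (LK LD1_c3 LD2_c16 LD3_c59)) = v3163 :=
  Lgr Lrot170 (Lpr_gt (f78968 IH) (Lpe (K4.f64469 IH) (Lpr_et (K4.f78962 IH) (Lpr_gt (K1.f14700 IH) (Lpr_dt (K1.f14699 IH) (Lpr_gt (K1.f14710 IH) (Lpe (K1.f62859 IH) (Lpr_et (K35.f130772 IH) (Lpr_gt (f453863 IH) (Lpr_ef (f624093 IH) (Lpn v3163)))))))))))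
theorem f624097 : Led Lsl_dt (LP (LK LD1_c3 LD2_c16 LD3_c59)) = v3163 :=
  Lgr Lrot42 (Lpr_df (f624094 IH) (Lpn v3163))
def v6055 : LQ := Led Lsl_ft (LP (LK LD1_c3 LD2_c16 LD3_c58))
theorem f650761 : Led Lsl_ft (LP (LK LD1_c3 LD2_c16 LD3_c58)) = v6055 :=
  Lrfl
def v6053 : LQ := Led Lsl_at (LP (LK LD1_c3 LD2_c16 LD3_c58))
theorem f650755 : Led Lsl_at (LP (LK LD1_c3 LD2_c16 LD3_c58)) = v6053 :=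
  Lrfl
theorem f650756 : Led Lsl_af (LP (LK LD1_c3 LD2_c16 LD3_c58)) = v6053 :=
  Lgr Lrot0 (Lpr_at (f650755 IH) (Lpn v6053))
theorem f650757 : Led Lsl_ft (LP (LK LD1_c3 LD2_c16 LD3_c59)) = v6053 :=
  Lgr Lrot2 (Lpr_gt (f78968 IH) (Lpr_gt (K46.f78966 IH) (Lpr_af (f650756 IH) (Lpn v6053))))
theorem f650762 : Led Lsl_af (LP (LK LD1_c3 LD2_c16 LD3_c59)) = v6055 :=
  Lgr Lrot45 (Lpr_ft (f650757 IH) (Lpe (f650756 IH) (Lpr_ft (f650761 IH) (Lpn v6055))))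
theorem f678494 : Led Lsl_df v6055 = v10044 :=
  Lgr Lrot18 (Lpe (f650762 IH) (Lpr_dt (f624097 IH) (Lpr_at (f678493 IH) (Lpn v10044))))
theorem f650763 : Led Lsl_ff (LP (LK LD1_c3 LD2_c16 LD3_c58)) = v6055 :=
  Lgr Lrot3 (Lpr_ft (f650761 IH) (Lpn v6055))
theorem f78967 : Led Lsl_dt (LP (LK LD1_c3 LD2_c16 LD3_c58)) = (LP (LK LD1_c6 LD2_c37 LD3_c16)) :=
  Lre_d IH (LK LD1_c3 LD2_c16 LD3_c58) (LK LD1_c6 LD2_c37 LD3_c16) Lrfl Lrfl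
theorem f678496 : Led Lsl_ft (LP (LK LD1_c6 LD2_c37 LD3_c16)) = v10044 :=
  Lgr Lrot54 (Lpe (f78967 IH) (Lpr_ff (f650763 IH) (Lpr_df (f678494 IH) (Lpn v10044))))
theorem f678491 : Led Lsl_af v3163 = v10044 :=
  Lgr Lrot50 (Lpe (f624093 IH) (Lpr_at (f624082 IH) (Lpr_et (f678490 IH) (Lpn v10044))))
def v5194 : LQ := Led Lsl_ft (LP (LK LD1_c3 LD2_c1 LD3_c45))
theorem f646479 : Led Lsl_ft (LP (LK LD1_c3 LD2_c1 LD3_c45)) = v5194 :=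
  Lrfl
theorem f646481 : Led Lsl_ff (LP (LK LD1_c3 LD2_c1 LD3_c45)) = v5194 :=
  Lgr Lrot3 (Lpr_ft (f646479 IH) (Lpn v5194))
def v5193 : LQ := Led Lsl_at (LP (LK LD1_c3 LD2_c1 LD3_c45))
theorem f646472 : Led Lsl_at (LP (LK LD1_c3 LD2_c1 LD3_c45)) = v5193 :=
  Lrfl
theorem f646473 : Led Lsl_af (LP (LK LD1_c3 LD2_c1 LD3_c45)) = v5193 :=
  Lgr Lrot0 (Lpr_at (f646472 IH) (Lpn v5193))
theorem f646475 : Led Lsl_ft (LP (LK LD1_c3 LD2_c1 LD3_c46)) = v5193 :=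
  Lgr Lrot2 (Lpr_gt (K9.f62168 IH) (Lpr_gt (K46.f103213 IH) (Lpr_af (f646473 IH) (Lpn v5193))))
theorem f646477 : Led Lsl_ff (LP (LK LD1_c3 LD2_c1 LD3_c46)) = v5193 :=
  Lgr Lrot3 (Lpr_ft (f646475 IH) (Lpn v5193))
theorem f646482 : Led Lsl_at (LP (LK LD1_c3 LD2_c1 LD3_c46)) = v5194 :=
  Lgr Lrot66 (Lpr_ff (f646477 IH) (Lpe (f646472 IH) (Lpr_ff (f646481 IH) (Lpn v5194))))
theorem f663188 : (LP (LK LD1_c1 LD2_c27 LD3_c8)) = v5194 :=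
  Lefun (Lecon (Lfl_af (K48.f502911 IH)) (K48.f663187 IH)) (f646482 IH)
theorem f502903 : Led Lsl_ft (LP (LK LD1_c3 LD2_c2 LD3_c21)) = (LP (LK LD1_c6 LD2_c11 LD3_c35)) :=
  Lre_f IH (LK LD1_c3 LD2_c2 LD3_c21) (LK LD1_c6 LD2_c11 LD3_c35) Lrfl Lrfl
theorem f663225 : Led Lsl_ef (LP (LK LD1_c12 LD2_c1 LD3_c26)) = (LP (LK LD1_c6 LD2_c11 LD3_c35)) :=
  Lgr Lrot21 (Lpr_ft (K46.f441162 IH) (Lpr_et (K46.f441149 IH) (Lpr_ft (f646479 IH) (Lpq (f663188 IH) (Lpr_et (K46.f443623 IH) (Lpr_ft (f502903 IH) (Lpn (LP (LK LD1_c6 LD2_c11 LD3_c35)))))))))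
theorem f663268 : Led Lsl_et (LP (LK LD1_c12 LD2_c1 LD3_c26)) = (LP (LK LD1_c6 LD2_c11 LD3_c35)) :=
  Lgr Lrot87 (Lpr_ef (f663225 IH) (Lpn (LP (LK LD1_c6 LD2_c11 LD3_c35))))
theorem f651722 : Led Lsl_ff (LP (LK LD1_c3 LD2_c18 LD3_c47)) = K46.v6187 :=
  Lgr Lrot3 (Lpr_ft (K46.f651720 IH) (Lpn K46.v6187))
theorem f441158 : Led Lsl_dt (LP (LK LD1_c3 LD2_c18 LD3_c47)) = (LP (LK LD1_c6 LD2_c10 LD3_c19)) :=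
  Lgr Lrot42 (Lpr_df (K46.f441150 IH) (Lpn (LP (LK LD1_c6 LD2_c10 LD3_c19))))
theorem f651723 : Led Lsl_dt (LP (LK LD1_c12 LD2_c1 LD3_c26)) = K46.v6187 :=
  Lgr Lrot60 (Lpe (K46.f441163 IH) (Lpe (f441158 IH) (Lpr_ff (f651722 IH) (Lpn K46.v6187))))
theorem f502916 : Led Lsl_ft (LP (LK LD1_c3 LD2_c2 LD3_c17)) = (LP (LK LD1_c6 LD2_c11 LD3_c24)) :=
  Lre_f IH (LK LD1_c3 LD2_c2 LD3_c17) (LK LD1_c6 LD2_c11 LD3_c24) Lrfl Lrfl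
theorem f62037 : Led Lsl_dt (LP (LK LD1_c6 LD2_c11 LD3_c23)) = (LP (LK LD1_c3 LD2_c2 LD3_c17)) :=
  Lre_d IH (LK LD1_c6 LD2_c11 LD3_c23) (LK LD1_c3 LD2_c2 LD3_c17) Lrfl Lrfl
theorem f651728 : Led Lsl_af (LP (LK LD1_c12 LD2_c1 LD3_c26)) = K46.v6189 :=
  Lgr Lrot117 (Lpr_dt (f651723 IH) (Lpe (K46.f651718 IH) (Lpr_dt (K46.f651727 IH) (Lpn K46.v6189))))
def v5229 : LQ := Led Lsl_at (LP (LK LD1_c3 LD2_c2 LD3_c17))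
theorem f646691 : Led Lsl_at (LP (LK LD1_c3 LD2_c2 LD3_c17)) = v5229 :=
  Lrfl
theorem f62059 : Led Lsl_et (LP (LK LD1_c1 LD2_c27 LD3_c7)) = (LP (LK LD1_c3 LD2_c2 LD3_c17)) :=
  Lre_e IH (LK LD1_c1 LD2_c27 LD3_c7) (LK LD1_c3 LD2_c2 LD3_c17) Lrfl Lrfl
theorem f646693 : Led Lsl_ef K32.v1787 = v5229 :=
  Lgr Lrot20 (Lpe (K32.f502894 IH) (Lpr_et (f62059 IH) (Lpr_at (f646691 IH) (Lpn v5229))))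
theorem f646694 : Led Lsl_et K32.v1787 = v5229 :=
  Lgr Lrot87 (Lpr_ef (f646693 IH) (Lpn v5229))
theorem f441160 : Led Lsl_et (LP (LK LD1_c3 LD2_c1 LD3_c45)) = (LP (LK LD1_c6 LD2_c10 LD3_c19)) :=
  Lre_e IH (LK LD1_c3 LD2_c1 LD3_c45) (LK LD1_c6 LD2_c10 LD3_c19) Lrfl Lrfl
theorem f663204 : (LP (LK LD1_c3 LD2_c1 LD3_c45)) = K32.v1787 :=
  Lefun (Lecon (Lfl_ff (f646481 IH)) (f663188 IH).symm) (K32.f502897 IH)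
theorem f663222 : v5229 = (LP (LK LD1_c6 LD2_c10 LD3_c19)) :=
  Lefun (Lecon (f646694 IH) (f663204 IH).symm) (f441160 IH)
theorem f646692 : Led Lsl_af (LP (LK LD1_c3 LD2_c2 LD3_c17)) = v5229 :=
  Lgr Lrot0 (Lpr_at (f646691 IH) (Lpn v5229))
theorem f663229 : K46.v6189 = (LP (LK LD1_c6 LD2_c11 LD3_c24)) :=
  (Llr Lrot45 (Lpe (f651728 IH) (Lpr_ft (K46.f441162 IH) (Lpq (f663222 IH) (Lpe (f646692 IH) (Lpr_ft (f502916 IH) (Lpn (LP (LK LD1_c6 LD2_c11 LD3_c24))))))))).symm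
def v6190 : LQ := Led Lsl_ft (LP (LK LD1_c3 LD2_c18 LD3_c46))
theorem f651989 : Led Lsl_ft (LP (LK LD1_c3 LD2_c18 LD3_c46)) = v6190 :=
  Lrfl
theorem f663239 : (LP (LK LD1_c6 LD2_c11 LD3_c23)) = v6190 :=
  (Llr Lrot78 (Lpr_dt (f62037 IH) (Lpr_ft (f502916 IH) (Lpq (f663229 IH) (Lpe (K46.f651729 IH) (Lpr_ft (f651989 IH) (Lpn v6190))))))).symm
theorem f651991 : Led Lsl_ff (LP (LK LD1_c3 LD2_c18 LD3_c46)) = v6190 :=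
  Lgr Lrot3 (Lpr_ft (f651989 IH) (Lpn v6190))
theorem f62030 : Led Lsl_gt (LP (LK LD1_c3 LD2_c15 LD3_c11)) = (LP (LK LD1_c6 LD2_c33 LD3_c48)) :=
  Lre_g IH (LK LD1_c3 LD2_c15 LD3_c11) (LK LD1_c6 LD2_c33 LD3_c48) Lrfl Lrfl
theorem f663244 : K46.v6187 = (LP (LK LD1_c6 LD2_c33 LD3_c48)) :=
  (Llr Lrot26 (Lpe (K46.f651717 IH) (Lpr_ff (f651991 IH) (Lpq (f663239 IH) (Lpr_gt (K32.f62018 IH) (Lpr_gt (f62030 IH) (Lpn (LP (LK LD1_c6 LD2_c33 LD3_c48))))))))).symm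
theorem f663271 : Led Lsl_gf v3163 = (LP (LK LD1_c6 LD2_c11 LD3_c35)) :=
  Lgr Lrot138 (Lpe (f624094 IH) (Lpr_gt (f78968 IH) (Lpe (K4.f64469 IH) (Lpr_et (K4.f78962 IH) (Lpr_gt (K1.f14700 IH) (Lpe (K32.f62016 IH) (Lpr_dt (K32.f62017 IH) (Lpr_gt (f62030 IH) (Lpq (f663244 IH) (Lpe (f651723 IH) (Lpr_et (f663268 IH) (Lpn (LP (LK LD1_c6 LD2_c11 LD3_c35))))))))))))))
theorem f678499 : Led Lsl_gt (LP (LK LD1_c6 LD2_c37 LD3_c16)) = (LP (LK LD1_c6 LD2_c11 LD3_c35)) :=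
  Lgr Lrot5 (Lpr_ft (f678496 IH) (Lpe (f678491 IH) (Lpr_gf (f663271 IH) (Lpn (LP (LK LD1_c6 LD2_c11 LD3_c35))))))
theorem f678500 : Led Lsl_gt (LP (LK LD1_c6 LD2_c37 LD3_c16)) = (LP (LK LD1_c6 LD2_c11 LD3_c35)) :=
  Leop (Lpe (f678499 IH) (Lpn (LP (LK LD1_c6 LD2_c37 LD3_c16))))
theorem seed_571 : LEOK LG_g (LK LD1_c6 LD2_c37 LD3_c16) :=
  Leoe_g (LK LD1_c6 LD2_c37 LD3_c16) (f678500 IH)
def v6091 : LQ := Led Lsl_gf (LP (LK LD1_c3 LD2_c17 LD3_c22))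
theorem f650973 : Led Lsl_gf (LP (LK LD1_c3 LD2_c17 LD3_c22)) = v6091 :=
  Lrfl
def v3179 : LQ := Led Lsl_gt K24.v547
theorem f624544 : Led Lsl_gt K24.v547 = v3179 :=
  Lrfl
theorem f646714 : Led Lsl_df (LP (LK LD1_c3 LD2_c17 LD3_c22)) = K46.v5234 :=
  Lgr Lrot70 (Lpr_et (K46.f62022 IH) (Lpr_dt (K46.f119400 IH) (Lpr_et (K46.f155212 IH) (Lpr_dt (f78967 IH) (Lpr_et (K46.f646713 IH) (Lpn K46.v5234))))))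
theorem f62061 : Led Lsl_gt (LP (LK LD1_c6 LD2_c33 LD3_c48)) = (LP (LK LD1_c3 LD2_c18 LD3_c41)) :=
  Lre_g IH (LK LD1_c6 LD2_c33 LD3_c48) (LK LD1_c3 LD2_c18 LD3_c41) Lrfl Lrfl
theorem f678501 : v6091 = K24.v547 :=
  (Llr Lrot134 (Lpe (f650973 IH) (Lpr_df (f646714 IH) (Lpe (K46.f646715 IH) (Lpr_gt (f678499 IH) (Lpe (f663268 IH) (Lpr_dt (f651723 IH) (Lpqs (f663244 IH) (Lpr_gt (f62061 IH) (Lpe (K32.f62064 IH) (Lpr_et (K32.f62085 IH) (Lpr_gt (K24.f140003 IH) (Lpr_dt (K46.f453913 IH) (Lpn K24.v547)))))))))))))).symm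
theorem f678502 : (LP (LK LD1_c3 LD2_c17 LD3_c22)) = v3179 :=
  Lefun (Lecon (Lfl_gf (f650973 IH)) (f678501 IH)) (f624544 IH)
theorem f624545 : Led Lsl_gf K32.v2105 = v3179 :=
  Lgr Lrot76 (Lpe (K32.f508980 IH) (Lpr_ff (K32.f508996 IH) (Lpqs (K46.f624135 IH) (Lpr_gt (f624544 IH) (Lpn v3179)))))
theorem f678504 : Led Lsl_gt (LP (LK LD1_c3 LD2_c17 LD3_c22)) = (LP (LK LD1_c3 LD2_c16 LD3_c25)) :=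
  Leop (Lpq (K46.f624152 IH) (Lpr_gf (f624545 IH) (Lpq (f678502 IH) (Lpn (LP (LK LD1_c3 LD2_c17 LD3_c22))))))
theorem seed_572 : LEOK LG_g (LK LD1_c3 LD2_c17 LD3_c22) :=
  Leoe_g (LK LD1_c3 LD2_c17 LD3_c22) (f678504 IH)
def v2074 : LQ := Led Lsl_gf (LP (LK LD1_c1 LD2_c34 LD3_c49))
def v8520 : LQ := Led Lsl_dt v2074
theorem f671509 : Led Lsl_dt v2074 = v8520 :=
  Lrfl
theorem f671510 : Led Lsl_df v2074 = v8520 :=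
  Lgr Lrot38 (Lpr_dt (f671509 IH) (Lpn v8520))
theorem f508694 : Led Lsl_gf (LP (LK LD1_c1 LD2_c34 LD3_c49)) = v2074 :=
  Lrfl
theorem f110205 : Led Lsl_ef (LP (LK LD1_c3 LD2_c16 LD3_c1)) = (LP (LK LD1_c3 LD2_c1 LD3_c26)) :=
  Lgr Lrot73 (Lpr_dt (K4.f110203 IH) (Lpr_et (K4.f103591 IH) (Lpr_dt (K3.f110197 IH) (Lpr_et (K7.f110204 IH) (Lpr_dt (K4.f110033 IH) (Lpn (LP (LK LD1_c3 LD2_c1 LD3_c26))))))))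
theorem f671511 : Led Lsl_ef K46.v5997 = v8520 :=
  Lgr Lrot17 (Lpe (K46.f650441 IH) (Lpr_ef (f110205 IH) (Lpr_dt (K4.f114002 IH) (Lpe (K11.f433235 IH) (Lpe (K11.f154300 IH) (Lpr_gf (K11.f433245 IH) (Lpe (K5.f113980 IH) (Lpr_dt (K46.f118224 IH) (Lpr_gf (f508694 IH) (Lpr_df (f671510 IH) (Lpn v8520)))))))))))
theorem f650943 : Led Lsl_ff (LP (LK LD1_c3 LD2_c17 LD3_c19)) = K46.v6088 :=
  Lgr Lrot3 (Lpr_ft (K46.f650940 IH) (Lpn K46.v6088))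
theorem f650927 : Led Lsl_ff (LP (LK LD1_c3 LD2_c17 LD3_c21)) = K46.v6085 :=
  Lgr Lrot3 (Lpr_ft (K46.f650926 IH) (Lpn K46.v6085))
theorem f650960 : Led Lsl_at (LP (LK LD1_c3 LD2_c17 LD3_c21)) = K46.v6088 :=
  Lgr Lrot66 (Lpr_ff (f650927 IH) (Lpe (K46.f650922 IH) (Lpr_ff (f650943 IH) (Lpn K46.v6088))))
theorem f650962 : Led Lsl_ef v6053 = K46.v6088 :=
  Lgr Lrot20 (Lpe (f650756 IH) (Lpe (K46.f155217 IH) (Lpr_at (f650960 IH) (Lpn K46.v6088))))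
theorem f64533 : Led Lsl_dt (LP (LK LD1_c3 LD2_c17 LD3_c19)) = (LP (LK LD1_c1 LD2_c35 LD3_c14)) :=
  Lre_d IH (LK LD1_c3 LD2_c17 LD3_c19) (LK LD1_c1 LD2_c35 LD3_c14) Lrfl Lrfl
def v2087 : LQ := Led Lsl_ft (LP (LK LD1_c1 LD2_c35 LD3_c14))
theorem f508754 : Led Lsl_ft (LP (LK LD1_c1 LD2_c35 LD3_c14)) = v2087 :=
  Lrfl
theorem f650961 : Led Lsl_dt v2087 = K46.v6088 :=
  Lgr Lrot60 (Lpe (f508754 IH) (Lpe (f64533 IH) (Lpr_ff (f650943 IH) (Lpn K46.v6088))))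
def v8539 : LQ := Led Lsl_gt K46.v2084
theorem f671549 : Led Lsl_gt K46.v2084 = v8539 :=
  Lrfl
theorem f508756 : Led Lsl_ff (LP (LK LD1_c1 LD2_c35 LD3_c14)) = v2087 :=
  Lgr Lrot3 (Lpr_ft (f508754 IH) (Lpn v2087))
theorem f508757 : Led Lsl_at (LP (LK LD1_c1 LD2_c35 LD3_c15)) = v2087 :=
  Lgr Lrot66 (Lpr_ff (K46.f508748 IH) (Lpe (K46.f508743 IH) (Lpr_ff (f508756 IH) (Lpn v2087))))
theorem f671550 : Led Lsl_gf v2087 = v8539 :=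
  Lgr Lrot76 (Lpe (f508757 IH) (Lpr_ff (K46.f508748 IH) (Lpr_gt (f671549 IH) (Lpn v8539))))
theorem f118044 : Led Lsl_ft (LP (LK LD1_c1 LD2_c35 LD3_c17)) = (LP (LK LD1_c0 LD2_c44 LD3_c16)) :=
  Lre_f IH (LK LD1_c1 LD2_c35 LD3_c17) (LK LD1_c0 LD2_c44 LD3_c16) Lrfl Lrfl
theorem f118045 : Led Lsl_af (LP (LK LD1_c1 LD2_c34 LD3_c49)) = (LP (LK LD1_c0 LD2_c44 LD3_c16)) :=
  Lgr Lrot109 (Lpe (K4.f118032 IH) (Lpe (K4.f96751 IH) (Lpe (K4.f118021 IH) (Lpe (K4.f118022 IH) (Lpr_cf (K4.f118028 IH) (Lpe (K4.f118027 IH) (Lpe (K4.f118026 IH) (Lpe (K4.f118025 IH) (Lpr_ft (f118044 IH) (Lpn (LP (LK LD1_c0 LD2_c44 LD3_c16))))))))))))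
theorem f508695 : Led Lsl_gt (LP (LK LD1_c1 LD2_c35 LD3_c17)) = v2074 :=
  Lgr Lrot5 (Lpr_ft (f118044 IH) (Lpe (f118045 IH) (Lpr_gf (f508694 IH) (Lpn v2074))))
def v2073 : LQ := Led Lsl_gt (LP (LK LD1_c1 LD2_c34 LD3_c49))
theorem f508691 : Led Lsl_gt (LP (LK LD1_c1 LD2_c34 LD3_c49)) = v2073 :=
  Lrfl
theorem f508692 : Led Lsl_gf (LP (LK LD1_c1 LD2_c35 LD3_c17)) = v2073 :=
  Lgr Lrot76 (Lpr_af (K46.f118253 IH) (Lpe (K4.f118609 IH) (Lpr_gt (f508691 IH) (Lpn v2073))))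
def v8542 : LQ := Led Lsl_et K46.v2084
theorem f671557 : Led Lsl_et K46.v2084 = v8542 :=
  Lrfl
theorem f671559 : Led Lsl_ef K46.v2084 = v8542 :=
  Lgr Lrot88 (Lpr_et (f671557 IH) (Lpn v8542))
def v8516 : LQ := Led Lsl_et v2073
theorem f671497 : Led Lsl_et v2073 = v8516 :=
  Lrfl
theorem f671498 : Led Lsl_ef v2073 = v8516 :=
  Lgr Lrot88 (Lpr_et (f671497 IH) (Lpn v8516))
def v2086 : LQ := Led Lsl_et (LP (LK LD1_c1 LD2_c35 LD3_c14))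
def v8552 : LQ := Led Lsl_ft v2086
theorem f671583 : Led Lsl_ft v2086 = v8552 :=
  Lrfl
def v8551 : LQ := Led Lsl_dt v2086
theorem f671577 : Led Lsl_dt v2086 = v8551 :=
  Lrfl
theorem f671578 : Led Lsl_df v2086 = v8551 :=
  Lgr Lrot38 (Lpr_dt (f671577 IH) (Lpn v8551))
def v6094 : LQ := Led Lsl_ft (LP (LK LD1_c3 LD2_c17 LD3_c22))
theorem f650983 : Led Lsl_ft (LP (LK LD1_c3 LD2_c17 LD3_c22)) = v6094 :=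
  Lrfl
theorem f678505 : Led Lsl_at v6094 = K46.v3180 :=
  Lgr Lrot26 (Lpe (f650983 IH) (Lpqs (f678502 IH) (Lpe (f624545 IH) (Lpqs (K46.f624152 IH) (Lpq (K46.f624152 IH) (Lpr_gt (K46.f624547 IH) (Lpn K46.v3180)))))))
def v6092 : LQ := Led Lsl_at (LP (LK LD1_c3 LD2_c17 LD3_c22))
theorem f650974 : Led Lsl_at (LP (LK LD1_c3 LD2_c17 LD3_c22)) = v6092 :=
  Lrfl
theorem f650975 : Led Lsl_af (LP (LK LD1_c3 LD2_c17 LD3_c22)) = v6092 :=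
  Lgr Lrot0 (Lpr_at (f650974 IH) (Lpn v6092))
theorem f678507 : Led Lsl_ff v6092 = K46.v3180 :=
  Lgr Lrot30 (Lpe (f650975 IH) (Lpr_ft (f650983 IH) (Lpr_at (f678505 IH) (Lpn K46.v3180))))
theorem f508755 : Led Lsl_af (LP (LK LD1_c1 LD2_c35 LD3_c15)) = v2087 :=
  Lgr Lrot45 (Lpr_ft (K46.f508745 IH) (Lpe (K46.f508744 IH) (Lpr_ft (f508754 IH) (Lpn v2087))))
theorem f650976 : Led Lsl_ef v2087 = v6092 :=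
  Lgr Lrot20 (Lpe (f508755 IH) (Lpr_et (K46.f155222 IH) (Lpr_at (f650974 IH) (Lpn v6092))))
theorem f508752 : Led Lsl_et (LP (LK LD1_c1 LD2_c35 LD3_c14)) = v2086 :=
  Lrfl
def v2117 : LQ := Led Lsl_et (LP (LK LD1_c1 LD2_c35 LD3_c48))
def v8603 : LQ := Led Lsl_gt v2117
theorem f671733 : Led Lsl_gt v2117 = v8603 :=
  Lrfl
theorem f509075 : Led Lsl_et (LP (LK LD1_c1 LD2_c35 LD3_c48)) = v2117 :=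
  Lrfl
theorem f64466 : Led Lsl_et (LP (LK LD1_c0 LD2_c40 LD3_c11)) = (LP (LK LD1_c0 LD2_c17 LD3_c61)) :=
  Lre_e IH (LK LD1_c0 LD2_c40 LD3_c11) (LK LD1_c0 LD2_c17 LD3_c61) Lrfl Lrfl
theorem f64470 : Led Lsl_ef (LP (LK LD1_c1 LD2_c26 LD3_c49)) = (LP (LK LD1_c1 LD2_c35 LD3_c6)) :=
  Lgr Lrot73 (Lpr_dt (K4.f64467 IH) (Lpr_et (f64466 IH) (Lpr_dt (K1.f64294 IH) (Lpr_et (K4.f64468 IH) (Lpr_dt (K4.f64469 IH) (Lpn (LP (LK LD1_c1 LD2_c35 LD3_c6))))))))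
theorem f78961 : Led Lsl_dt (LP (LK LD1_c1 LD2_c35 LD3_c6)) = (LP (LK LD1_c0 LD2_c44 LD3_c13)) :=
  Lre_d IH (LK LD1_c1 LD2_c35 LD3_c6) (LK LD1_c0 LD2_c44 LD3_c13) Lrfl Lrfl
theorem f114228 : Led Lsl_et (LP (LK LD1_c3 LD2_c16 LD3_c54)) = (LP (LK LD1_c6 LD2_c37 LD3_c12)) :=
  Lre_e IH (LK LD1_c3 LD2_c16 LD3_c54) (LK LD1_c6 LD2_c37 LD3_c12) Lrfl Lrfl
theorem f114223 : Led Lsl_et (LP (LK LD1_c1 LD2_c35 LD3_c49)) = (LP (LK LD1_c0 LD2_c44 LD3_c29)) :=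
  Lre_e IH (LK LD1_c1 LD2_c35 LD3_c49) (LK LD1_c0 LD2_c44 LD3_c29) Lrfl Lrfl
theorem f114224 : Led Lsl_dt (LP (LK LD1_c1 LD2_c35 LD3_c49)) = (LP (LK LD1_c0 LD2_c44 LD3_c26)) :=
  Lre_d IH (LK LD1_c1 LD2_c35 LD3_c49) (LK LD1_c0 LD2_c44 LD3_c26) Lrfl Lrfl
theorem f114225 : Led Lsl_dt (LP (LK LD1_c3 LD2_c18 LD3_c45)) = (LP (LK LD1_c1 LD2_c35 LD3_c48)) :=
  Lre_d IH (LK LD1_c3 LD2_c18 LD3_c45) (LK LD1_c1 LD2_c35 LD3_c48) Lrfl Lrfl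
theorem f114229 : Led Lsl_gt (LP (LK LD1_c6 LD2_c37 LD3_c12)) = (LP (LK LD1_c3 LD2_c18 LD3_c45)) :=
  Lgr Lrot137 (Lpe (f114228 IH) (Lpr_dt (K46.f114227 IH) (Lpe (K5.f114226 IH) (Lpe (f78961 IH) (Lpe (f64470 IH) (Lpr_gf (K4.f114159 IH) (Lpe (f114223 IH) (Lpr_dt (f114224 IH) (Lpe (K46.f103595 IH) (Lpe (f114225 IH) (Lpn (LP (LK LD1_c3 LD2_c18 LD3_c45)))))))))))))
def v5236 : LQ := Led Lsl_ft (LP (LK LD1_c3 LD2_c2 LD3_c20))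
theorem f646727 : Led Lsl_ft (LP (LK LD1_c3 LD2_c2 LD3_c20)) = v5236 :=
  Lrfl
def v5233 : LQ := Led Lsl_gt (LP (LK LD1_c3 LD2_c2 LD3_c20))
theorem f646710 : Led Lsl_gt (LP (LK LD1_c3 LD2_c2 LD3_c20)) = v5233 :=
  Lrfl
theorem f646725 : Led Lsl_ft K46.v1788 = K48.v5235 :=
  Lgr Lrot54 (Lpe (K46.f502904 IH) (Lpr_ff (K48.f502913 IH) (Lpr_df (K48.f646723 IH) (Lpn K48.v5235))))
theorem f646728 : Led Lsl_af K46.v1788 = v5236 :=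
  Lgr Lrot45 (Lpr_ft (f646725 IH) (Lpe (K48.f646722 IH) (Lpr_ft (f646727 IH) (Lpn v5236))))
theorem f646731 : Led Lsl_gt v5233 = K46.v1788 :=
  Lgr Lrot46 (Lpe (f646710 IH) (Lpr_ft (f646727 IH) (Lpe (f646728 IH) (Lpn K46.v1788))))
def v2109 : LQ := Led Lsl_gf (LP (LK LD1_c1 LD2_c35 LD3_c45))
theorem f509026 : Led Lsl_gf (LP (LK LD1_c1 LD2_c35 LD3_c45)) = v2109 :=
  Lrfl
theorem f624499 : (LP (LK LD1_c3 LD2_c16 LD3_c55)) = v2109 :=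
  (Llr Lrot5 (Lpe (K5.f130822 IH) (Lpe (K46.f509010 IH) (Lpqs (K46.f624122 IH) (Lpe (K46.f509036 IH) (Lpr_gf (f509026 IH) (Lpn v2109))))))).symm
theorem f62126 : Led Lsl_et (LP (LK LD1_c3 LD2_c18 LD3_c40)) = (LP (LK LD1_c3 LD2_c16 LD3_c25)) :=
  Lgr Lrot71 (Lpe (K46.f62124 IH) (Lpe (K35.f62123 IH) (Lpe (K32.f62084 IH) (Lpr_ef (K32.f62104 IH) (Lpe (K46.f62125 IH) (Lpn (LP (LK LD1_c3 LD2_c16 LD3_c25))))))))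
theorem f651921 : Led Lsl_dt K46.v3180 = v5233 :=
  Lgr Lrot171 (Lpe (K46.f624547 IH) (Lpqs (K46.f624152 IH) (Lpe (f62126 IH) (Lpr_dt (K46.f62100 IH) (Lpr_gf (f509026 IH) (Lpq (f624499 IH) (Lpe (K46.f130813 IH) (Lpr_et (K46.f130815 IH) (Lpq (K46.f651825 IH) (Lpe (K46.f646690 IH) (Lpe (f62059 IH) (Lpr_dt (K46.f502904 IH) (Lpe (f646731 IH) (Lpn v5233))))))))))))))
theorem f671734 : Led Lsl_et K46.v3180 = v8603 :=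
  Lgr Lrot122 (Lpr_dt (f651921 IH) (Lpr_gt (f646731 IH) (Lpe (K46.f502904 IH) (Lpr_et (f62059 IH) (Lpr_gt (K46.f646690 IH) (Lpqs (K46.f651825 IH) (Lpr_dt (K46.f130818 IH) (Lpr_gt (f114229 IH) (Lpe (K46.f114247 IH) (Lpr_et (f509075 IH) (Lpr_gt (f671733 IH) (Lpn v8603))))))))))))
theorem f671735 : Led Lsl_ef K46.v3180 = v8603 :=
  Lgr Lrot88 (Lpr_et (f671734 IH) (Lpn v8603))
theorem f678509 : v8552 = v8603 :=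
  (Llr Lrot86 (Lpe (f671583 IH) (Lpe (f508752 IH) (Lpr_ff (f508756 IH) (Lpr_ef (f650976 IH) (Lpr_ff (f678507 IH) (Lpr_ef (f671735 IH) (Lpn v8603)))))))).symm
def v542 : LQ := Led Lsl_dt (LP (LK LD1_c0 LD2_c44 LD3_c4))
theorem f453866 : Led Lsl_dt (LP (LK LD1_c0 LD2_c44 LD3_c4)) = v542 :=
  Lrfl
def v3169 : LQ := Led Lsl_gt v542
theorem f624505 : Led Lsl_gt v542 = v3169 :=
  Lrfl
theorem f671736 : Led Lsl_df v3169 = v8603 :=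
  Lgr Lrot168 (Lpe (f624505 IH) (Lpe (f453866 IH) (Lpr_et (K35.f62878 IH) (Lpe (K1.f62849 IH) (Lpe (K46.f62167 IH) (Lpr_dt (K46.f62166 IH) (Lpe (K32.f62965 IH) (Lpr_df (K24.f453910 IH) (Lpr_gf (K46.f624546 IH) (Lpr_ef (f671735 IH) (Lpn v8603)))))))))))
theorem f678510 : Led Lsl_ff v8551 = v3169 :=
  Lgr Lrot19 (Lpe (f671578 IH) (Lpr_ft (f671583 IH) (Lpqs (f678509 IH) (Lpe (f671736 IH) (Lpn v3169)))))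
def v3045 : LQ := Led Lsl_dt K35.v460
def v9708 : LQ := Led Lsl_ft v3045
theorem f677258 : Led Lsl_ft v3045 = v9708 :=
  Lrfl
theorem f677261 : Led Lsl_ff v3045 = v9708 :=
  Lgr Lrot3 (Lpr_ft (f677258 IH) (Lpn v9708))
theorem f622618 : Led Lsl_dt K35.v460 = v3045 :=
  Lrfl
def v533 : LQ := Led Lsl_dt (LP (LK LD1_c0 LD2_c43 LD3_c58))
theorem f453821 : Led Lsl_dt (LP (LK LD1_c0 LD2_c43 LD3_c58)) = v533 :=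
  Lrfl
theorem f453823 : Led Lsl_df (LP (LK LD1_c0 LD2_c43 LD3_c58)) = v533 :=
  Lgr Lrot38 (Lpr_dt (f453821 IH) (Lpn v533))
theorem f622621 : Led Lsl_ef v533 = v3045 :=
  Lgr Lrot73 (Lpe (f453823 IH) (Lpr_et (K4.f65411 IH) (Lpe (K4.f103578 IH) (Lpr_et (K35.f452997 IH) (Lpr_dt (f622618 IH) (Lpn v3045))))))
theorem f453824 : Led Lsl_ff v533 = v533 :=
  Lgr Lrot19 (Lpe (f453823 IH) (Lpe (K4.f65414 IH) (Lpr_dt (f453821 IH) (Lpn v533))))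
theorem f622623 : Led Lsl_et v533 = v3045 :=
  Lgr Lrot87 (Lpr_ef (f622621 IH) (Lpn v3045))
theorem f677264 : Led Lsl_et v9708 = v9708 :=
  Lgr Lrot69 (Lpe (f677258 IH) (Lpe (f622623 IH) (Lpr_ff (f453824 IH) (Lpr_ef (f622621 IH) (Lpr_ff (f677261 IH) (Lpn v9708))))))
theorem f677260 : Led Lsl_df K35.v3046 = v9708 :=
  Lgr Lrot78 (Lpe (K35.f622627 IH) (Lpr_dt (f622618 IH) (Lpr_ft (f677258 IH) (Lpn v9708))))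
def v3167 : LQ := Led Lsl_dt K35.v541
theorem f624107 : Led Lsl_dt K35.v541 = v3167 :=
  Lrfl
theorem f624108 : Led Lsl_df K35.v541 = v3167 :=
  Lgr Lrot38 (Lpr_dt (f624107 IH) (Lpn v3167))
def v9706 : LQ := Led Lsl_gt v3045
theorem f677246 : Led Lsl_gt v3045 = v9706 :=
  Lrfl
theorem f433566 : Led Lsl_ft (LP (LK LD1_c0 LD2_c30 LD3_c20)) = (LP (LK LD1_c0 LD2_c18 LD3_c44)) :=
  Lgr Lrot54 (Lpe (K7.f25811 IH) (Lpr_ff (K11.f433560 IH) (Lpe (K7.f25895 IH) (Lpn (LP (LK LD1_c0 LD2_c18 LD3_c44))))))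
theorem f433558 : Led Lsl_af (LP (LK LD1_c0 LD2_c30 LD3_c20)) = (LP (LK LD1_c0 LD2_c18 LD3_c45)) :=
  Lgr Lrot117 (Lpr_dt (K7.f25801 IH) (Lpr_at (K11.f433551 IH) (Lpr_dt (K11.f84275 IH) (Lpn (LP (LK LD1_c0 LD2_c18 LD3_c45))))))
theorem f433598 : Led Lsl_ff (LP (LK LD1_c0 LD2_c18 LD3_c45)) = (LP (LK LD1_c0 LD2_c21 LD3_c55)) :=
  Lgr Lrot30 (Lpe (f433558 IH) (Lpr_ft (f433566 IH) (Lpr_at (K11.f433590 IH) (Lpn (LP (LK LD1_c0 LD2_c21 LD3_c55))))))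
theorem f106106 : Led Lsl_bt (LP (LK LD1_c0 LD2_c48 LD3_c53)) = (LP (LK LD1_c0 LD2_c21 LD3_c55)) :=
  Lre_b IH (LK LD1_c0 LD2_c48 LD3_c53) (LK LD1_c0 LD2_c21 LD3_c55) Lrfl Lrfl
theorem f433600 : Led Lsl_ft (LP (LK LD1_c0 LD2_c41 LD3_c60)) = (LP (LK LD1_c0 LD2_c48 LD3_c53)) :=
  Lgr Lrot75 (Lpe (K11.f154123 IH) (Lpr_ff (f433598 IH) (Lpe (f106106 IH) (Lpn (LP (LK LD1_c0 LD2_c48 LD3_c53))))))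
theorem f154199 : Led Lsl_ef (LP (LK LD1_c0 LD2_c41 LD3_c60)) = (LP (LK LD1_c0 LD2_c41 LD3_c60)) :=
  Lgr Lrot29 (Lpr_bt (K7.f154189 IH) (Lpr_et (K7.f154196 IH) (Lpr_bt (K11.f154123 IH) (Lpn (LP (LK LD1_c0 LD2_c41 LD3_c60))))))
theorem f433233 : Led Lsl_ff (LP (LK LD1_c0 LD2_c41 LD3_c60)) = (LP (LK LD1_c0 LD2_c48 LD3_c53)) :=
  Lgr Lrot30 (Lpr_at (K11.f154311 IH) (Lpe (K11.f155166 IH) (Lpr_at (K11.f433223 IH) (Lpn (LP (LK LD1_c0 LD2_c48 LD3_c53))))))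
theorem f433613 : Led Lsl_ef (LP (LK LD1_c0 LD2_c48 LD3_c53)) = (LP (LK LD1_c0 LD2_c43 LD3_c12)) :=
  Lgr Lrot21 (Lpe (f433233 IH) (Lpe (f154199 IH) (Lpr_ft (f433600 IH) (Lpe (K11.f154139 IH) (Lpr_ft (K11.f433217 IH) (Lpn (LP (LK LD1_c0 LD2_c43 LD3_c12))))))))
theorem f62886 : Led Lsl_et (LP (LK LD1_c0 LD2_c43 LD3_c46)) = (LP (LK LD1_c0 LD2_c19 LD3_c32)) :=
  Lre_e IH (LK LD1_c0 LD2_c43 LD3_c46) (LK LD1_c0 LD2_c19 LD3_c32) Lrfl Lrfl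
theorem f64489 : Led Lsl_et (LP (LK LD1_c0 LD2_c19 LD3_c41)) = (LP (LK LD1_c0 LD2_c8 LD3_c49)) :=
  Lre_e IH (LK LD1_c0 LD2_c19 LD3_c41) (LK LD1_c0 LD2_c8 LD3_c49) Lrfl Lrfl
theorem f64490 : Led Lsl_dt (LP (LK LD1_c0 LD2_c19 LD3_c41)) = (LP (LK LD1_c0 LD2_c44 LD3_c6)) :=
  Lre_d IH (LK LD1_c0 LD2_c19 LD3_c41) (LK LD1_c0 LD2_c44 LD3_c6) Lrfl Lrfl
theorem f433615 : Led Lsl_gt (LP (LK LD1_c0 LD2_c44 LD3_c6)) = (LP (LK LD1_c1 LD2_c33 LD3_c17)) :=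
  Lgr Lrot112 (Lpe (f64490 IH) (Lpr_et (f64489 IH) (Lpe (K1.f14710 IH) (Lpe (f62886 IH) (Lpr_dt (K4.f62887 IH) (Lpe (K5.f114008 IH) (Lpe (K4.f114329 IH) (Lpe (K6.f143290 IH) (Lpr_ef (f433613 IH) (Lpr_dt (K11.f154944 IH) (Lpn (LP (LK LD1_c1 LD2_c33 LD3_c17)))))))))))))
theorem f65443 : Led Lsl_dt (LP (LK LD1_c0 LD2_c44 LD3_c6)) = (LP (LK LD1_c0 LD2_c19 LD3_c41)) :=
  Lre_d IH (LK LD1_c0 LD2_c44 LD3_c6) (LK LD1_c0 LD2_c19 LD3_c41) Lrfl Lrfl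
theorem f453868 : Led Lsl_ef (LP (LK LD1_c0 LD2_c44 LD3_c6)) = v542 :=
  Lgr Lrot73 (Lpr_dt (f65443 IH) (Lpr_et (f64489 IH) (Lpr_dt (K1.f62813 IH) (Lpr_et (K35.f130772 IH) (Lpr_dt (f453866 IH) (Lpn v542))))))
theorem f453867 : Led Lsl_df (LP (LK LD1_c0 LD2_c44 LD3_c4)) = v542 :=
  Lgr Lrot38 (Lpr_dt (f453866 IH) (Lpn v542))
theorem f677248 : Led Lsl_et v3167 = v9706 :=
  Lgr Lrot122 (Lpe (f624108 IH) (Lpe (K35.f453864 IH) (Lpr_df (f453867 IH) (Lpe (f453868 IH) (Lpr_gt (f433615 IH) (Lpr_dt (K11.f154943 IH) (Lpr_gt (K11.f154939 IH) (Lpr_df (f453823 IH) (Lpr_et (f622623 IH) (Lpr_gt (f677246 IH) (Lpn v9706)))))))))))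
def v3044 : LQ := Led Lsl_gf K35.v460
theorem f622616 : Led Lsl_gf K35.v460 = v3044 :=
  Lrfl
theorem f651922 : Led Lsl_df K46.v3180 = v5233 :=
  Lgr Lrot38 (Lpr_dt (f651921 IH) (Lpn v5233))
theorem f624118 : Led Lsl_at (LP (LK LD1_c3 LD2_c18 LD3_c29)) = K35.v2111 :=
  Lgr Lrot100 (Lpr_af (K35.f624117 IH) (Lpn K35.v2111))
theorem f62170 : Led Lsl_gt (LP (LK LD1_c3 LD2_c15 LD3_c43)) = (LP (LK LD1_c3 LD2_c18 LD3_c40)) :=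
  Lre_g IH (LK LD1_c3 LD2_c15 LD3_c43) (LK LD1_c3 LD2_c18 LD3_c40) Lrfl Lrfl
theorem f624291 : Led Lsl_gt (LP (LK LD1_c3 LD2_c16 LD3_c27)) = (LP (LK LD1_c3 LD2_c15 LD3_c43)) :=
  Lgr Lrot5 (Lpr_ft (K32.f509006 IH) (Lpr_at (f624118 IH) (Lpqs (K46.f624157 IH) (Lpe (f62170 IH) (Lpn (LP (LK LD1_c3 LD2_c15 LD3_c43)))))))
theorem f65486 : Led Lsl_dt (LP (LK LD1_c3 LD2_c15 LD3_c43)) = (LP (LK LD1_c1 LD2_c34 LD3_c34)) :=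
  Lre_d IH (LK LD1_c3 LD2_c15 LD3_c43) (LK LD1_c1 LD2_c34 LD3_c34) Lrfl Lrfl
theorem f130797 : Led Lsl_dt (LP (LK LD1_c3 LD2_c1 LD3_c58)) = (LP (LK LD1_c3 LD2_c1 LD3_c58)) :=
  Lgr Lrot60 (Lpe (K35.f130788 IH) (Lpr_df (K5.f130786 IH) (Lpe (K24.f130796 IH) (Lpn (LP (LK LD1_c3 LD2_c1 LD3_c58))))))
def v543 : LQ := Led Lsl_ft (LP (LK LD1_c0 LD2_c44 LD3_c4))
theorem f453870 : Led Lsl_ft (LP (LK LD1_c0 LD2_c44 LD3_c4)) = v543 :=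
  Lrfl
theorem f453872 : Led Lsl_ff (LP (LK LD1_c0 LD2_c44 LD3_c4)) = v543 :=
  Lgr Lrot3 (Lpr_ft (f453870 IH) (Lpn v543))
theorem f453873 : Led Lsl_et (LP (LK LD1_c3 LD2_c1 LD3_c58)) = v543 :=
  Lgr Lrot69 (Lpe (K35.f130788 IH) (Lpe (K35.f130795 IH) (Lpe (K5.f115539 IH) (Lpe (K35.f62878 IH) (Lpr_ff (f453872 IH) (Lpn v543))))))
theorem f453000 : Led Lsl_at (LP (LK LD1_c0 LD2_c44 LD3_c4)) = K35.v460 :=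
  Lgr Lrot80 (Lpe (K35.f130772 IH) (Lpe (K5.f130757 IH) (Lpr_ef (K35.f452999 IH) (Lpn K35.v460))))
theorem f622617 : Led Lsl_gt v543 = v3044 :=
  Lgr Lrot5 (Lpe (f453872 IH) (Lpr_at (f453000 IH) (Lpr_gf (f622616 IH) (Lpn v3044))))
theorem f651923 : Led Lsl_ef v3044 = v5233 :=
  Lgr Lrot17 (Lpe (f622617 IH) (Lpe (f453873 IH) (Lpr_dt (f130797 IH) (Lpe (K24.f453814 IH) (Lpe (f65486 IH) (Lpe (f624291 IH) (Lpe (K24.f453914 IH) (Lpr_dt (K46.f453913 IH) (Lpr_gf (K46.f624546 IH) (Lpr_df (f651922 IH) (Lpn v5233)))))))))))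
def v6149 : LQ := Led Lsl_et (LP (LK LD1_c3 LD2_c18 LD3_c26))
theorem f651526 : Led Lsl_et (LP (LK LD1_c3 LD2_c18 LD3_c26)) = v6149 :=
  Lrfl
theorem f651527 : Led Lsl_ef (LP (LK LD1_c3 LD2_c18 LD3_c26)) = v6149 :=
  Lgr Lrot88 (Lpr_et (f651526 IH) (Lpn v6149))
theorem f677247 : Led Lsl_dt v6149 = v9706 :=
  Lgr Lrot56 (Lpe (f651527 IH) (Lpr_gt (K32.f508997 IH) (Lpr_ef (K32.f62104 IH) (Lpr_dt (K46.f62101 IH) (Lpq (K46.f624152 IH) (Lpr_gt (K46.f624547 IH) (Lpr_df (f651922 IH) (Lpe (f651923 IH) (Lpe (f622616 IH) (Lpr_dt (f622618 IH) (Lpr_gt (f677246 IH) (Lpn v9706))))))))))))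
theorem f453922 : Led Lsl_df (LP (LK LD1_c3 LD2_c16 LD3_c27)) = (LP (LK LD1_c3 LD2_c18 LD3_c29)) :=
  Lgr Lrot38 (Lpr_dt (K24.f453915 IH) (Lpn (LP (LK LD1_c3 LD2_c18 LD3_c29))))
theorem f624164 : Led Lsl_gf K46.v2110 = K46.v3147 :=
  Lgr Lrot76 (Lpe (K46.f509035 IH) (Lpr_ff (K35.f509044 IH) (Lpqs (K46.f624157 IH) (Lpr_gt (K46.f624035 IH) (Lpn K46.v3147)))))
theorem f453809 : Led Lsl_gt (LP (LK LD1_c3 LD2_c1 LD3_c58)) = K46.v531 :=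
  Lgr Lrot5 (Lpr_ft (K24.f130796 IH) (Lpe (K5.f130780 IH) (Lpr_gf (K46.f453808 IH) (Lpn K46.v531))))
theorem f96727 : Led Lsl_bt (LP (LK LD1_c0 LD2_c19 LD3_c40)) = (LP (LK LD1_c0 LD2_c43 LD3_c61)) :=
  Lre_b IH (LK LD1_c0 LD2_c19 LD3_c40) (LK LD1_c0 LD2_c43 LD3_c61) Lrfl Lrfl
theorem f115548 : Led Lsl_ff (LP (LK LD1_c0 LD2_c19 LD3_c40)) = (LP (LK LD1_c0 LD2_c40 LD3_c18)) :=
  Lgr Lrot25 (Lpr_bt (f96727 IH) (Lpr_ft (K4.f115543 IH) (Lpr_bt (K4.f12752 IH) (Lpn (LP (LK LD1_c0 LD2_c40 LD3_c18))))))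
theorem f453871 : Led Lsl_ef (LP (LK LD1_c3 LD2_c1 LD3_c58)) = v543 :=
  Lgr Lrot21 (Lpr_ft (K24.f130796 IH) (Lpr_et (K5.f130777 IH) (Lpe (f115548 IH) (Lpr_et (K35.f130772 IH) (Lpr_ft (f453870 IH) (Lpn v543))))))
def v3172 : LQ := Led Lsl_ft v542
theorem f624511 : Led Lsl_ft v542 = v3172 :=
  Lrfl
theorem f624513 : Led Lsl_ff v542 = v3172 :=
  Lgr Lrot3 (Lpr_ft (f624511 IH) (Lpn v3172))
theorem f624514 : Led Lsl_dt v543 = v3172 :=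
  Lgr Lrot60 (Lpe (f453870 IH) (Lpr_df (f453867 IH) (Lpr_ff (f624513 IH) (Lpn v3172))))
theorem f677251 : Led Lsl_gf v3172 = v9706 :=
  Lgr Lrot145 (Lpe (f624514 IH) (Lpe (f453871 IH) (Lpr_gt (f453809 IH) (Lpr_dt (K46.f624033 IH) (Lpe (f624164 IH) (Lpq (K46.f624122 IH) (Lpr_df (f453922 IH) (Lpr_et (K24.f453906 IH) (Lpr_gt (K32.f453865 IH) (Lpr_ef (f651527 IH) (Lpr_dt (f677247 IH) (Lpn v9706))))))))))))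
theorem f624512 : Led Lsl_df v543 = v3172 :=
  Lgr Lrot78 (Lpe (f453872 IH) (Lpr_dt (f453866 IH) (Lpr_ft (f624511 IH) (Lpn v3172))))
def v9705 : LQ := Led Lsl_dt v3044
theorem f677241 : Led Lsl_dt v3044 = v9705 :=
  Lrfl
theorem f677242 : Led Lsl_df v3044 = v9705 :=
  Lgr Lrot38 (Lpr_dt (f677241 IH) (Lpn v9705))
theorem f671737 : Led Lsl_dt v3169 = v8603 :=
  Lgr Lrot42 (Lpr_df (f671736 IH) (Lpn v8603))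
theorem f677243 : Led Lsl_ef v3169 = v9705 :=
  Lgr Lrot73 (Lpr_dt (f671737 IH) (Lpe (f671735 IH) (Lpr_dt (f651921 IH) (Lpe (f651923 IH) (Lpr_dt (f677241 IH) (Lpn v9705))))))
theorem f677266 : Led Lsl_gt v3169 = v9708 :=
  Lgr Lrot131 (Lpr_ef (f677243 IH) (Lpe (f677242 IH) (Lpe (f622617 IH) (Lpr_df (f624512 IH) (Lpr_gf (f677251 IH) (Lpe (f677248 IH) (Lpe (f624108 IH) (Lpr_gf (K35.f622631 IH) (Lpr_df (f677260 IH) (Lpr_et (f677264 IH) (Lpn v9708)))))))))))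
theorem f622619 : Led Lsl_af v542 = v3045 :=
  Lgr Lrot117 (Lpe (f453867 IH) (Lpr_at (f453000 IH) (Lpr_dt (f622618 IH) (Lpn v3045))))
def v3170 : LQ := Led Lsl_gf v542
theorem f624506 : Led Lsl_gf v542 = v3170 :=
  Lrfl
theorem f677265 : Led Lsl_gf v3170 = v9708 :=
  Lgr Lrot47 (Lpe (f624506 IH) (Lpr_af (f622619 IH) (Lpr_ff (f677261 IH) (Lpn v9708))))
theorem f678512 : Led Lsl_at v8551 = v3170 :=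
  Lgr Lrot26 (Lpr_ff (f678510 IH) (Lpr_gt (f677266 IH) (Lpe (f677265 IH) (Lpn v3170))))
theorem f508753 : Led Lsl_ef (LP (LK LD1_c1 LD2_c35 LD3_c14)) = v2086 :=
  Lgr Lrot88 (Lpr_et (f508752 IH) (Lpn v2086))
theorem f671558 : Led Lsl_af v2086 = v8542 :=
  Lgr Lrot50 (Lpe (f508753 IH) (Lpr_at (K46.f508743 IH) (Lpr_et (f671557 IH) (Lpn v8542))))
theorem f671499 : Led Lsl_df v3170 = v8516 :=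
  Lgr Lrot170 (Lpe (f624506 IH) (Lpe (f453866 IH) (Lpr_et (K35.f62878 IH) (Lpe (K1.f62814 IH) (Lpr_dt (K1.f12153 IH) (Lpr_gt (K4.f113990 IH) (Lpe (K39.f113976 IH) (Lpr_et (K4.f113978 IH) (Lpr_gt (f508691 IH) (Lpr_ef (f671498 IH) (Lpn v8516)))))))))))
theorem f671500 : Led Lsl_dt v3170 = v8516 :=
  Lgr Lrot42 (Lpr_df (f671499 IH) (Lpn v8516))
theorem f678514 : v8542 = v8516 :=
  (Llr Lrot117 (Lpe (f671558 IH) (Lpr_dt (f671577 IH) (Lpr_at (f678512 IH) (Lpr_dt (f671500 IH) (Lpn v8516)))))).symm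
theorem f678515 : K46.v2084 = v2073 :=
  Lefun (Lecon (Lfl_ef (f671559 IH)) (f678514 IH)) (Lfl_ef (f671498 IH))
theorem f678516 : v8539 = (LP (LK LD1_c1 LD2_c35 LD3_c17)) :=
  Lefun (Lecon (f671549 IH) (f678515 IH)) (Lfl_gf (f508692 IH))
theorem f678523 : v2087 = v2074 :=
  Lefun (Lecon (Lfl_gf (f671550 IH)) (f678516 IH)) (f508695 IH)
theorem f678526 : K46.v6088 = v8520 :=
  Lefun (Lecon (f650961 IH) (f678523 IH)) (f671509 IH)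
theorem f678528 : K46.v5997 = v6053 :=
  Lefun (Lecon (Lfl_ef (f671511 IH)) (f678526 IH).symm) (Lfl_ef (f650962 IH))
theorem f650448 : Led Lsl_dt K46.v5997 = (LP (LK LD1_c6 LD2_c11 LD3_c33)) :=
  Lgr Lrot42 (Lpr_df (K46.f650447 IH) (Lpn (LP (LK LD1_c6 LD2_c11 LD3_c33))))
theorem f678529 : Led Lsl_ff v3163 = (LP (LK LD1_c6 LD2_c11 LD3_c33)) :=
  Lgr Lrot19 (Lpe (f624094 IH) (Lpr_ft (f650757 IH) (Lpq (f678528 IH) (Lpr_dt (f650448 IH) (Lpn (LP (LK LD1_c6 LD2_c11 LD3_c33)))))))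
theorem f678498 : Led Lsl_ff (LP (LK LD1_c6 LD2_c37 LD3_c16)) = v10044 :=
  Lgr Lrot3 (Lpr_ft (f678496 IH) (Lpn v10044))
theorem f678530 : Led Lsl_at (LP (LK LD1_c6 LD2_c37 LD3_c16)) = (LP (LK LD1_c6 LD2_c11 LD3_c33)) :=
  Lgr Lrot66 (Lpr_ff (f678498 IH) (Lpe (f678493 IH) (Lpr_ff (f678529 IH) (Lpn (LP (LK LD1_c6 LD2_c11 LD3_c33))))))
theorem f678531 : Led Lsl_at (LP (LK LD1_c6 LD2_c37 LD3_c16)) = (LP (LK LD1_c6 LD2_c11 LD3_c33)) :=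
  Leop (Lpe (f678530 IH) (Lpn (LP (LK LD1_c6 LD2_c37 LD3_c16))))
theorem seed_573 : LEOK LG_a (LK LD1_c6 LD2_c37 LD3_c16) :=
  Leoe_a (LK LD1_c6 LD2_c37 LD3_c16) (f678531 IH)
def v5238 : LQ := Led Lsl_at (LP (LK LD1_c3 LD2_c2 LD3_c21))
theorem f646736 : Led Lsl_at (LP (LK LD1_c3 LD2_c2 LD3_c21)) = v5238 :=
  Lrfl
theorem f646738 : Led Lsl_ef K48.v1789 = v5238 :=
  Lgr Lrot20 (Lpe (K48.f502911 IH) (Lpr_et (K46.f443623 IH) (Lpr_at (f646736 IH) (Lpn v5238))))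
theorem f646739 : Led Lsl_et K48.v1789 = v5238 :=
  Lgr Lrot87 (Lpr_ef (f646738 IH) (Lpn v5238))
theorem f646478 : Led Lsl_et (LP (LK LD1_c3 LD2_c1 LD3_c46)) = (LP (LK LD1_c6 LD2_c10 LD3_c22)) :=
  Lre_e IH (LK LD1_c3 LD2_c1 LD3_c46) (LK LD1_c6 LD2_c10 LD3_c22) Lrfl Lrfl
theorem f663198 : v5238 = (LP (LK LD1_c6 LD2_c10 LD3_c22)) :=
  Lefun (Lecon (f646739 IH) (K48.f663187 IH)) (f646478 IH)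
theorem f678532 : Led Lsl_ft v3163 = (LP (LK LD1_c6 LD2_c11 LD3_c33)) :=
  Lgr Lrot48 (Lpr_ff (f678529 IH) (Lpn (LP (LK LD1_c6 LD2_c11 LD3_c33))))
theorem f502901 : Led Lsl_ft (LP (LK LD1_c6 LD2_c11 LD3_c35)) = (LP (LK LD1_c3 LD2_c2 LD3_c21)) :=
  Lre_f IH (LK LD1_c6 LD2_c11 LD3_c35) (LK LD1_c3 LD2_c2 LD3_c21) Lrfl Lrfl
theorem f663272 : Led Lsl_gt v3163 = v5238 :=
  Lgr Lrot46 (Lpr_gf (f663271 IH) (Lpr_ft (f502901 IH) (Lpr_at (f646736 IH) (Lpn v5238))))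
theorem f678533 : Led Lsl_af (LP (LK LD1_c6 LD2_c37 LD3_c16)) = (LP (LK LD1_c6 LD2_c11 LD3_c33)) :=
  Lgr Lrot45 (Lpr_ft (f678496 IH) (Lpe (f678491 IH) (Lpr_ft (f678532 IH) (Lpn (LP (LK LD1_c6 LD2_c11 LD3_c33))))))
theorem f678535 : Led Lsl_gt v5238 = (LP (LK LD1_c6 LD2_c37 LD3_c16)) :=
  Lgr Lrot46 (Lpe (f663272 IH) (Lpr_ft (f678532 IH) (Lpe (f678533 IH) (Lpn (LP (LK LD1_c6 LD2_c37 LD3_c16))))))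
theorem f678536 : Led Lsl_gt (LP (LK LD1_c6 LD2_c10 LD3_c22)) = (LP (LK LD1_c6 LD2_c37 LD3_c16)) :=
  Leop (Lpe (f678535 IH) (Lpqs (f663198 IH) (Lpn (LP (LK LD1_c6 LD2_c10 LD3_c22)))))
theorem seed_574 : LEOK LG_g (LK LD1_c6 LD2_c10 LD3_c22) :=
  Leoe_g (LK LD1_c6 LD2_c10 LD3_c22) (f678536 IH)
theorem f646730 : Led Lsl_ff (LP (LK LD1_c3 LD2_c2 LD3_c20)) = v5236 :=
  Lgr Lrot3 (Lpr_ft (f646727 IH) (Lpn v5236))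
theorem f646733 : Led Lsl_dt K32.v1787 = v5236 :=
  Lgr Lrot60 (Lpe (K32.f502897 IH) (Lpe (K24.f443614 IH) (Lpr_ff (f646730 IH) (Lpn v5236))))
theorem f103214 : Led Lsl_dt (LP (LK LD1_c3 LD2_c1 LD3_c45)) = (LP (LK LD1_c6 LD2_c10 LD3_c18)) :=
  Lre_d IH (LK LD1_c3 LD2_c1 LD3_c45) (LK LD1_c6 LD2_c10 LD3_c18) Lrfl Lrfl
theorem f663219 : v5236 = (LP (LK LD1_c6 LD2_c10 LD3_c18)) :=
  Lefun (Lecon (f646733 IH) (f663204 IH).symm) (f103214 IH)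
def v6090 : LQ := Led Lsl_gt (LP (LK LD1_c3 LD2_c17 LD3_c22))
theorem f650972 : Led Lsl_gt (LP (LK LD1_c3 LD2_c17 LD3_c22)) = v6090 :=
  Lrfl
theorem f678503 : K32.v2105 = v6090 :=
  Lefun (Lecon (Lfl_gf (f624545 IH)) (f678502 IH).symm) (f650972 IH)
theorem f508988 : Led Lsl_dt (LP (LK LD1_c3 LD2_c18 LD3_c27)) = (LP (LK LD1_c6 LD2_c40 LD3_c55)) :=
  Lre_d IH (LK LD1_c3 LD2_c18 LD3_c27) (LK LD1_c6 LD2_c40 LD3_c55) Lrfl Lrfl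
theorem f678537 : Led Lsl_gf K48.v5195 = (LP (LK LD1_c6 LD2_c40 LD3_c55)) :=
  Lgr Lrot134 (Lpe (K48.f646483 IH) (Lpr_et (f646478 IH) (Lpq (f663198 IH) (Lpr_gt (f678535 IH) (Lpr_ef (K46.f646715 IH) (Lpe (f646714 IH) (Lpr_gt (f650972 IH) (Lpq (f678503 IH) (Lpqs (K46.f624152 IH) (Lpe (K46.f62101 IH) (Lpe (K32.f62104 IH) (Lpr_gt (K32.f508986 IH) (Lpr_dt (f508988 IH) (Lpn (LP (LK LD1_c6 LD2_c40 LD3_c55))))))))))))))))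
theorem f678538 : Led Lsl_gt v5236 = (LP (LK LD1_c6 LD2_c40 LD3_c55)) :=
  Lgr Lrot5 (Lpe (f646730 IH) (Lpr_at (K48.f646721 IH) (Lpqs (K48.f663197 IH) (Lpr_gf (f678537 IH) (Lpn (LP (LK LD1_c6 LD2_c40 LD3_c55)))))))
theorem f678539 : Led Lsl_gt (LP (LK LD1_c6 LD2_c10 LD3_c18)) = (LP (LK LD1_c6 LD2_c40 LD3_c55)) :=
  Leop (Lpe (f678538 IH) (Lpqs (f663219 IH) (Lpn (LP (LK LD1_c6 LD2_c10 LD3_c18)))))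
theorem seed_575 : LEOK LG_g (LK LD1_c6 LD2_c10 LD3_c18) :=
  Leoe_g (LK LD1_c6 LD2_c10 LD3_c18) (f678539 IH)
theorem f113042 : Led Lsl_dt (LP (LK LD1_c3 LD2_c16 LD3_c21)) = (LP (LK LD1_c1 LD2_c34 LD3_c54)) :=
  Lre_d IH (LK LD1_c3 LD2_c16 LD3_c21) (LK LD1_c1 LD2_c34 LD3_c54) Lrfl Lrfl
theorem f416437 : Led Lsl_gt (LP (LK LD1_c3 LD2_c16 LD3_c22)) = (LP (LK LD1_c1 LD2_c35 LD3_c35)) :=
  Lre_g IH (LK LD1_c3 LD2_c16 LD3_c22) (LK LD1_c1 LD2_c35 LD3_c35) Lrfl Lrfl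
theorem f416438 : Led Lsl_ct (LP (LK LD1_c1 LD2_c34 LD3_c57)) = (LP (LK LD1_c3 LD2_c16 LD3_c22)) :=
  Lre_c IH (LK LD1_c1 LD2_c34 LD3_c57) (LK LD1_c3 LD2_c16 LD3_c22) Lrfl Lrfl
theorem f651309 : Led Lsl_dt (LP (LK LD1_c6 LD2_c40 LD3_c9)) = (LP (LK LD1_c12 LD2_c46 LD3_c12)) :=
  Lre_d IH (LK LD1_c6 LD2_c40 LD3_c9) (LK LD1_c12 LD2_c46 LD3_c12) Lrfl Lrfl
theorem f651312 : Led Lsl_cf (LP (LK LD1_c6 LD2_c40 LD3_c55)) = (LP (LK LD1_c12 LD2_c46 LD3_c12)) :=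
  Lgr Lrot14 (Lpe (f508988 IH) (Lpe (K32.f508986 IH) (Lpe (K32.f62098 IH) (Lpe (K5.f62083 IH) (Lpr_ct (f416438 IH) (Lpr_gt (f416437 IH) (Lpr_dt (K46.f508801 IH) (Lpr_gt (K46.f651307 IH) (Lpr_dt (f651309 IH) (Lpn (LP (LK LD1_c12 LD2_c46 LD3_c12))))))))))))
theorem f678540 : Led Lsl_gf (LP (LK LD1_c12 LD2_c2 LD3_c46)) = (LP (LK LD1_c12 LD2_c46 LD3_c12)) :=
  Lgr Lrot144 (Lpe (K48.f113034 IH) (Lpr_gt (K48.f113031 IH) (Lpr_dt (f113042 IH) (Lpe (f113044 IH) (Lpe (K46.f62166 IH) (Lpe (K9.f62168 IH) (Lpr_df (K48.f646484 IH) (Lpr_gf (f678537 IH) (Lpr_cf (f651312 IH) (Lpn (LP (LK LD1_c12 LD2_c46 LD3_c12))))))))))))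
theorem f678541 : Led Lsl_gt (LP (LK LD1_c12 LD2_c46 LD3_c12)) = (LP (LK LD1_c12 LD2_c2 LD3_c46)) :=
  Leop (Lpr_gf (f678540 IH) (Lpn (LP (LK LD1_c12 LD2_c46 LD3_c12))))
theorem seed_576 : LEOK LG_g (LK LD1_c12 LD2_c46 LD3_c12) :=
  Leoe_g (LK LD1_c12 LD2_c46 LD3_c12) (f678541 IH)
theorem f103592 : Led Lsl_dt (LP (LK LD1_c1 LD2_c34 LD3_c46)) = (LP (LK LD1_c3 LD2_c16 LD3_c1)) :=
  Lre_d IH (LK LD1_c1 LD2_c34 LD3_c46) (LK LD1_c3 LD2_c16 LD3_c1) Lrfl Lrfl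
theorem f678542 : Led Lsl_et (LP (LK LD1_c6 LD2_c11 LD3_c33)) = (LP (LK LD1_c6 LD2_c40 LD3_c55)) :=
  Lgr Lrot121 (Lpe (K46.f650447 IH) (Lpe (K46.f650441 IH) (Lpe (f103592 IH) (Lpr_et (K4.f103591 IH) (Lpe (K3.f93517 IH) (Lpe (K48.f110217 IH) (Lpr_dt (K46.f110218 IH) (Lpe (K9.f62168 IH) (Lpr_df (K48.f646484 IH) (Lpr_gf (f678537 IH) (Lpn (LP (LK LD1_c6 LD2_c40 LD3_c55)))))))))))))
theorem f678543 : Led Lsl_et (LP (LK LD1_c6 LD2_c11 LD3_c33)) = (LP (LK LD1_c6 LD2_c40 LD3_c55)) :=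
  Leop (Lpe (f678542 IH) (Lpn (LP (LK LD1_c6 LD2_c11 LD3_c33))))
theorem seed_577 : LEOK LG_e (LK LD1_c6 LD2_c11 LD3_c33) :=
  Leoe_e (LK LD1_c6 LD2_c11 LD3_c33) (f678543 IH)
theorem f650977 : Led Lsl_et v2087 = v6092 :=
  Lgr Lrot87 (Lpr_ef (f650976 IH) (Lpn v6092))
def v8521 : LQ := Led Lsl_et v2074
theorem f671513 : Led Lsl_et v2074 = v8521 :=
  Lrfl
theorem f678527 : v6092 = v8521 :=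
  Lefun (Lecon (f650977 IH) (f678523 IH)) (f671513 IH)
theorem f650445 : Led Lsl_ff (LP (LK LD1_c3 LD2_c16 LD3_c1)) = K46.v5998 :=
  Lgr Lrot3 (Lpr_ft (K46.f650442 IH) (Lpn K46.v5998))
theorem f118531 : Led Lsl_at (LP (LK LD1_c3 LD2_c16 LD3_c1)) = (LP (LK LD1_c1 LD2_c35 LD3_c6)) :=
  Lgr Lrot51 (Lpe (f103592 IH) (Lpr_af (K4.f118525 IH) (Lpe (f78961 IH) (Lpn (LP (LK LD1_c1 LD2_c35 LD3_c6))))))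
theorem f78964 : Led Lsl_ft (LP (LK LD1_c1 LD2_c35 LD3_c6)) = (LP (LK LD1_c3 LD2_c16 LD3_c61)) :=
  Lre_f IH (LK LD1_c1 LD2_c35 LD3_c6) (LK LD1_c3 LD2_c16 LD3_c61) Lrfl Lrfl
theorem f650460 : Led Lsl_at (LP (LK LD1_c3 LD2_c16 LD3_c61)) = K46.v5998 :=
  Lgr Lrot66 (Lpe (f78964 IH) (Lpe (f118531 IH) (Lpr_ff (f650445 IH) (Lpn K46.v5998))))
theorem f650463 : Led Lsl_gt (LP (LK LD1_c3 LD2_c16 LD3_c58)) = K46.v5998 :=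
  Lgr Lrot46 (Lpe (K46.f78966 IH) (Lpr_ft (f78964 IH) (Lpr_at (f650460 IH) (Lpn K46.v5998))))
theorem f650461 : Led Lsl_dt (LP (LK LD1_c3 LD2_c16 LD3_c2)) = K46.v5998 :=
  Lgr Lrot60 (Lpe (K4.f118523 IH) (Lpe (K4.f110203 IH) (Lpr_ff (f650445 IH) (Lpn K46.v5998))))
theorem f671514 : Led Lsl_ef v2074 = v8521 :=
  Lgr Lrot88 (Lpr_et (f671513 IH) (Lpn v8521))
theorem f678544 : v8521 = (LP (LK LD1_c3 LD2_c18 LD3_c27)) :=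
  (Llr Lrot17 (Lpe (f671514 IH) (Lpe (f508695 IH) (Lpr_ef (K4.f118612 IH) (Lpr_dt (f650461 IH) (Lpe (f650463 IH) (Lpe (K46.f155223 IH) (Lpe (f678535 IH) (Lpqs (f663198 IH) (Lpe (f646478 IH) (Lpr_dt (K48.f646483 IH) (Lpr_gf (f678537 IH) (Lpe (f508988 IH) (Lpn (LP (LK LD1_c3 LD2_c18 LD3_c27)))))))))))))))).symm
theorem f678546 : Led Lsl_at (LP (LK LD1_c3 LD2_c17 LD3_c22)) = (LP (LK LD1_c3 LD2_c18 LD3_c27)) :=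
  Leop (Lpq (f678544 IH) (Lpq (f678527 IH) (Lpe (f650974 IH) (Lpn (LP (LK LD1_c3 LD2_c17 LD3_c22))))))
theorem seed_578 : LEOK LG_a (LK LD1_c3 LD2_c17 LD3_c22) :=
  Leoe_a (LK LD1_c3 LD2_c17 LD3_c22) (f678546 IH)
def v3043 : LQ := Led Lsl_gt K35.v460
def v9701 : LQ := Led Lsl_et v3043
theorem f677229 : Led Lsl_et v3043 = v9701 :=
  Lrfl
theorem f677230 : Led Lsl_ef v3043 = v9701 :=
  Lgr Lrot88 (Lpr_et (f677229 IH) (Lpn v9701))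
theorem f622615 : Led Lsl_gt K35.v460 = v3043 :=
  Lrfl
theorem f622625 : Led Lsl_af v543 = K35.v3046 :=
  Lgr Lrot45 (Lpe (f453872 IH) (Lpr_at (f453000 IH) (Lpr_ft (K35.f622624 IH) (Lpn K35.v3046))))
theorem f622628 : Led Lsl_gt v3043 = v543 :=
  Lgr Lrot46 (Lpe (f622615 IH) (Lpr_ft (K35.f622624 IH) (Lpe (f622625 IH) (Lpn v543))))
theorem f118258 : Led Lsl_ft (LP (LK LD1_c0 LD2_c44 LD3_c16)) = (LP (LK LD1_c1 LD2_c35 LD3_c17)) :=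
  Lre_f IH (LK LD1_c0 LD2_c44 LD3_c16) (LK LD1_c1 LD2_c35 LD3_c17) Lrfl Lrfl
theorem f118260 : Led Lsl_gt (LP (LK LD1_c1 LD2_c35 LD3_c14)) = (LP (LK LD1_c3 LD2_c16 LD3_c8)) :=
  Lgr Lrot46 (Lpe (K46.f62023 IH) (Lpr_ft (f118258 IH) (Lpr_at (K4.f118243 IH) (Lpn (LP (LK LD1_c3 LD2_c16 LD3_c8))))))
theorem f118059 : Led Lsl_at (LP (LK LD1_c3 LD2_c16 LD3_c7)) = (LP (LK LD1_c1 LD2_c35 LD3_c16)) :=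
  Lgr Lrot107 (Lpe (K4.f118058 IH) (Lpr_af (K4.f118048 IH) (Lpe (K7.f61980 IH) (Lpn (LP (LK LD1_c1 LD2_c35 LD3_c16))))))
theorem f119485 : Led Lsl_ft (LP (LK LD1_c6 LD2_c35 LD3_c34)) = (LP (LK LD1_c3 LD2_c16 LD3_c7)) :=
  Lre_f IH (LK LD1_c6 LD2_c35 LD3_c34) (LK LD1_c3 LD2_c16 LD3_c7) Lrfl Lrfl
theorem f119501 : Led Lsl_gt (LP (LK LD1_c6 LD2_c35 LD3_c34)) = (LP (LK LD1_c3 LD2_c17 LD3_c24)) :=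
  Lgr Lrot5 (Lpr_ft (f119485 IH) (Lpr_at (f118059 IH) (Lpe (K46.f61991 IH) (Lpn (LP (LK LD1_c3 LD2_c17 LD3_c24))))))
theorem f119514 : Led Lsl_et (LP (LK LD1_c3 LD2_c15 LD3_c44)) = (LP (LK LD1_c1 LD2_c34 LD3_c34)) :=
  Lre_e IH (LK LD1_c3 LD2_c15 LD3_c44) (LK LD1_c1 LD2_c34 LD3_c34) Lrfl Lrfl
theorem f671579 : Led Lsl_gt v3172 = v8551 :=
  Lgr Lrot112 (Lpe (f624514 IH) (Lpe (f453871 IH) (Lpe (K24.f453814 IH) (Lpe (f119514 IH) (Lpr_dt (K46.f66063 IH) (Lpe (f119501 IH) (Lpe (K4.f118242 IH) (Lpe (f118260 IH) (Lpr_ef (f508753 IH) (Lpr_dt (f671577 IH) (Lpn v8551)))))))))))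
theorem f103593 : Led Lsl_gt (LP (LK LD1_c6 LD2_c35 LD3_c24)) = (LP (LK LD1_c3 LD2_c16 LD3_c1)) :=
  Lre_g IH (LK LD1_c6 LD2_c35 LD3_c24) (LK LD1_c3 LD2_c16 LD3_c1) Lrfl Lrfl
theorem f119147 : Led Lsl_gf (LP (LK LD1_c6 LD2_c35 LD3_c24)) = (LP (LK LD1_c3 LD2_c16 LD3_c61)) :=
  Lgr Lrot47 (Lpr_gt (f103593 IH) (Lpr_af (K46.f118429 IH) (Lpe (K46.f118428 IH) (Lpn (LP (LK LD1_c3 LD2_c16 LD3_c61))))))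
theorem f677231 : Led Lsl_df (LP (LK LD1_c6 LD2_c35 LD3_c24)) = v9701 :=
  Lgr Lrot168 (Lpr_gf (f119147 IH) (Lpe (K46.f118520 IH) (Lpr_et (K46.f118356 IH) (Lpe (f118260 IH) (Lpr_ef (f508753 IH) (Lpr_dt (f671577 IH) (Lpe (f671579 IH) (Lpe (f624514 IH) (Lpe (f622628 IH) (Lpr_ef (f677230 IH) (Lpn v9701)))))))))))
def v9702 : LQ := Led Lsl_ft v3043
theorem f677233 : Led Lsl_ft v3043 = v9702 :=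
  Lrfl
theorem f677235 : Led Lsl_ff v3043 = v9702 :=
  Lgr Lrot3 (Lpr_ft (f677233 IH) (Lpn v9702))
theorem f624084 : Led Lsl_ft K35.v541 = v3159 :=
  Lgr Lrot2 (Lpe (K35.f453864 IH) (Lpr_gt (f453863 IH) (Lpr_af (f624083 IH) (Lpn v3159))))
def v6150 : LQ := Led Lsl_ft (LP (LK LD1_c3 LD2_c18 LD3_c26))
theorem f651528 : Led Lsl_ft (LP (LK LD1_c3 LD2_c18 LD3_c26)) = v6150 :=
  Lrfl
theorem f651530 : Led Lsl_ff (LP (LK LD1_c3 LD2_c18 LD3_c26)) = v6150 :=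
  Lgr Lrot3 (Lpr_ft (f651528 IH) (Lpn v6150))
def v6147 : LQ := Led Lsl_at (LP (LK LD1_c3 LD2_c18 LD3_c26))
theorem f651520 : Led Lsl_at (LP (LK LD1_c3 LD2_c18 LD3_c26)) = v6147 :=
  Lrfl
theorem f651521 : Led Lsl_af (LP (LK LD1_c3 LD2_c18 LD3_c26)) = v6147 :=
  Lgr Lrot0 (Lpr_at (f651520 IH) (Lpn v6147))
theorem f651522 : Led Lsl_ft (LP (LK LD1_c3 LD2_c18 LD3_c27)) = v6147 :=
  Lgr Lrot2 (Lpr_gt (K32.f453908 IH) (Lpr_gt (K32.f453865 IH) (Lpr_af (f651521 IH) (Lpn v6147))))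
theorem f651523 : Led Lsl_ff (LP (LK LD1_c3 LD2_c18 LD3_c27)) = v6147 :=
  Lgr Lrot3 (Lpr_ft (f651522 IH) (Lpn v6147))
theorem f651531 : Led Lsl_at (LP (LK LD1_c3 LD2_c18 LD3_c27)) = v6150 :=
  Lgr Lrot66 (Lpr_ff (f651523 IH) (Lpe (f651520 IH) (Lpr_ff (f651530 IH) (Lpn v6150))))
theorem f678545 : (LP (LK LD1_c3 LD2_c17 LD3_c22)) = v6150 :=
  Lefun (Lecon (Lfl_af (f650975 IH)) ((f678527 IH).trans (f678544 IH))) (f651531 IH)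
theorem f678556 : Led Lsl_ff v8516 = v6149 :=
  Lgr Lrot72 (Lpe (f671498 IH) (Lpq (f678515 IH) (Lpe (K46.f508748 IH) (Lpr_et (K46.f155222 IH) (Lpqs (f678545 IH) (Lpe (f651530 IH) (Lpr_et (f651526 IH) (Lpn v6149))))))))
theorem f678559 : Led Lsl_ft v8516 = v6149 :=
  Lgr Lrot48 (Lpr_ff (f678556 IH) (Lpn v6149))
theorem f678562 : Led Lsl_ff v3170 = v9706 :=
  Lgr Lrot19 (Lpr_dt (f671500 IH) (Lpr_ft (f678559 IH) (Lpr_dt (f677247 IH) (Lpn v9706))))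
theorem f678513 : Led Lsl_af v8551 = v3170 :=
  Lgr Lrot0 (Lpr_at (f678512 IH) (Lpn v3170))
theorem f678511 : Led Lsl_ft v8551 = v3169 :=
  Lgr Lrot48 (Lpr_ff (f678510 IH) (Lpn v3169))
theorem f678564 : Led Lsl_at v3169 = v9706 :=
  Lgr Lrot66 (Lpe (f678511 IH) (Lpr_af (f678513 IH) (Lpr_ff (f678562 IH) (Lpn v9706))))
theorem f677250 : Led Lsl_ef v3167 = v9706 :=
  Lgr Lrot88 (Lpr_et (f677248 IH) (Lpn v9706))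
theorem f678566 : Led Lsl_af v9705 = v3167 :=
  Lgr Lrot50 (Lpe (f677243 IH) (Lpr_at (f678564 IH) (Lpe (f677250 IH) (Lpn v3167))))
def v9698 : LQ := Led Lsl_at v3043
theorem f677220 : Led Lsl_at v3043 = v9698 :=
  Lrfl
theorem f677221 : Led Lsl_af v3043 = v9698 :=
  Lgr Lrot0 (Lpr_at (f677220 IH) (Lpn v9698))
theorem f677222 : Led Lsl_ft v3044 = v9698 :=
  Lgr Lrot2 (Lpe (f622616 IH) (Lpr_gt (f622615 IH) (Lpr_af (f677221 IH) (Lpn v9698))))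
theorem f677223 : Led Lsl_ff v3044 = v9698 :=
  Lgr Lrot3 (Lpr_ft (f677222 IH) (Lpn v9698))
theorem f677236 : Led Lsl_at v3044 = v9702 :=
  Lgr Lrot66 (Lpr_ff (f677223 IH) (Lpe (f677220 IH) (Lpr_ff (f677235 IH) (Lpn v9702))))
theorem f678569 : v9702 = K35.v541 :=
  (Llr Lrot51 (Lpe (f677236 IH) (Lpr_df (f677242 IH) (Lpr_af (f678566 IH) (Lpe (f624107 IH) (Lpn K35.v541)))))).symm
theorem f678572 : v3043 = v3159 :=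
  Lefun (Lecon (Lfl_ff (f677235 IH)) (f678569 IH)) (f624084 IH)
theorem f678579 : v10044 = v9701 :=
  Lefun (Lecon (f678490 IH) (f678572 IH).symm) (f677229 IH)
theorem f678580 : v6055 = (LP (LK LD1_c6 LD2_c35 LD3_c24)) :=
  Lefun (Lecon (Lfl_df (f678494 IH)) (f678579 IH)) (Lfl_df (f677231 IH))
theorem f678581 : Led Lsl_at (LP (LK LD1_c6 LD2_c35 LD3_c24)) = (LP (LK LD1_c3 LD2_c16 LD3_c59)) :=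
  Leop (Lpr_af (f650762 IH) (Lpqs (f678580 IH) (Lpn (LP (LK LD1_c6 LD2_c35 LD3_c24)))))
theorem seed_579 : LEOK LG_a (LK LD1_c6 LD2_c35 LD3_c24) :=
  Leoe_a (LK LD1_c6 LD2_c35 LD3_c24) (f678581 IH)
theorem f678583 : Led Lsl_ft (LP (LK LD1_c6 LD2_c35 LD3_c24)) = (LP (LK LD1_c3 LD2_c16 LD3_c58)) :=
  Leop (Lpr_ff (f650763 IH) (Lpqs (f678580 IH) (Lpn (LP (LK LD1_c6 LD2_c35 LD3_c24)))))
theorem seed_580 : LEOK LG_f (LK LD1_c6 LD2_c35 LD3_c24) :=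
  Leoe_f (LK LD1_c6 LD2_c35 LD3_c24) (f678583 IH)
def v6120 : LQ := Led Lsl_gt (LP (LK LD1_c3 LD2_c18 LD3_c9))
theorem f651351 : Led Lsl_gt (LP (LK LD1_c3 LD2_c18 LD3_c9)) = v6120 :=
  Lrfl
theorem f508999 : Led Lsl_ct (LP (LK LD1_c6 LD2_c40 LD3_c53)) = (LP (LK LD1_c3 LD2_c18 LD3_c26)) :=
  Lre_c IH (LK LD1_c6 LD2_c40 LD3_c53) (LK LD1_c3 LD2_c18 LD3_c26) Lrfl Lrfl
theorem f678508 : Led Lsl_ft v6092 = K46.v3180 :=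
  Lgr Lrot48 (Lpr_ff (f678507 IH) (Lpn K46.v3180))
theorem f678549 : K46.v3180 = v6147 :=
  Lefun (Lecon (f678508 IH) ((f678527 IH).trans (f678544 IH))) (f651522 IH)
theorem f678617 : Led Lsl_af (LP (LK LD1_c6 LD2_c40 LD3_c53)) = K46.v6121 :=
  Lgr Lrot68 (Lpr_ct (f508999 IH) (Lpr_at (f651520 IH) (Lpq (f678549 IH) (Lpr_ct (K46.f651362 IH) (Lpn K46.v6121)))))
theorem f654200 : Led Lsl_ft (LP (LK LD1_c6 LD2_c40 LD3_c7)) = K46.v6116 :=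
  Lgr Lrot48 (Lpr_ff (K46.f654197 IH) (Lpn K46.v6116))
theorem f651284 : Led Lsl_cf (LP (LK LD1_c3 LD2_c18 LD3_c9)) = K46.v6116 :=
  Lgr Lrot39 (Lpr_et (K46.f65678 IH) (Lpr_ct (K46.f508797 IH) (Lpr_et (K46.f651283 IH) (Lpn K46.v6116))))
theorem f508813 : Led Lsl_ft (LP (LK LD1_c3 LD2_c18 LD3_c9)) = (LP (LK LD1_c6 LD2_c40 LD3_c12)) :=
  Lre_f IH (LK LD1_c3 LD2_c18 LD3_c9) (LK LD1_c6 LD2_c40 LD3_c12) Lrfl Lrfl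
theorem f654201 : Led Lsl_cf (LP (LK LD1_c6 LD2_c40 LD3_c7)) = (LP (LK LD1_c6 LD2_c40 LD3_c12)) :=
  Lgr Lrot108 (Lpr_ft (f654200 IH) (Lpe (f651284 IH) (Lpr_ft (f508813 IH) (Lpn (LP (LK LD1_c6 LD2_c40 LD3_c12))))))
theorem f508990 : Led Lsl_ct (LP (LK LD1_c3 LD2_c18 LD3_c27)) = (LP (LK LD1_c6 LD2_c40 LD3_c54)) :=
  Lre_c IH (LK LD1_c3 LD2_c18 LD3_c27) (LK LD1_c6 LD2_c40 LD3_c54) Lrfl Lrfl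
theorem f654204 : Led Lsl_gt (LP (LK LD1_c6 LD2_c40 LD3_c54)) = (LP (LK LD1_c6 LD2_c40 LD3_c12)) :=
  Lgr Lrot150 (Lpe (f508990 IH) (Lpe (K32.f508986 IH) (Lpe (K32.f62098 IH) (Lpr_gt (K32.f62106 IH) (Lpr_ct (K32.f140078 IH) (Lpr_gt (K46.f65677 IH) (Lpr_ct (K46.f508797 IH) (Lpe (K46.f508800 IH) (Lpr_cf (f654201 IH) (Lpn (LP (LK LD1_c6 LD2_c40 LD3_c12))))))))))))
theorem f678619 : Led Lsl_ft (LP (LK LD1_c6 LD2_c40 LD3_c54)) = K46.v6121 :=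
  Lgr Lrot2 (Lpr_gt (f654204 IH) (Lpr_gt (K46.f654175 IH) (Lpr_af (f678617 IH) (Lpn K46.v6121))))
theorem f678622 : Led Lsl_ff (LP (LK LD1_c6 LD2_c40 LD3_c54)) = K46.v6121 :=
  Lgr Lrot3 (Lpr_ft (f678619 IH) (Lpn K46.v6121))
theorem f678618 : Led Lsl_at (LP (LK LD1_c6 LD2_c40 LD3_c53)) = K46.v6121 :=
  Lgr Lrot100 (Lpr_af (f678617 IH) (Lpn K46.v6121))
theorem f646717 : Led Lsl_ct (LP (LK LD1_c6 LD2_c38 LD3_c3)) = (LP (LK LD1_c3 LD2_c17 LD3_c22)) :=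
  Lre_c IH (LK LD1_c6 LD2_c38 LD3_c3) (LK LD1_c3 LD2_c17 LD3_c22) Lrfl Lrfl
theorem f678554 : Led Lsl_ff (LP (LK LD1_c6 LD2_c38 LD3_c3)) = (LP (LK LD1_c6 LD2_c40 LD3_c53)) :=
  Lgr Lrot23 (Lpr_ct (f646717 IH) (Lpqs (f678545 IH) (Lpe (f651530 IH) (Lpr_ct (K46.f508841 IH) (Lpn (LP (LK LD1_c6 LD2_c40 LD3_c53)))))))
theorem f678610 : Led Lsl_ft (LP (LK LD1_c6 LD2_c38 LD3_c3)) = (LP (LK LD1_c6 LD2_c40 LD3_c53)) :=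
  Lgr Lrot48 (Lpr_ff (f678554 IH) (Lpn (LP (LK LD1_c6 LD2_c40 LD3_c53))))
theorem f678623 : Led Lsl_at (LP (LK LD1_c6 LD2_c40 LD3_c54)) = (LP (LK LD1_c6 LD2_c38 LD3_c3)) :=
  Lgr Lrot66 (Lpr_ff (f678622 IH) (Lpe (f678618 IH) (Lpe (f678610 IH) (Lpn (LP (LK LD1_c6 LD2_c38 LD3_c3))))))
theorem f678625 : (LP (LK LD1_c6 LD2_c38 LD3_c3)) = v6120 :=
  (Llr Lrot26 (Lpe (f678623 IH) (Lpr_ff (f678622 IH) (Lpe (K46.f651352 IH) (Lpr_gt (f651351 IH) (Lpn v6120)))))).symm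
theorem f678626 : Led Lsl_gt (LP (LK LD1_c3 LD2_c18 LD3_c9)) = (LP (LK LD1_c6 LD2_c38 LD3_c3)) :=
  Leop (Lpqs (f678625 IH) (Lpe (f651351 IH) (Lpn (LP (LK LD1_c3 LD2_c18 LD3_c9)))))
theorem seed_581 : LEOK LG_g (LK LD1_c3 LD2_c18 LD3_c9) :=
  Leoe_g (LK LD1_c3 LD2_c18 LD3_c9) (f678626 IH)
theorem f130876 : Led Lsl_dt (LP (LK LD1_c6 LD2_c11 LD3_c30)) = (LP (LK LD1_c3 LD2_c2 LD3_c19)) :=
  Lre_d IH (LK LD1_c6 LD2_c11 LD3_c30) (LK LD1_c3 LD2_c2 LD3_c19) Lrfl Lrfl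
theorem f118339 : Led Lsl_bt (LP (LK LD1_c6 LD2_c36 LD3_c51)) = (LP (LK LD1_c3 LD2_c16 LD3_c52)) :=
  Lre_b IH (LK LD1_c6 LD2_c36 LD3_c51) (LK LD1_c3 LD2_c16 LD3_c52) Lrfl Lrfl
theorem f118269 : Led Lsl_bt (LP (LK LD1_c6 LD2_c35 LD3_c31)) = (LP (LK LD1_c12 LD2_c36 LD3_c57)) :=
  Lre_b IH (LK LD1_c6 LD2_c35 LD3_c31) (LK LD1_c12 LD2_c36 LD3_c57) Lrfl Lrfl
theorem f118340 : Led Lsl_et (LP (LK LD1_c3 LD2_c16 LD3_c52)) = (LP (LK LD1_c6 LD2_c35 LD3_c31)) :=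
  Lgr Lrot74 (Lpe (f118339 IH) (Lpr_ef (K4.f118318 IH) (Lpe (f118269 IH) (Lpn (LP (LK LD1_c6 LD2_c35 LD3_c31))))))
theorem f118012 : Led Lsl_at (LP (LK LD1_c3 LD2_c16 LD3_c6)) = (LP (LK LD1_c1 LD2_c35 LD3_c13)) :=
  Lgr Lrot51 (Lpe (K4.f96751 IH) (Lpr_af (K4.f117979 IH) (Lpe (K4.f66015 IH) (Lpn (LP (LK LD1_c1 LD2_c35 LD3_c13))))))
theorem f119211 : Led Lsl_ft (LP (LK LD1_c6 LD2_c35 LD3_c31)) = (LP (LK LD1_c3 LD2_c16 LD3_c6)) :=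
  Lre_f IH (LK LD1_c6 LD2_c35 LD3_c31) (LK LD1_c3 LD2_c16 LD3_c6) Lrfl Lrfl
theorem f103818 : Led Lsl_gt (LP (LK LD1_c3 LD2_c17 LD3_c15)) = (LP (LK LD1_c1 LD2_c35 LD3_c13)) :=
  Lre_g IH (LK LD1_c3 LD2_c17 LD3_c15) (LK LD1_c1 LD2_c35 LD3_c13) Lrfl Lrfl
theorem f119529 : Led Lsl_gt (LP (LK LD1_c6 LD2_c35 LD3_c31)) = (LP (LK LD1_c3 LD2_c17 LD3_c15)) :=
  Lgr Lrot5 (Lpr_ft (f119211 IH) (Lpr_at (f118012 IH) (Lpe (f103818 IH) (Lpn (LP (LK LD1_c3 LD2_c17 LD3_c15))))))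
theorem f103819 : Led Lsl_et (LP (LK LD1_c6 LD2_c37 LD3_c54)) = (LP (LK LD1_c3 LD2_c17 LD3_c15)) :=
  Lre_e IH (LK LD1_c6 LD2_c37 LD3_c54) (LK LD1_c3 LD2_c17 LD3_c15) Lrfl Lrfl
theorem f96196 : Led Lsl_et (LP (LK LD1_c0 LD2_c44 LD3_c15)) = (LP (LK LD1_c1 LD2_c35 LD3_c13)) :=
  Lre_e IH (LK LD1_c0 LD2_c44 LD3_c15) (LK LD1_c1 LD2_c35 LD3_c13) Lrfl Lrfl
theorem f502907 : Led Lsl_dt (LP (LK LD1_c3 LD2_c2 LD3_c16)) = (LP (LK LD1_c6 LD2_c11 LD3_c20)) :=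
  Lre_d IH (LK LD1_c3 LD2_c2 LD3_c16) (LK LD1_c6 LD2_c11 LD3_c20) Lrfl Lrfl
theorem f646609 : Led Lsl_gt (LP (LK LD1_c6 LD2_c11 LD3_c20)) = (LP (LK LD1_c12 LD2_c2 LD3_c54)) :=
  Lre_g IH (LK LD1_c6 LD2_c11 LD3_c20) (LK LD1_c12 LD2_c2 LD3_c54) Lrfl Lrfl
theorem f646644 : Led Lsl_dt (LP (LK LD1_c6 LD2_c37 LD3_c54)) = (LP (LK LD1_c12 LD2_c2 LD3_c54)) :=
  Lgr Lrot56 (Lpr_et (f103819 IH) (Lpr_gt (f103818 IH) (Lpe (f96196 IH) (Lpr_dt (K3.f66093 IH) (Lpr_gt (K3.f103614 IH) (Lpr_df (K3.f96089 IH) (Lpr_et (K5.f96115 IH) (Lpqs (K46.f646618 IH) (Lpe (K46.f646608 IH) (Lpr_dt (f502907 IH) (Lpr_gt (f646609 IH) (Lpn (LP (LK LD1_c12 LD2_c2 LD3_c54))))))))))))))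
theorem f646677 : Led Lsl_et (LP (LK LD1_c3 LD2_c2 LD3_c19)) = (LP (LK LD1_c6 LD2_c11 LD3_c31)) :=
  Lre_e IH (LK LD1_c3 LD2_c2 LD3_c19) (LK LD1_c6 LD2_c11 LD3_c31) Lrfl Lrfl
theorem f130878 : Led Lsl_dt (LP (LK LD1_c3 LD2_c2 LD3_c19)) = (LP (LK LD1_c6 LD2_c11 LD3_c30)) :=
  Lre_d IH (LK LD1_c3 LD2_c2 LD3_c19) (LK LD1_c6 LD2_c11 LD3_c30) Lrfl Lrfl
theorem f650454 : Led Lsl_gt (LP (LK LD1_c12 LD2_c2 LD3_c54)) = (LP (LK LD1_c6 LD2_c11 LD3_c30)) :=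
  Lgr Lrot112 (Lpe (f646644 IH) (Lpr_et (f103819 IH) (Lpe (f119529 IH) (Lpe (f118340 IH) (Lpr_dt (K4.f118358 IH) (Lpe (K46.f119117 IH) (Lpr_df (K46.f650449 IH) (Lpe (K46.f130854 IH) (Lpe (f646677 IH) (Lpr_dt (f130878 IH) (Lpn (LP (LK LD1_c6 LD2_c11 LD3_c30)))))))))))))
def v2103 : LQ := Led Lsl_et (LP (LK LD1_c1 LD2_c35 LD3_c40))
theorem f508878 : Led Lsl_et (LP (LK LD1_c1 LD2_c35 LD3_c40)) = v2103 :=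
  Lrfl
theorem f508879 : Led Lsl_cf K24.v547 = v2103 :=
  Lgr Lrot39 (Lpe (K24.f453907 IH) (Lpr_ct (K32.f414627 IH) (Lpr_et (f508878 IH) (Lpn v2103))))
def v8582 : LQ := Led Lsl_gt v2103
theorem f671673 : Led Lsl_gt v2103 = v8582 :=
  Lrfl
theorem f678632 : (LP (LK LD1_c6 LD2_c37 LD3_c54)) = v8582 :=
  (Llr Lrot153 (Lpr_dt (f646644 IH) (Lpr_gt (f650454 IH) (Lpr_dt (f130876 IH) (Lpe (K5.f66036 IH) (Lpe (K24.f443614 IH) (Lpr_gf (K46.f646711 IH) (Lpe (K46.f646716 IH) (Lpr_gf (f650973 IH) (Lpqs (f678501 IH) (Lpr_cf (f508879 IH) (Lpr_gt (f671673 IH) (Lpn v8582))))))))))))).symm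
theorem f62119 : Led Lsl_ct (LP (LK LD1_c1 LD2_c35 LD3_c44)) = (LP (LK LD1_c3 LD2_c18 LD3_c38)) :=
  Lre_c IH (LK LD1_c1 LD2_c35 LD3_c44) (LK LD1_c3 LD2_c18 LD3_c38) Lrfl Lrfl
theorem f62120 : Led Lsl_ct (LP (LK LD1_c3 LD2_c16 LD3_c24)) = (LP (LK LD1_c1 LD2_c34 LD3_c55)) :=
  Lre_c IH (LK LD1_c3 LD2_c16 LD3_c24) (LK LD1_c1 LD2_c34 LD3_c55) Lrfl Lrfl
theorem f62121 : Led Lsl_et (LP (LK LD1_c3 LD2_c18 LD3_c38)) = (LP (LK LD1_c3 LD2_c16 LD3_c24)) :=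
  Lgr Lrot158 (Lpe (f62119 IH) (Lpr_ef (K32.f62104 IH) (Lpe (f62120 IH) (Lpn (LP (LK LD1_c3 LD2_c16 LD3_c24))))))
theorem f624368 : Led Lsl_af (LP (LK LD1_c3 LD2_c18 LD3_c38)) = v2103 :=
  Lgr Lrot50 (Lpr_et (f62121 IH) (Lpq (K46.f624147 IH) (Lpe (K32.f508863 IH) (Lpr_et (f508878 IH) (Lpn v2103)))))
theorem f508874 : Led Lsl_et (LP (LK LD1_c1 LD2_c35 LD3_c43)) = (LP (LK LD1_c3 LD2_c18 LD3_c37)) :=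
  Lre_e IH (LK LD1_c1 LD2_c35 LD3_c43) (LK LD1_c3 LD2_c18 LD3_c37) Lrfl Lrfl
theorem f624174 : Led Lsl_ft (LP (LK LD1_c6 LD2_c36 LD3_c12)) = (LP (LK LD1_c3 LD2_c18 LD3_c38)) :=
  Lgr Lrot86 (Lpr_ef (K46.f624165 IH) (Lpe (K35.f508875 IH) (Lpe (f508874 IH) (Lpr_ff (K46.f508869 IH) (Lpqs (K46.f624147 IH) (Lpe (f62121 IH) (Lpn (LP (LK LD1_c3 LD2_c18 LD3_c38)))))))))
theorem f624179 : Led Lsl_ff (LP (LK LD1_c6 LD2_c36 LD3_c12)) = (LP (LK LD1_c3 LD2_c18 LD3_c38)) :=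
  Lgr Lrot3 (Lpr_ft (f624174 IH) (Lpn (LP (LK LD1_c3 LD2_c18 LD3_c38))))
theorem f624370 : Led Lsl_ft (LP (LK LD1_c3 LD2_c18 LD3_c28)) = v2103 :=
  Lgr Lrot101 (Lpe (K46.f624167 IH) (Lpr_ff (f624179 IH) (Lpr_af (f624368 IH) (Lpn v2103))))
theorem f624371 : Led Lsl_ff (LP (LK LD1_c3 LD2_c18 LD3_c28)) = v2103 :=
  Lgr Lrot3 (Lpr_ft (f624370 IH) (Lpn v2103))
theorem f671674 : Led Lsl_gf (LP (LK LD1_c6 LD2_c36 LD3_c12)) = v8582 :=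
  Lgr Lrot76 (Lpr_af (K46.f624276 IH) (Lpr_ff (f624371 IH) (Lpr_gt (f671673 IH) (Lpn v8582))))
theorem f678633 : Led Lsl_gt (LP (LK LD1_c6 LD2_c37 LD3_c54)) = (LP (LK LD1_c6 LD2_c36 LD3_c12)) :=
  Leop (Lpr_gf (f671674 IH) (Lpq (f678632 IH) (Lpn (LP (LK LD1_c6 LD2_c37 LD3_c54)))))
theorem seed_582 : LEOK LG_g (LK LD1_c6 LD2_c37 LD3_c54) :=
  Leoe_g (LK LD1_c6 LD2_c37 LD3_c54) (f678633 IH)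
def v8750 : LQ := Led Lsl_bt K46.v2190
theorem f672194 : Led Lsl_bt K46.v2190 = v8750 :=
  Lrfl
theorem f672195 : Led Lsl_bf K46.v2190 = v8750 :=
  Lgr Lrot24 (Lpr_bt (f672194 IH) (Lpn v8750))
def v4493 : LQ := Led Lsl_bt (LP (LK LD1_c2 LD2_c22 LD3_c36))
theorem f634229 : Led Lsl_bt (LP (LK LD1_c2 LD2_c22 LD3_c36)) = v4493 :=
  Lrfl
theorem f634230 : Led Lsl_bf (LP (LK LD1_c2 LD2_c22 LD3_c36)) = v4493 :=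
  Lgr Lrot24 (Lpr_bt (f634229 IH) (Lpn v4493))
def v3199 : LQ := Led Lsl_bt K46.v566
def v10137 : LQ := Led Lsl_ct v3199
theorem f678928 : Led Lsl_ct v3199 = v10137 :=
  Lrfl
def v2096 : LQ := Led Lsl_gf (LP (LK LD1_c1 LD2_c35 LD3_c39))
def v8572 : LQ := Led Lsl_bt v2096
theorem f671637 : Led Lsl_bt v2096 = v8572 :=
  Lrfl
def v8571 : LQ := Led Lsl_ft v2095
theorem f671631 : Led Lsl_ft v2095 = v8571 :=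
  Lrfl
def v8567 : LQ := Led Lsl_at v2095
theorem f671616 : Led Lsl_at v2095 = v8567 :=
  Lrfl
theorem f671617 : Led Lsl_af v2095 = v8567 :=
  Lgr Lrot0 (Lpr_at (f671616 IH) (Lpn v8567))
theorem f508833 : Led Lsl_gf (LP (LK LD1_c1 LD2_c35 LD3_c39)) = v2096 :=
  Lrfl
theorem f671618 : Led Lsl_ft v2096 = v8567 :=
  Lgr Lrot2 (Lpe (f508833 IH) (Lpr_gt (f508828 IH) (Lpr_af (f671617 IH) (Lpn v8567))))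
theorem f671632 : Led Lsl_af v2096 = v8571 :=
  Lgr Lrot45 (Lpr_ft (f671618 IH) (Lpe (f671617 IH) (Lpr_ft (f671631 IH) (Lpn v8571))))
theorem f671634 : Led Lsl_ff v2095 = v8571 :=
  Lgr Lrot3 (Lpr_ft (f671631 IH) (Lpn v8571))
def v2194 : LQ := Led Lsl_ft (LP (LK LD1_c1 LD2_c37 LD3_c4))
theorem f509552 : Led Lsl_ft (LP (LK LD1_c1 LD2_c37 LD3_c4)) = v2194 :=
  Lrfl
theorem f671636 : Led Lsl_bt v2194 = v8571 :=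
  Lgr Lrot35 (Lpe (f509552 IH) (Lpr_bf (f509546 IH) (Lpqs (f653976 IH) (Lpr_ff (f671634 IH) (Lpn v8571)))))
theorem f509554 : Led Lsl_ff (LP (LK LD1_c1 LD2_c37 LD3_c4)) = v2194 :=
  Lgr Lrot3 (Lpr_ft (f509552 IH) (Lpn v2194))
theorem f509555 : Led Lsl_at K46.v566 = v2194 :=
  Lgr Lrot66 (Lpr_ff (K46.f509544 IH) (Lpe (K46.f509541 IH) (Lpr_ff (f509554 IH) (Lpn v2194))))
theorem f624596 : Led Lsl_bt K46.v566 = v3199 :=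
  Lrfl
theorem f624597 : Led Lsl_bf K46.v566 = v3199 :=
  Lgr Lrot24 (Lpr_bt (f624596 IH) (Lpn v3199))
theorem f671638 : Led Lsl_af v3199 = v8572 :=
  Lgr Lrot36 (Lpe (f624597 IH) (Lpr_at (f509555 IH) (Lpr_bt (f671636 IH) (Lpe (f671632 IH) (Lpr_bt (f671637 IH) (Lpn v8572))))))
theorem f671639 : Led Lsl_bf v2096 = v8572 :=
  Lgr Lrot24 (Lpr_bt (f671637 IH) (Lpn v8572))
def v6140 : LQ := Led Lsl_gt (LP (LK LD1_c3 LD2_c18 LD3_c22))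
theorem f651484 : Led Lsl_gt (LP (LK LD1_c3 LD2_c18 LD3_c22)) = v6140 :=
  Lrfl
theorem f651485 : Led Lsl_ct (LP (LK LD1_c3 LD2_c22 LD3_c44)) = v6140 :=
  Lgr Lrot10 (Lpr_bt (K16.f73745 IH) (Lpr_gt (K9.f13573 IH) (Lpr_ct (K17.f414502 IH) (Lpr_gt (K17.f185972 IH) (Lpe (K17.f22956 IH) (Lpr_bt (K34.f140067 IH) (Lpr_gt (K5.f62968 IH) (Lpe (K46.f414625 IH) (Lpr_ct (K46.f414626 IH) (Lpr_gt (f651484 IH) (Lpn v6140)))))))))))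
theorem f414461 : Led Lsl_ct (LP (LK LD1_c1 LD2_c38 LD3_c25)) = (LP (LK LD1_c3 LD2_c24 LD3_c13)) :=
  Lre_c IH (LK LD1_c1 LD2_c38 LD3_c25) (LK LD1_c3 LD2_c24 LD3_c13) Lrfl Lrfl
def v6612 : LQ := Led Lsl_gt (LP (LK LD1_c3 LD2_c24 LD3_c13))
theorem f654421 : Led Lsl_gt (LP (LK LD1_c3 LD2_c24 LD3_c13)) = v6612 :=
  Lrfl
theorem f671641 : Led Lsl_cf v6612 = v8572 :=
  Lgr Lrot58 (Lpe (f654421 IH) (Lpe (f414461 IH) (Lpr_bt (K34.f79724 IH) (Lpe (K9.f13573 IH) (Lpe (K16.f73745 IH) (Lpr_ct (f651485 IH) (Lpe (f651484 IH) (Lpe (K46.f414626 IH) (Lpr_gf (f508833 IH) (Lpr_bf (f671639 IH) (Lpn v8572)))))))))))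
theorem f671642 : Led Lsl_ct v6612 = v8572 :=
  Lgr Lrot59 (Lpr_cf (f671641 IH) (Lpn v8572))
theorem f678929 : Led Lsl_af v6612 = v10137 :=
  Lgr Lrot68 (Lpr_ct (f671642 IH) (Lpe (f671638 IH) (Lpr_ct (f678928 IH) (Lpn v10137))))
def v6613 : LQ := Led Lsl_gf (LP (LK LD1_c3 LD2_c24 LD3_c13))
theorem f654422 : Led Lsl_gf (LP (LK LD1_c3 LD2_c24 LD3_c13)) = v6613 :=
  Lrfl
theorem f678934 : Led Lsl_ft v6613 = v10137 :=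
  Lgr Lrot2 (Lpe (f654422 IH) (Lpr_gt (f654421 IH) (Lpr_af (f678929 IH) (Lpn v10137))))
theorem f414463 : Led Lsl_gt (LP (LK LD1_c1 LD2_c8 LD3_c25)) = (LP (LK LD1_c2 LD2_c22 LD3_c36)) :=
  Lre_g IH (LK LD1_c1 LD2_c8 LD3_c25) (LK LD1_c2 LD2_c22 LD3_c36) Lrfl Lrfl
theorem f654423 : Led Lsl_ct v4493 = v6613 :=
  Lgr Lrot64 (Lpe (f634230 IH) (Lpe (f414463 IH) (Lpe (K24.f414462 IH) (Lpr_ct (K16.f413655 IH) (Lpe (K17.f414445 IH) (Lpe (K2.f73673 IH) (Lpe (K11.f13561 IH) (Lpe (K34.f79724 IH) (Lpr_ct (f414461 IH) (Lpr_gf (f654422 IH) (Lpn v6613)))))))))))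
theorem f678930 : Led Lsl_cf v3199 = v10137 :=
  Lgr Lrot11 (Lpr_ct (f678928 IH) (Lpn v10137))
theorem f672196 : Led Lsl_ff v3199 = v8750 :=
  Lgr Lrot25 (Lpe (f624597 IH) (Lpr_ft (K46.f509543 IH) (Lpr_bt (f672194 IH) (Lpn v8750))))
theorem f672197 : Led Lsl_ft v3199 = v8750 :=
  Lgr Lrot48 (Lpr_ff (f672196 IH) (Lpn v8750))
theorem f678936 : v4493 = v8750 :=
  (Llr Lrot108 (Lpr_ct (f654423 IH) (Lpr_ft (f678934 IH) (Lpe (f678930 IH) (Lpr_ft (f672197 IH) (Lpn v8750)))))).symm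
theorem f678937 : K46.v2190 = (LP (LK LD1_c2 LD2_c22 LD3_c36)) :=
  Lefun (Lecon (Lfl_bf (f672195 IH)) (f678936 IH).symm) (Lfl_bf (f634230 IH))
theorem f678941 : Led Lsl_at (LP (LK LD1_c1 LD2_c37 LD3_c4)) = (LP (LK LD1_c2 LD2_c22 LD3_c36)) :=
  Leop (Lpq (f678937 IH) (Lpe (K46.f509541 IH) (Lpn (LP (LK LD1_c1 LD2_c37 LD3_c4)))))
theorem seed_583 : LEOK LG_a (LK LD1_c1 LD2_c37 LD3_c4) :=
  Leoe_a (LK LD1_c1 LD2_c37 LD3_c4) (f678941 IH)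
def v965 : LQ := Led Lsl_et K35.v129
def v3602 : LQ := Led Lsl_gt v965
def v11089 : LQ := Led Lsl_ct v3602
theorem f683071 : Led Lsl_ct v3602 = v11089 :=
  Lrfl
def v1837 : LQ := Led Lsl_gt (LP (LK LD1_c1 LD2_c29 LD3_c28))
def v8103 : LQ := Led Lsl_et v1837
theorem f669995 : Led Lsl_et v1837 = v8103 :=
  Lrfl
def v7802 : LQ := Led Lsl_gt K32.v1301
theorem f668484 : Led Lsl_gt K32.v1301 = v7802 :=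
  Lrfl
def v1114 : LQ := Led Lsl_dt K29.v266
theorem f491572 : Led Lsl_dt K29.v266 = v1114 :=
  Lrfl
def v3900 : LQ := Led Lsl_gf v1114
theorem f627802 : Led Lsl_gf v1114 = v3900 :=
  Lrfl
def v7794 : LQ := Led Lsl_ft K46.v1280
theorem f668434 : Led Lsl_ft K46.v1280 = v7794 :=
  Lrfl
theorem f668439 : Led Lsl_ff K46.v1280 = v7794 :=
  Lgr Lrot3 (Lpr_ft (f668434 IH) (Lpn v7794))
def v5116 : LQ := Led Lsl_at (LP (LK LD1_c2 LD2_c57 LD3_c49))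
theorem f646012 : Led Lsl_at (LP (LK LD1_c2 LD2_c57 LD3_c49)) = v5116 :=
  Lrfl
theorem f501191 : Led Lsl_af (LP (LK LD1_c1 LD2_c24 LD3_c36)) = K46.v1732 :=
  Lgr Lrot0 (Lpr_at (K46.f501190 IH) (Lpn K46.v1732))
theorem f646014 : Led Lsl_df K46.v1732 = v5116 :=
  Lgr Lrot18 (Lpe (f501191 IH) (Lpr_dt (K17.f180306 IH) (Lpr_at (f646012 IH) (Lpn v5116))))
theorem f646015 : Led Lsl_dt K46.v1732 = v5116 :=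
  Lgr Lrot42 (Lpr_df (f646014 IH) (Lpn v5116))
theorem f646013 : Led Lsl_af (LP (LK LD1_c2 LD2_c57 LD3_c49)) = v5116 :=
  Lgr Lrot0 (Lpr_at (f646012 IH) (Lpn v5116))
theorem f180304 : Led Lsl_gt (LP (LK LD1_c2 LD2_c53 LD3_c57)) = (LP (LK LD1_c2 LD2_c57 LD3_c49)) :=
  Lre_g IH (LK LD1_c2 LD2_c53 LD3_c57) (LK LD1_c2 LD2_c57 LD3_c49) Lrfl Lrfl
def v4951 : LQ := Led Lsl_gf (LP (LK LD1_c2 LD2_c53 LD3_c57))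
theorem f641033 : Led Lsl_gf (LP (LK LD1_c2 LD2_c53 LD3_c57)) = v4951 :=
  Lrfl
theorem f646019 : Led Lsl_ft v4951 = v5116 :=
  Lgr Lrot2 (Lpe (f641033 IH) (Lpr_gt (f180304 IH) (Lpr_af (f646013 IH) (Lpn v5116))))
theorem f646020 : Led Lsl_ff v4951 = v5116 :=
  Lgr Lrot3 (Lpr_ft (f646019 IH) (Lpn v5116))
theorem f668442 : Led Lsl_dt v4951 = v7794 :=
  Lgr Lrot60 (Lpr_ff (f646020 IH) (Lpe (f646015 IH) (Lpqs (K46.f645297 IH) (Lpr_ff (f668439 IH) (Lpn v7794)))))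
def v4202 : LQ := Led Lsl_dt (LP (LK LD1_c2 LD2_c14 LD3_c61))
theorem f631845 : Led Lsl_dt (LP (LK LD1_c2 LD2_c14 LD3_c61)) = v4202 :=
  Lrfl
theorem f169776 : Led Lsl_dt (LP (LK LD1_c2 LD2_c53 LD3_c57)) = (LP (LK LD1_c1 LD2_c22 LD3_c58)) :=
  Lre_d IH (LK LD1_c2 LD2_c53 LD3_c57) (LK LD1_c1 LD2_c22 LD3_c58) Lrfl Lrfl
theorem f631846 : Led Lsl_af (LP (LK LD1_c2 LD2_c53 LD3_c57)) = v4202 :=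
  Lgr Lrot117 (Lpr_dt (f169776 IH) (Lpr_at (K35.f500473 IH) (Lpqs (K35.f507958 IH) (Lpr_dt (f631845 IH) (Lpn v4202)))))
theorem f631848 : Led Lsl_ff (LP (LK LD1_c2 LD2_c53 LD3_c60)) = v4202 :=
  Lgr Lrot19 (Lpr_dt (K17.f166185 IH) (Lpr_ft (K35.f500477 IH) (Lpqs (K35.f507958 IH) (Lpr_dt (f631845 IH) (Lpn v4202)))))
theorem f631849 : Led Lsl_ft (LP (LK LD1_c2 LD2_c53 LD3_c60)) = v4202 :=
  Lgr Lrot48 (Lpr_ff (f631848 IH) (Lpn v4202))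
theorem f641034 : Led Lsl_gt (LP (LK LD1_c2 LD2_c53 LD3_c60)) = v4951 :=
  Lgr Lrot5 (Lpr_ft (f631849 IH) (Lpe (f631846 IH) (Lpr_gf (f641033 IH) (Lpn v4951))))
theorem f491573 : Led Lsl_df K29.v266 = v1114 :=
  Lgr Lrot38 (Lpr_dt (f491572 IH) (Lpn v1114))
theorem f535765 : Led Lsl_ff K35.v346 = K35.v2820 :=
  Lgr Lrot3 (Lpr_ft (K35.f535763 IH) (Lpn K35.v2820))
theorem f623412 : K35.v346 = K35.v1111 :=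
  Lefun (Lecon (Lfl_ff (f535765 IH)) (K35.f623409 IH)) (K35.f491566 IH)
def v2818 : LQ := Led Lsl_dt K35.v346
theorem f535756 : Led Lsl_dt K35.v346 = v2818 :=
  Lrfl
theorem f623422 : Led Lsl_af v1114 = v2818 :=
  Lgr Lrot117 (Lpe (f491573 IH) (Lpr_at (K35.f491564 IH) (Lpq (f623412 IH) (Lpr_dt (f535756 IH) (Lpn v2818)))))
theorem f623425 : Led Lsl_ff K35.v1119 = v2818 :=
  Lgr Lrot19 (Lpe (K35.f491590 IH) (Lpq (K35.f623409 IH) (Lpe (f535765 IH) (Lpr_dt (f535756 IH) (Lpn v2818)))))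
theorem f623427 : Led Lsl_ft K35.v1119 = v2818 :=
  Lgr Lrot48 (Lpr_ff (f623425 IH) (Lpn v2818))
theorem f627803 : Led Lsl_gt K35.v1119 = v3900 :=
  Lgr Lrot5 (Lpr_ft (f623427 IH) (Lpe (f623422 IH) (Lpr_gf (f627802 IH) (Lpn v3900))))
def v3216 : LQ := Led Lsl_et K24.v573
theorem f624639 : Led Lsl_et K24.v573 = v3216 :=
  Lrfl
theorem f624641 : Led Lsl_ef K24.v573 = v3216 :=
  Lgr Lrot88 (Lpr_et (f624639 IH) (Lpn v3216))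
theorem f624643 : Led Lsl_ct K46.v1280 = v3216 :=
  Lgr Lrot15 (Lpe (K46.f494516 IH) (Lpr_cf (K24.f454830 IH) (Lpr_ef (f624641 IH) (Lpn v3216))))
def v1729 : LQ := Led Lsl_et (LP (LK LD1_c1 LD2_c24 LD3_c34))
theorem f501176 : Led Lsl_et (LP (LK LD1_c1 LD2_c24 LD3_c34)) = v1729 :=
  Lrfl
theorem f501178 : Led Lsl_ef (LP (LK LD1_c1 LD2_c24 LD3_c34)) = v1729 :=
  Lgr Lrot88 (Lpr_et (f501176 IH) (Lpn v1729))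
def v1720 : LQ := Led Lsl_ft (LP (LK LD1_c1 LD2_c24 LD3_c30))
theorem f501041 : Led Lsl_ft (LP (LK LD1_c1 LD2_c24 LD3_c30)) = v1720 :=
  Lrfl
theorem f501044 : Led Lsl_ff (LP (LK LD1_c1 LD2_c24 LD3_c30)) = v1720 :=
  Lgr Lrot3 (Lpr_ft (f501041 IH) (Lpn v1720))
def v1717 : LQ := Led Lsl_at (LP (LK LD1_c1 LD2_c24 LD3_c30))
theorem f501019 : Led Lsl_at (LP (LK LD1_c1 LD2_c24 LD3_c30)) = v1717 :=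
  Lrfl
theorem f501021 : Led Lsl_cf K32.v446 = v1717 :=
  Lgr Lrot1 (Lpe (K32.f452889 IH) (Lpr_ct (K9.f140230 IH) (Lpr_at (f501019 IH) (Lpn v1717))))
theorem f501023 : Led Lsl_ft (LP (LK LD1_c1 LD2_c24 LD3_c34)) = v1717 :=
  Lgr Lrot4 (Lpe (K31.f415838 IH) (Lpr_ff (K32.f452894 IH) (Lpr_cf (f501021 IH) (Lpn v1717))))
theorem f501024 : Led Lsl_ff (LP (LK LD1_c1 LD2_c24 LD3_c34)) = v1717 :=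
  Lgr Lrot3 (Lpr_ft (f501023 IH) (Lpn v1717))
theorem f501045 : Led Lsl_at (LP (LK LD1_c1 LD2_c24 LD3_c34)) = v1720 :=
  Lgr Lrot66 (Lpr_ff (f501024 IH) (Lpe (f501019 IH) (Lpr_ff (f501044 IH) (Lpn v1720))))
theorem f501046 : Led Lsl_ct K46.v447 = v1720 :=
  Lgr Lrot40 (Lpe (K46.f452896 IH) (Lpe (K31.f140236 IH) (Lpr_ff (f501044 IH) (Lpn v1720))))
theorem f645305 : v1720 = K24.v573 :=
  Lefun (Lecon (f501046 IH) (K46.f645298 IH)) (K24.f454829 IH)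
theorem f645866 : Led Lsl_af v1729 = v3216 :=
  Lgr Lrot50 (Lpe (f501178 IH) (Lpr_at (f501045 IH) (Lpqs (f645305 IH) (Lpr_et (f624639 IH) (Lpn v3216)))))
theorem f505581 : Led Lsl_gt K35.v495 = v1729 :=
  Lgr Lrot131 (Lpe (K35.f453621 IH) (Lpr_dt (K17.f61682 IH) (Lpe (K32.f153683 IH) (Lpr_df (K32.f503943 IH) (Lpr_gf (K32.f505475 IH) (Lpr_ef (K32.f504993 IH) (Lpr_dt (K32.f505099 IH) (Lpr_gf (K46.f505550 IH) (Lpe (K46.f415845 IH) (Lpr_et (f501176 IH) (Lpn v1729)))))))))))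
def v3083 : LQ := Led Lsl_gf K35.v495
theorem f622774 : Led Lsl_gf K35.v495 = v3083 :=
  Lrfl
theorem f645868 : Led Lsl_ft v3083 = v3216 :=
  Lgr Lrot2 (Lpe (f622774 IH) (Lpr_gt (f505581 IH) (Lpr_af (f645866 IH) (Lpn v3216))))
theorem f645869 : Led Lsl_ff v3083 = v3216 :=
  Lgr Lrot3 (Lpr_ft (f645868 IH) (Lpn v3216))
theorem f668441 : Led Lsl_ct v3083 = v7794 :=
  Lgr Lrot40 (Lpr_ff (f645869 IH) (Lpe (f624643 IH) (Lpr_ff (f668439 IH) (Lpn v7794))))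
theorem f668446 : Led Lsl_dt v3900 = v3083 :=
  Lgr Lrot105 (Lpe (f627803 IH) (Lpe (K35.f491589 IH) (Lpr_gf (K32.f452350 IH) (Lpe (K42.f452348 IH) (Lpr_gt (K24.f442466 IH) (Lpr_dt (K17.f180311 IH) (Lpr_gt (f641034 IH) (Lpr_dt (f668442 IH) (Lpe (f668441 IH) (Lpn v3083))))))))))
theorem f668447 : Led Lsl_df v3900 = v3083 :=
  Lgr Lrot38 (Lpr_dt (f668446 IH) (Lpn v3083))
theorem f668490 : Led Lsl_et v3083 = v7802 :=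
  Lgr Lrot122 (Lpe (f668447 IH) (Lpe (f627802 IH) (Lpe (f491572 IH) (Lpr_et (K29.f491574 IH) (Lpe (K29.f491578 IH) (Lpe (K8.f61019 IH) (Lpe (K35.f82830 IH) (Lpe (K32.f61086 IH) (Lpr_et (K32.f494709 IH) (Lpr_gt (f668484 IH) (Lpn v7802)))))))))))
def v2243 : LQ := Led Lsl_at (LP (LK LD1_c1 LD2_c38 LD3_c29))
theorem f510437 : Led Lsl_at (LP (LK LD1_c1 LD2_c38 LD3_c29)) = v2243 :=
  Lrfl
def v1278 : LQ := Led Lsl_at (LP (LK LD1_c1 LD2_c5 LD3_c8))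
theorem f494504 : Led Lsl_at (LP (LK LD1_c1 LD2_c5 LD3_c8)) = v1278 :=
  Lrfl
theorem f494505 : Led Lsl_af (LP (LK LD1_c1 LD2_c5 LD3_c8)) = v1278 :=
  Lgr Lrot0 (Lpr_at (f494504 IH) (Lpn v1278))
theorem f510439 : Led Lsl_cf v1278 = v2243 :=
  Lgr Lrot1 (Lpe (f494505 IH) (Lpr_ct (K9.f140106 IH) (Lpr_at (f510437 IH) (Lpn v2243))))
theorem f494508 : Led Lsl_ft (LP (LK LD1_c1 LD2_c5 LD3_c9)) = v1278 :=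
  Lgr Lrot2 (Lpr_gt (K24.f174605 IH) (Lpr_gt (K0.f22998 IH) (Lpr_af (f494505 IH) (Lpn v1278))))
theorem f494509 : Led Lsl_ff (LP (LK LD1_c1 LD2_c5 LD3_c9)) = v1278 :=
  Lgr Lrot3 (Lpr_ft (f494508 IH) (Lpn v1278))
theorem f510441 : Led Lsl_ft K24.v573 = v2243 :=
  Lgr Lrot4 (Lpe (K24.f454829 IH) (Lpr_ff (f494509 IH) (Lpr_cf (f510439 IH) (Lpn v2243))))
theorem f510442 : Led Lsl_ff K24.v573 = v2243 :=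
  Lgr Lrot3 (Lpr_ft (f510441 IH) (Lpn v2243))
theorem f645323 : (LP (LK LD1_c1 LD2_c24 LD3_c30)) = v2243 :=
  Lefun (Lecon (Lfl_ff (f501044 IH)) (f645305 IH)) (f510441 IH)
theorem f501030 : Led Lsl_ef (LP (LK LD1_c1 LD2_c24 LD3_c30)) = K32.v1719 :=
  Lgr Lrot88 (Lpr_et (K32.f501028 IH) (Lpn K32.v1719))
theorem f668492 : Led Lsl_ff K32.v1719 = v7802 :=
  Lgr Lrot72 (Lpe (f501030 IH) (Lpqs (f645323 IH) (Lpe (f510442 IH) (Lpr_et (f624639 IH) (Lpe (f645869 IH) (Lpr_et (f668490 IH) (Lpn v7802)))))))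
theorem f645430 : Led Lsl_at (LP (LK LD1_c3 LD2_c24 LD3_c16)) = K32.v1719 :=
  Lgr Lrot26 (Lpr_ff (K46.f645351 IH) (Lpe (K32.f504801 IH) (Lpr_gt (K32.f501031 IH) (Lpn K32.v1719))))
theorem f645432 : Led Lsl_af (LP (LK LD1_c3 LD2_c6 LD3_c45)) = (LP (LK LD1_c3 LD2_c11 LD3_c47)) :=
  Lgr Lrot117 (Lpr_dt (K9.f61777 IH) (Lpr_at (f645430 IH) (Lpe (K35.f501032 IH) (Lpn (LP (LK LD1_c3 LD2_c11 LD3_c47))))))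
theorem f504483 : Led Lsl_gt (LP (LK LD1_c1 LD2_c29 LD3_c28)) = v1837 :=
  Lrfl
theorem f504484 : Led Lsl_gf (LP (LK LD1_c3 LD2_c11 LD3_c48)) = v1837 :=
  Lgr Lrot76 (Lpe (K2.f67444 IH) (Lpe (K2.f67442 IH) (Lpr_gt (f504483 IH) (Lpn v1837))))
theorem f645438 : Led Lsl_ft v1837 = (LP (LK LD1_c3 LD2_c11 LD3_c47)) :=
  Lgr Lrot2 (Lpe (f504484 IH) (Lpe (K9.f67446 IH) (Lpr_af (f645432 IH) (Lpn (LP (LK LD1_c3 LD2_c11 LD3_c47))))))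
theorem f645440 : Led Lsl_ff v1837 = (LP (LK LD1_c3 LD2_c11 LD3_c47)) :=
  Lgr Lrot3 (Lpr_ft (f645438 IH) (Lpn (LP (LK LD1_c3 LD2_c11 LD3_c47))))
theorem f668494 : Led Lsl_dt v1837 = v7802 :=
  Lgr Lrot60 (Lpr_ff (f645440 IH) (Lpr_df (K35.f501032 IH) (Lpr_ff (f668492 IH) (Lpn v7802))))
def v5505 : LQ := Led Lsl_at (LP (LK LD1_c3 LD2_c8 LD3_c47))
theorem f647992 : Led Lsl_at (LP (LK LD1_c3 LD2_c8 LD3_c47)) = v5505 :=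
  Lrfl
theorem f647995 : Led Lsl_df K32.v1885 = v5505 :=
  Lgr Lrot18 (Lpe (K32.f504815 IH) (Lpr_dt (K9.f67307 IH) (Lpr_at (f647992 IH) (Lpn v5505))))
theorem f647997 : Led Lsl_gt (LP (LK LD1_c3 LD2_c12 LD3_c53)) = v5505 :=
  Lgr Lrot46 (Lpr_gf (K35.f632748 IH) (Lpe (K46.f632752 IH) (Lpr_at (f647992 IH) (Lpn v5505))))
def v1889 : LQ := Led Lsl_et (LP (LK LD1_c1 LD2_c30 LD3_c34))
theorem f506263 : Led Lsl_et (LP (LK LD1_c1 LD2_c30 LD3_c34)) = v1889 :=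
  Lrfl
theorem f670000 : Led Lsl_gf v1889 = v8103 :=
  Lgr Lrot141 (Lpe (f506263 IH) (Lpr_dt (K29.f491577 IH) (Lpe (K29.f491578 IH) (Lpe (K8.f61024 IH) (Lpr_et (K29.f79718 IH) (Lpr_gt (f647997 IH) (Lpe (f647995 IH) (Lpqs (K32.f504901 IH) (Lpr_gt (f668484 IH) (Lpe (f668494 IH) (Lpr_et (f669995 IH) (Lpn v8103))))))))))))
def v3902 : LQ := Led Lsl_et v1114
theorem f627806 : Led Lsl_et v1114 = v3902 :=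
  Lrfl
theorem f506264 : Led Lsl_ef (LP (LK LD1_c1 LD2_c30 LD3_c34)) = v1889 :=
  Lgr Lrot88 (Lpr_et (f506263 IH) (Lpn v1889))
theorem f627807 : Led Lsl_df v1889 = v3902 :=
  Lgr Lrot70 (Lpe (f506264 IH) (Lpr_dt (K29.f491577 IH) (Lpe (K29.f491575 IH) (Lpr_dt (f491572 IH) (Lpr_et (f627806 IH) (Lpn v3902))))))
theorem f627808 : Led Lsl_ef v1114 = v3902 :=
  Lgr Lrot88 (Lpr_et (f627806 IH) (Lpn v3902))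
def v3899 : LQ := Led Lsl_gt v1114
theorem f627798 : Led Lsl_gt v1114 = v3899 :=
  Lrfl
theorem f446809 : Led Lsl_cf (LP (LK LD1_c0 LD2_c38 LD3_c24)) = K29.v81 :=
  Lgr Lrot39 (Lpr_et (K24.f22471 IH) (Lpr_ct (K1.f37947 IH) (Lpr_et (K29.f446807 IH) (Lpn K29.v81))))
theorem f435602 : Led Lsl_dt (LP (LK LD1_c1 LD2_c22 LD3_c58)) = (LP (LK LD1_c2 LD2_c53 LD3_c57)) :=
  Lre_d IH (LK LD1_c1 LD2_c22 LD3_c58) (LK LD1_c2 LD2_c53 LD3_c57) Lrfl Lrfl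
theorem f180309 : Led Lsl_dt (LP (LK LD1_c2 LD2_c57 LD3_c49)) = (LP (LK LD1_c1 LD2_c24 LD3_c36)) :=
  Lre_d IH (LK LD1_c2 LD2_c57 LD3_c49) (LK LD1_c1 LD2_c24 LD3_c36) Lrfl Lrfl
theorem f501179 : Led Lsl_ct (LP (LK LD1_c1 LD2_c24 LD3_c36)) = v1729 :=
  Lgr Lrot15 (Lpe (K35.f452895 IH) (Lpe (K31.f415843 IH) (Lpr_ef (f501178 IH) (Lpn v1729))))
theorem f627800 : Led Lsl_df v1729 = v3899 :=
  Lgr Lrot84 (Lpe (f501179 IH) (Lpe (f180309 IH) (Lpe (f180304 IH) (Lpe (f435602 IH) (Lpe (K24.f169775 IH) (Lpr_cf (f446809 IH) (Lpr_gt (K29.f451465 IH) (Lpr_dt (f491572 IH) (Lpr_gt (f627798 IH) (Lpn v3899))))))))))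
def v7814 : LQ := Led Lsl_ft K35.v1309
theorem f668543 : Led Lsl_ft K35.v1309 = v7814 :=
  Lrfl
theorem f668548 : Led Lsl_ff K35.v1309 = v7814 :=
  Lgr Lrot3 (Lpr_ft (f668543 IH) (Lpn v7814))
theorem f668553 : Led Lsl_gf v3083 = v7814 :=
  Lgr Lrot47 (Lpe (f622774 IH) (Lpr_af (K35.f622771 IH) (Lpq (K35.f622785 IH) (Lpr_ff (f668548 IH) (Lpn v7814)))))
def v7813 : LQ := Led Lsl_gf K35.v1309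
theorem f668533 : Led Lsl_gf K35.v1309 = v7813 :=
  Lrfl
theorem f668538 : Led Lsl_et K32.v1883 = v7813 :=
  Lgr Lrot121 (Lpe (K32.f504797 IH) (Lpe (K32.f25844 IH) (Lpe (K2.f68248 IH) (Lpr_et (K2.f59448 IH) (Lpe (K1.f59453 IH) (Lpr_ef (K29.f446810 IH) (Lpr_dt (K35.f451467 IH) (Lpr_gf (K35.f491594 IH) (Lpr_df (K35.f494747 IH) (Lpr_gf (f668533 IH) (Lpn v7813)))))))))))
theorem f668495 : Led Lsl_ft K32.v1719 = v7802 :=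
  Lgr Lrot48 (Lpr_ff (f668492 IH) (Lpn v7802))
theorem f668496 : Led Lsl_af K32.v1883 = v7802 :=
  Lgr Lrot45 (Lpe (K46.f645351 IH) (Lpr_at (f645430 IH) (Lpr_ft (f668495 IH) (Lpn v7802))))
theorem f668539 : Led Lsl_af v3083 = v7813 :=
  Lgr Lrot50 (Lpr_et (f668490 IH) (Lpe (f668496 IH) (Lpr_et (f668538 IH) (Lpn v7813))))
theorem f668540 : Led Lsl_ef K32.v1883 = v7813 :=
  Lgr Lrot88 (Lpr_et (f668538 IH) (Lpn v7813))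
def v2244 : LQ := Led Lsl_ft (LP (LK LD1_c1 LD2_c38 LD3_c29))
theorem f510443 : Led Lsl_ft (LP (LK LD1_c1 LD2_c38 LD3_c29)) = v2244 :=
  Lrfl
theorem f510446 : Led Lsl_ff (LP (LK LD1_c1 LD2_c38 LD3_c29)) = v2244 :=
  Lgr Lrot3 (Lpr_ft (f510443 IH) (Lpn v2244))
def v1279 : LQ := Led Lsl_ft (LP (LK LD1_c1 LD2_c5 LD3_c8))
theorem f494510 : Led Lsl_ft (LP (LK LD1_c1 LD2_c5 LD3_c8)) = v1279 :=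
  Lrfl
theorem f510448 : Led Lsl_ct v1279 = v2244 :=
  Lgr Lrot40 (Lpe (f494510 IH) (Lpr_cf (K9.f140099 IH) (Lpr_ff (f510446 IH) (Lpn v2244))))
theorem f494512 : Led Lsl_ff (LP (LK LD1_c1 LD2_c5 LD3_c8)) = v1279 :=
  Lgr Lrot3 (Lpr_ft (f494510 IH) (Lpn v1279))
theorem f494513 : Led Lsl_at (LP (LK LD1_c1 LD2_c5 LD3_c9)) = v1279 :=
  Lgr Lrot66 (Lpr_ff (f494509 IH) (Lpe (f494504 IH) (Lpr_ff (f494512 IH) (Lpn v1279))))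
theorem f645301 : (LP (LK LD1_c0 LD2_c38 LD3_c58)) = v1279 :=
  Lefun (Lecon (Lfl_af (K46.f452897 IH)) (K46.f645298 IH)) (f494513 IH)
theorem f645316 : v2244 = (LP (LK LD1_c1 LD2_c24 LD3_c34)) :=
  Lefun (Lecon (f510448 IH) (f645301 IH).symm) (K31.f415838 IH)
theorem f668542 : Led Lsl_ft v1729 = v7813 :=
  Lgr Lrot86 (Lpe (f501176 IH) (Lpq (f645316 IH) (Lpe (f510443 IH) (Lpe (K9.f26063 IH) (Lpr_ff (K46.f645351 IH) (Lpr_ef (f668540 IH) (Lpn v7813)))))))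
theorem f668554 : Led Lsl_gt v1729 = v7814 :=
  Lgr Lrot5 (Lpr_ft (f668542 IH) (Lpe (f668539 IH) (Lpr_gf (f668553 IH) (Lpn v7814))))
theorem f623417 : Led Lsl_ff K35.v2823 = v1114 :=
  Lgr Lrot19 (Lpe (K35.f535772 IH) (Lpqs (K35.f623410 IH) (Lpe (K35.f491583 IH) (Lpr_dt (f491572 IH) (Lpn v1114)))))
theorem f623428 : Led Lsl_af K35.v1119 = K35.v2823 :=
  Lgr Lrot45 (Lpr_ft (f623427 IH) (Lpe (f623422 IH) (Lpe (f623417 IH) (Lpn K35.v2823))))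
theorem f623429 : Led Lsl_at K35.v2825 = K35.v1121 :=
  Lgr Lrot80 (Lpe (K35.f535824 IH) (Lpr_af (f623428 IH) (Lpe (K35.f535774 IH) (Lpn K35.v1121))))
theorem f623431 : Led Lsl_ff K35.v2825 = K35.v1122 :=
  Lgr Lrot30 (Lpr_at (f623429 IH) (Lpr_ft (K35.f622781 IH) (Lpe (K35.f622783 IH) (Lpn K35.v1122))))
theorem f668551 : Led Lsl_dt K35.v2825 = v7814 :=
  Lgr Lrot60 (Lpr_ff (f623431 IH) (Lpr_df (K35.f494747 IH) (Lpr_ff (f668548 IH) (Lpn v7814))))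
theorem f535825 : Led Lsl_ef K35.v1119 = K35.v2825 :=
  Lgr Lrot88 (Lpr_et (K35.f535824 IH) (Lpn K35.v2825))
theorem f490761 : Led Lsl_et K35.v129 = v965 :=
  Lrfl
def v3603 : LQ := Led Lsl_gf v965
theorem f626407 : Led Lsl_gf v965 = v3603 :=
  Lrfl
theorem f668555 : Led Lsl_et v3900 = v3603 :=
  Lgr Lrot185 (Lpr_dt (f668446 IH) (Lpr_gf (f668553 IH) (Lpe (f668551 IH) (Lpe (K35.f535823 IH) (Lpe (K35.f452340 IH) (Lpr_dt (K35.f23401 IH) (Lpe (K7.f82548 IH) (Lpr_df (K35.f450622 IH) (Lpr_et (f490761 IH) (Lpr_gf (f626407 IH) (Lpn v3603)))))))))))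
theorem f668556 : Led Lsl_ef v3900 = v3603 :=
  Lgr Lrot88 (Lpr_et (f668555 IH) (Lpn v3603))
theorem f670001 : Led Lsl_dt v3603 = v8103 :=
  Lgr Lrot136 (Lpe (f668556 IH) (Lpe (f627803 IH) (Lpr_ef (f535825 IH) (Lpr_dt (f668551 IH) (Lpe (f668554 IH) (Lpr_df (f627800 IH) (Lpe (f627798 IH) (Lpr_ef (f627808 IH) (Lpe (f627807 IH) (Lpr_gf (f670000 IH) (Lpn v8103)))))))))))
theorem f645439 : Led Lsl_af v1837 = (LP (LK LD1_c3 LD2_c11 LD3_c46)) :=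
  Lgr Lrot45 (Lpr_ft (f645438 IH) (Lpe (f645432 IH) (Lpr_ft (K46.f645427 IH) (Lpn (LP (LK LD1_c3 LD2_c11 LD3_c46))))))
def v5670 : LQ := Led Lsl_et (LP (LK LD1_c3 LD2_c11 LD3_c46))
theorem f648767 : Led Lsl_et (LP (LK LD1_c3 LD2_c11 LD3_c46)) = v5670 :=
  Lrfl
theorem f648768 : Led Lsl_ef (LP (LK LD1_c3 LD2_c11 LD3_c46)) = v5670 :=
  Lgr Lrot88 (Lpr_et (f648767 IH) (Lpn v5670))
theorem f669996 : Led Lsl_af v5670 = v8103 :=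
  Lgr Lrot50 (Lpe (f648768 IH) (Lpe (f645439 IH) (Lpr_et (f669995 IH) (Lpn v8103))))
theorem f79766 : Led Lsl_et (LP (LK LD1_c3 LD2_c11 LD3_c31)) = (LP (LK LD1_c1 LD2_c32 LD3_c7)) :=
  Lre_e IH (LK LD1_c3 LD2_c11 LD3_c31) (LK LD1_c1 LD2_c32 LD3_c7) Lrfl Lrfl
def v1954 : LQ := Led Lsl_et (LP (LK LD1_c1 LD2_c32 LD3_c1))
theorem f506572 : Led Lsl_et (LP (LK LD1_c1 LD2_c32 LD3_c1)) = v1954 :=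
  Lrfl
theorem f648769 : Led Lsl_gt v1954 = v5670 :=
  Lgr Lrot131 (Lpe (f506572 IH) (Lpr_dt (K17.f25850 IH) (Lpe (K17.f25849 IH) (Lpe (K9.f25848 IH) (Lpe (K11.f69072 IH) (Lpe (f79766 IH) (Lpe (K32.f79750 IH) (Lpr_gf (K32.f504801 IH) (Lpe (K46.f504798 IH) (Lpr_et (f648767 IH) (Lpn v5670)))))))))))
theorem f25841 : Led Lsl_et (LP (LK LD1_c1 LD2_c30 LD3_c41)) = (LP (LK LD1_c0 LD2_c41 LD3_c51)) :=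
  Lre_e IH (LK LD1_c1 LD2_c30 LD3_c41) (LK LD1_c0 LD2_c41 LD3_c51) Lrfl Lrfl
def v966 : LQ := Led Lsl_et K35.v130
theorem f490763 : Led Lsl_et K35.v130 = v966 :=
  Lrfl
theorem f490766 : Led Lsl_ef K35.v130 = v966 :=
  Lgr Lrot88 (Lpr_et (f490763 IH) (Lpn v966))
theorem f83121 : Led Lsl_et (LP (LK LD1_c0 LD2_c41 LD3_c51)) = (LP (LK LD1_c1 LD2_c30 LD3_c41)) :=
  Lre_e IH (LK LD1_c0 LD2_c41 LD3_c51) (LK LD1_c1 LD2_c30 LD3_c41) Lrfl Lrfl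
theorem f490768 : Led Lsl_dt (LP (LK LD1_c1 LD2_c30 LD3_c41)) = v966 :=
  Lgr Lrot77 (Lpe (f83121 IH) (Lpe (K1.f25807 IH) (Lpe (K7.f83116 IH) (Lpr_df (K35.f450628 IH) (Lpr_ef (f490766 IH) (Lpn v966))))))
def v3606 : LQ := Led Lsl_gf v966
theorem f626412 : Led Lsl_gf v966 = v3606 :=
  Lrfl
theorem f648771 : Led Lsl_df v3606 = v5670 :=
  Lgr Lrot135 (Lpe (f626412 IH) (Lpe (f490768 IH) (Lpr_et (f25841 IH) (Lpr_gt (K1.f25808 IH) (Lpe (K9.f25847 IH) (Lpr_dt (K9.f25848 IH) (Lpr_gt (K17.f25849 IH) (Lpe (K17.f25850 IH) (Lpr_et (f506572 IH) (Lpr_gt (f648769 IH) (Lpn v5670)))))))))))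
theorem f670002 : Led Lsl_af v3603 = v3606 :=
  Lgr Lrot117 (Lpr_dt (f670001 IH) (Lpe (f669996 IH) (Lpe (f648771 IH) (Lpn v3606))))
def v3607 : LQ := Led Lsl_ft v966
theorem f626414 : Led Lsl_ft v966 = v3607 :=
  Lrfl
theorem f626417 : Led Lsl_ff v966 = v3607 :=
  Lgr Lrot3 (Lpr_ft (f626414 IH) (Lpn v3607))
theorem f450624 : Led Lsl_gf (LP (LK LD1_c0 LD2_c30 LD3_c49)) = K35.v129 :=
  Lgr Lrot143 (Lpr_dt (K35.f23401 IH) (Lpe (K7.f23403 IH) (Lpr_df (K7.f86073 IH) (Lpr_gf (K7.f82540 IH) (Lpr_df (K7.f86075 IH) (Lpe (K7.f23402 IH) (Lpe (K3.f23423 IH) (Lpr_gt (K7.f23420 IH) (Lpr_dt (K35.f450621 IH) (Lpn K35.v129))))))))))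
theorem f429021 : Led Lsl_at (LP (LK LD1_c0 LD2_c48 LD3_c46)) = (LP (LK LD1_c1 LD2_c44 LD3_c20)) :=
  Lre_a IH (LK LD1_c0 LD2_c48 LD3_c46) (LK LD1_c1 LD2_c44 LD3_c20) Lrfl Lrfl
theorem f429022 : Led Lsl_at (LP (LK LD1_c1 LD2_c33 LD3_c15)) = (LP (LK LD1_c0 LD2_c43 LD3_c10)) :=
  Lre_a IH (LK LD1_c1 LD2_c33 LD3_c15) (LK LD1_c0 LD2_c43 LD3_c10) Lrfl Lrfl
theorem f429023 : Led Lsl_et (LP (LK LD1_c1 LD2_c44 LD3_c20)) = (LP (LK LD1_c1 LD2_c33 LD3_c15)) :=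
  Lgr Lrot123 (Lpe (f429021 IH) (Lpr_ef (K7.f429019 IH) (Lpe (f429022 IH) (Lpn (LP (LK LD1_c1 LD2_c33 LD3_c15))))))
theorem f446928 : Led Lsl_gf (LP (LK LD1_c1 LD2_c33 LD3_c15)) = (LP (LK LD1_c0 LD2_c52 LD3_c1)) :=
  Lgr Lrot141 (Lpe (f429023 IH) (Lpr_dt (K33.f434300 IH) (Lpr_gt (K33.f446917 IH) (Lpe (K3.f68357 IH) (Lpr_et (K7.f68356 IH) (Lpr_gt (K2.f68352 IH) (Lpr_dt (K2.f66811 IH) (Lpe (K2.f68335 IH) (Lpe (K2.f23357 IH) (Lpr_et (K2.f68353 IH) (Lpn (LP (LK LD1_c0 LD2_c52 LD3_c1)))))))))))))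
theorem f102277 : Led Lsl_gt (LP (LK LD1_c1 LD2_c7 LD3_c37)) = (LP (LK LD1_c1 LD2_c7 LD3_c41)) :=
  Lgr Lrot5 (Lpr_ft (K5.f99111 IH) (Lpr_at (K7.f102270 IH) (Lpe (K11.f98951 IH) (Lpn (LP (LK LD1_c1 LD2_c7 LD3_c41))))))
theorem f430289 : Led Lsl_bf (LP (LK LD1_c1 LD2_c7 LD3_c37)) = (LP (LK LD1_c0 LD2_c46 LD3_c23)) :=
  Lgr Lrot24 (Lpr_bt (K11.f430287 IH) (Lpn (LP (LK LD1_c0 LD2_c46 LD3_c23))))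
theorem f91949 : Led Lsl_gt (LP (LK LD1_c0 LD2_c46 LD3_c26)) = (LP (LK LD1_c0 LD2_c20 LD3_c51)) :=
  Lre_g IH (LK LD1_c0 LD2_c46 LD3_c26) (LK LD1_c0 LD2_c20 LD3_c51) Lrfl Lrfl
theorem f446934 : Led Lsl_ct (LP (LK LD1_c1 LD2_c33 LD3_c15)) = (LP (LK LD1_c0 LD2_c46 LD3_c26)) :=
  Lgr Lrot91 (Lpr_gf (f446928 IH) (Lpe (K2.f85169 IH) (Lpr_ct (K7.f85043 IH) (Lpe (K11.f62828 IH) (Lpe (K11.f434043 IH) (Lpr_bt (K11.f434041 IH) (Lpe (f102277 IH) (Lpr_bf (f430289 IH) (Lpr_ct (K3.f94255 IH) (Lpe (f91949 IH) (Lpn (LP (LK LD1_c0 LD2_c46 LD3_c26)))))))))))))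
theorem f434301 : Led Lsl_ct (LP (LK LD1_c0 LD2_c48 LD3_c45)) = (LP (LK LD1_c1 LD2_c44 LD3_c20)) :=
  Lre_c IH (LK LD1_c0 LD2_c48 LD3_c45) (LK LD1_c1 LD2_c44 LD3_c20) Lrfl Lrfl
theorem f446940 : Led Lsl_ef (LP (LK LD1_c0 LD2_c48 LD3_c45)) = (LP (LK LD1_c0 LD2_c46 LD3_c26)) :=
  Lgr Lrot28 (Lpr_ct (f434301 IH) (Lpr_et (f429023 IH) (Lpr_ct (f446934 IH) (Lpn (LP (LK LD1_c0 LD2_c46 LD3_c26))))))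
theorem f154370 : Led Lsl_at (LP (LK LD1_c0 LD2_c48 LD3_c45)) = (LP (LK LD1_c0 LD2_c21 LD3_c50)) :=
  Lre_a IH (LK LD1_c0 LD2_c48 LD3_c45) (LK LD1_c0 LD2_c21 LD3_c50) Lrfl Lrfl
theorem f446942 : Led Lsl_at (LP (LK LD1_c0 LD2_c22 LD3_c41)) = (LP (LK LD1_c0 LD2_c46 LD3_c26)) :=
  Lgr Lrot80 (Lpe (K7.f429012 IH) (Lpe (f154370 IH) (Lpr_ef (f446940 IH) (Lpn (LP (LK LD1_c0 LD2_c46 LD3_c26))))))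
theorem f446856 : Led Lsl_ft (LP (LK LD1_c0 LD2_c21 LD3_c50)) = (LP (LK LD1_c0 LD2_c21 LD3_c51)) :=
  Lgr Lrot75 (Lpe (K7.f154356 IH) (Lpr_ff (K33.f446854 IH) (Lpe (K7.f10916 IH) (Lpn (LP (LK LD1_c0 LD2_c21 LD3_c51))))))
theorem f429016 : Led Lsl_ef (LP (LK LD1_c0 LD2_c21 LD3_c50)) = (LP (LK LD1_c0 LD2_c22 LD3_c41)) :=
  Lgr Lrot29 (Lpr_bt (K33.f10372 IH) (Lpr_et (K33.f429014 IH) (Lpr_bt (K7.f156414 IH) (Lpn (LP (LK LD1_c0 LD2_c22 LD3_c41))))))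
theorem f446889 : Led Lsl_ft (LP (LK LD1_c0 LD2_c22 LD3_c41)) = (LP (LK LD1_c0 LD2_c22 LD3_c41)) :=
  Lgr Lrot86 (Lpe (K7.f429012 IH) (Lpr_ff (K33.f446883 IH) (Lpr_ef (K7.f10921 IH) (Lpe (f446856 IH) (Lpr_ef (f429016 IH) (Lpn (LP (LK LD1_c0 LD2_c22 LD3_c41))))))))
theorem f429029 : Led Lsl_at (LP (LK LD1_c0 LD2_c43 LD3_c10)) = (LP (LK LD1_c1 LD2_c33 LD3_c15)) :=
  Lre_a IH (LK LD1_c0 LD2_c43 LD3_c10) (LK LD1_c1 LD2_c33 LD3_c15) Lrfl Lrfl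
theorem f446936 : Led Lsl_af (LP (LK LD1_c0 LD2_c22 LD3_c41)) = (LP (LK LD1_c0 LD2_c46 LD3_c26)) :=
  Lgr Lrot68 (Lpe (K7.f156415 IH) (Lpr_at (f429029 IH) (Lpr_ct (f446934 IH) (Lpn (LP (LK LD1_c0 LD2_c46 LD3_c26))))))
theorem f446948 : Led Lsl_ff (LP (LK LD1_c0 LD2_c46 LD3_c26)) = (LP (LK LD1_c0 LD2_c46 LD3_c26)) :=
  Lgr Lrot30 (Lpe (f446936 IH) (Lpr_ft (f446889 IH) (Lpr_at (f446942 IH) (Lpn (LP (LK LD1_c0 LD2_c46 LD3_c26))))))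
theorem f10924 : Led Lsl_at (LP (LK LD1_c0 LD2_c48 LD3_c48)) = (LP (LK LD1_c0 LD2_c21 LD3_c51)) :=
  Lre_a IH (LK LD1_c0 LD2_c48 LD3_c48) (LK LD1_c0 LD2_c21 LD3_c51) Lrfl Lrfl
theorem f446885 : Led Lsl_ft (LP (LK LD1_c0 LD2_c48 LD3_c45)) = (LP (LK LD1_c0 LD2_c48 LD3_c48)) :=
  Lgr Lrot101 (Lpe (K33.f429018 IH) (Lpr_ff (K33.f446883 IH) (Lpe (f10924 IH) (Lpn (LP (LK LD1_c0 LD2_c48 LD3_c48))))))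
theorem f10923 : Led Lsl_at (LP (LK LD1_c0 LD2_c21 LD3_c51)) = (LP (LK LD1_c0 LD2_c48 LD3_c48)) :=
  Lre_a IH (LK LD1_c0 LD2_c21 LD3_c51) (LK LD1_c0 LD2_c48 LD3_c48) Lrfl Lrfl
theorem f10925 : Led Lsl_et (LP (LK LD1_c0 LD2_c48 LD3_c48)) = (LP (LK LD1_c0 LD2_c48 LD3_c48)) :=
  Lgr Lrot123 (Lpe (f10923 IH) (Lpr_ef (K7.f10921 IH) (Lpe (f10924 IH) (Lpn (LP (LK LD1_c0 LD2_c48 LD3_c48))))))
theorem f446944 : Led Lsl_et (LP (LK LD1_c0 LD2_c48 LD3_c45)) = (LP (LK LD1_c0 LD2_c46 LD3_c26)) :=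
  Lgr Lrot87 (Lpr_ef (f446940 IH) (Lpn (LP (LK LD1_c0 LD2_c46 LD3_c26))))
theorem f446952 : Led Lsl_ft (LP (LK LD1_c0 LD2_c48 LD3_c48)) = (LP (LK LD1_c0 LD2_c48 LD3_c45)) :=
  Lgr Lrot86 (Lpe (f10925 IH) (Lpe (f446885 IH) (Lpr_ef (f446940 IH) (Lpr_ff (f446948 IH) (Lpe (f446944 IH) (Lpn (LP (LK LD1_c0 LD2_c48 LD3_c45))))))))
theorem f10931 : Led Lsl_dt (LP (LK LD1_c0 LD2_c48 LD3_c48)) = (LP (LK LD1_c1 LD2_c44 LD3_c24)) :=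
  Lre_d IH (LK LD1_c0 LD2_c48 LD3_c48) (LK LD1_c1 LD2_c44 LD3_c24) Lrfl Lrfl
theorem f434783 : Led Lsl_ct (LP (LK LD1_c1 LD2_c44 LD3_c24)) = (LP (LK LD1_c3 LD2_c35 LD3_c11)) :=
  Lre_c IH (LK LD1_c1 LD2_c44 LD3_c24) (LK LD1_c3 LD2_c35 LD3_c11) Lrfl Lrfl
theorem f434784 : Led Lsl_dt (LP (LK LD1_c3 LD2_c35 LD3_c11)) = (LP (LK LD1_c7 LD2_c11 LD3_c25)) :=
  Lre_d IH (LK LD1_c3 LD2_c35 LD3_c11) (LK LD1_c7 LD2_c11 LD3_c25) Lrfl Lrfl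
theorem f430176 : Led Lsl_dt (LP (LK LD1_c7 LD2_c11 LD3_c23)) = (LP (LK LD1_c3 LD2_c35 LD3_c8)) :=
  Lre_d IH (LK LD1_c7 LD2_c11 LD3_c23) (LK LD1_c3 LD2_c35 LD3_c8) Lrfl Lrfl
theorem f446958 : Led Lsl_ct (LP (LK LD1_c7 LD2_c11 LD3_c25)) = (LP (LK LD1_c7 LD2_c11 LD3_c23)) :=
  Lgr Lrot41 (Lpe (f434784 IH) (Lpe (f434783 IH) (Lpe (f10931 IH) (Lpr_ft (f446952 IH) (Lpr_at (f154370 IH) (Lpe (K7.f10373 IH) (Lpe (K11.f10374 IH) (Lpe (K11.f154373 IH) (Lpe (f430176 IH) (Lpn (LP (LK LD1_c7 LD2_c11 LD3_c23))))))))))))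
theorem f155019 : Led Lsl_at (LP (LK LD1_c0 LD2_c41 LD3_c52)) = (LP (LK LD1_c1 LD2_c30 LD3_c43)) :=
  Lre_a IH (LK LD1_c0 LD2_c41 LD3_c52) (LK LD1_c1 LD2_c30 LD3_c43) Lrfl Lrfl
theorem f155020 : Led Lsl_ct (LP (LK LD1_c1 LD2_c30 LD3_c43)) = (LP (LK LD1_c0 LD2_c48 LD3_c48)) :=
  Lgr Lrot111 (Lpe (f155019 IH) (Lpr_cf (K7.f155009 IH) (Lpe (f10924 IH) (Lpn (LP (LK LD1_c0 LD2_c48 LD3_c48))))))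
theorem f434781 : Led Lsl_dt (LP (LK LD1_c3 LD2_c9 LD3_c5)) = (LP (LK LD1_c1 LD2_c30 LD3_c43)) :=
  Lre_d IH (LK LD1_c3 LD2_c9 LD3_c5) (LK LD1_c1 LD2_c30 LD3_c43) Lrfl Lrfl
theorem f430367 : Led Lsl_at (LP (LK LD1_c3 LD2_c35 LD3_c7)) = (LP (LK LD1_c1 LD2_c44 LD3_c22)) :=
  Lre_a IH (LK LD1_c3 LD2_c35 LD3_c7) (LK LD1_c1 LD2_c44 LD3_c22) Lrfl Lrfl
theorem f446970 : Led Lsl_ft (LP (LK LD1_c3 LD2_c9 LD3_c5)) = (LP (LK LD1_c3 LD2_c35 LD3_c7)) :=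
  Lgr Lrot142 (Lpr_dt (f434781 IH) (Lpr_ct (f155020 IH) (Lpr_dt (f10931 IH) (Lpr_ct (f434783 IH) (Lpr_dt (f434784 IH) (Lpr_ct (f446958 IH) (Lpr_dt (f430176 IH) (Lpr_ct (K11.f154373 IH) (Lpe (f430367 IH) (Lpn (LP (LK LD1_c3 LD2_c35 LD3_c7))))))))))))
theorem f446978 : Led Lsl_gt (LP (LK LD1_c3 LD2_c9 LD3_c5)) = (LP (LK LD1_c3 LD2_c23 LD3_c59)) :=
  Lgr Lrot5 (Lpr_ft (f446970 IH) (Lpr_at (f430367 IH) (Lpe (K11.f430184 IH) (Lpn (LP (LK LD1_c3 LD2_c23 LD3_c59))))))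
theorem f434789 : Led Lsl_dt (LP (LK LD1_c1 LD2_c30 LD3_c43)) = (LP (LK LD1_c3 LD2_c9 LD3_c5)) :=
  Lre_d IH (LK LD1_c1 LD2_c30 LD3_c43) (LK LD1_c3 LD2_c9 LD3_c5) Lrfl Lrfl
theorem f431700 : Led Lsl_et (LP (LK LD1_c3 LD2_c9 LD3_c4)) = (LP (LK LD1_c6 LD2_c22 LD3_c46)) :=
  Lre_e IH (LK LD1_c3 LD2_c9 LD3_c4) (LK LD1_c6 LD2_c22 LD3_c46) Lrfl Lrfl
theorem f431745 : Led Lsl_af (LP (LK LD1_c6 LD2_c27 LD3_c32)) = (LP (LK LD1_c6 LD2_c22 LD3_c46)) :=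
  Lgr Lrot50 (Lpr_et (K11.f83643 IH) (Lpr_at (K33.f431703 IH) (Lpr_et (f431700 IH) (Lpn (LP (LK LD1_c6 LD2_c22 LD3_c46))))))
theorem f94177 : Led Lsl_et (LP (LK LD1_c13 LD2_c2 LD3_c7)) = (LP (LK LD1_c6 LD2_c50 LD3_c58)) :=
  Lre_e IH (LK LD1_c13 LD2_c2 LD3_c7) (LK LD1_c6 LD2_c50 LD3_c58) Lrfl Lrfl
theorem f154834 : Led Lsl_et (LP (LK LD1_c6 LD2_c22 LD3_c49)) = (LP (LK LD1_c12 LD2_c19 LD3_c6)) :=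
  Lre_e IH (LK LD1_c6 LD2_c22 LD3_c49) (LK LD1_c12 LD2_c19 LD3_c6) Lrfl Lrfl
theorem f154870 : Led Lsl_af (LP (LK LD1_c13 LD2_c2 LD3_c7)) = (LP (LK LD1_c12 LD2_c19 LD3_c6)) :=
  Lgr Lrot50 (Lpr_et (f94177 IH) (Lpr_at (K7.f154868 IH) (Lpr_et (f154834 IH) (Lpn (LP (LK LD1_c12 LD2_c19 LD3_c6))))))
theorem f154880 : Led Lsl_ct (LP (LK LD1_c13 LD2_c2 LD3_c7)) = (LP (LK LD1_c6 LD2_c50 LD3_c59)) :=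
  Lre_c IH (LK LD1_c13 LD2_c2 LD3_c7) (LK LD1_c6 LD2_c50 LD3_c59) Lrfl Lrfl
theorem f154881 : Led Lsl_ct (LP (LK LD1_c6 LD2_c22 LD3_c50)) = (LP (LK LD1_c12 LD2_c19 LD3_c6)) :=
  Lre_c IH (LK LD1_c6 LD2_c22 LD3_c50) (LK LD1_c12 LD2_c19 LD3_c6) Lrfl Lrfl
theorem f154882 : Led Lsl_at (LP (LK LD1_c6 LD2_c50 LD3_c59)) = (LP (LK LD1_c6 LD2_c22 LD3_c50)) :=
  Lgr Lrot107 (Lpe (f154880 IH) (Lpr_af (f154870 IH) (Lpe (f154881 IH) (Lpn (LP (LK LD1_c6 LD2_c22 LD3_c50))))))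
theorem f154885 : Led Lsl_af (LP (LK LD1_c6 LD2_c50 LD3_c59)) = (LP (LK LD1_c6 LD2_c22 LD3_c50)) :=
  Lgr Lrot0 (Lpr_at (f154882 IH) (Lpn (LP (LK LD1_c6 LD2_c22 LD3_c50))))
theorem f431764 : Led Lsl_dt (LP (LK LD1_c6 LD2_c50 LD3_c59)) = (LP (LK LD1_c6 LD2_c22 LD3_c46)) :=
  Lgr Lrot44 (Lpr_af (f154885 IH) (Lpr_df (K11.f429662 IH) (Lpr_af (f431745 IH) (Lpn (LP (LK LD1_c6 LD2_c22 LD3_c46))))))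
theorem f431766 : Led Lsl_df (LP (LK LD1_c6 LD2_c50 LD3_c59)) = (LP (LK LD1_c6 LD2_c22 LD3_c46)) :=
  Lgr Lrot38 (Lpr_dt (f431764 IH) (Lpn (LP (LK LD1_c6 LD2_c22 LD3_c46))))
theorem f94168 : Led Lsl_et (LP (LK LD1_c6 LD2_c50 LD3_c59)) = (LP (LK LD1_c3 LD2_c23 LD3_c59)) :=
  Lre_e IH (LK LD1_c6 LD2_c50 LD3_c59) (LK LD1_c3 LD2_c23 LD3_c59) Lrfl Lrfl
theorem f431769 : Led Lsl_et (LP (LK LD1_c1 LD2_c38 LD3_c16)) = (LP (LK LD1_c1 LD2_c30 LD3_c42)) :=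
  Lgr Lrot71 (Lpe (K11.f76750 IH) (Lpe (f94168 IH) (Lpr_df (f431766 IH) (Lpe (f431700 IH) (Lpe (K33.f154959 IH) (Lpn (LP (LK LD1_c1 LD2_c30 LD3_c42))))))))
theorem f67146 : Led Lsl_ef (LP (LK LD1_c0 LD2_c41 LD3_c52)) = (LP (LK LD1_c0 LD2_c41 LD3_c52)) :=
  Lgr Lrot29 (Lpr_bt (K11.f67145 IH) (Lpr_et (K1.f67141 IH) (Lpr_bt (K7.f67138 IH) (Lpn (LP (LK LD1_c0 LD2_c41 LD3_c52))))))
theorem f446984 : Led Lsl_gf (LP (LK LD1_c1 LD2_c30 LD3_c43)) = (LP (LK LD1_c1 LD2_c44 LD3_c21)) :=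
  Lgr Lrot138 (Lpr_dt (f434789 IH) (Lpr_gt (f446978 IH) (Lpe (K6.f76745 IH) (Lpr_et (f431769 IH) (Lpr_gt (K7.f154813 IH) (Lpr_ef (f67146 IH) (Lpr_dt (K33.f154672 IH) (Lpr_gt (K7.f154796 IH) (Lpe (K7.f154808 IH) (Lpr_et (K11.f429664 IH) (Lpn (LP (LK LD1_c1 LD2_c44 LD3_c21)))))))))))))
theorem f429051 : Led Lsl_ft (LP (LK LD1_c1 LD2_c44 LD3_c21)) = (LP (LK LD1_c1 LD2_c29 LD3_c31)) :=
  Lgr Lrot4 (Lpr_cf (K7.f429047 IH) (Lpe (K3.f19419 IH) (Lpe (K2.f90106 IH) (Lpn (LP (LK LD1_c1 LD2_c29 LD3_c31))))))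
theorem f446986 : Led Lsl_gt (LP (LK LD1_c1 LD2_c30 LD3_c43)) = (LP (LK LD1_c1 LD2_c40 LD3_c54)) :=
  Lgr Lrot46 (Lpr_gf (f446984 IH) (Lpr_ft (f429051 IH) (Lpr_at (K2.f90132 IH) (Lpn (LP (LK LD1_c1 LD2_c40 LD3_c54))))))
theorem f434779 : Led Lsl_cf (LP (LK LD1_c1 LD2_c30 LD3_c43)) = (LP (LK LD1_c0 LD2_c48 LD3_c48)) :=
  Lgr Lrot11 (Lpr_ct (f155020 IH) (Lpn (LP (LK LD1_c0 LD2_c48 LD3_c48))))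
theorem f76765 : Led Lsl_ct (LP (LK LD1_c3 LD2_c28 LD3_c30)) = (LP (LK LD1_c1 LD2_c40 LD3_c57)) :=
  Lre_c IH (LK LD1_c3 LD2_c28 LD3_c30) (LK LD1_c1 LD2_c40 LD3_c57) Lrfl Lrfl
theorem f446995 : Led Lsl_gf (LP (LK LD1_c0 LD2_c48 LD3_c48)) = (LP (LK LD1_c0 LD2_c48 LD3_c44)) :=
  Lgr Lrot147 (Lpe (f434779 IH) (Lpr_gt (f446986 IH) (Lpr_ct (K2.f76779 IH) (Lpe (K3.f76764 IH) (Lpe (f76765 IH) (Lpe (K3.f85614 IH) (Lpe (K3.f9832 IH) (Lpe (K3.f19331 IH) (Lpe (K7.f430098 IH) (Lpn (LP (LK LD1_c0 LD2_c48 LD3_c44))))))))))))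
theorem f434782 : Led Lsl_ct (LP (LK LD1_c6 LD2_c22 LD3_c47)) = (LP (LK LD1_c3 LD2_c9 LD3_c5)) :=
  Lre_c IH (LK LD1_c6 LD2_c22 LD3_c47) (LK LD1_c3 LD2_c9 LD3_c5) Lrfl Lrfl
theorem f446997 : Led Lsl_gf (LP (LK LD1_c6 LD2_c22 LD3_c47)) = (LP (LK LD1_c6 LD2_c57 LD3_c56)) :=
  Lgr Lrot104 (Lpr_ct (f434782 IH) (Lpe (f434789 IH) (Lpr_cf (f434779 IH) (Lpr_gf (f446995 IH) (Lpe (K7.f430102 IH) (Lpr_gf (K11.f430108 IH) (Lpe (f209563 IH) (Lpe (K11.f154740 IH) (Lpr_ct (K11.f105944 IH) (Lpn (LP (LK LD1_c6 LD2_c57 LD3_c56))))))))))))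
theorem f154715 : Led Lsl_ft (LP (LK LD1_c6 LD2_c57 LD3_c56)) = (LP (LK LD1_c6 LD2_c22 LD3_c51)) :=
  Lgr Lrot48 (Lpr_ff (K11.f154706 IH) (Lpn (LP (LK LD1_c6 LD2_c22 LD3_c51))))
theorem f154698 : Led Lsl_af (LP (LK LD1_c6 LD2_c57 LD3_c57)) = (LP (LK LD1_c6 LD2_c22 LD3_c51)) :=
  Lgr Lrot68 (Lpr_ct (K7.f19175 IH) (Lpr_at (K7.f126089 IH) (Lpr_ct (K7.f154696 IH) (Lpn (LP (LK LD1_c6 LD2_c22 LD3_c51))))))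
theorem f447001 : Led Lsl_gt (LP (LK LD1_c6 LD2_c22 LD3_c47)) = (LP (LK LD1_c6 LD2_c57 LD3_c57)) :=
  Lgr Lrot46 (Lpr_gf (f446997 IH) (Lpr_ft (f154715 IH) (Lpe (f154698 IH) (Lpn (LP (LK LD1_c6 LD2_c57 LD3_c57))))))
theorem f430375 : Led Lsl_at (LP (LK LD1_c7 LD2_c11 LD3_c21)) = (LP (LK LD1_c3 LD2_c35 LD3_c8)) :=
  Lre_a IH (LK LD1_c7 LD2_c11 LD3_c21) (LK LD1_c3 LD2_c35 LD3_c8) Lrfl Lrfl
theorem f447005 : Led Lsl_ft (LP (LK LD1_c6 LD2_c22 LD3_c47)) = (LP (LK LD1_c7 LD2_c11 LD3_c21)) :=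
  Lgr Lrot2 (Lpr_gt (f447001 IH) (Lpr_gt (K11.f430371 IH) (Lpe (f430375 IH) (Lpn (LP (LK LD1_c7 LD2_c11 LD3_c21))))))
theorem f447003 : Led Lsl_bt (LP (LK LD1_c12 LD2_c19 LD3_c0)) = (LP (LK LD1_c6 LD2_c22 LD3_c47)) :=
  Lre_b IH (LK LD1_c12 LD2_c19 LD3_c0) (LK LD1_c6 LD2_c22 LD3_c47) Lrfl Lrfl
theorem f446898 : Led Lsl_bt (LP (LK LD1_c7 LD2_c11 LD3_c21)) = (LP (LK LD1_c13 LD2_c37 LD3_c12)) :=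
  Lre_b IH (LK LD1_c7 LD2_c11 LD3_c21) (LK LD1_c13 LD2_c37 LD3_c12) Lrfl Lrfl
theorem f447007 : Led Lsl_ff (LP (LK LD1_c12 LD2_c19 LD3_c0)) = (LP (LK LD1_c13 LD2_c37 LD3_c12)) :=
  Lgr Lrot25 (Lpr_bt (f447003 IH) (Lpr_ft (f447005 IH) (Lpr_bt (f446898 IH) (Lpn (LP (LK LD1_c13 LD2_c37 LD3_c12))))))
theorem f447014 : Led Lsl_ft (LP (LK LD1_c12 LD2_c19 LD3_c0)) = (LP (LK LD1_c13 LD2_c37 LD3_c12)) :=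
  Lgr Lrot48 (Lpr_ff (f447007 IH) (Lpn (LP (LK LD1_c13 LD2_c37 LD3_c12))))
theorem f447018 : Led Lsl_at (LP (LK LD1_c21 LD2_c25 LD3_c4)) = (LP (LK LD1_c12 LD2_c19 LD3_c0)) :=
  Lre_a IH (LK LD1_c21 LD2_c25 LD3_c4) (LK LD1_c12 LD2_c19 LD3_c0) Lrfl Lrfl
theorem f447019 : Led Lsl_at (LP (LK LD1_c13 LD2_c37 LD3_c12)) = (LP (LK LD1_c23 LD2_c1 LD3_c53)) :=
  Lre_a IH (LK LD1_c13 LD2_c37 LD3_c12) (LK LD1_c23 LD2_c1 LD3_c53) Lrfl Lrfl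
theorem f447020 : Led Lsl_ff (LP (LK LD1_c21 LD2_c25 LD3_c4)) = (LP (LK LD1_c23 LD2_c1 LD3_c53)) :=
  Lgr Lrot30 (Lpr_at (f447018 IH) (Lpr_ft (f447014 IH) (Lpr_at (f447019 IH) (Lpn (LP (LK LD1_c23 LD2_c1 LD3_c53))))))
theorem f447024 : Led Lsl_bt (LP (LK LD1_c21 LD2_c25 LD3_c4)) = (LP (LK LD1_c12 LD2_c19 LD3_c14)) :=
  Lre_b IH (LK LD1_c21 LD2_c25 LD3_c4) (LK LD1_c12 LD2_c19 LD3_c14) Lrfl Lrfl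
theorem f430366 : Led Lsl_bt (LP (LK LD1_c13 LD2_c37 LD3_c15)) = (LP (LK LD1_c23 LD2_c1 LD3_c53)) :=
  Lre_b IH (LK LD1_c13 LD2_c37 LD3_c15) (LK LD1_c23 LD2_c1 LD3_c53) Lrfl Lrfl
theorem f447025 : Led Lsl_ft (LP (LK LD1_c12 LD2_c19 LD3_c14)) = (LP (LK LD1_c13 LD2_c37 LD3_c15)) :=
  Lgr Lrot75 (Lpe (f447024 IH) (Lpr_ff (f447020 IH) (Lpe (f430366 IH) (Lpn (LP (LK LD1_c13 LD2_c37 LD3_c15))))))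
theorem f434589 : Led Lsl_dt (LP (LK LD1_c12 LD2_c19 LD3_c14)) = (LP (LK LD1_c21 LD2_c25 LD3_c23)) :=
  Lre_d IH (LK LD1_c12 LD2_c19 LD3_c14) (LK LD1_c21 LD2_c25 LD3_c23) Lrfl Lrfl
theorem f430312 : Led Lsl_at (LP (LK LD1_c13 LD2_c37 LD3_c15)) = (LP (LK LD1_c7 LD2_c11 LD3_c22)) :=
  Lre_a IH (LK LD1_c13 LD2_c37 LD3_c15) (LK LD1_c7 LD2_c11 LD3_c22) Lrfl Lrfl
theorem f430186 : Led Lsl_bt (LP (LK LD1_c1 LD2_c6 LD3_c15)) = (LP (LK LD1_c1 LD2_c44 LD3_c22)) :=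
  Lgr Lrot130 (Lpr_ct (K6.f61258 IH) (Lpr_gf (K6.f135468 IH) (Lpe (K6.f87603 IH) (Lpr_bt (K7.f121385 IH) (Lpr_gf (K7.f156009 IH) (Lpe (K7.f156013 IH) (Lpr_ct (K7.f156014 IH) (Lpr_gf (K7.f156015 IH) (Lpe (K7.f7331 IH) (Lpr_gf (K11.f430182 IH) (Lpn (LP (LK LD1_c1 LD2_c44 LD3_c22)))))))))))))
theorem f86413 : Led Lsl_bt (LP (LK LD1_c4 LD2_c42 LD3_c16)) = (LP (LK LD1_c2 LD2_c18 LD3_c28)) :=
  Lre_b IH (LK LD1_c4 LD2_c42 LD3_c16) (LK LD1_c2 LD2_c18 LD3_c28) Lrfl Lrfl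
theorem f430178 : Led Lsl_bt (LP (LK LD1_c3 LD2_c35 LD3_c8)) = (LP (LK LD1_c7 LD2_c11 LD3_c22)) :=
  Lre_b IH (LK LD1_c3 LD2_c35 LD3_c8) (LK LD1_c7 LD2_c11 LD3_c22) Lrfl Lrfl
theorem f430310 : Led Lsl_cf (LP (LK LD1_c4 LD2_c42 LD3_c16)) = (LP (LK LD1_c7 LD2_c11 LD3_c22)) :=
  Lgr Lrot97 (Lpr_bt (f86413 IH) (Lpr_ct (K6.f61259 IH) (Lpr_bt (f430186 IH) (Lpr_ct (K11.f430177 IH) (Lpr_bt (f430178 IH) (Lpn (LP (LK LD1_c7 LD2_c11 LD3_c22))))))))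
theorem f430315 : Led Lsl_ct (LP (LK LD1_c4 LD2_c42 LD3_c16)) = (LP (LK LD1_c7 LD2_c11 LD3_c22)) :=
  Lgr Lrot59 (Lpr_cf (f430310 IH) (Lpn (LP (LK LD1_c7 LD2_c11 LD3_c22))))
theorem f25834 : Led Lsl_bt (LP (LK LD1_c1 LD2_c30 LD3_c40)) = (LP (LK LD1_c3 LD2_c9 LD3_c1)) :=
  Lre_b IH (LK LD1_c1 LD2_c30 LD3_c40) (LK LD1_c3 LD2_c9 LD3_c1) Lrfl Lrfl
theorem f135306 : Led Lsl_df (LP (LK LD1_c4 LD2_c42 LD3_c16)) = (LP (LK LD1_c3 LD2_c9 LD3_c1)) :=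
  Lgr Lrot12 (Lpr_bt (f86413 IH) (Lpr_dt (K6.f135301 IH) (Lpr_bt (f25834 IH) (Lpn (LP (LK LD1_c3 LD2_c9 LD3_c1))))))
theorem f84522 : Led Lsl_ct (LP (LK LD1_c6 LD2_c22 LD3_c37)) = (LP (LK LD1_c3 LD2_c9 LD3_c1)) :=
  Lre_c IH (LK LD1_c6 LD2_c22 LD3_c37) (LK LD1_c3 LD2_c9 LD3_c1) Lrfl Lrfl
theorem f84523 : Led Lsl_dt (LP (LK LD1_c12 LD2_c18 LD3_c45)) = (LP (LK LD1_c6 LD2_c22 LD3_c37)) :=
  Lre_d IH (LK LD1_c12 LD2_c18 LD3_c45) (LK LD1_c6 LD2_c22 LD3_c37) Lrfl Lrfl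
theorem f135312 : Led Lsl_ct (LP (LK LD1_c21 LD2_c24 LD3_c38)) = (LP (LK LD1_c12 LD2_c18 LD3_c45)) :=
  Lre_c IH (LK LD1_c21 LD2_c24 LD3_c38) (LK LD1_c12 LD2_c18 LD3_c45) Lrfl Lrfl
theorem f135313 : Led Lsl_dt (LP (LK LD1_c30 LD2_c0 LD3_c37)) = (LP (LK LD1_c21 LD2_c24 LD3_c38)) :=
  Lre_d IH (LK LD1_c30 LD2_c0 LD3_c37) (LK LD1_c21 LD2_c24 LD3_c38) Lrfl Lrfl
theorem f447037 : Led Lsl_ct (LP (LK LD1_c21 LD2_c25 LD3_c23)) = (LP (LK LD1_c30 LD2_c0 LD3_c37)) :=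
  Lgr Lrot133 (Lpe (f434589 IH) (Lpr_ft (f447025 IH) (Lpr_at (f430312 IH) (Lpe (f430315 IH) (Lpr_df (f135306 IH) (Lpe (f84522 IH) (Lpe (f84523 IH) (Lpe (f135312 IH) (Lpe (f135313 IH) (Lpn (LP (LK LD1_c30 LD2_c0 LD3_c37))))))))))))
theorem f434588 : Led Lsl_ct (LP (LK LD1_c6 LD2_c22 LD3_c61)) = (LP (LK LD1_c12 LD2_c19 LD3_c14)) :=
  Lre_c IH (LK LD1_c6 LD2_c22 LD3_c61) (LK LD1_c12 LD2_c19 LD3_c14) Lrfl Lrfl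
theorem f152245 : Led Lsl_bt (LP (LK LD1_c4 LD2_c42 LD3_c20)) = (LP (LK LD1_c2 LD2_c18 LD3_c32)) :=
  Lre_b IH (LK LD1_c4 LD2_c42 LD3_c20) (LK LD1_c2 LD2_c18 LD3_c32) Lrfl Lrfl
theorem f67160 : Led Lsl_bt (LP (LK LD1_c1 LD2_c30 LD3_c45)) = (LP (LK LD1_c3 LD2_c9 LD3_c9)) :=
  Lre_b IH (LK LD1_c1 LD2_c30 LD3_c45) (LK LD1_c3 LD2_c9 LD3_c9) Lrfl Lrfl
theorem f155866 : Led Lsl_df (LP (LK LD1_c4 LD2_c42 LD3_c20)) = (LP (LK LD1_c3 LD2_c9 LD3_c9)) :=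
  Lgr Lrot12 (Lpr_bt (f152245 IH) (Lpr_dt (K7.f155832 IH) (Lpr_bt (f67160 IH) (Lpn (LP (LK LD1_c3 LD2_c9 LD3_c9))))))
theorem f434554 : Led Lsl_at (LP (LK LD1_c4 LD2_c42 LD3_c20)) = (LP (LK LD1_c9 LD2_c19 LD3_c2)) :=
  Lre_a IH (LK LD1_c4 LD2_c42 LD3_c20) (LK LD1_c9 LD2_c19 LD3_c2) Lrfl Lrfl
theorem f434555 : Led Lsl_at (LP (LK LD1_c6 LD2_c22 LD3_c61)) = (LP (LK LD1_c3 LD2_c9 LD3_c9)) :=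
  Lre_a IH (LK LD1_c6 LD2_c22 LD3_c61) (LK LD1_c3 LD2_c9 LD3_c9) Lrfl Lrfl
theorem f434556 : Led Lsl_dt (LP (LK LD1_c9 LD2_c19 LD3_c2)) = (LP (LK LD1_c6 LD2_c22 LD3_c61)) :=
  Lgr Lrot44 (Lpe (f434554 IH) (Lpr_df (f155866 IH) (Lpe (f434555 IH) (Lpn (LP (LK LD1_c6 LD2_c22 LD3_c61))))))
theorem f434584 : Led Lsl_ct (LP (LK LD1_c17 LD2_c14 LD3_c16)) = (LP (LK LD1_c9 LD2_c19 LD3_c2)) :=
  Lre_c IH (LK LD1_c17 LD2_c14 LD3_c16) (LK LD1_c9 LD2_c19 LD3_c2) Lrfl Lrfl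
theorem f434583 : Led Lsl_dt (LP (LK LD1_c27 LD2_c4 LD3_c31)) = (LP (LK LD1_c17 LD2_c14 LD3_c16)) :=
  Lre_d IH (LK LD1_c27 LD2_c4 LD3_c31) (LK LD1_c17 LD2_c14 LD3_c16) Lrfl Lrfl
theorem f447048 : Led Lsl_at (LP (LK LD1_c21 LD2_c24 LD3_c37)) = (LP (LK LD1_c12 LD2_c18 LD3_c45)) :=
  Lre_a IH (LK LD1_c21 LD2_c24 LD3_c37) (LK LD1_c12 LD2_c18 LD3_c45) Lrfl Lrfl
theorem f447049 : Led Lsl_ft (LP (LK LD1_c27 LD2_c4 LD3_c31)) = (LP (LK LD1_c21 LD2_c24 LD3_c37)) :=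
  Lgr Lrot142 (Lpr_dt (f434583 IH) (Lpr_ct (f434584 IH) (Lpr_dt (f434556 IH) (Lpr_ct (f434588 IH) (Lpr_dt (f434589 IH) (Lpr_ct (f447037 IH) (Lpr_dt (f135313 IH) (Lpr_ct (f135312 IH) (Lpe (f447048 IH) (Lpn (LP (LK LD1_c21 LD2_c24 LD3_c37))))))))))))
theorem f447059 : Led Lsl_ff (LP (LK LD1_c27 LD2_c4 LD3_c31)) = (LP (LK LD1_c21 LD2_c24 LD3_c37)) :=
  Lgr Lrot3 (Lpr_ft (f447049 IH) (Lpn (LP (LK LD1_c21 LD2_c24 LD3_c37))))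
theorem f135324 : Led Lsl_dt (LP (LK LD1_c12 LD2_c18 LD3_c44)) = (LP (LK LD1_c21 LD2_c24 LD3_c37)) :=
  Lre_d IH (LK LD1_c12 LD2_c18 LD3_c44) (LK LD1_c21 LD2_c24 LD3_c37) Lrfl Lrfl
theorem f447069 : Led Lsl_ft (LP (LK LD1_c17 LD2_c14 LD3_c16)) = (LP (LK LD1_c12 LD2_c18 LD3_c44)) :=
  Lgr Lrot54 (Lpe (f434583 IH) (Lpr_ff (f447059 IH) (Lpe (f135324 IH) (Lpn (LP (LK LD1_c12 LD2_c18 LD3_c44))))))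
theorem f135342 : Led Lsl_at (LP (LK LD1_c12 LD2_c18 LD3_c44)) = (LP (LK LD1_c6 LD2_c22 LD3_c37)) :=
  Lre_a IH (LK LD1_c12 LD2_c18 LD3_c44) (LK LD1_c6 LD2_c22 LD3_c37) Lrfl Lrfl
theorem f84525 : Led Lsl_gt (LP (LK LD1_c12 LD2_c18 LD3_c43)) = (LP (LK LD1_c6 LD2_c22 LD3_c37)) :=
  Lre_g IH (LK LD1_c12 LD2_c18 LD3_c43) (LK LD1_c6 LD2_c22 LD3_c37) Lrfl Lrfl
theorem f447080 : Led Lsl_gt (LP (LK LD1_c17 LD2_c14 LD3_c16)) = (LP (LK LD1_c12 LD2_c18 LD3_c43)) :=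
  Lgr Lrot5 (Lpr_ft (f447069 IH) (Lpr_at (f135342 IH) (Lpe (f84525 IH) (Lpn (LP (LK LD1_c12 LD2_c18 LD3_c43))))))
theorem f434575 : Led Lsl_ct (LP (LK LD1_c9 LD2_c19 LD3_c2)) = (LP (LK LD1_c17 LD2_c14 LD3_c16)) :=
  Lre_c IH (LK LD1_c9 LD2_c19 LD3_c2) (LK LD1_c17 LD2_c14 LD3_c16) Lrfl Lrfl
theorem f133460 : Led Lsl_bt (LP (LK LD1_c17 LD2_c28 LD3_c5)) = (LP (LK LD1_c9 LD2_c28 LD3_c19)) :=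
  Lre_b IH (LK LD1_c17 LD2_c28 LD3_c5) (LK LD1_c9 LD2_c28 LD3_c19) Lrfl Lrfl
theorem f133461 : Led Lsl_ct (LP (LK LD1_c27 LD2_c18 LD3_c18)) = (LP (LK LD1_c17 LD2_c28 LD3_c5)) :=
  Lre_c IH (LK LD1_c27 LD2_c18 LD3_c18) (LK LD1_c17 LD2_c28 LD3_c5) Lrfl Lrfl
theorem f77939 : Led Lsl_bt (LP (LK LD1_c6 LD2_c18 LD3_c7)) = (LP (LK LD1_c12 LD2_c12 LD3_c23)) :=
  Lre_b IH (LK LD1_c6 LD2_c18 LD3_c7) (LK LD1_c12 LD2_c12 LD3_c23) Lrfl Lrfl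
theorem f77949 : Led Lsl_gt (LP (LK LD1_c12 LD2_c12 LD3_c23)) = (LP (LK LD1_c21 LD2_c18 LD3_c14)) :=
  Lre_g IH (LK LD1_c12 LD2_c12 LD3_c23) (LK LD1_c21 LD2_c18 LD3_c14) Lrfl Lrfl
theorem f431447 : Led Lsl_df (LP (LK LD1_c27 LD2_c18 LD3_c18)) = (LP (LK LD1_c21 LD2_c18 LD3_c14)) :=
  Lgr Lrot183 (Lpr_ct (f133461 IH) (Lpr_bt (f133460 IH) (Lpr_gt (K11.f431437 IH) (Lpr_dt (K11.f153425 IH) (Lpr_ct (K7.f153416 IH) (Lpr_bt (K7.f135516 IH) (Lpe (K7.f152178 IH) (Lpr_dt (K7.f25700 IH) (Lpr_ct (K7.f146201 IH) (Lpr_bt (K7.f20920 IH) (Lpe (K6.f146213 IH) (Lpr_dt (K0.f7302 IH) (Lpr_ct (K2.f67155 IH) (Lpr_bt (K2.f67355 IH) (Lpr_gt (K3.f79389 IH) (Lpr_dt (K5.f77799 IH) (Lpr_ct (K7.f77938 IH) (Lpr_bt (f77939 IH) (Lpr_gt (f77949 IH) (Lpn (LP (LK LD1_c21 LD2_c18 LD3_c14))))))))))))))))))))))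
theorem f431452 : Led Lsl_dt (LP (LK LD1_c27 LD2_c18 LD3_c18)) = (LP (LK LD1_c21 LD2_c18 LD3_c14)) :=
  Lgr Lrot42 (Lpr_df (f431447 IH) (Lpn (LP (LK LD1_c21 LD2_c18 LD3_c14))))
theorem f152203 : Led Lsl_ct (LP (LK LD1_c2 LD2_c18 LD3_c31)) = (LP (LK LD1_c4 LD2_c42 LD3_c18)) :=
  Lre_c IH (LK LD1_c2 LD2_c18 LD3_c31) (LK LD1_c4 LD2_c42 LD3_c18) Lrfl Lrfl
theorem f153091 : Led Lsl_dt (LP (LK LD1_c9 LD2_c18 LD3_c58)) = (LP (LK LD1_c4 LD2_c42 LD3_c18)) :=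
  Lre_d IH (LK LD1_c9 LD2_c18 LD3_c58) (LK LD1_c4 LD2_c42 LD3_c18) Lrfl Lrfl
theorem f430712 : Led Lsl_gf (LP (LK LD1_c9 LD2_c18 LD3_c58)) = (LP (LK LD1_c12 LD2_c27 LD3_c10)) :=
  Lgr Lrot143 (Lpr_dt (f153091 IH) (Lpe (f152203 IH) (Lpe (K11.f152275 IH) (Lpe (K11.f82869 IH) (Lpr_df (K11.f430700 IH) (Lpe (K5.f67907 IH) (Lpe (K2.f25130 IH) (Lpr_gt (K46.f67815 IH) (Lpr_dt (K11.f67817 IH) (Lpn (LP (LK LD1_c12 LD2_c27 LD3_c10))))))))))))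
theorem f153036 : Led Lsl_ct (LP (LK LD1_c4 LD2_c42 LD3_c18)) = (LP (LK LD1_c2 LD2_c18 LD3_c31)) :=
  Lre_c IH (LK LD1_c4 LD2_c42 LD3_c18) (LK LD1_c2 LD2_c18 LD3_c31) Lrfl Lrfl
theorem f152202 : Led Lsl_bt (LP (LK LD1_c2 LD2_c18 LD3_c31)) = (LP (LK LD1_c1 LD2_c6 LD3_c17)) :=
  Lre_b IH (LK LD1_c2 LD2_c18 LD3_c31) (LK LD1_c1 LD2_c6 LD3_c17) Lrfl Lrfl
theorem f82469 : Led Lsl_bt (LP (LK LD1_c0 LD2_c42 LD3_c34)) = (LP (LK LD1_c0 LD2_c19 LD3_c1)) :=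
  Lre_b IH (LK LD1_c0 LD2_c42 LD3_c34) (LK LD1_c0 LD2_c19 LD3_c1) Lrfl Lrfl
theorem f82470 : Led Lsl_bt (LP (LK LD1_c0 LD2_c30 LD3_c37)) = (LP (LK LD1_c1 LD2_c6 LD3_c50)) :=
  Lre_b IH (LK LD1_c0 LD2_c30 LD3_c37) (LK LD1_c1 LD2_c6 LD3_c50) Lrfl Lrfl
theorem f82472 : Led Lsl_bt (LP (LK LD1_c0 LD2_c8 LD3_c33)) = (LP (LK LD1_c0 LD2_c13 LD3_c36)) :=
  Lgr Lrot128 (Lpe (K16.f25909 IH) (Lpe (f82469 IH) (Lpr_cf (K7.f82455 IH) (Lpe (f82470 IH) (Lpe (K7.f82471 IH) (Lpn (LP (LK LD1_c0 LD2_c13 LD3_c36))))))))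
theorem f7477 : Led Lsl_bt (LP (LK LD1_c4 LD2_c47 LD3_c32)) = (LP (LK LD1_c9 LD2_c28 LD3_c6)) :=
  Lre_b IH (LK LD1_c4 LD2_c47 LD3_c32) (LK LD1_c9 LD2_c28 LD3_c6) Lrfl Lrfl
theorem f7478 : Led Lsl_gt (LP (LK LD1_c9 LD2_c28 LD3_c6)) = (LP (LK LD1_c17 LD2_c27 LD3_c42)) :=
  Lre_g IH (LK LD1_c9 LD2_c28 LD3_c6) (LK LD1_c17 LD2_c27 LD3_c42) Lrfl Lrfl
theorem f7479 : Led Lsl_dt (LP (LK LD1_c17 LD2_c27 LD3_c42)) = (LP (LK LD1_c27 LD2_c17 LD3_c45)) :=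
  Lre_d IH (LK LD1_c17 LD2_c27 LD3_c42) (LK LD1_c27 LD2_c17 LD3_c45) Lrfl Lrfl
theorem f133887 : Led Lsl_bt (LP (LK LD1_c21 LD2_c34 LD3_c29)) = (LP (LK LD1_c12 LD2_c27 LD3_c10)) :=
  Lre_b IH (LK LD1_c21 LD2_c34 LD3_c29) (LK LD1_c12 LD2_c27 LD3_c10) Lrfl Lrfl
theorem f431066 : Led Lsl_ct (LP (LK LD1_c27 LD2_c17 LD3_c45)) = (LP (LK LD1_c21 LD2_c34 LD3_c29)) :=
  Lgr Lrot191 (Lpe (f7479 IH) (Lpe (f7478 IH) (Lpe (f7477 IH) (Lpe (K5.f7476 IH) (Lpe (K5.f7475 IH) (Lpe (K4.f7474 IH) (Lpe (K3.f7473 IH) (Lpe (K0.f7452 IH) (Lpr_df (K0.f7429 IH) (Lpe (K7.f152739 IH) (Lpe (f82472 IH) (Lpe (K16.f25909 IH) (Lpe (K7.f25908 IH) (Lpr_gf (K7.f153968 IH) (Lpe (f152202 IH) (Lpe (f153036 IH) (Lpe (f153091 IH) (Lpr_gf (f430712 IH) (Lpe (f133887 IH) (Lpn (LP (LK LD1_c21 LD2_c34 LD3_c29))))))))))))))))))))))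
theorem f431075 : Led Lsl_cf (LP (LK LD1_c27 LD2_c17 LD3_c45)) = (LP (LK LD1_c21 LD2_c34 LD3_c29)) :=
  Lgr Lrot11 (Lpr_ct (f431066 IH) (Lpn (LP (LK LD1_c21 LD2_c34 LD3_c29))))
theorem f133895 : Led Lsl_bt (LP (LK LD1_c12 LD2_c27 LD3_c10)) = (LP (LK LD1_c21 LD2_c34 LD3_c29)) :=
  Lre_b IH (LK LD1_c12 LD2_c27 LD3_c10) (LK LD1_c21 LD2_c34 LD3_c29) Lrfl Lrfl
theorem f114589 : Led Lsl_bt (LP (LK LD1_c21 LD2_c34 LD3_c18)) = (LP (LK LD1_c12 LD2_c27 LD3_c1)) :=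
  Lre_b IH (LK LD1_c21 LD2_c34 LD3_c18) (LK LD1_c12 LD2_c27 LD3_c1) Lrfl Lrfl
theorem f114579 : Led Lsl_ct (LP (LK LD1_c30 LD2_c4 LD3_c30)) = (LP (LK LD1_c21 LD2_c34 LD3_c18)) :=
  Lre_c IH (LK LD1_c30 LD2_c4 LD3_c30) (LK LD1_c21 LD2_c34 LD3_c18) Lrfl Lrfl
theorem f431077 : Led Lsl_bt (LP (LK LD1_c27 LD2_c17 LD3_c45)) = (LP (LK LD1_c30 LD2_c4 LD3_c30)) :=
  Lgr Lrot128 (Lpr_cf (f431075 IH) (Lpe (f133895 IH) (Lpr_cf (K46.f133888 IH) (Lpe (f114589 IH) (Lpe (f114579 IH) (Lpn (LP (LK LD1_c30 LD2_c4 LD3_c30))))))))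
theorem f152859 : Led Lsl_bt (LP (LK LD1_c27 LD2_c17 LD3_c43)) = (LP (LK LD1_c17 LD2_c27 LD3_c42)) :=
  Lre_b IH (LK LD1_c27 LD2_c17 LD3_c43) (LK LD1_c17 LD2_c27 LD3_c42) Lrfl Lrfl
theorem f431080 : Led Lsl_df (LP (LK LD1_c27 LD2_c17 LD3_c43)) = (LP (LK LD1_c30 LD2_c4 LD3_c30)) :=
  Lgr Lrot12 (Lpr_bt (f152859 IH) (Lpr_dt (f7479 IH) (Lpr_bt (f431077 IH) (Lpn (LP (LK LD1_c30 LD2_c4 LD3_c30))))))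
theorem f133298 : Led Lsl_ft (LP (LK LD1_c9 LD2_c28 LD3_c25)) = (LP (LK LD1_c12 LD2_c11 LD3_c56)) :=
  Lgr Lrot4 (Lpe (K5.f113621 IH) (Lpr_ff (K5.f133293 IH) (Lpe (K5.f133271 IH) (Lpn (LP (LK LD1_c12 LD2_c11 LD3_c56))))))
theorem f152971 : Led Lsl_at (LP (LK LD1_c12 LD2_c11 LD3_c56)) = (LP (LK LD1_c9 LD2_c28 LD3_c24)) :=
  Lgr Lrot33 (Lpe (f133298 IH) (Lpr_dt (K7.f152853 IH) (Lpr_ct (K7.f152963 IH) (Lpr_dt (K7.f58166 IH) (Lpr_ct (K3.f24998 IH) (Lpr_dt (K5.f58161 IH) (Lpr_ct (K5.f58162 IH) (Lpr_dt (K11.f79590 IH) (Lpe (K5.f113592 IH) (Lpn (LP (LK LD1_c9 LD2_c28 LD3_c24))))))))))))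
theorem f152983 : Led Lsl_af (LP (LK LD1_c12 LD2_c11 LD3_c56)) = (LP (LK LD1_c9 LD2_c28 LD3_c24)) :=
  Lgr Lrot0 (Lpr_at (f152971 IH) (Lpn (LP (LK LD1_c9 LD2_c28 LD3_c24))))
theorem f152987 : Led Lsl_at (LP (LK LD1_c9 LD2_c15 LD3_c54)) = (LP (LK LD1_c6 LD2_c23 LD3_c54)) :=
  Lgr Lrot51 (Lpe (K5.f133259 IH) (Lpr_af (f152983 IH) (Lpr_df (K7.f152831 IH) (Lpn (LP (LK LD1_c6 LD2_c23 LD3_c54))))))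
theorem f152993 : Led Lsl_ff (LP (LK LD1_c9 LD2_c15 LD3_c54)) = (LP (LK LD1_c6 LD2_c23 LD3_c55)) :=
  Lgr Lrot52 (Lpr_at (f152987 IH) (Lpe (K7.f152815 IH) (Lpe (K7.f152852 IH) (Lpn (LP (LK LD1_c6 LD2_c23 LD3_c55))))))
theorem f77959 : Led Lsl_bt (LP (LK LD1_c9 LD2_c15 LD3_c54)) = (LP (LK LD1_c17 LD2_c10 LD3_c23)) :=
  Lre_b IH (LK LD1_c9 LD2_c15 LD3_c54) (LK LD1_c17 LD2_c10 LD3_c23) Lrfl Lrfl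
theorem f152860 : Led Lsl_bt (LP (LK LD1_c12 LD2_c20 LD3_c61)) = (LP (LK LD1_c6 LD2_c23 LD3_c55)) :=
  Lre_b IH (LK LD1_c12 LD2_c20 LD3_c61) (LK LD1_c6 LD2_c23 LD3_c55) Lrfl Lrfl
theorem f152995 : Led Lsl_ft (LP (LK LD1_c17 LD2_c10 LD3_c23)) = (LP (LK LD1_c12 LD2_c20 LD3_c61)) :=
  Lgr Lrot75 (Lpe (f77959 IH) (Lpr_ff (f152993 IH) (Lpe (f152860 IH) (Lpn (LP (LK LD1_c12 LD2_c20 LD3_c61))))))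
theorem f77937 : Led Lsl_bt (LP (LK LD1_c17 LD2_c10 LD3_c23)) = (LP (LK LD1_c9 LD2_c15 LD3_c54)) :=
  Lre_b IH (LK LD1_c17 LD2_c10 LD3_c23) (LK LD1_c9 LD2_c15 LD3_c54) Lrfl Lrfl
theorem f77940 : Led Lsl_cf (LP (LK LD1_c17 LD2_c10 LD3_c23)) = (LP (LK LD1_c12 LD2_c12 LD3_c23)) :=
  Lgr Lrot97 (Lpr_bt (f77937 IH) (Lpr_ct (K5.f77936 IH) (Lpr_bt (K7.f77933 IH) (Lpr_ct (K7.f77938 IH) (Lpr_bt (f77939 IH) (Lpn (LP (LK LD1_c12 LD2_c12 LD3_c23))))))))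
theorem f77955 : Led Lsl_bt (LP (LK LD1_c12 LD2_c12 LD3_c23)) = (LP (LK LD1_c6 LD2_c18 LD3_c7)) :=
  Lre_b IH (LK LD1_c12 LD2_c12 LD3_c23) (LK LD1_c6 LD2_c18 LD3_c7) Lrfl Lrfl
theorem f25072 : Led Lsl_bt (LP (LK LD1_c6 LD2_c18 LD3_c41)) = (LP (LK LD1_c12 LD2_c13 LD3_c12)) :=
  Lre_b IH (LK LD1_c6 LD2_c18 LD3_c41) (LK LD1_c12 LD2_c13 LD3_c12) Lrfl Lrfl
theorem f114647 : Led Lsl_ff (LP (LK LD1_c12 LD2_c12 LD3_c23)) = (LP (LK LD1_c12 LD2_c13 LD3_c12)) :=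
  Lgr Lrot25 (Lpr_bt (f77955 IH) (Lpr_ft (K7.f114645 IH) (Lpr_bt (f25072 IH) (Lpn (LP (LK LD1_c12 LD2_c13 LD3_c12))))))
theorem f152998 : Led Lsl_cf (LP (LK LD1_c12 LD2_c13 LD3_c12)) = (LP (LK LD1_c12 LD2_c20 LD3_c61)) :=
  Lgr Lrot108 (Lpe (f114647 IH) (Lpe (f77940 IH) (Lpr_ft (f152995 IH) (Lpn (LP (LK LD1_c12 LD2_c20 LD3_c61))))))
theorem f114679 : Led Lsl_gt (LP (LK LD1_c21 LD2_c19 LD3_c3)) = (LP (LK LD1_c12 LD2_c13 LD3_c12)) :=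
  Lre_g IH (LK LD1_c21 LD2_c19 LD3_c3) (LK LD1_c12 LD2_c13 LD3_c12) Lrfl Lrfl
theorem f153007 : Led Lsl_cf (LP (LK LD1_c21 LD2_c19 LD3_c3)) = (LP (LK LD1_c27 LD2_c17 LD3_c43)) :=
  Lgr Lrot160 (Lpr_gt (f114679 IH) (Lpr_cf (f152998 IH) (Lpr_bt (f152860 IH) (Lpr_gt (K7.f152852 IH) (Lpr_ct (K7.f152844 IH) (Lpe (K7.f152842 IH) (Lpe (K5.f102202 IH) (Lpr_bt (f7477 IH) (Lpr_gt (f7478 IH) (Lpe (f152859 IH) (Lpn (LP (LK LD1_c27 LD2_c17 LD3_c43)))))))))))))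
theorem f114682 : Led Lsl_dt (LP (LK LD1_c21 LD2_c19 LD3_c3)) = (LP (LK LD1_c29 LD2_c58 LD3_c2)) :=
  Lre_d IH (LK LD1_c21 LD2_c19 LD3_c3) (LK LD1_c29 LD2_c58 LD3_c2) Lrfl Lrfl
theorem f114590 : Led Lsl_ct (LP (LK LD1_c21 LD2_c34 LD3_c18)) = (LP (LK LD1_c30 LD2_c4 LD3_c30)) :=
  Lre_c IH (LK LD1_c21 LD2_c34 LD3_c18) (LK LD1_c30 LD2_c4 LD3_c30) Lrfl Lrfl
theorem f84173 : Led Lsl_dt (LP (LK LD1_c12 LD2_c27 LD3_c0)) = (LP (LK LD1_c21 LD2_c34 LD3_c18)) :=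
  Lre_d IH (LK LD1_c12 LD2_c27 LD3_c0) (LK LD1_c21 LD2_c34 LD3_c18) Lrfl Lrfl
theorem f114549 : Led Lsl_bt (LP (LK LD1_c12 LD2_c13 LD3_c20)) = (LP (LK LD1_c6 LD2_c18 LD3_c45)) :=
  Lre_b IH (LK LD1_c12 LD2_c13 LD3_c20) (LK LD1_c6 LD2_c18 LD3_c45) Lrfl Lrfl
theorem f114550 : Led Lsl_ff (LP (LK LD1_c12 LD2_c13 LD3_c20)) = (LP (LK LD1_c12 LD2_c27 LD3_c0)) :=
  Lgr Lrot25 (Lpr_bt (f114549 IH) (Lpr_ft (K5.f114544 IH) (Lpr_bt (K5.f67675 IH) (Lpn (LP (LK LD1_c12 LD2_c27 LD3_c0))))))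
theorem f133533 : Led Lsl_cf (LP (LK LD1_c12 LD2_c27 LD3_c0)) = (LP (LK LD1_c12 LD2_c11 LD3_c49)) :=
  Lgr Lrot108 (Lpe (f114550 IH) (Lpr_ct (K7.f133521 IH) (Lpe (K7.f133487 IH) (Lpn (LP (LK LD1_c12 LD2_c11 LD3_c49))))))
theorem f133510 : Led Lsl_dt (LP (LK LD1_c21 LD2_c17 LD3_c29)) = (LP (LK LD1_c12 LD2_c11 LD3_c49)) :=
  Lre_d IH (LK LD1_c21 LD2_c17 LD3_c29) (LK LD1_c12 LD2_c11 LD3_c49) Lrfl Lrfl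
theorem f133319 : Led Lsl_bt (LP (LK LD1_c12 LD2_c11 LD3_c50)) = (LP (LK LD1_c21 LD2_c17 LD3_c29)) :=
  Lre_b IH (LK LD1_c12 LD2_c11 LD3_c50) (LK LD1_c21 LD2_c17 LD3_c29) Lrfl Lrfl
theorem f133480 : Led Lsl_ft (LP (LK LD1_c21 LD2_c17 LD3_c29)) = (LP (LK LD1_c17 LD2_c28 LD3_c5)) :=
  Lgr Lrot75 (Lpe (f133319 IH) (Lpr_ff (K5.f133478 IH) (Lpe (f133460 IH) (Lpn (LP (LK LD1_c17 LD2_c28 LD3_c5))))))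
theorem f133541 : Led Lsl_at (LP (LK LD1_c17 LD2_c28 LD3_c5)) = (LP (LK LD1_c27 LD2_c18 LD3_c15)) :=
  Lre_a IH (LK LD1_c17 LD2_c28 LD3_c5) (LK LD1_c27 LD2_c18 LD3_c15) Lrfl Lrfl
theorem f431084 : Led Lsl_ct (LP (LK LD1_c29 LD2_c58 LD3_c2)) = (LP (LK LD1_c27 LD2_c18 LD3_c15)) :=
  Lgr Lrot98 (Lpe (f114682 IH) (Lpr_cf (f153007 IH) (Lpr_df (f431080 IH) (Lpe (f114590 IH) (Lpe (f84173 IH) (Lpr_cf (f133533 IH) (Lpe (f133510 IH) (Lpr_ft (f133480 IH) (Lpr_at (f133541 IH) (Lpn (LP (LK LD1_c27 LD2_c18 LD3_c15))))))))))))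
theorem f431088 : Led Lsl_cf (LP (LK LD1_c29 LD2_c58 LD3_c2)) = (LP (LK LD1_c27 LD2_c18 LD3_c15)) :=
  Lgr Lrot11 (Lpr_ct (f431084 IH) (Lpn (LP (LK LD1_c27 LD2_c18 LD3_c15))))
theorem f431090 : Led Lsl_at (LP (LK LD1_c29 LD2_c58 LD3_c2)) = (LP (LK LD1_c27 LD2_c18 LD3_c18)) :=
  Lgr Lrot107 (Lpr_cf (f431088 IH) (Lpe (f133541 IH) (Lpe (f133461 IH) (Lpn (LP (LK LD1_c27 LD2_c18 LD3_c18))))))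
theorem f431455 : Led Lsl_af (LP (LK LD1_c21 LD2_c19 LD3_c3)) = (LP (LK LD1_c21 LD2_c18 LD3_c14)) :=
  Lgr Lrot117 (Lpr_dt (f114682 IH) (Lpr_at (f431090 IH) (Lpr_dt (f431452 IH) (Lpn (LP (LK LD1_c21 LD2_c18 LD3_c14))))))
theorem f77958 : Led Lsl_at (LP (LK LD1_c12 LD2_c12 LD3_c23)) = (LP (LK LD1_c21 LD2_c18 LD3_c16)) :=
  Lre_a IH (LK LD1_c12 LD2_c12 LD3_c23) (LK LD1_c21 LD2_c18 LD3_c16) Lrfl Lrfl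
theorem f114668 : Led Lsl_at (LP (LK LD1_c21 LD2_c19 LD3_c4)) = (LP (LK LD1_c12 LD2_c13 LD3_c12)) :=
  Lre_a IH (LK LD1_c21 LD2_c19 LD3_c4) (LK LD1_c12 LD2_c13 LD3_c12) Lrfl Lrfl
theorem f114669 : Led Lsl_ft (LP (LK LD1_c21 LD2_c18 LD3_c16)) = (LP (LK LD1_c21 LD2_c19 LD3_c4)) :=
  Lgr Lrot101 (Lpe (f77958 IH) (Lpr_ff (f114647 IH) (Lpe (f114668 IH) (Lpn (LP (LK LD1_c21 LD2_c19 LD3_c4))))))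
theorem f114680 : Led Lsl_gt (LP (LK LD1_c21 LD2_c18 LD3_c16)) = (LP (LK LD1_c21 LD2_c19 LD3_c3)) :=
  Lgr Lrot5 (Lpr_ft (f114669 IH) (Lpr_at (f114668 IH) (Lpe (f114679 IH) (Lpn (LP (LK LD1_c21 LD2_c19 LD3_c3))))))
theorem f25073 : Led Lsl_gt (LP (LK LD1_c12 LD2_c13 LD3_c12)) = (LP (LK LD1_c21 LD2_c19 LD3_c2)) :=
  Lre_g IH (LK LD1_c12 LD2_c13 LD3_c12) (LK LD1_c21 LD2_c19 LD3_c2) Lrfl Lrfl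
theorem f114672 : Led Lsl_gf (LP (LK LD1_c21 LD2_c18 LD3_c16)) = (LP (LK LD1_c21 LD2_c19 LD3_c2)) :=
  Lgr Lrot76 (Lpe (f77958 IH) (Lpr_ff (f114647 IH) (Lpr_gt (f25073 IH) (Lpn (LP (LK LD1_c21 LD2_c19 LD3_c2))))))
theorem f431459 : Led Lsl_ft (LP (LK LD1_c21 LD2_c19 LD3_c2)) = (LP (LK LD1_c21 LD2_c18 LD3_c14)) :=
  Lgr Lrot2 (Lpe (f114672 IH) (Lpr_gt (f114680 IH) (Lpr_af (f431455 IH) (Lpn (LP (LK LD1_c21 LD2_c18 LD3_c14))))))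
theorem f431465 : Led Lsl_ff (LP (LK LD1_c21 LD2_c19 LD3_c2)) = (LP (LK LD1_c21 LD2_c18 LD3_c14)) :=
  Lgr Lrot3 (Lpr_ft (f431459 IH) (Lpn (LP (LK LD1_c21 LD2_c18 LD3_c14))))
theorem f86329 : Led Lsl_bt (LP (LK LD1_c12 LD2_c13 LD3_c12)) = (LP (LK LD1_c6 LD2_c18 LD3_c41)) :=
  Lre_b IH (LK LD1_c12 LD2_c13 LD3_c12) (LK LD1_c6 LD2_c18 LD3_c41) Lrfl Lrfl
theorem f114639 : Led Lsl_ft (LP (LK LD1_c12 LD2_c12 LD3_c23)) = (LP (LK LD1_c12 LD2_c13 LD3_c12)) :=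
  Lgr Lrot75 (Lpe (f77939 IH) (Lpr_ff (K7.f114635 IH) (Lpe (f86329 IH) (Lpn (LP (LK LD1_c12 LD2_c13 LD3_c12))))))
theorem f114685 : Led Lsl_at (LP (LK LD1_c12 LD2_c13 LD3_c12)) = (LP (LK LD1_c21 LD2_c19 LD3_c4)) :=
  Lre_a IH (LK LD1_c12 LD2_c13 LD3_c12) (LK LD1_c21 LD2_c19 LD3_c4) Lrfl Lrfl
theorem f114692 : Led Lsl_gt (LP (LK LD1_c21 LD2_c18 LD3_c14)) = (LP (LK LD1_c21 LD2_c19 LD3_c4)) :=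
  Lgr Lrot46 (Lpe (f77949 IH) (Lpr_ft (f114639 IH) (Lpr_at (f114685 IH) (Lpn (LP (LK LD1_c21 LD2_c19 LD3_c4))))))
theorem f114677 : Led Lsl_ff (LP (LK LD1_c21 LD2_c18 LD3_c16)) = (LP (LK LD1_c21 LD2_c19 LD3_c4)) :=
  Lgr Lrot3 (Lpr_ft (f114669 IH) (Lpn (LP (LK LD1_c21 LD2_c19 LD3_c4))))
theorem f77944 : Led Lsl_at (LP (LK LD1_c21 LD2_c18 LD3_c16)) = (LP (LK LD1_c12 LD2_c12 LD3_c23)) :=
  Lre_a IH (LK LD1_c21 LD2_c18 LD3_c16) (LK LD1_c12 LD2_c12 LD3_c23) Lrfl Lrfl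
theorem f77951 : Led Lsl_gt (LP (LK LD1_c21 LD2_c18 LD3_c15)) = (LP (LK LD1_c12 LD2_c12 LD3_c23)) :=
  Lre_g IH (LK LD1_c21 LD2_c18 LD3_c15) (LK LD1_c12 LD2_c12 LD3_c23) Lrfl Lrfl
theorem f114687 : Led Lsl_gf (LP (LK LD1_c21 LD2_c18 LD3_c15)) = (LP (LK LD1_c21 LD2_c19 LD3_c4)) :=
  Lgr Lrot47 (Lpr_gt (f77951 IH) (Lpe (f77944 IH) (Lpr_ff (f114677 IH) (Lpn (LP (LK LD1_c21 LD2_c19 LD3_c4))))))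
theorem f431471 : Led Lsl_at (LP (LK LD1_c21 LD2_c19 LD3_c2)) = (LP (LK LD1_c21 LD2_c18 LD3_c15)) :=
  Lgr Lrot26 (Lpr_ff (f431465 IH) (Lpr_gt (f114692 IH) (Lpe (f114687 IH) (Lpn (LP (LK LD1_c21 LD2_c18 LD3_c15))))))
theorem f77945 : Led Lsl_ct (LP (LK LD1_c17 LD2_c10 LD3_c23)) = (LP (LK LD1_c12 LD2_c12 LD3_c23)) :=
  Lgr Lrot59 (Lpr_cf (f77940 IH) (Lpn (LP (LK LD1_c12 LD2_c12 LD3_c23))))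
theorem f83959 : Led Lsl_ct (LP (LK LD1_c6 LD2_c17 LD3_c38)) = (LP (LK LD1_c3 LD2_c6 LD3_c1)) :=
  Lre_c IH (LK LD1_c6 LD2_c17 LD3_c38) (LK LD1_c3 LD2_c6 LD3_c1) Lrfl Lrfl
theorem f25715 : Led Lsl_bt (LP (LK LD1_c6 LD2_c17 LD3_c38)) = (LP (LK LD1_c12 LD2_c11 LD3_c42)) :=
  Lre_b IH (LK LD1_c6 LD2_c17 LD3_c38) (LK LD1_c12 LD2_c11 LD3_c42) Lrfl Lrfl
theorem f25716 : Led Lsl_gt (LP (LK LD1_c12 LD2_c11 LD3_c42)) = (LP (LK LD1_c21 LD2_c17 LD3_c11)) :=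
  Lre_g IH (LK LD1_c12 LD2_c11 LD3_c42) (LK LD1_c21 LD2_c17 LD3_c11) Lrfl Lrfl
theorem f153419 : Led Lsl_bt (LP (LK LD1_c29 LD2_c56 LD3_c31)) = (LP (LK LD1_c21 LD2_c17 LD3_c11)) :=
  Lre_b IH (LK LD1_c29 LD2_c56 LD3_c31) (LK LD1_c21 LD2_c17 LD3_c11) Lrfl Lrfl
theorem f153420 : Led Lsl_cf (LP (LK LD1_c21 LD2_c18 LD3_c15)) = (LP (LK LD1_c29 LD2_c56 LD3_c31)) :=
  Lgr Lrot160 (Lpr_gt (f77951 IH) (Lpe (f77945 IH) (Lpr_bt (f77937 IH) (Lpr_gt (K7.f153409 IH) (Lpr_ct (K7.f153416 IH) (Lpe (K7.f153417 IH) (Lpe (f83959 IH) (Lpr_bt (f25715 IH) (Lpr_gt (f25716 IH) (Lpe (f153419 IH) (Lpn (LP (LK LD1_c29 LD2_c56 LD3_c31)))))))))))))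
theorem f133493 : Led Lsl_dt (LP (LK LD1_c17 LD2_c28 LD3_c5)) = (LP (LK LD1_c9 LD2_c28 LD3_c18)) :=
  Lre_d IH (LK LD1_c17 LD2_c28 LD3_c5) (LK LD1_c9 LD2_c28 LD3_c18) Lrfl Lrfl
theorem f86471 : Led Lsl_dt (LP (LK LD1_c12 LD2_c13 LD3_c20)) = (LP (LK LD1_c21 LD2_c19 LD3_c16)) :=
  Lre_d IH (LK LD1_c12 LD2_c13 LD3_c20) (LK LD1_c21 LD2_c19 LD3_c16) Lrfl Lrfl
theorem f114522 : Led Lsl_ct (LP (LK LD1_c21 LD2_c19 LD3_c16)) = (LP (LK LD1_c29 LD2_c58 LD3_c13)) :=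
  Lre_c IH (LK LD1_c21 LD2_c19 LD3_c16) (LK LD1_c29 LD2_c58 LD3_c13) Lrfl Lrfl
theorem f431473 : Led Lsl_df (LP (LK LD1_c29 LD2_c56 LD3_c31)) = (LP (LK LD1_c29 LD2_c58 LD3_c13)) :=
  Lgr Lrot177 (Lpe (f153420 IH) (Lpe (f431471 IH) (Lpr_ff (f431465 IH) (Lpe (f431447 IH) (Lpr_ct (f133461 IH) (Lpr_dt (f133493 IH) (Lpe (K7.f133508 IH) (Lpr_dt (f86471 IH) (Lpr_ct (f114522 IH) (Lpn (LP (LK LD1_c29 LD2_c58 LD3_c13))))))))))))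
theorem f431475 : Led Lsl_dt (LP (LK LD1_c29 LD2_c56 LD3_c31)) = (LP (LK LD1_c29 LD2_c58 LD3_c13)) :=
  Lgr Lrot42 (Lpr_df (f431473 IH) (Lpn (LP (LK LD1_c29 LD2_c58 LD3_c13))))
theorem f114543 : Led Lsl_ct (LP (LK LD1_c29 LD2_c58 LD3_c13)) = (LP (LK LD1_c21 LD2_c19 LD3_c16)) :=
  Lre_c IH (LK LD1_c29 LD2_c58 LD3_c13) (LK LD1_c21 LD2_c19 LD3_c16) Lrfl Lrfl
theorem f57764 : Led Lsl_dt (LP (LK LD1_c3 LD2_c22 LD3_c32)) = (LP (LK LD1_c6 LD2_c48 LD3_c54)) :=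
  Lre_d IH (LK LD1_c3 LD2_c22 LD3_c32) (LK LD1_c6 LD2_c48 LD3_c54) Lrfl Lrfl
theorem f57765 : Led Lsl_ct (LP (LK LD1_c6 LD2_c48 LD3_c54)) = (LP (LK LD1_c13 LD2_c0 LD3_c10)) :=
  Lre_c IH (LK LD1_c6 LD2_c48 LD3_c54) (LK LD1_c13 LD2_c0 LD3_c10) Lrfl Lrfl
theorem f430762 : Led Lsl_bt (LP (LK LD1_c13 LD2_c0 LD3_c10)) = (LP (LK LD1_c22 LD2_c10 LD3_c27)) :=
  Lre_b IH (LK LD1_c13 LD2_c0 LD3_c10) (LK LD1_c22 LD2_c10 LD3_c27) Lrfl Lrfl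
theorem f431517 : Led Lsl_gf (LP (LK LD1_c29 LD2_c56 LD3_c31)) = (LP (LK LD1_c22 LD2_c10 LD3_c27)) :=
  Lgr Lrot85 (Lpr_dt (f431475 IH) (Lpr_ct (f114543 IH) (Lpr_bt (K5.f114542 IH) (Lpr_gt (K46.f430745 IH) (Lpr_dt (K46.f134041 IH) (Lpe (K46.f430809 IH) (Lpe (K46.f430755 IH) (Lpr_gt (K7.f135287 IH) (Lpr_dt (K7.f155895 IH) (Lpr_ct (K7.f146211 IH) (Lpr_bt (K7.f25751 IH) (Lpr_gt (K5.f7443 IH) (Lpr_dt (K2.f7435 IH) (Lpr_ct (K2.f7436 IH) (Lpr_bt (K1.f25423 IH) (Lpr_gt (K1.f57709 IH) (Lpr_dt (f57764 IH) (Lpr_ct (f57765 IH) (Lpr_bt (f430762 IH) (Lpn (LP (LK LD1_c22 LD2_c10 LD3_c27))))))))))))))))))))))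
theorem f153423 : Led Lsl_bt (LP (LK LD1_c9 LD2_c19 LD3_c15)) = (LP (LK LD1_c4 LD2_c42 LD3_c28)) :=
  Lre_b IH (LK LD1_c9 LD2_c19 LD3_c15) (LK LD1_c4 LD2_c42 LD3_c28) Lrfl Lrfl
theorem f153424 : Led Lsl_ct (LP (LK LD1_c9 LD2_c19 LD3_c15)) = (LP (LK LD1_c4 LD2_c42 LD3_c30)) :=
  Lre_c IH (LK LD1_c9 LD2_c19 LD3_c15) (LK LD1_c4 LD2_c42 LD3_c30) Lrfl Lrfl
theorem f57769 : Led Lsl_ct (LP (LK LD1_c13 LD2_c0 LD3_c10)) = (LP (LK LD1_c6 LD2_c48 LD3_c54)) :=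
  Lre_c IH (LK LD1_c13 LD2_c0 LD3_c10) (LK LD1_c6 LD2_c48 LD3_c54) Lrfl Lrfl
theorem f431523 : Led Lsl_gt (LP (LK LD1_c4 LD2_c42 LD3_c30)) = (LP (LK LD1_c6 LD2_c48 LD3_c54)) :=
  Lgr Lrot65 (Lpe (f153424 IH) (Lpr_bt (f153423 IH) (Lpe (K7.f153409 IH) (Lpe (f77937 IH) (Lpr_ct (f77945 IH) (Lpe (f77951 IH) (Lpr_cf (f153420 IH) (Lpr_gf (f431517 IH) (Lpe (f430762 IH) (Lpr_ct (f57769 IH) (Lpn (LP (LK LD1_c6 LD2_c48 LD3_c54)))))))))))))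
theorem f135514 : Led Lsl_bt (LP (LK LD1_c2 LD2_c18 LD3_c40)) = (LP (LK LD1_c4 LD2_c42 LD3_c30)) :=
  Lre_b IH (LK LD1_c2 LD2_c18 LD3_c40) (LK LD1_c4 LD2_c42 LD3_c30) Lrfl Lrfl
theorem f84521 : Led Lsl_bt (LP (LK LD1_c3 LD2_c9 LD3_c1)) = (LP (LK LD1_c1 LD2_c30 LD3_c40)) :=
  Lre_b IH (LK LD1_c3 LD2_c9 LD3_c1) (LK LD1_c1 LD2_c30 LD3_c40) Lrfl Lrfl
theorem f25866 : Led Lsl_ct (LP (LK LD1_c3 LD2_c9 LD3_c1)) = (LP (LK LD1_c6 LD2_c22 LD3_c37)) :=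
  Lre_c IH (LK LD1_c3 LD2_c9 LD3_c1) (LK LD1_c6 LD2_c22 LD3_c37) Lrfl Lrfl
theorem f431530 : Led Lsl_bt (LP (LK LD1_c13 LD2_c0 LD3_c3)) = (LP (LK LD1_c6 LD2_c48 LD3_c54)) :=
  Lre_b IH (LK LD1_c13 LD2_c0 LD3_c3) (LK LD1_c6 LD2_c48 LD3_c54) Lrfl Lrfl
theorem f431531 : Led Lsl_cf (LP (LK LD1_c12 LD2_c18 LD3_c43)) = (LP (LK LD1_c13 LD2_c0 LD3_c3)) :=
  Lgr Lrot160 (Lpr_gt (f84525 IH) (Lpe (f25866 IH) (Lpr_bt (f84521 IH) (Lpr_gt (K6.f84519 IH) (Lpr_ct (K6.f84091 IH) (Lpe (K24.f135496 IH) (Lpe (K7.f25897 IH) (Lpr_bt (f135514 IH) (Lpr_gt (f431523 IH) (Lpe (f431530 IH) (Lpn (LP (LK LD1_c13 LD2_c0 LD3_c3)))))))))))))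
theorem f431543 : Led Lsl_ct (LP (LK LD1_c12 LD2_c18 LD3_c43)) = (LP (LK LD1_c13 LD2_c0 LD3_c3)) :=
  Lgr Lrot59 (Lpr_cf (f431531 IH) (Lpn (LP (LK LD1_c13 LD2_c0 LD3_c3))))
theorem f84154 : Led Lsl_dt (LP (LK LD1_c6 LD2_c48 LD3_c52)) = (LP (LK LD1_c13 LD2_c0 LD3_c3)) :=
  Lre_d IH (LK LD1_c6 LD2_c48 LD3_c52) (LK LD1_c13 LD2_c0 LD3_c3) Lrfl Lrfl
theorem f84078 : Led Lsl_cf (LP (LK LD1_c6 LD2_c48 LD3_c52)) = (LP (LK LD1_c12 LD2_c26 LD3_c40)) :=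
  Lgr Lrot11 (Lpr_ct (K2.f84069 IH) (Lpn (LP (LK LD1_c12 LD2_c26 LD3_c40))))
theorem f153451 : Led Lsl_dt (LP (LK LD1_c1 LD2_c6 LD3_c55)) = (LP (LK LD1_c1 LD2_c37 LD3_c31)) :=
  Lgr Lrot6 (Lpr_gt (K7.f153440 IH) (Lpr_ct (K7.f25897 IH) (Lpe (K7.f152178 IH) (Lpr_ct (K7.f57659 IH) (Lpe (K5.f84107 IH) (Lpe (K2.f21033 IH) (Lpr_gf (K2.f25411 IH) (Lpe (K0.f7433 IH) (Lpe (K7.f25414 IH) (Lpn (LP (LK LD1_c1 LD2_c37 LD3_c31))))))))))))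
theorem f155874 : Led Lsl_gf (LP (LK LD1_c0 LD2_c41 LD3_c51)) = (LP (LK LD1_c1 LD2_c6 LD3_c56)) :=
  Lgr Lrot144 (Lpr_dt (K7.f25820 IH) (Lpe (K7.f154378 IH) (Lpr_dt (K16.f25912 IH) (Lpe (K7.f152645 IH) (Lpe (f153451 IH) (Lpr_gf (K7.f155871 IH) (Lpr_df (K7.f154632 IH) (Lpe (K7.f154640 IH) (Lpr_cf (K7.f154069 IH) (Lpn (LP (LK LD1_c1 LD2_c6 LD3_c56))))))))))))
theorem f104607 : Led Lsl_gt (LP (LK LD1_c3 LD2_c9 LD3_c1)) = (LP (LK LD1_c6 LD2_c22 LD3_c39)) :=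
  Lre_g IH (LK LD1_c3 LD2_c9 LD3_c1) (LK LD1_c6 LD2_c22 LD3_c39) Lrfl Lrfl
theorem f434444 : Led Lsl_bt (LP (LK LD1_c12 LD2_c18 LD3_c48)) = (LP (LK LD1_c6 LD2_c22 LD3_c39)) :=
  Lre_b IH (LK LD1_c12 LD2_c18 LD3_c48) (LK LD1_c6 LD2_c22 LD3_c39) Lrfl Lrfl
theorem f154396 : Led Lsl_ct (LP (LK LD1_c3 LD2_c9 LD3_c44)) = (LP (LK LD1_c6 LD2_c24 LD3_c6)) :=
  Lre_c IH (LK LD1_c3 LD2_c9 LD3_c44) (LK LD1_c6 LD2_c24 LD3_c6) Lrfl Lrfl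
theorem f155297 : Led Lsl_gt (LP (LK LD1_c12 LD2_c21 LD3_c26)) = (LP (LK LD1_c6 LD2_c24 LD3_c6)) :=
  Lre_g IH (LK LD1_c12 LD2_c21 LD3_c26) (LK LD1_c6 LD2_c24 LD3_c6) Lrfl Lrfl
theorem f434445 : Led Lsl_ct (LP (LK LD1_c12 LD2_c18 LD3_c48)) = (LP (LK LD1_c12 LD2_c21 LD3_c26)) :=
  Lgr Lrot64 (Lpr_bt (f434444 IH) (Lpe (f104607 IH) (Lpe (f25834 IH) (Lpr_ct (K6.f25818 IH) (Lpr_gf (f155874 IH) (Lpr_cf (K7.f152748 IH) (Lpe (K11.f154386 IH) (Lpe (K11.f154395 IH) (Lpr_ct (f154396 IH) (Lpe (f155297 IH) (Lpn (LP (LK LD1_c12 LD2_c21 LD3_c26)))))))))))))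
theorem f434449 : Led Lsl_cf (LP (LK LD1_c12 LD2_c18 LD3_c48)) = (LP (LK LD1_c12 LD2_c21 LD3_c26)) :=
  Lgr Lrot11 (Lpr_ct (f434445 IH) (Lpn (LP (LK LD1_c12 LD2_c21 LD3_c26))))
theorem f155194 : Led Lsl_ft (LP (LK LD1_c12 LD2_c0 LD3_c49)) = (LP (LK LD1_c12 LD2_c21 LD3_c19)) :=
  Lgr Lrot75 (Lpe (K11.f61745 IH) (Lpr_ff (K7.f155190 IH) (Lpe (K34.f155193 IH) (Lpn (LP (LK LD1_c12 LD2_c21 LD3_c19))))))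
theorem f433752 : Led Lsl_ct (LP (LK LD1_c12 LD2_c20 LD3_c57)) = (LP (LK LD1_c12 LD2_c0 LD3_c49)) :=
  Lgr Lrot40 (Lpr_ff (K11.f433740 IH) (Lpe (K11.f433711 IH) (Lpe (f155194 IH) (Lpn (LP (LK LD1_c12 LD2_c0 LD3_c49))))))
theorem f433732 : Led Lsl_at (LP (LK LD1_c21 LD2_c27 LD3_c3)) = (LP (LK LD1_c12 LD2_c20 LD3_c57)) :=
  Lre_a IH (LK LD1_c21 LD2_c27 LD3_c3) (LK LD1_c12 LD2_c20 LD3_c57) Lrfl Lrfl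
theorem f433764 : Led Lsl_at (LP (LK LD1_c12 LD2_c0 LD3_c49)) = (LP (LK LD1_c21 LD2_c6 LD3_c5)) :=
  Lre_a IH (LK LD1_c12 LD2_c0 LD3_c49) (LK LD1_c21 LD2_c6 LD3_c5) Lrfl Lrfl
theorem f433765 : Led Lsl_cf (LP (LK LD1_c21 LD2_c27 LD3_c3)) = (LP (LK LD1_c21 LD2_c6 LD3_c5)) :=
  Lgr Lrot1 (Lpr_at (f433732 IH) (Lpr_ct (f433752 IH) (Lpr_at (f433764 IH) (Lpn (LP (LK LD1_c21 LD2_c6 LD3_c5))))))
theorem f433773 : Led Lsl_ct (LP (LK LD1_c21 LD2_c27 LD3_c3)) = (LP (LK LD1_c21 LD2_c6 LD3_c5)) :=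
  Lgr Lrot59 (Lpr_cf (f433765 IH) (Lpn (LP (LK LD1_c21 LD2_c6 LD3_c5))))
theorem f433644 : Led Lsl_ct (LP (LK LD1_c6 LD2_c23 LD3_c61)) = (LP (LK LD1_c12 LD2_c21 LD3_c2)) :=
  Lre_c IH (LK LD1_c6 LD2_c23 LD3_c61) (LK LD1_c12 LD2_c21 LD3_c2) Lrfl Lrfl
theorem f83173 : Led Lsl_et (LP (LK LD1_c0 LD2_c41 LD3_c59)) = (LP (LK LD1_c1 LD2_c30 LD3_c59)) :=
  Lre_e IH (LK LD1_c0 LD2_c41 LD3_c59) (LK LD1_c1 LD2_c30 LD3_c59) Lrfl Lrfl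
theorem f433611 : Led Lsl_et (LP (LK LD1_c1 LD2_c44 LD3_c32)) = (LP (LK LD1_c0 LD2_c48 LD3_c54)) :=
  Lre_e IH (LK LD1_c1 LD2_c44 LD3_c32) (LK LD1_c0 LD2_c48 LD3_c54) Lrfl Lrfl
theorem f433620 : Led Lsl_at (LP (LK LD1_c1 LD2_c30 LD3_c59)) = (LP (LK LD1_c1 LD2_c44 LD3_c32)) :=
  Lgr Lrot80 (Lpe (f83173 IH) (Lpr_af (K11.f433596 IH) (Lpe (f433611 IH) (Lpn (LP (LK LD1_c1 LD2_c44 LD3_c32))))))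
theorem f83166 : Led Lsl_ct (LP (LK LD1_c3 LD2_c9 LD3_c37)) = (LP (LK LD1_c1 LD2_c30 LD3_c59)) :=
  Lre_c IH (LK LD1_c3 LD2_c9 LD3_c37) (LK LD1_c1 LD2_c30 LD3_c59) Lrfl Lrfl
theorem f433625 : Led Lsl_ct (LP (LK LD1_c1 LD2_c44 LD3_c32)) = (LP (LK LD1_c3 LD2_c35 LD3_c22)) :=
  Lre_c IH (LK LD1_c1 LD2_c44 LD3_c32) (LK LD1_c3 LD2_c35 LD3_c22) Lrfl Lrfl
theorem f433626 : Led Lsl_af (LP (LK LD1_c3 LD2_c9 LD3_c37)) = (LP (LK LD1_c3 LD2_c35 LD3_c22)) :=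
  Lgr Lrot68 (Lpr_ct (f83166 IH) (Lpr_at (f433620 IH) (Lpr_ct (f433625 IH) (Lpn (LP (LK LD1_c3 LD2_c35 LD3_c22))))))
theorem f83168 : Led Lsl_bt (LP (LK LD1_c3 LD2_c9 LD3_c37)) = (LP (LK LD1_c6 LD2_c24 LD3_c0)) :=
  Lre_b IH (LK LD1_c3 LD2_c9 LD3_c37) (LK LD1_c6 LD2_c24 LD3_c0) Lrfl Lrfl
theorem f433630 : Led Lsl_at (LP (LK LD1_c6 LD2_c24 LD3_c0)) = (LP (LK LD1_c12 LD2_c21 LD3_c14)) :=
  Lre_a IH (LK LD1_c6 LD2_c24 LD3_c0) (LK LD1_c12 LD2_c21 LD3_c14) Lrfl Lrfl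
theorem f433631 : Led Lsl_bt (LP (LK LD1_c7 LD2_c11 LD3_c44)) = (LP (LK LD1_c3 LD2_c35 LD3_c22)) :=
  Lre_b IH (LK LD1_c7 LD2_c11 LD3_c44) (LK LD1_c3 LD2_c35 LD3_c22) Lrfl Lrfl
theorem f433632 : Led Lsl_at (LP (LK LD1_c13 LD2_c37 LD3_c53)) = (LP (LK LD1_c7 LD2_c11 LD3_c44)) :=
  Lre_a IH (LK LD1_c13 LD2_c37 LD3_c53) (LK LD1_c7 LD2_c11 LD3_c44) Lrfl Lrfl
theorem f433633 : Led Lsl_bt (LP (LK LD1_c12 LD2_c21 LD3_c14)) = (LP (LK LD1_c13 LD2_c37 LD3_c53)) :=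
  Lgr Lrot62 (Lpe (f433630 IH) (Lpe (f83168 IH) (Lpr_af (f433626 IH) (Lpe (f433631 IH) (Lpe (f433632 IH) (Lpn (LP (LK LD1_c13 LD2_c37 LD3_c53))))))))
theorem f433639 : Led Lsl_et (LP (LK LD1_c6 LD2_c23 LD3_c61)) = (LP (LK LD1_c12 LD2_c21 LD3_c14)) :=
  Lre_e IH (LK LD1_c6 LD2_c23 LD3_c61) (LK LD1_c12 LD2_c21 LD3_c14) Lrfl Lrfl
theorem f433483 : Led Lsl_et (LP (LK LD1_c13 LD2_c37 LD3_c53)) = (LP (LK LD1_c7 LD2_c11 LD3_c43)) :=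
  Lre_e IH (LK LD1_c13 LD2_c37 LD3_c53) (LK LD1_c7 LD2_c11 LD3_c43) Lrfl Lrfl
theorem f433640 : Led Lsl_bf (LP (LK LD1_c6 LD2_c23 LD3_c61)) = (LP (LK LD1_c7 LD2_c11 LD3_c43)) :=
  Lgr Lrot96 (Lpr_et (f433639 IH) (Lpr_bt (f433633 IH) (Lpr_et (f433483 IH) (Lpn (LP (LK LD1_c7 LD2_c11 LD3_c43))))))
theorem f433481 : Led Lsl_ct (LP (LK LD1_c13 LD2_c37 LD3_c42)) = (LP (LK LD1_c7 LD2_c11 LD3_c43)) :=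
  Lre_c IH (LK LD1_c13 LD2_c37 LD3_c42) (LK LD1_c7 LD2_c11 LD3_c43) Lrfl Lrfl
theorem f433785 : Led Lsl_bf (LP (LK LD1_c13 LD2_c37 LD3_c42)) = (LP (LK LD1_c21 LD2_c6 LD3_c5)) :=
  Lgr Lrot90 (Lpr_ct (f433481 IH) (Lpe (f433640 IH) (Lpr_ct (f433644 IH) (Lpr_bt (K11.f433645 IH) (Lpr_ct (f433773 IH) (Lpn (LP (LK LD1_c21 LD2_c6 LD3_c5))))))))
theorem f433716 : Led Lsl_at (LP (LK LD1_c21 LD2_c27 LD3_c45)) = (LP (LK LD1_c12 LD2_c21 LD3_c19)) :=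
  Lre_a IH (LK LD1_c21 LD2_c27 LD3_c45) (LK LD1_c12 LD2_c21 LD3_c19) Lrfl Lrfl
theorem f433717 : Led Lsl_at (LP (LK LD1_c17 LD2_c14 LD3_c41)) = (LP (LK LD1_c27 LD2_c4 LD3_c53)) :=
  Lre_a IH (LK LD1_c17 LD2_c14 LD3_c41) (LK LD1_c27 LD2_c4 LD3_c53) Lrfl Lrfl
theorem f433718 : Led Lsl_cf (LP (LK LD1_c21 LD2_c27 LD3_c45)) = (LP (LK LD1_c27 LD2_c4 LD3_c53)) :=
  Lgr Lrot1 (Lpr_at (f433716 IH) (Lpr_ct (K11.f433711 IH) (Lpr_at (f433717 IH) (Lpn (LP (LK LD1_c27 LD2_c4 LD3_c53))))))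
theorem f433775 : Led Lsl_ft (LP (LK LD1_c21 LD2_c27 LD3_c45)) = (LP (LK LD1_c21 LD2_c6 LD3_c5)) :=
  Lgr Lrot4 (Lpr_cf (f433718 IH) (Lpe (K11.f433750 IH) (Lpr_cf (f433765 IH) (Lpn (LP (LK LD1_c21 LD2_c6 LD3_c5))))))
theorem f433493 : Led Lsl_bt (LP (LK LD1_c12 LD2_c21 LD3_c27)) = (LP (LK LD1_c21 LD2_c27 LD3_c45)) :=
  Lre_b IH (LK LD1_c12 LD2_c21 LD3_c27) (LK LD1_c21 LD2_c27 LD3_c45) Lrfl Lrfl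
theorem f433788 : Led Lsl_ft (LP (LK LD1_c13 LD2_c37 LD3_c42)) = (LP (LK LD1_c12 LD2_c21 LD3_c27)) :=
  Lgr Lrot75 (Lpr_bf (f433785 IH) (Lpe (f433775 IH) (Lpe (f433493 IH) (Lpn (LP (LK LD1_c12 LD2_c21 LD3_c27))))))
theorem f433790 : Led Lsl_at (LP (LK LD1_c12 LD2_c21 LD3_c27)) = (LP (LK LD1_c6 LD2_c24 LD3_c6)) :=
  Lre_a IH (LK LD1_c12 LD2_c21 LD3_c27) (LK LD1_c6 LD2_c24 LD3_c6) Lrfl Lrfl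
theorem f433793 : Led Lsl_gt (LP (LK LD1_c13 LD2_c37 LD3_c42)) = (LP (LK LD1_c12 LD2_c21 LD3_c26)) :=
  Lgr Lrot5 (Lpr_ft (f433788 IH) (Lpr_at (f433790 IH) (Lpe (f155297 IH) (Lpn (LP (LK LD1_c12 LD2_c21 LD3_c26))))))
theorem f433482 : Led Lsl_ct (LP (LK LD1_c7 LD2_c11 LD3_c43)) = (LP (LK LD1_c13 LD2_c37 LD3_c42)) :=
  Lre_c IH (LK LD1_c7 LD2_c11 LD3_c43) (LK LD1_c13 LD2_c37 LD3_c42) Lrfl Lrfl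
theorem f154188 : Led Lsl_gt (LP (LK LD1_c3 LD2_c9 LD3_c44)) = (LP (LK LD1_c6 LD2_c24 LD3_c12)) :=
  Lre_g IH (LK LD1_c3 LD2_c9 LD3_c44) (LK LD1_c6 LD2_c24 LD3_c12) Lrfl Lrfl
theorem f433470 : Led Lsl_at (LP (LK LD1_c3 LD2_c35 LD3_c21)) = (LP (LK LD1_c7 LD2_c11 LD3_c43)) :=
  Lre_a IH (LK LD1_c3 LD2_c35 LD3_c21) (LK LD1_c7 LD2_c11 LD3_c43) Lrfl Lrfl
theorem f433479 : Led Lsl_gt (LP (LK LD1_c6 LD2_c24 LD3_c12)) = (LP (LK LD1_c7 LD2_c11 LD3_c43)) :=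
  Lgr Lrot46 (Lpe (f154188 IH) (Lpr_ft (K11.f433458 IH) (Lpr_at (f433470 IH) (Lpn (LP (LK LD1_c7 LD2_c11 LD3_c43))))))
theorem f430383 : Led Lsl_dt (LP (LK LD1_c1 LD2_c37 LD3_c28)) = (LP (LK LD1_c1 LD2_c30 LD3_c54)) :=
  Lgr Lrot6 (Lpe (K6.f134061 IH) (Lpr_ct (K5.f120063 IH) (Lpr_gt (K6.f120064 IH) (Lpr_ct (K7.f134403 IH) (Lpr_df (K3.f76777 IH) (Lpe (K11.f76784 IH) (Lpe (K6.f62327 IH) (Lpr_cf (K11.f209576 IH) (Lpr_gf (K11.f430180 IH) (Lpn (LP (LK LD1_c1 LD2_c30 LD3_c54))))))))))))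
theorem f114663 : Led Lsl_bt (LP (LK LD1_c21 LD2_c18 LD3_c17)) = (LP (LK LD1_c12 LD2_c12 LD3_c24)) :=
  Lre_b IH (LK LD1_c21 LD2_c18 LD3_c17) (LK LD1_c12 LD2_c12 LD3_c24) Lrfl Lrfl
theorem f77948 : Led Lsl_ct (LP (LK LD1_c29 LD2_c57 LD3_c40)) = (LP (LK LD1_c21 LD2_c18 LD3_c17)) :=
  Lre_c IH (LK LD1_c29 LD2_c57 LD3_c40) (LK LD1_c21 LD2_c18 LD3_c17) Lrfl Lrfl
theorem f153437 : Led Lsl_gf (LP (LK LD1_c1 LD2_c5 LD3_c31)) = (LP (LK LD1_c1 LD2_c6 LD3_c20)) :=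
  Lgr Lrot147 (Lpr_ct (K5.f66775 IH) (Lpr_gt (K5.f66776 IH) (Lpr_ct (K7.f152933 IH) (Lpe (K7.f152504 IH) (Lpe (K11.f152951 IH) (Lpr_gf (K7.f133286 IH) (Lpe (K5.f25714 IH) (Lpr_gf (K7.f153417 IH) (Lpe (K11.f86116 IH) (Lpn (LP (LK LD1_c1 LD2_c6 LD3_c20))))))))))))
theorem f66780 : Led Lsl_bt (LP (LK LD1_c4 LD2_c40 LD3_c13)) = (LP (LK LD1_c9 LD2_c15 LD3_c49)) :=
  Lre_b IH (LK LD1_c4 LD2_c40 LD3_c13) (LK LD1_c9 LD2_c15 LD3_c49) Lrfl Lrfl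
theorem f78486 : Led Lsl_gt (LP (LK LD1_c9 LD2_c15 LD3_c49)) = (LP (LK LD1_c17 LD2_c10 LD3_c15)) :=
  Lre_g IH (LK LD1_c9 LD2_c15 LD3_c49) (LK LD1_c17 LD2_c10 LD3_c15) Lrfl Lrfl
theorem f78488 : Led Lsl_dt (LP (LK LD1_c17 LD2_c10 LD3_c15)) = (LP (LK LD1_c27 LD2_c1 LD3_c40)) :=
  Lre_d IH (LK LD1_c17 LD2_c10 LD3_c15) (LK LD1_c27 LD2_c1 LD3_c40) Lrfl Lrfl
theorem f155334 : Led Lsl_bt (LP (LK LD1_c21 LD2_c24 LD3_c31)) = (LP (LK LD1_c12 LD2_c18 LD3_c41)) :=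
  Lre_b IH (LK LD1_c21 LD2_c24 LD3_c31) (LK LD1_c12 LD2_c18 LD3_c41) Lrfl Lrfl
theorem f155340 : Led Lsl_ct (LP (LK LD1_c27 LD2_c1 LD3_c40)) = (LP (LK LD1_c21 LD2_c24 LD3_c31)) :=
  Lgr Lrot191 (Lpe (f78488 IH) (Lpe (f78486 IH) (Lpe (f66780 IH) (Lpe (K4.f66779 IH) (Lpe (K4.f66783 IH) (Lpr_gf (f153437 IH) (Lpe (K33.f25814 IH) (Lpe (K7.f25800 IH) (Lpe (K1.f25795 IH) (Lpe (K1.f21012 IH) (Lpe (K2.f25763 IH) (Lpe (K7.f25785 IH) (Lpe (K6.f25786 IH) (Lpr_gf (K3.f82789 IH) (Lpe (K11.f67688 IH) (Lpe (K2.f67635 IH) (Lpe (K2.f67634 IH) (Lpr_gf (K7.f155330 IH) (Lpe (f155334 IH) (Lpn (LP (LK LD1_c21 LD2_c24 LD3_c31))))))))))))))))))))))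
theorem f155344 : Led Lsl_cf (LP (LK LD1_c27 LD2_c1 LD3_c40)) = (LP (LK LD1_c21 LD2_c24 LD3_c31)) :=
  Lgr Lrot11 (Lpr_ct (f155340 IH) (Lpn (LP (LK LD1_c21 LD2_c24 LD3_c31))))
theorem f155349 : Led Lsl_bt (LP (LK LD1_c12 LD2_c18 LD3_c41)) = (LP (LK LD1_c21 LD2_c24 LD3_c31)) :=
  Lre_b IH (LK LD1_c12 LD2_c18 LD3_c41) (LK LD1_c21 LD2_c24 LD3_c31) Lrfl Lrfl
theorem f155350 : Led Lsl_bt (LP (LK LD1_c27 LD2_c1 LD3_c40)) = (LP (LK LD1_c29 LD2_c57 LD3_c40)) :=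
  Lgr Lrot128 (Lpr_cf (f155344 IH) (Lpe (f155349 IH) (Lpe (K7.f155338 IH) (Lpe (f114663 IH) (Lpe (f77948 IH) (Lpn (LP (LK LD1_c29 LD2_c57 LD3_c40))))))))
theorem f79601 : Led Lsl_bt (LP (LK LD1_c27 LD2_c1 LD3_c38)) = (LP (LK LD1_c17 LD2_c10 LD3_c15)) :=
  Lre_b IH (LK LD1_c27 LD2_c1 LD3_c38) (LK LD1_c17 LD2_c10 LD3_c15) Lrfl Lrfl
theorem f155353 : Led Lsl_df (LP (LK LD1_c27 LD2_c1 LD3_c38)) = (LP (LK LD1_c29 LD2_c57 LD3_c40)) :=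
  Lgr Lrot12 (Lpr_bt (f79601 IH) (Lpr_dt (f78488 IH) (Lpr_bt (f155350 IH) (Lpn (LP (LK LD1_c29 LD2_c57 LD3_c40))))))
theorem f155355 : Led Lsl_dt (LP (LK LD1_c27 LD2_c1 LD3_c38)) = (LP (LK LD1_c29 LD2_c57 LD3_c40)) :=
  Lgr Lrot42 (Lpr_df (f155353 IH) (Lpn (LP (LK LD1_c29 LD2_c57 LD3_c40))))
theorem f67905 : Led Lsl_gt (LP (LK LD1_c21 LD2_c19 LD3_c14)) = (LP (LK LD1_c12 LD2_c13 LD3_c20)) :=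
  Lre_g IH (LK LD1_c21 LD2_c19 LD3_c14) (LK LD1_c12 LD2_c13 LD3_c20) Lrfl Lrfl
theorem f58071 : Led Lsl_ct (LP (LK LD1_c2 LD2_c21 LD3_c43)) = (LP (LK LD1_c1 LD2_c8 LD3_c2)) :=
  Lre_c IH (LK LD1_c2 LD2_c21 LD3_c43) (LK LD1_c1 LD2_c8 LD3_c2) Lrfl Lrfl
theorem f133524 : Led Lsl_cf (LP (LK LD1_c21 LD2_c19 LD3_c14)) = (LP (LK LD1_c27 LD2_c1 LD3_c38)) :=
  Lgr Lrot160 (Lpr_gt (f67905 IH) (Lpr_cf (K7.f133508 IH) (Lpr_bt (K7.f79602 IH) (Lpr_gt (K5.f79594 IH) (Lpr_ct (f58071 IH) (Lpe (K4.f79569 IH) (Lpe (K5.f66781 IH) (Lpr_bt (f66780 IH) (Lpr_gt (f78486 IH) (Lpe (f79601 IH) (Lpn (LP (LK LD1_c27 LD2_c1 LD3_c38)))))))))))))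
theorem f58045 : Led Lsl_bt (LP (LK LD1_c4 LD2_c47 LD3_c41)) = (LP (LK LD1_c2 LD2_c21 LD3_c43)) :=
  Lre_b IH (LK LD1_c4 LD2_c47 LD3_c41) (LK LD1_c2 LD2_c21 LD3_c43) Lrfl Lrfl
theorem f57860 : Led Lsl_ct (LP (LK LD1_c4 LD2_c47 LD3_c41)) = (LP (LK LD1_c2 LD2_c23 LD3_c0)) :=
  Lre_c IH (LK LD1_c4 LD2_c47 LD3_c41) (LK LD1_c2 LD2_c23 LD3_c0) Lrfl Lrfl
theorem f57902 : Led Lsl_ct (LP (LK LD1_c9 LD2_c33 LD3_c9)) = (LP (LK LD1_c4 LD2_c50 LD3_c27)) :=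
  Lre_c IH (LK LD1_c9 LD2_c33 LD3_c9) (LK LD1_c4 LD2_c50 LD3_c27) Lrfl Lrfl
theorem f57910 : Led Lsl_bt (LP (LK LD1_c9 LD2_c33 LD3_c9)) = (LP (LK LD1_c17 LD2_c35 LD3_c26)) :=
  Lre_b IH (LK LD1_c9 LD2_c33 LD3_c9) (LK LD1_c17 LD2_c35 LD3_c26) Lrfl Lrfl
theorem f133529 : Led Lsl_gt (LP (LK LD1_c17 LD2_c35 LD3_c26)) = (LP (LK LD1_c27 LD2_c1 LD3_c38)) :=
  Lgr Lrot82 (Lpe (f57910 IH) (Lpr_ct (f57902 IH) (Lpe (K3.f57894 IH) (Lpe (f57860 IH) (Lpr_bt (f58045 IH) (Lpe (K5.f79594 IH) (Lpe (K7.f79602 IH) (Lpe (K7.f133508 IH) (Lpe (f67905 IH) (Lpr_cf (f133524 IH) (Lpn (LP (LK LD1_c27 LD2_c1 LD3_c38)))))))))))))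
theorem f57897 : Led Lsl_ct (LP (LK LD1_c4 LD2_c50 LD3_c27)) = (LP (LK LD1_c9 LD2_c33 LD3_c9)) :=
  Lre_c IH (LK LD1_c4 LD2_c50 LD3_c27) (LK LD1_c9 LD2_c33 LD3_c9) Lrfl Lrfl
theorem f153141 : Led Lsl_bt (LP (LK LD1_c1 LD2_c30 LD3_c54)) = (LP (LK LD1_c0 LD2_c41 LD3_c57)) :=
  Lre_b IH (LK LD1_c1 LD2_c30 LD3_c54) (LK LD1_c0 LD2_c41 LD3_c57) Lrfl Lrfl
theorem f154187 : Led Lsl_bt (LP (LK LD1_c1 LD2_c31 LD3_c1)) = (LP (LK LD1_c3 LD2_c9 LD3_c44)) :=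
  Lre_b IH (LK LD1_c1 LD2_c31 LD3_c1) (LK LD1_c3 LD2_c9 LD3_c44) Lrfl Lrfl
theorem f432515 : Led Lsl_df (LP (LK LD1_c4 LD2_c50 LD3_c27)) = (LP (LK LD1_c6 LD2_c24 LD3_c12)) :=
  Lgr Lrot183 (Lpr_ct (f57897 IH) (Lpr_bt (f57910 IH) (Lpr_gt (f133529 IH) (Lpr_dt (f155355 IH) (Lpr_ct (f77948 IH) (Lpr_bt (f114663 IH) (Lpe (K7.f134039 IH) (Lpr_dt (K7.f62638 IH) (Lpr_ct (K5.f62637 IH) (Lpr_bt (K5.f125351 IH) (Lpr_gt (K6.f134059 IH) (Lpr_dt (f430383 IH) (Lpr_ct (K11.f430381 IH) (Lpr_bt (f153141 IH) (Lpr_gt (K7.f154176 IH) (Lpr_dt (K7.f154178 IH) (Lpr_ct (K7.f154184 IH) (Lpr_bt (f154187 IH) (Lpr_gt (f154188 IH) (Lpn (LP (LK LD1_c6 LD2_c24 LD3_c12))))))))))))))))))))))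
theorem f86013 : Led Lsl_cf (LP (LK LD1_c12 LD2_c26 LD3_c49)) = (LP (LK LD1_c9 LD2_c28 LD3_c21)) :=
  Lgr Lrot11 (Lpr_ct (K3.f86010 IH) (Lpn (LP (LK LD1_c9 LD2_c28 LD3_c21))))
theorem f434463 : Led Lsl_df (LP (LK LD1_c12 LD2_c18 LD3_c48)) = (LP (LK LD1_c12 LD2_c26 LD3_c49)) :=
  Lgr Lrot162 (Lpr_cf (f434449 IH) (Lpe (f433793 IH) (Lpe (f433482 IH) (Lpe (f433479 IH) (Lpe (f432515 IH) (Lpr_gt (K3.f57895 IH) (Lpr_ct (K3.f57845 IH) (Lpe (K3.f85898 IH) (Lpe (f86013 IH) (Lpn (LP (LK LD1_c12 LD2_c26 LD3_c49))))))))))))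
theorem f434465 : Led Lsl_dt (LP (LK LD1_c6 LD2_c22 LD3_c39)) = (LP (LK LD1_c6 LD2_c27 LD3_c44)) :=
  Lgr Lrot79 (Lpe (f434444 IH) (Lpr_df (f434463 IH) (Lpe (K3.f82849 IH) (Lpn (LP (LK LD1_c6 LD2_c27 LD3_c44))))))
theorem f447082 : Led Lsl_gf (LP (LK LD1_c9 LD2_c19 LD3_c2)) = (LP (LK LD1_c6 LD2_c22 LD3_c39)) :=
  Lgr Lrot147 (Lpr_ct (f434575 IH) (Lpr_gt (f447080 IH) (Lpr_ct (f431543 IH) (Lpe (f84154 IH) (Lpr_cf (f84078 IH) (Lpr_gf (K2.f83671 IH) (Lpe (K2.f83373 IH) (Lpe (K3.f83925 IH) (Lpe (f434465 IH) (Lpn (LP (LK LD1_c6 LD2_c22 LD3_c39))))))))))))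
theorem f430334 : Led Lsl_bt (LP (LK LD1_c12 LD2_c21 LD3_c38)) = (LP (LK LD1_c6 LD2_c24 LD3_c12)) :=
  Lre_b IH (LK LD1_c12 LD2_c21 LD3_c38) (LK LD1_c6 LD2_c24 LD3_c12) Lrfl Lrfl
theorem f430188 : Led Lsl_gt (LP (LK LD1_c13 LD2_c37 LD3_c14)) = (LP (LK LD1_c7 LD2_c11 LD3_c22)) :=
  Lre_g IH (LK LD1_c13 LD2_c37 LD3_c14) (LK LD1_c7 LD2_c11 LD3_c22) Lrfl Lrfl
theorem f430335 : Led Lsl_ct (LP (LK LD1_c12 LD2_c21 LD3_c38)) = (LP (LK LD1_c13 LD2_c37 LD3_c14)) :=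
  Lgr Lrot64 (Lpr_bt (f430334 IH) (Lpe (f154188 IH) (Lpe (f154187 IH) (Lpr_ct (K7.f154181 IH) (Lpe (K11.f154115 IH) (Lpe (K6.f57565 IH) (Lpr_gf (K6.f86411 IH) (Lpe (f86413 IH) (Lpr_ct (f430315 IH) (Lpe (f430188 IH) (Lpn (LP (LK LD1_c13 LD2_c37 LD3_c14)))))))))))))
theorem f447035 : Led Lsl_gt (LP (LK LD1_c12 LD2_c19 LD3_c14)) = (LP (LK LD1_c13 LD2_c37 LD3_c14)) :=
  Lgr Lrot5 (Lpr_ft (f447025 IH) (Lpr_at (f430312 IH) (Lpe (f430188 IH) (Lpn (LP (LK LD1_c13 LD2_c37 LD3_c14))))))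
theorem f447086 : Led Lsl_bf (LP (LK LD1_c9 LD2_c19 LD3_c2)) = (LP (LK LD1_c6 LD2_c22 LD3_c61)) :=
  Lgr Lrot34 (Lpr_gf (f447082 IH) (Lpe (f434444 IH) (Lpr_ct (f434445 IH) (Lpe (f433793 IH) (Lpe (f433482 IH) (Lpe (f433479 IH) (Lpe (f430334 IH) (Lpr_ct (f430335 IH) (Lpe (f447035 IH) (Lpe (f434588 IH) (Lpn (LP (LK LD1_c6 LD2_c22 LD3_c61)))))))))))))
theorem f135309 : Led Lsl_at (LP (LK LD1_c6 LD2_c22 LD3_c41)) = (LP (LK LD1_c3 LD2_c9 LD3_c1)) :=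
  Lre_a IH (LK LD1_c6 LD2_c22 LD3_c41) (LK LD1_c3 LD2_c9 LD3_c1) Lrfl Lrfl
theorem f447046 : Led Lsl_ft (LP (LK LD1_c9 LD2_c19 LD3_c2)) = (LP (LK LD1_c6 LD2_c22 LD3_c41)) :=
  Lgr Lrot142 (Lpr_dt (f434556 IH) (Lpr_ct (f434588 IH) (Lpr_dt (f434589 IH) (Lpr_ct (f447037 IH) (Lpr_dt (f135313 IH) (Lpr_ct (f135312 IH) (Lpr_dt (f84523 IH) (Lpr_ct (f84522 IH) (Lpe (f135309 IH) (Lpn (LP (LK LD1_c6 LD2_c22 LD3_c41))))))))))))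
theorem f135334 : Led Lsl_at (LP (LK LD1_c9 LD2_c18 LD3_c54)) = (LP (LK LD1_c4 LD2_c42 LD3_c16)) :=
  Lre_a IH (LK LD1_c9 LD2_c18 LD3_c54) (LK LD1_c4 LD2_c42 LD3_c16) Lrfl Lrfl
theorem f430329 : Led Lsl_at (LP (LK LD1_c7 LD2_c11 LD3_c22)) = (LP (LK LD1_c13 LD2_c37 LD3_c15)) :=
  Lre_a IH (LK LD1_c7 LD2_c11 LD3_c22) (LK LD1_c13 LD2_c37 LD3_c15) Lrfl Lrfl
theorem f430330 : Led Lsl_cf (LP (LK LD1_c9 LD2_c18 LD3_c54)) = (LP (LK LD1_c13 LD2_c37 LD3_c15)) :=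
  Lgr Lrot1 (Lpr_at (f135334 IH) (Lpr_ct (f430315 IH) (Lpr_at (f430329 IH) (Lpn (LP (LK LD1_c13 LD2_c37 LD3_c15))))))
theorem f447031 : Led Lsl_ff (LP (LK LD1_c6 LD2_c22 LD3_c61)) = (LP (LK LD1_c9 LD2_c18 LD3_c54)) :=
  Lgr Lrot23 (Lpr_ct (f434588 IH) (Lpr_ft (f447025 IH) (Lpe (f430330 IH) (Lpn (LP (LK LD1_c9 LD2_c18 LD3_c54))))))
theorem f447096 : Led Lsl_bt (LP (LK LD1_c6 LD2_c22 LD3_c41)) = (LP (LK LD1_c9 LD2_c18 LD3_c54)) :=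
  Lgr Lrot35 (Lpe (f447046 IH) (Lpr_bf (f447086 IH) (Lpr_ff (f447031 IH) (Lpn (LP (LK LD1_c9 LD2_c18 LD3_c54))))))
theorem f135331 : Led Lsl_ct (LP (LK LD1_c12 LD2_c18 LD3_c44)) = (LP (LK LD1_c6 LD2_c22 LD3_c41)) :=
  Lre_c IH (LK LD1_c12 LD2_c18 LD3_c44) (LK LD1_c6 LD2_c22 LD3_c41) Lrfl Lrfl
theorem f447102 : Led Lsl_bt (LP (LK LD1_c21 LD2_c24 LD3_c20)) = (LP (LK LD1_c12 LD2_c18 LD3_c44)) :=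
  Lre_b IH (LK LD1_c21 LD2_c24 LD3_c20) (LK LD1_c12 LD2_c18 LD3_c44) Lrfl Lrfl
theorem f135308 : Led Lsl_at (LP (LK LD1_c4 LD2_c42 LD3_c16)) = (LP (LK LD1_c9 LD2_c18 LD3_c54)) :=
  Lre_a IH (LK LD1_c4 LD2_c42 LD3_c16) (LK LD1_c9 LD2_c18 LD3_c54) Lrfl Lrfl
theorem f430313 : Led Lsl_ct (LP (LK LD1_c9 LD2_c18 LD3_c54)) = (LP (LK LD1_c13 LD2_c37 LD3_c15)) :=
  Lgr Lrot111 (Lpe (f135308 IH) (Lpr_cf (f430310 IH) (Lpe (f430312 IH) (Lpn (LP (LK LD1_c13 LD2_c37 LD3_c15))))))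
theorem f447103 : Led Lsl_cf (LP (LK LD1_c21 LD2_c24 LD3_c20)) = (LP (LK LD1_c23 LD2_c1 LD3_c53)) :=
  Lgr Lrot97 (Lpr_bt (f447102 IH) (Lpr_ct (f135331 IH) (Lpr_bt (f447096 IH) (Lpr_ct (f430313 IH) (Lpr_bt (f430366 IH) (Lpn (LP (LK LD1_c23 LD2_c1 LD3_c53))))))))
theorem f447108 : Led Lsl_ct (LP (LK LD1_c21 LD2_c24 LD3_c20)) = (LP (LK LD1_c23 LD2_c1 LD3_c53)) :=
  Lgr Lrot59 (Lpr_cf (f447103 IH) (Lpn (LP (LK LD1_c23 LD2_c1 LD3_c53))))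
theorem f447110 : Led Lsl_at (LP (LK LD1_c12 LD2_c18 LD3_c32)) = (LP (LK LD1_c21 LD2_c24 LD3_c20)) :=
  Lre_a IH (LK LD1_c12 LD2_c18 LD3_c32) (LK LD1_c21 LD2_c24 LD3_c20) Lrfl Lrfl
theorem f447010 : Led Lsl_at (LP (LK LD1_c23 LD2_c1 LD3_c53)) = (LP (LK LD1_c13 LD2_c37 LD3_c12)) :=
  Lre_a IH (LK LD1_c23 LD2_c1 LD3_c53) (LK LD1_c13 LD2_c37 LD3_c12) Lrfl Lrfl
theorem f447111 : Led Lsl_cf (LP (LK LD1_c12 LD2_c18 LD3_c32)) = (LP (LK LD1_c13 LD2_c37 LD3_c12)) :=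
  Lgr Lrot1 (Lpr_at (f447110 IH) (Lpr_ct (f447108 IH) (Lpr_at (f447010 IH) (Lpn (LP (LK LD1_c13 LD2_c37 LD3_c12))))))
theorem f447113 : Led Lsl_bt (LP (LK LD1_c12 LD2_c18 LD3_c32)) = (LP (LK LD1_c6 LD2_c22 LD3_c32)) :=
  Lre_b IH (LK LD1_c12 LD2_c18 LD3_c32) (LK LD1_c6 LD2_c22 LD3_c32) Lrfl Lrfl
theorem f430859 : Led Lsl_ct (LP (LK LD1_c6 LD2_c22 LD3_c32)) = (LP (LK LD1_c3 LD2_c8 LD3_c59)) :=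
  Lre_c IH (LK LD1_c6 LD2_c22 LD3_c32) (LK LD1_c3 LD2_c8 LD3_c59) Lrfl Lrfl
theorem f447114 : Led Lsl_bt (LP (LK LD1_c3 LD2_c8 LD3_c59)) = (LP (LK LD1_c3 LD2_c35 LD3_c7)) :=
  Lgr Lrot128 (Lpe (f430859 IH) (Lpe (f447113 IH) (Lpr_cf (f447111 IH) (Lpe (f446898 IH) (Lpe (K33.f446907 IH) (Lpn (LP (LK LD1_c3 LD2_c35 LD3_c7))))))))
theorem f430860 : Led Lsl_ct (LP (LK LD1_c3 LD2_c8 LD3_c59)) = (LP (LK LD1_c6 LD2_c22 LD3_c32)) :=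
  Lre_c IH (LK LD1_c3 LD2_c8 LD3_c59) (LK LD1_c6 LD2_c22 LD3_c32) Lrfl Lrfl
theorem f446919 : Led Lsl_gf (LP (LK LD1_c3 LD2_c35 LD3_c7)) = (LP (LK LD1_c3 LD2_c9 LD3_c6)) :=
  Lgr Lrot47 (Lpr_gt (K33.f446917 IH) (Lpe (K7.f90216 IH) (Lpr_ff (K7.f154824 IH) (Lpn (LP (LK LD1_c3 LD2_c9 LD3_c6))))))
theorem f84315 : Led Lsl_ct (LP (LK LD1_c3 LD2_c18 LD3_c49)) = (LP (LK LD1_c6 LD2_c41 LD3_c30)) :=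
  Lre_c IH (LK LD1_c3 LD2_c18 LD3_c49) (LK LD1_c6 LD2_c41 LD3_c30) Lrfl Lrfl
theorem f447128 : Led Lsl_gt (LP (LK LD1_c6 LD2_c22 LD3_c32)) = (LP (LK LD1_c6 LD2_c41 LD3_c30)) :=
  Lgr Lrot65 (Lpe (f430860 IH) (Lpr_bt (f447114 IH) (Lpr_gf (f446919 IH) (Lpe (K7.f154804 IH) (Lpr_ct (K7.f84617 IH) (Lpe (K11.f433250 IH) (Lpe (K7.f155196 IH) (Lpr_gf (K11.f433245 IH) (Lpe (K4.f113938 IH) (Lpr_ct (f84315 IH) (Lpn (LP (LK LD1_c6 LD2_c41 LD3_c30)))))))))))))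
theorem f447138 : Led Lsl_gf (LP (LK LD1_c3 LD2_c8 LD3_c59)) = (LP (LK LD1_c3 LD2_c6 LD3_c35)) :=
  Lgr Lrot147 (Lpr_ct (f430860 IH) (Lpr_gt (f447128 IH) (Lpr_ct (K7.f84311 IH) (Lpe (K4.f84314 IH) (Lpr_cf (K5.f84308 IH) (Lpr_gf (K4.f67890 IH) (Lpr_cf (K2.f67713 IH) (Lpe (K4.f86325 IH) (Lpe (K11.f78176 IH) (Lpn (LP (LK LD1_c3 LD2_c6 LD3_c35))))))))))))
theorem f430852 : Led Lsl_dt (LP (LK LD1_c6 LD2_c22 LD3_c32)) = (LP (LK LD1_c12 LD2_c18 LD3_c33)) :=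
  Lre_d IH (LK LD1_c6 LD2_c22 LD3_c32) (LK LD1_c12 LD2_c18 LD3_c33) Lrfl Lrfl
theorem f155478 : Led Lsl_dt (LP (LK LD1_c21 LD2_c5 LD3_c58)) = (LP (LK LD1_c12 LD2_c0 LD3_c45)) :=
  Lre_d IH (LK LD1_c21 LD2_c5 LD3_c58) (LK LD1_c12 LD2_c0 LD3_c45) Lrfl Lrfl
theorem f155465 : Led Lsl_ct (LP (LK LD1_c12 LD2_c0 LD3_c45)) = (LP (LK LD1_c6 LD2_c9 LD3_c57)) :=
  Lre_c IH (LK LD1_c12 LD2_c0 LD3_c45) (LK LD1_c6 LD2_c9 LD3_c57) Lrfl Lrfl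
theorem f155377 : Led Lsl_gt (LP (LK LD1_c12 LD2_c13 LD3_c18)) = (LP (LK LD1_c21 LD2_c18 LD3_c22)) :=
  Lgr Lrot180 (Lpr_ct (K7.f155368 IH) (Lpe (K7.f67901 IH) (Lpr_dt (K2.f67695 IH) (Lpe (K46.f134278 IH) (Lpr_dt (K5.f61735 IH) (Lpe (K5.f114519 IH) (Lpe (K5.f114529 IH) (Lpr_gf (K5.f114625 IH) (Lpe (K5.f78182 IH) (Lpn (LP (LK LD1_c21 LD2_c18 LD3_c22))))))))))))
theorem f155466 : Led Lsl_gf (LP (LK LD1_c12 LD2_c0 LD3_c45)) = (LP (LK LD1_c6 LD2_c18 LD3_c43)) :=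
  Lgr Lrot147 (Lpr_ct (f155465 IH) (Lpr_gt (K7.f155454 IH) (Lpr_ct (K7.f155299 IH) (Lpe (K7.f153406 IH) (Lpe (K7.f155338 IH) (Lpe (K7.f134033 IH) (Lpe (K5.f133991 IH) (Lpe (f155377 IH) (Lpe (K7.f84312 IH) (Lpn (LP (LK LD1_c6 LD2_c18 LD3_c43))))))))))))
theorem f155477 : Led Lsl_dt (LP (LK LD1_c12 LD2_c0 LD3_c45)) = (LP (LK LD1_c21 LD2_c5 LD3_c58)) :=
  Lre_d IH (LK LD1_c12 LD2_c0 LD3_c45) (LK LD1_c21 LD2_c5 LD3_c58) Lrfl Lrfl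
theorem f430696 : Led Lsl_gt (LP (LK LD1_c21 LD2_c5 LD3_c58)) = (LP (LK LD1_c12 LD2_c27 LD3_c1)) :=
  Lgr Lrot49 (Lpe (f155477 IH) (Lpr_gf (f155466 IH) (Lpe (K7.f67892 IH) (Lpe (K11.f430686 IH) (Lpr_dt (K46.f152276 IH) (Lpr_gt (K11.f430692 IH) (Lpr_dt (K4.f79385 IH) (Lpe (K7.f67670 IH) (Lpe (K5.f79397 IH) (Lpn (LP (LK LD1_c12 LD2_c27 LD3_c1))))))))))))
theorem f447151 : Led Lsl_cf (LP (LK LD1_c12 LD2_c18 LD3_c33)) = (LP (LK LD1_c9 LD2_c18 LD3_c58)) :=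
  Lgr Lrot99 (Lpe (f430852 IH) (Lpe (f430860 IH) (Lpr_gf (f447138 IH) (Lpe (K7.f78173 IH) (Lpe (K7.f155463 IH) (Lpe (f155478 IH) (Lpr_gt (f430696 IH) (Lpe (K46.f133888 IH) (Lpe (f430712 IH) (Lpn (LP (LK LD1_c9 LD2_c18 LD3_c58))))))))))))
theorem f430840 : Led Lsl_dt (LP (LK LD1_c12 LD2_c18 LD3_c33)) = (LP (LK LD1_c6 LD2_c22 LD3_c32)) :=
  Lre_d IH (LK LD1_c12 LD2_c18 LD3_c33) (LK LD1_c6 LD2_c22 LD3_c32) Lrfl Lrfl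
theorem f83135 : Led Lsl_dt (LP (LK LD1_c3 LD2_c8 LD3_c59)) = (LP (LK LD1_c1 LD2_c30 LD3_c38)) :=
  Lre_d IH (LK LD1_c3 LD2_c8 LD3_c59) (LK LD1_c1 LD2_c30 LD3_c38) Lrfl Lrfl
theorem f83123 : Led Lsl_at (LP (LK LD1_c1 LD2_c30 LD3_c38)) = (LP (LK LD1_c0 LD2_c41 LD3_c50)) :=
  Lre_a IH (LK LD1_c1 LD2_c30 LD3_c38) (LK LD1_c0 LD2_c41 LD3_c50) Lrfl Lrfl
theorem f83134 : Led Lsl_at (LP (LK LD1_c0 LD2_c41 LD3_c50)) = (LP (LK LD1_c1 LD2_c30 LD3_c38)) :=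
  Lre_a IH (LK LD1_c0 LD2_c41 LD3_c50) (LK LD1_c1 LD2_c30 LD3_c38) Lrfl Lrfl
theorem f155449 : Led Lsl_cf (LP (LK LD1_c1 LD2_c30 LD3_c38)) = (LP (LK LD1_c1 LD2_c30 LD3_c38)) :=
  Lgr Lrot1 (Lpr_at (f83123 IH) (Lpr_ct (K7.f155443 IH) (Lpr_at (f83134 IH) (Lpn (LP (LK LD1_c1 LD2_c30 LD3_c38))))))
theorem f83130 : Led Lsl_dt (LP (LK LD1_c1 LD2_c30 LD3_c38)) = (LP (LK LD1_c3 LD2_c8 LD3_c59)) :=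
  Lre_d IH (LK LD1_c1 LD2_c30 LD3_c38) (LK LD1_c3 LD2_c8 LD3_c59) Lrfl Lrfl
theorem f434631 : Led Lsl_at (LP (LK LD1_c3 LD2_c8 LD3_c61)) = (LP (LK LD1_c6 LD2_c22 LD3_c32)) :=
  Lre_a IH (LK LD1_c3 LD2_c8 LD3_c61) (LK LD1_c6 LD2_c22 LD3_c32) Lrfl Lrfl
theorem f153088 : Led Lsl_dt (LP (LK LD1_c4 LD2_c42 LD3_c18)) = (LP (LK LD1_c9 LD2_c18 LD3_c58)) :=
  Lre_d IH (LK LD1_c4 LD2_c42 LD3_c18) (LK LD1_c9 LD2_c18 LD3_c58) Lrfl Lrfl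
theorem f447170 : Led Lsl_ff (LP (LK LD1_c3 LD2_c8 LD3_c61)) = (LP (LK LD1_c4 LD2_c42 LD3_c18)) :=
  Lgr Lrot103 (Lpr_at (f434631 IH) (Lpe (f430860 IH) (Lpe (f83130 IH) (Lpr_cf (f155449 IH) (Lpe (f83135 IH) (Lpe (f430859 IH) (Lpe (f430840 IH) (Lpr_cf (f447151 IH) (Lpe (f153088 IH) (Lpn (LP (LK LD1_c4 LD2_c42 LD3_c18))))))))))))
theorem f447175 : Led Lsl_ft (LP (LK LD1_c3 LD2_c8 LD3_c61)) = (LP (LK LD1_c4 LD2_c42 LD3_c18)) :=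
  Lgr Lrot48 (Lpr_ff (f447170 IH) (Lpn (LP (LK LD1_c4 LD2_c42 LD3_c18))))
theorem f155333 : Led Lsl_ct (LP (LK LD1_c6 LD2_c22 LD3_c38)) = (LP (LK LD1_c12 LD2_c18 LD3_c46)) :=
  Lre_c IH (LK LD1_c6 LD2_c22 LD3_c38) (LK LD1_c12 LD2_c18 LD3_c46) Lrfl Lrfl
theorem f435220 : Led Lsl_at (LP (LK LD1_c4 LD2_c42 LD3_c18)) = (LP (LK LD1_c9 LD2_c18 LD3_c55)) :=
  Lre_a IH (LK LD1_c4 LD2_c42 LD3_c18) (LK LD1_c9 LD2_c18 LD3_c55) Lrfl Lrfl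
theorem f435219 : Led Lsl_ct (LP (LK LD1_c4 LD2_c42 LD3_c17)) = (LP (LK LD1_c9 LD2_c18 LD3_c55)) :=
  Lre_c IH (LK LD1_c4 LD2_c42 LD3_c17) (LK LD1_c9 LD2_c18 LD3_c55) Lrfl Lrfl
theorem f152297 : Led Lsl_dt (LP (LK LD1_c2 LD2_c18 LD3_c30)) = (LP (LK LD1_c4 LD2_c42 LD3_c17)) :=
  Lre_d IH (LK LD1_c2 LD2_c18 LD3_c30) (LK LD1_c4 LD2_c42 LD3_c17) Lrfl Lrfl
theorem f152303 : Led Lsl_at (LP (LK LD1_c1 LD2_c6 LD3_c16)) = (LP (LK LD1_c2 LD2_c18 LD3_c30)) :=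
  Lre_a IH (LK LD1_c1 LD2_c6 LD3_c16) (LK LD1_c2 LD2_c18 LD3_c30) Lrfl Lrfl
theorem f152304 : Led Lsl_at (LP (LK LD1_c2 LD2_c18 LD3_c30)) = (LP (LK LD1_c1 LD2_c6 LD3_c16)) :=
  Lre_a IH (LK LD1_c2 LD2_c18 LD3_c30) (LK LD1_c1 LD2_c6 LD3_c16) Lrfl Lrfl
theorem f435216 : Led Lsl_ct (LP (LK LD1_c2 LD2_c18 LD3_c30)) = (LP (LK LD1_c2 LD2_c18 LD3_c30)) :=
  Lgr Lrot111 (Lpe (f152303 IH) (Lpr_cf (K11.f154161 IH) (Lpe (f152304 IH) (Lpn (LP (LK LD1_c2 LD2_c18 LD3_c30))))))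
theorem f152295 : Led Lsl_dt (LP (LK LD1_c4 LD2_c42 LD3_c17)) = (LP (LK LD1_c2 LD2_c18 LD3_c30)) :=
  Lre_d IH (LK LD1_c4 LD2_c42 LD3_c17) (LK LD1_c2 LD2_c18 LD3_c30) Lrfl Lrfl
theorem f435218 : Led Lsl_ct (LP (LK LD1_c9 LD2_c18 LD3_c55)) = (LP (LK LD1_c4 LD2_c42 LD3_c17)) :=
  Lre_c IH (LK LD1_c9 LD2_c18 LD3_c55) (LK LD1_c4 LD2_c42 LD3_c17) Lrfl Lrfl
theorem f447183 : Led Lsl_dt (LP (LK LD1_c12 LD2_c18 LD3_c46)) = (LP (LK LD1_c9 LD2_c18 LD3_c55)) :=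
  Lgr Lrot32 (Lpe (f155333 IH) (Lpe (K46.f155326 IH) (Lpr_ft (f447175 IH) (Lpr_at (f435220 IH) (Lpe (f435219 IH) (Lpe (f152297 IH) (Lpe (f435216 IH) (Lpe (f152295 IH) (Lpe (f435218 IH) (Lpn (LP (LK LD1_c9 LD2_c18 LD3_c55))))))))))))
theorem f133844 : Led Lsl_af (LP (LK LD1_c6 LD2_c9 LD3_c59)) = (LP (LK LD1_c6 LD2_c27 LD3_c55)) :=
  Lgr Lrot68 (Lpr_ct (K5.f61741 IH) (Lpr_at (K5.f78784 IH) (Lpr_ct (K7.f133836 IH) (Lpn (LP (LK LD1_c6 LD2_c27 LD3_c55))))))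
theorem f134281 : Led Lsl_ff (LP (LK LD1_c6 LD2_c27 LD3_c55)) = (LP (LK LD1_c6 LD2_c18 LD3_c46)) :=
  Lgr Lrot52 (Lpe (f133844 IH) (Lpr_gf (K46.f134278 IH) (Lpe (K46.f67921 IH) (Lpn (LP (LK LD1_c6 LD2_c18 LD3_c46))))))
theorem f134287 : Led Lsl_ft (LP (LK LD1_c6 LD2_c27 LD3_c55)) = (LP (LK LD1_c6 LD2_c18 LD3_c46)) :=
  Lgr Lrot48 (Lpr_ff (f134281 IH) (Lpn (LP (LK LD1_c6 LD2_c18 LD3_c46))))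
theorem f134291 : Led Lsl_ff (LP (LK LD1_c12 LD2_c27 LD3_c7)) = (LP (LK LD1_c12 LD2_c13 LD3_c22)) :=
  Lgr Lrot19 (Lpr_dt (K46.f67959 IH) (Lpr_ft (f134287 IH) (Lpr_dt (K46.f67924 IH) (Lpn (LP (LK LD1_c12 LD2_c13 LD3_c22))))))
theorem f430816 : Led Lsl_gt (LP (LK LD1_c12 LD2_c18 LD3_c46)) = (LP (LK LD1_c12 LD2_c0 LD3_c48)) :=
  Lgr Lrot46 (Lpr_gf (K46.f430750 IH) (Lpe (f134291 IH) (Lpe (K11.f133868 IH) (Lpn (LP (LK LD1_c12 LD2_c0 LD3_c48))))))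
theorem f155316 : Led Lsl_cf (LP (LK LD1_c6 LD2_c11 LD3_c44)) = (LP (LK LD1_c6 LD2_c22 LD3_c36)) :=
  Lgr Lrot11 (Lpr_ct (K7.f155299 IH) (Lpn (LP (LK LD1_c6 LD2_c22 LD3_c36))))
theorem f447201 : Led Lsl_gf (LP (LK LD1_c6 LD2_c22 LD3_c36)) = (LP (LK LD1_c9 LD2_c18 LD3_c55)) :=
  Lgr Lrot179 (Lpe (f155316 IH) (Lpe (K46.f153080 IH) (Lpr_ct (K46.f126803 IH) (Lpr_dt (K46.f153065 IH) (Lpr_cf (K46.f153068 IH) (Lpe (K46.f430745 IH) (Lpr_cf (K5.f114519 IH) (Lpe (f430816 IH) (Lpr_dt (f447183 IH) (Lpn (LP (LK LD1_c9 LD2_c18 LD3_c55))))))))))))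
theorem f154817 : Led Lsl_af (LP (LK LD1_c3 LD2_c23 LD3_c59)) = (LP (LK LD1_c3 LD2_c9 LD3_c6)) :=
  Lgr Lrot45 (Lpr_ft (K6.f94164 IH) (Lpr_at (K11.f90536 IH) (Lpr_ft (K7.f154811 IH) (Lpn (LP (LK LD1_c3 LD2_c9 LD3_c6))))))
theorem f446980 : Led Lsl_gf (LP (LK LD1_c3 LD2_c9 LD3_c5)) = (LP (LK LD1_c3 LD2_c23 LD3_c58)) :=
  Lgr Lrot47 (Lpr_gt (f446978 IH) (Lpr_af (f154817 IH) (Lpe (K7.f154811 IH) (Lpn (LP (LK LD1_c3 LD2_c23 LD3_c58))))))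
theorem f447210 : Led Lsl_bf (LP (LK LD1_c3 LD2_c9 LD3_c5)) = (LP (LK LD1_c4 LD2_c42 LD3_c17)) :=
  Lgr Lrot34 (Lpr_gf (f446980 IH) (Lpe (K7.f90352 IH) (Lpr_ct (K7.f88717 IH) (Lpe (K11.f105709 IH) (Lpe (K7.f61744 IH) (Lpr_gf (K11.f105719 IH) (Lpe (K7.f105722 IH) (Lpr_ct (K7.f155299 IH) (Lpr_gf (f447201 IH) (Lpe (f435219 IH) (Lpn (LP (LK LD1_c4 LD2_c42 LD3_c17)))))))))))))
theorem f447124 : Led Lsl_bf (LP (LK LD1_c3 LD2_c8 LD3_c59)) = (LP (LK LD1_c3 LD2_c35 LD3_c7)) :=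
  Lgr Lrot24 (Lpr_bt (f447114 IH) (Lpn (LP (LK LD1_c3 LD2_c35 LD3_c7))))
theorem f447223 : Led Lsl_ft (LP (LK LD1_c3 LD2_c8 LD3_c59)) = (LP (LK LD1_c4 LD2_c42 LD3_c17)) :=
  Lgr Lrot75 (Lpr_bf (f447124 IH) (Lpe (f446970 IH) (Lpr_bf (f447210 IH) (Lpn (LP (LK LD1_c4 LD2_c42 LD3_c17))))))
theorem f447227 : Led Lsl_ff (LP (LK LD1_c3 LD2_c8 LD3_c59)) = (LP (LK LD1_c4 LD2_c42 LD3_c17)) :=
  Lgr Lrot3 (Lpr_ft (f447223 IH) (Lpn (LP (LK LD1_c4 LD2_c42 LD3_c17))))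
theorem f447230 : Led Lsl_ft (LP (LK LD1_c1 LD2_c30 LD3_c38)) = (LP (LK LD1_c2 LD2_c18 LD3_c30)) :=
  Lgr Lrot54 (Lpe (f83135 IH) (Lpr_ff (f447227 IH) (Lpe (f152297 IH) (Lpn (LP (LK LD1_c2 LD2_c18 LD3_c30))))))
theorem f83122 : Led Lsl_at (LP (LK LD1_c0 LD2_c43 LD3_c11)) = (LP (LK LD1_c1 LD2_c33 LD3_c16)) :=
  Lre_a IH (LK LD1_c0 LD2_c43 LD3_c11) (LK LD1_c1 LD2_c33 LD3_c16) Lrfl Lrfl
theorem f83124 : Led Lsl_et (LP (LK LD1_c1 LD2_c33 LD3_c16)) = (LP (LK LD1_c1 LD2_c30 LD3_c38)) :=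
  Lgr Lrot123 (Lpe (f83122 IH) (Lpr_ef (K11.f83119 IH) (Lpe (f83123 IH) (Lpn (LP (LK LD1_c1 LD2_c30 LD3_c38))))))
theorem f152252 : Led Lsl_bt (LP (LK LD1_c2 LD2_c18 LD3_c33)) = (LP (LK LD1_c4 LD2_c42 LD3_c19)) :=
  Lre_b IH (LK LD1_c2 LD2_c18 LD3_c33) (LK LD1_c4 LD2_c42 LD3_c19) Lrfl Lrfl
theorem f152253 : Led Lsl_bt (LP (LK LD1_c4 LD2_c42 LD3_c19)) = (LP (LK LD1_c2 LD2_c18 LD3_c33)) :=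
  Lre_b IH (LK LD1_c4 LD2_c42 LD3_c19) (LK LD1_c2 LD2_c18 LD3_c33) Lrfl Lrfl
theorem f152254 : Led Lsl_dt (LP (LK LD1_c4 LD2_c42 LD3_c19)) = (LP (LK LD1_c4 LD2_c42 LD3_c19)) :=
  Lgr Lrot79 (Lpe (f152252 IH) (Lpr_df (K24.f152190 IH) (Lpe (f152253 IH) (Lpn (LP (LK LD1_c4 LD2_c42 LD3_c19))))))
theorem f152264 : Led Lsl_at (LP (LK LD1_c9 LD2_c18 LD3_c56)) = (LP (LK LD1_c4 LD2_c42 LD3_c19)) :=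
  Lre_a IH (LK LD1_c9 LD2_c18 LD3_c56) (LK LD1_c4 LD2_c42 LD3_c19) Lrfl Lrfl
theorem f152265 : Led Lsl_at (LP (LK LD1_c4 LD2_c42 LD3_c19)) = (LP (LK LD1_c9 LD2_c18 LD3_c56)) :=
  Lre_a IH (LK LD1_c4 LD2_c42 LD3_c19) (LK LD1_c9 LD2_c18 LD3_c56) Lrfl Lrfl
theorem f152266 : Led Lsl_df (LP (LK LD1_c9 LD2_c18 LD3_c56)) = (LP (LK LD1_c9 LD2_c18 LD3_c56)) :=
  Lgr Lrot18 (Lpr_at (f152264 IH) (Lpr_dt (f152254 IH) (Lpr_at (f152265 IH) (Lpn (LP (LK LD1_c9 LD2_c18 LD3_c56))))))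
theorem f152294 : Led Lsl_et (LP (LK LD1_c9 LD2_c18 LD3_c56)) = (LP (LK LD1_c4 LD2_c42 LD3_c17)) :=
  Lre_e IH (LK LD1_c9 LD2_c18 LD3_c56) (LK LD1_c4 LD2_c42 LD3_c17) Lrfl Lrfl
theorem f152296 : Led Lsl_et (LP (LK LD1_c4 LD2_c42 LD3_c17)) = (LP (LK LD1_c9 LD2_c18 LD3_c56)) :=
  Lre_e IH (LK LD1_c4 LD2_c42 LD3_c17) (LK LD1_c9 LD2_c18 LD3_c56) Lrfl Lrfl
theorem f152298 : Led Lsl_et (LP (LK LD1_c2 LD2_c18 LD3_c30)) = (LP (LK LD1_c2 LD2_c18 LD3_c30)) :=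
  Lgr Lrot71 (Lpe (f152295 IH) (Lpe (f152294 IH) (Lpr_df (f152266 IH) (Lpe (f152296 IH) (Lpe (f152297 IH) (Lpn (LP (LK LD1_c2 LD2_c18 LD3_c30))))))))
theorem f447225 : Led Lsl_ff (LP (LK LD1_c1 LD2_c30 LD3_c38)) = (LP (LK LD1_c2 LD2_c18 LD3_c30)) :=
  Lgr Lrot19 (Lpr_dt (f83130 IH) (Lpr_ft (f447223 IH) (Lpr_dt (f152295 IH) (Lpn (LP (LK LD1_c2 LD2_c18 LD3_c30))))))
theorem f83131 : Led Lsl_ef (LP (LK LD1_c1 LD2_c33 LD3_c16)) = (LP (LK LD1_c1 LD2_c30 LD3_c38)) :=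
  Lgr Lrot88 (Lpr_et (f83124 IH) (Lpn (LP (LK LD1_c1 LD2_c30 LD3_c38))))
theorem f447234 : Led Lsl_ff (LP (LK LD1_c1 LD2_c33 LD3_c16)) = (LP (LK LD1_c1 LD2_c33 LD3_c16)) :=
  Lgr Lrot72 (Lpr_et (f83124 IH) (Lpr_ft (f447230 IH) (Lpr_et (f152298 IH) (Lpe (f447225 IH) (Lpe (f83131 IH) (Lpn (LP (LK LD1_c1 LD2_c33 LD3_c16))))))))
theorem f83133 : Led Lsl_at (LP (LK LD1_c1 LD2_c33 LD3_c16)) = (LP (LK LD1_c0 LD2_c43 LD3_c11)) :=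
  Lre_a IH (LK LD1_c1 LD2_c33 LD3_c16) (LK LD1_c0 LD2_c43 LD3_c11) Lrfl Lrfl
theorem f447236 : Led Lsl_ft (LP (LK LD1_c0 LD2_c43 LD3_c11)) = (LP (LK LD1_c0 LD2_c43 LD3_c11)) :=
  Lgr Lrot101 (Lpe (f83133 IH) (Lpr_ff (f447234 IH) (Lpe (f83122 IH) (Lpn (LP (LK LD1_c0 LD2_c43 LD3_c11))))))
theorem f23321 : Led Lsl_et (LP (LK LD1_c0 LD2_c42 LD3_c45)) = (LP (LK LD1_c1 LD2_c32 LD3_c23)) :=
  Lre_e IH (LK LD1_c0 LD2_c42 LD3_c45) (LK LD1_c1 LD2_c32 LD3_c23) Lrfl Lrfl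
theorem f155447 : Led Lsl_gt (LP (LK LD1_c0 LD2_c43 LD3_c11)) = (LP (LK LD1_c1 LD2_c32 LD3_c23)) :=
  Lgr Lrot131 (Lpr_ef (K11.f83119 IH) (Lpr_dt (K7.f83128 IH) (Lpe (K7.f83129 IH) (Lpr_df (K7.f155424 IH) (Lpe (K3.f67898 IH) (Lpe (K2.f25124 IH) (Lpr_dt (K2.f25120 IH) (Lpe (f76455 IH) (Lpe (f13461 IH) (Lpr_et (f23321 IH) (Lpn (LP (LK LD1_c1 LD2_c32 LD3_c23)))))))))))))
theorem f447240 : Led Lsl_gt (LP (LK LD1_c1 LD2_c32 LD3_c23)) = (LP (LK LD1_c1 LD2_c33 LD3_c16)) :=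
  Lgr Lrot46 (Lpe (f155447 IH) (Lpr_ft (f447236 IH) (Lpr_at (f83122 IH) (Lpn (LP (LK LD1_c1 LD2_c33 LD3_c16))))))
theorem f434604 : Led Lsl_bf (LP (LK LD1_c1 LD2_c32 LD3_c23)) = (LP (LK LD1_c1 LD2_c7 LD3_c39)) :=
  Lgr Lrot34 (Lpe (f155447 IH) (Lpe (K11.f83112 IH) (Lpr_ct (K11.f434602 IH) (Lpe (K7.f152161 IH) (Lpe (K7.f24276 IH) (Lpe (K7.f154146 IH) (Lpe (K11.f83183 IH) (Lpe (K11.f153134 IH) (Lpe (K7.f152861 IH) (Lpe (K11.f102279 IH) (Lpn (LP (LK LD1_c1 LD2_c7 LD3_c39)))))))))))))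
theorem f434055 : Led Lsl_ct (LP (LK LD1_c1 LD2_c7 LD3_c41)) = (LP (LK LD1_c1 LD2_c7 LD3_c41)) :=
  Lgr Lrot83 (Lpe (K11.f434041 IH) (Lpr_cf (K11.f434045 IH) (Lpr_bf (K11.f434053 IH) (Lpe (K11.f434043 IH) (Lpr_bf (K11.f434033 IH) (Lpn (LP (LK LD1_c1 LD2_c7 LD3_c41))))))))
theorem f447242 : Led Lsl_bt (LP (LK LD1_c1 LD2_c33 LD3_c15)) = (LP (LK LD1_c1 LD2_c33 LD3_c16)) :=
  Lgr Lrot92 (Lpr_ct (f446934 IH) (Lpr_gt (f91949 IH) (Lpe (K3.f94255 IH) (Lpe (f430289 IH) (Lpr_gt (f102277 IH) (Lpr_ct (f434055 IH) (Lpr_gt (K11.f98951 IH) (Lpe (K11.f102279 IH) (Lpe (f434604 IH) (Lpr_gt (f447240 IH) (Lpn (LP (LK LD1_c1 LD2_c33 LD3_c16)))))))))))))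
theorem f447248 : Led Lsl_bf (LP (LK LD1_c1 LD2_c44 LD3_c20)) = (LP (LK LD1_c1 LD2_c30 LD3_c38)) :=
  Lgr Lrot96 (Lpr_et (f429023 IH) (Lpr_bt (f447242 IH) (Lpr_et (f83124 IH) (Lpn (LP (LK LD1_c1 LD2_c30 LD3_c38))))))
theorem f429028 : Led Lsl_at (LP (LK LD1_c1 LD2_c44 LD3_c20)) = (LP (LK LD1_c0 LD2_c48 LD3_c46)) :=
  Lre_a IH (LK LD1_c1 LD2_c44 LD3_c20) (LK LD1_c0 LD2_c48 LD3_c46) Lrfl Lrfl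
theorem f447250 : Led Lsl_at (LP (LK LD1_c0 LD2_c30 LD3_c16)) = (LP (LK LD1_c0 LD2_c18 LD3_c40)) :=
  Lgr Lrot67 (Lpr_bf (K11.f154357 IH) (Lpe (f429028 IH) (Lpr_bf (f447248 IH) (Lpe (f83134 IH) (Lpe (K7.f83118 IH) (Lpn (LP (LK LD1_c0 LD2_c18 LD3_c40))))))))
theorem f447260 : Led Lsl_ff (LP (LK LD1_c0 LD2_c30 LD3_c16)) = (LP (LK LD1_c0 LD2_c18 LD3_c41)) :=
  Lgr Lrot52 (Lpr_at (f447250 IH) (Lpe (K1.f25806 IH) (Lpe (K1.f58935 IH) (Lpn (LP (LK LD1_c0 LD2_c18 LD3_c41))))))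
theorem f447266 : Led Lsl_ft (LP (LK LD1_c0 LD2_c30 LD3_c16)) = (LP (LK LD1_c0 LD2_c18 LD3_c41)) :=
  Lgr Lrot48 (Lpr_ff (f447260 IH) (Lpn (LP (LK LD1_c0 LD2_c18 LD3_c41))))
theorem f447270 : Led Lsl_ff (LP (LK LD1_c0 LD2_c19 LD3_c15)) = (LP (LK LD1_c0 LD2_c19 LD3_c15)) :=
  Lgr Lrot72 (Lpe (K7.f61273 IH) (Lpr_ft (f447266 IH) (Lpr_et (K1.f67141 IH) (Lpe (f447260 IH) (Lpr_et (K7.f61270 IH) (Lpn (LP (LK LD1_c0 LD2_c19 LD3_c15))))))))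
theorem f450623 : Led Lsl_ff K35.v129 = K35.v129 :=
  Lgr Lrot19 (Lpe (K35.f450622 IH) (Lpe (f447270 IH) (Lpr_dt (K35.f450621 IH) (Lpn K35.v129))))
theorem f450632 : Led Lsl_at K35.v129 = K35.v130 :=
  Lgr Lrot26 (Lpr_ff (f450623 IH) (Lpe (f450624 IH) (Lpr_gt (K35.f450631 IH) (Lpn K35.v130))))
theorem f490762 : Led Lsl_ef K35.v129 = v965 :=
  Lgr Lrot88 (Lpr_et (f490761 IH) (Lpn v965))
theorem f490764 : Led Lsl_af v965 = v966 :=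
  Lgr Lrot50 (Lpe (f490762 IH) (Lpr_at (f450632 IH) (Lpr_et (f490763 IH) (Lpn v966))))
theorem f626422 : Led Lsl_gf v3603 = v3607 :=
  Lgr Lrot47 (Lpe (f626407 IH) (Lpr_af (f490764 IH) (Lpr_ff (f626417 IH) (Lpn v3607))))
def v3604 : LQ := Led Lsl_ft v965
theorem f626408 : Led Lsl_ft v965 = v3604 :=
  Lrfl
theorem f626419 : Led Lsl_at v3604 = v3607 :=
  Lgr Lrot66 (Lpe (f626408 IH) (Lpr_af (f490764 IH) (Lpr_ff (f626417 IH) (Lpn v3607))))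
theorem f626406 : Led Lsl_gt v965 = v3602 :=
  Lrfl
theorem f626423 : Led Lsl_gt v3602 = v3607 :=
  Lgr Lrot46 (Lpe (f626406 IH) (Lpr_ft (f626408 IH) (Lpr_at (f626419 IH) (Lpn v3607))))
theorem f670004 : Led Lsl_ft v3602 = v3606 :=
  Lgr Lrot2 (Lpr_gt (f626423 IH) (Lpe (f626422 IH) (Lpr_af (f670002 IH) (Lpn v3606))))
theorem f670005 : Led Lsl_ff v3602 = v3606 :=
  Lgr Lrot3 (Lpr_ft (f670004 IH) (Lpn v3606))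
def v3605 : LQ := Led Lsl_gt v966
theorem f626411 : Led Lsl_gt v966 = v3605 :=
  Lrfl
theorem f670006 : Led Lsl_at v3602 = v3605 :=
  Lgr Lrot26 (Lpr_ff (f670005 IH) (Lpe (f626412 IH) (Lpr_gt (f626411 IH) (Lpn v3605))))
theorem f670007 : Led Lsl_af v3602 = v3605 :=
  Lgr Lrot0 (Lpr_at (f670006 IH) (Lpn v3605))
def v3215 : LQ := Led Lsl_dt K24.v573
def v10172 : LQ := Led Lsl_ct v3215
theorem f679075 : Led Lsl_ct v3215 = v10172 :=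
  Lrfl
theorem f624634 : Led Lsl_dt K24.v573 = v3215 :=
  Lrfl
theorem f624635 : Led Lsl_df K24.v573 = v3215 :=
  Lgr Lrot38 (Lpr_dt (f624634 IH) (Lpn v3215))
theorem f174606 : Led Lsl_dt (LP (LK LD1_c2 LD2_c16 LD3_c35)) = (LP (LK LD1_c1 LD2_c5 LD3_c9)) :=
  Lre_d IH (LK LD1_c2 LD2_c16 LD3_c35) (LK LD1_c1 LD2_c5 LD3_c9) Lrfl Lrfl
theorem f507107 : Led Lsl_ft (LP (LK LD1_c4 LD2_c39 LD3_c4)) = (LP (LK LD1_c2 LD2_c57 LD3_c36)) :=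
  Lgr Lrot54 (Lpe (K35.f71353 IH) (Lpr_ff (K35.f507103 IH) (Lpe (K32.f501057 IH) (Lpn (LP (LK LD1_c2 LD2_c57 LD3_c36))))))
theorem f507625 : Led Lsl_af (LP (LK LD1_c4 LD2_c39 LD3_c5)) = (LP (LK LD1_c2 LD2_c57 LD3_c36)) :=
  Lgr Lrot45 (Lpr_ft (K35.f507623 IH) (Lpe (K35.f507617 IH) (Lpr_ft (f507107 IH) (Lpn (LP (LK LD1_c2 LD2_c57 LD3_c36))))))
theorem f507720 : Led Lsl_gt (LP (LK LD1_c4 LD2_c39 LD3_c4)) = (LP (LK LD1_c2 LD2_c16 LD3_c35)) :=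
  Lgr Lrot5 (Lpr_ft (f507107 IH) (Lpe (f507625 IH) (Lpr_gf (K46.f507641 IH) (Lpn (LP (LK LD1_c2 LD2_c16 LD3_c35))))))
theorem f444133 : Led Lsl_gt (LP (LK LD1_c3 LD2_c6 LD3_c61)) = (LP (LK LD1_c2 LD2_c19 LD3_c45)) :=
  Lgr Lrot139 (Lpr_df (K31.f67059 IH) (Lpr_gf (K31.f83555 IH) (Lpe (K2.f83247 IH) (Lpe (K2.f68273 IH) (Lpr_gf (K9.f79734 IH) (Lpe (K32.f67110 IH) (Lpr_et (K32.f444131 IH) (Lpe (K32.f82583 IH) (Lpe (K24.f82592 IH) (Lpr_dt (K24.f82601 IH) (Lpn (LP (LK LD1_c2 LD2_c19 LD3_c45)))))))))))))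
theorem f624636 : Led Lsl_gt (LP (LK LD1_c3 LD2_c8 LD3_c35)) = v3215 :=
  Lgr Lrot49 (Lpr_df (K24.f82594 IH) (Lpe (f444133 IH) (Lpe (K31.f140238 IH) (Lpr_gt (K35.f503797 IH) (Lpr_dt (K35.f71353 IH) (Lpr_gt (f507720 IH) (Lpr_dt (f174606 IH) (Lpr_cf (K24.f454830 IH) (Lpr_df (f624635 IH) (Lpn v3215))))))))))
def v6459 : LQ := Led Lsl_ct (LP (LK LD1_c3 LD2_c22 LD3_c0))
theorem f653488 : Led Lsl_ct (LP (LK LD1_c3 LD2_c22 LD3_c0)) = v6459 :=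
  Lrfl
theorem f653490 : Led Lsl_cf (LP (LK LD1_c3 LD2_c22 LD3_c0)) = v6459 :=
  Lgr Lrot11 (Lpr_ct (f653488 IH) (Lpn v6459))
theorem f679081 : Led Lsl_gf v6459 = v10172 :=
  Lgr Lrot104 (Lpe (f653490 IH) (Lpe (K29.f415345 IH) (Lpr_cf (K35.f444626 IH) (Lpe (K35.f444625 IH) (Lpr_cf (K46.f445986 IH) (Lpe (K35.f82606 IH) (Lpe (K24.f82601 IH) (Lpr_gt (f624636 IH) (Lpr_ct (f679075 IH) (Lpn v10172))))))))))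
theorem f20114 : Led Lsl_ct (LP (LK LD1_c4 LD2_c48 LD3_c7)) = (LP (LK LD1_c9 LD2_c29 LD3_c1)) :=
  Lre_c IH (LK LD1_c4 LD2_c48 LD3_c7) (LK LD1_c9 LD2_c29 LD3_c1) Lrfl Lrfl
theorem f507212 : Led Lsl_at (LP (LK LD1_c9 LD2_c29 LD3_c1)) = (LP (LK LD1_c6 LD2_c42 LD3_c56)) :=
  Lgr Lrot107 (Lpe (f20114 IH) (Lpr_af (K35.f507210 IH) (Lpe (K32.f146153 IH) (Lpn (LP (LK LD1_c6 LD2_c42 LD3_c56))))))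
theorem f146152 : Led Lsl_ct (LP (LK LD1_c3 LD2_c19 LD3_c32)) = (LP (LK LD1_c6 LD2_c42 LD3_c56)) :=
  Lre_c IH (LK LD1_c3 LD2_c19 LD3_c32) (LK LD1_c6 LD2_c42 LD3_c56) Lrfl Lrfl
theorem f507206 : Led Lsl_ff (LP (LK LD1_c9 LD2_c20 LD3_c25)) = (LP (LK LD1_c6 LD2_c42 LD3_c56)) :=
  Lgr Lrot23 (Lpr_ct (K46.f417074 IH) (Lpr_ft (K35.f507204 IH) (Lpr_ct (f146152 IH) (Lpn (LP (LK LD1_c6 LD2_c42 LD3_c56))))))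
theorem f507256 : Led Lsl_at (LP (LK LD1_c9 LD2_c20 LD3_c25)) = (LP (LK LD1_c6 LD2_c27 LD3_c19)) :=
  Lgr Lrot66 (Lpr_ff (f507206 IH) (Lpe (f507212 IH) (Lpr_ff (K46.f507218 IH) (Lpn (LP (LK LD1_c6 LD2_c27 LD3_c19))))))
theorem f152789 : Led Lsl_et (LP (LK LD1_c6 LD2_c27 LD3_c19)) = (LP (LK LD1_c3 LD2_c11 LD3_c33)) :=
  Lre_e IH (LK LD1_c6 LD2_c27 LD3_c19) (LK LD1_c3 LD2_c11 LD3_c33) Lrfl Lrfl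
theorem f507277 : Led Lsl_af (LP (LK LD1_c4 LD2_c43 LD3_c36)) = (LP (LK LD1_c3 LD2_c11 LD3_c33)) :=
  Lgr Lrot50 (Lpr_et (K46.f417073 IH) (Lpr_at (f507256 IH) (Lpr_et (f152789 IH) (Lpn (LP (LK LD1_c3 LD2_c11 LD3_c33))))))
theorem f507287 : Led Lsl_ft (LP (LK LD1_c4 LD2_c43 LD3_c35)) = (LP (LK LD1_c3 LD2_c11 LD3_c33)) :=
  Lgr Lrot2 (Lpe (K32.f154567 IH) (Lpr_gt (K32.f435281 IH) (Lpr_af (f507277 IH) (Lpn (LP (LK LD1_c3 LD2_c11 LD3_c33))))))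
theorem f507291 : Led Lsl_ff (LP (LK LD1_c2 LD2_c22 LD3_c11)) = (LP (LK LD1_c1 LD2_c36 LD3_c29)) :=
  Lgr Lrot23 (Lpr_ct (K32.f435473 IH) (Lpr_ft (f507287 IH) (Lpe (K48.f416822 IH) (Lpn (LP (LK LD1_c1 LD2_c36 LD3_c29))))))
theorem f146141 : Led Lsl_et (LP (LK LD1_c2 LD2_c22 LD3_c11)) = (LP (LK LD1_c4 LD2_c48 LD3_c35)) :=
  Lre_e IH (LK LD1_c2 LD2_c22 LD3_c11) (LK LD1_c4 LD2_c48 LD3_c35) Lrfl Lrfl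
theorem f507315 : Led Lsl_ft (LP (LK LD1_c4 LD2_c48 LD3_c35)) = (LP (LK LD1_c9 LD2_c29 LD3_c0)) :=
  Lgr Lrot86 (Lpe (f146141 IH) (Lpr_ff (f507291 IH) (Lpe (K32.f23837 IH) (Lpe (K35.f507216 IH) (Lpe (K32.f20125 IH) (Lpn (LP (LK LD1_c9 LD2_c29 LD3_c0))))))))
theorem f507321 : Led Lsl_ff (LP (LK LD1_c4 LD2_c48 LD3_c35)) = (LP (LK LD1_c9 LD2_c29 LD3_c0)) :=
  Lgr Lrot3 (Lpr_ft (f507315 IH) (Lpn (LP (LK LD1_c9 LD2_c29 LD3_c0))))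
theorem f507325 : Led Lsl_ft (LP (LK LD1_c3 LD2_c22 LD3_c22)) = (LP (LK LD1_c4 LD2_c48 LD3_c6)) :=
  Lgr Lrot54 (Lpr_df (K32.f146137 IH) (Lpr_ff (f507321 IH) (Lpe (K32.f135505 IH) (Lpn (LP (LK LD1_c4 LD2_c48 LD3_c6))))))
theorem f507329 : Led Lsl_af (LP (LK LD1_c3 LD2_c19 LD3_c30)) = (LP (LK LD1_c4 LD2_c48 LD3_c6)) :=
  Lgr Lrot31 (Lpe (K32.f57671 IH) (Lpe (K32.f57675 IH) (Lpr_ft (f507325 IH) (Lpn (LP (LK LD1_c4 LD2_c48 LD3_c6))))))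
theorem f57700 : Led Lsl_et (LP (LK LD1_c3 LD2_c19 LD3_c30)) = (LP (LK LD1_c1 LD2_c36 LD3_c9)) :=
  Lre_e IH (LK LD1_c3 LD2_c19 LD3_c30) (LK LD1_c1 LD2_c36 LD3_c9) Lrfl Lrfl
theorem f507333 : Led Lsl_at (LP (LK LD1_c1 LD2_c36 LD3_c9)) = (LP (LK LD1_c2 LD2_c21 LD3_c56)) :=
  Lgr Lrot80 (Lpe (f57700 IH) (Lpr_af (f507329 IH) (Lpe (K32.f113288 IH) (Lpn (LP (LK LD1_c2 LD2_c21 LD3_c56))))))
theorem f507339 : Led Lsl_ff (LP (LK LD1_c1 LD2_c36 LD3_c9)) = (LP (LK LD1_c2 LD2_c21 LD3_c55)) :=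
  Lgr Lrot52 (Lpr_at (f507333 IH) (Lpr_gf (K32.f135498 IH) (Lpe (K24.f416139 IH) (Lpn (LP (LK LD1_c2 LD2_c21 LD3_c55))))))
theorem f507345 : Led Lsl_ft (LP (LK LD1_c1 LD2_c36 LD3_c9)) = (LP (LK LD1_c2 LD2_c21 LD3_c55)) :=
  Lgr Lrot48 (Lpr_ff (f507339 IH) (Lpn (LP (LK LD1_c2 LD2_c21 LD3_c55))))
theorem f507349 : Led Lsl_af (LP (LK LD1_c1 LD2_c36 LD3_c7)) = (LP (LK LD1_c2 LD2_c21 LD3_c55)) :=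
  Lgr Lrot31 (Lpe (K32.f24633 IH) (Lpe (K32.f500092 IH) (Lpr_ft (f507345 IH) (Lpn (LP (LK LD1_c2 LD2_c21 LD3_c55))))))
theorem f507353 : Led Lsl_at (LP (LK LD1_c3 LD2_c19 LD3_c28)) = (LP (LK LD1_c3 LD2_c14 LD3_c34)) :=
  Lgr Lrot80 (Lpe (K46.f24696 IH) (Lpr_af (f507349 IH) (Lpe (K24.f68385 IH) (Lpn (LP (LK LD1_c3 LD2_c14 LD3_c34))))))
theorem f507432 : Led Lsl_af (LP (LK LD1_c3 LD2_c19 LD3_c28)) = (LP (LK LD1_c3 LD2_c14 LD3_c34)) :=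
  Lgr Lrot0 (Lpr_at (f507353 IH) (Lpn (LP (LK LD1_c3 LD2_c14 LD3_c34))))
theorem f507436 : Led Lsl_ft (LP (LK LD1_c3 LD2_c22 LD3_c0)) = (LP (LK LD1_c3 LD2_c14 LD3_c34)) :=
  Lgr Lrot2 (Lpr_gt (K29.f25606 IH) (Lpe (K32.f144073 IH) (Lpr_af (f507432 IH) (Lpn (LP (LK LD1_c3 LD2_c14 LD3_c34))))))
theorem f507442 : Led Lsl_ff (LP (LK LD1_c3 LD2_c22 LD3_c0)) = (LP (LK LD1_c3 LD2_c14 LD3_c34)) :=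
  Lgr Lrot3 (Lpr_ft (f507436 IH) (Lpn (LP (LK LD1_c3 LD2_c14 LD3_c34))))
theorem f653491 : Led Lsl_ff (LP (LK LD1_c6 LD2_c32 LD3_c41)) = v6459 :=
  Lgr Lrot23 (Lpr_ct (K29.f68392 IH) (Lpe (f507442 IH) (Lpr_ct (f653488 IH) (Lpn v6459))))
def v6253 : LQ := Led Lsl_et (LP (LK LD1_c3 LD2_c19 LD3_c27))
theorem f652306 : Led Lsl_et (LP (LK LD1_c3 LD2_c19 LD3_c27)) = v6253 :=
  Lrfl
theorem f652309 : Led Lsl_ef (LP (LK LD1_c3 LD2_c19 LD3_c27)) = v6253 :=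
  Lgr Lrot88 (Lpr_et (f652306 IH) (Lpn v6253))
theorem f68409 : Led Lsl_ct (LP (LK LD1_c4 LD2_c48 LD3_c4)) = (LP (LK LD1_c2 LD2_c21 LD3_c55)) :=
  Lre_c IH (LK LD1_c4 LD2_c48 LD3_c4) (LK LD1_c2 LD2_c21 LD3_c55) Lrfl Lrfl
theorem f507351 : Led Lsl_at (LP (LK LD1_c3 LD2_c19 LD3_c27)) = (LP (LK LD1_c4 LD2_c48 LD3_c4)) :=
  Lgr Lrot107 (Lpe (K32.f24634 IH) (Lpr_af (f507349 IH) (Lpe (f68409 IH) (Lpn (LP (LK LD1_c4 LD2_c48 LD3_c4))))))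
theorem f652310 : Led Lsl_at (LP (LK LD1_c6 LD2_c32 LD3_c41)) = v6253 :=
  Lgr Lrot80 (Lpr_ef (K29.f68394 IH) (Lpe (f507351 IH) (Lpr_ef (f652309 IH) (Lpn v6253))))
theorem f24638 : Led Lsl_ct (LP (LK LD1_c3 LD2_c19 LD3_c27)) = (LP (LK LD1_c1 LD2_c36 LD3_c7)) :=
  Lre_c IH (LK LD1_c3 LD2_c19 LD3_c27) (LK LD1_c1 LD2_c36 LD3_c7) Lrfl Lrfl
theorem f652311 : Led Lsl_ct (LP (LK LD1_c3 LD2_c19 LD3_c28)) = v6253 :=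
  Lgr Lrot15 (Lpe (K46.f24696 IH) (Lpe (f24638 IH) (Lpr_ef (f652309 IH) (Lpn v6253))))
theorem f507335 : Led Lsl_af (LP (LK LD1_c1 LD2_c36 LD3_c9)) = (LP (LK LD1_c2 LD2_c21 LD3_c56)) :=
  Lgr Lrot0 (Lpr_at (f507333 IH) (Lpn (LP (LK LD1_c2 LD2_c21 LD3_c56))))
theorem f507355 : Led Lsl_ft (LP (LK LD1_c1 LD2_c36 LD3_c7)) = (LP (LK LD1_c2 LD2_c21 LD3_c56)) :=
  Lgr Lrot101 (Lpr_af (f507349 IH) (Lpe (f507345 IH) (Lpr_af (f507335 IH) (Lpn (LP (LK LD1_c2 LD2_c21 LD3_c56))))))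
theorem f507319 : Led Lsl_ff (LP (LK LD1_c3 LD2_c22 LD3_c22)) = (LP (LK LD1_c4 LD2_c48 LD3_c6)) :=
  Lgr Lrot19 (Lpr_dt (K32.f146139 IH) (Lpr_ft (f507315 IH) (Lpr_dt (K32.f20126 IH) (Lpn (LP (LK LD1_c4 LD2_c48 LD3_c6))))))
theorem f507359 : Led Lsl_ff (LP (LK LD1_c3 LD2_c19 LD3_c28)) = (LP (LK LD1_c4 LD2_c50 LD3_c4)) :=
  Lgr Lrot72 (Lpr_et (K32.f24655 IH) (Lpr_ft (f507355 IH) (Lpr_et (K32.f113288 IH) (Lpe (f507319 IH) (Lpe (K32.f146146 IH) (Lpn (LP (LK LD1_c4 LD2_c50 LD3_c4))))))))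
theorem f146151 : Led Lsl_ct (LP (LK LD1_c9 LD2_c32 LD3_c37)) = (LP (LK LD1_c4 LD2_c50 LD3_c4)) :=
  Lre_c IH (LK LD1_c9 LD2_c32 LD3_c37) (LK LD1_c4 LD2_c50 LD3_c4) Lrfl Lrfl
theorem f652312 : Led Lsl_ff (LP (LK LD1_c9 LD2_c32 LD3_c37)) = v6253 :=
  Lgr Lrot23 (Lpr_ct (f146151 IH) (Lpe (f507359 IH) (Lpr_ct (f652311 IH) (Lpn v6253))))
theorem f653493 : Led Lsl_at (LP (LK LD1_c9 LD2_c32 LD3_c37)) = v6459 :=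
  Lgr Lrot66 (Lpr_ff (f652312 IH) (Lpe (f652310 IH) (Lpr_ff (f653491 IH) (Lpn v6459))))
theorem f679082 : Led Lsl_gt v6253 = v10172 :=
  Lgr Lrot5 (Lpe (f652312 IH) (Lpr_at (f653493 IH) (Lpr_gf (f679081 IH) (Lpn v10172))))
theorem f652308 : Led Lsl_cf (LP (LK LD1_c3 LD2_c19 LD3_c28)) = v6253 :=
  Lgr Lrot39 (Lpr_et (K32.f24655 IH) (Lpr_ct (K32.f24634 IH) (Lpr_et (f652306 IH) (Lpn v6253))))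
theorem f25443 : Led Lsl_dt (LP (LK LD1_c3 LD2_c22 LD3_c12)) = (LP (LK LD1_c1 LD2_c37 LD3_c22)) :=
  Lre_d IH (LK LD1_c3 LD2_c22 LD3_c12) (LK LD1_c1 LD2_c37 LD3_c22) Lrfl Lrfl
def v6471 : LQ := Led Lsl_gf (LP (LK LD1_c3 LD2_c22 LD3_c12))
theorem f653538 : Led Lsl_gf (LP (LK LD1_c3 LD2_c22 LD3_c12)) = v6471 :=
  Lrfl
theorem f679084 : Led Lsl_df v6471 = v10172 :=
  Lgr Lrot153 (Lpe (f653538 IH) (Lpr_dt (f25443 IH) (Lpe (K35.f23249 IH) (Lpe (K0.f23257 IH) (Lpe (K32.f25436 IH) (Lpe (K46.f25437 IH) (Lpe (K46.f25438 IH) (Lpr_cf (f652308 IH) (Lpr_gt (f679082 IH) (Lpn v10172))))))))))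
theorem f25695 : Led Lsl_dt (LP (LK LD1_c1 LD2_c37 LD3_c22)) = (LP (LK LD1_c3 LD2_c22 LD3_c12)) :=
  Lre_d IH (LK LD1_c1 LD2_c37 LD3_c22) (LK LD1_c3 LD2_c22 LD3_c12) Lrfl Lrfl
theorem f58559 : Led Lsl_et (LP (LK LD1_c1 LD2_c37 LD3_c22)) = (LP (LK LD1_c0 LD2_c45 LD3_c7)) :=
  Lre_e IH (LK LD1_c1 LD2_c37 LD3_c22) (LK LD1_c0 LD2_c45 LD3_c7) Lrfl Lrfl
theorem f154120 : Led Lsl_gt (LP (LK LD1_c1 LD2_c30 LD3_c51)) = (LP (LK LD1_c1 LD2_c44 LD3_c31)) :=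
  Lgr Lrot150 (Lpe (K7.f153745 IH) (Lpr_gf (K7.f153968 IH) (Lpe (K7.f82864 IH) (Lpr_gt (K7.f25788 IH) (Lpr_ct (K7.f25785 IH) (Lpr_gt (K7.f154109 IH) (Lpr_ct (K7.f10357 IH) (Lpe (K7.f10356 IH) (Lpe (K7.f154119 IH) (Lpn (LP (LK LD1_c1 LD2_c44 LD3_c31))))))))))))
theorem f154644 : Led Lsl_et (LP (LK LD1_c1 LD2_c30 LD3_c58)) = (LP (LK LD1_c3 LD2_c9 LD3_c37)) :=
  Lre_e IH (LK LD1_c1 LD2_c30 LD3_c58) (LK LD1_c3 LD2_c9 LD3_c37) Lrfl Lrfl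
def v5546 : LQ := Led Lsl_gt (LP (LK LD1_c3 LD2_c9 LD3_c37))
theorem f648173 : Led Lsl_gt (LP (LK LD1_c3 LD2_c9 LD3_c37)) = v5546 :=
  Lrfl
theorem f83257 : Led Lsl_et (LP (LK LD1_c1 LD2_c30 LD3_c49)) = (LP (LK LD1_c0 LD2_c41 LD3_c54)) :=
  Lre_e IH (LK LD1_c1 LD2_c30 LD3_c49) (LK LD1_c0 LD2_c41 LD3_c54) Lrfl Lrfl
def v1891 : LQ := Led Lsl_gt (LP (LK LD1_c1 LD2_c30 LD3_c41))
theorem f506269 : Led Lsl_gt (LP (LK LD1_c1 LD2_c30 LD3_c41)) = v1891 :=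
  Lrfl
theorem f624637 : Led Lsl_ef v1891 = v3215 :=
  Lgr Lrot17 (Lpe (f506269 IH) (Lpe (f83121 IH) (Lpr_dt (K7.f25820 IH) (Lpe (K1.f25806 IH) (Lpe (K6.f67088 IH) (Lpe (K2.f61776 IH) (Lpe (f83257 IH) (Lpe (K35.f83199 IH) (Lpr_gf (K24.f454827 IH) (Lpr_df (f624635 IH) (Lpn v3215)))))))))))
theorem f624638 : Led Lsl_et v1891 = v3215 :=
  Lgr Lrot87 (Lpr_ef (f624637 IH) (Lpn v3215))
def v8198 : LQ := Led Lsl_ct v1891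
theorem f670314 : Led Lsl_ct v1891 = v8198 :=
  Lrfl
theorem f670315 : Led Lsl_cf v1891 = v8198 :=
  Lgr Lrot11 (Lpr_ct (f670314 IH) (Lpn v8198))
theorem f679078 : Led Lsl_ef v8198 = v10172 :=
  Lgr Lrot28 (Lpe (f670315 IH) (Lpr_et (f624638 IH) (Lpr_ct (f679075 IH) (Lpn v10172))))
theorem f679086 : v5546 = v8198 :=
  (Llr Lrot131 (Lpe (f648173 IH) (Lpe (f154644 IH) (Lpe (K7.f154632 IH) (Lpe (f154120 IH) (Lpe (K7.f84014 IH) (Lpe (K2.f84011 IH) (Lpe (f58559 IH) (Lpr_dt (f25695 IH) (Lpr_gf (f653538 IH) (Lpr_df (f679084 IH) (Lpe (f679078 IH) (Lpn v8198))))))))))))).symm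
def v6985 : LQ := Led Lsl_ft (LP (LK LD1_c3 LD2_c35 LD3_c22))
theorem f659780 : Led Lsl_ft (LP (LK LD1_c3 LD2_c35 LD3_c22)) = v6985 :=
  Lrfl
theorem f659784 : Led Lsl_ff (LP (LK LD1_c3 LD2_c35 LD3_c22)) = v6985 :=
  Lgr Lrot3 (Lpr_ft (f659780 IH) (Lpn v6985))
def v5549 : LQ := Led Lsl_ft (LP (LK LD1_c3 LD2_c9 LD3_c37))
theorem f648180 : Led Lsl_ft (LP (LK LD1_c3 LD2_c9 LD3_c37)) = v5549 :=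
  Lrfl
theorem f659786 : Led Lsl_at v5549 = v6985 :=
  Lgr Lrot66 (Lpe (f648180 IH) (Lpr_af (f433626 IH) (Lpr_ff (f659784 IH) (Lpn v6985))))
theorem f659790 : Led Lsl_gt v5546 = v6985 :=
  Lgr Lrot46 (Lpe (f648173 IH) (Lpr_ft (f648180 IH) (Lpr_at (f659786 IH) (Lpn v6985))))
theorem f433612 : Led Lsl_ft (LP (LK LD1_c3 LD2_c35 LD3_c25)) = (LP (LK LD1_c1 LD2_c44 LD3_c32)) :=
  Lre_f IH (LK LD1_c3 LD2_c35 LD3_c25) (LK LD1_c1 LD2_c44 LD3_c32) Lrfl Lrfl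
theorem f659782 : Led Lsl_cf (LP (LK LD1_c3 LD2_c35 LD3_c25)) = v6985 :=
  Lgr Lrot108 (Lpr_ft (f433612 IH) (Lpr_ct (f433625 IH) (Lpr_ft (f659780 IH) (Lpn v6985))))
def v507 : LQ := Led Lsl_et (LP (LK LD1_c0 LD2_c43 LD3_c13))
def v3102 : LQ := Led Lsl_ft v507
theorem f623870 : Led Lsl_ft v507 = v3102 :=
  Lrfl
theorem f453686 : Led Lsl_et (LP (LK LD1_c0 LD2_c43 LD3_c13)) = v507 :=
  Lrfl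
theorem f453689 : Led Lsl_ef (LP (LK LD1_c0 LD2_c43 LD3_c13)) = v507 :=
  Lgr Lrot88 (Lpr_et (f453686 IH) (Lpn v507))
theorem f154141 : Led Lsl_et (LP (LK LD1_c0 LD2_c48 LD3_c54)) = (LP (LK LD1_c1 LD2_c44 LD3_c32)) :=
  Lre_e IH (LK LD1_c0 LD2_c48 LD3_c54) (LK LD1_c1 LD2_c44 LD3_c32) Lrfl Lrfl
theorem f453691 : Led Lsl_dt (LP (LK LD1_c1 LD2_c44 LD3_c32)) = v507 :=
  Lgr Lrot77 (Lpe (f154141 IH) (Lpe (K7.f154122 IH) (Lpe (K7.f154136 IH) (Lpe (K7.f86078 IH) (Lpr_ef (f453689 IH) (Lpn v507))))))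
theorem f623872 : Led Lsl_df (LP (LK LD1_c3 LD2_c35 LD3_c25)) = v3102 :=
  Lgr Lrot78 (Lpr_ft (f433612 IH) (Lpr_dt (f453691 IH) (Lpr_ft (f623870 IH) (Lpn v3102))))
def v506 : LQ := Led Lsl_ct (LP (LK LD1_c0 LD2_c43 LD3_c13))
def v3099 : LQ := Led Lsl_et v506
def v9870 : LQ := Led Lsl_ft v3099
theorem f677872 : Led Lsl_ft v3099 = v9870 :=
  Lrfl
theorem f623861 : Led Lsl_et v506 = v3099 :=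
  Lrfl
theorem f623864 : Led Lsl_ef v506 = v3099 :=
  Lgr Lrot88 (Lpr_et (f623861 IH) (Lpn v3099))
theorem f453681 : Led Lsl_ct (LP (LK LD1_c0 LD2_c43 LD3_c13)) = v506 :=
  Lrfl
theorem f453682 : Led Lsl_cf (LP (LK LD1_c0 LD2_c43 LD3_c13)) = v506 :=
  Lgr Lrot11 (Lpr_ct (f453681 IH) (Lpn v506))
theorem f623866 : Led Lsl_ct v507 = v3099 :=
  Lgr Lrot15 (Lpe (f453686 IH) (Lpr_cf (f453682 IH) (Lpr_ef (f623864 IH) (Lpn v3099))))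
theorem f623873 : Led Lsl_ff v507 = v3102 :=
  Lgr Lrot3 (Lpr_ft (f623870 IH) (Lpn v3102))
theorem f677874 : Led Lsl_cf v3102 = v9870 :=
  Lgr Lrot108 (Lpe (f623873 IH) (Lpr_ct (f623866 IH) (Lpr_ft (f677872 IH) (Lpn v9870))))
theorem f677875 : Led Lsl_ff v3099 = v9870 :=
  Lgr Lrot3 (Lpr_ft (f677872 IH) (Lpn v9870))
def v509 : LQ := Led Lsl_ct (LP (LK LD1_c0 LD2_c43 LD3_c15))
theorem f453698 : Led Lsl_ct (LP (LK LD1_c0 LD2_c43 LD3_c15)) = v509 :=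
  Lrfl
theorem f453699 : Led Lsl_af v506 = v509 :=
  Lgr Lrot68 (Lpe (f453682 IH) (Lpr_at (K11.f433210 IH) (Lpr_ct (f453698 IH) (Lpn v509))))
def v2004 : LQ := Led Lsl_ct (LP (LK LD1_c1 LD2_c33 LD3_c18))
theorem f506848 : Led Lsl_ct (LP (LK LD1_c1 LD2_c33 LD3_c18)) = v2004 :=
  Lrfl
theorem f83157 : Led Lsl_et (LP (LK LD1_c0 LD2_c43 LD3_c15)) = (LP (LK LD1_c1 LD2_c33 LD3_c18)) :=
  Lre_e IH (LK LD1_c0 LD2_c43 LD3_c15) (LK LD1_c1 LD2_c33 LD3_c18) Lrfl Lrfl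
theorem f453700 : Led Lsl_cf (LP (LK LD1_c0 LD2_c43 LD3_c15)) = v509 :=
  Lgr Lrot11 (Lpr_ct (f453698 IH) (Lpn v509))
theorem f506850 : Led Lsl_ef v509 = v2004 :=
  Lgr Lrot28 (Lpe (f453700 IH) (Lpr_et (f83157 IH) (Lpr_ct (f506848 IH) (Lpn v2004))))
theorem f623862 : Led Lsl_af v2004 = v3099 :=
  Lgr Lrot50 (Lpe (f506850 IH) (Lpe (f453699 IH) (Lpr_et (f623861 IH) (Lpn v3099))))
def v8372 : LQ := Led Lsl_ft v2004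
theorem f671044 : Led Lsl_ft v2004 = v8372 :=
  Lrfl
theorem f677877 : Led Lsl_at v8372 = v9870 :=
  Lgr Lrot66 (Lpe (f671044 IH) (Lpr_af (f623862 IH) (Lpr_ff (f677875 IH) (Lpn v9870))))
def v8368 : LQ := Led Lsl_gt v2004
theorem f671036 : Led Lsl_gt v2004 = v8368 :=
  Lrfl
theorem f677881 : Led Lsl_gt v8368 = v9870 :=
  Lgr Lrot46 (Lpe (f671036 IH) (Lpr_ft (f671044 IH) (Lpr_at (f677877 IH) (Lpn v9870))))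
theorem f679088 : Led Lsl_ct v3605 = v8368 :=
  Lgr Lrot152 (Lpe (f626411 IH) (Lpe (f490768 IH) (Lpr_gt (f506269 IH) (Lpr_ct (f670314 IH) (Lpq (f679086 IH) (Lpr_gt (f659790 IH) (Lpe (f659782 IH) (Lpr_df (f623872 IH) (Lpr_cf (f677874 IH) (Lpe (f677881 IH) (Lpn v8368)))))))))))
theorem f679089 : Led Lsl_cf v3605 = v8368 :=
  Lgr Lrot11 (Lpr_ct (f679088 IH) (Lpn v8368))
theorem f683072 : Led Lsl_af v8368 = v11089 :=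
  Lgr Lrot68 (Lpe (f679089 IH) (Lpe (f670007 IH) (Lpr_ct (f683071 IH) (Lpn v11089))))
def v8369 : LQ := Led Lsl_gf v2004
theorem f671037 : Led Lsl_gf v2004 = v8369 :=
  Lrfl
theorem f683075 : Led Lsl_ft v8369 = v11089 :=
  Lgr Lrot2 (Lpe (f671037 IH) (Lpr_gt (f671036 IH) (Lpr_af (f683072 IH) (Lpn v11089))))
theorem f683073 : Led Lsl_cf v3602 = v11089 :=
  Lgr Lrot11 (Lpr_ct (f683071 IH) (Lpn v11089))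
theorem f683076 : Led Lsl_cf v8369 = v3606 :=
  Lgr Lrot108 (Lpr_ft (f683075 IH) (Lpe (f683073 IH) (Lpr_ft (f670004 IH) (Lpn v3606))))
theorem f506849 : Led Lsl_cf (LP (LK LD1_c1 LD2_c33 LD3_c18)) = v2004 :=
  Lgr Lrot11 (Lpr_ct (f506848 IH) (Lpn v2004))
theorem f83156 : Led Lsl_et (LP (LK LD1_c1 LD2_c30 LD3_c59)) = (LP (LK LD1_c0 LD2_c41 LD3_c59)) :=
  Lre_e IH (LK LD1_c1 LD2_c30 LD3_c59) (LK LD1_c0 LD2_c41 LD3_c59) Lrfl Lrfl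
theorem f83158 : Led Lsl_df (LP (LK LD1_c1 LD2_c30 LD3_c59)) = (LP (LK LD1_c1 LD2_c33 LD3_c18)) :=
  Lgr Lrot70 (Lpr_et (f83156 IH) (Lpr_dt (K11.f25798 IH) (Lpr_et (K7.f83151 IH) (Lpr_dt (K7.f83142 IH) (Lpr_et (f83157 IH) (Lpn (LP (LK LD1_c1 LD2_c33 LD3_c18))))))))
def v5547 : LQ := Led Lsl_gf (LP (LK LD1_c3 LD2_c9 LD3_c37))
theorem f648177 : Led Lsl_gf (LP (LK LD1_c3 LD2_c9 LD3_c37)) = v5547 :=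
  Lrfl
theorem f447272 : Led Lsl_af (LP (LK LD1_c0 LD2_c30 LD3_c17)) = (LP (LK LD1_c0 LD2_c18 LD3_c41)) :=
  Lgr Lrot31 (Lpr_gf (K7.f154081 IH) (Lpe (K7.f154083 IH) (Lpr_ft (f447266 IH) (Lpn (LP (LK LD1_c0 LD2_c18 LD3_c41))))))
theorem f447254 : Led Lsl_af (LP (LK LD1_c0 LD2_c30 LD3_c16)) = (LP (LK LD1_c0 LD2_c18 LD3_c40)) :=
  Lgr Lrot0 (Lpr_at (f447250 IH) (Lpn (LP (LK LD1_c0 LD2_c18 LD3_c40))))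
theorem f447280 : Led Lsl_ft (LP (LK LD1_c0 LD2_c30 LD3_c17)) = (LP (LK LD1_c0 LD2_c18 LD3_c40)) :=
  Lgr Lrot101 (Lpr_af (f447272 IH) (Lpe (f447266 IH) (Lpr_af (f447254 IH) (Lpn (LP (LK LD1_c0 LD2_c18 LD3_c40))))))
theorem f447238 : Led Lsl_ff (LP (LK LD1_c0 LD2_c19 LD3_c16)) = (LP (LK LD1_c0 LD2_c19 LD3_c16)) :=
  Lgr Lrot25 (Lpr_bt (K11.f83112 IH) (Lpr_ft (f447236 IH) (Lpr_bt (K11.f23418 IH) (Lpn (LP (LK LD1_c0 LD2_c19 LD3_c16))))))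
theorem f447286 : Led Lsl_ff (LP (LK LD1_c0 LD2_c30 LD3_c17)) = (LP (LK LD1_c0 LD2_c18 LD3_c40)) :=
  Lgr Lrot72 (Lpr_et (K7.f152184 IH) (Lpr_ft (f447280 IH) (Lpe (K7.f83110 IH) (Lpe (f447238 IH) (Lpr_et (K7.f83116 IH) (Lpn (LP (LK LD1_c0 LD2_c18 LD3_c40))))))))
theorem f447288 : Led Lsl_ft (LP (LK LD1_c0 LD2_c20 LD3_c29)) = (LP (LK LD1_c0 LD2_c20 LD3_c7)) :=
  Lgr Lrot4 (Lpe (K7.f82818 IH) (Lpr_ff (f447286 IH) (Lpr_cf (K7.f154376 IH) (Lpn (LP (LK LD1_c0 LD2_c20 LD3_c7))))))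
theorem f447282 : Led Lsl_ff (LP (LK LD1_c0 LD2_c20 LD3_c29)) = (LP (LK LD1_c0 LD2_c20 LD3_c7)) :=
  Lgr Lrot23 (Lpe (K7.f82820 IH) (Lpr_ft (f447280 IH) (Lpr_ct (K6.f145490 IH) (Lpn (LP (LK LD1_c0 LD2_c20 LD3_c7))))))
theorem f447473 : Led Lsl_ff (LP (LK LD1_c0 LD2_c20 LD3_c13)) = (LP (LK LD1_c0 LD2_c20 LD3_c13)) :=
  Lgr Lrot72 (Lpe (K7.f152166 IH) (Lpe (f447282 IH) (Lpe (K7.f152182 IH) (Lpr_ft (f447288 IH) (Lpr_et (K7.f152168 IH) (Lpn (LP (LK LD1_c0 LD2_c20 LD3_c13))))))))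
theorem f447475 : Led Lsl_at (LP (LK LD1_c0 LD2_c20 LD3_c13)) = (LP (LK LD1_c0 LD2_c20 LD3_c12)) :=
  Lgr Lrot26 (Lpr_ff (f447473 IH) (Lpr_gt (K7.f13435 IH) (Lpr_gt (K6.f13436 IH) (Lpn (LP (LK LD1_c0 LD2_c20 LD3_c12))))))
theorem f447479 : Led Lsl_af (LP (LK LD1_c0 LD2_c19 LD3_c16)) = (LP (LK LD1_c0 LD2_c19 LD3_c15)) :=
  Lgr Lrot68 (Lpr_ct (K11.f434602 IH) (Lpr_at (f447475 IH) (Lpr_ct (K7.f156404 IH) (Lpn (LP (LK LD1_c0 LD2_c19 LD3_c15))))))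
theorem f450627 : Led Lsl_af K35.v129 = K35.v130 :=
  Lgr Lrot117 (Lpe (K35.f450622 IH) (Lpe (f447479 IH) (Lpr_dt (K35.f450626 IH) (Lpn K35.v130))))
theorem f490767 : Led Lsl_at v965 = v966 :=
  Lgr Lrot80 (Lpe (f490761 IH) (Lpr_af (f450627 IH) (Lpr_ef (f490766 IH) (Lpn v966))))
theorem f626409 : Led Lsl_ff v965 = v3604 :=
  Lgr Lrot3 (Lpr_ft (f626408 IH) (Lpn v3604))
theorem f626413 : Led Lsl_gt v3604 = v3606 :=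
  Lgr Lrot5 (Lpe (f626409 IH) (Lpr_at (f490767 IH) (Lpr_gf (f626412 IH) (Lpn v3606))))
def v5525 : LQ := Led Lsl_gf (LP (LK LD1_c3 LD2_c9 LD3_c3))
theorem f648079 : Led Lsl_gf (LP (LK LD1_c3 LD2_c9 LD3_c3)) = v5525 :=
  Lrfl
theorem f154385 : Led Lsl_gt (LP (LK LD1_c3 LD2_c9 LD3_c3)) = (LP (LK LD1_c1 LD2_c30 LD3_c41)) :=
  Lre_g IH (LK LD1_c3 LD2_c9 LD3_c3) (LK LD1_c1 LD2_c30 LD3_c41) Lrfl Lrfl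
def v1302 : LQ := Led Lsl_et (LP (LK LD1_c1 LD2_c6 LD3_c15))
theorem f494711 : Led Lsl_et (LP (LK LD1_c1 LD2_c6 LD3_c15)) = v1302 :=
  Lrfl
theorem f447258 : Led Lsl_af (LP (LK LD1_c1 LD2_c6 LD3_c15)) = (LP (LK LD1_c0 LD2_c41 LD3_c51)) :=
  Lgr Lrot117 (Lpr_dt (K7.f61260 IH) (Lpr_at (f447250 IH) (Lpr_dt (K1.f25807 IH) (Lpn (LP (LK LD1_c0 LD2_c41 LD3_c51))))))
theorem f494712 : Led Lsl_af (LP (LK LD1_c1 LD2_c30 LD3_c41)) = v1302 :=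
  Lgr Lrot50 (Lpr_et (f25841 IH) (Lpe (f447258 IH) (Lpr_et (f494711 IH) (Lpn v1302))))
theorem f648080 : Led Lsl_ff v1302 = v5525 :=
  Lgr Lrot52 (Lpe (f494712 IH) (Lpe (f154385 IH) (Lpr_gf (f648079 IH) (Lpn v5525))))
theorem f648084 : Led Lsl_ft v1302 = v5525 :=
  Lgr Lrot48 (Lpr_ff (f648080 IH) (Lpn v5525))
theorem f494715 : Led Lsl_ef (LP (LK LD1_c1 LD2_c6 LD3_c15)) = v1302 :=
  Lgr Lrot88 (Lpr_et (f494711 IH) (Lpn v1302))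
theorem f494718 : Led Lsl_dt v965 = v1302 :=
  Lgr Lrot77 (Lpe (f490761 IH) (Lpe (K35.f450621 IH) (Lpe (K7.f61270 IH) (Lpe (K7.f61260 IH) (Lpr_ef (f494715 IH) (Lpn v1302))))))
theorem f648086 : Led Lsl_df v3604 = v5525 :=
  Lgr Lrot78 (Lpe (f626409 IH) (Lpr_dt (f494718 IH) (Lpr_ft (f648084 IH) (Lpn v5525))))
theorem f490771 : Led Lsl_ct (LP (LK LD1_c3 LD2_c9 LD3_c3)) = (LP (LK LD1_c6 LD2_c22 LD3_c44)) :=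
  Lre_c IH (LK LD1_c3 LD2_c9 LD3_c3) (LK LD1_c6 LD2_c22 LD3_c44) Lrfl Lrfl
theorem f683079 : v5547 = (LP (LK LD1_c6 LD2_c22 LD3_c44)) :=
  (Llr Lrot104 (Lpe (f648177 IH) (Lpr_ct (f83166 IH) (Lpr_df (f83158 IH) (Lpr_cf (f506849 IH) (Lpr_gf (f671037 IH) (Lpr_cf (f683076 IH) (Lpe (f626413 IH) (Lpr_df (f648086 IH) (Lpe (f648079 IH) (Lpr_ct (f490771 IH) (Lpn (LP (LK LD1_c6 LD2_c22 LD3_c44)))))))))))))).symm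
theorem f683080 : Led Lsl_gt (LP (LK LD1_c6 LD2_c22 LD3_c44)) = (LP (LK LD1_c3 LD2_c9 LD3_c37)) :=
  Leop (Lpr_gf (f648177 IH) (Lpqs (f683079 IH) (Lpn (LP (LK LD1_c6 LD2_c22 LD3_c44)))))
theorem seed_584 : LEOK LG_g (LK LD1_c6 LD2_c22 LD3_c44) :=
  Leoe_g (LK LD1_c6 LD2_c22 LD3_c44) (f683080 IH)
def v731 : LQ := Led Lsl_gt (LP (LK LD1_c0 LD2_c49 LD3_c40))
def v3342 : LQ := Led Lsl_dt v731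
theorem f625225 : Led Lsl_dt v731 = v3342 :=
  Lrfl
theorem f625226 : Led Lsl_df v731 = v3342 :=
  Lgr Lrot38 (Lpr_dt (f625225 IH) (Lpn v3342))
def v10457 : LQ := Led Lsl_gf v3342
theorem f680446 : Led Lsl_gf v3342 = v10457 :=
  Lrfl
theorem f456973 : Led Lsl_gt (LP (LK LD1_c0 LD2_c49 LD3_c40)) = v731 :=
  Lrfl
def v3339 : LQ := Led Lsl_at v731
def v10441 : LQ := Led Lsl_dt v3339
theorem f680397 : Led Lsl_dt v3339 = v10441 :=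
  Lrfl
theorem f625217 : Led Lsl_at v731 = v3339 :=
  Lrfl
theorem f680398 : Led Lsl_af v3342 = v10441 :=
  Lgr Lrot117 (Lpe (f625226 IH) (Lpr_at (f625217 IH) (Lpr_dt (f680397 IH) (Lpn v10441))))
theorem f625218 : Led Lsl_af v731 = v3339 :=
  Lgr Lrot0 (Lpr_at (f625217 IH) (Lpn v3339))
def v732 : LQ := Led Lsl_gf (LP (LK LD1_c0 LD2_c49 LD3_c40))
theorem f456974 : Led Lsl_gf (LP (LK LD1_c0 LD2_c49 LD3_c40)) = v732 :=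
  Lrfl
theorem f625219 : Led Lsl_ft v732 = v3339 :=
  Lgr Lrot2 (Lpe (f456974 IH) (Lpr_gt (f456973 IH) (Lpr_af (f625218 IH) (Lpn v3339))))
def v3347 : LQ := Led Lsl_dt v732
theorem f625237 : Led Lsl_dt v732 = v3347 :=
  Lrfl
theorem f625238 : Led Lsl_df v732 = v3347 :=
  Lgr Lrot38 (Lpr_dt (f625237 IH) (Lpn v3347))
theorem f680400 : Led Lsl_ff v3347 = v10441 :=
  Lgr Lrot19 (Lpe (f625238 IH) (Lpr_ft (f625219 IH) (Lpr_dt (f680397 IH) (Lpn v10441))))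
theorem f680401 : Led Lsl_ft v3347 = v10441 :=
  Lgr Lrot48 (Lpr_ff (f680400 IH) (Lpn v10441))
theorem f680447 : Led Lsl_gt v3347 = v10457 :=
  Lgr Lrot5 (Lpr_ft (f680401 IH) (Lpe (f680398 IH) (Lpr_gf (f680446 IH) (Lpn v10457))))
def v3345 : LQ := Led Lsl_bt v732
def v10470 : LQ := Led Lsl_dt v3345
theorem f680475 : Led Lsl_dt v3345 = v10470 :=
  Lrfl
theorem f625233 : Led Lsl_bt v732 = v3345 :=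
  Lrfl
theorem f680476 : Led Lsl_bf v3347 = v10470 :=
  Lgr Lrot93 (Lpe (f625238 IH) (Lpr_bt (f625233 IH) (Lpr_dt (f680475 IH) (Lpn v10470))))
theorem f625234 : Led Lsl_bf v732 = v3345 :=
  Lgr Lrot24 (Lpr_bt (f625233 IH) (Lpn v3345))
def v161 : LQ := Led Lsl_ct (LP (LK LD1_c0 LD2_c21 LD3_c52))
def v995 : LQ := Led Lsl_bt v161
def v3674 : LQ := Led Lsl_gt v995
def v11278 : LQ := Led Lsl_ct v3674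
theorem f683806 : Led Lsl_ct v3674 = v11278 :=
  Lrfl
theorem f626719 : Led Lsl_gt v995 = v3674 :=
  Lrfl
theorem f490919 : Led Lsl_bt v161 = v995 :=
  Lrfl
theorem f450823 : Led Lsl_ct (LP (LK LD1_c0 LD2_c21 LD3_c52)) = v161 :=
  Lrfl
theorem f450824 : Led Lsl_cf (LP (LK LD1_c0 LD2_c21 LD3_c52)) = v161 :=
  Lgr Lrot11 (Lpr_ct (f450823 IH) (Lpn v161))
theorem f10071 : Led Lsl_bt (LP (LK LD1_c0 LD2_c22 LD3_c17)) = (LP (LK LD1_c0 LD2_c49 LD3_c40)) :=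
  Lre_b IH (LK LD1_c0 LD2_c22 LD3_c17) (LK LD1_c0 LD2_c49 LD3_c40) Lrfl Lrfl
def v10469 : LQ := Led Lsl_ct v3345
theorem f680473 : Led Lsl_ct v3345 = v10469 :=
  Lrfl
theorem f683808 : Led Lsl_gf v10469 = v11278 :=
  Lgr Lrot129 (Lpe (f680473 IH) (Lpe (f625234 IH) (Lpe (f456974 IH) (Lpe (f10071 IH) (Lpr_ct (K0.f9982 IH) (Lpr_gt (K7.f10932 IH) (Lpr_cf (f450824 IH) (Lpr_bt (f490919 IH) (Lpr_gt (f626719 IH) (Lpr_ct (f683806 IH) (Lpn v11278)))))))))))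
theorem f680474 : Led Lsl_cf v3345 = v10469 :=
  Lgr Lrot11 (Lpr_ct (f680473 IH) (Lpn v10469))
theorem f446860 : Led Lsl_at (LP (LK LD1_c0 LD2_c9 LD3_c49)) = (LP (LK LD1_c0 LD2_c9 LD3_c49)) :=
  Lgr Lrot26 (Lpr_ff (K33.f446854 IH) (Lpr_gt (K6.f9962 IH) (Lpr_gt (K7.f9996 IH) (Lpn (LP (LK LD1_c0 LD2_c9 LD3_c49))))))
theorem f450825 : Led Lsl_df v161 = v161 :=
  Lgr Lrot106 (Lpe (f450824 IH) (Lpr_dt (K7.f10919 IH) (Lpr_ct (K6.f143224 IH) (Lpe (K7.f143263 IH) (Lpr_ct (K7.f154354 IH) (Lpe (f446860 IH) (Lpr_ff (K33.f446854 IH) (Lpr_dt (K6.f10913 IH) (Lpr_ct (f450823 IH) (Lpn v161))))))))))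
theorem f490920 : Led Lsl_bf v161 = v995 :=
  Lgr Lrot24 (Lpr_bt (f490919 IH) (Lpn v995))
theorem f490921 : Led Lsl_df v995 = v995 :=
  Lgr Lrot12 (Lpe (f490920 IH) (Lpe (f450825 IH) (Lpr_bt (f490919 IH) (Lpn v995))))
theorem f683809 : v10470 = v3345 :=
  (Llr Lrot27 (Lpe (f680475 IH) (Lpr_cf (f680474 IH) (Lpr_gf (f683808 IH) (Lpe (f683806 IH) (Lpe (f626719 IH) (Lpr_df (f490921 IH) (Lpr_gt (f626719 IH) (Lpr_ct (f683806 IH) (Lpe (f683808 IH) (Lpe (f680474 IH) (Lpn v3345)))))))))))).symm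
theorem f683810 : v3347 = v732 :=
  Lefun (Lecon (Lfl_bf (f680476 IH)) (f683809 IH)) (Lfl_bf (f625234 IH))
theorem f683811 : v10457 = (LP (LK LD1_c0 LD2_c49 LD3_c40)) :=
  Lefun (Lecon (f680447 IH) (f683810 IH)) (Lfl_gf (f456974 IH))
theorem f683817 : v3342 = v731 :=
  Lefun (Lecon (Lfl_gf (f680446 IH)) (f683811 IH)) (f456973 IH)
theorem f10950 : Led Lsl_ct (LP (LK LD1_c0 LD2_c49 LD3_c40)) = (LP (LK LD1_c1 LD2_c45 LD3_c46)) :=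
  Lre_c IH (LK LD1_c0 LD2_c49 LD3_c40) (LK LD1_c1 LD2_c45 LD3_c46) Lrfl Lrfl
theorem f441812 : Led Lsl_gt (LP (LK LD1_c1 LD2_c45 LD3_c46)) = (LP (LK LD1_c3 LD2_c37 LD3_c52)) :=
  Lre_g IH (LK LD1_c1 LD2_c45 LD3_c46) (LK LD1_c3 LD2_c37 LD3_c52) Lrfl Lrfl
theorem f441813 : Led Lsl_dt (LP (LK LD1_c3 LD2_c37 LD3_c52)) = (LP (LK LD1_c7 LD2_c16 LD3_c9)) :=
  Lre_d IH (LK LD1_c3 LD2_c37 LD3_c52) (LK LD1_c7 LD2_c16 LD3_c9) Lrfl Lrfl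
def v2408 : LQ := Led Lsl_dt (LP (LK LD1_c1 LD2_c44 LD3_c28))
theorem f519530 : Led Lsl_dt (LP (LK LD1_c1 LD2_c44 LD3_c28)) = v2408 :=
  Lrfl
theorem f10070 : Led Lsl_bt (LP (LK LD1_c1 LD2_c44 LD3_c29)) = (LP (LK LD1_c0 LD2_c48 LD3_c51)) :=
  Lre_b IH (LK LD1_c1 LD2_c44 LD3_c29) (LK LD1_c0 LD2_c48 LD3_c51) Lrfl Lrfl
theorem f10072 : Led Lsl_df (LP (LK LD1_c1 LD2_c44 LD3_c29)) = (LP (LK LD1_c0 LD2_c49 LD3_c40)) :=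
  Lgr Lrot12 (Lpr_bt (f10070 IH) (Lpr_dt (K0.f10068 IH) (Lpr_bt (f10071 IH) (Lpn (LP (LK LD1_c0 LD2_c49 LD3_c40))))))
def v733 : LQ := Led Lsl_at (LP (LK LD1_c0 LD2_c49 LD3_c40))
theorem f456975 : Led Lsl_at (LP (LK LD1_c0 LD2_c49 LD3_c40)) = v733 :=
  Lrfl
theorem f456976 : Led Lsl_af (LP (LK LD1_c0 LD2_c49 LD3_c40)) = v733 :=
  Lgr Lrot0 (Lpr_at (f456975 IH) (Lpn v733))
theorem f519493 : Led Lsl_df v733 = K47.v2399 :=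
  Lgr Lrot18 (Lpe (f456976 IH) (Lpe (f10072 IH) (Lpr_at (K47.f519489 IH) (Lpn K47.v2399))))
theorem f10093 : Led Lsl_af (LP (LK LD1_c0 LD2_c22 LD3_c17)) = (LP (LK LD1_c0 LD2_c22 LD3_c17)) :=
  Lgr Lrot68 (Lpr_ct (K0.f9982 IH) (Lpr_at (K0.f10084 IH) (Lpr_ct (K35.f9946 IH) (Lpn (LP (LK LD1_c0 LD2_c22 LD3_c17))))))
theorem f10909 : Led Lsl_bt (LP (LK LD1_c0 LD2_c49 LD3_c40)) = (LP (LK LD1_c0 LD2_c22 LD3_c17)) :=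
  Lre_b IH (LK LD1_c0 LD2_c49 LD3_c40) (LK LD1_c0 LD2_c22 LD3_c17) Lrfl Lrfl
theorem f456977 : Led Lsl_bf v733 = v733 :=
  Lgr Lrot81 (Lpe (f456976 IH) (Lpr_bt (f10909 IH) (Lpe (f10093 IH) (Lpr_bt (f10071 IH) (Lpr_at (f456975 IH) (Lpn v733))))))
theorem f10371 : Led Lsl_bt (LP (LK LD1_c0 LD2_c48 LD3_c51)) = (LP (LK LD1_c1 LD2_c44 LD3_c29)) :=
  Lre_b IH (LK LD1_c0 LD2_c48 LD3_c51) (LK LD1_c1 LD2_c44 LD3_c29) Lrfl Lrfl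
theorem f10379 : Led Lsl_af (LP (LK LD1_c0 LD2_c48 LD3_c51)) = (LP (LK LD1_c0 LD2_c48 LD3_c51)) :=
  Lgr Lrot68 (Lpr_ct (K29.f9979 IH) (Lpr_at (K0.f10367 IH) (Lpr_ct (K0.f9968 IH) (Lpn (LP (LK LD1_c0 LD2_c48 LD3_c51))))))
theorem f519491 : Led Lsl_af (LP (LK LD1_c1 LD2_c44 LD3_c29)) = K47.v2399 :=
  Lgr Lrot0 (Lpr_at (K47.f519489 IH) (Lpn K47.v2399))
theorem f519492 : Led Lsl_bf K47.v2399 = K47.v2399 :=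
  Lgr Lrot81 (Lpe (f519491 IH) (Lpr_bt (f10070 IH) (Lpe (f10379 IH) (Lpr_bt (f10371 IH) (Lpr_at (K47.f519489 IH) (Lpn K47.v2399))))))
theorem f519500 : Led Lsl_dt v733 = K47.v2399 :=
  Lgr Lrot79 (Lpr_bf (f456977 IH) (Lpr_df (f519493 IH) (Lpr_bf (f519492 IH) (Lpn K47.v2399))))
theorem f519533 : Led Lsl_ff v733 = v2408 :=
  Lgr Lrot19 (Lpr_dt (f519500 IH) (Lpe (K47.f519494 IH) (Lpr_dt (f519530 IH) (Lpn v2408))))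
def v690 : LQ := Led Lsl_dt (LP (LK LD1_c0 LD2_c48 LD3_c50))
theorem f456789 : Led Lsl_dt (LP (LK LD1_c0 LD2_c48 LD3_c50)) = v690 :=
  Lrfl
theorem f10955 : Led Lsl_ft (LP (LK LD1_c1 LD2_c44 LD3_c29)) = (LP (LK LD1_c0 LD2_c48 LD3_c50)) :=
  Lre_f IH (LK LD1_c1 LD2_c44 LD3_c29) (LK LD1_c0 LD2_c48 LD3_c50) Lrfl Lrfl
theorem f456793 : Led Lsl_ff (LP (LK LD1_c0 LD2_c49 LD3_c40)) = v690 :=
  Lgr Lrot19 (Lpe (f10072 IH) (Lpr_ft (f10955 IH) (Lpr_dt (f456789 IH) (Lpn v690))))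
theorem f456797 : Led Lsl_ft (LP (LK LD1_c0 LD2_c49 LD3_c40)) = v690 :=
  Lgr Lrot48 (Lpr_ff (f456793 IH) (Lpn v690))
theorem f519534 : Led Lsl_at v690 = v2408 :=
  Lgr Lrot66 (Lpe (f456797 IH) (Lpr_af (f456976 IH) (Lpr_ff (f519533 IH) (Lpn v2408))))
theorem f519538 : Led Lsl_gt v731 = v2408 :=
  Lgr Lrot46 (Lpe (f456973 IH) (Lpr_ft (f456797 IH) (Lpr_at (f519534 IH) (Lpn v2408))))
theorem f519532 : Led Lsl_df (LP (LK LD1_c1 LD2_c44 LD3_c28)) = v2408 :=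
  Lgr Lrot38 (Lpr_dt (f519530 IH) (Lpn v2408))
theorem f10727 : Led Lsl_ct (LP (LK LD1_c3 LD2_c34 LD3_c45)) = (LP (LK LD1_c1 LD2_c44 LD3_c28)) :=
  Lre_c IH (LK LD1_c3 LD2_c34 LD3_c45) (LK LD1_c1 LD2_c44 LD3_c28) Lrfl Lrfl
theorem f10739 : Led Lsl_dt (LP (LK LD1_c7 LD2_c10 LD3_c41)) = (LP (LK LD1_c3 LD2_c34 LD3_c45)) :=
  Lre_d IH (LK LD1_c7 LD2_c10 LD3_c41) (LK LD1_c3 LD2_c34 LD3_c45) Lrfl Lrfl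
theorem f683826 : Led Lsl_gt (LP (LK LD1_c7 LD2_c16 LD3_c9)) = (LP (LK LD1_c7 LD2_c10 LD3_c41)) :=
  Lgr Lrot49 (Lpe (f441813 IH) (Lpe (f441812 IH) (Lpe (f10950 IH) (Lpr_gt (f456973 IH) (Lpq (f683817 IH) (Lpe (f625226 IH) (Lpr_gt (f519538 IH) (Lpe (f519532 IH) (Lpe (f10727 IH) (Lpe (f10739 IH) (Lpn (LP (LK LD1_c7 LD2_c10 LD3_c41)))))))))))))
theorem f683827 : Led Lsl_gt (LP (LK LD1_c7 LD2_c16 LD3_c9)) = (LP (LK LD1_c7 LD2_c10 LD3_c41)) :=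
  Leop (Lpe (f683826 IH) (Lpn (LP (LK LD1_c7 LD2_c16 LD3_c9))))
theorem seed_585 : LEOK LG_g (LK LD1_c7 LD2_c16 LD3_c9) :=
  Leoe_g (LK LD1_c7 LD2_c16 LD3_c9) (f683827 IH)
def v11376 : LQ := Led Lsl_ct K46.v3718
theorem f684285 : Led Lsl_ct K46.v3718 = v11376 :=
  Lrfl
theorem f491034 : Led Lsl_df K34.v175 = K34.v1018 :=
  Lgr Lrot38 (Lpr_dt (K34.f491033 IH) (Lpn K34.v1018))
theorem f626986 : Led Lsl_bf K34.v1018 = K46.v3718 :=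
  Lgr Lrot93 (Lpe (f491034 IH) (Lpr_bt (K46.f491021 IH) (Lpr_dt (K46.f626985 IH) (Lpn K46.v3718))))
def v7174 : LQ := Led Lsl_et (LP (LK LD1_c3 LD2_c40 LD3_c60))
theorem f661692 : Led Lsl_et (LP (LK LD1_c3 LD2_c40 LD3_c60)) = v7174 :=
  Lrfl
theorem f661693 : Led Lsl_bf K34.v2533 = v7174 :=
  Lgr Lrot96 (Lpe (K34.f527209 IH) (Lpe (K28.f464536 IH) (Lpr_et (f661692 IH) (Lpn v7174))))
theorem f661694 : Led Lsl_cf (LP (LK LD1_c7 LD2_c2 LD3_c1)) = v7174 :=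
  Lgr Lrot39 (Lpr_et (K29.f19141 IH) (Lpe (K28.f464524 IH) (Lpr_et (f661692 IH) (Lpn v7174))))
theorem f684293 : Led Lsl_gt (LP (LK LD1_c7 LD2_c2 LD3_c1)) = v11376 :=
  Lgr Lrot65 (Lpr_cf (f661694 IH) (Lpe (f661693 IH) (Lpe (K34.f527200 IH) (Lpe (K29.f456257 IH) (Lpe (K24.f456254 IH) (Lpr_gf (K32.f493355 IH) (Lpe (K32.f493357 IH) (Lpe (K34.f491702 IH) (Lpr_bf (f626986 IH) (Lpr_ct (f684285 IH) (Lpn v11376)))))))))))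
theorem f464533 : Led Lsl_et (LP (LK LD1_c3 LD2_c30 LD3_c9)) = (LP (LK LD1_c7 LD2_c2 LD3_c1)) :=
  Lre_e IH (LK LD1_c3 LD2_c30 LD3_c9) (LK LD1_c7 LD2_c2 LD3_c1) Lrfl Lrfl
theorem f512133 : Led Lsl_at (LP (LK LD1_c13 LD2_c20 LD3_c13)) = (LP (LK LD1_c7 LD2_c2 LD3_c0)) :=
  Lgr Lrot100 (Lpr_af (K33.f512131 IH) (Lpn (LP (LK LD1_c7 LD2_c2 LD3_c0))))
theorem f512118 : Led Lsl_ff (LP (LK LD1_c13 LD2_c20 LD3_c13)) = (LP (LK LD1_c7 LD2_c1 LD3_c59)) :=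
  Lgr Lrot3 (Lpr_ft (K33.f512114 IH) (Lpn (LP (LK LD1_c7 LD2_c1 LD3_c59))))
theorem f97582 : Led Lsl_gt (LP (LK LD1_c7 LD2_c1 LD3_c59)) = (LP (LK LD1_c13 LD2_c20 LD3_c20)) :=
  Lre_g IH (LK LD1_c7 LD2_c1 LD3_c59) (LK LD1_c13 LD2_c20 LD3_c20) Lrfl Lrfl
theorem f512142 : Led Lsl_gt (LP (LK LD1_c13 LD2_c20 LD3_c20)) = (LP (LK LD1_c7 LD2_c2 LD3_c0)) :=
  Lgr Lrot46 (Lpe (f97582 IH) (Lpe (f512118 IH) (Lpr_at (f512133 IH) (Lpn (LP (LK LD1_c7 LD2_c2 LD3_c0))))))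
theorem f89865 : Led Lsl_ft (LP (LK LD1_c3 LD2_c27 LD3_c8)) = (LP (LK LD1_c1 LD2_c40 LD3_c10)) :=
  Lre_f IH (LK LD1_c3 LD2_c27 LD3_c8) (LK LD1_c1 LD2_c40 LD3_c10) Lrfl Lrfl
theorem f478829 : Led Lsl_gt (LP (LK LD1_c3 LD2_c34 LD3_c59)) = (LP (LK LD1_c1 LD2_c51 LD3_c8)) :=
  Lgr Lrot46 (Lpr_gf (K29.f478827 IH) (Lpr_ft (f89865 IH) (Lpr_at (K2.f89852 IH) (Lpn (LP (LK LD1_c1 LD2_c51 LD3_c8))))))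
theorem f478834 : Led Lsl_et (LP (LK LD1_c7 LD2_c11 LD3_c6)) = (LP (LK LD1_c3 LD2_c34 LD3_c59)) :=
  Lre_e IH (LK LD1_c7 LD2_c11 LD3_c6) (LK LD1_c3 LD2_c34 LD3_c59) Lrfl Lrfl
theorem f89838 : Led Lsl_et (LP (LK LD1_c0 LD2_c52 LD3_c26)) = (LP (LK LD1_c1 LD2_c51 LD3_c8)) :=
  Lre_e IH (LK LD1_c0 LD2_c52 LD3_c26) (LK LD1_c1 LD2_c51 LD3_c8) Lrfl Lrfl
theorem f97581 : Led Lsl_dt (LP (LK LD1_c3 LD2_c30 LD3_c8)) = (LP (LK LD1_c7 LD2_c1 LD3_c59)) :=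
  Lre_d IH (LK LD1_c3 LD2_c30 LD3_c8) (LK LD1_c7 LD2_c1 LD3_c59) Lrfl Lrfl
theorem f478839 : Led Lsl_dt (LP (LK LD1_c7 LD2_c11 LD3_c6)) = (LP (LK LD1_c13 LD2_c20 LD3_c20)) :=
  Lgr Lrot56 (Lpr_et (f478834 IH) (Lpr_gt (f478829 IH) (Lpe (f89838 IH) (Lpr_dt (K3.f11845 IH) (Lpe (K3.f97554 IH) (Lpe (K1.f11441 IH) (Lpr_et (K1.f18215 IH) (Lpr_gt (K28.f97580 IH) (Lpr_dt (f97581 IH) (Lpr_gt (f97582 IH) (Lpn (LP (LK LD1_c13 LD2_c20 LD3_c20)))))))))))))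
theorem f91767 : Led Lsl_dt (LP (LK LD1_c1 LD2_c52 LD3_c24)) = (LP (LK LD1_c3 LD2_c51 LD3_c6)) :=
  Lre_d IH (LK LD1_c1 LD2_c52 LD3_c24) (LK LD1_c3 LD2_c51 LD3_c6) Lrfl Lrfl
def v7107 : LQ := Led Lsl_ft (LP (LK LD1_c3 LD2_c39 LD3_c9))
theorem f661119 : Led Lsl_ft (LP (LK LD1_c3 LD2_c39 LD3_c9)) = v7107 :=
  Lrfl
theorem f478916 : Led Lsl_et (LP (LK LD1_c7 LD2_c18 LD3_c36)) = (LP (LK LD1_c3 LD2_c39 LD3_c5)) :=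
  Lre_e IH (LK LD1_c7 LD2_c18 LD3_c36) (LK LD1_c3 LD2_c39 LD3_c5) Lrfl Lrfl
theorem f91768 : Led Lsl_gt (LP (LK LD1_c3 LD2_c51 LD3_c6)) = (LP (LK LD1_c7 LD2_c43 LD3_c32)) :=
  Lre_g IH (LK LD1_c3 LD2_c51 LD3_c6) (LK LD1_c7 LD2_c43 LD3_c32) Lrfl Lrfl
theorem f478917 : Led Lsl_dt (LP (LK LD1_c7 LD2_c18 LD3_c36)) = (LP (LK LD1_c7 LD2_c43 LD3_c32)) :=
  Lgr Lrot56 (Lpr_et (f478916 IH) (Lpr_gt (K34.f478896 IH) (Lpe (K2.f91766 IH) (Lpr_dt (K2.f65859 IH) (Lpr_gt (K2.f91752 IH) (Lpe (K2.f11834 IH) (Lpr_et (K2.f17109 IH) (Lpr_gt (K2.f91751 IH) (Lpr_dt (f91767 IH) (Lpr_gt (f91768 IH) (Lpn (LP (LK LD1_c7 LD2_c43 LD3_c32)))))))))))))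
theorem f478927 : Led Lsl_et (LP (LK LD1_c3 LD2_c39 LD3_c5)) = (LP (LK LD1_c7 LD2_c18 LD3_c36)) :=
  Lre_e IH (LK LD1_c3 LD2_c39 LD3_c5) (LK LD1_c7 LD2_c18 LD3_c36) Lrfl Lrfl
theorem f457011 : Led Lsl_dt (LP (LK LD1_c7 LD2_c18 LD3_c35)) = (LP (LK LD1_c3 LD2_c39 LD3_c5)) :=
  Lre_d IH (LK LD1_c7 LD2_c18 LD3_c35) (LK LD1_c3 LD2_c39 LD3_c5) Lrfl Lrfl
theorem f478928 : Led Lsl_et (LP (LK LD1_c13 LD2_c49 LD3_c51)) = (LP (LK LD1_c7 LD2_c18 LD3_c35)) :=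
  Lre_e IH (LK LD1_c13 LD2_c49 LD3_c51) (LK LD1_c7 LD2_c18 LD3_c35) Lrfl Lrfl
theorem f478929 : Led Lsl_et (LP (LK LD1_c7 LD2_c43 LD3_c32)) = (LP (LK LD1_c14 LD2_c33 LD3_c54)) :=
  Lre_e IH (LK LD1_c7 LD2_c43 LD3_c32) (LK LD1_c14 LD2_c33 LD3_c54) Lrfl Lrfl
theorem f478930 : Led Lsl_df (LP (LK LD1_c13 LD2_c49 LD3_c51)) = (LP (LK LD1_c14 LD2_c33 LD3_c54)) :=
  Lgr Lrot70 (Lpr_et (f478928 IH) (Lpr_dt (f457011 IH) (Lpr_et (f478927 IH) (Lpr_dt (f478917 IH) (Lpr_et (f478929 IH) (Lpn (LP (LK LD1_c14 LD2_c33 LD3_c54))))))))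
theorem f478943 : Led Lsl_ft (LP (LK LD1_c13 LD2_c49 LD3_c51)) = (LP (LK LD1_c23 LD2_c18 LD3_c59)) :=
  Lre_f IH (LK LD1_c13 LD2_c49 LD3_c51) (LK LD1_c23 LD2_c18 LD3_c59) Lrfl Lrfl
theorem f478944 : Led Lsl_ft (LP (LK LD1_c24 LD2_c16 LD3_c24)) = (LP (LK LD1_c14 LD2_c33 LD3_c54)) :=
  Lre_f IH (LK LD1_c24 LD2_c16 LD3_c24) (LK LD1_c14 LD2_c33 LD3_c54) Lrfl Lrfl
theorem f478945 : Led Lsl_dt (LP (LK LD1_c23 LD2_c18 LD3_c59)) = (LP (LK LD1_c24 LD2_c16 LD3_c24)) :=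
  Lgr Lrot60 (Lpe (f478943 IH) (Lpr_df (f478930 IH) (Lpe (f478944 IH) (Lpn (LP (LK LD1_c24 LD2_c16 LD3_c24))))))
theorem f478965 : Led Lsl_df (LP (LK LD1_c23 LD2_c18 LD3_c59)) = (LP (LK LD1_c24 LD2_c16 LD3_c24)) :=
  Lgr Lrot38 (Lpr_dt (f478945 IH) (Lpn (LP (LK LD1_c24 LD2_c16 LD3_c24))))
theorem f478978 : Led Lsl_at (LP (LK LD1_c23 LD2_c18 LD3_c59)) = (LP (LK LD1_c13 LD2_c50 LD3_c0)) :=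
  Lre_a IH (LK LD1_c23 LD2_c18 LD3_c59) (LK LD1_c13 LD2_c50 LD3_c0) Lrfl Lrfl
theorem f478979 : Led Lsl_dt (LP (LK LD1_c13 LD2_c50 LD3_c0)) = (LP (LK LD1_c23 LD2_c19 LD3_c14)) :=
  Lre_d IH (LK LD1_c13 LD2_c50 LD3_c0) (LK LD1_c23 LD2_c19 LD3_c14) Lrfl Lrfl
theorem f478980 : Led Lsl_at (LP (LK LD1_c23 LD2_c19 LD3_c14)) = (LP (LK LD1_c24 LD2_c16 LD3_c24)) :=
  Lgr Lrot51 (Lpe (f478979 IH) (Lpe (f478978 IH) (Lpr_df (f478965 IH) (Lpn (LP (LK LD1_c24 LD2_c16 LD3_c24))))))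
theorem f478986 : Led Lsl_ft (LP (LK LD1_c13 LD2_c49 LD3_c61)) = (LP (LK LD1_c23 LD2_c19 LD3_c14)) :=
  Lre_f IH (LK LD1_c13 LD2_c49 LD3_c61) (LK LD1_c23 LD2_c19 LD3_c14) Lrfl Lrfl
theorem f478987 : Led Lsl_af (LP (LK LD1_c13 LD2_c49 LD3_c61)) = (LP (LK LD1_c14 LD2_c33 LD3_c54)) :=
  Lgr Lrot45 (Lpr_ft (f478986 IH) (Lpr_at (f478980 IH) (Lpr_ft (f478944 IH) (Lpn (LP (LK LD1_c14 LD2_c33 LD3_c54))))))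
theorem f467629 : Led Lsl_et (LP (LK LD1_c13 LD2_c49 LD3_c61)) = (LP (LK LD1_c7 LD2_c18 LD3_c42)) :=
  Lre_e IH (LK LD1_c13 LD2_c49 LD3_c61) (LK LD1_c7 LD2_c18 LD3_c42) Lrfl Lrfl
theorem f479000 : Led Lsl_at (LP (LK LD1_c7 LD2_c18 LD3_c42)) = (LP (LK LD1_c7 LD2_c43 LD3_c32)) :=
  Lgr Lrot80 (Lpe (f467629 IH) (Lpr_af (f478987 IH) (Lpe (f478929 IH) (Lpn (LP (LK LD1_c7 LD2_c43 LD3_c32))))))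
theorem f479010 : Led Lsl_ff (LP (LK LD1_c7 LD2_c18 LD3_c42)) = (LP (LK LD1_c7 LD2_c43 LD3_c33)) :=
  Lgr Lrot52 (Lpr_at (f479000 IH) (Lpe (f91768 IH) (Lpe (K47.f471193 IH) (Lpn (LP (LK LD1_c7 LD2_c43 LD3_c33))))))
theorem f661122 : Led Lsl_df (LP (LK LD1_c7 LD2_c43 LD3_c33)) = v7107 :=
  Lgr Lrot78 (Lpe (f479010 IH) (Lpr_dt (K46.f455200 IH) (Lpr_ft (f661119 IH) (Lpn v7107))))
theorem f684294 : Led Lsl_et v7107 = v11376 :=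
  Lgr Lrot122 (Lpe (f661122 IH) (Lpr_gt (K47.f471193 IH) (Lpe (f91767 IH) (Lpr_et (K41.f471190 IH) (Lpr_gt (K47.f659621 IH) (Lpr_dt (f478839 IH) (Lpr_gt (f512142 IH) (Lpe (K33.f18702 IH) (Lpr_et (f464533 IH) (Lpr_gt (f684293 IH) (Lpn v11376)))))))))))
theorem f661123 : Led Lsl_ff (LP (LK LD1_c3 LD2_c39 LD3_c9)) = v7107 :=
  Lgr Lrot3 (Lpr_ft (f661119 IH) (Lpn v7107))
theorem f479017 : Led Lsl_ft (LP (LK LD1_c7 LD2_c18 LD3_c42)) = (LP (LK LD1_c7 LD2_c43 LD3_c33)) :=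
  Lgr Lrot48 (Lpr_ff (f479010 IH) (Lpn (LP (LK LD1_c7 LD2_c43 LD3_c33))))
theorem f661126 : Led Lsl_dt (LP (LK LD1_c7 LD2_c43 LD3_c33)) = v7107 :=
  Lgr Lrot60 (Lpe (f479017 IH) (Lpe (K46.f467619 IH) (Lpr_ff (f661123 IH) (Lpn v7107))))
theorem f479016 : Led Lsl_et (LP (LK LD1_c14 LD2_c33 LD3_c56)) = (LP (LK LD1_c7 LD2_c43 LD3_c33)) :=
  Lre_e IH (LK LD1_c14 LD2_c33 LD3_c56) (LK LD1_c7 LD2_c43 LD3_c33) Lrfl Lrfl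
theorem f466239 : Led Lsl_ct (LP (LK LD1_c7 LD2_c4 LD3_c22)) = (LP (LK LD1_c3 LD2_c31 LD3_c19)) :=
  Lre_c IH (LK LD1_c7 LD2_c4 LD3_c22) (LK LD1_c3 LD2_c31 LD3_c19) Lrfl Lrfl
theorem f95045 : Led Lsl_dt (LP (LK LD1_c6 LD2_c55 LD3_c39)) = (LP (LK LD1_c6 LD2_c53 LD3_c30)) :=
  Lgr Lrot42 (Lpr_df (K46.f95037 IH) (Lpn (LP (LK LD1_c6 LD2_c53 LD3_c30))))
theorem f479197 : Led Lsl_cf (LP (LK LD1_c6 LD2_c56 LD3_c25)) = (LP (LK LD1_c13 LD2_c9 LD3_c26)) :=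
  Lgr Lrot11 (Lpr_ct (K48.f479177 IH) (Lpn (LP (LK LD1_c13 LD2_c9 LD3_c26))))
theorem f684292 : Led Lsl_df (LP (LK LD1_c6 LD2_c56 LD3_c25)) = v11376 :=
  Lgr Lrot162 (Lpr_cf (f479197 IH) (Lpe (K48.f95059 IH) (Lpe (K48.f95058 IH) (Lpe (K46.f95033 IH) (Lpr_dt (f95045 IH) (Lpe (K48.f525811 IH) (Lpr_ct (f466239 IH) (Lpr_gt (K46.f657446 IH) (Lpr_ct (f684285 IH) (Lpn v11376))))))))))
theorem f479200 : Led Lsl_et (LP (LK LD1_c6 LD2_c56 LD3_c25)) = (LP (LK LD1_c13 LD2_c10 LD3_c42)) :=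
  Lre_e IH (LK LD1_c6 LD2_c56 LD3_c25) (LK LD1_c13 LD2_c10 LD3_c42) Lrfl Lrfl
theorem f684295 : Led Lsl_df (LP (LK LD1_c14 LD2_c33 LD3_c56)) = (LP (LK LD1_c13 LD2_c10 LD3_c42)) :=
  Lgr Lrot70 (Lpr_et (f479016 IH) (Lpr_dt (f661126 IH) (Lpr_et (f684294 IH) (Lpe (f684292 IH) (Lpr_et (f479200 IH) (Lpn (LP (LK LD1_c13 LD2_c10 LD3_c42))))))))
theorem f684296 : Led Lsl_dt (LP (LK LD1_c13 LD2_c10 LD3_c42)) = (LP (LK LD1_c14 LD2_c33 LD3_c56)) :=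
  Leop (Lpr_df (f684295 IH) (Lpn (LP (LK LD1_c13 LD2_c10 LD3_c42))))
theorem seed_586 : LEOK LG_d (LK LD1_c13 LD2_c10 LD3_c42) :=
  Leoe_d (LK LD1_c13 LD2_c10 LD3_c42) (f684296 IH)
def v1066 : LQ := Led Lsl_ct K34.v212
def v3839 : LQ := Led Lsl_bt v1066
def v11661 : LQ := Led Lsl_at v3839
theorem f685385 : Led Lsl_at v3839 = v11661 :=
  Lrfl
theorem f627493 : Led Lsl_bt v1066 = v3839 :=
  Lrfl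
theorem f491227 : Led Lsl_ct K34.v212 = v1066 :=
  Lrfl
theorem f490203 : Led Lsl_bf K34.v212 = K33.v877 :=
  Lgr Lrot93 (Lpe (K34.f451130 IH) (Lpr_bt (K2.f18016 IH) (Lpr_dt (K33.f490202 IH) (Lpn K33.v877))))
theorem f432716 : Led Lsl_dt (LP (LK LD1_c7 LD2_c5 LD3_c24)) = (LP (LK LD1_c3 LD2_c35 LD3_c13)) :=
  Lgr Lrot6 (Lpr_gt (K33.f11503 IH) (Lpr_ct (K33.f19278 IH) (Lpr_gt (K33.f432602 IH) (Lpr_ct (K7.f154665 IH) (Lpe (K33.f126091 IH) (Lpe (K33.f12628 IH) (Lpe (K7.f154993 IH) (Lpe (K7.f10935 IH) (Lpe (K33.f10938 IH) (Lpn (LP (LK LD1_c3 LD2_c35 LD3_c13))))))))))))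
theorem f490207 : Led Lsl_ct (LP (LK LD1_c3 LD2_c35 LD3_c13)) = K33.v877 :=
  Lgr Lrot7 (Lpe (f432716 IH) (Lpr_gf (K33.f19309 IH) (Lpe (K2.f17177 IH) (Lpe (K34.f19306 IH) (Lpr_cf (K34.f108878 IH) (Lpr_gt (K3.f94102 IH) (Lpe (K4.f86818 IH) (Lpr_gt (K5.f86726 IH) (Lpr_dt (K33.f490202 IH) (Lpn K33.v877))))))))))
theorem f154997 : Led Lsl_bt (LP (LK LD1_c7 LD2_c11 LD3_c27)) = (LP (LK LD1_c3 LD2_c35 LD3_c13)) :=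
  Lre_b IH (LK LD1_c7 LD2_c11 LD3_c27) (LK LD1_c3 LD2_c35 LD3_c13) Lrfl Lrfl
theorem f627495 : Led Lsl_cf (LP (LK LD1_c7 LD2_c11 LD3_c27)) = v3839 :=
  Lgr Lrot97 (Lpr_bt (f154997 IH) (Lpr_ct (f490207 IH) (Lpe (f490203 IH) (Lpr_ct (f491227 IH) (Lpr_bt (f627493 IH) (Lpn v3839))))))
theorem f627500 : Led Lsl_ct (LP (LK LD1_c7 LD2_c11 LD3_c27)) = v3839 :=
  Lgr Lrot59 (Lpr_cf (f627495 IH) (Lpn v3839))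
theorem f432728 : Led Lsl_at (LP (LK LD1_c13 LD2_c37 LD3_c23)) = (LP (LK LD1_c7 LD2_c11 LD3_c27)) :=
  Lre_a IH (LK LD1_c13 LD2_c37 LD3_c23) (LK LD1_c7 LD2_c11 LD3_c27) Lrfl Lrfl
theorem f685388 : Led Lsl_cf (LP (LK LD1_c13 LD2_c37 LD3_c23)) = v11661 :=
  Lgr Lrot1 (Lpr_at (f432728 IH) (Lpr_ct (f627500 IH) (Lpr_at (f685385 IH) (Lpn v11661))))
theorem f685394 : Led Lsl_ct (LP (LK LD1_c13 LD2_c37 LD3_c23)) = v11661 :=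
  Lgr Lrot59 (Lpr_cf (f685388 IH) (Lpn v11661))
theorem f451131 : Led Lsl_ff (LP (LK LD1_c1 LD2_c42 LD3_c6)) = K34.v212 :=
  Lgr Lrot19 (Lpr_dt (K34.f64505 IH) (Lpe (K2.f88796 IH) (Lpr_dt (K34.f451128 IH) (Lpn K34.v212))))
theorem f451134 : Led Lsl_ft (LP (LK LD1_c1 LD2_c42 LD3_c6)) = K34.v212 :=
  Lgr Lrot48 (Lpr_ff (f451131 IH) (Lpn K34.v212))
theorem f87599 : Led Lsl_ct (LP (LK LD1_c3 LD2_c31 LD3_c5)) = (LP (LK LD1_c1 LD2_c42 LD3_c6)) :=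
  Lre_c IH (LK LD1_c3 LD2_c31 LD3_c5) (LK LD1_c1 LD2_c42 LD3_c6) Lrfl Lrfl
theorem f491230 : Led Lsl_ff (LP (LK LD1_c3 LD2_c31 LD3_c5)) = v1066 :=
  Lgr Lrot23 (Lpr_ct (f87599 IH) (Lpr_ft (f451134 IH) (Lpr_ct (f491227 IH) (Lpn v1066))))
theorem f491234 : Led Lsl_ft (LP (LK LD1_c3 LD2_c31 LD3_c5)) = v1066 :=
  Lgr Lrot48 (Lpr_ff (f491230 IH) (Lpn v1066))
theorem f433116 : Led Lsl_bt (LP (LK LD1_c7 LD2_c4 LD3_c4)) = (LP (LK LD1_c3 LD2_c31 LD3_c5)) :=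
  Lre_b IH (LK LD1_c7 LD2_c4 LD3_c4) (LK LD1_c3 LD2_c31 LD3_c5) Lrfl Lrfl
theorem f627496 : Led Lsl_ff (LP (LK LD1_c7 LD2_c4 LD3_c4)) = v3839 :=
  Lgr Lrot25 (Lpr_bt (f433116 IH) (Lpr_ft (f491234 IH) (Lpr_bt (f627493 IH) (Lpn v3839))))
theorem f627498 : Led Lsl_ft (LP (LK LD1_c7 LD2_c4 LD3_c4)) = v3839 :=
  Lgr Lrot48 (Lpr_ff (f627496 IH) (Lpn v3839))
theorem f432757 : Led Lsl_dt (LP (LK LD1_c7 LD2_c4 LD3_c4)) = (LP (LK LD1_c13 LD2_c23 LD3_c59)) :=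
  Lre_d IH (LK LD1_c7 LD2_c4 LD3_c4) (LK LD1_c13 LD2_c23 LD3_c59) Lrfl Lrfl
theorem f88967 : Led Lsl_bt (LP (LK LD1_c13 LD2_c16 LD3_c1)) = (LP (LK LD1_c6 LD2_c59 LD3_c31)) :=
  Lre_b IH (LK LD1_c13 LD2_c16 LD3_c1) (LK LD1_c6 LD2_c59 LD3_c31) Lrfl Lrfl
theorem f88968 : Led Lsl_ct (LP (LK LD1_c22 LD2_c31 LD3_c18)) = (LP (LK LD1_c13 LD2_c16 LD3_c1)) :=
  Lre_c IH (LK LD1_c22 LD2_c31 LD3_c18) (LK LD1_c13 LD2_c16 LD3_c1) Lrfl Lrfl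
theorem f19336 : Led Lsl_bt (LP (LK LD1_c3 LD2_c31 LD3_c57)) = (LP (LK LD1_c7 LD2_c5 LD3_c20)) :=
  Lre_b IH (LK LD1_c3 LD2_c31 LD3_c57) (LK LD1_c7 LD2_c5 LD3_c20) Lrfl Lrfl
theorem f85623 : Led Lsl_gt (LP (LK LD1_c7 LD2_c5 LD3_c20)) = (LP (LK LD1_c13 LD2_c26 LD3_c15)) :=
  Lre_g IH (LK LD1_c7 LD2_c5 LD3_c20) (LK LD1_c13 LD2_c26 LD3_c15) Lrfl Lrfl
theorem f430110 : Led Lsl_df (LP (LK LD1_c22 LD2_c31 LD3_c18)) = (LP (LK LD1_c13 LD2_c26 LD3_c15)) :=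
  Lgr Lrot183 (Lpr_ct (f88968 IH) (Lpr_bt (f88967 IH) (Lpe (K11.f105699 IH) (Lpr_dt (K6.f64513 IH) (Lpr_ct (K3.f64512 IH) (Lpr_bt (K3.f86428 IH) (Lpr_gt (K3.f20099 IH) (Lpr_dt (K6.f143023 IH) (Lpe (K2.f21035 IH) (Lpr_bt (K5.f20848 IH) (Lpe (K7.f154124 IH) (Lpe (K7.f143263 IH) (Lpr_ct (K7.f154354 IH) (Lpr_bt (K7.f154356 IH) (Lpr_gt (K7.f154361 IH) (Lpr_dt (K7.f430098 IH) (Lpr_ct (K5.f19333 IH) (Lpr_bt (f19336 IH) (Lpr_gt (f85623 IH) (Lpn (LP (LK LD1_c13 LD2_c26 LD3_c15))))))))))))))))))))))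
theorem f432751 : Led Lsl_dt (LP (LK LD1_c22 LD2_c31 LD3_c18)) = (LP (LK LD1_c13 LD2_c26 LD3_c15)) :=
  Lgr Lrot42 (Lpr_df (f430110 IH) (Lpn (LP (LK LD1_c13 LD2_c26 LD3_c15))))
theorem f85624 : Led Lsl_ct (LP (LK LD1_c6 LD2_c58 LD3_c57)) = (LP (LK LD1_c3 LD2_c28 LD3_c49)) :=
  Lre_c IH (LK LD1_c6 LD2_c58 LD3_c57) (LK LD1_c3 LD2_c28 LD3_c49) Lrfl Lrfl
theorem f85309 : Led Lsl_gt (LP (LK LD1_c6 LD2_c59 LD3_c16)) = (LP (LK LD1_c3 LD2_c28 LD3_c49)) :=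
  Lre_g IH (LK LD1_c6 LD2_c59 LD3_c16) (LK LD1_c3 LD2_c28 LD3_c49) Lrfl Lrfl
theorem f85625 : Led Lsl_ct (LP (LK LD1_c13 LD2_c15 LD3_c38)) = (LP (LK LD1_c6 LD2_c59 LD3_c16)) :=
  Lre_c IH (LK LD1_c13 LD2_c15 LD3_c38) (LK LD1_c6 LD2_c59 LD3_c16) Lrfl Lrfl
theorem f85626 : Led Lsl_bf (LP (LK LD1_c13 LD2_c26 LD3_c15)) = (LP (LK LD1_c13 LD2_c15 LD3_c38)) :=
  Lgr Lrot34 (Lpe (f85623 IH) (Lpe (f19336 IH) (Lpr_ct (K5.f19334 IH) (Lpe (K3.f19330 IH) (Lpe (K7.f11501 IH) (Lpr_gf (K3.f85608 IH) (Lpe (K47.f85618 IH) (Lpr_ct (f85624 IH) (Lpe (f85309 IH) (Lpe (f85625 IH) (Lpn (LP (LK LD1_c13 LD2_c15 LD3_c38)))))))))))))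
theorem f85630 : Led Lsl_bt (LP (LK LD1_c13 LD2_c26 LD3_c15)) = (LP (LK LD1_c13 LD2_c15 LD3_c38)) :=
  Lgr Lrot127 (Lpr_bf (f85626 IH) (Lpn (LP (LK LD1_c13 LD2_c15 LD3_c38))))
theorem f85636 : Led Lsl_dt (LP (LK LD1_c13 LD2_c15 LD3_c38)) = (LP (LK LD1_c22 LD2_c30 LD3_c37)) :=
  Lre_d IH (LK LD1_c13 LD2_c15 LD3_c38) (LK LD1_c22 LD2_c30 LD3_c37) Lrfl Lrfl
theorem f432753 : Led Lsl_bf (LP (LK LD1_c22 LD2_c31 LD3_c18)) = (LP (LK LD1_c22 LD2_c30 LD3_c37)) :=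
  Lgr Lrot93 (Lpr_dt (f432751 IH) (Lpr_bt (f85630 IH) (Lpr_dt (f85636 IH) (Lpn (LP (LK LD1_c22 LD2_c30 LD3_c37))))))
theorem f88812 : Led Lsl_ct (LP (LK LD1_c6 LD2_c59 LD3_c31)) = (LP (LK LD1_c7 LD2_c4 LD3_c5)) :=
  Lgr Lrot59 (Lpr_cf (K3.f88807 IH) (Lpn (LP (LK LD1_c7 LD2_c4 LD3_c5))))
theorem f88820 : Led Lsl_bt (LP (LK LD1_c7 LD2_c4 LD3_c5)) = (LP (LK LD1_c13 LD2_c23 LD3_c59)) :=
  Lre_b IH (LK LD1_c7 LD2_c4 LD3_c5) (LK LD1_c13 LD2_c23 LD3_c59) Lrfl Lrfl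
theorem f432755 : Led Lsl_ct (LP (LK LD1_c13 LD2_c23 LD3_c59)) = (LP (LK LD1_c22 LD2_c30 LD3_c37)) :=
  Lgr Lrot83 (Lpe (f88820 IH) (Lpe (f88812 IH) (Lpe (f88967 IH) (Lpe (f88968 IH) (Lpr_bf (f432753 IH) (Lpn (LP (LK LD1_c22 LD2_c30 LD3_c37))))))))
theorem f85632 : Led Lsl_dt (LP (LK LD1_c22 LD2_c30 LD3_c37)) = (LP (LK LD1_c13 LD2_c15 LD3_c38)) :=
  Lre_d IH (LK LD1_c22 LD2_c30 LD3_c37) (LK LD1_c13 LD2_c15 LD3_c38) Lrfl Lrfl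
theorem f85542 : Led Lsl_dt (LP (LK LD1_c6 LD2_c59 LD3_c16)) = (LP (LK LD1_c13 LD2_c15 LD3_c39)) :=
  Lre_d IH (LK LD1_c6 LD2_c59 LD3_c16) (LK LD1_c13 LD2_c15 LD3_c39) Lrfl Lrfl
theorem f85543 : Led Lsl_ct (LP (LK LD1_c13 LD2_c15 LD3_c39)) = (LP (LK LD1_c22 LD2_c30 LD3_c38)) :=
  Lre_c IH (LK LD1_c13 LD2_c15 LD3_c39) (LK LD1_c22 LD2_c30 LD3_c38) Lrfl Lrfl
theorem f685395 : Led Lsl_df (LP (LK LD1_c13 LD2_c37 LD3_c23)) = (LP (LK LD1_c22 LD2_c30 LD3_c38)) :=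
  Lgr Lrot177 (Lpr_ct (f685394 IH) (Lpe (f685385 IH) (Lpe (f627498 IH) (Lpr_dt (f432757 IH) (Lpr_ct (f432755 IH) (Lpr_dt (f85632 IH) (Lpr_ct (f85625 IH) (Lpr_dt (f85542 IH) (Lpr_ct (f85543 IH) (Lpn (LP (LK LD1_c22 LD2_c30 LD3_c38))))))))))))
theorem f685396 : Led Lsl_dt (LP (LK LD1_c22 LD2_c30 LD3_c38)) = (LP (LK LD1_c13 LD2_c37 LD3_c23)) :=
  Leop (Lpr_df (f685395 IH) (Lpn (LP (LK LD1_c22 LD2_c30 LD3_c38))))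
theorem seed_587 : LEOK LG_d (LK LD1_c22 LD2_c30 LD3_c38) :=
  Leoe_d (LK LD1_c22 LD2_c30 LD3_c38) (f685396 IH)
def v3896 : LQ := Led Lsl_bt K35.v1113
def v11813 : LQ := Led Lsl_at v3896
theorem f685960 : Led Lsl_at v3896 = v11813 :=
  Lrfl
theorem f627775 : Led Lsl_bt K35.v1113 = v3896 :=
  Lrfl
theorem f22246 : Led Lsl_bt (LP (LK LD1_c2 LD2_c52 LD3_c13)) = (LP (LK LD1_c1 LD2_c22 LD3_c6)) :=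
  Lre_b IH (LK LD1_c2 LD2_c52 LD3_c13) (LK LD1_c1 LD2_c22 LD3_c6) Lrfl Lrfl
theorem f627777 : Led Lsl_ff (LP (LK LD1_c2 LD2_c52 LD3_c13)) = v3896 :=
  Lgr Lrot25 (Lpr_bt (f22246 IH) (Lpr_ft (K35.f500208 IH) (Lpqs (K35.f623414 IH) (Lpr_bt (f627775 IH) (Lpn v3896)))))
theorem f627778 : Led Lsl_ft (LP (LK LD1_c2 LD2_c52 LD3_c13)) = v3896 :=
  Lgr Lrot48 (Lpr_ff (f627777 IH) (Lpn v3896))
theorem f500219 : Led Lsl_at (LP (LK LD1_c5 LD2_c51 LD3_c59)) = (LP (LK LD1_c2 LD2_c52 LD3_c13)) :=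
  Lre_a IH (LK LD1_c5 LD2_c51 LD3_c59) (LK LD1_c2 LD2_c52 LD3_c13) Lrfl Lrfl
theorem f685963 : Led Lsl_ff (LP (LK LD1_c5 LD2_c51 LD3_c59)) = v11813 :=
  Lgr Lrot30 (Lpr_at (f500219 IH) (Lpr_ft (f627778 IH) (Lpr_at (f685960 IH) (Lpn v11813))))
theorem f685965 : Led Lsl_ft (LP (LK LD1_c5 LD2_c51 LD3_c59)) = v11813 :=
  Lgr Lrot48 (Lpr_ff (f685963 IH) (Lpn v11813))
theorem f685961 : Led Lsl_af v3896 = v11813 :=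
  Lgr Lrot0 (Lpr_at (f685960 IH) (Lpn v11813))
def v11812 : LQ := Led Lsl_gf v3896
theorem f685959 : Led Lsl_gf v3896 = v11812 :=
  Lrfl
theorem f685967 : Led Lsl_gt (LP (LK LD1_c5 LD2_c51 LD3_c59)) = v11812 :=
  Lgr Lrot5 (Lpr_ft (f685965 IH) (Lpe (f685961 IH) (Lpr_gf (f685959 IH) (Lpn v11812))))
def v11815 : LQ := Led Lsl_et v3896
theorem f685975 : Led Lsl_et v3896 = v11815 :=
  Lrfl
theorem f414199 : Led Lsl_et (LP (LK LD1_c5 LD2_c51 LD3_c60)) = (LP (LK LD1_c2 LD2_c52 LD3_c13)) :=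
  Lre_e IH (LK LD1_c5 LD2_c51 LD3_c60) (LK LD1_c2 LD2_c52 LD3_c13) Lrfl Lrfl
theorem f414191 : Led Lsl_ft (LP (LK LD1_c11 LD2_c31 LD3_c3)) = (LP (LK LD1_c5 LD2_c51 LD3_c60)) :=
  Lre_f IH (LK LD1_c11 LD2_c31 LD3_c3) (LK LD1_c5 LD2_c51 LD3_c60) Lrfl Lrfl
theorem f416675 : Led Lsl_bt (LP (LK LD1_c11 LD2_c31 LD3_c3)) = (LP (LK LD1_c5 LD2_c52 LD3_c0)) :=
  Lre_b IH (LK LD1_c11 LD2_c31 LD3_c3) (LK LD1_c5 LD2_c52 LD3_c0) Lrfl Lrfl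
theorem f622592 : Led Lsl_bt (LP (LK LD1_c5 LD2_c50 LD3_c22)) = (LP (LK LD1_c11 LD2_c28 LD3_c47)) :=
  Lre_b IH (LK LD1_c5 LD2_c50 LD3_c22) (LK LD1_c11 LD2_c28 LD3_c47) Lrfl Lrfl
theorem f622964 : Led Lsl_ef (LP (LK LD1_c11 LD2_c31 LD3_c3)) = (LP (LK LD1_c11 LD2_c28 LD3_c47)) :=
  Lgr Lrot29 (Lpr_bt (f416675 IH) (Lpr_et (K35.f622886 IH) (Lpr_bt (f622592 IH) (Lpn (LP (LK LD1_c11 LD2_c28 LD3_c47))))))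
theorem f685978 : Led Lsl_ff (LP (LK LD1_c11 LD2_c28 LD3_c47)) = v11815 :=
  Lgr Lrot72 (Lpe (f622964 IH) (Lpr_ft (f414191 IH) (Lpr_et (f414199 IH) (Lpr_ft (f627778 IH) (Lpr_et (f685975 IH) (Lpn v11815))))))
theorem f685981 : Led Lsl_ft (LP (LK LD1_c11 LD2_c28 LD3_c47)) = v11815 :=
  Lgr Lrot48 (Lpr_ff (f685978 IH) (Lpn v11815))
theorem f615348 : Led Lsl_dt (LP (LK LD1_c5 LD2_c50 LD3_c20)) = (LP (LK LD1_c11 LD2_c28 LD3_c47)) :=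
  Lre_d IH (LK LD1_c5 LD2_c50 LD3_c20) (LK LD1_c11 LD2_c28 LD3_c47) Lrfl Lrfl
theorem f622896 : Led Lsl_ff (LP (LK LD1_c4 LD2_c34 LD3_c36)) = (LP (LK LD1_c2 LD2_c51 LD3_c23)) :=
  Lgr Lrot25 (Lpr_bt (K45.f438501 IH) (Lpr_ft (K45.f622894 IH) (Lpr_bt (K45.f139896 IH) (Lpn (LP (LK LD1_c2 LD2_c51 LD3_c23))))))
theorem f141160 : Led Lsl_ct (LP (LK LD1_c5 LD2_c50 LD3_c25)) = (LP (LK LD1_c2 LD2_c51 LD3_c23)) :=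
  Lre_c IH (LK LD1_c5 LD2_c50 LD3_c25) (LK LD1_c2 LD2_c51 LD3_c23) Lrfl Lrfl
theorem f622900 : Led Lsl_ft (LP (LK LD1_c6 LD2_c2 LD3_c44)) = (LP (LK LD1_c5 LD2_c50 LD3_c25)) :=
  Lgr Lrot4 (Lpr_cf (K45.f438474 IH) (Lpr_ff (f622896 IH) (Lpe (f141160 IH) (Lpn (LP (LK LD1_c5 LD2_c50 LD3_c25))))))
theorem f204307 : Led Lsl_gf (LP (LK LD1_c6 LD2_c2 LD3_c45)) = (LP (LK LD1_c9 LD2_c13 LD3_c43)) :=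
  Lgr Lrot47 (Lpr_gt (K31.f68983 IH) (Lpr_af (K11.f204298 IH) (Lpe (K11.f104860 IH) (Lpn (LP (LK LD1_c9 LD2_c13 LD3_c43))))))
theorem f622906 : Led Lsl_af (LP (LK LD1_c6 LD2_c2 LD3_c45)) = (LP (LK LD1_c5 LD2_c50 LD3_c25)) :=
  Lgr Lrot31 (Lpr_gf (f204307 IH) (Lpe (K45.f204319 IH) (Lpr_ft (f622900 IH) (Lpn (LP (LK LD1_c5 LD2_c50 LD3_c25))))))
theorem f500161 : Led Lsl_cf (LP (LK LD1_c4 LD2_c34 LD3_c37)) = (LP (LK LD1_c6 LD2_c2 LD3_c45)) :=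
  Lgr Lrot11 (Lpr_ct (K31.f500158 IH) (Lpn (LP (LK LD1_c6 LD2_c2 LD3_c45))))
theorem f500017 : Led Lsl_ct (LP (LK LD1_c2 LD2_c51 LD3_c23)) = (LP (LK LD1_c5 LD2_c50 LD3_c25)) :=
  Lre_c IH (LK LD1_c2 LD2_c51 LD3_c23) (LK LD1_c5 LD2_c50 LD3_c25) Lrfl Lrfl
theorem f622910 : Led Lsl_at (LP (LK LD1_c4 LD2_c34 LD3_c37)) = (LP (LK LD1_c2 LD2_c51 LD3_c23)) :=
  Lgr Lrot107 (Lpr_cf (f500161 IH) (Lpr_af (f622906 IH) (Lpe (f500017 IH) (Lpn (LP (LK LD1_c2 LD2_c51 LD3_c23))))))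
theorem f622878 : Led Lsl_at (LP (LK LD1_c4 LD2_c34 LD3_c36)) = (LP (LK LD1_c2 LD2_c51 LD3_c22)) :=
  Lgr Lrot51 (Lpr_df (K35.f622875 IH) (Lpe (K35.f622590 IH) (Lpe (K41.f446048 IH) (Lpn (LP (LK LD1_c2 LD2_c51 LD3_c22))))))
theorem f622914 : Led Lsl_ff (LP (LK LD1_c4 LD2_c34 LD3_c37)) = (LP (LK LD1_c2 LD2_c51 LD3_c22)) :=
  Lgr Lrot30 (Lpr_at (f622910 IH) (Lpe (f622896 IH) (Lpr_at (f622878 IH) (Lpn (LP (LK LD1_c2 LD2_c51 LD3_c22))))))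
theorem f500163 : Led Lsl_bt (LP (LK LD1_c4 LD2_c34 LD3_c37)) = (LP (LK LD1_c9 LD2_c6 LD3_c5)) :=
  Lre_b IH (LK LD1_c4 LD2_c34 LD3_c37) (LK LD1_c9 LD2_c6 LD3_c5) Lrfl Lrfl
theorem f139898 : Led Lsl_bt (LP (LK LD1_c5 LD2_c50 LD3_c20)) = (LP (LK LD1_c2 LD2_c51 LD3_c22)) :=
  Lre_b IH (LK LD1_c5 LD2_c50 LD3_c20) (LK LD1_c2 LD2_c51 LD3_c22) Lrfl Lrfl
theorem f622916 : Led Lsl_ft (LP (LK LD1_c9 LD2_c6 LD3_c5)) = (LP (LK LD1_c5 LD2_c50 LD3_c20)) :=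
  Lgr Lrot75 (Lpe (f500163 IH) (Lpr_ff (f622914 IH) (Lpe (f139898 IH) (Lpn (LP (LK LD1_c5 LD2_c50 LD3_c20))))))
theorem f685982 : Led Lsl_df (LP (LK LD1_c9 LD2_c6 LD3_c5)) = v11815 :=
  Lgr Lrot78 (Lpr_ft (f622916 IH) (Lpr_dt (f615348 IH) (Lpr_ft (f685981 IH) (Lpn v11815))))
theorem f502504 : Led Lsl_dt (LP (LK LD1_c11 LD2_c43 LD3_c58)) = (LP (LK LD1_c5 LD2_c59 LD3_c42)) :=
  Lre_d IH (LK LD1_c11 LD2_c43 LD3_c58) (LK LD1_c5 LD2_c59 LD3_c42) Lrfl Lrfl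
theorem f501447 : Led Lsl_ef (LP (LK LD1_c9 LD2_c29 LD3_c55)) = (LP (LK LD1_c5 LD2_c59 LD3_c42)) :=
  Lgr Lrot29 (Lpr_bt (K45.f56927 IH) (Lpr_et (K36.f501444 IH) (Lpr_bt (K37.f501446 IH) (Lpn (LP (LK LD1_c5 LD2_c59 LD3_c42))))))
theorem f500806 : Led Lsl_dt (LP (LK LD1_c2 LD2_c56 LD3_c19)) = (LP (LK LD1_c6 LD2_c0 LD3_c0)) :=
  Lre_d IH (LK LD1_c2 LD2_c56 LD3_c19) (LK LD1_c6 LD2_c0 LD3_c0) Lrfl Lrfl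
theorem f558639 : Led Lsl_dt (LP (LK LD1_c9 LD2_c29 LD3_c55)) = (LP (LK LD1_c4 LD2_c48 LD3_c49)) :=
  Lgr Lrot77 (Lpr_ef (f501447 IH) (Lpe (f502504 IH) (Lpr_ef (K40.f558634 IH) (Lpe (f500806 IH) (Lpe (K36.f501444 IH) (Lpn (LP (LK LD1_c4 LD2_c48 LD3_c49))))))))
theorem f425907 : Led Lsl_gt (LP (LK LD1_c2 LD2_c56 LD3_c25)) = (LP (LK LD1_c6 LD2_c0 LD3_c13)) :=
  Lre_g IH (LK LD1_c2 LD2_c56 LD3_c25) (LK LD1_c6 LD2_c0 LD3_c13) Lrfl Lrfl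
theorem f501988 : Led Lsl_gt (LP (LK LD1_c6 LD2_c0 LD3_c13)) = (LP (LK LD1_c9 LD2_c30 LD3_c6)) :=
  Lgr Lrot46 (Lpe (f425907 IH) (Lpr_ft (K37.f500791 IH) (Lpr_at (K37.f501975 IH) (Lpn (LP (LK LD1_c9 LD2_c30 LD3_c6))))))
theorem f501992 : Led Lsl_ct (LP (LK LD1_c11 LD2_c44 LD3_c56)) = (LP (LK LD1_c6 LD2_c0 LD3_c13)) :=
  Lre_c IH (LK LD1_c11 LD2_c44 LD3_c56) (LK LD1_c6 LD2_c0 LD3_c13) Lrfl Lrfl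
theorem f643743 : Led Lsl_gt (LP (LK LD1_c9 LD2_c25 LD3_c48)) = (LP (LK LD1_c11 LD2_c44 LD3_c56)) :=
  Lgr Lrot146 (Lpr_dt (K42.f570770 IH) (Lpqs (K46.f643532 IH) (Lpe (K46.f640673 IH) (Lpr_ct (K45.f643393 IH) (Lpe (K45.f559431 IH) (Lpe (K42.f56925 IH) (Lpr_dt (f558639 IH) (Lpe (K36.f56923 IH) (Lpe (f501988 IH) (Lpe (f501992 IH) (Lpn (LP (LK LD1_c11 LD2_c44 LD3_c56)))))))))))))
theorem f163001 : Led Lsl_et (LP (LK LD1_c11 LD2_c36 LD3_c27)) = (LP (LK LD1_c5 LD2_c55 LD3_c35)) :=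
  Lre_e IH (LK LD1_c11 LD2_c36 LD3_c27) (LK LD1_c5 LD2_c55 LD3_c35) Lrfl Lrfl
theorem f498310 : Led Lsl_ct (LP (LK LD1_c15 LD2_c5 LD3_c11)) = (LP (LK LD1_c11 LD2_c36 LD3_c27)) :=
  Lgr Lrot15 (Lpe (K42.f428385 IH) (Lpr_cf (K32.f498302 IH) (Lpe (f163001 IH) (Lpn (LP (LK LD1_c11 LD2_c36 LD3_c27))))))
theorem f643749 : Led Lsl_gf (LP (LK LD1_c11 LD2_c36 LD3_c27)) = (LP (LK LD1_c6 LD2_c2 LD3_c30)) :=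
  Lgr Lrot126 (Lpe (f498310 IH) (Lpr_bt (K42.f498326 IH) (Lpr_gt (f643743 IH) (Lpr_ct (f501992 IH) (Lpr_gt (f501988 IH) (Lpe (K45.f56928 IH) (Lpr_bt (K46.f56922 IH) (Lpr_gt (K46.f559450 IH) (Lpe (K45.f643406 IH) (Lpr_ct (K45.f204220 IH) (Lpn (LP (LK LD1_c6 LD2_c2 LD3_c30)))))))))))))
theorem f498506 : Led Lsl_et (LP (LK LD1_c11 LD2_c35 LD3_c0)) = (LP (LK LD1_c20 LD2_c33 LD3_c0)) :=
  Lre_e IH (LK LD1_c11 LD2_c35 LD3_c0) (LK LD1_c20 LD2_c33 LD3_c0) Lrfl Lrfl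
theorem f498524 : Led Lsl_af (LP (LK LD1_c15 LD2_c5 LD3_c13)) = (LP (LK LD1_c20 LD2_c33 LD3_c0)) :=
  Lgr Lrot50 (Lpr_et (K36.f107337 IH) (Lpr_at (K36.f498514 IH) (Lpr_et (f498506 IH) (Lpn (LP (LK LD1_c20 LD2_c33 LD3_c0))))))
theorem f498505 : Led Lsl_et (LP (LK LD1_c21 LD2_c20 LD3_c34)) = (LP (LK LD1_c12 LD2_c14 LD3_c43)) :=
  Lre_e IH (LK LD1_c21 LD2_c20 LD3_c34) (LK LD1_c12 LD2_c14 LD3_c43) Lrfl Lrfl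
theorem f498507 : Led Lsl_cf (LP (LK LD1_c21 LD2_c20 LD3_c34)) = (LP (LK LD1_c20 LD2_c33 LD3_c0)) :=
  Lgr Lrot39 (Lpr_et (f498505 IH) (Lpr_ct (K36.f498495 IH) (Lpr_et (f498506 IH) (Lpn (LP (LK LD1_c20 LD2_c33 LD3_c0))))))
theorem f498510 : Led Lsl_ct (LP (LK LD1_c21 LD2_c20 LD3_c34)) = (LP (LK LD1_c20 LD2_c33 LD3_c0)) :=
  Lgr Lrot59 (Lpr_cf (f498507 IH) (Lpn (LP (LK LD1_c20 LD2_c33 LD3_c0))))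
theorem f498874 : Led Lsl_at (LP (LK LD1_c24 LD2_c18 LD3_c61)) = (LP (LK LD1_c21 LD2_c20 LD3_c34)) :=
  Lgr Lrot107 (Lpe (K36.f204167 IH) (Lpr_af (f498524 IH) (Lpe (f498510 IH) (Lpn (LP (LK LD1_c21 LD2_c20 LD3_c34))))))
theorem f204161 : Led Lsl_bt (LP (LK LD1_c15 LD2_c5 LD3_c12)) = (LP (LK LD1_c24 LD2_c18 LD3_c61)) :=
  Lgr Lrot127 (Lpr_bf (K36.f204159 IH) (Lpn (LP (LK LD1_c24 LD2_c18 LD3_c61))))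
theorem f498452 : Led Lsl_bt (LP (LK LD1_c21 LD2_c20 LD3_c34)) = (LP (LK LD1_c12 LD2_c14 LD3_c44)) :=
  Lre_b IH (LK LD1_c21 LD2_c20 LD3_c34) (LK LD1_c12 LD2_c14 LD3_c44) Lrfl Lrfl
theorem f419895 : Led Lsl_et (LP (LK LD1_c12 LD2_c42 LD3_c14)) = (LP (LK LD1_c6 LD2_c38 LD3_c15)) :=
  Lre_e IH (LK LD1_c12 LD2_c42 LD3_c14) (LK LD1_c6 LD2_c38 LD3_c15) Lrfl Lrfl
theorem f151450 : Led Lsl_et (LP (LK LD1_c6 LD2_c19 LD3_c61)) = (LP (LK LD1_c12 LD2_c14 LD3_c44)) :=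
  Lre_e IH (LK LD1_c6 LD2_c19 LD3_c61) (LK LD1_c12 LD2_c14 LD3_c44) Lrfl Lrfl
theorem f498448 : Led Lsl_af (LP (LK LD1_c12 LD2_c42 LD3_c14)) = (LP (LK LD1_c12 LD2_c14 LD3_c44)) :=
  Lgr Lrot50 (Lpr_et (f419895 IH) (Lpr_at (K36.f498440 IH) (Lpr_et (f151450 IH) (Lpn (LP (LK LD1_c12 LD2_c14 LD3_c44))))))
theorem f206645 : Led Lsl_et (LP (LK LD1_c6 LD2_c38 LD3_c15)) = (LP (LK LD1_c12 LD2_c42 LD3_c14)) :=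
  Lre_e IH (LK LD1_c6 LD2_c38 LD3_c15) (LK LD1_c12 LD2_c42 LD3_c14) Lrfl Lrfl
theorem f420052 : Led Lsl_bf (LP (LK LD1_c11 LD2_c36 LD3_c27)) = (LP (LK LD1_c12 LD2_c42 LD3_c14)) :=
  Lgr Lrot96 (Lpr_et (f163001 IH) (Lpr_bt (K32.f420030 IH) (Lpr_et (f206645 IH) (Lpn (LP (LK LD1_c12 LD2_c42 LD3_c14))))))
theorem f498878 : Led Lsl_af (LP (LK LD1_c15 LD2_c5 LD3_c12)) = (LP (LK LD1_c11 LD2_c36 LD3_c27)) :=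
  Lgr Lrot36 (Lpr_bt (f204161 IH) (Lpr_at (f498874 IH) (Lpr_bt (f498452 IH) (Lpe (f498448 IH) (Lpe (f420052 IH) (Lpn (LP (LK LD1_c11 LD2_c36 LD3_c27))))))))
theorem f498880 : Led Lsl_at (LP (LK LD1_c15 LD2_c5 LD3_c12)) = (LP (LK LD1_c11 LD2_c36 LD3_c27)) :=
  Lgr Lrot100 (Lpr_af (f498878 IH) (Lpn (LP (LK LD1_c11 LD2_c36 LD3_c27))))
theorem f498882 : Led Lsl_cf (LP (LK LD1_c15 LD2_c5 LD3_c11)) = (LP (LK LD1_c11 LD2_c36 LD3_c27)) :=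
  Lgr Lrot1 (Lpr_at (K42.f497260 IH) (Lpr_ct (K42.f204176 IH) (Lpr_at (f498880 IH) (Lpn (LP (LK LD1_c11 LD2_c36 LD3_c27))))))
theorem f204217 : Led Lsl_gt (LP (LK LD1_c6 LD2_c2 LD3_c16)) = (LP (LK LD1_c2 LD2_c57 LD3_c19)) :=
  Lre_g IH (LK LD1_c6 LD2_c2 LD3_c16) (LK LD1_c2 LD2_c57 LD3_c19) Lrfl Lrfl
theorem f538058 : Led Lsl_dt (LP (LK LD1_c3 LD2_c20 LD3_c23)) = (LP (LK LD1_c6 LD2_c2 LD3_c16)) :=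
  Lgr Lrot44 (Lpe (K35.f207316 IH) (Lpr_df (K35.f538056 IH) (Lpe (K32.f204209 IH) (Lpn (LP (LK LD1_c6 LD2_c2 LD3_c16))))))
theorem f207350 : Led Lsl_ct (LP (LK LD1_c4 LD2_c37 LD3_c59)) = (LP (LK LD1_c9 LD2_c11 LD3_c36)) :=
  Lre_c IH (LK LD1_c4 LD2_c37 LD3_c59) (LK LD1_c9 LD2_c11 LD3_c36) Lrfl Lrfl
theorem f643760 : Led Lsl_gf (LP (LK LD1_c4 LD2_c38 LD3_c6)) = (LP (LK LD1_c9 LD2_c11 LD3_c36)) :=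
  Lgr Lrot104 (Lpr_ct (K42.f112887 IH) (Lpe (K42.f570760 IH) (Lpr_cf (f498882 IH) (Lpr_gf (f643749 IH) (Lpe (K45.f204220 IH) (Lpe (f204217 IH) (Lpe (f538058 IH) (Lpe (K45.f207345 IH) (Lpr_ct (f207350 IH) (Lpn (LP (LK LD1_c9 LD2_c11 LD3_c36))))))))))))
theorem f207333 : Led Lsl_ct (LP (LK LD1_c9 LD2_c11 LD3_c34)) = (LP (LK LD1_c4 LD2_c37 LD3_c58)) :=
  Lre_c IH (LK LD1_c9 LD2_c11 LD3_c34) (LK LD1_c4 LD2_c37 LD3_c58) Lrfl Lrfl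
theorem f614661 : Led Lsl_ft (LP (LK LD1_c6 LD2_c2 LD3_c35)) = (LP (LK LD1_c9 LD2_c11 LD3_c34)) :=
  Lgr Lrot4 (Lpe (K42.f435532 IH) (Lpr_ff (K42.f614644 IH) (Lpe (f207333 IH) (Lpn (LP (LK LD1_c9 LD2_c11 LD3_c34))))))
theorem f103913 : Led Lsl_gt (LP (LK LD1_c3 LD2_c17 LD3_c44)) = (LP (LK LD1_c6 LD2_c38 LD3_c59)) :=
  Lre_g IH (LK LD1_c3 LD2_c17 LD3_c44) (LK LD1_c6 LD2_c38 LD3_c59) Lrfl Lrfl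
theorem f615073 : Led Lsl_at (LP (LK LD1_c9 LD2_c11 LD3_c34)) = (LP (LK LD1_c6 LD2_c38 LD3_c59)) :=
  Lgr Lrot26 (Lpe (f614661 IH) (Lpr_gt (K42.f615069 IH) (Lpr_gt (f103913 IH) (Lpn (LP (LK LD1_c6 LD2_c38 LD3_c59))))))
theorem f444108 : Led Lsl_ct (LP (LK LD1_c6 LD2_c2 LD3_c35)) = (LP (LK LD1_c2 LD2_c57 LD3_c23)) :=
  Lre_c IH (LK LD1_c6 LD2_c2 LD3_c35) (LK LD1_c2 LD2_c57 LD3_c23) Lrfl Lrfl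
theorem f614673 : Led Lsl_af (LP (LK LD1_c6 LD2_c2 LD3_c35)) = (LP (LK LD1_c9 LD2_c11 LD3_c36)) :=
  Lgr Lrot68 (Lpr_ct (f444108 IH) (Lpr_at (K45.f614668 IH) (Lpr_ct (f207350 IH) (Lpn (LP (LK LD1_c9 LD2_c11 LD3_c36))))))
theorem f615126 : Led Lsl_ff (LP (LK LD1_c9 LD2_c11 LD3_c36)) = (LP (LK LD1_c6 LD2_c38 LD3_c59)) :=
  Lgr Lrot30 (Lpe (f614673 IH) (Lpr_ft (f614661 IH) (Lpr_at (f615073 IH) (Lpn (LP (LK LD1_c6 LD2_c38 LD3_c59))))))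
theorem f615130 : Led Lsl_ft (LP (LK LD1_c9 LD2_c11 LD3_c36)) = (LP (LK LD1_c6 LD2_c38 LD3_c59)) :=
  Lgr Lrot48 (Lpr_ff (f615126 IH) (Lpn (LP (LK LD1_c6 LD2_c38 LD3_c59))))
theorem f615120 : Led Lsl_af (LP (LK LD1_c9 LD2_c11 LD3_c34)) = (LP (LK LD1_c6 LD2_c38 LD3_c59)) :=
  Lgr Lrot0 (Lpr_at (f615073 IH) (Lpn (LP (LK LD1_c6 LD2_c38 LD3_c59))))
theorem f643764 : Led Lsl_gt (LP (LK LD1_c4 LD2_c38 LD3_c6)) = (LP (LK LD1_c9 LD2_c11 LD3_c34)) :=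
  Lgr Lrot46 (Lpr_gf (f643760 IH) (Lpr_ft (f615130 IH) (Lpe (f615120 IH) (Lpn (LP (LK LD1_c9 LD2_c11 LD3_c34))))))
theorem f499238 : Led Lsl_ft (LP (LK LD1_c4 LD2_c38 LD3_c6)) = (LP (LK LD1_c9 LD2_c11 LD3_c54)) :=
  Lre_f IH (LK LD1_c4 LD2_c38 LD3_c6) (LK LD1_c9 LD2_c11 LD3_c54) Lrfl Lrfl
theorem f499108 : Led Lsl_ft (LP (LK LD1_c6 LD2_c38 LD3_c61)) = (LP (LK LD1_c3 LD2_c17 LD3_c44)) :=
  Lre_f IH (LK LD1_c6 LD2_c38 LD3_c61) (LK LD1_c3 LD2_c17 LD3_c44) Lrfl Lrfl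
theorem f499239 : Led Lsl_at (LP (LK LD1_c9 LD2_c11 LD3_c54)) = (LP (LK LD1_c6 LD2_c38 LD3_c61)) :=
  Lgr Lrot66 (Lpe (f499238 IH) (Lpr_af (K42.f499228 IH) (Lpe (f499108 IH) (Lpn (LP (LK LD1_c6 LD2_c38 LD3_c61))))))
theorem f643766 : Led Lsl_gf (LP (LK LD1_c6 LD2_c38 LD3_c61)) = (LP (LK LD1_c9 LD2_c11 LD3_c34)) :=
  Lgr Lrot76 (Lpe (f499239 IH) (Lpe (f499238 IH) (Lpr_gt (f643764 IH) (Lpn (LP (LK LD1_c9 LD2_c11 LD3_c34))))))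
theorem f499109 : Led Lsl_ct (LP (LK LD1_c12 LD2_c43 LD3_c30)) = (LP (LK LD1_c6 LD2_c38 LD3_c61)) :=
  Lre_c IH (LK LD1_c12 LD2_c43 LD3_c30) (LK LD1_c6 LD2_c38 LD3_c61) Lrfl Lrfl
theorem f207331 : Led Lsl_ct (LP (LK LD1_c4 LD2_c37 LD3_c58)) = (LP (LK LD1_c9 LD2_c11 LD3_c34)) :=
  Lre_c IH (LK LD1_c4 LD2_c37 LD3_c58) (LK LD1_c9 LD2_c11 LD3_c34) Lrfl Lrfl
theorem f614636 : Led Lsl_bf (LP (LK LD1_c2 LD2_c16 LD3_c27)) = (LP (LK LD1_c4 LD2_c37 LD3_c58)) :=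
  Lgr Lrot24 (Lpr_bt (K42.f614634 IH) (Lpn (LP (LK LD1_c4 LD2_c37 LD3_c58))))
theorem f61192 : Led Lsl_bt (LP (LK LD1_c2 LD2_c16 LD3_c26)) = (LP (LK LD1_c1 LD2_c5 LD3_c7)) :=
  Lre_b IH (LK LD1_c2 LD2_c16 LD3_c26) (LK LD1_c1 LD2_c5 LD3_c7) Lrfl Lrfl
theorem f61199 : Led Lsl_gt (LP (LK LD1_c9 LD2_c13 LD3_c24)) = (LP (LK LD1_c4 LD2_c38 LD3_c48)) :=
  Lre_g IH (LK LD1_c9 LD2_c13 LD3_c24) (LK LD1_c4 LD2_c38 LD3_c48) Lrfl Lrfl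
theorem f92143 : Led Lsl_bt (LP (LK LD1_c9 LD2_c6 LD3_c5)) = (LP (LK LD1_c4 LD2_c34 LD3_c37)) :=
  Lre_b IH (LK LD1_c9 LD2_c6 LD3_c5) (LK LD1_c4 LD2_c34 LD3_c37) Lrfl Lrfl
theorem f622558 : Led Lsl_cf (LP (LK LD1_c9 LD2_c13 LD3_c24)) = (LP (LK LD1_c9 LD2_c6 LD3_c5)) :=
  Lgr Lrot160 (Lpr_gt (f61199 IH) (Lpe (K8.f61065 IH) (Lpr_bt (f61192 IH) (Lpr_gt (K8.f27026 IH) (Lpe (K41.f435405 IH) (Lpe (K32.f146055 IH) (Lpr_cf (K6.f139840 IH) (Lpr_bt (K6.f139832 IH) (Lpq (K41.f537657 IH) (Lpe (K31.f500157 IH) (Lpe (f92143 IH) (Lpn (LP (LK LD1_c9 LD2_c6 LD3_c5))))))))))))))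
theorem f61128 : Led Lsl_ct (LP (LK LD1_c4 LD2_c38 LD3_c48)) = (LP (LK LD1_c2 LD2_c16 LD3_c26)) :=
  Lre_c IH (LK LD1_c4 LD2_c38 LD3_c48) (LK LD1_c2 LD2_c16 LD3_c26) Lrfl Lrfl
theorem f506230 : Led Lsl_dt (LP (LK LD1_c6 LD2_c22 LD3_c1)) = (LP (LK LD1_c12 LD2_c17 LD3_c45)) :=
  Lre_d IH (LK LD1_c6 LD2_c22 LD3_c1) (LK LD1_c12 LD2_c17 LD3_c45) Lrfl Lrfl
theorem f622562 : Led Lsl_gt (LP (LK LD1_c12 LD2_c17 LD3_c45)) = (LP (LK LD1_c9 LD2_c6 LD3_c5)) :=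
  Lgr Lrot9 (Lpe (f506230 IH) (Lpr_gt (K42.f443701 IH) (Lpr_ct (K42.f79860 IH) (Lpr_gt (K42.f614583 IH) (Lpr_ct (K40.f557965 IH) (Lpe (K11.f104783 IH) (Lpe (f61128 IH) (Lpe (f61199 IH) (Lpr_cf (f622558 IH) (Lpn (LP (LK LD1_c9 LD2_c6 LD3_c5))))))))))))
theorem f643772 : Led Lsl_bt (LP (LK LD1_c12 LD2_c43 LD3_c30)) = (LP (LK LD1_c12 LD2_c17 LD3_c45)) :=
  Lgr Lrot130 (Lpr_ct (f499109 IH) (Lpr_gf (f643766 IH) (Lpe (f207331 IH) (Lpe (f614636 IH) (Lpe (K8.f27026 IH) (Lpe (f61192 IH) (Lpr_ct (K8.f61065 IH) (Lpe (f61199 IH) (Lpr_cf (f622558 IH) (Lpe (f622562 IH) (Lpn (LP (LK LD1_c12 LD2_c17 LD3_c45)))))))))))))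
theorem f499099 : Led Lsl_ft (LP (LK LD1_c6 LD2_c38 LD3_c55)) = (LP (LK LD1_c12 LD2_c43 LD3_c30)) :=
  Lre_f IH (LK LD1_c6 LD2_c38 LD3_c55) (LK LD1_c12 LD2_c43 LD3_c30) Lrfl Lrfl
theorem f499393 : Led Lsl_bt (LP (LK LD1_c4 LD2_c59 LD3_c32)) = (LP (LK LD1_c2 LD2_c27 LD3_c38)) :=
  Lre_b IH (LK LD1_c4 LD2_c59 LD3_c32) (LK LD1_c2 LD2_c27 LD3_c38) Lrfl Lrfl
theorem f570799 : Led Lsl_dt (LP (LK LD1_c3 LD2_c23 LD3_c61)) = (LP (LK LD1_c4 LD2_c59 LD3_c32)) :=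
  Lgr Lrot79 (Lpr_bf (K45.f570785 IH) (Lpe (K42.f76110 IH) (Lpe (f499393 IH) (Lpn (LP (LK LD1_c4 LD2_c59 LD3_c32))))))
theorem f570804 : Led Lsl_df (LP (LK LD1_c3 LD2_c23 LD3_c61)) = (LP (LK LD1_c4 LD2_c59 LD3_c32)) :=
  Lgr Lrot38 (Lpr_dt (f570799 IH) (Lpn (LP (LK LD1_c4 LD2_c59 LD3_c32))))
theorem f40691 : Led Lsl_dt (LP (LK LD1_c3 LD2_c59 LD3_c46)) = (LP (LK LD1_c8 LD2_c0 LD3_c36)) :=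
  Lre_d IH (LK LD1_c3 LD2_c59 LD3_c46) (LK LD1_c8 LD2_c0 LD3_c36) Lrfl Lrfl
theorem f570809 : Led Lsl_at (LP (LK LD1_c8 LD2_c0 LD3_c36)) = (LP (LK LD1_c4 LD2_c59 LD3_c32)) :=
  Lgr Lrot51 (Lpe (f40691 IH) (Lpr_af (K42.f497258 IH) (Lpr_df (f570804 IH) (Lpn (LP (LK LD1_c4 LD2_c59 LD3_c32))))))
theorem f497257 : Led Lsl_ct (LP (LK LD1_c15 LD2_c5 LD3_c15)) = (LP (LK LD1_c8 LD2_c0 LD3_c36)) :=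
  Lre_c IH (LK LD1_c15 LD2_c5 LD3_c15) (LK LD1_c8 LD2_c0 LD3_c36) Lrfl Lrfl
theorem f570803 : Led Lsl_ct (LP (LK LD1_c4 LD2_c59 LD3_c32)) = (LP (LK LD1_c9 LD2_c49 LD3_c26)) :=
  Lre_c IH (LK LD1_c4 LD2_c59 LD3_c32) (LK LD1_c9 LD2_c49 LD3_c26) Lrfl Lrfl
theorem f570813 : Led Lsl_af (LP (LK LD1_c15 LD2_c5 LD3_c15)) = (LP (LK LD1_c9 LD2_c49 LD3_c26)) :=
  Lgr Lrot68 (Lpr_ct (f497257 IH) (Lpr_at (f570809 IH) (Lpr_ct (f570803 IH) (Lpn (LP (LK LD1_c9 LD2_c49 LD3_c26))))))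
theorem f137485 : Led Lsl_et (LP (LK LD1_c4 LD2_c59 LD3_c31)) = (LP (LK LD1_c9 LD2_c49 LD3_c26)) :=
  Lre_e IH (LK LD1_c4 LD2_c59 LD3_c31) (LK LD1_c9 LD2_c49 LD3_c26) Lrfl Lrfl
theorem f76123 : Led Lsl_at (LP (LK LD1_c2 LD2_c27 LD3_c36)) = (LP (LK LD1_c4 LD2_c59 LD3_c30)) :=
  Lre_a IH (LK LD1_c2 LD2_c27 LD3_c36) (LK LD1_c4 LD2_c59 LD3_c30) Lrfl Lrfl
theorem f497449 : Led Lsl_at (LP (LK LD1_c9 LD2_c8 LD3_c1)) = (LP (LK LD1_c4 LD2_c59 LD3_c31)) :=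
  Lgr Lrot107 (Lpr_cf (K44.f497447 IH) (Lpe (f76123 IH) (Lpe (K32.f76117 IH) (Lpn (LP (LK LD1_c4 LD2_c59 LD3_c31))))))
theorem f570818 : Led Lsl_et (LP (LK LD1_c15 LD2_c5 LD3_c15)) = (LP (LK LD1_c9 LD2_c8 LD3_c1)) :=
  Lgr Lrot123 (Lpr_af (f570813 IH) (Lpe (f137485 IH) (Lpe (f497449 IH) (Lpn (LP (LK LD1_c9 LD2_c8 LD3_c1))))))
theorem f103901 : Led Lsl_et (LP (LK LD1_c6 LD2_c25 LD3_c55)) = (LP (LK LD1_c12 LD2_c24 LD3_c5)) :=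
  Lre_e IH (LK LD1_c6 LD2_c25 LD3_c55) (LK LD1_c12 LD2_c24 LD3_c5) Lrfl Lrfl
theorem f570821 : Led Lsl_bf (LP (LK LD1_c15 LD2_c5 LD3_c15)) = (LP (LK LD1_c12 LD2_c24 LD3_c5)) :=
  Lgr Lrot96 (Lpr_et (f570818 IH) (Lpr_bt (K32.f208283 IH) (Lpr_et (f103901 IH) (Lpn (LP (LK LD1_c12 LD2_c24 LD3_c5))))))
theorem f103900 : Led Lsl_et (LP (LK LD1_c6 LD2_c38 LD3_c54)) = (LP (LK LD1_c3 LD2_c17 LD3_c41)) :=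
  Lre_e IH (LK LD1_c6 LD2_c38 LD3_c54) (LK LD1_c3 LD2_c17 LD3_c41) Lrfl Lrfl
theorem f103902 : Led Lsl_cf (LP (LK LD1_c6 LD2_c38 LD3_c54)) = (LP (LK LD1_c12 LD2_c24 LD3_c5)) :=
  Lgr Lrot39 (Lpr_et (f103900 IH) (Lpr_ct (K7.f103834 IH) (Lpr_et (f103901 IH) (Lpn (LP (LK LD1_c12 LD2_c24 LD3_c5))))))
theorem f103908 : Led Lsl_ct (LP (LK LD1_c6 LD2_c38 LD3_c54)) = (LP (LK LD1_c12 LD2_c24 LD3_c5)) :=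
  Lgr Lrot59 (Lpr_cf (f103902 IH) (Lpn (LP (LK LD1_c12 LD2_c24 LD3_c5))))
theorem f103915 : Led Lsl_bt (LP (LK LD1_c3 LD2_c17 LD3_c44)) = (LP (LK LD1_c6 LD2_c38 LD3_c54)) :=
  Lre_b IH (LK LD1_c3 LD2_c17 LD3_c44) (LK LD1_c6 LD2_c38 LD3_c54) Lrfl Lrfl
theorem f570829 : Led Lsl_bt (LP (LK LD1_c8 LD2_c0 LD3_c36)) = (LP (LK LD1_c6 LD2_c38 LD3_c55)) :=
  Lgr Lrot128 (Lpe (f497257 IH) (Lpr_bf (f570821 IH) (Lpe (f103908 IH) (Lpe (f103915 IH) (Lpe (K42.f103916 IH) (Lpn (LP (LK LD1_c6 LD2_c38 LD3_c55))))))))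
theorem f643778 : Led Lsl_ff (LP (LK LD1_c8 LD2_c0 LD3_c36)) = (LP (LK LD1_c12 LD2_c17 LD3_c45)) :=
  Lgr Lrot25 (Lpr_bt (f570829 IH) (Lpr_ft (f499099 IH) (Lpr_bt (f643772 IH) (Lpn (LP (LK LD1_c12 LD2_c17 LD3_c45))))))
theorem f643786 : Led Lsl_gf (LP (LK LD1_c4 LD2_c59 LD3_c32)) = (LP (LK LD1_c9 LD2_c6 LD3_c5)) :=
  Lgr Lrot76 (Lpe (f570809 IH) (Lpr_ff (f643778 IH) (Lpr_gt (f622562 IH) (Lpn (LP (LK LD1_c9 LD2_c6 LD3_c5))))))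
theorem f137981 : Led Lsl_et (LP (LK LD1_c2 LD2_c49 LD3_c43)) = (LP (LK LD1_c5 LD2_c47 LD3_c30)) :=
  Lre_e IH (LK LD1_c2 LD2_c49 LD3_c43) (LK LD1_c5 LD2_c47 LD3_c30) Lrfl Lrfl
theorem f685977 : Led Lsl_ef v3896 = v11815 :=
  Lgr Lrot88 (Lpr_et (f685975 IH) (Lpn v11815))
theorem f685983 : (LP (LK LD1_c5 LD2_c47 LD3_c30)) = v11812 :=
  (Llr Lrot185 (Lpe (f137981 IH) (Lpe (K6.f137979 IH) (Lpe (K6.f101681 IH) (Lpe (K2.f40317 IH) (Lpr_gf (K4.f69054 IH) (Lpe (K45.f69027 IH) (Lpr_dt (f570799 IH) (Lpr_gf (f643786 IH) (Lpr_df (f685982 IH) (Lpe (f685977 IH) (Lpr_gf (f685959 IH) (Lpn v11812))))))))))))).symm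
theorem f685984 : Led Lsl_gt (LP (LK LD1_c5 LD2_c51 LD3_c59)) = (LP (LK LD1_c5 LD2_c47 LD3_c30)) :=
  Leop (Lpqs (f685983 IH) (Lpe (f685967 IH) (Lpn (LP (LK LD1_c5 LD2_c51 LD3_c59)))))
theorem seed_588 : LEOK LG_g (LK LD1_c5 LD2_c51 LD3_c59) :=
  Leoe_g (LK LD1_c5 LD2_c51 LD3_c59) (f685984 IH)
def v11856 : LQ := Led Lsl_et K35.v3912
theorem f686180 : Led Lsl_et K35.v3912 = v11856 :=
  Lrfl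
theorem f627867 : Led Lsl_df K35.v1118 = K35.v3912 :=
  Lgr Lrot38 (Lpr_dt (K35.f627865 IH) (Lpn K35.v3912))
theorem f496139 : Led Lsl_ct K35.v1309 = K35.v1533 :=
  Lgr Lrot15 (Lpe (K35.f494745 IH) (Lpr_cf (K32.f438432 IH) (Lpr_ef (K35.f496138 IH) (Lpn K35.v1533))))
def v1256 : LQ := Led Lsl_gt (LP (LK LD1_c1 LD2_c4 LD3_c19))
theorem f494346 : Led Lsl_gt (LP (LK LD1_c1 LD2_c4 LD3_c19)) = v1256 :=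
  Lrfl
theorem f494347 : Led Lsl_gf (LP (LK LD1_c1 LD2_c22 LD3_c7)) = v1256 :=
  Lgr Lrot76 (Lpe (K24.f152059 IH) (Lpe (K24.f163621 IH) (Lpr_gt (f494346 IH) (Lpn v1256))))
theorem f491571 : Led Lsl_cf K29.v266 = K35.v1113 :=
  Lgr Lrot11 (Lpr_ct (K35.f491570 IH) (Lpn K35.v1113))
theorem f535846 : v1256 = K35.v1113 :=
  (Llr Lrot144 (Lpe (f494347 IH) (Lpr_dt (K7.f22255 IH) (Lpr_gt (K35.f165237 IH) (Lpr_dt (K35.f496142 IH) (Lpe (f496139 IH) (Lpe (K35.f494748 IH) (Lpr_gf (K35.f535845 IH) (Lpe (K35.f535844 IH) (Lpe (K29.f452351 IH) (Lpr_cf (f491571 IH) (Lpn K35.v1113)))))))))))).symm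
def v1257 : LQ := Led Lsl_gf (LP (LK LD1_c1 LD2_c4 LD3_c19))
theorem f494348 : Led Lsl_gf (LP (LK LD1_c1 LD2_c4 LD3_c19)) = v1257 :=
  Lrfl
theorem f494349 : Led Lsl_gt (LP (LK LD1_c1 LD2_c22 LD3_c7)) = v1257 :=
  Lgr Lrot5 (Lpr_ft (K7.f22237 IH) (Lpr_at (K8.f163617 IH) (Lpr_gf (f494348 IH) (Lpn v1257))))
theorem f623415 : K35.v1587 = v1257 :=
  (Llr Lrot26 (Lpe (K35.f500217 IH) (Lpr_ff (K35.f500209 IH) (Lpqs (K35.f623414 IH) (Lpq (f535846 IH) (Lpe (f494347 IH) (Lpr_gt (f494349 IH) (Lpn v1257)))))))).symm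
theorem f163958 : Led Lsl_ct (LP (LK LD1_c2 LD2_c34 LD3_c14)) = (LP (LK LD1_c5 LD2_c14 LD3_c47)) :=
  Lre_c IH (LK LD1_c2 LD2_c34 LD3_c14) (LK LD1_c5 LD2_c14 LD3_c47) Lrfl Lrfl
theorem f163960 : Led Lsl_ct (LP (LK LD1_c5 LD2_c4 LD3_c43)) = (LP (LK LD1_c5 LD2_c14 LD3_c51)) :=
  Lgr Lrot15 (Lpr_ef (K10.f163953 IH) (Lpe (f163958 IH) (Lpe (K10.f163959 IH) (Lpn (LP (LK LD1_c5 LD2_c14 LD3_c51))))))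
theorem f164554 : Led Lsl_af (LP (LK LD1_c5 LD2_c8 LD3_c25)) = (LP (LK LD1_c5 LD2_c14 LD3_c51)) :=
  Lgr Lrot68 (Lpr_ct (K48.f164551 IH) (Lpe (K48.f163822 IH) (Lpr_ct (f163960 IH) (Lpn (LP (LK LD1_c5 LD2_c14 LD3_c51))))))
theorem f164066 : Led Lsl_ft (LP (LK LD1_c2 LD2_c34 LD3_c15)) = (LP (LK LD1_c5 LD2_c14 LD3_c51)) :=
  Lre_f IH (LK LD1_c2 LD2_c34 LD3_c15) (LK LD1_c5 LD2_c14 LD3_c51) Lrfl Lrfl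
theorem f163967 : Led Lsl_gt (LP (LK LD1_c2 LD2_c34 LD3_c15)) = (LP (LK LD1_c5 LD2_c14 LD3_c52)) :=
  Lre_g IH (LK LD1_c2 LD2_c34 LD3_c15) (LK LD1_c5 LD2_c14 LD3_c52) Lrfl Lrfl
theorem f164576 : Led Lsl_gf (LP (LK LD1_c5 LD2_c8 LD3_c25)) = (LP (LK LD1_c5 LD2_c14 LD3_c52)) :=
  Lgr Lrot76 (Lpr_af (f164554 IH) (Lpe (f164066 IH) (Lpr_gt (f163967 IH) (Lpn (LP (LK LD1_c5 LD2_c14 LD3_c52))))))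
theorem f164579 : Led Lsl_et (LP (LK LD1_c10 LD2_c19 LD3_c7)) = (LP (LK LD1_c5 LD2_c14 LD3_c52)) :=
  Lre_e IH (LK LD1_c10 LD2_c19 LD3_c7) (LK LD1_c5 LD2_c14 LD3_c52) Lrfl Lrfl
theorem f26708 : Led Lsl_gt (LP (LK LD1_c11 LD2_c51 LD3_c57)) = (LP (LK LD1_c6 LD2_c4 LD3_c12)) :=
  Lre_g IH (LK LD1_c11 LD2_c51 LD3_c57) (LK LD1_c6 LD2_c4 LD3_c12) Lrfl Lrfl
theorem f334847 : Led Lsl_df (LP (LK LD1_c11 LD2_c51 LD3_c57)) = (LP (LK LD1_c10 LD2_c19 LD3_c7)) :=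
  Lgr Lrot170 (Lpr_gt (f26708 IH) (Lpr_df (K36.f334843 IH) (Lpr_et (K36.f165726 IH) (Lpr_gt (K10.f165671 IH) (Lpr_dt (K10.f68549 IH) (Lpe (K10.f194079 IH) (Lpe (K8.f163702 IH) (Lpr_et (K10.f163966 IH) (Lpr_gt (f163967 IH) (Lpe (f164579 IH) (Lpn (LP (LK LD1_c10 LD2_c19 LD3_c7)))))))))))))
theorem f334825 : Led Lsl_gt (LP (LK LD1_c9 LD2_c51 LD3_c10)) = (LP (LK LD1_c11 LD2_c51 LD3_c57)) :=
  Lgr Lrot5 (Lpr_ft (K36.f176540 IH) (Lpr_at (K36.f334794 IH) (Lpe (f26708 IH) (Lpn (LP (LK LD1_c11 LD2_c51 LD3_c57))))))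
theorem f686185 : Led Lsl_gf (LP (LK LD1_c10 LD2_c2 LD3_c42)) = v11856 :=
  Lgr Lrot138 (Lpe (K36.f177694 IH) (Lpr_gt (f334825 IH) (Lpr_df (f334847 IH) (Lpr_et (f164579 IH) (Lpe (f164576 IH) (Lpe (K48.f22259 IH) (Lpe (K7.f22239 IH) (Lpr_gt (f494349 IH) (Lpq (f623415 IH) (Lpqs (K35.f623411 IH) (Lpr_df (f627867 IH) (Lpr_et (f686180 IH) (Lpn v11856)))))))))))))
theorem f177698 : Led Lsl_ft (LP (LK LD1_c10 LD2_c2 LD3_c42)) = (LP (LK LD1_c5 LD2_c5 LD3_c51)) :=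
  Lre_f IH (LK LD1_c10 LD2_c2 LD3_c42) (LK LD1_c5 LD2_c5 LD3_c51) Lrfl Lrfl
theorem f165720 : Led Lsl_gt (LP (LK LD1_c10 LD2_c4 LD3_c57)) = (LP (LK LD1_c5 LD2_c7 LD3_c9)) :=
  Lre_g IH (LK LD1_c10 LD2_c4 LD3_c57) (LK LD1_c5 LD2_c7 LD3_c9) Lrfl Lrfl
theorem f334879 : Led Lsl_gt (LP (LK LD1_c10 LD2_c2 LD3_c42)) = (LP (LK LD1_c10 LD2_c4 LD3_c57)) :=
  Lgr Lrot5 (Lpr_ft (f177698 IH) (Lpr_at (K40.f334827 IH) (Lpe (f165720 IH) (Lpn (LP (LK LD1_c10 LD2_c4 LD3_c57))))))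
theorem f623034 : Led Lsl_ft (LP (LK LD1_c6 LD2_c46 LD3_c39)) = (LP (LK LD1_c6 LD2_c45 LD3_c30)) :=
  Lgr Lrot54 (Lpe (K35.f416603 IH) (Lpr_ff (K35.f623030 IH) (Lpe (K24.f413523 IH) (Lpn (LP (LK LD1_c6 LD2_c45 LD3_c30))))))
theorem f622997 : Led Lsl_af (LP (LK LD1_c6 LD2_c46 LD3_c36)) = (LP (LK LD1_c6 LD2_c45 LD3_c30)) :=
  Lgr Lrot68 (Lpr_ct (K17.f413594 IH) (Lpr_at (K35.f622990 IH) (Lpr_ct (K24.f416746 IH) (Lpn (LP (LK LD1_c6 LD2_c45 LD3_c30))))))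
theorem f622986 : Led Lsl_ft (LP (LK LD1_c6 LD2_c46 LD3_c36)) = (LP (LK LD1_c6 LD2_c45 LD3_c31)) :=
  Lgr Lrot4 (Lpe (K24.f413569 IH) (Lpr_ff (K35.f622978 IH) (Lpe (K24.f415046 IH) (Lpn (LP (LK LD1_c6 LD2_c45 LD3_c31))))))
theorem f623036 : Led Lsl_af (LP (LK LD1_c6 LD2_c46 LD3_c39)) = (LP (LK LD1_c6 LD2_c45 LD3_c31)) :=
  Lgr Lrot45 (Lpr_ft (f623034 IH) (Lpe (f622997 IH) (Lpr_ft (f622986 IH) (Lpn (LP (LK LD1_c6 LD2_c45 LD3_c31))))))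
theorem f622539 : Led Lsl_ef (LP (LK LD1_c3 LD2_c21 LD3_c28)) = (LP (LK LD1_c5 LD2_c52 LD3_c32)) :=
  Lgr Lrot88 (Lpr_et (K42.f622533 IH) (Lpn (LP (LK LD1_c5 LD2_c52 LD3_c32))))
theorem f599826 : Led Lsl_ct (LP (LK LD1_c11 LD2_c31 LD3_c35)) = (LP (LK LD1_c5 LD2_c52 LD3_c32)) :=
  Lre_c IH (LK LD1_c11 LD2_c31 LD3_c35) (LK LD1_c5 LD2_c52 LD3_c32) Lrfl Lrfl
theorem f622543 : Led Lsl_et (LP (LK LD1_c6 LD2_c46 LD3_c39)) = (LP (LK LD1_c11 LD2_c31 LD3_c35)) :=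
  Lgr Lrot158 (Lpe (K24.f416407 IH) (Lpr_ef (f622539 IH) (Lpe (f599826 IH) (Lpn (LP (LK LD1_c11 LD2_c31 LD3_c35))))))
theorem f73951 : Led Lsl_et (LP (LK LD1_c2 LD2_c27 LD3_c58)) = (LP (LK LD1_c5 LD2_c0 LD3_c23)) :=
  Lre_e IH (LK LD1_c2 LD2_c27 LD3_c58) (LK LD1_c5 LD2_c0 LD3_c23) Lrfl Lrfl
theorem f175686 : Led Lsl_et (LP (LK LD1_c2 LD2_c57 LD3_c56)) = (LP (LK LD1_c6 LD2_c3 LD3_c37)) :=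
  Lre_e IH (LK LD1_c2 LD2_c57 LD3_c56) (LK LD1_c6 LD2_c3 LD3_c37) Lrfl Lrfl
theorem f175687 : Led Lsl_gt (LP (LK LD1_c11 LD2_c50 LD3_c49)) = (LP (LK LD1_c6 LD2_c3 LD3_c37)) :=
  Lre_g IH (LK LD1_c11 LD2_c50 LD3_c49) (LK LD1_c6 LD2_c3 LD3_c37) Lrfl Lrfl
theorem f416622 : Led Lsl_ef (LP (LK LD1_c11 LD2_c50 LD3_c49)) = (LP (LK LD1_c6 LD2_c45 LD3_c31)) :=
  Lgr Lrot114 (Lpr_gt (f175687 IH) (Lpe (f175686 IH) (Lpe (K10.f175672 IH) (Lpr_gt (K10.f175788 IH) (Lpe (K9.f73952 IH) (Lpr_et (f73951 IH) (Lpr_gt (K24.f73933 IH) (Lpe (K24.f141056 IH) (Lpe (K24.f416485 IH) (Lpr_df (K24.f416610 IH) (Lpn (LP (LK LD1_c6 LD2_c45 LD3_c31)))))))))))))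
theorem f416624 : Led Lsl_et (LP (LK LD1_c11 LD2_c50 LD3_c49)) = (LP (LK LD1_c6 LD2_c45 LD3_c31)) :=
  Lgr Lrot87 (Lpr_ef (f416622 IH) (Lpn (LP (LK LD1_c6 LD2_c45 LD3_c31))))
theorem f623094 : Led Lsl_at (LP (LK LD1_c11 LD2_c31 LD3_c35)) = (LP (LK LD1_c11 LD2_c50 LD3_c49)) :=
  Lgr Lrot80 (Lpe (f622543 IH) (Lpr_af (f623036 IH) (Lpe (f416624 IH) (Lpn (LP (LK LD1_c11 LD2_c50 LD3_c49))))))
theorem f599822 : Led Lsl_ct (LP (LK LD1_c5 LD2_c52 LD3_c32)) = (LP (LK LD1_c11 LD2_c31 LD3_c35)) :=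
  Lre_c IH (LK LD1_c5 LD2_c52 LD3_c32) (LK LD1_c11 LD2_c31 LD3_c35) Lrfl Lrfl
theorem f622920 : Led Lsl_ft (LP (LK LD1_c4 LD2_c34 LD3_c37)) = (LP (LK LD1_c2 LD2_c51 LD3_c22)) :=
  Lgr Lrot48 (Lpr_ff (f622914 IH) (Lpn (LP (LK LD1_c2 LD2_c51 LD3_c22))))
theorem f622912 : Led Lsl_af (LP (LK LD1_c4 LD2_c34 LD3_c37)) = (LP (LK LD1_c2 LD2_c51 LD3_c23)) :=
  Lgr Lrot0 (Lpr_at (f622910 IH) (Lpn (LP (LK LD1_c2 LD2_c51 LD3_c23))))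
theorem f536249 : Led Lsl_df (LP (LK LD1_c2 LD2_c52 LD3_c12)) = K45.v2938 :=
  Lgr Lrot38 (Lpr_dt (K45.f536248 IH) (Lpn K45.v2938))
theorem f622882 : Led Lsl_ft (LP (LK LD1_c4 LD2_c34 LD3_c36)) = K45.v2938 :=
  Lgr Lrot54 (Lpr_df (K35.f622875 IH) (Lpe (K35.f500218 IH) (Lpr_df (f536249 IH) (Lpn K45.v2938))))
theorem f622922 : Led Lsl_af (LP (LK LD1_c4 LD2_c34 LD3_c36)) = (LP (LK LD1_c2 LD2_c51 LD3_c22)) :=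
  Lgr Lrot45 (Lpr_ft (f622882 IH) (Lpqs (K45.f537651 IH) (Lpe (f622912 IH) (Lpr_ft (f622920 IH) (Lpn (LP (LK LD1_c2 LD2_c51 LD3_c22)))))))
theorem f438502 : Led Lsl_et (LP (LK LD1_c4 LD2_c34 LD3_c36)) = (LP (LK LD1_c9 LD2_c6 LD3_c4)) :=
  Lre_e IH (LK LD1_c4 LD2_c34 LD3_c36) (LK LD1_c9 LD2_c6 LD3_c4) Lrfl Lrfl
theorem f499957 : Led Lsl_et (LP (LK LD1_c5 LD2_c50 LD3_c23)) = (LP (LK LD1_c2 LD2_c51 LD3_c22)) :=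
  Lre_e IH (LK LD1_c5 LD2_c50 LD3_c23) (LK LD1_c2 LD2_c51 LD3_c22) Lrfl Lrfl
theorem f622936 : Led Lsl_at (LP (LK LD1_c9 LD2_c6 LD3_c4)) = (LP (LK LD1_c5 LD2_c50 LD3_c23)) :=
  Lgr Lrot80 (Lpe (f438502 IH) (Lpr_af (f622922 IH) (Lpe (f499957 IH) (Lpn (LP (LK LD1_c5 LD2_c50 LD3_c23))))))
theorem f599765 : Led Lsl_dt (LP (LK LD1_c2 LD2_c52 LD3_c19)) = (LP (LK LD1_c4 LD2_c39 LD3_c33)) :=
  Lgr Lrot42 (Lpr_df (K45.f599760 IH) (Lpn (LP (LK LD1_c4 LD2_c39 LD3_c33))))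
theorem f422797 : Led Lsl_gt (LP (LK LD1_c9 LD2_c14 LD3_c45)) = (LP (LK LD1_c4 LD2_c39 LD3_c33)) :=
  Lre_g IH (LK LD1_c9 LD2_c14 LD3_c45) (LK LD1_c4 LD2_c39 LD3_c33) Lrfl Lrfl
theorem f599804 : Led Lsl_dt (LP (LK LD1_c5 LD2_c50 LD3_c23)) = (LP (LK LD1_c9 LD2_c14 LD3_c45)) :=
  Lgr Lrot136 (Lpr_et (f499957 IH) (Lpe (K35.f139897 IH) (Lpe (K35.f143140 IH) (Lpr_dt (K36.f26548 IH) (Lpe (K11.f21185 IH) (Lpe (K41.f448922 IH) (Lpq (K41.f496456 IH) (Lpe (K41.f494345 IH) (Lpe (K7.f151977 IH) (Lpr_dt (f599765 IH) (Lpe (f422797 IH) (Lpn (LP (LK LD1_c9 LD2_c14 LD3_c45))))))))))))))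
theorem f622940 : Led Lsl_af (LP (LK LD1_c5 LD2_c52 LD3_c32)) = (LP (LK LD1_c9 LD2_c14 LD3_c45)) :=
  Lgr Lrot117 (Lpr_dt (K45.f615669 IH) (Lpr_at (f622936 IH) (Lpr_dt (f599804 IH) (Lpn (LP (LK LD1_c9 LD2_c14 LD3_c45))))))
theorem f623098 : Led Lsl_cf (LP (LK LD1_c9 LD2_c14 LD3_c45)) = (LP (LK LD1_c11 LD2_c50 LD3_c49)) :=
  Lgr Lrot1 (Lpe (f622940 IH) (Lpr_ct (f599822 IH) (Lpr_at (f623094 IH) (Lpn (LP (LK LD1_c11 LD2_c50 LD3_c49))))))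
theorem f623102 : Led Lsl_et (LP (LK LD1_c9 LD2_c14 LD3_c45)) = (LP (LK LD1_c4 LD2_c49 LD3_c52)) :=
  Lgr Lrot158 (Lpr_cf (f623098 IH) (Lpr_ef (f416622 IH) (Lpr_cf (K24.f415048 IH) (Lpn (LP (LK LD1_c4 LD2_c49 LD3_c52))))))
theorem f599771 : Led Lsl_df (LP (LK LD1_c5 LD2_c52 LD3_c5)) = (LP (LK LD1_c9 LD2_c14 LD3_c46)) :=
  Lgr Lrot38 (Lpr_dt (K45.f599767 IH) (Lpn (LP (LK LD1_c9 LD2_c14 LD3_c46))))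
theorem f152040 : Led Lsl_at (LP (LK LD1_c5 LD2_c52 LD3_c5)) = (LP (LK LD1_c2 LD2_c52 LD3_c33)) :=
  Lre_a IH (LK LD1_c5 LD2_c52 LD3_c5) (LK LD1_c2 LD2_c52 LD3_c33) Lrfl Lrfl
theorem f152048 : Led Lsl_dt (LP (LK LD1_c2 LD2_c52 LD3_c33)) = (LP (LK LD1_c5 LD2_c52 LD3_c34)) :=
  Lre_d IH (LK LD1_c2 LD2_c52 LD3_c33) (LK LD1_c5 LD2_c52 LD3_c34) Lrfl Lrfl
theorem f599774 : Led Lsl_at (LP (LK LD1_c5 LD2_c52 LD3_c34)) = (LP (LK LD1_c9 LD2_c14 LD3_c46)) :=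
  Lgr Lrot51 (Lpe (f152048 IH) (Lpe (f152040 IH) (Lpr_df (f599771 IH) (Lpn (LP (LK LD1_c9 LD2_c14 LD3_c46))))))
theorem f500312 : Led Lsl_ft (LP (LK LD1_c2 LD2_c52 LD3_c32)) = (LP (LK LD1_c5 LD2_c52 LD3_c34)) :=
  Lre_f IH (LK LD1_c2 LD2_c52 LD3_c32) (LK LD1_c5 LD2_c52 LD3_c34) Lrfl Lrfl
theorem f452792 : Led Lsl_gt (LP (LK LD1_c2 LD2_c52 LD3_c32)) = (LP (LK LD1_c5 LD2_c52 LD3_c31)) :=
  Lre_g IH (LK LD1_c2 LD2_c52 LD3_c32) (LK LD1_c5 LD2_c52 LD3_c31) Lrfl Lrfl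
theorem f599780 : Led Lsl_gt (LP (LK LD1_c5 LD2_c52 LD3_c31)) = (LP (LK LD1_c9 LD2_c14 LD3_c46)) :=
  Lgr Lrot46 (Lpe (f452792 IH) (Lpr_ft (f500312 IH) (Lpr_at (f599774 IH) (Lpn (LP (LK LD1_c9 LD2_c14 LD3_c46))))))
theorem f622944 : Led Lsl_ft (LP (LK LD1_c5 LD2_c52 LD3_c31)) = (LP (LK LD1_c9 LD2_c14 LD3_c45)) :=
  Lgr Lrot2 (Lpr_gt (f599780 IH) (Lpe (K45.f599820 IH) (Lpr_af (f622940 IH) (Lpn (LP (LK LD1_c9 LD2_c14 LD3_c45))))))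
theorem f452793 : Led Lsl_et (LP (LK LD1_c11 LD2_c31 LD3_c33)) = (LP (LK LD1_c5 LD2_c52 LD3_c31)) :=
  Lre_e IH (LK LD1_c11 LD2_c31 LD3_c33) (LK LD1_c5 LD2_c52 LD3_c31) Lrfl Lrfl
theorem f623130 : Led Lsl_ff (LP (LK LD1_c11 LD2_c31 LD3_c33)) = (LP (LK LD1_c6 LD2_c46 LD3_c37)) :=
  Lgr Lrot72 (Lpr_et (f452793 IH) (Lpr_ft (f622944 IH) (Lpr_et (f623102 IH) (Lpe (K35.f622978 IH) (Lpr_et (K17.f414112 IH) (Lpn (LP (LK LD1_c6 LD2_c46 LD3_c37))))))))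
theorem f623134 : Led Lsl_ft (LP (LK LD1_c11 LD2_c31 LD3_c33)) = (LP (LK LD1_c6 LD2_c46 LD3_c37)) :=
  Lgr Lrot48 (Lpr_ff (f623130 IH) (Lpn (LP (LK LD1_c6 LD2_c46 LD3_c37))))
theorem f186058 : Led Lsl_et (LP (LK LD1_c6 LD2_c4 LD3_c12)) = (LP (LK LD1_c2 LD2_c58 LD3_c13)) :=
  Lre_e IH (LK LD1_c6 LD2_c4 LD3_c12) (LK LD1_c2 LD2_c58 LD3_c13) Lrfl Lrfl
theorem f622528 : Led Lsl_dt (LP (LK LD1_c11 LD2_c31 LD3_c33)) = (LP (LK LD1_c10 LD2_c4 LD3_c57)) :=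
  Lgr Lrot136 (Lpr_et (f452793 IH) (Lpe (f452792 IH) (Lpe (K42.f452790 IH) (Lpr_dt (K42.f452731 IH) (Lpq (K40.f537142 IH) (Lpe (K36.f448991 IH) (Lpe (K9.f100684 IH) (Lpe (K10.f186042 IH) (Lpe (f186058 IH) (Lpr_dt (K36.f194042 IH) (Lpe (f165720 IH) (Lpn (LP (LK LD1_c10 LD2_c4 LD3_c57))))))))))))))
theorem f622530 : Led Lsl_df (LP (LK LD1_c11 LD2_c31 LD3_c33)) = (LP (LK LD1_c10 LD2_c4 LD3_c57)) :=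
  Lgr Lrot38 (Lpr_dt (f622528 IH) (Lpn (LP (LK LD1_c10 LD2_c4 LD3_c57))))
theorem f623136 : Led Lsl_ff (LP (LK LD1_c10 LD2_c4 LD3_c57)) = (LP (LK LD1_c5 LD2_c51 LD3_c61)) :=
  Lgr Lrot19 (Lpe (f622530 IH) (Lpr_ft (f623134 IH) (Lpr_dt (K17.f414115 IH) (Lpn (LP (LK LD1_c5 LD2_c51 LD3_c61))))))
theorem f334839 : Led Lsl_gt (LP (LK LD1_c5 LD2_c51 LD3_c61)) = (LP (LK LD1_c10 LD2_c4 LD3_c58)) :=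
  Lgr Lrot46 (Lpe (K17.f177188 IH) (Lpr_ft (K36.f177190 IH) (Lpr_at (K36.f334831 IH) (Lpn (LP (LK LD1_c10 LD2_c4 LD3_c58))))))
theorem f164165 : Led Lsl_gt (LP (LK LD1_c10 LD2_c2 LD3_c41)) = (LP (LK LD1_c5 LD2_c5 LD3_c51)) :=
  Lre_g IH (LK LD1_c10 LD2_c2 LD3_c41) (LK LD1_c5 LD2_c5 LD3_c51) Lrfl Lrfl
theorem f334833 : Led Lsl_gf (LP (LK LD1_c10 LD2_c2 LD3_c41)) = (LP (LK LD1_c10 LD2_c4 LD3_c58)) :=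
  Lgr Lrot47 (Lpr_gt (f164165 IH) (Lpr_af (K36.f334823 IH) (Lpe (K36.f165719 IH) (Lpn (LP (LK LD1_c10 LD2_c4 LD3_c58))))))
theorem f623138 : Led Lsl_at (LP (LK LD1_c10 LD2_c4 LD3_c57)) = (LP (LK LD1_c10 LD2_c2 LD3_c41)) :=
  Lgr Lrot26 (Lpr_ff (f623136 IH) (Lpr_gt (f334839 IH) (Lpe (f334833 IH) (Lpn (LP (LK LD1_c10 LD2_c2 LD3_c41))))))
theorem f623140 : Led Lsl_af (LP (LK LD1_c10 LD2_c4 LD3_c57)) = (LP (LK LD1_c10 LD2_c2 LD3_c41)) :=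
  Lgr Lrot0 (Lpr_at (f623138 IH) (Lpn (LP (LK LD1_c10 LD2_c2 LD3_c41))))
theorem f686186 : Led Lsl_ff (LP (LK LD1_c10 LD2_c2 LD3_c41)) = v11856 :=
  Lgr Lrot52 (Lpe (f623140 IH) (Lpe (f334879 IH) (Lpr_gf (f686185 IH) (Lpn v11856))))
theorem f535818 : Led Lsl_et (LP (LK LD1_c5 LD2_c51 LD3_c55)) = (LP (LK LD1_c2 LD2_c52 LD3_c11)) :=
  Lre_e IH (LK LD1_c5 LD2_c51 LD3_c55) (LK LD1_c2 LD2_c52 LD3_c11) Lrfl Lrfl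
theorem f622569 : Led Lsl_ft (LP (LK LD1_c11 LD2_c30 LD3_c61)) = (LP (LK LD1_c5 LD2_c51 LD3_c55)) :=
  Lre_f IH (LK LD1_c11 LD2_c30 LD3_c61) (LK LD1_c5 LD2_c51 LD3_c55) Lrfl Lrfl
theorem f686188 : Led Lsl_et (LP (LK LD1_c10 LD2_c2 LD3_c41)) = (LP (LK LD1_c11 LD2_c30 LD3_c61)) :=
  Lgr Lrot69 (Lpr_ff (f686186 IH) (Lpe (f686180 IH) (Lpe (K35.f627870 IH) (Lpe (f535818 IH) (Lpe (f622569 IH) (Lpn (LP (LK LD1_c11 LD2_c30 LD3_c61))))))))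
theorem f686189 : Led Lsl_et (LP (LK LD1_c10 LD2_c2 LD3_c41)) = (LP (LK LD1_c11 LD2_c30 LD3_c61)) :=
  Leop (Lpe (f686188 IH) (Lpn (LP (LK LD1_c10 LD2_c2 LD3_c41))))
theorem seed_589 : LEOK LG_e (LK LD1_c10 LD2_c2 LD3_c41) :=
  Leoe_e (LK LD1_c10 LD2_c2 LD3_c41) (f686189 IH)
def v11920 : LQ := Led Lsl_gt K48.v3939
theorem f686450 : Led Lsl_gt K48.v3939 = v11920 :=
  Lrfl
theorem f91560 : Led Lsl_dt (LP (LK LD1_c6 LD2_c55 LD3_c43)) = (LP (LK LD1_c3 LD2_c26 LD3_c56)) :=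
  Lre_d IH (LK LD1_c6 LD2_c55 LD3_c43) (LK LD1_c3 LD2_c26 LD3_c56) Lrfl Lrfl
theorem f91564 : Led Lsl_dt (LP (LK LD1_c6 LD2_c55 LD3_c42)) = (LP (LK LD1_c13 LD2_c9 LD3_c31)) :=
  Lre_d IH (LK LD1_c6 LD2_c55 LD3_c42) (LK LD1_c13 LD2_c9 LD3_c31) Lrfl Lrfl
theorem f473234 : Led Lsl_ct (LP (LK LD1_c13 LD2_c9 LD3_c31)) = (LP (LK LD1_c22 LD2_c22 LD3_c7)) :=
  Lre_c IH (LK LD1_c13 LD2_c9 LD3_c31) (LK LD1_c22 LD2_c22 LD3_c7) Lrfl Lrfl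
theorem f473235 : Led Lsl_dt (LP (LK LD1_c22 LD2_c22 LD3_c7)) = (LP (LK LD1_c30 LD2_c27 LD3_c25)) :=
  Lre_d IH (LK LD1_c22 LD2_c22 LD3_c7) (LK LD1_c30 LD2_c27 LD3_c25) Lrfl Lrfl
theorem f482009 : Led Lsl_dt (LP (LK LD1_c7 LD2_c38 LD3_c61)) = (LP (LK LD1_c3 LD2_c48 LD3_c56)) :=
  Lre_d IH (LK LD1_c7 LD2_c38 LD3_c61) (LK LD1_c3 LD2_c48 LD3_c56) Lrfl Lrfl
theorem f482017 : Led Lsl_ct (LP (LK LD1_c14 LD2_c25 LD3_c12)) = (LP (LK LD1_c7 LD2_c38 LD3_c61)) :=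
  Lre_c IH (LK LD1_c14 LD2_c25 LD3_c12) (LK LD1_c7 LD2_c38 LD3_c61) Lrfl Lrfl
theorem f482018 : Led Lsl_dt (LP (LK LD1_c24 LD2_c4 LD3_c52)) = (LP (LK LD1_c14 LD2_c25 LD3_c12)) :=
  Lre_d IH (LK LD1_c24 LD2_c4 LD3_c52) (LK LD1_c14 LD2_c25 LD3_c12) Lrfl Lrfl
theorem f482197 : Led Lsl_ct (LP (LK LD1_c30 LD2_c27 LD3_c25)) = (LP (LK LD1_c24 LD2_c4 LD3_c52)) :=
  Lgr Lrot41 (Lpe (f473235 IH) (Lpe (f473234 IH) (Lpe (f91564 IH) (Lpr_ft (K33.f482187 IH) (Lpr_at (K33.f482170 IH) (Lpr_cf (K33.f482177 IH) (Lpe (f482009 IH) (Lpe (f482017 IH) (Lpe (f482018 IH) (Lpn (LP (LK LD1_c24 LD2_c4 LD3_c52))))))))))))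
theorem f482199 : Led Lsl_cf (LP (LK LD1_c30 LD2_c27 LD3_c25)) = (LP (LK LD1_c24 LD2_c4 LD3_c52)) :=
  Lgr Lrot11 (Lpr_ct (f482197 IH) (Lpn (LP (LK LD1_c24 LD2_c4 LD3_c52))))
theorem f473237 : Led Lsl_dt (LP (LK LD1_c30 LD2_c27 LD3_c25)) = (LP (LK LD1_c22 LD2_c22 LD3_c7)) :=
  Lre_d IH (LK LD1_c30 LD2_c27 LD3_c25) (LK LD1_c22 LD2_c22 LD3_c7) Lrfl Lrfl
theorem f473236 : Led Lsl_ct (LP (LK LD1_c22 LD2_c22 LD3_c7)) = (LP (LK LD1_c13 LD2_c9 LD3_c31)) :=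
  Lre_c IH (LK LD1_c22 LD2_c22 LD3_c7) (LK LD1_c13 LD2_c9 LD3_c31) Lrfl Lrfl
theorem f482179 : Led Lsl_dt (LP (LK LD1_c14 LD2_c25 LD3_c12)) = (LP (LK LD1_c24 LD2_c4 LD3_c52)) :=
  Lre_d IH (LK LD1_c14 LD2_c25 LD3_c12) (LK LD1_c24 LD2_c4 LD3_c52) Lrfl Lrfl
theorem f482020 : Led Lsl_ct (LP (LK LD1_c7 LD2_c38 LD3_c61)) = (LP (LK LD1_c14 LD2_c25 LD3_c12)) :=
  Lre_c IH (LK LD1_c7 LD2_c38 LD3_c61) (LK LD1_c14 LD2_c25 LD3_c12) Lrfl Lrfl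
theorem f467819 : Led Lsl_bt (LP (LK LD1_c14 LD2_c18 LD3_c2)) = (LP (LK LD1_c7 LD2_c35 LD3_c5)) :=
  Lre_b IH (LK LD1_c14 LD2_c18 LD3_c2) (LK LD1_c7 LD2_c35 LD3_c5) Lrfl Lrfl
theorem f482008 : Led Lsl_bt (LP (LK LD1_c3 LD2_c48 LD3_c57)) = (LP (LK LD1_c7 LD2_c38 LD3_c61)) :=
  Lre_b IH (LK LD1_c3 LD2_c48 LD3_c57) (LK LD1_c7 LD2_c38 LD3_c61) Lrfl Lrfl
theorem f482091 : Led Lsl_ff (LP (LK LD1_c14 LD2_c18 LD3_c2)) = (LP (LK LD1_c7 LD2_c38 LD3_c61)) :=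
  Lgr Lrot25 (Lpr_bt (f467819 IH) (Lpr_ft (K33.f482083 IH) (Lpr_bt (f482008 IH) (Lpn (LP (LK LD1_c7 LD2_c38 LD3_c61))))))
theorem f482226 : Led Lsl_af (LP (LK LD1_c13 LD2_c9 LD3_c31)) = (LP (LK LD1_c14 LD2_c18 LD3_c2)) :=
  Lgr Lrot109 (Lpe (f473236 IH) (Lpe (f473237 IH) (Lpr_cf (f482199 IH) (Lpe (f482179 IH) (Lpe (f482020 IH) (Lpe (K33.f482003 IH) (Lpr_cf (K33.f482177 IH) (Lpe (f482009 IH) (Lpe (f482091 IH) (Lpn (LP (LK LD1_c14 LD2_c18 LD3_c2))))))))))))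
theorem f482228 : Led Lsl_at (LP (LK LD1_c13 LD2_c9 LD3_c31)) = (LP (LK LD1_c14 LD2_c18 LD3_c2)) :=
  Lgr Lrot100 (Lpr_af (f482226 IH) (Lpn (LP (LK LD1_c14 LD2_c18 LD3_c2))))
theorem f479287 : Led Lsl_bt (LP (LK LD1_c6 LD2_c55 LD3_c43)) = (LP (LK LD1_c13 LD2_c9 LD3_c31)) :=
  Lre_b IH (LK LD1_c6 LD2_c55 LD3_c43) (LK LD1_c13 LD2_c9 LD3_c31) Lrfl Lrfl
theorem f456662 : Led Lsl_bf (LP (LK LD1_c3 LD2_c54 LD3_c45)) = (LP (LK LD1_c3 LD2_c37 LD3_c61)) :=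
  Lgr Lrot24 (Lpr_bt (K33.f456656 IH) (Lpn (LP (LK LD1_c3 LD2_c37 LD3_c61))))
theorem f457276 : Led Lsl_ft (LP (LK LD1_c3 LD2_c38 LD3_c0)) = (LP (LK LD1_c3 LD2_c37 LD3_c61)) :=
  Lgr Lrot54 (Lpe (K29.f456904 IH) (Lpr_ff (K29.f457266 IH) (Lpe (K33.f10150 IH) (Lpn (LP (LK LD1_c3 LD2_c37 LD3_c61))))))
theorem f467733 : Led Lsl_bf (LP (LK LD1_c3 LD2_c38 LD3_c0)) = (LP (LK LD1_c3 LD2_c48 LD3_c60)) :=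
  Lgr Lrot61 (Lpr_ft (f457276 IH) (Lpe (f456662 IH) (Lpr_ft (K29.f467730 IH) (Lpn (LP (LK LD1_c3 LD2_c48 LD3_c60))))))
theorem f482272 : Led Lsl_af (LP (LK LD1_c6 LD2_c55 LD3_c43)) = (LP (LK LD1_c3 LD2_c38 LD3_c0)) :=
  Lgr Lrot36 (Lpr_bt (f479287 IH) (Lpr_at (f482228 IH) (Lpr_bt (f467819 IH) (Lpr_at (K48.f467743 IH) (Lpe (f467733 IH) (Lpn (LP (LK LD1_c3 LD2_c38 LD3_c0))))))))
theorem f456671 : Led Lsl_gt (LP (LK LD1_c3 LD2_c37 LD3_c61)) = (LP (LK LD1_c7 LD2_c16 LD3_c25)) :=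
  Lre_g IH (LK LD1_c3 LD2_c37 LD3_c61) (LK LD1_c7 LD2_c16 LD3_c25) Lrfl Lrfl
theorem f482274 : Led Lsl_gf (LP (LK LD1_c6 LD2_c55 LD3_c43)) = (LP (LK LD1_c7 LD2_c16 LD3_c25)) :=
  Lgr Lrot76 (Lpr_af (f482272 IH) (Lpr_ff (K29.f457281 IH) (Lpr_gt (f456671 IH) (Lpn (LP (LK LD1_c7 LD2_c16 LD3_c25))))))
theorem f686451 : Led Lsl_df (LP (LK LD1_c7 LD2_c16 LD3_c25)) = v11920 :=
  Lgr Lrot153 (Lpe (f482274 IH) (Lpr_dt (f91560 IH) (Lpe (K33.f91583 IH) (Lpr_df (K46.f511423 IH) (Lpr_gf (K46.f625109 IH) (Lpr_df (K46.f628167 IH) (Lpe (K46.f628166 IH) (Lpr_cf (K48.f628024 IH) (Lpr_gt (f686450 IH) (Lpn v11920))))))))))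
theorem f479366 : Led Lsl_gt (LP (LK LD1_c6 LD2_c55 LD3_c44)) = (LP (LK LD1_c3 LD2_c52 LD3_c41)) :=
  Lgr Lrot150 (Lpe (K28.f91510 IH) (Lpr_gf (K29.f479362 IH) (Lpe (K24.f90875 IH) (Lpr_gt (K2.f15903 IH) (Lpr_ct (K0.f15884 IH) (Lpe (K29.f457980 IH) (Lpr_ct (K29.f457984 IH) (Lpe (K29.f62995 IH) (Lpe (K29.f457986 IH) (Lpn (LP (LK LD1_c3 LD2_c52 LD3_c41))))))))))))
theorem f686455 : Led Lsl_ef (LP (LK LD1_c7 LD2_c1 LD3_c54)) = v11920 :=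
  Lgr Lrot17 (Lpe (K28.f18964 IH) (Lpr_ef (K2.f18183 IH) (Lpr_dt (K2.f18210 IH) (Lpr_gf (K29.f473506 IH) (Lpe (K29.f459893 IH) (Lpe (f479366 IH) (Lpe (K29.f91559 IH) (Lpr_dt (K29.f91525 IH) (Lpr_gf (f482274 IH) (Lpr_df (f686451 IH) (Lpn v11920)))))))))))
theorem f512101 : Led Lsl_ft (LP (LK LD1_c7 LD2_c1 LD3_c54)) = (LP (LK LD1_c3 LD2_c30 LD3_c8)) :=
  Lgr Lrot75 (Lpe (K33.f18731 IH) (Lpr_ff (K33.f512099 IH) (Lpe (K28.f466209 IH) (Lpn (LP (LK LD1_c3 LD2_c30 LD3_c8))))))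
theorem f512262 : Led Lsl_ff (LP (LK LD1_c6 LD2_c57 LD3_c4)) = (LP (LK LD1_c7 LD2_c1 LD3_c60)) :=
  Lgr Lrot19 (Lpr_dt (K33.f15297 IH) (Lpr_ft (K33.f512256 IH) (Lpe (K29.f97589 IH) (Lpn (LP (LK LD1_c7 LD2_c1 LD3_c60))))))
theorem f485843 : Led Lsl_gt (LP (LK LD1_c13 LD2_c6 LD3_c14)) = (LP (LK LD1_c6 LD2_c53 LD3_c39)) :=
  Lre_g IH (LK LD1_c13 LD2_c6 LD3_c14) (LK LD1_c6 LD2_c53 LD3_c39) Lrfl Lrfl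
theorem f485880 : Led Lsl_et (LP (LK LD1_c6 LD2_c57 LD3_c4)) = (LP (LK LD1_c13 LD2_c6 LD3_c14)) :=
  Lgr Lrot121 (Lpr_dt (K33.f15297 IH) (Lpe (K28.f15460 IH) (Lpe (K2.f15679 IH) (Lpr_et (K0.f15623 IH) (Lpe (K2.f11953 IH) (Lpe (K46.f12011 IH) (Lpr_dt (K3.f12008 IH) (Lpe (K46.f11994 IH) (Lpr_df (K46.f485869 IH) (Lpe (f485843 IH) (Lpn (LP (LK LD1_c13 LD2_c6 LD3_c14)))))))))))))
theorem f686459 : Led Lsl_ft (LP (LK LD1_c13 LD2_c6 LD3_c14)) = v11920 :=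
  Lgr Lrot86 (Lpe (f485880 IH) (Lpr_ff (f512262 IH) (Lpe (K29.f97591 IH) (Lpe (f512101 IH) (Lpr_ef (f686455 IH) (Lpn v11920))))))
theorem f485883 : Led Lsl_ef (LP (LK LD1_c6 LD2_c57 LD3_c4)) = (LP (LK LD1_c13 LD2_c6 LD3_c14)) :=
  Lgr Lrot88 (Lpr_et (f485880 IH) (Lpn (LP (LK LD1_c13 LD2_c6 LD3_c14))))
theorem f479351 : Led Lsl_dt (LP (LK LD1_c13 LD2_c3 LD3_c61)) = (LP (LK LD1_c7 LD2_c47 LD3_c5)) :=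
  Lgr Lrot60 (Lpr_ff (K28.f473215 IH) (Lpe (K28.f469064 IH) (Lpr_ff (K29.f479341 IH) (Lpn (LP (LK LD1_c7 LD2_c47 LD3_c5))))))
theorem f457893 : Led Lsl_et (LP (LK LD1_c1 LD2_c52 LD3_c57)) = (LP (LK LD1_c3 LD2_c52 LD3_c38)) :=
  Lre_e IH (LK LD1_c1 LD2_c52 LD3_c57) (LK LD1_c3 LD2_c52 LD3_c38) Lrfl Lrfl
theorem f457310 : Led Lsl_gt (LP (LK LD1_c3 LD2_c38 LD3_c0)) = (LP (LK LD1_c7 LD2_c16 LD3_c29)) :=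
  Lre_g IH (LK LD1_c3 LD2_c38 LD3_c0) (LK LD1_c7 LD2_c16 LD3_c29) Lrfl Lrfl
theorem f485886 : Led Lsl_df (LP (LK LD1_c7 LD2_c16 LD3_c29)) = (LP (LK LD1_c13 LD2_c6 LD3_c14)) :=
  Lgr Lrot168 (Lpe (f457310 IH) (Lpe (K29.f456904 IH) (Lpr_et (K29.f457278 IH) (Lpr_gf (K29.f472945 IH) (Lpe (f457893 IH) (Lpr_dt (K33.f457894 IH) (Lpe (K29.f458069 IH) (Lpe (f479351 IH) (Lpe (K48.f473261 IH) (Lpr_ef (f485883 IH) (Lpn (LP (LK LD1_c13 LD2_c6 LD3_c14)))))))))))))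
theorem f485889 : Led Lsl_dt (LP (LK LD1_c7 LD2_c16 LD3_c29)) = (LP (LK LD1_c13 LD2_c6 LD3_c14)) :=
  Lgr Lrot42 (Lpr_df (f485886 IH) (Lpn (LP (LK LD1_c13 LD2_c6 LD3_c14))))
theorem f686460 : Led Lsl_ff (LP (LK LD1_c7 LD2_c16 LD3_c29)) = (LP (LK LD1_c7 LD2_c16 LD3_c25)) :=
  Lgr Lrot19 (Lpr_dt (f485889 IH) (Lpr_ft (f686459 IH) (Lpe (f686451 IH) (Lpn (LP (LK LD1_c7 LD2_c16 LD3_c25))))))
theorem f686461 : Led Lsl_ft (LP (LK LD1_c7 LD2_c16 LD3_c25)) = (LP (LK LD1_c7 LD2_c16 LD3_c29)) :=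
  Leop (Lpr_ff (f686460 IH) (Lpn (LP (LK LD1_c7 LD2_c16 LD3_c25))))
theorem seed_590 : LEOK LG_f (LK LD1_c7 LD2_c16 LD3_c25) :=
  Leoe_f (LK LD1_c7 LD2_c16 LD3_c25) (f686461 IH)
def v11922 : LQ := Led Lsl_gt K35.v3940
theorem f686509 : Led Lsl_gt K35.v3940 = v11922 :=
  Lrfl
theorem f525820 : Led Lsl_bf (LP (LK LD1_c7 LD2_c47 LD3_c56)) = (LP (LK LD1_c7 LD2_c30 LD3_c55)) :=
  Lgr Lrot81 (Lpr_at (K29.f129809 IH) (Lpr_bt (K29.f129795 IH) (Lpe (K29.f474409 IH) (Lpr_bt (K32.f62971 IH) (Lpr_at (K48.f525816 IH) (Lpn (LP (LK LD1_c7 LD2_c30 LD3_c55))))))))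
theorem f686514 : Led Lsl_ct (LP (LK LD1_c7 LD2_c30 LD3_c55)) = v11922 :=
  Lgr Lrot63 (Lpe (f525820 IH) (Lpe (K29.f476412 IH) (Lpr_bf (K29.f476423 IH) (Lpr_ct (K30.f148253 IH) (Lpr_gt (K30.f491719 IH) (Lpe (K30.f484681 IH) (Lpr_bt (K30.f484705 IH) (Lpe (K29.f491715 IH) (Lpr_ct (K35.f628029 IH) (Lpr_gt (f686509 IH) (Lpn v11922)))))))))))
theorem f686518 : Led Lsl_dt (LP (LK LD1_c7 LD2_c18 LD3_c38)) = v11922 :=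
  Lgr Lrot113 (Lpe (K35.f467614 IH) (Lpe (K34.f455907 IH) (Lpe (K28.f5329 IH) (Lpr_ct (K30.f467645 IH) (Lpe (K29.f483578 IH) (Lpr_dt (K29.f478485 IH) (Lpr_gt (K48.f661944 IH) (Lpe (K48.f661947 IH) (Lpr_ct (f686514 IH) (Lpn v11922))))))))))
theorem f628018 : Led Lsl_et (LP (LK LD1_c13 LD2_c49 LD3_c56)) = (LP (LK LD1_c7 LD2_c18 LD3_c38)) :=
  Lre_e IH (LK LD1_c13 LD2_c49 LD3_c56) (LK LD1_c7 LD2_c18 LD3_c38) Lrfl Lrfl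
theorem f473778 : Led Lsl_ct (LP (LK LD1_c6 LD2_c56 LD3_c56)) = (LP (LK LD1_c3 LD2_c52 LD3_c34)) :=
  Lgr Lrot59 (Lpr_cf (K29.f473761 IH) (Lpn (LP (LK LD1_c3 LD2_c52 LD3_c34))))
theorem f686516 : Led Lsl_ef (LP (LK LD1_c6 LD2_c56 LD3_c56)) = v11922 :=
  Lgr Lrot28 (Lpr_ct (f473778 IH) (Lpr_et (K48.f525826 IH) (Lpr_ct (f686514 IH) (Lpn v11922))))
theorem f473757 : Led Lsl_et (LP (LK LD1_c6 LD2_c52 LD3_c2)) = (LP (LK LD1_c13 LD2_c3 LD3_c40)) :=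
  Lre_e IH (LK LD1_c6 LD2_c52 LD3_c2) (LK LD1_c13 LD2_c3 LD3_c40) Lrfl Lrfl
theorem f686519 : Led Lsl_df (LP (LK LD1_c13 LD2_c49 LD3_c56)) = (LP (LK LD1_c13 LD2_c3 LD3_c40)) :=
  Lgr Lrot70 (Lpr_et (f628018 IH) (Lpr_dt (f686518 IH) (Lpe (f686516 IH) (Lpr_dt (K29.f473748 IH) (Lpr_et (f473757 IH) (Lpn (LP (LK LD1_c13 LD2_c3 LD3_c40))))))))
theorem f686520 : Led Lsl_dt (LP (LK LD1_c13 LD2_c3 LD3_c40)) = (LP (LK LD1_c13 LD2_c49 LD3_c56)) :=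
  Leop (Lpr_df (f686519 IH) (Lpn (LP (LK LD1_c13 LD2_c3 LD3_c40))))
theorem seed_591 : LEOK LG_d (LK LD1_c13 LD2_c3 LD3_c40) :=
  Leoe_d (LK LD1_c13 LD2_c3 LD3_c40) (f686520 IH)
theorem f686425 : Led Lsl_et (LP (LK LD1_c7 LD2_c18 LD3_c38)) = (LP (LK LD1_c13 LD2_c49 LD3_c56)) :=
  Lre_e IH (LK LD1_c7 LD2_c18 LD3_c38) (LK LD1_c13 LD2_c49 LD3_c56) Lrfl Lrfl
theorem f686521 : Led Lsl_gt (LP (LK LD1_c13 LD2_c49 LD3_c56)) = (LP (LK LD1_c23 LD2_c19 LD3_c1)) :=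
  Lre_g IH (LK LD1_c13 LD2_c49 LD3_c56) (LK LD1_c23 LD2_c19 LD3_c1) Lrfl Lrfl
def v7318 : LQ := Led Lsl_gt (LP (LK LD1_c3 LD2_c44 LD3_c60))
theorem f664509 : Led Lsl_gt (LP (LK LD1_c3 LD2_c44 LD3_c60)) = v7318 :=
  Lrfl
theorem f65869 : Led Lsl_dt (LP (LK LD1_c1 LD2_c49 LD3_c35)) = (LP (LK LD1_c3 LD2_c44 LD3_c60)) :=
  Lre_d IH (LK LD1_c1 LD2_c49 LD3_c35) (LK LD1_c3 LD2_c44 LD3_c60) Lrfl Lrfl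
theorem f664510 : Led Lsl_df K35.v3940 = v7318 :=
  Lgr Lrot84 (Lpe (K35.f628029 IH) (Lpe (K29.f491646 IH) (Lpr_gf (K29.f483486 IH) (Lpe (K29.f102702 IH) (Lpe (K33.f478892 IH) (Lpe (K34.f457010 IH) (Lpr_gt (K34.f478896 IH) (Lpr_dt (f65869 IH) (Lpr_gt (f664509 IH) (Lpn v7318))))))))))
theorem f65875 : Led Lsl_gt (LP (LK LD1_c7 LD2_c30 LD3_c51)) = (LP (LK LD1_c3 LD2_c44 LD3_c59)) :=
  Lre_g IH (LK LD1_c7 LD2_c30 LD3_c51) (LK LD1_c3 LD2_c44 LD3_c59) Lrfl Lrfl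
theorem f95530 : Led Lsl_dt (LP (LK LD1_c14 LD2_c11 LD3_c7)) = (LP (LK LD1_c7 LD2_c30 LD3_c51)) :=
  Lre_d IH (LK LD1_c14 LD2_c11 LD3_c7) (LK LD1_c7 LD2_c30 LD3_c51) Lrfl Lrfl
theorem f686522 : Led Lsl_ef (LP (LK LD1_c23 LD2_c19 LD3_c1)) = (LP (LK LD1_c14 LD2_c11 LD3_c7)) :=
  Lgr Lrot17 (Lpe (f686521 IH) (Lpe (f686425 IH) (Lpr_dt (f686518 IH) (Lpe (f686509 IH) (Lpr_df (f664510 IH) (Lpe (f664509 IH) (Lpe (K3.f91791 IH) (Lpr_dt (K3.f91779 IH) (Lpe (f65875 IH) (Lpe (f95530 IH) (Lpn (LP (LK LD1_c14 LD2_c11 LD3_c7)))))))))))))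
theorem f686523 : Led Lsl_et (LP (LK LD1_c14 LD2_c11 LD3_c7)) = (LP (LK LD1_c23 LD2_c19 LD3_c1)) :=
  Leop (Lpr_ef (f686522 IH) (Lpn (LP (LK LD1_c14 LD2_c11 LD3_c7))))
theorem seed_592 : LEOK LG_e (LK LD1_c14 LD2_c11 LD3_c7) :=
  Leoe_e (LK LD1_c14 LD2_c11 LD3_c7) (f686523 IH)
def v11924 : LQ := Led Lsl_bt K46.v3942
theorem f686554 : Led Lsl_bt K46.v3942 = v11924 :=
  Lrfl
theorem f658792 : Led Lsl_bf (LP (LK LD1_c3 LD2_c31 LD3_c19)) = K48.v6829 :=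
  Lgr Lrot96 (Lpr_et (K35.f18072 IH) (Lpr_bt (K28.f466199 IH) (Lpr_et (K48.f658790 IH) (Lpn K48.v6829))))
theorem f686558 : Led Lsl_ff K48.v6829 = v11924 :=
  Lgr Lrot25 (Lpe (f658792 IH) (Lpr_ft (K46.f654682 IH) (Lpr_bt (f686554 IH) (Lpn v11924))))
theorem f655018 : Led Lsl_ft (LP (LK LD1_c3 LD2_c31 LD3_c17)) = (LP (LK LD1_c3 LD2_c32 LD3_c3)) :=
  Lgr Lrot4 (Lpr_cf (K34.f466204 IH) (Lpr_ff (K46.f655016 IH) (Lpr_cf (K28.f464572 IH) (Lpn (LP (LK LD1_c3 LD2_c32 LD3_c3))))))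
theorem f464583 : Led Lsl_ef (LP (LK LD1_c6 LD2_c52 LD3_c14)) = (LP (LK LD1_c3 LD2_c32 LD3_c3)) :=
  Lgr Lrot88 (Lpr_et (K28.f464576 IH) (Lpn (LP (LK LD1_c3 LD2_c32 LD3_c3))))
theorem f532622 : Led Lsl_ef (LP (LK LD1_c3 LD2_c39 LD3_c11)) = (LP (LK LD1_c3 LD2_c24 LD3_c30)) :=
  Lgr Lrot28 (Lpr_ct (K34.f519439 IH) (Lpr_et (K34.f532616 IH) (Lpr_ct (K28.f19138 IH) (Lpn (LP (LK LD1_c3 LD2_c24 LD3_c30))))))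
theorem f654535 : Led Lsl_gt (LP (LK LD1_c3 LD2_c26 LD3_c11)) = K46.v6635 :=
  Lgr Lrot139 (Lpe (K28.f458007 IH) (Lpe (K29.f455085 IH) (Lpe (K33.f90878 IH) (Lpr_dt (K33.f511391 IH) (Lpe (K35.f511464 IH) (Lpe (K35.f455909 IH) (Lpr_et (K46.f455910 IH) (Lpe (K34.f455687 IH) (Lpr_ef (f532622 IH) (Lpr_dt (K46.f654531 IH) (Lpn K46.v6635)))))))))))
theorem f654536 : Led Lsl_bt (LP (LK LD1_c7 LD2_c11 LD3_c54)) = K46.v6635 :=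
  Lgr Lrot92 (Lpe (K33.f473496 IH) (Lpr_gt (K33.f480247 IH) (Lpe (K29.f455749 IH) (Lpr_bt (K29.f477193 IH) (Lpr_gt (K34.f477206 IH) (Lpe (K29.f473442 IH) (Lpr_gt (K29.f479377 IH) (Lpe (K28.f463927 IH) (Lpr_bt (K29.f472845 IH) (Lpr_gt (f654535 IH) (Lpn K46.v6635)))))))))))
theorem f654662 : Led Lsl_ft (LP (LK LD1_c6 LD2_c52 LD3_c14)) = (LP (LK LD1_c7 LD2_c11 LD3_c54)) :=
  Lgr Lrot75 (Lpe (K28.f92006 IH) (Lpr_ff (K46.f654661 IH) (Lpe (f654536 IH) (Lpn (LP (LK LD1_c7 LD2_c11 LD3_c54))))))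
theorem f686561 : Led Lsl_et (LP (LK LD1_c7 LD2_c11 LD3_c54)) = v11924 :=
  Lgr Lrot69 (Lpe (f654662 IH) (Lpr_ef (f464583 IH) (Lpe (f655018 IH) (Lpr_ef (K48.f658794 IH) (Lpr_ff (f686558 IH) (Lpn v11924))))))
theorem f459367 : Led Lsl_bf K24.v195 = K28.v785 :=
  Lgr Lrot93 (Lpe (K24.f451014 IH) (Lpr_bt (K28.f451003 IH) (Lpr_dt (K28.f459366 IH) (Lpn K28.v785))))
theorem f467682 : Led Lsl_at (LP (LK LD1_c1 LD2_c51 LD3_c29)) = K28.v785 :=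
  Lgr Lrot100 (Lpr_af (K28.f467681 IH) (Lpn K28.v785))
theorem f467683 : Led Lsl_bt (LP (LK LD1_c1 LD2_c51 LD3_c29)) = (LP (LK LD1_c1 LD2_c51 LD3_c29)) :=
  Lgr Lrot62 (Lpr_af (K28.f467681 IH) (Lpe (K28.f459370 IH) (Lpr_af (K29.f457251 IH) (Lpr_bf (f459367 IH) (Lpe (f467682 IH) (Lpn (LP (LK LD1_c1 LD2_c51 LD3_c29))))))))
theorem f518567 : Led Lsl_gf (LP (LK LD1_c7 LD2_c9 LD3_c13)) = (LP (LK LD1_c6 LD2_c57 LD3_c45)) :=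
  Lgr Lrot124 (Lpe (K32.f482452 IH) (Lpr_ct (K32.f481978 IH) (Lpe (K32.f474756 IH) (Lpe (K48.f62730 IH) (Lpr_bt (f467683 IH) (Lpr_gt (K29.f474414 IH) (Lpr_ct (K32.f466933 IH) (Lpr_gt (K33.f88085 IH) (Lpr_cf (K48.f482952 IH) (Lpr_bt (K48.f518559 IH) (Lpn (LP (LK LD1_c6 LD2_c57 LD3_c45)))))))))))))
theorem f518553 : Led Lsl_dt (LP (LK LD1_c3 LD2_c38 LD3_c49)) = (LP (LK LD1_c6 LD2_c57 LD3_c45)) :=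
  Lgr Lrot173 (Lpr_cf (K47.f517673 IH) (Lpe (K47.f4650 IH) (Lpe (K47.f463006 IH) (Lpe (K34.f517598 IH) (Lpe (K34.f4811 IH) (Lpe (K33.f482476 IH) (Lpr_cf (K33.f482461 IH) (Lpe (K33.f92488 IH) (Lpe (K33.f456462 IH) (Lpe (K29.f4810 IH) (Lpe (K33.f456467 IH) (Lpr_df (K33.f490448 IH) (Lpe (K33.f13402 IH) (Lpr_df (K33.f483755 IH) (Lpr_cf (K48.f518549 IH) (Lpn (LP (LK LD1_c6 LD2_c57 LD3_c45))))))))))))))))))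
theorem f478595 : Led Lsl_et (LP (LK LD1_c3 LD2_c38 LD3_c49)) = (LP (LK LD1_c7 LD2_c18 LD3_c3)) :=
  Lre_e IH (LK LD1_c3 LD2_c38 LD3_c49) (LK LD1_c7 LD2_c18 LD3_c3) Lrfl Lrfl
theorem f686564 : Led Lsl_gf (LP (LK LD1_c7 LD2_c18 LD3_c3)) = v11924 :=
  Lgr Lrot141 (Lpe (f478595 IH) (Lpr_dt (f518553 IH) (Lpe (f518567 IH) (Lpe (K34.f493316 IH) (Lpr_et (K34.f464776 IH) (Lpr_gt (K34.f491753 IH) (Lpe (K5.f106206 IH) (Lpr_gt (K33.f106211 IH) (Lpe (K33.f106217 IH) (Lpr_et (f686561 IH) (Lpn v11924)))))))))))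
theorem f655014 : Led Lsl_af (LP (LK LD1_c3 LD2_c31 LD3_c17)) = (LP (LK LD1_c3 LD2_c32 LD3_c4)) :=
  Lgr Lrot68 (Lpr_ct (K28.f466197 IH) (Lpr_at (K46.f654996 IH) (Lpr_ct (K35.f463567 IH) (Lpn (LP (LK LD1_c3 LD2_c32 LD3_c4))))))
theorem f658791 : Led Lsl_af (LP (LK LD1_c7 LD2_c5 LD3_c28)) = K48.v6829 :=
  Lgr Lrot50 (Lpr_et (K48.f90120 IH) (Lpe (f655014 IH) (Lpr_et (K48.f658790 IH) (Lpn K48.v6829))))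
theorem f686566 : Led Lsl_gt (LP (LK LD1_c7 LD2_c18 LD3_c3)) = (LP (LK LD1_c7 LD2_c5 LD3_c28)) :=
  Lgr Lrot46 (Lpr_gf (f686564 IH) (Lpe (f686558 IH) (Lpe (f658791 IH) (Lpn (LP (LK LD1_c7 LD2_c5 LD3_c28))))))
theorem f686567 : Led Lsl_gt (LP (LK LD1_c7 LD2_c18 LD3_c3)) = (LP (LK LD1_c7 LD2_c5 LD3_c28)) :=
  Leop (Lpe (f686566 IH) (Lpn (LP (LK LD1_c7 LD2_c18 LD3_c3))))
theorem seed_593 : LEOK LG_g (LK LD1_c7 LD2_c18 LD3_c3) :=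
  Leoe_g (LK LD1_c7 LD2_c18 LD3_c3) (f686567 IH)
theorem f517745 : Led Lsl_cf (LP (LK LD1_c7 LD2_c18 LD3_c3)) = (LP (LK LD1_c3 LD2_c41 LD3_c37)) :=
  Lgr Lrot14 (Lpr_df (K47.f517739 IH) (Lpe (K47.f480270 IH) (Lpe (K29.f132188 IH) (Lpr_gf (K33.f480727 IH) (Lpr_ct (K29.f6647 IH) (Lpr_gt (K29.f456230 IH) (Lpr_dt (K6.f122808 IH) (Lpr_gt (K47.f437016 IH) (Lpr_dt (K47.f437022 IH) (Lpn (LP (LK LD1_c3 LD2_c41 LD3_c37))))))))))))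
theorem f658841 : Led Lsl_gf (LP (LK LD1_c3 LD2_c41 LD3_c37)) = v6834 :=
  Lgr Lrot141 (Lpe (K47.f462961 IH) (Lpr_dt (K29.f13409 IH) (Lpr_gt (K29.f437015 IH) (Lpe (K29.f462945 IH) (Lpr_et (K29.f451845 IH) (Lpr_gt (K28.f462868 IH) (Lpr_dt (K8.f134742 IH) (Lpe (K28.f470049 IH) (Lpe (K24.f455637 IH) (Lpr_et (f658838 IH) (Lpn v6834)))))))))))
theorem f123419 : Led Lsl_ct (LP (LK LD1_c3 LD2_c55 LD3_c14)) = (LP (LK LD1_c7 LD2_c52 LD3_c16)) :=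
  Lre_c IH (LK LD1_c3 LD2_c55 LD3_c14) (LK LD1_c7 LD2_c52 LD3_c16) Lrfl Lrfl
theorem f661775 : Led Lsl_gt (LP (LK LD1_c7 LD2_c52 LD3_c16)) = (LP (LK LD1_c14 LD2_c50 LD3_c52)) :=
  Lre_g IH (LK LD1_c7 LD2_c52 LD3_c16) (LK LD1_c14 LD2_c50 LD3_c52) Lrfl Lrfl
theorem f489896 : Led Lsl_cf (LP (LK LD1_c7 LD2_c27 LD3_c60)) = (LP (LK LD1_c7 LD2_c5 LD3_c28)) :=
  Lgr Lrot11 (Lpr_ct (K48.f463570 IH) (Lpn (LP (LK LD1_c7 LD2_c5 LD3_c28))))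
theorem f686569 : Led Lsl_ct (LP (LK LD1_c14 LD2_c50 LD3_c52)) = (LP (LK LD1_c14 LD2_c5 LD3_c45)) :=
  Lgr Lrot110 (Lpe (f661775 IH) (Lpe (f123419 IH) (Lpr_gf (f667774 IH) (Lpe (f667777 IH) (Lpe (f658841 IH) (Lpe (f517745 IH) (Lpr_gt (f686566 IH) (Lpe (f489896 IH) (Lpe (K46.f480135 IH) (Lpn (LP (LK LD1_c14 LD2_c5 LD3_c45))))))))))))
theorem f686570 : Led Lsl_ct (LP (LK LD1_c14 LD2_c50 LD3_c52)) = (LP (LK LD1_c14 LD2_c5 LD3_c45)) :=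
  Leop (Lpe (f686569 IH) (Lpn (LP (LK LD1_c14 LD2_c50 LD3_c52))))
theorem seed_594 : LEOK LG_c (LK LD1_c14 LD2_c50 LD3_c52) :=
  Leoe_c (LK LD1_c14 LD2_c50 LD3_c52) (f686570 IH)
theorem f478599 : Led Lsl_at (LP (LK LD1_c3 LD2_c38 LD3_c52)) = (LP (LK LD1_c7 LD2_c18 LD3_c3)) :=
  Lre_a IH (LK LD1_c3 LD2_c38 LD3_c52) (LK LD1_c7 LD2_c18 LD3_c3) Lrfl Lrfl
theorem f97117 : Led Lsl_bt (LP (LK LD1_c3 LD2_c37 LD3_c32)) = (LP (LK LD1_c7 LD2_c15 LD3_c29)) :=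
  Lre_b IH (LK LD1_c3 LD2_c37 LD3_c32) (LK LD1_c7 LD2_c15 LD3_c29) Lrfl Lrfl
theorem f517222 : Led Lsl_ft (LP (LK LD1_c7 LD2_c15 LD3_c29)) = (LP (LK LD1_c3 LD2_c38 LD3_c52)) :=
  Lgr Lrot75 (Lpe (f97117 IH) (Lpr_ff (K47.f517220 IH) (Lpe (K47.f97296 IH) (Lpn (LP (LK LD1_c3 LD2_c38 LD3_c52))))))
theorem f686565 : Led Lsl_gt (LP (LK LD1_c7 LD2_c15 LD3_c29)) = v11924 :=
  Lgr Lrot5 (Lpr_ft (f517222 IH) (Lpr_at (f478599 IH) (Lpr_gf (f686564 IH) (Lpn v11924))))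
theorem f686559 : Led Lsl_at K48.v7096 = v11924 :=
  Lgr Lrot66 (Lpe (K48.f660957 IH) (Lpr_af (f658791 IH) (Lpr_ff (f686558 IH) (Lpn v11924))))
theorem f686675 : Led Lsl_gf (LP (LK LD1_c7 LD2_c15 LD3_c29)) = (LP (LK LD1_c7 LD2_c5 LD3_c28)) :=
  Lgr Lrot47 (Lpr_gt (f686565 IH) (Lpe (f686559 IH) (Lpe (K48.f660957 IH) (Lpn (LP (LK LD1_c7 LD2_c5 LD3_c28))))))
theorem f686676 : Led Lsl_gt (LP (LK LD1_c7 LD2_c5 LD3_c28)) = (LP (LK LD1_c7 LD2_c15 LD3_c29)) :=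
  Leop (Lpr_gf (f686675 IH) (Lpn (LP (LK LD1_c7 LD2_c5 LD3_c28))))
theorem seed_595 : LEOK LG_g (LK LD1_c7 LD2_c5 LD3_c28) :=
  Leoe_g (LK LD1_c7 LD2_c5 LD3_c28) (f686676 IH)
def v11939 : LQ := Led Lsl_gt K48.v3950
theorem f686793 : Led Lsl_gt K48.v3950 = v11939 :=
  Lrfl
def v1140 : LQ := Led Lsl_et K29.v278
theorem f493338 : Led Lsl_et K29.v278 = v1140 :=
  Lrfl
theorem f493340 : Led Lsl_ef K29.v278 = v1140 :=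
  Lgr Lrot88 (Lpr_et (f493338 IH) (Lpn v1140))
theorem f628709 : Led Lsl_cf v1140 = K48.v3950 :=
  Lgr Lrot39 (Lpe (f493340 IH) (Lpr_ct (K47.f493326 IH) (Lpr_et (K48.f628707 IH) (Lpn K48.v3950))))
def v3955 : LQ := Led Lsl_gt v1140
theorem f628740 : Led Lsl_gt v1140 = v3955 :=
  Lrfl
def v6719 : LQ := Led Lsl_et (LP (LK LD1_c3 LD2_c27 LD3_c39))
theorem f658012 : Led Lsl_et (LP (LK LD1_c3 LD2_c27 LD3_c39)) = v6719 :=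
  Lrfl
theorem f479236 : Led Lsl_ft (LP (LK LD1_c3 LD2_c26 LD3_c57)) = (LP (LK LD1_c3 LD2_c27 LD3_c39)) :=
  Lgr Lrot4 (Lpe (K28.f91503 IH) (Lpr_ff (K29.f479232 IH) (Lpe (K29.f457881 IH) (Lpn (LP (LK LD1_c3 LD2_c27 LD3_c39))))))
def v2463 : LQ := Led Lsl_et (LP (LK LD1_c1 LD2_c45 LD3_c51))
theorem f522443 : Led Lsl_et (LP (LK LD1_c1 LD2_c45 LD3_c51)) = v2463 :=
  Lrfl
theorem f522445 : Led Lsl_ef (LP (LK LD1_c1 LD2_c45 LD3_c51)) = v2463 :=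
  Lgr Lrot88 (Lpr_et (f522443 IH) (Lpn v2463))
theorem f658016 : Led Lsl_ff v2463 = v6719 :=
  Lgr Lrot72 (Lpe (f522445 IH) (Lpe (K29.f457265 IH) (Lpq (K29.f476750 IH) (Lpr_et (K29.f91506 IH) (Lpr_ft (f479236 IH) (Lpr_et (f658012 IH) (Lpn v6719)))))))
def v711 : LQ := Led Lsl_et (LP (LK LD1_c0 LD2_c49 LD3_c34))
theorem f456890 : Led Lsl_et (LP (LK LD1_c0 LD2_c49 LD3_c34)) = v711 :=
  Lrfl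
theorem f456892 : Led Lsl_ef (LP (LK LD1_c0 LD2_c49 LD3_c34)) = v711 :=
  Lgr Lrot88 (Lpr_et (f456890 IH) (Lpn v711))
theorem f522444 : Led Lsl_af v711 = v2463 :=
  Lgr Lrot50 (Lpe (f456892 IH) (Lpr_at (K29.f450891 IH) (Lpr_et (f522443 IH) (Lpn v2463))))
def v3320 : LQ := Led Lsl_gf v711
theorem f625119 : Led Lsl_gf v711 = v3320 :=
  Lrfl
theorem f658022 : Led Lsl_gf v3320 = v6719 :=
  Lgr Lrot47 (Lpe (f625119 IH) (Lpr_af (f522444 IH) (Lpr_ff (f658016 IH) (Lpn v6719))))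
def v3521 : LQ := Led Lsl_et K34.v906
theorem f626083 : Led Lsl_et K34.v906 = v3521 :=
  Lrfl
theorem f626084 : Led Lsl_ef K34.v906 = v3521 :=
  Lgr Lrot88 (Lpr_et (f626083 IH) (Lpn v3521))
theorem f654538 : Led Lsl_dt K46.v3942 = v3521 :=
  Lgr Lrot77 (Lpr_ef (K46.f654537 IH) (Lpe (K46.f654531 IH) (Lpe (K34.f532630 IH) (Lpr_df (K34.f532602 IH) (Lpr_ef (f626084 IH) (Lpn v3521))))))
def v983 : LQ := Led Lsl_bt K29.v156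
def v3652 : LQ := Led Lsl_dt v983
theorem f626601 : Led Lsl_dt v983 = v3652 :=
  Lrfl
theorem f490858 : Led Lsl_bt K29.v156 = v983 :=
  Lrfl
theorem f490860 : Led Lsl_ef K29.v716 = v983 :=
  Lgr Lrot29 (Lpe (K29.f456910 IH) (Lpe (K29.f450914 IH) (Lpr_bt (f490858 IH) (Lpn v983))))
theorem f490861 : Led Lsl_et K29.v716 = v983 :=
  Lgr Lrot87 (Lpr_ef (f490860 IH) (Lpn v983))
theorem f626604 : Led Lsl_ef (LP (LK LD1_c3 LD2_c38 LD3_c2)) = v3652 :=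
  Lgr Lrot73 (Lpr_dt (K28.f456912 IH) (Lpr_et (K29.f455989 IH) (Lpr_dt (K29.f456909 IH) (Lpr_et (f490861 IH) (Lpr_dt (f626601 IH) (Lpn v3652))))))
theorem f626603 : Led Lsl_df v983 = v3652 :=
  Lgr Lrot38 (Lpr_dt (f626601 IH) (Lpn v3652))
def v2390 : LQ := Led Lsl_dt (LP (LK LD1_c1 LD2_c44 LD3_c14))
theorem f519448 : Led Lsl_dt (LP (LK LD1_c1 LD2_c44 LD3_c14)) = v2390 :=
  Lrfl
theorem f519451 : Led Lsl_ff K29.v899 = v2390 :=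
  Lgr Lrot19 (Lpe (K29.f490327 IH) (Lpr_ft (K33.f484310 IH) (Lpr_dt (f519448 IH) (Lpn v2390))))
theorem f519454 : Led Lsl_ft K29.v899 = v2390 :=
  Lgr Lrot48 (Lpr_ff (f519451 IH) (Lpn v2390))
theorem f10930 : Led Lsl_dt (LP (LK LD1_c1 LD2_c44 LD3_c24)) = (LP (LK LD1_c0 LD2_c48 LD3_c48)) :=
  Lre_d IH (LK LD1_c1 LD2_c44 LD3_c24) (LK LD1_c0 LD2_c48 LD3_c48) Lrfl Lrfl
theorem f455133 : Led Lsl_gf (LP (LK LD1_c1 LD2_c44 LD3_c24)) = K29.v601 :=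
  Lgr Lrot143 (Lpr_dt (f10930 IH) (Lpe (f155020 IH) (Lpe (f434781 IH) (Lpr_gf (f446980 IH) (Lpe (K7.f7330 IH) (Lpe (K2.f7329 IH) (Lpe (K2.f11932 IH) (Lpr_gt (K4.f17277 IH) (Lpr_dt (K29.f455129 IH) (Lpn K29.v601))))))))))
theorem f446956 : Led Lsl_gt (LP (LK LD1_c0 LD2_c48 LD3_c48)) = (LP (LK LD1_c0 LD2_c47 LD3_c51)) :=
  Lgr Lrot5 (Lpr_ft (f446952 IH) (Lpr_at (f154370 IH) (Lpr_gf (K11.f154368 IH) (Lpn (LP (LK LD1_c0 LD2_c47 LD3_c51))))))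
theorem f490330 : Led Lsl_et (LP (LK LD1_c1 LD2_c42 LD3_c34)) = K29.v899 :=
  Lgr Lrot87 (Lpr_ef (K29.f490328 IH) (Lpn K29.v899))
theorem f490862 : Led Lsl_gt K29.v899 = v983 :=
  Lgr Lrot131 (Lpe (f490330 IH) (Lpr_dt (K29.f64374 IH) (Lpe (f446956 IH) (Lpe (f10930 IH) (Lpr_gf (f455133 IH) (Lpr_ef (K29.f490320 IH) (Lpe (K47.f490319 IH) (Lpqs (K33.f480732 IH) (Lpe (K33.f456901 IH) (Lpr_df (K29.f456911 IH) (Lpr_et (f490861 IH) (Lpn v983))))))))))))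
theorem f484304 : Led Lsl_at (LP (LK LD1_c1 LD2_c39 LD3_c60)) = (LP (LK LD1_c1 LD2_c44 LD3_c14)) :=
  Lgr Lrot67 (Lpe (K4.f15126 IH) (Lpe (K33.f132066 IH) (Lpe (K7.f84945 IH) (Lpr_af (K33.f482599 IH) (Lpr_bf (K33.f484299 IH) (Lpn (LP (LK LD1_c1 LD2_c44 LD3_c14))))))))
def v2276 : LQ := Led Lsl_dt (LP (LK LD1_c1 LD2_c39 LD3_c60))
theorem f511417 : Led Lsl_dt (LP (LK LD1_c1 LD2_c39 LD3_c60)) = v2276 :=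
  Lrfl
theorem f511418 : Led Lsl_df (LP (LK LD1_c1 LD2_c39 LD3_c60)) = v2276 :=
  Lgr Lrot38 (Lpr_dt (f511417 IH) (Lpn v2276))
theorem f519449 : Led Lsl_af v2276 = v2390 :=
  Lgr Lrot117 (Lpe (f511418 IH) (Lpr_at (f484304 IH) (Lpr_dt (f519448 IH) (Lpn v2390))))
theorem f519455 : Led Lsl_gt v983 = v2276 :=
  Lgr Lrot46 (Lpe (f490862 IH) (Lpr_ft (f519454 IH) (Lpe (f519449 IH) (Lpn v2276))))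
theorem f126004 : Led Lsl_ft (LP (LK LD1_c0 LD2_c46 LD3_c31)) = (LP (LK LD1_c1 LD2_c39 LD3_c60)) :=
  Lre_f IH (LK LD1_c0 LD2_c46 LD3_c31) (LK LD1_c1 LD2_c39 LD3_c60) Lrfl Lrfl
theorem f476785 : Led Lsl_et (LP (LK LD1_c1 LD2_c39 LD3_c60)) = (LP (LK LD1_c1 LD2_c45 LD3_c50)) :=
  Lgr Lrot69 (Lpe (f126004 IH) (Lpe (K5.f90860 IH) (Lpe (K5.f132275 IH) (Lpe (K29.f12322 IH) (Lpr_ff (K29.f476779 IH) (Lpn (LP (LK LD1_c1 LD2_c45 LD3_c50))))))))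
def v3316 : LQ := Led Lsl_gf K29.v710
theorem f625110 : Led Lsl_gf K29.v710 = v3316 :=
  Lrfl
def v2462 : LQ := Led Lsl_dt (LP (LK LD1_c1 LD2_c45 LD3_c51))
theorem f522436 : Led Lsl_dt (LP (LK LD1_c1 LD2_c45 LD3_c51)) = v2462 :=
  Lrfl
theorem f522437 : Led Lsl_af K29.v710 = v2462 :=
  Lgr Lrot117 (Lpe (K29.f456886 IH) (Lpr_at (K29.f450891 IH) (Lpr_dt (f522436 IH) (Lpn v2462))))
theorem f522439 : Led Lsl_ff K46.v2277 = v2462 :=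
  Lgr Lrot19 (Lpe (K46.f511423 IH) (Lpqs (K29.f476750 IH) (Lpr_ft (K29.f457324 IH) (Lpr_dt (f522436 IH) (Lpn v2462)))))
theorem f522441 : Led Lsl_ft K46.v2277 = v2462 :=
  Lgr Lrot48 (Lpr_ff (f522439 IH) (Lpn v2462))
theorem f625111 : Led Lsl_gt K46.v2277 = v3316 :=
  Lgr Lrot5 (Lpr_ft (f522441 IH) (Lpe (f522437 IH) (Lpr_gf (f625110 IH) (Lpn v3316))))
theorem f654541 : v3521 = v3316 :=
  (Llr Lrot56 (Lpe (f654538 IH) (Lpr_et (K47.f654539 IH) (Lpe (K46.f654534 IH) (Lpr_ef (f626604 IH) (Lpe (f626603 IH) (Lpr_gt (f519455 IH) (Lpe (f511417 IH) (Lpr_et (f476785 IH) (Lpe (K33.f457327 IH) (Lpq (K29.f476750 IH) (Lpr_dt (K46.f511421 IH) (Lpr_gt (f625111 IH) (Lpn v3316)))))))))))))).symm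
theorem f472853 : Led Lsl_et (LP (LK LD1_c1 LD2_c39 LD3_c46)) = (LP (LK LD1_c3 LD2_c26 LD3_c11)) :=
  Lre_e IH (LK LD1_c1 LD2_c39 LD3_c46) (LK LD1_c3 LD2_c26 LD3_c11) Lrfl Lrfl
def v2270 : LQ := Led Lsl_dt (LP (LK LD1_c1 LD2_c39 LD3_c46))
theorem f511374 : Led Lsl_dt (LP (LK LD1_c1 LD2_c39 LD3_c46)) = v2270 :=
  Lrfl
def v1139 : LQ := Led Lsl_dt K29.v278
def v3951 : LQ := Led Lsl_gt v1139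
theorem f628714 : Led Lsl_gt v1139 = v3951 :=
  Lrfl
theorem f493332 : Led Lsl_dt K29.v278 = v1139 :=
  Lrfl
def v758 : LQ := Led Lsl_dt (LP (LK LD1_c0 LD2_c50 LD3_c13))
theorem f457101 : Led Lsl_dt (LP (LK LD1_c0 LD2_c50 LD3_c13)) = v758 :=
  Lrfl
theorem f457103 : Led Lsl_df (LP (LK LD1_c0 LD2_c50 LD3_c13)) = v758 :=
  Lgr Lrot38 (Lpr_dt (f457101 IH) (Lpn v758))
theorem f493335 : Led Lsl_ff v758 = v1139 :=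
  Lgr Lrot19 (Lpe (f457103 IH) (Lpr_ft (K29.f457105 IH) (Lpqs (K29.f457212 IH) (Lpr_dt (f493332 IH) (Lpn v1139)))))
theorem f511376 : Led Lsl_df (LP (LK LD1_c1 LD2_c39 LD3_c46)) = v2270 :=
  Lgr Lrot38 (Lpr_dt (f511374 IH) (Lpn v2270))
theorem f511377 : Led Lsl_at v758 = v2270 :=
  Lgr Lrot51 (Lpe (f457101 IH) (Lpr_af (K28.f457100 IH) (Lpq (K28.f472849 IH) (Lpr_df (f511376 IH) (Lpn v2270)))))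
theorem f628715 : Led Lsl_gf v2270 = v3951 :=
  Lgr Lrot76 (Lpe (f511377 IH) (Lpr_ff (f493335 IH) (Lpr_gt (f628714 IH) (Lpn v3951))))
theorem f491710 : Led Lsl_at K33.v594 = K29.v1136 :=
  Lgr Lrot66 (Lpe (K33.f455088 IH) (Lpr_af (K29.f98655 IH) (Lpr_ff (K29.f491709 IH) (Lpn K29.v1136))))
def v592 : LQ := Led Lsl_gt (LP (LK LD1_c0 LD2_c46 LD3_c25))
theorem f455074 : Led Lsl_gt (LP (LK LD1_c0 LD2_c46 LD3_c25)) = v592 :=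
  Lrfl
theorem f493318 : v592 = K29.v278 :=
  (Llr Lrot5 (Lpe (f455074 IH) (Lpr_ft (K33.f455088 IH) (Lpr_at (f491710 IH) (Lpe (K29.f491707 IH) (Lpn K29.v278)))))).symm
def v3510 : LQ := Led Lsl_et K34.v900
theorem f626036 : Led Lsl_et K34.v900 = v3510 :=
  Lrfl
theorem f626038 : Led Lsl_ef K34.v900 = v3510 :=
  Lgr Lrot88 (Lpr_et (f626036 IH) (Lpn v3510))
theorem f628716 : Led Lsl_dt v3510 = v3951 :=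
  Lgr Lrot56 (Lpe (f626038 IH) (Lpe (K34.f490362 IH) (Lpe (K24.f14912 IH) (Lpe (K0.f14561 IH) (Lpr_gt (K2.f9797 IH) (Lpe (K2.f14609 IH) (Lpr_et (K33.f14610 IH) (Lpr_gt (f455074 IH) (Lpqs (f493318 IH) (Lpr_dt (f493332 IH) (Lpr_gt (f628714 IH) (Lpn v3951))))))))))))
def v3319 : LQ := Led Lsl_gt v711
theorem f625118 : Led Lsl_gt v711 = v3319 :=
  Lrfl
theorem f654542 : v3510 = v3319 :=
  (Llr Lrot135 (Lpr_dt (f628716 IH) (Lpe (f628715 IH) (Lpe (f511374 IH) (Lpr_et (f472853 IH) (Lpr_gt (f654535 IH) (Lpe (K47.f654539 IH) (Lpr_dt (f654538 IH) (Lpqs (f654541 IH) (Lpe (f625110 IH) (Lpe (K29.f456884 IH) (Lpr_et (f456890 IH) (Lpr_gt (f625118 IH) (Lpn v3319)))))))))))))).symm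
def v905 : LQ := Led Lsl_et (LP (LK LD1_c0 LD2_c53 LD3_c58))
theorem f490378 : Led Lsl_et (LP (LK LD1_c0 LD2_c53 LD3_c58)) = v905 :=
  Lrfl
theorem f626039 : Led Lsl_at v905 = v3510 :=
  Lgr Lrot80 (Lpe (f490378 IH) (Lpqs (K34.f531816 IH) (Lpe (K34.f531718 IH) (Lpr_ef (f626038 IH) (Lpn v3510)))))
def v3518 : LQ := Led Lsl_ft v905
theorem f626074 : Led Lsl_ft v905 = v3518 :=
  Lrfl
theorem f626075 : Led Lsl_ff v905 = v3518 :=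
  Lgr Lrot3 (Lpr_ft (f626074 IH) (Lpn v3518))
theorem f654543 : v3518 = v3320 :=
  (Llr Lrot52 (Lpe (f626075 IH) (Lpr_at (f626039 IH) (Lpqs (f654542 IH) (Lpe (f625118 IH) (Lpr_gf (f625119 IH) (Lpn v3320))))))).symm
def v3952 : LQ := Led Lsl_gf v1139
theorem f628722 : Led Lsl_gf v1139 = v3952 :=
  Lrfl
theorem f628718 : Led Lsl_df v3510 = v3951 :=
  Lgr Lrot38 (Lpr_dt (f628716 IH) (Lpn v3951))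
theorem f490379 : Led Lsl_ef (LP (LK LD1_c0 LD2_c53 LD3_c58)) = v905 :=
  Lgr Lrot88 (Lpr_et (f490378 IH) (Lpn v905))
theorem f626037 : Led Lsl_af v905 = v3510 :=
  Lgr Lrot50 (Lpe (f490379 IH) (Lpqs (K34.f531816 IH) (Lpe (K35.f531716 IH) (Lpr_et (f626036 IH) (Lpn v3510)))))
def v3369 : LQ := Led Lsl_gf v758
theorem f625337 : Led Lsl_gf v758 = v3369 :=
  Lrfl
theorem f625338 : Led Lsl_dt v905 = v3369 :=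
  Lgr Lrot136 (Lpe (f490379 IH) (Lpe (K29.f14857 IH) (Lpr_ef (K46.f15310 IH) (Lpr_dt (K2.f15823 IH) (Lpe (K28.f15835 IH) (Lpe (K28.f17091 IH) (Lpr_gf (K28.f473244 IH) (Lpe (K28.f456268 IH) (Lpr_dt (f457101 IH) (Lpr_gf (f625337 IH) (Lpn v3369)))))))))))
theorem f628719 : Led Lsl_at v3369 = v3951 :=
  Lgr Lrot51 (Lpe (f625338 IH) (Lpr_af (f626037 IH) (Lpr_df (f628718 IH) (Lpn v3951))))
theorem f628724 : Led Lsl_ff v3369 = v3952 :=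
  Lgr Lrot52 (Lpr_at (f628719 IH) (Lpe (f628714 IH) (Lpr_gf (f628722 IH) (Lpn v3952))))
theorem f625339 : Led Lsl_df v905 = v3369 :=
  Lgr Lrot38 (Lpr_dt (f625338 IH) (Lpn v3369))
theorem f628726 : Led Lsl_dt v3518 = v3952 :=
  Lgr Lrot60 (Lpe (f626074 IH) (Lpr_df (f625339 IH) (Lpr_ff (f628724 IH) (Lpn v3952))))
theorem f658024 : v3955 = K46.v6637 :=
  (Llr Lrot131 (Lpe (f628740 IH) (Lpe (f493338 IH) (Lpr_dt (f493332 IH) (Lpr_gf (f628722 IH) (Lpe (f628726 IH) (Lpqs (f654543 IH) (Lpr_gf (f658022 IH) (Lpe (f658012 IH) (Lpr_dt (K28.f458007 IH) (Lpe (K29.f479438 IH) (Lpr_df (K28.f98727 IH) (Lpr_et (K46.f654548 IH) (Lpn K46.v6637)))))))))))))).symm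
theorem f654549 : Led Lsl_df (LP (LK LD1_c3 LD2_c34 LD3_c54)) = K46.v6637 :=
  Lgr Lrot70 (Lpe (K46.f490336 IH) (Lpr_dt (K29.f98730 IH) (Lpr_et (K46.f98729 IH) (Lpr_dt (K28.f98722 IH) (Lpr_et (K46.f654548 IH) (Lpn K46.v6637))))))
theorem f467911 : Led Lsl_gt (LP (LK LD1_c3 LD2_c34 LD3_c53)) = (LP (LK LD1_c7 LD2_c10 LD3_c54)) :=
  Lre_g IH (LK LD1_c3 LD2_c34 LD3_c53) (LK LD1_c7 LD2_c10 LD3_c54) Lrfl Lrfl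
theorem f478818 : Led Lsl_gf (LP (LK LD1_c7 LD2_c11 LD3_c5)) = (LP (LK LD1_c7 LD2_c10 LD3_c54)) :=
  Lgr Lrot76 (Lpe (K43.f456216 IH) (Lpr_ff (K33.f478765 IH) (Lpr_gt (f467911 IH) (Lpn (LP (LK LD1_c7 LD2_c10 LD3_c54))))))
theorem f686794 : Led Lsl_df (LP (LK LD1_c7 LD2_c10 LD3_c54)) = v11939 :=
  Lgr Lrot153 (Lpe (f478818 IH) (Lpr_dt (K33.f456750 IH) (Lpe (K29.f478729 IH) (Lpe (K29.f478728 IH) (Lpr_gf (K29.f478715 IH) (Lpr_df (f654549 IH) (Lpq (f658024 IH) (Lpe (f628740 IH) (Lpr_cf (f628709 IH) (Lpr_gt (f686793 IH) (Lpn v11939)))))))))))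
theorem f686797 : Led Lsl_ef (LP (LK LD1_c6 LD2_c51 LD3_c35)) = v11939 :=
  Lgr Lrot114 (Lpr_gt (K29.f15810 IH) (Lpe (K29.f19134 IH) (Lpr_dt (K2.f19040 IH) (Lpr_gt (K3.f97549 IH) (Lpe (K3.f11845 IH) (Lpr_et (f89838 IH) (Lpe (K28.f467907 IH) (Lpr_dt (K29.f455896 IH) (Lpr_gt (f467911 IH) (Lpr_df (f686794 IH) (Lpn v11939)))))))))))
theorem f686799 : Led Lsl_et (LP (LK LD1_c6 LD2_c51 LD3_c35)) = v11939 :=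
  Lgr Lrot87 (Lpr_ef (f686797 IH) (Lpn v11939))
theorem f18990 : Led Lsl_et (LP (LK LD1_c6 LD2_c52 LD3_c1)) = (LP (LK LD1_c3 LD2_c24 LD3_c46)) :=
  Lre_e IH (LK LD1_c6 LD2_c52 LD3_c1) (LK LD1_c3 LD2_c24 LD3_c46) Lrfl Lrfl
theorem f686800 : Led Lsl_af (LP (LK LD1_c6 LD2_c52 LD3_c1)) = v11939 :=
  Lgr Lrot50 (Lpr_et (f18990 IH) (Lpe (K34.f512660 IH) (Lpr_et (f686799 IH) (Lpn v11939))))
theorem f456137 : Led Lsl_at (LP (LK LD1_c7 LD2_c11 LD3_c5)) = (LP (LK LD1_c3 LD2_c35 LD3_c1)) :=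
  Lre_a IH (LK LD1_c7 LD2_c11 LD3_c5) (LK LD1_c3 LD2_c35 LD3_c1) Lrfl Lrfl
theorem f450800 : Led Lsl_gt (LP (LK LD1_c7 LD2_c11 LD3_c11)) = (LP (LK LD1_c3 LD2_c35 LD3_c1)) :=
  Lre_g IH (LK LD1_c7 LD2_c11 LD3_c11) (LK LD1_c3 LD2_c35 LD3_c1) Lrfl Lrfl
theorem f484215 : Led Lsl_gf (LP (LK LD1_c7 LD2_c11 LD3_c11)) = (LP (LK LD1_c6 LD2_c55 LD3_c5)) :=
  Lgr Lrot47 (Lpr_gt (f450800 IH) (Lpe (f456137 IH) (Lpr_ff (K33.f484193 IH) (Lpn (LP (LK LD1_c6 LD2_c55 LD3_c5))))))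
theorem f484241 : Led Lsl_dt (LP (LK LD1_c6 LD2_c52 LD3_c1)) = (LP (LK LD1_c7 LD2_c11 LD3_c11)) :=
  Lgr Lrot56 (Lpr_et (f18990 IH) (Lpr_gt (K28.f18607 IH) (Lpe (K29.f19067 IH) (Lpr_dt (K2.f18149 IH) (Lpr_gt (K2.f91291 IH) (Lpe (K2.f89848 IH) (Lpr_et (K2.f89851 IH) (Lpr_gt (K33.f484235 IH) (Lpr_dt (K33.f484161 IH) (Lpe (f484215 IH) (Lpn (LP (LK LD1_c7 LD2_c11 LD3_c11)))))))))))))
theorem f686795 : Led Lsl_dt (LP (LK LD1_c7 LD2_c10 LD3_c54)) = v11939 :=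
  Lgr Lrot42 (Lpr_df (f686794 IH) (Lpn v11939))
theorem f686801 : Led Lsl_at (LP (LK LD1_c7 LD2_c11 LD3_c11)) = (LP (LK LD1_c7 LD2_c10 LD3_c54)) :=
  Lgr Lrot51 (Lpe (f484241 IH) (Lpr_af (f686800 IH) (Lpe (f686795 IH) (Lpn (LP (LK LD1_c7 LD2_c10 LD3_c54))))))
theorem f686802 : Led Lsl_at (LP (LK LD1_c7 LD2_c11 LD3_c11)) = (LP (LK LD1_c7 LD2_c10 LD3_c54)) :=
  Leop (Lpe (f686801 IH) (Lpn (LP (LK LD1_c7 LD2_c11 LD3_c11))))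
theorem seed_596 : LEOK LG_a (LK LD1_c7 LD2_c11 LD3_c11) :=
  Leoe_a (LK LD1_c7 LD2_c11 LD3_c11) (f686802 IH)
def v12269 : LQ := Led Lsl_at (LP (LK LD1_c3 LD2_c58 LD3_c38))
theorem f688400 : Led Lsl_at (LP (LK LD1_c3 LD2_c58 LD3_c38)) = v12269 :=
  Lrfl
theorem f688401 : Led Lsl_af (LP (LK LD1_c3 LD2_c58 LD3_c38)) = v12269 :=
  Lgr Lrot0 (Lpr_at (f688400 IH) (Lpn v12269))
theorem f688404 : Led Lsl_ft (LP (LK LD1_c3 LD2_c58 LD3_c39)) = v12269 :=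
  Lgr Lrot2 (Lpr_gt (K14.f171279 IH) (Lpr_gt (K46.f171282 IH) (Lpr_af (f688401 IH) (Lpn v12269))))
theorem f335011 : Led Lsl_et (LP (LK LD1_c2 LD2_c32 LD3_c14)) = (LP (LK LD1_c5 LD2_c9 LD3_c52)) :=
  Lgr Lrot71 (Lpr_df (K22.f314353 IH) (Lpr_ef (K23.f313949 IH) (Lpr_df (K14.f168911 IH) (Lpe (K23.f326987 IH) (Lpr_df (K22.f335007 IH) (Lpn (LP (LK LD1_c5 LD2_c9 LD3_c52))))))))
theorem f355930 : Led Lsl_gt (LP (LK LD1_c18 LD2_c9 LD3_c45)) = (LP (LK LD1_c18 LD2_c17 LD3_c36)) :=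
  Lgr Lrot94 (Lpe (K25.f355899 IH) (Lpr_gt (K25.f355928 IH) (Lpr_dt (K23.f250100 IH) (Lpe (K23.f342622 IH) (Lpe (K19.f46090 IH) (Lpr_cf (K19.f192913 IH) (Lpe (K19.f233486 IH) (Lpr_gf (K19.f306189 IH) (Lpe (K19.f185928 IH) (Lpn (LP (LK LD1_c18 LD2_c17 LD3_c36))))))))))))
theorem f171753 : Led Lsl_ct (LP (LK LD1_c10 LD2_c0 LD3_c38)) = (LP (LK LD1_c18 LD2_c17 LD3_c36)) :=
  Lre_c IH (LK LD1_c10 LD2_c0 LD3_c38) (LK LD1_c18 LD2_c17 LD3_c36) Lrfl Lrfl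
theorem f327655 : Led Lsl_bf (LP (LK LD1_c10 LD2_c7 LD3_c53)) = (LP (LK LD1_c5 LD2_c10 LD3_c2)) :=
  Lgr Lrot96 (Lpr_et (K23.f33264 IH) (Lpr_bt (K21.f327647 IH) (Lpr_et (K19.f306979 IH) (Lpn (LP (LK LD1_c5 LD2_c10 LD3_c2))))))
theorem f327733 : Led Lsl_bt (LP (LK LD1_c9 LD2_c52 LD3_c56)) = (LP (LK LD1_c5 LD2_c2 LD3_c45)) :=
  Lgr Lrot95 (Lpr_df (K23.f327727 IH) (Lpr_bf (f327655 IH) (Lpe (K19.f306983 IH) (Lpn (LP (LK LD1_c5 LD2_c2 LD3_c45))))))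
theorem f327731 : Led Lsl_ct (LP (LK LD1_c9 LD2_c52 LD3_c56)) = (LP (LK LD1_c18 LD2_c5 LD3_c14)) :=
  Lre_c IH (LK LD1_c9 LD2_c52 LD3_c56) (LK LD1_c18 LD2_c5 LD3_c14) Lrfl Lrfl
theorem f46977 : Led Lsl_ct (LP (LK LD1_c15 LD2_c14 LD3_c61)) = (LP (LK LD1_c25 LD2_c4 LD3_c3)) :=
  Lre_c IH (LK LD1_c15 LD2_c14 LD3_c61) (LK LD1_c25 LD2_c4 LD3_c3) Lrfl Lrfl
theorem f362973 : Led Lsl_gt (LP (LK LD1_c18 LD2_c5 LD3_c14)) = (LP (LK LD1_c25 LD2_c4 LD3_c3)) :=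
  Lgr Lrot65 (Lpe (f327731 IH) (Lpr_bt (f327733 IH) (Lpr_gf (K19.f306985 IH) (Lpe (K23.f171752 IH) (Lpr_ct (f171753 IH) (Lpe (f355930 IH) (Lpe (K25.f355899 IH) (Lpr_gf (K26.f362967 IH) (Lpe (K25.f356233 IH) (Lpr_ct (f46977 IH) (Lpn (LP (LK LD1_c25 LD2_c4 LD3_c3)))))))))))))
theorem f274694 : Led Lsl_dt (LP (LK LD1_c5 LD2_c2 LD3_c3)) = (LP (LK LD1_c9 LD2_c54 LD3_c50)) :=
  Lre_d IH (LK LD1_c5 LD2_c2 LD3_c3) (LK LD1_c9 LD2_c54 LD3_c50) Lrfl Lrfl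
theorem f21856 : Led Lsl_et (LP (LK LD1_c1 LD2_c12 LD3_c49)) = (LP (LK LD1_c2 LD2_c31 LD3_c32)) :=
  Lre_e IH (LK LD1_c1 LD2_c12 LD3_c49) (LK LD1_c2 LD2_c31 LD3_c32) Lrfl Lrfl
theorem f339819 : Led Lsl_gt (LP (LK LD1_c9 LD2_c54 LD3_c50)) = (LP (LK LD1_c9 LD2_c52 LD3_c56)) :=
  Lgr Lrot139 (Lpe (f274694 IH) (Lpr_gf (K22.f339815 IH) (Lpe (K0.f33611 IH) (Lpr_dt (K0.f33598 IH) (Lpr_gf (K10.f196349 IH) (Lpe (K12.f21855 IH) (Lpr_et (f21856 IH) (Lpe (K21.f33226 IH) (Lpe (K23.f33264 IH) (Lpe (K23.f327727 IH) (Lpn (LP (LK LD1_c9 LD2_c52 LD3_c56)))))))))))))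
theorem f3404 : Led Lsl_gt (LP (LK LD1_c5 LD2_c2 LD3_c1)) = (LP (LK LD1_c9 LD2_c54 LD3_c43)) :=
  Lre_g IH (LK LD1_c5 LD2_c2 LD3_c1) (LK LD1_c9 LD2_c54 LD3_c43) Lrfl Lrfl
theorem f46978 : Led Lsl_ct (LP (LK LD1_c25 LD2_c4 LD3_c3)) = (LP (LK LD1_c15 LD2_c14 LD3_c61)) :=
  Lre_c IH (LK LD1_c25 LD2_c4 LD3_c3) (LK LD1_c15 LD2_c14 LD3_c61) Lrfl Lrfl
theorem f363023 : Led Lsl_ct (LP (LK LD1_c9 LD2_c54 LD3_c43)) = (LP (LK LD1_c8 LD2_c6 LD3_c0)) :=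
  Lgr Lrot110 (Lpe (f3404 IH) (Lpe (K0.f21781 IH) (Lpe (K22.f33929 IH) (Lpe (K22.f33930 IH) (Lpr_gt (f339819 IH) (Lpr_ct (f327731 IH) (Lpr_gt (f362973 IH) (Lpr_ct (f46978 IH) (Lpe (K21.f46976 IH) (Lpn (LP (LK LD1_c8 LD2_c6 LD3_c0))))))))))))
theorem f3408 : Led Lsl_et (LP (LK LD1_c18 LD2_c8 LD3_c41)) = (LP (LK LD1_c9 LD2_c54 LD3_c43)) :=
  Lre_e IH (LK LD1_c18 LD2_c8 LD3_c41) (LK LD1_c9 LD2_c54 LD3_c43) Lrfl Lrfl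
theorem f363032 : Led Lsl_cf (LP (LK LD1_c18 LD2_c8 LD3_c41)) = (LP (LK LD1_c15 LD2_c15 LD3_c0)) :=
  Lgr Lrot39 (Lpr_et (f3408 IH) (Lpr_ct (f363023 IH) (Lpr_et (K21.f232382 IH) (Lpn (LP (LK LD1_c15 LD2_c15 LD3_c0))))))
theorem f363051 : Led Lsl_ct (LP (LK LD1_c18 LD2_c8 LD3_c41)) = (LP (LK LD1_c15 LD2_c15 LD3_c0)) :=
  Lgr Lrot59 (Lpr_cf (f363032 IH) (Lpn (LP (LK LD1_c15 LD2_c15 LD3_c0))))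
theorem f293415 : Led Lsl_cf (LP (LK LD1_c16 LD2_c12 LD3_c59)) = (LP (LK LD1_c15 LD2_c53 LD3_c36)) :=
  Lgr Lrot11 (Lpr_ct (K21.f293413 IH) (Lpn (LP (LK LD1_c15 LD2_c53 LD3_c36))))
theorem f314375 : Led Lsl_gf (LP (LK LD1_c15 LD2_c53 LD3_c36)) = (LP (LK LD1_c15 LD2_c3 LD3_c18)) :=
  Lgr Lrot47 (Lpr_gt (K21.f235395 IH) (Lpr_af (K19.f314365 IH) (Lpe (K19.f213644 IH) (Lpn (LP (LK LD1_c15 LD2_c3 LD3_c18))))))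
theorem f339850 : Led Lsl_et (LP (LK LD1_c8 LD2_c28 LD3_c4)) = (LP (LK LD1_c15 LD2_c53 LD3_c40)) :=
  Lgr Lrot122 (Lpr_dt (K22.f239627 IH) (Lpe (K22.f338006 IH) (Lpe (K19.f314152 IH) (Lpr_et (K19.f314158 IH) (Lpr_gt (K22.f314179 IH) (Lpr_dt (K25.f337993 IH) (Lpe (K23.f332788 IH) (Lpr_df (K20.f246934 IH) (Lpr_et (K16.f246929 IH) (Lpr_gt (K25.f339846 IH) (Lpn (LP (LK LD1_c15 LD2_c53 LD3_c40)))))))))))))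
theorem f344974 : Led Lsl_gt (LP (LK LD1_c15 LD2_c53 LD3_c40)) = (LP (LK LD1_c10 LD2_c8 LD3_c48)) :=
  Lgr Lrot137 (Lpe (f339850 IH) (Lpr_dt (K22.f239627 IH) (Lpe (K22.f216422 IH) (Lpe (K13.f228346 IH) (Lpe (K14.f239622 IH) (Lpe (K12.f229140 IH) (Lpe (K14.f195627 IH) (Lpr_dt (K13.f195616 IH) (Lpr_gf (K23.f344970 IH) (Lpe (K23.f344972 IH) (Lpn (LP (LK LD1_c10 LD2_c8 LD3_c48)))))))))))))
theorem f344976 : Led Lsl_ct (LP (LK LD1_c10 LD2_c8 LD3_c48)) = (LP (LK LD1_c18 LD2_c28 LD3_c50)) :=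
  Lre_c IH (LK LD1_c10 LD2_c8 LD3_c48) (LK LD1_c18 LD2_c28 LD3_c50) Lrfl Lrfl
theorem f363056 : Led Lsl_gf (LP (LK LD1_c18 LD2_c8 LD3_c41)) = (LP (LK LD1_c18 LD2_c28 LD3_c50)) :=
  Lgr Lrot104 (Lpr_ct (f363051 IH) (Lpr_df (K23.f330262 IH) (Lpr_cf (f293415 IH) (Lpr_gf (f314375 IH) (Lpe (K19.f213606 IH) (Lpr_gf (K22.f339837 IH) (Lpe (K22.f235416 IH) (Lpr_gt (f344974 IH) (Lpr_ct (f344976 IH) (Lpn (LP (LK LD1_c18 LD2_c28 LD3_c50))))))))))))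
theorem f355968 : Led Lsl_bt (LP (LK LD1_c15 LD2_c15 LD3_c0)) = (LP (LK LD1_c16 LD2_c39 LD3_c18)) :=
  Lgr Lrot95 (Lpr_df (K23.f330262 IH) (Lpr_bf (K25.f355966 IH) (Lpe (K25.f275649 IH) (Lpn (LP (LK LD1_c16 LD2_c39 LD3_c18))))))
theorem f310629 : Led Lsl_bt (LP (LK LD1_c15 LD2_c16 LD3_c43)) = (LP (LK LD1_c8 LD2_c6 LD3_c52)) :=
  Lre_b IH (LK LD1_c15 LD2_c16 LD3_c43) (LK LD1_c8 LD2_c6 LD3_c52) Lrfl Lrfl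
theorem f328125 : Led Lsl_et (LP (LK LD1_c8 LD2_c8 LD3_c51)) = (LP (LK LD1_c15 LD2_c16 LD3_c43)) :=
  Lgr Lrot74 (Lpe (K25.f328124 IH) (Lpr_ef (K21.f328120 IH) (Lpe (f310629 IH) (Lpn (LP (LK LD1_c15 LD2_c16 LD3_c43))))))
theorem f358420 : Led Lsl_gf (LP (LK LD1_c10 LD2_c0 LD3_c48)) = (LP (LK LD1_c10 LD2_c33 LD3_c10)) :=
  Lgr Lrot138 (Lpe (K18.f211329 IH) (Lpr_gt (K25.f211360 IH) (Lpr_df (K27.f357551 IH) (Lpr_et (f328125 IH) (Lpe (K21.f328183 IH) (Lpe (K17.f253305 IH) (Lpr_dt (K13.f231356 IH) (Lpe (K25.f352767 IH) (Lpr_df (K25.f352750 IH) (Lpe (K25.f352732 IH) (Lpn (LP (LK LD1_c10 LD2_c33 LD3_c10)))))))))))))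
theorem f352774 : Led Lsl_gf (LP (LK LD1_c19 LD2_c24 LD3_c11)) = (LP (LK LD1_c16 LD2_c42 LD3_c36)) :=
  Lgr Lrot145 (Lpe (K25.f352757 IH) (Lpr_et (K25.f352773 IH) (Lpr_gt (K25.f352765 IH) (Lpr_dt (K25.f170826 IH) (Lpr_gt (K25.f187974 IH) (Lpe (K25.f340125 IH) (Lpr_et (K25.f263517 IH) (Lpr_gt (K25.f340127 IH) (Lpe (K25.f320467 IH) (Lpr_dt (K25.f320479 IH) (Lpn (LP (LK LD1_c16 LD2_c42 LD3_c36)))))))))))))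
theorem f358422 : Led Lsl_gt (LP (LK LD1_c16 LD2_c39 LD3_c18)) = (LP (LK LD1_c26 LD2_c32 LD3_c10)) :=
  Lgr Lrot139 (Lpe (K25.f275651 IH) (Lpe (K25.f355960 IH) (Lpe (K17.f293154 IH) (Lpr_dt (K11.f211343 IH) (Lpr_gf (f358420 IH) (Lpe (K25.f352739 IH) (Lpr_et (K25.f352736 IH) (Lpr_gf (f352774 IH) (Lpe (K25.f352102 IH) (Lpe (K25.f341106 IH) (Lpn (LP (LK LD1_c26 LD2_c32 LD3_c10)))))))))))))
theorem f330685 : Led Lsl_bt (LP (LK LD1_c9 LD2_c42 LD3_c21)) = (LP (LK LD1_c4 LD2_c55 LD3_c59)) :=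
  Lgr Lrot119 (Lpr_ef (K23.f330683 IH) (Lpe (K21.f181900 IH) (Lpe (K18.f181898 IH) (Lpn (LP (LK LD1_c4 LD2_c55 LD3_c59))))))
theorem f306373 : Led Lsl_df (LP (LK LD1_c27 LD2_c32 LD3_c37)) = (LP (LK LD1_c18 LD2_c12 LD3_c22)) :=
  Lgr Lrot38 (Lpr_dt (K19.f306370 IH) (Lpn (LP (LK LD1_c18 LD2_c12 LD3_c22))))
theorem f306421 : Led Lsl_ct (LP (LK LD1_c27 LD2_c32 LD3_c37)) = (LP (LK LD1_c18 LD2_c58 LD3_c25)) :=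
  Lgr Lrot7 (Lpr_df (f306373 IH) (Lpe (K19.f257745 IH) (Lpe (K19.f257621 IH) (Lpe (K19.f306377 IH) (Lpr_cf (K19.f306408 IH) (Lpe (K18.f291695 IH) (Lpr_dt (K18.f291683 IH) (Lpr_gt (K18.f291690 IH) (Lpr_dt (K23.f291701 IH) (Lpn (LP (LK LD1_c18 LD2_c58 LD3_c25))))))))))))
theorem f306473 : Led Lsl_cf (LP (LK LD1_c27 LD2_c32 LD3_c37)) = (LP (LK LD1_c18 LD2_c58 LD3_c25)) :=
  Lgr Lrot11 (Lpr_ct (f306421 IH) (Lpn (LP (LK LD1_c18 LD2_c58 LD3_c25))))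
theorem f309596 : Led Lsl_dt (LP (LK LD1_c5 LD2_c31 LD3_c18)) = (LP (LK LD1_c10 LD2_c54 LD3_c13)) :=
  Lre_d IH (LK LD1_c5 LD2_c31 LD3_c18) (LK LD1_c10 LD2_c54 LD3_c13) Lrfl Lrfl
theorem f342369 : Led Lsl_gf (LP (LK LD1_c10 LD2_c54 LD3_c13)) = (LP (LK LD1_c18 LD2_c39 LD3_c61)) :=
  Lgr Lrot134 (Lpe (f309596 IH) (Lpr_et (K23.f342363 IH) (Lpr_gt (K19.f28875 IH) (Lpe (K12.f198944 IH) (Lpr_dt (K11.f28966 IH) (Lpr_gt (K13.f241890 IH) (Lpe (K13.f241896 IH) (Lpr_et (K19.f241908 IH) (Lpr_gt (K19.f241909 IH) (Lpr_dt (K23.f241910 IH) (Lpn (LP (LK LD1_c18 LD2_c39 LD3_c61)))))))))))))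
theorem f336190 : Led Lsl_ct (LP (LK LD1_c10 LD2_c54 LD3_c13)) = (LP (LK LD1_c19 LD2_c42 LD3_c10)) :=
  Lre_c IH (LK LD1_c10 LD2_c54 LD3_c13) (LK LD1_c19 LD2_c42 LD3_c10) Lrfl Lrfl
theorem f344977 : Led Lsl_ct (LP (LK LD1_c18 LD2_c28 LD3_c50)) = (LP (LK LD1_c10 LD2_c8 LD3_c48)) :=
  Lre_c IH (LK LD1_c18 LD2_c28 LD3_c50) (LK LD1_c10 LD2_c8 LD3_c48) Lrfl Lrfl
theorem f344967 : Led Lsl_ct (LP (LK LD1_c18 LD2_c13 LD3_c3)) = (LP (LK LD1_c9 LD2_c57 LD3_c21)) :=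
  Lre_c IH (LK LD1_c18 LD2_c13 LD3_c3) (LK LD1_c9 LD2_c57 LD3_c21) Lrfl Lrfl
theorem f344983 : Led Lsl_gf (LP (LK LD1_c18 LD2_c28 LD3_c50)) = (LP (LK LD1_c19 LD2_c42 LD3_c10)) :=
  Lgr Lrot172 (Lpr_ct (f344977 IH) (Lpr_dt (K23.f344972 IH) (Lpe (f344967 IH) (Lpe (K23.f344946 IH) (Lpe (K23.f192622 IH) (Lpe (K23.f329868 IH) (Lpr_dt (K23.f241910 IH) (Lpe (f342369 IH) (Lpr_ct (f336190 IH) (Lpn (LP (LK LD1_c19 LD2_c42 LD3_c10))))))))))))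
theorem f355130 : Led Lsl_bf (LP (LK LD1_c5 LD2_c11 LD3_c7)) = (LP (LK LD1_c10 LD2_c8 LD3_c48)) :=
  Lgr Lrot156 (Lpr_gt (K25.f355128 IH) (Lpe (f330685 IH) (Lpr_ct (K26.f330687 IH) (Lpr_gt (K26.f330694 IH) (Lpr_cf (f306473 IH) (Lpe (K23.f344862 IH) (Lpe (f342369 IH) (Lpr_ct (f336190 IH) (Lpe (f344983 IH) (Lpe (f344976 IH) (Lpn (LP (LK LD1_c10 LD2_c8 LD3_c48)))))))))))))
theorem f355140 : Led Lsl_bt (LP (LK LD1_c9 LD2_c43 LD3_c36)) = (LP (LK LD1_c4 LD2_c55 LD3_c58)) :=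
  Lre_b IH (LK LD1_c9 LD2_c43 LD3_c36) (LK LD1_c4 LD2_c55 LD3_c58) Lrfl Lrfl
theorem f330523 : Led Lsl_ct (LP (LK LD1_c9 LD2_c43 LD3_c36)) = (LP (LK LD1_c17 LD2_c52 LD3_c53)) :=
  Lre_c IH (LK LD1_c9 LD2_c43 LD3_c36) (LK LD1_c17 LD2_c52 LD3_c53) Lrfl Lrfl
theorem f363058 : Led Lsl_gt (LP (LK LD1_c18 LD2_c34 LD3_c32)) = (LP (LK LD1_c17 LD2_c52 LD3_c53)) :=
  Lgr Lrot149 (Lpe (K25.f352125 IH) (Lpe (f358422 IH) (Lpe (f355968 IH) (Lpe (f363032 IH) (Lpr_gf (f363056 IH) (Lpe (f344976 IH) (Lpe (f355130 IH) (Lpr_gf (K46.f355138 IH) (Lpe (f355140 IH) (Lpr_ct (f330523 IH) (Lpn (LP (LK LD1_c17 LD2_c52 LD3_c53)))))))))))))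
theorem f275653 : Led Lsl_ct (LP (LK LD1_c4 LD2_c28 LD3_c5)) = (LP (LK LD1_c8 LD2_c54 LD3_c9)) :=
  Lre_c IH (LK LD1_c4 LD2_c28 LD3_c5) (LK LD1_c8 LD2_c54 LD3_c9) Lrfl Lrfl
theorem f330527 : Led Lsl_ct (LP (LK LD1_c17 LD2_c52 LD3_c53)) = (LP (LK LD1_c9 LD2_c43 LD3_c36)) :=
  Lre_c IH (LK LD1_c17 LD2_c52 LD3_c53) (LK LD1_c9 LD2_c43 LD3_c36) Lrfl Lrfl
theorem f330522 : Led Lsl_dt (LP (LK LD1_c4 LD2_c55 LD3_c57)) = (LP (LK LD1_c9 LD2_c43 LD3_c36)) :=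
  Lre_d IH (LK LD1_c4 LD2_c55 LD3_c57) (LK LD1_c9 LD2_c43 LD3_c36) Lrfl Lrfl
theorem f281425 : Led Lsl_ct (LP (LK LD1_c9 LD2_c43 LD3_c35)) = (LP (LK LD1_c4 LD2_c55 LD3_c57)) :=
  Lre_c IH (LK LD1_c9 LD2_c43 LD3_c35) (LK LD1_c4 LD2_c55 LD3_c57) Lrfl Lrfl
theorem f363061 : Led Lsl_gt (LP (LK LD1_c8 LD2_c54 LD3_c9)) = (LP (LK LD1_c9 LD2_c43 LD3_c35)) :=
  Lgr Lrot150 (Lpe (f275653 IH) (Lpe (K22.f275634 IH) (Lpe (K25.f275649 IH) (Lpr_gt (f358422 IH) (Lpr_ct (K25.f352125 IH) (Lpr_gt (f363058 IH) (Lpr_ct (f330527 IH) (Lpe (f330522 IH) (Lpe (f281425 IH) (Lpn (LP (LK LD1_c9 LD2_c43 LD3_c35))))))))))))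
theorem f339840 : Led Lsl_bt (LP (LK LD1_c16 LD2_c12 LD3_c59)) = (LP (LK LD1_c8 LD2_c54 LD3_c11)) :=
  Lgr Lrot22 (Lpr_ct (K21.f293413 IH) (Lpr_gf (f314375 IH) (Lpe (K19.f213606 IH) (Lpr_gf (K22.f339837 IH) (Lpe (K22.f339746 IH) (Lpr_ct (K22.f339748 IH) (Lpe (K21.f278762 IH) (Lpe (K18.f292821 IH) (Lpr_bt (K17.f293066 IH) (Lpe (K22.f275634 IH) (Lpn (LP (LK LD1_c8 LD2_c54 LD3_c11)))))))))))))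
theorem f281424 : Led Lsl_bt (LP (LK LD1_c4 LD2_c55 LD3_c57)) = (LP (LK LD1_c2 LD2_c25 LD3_c45)) :=
  Lre_b IH (LK LD1_c4 LD2_c55 LD3_c57) (LK LD1_c2 LD2_c25 LD3_c45) Lrfl Lrfl
theorem f363069 : Led Lsl_gf (LP (LK LD1_c3 LD2_c58 LD3_c40)) = (LP (LK LD1_c2 LD2_c25 LD3_c45)) :=
  Lgr Lrot124 (Lpe (K19.f213624 IH) (Lpr_ct (K19.f213606 IH) (Lpe (f314375 IH) (Lpe (K21.f293413 IH) (Lpr_bt (f339840 IH) (Lpr_gt (K22.f275634 IH) (Lpr_ct (f275653 IH) (Lpr_gt (f363061 IH) (Lpe (K21.f281433 IH) (Lpr_bt (f281424 IH) (Lpn (LP (LK LD1_c2 LD2_c25 LD3_c45)))))))))))))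
theorem f370961 : Led Lsl_gf (LP (LK LD1_c7 LD2_c58 LD3_c50)) = (LP (LK LD1_c5 LD2_c3 LD3_c41)) :=
  Lgr Lrot141 (Lpr_ef (K46.f355146 IH) (Lpr_dt (K46.f181897 IH) (Lpe (f363069 IH) (Lpe (K26.f314351 IH) (Lpr_et (f335011 IH) (Lpr_gt (K44.f370519 IH) (Lpr_dt (K23.f237820 IH) (Lpe (K25.f342450 IH) (Lpe (K19.f248728 IH) (Lpr_et (K19.f250238 IH) (Lpn (LP (LK LD1_c5 LD2_c3 LD3_c41)))))))))))))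
theorem f171286 : Led Lsl_dt (LP (LK LD1_c3 LD2_c58 LD3_c38)) = (LP (LK LD1_c7 LD2_c58 LD3_c50)) :=
  Lre_d IH (LK LD1_c3 LD2_c58 LD3_c38) (LK LD1_c7 LD2_c58 LD3_c50) Lrfl Lrfl
theorem f250236 : Led Lsl_dt (LP (LK LD1_c5 LD2_c10 LD3_c24)) = (LP (LK LD1_c5 LD2_c3 LD3_c41)) :=
  Lgr Lrot42 (Lpr_df (K19.f250233 IH) (Lpn (LP (LK LD1_c5 LD2_c3 LD3_c41))))
theorem f306991 : Led Lsl_gt (LP (LK LD1_c5 LD2_c11 LD3_c56)) = (LP (LK LD1_c5 LD2_c10 LD3_c2)) :=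
  Lgr Lrot139 (Lpe (K19.f163901 IH) (Lpe (K19.f21358 IH) (Lpe (K19.f21354 IH) (Lpr_dt (K8.f163650 IH) (Lpe (K9.f165274 IH) (Lpe (K9.f21993 IH) (Lpr_et (K11.f21994 IH) (Lpe (K19.f165284 IH) (Lpe (K19.f165285 IH) (Lpr_dt (K19.f306983 IH) (Lpn (LP (LK LD1_c5 LD2_c10 LD3_c2)))))))))))))
theorem f171293 : Led Lsl_et (LP (LK LD1_c3 LD2_c58 LD3_c39)) = (LP (LK LD1_c7 LD2_c58 LD3_c51)) :=
  Lre_e IH (LK LD1_c3 LD2_c58 LD3_c39) (LK LD1_c7 LD2_c58 LD3_c51) Lrfl Lrfl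
theorem f250347 : Led Lsl_et (LP (LK LD1_c5 LD2_c9 LD3_c50)) = (LP (LK LD1_c5 LD2_c11 LD3_c56)) :=
  Lgr Lrot71 (Lpr_df (K14.f250342 IH) (Lpe (f171293 IH) (Lpr_df (K19.f171288 IH) (Lpe (K19.f171294 IH) (Lpe (K19.f163902 IH) (Lpn (LP (LK LD1_c5 LD2_c11 LD3_c56))))))))
theorem f323845 : Led Lsl_bt (LP (LK LD1_c4 LD2_c56 LD3_c30)) = (LP (LK LD1_c9 LD2_c44 LD3_c30)) :=
  Lre_b IH (LK LD1_c4 LD2_c56 LD3_c30) (LK LD1_c9 LD2_c44 LD3_c30) Lrfl Lrfl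
theorem f326903 : Led Lsl_df (LP (LK LD1_c4 LD2_c56 LD3_c30)) = (LP (LK LD1_c2 LD2_c32 LD3_c25)) :=
  Lgr Lrot12 (Lpr_bt (f323845 IH) (Lpe (K21.f323691 IH) (Lpr_bt (K21.f326895 IH) (Lpn (LP (LK LD1_c2 LD2_c32 LD3_c25))))))
theorem f326955 : Led Lsl_gf (LP (LK LD1_c7 LD2_c58 LD3_c51)) = (LP (LK LD1_c4 LD2_c56 LD3_c30)) :=
  Lgr Lrot145 (Lpe (K25.f250345 IH) (Lpr_et (f250347 IH) (Lpr_gt (f306991 IH) (Lpe (K19.f306980 IH) (Lpe (K23.f171745 IH) (Lpe (K19.f165389 IH) (Lpe (K18.f181904 IH) (Lpr_gt (K23.f326921 IH) (Lpe (K21.f326905 IH) (Lpe (f326903 IH) (Lpn (LP (LK LD1_c4 LD2_c56 LD3_c30)))))))))))))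
theorem f171291 : Led Lsl_dt (LP (LK LD1_c3 LD2_c58 LD3_c39)) = (LP (LK LD1_c5 LD2_c11 LD3_c57)) :=
  Lgr Lrot42 (Lpr_df (K19.f171288 IH) (Lpn (LP (LK LD1_c5 LD2_c11 LD3_c57))))
theorem f335779 : Led Lsl_ef (LP (LK LD1_c5 LD2_c36 LD3_c59)) = (LP (LK LD1_c5 LD2_c10 LD3_c24)) :=
  Lgr Lrot167 (Lpr_gt (K25.f335777 IH) (Lpr_dt (K25.f169019 IH) (Lpe (K26.f169135 IH) (Lpe (K23.f55319 IH) (Lpr_et (K21.f169139 IH) (Lpe (f326955 IH) (Lpe (f171293 IH) (Lpr_dt (f171291 IH) (Lpr_gt (K19.f307003 IH) (Lpe (f250236 IH) (Lpn (LP (LK LD1_c5 LD2_c10 LD3_c24)))))))))))))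
theorem f178193 : Led Lsl_et (LP (LK LD1_c1 LD2_c18 LD3_c31)) = (LP (LK LD1_c2 LD2_c44 LD3_c21)) :=
  Lre_e IH (LK LD1_c1 LD2_c18 LD3_c31) (LK LD1_c2 LD2_c44 LD3_c21) Lrfl Lrfl
theorem f178194 : Led Lsl_gt (LP (LK LD1_c2 LD2_c44 LD3_c23)) = (LP (LK LD1_c1 LD2_c18 LD3_c32)) :=
  Lre_g IH (LK LD1_c2 LD2_c44 LD3_c23) (LK LD1_c1 LD2_c18 LD3_c32) Lrfl Lrfl
theorem f370980 : Led Lsl_et (LP (LK LD1_c3 LD2_c58 LD3_c38)) = (LP (LK LD1_c2 LD2_c44 LD3_c23)) :=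
  Lgr Lrot121 (Lpr_dt (f171286 IH) (Lpr_gf (f370961 IH) (Lpe (f250236 IH) (Lpe (f335779 IH) (Lpe (K25.f177885 IH) (Lpe (f178193 IH) (Lpr_dt (K23.f178191 IH) (Lpe (K23.f178179 IH) (Lpe (K23.f178184 IH) (Lpe (f178194 IH) (Lpn (LP (LK LD1_c2 LD2_c44 LD3_c23)))))))))))))
theorem f370985 : Led Lsl_ef (LP (LK LD1_c3 LD2_c58 LD3_c38)) = (LP (LK LD1_c2 LD2_c44 LD3_c23)) :=
  Lgr Lrot88 (Lpr_et (f370980 IH) (Lpn (LP (LK LD1_c2 LD2_c44 LD3_c23))))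
def v4728 : LQ := Led Lsl_ft (LP (LK LD1_c2 LD2_c44 LD3_c22))
theorem f638700 : Led Lsl_ft (LP (LK LD1_c2 LD2_c44 LD3_c22)) = v4728 :=
  Lrfl
def v4726 : LQ := Led Lsl_at (LP (LK LD1_c2 LD2_c44 LD3_c22))
theorem f638692 : Led Lsl_at (LP (LK LD1_c2 LD2_c44 LD3_c22)) = v4726 :=
  Lrfl
theorem f638693 : Led Lsl_af (LP (LK LD1_c2 LD2_c44 LD3_c22)) = v4726 :=
  Lgr Lrot0 (Lpr_at (f638692 IH) (Lpn v4726))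
theorem f638694 : Led Lsl_ft (LP (LK LD1_c2 LD2_c44 LD3_c23)) = v4726 :=
  Lgr Lrot2 (Lpr_gt (f178194 IH) (Lpr_gt (K23.f177889 IH) (Lpr_af (f638693 IH) (Lpn v4726))))
theorem f638701 : Led Lsl_af (LP (LK LD1_c2 LD2_c44 LD3_c23)) = v4728 :=
  Lgr Lrot45 (Lpr_ft (f638694 IH) (Lpe (f638693 IH) (Lpr_ft (f638700 IH) (Lpn v4728))))
theorem f688402 : Led Lsl_ef v4728 = v12269 :=
  Lgr Lrot20 (Lpe (f638701 IH) (Lpe (f370985 IH) (Lpr_at (f688400 IH) (Lpn v12269))))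
theorem f638702 : Led Lsl_ff (LP (LK LD1_c2 LD2_c44 LD3_c22)) = v4728 :=
  Lgr Lrot3 (Lpr_ft (f638700 IH) (Lpn v4728))
theorem f688405 : Led Lsl_ff (LP (LK LD1_c7 LD2_c58 LD3_c51)) = (LP (LK LD1_c5 LD2_c37 LD3_c0)) :=
  Lgr Lrot72 (Lpr_et (K14.f171284 IH) (Lpr_ft (f688404 IH) (Lpe (f688402 IH) (Lpe (f638702 IH) (Lpr_et (K25.f237822 IH) (Lpn (LP (LK LD1_c5 LD2_c37 LD3_c0))))))))
theorem f688406 : Led Lsl_ft (LP (LK LD1_c5 LD2_c37 LD3_c0)) = (LP (LK LD1_c7 LD2_c58 LD3_c51)) :=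
  Leop (Lpr_ff (f688405 IH) (Lpn (LP (LK LD1_c5 LD2_c37 LD3_c0))))
theorem seed_597 : LEOK LG_f (LK LD1_c5 LD2_c37 LD3_c0) :=
  Leoe_f (LK LD1_c5 LD2_c37 LD3_c0) (f688406 IH)
def v12282 : LQ := Led Lsl_et (LP (LK LD1_c3 LD2_c59 LD3_c14))
theorem f689159 : Led Lsl_et (LP (LK LD1_c3 LD2_c59 LD3_c14)) = v12282 :=
  Lrfl
theorem f689163 : Led Lsl_ef (LP (LK LD1_c3 LD2_c59 LD3_c14)) = v12282 :=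
  Lgr Lrot88 (Lpr_et (f689159 IH) (Lpn v12282))
theorem f172310 : Led Lsl_et (LP (LK LD1_c0 LD2_c36 LD3_c42)) = (LP (LK LD1_c1 LD2_c19 LD3_c31)) :=
  Lre_e IH (LK LD1_c0 LD2_c36 LD3_c42) (LK LD1_c1 LD2_c19 LD3_c31) Lrfl Lrfl
theorem f172311 : Led Lsl_gt (LP (LK LD1_c1 LD2_c19 LD3_c31)) = (LP (LK LD1_c2 LD2_c46 LD3_c18)) :=
  Lre_g IH (LK LD1_c1 LD2_c19 LD3_c31) (LK LD1_c2 LD2_c46 LD3_c18) Lrfl Lrfl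
theorem f172312 : Led Lsl_dt (LP (LK LD1_c2 LD2_c46 LD3_c18)) = (LP (LK LD1_c5 LD2_c40 LD3_c46)) :=
  Lre_d IH (LK LD1_c2 LD2_c46 LD3_c18) (LK LD1_c5 LD2_c40 LD3_c46) Lrfl Lrfl
theorem f413496 : Led Lsl_et (LP (LK LD1_c1 LD2_c27 LD3_c20)) = (LP (LK LD1_c3 LD2_c2 LD3_c50)) :=
  Lre_e IH (LK LD1_c1 LD2_c27 LD3_c20) (LK LD1_c3 LD2_c2 LD3_c50) Lrfl Lrfl
theorem f413497 : Led Lsl_et (LP (LK LD1_c6 LD2_c12 LD3_c32)) = (LP (LK LD1_c3 LD2_c2 LD3_c49)) :=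
  Lre_e IH (LK LD1_c6 LD2_c12 LD3_c32) (LK LD1_c3 LD2_c2 LD3_c49) Lrfl Lrfl
theorem f689162 : Led Lsl_df (LP (LK LD1_c6 LD2_c12 LD3_c32)) = v12282 :=
  Lgr Lrot70 (Lpr_et (f413497 IH) (Lpr_dt (K24.f413482 IH) (Lpr_et (f413496 IH) (Lpr_dt (K16.f413487 IH) (Lpr_et (f689159 IH) (Lpn v12282))))))
theorem f689167 : Led Lsl_gt (LP (LK LD1_c5 LD2_c40 LD3_c46)) = (LP (LK LD1_c6 LD2_c12 LD3_c32)) :=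
  Lgr Lrot139 (Lpe (f172312 IH) (Lpe (f172311 IH) (Lpe (f172310 IH) (Lpr_dt (K12.f171267 IH) (Lpe (K9.f172291 IH) (Lpe (K1.f41038 IH) (Lpr_et (K41.f171784 IH) (Lpe (K16.f40472 IH) (Lpr_ef (f689163 IH) (Lpe (f689162 IH) (Lpn (LP (LK LD1_c6 LD2_c12 LD3_c32)))))))))))))
theorem f689168 : Led Lsl_gt (LP (LK LD1_c5 LD2_c40 LD3_c46)) = (LP (LK LD1_c6 LD2_c12 LD3_c32)) :=
  Leop (Lpe (f689167 IH) (Lpn (LP (LK LD1_c5 LD2_c40 LD3_c46))))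
theorem seed_598 : LEOK LG_g (LK LD1_c5 LD2_c40 LD3_c46) :=
  Leoe_g (LK LD1_c5 LD2_c40 LD3_c46) (f689168 IH)
def v12302 : LQ := Led Lsl_ct (LP (LK LD1_c3 LD2_c59 LD3_c54))
theorem f689257 : Led Lsl_ct (LP (LK LD1_c3 LD2_c59 LD3_c54)) = v12302 :=
  Lrfl
theorem f505546 : Led Lsl_dt (LP (LK LD1_c8 LD2_c0 LD3_c56)) = (LP (LK LD1_c6 LD2_c30 LD3_c25)) :=
  Lgr Lrot60 (Lpr_ff (K46.f505542 IH) (Lpr_df (K24.f140728 IH) (Lpe (K46.f140742 IH) (Lpn (LP (LK LD1_c6 LD2_c30 LD3_c25))))))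
theorem f416150 : Led Lsl_ct (LP (LK LD1_c6 LD2_c3 LD3_c1)) = (LP (LK LD1_c2 LD2_c57 LD3_c35)) :=
  Lre_c IH (LK LD1_c6 LD2_c3 LD3_c1) (LK LD1_c2 LD2_c57 LD3_c35) Lrfl Lrfl
theorem f689263 : Led Lsl_gf (LP (LK LD1_c6 LD2_c3 LD3_c1)) = v12302 :=
  Lgr Lrot104 (Lpr_ct (f416150 IH) (Lpe (K0.f23857 IH) (Lpe (K35.f416149 IH) (Lpr_gf (K24.f416143 IH) (Lpe (K32.f23231 IH) (Lpr_gf (K46.f505498 IH) (Lpe (f505546 IH) (Lpr_gt (K46.f77391 IH) (Lpr_ct (f689257 IH) (Lpn v12302))))))))))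
theorem f140887 : Led Lsl_ct (LP (LK LD1_c9 LD2_c13 LD3_c59)) = (LP (LK LD1_c4 LD2_c39 LD3_c4)) :=
  Lre_c IH (LK LD1_c9 LD2_c13 LD3_c59) (LK LD1_c4 LD2_c39 LD3_c4) Lrfl Lrfl
theorem f444659 : Led Lsl_ct (LP (LK LD1_c2 LD2_c57 LD3_c35)) = (LP (LK LD1_c6 LD2_c3 LD3_c1)) :=
  Lre_c IH (LK LD1_c2 LD2_c57 LD3_c35) (LK LD1_c6 LD2_c3 LD3_c1) Lrfl Lrfl
theorem f507619 : Led Lsl_af (LP (LK LD1_c9 LD2_c13 LD3_c59)) = (LP (LK LD1_c6 LD2_c3 LD3_c1)) :=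
  Lgr Lrot68 (Lpr_ct (f140887 IH) (Lpr_at (K35.f507077 IH) (Lpr_ct (f444659 IH) (Lpn (LP (LK LD1_c6 LD2_c3 LD3_c1))))))
theorem f507621 : Led Lsl_at (LP (LK LD1_c9 LD2_c13 LD3_c59)) = (LP (LK LD1_c6 LD2_c3 LD3_c1)) :=
  Lgr Lrot100 (Lpr_af (f507619 IH) (Lpn (LP (LK LD1_c6 LD2_c3 LD3_c1))))
theorem f140882 : Led Lsl_ct (LP (LK LD1_c4 LD2_c39 LD3_c4)) = (LP (LK LD1_c9 LD2_c13 LD3_c59)) :=
  Lre_c IH (LK LD1_c4 LD2_c39 LD3_c4) (LK LD1_c9 LD2_c13 LD3_c59) Lrfl Lrfl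
theorem f501068 : Led Lsl_ct (LP (LK LD1_c6 LD2_c3 LD3_c2)) = (LP (LK LD1_c2 LD2_c57 LD3_c36)) :=
  Lre_c IH (LK LD1_c6 LD2_c3 LD3_c2) (LK LD1_c2 LD2_c57 LD3_c36) Lrfl Lrfl
theorem f507117 : Led Lsl_ft (LP (LK LD1_c9 LD2_c13 LD3_c59)) = (LP (LK LD1_c6 LD2_c3 LD3_c2)) :=
  Lgr Lrot4 (Lpe (f140882 IH) (Lpr_ff (K41.f507115 IH) (Lpe (f501068 IH) (Lpn (LP (LK LD1_c6 LD2_c3 LD3_c2))))))
theorem f507119 : Led Lsl_ff (LP (LK LD1_c9 LD2_c13 LD3_c59)) = (LP (LK LD1_c6 LD2_c3 LD3_c2)) :=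
  Lgr Lrot3 (Lpr_ft (f507117 IH) (Lpn (LP (LK LD1_c6 LD2_c3 LD3_c2))))
theorem f689264 : Led Lsl_gt (LP (LK LD1_c6 LD2_c3 LD3_c2)) = v12302 :=
  Lgr Lrot5 (Lpe (f507119 IH) (Lpr_at (f507621 IH) (Lpr_gf (f689263 IH) (Lpn v12302))))
theorem f501062 : Led Lsl_ct (LP (LK LD1_c2 LD2_c57 LD3_c36)) = (LP (LK LD1_c6 LD2_c3 LD3_c2)) :=
  Lre_c IH (LK LD1_c2 LD2_c57 LD3_c36) (LK LD1_c6 LD2_c3 LD3_c2) Lrfl Lrfl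
theorem f633831 : Led Lsl_bt (LP (LK LD1_c3 LD2_c59 LD3_c54)) = (LP (LK LD1_c8 LD2_c0 LD3_c54)) :=
  Lre_b IH (LK LD1_c3 LD2_c59 LD3_c54) (LK LD1_c8 LD2_c0 LD3_c54) Lrfl Lrfl
theorem f415585 : Led Lsl_gt (LP (LK LD1_c8 LD2_c0 LD3_c54)) = (LP (LK LD1_c15 LD2_c5 LD3_c38)) :=
  Lre_g IH (LK LD1_c8 LD2_c0 LD3_c54) (LK LD1_c15 LD2_c5 LD3_c38) Lrfl Lrfl
theorem f689265 : Led Lsl_bt (LP (LK LD1_c20 LD2_c52 LD3_c32)) = (LP (LK LD1_c15 LD2_c5 LD3_c38)) :=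
  Lgr Lrot92 (Lpr_ct (K41.f501067 IH) (Lpr_gt (K41.f501066 IH) (Lpe (K41.f501065 IH) (Lpr_bt (K41.f501053 IH) (Lpr_gt (K32.f501055 IH) (Lpr_ct (f501062 IH) (Lpr_gt (f689264 IH) (Lpe (f689257 IH) (Lpr_bt (f633831 IH) (Lpr_gt (f415585 IH) (Lpn (LP (LK LD1_c15 LD2_c5 LD3_c38)))))))))))))
theorem f689266 : Led Lsl_bt (LP (LK LD1_c20 LD2_c52 LD3_c32)) = (LP (LK LD1_c15 LD2_c5 LD3_c38)) :=
  Leop (Lpe (f689265 IH) (Lpn (LP (LK LD1_c20 LD2_c52 LD3_c32))))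
theorem seed_599 : LEOK LG_b (LK LD1_c20 LD2_c52 LD3_c32) :=
  Leoe_b (LK LD1_c20 LD2_c52 LD3_c32) (f689266 IH)
def v12317 : LQ := Led Lsl_ft (LP (LK LD1_c4 LD2_c4 LD3_c4))
theorem f689333 : Led Lsl_ft (LP (LK LD1_c4 LD2_c4 LD3_c4)) = v12317 :=
  Lrfl
theorem f689336 : Led Lsl_ff (LP (LK LD1_c4 LD2_c4 LD3_c4)) = v12317 :=
  Lgr Lrot3 (Lpr_ft (f689333 IH) (Lpn v12317))
theorem f200738 : Led Lsl_ct (LP (LK LD1_c4 LD2_c4 LD3_c47)) = (LP (LK LD1_c4 LD2_c4 LD3_c10)) :=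
  Lgr Lrot59 (Lpr_cf (K19.f200733 IH) (Lpn (LP (LK LD1_c4 LD2_c4 LD3_c10))))
theorem f350174 : Led Lsl_bf (LP (LK LD1_c2 LD2_c42 LD3_c24)) = (LP (LK LD1_c4 LD2_c4 LD3_c4)) :=
  Lgr Lrot156 (Lpr_gt (K20.f213270 IH) (Lpr_bf (K25.f317939 IH) (Lpe (K23.f282548 IH) (Lpe (K23.f271740 IH) (Lpe (K23.f322438 IH) (Lpr_bt (K23.f322428 IH) (Lpr_gt (K19.f189904 IH) (Lpr_ct (f200738 IH) (Lpr_gt (K24.f350168 IH) (Lpe (K23.f211319 IH) (Lpn (LP (LK LD1_c4 LD2_c4 LD3_c4)))))))))))))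
def v4673 : LQ := Led Lsl_ft (LP (LK LD1_c2 LD2_c42 LD3_c24))
theorem f638433 : Led Lsl_ft (LP (LK LD1_c2 LD2_c42 LD3_c24)) = v4673 :=
  Lrfl
theorem f689338 : Led Lsl_bt v4673 = v12317 :=
  Lgr Lrot35 (Lpe (f638433 IH) (Lpr_bf (f350174 IH) (Lpr_ff (f689336 IH) (Lpn v12317))))
theorem f638435 : Led Lsl_ff (LP (LK LD1_c2 LD2_c42 LD3_c24)) = v4673 :=
  Lgr Lrot3 (Lpr_ft (f638433 IH) (Lpn v4673))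
def v4672 : LQ := Led Lsl_at (LP (LK LD1_c2 LD2_c42 LD3_c24))
theorem f638429 : Led Lsl_at (LP (LK LD1_c2 LD2_c42 LD3_c24)) = v4672 :=
  Lrfl
theorem f638430 : Led Lsl_af (LP (LK LD1_c2 LD2_c42 LD3_c24)) = v4672 :=
  Lgr Lrot0 (Lpr_at (f638429 IH) (Lpn v4672))
theorem f638431 : Led Lsl_ft (LP (LK LD1_c2 LD2_c42 LD3_c25)) = v4672 :=
  Lgr Lrot2 (Lpr_gt (K20.f264715 IH) (Lpr_gt (K20.f246295 IH) (Lpr_af (f638430 IH) (Lpn v4672))))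
theorem f638432 : Led Lsl_ff (LP (LK LD1_c2 LD2_c42 LD3_c25)) = v4672 :=
  Lgr Lrot3 (Lpr_ft (f638431 IH) (Lpn v4672))
theorem f638436 : Led Lsl_at (LP (LK LD1_c2 LD2_c42 LD3_c25)) = v4673 :=
  Lgr Lrot66 (Lpr_ff (f638432 IH) (Lpe (f638429 IH) (Lpr_ff (f638435 IH) (Lpn v4673))))
def v12316 : LQ := Led Lsl_at (LP (LK LD1_c4 LD2_c4 LD3_c4))
theorem f689329 : Led Lsl_at (LP (LK LD1_c4 LD2_c4 LD3_c4)) = v12316 :=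
  Lrfl
theorem f689330 : Led Lsl_af (LP (LK LD1_c4 LD2_c4 LD3_c4)) = v12316 :=
  Lgr Lrot0 (Lpr_at (f689329 IH) (Lpn v12316))
theorem f689331 : Led Lsl_ft (LP (LK LD1_c4 LD2_c4 LD3_c5)) = v12316 :=
  Lgr Lrot2 (Lpr_gt (K21.f211325 IH) (Lpr_gt (K20.f211311 IH) (Lpr_af (f689330 IH) (Lpn v12316))))
theorem f689334 : Led Lsl_af (LP (LK LD1_c4 LD2_c4 LD3_c5)) = v12317 :=
  Lgr Lrot45 (Lpr_ft (f689331 IH) (Lpe (f689330 IH) (Lpr_ft (f689333 IH) (Lpn v12317))))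
theorem f689339 : Led Lsl_af (LP (LK LD1_c5 LD2_c32 LD3_c31)) = (LP (LK LD1_c8 LD2_c8 LD3_c51)) :=
  Lgr Lrot36 (Lpr_bt (K25.f282497 IH) (Lpr_at (f638436 IH) (Lpr_bt (f689338 IH) (Lpe (f689334 IH) (Lpr_bt (K25.f328124 IH) (Lpn (LP (LK LD1_c8 LD2_c8 LD3_c51))))))))
theorem f689340 : Led Lsl_at (LP (LK LD1_c8 LD2_c8 LD3_c51)) = (LP (LK LD1_c5 LD2_c32 LD3_c31)) :=
  Leop (Lpr_af (f689339 IH) (Lpn (LP (LK LD1_c8 LD2_c8 LD3_c51))))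
theorem seed_600 : LEOK LG_a (LK LD1_c8 LD2_c8 LD3_c51) :=
  Leoe_a (LK LD1_c8 LD2_c8 LD3_c51) (f689340 IH)
def v12325 : LQ := Led Lsl_at (LP (LK LD1_c4 LD2_c5 LD3_c29))
theorem f690953 : Led Lsl_at (LP (LK LD1_c4 LD2_c5 LD3_c29)) = v12325 :=
  Lrfl
theorem f690954 : Led Lsl_af (LP (LK LD1_c4 LD2_c5 LD3_c29)) = v12325 :=
  Lgr Lrot0 (Lpr_at (f690953 IH) (Lpn v12325))
theorem f690957 : Led Lsl_ft (LP (LK LD1_c4 LD2_c5 LD3_c30)) = v12325 :=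
  Lgr Lrot2 (Lpr_gt (K21.f237981 IH) (Lpr_gt (K26.f237982 IH) (Lpr_af (f690954 IH) (Lpn v12325))))
theorem f363407 : Led Lsl_et (LP (LK LD1_c2 LD2_c25 LD3_c53)) = (LP (LK LD1_c4 LD2_c5 LD3_c29)) :=
  Lgr Lrot71 (Lpr_df (K26.f363400 IH) (Lpe (K26.f363385 IH) (Lpe (K26.f334362 IH) (Lpr_ef (K26.f355186 IH) (Lpe (K26.f237984 IH) (Lpn (LP (LK LD1_c4 LD2_c5 LD3_c29))))))))
def v4539 : LQ := Led Lsl_ft (LP (LK LD1_c2 LD2_c25 LD3_c52))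
theorem f636023 : Led Lsl_ft (LP (LK LD1_c2 LD2_c25 LD3_c52)) = v4539 :=
  Lrfl
def v4538 : LQ := Led Lsl_at (LP (LK LD1_c2 LD2_c25 LD3_c52))
theorem f636019 : Led Lsl_at (LP (LK LD1_c2 LD2_c25 LD3_c52)) = v4538 :=
  Lrfl
theorem f636020 : Led Lsl_af (LP (LK LD1_c2 LD2_c25 LD3_c52)) = v4538 :=
  Lgr Lrot0 (Lpr_at (f636019 IH) (Lpn v4538))
theorem f636021 : Led Lsl_ft (LP (LK LD1_c2 LD2_c25 LD3_c53)) = v4538 :=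
  Lgr Lrot2 (Lpr_gt (K26.f168888 IH) (Lpr_gt (K25.f168886 IH) (Lpr_af (f636020 IH) (Lpn v4538))))
theorem f636024 : Led Lsl_af (LP (LK LD1_c2 LD2_c25 LD3_c53)) = v4539 :=
  Lgr Lrot45 (Lpr_ft (f636021 IH) (Lpe (f636020 IH) (Lpr_ft (f636023 IH) (Lpn v4539))))
theorem f690955 : Led Lsl_ef v4539 = v12325 :=
  Lgr Lrot20 (Lpe (f636024 IH) (Lpr_et (f363407 IH) (Lpr_at (f690953 IH) (Lpn v12325))))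
theorem f636025 : Led Lsl_ff (LP (LK LD1_c2 LD2_c25 LD3_c52)) = v4539 :=
  Lgr Lrot3 (Lpr_ft (f636023 IH) (Lpn v4539))
theorem f690958 : Led Lsl_ff (LP (LK LD1_c8 LD2_c11 LD3_c58)) = (LP (LK LD1_c4 LD2_c56 LD3_c8)) :=
  Lgr Lrot72 (Lpr_et (K26.f237983 IH) (Lpr_ft (f690957 IH) (Lpe (f690955 IH) (Lpe (f636025 IH) (Lpr_et (K25.f358436 IH) (Lpn (LP (LK LD1_c4 LD2_c56 LD3_c8))))))))
theorem f690959 : Led Lsl_ft (LP (LK LD1_c4 LD2_c56 LD3_c8)) = (LP (LK LD1_c8 LD2_c11 LD3_c58)) :=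
  Leop (Lpr_ff (f690958 IH) (Lpn (LP (LK LD1_c4 LD2_c56 LD3_c8))))
theorem seed_601 : LEOK LG_f (LK LD1_c4 LD2_c56 LD3_c8) :=
  Leoe_f (LK LD1_c4 LD2_c56 LD3_c8) (f690959 IH)
def v12330 : LQ := Led Lsl_et (LP (LK LD1_c4 LD2_c5 LD3_c36))
theorem f691508 : Led Lsl_et (LP (LK LD1_c4 LD2_c5 LD3_c36)) = v12330 :=
  Lrfl
theorem f691512 : Led Lsl_ef (LP (LK LD1_c4 LD2_c5 LD3_c36)) = v12330 :=
  Lgr Lrot88 (Lpr_et (f691508 IH) (Lpn v12330))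
theorem f161050 : Led Lsl_dt (LP (LK LD1_c5 LD2_c56 LD3_c39)) = (LP (LK LD1_c2 LD2_c54 LD3_c38)) :=
  Lre_d IH (LK LD1_c5 LD2_c56 LD3_c39) (LK LD1_c2 LD2_c54 LD3_c38) Lrfl Lrfl
theorem f157108 : Led Lsl_gt (LP (LK LD1_c5 LD2_c56 LD3_c38)) = (LP (LK LD1_c2 LD2_c54 LD3_c38)) :=
  Lre_g IH (LK LD1_c5 LD2_c56 LD3_c38) (LK LD1_c2 LD2_c54 LD3_c38) Lrfl Lrfl
theorem f161051 : Led Lsl_dt (LP (LK LD1_c11 LD2_c38 LD3_c36)) = (LP (LK LD1_c5 LD2_c56 LD3_c38)) :=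
  Lre_d IH (LK LD1_c11 LD2_c38 LD3_c36) (LK LD1_c5 LD2_c56 LD3_c38) Lrfl Lrfl
theorem f428912 : Led Lsl_et (LP (LK LD1_c4 LD2_c36 LD3_c40)) = (LP (LK LD1_c2 LD2_c15 LD3_c32)) :=
  Lre_e IH (LK LD1_c4 LD2_c36 LD3_c40) (LK LD1_c2 LD2_c15 LD3_c32) Lrfl Lrfl
theorem f691511 : Led Lsl_df (LP (LK LD1_c4 LD2_c36 LD3_c40)) = v12330 :=
  Lgr Lrot70 (Lpr_et (f428912 IH) (Lpr_dt (K7.f141256 IH) (Lpr_et (K35.f494428 IH) (Lpqs (K35.f538315 IH) (Lpr_dt (K38.f211644 IH) (Lpr_et (f691508 IH) (Lpn v12330)))))))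
theorem f69214 : Led Lsl_dt (LP (LK LD1_c2 LD2_c57 LD3_c18)) = (LP (LK LD1_c6 LD2_c2 LD3_c28)) :=
  Lre_d IH (LK LD1_c2 LD2_c57 LD3_c18) (LK LD1_c6 LD2_c2 LD3_c28) Lrfl Lrfl
theorem f614894 : Led Lsl_df (LP (LK LD1_c6 LD2_c2 LD3_c15)) = (LP (LK LD1_c5 LD2_c55 LD3_c13)) :=
  Lgr Lrot78 (Lpr_ft (K45.f614890 IH) (Lpr_dt (f69214 IH) (Lpr_ft (K45.f614610 IH) (Lpn (LP (LK LD1_c5 LD2_c55 LD3_c13))))))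
theorem f142129 : Led Lsl_et (LP (LK LD1_c1 LD2_c36 LD3_c34)) = (LP (LK LD1_c0 LD2_c44 LD3_c44)) :=
  Lre_e IH (LK LD1_c1 LD2_c36 LD3_c34) (LK LD1_c0 LD2_c44 LD3_c44) Lrfl Lrfl
theorem f142125 : Led Lsl_et (LP (LK LD1_c2 LD2_c15 LD3_c32)) = (LP (LK LD1_c4 LD2_c36 LD3_c40)) :=
  Lre_e IH (LK LD1_c2 LD2_c15 LD3_c32) (LK LD1_c4 LD2_c36 LD3_c40) Lrfl Lrfl
theorem f508541 : Led Lsl_et (LP (LK LD1_c5 LD2_c55 LD3_c13)) = (LP (LK LD1_c2 LD2_c53 LD3_c56)) :=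
  Lre_e IH (LK LD1_c5 LD2_c55 LD3_c13) (LK LD1_c2 LD2_c53 LD3_c56) Lrfl Lrfl
theorem f614979 : Led Lsl_gt (LP (LK LD1_c4 LD2_c36 LD3_c40)) = (LP (LK LD1_c2 LD2_c53 LD3_c56)) :=
  Lgr Lrot131 (Lpe (f142125 IH) (Lpr_dt (K7.f141256 IH) (Lpr_gf (K6.f141984 IH) (Lpe (K6.f40099 IH) (Lpe (K4.f40100 IH) (Lpe (f142129 IH) (Lpr_dt (K45.f509242 IH) (Lpqs (K45.f557974 IH) (Lpe (K45.f69259 IH) (Lpr_df (f614894 IH) (Lpr_et (f508541 IH) (Lpn (LP (LK LD1_c2 LD2_c53 LD3_c56))))))))))))))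
theorem f435627 : Led Lsl_dt (LP (LK LD1_c5 LD2_c55 LD3_c12)) = (LP (LK LD1_c2 LD2_c53 LD3_c56)) :=
  Lre_d IH (LK LD1_c5 LD2_c55 LD3_c12) (LK LD1_c2 LD2_c53 LD3_c56) Lrfl Lrfl
theorem f614981 : Led Lsl_et (LP (LK LD1_c5 LD2_c55 LD3_c12)) = (LP (LK LD1_c11 LD2_c35 LD3_c57)) :=
  Lre_e IH (LK LD1_c5 LD2_c55 LD3_c12) (LK LD1_c11 LD2_c35 LD3_c57) Lrfl Lrfl
theorem f691516 : Led Lsl_gf (LP (LK LD1_c11 LD2_c38 LD3_c36)) = (LP (LK LD1_c11 LD2_c35 LD3_c57)) :=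
  Lgr Lrot138 (Lpr_dt (f161051 IH) (Lpr_gt (f157108 IH) (Lpe (f161050 IH) (Lpr_et (K42.f161040 IH) (Lpe (K38.f545116 IH) (Lpr_ef (f691512 IH) (Lpe (f691511 IH) (Lpr_gt (f614979 IH) (Lpe (f435627 IH) (Lpr_et (f614981 IH) (Lpn (LP (LK LD1_c11 LD2_c35 LD3_c57)))))))))))))
theorem f691517 : Led Lsl_gt (LP (LK LD1_c11 LD2_c35 LD3_c57)) = (LP (LK LD1_c11 LD2_c38 LD3_c36)) :=
  Leop (Lpr_gf (f691516 IH) (Lpn (LP (LK LD1_c11 LD2_c35 LD3_c57))))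
theorem seed_602 : LEOK LG_g (LK LD1_c11 LD2_c35 LD3_c57) :=
  Leoe_g (LK LD1_c11 LD2_c35 LD3_c57) (f691517 IH)
def v12331 : LQ := Led Lsl_ft (LP (LK LD1_c4 LD2_c5 LD3_c42))
theorem f691519 : Led Lsl_ft (LP (LK LD1_c4 LD2_c5 LD3_c42)) = v12331 :=
  Lrfl
theorem f175351 : Led Lsl_gt (LP (LK LD1_c4 LD2_c5 LD3_c42)) = (LP (LK LD1_c8 LD2_c12 LD3_c8)) :=
  Lre_g IH (LK LD1_c4 LD2_c5 LD3_c42) (LK LD1_c8 LD2_c12 LD3_c8) Lrfl Lrfl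
def v5166 : LQ := Led Lsl_ft (LP (LK LD1_c3 LD2_c0 LD3_c22))
theorem f646319 : Led Lsl_ft (LP (LK LD1_c3 LD2_c0 LD3_c22)) = v5166 :=
  Lrfl
theorem f646322 : Led Lsl_ff (LP (LK LD1_c3 LD2_c0 LD3_c22)) = v5166 :=
  Lgr Lrot3 (Lpr_ft (f646319 IH) (Lpn v5166))
theorem f691520 : Led Lsl_af v5166 = v12331 :=
  Lgr Lrot45 (Lpe (f646322 IH) (Lpe (K36.f412396 IH) (Lpr_ft (f691519 IH) (Lpn v12331))))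
theorem f691524 : Led Lsl_gt (LP (LK LD1_c8 LD2_c12 LD3_c8)) = v5166 :=
  Lgr Lrot46 (Lpe (f175351 IH) (Lpr_ft (f691519 IH) (Lpe (f691520 IH) (Lpn v5166))))
theorem f176039 : Led Lsl_ft (LP (LK LD1_c4 LD2_c39 LD3_c15)) = (LP (LK LD1_c9 LD2_c14 LD3_c9)) :=
  Lre_f IH (LK LD1_c4 LD2_c39 LD3_c15) (LK LD1_c9 LD2_c14 LD3_c9) Lrfl Lrfl
theorem f646323 : Led Lsl_dt (LP (LK LD1_c9 LD2_c14 LD3_c9)) = v5166 :=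
  Lgr Lrot60 (Lpe (f176039 IH) (Lpe (K36.f175925 IH) (Lpr_ff (f646322 IH) (Lpn v5166))))
theorem f268290 : Led Lsl_ft (LP (LK LD1_c6 LD2_c3 LD3_c35)) = (LP (LK LD1_c2 LD2_c57 LD3_c55)) :=
  Lre_f IH (LK LD1_c6 LD2_c3 LD3_c35) (LK LD1_c2 LD2_c57 LD3_c55) Lrfl Lrfl
theorem f412398 : Led Lsl_af (LP (LK LD1_c6 LD2_c3 LD3_c35)) = (LP (LK LD1_c9 LD2_c14 LD3_c9)) :=
  Lgr Lrot45 (Lpr_ft (f268290 IH) (Lpr_at (K36.f412392 IH) (Lpr_ft (f176039 IH) (Lpn (LP (LK LD1_c9 LD2_c14 LD3_c9))))))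
theorem f176089 : Led Lsl_et (LP (LK LD1_c9 LD2_c14 LD3_c15)) = (LP (LK LD1_c4 LD2_c39 LD3_c18)) :=
  Lre_e IH (LK LD1_c9 LD2_c14 LD3_c15) (LK LD1_c4 LD2_c39 LD3_c18) Lrfl Lrfl
theorem f268328 : Led Lsl_at (LP (LK LD1_c6 LD2_c3 LD3_c37)) = (LP (LK LD1_c9 LD2_c14 LD3_c15)) :=
  Lgr Lrot80 (Lpe (f175686 IH) (Lpr_af (K15.f268322 IH) (Lpe (f176089 IH) (Lpn (LP (LK LD1_c9 LD2_c14 LD3_c15))))))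
theorem f268335 : Led Lsl_ct (LP (LK LD1_c2 LD2_c57 LD3_c57)) = (LP (LK LD1_c6 LD2_c3 LD3_c37)) :=
  Lre_c IH (LK LD1_c2 LD2_c57 LD3_c57) (LK LD1_c6 LD2_c3 LD3_c37) Lrfl Lrfl
theorem f268336 : Led Lsl_ct (LP (LK LD1_c9 LD2_c14 LD3_c15)) = (LP (LK LD1_c4 LD2_c39 LD3_c19)) :=
  Lre_c IH (LK LD1_c9 LD2_c14 LD3_c15) (LK LD1_c4 LD2_c39 LD3_c19) Lrfl Lrfl
theorem f268337 : Led Lsl_af (LP (LK LD1_c2 LD2_c57 LD3_c57)) = (LP (LK LD1_c4 LD2_c39 LD3_c19)) :=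
  Lgr Lrot68 (Lpr_ct (f268335 IH) (Lpr_at (f268328 IH) (Lpr_ct (f268336 IH) (Lpn (LP (LK LD1_c4 LD2_c39 LD3_c19))))))
theorem f268344 : Led Lsl_ft (LP (LK LD1_c2 LD2_c57 LD3_c57)) = (LP (LK LD1_c6 LD2_c3 LD3_c40)) :=
  Lre_f IH (LK LD1_c2 LD2_c57 LD3_c57) (LK LD1_c6 LD2_c3 LD3_c40) Lrfl Lrfl
theorem f268345 : Led Lsl_at (LP (LK LD1_c6 LD2_c3 LD3_c40)) = (LP (LK LD1_c9 LD2_c14 LD3_c18)) :=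
  Lgr Lrot66 (Lpe (f268344 IH) (Lpr_af (f268337 IH) (Lpe (K36.f268277 IH) (Lpn (LP (LK LD1_c9 LD2_c14 LD3_c18))))))
theorem f268351 : Led Lsl_af (LP (LK LD1_c6 LD2_c3 LD3_c40)) = (LP (LK LD1_c9 LD2_c14 LD3_c18)) :=
  Lgr Lrot0 (Lpr_at (f268345 IH) (Lpn (LP (LK LD1_c9 LD2_c14 LD3_c18))))
theorem f412402 : Led Lsl_et (LP (LK LD1_c6 LD2_c3 LD3_c40)) = (LP (LK LD1_c9 LD2_c14 LD3_c9)) :=
  Lgr Lrot123 (Lpr_af (f268351 IH) (Lpe (K36.f268278 IH) (Lpr_af (f412398 IH) (Lpn (LP (LK LD1_c9 LD2_c14 LD3_c9))))))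
theorem f412404 : Led Lsl_ef (LP (LK LD1_c6 LD2_c3 LD3_c40)) = (LP (LK LD1_c9 LD2_c14 LD3_c9)) :=
  Lgr Lrot88 (Lpr_et (f412402 IH) (Lpn (LP (LK LD1_c9 LD2_c14 LD3_c9))))
theorem f268341 : Led Lsl_at (LP (LK LD1_c2 LD2_c57 LD3_c57)) = (LP (LK LD1_c4 LD2_c39 LD3_c19)) :=
  Lgr Lrot100 (Lpr_af (f268337 IH) (Lpn (LP (LK LD1_c4 LD2_c39 LD3_c19))))
theorem f268357 : Led Lsl_ft (LP (LK LD1_c6 LD2_c3 LD3_c40)) = (LP (LK LD1_c2 LD2_c57 LD3_c57)) :=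
  Lre_f IH (LK LD1_c6 LD2_c3 LD3_c40) (LK LD1_c2 LD2_c57 LD3_c57) Lrfl Lrfl
theorem f268365 : Led Lsl_gt (LP (LK LD1_c6 LD2_c3 LD3_c40)) = (LP (LK LD1_c9 LD2_c14 LD3_c17)) :=
  Lgr Lrot5 (Lpr_ft (f268357 IH) (Lpr_at (f268341 IH) (Lpe (K35.f268364 IH) (Lpn (LP (LK LD1_c9 LD2_c14 LD3_c17))))))
theorem f494588 : Led Lsl_et (LP (LK LD1_c4 LD2_c49 LD3_c18)) = (LP (LK LD1_c9 LD2_c14 LD3_c17)) :=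
  Lgr Lrot87 (Lpr_ef (K35.f494584 IH) (Lpn (LP (LK LD1_c9 LD2_c14 LD3_c17))))
theorem f417054 : Led Lsl_ft (LP (LK LD1_c5 LD2_c55 LD3_c19)) = (LP (LK LD1_c2 LD2_c53 LD3_c61)) :=
  Lre_f IH (LK LD1_c5 LD2_c55 LD3_c19) (LK LD1_c2 LD2_c53 LD3_c61) Lrfl Lrfl
theorem f508101 : Led Lsl_dt (LP (LK LD1_c4 LD2_c49 LD3_c18)) = (LP (LK LD1_c5 LD2_c55 LD3_c19)) :=
  Lgr Lrot60 (Lpr_ff (K35.f508095 IH) (Lpe (K24.f180326 IH) (Lpe (f417054 IH) (Lpn (LP (LK LD1_c5 LD2_c55 LD3_c19))))))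
theorem f508137 : Led Lsl_gf (LP (LK LD1_c3 LD2_c0 LD3_c48)) = (LP (LK LD1_c5 LD2_c55 LD3_c19)) :=
  Lgr Lrot148 (Lpr_dt (K0.f22942 IH) (Lpr_gt (K24.f22954 IH) (Lpr_dt (K17.f22955 IH) (Lpr_ct (K17.f22961 IH) (Lpe (K16.f22957 IH) (Lpe (K9.f22958 IH) (Lpe (K24.f22959 IH) (Lpr_gf (K24.f416793 IH) (Lpr_ct (K35.f508131 IH) (Lpn (LP (LK LD1_c5 LD2_c55 LD3_c19))))))))))))
theorem f22953 : Led Lsl_et (LP (LK LD1_c1 LD2_c36 LD3_c49)) = (LP (LK LD1_c3 LD2_c21 LD3_c6)) :=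
  Lre_e IH (LK LD1_c1 LD2_c36 LD3_c49) (LK LD1_c3 LD2_c21 LD3_c6) Lrfl Lrfl
theorem f23091 : Led Lsl_gt (LP (LK LD1_c3 LD2_c21 LD3_c6)) = (LP (LK LD1_c6 LD2_c46 LD3_c4)) :=
  Lre_g IH (LK LD1_c3 LD2_c21 LD3_c6) (LK LD1_c6 LD2_c46 LD3_c4) Lrfl Lrfl
theorem f691528 : Led Lsl_df (LP (LK LD1_c8 LD2_c12 LD3_c8)) = (LP (LK LD1_c6 LD2_c46 LD3_c4)) :=
  Lgr Lrot135 (Lpr_gt (f691524 IH) (Lpe (f646323 IH) (Lpe (f412404 IH) (Lpr_gt (f268365 IH) (Lpe (f494588 IH) (Lpr_dt (f508101 IH) (Lpe (f508137 IH) (Lpr_df (K9.f22949 IH) (Lpr_et (f22953 IH) (Lpr_gt (f23091 IH) (Lpn (LP (LK LD1_c6 LD2_c46 LD3_c4)))))))))))))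
theorem f691529 : Led Lsl_dt (LP (LK LD1_c6 LD2_c46 LD3_c4)) = (LP (LK LD1_c8 LD2_c12 LD3_c8)) :=
  Leop (Lpr_df (f691528 IH) (Lpn (LP (LK LD1_c6 LD2_c46 LD3_c4))))
theorem seed_603 : LEOK LG_d (LK LD1_c6 LD2_c46 LD3_c4) :=
  Leoe_d (LK LD1_c6 LD2_c46 LD3_c4) (f691529 IH)
theorem f691523 : Led Lsl_ff (LP (LK LD1_c4 LD2_c5 LD3_c42)) = v12331 :=
  Lgr Lrot3 (Lpr_ft (f691519 IH) (Lpn v12331))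
theorem f412408 : Led Lsl_at (LP (LK LD1_c4 LD2_c5 LD3_c42)) = (LP (LK LD1_c3 LD2_c0 LD3_c22)) :=
  Lgr Lrot100 (Lpr_af (K36.f412396 IH) (Lpn (LP (LK LD1_c3 LD2_c0 LD3_c22))))
theorem f691535 : Led Lsl_at v5166 = v12331 :=
  Lgr Lrot66 (Lpe (f646319 IH) (Lpe (f412408 IH) (Lpr_ff (f691523 IH) (Lpn v12331))))
theorem f176041 : Led Lsl_gt (LP (LK LD1_c3 LD2_c0 LD3_c22)) = (LP (LK LD1_c6 LD2_c8 LD3_c17)) :=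
  Lre_g IH (LK LD1_c3 LD2_c0 LD3_c22) (LK LD1_c6 LD2_c8 LD3_c17) Lrfl Lrfl
theorem f691539 : Led Lsl_gt (LP (LK LD1_c6 LD2_c8 LD3_c17)) = v12331 :=
  Lgr Lrot46 (Lpe (f176041 IH) (Lpr_ft (f646319 IH) (Lpr_at (f691535 IH) (Lpn v12331))))
theorem f691536 : Led Lsl_dt (LP (LK LD1_c6 LD2_c3 LD3_c35)) = v12331 :=
  Lgr Lrot60 (Lpe (K36.f175347 IH) (Lpr_df (K36.f175340 IH) (Lpr_ff (f691523 IH) (Lpn v12331))))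
theorem f268348 : Led Lsl_gf (LP (LK LD1_c6 LD2_c3 LD3_c39)) = (LP (LK LD1_c9 LD2_c14 LD3_c18)) :=
  Lgr Lrot47 (Lpr_gt (K35.f268347 IH) (Lpr_af (f268337 IH) (Lpe (K36.f268277 IH) (Lpn (LP (LK LD1_c9 LD2_c14 LD3_c18))))))
theorem f27103 : Led Lsl_et (LP (LK LD1_c2 LD2_c22 LD3_c33)) = (LP (LK LD1_c4 LD2_c49 LD3_c35)) :=
  Lre_e IH (LK LD1_c2 LD2_c22 LD3_c33) (LK LD1_c4 LD2_c49 LD3_c35) Lrfl Lrfl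
theorem f416626 : Led Lsl_gt (LP (LK LD1_c4 LD2_c49 LD3_c35)) = (LP (LK LD1_c9 LD2_c31 LD3_c50)) :=
  Lre_g IH (LK LD1_c4 LD2_c49 LD3_c35) (LK LD1_c9 LD2_c31 LD3_c50) Lrfl Lrfl
theorem f691540 : Led Lsl_df (LP (LK LD1_c6 LD2_c8 LD3_c17)) = (LP (LK LD1_c9 LD2_c31 LD3_c50)) :=
  Lgr Lrot135 (Lpr_gt (f691539 IH) (Lpe (f691536 IH) (Lpr_et (K36.f268278 IH) (Lpe (f268348 IH) (Lpr_ef (K35.f416731 IH) (Lpr_dt (K24.f415146 IH) (Lpe (K24.f416620 IH) (Lpe (K17.f27101 IH) (Lpr_et (f27103 IH) (Lpr_gt (f416626 IH) (Lpn (LP (LK LD1_c9 LD2_c31 LD3_c50)))))))))))))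
theorem f691541 : Led Lsl_dt (LP (LK LD1_c9 LD2_c31 LD3_c50)) = (LP (LK LD1_c6 LD2_c8 LD3_c17)) :=
  Leop (Lpr_df (f691540 IH) (Lpn (LP (LK LD1_c9 LD2_c31 LD3_c50))))
theorem seed_604 : LEOK LG_d (LK LD1_c9 LD2_c31 LD3_c50) :=
  Leoe_d (LK LD1_c9 LD2_c31 LD3_c50) (f691541 IH)
def v12333 : LQ := Led Lsl_ft (LP (LK LD1_c4 LD2_c5 LD3_c46))
theorem f691548 : Led Lsl_ft (LP (LK LD1_c4 LD2_c5 LD3_c46)) = v12333 :=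
  Lrfl
def v12332 : LQ := Led Lsl_gt (LP (LK LD1_c4 LD2_c5 LD3_c46))
theorem f691547 : Led Lsl_gt (LP (LK LD1_c4 LD2_c5 LD3_c46)) = v12332 :=
  Lrfl
theorem f198569 : Led Lsl_et (LP (LK LD1_c3 LD2_c0 LD3_c4)) = (LP (LK LD1_c6 LD2_c7 LD3_c48)) :=
  Lre_e IH (LK LD1_c3 LD2_c0 LD3_c4) (LK LD1_c6 LD2_c7 LD3_c48) Lrfl Lrfl
theorem f385307 : Led Lsl_af (LP (LK LD1_c5 LD2_c53 LD3_c14)) = (LP (LK LD1_c6 LD2_c7 LD3_c48)) :=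
  Lgr Lrot50 (Lpr_et (K41.f198534 IH) (Lpr_at (K30.f385302 IH) (Lpr_et (f198569 IH) (Lpn (LP (LK LD1_c6 LD2_c7 LD3_c48))))))
theorem f183448 : Led Lsl_dt (LP (LK LD1_c3 LD2_c0 LD3_c3)) = (LP (LK LD1_c6 LD2_c7 LD3_c48)) :=
  Lre_d IH (LK LD1_c3 LD2_c0 LD3_c3) (LK LD1_c6 LD2_c7 LD3_c48) Lrfl Lrfl
theorem f385312 : Led Lsl_at (LP (LK LD1_c4 LD2_c5 LD3_c46)) = (LP (LK LD1_c3 LD2_c0 LD3_c3)) :=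
  Lgr Lrot51 (Lpe (K40.f198525 IH) (Lpr_af (f385307 IH) (Lpe (f183448 IH) (Lpn (LP (LK LD1_c3 LD2_c0 LD3_c3))))))
theorem f385314 : Led Lsl_af (LP (LK LD1_c4 LD2_c5 LD3_c46)) = (LP (LK LD1_c3 LD2_c0 LD3_c3)) :=
  Lgr Lrot0 (Lpr_at (f385312 IH) (Lpn (LP (LK LD1_c3 LD2_c0 LD3_c3))))
theorem f183458 : Led Lsl_ft (LP (LK LD1_c6 LD2_c7 LD3_c49)) = (LP (LK LD1_c3 LD2_c0 LD3_c3)) :=
  Lre_f IH (LK LD1_c6 LD2_c7 LD3_c49) (LK LD1_c3 LD2_c0 LD3_c3) Lrfl Lrfl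
theorem f691549 : Led Lsl_af (LP (LK LD1_c6 LD2_c7 LD3_c49)) = v12333 :=
  Lgr Lrot45 (Lpr_ft (f183458 IH) (Lpe (f385314 IH) (Lpr_ft (f691548 IH) (Lpn v12333))))
theorem f691552 : Led Lsl_gt v12332 = (LP (LK LD1_c6 LD2_c7 LD3_c49)) :=
  Lgr Lrot46 (Lpe (f691547 IH) (Lpr_ft (f691548 IH) (Lpe (f691549 IH) (Lpn (LP (LK LD1_c6 LD2_c7 LD3_c49))))))
theorem f385319 : Led Lsl_gf (LP (LK LD1_c8 LD2_c12 LD3_c14)) = (LP (LK LD1_c6 LD2_c7 LD3_c49)) :=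
  Lgr Lrot47 (Lpr_gt (K41.f182484 IH) (Lpr_af (f385314 IH) (Lpe (f183458 IH) (Lpn (LP (LK LD1_c6 LD2_c7 LD3_c49))))))
theorem f140101 : Led Lsl_dt (LP (LK LD1_c4 LD2_c39 LD3_c6)) = (LP (LK LD1_c9 LD2_c13 LD3_c61)) :=
  Lre_d IH (LK LD1_c4 LD2_c39 LD3_c6) (LK LD1_c9 LD2_c13 LD3_c61) Lrfl Lrfl
theorem f507745 : Led Lsl_ft (LP (LK LD1_c9 LD2_c13 LD3_c61)) = (LP (LK LD1_c6 LD2_c2 LD3_c40)) :=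
  Lgr Lrot54 (Lpe (f140101 IH) (Lpr_ff (K35.f507741 IH) (Lpe (K29.f411196 IH) (Lpn (LP (LK LD1_c6 LD2_c2 LD3_c40))))))
theorem f506982 : Led Lsl_at (LP (LK LD1_c6 LD2_c2 LD3_c40)) = (LP (LK LD1_c9 LD2_c13 LD3_c38)) :=
  Lgr Lrot100 (Lpr_af (K35.f506980 IH) (Lpn (LP (LK LD1_c9 LD2_c13 LD3_c38))))
theorem f507776 : Led Lsl_af (LP (LK LD1_c9 LD2_c13 LD3_c61)) = (LP (LK LD1_c6 LD2_c3 LD3_c7)) :=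
  Lgr Lrot45 (Lpr_ft (f507745 IH) (Lpr_at (f506982 IH) (Lpe (K35.f506991 IH) (Lpn (LP (LK LD1_c6 LD2_c3 LD3_c7))))))
theorem f645382 : Led Lsl_at (LP (LK LD1_c6 LD2_c7 LD3_c47)) = (LP (LK LD1_c8 LD2_c12 LD3_c14)) :=
  Lgr Lrot80 (Lpr_ef (K46.f645380 IH) (Lpr_af (f507776 IH) (Lpe (K41.f641193 IH) (Lpn (LP (LK LD1_c8 LD2_c12 LD3_c14))))))
theorem f691553 : Led Lsl_ft v12332 = (LP (LK LD1_c6 LD2_c7 LD3_c47)) :=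
  Lgr Lrot2 (Lpr_gt (f691552 IH) (Lpe (f385319 IH) (Lpe (f645382 IH) (Lpn (LP (LK LD1_c6 LD2_c7 LD3_c47))))))
theorem f691554 : Led Lsl_ff v12332 = (LP (LK LD1_c6 LD2_c7 LD3_c47)) :=
  Lgr Lrot3 (Lpr_ft (f691553 IH) (Lpn (LP (LK LD1_c6 LD2_c7 LD3_c47))))
theorem f183450 : Led Lsl_gt (LP (LK LD1_c3 LD2_c0 LD3_c3)) = (LP (LK LD1_c6 LD2_c7 LD3_c46)) :=
  Lre_g IH (LK LD1_c3 LD2_c0 LD3_c3) (LK LD1_c6 LD2_c7 LD3_c46) Lrfl Lrfl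
theorem f691555 : Led Lsl_at v12332 = (LP (LK LD1_c6 LD2_c7 LD3_c46)) :=
  Lgr Lrot26 (Lpr_ff (f691554 IH) (Lpr_gt (K46.f183453 IH) (Lpr_gt (f183450 IH) (Lpn (LP (LK LD1_c6 LD2_c7 LD3_c46))))))
theorem f645385 : Led Lsl_et (LP (LK LD1_c6 LD2_c7 LD3_c47)) = (LP (LK LD1_c9 LD2_c13 LD3_c61)) :=
  Lgr Lrot87 (Lpr_ef (K46.f645380 IH) (Lpn (LP (LK LD1_c9 LD2_c13 LD3_c61))))
theorem f507778 : Led Lsl_at (LP (LK LD1_c9 LD2_c13 LD3_c61)) = (LP (LK LD1_c6 LD2_c3 LD3_c7)) :=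
  Lgr Lrot100 (Lpr_af (f507776 IH) (Lpn (LP (LK LD1_c6 LD2_c3 LD3_c7))))
theorem f641195 : Led Lsl_ef (LP (LK LD1_c8 LD2_c12 LD3_c14)) = (LP (LK LD1_c6 LD2_c3 LD3_c7)) :=
  Lgr Lrot88 (Lpr_et (K41.f641193 IH) (Lpn (LP (LK LD1_c6 LD2_c3 LD3_c7))))
theorem f645387 : Led Lsl_af (LP (LK LD1_c6 LD2_c7 LD3_c47)) = (LP (LK LD1_c8 LD2_c12 LD3_c14)) :=
  Lgr Lrot50 (Lpr_et (f645385 IH) (Lpr_at (f507778 IH) (Lpe (f641195 IH) (Lpn (LP (LK LD1_c8 LD2_c12 LD3_c14))))))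
theorem f691558 : Led Lsl_ff (LP (LK LD1_c8 LD2_c12 LD3_c14)) = (LP (LK LD1_c6 LD2_c7 LD3_c46)) :=
  Lgr Lrot30 (Lpe (f645387 IH) (Lpe (f691554 IH) (Lpr_at (f691555 IH) (Lpn (LP (LK LD1_c6 LD2_c7 LD3_c46))))))
theorem f691559 : Led Lsl_ft (LP (LK LD1_c6 LD2_c7 LD3_c46)) = (LP (LK LD1_c8 LD2_c12 LD3_c14)) :=
  Leop (Lpr_ff (f691558 IH) (Lpn (LP (LK LD1_c6 LD2_c7 LD3_c46))))
theorem seed_605 : LEOK LG_f (LK LD1_c6 LD2_c7 LD3_c46) :=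
  Leoe_f (LK LD1_c6 LD2_c7 LD3_c46) (f691559 IH)
def v12338 : LQ := Led Lsl_at (LP (LK LD1_c4 LD2_c6 LD3_c2))
theorem f691592 : Led Lsl_at (LP (LK LD1_c4 LD2_c6 LD3_c2)) = v12338 :=
  Lrfl
theorem f55478 : Led Lsl_at (LP (LK LD1_c8 LD2_c14 LD3_c35)) = (LP (LK LD1_c4 LD2_c7 LD3_c0)) :=
  Lre_a IH (LK LD1_c8 LD2_c14 LD3_c35) (LK LD1_c4 LD2_c7 LD3_c0) Lrfl Lrfl
theorem f691595 : Led Lsl_ff (LP (LK LD1_c8 LD2_c14 LD3_c35)) = v12338 :=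
  Lgr Lrot30 (Lpr_at (f55478 IH) (Lpr_ft (K1.f55473 IH) (Lpr_at (f691592 IH) (Lpn v12338))))
theorem f691598 : Led Lsl_ft (LP (LK LD1_c8 LD2_c14 LD3_c35)) = v12338 :=
  Lgr Lrot48 (Lpr_ff (f691595 IH) (Lpn v12338))
theorem f691593 : Led Lsl_af (LP (LK LD1_c4 LD2_c6 LD3_c2)) = v12338 :=
  Lgr Lrot0 (Lpr_at (f691592 IH) (Lpn v12338))
theorem f177400 : Led Lsl_gt (LP (LK LD1_c8 LD2_c12 LD3_c51)) = (LP (LK LD1_c4 LD2_c6 LD3_c2)) :=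
  Lre_g IH (LK LD1_c8 LD2_c12 LD3_c51) (LK LD1_c4 LD2_c6 LD3_c2) Lrfl Lrfl
theorem f691600 : Led Lsl_gt (LP (LK LD1_c8 LD2_c14 LD3_c35)) = (LP (LK LD1_c8 LD2_c12 LD3_c51)) :=
  Lgr Lrot5 (Lpr_ft (f691598 IH) (Lpe (f691593 IH) (Lpe (f177400 IH) (Lpn (LP (LK LD1_c8 LD2_c12 LD3_c51))))))
theorem f691601 : Led Lsl_gt (LP (LK LD1_c8 LD2_c14 LD3_c35)) = (LP (LK LD1_c8 LD2_c12 LD3_c51)) :=
  Leop (Lpe (f691600 IH) (Lpn (LP (LK LD1_c8 LD2_c14 LD3_c35))))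
theorem seed_606 : LEOK LG_g (LK LD1_c8 LD2_c14 LD3_c35) :=
  Leoe_g (LK LD1_c8 LD2_c14 LD3_c35) (f691601 IH)
def v12370 : LQ := Led Lsl_ft (LP (LK LD1_c4 LD2_c7 LD3_c22))
theorem f691753 : Led Lsl_ft (LP (LK LD1_c4 LD2_c7 LD3_c22)) = v12370 :=
  Lrfl
theorem f172070 : Led Lsl_gt (LP (LK LD1_c4 LD2_c7 LD3_c22)) = (LP (LK LD1_c8 LD2_c14 LD3_c55)) :=
  Lre_g IH (LK LD1_c4 LD2_c7 LD3_c22) (LK LD1_c8 LD2_c14 LD3_c55) Lrfl Lrfl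
theorem f176596 : Led Lsl_ft (LP (LK LD1_c6 LD2_c7 LD3_c25)) = (LP (LK LD1_c2 LD2_c59 LD3_c52)) :=
  Lre_f IH (LK LD1_c6 LD2_c7 LD3_c25) (LK LD1_c2 LD2_c59 LD3_c52) Lrfl Lrfl
theorem f691754 : Led Lsl_af (LP (LK LD1_c6 LD2_c7 LD3_c25)) = v12370 :=
  Lgr Lrot45 (Lpr_ft (f176596 IH) (Lpr_at (K35.f334639 IH) (Lpr_ft (f691753 IH) (Lpn v12370))))
theorem f691758 : Led Lsl_gt (LP (LK LD1_c8 LD2_c14 LD3_c55)) = (LP (LK LD1_c6 LD2_c7 LD3_c25)) :=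
  Lgr Lrot46 (Lpe (f172070 IH) (Lpr_ft (f691753 IH) (Lpe (f691754 IH) (Lpn (LP (LK LD1_c6 LD2_c7 LD3_c25))))))
theorem f691759 : Led Lsl_gt (LP (LK LD1_c8 LD2_c14 LD3_c55)) = (LP (LK LD1_c6 LD2_c7 LD3_c25)) :=
  Leop (Lpe (f691758 IH) (Lpn (LP (LK LD1_c8 LD2_c14 LD3_c55))))
theorem seed_607 : LEOK LG_g (LK LD1_c8 LD2_c14 LD3_c55) :=
  Leoe_g (LK LD1_c8 LD2_c14 LD3_c55) (f691759 IH)
theorem f691757 : Led Lsl_ff (LP (LK LD1_c4 LD2_c7 LD3_c22)) = v12370 :=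
  Lgr Lrot3 (Lpr_ft (f691753 IH) (Lpn v12370))
theorem f334641 : Led Lsl_af (LP (LK LD1_c2 LD2_c59 LD3_c52)) = (LP (LK LD1_c4 LD2_c7 LD3_c22)) :=
  Lgr Lrot0 (Lpr_at (K35.f334639 IH) (Lpn (LP (LK LD1_c4 LD2_c7 LD3_c22))))
theorem f176583 : Led Lsl_ft (LP (LK LD1_c2 LD2_c59 LD3_c52)) = (LP (LK LD1_c6 LD2_c7 LD3_c25)) :=
  Lre_f IH (LK LD1_c2 LD2_c59 LD3_c52) (LK LD1_c6 LD2_c7 LD3_c25) Lrfl Lrfl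
theorem f691760 : Led Lsl_at (LP (LK LD1_c6 LD2_c7 LD3_c25)) = v12370 :=
  Lgr Lrot66 (Lpe (f176583 IH) (Lpr_af (f334641 IH) (Lpr_ff (f691757 IH) (Lpn v12370))))
theorem f176587 : Led Lsl_gt (LP (LK LD1_c2 LD2_c59 LD3_c52)) = (LP (LK LD1_c6 LD2_c7 LD3_c23)) :=
  Lre_g IH (LK LD1_c2 LD2_c59 LD3_c52) (LK LD1_c6 LD2_c7 LD3_c23) Lrfl Lrfl
theorem f691764 : Led Lsl_gt (LP (LK LD1_c6 LD2_c7 LD3_c23)) = v12370 :=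
  Lgr Lrot46 (Lpe (f176587 IH) (Lpr_ft (f176583 IH) (Lpr_at (f691760 IH) (Lpn v12370))))
theorem f176593 : Led Lsl_dt (LP (LK LD1_c11 LD2_c57 LD3_c32)) = (LP (LK LD1_c6 LD2_c7 LD3_c23)) :=
  Lre_d IH (LK LD1_c11 LD2_c57 LD3_c32) (LK LD1_c6 LD2_c7 LD3_c23) Lrfl Lrfl
theorem f172079 : Led Lsl_ft (LP (LK LD1_c2 LD2_c58 LD3_c8)) = (LP (LK LD1_c6 LD2_c4 LD3_c8)) :=
  Lre_f IH (LK LD1_c2 LD2_c58 LD3_c8) (LK LD1_c6 LD2_c4 LD3_c8) Lrfl Lrfl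
theorem f691761 : Led Lsl_dt (LP (LK LD1_c6 LD2_c4 LD3_c8)) = v12370 :=
  Lgr Lrot60 (Lpe (f172079 IH) (Lpr_df (K35.f172076 IH) (Lpr_ff (f691757 IH) (Lpn v12370))))
theorem f176618 : Led Lsl_et (LP (LK LD1_c4 LD2_c39 LD3_c33)) = (LP (LK LD1_c2 LD2_c16 LD3_c45)) :=
  Lre_e IH (LK LD1_c4 LD2_c39 LD3_c33) (LK LD1_c2 LD2_c16 LD3_c45) Lrfl Lrfl
theorem f334916 : Led Lsl_ef (LP (LK LD1_c9 LD2_c14 LD3_c46)) = (LP (LK LD1_c6 LD2_c4 LD3_c8)) :=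
  Lgr Lrot21 (Lpr_ft (K45.f334915 IH) (Lpr_et (f176618 IH) (Lpr_ft (K35.f334681 IH) (Lpr_et (K35.f22433 IH) (Lpr_ft (f172079 IH) (Lpn (LP (LK LD1_c6 LD2_c4 LD3_c8))))))))
def v4254 : LQ := Led Lsl_ct (LP (LK LD1_c2 LD2_c17 LD3_c40))
theorem f632232 : Led Lsl_ct (LP (LK LD1_c2 LD2_c17 LD3_c40)) = v4254 :=
  Lrfl
theorem f632239 : Led Lsl_gf (LP (LK LD1_c2 LD2_c52 LD3_c15)) = v4254 :=
  Lgr Lrot148 (Lpe (K17.f414095 IH) (Lpr_gt (K17.f414127 IH) (Lpr_dt (K17.f139998 IH) (Lpr_ct (K17.f141108 IH) (Lpe (K16.f27137 IH) (Lpr_gf (K17.f414522 IH) (Lpe (K17.f180336 IH) (Lpe (K35.f416614 IH) (Lpr_ct (f632232 IH) (Lpn v4254))))))))))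
def v3913 : LQ := Led Lsl_et K35.v1118
theorem f627877 : Led Lsl_et K35.v1118 = v3913 :=
  Lrfl
theorem f627878 : Led Lsl_af (LP (LK LD1_c2 LD2_c52 LD3_c15)) = v3913 :=
  Lgr Lrot50 (Lpr_et (K17.f20292 IH) (Lpr_at (K35.f500217 IH) (Lpqs (K35.f623411 IH) (Lpr_et (f627877 IH) (Lpn v3913)))))
theorem f500215 : Led Lsl_ft (LP (LK LD1_c5 LD2_c51 LD3_c57)) = (LP (LK LD1_c2 LD2_c52 LD3_c12)) :=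
  Lre_f IH (LK LD1_c5 LD2_c51 LD3_c57) (LK LD1_c2 LD2_c52 LD3_c12) Lrfl Lrfl
theorem f622868 : Led Lsl_et (LP (LK LD1_c6 LD2_c27 LD3_c2)) = (LP (LK LD1_c5 LD2_c51 LD3_c57)) :=
  Lgr Lrot158 (Lpe (K24.f67305 IH) (Lpe (K9.f67189 IH) (Lpr_cf (K35.f622866 IH) (Lpn (LP (LK LD1_c5 LD2_c51 LD3_c57))))))
theorem f627881 : Led Lsl_ff (LP (LK LD1_c6 LD2_c27 LD3_c2)) = v3913 :=
  Lgr Lrot72 (Lpr_et (f622868 IH) (Lpr_ft (f500215 IH) (Lpr_et (K35.f35539 IH) (Lpr_ft (K35.f500213 IH) (Lpqs (K35.f623411 IH) (Lpr_et (f627877 IH) (Lpn v3913)))))))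
theorem f627885 : Led Lsl_ft (LP (LK LD1_c6 LD2_c27 LD3_c2)) = v3913 :=
  Lgr Lrot48 (Lpr_ff (f627881 IH) (Lpn v3913))
theorem f632241 : Led Lsl_gt (LP (LK LD1_c6 LD2_c27 LD3_c2)) = v4254 :=
  Lgr Lrot5 (Lpr_ft (f627885 IH) (Lpe (f627878 IH) (Lpr_gf (f632239 IH) (Lpn v4254))))
theorem f632240 : Led Lsl_dt (LP (LK LD1_c3 LD2_c24 LD3_c8)) = v4254 :=
  Lgr Lrot113 (Lpe (K24.f413730 IH) (Lpe (K17.f413724 IH) (Lpe (K16.f413656 IH) (Lpr_ct (K17.f413732 IH) (Lpr_gt (K16.f20137 IH) (Lpr_dt (K24.f20136 IH) (Lpr_gt (K17.f20135 IH) (Lpr_dt (K24.f20128 IH) (Lpr_ct (f632232 IH) (Lpn v4254))))))))))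
theorem f414271 : Led Lsl_et (LP (LK LD1_c3 LD2_c24 LD3_c8)) = (LP (LK LD1_c6 LD2_c51 LD3_c16)) :=
  Lre_e IH (LK LD1_c3 LD2_c24 LD3_c8) (LK LD1_c6 LD2_c51 LD3_c16) Lrfl Lrfl
theorem f691765 : Led Lsl_gf (LP (LK LD1_c11 LD2_c57 LD3_c32)) = (LP (LK LD1_c6 LD2_c51 LD3_c16)) :=
  Lgr Lrot138 (Lpr_dt (f176593 IH) (Lpr_gt (f691764 IH) (Lpe (f691761 IH) (Lpe (f334916 IH) (Lpe (K45.f599820 IH) (Lpe (K42.f622533 IH) (Lpe (K24.f416525 IH) (Lpr_gt (f632241 IH) (Lpe (f632240 IH) (Lpr_et (f414271 IH) (Lpn (LP (LK LD1_c6 LD2_c51 LD3_c16)))))))))))))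
theorem f691766 : Led Lsl_gt (LP (LK LD1_c6 LD2_c51 LD3_c16)) = (LP (LK LD1_c11 LD2_c57 LD3_c32)) :=
  Leop (Lpr_gf (f691765 IH) (Lpn (LP (LK LD1_c6 LD2_c51 LD3_c16))))
theorem seed_608 : LEOK LG_g (LK LD1_c6 LD2_c51 LD3_c16) :=
  Leoe_g (LK LD1_c6 LD2_c51 LD3_c16) (f691766 IH)
def v12391 : LQ := Led Lsl_bt (LP (LK LD1_c4 LD2_c10 LD3_c27))
theorem f691882 : Led Lsl_bt (LP (LK LD1_c4 LD2_c10 LD3_c27)) = v12391 :=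
  Lrfl
theorem f691883 : Led Lsl_bf (LP (LK LD1_c4 LD2_c10 LD3_c27)) = v12391 :=
  Lgr Lrot24 (Lpr_bt (f691882 IH) (Lpn v12391))
theorem f171002 : Led Lsl_gt (LP (LK LD1_c2 LD2_c2 LD3_c28)) = (LP (LK LD1_c4 LD2_c10 LD3_c27)) :=
  Lre_g IH (LK LD1_c2 LD2_c2 LD3_c28) (LK LD1_c4 LD2_c10 LD3_c27) Lrfl Lrfl
theorem f170969 : Led Lsl_bt (LP (LK LD1_c0 LD2_c58 LD3_c7)) = (LP (LK LD1_c2 LD2_c2 LD3_c28)) :=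
  Lre_b IH (LK LD1_c0 LD2_c58 LD3_c7) (LK LD1_c2 LD2_c2 LD3_c28) Lrfl Lrfl
theorem f178349 : Led Lsl_gt (LP (LK LD1_c8 LD2_c25 LD3_c31)) = (LP (LK LD1_c4 LD2_c13 LD3_c8)) :=
  Lre_g IH (LK LD1_c8 LD2_c25 LD3_c31) (LK LD1_c4 LD2_c13 LD3_c8) Lrfl Lrfl
theorem f691885 : Led Lsl_cf (LP (LK LD1_c8 LD2_c25 LD3_c31)) = v12391 :=
  Lgr Lrot160 (Lpr_gt (f178349 IH) (Lpe (K19.f178348 IH) (Lpr_bt (K19.f178339 IH) (Lpe (K9.f178343 IH) (Lpr_ct (K9.f53442 IH) (Lpr_gt (K9.f53440 IH) (Lpe (K9.f170610 IH) (Lpr_bt (f170969 IH) (Lpr_gt (f171002 IH) (Lpr_bf (f691883 IH) (Lpn v12391)))))))))))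
theorem f691886 : Led Lsl_bt (LP (LK LD1_c8 LD2_c25 LD3_c31)) = (LP (LK LD1_c15 LD2_c49 LD3_c46)) :=
  Lre_b IH (LK LD1_c8 LD2_c25 LD3_c31) (LK LD1_c15 LD2_c49 LD3_c46) Lrfl Lrfl
theorem f178828 : Led Lsl_ct (LP (LK LD1_c8 LD2_c21 LD3_c7)) = (LP (LK LD1_c4 LD2_c10 LD3_c27)) :=
  Lre_c IH (LK LD1_c8 LD2_c21 LD3_c7) (LK LD1_c4 LD2_c10 LD3_c27) Lrfl Lrfl
theorem f691884 : Led Lsl_bt (LP (LK LD1_c15 LD2_c43 LD3_c13)) = (LP (LK LD1_c8 LD2_c21 LD3_c7)) :=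
  Lre_b IH (LK LD1_c15 LD2_c43 LD3_c13) (LK LD1_c8 LD2_c21 LD3_c7) Lrfl Lrfl
theorem f691887 : Led Lsl_ct (LP (LK LD1_c15 LD2_c49 LD3_c46)) = (LP (LK LD1_c15 LD2_c43 LD3_c13)) :=
  Lgr Lrot83 (Lpe (f691886 IH) (Lpr_cf (f691885 IH) (Lpe (f691882 IH) (Lpe (f178828 IH) (Lpe (f691884 IH) (Lpn (LP (LK LD1_c15 LD2_c43 LD3_c13))))))))
theorem f691888 : Led Lsl_ct (LP (LK LD1_c15 LD2_c49 LD3_c46)) = (LP (LK LD1_c15 LD2_c43 LD3_c13)) :=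
  Leop (Lpe (f691887 IH) (Lpn (LP (LK LD1_c15 LD2_c49 LD3_c46))))
theorem seed_609 : LEOK LG_c (LK LD1_c15 LD2_c49 LD3_c46) :=
  Leoe_c (LK LD1_c15 LD2_c49 LD3_c46) (f691888 IH)
def v12413 : LQ := Led Lsl_bt (LP (LK LD1_c4 LD2_c10 LD3_c53))
theorem f692049 : Led Lsl_bt (LP (LK LD1_c4 LD2_c10 LD3_c53)) = v12413 :=
  Lrfl
theorem f692050 : Led Lsl_bf (LP (LK LD1_c4 LD2_c10 LD3_c53)) = v12413 :=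
  Lgr Lrot24 (Lpr_bt (f692049 IH) (Lpn v12413))
theorem f53463 : Led Lsl_gt (LP (LK LD1_c2 LD2_c2 LD3_c42)) = (LP (LK LD1_c4 LD2_c10 LD3_c53)) :=
  Lre_g IH (LK LD1_c2 LD2_c2 LD3_c42) (LK LD1_c4 LD2_c10 LD3_c53) Lrfl Lrfl
theorem f53462 : Led Lsl_bt (LP (LK LD1_c0 LD2_c58 LD3_c15)) = (LP (LK LD1_c2 LD2_c2 LD3_c42)) :=
  Lre_b IH (LK LD1_c0 LD2_c58 LD3_c15) (LK LD1_c2 LD2_c2 LD3_c42) Lrfl Lrfl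
theorem f167074 : Led Lsl_bt (LP (LK LD1_c2 LD2_c3 LD3_c36)) = (LP (LK LD1_c0 LD2_c58 LD3_c44)) :=
  Lre_b IH (LK LD1_c2 LD2_c3 LD3_c36) (LK LD1_c0 LD2_c58 LD3_c44) Lrfl Lrfl
theorem f167089 : Led Lsl_ct (LP (LK LD1_c2 LD2_c3 LD3_c36)) = (LP (LK LD1_c4 LD2_c12 LD3_c26)) :=
  Lre_c IH (LK LD1_c2 LD2_c3 LD3_c36) (LK LD1_c4 LD2_c12 LD3_c26) Lrfl Lrfl
theorem f178844 : Led Lsl_gt (LP (LK LD1_c8 LD2_c24 LD3_c30)) = (LP (LK LD1_c4 LD2_c12 LD3_c26)) :=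
  Lre_g IH (LK LD1_c8 LD2_c24 LD3_c30) (LK LD1_c4 LD2_c12 LD3_c26) Lrfl Lrfl
theorem f692051 : Led Lsl_cf (LP (LK LD1_c8 LD2_c24 LD3_c30)) = v12413 :=
  Lgr Lrot160 (Lpr_gt (f178844 IH) (Lpe (f167089 IH) (Lpr_bt (f167074 IH) (Lpr_gt (K15.f178840 IH) (Lpr_ct (K15.f168326 IH) (Lpe (K9.f178830 IH) (Lpe (K9.f53461 IH) (Lpr_bt (f53462 IH) (Lpr_gt (f53463 IH) (Lpr_bf (f692050 IH) (Lpn v12413)))))))))))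
theorem f692052 : Led Lsl_bt (LP (LK LD1_c8 LD2_c24 LD3_c30)) = (LP (LK LD1_c15 LD2_c48 LD3_c28)) :=
  Lre_b IH (LK LD1_c8 LD2_c24 LD3_c30) (LK LD1_c15 LD2_c48 LD3_c28) Lrfl Lrfl
theorem f167214 : Led Lsl_ct (LP (LK LD1_c8 LD2_c21 LD3_c41)) = (LP (LK LD1_c4 LD2_c10 LD3_c53)) :=
  Lre_c IH (LK LD1_c8 LD2_c21 LD3_c41) (LK LD1_c4 LD2_c10 LD3_c53) Lrfl Lrfl
theorem f384282 : Led Lsl_bt (LP (LK LD1_c15 LD2_c44 LD3_c10)) = (LP (LK LD1_c8 LD2_c21 LD3_c41)) :=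
  Lre_b IH (LK LD1_c15 LD2_c44 LD3_c10) (LK LD1_c8 LD2_c21 LD3_c41) Lrfl Lrfl
theorem f692053 : Led Lsl_ct (LP (LK LD1_c15 LD2_c48 LD3_c28)) = (LP (LK LD1_c15 LD2_c44 LD3_c10)) :=
  Lgr Lrot83 (Lpe (f692052 IH) (Lpr_cf (f692051 IH) (Lpe (f692049 IH) (Lpe (f167214 IH) (Lpe (f384282 IH) (Lpn (LP (LK LD1_c15 LD2_c44 LD3_c10))))))))
theorem f692054 : Led Lsl_ct (LP (LK LD1_c15 LD2_c48 LD3_c28)) = (LP (LK LD1_c15 LD2_c44 LD3_c10)) :=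
  Leop (Lpe (f692053 IH) (Lpn (LP (LK LD1_c15 LD2_c48 LD3_c28))))
theorem seed_610 : LEOK LG_c (LK LD1_c15 LD2_c48 LD3_c28) :=
  Leoe_c (LK LD1_c15 LD2_c48 LD3_c28) (f692054 IH)
def v12440 : LQ := Led Lsl_bt (LP (LK LD1_c4 LD2_c11 LD3_c31))
theorem f692157 : Led Lsl_bt (LP (LK LD1_c4 LD2_c11 LD3_c31)) = v12440 :=
  Lrfl
theorem f200181 : Led Lsl_ct (LP (LK LD1_c4 LD2_c11 LD3_c31)) = (LP (LK LD1_c8 LD2_c22 LD3_c51)) :=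
  Lre_c IH (LK LD1_c4 LD2_c11 LD3_c31) (LK LD1_c8 LD2_c22 LD3_c51) Lrfl Lrfl
theorem f361397 : Led Lsl_cf (LP (LK LD1_c15 LD2_c46 LD3_c8)) = (LP (LK LD1_c9 LD2_c37 LD3_c57)) :=
  Lgr Lrot108 (Lpr_ft (K26.f361392 IH) (Lpr_ct (K24.f237507 IH) (Lpr_ft (K26.f270865 IH) (Lpn (LP (LK LD1_c9 LD2_c37 LD3_c57))))))
theorem f237534 : Led Lsl_bt (LP (LK LD1_c9 LD2_c37 LD3_c57)) = (LP (LK LD1_c4 LD2_c53 LD3_c2)) :=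
  Lre_b IH (LK LD1_c9 LD2_c37 LD3_c57) (LK LD1_c4 LD2_c53 LD3_c2) Lrfl Lrfl
theorem f378304 : Led Lsl_df (LP (LK LD1_c2 LD2_c32 LD3_c33)) = (LP (LK LD1_c2 LD2_c23 LD3_c59)) :=
  Lgr Lrot168 (Lpe (K35.f378285 IH) (Lpr_df (K10.f166707 IH) (Lpe (K18.f301698 IH) (Lpr_gf (K26.f354584 IH) (Lpr_ef (K26.f337169 IH) (Lpr_dt (K25.f212584 IH) (Lpr_gf (K25.f354262 IH) (Lpr_df (K25.f306901 IH) (Lpr_gf (K25.f331160 IH) (Lpr_ef (K35.f378298 IH) (Lpn (LP (LK LD1_c2 LD2_c23 LD3_c59)))))))))))))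
theorem f306969 : Led Lsl_bt (LP (LK LD1_c4 LD2_c52 LD3_c28)) = (LP (LK LD1_c2 LD2_c23 LD3_c59)) :=
  Lre_b IH (LK LD1_c4 LD2_c52 LD3_c28) (LK LD1_c2 LD2_c23 LD3_c59) Lrfl Lrfl
theorem f378306 : Led Lsl_dt (LP (LK LD1_c5 LD2_c11 LD3_c8)) = (LP (LK LD1_c4 LD2_c52 LD3_c28)) :=
  Lgr Lrot79 (Lpe (K35.f378277 IH) (Lpr_df (f378304 IH) (Lpe (f306969 IH) (Lpn (LP (LK LD1_c4 LD2_c52 LD3_c28))))))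
theorem f171340 : Led Lsl_ct (LP (LK LD1_c10 LD2_c12 LD3_c49)) = (LP (LK LD1_c5 LD2_c11 LD3_c8)) :=
  Lre_c IH (LK LD1_c10 LD2_c12 LD3_c49) (LK LD1_c5 LD2_c11 LD3_c8) Lrfl Lrfl
theorem f378262 : Led Lsl_ef (LP (LK LD1_c5 LD2_c3 LD3_c36)) = (LP (LK LD1_c5 LD2_c11 LD3_c8)) :=
  Lgr Lrot28 (Lpr_ct (K23.f248766 IH) (Lpr_et (K35.f378257 IH) (Lpr_ct (f171340 IH) (Lpn (LP (LK LD1_c5 LD2_c11 LD3_c8))))))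
theorem f378314 : Led Lsl_gt (LP (LK LD1_c4 LD2_c53 LD3_c2)) = (LP (LK LD1_c4 LD2_c52 LD3_c28)) :=
  Lgr Lrot112 (Lpe (K16.f279354 IH) (Lpr_et (K21.f279342 IH) (Lpe (K23.f239901 IH) (Lpe (K23.f344985 IH) (Lpr_dt (K21.f327260 IH) (Lpe (K19.f298486 IH) (Lpe (K18.f296842 IH) (Lpr_gf (K35.f340266 IH) (Lpr_ef (f378262 IH) (Lpr_dt (f378306 IH) (Lpn (LP (LK LD1_c4 LD2_c52 LD3_c28)))))))))))))
theorem f216776 : Led Lsl_ct (LP (LK LD1_c4 LD2_c21 LD3_c58)) = (LP (LK LD1_c2 LD2_c8 LD3_c28)) :=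
  Lre_c IH (LK LD1_c4 LD2_c21 LD3_c58) (LK LD1_c2 LD2_c8 LD3_c28) Lrfl Lrfl
theorem f216789 : Led Lsl_gt (LP (LK LD1_c8 LD2_c41 LD3_c37)) = (LP (LK LD1_c4 LD2_c21 LD3_c58)) :=
  Lre_g IH (LK LD1_c8 LD2_c41 LD3_c37) (LK LD1_c4 LD2_c21 LD3_c58) Lrfl Lrfl
theorem f378316 : Led Lsl_cf (LP (LK LD1_c8 LD2_c41 LD3_c37)) = (LP (LK LD1_c4 LD2_c52 LD3_c28)) :=
  Lgr Lrot169 (Lpr_gt (f216789 IH) (Lpr_ct (f216776 IH) (Lpe (K20.f216747 IH) (Lpe (K16.f193052 IH) (Lpe (K21.f327641 IH) (Lpe (K21.f33263 IH) (Lpe (K22.f279392 IH) (Lpr_df (K21.f279362 IH) (Lpr_gt (f378314 IH) (Lpn (LP (LK LD1_c4 LD2_c52 LD3_c28))))))))))))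
theorem f692160 : Led Lsl_gt (LP (LK LD1_c4 LD2_c21 LD3_c55)) = v12440 :=
  Lgr Lrot164 (Lpe (K20.f216746 IH) (Lpr_ct (K21.f216798 IH) (Lpe (f216789 IH) (Lpr_cf (f378316 IH) (Lpe (f378314 IH) (Lpe (f237534 IH) (Lpe (f361397 IH) (Lpe (K26.f200182 IH) (Lpe (f200181 IH) (Lpr_bt (f692157 IH) (Lpn v12440)))))))))))
theorem f216752 : Led Lsl_dt (LP (LK LD1_c5 LD2_c19 LD3_c9)) = (LP (LK LD1_c4 LD2_c21 LD3_c55)) :=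
  Lgr Lrot42 (Lpr_df (K16.f216743 IH) (Lpn (LP (LK LD1_c4 LD2_c21 LD3_c55))))
theorem f258949 : Led Lsl_dt (LP (LK LD1_c9 LD2_c39 LD3_c37)) = (LP (LK LD1_c17 LD2_c45 LD3_c59)) :=
  Lre_d IH (LK LD1_c9 LD2_c39 LD3_c37) (LK LD1_c17 LD2_c45 LD3_c59) Lrfl Lrfl
theorem f361155 : Led Lsl_gt (LP (LK LD1_c17 LD2_c45 LD3_c59)) = (LP (LK LD1_c27 LD2_c32 LD3_c17)) :=
  Lre_g IH (LK LD1_c17 LD2_c45 LD3_c59) (LK LD1_c27 LD2_c32 LD3_c17) Lrfl Lrfl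
theorem f692159 : Led Lsl_df (LP (LK LD1_c10 LD2_c26 LD3_c49)) = v12440 :=
  Lgr Lrot12 (Lpr_bt (K35.f361343 IH) (Lpe (K26.f325588 IH) (Lpr_bt (f692157 IH) (Lpn v12440))))
theorem f361347 : Led Lsl_ct (LP (LK LD1_c18 LD2_c14 LD3_c24)) = (LP (LK LD1_c10 LD2_c26 LD3_c49)) :=
  Lgr Lrot59 (Lpr_cf (K35.f361344 IH) (Lpn (LP (LK LD1_c10 LD2_c26 LD3_c49))))
theorem f692163 : Led Lsl_dt (LP (LK LD1_c27 LD2_c32 LD3_c17)) = (LP (LK LD1_c18 LD2_c14 LD3_c24)) :=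
  Lgr Lrot105 (Lpe (f361155 IH) (Lpe (f258949 IH) (Lpe (K26.f189463 IH) (Lpr_cf (K26.f362596 IH) (Lpr_gt (K26.f193076 IH) (Lpr_dt (f216752 IH) (Lpr_gt (f692160 IH) (Lpe (f692159 IH) (Lpe (f361347 IH) (Lpn (LP (LK LD1_c18 LD2_c14 LD3_c24))))))))))))
theorem f692164 : Led Lsl_dt (LP (LK LD1_c27 LD2_c32 LD3_c17)) = (LP (LK LD1_c18 LD2_c14 LD3_c24)) :=
  Leop (Lpe (f692163 IH) (Lpn (LP (LK LD1_c27 LD2_c32 LD3_c17))))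
theorem seed_611 : LEOK LG_d (LK LD1_c27 LD2_c32 LD3_c17) :=
  Leoe_d (LK LD1_c27 LD2_c32 LD3_c17) (f692164 IH)
def v12444 : LQ := Led Lsl_bt (LP (LK LD1_c4 LD2_c11 LD3_c35))
theorem f692181 : Led Lsl_bt (LP (LK LD1_c4 LD2_c11 LD3_c35)) = v12444 :=
  Lrfl
theorem f171005 : Led Lsl_ct (LP (LK LD1_c8 LD2_c22 LD3_c56)) = (LP (LK LD1_c4 LD2_c11 LD3_c35)) :=
  Lre_c IH (LK LD1_c8 LD2_c22 LD3_c56) (LK LD1_c4 LD2_c11 LD3_c35) Lrfl Lrfl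
theorem f52214 : Led Lsl_gt (LP (LK LD1_c15 LD2_c39 LD3_c24)) = (LP (LK LD1_c8 LD2_c19 LD3_c23)) :=
  Lre_g IH (LK LD1_c15 LD2_c39 LD3_c24) (LK LD1_c8 LD2_c19 LD3_c23) Lrfl Lrfl
theorem f258438 : Led Lsl_gt (LP (LK LD1_c8 LD2_c19 LD3_c23)) = (LP (LK LD1_c15 LD2_c39 LD3_c23)) :=
  Lre_g IH (LK LD1_c8 LD2_c19 LD3_c23) (LK LD1_c15 LD2_c39 LD3_c23) Lrfl Lrfl
theorem f403532 : Led Lsl_at (LP (LK LD1_c20 LD2_c54 LD3_c43)) = (LP (LK LD1_c15 LD2_c39 LD3_c23)) :=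
  Lgr Lrot26 (Lpr_ff (K41.f403526 IH) (Lpr_gt (f52214 IH) (Lpr_gt (f258438 IH) (Lpn (LP (LK LD1_c15 LD2_c39 LD3_c23))))))
theorem f403522 : Led Lsl_bf (LP (LK LD1_c20 LD2_c54 LD3_c43)) = (LP (LK LD1_c24 LD2_c52 LD3_c53)) :=
  Lgr Lrot61 (Lpr_ft (K41.f403519 IH) (Lpe (K41.f392602 IH) (Lpr_ft (K41.f390359 IH) (Lpn (LP (LK LD1_c24 LD2_c52 LD3_c53))))))
theorem f53341 : Led Lsl_ct (LP (LK LD1_c4 LD2_c11 LD3_c34)) = (LP (LK LD1_c8 LD2_c22 LD3_c55)) :=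
  Lre_c IH (LK LD1_c4 LD2_c11 LD3_c34) (LK LD1_c8 LD2_c22 LD3_c55) Lrfl Lrfl
theorem f392819 : Led Lsl_at (LP (LK LD1_c4 LD2_c17 LD3_c48)) = (LP (LK LD1_c4 LD2_c11 LD3_c34)) :=
  Lgr Lrot107 (Lpe (K41.f170212 IH) (Lpr_af (K41.f392813 IH) (Lpe (f53341 IH) (Lpn (LP (LK LD1_c4 LD2_c11 LD3_c34))))))
theorem f171000 : Led Lsl_gt (LP (LK LD1_c4 LD2_c11 LD3_c35)) = (LP (LK LD1_c2 LD2_c2 LD3_c60)) :=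
  Lre_g IH (LK LD1_c4 LD2_c11 LD3_c35) (LK LD1_c2 LD2_c2 LD3_c60) Lrfl Lrfl
theorem f392823 : Led Lsl_ff (LP (LK LD1_c4 LD2_c17 LD3_c48)) = (LP (LK LD1_c4 LD2_c11 LD3_c35)) :=
  Lgr Lrot52 (Lpr_at (f392819 IH) (Lpe (K20.f53152 IH) (Lpe (f171000 IH) (Lpn (LP (LK LD1_c4 LD2_c11 LD3_c35))))))
theorem f392829 : Led Lsl_ft (LP (LK LD1_c4 LD2_c17 LD3_c48)) = (LP (LK LD1_c4 LD2_c11 LD3_c35)) :=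
  Lgr Lrot48 (Lpr_ff (f392823 IH) (Lpn (LP (LK LD1_c4 LD2_c11 LD3_c35))))
theorem f171001 : Led Lsl_ct (LP (LK LD1_c4 LD2_c11 LD3_c35)) = (LP (LK LD1_c8 LD2_c22 LD3_c56)) :=
  Lre_c IH (LK LD1_c4 LD2_c11 LD3_c35) (LK LD1_c8 LD2_c22 LD3_c56) Lrfl Lrfl
theorem f392833 : Led Lsl_ff (LP (LK LD1_c8 LD2_c34 LD3_c43)) = (LP (LK LD1_c8 LD2_c22 LD3_c56)) :=
  Lgr Lrot23 (Lpr_ct (K41.f170212 IH) (Lpr_ft (f392829 IH) (Lpr_ct (f171001 IH) (Lpn (LP (LK LD1_c8 LD2_c22 LD3_c56))))))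
theorem f392815 : Led Lsl_at (LP (LK LD1_c8 LD2_c34 LD3_c43)) = (LP (LK LD1_c8 LD2_c22 LD3_c55)) :=
  Lgr Lrot100 (Lpr_af (K41.f392813 IH) (Lpn (LP (LK LD1_c8 LD2_c22 LD3_c55))))
theorem f392836 : Led Lsl_at (LP (LK LD1_c8 LD2_c34 LD3_c40)) = (LP (LK LD1_c8 LD2_c22 LD3_c56)) :=
  Lgr Lrot66 (Lpr_ff (K41.f390351 IH) (Lpe (f392815 IH) (Lpr_ff (f392833 IH) (Lpn (LP (LK LD1_c8 LD2_c22 LD3_c56))))))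
theorem f392841 : Led Lsl_af (LP (LK LD1_c8 LD2_c34 LD3_c40)) = (LP (LK LD1_c8 LD2_c22 LD3_c56)) :=
  Lgr Lrot0 (Lpr_at (f392836 IH) (Lpn (LP (LK LD1_c8 LD2_c22 LD3_c56))))
theorem f403538 : Led Lsl_bf (LP (LK LD1_c8 LD2_c22 LD3_c56)) = (LP (LK LD1_c15 LD2_c39 LD3_c23)) :=
  Lgr Lrot81 (Lpe (f392841 IH) (Lpr_bt (K20.f318721 IH) (Lpr_at (K41.f390140 IH) (Lpe (f403522 IH) (Lpr_at (f403532 IH) (Lpn (LP (LK LD1_c15 LD2_c39 LD3_c23))))))))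
theorem f403534 : Led Lsl_ct (LP (LK LD1_c15 LD2_c46 LD3_c31)) = (LP (LK LD1_c15 LD2_c39 LD3_c23)) :=
  Lre_c IH (LK LD1_c15 LD2_c46 LD3_c31) (LK LD1_c15 LD2_c39 LD3_c23) Lrfl Lrfl
theorem f403569 : Led Lsl_bt (LP (LK LD1_c8 LD2_c23 LD3_c15)) = (LP (LK LD1_c15 LD2_c46 LD3_c31)) :=
  Lre_b IH (LK LD1_c8 LD2_c23 LD3_c15) (LK LD1_c15 LD2_c46 LD3_c31) Lrfl Lrfl
theorem f692183 : Led Lsl_cf (LP (LK LD1_c8 LD2_c23 LD3_c15)) = v12444 :=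
  Lgr Lrot97 (Lpr_bt (f403569 IH) (Lpr_ct (f403534 IH) (Lpe (f403538 IH) (Lpr_ct (f171005 IH) (Lpr_bt (f692181 IH) (Lpn v12444))))))
theorem f692189 : Led Lsl_gt (LP (LK LD1_c8 LD2_c23 LD3_c15)) = (LP (LK LD1_c4 LD2_c11 LD3_c54)) :=
  Lre_g IH (LK LD1_c8 LD2_c23 LD3_c15) (LK LD1_c4 LD2_c11 LD3_c54) Lrfl Lrfl
theorem f51794 : Led Lsl_ct (LP (LK LD1_c2 LD2_c3 LD3_c6)) = (LP (LK LD1_c4 LD2_c11 LD3_c54)) :=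
  Lre_c IH (LK LD1_c2 LD2_c3 LD3_c6) (LK LD1_c4 LD2_c11 LD3_c54) Lrfl Lrfl
theorem f629447 : Led Lsl_bt (LP (LK LD1_c2 LD2_c3 LD3_c6)) = (LP (LK LD1_c4 LD2_c11 LD3_c53)) :=
  Lre_b IH (LK LD1_c2 LD2_c3 LD3_c6) (LK LD1_c4 LD2_c11 LD3_c53) Lrfl Lrfl
theorem f404792 : Led Lsl_gt (LP (LK LD1_c4 LD2_c11 LD3_c53)) = (LP (LK LD1_c8 LD2_c23 LD3_c27)) :=
  Lre_g IH (LK LD1_c4 LD2_c11 LD3_c53) (LK LD1_c8 LD2_c23 LD3_c27) Lrfl Lrfl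
theorem f692182 : Led Lsl_bf (LP (LK LD1_c4 LD2_c11 LD3_c35)) = v12444 :=
  Lgr Lrot24 (Lpr_bt (f692181 IH) (Lpn v12444))
theorem f403509 : Led Lsl_ff (LP (LK LD1_c4 LD2_c11 LD3_c36)) = (LP (LK LD1_c4 LD2_c17 LD3_c49)) :=
  Lgr Lrot3 (Lpr_ft (K41.f403501 IH) (Lpn (LP (LK LD1_c4 LD2_c17 LD3_c49))))
theorem f170988 : Led Lsl_at (LP (LK LD1_c4 LD2_c11 LD3_c36)) = (LP (LK LD1_c2 LD2_c2 LD3_c60)) :=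
  Lre_a IH (LK LD1_c4 LD2_c11 LD3_c36) (LK LD1_c2 LD2_c2 LD3_c60) Lrfl Lrfl
theorem f404595 : Led Lsl_gf (LP (LK LD1_c4 LD2_c11 LD3_c35)) = (LP (LK LD1_c4 LD2_c17 LD3_c49)) :=
  Lgr Lrot47 (Lpr_gt (f171000 IH) (Lpe (f170988 IH) (Lpr_ff (f403509 IH) (Lpn (LP (LK LD1_c4 LD2_c17 LD3_c49))))))
theorem f51530 : Led Lsl_bt (LP (LK LD1_c0 LD2_c58 LD3_c20)) = (LP (LK LD1_c2 LD2_c2 LD3_c51)) :=
  Lre_b IH (LK LD1_c0 LD2_c58 LD3_c20) (LK LD1_c2 LD2_c2 LD3_c51) Lrfl Lrfl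
theorem f170907 : Led Lsl_at (LP (LK LD1_c2 LD2_c2 LD3_c51)) = (LP (LK LD1_c4 LD2_c11 LD3_c14)) :=
  Lre_a IH (LK LD1_c2 LD2_c2 LD3_c51) (LK LD1_c4 LD2_c11 LD3_c14) Lrfl Lrfl
theorem f167297 : Led Lsl_bt (LP (LK LD1_c2 LD2_c6 LD3_c13)) = (LP (LK LD1_c1 LD2_c0 LD3_c7)) :=
  Lre_b IH (LK LD1_c2 LD2_c6 LD3_c13) (LK LD1_c1 LD2_c0 LD3_c7) Lrfl Lrfl
theorem f299417 : Led Lsl_bt (LP (LK LD1_c4 LD2_c11 LD3_c14)) = (LP (LK LD1_c4 LD2_c17 LD3_c49)) :=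
  Lgr Lrot62 (Lpe (f170907 IH) (Lpe (f51530 IH) (Lpr_af (K18.f299413 IH) (Lpe (f167297 IH) (Lpe (K41.f170204 IH) (Lpn (LP (LK LD1_c4 LD2_c17 LD3_c49))))))))
theorem f170898 : Led Lsl_ct (LP (LK LD1_c4 LD2_c11 LD3_c14)) = (LP (LK LD1_c8 LD2_c22 LD3_c4)) :=
  Lre_c IH (LK LD1_c4 LD2_c11 LD3_c14) (LK LD1_c8 LD2_c22 LD3_c4) Lrfl Lrfl
theorem f304489 : Led Lsl_bt (LP (LK LD1_c8 LD2_c34 LD3_c51)) = (LP (LK LD1_c4 LD2_c17 LD3_c60)) :=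
  Lre_b IH (LK LD1_c8 LD2_c34 LD3_c51) (LK LD1_c4 LD2_c17 LD3_c60) Lrfl Lrfl
theorem f304491 : Led Lsl_bt (LP (LK LD1_c4 LD2_c11 LD3_c24)) = (LP (LK LD1_c8 LD2_c22 LD3_c31)) :=
  Lre_b IH (LK LD1_c4 LD2_c11 LD3_c24) (LK LD1_c8 LD2_c22 LD3_c31) Lrfl Lrfl
theorem f304492 : Led Lsl_cf (LP (LK LD1_c8 LD2_c34 LD3_c51)) = (LP (LK LD1_c8 LD2_c22 LD3_c31)) :=
  Lgr Lrot97 (Lpr_bt (f304489 IH) (Lpr_ct (K18.f288833 IH) (Lpr_bt (K18.f304485 IH) (Lpr_ct (K18.f304490 IH) (Lpr_bt (f304491 IH) (Lpn (LP (LK LD1_c8 LD2_c22 LD3_c31))))))))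
theorem f288829 : Led Lsl_bt (LP (LK LD1_c8 LD2_c21 LD3_c55)) = (LP (LK LD1_c4 LD2_c11 LD3_c1)) :=
  Lre_b IH (LK LD1_c8 LD2_c21 LD3_c55) (LK LD1_c4 LD2_c11 LD3_c1) Lrfl Lrfl
theorem f288830 : Led Lsl_bt (LP (LK LD1_c4 LD2_c17 LD3_c60)) = (LP (LK LD1_c8 LD2_c34 LD3_c51)) :=
  Lre_b IH (LK LD1_c4 LD2_c17 LD3_c60) (LK LD1_c8 LD2_c34 LD3_c51) Lrfl Lrfl
theorem f288831 : Led Lsl_ff (LP (LK LD1_c8 LD2_c21 LD3_c55)) = (LP (LK LD1_c8 LD2_c34 LD3_c51)) :=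
  Lgr Lrot25 (Lpr_bt (f288829 IH) (Lpr_ft (K17.f288822 IH) (Lpr_bt (f288830 IH) (Lpn (LP (LK LD1_c8 LD2_c34 LD3_c51))))))
theorem f288866 : Led Lsl_bt (LP (LK LD1_c4 LD2_c11 LD3_c1)) = (LP (LK LD1_c8 LD2_c21 LD3_c55)) :=
  Lre_b IH (LK LD1_c4 LD2_c11 LD3_c1) (LK LD1_c8 LD2_c21 LD3_c55) Lrfl Lrfl
theorem f290073 : Led Lsl_bt (LP (LK LD1_c8 LD2_c34 LD3_c12)) = (LP (LK LD1_c4 LD2_c17 LD3_c37)) :=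
  Lre_b IH (LK LD1_c8 LD2_c34 LD3_c12) (LK LD1_c4 LD2_c17 LD3_c37) Lrfl Lrfl
theorem f290074 : Led Lsl_ct (LP (LK LD1_c8 LD2_c21 LD3_c55)) = (LP (LK LD1_c8 LD2_c34 LD3_c12)) :=
  Lgr Lrot83 (Lpe (f288866 IH) (Lpe (K17.f288808 IH) (Lpr_bf (K17.f290067 IH) (Lpe (K17.f7976 IH) (Lpe (f290073 IH) (Lpn (LP (LK LD1_c8 LD2_c34 LD3_c12))))))))
theorem f406035 : Led Lsl_ft (LP (LK LD1_c8 LD2_c34 LD3_c12)) = (LP (LK LD1_c8 LD2_c22 LD3_c31)) :=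
  Lgr Lrot4 (Lpe (f290074 IH) (Lpr_ff (f288831 IH) (Lpr_cf (f304492 IH) (Lpn (LP (LK LD1_c8 LD2_c22 LD3_c31))))))
theorem f406040 : Led Lsl_ff (LP (LK LD1_c8 LD2_c34 LD3_c12)) = (LP (LK LD1_c8 LD2_c22 LD3_c31)) :=
  Lgr Lrot3 (Lpr_ft (f406035 IH) (Lpn (LP (LK LD1_c8 LD2_c22 LD3_c31))))
theorem f315910 : Led Lsl_bt (LP (LK LD1_c8 LD2_c21 LD3_c57)) = (LP (LK LD1_c15 LD2_c44 LD3_c30)) :=
  Lre_b IH (LK LD1_c8 LD2_c21 LD3_c57) (LK LD1_c15 LD2_c44 LD3_c30) Lrfl Lrfl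
theorem f284119 : Led Lsl_ct (LP (LK LD1_c8 LD2_c34 LD3_c14)) = (LP (LK LD1_c4 LD2_c17 LD3_c38)) :=
  Lre_c IH (LK LD1_c8 LD2_c34 LD3_c14) (LK LD1_c4 LD2_c17 LD3_c38) Lrfl Lrfl
theorem f378905 : Led Lsl_bt (LP (LK LD1_c16 LD2_c5 LD3_c4)) = (LP (LK LD1_c8 LD2_c34 LD3_c14)) :=
  Lre_b IH (LK LD1_c16 LD2_c5 LD3_c4) (LK LD1_c8 LD2_c34 LD3_c14) Lrfl Lrfl
theorem f403466 : Led Lsl_ct (LP (LK LD1_c15 LD2_c44 LD3_c30)) = (LP (LK LD1_c16 LD2_c5 LD3_c4)) :=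
  Lgr Lrot83 (Lpe (f315910 IH) (Lpe (K20.f289024 IH) (Lpr_bf (K25.f310464 IH) (Lpe (f284119 IH) (Lpe (f378905 IH) (Lpn (LP (LK LD1_c16 LD2_c5 LD3_c4))))))))
theorem f403470 : Led Lsl_et (LP (LK LD1_c8 LD2_c21 LD3_c55)) = (LP (LK LD1_c15 LD2_c44 LD3_c30)) :=
  Lre_e IH (LK LD1_c8 LD2_c21 LD3_c55) (LK LD1_c15 LD2_c44 LD3_c30) Lrfl Lrfl
theorem f403471 : Led Lsl_et (LP (LK LD1_c16 LD2_c5 LD3_c4)) = (LP (LK LD1_c8 LD2_c34 LD3_c12)) :=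
  Lre_e IH (LK LD1_c16 LD2_c5 LD3_c4) (LK LD1_c8 LD2_c34 LD3_c12) Lrfl Lrfl
theorem f403472 : Led Lsl_cf (LP (LK LD1_c8 LD2_c21 LD3_c55)) = (LP (LK LD1_c8 LD2_c34 LD3_c12)) :=
  Lgr Lrot39 (Lpr_et (f403470 IH) (Lpr_ct (f403466 IH) (Lpr_et (f403471 IH) (Lpn (LP (LK LD1_c8 LD2_c34 LD3_c12))))))
theorem f406028 : Led Lsl_ct (LP (LK LD1_c8 LD2_c34 LD3_c51)) = (LP (LK LD1_c8 LD2_c22 LD3_c31)) :=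
  Lgr Lrot59 (Lpr_cf (f304492 IH) (Lpn (LP (LK LD1_c8 LD2_c22 LD3_c31))))
theorem f406042 : Led Lsl_ft (LP (LK LD1_c8 LD2_c21 LD3_c55)) = (LP (LK LD1_c8 LD2_c34 LD3_c51)) :=
  Lgr Lrot4 (Lpr_cf (f403472 IH) (Lpr_ff (f406040 IH) (Lpe (f406028 IH) (Lpn (LP (LK LD1_c8 LD2_c34 LD3_c51))))))
theorem f288867 : Led Lsl_gt (LP (LK LD1_c8 LD2_c21 LD3_c55)) = (LP (LK LD1_c15 LD2_c44 LD3_c26)) :=
  Lre_g IH (LK LD1_c8 LD2_c21 LD3_c55) (LK LD1_c15 LD2_c44 LD3_c26) Lrfl Lrfl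
theorem f406027 : Led Lsl_at (LP (LK LD1_c8 LD2_c34 LD3_c51)) = (LP (LK LD1_c16 LD2_c6 LD3_c0)) :=
  Lre_a IH (LK LD1_c8 LD2_c34 LD3_c51) (LK LD1_c16 LD2_c6 LD3_c0) Lrfl Lrfl
theorem f406048 : Led Lsl_gt (LP (LK LD1_c15 LD2_c44 LD3_c26)) = (LP (LK LD1_c16 LD2_c6 LD3_c0)) :=
  Lgr Lrot46 (Lpe (f288867 IH) (Lpr_ft (f406042 IH) (Lpr_at (f406027 IH) (Lpn (LP (LK LD1_c16 LD2_c6 LD3_c0))))))
theorem f288868 : Led Lsl_bt (LP (LK LD1_c25 LD2_c40 LD3_c48)) = (LP (LK LD1_c15 LD2_c44 LD3_c26)) :=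
  Lre_b IH (LK LD1_c25 LD2_c40 LD3_c48) (LK LD1_c15 LD2_c44 LD3_c26) Lrfl Lrfl
theorem f373113 : Led Lsl_ff (LP (LK LD1_c5 LD2_c21 LD3_c15)) = (LP (LK LD1_c5 LD2_c21 LD3_c12)) :=
  Lgr Lrot19 (Lpr_dt (K18.f43200 IH) (Lpr_ft (K27.f373105 IH) (Lpr_dt (K18.f41927 IH) (Lpn (LP (LK LD1_c5 LD2_c21 LD3_c12))))))
theorem f41970 : Led Lsl_bt (LP (LK LD1_c10 LD2_c32 LD3_c35)) = (LP (LK LD1_c5 LD2_c21 LD3_c12)) :=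
  Lre_b IH (LK LD1_c10 LD2_c32 LD3_c35) (LK LD1_c5 LD2_c21 LD3_c12) Lrfl Lrfl
theorem f373115 : Led Lsl_ft (LP (LK LD1_c8 LD2_c31 LD3_c54)) = (LP (LK LD1_c10 LD2_c32 LD3_c35)) :=
  Lgr Lrot75 (Lpr_bf (K27.f250514 IH) (Lpr_ff (f373113 IH) (Lpe (f41970 IH) (Lpn (LP (LK LD1_c10 LD2_c32 LD3_c35))))))
theorem f53403 : Led Lsl_ct (LP (LK LD1_c4 LD2_c16 LD3_c21)) = (LP (LK LD1_c8 LD2_c31 LD3_c54)) :=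
  Lre_c IH (LK LD1_c4 LD2_c16 LD3_c21) (LK LD1_c8 LD2_c31 LD3_c54) Lrfl Lrfl
theorem f373120 : Led Lsl_cf (LP (LK LD1_c8 LD2_c29 LD3_c61)) = (LP (LK LD1_c10 LD2_c32 LD3_c35)) :=
  Lgr Lrot108 (Lpr_ft (K31.f365422 IH) (Lpr_ct (f53403 IH) (Lpr_ft (f373115 IH) (Lpn (LP (LK LD1_c10 LD2_c32 LD3_c35))))))
theorem f288851 : Led Lsl_ct (LP (LK LD1_c4 LD2_c11 LD3_c1)) = (LP (LK LD1_c2 LD2_c2 LD3_c48)) :=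
  Lre_c IH (LK LD1_c4 LD2_c11 LD3_c1) (LK LD1_c2 LD2_c2 LD3_c48) Lrfl Lrfl
theorem f373160 : Led Lsl_cf (LP (LK LD1_c15 LD2_c57 LD3_c35)) = (LP (LK LD1_c25 LD2_c40 LD3_c48)) :=
  Lgr Lrot160 (Lpr_gt (K31.f365466 IH) (Lpr_cf (f373120 IH) (Lpr_bt (f41970 IH) (Lpr_gt (K18.f41926 IH) (Lpr_ct (K9.f41896 IH) (Lpe (K17.f288852 IH) (Lpe (f288851 IH) (Lpr_bt (f288866 IH) (Lpr_gt (f288867 IH) (Lpe (f288868 IH) (Lpn (LP (LK LD1_c25 LD2_c40 LD3_c48)))))))))))))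
theorem f372961 : Led Lsl_ct (LP (LK LD1_c16 LD2_c0 LD3_c53)) = (LP (LK LD1_c8 LD2_c31 LD3_c53)) :=
  Lre_c IH (LK LD1_c16 LD2_c0 LD3_c53) (LK LD1_c8 LD2_c31 LD3_c53) Lrfl Lrfl
theorem f373122 : Led Lsl_ff (LP (LK LD1_c8 LD2_c31 LD3_c54)) = (LP (LK LD1_c10 LD2_c32 LD3_c35)) :=
  Lgr Lrot3 (Lpr_ft (f373115 IH) (Lpn (LP (LK LD1_c10 LD2_c32 LD3_c35))))
theorem f359446 : Led Lsl_gf (LP (LK LD1_c4 LD2_c51 LD3_c39)) = (LP (LK LD1_c5 LD2_c29 LD3_c30)) :=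
  Lgr Lrot76 (Lpe (K26.f266936 IH) (Lpr_ff (K26.f359435 IH) (Lpr_gt (K13.f219185 IH) (Lpn (LP (LK LD1_c5 LD2_c29 LD3_c30))))))
theorem f170916 : Led Lsl_bt (LP (LK LD1_c4 LD2_c11 LD3_c5)) = (LP (LK LD1_c2 LD2_c2 LD3_c49)) :=
  Lre_b IH (LK LD1_c4 LD2_c11 LD3_c5) (LK LD1_c2 LD2_c2 LD3_c49) Lrfl Lrfl
theorem f170597 : Led Lsl_ct (LP (LK LD1_c4 LD2_c11 LD3_c5)) = (LP (LK LD1_c2 LD2_c2 LD3_c51)) :=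
  Lre_c IH (LK LD1_c4 LD2_c11 LD3_c5) (LK LD1_c2 LD2_c2 LD3_c51) Lrfl Lrfl
theorem f51531 : Led Lsl_gt (LP (LK LD1_c4 LD2_c11 LD3_c13)) = (LP (LK LD1_c2 LD2_c2 LD3_c51)) :=
  Lre_g IH (LK LD1_c4 LD2_c11 LD3_c13) (LK LD1_c2 LD2_c2 LD3_c51) Lrfl Lrfl
theorem f170886 : Led Lsl_ct (LP (LK LD1_c8 LD2_c22 LD3_c24)) = (LP (LK LD1_c4 LD2_c11 LD3_c13)) :=
  Lre_c IH (LK LD1_c8 LD2_c22 LD3_c24) (LK LD1_c4 LD2_c11 LD3_c13) Lrfl Lrfl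
theorem f219832 : Led Lsl_bt (LP (LK LD1_c8 LD2_c22 LD3_c24)) = (LP (LK LD1_c15 LD2_c45 LD3_c27)) :=
  Lre_b IH (LK LD1_c8 LD2_c22 LD3_c24) (LK LD1_c15 LD2_c45 LD3_c27) Lrfl Lrfl
theorem f359464 : Led Lsl_bt (LP (LK LD1_c5 LD2_c21 LD3_c12)) = (LP (LK LD1_c10 LD2_c32 LD3_c35)) :=
  Lre_b IH (LK LD1_c5 LD2_c21 LD3_c12) (LK LD1_c10 LD2_c32 LD3_c35) Lrfl Lrfl
theorem f359466 : Led Lsl_gf (LP (LK LD1_c15 LD2_c45 LD3_c27)) = (LP (LK LD1_c10 LD2_c32 LD3_c35)) :=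
  Lgr Lrot124 (Lpe (f219832 IH) (Lpr_ct (f170886 IH) (Lpr_gt (f51531 IH) (Lpe (f170597 IH) (Lpr_bt (f170916 IH) (Lpr_gt (K12.f170587 IH) (Lpr_ct (K12.f219789 IH) (Lpe (f359446 IH) (Lpr_cf (K26.f359448 IH) (Lpr_bt (f359464 IH) (Lpn (LP (LK LD1_c10 LD2_c32 LD3_c35)))))))))))))
theorem f373132 : Led Lsl_gf (LP (LK LD1_c16 LD2_c0 LD3_c53)) = (LP (LK LD1_c15 LD2_c45 LD3_c27)) :=
  Lgr Lrot76 (Lpe (K27.f373084 IH) (Lpr_ff (f373122 IH) (Lpe (f359466 IH) (Lpn (LP (LK LD1_c15 LD2_c45 LD3_c27))))))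
theorem f170273 : Led Lsl_bt (LP (LK LD1_c8 LD2_c34 LD3_c61)) = (LP (LK LD1_c16 LD2_c6 LD3_c0)) :=
  Lre_b IH (LK LD1_c8 LD2_c34 LD3_c61) (LK LD1_c16 LD2_c6 LD3_c0) Lrfl Lrfl
theorem f170272 : Led Lsl_ct (LP (LK LD1_c8 LD2_c34 LD3_c61)) = (LP (LK LD1_c4 LD2_c18 LD3_c10)) :=
  Lre_c IH (LK LD1_c8 LD2_c34 LD3_c61) (LK LD1_c4 LD2_c18 LD3_c10) Lrfl Lrfl
theorem f406051 : Led Lsl_gf (LP (LK LD1_c4 LD2_c11 LD3_c13)) = (LP (LK LD1_c4 LD2_c18 LD3_c10)) :=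
  Lgr Lrot126 (Lpe (f170886 IH) (Lpr_bt (f219832 IH) (Lpe (f373132 IH) (Lpr_ct (f372961 IH) (Lpr_gt (K31.f373072 IH) (Lpr_cf (f373160 IH) (Lpr_bt (f288868 IH) (Lpr_gt (f406048 IH) (Lpe (f170273 IH) (Lpr_ct (f170272 IH) (Lpn (LP (LK LD1_c4 LD2_c18 LD3_c10)))))))))))))
theorem f372962 : Led Lsl_bt (LP (LK LD1_c19 LD2_c5 LD3_c39)) = (LP (LK LD1_c16 LD2_c0 LD3_c53)) :=
  Lgr Lrot128 (Lpr_cf (K38.f192437 IH) (Lpr_bf (K27.f372957 IH) (Lpe (K27.f171100 IH) (Lpr_bf (K27.f365374 IH) (Lpe (f372961 IH) (Lpn (LP (LK LD1_c16 LD2_c0 LD3_c53))))))))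
theorem f219793 : Led Lsl_gt (LP (LK LD1_c9 LD2_c35 LD3_c33)) = (LP (LK LD1_c4 LD2_c51 LD3_c42)) :=
  Lre_g IH (LK LD1_c9 LD2_c35 LD3_c33) (LK LD1_c4 LD2_c51 LD3_c42) Lrfl Lrfl
theorem f372908 : Led Lsl_gt (LP (LK LD1_c17 LD2_c36 LD3_c44)) = (LP (LK LD1_c9 LD2_c35 LD3_c33)) :=
  Lgr Lrot5 (Lpr_ft (K27.f372878 IH) (Lpr_at (K27.f372877 IH) (Lpe (f219793 IH) (Lpn (LP (LK LD1_c9 LD2_c35 LD3_c33))))))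
theorem f219786 : Led Lsl_bt (LP (LK LD1_c2 LD2_c2 LD3_c49)) = (LP (LK LD1_c4 LD2_c11 LD3_c5)) :=
  Lre_b IH (LK LD1_c2 LD2_c2 LD3_c49) (LK LD1_c4 LD2_c11 LD3_c5) Lrfl Lrfl
theorem f53359 : Led Lsl_gt (LP (LK LD1_c4 LD2_c11 LD3_c5)) = (LP (LK LD1_c8 LD2_c22 LD3_c2)) :=
  Lre_g IH (LK LD1_c4 LD2_c11 LD3_c5) (LK LD1_c8 LD2_c22 LD3_c2) Lrfl Lrfl
theorem f219792 : Led Lsl_bt (LP (LK LD1_c15 LD2_c44 LD3_c45)) = (LP (LK LD1_c8 LD2_c22 LD3_c2)) :=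
  Lre_b IH (LK LD1_c15 LD2_c44 LD3_c45) (LK LD1_c8 LD2_c22 LD3_c2) Lrfl Lrfl
theorem f219777 : Led Lsl_bt (LP (LK LD1_c9 LD2_c35 LD3_c25)) = (LP (LK LD1_c4 LD2_c51 LD3_c40)) :=
  Lre_b IH (LK LD1_c9 LD2_c35 LD3_c25) (LK LD1_c4 LD2_c51 LD3_c40) Lrfl Lrfl
theorem f219794 : Led Lsl_ct (LP (LK LD1_c15 LD2_c44 LD3_c45)) = (LP (LK LD1_c9 LD2_c35 LD3_c33)) :=
  Lgr Lrot64 (Lpr_bt (f219792 IH) (Lpe (f53359 IH) (Lpe (f219786 IH) (Lpr_ct (K16.f51524 IH) (Lpr_gf (K12.f219783 IH) (Lpe (K12.f42640 IH) (Lpe (K13.f219774 IH) (Lpe (f219777 IH) (Lpr_ct (K38.f219778 IH) (Lpe (f219793 IH) (Lpn (LP (LK LD1_c9 LD2_c35 LD3_c33)))))))))))))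
theorem f406058 : Led Lsl_gt (LP (LK LD1_c8 LD2_c22 LD3_c2)) = (LP (LK LD1_c8 LD2_c34 LD3_c61)) :=
  Lgr Lrot82 (Lpe (f219792 IH) (Lpr_ct (f219794 IH) (Lpe (f372908 IH) (Lpe (K27.f192431 IH) (Lpr_bt (f372962 IH) (Lpr_gf (f373132 IH) (Lpe (f219832 IH) (Lpr_ct (f170886 IH) (Lpr_gf (f406051 IH) (Lpe (f170272 IH) (Lpn (LP (LK LD1_c8 LD2_c34 LD3_c61)))))))))))))
theorem f170270 : Led Lsl_at (LP (LK LD1_c4 LD2_c18 LD3_c2)) = (LP (LK LD1_c8 LD2_c34 LD3_c61)) :=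
  Lre_a IH (LK LD1_c4 LD2_c18 LD3_c2) (LK LD1_c8 LD2_c34 LD3_c61) Lrfl Lrfl
theorem f406060 : Led Lsl_ft (LP (LK LD1_c4 LD2_c11 LD3_c5)) = (LP (LK LD1_c4 LD2_c18 LD3_c2)) :=
  Lgr Lrot2 (Lpr_gt (f53359 IH) (Lpr_gt (f406058 IH) (Lpe (f170270 IH) (Lpn (LP (LK LD1_c4 LD2_c18 LD3_c2))))))
theorem f406068 : Led Lsl_ff (LP (LK LD1_c4 LD2_c11 LD3_c5)) = (LP (LK LD1_c4 LD2_c18 LD3_c2)) :=
  Lgr Lrot3 (Lpr_ft (f406060 IH) (Lpn (LP (LK LD1_c4 LD2_c18 LD3_c2))))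
theorem f170902 : Led Lsl_at (LP (LK LD1_c4 LD2_c11 LD3_c5)) = (LP (LK LD1_c8 LD2_c22 LD3_c4)) :=
  Lre_a IH (LK LD1_c4 LD2_c11 LD3_c5) (LK LD1_c8 LD2_c22 LD3_c4) Lrfl Lrfl
theorem f170065 : Led Lsl_gt (LP (LK LD1_c4 LD2_c18 LD3_c2)) = (LP (LK LD1_c8 LD2_c34 LD3_c59)) :=
  Lre_g IH (LK LD1_c4 LD2_c18 LD3_c2) (LK LD1_c8 LD2_c34 LD3_c59) Lrfl Lrfl
theorem f406072 : Led Lsl_gf (LP (LK LD1_c8 LD2_c22 LD3_c4)) = (LP (LK LD1_c8 LD2_c34 LD3_c59)) :=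
  Lgr Lrot76 (Lpe (f170902 IH) (Lpr_ff (f406068 IH) (Lpr_gt (f170065 IH) (Lpn (LP (LK LD1_c8 LD2_c34 LD3_c59))))))
theorem f692190 : Led Lsl_ct (LP (LK LD1_c8 LD2_c23 LD3_c27)) = (LP (LK LD1_c8 LD2_c34 LD3_c59)) :=
  Lgr Lrot91 (Lpe (f404792 IH) (Lpe (f629447 IH) (Lpr_ct (f51794 IH) (Lpe (f692189 IH) (Lpr_cf (f692183 IH) (Lpe (f692182 IH) (Lpr_gf (f404595 IH) (Lpe (f299417 IH) (Lpr_ct (f170898 IH) (Lpr_gf (f406072 IH) (Lpn (LP (LK LD1_c8 LD2_c34 LD3_c59)))))))))))))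
theorem f692191 : Led Lsl_ct (LP (LK LD1_c8 LD2_c23 LD3_c27)) = (LP (LK LD1_c8 LD2_c34 LD3_c59)) :=
  Leop (Lpe (f692190 IH) (Lpn (LP (LK LD1_c8 LD2_c23 LD3_c27))))
theorem seed_612 : LEOK LG_c (LK LD1_c8 LD2_c23 LD3_c27) :=
  Leoe_c (LK LD1_c8 LD2_c23 LD3_c27) (f692191 IH)
def v12495 : LQ := Led Lsl_at (LP (LK LD1_c4 LD2_c12 LD3_c44))
theorem f692453 : Led Lsl_at (LP (LK LD1_c4 LD2_c12 LD3_c44)) = v12495 :=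
  Lrfl
theorem f337243 : Led Lsl_ff (LP (LK LD1_c4 LD2_c12 LD3_c44)) = (LP (LK LD1_c2 LD2_c45 LD3_c55)) :=
  Lgr Lrot23 (Lpr_ct (K22.f170169 IH) (Lpr_ft (K22.f337240 IH) (Lpr_ct (K38.f178420 IH) (Lpn (LP (LK LD1_c2 LD2_c45 LD3_c55))))))
theorem f178436 : Led Lsl_at (LP (LK LD1_c5 LD2_c39 LD3_c56)) = (LP (LK LD1_c2 LD2_c45 LD3_c55)) :=
  Lre_a IH (LK LD1_c5 LD2_c39 LD3_c56) (LK LD1_c2 LD2_c45 LD3_c55) Lrfl Lrfl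
theorem f692457 : Led Lsl_ff (LP (LK LD1_c5 LD2_c39 LD3_c56)) = v12495 :=
  Lgr Lrot30 (Lpr_at (f178436 IH) (Lpe (f337243 IH) (Lpr_at (f692453 IH) (Lpn v12495))))
theorem f337218 : Led Lsl_at (LP (LK LD1_c8 LD2_c21 LD3_c4)) = (LP (LK LD1_c4 LD2_c10 LD3_c25)) :=
  Lre_a IH (LK LD1_c8 LD2_c21 LD3_c4) (LK LD1_c4 LD2_c10 LD3_c25) Lrfl Lrfl
theorem f337219 : Led Lsl_ff (LP (LK LD1_c8 LD2_c21 LD3_c4)) = (LP (LK LD1_c8 LD2_c24 LD3_c52)) :=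
  Lgr Lrot30 (Lpr_at (f337218 IH) (Lpr_ft (K22.f337216 IH) (Lpr_at (K22.f178435 IH) (Lpn (LP (LK LD1_c8 LD2_c24 LD3_c52))))))
theorem f692461 : Led Lsl_dt (LP (LK LD1_c8 LD2_c21 LD3_c4)) = v12495 :=
  Lgr Lrot60 (Lpr_ff (f337219 IH) (Lpr_df (K22.f178410 IH) (Lpr_ff (f692457 IH) (Lpn v12495))))
theorem f337223 : Led Lsl_ff (LP (LK LD1_c4 LD2_c10 LD3_c25)) = (LP (LK LD1_c4 LD2_c12 LD3_c37)) :=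
  Lgr Lrot3 (Lpr_ft (K22.f337216 IH) (Lpn (LP (LK LD1_c4 LD2_c12 LD3_c37))))
theorem f337189 : Led Lsl_at (LP (LK LD1_c4 LD2_c10 LD3_c25)) = (LP (LK LD1_c8 LD2_c21 LD3_c4)) :=
  Lre_a IH (LK LD1_c4 LD2_c10 LD3_c25) (LK LD1_c8 LD2_c21 LD3_c4) Lrfl Lrfl
theorem f396012 : Led Lsl_gf (LP (LK LD1_c8 LD2_c21 LD3_c4)) = (LP (LK LD1_c4 LD2_c53 LD3_c39)) :=
  Lgr Lrot76 (Lpe (f337189 IH) (Lpr_ff (f337223 IH) (Lpe (K27.f263793 IH) (Lpn (LP (LK LD1_c4 LD2_c53 LD3_c39))))))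
theorem f166996 : Led Lsl_bt (LP (LK LD1_c0 LD2_c58 LD3_c44)) = (LP (LK LD1_c2 LD2_c3 LD3_c36)) :=
  Lre_b IH (LK LD1_c0 LD2_c58 LD3_c44) (LK LD1_c2 LD2_c3 LD3_c36) Lrfl Lrfl
theorem f237201 : Led Lsl_gt (LP (LK LD1_c4 LD2_c12 LD3_c47)) = (LP (LK LD1_c2 LD2_c3 LD3_c36)) :=
  Lre_g IH (LK LD1_c4 LD2_c12 LD3_c47) (LK LD1_c2 LD2_c3 LD3_c36) Lrfl Lrfl
theorem f263800 : Led Lsl_bt (LP (LK LD1_c8 LD2_c25 LD3_c1)) = (LP (LK LD1_c4 LD2_c12 LD3_c47)) :=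
  Lre_b IH (LK LD1_c8 LD2_c25 LD3_c1) (LK LD1_c4 LD2_c12 LD3_c47) Lrfl Lrfl
theorem f263801 : Led Lsl_ct (LP (LK LD1_c8 LD2_c25 LD3_c1)) = (LP (LK LD1_c15 LD2_c49 LD3_c8)) :=
  Lre_c IH (LK LD1_c8 LD2_c25 LD3_c1) (LK LD1_c15 LD2_c49 LD3_c8) Lrfl Lrfl
theorem f263802 : Led Lsl_gt (LP (LK LD1_c9 LD2_c39 LD3_c11)) = (LP (LK LD1_c15 LD2_c49 LD3_c8)) :=
  Lgr Lrot149 (Lpe (K27.f2855 IH) (Lpr_gf (K27.f263793 IH) (Lpe (K22.f167082 IH) (Lpr_ct (K9.f166481 IH) (Lpe (K9.f166471 IH) (Lpe (K9.f166993 IH) (Lpr_bt (f166996 IH) (Lpe (f237201 IH) (Lpe (f263800 IH) (Lpr_ct (f263801 IH) (Lpn (LP (LK LD1_c15 LD2_c49 LD3_c8)))))))))))))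
theorem f170076 : Led Lsl_bt (LP (LK LD1_c1 LD2_c19 LD3_c19)) = (LP (LK LD1_c2 LD2_c45 LD3_c55)) :=
  Lre_b IH (LK LD1_c1 LD2_c19 LD3_c19) (LK LD1_c2 LD2_c45 LD3_c55) Lrfl Lrfl
theorem f2360 : Led Lsl_ct (LP (LK LD1_c2 LD2_c23 LD3_c61)) = (LP (LK LD1_c4 LD2_c52 LD3_c32)) :=
  Lre_c IH (LK LD1_c2 LD2_c23 LD3_c61) (LK LD1_c4 LD2_c52 LD3_c32) Lrfl Lrfl
theorem f2349 : Led Lsl_dt (LP (LK LD1_c4 LD2_c52 LD3_c33)) = (LP (LK LD1_c2 LD2_c23 LD3_c61)) :=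
  Lre_d IH (LK LD1_c4 LD2_c52 LD3_c33) (LK LD1_c2 LD2_c23 LD3_c61) Lrfl Lrfl
theorem f397222 : Led Lsl_gt (LP (LK LD1_c2 LD2_c45 LD3_c55)) = (LP (LK LD1_c4 LD2_c52 LD3_c33)) :=
  Lgr Lrot190 (Lpe (f170076 IH) (Lpe (K9.f170074 IH) (Lpe (K9.f170073 IH) (Lpr_gf (K9.f170071 IH) (Lpe (K17.f166623 IH) (Lpr_cf (K14.f200147 IH) (Lpe (K15.f170627 IH) (Lpe (K11.f200127 IH) (Lpr_bf (K11.f199916 IH) (Lpe (K11.f186991 IH) (Lpr_df (K13.f233004 IH) (Lpe (K13.f232918 IH) (Lpe (K38.f232927 IH) (Lpe (K38.f232943 IH) (Lpr_df (K38.f397220 IH) (Lpe (K38.f232696 IH) (Lpe (K38.f232689 IH) (Lpe (f2360 IH) (Lpe (f2349 IH) (Lpn (LP (LK LD1_c4 LD2_c52 LD3_c33))))))))))))))))))))))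
theorem f692458 : Led Lsl_gt (LP (LK LD1_c4 LD2_c52 LD3_c33)) = v12495 :=
  Lgr Lrot46 (Lpe (f397222 IH) (Lpe (f337243 IH) (Lpr_at (f692453 IH) (Lpn v12495))))
def v12493 : LQ := Led Lsl_gt (LP (LK LD1_c4 LD2_c12 LD3_c44))
theorem f692437 : Led Lsl_gt (LP (LK LD1_c4 LD2_c12 LD3_c44)) = v12493 :=
  Lrfl
theorem f178316 : Led Lsl_bt (LP (LK LD1_c2 LD2_c3 LD3_c34)) = (LP (LK LD1_c4 LD2_c12 LD3_c44)) :=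
  Lre_b IH (LK LD1_c2 LD2_c3 LD3_c34) (LK LD1_c4 LD2_c12 LD3_c44) Lrfl Lrfl
theorem f260763 : Led Lsl_cf (LP (LK LD1_c1 LD2_c0 LD3_c20)) = (LP (LK LD1_c2 LD2_c2 LD3_c27)) :=
  Lgr Lrot14 (Lpr_df (K13.f237798 IH) (Lpe (K11.f53326 IH) (Lpr_df (K15.f178276 IH) (Lpe (K9.f2864 IH) (Lpr_ct (K0.f2178 IH) (Lpe (K9.f167293 IH) (Lpe (K9.f170149 IH) (Lpr_gt (K14.f170180 IH) (Lpr_dt (K15.f260748 IH) (Lpn (LP (LK LD1_c2 LD2_c2 LD3_c27))))))))))))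
theorem f313367 : Led Lsl_dt (LP (LK LD1_c0 LD2_c36 LD3_c37)) = (LP (LK LD1_c0 LD2_c58 LD3_c43)) :=
  Lgr Lrot173 (Lpr_cf (K19.f313361 IH) (Lpe (K9.f9488 IH) (Lpe (K9.f165220 IH) (Lpe (K9.f170079 IH) (Lpe (K9.f170075 IH) (Lpe (K9.f178387 IH) (Lpe (K9.f166472 IH) (Lpr_df (K9.f181939 IH) (Lpe (K9.f21242 IH) (Lpe (K9.f20594 IH) (Lpe (K13.f178280 IH) (Lpe (K19.f237796 IH) (Lpr_cf (f260763 IH) (Lpe (K15.f260748 IH) (Lpe (K14.f166468 IH) (Lpn (LP (LK LD1_c0 LD2_c58 LD3_c43))))))))))))))))))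
theorem f232334 : Led Lsl_bt (LP (LK LD1_c17 LD2_c36 LD3_c37)) = (LP (LK LD1_c9 LD2_c33 LD3_c49)) :=
  Lre_b IH (LK LD1_c17 LD2_c36 LD3_c37) (LK LD1_c9 LD2_c33 LD3_c49) Lrfl Lrfl
theorem f372693 : Led Lsl_gt (LP (LK LD1_c15 LD2_c37 LD3_c55)) = (LP (LK LD1_c15 LD2_c40 LD3_c24)) :=
  Lre_g IH (LK LD1_c15 LD2_c37 LD3_c55) (LK LD1_c15 LD2_c40 LD3_c24) Lrfl Lrfl
theorem f397181 : Led Lsl_gt (LP (LK LD1_c15 LD2_c40 LD3_c24)) = (LP (LK LD1_c15 LD2_c37 LD3_c58)) :=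
  Lgr Lrot46 (Lpe (f372693 IH) (Lpr_ft (K38.f397173 IH) (Lpe (K38.f397175 IH) (Lpn (LP (LK LD1_c15 LD2_c37 LD3_c58))))))
theorem f550718 : Led Lsl_gf (LP (LK LD1_c15 LD2_c58 LD3_c32)) = (LP (LK LD1_c15 LD2_c57 LD3_c21)) :=
  Lgr Lrot47 (Lpr_gt (K38.f550716 IH) (Lpe (K16.f270439 IH) (Lpe (K16.f270440 IH) (Lpn (LP (LK LD1_c15 LD2_c57 LD3_c21))))))
theorem f234359 : Led Lsl_ct (LP (LK LD1_c15 LD2_c38 LD3_c1)) = (LP (LK LD1_c8 LD2_c18 LD3_c43)) :=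
  Lre_c IH (LK LD1_c15 LD2_c38 LD3_c1) (LK LD1_c8 LD2_c18 LD3_c43) Lrfl Lrfl
theorem f234366 : Led Lsl_gt (LP (LK LD1_c8 LD2_c18 LD3_c43)) = (LP (LK LD1_c15 LD2_c37 LD3_c61)) :=
  Lre_g IH (LK LD1_c8 LD2_c18 LD3_c43) (LK LD1_c15 LD2_c37 LD3_c61) Lrfl Lrfl
theorem f295411 : Led Lsl_bt (LP (LK LD1_c15 LD2_c57 LD3_c32)) = (LP (LK LD1_c8 LD2_c29 LD3_c59)) :=
  Lre_b IH (LK LD1_c15 LD2_c57 LD3_c32) (LK LD1_c8 LD2_c29 LD3_c59) Lrfl Lrfl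
theorem f620380 : Led Lsl_cf (LP (LK LD1_c15 LD2_c37 LD3_c61)) = (LP (LK LD1_c15 LD2_c57 LD3_c32)) :=
  Lgr Lrot58 (Lpe (f234366 IH) (Lpe (f234359 IH) (Lpe (K38.f399203 IH) (Lpr_gf (f550718 IH) (Lpe (K38.f262906 IH) (Lpr_ct (K15.f262890 IH) (Lpe (K15.f261453 IH) (Lpr_cf (K18.f244694 IH) (Lpr_gf (K18.f295414 IH) (Lpe (f295411 IH) (Lpn (LP (LK LD1_c15 LD2_c57 LD3_c32)))))))))))))
theorem f366334 : Led Lsl_at (LP (LK LD1_c15 LD2_c37 LD3_c59)) = (LP (LK LD1_c8 LD2_c18 LD3_c43)) :=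
  Lre_a IH (LK LD1_c15 LD2_c37 LD3_c59) (LK LD1_c8 LD2_c18 LD3_c43) Lrfl Lrfl
theorem f372282 : Led Lsl_at (LP (LK LD1_c15 LD2_c33 LD3_c61)) = (LP (LK LD1_c25 LD2_c27 LD3_c39)) :=
  Lre_a IH (LK LD1_c15 LD2_c33 LD3_c61) (LK LD1_c25 LD2_c27 LD3_c39) Lrfl Lrfl
theorem f372618 : Led Lsl_ft (LP (LK LD1_c8 LD2_c18 LD3_c43)) = (LP (LK LD1_c15 LD2_c33 LD3_c61)) :=
  Lgr Lrot101 (Lpe (f366334 IH) (Lpr_ff (K38.f372613 IH) (Lpe (f372282 IH) (Lpn (LP (LK LD1_c15 LD2_c33 LD3_c61))))))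
theorem f372670 : Led Lsl_gt (LP (LK LD1_c15 LD2_c37 LD3_c61)) = (LP (LK LD1_c25 LD2_c27 LD3_c39)) :=
  Lgr Lrot46 (Lpe (f234366 IH) (Lpr_ft (f372618 IH) (Lpr_at (f372282 IH) (Lpn (LP (LK LD1_c25 LD2_c27 LD3_c39))))))
theorem f2821 : Led Lsl_bt (LP (LK LD1_c4 LD2_c53 LD3_c12)) = (LP (LK LD1_c2 LD2_c24 LD3_c24)) :=
  Lre_b IH (LK LD1_c4 LD2_c53 LD3_c12) (LK LD1_c2 LD2_c24 LD3_c24) Lrfl Lrfl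
theorem f2802 : Led Lsl_ct (LP (LK LD1_c9 LD2_c38 LD3_c24)) = (LP (LK LD1_c4 LD2_c53 LD3_c12)) :=
  Lre_c IH (LK LD1_c9 LD2_c38 LD3_c24) (LK LD1_c4 LD2_c53 LD3_c12) Lrfl Lrfl
theorem f2324 : Led Lsl_at (LP (LK LD1_c4 LD2_c53 LD3_c12)) = (LP (LK LD1_c9 LD2_c38 LD3_c21)) :=
  Lre_a IH (LK LD1_c4 LD2_c53 LD3_c12) (LK LD1_c9 LD2_c38 LD3_c21) Lrfl Lrfl
theorem f2803 : Led Lsl_at (LP (LK LD1_c17 LD2_c40 LD3_c60)) = (LP (LK LD1_c9 LD2_c38 LD3_c24)) :=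
  Lgr Lrot107 (Lpr_cf (K39.f2321 IH) (Lpe (f2324 IH) (Lpe (f2802 IH) (Lpn (LP (LK LD1_c9 LD2_c38 LD3_c24))))))
theorem f2807 : Led Lsl_df (LP (LK LD1_c17 LD2_c40 LD3_c49)) = (LP (LK LD1_c9 LD2_c38 LD3_c24)) :=
  Lgr Lrot18 (Lpr_at (K38.f2806 IH) (Lpr_dt (K0.f2313 IH) (Lpr_at (f2803 IH) (Lpn (LP (LK LD1_c9 LD2_c38 LD3_c24))))))
theorem f2811 : Led Lsl_dt (LP (LK LD1_c17 LD2_c40 LD3_c49)) = (LP (LK LD1_c9 LD2_c38 LD3_c24)) :=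
  Lgr Lrot42 (Lpr_df (f2807 IH) (Lpn (LP (LK LD1_c9 LD2_c38 LD3_c24))))
theorem f1989 : Led Lsl_gt (LP (LK LD1_c27 LD2_c28 LD3_c20)) = (LP (LK LD1_c17 LD2_c40 LD3_c49)) :=
  Lre_g IH (LK LD1_c27 LD2_c28 LD3_c20) (LK LD1_c17 LD2_c40 LD3_c49) Lrfl Lrfl
theorem f186939 : Led Lsl_dt (LP (LK LD1_c9 LD2_c35 LD3_c46)) = (LP (LK LD1_c17 LD2_c39 LD3_c61)) :=
  Lre_d IH (LK LD1_c9 LD2_c35 LD3_c46) (LK LD1_c17 LD2_c39 LD3_c61) Lrfl Lrfl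
theorem f186940 : Led Lsl_ct (LP (LK LD1_c17 LD2_c39 LD3_c61)) = (LP (LK LD1_c27 LD2_c27 LD3_c36)) :=
  Lre_c IH (LK LD1_c17 LD2_c39 LD3_c61) (LK LD1_c27 LD2_c27 LD3_c36) Lrfl Lrfl
theorem f235694 : Led Lsl_bf (LP (LK LD1_c27 LD2_c28 LD3_c20)) = (LP (LK LD1_c27 LD2_c27 LD3_c36)) :=
  Lgr Lrot184 (Lpr_gt (f1989 IH) (Lpr_dt (f2811 IH) (Lpr_ct (f2802 IH) (Lpr_bt (f2821 IH) (Lpr_gt (K12.f2527 IH) (Lpe (K12.f229436 IH) (Lpr_ct (K13.f229459 IH) (Lpr_bt (K14.f229467 IH) (Lpe (K14.f229641 IH) (Lpr_dt (K14.f169155 IH) (Lpr_ct (K14.f169145 IH) (Lpr_bt (K14.f169146 IH) (Lpr_gt (K13.f235597 IH) (Lpr_dt (K13.f235684 IH) (Lpe (K12.f186923 IH) (Lpr_bt (K30.f186931 IH) (Lpr_gt (K30.f186938 IH) (Lpr_dt (f186939 IH) (Lpr_ct (f186940 IH) (Lpn (LP (LK LD1_c27 LD2_c27 LD3_c36))))))))))))))))))))))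
theorem f186969 : Led Lsl_dt (LP (LK LD1_c25 LD2_c58 LD3_c42)) = (LP (LK LD1_c16 LD2_c1 LD3_c16)) :=
  Lre_d IH (LK LD1_c25 LD2_c58 LD3_c42) (LK LD1_c16 LD2_c1 LD3_c16) Lrfl Lrfl
theorem f186970 : Led Lsl_bt (LP (LK LD1_c17 LD2_c39 LD3_c61)) = (LP (LK LD1_c25 LD2_c58 LD3_c42)) :=
  Lgr Lrot95 (Lpe (f186939 IH) (Lpr_bf (K30.f186961 IH) (Lpe (f186969 IH) (Lpn (LP (LK LD1_c25 LD2_c58 LD3_c42))))))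
theorem f186983 : Led Lsl_bf (LP (LK LD1_c17 LD2_c39 LD3_c61)) = (LP (LK LD1_c25 LD2_c58 LD3_c42)) :=
  Lgr Lrot24 (Lpr_bt (f186970 IH) (Lpn (LP (LK LD1_c25 LD2_c58 LD3_c42))))
theorem f399315 : Led Lsl_ct (LP (LK LD1_c27 LD2_c31 LD3_c53)) = (LP (LK LD1_c25 LD2_c58 LD3_c42)) :=
  Lgr Lrot83 (Lpe (K39.f399281 IH) (Lpr_cf (K39.f399301 IH) (Lpr_bf (f235694 IH) (Lpe (f186940 IH) (Lpr_bf (f186983 IH) (Lpn (LP (LK LD1_c25 LD2_c58 LD3_c42))))))))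
theorem f186987 : Led Lsl_dt (LP (LK LD1_c16 LD2_c1 LD3_c16)) = (LP (LK LD1_c25 LD2_c58 LD3_c42)) :=
  Lre_d IH (LK LD1_c16 LD2_c1 LD3_c16) (LK LD1_c25 LD2_c58 LD3_c42) Lrfl Lrfl
theorem f186968 : Led Lsl_ct (LP (LK LD1_c8 LD2_c32 LD3_c2)) = (LP (LK LD1_c16 LD2_c1 LD3_c16)) :=
  Lre_c IH (LK LD1_c8 LD2_c32 LD3_c2) (LK LD1_c16 LD2_c1 LD3_c16) Lrfl Lrfl
theorem f399317 : Led Lsl_gf (LP (LK LD1_c17 LD2_c37 LD3_c54)) = (LP (LK LD1_c25 LD2_c28 LD3_c54)) :=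
  Lgr Lrot147 (Lpr_ct (K38.f397214 IH) (Lpe (K38.f399277 IH) (Lpr_ct (f399315 IH) (Lpe (f186987 IH) (Lpe (f186968 IH) (Lpr_gf (K30.f374789 IH) (Lpr_cf (K27.f171119 IH) (Lpe (K30.f374793 IH) (Lpe (K38.f394421 IH) (Lpn (LP (LK LD1_c25 LD2_c28 LD3_c54))))))))))))
theorem f233266 : Led Lsl_gt (LP (LK LD1_c15 LD2_c37 LD3_c40)) = (LP (LK LD1_c8 LD2_c18 LD3_c32)) :=
  Lre_g IH (LK LD1_c15 LD2_c37 LD3_c40) (LK LD1_c8 LD2_c18 LD3_c32) Lrfl Lrfl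
theorem f394426 : Led Lsl_gt (LP (LK LD1_c25 LD2_c28 LD3_c53)) = (LP (LK LD1_c15 LD2_c34 LD3_c47)) :=
  Lre_g IH (LK LD1_c25 LD2_c28 LD3_c53) (LK LD1_c15 LD2_c34 LD3_c47) Lrfl Lrfl
theorem f399321 : Led Lsl_dt (LP (LK LD1_c15 LD2_c37 LD3_c40)) = (LP (LK LD1_c25 LD2_c28 LD3_c53)) :=
  Lgr Lrot6 (Lpr_gt (f233266 IH) (Lpr_ct (K30.f167265 IH) (Lpr_gt (K30.f167275 IH) (Lpr_ct (K38.f236753 IH) (Lpe (K38.f397156 IH) (Lpe (K38.f397214 IH) (Lpr_gf (f399317 IH) (Lpe (K38.f233375 IH) (Lpe (f394426 IH) (Lpn (LP (LK LD1_c25 LD2_c28 LD3_c53))))))))))))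
theorem f372573 : Led Lsl_ff (LP (LK LD1_c15 LD2_c37 LD3_c41)) = (LP (LK LD1_c9 LD2_c35 LD3_c57)) :=
  Lgr Lrot19 (Lpr_dt (K38.f372572 IH) (Lpr_ft (K30.f372567 IH) (Lpr_dt (K30.f232656 IH) (Lpn (LP (LK LD1_c9 LD2_c35 LD3_c57))))))
theorem f372710 : Led Lsl_at (LP (LK LD1_c15 LD2_c37 LD3_c41)) = (LP (LK LD1_c8 LD2_c18 LD3_c32)) :=
  Lre_a IH (LK LD1_c15 LD2_c37 LD3_c41) (LK LD1_c8 LD2_c18 LD3_c32) Lrfl Lrfl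
theorem f372864 : Led Lsl_gf (LP (LK LD1_c15 LD2_c37 LD3_c40)) = (LP (LK LD1_c9 LD2_c35 LD3_c57)) :=
  Lgr Lrot47 (Lpr_gt (f233266 IH) (Lpe (f372710 IH) (Lpr_ff (f372573 IH) (Lpn (LP (LK LD1_c9 LD2_c35 LD3_c57))))))
theorem f220075 : Led Lsl_gt (LP (LK LD1_c15 LD2_c35 LD3_c39)) = (LP (LK LD1_c8 LD2_c17 LD3_c35)) :=
  Lre_g IH (LK LD1_c15 LD2_c35 LD3_c39) (LK LD1_c8 LD2_c17 LD3_c35) Lrfl Lrfl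
theorem f399325 : Led Lsl_dt (LP (LK LD1_c8 LD2_c18 LD3_c41)) = (LP (LK LD1_c15 LD2_c35 LD3_c39)) :=
  Lgr Lrot57 (Lpr_gf (K30.f372609 IH) (Lpr_cf (K30.f232612 IH) (Lpe (f372864 IH) (Lpr_dt (f399321 IH) (Lpr_gt (f394426 IH) (Lpr_dt (K30.f263836 IH) (Lpe (K38.f220073 IH) (Lpe (K38.f220074 IH) (Lpe (f220075 IH) (Lpn (LP (LK LD1_c15 LD2_c35 LD3_c39))))))))))))
theorem f394536 : Led Lsl_ct (LP (LK LD1_c15 LD2_c35 LD3_c39)) = (LP (LK LD1_c25 LD2_c30 LD3_c2)) :=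
  Lre_c IH (LK LD1_c15 LD2_c35 LD3_c39) (LK LD1_c25 LD2_c30 LD3_c2) Lrfl Lrfl
theorem f170562 : Led Lsl_dt (LP (LK LD1_c25 LD2_c32 LD3_c61)) = (LP (LK LD1_c15 LD2_c37 LD3_c58)) :=
  Lre_d IH (LK LD1_c25 LD2_c32 LD3_c61) (LK LD1_c15 LD2_c37 LD3_c58) Lrfl Lrfl
theorem f233385 : Led Lsl_bt (LP (LK LD1_c9 LD2_c33 LD3_c49)) = (LP (LK LD1_c17 LD2_c36 LD3_c37)) :=
  Lre_b IH (LK LD1_c9 LD2_c33 LD3_c49) (LK LD1_c17 LD2_c36 LD3_c37) Lrfl Lrfl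
theorem f394430 : Led Lsl_ct (LP (LK LD1_c17 LD2_c36 LD3_c37)) = (LP (LK LD1_c25 LD2_c32 LD3_c61)) :=
  Lgr Lrot83 (Lpe (f233385 IH) (Lpe (K13.f233376 IH) (Lpe (K30.f233388 IH) (Lpe (K30.f233389 IH) (Lpr_bf (K38.f394423 IH) (Lpn (LP (LK LD1_c25 LD2_c32 LD3_c61))))))))
theorem f167399 : Led Lsl_dt (LP (LK LD1_c9 LD2_c33 LD3_c48)) = (LP (LK LD1_c17 LD2_c36 LD3_c37)) :=
  Lre_d IH (LK LD1_c9 LD2_c33 LD3_c48) (LK LD1_c17 LD2_c36 LD3_c37) Lrfl Lrfl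
theorem f399334 : Led Lsl_at (LP (LK LD1_c15 LD2_c57 LD3_c57)) = (LP (LK LD1_c25 LD2_c30 LD3_c2)) :=
  Lgr Lrot33 (Lpe (K38.f349482 IH) (Lpe (K38.f243333 IH) (Lpr_ct (K26.f167375 IH) (Lpr_dt (f167399 IH) (Lpr_ct (f394430 IH) (Lpr_dt (f170562 IH) (Lpr_ct (K30.f167267 IH) (Lpr_dt (f399325 IH) (Lpr_ct (f394536 IH) (Lpn (LP (LK LD1_c25 LD2_c30 LD3_c2))))))))))))
theorem f295146 : Led Lsl_bt (LP (LK LD1_c8 LD2_c30 LD3_c7)) = (LP (LK LD1_c15 LD2_c57 LD3_c57)) :=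
  Lre_b IH (LK LD1_c8 LD2_c30 LD3_c7) (LK LD1_c15 LD2_c57 LD3_c57) Lrfl Lrfl
theorem f349127 : Led Lsl_at (LP (LK LD1_c4 LD2_c16 LD3_c33)) = (LP (LK LD1_c8 LD2_c30 LD3_c7)) :=
  Lgr Lrot100 (Lpr_af (K26.f349125 IH) (Lpn (LP (LK LD1_c8 LD2_c30 LD3_c7))))
theorem f53413 : Led Lsl_bt (LP (LK LD1_c8 LD2_c32 LD3_c20)) = (LP (LK LD1_c4 LD2_c16 LD3_c33)) :=
  Lre_b IH (LK LD1_c8 LD2_c32 LD3_c20) (LK LD1_c4 LD2_c16 LD3_c33) Lrfl Lrfl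
theorem f243350 : Led Lsl_at (LP (LK LD1_c16 LD2_c1 LD3_c56)) = (LP (LK LD1_c8 LD2_c32 LD3_c20)) :=
  Lre_a IH (LK LD1_c16 LD2_c1 LD3_c56) (LK LD1_c8 LD2_c32 LD3_c20) Lrfl Lrfl
theorem f399339 : Led Lsl_bf (LP (LK LD1_c16 LD2_c1 LD3_c56)) = (LP (LK LD1_c25 LD2_c30 LD3_c2)) :=
  Lgr Lrot81 (Lpr_at (f243350 IH) (Lpr_bt (f53413 IH) (Lpr_at (f349127 IH) (Lpr_bt (f295146 IH) (Lpr_at (f399334 IH) (Lpn (LP (LK LD1_c25 LD2_c30 LD3_c2))))))))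
theorem f188683 : Led Lsl_bt (LP (LK LD1_c8 LD2_c26 LD3_c32)) = (LP (LK LD1_c15 LD2_c51 LD3_c17)) :=
  Lre_b IH (LK LD1_c8 LD2_c26 LD3_c32) (LK LD1_c15 LD2_c51 LD3_c17) Lrfl Lrfl
theorem f243309 : Led Lsl_df (LP (LK LD1_c8 LD2_c32 LD3_c20)) = (LP (LK LD1_c15 LD2_c51 LD3_c17)) :=
  Lgr Lrot12 (Lpr_bt (f53413 IH) (Lpr_dt (K13.f243306 IH) (Lpr_bt (f188683 IH) (Lpn (LP (LK LD1_c15 LD2_c51 LD3_c17))))))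
theorem f243338 : Led Lsl_at (LP (LK LD1_c8 LD2_c32 LD3_c20)) = (LP (LK LD1_c16 LD2_c1 LD3_c56)) :=
  Lre_a IH (LK LD1_c8 LD2_c32 LD3_c20) (LK LD1_c16 LD2_c1 LD3_c56) Lrfl Lrfl
theorem f188679 : Led Lsl_at (LP (LK LD1_c25 LD2_c47 LD3_c11)) = (LP (LK LD1_c15 LD2_c51 LD3_c17)) :=
  Lre_a IH (LK LD1_c25 LD2_c47 LD3_c11) (LK LD1_c15 LD2_c51 LD3_c17) Lrfl Lrfl
theorem f243339 : Led Lsl_dt (LP (LK LD1_c16 LD2_c1 LD3_c56)) = (LP (LK LD1_c25 LD2_c47 LD3_c11)) :=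
  Lgr Lrot44 (Lpe (f243338 IH) (Lpr_df (f243309 IH) (Lpe (f188679 IH) (Lpn (LP (LK LD1_c25 LD2_c47 LD3_c11))))))
theorem f349158 : Led Lsl_ff (LP (LK LD1_c4 LD2_c16 LD3_c33)) = (LP (LK LD1_c8 LD2_c30 LD3_c8)) :=
  Lgr Lrot23 (Lpe (K15.f188954 IH) (Lpr_ft (K26.f349154 IH) (Lpe (K16.f278047 IH) (Lpn (LP (LK LD1_c8 LD2_c30 LD3_c8))))))
theorem f349276 : Led Lsl_ft (LP (LK LD1_c8 LD2_c26 LD3_c32)) = (LP (LK LD1_c5 LD2_c30 LD3_c18)) :=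
  Lgr Lrot54 (Lpe (K13.f243306 IH) (Lpr_ff (f349158 IH) (Lpr_df (K16.f236222 IH) (Lpn (LP (LK LD1_c5 LD2_c30 LD3_c18))))))
theorem f188638 : Led Lsl_bt (LP (LK LD1_c15 LD2_c51 LD3_c17)) = (LP (LK LD1_c8 LD2_c26 LD3_c32)) :=
  Lre_b IH (LK LD1_c15 LD2_c51 LD3_c17) (LK LD1_c8 LD2_c26 LD3_c32) Lrfl Lrfl
theorem f219106 : Led Lsl_bt (LP (LK LD1_c5 LD2_c30 LD3_c18)) = (LP (LK LD1_c10 LD2_c52 LD3_c0)) :=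
  Lre_b IH (LK LD1_c5 LD2_c30 LD3_c18) (LK LD1_c10 LD2_c52 LD3_c0) Lrfl Lrfl
theorem f349280 : Led Lsl_ff (LP (LK LD1_c15 LD2_c51 LD3_c17)) = (LP (LK LD1_c10 LD2_c52 LD3_c0)) :=
  Lgr Lrot25 (Lpr_bt (f188638 IH) (Lpr_ft (f349276 IH) (Lpr_bt (f219106 IH) (Lpn (LP (LK LD1_c10 LD2_c52 LD3_c0))))))
theorem f349288 : Led Lsl_ft (LP (LK LD1_c15 LD2_c51 LD3_c17)) = (LP (LK LD1_c10 LD2_c52 LD3_c0)) :=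
  Lgr Lrot48 (Lpr_ff (f349280 IH) (Lpn (LP (LK LD1_c10 LD2_c52 LD3_c0))))
theorem f349026 : Led Lsl_at (LP (LK LD1_c10 LD2_c52 LD3_c0)) = (LP (LK LD1_c19 LD2_c38 LD3_c52)) :=
  Lre_a IH (LK LD1_c10 LD2_c52 LD3_c0) (LK LD1_c19 LD2_c38 LD3_c52) Lrfl Lrfl
theorem f349292 : Led Lsl_ff (LP (LK LD1_c25 LD2_c47 LD3_c11)) = (LP (LK LD1_c19 LD2_c38 LD3_c52)) :=
  Lgr Lrot30 (Lpr_at (f188679 IH) (Lpr_ft (f349288 IH) (Lpr_at (f349026 IH) (Lpn (LP (LK LD1_c19 LD2_c38 LD3_c52))))))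
theorem f349310 : Led Lsl_bt (LP (LK LD1_c25 LD2_c47 LD3_c11)) = (LP (LK LD1_c17 LD2_c37 LD3_c12)) :=
  Lgr Lrot35 (Lpr_ff (f349292 IH) (Lpr_bf (K26.f349027 IH) (Lpr_ff (K38.f349106 IH) (Lpn (LP (LK LD1_c17 LD2_c37 LD3_c12))))))
theorem f399358 : Led Lsl_dt (LP (LK LD1_c17 LD2_c37 LD3_c12)) = (LP (LK LD1_c25 LD2_c30 LD3_c2)) :=
  Lgr Lrot79 (Lpe (f349310 IH) (Lpe (f243339 IH) (Lpr_bf (f399339 IH) (Lpn (LP (LK LD1_c25 LD2_c30 LD3_c2))))))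
theorem f167402 : Led Lsl_gt (LP (LK LD1_c15 LD2_c51 LD3_c28)) = (LP (LK LD1_c25 LD2_c47 LD3_c17)) :=
  Lre_g IH (LK LD1_c15 LD2_c51 LD3_c28) (LK LD1_c25 LD2_c47 LD3_c17) Lrfl Lrfl
theorem f349111 : Led Lsl_gt (LP (LK LD1_c25 LD2_c47 LD3_c17)) = (LP (LK LD1_c17 LD2_c37 LD3_c12)) :=
  Lgr Lrot46 (Lpe (f167402 IH) (Lpr_ft (K26.f349101 IH) (Lpr_at (K38.f349105 IH) (Lpn (LP (LK LD1_c17 LD2_c37 LD3_c12))))))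
theorem f254646 : Led Lsl_af (LP (LK LD1_c8 LD2_c55 LD3_c48)) = (LP (LK LD1_c5 LD2_c29 LD3_c46)) :=
  Lgr Lrot117 (Lpr_dt (K14.f228791 IH) (Lpr_at (K14.f254640 IH) (Lpr_dt (K13.f220214 IH) (Lpn (LP (LK LD1_c5 LD2_c29 LD3_c46))))))
theorem f254705 : Led Lsl_at (LP (LK LD1_c8 LD2_c19 LD3_c28)) = (LP (LK LD1_c8 LD2_c17 LD3_c18)) :=
  Lgr Lrot107 (Lpr_cf (K14.f254698 IH) (Lpr_af (f254646 IH) (Lpr_cf (K14.f233925 IH) (Lpn (LP (LK LD1_c8 LD2_c17 LD3_c18))))))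
theorem f254784 : Led Lsl_ff (LP (LK LD1_c8 LD2_c19 LD3_c28)) = (LP (LK LD1_c8 LD2_c17 LD3_c24)) :=
  Lgr Lrot52 (Lpr_at (f254705 IH) (Lpe (K14.f234189 IH) (Lpr_gf (K14.f254773 IH) (Lpn (LP (LK LD1_c8 LD2_c17 LD3_c24))))))
theorem f254707 : Led Lsl_bt (LP (LK LD1_c8 LD2_c19 LD3_c28)) = (LP (LK LD1_c15 LD2_c39 LD3_c37)) :=
  Lre_b IH (LK LD1_c8 LD2_c19 LD3_c28) (LK LD1_c15 LD2_c39 LD3_c37) Lrfl Lrfl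
theorem f254775 : Led Lsl_bt (LP (LK LD1_c15 LD2_c35 LD3_c17)) = (LP (LK LD1_c8 LD2_c17 LD3_c24)) :=
  Lre_b IH (LK LD1_c15 LD2_c35 LD3_c17) (LK LD1_c8 LD2_c17 LD3_c24) Lrfl Lrfl
theorem f417184 : Led Lsl_ft (LP (LK LD1_c15 LD2_c39 LD3_c37)) = (LP (LK LD1_c15 LD2_c35 LD3_c17)) :=
  Lgr Lrot75 (Lpe (f254707 IH) (Lpr_ff (f254784 IH) (Lpe (f254775 IH) (Lpn (LP (LK LD1_c15 LD2_c35 LD3_c17))))))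
theorem f417188 : Led Lsl_ff (LP (LK LD1_c15 LD2_c39 LD3_c37)) = (LP (LK LD1_c15 LD2_c35 LD3_c17)) :=
  Lgr Lrot3 (Lpr_ft (f417184 IH) (Lpn (LP (LK LD1_c15 LD2_c35 LD3_c17))))
theorem f220335 : Led Lsl_dt (LP (LK LD1_c8 LD2_c17 LD3_c23)) = (LP (LK LD1_c15 LD2_c35 LD3_c17)) :=
  Lre_d IH (LK LD1_c8 LD2_c17 LD3_c23) (LK LD1_c15 LD2_c35 LD3_c17) Lrfl Lrfl
theorem f167751 : Led Lsl_bt (LP (LK LD1_c4 LD2_c16 LD3_c61)) = (LP (LK LD1_c8 LD2_c33 LD3_c22)) :=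
  Lre_b IH (LK LD1_c4 LD2_c16 LD3_c61) (LK LD1_c8 LD2_c33 LD3_c22) Lrfl Lrfl
theorem f260702 : Led Lsl_ft (LP (LK LD1_c8 LD2_c33 LD3_c22)) = (LP (LK LD1_c8 LD2_c17 LD3_c23)) :=
  Lgr Lrot75 (Lpe (f167751 IH) (Lpr_ff (K15.f260700 IH) (Lpe (K38.f220043 IH) (Lpn (LP (LK LD1_c8 LD2_c17 LD3_c23))))))
theorem f417190 : Led Lsl_dt (LP (LK LD1_c15 LD2_c39 LD3_c37)) = (LP (LK LD1_c8 LD2_c33 LD3_c22)) :=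
  Lgr Lrot60 (Lpr_ff (f417188 IH) (Lpe (f220335 IH) (Lpe (f260702 IH) (Lpn (LP (LK LD1_c8 LD2_c33 LD3_c22))))))
theorem f237804 : Led Lsl_ct (LP (LK LD1_c4 LD2_c17 LD3_c1)) = (LP (LK LD1_c8 LD2_c33 LD3_c22)) :=
  Lre_c IH (LK LD1_c4 LD2_c17 LD3_c1) (LK LD1_c8 LD2_c33 LD3_c22) Lrfl Lrfl
theorem f51777 : Led Lsl_dt (LP (LK LD1_c2 LD2_c3 LD3_c6)) = (LP (LK LD1_c4 LD2_c11 LD3_c55)) :=
  Lre_d IH (LK LD1_c2 LD2_c3 LD3_c6) (LK LD1_c4 LD2_c11 LD3_c55) Lrfl Lrfl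
theorem f51776 : Led Lsl_gt (LP (LK LD1_c4 LD2_c11 LD3_c46)) = (LP (LK LD1_c2 LD2_c3 LD3_c6)) :=
  Lre_g IH (LK LD1_c4 LD2_c11 LD3_c46) (LK LD1_c2 LD2_c3 LD3_c6) Lrfl Lrfl
theorem f51781 : Led Lsl_ct (LP (LK LD1_c8 LD2_c19 LD3_c40)) = (LP (LK LD1_c4 LD2_c11 LD3_c46)) :=
  Lre_c IH (LK LD1_c8 LD2_c19 LD3_c40) (LK LD1_c4 LD2_c11 LD3_c46) Lrfl Lrfl
theorem f52161 : Led Lsl_gt (LP (LK LD1_c8 LD2_c19 LD3_c40)) = (LP (LK LD1_c4 LD2_c9 LD3_c48)) :=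
  Lre_g IH (LK LD1_c8 LD2_c19 LD3_c40) (LK LD1_c4 LD2_c9 LD3_c48) Lrfl Lrfl
theorem f400756 : Led Lsl_dt (LP (LK LD1_c4 LD2_c9 LD3_c48)) = (LP (LK LD1_c8 LD2_c19 LD3_c46)) :=
  Lre_d IH (LK LD1_c4 LD2_c9 LD3_c48) (LK LD1_c8 LD2_c19 LD3_c46) Lrfl Lrfl
theorem f417192 : Led Lsl_gf (LP (LK LD1_c15 LD2_c39 LD3_c37)) = (LP (LK LD1_c8 LD2_c19 LD3_c46)) :=
  Lgr Lrot143 (Lpr_dt (f417190 IH) (Lpe (f237804 IH) (Lpe (K38.f295661 IH) (Lpr_gf (K40.f400511 IH) (Lpe (f51777 IH) (Lpe (f51776 IH) (Lpe (f51781 IH) (Lpr_gt (f52161 IH) (Lpr_dt (f400756 IH) (Lpn (LP (LK LD1_c8 LD2_c19 LD3_c46))))))))))))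
theorem f417195 : Led Lsl_bt (LP (LK LD1_c15 LD2_c40 LD3_c25)) = (LP (LK LD1_c8 LD2_c19 LD3_c46)) :=
  Lre_b IH (LK LD1_c15 LD2_c40 LD3_c25) (LK LD1_c8 LD2_c19 LD3_c46) Lrfl Lrfl
theorem f400487 : Led Lsl_ct (LP (LK LD1_c25 LD2_c35 LD3_c56)) = (LP (LK LD1_c15 LD2_c40 LD3_c25)) :=
  Lre_c IH (LK LD1_c25 LD2_c35 LD3_c56) (LK LD1_c15 LD2_c40 LD3_c25) Lrfl Lrfl
theorem f237803 : Led Lsl_bt (LP (LK LD1_c4 LD2_c17 LD3_c1)) = (LP (LK LD1_c2 LD2_c5 LD3_c49)) :=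
  Lre_b IH (LK LD1_c4 LD2_c17 LD3_c1) (LK LD1_c2 LD2_c5 LD3_c49) Lrfl Lrfl
theorem f417196 : Led Lsl_df (LP (LK LD1_c25 LD2_c35 LD3_c56)) = (LP (LK LD1_c25 LD2_c47 LD3_c17)) :=
  Lgr Lrot183 (Lpr_ct (f400487 IH) (Lpr_bt (f417195 IH) (Lpe (f417192 IH) (Lpr_dt (f417190 IH) (Lpr_ct (K15.f232291 IH) (Lpr_bt (f237803 IH) (Lpe (K12.f180239 IH) (Lpr_dt (K21.f179534 IH) (Lpe (K19.f179556 IH) (Lpr_bt (K14.f221827 IH) (Lpe (K14.f221828 IH) (Lpr_dt (K12.f188770 IH) (Lpr_ct (K12.f188696 IH) (Lpr_bt (K10.f188760 IH) (Lpe (K10.f188736 IH) (Lpr_dt (K14.f167420 IH) (Lpr_ct (K13.f167371 IH) (Lpr_bt (K26.f167372 IH) (Lpr_gt (f167402 IH) (Lpn (LP (LK LD1_c25 LD2_c47 LD3_c17))))))))))))))))))))))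
theorem f417199 : Led Lsl_dt (LP (LK LD1_c25 LD2_c35 LD3_c56)) = (LP (LK LD1_c25 LD2_c47 LD3_c17)) :=
  Lgr Lrot42 (Lpr_df (f417196 IH) (Lpn (LP (LK LD1_c25 LD2_c47 LD3_c17))))
theorem f620390 : Led Lsl_gf (LP (LK LD1_c25 LD2_c35 LD3_c56)) = (LP (LK LD1_c15 LD2_c57 LD3_c32)) :=
  Lgr Lrot144 (Lpr_dt (f417199 IH) (Lpr_gt (f349111 IH) (Lpr_dt (f399358 IH) (Lpe (f394536 IH) (Lpe (f399325 IH) (Lpr_gf (K30.f372609 IH) (Lpe (K38.f232661 IH) (Lpe (f372670 IH) (Lpr_cf (f620380 IH) (Lpn (LP (LK LD1_c15 LD2_c57 LD3_c32))))))))))))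
theorem f171108 : Led Lsl_dt (LP (LK LD1_c15 LD2_c57 LD3_c32)) = (LP (LK LD1_c8 LD2_c29 LD3_c58)) :=
  Lre_d IH (LK LD1_c15 LD2_c57 LD3_c32) (LK LD1_c8 LD2_c29 LD3_c58) Lrfl Lrfl
theorem f373017 : Led Lsl_at (LP (LK LD1_c25 LD2_c29 LD3_c54)) = (LP (LK LD1_c15 LD2_c57 LD3_c32)) :=
  Lgr Lrot51 (Lpr_df (K27.f373015 IH) (Lpe (K27.f171098 IH) (Lpe (f171108 IH) (Lpn (LP (LK LD1_c15 LD2_c57 LD3_c32))))))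
theorem f373031 : Led Lsl_at (LP (LK LD1_c8 LD2_c32 LD3_c5)) = (LP (LK LD1_c16 LD2_c1 LD3_c20)) :=
  Lre_a IH (LK LD1_c8 LD2_c32 LD3_c5) (LK LD1_c16 LD2_c1 LD3_c20) Lrfl Lrfl
theorem f373032 : Led Lsl_ft (LP (LK LD1_c15 LD2_c57 LD3_c32)) = (LP (LK LD1_c8 LD2_c32 LD3_c5)) :=
  Lgr Lrot101 (Lpe (f373017 IH) (Lpr_ff (K27.f373027 IH) (Lpe (f373031 IH) (Lpn (LP (LK LD1_c8 LD2_c32 LD3_c5))))))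
theorem f620392 : Led Lsl_gt (LP (LK LD1_c25 LD2_c35 LD3_c56)) = (LP (LK LD1_c16 LD2_c1 LD3_c20)) :=
  Lgr Lrot46 (Lpr_gf (f620390 IH) (Lpr_ft (f373032 IH) (Lpr_at (f373031 IH) (Lpn (LP (LK LD1_c16 LD2_c1 LD3_c20))))))
theorem f349087 : Led Lsl_ct (LP (LK LD1_c17 LD2_c37 LD3_c12)) = (LP (LK LD1_c9 LD2_c34 LD3_c29)) :=
  Lre_c IH (LK LD1_c17 LD2_c37 LD3_c12) (LK LD1_c9 LD2_c34 LD3_c29) Lrfl Lrfl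
theorem f349656 : Led Lsl_gf (LP (LK LD1_c17 LD2_c36 LD3_c35)) = (LP (LK LD1_c9 LD2_c34 LD3_c29)) :=
  Lgr Lrot47 (Lpr_gt (K38.f167406 IH) (Lpe (K26.f167401 IH) (Lpr_ff (K38.f349081 IH) (Lpn (LP (LK LD1_c9 LD2_c34 LD3_c29))))))
theorem f234736 : Led Lsl_ct (LP (LK LD1_c8 LD2_c18 LD3_c43)) = (LP (LK LD1_c15 LD2_c38 LD3_c1)) :=
  Lre_c IH (LK LD1_c8 LD2_c18 LD3_c43) (LK LD1_c15 LD2_c38 LD3_c1) Lrfl Lrfl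
theorem f167263 : Led Lsl_gt (LP (LK LD1_c15 LD2_c38 LD3_c0)) = (LP (LK LD1_c8 LD2_c18 LD3_c43)) :=
  Lre_g IH (LK LD1_c15 LD2_c38 LD3_c0) (LK LD1_c8 LD2_c18 LD3_c43) Lrfl Lrfl
theorem f620400 : Led Lsl_cf (LP (LK LD1_c15 LD2_c38 LD3_c0)) = (LP (LK LD1_c16 LD2_c1 LD3_c20)) :=
  Lgr Lrot169 (Lpr_gt (f167263 IH) (Lpr_ct (f234736 IH) (Lpe (K38.f399205 IH) (Lpr_cf (K38.f243513 IH) (Lpr_gf (f349656 IH) (Lpe (f349087 IH) (Lpe (f349111 IH) (Lpe (f417199 IH) (Lpr_gt (f620392 IH) (Lpn (LP (LK LD1_c16 LD2_c1 LD3_c20))))))))))))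
theorem f372992 : Led Lsl_dt (LP (LK LD1_c8 LD2_c32 LD3_c3)) = (LP (LK LD1_c16 LD2_c1 LD3_c20)) :=
  Lre_d IH (LK LD1_c8 LD2_c32 LD3_c3) (LK LD1_c16 LD2_c1 LD3_c20) Lrfl Lrfl
theorem f365382 : Led Lsl_ft (LP (LK LD1_c8 LD2_c29 LD3_c58)) = (LP (LK LD1_c4 LD2_c16 LD3_c25)) :=
  Lgr Lrot75 (Lpe (K30.f171040 IH) (Lpr_ff (K26.f365380 IH) (Lpe (K27.f53407 IH) (Lpn (LP (LK LD1_c4 LD2_c16 LD3_c25))))))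
theorem f171052 : Led Lsl_gt (LP (LK LD1_c8 LD2_c29 LD3_c58)) = (LP (LK LD1_c15 LD2_c57 LD3_c29)) :=
  Lre_g IH (LK LD1_c8 LD2_c29 LD3_c58) (LK LD1_c15 LD2_c57 LD3_c29) Lrfl Lrfl
theorem f369315 : Led Lsl_at (LP (LK LD1_c4 LD2_c16 LD3_c25)) = (LP (LK LD1_c8 LD2_c32 LD3_c3)) :=
  Lre_a IH (LK LD1_c4 LD2_c16 LD3_c25) (LK LD1_c8 LD2_c32 LD3_c3) Lrfl Lrfl
theorem f377800 : Led Lsl_gt (LP (LK LD1_c15 LD2_c57 LD3_c29)) = (LP (LK LD1_c8 LD2_c32 LD3_c3)) :=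
  Lgr Lrot46 (Lpe (f171052 IH) (Lpr_ft (f365382 IH) (Lpr_at (f369315 IH) (Lpn (LP (LK LD1_c8 LD2_c32 LD3_c3))))))
theorem f377802 : Led Lsl_dt (LP (LK LD1_c25 LD2_c53 LD3_c55)) = (LP (LK LD1_c15 LD2_c57 LD3_c29)) :=
  Lre_d IH (LK LD1_c25 LD2_c53 LD3_c55) (LK LD1_c15 LD2_c57 LD3_c29) Lrfl Lrfl
theorem f400395 : Led Lsl_df (LP (LK LD1_c17 LD2_c37 LD3_c56)) = (LP (LK LD1_c9 LD2_c35 LD3_c8)) :=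
  Lgr Lrot78 (Lpr_ft (K38.f400391 IH) (Lpr_dt (K38.f394421 IH) (Lpe (K30.f397009 IH) (Lpn (LP (LK LD1_c9 LD2_c35 LD3_c8))))))
theorem f171053 : Led Lsl_dt (LP (LK LD1_c15 LD2_c57 LD3_c29)) = (LP (LK LD1_c25 LD2_c53 LD3_c55)) :=
  Lre_d IH (LK LD1_c15 LD2_c57 LD3_c29) (LK LD1_c25 LD2_c53 LD3_c55) Lrfl Lrfl
theorem f243330 : Led Lsl_at (LP (LK LD1_c8 LD2_c32 LD3_c22)) = (LP (LK LD1_c16 LD2_c1 LD3_c59)) :=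
  Lre_a IH (LK LD1_c8 LD2_c32 LD3_c22) (LK LD1_c16 LD2_c1 LD3_c59) Lrfl Lrfl
theorem f243331 : Led Lsl_df (LP (LK LD1_c25 LD2_c47 LD3_c18)) = (LP (LK LD1_c16 LD2_c1 LD3_c59)) :=
  Lgr Lrot18 (Lpr_at (K26.f167393 IH) (Lpr_dt (K38.f243313 IH) (Lpr_at (f243330 IH) (Lpn (LP (LK LD1_c16 LD2_c1 LD3_c59))))))
theorem f400401 : Led Lsl_gt (LP (LK LD1_c25 LD2_c53 LD3_c55)) = (LP (LK LD1_c16 LD2_c1 LD3_c59)) :=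
  Lgr Lrot49 (Lpe (f171053 IH) (Lpe (f171052 IH) (Lpr_cf (K27.f171089 IH) (Lpr_gt (K30.f171107 IH) (Lpe (f400395 IH) (Lpr_gt (K38.f400399 IH) (Lpr_dt (K38.f167418 IH) (Lpe (K26.f167411 IH) (Lpr_df (f243331 IH) (Lpn (LP (LK LD1_c16 LD2_c1 LD3_c59))))))))))))
theorem f349119 : Led Lsl_ff (LP (LK LD1_c8 LD2_c32 LD3_c22)) = (LP (LK LD1_c15 LD2_c57 LD3_c57)) :=
  Lgr Lrot25 (Lpr_bt (K31.f7920 IH) (Lpr_ft (K26.f349117 IH) (Lpr_bt (f295146 IH) (Lpn (LP (LK LD1_c15 LD2_c57 LD3_c57))))))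
theorem f400425 : Led Lsl_gf (LP (LK LD1_c25 LD2_c53 LD3_c55)) = (LP (LK LD1_c15 LD2_c57 LD3_c57)) :=
  Lgr Lrot47 (Lpr_gt (f400401 IH) (Lpe (f243330 IH) (Lpr_ff (f349119 IH) (Lpn (LP (LK LD1_c15 LD2_c57 LD3_c57))))))
theorem f400340 : Led Lsl_ct (LP (LK LD1_c25 LD2_c27 LD3_c16)) = (LP (LK LD1_c15 LD2_c57 LD3_c57)) :=
  Lgr Lrot59 (Lpr_cf (K38.f400334 IH) (Lpn (LP (LK LD1_c15 LD2_c57 LD3_c57))))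
theorem f394375 : Led Lsl_ff (LP (LK LD1_c15 LD2_c33 LD3_c38)) = (LP (LK LD1_c8 LD2_c17 LD3_c34)) :=
  Lgr Lrot3 (Lpr_ft (K30.f394354 IH) (Lpn (LP (LK LD1_c8 LD2_c17 LD3_c34))))
theorem f394470 : Led Lsl_gf (LP (LK LD1_c15 LD2_c33 LD3_c37)) = (LP (LK LD1_c8 LD2_c17 LD3_c34)) :=
  Lgr Lrot47 (Lpr_gt (K38.f236064 IH) (Lpe (K30.f236055 IH) (Lpr_ff (f394375 IH) (Lpn (LP (LK LD1_c8 LD2_c17 LD3_c34))))))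
theorem f620416 : Led Lsl_df (LP (LK LD1_c15 LD2_c38 LD3_c0)) = (LP (LK LD1_c15 LD2_c33 LD3_c37)) :=
  Lgr Lrot84 (Lpr_cf (f620400 IH) (Lpe (f372992 IH) (Lpe (f377800 IH) (Lpe (f377802 IH) (Lpr_gf (f400425 IH) (Lpe (f400340 IH) (Lpe (K38.f394412 IH) (Lpr_dt (K30.f394258 IH) (Lpe (f394470 IH) (Lpn (LP (LK LD1_c15 LD2_c33 LD3_c37))))))))))))
theorem f167262 : Led Lsl_dt (LP (LK LD1_c8 LD2_c18 LD3_c43)) = (LP (LK LD1_c4 LD2_c9 LD3_c20)) :=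
  Lre_d IH (LK LD1_c8 LD2_c18 LD3_c43) (LK LD1_c4 LD2_c9 LD3_c20) Lrfl Lrfl
theorem f167261 : Led Lsl_ct (LP (LK LD1_c4 LD2_c9 LD3_c20)) = (LP (LK LD1_c8 LD2_c18 LD3_c32)) :=
  Lre_c IH (LK LD1_c4 LD2_c9 LD3_c20) (LK LD1_c8 LD2_c18 LD3_c32) Lrfl Lrfl
theorem f234689 : Led Lsl_dt (LP (LK LD1_c15 LD2_c37 LD3_c42)) = (LP (LK LD1_c8 LD2_c18 LD3_c32)) :=
  Lre_d IH (LK LD1_c15 LD2_c37 LD3_c42) (LK LD1_c8 LD2_c18 LD3_c32) Lrfl Lrfl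
theorem f233347 : Led Lsl_gt (LP (LK LD1_c25 LD2_c32 LD3_c44)) = (LP (LK LD1_c15 LD2_c37 LD3_c42)) :=
  Lre_g IH (LK LD1_c25 LD2_c32 LD3_c44) (LK LD1_c15 LD2_c37 LD3_c42) Lrfl Lrfl
theorem f236054 : Led Lsl_at (LP (LK LD1_c9 LD2_c34 LD3_c51)) = (LP (LK LD1_c17 LD2_c38 LD3_c30)) :=
  Lre_a IH (LK LD1_c9 LD2_c34 LD3_c51) (LK LD1_c17 LD2_c38 LD3_c30) Lrfl Lrfl
theorem f236056 : Led Lsl_ct (LP (LK LD1_c17 LD2_c38 LD3_c30)) = (LP (LK LD1_c15 LD2_c33 LD3_c38)) :=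
  Lgr Lrot111 (Lpe (f236054 IH) (Lpr_cf (K38.f236052 IH) (Lpe (K30.f236055 IH) (Lpn (LP (LK LD1_c15 LD2_c33 LD3_c38))))))
theorem f394265 : Led Lsl_ct (LP (LK LD1_c8 LD2_c17 LD3_c34)) = (LP (LK LD1_c15 LD2_c34 LD3_c46)) :=
  Lre_c IH (LK LD1_c8 LD2_c17 LD3_c34) (LK LD1_c15 LD2_c34 LD3_c46) Lrfl Lrfl
theorem f394369 : Led Lsl_ff (LP (LK LD1_c17 LD2_c38 LD3_c30)) = (LP (LK LD1_c15 LD2_c34 LD3_c46)) :=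
  Lgr Lrot23 (Lpr_ct (f236056 IH) (Lpr_ft (K30.f394354 IH) (Lpr_ct (f394265 IH) (Lpn (LP (LK LD1_c15 LD2_c34 LD3_c46))))))
theorem f236063 : Led Lsl_at (LP (LK LD1_c17 LD2_c38 LD3_c30)) = (LP (LK LD1_c9 LD2_c34 LD3_c51)) :=
  Lre_a IH (LK LD1_c17 LD2_c38 LD3_c30) (LK LD1_c9 LD2_c34 LD3_c51) Lrfl Lrfl
theorem f236068 : Led Lsl_gt (LP (LK LD1_c17 LD2_c38 LD3_c29)) = (LP (LK LD1_c9 LD2_c34 LD3_c51)) :=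
  Lre_g IH (LK LD1_c17 LD2_c38 LD3_c29) (LK LD1_c9 LD2_c34 LD3_c51) Lrfl Lrfl
theorem f394483 : Led Lsl_gf (LP (LK LD1_c17 LD2_c38 LD3_c29)) = (LP (LK LD1_c15 LD2_c34 LD3_c46)) :=
  Lgr Lrot47 (Lpr_gt (f236068 IH) (Lpe (f236063 IH) (Lpr_ff (f394369 IH) (Lpn (LP (LK LD1_c15 LD2_c34 LD3_c46))))))
theorem f620422 : Led Lsl_df (LP (LK LD1_c25 LD2_c32 LD3_c44)) = (LP (LK LD1_c17 LD2_c38 LD3_c29)) :=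
  Lgr Lrot153 (Lpr_gt (f233347 IH) (Lpr_dt (f234689 IH) (Lpe (f167261 IH) (Lpe (f167262 IH) (Lpe (f167263 IH) (Lpr_df (f620416 IH) (Lpr_gf (f394470 IH) (Lpe (K38.f349626 IH) (Lpe (f394483 IH) (Lpn (LP (LK LD1_c17 LD2_c38 LD3_c29))))))))))))
theorem f51618 : Led Lsl_gt (LP (LK LD1_c8 LD2_c16 LD3_c32)) = (LP (LK LD1_c15 LD2_c33 LD3_c36)) :=
  Lre_g IH (LK LD1_c8 LD2_c16 LD3_c32) (LK LD1_c15 LD2_c33 LD3_c36) Lrfl Lrfl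
theorem f236085 : Led Lsl_ct (LP (LK LD1_c15 LD2_c33 LD3_c36)) = (LP (LK LD1_c25 LD2_c27 LD3_c10)) :=
  Lre_c IH (LK LD1_c15 LD2_c33 LD3_c36) (LK LD1_c25 LD2_c27 LD3_c10) Lrfl Lrfl
theorem f236086 : Led Lsl_dt (LP (LK LD1_c31 LD2_c54 LD3_c8)) = (LP (LK LD1_c25 LD2_c27 LD3_c10)) :=
  Lre_d IH (LK LD1_c31 LD2_c54 LD3_c8) (LK LD1_c25 LD2_c27 LD3_c10) Lrfl Lrfl
theorem f263827 : Led Lsl_bt (LP (LK LD1_c8 LD2_c17 LD3_c33)) = (LP (LK LD1_c15 LD2_c35 LD3_c32)) :=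
  Lre_b IH (LK LD1_c8 LD2_c17 LD3_c33) (LK LD1_c15 LD2_c35 LD3_c32) Lrfl Lrfl
theorem f250729 : Led Lsl_bf (LP (LK LD1_c15 LD2_c33 LD3_c36)) = (LP (LK LD1_c16 LD2_c19 LD3_c8)) :=
  Lgr Lrot34 (Lpe (f51618 IH) (Lpe (K38.f51617 IH) (Lpr_ct (K12.f222250 IH) (Lpr_gf (K14.f250722 IH) (Lpe (K14.f167653 IH) (Lpe (K14.f232279 IH) (Lpe (K18.f232283 IH) (Lpr_ct (K19.f232285 IH) (Lpe (K38.f232286 IH) (Lpe (K38.f232287 IH) (Lpn (LP (LK LD1_c16 LD2_c19 LD3_c8)))))))))))))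
theorem f401002 : Led Lsl_af (LP (LK LD1_c8 LD2_c17 LD3_c33)) = (LP (LK LD1_c15 LD2_c33 LD3_c36)) :=
  Lgr Lrot36 (Lpr_bt (f263827 IH) (Lpr_at (K38.f400884 IH) (Lpr_bt (K38.f400996 IH) (Lpr_at (K38.f400929 IH) (Lpe (f250729 IH) (Lpn (LP (LK LD1_c15 LD2_c33 LD3_c36))))))))
theorem f401038 : Led Lsl_ft (LP (LK LD1_c8 LD2_c17 LD3_c32)) = (LP (LK LD1_c15 LD2_c33 LD3_c36)) :=
  Lgr Lrot101 (Lpr_af (K38.f400874 IH) (Lpe (K38.f400879 IH) (Lpr_af (f401002 IH) (Lpn (LP (LK LD1_c15 LD2_c33 LD3_c36))))))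
theorem f401042 : Led Lsl_ff (LP (LK LD1_c8 LD2_c17 LD3_c32)) = (LP (LK LD1_c15 LD2_c33 LD3_c36)) :=
  Lgr Lrot3 (Lpr_ft (f401038 IH) (Lpn (LP (LK LD1_c15 LD2_c33 LD3_c36))))
theorem f220445 : Led Lsl_ct (LP (LK LD1_c8 LD2_c17 LD3_c32)) = (LP (LK LD1_c15 LD2_c35 LD3_c29)) :=
  Lre_c IH (LK LD1_c8 LD2_c17 LD3_c32) (LK LD1_c15 LD2_c35 LD3_c29) Lrfl Lrfl
theorem f236088 : Led Lsl_ct (LP (LK LD1_c25 LD2_c27 LD3_c10)) = (LP (LK LD1_c15 LD2_c33 LD3_c36)) :=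
  Lre_c IH (LK LD1_c25 LD2_c27 LD3_c10) (LK LD1_c15 LD2_c33 LD3_c36) Lrfl Lrfl
theorem f401044 : Led Lsl_ft (LP (LK LD1_c15 LD2_c35 LD3_c29)) = (LP (LK LD1_c25 LD2_c27 LD3_c10)) :=
  Lgr Lrot4 (Lpe (f220445 IH) (Lpr_ff (f401042 IH) (Lpe (f236088 IH) (Lpn (LP (LK LD1_c25 LD2_c27 LD3_c10))))))
theorem f236087 : Led Lsl_dt (LP (LK LD1_c25 LD2_c27 LD3_c10)) = (LP (LK LD1_c31 LD2_c54 LD3_c8)) :=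
  Lre_d IH (LK LD1_c25 LD2_c27 LD3_c10) (LK LD1_c31 LD2_c54 LD3_c8) Lrfl Lrfl
theorem f401058 : Led Lsl_ff (LP (LK LD1_c25 LD2_c29 LD3_c42)) = (LP (LK LD1_c31 LD2_c54 LD3_c8)) :=
  Lgr Lrot19 (Lpr_dt (K38.f263831 IH) (Lpr_ft (f401044 IH) (Lpr_dt (f236087 IH) (Lpn (LP (LK LD1_c31 LD2_c54 LD3_c8))))))
theorem f396984 : Led Lsl_cf (LP (LK LD1_c17 LD2_c39 LD3_c6)) = (LP (LK LD1_c25 LD2_c29 LD3_c42)) :=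
  Lgr Lrot11 (Lpr_ct (K38.f396965 IH) (Lpn (LP (LK LD1_c25 LD2_c29 LD3_c42))))
theorem f401062 : Led Lsl_ct (LP (LK LD1_c25 LD2_c58 LD3_c47)) = (LP (LK LD1_c31 LD2_c54 LD3_c8)) :=
  Lgr Lrot40 (Lpr_ff (K27.f372970 IH) (Lpr_cf (f396984 IH) (Lpr_ff (f401058 IH) (Lpn (LP (LK LD1_c31 LD2_c54 LD3_c8))))))
theorem f372996 : Led Lsl_gt (LP (LK LD1_c9 LD2_c35 LD3_c11)) = (LP (LK LD1_c17 LD2_c39 LD3_c8)) :=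
  Lre_g IH (LK LD1_c9 LD2_c35 LD3_c11) (LK LD1_c17 LD2_c39 LD3_c8) Lrfl Lrfl
theorem f372997 : Led Lsl_gf (LP (LK LD1_c25 LD2_c58 LD3_c47)) = (LP (LK LD1_c17 LD2_c39 LD3_c8)) :=
  Lgr Lrot76 (Lpe (K38.f170480 IH) (Lpr_ff (K38.f372988 IH) (Lpr_gt (f372996 IH) (Lpn (LP (LK LD1_c17 LD2_c39 LD3_c8))))))
theorem f620431 : Led Lsl_ct (LP (LK LD1_c15 LD2_c37 LD3_c42)) = (LP (LK LD1_c17 LD2_c39 LD3_c8)) :=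
  Lgr Lrot152 (Lpe (f233347 IH) (Lpr_df (f620422 IH) (Lpr_gt (f236068 IH) (Lpr_ct (K38.f236058 IH) (Lpr_gt (f51618 IH) (Lpr_ct (f236085 IH) (Lpe (f236086 IH) (Lpe (f401062 IH) (Lpr_gf (f372997 IH) (Lpn (LP (LK LD1_c17 LD2_c39 LD3_c8))))))))))))
theorem f620449 : Led Lsl_gt (LP (LK LD1_c16 LD2_c1 LD3_c24)) = (LP (LK LD1_c17 LD2_c37 LD3_c48)) :=
  Lgr Lrot164 (Lpr_bf (K27.f170472 IH) (Lpr_ct (K13.f233341 IH) (Lpe (K13.f238003 IH) (Lpe (K13.f237993 IH) (Lpr_gf (K13.f238008 IH) (Lpe (K30.f233340 IH) (Lpr_ct (f620431 IH) (Lpe (f372996 IH) (Lpe (K38.f171105 IH) (Lpr_bt (K38.f400840 IH) (Lpn (LP (LK LD1_c17 LD2_c37 LD3_c48)))))))))))))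
theorem f232699 : Led Lsl_dt (LP (LK LD1_c17 LD2_c42 LD3_c48)) = (LP (LK LD1_c9 LD2_c37 LD3_c14)) :=
  Lre_d IH (LK LD1_c17 LD2_c42 LD3_c48) (LK LD1_c9 LD2_c37 LD3_c14) Lrfl Lrfl
theorem f620453 : Led Lsl_gf (LP (LK LD1_c25 LD2_c29 LD3_c52)) = (LP (LK LD1_c17 LD2_c42 LD3_c48)) :=
  Lgr Lrot147 (Lpe (K27.f263838 IH) (Lpr_gt (f620449 IH) (Lpe (K38.f400791 IH) (Lpe (K38.f232616 IH) (Lpe (K30.f232604 IH) (Lpe (K30.f232620 IH) (Lpr_cf (K30.f232691 IH) (Lpe (K38.f232696 IH) (Lpe (f232699 IH) (Lpn (LP (LK LD1_c17 LD2_c42 LD3_c48))))))))))))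
theorem f233346 : Led Lsl_bt (LP (LK LD1_c8 LD2_c18 LD3_c33)) = (LP (LK LD1_c15 LD2_c37 LD3_c42)) :=
  Lre_b IH (LK LD1_c8 LD2_c18 LD3_c33) (LK LD1_c15 LD2_c37 LD3_c42) Lrfl Lrfl
theorem f620436 : Led Lsl_bf (LP (LK LD1_c25 LD2_c29 LD3_c52)) = (LP (LK LD1_c17 LD2_c39 LD3_c8)) :=
  Lgr Lrot90 (Lpe (K27.f263838 IH) (Lpr_bt (K27.f170481 IH) (Lpr_ct (K13.f233341 IH) (Lpr_bt (f233346 IH) (Lpr_ct (f620431 IH) (Lpn (LP (LK LD1_c17 LD2_c39 LD3_c8))))))))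
theorem f620438 : Led Lsl_cf (LP (LK LD1_c15 LD2_c37 LD3_c42)) = (LP (LK LD1_c17 LD2_c39 LD3_c8)) :=
  Lgr Lrot11 (Lpr_ct (f620431 IH) (Lpn (LP (LK LD1_c17 LD2_c39 LD3_c8))))
theorem f233348 : Led Lsl_gt (LP (LK LD1_c15 LD2_c37 LD3_c42)) = (LP (LK LD1_c25 LD2_c32 LD3_c43)) :=
  Lre_g IH (LK LD1_c15 LD2_c37 LD3_c42) (LK LD1_c25 LD2_c32 LD3_c43) Lrfl Lrfl
theorem f602136 : Led Lsl_bt (LP (LK LD1_c9 LD2_c37 LD3_c15)) = (LP (LK LD1_c17 LD2_c42 LD3_c48)) :=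
  Lre_b IH (LK LD1_c9 LD2_c37 LD3_c15) (LK LD1_c17 LD2_c42 LD3_c48) Lrfl Lrfl
theorem f30586 : Led Lsl_ct (LP (LK LD1_c9 LD2_c37 LD3_c15)) = (LP (LK LD1_c17 LD2_c42 LD3_c51)) :=
  Lre_c IH (LK LD1_c9 LD2_c37 LD3_c15) (LK LD1_c17 LD2_c42 LD3_c51) Lrfl Lrfl
theorem f331662 : Led Lsl_dt (LP (LK LD1_c28 LD2_c44 LD3_c0)) = (LP (LK LD1_c19 LD2_c18 LD3_c45)) :=
  Lre_d IH (LK LD1_c28 LD2_c44 LD3_c0) (LK LD1_c19 LD2_c18 LD3_c45) Lrfl Lrfl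
theorem f588367 : Led Lsl_bt (LP (LK LD1_c31 LD2_c43 LD3_c5)) = (LP (LK LD1_c28 LD2_c44 LD3_c0)) :=
  Lgr Lrot95 (Lpr_df (K45.f588363 IH) (Lpe (K45.f218652 IH) (Lpe (f331662 IH) (Lpn (LP (LK LD1_c28 LD2_c44 LD3_c0))))))
theorem f602054 : Led Lsl_bf (LP (LK LD1_c31 LD2_c43 LD3_c5)) = (LP (LK LD1_c28 LD2_c44 LD3_c0)) :=
  Lgr Lrot24 (Lpr_bt (f588367 IH) (Lpn (LP (LK LD1_c28 LD2_c44 LD3_c0))))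
theorem f338120 : Led Lsl_dt (LP (LK LD1_c28 LD2_c44 LD3_c6)) = (LP (LK LD1_c32 LD2_c28 LD3_c9)) :=
  Lgr Lrot42 (Lpr_df (K22.f338116 IH) (Lpn (LP (LK LD1_c32 LD2_c28 LD3_c9))))
theorem f338153 : Led Lsl_ff (LP (LK LD1_c28 LD2_c44 LD3_c6)) = (LP (LK LD1_c32 LD2_c35 LD3_c37)) :=
  Lgr Lrot19 (Lpr_dt (f338120 IH) (Lpe (K22.f338125 IH) (Lpr_dt (K22.f338144 IH) (Lpn (LP (LK LD1_c32 LD2_c35 LD3_c37))))))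
theorem f235193 : Led Lsl_at (LP (LK LD1_c27 LD2_c44 LD3_c28)) = (LP (LK LD1_c32 LD2_c28 LD3_c9)) :=
  Lre_a IH (LK LD1_c27 LD2_c44 LD3_c28) (LK LD1_c32 LD2_c28 LD3_c9) Lrfl Lrfl
theorem f235194 : Led Lsl_dt (LP (LK LD1_c32 LD2_c28 LD3_c10)) = (LP (LK LD1_c27 LD2_c44 LD3_c28)) :=
  Lre_d IH (LK LD1_c32 LD2_c28 LD3_c10) (LK LD1_c27 LD2_c44 LD3_c28) Lrfl Lrfl
theorem f338118 : Led Lsl_at (LP (LK LD1_c28 LD2_c44 LD3_c6)) = (LP (LK LD1_c32 LD2_c28 LD3_c10)) :=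
  Lgr Lrot51 (Lpr_df (K22.f338116 IH) (Lpe (f235193 IH) (Lpe (f235194 IH) (Lpn (LP (LK LD1_c32 LD2_c28 LD3_c10))))))
theorem f331661 : Led Lsl_dt (LP (LK LD1_c5 LD2_c24 LD3_c38)) = (LP (LK LD1_c10 LD2_c39 LD3_c55)) :=
  Lre_d IH (LK LD1_c5 LD2_c24 LD3_c38) (LK LD1_c10 LD2_c39 LD3_c55) Lrfl Lrfl
theorem f338161 : Led Lsl_dt (LP (LK LD1_c19 LD2_c18 LD3_c45)) = (LP (LK LD1_c28 LD2_c44 LD3_c0)) :=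
  Lre_d IH (LK LD1_c19 LD2_c18 LD3_c45) (LK LD1_c28 LD2_c44 LD3_c0) Lrfl Lrfl
theorem f338162 : Led Lsl_cf (LP (LK LD1_c32 LD2_c28 LD3_c10)) = (LP (LK LD1_c28 LD2_c44 LD3_c0)) :=
  Lgr Lrot102 (Lpe (f338118 IH) (Lpr_ff (f338153 IH) (Lpe (K22.f338151 IH) (Lpr_ct (K22.f338130 IH) (Lpr_dt (K41.f331656 IH) (Lpr_ct (K45.f331655 IH) (Lpr_dt (f331661 IH) (Lpr_ct (K45.f331650 IH) (Lpr_dt (f338161 IH) (Lpn (LP (LK LD1_c28 LD2_c44 LD3_c0))))))))))))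
theorem f235181 : Led Lsl_ct (LP (LK LD1_c27 LD2_c44 LD3_c28)) = (LP (LK LD1_c18 LD2_c2 LD3_c42)) :=
  Lre_c IH (LK LD1_c27 LD2_c44 LD3_c28) (LK LD1_c18 LD2_c2 LD3_c42) Lrfl Lrfl
theorem f233220 : Led Lsl_dt (LP (LK LD1_c9 LD2_c37 LD3_c19)) = (LP (LK LD1_c17 LD2_c42 LD3_c57)) :=
  Lre_d IH (LK LD1_c9 LD2_c37 LD3_c19) (LK LD1_c17 LD2_c42 LD3_c57) Lrfl Lrfl
theorem f233221 : Led Lsl_ct (LP (LK LD1_c17 LD2_c42 LD3_c57)) = (LP (LK LD1_c27 LD2_c29 LD3_c58)) :=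
  Lre_c IH (LK LD1_c17 LD2_c42 LD3_c57) (LK LD1_c27 LD2_c29 LD3_c58) Lrfl Lrfl
theorem f233225 : Led Lsl_bt (LP (LK LD1_c27 LD2_c29 LD3_c58)) = (LP (LK LD1_c32 LD2_c25 LD3_c18)) :=
  Lre_b IH (LK LD1_c27 LD2_c29 LD3_c58) (LK LD1_c32 LD2_c25 LD3_c18) Lrfl Lrfl
theorem f316712 : Led Lsl_gf (LP (LK LD1_c32 LD2_c28 LD3_c10)) = (LP (LK LD1_c32 LD2_c25 LD3_c18)) :=
  Lgr Lrot85 (Lpr_dt (f235194 IH) (Lpr_ct (f235181 IH) (Lpr_bt (K22.f279625 IH) (Lpr_gt (K20.f316704 IH) (Lpr_dt (K20.f199485 IH) (Lpr_ct (K12.f199487 IH) (Lpr_bt (K16.f199521 IH) (Lpr_gt (K15.f267283 IH) (Lpr_dt (K14.f187214 IH) (Lpr_ct (K10.f187186 IH) (Lpr_bt (K12.f187101 IH) (Lpr_gt (K10.f186920 IH) (Lpr_dt (K1.f29137 IH) (Lpr_ct (K1.f29138 IH) (Lpr_bt (K13.f186993 IH) (Lpe (K13.f233216 IH) (Lpr_dt (f233220 IH) (Lpr_ct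 (f233221 IH) (Lpr_bt (f233225 IH) (Lpn (LP (LK LD1_c32 LD2_c25 LD3_c18))))))))))))))))))))))
theorem f316721 : Led Lsl_ct (LP (LK LD1_c27 LD2_c29 LD3_c60)) = (LP (LK LD1_c32 LD2_c25 LD3_c18)) :=
  Lre_c IH (LK LD1_c27 LD2_c29 LD3_c60) (LK LD1_c32 LD2_c25 LD3_c18) Lrfl Lrfl
theorem f30578 : Led Lsl_bt (LP (LK LD1_c27 LD2_c29 LD3_c60)) = (LP (LK LD1_c17 LD2_c42 LD3_c58)) :=
  Lre_b IH (LK LD1_c27 LD2_c29 LD3_c60) (LK LD1_c17 LD2_c42 LD3_c58) Lrfl Lrfl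
theorem f30572 : Led Lsl_gt (LP (LK LD1_c27 LD2_c28 LD3_c10)) = (LP (LK LD1_c17 LD2_c42 LD3_c58)) :=
  Lre_g IH (LK LD1_c27 LD2_c28 LD3_c10) (LK LD1_c17 LD2_c42 LD3_c58) Lrfl Lrfl
theorem f602056 : Led Lsl_bt (LP (LK LD1_c26 LD2_c18 LD3_c39)) = (LP (LK LD1_c27 LD2_c28 LD3_c10)) :=
  Lgr Lrot22 (Lpe (K45.f573474 IH) (Lpe (K45.f573456 IH) (Lpe (K45.f573505 IH) (Lpr_gf (K45.f588361 IH) (Lpr_bf (f602054 IH) (Lpe (f338162 IH) (Lpr_gf (f316712 IH) (Lpe (f316721 IH) (Lpr_bt (f30578 IH) (Lpe (f30572 IH) (Lpn (LP (LK LD1_c27 LD2_c28 LD3_c10)))))))))))))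
theorem f337242 : Led Lsl_bt (LP (LK LD1_c31 LD2_c49 LD3_c61)) = (LP (LK LD1_c25 LD2_c15 LD3_c51)) :=
  Lre_b IH (LK LD1_c31 LD2_c49 LD3_c61) (LK LD1_c25 LD2_c15 LD3_c51) Lrfl Lrfl
theorem f602062 : Led Lsl_ff (LP (LK LD1_c31 LD2_c49 LD3_c61)) = (LP (LK LD1_c27 LD2_c28 LD3_c10)) :=
  Lgr Lrot25 (Lpr_bt (f337242 IH) (Lpr_ft (K43.f394675 IH) (Lpr_bt (f602056 IH) (Lpn (LP (LK LD1_c27 LD2_c28 LD3_c10))))))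
theorem f337231 : Led Lsl_cf (LP (LK LD1_c31 LD2_c49 LD3_c61)) = (LP (LK LD1_c25 LD2_c45 LD3_c20)) :=
  Lgr Lrot11 (Lpr_ct (K22.f337225 IH) (Lpn (LP (LK LD1_c25 LD2_c45 LD3_c20))))
theorem f337235 : Led Lsl_at (LP (LK LD1_c15 LD2_c48 LD3_c55)) = (LP (LK LD1_c25 LD2_c45 LD3_c20)) :=
  Lre_a IH (LK LD1_c15 LD2_c48 LD3_c55) (LK LD1_c25 LD2_c45 LD3_c20) Lrfl Lrfl
theorem f396010 : Led Lsl_at (LP (LK LD1_c31 LD2_c49 LD3_c61)) = (LP (LK LD1_c25 LD2_c45 LD3_c21)) :=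
  Lgr Lrot107 (Lpr_cf (f337231 IH) (Lpe (f337235 IH) (Lpe (K38.f178412 IH) (Lpn (LP (LK LD1_c25 LD2_c45 LD3_c21))))))
theorem f602072 : Led Lsl_gf (LP (LK LD1_c25 LD2_c45 LD3_c21)) = (LP (LK LD1_c17 LD2_c42 LD3_c58)) :=
  Lgr Lrot76 (Lpe (f396010 IH) (Lpr_ff (f602062 IH) (Lpr_gt (f30572 IH) (Lpn (LP (LK LD1_c17 LD2_c42 LD3_c58))))))
theorem f30584 : Led Lsl_ft (LP (LK LD1_c17 LD2_c42 LD3_c58)) = (LP (LK LD1_c27 LD2_c29 LD3_c52)) :=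
  Lre_f IH (LK LD1_c17 LD2_c42 LD3_c58) (LK LD1_c27 LD2_c29 LD3_c52) Lrfl Lrfl
theorem f30585 : Led Lsl_at (LP (LK LD1_c27 LD2_c29 LD3_c52)) = (LP (LK LD1_c17 LD2_c42 LD3_c51)) :=
  Lre_a IH (LK LD1_c27 LD2_c29 LD3_c52) (LK LD1_c17 LD2_c42 LD3_c51) Lrfl Lrfl
theorem f602074 : Led Lsl_gt (LP (LK LD1_c25 LD2_c45 LD3_c21)) = (LP (LK LD1_c17 LD2_c42 LD3_c51)) :=
  Lgr Lrot46 (Lpr_gf (f602072 IH) (Lpr_ft (f30584 IH) (Lpr_at (f30585 IH) (Lpn (LP (LK LD1_c17 LD2_c42 LD3_c51))))))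
theorem f178443 : Led Lsl_ct (LP (LK LD1_c15 LD2_c48 LD3_c55)) = (LP (LK LD1_c25 LD2_c45 LD3_c21)) :=
  Lre_c IH (LK LD1_c15 LD2_c48 LD3_c55) (LK LD1_c25 LD2_c45 LD3_c21) Lrfl Lrfl
theorem f338159 : Led Lsl_gf (LP (LK LD1_c32 LD2_c25 LD3_c18)) = (LP (LK LD1_c32 LD2_c35 LD3_c37)) :=
  Lgr Lrot47 (Lpe (f316712 IH) (Lpe (f338118 IH) (Lpr_ff (f338153 IH) (Lpn (LP (LK LD1_c32 LD2_c35 LD3_c37))))))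
theorem f338157 : Led Lsl_ft (LP (LK LD1_c28 LD2_c44 LD3_c6)) = (LP (LK LD1_c32 LD2_c35 LD3_c37)) :=
  Lgr Lrot48 (Lpr_ff (f338153 IH) (Lpn (LP (LK LD1_c32 LD2_c35 LD3_c37))))
theorem f218672 : Led Lsl_ct (LP (LK LD1_c19 LD2_c18 LD3_c52)) = (LP (LK LD1_c28 LD2_c44 LD3_c6)) :=
  Lre_c IH (LK LD1_c19 LD2_c18 LD3_c52) (LK LD1_c28 LD2_c44 LD3_c6) Lrfl Lrfl
theorem f338172 : Led Lsl_ff (LP (LK LD1_c19 LD2_c18 LD3_c52)) = (LP (LK LD1_c28 LD2_c30 LD3_c44)) :=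
  Lgr Lrot23 (Lpr_ct (f218672 IH) (Lpr_ft (f338157 IH) (Lpr_ct (K22.f235175 IH) (Lpn (LP (LK LD1_c28 LD2_c30 LD3_c44))))))
theorem f338177 : Led Lsl_ft (LP (LK LD1_c10 LD2_c39 LD3_c58)) = (LP (LK LD1_c19 LD2_c4 LD3_c30)) :=
  Lgr Lrot54 (Lpe (K22.f218443 IH) (Lpr_ff (f338172 IH) (Lpe (K22.f224788 IH) (Lpn (LP (LK LD1_c19 LD2_c4 LD3_c30))))))
theorem f218235 : Led Lsl_bt (LP (LK LD1_c4 LD2_c55 LD3_c35)) = (LP (LK LD1_c9 LD2_c42 LD3_c50)) :=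
  Lre_b IH (LK LD1_c4 LD2_c55 LD3_c35) (LK LD1_c9 LD2_c42 LD3_c50) Lrfl Lrfl
theorem f218616 : Led Lsl_ct (LP (LK LD1_c9 LD2_c42 LD3_c50)) = (LP (LK LD1_c17 LD2_c51 LD3_c55)) :=
  Lre_c IH (LK LD1_c9 LD2_c42 LD3_c50) (LK LD1_c17 LD2_c51 LD3_c55) Lrfl Lrfl
theorem f218618 : Led Lsl_bt (LP (LK LD1_c17 LD2_c51 LD3_c55)) = (LP (LK LD1_c10 LD2_c39 LD3_c58)) :=
  Lgr Lrot128 (Lpe (f218616 IH) (Lpe (f218235 IH) (Lpr_cf (K20.f218229 IH) (Lpe (K22.f218617 IH) (Lpe (K22.f218442 IH) (Lpn (LP (LK LD1_c10 LD2_c39 LD3_c58))))))))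
theorem f224691 : Led Lsl_bt (LP (LK LD1_c17 LD2_c48 LD3_c29)) = (LP (LK LD1_c9 LD2_c40 LD3_c52)) :=
  Lre_b IH (LK LD1_c17 LD2_c48 LD3_c29) (LK LD1_c9 LD2_c40 LD3_c52) Lrfl Lrfl
theorem f224692 : Led Lsl_ct (LP (LK LD1_c27 LD2_c35 LD3_c41)) = (LP (LK LD1_c17 LD2_c48 LD3_c29)) :=
  Lre_c IH (LK LD1_c27 LD2_c35 LD3_c41) (LK LD1_c17 LD2_c48 LD3_c29) Lrfl Lrfl
theorem f224693 : Led Lsl_bt (LP (LK LD1_c5 LD2_c20 LD3_c45)) = (LP (LK LD1_c10 LD2_c31 LD3_c34)) :=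
  Lre_b IH (LK LD1_c5 LD2_c20 LD3_c45) (LK LD1_c10 LD2_c31 LD3_c34) Lrfl Lrfl
theorem f224695 : Led Lsl_bf (LP (LK LD1_c27 LD2_c35 LD3_c41)) = (LP (LK LD1_c19 LD2_c4 LD3_c30)) :=
  Lgr Lrot90 (Lpr_ct (f224692 IH) (Lpr_bt (f224691 IH) (Lpr_ct (K12.f224676 IH) (Lpr_bt (f224693 IH) (Lpr_ct (K22.f224694 IH) (Lpn (LP (LK LD1_c19 LD2_c4 LD3_c30))))))))
theorem f338181 : Led Lsl_ff (LP (LK LD1_c17 LD2_c51 LD3_c55)) = (LP (LK LD1_c27 LD2_c35 LD3_c41)) :=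
  Lgr Lrot25 (Lpr_bt (f218618 IH) (Lpr_ft (f338177 IH) (Lpe (f224695 IH) (Lpn (LP (LK LD1_c27 LD2_c35 LD3_c41))))))
theorem f218674 : Led Lsl_dt (LP (LK LD1_c17 LD2_c51 LD3_c55)) = (LP (LK LD1_c27 LD2_c38 LD3_c33)) :=
  Lre_d IH (LK LD1_c17 LD2_c51 LD3_c55) (LK LD1_c27 LD2_c38 LD3_c33) Lrfl Lrfl
theorem f2575 : Led Lsl_bt (LP (LK LD1_c1 LD2_c8 LD3_c57)) = (LP (LK LD1_c2 LD2_c23 LD3_c45)) :=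
  Lre_b IH (LK LD1_c1 LD2_c8 LD3_c57) (LK LD1_c2 LD2_c23 LD3_c45) Lrfl Lrfl
theorem f2770 : Led Lsl_gt (LP (LK LD1_c2 LD2_c23 LD3_c45)) = (LP (LK LD1_c4 LD2_c51 LD3_c55)) :=
  Lre_g IH (LK LD1_c2 LD2_c23 LD3_c45) (LK LD1_c4 LD2_c51 LD3_c55) Lrfl Lrfl
theorem f2771 : Led Lsl_dt (LP (LK LD1_c4 LD2_c51 LD3_c55)) = (LP (LK LD1_c9 LD2_c36 LD3_c3)) :=
  Lre_d IH (LK LD1_c4 LD2_c51 LD3_c55) (LK LD1_c9 LD2_c36 LD3_c3) Lrfl Lrfl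
theorem f260903 : Led Lsl_ct (LP (LK LD1_c9 LD2_c36 LD3_c3)) = (LP (LK LD1_c17 LD2_c40 LD3_c40)) :=
  Lre_c IH (LK LD1_c9 LD2_c36 LD3_c3) (LK LD1_c17 LD2_c40 LD3_c40) Lrfl Lrfl
theorem f260904 : Led Lsl_bt (LP (LK LD1_c17 LD2_c40 LD3_c40)) = (LP (LK LD1_c27 LD2_c28 LD3_c14)) :=
  Lre_b IH (LK LD1_c17 LD2_c40 LD3_c40) (LK LD1_c27 LD2_c28 LD3_c14) Lrfl Lrfl
theorem f260905 : Led Lsl_gt (LP (LK LD1_c27 LD2_c28 LD3_c14)) = (LP (LK LD1_c32 LD2_c25 LD3_c10)) :=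
  Lre_g IH (LK LD1_c27 LD2_c28 LD3_c14) (LK LD1_c32 LD2_c25 LD3_c10) Lrfl Lrfl
theorem f261275 : Led Lsl_dt (LP (LK LD1_c32 LD2_c25 LD3_c10)) = (LP (LK LD1_c27 LD2_c35 LD3_c41)) :=
  Lgr Lrot182 (Lpe (f260905 IH) (Lpe (f260904 IH) (Lpe (f260903 IH) (Lpe (f2771 IH) (Lpe (f2770 IH) (Lpe (f2575 IH) (Lpe (K12.f1921 IH) (Lpe (K1.f1920 IH) (Lpe (K9.f2106 IH) (Lpe (K12.f2115 IH) (Lpe (K15.f260889 IH) (Lpe (K16.f42734 IH) (Lpr_gf (K15.f261265 IH) (Lpr_bf (K15.f221678 IH) (Lpe (K14.f218559 IH) (Lpe (K22.f218554 IH) (Lpr_gf (K22.f252099 IH) (Lpe (f224691 IH) (Lpe (f224692 IH) (Lpn (LP (LK LD1_c27 LD2_c35 LD3_c41))))))))))))))))))))))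
theorem f338193 : Led Lsl_ft (LP (LK LD1_c27 LD2_c38 LD3_c33)) = (LP (LK LD1_c32 LD2_c25 LD3_c10)) :=
  Lgr Lrot54 (Lpe (f218674 IH) (Lpr_ff (f338181 IH) (Lpe (f261275 IH) (Lpn (LP (LK LD1_c32 LD2_c25 LD3_c10))))))
theorem f338197 : Led Lsl_ff (LP (LK LD1_c27 LD2_c38 LD3_c33)) = (LP (LK LD1_c32 LD2_c25 LD3_c10)) :=
  Lgr Lrot3 (Lpr_ft (f338193 IH) (Lpn (LP (LK LD1_c32 LD2_c25 LD3_c10))))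
theorem f218655 : Led Lsl_dt (LP (LK LD1_c27 LD2_c38 LD3_c33)) = (LP (LK LD1_c17 LD2_c51 LD3_c55)) :=
  Lre_d IH (LK LD1_c27 LD2_c38 LD3_c33) (LK LD1_c17 LD2_c51 LD3_c55) Lrfl Lrfl
theorem f218656 : Led Lsl_dt (LP (LK LD1_c10 LD2_c39 LD3_c58)) = (LP (LK LD1_c19 LD2_c18 LD3_c52)) :=
  Lre_d IH (LK LD1_c10 LD2_c39 LD3_c58) (LK LD1_c19 LD2_c18 LD3_c52) Lrfl Lrfl
theorem f218657 : Led Lsl_bf (LP (LK LD1_c27 LD2_c38 LD3_c33)) = (LP (LK LD1_c19 LD2_c18 LD3_c52)) :=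
  Lgr Lrot93 (Lpr_dt (f218655 IH) (Lpr_bt (f218618 IH) (Lpr_dt (f218656 IH) (Lpn (LP (LK LD1_c19 LD2_c18 LD3_c52))))))
theorem f218669 : Led Lsl_bt (LP (LK LD1_c27 LD2_c38 LD3_c33)) = (LP (LK LD1_c19 LD2_c18 LD3_c52)) :=
  Lgr Lrot127 (Lpr_bf (f218657 IH) (Lpn (LP (LK LD1_c19 LD2_c18 LD3_c52))))
theorem f338155 : Led Lsl_ft (LP (LK LD1_c19 LD2_c18 LD3_c52)) = (LP (LK LD1_c28 LD2_c30 LD3_c44)) :=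
  Lgr Lrot4 (Lpe (K22.f218671 IH) (Lpr_ff (f338153 IH) (Lpe (K22.f235195 IH) (Lpn (LP (LK LD1_c28 LD2_c30 LD3_c44))))))
theorem f338200 : Led Lsl_bt (LP (LK LD1_c28 LD2_c30 LD3_c44)) = (LP (LK LD1_c32 LD2_c25 LD3_c10)) :=
  Lgr Lrot35 (Lpe (f338155 IH) (Lpe (f218669 IH) (Lpr_ff (f338197 IH) (Lpn (LP (LK LD1_c32 LD2_c25 LD3_c10))))))
theorem f338204 : Led Lsl_ct (LP (LK LD1_c17 LD2_c40 LD3_c40)) = (LP (LK LD1_c9 LD2_c36 LD3_c3)) :=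
  Lre_c IH (LK LD1_c17 LD2_c40 LD3_c40) (LK LD1_c9 LD2_c36 LD3_c3) Lrfl Lrfl
theorem f602076 : Led Lsl_gt (LP (LK LD1_c15 LD2_c48 LD3_c55)) = (LP (LK LD1_c9 LD2_c36 LD3_c3)) :=
  Lgr Lrot149 (Lpe (K38.f178412 IH) (Lpr_gf (f602072 IH) (Lpe (f30578 IH) (Lpr_ct (f316721 IH) (Lpr_gf (f338159 IH) (Lpe (K22.f235195 IH) (Lpr_bt (f338200 IH) (Lpe (f260905 IH) (Lpe (f260904 IH) (Lpr_ct (f338204 IH) (Lpn (LP (LK LD1_c9 LD2_c36 LD3_c3)))))))))))))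
theorem f178442 : Led Lsl_dt (LP (LK LD1_c8 LD2_c24 LD3_c46)) = (LP (LK LD1_c15 LD2_c48 LD3_c55)) :=
  Lre_d IH (LK LD1_c8 LD2_c24 LD3_c46) (LK LD1_c15 LD2_c48 LD3_c55) Lrfl Lrfl
theorem f357118 : Led Lsl_ft (LP (LK LD1_c15 LD2_c48 LD3_c55)) = (LP (LK LD1_c15 LD2_c43 LD3_c10)) :=
  Lgr Lrot54 (Lpe (f178442 IH) (Lpr_ff (K38.f357113 IH) (Lpe (K38.f170983 IH) (Lpn (LP (LK LD1_c15 LD2_c43 LD3_c10))))))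
theorem f2772 : Led Lsl_gt (LP (LK LD1_c9 LD2_c36 LD3_c3)) = (LP (LK LD1_c17 LD2_c40 LD3_c39)) :=
  Lre_g IH (LK LD1_c9 LD2_c36 LD3_c3) (LK LD1_c17 LD2_c40 LD3_c39) Lrfl Lrfl
theorem f602089 : Led Lsl_at (LP (LK LD1_c15 LD2_c43 LD3_c10)) = (LP (LK LD1_c17 LD2_c40 LD3_c39)) :=
  Lgr Lrot26 (Lpe (f357118 IH) (Lpr_gt (f602076 IH) (Lpr_gt (f2772 IH) (Lpn (LP (LK LD1_c17 LD2_c40 LD3_c39))))))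
theorem f337227 : Led Lsl_at (LP (LK LD1_c25 LD2_c45 LD3_c20)) = (LP (LK LD1_c15 LD2_c48 LD3_c55)) :=
  Lre_a IH (LK LD1_c25 LD2_c45 LD3_c20) (LK LD1_c15 LD2_c48 LD3_c55) Lrfl Lrfl
theorem f602122 : Led Lsl_ff (LP (LK LD1_c25 LD2_c45 LD3_c20)) = (LP (LK LD1_c17 LD2_c40 LD3_c39)) :=
  Lgr Lrot30 (Lpr_at (f337227 IH) (Lpr_ft (f357118 IH) (Lpr_at (f602089 IH) (Lpn (LP (LK LD1_c17 LD2_c40 LD3_c39))))))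
theorem f30570 : Led Lsl_gt (LP (LK LD1_c17 LD2_c40 LD3_c39)) = (LP (LK LD1_c9 LD2_c36 LD3_c7)) :=
  Lre_g IH (LK LD1_c17 LD2_c40 LD3_c39) (LK LD1_c9 LD2_c36 LD3_c7) Lrfl Lrfl
theorem f602127 : Led Lsl_gf (LP (LK LD1_c15 LD2_c48 LD3_c55)) = (LP (LK LD1_c9 LD2_c36 LD3_c7)) :=
  Lgr Lrot76 (Lpe (f337227 IH) (Lpr_ff (f602122 IH) (Lpr_gt (f30570 IH) (Lpn (LP (LK LD1_c9 LD2_c36 LD3_c7))))))
theorem f602135 : Led Lsl_bt (LP (LK LD1_c17 LD2_c40 LD3_c44)) = (LP (LK LD1_c9 LD2_c36 LD3_c7)) :=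
  Lre_b IH (LK LD1_c17 LD2_c40 LD3_c44) (LK LD1_c9 LD2_c36 LD3_c7) Lrfl Lrfl
theorem f620463 : Led Lsl_cf (LP (LK LD1_c25 LD2_c32 LD3_c43)) = (LP (LK LD1_c17 LD2_c40 LD3_c44)) :=
  Lgr Lrot58 (Lpe (f233348 IH) (Lpr_cf (f620438 IH) (Lpe (f620436 IH) (Lpr_gf (f620453 IH) (Lpe (f602136 IH) (Lpr_ct (f30586 IH) (Lpe (f602074 IH) (Lpe (f178443 IH) (Lpr_gf (f602127 IH) (Lpe (f602135 IH) (Lpn (LP (LK LD1_c17 LD2_c40 LD3_c44)))))))))))))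
theorem f620467 : Led Lsl_ct (LP (LK LD1_c25 LD2_c32 LD3_c43)) = (LP (LK LD1_c17 LD2_c40 LD3_c44)) :=
  Lgr Lrot59 (Lpr_cf (f620463 IH) (Lpn (LP (LK LD1_c17 LD2_c40 LD3_c44))))
theorem f238044 : Led Lsl_bt (LP (LK LD1_c9 LD2_c35 LD3_c14)) = (LP (LK LD1_c17 LD2_c39 LD3_c17)) :=
  Lre_b IH (LK LD1_c9 LD2_c35 LD3_c14) (LK LD1_c17 LD2_c39 LD3_c17) Lrfl Lrfl
theorem f588335 : Led Lsl_gt (LP (LK LD1_c8 LD2_c1 LD3_c45)) = (LP (LK LD1_c4 LD2_c0 LD3_c29)) :=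
  Lgr Lrot46 (Lpr_gf (K45.f588332 IH) (Lpr_ft (K7.f29372 IH) (Lpr_at (K7.f29356 IH) (Lpn (LP (LK LD1_c4 LD2_c0 LD3_c29))))))
theorem f575082 : Led Lsl_dt (LP (LK LD1_c16 LD2_c21 LD3_c39)) = (LP (LK LD1_c26 LD2_c19 LD3_c42)) :=
  Lre_d IH (LK LD1_c16 LD2_c21 LD3_c39) (LK LD1_c26 LD2_c19 LD3_c42) Lrfl Lrfl
theorem f602158 : Led Lsl_gf (LP (LK LD1_c24 LD2_c56 LD3_c10)) = (LP (LK LD1_c26 LD2_c19 LD3_c42)) :=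
  Lgr Lrot143 (Lpr_dt (K7.f29362 IH) (Lpe (K7.f29364 IH) (Lpe (K7.f29363 IH) (Lpe (f588335 IH) (Lpe (K45.f587273 IH) (Lpr_gf (K45.f588349 IH) (Lpe (K45.f69785 IH) (Lpe (K45.f588040 IH) (Lpr_dt (f575082 IH) (Lpn (LP (LK LD1_c26 LD2_c19 LD3_c42))))))))))))
theorem f29389 : Led Lsl_at (LP (LK LD1_c24 LD2_c55 LD3_c40)) = (LP (LK LD1_c15 LD2_c7 LD3_c26)) :=
  Lre_a IH (LK LD1_c24 LD2_c55 LD3_c40) (LK LD1_c15 LD2_c7 LD3_c26) Lrfl Lrfl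
theorem f29390 : Led Lsl_ct (LP (LK LD1_c15 LD2_c7 LD3_c26)) = (LP (LK LD1_c24 LD2_c56 LD3_c8)) :=
  Lre_c IH (LK LD1_c15 LD2_c7 LD3_c26) (LK LD1_c24 LD2_c56 LD3_c8) Lrfl Lrfl
theorem f29391 : Led Lsl_at (LP (LK LD1_c24 LD2_c56 LD3_c8)) = (LP (LK LD1_c24 LD2_c56 LD3_c10)) :=
  Lgr Lrot107 (Lpe (f29390 IH) (Lpe (f29389 IH) (Lpr_cf (K7.f29382 IH) (Lpn (LP (LK LD1_c24 LD2_c56 LD3_c10))))))
theorem f602160 : Led Lsl_gt (LP (LK LD1_c24 LD2_c55 LD3_c40)) = (LP (LK LD1_c26 LD2_c19 LD3_c42)) :=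
  Lgr Lrot5 (Lpr_ft (K45.f29399 IH) (Lpr_at (f29391 IH) (Lpr_gf (f602158 IH) (Lpn (LP (LK LD1_c26 LD2_c19 LD3_c42))))))
theorem f30306 : Led Lsl_bt (LP (LK LD1_c27 LD2_c25 LD3_c16)) = (LP (LK LD1_c24 LD2_c55 LD3_c40)) :=
  Lgr Lrot127 (Lpr_bf (K35.f30297 IH) (Lpn (LP (LK LD1_c24 LD2_c55 LD3_c40))))
theorem f170947 : Led Lsl_bt (LP (LK LD1_c2 LD2_c2 LD3_c60)) = (LP (LK LD1_c0 LD2_c58 LD3_c23)) :=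
  Lre_b IH (LK LD1_c2 LD2_c2 LD3_c60) (LK LD1_c0 LD2_c58 LD3_c23) Lrfl Lrfl
theorem f170948 : Led Lsl_ct (LP (LK LD1_c2 LD2_c2 LD3_c60)) = (LP (LK LD1_c4 LD2_c11 LD3_c28)) :=
  Lre_c IH (LK LD1_c2 LD2_c2 LD3_c60) (LK LD1_c4 LD2_c11 LD3_c28) Lrfl Lrfl
theorem f179023 : Led Lsl_bt (LP (LK LD1_c1 LD2_c0 LD3_c12)) = (LP (LK LD1_c2 LD2_c6 LD3_c26)) :=
  Lre_b IH (LK LD1_c1 LD2_c0 LD3_c12) (LK LD1_c2 LD2_c6 LD3_c26) Lrfl Lrfl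
theorem f179024 : Led Lsl_gt (LP (LK LD1_c2 LD2_c6 LD3_c26)) = (LP (LK LD1_c4 LD2_c18 LD3_c15)) :=
  Lre_g IH (LK LD1_c2 LD2_c6 LD3_c26) (LK LD1_c4 LD2_c18 LD3_c15) Lrfl Lrfl
theorem f421779 : Led Lsl_bt (LP (LK LD1_c8 LD2_c35 LD3_c17)) = (LP (LK LD1_c4 LD2_c18 LD3_c15)) :=
  Lre_b IH (LK LD1_c8 LD2_c35 LD3_c17) (LK LD1_c4 LD2_c18 LD3_c15) Lrfl Lrfl
theorem f421780 : Led Lsl_cf (LP (LK LD1_c8 LD2_c22 LD3_c40)) = (LP (LK LD1_c8 LD2_c35 LD3_c17)) :=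
  Lgr Lrot160 (Lpr_gt (K20.f171008 IH) (Lpe (f170948 IH) (Lpr_bt (f170947 IH) (Lpr_gt (K9.f170939 IH) (Lpr_ct (K9.f251 IH) (Lpr_gt (K9.f2798 IH) (Lpr_cf (K19.f179556 IH) (Lpr_bt (f179023 IH) (Lpr_gt (f179024 IH) (Lpe (f421779 IH) (Lpn (LP (LK LD1_c8 LD2_c35 LD3_c17)))))))))))))
theorem f421787 : Led Lsl_ct (LP (LK LD1_c8 LD2_c22 LD3_c40)) = (LP (LK LD1_c8 LD2_c35 LD3_c17)) :=
  Lgr Lrot59 (Lpr_cf (f421780 IH) (Lpn (LP (LK LD1_c8 LD2_c35 LD3_c17))))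
theorem f421782 : Led Lsl_ct (LP (LK LD1_c4 LD2_c18 LD3_c15)) = (LP (LK LD1_c8 LD2_c35 LD3_c18)) :=
  Lre_c IH (LK LD1_c4 LD2_c18 LD3_c15) (LK LD1_c8 LD2_c35 LD3_c18) Lrfl Lrfl
theorem f421799 : Led Lsl_bf (LP (LK LD1_c11 LD2_c18 LD3_c12)) = (LP (LK LD1_c8 LD2_c35 LD3_c18)) :=
  Lgr Lrot90 (Lpe (K44.f270622 IH) (Lpr_bt (K20.f200134 IH) (Lpr_ct (f421787 IH) (Lpr_bt (f421779 IH) (Lpr_ct (f421782 IH) (Lpn (LP (LK LD1_c8 LD2_c35 LD3_c18))))))))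
theorem f421784 : Led Lsl_ct (LP (LK LD1_c8 LD2_c35 LD3_c18)) = (LP (LK LD1_c4 LD2_c18 LD3_c15)) :=
  Lre_c IH (LK LD1_c8 LD2_c35 LD3_c18) (LK LD1_c4 LD2_c18 LD3_c15) Lrfl Lrfl
theorem f52228 : Led Lsl_ct (LP (LK LD1_c4 LD2_c18 LD3_c18)) = (LP (LK LD1_c2 LD2_c6 LD3_c26)) :=
  Lre_c IH (LK LD1_c4 LD2_c18 LD3_c18) (LK LD1_c2 LD2_c6 LD3_c26) Lrfl Lrfl
theorem f421815 : Led Lsl_bf (LP (LK LD1_c2 LD2_c23 LD3_c50)) = (LP (LK LD1_c4 LD2_c18 LD3_c18)) :=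
  Lgr Lrot34 (Lpe (K14.f2878 IH) (Lpe (K20.f270578 IH) (Lpe (K20.f270603 IH) (Lpr_gf (K20.f270608 IH) (Lpe (K20.f270607 IH) (Lpe (K39.f173387 IH) (Lpr_bf (f421799 IH) (Lpr_ct (f421784 IH) (Lpe (f179024 IH) (Lpe (f52228 IH) (Lpn (LP (LK LD1_c4 LD2_c18 LD3_c18)))))))))))))
theorem f421774 : Led Lsl_gt (LP (LK LD1_c4 LD2_c18 LD3_c16)) = (LP (LK LD1_c2 LD2_c6 LD3_c26)) :=
  Lre_g IH (LK LD1_c4 LD2_c18 LD3_c16) (LK LD1_c2 LD2_c6 LD3_c26) Lrfl Lrfl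
theorem f421819 : Led Lsl_ct (LP (LK LD1_c8 LD2_c35 LD3_c21)) = (LP (LK LD1_c4 LD2_c18 LD3_c16)) :=
  Lre_c IH (LK LD1_c8 LD2_c35 LD3_c21) (LK LD1_c4 LD2_c18 LD3_c16) Lrfl Lrfl
theorem f421820 : Led Lsl_bt (LP (LK LD1_c8 LD2_c35 LD3_c21)) = (LP (LK LD1_c16 LD2_c6 LD3_c47)) :=
  Lre_b IH (LK LD1_c8 LD2_c35 LD3_c21) (LK LD1_c16 LD2_c6 LD3_c47) Lrfl Lrfl
theorem f421821 : Led Lsl_gt (LP (LK LD1_c8 LD2_c41 LD3_c26)) = (LP (LK LD1_c16 LD2_c6 LD3_c47)) :=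
  Lgr Lrot164 (Lpe (K30.f216732 IH) (Lpr_ct (K17.f216730 IH) (Lpe (K13.f232257 IH) (Lpe (K16.f232212 IH) (Lpe (K16.f222092 IH) (Lpr_bf (f421815 IH) (Lpr_ct (f52228 IH) (Lpe (f421774 IH) (Lpe (f421819 IH) (Lpr_bt (f421820 IH) (Lpn (LP (LK LD1_c16 LD2_c6 LD3_c47)))))))))))))
theorem f326137 : Led Lsl_at (LP (LK LD1_c9 LD2_c38 LD3_c2)) = (LP (LK LD1_c17 LD2_c43 LD3_c44)) :=
  Lre_a IH (LK LD1_c9 LD2_c38 LD3_c2) (LK LD1_c17 LD2_c43 LD3_c44) Lrfl Lrfl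
theorem f421823 : Led Lsl_gf (LP (LK LD1_c17 LD2_c43 LD3_c44)) = (LP (LK LD1_c16 LD2_c6 LD3_c47)) :=
  Lgr Lrot76 (Lpe (f326137 IH) (Lpe (K30.f326135 IH) (Lpr_gt (f421821 IH) (Lpn (LP (LK LD1_c16 LD2_c6 LD3_c47))))))
theorem f326221 : Led Lsl_bf (LP (LK LD1_c8 LD2_c41 LD3_c10)) = (LP (LK LD1_c9 LD2_c38 LD3_c1)) :=
  Lgr Lrot24 (Lpr_bt (K30.f326219 IH) (Lpn (LP (LK LD1_c9 LD2_c38 LD3_c1))))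
theorem f39656 : Led Lsl_ct (LP (LK LD1_c7 LD2_c55 LD3_c57)) = (LP (LK LD1_c14 LD2_c57 LD3_c55)) :=
  Lre_c IH (LK LD1_c7 LD2_c55 LD3_c57) (LK LD1_c14 LD2_c57 LD3_c55) Lrfl Lrfl
theorem f229449 : Led Lsl_bt (LP (LK LD1_c7 LD2_c55 LD3_c57)) = (LP (LK LD1_c14 LD2_c57 LD3_c54)) :=
  Lre_b IH (LK LD1_c7 LD2_c55 LD3_c57) (LK LD1_c14 LD2_c57 LD3_c54) Lrfl Lrfl
theorem f229450 : Led Lsl_gt (LP (LK LD1_c14 LD2_c57 LD3_c54)) = (LP (LK LD1_c24 LD2_c45 LD3_c27)) :=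
  Lre_g IH (LK LD1_c14 LD2_c57 LD3_c54) (LK LD1_c24 LD2_c45 LD3_c27) Lrfl Lrfl
theorem f421826 : Led Lsl_ct (LP (LK LD1_c24 LD2_c45 LD3_c27)) = (LP (LK LD1_c16 LD2_c6 LD3_c47)) :=
  Lgr Lrot91 (Lpe (f229450 IH) (Lpe (f229449 IH) (Lpr_ct (f39656 IH) (Lpe (K20.f43198 IH) (Lpr_cf (K20.f229441 IH) (Lpr_bt (K20.f229440 IH) (Lpr_gf (K30.f397450 IH) (Lpr_bf (f326221 IH) (Lpr_ct (K30.f326142 IH) (Lpr_gf (f421823 IH) (Lpn (LP (LK LD1_c16 LD2_c6 LD3_c47)))))))))))))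
theorem f421832 : Led Lsl_cf (LP (LK LD1_c24 LD2_c45 LD3_c27)) = (LP (LK LD1_c16 LD2_c6 LD3_c47)) :=
  Lgr Lrot11 (Lpr_ct (f421826 IH) (Lpn (LP (LK LD1_c16 LD2_c6 LD3_c47))))
theorem f232224 : Led Lsl_gt (LP (LK LD1_c17 LD2_c41 LD3_c55)) = (LP (LK LD1_c9 LD2_c36 LD3_c39)) :=
  Lre_g IH (LK LD1_c17 LD2_c41 LD3_c55) (LK LD1_c9 LD2_c36 LD3_c39) Lrfl Lrfl
theorem f232225 : Led Lsl_bt (LP (LK LD1_c27 LD2_c29 LD3_c17)) = (LP (LK LD1_c17 LD2_c41 LD3_c55)) :=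
  Lre_b IH (LK LD1_c27 LD2_c29 LD3_c17) (LK LD1_c17 LD2_c41 LD3_c55) Lrfl Lrfl
theorem f232406 : Led Lsl_cf (LP (LK LD1_c9 LD2_c36 LD3_c39)) = (LP (LK LD1_c8 LD2_c40 LD3_c29)) :=
  Lgr Lrot97 (Lpr_bt (K40.f232215 IH) (Lpr_ct (K16.f232212 IH) (Lpr_bt (K16.f232398 IH) (Lpr_ct (K1.f29138 IH) (Lpr_bt (K13.f186993 IH) (Lpn (LP (LK LD1_c8 LD2_c40 LD3_c29))))))))
theorem f39061 : Led Lsl_bt (LP (LK LD1_c8 LD2_c40 LD3_c29)) = (LP (LK LD1_c4 LD2_c21 LD3_c27)) :=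
  Lre_b IH (LK LD1_c8 LD2_c40 LD3_c29) (LK LD1_c4 LD2_c21 LD3_c27) Lrfl Lrfl
theorem f29772 : Led Lsl_bt (LP (LK LD1_c2 LD2_c23 LD3_c18)) = (LP (LK LD1_c4 LD2_c50 LD3_c58)) :=
  Lre_b IH (LK LD1_c2 LD2_c23 LD3_c18) (LK LD1_c4 LD2_c50 LD3_c58) Lrfl Lrfl
theorem f29827 : Led Lsl_gt (LP (LK LD1_c4 LD2_c50 LD3_c58)) = (LP (LK LD1_c9 LD2_c33 LD3_c60)) :=
  Lre_g IH (LK LD1_c4 LD2_c50 LD3_c58) (LK LD1_c9 LD2_c33 LD3_c60) Lrfl Lrfl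
theorem f2013 : Led Lsl_bt (LP (LK LD1_c17 LD2_c36 LD3_c55)) = (LP (LK LD1_c9 LD2_c33 LD3_c60)) :=
  Lre_b IH (LK LD1_c17 LD2_c36 LD3_c55) (LK LD1_c9 LD2_c33 LD3_c60) Lrfl Lrfl
theorem f232489 : Led Lsl_cf (LP (LK LD1_c17 LD2_c41 LD3_c55)) = (LP (LK LD1_c17 LD2_c36 LD3_c55)) :=
  Lgr Lrot160 (Lpr_gt (f232224 IH) (Lpr_cf (f232406 IH) (Lpr_bt (f39061 IH) (Lpe (K13.f184374 IH) (Lpr_ct (K13.f1761 IH) (Lpr_gt (K9.f1612 IH) (Lpe (K0.f1730 IH) (Lpr_bt (f29772 IH) (Lpr_gt (f29827 IH) (Lpe (f2013 IH) (Lpn (LP (LK LD1_c17 LD2_c36 LD3_c55)))))))))))))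
theorem f232491 : Led Lsl_bt (LP (LK LD1_c17 LD2_c41 LD3_c55)) = (LP (LK LD1_c27 LD2_c29 LD3_c17)) :=
  Lre_b IH (LK LD1_c17 LD2_c41 LD3_c55) (LK LD1_c27 LD2_c29 LD3_c17) Lrfl Lrfl
theorem f232492 : Led Lsl_bt (LP (LK LD1_c9 LD2_c33 LD3_c60)) = (LP (LK LD1_c17 LD2_c36 LD3_c55)) :=
  Lre_b IH (LK LD1_c9 LD2_c33 LD3_c60) (LK LD1_c17 LD2_c36 LD3_c55) Lrfl Lrfl
theorem f1999 : Led Lsl_ct (LP (LK LD1_c17 LD2_c36 LD3_c56)) = (LP (LK LD1_c9 LD2_c33 LD3_c60)) :=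
  Lre_c IH (LK LD1_c17 LD2_c36 LD3_c56) (LK LD1_c9 LD2_c33 LD3_c60) Lrfl Lrfl
theorem f232493 : Led Lsl_bt (LP (LK LD1_c27 LD2_c25 LD3_c6)) = (LP (LK LD1_c17 LD2_c36 LD3_c56)) :=
  Lre_b IH (LK LD1_c27 LD2_c25 LD3_c6) (LK LD1_c17 LD2_c36 LD3_c56) Lrfl Lrfl
theorem f232494 : Led Lsl_ct (LP (LK LD1_c27 LD2_c29 LD3_c17)) = (LP (LK LD1_c27 LD2_c25 LD3_c6)) :=
  Lgr Lrot83 (Lpe (f232491 IH) (Lpr_cf (f232489 IH) (Lpe (f232492 IH) (Lpe (f1999 IH) (Lpe (f232493 IH) (Lpn (LP (LK LD1_c27 LD2_c25 LD3_c6))))))))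
theorem f421839 : Led Lsl_gt (LP (LK LD1_c24 LD2_c45 LD3_c27)) = (LP (LK LD1_c27 LD2_c25 LD3_c6)) :=
  Lgr Lrot149 (Lpr_cf (f421832 IH) (Lpe (f421821 IH) (Lpe (K30.f216732 IH) (Lpr_ct (K17.f216730 IH) (Lpe (K13.f232257 IH) (Lpe (K16.f232212 IH) (Lpr_bt (K40.f232223 IH) (Lpe (f232224 IH) (Lpe (f232225 IH) (Lpr_ct (f232494 IH) (Lpn (LP (LK LD1_c27 LD2_c25 LD3_c6)))))))))))))
theorem f421841 : Led Lsl_ft (LP (LK LD1_c14 LD2_c57 LD3_c54)) = (LP (LK LD1_c24 LD2_c45 LD3_c13)) :=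
  Lre_f IH (LK LD1_c14 LD2_c57 LD3_c54) (LK LD1_c24 LD2_c45 LD3_c13) Lrfl Lrfl
theorem f421842 : Led Lsl_at (LP (LK LD1_c24 LD2_c45 LD3_c13)) = (LP (LK LD1_c27 LD2_c25 LD3_c6)) :=
  Lgr Lrot26 (Lpe (f421841 IH) (Lpr_gt (f229450 IH) (Lpr_gt (f421839 IH) (Lpn (LP (LK LD1_c27 LD2_c25 LD3_c6))))))
theorem f421846 : Led Lsl_bt (LP (LK LD1_c14 LD2_c57 LD3_c49)) = (LP (LK LD1_c24 LD2_c45 LD3_c13)) :=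
  Lre_b IH (LK LD1_c14 LD2_c57 LD3_c49) (LK LD1_c24 LD2_c45 LD3_c13) Lrfl Lrfl
theorem f421847 : Led Lsl_at (LP (LK LD1_c7 LD2_c55 LD3_c56)) = (LP (LK LD1_c14 LD2_c57 LD3_c49)) :=
  Lre_a IH (LK LD1_c7 LD2_c55 LD3_c56) (LK LD1_c14 LD2_c57 LD3_c49) Lrfl Lrfl
theorem f39658 : Led Lsl_bt (LP (LK LD1_c14 LD2_c57 LD3_c50)) = (LP (LK LD1_c7 LD2_c55 LD3_c56)) :=
  Lre_b IH (LK LD1_c14 LD2_c57 LD3_c50) (LK LD1_c7 LD2_c55 LD3_c56) Lrfl Lrfl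
theorem f421848 : Led Lsl_af (LP (LK LD1_c14 LD2_c57 LD3_c50)) = (LP (LK LD1_c17 LD2_c36 LD3_c56)) :=
  Lgr Lrot36 (Lpr_bt (f39658 IH) (Lpr_at (f421847 IH) (Lpr_bt (f421846 IH) (Lpr_at (f421842 IH) (Lpr_bt (f232493 IH) (Lpn (LP (LK LD1_c17 LD2_c36 LD3_c56))))))))
theorem f421859 : Led Lsl_ft (LP (LK LD1_c27 LD2_c25 LD3_c9)) = (LP (LK LD1_c17 LD2_c36 LD3_c56)) :=
  Lre_f IH (LK LD1_c27 LD2_c25 LD3_c9) (LK LD1_c17 LD2_c36 LD3_c56) Lrfl Lrfl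
theorem f421863 : Led Lsl_gf (LP (LK LD1_c24 LD2_c45 LD3_c16)) = (LP (LK LD1_c27 LD2_c25 LD3_c9)) :=
  Lgr Lrot47 (Lpr_gt (K30.f229452 IH) (Lpr_af (f421848 IH) (Lpe (f421859 IH) (Lpn (LP (LK LD1_c27 LD2_c25 LD3_c9))))))
theorem f398362 : Led Lsl_cf (LP (LK LD1_c24 LD2_c45 LD3_c16)) = (LP (LK LD1_c17 LD2_c39 LD3_c4)) :=
  Lgr Lrot11 (Lpr_ct (K38.f397570 IH) (Lpn (LP (LK LD1_c17 LD2_c39 LD3_c4))))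
theorem f421865 : Led Lsl_ct (LP (LK LD1_c17 LD2_c36 LD3_c59)) = (LP (LK LD1_c27 LD2_c25 LD3_c9)) :=
  Lre_c IH (LK LD1_c17 LD2_c36 LD3_c59) (LK LD1_c27 LD2_c25 LD3_c9) Lrfl Lrfl
theorem f421867 : Led Lsl_gt (LP (LK LD1_c9 LD2_c34 LD3_c2)) = (LP (LK LD1_c17 LD2_c36 LD3_c59)) :=
  Lgr Lrot82 (Lpe (K38.f1954 IH) (Lpr_ct (K12.f1797 IH) (Lpe (K13.f1587 IH) (Lpe (K13.f1931 IH) (Lpr_bt (K27.f171102 IH) (Lpe (K30.f171111 IH) (Lpe (K38.f171115 IH) (Lpe (f398362 IH) (Lpr_gf (f421863 IH) (Lpe (f421865 IH) (Lpn (LP (LK LD1_c17 LD2_c36 LD3_c59)))))))))))))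
theorem f1958 : Led Lsl_at (LP (LK LD1_c4 LD2_c50 LD3_c58)) = (LP (LK LD1_c9 LD2_c34 LD3_c0)) :=
  Lre_a IH (LK LD1_c4 LD2_c50 LD3_c58) (LK LD1_c9 LD2_c34 LD3_c0) Lrfl Lrfl
theorem f421873 : Led Lsl_gf (LP (LK LD1_c9 LD2_c34 LD3_c0)) = (LP (LK LD1_c17 LD2_c36 LD3_c59)) :=
  Lgr Lrot76 (Lpe (f1958 IH) (Lpe (K13.f1942 IH) (Lpr_gt (f421867 IH) (Lpn (LP (LK LD1_c17 LD2_c36 LD3_c59))))))
theorem f200109 : Led Lsl_gt (LP (LK LD1_c16 LD2_c13 LD3_c35)) = (LP (LK LD1_c8 LD2_c39 LD3_c50)) :=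
  Lre_g IH (LK LD1_c16 LD2_c13 LD3_c35) (LK LD1_c8 LD2_c39 LD3_c50) Lrfl Lrfl
theorem f200110 : Led Lsl_ct (LP (LK LD1_c26 LD2_c10 LD3_c30)) = (LP (LK LD1_c16 LD2_c13 LD3_c35)) :=
  Lre_c IH (LK LD1_c26 LD2_c10 LD3_c30) (LK LD1_c16 LD2_c13 LD3_c35) Lrfl Lrfl
theorem f421876 : Led Lsl_bt (LP (LK LD1_c26 LD2_c10 LD3_c30)) = (LP (LK LD1_c17 LD2_c36 LD3_c59)) :=
  Lgr Lrot92 (Lpr_ct (f200110 IH) (Lpr_gt (f200109 IH) (Lpe (K40.f200108 IH) (Lpr_bt (K13.f39050 IH) (Lpr_gt (K13.f200103 IH) (Lpr_ct (K13.f1931 IH) (Lpr_gt (K13.f1587 IH) (Lpe (K12.f1797 IH) (Lpr_bt (K38.f1954 IH) (Lpr_gt (f421867 IH) (Lpn (LP (LK LD1_c17 LD2_c36 LD3_c59)))))))))))))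
theorem f382239 : Led Lsl_ct (LP (LK LD1_c16 LD2_c13 LD3_c35)) = (LP (LK LD1_c26 LD2_c10 LD3_c30)) :=
  Lre_c IH (LK LD1_c16 LD2_c13 LD3_c35) (LK LD1_c26 LD2_c10 LD3_c30) Lrfl Lrfl
theorem f549883 : Led Lsl_dt (LP (LK LD1_c26 LD2_c19 LD3_c42)) = (LP (LK LD1_c16 LD2_c21 LD3_c39)) :=
  Lre_d IH (LK LD1_c26 LD2_c19 LD3_c42) (LK LD1_c16 LD2_c21 LD3_c39) Lrfl Lrfl
theorem f383613 : Led Lsl_gt (LP (LK LD1_c11 LD2_c17 LD3_c56)) = (LP (LK LD1_c20 LD2_c14 LD3_c4)) :=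
  Lre_g IH (LK LD1_c11 LD2_c17 LD3_c56) (LK LD1_c20 LD2_c14 LD3_c4) Lrfl Lrfl
theorem f602162 : Led Lsl_df (LP (LK LD1_c16 LD2_c13 LD3_c35)) = (LP (LK LD1_c20 LD2_c14 LD3_c4)) :=
  Lgr Lrot183 (Lpr_ct (f382239 IH) (Lpr_bt (f421876 IH) (Lpe (f421873 IH) (Lpr_dt (K35.f1966 IH) (Lpr_ct (K35.f1986 IH) (Lpr_bt (f30306 IH) (Lpr_gt (f602160 IH) (Lpr_dt (f549883 IH) (Lpr_ct (K45.f549882 IH) (Lpr_bt (K45.f549881 IH) (Lpe (K38.f549873 IH) (Lpr_dt (K45.f117774 IH) (Lpr_ct (K43.f117781 IH) (Lpr_bt (K43.f506336 IH) (Lpq (K41.f538017 IH) (Lpr_gt (K27.f289385 IH) (Lpe (K27.f383963 IH) (Lpr_ct (K39.f381681 IH) (Lpr_bt (K27.f383467 IH) (Lpr_gt (f383613 IH) (Lpn (LP (LK LD1_c20 LD2_c14 LD3_c4)))))))))))))))))))))))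
theorem f602164 : Led Lsl_dt (LP (LK LD1_c16 LD2_c13 LD3_c35)) = (LP (LK LD1_c20 LD2_c14 LD3_c4)) :=
  Lgr Lrot42 (Lpr_df (f602162 IH) (Lpn (LP (LK LD1_c20 LD2_c14 LD3_c4))))
theorem f382222 : Led Lsl_et (LP (LK LD1_c11 LD2_c17 LD3_c36)) = (LP (LK LD1_c20 LD2_c13 LD3_c43)) :=
  Lre_e IH (LK LD1_c11 LD2_c17 LD3_c36) (LK LD1_c20 LD2_c13 LD3_c43) Lrfl Lrfl
theorem f232444 : Led Lsl_et (LP (LK LD1_c4 LD2_c21 LD3_c14)) = (LP (LK LD1_c8 LD2_c39 LD3_c50)) :=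
  Lre_e IH (LK LD1_c4 LD2_c21 LD3_c14) (LK LD1_c8 LD2_c39 LD3_c50) Lrfl Lrfl
theorem f39706 : Led Lsl_dt (LP (LK LD1_c8 LD2_c40 LD3_c8)) = (LP (LK LD1_c4 LD2_c21 LD3_c14)) :=
  Lre_d IH (LK LD1_c8 LD2_c40 LD3_c8) (LK LD1_c4 LD2_c21 LD3_c14) Lrfl Lrfl
theorem f267411 : Led Lsl_et (LP (LK LD1_c16 LD2_c14 LD3_c10)) = (LP (LK LD1_c8 LD2_c40 LD3_c8)) :=
  Lre_e IH (LK LD1_c16 LD2_c14 LD3_c10) (LK LD1_c8 LD2_c40 LD3_c8) Lrfl Lrfl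
theorem f382245 : Led Lsl_dt (LP (LK LD1_c20 LD2_c13 LD3_c43)) = (LP (LK LD1_c16 LD2_c14 LD3_c10)) :=
  Lgr Lrot77 (Lpe (f382222 IH) (Lpr_df (K40.f382233 IH) (Lpe (f232444 IH) (Lpe (f39706 IH) (Lpe (f267411 IH) (Lpn (LP (LK LD1_c16 LD2_c14 LD3_c10))))))))
theorem f382258 : Led Lsl_df (LP (LK LD1_c20 LD2_c13 LD3_c43)) = (LP (LK LD1_c16 LD2_c14 LD3_c10)) :=
  Lgr Lrot38 (Lpr_dt (f382245 IH) (Lpn (LP (LK LD1_c16 LD2_c14 LD3_c10))))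
theorem f381948 : Led Lsl_at (LP (LK LD1_c20 LD2_c13 LD3_c43)) = (LP (LK LD1_c11 LD2_c17 LD3_c38)) :=
  Lre_a IH (LK LD1_c20 LD2_c13 LD3_c43) (LK LD1_c11 LD2_c17 LD3_c38) Lrfl Lrfl
theorem f382261 : Led Lsl_dt (LP (LK LD1_c11 LD2_c17 LD3_c38)) = (LP (LK LD1_c20 LD2_c13 LD3_c46)) :=
  Lre_d IH (LK LD1_c11 LD2_c17 LD3_c38) (LK LD1_c20 LD2_c13 LD3_c46) Lrfl Lrfl
theorem f382262 : Led Lsl_at (LP (LK LD1_c20 LD2_c13 LD3_c46)) = (LP (LK LD1_c16 LD2_c14 LD3_c10)) :=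
  Lgr Lrot51 (Lpe (f382261 IH) (Lpe (f381948 IH) (Lpr_df (f382258 IH) (Lpn (LP (LK LD1_c16 LD2_c14 LD3_c10))))))
theorem f39537 : Led Lsl_at (LP (LK LD1_c8 LD2_c40 LD3_c8)) = (LP (LK LD1_c16 LD2_c14 LD3_c6)) :=
  Lre_a IH (LK LD1_c8 LD2_c40 LD3_c8) (LK LD1_c16 LD2_c14 LD3_c6) Lrfl Lrfl
theorem f382272 : Led Lsl_ef (LP (LK LD1_c20 LD2_c13 LD3_c46)) = (LP (LK LD1_c16 LD2_c14 LD3_c6)) :=
  Lgr Lrot20 (Lpr_at (f382262 IH) (Lpr_et (f267411 IH) (Lpr_at (f39537 IH) (Lpn (LP (LK LD1_c16 LD2_c14 LD3_c6))))))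
theorem f382284 : Led Lsl_et (LP (LK LD1_c20 LD2_c13 LD3_c46)) = (LP (LK LD1_c16 LD2_c14 LD3_c6)) :=
  Lgr Lrot87 (Lpr_ef (f382272 IH) (Lpn (LP (LK LD1_c16 LD2_c14 LD3_c6))))
theorem f382291 : Led Lsl_et (LP (LK LD1_c5 LD2_c43 LD3_c48)) = (LP (LK LD1_c11 LD2_c17 LD3_c38)) :=
  Lre_e IH (LK LD1_c5 LD2_c43 LD3_c48) (LK LD1_c11 LD2_c17 LD3_c38) Lrfl Lrfl
theorem f382292 : Led Lsl_dt (LP (LK LD1_c11 LD2_c17 LD3_c37)) = (LP (LK LD1_c5 LD2_c43 LD3_c48)) :=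
  Lre_d IH (LK LD1_c11 LD2_c17 LD3_c37) (LK LD1_c5 LD2_c43 LD3_c48) Lrfl Lrfl
theorem f39466 : Led Lsl_dt (LP (LK LD1_c16 LD2_c14 LD3_c6)) = (LP (LK LD1_c8 LD2_c40 LD3_c7)) :=
  Lre_d IH (LK LD1_c16 LD2_c14 LD3_c6) (LK LD1_c8 LD2_c40 LD3_c7) Lrfl Lrfl
theorem f382293 : Led Lsl_ef (LP (LK LD1_c11 LD2_c17 LD3_c37)) = (LP (LK LD1_c8 LD2_c40 LD3_c7)) :=
  Lgr Lrot73 (Lpr_dt (f382292 IH) (Lpr_et (f382291 IH) (Lpr_dt (f382261 IH) (Lpr_et (f382284 IH) (Lpr_dt (f39466 IH) (Lpn (LP (LK LD1_c8 LD2_c40 LD3_c7))))))))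
theorem f382300 : Led Lsl_et (LP (LK LD1_c8 LD2_c40 LD3_c27)) = (LP (LK LD1_c4 LD2_c22 LD3_c8)) :=
  Lre_e IH (LK LD1_c8 LD2_c40 LD3_c27) (LK LD1_c4 LD2_c22 LD3_c8) Lrfl Lrfl
theorem f382301 : Led Lsl_ct (LP (LK LD1_c11 LD2_c17 LD3_c37)) = (LP (LK LD1_c8 LD2_c40 LD3_c27)) :=
  Lgr Lrot15 (Lpr_ef (f382293 IH) (Lpe (K38.f39467 IH) (Lpe (f382300 IH) (Lpn (LP (LK LD1_c8 LD2_c40 LD3_c27))))))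
theorem f200126 : Led Lsl_ft (LP (LK LD1_c8 LD2_c40 LD3_c27)) = (LP (LK LD1_c16 LD2_c14 LD3_c33)) :=
  Lre_f IH (LK LD1_c8 LD2_c40 LD3_c27) (LK LD1_c16 LD2_c14 LD3_c33) Lrfl Lrfl
theorem f232450 : Led Lsl_at (LP (LK LD1_c17 LD2_c41 LD3_c56)) = (LP (LK LD1_c9 LD2_c36 LD3_c39)) :=
  Lre_a IH (LK LD1_c17 LD2_c41 LD3_c56) (LK LD1_c9 LD2_c36 LD3_c39) Lrfl Lrfl
theorem f200124 : Led Lsl_at (LP (LK LD1_c8 LD2_c40 LD3_c29)) = (LP (LK LD1_c16 LD2_c14 LD3_c33)) :=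
  Lre_a IH (LK LD1_c8 LD2_c40 LD3_c29) (LK LD1_c16 LD2_c14 LD3_c33) Lrfl Lrfl
theorem f232451 : Led Lsl_cf (LP (LK LD1_c17 LD2_c41 LD3_c56)) = (LP (LK LD1_c16 LD2_c14 LD3_c33)) :=
  Lgr Lrot1 (Lpr_at (f232450 IH) (Lpr_ct (K40.f232441 IH) (Lpr_at (f200124 IH) (Lpn (LP (LK LD1_c16 LD2_c14 LD3_c33))))))
theorem f382309 : Led Lsl_ff (LP (LK LD1_c11 LD2_c17 LD3_c37)) = (LP (LK LD1_c17 LD2_c41 LD3_c56)) :=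
  Lgr Lrot23 (Lpr_ct (f382301 IH) (Lpr_ft (f200126 IH) (Lpe (f232451 IH) (Lpn (LP (LK LD1_c17 LD2_c41 LD3_c56))))))
theorem f382215 : Led Lsl_dt (LP (LK LD1_c5 LD2_c43 LD3_c48)) = (LP (LK LD1_c11 LD2_c17 LD3_c37)) :=
  Lre_d IH (LK LD1_c5 LD2_c43 LD3_c48) (LK LD1_c11 LD2_c17 LD3_c37) Lrfl Lrfl
theorem f382242 : Led Lsl_at (LP (LK LD1_c11 LD2_c17 LD3_c37)) = (LP (LK LD1_c8 LD2_c39 LD3_c50)) :=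
  Lgr Lrot51 (Lpe (f382215 IH) (Lpe (K40.f381655 IH) (Lpr_df (K40.f382233 IH) (Lpn (LP (LK LD1_c8 LD2_c39 LD3_c50))))))
theorem f382319 : Led Lsl_gf (LP (LK LD1_c16 LD2_c13 LD3_c35)) = (LP (LK LD1_c17 LD2_c41 LD3_c56)) :=
  Lgr Lrot47 (Lpr_gt (f200109 IH) (Lpe (f382242 IH) (Lpr_ff (f382309 IH) (Lpn (LP (LK LD1_c17 LD2_c41 LD3_c56))))))
theorem f232464 : Led Lsl_ct (LP (LK LD1_c17 LD2_c41 LD3_c56)) = (LP (LK LD1_c16 LD2_c14 LD3_c33)) :=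
  Lgr Lrot59 (Lpr_cf (f232451 IH) (Lpn (LP (LK LD1_c16 LD2_c14 LD3_c33))))
theorem f200118 : Led Lsl_gt (LP (LK LD1_c16 LD2_c14 LD3_c33)) = (LP (LK LD1_c8 LD2_c40 LD3_c26)) :=
  Lre_g IH (LK LD1_c16 LD2_c14 LD3_c33) (LK LD1_c8 LD2_c40 LD3_c26) Lrfl Lrfl
theorem f200119 : Led Lsl_dt (LP (LK LD1_c8 LD2_c40 LD3_c26)) = (LP (LK LD1_c16 LD2_c14 LD3_c38)) :=
  Lre_d IH (LK LD1_c8 LD2_c40 LD3_c26) (LK LD1_c16 LD2_c14 LD3_c38) Lrfl Lrfl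
theorem f381535 : Led Lsl_bt (LP (LK LD1_c5 LD2_c44 LD3_c23)) = (LP (LK LD1_c2 LD2_c48 LD3_c7)) :=
  Lre_b IH (LK LD1_c5 LD2_c44 LD3_c23) (LK LD1_c2 LD2_c48 LD3_c7) Lrfl Lrfl
theorem f383669 : Led Lsl_ft (LP (LK LD1_c11 LD2_c17 LD3_c56)) = (LP (LK LD1_c5 LD2_c44 LD3_c23)) :=
  Lgr Lrot75 (Lpe (K27.f383467 IH) (Lpr_ff (K27.f383652 IH) (Lpe (f381535 IH) (Lpn (LP (LK LD1_c5 LD2_c44 LD3_c23))))))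
theorem f383801 : Led Lsl_gt (LP (LK LD1_c20 LD2_c14 LD3_c4)) = (LP (LK LD1_c11 LD2_c18 LD3_c52)) :=
  Lgr Lrot46 (Lpe (f383613 IH) (Lpr_ft (f383669 IH) (Lpr_at (K28.f383732 IH) (Lpn (LP (LK LD1_c11 LD2_c18 LD3_c52))))))
theorem f258335 : Led Lsl_ct (LP (LK LD1_c16 LD2_c7 LD3_c40)) = (LP (LK LD1_c8 LD2_c36 LD3_c14)) :=
  Lre_c IH (LK LD1_c16 LD2_c7 LD3_c40) (LK LD1_c8 LD2_c36 LD3_c14) Lrfl Lrfl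
theorem f258359 : Led Lsl_ct (LP (LK LD1_c8 LD2_c36 LD3_c14)) = (LP (LK LD1_c16 LD2_c7 LD3_c40)) :=
  Lre_c IH (LK LD1_c8 LD2_c36 LD3_c14) (LK LD1_c16 LD2_c7 LD3_c40) Lrfl Lrfl
theorem f308860 : Led Lsl_bt (LP (LK LD1_c16 LD2_c7 LD3_c40)) = (LP (LK LD1_c9 LD2_c33 LD3_c44)) :=
  Lgr Lrot128 (Lpe (f258359 IH) (Lpe (K28.f258343 IH) (Lpe (K17.f258336 IH) (Lpe (K19.f308835 IH) (Lpr_cf (K19.f308850 IH) (Lpn (LP (LK LD1_c9 LD2_c33 LD3_c44))))))))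
theorem f404994 : Led Lsl_df (LP (LK LD1_c16 LD2_c7 LD3_c40)) = (LP (LK LD1_c17 LD2_c39 LD3_c17)) :=
  Lgr Lrot12 (Lpr_bt (f308860 IH) (Lpr_dt (K13.f238057 IH) (Lpr_bt (f238044 IH) (Lpn (LP (LK LD1_c17 LD2_c39 LD3_c17))))))
theorem f602167 : Led Lsl_gt (LP (LK LD1_c16 LD2_c14 LD3_c38)) = (LP (LK LD1_c17 LD2_c39 LD3_c17)) :=
  Lgr Lrot49 (Lpe (f200119 IH) (Lpe (f200118 IH) (Lpe (f232464 IH) (Lpe (f382319 IH) (Lpr_dt (f602164 IH) (Lpr_gt (f383801 IH) (Lpe (K28.f383724 IH) (Lpe (f258335 IH) (Lpr_df (f404994 IH) (Lpn (LP (LK LD1_c17 LD2_c39 LD3_c17))))))))))))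
theorem f602176 : Led Lsl_bt (LP (LK LD1_c26 LD2_c11 LD3_c44)) = (LP (LK LD1_c16 LD2_c14 LD3_c38)) :=
  Lre_b IH (LK LD1_c26 LD2_c11 LD3_c44) (LK LD1_c16 LD2_c14 LD3_c38) Lrfl Lrfl
theorem f398059 : Led Lsl_gt (LP (LK LD1_c17 LD2_c40 LD3_c44)) = (LP (LK LD1_c27 LD2_c28 LD3_c16)) :=
  Lre_g IH (LK LD1_c17 LD2_c40 LD3_c44) (LK LD1_c27 LD2_c28 LD3_c16) Lrfl Lrfl
theorem f620472 : Led Lsl_ct (LP (LK LD1_c26 LD2_c11 LD3_c44)) = (LP (LK LD1_c27 LD2_c28 LD3_c16)) :=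
  Lgr Lrot63 (Lpr_bt (f602176 IH) (Lpr_gt (f602167 IH) (Lpe (f238044 IH) (Lpe (K13.f238039 IH) (Lpr_gt (K13.f238011 IH) (Lpr_cf (K13.f233337 IH) (Lpr_bt (f233346 IH) (Lpr_gt (f233348 IH) (Lpr_ct (f620467 IH) (Lpr_gt (f398059 IH) (Lpn (LP (LK LD1_c27 LD2_c28 LD3_c16)))))))))))))
theorem f620475 : Led Lsl_cf (LP (LK LD1_c26 LD2_c11 LD3_c44)) = (LP (LK LD1_c27 LD2_c28 LD3_c16)) :=
  Lgr Lrot11 (Lpr_ct (f620472 IH) (Lpn (LP (LK LD1_c27 LD2_c28 LD3_c16))))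
theorem f398053 : Led Lsl_dt (LP (LK LD1_c9 LD2_c36 LD3_c6)) = (LP (LK LD1_c17 LD2_c40 LD3_c44)) :=
  Lre_d IH (LK LD1_c9 LD2_c36 LD3_c6) (LK LD1_c17 LD2_c40 LD3_c44) Lrfl Lrfl
theorem f550925 : Led Lsl_ft (LP (LK LD1_c27 LD2_c28 LD3_c20)) = (LP (LK LD1_c17 LD2_c40 LD3_c57)) :=
  Lgr Lrot54 (Lpe (K39.f399307 IH) (Lpe (K38.f397743 IH) (Lpr_df (K39.f550916 IH) (Lpn (LP (LK LD1_c17 LD2_c40 LD3_c57))))))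
theorem f550930 : Led Lsl_ff (LP (LK LD1_c27 LD2_c28 LD3_c20)) = (LP (LK LD1_c17 LD2_c40 LD3_c57)) :=
  Lgr Lrot3 (Lpr_ft (f550925 IH) (Lpn (LP (LK LD1_c17 LD2_c40 LD3_c57))))
theorem f235696 : Led Lsl_bt (LP (LK LD1_c27 LD2_c28 LD3_c20)) = (LP (LK LD1_c27 LD2_c27 LD3_c36)) :=
  Lgr Lrot127 (Lpr_bf (f235694 IH) (Lpn (LP (LK LD1_c27 LD2_c27 LD3_c36))))
theorem f30303 : Led Lsl_bt (LP (LK LD1_c27 LD2_c28 LD3_c25)) = (LP (LK LD1_c17 LD2_c40 LD3_c57)) :=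
  Lre_b IH (LK LD1_c27 LD2_c28 LD3_c25) (LK LD1_c17 LD2_c40 LD3_c57) Lrfl Lrfl
theorem f550934 : Led Lsl_ft (LP (LK LD1_c27 LD2_c27 LD3_c36)) = (LP (LK LD1_c27 LD2_c28 LD3_c25)) :=
  Lgr Lrot75 (Lpe (f235696 IH) (Lpr_ff (f550930 IH) (Lpe (f30303 IH) (Lpn (LP (LK LD1_c27 LD2_c28 LD3_c25))))))
theorem f349622 : Led Lsl_dt (LP (LK LD1_c15 LD2_c34 LD3_c46)) = (LP (LK LD1_c25 LD2_c28 LD3_c51)) :=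
  Lre_d IH (LK LD1_c15 LD2_c34 LD3_c46) (LK LD1_c25 LD2_c28 LD3_c51) Lrfl Lrfl
theorem f400389 : Led Lsl_dt (LP (LK LD1_c17 LD2_c37 LD3_c56)) = (LP (LK LD1_c9 LD2_c35 LD3_c8)) :=
  Lgr Lrot173 (Lpr_cf (K38.f400383 IH) (Lpr_df (K38.f233203 IH) (Lpr_cf (K38.f236052 IH) (Lpe (K38.f236060 IH) (Lpe (K30.f222976 IH) (Lpe (K30.f396937 IH) (Lpe (K30.f171149 IH) (Lpr_df (K38.f400358 IH) (Lpe (K38.f400367 IH) (Lpe (f349622 IH) (Lpe (f394265 IH) (Lpe (K30.f394258 IH) (Lpe (K30.f394268 IH) (Lpr_df (K38.f397043 IH) (Lpe (K38.f171142 IH) (Lpn (LP (LK LD1_c9 LD2_c35 LD3_c8))))))))))))))))))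
theorem f233700 : Led Lsl_ct (LP (LK LD1_c15 LD2_c57 LD3_c30)) = (LP (LK LD1_c25 LD2_c53 LD3_c57)) :=
  Lre_c IH (LK LD1_c15 LD2_c57 LD3_c30) (LK LD1_c25 LD2_c53 LD3_c57) Lrfl Lrfl
theorem f233702 : Led Lsl_dt (LP (LK LD1_c25 LD2_c53 LD3_c57)) = (LP (LK LD1_c32 LD2_c1 LD3_c19)) :=
  Lre_d IH (LK LD1_c25 LD2_c53 LD3_c57) (LK LD1_c32 LD2_c1 LD3_c19) Lrfl Lrfl
theorem f397252 : Led Lsl_ct (LP (LK LD1_c27 LD2_c24 LD3_c47)) = (LP (LK LD1_c27 LD2_c29 LD3_c53)) :=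
  Lgr Lrot40 (Lpr_ff (K38.f349498 IH) (Lpr_cf (K38.f397250 IH) (Lpr_ff (K38.f397179 IH) (Lpn (LP (LK LD1_c27 LD2_c29 LD3_c53))))))
theorem f232992 : Led Lsl_gt (LP (LK LD1_c27 LD2_c26 LD3_c6)) = (LP (LK LD1_c17 LD2_c37 LD3_c58)) :=
  Lre_g IH (LK LD1_c27 LD2_c26 LD3_c6) (LK LD1_c17 LD2_c37 LD3_c58) Lrfl Lrfl
theorem f397218 : Led Lsl_gf (LP (LK LD1_c27 LD2_c26 LD3_c6)) = (LP (LK LD1_c27 LD2_c29 LD3_c53)) :=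
  Lgr Lrot47 (Lpr_gt (f232992 IH) (Lpr_af (K38.f397210 IH) (Lpr_ff (K38.f397179 IH) (Lpn (LP (LK LD1_c27 LD2_c29 LD3_c53))))))
theorem f400403 : Led Lsl_cf (LP (LK LD1_c32 LD2_c1 LD3_c19)) = (LP (LK LD1_c27 LD2_c26 LD3_c6)) :=
  Lgr Lrot99 (Lpe (f233702 IH) (Lpe (f233700 IH) (Lpe (K30.f373003 IH) (Lpe (K27.f369317 IH) (Lpr_gf (K30.f373005 IH) (Lpe (f400389 IH) (Lpr_gt (K38.f400399 IH) (Lpr_ct (f397252 IH) (Lpe (f397218 IH) (Lpn (LP (LK LD1_c27 LD2_c26 LD3_c6))))))))))))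
theorem f400408 : Led Lsl_ct (LP (LK LD1_c32 LD2_c1 LD3_c19)) = (LP (LK LD1_c27 LD2_c26 LD3_c6)) :=
  Lgr Lrot59 (Lpr_cf (f400403 IH) (Lpn (LP (LK LD1_c27 LD2_c26 LD3_c6))))
theorem f400393 : Led Lsl_bt (LP (LK LD1_c17 LD2_c37 LD3_c58)) = (LP (LK LD1_c17 LD2_c37 LD3_c56)) :=
  Lgr Lrot92 (Lpr_ct (K38.f232943 IH) (Lpr_gt (K38.f232954 IH) (Lpr_cf (K38.f400383 IH) (Lpr_bt (K38.f1806 IH) (Lpr_gt (K13.f1794 IH) (Lpr_ct (K13.f1738 IH) (Lpr_gt (K13.f1795 IH) (Lpr_cf (K13.f232919 IH) (Lpr_bt (K38.f232951 IH) (Lpr_gt (K38.f232954 IH) (Lpn (LP (LK LD1_c17 LD2_c37 LD3_c56)))))))))))))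
theorem f349588 : Led Lsl_at (LP (LK LD1_c15 LD2_c34 LD3_c49)) = (LP (LK LD1_c9 LD2_c36 LD3_c16)) :=
  Lgr Lrot100 (Lpr_af (K38.f349567 IH) (Lpn (LP (LK LD1_c9 LD2_c36 LD3_c16))))
theorem f2050 : Led Lsl_et (LP (LK LD1_c9 LD2_c36 LD3_c16)) = (LP (LK LD1_c4 LD2_c51 LD3_c60)) :=
  Lre_e IH (LK LD1_c9 LD2_c36 LD3_c16) (LK LD1_c4 LD2_c51 LD3_c60) Lrfl Lrfl
theorem f349613 : Led Lsl_af (LP (LK LD1_c8 LD2_c17 LD3_c3)) = (LP (LK LD1_c4 LD2_c51 LD3_c60)) :=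
  Lgr Lrot50 (Lpr_et (K38.f220084 IH) (Lpr_at (f349588 IH) (Lpr_et (f2050 IH) (Lpn (LP (LK LD1_c4 LD2_c51 LD3_c60))))))
theorem f2044 : Led Lsl_bt (LP (LK LD1_c9 LD2_c36 LD3_c15)) = (LP (LK LD1_c4 LD2_c51 LD3_c60)) :=
  Lre_b IH (LK LD1_c9 LD2_c36 LD3_c15) (LK LD1_c4 LD2_c51 LD3_c60) Lrfl Lrfl
theorem f232546 : Led Lsl_at (LP (LK LD1_c17 LD2_c41 LD3_c8)) = (LP (LK LD1_c9 LD2_c36 LD3_c15)) :=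
  Lre_a IH (LK LD1_c17 LD2_c41 LD3_c8) (LK LD1_c9 LD2_c36 LD3_c15) Lrfl Lrfl
theorem f349618 : Led Lsl_bt (LP (LK LD1_c25 LD2_c28 LD3_c51)) = (LP (LK LD1_c17 LD2_c41 LD3_c8)) :=
  Lgr Lrot62 (Lpe (K38.f349617 IH) (Lpe (K38.f233374 IH) (Lpr_af (f349613 IH) (Lpe (f2044 IH) (Lpe (f232546 IH) (Lpn (LP (LK LD1_c17 LD2_c41 LD3_c8))))))))
theorem f199678 : Led Lsl_bt (LP (LK LD1_c8 LD2_c40 LD3_c14)) = (LP (LK LD1_c4 LD2_c21 LD3_c18)) :=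
  Lre_b IH (LK LD1_c8 LD2_c40 LD3_c14) (LK LD1_c4 LD2_c21 LD3_c18) Lrfl Lrfl
theorem f327833 : Led Lsl_at (LP (LK LD1_c16 LD2_c14 LD3_c20)) = (LP (LK LD1_c8 LD2_c40 LD3_c14)) :=
  Lre_a IH (LK LD1_c16 LD2_c14 LD3_c20) (LK LD1_c8 LD2_c40 LD3_c14) Lrfl Lrfl
theorem f327834 : Led Lsl_bt (LP (LK LD1_c17 LD2_c38 LD3_c30)) = (LP (LK LD1_c16 LD2_c14 LD3_c20)) :=
  Lgr Lrot62 (Lpe (f236054 IH) (Lpe (K38.f232203 IH) (Lpr_af (K21.f327829 IH) (Lpe (f199678 IH) (Lpe (f327833 IH) (Lpn (LP (LK LD1_c16 LD2_c14 LD3_c20))))))))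
theorem f187155 : Led Lsl_bt (LP (LK LD1_c9 LD2_c34 LD3_c11)) = (LP (LK LD1_c4 LD2_c51 LD3_c5)) :=
  Lre_b IH (LK LD1_c9 LD2_c34 LD3_c11) (LK LD1_c4 LD2_c51 LD3_c5) Lrfl Lrfl
theorem f232542 : Led Lsl_bt (LP (LK LD1_c4 LD2_c51 LD3_c60)) = (LP (LK LD1_c9 LD2_c36 LD3_c15)) :=
  Lre_b IH (LK LD1_c4 LD2_c51 LD3_c60) (LK LD1_c9 LD2_c36 LD3_c15) Lrfl Lrfl
theorem f232543 : Led Lsl_df (LP (LK LD1_c9 LD2_c34 LD3_c11)) = (LP (LK LD1_c9 LD2_c36 LD3_c15)) :=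
  Lgr Lrot12 (Lpr_bt (f187155 IH) (Lpr_dt (K14.f232524 IH) (Lpr_bt (f232542 IH) (Lpn (LP (LK LD1_c9 LD2_c36 LD3_c15))))))
theorem f187159 : Led Lsl_at (LP (LK LD1_c9 LD2_c34 LD3_c11)) = (LP (LK LD1_c17 LD2_c37 LD3_c19)) :=
  Lre_a IH (LK LD1_c9 LD2_c34 LD3_c11) (LK LD1_c17 LD2_c37 LD3_c19) Lrfl Lrfl
theorem f232547 : Led Lsl_dt (LP (LK LD1_c17 LD2_c37 LD3_c19)) = (LP (LK LD1_c17 LD2_c41 LD3_c8)) :=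
  Lgr Lrot44 (Lpe (f187159 IH) (Lpr_df (f232543 IH) (Lpe (f232546 IH) (Lpn (LP (LK LD1_c17 LD2_c41 LD3_c8))))))
theorem f232554 : Led Lsl_df (LP (LK LD1_c17 LD2_c37 LD3_c19)) = (LP (LK LD1_c17 LD2_c41 LD3_c8)) :=
  Lgr Lrot38 (Lpr_dt (f232547 IH) (Lpn (LP (LK LD1_c17 LD2_c41 LD3_c8))))
theorem f349623 : Led Lsl_bf (LP (LK LD1_c15 LD2_c34 LD3_c46)) = (LP (LK LD1_c17 LD2_c37 LD3_c19)) :=
  Lgr Lrot93 (Lpr_dt (f349622 IH) (Lpr_bt (f349618 IH) (Lpe (f232554 IH) (Lpn (LP (LK LD1_c17 LD2_c37 LD3_c19))))))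
theorem f394481 : Led Lsl_ft (LP (LK LD1_c16 LD2_c14 LD3_c20)) = (LP (LK LD1_c17 LD2_c37 LD3_c19)) :=
  Lgr Lrot75 (Lpe (f327834 IH) (Lpr_ff (f394369 IH) (Lpr_bf (f349623 IH) (Lpn (LP (LK LD1_c17 LD2_c37 LD3_c19))))))
theorem f394490 : Led Lsl_ff (LP (LK LD1_c16 LD2_c14 LD3_c20)) = (LP (LK LD1_c17 LD2_c37 LD3_c19)) :=
  Lgr Lrot3 (Lpr_ft (f394481 IH) (Lpn (LP (LK LD1_c17 LD2_c37 LD3_c19))))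
theorem f394494 : Led Lsl_dt (LP (LK LD1_c16 LD2_c14 LD3_c20)) = (LP (LK LD1_c26 LD2_c11 LD3_c22)) :=
  Lre_d IH (LK LD1_c16 LD2_c14 LD3_c20) (LK LD1_c26 LD2_c11 LD3_c22) Lrfl Lrfl
theorem f394497 : Led Lsl_ft (LP (LK LD1_c26 LD2_c11 LD3_c22)) = (LP (LK LD1_c17 LD2_c41 LD3_c8)) :=
  Lgr Lrot54 (Lpe (f394494 IH) (Lpr_ff (f394490 IH) (Lpr_df (f232554 IH) (Lpn (LP (LK LD1_c17 LD2_c41 LD3_c8))))))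
theorem f394502 : Led Lsl_at (LP (LK LD1_c16 LD2_c14 LD3_c21)) = (LP (LK LD1_c26 LD2_c11 LD3_c22)) :=
  Lre_a IH (LK LD1_c16 LD2_c14 LD3_c21) (LK LD1_c26 LD2_c11 LD3_c22) Lrfl Lrfl
theorem f394503 : Led Lsl_ff (LP (LK LD1_c16 LD2_c14 LD3_c21)) = (LP (LK LD1_c9 LD2_c36 LD3_c15)) :=
  Lgr Lrot30 (Lpr_at (f394502 IH) (Lpr_ft (f394497 IH) (Lpr_at (f232546 IH) (Lpn (LP (LK LD1_c9 LD2_c36 LD3_c15))))))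
theorem f394509 : Led Lsl_ft (LP (LK LD1_c16 LD2_c14 LD3_c21)) = (LP (LK LD1_c9 LD2_c36 LD3_c15)) :=
  Lgr Lrot48 (Lpr_ff (f394503 IH) (Lpn (LP (LK LD1_c9 LD2_c36 LD3_c15))))
theorem f233339 : Led Lsl_gt (LP (LK LD1_c16 LD2_c14 LD3_c21)) = (LP (LK LD1_c26 LD2_c11 LD3_c23)) :=
  Lre_g IH (LK LD1_c16 LD2_c14 LD3_c21) (LK LD1_c26 LD2_c11 LD3_c23) Lrfl Lrfl
theorem f232559 : Led Lsl_at (LP (LK LD1_c9 LD2_c36 LD3_c15)) = (LP (LK LD1_c17 LD2_c41 LD3_c8)) :=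
  Lre_a IH (LK LD1_c9 LD2_c36 LD3_c15) (LK LD1_c17 LD2_c41 LD3_c8) Lrfl Lrfl
theorem f394517 : Led Lsl_gt (LP (LK LD1_c26 LD2_c11 LD3_c23)) = (LP (LK LD1_c17 LD2_c41 LD3_c8)) :=
  Lgr Lrot46 (Lpe (f233339 IH) (Lpr_ft (f394509 IH) (Lpr_at (f232559 IH) (Lpn (LP (LK LD1_c17 LD2_c41 LD3_c8))))))
theorem f400410 : Led Lsl_bt (LP (LK LD1_c32 LD2_c1 LD3_c19)) = (LP (LK LD1_c26 LD2_c11 LD3_c23)) :=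
  Lgr Lrot22 (Lpr_ct (f400408 IH) (Lpr_gf (f397218 IH) (Lpe (f397252 IH) (Lpe (K38.f400399 IH) (Lpe (f400393 IH) (Lpr_ct (K38.f232943 IH) (Lpe (K38.f232952 IH) (Lpe (K38.f400367 IH) (Lpr_bt (f349618 IH) (Lpe (f394517 IH) (Lpn (LP (LK LD1_c26 LD2_c11 LD3_c23)))))))))))))
theorem f233698 : Led Lsl_bt (LP (LK LD1_c16 LD2_c14 LD3_c26)) = (LP (LK LD1_c25 LD2_c53 LD3_c57)) :=
  Lgr Lrot127 (Lpr_bf (K30.f233411 IH) (Lpn (LP (LK LD1_c25 LD2_c53 LD3_c57))))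
theorem f400414 : Led Lsl_df (LP (LK LD1_c16 LD2_c14 LD3_c26)) = (LP (LK LD1_c26 LD2_c11 LD3_c23)) :=
  Lgr Lrot12 (Lpr_bt (f233698 IH) (Lpr_dt (f233702 IH) (Lpr_bt (f400410 IH) (Lpn (LP (LK LD1_c26 LD2_c11 LD3_c23))))))
theorem f400417 : Led Lsl_dt (LP (LK LD1_c16 LD2_c14 LD3_c26)) = (LP (LK LD1_c26 LD2_c11 LD3_c23)) :=
  Lgr Lrot42 (Lpr_df (f400414 IH) (Lpn (LP (LK LD1_c26 LD2_c11 LD3_c23))))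
theorem f283255 : Led Lsl_bt (LP (LK LD1_c1 LD2_c16 LD3_c11)) = (LP (LK LD1_c2 LD2_c38 LD3_c18)) :=
  Lre_b IH (LK LD1_c1 LD2_c16 LD3_c11) (LK LD1_c2 LD2_c38 LD3_c18) Lrfl Lrfl
theorem f196966 : Led Lsl_bt (LP (LK LD1_c1 LD2_c1 LD3_c20)) = (LP (LK LD1_c2 LD2_c8 LD3_c20)) :=
  Lre_b IH (LK LD1_c1 LD2_c1 LD3_c20) (LK LD1_c2 LD2_c8 LD3_c20) Lrfl Lrfl
theorem f400419 : Led Lsl_cf (LP (LK LD1_c27 LD2_c28 LD3_c25)) = (LP (LK LD1_c26 LD2_c11 LD3_c23)) :=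
  Lgr Lrot89 (Lpr_bt (f30303 IH) (Lpr_gt (K39.f30299 IH) (Lpr_dt (K35.f30284 IH) (Lpr_ct (K35.f30283 IH) (Lpr_bt (K35.f29586 IH) (Lpe (K12.f216588 IH) (Lpr_dt (K13.f28934 IH) (Lpr_ct (K12.f28933 IH) (Lpr_bt (f196966 IH) (Lpr_gt (K19.f187077 IH) (Lpe (K19.f300725 IH) (Lpr_ct (K17.f283272 IH) (Lpr_bt (f283255 IH) (Lpr_gt (K21.f311296 IH) (Lpr_dt (K13.f184767 IH) (Lpr_ct (K13.f184770 IH) (Lpr_bt (K30.f184781 IH) (Lpr_gt (K30.f184782 IH) (Lpr_dt (f400417 IH) (Lpn (LP (LK LD1_c26 LD2_c11 LD3_c23))))))))))))))))))))))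
theorem f400422 : Led Lsl_ct (LP (LK LD1_c27 LD2_c28 LD3_c25)) = (LP (LK LD1_c26 LD2_c11 LD3_c23)) :=
  Lgr Lrot59 (Lpr_cf (f400419 IH) (Lpn (LP (LK LD1_c26 LD2_c11 LD3_c23))))
theorem f550936 : Led Lsl_ff (LP (LK LD1_c17 LD2_c39 LD3_c61)) = (LP (LK LD1_c26 LD2_c11 LD3_c23)) :=
  Lgr Lrot23 (Lpr_ct (f186940 IH) (Lpr_ft (f550934 IH) (Lpr_ct (f400422 IH) (Lpn (LP (LK LD1_c26 LD2_c11 LD3_c23))))))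
theorem f550942 : Led Lsl_ft (LP (LK LD1_c17 LD2_c39 LD3_c61)) = (LP (LK LD1_c26 LD2_c11 LD3_c23)) :=
  Lgr Lrot48 (Lpr_ff (f550936 IH) (Lpn (LP (LK LD1_c26 LD2_c11 LD3_c23))))
theorem f550954 : Led Lsl_ff (LP (LK LD1_c9 LD2_c35 LD3_c46)) = (LP (LK LD1_c16 LD2_c14 LD3_c26)) :=
  Lgr Lrot19 (Lpr_dt (f186939 IH) (Lpr_ft (f550942 IH) (Lpe (f400414 IH) (Lpn (LP (LK LD1_c16 LD2_c14 LD3_c26))))))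
theorem f186966 : Led Lsl_bt (LP (LK LD1_c9 LD2_c35 LD3_c46)) = (LP (LK LD1_c16 LD2_c1 LD3_c16)) :=
  Lgr Lrot127 (Lpr_bf (K30.f186961 IH) (Lpn (LP (LK LD1_c16 LD2_c1 LD3_c16))))
theorem f550956 : Led Lsl_ft (LP (LK LD1_c16 LD2_c1 LD3_c16)) = (LP (LK LD1_c25 LD2_c53 LD3_c57)) :=
  Lgr Lrot75 (Lpe (f186966 IH) (Lpr_ff (f550954 IH) (Lpr_bf (K30.f233411 IH) (Lpn (LP (LK LD1_c25 LD2_c53 LD3_c57))))))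
theorem f399298 : Led Lsl_bt (LP (LK LD1_c27 LD2_c31 LD3_c53)) = (LP (LK LD1_c17 LD2_c45 LD3_c29)) :=
  Lre_b IH (LK LD1_c27 LD2_c31 LD3_c53) (LK LD1_c17 LD2_c45 LD3_c29) Lrfl Lrfl
theorem f186985 : Led Lsl_ct (LP (LK LD1_c27 LD2_c27 LD3_c36)) = (LP (LK LD1_c17 LD2_c39 LD3_c61)) :=
  Lre_c IH (LK LD1_c27 LD2_c27 LD3_c36) (LK LD1_c17 LD2_c39 LD3_c61) Lrfl Lrfl
theorem f399299 : Led Lsl_cf (LP (LK LD1_c27 LD2_c31 LD3_c53)) = (LP (LK LD1_c25 LD2_c58 LD3_c42)) :=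
  Lgr Lrot97 (Lpr_bt (f399298 IH) (Lpr_ct (K39.f399284 IH) (Lpr_bt (f235696 IH) (Lpr_ct (f186985 IH) (Lpr_bt (f186970 IH) (Lpn (LP (LK LD1_c25 LD2_c58 LD3_c42))))))))
theorem f263806 : Led Lsl_bt (LP (LK LD1_c9 LD2_c39 LD3_c5)) = (LP (LK LD1_c4 LD2_c53 LD3_c39)) :=
  Lre_b IH (LK LD1_c9 LD2_c39 LD3_c5) (LK LD1_c4 LD2_c53 LD3_c39) Lrfl Lrfl
theorem f220331 : Led Lsl_gt (LP (LK LD1_c15 LD2_c35 LD3_c16)) = (LP (LK LD1_c8 LD2_c17 LD3_c23)) :=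
  Lre_g IH (LK LD1_c15 LD2_c35 LD3_c16) (LK LD1_c8 LD2_c17 LD3_c23) Lrfl Lrfl
theorem f263807 : Led Lsl_ct (LP (LK LD1_c9 LD2_c39 LD3_c5)) = (LP (LK LD1_c15 LD2_c35 LD3_c16)) :=
  Lgr Lrot64 (Lpr_bt (f263806 IH) (Lpr_gf (K27.f263793 IH) (Lpe (K22.f167082 IH) (Lpr_ct (K9.f166481 IH) (Lpe (K9.f166471 IH) (Lpe (K9.f166993 IH) (Lpe (K9.f167076 IH) (Lpe (K15.f167078 IH) (Lpe (K15.f220325 IH) (Lpe (f220331 IH) (Lpn (LP (LK LD1_c15 LD2_c35 LD3_c16)))))))))))))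
theorem f263815 : Led Lsl_cf (LP (LK LD1_c9 LD2_c39 LD3_c5)) = (LP (LK LD1_c15 LD2_c35 LD3_c16)) :=
  Lgr Lrot11 (Lpr_ct (f263807 IH) (Lpn (LP (LK LD1_c15 LD2_c35 LD3_c16))))
theorem f220334 : Led Lsl_bt (LP (LK LD1_c25 LD2_c29 LD3_c18)) = (LP (LK LD1_c15 LD2_c35 LD3_c16)) :=
  Lre_b IH (LK LD1_c25 LD2_c29 LD3_c18) (LK LD1_c15 LD2_c35 LD3_c16) Lrfl Lrfl
theorem f263817 : Led Lsl_ct (LP (LK LD1_c17 LD2_c45 LD3_c28)) = (LP (LK LD1_c25 LD2_c29 LD3_c18)) :=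
  Lgr Lrot83 (Lpe (K27.f178309 IH) (Lpe (K27.f2855 IH) (Lpe (f263806 IH) (Lpr_cf (f263815 IH) (Lpe (f220334 IH) (Lpn (LP (LK LD1_c25 LD2_c29 LD3_c18))))))))
theorem f220332 : Led Lsl_gt (LP (LK LD1_c8 LD2_c21 LD3_c1)) = (LP (LK LD1_c4 LD2_c10 LD3_c23)) :=
  Lre_g IH (LK LD1_c8 LD2_c21 LD3_c1) (LK LD1_c4 LD2_c10 LD3_c23) Lrfl Lrfl
theorem f1131 : Led Lsl_ct (LP (LK LD1_c2 LD2_c6 LD3_c32)) = (LP (LK LD1_c4 LD2_c16 LD3_c31)) :=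
  Lre_c IH (LK LD1_c2 LD2_c6 LD3_c32) (LK LD1_c4 LD2_c16 LD3_c31) Lrfl Lrfl
theorem f398274 : Led Lsl_df (LP (LK LD1_c8 LD2_c21 LD3_c1)) = (LP (LK LD1_c4 LD2_c11 LD3_c59)) :=
  Lgr Lrot153 (Lpr_gt (f220332 IH) (Lpr_dt (K38.f179575 IH) (Lpe (K38.f243267 IH) (Lpe (K38.f243496 IH) (Lpr_gf (K38.f398272 IH) (Lpe (K30.f51860 IH) (Lpe (K30.f51858 IH) (Lpe (f1131 IH) (Lpr_gt (K30.f52105 IH) (Lpn (LP (LK LD1_c4 LD2_c11 LD3_c59))))))))))))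
theorem f398281 : Led Lsl_dt (LP (LK LD1_c8 LD2_c21 LD3_c1)) = (LP (LK LD1_c4 LD2_c11 LD3_c59)) :=
  Lgr Lrot42 (Lpr_df (f398274 IH) (Lpn (LP (LK LD1_c4 LD2_c11 LD3_c59))))
theorem f220330 : Led Lsl_at (LP (LK LD1_c8 LD2_c21 LD3_c2)) = (LP (LK LD1_c4 LD2_c10 LD3_c23)) :=
  Lre_a IH (LK LD1_c8 LD2_c21 LD3_c2) (LK LD1_c4 LD2_c10 LD3_c23) Lrfl Lrfl
theorem f260720 : Led Lsl_ft (LP (LK LD1_c8 LD2_c33 LD3_c26)) = (LP (LK LD1_c8 LD2_c21 LD3_c2)) :=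
  Lgr Lrot101 (Lpe (K38.f260719 IH) (Lpr_ff (K38.f260717 IH) (Lpe (f220330 IH) (Lpn (LP (LK LD1_c8 LD2_c21 LD3_c2))))))
theorem f260724 : Led Lsl_gt (LP (LK LD1_c8 LD2_c33 LD3_c26)) = (LP (LK LD1_c8 LD2_c21 LD3_c1)) :=
  Lgr Lrot5 (Lpr_ft (f260720 IH) (Lpr_at (f220330 IH) (Lpe (f220332 IH) (Lpn (LP (LK LD1_c8 LD2_c21 LD3_c1))))))
theorem f260694 : Led Lsl_ct (LP (LK LD1_c8 LD2_c33 LD3_c26)) = (LP (LK LD1_c16 LD2_c3 LD3_c41)) :=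
  Lre_c IH (LK LD1_c8 LD2_c33 LD3_c26) (LK LD1_c16 LD2_c3 LD3_c41) Lrfl Lrfl
theorem f51697 : Led Lsl_gf (LP (LK LD1_c2 LD2_c6 LD3_c32)) = (LP (LK LD1_c4 LD2_c11 LD3_c58)) :=
  Lgr Lrot76 (Lpe (K30.f1140 IH) (Lpr_ff (K30.f51682 IH) (Lpr_gt (K38.f1212 IH) (Lpn (LP (LK LD1_c4 LD2_c11 LD3_c58))))))
theorem f167060 : Led Lsl_dt (LP (LK LD1_c4 LD2_c53 LD3_c37)) = (LP (LK LD1_c9 LD2_c39 LD3_c5)) :=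
  Lre_d IH (LK LD1_c4 LD2_c53 LD3_c37) (LK LD1_c9 LD2_c39 LD3_c5) Lrfl Lrfl
theorem f396948 : Led Lsl_gf (LP (LK LD1_c15 LD2_c35 LD3_c16)) = (LP (LK LD1_c16 LD2_c3 LD3_c41)) :=
  Lgr Lrot104 (Lpe (f263815 IH) (Lpe (f167060 IH) (Lpe (K31.f167055 IH) (Lpe (K30.f51858 IH) (Lpe (f1131 IH) (Lpr_gf (f51697 IH) (Lpr_df (K38.f396944 IH) (Lpe (K38.f260722 IH) (Lpr_ct (f260694 IH) (Lpn (LP (LK LD1_c16 LD2_c3 LD3_c41))))))))))))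
theorem f1208 : Led Lsl_dt (LP (LK LD1_c2 LD2_c3 LD3_c8)) = (LP (LK LD1_c0 LD2_c58 LD3_c27)) :=
  Lre_d IH (LK LD1_c2 LD2_c3 LD3_c8) (LK LD1_c0 LD2_c58 LD3_c27) Lrfl Lrfl
theorem f398290 : Led Lsl_dt (LP (LK LD1_c15 LD2_c35 LD3_c16)) = (LP (LK LD1_c8 LD2_c19 LD3_c49)) :=
  Lgr Lrot57 (Lpr_gf (f396948 IH) (Lpe (f260694 IH) (Lpr_gt (f260724 IH) (Lpr_dt (f398281 IH) (Lpr_gt (K30.f1215 IH) (Lpr_dt (f1208 IH) (Lpe (K31.f1053 IH) (Lpe (K31.f1085 IH) (Lpe (K31.f1094 IH) (Lpn (LP (LK LD1_c8 LD2_c19 LD3_c49))))))))))))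
theorem f398295 : Led Lsl_df (LP (LK LD1_c15 LD2_c35 LD3_c16)) = (LP (LK LD1_c8 LD2_c19 LD3_c49)) :=
  Lgr Lrot38 (Lpr_dt (f398290 IH) (Lpn (LP (LK LD1_c8 LD2_c19 LD3_c49))))
theorem f263812 : Led Lsl_bt (LP (LK LD1_c15 LD2_c35 LD3_c16)) = (LP (LK LD1_c25 LD2_c29 LD3_c18)) :=
  Lre_b IH (LK LD1_c15 LD2_c35 LD3_c16) (LK LD1_c25 LD2_c29 LD3_c18) Lrfl Lrfl
theorem f398306 : Led Lsl_dt (LP (LK LD1_c25 LD2_c29 LD3_c18)) = (LP (LK LD1_c15 LD2_c40 LD3_c34)) :=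
  Lgr Lrot79 (Lpe (f263812 IH) (Lpr_df (f398295 IH) (Lpe (K31.f50526 IH) (Lpn (LP (LK LD1_c15 LD2_c40 LD3_c34))))))
theorem f188738 : Led Lsl_ct (LP (LK LD1_c8 LD2_c32 LD3_c1)) = (LP (LK LD1_c16 LD2_c1 LD3_c13)) :=
  Lre_c IH (LK LD1_c8 LD2_c32 LD3_c1) (LK LD1_c16 LD2_c1 LD3_c13) Lrfl Lrfl
theorem f551073 : Led Lsl_af (LP (LK LD1_c16 LD2_c1 LD3_c13)) = (LP (LK LD1_c25 LD2_c53 LD3_c57)) :=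
  Lgr Lrot109 (Lpe (f188738 IH) (Lpe (K31.f232505 IH) (Lpe (K31.f359062 IH) (Lpe (f398306 IH) (Lpe (f263817 IH) (Lpe (K38.f263819 IH) (Lpr_cf (f399299 IH) (Lpe (f186987 IH) (Lpr_ft (f550956 IH) (Lpn (LP (LK LD1_c25 LD2_c53 LD3_c57))))))))))))
theorem f398020 : Led Lsl_ff (LP (LK LD1_c24 LD2_c44 LD3_c28)) = (LP (LK LD1_c15 LD2_c6 LD3_c54)) :=
  Lgr Lrot23 (Lpr_ct (K38.f398011 IH) (Lpr_ft (K38.f397994 IH) (Lpr_ct (K38.f29868 IH) (Lpn (LP (LK LD1_c15 LD2_c6 LD3_c54))))))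
theorem f233248 : Led Lsl_at (LP (LK LD1_c24 LD2_c54 LD3_c53)) = (LP (LK LD1_c15 LD2_c6 LD3_c54)) :=
  Lre_a IH (LK LD1_c24 LD2_c54 LD3_c53) (LK LD1_c15 LD2_c6 LD3_c54) Lrfl Lrfl
theorem f398022 : Led Lsl_ft (LP (LK LD1_c15 LD2_c6 LD3_c49)) = (LP (LK LD1_c24 LD2_c54 LD3_c53)) :=
  Lre_f IH (LK LD1_c15 LD2_c6 LD3_c49) (LK LD1_c24 LD2_c54 LD3_c53) Lrfl Lrfl
theorem f398023 : Led Lsl_at (LP (LK LD1_c24 LD2_c44 LD3_c28)) = (LP (LK LD1_c15 LD2_c6 LD3_c49)) :=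
  Lgr Lrot66 (Lpr_ff (f398020 IH) (Lpe (f233248 IH) (Lpe (f398022 IH) (Lpn (LP (LK LD1_c15 LD2_c6 LD3_c49))))))
theorem f398029 : Led Lsl_gf (LP (LK LD1_c15 LD2_c6 LD3_c49)) = (LP (LK LD1_c17 LD2_c39 LD3_c4)) :=
  Lgr Lrot76 (Lpe (f398023 IH) (Lpr_ff (f398020 IH) (Lpe (K38.f397604 IH) (Lpn (LP (LK LD1_c17 LD2_c39 LD3_c4))))))
theorem f29853 : Led Lsl_ct (LP (LK LD1_c15 LD2_c6 LD3_c49)) = (LP (LK LD1_c8 LD2_c1 LD3_c34)) :=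
  Lre_c IH (LK LD1_c15 LD2_c6 LD3_c49) (LK LD1_c8 LD2_c1 LD3_c34) Lrfl Lrfl
theorem f29872 : Led Lsl_gt (LP (LK LD1_c8 LD2_c1 LD3_c34)) = (LP (LK LD1_c15 LD2_c6 LD3_c46)) :=
  Lre_g IH (LK LD1_c8 LD2_c1 LD3_c34) (LK LD1_c15 LD2_c6 LD3_c46) Lrfl Lrfl
theorem f2801 : Led Lsl_gt (LP (LK LD1_c9 LD2_c36 LD3_c1)) = (LP (LK LD1_c4 LD2_c51 LD3_c56)) :=
  Lre_g IH (LK LD1_c9 LD2_c36 LD3_c1) (LK LD1_c4 LD2_c51 LD3_c56) Lrfl Lrfl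
theorem f29873 : Led Lsl_bt (LP (LK LD1_c9 LD2_c36 LD3_c6)) = (LP (LK LD1_c4 LD2_c51 LD3_c56)) :=
  Lre_b IH (LK LD1_c9 LD2_c36 LD3_c6) (LK LD1_c4 LD2_c51 LD3_c56) Lrfl Lrfl
theorem f171150 : Led Lsl_bt (LP (LK LD1_c9 LD2_c35 LD3_c9)) = (LP (LK LD1_c17 LD2_c39 LD3_c4)) :=
  Lre_b IH (LK LD1_c9 LD2_c35 LD3_c9) (LK LD1_c17 LD2_c39 LD3_c4) Lrfl Lrfl
theorem f398034 : Led Lsl_ct (LP (LK LD1_c9 LD2_c36 LD3_c6)) = (LP (LK LD1_c15 LD2_c47 LD3_c1)) :=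
  Lgr Lrot64 (Lpr_bt (f29873 IH) (Lpe (f2801 IH) (Lpe (K13.f1961 IH) (Lpe (K13.f29856 IH) (Lpe (f29872 IH) (Lpe (f29853 IH) (Lpr_gf (f398029 IH) (Lpe (f171150 IH) (Lpr_ct (K30.f171149 IH) (Lpe (K38.f171146 IH) (Lpn (LP (LK LD1_c15 LD2_c47 LD3_c1)))))))))))))
theorem f398047 : Led Lsl_cf (LP (LK LD1_c9 LD2_c36 LD3_c6)) = (LP (LK LD1_c15 LD2_c47 LD3_c1)) :=
  Lgr Lrot11 (Lpr_ct (f398034 IH) (Lpn (LP (LK LD1_c15 LD2_c47 LD3_c1))))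
theorem f53355 : Led Lsl_bt (LP (LK LD1_c15 LD2_c47 LD3_c1)) = (LP (LK LD1_c8 LD2_c23 LD3_c35)) :=
  Lre_b IH (LK LD1_c15 LD2_c47 LD3_c1) (LK LD1_c8 LD2_c23 LD3_c35) Lrfl Lrfl
theorem f51532 : Led Lsl_bt (LP (LK LD1_c8 LD2_c22 LD3_c23)) = (LP (LK LD1_c4 LD2_c11 LD3_c13)) :=
  Lre_b IH (LK LD1_c8 LD2_c22 LD3_c23) (LK LD1_c4 LD2_c11 LD3_c13) Lrfl Lrfl
theorem f51533 : Led Lsl_ct (LP (LK LD1_c8 LD2_c22 LD3_c23)) = (LP (LK LD1_c15 LD2_c45 LD3_c26)) :=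
  Lre_c IH (LK LD1_c8 LD2_c22 LD3_c23) (LK LD1_c15 LD2_c45 LD3_c26) Lrfl Lrfl
theorem f53339 : Led Lsl_gt (LP (LK LD1_c8 LD2_c23 LD3_c35)) = (LP (LK LD1_c15 LD2_c45 LD3_c26)) :=
  Lgr Lrot149 (Lpe (K38.f51701 IH) (Lpe (K38.f1212 IH) (Lpe (K30.f51546 IH) (Lpr_ct (K9.f51550 IH) (Lpe (K9.f51518 IH) (Lpe (K9.f51522 IH) (Lpr_bt (f51530 IH) (Lpe (f51531 IH) (Lpe (f51532 IH) (Lpr_ct (f51533 IH) (Lpn (LP (LK LD1_c15 LD2_c45 LD3_c26)))))))))))))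
theorem f53356 : Led Lsl_bt (LP (LK LD1_c25 LD2_c42 LD3_c7)) = (LP (LK LD1_c15 LD2_c45 LD3_c26)) :=
  Lre_b IH (LK LD1_c25 LD2_c42 LD3_c7) (LK LD1_c15 LD2_c45 LD3_c26) Lrfl Lrfl
theorem f53357 : Led Lsl_ct (LP (LK LD1_c25 LD2_c42 LD3_c7)) = (LP (LK LD1_c15 LD2_c45 LD3_c27)) :=
  Lre_c IH (LK LD1_c25 LD2_c42 LD3_c7) (LK LD1_c15 LD2_c45 LD3_c27) Lrfl Lrfl
theorem f398057 : Led Lsl_gf (LP (LK LD1_c9 LD2_c36 LD3_c6)) = (LP (LK LD1_c16 LD2_c1 LD3_c16)) :=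
  Lgr Lrot129 (Lpr_cf (f398047 IH) (Lpr_bt (f53355 IH) (Lpr_gt (f53339 IH) (Lpe (f53356 IH) (Lpr_ct (f53357 IH) (Lpe (f373132 IH) (Lpe (K27.f373053 IH) (Lpe (K27.f365374 IH) (Lpe (K30.f374789 IH) (Lpr_ct (f186968 IH) (Lpn (LP (LK LD1_c16 LD2_c1 LD3_c16)))))))))))))
theorem f551083 : Led Lsl_gf (LP (LK LD1_c16 LD2_c1 LD3_c13)) = (LP (LK LD1_c9 LD2_c36 LD3_c6)) :=
  Lgr Lrot76 (Lpr_af (f551073 IH) (Lpe (f550956 IH) (Lpe (f398057 IH) (Lpn (LP (LK LD1_c9 LD2_c36 LD3_c6))))))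
theorem f170477 : Led Lsl_ct (LP (LK LD1_c16 LD2_c1 LD3_c13)) = (LP (LK LD1_c8 LD2_c32 LD3_c1)) :=
  Lre_c IH (LK LD1_c16 LD2_c1 LD3_c13) (LK LD1_c8 LD2_c32 LD3_c1) Lrfl Lrfl
theorem f620479 : Led Lsl_gt (LP (LK LD1_c26 LD2_c11 LD3_c44)) = (LP (LK LD1_c25 LD2_c29 LD3_c42)) :=
  Lgr Lrot150 (Lpr_cf (f620475 IH) (Lpe (f398059 IH) (Lpe (f398053 IH) (Lpe (f551083 IH) (Lpr_ct (f170477 IH) (Lpe (K31.f377796 IH) (Lpr_ct (K27.f171100 IH) (Lpe (K27.f171125 IH) (Lpr_cf (f396984 IH) (Lpn (LP (LK LD1_c25 LD2_c29 LD3_c42))))))))))))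
theorem f620477 : Led Lsl_dt (LP (LK LD1_c16 LD2_c14 LD3_c36)) = (LP (LK LD1_c26 LD2_c11 LD3_c44)) :=
  Lre_d IH (LK LD1_c16 LD2_c14 LD3_c36) (LK LD1_c26 LD2_c11 LD3_c44) Lrfl Lrfl
theorem f315383 : Led Lsl_dt (LP (LK LD1_c15 LD2_c35 LD3_c30)) = (LP (LK LD1_c8 LD2_c17 LD3_c32)) :=
  Lre_d IH (LK LD1_c15 LD2_c35 LD3_c30) (LK LD1_c8 LD2_c17 LD3_c32) Lrfl Lrfl
theorem f234669 : Led Lsl_bt (LP (LK LD1_c8 LD2_c16 LD3_c44)) = (LP (LK LD1_c15 LD2_c33 LD3_c61)) :=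
  Lre_b IH (LK LD1_c8 LD2_c16 LD3_c44) (LK LD1_c15 LD2_c33 LD3_c61) Lrfl Lrfl
theorem f550075 : Led Lsl_gt (LP (LK LD1_c15 LD2_c33 LD3_c61)) = (LP (LK LD1_c15 LD2_c35 LD3_c30)) :=
  Lgr Lrot164 (Lpe (f234669 IH) (Lpe (K15.f234657 IH) (Lpr_gf (K14.f254786 IH) (Lpe (K13.f234119 IH) (Lpr_gf (K45.f250958 IH) (Lpe (K38.f234184 IH) (Lpr_ct (K38.f234185 IH) (Lpr_gf (K38.f550059 IH) (Lpr_cf (K38.f396954 IH) (Lpr_bt (K38.f396961 IH) (Lpn (LP (LK LD1_c15 LD2_c35 LD3_c30)))))))))))))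
theorem f232638 : Led Lsl_dt (LP (LK LD1_c8 LD2_c16 LD3_c43)) = (LP (LK LD1_c15 LD2_c33 LD3_c61)) :=
  Lre_d IH (LK LD1_c8 LD2_c16 LD3_c43) (LK LD1_c15 LD2_c33 LD3_c61) Lrfl Lrfl
theorem f620483 : Led Lsl_gf (LP (LK LD1_c16 LD2_c14 LD3_c36)) = (LP (LK LD1_c17 LD2_c39 LD3_c1)) :=
  Lgr Lrot144 (Lpr_dt (f620477 IH) (Lpr_gt (f620479 IH) (Lpr_dt (K38.f263831 IH) (Lpe (f220445 IH) (Lpe (f315383 IH) (Lpe (f550075 IH) (Lpe (f232638 IH) (Lpe (K30.f232620 IH) (Lpr_cf (K30.f232691 IH) (Lpn (LP (LK LD1_c17 LD2_c39 LD3_c1))))))))))))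
theorem f232693 : Led Lsl_bt (LP (LK LD1_c9 LD2_c35 LD3_c8)) = (LP (LK LD1_c17 LD2_c39 LD3_c1)) :=
  Lre_b IH (LK LD1_c9 LD2_c35 LD3_c8) (LK LD1_c17 LD2_c39 LD3_c1) Lrfl Lrfl
theorem f397011 : Led Lsl_ft (LP (LK LD1_c17 LD2_c39 LD3_c1)) = (LP (LK LD1_c15 LD2_c37 LD3_c58)) :=
  Lgr Lrot75 (Lpe (f232693 IH) (Lpr_ff (K30.f397009 IH) (Lpr_bf (K30.f170552 IH) (Lpn (LP (LK LD1_c15 LD2_c37 LD3_c58))))))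
theorem f397165 : Led Lsl_at (LP (LK LD1_c15 LD2_c37 LD3_c58)) = (LP (LK LD1_c17 LD2_c42 LD3_c46)) :=
  Lgr Lrot66 (Lpe (f397011 IH) (Lpe (K38.f397157 IH) (Lpr_ff (K38.f397162 IH) (Lpn (LP (LK LD1_c17 LD2_c42 LD3_c46))))))
theorem f620485 : Led Lsl_gt (LP (LK LD1_c16 LD2_c14 LD3_c36)) = (LP (LK LD1_c17 LD2_c42 LD3_c46)) :=
  Lgr Lrot46 (Lpr_gf (f620483 IH) (Lpr_ft (f397011 IH) (Lpr_at (f397165 IH) (Lpn (LP (LK LD1_c17 LD2_c42 LD3_c46))))))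
theorem f620488 : Led Lsl_at (LP (LK LD1_c17 LD2_c42 LD3_c47)) = (LP (LK LD1_c9 LD2_c37 LD3_c14)) :=
  Lre_a IH (LK LD1_c17 LD2_c42 LD3_c47) (LK LD1_c9 LD2_c37 LD3_c14) Lrfl Lrfl
theorem f620489 : Led Lsl_ft (LP (LK LD1_c16 LD2_c14 LD3_c36)) = (LP (LK LD1_c17 LD2_c42 LD3_c47)) :=
  Lgr Lrot2 (Lpr_gt (f620485 IH) (Lpr_gt (K38.f232698 IH) (Lpe (f620488 IH) (Lpn (LP (LK LD1_c17 LD2_c42 LD3_c47))))))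
theorem f620537 : Led Lsl_ff (LP (LK LD1_c16 LD2_c14 LD3_c36)) = (LP (LK LD1_c17 LD2_c42 LD3_c47)) :=
  Lgr Lrot3 (Lpr_ft (f620489 IH) (Lpn (LP (LK LD1_c17 LD2_c42 LD3_c47))))
theorem f200122 : Led Lsl_bt (LP (LK LD1_c16 LD2_c14 LD3_c36)) = (LP (LK LD1_c8 LD2_c40 LD3_c26)) :=
  Lre_b IH (LK LD1_c16 LD2_c14 LD3_c36) (LK LD1_c8 LD2_c40 LD3_c26) Lrfl Lrfl
theorem f620540 : Led Lsl_ft (LP (LK LD1_c8 LD2_c40 LD3_c26)) = (LP (LK LD1_c16 LD2_c14 LD3_c34)) :=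
  Lre_f IH (LK LD1_c8 LD2_c40 LD3_c26) (LK LD1_c16 LD2_c14 LD3_c34) Lrfl Lrfl
theorem f620541 : Led Lsl_bt (LP (LK LD1_c16 LD2_c14 LD3_c34)) = (LP (LK LD1_c17 LD2_c42 LD3_c47)) :=
  Lgr Lrot35 (Lpe (f620540 IH) (Lpe (f200122 IH) (Lpr_ff (f620537 IH) (Lpn (LP (LK LD1_c17 LD2_c42 LD3_c47))))))
theorem f620544 : Led Lsl_at (LP (LK LD1_c8 LD2_c40 LD3_c25)) = (LP (LK LD1_c16 LD2_c14 LD3_c34)) :=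
  Lre_a IH (LK LD1_c8 LD2_c40 LD3_c25) (LK LD1_c16 LD2_c14 LD3_c34) Lrfl Lrfl
theorem f279228 : Led Lsl_bt (LP (LK LD1_c9 LD2_c37 LD3_c14)) = (LP (LK LD1_c4 LD2_c52 LD3_c32)) :=
  Lre_b IH (LK LD1_c9 LD2_c37 LD3_c14) (LK LD1_c4 LD2_c52 LD3_c32) Lrfl Lrfl
theorem f620545 : Led Lsl_at (LP (LK LD1_c4 LD2_c52 LD3_c32)) = (LP (LK LD1_c9 LD2_c37 LD3_c11)) :=
  Lre_a IH (LK LD1_c4 LD2_c52 LD3_c32) (LK LD1_c9 LD2_c37 LD3_c11) Lrfl Lrfl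
theorem f620546 : Led Lsl_bf (LP (LK LD1_c8 LD2_c40 LD3_c25)) = (LP (LK LD1_c9 LD2_c37 LD3_c11)) :=
  Lgr Lrot81 (Lpr_at (f620544 IH) (Lpr_bt (f620541 IH) (Lpr_at (f620488 IH) (Lpr_bt (f279228 IH) (Lpr_at (f620545 IH) (Lpn (LP (LK LD1_c9 LD2_c37 LD3_c11))))))))
theorem f233708 : Led Lsl_gt (LP (LK LD1_c4 LD2_c21 LD3_c25)) = (LP (LK LD1_c8 LD2_c40 LD3_c25)) :=
  Lre_g IH (LK LD1_c4 LD2_c21 LD3_c25) (LK LD1_c8 LD2_c40 LD3_c25) Lrfl Lrfl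
theorem f39750 : Led Lsl_bt (LP (LK LD1_c2 LD2_c8 LD3_c13)) = (LP (LK LD1_c4 LD2_c21 LD3_c25)) :=
  Lre_b IH (LK LD1_c2 LD2_c8 LD3_c13) (LK LD1_c4 LD2_c21 LD3_c25) Lrfl Lrfl
theorem f2856 : Led Lsl_bt (LP (LK LD1_c4 LD2_c51 LD3_c59)) = (LP (LK LD1_c2 LD2_c23 LD3_c47)) :=
  Lre_b IH (LK LD1_c4 LD2_c51 LD3_c59) (LK LD1_c2 LD2_c23 LD3_c47) Lrfl Lrfl
theorem f2712 : Led Lsl_ct (LP (LK LD1_c4 LD2_c51 LD3_c59)) = (LP (LK LD1_c2 LD2_c24 LD3_c3)) :=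
  Lre_c IH (LK LD1_c4 LD2_c51 LD3_c59) (LK LD1_c2 LD2_c24 LD3_c3) Lrfl Lrfl
theorem f620557 : Led Lsl_ct (LP (LK LD1_c9 LD2_c37 LD3_c11)) = (LP (LK LD1_c4 LD2_c52 LD3_c30)) :=
  Lre_c IH (LK LD1_c9 LD2_c37 LD3_c11) (LK LD1_c4 LD2_c52 LD3_c30) Lrfl Lrfl
theorem f620560 : Led Lsl_gf (LP (LK LD1_c2 LD2_c24 LD3_c3)) = (LP (LK LD1_c4 LD2_c52 LD3_c30)) :=
  Lgr Lrot126 (Lpe (f2712 IH) (Lpr_bt (f2856 IH) (Lpe (K13.f233404 IH) (Lpr_ct (K13.f184779 IH) (Lpr_gt (K13.f28813 IH) (Lpe (K1.f29123 IH) (Lpr_bt (f39750 IH) (Lpr_gt (f233708 IH) (Lpr_bf (f620546 IH) (Lpr_ct (f620557 IH) (Lpn (LP (LK LD1_c4 LD2_c52 LD3_c30)))))))))))))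
theorem f365135 : Led Lsl_bt (LP (LK LD1_c8 LD2_c10 LD3_c47)) = (LP (LK LD1_c15 LD2_c24 LD3_c2)) :=
  Lre_b IH (LK LD1_c8 LD2_c10 LD3_c47) (LK LD1_c15 LD2_c24 LD3_c2) Lrfl Lrfl
theorem f199889 : Led Lsl_bt (LP (LK LD1_c1 LD2_c1 LD3_c25)) = (LP (LK LD1_c2 LD2_c8 LD3_c9)) :=
  Lre_b IH (LK LD1_c1 LD2_c1 LD3_c25) (LK LD1_c2 LD2_c8 LD3_c9) Lrfl Lrfl
theorem f365121 : Led Lsl_gt (LP (LK LD1_c2 LD2_c8 LD3_c9)) = (LP (LK LD1_c4 LD2_c9 LD3_c29)) :=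
  Lgr Lrot164 (Lpe (f199889 IH) (Lpr_ct (K12.f38988 IH) (Lpe (K13.f238864 IH) (Lpr_cf (K13.f236484 IH) (Lpe (K12.f29643 IH) (Lpr_bf (K9.f29809 IH) (Lpr_ct (K0.f1719 IH) (Lpe (K13.f233393 IH) (Lpe (K13.f184770 IH) (Lpr_bt (K26.f365115 IH) (Lpn (LP (LK LD1_c4 LD2_c9 LD3_c29)))))))))))))
theorem f167038 : Led Lsl_gt (LP (LK LD1_c4 LD2_c11 LD3_c43)) = (LP (LK LD1_c2 LD2_c3 LD3_c3)) :=
  Lre_g IH (LK LD1_c4 LD2_c11 LD3_c43) (LK LD1_c2 LD2_c3 LD3_c3) Lrfl Lrfl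
theorem f178362 : Led Lsl_ct (LP (LK LD1_c8 LD2_c23 LD3_c1)) = (LP (LK LD1_c4 LD2_c11 LD3_c43)) :=
  Lre_c IH (LK LD1_c8 LD2_c23 LD3_c1) (LK LD1_c4 LD2_c11 LD3_c43) Lrfl Lrfl
theorem f253964 : Led Lsl_bt (LP (LK LD1_c8 LD2_c23 LD3_c1)) = (LP (LK LD1_c15 LD2_c46 LD3_c21)) :=
  Lre_b IH (LK LD1_c8 LD2_c23 LD3_c1) (LK LD1_c15 LD2_c46 LD3_c21) Lrfl Lrfl
theorem f377842 : Led Lsl_gt (LP (LK LD1_c15 LD2_c24 LD3_c2)) = (LP (LK LD1_c15 LD2_c46 LD3_c21)) :=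
  Lgr Lrot164 (Lpe (f365135 IH) (Lpr_ct (K26.f365127 IH) (Lpe (f365121 IH) (Lpe (K15.f199128 IH) (Lpe (K16.f253953 IH) (Lpe (K41.f166998 IH) (Lpr_ct (K41.f53149 IH) (Lpe (f167038 IH) (Lpe (f178362 IH) (Lpr_bt (f253964 IH) (Lpn (LP (LK LD1_c15 LD2_c46 LD3_c21)))))))))))))
theorem f377847 : Led Lsl_ct (LP (LK LD1_c25 LD2_c43 LD3_c2)) = (LP (LK LD1_c15 LD2_c46 LD3_c21)) :=
  Lre_c IH (LK LD1_c25 LD2_c43 LD3_c2) (LK LD1_c15 LD2_c46 LD3_c21) Lrfl Lrfl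
theorem f377848 : Led Lsl_bt (LP (LK LD1_c25 LD2_c43 LD3_c2)) = (LP (LK LD1_c15 LD2_c46 LD3_c20)) :=
  Lre_b IH (LK LD1_c25 LD2_c43 LD3_c2) (LK LD1_c15 LD2_c46 LD3_c20) Lrfl Lrfl
theorem f620566 : Led Lsl_gt (LP (LK LD1_c15 LD2_c46 LD3_c20)) = (LP (LK LD1_c9 LD2_c37 LD3_c11)) :=
  Lgr Lrot82 (Lpe (f377848 IH) (Lpr_ct (f377847 IH) (Lpe (f377842 IH) (Lpr_cf (K38.f372805 IH) (Lpr_bt (K38.f233408 IH) (Lpr_gf (K13.f233404 IH) (Lpe (f2856 IH) (Lpr_ct (f2712 IH) (Lpr_gf (f620560 IH) (Lpe (f620557 IH) (Lpn (LP (LK LD1_c9 LD2_c37 LD3_c11)))))))))))))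
theorem f620574 : Led Lsl_dt (LP (LK LD1_c15 LD2_c46 LD3_c20)) = (LP (LK LD1_c25 LD2_c43 LD3_c3)) :=
  Lre_d IH (LK LD1_c15 LD2_c46 LD3_c20) (LK LD1_c25 LD2_c43 LD3_c3) Lrfl Lrfl
theorem f2713 : Led Lsl_dt (LP (LK LD1_c9 LD2_c36 LD3_c13)) = (LP (LK LD1_c4 LD2_c51 LD3_c59)) :=
  Lre_d IH (LK LD1_c9 LD2_c36 LD3_c13) (LK LD1_c4 LD2_c51 LD3_c59) Lrfl Lrfl
theorem f550877 : Led Lsl_cf (LP (LK LD1_c27 LD2_c28 LD3_c19)) = (LP (LK LD1_c17 LD2_c45 LD3_c32)) :=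
  Lgr Lrot11 (Lpr_ct (K39.f550875 IH) (Lpn (LP (LK LD1_c17 LD2_c45 LD3_c32))))
theorem f620575 : Led Lsl_gt (LP (LK LD1_c25 LD2_c43 LD3_c3)) = (LP (LK LD1_c17 LD2_c45 LD3_c32)) :=
  Lgr Lrot9 (Lpe (f620574 IH) (Lpr_gt (f620566 IH) (Lpr_ct (f620557 IH) (Lpe (f620560 IH) (Lpr_ct (K30.f2284 IH) (Lpe (f2713 IH) (Lpe (K35.f1742 IH) (Lpe (K39.f30522 IH) (Lpr_cf (f550877 IH) (Lpn (LP (LK LD1_c17 LD2_c45 LD3_c32))))))))))))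
theorem f620568 : Led Lsl_ft (LP (LK LD1_c9 LD2_c37 LD3_c17)) = (LP (LK LD1_c4 LD2_c52 LD3_c32)) :=
  Lre_f IH (LK LD1_c9 LD2_c37 LD3_c17) (LK LD1_c4 LD2_c52 LD3_c32) Lrfl Lrfl
theorem f620569 : Led Lsl_gf (LP (LK LD1_c15 LD2_c46 LD3_c20)) = (LP (LK LD1_c9 LD2_c37 LD3_c17)) :=
  Lgr Lrot47 (Lpr_gt (f620566 IH) (Lpe (f620545 IH) (Lpe (f620568 IH) (Lpn (LP (LK LD1_c9 LD2_c37 LD3_c17))))))
theorem f620577 : Led Lsl_ct (LP (LK LD1_c9 LD2_c37 LD3_c17)) = (LP (LK LD1_c4 LD2_c52 LD3_c35)) :=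
  Lre_c IH (LK LD1_c9 LD2_c37 LD3_c17) (LK LD1_c4 LD2_c52 LD3_c35) Lrfl Lrfl
theorem f620578 : Led Lsl_gt (LP (LK LD1_c4 LD2_c52 LD3_c35)) = (LP (LK LD1_c2 LD2_c24 LD3_c1)) :=
  Lgr Lrot94 (Lpe (f620577 IH) (Lpe (f620569 IH) (Lpr_dt (f620574 IH) (Lpr_gt (f620575 IH) (Lpr_dt (K39.f2837 IH) (Lpe (K39.f2838 IH) (Lpe (K38.f2835 IH) (Lpe (K38.f2833 IH) (Lpe (K0.f2244 IH) (Lpn (LP (LK LD1_c2 LD2_c24 LD3_c1))))))))))))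
theorem f2252 : Led Lsl_ct (LP (LK LD1_c4 LD2_c51 LD3_c57)) = (LP (LK LD1_c2 LD2_c24 LD3_c1)) :=
  Lre_c IH (LK LD1_c4 LD2_c51 LD3_c57) (LK LD1_c2 LD2_c24 LD3_c1) Lrfl Lrfl
theorem f2242 : Led Lsl_bt (LP (LK LD1_c4 LD2_c51 LD3_c57)) = (LP (LK LD1_c9 LD2_c34 LD3_c0)) :=
  Lre_b IH (LK LD1_c4 LD2_c51 LD3_c57) (LK LD1_c9 LD2_c34 LD3_c0) Lrfl Lrfl
theorem f421885 : Led Lsl_ft (LP (LK LD1_c17 LD2_c36 LD3_c59)) = (LP (LK LD1_c9 LD2_c33 LD3_c60)) :=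
  Lre_f IH (LK LD1_c17 LD2_c36 LD3_c59) (LK LD1_c9 LD2_c33 LD3_c60) Lrfl Lrfl
theorem f421919 : Led Lsl_at (LP (LK LD1_c9 LD2_c33 LD3_c60)) = (LP (LK LD1_c17 LD2_c36 LD3_c54)) :=
  Lre_a IH (LK LD1_c9 LD2_c33 LD3_c60) (LK LD1_c17 LD2_c36 LD3_c54) Lrfl Lrfl
theorem f421924 : Led Lsl_gt (LP (LK LD1_c9 LD2_c34 LD3_c0)) = (LP (LK LD1_c17 LD2_c36 LD3_c54)) :=
  Lgr Lrot46 (Lpr_gf (f421873 IH) (Lpr_ft (f421885 IH) (Lpr_at (f421919 IH) (Lpn (LP (LK LD1_c17 LD2_c36 LD3_c54))))))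
theorem f421921 : Led Lsl_bt (LP (LK LD1_c27 LD2_c25 LD3_c3)) = (LP (LK LD1_c17 LD2_c36 LD3_c54)) :=
  Lre_b IH (LK LD1_c27 LD2_c25 LD3_c3) (LK LD1_c17 LD2_c36 LD3_c54) Lrfl Lrfl
theorem f421860 : Led Lsl_at (LP (LK LD1_c17 LD2_c36 LD3_c61)) = (LP (LK LD1_c27 LD2_c25 LD3_c9)) :=
  Lre_a IH (LK LD1_c17 LD2_c36 LD3_c61) (LK LD1_c27 LD2_c25 LD3_c9) Lrfl Lrfl
theorem f421861 : Led Lsl_ft (LP (LK LD1_c14 LD2_c57 LD3_c50)) = (LP (LK LD1_c17 LD2_c36 LD3_c61)) :=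
  Lgr Lrot101 (Lpr_af (f421848 IH) (Lpe (f421859 IH) (Lpe (f421860 IH) (Lpn (LP (LK LD1_c17 LD2_c36 LD3_c61))))))
theorem f29837 : Led Lsl_ct (LP (LK LD1_c17 LD2_c36 LD3_c61)) = (LP (LK LD1_c9 LD2_c33 LD3_c61)) :=
  Lre_c IH (LK LD1_c17 LD2_c36 LD3_c61) (LK LD1_c9 LD2_c33 LD3_c61) Lrfl Lrfl
theorem f421929 : Led Lsl_ft (LP (LK LD1_c9 LD2_c33 LD3_c61)) = (LP (LK LD1_c17 LD2_c36 LD3_c54)) :=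
  Lre_f IH (LK LD1_c9 LD2_c33 LD3_c61) (LK LD1_c17 LD2_c36 LD3_c54) Lrfl Lrfl
theorem f421930 : Led Lsl_cf (LP (LK LD1_c14 LD2_c57 LD3_c50)) = (LP (LK LD1_c17 LD2_c36 LD3_c54)) :=
  Lgr Lrot108 (Lpr_ft (f421861 IH) (Lpr_ct (f29837 IH) (Lpr_ft (f421929 IH) (Lpn (LP (LK LD1_c17 LD2_c36 LD3_c54))))))
theorem f43207 : Led Lsl_bt (LP (LK LD1_c14 LD2_c57 LD3_c51)) = (LP (LK LD1_c24 LD2_c45 LD3_c20)) :=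
  Lre_b IH (LK LD1_c14 LD2_c57 LD3_c51) (LK LD1_c24 LD2_c45 LD3_c20) Lrfl Lrfl
theorem f421949 : Led Lsl_ct (LP (LK LD1_c24 LD2_c45 LD3_c20)) = (LP (LK LD1_c27 LD2_c25 LD3_c3)) :=
  Lgr Lrot83 (Lpe (f43207 IH) (Lpe (K20.f39652 IH) (Lpe (f39658 IH) (Lpr_cf (f421930 IH) (Lpe (f421921 IH) (Lpn (LP (LK LD1_c27 LD2_c25 LD3_c3))))))))
theorem f421951 : Led Lsl_cf (LP (LK LD1_c24 LD2_c45 LD3_c20)) = (LP (LK LD1_c27 LD2_c25 LD3_c3)) :=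
  Lgr Lrot11 (Lpr_ct (f421949 IH) (Lpn (LP (LK LD1_c27 LD2_c25 LD3_c3))))
theorem f39654 : Led Lsl_ct (LP (LK LD1_c14 LD2_c57 LD3_c51)) = (LP (LK LD1_c7 LD2_c55 LD3_c56)) :=
  Lre_c IH (LK LD1_c14 LD2_c57 LD3_c51) (LK LD1_c7 LD2_c55 LD3_c56) Lrfl Lrfl
theorem f219806 : Led Lsl_gf (LP (LK LD1_c15 LD2_c44 LD3_c45)) = (LP (LK LD1_c24 LD2_c45 LD3_c20)) :=
  Lgr Lrot181 (Lpr_ct (f219794 IH) (Lpr_gt (f219793 IH) (Lpe (K38.f219778 IH) (Lpr_bt (f219777 IH) (Lpr_gt (K13.f219774 IH) (Lpe (K11.f42655 IH) (Lpr_ct (K20.f43176 IH) (Lpr_gt (K20.f43195 IH) (Lpe (f39654 IH) (Lpr_bt (f43207 IH) (Lpn (LP (LK LD1_c24 LD2_c45 LD3_c20)))))))))))))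
theorem f219798 : Led Lsl_cf (LP (LK LD1_c15 LD2_c44 LD3_c45)) = (LP (LK LD1_c9 LD2_c35 LD3_c33)) :=
  Lgr Lrot11 (Lpr_ct (f219794 IH) (Lpn (LP (LK LD1_c9 LD2_c35 LD3_c33))))
theorem f219797 : Led Lsl_bt (LP (LK LD1_c9 LD2_c35 LD3_c33)) = (LP (LK LD1_c17 LD2_c39 LD3_c46)) :=
  Lre_b IH (LK LD1_c9 LD2_c35 LD3_c33) (LK LD1_c17 LD2_c39 LD3_c46) Lrfl Lrfl
theorem f620583 : Led Lsl_gf (LP (LK LD1_c9 LD2_c37 LD3_c17)) = (LP (LK LD1_c17 LD2_c39 LD3_c46)) :=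
  Lgr Lrot181 (Lpr_ct (f620577 IH) (Lpr_gt (f620578 IH) (Lpe (f2252 IH) (Lpr_bt (f2242 IH) (Lpr_gt (f421924 IH) (Lpe (f421921 IH) (Lpe (f421951 IH) (Lpe (f219806 IH) (Lpr_cf (f219798 IH) (Lpr_bt (f219797 IH) (Lpn (LP (LK LD1_c17 LD2_c39 LD3_c46)))))))))))))
theorem f229456 : Led Lsl_bt (LP (LK LD1_c24 LD2_c45 LD3_c20)) = (LP (LK LD1_c14 LD2_c57 LD3_c51)) :=
  Lre_b IH (LK LD1_c24 LD2_c45 LD3_c20) (LK LD1_c14 LD2_c57 LD3_c51) Lrfl Lrfl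
theorem f373130 : Led Lsl_ct (LP (LK LD1_c8 LD2_c29 LD3_c61)) = (LP (LK LD1_c10 LD2_c32 LD3_c35)) :=
  Lgr Lrot40 (Lpr_ff (K30.f365411 IH) (Lpe (K20.f250513 IH) (Lpr_ff (f373122 IH) (Lpn (LP (LK LD1_c10 LD2_c32 LD3_c35))))))
theorem f373117 : Led Lsl_at (LP (LK LD1_c10 LD2_c32 LD3_c35)) = (LP (LK LD1_c19 LD2_c5 LD3_c43)) :=
  Lre_a IH (LK LD1_c10 LD2_c32 LD3_c35) (LK LD1_c19 LD2_c5 LD3_c43) Lrfl Lrfl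
theorem f373134 : Led Lsl_cf (LP (LK LD1_c15 LD2_c57 LD3_c36)) = (LP (LK LD1_c19 LD2_c5 LD3_c43)) :=
  Lgr Lrot1 (Lpr_at (K31.f369316 IH) (Lpr_ct (f373130 IH) (Lpr_at (f373117 IH) (Lpn (LP (LK LD1_c19 LD2_c5 LD3_c43))))))
theorem f373152 : Led Lsl_ct (LP (LK LD1_c15 LD2_c57 LD3_c36)) = (LP (LK LD1_c19 LD2_c5 LD3_c43)) :=
  Lgr Lrot59 (Lpr_cf (f373134 IH) (Lpn (LP (LK LD1_c19 LD2_c5 LD3_c43))))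
theorem f373154 : Led Lsl_bf (LP (LK LD1_c17 LD2_c39 LD3_c37)) = (LP (LK LD1_c19 LD2_c5 LD3_c43)) :=
  Lgr Lrot90 (Lpr_ct (K38.f372899 IH) (Lpe (K27.f369484 IH) (Lpr_ct (K27.f369317 IH) (Lpr_bt (K27.f369313 IH) (Lpr_ct (f373152 IH) (Lpn (LP (LK LD1_c19 LD2_c5 LD3_c43))))))))
theorem f232682 : Led Lsl_ct (LP (LK LD1_c19 LD2_c5 LD3_c38)) = (LP (LK LD1_c17 LD2_c40 LD3_c16)) :=
  Lgr Lrot59 (Lpr_cf (K38.f232679 IH) (Lpn (LP (LK LD1_c17 LD2_c40 LD3_c16))))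
theorem f421954 : Led Lsl_gt (LP (LK LD1_c17 LD2_c40 LD3_c16)) = (LP (LK LD1_c27 LD2_c25 LD3_c3)) :=
  Lgr Lrot149 (Lpe (f232682 IH) (Lpr_gf (K38.f372906 IH) (Lpr_bf (f373154 IH) (Lpe (f373134 IH) (Lpr_gf (K30.f377789 IH) (Lpe (K20.f250556 IH) (Lpr_bt (K20.f250580 IH) (Lpe (K20.f39653 IH) (Lpe (f229456 IH) (Lpr_ct (f421949 IH) (Lpn (LP (LK LD1_c27 LD2_c25 LD3_c3)))))))))))))
theorem f232681 : Led Lsl_bt (LP (LK LD1_c9 LD2_c35 LD3_c55)) = (LP (LK LD1_c17 LD2_c40 LD3_c16)) :=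
  Lre_b IH (LK LD1_c9 LD2_c35 LD3_c55) (LK LD1_c17 LD2_c40 LD3_c16) Lrfl Lrfl
theorem f400464 : Led Lsl_gf (LP (LK LD1_c17 LD2_c40 LD3_c54)) = (LP (LK LD1_c25 LD2_c58 LD3_c42)) :=
  Lgr Lrot147 (Lpr_ct (K38.f400458 IH) (Lpe (K38.f400369 IH) (Lpr_ct (K38.f400367 IH) (Lpe (K38.f400351 IH) (Lpe (K30.f171112 IH) (Lpe (K38.f171146 IH) (Lpe (f398034 IH) (Lpr_gf (f398057 IH) (Lpe (f186969 IH) (Lpn (LP (LK LD1_c25 LD2_c58 LD3_c42))))))))))))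
theorem f397183 : Led Lsl_ct (LP (LK LD1_c15 LD2_c40 LD3_c24)) = (LP (LK LD1_c8 LD2_c19 LD3_c45)) :=
  Lre_c IH (LK LD1_c15 LD2_c40 LD3_c24) (LK LD1_c8 LD2_c19 LD3_c45) Lrfl Lrfl
theorem f397184 : Led Lsl_gt (LP (LK LD1_c8 LD2_c19 LD3_c45)) = (LP (LK LD1_c15 LD2_c40 LD3_c22)) :=
  Lre_g IH (LK LD1_c8 LD2_c19 LD3_c45) (LK LD1_c15 LD2_c40 LD3_c22) Lrfl Lrfl
theorem f232520 : Led Lsl_dt (LP (LK LD1_c9 LD2_c35 LD3_c55)) = (LP (LK LD1_c17 LD2_c40 LD3_c17)) :=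
  Lre_d IH (LK LD1_c9 LD2_c35 LD3_c55) (LK LD1_c17 LD2_c40 LD3_c17) Lrfl Lrfl
theorem f400466 : Led Lsl_ct (LP (LK LD1_c15 LD2_c40 LD3_c22)) = (LP (LK LD1_c9 LD2_c35 LD3_c55)) :=
  Lgr Lrot110 (Lpe (f397184 IH) (Lpe (f397183 IH) (Lpe (f372693 IH) (Lpe (K38.f397156 IH) (Lpe (K38.f399277 IH) (Lpr_ct (f399315 IH) (Lpe (f400464 IH) (Lpr_ct (K38.f400458 IH) (Lpe (f232520 IH) (Lpn (LP (LK LD1_c9 LD2_c35 LD3_c55))))))))))))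
theorem f400468 : Led Lsl_cf (LP (LK LD1_c15 LD2_c40 LD3_c22)) = (LP (LK LD1_c9 LD2_c35 LD3_c55)) :=
  Lgr Lrot11 (Lpr_ct (f400466 IH) (Lpn (LP (LK LD1_c9 LD2_c35 LD3_c55))))
theorem f620590 : Led Lsl_bf (LP (LK LD1_c9 LD2_c37 LD3_c17)) = (LP (LK LD1_c15 LD2_c40 LD3_c24)) :=
  Lgr Lrot34 (Lpr_gf (f620583 IH) (Lpe (f219797 IH) (Lpe (f219798 IH) (Lpr_gf (f219806 IH) (Lpr_cf (f421951 IH) (Lpe (f421954 IH) (Lpe (f232681 IH) (Lpe (f400468 IH) (Lpe (f397184 IH) (Lpe (f397183 IH) (Lpn (LP (LK LD1_c15 LD2_c40 LD3_c24)))))))))))))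
theorem f620594 : Led Lsl_bt (LP (LK LD1_c9 LD2_c37 LD3_c17)) = (LP (LK LD1_c15 LD2_c40 LD3_c24)) :=
  Lgr Lrot127 (Lpr_bf (f620590 IH) (Lpn (LP (LK LD1_c15 LD2_c40 LD3_c24))))
theorem f620580 : Led Lsl_ct (LP (LK LD1_c4 LD2_c52 LD3_c35)) = (LP (LK LD1_c9 LD2_c37 LD3_c17)) :=
  Lre_c IH (LK LD1_c4 LD2_c52 LD3_c35) (LK LD1_c9 LD2_c37 LD3_c17) Lrfl Lrfl
theorem f692439 : Led Lsl_df (LP (LK LD1_c4 LD2_c52 LD3_c35)) = v12493 :=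
  Lgr Lrot183 (Lpr_ct (f620580 IH) (Lpr_bt (f620594 IH) (Lpr_gt (f397181 IH) (Lpr_dt (K38.f170577 IH) (Lpe (K38.f394444 IH) (Lpr_bt (f232334 IH) (Lpe (K13.f232998 IH) (Lpr_dt (K13.f29120 IH) (Lpr_ct (K1.f29111 IH) (Lpe (K14.f29075 IH) (Lpe (K14.f184378 IH) (Lpr_dt (K14.f7928 IH) (Lpr_ct (K14.f200607 IH) (Lpr_bt (K18.f179025 IH) (Lpe (K19.f313359 IH) (Lpr_dt (f313367 IH) (Lpr_ct (K14.f166468 IH) (Lpr_bt (f178316 IH) (Lpr_gt (f692437 IH) (Lpn v12493))))))))))))))))))))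
theorem f620581 : Led Lsl_ft (LP (LK LD1_c4 LD2_c52 LD3_c35)) = (LP (LK LD1_c2 LD2_c23 LD3_c61)) :=
  Lre_f IH (LK LD1_c4 LD2_c52 LD3_c35) (LK LD1_c2 LD2_c23 LD3_c61) Lrfl Lrfl
theorem f2753 : Led Lsl_dt (LP (LK LD1_c2 LD2_c23 LD3_c61)) = (LP (LK LD1_c4 LD2_c52 LD3_c33)) :=
  Lre_d IH (LK LD1_c2 LD2_c23 LD3_c61) (LK LD1_c4 LD2_c52 LD3_c33) Lrfl Lrfl
theorem f692442 : Led Lsl_ft (LP (LK LD1_c4 LD2_c52 LD3_c33)) = v12493 :=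
  Lgr Lrot54 (Lpe (f2753 IH) (Lpe (f620581 IH) (Lpr_df (f692439 IH) (Lpn v12493))))
theorem f692441 : Led Lsl_dt (LP (LK LD1_c4 LD2_c52 LD3_c35)) = v12493 :=
  Lgr Lrot42 (Lpr_df (f692439 IH) (Lpn v12493))
theorem f620563 : Led Lsl_at (LP (LK LD1_c2 LD2_c24 LD3_c0)) = (LP (LK LD1_c4 LD2_c52 LD3_c35)) :=
  Lre_a IH (LK LD1_c2 LD2_c24 LD3_c0) (LK LD1_c4 LD2_c52 LD3_c35) Lrfl Lrfl
def v4527 : LQ := Led Lsl_dt (LP (LK LD1_c2 LD2_c24 LD3_c0))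
theorem f634387 : Led Lsl_dt (LP (LK LD1_c2 LD2_c24 LD3_c0)) = v4527 :=
  Lrfl
theorem f634388 : Led Lsl_df (LP (LK LD1_c2 LD2_c24 LD3_c0)) = v4527 :=
  Lgr Lrot38 (Lpr_dt (f634387 IH) (Lpn v4527))
theorem f692444 : Led Lsl_af v4527 = v12493 :=
  Lgr Lrot117 (Lpe (f634388 IH) (Lpr_at (f620563 IH) (Lpr_dt (f692441 IH) (Lpn v12493))))
theorem f692459 : Led Lsl_gf v4527 = v12495 :=
  Lgr Lrot76 (Lpr_af (f692444 IH) (Lpe (f692442 IH) (Lpr_gt (f692458 IH) (Lpn v12495))))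
theorem f30604 : Led Lsl_dt (LP (LK LD1_c9 LD2_c37 LD3_c20)) = (LP (LK LD1_c4 LD2_c52 LD3_c36)) :=
  Lre_d IH (LK LD1_c9 LD2_c37 LD3_c20) (LK LD1_c4 LD2_c52 LD3_c36) Lrfl Lrfl
theorem f30595 : Led Lsl_gt (LP (LK LD1_c17 LD2_c42 LD3_c50)) = (LP (LK LD1_c9 LD2_c37 LD3_c20)) :=
  Lre_g IH (LK LD1_c17 LD2_c42 LD3_c50) (LK LD1_c9 LD2_c37 LD3_c20) Lrfl Lrfl
theorem f692463 : Led Lsl_dt (LP (LK LD1_c15 LD2_c49 LD3_c8)) = (LP (LK LD1_c17 LD2_c42 LD3_c50)) :=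
  Lgr Lrot57 (Lpe (f263802 IH) (Lpe (K27.f2855 IH) (Lpe (f396012 IH) (Lpr_dt (f692461 IH) (Lpe (f692459 IH) (Lpe (f634388 IH) (Lpe (K13.f30605 IH) (Lpe (f30604 IH) (Lpe (f30595 IH) (Lpn (LP (LK LD1_c17 LD2_c42 LD3_c50))))))))))))
theorem f692464 : Led Lsl_dt (LP (LK LD1_c15 LD2_c49 LD3_c8)) = (LP (LK LD1_c17 LD2_c42 LD3_c50)) :=
  Leop (Lpe (f692463 IH) (Lpn (LP (LK LD1_c15 LD2_c49 LD3_c8))))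
theorem seed_613 : LEOK LG_d (LK LD1_c15 LD2_c49 LD3_c8) :=
  Leoe_d (LK LD1_c15 LD2_c49 LD3_c8) (f692464 IH)
theorem f692465 : Led Lsl_df (LP (LK LD1_c15 LD2_c49 LD3_c8)) = (LP (LK LD1_c17 LD2_c42 LD3_c50)) :=
  Lgr Lrot38 (Lpr_dt (f692463 IH) (Lpn (LP (LK LD1_c17 LD2_c42 LD3_c50))))
theorem f263821 : Led Lsl_ct (LP (LK LD1_c15 LD2_c49 LD3_c8)) = (LP (LK LD1_c8 LD2_c25 LD3_c1)) :=
  Lre_c IH (LK LD1_c15 LD2_c49 LD3_c8) (LK LD1_c8 LD2_c25 LD3_c1) Lrfl Lrfl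
def v1210 : LQ := Led Lsl_bt (LP (LK LD1_c0 LD2_c58 LD3_c26))
theorem f493977 : Led Lsl_bt (LP (LK LD1_c0 LD2_c58 LD3_c26)) = v1210 :=
  Lrfl
theorem f304909 : Led Lsl_ft (LP (LK LD1_c1 LD2_c0 LD3_c12)) = (LP (LK LD1_c0 LD2_c58 LD3_c26)) :=
  Lgr Lrot54 (Lpe (K21.f179534 IH) (Lpr_ff (K19.f304903 IH) (Lpe (K9.f167046 IH) (Lpn (LP (LK LD1_c0 LD2_c58 LD3_c26))))))

end

end K49

end

end Cfsg.Agent.Helper28.S1692
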