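import Cfsg.Agent.Lib.Helper28.S1692.Seeds4

set_option autoImplicit false
set_option maxRecDepth 100000
set_option linter.all false

namespace Cfsg.Agent.Helper28.S1692

open Cfsg.Agent.Helper28
open Cfsg.Spor.ON (Gen)

noncomputable section

namespace K5
abbrev LD1_c0 := D1.c0
abbrev LD1_c1 := D1.c1
abbrev LD1_c2 := D1.c2
abbrev LD1_c3 := D1.c3
abbrev LD1_c4 := D1.c4
abbrev LD1_c5 := D1.c5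
abbrev LD1_c6 := D1.c6
abbrev LD1_c7 := D1.c7
abbrev LD1_c8 := D1.c8
abbrev LD1_c9 := D1.c9
abbrev LD1_c10 := D1.c10
abbrev LD1_c11 := D1.c11
abbrev LD1_c12 := D1.c12
abbrev LD1_c13 := D1.c13
abbrev LD1_c14 := D1.c14
abbrev LD1_c15 := D1.c15
abbrev LD1_c16 := D1.c16
abbrev LD1_c17 := D1.c17
abbrev LD1_c18 := D1.c18
abbrev LD1_c19 := D1.c19
abbrev LD1_c20 := D1.c20
abbrev LD1_c21 := D1.c21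
abbrev LD1_c22 := D1.c22
abbrev LD1_c23 := D1.c23
abbrev LD1_c24 := D1.c24
abbrev LD1_c25 := D1.c25
abbrev LD1_c26 := D1.c26
abbrev LD1_c27 := D1.c27
abbrev LD1_c28 := D1.c28
abbrev LD1_c29 := D1.c29
abbrev LD1_c30 := D1.c30
abbrev LD1_c31 := D1.c31
abbrev LD1_c32 := D1.c32
abbrev LD2_c0 := D2.c0
abbrev LD2_c1 := D2.c1
abbrev LD2_c2 := D2.c2
abbrev LD2_c3 := D2.c3
abbrev LD2_c4 := D2.c4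
abbrev LD2_c5 := D2.c5
abbrev LD2_c6 := D2.c6
abbrev LD2_c7 := D2.c7
abbrev LD2_c8 := D2.c8
abbrev LD2_c9 := D2.c9
abbrev LD2_c10 := D2.c10
abbrev LD2_c11 := D2.c11
abbrev LD2_c12 := D2.c12
abbrev LD2_c13 := D2.c13
abbrev LD2_c14 := D2.c14
abbrev LD2_c15 := D2.c15
abbrev LD2_c16 := D2.c16
abbrev LD2_c17 := D2.c17
abbrev LD2_c18 := D2.c18
abbrev LD2_c19 := D2.c19
abbrev LD2_c20 := D2.c20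
abbrev LD2_c21 := D2.c21
abbrev LD2_c22 := D2.c22
abbrev LD2_c23 := D2.c23
abbrev LD2_c24 := D2.c24
abbrev LD2_c25 := D2.c25
abbrev LD2_c26 := D2.c26
abbrev LD2_c27 := D2.c27
abbrev LD2_c28 := D2.c28
abbrev LD2_c29 := D2.c29
abbrev LD2_c30 := D2.c30
abbrev LD2_c31 := D2.c31
abbrev LD2_c32 := D2.c32
abbrev LD2_c33 := D2.c33
abbrev LD2_c34 := D2.c34
abbrev LD2_c35 := D2.c35
abbrev LD2_c36 := D2.c36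
abbrev LD2_c37 := D2.c37
abbrev LD2_c38 := D2.c38
abbrev LD2_c39 := D2.c39
abbrev LD2_c40 := D2.c40
abbrev LD2_c41 := D2.c41
abbrev LD2_c42 := D2.c42
abbrev LD2_c43 := D2.c43
abbrev LD2_c44 := D2.c44
abbrev LD2_c45 := D2.c45
abbrev LD2_c46 := D2.c46
abbrev LD2_c47 := D2.c47
abbrev LD2_c48 := D2.c48
abbrev LD2_c49 := D2.c49
abbrev LD2_c50 := D2.c50
abbrev LD2_c51 := D2.c51
abbrev LD2_c52 := D2.c52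
abbrev LD2_c53 := D2.c53
abbrev LD2_c54 := D2.c54
abbrev LD2_c55 := D2.c55
abbrev LD2_c56 := D2.c56
abbrev LD2_c57 := D2.c57
abbrev LD2_c58 := D2.c58
abbrev LD2_c59 := D2.c59
abbrev LD3_c0 := D3.c0
abbrev LD3_c1 := D3.c1
abbrev LD3_c2 := D3.c2
abbrev LD3_c3 := D3.c3
abbrev LD3_c4 := D3.c4
abbrev LD3_c5 := D3.c5
abbrev LD3_c6 := D3.c6
abbrev LD3_c7 := D3.c7
abbrev LD3_c8 := D3.c8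
abbrev LD3_c9 := D3.c9
abbrev LD3_c10 := D3.c10
abbrev LD3_c11 := D3.c11
abbrev LD3_c12 := D3.c12
abbrev LD3_c13 := D3.c13
abbrev LD3_c14 := D3.c14
abbrev LD3_c15 := D3.c15
abbrev LD3_c16 := D3.c16
abbrev LD3_c17 := D3.c17
abbrev LD3_c18 := D3.c18
abbrev LD3_c19 := D3.c19
abbrev LD3_c20 := D3.c20
abbrev LD3_c21 := D3.c21
abbrev LD3_c22 := D3.c22
abbrev LD3_c23 := D3.c23
abbrev LD3_c24 := D3.c24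
abbrev LD3_c25 := D3.c25
abbrev LD3_c26 := D3.c26
abbrev LD3_c27 := D3.c27
abbrev LD3_c28 := D3.c28
abbrev LD3_c29 := D3.c29
abbrev LD3_c30 := D3.c30
abbrev LD3_c31 := D3.c31
abbrev LD3_c32 := D3.c32
abbrev LD3_c33 := D3.c33
abbrev LD3_c34 := D3.c34
abbrev LD3_c35 := D3.c35
abbrev LD3_c36 := D3.c36
abbrev LD3_c37 := D3.c37
abbrev LD3_c38 := D3.c38
abbrev LD3_c39 := D3.c39
abbrev LD3_c40 := D3.c40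
abbrev LD3_c41 := D3.c41
abbrev LD3_c42 := D3.c42
abbrev LD3_c43 := D3.c43
abbrev LD3_c44 := D3.c44
abbrev LD3_c45 := D3.c45
abbrev LD3_c46 := D3.c46
abbrev LD3_c47 := D3.c47
abbrev LD3_c48 := D3.c48
abbrev LD3_c49 := D3.c49
abbrev LD3_c50 := D3.c50
abbrev LD3_c51 := D3.c51
abbrev LD3_c52 := D3.c52
abbrev LD3_c53 := D3.c53
abbrev LD3_c54 := D3.c54
abbrev LD3_c55 := D3.c55
abbrev LD3_c56 := D3.c56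
abbrev LD3_c57 := D3.c57
abbrev LD3_c58 := D3.c58
abbrev LD3_c59 := D3.c59
abbrev LD3_c60 := D3.c60
abbrev LD3_c61 := D3.c61
abbrev LG_g := Gen.g
abbrev Lsl_gt : Gen × Bool := sl_gt
alias Lfl_gt := fl_gt
alias Lpr_gt := pr_gt
abbrev Lsl_gf : Gen × Bool := sl_gf
alias Lfl_gf := fl_gf
alias Lpr_gf := pr_gf
alias Lre_g := re_g
alias Leoe_g := eoe_g
abbrev LG_a := Gen.a
abbrev Lsl_at : Gen × Bool := sl_at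
alias Lfl_at := fl_at
alias Lpr_at := pr_at
abbrev Lsl_af : Gen × Bool := sl_af
alias Lfl_af := fl_af
alias Lpr_af := pr_af
alias Lre_a := re_a
alias Leoe_a := eoe_a
abbrev LG_b := Gen.b
abbrev Lsl_bt : Gen × Bool := sl_bt
alias Lfl_bt := fl_bt
alias Lpr_bt := pr_bt
abbrev Lsl_bf : Gen × Bool := sl_bf
alias Lfl_bf := fl_bf
alias Lpr_bf := pr_bf
alias Lre_b := re_b
alias Leoe_b := eoe_b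
abbrev LG_c := Gen.c
abbrev Lsl_ct : Gen × Bool := sl_ct
alias Lfl_ct := fl_ct
alias Lpr_ct := pr_ct
abbrev Lsl_cf : Gen × Bool := sl_cf
alias Lfl_cf := fl_cf
alias Lpr_cf := pr_cf
alias Lre_c := re_c
alias Leoe_c := eoe_c
abbrev LG_d := Gen.d
abbrev Lsl_dt : Gen × Bool := sl_dt
alias Lfl_dt := fl_dt
alias Lpr_dt := pr_dt
abbrev Lsl_df : Gen × Bool := sl_df
alias Lfl_df := fl_df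
alias Lpr_df := pr_df
alias Lre_d := re_d
alias Leoe_d := eoe_d
abbrev LG_e := Gen.e
abbrev Lsl_et : Gen × Bool := sl_et
alias Lfl_et := fl_et
alias Lpr_et := pr_et
abbrev Lsl_ef : Gen × Bool := sl_ef
alias Lfl_ef := fl_ef
alias Lpr_ef := pr_ef
alias Lre_e := re_e
alias Leoe_e := eoe_e
abbrev LG_f := Gen.f
abbrev Lsl_ft : Gen × Bool := sl_ft
alias Lfl_ft := fl_ft
alias Lpr_ft := pr_ft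
abbrev Lsl_ff : Gen × Bool := sl_ff
alias Lfl_ff := fl_ff
alias Lpr_ff := pr_ff
alias Lre_f := re_f
alias Leoe_f := eoe_f
abbrev LK := Pt.mk
abbrev LQ : Type := Qt rels S
abbrev LP (p : Pt) : LQ := P p
abbrev Led (l : Gen × Bool) (c : LQ) : LQ := ed l c
abbrev LEOK (x : Gen) (p : Pt) : Prop := EntryOK rels S fwd inv o plet idx x p
alias Lpe := pe
alias Lpn := pn
alias Lgr := gr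
alias Lpq := pq
alias Lpqs := pqs
alias Llr := lr
alias Leop := eop
alias Lefun := efun
alias Lecon := econ
theorem Lrfl {α : Sort _} {a : α} : a = a := rfl
alias Lrot0 := rot0
alias Lrot1 := rot1
alias Lrot2 := rot2
alias Lrot3 := rot3
alias Lrot4 := rot4
alias Lrot5 := rot5
alias Lrot6 := rot6
alias Lrot7 := rot7
alias Lrot8 := rot8
alias Lrot9 := rot9
alias Lrot10 := rot10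
alias Lrot11 := rot11
alias Lrot12 := rot12
alias Lrot13 := rot13
alias Lrot14 := rot14
alias Lrot15 := rot15
alias Lrot17 := rot17
alias Lrot18 := rot18
alias Lrot19 := rot19
alias Lrot20 := rot20
alias Lrot21 := rot21
alias Lrot23 := rot23
alias Lrot24 := rot24
alias Lrot25 := rot25
alias Lrot26 := rot26
alias Lrot27 := rot27
alias Lrot28 := rot28
alias Lrot29 := rot29
alias Lrot30 := rot30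
alias Lrot31 := rot31
alias Lrot32 := rot32
alias Lrot33 := rot33
alias Lrot34 := rot34
alias Lrot35 := rot35
alias Lrot36 := rot36
alias Lrot37 := rot37
alias Lrot38 := rot38
alias Lrot39 := rot39
alias Lrot40 := rot40
alias Lrot41 := rot41
alias Lrot42 := rot42
alias Lrot43 := rot43
alias Lrot44 := rot44
alias Lrot45 := rot45
alias Lrot46 := rot46
alias Lrot47 := rot47
alias Lrot48 := rot48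
alias Lrot49 := rot49
alias Lrot50 := rot50
alias Lrot51 := rot51
alias Lrot52 := rot52
alias Lrot53 := rot53
alias Lrot54 := rot54
alias Lrot55 := rot55
alias Lrot57 := rot57
alias Lrot58 := rot58
alias Lrot59 := rot59
alias Lrot60 := rot60
alias Lrot61 := rot61
alias Lrot62 := rot62
alias Lrot63 := rot63
alias Lrot64 := rot64
alias Lrot65 := rot65
alias Lrot66 := rot66
alias Lrot67 := rot67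
alias Lrot68 := rot68
alias Lrot69 := rot69
alias Lrot70 := rot70
alias Lrot71 := rot71
alias Lrot72 := rot72
alias Lrot73 := rot73
alias Lrot74 := rot74
alias Lrot75 := rot75
alias Lrot76 := rot76
alias Lrot77 := rot77
alias Lrot78 := rot78
alias Lrot79 := rot79
alias Lrot80 := rot80
alias Lrot81 := rot81
alias Lrot82 := rot82
alias Lrot83 := rot83
alias Lrot84 := rot84
alias Lrot85 := rot85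
alias Lrot86 := rot86
alias Lrot87 := rot87
alias Lrot88 := rot88
alias Lrot90 := rot90
alias Lrot91 := rot91
alias Lrot92 := rot92
alias Lrot93 := rot93
alias Lrot94 := rot94
alias Lrot95 := rot95
alias Lrot96 := rot96
alias Lrot97 := rot97
alias Lrot98 := rot98
alias Lrot99 := rot99
alias Lrot100 := rot100
alias Lrot101 := rot101
alias Lrot102 := rot102
alias Lrot103 := rot103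
alias Lrot104 := rot104
alias Lrot105 := rot105
alias Lrot106 := rot106
alias Lrot107 := rot107
alias Lrot108 := rot108
alias Lrot109 := rot109
alias Lrot110 := rot110
alias Lrot111 := rot111
alias Lrot112 := rot112
alias Lrot113 := rot113
alias Lrot114 := rot114
alias Lrot116 := rot116
alias Lrot117 := rot117
alias Lrot118 := rot118
alias Lrot119 := rot119
alias Lrot121 := rot121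
alias Lrot122 := rot122
alias Lrot123 := rot123
alias Lrot124 := rot124
alias Lrot125 := rot125
alias Lrot126 := rot126
alias Lrot127 := rot127
alias Lrot128 := rot128
alias Lrot129 := rot129
alias Lrot130 := rot130
alias Lrot131 := rot131
alias Lrot133 := rot133
alias Lrot134 := rot134
alias Lrot136 := rot136
alias Lrot137 := rot137
alias Lrot138 := rot138
alias Lrot139 := rot139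
alias Lrot140 := rot140
alias Lrot141 := rot141
alias Lrot142 := rot142
alias Lrot143 := rot143
alias Lrot144 := rot144
alias Lrot145 := rot145
alias Lrot147 := rot147
alias Lrot148 := rot148
alias Lrot149 := rot149
alias Lrot150 := rot150
alias Lrot152 := rot152
alias Lrot153 := rot153
alias Lrot154 := rot154
alias Lrot155 := rot155
alias Lrot156 := rot156
alias Lrot157 := rot157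
alias Lrot158 := rot158
alias Lrot159 := rot159
alias Lrot160 := rot160
alias Lrot161 := rot161
alias Lrot162 := rot162
alias Lrot163 := rot163
alias Lrot164 := rot164
alias Lrot165 := rot165
alias Lrot166 := rot166
alias Lrot167 := rot167
alias Lrot169 := rot169
alias Lrot170 := rot170
alias Lrot172 := rot172
alias Lrot173 := rot173
alias Lrot174 := rot174
alias Lrot175 := rot175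
alias Lrot176 := rot176
alias Lrot177 := rot177
alias Lrot178 := rot178
alias Lrot180 := rot180
alias Lrot181 := rot181
alias Lrot182 := rot182
alias Lrot183 := rot183
alias Lrot187 := rot187

section
variable (IH : IHT)
include IH

theorem f78273 : Led Lsl_ct (LP (LK LD1_c3 LD2_c6 LD3_c0)) = (LP (LK LD1_c1 LD2_c29 LD3_c5)) :=
  Lre_c IH (LK LD1_c3 LD2_c6 LD3_c0) (LK LD1_c1 LD2_c29 LD3_c5) Lrfl Lrfl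
theorem f124240 : Led Lsl_bf (LP (LK LD1_c1 LD2_c48 LD3_c16)) = (LP (LK LD1_c3 LD2_c6 LD3_c0)) :=
  Lgr Lrot156 (Lpr_gt (K4.f120893 IH) (Lpe (K4.f124147 IH) (Lpr_ct (K4.f26127 IH) (Lpr_gt (K4.f124236 IH) (Lpe (K2.f77878 IH) (Lpr_bt (K2.f77888 IH) (Lpe (K3.f78258 IH) (Lpr_ct (K4.f58747 IH) (Lpr_gt (K4.f25712 IH) (Lpe (f78273 IH) (Lpn (LP (LK LD1_c3 LD2_c6 LD3_c0)))))))))))))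
theorem f25671 : Led Lsl_bt (LP (LK LD1_c0 LD2_c41 LD3_c12)) = (LP (LK LD1_c0 LD2_c18 LD3_c27)) :=
  Lre_b IH (LK LD1_c0 LD2_c41 LD3_c12) (LK LD1_c0 LD2_c18 LD3_c27) Lrfl Lrfl
theorem f25413 : Led Lsl_et (LP (LK LD1_c0 LD2_c8 LD3_c17)) = (LP (LK LD1_c0 LD2_c18 LD3_c27)) :=
  Lre_e IH (LK LD1_c0 LD2_c8 LD3_c17) (LK LD1_c0 LD2_c18 LD3_c27) Lrfl Lrfl
theorem f84329 : Led Lsl_gt (LP (LK LD1_c0 LD2_c19 LD3_c59)) = (LP (LK LD1_c0 LD2_c18 LD3_c27)) :=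
  Lgr Lrot131 (Lpr_ef (K2.f84290 IH) (Lpr_dt (K1.f23269 IH) (Lpe (K0.f23259 IH) (Lpe (K0.f23010 IH) (Lpe (K0.f20048 IH) (Lpe (K2.f23299 IH) (Lpr_dt (K0.f25197 IH) (Lpe (K0.f25176 IH) (Lpe (K2.f25178 IH) (Lpr_et (f25413 IH) (Lpn (LP (LK LD1_c0 LD2_c18 LD3_c27)))))))))))))
theorem f124247 : Led Lsl_gt (LP (LK LD1_c0 LD2_c22 LD3_c61)) = (LP (LK LD1_c0 LD2_c20 LD3_c40)) :=
  Lgr Lrot149 (Lpe (K4.f120892 IH) (Lpe (K4.f120893 IH) (Lpr_bf (f124240 IH) (Lpr_ct (f78273 IH) (Lpe (K4.f25712 IH) (Lpe (K4.f58747 IH) (Lpr_bt (f25671 IH) (Lpe (f84329 IH) (Lpe (K2.f84284 IH) (Lpr_ct (K3.f84607 IH) (Lpn (LP (LK LD1_c0 LD2_c20 LD3_c40)))))))))))))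
theorem f109180 : Led Lsl_gf (LP (LK LD1_c1 LD2_c26 LD3_c24)) = (LP (LK LD1_c0 LD2_c45 LD3_c2)) :=
  Lgr Lrot181 (Lpr_ct (K3.f109164 IH) (Lpr_gt (K3.f107080 IH) (Lpr_cf (K3.f106784 IH) (Lpe (K3.f106782 IH) (Lpr_gt (K3.f67365 IH) (Lpe (K2.f67355 IH) (Lpe (K1.f67157 IH) (Lpr_gt (K0.f9686 IH) (Lpe (K2.f84282 IH) (Lpr_bt (K2.f84292 IH) (Lpn (LP (LK LD1_c0 LD2_c45 LD3_c2)))))))))))))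
theorem f124254 : Led Lsl_gt (LP (LK LD1_c0 LD2_c50 LD3_c58)) = (LP (LK LD1_c0 LD2_c45 LD3_c59)) :=
  Lgr Lrot9 (Lpe (K4.f120891 IH) (Lpr_gt (f124247 IH) (Lpe (K2.f84285 IH) (Lpe (f109180 IH) (Lpr_ct (K3.f109164 IH) (Lpe (K3.f95936 IH) (Lpe (K3.f106888 IH) (Lpe (K3.f12732 IH) (Lpe (K3.f12731 IH) (Lpn (LP (LK LD1_c0 LD2_c45 LD3_c59))))))))))))
theorem f124267 : Led Lsl_bt (LP (LK LD1_c1 LD2_c48 LD3_c13)) = (LP (LK LD1_c0 LD2_c50 LD3_c58)) :=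
  Lre_b IH (LK LD1_c1 LD2_c48 LD3_c13) (LK LD1_c0 LD2_c50 LD3_c58) Lrfl Lrfl
theorem f120869 : Led Lsl_ct (LP (LK LD1_c1 LD2_c48 LD3_c13)) = (LP (LK LD1_c3 LD2_c42 LD3_c29)) :=
  Lre_c IH (LK LD1_c1 LD2_c48 LD3_c13) (LK LD1_c3 LD2_c42 LD3_c29) Lrfl Lrfl
theorem f106910 : Led Lsl_cf (LP (LK LD1_c3 LD2_c25 LD3_c10)) = (LP (LK LD1_c3 LD2_c32 LD3_c2)) :=
  Lgr Lrot11 (Lpr_ct (K3.f106888 IH) (Lpn (LP (LK LD1_c3 LD2_c32 LD3_c2))))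
theorem f85644 : Led Lsl_bt (LP (LK LD1_c1 LD2_c42 LD3_c38)) = (LP (LK LD1_c3 LD2_c31 LD3_c56)) :=
  Lre_b IH (LK LD1_c1 LD2_c42 LD3_c38) (LK LD1_c3 LD2_c31 LD3_c56) Lrfl Lrfl
theorem f19333 : Led Lsl_ct (LP (LK LD1_c1 LD2_c42 LD3_c38)) = (LP (LK LD1_c3 LD2_c31 LD3_c57)) :=
  Lre_c IH (LK LD1_c1 LD2_c42 LD3_c38) (LK LD1_c3 LD2_c31 LD3_c57) Lrfl Lrfl
theorem f124269 : Led Lsl_gf (LP (LK LD1_c3 LD2_c42 LD3_c29)) = (LP (LK LD1_c3 LD2_c31 LD3_c57)) :=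
  Lgr Lrot126 (Lpe (f120869 IH) (Lpr_bt (f124267 IH) (Lpr_gt (f124254 IH) (Lpr_ct (K3.f12731 IH) (Lpr_gt (K3.f12732 IH) (Lpr_cf (f106910 IH) (Lpr_bt (K3.f106424 IH) (Lpr_gt (K4.f114146 IH) (Lpe (f85644 IH) (Lpr_ct (f19333 IH) (Lpn (LP (LK LD1_c3 LD2_c31 LD3_c57)))))))))))))
theorem f120866 : Led Lsl_ct (LP (LK LD1_c3 LD2_c42 LD3_c29)) = (LP (LK LD1_c1 LD2_c48 LD3_c13)) :=
  Lre_c IH (LK LD1_c3 LD2_c42 LD3_c29) (LK LD1_c1 LD2_c48 LD3_c13) Lrfl Lrfl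
theorem f120873 : Led Lsl_dt (LP (LK LD1_c1 LD2_c48 LD3_c13)) = (LP (LK LD1_c0 LD2_c50 LD3_c52)) :=
  Lre_d IH (LK LD1_c1 LD2_c48 LD3_c13) (LK LD1_c0 LD2_c50 LD3_c52) Lrfl Lrfl
theorem f124287 : Led Lsl_gf (LP (LK LD1_c1 LD2_c39 LD3_c23)) = (LP (LK LD1_c1 LD2_c42 LD3_c36)) :=
  Lgr Lrot104 (Lpr_ct (K4.f120836 IH) (Lpe (f120873 IH) (Lpe (f120866 IH) (Lpr_gf (f124269 IH) (Lpe (f19333 IH) (Lpe (K3.f19330 IH) (Lpe (K2.f18068 IH) (Lpr_gt (K4.f12626 IH) (Lpr_ct (K4.f12633 IH) (Lpn (LP (LK LD1_c1 LD2_c42 LD3_c36))))))))))))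
theorem f106334 : Led Lsl_bt (LP (LK LD1_c1 LD2_c42 LD3_c42)) = (LP (LK LD1_c1 LD2_c44 LD3_c49)) :=
  Lgr Lrot35 (Lpe (K3.f95928 IH) (Lpr_bf (K3.f23660 IH) (Lpr_ff (K3.f106332 IH) (Lpn (LP (LK LD1_c1 LD2_c44 LD3_c49))))))
theorem f109170 : Led Lsl_cf (LP (LK LD1_c1 LD2_c26 LD3_c24)) = (LP (LK LD1_c1 LD2_c42 LD3_c42)) :=
  Lgr Lrot11 (Lpr_ct (K3.f109164 IH) (Lpn (LP (LK LD1_c1 LD2_c42 LD3_c42))))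
theorem f124256 : Led Lsl_bt (LP (LK LD1_c0 LD2_c50 LD3_c52)) = (LP (LK LD1_c0 LD2_c22 LD3_c61)) :=
  Lre_b IH (LK LD1_c0 LD2_c50 LD3_c52) (LK LD1_c0 LD2_c22 LD3_c61) Lrfl Lrfl
theorem f124303 : Led Lsl_cf (LP (LK LD1_c1 LD2_c39 LD3_c23)) = (LP (LK LD1_c0 LD2_c50 LD3_c52)) :=
  Lgr Lrot58 (Lpr_gf (f124287 IH) (Lpe (K4.f12633 IH) (Lpe (K4.f12634 IH) (Lpe (K4.f114150 IH) (Lpe (f106334 IH) (Lpe (f109170 IH) (Lpr_gf (f109180 IH) (Lpr_cf (K2.f84285 IH) (Lpe (f124247 IH) (Lpe (f124256 IH) (Lpn (LP (LK LD1_c0 LD2_c50 LD3_c52)))))))))))))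
theorem f124307 : Led Lsl_ft (LP (LK LD1_c1 LD2_c39 LD3_c13)) = (LP (LK LD1_c0 LD2_c50 LD3_c52)) :=
  Lgr Lrot4 (Lpe (K4.f108829 IH) (Lpe (K4.f121340 IH) (Lpr_cf (f124303 IH) (Lpn (LP (LK LD1_c0 LD2_c50 LD3_c52))))))
theorem f124313 : Led Lsl_af (LP (LK LD1_c1 LD2_c45 LD3_c61)) = (LP (LK LD1_c0 LD2_c50 LD3_c52)) :=
  Lgr Lrot31 (Lpr_gf (K3.f86739 IH) (Lpr_gf (K3.f108825 IH) (Lpr_ft (f124307 IH) (Lpn (LP (LK LD1_c0 LD2_c50 LD3_c52))))))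
theorem f107082 : Led Lsl_ft (LP (LK LD1_c0 LD2_c47 LD3_c59)) = (LP (LK LD1_c0 LD2_c49 LD3_c42)) :=
  Lgr Lrot48 (Lpr_ff (K4.f107078 IH) (Lpn (LP (LK LD1_c0 LD2_c49 LD3_c42))))
theorem f107072 : Led Lsl_af (LP (LK LD1_c1 LD2_c33 LD3_c20)) = (LP (LK LD1_c0 LD2_c49 LD3_c42)) :=
  Lgr Lrot0 (Lpr_at (K3.f107070 IH) (Lpn (LP (LK LD1_c0 LD2_c49 LD3_c42))))
theorem f107086 : Led Lsl_gt (LP (LK LD1_c1 LD2_c40 LD3_c31)) = (LP (LK LD1_c1 LD2_c33 LD3_c20)) :=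
  Lgr Lrot46 (Lpr_gf (K4.f106764 IH) (Lpr_ft (f107082 IH) (Lpe (f107072 IH) (Lpn (LP (LK LD1_c1 LD2_c33 LD3_c20))))))
theorem f108827 : Led Lsl_cf (LP (LK LD1_c3 LD2_c10 LD3_c56)) = (LP (LK LD1_c1 LD2_c39 LD3_c13)) :=
  Lgr Lrot125 (Lpr_gt (K4.f83943 IH) (Lpe (K4.f19173 IH) (Lpr_bt (K4.f83951 IH) (Lpr_gt (f107086 IH) (Lpr_bf (K3.f23660 IH) (Lpr_ct (K3.f95749 IH) (Lpr_gt (K3.f86339 IH) (Lpe (K2.f10993 IH) (Lpr_bt (K2.f18016 IH) (Lpr_gt (K3.f108823 IH) (Lpn (LP (LK LD1_c1 LD2_c39 LD3_c13)))))))))))))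
theorem f121338 : Led Lsl_at (LP (LK LD1_c1 LD2_c42 LD3_c46)) = (LP (LK LD1_c1 LD2_c39 LD3_c13)) :=
  Lgr Lrot107 (Lpr_cf (K2.f87500 IH) (Lpr_af (K4.f121332 IH) (Lpr_cf (f108827 IH) (Lpn (LP (LK LD1_c1 LD2_c39 LD3_c13))))))
theorem f124321 : Led Lsl_ft (LP (LK LD1_c1 LD2_c45 LD3_c61)) = (LP (LK LD1_c1 LD2_c42 LD3_c46)) :=
  Lgr Lrot101 (Lpr_af (f124313 IH) (Lpe (f124307 IH) (Lpe (f121338 IH) (Lpn (LP (LK LD1_c1 LD2_c42 LD3_c46))))))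
theorem f84751 : Led Lsl_cf (LP (LK LD1_c0 LD2_c47 LD3_c60)) = (LP (LK LD1_c1 LD2_c37 LD3_c46)) :=
  Lgr Lrot97 (Lpr_bt (K2.f84730 IH) (Lpr_ct (K3.f10269 IH) (Lpr_bt (K2.f84731 IH) (Lpr_ct (K2.f84747 IH) (Lpr_bt (K2.f84750 IH) (Lpn (LP (LK LD1_c1 LD2_c37 LD3_c46))))))))
theorem f121318 : Led Lsl_ft (LP (LK LD1_c0 LD2_c47 LD3_c60)) = (LP (LK LD1_c0 LD2_c46 LD3_c56)) :=
  Lgr Lrot4 (Lpr_cf (f84751 IH) (Lpr_ff (K4.f121316 IH) (Lpe (K2.f21169 IH) (Lpn (LP (LK LD1_c0 LD2_c46 LD3_c56))))))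
theorem f106115 : Led Lsl_et (LP (LK LD1_c0 LD2_c46 LD3_c56)) = (LP (LK LD1_c0 LD2_c23 LD3_c17)) :=
  Lgr Lrot74 (Lpr_bf (K1.f17650 IH) (Lpr_ef (K3.f106113 IH) (Lpe (K2.f5721 IH) (Lpn (LP (LK LD1_c0 LD2_c23 LD3_c17))))))
theorem f124323 : Led Lsl_ff (LP (LK LD1_c0 LD2_c49 LD3_c43)) = (LP (LK LD1_c0 LD2_c23 LD3_c17)) :=
  Lgr Lrot72 (Lpr_et (K3.f86732 IH) (Lpr_ft (f124321 IH) (Lpr_et (K2.f87509 IH) (Lpr_ft (f121318 IH) (Lpr_et (f106115 IH) (Lpn (LP (LK LD1_c0 LD2_c23 LD3_c17))))))))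
theorem f124327 : Led Lsl_ft (LP (LK LD1_c0 LD2_c49 LD3_c43)) = (LP (LK LD1_c0 LD2_c23 LD3_c17)) :=
  Lgr Lrot48 (Lpr_ff (f124323 IH) (Lpn (LP (LK LD1_c0 LD2_c23 LD3_c17))))
theorem f124333 : Led Lsl_af (LP (LK LD1_c0 LD2_c22 LD3_c45)) = (LP (LK LD1_c0 LD2_c23 LD3_c17)) :=
  Lgr Lrot31 (Lpr_gf (K3.f107274 IH) (Lpe (K3.f108880 IH) (Lpr_ft (f124327 IH) (Lpn (LP (LK LD1_c0 LD2_c23 LD3_c17))))))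
theorem f124341 : Led Lsl_at (LP (LK LD1_c0 LD2_c50 LD3_c22)) = (LP (LK LD1_c0 LD2_c51 LD3_c32)) :=
  Lgr Lrot51 (Lpe (K3.f95914 IH) (Lpr_af (f124333 IH) (Lpe (K0.f5752 IH) (Lpn (LP (LK LD1_c0 LD2_c51 LD3_c32))))))
theorem f104323 : Led Lsl_gt (LP (LK LD1_c1 LD2_c38 LD3_c31)) = (LP (LK LD1_c0 LD2_c45 LD3_c43)) :=
  Lgr Lrot82 (Lpr_bf (K2.f84647 IH) (Lpr_ct (K2.f77980 IH) (Lpe (K2.f7012 IH) (Lpr_cf (K3.f104310 IH) (Lpr_bt (K3.f25116 IH) (Lpe (K1.f25179 IH) (Lpe (K3.f61872 IH) (Lpr_ct (K2.f66821 IH) (Lpe (K2.f18617 IH) (Lpe (K2.f19345 IH) (Lpn (LP (LK LD1_c0 LD2_c45 LD3_c43)))))))))))))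
theorem f120946 : Led Lsl_gf (LP (LK LD1_c0 LD2_c51 LD3_c32)) = (LP (LK LD1_c1 LD2_c48 LD3_c10)) :=
  Lgr Lrot143 (Lpr_dt (K0.f5752 IH) (Lpe (K3.f23688 IH) (Lpe (K2.f23703 IH) (Lpr_gf (K3.f93999 IH) (Lpe (K2.f19344 IH) (Lpe (f104323 IH) (Lpe (K2.f12664 IH) (Lpr_gt (K2.f84653 IH) (Lpr_dt (K4.f120937 IH) (Lpn (LP (LK LD1_c1 LD2_c48 LD3_c10))))))))))))
theorem f124349 : Led Lsl_ff (LP (LK LD1_c0 LD2_c50 LD3_c22)) = (LP (LK LD1_c0 LD2_c50 LD3_c51)) :=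
  Lgr Lrot52 (Lpr_at (f124341 IH) (Lpr_gf (f120946 IH) (Lpe (K4.f120848 IH) (Lpn (LP (LK LD1_c0 LD2_c50 LD3_c51))))))
theorem f124361 : Led Lsl_ft (LP (LK LD1_c0 LD2_c50 LD3_c22)) = (LP (LK LD1_c0 LD2_c50 LD3_c51)) :=
  Lgr Lrot48 (Lpr_ff (f124349 IH) (Lpn (LP (LK LD1_c0 LD2_c50 LD3_c51))))
theorem f120834 : Led Lsl_dt (LP (LK LD1_c0 LD2_c50 LD3_c51)) = (LP (LK LD1_c0 LD2_c22 LD3_c58)) :=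
  Lre_d IH (LK LD1_c0 LD2_c50 LD3_c51) (LK LD1_c0 LD2_c22 LD3_c58) Lrfl Lrfl
theorem f124369 : Led Lsl_ff (LP (LK LD1_c0 LD2_c22 LD3_c45)) = (LP (LK LD1_c0 LD2_c22 LD3_c58)) :=
  Lgr Lrot19 (Lpr_dt (K3.f95914 IH) (Lpr_ft (f124361 IH) (Lpr_dt (f120834 IH) (Lpn (LP (LK LD1_c0 LD2_c22 LD3_c58))))))
theorem f124335 : Led Lsl_at (LP (LK LD1_c0 LD2_c22 LD3_c45)) = (LP (LK LD1_c0 LD2_c23 LD3_c17)) :=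
  Lgr Lrot100 (Lpr_af (f124333 IH) (Lpn (LP (LK LD1_c0 LD2_c23 LD3_c17))))
theorem f120838 : Led Lsl_gt (LP (LK LD1_c0 LD2_c22 LD3_c58)) = (LP (LK LD1_c0 LD2_c50 LD3_c50)) :=
  Lre_g IH (LK LD1_c0 LD2_c22 LD3_c58) (LK LD1_c0 LD2_c50 LD3_c50) Lrfl Lrfl
theorem f124376 : Led Lsl_gf (LP (LK LD1_c0 LD2_c23 LD3_c17)) = (LP (LK LD1_c0 LD2_c50 LD3_c50)) :=
  Lgr Lrot76 (Lpe (f124335 IH) (Lpr_ff (f124369 IH) (Lpr_gt (f120838 IH) (Lpn (LP (LK LD1_c0 LD2_c50 LD3_c50))))))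
theorem f64287 : Led Lsl_df (LP (LK LD1_c0 LD2_c21 LD3_c2)) = (LP (LK LD1_c0 LD2_c23 LD3_c43)) :=
  Lgr Lrot12 (Lpr_bt (K2.f9934 IH) (Lpr_dt (K1.f62667 IH) (Lpr_bt (K0.f17300 IH) (Lpn (LP (LK LD1_c0 LD2_c23 LD3_c43))))))
theorem f124380 : Led Lsl_ct (LP (LK LD1_c0 LD2_c23 LD3_c33)) = (LP (LK LD1_c0 LD2_c50 LD3_c50)) :=
  Lgr Lrot8 (Lpe (K2.f23349 IH) (Lpr_dt (K0.f15039 IH) (Lpr_gt (K3.f23355 IH) (Lpr_dt (K3.f90235 IH) (Lpe (K1.f9935 IH) (Lpr_df (f64287 IH) (Lpe (K0.f17291 IH) (Lpe (K0.f5724 IH) (Lpr_gf (f124376 IH) (Lpn (LP (LK LD1_c0 LD2_c50 LD3_c50))))))))))))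
theorem f12424 : Led Lsl_bt (LP (LK LD1_c0 LD2_c23 LD3_c33)) = (LP (LK LD1_c0 LD2_c10 LD3_c34)) :=
  Lre_b IH (LK LD1_c0 LD2_c23 LD3_c33) (LK LD1_c0 LD2_c10 LD3_c34) Lrfl Lrfl
theorem f120832 : Led Lsl_ct (LP (LK LD1_c0 LD2_c46 LD3_c10)) = (LP (LK LD1_c0 LD2_c22 LD3_c58)) :=
  Lgr Lrot59 (Lpr_cf (K4.f120826 IH) (Lpn (LP (LK LD1_c0 LD2_c22 LD3_c58))))
theorem f124416 : Led Lsl_gt (LP (LK LD1_c0 LD2_c51 LD3_c1)) = (LP (LK LD1_c0 LD2_c43 LD3_c47)) :=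
  Lgr Lrot65 (Lpe (K3.f26104 IH) (Lpe (K3.f79323 IH) (Lpe (K1.f14704 IH) (Lpe (f12424 IH) (Lpr_ct (f124380 IH) (Lpe (f120838 IH) (Lpe (f120832 IH) (Lpe (K2.f14989 IH) (Lpe (K4.f26122 IH) (Lpr_ct (K4.f104181 IH) (Lpn (LP (LK LD1_c0 LD2_c43 LD3_c47)))))))))))))
theorem f26106 : Led Lsl_dt (LP (LK LD1_c1 LD2_c48 LD3_c31)) = (LP (LK LD1_c0 LD2_c51 LD3_c1)) :=
  Lre_d IH (LK LD1_c1 LD2_c48 LD3_c31) (LK LD1_c0 LD2_c51 LD3_c1) Lrfl Lrfl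
theorem f104185 : Led Lsl_ct (LP (LK LD1_c2 LD2_c19 LD3_c14)) = (LP (LK LD1_c1 LD2_c6 LD3_c45)) :=
  Lre_c IH (LK LD1_c2 LD2_c19 LD3_c14) (LK LD1_c1 LD2_c6 LD3_c45) Lrfl Lrfl
theorem f124418 : Led Lsl_gt (LP (LK LD1_c3 LD2_c15 LD3_c57)) = (LP (LK LD1_c2 LD2_c19 LD3_c14)) :=
  Lgr Lrot187 (Lpe (K4.f93665 IH) (Lpe (K4.f120785 IH) (Lpr_dt (f26106 IH) (Lpr_gt (f124416 IH) (Lpe (K3.f104177 IH) (Lpe (K3.f23466 IH) (Lpr_ct (K2.f23465 IH) (Lpe (K2.f82386 IH) (Lpe (f104185 IH) (Lpn (LP (LK LD1_c2 LD2_c19 LD3_c14))))))))))))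
theorem f124508 : Led Lsl_df (LP (LK LD1_c0 LD2_c30 LD3_c44)) = (LP (LK LD1_c1 LD2_c6 LD3_c45)) :=
  Lgr Lrot162 (Lpe (K2.f23465 IH) (Lpr_gf (K3.f23466 IH) (Lpr_cf (K3.f104177 IH) (Lpe (f124416 IH) (Lpr_dt (K4.f26109 IH) (Lpr_gt (K4.f120785 IH) (Lpr_ct (K4.f93665 IH) (Lpr_gt (f124418 IH) (Lpr_ct (f104185 IH) (Lpn (LP (LK LD1_c1 LD2_c6 LD3_c45))))))))))))
theorem f23444 : Led Lsl_gt (LP (LK LD1_c0 LD2_c8 LD3_c37)) = (LP (LK LD1_c0 LD2_c19 LD3_c10)) :=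
  Lre_g IH (LK LD1_c0 LD2_c8 LD3_c37) (LK LD1_c0 LD2_c19 LD3_c10) Lrfl Lrfl
theorem f23585 : Led Lsl_ct (LP (LK LD1_c0 LD2_c19 LD3_c10)) = (LP (LK LD1_c0 LD2_c43 LD3_c3)) :=
  Lre_c IH (LK LD1_c0 LD2_c19 LD3_c10) (LK LD1_c0 LD2_c43 LD3_c3) Lrfl Lrfl
theorem f23587 : Led Lsl_dt (LP (LK LD1_c0 LD2_c43 LD3_c3)) = (LP (LK LD1_c1 LD2_c33 LD3_c4)) :=
  Lre_d IH (LK LD1_c0 LD2_c43 LD3_c3) (LK LD1_c1 LD2_c33 LD3_c4) Lrfl Lrfl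
theorem f26256 : Led Lsl_ct (LP (LK LD1_c0 LD2_c30 LD3_c33)) = (LP (LK LD1_c1 LD2_c6 LD3_c46)) :=
  Lre_c IH (LK LD1_c0 LD2_c30 LD3_c33) (LK LD1_c1 LD2_c6 LD3_c46) Lrfl Lrfl
theorem f26257 : Led Lsl_gt (LP (LK LD1_c1 LD2_c6 LD3_c46)) = (LP (LK LD1_c2 LD2_c19 LD3_c16)) :=
  Lre_g IH (LK LD1_c1 LD2_c6 LD3_c46) (LK LD1_c2 LD2_c19 LD3_c16) Lrfl Lrfl
theorem f124538 : Led Lsl_cf (LP (LK LD1_c1 LD2_c33 LD3_c4)) = (LP (LK LD1_c2 LD2_c19 LD3_c16)) :=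
  Lgr Lrot99 (Lpe (f23587 IH) (Lpe (f23585 IH) (Lpe (f23444 IH) (Lpe (K0.f23385 IH) (Lpe (K2.f23464 IH) (Lpr_df (f124508 IH) (Lpr_gt (K2.f79144 IH) (Lpr_ct (f26256 IH) (Lpr_gt (f26257 IH) (Lpn (LP (LK LD1_c2 LD2_c19 LD3_c16))))))))))))
theorem f124542 : Led Lsl_ct (LP (LK LD1_c1 LD2_c33 LD3_c4)) = (LP (LK LD1_c2 LD2_c19 LD3_c16)) :=
  Lgr Lrot59 (Lpr_cf (f124538 IH) (Lpn (LP (LK LD1_c2 LD2_c19 LD3_c16))))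
theorem f26255 : Led Lsl_bt (LP (LK LD1_c0 LD2_c30 LD3_c33)) = (LP (LK LD1_c0 LD2_c13 LD3_c34)) :=
  Lre_b IH (LK LD1_c0 LD2_c30 LD3_c33) (LK LD1_c0 LD2_c13 LD3_c34) Lrfl Lrfl
theorem f107265 : Led Lsl_dt (LP (LK LD1_c0 LD2_c50 LD3_c21)) = (LP (LK LD1_c1 LD2_c47 LD3_c8)) :=
  Lre_d IH (LK LD1_c0 LD2_c50 LD3_c21) (LK LD1_c1 LD2_c47 LD3_c8) Lrfl Lrfl
theorem f97576 : Led Lsl_gf (LP (LK LD1_c0 LD2_c24 LD3_c13)) = (LP (LK LD1_c0 LD2_c20 LD3_c52)) :=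
  Lgr Lrot144 (Lpr_dt (K4.f90258 IH) (Lpr_gt (K2.f12082 IH) (Lpr_dt (K1.f18058 IH) (Lpe (K1.f11445 IH) (Lpe (K1.f11453 IH) (Lpr_gf (K3.f97554 IH) (Lpe (K3.f11845 IH) (Lpe (K0.f14643 IH) (Lpe (K0.f14638 IH) (Lpn (LP (LK LD1_c0 LD2_c20 LD3_c52))))))))))))
theorem f78195 : Led Lsl_dt (LP (LK LD1_c1 LD2_c7 LD3_c46)) = (LP (LK LD1_c0 LD2_c47 LD3_c50)) :=
  Lgr Lrot27 (Lpe (K3.f78194 IH) (Lpr_gf (K3.f78162 IH) (Lpe (K0.f15040 IH) (Lpe (K1.f9784 IH) (Lpe (K1.f66582 IH) (Lpe (K2.f66825 IH) (Lpr_ct (K2.f66829 IH) (Lpe (K2.f19164 IH) (Lpr_ct (K2.f12107 IH) (Lpn (LP (LK LD1_c0 LD2_c47 LD3_c50))))))))))))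
theorem f107266 : Led Lsl_gt (LP (LK LD1_c1 LD2_c47 LD3_c8)) = (LP (LK LD1_c1 LD2_c7 LD3_c46)) :=
  Lgr Lrot49 (Lpe (f107265 IH) (Lpr_gf (K3.f107261 IH) (Lpe (K3.f98696 IH) (Lpr_gt (K3.f98705 IH) (Lpr_dt (K0.f9772 IH) (Lpe (f97576 IH) (Lpr_dt (K4.f90258 IH) (Lpe (K2.f12089 IH) (Lpe (f78195 IH) (Lpn (LP (LK LD1_c1 LD2_c7 LD3_c46))))))))))))
theorem f124561 : Led Lsl_bt (LP (LK LD1_c1 LD2_c33 LD3_c4)) = (LP (LK LD1_c1 LD2_c47 LD3_c8)) :=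
  Lgr Lrot130 (Lpr_ct (f124542 IH) (Lpe (f26257 IH) (Lpe (f26256 IH) (Lpr_bt (f26255 IH) (Lpr_gf (K0.f26049 IH) (Lpe (K3.f15032 IH) (Lpr_ct (K2.f14636 IH) (Lpe (K3.f78192 IH) (Lpe (K3.f78161 IH) (Lpe (f107266 IH) (Lpn (LP (LK LD1_c1 LD2_c47 LD3_c8)))))))))))))
theorem f107268 : Led Lsl_dt (LP (LK LD1_c1 LD2_c47 LD3_c8)) = (LP (LK LD1_c0 LD2_c50 LD3_c21)) :=
  Lre_d IH (LK LD1_c1 LD2_c47 LD3_c8) (LK LD1_c0 LD2_c50 LD3_c21) Lrfl Lrfl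
theorem f124567 : Led Lsl_bf (LP (LK LD1_c0 LD2_c43 LD3_c3)) = (LP (LK LD1_c0 LD2_c50 LD3_c21)) :=
  Lgr Lrot93 (Lpr_dt (f23587 IH) (Lpr_bt (f124561 IH) (Lpr_dt (f107268 IH) (Lpn (LP (LK LD1_c0 LD2_c50 LD3_c21))))))
theorem f95913 : Led Lsl_ct (LP (LK LD1_c0 LD2_c50 LD3_c21)) = (LP (LK LD1_c0 LD2_c22 LD3_c45)) :=
  Lre_c IH (LK LD1_c0 LD2_c50 LD3_c21) (LK LD1_c0 LD2_c22 LD3_c45) Lrfl Lrfl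
theorem f85179 : Led Lsl_ft (LP (LK LD1_c0 LD2_c23 LD3_c21)) = (LP (LK LD1_c0 LD2_c10 LD3_c29)) :=
  Lre_f IH (LK LD1_c0 LD2_c23 LD3_c21) (LK LD1_c0 LD2_c10 LD3_c29) Lrfl Lrfl
theorem f107276 : Led Lsl_gt (LP (LK LD1_c0 LD2_c22 LD3_c45)) = (LP (LK LD1_c0 LD2_c23 LD3_c18)) :=
  Lgr Lrot46 (Lpr_gf (K3.f107274 IH) (Lpr_ft (f85179 IH) (Lpr_at (K2.f5796 IH) (Lpn (LP (LK LD1_c0 LD2_c23 LD3_c18))))))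
theorem f95283 : Led Lsl_bt (LP (LK LD1_c0 LD2_c20 LD3_c14)) = (LP (LK LD1_c0 LD2_c23 LD3_c16)) :=
  Lgr Lrot35 (Lpr_ff (K2.f95255 IH) (Lpe (K2.f23348 IH) (Lpe (K3.f85146 IH) (Lpn (LP (LK LD1_c0 LD2_c23 LD3_c16))))))
theorem f124576 : Led Lsl_gf (LP (LK LD1_c0 LD2_c43 LD3_c3)) = (LP (LK LD1_c0 LD2_c19 LD3_c38)) :=
  Lgr Lrot124 (Lpr_bf (f124567 IH) (Lpr_ct (f95913 IH) (Lpr_gt (f107276 IH) (Lpe (K2.f94662 IH) (Lpr_bt (f95283 IH) (Lpe (K3.f95739 IH) (Lpr_ct (K2.f23459 IH) (Lpr_gt (K0.f23662 IH) (Lpe (K2.f62963 IH) (Lpr_bt (K3.f79277 IH) (Lpn (LP (LK LD1_c0 LD2_c19 LD3_c38)))))))))))))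
theorem f23594 : Led Lsl_ct (LP (LK LD1_c0 LD2_c43 LD3_c3)) = (LP (LK LD1_c0 LD2_c19 LD3_c10)) :=
  Lre_c IH (LK LD1_c0 LD2_c43 LD3_c3) (LK LD1_c0 LD2_c19 LD3_c10) Lrfl Lrfl
theorem f82382 : Led Lsl_bt (LP (LK LD1_c0 LD2_c19 LD3_c5)) = (LP (LK LD1_c0 LD2_c30 LD3_c40)) :=
  Lgr Lrot35 (Lpe (K2.f82310 IH) (Lpr_bf (K4.f82259 IH) (Lpr_ff (K2.f82315 IH) (Lpn (LP (LK LD1_c0 LD2_c30 LD3_c40))))))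
theorem f124580 : Led Lsl_gt (LP (LK LD1_c0 LD2_c19 LD3_c10)) = (LP (LK LD1_c0 LD2_c30 LD3_c40)) :=
  Lgr Lrot149 (Lpe (f23594 IH) (Lpr_gf (f124576 IH) (Lpe (K3.f79277 IH) (Lpr_ct (K2.f62963 IH) (Lpe (K0.f23662 IH) (Lpe (K2.f23459 IH) (Lpr_bt (K0.f23458 IH) (Lpr_gf (K2.f82384 IH) (Lpe (f82382 IH) (Lpe (K2.f26140 IH) (Lpn (LP (LK LD1_c0 LD2_c30 LD3_c40)))))))))))))
theorem f102372 : Led Lsl_cf (LP (LK LD1_c0 LD2_c20 LD3_c43)) = (LP (LK LD1_c0 LD2_c30 LD3_c59)) :=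
  Lgr Lrot108 (Lpr_ft (K3.f94264 IH) (Lpr_ct (K2.f9807 IH) (Lpr_ft (K3.f102368 IH) (Lpn (LP (LK LD1_c0 LD2_c30 LD3_c59))))))
theorem f13514 : Led Lsl_bt (LP (LK LD1_c0 LD2_c20 LD3_c18)) = (LP (LK LD1_c0 LD2_c9 LD3_c10)) :=
  Lre_b IH (LK LD1_c0 LD2_c20 LD3_c18) (LK LD1_c0 LD2_c9 LD3_c10) Lrfl Lrfl
theorem f27188 : Led Lsl_gt (LP (LK LD1_c0 LD2_c9 LD3_c10)) = (LP (LK LD1_c0 LD2_c6 LD3_c14)) :=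
  Lgr Lrot150 (Lpe (K0.f13479 IH) (Lpe (K0.f20866 IH) (Lpr_df (K0.f3845 IH) (Lpr_gt (K0.f9642 IH) (Lpe (K0.f104 IH) (Lpr_gt (K0.f27186 IH) (Lpr_ct (K0.f20610 IH) (Lpr_df (K0.f23303 IH) (Lpe (K0.f23435 IH) (Lpn (LP (LK LD1_c0 LD2_c6 LD3_c14))))))))))))
theorem f107272 : Led Lsl_bf (LP (LK LD1_c0 LD2_c50 LD3_c21)) = (LP (LK LD1_c0 LD2_c43 LD3_c3)) :=
  Lgr Lrot165 (Lpr_gt (K3.f107263 IH) (Lpe (f102372 IH) (Lpe (K4.f104125 IH) (Lpe (K0.f11878 IH) (Lpr_bt (f13514 IH) (Lpr_gt (f27188 IH) (Lpe (K0.f20875 IH) (Lpr_ct (K0.f23385 IH) (Lpr_gt (f23444 IH) (Lpe (f23594 IH) (Lpn (LP (LK LD1_c0 LD2_c43 LD3_c3)))))))))))))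
theorem f98826 : Led Lsl_bf (LP (LK LD1_c0 LD2_c46 LD3_c13)) = (LP (LK LD1_c0 LD2_c43 LD3_c60)) :=
  Lgr Lrot24 (Lpr_bt (K3.f98709 IH) (Lpn (LP (LK LD1_c0 LD2_c43 LD3_c60))))
theorem f124584 : Led Lsl_gf (LP (LK LD1_c0 LD2_c19 LD3_c38)) = (LP (LK LD1_c0 LD2_c43 LD3_c5)) :=
  Lgr Lrot129 (Lpe (K3.f24392 IH) (Lpe (f98826 IH) (Lpe (K3.f107261 IH) (Lpr_bf (f107272 IH) (Lpr_ct (f23594 IH) (Lpr_gt (f124580 IH) (Lpr_cf (K2.f26140 IH) (Lpr_bt (f82382 IH) (Lpe (K2.f82384 IH) (Lpr_ct (K0.f23597 IH) (Lpn (LP (LK LD1_c0 LD2_c43 LD3_c5)))))))))))))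
theorem f91435 : Led Lsl_dt (LP (LK LD1_c0 LD2_c19 LD3_c4)) = (LP (LK LD1_c0 LD2_c41 LD3_c37)) :=
  Lgr Lrot6 (Lpr_gt (K3.f26088 IH) (Lpe (K2.f26068 IH) (Lpr_gt (K3.f26084 IH) (Lpr_ct (K3.f26090 IH) (Lpe (K3.f26092 IH) (Lpr_cf (K3.f91414 IH) (Lpe (K3.f61831 IH) (Lpe (K3.f58915 IH) (Lpe (K3.f61883 IH) (Lpn (LP (LK LD1_c0 LD2_c41 LD3_c37))))))))))))
theorem f98842 : Led Lsl_gt (LP (LK LD1_c1 LD2_c30 LD3_c0)) = (LP (LK LD1_c2 LD2_c17 LD3_c8)) :=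
  Lgr Lrot9 (Lpe (K3.f91444 IH) (Lpr_gt (K3.f98832 IH) (Lpr_ct (K3.f78006 IH) (Lpr_gt (K2.f13798 IH) (Lpr_ct (K0.f13701 IH) (Lpe (K0.f13773 IH) (Lpe (K0.f13774 IH) (Lpe (K3.f13811 IH) (Lpr_cf (K3.f78053 IH) (Lpn (LP (LK LD1_c2 LD2_c17 LD3_c8))))))))))))
theorem f89459 : Led Lsl_ct (LP (LK LD1_c0 LD2_c41 LD3_c37)) = (LP (LK LD1_c1 LD2_c30 LD3_c1)) :=
  Lre_c IH (LK LD1_c0 LD2_c41 LD3_c37) (LK LD1_c1 LD2_c30 LD3_c1) Lrfl Lrfl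
theorem f13805 : Led Lsl_bt (LP (LK LD1_c1 LD2_c7 LD3_c27)) = (LP (LK LD1_c0 LD2_c43 LD3_c45)) :=
  Lre_b IH (LK LD1_c1 LD2_c7 LD3_c27) (LK LD1_c0 LD2_c43 LD3_c45) Lrfl Lrfl
theorem f98851 : Led Lsl_gf (LP (LK LD1_c1 LD2_c30 LD3_c1)) = (LP (LK LD1_c1 LD2_c35 LD3_c9)) :=
  Lgr Lrot126 (Lpe (f89459 IH) (Lpr_bt (K4.f91478 IH) (Lpr_gt (f98842 IH) (Lpe (K3.f78053 IH) (Lpr_gt (K3.f13811 IH) (Lpe (K0.f13771 IH) (Lpr_bt (f13805 IH) (Lpr_gt (K3.f13806 IH) (Lpe (K1.f61876 IH) (Lpr_ct (K1.f61877 IH) (Lpn (LP (LK LD1_c1 LD2_c35 LD3_c9)))))))))))))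
theorem f23602 : Led Lsl_dt (LP (LK LD1_c1 LD2_c33 LD3_c5)) = (LP (LK LD1_c0 LD2_c43 LD3_c5)) :=
  Lre_d IH (LK LD1_c1 LD2_c33 LD3_c5) (LK LD1_c0 LD2_c43 LD3_c5) Lrfl Lrfl
theorem f124588 : Led Lsl_gf (LP (LK LD1_c0 LD2_c44 LD3_c14)) = (LP (LK LD1_c1 LD2_c33 LD3_c5)) :=
  Lgr Lrot147 (Lpr_ct (K1.f61877 IH) (Lpe (f98851 IH) (Lpr_ct (K3.f89460 IH) (Lpe (f91435 IH) (Lpe (K3.f26089 IH) (Lpr_gf (K3.f98830 IH) (Lpe (K3.f79288 IH) (Lpr_gf (f124584 IH) (Lpe (f23602 IH) (Lpn (LP (LK LD1_c1 LD2_c33 LD3_c5))))))))))))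
theorem f23603 : Led Lsl_bt (LP (LK LD1_c0 LD2_c43 LD3_c17)) = (LP (LK LD1_c1 LD2_c33 LD3_c5)) :=
  Lgr Lrot95 (Lpe (K4.f23601 IH) (Lpr_bf (K0.f23590 IH) (Lpe (f23602 IH) (Lpn (LP (LK LD1_c1 LD2_c33 LD3_c5))))))
theorem f23618 : Led Lsl_gt (LP (LK LD1_c3 LD2_c13 LD3_c34)) = (LP (LK LD1_c1 LD2_c33 LD3_c21)) :=
  Lre_g IH (LK LD1_c3 LD2_c13 LD3_c34) (LK LD1_c1 LD2_c33 LD3_c21) Lrfl Lrfl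
theorem f124592 : Led Lsl_ct (LP (LK LD1_c1 LD2_c48 LD3_c0)) = (LP (LK LD1_c3 LD2_c13 LD3_c34)) :=
  Lgr Lrot64 (Lpe (K4.f114985 IH) (Lpe (f98842 IH) (Lpe (K4.f91478 IH) (Lpr_ct (f89459 IH) (Lpr_gf (f98851 IH) (Lpe (K1.f61877 IH) (Lpr_gf (f124588 IH) (Lpe (f23603 IH) (Lpr_ct (K4.f23616 IH) (Lpe (f23618 IH) (Lpn (LP (LK LD1_c3 LD2_c13 LD3_c34)))))))))))))
theorem f124610 : Led Lsl_gt (LP (LK LD1_c1 LD2_c33 LD3_c26)) = (LP (LK LD1_c3 LD2_c13 LD3_c34)) :=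
  Lgr Lrot65 (Lpe (K4.f23693 IH) (Lpr_bt (K4.f94024 IH) (Lpr_gf (K3.f93999 IH) (Lpe (K3.f91313 IH) (Lpr_ct (K3.f61886 IH) (Lpr_gf (K3.f103169 IH) (Lpe (K3.f23537 IH) (Lpe (K3.f103115 IH) (Lpr_bf (K4.f114985 IH) (Lpr_ct (f124592 IH) (Lpn (LP (LK LD1_c3 LD2_c13 LD3_c34)))))))))))))
theorem f12573 : Led Lsl_ct (LP (LK LD1_c3 LD2_c39 LD3_c56)) = (LP (LK LD1_c1 LD2_c46 LD3_c57)) :=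
  Lre_c IH (LK LD1_c3 LD2_c39 LD3_c56) (LK LD1_c1 LD2_c46 LD3_c57) Lrfl Lrfl
theorem f124100 : Led Lsl_ff (LP (LK LD1_c3 LD2_c39 LD3_c56)) = (LP (LK LD1_c3 LD2_c13 LD3_c33)) :=
  Lgr Lrot23 (Lpr_ct (f12573 IH) (Lpr_ft (K4.f114964 IH) (Lpr_ct (K4.f124071 IH) (Lpn (LP (LK LD1_c3 LD2_c13 LD3_c33))))))
theorem f124612 : Led Lsl_at (LP (LK LD1_c3 LD2_c39 LD3_c56)) = (LP (LK LD1_c3 LD2_c13 LD3_c34)) :=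
  Lgr Lrot26 (Lpr_ff (f124100 IH) (Lpe (K4.f124103 IH) (Lpr_gt (f124610 IH) (Lpn (LP (LK LD1_c3 LD2_c13 LD3_c34))))))
theorem f124226 : Led Lsl_et (LP (LK LD1_c7 LD2_c20 LD3_c2)) = (LP (LK LD1_c3 LD2_c39 LD3_c56)) :=
  Lre_e IH (LK LD1_c7 LD2_c20 LD3_c2) (LK LD1_c3 LD2_c39 LD3_c56) Lrfl Lrfl
theorem f124601 : Led Lsl_et (LP (LK LD1_c3 LD2_c13 LD3_c34)) = (LP (LK LD1_c6 LD2_c30 LD3_c49)) :=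
  Lre_e IH (LK LD1_c3 LD2_c13 LD3_c34) (LK LD1_c6 LD2_c30 LD3_c49) Lrfl Lrfl
theorem f124622 : Led Lsl_af (LP (LK LD1_c7 LD2_c20 LD3_c2)) = (LP (LK LD1_c6 LD2_c30 LD3_c49)) :=
  Lgr Lrot50 (Lpr_et (f124226 IH) (Lpr_at (f124612 IH) (Lpr_et (f124601 IH) (Lpn (LP (LK LD1_c6 LD2_c30 LD3_c49))))))
theorem f115016 : Led Lsl_ct (LP (LK LD1_c7 LD2_c20 LD3_c2)) = (LP (LK LD1_c3 LD2_c39 LD3_c57)) :=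
  Lre_c IH (LK LD1_c7 LD2_c20 LD3_c2) (LK LD1_c3 LD2_c39 LD3_c57) Lrfl Lrfl
theorem f79046 : Led Lsl_et (LP (LK LD1_c3 LD2_c6 LD3_c21)) = (LP (LK LD1_c1 LD2_c29 LD3_c16)) :=
  Lre_e IH (LK LD1_c3 LD2_c6 LD3_c21) (LK LD1_c1 LD2_c29 LD3_c16) Lrfl Lrfl
theorem f114970 : Led Lsl_et (LP (LK LD1_c1 LD2_c46 LD3_c57)) = (LP (LK LD1_c3 LD2_c39 LD3_c57)) :=
  Lre_e IH (LK LD1_c1 LD2_c46 LD3_c57) (LK LD1_c3 LD2_c39 LD3_c57) Lrfl Lrfl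
theorem f115004 : Led Lsl_bf (LP (LK LD1_c3 LD2_c6 LD3_c21)) = (LP (LK LD1_c3 LD2_c39 LD3_c57)) :=
  Lgr Lrot96 (Lpr_et (f79046 IH) (Lpr_bt (K4.f114987 IH) (Lpr_et (f114970 IH) (Lpn (LP (LK LD1_c3 LD2_c39 LD3_c57))))))
theorem f12580 : Led Lsl_et (LP (LK LD1_c3 LD2_c39 LD3_c57)) = (LP (LK LD1_c1 LD2_c46 LD3_c57)) :=
  Lre_e IH (LK LD1_c3 LD2_c39 LD3_c57) (LK LD1_c1 LD2_c46 LD3_c57) Lrfl Lrfl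
theorem f114975 : Led Lsl_et (LP (LK LD1_c1 LD2_c48 LD3_c0)) = (LP (LK LD1_c3 LD2_c42 LD3_c3)) :=
  Lre_e IH (LK LD1_c1 LD2_c48 LD3_c0) (LK LD1_c3 LD2_c42 LD3_c3) Lrfl Lrfl
theorem f114976 : Led Lsl_af (LP (LK LD1_c3 LD2_c39 LD3_c57)) = (LP (LK LD1_c3 LD2_c42 LD3_c3)) :=
  Lgr Lrot50 (Lpr_et (f12580 IH) (Lpr_at (K4.f114971 IH) (Lpr_et (f114975 IH) (Lpn (LP (LK LD1_c3 LD2_c42 LD3_c3))))))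
theorem f77807 : Led Lsl_et (LP (LK LD1_c2 LD2_c17 LD3_c8)) = (LP (LK LD1_c4 LD2_c40 LD3_c10)) :=
  Lre_e IH (LK LD1_c2 LD2_c17 LD3_c8) (LK LD1_c4 LD2_c40 LD3_c10) Lrfl Lrfl
theorem f114982 : Led Lsl_et (LP (LK LD1_c3 LD2_c42 LD3_c3)) = (LP (LK LD1_c1 LD2_c48 LD3_c0)) :=
  Lre_e IH (LK LD1_c3 LD2_c42 LD3_c3) (LK LD1_c1 LD2_c48 LD3_c0) Lrfl Lrfl
theorem f114991 : Led Lsl_bt (LP (LK LD1_c4 LD2_c40 LD3_c10)) = (LP (LK LD1_c3 LD2_c42 LD3_c3)) :=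
  Lgr Lrot119 (Lpe (f77807 IH) (Lpr_bf (K4.f114985 IH) (Lpe (f114982 IH) (Lpn (LP (LK LD1_c3 LD2_c42 LD3_c3))))))
theorem f115012 : Led Lsl_at (LP (LK LD1_c6 LD2_c17 LD3_c17)) = (LP (LK LD1_c4 LD2_c40 LD3_c10)) :=
  Lgr Lrot67 (Lpe (K4.f99208 IH) (Lpr_af (K4.f114802 IH) (Lpr_bf (f115004 IH) (Lpr_af (f114976 IH) (Lpe (f114991 IH) (Lpn (LP (LK LD1_c4 LD2_c40 LD3_c10))))))))
theorem f115020 : Led Lsl_af (LP (LK LD1_c6 LD2_c17 LD3_c17)) = (LP (LK LD1_c4 LD2_c40 LD3_c10)) :=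
  Lgr Lrot0 (Lpr_at (f115012 IH) (Lpn (LP (LK LD1_c4 LD2_c40 LD3_c10))))
theorem f99210 : Led Lsl_bf (LP (LK LD1_c3 LD2_c22 LD3_c37)) = (LP (LK LD1_c6 LD2_c17 LD3_c17)) :=
  Lgr Lrot24 (Lpr_bt (K4.f99208 IH) (Lpn (LP (LK LD1_c6 LD2_c17 LD3_c17))))
theorem f114806 : Led Lsl_at (LP (LK LD1_c3 LD2_c22 LD3_c37)) = (LP (LK LD1_c3 LD2_c6 LD3_c21)) :=
  Lgr Lrot100 (Lpr_af (K4.f114802 IH) (Lpn (LP (LK LD1_c3 LD2_c6 LD3_c21))))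
theorem f115014 : Led Lsl_bt (LP (LK LD1_c3 LD2_c6 LD3_c21)) = (LP (LK LD1_c3 LD2_c39 LD3_c57)) :=
  Lgr Lrot127 (Lpr_bf (f115004 IH) (Lpn (LP (LK LD1_c3 LD2_c39 LD3_c57))))
theorem f114993 : Led Lsl_bf (LP (LK LD1_c4 LD2_c40 LD3_c10)) = (LP (LK LD1_c3 LD2_c42 LD3_c3)) :=
  Lgr Lrot24 (Lpr_bt (f114991 IH) (Lpn (LP (LK LD1_c3 LD2_c42 LD3_c3))))
theorem f115059 : Led Lsl_at (LP (LK LD1_c3 LD2_c39 LD3_c57)) = (LP (LK LD1_c3 LD2_c42 LD3_c3)) :=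
  Lgr Lrot67 (Lpe (f115014 IH) (Lpe (f114806 IH) (Lpr_bf (f99210 IH) (Lpr_af (f115020 IH) (Lpr_bf (f114993 IH) (Lpn (LP (LK LD1_c3 LD2_c42 LD3_c3))))))))
theorem f124657 : Led Lsl_ct (LP (LK LD1_c3 LD2_c42 LD3_c3)) = (LP (LK LD1_c6 LD2_c30 LD3_c49)) :=
  Lgr Lrot111 (Lpe (f115059 IH) (Lpe (f115016 IH) (Lpr_af (f124622 IH) (Lpn (LP (LK LD1_c6 LD2_c30 LD3_c49))))))
theorem f78055 : Led Lsl_et (LP (LK LD1_c2 LD2_c21 LD3_c10)) = (LP (LK LD1_c1 LD2_c7 LD3_c52)) :=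
  Lre_e IH (LK LD1_c2 LD2_c21 LD3_c10) (LK LD1_c1 LD2_c7 LD3_c52) Lrfl Lrfl
theorem f78056 : Led Lsl_cf (LP (LK LD1_c2 LD2_c21 LD3_c10)) = (LP (LK LD1_c4 LD2_c40 LD3_c10)) :=
  Lgr Lrot39 (Lpr_et (f78055 IH) (Lpr_ct (K3.f78007 IH) (Lpr_et (f77807 IH) (Lpn (LP (LK LD1_c4 LD2_c40 LD3_c10))))))
theorem f78071 : Led Lsl_ct (LP (LK LD1_c2 LD2_c21 LD3_c10)) = (LP (LK LD1_c4 LD2_c40 LD3_c10)) :=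
  Lgr Lrot59 (Lpr_cf (f78056 IH) (Lpn (LP (LK LD1_c4 LD2_c40 LD3_c10))))
theorem f78080 : Led Lsl_bt (LP (LK LD1_c4 LD2_c46 LD3_c20)) = (LP (LK LD1_c2 LD2_c21 LD3_c10)) :=
  Lre_b IH (LK LD1_c4 LD2_c46 LD3_c20) (LK LD1_c2 LD2_c21 LD3_c10) Lrfl Lrfl
theorem f78081 : Led Lsl_ct (LP (LK LD1_c9 LD2_c25 LD3_c15)) = (LP (LK LD1_c4 LD2_c46 LD3_c20)) :=
  Lre_c IH (LK LD1_c9 LD2_c25 LD3_c15) (LK LD1_c4 LD2_c46 LD3_c20) Lrfl Lrfl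
theorem f124659 : Led Lsl_bf (LP (LK LD1_c9 LD2_c25 LD3_c15)) = (LP (LK LD1_c6 LD2_c30 LD3_c49)) :=
  Lgr Lrot90 (Lpr_ct (f78081 IH) (Lpr_bt (f78080 IH) (Lpr_ct (f78071 IH) (Lpr_bt (f114991 IH) (Lpr_ct (f124657 IH) (Lpn (LP (LK LD1_c6 LD2_c30 LD3_c49))))))))
theorem f124663 : Led Lsl_et (LP (LK LD1_c9 LD2_c25 LD3_c15)) = (LP (LK LD1_c4 LD2_c46 LD3_c18)) :=
  Lre_e IH (LK LD1_c9 LD2_c25 LD3_c15) (LK LD1_c4 LD2_c46 LD3_c18) Lrfl Lrfl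
theorem f124664 : Led Lsl_bt (LP (LK LD1_c4 LD2_c46 LD3_c18)) = (LP (LK LD1_c3 LD2_c13 LD3_c34)) :=
  Lgr Lrot119 (Lpe (f124663 IH) (Lpr_bf (f124659 IH) (Lpe (f124601 IH) (Lpn (LP (LK LD1_c3 LD2_c13 LD3_c34))))))
theorem f66561 : Led Lsl_ct (LP (LK LD1_c3 LD2_c39 LD3_c55)) = (LP (LK LD1_c1 LD2_c46 LD3_c56)) :=
  Lre_c IH (LK LD1_c3 LD2_c39 LD3_c55) (LK LD1_c1 LD2_c46 LD3_c56) Lrfl Lrfl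
theorem f124604 : Led Lsl_ff (LP (LK LD1_c3 LD2_c39 LD3_c55)) = (LP (LK LD1_c3 LD2_c13 LD3_c34)) :=
  Lgr Lrot23 (Lpr_ct (f66561 IH) (Lpr_ft (K4.f114983 IH) (Lpr_ct (f124592 IH) (Lpn (LP (LK LD1_c3 LD2_c13 LD3_c34))))))
theorem f66562 : Led Lsl_bt (LP (LK LD1_c3 LD2_c39 LD3_c55)) = (LP (LK LD1_c7 LD2_c20 LD3_c0)) :=
  Lre_b IH (LK LD1_c3 LD2_c39 LD3_c55) (LK LD1_c7 LD2_c20 LD3_c0) Lrfl Lrfl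
theorem f124671 : Led Lsl_ff (LP (LK LD1_c4 LD2_c46 LD3_c18)) = (LP (LK LD1_c7 LD2_c20 LD3_c0)) :=
  Lgr Lrot25 (Lpr_bt (f124664 IH) (Lpe (f124604 IH) (Lpr_bt (f66562 IH) (Lpn (LP (LK LD1_c7 LD2_c20 LD3_c0))))))
theorem f124676 : Led Lsl_ft (LP (LK LD1_c4 LD2_c46 LD3_c18)) = (LP (LK LD1_c7 LD2_c20 LD3_c0)) :=
  Lgr Lrot48 (Lpr_ff (f124671 IH) (Lpn (LP (LK LD1_c7 LD2_c20 LD3_c0))))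
theorem f114980 : Led Lsl_bt (LP (LK LD1_c2 LD2_c17 LD3_c8)) = (LP (LK LD1_c1 LD2_c48 LD3_c0)) :=
  Lgr Lrot35 (Lpe (K4.f113824 IH) (Lpe (K4.f102252 IH) (Lpr_ff (K4.f114978 IH) (Lpn (LP (LK LD1_c1 LD2_c48 LD3_c0))))))
theorem f78051 : Led Lsl_bt (LP (LK LD1_c2 LD2_c21 LD3_c8)) = (LP (LK LD1_c1 LD2_c7 LD3_c52)) :=
  Lre_b IH (LK LD1_c2 LD2_c21 LD3_c8) (LK LD1_c1 LD2_c7 LD3_c52) Lrfl Lrfl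
theorem f78052 : Led Lsl_ct (LP (LK LD1_c4 LD2_c46 LD3_c18)) = (LP (LK LD1_c2 LD2_c21 LD3_c8)) :=
  Lre_c IH (LK LD1_c4 LD2_c46 LD3_c18) (LK LD1_c2 LD2_c21 LD3_c8) Lrfl Lrfl
theorem f124596 : Led Lsl_bf (LP (LK LD1_c4 LD2_c46 LD3_c18)) = (LP (LK LD1_c3 LD2_c13 LD3_c34)) :=
  Lgr Lrot90 (Lpr_ct (f78052 IH) (Lpr_bt (f78051 IH) (Lpr_ct (K3.f78007 IH) (Lpr_bt (f114980 IH) (Lpr_ct (f124592 IH) (Lpn (LP (LK LD1_c3 LD2_c13 LD3_c34))))))))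
theorem f102263 : Led Lsl_bt (LP (LK LD1_c7 LD2_c20 LD3_c0)) = (LP (LK LD1_c3 LD2_c39 LD3_c55)) :=
  Lre_b IH (LK LD1_c7 LD2_c20 LD3_c0) (LK LD1_c3 LD2_c39 LD3_c55) Lrfl Lrfl
theorem f124678 : Led Lsl_ff (LP (LK LD1_c3 LD2_c13 LD3_c34)) = (LP (LK LD1_c3 LD2_c39 LD3_c55)) :=
  Lgr Lrot25 (Lpe (f124596 IH) (Lpr_ft (f124676 IH) (Lpr_bt (f102263 IH) (Lpn (LP (LK LD1_c3 LD2_c39 LD3_c55))))))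
theorem f124594 : Led Lsl_af (LP (LK LD1_c3 LD2_c39 LD3_c56)) = (LP (LK LD1_c3 LD2_c13 LD3_c34)) :=
  Lgr Lrot68 (Lpr_ct (f12573 IH) (Lpr_at (K4.f114971 IH) (Lpr_ct (f124592 IH) (Lpn (LP (LK LD1_c3 LD2_c13 LD3_c34))))))
theorem f124089 : Led Lsl_af (LP (LK LD1_c3 LD2_c39 LD3_c55)) = (LP (LK LD1_c3 LD2_c13 LD3_c33)) :=
  Lgr Lrot68 (Lpr_ct (f66561 IH) (Lpr_at (K4.f114962 IH) (Lpr_ct (K4.f124071 IH) (Lpn (LP (LK LD1_c3 LD2_c13 LD3_c33))))))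
theorem f124681 : Led Lsl_ft (LP (LK LD1_c3 LD2_c39 LD3_c56)) = (LP (LK LD1_c3 LD2_c13 LD3_c33)) :=
  Lgr Lrot101 (Lpr_af (f124594 IH) (Lpr_ff (f124678 IH) (Lpr_af (f124089 IH) (Lpn (LP (LK LD1_c3 LD2_c13 LD3_c33))))))
theorem f124685 : Led Lsl_gt (LP (LK LD1_c1 LD2_c48 LD3_c36)) = (LP (LK LD1_c3 LD2_c39 LD3_c55)) :=
  Lgr Lrot46 (Lpr_gf (K4.f124220 IH) (Lpr_ft (f124681 IH) (Lpe (f124089 IH) (Lpn (LP (LK LD1_c3 LD2_c39 LD3_c55))))))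
theorem f107570 : Led Lsl_ct (LP (LK LD1_c0 LD2_c51 LD3_c4)) = (LP (LK LD1_c1 LD2_c48 LD3_c36)) :=
  Lre_c IH (LK LD1_c0 LD2_c51 LD3_c4) (LK LD1_c1 LD2_c48 LD3_c36) Lrfl Lrfl
theorem f108891 : Led Lsl_bt (LP (LK LD1_c0 LD2_c51 LD3_c4)) = (LP (LK LD1_c1 LD2_c48 LD3_c34)) :=
  Lre_b IH (LK LD1_c0 LD2_c51 LD3_c4) (LK LD1_c1 LD2_c48 LD3_c34) Lrfl Lrfl
theorem f78241 : Led Lsl_bt (LP (LK LD1_c0 LD2_c31 LD3_c6)) = (LP (LK LD1_c1 LD2_c7 LD3_c46)) :=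
  Lre_b IH (LK LD1_c0 LD2_c31 LD3_c6) (LK LD1_c1 LD2_c7 LD3_c46) Lrfl Lrfl
theorem f124687 : Led Lsl_gf (LP (LK LD1_c1 LD2_c48 LD3_c34)) = (LP (LK LD1_c1 LD2_c7 LD3_c46)) :=
  Lgr Lrot124 (Lpe (f108891 IH) (Lpr_ct (f107570 IH) (Lpr_gt (f124685 IH) (Lpe (K4.f12564 IH) (Lpr_bt (K4.f102252 IH) (Lpe (K4.f110354 IH) (Lpr_ct (K3.f107509 IH) (Lpr_gt (K3.f13804 IH) (Lpe (K3.f78242 IH) (Lpr_bt (f78241 IH) (Lpn (LP (LK LD1_c1 LD2_c7 LD3_c46)))))))))))))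
theorem f97365 : Led Lsl_dt (LP (LK LD1_c0 LD2_c51 LD3_c3)) = (LP (LK LD1_c1 LD2_c48 LD3_c34)) :=
  Lre_d IH (LK LD1_c0 LD2_c51 LD3_c3) (LK LD1_c1 LD2_c48 LD3_c34) Lrfl Lrfl
theorem f105949 : Led Lsl_et (LP (LK LD1_c0 LD2_c51 LD3_c3)) = (LP (LK LD1_c1 LD2_c48 LD3_c35)) :=
  Lre_e IH (LK LD1_c0 LD2_c51 LD3_c3) (LK LD1_c1 LD2_c48 LD3_c35) Lrfl Lrfl
theorem f107269 : Led Lsl_gf (LP (LK LD1_c1 LD2_c47 LD3_c8)) = (LP (LK LD1_c1 LD2_c42 LD3_c31)) :=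
  Lgr Lrot144 (Lpr_dt (f107268 IH) (Lpr_gt (K3.f107263 IH) (Lpr_dt (K3.f102317 IH) (Lpe (K3.f102339 IH) (Lpe (K4.f102337 IH) (Lpe (K3.f15024 IH) (Lpr_df (K0.f15020 IH) (Lpe (K4.f15045 IH) (Lpr_cf (K3.f90247 IH) (Lpn (LP (LK LD1_c1 LD2_c42 LD3_c31))))))))))))
theorem f16666 : Led Lsl_gt (LP (LK LD1_c0 LD2_c8 LD3_c30)) = (LP (LK LD1_c0 LD2_c18 LD3_c54)) :=
  Lre_g IH (LK LD1_c0 LD2_c8 LD3_c30) (LK LD1_c0 LD2_c18 LD3_c54) Lrfl Lrfl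
theorem f82404 : Led Lsl_ct (LP (LK LD1_c0 LD2_c42 LD3_c19)) = (LP (LK LD1_c0 LD2_c18 LD3_c54)) :=
  Lre_c IH (LK LD1_c0 LD2_c42 LD3_c19) (LK LD1_c0 LD2_c18 LD3_c54) Lrfl Lrfl
theorem f82405 : Led Lsl_bt (LP (LK LD1_c0 LD2_c42 LD3_c19)) = (LP (LK LD1_c1 LD2_c31 LD3_c34)) :=
  Lre_b IH (LK LD1_c0 LD2_c42 LD3_c19) (LK LD1_c1 LD2_c31 LD3_c34) Lrfl Lrfl
theorem f82406 : Led Lsl_gt (LP (LK LD1_c1 LD2_c31 LD3_c34)) = (LP (LK LD1_c0 LD2_c47 LD3_c50)) :=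
  Lgr Lrot164 (Lpe (f82405 IH) (Lpr_ct (f82404 IH) (Lpe (f16666 IH) (Lpr_cf (K2.f82388 IH) (Lpe (K3.f61637 IH) (Lpe (K3.f61638 IH) (Lpe (K3.f61639 IH) (Lpe (K3.f61635 IH) (Lpe (K2.f13669 IH) (Lpr_bt (K3.f66757 IH) (Lpn (LP (LK LD1_c0 LD2_c47 LD3_c50)))))))))))))
theorem f124691 : Led Lsl_et (LP (LK LD1_c0 LD2_c50 LD3_c21)) = (LP (LK LD1_c1 LD2_c31 LD3_c34)) :=
  Lgr Lrot121 (Lpr_dt (f107265 IH) (Lpr_gf (f107269 IH) (Lpe (K3.f17658 IH) (Lpe (K4.f90275 IH) (Lpr_gf (K4.f105942 IH) (Lpe (f105949 IH) (Lpr_dt (f97365 IH) (Lpr_gf (f124687 IH) (Lpr_df (K3.f78197 IH) (Lpe (f82406 IH) (Lpn (LP (LK LD1_c1 LD2_c31 LD3_c34)))))))))))))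
theorem f124696 : Led Lsl_ef (LP (LK LD1_c0 LD2_c50 LD3_c21)) = (LP (LK LD1_c1 LD2_c31 LD3_c34)) :=
  Lgr Lrot88 (Lpr_et (f124691 IH) (Lpn (LP (LK LD1_c1 LD2_c31 LD3_c34))))
theorem f124374 : Led Lsl_ft (LP (LK LD1_c0 LD2_c50 LD3_c21)) = (LP (LK LD1_c0 LD2_c46 LD3_c10)) :=
  Lgr Lrot4 (Lpe (K3.f12349 IH) (Lpr_ff (f124369 IH) (Lpe (f120832 IH) (Lpn (LP (LK LD1_c0 LD2_c46 LD3_c10))))))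
theorem f108852 : Led Lsl_et (LP (LK LD1_c3 LD2_c10 LD3_c56)) = (LP (LK LD1_c1 LD2_c38 LD3_c31)) :=
  Lgr Lrot87 (Lpr_ef (K4.f108836 IH) (Lpn (LP (LK LD1_c1 LD2_c38 LD3_c31))))
theorem f124703 : Led Lsl_ft (LP (LK LD1_c1 LD2_c38 LD3_c31)) = (LP (LK LD1_c1 LD2_c31 LD3_c34)) :=
  Lgr Lrot86 (Lpe (f108852 IH) (Lpe (K4.f121340 IH) (Lpe (K4.f26115 IH) (Lpe (f124374 IH) (Lpr_ef (f124696 IH) (Lpn (LP (LK LD1_c1 LD2_c31 LD3_c34))))))))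
theorem f124709 : Led Lsl_ff (LP (LK LD1_c1 LD2_c38 LD3_c31)) = (LP (LK LD1_c1 LD2_c31 LD3_c34)) :=
  Lgr Lrot3 (Lpr_ft (f124703 IH) (Lpn (LP (LK LD1_c1 LD2_c31 LD3_c34))))
theorem f26130 : Led Lsl_et (LP (LK LD1_c1 LD2_c39 LD3_c23)) = (LP (LK LD1_c0 LD2_c46 LD3_c10)) :=
  Lre_e IH (LK LD1_c1 LD2_c39 LD3_c23) (LK LD1_c0 LD2_c46 LD3_c10) Lrfl Lrfl
theorem f124713 : Led Lsl_ft (LP (LK LD1_c0 LD2_c46 LD3_c10)) = (LP (LK LD1_c0 LD2_c50 LD3_c21)) :=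
  Lgr Lrot86 (Lpe (f26130 IH) (Lpr_ff (K4.f121350 IH) (Lpr_ef (K4.f108836 IH) (Lpr_ff (f124709 IH) (Lpe (f124691 IH) (Lpn (LP (LK LD1_c0 LD2_c50 LD3_c21))))))))
theorem f124717 : Led Lsl_ff (LP (LK LD1_c1 LD2_c39 LD3_c22)) = (LP (LK LD1_c1 LD2_c47 LD3_c8)) :=
  Lgr Lrot19 (Lpr_dt (K3.f26137 IH) (Lpr_ft (f124713 IH) (Lpr_dt (f107265 IH) (Lpn (LP (LK LD1_c1 LD2_c47 LD3_c8))))))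
theorem f124725 : Led Lsl_at (LP (LK LD1_c1 LD2_c39 LD3_c22)) = (LP (LK LD1_c1 LD2_c48 LD3_c34)) :=
  Lgr Lrot26 (Lpr_ff (f124717 IH) (Lpr_gt (f107266 IH) (Lpe (f124687 IH) (Lpn (LP (LK LD1_c1 LD2_c48 LD3_c34))))))
theorem f69270 : Led Lsl_gt (LP (LK LD1_c1 LD2_c38 LD3_c0)) = (LP (LK LD1_c3 LD2_c23 LD3_c12)) :=
  Lre_g IH (LK LD1_c1 LD2_c38 LD3_c0) (LK LD1_c3 LD2_c23 LD3_c12) Lrfl Lrfl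
theorem f93262 : Led Lsl_gt (LP (LK LD1_c3 LD2_c23 LD3_c12)) = (LP (LK LD1_c1 LD2_c38 LD3_c3)) :=
  Lgr Lrot46 (Lpe (f69270 IH) (Lpr_ft (K2.f93256 IH) (Lpr_at (K2.f90305 IH) (Lpn (LP (LK LD1_c1 LD2_c38 LD3_c3))))))
theorem f124689 : Led Lsl_ct (LP (LK LD1_c1 LD2_c48 LD3_c34)) = (LP (LK LD1_c3 LD2_c23 LD3_c12)) :=
  Lgr Lrot152 (Lpr_gf (f124687 IH) (Lpr_df (K3.f78197 IH) (Lpr_gt (K2.f87515 IH) (Lpe (f84751 IH) (Lpe (K4.f92275 IH) (Lpr_ct (K2.f90180 IH) (Lpr_df (K2.f83720 IH) (Lpe (K2.f83725 IH) (Lpe (f93262 IH) (Lpn (LP (LK LD1_c3 LD2_c23 LD3_c12))))))))))))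
theorem f124731 : Led Lsl_af (LP (LK LD1_c3 LD2_c25 LD3_c29)) = (LP (LK LD1_c3 LD2_c23 LD3_c12)) :=
  Lgr Lrot68 (Lpr_ct (K4.f26134 IH) (Lpr_at (f124725 IH) (Lpr_ct (f124689 IH) (Lpn (LP (LK LD1_c3 LD2_c23 LD3_c12))))))
theorem f124738 : Led Lsl_ft (LP (LK LD1_c3 LD2_c13 LD3_c43)) = (LP (LK LD1_c3 LD2_c23 LD3_c12)) :=
  Lgr Lrot2 (Lpr_gt (K2.f93997 IH) (Lpr_gt (K3.f94931 IH) (Lpr_af (f124731 IH) (Lpn (LP (LK LD1_c3 LD2_c23 LD3_c12))))))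
theorem f124747 : Led Lsl_ff (LP (LK LD1_c3 LD2_c13 LD3_c43)) = (LP (LK LD1_c3 LD2_c23 LD3_c12)) :=
  Lgr Lrot3 (Lpr_ft (f124738 IH) (Lpn (LP (LK LD1_c3 LD2_c23 LD3_c12))))
theorem f90582 : Led Lsl_gt (LP (LK LD1_c3 LD2_c23 LD3_c13)) = (LP (LK LD1_c1 LD2_c38 LD3_c0)) :=
  Lre_g IH (LK LD1_c3 LD2_c23 LD3_c13) (LK LD1_c1 LD2_c38 LD3_c0) Lrfl Lrfl
theorem f93275 : Led Lsl_gf (LP (LK LD1_c3 LD2_c23 LD3_c13)) = (LP (LK LD1_c1 LD2_c38 LD3_c3)) :=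
  Lgr Lrot47 (Lpr_gt (f90582 IH) (Lpr_af (K2.f93258 IH) (Lpr_ff (K2.f90294 IH) (Lpn (LP (LK LD1_c1 LD2_c38 LD3_c3))))))
theorem f124753 : Led Lsl_at (LP (LK LD1_c3 LD2_c13 LD3_c43)) = (LP (LK LD1_c3 LD2_c23 LD3_c13)) :=
  Lgr Lrot26 (Lpr_ff (f124747 IH) (Lpr_gt (f93262 IH) (Lpe (f93275 IH) (Lpn (LP (LK LD1_c3 LD2_c23 LD3_c13))))))
theorem f124733 : Led Lsl_at (LP (LK LD1_c3 LD2_c25 LD3_c29)) = (LP (LK LD1_c3 LD2_c23 LD3_c12)) :=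
  Lgr Lrot100 (Lpr_af (f124731 IH) (Lpn (LP (LK LD1_c3 LD2_c23 LD3_c12))))
theorem f124758 : Led Lsl_ff (LP (LK LD1_c3 LD2_c25 LD3_c29)) = (LP (LK LD1_c3 LD2_c23 LD3_c13)) :=
  Lgr Lrot30 (Lpr_at (f124733 IH) (Lpe (f124747 IH) (Lpr_at (f124753 IH) (Lpn (LP (LK LD1_c3 LD2_c23 LD3_c13))))))
theorem f82003 : Led Lsl_bt (LP (LK LD1_c3 LD2_c7 LD3_c39)) = (LP (LK LD1_c1 LD2_c30 LD3_c3)) :=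
  Lre_b IH (LK LD1_c3 LD2_c7 LD3_c39) (LK LD1_c1 LD2_c30 LD3_c3) Lrfl Lrfl
theorem f91432 : Led Lsl_ct (LP (LK LD1_c6 LD2_c20 LD3_c10)) = (LP (LK LD1_c3 LD2_c7 LD3_c39)) :=
  Lre_c IH (LK LD1_c6 LD2_c20 LD3_c10) (LK LD1_c3 LD2_c7 LD3_c39) Lrfl Lrfl
theorem f91433 : Led Lsl_bt (LP (LK LD1_c3 LD2_c25 LD3_c29)) = (LP (LK LD1_c6 LD2_c20 LD3_c10)) :=
  Lgr Lrot128 (Lpe (K3.f26136 IH) (Lpe (K3.f26132 IH) (Lpr_cf (K3.f91414 IH) (Lpe (f82003 IH) (Lpe (f91432 IH) (Lpn (LP (LK LD1_c6 LD2_c20 LD3_c10))))))))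
theorem f91381 : Led Lsl_bt (LP (LK LD1_c6 LD2_c49 LD3_c48)) = (LP (LK LD1_c3 LD2_c23 LD3_c13)) :=
  Lre_b IH (LK LD1_c6 LD2_c49 LD3_c48) (LK LD1_c3 LD2_c23 LD3_c13) Lrfl Lrfl
theorem f124760 : Led Lsl_ft (LP (LK LD1_c6 LD2_c20 LD3_c10)) = (LP (LK LD1_c6 LD2_c49 LD3_c48)) :=
  Lgr Lrot75 (Lpe (f91433 IH) (Lpr_ff (f124758 IH) (Lpe (f91381 IH) (Lpn (LP (LK LD1_c6 LD2_c49 LD3_c48))))))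
theorem f82004 : Led Lsl_ct (LP (LK LD1_c3 LD2_c7 LD3_c39)) = (LP (LK LD1_c6 LD2_c20 LD3_c10)) :=
  Lre_c IH (LK LD1_c3 LD2_c7 LD3_c39) (LK LD1_c6 LD2_c20 LD3_c10) Lrfl Lrfl
theorem f124541 : Led Lsl_bt (LP (LK LD1_c4 LD2_c43 LD3_c10)) = (LP (LK LD1_c2 LD2_c19 LD3_c16)) :=
  Lre_b IH (LK LD1_c4 LD2_c43 LD3_c10) (LK LD1_c2 LD2_c19 LD3_c16) Lrfl Lrfl
theorem f107330 : Led Lsl_cf (LP (LK LD1_c1 LD2_c47 LD3_c8)) = (LP (LK LD1_c3 LD2_c23 LD3_c13)) :=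
  Lgr Lrot99 (Lpe (f107265 IH) (Lpe (K3.f12349 IH) (Lpr_gf (K3.f107274 IH) (Lpr_cf (K3.f107299 IH) (Lpe (K2.f9813 IH) (Lpe (K0.f9804 IH) (Lpr_gt (K2.f77319 IH) (Lpr_ct (K2.f77324 IH) (Lpe (f93275 IH) (Lpn (LP (LK LD1_c3 LD2_c23 LD3_c13))))))))))))
theorem f107332 : Led Lsl_ct (LP (LK LD1_c1 LD2_c47 LD3_c8)) = (LP (LK LD1_c3 LD2_c23 LD3_c13)) :=
  Lgr Lrot59 (Lpr_cf (f107330 IH) (Lpn (LP (LK LD1_c3 LD2_c23 LD3_c13))))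
theorem f107334 : Led Lsl_bt (LP (LK LD1_c3 LD2_c23 LD3_c13)) = (LP (LK LD1_c6 LD2_c49 LD3_c48)) :=
  Lre_b IH (LK LD1_c3 LD2_c23 LD3_c13) (LK LD1_c6 LD2_c49 LD3_c48) Lrfl Lrfl
theorem f124565 : Led Lsl_cf (LP (LK LD1_c4 LD2_c43 LD3_c10)) = (LP (LK LD1_c6 LD2_c49 LD3_c48)) :=
  Lgr Lrot97 (Lpr_bt (f124541 IH) (Lpe (f124538 IH) (Lpr_bt (f124561 IH) (Lpr_ct (f107332 IH) (Lpr_bt (f107334 IH) (Lpn (LP (LK LD1_c6 LD2_c49 LD3_c48))))))))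
theorem f124764 : Led Lsl_ff (LP (LK LD1_c3 LD2_c7 LD3_c39)) = (LP (LK LD1_c4 LD2_c43 LD3_c10)) :=
  Lgr Lrot23 (Lpr_ct (f82004 IH) (Lpr_ft (f124760 IH) (Lpe (f124565 IH) (Lpn (LP (LK LD1_c4 LD2_c43 LD3_c10))))))
theorem f124549 : Led Lsl_bt (LP (LK LD1_c2 LD2_c19 LD3_c16)) = (LP (LK LD1_c4 LD2_c43 LD3_c10)) :=
  Lre_b IH (LK LD1_c2 LD2_c19 LD3_c16) (LK LD1_c4 LD2_c43 LD3_c10) Lrfl Lrfl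
theorem f124778 : Led Lsl_ft (LP (LK LD1_c1 LD2_c30 LD3_c3)) = (LP (LK LD1_c2 LD2_c19 LD3_c16)) :=
  Lgr Lrot75 (Lpe (f82003 IH) (Lpr_ff (f124764 IH) (Lpe (f124549 IH) (Lpn (LP (LK LD1_c2 LD2_c19 LD3_c16))))))
theorem f124799 : Led Lsl_ff (LP (LK LD1_c2 LD2_c19 LD3_c37)) = (LP (LK LD1_c1 LD2_c33 LD3_c4)) :=
  Lgr Lrot23 (Lpr_ct (K3.f91310 IH) (Lpr_ft (f124778 IH) (Lpe (f124538 IH) (Lpn (LP (LK LD1_c1 LD2_c33 LD3_c4))))))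
theorem f124801 : Led Lsl_ft (LP (LK LD1_c1 LD2_c6 LD3_c57)) = (LP (LK LD1_c0 LD2_c43 LD3_c3)) :=
  Lgr Lrot54 (Lpe (K3.f26092 IH) (Lpr_ff (f124799 IH) (Lpe (f23587 IH) (Lpn (LP (LK LD1_c0 LD2_c43 LD3_c3))))))
theorem f124805 : Led Lsl_af (LP (LK LD1_c0 LD2_c51 LD3_c1)) = (LP (LK LD1_c0 LD2_c43 LD3_c3)) :=
  Lgr Lrot31 (Lpe (K3.f79321 IH) (Lpr_gf (K3.f79295 IH) (Lpr_ft (f124801 IH) (Lpn (LP (LK LD1_c0 LD2_c43 LD3_c3))))))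
theorem f124693 : Led Lsl_bt (LP (LK LD1_c1 LD2_c31 LD3_c34)) = (LP (LK LD1_c0 LD2_c42 LD3_c19)) :=
  Lre_b IH (LK LD1_c1 LD2_c31 LD3_c34) (LK LD1_c0 LD2_c42 LD3_c19) Lrfl Lrfl
theorem f124694 : Led Lsl_ef (LP (LK LD1_c0 LD2_c43 LD3_c3)) = (LP (LK LD1_c0 LD2_c42 LD3_c19)) :=
  Lgr Lrot29 (Lpe (f107272 IH) (Lpr_et (f124691 IH) (Lpr_bt (f124693 IH) (Lpn (LP (LK LD1_c0 LD2_c42 LD3_c19))))))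
theorem f124813 : Led Lsl_at (LP (LK LD1_c1 LD2_c6 LD3_c0)) = (LP (LK LD1_c0 LD2_c42 LD3_c19)) :=
  Lgr Lrot80 (Lpe (K4.f121282 IH) (Lpr_af (f124805 IH) (Lpr_ef (f124694 IH) (Lpn (LP (LK LD1_c0 LD2_c42 LD3_c19))))))
theorem f124707 : Led Lsl_ff (LP (LK LD1_c1 LD2_c5 LD3_c61)) = (LP (LK LD1_c0 LD2_c42 LD3_c19)) :=
  Lgr Lrot25 (Lpe (K2.f84647 IH) (Lpr_ft (f124703 IH) (Lpr_bt (f124693 IH) (Lpn (LP (LK LD1_c0 LD2_c42 LD3_c19))))))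
theorem f109160 : Led Lsl_at (LP (LK LD1_c0 LD2_c39 LD3_c58)) = (LP (LK LD1_c0 LD2_c45 LD3_c19)) :=
  Lgr Lrot107 (Lpr_cf (K3.f109156 IH) (Lpe (K3.f87524 IH) (Lpr_cf (K2.f84753 IH) (Lpn (LP (LK LD1_c0 LD2_c45 LD3_c19))))))
theorem f121328 : Led Lsl_af (LP (LK LD1_c0 LD2_c42 LD3_c22)) = (LP (LK LD1_c1 LD2_c5 LD3_c61)) :=
  Lgr Lrot36 (Lpr_bt (K3.f82409 IH) (Lpr_at (f109160 IH) (Lpr_bt (K2.f84750 IH) (Lpr_at (K4.f121324 IH) (Lpr_bt (K2.f84645 IH) (Lpn (LP (LK LD1_c1 LD2_c5 LD3_c61))))))))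
theorem f124819 : Led Lsl_ff (LP (LK LD1_c1 LD2_c6 LD3_c0)) = (LP (LK LD1_c0 LD2_c42 LD3_c22)) :=
  Lgr Lrot30 (Lpr_at (f124813 IH) (Lpe (f124707 IH) (Lpe (f121328 IH) (Lpn (LP (LK LD1_c0 LD2_c42 LD3_c22))))))
theorem f124821 : Led Lsl_gt (LP (LK LD1_c0 LD2_c40 LD3_c13)) = (LP (LK LD1_c0 LD2_c42 LD3_c19)) :=
  Lgr Lrot46 (Lpe (K4.f115514 IH) (Lpe (f124819 IH) (Lpr_at (f124813 IH) (Lpn (LP (LK LD1_c0 LD2_c42 LD3_c19))))))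
theorem f61712 : Led Lsl_bt (LP (LK LD1_c0 LD2_c41 LD3_c16)) = (LP (LK LD1_c1 LD2_c29 LD3_c15)) :=
  Lre_b IH (LK LD1_c0 LD2_c41 LD3_c16) (LK LD1_c1 LD2_c29 LD3_c15) Lrfl Lrfl
theorem f82399 : Led Lsl_ct (LP (LK LD1_c0 LD2_c18 LD3_c54)) = (LP (LK LD1_c0 LD2_c42 LD3_c19)) :=
  Lre_c IH (LK LD1_c0 LD2_c18 LD3_c54) (LK LD1_c0 LD2_c42 LD3_c19) Lrfl Lrfl
theorem f124827 : Led Lsl_bt (LP (LK LD1_c0 LD2_c18 LD3_c54)) = (LP (LK LD1_c0 LD2_c42 LD3_c18)) :=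
  Lre_b IH (LK LD1_c0 LD2_c18 LD3_c54) (LK LD1_c0 LD2_c42 LD3_c18) Lrfl Lrfl
theorem f124828 : Led Lsl_gf (LP (LK LD1_c1 LD2_c29 LD3_c15)) = (LP (LK LD1_c0 LD2_c42 LD3_c18)) :=
  Lgr Lrot124 (Lpe (f61712 IH) (Lpr_ct (K2.f61713 IH) (Lpr_gt (K2.f76712 IH) (Lpe (K2.f62641 IH) (Lpr_bt (K2.f25021 IH) (Lpr_gt (K1.f24974 IH) (Lpr_ct (K1.f25016 IH) (Lpr_gt (f124821 IH) (Lpe (f82399 IH) (Lpr_bt (f124827 IH) (Lpn (LP (LK LD1_c0 LD2_c42 LD3_c18)))))))))))))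
theorem f124833 : Led Lsl_gt (LP (LK LD1_c1 LD2_c31 LD3_c31)) = (LP (LK LD1_c0 LD2_c42 LD3_c18)) :=
  Lre_g IH (LK LD1_c1 LD2_c31 LD3_c31) (LK LD1_c0 LD2_c42 LD3_c18) Lrfl Lrfl
theorem f124834 : Led Lsl_ff (LP (LK LD1_c1 LD2_c39 LD3_c9)) = (LP (LK LD1_c1 LD2_c31 LD3_c31)) :=
  Lgr Lrot52 (Lpe (K4.f115065 IH) (Lpr_gf (f124828 IH) (Lpe (f124833 IH) (Lpn (LP (LK LD1_c1 LD2_c31 LD3_c31))))))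
theorem f124841 : Led Lsl_ft (LP (LK LD1_c1 LD2_c39 LD3_c9)) = (LP (LK LD1_c1 LD2_c31 LD3_c31)) :=
  Lgr Lrot48 (Lpr_ff (f124834 IH) (Lpn (LP (LK LD1_c1 LD2_c31 LD3_c31))))
theorem f124843 : Led Lsl_df (LP (LK LD1_c1 LD2_c46 LD3_c56)) = (LP (LK LD1_c1 LD2_c31 LD3_c31)) :=
  Lgr Lrot78 (Lpr_ft (K4.f114983 IH) (Lpe (K4.f114995 IH) (Lpr_ft (f124841 IH) (Lpn (LP (LK LD1_c1 LD2_c31 LD3_c31))))))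
theorem f58754 : Led Lsl_dt (LP (LK LD1_c3 LD2_c5 LD3_c48)) = (LP (LK LD1_c1 LD2_c28 LD3_c59)) :=
  Lre_d IH (LK LD1_c3 LD2_c5 LD3_c48) (LK LD1_c1 LD2_c28 LD3_c59) Lrfl Lrfl
theorem f124845 : Led Lsl_bt (LP (LK LD1_c1 LD2_c28 LD3_c59)) = (LP (LK LD1_c1 LD2_c31 LD3_c31)) :=
  Lgr Lrot95 (Lpe (f58754 IH) (Lpe (K4.f102252 IH) (Lpr_df (f124843 IH) (Lpn (LP (LK LD1_c1 LD2_c31 LD3_c31))))))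
theorem f12693 : Led Lsl_gt (LP (LK LD1_c0 LD2_c20 LD3_c32)) = (LP (LK LD1_c0 LD2_c9 LD3_c16)) :=
  Lre_g IH (LK LD1_c0 LD2_c20 LD3_c32) (LK LD1_c0 LD2_c9 LD3_c16) Lrfl Lrfl
theorem f124859 : Led Lsl_cf (LP (LK LD1_c0 LD2_c20 LD3_c32)) = (LP (LK LD1_c0 LD2_c42 LD3_c18)) :=
  Lgr Lrot125 (Lpr_gt (f12693 IH) (Lpr_cf (K2.f21081 IH) (Lpr_bt (K2.f21013 IH) (Lpe (K2.f25399 IH) (Lpe (K3.f57575 IH) (Lpe (K1.f58743 IH) (Lpr_gt (K3.f26749 IH) (Lpe (K3.f58755 IH) (Lpr_bt (f124845 IH) (Lpr_gt (f124833 IH) (Lpn (LP (LK LD1_c0 LD2_c42 LD3_c18)))))))))))))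
theorem f123590 : Led Lsl_dt (LP (LK LD1_c0 LD2_c20 LD3_c32)) = (LP (LK LD1_c0 LD2_c23 LD3_c8)) :=
  Lgr Lrot6 (Lpr_gt (f12693 IH) (Lpr_ct (K2.f21014 IH) (Lpr_gt (K3.f21026 IH) (Lpr_ct (K4.f109162 IH) (Lpe (K4.f116021 IH) (Lpr_cf (K4.f123570 IH) (Lpe (K4.f11313 IH) (Lpe (K4.f11304 IH) (Lpe (K4.f12766 IH) (Lpn (LP (LK LD1_c0 LD2_c23 LD3_c8))))))))))))
theorem f90113 : Led Lsl_gf (LP (LK LD1_c0 LD2_c45 LD3_c42)) = (LP (LK LD1_c0 LD2_c21 LD3_c29)) :=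
  Lgr Lrot124 (Lpe (K4.f90112 IH) (Lpr_ct (K2.f19342 IH) (Lpr_gt (K2.f90110 IH) (Lpe (K2.f21169 IH) (Lpr_bt (K2.f17668 IH) (Lpr_gt (K2.f10297 IH) (Lpe (K2.f84718 IH) (Lpe (K2.f84722 IH) (Lpe (K2.f10016 IH) (Lpr_bt (K2.f84731 IH) (Lpn (LP (LK LD1_c0 LD2_c21 LD3_c29)))))))))))))
theorem f124868 : Led Lsl_ct (LP (LK LD1_c0 LD2_c45 LD3_c42)) = (LP (LK LD1_c1 LD2_c31 LD3_c31)) :=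
  Lgr Lrot152 (Lpr_gf (f90113 IH) (Lpe (K4.f84755 IH) (Lpr_gt (K3.f109118 IH) (Lpe (K3.f12764 IH) (Lpe (K4.f116531 IH) (Lpr_ct (K4.f12905 IH) (Lpe (f123590 IH) (Lpr_cf (f124859 IH) (Lpe (f124833 IH) (Lpn (LP (LK LD1_c1 LD2_c31 LD3_c31))))))))))))
theorem f124864 : Led Lsl_ct (LP (LK LD1_c0 LD2_c20 LD3_c32)) = (LP (LK LD1_c0 LD2_c42 LD3_c18)) :=
  Lgr Lrot59 (Lpr_cf (f124859 IH) (Lpn (LP (LK LD1_c0 LD2_c42 LD3_c18))))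
theorem f124861 : Led Lsl_bt (LP (LK LD1_c0 LD2_c20 LD3_c32)) = (LP (LK LD1_c0 LD2_c45 LD3_c55)) :=
  Lre_b IH (LK LD1_c0 LD2_c20 LD3_c32) (LK LD1_c0 LD2_c45 LD3_c55) Lrfl Lrfl
theorem f124875 : Led Lsl_gf (LP (LK LD1_c0 LD2_c46 LD3_c57)) = (LP (LK LD1_c0 LD2_c45 LD3_c55)) :=
  Lgr Lrot124 (Lpr_bf (K2.f19366 IH) (Lpe (K2.f84718 IH) (Lpe (K2.f84722 IH) (Lpe (K2.f10016 IH) (Lpr_bt (K2.f84731 IH) (Lpe (f90113 IH) (Lpr_ct (f124868 IH) (Lpr_gt (f124833 IH) (Lpe (f124864 IH) (Lpr_bt (f124861 IH) (Lpn (LP (LK LD1_c0 LD2_c45 LD3_c55)))))))))))))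
theorem f86726 : Led Lsl_gt (LP (LK LD1_c1 LD2_c45 LD3_c61)) = (LP (LK LD1_c0 LD2_c53 LD3_c17)) :=
  Lgr Lrot164 (Lpe (K4.f17998 IH) (Lpr_ct (K3.f17992 IH) (Lpr_gf (K3.f86715 IH) (Lpe (K0.f19755 IH) (Lpr_gf (K3.f18002 IH) (Lpe (K0.f17724 IH) (Lpr_ct (K0.f17762 IH) (Lpe (K3.f18006 IH) (Lpe (K2.f10993 IH) (Lpr_bt (K2.f18016 IH) (Lpn (LP (LK LD1_c0 LD2_c53 LD3_c17)))))))))))))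
theorem f88643 : Led Lsl_at (LP (LK LD1_c0 LD2_c23 LD3_c43)) = (LP (LK LD1_c0 LD2_c52 LD3_c25)) :=
  Lre_a IH (LK LD1_c0 LD2_c23 LD3_c43) (LK LD1_c0 LD2_c52 LD3_c25) Lrfl Lrfl
theorem f93237 : Led Lsl_ft (LP (LK LD1_c0 LD2_c52 LD3_c14)) = (LP (LK LD1_c0 LD2_c23 LD3_c43)) :=
  Lgr Lrot54 (Lpr_df (K2.f90576 IH) (Lpe (K2.f84656 IH) (Lpr_df (f64287 IH) (Lpn (LP (LK LD1_c0 LD2_c23 LD3_c43))))))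
theorem f107295 : Led Lsl_gf (LP (LK LD1_c0 LD2_c50 LD3_c22)) = (LP (LK LD1_c0 LD2_c52 LD3_c14)) :=
  Lgr Lrot47 (Lpr_gt (K3.f107278 IH) (Lpe (f88643 IH) (Lpe (f93237 IH) (Lpn (LP (LK LD1_c0 LD2_c52 LD3_c14))))))
theorem f124889 : Led Lsl_et (LP (LK LD1_c0 LD2_c22 LD3_c45)) = (LP (LK LD1_c0 LD2_c45 LD3_c55)) :=
  Lgr Lrot121 (Lpr_dt (K3.f95914 IH) (Lpr_gf (f107295 IH) (Lpr_df (K2.f90576 IH) (Lpe (K3.f88664 IH) (Lpe (f86726 IH) (Lpe (K3.f86732 IH) (Lpr_dt (K3.f86733 IH) (Lpr_gf (K3.f97366 IH) (Lpr_df (K2.f88644 IH) (Lpr_gf (f124875 IH) (Lpn (LP (LK LD1_c0 LD2_c45 LD3_c55)))))))))))))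
theorem f124903 : Led Lsl_ef (LP (LK LD1_c0 LD2_c22 LD3_c45)) = (LP (LK LD1_c0 LD2_c45 LD3_c55)) :=
  Lgr Lrot88 (Lpr_et (f124889 IH) (Lpn (LP (LK LD1_c0 LD2_c45 LD3_c55))))
theorem f95912 : Led Lsl_dt (LP (LK LD1_c0 LD2_c50 LD3_c22)) = (LP (LK LD1_c0 LD2_c22 LD3_c45)) :=
  Lre_d IH (LK LD1_c0 LD2_c50 LD3_c22) (LK LD1_c0 LD2_c22 LD3_c45) Lrfl Lrfl
theorem f124357 : Led Lsl_ft (LP (LK LD1_c0 LD2_c22 LD3_c45)) = (LP (LK LD1_c0 LD2_c22 LD3_c58)) :=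
  Lgr Lrot54 (Lpe (f95912 IH) (Lpr_ff (f124349 IH) (Lpe (K4.f120847 IH) (Lpn (LP (LK LD1_c0 LD2_c22 LD3_c58))))))
theorem f120927 : Led Lsl_et (LP (LK LD1_c0 LD2_c22 LD3_c58)) = (LP (LK LD1_c0 LD2_c50 LD3_c52)) :=
  Lre_e IH (LK LD1_c0 LD2_c22 LD3_c58) (LK LD1_c0 LD2_c50 LD3_c52) Lrfl Lrfl
theorem f121354 : Led Lsl_ft (LP (LK LD1_c0 LD2_c50 LD3_c52)) = (LP (LK LD1_c1 LD2_c39 LD3_c13)) :=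
  Lgr Lrot4 (Lpe (K4.f120836 IH) (Lpr_ff (K4.f121350 IH) (Lpr_cf (f108827 IH) (Lpn (LP (LK LD1_c1 LD2_c39 LD3_c13))))))
theorem f124911 : Led Lsl_ft (LP (LK LD1_c0 LD2_c46 LD3_c1)) = (LP (LK LD1_c0 LD2_c45 LD3_c55)) :=
  Lgr Lrot86 (Lpe (K3.f84660 IH) (Lpe (f121354 IH) (Lpe (f120927 IH) (Lpe (f124357 IH) (Lpr_ef (f124903 IH) (Lpn (LP (LK LD1_c0 LD2_c45 LD3_c55))))))))
theorem f12694 : Led Lsl_bt (LP (LK LD1_c0 LD2_c45 LD3_c55)) = (LP (LK LD1_c0 LD2_c20 LD3_c32)) :=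
  Lre_b IH (LK LD1_c0 LD2_c45 LD3_c55) (LK LD1_c0 LD2_c20 LD3_c32) Lrfl Lrfl
theorem f124915 : Led Lsl_ff (LP (LK LD1_c0 LD2_c20 LD3_c38)) = (LP (LK LD1_c0 LD2_c20 LD3_c32)) :=
  Lgr Lrot25 (Lpr_bt (K2.f84644 IH) (Lpr_ft (f124911 IH) (Lpr_bt (f12694 IH) (Lpn (LP (LK LD1_c0 LD2_c20 LD3_c32))))))
theorem f124921 : Led Lsl_at (LP (LK LD1_c0 LD2_c20 LD3_c38)) = (LP (LK LD1_c0 LD2_c20 LD3_c31)) :=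
  Lgr Lrot26 (Lpr_ff (f124915 IH) (Lpr_gt (f12693 IH) (Lpr_gt (K0.f17645 IH) (Lpn (LP (LK LD1_c0 LD2_c20 LD3_c31))))))
theorem f84774 : Led Lsl_et (LP (LK LD1_c0 LD2_c46 LD3_c3)) = (LP (LK LD1_c0 LD2_c20 LD3_c38)) :=
  Lre_e IH (LK LD1_c0 LD2_c46 LD3_c3) (LK LD1_c0 LD2_c20 LD3_c38) Lrfl Lrfl
theorem f124929 : Led Lsl_af (LP (LK LD1_c0 LD2_c46 LD3_c3)) = (LP (LK LD1_c0 LD2_c45 LD3_c54)) :=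
  Lgr Lrot50 (Lpr_et (f84774 IH) (Lpr_at (f124921 IH) (Lpr_et (K0.f17697 IH) (Lpn (LP (LK LD1_c0 LD2_c45 LD3_c54))))))
theorem f84775 : Led Lsl_dt (LP (LK LD1_c0 LD2_c46 LD3_c3)) = (LP (LK LD1_c1 LD2_c39 LD3_c14)) :=
  Lre_d IH (LK LD1_c0 LD2_c46 LD3_c3) (LK LD1_c1 LD2_c39 LD3_c14) Lrfl Lrfl
theorem f17706 : Led Lsl_dt (LP (LK LD1_c1 LD2_c38 LD3_c60)) = (LP (LK LD1_c0 LD2_c45 LD3_c54)) :=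
  Lre_d IH (LK LD1_c1 LD2_c38 LD3_c60) (LK LD1_c0 LD2_c45 LD3_c54) Lrfl Lrfl
theorem f124935 : Led Lsl_at (LP (LK LD1_c1 LD2_c39 LD3_c14)) = (LP (LK LD1_c1 LD2_c38 LD3_c60)) :=
  Lgr Lrot51 (Lpe (f84775 IH) (Lpr_af (f124929 IH) (Lpe (f17706 IH) (Lpn (LP (LK LD1_c1 LD2_c38 LD3_c60))))))
theorem f121460 : Led Lsl_bt (LP (LK LD1_c3 LD2_c25 LD3_c16)) = (LP (LK LD1_c1 LD2_c39 LD3_c14)) :=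
  Lre_b IH (LK LD1_c3 LD2_c25 LD3_c16) (LK LD1_c1 LD2_c39 LD3_c14) Lrfl Lrfl
theorem f17708 : Led Lsl_bf (LP (LK LD1_c1 LD2_c38 LD3_c60)) = (LP (LK LD1_c1 LD2_c44 LD3_c54)) :=
  Lgr Lrot93 (Lpr_dt (f17706 IH) (Lpr_bt (K0.f17699 IH) (Lpr_dt (K3.f17707 IH) (Lpn (LP (LK LD1_c1 LD2_c44 LD3_c54))))))
theorem f17712 : Led Lsl_bt (LP (LK LD1_c1 LD2_c38 LD3_c60)) = (LP (LK LD1_c1 LD2_c44 LD3_c54)) :=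
  Lgr Lrot127 (Lpr_bf (f17708 IH) (Lpn (LP (LK LD1_c1 LD2_c44 LD3_c54))))
theorem f121731 : Led Lsl_af (LP (LK LD1_c1 LD2_c42 LD3_c49)) = (LP (LK LD1_c1 LD2_c44 LD3_c54)) :=
  Lgr Lrot68 (Lpe (K3.f106274 IH) (Lpr_at (K4.f121723 IH) (Lpe (K3.f105923 IH) (Lpn (LP (LK LD1_c1 LD2_c44 LD3_c54))))))
theorem f124939 : Led Lsl_af (LP (LK LD1_c3 LD2_c25 LD3_c16)) = (LP (LK LD1_c3 LD2_c32 LD3_c9)) :=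
  Lgr Lrot36 (Lpr_bt (f121460 IH) (Lpr_at (f124935 IH) (Lpr_bt (f17712 IH) (Lpe (f121731 IH) (Lpr_bt (K3.f106273 IH) (Lpn (LP (LK LD1_c3 LD2_c32 LD3_c9))))))))
theorem f76770 : Led Lsl_ft (LP (LK LD1_c1 LD2_c40 LD3_c57)) = (LP (LK LD1_c3 LD2_c28 LD3_c31)) :=
  Lre_f IH (LK LD1_c1 LD2_c40 LD3_c57) (LK LD1_c3 LD2_c28 LD3_c31) Lrfl Lrfl
theorem f94098 : Led Lsl_af (LP (LK LD1_c6 LD2_c52 LD3_c46)) = (LP (LK LD1_c3 LD2_c28 LD3_c31)) :=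
  Lgr Lrot45 (Lpr_ft (K3.f94094 IH) (Lpr_at (K2.f19398 IH) (Lpr_ft (f76770 IH) (Lpn (LP (LK LD1_c3 LD2_c28 LD3_c31))))))
theorem f94105 : Led Lsl_gf (LP (LK LD1_c3 LD2_c25 LD3_c16)) = (LP (LK LD1_c1 LD2_c40 LD3_c57)) :=
  Lgr Lrot47 (Lpr_gt (K3.f84662 IH) (Lpr_af (f94098 IH) (Lpe (f76770 IH) (Lpn (LP (LK LD1_c1 LD2_c40 LD3_c57))))))
theorem f124959 : Led Lsl_ft (LP (LK LD1_c3 LD2_c28 LD3_c29)) = (LP (LK LD1_c3 LD2_c32 LD3_c9)) :=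
  Lgr Lrot2 (Lpr_gt (K3.f76783 IH) (Lpe (f94105 IH) (Lpr_af (f124939 IH) (Lpn (LP (LK LD1_c3 LD2_c32 LD3_c9))))))
theorem f88845 : Led Lsl_dt (LP (LK LD1_c3 LD2_c28 LD3_c31)) = (LP (LK LD1_c1 LD2_c40 LD3_c58)) :=
  Lre_d IH (LK LD1_c3 LD2_c28 LD3_c31) (LK LD1_c1 LD2_c40 LD3_c58) Lrfl Lrfl
theorem f94089 : Led Lsl_at (LP (LK LD1_c6 LD2_c52 LD3_c46)) = (LP (LK LD1_c3 LD2_c28 LD3_c31)) :=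
  Lgr Lrot51 (Lpr_df (K3.f94087 IH) (Lpe (K3.f88854 IH) (Lpe (f88845 IH) (Lpn (LP (LK LD1_c3 LD2_c28 LD3_c31))))))
theorem f105974 : Led Lsl_bt (LP (LK LD1_c3 LD2_c32 LD3_c13)) = (LP (LK LD1_c6 LD2_c52 LD3_c46)) :=
  Lgr Lrot62 (Lpr_af (K3.f105967 IH) (Lpe (K3.f85315 IH) (Lpr_af (K3.f85289 IH) (Lpe (K3.f85316 IH) (Lpe (f94089 IH) (Lpn (LP (LK LD1_c6 LD2_c52 LD3_c46))))))))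
theorem f86711 : Led Lsl_gt (LP (LK LD1_c1 LD2_c44 LD3_c60)) = (LP (LK LD1_c3 LD2_c36 LD3_c13)) :=
  Lre_g IH (LK LD1_c1 LD2_c44 LD3_c60) (LK LD1_c3 LD2_c36 LD3_c13) Lrfl Lrfl
theorem f105984 : Led Lsl_ct (LP (LK LD1_c3 LD2_c32 LD3_c13)) = (LP (LK LD1_c3 LD2_c36 LD3_c13)) :=
  Lgr Lrot63 (Lpr_bt (f105974 IH) (Lpr_gt (K3.f94102 IH) (Lpe (K3.f86840 IH) (Lpr_ct (K3.f86844 IH) (Lpr_gt (K3.f10406 IH) (Lpe (K0.f10393 IH) (Lpr_bt (K2.f10387 IH) (Lpe (K3.f105758 IH) (Lpr_ct (K3.f86691 IH) (Lpr_gt (f86711 IH) (Lpn (LP (LK LD1_c3 LD2_c36 LD3_c13)))))))))))))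
theorem f105989 : Led Lsl_gf (LP (LK LD1_c1 LD2_c46 LD3_c2)) = (LP (LK LD1_c3 LD2_c36 LD3_c13)) :=
  Lgr Lrot104 (Lpr_ct (K3.f17971 IH) (Lpe (K3.f4454 IH) (Lpe (K3.f17992 IH) (Lpe (K3.f105934 IH) (Lpe (K2.f94358 IH) (Lpe (K2.f87514 IH) (Lpe (K3.f94371 IH) (Lpr_gt (K3.f94370 IH) (Lpr_ct (f105984 IH) (Lpn (LP (LK LD1_c3 LD2_c36 LD3_c13))))))))))))
theorem f105969 : Led Lsl_bt (LP (LK LD1_c3 LD2_c32 LD3_c9)) = (LP (LK LD1_c1 LD2_c42 LD3_c49)) :=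
  Lre_b IH (LK LD1_c3 LD2_c32 LD3_c9) (LK LD1_c1 LD2_c42 LD3_c49) Lrfl Lrfl
theorem f64373 : Led Lsl_ct (LP (LK LD1_c1 LD2_c42 LD3_c34)) = (LP (LK LD1_c3 LD2_c31 LD3_c52)) :=
  Lre_c IH (LK LD1_c1 LD2_c42 LD3_c34) (LK LD1_c3 LD2_c31 LD3_c52) Lrfl Lrfl
theorem f64371 : Led Lsl_gt (LP (LK LD1_c3 LD2_c31 LD3_c52)) = (LP (LK LD1_c7 LD2_c5 LD3_c13)) :=
  Lre_g IH (LK LD1_c3 LD2_c31 LD3_c52) (LK LD1_c7 LD2_c5 LD3_c13) Lrfl Lrfl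
theorem f115096 : Led Lsl_ct (LP (LK LD1_c3 LD2_c32 LD3_c9)) = (LP (LK LD1_c7 LD2_c5 LD3_c13)) :=
  Lgr Lrot10 (Lpr_bt (f105969 IH) (Lpr_gt (K3.f94370 IH) (Lpr_ct (f105984 IH) (Lpe (f105989 IH) (Lpe (K3.f17972 IH) (Lpr_bt (K3.f105991 IH) (Lpr_gt (K4.f115089 IH) (Lpe (K4.f115095 IH) (Lpr_ct (f64373 IH) (Lpr_gt (f64371 IH) (Lpn (LP (LK LD1_c7 LD2_c5 LD3_c13)))))))))))))
theorem f124961 : Led Lsl_ff (LP (LK LD1_c6 LD2_c51 LD3_c24)) = (LP (LK LD1_c7 LD2_c5 LD3_c13)) :=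
  Lgr Lrot23 (Lpr_ct (K4.f106359 IH) (Lpr_ft (f124959 IH) (Lpr_ct (f115096 IH) (Lpn (LP (LK LD1_c7 LD2_c5 LD3_c13))))))
theorem f114148 : Led Lsl_gf (LP (LK LD1_c1 LD2_c44 LD3_c2)) = (LP (LK LD1_c3 LD2_c31 LD3_c56)) :=
  Lgr Lrot76 (Lpe (K3.f107090 IH) (Lpr_ff (K4.f106329 IH) (Lpr_gt (K4.f114146 IH) (Lpn (LP (LK LD1_c3 LD2_c31 LD3_c56))))))
theorem f115100 : Led Lsl_gf (LP (LK LD1_c3 LD2_c31 LD3_c57)) = (LP (LK LD1_c7 LD2_c5 LD3_c13)) :=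
  Lgr Lrot126 (Lpe (f19333 IH) (Lpr_bt (f85644 IH) (Lpe (f114148 IH) (Lpr_ct (K3.f106614 IH) (Lpe (K3.f106658 IH) (Lpe (K3.f85331 IH) (Lpr_bt (K2.f19395 IH) (Lpe (K3.f105965 IH) (Lpe (f105969 IH) (Lpr_ct (f115096 IH) (Lpn (LP (LK LD1_c7 LD2_c5 LD3_c13)))))))))))))
theorem f124967 : Led Lsl_at (LP (LK LD1_c6 LD2_c51 LD3_c24)) = (LP (LK LD1_c3 LD2_c42 LD3_c29)) :=
  Lgr Lrot26 (Lpr_ff (f124961 IH) (Lpe (f115100 IH) (Lpe (f124269 IH) (Lpn (LP (LK LD1_c3 LD2_c42 LD3_c29))))))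
theorem f108832 : Led Lsl_bt (LP (LK LD1_c1 LD2_c39 LD3_c13)) = (LP (LK LD1_c0 LD2_c46 LD3_c3)) :=
  Lre_b IH (LK LD1_c1 LD2_c39 LD3_c13) (LK LD1_c0 LD2_c46 LD3_c3) Lrfl Lrfl
theorem f7424 : Led Lsl_gt (LP (LK LD1_c0 LD2_c10 LD3_c54)) = (LP (LK LD1_c0 LD2_c5 LD3_c4)) :=
  Lre_g IH (LK LD1_c0 LD2_c10 LD3_c54) (LK LD1_c0 LD2_c5 LD3_c4) Lrfl Lrfl
theorem f11109 : Led Lsl_gt (LP (LK LD1_c0 LD2_c9 LD3_c40)) = (LP (LK LD1_c0 LD2_c10 LD3_c54)) :=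
  Lgr Lrot5 (Lpr_ft (K0.f11096 IH) (Lpr_at (K0.f11098 IH) (Lpe (f7424 IH) (Lpn (LP (LK LD1_c0 LD2_c10 LD3_c54))))))
theorem f10006 : Led Lsl_bt (LP (LK LD1_c0 LD2_c24 LD3_c29)) = (LP (LK LD1_c0 LD2_c10 LD3_c54)) :=
  Lre_b IH (LK LD1_c0 LD2_c24 LD3_c29) (LK LD1_c0 LD2_c10 LD3_c54) Lrfl Lrfl
theorem f10007 : Led Lsl_ct (LP (LK LD1_c0 LD2_c24 LD3_c29)) = (LP (LK LD1_c0 LD2_c54 LD3_c16)) :=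
  Lre_c IH (LK LD1_c0 LD2_c24 LD3_c29) (LK LD1_c0 LD2_c54 LD3_c16) Lrfl Lrfl
theorem f106322 : Led Lsl_gf (LP (LK LD1_c0 LD2_c43 LD3_c18)) = (LP (LK LD1_c0 LD2_c54 LD3_c16)) :=
  Lgr Lrot126 (Lpe (K3.f95757 IH) (Lpr_bt (K3.f95818 IH) (Lpr_gt (K3.f106284 IH) (Lpr_ct (K3.f64508 IH) (Lpr_gt (K3.f64496 IH) (Lpe (K3.f11113 IH) (Lpr_bt (K3.f11088 IH) (Lpr_gt (f11109 IH) (Lpe (f10006 IH) (Lpr_ct (f10007 IH) (Lpn (LP (LK LD1_c0 LD2_c54 LD3_c16)))))))))))))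
theorem f121376 : Led Lsl_gt (LP (LK LD1_c0 LD2_c46 LD3_c3)) = (LP (LK LD1_c0 LD2_c24 LD3_c29)) :=
  Lgr Lrot82 (Lpe (f108832 IH) (Lpe (f108827 IH) (Lpr_gf (K4.f121370 IH) (Lpe (K4.f90267 IH) (Lpr_bt (K4.f90265 IH) (Lpe (K3.f106284 IH) (Lpe (K3.f95818 IH) (Lpr_ct (K3.f95757 IH) (Lpr_gf (f106322 IH) (Lpe (f10007 IH) (Lpn (LP (LK LD1_c0 LD2_c24 LD3_c29)))))))))))))
theorem f106293 : Led Lsl_cf (LP (LK LD1_c3 LD2_c13 LD3_c32)) = (LP (LK LD1_c3 LD2_c56 LD3_c47)) :=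
  Lgr Lrot11 (Lpr_ct (K3.f106288 IH) (Lpn (LP (LK LD1_c3 LD2_c56 LD3_c47))))
theorem f121379 : Led Lsl_gt (LP (LK LD1_c1 LD2_c39 LD3_c14)) = (LP (LK LD1_c0 LD2_c54 LD3_c17)) :=
  Lgr Lrot9 (Lpe (f84775 IH) (Lpr_gt (f121376 IH) (Lpr_ct (f10007 IH) (Lpe (f106322 IH) (Lpr_ct (K3.f95784 IH) (Lpe (K3.f95783 IH) (Lpr_cf (f106293 IH) (Lpe (K3.f11138 IH) (Lpe (K3.f11137 IH) (Lpn (LP (LK LD1_c0 LD2_c54 LD3_c17))))))))))))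
theorem f92254 : Led Lsl_gt (LP (LK LD1_c3 LD2_c24 LD3_c22)) = (LP (LK LD1_c6 LD2_c51 LD3_c23)) :=
  Lre_g IH (LK LD1_c3 LD2_c24 LD3_c22) (LK LD1_c6 LD2_c51 LD3_c23) Lrfl Lrfl
theorem f121461 : Led Lsl_ct (LP (LK LD1_c3 LD2_c25 LD3_c16)) = (LP (LK LD1_c6 LD2_c51 LD3_c23)) :=
  Lgr Lrot10 (Lpr_bt (f121460 IH) (Lpr_gt (f121379 IH) (Lpr_ct (K3.f11137 IH) (Lpr_gt (K3.f11138 IH) (Lpe (K3.f106288 IH) (Lpr_bt (K3.f95828 IH) (Lpe (K3.f95180 IH) (Lpe (K4.f95184 IH) (Lpr_ct (K4.f92255 IH) (Lpr_gt (f92254 IH) (Lpn (LP (LK LD1_c6 LD2_c51 LD3_c23)))))))))))))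
theorem f94349 : Led Lsl_cf (LP (LK LD1_c3 LD2_c32 LD3_c9)) = (LP (LK LD1_c7 LD2_c5 LD3_c13)) :=
  Lgr Lrot99 (Lpe (K3.f87508 IH) (Lpr_cf (K2.f87500 IH) (Lpr_gf (K2.f94347 IH) (Lpe (K2.f92040 IH) (Lpr_gf (K2.f92036 IH) (Lpe (K1.f9822 IH) (Lpr_gt (K2.f64367 IH) (Lpr_ct (f64373 IH) (Lpr_gt (f64371 IH) (Lpn (LP (LK LD1_c7 LD2_c5 LD3_c13))))))))))))
theorem f124955 : Led Lsl_at (LP (LK LD1_c6 LD2_c51 LD3_c23)) = (LP (LK LD1_c7 LD2_c5 LD3_c13)) :=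
  Lgr Lrot107 (Lpe (f121461 IH) (Lpr_af (f124939 IH) (Lpr_cf (f94349 IH) (Lpn (LP (LK LD1_c7 LD2_c5 LD3_c13))))))
theorem f124977 : Led Lsl_ff (LP (LK LD1_c6 LD2_c51 LD3_c23)) = (LP (LK LD1_c3 LD2_c42 LD3_c29)) :=
  Lgr Lrot30 (Lpr_at (f124955 IH) (Lpe (f124961 IH) (Lpr_at (f124967 IH) (Lpn (LP (LK LD1_c3 LD2_c42 LD3_c29))))))
theorem f124983 : Led Lsl_ft (LP (LK LD1_c6 LD2_c51 LD3_c23)) = (LP (LK LD1_c3 LD2_c42 LD3_c29)) :=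
  Lgr Lrot48 (Lpr_ff (f124977 IH) (Lpn (LP (LK LD1_c3 LD2_c42 LD3_c29))))
theorem f115299 : Led Lsl_bt (LP (LK LD1_c13 LD2_c2 LD3_c33)) = (LP (LK LD1_c6 LD2_c51 LD3_c23)) :=
  Lre_b IH (LK LD1_c13 LD2_c2 LD3_c33) (LK LD1_c6 LD2_c51 LD3_c23) Lrfl Lrfl
theorem f120881 : Led Lsl_bt (LP (LK LD1_c3 LD2_c42 LD3_c29)) = (LP (LK LD1_c7 LD2_c25 LD3_c37)) :=
  Lre_b IH (LK LD1_c3 LD2_c42 LD3_c29) (LK LD1_c7 LD2_c25 LD3_c37) Lrfl Lrfl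
theorem f124987 : Led Lsl_ff (LP (LK LD1_c13 LD2_c2 LD3_c33)) = (LP (LK LD1_c7 LD2_c25 LD3_c37)) :=
  Lgr Lrot25 (Lpr_bt (f115299 IH) (Lpr_ft (f124983 IH) (Lpr_bt (f120881 IH) (Lpn (LP (LK LD1_c7 LD2_c25 LD3_c37))))))
theorem f94109 : Led Lsl_bt (LP (LK LD1_c1 LD2_c39 LD3_c14)) = (LP (LK LD1_c3 LD2_c25 LD3_c16)) :=
  Lre_b IH (LK LD1_c1 LD2_c39 LD3_c14) (LK LD1_c3 LD2_c25 LD3_c16) Lrfl Lrfl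
theorem f94112 : Led Lsl_ct (LP (LK LD1_c3 LD2_c25 LD3_c17)) = (LP (LK LD1_c1 LD2_c39 LD3_c14)) :=
  Lre_c IH (LK LD1_c3 LD2_c25 LD3_c17) (LK LD1_c1 LD2_c39 LD3_c14) Lrfl Lrfl
theorem f121467 : Led Lsl_bt (LP (LK LD1_c6 LD2_c52 LD3_c47)) = (LP (LK LD1_c3 LD2_c25 LD3_c17)) :=
  Lre_b IH (LK LD1_c6 LD2_c52 LD3_c47) (LK LD1_c3 LD2_c25 LD3_c17) Lrfl Lrfl
theorem f121468 : Led Lsl_bt (LP (LK LD1_c6 LD2_c51 LD3_c23)) = (LP (LK LD1_c13 LD2_c2 LD3_c33)) :=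
  Lre_b IH (LK LD1_c6 LD2_c51 LD3_c23) (LK LD1_c13 LD2_c2 LD3_c33) Lrfl Lrfl
theorem f121469 : Led Lsl_cf (LP (LK LD1_c6 LD2_c52 LD3_c47)) = (LP (LK LD1_c13 LD2_c2 LD3_c33)) :=
  Lgr Lrot97 (Lpr_bt (f121467 IH) (Lpr_ct (f94112 IH) (Lpr_bt (f94109 IH) (Lpr_ct (f121461 IH) (Lpr_bt (f121468 IH) (Lpn (LP (LK LD1_c13 LD2_c2 LD3_c33))))))))
theorem f124992 : Led Lsl_ct (LP (LK LD1_c3 LD2_c42 LD3_c51)) = (LP (LK LD1_c7 LD2_c25 LD3_c37)) :=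
  Lre_c IH (LK LD1_c3 LD2_c42 LD3_c51) (LK LD1_c7 LD2_c25 LD3_c37) Lrfl Lrfl
theorem f124993 : Led Lsl_ft (LP (LK LD1_c6 LD2_c52 LD3_c47)) = (LP (LK LD1_c3 LD2_c42 LD3_c51)) :=
  Lgr Lrot4 (Lpr_cf (f121469 IH) (Lpr_ff (f124987 IH) (Lpe (f124992 IH) (Lpn (LP (LK LD1_c3 LD2_c42 LD3_c51))))))
theorem f125015 : Led Lsl_ff (LP (LK LD1_c6 LD2_c52 LD3_c47)) = (LP (LK LD1_c3 LD2_c42 LD3_c51)) :=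
  Lgr Lrot3 (Lpr_ft (f124993 IH) (Lpn (LP (LK LD1_c3 LD2_c42 LD3_c51))))
theorem f121478 : Led Lsl_dt (LP (LK LD1_c6 LD2_c52 LD3_c47)) = (LP (LK LD1_c13 LD2_c4 LD3_c47)) :=
  Lre_d IH (LK LD1_c6 LD2_c52 LD3_c47) (LK LD1_c13 LD2_c4 LD3_c47) Lrfl Lrfl
theorem f125033 : Led Lsl_dt (LP (LK LD1_c7 LD2_c26 LD3_c24)) = (LP (LK LD1_c3 LD2_c42 LD3_c51)) :=
  Lre_d IH (LK LD1_c7 LD2_c26 LD3_c24) (LK LD1_c3 LD2_c42 LD3_c51) Lrfl Lrfl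
theorem f125034 : Led Lsl_ft (LP (LK LD1_c13 LD2_c4 LD3_c47)) = (LP (LK LD1_c7 LD2_c26 LD3_c24)) :=
  Lgr Lrot54 (Lpe (f121478 IH) (Lpr_ff (f125015 IH) (Lpe (f125033 IH) (Lpn (LP (LK LD1_c7 LD2_c26 LD3_c24))))))
theorem f124951 : Led Lsl_bt (LP (LK LD1_c6 LD2_c52 LD3_c48)) = (LP (LK LD1_c13 LD2_c4 LD3_c47)) :=
  Lre_b IH (LK LD1_c6 LD2_c52 LD3_c48) (LK LD1_c13 LD2_c4 LD3_c47) Lrfl Lrfl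
theorem f125047 : Led Lsl_bt (LP (LK LD1_c7 LD2_c26 LD3_c24)) = (LP (LK LD1_c3 LD2_c42 LD3_c52)) :=
  Lre_b IH (LK LD1_c7 LD2_c26 LD3_c24) (LK LD1_c3 LD2_c42 LD3_c52) Lrfl Lrfl
theorem f125048 : Led Lsl_ff (LP (LK LD1_c6 LD2_c52 LD3_c48)) = (LP (LK LD1_c3 LD2_c42 LD3_c52)) :=
  Lgr Lrot25 (Lpr_bt (f124951 IH) (Lpr_ft (f125034 IH) (Lpr_bt (f125047 IH) (Lpn (LP (LK LD1_c3 LD2_c42 LD3_c52))))))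
theorem f17714 : Led Lsl_ct (LP (LK LD1_c1 LD2_c38 LD3_c60)) = (LP (LK LD1_c3 LD2_c25 LD3_c2)) :=
  Lre_c IH (LK LD1_c1 LD2_c38 LD3_c60) (LK LD1_c3 LD2_c25 LD3_c2) Lrfl Lrfl
theorem f124941 : Led Lsl_af (LP (LK LD1_c3 LD2_c25 LD3_c17)) = (LP (LK LD1_c3 LD2_c25 LD3_c2)) :=
  Lgr Lrot68 (Lpr_ct (f94112 IH) (Lpr_at (f124935 IH) (Lpr_ct (f17714 IH) (Lpn (LP (LK LD1_c3 LD2_c25 LD3_c2))))))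
theorem f108872 : Led Lsl_dt (LP (LK LD1_c3 LD2_c25 LD3_c17)) = (LP (LK LD1_c6 LD2_c52 LD3_c48)) :=
  Lre_d IH (LK LD1_c3 LD2_c25 LD3_c17) (LK LD1_c6 LD2_c52 LD3_c48) Lrfl Lrfl
theorem f17722 : Led Lsl_dt (LP (LK LD1_c6 LD2_c52 LD3_c28)) = (LP (LK LD1_c3 LD2_c25 LD3_c2)) :=
  Lre_d IH (LK LD1_c6 LD2_c52 LD3_c28) (LK LD1_c3 LD2_c25 LD3_c2) Lrfl Lrfl
theorem f124945 : Led Lsl_at (LP (LK LD1_c6 LD2_c52 LD3_c48)) = (LP (LK LD1_c6 LD2_c52 LD3_c28)) :=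
  Lgr Lrot51 (Lpe (f108872 IH) (Lpr_af (f124941 IH) (Lpe (f17722 IH) (Lpn (LP (LK LD1_c6 LD2_c52 LD3_c28))))))
theorem f120876 : Led Lsl_dt (LP (LK LD1_c3 LD2_c42 LD3_c52)) = (LP (LK LD1_c1 LD2_c48 LD3_c26)) :=
  Lre_d IH (LK LD1_c3 LD2_c42 LD3_c52) (LK LD1_c1 LD2_c48 LD3_c26) Lrfl Lrfl
theorem f120897 : Led Lsl_dt (LP (LK LD1_c0 LD2_c50 LD3_c58)) = (LP (LK LD1_c0 LD2_c22 LD3_c61)) :=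
  Lre_d IH (LK LD1_c0 LD2_c50 LD3_c58) (LK LD1_c0 LD2_c22 LD3_c61) Lrfl Lrfl
theorem f120905 : Led Lsl_dt (LP (LK LD1_c0 LD2_c50 LD3_c54)) = (LP (LK LD1_c1 LD2_c48 LD3_c17)) :=
  Lre_d IH (LK LD1_c0 LD2_c50 LD3_c54) (LK LD1_c1 LD2_c48 LD3_c17) Lrfl Lrfl
theorem f124244 : Led Lsl_ct (LP (LK LD1_c1 LD2_c48 LD3_c17)) = (LP (LK LD1_c3 LD2_c42 LD3_c35)) :=
  Lre_c IH (LK LD1_c1 LD2_c48 LD3_c17) (LK LD1_c3 LD2_c42 LD3_c35) Lrfl Lrfl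
theorem f125068 : Led Lsl_dt (LP (LK LD1_c3 LD2_c42 LD3_c35)) = (LP (LK LD1_c7 LD2_c25 LD3_c48)) :=
  Lre_d IH (LK LD1_c3 LD2_c42 LD3_c35) (LK LD1_c7 LD2_c25 LD3_c48) Lrfl Lrfl
theorem f125069 : Led Lsl_cf (LP (LK LD1_c6 LD2_c52 LD3_c28)) = (LP (LK LD1_c7 LD2_c25 LD3_c48)) :=
  Lgr Lrot102 (Lpe (f124945 IH) (Lpr_ff (f125048 IH) (Lpr_dt (f120876 IH) (Lpr_ct (K4.f120875 IH) (Lpr_dt (f120897 IH) (Lpr_ct (K4.f120913 IH) (Lpr_dt (f120905 IH) (Lpr_ct (f124244 IH) (Lpr_dt (f125068 IH) (Lpn (LP (LK LD1_c7 LD2_c25 LD3_c48))))))))))))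
theorem f17717 : Led Lsl_ct (LP (LK LD1_c3 LD2_c25 LD3_c2)) = (LP (LK LD1_c1 LD2_c38 LD3_c60)) :=
  Lre_c IH (LK LD1_c3 LD2_c25 LD3_c2) (LK LD1_c1 LD2_c38 LD3_c60) Lrfl Lrfl
theorem f24989 : Led Lsl_bt (LP (LK LD1_c1 LD2_c31 LD3_c52)) = (LP (LK LD1_c0 LD2_c42 LD3_c31)) :=
  Lre_b IH (LK LD1_c1 LD2_c31 LD3_c52) (LK LD1_c0 LD2_c42 LD3_c31) Lrfl Lrfl
theorem f108833 : Led Lsl_cf (LP (LK LD1_c1 LD2_c31 LD3_c52)) = (LP (LK LD1_c0 LD2_c46 LD3_c3)) :=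
  Lgr Lrot97 (Lpr_bt (f24989 IH) (Lpr_ct (K3.f24992 IH) (Lpr_bt (K4.f82504 IH) (Lpr_ct (K4.f108829 IH) (Lpr_bt (f108832 IH) (Lpn (LP (LK LD1_c0 LD2_c46 LD3_c3))))))))
theorem f124933 : Led Lsl_at (LP (LK LD1_c1 LD2_c31 LD3_c52)) = (LP (LK LD1_c1 LD2_c38 LD3_c59)) :=
  Lgr Lrot107 (Lpr_cf (f108833 IH) (Lpr_af (f124929 IH) (Lpe (K3.f17703 IH) (Lpn (LP (LK LD1_c1 LD2_c38 LD3_c59))))))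
theorem f125079 : Led Lsl_ff (LP (LK LD1_c1 LD2_c31 LD3_c52)) = (LP (LK LD1_c0 LD2_c50 LD3_c54)) :=
  Lgr Lrot103 (Lpr_at (f124933 IH) (Lpe (K0.f17711 IH) (Lpe (f17706 IH) (Lpe (f17717 IH) (Lpe (f17722 IH) (Lpr_cf (f125069 IH) (Lpe (f125068 IH) (Lpe (f124244 IH) (Lpe (f120905 IH) (Lpn (LP (LK LD1_c0 LD2_c50 LD3_c54))))))))))))
theorem f124135 : Led Lsl_gt (LP (LK LD1_c0 LD2_c50 LD3_c54)) = (LP (LK LD1_c1 LD2_c48 LD3_c15)) :=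
  Lre_g IH (LK LD1_c0 LD2_c50 LD3_c54) (LK LD1_c1 LD2_c48 LD3_c15) Lrfl Lrfl
theorem f125095 : Led Lsl_gf (LP (LK LD1_c1 LD2_c38 LD3_c59)) = (LP (LK LD1_c1 LD2_c48 LD3_c15)) :=
  Lgr Lrot76 (Lpe (f124933 IH) (Lpr_ff (f125079 IH) (Lpr_gt (f124135 IH) (Lpn (LP (LK LD1_c1 LD2_c48 LD3_c15))))))
theorem f94356 : Led Lsl_bt (LP (LK LD1_c1 LD2_c42 LD3_c48)) = (LP (LK LD1_c3 LD2_c11 LD3_c38)) :=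
  Lgr Lrot127 (Lpr_bf (K2.f94352 IH) (Lpn (LP (LK LD1_c3 LD2_c11 LD3_c38))))
theorem f105932 : Led Lsl_gt (LP (LK LD1_c0 LD2_c49 LD3_c8)) = (LP (LK LD1_c0 LD2_c53 LD3_c19)) :=
  Lgr Lrot149 (Lpe (K0.f17723 IH) (Lpr_gf (K3.f105928 IH) (Lpe (K3.f10441 IH) (Lpr_ct (K3.f19781 IH) (Lpe (K3.f86717 IH) (Lpe (K3.f17992 IH) (Lpr_bt (K4.f17998 IH) (Lpr_gf (K3.f86739 IH) (Lpe (f94356 IH) (Lpr_ct (K2.f94358 IH) (Lpn (LP (LK LD1_c0 LD2_c53 LD3_c19)))))))))))))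
theorem f94380 : Led Lsl_bt (LP (LK LD1_c1 LD2_c42 LD3_c44)) = (LP (LK LD1_c1 LD2_c35 LD3_c51)) :=
  Lgr Lrot127 (Lpr_bf (K3.f94378 IH) (Lpn (LP (LK LD1_c1 LD2_c35 LD3_c51))))
theorem f125098 : Led Lsl_ct (LP (LK LD1_c1 LD2_c42 LD3_c44)) = (LP (LK LD1_c1 LD2_c48 LD3_c15)) :=
  Lgr Lrot64 (Lpr_bt (f94380 IH) (Lpe (K3.f94374 IH) (Lpe (K3.f94365 IH) (Lpr_ct (K3.f94364 IH) (Lpe (K3.f94361 IH) (Lpr_cf (K2.f94368 IH) (Lpe (f105932 IH) (Lpe (K0.f17699 IH) (Lpr_ct (K0.f17711 IH) (Lpr_gf (f125095 IH) (Lpn (LP (LK LD1_c1 LD2_c48 LD3_c15)))))))))))))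
theorem f125102 : Led Lsl_cf (LP (LK LD1_c1 LD2_c42 LD3_c44)) = (LP (LK LD1_c1 LD2_c48 LD3_c15)) :=
  Lgr Lrot11 (Lpr_ct (f125098 IH) (Lpn (LP (LK LD1_c1 LD2_c48 LD3_c15))))
theorem f84306 : Led Lsl_bt (LP (LK LD1_c0 LD2_c44 LD3_c27)) = (LP (LK LD1_c1 LD2_c35 LD3_c50)) :=
  Lre_b IH (LK LD1_c0 LD2_c44 LD3_c27) (LK LD1_c1 LD2_c35 LD3_c50) Lrfl Lrfl
theorem f125107 : Led Lsl_bt (LP (LK LD1_c1 LD2_c29 LD3_c24)) = (LP (LK LD1_c1 LD2_c48 LD3_c15)) :=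
  Lgr Lrot128 (Lpe (K4.f84304 IH) (Lpe (f84306 IH) (Lpe (K3.f84307 IH) (Lpe (f94380 IH) (Lpr_cf (f125102 IH) (Lpn (LP (LK LD1_c1 LD2_c48 LD3_c15))))))))
theorem f125111 : Led Lsl_ff (LP (LK LD1_c1 LD2_c46 LD3_c60)) = (LP (LK LD1_c1 LD2_c48 LD3_c15)) :=
  Lgr Lrot25 (Lpe (K3.f106782 IH) (Lpe (K4.f113918 IH) (Lpr_bt (f125107 IH) (Lpn (LP (LK LD1_c1 LD2_c48 LD3_c15))))))
theorem f12647 : Led Lsl_bt (LP (LK LD1_c1 LD2_c40 LD3_c31)) = (LP (LK LD1_c0 LD2_c46 LD3_c43)) :=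
  Lre_b IH (LK LD1_c1 LD2_c40 LD3_c31) (LK LD1_c0 LD2_c46 LD3_c43) Lrfl Lrfl
theorem f120911 : Led Lsl_gt (LP (LK LD1_c1 LD2_c38 LD3_c59)) = (LP (LK LD1_c1 LD2_c48 LD3_c16)) :=
  Lgr Lrot149 (Lpe (K0.f17711 IH) (Lpe (K3.f19765 IH) (Lpe (K2.f12632 IH) (Lpr_ct (K3.f12159 IH) (Lpr_gf (K3.f12623 IH) (Lpe (K0.f9868 IH) (Lpr_bt (K0.f9815 IH) (Lpe (K4.f12646 IH) (Lpe (f12647 IH) (Lpr_ct (K4.f120894 IH) (Lpn (LP (LK LD1_c1 LD2_c48 LD3_c16)))))))))))))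
theorem f125119 : Led Lsl_at (LP (LK LD1_c1 LD2_c46 LD3_c60)) = (LP (LK LD1_c1 LD2_c48 LD3_c16)) :=
  Lgr Lrot26 (Lpr_ff (f125111 IH) (Lpe (f125095 IH) (Lpr_gt (f120911 IH) (Lpn (LP (LK LD1_c1 LD2_c48 LD3_c16))))))
theorem f120901 : Led Lsl_cf (LP (LK LD1_c1 LD2_c40 LD3_c31)) = (LP (LK LD1_c1 LD2_c48 LD3_c16)) :=
  Lgr Lrot11 (Lpr_ct (K4.f120894 IH) (Lpn (LP (LK LD1_c1 LD2_c48 LD3_c16))))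
theorem f125125 : Led Lsl_af (LP (LK LD1_c1 LD2_c45 LD3_c58)) = (LP (LK LD1_c1 LD2_c40 LD3_c31)) :=
  Lgr Lrot68 (Lpr_ct (K3.f106780 IH) (Lpr_at (f125119 IH) (Lpe (f120901 IH) (Lpn (LP (LK LD1_c1 LD2_c40 LD3_c31))))))
theorem f125161 : Led Lsl_ft (LP (LK LD1_c1 LD2_c38 LD3_c36)) = (LP (LK LD1_c1 LD2_c40 LD3_c31)) :=
  Lgr Lrot2 (Lpe (K4.f107084 IH) (Lpr_gt (K3.f107080 IH) (Lpr_af (f125125 IH) (Lpn (LP (LK LD1_c1 LD2_c40 LD3_c31))))))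
theorem f125169 : Led Lsl_ff (LP (LK LD1_c1 LD2_c38 LD3_c36)) = (LP (LK LD1_c1 LD2_c40 LD3_c31)) :=
  Lgr Lrot3 (Lpr_ft (f125161 IH) (Lpn (LP (LK LD1_c1 LD2_c40 LD3_c31))))
theorem f125175 : Led Lsl_at (LP (LK LD1_c1 LD2_c38 LD3_c36)) = (LP (LK LD1_c1 LD2_c42 LD3_c44)) :=
  Lgr Lrot26 (Lpr_ff (f125169 IH) (Lpr_gt (f107086 IH) (Lpr_gt (K3.f95926 IH) (Lpn (LP (LK LD1_c1 LD2_c42 LD3_c44))))))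
theorem f125179 : Led Lsl_af (LP (LK LD1_c1 LD2_c46 LD3_c59)) = (LP (LK LD1_c1 LD2_c48 LD3_c15)) :=
  Lgr Lrot68 (Lpr_ct (K4.f114170 IH) (Lpr_at (f125175 IH) (Lpr_ct (f125098 IH) (Lpn (LP (LK LD1_c1 LD2_c48 LD3_c15))))))
theorem f12437 : Led Lsl_dt (LP (LK LD1_c1 LD2_c46 LD3_c59)) = (LP (LK LD1_c3 LD2_c39 LD3_c59)) :=
  Lre_d IH (LK LD1_c1 LD2_c46 LD3_c59) (LK LD1_c3 LD2_c39 LD3_c59) Lrfl Lrfl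
theorem f125097 : Led Lsl_dt (LP (LK LD1_c3 LD2_c42 LD3_c31)) = (LP (LK LD1_c1 LD2_c48 LD3_c15)) :=
  Lre_d IH (LK LD1_c3 LD2_c42 LD3_c31) (LK LD1_c1 LD2_c48 LD3_c15) Lrfl Lrfl
theorem f125203 : Led Lsl_at (LP (LK LD1_c3 LD2_c39 LD3_c59)) = (LP (LK LD1_c3 LD2_c42 LD3_c31)) :=
  Lgr Lrot51 (Lpe (f12437 IH) (Lpr_af (f125179 IH) (Lpe (f125097 IH) (Lpn (LP (LK LD1_c3 LD2_c42 LD3_c31))))))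
theorem f86314 : Led Lsl_dt (LP (LK LD1_c4 LD2_c47 LD3_c31)) = (LP (LK LD1_c2 LD2_c21 LD3_c37)) :=
  Lre_d IH (LK LD1_c4 LD2_c47 LD3_c31) (LK LD1_c2 LD2_c21 LD3_c37) Lrfl Lrfl
theorem f114172 : Led Lsl_bt (LP (LK LD1_c3 LD2_c39 LD3_c59)) = (LP (LK LD1_c4 LD2_c47 LD3_c31)) :=
  Lgr Lrot95 (Lpe (f12437 IH) (Lpr_bf (K4.f114166 IH) (Lpe (f86314 IH) (Lpn (LP (LK LD1_c4 LD2_c47 LD3_c31))))))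
theorem f114183 : Led Lsl_bf (LP (LK LD1_c3 LD2_c39 LD3_c59)) = (LP (LK LD1_c4 LD2_c47 LD3_c31)) :=
  Lgr Lrot24 (Lpr_bt (f114172 IH) (Lpn (LP (LK LD1_c4 LD2_c47 LD3_c31))))
theorem f25092 : Led Lsl_dt (LP (LK LD1_c3 LD2_c6 LD3_c36)) = (LP (LK LD1_c1 LD2_c29 LD3_c24)) :=
  Lre_d IH (LK LD1_c3 LD2_c6 LD3_c36) (LK LD1_c1 LD2_c29 LD3_c24) Lrfl Lrfl
theorem f124136 : Led Lsl_dt (LP (LK LD1_c1 LD2_c48 LD3_c15)) = (LP (LK LD1_c3 LD2_c42 LD3_c31)) :=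
  Lre_d IH (LK LD1_c1 LD2_c48 LD3_c15) (LK LD1_c3 LD2_c42 LD3_c31) Lrfl Lrfl
theorem f125109 : Led Lsl_bf (LP (LK LD1_c3 LD2_c6 LD3_c36)) = (LP (LK LD1_c3 LD2_c42 LD3_c31)) :=
  Lgr Lrot93 (Lpr_dt (f25092 IH) (Lpr_bt (f125107 IH) (Lpr_dt (f124136 IH) (Lpn (LP (LK LD1_c3 LD2_c42 LD3_c31))))))
theorem f77895 : Led Lsl_dt (LP (LK LD1_c4 LD2_c40 LD3_c15)) = (LP (LK LD1_c2 LD2_c17 LD3_c13)) :=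
  Lre_d IH (LK LD1_c4 LD2_c40 LD3_c15) (LK LD1_c2 LD2_c17 LD3_c13) Lrfl Lrfl
theorem f77799 : Led Lsl_dt (LP (LK LD1_c1 LD2_c29 LD3_c14)) = (LP (LK LD1_c3 LD2_c6 LD3_c18)) :=
  Lre_d IH (LK LD1_c1 LD2_c29 LD3_c14) (LK LD1_c3 LD2_c6 LD3_c18) Lrfl Lrfl
theorem f77896 : Led Lsl_bf (LP (LK LD1_c4 LD2_c40 LD3_c15)) = (LP (LK LD1_c3 LD2_c6 LD3_c18)) :=
  Lgr Lrot93 (Lpr_dt (f77895 IH) (Lpr_bt (K2.f77892 IH) (Lpr_dt (f77799 IH) (Lpn (LP (LK LD1_c3 LD2_c6 LD3_c18))))))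
theorem f125207 : Led Lsl_af (LP (LK LD1_c4 LD2_c47 LD3_c31)) = (LP (LK LD1_c4 LD2_c40 LD3_c15)) :=
  Lgr Lrot36 (Lpe (f114183 IH) (Lpr_at (f125203 IH) (Lpe (f125109 IH) (Lpr_at (K4.f113883 IH) (Lpe (f77896 IH) (Lpn (LP (LK LD1_c4 LD2_c40 LD3_c15))))))))
theorem f125223 : Led Lsl_at (LP (LK LD1_c4 LD2_c47 LD3_c31)) = (LP (LK LD1_c4 LD2_c40 LD3_c15)) :=
  Lgr Lrot100 (Lpr_af (f125207 IH) (Lpn (LP (LK LD1_c4 LD2_c40 LD3_c15))))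
theorem f86315 : Led Lsl_dt (LP (LK LD1_c2 LD2_c21 LD3_c37)) = (LP (LK LD1_c4 LD2_c47 LD3_c31)) :=
  Lre_d IH (LK LD1_c2 LD2_c21 LD3_c37) (LK LD1_c4 LD2_c47 LD3_c31) Lrfl Lrfl
theorem f125247 : Led Lsl_af (LP (LK LD1_c2 LD2_c21 LD3_c37)) = (LP (LK LD1_c2 LD2_c17 LD3_c13)) :=
  Lgr Lrot117 (Lpr_dt (f86315 IH) (Lpr_at (f125223 IH) (Lpr_dt (f77895 IH) (Lpn (LP (LK LD1_c2 LD2_c17 LD3_c13))))))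
theorem f86319 : Led Lsl_bt (LP (LK LD1_c1 LD2_c29 LD3_c23)) = (LP (LK LD1_c2 LD2_c21 LD3_c40)) :=
  Lgr Lrot127 (Lpr_bf (K3.f86316 IH) (Lpn (LP (LK LD1_c2 LD2_c21 LD3_c40))))
theorem f113905 : Led Lsl_ft (LP (LK LD1_c2 LD2_c21 LD3_c40)) = (LP (LK LD1_c2 LD2_c17 LD3_c13)) :=
  Lgr Lrot75 (Lpe (f86319 IH) (Lpr_ff (K4.f113903 IH) (Lpe (K2.f77892 IH) (Lpn (LP (LK LD1_c2 LD2_c17 LD3_c13))))))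
theorem f86144 : Led Lsl_bt (LP (LK LD1_c1 LD2_c27 LD3_c11)) = (LP (LK LD1_c3 LD2_c2 LD3_c26)) :=
  Lre_b IH (LK LD1_c1 LD2_c27 LD3_c11) (LK LD1_c3 LD2_c2 LD3_c26) Lrfl Lrfl
theorem f106795 : Led Lsl_bt (LP (LK LD1_c1 LD2_c32 LD3_c15)) = (LP (LK LD1_c1 LD2_c46 LD3_c60)) :=
  Lgr Lrot128 (Lpr_cf (K3.f86063 IH) (Lpe (f86144 IH) (Lpr_cf (K3.f106709 IH) (Lpe (K3.f106719 IH) (Lpr_cf (K3.f106784 IH) (Lpn (LP (LK LD1_c1 LD2_c46 LD3_c60))))))))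
theorem f83953 : Led Lsl_bt (LP (LK LD1_c1 LD2_c29 LD3_c5)) = (LP (LK LD1_c1 LD2_c40 LD3_c32)) :=
  Lgr Lrot127 (Lpr_bf (K4.f83941 IH) (Lpn (LP (LK LD1_c1 LD2_c40 LD3_c32))))
theorem f120899 : Led Lsl_bf (LP (LK LD1_c3 LD2_c6 LD3_c0)) = (LP (LK LD1_c1 LD2_c48 LD3_c16)) :=
  Lgr Lrot90 (Lpr_ct (f78273 IH) (Lpr_bt (f83953 IH) (Lpr_ct (K4.f19177 IH) (Lpr_bt (K4.f83951 IH) (Lpr_ct (K4.f120894 IH) (Lpn (LP (LK LD1_c1 LD2_c48 LD3_c16))))))))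
theorem f125123 : Led Lsl_af (LP (LK LD1_c2 LD2_c21 LD3_c40)) = (LP (LK LD1_c3 LD2_c6 LD3_c0)) :=
  Lgr Lrot36 (Lpe (K3.f86316 IH) (Lpr_at (K4.f113911 IH) (Lpr_bt (f106795 IH) (Lpr_at (f125119 IH) (Lpe (f120899 IH) (Lpn (LP (LK LD1_c3 LD2_c6 LD3_c0))))))))
theorem f125253 : Led Lsl_ft (LP (LK LD1_c2 LD2_c21 LD3_c37)) = (LP (LK LD1_c3 LD2_c6 LD3_c0)) :=
  Lgr Lrot101 (Lpr_af (f125247 IH) (Lpe (f113905 IH) (Lpr_af (f125123 IH) (Lpn (LP (LK LD1_c3 LD2_c6 LD3_c0))))))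
theorem f125259 : Led Lsl_ff (LP (LK LD1_c2 LD2_c21 LD3_c37)) = (LP (LK LD1_c3 LD2_c6 LD3_c0)) :=
  Lgr Lrot3 (Lpr_ft (f125253 IH) (Lpn (LP (LK LD1_c3 LD2_c6 LD3_c0))))
theorem f114168 : Led Lsl_bt (LP (LK LD1_c1 LD2_c46 LD3_c59)) = (LP (LK LD1_c2 LD2_c21 LD3_c37)) :=
  Lgr Lrot127 (Lpr_bf (K4.f114166 IH) (Lpn (LP (LK LD1_c2 LD2_c21 LD3_c37))))
theorem f125201 : Led Lsl_at (LP (LK LD1_c2 LD2_c21 LD3_c37)) = (LP (LK LD1_c2 LD2_c17 LD3_c13)) :=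
  Lgr Lrot67 (Lpe (f114168 IH) (Lpr_af (f125179 IH) (Lpe (f125107 IH) (Lpr_af (K4.f113889 IH) (Lpe (K2.f77892 IH) (Lpn (LP (LK LD1_c2 LD2_c17 LD3_c13))))))))
theorem f125267 : Led Lsl_gf (LP (LK LD1_c2 LD2_c17 LD3_c13)) = (LP (LK LD1_c2 LD2_c20 LD3_c24)) :=
  Lgr Lrot76 (Lpe (f125201 IH) (Lpr_ff (f125259 IH) (Lpr_gt (K4.f120023 IH) (Lpn (LP (LK LD1_c2 LD2_c20 LD3_c24))))))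
theorem f125271 : Led Lsl_et (LP (LK LD1_c0 LD2_c42 LD3_c51)) = (LP (LK LD1_c0 LD2_c41 LD3_c31)) :=
  Lgr Lrot121 (Lpr_dt (K3.f91444 IH) (Lpr_gf (K3.f98881 IH) (Lpe (K2.f77801 IH) (Lpr_et (K2.f77898 IH) (Lpr_gf (f125267 IH) (Lpe (K2.f23494 IH) (Lpr_dt (K2.f23490 IH) (Lpe (K3.f103115 IH) (Lpe (K3.f13670 IH) (Lpe (K4.f77803 IH) (Lpn (LP (LK LD1_c0 LD2_c41 LD3_c31)))))))))))))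
theorem f66776 : Led Lsl_gt (LP (LK LD1_c2 LD2_c17 LD3_c9)) = (LP (LK LD1_c4 LD2_c40 LD3_c11)) :=
  Lre_g IH (LK LD1_c2 LD2_c17 LD3_c9) (LK LD1_c4 LD2_c40 LD3_c11) Lrfl Lrfl
theorem f66792 : Led Lsl_dt (LP (LK LD1_c4 LD2_c40 LD3_c11)) = (LP (LK LD1_c9 LD2_c15 LD3_c46)) :=
  Lre_d IH (LK LD1_c4 LD2_c40 LD3_c11) (LK LD1_c9 LD2_c15 LD3_c46) Lrfl Lrfl
theorem f102232 : Led Lsl_dt (LP (LK LD1_c4 LD2_c44 LD3_c41)) = (LP (LK LD1_c2 LD2_c20 LD3_c30)) :=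
  Lre_d IH (LK LD1_c4 LD2_c44 LD3_c41) (LK LD1_c2 LD2_c20 LD3_c30) Lrfl Lrfl
theorem f102240 : Led Lsl_gt (LP (LK LD1_c4 LD2_c45 LD3_c7)) = (LP (LK LD1_c4 LD2_c44 LD3_c41)) :=
  Lgr Lrot94 (Lpe (K3.f102040 IH) (Lpr_gt (K3.f102038 IH) (Lpr_dt (K1.f25402 IH) (Lpe (K3.f98930 IH) (Lpr_dt (K3.f98898 IH) (Lpe (K3.f98909 IH) (Lpe (K3.f98908 IH) (Lpr_gf (K3.f102230 IH) (Lpe (f102232 IH) (Lpn (LP (LK LD1_c4 LD2_c44 LD3_c41))))))))))))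
theorem f77806 : Led Lsl_dt (LP (LK LD1_c0 LD2_c41 LD3_c31)) = (LP (LK LD1_c1 LD2_c29 LD3_c50)) :=
  Lre_d IH (LK LD1_c0 LD2_c41 LD3_c31) (LK LD1_c1 LD2_c29 LD3_c50) Lrfl Lrfl
theorem f110437 : Led Lsl_gt (LP (LK LD1_c1 LD2_c5 LD3_c33)) = (LP (LK LD1_c0 LD2_c41 LD3_c31)) :=
  Lgr Lrot49 (Lpe (K2.f77802 IH) (Lpe (K2.f78004 IH) (Lpe (K3.f23550 IH) (Lpe (K3.f103169 IH) (Lpr_dt (K4.f61893 IH) (Lpr_gt (f102240 IH) (Lpr_dt (f102232 IH) (Lpr_cf (K4.f110383 IH) (Lpe (f77806 IH) (Lpn (LP (LK LD1_c0 LD2_c41 LD3_c31))))))))))))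
theorem f77972 : Led Lsl_et (LP (LK LD1_c2 LD2_c17 LD3_c13)) = (LP (LK LD1_c1 LD2_c5 LD3_c33)) :=
  Lre_e IH (LK LD1_c2 LD2_c17 LD3_c13) (LK LD1_c1 LD2_c5 LD3_c33) Lrfl Lrfl
theorem f77942 : Led Lsl_dt (LP (LK LD1_c2 LD2_c17 LD3_c13)) = (LP (LK LD1_c4 LD2_c40 LD3_c15)) :=
  Lre_d IH (LK LD1_c2 LD2_c17 LD3_c13) (LK LD1_c4 LD2_c40 LD3_c15) Lrfl Lrfl
theorem f125285 : Led Lsl_gt (LP (LK LD1_c9 LD2_c15 LD3_c46)) = (LP (LK LD1_c4 LD2_c40 LD3_c15)) :=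
  Lgr Lrot139 (Lpe (f66792 IH) (Lpe (f66776 IH) (Lpe (K3.f66793 IH) (Lpr_dt (K3.f13670 IH) (Lpe (f98842 IH) (Lpe (K3.f91444 IH) (Lpr_et (f125271 IH) (Lpe (f110437 IH) (Lpe (f77972 IH) (Lpr_dt (f77942 IH) (Lpn (LP (LK LD1_c4 LD2_c40 LD3_c15)))))))))))))
theorem f102286 : Led Lsl_et (LP (LK LD1_c1 LD2_c7 LD3_c34)) = (LP (LK LD1_c2 LD2_c20 LD3_c29)) :=
  Lre_e IH (LK LD1_c1 LD2_c7 LD3_c34) (LK LD1_c2 LD2_c20 LD3_c29) Lrfl Lrfl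
theorem f99107 : Led Lsl_ft (LP (LK LD1_c0 LD2_c13 LD3_c46)) = (LP (LK LD1_c0 LD2_c31 LD3_c0)) :=
  Lre_f IH (LK LD1_c0 LD2_c13 LD3_c46) (LK LD1_c0 LD2_c31 LD3_c0) Lrfl Lrfl
theorem f99108 : Led Lsl_et (LP (LK LD1_c0 LD2_c31 LD3_c0)) = (LP (LK LD1_c1 LD2_c7 LD3_c37)) :=
  Lre_e IH (LK LD1_c0 LD2_c31 LD3_c0) (LK LD1_c1 LD2_c7 LD3_c37) Lrfl Lrfl
theorem f99110 : Led Lsl_et (LP (LK LD1_c1 LD2_c7 LD3_c37)) = (LP (LK LD1_c0 LD2_c31 LD3_c0)) :=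
  Lre_e IH (LK LD1_c1 LD2_c7 LD3_c37) (LK LD1_c0 LD2_c31 LD3_c0) Lrfl Lrfl
theorem f99111 : Led Lsl_ft (LP (LK LD1_c1 LD2_c7 LD3_c37)) = (LP (LK LD1_c1 LD2_c7 LD3_c37)) :=
  Lgr Lrot86 (Lpe (f99108 IH) (Lpe (f99107 IH) (Lpr_ef (K3.f99095 IH) (Lpe (K3.f99109 IH) (Lpe (f99110 IH) (Lpn (LP (LK LD1_c1 LD2_c7 LD3_c37))))))))
theorem f102273 : Led Lsl_ct (LP (LK LD1_c2 LD2_c20 LD3_c29)) = (LP (LK LD1_c1 LD2_c7 LD3_c37)) :=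
  Lre_c IH (LK LD1_c2 LD2_c20 LD3_c29) (LK LD1_c1 LD2_c7 LD3_c37) Lrfl Lrfl
theorem f102274 : Led Lsl_ct (LP (LK LD1_c1 LD2_c7 LD3_c37)) = (LP (LK LD1_c2 LD2_c20 LD3_c29)) :=
  Lre_c IH (LK LD1_c1 LD2_c7 LD3_c37) (LK LD1_c2 LD2_c20 LD3_c29) Lrfl Lrfl
theorem f102275 : Led Lsl_ff (LP (LK LD1_c2 LD2_c20 LD3_c29)) = (LP (LK LD1_c2 LD2_c20 LD3_c29)) :=
  Lgr Lrot23 (Lpr_ct (f102273 IH) (Lpr_ft (f99111 IH) (Lpr_ct (f102274 IH) (Lpn (LP (LK LD1_c2 LD2_c20 LD3_c29))))))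
theorem f102280 : Led Lsl_at (LP (LK LD1_c2 LD2_c20 LD3_c29)) = (LP (LK LD1_c1 LD2_c7 LD3_c39)) :=
  Lre_a IH (LK LD1_c2 LD2_c20 LD3_c29) (LK LD1_c1 LD2_c7 LD3_c39) Lrfl Lrfl
theorem f102287 : Led Lsl_gt (LP (LK LD1_c2 LD2_c20 LD3_c36)) = (LP (LK LD1_c1 LD2_c7 LD3_c39)) :=
  Lre_g IH (LK LD1_c2 LD2_c20 LD3_c36) (LK LD1_c1 LD2_c7 LD3_c39) Lrfl Lrfl
theorem f102288 : Led Lsl_gf (LP (LK LD1_c2 LD2_c20 LD3_c36)) = (LP (LK LD1_c2 LD2_c20 LD3_c29)) :=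
  Lgr Lrot47 (Lpr_gt (f102287 IH) (Lpe (f102280 IH) (Lpr_ff (f102275 IH) (Lpn (LP (LK LD1_c2 LD2_c20 LD3_c29))))))
theorem f125290 : Led Lsl_et (LP (LK LD1_c4 LD2_c40 LD3_c11)) = (LP (LK LD1_c2 LD2_c20 LD3_c36)) :=
  Lgr Lrot122 (Lpr_dt (f66792 IH) (Lpr_gt (f125285 IH) (Lpe (f77942 IH) (Lpr_et (f77972 IH) (Lpr_gt (f110437 IH) (Lpr_dt (f77806 IH) (Lpe (K4.f110381 IH) (Lpe (K4.f102291 IH) (Lpr_et (f102286 IH) (Lpe (f102288 IH) (Lpn (LP (LK LD1_c2 LD2_c20 LD3_c36)))))))))))))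
theorem f78271 : Led Lsl_dt (LP (LK LD1_c3 LD2_c6 LD3_c0)) = (LP (LK LD1_c6 LD2_c17 LD3_c37)) :=
  Lre_d IH (LK LD1_c3 LD2_c6 LD3_c0) (LK LD1_c6 LD2_c17 LD3_c37) Lrfl Lrfl
theorem f125257 : Led Lsl_ff (LP (LK LD1_c4 LD2_c47 LD3_c31)) = (LP (LK LD1_c6 LD2_c17 LD3_c37)) :=
  Lgr Lrot19 (Lpr_dt (f86314 IH) (Lpr_ft (f125253 IH) (Lpr_dt (f78271 IH) (Lpn (LP (LK LD1_c6 LD2_c17 LD3_c37))))))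
theorem f125287 : Led Lsl_gf (LP (LK LD1_c9 LD2_c15 LD3_c46)) = (LP (LK LD1_c6 LD2_c17 LD3_c37)) :=
  Lgr Lrot47 (Lpr_gt (f125285 IH) (Lpe (f125223 IH) (Lpr_ff (f125257 IH) (Lpn (LP (LK LD1_c6 LD2_c17 LD3_c37))))))
theorem f102292 : Led Lsl_et (LP (LK LD1_c0 LD2_c31 LD3_c2)) = (LP (LK LD1_c1 LD2_c7 LD3_c39)) :=
  Lre_e IH (LK LD1_c0 LD2_c31 LD3_c2) (LK LD1_c1 LD2_c7 LD3_c39) Lrfl Lrfl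
theorem f120006 : Led Lsl_gf (LP (LK LD1_c1 LD2_c32 LD3_c37)) = (LP (LK LD1_c1 LD2_c7 LD3_c38)) :=
  Lgr Lrot47 (Lpr_gt (K4.f119997 IH) (Lpe (K3.f98906 IH) (Lpe (K3.f98907 IH) (Lpn (LP (LK LD1_c1 LD2_c7 LD3_c38))))))
theorem f61658 : Led Lsl_et (LP (LK LD1_c1 LD2_c6 LD3_c39)) = (LP (LK LD1_c2 LD2_c19 LD3_c4)) :=
  Lre_e IH (LK LD1_c1 LD2_c6 LD3_c39) (LK LD1_c2 LD2_c19 LD3_c4) Lrfl Lrfl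
theorem f125294 : Led Lsl_gf (LP (LK LD1_c3 LD2_c6 LD3_c0)) = (LP (LK LD1_c2 LD2_c19 LD3_c4)) :=
  Lgr Lrot138 (Lpr_dt (f78271 IH) (Lpe (f125287 IH) (Lpe (f66792 IH) (Lpr_et (f125290 IH) (Lpr_gt (f102287 IH) (Lpe (f102292 IH) (Lpr_dt (K3.f23499 IH) (Lpe (f120006 IH) (Lpr_df (K4.f120010 IH) (Lpr_et (f61658 IH) (Lpn (LP (LK LD1_c2 LD2_c19 LD3_c4)))))))))))))
theorem f105948 : Led Lsl_bt (LP (LK LD1_c0 LD2_c51 LD3_c5)) = (LP (LK LD1_c1 LD2_c48 LD3_c35)) :=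
  Lre_b IH (LK LD1_c0 LD2_c51 LD3_c5) (LK LD1_c1 LD2_c48 LD3_c35) Lrfl Lrfl
theorem f86734 : Led Lsl_ct (LP (LK LD1_c0 LD2_c51 LD3_c5)) = (LP (LK LD1_c0 LD2_c49 LD3_c42)) :=
  Lre_c IH (LK LD1_c0 LD2_c51 LD3_c5) (LK LD1_c0 LD2_c49 LD3_c42) Lrfl Lrfl
theorem f61645 : Led Lsl_et (LP (LK LD1_c2 LD2_c17 LD3_c7)) = (LP (LK LD1_c4 LD2_c40 LD3_c9)) :=
  Lre_e IH (LK LD1_c2 LD2_c17 LD3_c7) (LK LD1_c4 LD2_c40 LD3_c9) Lrfl Lrfl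
theorem f61646 : Led Lsl_et (LP (LK LD1_c2 LD2_c19 LD3_c4)) = (LP (LK LD1_c1 LD2_c6 LD3_c39)) :=
  Lre_e IH (LK LD1_c2 LD2_c19 LD3_c4) (LK LD1_c1 LD2_c6 LD3_c39) Lrfl Lrfl
theorem f61647 : Led Lsl_ct (LP (LK LD1_c4 LD2_c40 LD3_c9)) = (LP (LK LD1_c2 LD2_c19 LD3_c4)) :=
  Lgr Lrot15 (Lpe (f61645 IH) (Lpr_cf (K3.f61639 IH) (Lpe (f61646 IH) (Lpn (LP (LK LD1_c2 LD2_c19 LD3_c4))))))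
theorem f125298 : Led Lsl_gt (LP (LK LD1_c2 LD2_c21 LD3_c37)) = (LP (LK LD1_c4 LD2_c40 LD3_c9)) :=
  Lgr Lrot82 (Lpe (f114168 IH) (Lpr_ct (K4.f114170 IH) (Lpr_gf (K4.f105940 IH) (Lpe (f86734 IH) (Lpr_bt (f105948 IH) (Lpr_gf (K4.f106364 IH) (Lpe (f83953 IH) (Lpr_ct (K4.f25756 IH) (Lpr_gf (f125294 IH) (Lpe (f61647 IH) (Lpn (LP (LK LD1_c4 LD2_c40 LD3_c9)))))))))))))
theorem f25009 : Led Lsl_dt (LP (LK LD1_c0 LD2_c31 LD3_c11)) = (LP (LK LD1_c1 LD2_c8 LD3_c2)) :=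
  Lre_d IH (LK LD1_c0 LD2_c31 LD3_c11) (LK LD1_c1 LD2_c8 LD3_c2) Lrfl Lrfl
theorem f66786 : Led Lsl_gt (LP (LK LD1_c4 LD2_c40 LD3_c13)) = (LP (LK LD1_c9 LD2_c15 LD3_c47)) :=
  Lre_g IH (LK LD1_c4 LD2_c40 LD3_c13) (LK LD1_c9 LD2_c15 LD3_c47) Lrfl Lrfl
theorem f61654 : Led Lsl_dt (LP (LK LD1_c4 LD2_c43 LD3_c0)) = (LP (LK LD1_c2 LD2_c19 LD3_c4)) :=
  Lre_d IH (LK LD1_c4 LD2_c43 LD3_c0) (LK LD1_c2 LD2_c19 LD3_c4) Lrfl Lrfl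
theorem f125302 : Led Lsl_ct (LP (LK LD1_c9 LD2_c15 LD3_c47)) = (LP (LK LD1_c4 LD2_c43 LD3_c0)) :=
  Lgr Lrot110 (Lpe (f66786 IH) (Lpe (K4.f66779 IH) (Lpr_gf (K4.f79569 IH) (Lpe (f25009 IH) (Lpr_gt (K4.f7474 IH) (Lpr_ct (K4.f79593 IH) (Lpr_gt (f125298 IH) (Lpr_ct (f61647 IH) (Lpe (f61654 IH) (Lpn (LP (LK LD1_c4 LD2_c43 LD3_c0))))))))))))
theorem f79586 : Led Lsl_dt (LP (LK LD1_c17 LD2_c10 LD3_c11)) = (LP (LK LD1_c9 LD2_c15 LD3_c47)) :=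
  Lre_d IH (LK LD1_c17 LD2_c10 LD3_c11) (LK LD1_c9 LD2_c15 LD3_c47) Lrfl Lrfl
theorem f12552 : Led Lsl_gt (LP (LK LD1_c1 LD2_c46 LD3_c61)) = (LP (LK LD1_c3 LD2_c40 LD3_c0)) :=
  Lre_g IH (LK LD1_c1 LD2_c46 LD3_c61) (LK LD1_c3 LD2_c40 LD3_c0) Lrfl Lrfl
theorem f115093 : Led Lsl_dt (LP (LK LD1_c3 LD2_c40 LD3_c0)) = (LP (LK LD1_c3 LD2_c25 LD3_c14)) :=
  Lgr Lrot105 (Lpe (f12552 IH) (Lpe (K1.f12432 IH) (Lpe (K3.f12441 IH) (Lpe (K3.f106780 IH) (Lpr_gt (K3.f86738 IH) (Lpr_dt (K3.f65537 IH) (Lpr_gt (K4.f115089 IH) (Lpr_dt (K4.f12102 IH) (Lpe (K3.f12094 IH) (Lpn (LP (LK LD1_c3 LD2_c25 LD3_c14))))))))))))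
theorem f66790 : Led Lsl_dt (LP (LK LD1_c2 LD2_c17 LD3_c9)) = (LP (LK LD1_c4 LD2_c40 LD3_c12)) :=
  Lre_d IH (LK LD1_c2 LD2_c17 LD3_c9) (LK LD1_c4 LD2_c40 LD3_c12) Lrfl Lrfl
theorem f115135 : Led Lsl_bf (LP (LK LD1_c3 LD2_c40 LD3_c0)) = (LP (LK LD1_c4 LD2_c40 LD3_c12)) :=
  Lgr Lrot93 (Lpr_dt (f115093 IH) (Lpe (K3.f66768 IH) (Lpr_dt (f66790 IH) (Lpn (LP (LK LD1_c4 LD2_c40 LD3_c12))))))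
theorem f12442 : Led Lsl_bf (LP (LK LD1_c1 LD2_c46 LD3_c61)) = (LP (LK LD1_c1 LD2_c49 LD3_c41)) :=
  Lgr Lrot24 (Lpr_bt (K1.f12434 IH) (Lpn (LP (LK LD1_c1 LD2_c49 LD3_c41))))
theorem f12446 : Led Lsl_ct (LP (LK LD1_c1 LD2_c49 LD3_c41)) = (LP (LK LD1_c3 LD2_c45 LD3_c8)) :=
  Lre_c IH (LK LD1_c1 LD2_c49 LD3_c41) (LK LD1_c3 LD2_c45 LD3_c8) Lrfl Lrfl
theorem f12512 : Led Lsl_ct (LP (LK LD1_c3 LD2_c45 LD3_c8)) = (LP (LK LD1_c1 LD2_c49 LD3_c41)) :=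
  Lre_c IH (LK LD1_c3 LD2_c45 LD3_c8) (LK LD1_c1 LD2_c49 LD3_c41) Lrfl Lrfl
theorem f114162 : Led Lsl_gf (LP (LK LD1_c3 LD2_c45 LD3_c8)) = (LP (LK LD1_c3 LD2_c18 LD3_c52)) :=
  Lgr Lrot104 (Lpr_ct (f12512 IH) (Lpe (K3.f12551 IH) (Lpe (K3.f105732 IH) (Lpr_gf (K4.f114154 IH) (Lpe (K4.f12636 IH) (Lpe (K4.f12639 IH) (Lpe (K3.f85294 IH) (Lpr_gt (K4.f86282 IH) (Lpr_ct (K4.f114161 IH) (Lpn (LP (LK LD1_c3 LD2_c18 LD3_c52))))))))))))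
theorem f58142 : Led Lsl_bt (LP (LK LD1_c1 LD2_c34 LD3_c15)) = (LP (LK LD1_c2 LD2_c20 LD3_c19)) :=
  Lre_b IH (LK LD1_c1 LD2_c34 LD3_c15) (LK LD1_c2 LD2_c20 LD3_c19) Lrfl Lrfl
theorem f58143 : Led Lsl_ft (LP (LK LD1_c3 LD2_c1 LD3_c24)) = (LP (LK LD1_c1 LD2_c34 LD3_c15)) :=
  Lre_f IH (LK LD1_c3 LD2_c1 LD3_c24) (LK LD1_c1 LD2_c34 LD3_c15) Lrfl Lrfl
theorem f58144 : Led Lsl_bf (LP (LK LD1_c3 LD2_c1 LD3_c24)) = (LP (LK LD1_c3 LD2_c5 LD3_c55)) :=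
  Lgr Lrot61 (Lpr_ft (f58143 IH) (Lpr_bt (f58142 IH) (Lpr_ft (K1.f58115 IH) (Lpn (LP (LK LD1_c3 LD2_c5 LD3_c55))))))
theorem f58056 : Led Lsl_ct (LP (LK LD1_c3 LD2_c5 LD3_c55)) = (LP (LK LD1_c6 LD2_c17 LD3_c24)) :=
  Lre_c IH (LK LD1_c3 LD2_c5 LD3_c55) (LK LD1_c6 LD2_c17 LD3_c24) Lrfl Lrfl
theorem f58052 : Led Lsl_gt (LP (LK LD1_c2 LD2_c21 LD3_c43)) = (LP (LK LD1_c4 LD2_c47 LD3_c39)) :=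
  Lre_g IH (LK LD1_c2 LD2_c21 LD3_c43) (LK LD1_c4 LD2_c47 LD3_c39) Lrfl Lrfl
theorem f58042 : Led Lsl_at (LP (LK LD1_c3 LD2_c6 LD3_c3)) = (LP (LK LD1_c6 LD2_c17 LD3_c24)) :=
  Lre_a IH (LK LD1_c3 LD2_c6 LD3_c3) (LK LD1_c6 LD2_c17 LD3_c24) Lrfl Lrfl
theorem f58053 : Led Lsl_gt (LP (LK LD1_c4 LD2_c47 LD3_c39)) = (LP (LK LD1_c6 LD2_c17 LD3_c24)) :=
  Lgr Lrot46 (Lpe (f58052 IH) (Lpr_ft (K1.f58019 IH) (Lpr_at (f58042 IH) (Lpn (LP (LK LD1_c6 LD2_c17 LD3_c24))))))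
theorem f115147 : Led Lsl_cf (LP (LK LD1_c4 LD2_c47 LD3_c39)) = (LP (LK LD1_c4 LD2_c40 LD3_c12)) :=
  Lgr Lrot160 (Lpr_gt (f58053 IH) (Lpe (f58056 IH) (Lpe (f58144 IH) (Lpr_gt (K4.f86282 IH) (Lpr_ct (K4.f114161 IH) (Lpe (f114162 IH) (Lpe (f12446 IH) (Lpe (f12442 IH) (Lpr_gt (f12552 IH) (Lpr_bf (f115135 IH) (Lpn (LP (LK LD1_c4 LD2_c40 LD3_c12)))))))))))))
theorem f58059 : Led Lsl_dt (LP (LK LD1_c4 LD2_c47 LD3_c39)) = (LP (LK LD1_c9 LD2_c28 LD3_c16)) :=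
  Lre_d IH (LK LD1_c4 LD2_c47 LD3_c39) (LK LD1_c9 LD2_c28 LD3_c16) Lrfl Lrfl
theorem f66775 : Led Lsl_ct (LP (LK LD1_c1 LD2_c5 LD3_c31)) = (LP (LK LD1_c2 LD2_c17 LD3_c9)) :=
  Lre_c IH (LK LD1_c1 LD2_c5 LD3_c31) (LK LD1_c2 LD2_c17 LD3_c9) Lrfl Lrfl
theorem f66781 : Led Lsl_ct (LP (LK LD1_c4 LD2_c40 LD3_c13)) = (LP (LK LD1_c2 LD2_c17 LD3_c10)) :=
  Lre_c IH (LK LD1_c4 LD2_c40 LD3_c13) (LK LD1_c2 LD2_c17 LD3_c10) Lrfl Lrfl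
theorem f66784 : Led Lsl_dt (LP (LK LD1_c9 LD2_c15 LD3_c50)) = (LP (LK LD1_c4 LD2_c40 LD3_c13)) :=
  Lre_d IH (LK LD1_c9 LD2_c15 LD3_c50) (LK LD1_c4 LD2_c40 LD3_c13) Lrfl Lrfl
theorem f113467 : Led Lsl_ff (LP (LK LD1_c3 LD2_c6 LD3_c2)) = (LP (LK LD1_c2 LD2_c17 LD3_c10)) :=
  Lgr Lrot3 (Lpr_ft (K4.f113462 IH) (Lpn (LP (LK LD1_c2 LD2_c17 LD3_c10))))
theorem f113477 : Led Lsl_ft (LP (LK LD1_c6 LD2_c17 LD3_c40)) = (LP (LK LD1_c4 LD2_c40 LD3_c13)) :=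
  Lgr Lrot4 (Lpe (K4.f84020 IH) (Lpr_ff (f113467 IH) (Lpe (f66781 IH) (Lpn (LP (LK LD1_c4 LD2_c40 LD3_c13))))))
theorem f84039 : Led Lsl_dt (LP (LK LD1_c12 LD2_c11 LD3_c46)) = (LP (LK LD1_c6 LD2_c17 LD3_c40)) :=
  Lre_d IH (LK LD1_c12 LD2_c11 LD3_c46) (LK LD1_c6 LD2_c17 LD3_c40) Lrfl Lrfl
theorem f78442 : Led Lsl_dt (LP (LK LD1_c4 LD2_c40 LD3_c13)) = (LP (LK LD1_c9 LD2_c15 LD3_c50)) :=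
  Lre_d IH (LK LD1_c4 LD2_c40 LD3_c13) (LK LD1_c9 LD2_c15 LD3_c50) Lrfl Lrfl
theorem f113483 : Led Lsl_ff (LP (LK LD1_c12 LD2_c11 LD3_c46)) = (LP (LK LD1_c9 LD2_c15 LD3_c50)) :=
  Lgr Lrot19 (Lpr_dt (f84039 IH) (Lpr_ft (f113477 IH) (Lpr_dt (f78442 IH) (Lpn (LP (LK LD1_c9 LD2_c15 LD3_c50))))))
theorem f113435 : Led Lsl_af (LP (LK LD1_c6 LD2_c17 LD3_c19)) = (LP (LK LD1_c4 LD2_c40 LD3_c13)) :=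
  Lgr Lrot68 (Lpr_ct (K4.f99121 IH) (Lpr_at (K4.f113431 IH) (Lpr_ct (K4.f66779 IH) (Lpn (LP (LK LD1_c4 LD2_c40 LD3_c13))))))
theorem f99117 : Led Lsl_ct (LP (LK LD1_c3 LD2_c5 LD3_c52)) = (LP (LK LD1_c6 LD2_c17 LD3_c19)) :=
  Lre_c IH (LK LD1_c3 LD2_c5 LD3_c52) (LK LD1_c6 LD2_c17 LD3_c19) Lrfl Lrfl
theorem f113443 : Led Lsl_ft (LP (LK LD1_c6 LD2_c17 LD3_c19)) = (LP (LK LD1_c4 LD2_c47 LD3_c37)) :=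
  Lgr Lrot4 (Lpe (f99117 IH) (Lpr_ff (K4.f113439 IH) (Lpe (K4.f58132 IH) (Lpn (LP (LK LD1_c4 LD2_c47 LD3_c37))))))
theorem f113479 : Led Lsl_af (LP (LK LD1_c6 LD2_c17 LD3_c40)) = (LP (LK LD1_c4 LD2_c47 LD3_c37)) :=
  Lgr Lrot45 (Lpr_ft (f113477 IH) (Lpe (f113435 IH) (Lpr_ft (f113443 IH) (Lpn (LP (LK LD1_c4 LD2_c47 LD3_c37))))))
theorem f84040 : Led Lsl_dt (LP (LK LD1_c6 LD2_c17 LD3_c40)) = (LP (LK LD1_c12 LD2_c11 LD3_c46)) :=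
  Lre_d IH (LK LD1_c6 LD2_c17 LD3_c40) (LK LD1_c12 LD2_c11 LD3_c46) Lrfl Lrfl
theorem f58123 : Led Lsl_dt (LP (LK LD1_c9 LD2_c28 LD3_c13)) = (LP (LK LD1_c4 LD2_c47 LD3_c37)) :=
  Lre_d IH (LK LD1_c9 LD2_c28 LD3_c13) (LK LD1_c4 LD2_c47 LD3_c37) Lrfl Lrfl
theorem f113552 : Led Lsl_at (LP (LK LD1_c12 LD2_c11 LD3_c46)) = (LP (LK LD1_c9 LD2_c28 LD3_c13)) :=
  Lgr Lrot51 (Lpe (f84040 IH) (Lpr_af (f113479 IH) (Lpe (f58123 IH) (Lpn (LP (LK LD1_c9 LD2_c28 LD3_c13))))))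
theorem f115155 : Led Lsl_ct (LP (LK LD1_c9 LD2_c28 LD3_c16)) = (LP (LK LD1_c9 LD2_c28 LD3_c13)) :=
  Lgr Lrot98 (Lpe (f58059 IH) (Lpr_cf (f115147 IH) (Lpe (f66790 IH) (Lpe (f66775 IH) (Lpe (K3.f66770 IH) (Lpe (f66781 IH) (Lpe (f66784 IH) (Lpe (f113483 IH) (Lpr_at (f113552 IH) (Lpn (LP (LK LD1_c9 LD2_c28 LD3_c13))))))))))))
theorem f86567 : Led Lsl_gt (LP (LK LD1_c9 LD2_c28 LD3_c25)) = (LP (LK LD1_c4 LD2_c47 LD3_c42)) :=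
  Lre_g IH (LK LD1_c9 LD2_c28 LD3_c25) (LK LD1_c4 LD2_c47 LD3_c42) Lrfl Lrfl
theorem f66787 : Led Lsl_gt (LP (LK LD1_c9 LD2_c15 LD3_c48)) = (LP (LK LD1_c4 LD2_c40 LD3_c13)) :=
  Lre_g IH (LK LD1_c9 LD2_c15 LD3_c48) (LK LD1_c4 LD2_c40 LD3_c13) Lrfl Lrfl
theorem f113616 : Led Lsl_gt (LP (LK LD1_c4 LD2_c47 LD3_c37)) = (LP (LK LD1_c9 LD2_c15 LD3_c48)) :=
  Lgr Lrot5 (Lpe (K4.f113450 IH) (Lpr_at (K4.f113588 IH) (Lpe (f66787 IH) (Lpn (LP (LK LD1_c9 LD2_c15 LD3_c48))))))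
theorem f79597 : Led Lsl_dt (LP (LK LD1_c1 LD2_c8 LD3_c2)) = (LP (LK LD1_c0 LD2_c31 LD3_c11)) :=
  Lre_d IH (LK LD1_c1 LD2_c8 LD3_c2) (LK LD1_c0 LD2_c31 LD3_c11) Lrfl Lrfl
theorem f7475 : Led Lsl_dt (LP (LK LD1_c1 LD2_c8 LD3_c0)) = (LP (LK LD1_c2 LD2_c21 LD3_c38)) :=
  Lre_d IH (LK LD1_c1 LD2_c8 LD3_c0) (LK LD1_c2 LD2_c21 LD3_c38) Lrfl Lrfl
theorem f7476 : Led Lsl_ct (LP (LK LD1_c2 LD2_c21 LD3_c38)) = (LP (LK LD1_c4 LD2_c47 LD3_c32)) :=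
  Lre_c IH (LK LD1_c2 LD2_c21 LD3_c38) (LK LD1_c4 LD2_c47 LD3_c32) Lrfl Lrfl
theorem f102195 : Led Lsl_dt (LP (LK LD1_c9 LD2_c28 LD3_c7)) = (LP (LK LD1_c4 LD2_c47 LD3_c32)) :=
  Lre_d IH (LK LD1_c9 LD2_c28 LD3_c7) (LK LD1_c4 LD2_c47 LD3_c32) Lrfl Lrfl
theorem f79573 : Led Lsl_dt (LP (LK LD1_c9 LD2_c15 LD3_c48)) = (LP (LK LD1_c17 LD2_c10 LD3_c13)) :=
  Lre_d IH (LK LD1_c9 LD2_c15 LD3_c48) (LK LD1_c17 LD2_c10 LD3_c13) Lrfl Lrfl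
theorem f113618 : Led Lsl_gf (LP (LK LD1_c9 LD2_c28 LD3_c7)) = (LP (LK LD1_c17 LD2_c10 LD3_c13)) :=
  Lgr Lrot143 (Lpr_dt (f102195 IH) (Lpe (f7476 IH) (Lpe (f7475 IH) (Lpe (K4.f7474 IH) (Lpe (f79597 IH) (Lpe (K4.f58117 IH) (Lpe (K4.f58132 IH) (Lpr_gt (f113616 IH) (Lpr_dt (f79573 IH) (Lpn (LP (LK LD1_c17 LD2_c10 LD3_c13))))))))))))
theorem f85762 : Led Lsl_bt (LP (LK LD1_c17 LD2_c28 LD3_c21)) = (LP (LK LD1_c9 LD2_c28 LD3_c26)) :=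
  Lre_b IH (LK LD1_c17 LD2_c28 LD3_c21) (LK LD1_c9 LD2_c28 LD3_c26) Lrfl Lrfl
theorem f85806 : Led Lsl_dt (LP (LK LD1_c9 LD2_c28 LD3_c26)) = (LP (LK LD1_c6 LD2_c17 LD3_c24)) :=
  Lgr Lrot79 (Lpe (f85762 IH) (Lpr_df (K3.f85787 IH) (Lpe (K3.f58091 IH) (Lpn (LP (LK LD1_c6 LD2_c17 LD3_c24))))))
theorem f58016 : Led Lsl_ct (LP (LK LD1_c4 LD2_c47 LD3_c42)) = (LP (LK LD1_c9 LD2_c28 LD3_c26)) :=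
  Lre_c IH (LK LD1_c4 LD2_c47 LD3_c42) (LK LD1_c9 LD2_c28 LD3_c26) Lrfl Lrfl
theorem f113621 : Led Lsl_ct (LP (LK LD1_c9 LD2_c28 LD3_c7)) = (LP (LK LD1_c9 LD2_c28 LD3_c25)) :=
  Lgr Lrot152 (Lpr_gf (f113618 IH) (Lpe (f79573 IH) (Lpr_gt (f66787 IH) (Lpr_ct (f66781 IH) (Lpr_gt (K4.f79567 IH) (Lpr_ct (f58056 IH) (Lpe (f85806 IH) (Lpe (f58016 IH) (Lpe (f86567 IH) (Lpn (LP (LK LD1_c9 LD2_c28 LD3_c25))))))))))))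
theorem f58122 : Led Lsl_dt (LP (LK LD1_c4 LD2_c47 LD3_c37)) = (LP (LK LD1_c9 LD2_c28 LD3_c13)) :=
  Lre_d IH (LK LD1_c4 LD2_c47 LD3_c37) (LK LD1_c9 LD2_c28 LD3_c13) Lrfl Lrfl
theorem f113590 : Led Lsl_gf (LP (LK LD1_c4 LD2_c47 LD3_c37)) = (LP (LK LD1_c9 LD2_c15 LD3_c47)) :=
  Lgr Lrot76 (Lpe (K4.f113457 IH) (Lpr_ff (K4.f113464 IH) (Lpr_gt (f66786 IH) (Lpn (LP (LK LD1_c9 LD2_c15 LD3_c47))))))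
theorem f115168 : Led Lsl_gt (LP (LK LD1_c9 LD2_c28 LD3_c7)) = (LP (LK LD1_c17 LD2_c10 LD3_c11)) :=
  Lgr Lrot180 (Lpr_ct (f113621 IH) (Lpr_gt (f86567 IH) (Lpr_dt (K1.f58017 IH) (Lpr_gt (f58052 IH) (Lpr_dt (f58059 IH) (Lpr_ct (f115155 IH) (Lpe (f58122 IH) (Lpr_gf (f113590 IH) (Lpe (f79586 IH) (Lpn (LP (LK LD1_c17 LD2_c10 LD3_c11))))))))))))
theorem f102199 : Led Lsl_dt (LP (LK LD1_c4 LD2_c47 LD3_c32)) = (LP (LK LD1_c9 LD2_c28 LD3_c7)) :=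
  Lre_d IH (LK LD1_c4 LD2_c47 LD3_c32) (LK LD1_c9 LD2_c28 LD3_c7) Lrfl Lrfl
theorem f102204 : Led Lsl_gt (LP (LK LD1_c9 LD2_c28 LD3_c5)) = (LP (LK LD1_c4 LD2_c47 LD3_c32)) :=
  Lre_g IH (LK LD1_c9 LD2_c28 LD3_c5) (LK LD1_c4 LD2_c47 LD3_c32) Lrfl Lrfl
theorem f61653 : Led Lsl_dt (LP (LK LD1_c2 LD2_c19 LD3_c4)) = (LP (LK LD1_c4 LD2_c43 LD3_c0)) :=
  Lre_d IH (LK LD1_c2 LD2_c19 LD3_c4) (LK LD1_c4 LD2_c43 LD3_c0) Lrfl Lrfl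
theorem f120021 : Led Lsl_gf (LP (LK LD1_c2 LD2_c19 LD3_c4)) = (LP (LK LD1_c2 LD2_c17 LD3_c13)) :=
  Lgr Lrot141 (Lpe (f61658 IH) (Lpe (K4.f120010 IH) (Lpr_gt (K4.f119997 IH) (Lpe (K3.f98838 IH) (Lpr_et (K3.f99102 IH) (Lpr_gt (K2.f23504 IH) (Lpr_dt (K2.f23490 IH) (Lpr_gt (K2.f78004 IH) (Lpe (K2.f77801 IH) (Lpr_et (K2.f77898 IH) (Lpn (LP (LK LD1_c2 LD2_c17 LD3_c13)))))))))))))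
theorem f125306 : Led Lsl_cf (LP (LK LD1_c9 LD2_c28 LD3_c5)) = (LP (LK LD1_c9 LD2_c15 LD3_c46)) :=
  Lgr Lrot166 (Lpr_gt (f102204 IH) (Lpr_dt (f102199 IH) (Lpr_gt (f115168 IH) (Lpr_dt (f79586 IH) (Lpr_ct (f125302 IH) (Lpe (f61653 IH) (Lpr_gf (f120021 IH) (Lpe (f77895 IH) (Lpe (f125285 IH) (Lpn (LP (LK LD1_c9 LD2_c15 LD3_c46))))))))))))
theorem f102202 : Led Lsl_ct (LP (LK LD1_c4 LD2_c47 LD3_c32)) = (LP (LK LD1_c2 LD2_c21 LD3_c38)) :=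
  Lre_c IH (LK LD1_c4 LD2_c47 LD3_c32) (LK LD1_c2 LD2_c21 LD3_c38) Lrfl Lrfl
theorem f102185 : Led Lsl_dt (LP (LK LD1_c2 LD2_c21 LD3_c38)) = (LP (LK LD1_c1 LD2_c8 LD3_c0)) :=
  Lre_d IH (LK LD1_c2 LD2_c21 LD3_c38) (LK LD1_c1 LD2_c8 LD3_c0) Lrfl Lrfl
theorem f120030 : Led Lsl_cf (LP (LK LD1_c2 LD2_c19 LD3_c23)) = (LP (LK LD1_c2 LD2_c20 LD3_c24)) :=
  Lgr Lrot11 (Lpr_ct (K4.f120025 IH) (Lpn (LP (LK LD1_c2 LD2_c20 LD3_c24))))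
theorem f125312 : Led Lsl_gf (LP (LK LD1_c2 LD2_c21 LD3_c37)) = (LP (LK LD1_c2 LD2_c19 LD3_c23)) :=
  Lgr Lrot104 (Lpr_ct (K4.f86318 IH) (Lpe (f102185 IH) (Lpe (f102202 IH) (Lpe (f102204 IH) (Lpr_cf (f125306 IH) (Lpr_gf (f125287 IH) (Lpe (f78271 IH) (Lpr_gt (K4.f120023 IH) (Lpe (f120030 IH) (Lpn (LP (LK LD1_c2 LD2_c19 LD3_c23))))))))))))
theorem f125314 : Led Lsl_gt (LP (LK LD1_c2 LD2_c21 LD3_c40)) = (LP (LK LD1_c2 LD2_c19 LD3_c23)) :=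
  Lgr Lrot5 (Lpr_ft (f113905 IH) (Lpe (f125247 IH) (Lpr_gf (f125312 IH) (Lpn (LP (LK LD1_c2 LD2_c19 LD3_c23))))))
theorem f125320 : Led Lsl_gf (LP (LK LD1_c1 LD2_c53 LD3_c24)) = (LP (LK LD1_c2 LD2_c19 LD3_c54)) :=
  Lgr Lrot124 (Lpe (K2.f58173 IH) (Lpr_ct (K2.f18008 IH) (Lpr_gt (K3.f12641 IH) (Lpe (K3.f58172 IH) (Lpr_bt (K3.f58153 IH) (Lpe (K3.f58159 IH) (Lpr_ct (K3.f25002 IH) (Lpr_gt (f125314 IH) (Lpr_cf (f120030 IH) (Lpr_bt (K2.f23496 IH) (Lpn (LP (LK LD1_c2 LD2_c19 LD3_c54)))))))))))))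
theorem f90487 : Led Lsl_dt (LP (LK LD1_c1 LD2_c41 LD3_c1)) = (LP (LK LD1_c3 LD2_c23 LD3_c19)) :=
  Lgr Lrot60 (Lpe (K3.f25031 IH) (Lpe (K3.f17664 IH) (Lpr_ff (K3.f90476 IH) (Lpn (LP (LK LD1_c3 LD2_c23 LD3_c19))))))
theorem f120189 : Led Lsl_gf (LP (LK LD1_c2 LD2_c19 LD3_c10)) = (LP (LK LD1_c3 LD2_c23 LD3_c19)) :=
  Lgr Lrot47 (Lpr_gt (K4.f120186 IH) (Lpe (K3.f90369 IH) (Lpr_ff (K3.f90476 IH) (Lpn (LP (LK LD1_c3 LD2_c23 LD3_c19))))))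
theorem f23548 : Led Lsl_et (LP (LK LD1_c1 LD2_c7 LD3_c11)) = (LP (LK LD1_c2 LD2_c19 LD3_c54)) :=
  Lre_e IH (LK LD1_c1 LD2_c7 LD3_c11) (LK LD1_c2 LD2_c19 LD3_c54) Lrfl Lrfl
theorem f125322 : Led Lsl_et (LP (LK LD1_c1 LD2_c7 LD3_c2)) = (LP (LK LD1_c1 LD2_c6 LD3_c37)) :=
  Lgr Lrot121 (Lpe (K4.f120193 IH) (Lpr_gf (f120189 IH) (Lpe (f90487 IH) (Lpe (K2.f88765 IH) (Lpr_gf (f125320 IH) (Lpe (f23548 IH) (Lpr_dt (K3.f23540 IH) (Lpe (K3.f103181 IH) (Lpe (K4.f90469 IH) (Lpe (K4.f113116 IH) (Lpn (LP (LK LD1_c1 LD2_c6 LD3_c37)))))))))))))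
theorem f120083 : Led Lsl_ff (LP (LK LD1_c1 LD2_c7 LD3_c2)) = (LP (LK LD1_c0 LD2_c42 LD3_c48)) :=
  Lgr Lrot25 (Lpr_bt (K4.f23558 IH) (Lpr_ft (K4.f120081 IH) (Lpr_bt (K3.f24326 IH) (Lpn (LP (LK LD1_c0 LD2_c42 LD3_c48))))))
theorem f62634 : Led Lsl_et (LP (LK LD1_c0 LD2_c41 LD3_c27)) = (LP (LK LD1_c1 LD2_c29 LD3_c42)) :=
  Lre_e IH (LK LD1_c0 LD2_c41 LD3_c27) (LK LD1_c1 LD2_c29 LD3_c42) Lrfl Lrfl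
theorem f125330 : Led Lsl_ff (LP (LK LD1_c1 LD2_c32 LD3_c25)) = (LP (LK LD1_c1 LD2_c29 LD3_c42)) :=
  Lgr Lrot72 (Lpr_et (K3.f24336 IH) (Lpe (f120083 IH) (Lpr_et (f125322 IH) (Lpe (K4.f113070 IH) (Lpr_et (f62634 IH) (Lpn (LP (LK LD1_c1 LD2_c29 LD3_c42))))))))
theorem f23546 : Led Lsl_ct (LP (LK LD1_c1 LD2_c7 LD3_c13)) = (LP (LK LD1_c2 LD2_c19 LD3_c54)) :=
  Lre_c IH (LK LD1_c1 LD2_c7 LD3_c13) (LK LD1_c2 LD2_c19 LD3_c54) Lrfl Lrfl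
theorem f23549 : Led Lsl_dt (LP (LK LD1_c2 LD2_c19 LD3_c57)) = (LP (LK LD1_c1 LD2_c7 LD3_c13)) :=
  Lre_d IH (LK LD1_c2 LD2_c19 LD3_c57) (LK LD1_c1 LD2_c7 LD3_c13) Lrfl Lrfl
theorem f107438 : Led Lsl_ct (LP (LK LD1_c4 LD2_c44 LD3_c1)) = (LP (LK LD1_c2 LD2_c19 LD3_c57)) :=
  Lre_c IH (LK LD1_c4 LD2_c44 LD3_c1) (LK LD1_c2 LD2_c19 LD3_c57) Lrfl Lrfl
theorem f107484 : Led Lsl_dt (LP (LK LD1_c9 LD2_c20 LD3_c57)) = (LP (LK LD1_c4 LD2_c44 LD3_c1)) :=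
  Lre_d IH (LK LD1_c9 LD2_c20 LD3_c57) (LK LD1_c4 LD2_c44 LD3_c1) Lrfl Lrfl
theorem f25043 : Led Lsl_dt (LP (LK LD1_c1 LD2_c29 LD3_c42)) = (LP (LK LD1_c3 LD2_c7 LD3_c2)) :=
  Lre_d IH (LK LD1_c1 LD2_c29 LD3_c42) (LK LD1_c3 LD2_c7 LD3_c2) Lrfl Lrfl
theorem f62615 : Led Lsl_ct (LP (LK LD1_c3 LD2_c7 LD3_c2)) = (LP (LK LD1_c6 LD2_c19 LD3_c15)) :=
  Lre_c IH (LK LD1_c3 LD2_c7 LD3_c2) (LK LD1_c6 LD2_c19 LD3_c15) Lrfl Lrfl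
theorem f62616 : Led Lsl_dt (LP (LK LD1_c6 LD2_c19 LD3_c15)) = (LP (LK LD1_c12 LD2_c13 LD3_c61)) :=
  Lre_d IH (LK LD1_c6 LD2_c19 LD3_c15) (LK LD1_c12 LD2_c13 LD3_c61) Lrfl Lrfl
theorem f125342 : Led Lsl_cf (LP (LK LD1_c9 LD2_c20 LD3_c57)) = (LP (LK LD1_c12 LD2_c13 LD3_c61)) :=
  Lgr Lrot116 (Lpr_dt (f107484 IH) (Lpr_ct (f107438 IH) (Lpr_dt (f23549 IH) (Lpr_ct (f23546 IH) (Lpe (K3.f107480 IH) (Lpr_ff (f125330 IH) (Lpr_dt (f25043 IH) (Lpr_ct (f62615 IH) (Lpr_dt (f62616 IH) (Lpn (LP (LK LD1_c12 LD2_c13 LD3_c61))))))))))))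
theorem f107435 : Led Lsl_at (LP (LK LD1_c1 LD2_c33 LD3_c57)) = (LP (LK LD1_c2 LD2_c19 LD3_c57)) :=
  Lgr Lrot100 (Lpr_af (K3.f107433 IH) (Lpn (LP (LK LD1_c2 LD2_c19 LD3_c57))))
theorem f62617 : Led Lsl_dt (LP (LK LD1_c3 LD2_c1 LD3_c14)) = (LP (LK LD1_c1 LD2_c26 LD3_c34)) :=
  Lre_d IH (LK LD1_c3 LD2_c1 LD3_c14) (LK LD1_c1 LD2_c26 LD3_c34) Lrfl Lrfl
theorem f125347 : Led Lsl_ff (LP (LK LD1_c1 LD2_c33 LD3_c57)) = (LP (LK LD1_c3 LD2_c1 LD3_c14)) :=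
  Lgr Lrot103 (Lpr_at (f107435 IH) (Lpe (f107438 IH) (Lpe (f107484 IH) (Lpr_cf (f125342 IH) (Lpe (f62616 IH) (Lpe (f62615 IH) (Lpe (f25043 IH) (Lpr_cf (K2.f62334 IH) (Lpe (f62617 IH) (Lpn (LP (LK LD1_c3 LD2_c1 LD3_c14))))))))))))
theorem f125356 : Led Lsl_ft (LP (LK LD1_c1 LD2_c33 LD3_c57)) = (LP (LK LD1_c3 LD2_c1 LD3_c14)) :=
  Lgr Lrot48 (Lpr_ff (f125347 IH) (Lpn (LP (LK LD1_c3 LD2_c1 LD3_c14))))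
theorem f24370 : Led Lsl_dt (LP (LK LD1_c0 LD2_c43 LD3_c33)) = (LP (LK LD1_c1 LD2_c33 LD3_c57)) :=
  Lre_d IH (LK LD1_c0 LD2_c43 LD3_c33) (LK LD1_c1 LD2_c33 LD3_c57) Lrfl Lrfl
theorem f125363 : Led Lsl_ff (LP (LK LD1_c0 LD2_c43 LD3_c33)) = (LP (LK LD1_c1 LD2_c26 LD3_c34)) :=
  Lgr Lrot19 (Lpr_dt (f24370 IH) (Lpr_ft (f125356 IH) (Lpr_dt (f62617 IH) (Lpn (LP (LK LD1_c1 LD2_c26 LD3_c34))))))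
theorem f62610 : Led Lsl_bt (LP (LK LD1_c3 LD2_c1 LD3_c13)) = (LP (LK LD1_c1 LD2_c26 LD3_c34)) :=
  Lre_b IH (LK LD1_c3 LD2_c1 LD3_c13) (LK LD1_c1 LD2_c26 LD3_c34) Lrfl Lrfl
theorem f125366 : Led Lsl_ft (LP (LK LD1_c1 LD2_c33 LD3_c53)) = (LP (LK LD1_c3 LD2_c1 LD3_c13)) :=
  Lgr Lrot75 (Lpe (K3.f24363 IH) (Lpr_ff (f125363 IH) (Lpe (f62610 IH) (Lpn (LP (LK LD1_c3 LD2_c1 LD3_c13))))))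
theorem f125370 : Led Lsl_ff (LP (LK LD1_c1 LD2_c33 LD3_c53)) = (LP (LK LD1_c3 LD2_c1 LD3_c13)) :=
  Lgr Lrot3 (Lpr_ft (f125366 IH) (Lpn (LP (LK LD1_c3 LD2_c1 LD3_c13))))
theorem f62607 : Led Lsl_bt (LP (LK LD1_c1 LD2_c29 LD3_c42)) = (LP (LK LD1_c0 LD2_c41 LD3_c30)) :=
  Lre_b IH (LK LD1_c1 LD2_c29 LD3_c42) (LK LD1_c0 LD2_c41 LD3_c30) Lrfl Lrfl
theorem f62608 : Led Lsl_ct (LP (LK LD1_c0 LD2_c41 LD3_c30)) = (LP (LK LD1_c1 LD2_c29 LD3_c44)) :=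
  Lre_c IH (LK LD1_c0 LD2_c41 LD3_c30) (LK LD1_c1 LD2_c29 LD3_c44) Lrfl Lrfl
theorem f62609 : Led Lsl_bt (LP (LK LD1_c1 LD2_c29 LD3_c44)) = (LP (LK LD1_c3 LD2_c7 LD3_c3)) :=
  Lre_b IH (LK LD1_c1 LD2_c29 LD3_c44) (LK LD1_c3 LD2_c7 LD3_c3) Lrfl Lrfl
theorem f62611 : Led Lsl_ct (LP (LK LD1_c3 LD2_c7 LD3_c3)) = (LP (LK LD1_c3 LD2_c1 LD3_c13)) :=
  Lgr Lrot83 (Lpe (f62609 IH) (Lpe (f62608 IH) (Lpe (f62607 IH) (Lpr_cf (K2.f62334 IH) (Lpe (f62610 IH) (Lpn (LP (LK LD1_c3 LD2_c1 LD3_c13))))))))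
theorem f125372 : Led Lsl_ft (LP (LK LD1_c3 LD2_c12 LD3_c1)) = (LP (LK LD1_c3 LD2_c7 LD3_c3)) :=
  Lgr Lrot4 (Lpr_cf (K3.f24368 IH) (Lpr_ff (f125370 IH) (Lpe (f62611 IH) (Lpn (LP (LK LD1_c3 LD2_c7 LD3_c3))))))
theorem f24346 : Led Lsl_bt (LP (LK LD1_c1 LD2_c32 LD3_c28)) = (LP (LK LD1_c3 LD2_c12 LD3_c1)) :=
  Lre_b IH (LK LD1_c1 LD2_c32 LD3_c28) (LK LD1_c3 LD2_c12 LD3_c1) Lrfl Lrfl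
theorem f125374 : Led Lsl_ff (LP (LK LD1_c1 LD2_c32 LD3_c28)) = (LP (LK LD1_c1 LD2_c29 LD3_c44)) :=
  Lgr Lrot25 (Lpr_bt (f24346 IH) (Lpr_ft (f125372 IH) (Lpr_bt (K2.f62628 IH) (Lpn (LP (LK LD1_c1 LD2_c29 LD3_c44))))))
theorem f82466 : Led Lsl_ct (LP (LK LD1_c2 LD2_c19 LD3_c24)) = (LP (LK LD1_c1 LD2_c6 LD3_c48)) :=
  Lre_c IH (LK LD1_c2 LD2_c19 LD3_c24) (LK LD1_c1 LD2_c6 LD3_c48) Lrfl Lrfl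
theorem f24345 : Led Lsl_ct (LP (LK LD1_c0 LD2_c42 LD3_c50)) = (LP (LK LD1_c1 LD2_c32 LD3_c28)) :=
  Lre_c IH (LK LD1_c0 LD2_c42 LD3_c50) (LK LD1_c1 LD2_c32 LD3_c28) Lrfl Lrfl
theorem f120071 : Led Lsl_af (LP (LK LD1_c2 LD2_c19 LD3_c24)) = (LP (LK LD1_c1 LD2_c32 LD3_c28)) :=
  Lgr Lrot68 (Lpr_ct (f82466 IH) (Lpr_at (K4.f120067 IH) (Lpr_ct (f24345 IH) (Lpn (LP (LK LD1_c1 LD2_c32 LD3_c28))))))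
theorem f62644 : Led Lsl_gt (LP (LK LD1_c1 LD2_c29 LD3_c44)) = (LP (LK LD1_c3 LD2_c7 LD3_c4)) :=
  Lre_g IH (LK LD1_c1 LD2_c29 LD3_c44) (LK LD1_c3 LD2_c7 LD3_c4) Lrfl Lrfl
theorem f125384 : Led Lsl_gf (LP (LK LD1_c2 LD2_c19 LD3_c24)) = (LP (LK LD1_c3 LD2_c7 LD3_c4)) :=
  Lgr Lrot76 (Lpr_af (f120071 IH) (Lpr_ff (f125374 IH) (Lpr_gt (f62644 IH) (Lpn (LP (LK LD1_c3 LD2_c7 LD3_c4))))))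
theorem f120044 : Led Lsl_ct (LP (LK LD1_c1 LD2_c6 LD3_c48)) = (LP (LK LD1_c2 LD2_c19 LD3_c24)) :=
  Lre_c IH (LK LD1_c1 LD2_c6 LD3_c48) (LK LD1_c2 LD2_c19 LD3_c24) Lrfl Lrfl
theorem f12637 : Led Lsl_bt (LP (LK LD1_c1 LD2_c35 LD3_c53)) = (LP (LK LD1_c0 LD2_c44 LD3_c28)) :=
  Lre_b IH (LK LD1_c1 LD2_c35 LD3_c53) (LK LD1_c0 LD2_c44 LD3_c28) Lrfl Lrfl
theorem f125388 : Led Lsl_ct (LP (LK LD1_c1 LD2_c35 LD3_c53)) = (LP (LK LD1_c3 LD2_c7 LD3_c4)) :=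
  Lgr Lrot64 (Lpr_bt (f12637 IH) (Lpe (K4.f12639 IH) (Lpr_bf (K4.f86163 IH) (Lpr_ct (K4.f86155 IH) (Lpe (K4.f102227 IH) (Lpe (K4.f86318 IH) (Lpr_gf (f125312 IH) (Lpe (K4.f120027 IH) (Lpr_ct (f120044 IH) (Lpr_gf (f125384 IH) (Lpn (LP (LK LD1_c3 LD2_c7 LD3_c4)))))))))))))
theorem f7444 : Led Lsl_bt (LP (LK LD1_c0 LD2_c8 LD3_c58)) = (LP (LK LD1_c0 LD2_c19 LD3_c48)) :=
  Lre_b IH (LK LD1_c0 LD2_c8 LD3_c58) (LK LD1_c0 LD2_c19 LD3_c48) Lrfl Lrfl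
theorem f125396 : Led Lsl_gt (LP (LK LD1_c0 LD2_c30 LD3_c34)) = (LP (LK LD1_c0 LD2_c41 LD3_c30)) :=
  Lgr Lrot82 (Lpe (K4.f25753 IH) (Lpr_ct (K2.f25752 IH) (Lpe (K2.f25739 IH) (Lpe (K0.f7431 IH) (Lpr_bt (f7444 IH) (Lpe (K4.f12169 IH) (Lpe (f12637 IH) (Lpr_ct (f125388 IH) (Lpe (f62644 IH) (Lpe (f62608 IH) (Lpn (LP (LK LD1_c0 LD2_c41 LD3_c30)))))))))))))
theorem f125404 : Led Lsl_gf (LP (LK LD1_c3 LD2_c2 LD3_c26)) = (LP (LK LD1_c3 LD2_c7 LD3_c3)) :=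
  Lgr Lrot124 (Lpe (f86144 IH) (Lpr_ct (K3.f106707 IH) (Lpe (K3.f106705 IH) (Lpr_cf (K3.f95755 IH) (Lpr_bt (K3.f82467 IH) (Lpr_gt (K3.f82461 IH) (Lpr_ct (K2.f82395 IH) (Lpr_gt (f125396 IH) (Lpe (K2.f62627 IH) (Lpr_bt (f62609 IH) (Lpn (LP (LK LD1_c3 LD2_c7 LD3_c3)))))))))))))
theorem f125411 : Led Lsl_gt (LP (LK LD1_c1 LD2_c35 LD3_c50)) = (LP (LK LD1_c3 LD2_c1 LD3_c13)) :=
  Lgr Lrot82 (Lpe (f84306 IH) (Lpr_ct (K4.f84313 IH) (Lpe (K3.f94374 IH) (Lpr_cf (K3.f105736 IH) (Lpe (K1.f12414 IH) (Lpe (K3.f12441 IH) (Lpe (f106795 IH) (Lpr_ct (K3.f86145 IH) (Lpr_gf (f125404 IH) (Lpr_cf (K2.f62629 IH) (Lpn (LP (LK LD1_c3 LD2_c1 LD3_c13)))))))))))))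
theorem f84308 : Led Lsl_cf (LP (LK LD1_c1 LD2_c35 LD3_c50)) = (LP (LK LD1_c1 LD2_c29 LD3_c24)) :=
  Lgr Lrot11 (Lpr_ct (K4.f84304 IH) (Lpn (LP (LK LD1_c1 LD2_c29 LD3_c24))))
theorem f113920 : Led Lsl_ft (LP (LK LD1_c1 LD2_c35 LD3_c50)) = (LP (LK LD1_c3 LD2_c2 LD3_c26)) :=
  Lgr Lrot4 (Lpr_cf (f84308 IH) (Lpr_ff (K4.f113918 IH) (Lpr_cf (K3.f86063 IH) (Lpn (LP (LK LD1_c3 LD2_c2 LD3_c26))))))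
theorem f113916 : Led Lsl_af (LP (LK LD1_c3 LD2_c6 LD3_c34)) = (LP (LK LD1_c3 LD2_c2 LD3_c26)) :=
  Lgr Lrot68 (Lpr_ct (K3.f25093 IH) (Lpr_at (K4.f113911 IH) (Lpr_ct (K3.f86145 IH) (Lpn (LP (LK LD1_c3 LD2_c2 LD3_c26))))))
theorem f125413 : Led Lsl_gf (LP (LK LD1_c3 LD2_c6 LD3_c34)) = (LP (LK LD1_c3 LD2_c1 LD3_c13)) :=
  Lgr Lrot76 (Lpr_af (f113916 IH) (Lpe (f113920 IH) (Lpr_gt (f125411 IH) (Lpn (LP (LK LD1_c3 LD2_c1 LD3_c13))))))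
theorem f113893 : Led Lsl_at (LP (LK LD1_c1 LD2_c35 LD3_c50)) = (LP (LK LD1_c3 LD2_c6 LD3_c15)) :=
  Lgr Lrot107 (Lpr_cf (f84308 IH) (Lpr_af (K4.f113889 IH) (Lpe (K3.f77856 IH) (Lpn (LP (LK LD1_c3 LD2_c6 LD3_c15))))))
theorem f113899 : Led Lsl_ff (LP (LK LD1_c3 LD2_c6 LD3_c34)) = (LP (LK LD1_c3 LD2_c6 LD3_c15)) :=
  Lgr Lrot23 (Lpr_ct (K3.f25093 IH) (Lpr_ft (K4.f113895 IH) (Lpr_ct (K2.f77858 IH) (Lpn (LP (LK LD1_c3 LD2_c6 LD3_c15))))))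
theorem f113926 : Led Lsl_at (LP (LK LD1_c3 LD2_c6 LD3_c34)) = (LP (LK LD1_c3 LD2_c2 LD3_c26)) :=
  Lgr Lrot66 (Lpr_ff (f113899 IH) (Lpe (f113893 IH) (Lpr_ff (K4.f113924 IH) (Lpn (LP (LK LD1_c3 LD2_c2 LD3_c26))))))
theorem f125407 : Led Lsl_gt (LP (LK LD1_c3 LD2_c6 LD3_c15)) = (LP (LK LD1_c3 LD2_c7 LD3_c3)) :=
  Lgr Lrot5 (Lpe (f113899 IH) (Lpr_at (f113926 IH) (Lpr_gf (f125404 IH) (Lpn (LP (LK LD1_c3 LD2_c7 LD3_c3))))))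
theorem f125455 : Led Lsl_gt (LP (LK LD1_c2 LD2_c19 LD3_c24)) = (LP (LK LD1_c2 LD2_c17 LD3_c11)) :=
  Lgr Lrot65 (Lpe (f120044 IH) (Lpr_bt (K4.f120027 IH) (Lpe (f125314 IH) (Lpe (f86319 IH) (Lpr_ct (K3.f25065 IH) (Lpr_gf (f125413 IH) (Lpe (f62611 IH) (Lpe (f125407 IH) (Lpr_bf (K2.f77850 IH) (Lpe (K2.f77886 IH) (Lpn (LP (LK LD1_c2 LD2_c17 LD3_c11)))))))))))))
theorem f120045 : Led Lsl_et (LP (LK LD1_c2 LD2_c19 LD3_c24)) = (LP (LK LD1_c1 LD2_c7 LD3_c5)) :=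
  Lgr Lrot158 (Lpe (f120044 IH) (Lpr_ef (K4.f120042 IH) (Lpe (K2.f23465 IH) (Lpn (LP (LK LD1_c1 LD2_c7 LD3_c5))))))
theorem f120049 : Led Lsl_ef (LP (LK LD1_c2 LD2_c19 LD3_c24)) = (LP (LK LD1_c1 LD2_c7 LD3_c5)) :=
  Lgr Lrot88 (Lpr_et (f120045 IH) (Lpn (LP (LK LD1_c1 LD2_c7 LD3_c5))))
theorem f79315 : Led Lsl_et (LP (LK LD1_c1 LD2_c32 LD3_c28)) = (LP (LK LD1_c0 LD2_c42 LD3_c49)) :=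
  Lre_e IH (LK LD1_c1 LD2_c32 LD3_c28) (LK LD1_c0 LD2_c42 LD3_c49) Lrfl Lrfl
theorem f24384 : Led Lsl_ct (LP (LK LD1_c0 LD2_c19 LD3_c3)) = (LP (LK LD1_c0 LD2_c42 LD3_c49)) :=
  Lre_c IH (LK LD1_c0 LD2_c19 LD3_c3) (LK LD1_c0 LD2_c42 LD3_c49) Lrfl Lrfl
theorem f120085 : Led Lsl_ff (LP (LK LD1_c1 LD2_c7 LD3_c3)) = (LP (LK LD1_c0 LD2_c42 LD3_c49)) :=
  Lgr Lrot23 (Lpr_ct (K2.f23457 IH) (Lpr_ft (K4.f120081 IH) (Lpr_ct (f24384 IH) (Lpn (LP (LK LD1_c0 LD2_c42 LD3_c49))))))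
theorem f113379 : Led Lsl_et (LP (LK LD1_c0 LD2_c41 LD3_c28)) = (LP (LK LD1_c1 LD2_c29 LD3_c44)) :=
  Lre_e IH (LK LD1_c0 LD2_c41 LD3_c28) (LK LD1_c1 LD2_c29 LD3_c44) Lrfl Lrfl
theorem f113072 : Led Lsl_ff (LP (LK LD1_c0 LD2_c41 LD3_c28)) = (LP (LK LD1_c1 LD2_c6 LD3_c38)) :=
  Lgr Lrot23 (Lpr_ct (K4.f25015 IH) (Lpr_ft (K4.f113066 IH) (Lpr_ct (K4.f61707 IH) (Lpn (LP (LK LD1_c1 LD2_c6 LD3_c38))))))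
theorem f125380 : Led Lsl_et (LP (LK LD1_c1 LD2_c7 LD3_c3)) = (LP (LK LD1_c1 LD2_c6 LD3_c38)) :=
  Lgr Lrot69 (Lpr_ff (f120085 IH) (Lpe (f79315 IH) (Lpr_ff (f125374 IH) (Lpe (f113379 IH) (Lpr_ff (f113072 IH) (Lpn (LP (LK LD1_c1 LD2_c6 LD3_c38))))))))
theorem f125459 : Led Lsl_gf (LP (LK LD1_c1 LD2_c38 LD3_c32)) = (LP (LK LD1_c1 LD2_c6 LD3_c38)) :=
  Lgr Lrot138 (Lpr_dt (K3.f82401 IH) (Lpr_gt (K3.f109989 IH) (Lpe (K3.f23485 IH) (Lpe (f120049 IH) (Lpr_gt (f125455 IH) (Lpe (K2.f77877 IH) (Lpe (K2.f77983 IH) (Lpe (K4.f120779 IH) (Lpe (K4.f23452 IH) (Lpr_et (f125380 IH) (Lpn (LP (LK LD1_c1 LD2_c6 LD3_c38)))))))))))))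
theorem f113362 : Led Lsl_ff (LP (LK LD1_c1 LD2_c28 LD3_c60)) = (LP (LK LD1_c1 LD2_c5 LD3_c32)) :=
  Lgr Lrot19 (Lpe (K4.f102107 IH) (Lpr_ft (K4.f113356 IH) (Lpr_dt (K3.f77981 IH) (Lpn (LP (LK LD1_c1 LD2_c5 LD3_c32))))))
theorem f125461 : Led Lsl_af (LP (LK LD1_c1 LD2_c38 LD3_c32)) = (LP (LK LD1_c1 LD2_c28 LD3_c60)) :=
  Lgr Lrot31 (Lpr_gf (f125459 IH) (Lpr_gf (K4.f113114 IH) (Lpe (f113362 IH) (Lpn (LP (LK LD1_c1 LD2_c28 LD3_c60))))))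
theorem f110013 : Led Lsl_ct (LP (LK LD1_c1 LD2_c38 LD3_c32)) = (LP (LK LD1_c1 LD2_c26 LD3_c41)) :=
  Lgr Lrot59 (Lpr_cf (K3.f110005 IH) (Lpn (LP (LK LD1_c1 LD2_c26 LD3_c41))))
theorem f124824 : Led Lsl_gt (LP (LK LD1_c0 LD2_c42 LD3_c19)) = (LP (LK LD1_c1 LD2_c31 LD3_c33)) :=
  Lre_g IH (LK LD1_c0 LD2_c42 LD3_c19) (LK LD1_c1 LD2_c31 LD3_c33) Lrfl Lrfl
theorem f124825 : Led Lsl_at (LP (LK LD1_c1 LD2_c26 LD3_c41)) = (LP (LK LD1_c1 LD2_c31 LD3_c33)) :=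
  Lgr Lrot26 (Lpe (K3.f61962 IH) (Lpr_gt (f124821 IH) (Lpr_gt (f124824 IH) (Lpn (LP (LK LD1_c1 LD2_c31 LD3_c33))))))
theorem f125465 : Led Lsl_ct (LP (LK LD1_c1 LD2_c31 LD3_c33)) = (LP (LK LD1_c1 LD2_c28 LD3_c60)) :=
  Lgr Lrot111 (Lpe (f124825 IH) (Lpe (f110013 IH) (Lpr_af (f125461 IH) (Lpn (LP (LK LD1_c1 LD2_c28 LD3_c60))))))
theorem f77818 : Led Lsl_at (LP (LK LD1_c1 LD2_c29 LD3_c12)) = (LP (LK LD1_c1 LD2_c26 LD3_c46)) :=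
  Lgr Lrot100 (Lpr_af (K2.f77812 IH) (Lpn (LP (LK LD1_c1 LD2_c26 LD3_c46))))
theorem f77829 : Led Lsl_ff (LP (LK LD1_c1 LD2_c29 LD3_c12)) = (LP (LK LD1_c1 LD2_c26 LD3_c44)) :=
  Lgr Lrot3 (Lpr_ft (K4.f77825 IH) (Lpn (LP (LK LD1_c1 LD2_c26 LD3_c44))))
theorem f114468 : Led Lsl_gf (LP (LK LD1_c1 LD2_c29 LD3_c43)) = (LP (LK LD1_c1 LD2_c26 LD3_c44)) :=
  Lgr Lrot47 (Lpr_gt (K4.f114466 IH) (Lpe (f77818 IH) (Lpr_ff (f77829 IH) (Lpn (LP (LK LD1_c1 LD2_c26 LD3_c44))))))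
theorem f125479 : Led Lsl_bt (LP (LK LD1_c1 LD2_c31 LD3_c33)) = (LP (LK LD1_c1 LD2_c26 LD3_c44)) :=
  Lgr Lrot130 (Lpr_ct (f125465 IH) (Lpr_gf (K4.f113337 IH) (Lpe (K4.f57587 IH) (Lpr_bt (K4.f57590 IH) (Lpe (f110437 IH) (Lpr_bf (K2.f77899 IH) (Lpr_ct (K2.f25109 IH) (Lpr_gf (K2.f77794 IH) (Lpe (K2.f62641 IH) (Lpr_gf (f114468 IH) (Lpn (LP (LK LD1_c1 LD2_c26 LD3_c44)))))))))))))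
theorem f125470 : Led Lsl_et (LP (LK LD1_c3 LD2_c10 LD3_c32)) = (LP (LK LD1_c1 LD2_c31 LD3_c33)) :=
  Lre_e IH (LK LD1_c3 LD2_c10 LD3_c32) (LK LD1_c1 LD2_c31 LD3_c33) Lrfl Lrfl
theorem f77828 : Led Lsl_et (LP (LK LD1_c1 LD2_c26 LD3_c44)) = (LP (LK LD1_c3 LD2_c1 LD3_c27)) :=
  Lre_e IH (LK LD1_c1 LD2_c26 LD3_c44) (LK LD1_c3 LD2_c1 LD3_c27) Lrfl Lrfl
theorem f125483 : Led Lsl_bf (LP (LK LD1_c3 LD2_c10 LD3_c32)) = (LP (LK LD1_c3 LD2_c1 LD3_c27)) :=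
  Lgr Lrot96 (Lpr_et (f125470 IH) (Lpr_bt (f125479 IH) (Lpr_et (f77828 IH) (Lpn (LP (LK LD1_c3 LD2_c1 LD3_c27))))))
theorem f125487 : Led Lsl_bt (LP (LK LD1_c3 LD2_c10 LD3_c32)) = (LP (LK LD1_c3 LD2_c1 LD3_c27)) :=
  Lgr Lrot127 (Lpr_bf (f125483 IH) (Lpn (LP (LK LD1_c3 LD2_c1 LD3_c27))))
theorem f61737 : Led Lsl_at (LP (LK LD1_c3 LD2_c1 LD3_c27)) = (LP (LK LD1_c1 LD2_c26 LD3_c45)) :=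
  Lre_a IH (LK LD1_c3 LD2_c1 LD3_c27) (LK LD1_c1 LD2_c26 LD3_c45) Lrfl Lrfl
theorem f61726 : Led Lsl_bt (LP (LK LD1_c1 LD2_c26 LD3_c45)) = (LP (LK LD1_c0 LD2_c40 LD3_c11)) :=
  Lre_b IH (LK LD1_c1 LD2_c26 LD3_c45) (LK LD1_c0 LD2_c40 LD3_c11) Lrfl Lrfl
theorem f114022 : Led Lsl_bt (LP (LK LD1_c1 LD2_c26 LD3_c42)) = (LP (LK LD1_c3 LD2_c1 LD3_c25)) :=
  Lre_b IH (LK LD1_c1 LD2_c26 LD3_c42) (LK LD1_c3 LD2_c1 LD3_c25) Lrfl Lrfl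
theorem f125492 : Led Lsl_af (LP (LK LD1_c3 LD2_c10 LD3_c32)) = (LP (LK LD1_c3 LD2_c1 LD3_c25)) :=
  Lgr Lrot36 (Lpr_bt (f125487 IH) (Lpr_at (f61737 IH) (Lpr_bt (f61726 IH) (Lpr_at (K4.f114018 IH) (Lpr_bt (f114022 IH) (Lpn (LP (LK LD1_c3 LD2_c1 LD3_c25))))))))
theorem f118727 : Led Lsl_et (LP (LK LD1_c1 LD2_c26 LD3_c41)) = (LP (LK LD1_c3 LD2_c1 LD3_c25)) :=
  Lre_e IH (LK LD1_c1 LD2_c26 LD3_c41) (LK LD1_c3 LD2_c1 LD3_c25) Lrfl Lrfl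
theorem f125494 : Led Lsl_at (LP (LK LD1_c1 LD2_c31 LD3_c33)) = (LP (LK LD1_c1 LD2_c26 LD3_c41)) :=
  Lgr Lrot80 (Lpe (f125470 IH) (Lpr_af (f125492 IH) (Lpe (f118727 IH) (Lpn (LP (LK LD1_c1 LD2_c26 LD3_c41))))))
theorem f125469 : Led Lsl_dt (LP (LK LD1_c3 LD2_c10 LD3_c31)) = (LP (LK LD1_c1 LD2_c31 LD3_c33)) :=
  Lre_d IH (LK LD1_c3 LD2_c10 LD3_c31) (LK LD1_c1 LD2_c31 LD3_c33) Lrfl Lrfl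
theorem f125496 : Led Lsl_af (LP (LK LD1_c3 LD2_c10 LD3_c31)) = (LP (LK LD1_c1 LD2_c34 LD3_c44)) :=
  Lgr Lrot117 (Lpr_dt (f125469 IH) (Lpr_at (f125494 IH) (Lpe (K4.f110201 IH) (Lpn (LP (LK LD1_c1 LD2_c34 LD3_c44))))))
theorem f125507 : Led Lsl_ft (LP (LK LD1_c3 LD2_c10 LD3_c31)) = (LP (LK LD1_c1 LD2_c35 LD3_c8)) :=
  Lgr Lrot101 (Lpr_af (f125496 IH) (Lpe (K4.f118716 IH) (Lpe (K3.f61950 IH) (Lpn (LP (LK LD1_c1 LD2_c35 LD3_c8))))))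
theorem f125515 : Led Lsl_gt (LP (LK LD1_c3 LD2_c10 LD3_c31)) = (LP (LK LD1_c1 LD2_c33 LD3_c5)) :=
  Lgr Lrot5 (Lpr_ft (f125507 IH) (Lpr_at (K3.f61950 IH) (Lpr_gf (f124588 IH) (Lpn (LP (LK LD1_c1 LD2_c33 LD3_c5))))))
theorem f125511 : Led Lsl_dt (LP (LK LD1_c1 LD2_c31 LD3_c33)) = (LP (LK LD1_c3 LD2_c10 LD3_c31)) :=
  Lre_d IH (LK LD1_c1 LD2_c31 LD3_c33) (LK LD1_c3 LD2_c10 LD3_c31) Lrfl Lrfl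
theorem f124700 : Led Lsl_et (LP (LK LD1_c0 LD2_c43 LD3_c3)) = (LP (LK LD1_c0 LD2_c42 LD3_c19)) :=
  Lgr Lrot74 (Lpr_bf (f124567 IH) (Lpr_ef (f124696 IH) (Lpe (f82405 IH) (Lpn (LP (LK LD1_c0 LD2_c42 LD3_c19))))))
theorem f23651 : Led Lsl_dt (LP (LK LD1_c0 LD2_c43 LD3_c5)) = (LP (LK LD1_c1 LD2_c33 LD3_c5)) :=
  Lre_d IH (LK LD1_c0 LD2_c43 LD3_c5) (LK LD1_c1 LD2_c33 LD3_c5) Lrfl Lrfl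
theorem f95781 : Led Lsl_ef (LP (LK LD1_c0 LD2_c43 LD3_c5)) = (LP (LK LD1_c1 LD2_c31 LD3_c56)) :=
  Lgr Lrot29 (Lpe (K0.f23590 IH) (Lpr_et (K4.f23605 IH) (Lpr_bt (K3.f95758 IH) (Lpn (LP (LK LD1_c1 LD2_c31 LD3_c56))))))
theorem f95788 : Led Lsl_et (LP (LK LD1_c0 LD2_c43 LD3_c5)) = (LP (LK LD1_c1 LD2_c31 LD3_c56)) :=
  Lgr Lrot87 (Lpr_ef (f95781 IH) (Lpn (LP (LK LD1_c1 LD2_c31 LD3_c56))))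
theorem f125519 : Led Lsl_gf (LP (LK LD1_c1 LD2_c33 LD3_c4)) = (LP (LK LD1_c0 LD2_c44 LD3_c14)) :=
  Lgr Lrot145 (Lpe (f23587 IH) (Lpr_et (f124700 IH) (Lpr_gt (f124824 IH) (Lpr_dt (f125511 IH) (Lpr_gt (f125515 IH) (Lpe (f23651 IH) (Lpr_et (f95788 IH) (Lpr_gt (K4.f121374 IH) (Lpe (K1.f61956 IH) (Lpr_dt (K4.f61935 IH) (Lpn (LP (LK LD1_c0 LD2_c44 LD3_c14)))))))))))))
theorem f23586 : Led Lsl_dt (LP (LK LD1_c1 LD2_c33 LD3_c4)) = (LP (LK LD1_c0 LD2_c43 LD3_c3)) :=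
  Lre_d IH (LK LD1_c1 LD2_c33 LD3_c4) (LK LD1_c0 LD2_c43 LD3_c3) Lrfl Lrfl
theorem f82413 : Led Lsl_ct (LP (LK LD1_c0 LD2_c18 LD3_c55)) = (LP (LK LD1_c0 LD2_c42 LD3_c22)) :=
  Lre_c IH (LK LD1_c0 LD2_c18 LD3_c55) (LK LD1_c0 LD2_c42 LD3_c22) Lrfl Lrfl
theorem f69132 : Led Lsl_dt (LP (LK LD1_c0 LD2_c8 LD3_c30)) = (LP (LK LD1_c0 LD2_c18 LD3_c57)) :=
  Lre_d IH (LK LD1_c0 LD2_c8 LD3_c30) (LK LD1_c0 LD2_c18 LD3_c57) Lrfl Lrfl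
theorem f68992 : Led Lsl_gt (LP (LK LD1_c0 LD2_c18 LD3_c57)) = (LP (LK LD1_c0 LD2_c42 LD3_c27)) :=
  Lre_g IH (LK LD1_c0 LD2_c18 LD3_c57) (LK LD1_c0 LD2_c42 LD3_c27) Lrfl Lrfl
theorem f125523 : Led Lsl_df (LP (LK LD1_c0 LD2_c19 LD3_c10)) = (LP (LK LD1_c0 LD2_c42 LD3_c27)) :=
  Lgr Lrot84 (Lpe (f23594 IH) (Lpe (f23586 IH) (Lpr_gf (f125519 IH) (Lpe (K4.f61935 IH) (Lpe (K4.f115514 IH) (Lpe (f82413 IH) (Lpr_gt (K3.f21009 IH) (Lpr_dt (f69132 IH) (Lpr_gt (f68992 IH) (Lpn (LP (LK LD1_c0 LD2_c42 LD3_c27))))))))))))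
theorem f26149 : Led Lsl_dt (LP (LK LD1_c0 LD2_c42 LD3_c49)) = (LP (LK LD1_c1 LD2_c32 LD3_c27)) :=
  Lre_d IH (LK LD1_c0 LD2_c42 LD3_c49) (LK LD1_c1 LD2_c32 LD3_c27) Lrfl Lrfl
theorem f69139 : Led Lsl_ct (LP (LK LD1_c1 LD2_c31 LD3_c44)) = (LP (LK LD1_c0 LD2_c42 LD3_c27)) :=
  Lre_c IH (LK LD1_c1 LD2_c31 LD3_c44) (LK LD1_c0 LD2_c42 LD3_c27) Lrfl Lrfl
theorem f125538 : Led Lsl_gt (LP (LK LD1_c3 LD2_c10 LD3_c42)) = (LP (LK LD1_c1 LD2_c31 LD3_c44)) :=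
  Lre_g IH (LK LD1_c3 LD2_c10 LD3_c42) (LK LD1_c1 LD2_c31 LD3_c44) Lrfl Lrfl
theorem f125539 : Led Lsl_ct (LP (LK LD1_c2 LD2_c21 LD3_c0)) = (LP (LK LD1_c3 LD2_c10 LD3_c42)) :=
  Lgr Lrot152 (Lpe (K4.f113353 IH) (Lpe (f26149 IH) (Lpr_gt (K3.f24391 IH) (Lpr_ct (K3.f24392 IH) (Lpe (f124576 IH) (Lpr_ct (f23594 IH) (Lpr_df (f125523 IH) (Lpe (f69139 IH) (Lpe (f125538 IH) (Lpn (LP (LK LD1_c3 LD2_c10 LD3_c42))))))))))))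
theorem f125475 : Led Lsl_ct (LP (LK LD1_c0 LD2_c42 LD3_c27)) = (LP (LK LD1_c1 LD2_c31 LD3_c44)) :=
  Lre_c IH (LK LD1_c0 LD2_c42 LD3_c27) (LK LD1_c1 LD2_c31 LD3_c44) Lrfl Lrfl
theorem f125555 : Led Lsl_bf (LP (LK LD1_c0 LD2_c50 LD3_c23)) = (LP (LK LD1_c0 LD2_c42 LD3_c27)) :=
  Lgr Lrot156 (Lpr_gt (K4.f121229 IH) (Lpe (K4.f114987 IH) (Lpr_ct (K2.f61715 IH) (Lpe (K4.f113350 IH) (Lpr_cf (K4.f113345 IH) (Lpr_bt (K4.f113344 IH) (Lpr_gt (K4.f113353 IH) (Lpr_ct (f125539 IH) (Lpr_gt (f125538 IH) (Lpe (f125475 IH) (Lpn (LP (LK LD1_c0 LD2_c42 LD3_c27)))))))))))))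
theorem f124803 : Led Lsl_ff (LP (LK LD1_c0 LD2_c30 LD3_c38)) = (LP (LK LD1_c0 LD2_c19 LD3_c10)) :=
  Lgr Lrot23 (Lpr_ct (K3.f26090 IH) (Lpr_ft (f124801 IH) (Lpr_ct (f23594 IH) (Lpn (LP (LK LD1_c0 LD2_c19 LD3_c10))))))
theorem f125536 : Led Lsl_ft (LP (LK LD1_c1 LD2_c6 LD3_c3)) = (LP (LK LD1_c0 LD2_c42 LD3_c27)) :=
  Lgr Lrot54 (Lpe (K4.f104731 IH) (Lpr_ff (f124803 IH) (Lpr_df (f125523 IH) (Lpn (LP (LK LD1_c0 LD2_c42 LD3_c27))))))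
theorem f124119 : Led Lsl_bf (LP (LK LD1_c1 LD2_c6 LD3_c3)) = (LP (LK LD1_c0 LD2_c50 LD3_c53)) :=
  Lgr Lrot24 (Lpr_bt (K4.f124114 IH) (Lpn (LP (LK LD1_c0 LD2_c50 LD3_c53))))
theorem f125562 : Led Lsl_ft (LP (LK LD1_c0 LD2_c50 LD3_c23)) = (LP (LK LD1_c0 LD2_c50 LD3_c53)) :=
  Lgr Lrot75 (Lpr_bf (f125555 IH) (Lpe (f125536 IH) (Lpr_bf (f124119 IH) (Lpn (LP (LK LD1_c0 LD2_c50 LD3_c53))))))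
theorem f125570 : Led Lsl_af (LP (LK LD1_c0 LD2_c50 LD3_c16)) = (LP (LK LD1_c0 LD2_c50 LD3_c53)) :=
  Lgr Lrot31 (Lpe (K4.f12565 IH) (Lpe (K4.f121229 IH) (Lpr_ft (f125562 IH) (Lpn (LP (LK LD1_c0 LD2_c50 LD3_c53))))))
theorem f125576 : Led Lsl_at (LP (LK LD1_c0 LD2_c22 LD3_c42)) = (LP (LK LD1_c0 LD2_c22 LD3_c59)) :=
  Lgr Lrot51 (Lpe (K1.f12408 IH) (Lpr_af (f125570 IH) (Lpe (K4.f124107 IH) (Lpn (LP (LK LD1_c0 LD2_c22 LD3_c59))))))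
theorem f120984 : Led Lsl_gf (LP (LK LD1_c0 LD2_c22 LD3_c59)) = (LP (LK LD1_c0 LD2_c50 LD3_c45)) :=
  Lgr Lrot104 (Lpr_ct (K4.f120829 IH) (Lpe (K4.f120983 IH) (Lpe (K4.f120982 IH) (Lpr_gf (K4.f120979 IH) (Lpe (K4.f120964 IH) (Lpr_gf (K4.f114997 IH) (Lpe (K4.f92514 IH) (Lpr_gt (K3.f103596 IH) (Lpe (K3.f104120 IH) (Lpn (LP (LK LD1_c0 LD2_c50 LD3_c45))))))))))))
theorem f125584 : Led Lsl_ff (LP (LK LD1_c0 LD2_c22 LD3_c42)) = (LP (LK LD1_c0 LD2_c22 LD3_c56)) :=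
  Lgr Lrot52 (Lpr_at (f125576 IH) (Lpr_gf (f120984 IH) (Lpe (K3.f12841 IH) (Lpn (LP (LK LD1_c0 LD2_c22 LD3_c56))))))
theorem f26226 : Led Lsl_ct (LP (LK LD1_c0 LD2_c50 LD3_c47)) = (LP (LK LD1_c1 LD2_c48 LD3_c2)) :=
  Lre_c IH (LK LD1_c0 LD2_c50 LD3_c47) (LK LD1_c1 LD2_c48 LD3_c2) Lrfl Lrfl
theorem f125586 : Led Lsl_dt (LP (LK LD1_c1 LD2_c48 LD3_c2)) = (LP (LK LD1_c3 LD2_c42 LD3_c6)) :=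
  Lre_d IH (LK LD1_c1 LD2_c48 LD3_c2) (LK LD1_c3 LD2_c42 LD3_c6) Lrfl Lrfl
theorem f120992 : Led Lsl_dt (LP (LK LD1_c1 LD2_c48 LD3_c19)) = (LP (LK LD1_c0 LD2_c50 LD3_c55)) :=
  Lre_d IH (LK LD1_c1 LD2_c48 LD3_c19) (LK LD1_c0 LD2_c50 LD3_c55) Lrfl Lrfl
theorem f125587 : Led Lsl_ct (LP (LK LD1_c3 LD2_c42 LD3_c6)) = (LP (LK LD1_c1 LD2_c48 LD3_c19)) :=
  Lgr Lrot41 (Lpe (f125586 IH) (Lpe (f26226 IH) (Lpe (K4.f26246 IH) (Lpe (f125584 IH) (Lpr_at (f125576 IH) (Lpe (K4.f120855 IH) (Lpe (K4.f120983 IH) (Lpe (K4.f120982 IH) (Lpe (f120992 IH) (Lpn (LP (LK LD1_c1 LD2_c48 LD3_c19))))))))))))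
theorem f124121 : Led Lsl_ct (LP (LK LD1_c0 LD2_c50 LD3_c53)) = (LP (LK LD1_c1 LD2_c48 LD3_c14)) :=
  Lre_c IH (LK LD1_c0 LD2_c50 LD3_c53) (LK LD1_c1 LD2_c48 LD3_c14) Lrfl Lrfl
theorem f124131 : Led Lsl_ct (LP (LK LD1_c1 LD2_c48 LD3_c14)) = (LP (LK LD1_c0 LD2_c50 LD3_c53)) :=
  Lre_c IH (LK LD1_c1 LD2_c48 LD3_c14) (LK LD1_c0 LD2_c50 LD3_c53) Lrfl Lrfl
theorem f125574 : Led Lsl_at (LP (LK LD1_c1 LD2_c35 LD3_c60)) = (LP (LK LD1_c1 LD2_c48 LD3_c14)) :=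
  Lgr Lrot107 (Lpe (K1.f66453 IH) (Lpr_af (f125570 IH) (Lpe (f124131 IH) (Lpn (LP (LK LD1_c1 LD2_c48 LD3_c14))))))
theorem f125596 : Led Lsl_ft (LP (LK LD1_c1 LD2_c48 LD3_c2)) = (LP (LK LD1_c1 LD2_c35 LD3_c60)) :=
  Lgr Lrot142 (Lpr_dt (f125586 IH) (Lpr_ct (f125587 IH) (Lpr_dt (f120992 IH) (Lpr_ct (K4.f120982 IH) (Lpr_dt (K4.f120983 IH) (Lpr_ct (K4.f120855 IH) (Lpr_dt (K4.f124107 IH) (Lpr_ct (f124121 IH) (Lpe (f125574 IH) (Lpn (LP (LK LD1_c1 LD2_c35 LD3_c60))))))))))))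
theorem f125607 : Led Lsl_ff (LP (LK LD1_c1 LD2_c48 LD3_c2)) = (LP (LK LD1_c1 LD2_c35 LD3_c60)) :=
  Lgr Lrot3 (Lpr_ft (f125596 IH) (Lpn (LP (LK LD1_c1 LD2_c35 LD3_c60))))
theorem f26244 : Led Lsl_ct (LP (LK LD1_c1 LD2_c48 LD3_c2)) = (LP (LK LD1_c0 LD2_c50 LD3_c47)) :=
  Lre_c IH (LK LD1_c1 LD2_c48 LD3_c2) (LK LD1_c0 LD2_c50 LD3_c47) Lrfl Lrfl
theorem f125611 : Led Lsl_ft (LP (LK LD1_c0 LD2_c50 LD3_c47)) = (LP (LK LD1_c0 LD2_c50 LD3_c16)) :=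
  Lgr Lrot4 (Lpe (f26244 IH) (Lpr_ff (f125607 IH) (Lpe (K1.f66453 IH) (Lpn (LP (LK LD1_c0 LD2_c50 LD3_c16))))))
theorem f125618 : Led Lsl_ff (LP (LK LD1_c0 LD2_c22 LD3_c56)) = (LP (LK LD1_c0 LD2_c22 LD3_c42)) :=
  Lgr Lrot19 (Lpr_dt (K4.f26246 IH) (Lpr_ft (f125611 IH) (Lpr_dt (K1.f12408 IH) (Lpn (LP (LK LD1_c0 LD2_c22 LD3_c42))))))
theorem f125643 : Led Lsl_at (LP (LK LD1_c0 LD2_c22 LD3_c56)) = (LP (LK LD1_c0 LD2_c22 LD3_c46)) :=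
  Lgr Lrot26 (Lpr_ff (f125618 IH) (Lpr_gt (K3.f12341 IH) (Lpr_gt (K3.f107558 IH) (Lpn (LP (LK LD1_c0 LD2_c22 LD3_c46))))))
theorem f125578 : Led Lsl_af (LP (LK LD1_c0 LD2_c22 LD3_c42)) = (LP (LK LD1_c0 LD2_c22 LD3_c59)) :=
  Lgr Lrot0 (Lpr_at (f125576 IH) (Lpn (LP (LK LD1_c0 LD2_c22 LD3_c59))))
theorem f125647 : Led Lsl_ff (LP (LK LD1_c0 LD2_c22 LD3_c59)) = (LP (LK LD1_c0 LD2_c22 LD3_c46)) :=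
  Lgr Lrot30 (Lpe (f125578 IH) (Lpe (f125618 IH) (Lpr_at (f125643 IH) (Lpn (LP (LK LD1_c0 LD2_c22 LD3_c46))))))
theorem f124134 : Led Lsl_et (LP (LK LD1_c0 LD2_c22 LD3_c59)) = (LP (LK LD1_c0 LD2_c50 LD3_c54)) :=
  Lre_e IH (LK LD1_c0 LD2_c22 LD3_c59) (LK LD1_c0 LD2_c50 LD3_c54) Lrfl Lrfl
theorem f108854 : Led Lsl_ef (LP (LK LD1_c1 LD2_c31 LD3_c53)) = (LP (LK LD1_c1 LD2_c5 LD3_c61)) :=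
  Lgr Lrot29 (Lpr_bt (K4.f82504 IH) (Lpr_et (f108852 IH) (Lpr_bt (K2.f84645 IH) (Lpn (LP (LK LD1_c1 LD2_c5 LD3_c61))))))
theorem f108860 : Led Lsl_et (LP (LK LD1_c0 LD2_c42 LD3_c31)) = (LP (LK LD1_c0 LD2_c30 LD3_c10)) :=
  Lgr Lrot158 (Lpe (K4.f82503 IH) (Lpr_ef (f108854 IH) (Lpe (K2.f25734 IH) (Lpn (LP (LK LD1_c0 LD2_c30 LD3_c10))))))
theorem f108864 : Led Lsl_ef (LP (LK LD1_c0 LD2_c42 LD3_c31)) = (LP (LK LD1_c0 LD2_c30 LD3_c10)) :=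
  Lgr Lrot88 (Lpr_et (f108860 IH) (Lpn (LP (LK LD1_c0 LD2_c30 LD3_c10))))
theorem f25001 : Led Lsl_bt (LP (LK LD1_c0 LD2_c42 LD3_c31)) = (LP (LK LD1_c1 LD2_c31 LD3_c52)) :=
  Lre_b IH (LK LD1_c0 LD2_c42 LD3_c31) (LK LD1_c1 LD2_c31 LD3_c52) Lrfl Lrfl
theorem f108866 : Led Lsl_et (LP (LK LD1_c1 LD2_c31 LD3_c52)) = (LP (LK LD1_c0 LD2_c46 LD3_c2)) :=
  Lgr Lrot74 (Lpe (f25001 IH) (Lpr_ef (f108864 IH) (Lpe (K2.f84639 IH) (Lpn (LP (LK LD1_c0 LD2_c46 LD3_c2))))))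
theorem f124917 : Led Lsl_ft (LP (LK LD1_c0 LD2_c46 LD3_c2)) = (LP (LK LD1_c0 LD2_c42 LD3_c18)) :=
  Lgr Lrot4 (Lpe (K2.f84643 IH) (Lpr_ff (f124915 IH) (Lpr_cf (f124859 IH) (Lpn (LP (LK LD1_c0 LD2_c42 LD3_c18))))))
theorem f125653 : Led Lsl_et (LP (LK LD1_c0 LD2_c42 LD3_c18)) = (LP (LK LD1_c0 LD2_c22 LD3_c46)) :=
  Lgr Lrot69 (Lpe (f124917 IH) (Lpe (f108866 IH) (Lpr_ff (f125079 IH) (Lpe (f124134 IH) (Lpr_ff (f125647 IH) (Lpn (LP (LK LD1_c0 LD2_c22 LD3_c46))))))))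
theorem f125662 : Led Lsl_ef (LP (LK LD1_c0 LD2_c42 LD3_c18)) = (LP (LK LD1_c0 LD2_c22 LD3_c46)) :=
  Lgr Lrot88 (Lpr_et (f125653 IH) (Lpn (LP (LK LD1_c0 LD2_c22 LD3_c46))))
theorem f12557 : Led Lsl_et (LP (LK LD1_c0 LD2_c22 LD3_c42)) = (LP (LK LD1_c0 LD2_c50 LD3_c17)) :=
  Lre_e IH (LK LD1_c0 LD2_c22 LD3_c42) (LK LD1_c0 LD2_c50 LD3_c17) Lrfl Lrfl
theorem f102175 : Led Lsl_et (LP (LK LD1_c2 LD2_c21 LD3_c37)) = (LP (LK LD1_c1 LD2_c28 LD3_c59)) :=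
  Lgr Lrot158 (Lpe (K4.f79593 IH) (Lpr_ef (K4.f102171 IH) (Lpe (K3.f58755 IH) (Lpn (LP (LK LD1_c1 LD2_c28 LD3_c59))))))
theorem f124851 : Led Lsl_ef (LP (LK LD1_c1 LD2_c46 LD3_c59)) = (LP (LK LD1_c1 LD2_c31 LD3_c31)) :=
  Lgr Lrot29 (Lpr_bt (f114168 IH) (Lpr_et (f102175 IH) (Lpr_bt (f124845 IH) (Lpn (LP (LK LD1_c1 LD2_c31 LD3_c31))))))
theorem f125672 : Led Lsl_gt (LP (LK LD1_c1 LD2_c46 LD3_c56)) = (LP (LK LD1_c0 LD2_c50 LD3_c23)) :=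
  Lgr Lrot112 (Lpr_df (f124843 IH) (Lpe (f124851 IH) (Lpe (K4.f12436 IH) (Lpe (f12557 IH) (Lpr_dt (K4.f12489 IH) (Lpe (K4.f12565 IH) (Lpe (K4.f115063 IH) (Lpr_gf (f124828 IH) (Lpr_ef (f125662 IH) (Lpr_dt (K4.f107291 IH) (Lpn (LP (LK LD1_c0 LD2_c50 LD3_c23)))))))))))))
theorem f125476 : Led Lsl_gt (LP (LK LD1_c1 LD2_c31 LD3_c44)) = (LP (LK LD1_c3 LD2_c10 LD3_c41)) :=
  Lre_g IH (LK LD1_c1 LD2_c31 LD3_c44) (LK LD1_c3 LD2_c10 LD3_c41) Lrfl Lrfl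
theorem f125680 : Led Lsl_ct (LP (LK LD1_c2 LD2_c20 LD3_c39)) = (LP (LK LD1_c3 LD2_c10 LD3_c41)) :=
  Lgr Lrot10 (Lpr_bt (K4.f24027 IH) (Lpr_gt (K4.f13746 IH) (Lpr_ct (K3.f13705 IH) (Lpr_gt (K3.f72660 IH) (Lpr_cf (K4.f102109 IH) (Lpe (K4.f102250 IH) (Lpr_gt (f125672 IH) (Lpr_bf (f125555 IH) (Lpr_ct (f125475 IH) (Lpr_gt (f125476 IH) (Lpn (LP (LK LD1_c3 LD2_c10 LD3_c41)))))))))))))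
theorem f125687 : Led Lsl_ff (LP (LK LD1_c2 LD2_c21 LD3_c1)) = (LP (LK LD1_c3 LD2_c10 LD3_c41)) :=
  Lgr Lrot23 (Lpr_ct (K2.f25204 IH) (Lpe (K4.f113364 IH) (Lpr_ct (f125680 IH) (Lpn (LP (LK LD1_c3 LD2_c10 LD3_c41))))))
theorem f125709 : Led Lsl_ft (LP (LK LD1_c2 LD2_c21 LD3_c1)) = (LP (LK LD1_c3 LD2_c10 LD3_c41)) :=
  Lgr Lrot48 (Lpr_ff (f125687 IH) (Lpn (LP (LK LD1_c3 LD2_c10 LD3_c41))))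
theorem f125544 : Led Lsl_af (LP (LK LD1_c2 LD2_c21 LD3_c1)) = (LP (LK LD1_c3 LD2_c10 LD3_c42)) :=
  Lgr Lrot68 (Lpr_ct (K2.f25204 IH) (Lpr_at (K3.f77985 IH) (Lpr_ct (f125539 IH) (Lpn (LP (LK LD1_c3 LD2_c10 LD3_c42))))))
theorem f113358 : Led Lsl_af (LP (LK LD1_c2 LD2_c20 LD3_c39)) = (LP (LK LD1_c3 LD2_c24 LD3_c18)) :=
  Lgr Lrot45 (Lpr_ft (K4.f113356 IH) (Lpr_at (K3.f77985 IH) (Lpe (K3.f109997 IH) (Lpn (LP (LK LD1_c3 LD2_c24 LD3_c18))))))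
theorem f120791 : Led Lsl_ct (LP (LK LD1_c4 LD2_c41 LD3_c44)) = (LP (LK LD1_c3 LD2_c24 LD3_c18)) :=
  Lgr Lrot59 (Lpr_cf (K4.f120787 IH) (Lpn (LP (LK LD1_c3 LD2_c24 LD3_c18))))
theorem f125682 : Led Lsl_af (LP (LK LD1_c4 LD2_c41 LD3_c44)) = (LP (LK LD1_c3 LD2_c10 LD3_c41)) :=
  Lgr Lrot68 (Lpr_ct (f120791 IH) (Lpe (f113358 IH) (Lpr_ct (f125680 IH) (Lpn (LP (LK LD1_c3 LD2_c10 LD3_c41))))))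
theorem f125711 : Led Lsl_ff (LP (LK LD1_c3 LD2_c10 LD3_c42)) = (LP (LK LD1_c4 LD2_c41 LD3_c44)) :=
  Lgr Lrot30 (Lpe (f125544 IH) (Lpr_ft (f125709 IH) (Lpe (f125682 IH) (Lpn (LP (LK LD1_c4 LD2_c41 LD3_c44))))))
theorem f125546 : Led Lsl_bt (LP (LK LD1_c3 LD2_c10 LD3_c42)) = (LP (LK LD1_c6 LD2_c25 LD3_c49)) :=
  Lre_b IH (LK LD1_c3 LD2_c10 LD3_c42) (LK LD1_c6 LD2_c25 LD3_c49) Lrfl Lrfl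
theorem f83748 : Led Lsl_bt (LP (LK LD1_c1 LD2_c38 LD3_c5)) = (LP (LK LD1_c3 LD2_c23 LD3_c28)) :=
  Lre_b IH (LK LD1_c1 LD2_c38 LD3_c5) (LK LD1_c3 LD2_c23 LD3_c28) Lrfl Lrfl
theorem f77314 : Led Lsl_ct (LP (LK LD1_c3 LD2_c23 LD3_c28)) = (LP (LK LD1_c6 LD2_c50 LD3_c17)) :=
  Lre_c IH (LK LD1_c3 LD2_c23 LD3_c28) (LK LD1_c6 LD2_c50 LD3_c17) Lrfl Lrfl
theorem f120793 : Led Lsl_bf (LP (LK LD1_c4 LD2_c41 LD3_c44)) = (LP (LK LD1_c6 LD2_c50 LD3_c17)) :=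
  Lgr Lrot90 (Lpr_ct (f120791 IH) (Lpr_bt (K4.f83756 IH) (Lpr_ct (K2.f83741 IH) (Lpr_bt (f83748 IH) (Lpr_ct (f77314 IH) (Lpn (LP (LK LD1_c6 LD2_c50 LD3_c17))))))))
theorem f125761 : Led Lsl_ft (LP (LK LD1_c6 LD2_c25 LD3_c49)) = (LP (LK LD1_c6 LD2_c50 LD3_c17)) :=
  Lgr Lrot75 (Lpe (f125546 IH) (Lpr_ff (f125711 IH) (Lpr_bf (f120793 IH) (Lpn (LP (LK LD1_c6 LD2_c50 LD3_c17))))))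
theorem f125763 : Led Lsl_ff (LP (LK LD1_c6 LD2_c25 LD3_c49)) = (LP (LK LD1_c6 LD2_c50 LD3_c17)) :=
  Lgr Lrot3 (Lpr_ft (f125761 IH) (Lpn (LP (LK LD1_c6 LD2_c50 LD3_c17))))
theorem f15049 : Led Lsl_bt (LP (LK LD1_c6 LD2_c49 LD3_c36)) = (LP (LK LD1_c3 LD2_c23 LD3_c5)) :=
  Lre_b IH (LK LD1_c6 LD2_c49 LD3_c36) (LK LD1_c3 LD2_c23 LD3_c5) Lrfl Lrfl
theorem f125547 : Led Lsl_cf (LP (LK LD1_c6 LD2_c49 LD3_c36)) = (LP (LK LD1_c6 LD2_c25 LD3_c49)) :=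
  Lgr Lrot97 (Lpr_bt (f15049 IH) (Lpr_ct (K3.f90244 IH) (Lpe (K3.f79606 IH) (Lpr_ct (f125539 IH) (Lpr_bt (f125546 IH) (Lpn (LP (LK LD1_c6 LD2_c25 LD3_c49))))))))
theorem f125766 : Led Lsl_ft (LP (LK LD1_c6 LD2_c49 LD3_c36)) = (LP (LK LD1_c3 LD2_c23 LD3_c28)) :=
  Lgr Lrot4 (Lpr_cf (f125547 IH) (Lpr_ff (f125763 IH) (Lpe (f77314 IH) (Lpn (LP (LK LD1_c3 LD2_c23 LD3_c28))))))
theorem f125779 : Led Lsl_ff (LP (LK LD1_c6 LD2_c49 LD3_c36)) = (LP (LK LD1_c3 LD2_c23 LD3_c28)) :=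
  Lgr Lrot3 (Lpr_ft (f125766 IH) (Lpn (LP (LK LD1_c3 LD2_c23 LD3_c28))))
theorem f125782 : Led Lsl_ft (LP (LK LD1_c3 LD2_c23 LD3_c5)) = (LP (LK LD1_c1 LD2_c38 LD3_c5)) :=
  Lgr Lrot75 (Lpe (f15049 IH) (Lpr_ff (f125779 IH) (Lpe (f83748 IH) (Lpn (LP (LK LD1_c1 LD2_c38 LD3_c5))))))
theorem f125788 : Led Lsl_af (LP (LK LD1_c2 LD2_c20 LD3_c51)) = (LP (LK LD1_c1 LD2_c38 LD3_c5)) :=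
  Lgr Lrot31 (Lpr_gf (K3.f78162 IH) (Lpe (K4.f15045 IH) (Lpr_ft (f125782 IH) (Lpn (LP (LK LD1_c1 LD2_c38 LD3_c5))))))
theorem f125794 : Led Lsl_at (LP (LK LD1_c3 LD2_c55 LD3_c41)) = (LP (LK LD1_c3 LD2_c23 LD3_c29)) :=
  Lgr Lrot51 (Lpe (K3.f97665 IH) (Lpr_af (f125788 IH) (Lpe (K2.f83744 IH) (Lpn (LP (LK LD1_c3 LD2_c23 LD3_c29))))))
theorem f125820 : Led Lsl_ff (LP (LK LD1_c3 LD2_c55 LD3_c41)) = (LP (LK LD1_c3 LD2_c23 LD3_c32)) :=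
  Lgr Lrot52 (Lpr_at (f125794 IH) (Lpr_gf (K2.f90981 IH) (Lpr_gf (K2.f83732 IH) (Lpn (LP (LK LD1_c3 LD2_c23 LD3_c32))))))
theorem f125828 : Led Lsl_ft (LP (LK LD1_c3 LD2_c55 LD3_c41)) = (LP (LK LD1_c3 LD2_c23 LD3_c32)) :=
  Lgr Lrot48 (Lpr_ff (f125820 IH) (Lpn (LP (LK LD1_c3 LD2_c23 LD3_c32))))
theorem f90255 : Led Lsl_ct (LP (LK LD1_c0 LD2_c24 LD3_c13)) = (LP (LK LD1_c0 LD2_c53 LD3_c54)) :=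
  Lre_c IH (LK LD1_c0 LD2_c24 LD3_c13) (LK LD1_c0 LD2_c53 LD3_c54) Lrfl Lrfl
theorem f90256 : Led Lsl_dt (LP (LK LD1_c0 LD2_c53 LD3_c54)) = (LP (LK LD1_c1 LD2_c54 LD3_c31)) :=
  Lre_d IH (LK LD1_c0 LD2_c53 LD3_c54) (LK LD1_c1 LD2_c54 LD3_c31) Lrfl Lrfl
theorem f90288 : Led Lsl_ct (LP (LK LD1_c3 LD2_c55 LD3_c48)) = (LP (LK LD1_c1 LD2_c54 LD3_c31)) :=
  Lre_c IH (LK LD1_c3 LD2_c55 LD3_c48) (LK LD1_c1 LD2_c54 LD3_c31) Lrfl Lrfl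
theorem f97714 : Led Lsl_gf (LP (LK LD1_c3 LD2_c55 LD3_c48)) = (LP (LK LD1_c3 LD2_c12 LD3_c48)) :=
  Lgr Lrot104 (Lpr_ct (f90288 IH) (Lpe (f90256 IH) (Lpe (f90255 IH) (Lpr_gf (f97576 IH) (Lpe (K0.f14632 IH) (Lpr_gf (K3.f97709 IH) (Lpe (K3.f64392 IH) (Lpe (K3.f64385 IH) (Lpe (K2.f66670 IH) (Lpn (LP (LK LD1_c3 LD2_c12 LD3_c48))))))))))))
theorem f125834 : Led Lsl_af (LP (LK LD1_c3 LD2_c55 LD3_c48)) = (LP (LK LD1_c3 LD2_c23 LD3_c32)) :=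
  Lgr Lrot31 (Lpr_gf (f97714 IH) (Lpr_gf (K3.f97662 IH) (Lpr_ft (f125828 IH) (Lpn (LP (LK LD1_c3 LD2_c23 LD3_c32))))))
theorem f125816 : Led Lsl_af (LP (LK LD1_c3 LD2_c55 LD3_c41)) = (LP (LK LD1_c3 LD2_c23 LD3_c29)) :=
  Lgr Lrot0 (Lpr_at (f125794 IH) (Lpn (LP (LK LD1_c3 LD2_c23 LD3_c29))))
theorem f125840 : Led Lsl_ft (LP (LK LD1_c3 LD2_c55 LD3_c48)) = (LP (LK LD1_c3 LD2_c23 LD3_c29)) :=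
  Lgr Lrot101 (Lpr_af (f125834 IH) (Lpe (f125828 IH) (Lpr_af (f125816 IH) (Lpn (LP (LK LD1_c3 LD2_c23 LD3_c29))))))
theorem f90257 : Led Lsl_ct (LP (LK LD1_c1 LD2_c54 LD3_c31)) = (LP (LK LD1_c3 LD2_c55 LD3_c48)) :=
  Lre_c IH (LK LD1_c1 LD2_c54 LD3_c31) (LK LD1_c3 LD2_c55 LD3_c48) Lrfl Lrfl
theorem f125842 : Led Lsl_ff (LP (LK LD1_c1 LD2_c54 LD3_c31)) = (LP (LK LD1_c1 LD2_c40 LD3_c3)) :=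
  Lgr Lrot23 (Lpr_ct (f90257 IH) (Lpr_ft (f125840 IH) (Lpr_ct (K2.f91283 IH) (Lpn (LP (LK LD1_c1 LD2_c40 LD3_c3))))))
theorem f125855 : Led Lsl_ft (LP (LK LD1_c1 LD2_c54 LD3_c31)) = (LP (LK LD1_c1 LD2_c40 LD3_c3)) :=
  Lgr Lrot48 (Lpr_ff (f125842 IH) (Lpn (LP (LK LD1_c1 LD2_c40 LD3_c3))))
theorem f91289 : Led Lsl_dt (LP (LK LD1_c1 LD2_c40 LD3_c3)) = (LP (LK LD1_c0 LD2_c46 LD3_c33)) :=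
  Lre_d IH (LK LD1_c1 LD2_c40 LD3_c3) (LK LD1_c0 LD2_c46 LD3_c33) Lrfl Lrfl
theorem f125861 : Led Lsl_ff (LP (LK LD1_c0 LD2_c53 LD3_c54)) = (LP (LK LD1_c0 LD2_c46 LD3_c33)) :=
  Lgr Lrot19 (Lpr_dt (f90256 IH) (Lpr_ft (f125855 IH) (Lpr_dt (f91289 IH) (Lpn (LP (LK LD1_c0 LD2_c46 LD3_c33))))))
theorem f125876 : Led Lsl_at (LP (LK LD1_c0 LD2_c53 LD3_c54)) = (LP (LK LD1_c0 LD2_c46 LD3_c30)) :=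
  Lgr Lrot26 (Lpr_ff (f125861 IH) (Lpe (K3.f95025 IH) (Lpr_gt (K3.f14604 IH) (Lpn (LP (LK LD1_c0 LD2_c46 LD3_c30))))))
theorem f125882 : Led Lsl_et (LP (LK LD1_c1 LD2_c54 LD3_c32)) = (LP (LK LD1_c0 LD2_c53 LD3_c54)) :=
  Lre_e IH (LK LD1_c1 LD2_c54 LD3_c32) (LK LD1_c0 LD2_c53 LD3_c54) Lrfl Lrfl
theorem f91140 : Led Lsl_et (LP (LK LD1_c0 LD2_c46 LD3_c30)) = (LP (LK LD1_c1 LD2_c39 LD3_c58)) :=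
  Lre_e IH (LK LD1_c0 LD2_c46 LD3_c30) (LK LD1_c1 LD2_c39 LD3_c58) Lrfl Lrfl
theorem f125883 : Led Lsl_af (LP (LK LD1_c1 LD2_c54 LD3_c32)) = (LP (LK LD1_c1 LD2_c39 LD3_c58)) :=
  Lgr Lrot50 (Lpr_et (f125882 IH) (Lpr_at (f125876 IH) (Lpr_et (f91140 IH) (Lpn (LP (LK LD1_c1 LD2_c39 LD3_c58))))))
theorem f123509 : Led Lsl_ct (LP (LK LD1_c1 LD2_c54 LD3_c32)) = (LP (LK LD1_c0 LD2_c53 LD3_c55)) :=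
  Lre_c IH (LK LD1_c1 LD2_c54 LD3_c32) (LK LD1_c0 LD2_c53 LD3_c55) Lrfl Lrfl
theorem f15092 : Led Lsl_ct (LP (LK LD1_c0 LD2_c46 LD3_c31)) = (LP (LK LD1_c1 LD2_c39 LD3_c58)) :=
  Lre_c IH (LK LD1_c0 LD2_c46 LD3_c31) (LK LD1_c1 LD2_c39 LD3_c58) Lrfl Lrfl
theorem f125887 : Led Lsl_at (LP (LK LD1_c0 LD2_c53 LD3_c55)) = (LP (LK LD1_c0 LD2_c46 LD3_c31)) :=
  Lgr Lrot107 (Lpe (f123509 IH) (Lpr_af (f125883 IH) (Lpe (f15092 IH) (Lpn (LP (LK LD1_c0 LD2_c46 LD3_c31))))))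
theorem f126002 : Led Lsl_af (LP (LK LD1_c0 LD2_c53 LD3_c55)) = (LP (LK LD1_c0 LD2_c46 LD3_c31)) :=
  Lgr Lrot0 (Lpr_at (f125887 IH) (Lpn (LP (LK LD1_c0 LD2_c46 LD3_c31))))
theorem f90289 : Led Lsl_et (LP (LK LD1_c0 LD2_c53 LD3_c55)) = (LP (LK LD1_c0 LD2_c24 LD3_c13)) :=
  Lre_e IH (LK LD1_c0 LD2_c53 LD3_c55) (LK LD1_c0 LD2_c24 LD3_c13) Lrfl Lrfl
theorem f90860 : Led Lsl_et (LP (LK LD1_c0 LD2_c20 LD3_c53)) = (LP (LK LD1_c0 LD2_c46 LD3_c31)) :=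
  Lre_e IH (LK LD1_c0 LD2_c20 LD3_c53) (LK LD1_c0 LD2_c46 LD3_c31) Lrfl Lrfl
theorem f126007 : Led Lsl_at (LP (LK LD1_c0 LD2_c24 LD3_c13)) = (LP (LK LD1_c0 LD2_c20 LD3_c53)) :=
  Lgr Lrot80 (Lpe (f90289 IH) (Lpr_af (f126002 IH) (Lpe (f90860 IH) (Lpn (LP (LK LD1_c0 LD2_c20 LD3_c53))))))
theorem f126014 : Led Lsl_ff (LP (LK LD1_c0 LD2_c24 LD3_c13)) = (LP (LK LD1_c0 LD2_c20 LD3_c54)) :=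
  Lgr Lrot52 (Lpr_at (f126007 IH) (Lpe (K2.f9903 IH) (Lpe (K2.f9907 IH) (Lpn (LP (LK LD1_c0 LD2_c20 LD3_c54))))))
theorem f126018 : Led Lsl_ft (LP (LK LD1_c0 LD2_c21 LD3_c24)) = (LP (LK LD1_c0 LD2_c20 LD3_c24)) :=
  Lgr Lrot54 (Lpe (K4.f90258 IH) (Lpr_ff (f126014 IH) (Lpe (K2.f90845 IH) (Lpn (LP (LK LD1_c0 LD2_c20 LD3_c24))))))
theorem f126027 : Led Lsl_ff (LP (LK LD1_c0 LD2_c21 LD3_c24)) = (LP (LK LD1_c0 LD2_c20 LD3_c24)) :=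
  Lgr Lrot3 (Lpr_ft (f126018 IH) (Lpn (LP (LK LD1_c0 LD2_c20 LD3_c24))))
theorem f126029 : Led Lsl_ft (LP (LK LD1_c0 LD2_c47 LD3_c50)) = (LP (LK LD1_c0 LD2_c45 LD3_c43)) :=
  Lgr Lrot4 (Lpe (K2.f12107 IH) (Lpr_ff (f126027 IH) (Lpe (K2.f19345 IH) (Lpn (LP (LK LD1_c0 LD2_c45 LD3_c43))))))
theorem f126037 : Led Lsl_ff (LP (LK LD1_c1 LD2_c7 LD3_c46)) = (LP (LK LD1_c1 LD2_c38 LD3_c37)) :=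
  Lgr Lrot19 (Lpr_dt (f78195 IH) (Lpr_ft (f126029 IH) (Lpr_dt (K2.f19344 IH) (Lpn (LP (LK LD1_c1 LD2_c38 LD3_c37))))))
theorem f126041 : Led Lsl_ft (LP (LK LD1_c1 LD2_c7 LD3_c46)) = (LP (LK LD1_c1 LD2_c38 LD3_c37)) :=
  Lgr Lrot48 (Lpr_ff (f126037 IH) (Lpn (LP (LK LD1_c1 LD2_c38 LD3_c37))))
theorem f97669 : Led Lsl_et (LP (LK LD1_c2 LD2_c20 LD3_c51)) = (LP (LK LD1_c4 LD2_c45 LD3_c29)) :=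
  Lre_e IH (LK LD1_c2 LD2_c20 LD3_c51) (LK LD1_c4 LD2_c45 LD3_c29) Lrfl Lrfl
theorem f15015 : Led Lsl_et (LP (LK LD1_c3 LD2_c23 LD3_c30)) = (LP (LK LD1_c1 LD2_c38 LD3_c5)) :=
  Lre_e IH (LK LD1_c3 LD2_c23 LD3_c30) (LK LD1_c1 LD2_c38 LD3_c5) Lrfl Lrfl
theorem f125796 : Led Lsl_at (LP (LK LD1_c4 LD2_c45 LD3_c29)) = (LP (LK LD1_c3 LD2_c23 LD3_c30)) :=
  Lgr Lrot80 (Lpe (f97669 IH) (Lpr_af (f125788 IH) (Lpe (f15015 IH) (Lpn (LP (LK LD1_c3 LD2_c23 LD3_c30))))))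
theorem f125801 : Led Lsl_ct (LP (LK LD1_c2 LD2_c20 LD3_c52)) = (LP (LK LD1_c4 LD2_c45 LD3_c29)) :=
  Lre_c IH (LK LD1_c2 LD2_c20 LD3_c52) (LK LD1_c4 LD2_c45 LD3_c29) Lrfl Lrfl
theorem f83745 : Led Lsl_et (LP (LK LD1_c1 LD2_c38 LD3_c33)) = (LP (LK LD1_c3 LD2_c24 LD3_c19)) :=
  Lre_e IH (LK LD1_c1 LD2_c38 LD3_c33) (LK LD1_c3 LD2_c24 LD3_c19) Lrfl Lrfl
theorem f83746 : Led Lsl_ct (LP (LK LD1_c3 LD2_c24 LD3_c19)) = (LP (LK LD1_c3 LD2_c23 LD3_c30)) :=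
  Lgr Lrot15 (Lpe (f83745 IH) (Lpr_cf (K2.f83736 IH) (Lpe (f15015 IH) (Lpn (LP (LK LD1_c3 LD2_c23 LD3_c30))))))
theorem f83752 : Led Lsl_cf (LP (LK LD1_c3 LD2_c24 LD3_c19)) = (LP (LK LD1_c3 LD2_c23 LD3_c30)) :=
  Lgr Lrot11 (Lpr_ct (f83746 IH) (Lpn (LP (LK LD1_c3 LD2_c23 LD3_c30))))
theorem f125802 : Led Lsl_af (LP (LK LD1_c2 LD2_c20 LD3_c52)) = (LP (LK LD1_c3 LD2_c24 LD3_c19)) :=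
  Lgr Lrot68 (Lpr_ct (f125801 IH) (Lpr_at (f125796 IH) (Lpe (f83752 IH) (Lpn (LP (LK LD1_c3 LD2_c24 LD3_c19))))))
theorem f125804 : Led Lsl_at (LP (LK LD1_c2 LD2_c20 LD3_c52)) = (LP (LK LD1_c3 LD2_c24 LD3_c19)) :=
  Lgr Lrot100 (Lpr_af (f125802 IH) (Lpn (LP (LK LD1_c3 LD2_c24 LD3_c19))))
theorem f83754 : Led Lsl_et (LP (LK LD1_c3 LD2_c24 LD3_c19)) = (LP (LK LD1_c1 LD2_c38 LD3_c33)) :=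
  Lre_e IH (LK LD1_c3 LD2_c24 LD3_c19) (LK LD1_c1 LD2_c38 LD3_c33) Lrfl Lrfl
theorem f125812 : Led Lsl_af (LP (LK LD1_c1 LD2_c7 LD3_c46)) = (LP (LK LD1_c1 LD2_c38 LD3_c33)) :=
  Lgr Lrot50 (Lpr_et (K3.f78206 IH) (Lpr_at (f125804 IH) (Lpr_et (f83754 IH) (Lpn (LP (LK LD1_c1 LD2_c38 LD3_c33))))))
theorem f83740 : Led Lsl_bt (LP (LK LD1_c1 LD2_c38 LD3_c33)) = (LP (LK LD1_c3 LD2_c24 LD3_c18)) :=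
  Lre_b IH (LK LD1_c1 LD2_c38 LD3_c33) (LK LD1_c3 LD2_c24 LD3_c18) Lrfl Lrfl
theorem f79612 : Led Lsl_bt (LP (LK LD1_c2 LD2_c21 LD3_c0)) = (LP (LK LD1_c1 LD2_c42 LD3_c31)) :=
  Lgr Lrot95 (Lpr_df (K3.f79608 IH) (Lpe (K2.f64406 IH) (Lpe (K3.f17661 IH) (Lpn (LP (LK LD1_c1 LD2_c42 LD3_c31))))))
theorem f109993 : Led Lsl_ff (LP (LK LD1_c1 LD2_c38 LD3_c33)) = (LP (LK LD1_c1 LD2_c42 LD3_c31)) :=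
  Lgr Lrot25 (Lpr_bt (f83740 IH) (Lpr_ft (K3.f109991 IH) (Lpr_bt (f79612 IH) (Lpn (LP (LK LD1_c1 LD2_c42 LD3_c31))))))
theorem f126043 : Led Lsl_af (LP (LK LD1_c1 LD2_c42 LD3_c31)) = (LP (LK LD1_c1 LD2_c38 LD3_c37)) :=
  Lgr Lrot45 (Lpe (f109993 IH) (Lpe (f125812 IH) (Lpr_ft (f126041 IH) (Lpn (LP (LK LD1_c1 LD2_c38 LD3_c37))))))
theorem f126047 : Led Lsl_at (LP (LK LD1_c0 LD2_c47 LD3_c48)) = (LP (LK LD1_c0 LD2_c45 LD3_c43)) :=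
  Lgr Lrot51 (Lpe (K3.f17661 IH) (Lpr_af (f126043 IH) (Lpe (K2.f19344 IH) (Lpn (LP (LK LD1_c0 LD2_c45 LD3_c43))))))
theorem f90268 : Led Lsl_et (LP (LK LD1_c1 LD2_c40 LD3_c30)) = (LP (LK LD1_c0 LD2_c47 LD3_c48)) :=
  Lgr Lrot158 (Lpe (K4.f90267 IH) (Lpr_ef (K4.f90262 IH) (Lpe (K2.f17665 IH) (Lpn (LP (LK LD1_c0 LD2_c47 LD3_c48))))))
theorem f126051 : Led Lsl_af (LP (LK LD1_c1 LD2_c40 LD3_c30)) = (LP (LK LD1_c1 LD2_c38 LD3_c38)) :=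
  Lgr Lrot50 (Lpr_et (f90268 IH) (Lpr_at (f126047 IH) (Lpr_et (K2.f91315 IH) (Lpn (LP (LK LD1_c1 LD2_c38 LD3_c38))))))
theorem f126061 : Led Lsl_ft (LP (LK LD1_c1 LD2_c40 LD3_c32)) = (LP (LK LD1_c1 LD2_c38 LD3_c38)) :=
  Lgr Lrot2 (Lpe (K4.f106364 IH) (Lpe (K4.f105942 IH) (Lpr_af (f126051 IH) (Lpn (LP (LK LD1_c1 LD2_c38 LD3_c38))))))
theorem f126065 : Led Lsl_ff (LP (LK LD1_c1 LD2_c40 LD3_c32)) = (LP (LK LD1_c1 LD2_c38 LD3_c38)) :=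
  Lgr Lrot3 (Lpr_ft (f126061 IH) (Lpn (LP (LK LD1_c1 LD2_c38 LD3_c38))))
theorem f126069 : Led Lsl_at (LP (LK LD1_c1 LD2_c40 LD3_c32)) = (LP (LK LD1_c1 LD2_c42 LD3_c36)) :=
  Lgr Lrot26 (Lpr_ff (f126065 IH) (Lpe (K2.f94347 IH) (Lpr_gt (K4.f114164 IH) (Lpn (LP (LK LD1_c1 LD2_c42 LD3_c36))))))
theorem f126055 : Led Lsl_at (LP (LK LD1_c1 LD2_c40 LD3_c30)) = (LP (LK LD1_c1 LD2_c38 LD3_c38)) :=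
  Lgr Lrot100 (Lpr_af (f126051 IH) (Lpn (LP (LK LD1_c1 LD2_c38 LD3_c38))))
theorem f126075 : Led Lsl_ff (LP (LK LD1_c1 LD2_c40 LD3_c30)) = (LP (LK LD1_c1 LD2_c42 LD3_c36)) :=
  Lgr Lrot30 (Lpr_at (f126055 IH) (Lpe (f126065 IH) (Lpr_at (f126069 IH) (Lpn (LP (LK LD1_c1 LD2_c42 LD3_c36))))))
theorem f126083 : Led Lsl_ft (LP (LK LD1_c1 LD2_c40 LD3_c30)) = (LP (LK LD1_c1 LD2_c42 LD3_c36)) :=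
  Lgr Lrot48 (Lpr_ff (f126075 IH) (Lpn (LP (LK LD1_c1 LD2_c42 LD3_c36))))
theorem f12643 : Led Lsl_ct (LP (LK LD1_c1 LD2_c42 LD3_c36)) = (LP (LK LD1_c0 LD2_c47 LD3_c54)) :=
  Lre_c IH (LK LD1_c1 LD2_c42 LD3_c36) (LK LD1_c0 LD2_c47 LD3_c54) Lrfl Lrfl
theorem f126085 : Led Lsl_ff (LP (LK LD1_c0 LD2_c46 LD3_c42)) = (LP (LK LD1_c0 LD2_c47 LD3_c54)) :=
  Lgr Lrot23 (Lpr_ct (K4.f90267 IH) (Lpr_ft (f126083 IH) (Lpr_ct (f12643 IH) (Lpn (LP (LK LD1_c0 LD2_c47 LD3_c54))))))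
theorem f126094 : Led Lsl_ft (LP (LK LD1_c1 LD2_c26 LD3_c54)) = (LP (LK LD1_c1 LD2_c35 LD3_c54)) :=
  Lgr Lrot75 (Lpe (K4.f90265 IH) (Lpr_ff (f126085 IH) (Lpe (K4.f12630 IH) (Lpn (LP (LK LD1_c1 LD2_c35 LD3_c54))))))
theorem f126098 : Led Lsl_ff (LP (LK LD1_c0 LD2_c40 LD3_c15)) = (LP (LK LD1_c0 LD2_c44 LD3_c28)) :=
  Lgr Lrot23 (Lpr_ct (K4.f64503 IH) (Lpr_ft (f126094 IH) (Lpr_ct (K4.f12170 IH) (Lpn (LP (LK LD1_c0 LD2_c44 LD3_c28))))))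
theorem f126106 : Led Lsl_ft (LP (LK LD1_c0 LD2_c40 LD3_c15)) = (LP (LK LD1_c0 LD2_c44 LD3_c28)) :=
  Lgr Lrot48 (Lpr_ff (f126098 IH) (Lpn (LP (LK LD1_c0 LD2_c44 LD3_c28))))
theorem f61990 : Led Lsl_dt (LP (LK LD1_c1 LD2_c26 LD3_c55)) = (LP (LK LD1_c0 LD2_c40 LD3_c15)) :=
  Lre_d IH (LK LD1_c1 LD2_c26 LD3_c55) (LK LD1_c0 LD2_c40 LD3_c15) Lrfl Lrfl
theorem f86166 : Led Lsl_dt (LP (LK LD1_c0 LD2_c44 LD3_c28)) = (LP (LK LD1_c1 LD2_c35 LD3_c55)) :=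
  Lre_d IH (LK LD1_c0 LD2_c44 LD3_c28) (LK LD1_c1 LD2_c35 LD3_c55) Lrfl Lrfl
theorem f126110 : Led Lsl_ff (LP (LK LD1_c1 LD2_c26 LD3_c55)) = (LP (LK LD1_c1 LD2_c35 LD3_c55)) :=
  Lgr Lrot19 (Lpr_dt (f61990 IH) (Lpr_ft (f126106 IH) (Lpr_dt (f86166 IH) (Lpn (LP (LK LD1_c1 LD2_c35 LD3_c55))))))
theorem f64499 : Led Lsl_ct (LP (LK LD1_c1 LD2_c26 LD3_c55)) = (LP (LK LD1_c3 LD2_c1 LD3_c41)) :=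
  Lre_c IH (LK LD1_c1 LD2_c26 LD3_c55) (LK LD1_c3 LD2_c1 LD3_c41) Lrfl Lrfl
theorem f114156 : Led Lsl_ct (LP (LK LD1_c3 LD2_c18 LD3_c51)) = (LP (LK LD1_c1 LD2_c35 LD3_c55)) :=
  Lre_c IH (LK LD1_c3 LD2_c18 LD3_c51) (LK LD1_c1 LD2_c35 LD3_c55) Lrfl Lrfl
theorem f126114 : Led Lsl_ft (LP (LK LD1_c3 LD2_c1 LD3_c41)) = (LP (LK LD1_c3 LD2_c18 LD3_c51)) :=
  Lgr Lrot4 (Lpe (f64499 IH) (Lpr_ff (f126110 IH) (Lpe (f114156 IH) (Lpn (LP (LK LD1_c3 LD2_c18 LD3_c51))))))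
theorem f94384 : Led Lsl_dt (LP (LK LD1_c1 LD2_c35 LD3_c52)) = (LP (LK LD1_c0 LD2_c44 LD3_c27)) :=
  Lre_d IH (LK LD1_c1 LD2_c35 LD3_c52) (LK LD1_c0 LD2_c44 LD3_c27) Lrfl Lrfl
theorem f113980 : Led Lsl_et (LP (LK LD1_c3 LD2_c16 LD3_c7)) = (LP (LK LD1_c1 LD2_c35 LD3_c52)) :=
  Lgr Lrot71 (Lpe (K4.f113979 IH) (Lpe (K4.f113978 IH) (Lpr_df (K4.f113970 IH) (Lpe (K4.f113965 IH) (Lpe (f94384 IH) (Lpn (LP (LK LD1_c1 LD2_c35 LD3_c52))))))))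
theorem f118237 : Led Lsl_af (LP (LK LD1_c1 LD2_c26 LD3_c55)) = (LP (LK LD1_c1 LD2_c35 LD3_c52)) :=
  Lgr Lrot50 (Lpr_et (K1.f61974 IH) (Lpr_at (K4.f118233 IH) (Lpr_et (f113980 IH) (Lpn (LP (LK LD1_c1 LD2_c35 LD3_c52))))))
theorem f113942 : Led Lsl_ct (LP (LK LD1_c3 LD2_c18 LD3_c50)) = (LP (LK LD1_c1 LD2_c35 LD3_c52)) :=
  Lre_c IH (LK LD1_c3 LD2_c18 LD3_c50) (LK LD1_c1 LD2_c35 LD3_c52) Lrfl Lrfl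
theorem f119215 : Led Lsl_at (LP (LK LD1_c3 LD2_c1 LD3_c41)) = (LP (LK LD1_c3 LD2_c18 LD3_c50)) :=
  Lgr Lrot107 (Lpe (f64499 IH) (Lpr_af (f118237 IH) (Lpe (f113942 IH) (Lpn (LP (LK LD1_c3 LD2_c18 LD3_c50))))))
theorem f119217 : Led Lsl_af (LP (LK LD1_c3 LD2_c1 LD3_c41)) = (LP (LK LD1_c3 LD2_c18 LD3_c50)) :=
  Lgr Lrot0 (Lpr_at (f119215 IH) (Lpn (LP (LK LD1_c3 LD2_c18 LD3_c50))))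
theorem f86060 : Led Lsl_ct (LP (LK LD1_c3 LD2_c2 LD3_c27)) = (LP (LK LD1_c6 LD2_c11 LD3_c45)) :=
  Lre_c IH (LK LD1_c3 LD2_c2 LD3_c27) (LK LD1_c6 LD2_c11 LD3_c45) Lrfl Lrfl
theorem f113943 : Led Lsl_ff (LP (LK LD1_c3 LD2_c18 LD3_c50)) = (LP (LK LD1_c6 LD2_c11 LD3_c45)) :=
  Lgr Lrot23 (Lpr_ct (f113942 IH) (Lpr_ft (K4.f113940 IH) (Lpr_ct (f86060 IH) (Lpn (LP (LK LD1_c6 LD2_c11 LD3_c45))))))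
theorem f126116 : Led Lsl_af (LP (LK LD1_c6 LD2_c11 LD3_c45)) = (LP (LK LD1_c3 LD2_c18 LD3_c51)) :=
  Lgr Lrot45 (Lpe (f113943 IH) (Lpe (f119217 IH) (Lpr_ft (f126114 IH) (Lpn (LP (LK LD1_c3 LD2_c18 LD3_c51))))))
theorem f106712 : Led Lsl_dt (LP (LK LD1_c6 LD2_c11 LD3_c45)) = (LP (LK LD1_c12 LD2_c3 LD3_c22)) :=
  Lre_d IH (LK LD1_c6 LD2_c11 LD3_c45) (LK LD1_c12 LD2_c3 LD3_c22) Lrfl Lrfl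
theorem f114314 : Led Lsl_dt (LP (LK LD1_c6 LD2_c41 LD3_c35)) = (LP (LK LD1_c3 LD2_c18 LD3_c51)) :=
  Lre_d IH (LK LD1_c6 LD2_c41 LD3_c35) (LK LD1_c3 LD2_c18 LD3_c51) Lrfl Lrfl
theorem f126149 : Led Lsl_at (LP (LK LD1_c12 LD2_c3 LD3_c22)) = (LP (LK LD1_c6 LD2_c41 LD3_c35)) :=
  Lgr Lrot51 (Lpe (f106712 IH) (Lpr_af (f126116 IH) (Lpe (f114314 IH) (Lpn (LP (LK LD1_c6 LD2_c41 LD3_c35))))))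
theorem f126151 : Led Lsl_af (LP (LK LD1_c12 LD2_c3 LD3_c22)) = (LP (LK LD1_c6 LD2_c41 LD3_c35)) :=
  Lgr Lrot0 (Lpr_at (f126149 IH) (Lpn (LP (LK LD1_c6 LD2_c41 LD3_c35))))
theorem f126120 : Led Lsl_ff (LP (LK LD1_c3 LD2_c1 LD3_c41)) = (LP (LK LD1_c3 LD2_c18 LD3_c51)) :=
  Lgr Lrot3 (Lpr_ft (f126114 IH) (Lpn (LP (LK LD1_c3 LD2_c18 LD3_c51))))
theorem f64530 : Led Lsl_dt (LP (LK LD1_c3 LD2_c1 LD3_c41)) = (LP (LK LD1_c6 LD2_c10 LD3_c7)) :=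
  Lre_d IH (LK LD1_c3 LD2_c1 LD3_c41) (LK LD1_c6 LD2_c10 LD3_c7) Lrfl Lrfl
theorem f126127 : Led Lsl_ft (LP (LK LD1_c6 LD2_c10 LD3_c7)) = (LP (LK LD1_c6 LD2_c41 LD3_c35)) :=
  Lgr Lrot54 (Lpe (f64530 IH) (Lpr_ff (f126120 IH) (Lpe (f114314 IH) (Lpn (LP (LK LD1_c6 LD2_c41 LD3_c35))))))
theorem f119276 : Led Lsl_gt (LP (LK LD1_c6 LD2_c10 LD3_c7)) = (LP (LK LD1_c12 LD2_c1 LD3_c5)) :=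
  Lre_g IH (LK LD1_c6 LD2_c10 LD3_c7) (LK LD1_c12 LD2_c1 LD3_c5) Lrfl Lrfl
theorem f126200 : Led Lsl_gf (LP (LK LD1_c12 LD2_c3 LD3_c22)) = (LP (LK LD1_c12 LD2_c1 LD3_c5)) :=
  Lgr Lrot76 (Lpr_af (f126151 IH) (Lpe (f126127 IH) (Lpr_gt (f119276 IH) (Lpn (LP (LK LD1_c12 LD2_c1 LD3_c5))))))
theorem f106711 : Led Lsl_dt (LP (LK LD1_c12 LD2_c3 LD3_c22)) = (LP (LK LD1_c6 LD2_c11 LD3_c45)) :=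
  Lre_d IH (LK LD1_c12 LD2_c3 LD3_c22) (LK LD1_c6 LD2_c11 LD3_c45) Lrfl Lrfl
theorem f105723 : Led Lsl_ct (LP (LK LD1_c6 LD2_c11 LD3_c45)) = (LP (LK LD1_c3 LD2_c2 LD3_c27)) :=
  Lre_c IH (LK LD1_c6 LD2_c11 LD3_c45) (LK LD1_c3 LD2_c2 LD3_c27) Lrfl Lrfl
theorem f62881 : Led Lsl_dt (LP (LK LD1_c1 LD2_c27 LD3_c11)) = (LP (LK LD1_c3 LD2_c2 LD3_c27)) :=
  Lre_d IH (LK LD1_c1 LD2_c27 LD3_c11) (LK LD1_c3 LD2_c2 LD3_c27) Lrfl Lrfl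
theorem f11112 : Led Lsl_dt (LP (LK LD1_c1 LD2_c27 LD3_c12)) = (LP (LK LD1_c0 LD2_c40 LD3_c22)) :=
  Lre_d IH (LK LD1_c1 LD2_c27 LD3_c12) (LK LD1_c0 LD2_c40 LD3_c22) Lrfl Lrfl
theorem f114000 : Led Lsl_ct (LP (LK LD1_c3 LD2_c1 LD3_c26)) = (LP (LK LD1_c6 LD2_c9 LD3_c55)) :=
  Lre_c IH (LK LD1_c3 LD2_c1 LD3_c26) (LK LD1_c6 LD2_c9 LD3_c55) Lrfl Lrfl
theorem f17759 : Led Lsl_dt (LP (LK LD1_c3 LD2_c28 LD3_c33)) = (LP (LK LD1_c1 LD2_c40 LD3_c60)) :=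
  Lre_d IH (LK LD1_c3 LD2_c28 LD3_c33) (LK LD1_c1 LD2_c40 LD3_c60) Lrfl Lrfl
theorem f17753 : Led Lsl_ct (LP (LK LD1_c6 LD2_c58 LD3_c61)) = (LP (LK LD1_c3 LD2_c28 LD3_c33)) :=
  Lre_c IH (LK LD1_c6 LD2_c58 LD3_c61) (LK LD1_c3 LD2_c28 LD3_c33) Lrfl Lrfl
theorem f114012 : Led Lsl_gt (LP (LK LD1_c6 LD2_c9 LD3_c55)) = (LP (LK LD1_c6 LD2_c58 LD3_c61)) :=
  Lgr Lrot150 (Lpe (f114000 IH) (Lpr_gf (K4.f113998 IH) (Lpe (K4.f62887 IH) (Lpe (K3.f64492 IH) (Lpr_ct (K4.f64503 IH) (Lpe (K3.f94536 IH) (Lpr_ct (K0.f17762 IH) (Lpe (f17759 IH) (Lpe (f17753 IH) (Lpn (LP (LK LD1_c6 LD2_c58 LD3_c61))))))))))))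
theorem f126202 : Led Lsl_dt (LP (LK LD1_c6 LD2_c58 LD3_c61)) = (LP (LK LD1_c12 LD2_c1 LD3_c5)) :=
  Lgr Lrot57 (Lpe (f114012 IH) (Lpe (f114000 IH) (Lpr_gt (K4.f113995 IH) (Lpr_dt (f11112 IH) (Lpr_gt (K3.f12162 IH) (Lpr_dt (f62881 IH) (Lpe (f105723 IH) (Lpe (f106711 IH) (Lpr_gf (f126200 IH) (Lpn (LP (LK LD1_c12 LD2_c1 LD3_c5))))))))))))
theorem f114364 : Led Lsl_ft (LP (LK LD1_c6 LD2_c9 LD3_c55)) = (LP (LK LD1_c3 LD2_c18 LD3_c52)) :=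
  Lgr Lrot48 (Lpr_ff (K4.f114358 IH) (Lpn (LP (LK LD1_c3 LD2_c18 LD3_c52))))
theorem f114326 : Led Lsl_ct (LP (LK LD1_c6 LD2_c10 LD3_c3)) = (LP (LK LD1_c3 LD2_c1 LD3_c37)) :=
  Lre_c IH (LK LD1_c6 LD2_c10 LD3_c3) (LK LD1_c3 LD2_c1 LD3_c37) Lrfl Lrfl
theorem f114327 : Led Lsl_af (LP (LK LD1_c6 LD2_c10 LD3_c3)) = (LP (LK LD1_c3 LD2_c18 LD3_c52)) :=
  Lgr Lrot68 (Lpr_ct (f114326 IH) (Lpr_at (K4.f114312 IH) (Lpr_ct (K4.f114161 IH) (Lpn (LP (LK LD1_c3 LD2_c18 LD3_c52))))))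
theorem f114375 : Led Lsl_gt (LP (LK LD1_c6 LD2_c58 LD3_c61)) = (LP (LK LD1_c6 LD2_c10 LD3_c3)) :=
  Lgr Lrot46 (Lpe (f114012 IH) (Lpr_ft (f114364 IH) (Lpe (f114327 IH) (Lpn (LP (LK LD1_c6 LD2_c10 LD3_c3))))))
theorem f114007 : Led Lsl_at (LP (LK LD1_c1 LD2_c26 LD3_c49)) = (LP (LK LD1_c3 LD2_c1 LD3_c26)) :=
  Lre_a IH (LK LD1_c1 LD2_c26 LD3_c49) (LK LD1_c3 LD2_c1 LD3_c26) Lrfl Lrfl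
theorem f78965 : Led Lsl_ft (LP (LK LD1_c3 LD2_c1 LD3_c37)) = (LP (LK LD1_c1 LD2_c26 LD3_c49)) :=
  Lre_f IH (LK LD1_c3 LD2_c1 LD3_c37) (LK LD1_c1 LD2_c26 LD3_c49) Lrfl Lrfl
theorem f114008 : Led Lsl_gt (LP (LK LD1_c3 LD2_c1 LD3_c37)) = (LP (LK LD1_c1 LD2_c34 LD3_c15)) :=
  Lgr Lrot5 (Lpr_ft (f78965 IH) (Lpr_at (f114007 IH) (Lpr_gf (K4.f113998 IH) (Lpn (LP (LK LD1_c1 LD2_c34 LD3_c15))))))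
theorem f86355 : Led Lsl_ct (LP (LK LD1_c1 LD2_c34 LD3_c15)) = (LP (LK LD1_c3 LD2_c15 LD3_c13)) :=
  Lre_c IH (LK LD1_c1 LD2_c34 LD3_c15) (LK LD1_c3 LD2_c15 LD3_c13) Lrfl Lrfl
theorem f90633 : Led Lsl_dt (LP (LK LD1_c6 LD2_c33 LD3_c52)) = (LP (LK LD1_c3 LD2_c15 LD3_c13)) :=
  Lre_d IH (LK LD1_c6 LD2_c33 LD3_c52) (LK LD1_c3 LD2_c15 LD3_c13) Lrfl Lrfl
theorem f105702 : Led Lsl_ct (LP (LK LD1_c3 LD2_c31 LD3_c9)) = (LP (LK LD1_c6 LD2_c33 LD3_c52)) :=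
  Lre_c IH (LK LD1_c3 LD2_c31 LD3_c9) (LK LD1_c6 LD2_c33 LD3_c52) Lrfl Lrfl
theorem f11131 : Led Lsl_gt (LP (LK LD1_c7 LD2_c4 LD3_c10)) = (LP (LK LD1_c3 LD2_c31 LD3_c9)) :=
  Lre_g IH (LK LD1_c7 LD2_c4 LD3_c10) (LK LD1_c3 LD2_c31 LD3_c9) Lrfl Lrfl
theorem f126204 : Led Lsl_ct (LP (LK LD1_c12 LD2_c3 LD3_c22)) = (LP (LK LD1_c7 LD2_c4 LD3_c10)) :=
  Lgr Lrot152 (Lpr_gf (f126200 IH) (Lpe (f126202 IH) (Lpr_gt (f114375 IH) (Lpr_ct (f114326 IH) (Lpr_gt (f114008 IH) (Lpr_ct (f86355 IH) (Lpe (f90633 IH) (Lpe (f105702 IH) (Lpe (f11131 IH) (Lpn (LP (LK LD1_c7 LD2_c4 LD3_c10))))))))))))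
theorem f90632 : Led Lsl_dt (LP (LK LD1_c3 LD2_c15 LD3_c13)) = (LP (LK LD1_c6 LD2_c33 LD3_c52)) :=
  Lre_d IH (LK LD1_c3 LD2_c15 LD3_c13) (LK LD1_c6 LD2_c33 LD3_c52) Lrfl Lrfl
theorem f126206 : Led Lsl_df (LP (LK LD1_c6 LD2_c58 LD3_c61)) = (LP (LK LD1_c12 LD2_c1 LD3_c5)) :=
  Lgr Lrot155 (Lpr_gt (f114375 IH) (Lpr_ct (f114326 IH) (Lpr_gt (f114008 IH) (Lpr_ct (f86355 IH) (Lpr_dt (f90632 IH) (Lpe (f105702 IH) (Lpe (f11131 IH) (Lpe (f126204 IH) (Lpr_gf (f126200 IH) (Lpn (LP (LK LD1_c12 LD2_c1 LD3_c5))))))))))))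
theorem f85303 : Led Lsl_dt (LP (LK LD1_c3 LD2_c28 LD3_c48)) = (LP (LK LD1_c6 LD2_c59 LD3_c13)) :=
  Lre_d IH (LK LD1_c3 LD2_c28 LD3_c48) (LK LD1_c6 LD2_c59 LD3_c13) Lrfl Lrfl
theorem f126211 : Led Lsl_ct (LP (LK LD1_c6 LD2_c59 LD3_c13)) = (LP (LK LD1_c12 LD2_c1 LD3_c5)) :=
  Lgr Lrot41 (Lpe (f85303 IH) (Lpe (K3.f95763 IH) (Lpe (K3.f65504 IH) (Lpr_ft (K3.f106319 IH) (Lpr_at (K3.f17767 IH) (Lpr_cf (K0.f17746 IH) (Lpe (f17759 IH) (Lpe (f17753 IH) (Lpr_df (f126206 IH) (Lpn (LP (LK LD1_c12 LD2_c1 LD3_c5))))))))))))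
theorem f126217 : Led Lsl_cf (LP (LK LD1_c6 LD2_c59 LD3_c13)) = (LP (LK LD1_c12 LD2_c1 LD3_c5)) :=
  Lgr Lrot11 (Lpr_ct (f126211 IH) (Lpn (LP (LK LD1_c12 LD2_c1 LD3_c5))))
theorem f85301 : Led Lsl_dt (LP (LK LD1_c6 LD2_c59 LD3_c13)) = (LP (LK LD1_c3 LD2_c28 LD3_c48)) :=
  Lre_d IH (LK LD1_c6 LD2_c59 LD3_c13) (LK LD1_c3 LD2_c28 LD3_c48) Lrfl Lrfl
theorem f17756 : Led Lsl_ct (LP (LK LD1_c3 LD2_c28 LD3_c33)) = (LP (LK LD1_c6 LD2_c58 LD3_c61)) :=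
  Lre_c IH (LK LD1_c3 LD2_c28 LD3_c33) (LK LD1_c6 LD2_c58 LD3_c61) Lrfl Lrfl
theorem f17748 : Led Lsl_dt (LP (LK LD1_c1 LD2_c40 LD3_c60)) = (LP (LK LD1_c3 LD2_c28 LD3_c33)) :=
  Lre_d IH (LK LD1_c1 LD2_c40 LD3_c60) (LK LD1_c3 LD2_c28 LD3_c33) Lrfl Lrfl
theorem f106693 : Led Lsl_ff (LP (LK LD1_c0 LD2_c51 LD3_c41)) = (LP (LK LD1_c1 LD2_c40 LD3_c60)) :=
  Lgr Lrot23 (Lpe (K3.f105736 IH) (Lpr_ft (K3.f106685 IH) (Lpr_ct (K0.f17762 IH) (Lpn (LP (LK LD1_c1 LD2_c40 LD3_c60))))))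
theorem f126226 : Led Lsl_af (LP (LK LD1_c1 LD2_c31 LD3_c55)) = (LP (LK LD1_c0 LD2_c51 LD3_c41)) :=
  Lgr Lrot109 (Lpe (K3.f95749 IH) (Lpe (K3.f95183 IH) (Lpr_cf (K3.f95760 IH) (Lpe (f85301 IH) (Lpr_cf (f126217 IH) (Lpe (f126202 IH) (Lpe (f17756 IH) (Lpe (f17748 IH) (Lpe (f106693 IH) (Lpn (LP (LK LD1_c0 LD2_c51 LD3_c41))))))))))))
theorem f121519 : Led Lsl_ff (LP (LK LD1_c1 LD2_c31 LD3_c37)) = (LP (LK LD1_c1 LD2_c31 LD3_c55)) :=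
  Lgr Lrot23 (Lpr_ct (K4.f121515 IH) (Lpe (K3.f106332 IH) (Lpr_ct (K3.f95749 IH) (Lpn (LP (LK LD1_c1 LD2_c31 LD3_c55))))))
theorem f126237 : Led Lsl_at (LP (LK LD1_c1 LD2_c31 LD3_c37)) = (LP (LK LD1_c1 LD2_c40 LD3_c60)) :=
  Lgr Lrot66 (Lpr_ff (f121519 IH) (Lpr_af (f126226 IH) (Lpr_ff (f106693 IH) (Lpn (LP (LK LD1_c1 LD2_c40 LD3_c60))))))
theorem f109190 : Led Lsl_dt (LP (LK LD1_c3 LD2_c10 LD3_c35)) = (LP (LK LD1_c1 LD2_c31 LD3_c37)) :=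
  Lre_d IH (LK LD1_c3 LD2_c10 LD3_c35) (LK LD1_c1 LD2_c31 LD3_c37) Lrfl Lrfl
theorem f126239 : Led Lsl_af (LP (LK LD1_c3 LD2_c10 LD3_c35)) = (LP (LK LD1_c3 LD2_c28 LD3_c33)) :=
  Lgr Lrot117 (Lpr_dt (f109190 IH) (Lpr_at (f126237 IH) (Lpr_dt (f17748 IH) (Lpn (LP (LK LD1_c3 LD2_c28 LD3_c33))))))
theorem f78956 : Led Lsl_gt (LP (LK LD1_c3 LD2_c1 LD3_c36)) = (LP (LK LD1_c6 LD2_c10 LD3_c0)) :=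
  Lre_g IH (LK LD1_c3 LD2_c1 LD3_c36) (LK LD1_c6 LD2_c10 LD3_c0) Lrfl Lrfl
theorem f106697 : Led Lsl_gt (LP (LK LD1_c1 LD2_c35 LD3_c51)) = (LP (LK LD1_c1 LD2_c44 LD3_c49)) :=
  Lgr Lrot46 (Lpe (K3.f94374 IH) (Lpr_ft (K3.f106685 IH) (Lpr_at (K4.f17761 IH) (Lpn (LP (LK LD1_c1 LD2_c44 LD3_c49))))))
theorem f82420 : Led Lsl_bt (LP (LK LD1_c1 LD2_c31 LD3_c39)) = (LP (LK LD1_c1 LD2_c26 LD3_c24)) :=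
  Lgr Lrot127 (Lpr_bf (K3.f82417 IH) (Lpn (LP (LK LD1_c1 LD2_c26 LD3_c24))))
theorem f82436 : Led Lsl_bt (LP (LK LD1_c1 LD2_c31 LD3_c37)) = (LP (LK LD1_c0 LD2_c42 LD3_c24)) :=
  Lre_b IH (LK LD1_c1 LD2_c31 LD3_c37) (LK LD1_c0 LD2_c42 LD3_c24) Lrfl Lrfl
theorem f109168 : Led Lsl_cf (LP (LK LD1_c1 LD2_c31 LD3_c37)) = (LP (LK LD1_c1 LD2_c44 LD3_c49)) :=
  Lgr Lrot97 (Lpr_bt (f82436 IH) (Lpr_ct (K3.f82435 IH) (Lpr_bt (f82420 IH) (Lpr_ct (K3.f109164 IH) (Lpr_bt (f106334 IH) (Lpn (LP (LK LD1_c1 LD2_c44 LD3_c49))))))))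
theorem f114214 : Led Lsl_ct (LP (LK LD1_c6 LD2_c10 LD3_c0)) = (LP (LK LD1_c3 LD2_c10 LD3_c35)) :=
  Lgr Lrot110 (Lpe (f78956 IH) (Lpe (K4.f78931 IH) (Lpr_gf (K4.f114159 IH) (Lpe (K4.f84619 IH) (Lpr_gt (K3.f7445 IH) (Lpr_ct (K4.f84313 IH) (Lpr_gt (f106697 IH) (Lpe (f109168 IH) (Lpe (f109190 IH) (Lpn (LP (LK LD1_c3 LD2_c10 LD3_c35))))))))))))
theorem f114277 : Led Lsl_dt (LP (LK LD1_c12 LD2_c0 LD3_c51)) = (LP (LK LD1_c6 LD2_c10 LD3_c0)) :=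
  Lre_d IH (LK LD1_c12 LD2_c0 LD3_c51) (LK LD1_c6 LD2_c10 LD3_c0) Lrfl Lrfl
theorem f85318 : Led Lsl_ct (LP (LK LD1_c3 LD2_c28 LD3_c51)) = (LP (LK LD1_c1 LD2_c41 LD3_c9)) :=
  Lre_c IH (LK LD1_c3 LD2_c28 LD3_c51) (LK LD1_c1 LD2_c41 LD3_c9) Lrfl Lrfl
theorem f78264 : Led Lsl_dt (LP (LK LD1_c0 LD2_c51 LD3_c30)) = (LP (LK LD1_c0 LD2_c23 LD3_c14)) :=
  Lre_d IH (LK LD1_c0 LD2_c51 LD3_c30) (LK LD1_c0 LD2_c23 LD3_c14) Lrfl Lrfl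
theorem f64302 : Led Lsl_dt (LP (LK LD1_c0 LD2_c21 LD3_c8)) = (LP (LK LD1_c0 LD2_c47 LD3_c13)) :=
  Lre_d IH (LK LD1_c0 LD2_c21 LD3_c8) (LK LD1_c0 LD2_c47 LD3_c13) Lrfl Lrfl
theorem f84992 : Led Lsl_ct (LP (LK LD1_c0 LD2_c47 LD3_c13)) = (LP (LK LD1_c1 LD2_c41 LD3_c14)) :=
  Lre_c IH (LK LD1_c0 LD2_c47 LD3_c13) (LK LD1_c1 LD2_c41 LD3_c14) Lrfl Lrfl
theorem f84993 : Led Lsl_dt (LP (LK LD1_c3 LD2_c28 LD3_c61)) = (LP (LK LD1_c1 LD2_c41 LD3_c14)) :=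
  Lre_d IH (LK LD1_c3 LD2_c28 LD3_c61) (LK LD1_c1 LD2_c41 LD3_c14) Lrfl Lrfl
theorem f84994 : Led Lsl_gt (LP (LK LD1_c6 LD2_c59 LD3_c39)) = (LP (LK LD1_c3 LD2_c28 LD3_c61)) :=
  Lre_g IH (LK LD1_c6 LD2_c59 LD3_c39) (LK LD1_c3 LD2_c28 LD3_c61) Lrfl Lrfl
theorem f106673 : Led Lsl_df (LP (LK LD1_c6 LD2_c59 LD3_c39)) = (LP (LK LD1_c3 LD2_c34 LD3_c30)) :=
  Lgr Lrot153 (Lpr_gt (f84994 IH) (Lpr_dt (f84993 IH) (Lpe (f84992 IH) (Lpe (f64302 IH) (Lpr_gf (K2.f84987 IH) (Lpe (f78264 IH) (Lpe (K3.f87586 IH) (Lpe (f85318 IH) (Lpr_gt (K3.f106665 IH) (Lpn (LP (LK LD1_c3 LD2_c34 LD3_c30))))))))))))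
theorem f121521 : Led Lsl_cf (LP (LK LD1_c12 LD2_c0 LD3_c51)) = (LP (LK LD1_c6 LD2_c59 LD3_c39)) :=
  Lgr Lrot116 (Lpr_dt (f114277 IH) (Lpr_ct (f114214 IH) (Lpr_dt (f109190 IH) (Lpr_ct (K4.f121515 IH) (Lpe (K4.f17761 IH) (Lpe (K3.f106685 IH) (Lpr_dt (K4.f106675 IH) (Lpr_ct (K3.f106614 IH) (Lpe (f106673 IH) (Lpn (LP (LK LD1_c6 LD2_c59 LD3_c39))))))))))))
theorem f126247 : Led Lsl_ft (LP (LK LD1_c1 LD2_c49 LD3_c41)) = (LP (LK LD1_c3 LD2_c28 LD3_c33)) :=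
  Lgr Lrot142 (Lpr_dt (K1.f12433 IH) (Lpe (K3.f105736 IH) (Lpr_dt (K4.f106675 IH) (Lpr_ct (K3.f106614 IH) (Lpe (f106673 IH) (Lpe (f121521 IH) (Lpr_dt (f114277 IH) (Lpr_ct (f114214 IH) (Lpr_af (f126239 IH) (Lpn (LP (LK LD1_c3 LD2_c28 LD3_c33))))))))))))
theorem f126255 : Led Lsl_ff (LP (LK LD1_c1 LD2_c49 LD3_c41)) = (LP (LK LD1_c3 LD2_c28 LD3_c33)) :=
  Lgr Lrot3 (Lpr_ft (f126247 IH) (Lpn (LP (LK LD1_c3 LD2_c28 LD3_c33))))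
theorem f126272 : Led Lsl_ft (LP (LK LD1_c3 LD2_c45 LD3_c8)) = (LP (LK LD1_c6 LD2_c58 LD3_c61)) :=
  Lgr Lrot4 (Lpe (f12446 IH) (Lpr_ff (f126255 IH) (Lpe (f17753 IH) (Lpn (LP (LK LD1_c6 LD2_c58 LD3_c61))))))
theorem f114366 : Led Lsl_gf (LP (LK LD1_c3 LD2_c1 LD3_c36)) = (LP (LK LD1_c3 LD2_c45 LD3_c8)) :=
  Lgr Lrot76 (Lpe (K4.f78929 IH) (Lpr_ff (K4.f114358 IH) (Lpe (f114162 IH) (Lpn (LP (LK LD1_c3 LD2_c45 LD3_c8))))))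
theorem f126278 : Led Lsl_af (LP (LK LD1_c6 LD2_c10 LD3_c0)) = (LP (LK LD1_c6 LD2_c58 LD3_c61)) :=
  Lgr Lrot31 (Lpe (f78956 IH) (Lpr_gf (f114366 IH) (Lpr_ft (f126272 IH) (Lpn (LP (LK LD1_c6 LD2_c58 LD3_c61))))))
theorem f78957 : Led Lsl_dt (LP (LK LD1_c6 LD2_c10 LD3_c0)) = (LP (LK LD1_c12 LD2_c0 LD3_c51)) :=
  Lre_d IH (LK LD1_c6 LD2_c10 LD3_c0) (LK LD1_c12 LD2_c0 LD3_c51) Lrfl Lrfl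
theorem f126282 : Led Lsl_at (LP (LK LD1_c12 LD2_c0 LD3_c51)) = (LP (LK LD1_c12 LD2_c1 LD3_c5)) :=
  Lgr Lrot51 (Lpe (f78957 IH) (Lpr_af (f126278 IH) (Lpr_df (f126206 IH) (Lpn (LP (LK LD1_c12 LD2_c1 LD3_c5))))))
theorem f64501 : Led Lsl_gt (LP (LK LD1_c12 LD2_c1 LD3_c6)) = (LP (LK LD1_c6 LD2_c10 LD3_c7)) :=
  Lre_g IH (LK LD1_c12 LD2_c1 LD3_c6) (LK LD1_c6 LD2_c10 LD3_c7) Lrfl Lrfl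
theorem f126290 : Led Lsl_ff (LP (LK LD1_c12 LD2_c0 LD3_c51)) = (LP (LK LD1_c12 LD2_c1 LD3_c6)) :=
  Lgr Lrot52 (Lpr_at (f126282 IH) (Lpe (f119276 IH) (Lpe (f64501 IH) (Lpn (LP (LK LD1_c12 LD2_c1 LD3_c6))))))
theorem f86343 : Led Lsl_dt (LP (LK LD1_c3 LD2_c10 LD3_c60)) = (LP (LK LD1_c1 LD2_c31 LD3_c55)) :=
  Lre_d IH (LK LD1_c3 LD2_c10 LD3_c60) (LK LD1_c1 LD2_c31 LD3_c55) Lrfl Lrfl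
theorem f88974 : Led Lsl_ct (LP (LK LD1_c6 LD2_c26 LD3_c15)) = (LP (LK LD1_c3 LD2_c10 LD3_c60)) :=
  Lre_c IH (LK LD1_c6 LD2_c26 LD3_c15) (LK LD1_c3 LD2_c10 LD3_c60) Lrfl Lrfl
theorem f126292 : Led Lsl_dt (LP (LK LD1_c12 LD2_c1 LD3_c6)) = (LP (LK LD1_c6 LD2_c26 LD3_c15)) :=
  Lgr Lrot159 (Lpe (f126290 IH) (Lpr_at (f126282 IH) (Lpe (f126211 IH) (Lpe (f85303 IH) (Lpe (K3.f95763 IH) (Lpe (K3.f65504 IH) (Lpr_cf (K3.f95755 IH) (Lpe (f86343 IH) (Lpe (f88974 IH) (Lpn (LP (LK LD1_c6 LD2_c26 LD3_c15))))))))))))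
theorem f85293 : Led Lsl_dt (LP (LK LD1_c3 LD2_c28 LD3_c47)) = (LP (LK LD1_c6 LD2_c59 LD3_c11)) :=
  Lre_d IH (LK LD1_c3 LD2_c28 LD3_c47) (LK LD1_c6 LD2_c59 LD3_c11) Lrfl Lrfl
theorem f126294 : Led Lsl_cf (LP (LK LD1_c12 LD2_c1 LD3_c6)) = (LP (LK LD1_c6 LD2_c59 LD3_c11)) :=
  Lgr Lrot55 (Lpr_dt (f126292 IH) (Lpr_ct (f88974 IH) (Lpr_dt (f86343 IH) (Lpe (K3.f95755 IH) (Lpr_dt (K3.f65504 IH) (Lpr_ct (K3.f95763 IH) (Lpr_dt (f85303 IH) (Lpr_ct (f126211 IH) (Lpe (f126206 IH) (Lpr_ct (f17753 IH) (Lpr_dt (f17759 IH) (Lpe (K0.f17746 IH) (Lpr_dt (K3.f17764 IH) (Lpr_ct (K3.f86695 IH) (Lpr_dt (f85293 IH) (Lpn (LP (LK LD1_c6 LD2_c59 LD3_c11))))))))))))))))))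
theorem f126298 : Led Lsl_at (LP (LK LD1_c1 LD2_c49 LD3_c41)) = (LP (LK LD1_c3 LD2_c10 LD3_c60)) :=
  Lgr Lrot33 (Lpr_ff (f126255 IH) (Lpr_dt (f17759 IH) (Lpe (K0.f17746 IH) (Lpr_dt (K3.f17764 IH) (Lpr_ct (K3.f86695 IH) (Lpr_dt (f85293 IH) (Lpe (f126294 IH) (Lpr_dt (f126292 IH) (Lpr_ct (f88974 IH) (Lpn (LP (LK LD1_c3 LD2_c10 LD3_c60))))))))))))
theorem f126241 : Led Lsl_at (LP (LK LD1_c3 LD2_c10 LD3_c35)) = (LP (LK LD1_c3 LD2_c28 LD3_c33)) :=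
  Lgr Lrot100 (Lpr_af (f126239 IH) (Lpn (LP (LK LD1_c3 LD2_c28 LD3_c33))))
theorem f126302 : Led Lsl_ff (LP (LK LD1_c3 LD2_c10 LD3_c35)) = (LP (LK LD1_c3 LD2_c10 LD3_c60)) :=
  Lgr Lrot30 (Lpr_at (f126241 IH) (Lpe (f126255 IH) (Lpr_at (f126298 IH) (Lpn (LP (LK LD1_c3 LD2_c10 LD3_c60))))))
theorem f126308 : Led Lsl_ft (LP (LK LD1_c1 LD2_c31 LD3_c37)) = (LP (LK LD1_c1 LD2_c31 LD3_c55)) :=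
  Lgr Lrot54 (Lpe (f109190 IH) (Lpr_ff (f126302 IH) (Lpe (K3.f86346 IH) (Lpn (LP (LK LD1_c1 LD2_c31 LD3_c55))))))
theorem f109150 : Led Lsl_ff (LP (LK LD1_c0 LD2_c48 LD3_c5)) = (LP (LK LD1_c0 LD2_c49 LD3_c4)) :=
  Lgr Lrot52 (Lpr_at (K3.f84711 IH) (Lpr_gf (K2.f84709 IH) (Lpr_gf (K3.f109148 IH) (Lpn (LP (LK LD1_c0 LD2_c49 LD3_c4))))))
theorem f109351 : Led Lsl_ft (LP (LK LD1_c0 LD2_c47 LD3_c0)) = (LP (LK LD1_c0 LD2_c42 LD3_c21)) :=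
  Lgr Lrot4 (Lpr_cf (K3.f109343 IH) (Lpr_ff (f109150 IH) (Lpr_cf (K3.f109220 IH) (Lpn (LP (LK LD1_c0 LD2_c42 LD3_c21))))))
theorem f126310 : Led Lsl_ff (LP (LK LD1_c0 LD2_c23 LD3_c23)) = (LP (LK LD1_c0 LD2_c43 LD3_c4)) :=
  Lgr Lrot72 (Lpr_et (K3.f105632 IH) (Lpr_ft (f109351 IH) (Lpr_et (K3.f109194 IH) (Lpr_ft (f126308 IH) (Lpe (K3.f95745 IH) (Lpn (LP (LK LD1_c0 LD2_c43 LD3_c4))))))))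
theorem f126320 : Led Lsl_at (LP (LK LD1_c0 LD2_c23 LD3_c23)) = (LP (LK LD1_c0 LD2_c49 LD3_c47)) :=
  Lgr Lrot26 (Lpr_ff (f126310 IH) (Lpr_gt (K3.f95741 IH) (Lpe (K3.f104098 IH) (Lpn (LP (LK LD1_c0 LD2_c49 LD3_c47))))))
theorem f12406 : Led Lsl_bf (LP (LK LD1_c0 LD2_c22 LD3_c42)) = (LP (LK LD1_c0 LD2_c23 LD3_c22)) :=
  Lgr Lrot24 (Lpr_bt (K1.f12352 IH) (Lpn (LP (LK LD1_c0 LD2_c23 LD3_c22))))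
theorem f125639 : Led Lsl_ft (LP (LK LD1_c0 LD2_c49 LD3_c47)) = (LP (LK LD1_c0 LD2_c23 LD3_c22)) :=
  Lgr Lrot75 (Lpe (K3.f26182 IH) (Lpr_ff (f125618 IH) (Lpr_bf (f12406 IH) (Lpn (LP (LK LD1_c0 LD2_c23 LD3_c22))))))
theorem f126332 : Led Lsl_af (LP (LK LD1_c0 LD2_c43 LD3_c4)) = (LP (LK LD1_c0 LD2_c23 LD3_c22)) :=
  Lgr Lrot45 (Lpe (f126310 IH) (Lpr_at (f126320 IH) (Lpr_ft (f125639 IH) (Lpn (LP (LK LD1_c0 LD2_c23 LD3_c22))))))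
theorem f126336 : Led Lsl_at (LP (LK LD1_c1 LD2_c31 LD3_c46)) = (LP (LK LD1_c0 LD2_c51 LD3_c40)) :=
  Lgr Lrot51 (Lpr_df (K2.f79132 IH) (Lpr_af (f126332 IH) (Lpe (K1.f5828 IH) (Lpn (LP (LK LD1_c0 LD2_c51 LD3_c40))))))
theorem f126342 : Led Lsl_af (LP (LK LD1_c1 LD2_c34 LD3_c61)) = (LP (LK LD1_c1 LD2_c49 LD3_c39)) :=
  Lgr Lrot68 (Lpe (K2.f79120 IH) (Lpr_at (f126336 IH) (Lpr_ct (K3.f12487 IH) (Lpn (LP (LK LD1_c1 LD2_c49 LD3_c39))))))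
theorem f126352 : Led Lsl_ft (LP (LK LD1_c1 LD2_c35 LD3_c0)) = (LP (LK LD1_c1 LD2_c49 LD3_c39)) :=
  Lgr Lrot2 (Lpr_gt (K3.f64480 IH) (Lpr_gt (K2.f79090 IH) (Lpr_af (f126342 IH) (Lpn (LP (LK LD1_c1 LD2_c49 LD3_c39))))))
theorem f126358 : Led Lsl_ff (LP (LK LD1_c1 LD2_c35 LD3_c0)) = (LP (LK LD1_c1 LD2_c49 LD3_c39)) :=
  Lgr Lrot3 (Lpr_ft (f126352 IH) (Lpn (LP (LK LD1_c1 LD2_c49 LD3_c39))))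
theorem f62312 : Led Lsl_ct (LP (LK LD1_c1 LD2_c49 LD3_c42)) = (LP (LK LD1_c0 LD2_c51 LD3_c42)) :=
  Lre_c IH (LK LD1_c1 LD2_c49 LD3_c42) (LK LD1_c0 LD2_c51 LD3_c42) Lrfl Lrfl
theorem f103580 : Led Lsl_gt (LP (LK LD1_c1 LD2_c34 LD3_c48)) = (LP (LK LD1_c1 LD2_c49 LD3_c42)) :=
  Lgr Lrot150 (Lpe (K3.f60975 IH) (Lpe (K3.f60969 IH) (Lpe (K4.f69284 IH) (Lpr_gt (K3.f103568 IH) (Lpr_ct (K3.f103492 IH) (Lpe (K3.f103560 IH) (Lpr_ct (K3.f94618 IH) (Lpe (K1.f62309 IH) (Lpe (f62312 IH) (Lpn (LP (LK LD1_c1 LD2_c49 LD3_c42))))))))))))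
theorem f126366 : Led Lsl_at (LP (LK LD1_c1 LD2_c35 LD3_c0)) = (LP (LK LD1_c1 LD2_c49 LD3_c42)) :=
  Lgr Lrot26 (Lpr_ff (f126358 IH) (Lpr_gt (K3.f96619 IH) (Lpr_gt (f103580 IH) (Lpn (LP (LK LD1_c1 LD2_c49 LD3_c42))))))
theorem f126344 : Led Lsl_at (LP (LK LD1_c1 LD2_c34 LD3_c61)) = (LP (LK LD1_c1 LD2_c49 LD3_c39)) :=
  Lgr Lrot100 (Lpr_af (f126342 IH) (Lpn (LP (LK LD1_c1 LD2_c49 LD3_c39))))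
theorem f126379 : Led Lsl_ff (LP (LK LD1_c1 LD2_c34 LD3_c61)) = (LP (LK LD1_c1 LD2_c49 LD3_c42)) :=
  Lgr Lrot30 (Lpr_at (f126344 IH) (Lpe (f126358 IH) (Lpr_at (f126366 IH) (Lpn (LP (LK LD1_c1 LD2_c49 LD3_c42))))))
theorem f126388 : Led Lsl_ft (LP (LK LD1_c1 LD2_c34 LD3_c61)) = (LP (LK LD1_c1 LD2_c49 LD3_c42)) :=
  Lgr Lrot48 (Lpr_ff (f126379 IH) (Lpn (LP (LK LD1_c1 LD2_c49 LD3_c42))))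
theorem f126392 : Led Lsl_ff (LP (LK LD1_c3 LD2_c15 LD3_c36)) = (LP (LK LD1_c3 LD2_c45 LD3_c10)) :=
  Lgr Lrot19 (Lpr_dt (K3.f103828 IH) (Lpr_ft (f126388 IH) (Lpr_dt (K3.f93365 IH) (Lpn (LP (LK LD1_c3 LD2_c45 LD3_c10))))))
theorem f103941 : Led Lsl_ct (LP (LK LD1_c3 LD2_c15 LD3_c36)) = (LP (LK LD1_c3 LD2_c29 LD3_c25)) :=
  Lgr Lrot59 (Lpr_cf (K3.f103930 IH) (Lpn (LP (LK LD1_c3 LD2_c29 LD3_c25))))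
theorem f126398 : Led Lsl_ft (LP (LK LD1_c3 LD2_c29 LD3_c25)) = (LP (LK LD1_c1 LD2_c50 LD3_c4)) :=
  Lgr Lrot4 (Lpe (f103941 IH) (Lpr_ff (f126392 IH) (Lpr_cf (K3.f93366 IH) (Lpn (LP (LK LD1_c1 LD2_c50 LD3_c4))))))
theorem f126419 : Led Lsl_af (LP (LK LD1_c3 LD2_c29 LD3_c26)) = (LP (LK LD1_c1 LD2_c50 LD3_c4)) :=
  Lgr Lrot31 (Lpe (K3.f105560 IH) (Lpr_gf (K3.f103958 IH) (Lpr_ft (f126398 IH) (Lpn (LP (LK LD1_c1 LD2_c50 LD3_c4))))))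
theorem f96169 : Led Lsl_et (LP (LK LD1_c3 LD2_c29 LD3_c26)) = (LP (LK LD1_c7 LD2_c0 LD3_c30)) :=
  Lre_e IH (LK LD1_c3 LD2_c29 LD3_c26) (LK LD1_c7 LD2_c0 LD3_c30) Lrfl Lrfl
theorem f92680 : Led Lsl_et (LP (LK LD1_c3 LD2_c45 LD3_c60)) = (LP (LK LD1_c1 LD2_c50 LD3_c4)) :=
  Lre_e IH (LK LD1_c3 LD2_c45 LD3_c60) (LK LD1_c1 LD2_c50 LD3_c4) Lrfl Lrfl
theorem f126423 : Led Lsl_at (LP (LK LD1_c7 LD2_c0 LD3_c30)) = (LP (LK LD1_c3 LD2_c45 LD3_c60)) :=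
  Lgr Lrot80 (Lpe (f96169 IH) (Lpr_af (f126419 IH) (Lpe (f92680 IH) (Lpn (LP (LK LD1_c3 LD2_c45 LD3_c60))))))
theorem f126429 : Led Lsl_dt (LP (LK LD1_c13 LD2_c17 LD3_c47)) = (LP (LK LD1_c7 LD2_c0 LD3_c30)) :=
  Lre_d IH (LK LD1_c13 LD2_c17 LD3_c47) (LK LD1_c7 LD2_c0 LD3_c30) Lrfl Lrfl
theorem f92681 : Led Lsl_dt (LP (LK LD1_c3 LD2_c45 LD3_c60)) = (LP (LK LD1_c7 LD2_c32 LD3_c48)) :=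
  Lre_d IH (LK LD1_c3 LD2_c45 LD3_c60) (LK LD1_c7 LD2_c32 LD3_c48) Lrfl Lrfl
theorem f126430 : Led Lsl_af (LP (LK LD1_c13 LD2_c17 LD3_c47)) = (LP (LK LD1_c7 LD2_c32 LD3_c48)) :=
  Lgr Lrot117 (Lpr_dt (f126429 IH) (Lpr_at (f126423 IH) (Lpr_dt (f92681 IH) (Lpn (LP (LK LD1_c7 LD2_c32 LD3_c48))))))
theorem f89331 : Led Lsl_dt (LP (LK LD1_c7 LD2_c0 LD3_c30)) = (LP (LK LD1_c13 LD2_c17 LD3_c47)) :=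
  Lre_d IH (LK LD1_c7 LD2_c0 LD3_c30) (LK LD1_c13 LD2_c17 LD3_c47) Lrfl Lrfl
theorem f96129 : Led Lsl_et (LP (LK LD1_c3 LD2_c46 LD3_c60)) = (LP (LK LD1_c1 LD2_c50 LD3_c36)) :=
  Lre_e IH (LK LD1_c3 LD2_c46 LD3_c60) (LK LD1_c1 LD2_c50 LD3_c36) Lrfl Lrfl
theorem f96175 : Led Lsl_dt (LP (LK LD1_c7 LD2_c34 LD3_c49)) = (LP (LK LD1_c3 LD2_c46 LD3_c60)) :=
  Lre_d IH (LK LD1_c7 LD2_c34 LD3_c49) (LK LD1_c3 LD2_c46 LD3_c60) Lrfl Lrfl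
theorem f96176 : Led Lsl_et (LP (LK LD1_c13 LD2_c17 LD3_c47)) = (LP (LK LD1_c7 LD2_c34 LD3_c49)) :=
  Lgr Lrot71 (Lpe (f89331 IH) (Lpe (f96169 IH) (Lpr_df (K3.f96165 IH) (Lpe (f96129 IH) (Lpe (f96175 IH) (Lpn (LP (LK LD1_c7 LD2_c34 LD3_c49))))))))
theorem f92754 : Led Lsl_df (LP (LK LD1_c1 LD2_c50 LD3_c4)) = (LP (LK LD1_c0 LD2_c52 LD3_c28)) :=
  Lgr Lrot153 (Lpr_gt (K3.f92648 IH) (Lpr_dt (K1.f62804 IH) (Lpe (K1.f14694 IH) (Lpe (K1.f14693 IH) (Lpe (K1.f14692 IH) (Lpe (K1.f14667 IH) (Lpe (K0.f12211 IH) (Lpe (K1.f11856 IH) (Lpr_gt (K0.f17302 IH) (Lpn (LP (LK LD1_c0 LD2_c52 LD3_c28))))))))))))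
theorem f92658 : Led Lsl_et (LP (LK LD1_c1 LD2_c50 LD3_c4)) = (LP (LK LD1_c3 LD2_c45 LD3_c60)) :=
  Lre_e IH (LK LD1_c1 LD2_c50 LD3_c4) (LK LD1_c3 LD2_c45 LD3_c60) Lrfl Lrfl
theorem f17439 : Led Lsl_et (LP (LK LD1_c1 LD2_c51 LD3_c13)) = (LP (LK LD1_c0 LD2_c52 LD3_c28)) :=
  Lre_e IH (LK LD1_c1 LD2_c51 LD3_c13) (LK LD1_c0 LD2_c52 LD3_c28) Lrfl Lrfl
theorem f17327 : Led Lsl_dt (LP (LK LD1_c3 LD2_c48 LD3_c24)) = (LP (LK LD1_c1 LD2_c51 LD3_c13)) :=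
  Lre_d IH (LK LD1_c3 LD2_c48 LD3_c24) (LK LD1_c1 LD2_c51 LD3_c13) Lrfl Lrfl
theorem f92932 : Led Lsl_et (LP (LK LD1_c7 LD2_c32 LD3_c48)) = (LP (LK LD1_c3 LD2_c48 LD3_c24)) :=
  Lgr Lrot71 (Lpe (f92681 IH) (Lpe (f92658 IH) (Lpr_df (f92754 IH) (Lpe (f17439 IH) (Lpe (f17327 IH) (Lpn (LP (LK LD1_c3 LD2_c48 LD3_c24))))))))
theorem f92946 : Led Lsl_ef (LP (LK LD1_c7 LD2_c32 LD3_c48)) = (LP (LK LD1_c3 LD2_c48 LD3_c24)) :=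
  Lgr Lrot88 (Lpr_et (f92932 IH) (Lpn (LP (LK LD1_c3 LD2_c48 LD3_c24))))
theorem f126438 : Led Lsl_at (LP (LK LD1_c7 LD2_c34 LD3_c49)) = (LP (LK LD1_c3 LD2_c48 LD3_c24)) :=
  Lgr Lrot80 (Lpe (f96176 IH) (Lpr_af (f126430 IH) (Lpr_ef (f92946 IH) (Lpn (LP (LK LD1_c3 LD2_c48 LD3_c24))))))
theorem f96167 : Led Lsl_dt (LP (LK LD1_c3 LD2_c46 LD3_c60)) = (LP (LK LD1_c7 LD2_c34 LD3_c49)) :=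
  Lre_d IH (LK LD1_c3 LD2_c46 LD3_c60) (LK LD1_c7 LD2_c34 LD3_c49) Lrfl Lrfl
theorem f126447 : Led Lsl_af (LP (LK LD1_c3 LD2_c46 LD3_c60)) = (LP (LK LD1_c1 LD2_c51 LD3_c13)) :=
  Lgr Lrot117 (Lpr_dt (f96167 IH) (Lpr_at (f126438 IH) (Lpr_dt (f17327 IH) (Lpn (LP (LK LD1_c1 LD2_c51 LD3_c13))))))
theorem f17325 : Led Lsl_ct (LP (LK LD1_c1 LD2_c45 LD3_c12)) = (LP (LK LD1_c1 LD2_c51 LD3_c13)) :=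
  Lgr Lrot59 (Lpr_cf (K3.f17315 IH) (Lpn (LP (LK LD1_c1 LD2_c51 LD3_c13))))
theorem f126452 : Led Lsl_ct (LP (LK LD1_c3 LD2_c46 LD3_c60)) = (LP (LK LD1_c3 LD2_c15 LD3_c19)) :=
  Lgr Lrot111 (Lpr_af (f126447 IH) (Lpe (f17325 IH) (Lpe (K3.f107166 IH) (Lpn (LP (LK LD1_c3 LD2_c15 LD3_c19))))))
theorem f126454 : Led Lsl_bt (LP (LK LD1_c7 LD2_c34 LD3_c48)) = (LP (LK LD1_c3 LD2_c46 LD3_c60)) :=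
  Lre_b IH (LK LD1_c7 LD2_c34 LD3_c48) (LK LD1_c3 LD2_c46 LD3_c60) Lrfl Lrfl
theorem f95856 : Led Lsl_et (LP (LK LD1_c0 LD2_c53 LD3_c25)) = (LP (LK LD1_c1 LD2_c53 LD3_c41)) :=
  Lre_e IH (LK LD1_c0 LD2_c53 LD3_c25) (LK LD1_c1 LD2_c53 LD3_c41) Lrfl Lrfl
theorem f95857 : Led Lsl_cf (LP (LK LD1_c3 LD2_c13 LD3_c31)) = (LP (LK LD1_c1 LD2_c53 LD3_c41)) :=
  Lgr Lrot39 (Lpr_et (K4.f95840 IH) (Lpr_ct (K4.f95851 IH) (Lpr_et (f95856 IH) (Lpn (LP (LK LD1_c1 LD2_c53 LD3_c41))))))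
theorem f95861 : Led Lsl_ct (LP (LK LD1_c3 LD2_c13 LD3_c31)) = (LP (LK LD1_c1 LD2_c53 LD3_c41)) :=
  Lgr Lrot59 (Lpr_cf (f95857 IH) (Lpn (LP (LK LD1_c1 LD2_c53 LD3_c41))))
theorem f95870 : Led Lsl_bt (LP (LK LD1_c1 LD2_c53 LD3_c41)) = (LP (LK LD1_c3 LD2_c54 LD3_c5)) :=
  Lre_b IH (LK LD1_c1 LD2_c53 LD3_c41) (LK LD1_c3 LD2_c54 LD3_c5) Lrfl Lrfl
theorem f126455 : Led Lsl_cf (LP (LK LD1_c7 LD2_c34 LD3_c48)) = (LP (LK LD1_c3 LD2_c54 LD3_c5)) :=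
  Lgr Lrot97 (Lpr_bt (f126454 IH) (Lpr_ct (f126452 IH) (Lpe (K4.f95836 IH) (Lpr_ct (f95861 IH) (Lpr_bt (f95870 IH) (Lpn (LP (LK LD1_c3 LD2_c54 LD3_c5))))))))
theorem f96141 : Led Lsl_et (LP (LK LD1_c7 LD2_c34 LD3_c48)) = (LP (LK LD1_c3 LD2_c46 LD3_c59)) :=
  Lre_e IH (LK LD1_c7 LD2_c34 LD3_c48) (LK LD1_c3 LD2_c46 LD3_c59) Lrfl Lrfl
theorem f126462 : Led Lsl_et (LP (LK LD1_c1 LD2_c53 LD3_c40)) = (LP (LK LD1_c3 LD2_c54 LD3_c5)) :=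
  Lre_e IH (LK LD1_c1 LD2_c53 LD3_c40) (LK LD1_c3 LD2_c54 LD3_c5) Lrfl Lrfl
theorem f126463 : Led Lsl_ct (LP (LK LD1_c3 LD2_c46 LD3_c59)) = (LP (LK LD1_c1 LD2_c53 LD3_c40)) :=
  Lgr Lrot15 (Lpe (f96141 IH) (Lpr_cf (f126455 IH) (Lpe (f126462 IH) (Lpn (LP (LK LD1_c1 LD2_c53 LD3_c40))))))
theorem f17279 : Led Lsl_bt (LP (LK LD1_c0 LD2_c23 LD3_c41)) = (LP (LK LD1_c0 LD2_c52 LD3_c19)) :=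
  Lre_b IH (LK LD1_c0 LD2_c23 LD3_c41) (LK LD1_c0 LD2_c52 LD3_c19) Lrfl Lrfl
theorem f16760 : Led Lsl_gt (LP (LK LD1_c0 LD2_c52 LD3_c19)) = (LP (LK LD1_c1 LD2_c50 LD3_c51)) :=
  Lre_g IH (LK LD1_c0 LD2_c52 LD3_c19) (LK LD1_c1 LD2_c50 LD3_c51) Lrfl Lrfl
theorem f16767 : Led Lsl_bt (LP (LK LD1_c3 LD2_c47 LD3_c29)) = (LP (LK LD1_c1 LD2_c50 LD3_c51)) :=
  Lre_b IH (LK LD1_c3 LD2_c47 LD3_c29) (LK LD1_c1 LD2_c50 LD3_c51) Lrfl Lrfl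
theorem f95898 : Led Lsl_gt (LP (LK LD1_c3 LD2_c54 LD3_c3)) = (LP (LK LD1_c1 LD2_c53 LD3_c40)) :=
  Lre_g IH (LK LD1_c3 LD2_c54 LD3_c3) (LK LD1_c1 LD2_c53 LD3_c40) Lrfl Lrfl
theorem f126477 : Led Lsl_ct (LP (LK LD1_c3 LD2_c47 LD3_c29)) = (LP (LK LD1_c3 LD2_c54 LD3_c3)) :=
  Lgr Lrot64 (Lpr_bt (f16767 IH) (Lpe (f16760 IH) (Lpe (f17279 IH) (Lpr_ct (K3.f17280 IH) (Lpe (K2.f11978 IH) (Lpe (K2.f11958 IH) (Lpr_gf (K3.f96132 IH) (Lpe (K4.f88621 IH) (Lpr_ct (f126463 IH) (Lpe (f95898 IH) (Lpn (LP (LK LD1_c3 LD2_c54 LD3_c3)))))))))))))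
theorem f126484 : Led Lsl_dt (LP (LK LD1_c7 LD2_c35 LD3_c53)) = (LP (LK LD1_c3 LD2_c47 LD3_c29)) :=
  Lre_d IH (LK LD1_c7 LD2_c35 LD3_c53) (LK LD1_c3 LD2_c47 LD3_c29) Lrfl Lrfl
theorem f123668 : Led Lsl_ff (LP (LK LD1_c1 LD2_c47 LD3_c32)) = (LP (LK LD1_c1 LD2_c49 LD3_c0)) :=
  Lgr Lrot3 (Lpr_ft (K4.f123654 IH) (Lpn (LP (LK LD1_c1 LD2_c49 LD3_c0))))
theorem f116501 : Led Lsl_dt (LP (LK LD1_c1 LD2_c47 LD3_c32)) = (LP (LK LD1_c3 LD2_c41 LD3_c13)) :=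
  Lre_d IH (LK LD1_c1 LD2_c47 LD3_c32) (LK LD1_c3 LD2_c41 LD3_c13) Lrfl Lrfl
theorem f123606 : Led Lsl_dt (LP (LK LD1_c3 LD2_c43 LD3_c57)) = (LP (LK LD1_c1 LD2_c49 LD3_c0)) :=
  Lre_d IH (LK LD1_c3 LD2_c43 LD3_c57) (LK LD1_c1 LD2_c49 LD3_c0) Lrfl Lrfl
theorem f123686 : Led Lsl_ft (LP (LK LD1_c3 LD2_c41 LD3_c13)) = (LP (LK LD1_c3 LD2_c43 LD3_c57)) :=
  Lgr Lrot54 (Lpe (f116501 IH) (Lpr_ff (f123668 IH) (Lpe (f123606 IH) (Lpn (LP (LK LD1_c3 LD2_c43 LD3_c57))))))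
theorem f116508 : Led Lsl_ct (LP (LK LD1_c7 LD2_c22 LD3_c50)) = (LP (LK LD1_c3 LD2_c41 LD3_c13)) :=
  Lre_c IH (LK LD1_c7 LD2_c22 LD3_c50) (LK LD1_c3 LD2_c41 LD3_c13) Lrfl Lrfl
theorem f123691 : Led Lsl_ct (LP (LK LD1_c3 LD2_c43 LD3_c57)) = (LP (LK LD1_c7 LD2_c28 LD3_c37)) :=
  Lre_c IH (LK LD1_c3 LD2_c43 LD3_c57) (LK LD1_c7 LD2_c28 LD3_c37) Lrfl Lrfl
theorem f123704 : Led Lsl_ff (LP (LK LD1_c7 LD2_c22 LD3_c50)) = (LP (LK LD1_c7 LD2_c28 LD3_c37)) :=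
  Lgr Lrot23 (Lpr_ct (f116508 IH) (Lpr_ft (f123686 IH) (Lpr_ct (f123691 IH) (Lpn (LP (LK LD1_c7 LD2_c28 LD3_c37))))))
theorem f116462 : Led Lsl_at (LP (LK LD1_c7 LD2_c22 LD3_c50)) = (LP (LK LD1_c13 LD2_c57 LD3_c8)) :=
  Lre_a IH (LK LD1_c7 LD2_c22 LD3_c50) (LK LD1_c13 LD2_c57 LD3_c8) Lrfl Lrfl
theorem f12589 : Led Lsl_gt (LP (LK LD1_c1 LD2_c47 LD3_c23)) = (LP (LK LD1_c3 LD2_c40 LD3_c51)) :=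
  Lre_g IH (LK LD1_c1 LD2_c47 LD3_c23) (LK LD1_c3 LD2_c40 LD3_c51) Lrfl Lrfl
theorem f120970 : Led Lsl_cf (LP (LK LD1_c0 LD2_c53 LD3_c53)) = (LP (LK LD1_c1 LD2_c48 LD3_c4)) :=
  Lgr Lrot11 (Lpr_ct (K4.f120964 IH) (Lpn (LP (LK LD1_c1 LD2_c48 LD3_c4))))
theorem f122621 : Led Lsl_dt (LP (LK LD1_c3 LD2_c40 LD3_c51)) = (LP (LK LD1_c1 LD2_c48 LD3_c4)) :=
  Lgr Lrot105 (Lpe (f12589 IH) (Lpe (K4.f12588 IH) (Lpe (K4.f12581 IH) (Lpr_cf (K4.f122483 IH) (Lpe (K4.f109445 IH) (Lpr_dt (K4.f21167 IH) (Lpe (K3.f87517 IH) (Lpe (K4.f90286 IH) (Lpr_cf (f120970 IH) (Lpn (LP (LK LD1_c1 LD2_c48 LD3_c4))))))))))))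
theorem f122626 : Led Lsl_df (LP (LK LD1_c3 LD2_c40 LD3_c51)) = (LP (LK LD1_c1 LD2_c48 LD3_c4)) :=
  Lgr Lrot38 (Lpr_dt (f122621 IH) (Lpn (LP (LK LD1_c1 LD2_c48 LD3_c4))))
theorem f122674 : Led Lsl_bt (LP (LK LD1_c3 LD2_c40 LD3_c51)) = (LP (LK LD1_c7 LD2_c21 LD3_c55)) :=
  Lre_b IH (LK LD1_c3 LD2_c40 LD3_c51) (LK LD1_c7 LD2_c21 LD3_c55) Lrfl Lrfl
theorem f122675 : Led Lsl_dt (LP (LK LD1_c7 LD2_c21 LD3_c55)) = (LP (LK LD1_c3 LD2_c42 LD3_c9)) :=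
  Lgr Lrot79 (Lpe (f122674 IH) (Lpr_df (f122626 IH) (Lpe (K4.f108152 IH) (Lpn (LP (LK LD1_c3 LD2_c42 LD3_c9))))))
theorem f96143 : Led Lsl_dt (LP (LK LD1_c3 LD2_c55 LD3_c46)) = (LP (LK LD1_c1 LD2_c54 LD3_c30)) :=
  Lre_d IH (LK LD1_c3 LD2_c55 LD3_c46) (LK LD1_c1 LD2_c54 LD3_c30) Lrfl Lrfl
theorem f97719 : Led Lsl_gt (LP (LK LD1_c3 LD2_c55 LD3_c48)) = (LP (LK LD1_c3 LD2_c30 LD3_c6)) :=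
  Lgr Lrot46 (Lpr_gf (f97714 IH) (Lpe (K2.f66859 IH) (Lpr_at (K2.f66864 IH) (Lpn (LP (LK LD1_c3 LD2_c30 LD3_c6))))))
theorem f97721 : Led Lsl_bt (LP (LK LD1_c1 LD2_c54 LD3_c31)) = (LP (LK LD1_c3 LD2_c55 LD3_c46)) :=
  Lre_b IH (LK LD1_c1 LD2_c54 LD3_c31) (LK LD1_c3 LD2_c55 LD3_c46) Lrfl Lrfl
theorem f96124 : Led Lsl_bt (LP (LK LD1_c1 LD2_c49 LD3_c61)) = (LP (LK LD1_c3 LD2_c45 LD3_c47)) :=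
  Lre_b IH (LK LD1_c1 LD2_c49 LD3_c61) (LK LD1_c3 LD2_c45 LD3_c47) Lrfl Lrfl
theorem f103814 : Led Lsl_gf (LP (LK LD1_c3 LD2_c55 LD3_c46)) = (LP (LK LD1_c3 LD2_c45 LD3_c47)) :=
  Lgr Lrot124 (Lpe (f97721 IH) (Lpr_ct (f90257 IH) (Lpr_gt (f97719 IH) (Lpe (K2.f11442 IH) (Lpr_bt (K4.f18248 IH) (Lpr_gt (K1.f64255 IH) (Lpe (K3.f84961 IH) (Lpr_gt (K3.f103614 IH) (Lpr_cf (K3.f96105 IH) (Lpr_bt (f96124 IH) (Lpn (LP (LK LD1_c3 LD2_c45 LD3_c47)))))))))))))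
theorem f103646 : Led Lsl_dt (LP (LK LD1_c1 LD2_c49 LD3_c60)) = (LP (LK LD1_c3 LD2_c45 LD3_c47)) :=
  Lre_d IH (LK LD1_c1 LD2_c49 LD3_c60) (LK LD1_c3 LD2_c45 LD3_c47) Lrfl Lrfl
theorem f97682 : Led Lsl_dt (LP (LK LD1_c6 LD2_c53 LD3_c45)) = (LP (LK LD1_c13 LD2_c6 LD3_c19)) :=
  Lre_d IH (LK LD1_c6 LD2_c53 LD3_c45) (LK LD1_c13 LD2_c6 LD3_c19) Lrfl Lrfl
theorem f122686 : Led Lsl_gf (LP (LK LD1_c7 LD2_c21 LD3_c55)) = (LP (LK LD1_c13 LD2_c6 LD3_c19)) :=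
  Lgr Lrot154 (Lpr_dt (f122675 IH) (Lpe (K4.f120968 IH) (Lpe (f96143 IH) (Lpr_gf (f103814 IH) (Lpe (f103646 IH) (Lpe (K4.f103648 IH) (Lpe (K4.f103669 IH) (Lpe (K4.f102887 IH) (Lpr_dt (f97682 IH) (Lpn (LP (LK LD1_c13 LD2_c6 LD3_c19))))))))))))
theorem f122698 : Led Lsl_ct (LP (LK LD1_c7 LD2_c21 LD3_c55)) = (LP (LK LD1_c13 LD2_c55 LD3_c33)) :=
  Lre_c IH (LK LD1_c7 LD2_c21 LD3_c55) (LK LD1_c13 LD2_c55 LD3_c33) Lrfl Lrfl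
theorem f116454 : Led Lsl_dt (LP (LK LD1_c7 LD2_c22 LD3_c46)) = (LP (LK LD1_c3 LD2_c41 LD3_c12)) :=
  Lre_d IH (LK LD1_c7 LD2_c22 LD3_c46) (LK LD1_c3 LD2_c41 LD3_c12) Lrfl Lrfl
theorem f116463 : Led Lsl_ct (LP (LK LD1_c13 LD2_c57 LD3_c8)) = (LP (LK LD1_c7 LD2_c22 LD3_c46)) :=
  Lre_c IH (LK LD1_c13 LD2_c57 LD3_c8) (LK LD1_c7 LD2_c22 LD3_c46) Lrfl Lrfl
theorem f122699 : Led Lsl_gt (LP (LK LD1_c13 LD2_c55 LD3_c33)) = (LP (LK LD1_c13 LD2_c57 LD3_c8)) :=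
  Lgr Lrot150 (Lpe (f122698 IH) (Lpr_gf (f122686 IH) (Lpe (f97682 IH) (Lpr_gt (K4.f97676 IH) (Lpr_ct (K4.f12596 IH) (Lpr_gt (K4.f9801 IH) (Lpe (K4.f116452 IH) (Lpe (f116454 IH) (Lpe (f116463 IH) (Lpn (LP (LK LD1_c13 LD2_c57 LD3_c8))))))))))))
theorem f123924 : Led Lsl_gf (LP (LK LD1_c13 LD2_c55 LD3_c33)) = (LP (LK LD1_c7 LD2_c28 LD3_c37)) :=
  Lgr Lrot47 (Lpr_gt (f122699 IH) (Lpe (f116462 IH) (Lpr_ff (f123704 IH) (Lpn (LP (LK LD1_c7 LD2_c28 LD3_c37))))))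
theorem f122683 : Led Lsl_ct (LP (LK LD1_c13 LD2_c55 LD3_c33)) = (LP (LK LD1_c7 LD2_c21 LD3_c55)) :=
  Lre_c IH (LK LD1_c13 LD2_c55 LD3_c33) (LK LD1_c7 LD2_c21 LD3_c55) Lrfl Lrfl
theorem f122623 : Led Lsl_bt (LP (LK LD1_c7 LD2_c21 LD3_c55)) = (LP (LK LD1_c3 LD2_c40 LD3_c51)) :=
  Lre_b IH (LK LD1_c7 LD2_c21 LD3_c55) (LK LD1_c3 LD2_c40 LD3_c51) Lrfl Lrfl
theorem f122624 : Led Lsl_df (LP (LK LD1_c7 LD2_c21 LD3_c55)) = (LP (LK LD1_c3 LD2_c42 LD3_c9)) :=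
  Lgr Lrot12 (Lpr_bt (f122623 IH) (Lpr_dt (f122621 IH) (Lpr_bt (K4.f120967 IH) (Lpn (LP (LK LD1_c3 LD2_c42 LD3_c9))))))
theorem f102885 : Led Lsl_ft (LP (LK LD1_c6 LD2_c53 LD3_c46)) = (LP (LK LD1_c7 LD2_c27 LD3_c37)) :=
  Lgr Lrot48 (Lpr_ff (K4.f102866 IH) (Lpn (LP (LK LD1_c7 LD2_c27 LD3_c37))))
theorem f103662 : Led Lsl_ct (LP (LK LD1_c7 LD2_c27 LD3_c37)) = (LP (LK LD1_c3 LD2_c45 LD3_c45)) :=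
  Lgr Lrot40 (Lpe (f102885 IH) (Lpe (K4.f102446 IH) (Lpr_ff (K4.f103649 IH) (Lpn (LP (LK LD1_c3 LD2_c45 LD3_c45))))))
theorem f122696 : Led Lsl_cf (LP (LK LD1_c3 LD2_c42 LD3_c9)) = (LP (LK LD1_c1 LD2_c54 LD3_c30)) :=
  Lgr Lrot14 (Lpe (f122675 IH) (Lpr_gf (f122686 IH) (Lpe (f97682 IH) (Lpr_gf (K4.f102887 IH) (Lpr_ct (f103662 IH) (Lpr_gt (K4.f103648 IH) (Lpr_dt (f103646 IH) (Lpe (f103814 IH) (Lpr_dt (f96143 IH) (Lpn (LP (LK LD1_c1 LD2_c54 LD3_c30))))))))))))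
theorem f123656 : Led Lsl_gt (LP (LK LD1_c7 LD2_c28 LD3_c36)) = (LP (LK LD1_c3 LD2_c43 LD3_c57)) :=
  Lre_g IH (LK LD1_c7 LD2_c28 LD3_c36) (LK LD1_c3 LD2_c43 LD3_c57) Lrfl Lrfl
theorem f123928 : Led Lsl_df (LP (LK LD1_c3 LD2_c54 LD3_c3)) = (LP (LK LD1_c7 LD2_c28 LD3_c36)) :=
  Lgr Lrot155 (Lpr_gt (f95898 IH) (Lpr_ct (K4.f96125 IH) (Lpe (K4.f96138 IH) (Lpe (f122696 IH) (Lpe (f122624 IH) (Lpe (f122683 IH) (Lpr_gf (f123924 IH) (Lpe (f123691 IH) (Lpe (f123656 IH) (Lpn (LP (LK LD1_c7 LD2_c28 LD3_c36))))))))))))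
theorem f123706 : Led Lsl_et (LP (LK LD1_c7 LD2_c22 LD3_c51)) = (LP (LK LD1_c3 LD2_c41 LD3_c13)) :=
  Lre_e IH (LK LD1_c7 LD2_c22 LD3_c51) (LK LD1_c3 LD2_c41 LD3_c13) Lrfl Lrfl
theorem f123707 : Led Lsl_ft (LP (LK LD1_c13 LD2_c57 LD3_c17)) = (LP (LK LD1_c7 LD2_c22 LD3_c51)) :=
  Lre_f IH (LK LD1_c13 LD2_c57 LD3_c17) (LK LD1_c7 LD2_c22 LD3_c51) Lrfl Lrfl
theorem f123708 : Led Lsl_et (LP (LK LD1_c3 LD2_c43 LD3_c57)) = (LP (LK LD1_c7 LD2_c28 LD3_c38)) :=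
  Lre_e IH (LK LD1_c3 LD2_c43 LD3_c57) (LK LD1_c7 LD2_c28 LD3_c38) Lrfl Lrfl
theorem f123709 : Led Lsl_ft (LP (LK LD1_c7 LD2_c28 LD3_c38)) = (LP (LK LD1_c14 LD2_c6 LD3_c54)) :=
  Lre_f IH (LK LD1_c7 LD2_c28 LD3_c38) (LK LD1_c14 LD2_c6 LD3_c54) Lrfl Lrfl
theorem f123710 : Led Lsl_ef (LP (LK LD1_c13 LD2_c57 LD3_c17)) = (LP (LK LD1_c14 LD2_c6 LD3_c54)) :=
  Lgr Lrot21 (Lpr_ft (f123707 IH) (Lpr_et (f123706 IH) (Lpr_ft (f123686 IH) (Lpr_et (f123708 IH) (Lpr_ft (f123709 IH) (Lpn (LP (LK LD1_c14 LD2_c6 LD3_c54))))))))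
theorem f123851 : Led Lsl_et (LP (LK LD1_c13 LD2_c57 LD3_c17)) = (LP (LK LD1_c14 LD2_c6 LD3_c54)) :=
  Lgr Lrot87 (Lpr_ef (f123710 IH) (Lpn (LP (LK LD1_c14 LD2_c6 LD3_c54))))
theorem f116349 : Led Lsl_at (LP (LK LD1_c23 LD2_c28 LD3_c57)) = (LP (LK LD1_c13 LD2_c57 LD3_c17)) :=
  Lre_a IH (LK LD1_c23 LD2_c28 LD3_c57) (LK LD1_c13 LD2_c57 LD3_c17) Lrfl Lrfl
theorem f123858 : Led Lsl_at (LP (LK LD1_c14 LD2_c6 LD3_c54)) = (LP (LK LD1_c23 LD2_c40 LD3_c44)) :=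
  Lre_a IH (LK LD1_c14 LD2_c6 LD3_c54) (LK LD1_c23 LD2_c40 LD3_c44) Lrfl Lrfl
theorem f123859 : Led Lsl_ef (LP (LK LD1_c23 LD2_c28 LD3_c57)) = (LP (LK LD1_c23 LD2_c40 LD3_c44)) :=
  Lgr Lrot20 (Lpr_at (f116349 IH) (Lpr_et (f123851 IH) (Lpr_at (f123858 IH) (Lpn (LP (LK LD1_c23 LD2_c40 LD3_c44))))))
theorem f123879 : Led Lsl_ft (LP (LK LD1_c23 LD2_c28 LD3_c57)) = (LP (LK LD1_c13 LD2_c57 LD3_c9)) :=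
  Lre_f IH (LK LD1_c23 LD2_c28 LD3_c57) (LK LD1_c13 LD2_c57 LD3_c9) Lrfl Lrfl
theorem f123880 : Led Lsl_et (LP (LK LD1_c13 LD2_c57 LD3_c9)) = (LP (LK LD1_c7 LD2_c22 LD3_c46)) :=
  Lre_e IH (LK LD1_c13 LD2_c57 LD3_c9) (LK LD1_c7 LD2_c22 LD3_c46) Lrfl Lrfl
theorem f123881 : Led Lsl_ft (LP (LK LD1_c14 LD2_c6 LD3_c42)) = (LP (LK LD1_c23 LD2_c40 LD3_c44)) :=
  Lre_f IH (LK LD1_c14 LD2_c6 LD3_c42) (LK LD1_c23 LD2_c40 LD3_c44) Lrfl Lrfl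
theorem f123679 : Led Lsl_et (LP (LK LD1_c7 LD2_c28 LD3_c33)) = (LP (LK LD1_c14 LD2_c6 LD3_c42)) :=
  Lre_e IH (LK LD1_c7 LD2_c28 LD3_c33) (LK LD1_c14 LD2_c6 LD3_c42) Lrfl Lrfl
theorem f123882 : Led Lsl_ft (LP (LK LD1_c7 LD2_c22 LD3_c46)) = (LP (LK LD1_c7 LD2_c28 LD3_c33)) :=
  Lgr Lrot86 (Lpe (f123880 IH) (Lpe (f123879 IH) (Lpr_ef (f123859 IH) (Lpe (f123881 IH) (Lpe (f123679 IH) (Lpn (LP (LK LD1_c7 LD2_c28 LD3_c33))))))))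
theorem f123893 : Led Lsl_at (LP (LK LD1_c7 LD2_c28 LD3_c33)) = (LP (LK LD1_c3 LD2_c43 LD3_c57)) :=
  Lre_a IH (LK LD1_c7 LD2_c28 LD3_c33) (LK LD1_c3 LD2_c43 LD3_c57) Lrfl Lrfl
theorem f123896 : Led Lsl_gt (LP (LK LD1_c7 LD2_c22 LD3_c46)) = (LP (LK LD1_c7 LD2_c28 LD3_c36)) :=
  Lgr Lrot5 (Lpr_ft (f123882 IH) (Lpr_at (f123893 IH) (Lpe (f123656 IH) (Lpn (LP (LK LD1_c7 LD2_c28 LD3_c36))))))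
theorem f116459 : Led Lsl_dt (LP (LK LD1_c3 LD2_c41 LD3_c12)) = (LP (LK LD1_c7 LD2_c22 LD3_c46)) :=
  Lre_d IH (LK LD1_c3 LD2_c41 LD3_c12) (LK LD1_c7 LD2_c22 LD3_c46) Lrfl Lrfl
theorem f123599 : Led Lsl_gt (LP (LK LD1_c1 LD2_c49 LD3_c0)) = (LP (LK LD1_c3 LD2_c43 LD3_c54)) :=
  Lre_g IH (LK LD1_c1 LD2_c49 LD3_c0) (LK LD1_c3 LD2_c43 LD3_c54) Lrfl Lrfl
theorem f123689 : Led Lsl_gf (LP (LK LD1_c3 LD2_c41 LD3_c12)) = (LP (LK LD1_c3 LD2_c43 LD3_c54)) :=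
  Lgr Lrot76 (Lpe (K4.f116450 IH) (Lpr_ff (f123668 IH) (Lpr_gt (f123599 IH) (Lpn (LP (LK LD1_c3 LD2_c43 LD3_c54))))))
theorem f123600 : Led Lsl_ct (LP (LK LD1_c3 LD2_c43 LD3_c54)) = (LP (LK LD1_c7 LD2_c28 LD3_c27)) :=
  Lre_c IH (LK LD1_c3 LD2_c43 LD3_c54) (LK LD1_c7 LD2_c28 LD3_c27) Lrfl Lrfl
theorem f12576 : Led Lsl_ct (LP (LK LD1_c1 LD2_c39 LD3_c37)) = (LP (LK LD1_c0 LD2_c46 LD3_c20)) :=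
  Lre_c IH (LK LD1_c1 LD2_c39 LD3_c37) (LK LD1_c0 LD2_c46 LD3_c20) Lrfl Lrfl
theorem f98614 : Led Lsl_bt (LP (LK LD1_c1 LD2_c39 LD3_c37)) = (LP (LK LD1_c3 LD2_c25 LD3_c57)) :=
  Lre_b IH (LK LD1_c1 LD2_c39 LD3_c37) (LK LD1_c3 LD2_c25 LD3_c57) Lrfl Lrfl
theorem f95591 : Led Lsl_bt (LP (LK LD1_c6 LD2_c49 LD3_c26)) = (LP (LK LD1_c13 LD2_c0 LD3_c53)) :=
  Lre_b IH (LK LD1_c6 LD2_c49 LD3_c26) (LK LD1_c13 LD2_c0 LD3_c53) Lrfl Lrfl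
theorem f108900 : Led Lsl_bf (LP (LK LD1_c6 LD2_c53 LD3_c45)) = (LP (LK LD1_c7 LD2_c27 LD3_c36)) :=
  Lgr Lrot90 (Lpe (K4.f97680 IH) (Lpr_bt (K4.f93198 IH) (Lpe (K3.f95584 IH) (Lpr_bt (f95591 IH) (Lpr_ct (K4.f108898 IH) (Lpn (LP (LK LD1_c7 LD2_c27 LD3_c36))))))))
theorem f108902 : Led Lsl_cf (LP (LK LD1_c13 LD2_c0 LD3_c53)) = (LP (LK LD1_c7 LD2_c27 LD3_c36)) :=
  Lgr Lrot11 (Lpr_ct (K4.f108898 IH) (Lpn (LP (LK LD1_c7 LD2_c27 LD3_c36))))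
theorem f123601 : Led Lsl_gf (LP (LK LD1_c13 LD2_c0 LD3_c53)) = (LP (LK LD1_c7 LD2_c28 LD3_c27)) :=
  Lgr Lrot129 (Lpr_cf (f108902 IH) (Lpe (f108900 IH) (Lpr_gt (K4.f97676 IH) (Lpe (f98614 IH) (Lpr_ct (f12576 IH) (Lpr_gt (K4.f12590 IH) (Lpr_cf (K4.f123570 IH) (Lpr_bt (K4.f123594 IH) (Lpr_gt (f123599 IH) (Lpr_ct (f123600 IH) (Lpn (LP (LK LD1_c7 LD2_c28 LD3_c27)))))))))))))
theorem f95626 : Led Lsl_dt (LP (LK LD1_c13 LD2_c0 LD3_c53)) = (LP (LK LD1_c6 LD2_c49 LD3_c25)) :=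
  Lre_d IH (LK LD1_c13 LD2_c0 LD3_c53) (LK LD1_c6 LD2_c49 LD3_c25) Lrfl Lrfl
theorem f126488 : Led Lsl_gf (LP (LK LD1_c7 LD2_c35 LD3_c53)) = (LP (LK LD1_c6 LD2_c49 LD3_c25)) :=
  Lgr Lrot154 (Lpr_dt (f126484 IH) (Lpr_ct (f126477 IH) (Lpr_df (f123928 IH) (Lpe (f123896 IH) (Lpe (f116459 IH) (Lpr_gf (f123689 IH) (Lpr_ct (f123600 IH) (Lpe (f123601 IH) (Lpr_dt (f95626 IH) (Lpn (LP (LK LD1_c6 LD2_c49 LD3_c25))))))))))))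
theorem f123646 : Led Lsl_at (LP (LK LD1_c3 LD2_c43 LD3_c56)) = (LP (LK LD1_c1 LD2_c49 LD3_c0)) :=
  Lre_a IH (LK LD1_c3 LD2_c43 LD3_c56) (LK LD1_c1 LD2_c49 LD3_c0) Lrfl Lrfl
theorem f123684 : Led Lsl_ft (LP (LK LD1_c3 LD2_c41 LD3_c12)) = (LP (LK LD1_c3 LD2_c43 LD3_c56)) :=
  Lgr Lrot101 (Lpe (K4.f116450 IH) (Lpr_ff (f123668 IH) (Lpe (f123646 IH) (Lpn (LP (LK LD1_c3 LD2_c43 LD3_c56))))))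
theorem f123945 : Led Lsl_gt (LP (LK LD1_c3 LD2_c41 LD3_c12)) = (LP (LK LD1_c3 LD2_c43 LD3_c55)) :=
  Lgr Lrot5 (Lpr_ft (f123684 IH) (Lpr_at (f123646 IH) (Lpe (K4.f123595 IH) (Lpn (LP (LK LD1_c3 LD2_c43 LD3_c55))))))
theorem f18628 : Led Lsl_gt (LP (LK LD1_c1 LD2_c41 LD3_c15)) = (LP (LK LD1_c3 LD2_c29 LD3_c0)) :=
  Lre_g IH (LK LD1_c1 LD2_c41 LD3_c15) (LK LD1_c3 LD2_c29 LD3_c0) Lrfl Lrfl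
theorem f18629 : Led Lsl_gt (LP (LK LD1_c3 LD2_c29 LD3_c0)) = (LP (LK LD1_c3 LD2_c24 LD3_c27)) :=
  Lgr Lrot46 (Lpe (f18628 IH) (Lpr_ft (K2.f18624 IH) (Lpr_at (K2.f18613 IH) (Lpn (LP (LK LD1_c3 LD2_c24 LD3_c27))))))
theorem f18636 : Led Lsl_bt (LP (LK LD1_c6 LD2_c59 LD3_c42)) = (LP (LK LD1_c3 LD2_c29 LD3_c0)) :=
  Lre_b IH (LK LD1_c6 LD2_c59 LD3_c42) (LK LD1_c3 LD2_c29 LD3_c0) Lrfl Lrfl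
theorem f123949 : Led Lsl_ct (LP (LK LD1_c6 LD2_c59 LD3_c42)) = (LP (LK LD1_c3 LD2_c43 LD3_c55)) :=
  Lgr Lrot63 (Lpr_bt (f18636 IH) (Lpr_gt (f18629 IH) (Lpe (K2.f15852 IH) (Lpr_ct (K1.f15853 IH) (Lpr_gt (K2.f90881 IH) (Lpe (K2.f14602 IH) (Lpr_bt (K4.f9800 IH) (Lpr_gt (K4.f9801 IH) (Lpe (K4.f116452 IH) (Lpr_gt (f123945 IH) (Lpn (LP (LK LD1_c3 LD2_c43 LD3_c55)))))))))))))
theorem f82440 : Led Lsl_bt (LP (LK LD1_c0 LD2_c18 LD3_c55)) = (LP (LK LD1_c0 LD2_c42 LD3_c21)) :=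
  Lre_b IH (LK LD1_c0 LD2_c18 LD3_c55) (LK LD1_c0 LD2_c42 LD3_c21) Lrfl Lrfl
theorem f109224 : Led Lsl_bt (LP (LK LD1_c0 LD2_c49 LD3_c4)) = (LP (LK LD1_c0 LD2_c47 LD3_c57)) :=
  Lgr Lrot128 (Lpr_cf (K3.f109220 IH) (Lpe (f82440 IH) (Lpe (K3.f82408 IH) (Lpr_bf (K4.f82411 IH) (Lpr_cf (K3.f109156 IH) (Lpn (LP (LK LD1_c0 LD2_c47 LD3_c57))))))))
theorem f116019 : Led Lsl_bt (LP (LK LD1_c1 LD2_c39 LD3_c36)) = (LP (LK LD1_c1 LD2_c39 LD3_c20)) :=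
  Lgr Lrot95 (Lpr_df (K4.f116015 IH) (Lpe (f109224 IH) (Lpe (K3.f109152 IH) (Lpn (LP (LK LD1_c1 LD2_c39 LD3_c20))))))
theorem f123578 : Led Lsl_ct (LP (LK LD1_c1 LD2_c49 LD3_c60)) = (LP (LK LD1_c1 LD2_c49 LD3_c0)) :=
  Lgr Lrot83 (Lpe (K4.f103619 IH) (Lpe (K3.f94641 IH) (Lpe (f116019 IH) (Lpr_cf (K4.f123570 IH) (Lpe (K4.f123577 IH) (Lpn (LP (LK LD1_c1 LD2_c49 LD3_c0))))))))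
theorem f123964 : Led Lsl_gf (LP (LK LD1_c6 LD2_c59 LD3_c42)) = (LP (LK LD1_c13 LD2_c0 LD3_c53)) :=
  Lgr Lrot181 (Lpr_ct (f123949 IH) (Lpr_gt (K4.f123595 IH) (Lpe (f123578 IH) (Lpr_bt (K4.f93630 IH) (Lpr_gt (K3.f65699 IH) (Lpe (K3.f91842 IH) (Lpr_ct (K3.f58786 IH) (Lpr_gt (K2.f5730 IH) (Lpe (K2.f95581 IH) (Lpr_bt (f95591 IH) (Lpn (LP (LK LD1_c13 LD2_c0 LD3_c53)))))))))))))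
theorem f103645 : Led Lsl_dt (LP (LK LD1_c3 LD2_c45 LD3_c47)) = (LP (LK LD1_c1 LD2_c49 LD3_c60)) :=
  Lre_d IH (LK LD1_c3 LD2_c45 LD3_c47) (LK LD1_c1 LD2_c49 LD3_c60) Lrfl Lrfl
theorem f93624 : Led Lsl_gt (LP (LK LD1_c14 LD2_c12 LD3_c51)) = (LP (LK LD1_c7 LD2_c32 LD3_c13)) :=
  Lre_g IH (LK LD1_c14 LD2_c12 LD3_c51) (LK LD1_c7 LD2_c32 LD3_c13) Lrfl Lrfl
theorem f126492 : Led Lsl_ct (LP (LK LD1_c7 LD2_c35 LD3_c53)) = (LP (LK LD1_c14 LD2_c12 LD3_c51)) :=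
  Lgr Lrot152 (Lpr_gf (f126488 IH) (Lpe (f95626 IH) (Lpe (f123964 IH) (Lpr_ct (f123949 IH) (Lpr_gt (K4.f123595 IH) (Lpe (K4.f123644 IH) (Lpe (f103645 IH) (Lpe (K4.f93622 IH) (Lpe (f93624 IH) (Lpn (LP (LK LD1_c14 LD2_c12 LD3_c51))))))))))))
theorem f93596 : Led Lsl_ct (LP (LK LD1_c3 LD2_c45 LD3_c47)) = (LP (LK LD1_c7 LD2_c32 LD3_c13)) :=
  Lre_c IH (LK LD1_c3 LD2_c45 LD3_c47) (LK LD1_c7 LD2_c32 LD3_c13) Lrfl Lrfl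
theorem f126494 : Led Lsl_gt (LP (LK LD1_c1 LD2_c32 LD3_c34)) = (LP (LK LD1_c1 LD2_c37 LD3_c52)) :=
  Lgr Lrot65 (Lpe (K4.f62899 IH) (Lpr_bt (K4.f111881 IH) (Lpe (K3.f93593 IH) (Lpe (K4.f93595 IH) (Lpr_ct (f93596 IH) (Lpe (f93624 IH) (Lpe (f126492 IH) (Lpr_gf (f126488 IH) (Lpe (K2.f95559 IH) (Lpr_ct (K3.f91960 IH) (Lpn (LP (LK LD1_c1 LD2_c37 LD3_c52)))))))))))))
theorem f111895 : Led Lsl_ft (LP (LK LD1_c1 LD2_c32 LD3_c34)) = (LP (LK LD1_c1 LD2_c29 LD3_c41)) :=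
  Lgr Lrot4 (Lpe (K4.f62899 IH) (Lpr_ff (K4.f111893 IH) (Lpe (K4.f89322 IH) (Lpn (LP (LK LD1_c1 LD2_c29 LD3_c41))))))
theorem f95619 : Led Lsl_ft (LP (LK LD1_c1 LD2_c37 LD3_c52)) = (LP (LK LD1_c1 LD2_c49 LD3_c29)) :=
  Lgr Lrot4 (Lpe (K3.f91960 IH) (Lpr_ff (K2.f95615 IH) (Lpe (K2.f93178 IH) (Lpn (LP (LK LD1_c1 LD2_c49 LD3_c29))))))
theorem f95592 : Led Lsl_af (LP (LK LD1_c0 LD2_c51 LD3_c43)) = (LP (LK LD1_c1 LD2_c49 LD3_c29)) :=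
  Lgr Lrot0 (Lpr_at (K2.f95589 IH) (Lpn (LP (LK LD1_c1 LD2_c49 LD3_c29))))
theorem f62888 : Led Lsl_gt (LP (LK LD1_c1 LD2_c49 LD3_c44)) = (LP (LK LD1_c0 LD2_c51 LD3_c43)) :=
  Lre_g IH (LK LD1_c1 LD2_c49 LD3_c44) (LK LD1_c0 LD2_c51 LD3_c43) Lrfl Lrfl
theorem f95632 : Led Lsl_gt (LP (LK LD1_c1 LD2_c37 LD3_c52)) = (LP (LK LD1_c1 LD2_c49 LD3_c44)) :=
  Lgr Lrot5 (Lpr_ft (f95619 IH) (Lpe (f95592 IH) (Lpe (f62888 IH) (Lpn (LP (LK LD1_c1 LD2_c49 LD3_c44))))))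
theorem f126502 : Led Lsl_at (LP (LK LD1_c1 LD2_c29 LD3_c41)) = (LP (LK LD1_c1 LD2_c49 LD3_c44)) :=
  Lgr Lrot26 (Lpe (f111895 IH) (Lpr_gt (f126494 IH) (Lpr_gt (f95632 IH) (Lpn (LP (LK LD1_c1 LD2_c49 LD3_c44))))))
theorem f25030 : Led Lsl_at (LP (LK LD1_c1 LD2_c29 LD3_c40)) = (LP (LK LD1_c0 LD2_c41 LD3_c27)) :=
  Lre_a IH (LK LD1_c1 LD2_c29 LD3_c40) (LK LD1_c0 LD2_c41 LD3_c27) Lrfl Lrfl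
theorem f126508 : Led Lsl_df (LP (LK LD1_c1 LD2_c29 LD3_c40)) = (LP (LK LD1_c1 LD2_c49 LD3_c44)) :=
  Lgr Lrot18 (Lpr_at (f25030 IH) (Lpr_dt (K4.f25032 IH) (Lpr_at (f126502 IH) (Lpn (LP (LK LD1_c1 LD2_c49 LD3_c44))))))
theorem f112960 : Led Lsl_dt (LP (LK LD1_c0 LD2_c43 LD3_c36)) = (LP (LK LD1_c0 LD2_c45 LD3_c13)) :=
  Lgr Lrot42 (Lpr_df (K4.f112958 IH) (Lpn (LP (LK LD1_c0 LD2_c45 LD3_c13))))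
theorem f126556 : Led Lsl_cf (LP (LK LD1_c1 LD2_c29 LD3_c40)) = (LP (LK LD1_c0 LD2_c45 LD3_c13)) :=
  Lgr Lrot14 (Lpr_df (f126508 IH) (Lpe (f95632 IH) (Lpe (K2.f91969 IH) (Lpr_gf (K3.f95557 IH) (Lpr_ct (K3.f24320 IH) (Lpr_gt (K3.f24141 IH) (Lpr_dt (K3.f24140 IH) (Lpr_gt (K2.f24032 IH) (Lpr_dt (f112960 IH) (Lpn (LP (LK LD1_c0 LD2_c45 LD3_c13))))))))))))
theorem f20057 : Led Lsl_bt (LP (LK LD1_c0 LD2_c20 LD3_c5)) = (LP (LK LD1_c0 LD2_c9 LD3_c3)) :=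
  Lre_b IH (LK LD1_c0 LD2_c20 LD3_c5) (LK LD1_c0 LD2_c9 LD3_c3) Lrfl Lrfl
theorem f20058 : Led Lsl_cf (LP (LK LD1_c0 LD2_c20 LD3_c5)) = (LP (LK LD1_c0 LD2_c20 LD3_c5)) :=
  Lgr Lrot97 (Lpr_bt (f20057 IH) (Lpr_ct (K0.f9684 IH) (Lpr_bt (K0.f20055 IH) (Lpr_ct (K0.f5831 IH) (Lpr_bt (K4.f5832 IH) (Lpn (LP (LK LD1_c0 LD2_c20 LD3_c5))))))))
theorem f23174 : Led Lsl_gt (LP (LK LD1_c0 LD2_c43 LD3_c38)) = (LP (LK LD1_c1 LD2_c34 LD3_c2)) :=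
  Lre_g IH (LK LD1_c0 LD2_c43 LD3_c38) (LK LD1_c1 LD2_c34 LD3_c2) Lrfl Lrfl
theorem f120501 : Led Lsl_ct (LP (LK LD1_c1 LD2_c34 LD3_c2)) = (LP (LK LD1_c1 LD2_c49 LD3_c44)) :=
  Lgr Lrot152 (Lpe (f23174 IH) (Lpe (K3.f24136 IH) (Lpr_gt (K4.f24156 IH) (Lpr_ct (K4.f120483 IH) (Lpe (K4.f120481 IH) (Lpr_ct (K4.f111051 IH) (Lpe (K4.f93192 IH) (Lpe (K2.f62890 IH) (Lpe (f62888 IH) (Lpn (LP (LK LD1_c1 LD2_c49 LD3_c44))))))))))))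
theorem f24029 : Led Lsl_gt (LP (LK LD1_c0 LD2_c43 LD3_c37)) = (LP (LK LD1_c0 LD2_c19 LD3_c27)) :=
  Lre_g IH (LK LD1_c0 LD2_c43 LD3_c37) (LK LD1_c0 LD2_c19 LD3_c27) Lrfl Lrfl
theorem f126558 : Led Lsl_dt (LP (LK LD1_c0 LD2_c45 LD3_c14)) = (LP (LK LD1_c0 LD2_c43 LD3_c37)) :=
  Lgr Lrot6 (Lpr_gt (K4.f20085 IH) (Lpe (f20058 IH) (Lpr_gt (K4.f5833 IH) (Lpe (f126556 IH) (Lpr_df (f126508 IH) (Lpe (f120501 IH) (Lpe (f23174 IH) (Lpe (K4.f23173 IH) (Lpe (f24029 IH) (Lpn (LP (LK LD1_c0 LD2_c43 LD3_c37))))))))))))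
theorem f126566 : Led Lsl_df (LP (LK LD1_c0 LD2_c45 LD3_c14)) = (LP (LK LD1_c0 LD2_c43 LD3_c37)) :=
  Lgr Lrot38 (Lpr_dt (f126558 IH) (Lpn (LP (LK LD1_c0 LD2_c43 LD3_c37))))
theorem f125326 : Led Lsl_ef (LP (LK LD1_c0 LD2_c30 LD3_c51)) = (LP (LK LD1_c0 LD2_c45 LD3_c14)) :=
  Lgr Lrot28 (Lpe (K3.f79266 IH) (Lpr_et (f125322 IH) (Lpe (K4.f77836 IH) (Lpn (LP (LK LD1_c0 LD2_c45 LD3_c14))))))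
theorem f126574 : Led Lsl_et (LP (LK LD1_c1 LD2_c7 LD3_c15)) = (LP (LK LD1_c2 LD2_c19 LD3_c60)) :=
  Lre_e IH (LK LD1_c1 LD2_c7 LD3_c15) (LK LD1_c2 LD2_c19 LD3_c60) Lrfl Lrfl
theorem f126575 : Led Lsl_et (LP (LK LD1_c1 LD2_c34 LD3_c1)) = (LP (LK LD1_c0 LD2_c43 LD3_c37)) :=
  Lre_e IH (LK LD1_c1 LD2_c34 LD3_c1) (LK LD1_c0 LD2_c43 LD3_c37) Lrfl Lrfl
theorem f126576 : Led Lsl_dt (LP (LK LD1_c2 LD2_c19 LD3_c60)) = (LP (LK LD1_c1 LD2_c34 LD3_c1)) :=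
  Lgr Lrot77 (Lpe (f126574 IH) (Lpe (K2.f78108 IH) (Lpr_ef (f125326 IH) (Lpr_df (f126566 IH) (Lpe (f126575 IH) (Lpn (LP (LK LD1_c1 LD2_c34 LD3_c1))))))))
theorem f126582 : Led Lsl_df (LP (LK LD1_c2 LD2_c19 LD3_c60)) = (LP (LK LD1_c1 LD2_c34 LD3_c1)) :=
  Lgr Lrot38 (Lpr_dt (f126576 IH) (Lpn (LP (LK LD1_c1 LD2_c34 LD3_c1))))
theorem f126568 : Led Lsl_et (LP (LK LD1_c0 LD2_c43 LD3_c37)) = (LP (LK LD1_c1 LD2_c34 LD3_c1)) :=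
  Lre_e IH (LK LD1_c0 LD2_c43 LD3_c37) (LK LD1_c1 LD2_c34 LD3_c1) Lrfl Lrfl
theorem f126591 : Led Lsl_et (LP (LK LD1_c0 LD2_c30 LD3_c51)) = (LP (LK LD1_c0 LD2_c45 LD3_c14)) :=
  Lgr Lrot71 (Lpe (K3.f78111 IH) (Lpe (K4.f78125 IH) (Lpr_df (f126582 IH) (Lpe (f126568 IH) (Lpe (f126558 IH) (Lpn (LP (LK LD1_c0 LD2_c45 LD3_c14))))))))
theorem f126594 : Led Lsl_ef (LP (LK LD1_c1 LD2_c7 LD3_c14)) = (LP (LK LD1_c1 LD2_c37 LD3_c41)) :=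
  Lgr Lrot29 (Lpr_bt (K3.f23311 IH) (Lpr_et (f126591 IH) (Lpr_bt (K4.f77835 IH) (Lpn (LP (LK LD1_c1 LD2_c37 LD3_c41))))))
theorem f126596 : Led Lsl_et (LP (LK LD1_c0 LD2_c43 LD3_c48)) = (LP (LK LD1_c1 LD2_c26 LD3_c43)) :=
  Lgr Lrot158 (Lpr_cf (K3.f79261 IH) (Lpr_ef (f126594 IH) (Lpr_cf (K4.f77838 IH) (Lpn (LP (LK LD1_c1 LD2_c26 LD3_c43))))))
theorem f77824 : Led Lsl_et (LP (LK LD1_c1 LD2_c29 LD3_c12)) = (LP (LK LD1_c3 LD2_c6 LD3_c15)) :=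
  Lre_e IH (LK LD1_c1 LD2_c29 LD3_c12) (LK LD1_c3 LD2_c6 LD3_c15) Lrfl Lrfl
theorem f126612 : Led Lsl_gf (LP (LK LD1_c3 LD2_c6 LD3_c15)) = (LP (LK LD1_c1 LD2_c33 LD3_c53)) :=
  Lgr Lrot141 (Lpe (f77824 IH) (Lpr_dt (K3.f25110 IH) (Lpe (K3.f79252 IH) (Lpe (K2.f23344 IH) (Lpr_et (f126596 IH) (Lpr_gt (K3.f61671 IH) (Lpe (K2.f78721 IH) (Lpe (K4.f114920 IH) (Lpe (K4.f24386 IH) (Lpr_et (K3.f24380 IH) (Lpn (LP (LK LD1_c1 LD2_c33 LD3_c53)))))))))))))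
theorem f77882 : Led Lsl_bt (LP (LK LD1_c1 LD2_c5 LD3_c34)) = (LP (LK LD1_c2 LD2_c17 LD3_c11)) :=
  Lre_b IH (LK LD1_c1 LD2_c5 LD3_c34) (LK LD1_c2 LD2_c17 LD3_c11) Lrfl Lrfl
theorem f125453 : Led Lsl_gt (LP (LK LD1_c2 LD2_c17 LD3_c11)) = (LP (LK LD1_c1 LD2_c29 LD3_c44)) :=
  Lgr Lrot164 (Lpe (f77882 IH) (Lpr_ct (K2.f77891 IH) (Lpr_gf (f125267 IH) (Lpe (K4.f120025 IH) (Lpe (f125314 IH) (Lpe (f86319 IH) (Lpr_ct (K3.f25065 IH) (Lpr_gf (f125413 IH) (Lpe (f62611 IH) (Lpr_bt (K2.f62628 IH) (Lpn (LP (LK LD1_c1 LD2_c29 LD3_c44)))))))))))))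
theorem f62620 : Led Lsl_gt (LP (LK LD1_c1 LD2_c29 LD3_c42)) = (LP (LK LD1_c3 LD2_c7 LD3_c1)) :=
  Lre_g IH (LK LD1_c1 LD2_c29 LD3_c42) (LK LD1_c3 LD2_c7 LD3_c1) Lrfl Lrfl
theorem f24364 : Led Lsl_gt (LP (LK LD1_c3 LD2_c11 LD3_c60)) = (LP (LK LD1_c1 LD2_c32 LD3_c25)) :=
  Lre_g IH (LK LD1_c3 LD2_c11 LD3_c60) (LK LD1_c1 LD2_c32 LD3_c25) Lrfl Lrfl
theorem f126620 : Led Lsl_ct (LP (LK LD1_c3 LD2_c7 LD3_c1)) = (LP (LK LD1_c3 LD2_c11 LD3_c60)) :=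
  Lgr Lrot91 (Lpe (f62620 IH) (Lpe (K2.f62626 IH) (Lpr_ct (f62608 IH) (Lpe (f125453 IH) (Lpr_cf (K2.f77886 IH) (Lpe (K2.f77850 IH) (Lpr_gf (f126612 IH) (Lpe (K3.f24363 IH) (Lpe (K3.f24338 IH) (Lpe (f24364 IH) (Lpn (LP (LK LD1_c3 LD2_c11 LD3_c60)))))))))))))
theorem f76738 : Led Lsl_at (LP (LK LD1_c1 LD2_c37 LD3_c49)) = (LP (LK LD1_c0 LD2_c45 LD3_c32)) :=
  Lre_a IH (LK LD1_c1 LD2_c37 LD3_c49) (LK LD1_c0 LD2_c45 LD3_c32) Lrfl Lrfl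
theorem f76743 : Led Lsl_gf (LP (LK LD1_c1 LD2_c38 LD3_c16)) = (LP (LK LD1_c1 LD2_c32 LD3_c11)) :=
  Lgr Lrot47 (Lpr_gt (K2.f11933 IH) (Lpe (f76738 IH) (Lpr_ff (K2.f76739 IH) (Lpn (LP (LK LD1_c1 LD2_c32 LD3_c11))))))
theorem f126628 : Led Lsl_bt (LP (LK LD1_c3 LD2_c7 LD3_c1)) = (LP (LK LD1_c1 LD2_c38 LD3_c16)) :=
  Lgr Lrot92 (Lpr_ct (f126620 IH) (Lpr_gt (f24364 IH) (Lpr_cf (K3.f24338 IH) (Lpr_bt (K3.f24363 IH) (Lpe (f126612 IH) (Lpr_ct (K3.f77856 IH) (Lpe (K3.f79387 IH) (Lpr_cf (K2.f25076 IH) (Lpr_bt (K2.f68070 IH) (Lpe (f76743 IH) (Lpn (LP (LK LD1_c1 LD2_c38 LD3_c16)))))))))))))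
theorem f7328 : Led Lsl_bt (LP (LK LD1_c0 LD2_c20 LD3_c22)) = (LP (LK LD1_c0 LD2_c45 LD3_c32)) :=
  Lre_b IH (LK LD1_c0 LD2_c20 LD3_c22) (LK LD1_c0 LD2_c45 LD3_c32) Lrfl Lrfl
theorem f57559 : Led Lsl_bt (LP (LK LD1_c0 LD2_c17 LD3_c60)) = (LP (LK LD1_c0 LD2_c40 LD3_c5)) :=
  Lre_b IH (LK LD1_c0 LD2_c17 LD3_c60) (LK LD1_c0 LD2_c40 LD3_c5) Lrfl Lrfl
theorem f57566 : Led Lsl_gt (LP (LK LD1_c0 LD2_c40 LD3_c5)) = (LP (LK LD1_c1 LD2_c26 LD3_c36)) :=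
  Lre_g IH (LK LD1_c0 LD2_c40 LD3_c5) (LK LD1_c1 LD2_c26 LD3_c36) Lrfl Lrfl
theorem f126638 : Led Lsl_ct (LP (LK LD1_c1 LD2_c26 LD3_c36)) = (LP (LK LD1_c3 LD2_c1 LD3_c16)) :=
  Lre_c IH (LK LD1_c1 LD2_c26 LD3_c36) (LK LD1_c3 LD2_c1 LD3_c16) Lrfl Lrfl
theorem f126639 : Led Lsl_gf (LP (LK LD1_c3 LD2_c11 LD3_c60)) = (LP (LK LD1_c3 LD2_c1 LD3_c16)) :=
  Lgr Lrot129 (Lpe (f126620 IH) (Lpr_bt (f126628 IH) (Lpr_gt (K2.f11933 IH) (Lpe (f7328 IH) (Lpr_ct (K2.f7319 IH) (Lpr_gt (K1.f20900 IH) (Lpr_cf (K3.f57560 IH) (Lpr_bt (f57559 IH) (Lpr_gt (f57566 IH) (Lpr_ct (f126638 IH) (Lpn (LP (LK LD1_c3 LD2_c1 LD3_c16)))))))))))))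
theorem f64509 : Led Lsl_bt (LP (LK LD1_c1 LD2_c26 LD3_c53)) = (LP (LK LD1_c0 LD2_c40 LD3_c15)) :=
  Lre_b IH (LK LD1_c1 LD2_c26 LD3_c53) (LK LD1_c0 LD2_c40 LD3_c15) Lrfl Lrfl
theorem f64510 : Led Lsl_ct (LP (LK LD1_c1 LD2_c26 LD3_c53)) = (LP (LK LD1_c3 LD2_c1 LD3_c39)) :=
  Lre_c IH (LK LD1_c1 LD2_c26 LD3_c53) (LK LD1_c3 LD2_c1 LD3_c39) Lrfl Lrfl
theorem f61655 : Led Lsl_bt (LP (LK LD1_c1 LD2_c6 LD3_c41)) = (LP (LK LD1_c2 LD2_c19 LD3_c4)) :=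
  Lre_b IH (LK LD1_c1 LD2_c6 LD3_c41) (LK LD1_c2 LD2_c19 LD3_c4) Lrfl Lrfl
theorem f61650 : Led Lsl_ct (LP (LK LD1_c1 LD2_c6 LD3_c41)) = (LP (LK LD1_c2 LD2_c19 LD3_c5)) :=
  Lre_c IH (LK LD1_c1 LD2_c6 LD3_c41) (LK LD1_c2 LD2_c19 LD3_c5) Lrfl Lrfl
theorem f125296 : Led Lsl_gt (LP (LK LD1_c3 LD2_c1 LD3_c39)) = (LP (LK LD1_c2 LD2_c19 LD3_c5)) :=
  Lgr Lrot65 (Lpe (f64510 IH) (Lpr_bt (f64509 IH) (Lpr_gf (K3.f64492 IH) (Lpe (K3.f58151 IH) (Lpe (K3.f86148 IH) (Lpe (K4.f86159 IH) (Lpe (f78273 IH) (Lpr_gf (f125294 IH) (Lpe (f61655 IH) (Lpr_ct (f61650 IH) (Lpn (LP (LK LD1_c2 LD2_c19 LD3_c5)))))))))))))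
theorem f126641 : Led Lsl_bt (LP (LK LD1_c1 LD2_c26 LD3_c36)) = (LP (LK LD1_c2 LD2_c19 LD3_c5)) :=
  Lgr Lrot92 (Lpr_ct (f126638 IH) (Lpe (f126639 IH) (Lpe (f126620 IH) (Lpr_bt (f126628 IH) (Lpr_gt (K2.f11933 IH) (Lpr_ct (K3.f11931 IH) (Lpr_gt (K4.f17277 IH) (Lpe (K4.f90274 IH) (Lpr_bt (K4.f90277 IH) (Lpr_gt (f125296 IH) (Lpn (LP (LK LD1_c2 LD2_c19 LD3_c5)))))))))))))
theorem f110009 : Led Lsl_et (LP (LK LD1_c2 LD2_c19 LD3_c5)) = (LP (LK LD1_c1 LD2_c6 LD3_c40)) :=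
  Lre_e IH (LK LD1_c2 LD2_c19 LD3_c5) (LK LD1_c1 LD2_c6 LD3_c40) Lrfl Lrfl
theorem f67033 : Led Lsl_ct (LP (LK LD1_c0 LD2_c8 LD3_c20)) = (LP (LK LD1_c0 LD2_c4 LD3_c8)) :=
  Lgr Lrot111 (Lpr_af (K1.f66955 IH) (Lpr_cf (K2.f57598 IH) (Lpe (K0.f9672 IH) (Lpn (LP (LK LD1_c0 LD2_c4 LD3_c8))))))
theorem f67043 : Led Lsl_bf (LP (LK LD1_c0 LD2_c45 LD3_c13)) = (LP (LK LD1_c1 LD2_c6 LD3_c40)) :=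
  Lgr Lrot34 (Lpe (K4.f5833 IH) (Lpe (K4.f5832 IH) (Lpr_ct (K0.f9684 IH) (Lpr_gf (K0.f9682 IH) (Lpe (f67033 IH) (Lpr_gf (K1.f67039 IH) (Lpe (K3.f61672 IH) (Lpe (K2.f26316 IH) (Lpe (K3.f61637 IH) (Lpe (K3.f61642 IH) (Lpn (LP (LK LD1_c1 LD2_c6 LD3_c40)))))))))))))
theorem f126650 : Led Lsl_ef (LP (LK LD1_c1 LD2_c26 LD3_c36)) = (LP (LK LD1_c0 LD2_c45 LD3_c13)) :=
  Lgr Lrot29 (Lpr_bt (f126641 IH) (Lpr_et (f110009 IH) (Lpe (f67043 IH) (Lpn (LP (LK LD1_c0 LD2_c45 LD3_c13))))))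
theorem f126657 : Led Lsl_et (LP (LK LD1_c1 LD2_c26 LD3_c36)) = (LP (LK LD1_c0 LD2_c45 LD3_c13)) :=
  Lgr Lrot87 (Lpr_ef (f126650 IH) (Lpn (LP (LK LD1_c0 LD2_c45 LD3_c13))))
theorem f126645 : Led Lsl_ct (LP (LK LD1_c3 LD2_c1 LD3_c16)) = (LP (LK LD1_c1 LD2_c26 LD3_c36)) :=
  Lre_c IH (LK LD1_c3 LD2_c1 LD3_c16) (LK LD1_c1 LD2_c26 LD3_c36) Lrfl Lrfl
theorem f126661 : Led Lsl_ef (LP (LK LD1_c3 LD2_c1 LD3_c16)) = (LP (LK LD1_c1 LD2_c29 LD3_c40)) :=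
  Lgr Lrot28 (Lpr_ct (f126645 IH) (Lpr_et (f126657 IH) (Lpe (f126556 IH) (Lpn (LP (LK LD1_c1 LD2_c29 LD3_c40))))))
theorem f126550 : Led Lsl_dt (LP (LK LD1_c1 LD2_c29 LD3_c40)) = (LP (LK LD1_c1 LD2_c49 LD3_c44)) :=
  Lgr Lrot42 (Lpr_df (f126508 IH) (Lpn (LP (LK LD1_c1 LD2_c49 LD3_c44))))
theorem f126702 : Led Lsl_gf (LP (LK LD1_c3 LD2_c1 LD3_c16)) = (LP (LK LD1_c3 LD2_c6 LD3_c50)) :=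
  Lgr Lrot141 (Lpr_ef (f126661 IH) (Lpr_dt (f126550 IH) (Lpr_gt (f62888 IH) (Lpe (K2.f24340 IH) (Lpe (K2.f85065 IH) (Lpr_gt (K3.f24324 IH) (Lpe (K3.f104152 IH) (Lpr_gt (K3.f90478 IH) (Lpe (K3.f83723 IH) (Lpr_et (K3.f83898 IH) (Lpn (LP (LK LD1_c3 LD2_c6 LD3_c50)))))))))))))
theorem f18015 : Led Lsl_bt (LP (LK LD1_c1 LD2_c53 LD3_c24)) = (LP (LK LD1_c0 LD2_c53 LD3_c18)) :=
  Lre_b IH (LK LD1_c1 LD2_c53 LD3_c24) (LK LD1_c0 LD2_c53 LD3_c18) Lrfl Lrfl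
theorem f126706 : Led Lsl_gt (LP (LK LD1_c2 LD2_c19 LD3_c5)) = (LP (LK LD1_c2 LD2_c21 LD3_c39)) :=
  Lgr Lrot82 (Lpe (f126641 IH) (Lpr_ct (f126638 IH) (Lpr_gf (f126702 IH) (Lpe (K2.f90196 IH) (Lpr_bt (f18015 IH) (Lpe (K3.f86339 IH) (Lpe (K3.f86338 IH) (Lpr_ct (K3.f86337 IH) (Lpr_gf (K3.f86333 IH) (Lpe (K3.f24994 IH) (Lpn (LP (LK LD1_c2 LD2_c21 LD3_c39)))))))))))))
theorem f77884 : Led Lsl_bf (LP (LK LD1_c2 LD2_c17 LD3_c13)) = (LP (LK LD1_c1 LD2_c29 LD3_c14)) :=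
  Lgr Lrot90 (Lpr_ct (K3.f77883 IH) (Lpr_bt (f77882 IH) (Lpr_ct (K2.f77878 IH) (Lpe (K2.f77850 IH) (Lpr_ct (K3.f77856 IH) (Lpn (LP (LK LD1_c1 LD2_c29 LD3_c14))))))))
theorem f24344 : Led Lsl_bt (LP (LK LD1_c1 LD2_c32 LD3_c25)) = (LP (LK LD1_c0 LD2_c42 LD3_c50)) :=
  Lre_b IH (LK LD1_c1 LD2_c32 LD3_c25) (LK LD1_c0 LD2_c42 LD3_c50) Lrfl Lrfl
theorem f24347 : Led Lsl_bt (LP (LK LD1_c1 LD2_c33 LD3_c53)) = (LP (LK LD1_c0 LD2_c43 LD3_c33)) :=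
  Lre_b IH (LK LD1_c1 LD2_c33 LD3_c53) (LK LD1_c0 LD2_c43 LD3_c33) Lrfl Lrfl
theorem f24348 : Led Lsl_ct (LP (LK LD1_c3 LD2_c12 LD3_c1)) = (LP (LK LD1_c1 LD2_c33 LD3_c53)) :=
  Lgr Lrot83 (Lpe (f24346 IH) (Lpe (f24345 IH) (Lpe (f24344 IH) (Lpr_cf (K3.f24338 IH) (Lpe (f24347 IH) (Lpn (LP (LK LD1_c1 LD2_c33 LD3_c53))))))))
theorem f86331 : Led Lsl_bf (LP (LK LD1_c3 LD2_c6 LD3_c34)) = (LP (LK LD1_c3 LD2_c10 LD3_c55)) :=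
  Lgr Lrot24 (Lpr_bt (K3.f86321 IH) (Lpn (LP (LK LD1_c3 LD2_c10 LD3_c55))))
theorem f126710 : Led Lsl_gf (LP (LK LD1_c3 LD2_c12 LD3_c1)) = (LP (LK LD1_c3 LD2_c6 LD3_c34)) :=
  Lgr Lrot181 (Lpr_ct (f24348 IH) (Lpe (f126612 IH) (Lpe (K2.f77858 IH) (Lpe (f77884 IH) (Lpe (f120021 IH) (Lpe (f61655 IH) (Lpr_ct (f61650 IH) (Lpr_gt (f126706 IH) (Lpr_cf (K3.f24999 IH) (Lpe (f86331 IH) (Lpn (LP (LK LD1_c3 LD2_c6 LD3_c34)))))))))))))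
theorem f126723 : Led Lsl_gt (LP (LK LD1_c0 LD2_c43 LD3_c33)) = (LP (LK LD1_c0 LD2_c40 LD3_c5)) :=
  Lgr Lrot164 (Lpe (f24347 IH) (Lpe (K3.f24368 IH) (Lpr_gf (f126710 IH) (Lpe (K3.f25065 IH) (Lpe (K3.f25064 IH) (Lpe (K2.f25063 IH) (Lpr_ct (K1.f25050 IH) (Lpr_gf (K1.f20898 IH) (Lpr_cf (K3.f57560 IH) (Lpr_bt (f57559 IH) (Lpn (LP (LK LD1_c0 LD2_c40 LD3_c5)))))))))))))
theorem f125334 : Led Lsl_ft (LP (LK LD1_c0 LD2_c43 LD3_c33)) = (LP (LK LD1_c1 LD2_c26 LD3_c34)) :=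
  Lgr Lrot4 (Lpe (K3.f24350 IH) (Lpr_ff (f125330 IH) (Lpr_cf (K2.f62334 IH) (Lpn (LP (LK LD1_c1 LD2_c26 LD3_c34))))))
theorem f126728 : Led Lsl_at (LP (LK LD1_c1 LD2_c26 LD3_c34)) = (LP (LK LD1_c1 LD2_c26 LD3_c36)) :=
  Lgr Lrot26 (Lpe (f125334 IH) (Lpr_gt (f126723 IH) (Lpr_gt (f57566 IH) (Lpn (LP (LK LD1_c1 LD2_c26 LD3_c36))))))
theorem f107444 : Led Lsl_af (LP (LK LD1_c0 LD2_c43 LD3_c33)) = (LP (LK LD1_c1 LD2_c7 LD3_c13)) :=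
  Lgr Lrot0 (Lpr_at (K3.f107442 IH) (Lpn (LP (LK LD1_c1 LD2_c7 LD3_c13))))
theorem f126832 : Led Lsl_ff (LP (LK LD1_c1 LD2_c7 LD3_c13)) = (LP (LK LD1_c1 LD2_c26 LD3_c36)) :=
  Lgr Lrot30 (Lpe (f107444 IH) (Lpr_ft (f125334 IH) (Lpr_at (f126728 IH) (Lpn (LP (LK LD1_c1 LD2_c26 LD3_c36))))))
theorem f24360 : Led Lsl_gt (LP (LK LD1_c1 LD2_c33 LD3_c56)) = (LP (LK LD1_c0 LD2_c43 LD3_c33)) :=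
  Lre_g IH (LK LD1_c1 LD2_c33 LD3_c56) (LK LD1_c0 LD2_c43 LD3_c33) Lrfl Lrfl
theorem f126840 : Led Lsl_gf (LP (LK LD1_c1 LD2_c33 LD3_c56)) = (LP (LK LD1_c1 LD2_c26 LD3_c36)) :=
  Lgr Lrot47 (Lpr_gt (f24360 IH) (Lpr_af (f107444 IH) (Lpr_ff (f126832 IH) (Lpn (LP (LK LD1_c1 LD2_c26 LD3_c36))))))
theorem f125300 : Led Lsl_gf (LP (LK LD1_c2 LD2_c21 LD3_c40)) = (LP (LK LD1_c4 LD2_c40 LD3_c9)) :=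
  Lgr Lrot76 (Lpr_af (f125123 IH) (Lpe (f125253 IH) (Lpr_gt (f125298 IH) (Lpn (LP (LK LD1_c4 LD2_c40 LD3_c9))))))
theorem f61657 : Led Lsl_et (LP (LK LD1_c4 LD2_c40 LD3_c9)) = (LP (LK LD1_c2 LD2_c17 LD3_c7)) :=
  Lre_e IH (LK LD1_c4 LD2_c40 LD3_c9) (LK LD1_c2 LD2_c17 LD3_c7) Lrfl Lrfl
theorem f126697 : Led Lsl_bt (LP (LK LD1_c3 LD2_c1 LD3_c16)) = (LP (LK LD1_c4 LD2_c40 LD3_c9)) :=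
  Lgr Lrot119 (Lpr_ef (f126661 IH) (Lpr_bf (K4.f113327 IH) (Lpe (f61657 IH) (Lpn (LP (LK LD1_c4 LD2_c40 LD3_c9))))))
theorem f126732 : Led Lsl_cf (LP (LK LD1_c0 LD2_c40 LD3_c5)) = (LP (LK LD1_c0 LD2_c40 LD3_c5)) :=
  Lgr Lrot125 (Lpr_gt (f57566 IH) (Lpe (f126645 IH) (Lpr_bt (f126697 IH) (Lpe (f125300 IH) (Lpe (f86319 IH) (Lpr_ct (K3.f25065 IH) (Lpe (f126710 IH) (Lpr_cf (K3.f24368 IH) (Lpr_bt (f24347 IH) (Lpr_gt (f126723 IH) (Lpn (LP (LK LD1_c0 LD2_c40 LD3_c5)))))))))))))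
theorem f62383 : Led Lsl_dt (LP (LK LD1_c0 LD2_c40 LD3_c5)) = (LP (LK LD1_c1 LD2_c26 LD3_c37)) :=
  Lre_d IH (LK LD1_c0 LD2_c40 LD3_c5) (LK LD1_c1 LD2_c26 LD3_c37) Lrfl Lrfl
theorem f62360 : Led Lsl_ct (LP (LK LD1_c1 LD2_c26 LD3_c37)) = (LP (LK LD1_c3 LD2_c1 LD3_c20)) :=
  Lre_c IH (LK LD1_c1 LD2_c26 LD3_c37) (LK LD1_c3 LD2_c1 LD3_c20) Lrfl Lrfl
theorem f62548 : Led Lsl_at (LP (LK LD1_c6 LD2_c9 LD3_c34)) = (LP (LK LD1_c3 LD2_c1 LD3_c20)) :=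
  Lre_a IH (LK LD1_c6 LD2_c9 LD3_c34) (LK LD1_c3 LD2_c1 LD3_c20) Lrfl Lrfl
theorem f62345 : Led Lsl_dt (LP (LK LD1_c1 LD2_c26 LD3_c37)) = (LP (LK LD1_c0 LD2_c40 LD3_c5)) :=
  Lre_d IH (LK LD1_c1 LD2_c26 LD3_c37) (LK LD1_c0 LD2_c40 LD3_c5) Lrfl Lrfl
theorem f62379 : Led Lsl_ct (LP (LK LD1_c3 LD2_c1 LD3_c20)) = (LP (LK LD1_c1 LD2_c26 LD3_c37)) :=
  Lre_c IH (LK LD1_c3 LD2_c1 LD3_c20) (LK LD1_c1 LD2_c26 LD3_c37) Lrfl Lrfl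
theorem f62424 : Led Lsl_dt (LP (LK LD1_c6 LD2_c9 LD3_c44)) = (LP (LK LD1_c3 LD2_c1 LD3_c20)) :=
  Lre_d IH (LK LD1_c6 LD2_c9 LD3_c44) (LK LD1_c3 LD2_c1 LD3_c20) Lrfl Lrfl
theorem f126739 : Led Lsl_ct (LP (LK LD1_c12 LD2_c0 LD3_c29)) = (LP (LK LD1_c6 LD2_c9 LD3_c44)) :=
  Lre_c IH (LK LD1_c12 LD2_c0 LD3_c29) (LK LD1_c6 LD2_c9 LD3_c44) Lrfl Lrfl
theorem f126725 : Led Lsl_at (LP (LK LD1_c1 LD2_c26 LD3_c35)) = (LP (LK LD1_c0 LD2_c40 LD3_c5)) :=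
  Lre_a IH (LK LD1_c1 LD2_c26 LD3_c35) (LK LD1_c0 LD2_c40 LD3_c5) Lrfl Lrfl
theorem f126726 : Led Lsl_ft (LP (LK LD1_c1 LD2_c33 LD3_c56)) = (LP (LK LD1_c1 LD2_c26 LD3_c35)) :=
  Lgr Lrot2 (Lpr_gt (f24360 IH) (Lpr_gt (f126723 IH) (Lpe (f126725 IH) (Lpn (LP (LK LD1_c1 LD2_c26 LD3_c35))))))
theorem f24362 : Led Lsl_dt (LP (LK LD1_c1 LD2_c33 LD3_c56)) = (LP (LK LD1_c3 LD2_c14 LD3_c46)) :=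
  Lre_d IH (LK LD1_c1 LD2_c33 LD3_c56) (LK LD1_c3 LD2_c14 LD3_c46) Lrfl Lrfl
theorem f126740 : Led Lsl_ct (LP (LK LD1_c3 LD2_c14 LD3_c46)) = (LP (LK LD1_c6 LD2_c32 LD3_c61)) :=
  Lre_c IH (LK LD1_c3 LD2_c14 LD3_c46) (LK LD1_c6 LD2_c32 LD3_c61) Lrfl Lrfl
theorem f126741 : Led Lsl_dt (LP (LK LD1_c6 LD2_c32 LD3_c61)) = (LP (LK LD1_c12 LD2_c0 LD3_c29)) :=
  Lgr Lrot32 (Lpe (f126740 IH) (Lpe (f24362 IH) (Lpr_ft (f126726 IH) (Lpr_at (f126725 IH) (Lpr_cf (f126732 IH) (Lpe (f62345 IH) (Lpe (f62379 IH) (Lpe (f62424 IH) (Lpe (f126739 IH) (Lpn (LP (LK LD1_c12 LD2_c0 LD3_c29))))))))))))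
theorem f126743 : Led Lsl_ff (LP (LK LD1_c6 LD2_c9 LD3_c34)) = (LP (LK LD1_c6 LD2_c32 LD3_c61)) :=
  Lgr Lrot103 (Lpr_at (f62548 IH) (Lpe (f62360 IH) (Lpe (f62383 IH) (Lpr_cf (f126732 IH) (Lpe (f62345 IH) (Lpe (f62379 IH) (Lpe (f62424 IH) (Lpe (f126739 IH) (Lpe (f126741 IH) (Lpn (LP (LK LD1_c6 LD2_c32 LD3_c61))))))))))))
theorem f126753 : Led Lsl_ft (LP (LK LD1_c6 LD2_c9 LD3_c34)) = (LP (LK LD1_c6 LD2_c32 LD3_c61)) :=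
  Lgr Lrot48 (Lpr_ff (f126743 IH) (Lpn (LP (LK LD1_c6 LD2_c32 LD3_c61))))
theorem f62571 : Led Lsl_dt (LP (LK LD1_c12 LD2_c0 LD3_c9)) = (LP (LK LD1_c6 LD2_c9 LD3_c34)) :=
  Lre_d IH (LK LD1_c12 LD2_c0 LD3_c9) (LK LD1_c6 LD2_c9 LD3_c34) Lrfl Lrfl
theorem f126765 : Led Lsl_ff (LP (LK LD1_c12 LD2_c0 LD3_c9)) = (LP (LK LD1_c12 LD2_c0 LD3_c29)) :=
  Lgr Lrot19 (Lpr_dt (f62571 IH) (Lpr_ft (f126753 IH) (Lpr_dt (f126741 IH) (Lpn (LP (LK LD1_c12 LD2_c0 LD3_c29))))))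
theorem f126772 : Led Lsl_ft (LP (LK LD1_c12 LD2_c0 LD3_c9)) = (LP (LK LD1_c12 LD2_c0 LD3_c29)) :=
  Lgr Lrot48 (Lpr_ff (f126765 IH) (Lpn (LP (LK LD1_c12 LD2_c0 LD3_c29))))
theorem f62552 : Led Lsl_dt (LP (LK LD1_c6 LD2_c9 LD3_c34)) = (LP (LK LD1_c12 LD2_c0 LD3_c9)) :=
  Lre_d IH (LK LD1_c6 LD2_c9 LD3_c34) (LK LD1_c12 LD2_c0 LD3_c9) Lrfl Lrfl
theorem f126779 : Led Lsl_df (LP (LK LD1_c6 LD2_c32 LD3_c61)) = (LP (LK LD1_c12 LD2_c0 LD3_c29)) :=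
  Lgr Lrot78 (Lpe (f126743 IH) (Lpr_dt (f62552 IH) (Lpr_ft (f126772 IH) (Lpn (LP (LK LD1_c12 LD2_c0 LD3_c29))))))
theorem f126758 : Led Lsl_ct (LP (LK LD1_c6 LD2_c32 LD3_c61)) = (LP (LK LD1_c3 LD2_c14 LD3_c46)) :=
  Lre_c IH (LK LD1_c6 LD2_c32 LD3_c61) (LK LD1_c3 LD2_c14 LD3_c46) Lrfl Lrfl
theorem f24361 : Led Lsl_dt (LP (LK LD1_c3 LD2_c14 LD3_c46)) = (LP (LK LD1_c1 LD2_c33 LD3_c56)) :=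
  Lre_d IH (LK LD1_c3 LD2_c14 LD3_c46) (LK LD1_c1 LD2_c33 LD3_c56) Lrfl Lrfl
theorem f126738 : Led Lsl_ct (LP (LK LD1_c6 LD2_c9 LD3_c44)) = (LP (LK LD1_c12 LD2_c0 LD3_c29)) :=
  Lre_c IH (LK LD1_c6 LD2_c9 LD3_c44) (LK LD1_c12 LD2_c0 LD3_c29) Lrfl Lrfl
theorem f62400 : Led Lsl_dt (LP (LK LD1_c3 LD2_c1 LD3_c20)) = (LP (LK LD1_c6 LD2_c9 LD3_c44)) :=
  Lre_d IH (LK LD1_c3 LD2_c1 LD3_c20) (LK LD1_c6 LD2_c9 LD3_c44) Lrfl Lrfl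
theorem f126783 : Led Lsl_ct (LP (LK LD1_c1 LD2_c33 LD3_c56)) = (LP (LK LD1_c1 LD2_c33 LD3_c56)) :=
  Lgr Lrot176 (Lpe (f24361 IH) (Lpe (f126758 IH) (Lpr_df (f126779 IH) (Lpe (f126738 IH) (Lpe (f62400 IH) (Lpe (f62360 IH) (Lpe (f62383 IH) (Lpr_cf (f126732 IH) (Lpe (f62345 IH) (Lpe (f62379 IH) (Lpe (f62424 IH) (Lpe (f126739 IH) (Lpe (f126741 IH) (Lpe (f126740 IH) (Lpe (f24362 IH) (Lpn (LP (LK LD1_c1 LD2_c33 LD3_c56))))))))))))))))))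
theorem f121008 : Led Lsl_gt (LP (LK LD1_c0 LD2_c50 LD3_c57)) = (LP (LK LD1_c0 LD2_c22 LD3_c61)) :=
  Lre_g IH (LK LD1_c0 LD2_c50 LD3_c57) (LK LD1_c0 LD2_c22 LD3_c61) Lrfl Lrfl
theorem f124263 : Led Lsl_ct (LP (LK LD1_c0 LD2_c50 LD3_c57)) = (LP (LK LD1_c1 LD2_c48 LD3_c24)) :=
  Lre_c IH (LK LD1_c0 LD2_c50 LD3_c57) (LK LD1_c1 LD2_c48 LD3_c24) Lrfl Lrfl
theorem f21074 : Led Lsl_dt (LP (LK LD1_c0 LD2_c45 LD3_c59)) = (LP (LK LD1_c0 LD2_c20 LD3_c34)) :=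
  Lre_d IH (LK LD1_c0 LD2_c45 LD3_c59) (LK LD1_c0 LD2_c20 LD3_c34) Lrfl Lrfl
theorem f12724 : Led Lsl_bt (LP (LK LD1_c0 LD2_c4 LD3_c21)) = (LP (LK LD1_c0 LD2_c9 LD3_c15)) :=
  Lre_b IH (LK LD1_c0 LD2_c4 LD3_c21) (LK LD1_c0 LD2_c9 LD3_c15) Lrfl Lrfl
theorem f12720 : Led Lsl_ct (LP (LK LD1_c0 LD2_c9 LD3_c17)) = (LP (LK LD1_c0 LD2_c4 LD3_c21)) :=
  Lre_c IH (LK LD1_c0 LD2_c9 LD3_c17) (LK LD1_c0 LD2_c4 LD3_c21) Lrfl Lrfl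
theorem f12743 : Led Lsl_bt (LP (LK LD1_c0 LD2_c20 LD3_c34)) = (LP (LK LD1_c0 LD2_c9 LD3_c17)) :=
  Lre_b IH (LK LD1_c0 LD2_c20 LD3_c34) (LK LD1_c0 LD2_c9 LD3_c17) Lrfl Lrfl
theorem f21027 : Led Lsl_bt (LP (LK LD1_c0 LD2_c17 LD3_c58)) = (LP (LK LD1_c0 LD2_c39 LD3_c61)) :=
  Lre_b IH (LK LD1_c0 LD2_c17 LD3_c58) (LK LD1_c0 LD2_c39 LD3_c61) Lrfl Lrfl
theorem f21028 : Led Lsl_cf (LP (LK LD1_c0 LD2_c20 LD3_c34)) = (LP (LK LD1_c0 LD2_c39 LD3_c61)) :=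
  Lgr Lrot97 (Lpr_bt (f12743 IH) (Lpr_ct (f12720 IH) (Lpr_bt (f12724 IH) (Lpr_ct (K2.f21019 IH) (Lpr_bt (f21027 IH) (Lpn (LP (LK LD1_c0 LD2_c39 LD3_c61))))))))
theorem f21087 : Led Lsl_dt (LP (LK LD1_c1 LD2_c26 LD3_c29)) = (LP (LK LD1_c0 LD2_c39 LD3_c61)) :=
  Lre_d IH (LK LD1_c1 LD2_c26 LD3_c29) (LK LD1_c0 LD2_c39 LD3_c61) Lrfl Lrfl
theorem f86747 : Led Lsl_dt (LP (LK LD1_c1 LD2_c48 LD3_c35)) = (LP (LK LD1_c3 LD2_c43 LD3_c2)) :=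
  Lre_d IH (LK LD1_c1 LD2_c48 LD3_c35) (LK LD1_c3 LD2_c43 LD3_c2) Lrfl Lrfl
theorem f86748 : Led Lsl_ct (LP (LK LD1_c7 LD2_c26 LD3_c47)) = (LP (LK LD1_c3 LD2_c43 LD3_c2)) :=
  Lre_c IH (LK LD1_c7 LD2_c26 LD3_c47) (LK LD1_c3 LD2_c43 LD3_c2) Lrfl Lrfl
theorem f68106 : Led Lsl_dt (LP (LK LD1_c1 LD2_c32 LD3_c12)) = (LP (LK LD1_c0 LD2_c42 LD3_c39)) :=
  Lre_d IH (LK LD1_c1 LD2_c32 LD3_c12) (LK LD1_c0 LD2_c42 LD3_c39) Lrfl Lrfl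
theorem f67422 : Led Lsl_gt (LP (LK LD1_c1 LD2_c32 LD3_c12)) = (LP (LK LD1_c3 LD2_c11 LD3_c40)) :=
  Lre_g IH (LK LD1_c1 LD2_c32 LD3_c12) (LK LD1_c3 LD2_c11 LD3_c40) Lrfl Lrfl
theorem f83638 : Led Lsl_ct (LP (LK LD1_c3 LD2_c11 LD3_c40)) = (LP (LK LD1_c6 LD2_c27 LD3_c31)) :=
  Lre_c IH (LK LD1_c3 LD2_c11 LD3_c40) (LK LD1_c6 LD2_c27 LD3_c31) Lrfl Lrfl
theorem f86749 : Led Lsl_gf (LP (LK LD1_c7 LD2_c26 LD3_c47)) = (LP (LK LD1_c6 LD2_c27 LD3_c31)) :=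
  Lgr Lrot104 (Lpr_ct (f86748 IH) (Lpe (f86747 IH) (Lpe (K4.f86729 IH) (Lpr_gf (K3.f86739 IH) (Lpe (K2.f83506 IH) (Lpe (K2.f68107 IH) (Lpe (f68106 IH) (Lpr_gt (f67422 IH) (Lpr_ct (f83638 IH) (Lpn (LP (LK LD1_c6 LD2_c27 LD3_c31))))))))))))
theorem f86756 : Led Lsl_ct (LP (LK LD1_c3 LD2_c43 LD3_c2)) = (LP (LK LD1_c7 LD2_c26 LD3_c47)) :=
  Lre_c IH (LK LD1_c3 LD2_c43 LD3_c2) (LK LD1_c7 LD2_c26 LD3_c47) Lrfl Lrfl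
theorem f86757 : Led Lsl_bt (LP (LK LD1_c3 LD2_c43 LD3_c2)) = (LP (LK LD1_c1 LD2_c48 LD3_c38)) :=
  Lre_b IH (LK LD1_c3 LD2_c43 LD3_c2) (LK LD1_c1 LD2_c48 LD3_c38) Lrfl Lrfl
theorem f24687 : Led Lsl_bt (LP (LK LD1_c0 LD2_c40 LD3_c0)) = (LP (LK LD1_c1 LD2_c26 LD3_c29)) :=
  Lre_b IH (LK LD1_c0 LD2_c40 LD3_c0) (LK LD1_c1 LD2_c26 LD3_c29) Lrfl Lrfl
theorem f86761 : Led Lsl_gt (LP (LK LD1_c1 LD2_c48 LD3_c38)) = (LP (LK LD1_c1 LD2_c26 LD3_c29)) :=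
  Lgr Lrot164 (Lpe (f86757 IH) (Lpr_ct (f86756 IH) (Lpr_gf (f86749 IH) (Lpe (f83638 IH) (Lpe (f67422 IH) (Lpe (K2.f67421 IH) (Lpr_ct (K2.f25819 IH) (Lpe (K2.f84105 IH) (Lpe (K2.f21033 IH) (Lpr_bt (f24687 IH) (Lpn (LP (LK LD1_c1 LD2_c26 LD3_c29)))))))))))))
theorem f124264 : Led Lsl_gt (LP (LK LD1_c1 LD2_c48 LD3_c24)) = (LP (LK LD1_c0 LD2_c51 LD3_c5)) :=
  Lgr Lrot94 (Lpe (f124263 IH) (Lpr_gt (f121008 IH) (Lpr_dt (K4.f120891 IH) (Lpr_gt (f124254 IH) (Lpr_dt (f21074 IH) (Lpr_cf (f21028 IH) (Lpe (f21087 IH) (Lpe (f86761 IH) (Lpe (K3.f86737 IH) (Lpn (LP (LK LD1_c0 LD2_c51 LD3_c5))))))))))))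
theorem f126842 : Led Lsl_bt (LP (LK LD1_c1 LD2_c33 LD3_c56)) = (LP (LK LD1_c1 LD2_c48 LD3_c24)) :=
  Lgr Lrot130 (Lpr_ct (f126783 IH) (Lpr_gf (f126840 IH) (Lpe (f126645 IH) (Lpr_bt (f126697 IH) (Lpe (f125298 IH) (Lpe (f114168 IH) (Lpr_ct (K4.f114170 IH) (Lpr_gf (K4.f105940 IH) (Lpe (f86734 IH) (Lpe (f124264 IH) (Lpn (LP (LK LD1_c1 LD2_c48 LD3_c24)))))))))))))
theorem f126850 : Led Lsl_bf (LP (LK LD1_c1 LD2_c33 LD3_c56)) = (LP (LK LD1_c1 LD2_c48 LD3_c24)) :=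
  Lgr Lrot24 (Lpr_bt (f126842 IH) (Lpn (LP (LK LD1_c1 LD2_c48 LD3_c24))))
theorem f124266 : Led Lsl_ct (LP (LK LD1_c1 LD2_c48 LD3_c24)) = (LP (LK LD1_c0 LD2_c50 LD3_c57)) :=
  Lre_c IH (LK LD1_c1 LD2_c48 LD3_c24) (LK LD1_c0 LD2_c50 LD3_c57) Lrfl Lrfl
theorem f126852 : Led Lsl_bf (LP (LK LD1_c0 LD2_c50 LD3_c57)) = (LP (LK LD1_c0 LD2_c50 LD3_c57)) :=
  Lgr Lrot90 (Lpr_ct (f124263 IH) (Lpe (f126850 IH) (Lpr_ct (f126783 IH) (Lpr_bt (f126842 IH) (Lpr_ct (f124266 IH) (Lpn (LP (LK LD1_c0 LD2_c50 LD3_c57))))))))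
theorem f126893 : Led Lsl_gf (LP (LK LD1_c0 LD2_c50 LD3_c57)) = (LP (LK LD1_c0 LD2_c45 LD3_c54)) :=
  Lgr Lrot124 (Lpr_bf (f126852 IH) (Lpr_ct (f124263 IH) (Lpr_gt (f124264 IH) (Lpe (K3.f86723 IH) (Lpr_bt (K3.f86722 IH) (Lpr_gt (K3.f86717 IH) (Lpr_ct (K3.f19781 IH) (Lpe (K3.f105928 IH) (Lpe (K3.f17704 IH) (Lpe (K0.f17701 IH) (Lpn (LP (LK LD1_c0 LD2_c45 LD3_c54)))))))))))))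
theorem f126897 : Led Lsl_gt (LP (LK LD1_c1 LD2_c32 LD3_c25)) = (LP (LK LD1_c3 LD2_c6 LD3_c50)) :=
  Lgr Lrot149 (Lpr_cf (K3.f24338 IH) (Lpe (f24360 IH) (Lpr_bf (f126850 IH) (Lpr_ct (f124266 IH) (Lpr_gf (f126893 IH) (Lpe (K3.f17703 IH) (Lpr_bt (K0.f17741 IH) (Lpe (K3.f18006 IH) (Lpe (f18015 IH) (Lpr_ct (K2.f90196 IH) (Lpn (LP (LK LD1_c3 LD2_c6 LD3_c50)))))))))))))
theorem f126905 : Led Lsl_ef (LP (LK LD1_c1 LD2_c26 LD3_c32)) = (LP (LK LD1_c0 LD2_c43 LD3_c29)) :=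
  Lgr Lrot167 (Lpr_gt (K3.f66644 IH) (Lpr_dt (K2.f25033 IH) (Lpr_gt (K2.f62315 IH) (Lpr_df (K3.f104152 IH) (Lpr_et (K3.f24373 IH) (Lpr_gt (f126897 IH) (Lpe (K3.f83898 IH) (Lpr_dt (K3.f83723 IH) (Lpe (K4.f104289 IH) (Lpe (K4.f24314 IH) (Lpn (LP (LK LD1_c0 LD2_c43 LD3_c29)))))))))))))
theorem f25034 : Led Lsl_et (LP (LK LD1_c1 LD2_c41 LD3_c0)) = (LP (LK LD1_c0 LD2_c47 LD3_c1)) :=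
  Lre_e IH (LK LD1_c1 LD2_c41 LD3_c0) (LK LD1_c0 LD2_c47 LD3_c1) Lrfl Lrfl
theorem f25035 : Led Lsl_dt (LP (LK LD1_c1 LD2_c41 LD3_c0)) = (LP (LK LD1_c3 LD2_c28 LD3_c37)) :=
  Lre_d IH (LK LD1_c1 LD2_c41 LD3_c0) (LK LD1_c3 LD2_c28 LD3_c37) Lrfl Lrfl
theorem f126917 : Led Lsl_gt (LP (LK LD1_c3 LD2_c28 LD3_c37)) = (LP (LK LD1_c3 LD2_c7 LD3_c2)) :=
  Lgr Lrot112 (Lpe (f25035 IH) (Lpr_et (f25034 IH) (Lpe (K3.f66644 IH) (Lpr_ef (f126905 IH) (Lpr_dt (K4.f24314 IH) (Lpr_gf (K4.f104289 IH) (Lpe (K3.f83723 IH) (Lpe (K4.f90366 IH) (Lpe (K2.f25042 IH) (Lpr_dt (f25043 IH) (Lpn (LP (LK LD1_c3 LD2_c7 LD3_c2)))))))))))))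
theorem f57774 : Led Lsl_gt (LP (LK LD1_c1 LD2_c35 LD3_c57)) = (LP (LK LD1_c3 LD2_c18 LD3_c53)) :=
  Lre_g IH (LK LD1_c1 LD2_c35 LD3_c57) (LK LD1_c3 LD2_c18 LD3_c53) Lrfl Lrfl
theorem f25420 : Led Lsl_ct (LP (LK LD1_c0 LD2_c44 LD3_c29)) = (LP (LK LD1_c1 LD2_c35 LD3_c57)) :=
  Lre_c IH (LK LD1_c0 LD2_c44 LD3_c29) (LK LD1_c1 LD2_c35 LD3_c57) Lrfl Lrfl
theorem f25415 : Led Lsl_bt (LP (LK LD1_c0 LD2_c44 LD3_c29)) = (LP (LK LD1_c0 LD2_c19 LD3_c61)) :=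
  Lre_b IH (LK LD1_c0 LD2_c44 LD3_c29) (LK LD1_c0 LD2_c19 LD3_c61) Lrfl Lrfl
theorem f10003 : Led Lsl_bt (LP (LK LD1_c1 LD2_c37 LD3_c28)) = (LP (LK LD1_c0 LD2_c45 LD3_c6)) :=
  Lre_b IH (LK LD1_c1 LD2_c37 LD3_c28) (LK LD1_c0 LD2_c45 LD3_c6) Lrfl Lrfl
theorem f25637 : Led Lsl_ct (LP (LK LD1_c1 LD2_c37 LD3_c28)) = (LP (LK LD1_c3 LD2_c22 LD3_c23)) :=
  Lre_c IH (LK LD1_c1 LD2_c37 LD3_c28) (LK LD1_c3 LD2_c22 LD3_c23) Lrfl Lrfl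
theorem f126919 : Led Lsl_gf (LP (LK LD1_c3 LD2_c22 LD3_c23)) = (LP (LK LD1_c6 LD2_c19 LD3_c15)) :=
  Lgr Lrot129 (Lpe (f25637 IH) (Lpr_bt (f10003 IH) (Lpr_gt (K2.f7442 IH) (Lpe (f25415 IH) (Lpr_ct (f25420 IH) (Lpr_gt (f57774 IH) (Lpe (K3.f88979 IH) (Lpr_bt (K3.f89003 IH) (Lpr_gt (f126917 IH) (Lpr_ct (f62615 IH) (Lpn (LP (LK LD1_c6 LD2_c19 LD3_c15)))))))))))))
theorem f84021 : Led Lsl_bt (LP (LK LD1_c0 LD2_c18 LD3_c42)) = (LP (LK LD1_c0 LD2_c41 LD3_c42)) :=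
  Lre_b IH (LK LD1_c0 LD2_c18 LD3_c42) (LK LD1_c0 LD2_c41 LD3_c42) Lrfl Lrfl
theorem f113403 : Led Lsl_bt (LP (LK LD1_c3 LD2_c7 LD3_c2)) = (LP (LK LD1_c1 LD2_c29 LD3_c48)) :=
  Lre_b IH (LK LD1_c3 LD2_c7 LD3_c2) (LK LD1_c1 LD2_c29 LD3_c48) Lrfl Lrfl
theorem f126924 : Led Lsl_gt (LP (LK LD1_c0 LD2_c41 LD3_c42)) = (LP (LK LD1_c1 LD2_c29 LD3_c48)) :=
  Lgr Lrot164 (Lpe (f84021 IH) (Lpr_ct (K2.f67082 IH) (Lpe (K2.f84011 IH) (Lpe (K2.f7436 IH) (Lpe (K2.f7442 IH) (Lpe (f10003 IH) (Lpr_ct (f25637 IH) (Lpr_gf (f126919 IH) (Lpe (f62615 IH) (Lpr_bt (f113403 IH) (Lpn (LP (LK LD1_c1 LD2_c29 LD3_c48)))))))))))))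
theorem f84022 : Led Lsl_gt (LP (LK LD1_c1 LD2_c30 LD3_c17)) = (LP (LK LD1_c0 LD2_c41 LD3_c42)) :=
  Lre_g IH (LK LD1_c1 LD2_c30 LD3_c17) (LK LD1_c0 LD2_c41 LD3_c42) Lrfl Lrfl
theorem f77873 : Led Lsl_at (LP (LK LD1_c1 LD2_c5 LD3_c32)) = (LP (LK LD1_c1 LD2_c26 LD3_c52)) :=
  Lgr Lrot107 (Lpr_cf (K2.f77845 IH) (Lpe (K3.f61949 IH) (Lpe (K1.f25016 IH) (Lpn (LP (LK LD1_c1 LD2_c26 LD3_c52))))))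
theorem f113374 : Led Lsl_gt (LP (LK LD1_c1 LD2_c28 LD3_c60)) = (LP (LK LD1_c0 LD2_c41 LD3_c28)) :=
  Lgr Lrot5 (Lpr_ft (K4.f113370 IH) (Lpr_at (f77873 IH) (Lpe (K1.f24974 IH) (Lpn (LP (LK LD1_c0 LD2_c41 LD3_c28))))))
theorem f113100 : Led Lsl_ft (LP (LK LD1_c0 LD2_c41 LD3_c32)) = (LP (LK LD1_c1 LD2_c6 LD3_c40)) :=
  Lgr Lrot4 (Lpe (K4.f57587 IH) (Lpr_ff (K4.f113094 IH) (Lpe (K3.f61642 IH) (Lpn (LP (LK LD1_c1 LD2_c6 LD3_c40))))))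
theorem f113376 : Led Lsl_at (LP (LK LD1_c1 LD2_c6 LD3_c40)) = (LP (LK LD1_c0 LD2_c41 LD3_c28)) :=
  Lgr Lrot26 (Lpe (f113100 IH) (Lpe (K4.f113337 IH) (Lpr_gt (f113374 IH) (Lpn (LP (LK LD1_c0 LD2_c41 LD3_c28))))))
theorem f113380 : Led Lsl_af (LP (LK LD1_c2 LD2_c19 LD3_c5)) = (LP (LK LD1_c1 LD2_c29 LD3_c44)) :=
  Lgr Lrot50 (Lpr_et (f110009 IH) (Lpr_at (f113376 IH) (Lpr_et (f113379 IH) (Lpn (LP (LK LD1_c1 LD2_c29 LD3_c44))))))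
theorem f61656 : Led Lsl_ct (LP (LK LD1_c2 LD2_c19 LD3_c5)) = (LP (LK LD1_c1 LD2_c6 LD3_c41)) :=
  Lre_c IH (LK LD1_c2 LD2_c19 LD3_c5) (LK LD1_c1 LD2_c6 LD3_c41) Lrfl Lrfl
theorem f113384 : Led Lsl_at (LP (LK LD1_c1 LD2_c6 LD3_c41)) = (LP (LK LD1_c0 LD2_c41 LD3_c30)) :=
  Lgr Lrot107 (Lpe (f61656 IH) (Lpr_af (f113380 IH) (Lpe (f62608 IH) (Lpn (LP (LK LD1_c0 LD2_c41 LD3_c30))))))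
theorem f113389 : Led Lsl_dt (LP (LK LD1_c2 LD2_c19 LD3_c6)) = (LP (LK LD1_c1 LD2_c6 LD3_c41)) :=
  Lre_d IH (LK LD1_c2 LD2_c19 LD3_c6) (LK LD1_c1 LD2_c6 LD3_c41) Lrfl Lrfl
theorem f113397 : Led Lsl_dt (LP (LK LD1_c0 LD2_c41 LD3_c30)) = (LP (LK LD1_c1 LD2_c29 LD3_c48)) :=
  Lre_d IH (LK LD1_c0 LD2_c41 LD3_c30) (LK LD1_c1 LD2_c29 LD3_c48) Lrfl Lrfl
theorem f113398 : Led Lsl_af (LP (LK LD1_c2 LD2_c19 LD3_c6)) = (LP (LK LD1_c1 LD2_c29 LD3_c48)) :=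
  Lgr Lrot117 (Lpr_dt (f113389 IH) (Lpr_at (f113384 IH) (Lpr_dt (f113397 IH) (Lpn (LP (LK LD1_c1 LD2_c29 LD3_c48))))))
theorem f113400 : Led Lsl_at (LP (LK LD1_c2 LD2_c19 LD3_c6)) = (LP (LK LD1_c1 LD2_c29 LD3_c48)) :=
  Lgr Lrot100 (Lpr_af (f113398 IH) (Lpn (LP (LK LD1_c1 LD2_c29 LD3_c48))))
theorem f126931 : Led Lsl_ft (LP (LK LD1_c1 LD2_c30 LD3_c17)) = (LP (LK LD1_c2 LD2_c19 LD3_c6)) :=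
  Lgr Lrot2 (Lpr_gt (f84022 IH) (Lpr_gt (f126924 IH) (Lpe (f113400 IH) (Lpn (LP (LK LD1_c2 LD2_c19 LD3_c6))))))
theorem f126943 : Led Lsl_ff (LP (LK LD1_c1 LD2_c30 LD3_c17)) = (LP (LK LD1_c2 LD2_c19 LD3_c6)) :=
  Lgr Lrot3 (Lpr_ft (f126931 IH) (Lpn (LP (LK LD1_c2 LD2_c19 LD3_c6))))
theorem f113407 : Led Lsl_dt (LP (LK LD1_c1 LD2_c6 LD3_c41)) = (LP (LK LD1_c2 LD2_c19 LD3_c6)) :=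
  Lre_d IH (LK LD1_c1 LD2_c6 LD3_c41) (LK LD1_c2 LD2_c19 LD3_c6) Lrfl Lrfl
theorem f125398 : Led Lsl_ft (LP (LK LD1_c1 LD2_c6 LD3_c48)) = (LP (LK LD1_c1 LD2_c6 LD3_c41)) :=
  Lgr Lrot2 (Lpr_gt (K4.f25757 IH) (Lpr_gt (f125396 IH) (Lpe (f113384 IH) (Lpn (LP (LK LD1_c1 LD2_c6 LD3_c41))))))
theorem f126948 : Led Lsl_dt (LP (LK LD1_c1 LD2_c30 LD3_c17)) = (LP (LK LD1_c1 LD2_c6 LD3_c48)) :=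
  Lgr Lrot60 (Lpr_ff (f126943 IH) (Lpe (f113407 IH) (Lpe (f125398 IH) (Lpn (LP (LK LD1_c1 LD2_c6 LD3_c48))))))
theorem f126942 : Led Lsl_et (LP (LK LD1_c3 LD2_c8 LD3_c10)) = (LP (LK LD1_c1 LD2_c30 LD3_c17)) :=
  Lre_e IH (LK LD1_c3 LD2_c8 LD3_c10) (LK LD1_c1 LD2_c30 LD3_c17) Lrfl Lrfl
theorem f120036 : Led Lsl_et (LP (LK LD1_c1 LD2_c6 LD3_c48)) = (LP (LK LD1_c0 LD2_c30 LD3_c44)) :=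
  Lgr Lrot74 (Lpe (K4.f25758 IH) (Lpr_ef (K4.f120032 IH) (Lpe (K3.f23553 IH) (Lpn (LP (LK LD1_c0 LD2_c30 LD3_c44))))))
theorem f124540 : Led Lsl_et (LP (LK LD1_c1 LD2_c6 LD3_c45)) = (LP (LK LD1_c2 LD2_c19 LD3_c15)) :=
  Lre_e IH (LK LD1_c1 LD2_c6 LD3_c45) (LK LD1_c2 LD2_c19 LD3_c15) Lrfl Lrfl
theorem f126957 : Led Lsl_df (LP (LK LD1_c3 LD2_c8 LD3_c10)) = (LP (LK LD1_c2 LD2_c19 LD3_c15)) :=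
  Lgr Lrot70 (Lpr_et (f126942 IH) (Lpr_dt (f126948 IH) (Lpr_et (f120036 IH) (Lpe (K2.f82386 IH) (Lpr_et (f124540 IH) (Lpn (LP (LK LD1_c2 LD2_c19 LD3_c15))))))))
theorem f126967 : Led Lsl_dt (LP (LK LD1_c3 LD2_c8 LD3_c10)) = (LP (LK LD1_c2 LD2_c19 LD3_c15)) :=
  Lgr Lrot42 (Lpr_df (f126957 IH) (Lpn (LP (LK LD1_c2 LD2_c19 LD3_c15))))
theorem f126981 : Led Lsl_bt (LP (LK LD1_c6 LD2_c20 LD3_c60)) = (LP (LK LD1_c3 LD2_c8 LD3_c10)) :=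
  Lre_b IH (LK LD1_c6 LD2_c20 LD3_c60) (LK LD1_c3 LD2_c8 LD3_c10) Lrfl Lrfl
theorem f126982 : Led Lsl_bt (LP (LK LD1_c2 LD2_c19 LD3_c15)) = (LP (LK LD1_c4 LD2_c43 LD3_c7)) :=
  Lre_b IH (LK LD1_c2 LD2_c19 LD3_c15) (LK LD1_c4 LD2_c43 LD3_c7) Lrfl Lrfl
theorem f126983 : Led Lsl_df (LP (LK LD1_c6 LD2_c20 LD3_c60)) = (LP (LK LD1_c4 LD2_c43 LD3_c7)) :=
  Lgr Lrot12 (Lpr_bt (f126981 IH) (Lpr_dt (f126967 IH) (Lpr_bt (f126982 IH) (Lpn (LP (LK LD1_c4 LD2_c43 LD3_c7))))))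
theorem f126990 : Led Lsl_et (LP (LK LD1_c6 LD2_c20 LD3_c60)) = (LP (LK LD1_c3 LD2_c8 LD3_c9)) :=
  Lre_e IH (LK LD1_c6 LD2_c20 LD3_c60) (LK LD1_c3 LD2_c8 LD3_c9) Lrfl Lrfl
theorem f124524 : Led Lsl_et (LP (LK LD1_c2 LD2_c19 LD3_c13)) = (LP (LK LD1_c4 LD2_c43 LD3_c7)) :=
  Lre_e IH (LK LD1_c2 LD2_c19 LD3_c13) (LK LD1_c4 LD2_c43 LD3_c7) Lrfl Lrfl
theorem f120771 : Led Lsl_df (LP (LK LD1_c2 LD2_c19 LD3_c13)) = (LP (LK LD1_c1 LD2_c7 LD3_c4)) :=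
  Lgr Lrot43 (Lpr_ct (K4.f120761 IH) (Lpr_dt (K3.f102967 IH) (Lpr_ct (K3.f103256 IH) (Lpr_dt (K3.f61901 IH) (Lpr_ct (K3.f61892 IH) (Lpe (K3.f91469 IH) (Lpe (K3.f107535 IH) (Lpr_dt (K3.f91476 IH) (Lpr_ct (K3.f107509 IH) (Lpr_dt (K3.f103003 IH) (Lpr_ct (K3.f103299 IH) (Lpe (K3.f103312 IH) (Lpr_ct (K3.f23550 IH) (Lpr_dt (K2.f23539 IH) (Lpr_ct (K2.f23474 IH) (Lpn (LP (LK LD1_c1 LD2_c7 LD3_c4))))))))))))))))))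
theorem f126991 : Led Lsl_dt (LP (LK LD1_c3 LD2_c8 LD3_c9)) = (LP (LK LD1_c2 LD2_c19 LD3_c23)) :=
  Lgr Lrot77 (Lpe (f126990 IH) (Lpr_df (f126983 IH) (Lpe (f124524 IH) (Lpr_df (f120771 IH) (Lpe (K4.f120038 IH) (Lpn (LP (LK LD1_c2 LD2_c19 LD3_c23))))))))
theorem f84041 : Led Lsl_ct (LP (LK LD1_c6 LD2_c20 LD3_c59)) = (LP (LK LD1_c3 LD2_c8 LD3_c9)) :=
  Lre_c IH (LK LD1_c6 LD2_c20 LD3_c59) (LK LD1_c3 LD2_c8 LD3_c9) Lrfl Lrfl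
theorem f84043 : Led Lsl_dt (LP (LK LD1_c12 LD2_c16 LD3_c1)) = (LP (LK LD1_c6 LD2_c20 LD3_c59)) :=
  Lre_d IH (LK LD1_c12 LD2_c16 LD3_c1) (LK LD1_c6 LD2_c20 LD3_c59) Lrfl Lrfl
theorem f120034 : Led Lsl_at (LP (LK LD1_c2 LD2_c19 LD3_c23)) = (LP (LK LD1_c2 LD2_c20 LD3_c24)) :=
  Lgr Lrot80 (Lpr_ef (K4.f120032 IH) (Lpe (K3.f107519 IH) (Lpe (K4.f23547 IH) (Lpn (LP (LK LD1_c2 LD2_c20 LD3_c24))))))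
theorem f107525 : Led Lsl_ff (LP (LK LD1_c0 LD2_c42 LD3_c51)) = (LP (LK LD1_c1 LD2_c7 LD3_c4)) :=
  Lgr Lrot30 (Lpr_at (K3.f91474 IH) (Lpr_ft (K3.f98877 IH) (Lpr_at (K3.f107519 IH) (Lpn (LP (LK LD1_c1 LD2_c7 LD3_c4))))))
theorem f113098 : Led Lsl_ft (LP (LK LD1_c0 LD2_c41 LD3_c31)) = (LP (LK LD1_c1 LD2_c6 LD3_c39)) :=
  Lgr Lrot75 (Lpe (K4.f57590 IH) (Lpr_ff (K4.f113094 IH) (Lpe (K3.f61638 IH) (Lpn (LP (LK LD1_c1 LD2_c6 LD3_c39))))))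
theorem f125283 : Led Lsl_ff (LP (LK LD1_c2 LD2_c19 LD3_c23)) = (LP (LK LD1_c2 LD2_c19 LD3_c4)) :=
  Lgr Lrot72 (Lpr_et (K4.f120038 IH) (Lpe (f107525 IH) (Lpr_et (f125271 IH) (Lpr_ft (f113098 IH) (Lpr_et (f61658 IH) (Lpn (LP (LK LD1_c2 LD2_c19 LD3_c4))))))))
theorem f125304 : Led Lsl_cf (LP (LK LD1_c9 LD2_c15 LD3_c47)) = (LP (LK LD1_c4 LD2_c43 LD3_c0)) :=
  Lgr Lrot11 (Lpr_ct (f125302 IH) (Lpn (LP (LK LD1_c4 LD2_c43 LD3_c0))))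
theorem f78452 : Led Lsl_dt (LP (LK LD1_c9 LD2_c15 LD3_c47)) = (LP (LK LD1_c17 LD2_c10 LD3_c11)) :=
  Lre_d IH (LK LD1_c9 LD2_c15 LD3_c47) (LK LD1_c17 LD2_c10 LD3_c11) Lrfl Lrfl
theorem f127000 : Led Lsl_cf (LP (LK LD1_c12 LD2_c16 LD3_c1)) = (LP (LK LD1_c17 LD2_c10 LD3_c11)) :=
  Lgr Lrot116 (Lpr_dt (f84043 IH) (Lpr_ct (f84041 IH) (Lpr_dt (f126991 IH) (Lpr_ct (K4.f120025 IH) (Lpe (f120034 IH) (Lpr_ff (f125283 IH) (Lpr_dt (f61653 IH) (Lpe (f125304 IH) (Lpr_dt (f78452 IH) (Lpn (LP (LK LD1_c17 LD2_c10 LD3_c11))))))))))))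
theorem f127011 : Led Lsl_ct (LP (LK LD1_c12 LD2_c16 LD3_c1)) = (LP (LK LD1_c17 LD2_c10 LD3_c11)) :=
  Lgr Lrot59 (Lpr_cf (f127000 IH) (Lpn (LP (LK LD1_c17 LD2_c10 LD3_c11))))
theorem f84038 : Led Lsl_dt (LP (LK LD1_c6 LD2_c20 LD3_c59)) = (LP (LK LD1_c12 LD2_c16 LD3_c1)) :=
  Lre_d IH (LK LD1_c6 LD2_c20 LD3_c59) (LK LD1_c12 LD2_c16 LD3_c1) Lrfl Lrfl
theorem f84024 : Led Lsl_ct (LP (LK LD1_c3 LD2_c8 LD3_c9)) = (LP (LK LD1_c6 LD2_c20 LD3_c59)) :=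
  Lre_c IH (LK LD1_c3 LD2_c8 LD3_c9) (LK LD1_c6 LD2_c20 LD3_c59) Lrfl Lrfl
theorem f84023 : Led Lsl_bt (LP (LK LD1_c3 LD2_c8 LD3_c9)) = (LP (LK LD1_c1 LD2_c30 LD3_c17)) :=
  Lre_b IH (LK LD1_c3 LD2_c8 LD3_c9) (LK LD1_c1 LD2_c30 LD3_c17) Lrfl Lrfl
theorem f126953 : Led Lsl_df (LP (LK LD1_c3 LD2_c8 LD3_c9)) = (LP (LK LD1_c2 LD2_c19 LD3_c23)) :=
  Lgr Lrot12 (Lpr_bt (f84023 IH) (Lpr_dt (f126948 IH) (Lpr_bt (K4.f120027 IH) (Lpn (LP (LK LD1_c2 LD2_c19 LD3_c23))))))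
theorem f113402 : Led Lsl_bt (LP (LK LD1_c2 LD2_c19 LD3_c6)) = (LP (LK LD1_c4 LD2_c43 LD3_c0)) :=
  Lre_b IH (LK LD1_c2 LD2_c19 LD3_c6) (LK LD1_c4 LD2_c43 LD3_c0) Lrfl Lrfl
theorem f126940 : Led Lsl_ff (LP (LK LD1_c3 LD2_c8 LD3_c9)) = (LP (LK LD1_c4 LD2_c43 LD3_c0)) :=
  Lgr Lrot25 (Lpr_bt (f84023 IH) (Lpr_ft (f126931 IH) (Lpr_bt (f113402 IH) (Lpn (LP (LK LD1_c4 LD2_c43 LD3_c0))))))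
theorem f126998 : Led Lsl_ff (LP (LK LD1_c2 LD2_c19 LD3_c4)) = (LP (LK LD1_c2 LD2_c19 LD3_c23)) :=
  Lgr Lrot19 (Lpr_dt (f61653 IH) (Lpe (f126940 IH) (Lpr_dt (f126991 IH) (Lpn (LP (LK LD1_c2 LD2_c19 LD3_c23))))))
theorem f61651 : Led Lsl_cf (LP (LK LD1_c4 LD2_c40 LD3_c9)) = (LP (LK LD1_c2 LD2_c19 LD3_c4)) :=
  Lgr Lrot11 (Lpr_ct (f61647 IH) (Lpn (LP (LK LD1_c2 LD2_c19 LD3_c4))))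
theorem f127017 : Led Lsl_at (LP (LK LD1_c2 LD2_c19 LD3_c4)) = (LP (LK LD1_c4 LD2_c40 LD3_c9)) :=
  Lgr Lrot33 (Lpr_ff (f126998 IH) (Lpe (f126953 IH) (Lpr_ct (f84024 IH) (Lpr_dt (f84038 IH) (Lpr_ct (f127011 IH) (Lpr_dt (f79586 IH) (Lpr_ct (f125302 IH) (Lpr_dt (f61654 IH) (Lpe (f61651 IH) (Lpn (LP (LK LD1_c4 LD2_c40 LD3_c9))))))))))))
theorem f127021 : Led Lsl_af (LP (LK LD1_c1 LD2_c6 LD3_c39)) = (LP (LK LD1_c2 LD2_c17 LD3_c7)) :=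
  Lgr Lrot50 (Lpr_et (f61658 IH) (Lpr_at (f127017 IH) (Lpr_et (f61657 IH) (Lpn (LP (LK LD1_c2 LD2_c17 LD3_c7))))))
theorem f110463 : Led Lsl_at (LP (LK LD1_c1 LD2_c29 LD3_c49)) = (LP (LK LD1_c0 LD2_c41 LD3_c31)) :=
  Lre_a IH (LK LD1_c1 LD2_c29 LD3_c49) (LK LD1_c0 LD2_c41 LD3_c31) Lrfl Lrfl
theorem f110464 : Led Lsl_ft (LP (LK LD1_c2 LD2_c17 LD3_c7)) = (LP (LK LD1_c1 LD2_c29 LD3_c49)) :=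
  Lgr Lrot2 (Lpe (K4.f110357 IH) (Lpr_gt (f110437 IH) (Lpe (f110463 IH) (Lpn (LP (LK LD1_c1 LD2_c29 LD3_c49))))))
theorem f110468 : Led Lsl_ff (LP (LK LD1_c2 LD2_c17 LD3_c7)) = (LP (LK LD1_c1 LD2_c29 LD3_c49)) :=
  Lgr Lrot3 (Lpr_ft (f110464 IH) (Lpn (LP (LK LD1_c1 LD2_c29 LD3_c49))))
theorem f127026 : Led Lsl_gf (LP (LK LD1_c1 LD2_c28 LD3_c61)) = (LP (LK LD1_c1 LD2_c29 LD3_c49)) :=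
  Lgr Lrot47 (Lpr_gt (K4.f113335 IH) (Lpr_af (f127021 IH) (Lpr_ff (f110468 IH) (Lpn (LP (LK LD1_c1 LD2_c29 LD3_c49))))))
theorem f102183 : Led Lsl_ef (LP (LK LD1_c2 LD2_c21 LD3_c37)) = (LP (LK LD1_c1 LD2_c28 LD3_c59)) :=
  Lgr Lrot28 (Lpr_ct (K4.f86318 IH) (Lpr_et (K4.f102179 IH) (Lpr_ct (K3.f58752 IH) (Lpn (LP (LK LD1_c1 LD2_c28 LD3_c59))))))
theorem f127034 : Led Lsl_et (LP (LK LD1_c1 LD2_c32 LD3_c30)) = (LP (LK LD1_c1 LD2_c29 LD3_c49)) :=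
  Lgr Lrot121 (Lpr_dt (K3.f91476 IH) (Lpr_gf (K4.f110354 IH) (Lpe (K4.f58753 IH) (Lpe (f102183 IH) (Lpr_gf (f125312 IH) (Lpr_ef (K4.f120032 IH) (Lpe (f120771 IH) (Lpr_gf (K4.f120776 IH) (Lpe (K4.f58192 IH) (Lpr_gf (f127026 IH) (Lpn (LP (LK LD1_c1 LD2_c29 LD3_c49)))))))))))))
theorem f91481 : Led Lsl_et (LP (LK LD1_c6 LD2_c19 LD3_c56)) = (LP (LK LD1_c3 LD2_c7 LD3_c31)) :=
  Lre_e IH (LK LD1_c6 LD2_c19 LD3_c56) (LK LD1_c3 LD2_c7 LD3_c31) Lrfl Lrfl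
theorem f127032 : Led Lsl_df (LP (LK LD1_c2 LD2_c20 LD3_c25)) = (LP (LK LD1_c1 LD2_c29 LD3_c49)) :=
  Lgr Lrot155 (Lpr_gt (K3.f98873 IH) (Lpr_ct (K3.f23500 IH) (Lpe (K3.f103113 IH) (Lpr_ct (K1.f25401 IH) (Lpr_dt (K1.f58742 IH) (Lpr_cf (K1.f58743 IH) (Lpe (K3.f58187 IH) (Lpe (K3.f58194 IH) (Lpr_gf (f127026 IH) (Lpn (LP (LK LD1_c1 LD2_c29 LD3_c49))))))))))))
theorem f103249 : Led Lsl_et (LP (LK LD1_c2 LD2_c20 LD3_c25)) = (LP (LK LD1_c4 LD2_c44 LD3_c37)) :=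
  Lre_e IH (LK LD1_c2 LD2_c20 LD3_c25) (LK LD1_c4 LD2_c44 LD3_c37) Lrfl Lrfl
theorem f127040 : Led Lsl_df (LP (LK LD1_c6 LD2_c19 LD3_c56)) = (LP (LK LD1_c4 LD2_c44 LD3_c37)) :=
  Lgr Lrot70 (Lpr_et (f91481 IH) (Lpe (K3.f91467 IH) (Lpr_et (f127034 IH) (Lpe (f127032 IH) (Lpr_et (f103249 IH) (Lpn (LP (LK LD1_c4 LD2_c44 LD3_c37))))))))
theorem f127043 : Led Lsl_dt (LP (LK LD1_c6 LD2_c19 LD3_c56)) = (LP (LK LD1_c4 LD2_c44 LD3_c37)) :=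
  Lgr Lrot42 (Lpr_df (f127040 IH) (Lpn (LP (LK LD1_c4 LD2_c44 LD3_c37))))
theorem f66648 : Led Lsl_dt (LP (LK LD1_c1 LD2_c26 LD3_c32)) = (LP (LK LD1_c3 LD2_c1 LD3_c12)) :=
  Lre_d IH (LK LD1_c1 LD2_c26 LD3_c32) (LK LD1_c3 LD2_c1 LD3_c12) Lrfl Lrfl
theorem f66652 : Led Lsl_et (LP (LK LD1_c3 LD2_c1 LD3_c12)) = (LP (LK LD1_c6 LD2_c9 LD3_c31)) :=
  Lre_e IH (LK LD1_c3 LD2_c1 LD3_c12) (LK LD1_c6 LD2_c9 LD3_c31) Lrfl Lrfl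
theorem f126911 : Led Lsl_dt (LP (LK LD1_c6 LD2_c9 LD3_c31)) = (LP (LK LD1_c3 LD2_c14 LD3_c35)) :=
  Lgr Lrot77 (Lpe (f66652 IH) (Lpe (f66648 IH) (Lpr_ef (f126905 IH) (Lpe (K3.f24312 IH) (Lpe (K4.f103552 IH) (Lpn (LP (LK LD1_c3 LD2_c14 LD3_c35))))))))
theorem f127047 : Led Lsl_bf (LP (LK LD1_c6 LD2_c9 LD3_c31)) = (LP (LK LD1_c4 LD2_c44 LD3_c37)) :=
  Lgr Lrot93 (Lpr_dt (f126911 IH) (Lpr_bt (K4.f120615 IH) (Lpr_dt (f127043 IH) (Lpn (LP (LK LD1_c4 LD2_c44 LD3_c37))))))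
theorem f127053 : Led Lsl_et (LP (LK LD1_c6 LD2_c9 LD3_c31)) = (LP (LK LD1_c3 LD2_c1 LD3_c12)) :=
  Lre_e IH (LK LD1_c6 LD2_c9 LD3_c31) (LK LD1_c3 LD2_c1 LD3_c12) Lrfl Lrfl
theorem f127054 : Led Lsl_bt (LP (LK LD1_c3 LD2_c1 LD3_c12)) = (LP (LK LD1_c2 LD2_c20 LD3_c25)) :=
  Lgr Lrot119 (Lpe (f127053 IH) (Lpr_bf (f127047 IH) (Lpe (f103249 IH) (Lpn (LP (LK LD1_c2 LD2_c20 LD3_c25))))))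
theorem f25393 : Led Lsl_gt (LP (LK LD1_c1 LD2_c7 LD3_c19)) = (LP (LK LD1_c2 LD2_c20 LD3_c6)) :=
  Lre_g IH (LK LD1_c1 LD2_c7 LD3_c19) (LK LD1_c2 LD2_c20 LD3_c6) Lrfl Lrfl
theorem f127064 : Led Lsl_ct (LP (LK LD1_c3 LD2_c1 LD3_c12)) = (LP (LK LD1_c2 LD2_c20 LD3_c6)) :=
  Lgr Lrot10 (Lpr_bt (f127054 IH) (Lpr_gt (K3.f98873 IH) (Lpr_ct (K3.f23500 IH) (Lpe (K3.f103113 IH) (Lpe (K1.f25162 IH) (Lpr_bt (K4.f25209 IH) (Lpr_gt (K0.f25176 IH) (Lpe (K4.f25190 IH) (Lpr_ct (K4.f25292 IH) (Lpr_gt (f25393 IH) (Lpn (LP (LK LD1_c2 LD2_c20 LD3_c6)))))))))))))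
theorem f127075 : Led Lsl_dt (LP (LK LD1_c3 LD2_c19 LD3_c49)) = (LP (LK LD1_c2 LD2_c20 LD3_c6)) :=
  Lgr Lrot113 (Lpe (K3.f57467 IH) (Lpe (K1.f57251 IH) (Lpe (K2.f57260 IH) (Lpe (K3.f61908 IH) (Lpr_gt (K3.f90478 IH) (Lpe (K3.f83901 IH) (Lpe (K4.f90373 IH) (Lpr_dt (f66648 IH) (Lpr_ct (f127064 IH) (Lpn (LP (LK LD1_c2 LD2_c20 LD3_c6))))))))))))
theorem f116703 : Led Lsl_df (LP (LK LD1_c1 LD2_c51 LD3_c6)) = (LP (LK LD1_c2 LD2_c20 LD3_c1)) :=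
  Lgr Lrot38 (Lpr_dt (K4.f116699 IH) (Lpn (LP (LK LD1_c2 LD2_c20 LD3_c1))))
theorem f127066 : Led Lsl_cf (LP (LK LD1_c3 LD2_c1 LD3_c12)) = (LP (LK LD1_c2 LD2_c20 LD3_c6)) :=
  Lgr Lrot11 (Lpr_ct (f127064 IH) (Lpn (LP (LK LD1_c2 LD2_c20 LD3_c6))))
theorem f57592 : Led Lsl_dt (LP (LK LD1_c3 LD2_c1 LD3_c12)) = (LP (LK LD1_c1 LD2_c26 LD3_c32)) :=
  Lre_d IH (LK LD1_c3 LD2_c1 LD3_c12) (LK LD1_c1 LD2_c26 LD3_c32) Lrfl Lrfl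
theorem f57591 : Led Lsl_ct (LP (LK LD1_c1 LD2_c26 LD3_c32)) = (LP (LK LD1_c0 LD2_c40 LD3_c2)) :=
  Lre_c IH (LK LD1_c1 LD2_c26 LD3_c32) (LK LD1_c0 LD2_c40 LD3_c2) Lrfl Lrfl
theorem f127084 : Led Lsl_df (LP (LK LD1_c1 LD2_c7 LD3_c17)) = (LP (LK LD1_c0 LD2_c40 LD3_c2)) :=
  Lgr Lrot13 (Lpr_ct (K4.f25208 IH) (Lpe (f116703 IH) (Lpr_ct (K4.f11852 IH) (Lpe (K3.f89755 IH) (Lpr_ff (K3.f89772 IH) (Lpr_dt (f127075 IH) (Lpe (f127066 IH) (Lpr_dt (f57592 IH) (Lpr_ct (f57591 IH) (Lpn (LP (LK LD1_c0 LD2_c40 LD3_c2))))))))))))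
theorem f64306 : Led Lsl_dt (LP (LK LD1_c0 LD2_c52 LD3_c30)) = (LP (LK LD1_c1 LD2_c51 LD3_c18)) :=
  Lre_d IH (LK LD1_c0 LD2_c52 LD3_c30) (LK LD1_c1 LD2_c51 LD3_c18) Lrfl Lrfl
theorem f25036 : Led Lsl_dt (LP (LK LD1_c1 LD2_c29 LD3_c41)) = (LP (LK LD1_c0 LD2_c41 LD3_c27)) :=
  Lre_d IH (LK LD1_c1 LD2_c29 LD3_c41) (LK LD1_c0 LD2_c41 LD3_c27) Lrfl Lrfl
theorem f126830 : Led Lsl_af (LP (LK LD1_c0 LD2_c40 LD3_c3)) = (LP (LK LD1_c0 LD2_c45 LD3_c13)) :=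
  Lgr Lrot50 (Lpr_et (K2.f62333 IH) (Lpr_at (f126728 IH) (Lpr_et (f126657 IH) (Lpn (LP (LK LD1_c0 LD2_c45 LD3_c13))))))
theorem f127088 : Led Lsl_ff (LP (LK LD1_c0 LD2_c45 LD3_c13)) = (LP (LK LD1_c0 LD2_c40 LD3_c2)) :=
  Lgr Lrot103 (Lpe (f126830 IH) (Lpe (K2.f62320 IH) (Lpe (f25036 IH) (Lpr_cf (K4.f89394 IH) (Lpe (f64306 IH) (Lpe (K4.f11852 IH) (Lpr_df (f116703 IH) (Lpe (K4.f25208 IH) (Lpr_df (f127084 IH) (Lpn (LP (LK LD1_c0 LD2_c40 LD3_c2))))))))))))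
theorem f127097 : Led Lsl_ft (LP (LK LD1_c0 LD2_c45 LD3_c13)) = (LP (LK LD1_c0 LD2_c40 LD3_c2)) :=
  Lgr Lrot48 (Lpr_ff (f127088 IH) (Lpn (LP (LK LD1_c0 LD2_c40 LD3_c2))))
theorem f93210 : Led Lsl_et (LP (LK LD1_c3 LD2_c14 LD3_c53)) = (LP (LK LD1_c1 LD2_c33 LD3_c59)) :=
  Lre_e IH (LK LD1_c3 LD2_c14 LD3_c53) (LK LD1_c1 LD2_c33 LD3_c59) Lrfl Lrfl
theorem f15071 : Led Lsl_et (LP (LK LD1_c1 LD2_c40 LD3_c12)) = (LP (LK LD1_c3 LD2_c27 LD3_c13)) :=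
  Lre_e IH (LK LD1_c1 LD2_c40 LD3_c12) (LK LD1_c3 LD2_c27 LD3_c13) Lrfl Lrfl
theorem f112956 : Led Lsl_bf (LP (LK LD1_c3 LD2_c14 LD3_c53)) = (LP (LK LD1_c3 LD2_c27 LD3_c13)) :=
  Lgr Lrot96 (Lpr_et (f93210 IH) (Lpr_bt (K4.f112094 IH) (Lpr_et (f15071 IH) (Lpn (LP (LK LD1_c3 LD2_c27 LD3_c13))))))
theorem f93211 : Led Lsl_dt (LP (LK LD1_c3 LD2_c14 LD3_c53)) = (LP (LK LD1_c6 LD2_c33 LD3_c14)) :=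
  Lre_d IH (LK LD1_c3 LD2_c14 LD3_c53) (LK LD1_c6 LD2_c33 LD3_c14) Lrfl Lrfl
theorem f112976 : Led Lsl_bt (LP (LK LD1_c6 LD2_c33 LD3_c14)) = (LP (LK LD1_c6 LD2_c56 LD3_c23)) :=
  Lgr Lrot95 (Lpe (f93211 IH) (Lpr_bf (f112956 IH) (Lpe (K3.f93248 IH) (Lpn (LP (LK LD1_c6 LD2_c56 LD3_c23))))))
theorem f112994 : Led Lsl_bt (LP (LK LD1_c3 LD2_c27 LD3_c14)) = (LP (LK LD1_c6 LD2_c56 LD3_c19)) :=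
  Lre_b IH (LK LD1_c3 LD2_c27 LD3_c14) (LK LD1_c6 LD2_c56 LD3_c19) Lrfl Lrfl
theorem f112995 : Led Lsl_ef (LP (LK LD1_c6 LD2_c33 LD3_c14)) = (LP (LK LD1_c6 LD2_c56 LD3_c19)) :=
  Lgr Lrot29 (Lpr_bt (f112976 IH) (Lpr_et (K3.f97824 IH) (Lpr_bt (f112994 IH) (Lpn (LP (LK LD1_c6 LD2_c56 LD3_c19))))))
theorem f112997 : Led Lsl_dt (LP (LK LD1_c6 LD2_c33 LD3_c14)) = (LP (LK LD1_c3 LD2_c14 LD3_c53)) :=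
  Lre_d IH (LK LD1_c6 LD2_c33 LD3_c14) (LK LD1_c3 LD2_c14 LD3_c53) Lrfl Lrfl
theorem f12042 : Led Lsl_dt (LP (LK LD1_c3 LD2_c27 LD3_c12)) = (LP (LK LD1_c6 LD2_c56 LD3_c19)) :=
  Lre_d IH (LK LD1_c3 LD2_c27 LD3_c12) (LK LD1_c6 LD2_c56 LD3_c19) Lrfl Lrfl
theorem f12018 : Led Lsl_et (LP (LK LD1_c1 LD2_c40 LD3_c11)) = (LP (LK LD1_c3 LD2_c27 LD3_c12)) :=
  Lre_e IH (LK LD1_c1 LD2_c40 LD3_c11) (LK LD1_c3 LD2_c27 LD3_c12) Lrfl Lrfl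
theorem f112998 : Led Lsl_dt (LP (LK LD1_c1 LD2_c33 LD3_c59)) = (LP (LK LD1_c1 LD2_c40 LD3_c11)) :=
  Lgr Lrot77 (Lpe (f93210 IH) (Lpe (f112997 IH) (Lpr_ef (f112995 IH) (Lpe (f12042 IH) (Lpe (f12018 IH) (Lpn (LP (LK LD1_c1 LD2_c40 LD3_c11))))))))
theorem f111889 : Led Lsl_df (LP (LK LD1_c1 LD2_c34 LD3_c3)) = (LP (LK LD1_c1 LD2_c50 LD3_c42)) :=
  Lgr Lrot12 (Lpr_bt (K4.f111881 IH) (Lpr_dt (K2.f12060 IH) (Lpr_bt (K3.f12031 IH) (Lpn (LP (LK LD1_c1 LD2_c50 LD3_c42))))))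
theorem f61708 : Led Lsl_bt (LP (LK LD1_c1 LD2_c6 LD3_c37)) = (LP (LK LD1_c0 LD2_c30 LD3_c30)) :=
  Lre_b IH (LK LD1_c1 LD2_c6 LD3_c37) (LK LD1_c0 LD2_c30 LD3_c30) Lrfl Lrfl
theorem f113062 : Led Lsl_dt (LP (LK LD1_c1 LD2_c32 LD3_c34)) = (LP (LK LD1_c1 LD2_c6 LD3_c37)) :=
  Lgr Lrot79 (Lpe (K4.f62868 IH) (Lpr_df (K4.f113026 IH) (Lpe (f61708 IH) (Lpn (LP (LK LD1_c1 LD2_c6 LD3_c37))))))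
theorem f127101 : Led Lsl_af (LP (LK LD1_c0 LD2_c45 LD3_c14)) = (LP (LK LD1_c0 LD2_c40 LD3_c2)) :=
  Lgr Lrot109 (Lpr_cf (K4.f77836 IH) (Lpe (f113062 IH) (Lpe (K4.f62899 IH) (Lpr_df (f111889 IH) (Lpr_cf (K2.f11961 IH) (Lpe (f112998 IH) (Lpe (K2.f24033 IH) (Lpr_df (K4.f112958 IH) (Lpr_ft (f127097 IH) (Lpn (LP (LK LD1_c0 LD2_c40 LD3_c2))))))))))))
theorem f116720 : Led Lsl_at (LP (LK LD1_c1 LD2_c34 LD3_c3)) = (LP (LK LD1_c2 LD2_c20 LD3_c6)) :=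
  Lgr Lrot26 (Lpr_ff (K4.f111893 IH) (Lpr_gt (K4.f116711 IH) (Lpr_gt (f25393 IH) (Lpn (LP (LK LD1_c2 LD2_c20 LD3_c6))))))
theorem f25297 : Led Lsl_ct (LP (LK LD1_c2 LD2_c20 LD3_c1)) = (LP (LK LD1_c1 LD2_c7 LD3_c17)) :=
  Lre_c IH (LK LD1_c2 LD2_c20 LD3_c1) (LK LD1_c1 LD2_c7 LD3_c17) Lrfl Lrfl
theorem f127071 : Led Lsl_df (LP (LK LD1_c0 LD2_c40 LD3_c2)) = (LP (LK LD1_c1 LD2_c7 LD3_c17)) :=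
  Lgr Lrot13 (Lpr_ct (K3.f57584 IH) (Lpr_dt (f66648 IH) (Lpr_ct (f127064 IH) (Lpe (f116720 IH) (Lpr_ff (K4.f111893 IH) (Lpr_dt (K4.f11850 IH) (Lpr_ct (K2.f11849 IH) (Lpr_dt (K4.f116699 IH) (Lpr_ct (f25297 IH) (Lpn (LP (LK LD1_c1 LD2_c7 LD3_c17))))))))))))
theorem f127109 : Led Lsl_at (LP (LK LD1_c0 LD2_c43 LD3_c37)) = (LP (LK LD1_c1 LD2_c7 LD3_c17)) :=
  Lgr Lrot51 (Lpe (f126558 IH) (Lpr_af (f127101 IH) (Lpr_df (f127071 IH) (Lpn (LP (LK LD1_c1 LD2_c7 LD3_c17))))))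
theorem f127117 : Led Lsl_ff (LP (LK LD1_c0 LD2_c43 LD3_c37)) = (LP (LK LD1_c1 LD2_c7 LD3_c18)) :=
  Lgr Lrot52 (Lpr_at (f127109 IH) (Lpe (K4.f25207 IH) (Lpe (K4.f25210 IH) (Lpn (LP (LK LD1_c1 LD2_c7 LD3_c18))))))
theorem f127119 : Led Lsl_dt (LP (LK LD1_c1 LD2_c7 LD3_c18)) = (LP (LK LD1_c0 LD2_c40 LD3_c3)) :=
  Lgr Lrot159 (Lpe (f127117 IH) (Lpr_at (f127109 IH) (Lpe (f25297 IH) (Lpe (K4.f116699 IH) (Lpe (K2.f11849 IH) (Lpe (K4.f11850 IH) (Lpe (K4.f89322 IH) (Lpe (K4.f25032 IH) (Lpr_cf (K2.f62331 IH) (Lpn (LP (LK LD1_c0 LD2_c40 LD3_c3))))))))))))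
theorem f127127 : Led Lsl_et (LP (LK LD1_c2 LD2_c20 LD3_c5)) = (LP (LK LD1_c1 LD2_c7 LD3_c18)) :=
  Lre_e IH (LK LD1_c2 LD2_c20 LD3_c5) (LK LD1_c1 LD2_c7 LD3_c18) Lrfl Lrfl
theorem f127128 : Led Lsl_dt (LP (LK LD1_c4 LD2_c44 LD3_c13)) = (LP (LK LD1_c2 LD2_c20 LD3_c5)) :=
  Lre_d IH (LK LD1_c4 LD2_c44 LD3_c13) (LK LD1_c2 LD2_c20 LD3_c5) Lrfl Lrfl
theorem f62349 : Led Lsl_dt (LP (LK LD1_c1 LD2_c26 LD3_c34)) = (LP (LK LD1_c3 LD2_c1 LD3_c14)) :=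
  Lre_d IH (LK LD1_c1 LD2_c26 LD3_c34) (LK LD1_c3 LD2_c1 LD3_c14) Lrfl Lrfl
theorem f127129 : Led Lsl_ef (LP (LK LD1_c4 LD2_c44 LD3_c13)) = (LP (LK LD1_c3 LD2_c1 LD3_c14)) :=
  Lgr Lrot73 (Lpr_dt (f127128 IH) (Lpr_et (f127127 IH) (Lpr_dt (f127119 IH) (Lpr_et (K2.f62333 IH) (Lpr_dt (f62349 IH) (Lpn (LP (LK LD1_c3 LD2_c1 LD3_c14))))))))
theorem f57567 : Led Lsl_dt (LP (LK LD1_c1 LD2_c26 LD3_c36)) = (LP (LK LD1_c3 LD2_c1 LD3_c17)) :=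
  Lre_d IH (LK LD1_c1 LD2_c26 LD3_c36) (LK LD1_c3 LD2_c1 LD3_c17) Lrfl Lrfl
theorem f126828 : Led Lsl_af (LP (LK LD1_c3 LD2_c1 LD3_c14)) = (LP (LK LD1_c3 LD2_c1 LD3_c17)) :=
  Lgr Lrot117 (Lpr_dt (f62617 IH) (Lpr_at (f126728 IH) (Lpr_dt (f57567 IH) (Lpn (LP (LK LD1_c3 LD2_c1 LD3_c17))))))
theorem f62389 : Led Lsl_dt (LP (LK LD1_c3 LD2_c1 LD3_c17)) = (LP (LK LD1_c1 LD2_c26 LD3_c36)) :=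
  Lre_d IH (LK LD1_c3 LD2_c1 LD3_c17) (LK LD1_c1 LD2_c26 LD3_c36) Lrfl Lrfl
theorem f112962 : Led Lsl_et (LP (LK LD1_c0 LD2_c43 LD3_c36)) = (LP (LK LD1_c1 LD2_c33 LD3_c60)) :=
  Lre_e IH (LK LD1_c0 LD2_c43 LD3_c36) (LK LD1_c1 LD2_c33 LD3_c60) Lrfl Lrfl
theorem f112963 : Led Lsl_dt (LP (LK LD1_c1 LD2_c33 LD3_c60)) = (LP (LK LD1_c3 LD2_c14 LD3_c55)) :=
  Lre_d IH (LK LD1_c1 LD2_c33 LD3_c60) (LK LD1_c3 LD2_c14 LD3_c55) Lrfl Lrfl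
theorem f126663 : Led Lsl_ef (LP (LK LD1_c3 LD2_c1 LD3_c17)) = (LP (LK LD1_c3 LD2_c14 LD3_c55)) :=
  Lgr Lrot73 (Lpr_dt (f62389 IH) (Lpr_et (f126657 IH) (Lpe (K4.f112958 IH) (Lpr_et (f112962 IH) (Lpr_dt (f112963 IH) (Lpn (LP (LK LD1_c3 LD2_c14 LD3_c55))))))))
theorem f127133 : Led Lsl_at (LP (LK LD1_c4 LD2_c44 LD3_c13)) = (LP (LK LD1_c3 LD2_c14 LD3_c55)) :=
  Lgr Lrot80 (Lpr_ef (f127129 IH) (Lpr_af (f126828 IH) (Lpr_ef (f126663 IH) (Lpn (LP (LK LD1_c3 LD2_c14 LD3_c55))))))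
theorem f127143 : Led Lsl_dt (LP (LK LD1_c2 LD2_c20 LD3_c5)) = (LP (LK LD1_c4 LD2_c44 LD3_c13)) :=
  Lre_d IH (LK LD1_c2 LD2_c20 LD3_c5) (LK LD1_c4 LD2_c44 LD3_c13) Lrfl Lrfl
theorem f112969 : Led Lsl_dt (LP (LK LD1_c3 LD2_c14 LD3_c55)) = (LP (LK LD1_c1 LD2_c33 LD3_c60)) :=
  Lre_d IH (LK LD1_c3 LD2_c14 LD3_c55) (LK LD1_c1 LD2_c33 LD3_c60) Lrfl Lrfl
theorem f127180 : Led Lsl_af (LP (LK LD1_c2 LD2_c20 LD3_c5)) = (LP (LK LD1_c1 LD2_c33 LD3_c60)) :=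
  Lgr Lrot117 (Lpr_dt (f127143 IH) (Lpr_at (f127133 IH) (Lpr_dt (f112969 IH) (Lpn (LP (LK LD1_c1 LD2_c33 LD3_c60))))))
theorem f127190 : Led Lsl_ft (LP (LK LD1_c2 LD2_c20 LD3_c5)) = (LP (LK LD1_c4 LD2_c44 LD3_c14)) :=
  Lre_f IH (LK LD1_c2 LD2_c20 LD3_c5) (LK LD1_c4 LD2_c44 LD3_c14) Lrfl Lrfl
theorem f127191 : Led Lsl_ft (LP (LK LD1_c3 LD2_c14 LD3_c56)) = (LP (LK LD1_c1 LD2_c33 LD3_c60)) :=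
  Lre_f IH (LK LD1_c3 LD2_c14 LD3_c56) (LK LD1_c1 LD2_c33 LD3_c60) Lrfl Lrfl
theorem f127192 : Led Lsl_at (LP (LK LD1_c4 LD2_c44 LD3_c14)) = (LP (LK LD1_c3 LD2_c14 LD3_c56)) :=
  Lgr Lrot66 (Lpe (f127190 IH) (Lpr_af (f127180 IH) (Lpe (f127191 IH) (Lpn (LP (LK LD1_c3 LD2_c14 LD3_c56))))))
theorem f127203 : Led Lsl_ct (LP (LK LD1_c9 LD2_c21 LD3_c15)) = (LP (LK LD1_c4 LD2_c44 LD3_c14)) :=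
  Lre_c IH (LK LD1_c9 LD2_c21 LD3_c15) (LK LD1_c4 LD2_c44 LD3_c14) Lrfl Lrfl
theorem f112988 : Led Lsl_ct (LP (LK LD1_c3 LD2_c14 LD3_c56)) = (LP (LK LD1_c6 LD2_c33 LD3_c15)) :=
  Lre_c IH (LK LD1_c3 LD2_c14 LD3_c56) (LK LD1_c6 LD2_c33 LD3_c15) Lrfl Lrfl
theorem f127204 : Led Lsl_af (LP (LK LD1_c9 LD2_c21 LD3_c15)) = (LP (LK LD1_c6 LD2_c33 LD3_c15)) :=
  Lgr Lrot68 (Lpr_ct (f127203 IH) (Lpr_at (f127192 IH) (Lpr_ct (f112988 IH) (Lpn (LP (LK LD1_c6 LD2_c33 LD3_c15))))))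
theorem f127208 : Led Lsl_bt (LP (LK LD1_c9 LD2_c21 LD3_c15)) = (LP (LK LD1_c17 LD2_c17 LD3_c13)) :=
  Lre_b IH (LK LD1_c9 LD2_c21 LD3_c15) (LK LD1_c17 LD2_c17 LD3_c13) Lrfl Lrfl
theorem f112978 : Led Lsl_ft (LP (LK LD1_c3 LD2_c14 LD3_c53)) = (LP (LK LD1_c6 LD2_c33 LD3_c15)) :=
  Lre_f IH (LK LD1_c3 LD2_c14 LD3_c53) (LK LD1_c6 LD2_c33 LD3_c15) Lrfl Lrfl
theorem f112979 : Led Lsl_bt (LP (LK LD1_c6 LD2_c33 LD3_c15)) = (LP (LK LD1_c6 LD2_c56 LD3_c24)) :=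
  Lgr Lrot35 (Lpe (f112978 IH) (Lpr_bf (f112956 IH) (Lpe (K3.f91722 IH) (Lpn (LP (LK LD1_c6 LD2_c56 LD3_c24))))))
theorem f112986 : Led Lsl_bf (LP (LK LD1_c6 LD2_c33 LD3_c15)) = (LP (LK LD1_c6 LD2_c56 LD3_c24)) :=
  Lgr Lrot24 (Lpr_bt (f112979 IH) (Lpn (LP (LK LD1_c6 LD2_c56 LD3_c24))))
theorem f127209 : Led Lsl_at (LP (LK LD1_c17 LD2_c17 LD3_c13)) = (LP (LK LD1_c14 LD2_c32 LD3_c18)) :=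
  Lgr Lrot67 (Lpe (f127208 IH) (Lpr_af (f127204 IH) (Lpr_bf (f112986 IH) (Lpr_af (K3.f97798 IH) (Lpe (K3.f97773 IH) (Lpn (LP (LK LD1_c14 LD2_c32 LD3_c18))))))))
theorem f127218 : Led Lsl_ft (LP (LK LD1_c9 LD2_c21 LD3_c12)) = (LP (LK LD1_c17 LD2_c17 LD3_c13)) :=
  Lre_f IH (LK LD1_c9 LD2_c21 LD3_c12) (LK LD1_c17 LD2_c17 LD3_c13) Lrfl Lrfl
theorem f127219 : Led Lsl_af (LP (LK LD1_c9 LD2_c21 LD3_c12)) = (LP (LK LD1_c7 LD2_c42 LD3_c44)) :=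
  Lgr Lrot45 (Lpr_ft (f127218 IH) (Lpr_at (f127209 IH) (Lpr_ft (K3.f97770 IH) (Lpn (LP (LK LD1_c7 LD2_c42 LD3_c44))))))
theorem f127239 : Led Lsl_et (LP (LK LD1_c9 LD2_c21 LD3_c12)) = (LP (LK LD1_c4 LD2_c44 LD3_c10)) :=
  Lre_e IH (LK LD1_c9 LD2_c21 LD3_c12) (LK LD1_c4 LD2_c44 LD3_c10) Lrfl Lrfl
theorem f97758 : Led Lsl_et (LP (LK LD1_c3 LD2_c50 LD3_c49)) = (LP (LK LD1_c7 LD2_c42 LD3_c44)) :=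
  Lre_e IH (LK LD1_c3 LD2_c50 LD3_c49) (LK LD1_c7 LD2_c42 LD3_c44) Lrfl Lrfl
theorem f127240 : Led Lsl_at (LP (LK LD1_c4 LD2_c44 LD3_c10)) = (LP (LK LD1_c3 LD2_c50 LD3_c49)) :=
  Lgr Lrot80 (Lpe (f127239 IH) (Lpr_af (f127219 IH) (Lpe (f97758 IH) (Lpn (LP (LK LD1_c3 LD2_c50 LD3_c49))))))
theorem f97861 : Led Lsl_at (LP (LK LD1_c1 LD2_c52 LD3_c16)) = (LP (LK LD1_c3 LD2_c50 LD3_c48)) :=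
  Lre_a IH (LK LD1_c1 LD2_c52 LD3_c16) (LK LD1_c3 LD2_c50 LD3_c48) Lrfl Lrfl
theorem f127253 : Led Lsl_df (LP (LK LD1_c4 LD2_c44 LD3_c10)) = (LP (LK LD1_c3 LD2_c50 LD3_c48)) :=
  Lgr Lrot18 (Lpr_at (f127240 IH) (Lpr_dt (K3.f97747 IH) (Lpr_at (f97861 IH) (Lpn (LP (LK LD1_c3 LD2_c50 LD3_c48))))))
theorem f127259 : Led Lsl_et (LP (LK LD1_c4 LD2_c44 LD3_c10)) = (LP (LK LD1_c9 LD2_c21 LD3_c12)) :=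
  Lre_e IH (LK LD1_c4 LD2_c44 LD3_c10) (LK LD1_c9 LD2_c21 LD3_c12) Lrfl Lrfl
theorem f127224 : Led Lsl_dt (LP (LK LD1_c9 LD2_c21 LD3_c12)) = (LP (LK LD1_c17 LD2_c17 LD3_c12)) :=
  Lre_d IH (LK LD1_c9 LD2_c21 LD3_c12) (LK LD1_c17 LD2_c17 LD3_c12) Lrfl Lrfl
theorem f97979 : Led Lsl_dt (LP (LK LD1_c14 LD2_c32 LD3_c13)) = (LP (LK LD1_c7 LD2_c42 LD3_c42)) :=
  Lre_d IH (LK LD1_c14 LD2_c32 LD3_c13) (LK LD1_c7 LD2_c42 LD3_c42) Lrfl Lrfl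
theorem f127260 : Led Lsl_et (LP (LK LD1_c17 LD2_c17 LD3_c12)) = (LP (LK LD1_c14 LD2_c32 LD3_c13)) :=
  Lgr Lrot71 (Lpe (f127224 IH) (Lpe (f127259 IH) (Lpr_df (f127253 IH) (Lpe (K3.f97858 IH) (Lpe (f97979 IH) (Lpn (LP (LK LD1_c14 LD2_c32 LD3_c13))))))))
theorem f127280 : Led Lsl_bt (LP (LK LD1_c9 LD2_c21 LD3_c14)) = (LP (LK LD1_c17 LD2_c17 LD3_c12)) :=
  Lre_b IH (LK LD1_c9 LD2_c21 LD3_c14) (LK LD1_c17 LD2_c17 LD3_c12) Lrfl Lrfl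
theorem f97831 : Led Lsl_bt (LP (LK LD1_c6 LD2_c56 LD3_c19)) = (LP (LK LD1_c3 LD2_c27 LD3_c14)) :=
  Lre_b IH (LK LD1_c6 LD2_c56 LD3_c19) (LK LD1_c3 LD2_c27 LD3_c14) Lrfl Lrfl
theorem f97832 : Led Lsl_at (LP (LK LD1_c13 LD2_c10 LD3_c32)) = (LP (LK LD1_c6 LD2_c56 LD3_c19)) :=
  Lre_a IH (LK LD1_c13 LD2_c10 LD3_c32) (LK LD1_c6 LD2_c56 LD3_c19) Lrfl Lrfl
theorem f97833 : Led Lsl_bt (LP (LK LD1_c3 LD2_c50 LD3_c52)) = (LP (LK LD1_c7 LD2_c42 LD3_c47)) :=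
  Lre_b IH (LK LD1_c3 LD2_c50 LD3_c52) (LK LD1_c7 LD2_c42 LD3_c47) Lrfl Lrfl
theorem f97834 : Led Lsl_at (LP (LK LD1_c7 LD2_c42 LD3_c47)) = (LP (LK LD1_c14 LD2_c32 LD3_c13)) :=
  Lre_a IH (LK LD1_c7 LD2_c42 LD3_c47) (LK LD1_c14 LD2_c32 LD3_c13) Lrfl Lrfl
theorem f97835 : Led Lsl_bf (LP (LK LD1_c13 LD2_c10 LD3_c32)) = (LP (LK LD1_c14 LD2_c32 LD3_c13)) :=
  Lgr Lrot81 (Lpr_at (f97832 IH) (Lpr_bt (f97831 IH) (Lpr_at (K3.f97826 IH) (Lpr_bt (f97833 IH) (Lpr_at (f97834 IH) (Lpn (LP (LK LD1_c14 LD2_c32 LD3_c13))))))))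
theorem f127281 : Led Lsl_ef (LP (LK LD1_c9 LD2_c21 LD3_c14)) = (LP (LK LD1_c13 LD2_c10 LD3_c32)) :=
  Lgr Lrot29 (Lpr_bt (f127280 IH) (Lpr_et (f127260 IH) (Lpe (f97835 IH) (Lpn (LP (LK LD1_c13 LD2_c10 LD3_c32))))))
theorem f113002 : Led Lsl_at (LP (LK LD1_c6 LD2_c56 LD3_c19)) = (LP (LK LD1_c13 LD2_c10 LD3_c32)) :=
  Lre_a IH (LK LD1_c6 LD2_c56 LD3_c19) (LK LD1_c13 LD2_c10 LD3_c32) Lrfl Lrfl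
theorem f113000 : Led Lsl_et (LP (LK LD1_c6 LD2_c33 LD3_c14)) = (LP (LK LD1_c6 LD2_c56 LD3_c19)) :=
  Lgr Lrot87 (Lpr_ef (f112995 IH) (Lpn (LP (LK LD1_c6 LD2_c56 LD3_c19))))
theorem f127289 : Led Lsl_at (LP (LK LD1_c9 LD2_c21 LD3_c14)) = (LP (LK LD1_c6 LD2_c33 LD3_c14)) :=
  Lgr Lrot80 (Lpr_ef (f127281 IH) (Lpe (f113002 IH) (Lpe (f113000 IH) (Lpn (LP (LK LD1_c6 LD2_c33 LD3_c14))))))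
theorem f111080 : Led Lsl_dt (LP (LK LD1_c4 LD2_c44 LD3_c11)) = (LP (LK LD1_c9 LD2_c21 LD3_c14)) :=
  Lre_d IH (LK LD1_c4 LD2_c44 LD3_c11) (LK LD1_c9 LD2_c21 LD3_c14) Lrfl Lrfl
theorem f127301 : Led Lsl_af (LP (LK LD1_c4 LD2_c44 LD3_c11)) = (LP (LK LD1_c3 LD2_c14 LD3_c53)) :=
  Lgr Lrot117 (Lpr_dt (f111080 IH) (Lpr_at (f127289 IH) (Lpr_dt (f112997 IH) (Lpn (LP (LK LD1_c3 LD2_c14 LD3_c53))))))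
theorem f111079 : Led Lsl_et (LP (LK LD1_c4 LD2_c44 LD3_c11)) = (LP (LK LD1_c2 LD2_c20 LD3_c4)) :=
  Lre_e IH (LK LD1_c4 LD2_c44 LD3_c11) (LK LD1_c2 LD2_c20 LD3_c4) Lrfl Lrfl
theorem f113003 : Led Lsl_et (LP (LK LD1_c1 LD2_c33 LD3_c59)) = (LP (LK LD1_c3 LD2_c14 LD3_c53)) :=
  Lre_e IH (LK LD1_c1 LD2_c33 LD3_c59) (LK LD1_c3 LD2_c14 LD3_c53) Lrfl Lrfl
theorem f127304 : Led Lsl_at (LP (LK LD1_c2 LD2_c20 LD3_c4)) = (LP (LK LD1_c1 LD2_c33 LD3_c59)) :=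
  Lgr Lrot80 (Lpe (f111079 IH) (Lpr_af (f127301 IH) (Lpe (f113003 IH) (Lpn (LP (LK LD1_c1 LD2_c33 LD3_c59))))))
theorem f111903 : Led Lsl_af (LP (LK LD1_c1 LD2_c34 LD3_c2)) = (LP (LK LD1_c1 LD2_c51 LD3_c18)) :=
  Lgr Lrot31 (Lpe (f23174 IH) (Lpe (K4.f24203 IH) (Lpr_ft (K4.f111899 IH) (Lpn (LP (LK LD1_c1 LD2_c51 LD3_c18))))))
theorem f111912 : Led Lsl_et (LP (LK LD1_c1 LD2_c34 LD3_c2)) = (LP (LK LD1_c3 LD2_c15 LD3_c1)) :=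
  Lre_e IH (LK LD1_c1 LD2_c34 LD3_c2) (LK LD1_c3 LD2_c15 LD3_c1) Lrfl Lrfl
theorem f89500 : Led Lsl_et (LP (LK LD1_c3 LD2_c48 LD3_c33)) = (LP (LK LD1_c1 LD2_c51 LD3_c18)) :=
  Lre_e IH (LK LD1_c3 LD2_c48 LD3_c33) (LK LD1_c1 LD2_c51 LD3_c18) Lrfl Lrfl
theorem f111913 : Led Lsl_at (LP (LK LD1_c3 LD2_c15 LD3_c1)) = (LP (LK LD1_c3 LD2_c48 LD3_c33)) :=
  Lgr Lrot80 (Lpe (f111912 IH) (Lpr_af (f111903 IH) (Lpe (f89500 IH) (Lpn (LP (LK LD1_c3 LD2_c48 LD3_c33))))))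
theorem f111923 : Led Lsl_ft (LP (LK LD1_c6 LD2_c33 LD3_c31)) = (LP (LK LD1_c3 LD2_c15 LD3_c1)) :=
  Lre_f IH (LK LD1_c6 LD2_c33 LD3_c31) (LK LD1_c3 LD2_c15 LD3_c1) Lrfl Lrfl
theorem f89428 : Led Lsl_ft (LP (LK LD1_c3 LD2_c48 LD3_c33)) = (LP (LK LD1_c7 LD2_c38 LD3_c6)) :=
  Lre_f IH (LK LD1_c3 LD2_c48 LD3_c33) (LK LD1_c7 LD2_c38 LD3_c6) Lrfl Lrfl
theorem f111924 : Led Lsl_af (LP (LK LD1_c6 LD2_c33 LD3_c31)) = (LP (LK LD1_c7 LD2_c38 LD3_c6)) :=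
  Lgr Lrot45 (Lpr_ft (f111923 IH) (Lpr_at (f111913 IH) (Lpr_ft (f89428 IH) (Lpn (LP (LK LD1_c7 LD2_c38 LD3_c6))))))
theorem f111933 : Led Lsl_bt (LP (LK LD1_c6 LD2_c33 LD3_c31)) = (LP (LK LD1_c12 LD2_c34 LD3_c4)) :=
  Lre_b IH (LK LD1_c6 LD2_c33 LD3_c31) (LK LD1_c12 LD2_c34 LD3_c4) Lrfl Lrfl
theorem f87752 : Led Lsl_bt (LP (LK LD1_c14 LD2_c17 LD3_c47)) = (LP (LK LD1_c7 LD2_c34 LD3_c60)) :=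
  Lre_b IH (LK LD1_c14 LD2_c17 LD3_c47) (LK LD1_c7 LD2_c34 LD3_c60) Lrfl Lrfl
theorem f111934 : Led Lsl_at (LP (LK LD1_c12 LD2_c34 LD3_c4)) = (LP (LK LD1_c14 LD2_c17 LD3_c47)) :=
  Lgr Lrot67 (Lpe (f111933 IH) (Lpr_af (f111924 IH) (Lpe (K4.f64884 IH) (Lpe (K2.f87738 IH) (Lpe (f87752 IH) (Lpn (LP (LK LD1_c14 LD2_c17 LD3_c47))))))))
theorem f87741 : Led Lsl_ft (LP (LK LD1_c7 LD2_c34 LD3_c60)) = (LP (LK LD1_c3 LD2_c47 LD3_c3)) :=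
  Lre_f IH (LK LD1_c7 LD2_c34 LD3_c60) (LK LD1_c3 LD2_c47 LD3_c3) Lrfl Lrfl
theorem f87331 : Led Lsl_et (LP (LK LD1_c0 LD2_c52 LD3_c40)) = (LP (LK LD1_c1 LD2_c51 LD3_c46)) :=
  Lre_e IH (LK LD1_c0 LD2_c52 LD3_c40) (LK LD1_c1 LD2_c51 LD3_c46) Lrfl Lrfl
theorem f87880 : Led Lsl_ef (LP (LK LD1_c7 LD2_c34 LD3_c60)) = (LP (LK LD1_c3 LD2_c49 LD3_c33)) :=
  Lgr Lrot21 (Lpr_ft (f87741 IH) (Lpr_et (K2.f87772 IH) (Lpr_ft (K2.f87802 IH) (Lpr_et (f87331 IH) (Lpr_ft (K4.f87208 IH) (Lpn (LP (LK LD1_c3 LD2_c49 LD3_c33))))))))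
theorem f87740 : Led Lsl_bt (LP (LK LD1_c7 LD2_c34 LD3_c60)) = (LP (LK LD1_c14 LD2_c17 LD3_c47)) :=
  Lre_b IH (LK LD1_c7 LD2_c34 LD3_c60) (LK LD1_c14 LD2_c17 LD3_c47) Lrfl Lrfl
theorem f87240 : Led Lsl_bt (LP (LK LD1_c7 LD2_c39 LD3_c44)) = (LP (LK LD1_c3 LD2_c49 LD3_c33)) :=
  Lre_b IH (LK LD1_c7 LD2_c39 LD3_c44) (LK LD1_c3 LD2_c49 LD3_c33) Lrfl Lrfl
theorem f87882 : Led Lsl_et (LP (LK LD1_c14 LD2_c17 LD3_c47)) = (LP (LK LD1_c7 LD2_c39 LD3_c44)) :=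
  Lgr Lrot74 (Lpe (f87740 IH) (Lpr_ef (f87880 IH) (Lpe (f87240 IH) (Lpn (LP (LK LD1_c7 LD2_c39 LD3_c44))))))
theorem f87885 : Led Lsl_at (LP (LK LD1_c7 LD2_c39 LD3_c44)) = (LP (LK LD1_c14 LD2_c26 LD3_c0)) :=
  Lre_a IH (LK LD1_c7 LD2_c39 LD3_c44) (LK LD1_c14 LD2_c26 LD3_c0) Lrfl Lrfl
theorem f111938 : Led Lsl_ef (LP (LK LD1_c12 LD2_c34 LD3_c4)) = (LP (LK LD1_c14 LD2_c26 LD3_c0)) :=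
  Lgr Lrot20 (Lpr_at (f111934 IH) (Lpr_et (f87882 IH) (Lpr_at (f87885 IH) (Lpn (LP (LK LD1_c14 LD2_c26 LD3_c0))))))
theorem f111950 : Led Lsl_ft (LP (LK LD1_c12 LD2_c34 LD3_c4)) = (LP (LK LD1_c6 LD2_c33 LD3_c29)) :=
  Lre_f IH (LK LD1_c12 LD2_c34 LD3_c4) (LK LD1_c6 LD2_c33 LD3_c29) Lrfl Lrfl
theorem f111951 : Led Lsl_et (LP (LK LD1_c6 LD2_c33 LD3_c29)) = (LP (LK LD1_c3 LD2_c15 LD3_c0)) :=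
  Lre_e IH (LK LD1_c6 LD2_c33 LD3_c29) (LK LD1_c3 LD2_c15 LD3_c0) Lrfl Lrfl
theorem f111952 : Led Lsl_ft (LP (LK LD1_c7 LD2_c39 LD3_c30)) = (LP (LK LD1_c14 LD2_c26 LD3_c0)) :=
  Lre_f IH (LK LD1_c7 LD2_c39 LD3_c30) (LK LD1_c14 LD2_c26 LD3_c0) Lrfl Lrfl
theorem f96871 : Led Lsl_et (LP (LK LD1_c3 LD2_c49 LD3_c20)) = (LP (LK LD1_c7 LD2_c39 LD3_c30)) :=
  Lre_e IH (LK LD1_c3 LD2_c49 LD3_c20) (LK LD1_c7 LD2_c39 LD3_c30) Lrfl Lrfl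
theorem f111953 : Led Lsl_ft (LP (LK LD1_c3 LD2_c15 LD3_c0)) = (LP (LK LD1_c3 LD2_c49 LD3_c20)) :=
  Lgr Lrot86 (Lpe (f111951 IH) (Lpe (f111950 IH) (Lpr_ef (f111938 IH) (Lpe (f111952 IH) (Lpe (f96871 IH) (Lpn (LP (LK LD1_c3 LD2_c49 LD3_c20))))))))
theorem f111959 : Led Lsl_ff (LP (LK LD1_c3 LD2_c15 LD3_c0)) = (LP (LK LD1_c3 LD2_c49 LD3_c20)) :=
  Lgr Lrot3 (Lpr_ft (f111953 IH) (Lpn (LP (LK LD1_c3 LD2_c49 LD3_c20))))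
theorem f87915 : Led Lsl_dt (LP (LK LD1_c1 LD2_c51 LD3_c43)) = (LP (LK LD1_c3 LD2_c49 LD3_c20)) :=
  Lre_d IH (LK LD1_c1 LD2_c51 LD3_c43) (LK LD1_c3 LD2_c49 LD3_c20) Lrfl Lrfl
theorem f111963 : Led Lsl_dt (LP (LK LD1_c3 LD2_c15 LD3_c0)) = (LP (LK LD1_c3 LD2_c47 LD3_c0)) :=
  Lgr Lrot60 (Lpr_ff (f111959 IH) (Lpe (f87915 IH) (Lpe (K3.f88579 IH) (Lpn (LP (LK LD1_c3 LD2_c47 LD3_c0))))))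
theorem f111907 : Led Lsl_bt (LP (LK LD1_c1 LD2_c34 LD3_c2)) = (LP (LK LD1_c3 LD2_c15 LD3_c0)) :=
  Lre_b IH (LK LD1_c1 LD2_c34 LD3_c2) (LK LD1_c3 LD2_c15 LD3_c0) Lrfl Lrfl
theorem f111968 : Led Lsl_df (LP (LK LD1_c1 LD2_c34 LD3_c2)) = (LP (LK LD1_c1 LD2_c51 LD3_c17)) :=
  Lgr Lrot12 (Lpr_bt (f111907 IH) (Lpr_dt (f111963 IH) (Lpe (K3.f89781 IH) (Lpn (LP (LK LD1_c1 LD2_c51 LD3_c17))))))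
theorem f89763 : Led Lsl_af (LP (LK LD1_c1 LD2_c50 LD3_c42)) = (LP (LK LD1_c3 LD2_c19 LD3_c49)) :=
  Lgr Lrot0 (Lpr_at (K3.f89761 IH) (Lpn (LP (LK LD1_c3 LD2_c19 LD3_c49))))
theorem f126554 : Led Lsl_ct (LP (LK LD1_c1 LD2_c29 LD3_c40)) = (LP (LK LD1_c0 LD2_c45 LD3_c13)) :=
  Lgr Lrot41 (Lpr_df (f126508 IH) (Lpe (f120501 IH) (Lpr_df (f111968 IH) (Lpr_ft (K3.f89776 IH) (Lpe (f89763 IH) (Lpr_cf (K2.f11961 IH) (Lpe (f112998 IH) (Lpe (K2.f24033 IH) (Lpr_df (K4.f112958 IH) (Lpn (LP (LK LD1_c0 LD2_c45 LD3_c13))))))))))))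
theorem f91850 : Led Lsl_ct (LP (LK LD1_c0 LD2_c43 LD3_c37)) = (LP (LK LD1_c1 LD2_c34 LD3_c0)) :=
  Lre_c IH (LK LD1_c0 LD2_c43 LD3_c37) (LK LD1_c1 LD2_c34 LD3_c0) Lrfl Lrfl
theorem f126563 : Led Lsl_dt (LP (LK LD1_c1 LD2_c34 LD3_c0)) = (LP (LK LD1_c3 LD2_c14 LD3_c60)) :=
  Lre_d IH (LK LD1_c1 LD2_c34 LD3_c0) (LK LD1_c3 LD2_c14 LD3_c60) Lrfl Lrfl
theorem f126564 : Led Lsl_cf (LP (LK LD1_c1 LD2_c51 LD3_c17)) = (LP (LK LD1_c3 LD2_c14 LD3_c60)) :=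
  Lgr Lrot55 (Lpe (f111968 IH) (Lpr_ct (f120501 IH) (Lpe (f126508 IH) (Lpr_ct (f126554 IH) (Lpe (K4.f112958 IH) (Lpr_ct (K2.f24033 IH) (Lpr_dt (f112998 IH) (Lpe (K2.f11961 IH) (Lpe (f111889 IH) (Lpr_ct (K4.f62899 IH) (Lpr_dt (f113062 IH) (Lpe (K4.f77836 IH) (Lpr_dt (f126558 IH) (Lpr_ct (f91850 IH) (Lpr_dt (f126563 IH) (Lpn (LP (LK LD1_c3 LD2_c14 LD3_c60))))))))))))))))))
theorem f127313 : Led Lsl_ff (LP (LK LD1_c2 LD2_c20 LD3_c4)) = (LP (LK LD1_c1 LD2_c34 LD3_c0)) :=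
  Lgr Lrot103 (Lpr_at (f127304 IH) (Lpe (K2.f24033 IH) (Lpr_df (K4.f112958 IH) (Lpe (f126554 IH) (Lpr_df (f126508 IH) (Lpe (f120501 IH) (Lpr_df (f111968 IH) (Lpr_cf (f126564 IH) (Lpe (f126563 IH) (Lpn (LP (LK LD1_c1 LD2_c34 LD3_c0))))))))))))
theorem f112964 : Led Lsl_gt (LP (LK LD1_c3 LD2_c14 LD3_c52)) = (LP (LK LD1_c1 LD2_c33 LD3_c59)) :=
  Lre_g IH (LK LD1_c3 LD2_c14 LD3_c52) (LK LD1_c1 LD2_c33 LD3_c59) Lrfl Lrfl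
theorem f127325 : Led Lsl_gf (LP (LK LD1_c3 LD2_c14 LD3_c52)) = (LP (LK LD1_c1 LD2_c34 LD3_c0)) :=
  Lgr Lrot47 (Lpr_gt (f112964 IH) (Lpe (f127304 IH) (Lpr_ff (f127313 IH) (Lpn (LP (LK LD1_c1 LD2_c34 LD3_c0))))))
theorem f24307 : Led Lsl_dt (LP (LK LD1_c0 LD2_c19 LD3_c27)) = (LP (LK LD1_c0 LD2_c8 LD3_c44)) :=
  Lre_d IH (LK LD1_c0 LD2_c19 LD3_c27) (LK LD1_c0 LD2_c8 LD3_c44) Lrfl Lrfl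
theorem f127327 : Led Lsl_dt (LP (LK LD1_c3 LD2_c14 LD3_c52)) = (LP (LK LD1_c3 LD2_c44 LD3_c55)) :=
  Lgr Lrot57 (Lpr_gf (f127325 IH) (Lpe (f91850 IH) (Lpr_gt (f24029 IH) (Lpr_dt (f24307 IH) (Lpr_gt (K3.f24308 IH) (Lpr_dt (K3.f24309 IH) (Lpe (K3.f26160 IH) (Lpe (K3.f91771 IH) (Lpe (K4.f58787 IH) (Lpn (LP (LK LD1_c3 LD2_c44 LD3_c55))))))))))))
theorem f127342 : Led Lsl_ff (LP (LK LD1_c3 LD2_c14 LD3_c52)) = (LP (LK LD1_c1 LD2_c49 LD3_c45)) :=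
  Lgr Lrot19 (Lpr_dt (f127327 IH) (Lpr_ft (K4.f111063 IH) (Lpr_dt (K4.f93110 IH) (Lpn (LP (LK LD1_c1 LD2_c49 LD3_c45))))))
theorem f127350 : Led Lsl_ct (LP (LK LD1_c3 LD2_c14 LD3_c52)) = (LP (LK LD1_c1 LD2_c49 LD3_c47)) :=
  Lgr Lrot40 (Lpr_ff (f127342 IH) (Lpe (K2.f62890 IH) (Lpe (K2.f95551 IH) (Lpn (LP (LK LD1_c1 LD2_c49 LD3_c47))))))
theorem f127317 : Led Lsl_bt (LP (LK LD1_c3 LD2_c14 LD3_c59)) = (LP (LK LD1_c1 LD2_c34 LD3_c0)) :=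
  Lre_b IH (LK LD1_c3 LD2_c14 LD3_c59) (LK LD1_c1 LD2_c34 LD3_c0) Lrfl Lrfl
theorem f127330 : Led Lsl_ct (LP (LK LD1_c3 LD2_c14 LD3_c59)) = (LP (LK LD1_c6 LD2_c33 LD3_c19)) :=
  Lre_c IH (LK LD1_c3 LD2_c14 LD3_c59) (LK LD1_c6 LD2_c33 LD3_c19) Lrfl Lrfl
theorem f25295 : Led Lsl_dt (LP (LK LD1_c0 LD2_c13 LD3_c42)) = (LP (LK LD1_c0 LD2_c30 LD3_c53)) :=
  Lre_d IH (LK LD1_c0 LD2_c13 LD3_c42) (LK LD1_c0 LD2_c30 LD3_c53) Lrfl Lrfl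
theorem f116722 : Led Lsl_gf (LP (LK LD1_c1 LD2_c29 LD3_c41)) = (LP (LK LD1_c1 LD2_c49 LD3_c47)) :=
  Lgr Lrot147 (Lpr_ct (K4.f89322 IH) (Lpr_gt (K4.f116711 IH) (Lpr_ct (K4.f25191 IH) (Lpe (f25295 IH) (Lpe (K2.f23297 IH) (Lpe (K2.f23310 IH) (Lpe (K3.f79264 IH) (Lpr_gf (K3.f104188 IH) (Lpe (K2.f95548 IH) (Lpn (LP (LK LD1_c1 LD2_c49 LD3_c47))))))))))))
theorem f89305 : Led Lsl_ct (LP (LK LD1_c3 LD2_c48 LD3_c38)) = (LP (LK LD1_c7 LD2_c38 LD3_c16)) :=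
  Lre_c IH (LK LD1_c3 LD2_c48 LD3_c38) (LK LD1_c7 LD2_c38 LD3_c16) Lrfl Lrfl
theorem f127358 : Led Lsl_gf (LP (LK LD1_c6 LD2_c33 LD3_c19)) = (LP (LK LD1_c7 LD2_c38 LD3_c16)) :=
  Lgr Lrot126 (Lpe (f127330 IH) (Lpr_bt (f127317 IH) (Lpe (f127325 IH) (Lpr_ct (f127350 IH) (Lpe (f116722 IH) (Lpr_cf (K4.f89394 IH) (Lpr_bt (K4.f64610 IH) (Lpr_gt (K2.f17456 IH) (Lpe (K4.f89303 IH) (Lpr_ct (f89305 IH) (Lpn (LP (LK LD1_c7 LD2_c38 LD3_c16)))))))))))))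
theorem f64393 : Led Lsl_bt (LP (LK LD1_c3 LD2_c50 LD3_c49)) = (LP (LK LD1_c1 LD2_c52 LD3_c17)) :=
  Lre_b IH (LK LD1_c3 LD2_c50 LD3_c49) (LK LD1_c1 LD2_c52 LD3_c17) Lrfl Lrfl
theorem f64395 : Led Lsl_ct (LP (LK LD1_c3 LD2_c50 LD3_c49)) = (LP (LK LD1_c7 LD2_c42 LD3_c43)) :=
  Lre_c IH (LK LD1_c3 LD2_c50 LD3_c49) (LK LD1_c7 LD2_c42 LD3_c43) Lrfl Lrfl
theorem f89306 : Led Lsl_gt (LP (LK LD1_c7 LD2_c42 LD3_c43)) = (LP (LK LD1_c7 LD2_c38 LD3_c16)) :=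
  Lgr Lrot65 (Lpe (f64395 IH) (Lpr_bt (f64393 IH) (Lpe (K3.f64390 IH) (Lpe (K4.f18237 IH) (Lpr_ct (K1.f63495 IH) (Lpe (K2.f87353 IH) (Lpr_cf (K2.f84974 IH) (Lpr_gf (K2.f89295 IH) (Lpe (K4.f89303 IH) (Lpr_ct (f89305 IH) (Lpn (LP (LK LD1_c7 LD2_c38 LD3_c16)))))))))))))
theorem f90172 : Led Lsl_ct (LP (LK LD1_c6 LD2_c55 LD3_c61)) = (LP (LK LD1_c3 LD2_c27 LD3_c3)) :=
  Lre_c IH (LK LD1_c6 LD2_c55 LD3_c61) (LK LD1_c3 LD2_c27 LD3_c3) Lrfl Lrfl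
theorem f97754 : Led Lsl_ff (LP (LK LD1_c6 LD2_c55 LD3_c61)) = (LP (LK LD1_c7 LD2_c42 LD3_c43)) :=
  Lgr Lrot23 (Lpr_ct (f90172 IH) (Lpr_ft (K3.f97748 IH) (Lpr_ct (f64395 IH) (Lpn (LP (LK LD1_c7 LD2_c42 LD3_c43))))))
theorem f127360 : Led Lsl_af (LP (LK LD1_c6 LD2_c33 LD3_c19)) = (LP (LK LD1_c6 LD2_c55 LD3_c61)) :=
  Lgr Lrot31 (Lpr_gf (f127358 IH) (Lpe (f89306 IH) (Lpe (f97754 IH) (Lpn (LP (LK LD1_c6 LD2_c55 LD3_c61))))))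
theorem f127369 : Led Lsl_et (LP (LK LD1_c6 LD2_c33 LD3_c19)) = (LP (LK LD1_c12 LD2_c33 LD3_c53)) :=
  Lre_e IH (LK LD1_c6 LD2_c33 LD3_c19) (LK LD1_c12 LD2_c33 LD3_c53) Lrfl Lrfl
theorem f93543 : Led Lsl_et (LP (LK LD1_c13 LD2_c9 LD3_c60)) = (LP (LK LD1_c6 LD2_c55 LD3_c61)) :=
  Lre_e IH (LK LD1_c13 LD2_c9 LD3_c60) (LK LD1_c6 LD2_c55 LD3_c61) Lrfl Lrfl
theorem f127370 : Led Lsl_at (LP (LK LD1_c12 LD2_c33 LD3_c53)) = (LP (LK LD1_c13 LD2_c9 LD3_c60)) :=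
  Lgr Lrot80 (Lpe (f127369 IH) (Lpr_af (f127360 IH) (Lpe (f93543 IH) (Lpn (LP (LK LD1_c13 LD2_c9 LD3_c60))))))
theorem f127375 : Led Lsl_ct (LP (LK LD1_c6 LD2_c33 LD3_c24)) = (LP (LK LD1_c12 LD2_c33 LD3_c53)) :=
  Lre_c IH (LK LD1_c6 LD2_c33 LD3_c24) (LK LD1_c12 LD2_c33 LD3_c53) Lrfl Lrfl
theorem f90155 : Led Lsl_ct (LP (LK LD1_c13 LD2_c9 LD3_c60)) = (LP (LK LD1_c6 LD2_c56 LD3_c0)) :=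
  Lre_c IH (LK LD1_c13 LD2_c9 LD3_c60) (LK LD1_c6 LD2_c56 LD3_c0) Lrfl Lrfl
theorem f127376 : Led Lsl_af (LP (LK LD1_c6 LD2_c33 LD3_c24)) = (LP (LK LD1_c6 LD2_c56 LD3_c0)) :=
  Lgr Lrot68 (Lpr_ct (f127375 IH) (Lpr_at (f127370 IH) (Lpr_ct (f90155 IH) (Lpn (LP (LK LD1_c6 LD2_c56 LD3_c0))))))
theorem f127383 : Led Lsl_dt (LP (LK LD1_c6 LD2_c33 LD3_c24)) = (LP (LK LD1_c12 LD2_c33 LD3_c59)) :=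
  Lre_d IH (LK LD1_c6 LD2_c33 LD3_c24) (LK LD1_c12 LD2_c33 LD3_c59) Lrfl Lrfl
theorem f127378 : Led Lsl_dt (LP (LK LD1_c13 LD2_c10 LD3_c1)) = (LP (LK LD1_c6 LD2_c56 LD3_c0)) :=
  Lre_d IH (LK LD1_c13 LD2_c10 LD3_c1) (LK LD1_c6 LD2_c56 LD3_c0) Lrfl Lrfl
theorem f127384 : Led Lsl_at (LP (LK LD1_c12 LD2_c33 LD3_c59)) = (LP (LK LD1_c13 LD2_c10 LD3_c1)) :=
  Lgr Lrot51 (Lpe (f127383 IH) (Lpr_af (f127376 IH) (Lpe (f127378 IH) (Lpn (LP (LK LD1_c13 LD2_c10 LD3_c1))))))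
theorem f127398 : Led Lsl_et (LP (LK LD1_c13 LD2_c10 LD3_c1)) = (LP (LK LD1_c6 LD2_c56 LD3_c3)) :=
  Lre_e IH (LK LD1_c13 LD2_c10 LD3_c1) (LK LD1_c6 LD2_c56 LD3_c3) Lrfl Lrfl
theorem f89872 : Led Lsl_at (LP (LK LD1_c6 LD2_c56 LD3_c3)) = (LP (LK LD1_c13 LD2_c9 LD3_c53)) :=
  Lre_a IH (LK LD1_c6 LD2_c56 LD3_c3) (LK LD1_c13 LD2_c9 LD3_c53) Lrfl Lrfl
theorem f127399 : Led Lsl_ef (LP (LK LD1_c12 LD2_c33 LD3_c59)) = (LP (LK LD1_c13 LD2_c9 LD3_c53)) :=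
  Lgr Lrot20 (Lpr_at (f127384 IH) (Lpr_et (f127398 IH) (Lpr_at (f89872 IH) (Lpn (LP (LK LD1_c13 LD2_c9 LD3_c53))))))
theorem f127410 : Led Lsl_et (LP (LK LD1_c12 LD2_c33 LD3_c59)) = (LP (LK LD1_c13 LD2_c9 LD3_c53)) :=
  Lgr Lrot87 (Lpr_ef (f127399 IH) (Lpn (LP (LK LD1_c13 LD2_c9 LD3_c53))))
theorem f127420 : Led Lsl_et (LP (LK LD1_c3 LD2_c14 LD3_c59)) = (LP (LK LD1_c6 LD2_c33 LD3_c24)) :=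
  Lre_e IH (LK LD1_c3 LD2_c14 LD3_c59) (LK LD1_c6 LD2_c33 LD3_c24) Lrfl Lrfl
theorem f97895 : Led Lsl_dt (LP (LK LD1_c13 LD2_c9 LD3_c53)) = (LP (LK LD1_c6 LD2_c55 LD3_c57)) :=
  Lre_d IH (LK LD1_c13 LD2_c9 LD3_c53) (LK LD1_c6 LD2_c55 LD3_c57) Lrfl Lrfl
theorem f127421 : Led Lsl_df (LP (LK LD1_c3 LD2_c14 LD3_c59)) = (LP (LK LD1_c3 LD2_c27 LD3_c1)) :=
  Lgr Lrot70 (Lpr_et (f127420 IH) (Lpr_dt (f127383 IH) (Lpr_et (f127410 IH) (Lpr_dt (f97895 IH) (Lpr_et (K3.f97882 IH) (Lpn (LP (LK LD1_c3 LD2_c27 LD3_c1))))))))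
theorem f127257 : Led Lsl_dt (LP (LK LD1_c4 LD2_c44 LD3_c10)) = (LP (LK LD1_c3 LD2_c50 LD3_c48)) :=
  Lgr Lrot42 (Lpr_df (f127253 IH) (Lpn (LP (LK LD1_c3 LD2_c50 LD3_c48))))
theorem f127425 : Led Lsl_ft (LP (LK LD1_c3 LD2_c14 LD3_c59)) = (LP (LK LD1_c4 LD2_c44 LD3_c10)) :=
  Lgr Lrot54 (Lpr_df (f127421 IH) (Lpr_ff (K3.f97872 IH) (Lpe (f127257 IH) (Lpn (LP (LK LD1_c4 LD2_c44 LD3_c10))))))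
theorem f127329 : Led Lsl_ct (LP (LK LD1_c6 LD2_c33 LD3_c19)) = (LP (LK LD1_c3 LD2_c14 LD3_c59)) :=
  Lre_c IH (LK LD1_c6 LD2_c33 LD3_c19) (LK LD1_c3 LD2_c14 LD3_c59) Lrfl Lrfl
theorem f127442 : Led Lsl_ff (LP (LK LD1_c6 LD2_c33 LD3_c19)) = (LP (LK LD1_c9 LD2_c21 LD3_c8)) :=
  Lgr Lrot23 (Lpr_ct (f127329 IH) (Lpr_ft (f127425 IH) (Lpr_ct (K4.f111874 IH) (Lpn (LP (LK LD1_c9 LD2_c21 LD3_c8))))))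
theorem f127458 : Led Lsl_ft (LP (LK LD1_c6 LD2_c33 LD3_c19)) = (LP (LK LD1_c9 LD2_c21 LD3_c8)) :=
  Lgr Lrot48 (Lpr_ff (f127442 IH) (Lpn (LP (LK LD1_c9 LD2_c21 LD3_c8))))
theorem f127362 : Led Lsl_bt (LP (LK LD1_c3 LD2_c14 LD3_c57)) = (LP (LK LD1_c6 LD2_c33 LD3_c19)) :=
  Lre_b IH (LK LD1_c3 LD2_c14 LD3_c57) (LK LD1_c6 LD2_c33 LD3_c19) Lrfl Lrfl
theorem f127264 : Led Lsl_bt (LP (LK LD1_c9 LD2_c21 LD3_c8)) = (LP (LK LD1_c4 LD2_c44 LD3_c8)) :=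
  Lre_b IH (LK LD1_c9 LD2_c21 LD3_c8) (LK LD1_c4 LD2_c44 LD3_c8) Lrfl Lrfl
theorem f127462 : Led Lsl_ff (LP (LK LD1_c3 LD2_c14 LD3_c57)) = (LP (LK LD1_c4 LD2_c44 LD3_c8)) :=
  Lgr Lrot25 (Lpr_bt (f127362 IH) (Lpr_ft (f127458 IH) (Lpr_bt (f127264 IH) (Lpn (LP (LK LD1_c4 LD2_c44 LD3_c8))))))
theorem f24315 : Led Lsl_ct (LP (LK LD1_c3 LD2_c14 LD3_c57)) = (LP (LK LD1_c1 LD2_c33 LD3_c61)) :=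
  Lre_c IH (LK LD1_c3 LD2_c14 LD3_c57) (LK LD1_c1 LD2_c33 LD3_c61) Lrfl Lrfl
theorem f25212 : Led Lsl_ct (LP (LK LD1_c2 LD2_c20 LD3_c3)) = (LP (LK LD1_c4 LD2_c44 LD3_c8)) :=
  Lre_c IH (LK LD1_c2 LD2_c20 LD3_c3) (LK LD1_c4 LD2_c44 LD3_c8) Lrfl Lrfl
theorem f127465 : Led Lsl_ft (LP (LK LD1_c1 LD2_c33 LD3_c61)) = (LP (LK LD1_c2 LD2_c20 LD3_c3)) :=
  Lgr Lrot4 (Lpe (f24315 IH) (Lpr_ff (f127462 IH) (Lpe (f25212 IH) (Lpn (LP (LK LD1_c2 LD2_c20 LD3_c3))))))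
theorem f127478 : Led Lsl_ff (LP (LK LD1_c1 LD2_c33 LD3_c61)) = (LP (LK LD1_c2 LD2_c20 LD3_c3)) :=
  Lgr Lrot3 (Lpr_ft (f127465 IH) (Lpn (LP (LK LD1_c2 LD2_c20 LD3_c3))))
theorem f126560 : Led Lsl_bt (LP (LK LD1_c0 LD2_c43 LD3_c37)) = (LP (LK LD1_c1 LD2_c33 LD3_c61)) :=
  Lre_b IH (LK LD1_c0 LD2_c43 LD3_c37) (LK LD1_c1 LD2_c33 LD3_c61) Lrfl Lrfl
theorem f126561 : Led Lsl_df (LP (LK LD1_c1 LD2_c37 LD3_c41)) = (LP (LK LD1_c1 LD2_c33 LD3_c61)) :=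
  Lgr Lrot12 (Lpr_bt (K4.f25139 IH) (Lpr_dt (f126558 IH) (Lpr_bt (f126560 IH) (Lpn (LP (LK LD1_c1 LD2_c33 LD3_c61))))))
theorem f25211 : Led Lsl_bt (LP (LK LD1_c2 LD2_c20 LD3_c3)) = (LP (LK LD1_c1 LD2_c7 LD3_c18)) :=
  Lre_b IH (LK LD1_c2 LD2_c20 LD3_c3) (LK LD1_c1 LD2_c7 LD3_c18) Lrfl Lrfl
theorem f127121 : Led Lsl_df (LP (LK LD1_c2 LD2_c20 LD3_c3)) = (LP (LK LD1_c1 LD2_c26 LD3_c33)) :=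
  Lgr Lrot12 (Lpr_bt (f25211 IH) (Lpr_dt (f127119 IH) (Lpr_bt (K2.f62328 IH) (Lpn (LP (LK LD1_c1 LD2_c26 LD3_c33))))))
theorem f127483 : Led Lsl_ft (LP (LK LD1_c1 LD2_c37 LD3_c41)) = (LP (LK LD1_c1 LD2_c26 LD3_c33)) :=
  Lgr Lrot54 (Lpr_df (f126561 IH) (Lpr_ff (f127478 IH) (Lpr_df (f127121 IH) (Lpn (LP (LK LD1_c1 LD2_c26 LD3_c33))))))
theorem f127494 : Led Lsl_af (LP (LK LD1_c1 LD2_c29 LD3_c43)) = (LP (LK LD1_c1 LD2_c26 LD3_c33)) :=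
  Lgr Lrot31 (Lpr_gf (f114468 IH) (Lpr_gf (K4.f114916 IH) (Lpr_ft (f127483 IH) (Lpn (LP (LK LD1_c1 LD2_c26 LD3_c33))))))
theorem f127488 : Led Lsl_ff (LP (LK LD1_c1 LD2_c26 LD3_c43)) = (LP (LK LD1_c1 LD2_c29 LD3_c43)) :=
  Lgr Lrot23 (Lpe (K4.f77838 IH) (Lpr_ft (f127483 IH) (Lpe (K4.f62329 IH) (Lpn (LP (LK LD1_c1 LD2_c29 LD3_c43))))))
theorem f127498 : Led Lsl_at (LP (LK LD1_c1 LD2_c26 LD3_c43)) = (LP (LK LD1_c1 LD2_c37 LD3_c41)) :=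
  Lgr Lrot66 (Lpr_ff (f127488 IH) (Lpr_af (f127494 IH) (Lpe (f127483 IH) (Lpn (LP (LK LD1_c1 LD2_c37 LD3_c41))))))
theorem f127500 : Led Lsl_af (LP (LK LD1_c0 LD2_c43 LD3_c48)) = (LP (LK LD1_c1 LD2_c7 LD3_c14)) :=
  Lgr Lrot50 (Lpr_et (f126596 IH) (Lpr_at (f127498 IH) (Lpe (f126594 IH) (Lpn (LP (LK LD1_c1 LD2_c7 LD3_c14))))))
theorem f78118 : Led Lsl_dt (LP (LK LD1_c9 LD2_c20 LD3_c59)) = (LP (LK LD1_c4 LD2_c44 LD3_c2)) :=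
  Lre_d IH (LK LD1_c9 LD2_c20 LD3_c59) (LK LD1_c4 LD2_c44 LD3_c2) Lrfl Lrfl
theorem f126599 : Led Lsl_et (LP (LK LD1_c1 LD2_c7 LD3_c14)) = (LP (LK LD1_c1 LD2_c37 LD3_c41)) :=
  Lgr Lrot87 (Lpr_ef (f126594 IH) (Lpn (LP (LK LD1_c1 LD2_c37 LD3_c41))))
theorem f24397 : Led Lsl_et (LP (LK LD1_c1 LD2_c33 LD3_c53)) = (LP (LK LD1_c0 LD2_c43 LD3_c31)) :=
  Lre_e IH (LK LD1_c1 LD2_c33 LD3_c53) (LK LD1_c0 LD2_c43 LD3_c31) Lrfl Lrfl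
theorem f127490 : Led Lsl_ff (LP (LK LD1_c1 LD2_c7 LD3_c14)) = (LP (LK LD1_c0 LD2_c43 LD3_c31)) :=
  Lgr Lrot72 (Lpr_et (f126599 IH) (Lpr_ft (f127483 IH) (Lpr_et (K2.f62640 IH) (Lpe (f125370 IH) (Lpr_et (f24397 IH) (Lpn (LP (LK LD1_c0 LD2_c43 LD3_c31))))))))
theorem f24388 : Led Lsl_dt (LP (LK LD1_c3 LD2_c14 LD3_c39)) = (LP (LK LD1_c6 LD2_c32 LD3_c49)) :=
  Lre_d IH (LK LD1_c3 LD2_c14 LD3_c39) (LK LD1_c6 LD2_c32 LD3_c49) Lrfl Lrfl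
theorem f127508 : Led Lsl_cf (LP (LK LD1_c9 LD2_c20 LD3_c59)) = (LP (LK LD1_c6 LD2_c32 LD3_c49)) :=
  Lgr Lrot116 (Lpr_dt (f78118 IH) (Lpr_ct (K3.f78117 IH) (Lpr_dt (K3.f78133 IH) (Lpe (K3.f79261 IH) (Lpr_af (f127500 IH) (Lpr_ff (f127490 IH) (Lpr_dt (K4.f24386 IH) (Lpr_ct (K4.f24387 IH) (Lpr_dt (f24388 IH) (Lpn (LP (LK LD1_c6 LD2_c32 LD3_c49))))))))))))
theorem f127506 : Led Lsl_at (LP (LK LD1_c1 LD2_c34 LD3_c16)) = (LP (LK LD1_c2 LD2_c19 LD3_c58)) :=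
  Lgr Lrot51 (Lpe (K2.f23344 IH) (Lpr_af (f127500 IH) (Lpe (K3.f78133 IH) (Lpn (LP (LK LD1_c2 LD2_c19 LD3_c58))))))
theorem f127516 : Led Lsl_ff (LP (LK LD1_c1 LD2_c34 LD3_c16)) = (LP (LK LD1_c3 LD2_c12 LD3_c0)) :=
  Lgr Lrot103 (Lpr_at (f127506 IH) (Lpe (K3.f78117 IH) (Lpe (f78118 IH) (Lpr_cf (f127508 IH) (Lpe (f24388 IH) (Lpe (K4.f24387 IH) (Lpe (K4.f24386 IH) (Lpe (K3.f24381 IH) (Lpe (K4.f24385 IH) (Lpn (LP (LK LD1_c3 LD2_c12 LD3_c0))))))))))))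
theorem f127529 : Led Lsl_ft (LP (LK LD1_c1 LD2_c34 LD3_c16)) = (LP (LK LD1_c3 LD2_c12 LD3_c0)) :=
  Lgr Lrot48 (Lpr_ff (f127516 IH) (Lpn (LP (LK LD1_c3 LD2_c12 LD3_c0))))
theorem f127535 : Led Lsl_af (LP (LK LD1_c1 LD2_c33 LD3_c52)) = (LP (LK LD1_c3 LD2_c12 LD3_c0)) :=
  Lgr Lrot31 (Lpr_gf (K4.f114920 IH) (Lpe (K2.f79091 IH) (Lpr_ft (f127529 IH) (Lpn (LP (LK LD1_c3 LD2_c12 LD3_c0))))))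
theorem f127543 : Led Lsl_at (LP (LK LD1_c0 LD2_c43 LD3_c31)) = (LP (LK LD1_c1 LD2_c32 LD3_c26)) :=
  Lgr Lrot51 (Lpe (K4.f24389 IH) (Lpr_af (f127535 IH) (Lpe (K4.f24400 IH) (Lpn (LP (LK LD1_c1 LD2_c32 LD3_c26))))))
theorem f113082 : Led Lsl_ff (LP (LK LD1_c1 LD2_c29 LD3_c43)) = (LP (LK LD1_c1 LD2_c26 LD3_c43)) :=
  Lgr Lrot25 (Lpr_bt (K2.f25021 IH) (Lpr_ft (K4.f113079 IH) (Lpe (K3.f61675 IH) (Lpn (LP (LK LD1_c1 LD2_c26 LD3_c43))))))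
theorem f62649 : Led Lsl_et (LP (LK LD1_c1 LD2_c29 LD3_c43)) = (LP (LK LD1_c3 LD2_c7 LD3_c3)) :=
  Lre_e IH (LK LD1_c1 LD2_c29 LD3_c43) (LK LD1_c3 LD2_c7 LD3_c3) Lrfl Lrfl
theorem f125368 : Led Lsl_ff (LP (LK LD1_c3 LD2_c12 LD3_c1)) = (LP (LK LD1_c3 LD2_c7 LD3_c3)) :=
  Lgr Lrot23 (Lpr_ct (f24348 IH) (Lpr_ft (f125366 IH) (Lpe (K2.f62629 IH) (Lpn (LP (LK LD1_c3 LD2_c7 LD3_c3))))))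
theorem f126608 : Led Lsl_ff (LP (LK LD1_c0 LD2_c43 LD3_c48)) = (LP (LK LD1_c1 LD2_c32 LD3_c26)) :=
  Lgr Lrot72 (Lpr_et (f126596 IH) (Lpe (f113082 IH) (Lpr_et (f62649 IH) (Lpe (f125368 IH) (Lpr_et (K3.f24379 IH) (Lpn (LP (LK LD1_c1 LD2_c32 LD3_c26))))))))
theorem f127502 : Led Lsl_at (LP (LK LD1_c0 LD2_c43 LD3_c48)) = (LP (LK LD1_c1 LD2_c7 LD3_c14)) :=
  Lgr Lrot100 (Lpr_af (f127500 IH) (Lpn (LP (LK LD1_c1 LD2_c7 LD3_c14))))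
theorem f127551 : Led Lsl_ff (LP (LK LD1_c0 LD2_c43 LD3_c31)) = (LP (LK LD1_c1 LD2_c7 LD3_c14)) :=
  Lgr Lrot30 (Lpr_at (f127543 IH) (Lpe (f126608 IH) (Lpr_at (f127502 IH) (Lpn (LP (LK LD1_c1 LD2_c7 LD3_c14))))))
theorem f127555 : Led Lsl_ft (LP (LK LD1_c1 LD2_c33 LD3_c52)) = (LP (LK LD1_c2 LD2_c19 LD3_c58)) :=
  Lgr Lrot54 (Lpe (K4.f24386 IH) (Lpr_ff (f127551 IH) (Lpe (K3.f78133 IH) (Lpn (LP (LK LD1_c2 LD2_c19 LD3_c58))))))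
theorem f127561 : Led Lsl_ff (LP (LK LD1_c1 LD2_c33 LD3_c52)) = (LP (LK LD1_c2 LD2_c19 LD3_c58)) :=
  Lgr Lrot3 (Lpr_ft (f127555 IH) (Lpn (LP (LK LD1_c2 LD2_c19 LD3_c58))))
theorem f127563 : Led Lsl_ft (LP (LK LD1_c3 LD2_c14 LD3_c39)) = (LP (LK LD1_c4 LD2_c44 LD3_c2)) :=
  Lgr Lrot4 (Lpe (K4.f24387 IH) (Lpr_ff (f127561 IH) (Lpe (K3.f78117 IH) (Lpn (LP (LK LD1_c4 LD2_c44 LD3_c2))))))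
theorem f127569 : Led Lsl_af (LP (LK LD1_c3 LD2_c15 LD3_c14)) = (LP (LK LD1_c4 LD2_c44 LD3_c2)) :=
  Lgr Lrot31 (Lpe (K4.f104168 IH) (Lpe (K4.f114926 IH) (Lpr_ft (f127563 IH) (Lpn (LP (LK LD1_c4 LD2_c44 LD3_c2))))))
theorem f127571 : Led Lsl_at (LP (LK LD1_c3 LD2_c15 LD3_c14)) = (LP (LK LD1_c4 LD2_c44 LD3_c2)) :=
  Lgr Lrot100 (Lpr_af (f127569 IH) (Lpn (LP (LK LD1_c4 LD2_c44 LD3_c2))))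
theorem f79106 : Led Lsl_bt (LP (LK LD1_c1 LD2_c31 LD3_c48)) = (LP (LK LD1_c3 LD2_c10 LD3_c46)) :=
  Lre_b IH (LK LD1_c1 LD2_c31 LD3_c48) (LK LD1_c3 LD2_c10 LD3_c46) Lrfl Lrfl
theorem f69190 : Led Lsl_ct (LP (LK LD1_c3 LD2_c10 LD3_c46)) = (LP (LK LD1_c6 LD2_c25 LD3_c59)) :=
  Lre_c IH (LK LD1_c3 LD2_c10 LD3_c46) (LK LD1_c6 LD2_c25 LD3_c59) Lrfl Lrfl
theorem f79107 : Led Lsl_bt (LP (LK LD1_c6 LD2_c25 LD3_c59)) = (LP (LK LD1_c3 LD2_c15 LD3_c14)) :=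
  Lgr Lrot128 (Lpe (f69190 IH) (Lpe (f79106 IH) (Lpr_cf (K2.f79095 IH) (Lpr_bf (K2.f23559 IH) (Lpe (K4.f23567 IH) (Lpn (LP (LK LD1_c3 LD2_c15 LD3_c14))))))))
theorem f79199 : Led Lsl_at (LP (LK LD1_c12 LD2_c24 LD3_c7)) = (LP (LK LD1_c6 LD2_c25 LD3_c59)) :=
  Lre_a IH (LK LD1_c12 LD2_c24 LD3_c7) (LK LD1_c6 LD2_c25 LD3_c59) Lrfl Lrfl
theorem f104170 : Led Lsl_bt (LP (LK LD1_c4 LD2_c44 LD3_c2)) = (LP (LK LD1_c9 LD2_c20 LD3_c58)) :=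
  Lre_b IH (LK LD1_c4 LD2_c44 LD3_c2) (LK LD1_c9 LD2_c20 LD3_c58) Lrfl Lrfl
theorem f111014 : Led Lsl_ct (LP (LK LD1_c4 LD2_c44 LD3_c3)) = (LP (LK LD1_c9 LD2_c20 LD3_c58)) :=
  Lre_c IH (LK LD1_c4 LD2_c44 LD3_c3) (LK LD1_c9 LD2_c20 LD3_c58) Lrfl Lrfl
theorem f94701 : Led Lsl_ct (LP (LK LD1_c6 LD2_c56 LD3_c29)) = (LP (LK LD1_c3 LD2_c27 LD3_c16)) :=
  Lre_c IH (LK LD1_c6 LD2_c56 LD3_c29) (LK LD1_c3 LD2_c27 LD3_c16) Lrfl Lrfl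
theorem f120441 : Led Lsl_at (LP (LK LD1_c9 LD2_c20 LD3_c58)) = (LP (LK LD1_c6 LD2_c56 LD3_c29)) :=
  Lgr Lrot107 (Lpe (f111014 IH) (Lpr_af (K4.f120435 IH) (Lpe (f94701 IH) (Lpn (LP (LK LD1_c6 LD2_c56 LD3_c29))))))
theorem f127583 : Led Lsl_bf (LP (LK LD1_c12 LD2_c24 LD3_c7)) = (LP (LK LD1_c6 LD2_c56 LD3_c29)) :=
  Lgr Lrot81 (Lpr_at (f79199 IH) (Lpr_bt (f79107 IH) (Lpr_at (f127571 IH) (Lpr_bt (f104170 IH) (Lpr_at (f120441 IH) (Lpn (LP (LK LD1_c6 LD2_c56 LD3_c29))))))))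
theorem f127585 : Led Lsl_bt (LP (LK LD1_c12 LD2_c24 LD3_c7)) = (LP (LK LD1_c6 LD2_c56 LD3_c29)) :=
  Lgr Lrot127 (Lpr_bf (f127583 IH) (Lpn (LP (LK LD1_c6 LD2_c56 LD3_c29))))
theorem f79165 : Led Lsl_at (LP (LK LD1_c6 LD2_c25 LD3_c59)) = (LP (LK LD1_c12 LD2_c24 LD3_c7)) :=
  Lre_a IH (LK LD1_c6 LD2_c25 LD3_c59) (LK LD1_c12 LD2_c24 LD3_c7) Lrfl Lrfl
theorem f79109 : Led Lsl_ct (LP (LK LD1_c1 LD2_c31 LD3_c48)) = (LP (LK LD1_c2 LD2_c19 LD3_c46)) :=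
  Lgr Lrot59 (Lpr_cf (K2.f79095 IH) (Lpn (LP (LK LD1_c2 LD2_c19 LD3_c46))))
theorem f69189 : Led Lsl_bt (LP (LK LD1_c3 LD2_c10 LD3_c46)) = (LP (LK LD1_c1 LD2_c31 LD3_c48)) :=
  Lre_b IH (LK LD1_c3 LD2_c10 LD3_c46) (LK LD1_c1 LD2_c31 LD3_c48) Lrfl Lrfl
theorem f79160 : Led Lsl_ct (LP (LK LD1_c6 LD2_c25 LD3_c59)) = (LP (LK LD1_c3 LD2_c10 LD3_c46)) :=
  Lre_c IH (LK LD1_c6 LD2_c25 LD3_c59) (LK LD1_c3 LD2_c10 LD3_c46) Lrfl Lrfl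
theorem f79161 : Led Lsl_bf (LP (LK LD1_c6 LD2_c25 LD3_c59)) = (LP (LK LD1_c3 LD2_c15 LD3_c14)) :=
  Lgr Lrot90 (Lpr_ct (f79160 IH) (Lpr_bt (f69189 IH) (Lpr_ct (f79109 IH) (Lpr_bt (K2.f23565 IH) (Lpr_ct (K4.f23570 IH) (Lpn (LP (LK LD1_c3 LD2_c15 LD3_c14))))))))
theorem f78397 : Led Lsl_bt (LP (LK LD1_c9 LD2_c20 LD3_c58)) = (LP (LK LD1_c4 LD2_c44 LD3_c2)) :=
  Lre_b IH (LK LD1_c9 LD2_c20 LD3_c58) (LK LD1_c4 LD2_c44 LD3_c2) Lrfl Lrfl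
theorem f127627 : Led Lsl_af (LP (LK LD1_c9 LD2_c20 LD3_c58)) = (LP (LK LD1_c6 LD2_c56 LD3_c29)) :=
  Lgr Lrot36 (Lpr_bt (f78397 IH) (Lpe (f127569 IH) (Lpe (f79161 IH) (Lpr_at (f79165 IH) (Lpr_bt (f127585 IH) (Lpn (LP (LK LD1_c6 LD2_c56 LD3_c29))))))))
theorem f92756 : Led Lsl_bt (LP (LK LD1_c3 LD2_c45 LD3_c59)) = (LP (LK LD1_c1 LD2_c50 LD3_c4)) :=
  Lre_b IH (LK LD1_c3 LD2_c45 LD3_c59) (LK LD1_c1 LD2_c50 LD3_c4) Lrfl Lrfl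
theorem f92758 : Led Lsl_ct (LP (LK LD1_c3 LD2_c45 LD3_c59)) = (LP (LK LD1_c7 LD2_c32 LD3_c46)) :=
  Lre_c IH (LK LD1_c3 LD2_c45 LD3_c59) (LK LD1_c7 LD2_c32 LD3_c46) Lrfl Lrfl
theorem f111015 : Led Lsl_gf (LP (LK LD1_c9 LD2_c20 LD3_c58)) = (LP (LK LD1_c7 LD2_c32 LD3_c46)) :=
  Lgr Lrot126 (Lpe (f111014 IH) (Lpr_bt (K4.f111013 IH) (Lpr_gt (K4.f111009 IH) (Lpr_ct (K4.f62284 IH) (Lpr_gt (K2.f62315 IH) (Lpr_cf (K3.f61908 IH) (Lpe (K3.f104278 IH) (Lpr_gt (K3.f87187 IH) (Lpe (f92756 IH) (Lpr_ct (f92758 IH) (Lpn (LP (LK LD1_c7 LD2_c32 LD3_c46)))))))))))))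
theorem f17142 : Led Lsl_ct (LP (LK LD1_c3 LD2_c50 LD3_c58)) = (LP (LK LD1_c7 LD2_c43 LD3_c3)) :=
  Lre_c IH (LK LD1_c3 LD2_c50 LD3_c58) (LK LD1_c7 LD2_c43 LD3_c3) Lrfl Lrfl
theorem f92759 : Led Lsl_gf (LP (LK LD1_c7 LD2_c32 LD3_c46)) = (LP (LK LD1_c7 LD2_c43 LD3_c3)) :=
  Lgr Lrot126 (Lpe (f92758 IH) (Lpr_bt (f92756 IH) (Lpr_gt (K3.f92648 IH) (Lpe (K3.f65228 IH) (Lpr_gt (K1.f64617 IH) (Lpe (K2.f65193 IH) (Lpr_bt (K3.f15533 IH) (Lpr_gt (K2.f11835 IH) (Lpe (K4.f17140 IH) (Lpr_ct (f17142 IH) (Lpn (LP (LK LD1_c7 LD2_c43 LD3_c3)))))))))))))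
theorem f127630 : Led Lsl_ft (LP (LK LD1_c7 LD2_c43 LD3_c3)) = (LP (LK LD1_c6 LD2_c56 LD3_c29)) :=
  Lgr Lrot2 (Lpe (f92759 IH) (Lpe (f111015 IH) (Lpr_af (f127627 IH) (Lpn (LP (LK LD1_c6 LD2_c56 LD3_c29))))))
theorem f127634 : Led Lsl_ff (LP (LK LD1_c7 LD2_c43 LD3_c3)) = (LP (LK LD1_c6 LD2_c56 LD3_c29)) :=
  Lgr Lrot3 (Lpr_ft (f127630 IH) (Lpn (LP (LK LD1_c6 LD2_c56 LD3_c29))))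
theorem f78398 : Led Lsl_ct (LP (LK LD1_c9 LD2_c20 LD3_c58)) = (LP (LK LD1_c4 LD2_c44 LD3_c3)) :=
  Lre_c IH (LK LD1_c9 LD2_c20 LD3_c58) (LK LD1_c4 LD2_c44 LD3_c3) Lrfl Lrfl
theorem f107392 : Led Lsl_ct (LP (LK LD1_c3 LD2_c14 LD3_c42)) = (LP (LK LD1_c6 LD2_c32 LD3_c48)) :=
  Lre_c IH (LK LD1_c3 LD2_c14 LD3_c42) (LK LD1_c6 LD2_c32 LD3_c48) Lrfl Lrfl
theorem f120445 : Led Lsl_ff (LP (LK LD1_c9 LD2_c20 LD3_c58)) = (LP (LK LD1_c6 LD2_c32 LD3_c48)) :=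
  Lgr Lrot23 (Lpr_ct (f78398 IH) (Lpr_ft (K4.f120443 IH) (Lpr_ct (f107392 IH) (Lpn (LP (LK LD1_c6 LD2_c32 LD3_c48))))))
theorem f127636 : Led Lsl_at (LP (LK LD1_c7 LD2_c43 LD3_c3)) = (LP (LK LD1_c6 LD2_c32 LD3_c48)) :=
  Lgr Lrot66 (Lpr_ff (f127634 IH) (Lpe (f120441 IH) (Lpr_ff (f120445 IH) (Lpn (LP (LK LD1_c6 LD2_c32 LD3_c48))))))
theorem f95268 : Led Lsl_gt (LP (LK LD1_c12 LD2_c32 LD3_c61)) = (LP (LK LD1_c6 LD2_c32 LD3_c48)) :=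
  Lre_g IH (LK LD1_c12 LD2_c32 LD3_c61) (LK LD1_c6 LD2_c32 LD3_c48) Lrfl Lrfl
theorem f127639 : Led Lsl_gf (LP (LK LD1_c12 LD2_c32 LD3_c61)) = (LP (LK LD1_c6 LD2_c56 LD3_c29)) :=
  Lgr Lrot47 (Lpr_gt (f95268 IH) (Lpe (f127636 IH) (Lpr_ff (f127634 IH) (Lpn (LP (LK LD1_c6 LD2_c56 LD3_c29))))))
theorem f15618 : Led Lsl_ct (LP (LK LD1_c3 LD2_c27 LD3_c16)) = (LP (LK LD1_c6 LD2_c56 LD3_c29)) :=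
  Lre_c IH (LK LD1_c3 LD2_c27 LD3_c16) (LK LD1_c6 LD2_c56 LD3_c29) Lrfl Lrfl
theorem f103940 : Led Lsl_bt (LP (LK LD1_c7 LD2_c0 LD3_c27)) = (LP (LK LD1_c3 LD2_c29 LD3_c25)) :=
  Lre_b IH (LK LD1_c7 LD2_c0 LD3_c27) (LK LD1_c3 LD2_c29 LD3_c25) Lrfl Lrfl
theorem f127641 : Led Lsl_cf (LP (LK LD1_c12 LD2_c32 LD3_c61)) = (LP (LK LD1_c7 LD2_c0 LD3_c27)) :=
  Lgr Lrot58 (Lpr_gf (f127639 IH) (Lpe (f15618 IH) (Lpr_bt (K4.f15617 IH) (Lpe (K2.f11971 IH) (Lpe (K0.f15528 IH) (Lpr_ct (K3.f15203 IH) (Lpe (K3.f63818 IH) (Lpr_cf (K3.f65052 IH) (Lpr_gf (K3.f103958 IH) (Lpe (f103940 IH) (Lpn (LP (LK LD1_c7 LD2_c0 LD3_c27)))))))))))))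
theorem f92929 : Led Lsl_bt (LP (LK LD1_c1 LD2_c50 LD3_c4)) = (LP (LK LD1_c3 LD2_c45 LD3_c59)) :=
  Lre_b IH (LK LD1_c1 LD2_c50 LD3_c4) (LK LD1_c3 LD2_c45 LD3_c59) Lrfl Lrfl
theorem f126410 : Led Lsl_ff (LP (LK LD1_c7 LD2_c0 LD3_c27)) = (LP (LK LD1_c3 LD2_c45 LD3_c59)) :=
  Lgr Lrot25 (Lpr_bt (f103940 IH) (Lpr_ft (f126398 IH) (Lpr_bt (f92929 IH) (Lpn (LP (LK LD1_c3 LD2_c45 LD3_c59))))))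
theorem f92757 : Led Lsl_ct (LP (LK LD1_c7 LD2_c32 LD3_c46)) = (LP (LK LD1_c3 LD2_c45 LD3_c59)) :=
  Lre_c IH (LK LD1_c7 LD2_c32 LD3_c46) (LK LD1_c3 LD2_c45 LD3_c59) Lrfl Lrfl
theorem f127653 : Led Lsl_ft (LP (LK LD1_c12 LD2_c32 LD3_c61)) = (LP (LK LD1_c7 LD2_c32 LD3_c46)) :=
  Lgr Lrot4 (Lpr_cf (f127641 IH) (Lpr_ff (f126410 IH) (Lpe (f92757 IH) (Lpn (LP (LK LD1_c7 LD2_c32 LD3_c46))))))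
theorem f95271 : Led Lsl_gt (LP (LK LD1_c6 LD2_c32 LD3_c48)) = (LP (LK LD1_c12 LD2_c32 LD3_c60)) :=
  Lre_g IH (LK LD1_c6 LD2_c32 LD3_c48) (LK LD1_c12 LD2_c32 LD3_c60) Lrfl Lrfl
theorem f127662 : Led Lsl_af (LP (LK LD1_c12 LD2_c32 LD3_c60)) = (LP (LK LD1_c7 LD2_c32 LD3_c46)) :=
  Lgr Lrot31 (Lpe (f95271 IH) (Lpe (f95268 IH) (Lpr_ft (f127653 IH) (Lpn (LP (LK LD1_c7 LD2_c32 LD3_c46))))))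
theorem f127664 : Led Lsl_at (LP (LK LD1_c12 LD2_c32 LD3_c60)) = (LP (LK LD1_c7 LD2_c32 LD3_c46)) :=
  Lgr Lrot100 (Lpr_af (f127662 IH) (Lpn (LP (LK LD1_c7 LD2_c32 LD3_c46))))
theorem f17143 : Led Lsl_gt (LP (LK LD1_c14 LD2_c32 LD3_c55)) = (LP (LK LD1_c7 LD2_c43 LD3_c3)) :=
  Lre_g IH (LK LD1_c14 LD2_c32 LD3_c55) (LK LD1_c7 LD2_c43 LD3_c3) Lrfl Lrfl
theorem f127670 : Led Lsl_ff (LP (LK LD1_c12 LD2_c32 LD3_c60)) = (LP (LK LD1_c14 LD2_c32 LD3_c55)) :=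
  Lgr Lrot52 (Lpr_at (f127664 IH) (Lpr_gf (f92759 IH) (Lpe (f17143 IH) (Lpn (LP (LK LD1_c14 LD2_c32 LD3_c55))))))
theorem f127675 : Led Lsl_ft (LP (LK LD1_c12 LD2_c32 LD3_c60)) = (LP (LK LD1_c14 LD2_c32 LD3_c55)) :=
  Lgr Lrot48 (Lpr_ff (f127670 IH) (Lpn (LP (LK LD1_c14 LD2_c32 LD3_c55))))
theorem f127677 : Led Lsl_af (LP (LK LD1_c12 LD2_c32 LD3_c61)) = (LP (LK LD1_c14 LD2_c32 LD3_c55)) :=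
  Lgr Lrot45 (Lpr_ft (f127653 IH) (Lpe (f127662 IH) (Lpr_ft (f127675 IH) (Lpn (LP (LK LD1_c14 LD2_c32 LD3_c55))))))
theorem f127680 : Led Lsl_gt (LP (LK LD1_c12 LD2_c32 LD3_c60)) = (LP (LK LD1_c6 LD2_c56 LD3_c29)) :=
  Lgr Lrot5 (Lpr_ft (f127675 IH) (Lpe (f127677 IH) (Lpr_gf (f127639 IH) (Lpn (LP (LK LD1_c6 LD2_c56 LD3_c29))))))
theorem f93038 : Led Lsl_at (LP (LK LD1_c7 LD2_c32 LD3_c45)) = (LP (LK LD1_c3 LD2_c45 LD3_c59)) :=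
  Lre_a IH (LK LD1_c7 LD2_c32 LD3_c45) (LK LD1_c3 LD2_c45 LD3_c59) Lrfl Lrfl
theorem f127666 : Led Lsl_ct (LP (LK LD1_c12 LD2_c32 LD3_c60)) = (LP (LK LD1_c7 LD2_c32 LD3_c45)) :=
  Lgr Lrot111 (Lpr_af (f127662 IH) (Lpe (f92758 IH) (Lpe (f93038 IH) (Lpn (LP (LK LD1_c7 LD2_c32 LD3_c45))))))
theorem f127668 : Led Lsl_cf (LP (LK LD1_c12 LD2_c32 LD3_c60)) = (LP (LK LD1_c7 LD2_c32 LD3_c45)) :=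
  Lgr Lrot11 (Lpr_ct (f127666 IH) (Lpn (LP (LK LD1_c7 LD2_c32 LD3_c45))))
theorem f94812 : Led Lsl_gf (LP (LK LD1_c1 LD2_c52 LD3_c19)) = (LP (LK LD1_c1 LD2_c40 LD3_c14)) :=
  Lgr Lrot147 (Lpe (K0.f14550 IH) (Lpr_gt (K3.f14576 IH) (Lpr_ct (K2.f94693 IH) (Lpe (K3.f90888 IH) (Lpe (K3.f9799 IH) (Lpe (K2.f90881 IH) (Lpe (K1.f15853 IH) (Lpe (K2.f19152 IH) (Lpr_df (K2.f94781 IH) (Lpn (LP (LK LD1_c1 LD2_c40 LD3_c14))))))))))))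
theorem f94697 : Led Lsl_bt (LP (LK LD1_c1 LD2_c39 LD3_c44)) = (LP (LK LD1_c3 LD2_c26 LD3_c4)) :=
  Lre_b IH (LK LD1_c1 LD2_c39 LD3_c44) (LK LD1_c3 LD2_c26 LD3_c4) Lrfl Lrfl
theorem f94698 : Led Lsl_gt (LP (LK LD1_c3 LD2_c26 LD3_c4)) = (LP (LK LD1_c6 LD2_c53 LD3_c61)) :=
  Lre_g IH (LK LD1_c3 LD2_c26 LD3_c4) (LK LD1_c6 LD2_c53 LD3_c61) Lrfl Lrfl
theorem f127682 : Led Lsl_bt (LP (LK LD1_c7 LD2_c32 LD3_c45)) = (LP (LK LD1_c6 LD2_c53 LD3_c61)) :=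
  Lgr Lrot92 (Lpe (f127668 IH) (Lpr_gt (f127680 IH) (Lpe (f15618 IH) (Lpr_bt (K4.f15617 IH) (Lpe (f94812 IH) (Lpe (K0.f14550 IH) (Lpr_gt (K3.f14576 IH) (Lpr_cf (K3.f94739 IH) (Lpr_bt (f94697 IH) (Lpr_gt (f94698 IH) (Lpn (LP (LK LD1_c6 LD2_c53 LD3_c61)))))))))))))
theorem f93035 : Led Lsl_et (LP (LK LD1_c14 LD2_c13 LD3_c39)) = (LP (LK LD1_c7 LD2_c32 LD3_c45)) :=
  Lre_e IH (LK LD1_c14 LD2_c13 LD3_c39) (LK LD1_c7 LD2_c32 LD3_c45) Lrfl Lrfl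
theorem f127690 : Led Lsl_et (LP (LK LD1_c6 LD2_c53 LD3_c61)) = (LP (LK LD1_c13 LD2_c6 LD3_c42)) :=
  Lre_e IH (LK LD1_c6 LD2_c53 LD3_c61) (LK LD1_c13 LD2_c6 LD3_c42) Lrfl Lrfl
theorem f127691 : Led Lsl_bf (LP (LK LD1_c14 LD2_c13 LD3_c39)) = (LP (LK LD1_c13 LD2_c6 LD3_c42)) :=
  Lgr Lrot96 (Lpr_et (f93035 IH) (Lpr_bt (f127682 IH) (Lpr_et (f127690 IH) (Lpn (LP (LK LD1_c13 LD2_c6 LD3_c42))))))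
theorem f93039 : Led Lsl_dt (LP (LK LD1_c14 LD2_c13 LD3_c39)) = (LP (LK LD1_c23 LD2_c49 LD3_c8)) :=
  Lre_d IH (LK LD1_c14 LD2_c13 LD3_c39) (LK LD1_c23 LD2_c49 LD3_c8) Lrfl Lrfl
theorem f127699 : Led Lsl_dt (LP (LK LD1_c22 LD2_c17 LD3_c61)) = (LP (LK LD1_c13 LD2_c6 LD3_c42)) :=
  Lre_d IH (LK LD1_c22 LD2_c17 LD3_c61) (LK LD1_c13 LD2_c6 LD3_c42) Lrfl Lrfl
theorem f127700 : Led Lsl_bt (LP (LK LD1_c23 LD2_c49 LD3_c8)) = (LP (LK LD1_c22 LD2_c17 LD3_c61)) :=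
  Lgr Lrot95 (Lpe (f93039 IH) (Lpr_bf (f127691 IH) (Lpe (f127699 IH) (Lpn (LP (LK LD1_c22 LD2_c17 LD3_c61))))))
theorem f127706 : Led Lsl_bf (LP (LK LD1_c23 LD2_c49 LD3_c8)) = (LP (LK LD1_c22 LD2_c17 LD3_c61)) :=
  Lgr Lrot24 (Lpr_bt (f127700 IH) (Lpn (LP (LK LD1_c22 LD2_c17 LD3_c61))))
theorem f93009 : Led Lsl_at (LP (LK LD1_c23 LD2_c49 LD3_c8)) = (LP (LK LD1_c14 LD2_c13 LD3_c42)) :=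
  Lre_a IH (LK LD1_c23 LD2_c49 LD3_c8) (LK LD1_c14 LD2_c13 LD3_c42) Lrfl Lrfl
theorem f92939 : Led Lsl_bt (LP (LK LD1_c14 LD2_c13 LD3_c42)) = (LP (LK LD1_c7 LD2_c32 LD3_c48)) :=
  Lre_b IH (LK LD1_c14 LD2_c13 LD3_c42) (LK LD1_c7 LD2_c32 LD3_c48) Lrfl Lrfl
theorem f126434 : Led Lsl_bt (LP (LK LD1_c13 LD2_c17 LD3_c47)) = (LP (LK LD1_c22 LD2_c33 LD3_c34)) :=
  Lre_b IH (LK LD1_c13 LD2_c17 LD3_c47) (LK LD1_c22 LD2_c33 LD3_c34) Lrfl Lrfl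
theorem f127709 : Led Lsl_at (LP (LK LD1_c22 LD2_c33 LD3_c34)) = (LP (LK LD1_c22 LD2_c17 LD3_c61)) :=
  Lgr Lrot67 (Lpe (f126434 IH) (Lpr_af (f126430 IH) (Lpe (f92939 IH) (Lpe (f93009 IH) (Lpr_bf (f127706 IH) (Lpn (LP (LK LD1_c22 LD2_c17 LD3_c61))))))))
theorem f127714 : Led Lsl_dt (LP (LK LD1_c13 LD2_c17 LD3_c46)) = (LP (LK LD1_c22 LD2_c33 LD3_c34)) :=
  Lre_d IH (LK LD1_c13 LD2_c17 LD3_c46) (LK LD1_c22 LD2_c33 LD3_c34) Lrfl Lrfl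
theorem f127715 : Led Lsl_af (LP (LK LD1_c13 LD2_c17 LD3_c46)) = (LP (LK LD1_c13 LD2_c6 LD3_c42)) :=
  Lgr Lrot117 (Lpr_dt (f127714 IH) (Lpr_at (f127709 IH) (Lpr_dt (f127699 IH) (Lpn (LP (LK LD1_c13 LD2_c6 LD3_c42))))))
theorem f127717 : Led Lsl_et (LP (LK LD1_c13 LD2_c17 LD3_c46)) = (LP (LK LD1_c7 LD2_c0 LD3_c29)) :=
  Lre_e IH (LK LD1_c13 LD2_c17 LD3_c46) (LK LD1_c7 LD2_c0 LD3_c29) Lrfl Lrfl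
theorem f127718 : Led Lsl_at (LP (LK LD1_c7 LD2_c0 LD3_c29)) = (LP (LK LD1_c6 LD2_c53 LD3_c61)) :=
  Lgr Lrot80 (Lpe (f127717 IH) (Lpr_af (f127715 IH) (Lpe (f127690 IH) (Lpn (LP (LK LD1_c6 LD2_c53 LD3_c61))))))
theorem f88155 : Led Lsl_bt (LP (LK LD1_c1 LD2_c50 LD3_c5)) = (LP (LK LD1_c3 LD2_c45 LD3_c61)) :=
  Lre_b IH (LK LD1_c1 LD2_c50 LD3_c5) (LK LD1_c3 LD2_c45 LD3_c61) Lrfl Lrfl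
theorem f96306 : Led Lsl_gt (LP (LK LD1_c3 LD2_c45 LD3_c61)) = (LP (LK LD1_c3 LD2_c26 LD3_c4)) :=
  Lgr Lrot164 (Lpe (f88155 IH) (Lpe (K3.f88424 IH) (Lpr_gf (K3.f96228 IH) (Lpr_cf (K3.f65104 IH) (Lpe (K1.f65006 IH) (Lpr_bf (K0.f15513 IH) (Lpr_ct (K2.f12034 IH) (Lpe (K2.f15007 IH) (Lpr_cf (K3.f94739 IH) (Lpr_bt (f94697 IH) (Lpn (LP (LK LD1_c3 LD2_c26 LD3_c4)))))))))))))
theorem f127721 : Led Lsl_ff (LP (LK LD1_c7 LD2_c0 LD3_c29)) = (LP (LK LD1_c3 LD2_c45 LD3_c61)) :=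
  Lgr Lrot52 (Lpr_at (f127718 IH) (Lpe (f94698 IH) (Lpe (f96306 IH) (Lpn (LP (LK LD1_c3 LD2_c45 LD3_c61))))))
theorem f127731 : Led Lsl_ft (LP (LK LD1_c7 LD2_c0 LD3_c29)) = (LP (LK LD1_c3 LD2_c45 LD3_c61)) :=
  Lgr Lrot48 (Lpr_ff (f127721 IH) (Lpn (LP (LK LD1_c3 LD2_c45 LD3_c61))))
theorem f96172 : Led Lsl_bt (LP (LK LD1_c3 LD2_c29 LD3_c26)) = (LP (LK LD1_c7 LD2_c0 LD3_c29)) :=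
  Lre_b IH (LK LD1_c3 LD2_c29 LD3_c26) (LK LD1_c7 LD2_c0 LD3_c29) Lrfl Lrfl
theorem f88231 : Led Lsl_bt (LP (LK LD1_c3 LD2_c45 LD3_c61)) = (LP (LK LD1_c1 LD2_c50 LD3_c5)) :=
  Lre_b IH (LK LD1_c3 LD2_c45 LD3_c61) (LK LD1_c1 LD2_c50 LD3_c5) Lrfl Lrfl
theorem f127735 : Led Lsl_ff (LP (LK LD1_c3 LD2_c29 LD3_c26)) = (LP (LK LD1_c1 LD2_c50 LD3_c5)) :=
  Lgr Lrot25 (Lpr_bt (f96172 IH) (Lpr_ft (f127731 IH) (Lpr_bt (f88231 IH) (Lpn (LP (LK LD1_c1 LD2_c50 LD3_c5))))))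
theorem f127740 : Led Lsl_ft (LP (LK LD1_c1 LD2_c50 LD3_c36)) = (LP (LK LD1_c0 LD2_c52 LD3_c29)) :=
  Lgr Lrot54 (Lpe (K3.f96163 IH) (Lpr_ff (f127735 IH) (Lpe (K3.f87930 IH) (Lpn (LP (LK LD1_c0 LD2_c52 LD3_c29))))))
theorem f127746 : Led Lsl_af (LP (LK LD1_c1 LD2_c43 LD3_c23)) = (LP (LK LD1_c0 LD2_c52 LD3_c29)) :=
  Lgr Lrot31 (Lpe (K3.f11948 IH) (Lpr_gf (K3.f96132 IH) (Lpr_ft (f127740 IH) (Lpn (LP (LK LD1_c0 LD2_c52 LD3_c29))))))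
theorem f103960 : Led Lsl_et (LP (LK LD1_c1 LD2_c43 LD3_c23)) = (LP (LK LD1_c3 LD2_c33 LD3_c18)) :=
  Lre_e IH (LK LD1_c1 LD2_c43 LD3_c23) (LK LD1_c3 LD2_c33 LD3_c18) Lrfl Lrfl
theorem f87944 : Led Lsl_et (LP (LK LD1_c1 LD2_c51 LD3_c15)) = (LP (LK LD1_c0 LD2_c52 LD3_c29)) :=
  Lre_e IH (LK LD1_c1 LD2_c51 LD3_c15) (LK LD1_c0 LD2_c52 LD3_c29) Lrfl Lrfl
theorem f127754 : Led Lsl_at (LP (LK LD1_c3 LD2_c33 LD3_c18)) = (LP (LK LD1_c1 LD2_c51 LD3_c15)) :=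
  Lgr Lrot80 (Lpe (f103960 IH) (Lpr_af (f127746 IH) (Lpe (f87944 IH) (Lpn (LP (LK LD1_c1 LD2_c51 LD3_c15))))))
theorem f103953 : Led Lsl_dt (LP (LK LD1_c7 LD2_c7 LD3_c32)) = (LP (LK LD1_c3 LD2_c33 LD3_c18)) :=
  Lre_d IH (LK LD1_c7 LD2_c7 LD3_c32) (LK LD1_c3 LD2_c33 LD3_c18) Lrfl Lrfl
theorem f87945 : Led Lsl_dt (LP (LK LD1_c1 LD2_c51 LD3_c15)) = (LP (LK LD1_c3 LD2_c48 LD3_c29)) :=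
  Lre_d IH (LK LD1_c1 LD2_c51 LD3_c15) (LK LD1_c3 LD2_c48 LD3_c29) Lrfl Lrfl
theorem f127764 : Led Lsl_af (LP (LK LD1_c7 LD2_c7 LD3_c32)) = (LP (LK LD1_c3 LD2_c48 LD3_c29)) :=
  Lgr Lrot117 (Lpr_dt (f103953 IH) (Lpr_at (f127754 IH) (Lpr_dt (f87945 IH) (Lpn (LP (LK LD1_c3 LD2_c48 LD3_c29))))))
theorem f12067 : Led Lsl_et (LP (LK LD1_c3 LD2_c33 LD3_c18)) = (LP (LK LD1_c1 LD2_c43 LD3_c23)) :=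
  Lre_e IH (LK LD1_c3 LD2_c33 LD3_c18) (LK LD1_c1 LD2_c43 LD3_c23) Lrfl Lrfl
theorem f103954 : Led Lsl_et (LP (LK LD1_c3 LD2_c29 LD3_c25)) = (LP (LK LD1_c7 LD2_c0 LD3_c28)) :=
  Lre_e IH (LK LD1_c3 LD2_c29 LD3_c25) (LK LD1_c7 LD2_c0 LD3_c28) Lrfl Lrfl
theorem f103955 : Led Lsl_dt (LP (LK LD1_c7 LD2_c0 LD3_c28)) = (LP (LK LD1_c13 LD2_c17 LD3_c44)) :=
  Lre_d IH (LK LD1_c7 LD2_c0 LD3_c28) (LK LD1_c13 LD2_c17 LD3_c44) Lrfl Lrfl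
theorem f103956 : Led Lsl_ef (LP (LK LD1_c7 LD2_c7 LD3_c32)) = (LP (LK LD1_c13 LD2_c17 LD3_c44)) :=
  Lgr Lrot73 (Lpr_dt (f103953 IH) (Lpr_et (f12067 IH) (Lpr_dt (K3.f103946 IH) (Lpr_et (f103954 IH) (Lpr_dt (f103955 IH) (Lpn (LP (LK LD1_c13 LD2_c17 LD3_c44))))))))
theorem f104029 : Led Lsl_et (LP (LK LD1_c7 LD2_c7 LD3_c32)) = (LP (LK LD1_c13 LD2_c17 LD3_c44)) :=
  Lgr Lrot87 (Lpr_ef (f103956 IH) (Lpn (LP (LK LD1_c13 LD2_c17 LD3_c44))))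
theorem f87987 : Led Lsl_dt (LP (LK LD1_c3 LD2_c48 LD3_c29)) = (LP (LK LD1_c1 LD2_c51 LD3_c15)) :=
  Lre_d IH (LK LD1_c3 LD2_c48 LD3_c29) (LK LD1_c1 LD2_c51 LD3_c15) Lrfl Lrfl
theorem f88160 : Led Lsl_et (LP (LK LD1_c1 LD2_c50 LD3_c5)) = (LP (LK LD1_c3 LD2_c46 LD3_c0)) :=
  Lre_e IH (LK LD1_c1 LD2_c50 LD3_c5) (LK LD1_c3 LD2_c46 LD3_c0) Lrfl Lrfl
theorem f88161 : Led Lsl_dt (LP (LK LD1_c3 LD2_c46 LD3_c0)) = (LP (LK LD1_c7 LD2_c32 LD3_c55)) :=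
  Lre_d IH (LK LD1_c3 LD2_c46 LD3_c0) (LK LD1_c7 LD2_c32 LD3_c55) Lrfl Lrfl
theorem f88162 : Led Lsl_ef (LP (LK LD1_c3 LD2_c48 LD3_c29)) = (LP (LK LD1_c7 LD2_c32 LD3_c55)) :=
  Lgr Lrot73 (Lpr_dt (f87987 IH) (Lpr_et (f87944 IH) (Lpr_dt (K3.f87930 IH) (Lpr_et (f88160 IH) (Lpr_dt (f88161 IH) (Lpn (LP (LK LD1_c7 LD2_c32 LD3_c55))))))))
theorem f127770 : Led Lsl_at (LP (LK LD1_c13 LD2_c17 LD3_c44)) = (LP (LK LD1_c7 LD2_c32 LD3_c55)) :=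
  Lgr Lrot80 (Lpe (f104029 IH) (Lpr_af (f127764 IH) (Lpr_ef (f88162 IH) (Lpn (LP (LK LD1_c7 LD2_c32 LD3_c55))))))
theorem f104031 : Led Lsl_ft (LP (LK LD1_c22 LD2_c33 LD3_c33)) = (LP (LK LD1_c13 LD2_c17 LD3_c44)) :=
  Lre_f IH (LK LD1_c22 LD2_c33 LD3_c33) (LK LD1_c13 LD2_c17 LD3_c44) Lrfl Lrfl
theorem f88189 : Led Lsl_ft (LP (LK LD1_c7 LD2_c32 LD3_c55)) = (LP (LK LD1_c14 LD2_c14 LD3_c0)) :=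
  Lre_f IH (LK LD1_c7 LD2_c32 LD3_c55) (LK LD1_c14 LD2_c14 LD3_c0) Lrfl Lrfl
theorem f127778 : Led Lsl_af (LP (LK LD1_c22 LD2_c33 LD3_c33)) = (LP (LK LD1_c14 LD2_c14 LD3_c0)) :=
  Lgr Lrot45 (Lpr_ft (f104031 IH) (Lpr_at (f127770 IH) (Lpr_ft (f88189 IH) (Lpn (LP (LK LD1_c14 LD2_c14 LD3_c0))))))
theorem f127782 : Led Lsl_dt (LP (LK LD1_c22 LD2_c33 LD3_c33)) = (LP (LK LD1_c13 LD2_c17 LD3_c45)) :=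
  Lre_d IH (LK LD1_c22 LD2_c33 LD3_c33) (LK LD1_c13 LD2_c17 LD3_c45) Lrfl Lrfl
theorem f127790 : Led Lsl_dt (LP (LK LD1_c7 LD2_c32 LD3_c56)) = (LP (LK LD1_c14 LD2_c14 LD3_c0)) :=
  Lre_d IH (LK LD1_c7 LD2_c32 LD3_c56) (LK LD1_c14 LD2_c14 LD3_c0) Lrfl Lrfl
theorem f127791 : Led Lsl_at (LP (LK LD1_c13 LD2_c17 LD3_c45)) = (LP (LK LD1_c7 LD2_c32 LD3_c56)) :=
  Lgr Lrot51 (Lpe (f127782 IH) (Lpr_af (f127778 IH) (Lpe (f127790 IH) (Lpn (LP (LK LD1_c7 LD2_c32 LD3_c56))))))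
theorem f127795 : Led Lsl_af (LP (LK LD1_c13 LD2_c17 LD3_c45)) = (LP (LK LD1_c7 LD2_c32 LD3_c56)) :=
  Lgr Lrot0 (Lpr_at (f127791 IH) (Lpn (LP (LK LD1_c7 LD2_c32 LD3_c56))))
theorem f126414 : Led Lsl_ft (LP (LK LD1_c13 LD2_c17 LD3_c45)) = (LP (LK LD1_c7 LD2_c0 LD3_c28)) :=
  Lre_f IH (LK LD1_c13 LD2_c17 LD3_c45) (LK LD1_c7 LD2_c0 LD3_c28) Lrfl Lrfl
theorem f88445 : Led Lsl_ft (LP (LK LD1_c3 LD2_c46 LD3_c0)) = (LP (LK LD1_c7 LD2_c32 LD3_c56)) :=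
  Lre_f IH (LK LD1_c3 LD2_c46 LD3_c0) (LK LD1_c7 LD2_c32 LD3_c56) Lrfl Lrfl
theorem f127803 : Led Lsl_at (LP (LK LD1_c7 LD2_c0 LD3_c28)) = (LP (LK LD1_c3 LD2_c46 LD3_c0)) :=
  Lgr Lrot66 (Lpe (f126414 IH) (Lpr_af (f127795 IH) (Lpe (f88445 IH) (Lpn (LP (LK LD1_c3 LD2_c46 LD3_c0))))))
theorem f88188 : Led Lsl_et (LP (LK LD1_c3 LD2_c46 LD3_c0)) = (LP (LK LD1_c1 LD2_c50 LD3_c5)) :=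
  Lre_e IH (LK LD1_c3 LD2_c46 LD3_c0) (LK LD1_c1 LD2_c50 LD3_c5) Lrfl Lrfl
theorem f127815 : Led Lsl_af (LP (LK LD1_c3 LD2_c29 LD3_c25)) = (LP (LK LD1_c1 LD2_c50 LD3_c5)) :=
  Lgr Lrot50 (Lpr_et (f103954 IH) (Lpr_at (f127803 IH) (Lpr_et (f88188 IH) (Lpn (LP (LK LD1_c1 LD2_c50 LD3_c5))))))
theorem f103948 : Led Lsl_bt (LP (LK LD1_c3 LD2_c29 LD3_c25)) = (LP (LK LD1_c7 LD2_c0 LD3_c27)) :=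
  Lre_b IH (LK LD1_c3 LD2_c29 LD3_c25) (LK LD1_c7 LD2_c0 LD3_c27) Lrfl Lrfl
theorem f104057 : Led Lsl_at (LP (LK LD1_c7 LD2_c0 LD3_c27)) = (LP (LK LD1_c13 LD2_c17 LD3_c42)) :=
  Lre_a IH (LK LD1_c7 LD2_c0 LD3_c27) (LK LD1_c13 LD2_c17 LD3_c42) Lrfl Lrfl
theorem f88253 : Led Lsl_at (LP (LK LD1_c7 LD2_c32 LD3_c50)) = (LP (LK LD1_c3 LD2_c45 LD3_c61)) :=
  Lre_a IH (LK LD1_c7 LD2_c32 LD3_c50) (LK LD1_c3 LD2_c45 LD3_c61) Lrfl Lrfl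
theorem f127821 : Led Lsl_bt (LP (LK LD1_c13 LD2_c17 LD3_c42)) = (LP (LK LD1_c7 LD2_c32 LD3_c50)) :=
  Lgr Lrot62 (Lpe (f104057 IH) (Lpe (f103948 IH) (Lpr_af (f127815 IH) (Lpe (f88231 IH) (Lpe (f88253 IH) (Lpn (LP (LK LD1_c7 LD2_c32 LD3_c50))))))))
theorem f93025 : Led Lsl_at (LP (LK LD1_c3 LD2_c45 LD3_c59)) = (LP (LK LD1_c7 LD2_c32 LD3_c45)) :=
  Lre_a IH (LK LD1_c3 LD2_c45 LD3_c59) (LK LD1_c7 LD2_c32 LD3_c45) Lrfl Lrfl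
theorem f126421 : Led Lsl_at (LP (LK LD1_c3 LD2_c29 LD3_c26)) = (LP (LK LD1_c1 LD2_c50 LD3_c4)) :=
  Lgr Lrot100 (Lpr_af (f126419 IH) (Lpn (LP (LK LD1_c1 LD2_c50 LD3_c4))))
theorem f87875 : Led Lsl_bt (LP (LK LD1_c7 LD2_c0 LD3_c29)) = (LP (LK LD1_c3 LD2_c29 LD3_c26)) :=
  Lre_b IH (LK LD1_c7 LD2_c0 LD3_c29) (LK LD1_c3 LD2_c29 LD3_c26) Lrfl Lrfl
theorem f127684 : Led Lsl_af (LP (LK LD1_c7 LD2_c0 LD3_c29)) = (LP (LK LD1_c6 LD2_c53 LD3_c61)) :=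
  Lgr Lrot36 (Lpr_bt (f87875 IH) (Lpr_at (f126421 IH) (Lpr_bt (f92929 IH) (Lpr_at (f93025 IH) (Lpr_bt (f127682 IH) (Lpn (LP (LK LD1_c6 LD2_c53 LD3_c61))))))))
theorem f88227 : Led Lsl_at (LP (LK LD1_c3 LD2_c45 LD3_c61)) = (LP (LK LD1_c7 LD2_c32 LD3_c50)) :=
  Lre_a IH (LK LD1_c3 LD2_c45 LD3_c61) (LK LD1_c7 LD2_c32 LD3_c50) Lrfl Lrfl
theorem f127733 : Led Lsl_ff (LP (LK LD1_c6 LD2_c53 LD3_c61)) = (LP (LK LD1_c7 LD2_c32 LD3_c50)) :=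
  Lgr Lrot30 (Lpe (f127684 IH) (Lpr_ft (f127731 IH) (Lpr_at (f88227 IH) (Lpn (LP (LK LD1_c7 LD2_c32 LD3_c50))))))
theorem f127686 : Led Lsl_bf (LP (LK LD1_c7 LD2_c32 LD3_c45)) = (LP (LK LD1_c6 LD2_c53 LD3_c61)) :=
  Lgr Lrot24 (Lpr_bt (f127682 IH) (Lpn (LP (LK LD1_c6 LD2_c53 LD3_c61))))
theorem f127827 : Led Lsl_ff (LP (LK LD1_c13 LD2_c17 LD3_c42)) = (LP (LK LD1_c7 LD2_c32 LD3_c45)) :=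
  Lgr Lrot25 (Lpr_bt (f127821 IH) (Lpe (f127733 IH) (Lpe (f127686 IH) (Lpn (LP (LK LD1_c7 LD2_c32 LD3_c45))))))
theorem f127835 : Led Lsl_ft (LP (LK LD1_c13 LD2_c17 LD3_c42)) = (LP (LK LD1_c7 LD2_c32 LD3_c45)) :=
  Lgr Lrot48 (Lpr_ff (f127827 IH) (Lpn (LP (LK LD1_c7 LD2_c32 LD3_c45))))
theorem f104033 : Led Lsl_bt (LP (LK LD1_c13 LD2_c30 LD3_c0)) = (LP (LK LD1_c7 LD2_c7 LD3_c32)) :=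
  Lre_b IH (LK LD1_c13 LD2_c30 LD3_c0) (LK LD1_c7 LD2_c7 LD3_c32) Lrfl Lrfl
theorem f104034 : Led Lsl_bt (LP (LK LD1_c13 LD2_c17 LD3_c44)) = (LP (LK LD1_c22 LD2_c33 LD3_c30)) :=
  Lre_b IH (LK LD1_c13 LD2_c17 LD3_c44) (LK LD1_c22 LD2_c33 LD3_c30) Lrfl Lrfl
theorem f104035 : Led Lsl_ef (LP (LK LD1_c13 LD2_c30 LD3_c0)) = (LP (LK LD1_c22 LD2_c33 LD3_c30)) :=
  Lgr Lrot29 (Lpr_bt (f104033 IH) (Lpr_et (f104029 IH) (Lpr_bt (f104034 IH) (Lpn (LP (LK LD1_c22 LD2_c33 LD3_c30))))))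
theorem f104045 : Led Lsl_dt (LP (LK LD1_c13 LD2_c30 LD3_c0)) = (LP (LK LD1_c7 LD2_c7 LD3_c31)) :=
  Lre_d IH (LK LD1_c13 LD2_c30 LD3_c0) (LK LD1_c7 LD2_c7 LD3_c31) Lrfl Lrfl
theorem f104046 : Led Lsl_et (LP (LK LD1_c7 LD2_c7 LD3_c31)) = (LP (LK LD1_c3 LD2_c33 LD3_c17)) :=
  Lre_e IH (LK LD1_c7 LD2_c7 LD3_c31) (LK LD1_c3 LD2_c33 LD3_c17) Lrfl Lrfl
theorem f104047 : Led Lsl_dt (LP (LK LD1_c13 LD2_c17 LD3_c43)) = (LP (LK LD1_c22 LD2_c33 LD3_c30)) :=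
  Lre_d IH (LK LD1_c13 LD2_c17 LD3_c43) (LK LD1_c22 LD2_c33 LD3_c30) Lrfl Lrfl
theorem f104048 : Led Lsl_et (LP (LK LD1_c7 LD2_c0 LD3_c27)) = (LP (LK LD1_c13 LD2_c17 LD3_c43)) :=
  Lre_e IH (LK LD1_c7 LD2_c0 LD3_c27) (LK LD1_c13 LD2_c17 LD3_c43) Lrfl Lrfl
theorem f104049 : Led Lsl_dt (LP (LK LD1_c3 LD2_c33 LD3_c17)) = (LP (LK LD1_c7 LD2_c0 LD3_c27)) :=
  Lgr Lrot77 (Lpe (f104046 IH) (Lpe (f104045 IH) (Lpr_ef (f104035 IH) (Lpe (f104047 IH) (Lpe (f104048 IH) (Lpn (LP (LK LD1_c7 LD2_c0 LD3_c27))))))))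
theorem f104056 : Led Lsl_at (LP (LK LD1_c7 LD2_c7 LD3_c30)) = (LP (LK LD1_c3 LD2_c33 LD3_c17)) :=
  Lre_a IH (LK LD1_c7 LD2_c7 LD3_c30) (LK LD1_c3 LD2_c33 LD3_c17) Lrfl Lrfl
theorem f104058 : Led Lsl_df (LP (LK LD1_c7 LD2_c7 LD3_c30)) = (LP (LK LD1_c13 LD2_c17 LD3_c42)) :=
  Lgr Lrot18 (Lpr_at (f104056 IH) (Lpr_dt (f104049 IH) (Lpr_at (f104057 IH) (Lpn (LP (LK LD1_c13 LD2_c17 LD3_c42))))))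
theorem f104068 : Led Lsl_dt (LP (LK LD1_c7 LD2_c7 LD3_c30)) = (LP (LK LD1_c13 LD2_c17 LD3_c42)) :=
  Lgr Lrot42 (Lpr_df (f104058 IH) (Lpn (LP (LK LD1_c13 LD2_c17 LD3_c42))))
theorem f92948 : Led Lsl_ft (LP (LK LD1_c14 LD2_c13 LD3_c46)) = (LP (LK LD1_c7 LD2_c32 LD3_c48)) :=
  Lre_f IH (LK LD1_c14 LD2_c13 LD3_c46) (LK LD1_c7 LD2_c32 LD3_c48) Lrfl Lrfl
theorem f92949 : Led Lsl_et (LP (LK LD1_c23 LD2_c49 LD3_c18)) = (LP (LK LD1_c14 LD2_c13 LD3_c46)) :=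
  Lre_e IH (LK LD1_c23 LD2_c49 LD3_c18) (LK LD1_c14 LD2_c13 LD3_c46) Lrfl Lrfl
theorem f17333 : Led Lsl_ft (LP (LK LD1_c3 LD2_c48 LD3_c24)) = (LP (LK LD1_c7 LD2_c37 LD3_c53)) :=
  Lre_f IH (LK LD1_c3 LD2_c48 LD3_c24) (LK LD1_c7 LD2_c37 LD3_c53) Lrfl Lrfl
theorem f92950 : Led Lsl_et (LP (LK LD1_c7 LD2_c37 LD3_c53)) = (LP (LK LD1_c14 LD2_c22 LD3_c59)) :=
  Lre_e IH (LK LD1_c7 LD2_c37 LD3_c53) (LK LD1_c14 LD2_c22 LD3_c59) Lrfl Lrfl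
theorem f92951 : Led Lsl_ff (LP (LK LD1_c23 LD2_c49 LD3_c18)) = (LP (LK LD1_c14 LD2_c22 LD3_c59)) :=
  Lgr Lrot72 (Lpr_et (f92949 IH) (Lpr_ft (f92948 IH) (Lpr_et (f92932 IH) (Lpr_ft (f17333 IH) (Lpr_et (f92950 IH) (Lpn (LP (LK LD1_c14 LD2_c22 LD3_c59))))))))
theorem f92963 : Led Lsl_ft (LP (LK LD1_c23 LD2_c49 LD3_c18)) = (LP (LK LD1_c14 LD2_c22 LD3_c59)) :=
  Lgr Lrot48 (Lpr_ff (f92951 IH) (Lpn (LP (LK LD1_c14 LD2_c22 LD3_c59))))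
theorem f92966 : Led Lsl_bt (LP (LK LD1_c31 LD2_c14 LD3_c5)) = (LP (LK LD1_c23 LD2_c49 LD3_c18)) :=
  Lre_b IH (LK LD1_c31 LD2_c14 LD3_c5) (LK LD1_c23 LD2_c49 LD3_c18) Lrfl Lrfl
theorem f92967 : Led Lsl_bt (LP (LK LD1_c14 LD2_c22 LD3_c59)) = (LP (LK LD1_c24 LD2_c1 LD3_c6)) :=
  Lre_b IH (LK LD1_c14 LD2_c22 LD3_c59) (LK LD1_c24 LD2_c1 LD3_c6) Lrfl Lrfl
theorem f92968 : Led Lsl_ff (LP (LK LD1_c31 LD2_c14 LD3_c5)) = (LP (LK LD1_c24 LD2_c1 LD3_c6)) :=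
  Lgr Lrot25 (Lpr_bt (f92966 IH) (Lpr_ft (f92963 IH) (Lpr_bt (f92967 IH) (Lpn (LP (LK LD1_c24 LD2_c1 LD3_c6))))))
theorem f93004 : Led Lsl_et (LP (LK LD1_c31 LD2_c14 LD3_c5)) = (LP (LK LD1_c23 LD2_c49 LD3_c14)) :=
  Lre_e IH (LK LD1_c31 LD2_c14 LD3_c5) (LK LD1_c23 LD2_c49 LD3_c14) Lrfl Lrfl
theorem f93005 : Led Lsl_ft (LP (LK LD1_c23 LD2_c49 LD3_c14)) = (LP (LK LD1_c14 LD2_c13 LD3_c42)) :=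
  Lre_f IH (LK LD1_c23 LD2_c49 LD3_c14) (LK LD1_c14 LD2_c13 LD3_c42) Lrfl Lrfl
theorem f93006 : Led Lsl_et (LP (LK LD1_c14 LD2_c22 LD3_c54)) = (LP (LK LD1_c24 LD2_c1 LD3_c6)) :=
  Lre_e IH (LK LD1_c14 LD2_c22 LD3_c54) (LK LD1_c24 LD2_c1 LD3_c6) Lrfl Lrfl
theorem f17390 : Led Lsl_ft (LP (LK LD1_c7 LD2_c37 LD3_c49)) = (LP (LK LD1_c14 LD2_c22 LD3_c54)) :=
  Lre_f IH (LK LD1_c7 LD2_c37 LD3_c49) (LK LD1_c14 LD2_c22 LD3_c54) Lrfl Lrfl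
theorem f93007 : Led Lsl_et (LP (LK LD1_c14 LD2_c13 LD3_c42)) = (LP (LK LD1_c7 LD2_c37 LD3_c49)) :=
  Lgr Lrot69 (Lpe (f93005 IH) (Lpe (f93004 IH) (Lpr_ff (f92968 IH) (Lpe (f93006 IH) (Lpe (f17390 IH) (Lpn (LP (LK LD1_c7 LD2_c37 LD3_c49))))))))
theorem f93014 : Led Lsl_dt (LP (LK LD1_c7 LD2_c32 LD3_c47)) = (LP (LK LD1_c14 LD2_c13 LD3_c42)) :=
  Lre_d IH (LK LD1_c7 LD2_c32 LD3_c47) (LK LD1_c14 LD2_c13 LD3_c42) Lrfl Lrfl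
theorem f93015 : Led Lsl_et (LP (LK LD1_c3 LD2_c45 LD3_c59)) = (LP (LK LD1_c7 LD2_c32 LD3_c47)) :=
  Lre_e IH (LK LD1_c3 LD2_c45 LD3_c59) (LK LD1_c7 LD2_c32 LD3_c47) Lrfl Lrfl
theorem f17383 : Led Lsl_dt (LP (LK LD1_c7 LD2_c37 LD3_c49)) = (LP (LK LD1_c3 LD2_c48 LD3_c23)) :=
  Lre_d IH (LK LD1_c7 LD2_c37 LD3_c49) (LK LD1_c3 LD2_c48 LD3_c23) Lrfl Lrfl
theorem f17446 : Led Lsl_et (LP (LK LD1_c3 LD2_c48 LD3_c23)) = (LP (LK LD1_c1 LD2_c51 LD3_c12)) :=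
  Lre_e IH (LK LD1_c3 LD2_c48 LD3_c23) (LK LD1_c1 LD2_c51 LD3_c12) Lrfl Lrfl
theorem f93016 : Led Lsl_df (LP (LK LD1_c3 LD2_c45 LD3_c59)) = (LP (LK LD1_c1 LD2_c51 LD3_c12)) :=
  Lgr Lrot70 (Lpr_et (f93015 IH) (Lpr_dt (f93014 IH) (Lpr_et (f93007 IH) (Lpr_dt (f17383 IH) (Lpr_et (f17446 IH) (Lpn (LP (LK LD1_c1 LD2_c51 LD3_c12))))))))
theorem f17411 : Led Lsl_at (LP (LK LD1_c3 LD2_c48 LD3_c22)) = (LP (LK LD1_c1 LD2_c51 LD3_c12)) :=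
  Lre_a IH (LK LD1_c3 LD2_c48 LD3_c22) (LK LD1_c1 LD2_c51 LD3_c12) Lrfl Lrfl
theorem f93026 : Led Lsl_dt (LP (LK LD1_c7 LD2_c32 LD3_c45)) = (LP (LK LD1_c3 LD2_c48 LD3_c22)) :=
  Lgr Lrot44 (Lpe (f93025 IH) (Lpr_df (f93016 IH) (Lpe (f17411 IH) (Lpn (LP (LK LD1_c3 LD2_c48 LD3_c22))))))
theorem f127841 : Led Lsl_ff (LP (LK LD1_c7 LD2_c7 LD3_c30)) = (LP (LK LD1_c3 LD2_c48 LD3_c22)) :=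
  Lgr Lrot19 (Lpr_dt (f104068 IH) (Lpr_ft (f127835 IH) (Lpr_dt (f93026 IH) (Lpn (LP (LK LD1_c3 LD2_c48 LD3_c22))))))
theorem f104067 : Led Lsl_ct (LP (LK LD1_c7 LD2_c7 LD3_c30)) = (LP (LK LD1_c3 LD2_c33 LD3_c20)) :=
  Lre_c IH (LK LD1_c7 LD2_c7 LD3_c30) (LK LD1_c3 LD2_c33 LD3_c20) Lrfl Lrfl
theorem f17405 : Led Lsl_at (LP (LK LD1_c3 LD2_c36 LD3_c45)) = (LP (LK LD1_c1 LD2_c45 LD3_c13)) :=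
  Lre_a IH (LK LD1_c3 LD2_c36 LD3_c45) (LK LD1_c1 LD2_c45 LD3_c13) Lrfl Lrfl
theorem f17406 : Led Lsl_at (LP (LK LD1_c1 LD2_c51 LD3_c12)) = (LP (LK LD1_c3 LD2_c48 LD3_c22)) :=
  Lre_a IH (LK LD1_c1 LD2_c51 LD3_c12) (LK LD1_c3 LD2_c48 LD3_c22) Lrfl Lrfl
theorem f17407 : Led Lsl_cf (LP (LK LD1_c3 LD2_c36 LD3_c45)) = (LP (LK LD1_c3 LD2_c48 LD3_c22)) :=
  Lgr Lrot1 (Lpr_at (f17405 IH) (Lpr_ct (K3.f17387 IH) (Lpr_at (f17406 IH) (Lpn (LP (LK LD1_c3 LD2_c48 LD3_c22))))))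
theorem f17413 : Led Lsl_ct (LP (LK LD1_c3 LD2_c36 LD3_c45)) = (LP (LK LD1_c3 LD2_c48 LD3_c22)) :=
  Lgr Lrot59 (Lpr_cf (f17407 IH) (Lpn (LP (LK LD1_c3 LD2_c48 LD3_c22))))
theorem f127845 : Led Lsl_ft (LP (LK LD1_c3 LD2_c33 LD3_c20)) = (LP (LK LD1_c3 LD2_c36 LD3_c45)) :=
  Lgr Lrot4 (Lpe (f104067 IH) (Lpr_ff (f127841 IH) (Lpe (f17413 IH) (Lpn (LP (LK LD1_c3 LD2_c36 LD3_c45))))))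
theorem f127862 : Led Lsl_gt (LP (LK LD1_c3 LD2_c33 LD3_c20)) = (LP (LK LD1_c3 LD2_c36 LD3_c33)) :=
  Lgr Lrot5 (Lpr_ft (f127845 IH) (Lpr_at (f17405 IH) (Lpe (K3.f97907 IH) (Lpn (LP (LK LD1_c3 LD2_c36 LD3_c33))))))
theorem f127866 : Led Lsl_gf (LP (LK LD1_c7 LD2_c7 LD3_c30)) = (LP (LK LD1_c3 LD2_c48 LD3_c20)) :=
  Lgr Lrot181 (Lpr_ct (f104067 IH) (Lpr_gt (f127862 IH) (Lpr_cf (K4.f97911 IH) (Lpr_bt (K4.f92650 IH) (Lpe (K3.f97709 IH) (Lpe (K0.f14650 IH) (Lpe (K0.f15914 IH) (Lpe (K3.f17110 IH) (Lpe (K3.f15275 IH) (Lpr_bt (K3.f95142 IH) (Lpn (LP (LK LD1_c3 LD2_c48 LD3_c20)))))))))))))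
theorem f104077 : Led Lsl_at (LP (LK LD1_c3 LD2_c33 LD3_c17)) = (LP (LK LD1_c7 LD2_c7 LD3_c30)) :=
  Lre_a IH (LK LD1_c3 LD2_c33 LD3_c17) (LK LD1_c7 LD2_c7 LD3_c30) Lrfl Lrfl
theorem f127890 : Led Lsl_ff (LP (LK LD1_c3 LD2_c33 LD3_c17)) = (LP (LK LD1_c1 LD2_c51 LD3_c12)) :=
  Lgr Lrot52 (Lpr_at (f104077 IH) (Lpr_gf (f127866 IH) (Lpe (K3.f17317 IH) (Lpn (LP (LK LD1_c1 LD2_c51 LD3_c12))))))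
theorem f127894 : Led Lsl_ft (LP (LK LD1_c1 LD2_c43 LD3_c25)) = (LP (LK LD1_c1 LD2_c45 LD3_c13)) :=
  Lgr Lrot4 (Lpe (K3.f12040 IH) (Lpr_ff (f127890 IH) (Lpe (K3.f17387 IH) (Lpn (LP (LK LD1_c1 LD2_c45 LD3_c13))))))
theorem f17417 : Led Lsl_at (LP (LK LD1_c1 LD2_c45 LD3_c13)) = (LP (LK LD1_c3 LD2_c36 LD3_c45)) :=
  Lre_a IH (LK LD1_c1 LD2_c45 LD3_c13) (LK LD1_c3 LD2_c36 LD3_c45) Lrfl Lrfl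
theorem f127900 : Led Lsl_gt (LP (LK LD1_c3 LD2_c33 LD3_c19)) = (LP (LK LD1_c3 LD2_c36 LD3_c45)) :=
  Lgr Lrot46 (Lpe (K3.f10464 IH) (Lpr_ft (f127894 IH) (Lpr_at (f17417 IH) (Lpn (LP (LK LD1_c3 LD2_c36 LD3_c45))))))
theorem f97004 : Led Lsl_at (LP (LK LD1_c3 LD2_c36 LD3_c44)) = (LP (LK LD1_c3 LD2_c27 LD3_c2)) :=
  Lgr Lrot67 (Lpr_bf (K3.f96537 IH) (Lpe (K3.f88507 IH) (Lpe (K3.f88496 IH) (Lpr_af (K3.f96966 IH) (Lpe (K3.f96932 IH) (Lpn (LP (LK LD1_c3 LD2_c27 LD3_c2))))))))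
theorem f127902 : Led Lsl_gf (LP (LK LD1_c3 LD2_c27 LD3_c2)) = (LP (LK LD1_c3 LD2_c36 LD3_c45)) :=
  Lgr Lrot76 (Lpe (f97004 IH) (Lpr_ff (K3.f96878 IH) (Lpr_gt (f127900 IH) (Lpn (LP (LK LD1_c3 LD2_c36 LD3_c45))))))
theorem f15630 : Led Lsl_bt (LP (LK LD1_c0 LD2_c46 LD3_c33)) = (LP (LK LD1_c1 LD2_c40 LD3_c2)) :=
  Lre_b IH (LK LD1_c0 LD2_c46 LD3_c33) (LK LD1_c1 LD2_c40 LD3_c2) Lrfl Lrfl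
theorem f91299 : Led Lsl_gt (LP (LK LD1_c1 LD2_c40 LD3_c2)) = (LP (LK LD1_c3 LD2_c26 LD3_c47)) :=
  Lre_g IH (LK LD1_c1 LD2_c40 LD3_c2) (LK LD1_c3 LD2_c26 LD3_c47) Lrfl Lrfl
theorem f127904 : Led Lsl_bf (LP (LK LD1_c3 LD2_c26 LD3_c47)) = (LP (LK LD1_c3 LD2_c48 LD3_c22)) :=
  Lgr Lrot34 (Lpe (f91299 IH) (Lpe (f15630 IH) (Lpr_ct (K3.f15629 IH) (Lpe (K2.f91297 IH) (Lpe (K0.f14560 IH) (Lpr_gf (K2.f91295 IH) (Lpe (K3.f89686 IH) (Lpr_ct (K3.f89687 IH) (Lpr_gf (f127902 IH) (Lpr_cf (f17407 IH) (Lpn (LP (LK LD1_c3 LD2_c48 LD3_c22)))))))))))))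
theorem f93033 : Led Lsl_df (LP (LK LD1_c7 LD2_c32 LD3_c45)) = (LP (LK LD1_c3 LD2_c48 LD3_c22)) :=
  Lgr Lrot38 (Lpr_dt (f93026 IH) (Lpn (LP (LK LD1_c3 LD2_c48 LD3_c22))))
theorem f127833 : Led Lsl_ft (LP (LK LD1_c7 LD2_c7 LD3_c30)) = (LP (LK LD1_c3 LD2_c48 LD3_c22)) :=
  Lgr Lrot54 (Lpr_df (f104058 IH) (Lpr_ff (f127827 IH) (Lpr_df (f93033 IH) (Lpn (LP (LK LD1_c3 LD2_c48 LD3_c22))))))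
theorem f88171 : Led Lsl_et (LP (LK LD1_c3 LD2_c48 LD3_c29)) = (LP (LK LD1_c7 LD2_c32 LD3_c55)) :=
  Lgr Lrot87 (Lpr_ef (f88162 IH) (Lpn (LP (LK LD1_c7 LD2_c32 LD3_c55))))
theorem f87990 : Led Lsl_bt (LP (LK LD1_c7 LD2_c37 LD3_c59)) = (LP (LK LD1_c3 LD2_c48 LD3_c29)) :=
  Lre_b IH (LK LD1_c7 LD2_c37 LD3_c59) (LK LD1_c3 LD2_c48 LD3_c29) Lrfl Lrfl
theorem f88182 : Led Lsl_bt (LP (LK LD1_c7 LD2_c32 LD3_c55)) = (LP (LK LD1_c14 LD2_c13 LD3_c53)) :=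
  Lre_b IH (LK LD1_c7 LD2_c32 LD3_c55) (LK LD1_c14 LD2_c13 LD3_c53) Lrfl Lrfl
theorem f88183 : Led Lsl_ef (LP (LK LD1_c7 LD2_c37 LD3_c59)) = (LP (LK LD1_c14 LD2_c13 LD3_c53)) :=
  Lgr Lrot29 (Lpr_bt (f87990 IH) (Lpr_et (f88171 IH) (Lpr_bt (f88182 IH) (Lpn (LP (LK LD1_c14 LD2_c13 LD3_c53))))))
theorem f88214 : Led Lsl_dt (LP (LK LD1_c7 LD2_c37 LD3_c59)) = (LP (LK LD1_c3 LD2_c48 LD3_c28)) :=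
  Lre_d IH (LK LD1_c7 LD2_c37 LD3_c59) (LK LD1_c3 LD2_c48 LD3_c28) Lrfl Lrfl
theorem f88215 : Led Lsl_et (LP (LK LD1_c3 LD2_c48 LD3_c28)) = (LP (LK LD1_c1 LD2_c51 LD3_c14)) :=
  Lre_e IH (LK LD1_c3 LD2_c48 LD3_c28) (LK LD1_c1 LD2_c51 LD3_c14) Lrfl Lrfl
theorem f88216 : Led Lsl_dt (LP (LK LD1_c7 LD2_c32 LD3_c52)) = (LP (LK LD1_c14 LD2_c13 LD3_c53)) :=
  Lre_d IH (LK LD1_c7 LD2_c32 LD3_c52) (LK LD1_c14 LD2_c13 LD3_c53) Lrfl Lrfl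
theorem f88217 : Led Lsl_et (LP (LK LD1_c3 LD2_c45 LD3_c61)) = (LP (LK LD1_c7 LD2_c32 LD3_c52)) :=
  Lre_e IH (LK LD1_c3 LD2_c45 LD3_c61) (LK LD1_c7 LD2_c32 LD3_c52) Lrfl Lrfl
theorem f88218 : Led Lsl_dt (LP (LK LD1_c1 LD2_c51 LD3_c14)) = (LP (LK LD1_c3 LD2_c45 LD3_c61)) :=
  Lgr Lrot77 (Lpe (f88215 IH) (Lpe (f88214 IH) (Lpr_ef (f88183 IH) (Lpe (f88216 IH) (Lpe (f88217 IH) (Lpn (LP (LK LD1_c3 LD2_c45 LD3_c61))))))))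
theorem f88226 : Led Lsl_at (LP (LK LD1_c3 LD2_c48 LD3_c27)) = (LP (LK LD1_c1 LD2_c51 LD3_c14)) :=
  Lre_a IH (LK LD1_c3 LD2_c48 LD3_c27) (LK LD1_c1 LD2_c51 LD3_c14) Lrfl Lrfl
theorem f88228 : Led Lsl_df (LP (LK LD1_c3 LD2_c48 LD3_c27)) = (LP (LK LD1_c7 LD2_c32 LD3_c50)) :=
  Lgr Lrot18 (Lpr_at (f88226 IH) (Lpr_dt (f88218 IH) (Lpr_at (f88227 IH) (Lpn (LP (LK LD1_c7 LD2_c32 LD3_c50))))))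
theorem f127825 : Led Lsl_bf (LP (LK LD1_c7 LD2_c7 LD3_c30)) = (LP (LK LD1_c3 LD2_c48 LD3_c27)) :=
  Lgr Lrot93 (Lpr_dt (f104068 IH) (Lpr_bt (f127821 IH) (Lpe (f88228 IH) (Lpn (LP (LK LD1_c3 LD2_c48 LD3_c27))))))
theorem f127917 : Led Lsl_ft (LP (LK LD1_c3 LD2_c26 LD3_c47)) = (LP (LK LD1_c3 LD2_c48 LD3_c27)) :=
  Lgr Lrot75 (Lpr_bf (f127904 IH) (Lpe (f127833 IH) (Lpr_bf (f127825 IH) (Lpn (LP (LK LD1_c3 LD2_c48 LD3_c27))))))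
theorem f127924 : Led Lsl_ff (LP (LK LD1_c3 LD2_c26 LD3_c47)) = (LP (LK LD1_c3 LD2_c48 LD3_c27)) :=
  Lgr Lrot3 (Lpr_ft (f127917 IH) (Lpn (LP (LK LD1_c3 LD2_c48 LD3_c27))))
theorem f107182 : Led Lsl_at (LP (LK LD1_c1 LD2_c50 LD3_c36)) = (LP (LK LD1_c0 LD2_c52 LD3_c28)) :=
  Lgr Lrot107 (Lpe (K3.f96127 IH) (Lpr_af (K3.f107171 IH) (Lpr_cf (K0.f17311 IH) (Lpn (LP (LK LD1_c0 LD2_c52 LD3_c28))))))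
theorem f127908 : Led Lsl_at (LP (LK LD1_c3 LD2_c26 LD3_c47)) = (LP (LK LD1_c3 LD2_c46 LD3_c59)) :=
  Lgr Lrot67 (Lpr_bf (f127904 IH) (Lpe (f17406 IH) (Lpe (K3.f17308 IH) (Lpe (f107182 IH) (Lpe (K4.f88621 IH) (Lpn (LP (LK LD1_c3 LD2_c46 LD3_c59))))))))
theorem f89727 : Led Lsl_bt (LP (LK LD1_c1 LD2_c43 LD3_c23)) = (LP (LK LD1_c3 LD2_c33 LD3_c17)) :=
  Lre_b IH (LK LD1_c1 LD2_c43 LD3_c23) (LK LD1_c3 LD2_c33 LD3_c17) Lrfl Lrfl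
theorem f64622 : Led Lsl_bt (LP (LK LD1_c1 LD2_c51 LD3_c14)) = (LP (LK LD1_c0 LD2_c52 LD3_c29)) :=
  Lre_b IH (LK LD1_c1 LD2_c51 LD3_c14) (LK LD1_c0 LD2_c52 LD3_c29) Lrfl Lrfl
theorem f127750 : Led Lsl_bt (LP (LK LD1_c7 LD2_c7 LD3_c30)) = (LP (LK LD1_c3 LD2_c48 LD3_c27)) :=
  Lgr Lrot62 (Lpe (f104077 IH) (Lpe (f89727 IH) (Lpr_af (f127746 IH) (Lpe (f64622 IH) (Lpe (f88226 IH) (Lpn (LP (LK LD1_c3 LD2_c48 LD3_c27))))))))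
theorem f127868 : Led Lsl_gf (LP (LK LD1_c3 LD2_c48 LD3_c27)) = (LP (LK LD1_c1 LD2_c54 LD3_c30)) :=
  Lgr Lrot124 (Lpe (f127750 IH) (Lpr_ct (f104067 IH) (Lpr_gt (f127862 IH) (Lpr_cf (K4.f97911 IH) (Lpr_bt (K4.f92650 IH) (Lpe (K3.f97709 IH) (Lpr_ct (K0.f14632 IH) (Lpe (f97576 IH) (Lpe (K4.f65965 IH) (Lpr_bt (K4.f65966 IH) (Lpn (LP (LK LD1_c1 LD2_c54 LD3_c30)))))))))))))
theorem f95027 : Led Lsl_bt (LP (LK LD1_c1 LD2_c40 LD3_c2)) = (LP (LK LD1_c0 LD2_c46 LD3_c33)) :=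
  Lre_b IH (LK LD1_c1 LD2_c40 LD3_c2) (LK LD1_c0 LD2_c46 LD3_c33) Lrfl Lrfl
theorem f125871 : Led Lsl_ft (LP (LK LD1_c1 LD2_c54 LD3_c30)) = (LP (LK LD1_c1 LD2_c40 LD3_c2)) :=
  Lgr Lrot75 (Lpe (K4.f65966 IH) (Lpr_ff (f125861 IH) (Lpe (f95027 IH) (Lpn (LP (LK LD1_c1 LD2_c40 LD3_c2))))))
theorem f114460 : Led Lsl_at (LP (LK LD1_c1 LD2_c40 LD3_c2)) = (LP (LK LD1_c3 LD2_c26 LD3_c48)) :=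
  Lre_a IH (LK LD1_c1 LD2_c40 LD3_c2) (LK LD1_c3 LD2_c26 LD3_c48) Lrfl Lrfl
theorem f127870 : Led Lsl_gt (LP (LK LD1_c3 LD2_c48 LD3_c27)) = (LP (LK LD1_c3 LD2_c26 LD3_c48)) :=
  Lgr Lrot46 (Lpr_gf (f127868 IH) (Lpr_ft (f125871 IH) (Lpr_at (f114460 IH) (Lpn (LP (LK LD1_c3 LD2_c26 LD3_c48))))))
theorem f127929 : Led Lsl_gf (LP (LK LD1_c3 LD2_c46 LD3_c59)) = (LP (LK LD1_c3 LD2_c26 LD3_c48)) :=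
  Lgr Lrot76 (Lpe (f127908 IH) (Lpr_ff (f127924 IH) (Lpr_gt (f127870 IH) (Lpn (LP (LK LD1_c3 LD2_c26 LD3_c48))))))
theorem f88230 : Led Lsl_bt (LP (LK LD1_c0 LD2_c52 LD3_c29)) = (LP (LK LD1_c1 LD2_c51 LD3_c14)) :=
  Lre_b IH (LK LD1_c0 LD2_c52 LD3_c29) (LK LD1_c1 LD2_c51 LD3_c14) Lrfl Lrfl
theorem f114422 : Led Lsl_gt (LP (LK LD1_c1 LD2_c51 LD3_c14)) = (LP (LK LD1_c1 LD2_c40 LD3_c2)) :=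
  Lgr Lrot164 (Lpe (f88230 IH) (Lpe (K3.f110225 IH) (Lpr_gf (K4.f114418 IH) (Lpr_cf (K3.f91236 IH) (Lpe (K3.f15627 IH) (Lpr_bf (K0.f15609 IH) (Lpr_ct (K0.f9878 IH) (Lpe (K2.f9907 IH) (Lpe (K3.f15629 IH) (Lpr_bt (f15630 IH) (Lpn (LP (LK LD1_c1 LD2_c40 LD3_c2)))))))))))))
theorem f88234 : Led Lsl_gt (LP (LK LD1_c3 LD2_c48 LD3_c26)) = (LP (LK LD1_c1 LD2_c51 LD3_c14)) :=
  Lre_g IH (LK LD1_c3 LD2_c48 LD3_c26) (LK LD1_c1 LD2_c51 LD3_c14) Lrfl Lrfl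
theorem f114425 : Led Lsl_at (LP (LK LD1_c3 LD2_c26 LD3_c48)) = (LP (LK LD1_c1 LD2_c40 LD3_c2)) :=
  Lre_a IH (LK LD1_c3 LD2_c26 LD3_c48) (LK LD1_c1 LD2_c40 LD3_c2) Lrfl Lrfl
theorem f114426 : Led Lsl_ft (LP (LK LD1_c3 LD2_c48 LD3_c26)) = (LP (LK LD1_c3 LD2_c26 LD3_c48)) :=
  Lgr Lrot2 (Lpr_gt (f88234 IH) (Lpr_gt (f114422 IH) (Lpe (f114425 IH) (Lpn (LP (LK LD1_c3 LD2_c26 LD3_c48))))))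
theorem f114457 : Led Lsl_ff (LP (LK LD1_c3 LD2_c48 LD3_c26)) = (LP (LK LD1_c3 LD2_c26 LD3_c48)) :=
  Lgr Lrot3 (Lpr_ft (f114426 IH) (Lpn (LP (LK LD1_c3 LD2_c26 LD3_c48))))
theorem f127931 : Led Lsl_af (LP (LK LD1_c1 LD2_c54 LD3_c30)) = (LP (LK LD1_c3 LD2_c48 LD3_c26)) :=
  Lgr Lrot31 (Lpr_gf (K4.f96138 IH) (Lpr_gf (f127929 IH) (Lpe (f114457 IH) (Lpn (LP (LK LD1_c3 LD2_c48 LD3_c26))))))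
theorem f103823 : Led Lsl_et (LP (LK LD1_c1 LD2_c54 LD3_c30)) = (LP (LK LD1_c3 LD2_c55 LD3_c47)) :=
  Lre_e IH (LK LD1_c1 LD2_c54 LD3_c30) (LK LD1_c3 LD2_c55 LD3_c47) Lrfl Lrfl
theorem f88241 : Led Lsl_et (LP (LK LD1_c7 LD2_c37 LD3_c55)) = (LP (LK LD1_c3 LD2_c48 LD3_c26)) :=
  Lre_e IH (LK LD1_c7 LD2_c37 LD3_c55) (LK LD1_c3 LD2_c48 LD3_c26) Lrfl Lrfl
theorem f127941 : Led Lsl_at (LP (LK LD1_c3 LD2_c55 LD3_c47)) = (LP (LK LD1_c7 LD2_c37 LD3_c55)) :=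
  Lgr Lrot80 (Lpe (f103823 IH) (Lpr_af (f127931 IH) (Lpe (f88241 IH) (Lpn (LP (LK LD1_c7 LD2_c37 LD3_c55))))))
theorem f122685 : Led Lsl_et (LP (LK LD1_c3 LD2_c42 LD3_c9)) = (LP (LK LD1_c7 LD2_c25 LD3_c2)) :=
  Lre_e IH (LK LD1_c3 LD2_c42 LD3_c9) (LK LD1_c7 LD2_c25 LD3_c2) Lrfl Lrfl
theorem f96145 : Led Lsl_et (LP (LK LD1_c3 LD2_c55 LD3_c47)) = (LP (LK LD1_c1 LD2_c54 LD3_c30)) :=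
  Lre_e IH (LK LD1_c3 LD2_c55 LD3_c47) (LK LD1_c1 LD2_c54 LD3_c30) Lrfl Lrfl
theorem f122702 : Led Lsl_ct (LP (LK LD1_c7 LD2_c25 LD3_c2)) = (LP (LK LD1_c3 LD2_c55 LD3_c47)) :=
  Lgr Lrot15 (Lpe (f122685 IH) (Lpr_cf (f122696 IH) (Lpe (f96145 IH) (Lpn (LP (LK LD1_c3 LD2_c55 LD3_c47))))))
theorem f123506 : Led Lsl_at (LP (LK LD1_c14 LD2_c1 LD3_c45)) = (LP (LK LD1_c7 LD2_c25 LD3_c2)) :=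
  Lre_a IH (LK LD1_c14 LD2_c1 LD3_c45) (LK LD1_c7 LD2_c25 LD3_c2) Lrfl Lrfl
theorem f127947 : Led Lsl_cf (LP (LK LD1_c14 LD2_c1 LD3_c45)) = (LP (LK LD1_c7 LD2_c37 LD3_c55)) :=
  Lgr Lrot1 (Lpr_at (f123506 IH) (Lpr_ct (f122702 IH) (Lpr_at (f127941 IH) (Lpn (LP (LK LD1_c7 LD2_c37 LD3_c55))))))
theorem f127965 : Led Lsl_ct (LP (LK LD1_c14 LD2_c1 LD3_c45)) = (LP (LK LD1_c7 LD2_c37 LD3_c55)) :=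
  Lgr Lrot59 (Lpr_cf (f127947 IH) (Lpn (LP (LK LD1_c7 LD2_c37 LD3_c55))))
theorem f123531 : Led Lsl_et (LP (LK LD1_c7 LD2_c25 LD3_c1)) = (LP (LK LD1_c14 LD2_c1 LD3_c45)) :=
  Lre_e IH (LK LD1_c7 LD2_c25 LD3_c1) (LK LD1_c14 LD2_c1 LD3_c45) Lrfl Lrfl
theorem f127967 : Led Lsl_cf (LP (LK LD1_c7 LD2_c25 LD3_c1)) = (LP (LK LD1_c3 LD2_c48 LD3_c26)) :=
  Lgr Lrot39 (Lpr_et (f123531 IH) (Lpr_ct (f127965 IH) (Lpr_et (f88241 IH) (Lpn (LP (LK LD1_c3 LD2_c48 LD3_c26))))))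
theorem f114461 : Led Lsl_ct (LP (LK LD1_c6 LD2_c55 LD3_c12)) = (LP (LK LD1_c3 LD2_c26 LD3_c48)) :=
  Lre_c IH (LK LD1_c6 LD2_c55 LD3_c12) (LK LD1_c3 LD2_c26 LD3_c48) Lrfl Lrfl
theorem f127969 : Led Lsl_ft (LP (LK LD1_c7 LD2_c25 LD3_c1)) = (LP (LK LD1_c6 LD2_c55 LD3_c12)) :=
  Lgr Lrot4 (Lpr_cf (f127967 IH) (Lpr_ff (f114457 IH) (Lpe (f114461 IH) (Lpn (LP (LK LD1_c6 LD2_c55 LD3_c12))))))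
theorem f127976 : Led Lsl_ff (LP (LK LD1_c7 LD2_c25 LD3_c1)) = (LP (LK LD1_c6 LD2_c55 LD3_c12)) :=
  Lgr Lrot3 (Lpr_ft (f127969 IH) (Lpn (LP (LK LD1_c6 LD2_c55 LD3_c12))))
theorem f122679 : Led Lsl_at (LP (LK LD1_c13 LD2_c55 LD3_c32)) = (LP (LK LD1_c7 LD2_c21 LD3_c55)) :=
  Lre_a IH (LK LD1_c13 LD2_c55 LD3_c32) (LK LD1_c7 LD2_c21 LD3_c55) Lrfl Lrfl
theorem f122680 : Led Lsl_at (LP (LK LD1_c3 LD2_c42 LD3_c9)) = (LP (LK LD1_c7 LD2_c25 LD3_c1)) :=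
  Lre_a IH (LK LD1_c3 LD2_c42 LD3_c9) (LK LD1_c7 LD2_c25 LD3_c1) Lrfl Lrfl
theorem f122681 : Led Lsl_df (LP (LK LD1_c13 LD2_c55 LD3_c32)) = (LP (LK LD1_c7 LD2_c25 LD3_c1)) :=
  Lgr Lrot18 (Lpr_at (f122679 IH) (Lpr_dt (f122675 IH) (Lpr_at (f122680 IH) (Lpn (LP (LK LD1_c7 LD2_c25 LD3_c1))))))
theorem f127887 : Led Lsl_dt (LP (LK LD1_c13 LD2_c8 LD3_c49)) = (LP (LK LD1_c6 LD2_c55 LD3_c12)) :=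
  Lre_d IH (LK LD1_c13 LD2_c8 LD3_c49) (LK LD1_c6 LD2_c55 LD3_c12) Lrfl Lrfl
theorem f127992 : Led Lsl_ft (LP (LK LD1_c13 LD2_c55 LD3_c32)) = (LP (LK LD1_c13 LD2_c8 LD3_c49)) :=
  Lgr Lrot54 (Lpr_df (f122681 IH) (Lpr_ff (f127976 IH) (Lpe (f127887 IH) (Lpn (LP (LK LD1_c13 LD2_c8 LD3_c49))))))
theorem f123532 : Led Lsl_at (LP (LK LD1_c7 LD2_c21 LD3_c55)) = (LP (LK LD1_c13 LD2_c55 LD3_c32)) :=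
  Lre_a IH (LK LD1_c7 LD2_c21 LD3_c55) (LK LD1_c13 LD2_c55 LD3_c32) Lrfl Lrfl
theorem f127998 : Led Lsl_at (LP (LK LD1_c13 LD2_c8 LD3_c49)) = (LP (LK LD1_c6 LD2_c55 LD3_c13)) :=
  Lre_a IH (LK LD1_c13 LD2_c8 LD3_c49) (LK LD1_c6 LD2_c55 LD3_c13) Lrfl Lrfl
theorem f127999 : Led Lsl_ff (LP (LK LD1_c7 LD2_c21 LD3_c55)) = (LP (LK LD1_c6 LD2_c55 LD3_c13)) :=
  Lgr Lrot30 (Lpr_at (f123532 IH) (Lpr_ft (f127992 IH) (Lpr_at (f127998 IH) (Lpn (LP (LK LD1_c6 LD2_c55 LD3_c13))))))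
theorem f128012 : Led Lsl_ft (LP (LK LD1_c7 LD2_c21 LD3_c55)) = (LP (LK LD1_c6 LD2_c55 LD3_c13)) :=
  Lgr Lrot48 (Lpr_ff (f127999 IH) (Lpn (LP (LK LD1_c6 LD2_c55 LD3_c13))))
theorem f128015 : Led Lsl_bt (LP (LK LD1_c6 LD2_c55 LD3_c13)) = (LP (LK LD1_c3 LD2_c26 LD3_c41)) :=
  Lre_b IH (LK LD1_c6 LD2_c55 LD3_c13) (LK LD1_c3 LD2_c26 LD3_c41) Lrfl Lrfl
theorem f128016 : Led Lsl_ff (LP (LK LD1_c3 LD2_c40 LD3_c51)) = (LP (LK LD1_c3 LD2_c26 LD3_c41)) :=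
  Lgr Lrot25 (Lpr_bt (f122674 IH) (Lpr_ft (f128012 IH) (Lpr_bt (f128015 IH) (Lpn (LP (LK LD1_c3 LD2_c26 LD3_c41))))))
theorem f91719 : Led Lsl_dt (LP (LK LD1_c1 LD2_c40 LD3_c0)) = (LP (LK LD1_c3 LD2_c26 LD3_c41)) :=
  Lre_d IH (LK LD1_c1 LD2_c40 LD3_c0) (LK LD1_c3 LD2_c26 LD3_c41) Lrfl Lrfl
theorem f128037 : Led Lsl_ft (LP (LK LD1_c1 LD2_c48 LD3_c4)) = (LP (LK LD1_c1 LD2_c40 LD3_c0)) :=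
  Lgr Lrot54 (Lpe (f122621 IH) (Lpr_ff (f128016 IH) (Lpe (f91719 IH) (Lpn (LP (LK LD1_c1 LD2_c40 LD3_c0))))))
theorem f13548 : Led Lsl_ct (LP (LK LD1_c1 LD2_c40 LD3_c0)) = (LP (LK LD1_c0 LD2_c46 LD3_c32)) :=
  Lre_c IH (LK LD1_c1 LD2_c40 LD3_c0) (LK LD1_c0 LD2_c46 LD3_c32) Lrfl Lrfl
theorem f128039 : Led Lsl_ff (LP (LK LD1_c0 LD2_c53 LD3_c53)) = (LP (LK LD1_c0 LD2_c46 LD3_c32)) :=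
  Lgr Lrot23 (Lpr_ct (K4.f120964 IH) (Lpr_ft (f128037 IH) (Lpr_ct (f13548 IH) (Lpn (LP (LK LD1_c0 LD2_c46 LD3_c32))))))
theorem f91707 : Led Lsl_at (LP (LK LD1_c1 LD2_c39 LD3_c61)) = (LP (LK LD1_c0 LD2_c46 LD3_c32)) :=
  Lre_a IH (LK LD1_c1 LD2_c39 LD3_c61) (LK LD1_c0 LD2_c46 LD3_c32) Lrfl Lrfl
theorem f96972 : Led Lsl_ff (LP (LK LD1_c1 LD2_c39 LD3_c61)) = (LP (LK LD1_c1 LD2_c42 LD3_c40)) :=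
  Lgr Lrot52 (Lpr_at (f91707 IH) (Lpr_gf (K3.f96970 IH) (Lpe (K2.f84760 IH) (Lpn (LP (LK LD1_c1 LD2_c42 LD3_c40))))))
theorem f128044 : Led Lsl_at (LP (LK LD1_c0 LD2_c53 LD3_c53)) = (LP (LK LD1_c1 LD2_c42 LD3_c40)) :=
  Lgr Lrot66 (Lpr_ff (f128039 IH) (Lpe (f91707 IH) (Lpr_ff (f96972 IH) (Lpn (LP (LK LD1_c1 LD2_c42 LD3_c40))))))
theorem f128047 : Led Lsl_gf (LP (LK LD1_c1 LD2_c39 LD3_c33)) = (LP (LK LD1_c0 LD2_c46 LD3_c32)) :=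
  Lgr Lrot47 (Lpr_gt (K4.f121227 IH) (Lpe (f128044 IH) (Lpr_ff (f128039 IH) (Lpn (LP (LK LD1_c0 LD2_c46 LD3_c32))))))
theorem f124059 : Led Lsl_ff (LP (LK LD1_c0 LD2_c49 LD3_c15)) = (LP (LK LD1_c0 LD2_c48 LD3_c17)) :=
  Lgr Lrot3 (Lpr_ft (K4.f124050 IH) (Lpn (LP (LK LD1_c0 LD2_c48 LD3_c17))))
theorem f128049 : Led Lsl_af (LP (LK LD1_c1 LD2_c39 LD3_c33)) = (LP (LK LD1_c0 LD2_c49 LD3_c15)) :=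
  Lgr Lrot31 (Lpr_gf (f128047 IH) (Lpr_gf (K3.f96970 IH) (Lpe (f124059 IH) (Lpn (LP (LK LD1_c0 LD2_c49 LD3_c15))))))
theorem f109454 : Led Lsl_et (LP (LK LD1_c1 LD2_c39 LD3_c33)) = (LP (LK LD1_c3 LD2_c25 LD3_c54)) :=
  Lre_e IH (LK LD1_c1 LD2_c39 LD3_c33) (LK LD1_c3 LD2_c25 LD3_c54) Lrfl Lrfl
theorem f93107 : Led Lsl_et (LP (LK LD1_c1 LD2_c45 LD3_c6)) = (LP (LK LD1_c0 LD2_c49 LD3_c15)) :=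
  Lre_e IH (LK LD1_c1 LD2_c45 LD3_c6) (LK LD1_c0 LD2_c49 LD3_c15) Lrfl Lrfl
theorem f128061 : Led Lsl_at (LP (LK LD1_c3 LD2_c25 LD3_c54)) = (LP (LK LD1_c1 LD2_c45 LD3_c6)) :=
  Lgr Lrot80 (Lpe (f109454 IH) (Lpr_af (f128049 IH) (Lpe (f93107 IH) (Lpn (LP (LK LD1_c1 LD2_c45 LD3_c6))))))
theorem f106196 : Led Lsl_ef (LP (LK LD1_c0 LD2_c21 LD3_c59)) = (LP (LK LD1_c0 LD2_c22 LD3_c29)) :=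
  Lgr Lrot28 (Lpr_ct (K2.f21157 IH) (Lpr_et (K4.f106142 IH) (Lpr_ct (K2.f23690 IH) (Lpn (LP (LK LD1_c0 LD2_c22 LD3_c29))))))
theorem f106199 : Led Lsl_dt (LP (LK LD1_c1 LD2_c44 LD3_c38)) = (LP (LK LD1_c1 LD2_c45 LD3_c6)) :=
  Lgr Lrot77 (Lpe (K4.f87520 IH) (Lpe (K3.f21171 IH) (Lpr_ef (f106196 IH) (Lpr_df (K4.f93077 IH) (Lpe (f93107 IH) (Lpn (LP (LK LD1_c1 LD2_c45 LD3_c6))))))))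
theorem f106206 : Led Lsl_df (LP (LK LD1_c1 LD2_c44 LD3_c38)) = (LP (LK LD1_c1 LD2_c45 LD3_c6)) :=
  Lgr Lrot38 (Lpr_dt (f106199 IH) (Lpn (LP (LK LD1_c1 LD2_c45 LD3_c6))))
theorem f128065 : Led Lsl_df (LP (LK LD1_c3 LD2_c25 LD3_c54)) = (LP (LK LD1_c3 LD2_c35 LD3_c31)) :=
  Lgr Lrot18 (Lpr_at (f128061 IH) (Lpe (f106206 IH) (Lpr_at (K3.f106213 IH) (Lpn (LP (LK LD1_c3 LD2_c35 LD3_c31))))))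
theorem f128067 : Led Lsl_dt (LP (LK LD1_c3 LD2_c25 LD3_c54)) = (LP (LK LD1_c3 LD2_c35 LD3_c31)) :=
  Lgr Lrot42 (Lpr_df (f128065 IH) (Lpn (LP (LK LD1_c3 LD2_c35 LD3_c31))))
theorem f121203 : Led Lsl_et (LP (LK LD1_c3 LD2_c25 LD3_c54)) = (LP (LK LD1_c1 LD2_c39 LD3_c33)) :=
  Lre_e IH (LK LD1_c3 LD2_c25 LD3_c54) (LK LD1_c1 LD2_c39 LD3_c33) Lrfl Lrfl
theorem f103571 : Led Lsl_et (LP (LK LD1_c1 LD2_c39 LD3_c19)) = (LP (LK LD1_c3 LD2_c25 LD3_c24)) :=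
  Lre_e IH (LK LD1_c1 LD2_c39 LD3_c19) (LK LD1_c3 LD2_c25 LD3_c24) Lrfl Lrfl
theorem f121211 : Led Lsl_bf (LP (LK LD1_c3 LD2_c25 LD3_c54)) = (LP (LK LD1_c3 LD2_c25 LD3_c24)) :=
  Lgr Lrot96 (Lpr_et (f121203 IH) (Lpr_bt (K4.f121207 IH) (Lpr_et (f103571 IH) (Lpn (LP (LK LD1_c3 LD2_c25 LD3_c24))))))
theorem f128069 : Led Lsl_df (LP (LK LD1_c3 LD2_c25 LD3_c24)) = (LP (LK LD1_c3 LD2_c15 LD3_c22)) :=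
  Lgr Lrot12 (Lpe (f121211 IH) (Lpr_dt (f128067 IH) (Lpe (K3.f108759 IH) (Lpn (LP (LK LD1_c3 LD2_c15 LD3_c22))))))
theorem f92368 : Led Lsl_dt (LP (LK LD1_c1 LD2_c49 LD3_c59)) = (LP (LK LD1_c3 LD2_c45 LD3_c44)) :=
  Lre_d IH (LK LD1_c1 LD2_c49 LD3_c59) (LK LD1_c3 LD2_c45 LD3_c44) Lrfl Lrfl
theorem f109299 : Led Lsl_af (LP (LK LD1_c1 LD2_c49 LD3_c59)) = (LP (LK LD1_c3 LD2_c29 LD3_c23)) :=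
  Lgr Lrot117 (Lpr_dt (f92368 IH) (Lpr_at (K4.f109291 IH) (Lpr_dt (K4.f64633 IH) (Lpn (LP (LK LD1_c3 LD2_c29 LD3_c23))))))
theorem f108757 : Led Lsl_af (LP (LK LD1_c3 LD2_c15 LD3_c22)) = (LP (LK LD1_c1 LD2_c42 LD3_c59)) :=
  Lgr Lrot0 (Lpr_at (K3.f108755 IH) (Lpn (LP (LK LD1_c1 LD2_c42 LD3_c59))))
theorem f109303 : Led Lsl_ct (LP (LK LD1_c3 LD2_c15 LD3_c22)) = (LP (LK LD1_c3 LD2_c29 LD3_c23)) :=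
  Lgr Lrot111 (Lpr_af (f108757 IH) (Lpe (K4.f92355 IH) (Lpr_af (f109299 IH) (Lpn (LP (LK LD1_c3 LD2_c29 LD3_c23))))))
theorem f109306 : Led Lsl_cf (LP (LK LD1_c3 LD2_c15 LD3_c22)) = (LP (LK LD1_c3 LD2_c29 LD3_c23)) :=
  Lgr Lrot11 (Lpr_ct (f109303 IH) (Lpn (LP (LK LD1_c3 LD2_c29 LD3_c23))))
theorem f62757 : Led Lsl_et (LP (LK LD1_c0 LD2_c23 LD3_c44)) = (LP (LK LD1_c0 LD2_c52 LD3_c32)) :=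
  Lre_e IH (LK LD1_c0 LD2_c23 LD3_c44) (LK LD1_c0 LD2_c52 LD3_c32) Lrfl Lrfl
theorem f62705 : Led Lsl_gt (LP (LK LD1_c0 LD2_c52 LD3_c32)) = (LP (LK LD1_c1 LD2_c51 LD3_c23)) :=
  Lre_g IH (LK LD1_c0 LD2_c52 LD3_c32) (LK LD1_c1 LD2_c51 LD3_c23) Lrfl Lrfl
theorem f62706 : Led Lsl_dt (LP (LK LD1_c1 LD2_c51 LD3_c23)) = (LP (LK LD1_c3 LD2_c48 LD3_c47)) :=
  Lre_d IH (LK LD1_c1 LD2_c51 LD3_c23) (LK LD1_c3 LD2_c48 LD3_c47) Lrfl Lrfl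
theorem f62693 : Led Lsl_et (LP (LK LD1_c0 LD2_c9 LD3_c35)) = (LP (LK LD1_c0 LD2_c21 LD3_c13)) :=
  Lre_e IH (LK LD1_c0 LD2_c9 LD3_c35) (LK LD1_c0 LD2_c21 LD3_c13) Lrfl Lrfl
theorem f62694 : Led Lsl_et (LP (LK LD1_c1 LD2_c42 LD3_c0)) = (LP (LK LD1_c0 LD2_c47 LD3_c29)) :=
  Lre_e IH (LK LD1_c1 LD2_c42 LD3_c0) (LK LD1_c0 LD2_c47 LD3_c29) Lrfl Lrfl
theorem f62695 : Led Lsl_dt (LP (LK LD1_c1 LD2_c42 LD3_c0)) = (LP (LK LD1_c3 LD2_c30 LD3_c59)) :=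
  Lre_d IH (LK LD1_c1 LD2_c42 LD3_c0) (LK LD1_c3 LD2_c30 LD3_c59) Lrfl Lrfl
theorem f62687 : Led Lsl_et (LP (LK LD1_c0 LD2_c10 LD3_c38)) = (LP (LK LD1_c0 LD2_c23 LD3_c45)) :=
  Lre_e IH (LK LD1_c0 LD2_c10 LD3_c38) (LK LD1_c0 LD2_c23 LD3_c45) Lrfl Lrfl
theorem f62691 : Led Lsl_gt (LP (LK LD1_c0 LD2_c23 LD3_c45)) = (LP (LK LD1_c0 LD2_c52 LD3_c33)) :=
  Lre_g IH (LK LD1_c0 LD2_c23 LD3_c45) (LK LD1_c0 LD2_c52 LD3_c33) Lrfl Lrfl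
theorem f62696 : Led Lsl_dt (LP (LK LD1_c0 LD2_c52 LD3_c33)) = (LP (LK LD1_c1 LD2_c51 LD3_c28)) :=
  Lre_d IH (LK LD1_c0 LD2_c52 LD3_c33) (LK LD1_c1 LD2_c51 LD3_c28) Lrfl Lrfl
theorem f62697 : Led Lsl_gf (LP (LK LD1_c3 LD2_c30 LD3_c59)) = (LP (LK LD1_c1 LD2_c51 LD3_c28)) :=
  Lgr Lrot134 (Lpe (f62695 IH) (Lpr_et (f62694 IH) (Lpr_gt (K1.f62683 IH) (Lpe (f62693 IH) (Lpr_dt (K0.f17779 IH) (Lpr_gt (K0.f3946 IH) (Lpr_df (K1.f62652 IH) (Lpr_et (f62687 IH) (Lpr_gt (f62691 IH) (Lpr_dt (f62696 IH) (Lpn (LP (LK LD1_c1 LD2_c51 LD3_c28)))))))))))))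
theorem f62699 : Led Lsl_dt (LP (LK LD1_c3 LD2_c30 LD3_c59)) = (LP (LK LD1_c1 LD2_c42 LD3_c0)) :=
  Lre_d IH (LK LD1_c3 LD2_c30 LD3_c59) (LK LD1_c1 LD2_c42 LD3_c0) Lrfl Lrfl
theorem f62702 : Led Lsl_ct (LP (LK LD1_c1 LD2_c42 LD3_c0)) = (LP (LK LD1_c3 LD2_c30 LD3_c57)) :=
  Lre_c IH (LK LD1_c1 LD2_c42 LD3_c0) (LK LD1_c3 LD2_c30 LD3_c57) Lrfl Lrfl
theorem f62703 : Led Lsl_dt (LP (LK LD1_c7 LD2_c3 LD3_c54)) = (LP (LK LD1_c3 LD2_c30 LD3_c57)) :=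
  Lre_d IH (LK LD1_c7 LD2_c3 LD3_c54) (LK LD1_c3 LD2_c30 LD3_c57) Lrfl Lrfl
theorem f62704 : Led Lsl_ct (LP (LK LD1_c0 LD2_c52 LD3_c32)) = (LP (LK LD1_c0 LD2_c23 LD3_c45)) :=
  Lre_c IH (LK LD1_c0 LD2_c52 LD3_c32) (LK LD1_c0 LD2_c23 LD3_c45) Lrfl Lrfl
theorem f62707 : Led Lsl_gf (LP (LK LD1_c7 LD2_c3 LD3_c54)) = (LP (LK LD1_c3 LD2_c48 LD3_c47)) :=
  Lgr Lrot143 (Lpr_dt (f62703 IH) (Lpe (f62702 IH) (Lpe (f62699 IH) (Lpr_gf (f62697 IH) (Lpe (f62696 IH) (Lpe (f62691 IH) (Lpe (f62704 IH) (Lpr_gt (f62705 IH) (Lpr_dt (f62706 IH) (Lpn (LP (LK LD1_c3 LD2_c48 LD3_c47))))))))))))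
theorem f62751 : Led Lsl_dt (LP (LK LD1_c3 LD2_c30 LD3_c57)) = (LP (LK LD1_c7 LD2_c3 LD3_c54)) :=
  Lre_d IH (LK LD1_c3 LD2_c30 LD3_c57) (LK LD1_c7 LD2_c3 LD3_c54) Lrfl Lrfl
theorem f62752 : Led Lsl_et (LP (LK LD1_c3 LD2_c30 LD3_c57)) = (LP (LK LD1_c1 LD2_c41 LD3_c60)) :=
  Lre_e IH (LK LD1_c3 LD2_c30 LD3_c57) (LK LD1_c1 LD2_c41 LD3_c60) Lrfl Lrfl
theorem f64648 : Led Lsl_et (LP (LK LD1_c1 LD2_c41 LD3_c25)) = (LP (LK LD1_c3 LD2_c29 LD3_c23)) :=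
  Lre_e IH (LK LD1_c1 LD2_c41 LD3_c25) (LK LD1_c3 LD2_c29 LD3_c23) Lrfl Lrfl
theorem f64649 : Led Lsl_gt (LP (LK LD1_c1 LD2_c41 LD3_c60)) = (LP (LK LD1_c3 LD2_c29 LD3_c23)) :=
  Lgr Lrot131 (Lpe (f62752 IH) (Lpr_dt (f62751 IH) (Lpr_gf (f62707 IH) (Lpe (f62706 IH) (Lpe (f62705 IH) (Lpe (f62757 IH) (Lpr_dt (K1.f17460 IH) (Lpe (K3.f62758 IH) (Lpr_df (K3.f64620 IH) (Lpr_et (f64648 IH) (Lpn (LP (LK LD1_c3 LD2_c29 LD3_c23)))))))))))))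
theorem f18831 : Led Lsl_ct (LP (LK LD1_c0 LD2_c47 LD3_c29)) = (LP (LK LD1_c1 LD2_c41 LD3_c60)) :=
  Lre_c IH (LK LD1_c0 LD2_c47 LD3_c29) (LK LD1_c1 LD2_c41 LD3_c60) Lrfl Lrfl
theorem f64662 : Led Lsl_gt (LP (LK LD1_c0 LD2_c52 LD3_c24)) = (LP (LK LD1_c0 LD2_c23 LD3_c56)) :=
  Lre_g IH (LK LD1_c0 LD2_c52 LD3_c24) (LK LD1_c0 LD2_c23 LD3_c56) Lrfl Lrfl
theorem f64663 : Led Lsl_ct (LP (LK LD1_c0 LD2_c23 LD3_c56)) = (LP (LK LD1_c0 LD2_c53 LD3_c10)) :=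
  Lre_c IH (LK LD1_c0 LD2_c23 LD3_c56) (LK LD1_c0 LD2_c53 LD3_c10) Lrfl Lrfl
theorem f87935 : Led Lsl_et (LP (LK LD1_c0 LD2_c23 LD3_c27)) = (LP (LK LD1_c0 LD2_c51 LD3_c55)) :=
  Lre_e IH (LK LD1_c0 LD2_c23 LD3_c27) (LK LD1_c0 LD2_c51 LD3_c55) Lrfl Lrfl
theorem f87936 : Led Lsl_gt (LP (LK LD1_c0 LD2_c51 LD3_c55)) = (LP (LK LD1_c1 LD2_c50 LD3_c7)) :=
  Lre_g IH (LK LD1_c0 LD2_c51 LD3_c55) (LK LD1_c1 LD2_c50 LD3_c7) Lrfl Lrfl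
theorem f87937 : Led Lsl_et (LP (LK LD1_c3 LD2_c46 LD3_c7)) = (LP (LK LD1_c1 LD2_c50 LD3_c7)) :=
  Lre_e IH (LK LD1_c3 LD2_c46 LD3_c7) (LK LD1_c1 LD2_c50 LD3_c7) Lrfl Lrfl
theorem f87926 : Led Lsl_et (LP (LK LD1_c0 LD2_c52 LD3_c41)) = (LP (LK LD1_c0 LD2_c23 LD3_c47)) :=
  Lre_e IH (LK LD1_c0 LD2_c52 LD3_c41) (LK LD1_c0 LD2_c23 LD3_c47) Lrfl Lrfl
theorem f87938 : Led Lsl_dt (LP (LK LD1_c0 LD2_c52 LD3_c41)) = (LP (LK LD1_c1 LD2_c51 LD3_c49)) :=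
  Lre_d IH (LK LD1_c0 LD2_c52 LD3_c41) (LK LD1_c1 LD2_c51 LD3_c49) Lrfl Lrfl
theorem f87939 : Led Lsl_gt (LP (LK LD1_c3 LD2_c49 LD3_c41)) = (LP (LK LD1_c1 LD2_c51 LD3_c49)) :=
  Lre_g IH (LK LD1_c3 LD2_c49 LD3_c41) (LK LD1_c1 LD2_c51 LD3_c49) Lrfl Lrfl
theorem f87940 : Led Lsl_dt (LP (LK LD1_c3 LD2_c46 LD3_c7)) = (LP (LK LD1_c3 LD2_c49 LD3_c41)) :=
  Lgr Lrot136 (Lpr_et (f87937 IH) (Lpe (f87936 IH) (Lpe (f87935 IH) (Lpr_dt (K3.f65698 IH) (Lpe (K3.f66425 IH) (Lpe (K3.f87930 IH) (Lpr_gf (K3.f87928 IH) (Lpe (f87926 IH) (Lpr_dt (f87938 IH) (Lpe (f87939 IH) (Lpn (LP (LK LD1_c3 LD2_c49 LD3_c41)))))))))))))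
theorem f86924 : Led Lsl_dt (LP (LK LD1_c0 LD2_c52 LD3_c43)) = (LP (LK LD1_c0 LD2_c23 LD3_c48)) :=
  Lre_d IH (LK LD1_c0 LD2_c52 LD3_c43) (LK LD1_c0 LD2_c23 LD3_c48) Lrfl Lrfl
theorem f86935 : Led Lsl_gt (LP (LK LD1_c1 LD2_c51 LD3_c54)) = (LP (LK LD1_c0 LD2_c52 LD3_c43)) :=
  Lre_g IH (LK LD1_c1 LD2_c51 LD3_c54) (LK LD1_c0 LD2_c52 LD3_c43) Lrfl Lrfl
theorem f87960 : Led Lsl_dt (LP (LK LD1_c1 LD2_c50 LD3_c13)) = (LP (LK LD1_c1 LD2_c51 LD3_c54)) :=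
  Lre_d IH (LK LD1_c1 LD2_c50 LD3_c13) (LK LD1_c1 LD2_c51 LD3_c54) Lrfl Lrfl
theorem f87961 : Led Lsl_gt (LP (LK LD1_c3 LD2_c30 LD3_c46)) = (LP (LK LD1_c1 LD2_c50 LD3_c13)) :=
  Lre_g IH (LK LD1_c3 LD2_c30 LD3_c46) (LK LD1_c1 LD2_c50 LD3_c13) Lrfl Lrfl
theorem f87962 : Led Lsl_ct (LP (LK LD1_c7 LD2_c3 LD3_c35)) = (LP (LK LD1_c3 LD2_c30 LD3_c46)) :=
  Lre_c IH (LK LD1_c7 LD2_c3 LD3_c35) (LK LD1_c3 LD2_c30 LD3_c46) Lrfl Lrfl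
theorem f87963 : Led Lsl_gf (LP (LK LD1_c3 LD2_c46 LD3_c7)) = (LP (LK LD1_c7 LD2_c3 LD3_c35)) :=
  Lgr Lrot144 (Lpr_dt (f87940 IH) (Lpr_gt (f87939 IH) (Lpr_dt (K2.f87834 IH) (Lpe (K2.f87959 IH) (Lpe (f86924 IH) (Lpe (f86935 IH) (Lpe (f87960 IH) (Lpe (f87961 IH) (Lpe (f87962 IH) (Lpn (LP (LK LD1_c7 LD2_c3 LD3_c35))))))))))))
theorem f87972 : Led Lsl_et (LP (LK LD1_c3 LD2_c30 LD3_c45)) = (LP (LK LD1_c7 LD2_c3 LD3_c35)) :=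
  Lre_e IH (LK LD1_c3 LD2_c30 LD3_c45) (LK LD1_c7 LD2_c3 LD3_c35) Lrfl Lrfl
theorem f87973 : Led Lsl_dt (LP (LK LD1_c3 LD2_c30 LD3_c45)) = (LP (LK LD1_c7 LD2_c3 LD3_c34)) :=
  Lre_d IH (LK LD1_c3 LD2_c30 LD3_c45) (LK LD1_c7 LD2_c3 LD3_c34) Lrfl Lrfl
theorem f87974 : Led Lsl_gf (LP (LK LD1_c7 LD2_c3 LD3_c34)) = (LP (LK LD1_c3 LD2_c48 LD3_c29)) :=
  Lgr Lrot145 (Lpe (f87973 IH) (Lpr_et (f87972 IH) (Lpe (f87963 IH) (Lpr_dt (f87940 IH) (Lpr_gt (f87939 IH) (Lpe (f87938 IH) (Lpr_et (f87926 IH) (Lpe (K3.f87928 IH) (Lpe (f87944 IH) (Lpr_dt (f87945 IH) (Lpn (LP (LK LD1_c3 LD2_c48 LD3_c29)))))))))))))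
theorem f87976 : Led Lsl_dt (LP (LK LD1_c7 LD2_c3 LD3_c34)) = (LP (LK LD1_c3 LD2_c30 LD3_c45)) :=
  Lre_d IH (LK LD1_c7 LD2_c3 LD3_c34) (LK LD1_c3 LD2_c30 LD3_c45) Lrfl Lrfl
theorem f87979 : Led Lsl_ct (LP (LK LD1_c3 LD2_c30 LD3_c45)) = (LP (LK LD1_c1 LD2_c41 LD3_c57)) :=
  Lre_c IH (LK LD1_c3 LD2_c30 LD3_c45) (LK LD1_c1 LD2_c41 LD3_c57) Lrfl Lrfl
theorem f87980 : Led Lsl_dt (LP (LK LD1_c0 LD2_c47 LD3_c28)) = (LP (LK LD1_c1 LD2_c41 LD3_c57)) :=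
  Lre_d IH (LK LD1_c0 LD2_c47 LD3_c28) (LK LD1_c1 LD2_c41 LD3_c57) Lrfl Lrfl
theorem f87981 : Led Lsl_gt (LP (LK LD1_c0 LD2_c21 LD3_c13)) = (LP (LK LD1_c0 LD2_c47 LD3_c28)) :=
  Lre_g IH (LK LD1_c0 LD2_c21 LD3_c13) (LK LD1_c0 LD2_c47 LD3_c28) Lrfl Lrfl
theorem f64989 : Led Lsl_gt (LP (LK LD1_c0 LD2_c23 LD3_c56)) = (LP (LK LD1_c0 LD2_c10 LD3_c41)) :=
  Lre_g IH (LK LD1_c0 LD2_c23 LD3_c56) (LK LD1_c0 LD2_c10 LD3_c41) Lrfl Lrfl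
theorem f87982 : Led Lsl_gt (LP (LK LD1_c0 LD2_c53 LD3_c10)) = (LP (LK LD1_c1 LD2_c51 LD3_c15)) :=
  Lgr Lrot94 (Lpe (f64663 IH) (Lpr_gt (f64989 IH) (Lpr_dt (K1.f62682 IH) (Lpr_gt (f87981 IH) (Lpr_dt (f87980 IH) (Lpe (f87979 IH) (Lpe (f87976 IH) (Lpr_gf (f87974 IH) (Lpe (f87945 IH) (Lpn (LP (LK LD1_c1 LD2_c51 LD3_c15))))))))))))
theorem f128073 : Led Lsl_cf (LP (LK LD1_c3 LD2_c25 LD3_c24)) = (LP (LK LD1_c1 LD2_c51 LD3_c15)) :=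
  Lgr Lrot99 (Lpr_df (f128069 IH) (Lpr_cf (f109306 IH) (Lpe (f64649 IH) (Lpe (f18831 IH) (Lpe (K1.f18816 IH) (Lpe (K1.f18805 IH) (Lpr_gt (f64662 IH) (Lpr_ct (f64663 IH) (Lpr_gt (f87982 IH) (Lpn (LP (LK LD1_c1 LD2_c51 LD3_c15))))))))))))
theorem f128079 : Led Lsl_ct (LP (LK LD1_c3 LD2_c25 LD3_c24)) = (LP (LK LD1_c1 LD2_c51 LD3_c15)) :=
  Lgr Lrot59 (Lpr_cf (f128073 IH) (Lpn (LP (LK LD1_c1 LD2_c51 LD3_c15))))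
theorem f127756 : Led Lsl_af (LP (LK LD1_c3 LD2_c33 LD3_c18)) = (LP (LK LD1_c1 LD2_c51 LD3_c15)) :=
  Lgr Lrot0 (Lpr_at (f127754 IH) (Lpn (LP (LK LD1_c1 LD2_c51 LD3_c15))))
theorem f128081 : Led Lsl_ct (LP (LK LD1_c3 LD2_c33 LD3_c18)) = (LP (LK LD1_c1 LD2_c43 LD3_c24)) :=
  Lre_c IH (LK LD1_c3 LD2_c33 LD3_c18) (LK LD1_c1 LD2_c43 LD3_c24) Lrfl Lrfl
theorem f128082 : Led Lsl_af (LP (LK LD1_c3 LD2_c25 LD3_c24)) = (LP (LK LD1_c1 LD2_c43 LD3_c24)) :=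
  Lgr Lrot68 (Lpr_ct (f128079 IH) (Lpe (f127756 IH) (Lpr_ct (f128081 IH) (Lpn (LP (LK LD1_c1 LD2_c43 LD3_c24))))))
theorem f106203 : Led Lsl_bt (LP (LK LD1_c1 LD2_c45 LD3_c6)) = (LP (LK LD1_c0 LD2_c49 LD3_c17)) :=
  Lre_b IH (LK LD1_c1 LD2_c45 LD3_c6) (LK LD1_c0 LD2_c49 LD3_c17) Lrfl Lrfl
theorem f128091 : Led Lsl_bt (LP (LK LD1_c0 LD2_c48 LD3_c22)) = (LP (LK LD1_c1 LD2_c43 LD3_c24)) :=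
  Lre_b IH (LK LD1_c0 LD2_c48 LD3_c22) (LK LD1_c1 LD2_c43 LD3_c24) Lrfl Lrfl
theorem f128092 : Led Lsl_at (LP (LK LD1_c0 LD2_c49 LD3_c17)) = (LP (LK LD1_c0 LD2_c48 LD3_c22)) :=
  Lgr Lrot67 (Lpe (f106203 IH) (Lpe (f128061 IH) (Lpr_bf (f121211 IH) (Lpr_af (f128082 IH) (Lpe (f128091 IH) (Lpn (LP (LK LD1_c0 LD2_c48 LD3_c22))))))))
theorem f106218 : Led Lsl_ct (LP (LK LD1_c1 LD2_c45 LD3_c11)) = (LP (LK LD1_c0 LD2_c49 LD3_c17)) :=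
  Lre_c IH (LK LD1_c1 LD2_c45 LD3_c11) (LK LD1_c0 LD2_c49 LD3_c17) Lrfl Lrfl
theorem f128096 : Led Lsl_ct (LP (LK LD1_c0 LD2_c48 LD3_c22)) = (LP (LK LD1_c1 LD2_c43 LD3_c27)) :=
  Lre_c IH (LK LD1_c0 LD2_c48 LD3_c22) (LK LD1_c1 LD2_c43 LD3_c27) Lrfl Lrfl
theorem f128097 : Led Lsl_af (LP (LK LD1_c1 LD2_c45 LD3_c11)) = (LP (LK LD1_c1 LD2_c43 LD3_c27)) :=
  Lgr Lrot68 (Lpr_ct (f106218 IH) (Lpr_at (f128092 IH) (Lpr_ct (f128096 IH) (Lpn (LP (LK LD1_c1 LD2_c43 LD3_c27))))))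
theorem f128176 : Led Lsl_et (LP (LK LD1_c1 LD2_c45 LD3_c11)) = (LP (LK LD1_c0 LD2_c49 LD3_c16)) :=
  Lre_e IH (LK LD1_c1 LD2_c45 LD3_c11) (LK LD1_c0 LD2_c49 LD3_c16) Lrfl Lrfl
theorem f97385 : Led Lsl_et (LP (LK LD1_c0 LD2_c48 LD3_c21)) = (LP (LK LD1_c1 LD2_c43 LD3_c27)) :=
  Lre_e IH (LK LD1_c0 LD2_c48 LD3_c21) (LK LD1_c1 LD2_c43 LD3_c27) Lrfl Lrfl
theorem f128177 : Led Lsl_at (LP (LK LD1_c0 LD2_c49 LD3_c16)) = (LP (LK LD1_c0 LD2_c48 LD3_c21)) :=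
  Lgr Lrot80 (Lpe (f128176 IH) (Lpr_af (f128097 IH) (Lpe (f97385 IH) (Lpn (LP (LK LD1_c0 LD2_c48 LD3_c21))))))
theorem f128188 : Led Lsl_ff (LP (LK LD1_c0 LD2_c49 LD3_c16)) = (LP (LK LD1_c0 LD2_c48 LD3_c18)) :=
  Lgr Lrot52 (Lpr_at (f128177 IH) (Lpr_gf (K3.f96329 IH) (Lpr_gf (K2.f11529 IH) (Lpn (LP (LK LD1_c0 LD2_c48 LD3_c18))))))
theorem f128195 : Led Lsl_ft (LP (LK LD1_c0 LD2_c49 LD3_c16)) = (LP (LK LD1_c0 LD2_c48 LD3_c18)) :=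
  Lgr Lrot48 (Lpr_ff (f128188 IH) (Lpn (LP (LK LD1_c0 LD2_c48 LD3_c18))))
theorem f128201 : Led Lsl_ff (LP (LK LD1_c1 LD2_c45 LD3_c10)) = (LP (LK LD1_c1 LD2_c43 LD3_c18)) :=
  Lgr Lrot19 (Lpr_dt (K3.f17506 IH) (Lpr_ft (f128195 IH) (Lpr_dt (K3.f11539 IH) (Lpn (LP (LK LD1_c1 LD2_c43 LD3_c18))))))
theorem f96968 : Led Lsl_gf (LP (LK LD1_c1 LD2_c50 LD3_c16)) = (LP (LK LD1_c1 LD2_c43 LD3_c18)) :=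
  Lgr Lrot154 (Lpr_dt (K3.f62822 IH) (Lpr_ct (K3.f62821 IH) (Lpe (K2.f5764 IH) (Lpe (K4.f94670 IH) (Lpe (K2.f5245 IH) (Lpe (K2.f17469 IH) (Lpr_ct (K3.f96964 IH) (Lpr_gt (K3.f10821 IH) (Lpr_dt (K3.f11539 IH) (Lpn (LP (LK LD1_c1 LD2_c43 LD3_c18))))))))))))
theorem f128207 : Led Lsl_at (LP (LK LD1_c1 LD2_c45 LD3_c10)) = (LP (LK LD1_c1 LD2_c43 LD3_c26)) :=
  Lgr Lrot26 (Lpr_ff (f128201 IH) (Lpe (f96968 IH) (Lpr_gt (K3.f98498 IH) (Lpn (LP (LK LD1_c1 LD2_c43 LD3_c26))))))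
theorem f128209 : Led Lsl_af (LP (LK LD1_c1 LD2_c45 LD3_c22)) = (LP (LK LD1_c1 LD2_c43 LD3_c29)) :=
  Lgr Lrot68 (Lpe (K3.f17504 IH) (Lpr_at (f128207 IH) (Lpe (K3.f98081 IH) (Lpn (LP (LK LD1_c1 LD2_c43 LD3_c29))))))
theorem f128215 : Led Lsl_ft (LP (LK LD1_c1 LD2_c45 LD3_c19)) = (LP (LK LD1_c1 LD2_c43 LD3_c29)) :=
  Lgr Lrot2 (Lpe (K2.f92522 IH) (Lpe (K3.f17501 IH) (Lpr_af (f128209 IH) (Lpn (LP (LK LD1_c1 LD2_c43 LD3_c29))))))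
theorem f128225 : Led Lsl_ff (LP (LK LD1_c1 LD2_c45 LD3_c19)) = (LP (LK LD1_c1 LD2_c43 LD3_c29)) :=
  Lgr Lrot3 (Lpr_ft (f128215 IH) (Lpn (LP (LK LD1_c1 LD2_c43 LD3_c29))))
theorem f10792 : Led Lsl_dt (LP (LK LD1_c1 LD2_c43 LD3_c29)) = (LP (LK LD1_c0 LD2_c48 LD3_c23)) :=
  Lre_d IH (LK LD1_c1 LD2_c43 LD3_c29) (LK LD1_c0 LD2_c48 LD3_c23) Lrfl Lrfl
theorem f388 : Led Lsl_dt (LP (LK LD1_c0 LD2_c49 LD3_c44)) = (LP (LK LD1_c0 LD2_c22 LD3_c20)) :=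
  Lre_d IH (LK LD1_c0 LD2_c49 LD3_c44) (LK LD1_c0 LD2_c22 LD3_c20) Lrfl Lrfl
theorem f98604 : Led Lsl_df (LP (LK LD1_c0 LD2_c21 LD3_c38)) = (LP (LK LD1_c0 LD2_c10 LD3_c2)) :=
  Lgr Lrot162 (Lpe (K3.f6683 IH) (Lpe (K3.f10821 IH) (Lpe (K3.f96964 IH) (Lpe (K3.f92642 IH) (Lpr_dt (K0.f5711 IH) (Lpr_gt (K2.f5754 IH) (Lpr_ct (K3.f98543 IH) (Lpr_gt (K3.f98011 IH) (Lpr_ct (K3.f389 IH) (Lpn (LP (LK LD1_c0 LD2_c10 LD3_c2))))))))))))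
theorem f128233 : Led Lsl_at (LP (LK LD1_c1 LD2_c45 LD3_c19)) = (LP (LK LD1_c1 LD2_c43 LD3_c32)) :=
  Lgr Lrot33 (Lpr_ff (f128225 IH) (Lpr_dt (f10792 IH) (Lpe (K3.f97316 IH) (Lpr_dt (f388 IH) (Lpr_ct (K3.f389 IH) (Lpe (f98604 IH) (Lpr_ct (K2.f6671 IH) (Lpr_dt (K3.f11539 IH) (Lpe (K3.f98469 IH) (Lpn (LP (LK LD1_c1 LD2_c43 LD3_c32))))))))))))
theorem f128211 : Led Lsl_at (LP (LK LD1_c1 LD2_c45 LD3_c22)) = (LP (LK LD1_c1 LD2_c43 LD3_c29)) :=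
  Lgr Lrot100 (Lpr_af (f128209 IH) (Lpn (LP (LK LD1_c1 LD2_c43 LD3_c29))))
theorem f128242 : Led Lsl_ff (LP (LK LD1_c1 LD2_c45 LD3_c22)) = (LP (LK LD1_c1 LD2_c43 LD3_c32)) :=
  Lgr Lrot30 (Lpr_at (f128211 IH) (Lpe (f128225 IH) (Lpr_at (f128233 IH) (Lpn (LP (LK LD1_c1 LD2_c43 LD3_c32))))))
theorem f128263 : Led Lsl_ft (LP (LK LD1_c0 LD2_c49 LD3_c22)) = (LP (LK LD1_c0 LD2_c48 LD3_c24)) :=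
  Lgr Lrot54 (Lpe (K3.f10485 IH) (Lpr_ff (f128242 IH) (Lpe (K3.f10501 IH) (Lpn (LP (LK LD1_c0 LD2_c48 LD3_c24))))))
theorem f128273 : Led Lsl_ff (LP (LK LD1_c0 LD2_c49 LD3_c22)) = (LP (LK LD1_c0 LD2_c48 LD3_c24)) :=
  Lgr Lrot3 (Lpr_ft (f128263 IH) (Lpn (LP (LK LD1_c0 LD2_c48 LD3_c24))))
theorem f10504 : Led Lsl_dt (LP (LK LD1_c1 LD2_c43 LD3_c32)) = (LP (LK LD1_c0 LD2_c48 LD3_c24)) :=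
  Lre_d IH (LK LD1_c1 LD2_c43 LD3_c32) (LK LD1_c0 LD2_c48 LD3_c24) Lrfl Lrfl
theorem f98476 : Led Lsl_cf (LP (LK LD1_c0 LD2_c48 LD3_c24)) = (LP (LK LD1_c0 LD2_c49 LD3_c48)) :=
  Lgr Lrot99 (Lpe (f10504 IH) (Lpr_cf (K3.f98469 IH) (Lpe (K3.f11537 IH) (Lpr_cf (K3.f97149 IH) (Lpe (K3.f98083 IH) (Lpe (K3.f10805 IH) (Lpe (K3.f97027 IH) (Lpr_ct (K3.f97022 IH) (Lpe (K3.f97312 IH) (Lpn (LP (LK LD1_c0 LD2_c49 LD3_c48))))))))))))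
theorem f128279 : Led Lsl_ft (LP (LK LD1_c0 LD2_c50 LD3_c0)) = (LP (LK LD1_c0 LD2_c49 LD3_c48)) :=
  Lgr Lrot4 (Lpe (K3.f90069 IH) (Lpr_ff (f128273 IH) (Lpr_cf (f98476 IH) (Lpn (LP (LK LD1_c0 LD2_c49 LD3_c48))))))
theorem f128284 : Led Lsl_af (LP (LK LD1_c0 LD2_c49 LD3_c61)) = (LP (LK LD1_c0 LD2_c49 LD3_c48)) :=
  Lgr Lrot31 (Lpr_gf (K3.f92520 IH) (Lpe (K3.f87159 IH) (Lpr_ft (f128279 IH) (Lpn (LP (LK LD1_c0 LD2_c49 LD3_c48))))))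
theorem f26207 : Led Lsl_et (LP (LK LD1_c1 LD2_c46 LD3_c4)) = (LP (LK LD1_c0 LD2_c49 LD3_c48)) :=
  Lre_e IH (LK LD1_c1 LD2_c46 LD3_c4) (LK LD1_c0 LD2_c49 LD3_c48) Lrfl Lrfl
theorem f128292 : Led Lsl_at (LP (LK LD1_c1 LD2_c46 LD3_c34)) = (LP (LK LD1_c1 LD2_c46 LD3_c4)) :=
  Lgr Lrot80 (Lpe (K4.f5734 IH) (Lpr_af (f128284 IH) (Lpe (f26207 IH) (Lpn (LP (LK LD1_c1 LD2_c46 LD3_c4))))))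
theorem f26192 : Led Lsl_et (LP (LK LD1_c0 LD2_c49 LD3_c48)) = (LP (LK LD1_c1 LD2_c46 LD3_c4)) :=
  Lre_e IH (LK LD1_c0 LD2_c49 LD3_c48) (LK LD1_c1 LD2_c46 LD3_c4) Lrfl Lrfl
theorem f94480 : Led Lsl_et (LP (LK LD1_c1 LD2_c42 LD3_c60)) = (LP (LK LD1_c0 LD2_c48 LD3_c8)) :=
  Lre_e IH (LK LD1_c1 LD2_c42 LD3_c60) (LK LD1_c0 LD2_c48 LD3_c8) Lrfl Lrfl
theorem f105997 : Led Lsl_dt (LP (LK LD1_c1 LD2_c46 LD3_c4)) = (LP (LK LD1_c1 LD2_c42 LD3_c60)) :=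
  Lgr Lrot77 (Lpe (f26192 IH) (Lpe (K3.f5258 IH) (Lpr_ef (K3.f105963 IH) (Lpe (K2.f10783 IH) (Lpe (f94480 IH) (Lpn (LP (LK LD1_c1 LD2_c42 LD3_c60))))))))
theorem f128298 : Led Lsl_af (LP (LK LD1_c1 LD2_c44 LD3_c41)) = (LP (LK LD1_c1 LD2_c42 LD3_c60)) :=
  Lgr Lrot117 (Lpr_dt (K4.f106117 IH) (Lpr_at (f128292 IH) (Lpr_dt (f105997 IH) (Lpn (LP (LK LD1_c1 LD2_c42 LD3_c60))))))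
theorem f121970 : Led Lsl_et (LP (LK LD1_c1 LD2_c48 LD3_c58)) = (LP (LK LD1_c0 LD2_c51 LD3_c15)) :=
  Lre_e IH (LK LD1_c1 LD2_c48 LD3_c58) (LK LD1_c0 LD2_c51 LD3_c15) Lrfl Lrfl
theorem f122011 : Led Lsl_af (LP (LK LD1_c1 LD2_c48 LD3_c58)) = (LP (LK LD1_c3 LD2_c28 LD3_c24)) :=
  Lgr Lrot50 (Lpr_et (f121970 IH) (Lpr_at (K4.f122007 IH) (Lpr_et (K3.f17689 IH) (Lpn (LP (LK LD1_c3 LD2_c28 LD3_c24))))))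
theorem f128300 : Led Lsl_bt (LP (LK LD1_c1 LD2_c48 LD3_c58)) = (LP (LK LD1_c0 LD2_c51 LD3_c17)) :=
  Lre_b IH (LK LD1_c1 LD2_c48 LD3_c58) (LK LD1_c0 LD2_c51 LD3_c17) Lrfl Lrfl
theorem f122344 : Led Lsl_af (LP (LK LD1_c0 LD2_c50 LD3_c29)) = (LP (LK LD1_c0 LD2_c51 LD3_c17)) :=
  Lgr Lrot0 (Lpr_at (K4.f122342 IH) (Lpn (LP (LK LD1_c0 LD2_c51 LD3_c17))))
theorem f128301 : Led Lsl_bt (LP (LK LD1_c0 LD2_c50 LD3_c29)) = (LP (LK LD1_c1 LD2_c42 LD3_c60)) :=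
  Lgr Lrot62 (Lpr_af (f122344 IH) (Lpe (f128300 IH) (Lpr_af (f122011 IH) (Lpr_bf (K3.f17676 IH) (Lpr_af (f128298 IH) (Lpn (LP (LK LD1_c1 LD2_c42 LD3_c60))))))))
theorem f128310 : Led Lsl_bf (LP (LK LD1_c0 LD2_c22 LD3_c49)) = (LP (LK LD1_c0 LD2_c48 LD3_c8)) :=
  Lgr Lrot96 (Lpr_et (K4.f122340 IH) (Lpr_bt (f128301 IH) (Lpr_et (f94480 IH) (Lpn (LP (LK LD1_c0 LD2_c48 LD3_c8))))))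
theorem f128319 : Led Lsl_dt (LP (LK LD1_c0 LD2_c22 LD3_c49)) = (LP (LK LD1_c0 LD2_c20 LD3_c37)) :=
  Lgr Lrot79 (Lpr_bf (f128310 IH) (Lpe (K2.f10782 IH) (Lpr_bf (K2.f84696 IH) (Lpn (LP (LK LD1_c0 LD2_c20 LD3_c37))))))
theorem f107287 : Led Lsl_dt (LP (LK LD1_c0 LD2_c50 LD3_c15)) = (LP (LK LD1_c1 LD2_c46 LD3_c55)) :=
  Lre_d IH (LK LD1_c0 LD2_c50 LD3_c15) (LK LD1_c1 LD2_c46 LD3_c55) Lrfl Lrfl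
theorem f12109 : Led Lsl_dt (LP (LK LD1_c1 LD2_c39 LD3_c11)) = (LP (LK LD1_c0 LD2_c46 LD3_c0)) :=
  Lre_d IH (LK LD1_c1 LD2_c39 LD3_c11) (LK LD1_c0 LD2_c46 LD3_c0) Lrfl Lrfl
theorem f128325 : Led Lsl_gt (LP (LK LD1_c1 LD2_c46 LD3_c55)) = (LP (LK LD1_c1 LD2_c39 LD3_c11)) :=
  Lgr Lrot49 (Lpe (f107287 IH) (Lpe (K4.f107284 IH) (Lpe (K4.f107283 IH) (Lpr_gt (K3.f4902 IH) (Lpr_dt (K4.f4880 IH) (Lpr_gt (K4.f4893 IH) (Lpr_dt (f128319 IH) (Lpe (K2.f84636 IH) (Lpe (f12109 IH) (Lpn (LP (LK LD1_c1 LD2_c39 LD3_c11))))))))))))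
theorem f124837 : Led Lsl_dt (LP (LK LD1_c0 LD2_c42 LD3_c18)) = (LP (LK LD1_c1 LD2_c31 LD3_c32)) :=
  Lre_d IH (LK LD1_c0 LD2_c42 LD3_c18) (LK LD1_c1 LD2_c31 LD3_c32) Lrfl Lrfl
theorem f12108 : Led Lsl_dt (LP (LK LD1_c0 LD2_c46 LD3_c0)) = (LP (LK LD1_c1 LD2_c39 LD3_c11)) :=
  Lre_d IH (LK LD1_c0 LD2_c46 LD3_c0) (LK LD1_c1 LD2_c39 LD3_c11) Lrfl Lrfl
theorem f105611 : Led Lsl_et (LP (LK LD1_c0 LD2_c46 LD3_c0)) = (LP (LK LD1_c0 LD2_c22 LD3_c56)) :=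
  Lgr Lrot74 (Lpe (K2.f84702 IH) (Lpr_ef (K3.f105609 IH) (Lpe (K3.f26182 IH) (Lpn (LP (LK LD1_c0 LD2_c22 LD3_c56))))))
theorem f128328 : Led Lsl_gf (LP (LK LD1_c1 LD2_c31 LD3_c32)) = (LP (LK LD1_c1 LD2_c47 LD3_c59)) :=
  Lgr Lrot145 (Lpe (f124837 IH) (Lpr_et (f125653 IH) (Lpr_gt (K4.f107284 IH) (Lpr_dt (f107287 IH) (Lpr_gt (f128325 IH) (Lpe (f12108 IH) (Lpr_et (f105611 IH) (Lpr_gt (K3.f12841 IH) (Lpe (K3.f104118 IH) (Lpr_dt (K4.f26249 IH) (Lpn (LP (LK LD1_c1 LD2_c47 LD3_c59)))))))))))))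
theorem f116077 : Led Lsl_ct (LP (LK LD1_c0 LD2_c51 LD3_c8)) = (LP (LK LD1_c0 LD2_c23 LD3_c5)) :=
  Lre_c IH (LK LD1_c0 LD2_c51 LD3_c8) (LK LD1_c0 LD2_c23 LD3_c5) Lrfl Lrfl
theorem f116090 : Led Lsl_gt (LP (LK LD1_c1 LD2_c48 LD3_c45)) = (LP (LK LD1_c0 LD2_c51 LD3_c8)) :=
  Lre_g IH (LK LD1_c1 LD2_c48 LD3_c45) (LK LD1_c0 LD2_c51 LD3_c8) Lrfl Lrfl
theorem f128331 : Led Lsl_ct (LP (LK LD1_c1 LD2_c31 LD3_c32)) = (LP (LK LD1_c1 LD2_c48 LD3_c45)) :=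
  Lgr Lrot152 (Lpr_gf (f128328 IH) (Lpe (K4.f26249 IH) (Lpe (f120984 IH) (Lpr_ct (K4.f120829 IH) (Lpr_gt (K4.f12898 IH) (Lpr_ct (K4.f11293 IH) (Lpe (K4.f64387 IH) (Lpe (f116077 IH) (Lpe (f116090 IH) (Lpn (LP (LK LD1_c1 LD2_c48 LD3_c45))))))))))))
theorem f128346 : Led Lsl_bt (LP (LK LD1_c1 LD2_c31 LD3_c32)) = (LP (LK LD1_c0 LD2_c42 LD3_c20)) :=
  Lre_b IH (LK LD1_c1 LD2_c31 LD3_c32) (LK LD1_c0 LD2_c42 LD3_c20) Lrfl Lrfl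
theorem f97369 : Led Lsl_ct (LP (LK LD1_c0 LD2_c23 LD3_c5)) = (LP (LK LD1_c0 LD2_c51 LD3_c8)) :=
  Lre_c IH (LK LD1_c0 LD2_c23 LD3_c5) (LK LD1_c0 LD2_c51 LD3_c8) Lrfl Lrfl
theorem f124184 : Led Lsl_bf (LP (LK LD1_c0 LD2_c13 LD3_c44)) = (LP (LK LD1_c0 LD2_c23 LD3_c5)) :=
  Lgr Lrot24 (Lpr_bt (K4.f124152 IH) (Lpn (LP (LK LD1_c0 LD2_c23 LD3_c5))))
theorem f25195 : Led Lsl_cf (LP (LK LD1_c0 LD2_c13 LD3_c43)) = (LP (LK LD1_c0 LD2_c29 LD3_c28)) :=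
  Lgr Lrot11 (Lpr_ct (K2.f25182 IH) (Lpn (LP (LK LD1_c0 LD2_c29 LD3_c28))))
theorem f13593 : Led Lsl_dt (LP (LK LD1_c0 LD2_c13 LD3_c44)) = (LP (LK LD1_c0 LD2_c6 LD3_c17)) :=
  Lre_d IH (LK LD1_c0 LD2_c13 LD3_c44) (LK LD1_c0 LD2_c6 LD3_c17) Lrfl Lrfl
theorem f26720 : Led Lsl_ct (LP (LK LD1_c0 LD2_c29 LD3_c26)) = (LP (LK LD1_c0 LD2_c13 LD3_c44)) :=
  Lgr Lrot176 (Lpe (K1.f20540 IH) (Lpe (K1.f20463 IH) (Lpe (K0.f20531 IH) (Lpe (K0.f408 IH) (Lpr_df (K0.f7360 IH) (Lpr_cf (K0.f23272 IH) (Lpe (K0.f20835 IH) (Lpr_cf (f25195 IH) (Lpe (K2.f25185 IH) (Lpe (K2.f20253 IH) (Lpe (K4.f26610 IH) (Lpr_cf (K0.f26620 IH) (Lpe (K0.f13429 IH) (Lpr_cf (K3.f13582 IH) (Lpe (f13593 IH) (Lpn (LP (LK LD1_c0 LD2_c13 LD3_c44))))))))))))))))))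
theorem f57596 : Led Lsl_gf (LP (LK LD1_c0 LD2_c18 LD3_c26)) = (LP (LK LD1_c0 LD2_c13 LD3_c44)) :=
  Lgr Lrot148 (Lpr_dt (K0.f25155 IH) (Lpr_gt (K1.f57573 IH) (Lpe (K1.f57530 IH) (Lpr_ct (K1.f56669 IH) (Lpe (K1.f20556 IH) (Lpe (K1.f20865 IH) (Lpe (K1.f56584 IH) (Lpe (K1.f56585 IH) (Lpr_ct (f26720 IH) (Lpn (LP (LK LD1_c0 LD2_c13 LD3_c44))))))))))))
theorem f26359 : Led Lsl_bt (LP (LK LD1_c0 LD2_c13 LD3_c38)) = (LP (LK LD1_c0 LD2_c30 LD3_c41)) :=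
  Lre_b IH (LK LD1_c0 LD2_c13 LD3_c38) (LK LD1_c0 LD2_c30 LD3_c41) Lrfl Lrfl
theorem f128347 : Led Lsl_gf (LP (LK LD1_c0 LD2_c42 LD3_c20)) = (LP (LK LD1_c0 LD2_c30 LD3_c41)) :=
  Lgr Lrot124 (Lpe (f128346 IH) (Lpr_ct (f128331 IH) (Lpr_gt (f116090 IH) (Lpe (f97369 IH) (Lpe (f124184 IH) (Lpe (f57596 IH) (Lpr_ct (K3.f25165 IH) (Lpr_gt (K0.f23002 IH) (Lpr_cf (K0.f26345 IH) (Lpr_bt (f26359 IH) (Lpn (LP (LK LD1_c0 LD2_c30 LD3_c41)))))))))))))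
theorem f82442 : Led Lsl_dt (LP (LK LD1_c0 LD2_c42 LD3_c20)) = (LP (LK LD1_c0 LD2_c18 LD3_c54)) :=
  Lre_d IH (LK LD1_c0 LD2_c42 LD3_c20) (LK LD1_c0 LD2_c18 LD3_c54) Lrfl Lrfl
theorem f82402 : Led Lsl_dt (LP (LK LD1_c1 LD2_c31 LD3_c35)) = (LP (LK LD1_c0 LD2_c42 LD3_c19)) :=
  Lre_d IH (LK LD1_c1 LD2_c31 LD3_c35) (LK LD1_c0 LD2_c42 LD3_c19) Lrfl Lrfl
theorem f128349 : Led Lsl_gf (LP (LK LD1_c1 LD2_c31 LD3_c35)) = (LP (LK LD1_c1 LD2_c26 LD3_c60)) :=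
  Lgr Lrot143 (Lpr_dt (f82402 IH) (Lpe (f82399 IH) (Lpe (f82442 IH) (Lpr_gf (f128347 IH) (Lpe (K2.f26076 IH) (Lpe (K3.f26099 IH) (Lpr_cf (K3.f26101 IH) (Lpr_gt (f124416 IH) (Lpr_dt (K4.f115526 IH) (Lpn (LP (LK LD1_c1 LD2_c26 LD3_c60))))))))))))
theorem f82297 : Led Lsl_gf (LP (LK LD1_c0 LD2_c19 LD3_c12)) = (LP (LK LD1_c0 LD2_c30 LD3_c38)) :=
  Lgr Lrot76 (Lpe (K2.f23578 IH) (Lpr_ff (K2.f82289 IH) (Lpr_gt (K3.f26084 IH) (Lpn (LP (LK LD1_c0 LD2_c30 LD3_c38))))))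
theorem f23582 : Led Lsl_at (LP (LK LD1_c1 LD2_c7 LD3_c8)) = (LP (LK LD1_c2 LD2_c19 LD3_c48)) :=
  Lre_a IH (LK LD1_c1 LD2_c7 LD3_c8) (LK LD1_c2 LD2_c19 LD3_c48) Lrfl Lrfl
theorem f82364 : Led Lsl_gt (LP (LK LD1_c0 LD2_c42 LD3_c56)) = (LP (LK LD1_c1 LD2_c32 LD3_c40)) :=
  Lre_g IH (LK LD1_c0 LD2_c42 LD3_c56) (LK LD1_c1 LD2_c32 LD3_c40) Lrfl Lrfl
theorem f82365 : Led Lsl_gf (LP (LK LD1_c2 LD2_c19 LD3_c48)) = (LP (LK LD1_c1 LD2_c32 LD3_c40)) :=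
  Lgr Lrot76 (Lpe (f23582 IH) (Lpr_ff (K4.f82352 IH) (Lpr_gt (f82364 IH) (Lpn (LP (LK LD1_c1 LD2_c32 LD3_c40))))))
theorem f128367 : Led Lsl_ct (LP (LK LD1_c1 LD2_c31 LD3_c35)) = (LP (LK LD1_c1 LD2_c32 LD3_c40)) :=
  Lgr Lrot152 (Lpr_gf (f128349 IH) (Lpe (K4.f115526 IH) (Lpr_gt (K3.f79298 IH) (Lpr_ct (K3.f26095 IH) (Lpe (f82297 IH) (Lpe (K2.f23573 IH) (Lpe (K2.f23575 IH) (Lpe (K2.f23576 IH) (Lpr_gf (f82365 IH) (Lpn (LP (LK LD1_c1 LD2_c32 LD3_c40))))))))))))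
theorem f128371 : Led Lsl_cf (LP (LK LD1_c1 LD2_c31 LD3_c35)) = (LP (LK LD1_c1 LD2_c32 LD3_c40)) :=
  Lgr Lrot11 (Lpr_ct (f128367 IH) (Lpn (LP (LK LD1_c1 LD2_c32 LD3_c40))))
theorem f82400 : Led Lsl_dt (LP (LK LD1_c0 LD2_c42 LD3_c19)) = (LP (LK LD1_c1 LD2_c31 LD3_c35)) :=
  Lre_d IH (LK LD1_c0 LD2_c42 LD3_c19) (LK LD1_c1 LD2_c31 LD3_c35) Lrfl Lrfl
theorem f26145 : Led Lsl_ct (LP (LK LD1_c0 LD2_c19 LD3_c6)) = (LP (LK LD1_c0 LD2_c42 LD3_c56)) :=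
  Lre_c IH (LK LD1_c0 LD2_c19 LD3_c6) (LK LD1_c0 LD2_c42 LD3_c56) Lrfl Lrfl
theorem f128403 : Led Lsl_df (LP (LK LD1_c0 LD2_c30 LD3_c31)) = (LP (LK LD1_c0 LD2_c42 LD3_c55)) :=
  Lgr Lrot155 (Lpr_gt (K3.f61637 IH) (Lpe (K2.f82388 IH) (Lpr_gt (f16666 IH) (Lpr_ct (f82399 IH) (Lpr_dt (f82400 IH) (Lpr_cf (f128371 IH) (Lpe (f82364 IH) (Lpe (f26145 IH) (Lpe (K4.f26086 IH) (Lpn (LP (LK LD1_c0 LD2_c42 LD3_c55))))))))))))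
theorem f66653 : Led Lsl_dt (LP (LK LD1_c0 LD2_c18 LD3_c34)) = (LP (LK LD1_c0 LD2_c41 LD3_c33)) :=
  Lre_d IH (LK LD1_c0 LD2_c18 LD3_c34) (LK LD1_c0 LD2_c41 LD3_c33) Lrfl Lrfl
theorem f128433 : Led Lsl_ft (LP (LK LD1_c0 LD2_c41 LD3_c33)) = (LP (LK LD1_c0 LD2_c42 LD3_c55)) :=
  Lgr Lrot54 (Lpe (f66653 IH) (Lpr_ff (K4.f113094 IH) (Lpr_df (f128403 IH) (Lpn (LP (LK LD1_c0 LD2_c42 LD3_c55))))))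
theorem f128450 : Led Lsl_ff (LP (LK LD1_c0 LD2_c41 LD3_c33)) = (LP (LK LD1_c0 LD2_c42 LD3_c55)) :=
  Lgr Lrot3 (Lpr_ft (f128433 IH) (Lpn (LP (LK LD1_c0 LD2_c42 LD3_c55))))
theorem f128458 : Led Lsl_et (LP (LK LD1_c0 LD2_c41 LD3_c33)) = (LP (LK LD1_c1 LD2_c29 LD3_c52)) :=
  Lre_e IH (LK LD1_c0 LD2_c41 LD3_c33) (LK LD1_c1 LD2_c29 LD3_c52) Lrfl Lrfl
theorem f128459 : Led Lsl_ft (LP (LK LD1_c1 LD2_c29 LD3_c52)) = (LP (LK LD1_c3 LD2_c7 LD3_c16)) :=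
  Lre_f IH (LK LD1_c1 LD2_c29 LD3_c52) (LK LD1_c3 LD2_c7 LD3_c16) Lrfl Lrfl
theorem f82340 : Led Lsl_et (LP (LK LD1_c1 LD2_c32 LD3_c39)) = (LP (LK LD1_c0 LD2_c42 LD3_c55)) :=
  Lre_e IH (LK LD1_c1 LD2_c32 LD3_c39) (LK LD1_c0 LD2_c42 LD3_c55) Lrfl Lrfl
theorem f128460 : Led Lsl_ft (LP (LK LD1_c3 LD2_c12 LD3_c23)) = (LP (LK LD1_c1 LD2_c32 LD3_c39)) :=
  Lre_f IH (LK LD1_c3 LD2_c12 LD3_c23) (LK LD1_c1 LD2_c32 LD3_c39) Lrfl Lrfl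
theorem f128461 : Led Lsl_et (LP (LK LD1_c3 LD2_c7 LD3_c16)) = (LP (LK LD1_c3 LD2_c12 LD3_c23)) :=
  Lgr Lrot69 (Lpe (f128459 IH) (Lpe (f128458 IH) (Lpr_ff (f128450 IH) (Lpe (f82340 IH) (Lpe (f128460 IH) (Lpn (LP (LK LD1_c3 LD2_c12 LD3_c23))))))))
theorem f128467 : Led Lsl_ct (LP (LK LD1_c6 LD2_c19 LD3_c32)) = (LP (LK LD1_c3 LD2_c7 LD3_c16)) :=
  Lre_c IH (LK LD1_c6 LD2_c19 LD3_c32) (LK LD1_c3 LD2_c7 LD3_c16) Lrfl Lrfl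
theorem f128468 : Led Lsl_ct (LP (LK LD1_c3 LD2_c12 LD3_c23)) = (LP (LK LD1_c6 LD2_c28 LD3_c46)) :=
  Lre_c IH (LK LD1_c3 LD2_c12 LD3_c23) (LK LD1_c6 LD2_c28 LD3_c46) Lrfl Lrfl
theorem f128469 : Led Lsl_ef (LP (LK LD1_c6 LD2_c19 LD3_c32)) = (LP (LK LD1_c6 LD2_c28 LD3_c46)) :=
  Lgr Lrot28 (Lpr_ct (f128467 IH) (Lpr_et (f128461 IH) (Lpr_ct (f128468 IH) (Lpn (LP (LK LD1_c6 LD2_c28 LD3_c46))))))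
theorem f128476 : Led Lsl_et (LP (LK LD1_c6 LD2_c19 LD3_c32)) = (LP (LK LD1_c6 LD2_c28 LD3_c46)) :=
  Lgr Lrot87 (Lpr_ef (f128469 IH) (Lpn (LP (LK LD1_c6 LD2_c28 LD3_c46))))
theorem f128482 : Led Lsl_bt (LP (LK LD1_c12 LD2_c14 LD3_c12)) = (LP (LK LD1_c6 LD2_c19 LD3_c32)) :=
  Lre_b IH (LK LD1_c12 LD2_c14 LD3_c12) (LK LD1_c6 LD2_c19 LD3_c32) Lrfl Lrfl
theorem f128483 : Led Lsl_bt (LP (LK LD1_c6 LD2_c28 LD3_c46)) = (LP (LK LD1_c12 LD2_c28 LD3_c7)) :=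
  Lre_b IH (LK LD1_c6 LD2_c28 LD3_c46) (LK LD1_c12 LD2_c28 LD3_c7) Lrfl Lrfl
theorem f128484 : Led Lsl_ef (LP (LK LD1_c12 LD2_c14 LD3_c12)) = (LP (LK LD1_c12 LD2_c28 LD3_c7)) :=
  Lgr Lrot29 (Lpr_bt (f128482 IH) (Lpr_et (f128476 IH) (Lpr_bt (f128483 IH) (Lpn (LP (LK LD1_c12 LD2_c28 LD3_c7))))))
theorem f110505 : Led Lsl_ft (LP (LK LD1_c12 LD2_c14 LD3_c12)) = (LP (LK LD1_c6 LD2_c19 LD3_c28)) :=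
  Lre_f IH (LK LD1_c12 LD2_c14 LD3_c12) (LK LD1_c6 LD2_c19 LD3_c28) Lrfl Lrfl
theorem f110491 : Led Lsl_et (LP (LK LD1_c6 LD2_c19 LD3_c28)) = (LP (LK LD1_c3 LD2_c7 LD3_c12)) :=
  Lre_e IH (LK LD1_c6 LD2_c19 LD3_c28) (LK LD1_c3 LD2_c7 LD3_c12) Lrfl Lrfl
theorem f128492 : Led Lsl_ft (LP (LK LD1_c6 LD2_c28 LD3_c41)) = (LP (LK LD1_c12 LD2_c28 LD3_c7)) :=
  Lre_f IH (LK LD1_c6 LD2_c28 LD3_c41) (LK LD1_c12 LD2_c28 LD3_c7) Lrfl Lrfl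
theorem f128493 : Led Lsl_et (LP (LK LD1_c3 LD2_c12 LD3_c17)) = (LP (LK LD1_c6 LD2_c28 LD3_c41)) :=
  Lre_e IH (LK LD1_c3 LD2_c12 LD3_c17) (LK LD1_c6 LD2_c28 LD3_c41) Lrfl Lrfl
theorem f128494 : Led Lsl_ft (LP (LK LD1_c3 LD2_c7 LD3_c12)) = (LP (LK LD1_c3 LD2_c12 LD3_c17)) :=
  Lgr Lrot86 (Lpe (f110491 IH) (Lpe (f110505 IH) (Lpr_ef (f128484 IH) (Lpe (f128492 IH) (Lpe (f128493 IH) (Lpn (LP (LK LD1_c3 LD2_c12 LD3_c17))))))))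
theorem f128500 : Led Lsl_ff (LP (LK LD1_c3 LD2_c7 LD3_c12)) = (LP (LK LD1_c3 LD2_c12 LD3_c17)) :=
  Lgr Lrot3 (Lpr_ft (f128494 IH) (Lpn (LP (LK LD1_c3 LD2_c12 LD3_c17))))
theorem f102237 : Led Lsl_et (LP (LK LD1_c2 LD2_c20 LD3_c30)) = (LP (LK LD1_c4 LD2_c44 LD3_c42)) :=
  Lre_e IH (LK LD1_c2 LD2_c20 LD3_c30) (LK LD1_c4 LD2_c44 LD3_c42) Lrfl Lrfl
theorem f110389 : Led Lsl_et (LP (LK LD1_c3 LD2_c7 LD3_c11)) = (LP (LK LD1_c1 LD2_c29 LD3_c50)) :=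
  Lre_e IH (LK LD1_c3 LD2_c7 LD3_c11) (LK LD1_c1 LD2_c29 LD3_c50) Lrfl Lrfl
theorem f110435 : Led Lsl_ct (LP (LK LD1_c4 LD2_c44 LD3_c42)) = (LP (LK LD1_c3 LD2_c7 LD3_c11)) :=
  Lgr Lrot15 (Lpe (f102237 IH) (Lpr_cf (K4.f110383 IH) (Lpe (f110389 IH) (Lpn (LP (LK LD1_c3 LD2_c7 LD3_c11))))))
theorem f110477 : Led Lsl_cf (LP (LK LD1_c4 LD2_c44 LD3_c42)) = (LP (LK LD1_c3 LD2_c7 LD3_c11)) :=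
  Lgr Lrot11 (Lpr_ct (f110435 IH) (Lpn (LP (LK LD1_c3 LD2_c7 LD3_c11))))
theorem f110480 : Led Lsl_bt (LP (LK LD1_c4 LD2_c44 LD3_c42)) = (LP (LK LD1_c9 LD2_c22 LD3_c4)) :=
  Lre_b IH (LK LD1_c4 LD2_c44 LD3_c42) (LK LD1_c9 LD2_c22 LD3_c4) Lrfl Lrfl
theorem f110481 : Led Lsl_bt (LP (LK LD1_c1 LD2_c29 LD3_c52)) = (LP (LK LD1_c3 LD2_c7 LD3_c11)) :=
  Lre_b IH (LK LD1_c1 LD2_c29 LD3_c52) (LK LD1_c3 LD2_c7 LD3_c11) Lrfl Lrfl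
theorem f110482 : Led Lsl_ct (LP (LK LD1_c3 LD2_c7 LD3_c14)) = (LP (LK LD1_c1 LD2_c29 LD3_c52)) :=
  Lre_c IH (LK LD1_c3 LD2_c7 LD3_c14) (LK LD1_c1 LD2_c29 LD3_c52) Lrfl Lrfl
theorem f110483 : Led Lsl_bt (LP (LK LD1_c6 LD2_c19 LD3_c28)) = (LP (LK LD1_c3 LD2_c7 LD3_c14)) :=
  Lre_b IH (LK LD1_c6 LD2_c19 LD3_c28) (LK LD1_c3 LD2_c7 LD3_c14) Lrfl Lrfl
theorem f110484 : Led Lsl_ct (LP (LK LD1_c9 LD2_c22 LD3_c4)) = (LP (LK LD1_c6 LD2_c19 LD3_c28)) :=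
  Lgr Lrot83 (Lpe (f110480 IH) (Lpr_cf (f110477 IH) (Lpe (f110481 IH) (Lpe (f110482 IH) (Lpe (f110483 IH) (Lpn (LP (LK LD1_c6 LD2_c19 LD3_c28))))))))
theorem f110490 : Led Lsl_et (LP (LK LD1_c4 LD2_c44 LD3_c40)) = (LP (LK LD1_c9 LD2_c22 LD3_c4)) :=
  Lre_e IH (LK LD1_c4 LD2_c44 LD3_c40) (LK LD1_c9 LD2_c22 LD3_c4) Lrfl Lrfl
theorem f110492 : Led Lsl_cf (LP (LK LD1_c4 LD2_c44 LD3_c40)) = (LP (LK LD1_c3 LD2_c7 LD3_c12)) :=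
  Lgr Lrot39 (Lpr_et (f110490 IH) (Lpr_ct (f110484 IH) (Lpr_et (f110491 IH) (Lpn (LP (LK LD1_c3 LD2_c7 LD3_c12))))))
theorem f128503 : Led Lsl_ct (LP (LK LD1_c6 LD2_c28 LD3_c32)) = (LP (LK LD1_c3 LD2_c12 LD3_c17)) :=
  Lre_c IH (LK LD1_c6 LD2_c28 LD3_c32) (LK LD1_c3 LD2_c12 LD3_c17) Lrfl Lrfl
theorem f128504 : Led Lsl_ft (LP (LK LD1_c4 LD2_c44 LD3_c40)) = (LP (LK LD1_c6 LD2_c28 LD3_c32)) :=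
  Lgr Lrot4 (Lpr_cf (f110492 IH) (Lpr_ff (f128500 IH) (Lpe (f128503 IH) (Lpn (LP (LK LD1_c6 LD2_c28 LD3_c32))))))
theorem f110429 : Led Lsl_bt (LP (LK LD1_c2 LD2_c20 LD3_c30)) = (LP (LK LD1_c4 LD2_c44 LD3_c40)) :=
  Lre_b IH (LK LD1_c2 LD2_c20 LD3_c30) (LK LD1_c4 LD2_c44 LD3_c40) Lrfl Lrfl
theorem f128509 : Led Lsl_bt (LP (LK LD1_c6 LD2_c28 LD3_c32)) = (LP (LK LD1_c3 LD2_c12 LD3_c15)) :=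
  Lre_b IH (LK LD1_c6 LD2_c28 LD3_c32) (LK LD1_c3 LD2_c12 LD3_c15) Lrfl Lrfl
theorem f128510 : Led Lsl_ff (LP (LK LD1_c2 LD2_c20 LD3_c30)) = (LP (LK LD1_c3 LD2_c12 LD3_c15)) :=
  Lgr Lrot25 (Lpr_bt (f110429 IH) (Lpr_ft (f128504 IH) (Lpr_bt (f128509 IH) (Lpn (LP (LK LD1_c3 LD2_c12 LD3_c15))))))
theorem f82339 : Led Lsl_ct (LP (LK LD1_c1 LD2_c32 LD3_c37)) = (LP (LK LD1_c3 LD2_c12 LD3_c15)) :=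
  Lre_c IH (LK LD1_c1 LD2_c32 LD3_c37) (LK LD1_c3 LD2_c12 LD3_c15) Lrfl Lrfl
theorem f120008 : Led Lsl_gt (LP (LK LD1_c3 LD2_c12 LD3_c15)) = (LP (LK LD1_c2 LD2_c17 LD3_c18)) :=
  Lgr Lrot94 (Lpe (f82339 IH) (Lpr_gt (K4.f119997 IH) (Lpr_dt (K3.f98849 IH) (Lpr_gt (K2.f23504 IH) (Lpr_dt (K2.f23490 IH) (Lpe (K3.f23550 IH) (Lpr_df (K3.f103312 IH) (Lpe (K3.f103293 IH) (Lpe (K4.f78688 IH) (Lpn (LP (LK LD1_c2 LD2_c17 LD3_c18))))))))))))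
theorem f128516 : Led Lsl_at (LP (LK LD1_c2 LD2_c20 LD3_c30)) = (LP (LK LD1_c4 LD2_c40 LD3_c23)) :=
  Lgr Lrot26 (Lpr_ff (f128510 IH) (Lpr_gt (f120008 IH) (Lpe (K3.f78663 IH) (Lpn (LP (LK LD1_c4 LD2_c40 LD3_c23))))))
theorem f110470 : Led Lsl_at (LP (LK LD1_c0 LD2_c41 LD3_c31)) = (LP (LK LD1_c1 LD2_c29 LD3_c49)) :=
  Lre_a IH (LK LD1_c0 LD2_c41 LD3_c31) (LK LD1_c1 LD2_c29 LD3_c49) Lrfl Lrfl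
theorem f125273 : Led Lsl_ef (LP (LK LD1_c1 LD2_c32 LD3_c30)) = (LP (LK LD1_c1 LD2_c29 LD3_c49)) :=
  Lgr Lrot20 (Lpr_at (K3.f91465 IH) (Lpr_et (f125271 IH) (Lpr_at (f110470 IH) (Lpn (LP (LK LD1_c1 LD2_c29 LD3_c49))))))
theorem f125277 : Led Lsl_cf (LP (LK LD1_c1 LD2_c29 LD3_c49)) = (LP (LK LD1_c0 LD2_c41 LD3_c31)) :=
  Lgr Lrot39 (Lpe (f125273 IH) (Lpr_ct (K4.f107552 IH) (Lpr_et (f125271 IH) (Lpn (LP (LK LD1_c0 LD2_c41 LD3_c31))))))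
theorem f110433 : Led Lsl_ct (LP (LK LD1_c2 LD2_c20 LD3_c30)) = (LP (LK LD1_c1 LD2_c29 LD3_c50)) :=
  Lgr Lrot59 (Lpr_cf (K4.f110383 IH) (Lpn (LP (LK LD1_c1 LD2_c29 LD3_c50))))
theorem f110346 : Led Lsl_cf (LP (LK LD1_c2 LD2_c20 LD3_c20)) = (LP (LK LD1_c2 LD2_c17 LD3_c21)) :=
  Lgr Lrot11 (Lpr_ct (K4.f110341 IH) (Lpn (LP (LK LD1_c2 LD2_c17 LD3_c21))))
theorem f78589 : Led Lsl_gt (LP (LK LD1_c2 LD2_c20 LD3_c56)) = (LP (LK LD1_c4 LD2_c45 LD3_c43)) :=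
  Lre_g IH (LK LD1_c2 LD2_c20 LD3_c56) (LK LD1_c4 LD2_c45 LD3_c43) Lrfl Lrfl
theorem f110385 : Led Lsl_ct (LP (LK LD1_c4 LD2_c45 LD3_c43)) = (LP (LK LD1_c4 LD2_c44 LD3_c41)) :=
  Lgr Lrot110 (Lpe (f78589 IH) (Lpe (K3.f78519 IH) (Lpr_gf (K3.f78590 IH) (Lpr_df (K1.f58215 IH) (Lpe (K4.f58259 IH) (Lpe (f110346 IH) (Lpr_gt (K4.f110352 IH) (Lpe (K4.f110383 IH) (Lpe (f102232 IH) (Lpn (LP (LK LD1_c4 LD2_c44 LD3_c41))))))))))))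
theorem f128518 : Led Lsl_df (LP (LK LD1_c4 LD2_c45 LD3_c43)) = (LP (LK LD1_c3 LD2_c12 LD3_c15)) :=
  Lgr Lrot157 (Lpr_ct (f110385 IH) (Lpr_dt (f102232 IH) (Lpr_ct (f110433 IH) (Lpr_dt (K4.f77805 IH) (Lpe (f125277 IH) (Lpe (f127032 IH) (Lpr_ct (K3.f103232 IH) (Lpe (f128516 IH) (Lpr_ff (f128510 IH) (Lpn (LP (LK LD1_c3 LD2_c12 LD3_c15))))))))))))
theorem f128514 : Led Lsl_ft (LP (LK LD1_c2 LD2_c20 LD3_c30)) = (LP (LK LD1_c3 LD2_c12 LD3_c15)) :=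
  Lgr Lrot48 (Lpr_ff (f128510 IH) (Lpn (LP (LK LD1_c3 LD2_c12 LD3_c15))))
theorem f128526 : Led Lsl_ft (LP (LK LD1_c4 LD2_c45 LD3_c43)) = (LP (LK LD1_c4 LD2_c44 LD3_c41)) :=
  Lgr Lrot54 (Lpr_df (f128518 IH) (Lpe (f128514 IH) (Lpe (f102232 IH) (Lpn (LP (LK LD1_c4 LD2_c44 LD3_c41))))))
theorem f103310 : Led Lsl_dt (LP (LK LD1_c4 LD2_c44 LD3_c34)) = (LP (LK LD1_c9 LD2_c16 LD3_c12)) :=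
  Lgr Lrot27 (Lpe (K3.f23537 IH) (Lpe (K3.f103115 IH) (Lpe (K3.f78007 IH) (Lpe (K3.f60998 IH) (Lpe (K3.f13780 IH) (Lpr_gt (K3.f78058 IH) (Lpe (K3.f99006 IH) (Lpr_gt (K3.f103018 IH) (Lpr_ct (K3.f103299 IH) (Lpn (LP (LK LD1_c9 LD2_c16 LD3_c12))))))))))))
theorem f110397 : Led Lsl_gt (LP (LK LD1_c4 LD2_c45 LD3_c43)) = (LP (LK LD1_c2 LD2_c21 LD3_c3)) :=
  Lgr Lrot180 (Lpr_ct (f110385 IH) (Lpe (K3.f102168 IH) (Lpr_dt (K3.f101919 IH) (Lpr_gt (K3.f103186 IH) (Lpr_dt (f103310 IH) (Lpe (K3.f103295 IH) (Lpe (K3.f103003 IH) (Lpr_gf (K3.f103056 IH) (Lpe (K3.f77993 IH) (Lpn (LP (LK LD1_c2 LD2_c21 LD3_c3))))))))))))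
theorem f78648 : Led Lsl_df (LP (LK LD1_c4 LD2_c40 LD3_c23)) = (LP (LK LD1_c4 LD2_c45 LD3_c44)) :=
  Lgr Lrot155 (Lpr_gt (K3.f58771 IH) (Lpr_ct (K3.f58770 IH) (Lpr_gt (K3.f58768 IH) (Lpr_ct (K1.f58214 IH) (Lpe (K1.f58215 IH) (Lpe (K1.f13656 IH) (Lpe (K3.f78002 IH) (Lpr_cf (K3.f78582 IH) (Lpe (K3.f78245 IH) (Lpn (LP (LK LD1_c4 LD2_c45 LD3_c44))))))))))))
theorem f78517 : Led Lsl_ct (LP (LK LD1_c2 LD2_c21 LD3_c3)) = (LP (LK LD1_c2 LD2_c21 LD3_c9)) :=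
  Lgr Lrot59 (Lpr_cf (K3.f78504 IH) (Lpn (LP (LK LD1_c2 LD2_c21 LD3_c9))))
theorem f110518 : Led Lsl_gf (LP (LK LD1_c4 LD2_c45 LD3_c44)) = (LP (LK LD1_c2 LD2_c21 LD3_c3)) :=
  Lgr Lrot144 (Lpe (f78648 IH) (Lpr_gt (K3.f58771 IH) (Lpr_dt (K3.f78654 IH) (Lpr_cf (K4.f110350 IH) (Lpe (K4.f58261 IH) (Lpr_gf (K4.f58259 IH) (Lpe (K1.f58225 IH) (Lpe (K3.f78492 IH) (Lpe (f78517 IH) (Lpn (LP (LK LD1_c2 LD2_c21 LD3_c3))))))))))))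
theorem f128538 : Led Lsl_af (LP (LK LD1_c4 LD2_c45 LD3_c44)) = (LP (LK LD1_c4 LD2_c44 LD3_c41)) :=
  Lgr Lrot31 (Lpr_gf (f110518 IH) (Lpe (f110397 IH) (Lpr_ft (f128526 IH) (Lpn (LP (LK LD1_c4 LD2_c44 LD3_c41))))))
theorem f128542 : Led Lsl_at (LP (LK LD1_c4 LD2_c44 LD3_c44)) = (LP (LK LD1_c4 LD2_c45 LD3_c43)) :=
  Lgr Lrot107 (Lpe (K3.f103252 IH) (Lpr_af (f128538 IH) (Lpe (f110385 IH) (Lpn (LP (LK LD1_c4 LD2_c45 LD3_c43))))))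
theorem f128548 : Led Lsl_ft (LP (LK LD1_c4 LD2_c45 LD3_c44)) = (LP (LK LD1_c4 LD2_c44 LD3_c44)) :=
  Lgr Lrot101 (Lpr_af (f128538 IH) (Lpe (f128526 IH) (Lpe (f128542 IH) (Lpn (LP (LK LD1_c4 LD2_c44 LD3_c44))))))
theorem f128553 : Led Lsl_ff (LP (LK LD1_c4 LD2_c45 LD3_c44)) = (LP (LK LD1_c4 LD2_c44 LD3_c44)) :=
  Lgr Lrot3 (Lpr_ft (f128548 IH) (Lpn (LP (LK LD1_c4 LD2_c44 LD3_c44))))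
theorem f128557 : Led Lsl_ft (LP (LK LD1_c4 LD2_c40 LD3_c23)) = (LP (LK LD1_c2 LD2_c20 LD3_c31)) :=
  Lgr Lrot54 (Lpr_df (f78648 IH) (Lpr_ff (f128553 IH) (Lpe (K3.f102052 IH) (Lpn (LP (LK LD1_c2 LD2_c20 LD3_c31))))))
theorem f127023 : Led Lsl_at (LP (LK LD1_c1 LD2_c32 LD3_c37)) = (LP (LK LD1_c3 LD2_c12 LD3_c14)) :=
  Lre_a IH (LK LD1_c1 LD2_c32 LD3_c37) (LK LD1_c3 LD2_c12 LD3_c14) Lrfl Lrfl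
theorem f127024 : Led Lsl_dt (LP (LK LD1_c3 LD2_c12 LD3_c14)) = (LP (LK LD1_c2 LD2_c17 LD3_c7)) :=
  Lgr Lrot44 (Lpe (f127023 IH) (Lpr_df (K4.f120010 IH) (Lpr_af (f127021 IH) (Lpn (LP (LK LD1_c2 LD2_c17 LD3_c7))))))
theorem f128522 : Led Lsl_ct (LP (LK LD1_c2 LD2_c20 LD3_c31)) = (LP (LK LD1_c3 LD2_c12 LD3_c14)) :=
  Lgr Lrot176 (Lpe (K3.f102055 IH) (Lpe (K3.f103252 IH) (Lpe (K3.f78646 IH) (Lpe (K3.f103232 IH) (Lpr_df (f127032 IH) (Lpr_cf (f125277 IH) (Lpe (K4.f77805 IH) (Lpe (f110433 IH) (Lpe (f102232 IH) (Lpe (f110385 IH) (Lpr_df (f128518 IH) (Lpe (f82339 IH) (Lpr_df (K4.f120010 IH) (Lpe (K3.f61643 IH) (Lpe (f127024 IH) (Lpn (LP (LK LD1_c3 LD2_c12 LD3_c14))))))))))))))))))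
theorem f128563 : Led Lsl_ff (LP (LK LD1_c2 LD2_c20 LD3_c25)) = (LP (LK LD1_c3 LD2_c12 LD3_c14)) :=
  Lgr Lrot23 (Lpr_ct (K3.f103232 IH) (Lpr_ft (f128557 IH) (Lpr_ct (f128522 IH) (Lpn (LP (LK LD1_c3 LD2_c12 LD3_c14))))))
theorem f26093 : Led Lsl_bt (LP (LK LD1_c1 LD2_c32 LD3_c37)) = (LP (LK LD1_c0 LD2_c42 LD3_c55)) :=
  Lre_b IH (LK LD1_c1 LD2_c32 LD3_c37) (LK LD1_c0 LD2_c42 LD3_c55) Lrfl Lrfl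
theorem f128454 : Led Lsl_ft (LP (LK LD1_c1 LD2_c29 LD3_c50)) = (LP (LK LD1_c1 LD2_c32 LD3_c37)) :=
  Lgr Lrot75 (Lpe (K4.f110387 IH) (Lpr_ff (f128450 IH) (Lpe (f26093 IH) (Lpn (LP (LK LD1_c1 LD2_c32 LD3_c37))))))
theorem f128566 : Led Lsl_at (LP (LK LD1_c2 LD2_c20 LD3_c25)) = (LP (LK LD1_c1 LD2_c29 LD3_c50)) :=
  Lgr Lrot66 (Lpr_ff (f128563 IH) (Lpe (f127023 IH) (Lpe (f128454 IH) (Lpn (LP (LK LD1_c1 LD2_c29 LD3_c50))))))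
theorem f128578 : Led Lsl_gf (LP (LK LD1_c2 LD2_c20 LD3_c20)) = (LP (LK LD1_c3 LD2_c12 LD3_c14)) :=
  Lgr Lrot47 (Lpr_gt (K4.f110352 IH) (Lpe (f128566 IH) (Lpr_ff (f128563 IH) (Lpn (LP (LK LD1_c3 LD2_c12 LD3_c14))))))
theorem f120769 : Led Lsl_cf (LP (LK LD1_c2 LD2_c19 LD3_c13)) = (LP (LK LD1_c2 LD2_c20 LD3_c53)) :=
  Lgr Lrot11 (Lpr_ct (K4.f120761 IH) (Lpn (LP (LK LD1_c2 LD2_c20 LD3_c53))))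
theorem f128582 : Led Lsl_cf (LP (LK LD1_c2 LD2_c20 LD3_c31)) = (LP (LK LD1_c3 LD2_c12 LD3_c14)) :=
  Lgr Lrot166 (Lpr_gt (K3.f98845 IH) (Lpr_dt (K3.f98897 IH) (Lpr_gt (K3.f102963 IH) (Lpe (K3.f102971 IH) (Lpe (f120769 IH) (Lpr_df (f120771 IH) (Lpr_gf (K3.f103471 IH) (Lpe (K4.f79313 IH) (Lpr_gf (f128578 IH) (Lpn (LP (LK LD1_c3 LD2_c12 LD3_c14))))))))))))
theorem f58454 : Led Lsl_bt (LP (LK LD1_c0 LD2_c40 LD3_c16)) = (LP (LK LD1_c1 LD2_c5 LD3_c35)) :=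
  Lre_b IH (LK LD1_c0 LD2_c40 LD3_c16) (LK LD1_c1 LD2_c5 LD3_c35) Lrfl Lrfl
theorem f128599 : Led Lsl_bf (LP (LK LD1_c1 LD2_c49 LD3_c44)) = (LP (LK LD1_c3 LD2_c12 LD3_c14)) :=
  Lgr Lrot156 (Lpr_gt (f62888 IH) (Lpe (K4.f62864 IH) (Lpr_ct (K1.f62863 IH) (Lpe (K2.f62929 IH) (Lpe (K1.f62953 IH) (Lpr_bt (f58454 IH) (Lpe (K3.f98945 IH) (Lpr_ct (K3.f97557 IH) (Lpe (K3.f102057 IH) (Lpr_cf (f128582 IH) (Lpn (LP (LK LD1_c3 LD2_c12 LD3_c14)))))))))))))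
theorem f128576 : Led Lsl_ft (LP (LK LD1_c2 LD2_c20 LD3_c25)) = (LP (LK LD1_c3 LD2_c12 LD3_c14)) :=
  Lgr Lrot48 (Lpr_ff (f128563 IH) (Lpn (LP (LK LD1_c3 LD2_c12 LD3_c14))))
theorem f128605 : Led Lsl_ft (LP (LK LD1_c1 LD2_c49 LD3_c44)) = (LP (LK LD1_c3 LD2_c1 LD3_c12)) :=
  Lgr Lrot75 (Lpr_bf (f128599 IH) (Lpe (f128576 IH) (Lpe (f127054 IH) (Lpn (LP (LK LD1_c3 LD2_c1 LD3_c12))))))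
theorem f85095 : Led Lsl_et (LP (LK LD1_c3 LD2_c45 LD3_c12)) = (LP (LK LD1_c1 LD2_c49 LD3_c44)) :=
  Lre_e IH (LK LD1_c3 LD2_c45 LD3_c12) (LK LD1_c1 LD2_c49 LD3_c44) Lrfl Lrfl
theorem f126520 : Led Lsl_ft (LP (LK LD1_c7 LD2_c31 LD3_c12)) = (LP (LK LD1_c3 LD2_c45 LD3_c12)) :=
  Lre_f IH (LK LD1_c7 LD2_c31 LD3_c12) (LK LD1_c3 LD2_c45 LD3_c12) Lrfl Lrfl
theorem f127056 : Led Lsl_ft (LP (LK LD1_c6 LD2_c9 LD3_c31)) = (LP (LK LD1_c12 LD2_c0 LD3_c4)) :=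
  Lre_f IH (LK LD1_c6 LD2_c9 LD3_c31) (LK LD1_c12 LD2_c0 LD3_c4) Lrfl Lrfl
theorem f128609 : Led Lsl_ef (LP (LK LD1_c7 LD2_c31 LD3_c12)) = (LP (LK LD1_c12 LD2_c0 LD3_c4)) :=
  Lgr Lrot21 (Lpr_ft (f126520 IH) (Lpr_et (f85095 IH) (Lpr_ft (f128605 IH) (Lpr_et (f66652 IH) (Lpr_ft (f127056 IH) (Lpn (LP (LK LD1_c12 LD2_c0 LD3_c4))))))))
theorem f128613 : Led Lsl_et (LP (LK LD1_c7 LD2_c31 LD3_c12)) = (LP (LK LD1_c12 LD2_c0 LD3_c4)) :=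
  Lgr Lrot87 (Lpr_ef (f128609 IH) (Lpn (LP (LK LD1_c12 LD2_c0 LD3_c4))))
theorem f103250 : Led Lsl_ft (LP (LK LD1_c9 LD2_c21 LD3_c59)) = (LP (LK LD1_c4 LD2_c44 LD3_c37)) :=
  Lre_f IH (LK LD1_c9 LD2_c21 LD3_c59) (LK LD1_c4 LD2_c44 LD3_c37) Lrfl Lrfl
theorem f127057 : Led Lsl_bt (LP (LK LD1_c12 LD2_c0 LD3_c4)) = (LP (LK LD1_c9 LD2_c21 LD3_c59)) :=
  Lgr Lrot35 (Lpe (f127056 IH) (Lpr_bf (f127047 IH) (Lpe (f103250 IH) (Lpn (LP (LK LD1_c9 LD2_c21 LD3_c59))))))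
theorem f103247 : Led Lsl_ft (LP (LK LD1_c4 LD2_c44 LD3_c37)) = (LP (LK LD1_c9 LD2_c21 LD3_c59)) :=
  Lre_f IH (LK LD1_c4 LD2_c44 LD3_c37) (LK LD1_c9 LD2_c21 LD3_c59) Lrfl Lrfl
theorem f128572 : Led Lsl_et (LP (LK LD1_c6 LD2_c28 LD3_c31)) = (LP (LK LD1_c3 LD2_c12 LD3_c14)) :=
  Lre_e IH (LK LD1_c6 LD2_c28 LD3_c31) (LK LD1_c3 LD2_c12 LD3_c14) Lrfl Lrfl
theorem f128573 : Led Lsl_ft (LP (LK LD1_c12 LD2_c27 LD3_c61)) = (LP (LK LD1_c6 LD2_c28 LD3_c31)) :=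
  Lre_f IH (LK LD1_c12 LD2_c27 LD3_c61) (LK LD1_c6 LD2_c28 LD3_c31) Lrfl Lrfl
theorem f128574 : Led Lsl_et (LP (LK LD1_c9 LD2_c21 LD3_c59)) = (LP (LK LD1_c12 LD2_c27 LD3_c61)) :=
  Lgr Lrot69 (Lpe (f103247 IH) (Lpe (f103249 IH) (Lpr_ff (f128563 IH) (Lpe (f128572 IH) (Lpe (f128573 IH) (Lpn (LP (LK LD1_c12 LD2_c27 LD3_c61))))))))
theorem f128617 : Led Lsl_bf (LP (LK LD1_c7 LD2_c31 LD3_c12)) = (LP (LK LD1_c12 LD2_c27 LD3_c61)) :=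
  Lgr Lrot96 (Lpr_et (f128613 IH) (Lpr_bt (f127057 IH) (Lpr_et (f128574 IH) (Lpn (LP (LK LD1_c12 LD2_c27 LD3_c61))))))
theorem f128622 : Led Lsl_bt (LP (LK LD1_c7 LD2_c31 LD3_c12)) = (LP (LK LD1_c12 LD2_c27 LD3_c61)) :=
  Lgr Lrot127 (Lpr_bf (f128617 IH) (Lpn (LP (LK LD1_c12 LD2_c27 LD3_c61))))
theorem f126536 : Led Lsl_ft (LP (LK LD1_c3 LD2_c45 LD3_c12)) = (LP (LK LD1_c7 LD2_c31 LD3_c12)) :=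
  Lre_f IH (LK LD1_c3 LD2_c45 LD3_c12) (LK LD1_c7 LD2_c31 LD3_c12) Lrfl Lrfl
theorem f128631 : Led Lsl_bf (LP (LK LD1_c3 LD2_c45 LD3_c12)) = (LP (LK LD1_c6 LD2_c28 LD3_c31)) :=
  Lgr Lrot61 (Lpr_ft (f126536 IH) (Lpr_bt (f128622 IH) (Lpr_ft (f128573 IH) (Lpn (LP (LK LD1_c6 LD2_c28 LD3_c31))))))
theorem f126510 : Led Lsl_et (LP (LK LD1_c1 LD2_c49 LD3_c44)) = (LP (LK LD1_c3 LD2_c45 LD3_c12)) :=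
  Lre_e IH (LK LD1_c1 LD2_c49 LD3_c44) (LK LD1_c3 LD2_c45 LD3_c12) Lrfl Lrfl
theorem f126511 : Led Lsl_af (LP (LK LD1_c3 LD2_c7 LD3_c0)) = (LP (LK LD1_c3 LD2_c45 LD3_c12)) :=
  Lgr Lrot50 (Lpr_et (K4.f89396 IH) (Lpr_at (f126502 IH) (Lpr_et (f126510 IH) (Lpn (LP (LK LD1_c3 LD2_c45 LD3_c12))))))
theorem f126521 : Led Lsl_at (LP (LK LD1_c6 LD2_c19 LD3_c12)) = (LP (LK LD1_c7 LD2_c31 LD3_c12)) :=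
  Lgr Lrot66 (Lpe (K4.f89409 IH) (Lpr_af (f126511 IH) (Lpe (f126520 IH) (Lpn (LP (LK LD1_c7 LD2_c31 LD3_c12))))))
theorem f111931 : Led Lsl_at (LP (LK LD1_c6 LD2_c33 LD3_c31)) = (LP (LK LD1_c7 LD2_c38 LD3_c6)) :=
  Lgr Lrot100 (Lpr_af (f111924 IH) (Lpn (LP (LK LD1_c7 LD2_c38 LD3_c6))))
theorem f126529 : Led Lsl_cf (LP (LK LD1_c6 LD2_c33 LD3_c31)) = (LP (LK LD1_c7 LD2_c31 LD3_c12)) :=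
  Lgr Lrot1 (Lpr_at (f111931 IH) (Lpe (K4.f89421 IH) (Lpr_at (f126521 IH) (Lpn (LP (LK LD1_c7 LD2_c31 LD3_c12))))))
theorem f126534 : Led Lsl_ct (LP (LK LD1_c6 LD2_c33 LD3_c31)) = (LP (LK LD1_c7 LD2_c31 LD3_c12)) :=
  Lgr Lrot59 (Lpr_cf (f126529 IH) (Lpn (LP (LK LD1_c7 LD2_c31 LD3_c12))))
theorem f111995 : Led Lsl_ft (LP (LK LD1_c3 LD2_c15 LD3_c1)) = (LP (LK LD1_c6 LD2_c33 LD3_c31)) :=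
  Lre_f IH (LK LD1_c3 LD2_c15 LD3_c1) (LK LD1_c6 LD2_c33 LD3_c31) Lrfl Lrfl
theorem f126538 : Led Lsl_cf (LP (LK LD1_c3 LD2_c15 LD3_c1)) = (LP (LK LD1_c3 LD2_c45 LD3_c12)) :=
  Lgr Lrot108 (Lpr_ft (f111995 IH) (Lpr_ct (f126534 IH) (Lpr_ft (f126520 IH) (Lpn (LP (LK LD1_c3 LD2_c45 LD3_c12))))))
theorem f111980 : Led Lsl_bt (LP (LK LD1_c3 LD2_c15 LD3_c1)) = (LP (LK LD1_c6 LD2_c33 LD3_c29)) :=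
  Lre_b IH (LK LD1_c3 LD2_c15 LD3_c1) (LK LD1_c6 LD2_c33 LD3_c29) Lrfl Lrfl
theorem f102062 : Led Lsl_et (LP (LK LD1_c2 LD2_c20 LD3_c31)) = (LP (LK LD1_c4 LD2_c44 LD3_c45)) :=
  Lre_e IH (LK LD1_c2 LD2_c20 LD3_c31) (LK LD1_c4 LD2_c44 LD3_c45) Lrfl Lrfl
theorem f128593 : Led Lsl_ct (LP (LK LD1_c4 LD2_c44 LD3_c45)) = (LP (LK LD1_c6 LD2_c28 LD3_c31)) :=
  Lgr Lrot15 (Lpe (f102062 IH) (Lpr_cf (f128582 IH) (Lpe (f128572 IH) (Lpn (LP (LK LD1_c6 LD2_c28 LD3_c31))))))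
theorem f128639 : Led Lsl_bt (LP (LK LD1_c9 LD2_c22 LD3_c7)) = (LP (LK LD1_c4 LD2_c44 LD3_c45)) :=
  Lre_b IH (LK LD1_c9 LD2_c22 LD3_c7) (LK LD1_c4 LD2_c44 LD3_c45) Lrfl Lrfl
theorem f128640 : Led Lsl_ct (LP (LK LD1_c6 LD2_c33 LD3_c29)) = (LP (LK LD1_c9 LD2_c22 LD3_c7)) :=
  Lgr Lrot83 (Lpe (f111980 IH) (Lpr_cf (f126538 IH) (Lpr_bf (f128631 IH) (Lpe (f128593 IH) (Lpe (f128639 IH) (Lpn (LP (LK LD1_c9 LD2_c22 LD3_c7))))))))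
theorem f128651 : Led Lsl_ft (LP (LK LD1_c9 LD2_c22 LD3_c7)) = (LP (LK LD1_c17 LD2_c18 LD3_c24)) :=
  Lre_f IH (LK LD1_c9 LD2_c22 LD3_c7) (LK LD1_c17 LD2_c18 LD3_c24) Lrfl Lrfl
theorem f128652 : Led Lsl_cf (LP (LK LD1_c12 LD2_c34 LD3_c4)) = (LP (LK LD1_c17 LD2_c18 LD3_c24)) :=
  Lgr Lrot108 (Lpr_ft (f111950 IH) (Lpr_ct (f128640 IH) (Lpr_ft (f128651 IH) (Lpn (LP (LK LD1_c17 LD2_c18 LD3_c24))))))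
theorem f128661 : Led Lsl_ct (LP (LK LD1_c12 LD2_c34 LD3_c4)) = (LP (LK LD1_c17 LD2_c18 LD3_c24)) :=
  Lgr Lrot59 (Lpr_cf (f128652 IH) (Lpn (LP (LK LD1_c17 LD2_c18 LD3_c24))))
theorem f111936 : Led Lsl_af (LP (LK LD1_c12 LD2_c34 LD3_c4)) = (LP (LK LD1_c14 LD2_c17 LD3_c47)) :=
  Lgr Lrot0 (Lpr_at (f111934 IH) (Lpn (LP (LK LD1_c14 LD2_c17 LD3_c47))))
theorem f87886 : Led Lsl_ct (LP (LK LD1_c23 LD2_c55 LD3_c22)) = (LP (LK LD1_c14 LD2_c17 LD3_c47)) :=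
  Lre_c IH (LK LD1_c23 LD2_c55 LD3_c22) (LK LD1_c14 LD2_c17 LD3_c47) Lrfl Lrfl
theorem f128664 : Led Lsl_af (LP (LK LD1_c23 LD2_c55 LD3_c22)) = (LP (LK LD1_c17 LD2_c18 LD3_c24)) :=
  Lgr Lrot68 (Lpr_ct (f87886 IH) (Lpe (f111936 IH) (Lpr_ct (f128661 IH) (Lpn (LP (LK LD1_c17 LD2_c18 LD3_c24))))))
theorem f87913 : Led Lsl_ft (LP (LK LD1_c23 LD2_c55 LD3_c22)) = (LP (LK LD1_c14 LD2_c17 LD3_c43)) :=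
  Lre_f IH (LK LD1_c23 LD2_c55 LD3_c22) (LK LD1_c14 LD2_c17 LD3_c43) Lrfl Lrfl
theorem f128688 : Led Lsl_at (LP (LK LD1_c14 LD2_c17 LD3_c43)) = (LP (LK LD1_c9 LD2_c22 LD3_c7)) :=
  Lgr Lrot66 (Lpe (f87913 IH) (Lpr_af (f128664 IH) (Lpe (f128651 IH) (Lpn (LP (LK LD1_c9 LD2_c22 LD3_c7))))))
theorem f87905 : Led Lsl_et (LP (LK LD1_c7 LD2_c34 LD3_c52)) = (LP (LK LD1_c14 LD2_c17 LD3_c43)) :=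
  Lre_e IH (LK LD1_c7 LD2_c34 LD3_c52) (LK LD1_c14 LD2_c17 LD3_c43) Lrfl Lrfl
theorem f128650 : Led Lsl_et (LP (LK LD1_c9 LD2_c22 LD3_c7)) = (LP (LK LD1_c4 LD2_c44 LD3_c43)) :=
  Lre_e IH (LK LD1_c9 LD2_c22 LD3_c7) (LK LD1_c4 LD2_c44 LD3_c43) Lrfl Lrfl
theorem f128690 : Led Lsl_af (LP (LK LD1_c7 LD2_c34 LD3_c52)) = (LP (LK LD1_c4 LD2_c44 LD3_c43)) :=
  Lgr Lrot50 (Lpr_et (f87905 IH) (Lpr_at (f128688 IH) (Lpr_et (f128650 IH) (Lpn (LP (LK LD1_c4 LD2_c44 LD3_c43))))))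
theorem f87890 : Led Lsl_ef (LP (LK LD1_c14 LD2_c17 LD3_c47)) = (LP (LK LD1_c7 LD2_c39 LD3_c44)) :=
  Lgr Lrot88 (Lpr_et (f87882 IH) (Lpn (LP (LK LD1_c7 LD2_c39 LD3_c44))))
theorem f87753 : Led Lsl_ct (LP (LK LD1_c14 LD2_c17 LD3_c47)) = (LP (LK LD1_c23 LD2_c55 LD3_c22)) :=
  Lre_c IH (LK LD1_c14 LD2_c17 LD3_c47) (LK LD1_c23 LD2_c55 LD3_c22) Lrfl Lrfl
theorem f87241 : Led Lsl_ct (LP (LK LD1_c14 LD2_c26 LD3_c13)) = (LP (LK LD1_c7 LD2_c39 LD3_c44)) :=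
  Lre_c IH (LK LD1_c14 LD2_c26 LD3_c13) (LK LD1_c7 LD2_c39 LD3_c44) Lrfl Lrfl
theorem f87898 : Led Lsl_et (LP (LK LD1_c23 LD2_c55 LD3_c22)) = (LP (LK LD1_c14 LD2_c26 LD3_c13)) :=
  Lgr Lrot158 (Lpe (f87753 IH) (Lpr_ef (f87890 IH) (Lpe (f87241 IH) (Lpn (LP (LK LD1_c14 LD2_c26 LD3_c13))))))
theorem f87904 : Led Lsl_ft (LP (LK LD1_c14 LD2_c17 LD3_c43)) = (LP (LK LD1_c23 LD2_c55 LD3_c22)) :=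
  Lre_f IH (LK LD1_c14 LD2_c17 LD3_c43) (LK LD1_c23 LD2_c55 LD3_c22) Lrfl Lrfl
theorem f87325 : Led Lsl_ft (LP (LK LD1_c14 LD2_c26 LD3_c13)) = (LP (LK LD1_c7 LD2_c39 LD3_c40)) :=
  Lre_f IH (LK LD1_c14 LD2_c26 LD3_c13) (LK LD1_c7 LD2_c39 LD3_c40) Lrfl Lrfl
theorem f87284 : Led Lsl_et (LP (LK LD1_c7 LD2_c39 LD3_c40)) = (LP (LK LD1_c3 LD2_c49 LD3_c24)) :=
  Lre_e IH (LK LD1_c7 LD2_c39 LD3_c40) (LK LD1_c3 LD2_c49 LD3_c24) Lrfl Lrfl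
theorem f87906 : Led Lsl_ff (LP (LK LD1_c7 LD2_c34 LD3_c52)) = (LP (LK LD1_c3 LD2_c49 LD3_c24)) :=
  Lgr Lrot72 (Lpr_et (f87905 IH) (Lpr_ft (f87904 IH) (Lpr_et (f87898 IH) (Lpr_ft (f87325 IH) (Lpr_et (f87284 IH) (Lpn (LP (LK LD1_c3 LD2_c49 LD3_c24))))))))
theorem f87909 : Led Lsl_ft (LP (LK LD1_c7 LD2_c34 LD3_c52)) = (LP (LK LD1_c3 LD2_c49 LD3_c24)) :=
  Lgr Lrot48 (Lpr_ff (f87906 IH) (Lpn (LP (LK LD1_c3 LD2_c49 LD3_c24))))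
theorem f87381 : Led Lsl_at (LP (LK LD1_c3 LD2_c49 LD3_c24)) = (LP (LK LD1_c7 LD2_c39 LD3_c29)) :=
  Lre_a IH (LK LD1_c3 LD2_c49 LD3_c24) (LK LD1_c7 LD2_c39 LD3_c29) Lrfl Lrfl
theorem f128699 : Led Lsl_ft (LP (LK LD1_c7 LD2_c39 LD3_c29)) = (LP (LK LD1_c4 LD2_c44 LD3_c43)) :=
  Lgr Lrot101 (Lpe (f87381 IH) (Lpe (f87909 IH) (Lpr_af (f128690 IH) (Lpn (LP (LK LD1_c4 LD2_c44 LD3_c43))))))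
theorem f128704 : Led Lsl_ff (LP (LK LD1_c7 LD2_c39 LD3_c29)) = (LP (LK LD1_c4 LD2_c44 LD3_c43)) :=
  Lgr Lrot3 (Lpr_ft (f128699 IH) (Lpn (LP (LK LD1_c4 LD2_c44 LD3_c43))))
theorem f128562 : Led Lsl_bt (LP (LK LD1_c2 LD2_c20 LD3_c31)) = (LP (LK LD1_c4 LD2_c44 LD3_c43)) :=
  Lre_b IH (LK LD1_c2 LD2_c20 LD3_c31) (LK LD1_c4 LD2_c44 LD3_c43) Lrfl Lrfl
theorem f128706 : Led Lsl_bt (LP (LK LD1_c7 LD2_c39 LD3_c29)) = (LP (LK LD1_c4 LD2_c40 LD3_c23)) :=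
  Lgr Lrot35 (Lpr_ff (f128704 IH) (Lpe (f128562 IH) (Lpe (f128557 IH) (Lpn (LP (LK LD1_c4 LD2_c40 LD3_c23))))))
theorem f87175 : Led Lsl_bt (LP (LK LD1_c1 LD2_c35 LD3_c19)) = (LP (LK LD1_c3 LD2_c17 LD3_c31)) :=
  Lre_b IH (LK LD1_c1 LD2_c35 LD3_c19) (LK LD1_c3 LD2_c17 LD3_c31) Lrfl Lrfl
theorem f87176 : Led Lsl_ct (LP (LK LD1_c3 LD2_c17 LD3_c31)) = (LP (LK LD1_c6 LD2_c38 LD3_c23)) :=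
  Lre_c IH (LK LD1_c3 LD2_c17 LD3_c31) (LK LD1_c6 LD2_c38 LD3_c23) Lrfl Lrfl
theorem f87179 : Led Lsl_bt (LP (LK LD1_c6 LD2_c38 LD3_c23)) = (LP (LK LD1_c3 LD2_c49 LD3_c24)) :=
  Lgr Lrot128 (Lpe (f87176 IH) (Lpe (f87175 IH) (Lpr_cf (K2.f84974 IH) (Lpe (K4.f87177 IH) (Lpe (K4.f87178 IH) (Lpn (LP (LK LD1_c3 LD2_c49 LD3_c24))))))))
theorem f128544 : Led Lsl_at (LP (LK LD1_c4 LD2_c40 LD3_c23)) = (LP (LK LD1_c2 LD2_c20 LD3_c30)) :=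
  Lgr Lrot51 (Lpr_df (f78648 IH) (Lpr_af (f128538 IH) (Lpe (K3.f102167 IH) (Lpn (LP (LK LD1_c2 LD2_c20 LD3_c30))))))
theorem f128709 : Led Lsl_af (LP (LK LD1_c6 LD2_c38 LD3_c23)) = (LP (LK LD1_c4 LD2_c44 LD3_c40)) :=
  Lgr Lrot36 (Lpr_bt (f87179 IH) (Lpr_at (f87381 IH) (Lpr_bt (f128706 IH) (Lpr_at (f128544 IH) (Lpr_bt (f110429 IH) (Lpn (LP (LK LD1_c4 LD2_c44 LD3_c40))))))))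
theorem f87283 : Led Lsl_et (LP (LK LD1_c6 LD2_c38 LD3_c23)) = (LP (LK LD1_c12 LD2_c42 LD3_c26)) :=
  Lre_e IH (LK LD1_c6 LD2_c38 LD3_c23) (LK LD1_c12 LD2_c42 LD3_c26) Lrfl Lrfl
theorem f110503 : Led Lsl_et (LP (LK LD1_c9 LD2_c22 LD3_c4)) = (LP (LK LD1_c4 LD2_c44 LD3_c40)) :=
  Lre_e IH (LK LD1_c9 LD2_c22 LD3_c4) (LK LD1_c4 LD2_c44 LD3_c40) Lrfl Lrfl
theorem f128754 : Led Lsl_at (LP (LK LD1_c12 LD2_c42 LD3_c26)) = (LP (LK LD1_c9 LD2_c22 LD3_c4)) :=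
  Lgr Lrot80 (Lpe (f87283 IH) (Lpr_af (f128709 IH) (Lpe (f110503 IH) (Lpn (LP (LK LD1_c9 LD2_c22 LD3_c4))))))
theorem f87276 : Led Lsl_ct (LP (LK LD1_c6 LD2_c38 LD3_c24)) = (LP (LK LD1_c12 LD2_c42 LD3_c26)) :=
  Lre_c IH (LK LD1_c6 LD2_c38 LD3_c24) (LK LD1_c12 LD2_c42 LD3_c26) Lrfl Lrfl
theorem f128760 : Led Lsl_af (LP (LK LD1_c6 LD2_c38 LD3_c24)) = (LP (LK LD1_c6 LD2_c19 LD3_c28)) :=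
  Lgr Lrot68 (Lpr_ct (f87276 IH) (Lpr_at (f128754 IH) (Lpr_ct (f110484 IH) (Lpn (LP (LK LD1_c6 LD2_c19 LD3_c28))))))
theorem f128770 : Led Lsl_ft (LP (LK LD1_c6 LD2_c38 LD3_c24)) = (LP (LK LD1_c12 LD2_c42 LD3_c29)) :=
  Lre_f IH (LK LD1_c6 LD2_c38 LD3_c24) (LK LD1_c12 LD2_c42 LD3_c29) Lrfl Lrfl
theorem f128771 : Led Lsl_at (LP (LK LD1_c12 LD2_c42 LD3_c29)) = (LP (LK LD1_c12 LD2_c14 LD3_c12)) :=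
  Lgr Lrot66 (Lpe (f128770 IH) (Lpr_af (f128760 IH) (Lpe (f110505 IH) (Lpn (LP (LK LD1_c12 LD2_c14 LD3_c12))))))
theorem f128471 : Led Lsl_bt (LP (LK LD1_c6 LD2_c19 LD3_c32)) = (LP (LK LD1_c12 LD2_c14 LD3_c12)) :=
  Lre_b IH (LK LD1_c6 LD2_c19 LD3_c32) (LK LD1_c12 LD2_c14 LD3_c12) Lrfl Lrfl
theorem f128472 : Led Lsl_bt (LP (LK LD1_c12 LD2_c28 LD3_c7)) = (LP (LK LD1_c6 LD2_c28 LD3_c46)) :=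
  Lre_b IH (LK LD1_c12 LD2_c28 LD3_c7) (LK LD1_c6 LD2_c28 LD3_c46) Lrfl Lrfl
theorem f128473 : Led Lsl_et (LP (LK LD1_c12 LD2_c14 LD3_c12)) = (LP (LK LD1_c12 LD2_c28 LD3_c7)) :=
  Lgr Lrot74 (Lpe (f128471 IH) (Lpr_ef (f128469 IH) (Lpe (f128472 IH) (Lpn (LP (LK LD1_c12 LD2_c28 LD3_c7))))))
theorem f128777 : Led Lsl_at (LP (LK LD1_c12 LD2_c28 LD3_c7)) = (LP (LK LD1_c21 LD2_c35 LD3_c8)) :=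
  Lre_a IH (LK LD1_c12 LD2_c28 LD3_c7) (LK LD1_c21 LD2_c35 LD3_c8) Lrfl Lrfl
theorem f128778 : Led Lsl_ef (LP (LK LD1_c12 LD2_c42 LD3_c29)) = (LP (LK LD1_c21 LD2_c35 LD3_c8)) :=
  Lgr Lrot20 (Lpr_at (f128771 IH) (Lpr_et (f128473 IH) (Lpr_at (f128777 IH) (Lpn (LP (LK LD1_c21 LD2_c35 LD3_c8))))))
theorem f128786 : Led Lsl_ft (LP (LK LD1_c12 LD2_c42 LD3_c29)) = (LP (LK LD1_c6 LD2_c38 LD3_c24)) :=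
  Lre_f IH (LK LD1_c12 LD2_c42 LD3_c29) (LK LD1_c6 LD2_c38 LD3_c24) Lrfl Lrfl
theorem f128769 : Led Lsl_et (LP (LK LD1_c6 LD2_c38 LD3_c24)) = (LP (LK LD1_c3 LD2_c17 LD3_c31)) :=
  Lre_e IH (LK LD1_c6 LD2_c38 LD3_c24) (LK LD1_c3 LD2_c17 LD3_c31) Lrfl Lrfl
theorem f128787 : Led Lsl_ft (LP (LK LD1_c12 LD2_c28 LD3_c2)) = (LP (LK LD1_c21 LD2_c35 LD3_c8)) :=
  Lre_f IH (LK LD1_c12 LD2_c28 LD3_c2) (LK LD1_c21 LD2_c35 LD3_c8) Lrfl Lrfl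
theorem f128788 : Led Lsl_et (LP (LK LD1_c6 LD2_c28 LD3_c39)) = (LP (LK LD1_c12 LD2_c28 LD3_c2)) :=
  Lre_e IH (LK LD1_c6 LD2_c28 LD3_c39) (LK LD1_c12 LD2_c28 LD3_c2) Lrfl Lrfl
theorem f128789 : Led Lsl_ft (LP (LK LD1_c3 LD2_c17 LD3_c31)) = (LP (LK LD1_c6 LD2_c28 LD3_c39)) :=
  Lgr Lrot86 (Lpe (f128769 IH) (Lpe (f128786 IH) (Lpr_ef (f128778 IH) (Lpe (f128787 IH) (Lpe (f128788 IH) (Lpn (LP (LK LD1_c6 LD2_c28 LD3_c39))))))))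
theorem f62287 : Led Lsl_dt (LP (LK LD1_c3 LD2_c17 LD3_c31)) = (LP (LK LD1_c1 LD2_c35 LD3_c18)) :=
  Lre_d IH (LK LD1_c3 LD2_c17 LD3_c31) (LK LD1_c1 LD2_c35 LD3_c18) Lrfl Lrfl
theorem f62286 : Led Lsl_ct (LP (LK LD1_c1 LD2_c35 LD3_c18)) = (LP (LK LD1_c3 LD2_c17 LD3_c30)) :=
  Lre_c IH (LK LD1_c1 LD2_c35 LD3_c18) (LK LD1_c3 LD2_c17 LD3_c30) Lrfl Lrfl
theorem f116665 : Led Lsl_df (LP (LK LD1_c3 LD2_c47 LD3_c22)) = (LP (LK LD1_c3 LD2_c17 LD3_c30)) :=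
  Lgr Lrot38 (Lpr_dt (K4.f116659 IH) (Lpn (LP (LK LD1_c3 LD2_c17 LD3_c30))))
theorem f91266 : Led Lsl_ct (LP (LK LD1_c3 LD2_c47 LD3_c22)) = (LP (LK LD1_c7 LD2_c35 LD3_c34)) :=
  Lre_c IH (LK LD1_c3 LD2_c47 LD3_c22) (LK LD1_c7 LD2_c35 LD3_c34) Lrfl Lrfl
theorem f116690 : Led Lsl_dt (LP (LK LD1_c7 LD2_c35 LD3_c34)) = (LP (LK LD1_c14 LD2_c18 LD3_c54)) :=
  Lre_d IH (LK LD1_c7 LD2_c35 LD3_c34) (LK LD1_c14 LD2_c18 LD3_c54) Lrfl Lrfl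
theorem f128502 : Led Lsl_at (LP (LK LD1_c6 LD2_c28 LD3_c39)) = (LP (LK LD1_c3 LD2_c12 LD3_c17)) :=
  Lre_a IH (LK LD1_c6 LD2_c28 LD3_c39) (LK LD1_c3 LD2_c12 LD3_c17) Lrfl Lrfl
theorem f110399 : Led Lsl_bt (LP (LK LD1_c4 LD2_c45 LD3_c43)) = (LP (LK LD1_c9 LD2_c24 LD3_c4)) :=
  Lre_b IH (LK LD1_c4 LD2_c45 LD3_c43) (LK LD1_c9 LD2_c24 LD3_c4) Lrfl Lrfl
theorem f128520 : Led Lsl_dt (LP (LK LD1_c9 LD2_c24 LD3_c4)) = (LP (LK LD1_c6 LD2_c28 LD3_c32)) :=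
  Lgr Lrot79 (Lpe (f110399 IH) (Lpr_df (f128518 IH) (Lpe (f128509 IH) (Lpn (LP (LK LD1_c6 LD2_c28 LD3_c32))))))
theorem f128799 : Led Lsl_ct (LP (LK LD1_c14 LD2_c18 LD3_c54)) = (LP (LK LD1_c9 LD2_c24 LD3_c4)) :=
  Lgr Lrot53 (Lpe (f116690 IH) (Lpe (f91266 IH) (Lpr_df (f116665 IH) (Lpe (f62286 IH) (Lpe (f62287 IH) (Lpr_ft (f128789 IH) (Lpr_at (f128502 IH) (Lpe (f128503 IH) (Lpe (f128520 IH) (Lpn (LP (LK LD1_c9 LD2_c24 LD3_c4))))))))))))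
theorem f128801 : Led Lsl_cf (LP (LK LD1_c14 LD2_c18 LD3_c54)) = (LP (LK LD1_c9 LD2_c24 LD3_c4)) :=
  Lgr Lrot11 (Lpr_ct (f128799 IH) (Lpn (LP (LK LD1_c9 LD2_c24 LD3_c4))))
theorem f116664 : Led Lsl_dt (LP (LK LD1_c14 LD2_c18 LD3_c54)) = (LP (LK LD1_c7 LD2_c35 LD3_c34)) :=
  Lre_d IH (LK LD1_c14 LD2_c18 LD3_c54) (LK LD1_c7 LD2_c35 LD3_c34) Lrfl Lrfl
theorem f116663 : Led Lsl_ct (LP (LK LD1_c7 LD2_c35 LD3_c34)) = (LP (LK LD1_c3 LD2_c47 LD3_c22)) :=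
  Lre_c IH (LK LD1_c7 LD2_c35 LD3_c34) (LK LD1_c3 LD2_c47 LD3_c22) Lrfl Lrfl
theorem f87382 : Led Lsl_dt (LP (LK LD1_c1 LD2_c35 LD3_c18)) = (LP (LK LD1_c3 LD2_c17 LD3_c31)) :=
  Lre_d IH (LK LD1_c1 LD2_c35 LD3_c18) (LK LD1_c3 LD2_c17 LD3_c31) Lrfl Lrfl
theorem f110430 : Led Lsl_bt (LP (LK LD1_c3 LD2_c7 LD3_c12)) = (LP (LK LD1_c1 LD2_c29 LD3_c51)) :=
  Lre_b IH (LK LD1_c3 LD2_c7 LD3_c12) (LK LD1_c1 LD2_c29 LD3_c51) Lrfl Lrfl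
theorem f110431 : Led Lsl_ct (LP (LK LD1_c4 LD2_c44 LD3_c40)) = (LP (LK LD1_c3 LD2_c7 LD3_c12)) :=
  Lgr Lrot83 (Lpe (f110429 IH) (Lpr_cf (K4.f110383 IH) (Lpe (K4.f110387 IH) (Lpe (K4.f66654 IH) (Lpe (f110430 IH) (Lpn (LP (LK LD1_c3 LD2_c7 LD3_c12))))))))
theorem f120000 : Led Lsl_ct (LP (LK LD1_c3 LD2_c12 LD3_c17)) = (LP (LK LD1_c6 LD2_c28 LD3_c32)) :=
  Lre_c IH (LK LD1_c3 LD2_c12 LD3_c17) (LK LD1_c6 LD2_c28 LD3_c32) Lrfl Lrfl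
theorem f128497 : Led Lsl_ff (LP (LK LD1_c4 LD2_c44 LD3_c40)) = (LP (LK LD1_c6 LD2_c28 LD3_c32)) :=
  Lgr Lrot23 (Lpr_ct (f110431 IH) (Lpr_ft (f128494 IH) (Lpr_ct (f120000 IH) (Lpn (LP (LK LD1_c6 LD2_c28 LD3_c32))))))
theorem f128805 : Led Lsl_dt (LP (LK LD1_c6 LD2_c28 LD3_c32)) = (LP (LK LD1_c9 LD2_c24 LD3_c4)) :=
  Lgr Lrot159 (Lpe (f128497 IH) (Lpe (f128709 IH) (Lpe (f87176 IH) (Lpe (f87382 IH) (Lpe (K4.f62179 IH) (Lpe (K4.f116659 IH) (Lpe (f116663 IH) (Lpe (f116664 IH) (Lpr_cf (f128801 IH) (Lpn (LP (LK LD1_c9 LD2_c24 LD3_c4))))))))))))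
theorem f128506 : Led Lsl_dt (LP (LK LD1_c6 LD2_c28 LD3_c40)) = (LP (LK LD1_c3 LD2_c12 LD3_c17)) :=
  Lre_d IH (LK LD1_c6 LD2_c28 LD3_c40) (LK LD1_c3 LD2_c12 LD3_c17) Lrfl Lrfl
theorem f93439 : Led Lsl_at (LP (LK LD1_c3 LD2_c17 LD3_c29)) = (LP (LK LD1_c1 LD2_c35 LD3_c18)) :=
  Lre_a IH (LK LD1_c3 LD2_c17 LD3_c29) (LK LD1_c1 LD2_c35 LD3_c18) Lrfl Lrfl
theorem f128810 : Led Lsl_ft (LP (LK LD1_c6 LD2_c28 LD3_c40)) = (LP (LK LD1_c3 LD2_c17 LD3_c29)) :=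
  Lgr Lrot142 (Lpr_dt (f128506 IH) (Lpr_ct (f120000 IH) (Lpr_dt (f128805 IH) (Lpe (f128801 IH) (Lpr_dt (f116664 IH) (Lpr_ct (f116663 IH) (Lpr_dt (K4.f116659 IH) (Lpr_ct (K4.f62179 IH) (Lpe (f93439 IH) (Lpn (LP (LK LD1_c3 LD2_c17 LD3_c29))))))))))))
theorem f128821 : Led Lsl_ff (LP (LK LD1_c6 LD2_c28 LD3_c40)) = (LP (LK LD1_c3 LD2_c17 LD3_c29)) :=
  Lgr Lrot3 (Lpr_ft (f128810 IH) (Lpn (LP (LK LD1_c3 LD2_c17 LD3_c29))))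
theorem f128833 : Led Lsl_dt (LP (LK LD1_c3 LD2_c7 LD3_c12)) = (LP (LK LD1_c3 LD2_c17 LD3_c29)) :=
  Lgr Lrot60 (Lpr_ff (f128500 IH) (Lpe (f128506 IH) (Lpr_ff (f128821 IH) (Lpn (LP (LK LD1_c3 LD2_c17 LD3_c29))))))
theorem f110444 : Led Lsl_bt (LP (LK LD1_c1 LD2_c29 LD3_c51)) = (LP (LK LD1_c3 LD2_c7 LD3_c12)) :=
  Lre_b IH (LK LD1_c1 LD2_c29 LD3_c51) (LK LD1_c3 LD2_c7 LD3_c12) Lrfl Lrfl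
theorem f110450 : Led Lsl_dt (LP (LK LD1_c3 LD2_c7 LD3_c13)) = (LP (LK LD1_c1 LD2_c29 LD3_c51)) :=
  Lre_d IH (LK LD1_c3 LD2_c7 LD3_c13) (LK LD1_c1 LD2_c29 LD3_c51) Lrfl Lrfl
theorem f128843 : Led Lsl_bf (LP (LK LD1_c3 LD2_c7 LD3_c13)) = (LP (LK LD1_c3 LD2_c17 LD3_c29)) :=
  Lgr Lrot93 (Lpr_dt (f110450 IH) (Lpr_bt (f110444 IH) (Lpr_dt (f128833 IH) (Lpn (LP (LK LD1_c3 LD2_c17 LD3_c29))))))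
theorem f128815 : Led Lsl_bt (LP (LK LD1_c3 LD2_c12 LD3_c18)) = (LP (LK LD1_c6 LD2_c28 LD3_c40)) :=
  Lre_b IH (LK LD1_c3 LD2_c12 LD3_c18) (LK LD1_c6 LD2_c28 LD3_c40) Lrfl Lrfl
theorem f128849 : Led Lsl_ft (LP (LK LD1_c3 LD2_c7 LD3_c13)) = (LP (LK LD1_c3 LD2_c12 LD3_c18)) :=
  Lgr Lrot75 (Lpr_bf (f128843 IH) (Lpe (f128810 IH) (Lpe (f128815 IH) (Lpn (LP (LK LD1_c3 LD2_c12 LD3_c18))))))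
theorem f61930 : Led Lsl_at (LP (LK LD1_c3 LD2_c17 LD3_c0)) = (LP (LK LD1_c1 LD2_c35 LD3_c9)) :=
  Lre_a IH (LK LD1_c3 LD2_c17 LD3_c0) (LK LD1_c1 LD2_c35 LD3_c9) Lrfl Lrfl
theorem f61929 : Led Lsl_gt (LP (LK LD1_c3 LD2_c7 LD3_c28)) = (LP (LK LD1_c1 LD2_c29 LD3_c60)) :=
  Lre_g IH (LK LD1_c3 LD2_c7 LD3_c28) (LK LD1_c1 LD2_c29 LD3_c60) Lrfl Lrfl
theorem f61931 : Led Lsl_ft (LP (LK LD1_c3 LD2_c7 LD3_c28)) = (LP (LK LD1_c3 LD2_c17 LD3_c0)) :=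
  Lgr Lrot2 (Lpr_gt (f61929 IH) (Lpr_gt (K1.f61878 IH) (Lpe (f61930 IH) (Lpn (LP (LK LD1_c3 LD2_c17 LD3_c0))))))
theorem f118684 : Led Lsl_af (LP (LK LD1_c3 LD2_c7 LD3_c28)) = (LP (LK LD1_c3 LD2_c15 LD3_c57)) :=
  Lgr Lrot45 (Lpr_ft (f61931 IH) (Lpr_at (f61930 IH) (Lpr_ft (K4.f118673 IH) (Lpn (LP (LK LD1_c3 LD2_c15 LD3_c57))))))
theorem f118734 : Led Lsl_at (LP (LK LD1_c3 LD2_c7 LD3_c28)) = (LP (LK LD1_c3 LD2_c15 LD3_c57)) :=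
  Lgr Lrot100 (Lpr_af (f118684 IH) (Lpn (LP (LK LD1_c3 LD2_c15 LD3_c57))))
theorem f125502 : Led Lsl_ct (LP (LK LD1_c3 LD2_c10 LD3_c31)) = (LP (LK LD1_c3 LD2_c7 LD3_c28)) :=
  Lgr Lrot111 (Lpr_af (f125496 IH) (Lpe (K4.f11290 IH) (Lpe (f118734 IH) (Lpn (LP (LK LD1_c3 LD2_c7 LD3_c28))))))
theorem f118692 : Led Lsl_gt (LP (LK LD1_c1 LD2_c30 LD3_c1)) = (LP (LK LD1_c3 LD2_c7 LD3_c28)) :=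
  Lgr Lrot46 (Lpr_gf (f98851 IH) (Lpr_ft (K4.f118673 IH) (Lpe (f118684 IH) (Lpn (LP (LK LD1_c3 LD2_c7 LD3_c28))))))
theorem f89450 : Led Lsl_dt (LP (LK LD1_c0 LD2_c18 LD3_c33)) = (LP (LK LD1_c0 LD2_c41 LD3_c29)) :=
  Lre_d IH (LK LD1_c0 LD2_c18 LD3_c33) (LK LD1_c0 LD2_c41 LD3_c29) Lrfl Lrfl
theorem f64606 : Led Lsl_bt (LP (LK LD1_c0 LD2_c44 LD3_c18)) = (LP (LK LD1_c1 LD2_c35 LD3_c21)) :=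
  Lre_b IH (LK LD1_c0 LD2_c44 LD3_c18) (LK LD1_c1 LD2_c35 LD3_c21) Lrfl Lrfl
theorem f89448 : Led Lsl_df (LP (LK LD1_c1 LD2_c29 LD3_c45)) = (LP (LK LD1_c1 LD2_c35 LD3_c21)) :=
  Lgr Lrot12 (Lpr_bt (K4.f89441 IH) (Lpr_dt (K1.f64251 IH) (Lpr_bt (f64606 IH) (Lpn (LP (LK LD1_c1 LD2_c35 LD3_c21))))))
theorem f64607 : Led Lsl_gt (LP (LK LD1_c3 LD2_c17 LD3_c36)) = (LP (LK LD1_c1 LD2_c35 LD3_c21)) :=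
  Lre_g IH (LK LD1_c3 LD2_c17 LD3_c36) (LK LD1_c1 LD2_c35 LD3_c21) Lrfl Lrfl
theorem f118694 : Led Lsl_df (LP (LK LD1_c3 LD2_c17 LD3_c36)) = (LP (LK LD1_c3 LD2_c7 LD3_c28)) :=
  Lgr Lrot153 (Lpr_gt (f64607 IH) (Lpe (f89448 IH) (Lpe (K4.f89447 IH) (Lpe (f89450 IH) (Lpe (K1.f24970 IH) (Lpe (K4.f25020 IH) (Lpe (K3.f61883 IH) (Lpe (K3.f89460 IH) (Lpr_gt (f118692 IH) (Lpn (LP (LK LD1_c3 LD2_c7 LD3_c28))))))))))))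
theorem f118700 : Led Lsl_dt (LP (LK LD1_c3 LD2_c17 LD3_c36)) = (LP (LK LD1_c3 LD2_c7 LD3_c28)) :=
  Lgr Lrot42 (Lpr_df (f118694 IH) (Lpn (LP (LK LD1_c3 LD2_c7 LD3_c28))))
theorem f110451 : Led Lsl_dt (LP (LK LD1_c1 LD2_c29 LD3_c51)) = (LP (LK LD1_c3 LD2_c7 LD3_c13)) :=
  Lre_d IH (LK LD1_c1 LD2_c29 LD3_c51) (LK LD1_c3 LD2_c7 LD3_c13) Lrfl Lrfl
theorem f128365 : Led Lsl_gf (LP (LK LD1_c3 LD2_c17 LD3_c36)) = (LP (LK LD1_c3 LD2_c7 LD3_c13)) :=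
  Lgr Lrot143 (Lpr_dt (f118700 IH) (Lpe (f125502 IH) (Lpe (f125511 IH) (Lpe (f124824 IH) (Lpe (f82402 IH) (Lpr_gf (f128349 IH) (Lpe (K4.f12753 IH) (Lpe (K4.f110804 IH) (Lpr_dt (f110451 IH) (Lpn (LP (LK LD1_c3 LD2_c7 LD3_c13))))))))))))
theorem f128855 : Led Lsl_af (LP (LK LD1_c1 LD2_c35 LD3_c21)) = (LP (LK LD1_c3 LD2_c12 LD3_c18)) :=
  Lgr Lrot31 (Lpe (f64607 IH) (Lpr_gf (f128365 IH) (Lpr_ft (f128849 IH) (Lpn (LP (LK LD1_c3 LD2_c12 LD3_c18))))))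
theorem f112035 : Led Lsl_dt (LP (LK LD1_c3 LD2_c12 LD3_c9)) = (LP (LK LD1_c1 LD2_c32 LD3_c35)) :=
  Lre_d IH (LK LD1_c3 LD2_c12 LD3_c9) (LK LD1_c1 LD2_c32 LD3_c35) Lrfl Lrfl
theorem f89452 : Led Lsl_dt (LP (LK LD1_c1 LD2_c29 LD3_c45)) = (LP (LK LD1_c1 LD2_c35 LD3_c21)) :=
  Lgr Lrot42 (Lpr_df (f89448 IH) (Lpn (LP (LK LD1_c1 LD2_c35 LD3_c21))))
theorem f112036 : Led Lsl_ff (LP (LK LD1_c3 LD2_c12 LD3_c9)) = (LP (LK LD1_c1 LD2_c35 LD3_c21)) :=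
  Lgr Lrot19 (Lpr_dt (f112035 IH) (Lpr_ft (K4.f112031 IH) (Lpr_dt (f89452 IH) (Lpn (LP (LK LD1_c1 LD2_c35 LD3_c21))))))
theorem f128862 : Led Lsl_at (LP (LK LD1_c3 LD2_c12 LD3_c9)) = (LP (LK LD1_c3 LD2_c7 LD3_c13)) :=
  Lgr Lrot66 (Lpr_ff (f112036 IH) (Lpr_af (f128855 IH) (Lpe (f128849 IH) (Lpn (LP (LK LD1_c3 LD2_c7 LD3_c13))))))
theorem f112042 : Led Lsl_dt (LP (LK LD1_c1 LD2_c32 LD3_c35)) = (LP (LK LD1_c3 LD2_c12 LD3_c9)) :=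
  Lre_d IH (LK LD1_c1 LD2_c32 LD3_c35) (LK LD1_c3 LD2_c12 LD3_c9) Lrfl Lrfl
theorem f128868 : Led Lsl_af (LP (LK LD1_c1 LD2_c32 LD3_c35)) = (LP (LK LD1_c1 LD2_c29 LD3_c51)) :=
  Lgr Lrot117 (Lpr_dt (f112042 IH) (Lpr_at (f128862 IH) (Lpr_dt (f110450 IH) (Lpn (LP (LK LD1_c1 LD2_c29 LD3_c51))))))
theorem f113069 : Led Lsl_gt (LP (LK LD1_c3 LD2_c12 LD3_c7)) = (LP (LK LD1_c1 LD2_c32 LD3_c35)) :=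
  Lre_g IH (LK LD1_c3 LD2_c12 LD3_c7) (LK LD1_c1 LD2_c32 LD3_c35) Lrfl Lrfl
theorem f128444 : Led Lsl_ff (LP (LK LD1_c1 LD2_c29 LD3_c51)) = (LP (LK LD1_c1 LD2_c32 LD3_c38)) :=
  Lgr Lrot23 (Lpr_ct (K4.f66654 IH) (Lpr_ft (f128433 IH) (Lpr_ct (K4.f82333 IH) (Lpn (LP (LK LD1_c1 LD2_c32 LD3_c38))))))
theorem f128895 : Led Lsl_gf (LP (LK LD1_c3 LD2_c12 LD3_c7)) = (LP (LK LD1_c1 LD2_c32 LD3_c38)) :=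
  Lgr Lrot47 (Lpr_gt (f113069 IH) (Lpr_af (f128868 IH) (Lpr_ff (f128444 IH) (Lpn (LP (LK LD1_c1 LD2_c32 LD3_c38))))))
theorem f115541 : Led Lsl_ft (LP (LK LD1_c1 LD2_c34 LD3_c37)) = (LP (LK LD1_c3 LD2_c1 LD3_c52)) :=
  Lgr Lrot4 (Lpe (K4.f62865 IH) (Lpr_ff (K4.f115534 IH) (Lpe (K4.f12753 IH) (Lpn (LP (LK LD1_c3 LD2_c1 LD3_c52))))))
theorem f128897 : Led Lsl_af (LP (LK LD1_c3 LD2_c12 LD3_c7)) = (LP (LK LD1_c3 LD2_c1 LD3_c52)) :=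
  Lgr Lrot31 (Lpr_gf (f128895 IH) (Lpr_gf (K4.f119992 IH) (Lpr_ft (f115541 IH) (Lpn (LP (LK LD1_c3 LD2_c1 LD3_c52))))))
theorem f115522 : Led Lsl_at (LP (LK LD1_c3 LD2_c1 LD3_c51)) = (LP (LK LD1_c1 LD2_c26 LD3_c60)) :=
  Lre_a IH (LK LD1_c3 LD2_c1 LD3_c51) (LK LD1_c1 LD2_c26 LD3_c60) Lrfl Lrfl
theorem f128902 : Led Lsl_ct (LP (LK LD1_c3 LD2_c12 LD3_c7)) = (LP (LK LD1_c3 LD2_c1 LD3_c51)) :=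
  Lgr Lrot111 (Lpr_af (f128897 IH) (Lpe (K4.f27161 IH) (Lpe (f115522 IH) (Lpn (LP (LK LD1_c3 LD2_c1 LD3_c51))))))
theorem f128904 : Led Lsl_cf (LP (LK LD1_c3 LD2_c12 LD3_c7)) = (LP (LK LD1_c3 LD2_c1 LD3_c51)) :=
  Lgr Lrot11 (Lpr_ct (f128902 IH) (Lpn (LP (LK LD1_c3 LD2_c1 LD3_c51))))
theorem f96728 : Led Lsl_gt (LP (LK LD1_c0 LD2_c43 LD3_c61)) = (LP (LK LD1_c1 LD2_c34 LD3_c36)) :=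
  Lre_g IH (LK LD1_c0 LD2_c43 LD3_c61) (LK LD1_c1 LD2_c34 LD3_c36) Lrfl Lrfl
theorem f115528 : Led Lsl_at (LP (LK LD1_c1 LD2_c26 LD3_c60)) = (LP (LK LD1_c3 LD2_c1 LD3_c51)) :=
  Lre_a IH (LK LD1_c1 LD2_c26 LD3_c60) (LK LD1_c3 LD2_c1 LD3_c51) Lrfl Lrfl
theorem f115552 : Led Lsl_gt (LP (LK LD1_c1 LD2_c34 LD3_c36)) = (LP (LK LD1_c3 LD2_c1 LD3_c51)) :=
  Lgr Lrot46 (Lpe (f96728 IH) (Lpr_ft (K4.f115543 IH) (Lpr_at (f115528 IH) (Lpn (LP (LK LD1_c3 LD2_c1 LD3_c51))))))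
theorem f128909 : Led Lsl_df (LP (LK LD1_c1 LD2_c5 LD3_c61)) = (LP (LK LD1_c1 LD2_c34 LD3_c36)) :=
  Lgr Lrot155 (Lpr_gt (K2.f77976 IH) (Lpe (K2.f77845 IH) (Lpe (K4.f113114 IH) (Lpr_ct (K3.f61674 IH) (Lpe (K4.f113026 IH) (Lpe (K4.f62897 IH) (Lpe (f113069 IH) (Lpr_cf (f128904 IH) (Lpe (f115552 IH) (Lpn (LP (LK LD1_c1 LD2_c34 LD3_c36))))))))))))
theorem f82354 : Led Lsl_gt (LP (LK LD1_c1 LD2_c7 LD3_c8)) = (LP (LK LD1_c2 LD2_c19 LD3_c49)) :=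
  Lre_g IH (LK LD1_c1 LD2_c7 LD3_c8) (LK LD1_c2 LD2_c19 LD3_c49) Lrfl Lrfl
theorem f128917 : Led Lsl_ct (LP (LK LD1_c2 LD2_c19 LD3_c49)) = (LP (LK LD1_c1 LD2_c34 LD3_c36)) :=
  Lgr Lrot110 (Lpe (f82354 IH) (Lpe (K4.f23438 IH) (Lpr_gf (K4.f110440 IH) (Lpe (f66653 IH) (Lpr_gt (K3.f57579 IH) (Lpe (K3.f104310 IH) (Lpr_gt (K2.f7012 IH) (Lpr_ct (K2.f25734 IH) (Lpr_df (f128909 IH) (Lpn (LP (LK LD1_c1 LD2_c34 LD3_c36))))))))))))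
theorem f113064 : Led Lsl_dt (LP (LK LD1_c0 LD2_c42 LD3_c54)) = (LP (LK LD1_c0 LD2_c30 LD3_c30)) :=
  Lgr Lrot42 (Lpr_df (K4.f113026 IH) (Lpn (LP (LK LD1_c0 LD2_c30 LD3_c30))))
theorem f128907 : Led Lsl_dt (LP (LK LD1_c1 LD2_c5 LD3_c61)) = (LP (LK LD1_c1 LD2_c34 LD3_c36)) :=
  Lgr Lrot6 (Lpr_gt (K2.f77976 IH) (Lpe (K2.f77845 IH) (Lpe (K4.f113114 IH) (Lpr_ct (K3.f61674 IH) (Lpe (f113064 IH) (Lpe (K4.f62897 IH) (Lpe (f113069 IH) (Lpr_cf (f128904 IH) (Lpe (f115552 IH) (Lpn (LP (LK LD1_c1 LD2_c34 LD3_c36))))))))))))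
theorem f77978 : Led Lsl_gf (LP (LK LD1_c1 LD2_c5 LD3_c61)) = (LP (LK LD1_c1 LD2_c26 LD3_c41)) :=
  Lgr Lrot47 (Lpr_gt (K2.f77976 IH) (Lpe (K3.f61949 IH) (Lpe (K4.f77974 IH) (Lpn (LP (LK LD1_c1 LD2_c26 LD3_c41))))))
theorem f61864 : Led Lsl_ct (LP (LK LD1_c0 LD2_c41 LD3_c38)) = (LP (LK LD1_c0 LD2_c18 LD3_c36)) :=
  Lre_c IH (LK LD1_c0 LD2_c41 LD3_c38) (LK LD1_c0 LD2_c18 LD3_c36) Lrfl Lrfl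
theorem f58916 : Led Lsl_gt (LP (LK LD1_c1 LD2_c30 LD3_c4)) = (LP (LK LD1_c0 LD2_c41 LD3_c38)) :=
  Lre_g IH (LK LD1_c1 LD2_c30 LD3_c4) (LK LD1_c0 LD2_c41 LD3_c38) Lrfl Lrfl
theorem f124234 : Led Lsl_ct (LP (LK LD1_c1 LD2_c48 LD3_c31)) = (LP (LK LD1_c1 LD2_c30 LD3_c4)) :=
  Lgr Lrot152 (Lpr_gf (K4.f124232 IH) (Lpe (K3.f61951 IH) (Lpe (K3.f104326 IH) (Lpr_ct (K3.f104325 IH) (Lpr_gt (K3.f20970 IH) (Lpr_ct (K3.f25761 IH) (Lpe (K4.f25020 IH) (Lpe (f61864 IH) (Lpe (f58916 IH) (Lpn (LP (LK LD1_c1 LD2_c30 LD3_c4))))))))))))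
theorem f91441 : Led Lsl_dt (LP (LK LD1_c0 LD2_c41 LD3_c38)) = (LP (LK LD1_c1 LD2_c30 LD3_c5)) :=
  Lre_d IH (LK LD1_c0 LD2_c41 LD3_c38) (LK LD1_c1 LD2_c30 LD3_c5) Lrfl Lrfl
theorem f91438 : Led Lsl_gt (LP (LK LD1_c1 LD2_c30 LD3_c5)) = (LP (LK LD1_c3 LD2_c7 LD3_c45)) :=
  Lre_g IH (LK LD1_c1 LD2_c30 LD3_c5) (LK LD1_c3 LD2_c7 LD3_c45) Lrfl Lrfl
theorem f128922 : Led Lsl_df (LP (LK LD1_c2 LD2_c19 LD3_c49)) = (LP (LK LD1_c3 LD2_c7 LD3_c45)) :=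
  Lgr Lrot174 (Lpr_ct (f128917 IH) (Lpe (f128907 IH) (Lpr_gf (f77978 IH) (Lpr_df (K4.f118723 IH) (Lpe (K4.f120785 IH) (Lpr_ct (f124234 IH) (Lpr_gt (f58916 IH) (Lpr_dt (f91441 IH) (Lpr_gt (f91438 IH) (Lpn (LP (LK LD1_c3 LD2_c7 LD3_c45))))))))))))
theorem f90085 : Led Lsl_dt (LP (LK LD1_c0 LD2_c19 LD3_c38)) = (LP (LK LD1_c0 LD2_c43 LD3_c61)) :=
  Lre_d IH (LK LD1_c0 LD2_c19 LD3_c38) (LK LD1_c0 LD2_c43 LD3_c61) Lrfl Lrfl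
theorem f26171 : Led Lsl_ct (LP (LK LD1_c1 LD2_c32 LD3_c32)) = (LP (LK LD1_c0 LD2_c42 LD3_c53)) :=
  Lre_c IH (LK LD1_c1 LD2_c32 LD3_c32) (LK LD1_c0 LD2_c42 LD3_c53) Lrfl Lrfl
theorem f82355 : Led Lsl_gt (LP (LK LD1_c2 LD2_c19 LD3_c49)) = (LP (LK LD1_c1 LD2_c32 LD3_c32)) :=
  Lgr Lrot46 (Lpe (f82354 IH) (Lpr_ft (K4.f82342 IH) (Lpr_at (K4.f26175 IH) (Lpn (LP (LK LD1_c1 LD2_c32 LD3_c32))))))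
theorem f124582 : Led Lsl_ct (LP (LK LD1_c1 LD2_c34 LD3_c36)) = (LP (LK LD1_c2 LD2_c19 LD3_c49)) :=
  Lgr Lrot152 (Lpe (f96728 IH) (Lpe (f90085 IH) (Lpe (f124576 IH) (Lpr_ct (f23594 IH) (Lpr_gt (f124580 IH) (Lpr_ct (K2.f26072 IH) (Lpe (K4.f26170 IH) (Lpe (f26171 IH) (Lpe (f82355 IH) (Lpn (LP (LK LD1_c2 LD2_c19 LD3_c49))))))))))))
theorem f128940 : Led Lsl_cf (LP (LK LD1_c1 LD2_c48 LD3_c31)) = (LP (LK LD1_c1 LD2_c30 LD3_c4)) :=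
  Lgr Lrot166 (Lpr_gt (K4.f120785 IH) (Lpe (K4.f118723 IH) (Lpe (f77978 IH) (Lpr_dt (f128907 IH) (Lpr_ct (f124582 IH) (Lpr_df (f128922 IH) (Lpe (f91438 IH) (Lpe (f91441 IH) (Lpe (f58916 IH) (Lpn (LP (LK LD1_c1 LD2_c30 LD3_c4))))))))))))
theorem f23606 : Led Lsl_bf (LP (LK LD1_c0 LD2_c43 LD3_c17)) = (LP (LK LD1_c1 LD2_c33 LD3_c5)) :=
  Lgr Lrot24 (Lpr_bt (f23603 IH) (Lpn (LP (LK LD1_c1 LD2_c33 LD3_c5))))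
theorem f121269 : Led Lsl_ft (LP (LK LD1_c1 LD2_c48 LD3_c31)) = (LP (LK LD1_c1 LD2_c33 LD3_c5)) :=
  Lgr Lrot75 (Lpe (K4.f120804 IH) (Lpr_ff (K4.f121267 IH) (Lpr_bf (f23606 IH) (Lpn (LP (LK LD1_c1 LD2_c33 LD3_c5))))))
theorem f26267 : Led Lsl_gt (LP (LK LD1_c2 LD2_c19 LD3_c17)) = (LP (LK LD1_c1 LD2_c6 LD3_c46)) :=
  Lre_g IH (LK LD1_c2 LD2_c19 LD3_c17) (LK LD1_c1 LD2_c6 LD3_c46) Lrfl Lrfl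
theorem f124074 : Led Lsl_cf (LP (LK LD1_c2 LD2_c19 LD3_c17)) = (LP (LK LD1_c1 LD2_c33 LD3_c5)) :=
  Lgr Lrot160 (Lpr_gt (f26267 IH) (Lpe (f26256 IH) (Lpr_bt (f26255 IH) (Lpr_gt (K0.f26253 IH) (Lpr_ct (K0.f13476 IH) (Lpr_gt (K0.f20276 IH) (Lpe (K0.f26472 IH) (Lpr_bt (K1.f24856 IH) (Lpr_gt (K4.f124063 IH) (Lpr_bf (f23606 IH) (Lpn (LP (LK LD1_c1 LD2_c33 LD3_c5)))))))))))))
theorem f128953 : Led Lsl_ft (LP (LK LD1_c2 LD2_c19 LD3_c17)) = (LP (LK LD1_c1 LD2_c30 LD3_c4)) :=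
  Lgr Lrot4 (Lpr_cf (f124074 IH) (Lpe (f121269 IH) (Lpr_cf (f128940 IH) (Lpn (LP (LK LD1_c1 LD2_c30 LD3_c4))))))
theorem f128963 : Led Lsl_af (LP (LK LD1_c2 LD2_c19 LD3_c16)) = (LP (LK LD1_c1 LD2_c30 LD3_c4)) :=
  Lgr Lrot31 (Lpe (f26257 IH) (Lpe (f26267 IH) (Lpr_ft (f128953 IH) (Lpn (LP (LK LD1_c1 LD2_c30 LD3_c4))))))
theorem f124782 : Led Lsl_ft (LP (LK LD1_c3 LD2_c7 LD3_c39)) = (LP (LK LD1_c4 LD2_c43 LD3_c10)) :=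
  Lgr Lrot48 (Lpr_ff (f124764 IH) (Lpn (LP (LK LD1_c4 LD2_c43 LD3_c10))))
theorem f91411 : Led Lsl_bt (LP (LK LD1_c1 LD2_c30 LD3_c3)) = (LP (LK LD1_c3 LD2_c7 LD3_c39)) :=
  Lre_b IH (LK LD1_c1 LD2_c30 LD3_c3) (LK LD1_c3 LD2_c7 LD3_c39) Lrfl Lrfl
theorem f124785 : Led Lsl_ff (LP (LK LD1_c1 LD2_c30 LD3_c3)) = (LP (LK LD1_c2 LD2_c19 LD3_c16)) :=
  Lgr Lrot25 (Lpr_bt (f91411 IH) (Lpr_ft (f124782 IH) (Lpr_bt (f124541 IH) (Lpn (LP (LK LD1_c2 LD2_c19 LD3_c16))))))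
theorem f128971 : Led Lsl_at (LP (LK LD1_c1 LD2_c30 LD3_c3)) = (LP (LK LD1_c2 LD2_c19 LD3_c17)) :=
  Lgr Lrot66 (Lpr_ff (f124785 IH) (Lpr_af (f128963 IH) (Lpe (f128953 IH) (Lpn (LP (LK LD1_c2 LD2_c19 LD3_c17))))))
theorem f91430 : Led Lsl_et (LP (LK LD1_c3 LD2_c7 LD3_c41)) = (LP (LK LD1_c1 LD2_c30 LD3_c3)) :=
  Lre_e IH (LK LD1_c3 LD2_c7 LD3_c41) (LK LD1_c1 LD2_c30 LD3_c3) Lrfl Lrfl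
theorem f124079 : Led Lsl_et (LP (LK LD1_c2 LD2_c19 LD3_c17)) = (LP (LK LD1_c4 LD2_c43 LD3_c13)) :=
  Lre_e IH (LK LD1_c2 LD2_c19 LD3_c17) (LK LD1_c4 LD2_c43 LD3_c13) Lrfl Lrfl
theorem f128975 : Led Lsl_af (LP (LK LD1_c3 LD2_c7 LD3_c41)) = (LP (LK LD1_c4 LD2_c43 LD3_c13)) :=
  Lgr Lrot50 (Lpr_et (f91430 IH) (Lpr_at (f128971 IH) (Lpr_et (f124079 IH) (Lpn (LP (LK LD1_c4 LD2_c43 LD3_c13))))))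
theorem f26138 : Led Lsl_et (LP (LK LD1_c4 LD2_c43 LD3_c43)) = (LP (LK LD1_c2 LD2_c19 LD3_c37)) :=
  Lre_e IH (LK LD1_c4 LD2_c43 LD3_c43) (LK LD1_c2 LD2_c19 LD3_c37) Lrfl Lrfl
theorem f91416 : Led Lsl_et (LP (LK LD1_c1 LD2_c30 LD3_c3)) = (LP (LK LD1_c3 LD2_c7 LD3_c41)) :=
  Lre_e IH (LK LD1_c1 LD2_c30 LD3_c3) (LK LD1_c3 LD2_c7 LD3_c41) Lrfl Lrfl
theorem f91417 : Led Lsl_cf (LP (LK LD1_c4 LD2_c43 LD3_c43)) = (LP (LK LD1_c3 LD2_c7 LD3_c41)) :=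
  Lgr Lrot39 (Lpr_et (f26138 IH) (Lpr_ct (K3.f91310 IH) (Lpr_et (f91416 IH) (Lpn (LP (LK LD1_c3 LD2_c7 LD3_c41))))))
theorem f23647 : Led Lsl_et (LP (LK LD1_c3 LD2_c13 LD3_c19)) = (LP (LK LD1_c1 LD2_c33 LD3_c5)) :=
  Lre_e IH (LK LD1_c3 LD2_c13 LD3_c19) (LK LD1_c1 LD2_c33 LD3_c5) Lrfl Lrfl
theorem f124080 : Led Lsl_ct (LP (LK LD1_c4 LD2_c43 LD3_c13)) = (LP (LK LD1_c3 LD2_c13 LD3_c19)) :=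
  Lgr Lrot15 (Lpe (f124079 IH) (Lpr_cf (f124074 IH) (Lpe (f23647 IH) (Lpn (LP (LK LD1_c3 LD2_c13 LD3_c19))))))
theorem f124083 : Led Lsl_cf (LP (LK LD1_c4 LD2_c43 LD3_c13)) = (LP (LK LD1_c3 LD2_c13 LD3_c19)) :=
  Lgr Lrot11 (Lpr_ct (f124080 IH) (Lpn (LP (LK LD1_c3 LD2_c13 LD3_c19))))
theorem f128980 : Led Lsl_at (LP (LK LD1_c4 LD2_c43 LD3_c43)) = (LP (LK LD1_c3 LD2_c13 LD3_c19)) :=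
  Lgr Lrot107 (Lpr_cf (f91417 IH) (Lpr_af (f128975 IH) (Lpr_cf (f124083 IH) (Lpn (LP (LK LD1_c3 LD2_c13 LD3_c19))))))
theorem f128990 : Led Lsl_af (LP (LK LD1_c4 LD2_c43 LD3_c43)) = (LP (LK LD1_c3 LD2_c13 LD3_c19)) :=
  Lgr Lrot0 (Lpr_at (f128980 IH) (Lpn (LP (LK LD1_c3 LD2_c13 LD3_c19))))
theorem f23611 : Led Lsl_et (LP (LK LD1_c1 LD2_c33 LD3_c5)) = (LP (LK LD1_c3 LD2_c13 LD3_c19)) :=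
  Lre_e IH (LK LD1_c1 LD2_c33 LD3_c5) (LK LD1_c3 LD2_c13 LD3_c19) Lrfl Lrfl
theorem f128993 : Led Lsl_at (LP (LK LD1_c2 LD2_c19 LD3_c37)) = (LP (LK LD1_c1 LD2_c33 LD3_c5)) :=
  Lgr Lrot80 (Lpe (f26138 IH) (Lpr_af (f128990 IH) (Lpe (f23611 IH) (Lpn (LP (LK LD1_c1 LD2_c33 LD3_c5))))))
theorem f128995 : Led Lsl_af (LP (LK LD1_c1 LD2_c6 LD3_c57)) = (LP (LK LD1_c0 LD2_c43 LD3_c5)) :=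
  Lgr Lrot117 (Lpr_dt (K3.f26091 IH) (Lpr_at (f128993 IH) (Lpr_dt (f23602 IH) (Lpn (LP (LK LD1_c0 LD2_c43 LD3_c5))))))
theorem f129003 : Led Lsl_ft (LP (LK LD1_c0 LD2_c51 LD3_c1)) = (LP (LK LD1_c0 LD2_c43 LD3_c5)) :=
  Lgr Lrot101 (Lpr_af (f124805 IH) (Lpe (f124801 IH) (Lpr_af (f128995 IH) (Lpn (LP (LK LD1_c0 LD2_c43 LD3_c5))))))
theorem f129005 : Led Lsl_ff (LP (LK LD1_c0 LD2_c30 LD3_c39)) = (LP (LK LD1_c0 LD2_c19 LD3_c11)) :=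
  Lgr Lrot23 (Lpr_ct (K3.f26104 IH) (Lpr_ft (f129003 IH) (Lpr_ct (K0.f23450 IH) (Lpn (LP (LK LD1_c0 LD2_c19 LD3_c11))))))
theorem f105627 : Led Lsl_et (LP (LK LD1_c0 LD2_c30 LD3_c39)) = (LP (LK LD1_c0 LD2_c30 LD3_c11)) :=
  Lgr Lrot74 (Lpe (K3.f79326 IH) (Lpr_ef (K3.f105625 IH) (Lpe (K3.f104333 IH) (Lpn (LP (LK LD1_c0 LD2_c30 LD3_c11))))))
theorem f95753 : Led Lsl_ef (LP (LK LD1_c0 LD2_c19 LD3_c11)) = (LP (LK LD1_c0 LD2_c42 LD3_c32)) :=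
  Lgr Lrot29 (Lpr_bt (K2.f79138 IH) (Lpr_et (K3.f95751 IH) (Lpr_bt (K3.f82467 IH) (Lpn (LP (LK LD1_c0 LD2_c42 LD3_c32))))))
theorem f82422 : Led Lsl_ct (LP (LK LD1_c1 LD2_c31 LD3_c39)) = (LP (LK LD1_c0 LD2_c42 LD3_c24)) :=
  Lre_c IH (LK LD1_c1 LD2_c31 LD3_c39) (LK LD1_c0 LD2_c42 LD3_c24) Lrfl Lrfl
theorem f121498 : Led Lsl_ff (LP (LK LD1_c0 LD2_c42 LD3_c32)) = (LP (LK LD1_c0 LD2_c42 LD3_c24)) :=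
  Lgr Lrot23 (Lpr_ct (K3.f86337 IH) (Lpr_ft (K4.f121492 IH) (Lpr_ct (f82422 IH) (Lpn (LP (LK LD1_c0 LD2_c42 LD3_c24))))))
theorem f119852 : Led Lsl_et (LP (LK LD1_c0 LD2_c18 LD3_c55)) = (LP (LK LD1_c0 LD2_c42 LD3_c24)) :=
  Lre_e IH (LK LD1_c0 LD2_c18 LD3_c55) (LK LD1_c0 LD2_c42 LD3_c24) Lrfl Lrfl
theorem f129009 : Led Lsl_ft (LP (LK LD1_c0 LD2_c30 LD3_c11)) = (LP (LK LD1_c0 LD2_c18 LD3_c55)) :=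
  Lgr Lrot86 (Lpe (f105627 IH) (Lpr_ff (f129005 IH) (Lpr_ef (f95753 IH) (Lpr_ff (f121498 IH) (Lpe (f119852 IH) (Lpn (LP (LK LD1_c0 LD2_c18 LD3_c55))))))))
theorem f129017 : Led Lsl_af (LP (LK LD1_c0 LD2_c30 LD3_c10)) = (LP (LK LD1_c0 LD2_c18 LD3_c55)) :=
  Lgr Lrot31 (Lpe (K2.f7012 IH) (Lpe (K3.f20970 IH) (Lpr_ft (f129009 IH) (Lpn (LP (LK LD1_c0 LD2_c18 LD3_c55))))))
theorem f124817 : Led Lsl_af (LP (LK LD1_c0 LD2_c30 LD3_c11)) = (LP (LK LD1_c0 LD2_c18 LD3_c54)) :=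
  Lgr Lrot68 (Lpr_ct (K3.f104332 IH) (Lpr_at (f124813 IH) (Lpr_ct (f82404 IH) (Lpn (LP (LK LD1_c0 LD2_c18 LD3_c54))))))
theorem f129047 : Led Lsl_ft (LP (LK LD1_c0 LD2_c30 LD3_c10)) = (LP (LK LD1_c0 LD2_c18 LD3_c54)) :=
  Lgr Lrot101 (Lpr_af (f129017 IH) (Lpe (f129009 IH) (Lpr_af (f124817 IH) (Lpn (LP (LK LD1_c0 LD2_c18 LD3_c54))))))
theorem f129053 : Led Lsl_ff (LP (LK LD1_c0 LD2_c30 LD3_c10)) = (LP (LK LD1_c0 LD2_c18 LD3_c54)) :=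
  Lgr Lrot3 (Lpr_ft (f129047 IH) (Lpn (LP (LK LD1_c0 LD2_c18 LD3_c54))))
theorem f129040 : Led Lsl_at (LP (LK LD1_c0 LD2_c30 LD3_c10)) = (LP (LK LD1_c0 LD2_c18 LD3_c55)) :=
  Lgr Lrot100 (Lpr_af (f129017 IH) (Lpn (LP (LK LD1_c0 LD2_c18 LD3_c55))))
theorem f129015 : Led Lsl_ff (LP (LK LD1_c0 LD2_c30 LD3_c11)) = (LP (LK LD1_c0 LD2_c18 LD3_c55)) :=
  Lgr Lrot3 (Lpr_ft (f129009 IH) (Lpn (LP (LK LD1_c0 LD2_c18 LD3_c55))))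
theorem f129055 : Led Lsl_at (LP (LK LD1_c0 LD2_c30 LD3_c11)) = (LP (LK LD1_c0 LD2_c18 LD3_c54)) :=
  Lgr Lrot66 (Lpr_ff (f129015 IH) (Lpe (f129040 IH) (Lpr_ff (f129053 IH) (Lpn (LP (LK LD1_c0 LD2_c18 LD3_c54))))))
theorem f16667 : Led Lsl_dt (LP (LK LD1_c0 LD2_c18 LD3_c54)) = (LP (LK LD1_c0 LD2_c42 LD3_c20)) :=
  Lre_d IH (LK LD1_c0 LD2_c18 LD3_c54) (LK LD1_c0 LD2_c42 LD3_c20) Lrfl Lrfl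
theorem f129057 : Led Lsl_af (LP (LK LD1_c0 LD2_c43 LD3_c7)) = (LP (LK LD1_c0 LD2_c42 LD3_c20)) :=
  Lgr Lrot117 (Lpe (K3.f104340 IH) (Lpr_at (f129055 IH) (Lpr_dt (f16667 IH) (Lpn (LP (LK LD1_c0 LD2_c42 LD3_c20))))))
theorem f65560 : Led Lsl_ct (LP (LK LD1_c1 LD2_c33 LD3_c10)) = (LP (LK LD1_c0 LD2_c43 LD3_c7)) :=
  Lre_c IH (LK LD1_c1 LD2_c33 LD3_c10) (LK LD1_c0 LD2_c43 LD3_c7) Lrfl Lrfl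
theorem f104343 : Led Lsl_dt (LP (LK LD1_c3 LD2_c13 LD3_c27)) = (LP (LK LD1_c1 LD2_c33 LD3_c10)) :=
  Lre_d IH (LK LD1_c3 LD2_c13 LD3_c27) (LK LD1_c1 LD2_c33 LD3_c10) Lrfl Lrfl
theorem f65607 : Led Lsl_ct (LP (LK LD1_c0 LD2_c43 LD3_c7)) = (LP (LK LD1_c1 LD2_c33 LD3_c10)) :=
  Lre_c IH (LK LD1_c0 LD2_c43 LD3_c7) (LK LD1_c1 LD2_c33 LD3_c10) Lrfl Lrfl
theorem f104339 : Led Lsl_dt (LP (LK LD1_c1 LD2_c33 LD3_c10)) = (LP (LK LD1_c3 LD2_c13 LD3_c27)) :=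
  Lre_d IH (LK LD1_c1 LD2_c33 LD3_c10) (LK LD1_c3 LD2_c13 LD3_c27) Lrfl Lrfl
theorem f129019 : Led Lsl_ct (LP (LK LD1_c3 LD2_c13 LD3_c27)) = (LP (LK LD1_c3 LD2_c7 LD3_c45)) :=
  Lgr Lrot41 (Lpe (f104339 IH) (Lpe (f65607 IH) (Lpe (K3.f104337 IH) (Lpr_ft (f129009 IH) (Lpe (f129017 IH) (Lpe (K2.f77980 IH) (Lpr_df (f128909 IH) (Lpe (f128917 IH) (Lpr_df (f128922 IH) (Lpn (LP (LK LD1_c3 LD2_c7 LD3_c45))))))))))))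
theorem f129023 : Led Lsl_cf (LP (LK LD1_c3 LD2_c13 LD3_c27)) = (LP (LK LD1_c3 LD2_c7 LD3_c45)) :=
  Lgr Lrot11 (Lpr_ct (f129019 IH) (Lpn (LP (LK LD1_c3 LD2_c7 LD3_c45))))
theorem f128935 : Led Lsl_dt (LP (LK LD1_c2 LD2_c19 LD3_c49)) = (LP (LK LD1_c3 LD2_c7 LD3_c45)) :=
  Lgr Lrot42 (Lpr_df (f128922 IH) (Lpn (LP (LK LD1_c3 LD2_c7 LD3_c45))))
theorem f23555 : Led Lsl_dt (LP (LK LD1_c0 LD2_c8 LD3_c37)) = (LP (LK LD1_c0 LD2_c19 LD3_c13)) :=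
  Lre_d IH (LK LD1_c0 LD2_c8 LD3_c37) (LK LD1_c0 LD2_c19 LD3_c13) Lrfl Lrfl
theorem f59508 : Led Lsl_gt (LP (LK LD1_c0 LD2_c19 LD3_c13)) = (LP (LK LD1_c0 LD2_c43 LD3_c6)) :=
  Lre_g IH (LK LD1_c0 LD2_c19 LD3_c13) (LK LD1_c0 LD2_c43 LD3_c6) Lrfl Lrfl
theorem f128915 : Led Lsl_df (LP (LK LD1_c0 LD2_c30 LD3_c10)) = (LP (LK LD1_c0 LD2_c43 LD3_c6)) :=
  Lgr Lrot84 (Lpe (K2.f77980 IH) (Lpr_df (f128909 IH) (Lpe (f96728 IH) (Lpe (f90085 IH) (Lpr_gf (f124584 IH) (Lpe (K0.f23597 IH) (Lpr_gt (K0.f23449 IH) (Lpr_dt (f23555 IH) (Lpr_gt (f59508 IH) (Lpn (LP (LK LD1_c0 LD2_c43 LD3_c6))))))))))))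
theorem f129063 : Led Lsl_ft (LP (LK LD1_c0 LD2_c43 LD3_c6)) = (LP (LK LD1_c0 LD2_c42 LD3_c20)) :=
  Lgr Lrot142 (Lpe (f128915 IH) (Lpr_ct (K2.f25734 IH) (Lpr_dt (f128907 IH) (Lpr_ct (f124582 IH) (Lpr_dt (f128935 IH) (Lpe (f129023 IH) (Lpr_dt (f104343 IH) (Lpr_ct (f65560 IH) (Lpr_af (f129057 IH) (Lpn (LP (LK LD1_c0 LD2_c42 LD3_c20))))))))))))
theorem f129069 : Led Lsl_et (LP (LK LD1_c1 LD2_c33 LD3_c8)) = (LP (LK LD1_c0 LD2_c43 LD3_c6)) :=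
  Lre_e IH (LK LD1_c1 LD2_c33 LD3_c8) (LK LD1_c0 LD2_c43 LD3_c6) Lrfl Lrfl
theorem f129070 : Led Lsl_ft (LP (LK LD1_c3 LD2_c13 LD3_c24)) = (LP (LK LD1_c1 LD2_c33 LD3_c8)) :=
  Lre_f IH (LK LD1_c3 LD2_c13 LD3_c24) (LK LD1_c1 LD2_c33 LD3_c8) Lrfl Lrfl
theorem f129071 : Led Lsl_et (LP (LK LD1_c0 LD2_c42 LD3_c20)) = (LP (LK LD1_c1 LD2_c31 LD3_c36)) :=
  Lre_e IH (LK LD1_c0 LD2_c42 LD3_c20) (LK LD1_c1 LD2_c31 LD3_c36) Lrfl Lrfl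
theorem f129072 : Led Lsl_ft (LP (LK LD1_c1 LD2_c31 LD3_c36)) = (LP (LK LD1_c3 LD2_c10 LD3_c34)) :=
  Lre_f IH (LK LD1_c1 LD2_c31 LD3_c36) (LK LD1_c3 LD2_c10 LD3_c34) Lrfl Lrfl
theorem f129073 : Led Lsl_ef (LP (LK LD1_c3 LD2_c13 LD3_c24)) = (LP (LK LD1_c3 LD2_c10 LD3_c34)) :=
  Lgr Lrot21 (Lpr_ft (f129070 IH) (Lpr_et (f129069 IH) (Lpr_ft (f129063 IH) (Lpr_et (f129071 IH) (Lpr_ft (f129072 IH) (Lpn (LP (LK LD1_c3 LD2_c10 LD3_c34))))))))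
theorem f129080 : Led Lsl_et (LP (LK LD1_c3 LD2_c13 LD3_c24)) = (LP (LK LD1_c3 LD2_c10 LD3_c34)) :=
  Lgr Lrot87 (Lpr_ef (f129073 IH) (Lpn (LP (LK LD1_c3 LD2_c10 LD3_c34))))
theorem f68493 : Led Lsl_bt (LP (LK LD1_c6 LD2_c30 LD3_c31)) = (LP (LK LD1_c3 LD2_c13 LD3_c24)) :=
  Lre_b IH (LK LD1_c6 LD2_c30 LD3_c31) (LK LD1_c3 LD2_c13 LD3_c24) Lrfl Lrfl
theorem f129082 : Led Lsl_bt (LP (LK LD1_c3 LD2_c10 LD3_c34)) = (LP (LK LD1_c6 LD2_c25 LD3_c37)) :=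
  Lre_b IH (LK LD1_c3 LD2_c10 LD3_c34) (LK LD1_c6 LD2_c25 LD3_c37) Lrfl Lrfl
theorem f129083 : Led Lsl_ef (LP (LK LD1_c6 LD2_c30 LD3_c31)) = (LP (LK LD1_c6 LD2_c25 LD3_c37)) :=
  Lgr Lrot29 (Lpr_bt (f68493 IH) (Lpr_et (f129080 IH) (Lpr_bt (f129082 IH) (Lpn (LP (LK LD1_c6 LD2_c25 LD3_c37))))))
theorem f68495 : Led Lsl_ft (LP (LK LD1_c6 LD2_c30 LD3_c31)) = (LP (LK LD1_c3 LD2_c13 LD3_c20)) :=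
  Lre_f IH (LK LD1_c6 LD2_c30 LD3_c31) (LK LD1_c3 LD2_c13 LD3_c20) Lrfl Lrfl
theorem f68468 : Led Lsl_et (LP (LK LD1_c3 LD2_c13 LD3_c20)) = (LP (LK LD1_c1 LD2_c33 LD3_c6)) :=
  Lre_e IH (LK LD1_c3 LD2_c13 LD3_c20) (LK LD1_c1 LD2_c33 LD3_c6) Lrfl Lrfl
theorem f129088 : Led Lsl_ft (LP (LK LD1_c3 LD2_c10 LD3_c30)) = (LP (LK LD1_c6 LD2_c25 LD3_c37)) :=
  Lre_f IH (LK LD1_c3 LD2_c10 LD3_c30) (LK LD1_c6 LD2_c25 LD3_c37) Lrfl Lrfl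
theorem f124838 : Led Lsl_et (LP (LK LD1_c1 LD2_c31 LD3_c32)) = (LP (LK LD1_c3 LD2_c10 LD3_c30)) :=
  Lre_e IH (LK LD1_c1 LD2_c31 LD3_c32) (LK LD1_c3 LD2_c10 LD3_c30) Lrfl Lrfl
theorem f129089 : Led Lsl_ft (LP (LK LD1_c1 LD2_c33 LD3_c6)) = (LP (LK LD1_c1 LD2_c31 LD3_c32)) :=
  Lgr Lrot86 (Lpe (f68468 IH) (Lpe (f68495 IH) (Lpr_ef (f129083 IH) (Lpe (f129088 IH) (Lpe (f124838 IH) (Lpn (LP (LK LD1_c1 LD2_c31 LD3_c32))))))))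
theorem f124836 : Led Lsl_dt (LP (LK LD1_c1 LD2_c31 LD3_c32)) = (LP (LK LD1_c0 LD2_c42 LD3_c18)) :=
  Lre_d IH (LK LD1_c1 LD2_c31 LD3_c32) (LK LD1_c0 LD2_c42 LD3_c18) Lrfl Lrfl
theorem f125564 : Led Lsl_ff (LP (LK LD1_c0 LD2_c22 LD3_c46)) = (LP (LK LD1_c0 LD2_c22 LD3_c59)) :=
  Lgr Lrot19 (Lpr_dt (K4.f107291 IH) (Lpr_ft (f125562 IH) (Lpr_dt (K4.f124110 IH) (Lpn (LP (LK LD1_c0 LD2_c22 LD3_c59))))))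
theorem f125093 : Led Lsl_ft (LP (LK LD1_c1 LD2_c31 LD3_c52)) = (LP (LK LD1_c0 LD2_c50 LD3_c54)) :=
  Lgr Lrot48 (Lpr_ff (f125079 IH) (Lpn (LP (LK LD1_c0 LD2_c50 LD3_c54))))
theorem f108862 : Led Lsl_ef (LP (LK LD1_c1 LD2_c31 LD3_c52)) = (LP (LK LD1_c0 LD2_c46 LD3_c2)) :=
  Lgr Lrot29 (Lpr_bt (f24989 IH) (Lpr_et (f108860 IH) (Lpe (K2.f84641 IH) (Lpn (LP (LK LD1_c0 LD2_c46 LD3_c2))))))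
theorem f125670 : Led Lsl_ft (LP (LK LD1_c0 LD2_c42 LD3_c18)) = (LP (LK LD1_c0 LD2_c46 LD3_c2)) :=
  Lgr Lrot86 (Lpr_ef (f125662 IH) (Lpr_ff (f125564 IH) (Lpe (K4.f124146 IH) (Lpe (f125093 IH) (Lpr_ef (f108862 IH) (Lpn (LP (LK LD1_c0 LD2_c46 LD3_c2))))))))
theorem f129093 : Led Lsl_df (LP (LK LD1_c1 LD2_c33 LD3_c6)) = (LP (LK LD1_c0 LD2_c46 LD3_c2)) :=
  Lgr Lrot78 (Lpr_ft (f129089 IH) (Lpr_dt (f124836 IH) (Lpr_ft (f125670 IH) (Lpn (LP (LK LD1_c0 LD2_c46 LD3_c2))))))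
theorem f65532 : Led Lsl_dt (LP (LK LD1_c1 LD2_c34 LD3_c23)) = (LP (LK LD1_c0 LD2_c43 LD3_c53)) :=
  Lre_d IH (LK LD1_c1 LD2_c34 LD3_c23) (LK LD1_c0 LD2_c43 LD3_c53) Lrfl Lrfl
theorem f129101 : Led Lsl_gt (LP (LK LD1_c1 LD2_c33 LD3_c6)) = (LP (LK LD1_c1 LD2_c46 LD3_c55)) :=
  Lgr Lrot49 (Lpr_df (f129093 IH) (Lpr_gf (K3.f84637 IH) (Lpr_cf (K2.f12084 IH) (Lpe (K4.f115510 IH) (Lpe (K4.f116015 IH) (Lpr_gt (K4.f116007 IH) (Lpr_dt (f65532 IH) (Lpr_cf (K4.f124216 IH) (Lpe (K4.f66467 IH) (Lpn (LP (LK LD1_c1 LD2_c46 LD3_c55))))))))))))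
theorem f22482 : Led Lsl_bt (LP (LK LD1_c0 LD2_c19 LD3_c22)) = (LP (LK LD1_c0 LD2_c8 LD3_c43)) :=
  Lre_b IH (LK LD1_c0 LD2_c19 LD3_c22) (LK LD1_c0 LD2_c8 LD3_c43) Lrfl Lrfl
theorem f22613 : Led Lsl_ct (LP (LK LD1_c0 LD2_c19 LD3_c22)) = (LP (LK LD1_c0 LD2_c43 LD3_c24)) :=
  Lre_c IH (LK LD1_c0 LD2_c19 LD3_c22) (LK LD1_c0 LD2_c43 LD3_c24) Lrfl Lrfl
theorem f22824 : Led Lsl_gt (LP (LK LD1_c1 LD2_c33 LD3_c37)) = (LP (LK LD1_c0 LD2_c43 LD3_c24)) :=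
  Lre_g IH (LK LD1_c1 LD2_c33 LD3_c37) (LK LD1_c0 LD2_c43 LD3_c24) Lrfl Lrfl
theorem f59509 : Led Lsl_bt (LP (LK LD1_c1 LD2_c33 LD3_c6)) = (LP (LK LD1_c0 LD2_c43 LD3_c6)) :=
  Lre_b IH (LK LD1_c1 LD2_c33 LD3_c6) (LK LD1_c0 LD2_c43 LD3_c6) Lrfl Lrfl
theorem f68358 : Led Lsl_cf (LP (LK LD1_c1 LD2_c33 LD3_c37)) = (LP (LK LD1_c1 LD2_c33 LD3_c6)) :=
  Lgr Lrot160 (Lpr_gt (f22824 IH) (Lpe (f22613 IH) (Lpr_bt (f22482 IH) (Lpr_gt (K4.f68333 IH) (Lpr_ct (K0.f22834 IH) (Lpr_gt (K0.f22451 IH) (Lpr_cf (K1.f59479 IH) (Lpr_bt (K3.f59507 IH) (Lpr_gt (f59508 IH) (Lpe (f59509 IH) (Lpn (LP (LK LD1_c1 LD2_c33 LD3_c6)))))))))))))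
theorem f22664 : Led Lsl_dt (LP (LK LD1_c0 LD2_c43 LD3_c24)) = (LP (LK LD1_c1 LD2_c33 LD3_c38)) :=
  Lre_d IH (LK LD1_c0 LD2_c43 LD3_c24) (LK LD1_c1 LD2_c33 LD3_c38) Lrfl Lrfl
theorem f22637 : Led Lsl_gt (LP (LK LD1_c1 LD2_c33 LD3_c38)) = (LP (LK LD1_c3 LD2_c14 LD3_c10)) :=
  Lre_g IH (LK LD1_c1 LD2_c33 LD3_c38) (LK LD1_c3 LD2_c14 LD3_c10) Lrfl Lrfl
theorem f129129 : Led Lsl_dt (LP (LK LD1_c3 LD2_c14 LD3_c10)) = (LP (LK LD1_c1 LD2_c35 LD3_c60)) :=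
  Lgr Lrot105 (Lpe (f22637 IH) (Lpe (f22664 IH) (Lpe (f22824 IH) (Lpr_cf (f68358 IH) (Lpr_gt (f129101 IH) (Lpr_dt (K4.f66467 IH) (Lpr_gt (K4.f12569 IH) (Lpr_dt (K4.f12489 IH) (Lpr_cf (K1.f66462 IH) (Lpn (LP (LK LD1_c1 LD2_c35 LD3_c60))))))))))))
theorem f125580 : Led Lsl_af (LP (LK LD1_c0 LD2_c10 LD3_c15)) = (LP (LK LD1_c0 LD2_c10 LD3_c21)) :=
  Lgr Lrot68 (Lpr_ct (K1.f12339 IH) (Lpr_at (f125576 IH) (Lpr_ct (K4.f120829 IH) (Lpn (LP (LK LD1_c0 LD2_c10 LD3_c21))))))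
theorem f124372 : Led Lsl_ft (LP (LK LD1_c0 LD2_c10 LD3_c16)) = (LP (LK LD1_c0 LD2_c10 LD3_c21)) :=
  Lgr Lrot75 (Lpe (K3.f12348 IH) (Lpr_ff (f124369 IH) (Lpe (K4.f120828 IH) (Lpn (LP (LK LD1_c0 LD2_c10 LD3_c21))))))
theorem f107308 : Led Lsl_dt (LP (LK LD1_c0 LD2_c50 LD3_c24)) = (LP (LK LD1_c1 LD2_c47 LD3_c13)) :=
  Lre_d IH (LK LD1_c0 LD2_c50 LD3_c24) (LK LD1_c1 LD2_c47 LD3_c13) Lrfl Lrfl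
theorem f129145 : Led Lsl_cf (LP (LK LD1_c3 LD2_c14 LD3_c10)) = (LP (LK LD1_c1 LD2_c47 LD3_c13)) :=
  Lgr Lrot116 (Lpr_dt (f129129 IH) (Lpe (K1.f66462 IH) (Lpr_dt (K1.f12408 IH) (Lpr_ct (K4.f12419 IH) (Lpr_af (f125580 IH) (Lpe (f124372 IH) (Lpr_dt (K3.f23679 IH) (Lpr_ct (K3.f95901 IH) (Lpr_dt (f107308 IH) (Lpn (LP (LK LD1_c1 LD2_c47 LD3_c13))))))))))))
theorem f129199 : Led Lsl_ct (LP (LK LD1_c3 LD2_c14 LD3_c10)) = (LP (LK LD1_c1 LD2_c47 LD3_c13)) :=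
  Lgr Lrot59 (Lpr_cf (f129145 IH) (Lpn (LP (LK LD1_c1 LD2_c47 LD3_c13))))
theorem f129137 : Led Lsl_df (LP (LK LD1_c3 LD2_c14 LD3_c10)) = (LP (LK LD1_c1 LD2_c35 LD3_c60)) :=
  Lgr Lrot38 (Lpr_dt (f129129 IH) (Lpn (LP (LK LD1_c1 LD2_c35 LD3_c60))))
theorem f107302 : Led Lsl_dt (LP (LK LD1_c1 LD2_c47 LD3_c13)) = (LP (LK LD1_c0 LD2_c50 LD3_c24)) :=
  Lre_d IH (LK LD1_c1 LD2_c47 LD3_c13) (LK LD1_c0 LD2_c50 LD3_c24) Lrfl Lrfl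
theorem f124839 : Led Lsl_dt (LP (LK LD1_c1 LD2_c46 LD3_c56)) = (LP (LK LD1_c1 LD2_c31 LD3_c31)) :=
  Lgr Lrot60 (Lpr_ff (K4.f114978 IH) (Lpe (K4.f114989 IH) (Lpr_ff (f124834 IH) (Lpn (LP (LK LD1_c1 LD2_c31 LD3_c31))))))
theorem f24857 : Led Lsl_ct (LP (LK LD1_c0 LD2_c44 LD3_c31)) = (LP (LK LD1_c0 LD2_c19 LD3_c49)) :=
  Lre_c IH (LK LD1_c0 LD2_c44 LD3_c31) (LK LD1_c0 LD2_c19 LD3_c49) Lrfl Lrfl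
theorem f24861 : Led Lsl_gt (LP (LK LD1_c1 LD2_c35 LD3_c61)) = (LP (LK LD1_c0 LD2_c44 LD3_c31)) :=
  Lre_g IH (LK LD1_c1 LD2_c35 LD3_c61) (LK LD1_c0 LD2_c44 LD3_c31) Lrfl Lrfl
theorem f125678 : Led Lsl_cf (LP (LK LD1_c1 LD2_c35 LD3_c61)) = (LP (LK LD1_c0 LD2_c50 LD3_c23)) :=
  Lgr Lrot169 (Lpr_gt (f24861 IH) (Lpr_ct (f24857 IH) (Lpr_df (K4.f24606 IH) (Lpe (K2.f21014 IH) (Lpe (f12693 IH) (Lpr_cf (f124859 IH) (Lpe (f124833 IH) (Lpe (f124839 IH) (Lpr_gt (f125672 IH) (Lpn (LP (LK LD1_c0 LD2_c50 LD3_c23))))))))))))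
theorem f129232 : Led Lsl_at (LP (LK LD1_c1 LD2_c48 LD3_c2)) = (LP (LK LD1_c1 LD2_c35 LD3_c61)) :=
  Lgr Lrot33 (Lpr_ff (f125607 IH) (Lpe (f129137 IH) (Lpr_ct (f129199 IH) (Lpr_dt (f107302 IH) (Lpr_ct (K3.f95902 IH) (Lpr_dt (K4.f23678 IH) (Lpr_ct (K4.f107283 IH) (Lpr_dt (K4.f107291 IH) (Lpe (f125678 IH) (Lpn (LP (LK LD1_c1 LD2_c35 LD3_c61))))))))))))
theorem f125572 : Led Lsl_at (LP (LK LD1_c0 LD2_c50 LD3_c16)) = (LP (LK LD1_c0 LD2_c50 LD3_c53)) :=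
  Lgr Lrot100 (Lpr_af (f125570 IH) (Lpn (LP (LK LD1_c0 LD2_c50 LD3_c53))))
theorem f125568 : Led Lsl_ff (LP (LK LD1_c0 LD2_c50 LD3_c23)) = (LP (LK LD1_c0 LD2_c50 LD3_c53)) :=
  Lgr Lrot3 (Lpr_ft (f125562 IH) (Lpn (LP (LK LD1_c0 LD2_c50 LD3_c53))))
theorem f125614 : Led Lsl_af (LP (LK LD1_c0 LD2_c50 LD3_c47)) = (LP (LK LD1_c0 LD2_c50 LD3_c23)) :=
  Lgr Lrot45 (Lpr_ft (f125611 IH) (Lpr_at (f125572 IH) (Lpe (f125568 IH) (Lpn (LP (LK LD1_c0 LD2_c50 LD3_c23))))))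
theorem f129241 : Led Lsl_cf (LP (LK LD1_c0 LD2_c50 LD3_c23)) = (LP (LK LD1_c1 LD2_c35 LD3_c61)) :=
  Lgr Lrot1 (Lpe (f125614 IH) (Lpr_ct (f26226 IH) (Lpr_at (f129232 IH) (Lpn (LP (LK LD1_c1 LD2_c35 LD3_c61))))))
theorem f129253 : Led Lsl_ft (LP (LK LD1_c1 LD2_c48 LD3_c14)) = (LP (LK LD1_c1 LD2_c35 LD3_c61)) :=
  Lgr Lrot4 (Lpe (f124121 IH) (Lpe (f125562 IH) (Lpr_cf (f129241 IH) (Lpn (LP (LK LD1_c1 LD2_c35 LD3_c61))))))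
theorem f124127 : Led Lsl_gt (LP (LK LD1_c1 LD2_c48 LD3_c0)) = (LP (LK LD1_c0 LD2_c50 LD3_c53)) :=
  Lgr Lrot164 (Lpe (f114980 IH) (Lpe (K3.f78053 IH) (Lpe (K3.f60998 IH) (Lpe (K2.f13784 IH) (Lpe (K2.f25202 IH) (Lpe (K2.f25203 IH) (Lpr_ct (K2.f60965 IH) (Lpe (K2.f60966 IH) (Lpe (K2.f60964 IH) (Lpr_bt (K4.f124114 IH) (Lpn (LP (LK LD1_c0 LD2_c50 LD3_c53)))))))))))))
theorem f13617 : Led Lsl_bt (LP (LK LD1_c0 LD2_c31 LD3_c14)) = (LP (LK LD1_c0 LD2_c13 LD3_c52)) :=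
  Lre_b IH (LK LD1_c0 LD2_c31 LD3_c14) (LK LD1_c0 LD2_c13 LD3_c52) Lrfl Lrfl
theorem f23267 : Led Lsl_dt (LP (LK LD1_c0 LD2_c20 LD3_c10)) = (LP (LK LD1_c0 LD2_c31 LD3_c14)) :=
  Lgr Lrot79 (Lpe (K3.f7369 IH) (Lpr_df (K0.f23265 IH) (Lpe (f13617 IH) (Lpn (LP (LK LD1_c0 LD2_c31 LD3_c14))))))
theorem f13618 : Led Lsl_ct (LP (LK LD1_c1 LD2_c8 LD3_c11)) = (LP (LK LD1_c0 LD2_c31 LD3_c14)) :=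
  Lre_c IH (LK LD1_c1 LD2_c8 LD3_c11) (LK LD1_c0 LD2_c31 LD3_c14) Lrfl Lrfl
theorem f124129 : Led Lsl_gf (LP (LK LD1_c1 LD2_c8 LD3_c11)) = (LP (LK LD1_c1 LD2_c48 LD3_c14)) :=
  Lgr Lrot104 (Lpr_ct (f13618 IH) (Lpe (f23267 IH) (Lpe (K2.f20019 IH) (Lpe (K2.f12660 IH) (Lpe (K2.f84591 IH) (Lpr_gf (K3.f84637 IH) (Lpr_df (K4.f114995 IH) (Lpr_gt (f124127 IH) (Lpr_ct (f124121 IH) (Lpn (LP (LK LD1_c1 LD2_c48 LD3_c14))))))))))))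
theorem f129234 : Led Lsl_af (LP (LK LD1_c1 LD2_c48 LD3_c2)) = (LP (LK LD1_c1 LD2_c35 LD3_c61)) :=
  Lgr Lrot0 (Lpr_at (f129232 IH) (Lpn (LP (LK LD1_c1 LD2_c35 LD3_c61))))
theorem f129263 : Led Lsl_gt (LP (LK LD1_c1 LD2_c8 LD3_c11)) = (LP (LK LD1_c1 LD2_c48 LD3_c2)) :=
  Lgr Lrot46 (Lpr_gf (f124129 IH) (Lpr_ft (f129253 IH) (Lpe (f129234 IH) (Lpn (LP (LK LD1_c1 LD2_c48 LD3_c2))))))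
theorem f58842 : Led Lsl_ct (LP (LK LD1_c0 LD2_c31 LD3_c14)) = (LP (LK LD1_c1 LD2_c8 LD3_c11)) :=
  Lre_c IH (LK LD1_c0 LD2_c31 LD3_c14) (LK LD1_c1 LD2_c8 LD3_c11) Lrfl Lrfl
theorem f129269 : Led Lsl_gf (LP (LK LD1_c0 LD2_c31 LD3_c14)) = (LP (LK LD1_c0 LD2_c51 LD3_c4)) :=
  Lgr Lrot147 (Lpr_ct (f58842 IH) (Lpr_gt (f129263 IH) (Lpr_ct (f26244 IH) (Lpe (K4.f26246 IH) (Lpe (K3.f12840 IH) (Lpe (K3.f12839 IH) (Lpe (K3.f13439 IH) (Lpe (K4.f26221 IH) (Lpe (K4.f5810 IH) (Lpn (LP (LK LD1_c0 LD2_c51 LD3_c4))))))))))))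
theorem f84289 : Led Lsl_dt (LP (LK LD1_c0 LD2_c45 LD3_c3)) = (LP (LK LD1_c0 LD2_c19 LD3_c59)) :=
  Lre_d IH (LK LD1_c0 LD2_c45 LD3_c3) (LK LD1_c0 LD2_c19 LD3_c59) Lrfl Lrfl
theorem f23278 : Led Lsl_et (LP (LK LD1_c0 LD2_c13 LD3_c52)) = (LP (LK LD1_c0 LD2_c31 LD3_c15)) :=
  Lre_e IH (LK LD1_c0 LD2_c13 LD3_c52) (LK LD1_c0 LD2_c31 LD3_c15) Lrfl Lrfl
theorem f23261 : Led Lsl_dt (LP (LK LD1_c0 LD2_c31 LD3_c15)) = (LP (LK LD1_c1 LD2_c8 LD3_c15)) :=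
  Lre_d IH (LK LD1_c0 LD2_c31 LD3_c15) (LK LD1_c1 LD2_c8 LD3_c15) Lrfl Lrfl
theorem f84335 : Led Lsl_ef (LP (LK LD1_c0 LD2_c45 LD3_c3)) = (LP (LK LD1_c1 LD2_c8 LD3_c15)) :=
  Lgr Lrot73 (Lpr_dt (f84289 IH) (Lpr_et (K3.f84326 IH) (Lpr_dt (K1.f23269 IH) (Lpr_et (f23278 IH) (Lpr_dt (f23261 IH) (Lpn (LP (LK LD1_c1 LD2_c8 LD3_c15))))))))
theorem f84097 : Led Lsl_bt (LP (LK LD1_c0 LD2_c45 LD3_c3)) = (LP (LK LD1_c1 LD2_c37 LD3_c23)) :=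
  Lre_b IH (LK LD1_c0 LD2_c45 LD3_c3) (LK LD1_c1 LD2_c37 LD3_c23) Lrfl Lrfl
theorem f84338 : Led Lsl_bt (LP (LK LD1_c2 LD2_c22 LD3_c6)) = (LP (LK LD1_c1 LD2_c8 LD3_c15)) :=
  Lre_b IH (LK LD1_c2 LD2_c22 LD3_c6) (LK LD1_c1 LD2_c8 LD3_c15) Lrfl Lrfl
theorem f84339 : Led Lsl_et (LP (LK LD1_c1 LD2_c37 LD3_c23)) = (LP (LK LD1_c2 LD2_c22 LD3_c6)) :=
  Lgr Lrot74 (Lpe (f84097 IH) (Lpr_ef (f84335 IH) (Lpe (f84338 IH) (Lpn (LP (LK LD1_c2 LD2_c22 LD3_c6))))))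
theorem f84580 : Led Lsl_dt (LP (LK LD1_c0 LD2_c45 LD3_c2)) = (LP (LK LD1_c1 LD2_c37 LD3_c23)) :=
  Lre_d IH (LK LD1_c0 LD2_c45 LD3_c2) (LK LD1_c1 LD2_c37 LD3_c23) Lrfl Lrfl
theorem f84486 : Led Lsl_dt (LP (LK LD1_c2 LD2_c22 LD3_c6)) = (LP (LK LD1_c1 LD2_c8 LD3_c12)) :=
  Lre_d IH (LK LD1_c2 LD2_c22 LD3_c6) (LK LD1_c1 LD2_c8 LD3_c12) Lrfl Lrfl
theorem f84581 : Led Lsl_et (LP (LK LD1_c1 LD2_c8 LD3_c12)) = (LP (LK LD1_c0 LD2_c31 LD3_c14)) :=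
  Lre_e IH (LK LD1_c1 LD2_c8 LD3_c12) (LK LD1_c0 LD2_c31 LD3_c14) Lrfl Lrfl
theorem f84582 : Led Lsl_df (LP (LK LD1_c0 LD2_c20 LD3_c10)) = (LP (LK LD1_c0 LD2_c31 LD3_c14)) :=
  Lgr Lrot70 (Lpe (K3.f84333 IH) (Lpr_dt (f84580 IH) (Lpr_et (f84339 IH) (Lpr_dt (f84486 IH) (Lpr_et (f84581 IH) (Lpn (LP (LK LD1_c0 LD2_c31 LD3_c14))))))))
theorem f124230 : Led Lsl_gf (LP (LK LD1_c0 LD2_c51 LD3_c2)) = (LP (LK LD1_c0 LD2_c31 LD3_c14)) :=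
  Lgr Lrot147 (Lpr_ct (K4.f13598 IH) (Lpr_gt (K4.f124222 IH) (Lpr_ct (f12573 IH) (Lpe (K4.f115063 IH) (Lpe (K4.f84740 IH) (Lpr_gf (K3.f109357 IH) (Lpe (K3.f109380 IH) (Lpe (K3.f9670 IH) (Lpr_df (f84582 IH) (Lpn (LP (LK LD1_c0 LD2_c31 LD3_c14))))))))))))
theorem f121310 : Led Lsl_ft (LP (LK LD1_c0 LD2_c51 LD3_c4)) = (LP (LK LD1_c0 LD2_c43 LD3_c20)) :=
  Lgr Lrot54 (Lpe (K3.f86742 IH) (Lpr_ff (K4.f121306 IH) (Lpe (K4.f23695 IH) (Lpn (LP (LK LD1_c0 LD2_c43 LD3_c20))))))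
theorem f129274 : Led Lsl_af (LP (LK LD1_c0 LD2_c51 LD3_c2)) = (LP (LK LD1_c0 LD2_c43 LD3_c20)) :=
  Lgr Lrot31 (Lpr_gf (f124230 IH) (Lpr_gf (f129269 IH) (Lpr_ft (f121310 IH) (Lpn (LP (LK LD1_c0 LD2_c43 LD3_c20))))))
theorem f121275 : Led Lsl_et (LP (LK LD1_c0 LD2_c51 LD3_c2)) = (LP (LK LD1_c1 LD2_c48 LD3_c33)) :=
  Lre_e IH (LK LD1_c0 LD2_c51 LD3_c2) (LK LD1_c1 LD2_c48 LD3_c33) Lrfl Lrfl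
theorem f66571 : Led Lsl_et (LP (LK LD1_c1 LD2_c33 LD3_c27)) = (LP (LK LD1_c0 LD2_c43 LD3_c20)) :=
  Lre_e IH (LK LD1_c1 LD2_c33 LD3_c27) (LK LD1_c0 LD2_c43 LD3_c20) Lrfl Lrfl
theorem f129278 : Led Lsl_at (LP (LK LD1_c1 LD2_c48 LD3_c33)) = (LP (LK LD1_c1 LD2_c33 LD3_c27)) :=
  Lgr Lrot80 (Lpe (f121275 IH) (Lpr_af (f129274 IH) (Lpe (f66571 IH) (Lpn (LP (LK LD1_c1 LD2_c33 LD3_c27))))))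
theorem f129284 : Led Lsl_ct (LP (LK LD1_c3 LD2_c43 LD3_c0)) = (LP (LK LD1_c1 LD2_c48 LD3_c33)) :=
  Lre_c IH (LK LD1_c3 LD2_c43 LD3_c0) (LK LD1_c1 LD2_c48 LD3_c33) Lrfl Lrfl
theorem f129285 : Led Lsl_ct (LP (LK LD1_c1 LD2_c33 LD3_c27)) = (LP (LK LD1_c3 LD2_c13 LD3_c47)) :=
  Lre_c IH (LK LD1_c1 LD2_c33 LD3_c27) (LK LD1_c3 LD2_c13 LD3_c47) Lrfl Lrfl
theorem f129286 : Led Lsl_af (LP (LK LD1_c3 LD2_c43 LD3_c0)) = (LP (LK LD1_c3 LD2_c13 LD3_c47)) :=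
  Lgr Lrot68 (Lpr_ct (f129284 IH) (Lpr_at (f129278 IH) (Lpr_ct (f129285 IH) (Lpn (LP (LK LD1_c3 LD2_c13 LD3_c47))))))
theorem f129289 : Led Lsl_at (LP (LK LD1_c3 LD2_c43 LD3_c0)) = (LP (LK LD1_c3 LD2_c13 LD3_c47)) :=
  Lgr Lrot100 (Lpr_af (f129286 IH) (Lpn (LP (LK LD1_c3 LD2_c13 LD3_c47))))
theorem f129294 : Led Lsl_et (LP (LK LD1_c1 LD2_c48 LD3_c32)) = (LP (LK LD1_c3 LD2_c43 LD3_c0)) :=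
  Lre_e IH (LK LD1_c1 LD2_c48 LD3_c32) (LK LD1_c3 LD2_c43 LD3_c0) Lrfl Lrfl
theorem f124118 : Led Lsl_et (LP (LK LD1_c3 LD2_c13 LD3_c47)) = (LP (LK LD1_c1 LD2_c33 LD3_c26)) :=
  Lre_e IH (LK LD1_c3 LD2_c13 LD3_c47) (LK LD1_c1 LD2_c33 LD3_c26) Lrfl Lrfl
theorem f129295 : Led Lsl_af (LP (LK LD1_c1 LD2_c48 LD3_c32)) = (LP (LK LD1_c1 LD2_c33 LD3_c26)) :=
  Lgr Lrot50 (Lpr_et (f129294 IH) (Lpr_at (f129289 IH) (Lpr_et (f124118 IH) (Lpn (LP (LK LD1_c1 LD2_c33 LD3_c26))))))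
theorem f129300 : Led Lsl_ft (LP (LK LD1_c1 LD2_c48 LD3_c36)) = (LP (LK LD1_c1 LD2_c33 LD3_c26)) :=
  Lgr Lrot101 (Lpe (K4.f107060 IH) (Lpe (K4.f121271 IH) (Lpr_af (f129295 IH) (Lpn (LP (LK LD1_c1 LD2_c33 LD3_c26))))))
theorem f129306 : Led Lsl_ff (LP (LK LD1_c1 LD2_c48 LD3_c36)) = (LP (LK LD1_c1 LD2_c33 LD3_c26)) :=
  Lgr Lrot3 (Lpr_ft (f129300 IH) (Lpn (LP (LK LD1_c1 LD2_c33 LD3_c26))))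
theorem f107571 : Led Lsl_dt (LP (LK LD1_c1 LD2_c48 LD3_c36)) = (LP (LK LD1_c3 LD2_c43 LD3_c4)) :=
  Lre_d IH (LK LD1_c1 LD2_c48 LD3_c36) (LK LD1_c3 LD2_c43 LD3_c4) Lrfl Lrfl
theorem f23699 : Led Lsl_dt (LP (LK LD1_c3 LD2_c13 LD3_c46)) = (LP (LK LD1_c1 LD2_c33 LD3_c26)) :=
  Lre_d IH (LK LD1_c3 LD2_c13 LD3_c46) (LK LD1_c1 LD2_c33 LD3_c26) Lrfl Lrfl
theorem f129312 : Led Lsl_ft (LP (LK LD1_c3 LD2_c43 LD3_c4)) = (LP (LK LD1_c3 LD2_c13 LD3_c46)) :=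
  Lgr Lrot54 (Lpe (f107571 IH) (Lpr_ff (f129306 IH) (Lpe (f23699 IH) (Lpn (LP (LK LD1_c3 LD2_c13 LD3_c46))))))
theorem f129314 : Led Lsl_ff (LP (LK LD1_c1 LD2_c49 LD3_c6)) = (LP (LK LD1_c1 LD2_c47 LD3_c38)) :=
  Lgr Lrot23 (Lpr_ct (K4.f121247 IH) (Lpr_ft (f129312 IH) (Lpe (K4.f124048 IH) (Lpn (LP (LK LD1_c1 LD2_c47 LD3_c38))))))
theorem f121127 : Led Lsl_bt (LP (LK LD1_c1 LD2_c49 LD3_c6)) = (LP (LK LD1_c3 LD2_c44 LD3_c6)) :=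
  Lre_b IH (LK LD1_c1 LD2_c49 LD3_c6) (LK LD1_c3 LD2_c44 LD3_c6) Lrfl Lrfl
theorem f13391 : Led Lsl_bt (LP (LK LD1_c3 LD2_c41 LD3_c25)) = (LP (LK LD1_c1 LD2_c47 LD3_c38)) :=
  Lre_b IH (LK LD1_c3 LD2_c41 LD3_c25) (LK LD1_c1 LD2_c47 LD3_c38) Lrfl Lrfl
theorem f129316 : Led Lsl_ft (LP (LK LD1_c3 LD2_c44 LD3_c6)) = (LP (LK LD1_c3 LD2_c41 LD3_c25)) :=
  Lgr Lrot75 (Lpe (f121127 IH) (Lpr_ff (f129314 IH) (Lpe (f13391 IH) (Lpn (LP (LK LD1_c3 LD2_c41 LD3_c25))))))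
theorem f129326 : Led Lsl_ff (LP (LK LD1_c3 LD2_c44 LD3_c6)) = (LP (LK LD1_c3 LD2_c41 LD3_c25)) :=
  Lgr Lrot3 (Lpr_ft (f129316 IH) (Lpn (LP (LK LD1_c3 LD2_c41 LD3_c25))))
theorem f121025 : Led Lsl_et (LP (LK LD1_c3 LD2_c44 LD3_c7)) = (LP (LK LD1_c1 LD2_c49 LD3_c6)) :=
  Lre_e IH (LK LD1_c3 LD2_c44 LD3_c7) (LK LD1_c1 LD2_c49 LD3_c6) Lrfl Lrfl
theorem f121026 : Led Lsl_dt (LP (LK LD1_c7 LD2_c29 LD3_c7)) = (LP (LK LD1_c3 LD2_c44 LD3_c7)) :=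
  Lre_d IH (LK LD1_c7 LD2_c29 LD3_c7) (LK LD1_c3 LD2_c44 LD3_c7) Lrfl Lrfl
theorem f121027 : Led Lsl_et (LP (LK LD1_c0 LD2_c53 LD3_c38)) = (LP (LK LD1_c1 LD2_c54 LD3_c6)) :=
  Lre_e IH (LK LD1_c0 LD2_c53 LD3_c38) (LK LD1_c1 LD2_c54 LD3_c6) Lrfl Lrfl
theorem f121028 : Led Lsl_dt (LP (LK LD1_c1 LD2_c54 LD3_c6)) = (LP (LK LD1_c3 LD2_c55 LD3_c0)) :=
  Lre_d IH (LK LD1_c1 LD2_c54 LD3_c6) (LK LD1_c3 LD2_c55 LD3_c0) Lrfl Lrfl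
theorem f121029 : Led Lsl_ef (LP (LK LD1_c7 LD2_c29 LD3_c7)) = (LP (LK LD1_c3 LD2_c55 LD3_c0)) :=
  Lgr Lrot73 (Lpr_dt (f121026 IH) (Lpr_et (f121025 IH) (Lpr_dt (K4.f121015 IH) (Lpr_et (f121027 IH) (Lpr_dt (f121028 IH) (Lpn (LP (LK LD1_c3 LD2_c55 LD3_c0))))))))
theorem f121065 : Led Lsl_et (LP (LK LD1_c7 LD2_c29 LD3_c7)) = (LP (LK LD1_c3 LD2_c55 LD3_c0)) :=
  Lgr Lrot87 (Lpr_ef (f121029 IH) (Lpn (LP (LK LD1_c3 LD2_c55 LD3_c0))))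
theorem f121071 : Led Lsl_bt (LP (LK LD1_c14 LD2_c7 LD3_c45)) = (LP (LK LD1_c7 LD2_c29 LD3_c7)) :=
  Lre_b IH (LK LD1_c14 LD2_c7 LD3_c45) (LK LD1_c7 LD2_c29 LD3_c7) Lrfl Lrfl
theorem f121072 : Led Lsl_bt (LP (LK LD1_c3 LD2_c55 LD3_c0)) = (LP (LK LD1_c7 LD2_c51 LD3_c40)) :=
  Lre_b IH (LK LD1_c3 LD2_c55 LD3_c0) (LK LD1_c7 LD2_c51 LD3_c40) Lrfl Lrfl
theorem f121073 : Led Lsl_ef (LP (LK LD1_c14 LD2_c7 LD3_c45)) = (LP (LK LD1_c7 LD2_c51 LD3_c40)) :=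
  Lgr Lrot29 (Lpr_bt (f121071 IH) (Lpr_et (f121065 IH) (Lpr_bt (f121072 IH) (Lpn (LP (LK LD1_c7 LD2_c51 LD3_c40))))))
theorem f121109 : Led Lsl_dt (LP (LK LD1_c14 LD2_c7 LD3_c45)) = (LP (LK LD1_c7 LD2_c29 LD3_c4)) :=
  Lre_d IH (LK LD1_c14 LD2_c7 LD3_c45) (LK LD1_c7 LD2_c29 LD3_c4) Lrfl Lrfl
theorem f121110 : Led Lsl_et (LP (LK LD1_c7 LD2_c29 LD3_c4)) = (LP (LK LD1_c3 LD2_c44 LD3_c6)) :=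
  Lre_e IH (LK LD1_c7 LD2_c29 LD3_c4) (LK LD1_c3 LD2_c44 LD3_c6) Lrfl Lrfl
theorem f121111 : Led Lsl_dt (LP (LK LD1_c3 LD2_c54 LD3_c61)) = (LP (LK LD1_c7 LD2_c51 LD3_c40)) :=
  Lre_d IH (LK LD1_c3 LD2_c54 LD3_c61) (LK LD1_c7 LD2_c51 LD3_c40) Lrfl Lrfl
theorem f121112 : Led Lsl_et (LP (LK LD1_c1 LD2_c54 LD3_c5)) = (LP (LK LD1_c3 LD2_c54 LD3_c61)) :=
  Lre_e IH (LK LD1_c1 LD2_c54 LD3_c5) (LK LD1_c3 LD2_c54 LD3_c61) Lrfl Lrfl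
theorem f121113 : Led Lsl_dt (LP (LK LD1_c3 LD2_c44 LD3_c6)) = (LP (LK LD1_c1 LD2_c54 LD3_c5)) :=
  Lgr Lrot77 (Lpe (f121110 IH) (Lpe (f121109 IH) (Lpr_ef (f121073 IH) (Lpe (f121111 IH) (Lpe (f121112 IH) (Lpn (LP (LK LD1_c1 LD2_c54 LD3_c5))))))))
theorem f124038 : Led Lsl_df (LP (LK LD1_c3 LD2_c41 LD3_c25)) = (LP (LK LD1_c1 LD2_c53 LD3_c40)) :=
  Lgr Lrot12 (Lpr_bt (f13391 IH) (Lpr_dt (K4.f124035 IH) (Lpr_bt (K4.f95853 IH) (Lpn (LP (LK LD1_c1 LD2_c53 LD3_c40))))))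
theorem f129334 : Led Lsl_ft (LP (LK LD1_c1 LD2_c54 LD3_c5)) = (LP (LK LD1_c1 LD2_c53 LD3_c40)) :=
  Lgr Lrot54 (Lpe (f121113 IH) (Lpr_ff (f129326 IH) (Lpr_df (f124038 IH) (Lpn (LP (LK LD1_c1 LD2_c53 LD3_c40))))))
theorem f121147 : Led Lsl_at (LP (LK LD1_c3 LD2_c54 LD3_c60)) = (LP (LK LD1_c1 LD2_c54 LD3_c5)) :=
  Lre_a IH (LK LD1_c3 LD2_c54 LD3_c60) (LK LD1_c1 LD2_c54 LD3_c5) Lrfl Lrfl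
theorem f126471 : Led Lsl_at (LP (LK LD1_c1 LD2_c53 LD3_c40)) = (LP (LK LD1_c3 LD2_c54 LD3_c4)) :=
  Lre_a IH (LK LD1_c1 LD2_c53 LD3_c40) (LK LD1_c3 LD2_c54 LD3_c4) Lrfl Lrfl
theorem f129338 : Led Lsl_ff (LP (LK LD1_c3 LD2_c54 LD3_c60)) = (LP (LK LD1_c3 LD2_c54 LD3_c4)) :=
  Lgr Lrot30 (Lpr_at (f121147 IH) (Lpr_ft (f129334 IH) (Lpr_at (f126471 IH) (Lpn (LP (LK LD1_c3 LD2_c54 LD3_c4))))))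
theorem f121018 : Led Lsl_gt (LP (LK LD1_c3 LD2_c54 LD3_c59)) = (LP (LK LD1_c1 LD2_c54 LD3_c5)) :=
  Lre_g IH (LK LD1_c3 LD2_c54 LD3_c59) (LK LD1_c1 LD2_c54 LD3_c5) Lrfl Lrfl
theorem f129557 : Led Lsl_gf (LP (LK LD1_c3 LD2_c54 LD3_c59)) = (LP (LK LD1_c3 LD2_c54 LD3_c4)) :=
  Lgr Lrot47 (Lpr_gt (f121018 IH) (Lpe (f121147 IH) (Lpr_ff (f129338 IH) (Lpn (LP (LK LD1_c3 LD2_c54 LD3_c4))))))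
theorem f129341 : Led Lsl_ff (LP (LK LD1_c1 LD2_c54 LD3_c5)) = (LP (LK LD1_c1 LD2_c53 LD3_c40)) :=
  Lgr Lrot3 (Lpr_ft (f129334 IH) (Lpn (LP (LK LD1_c1 LD2_c53 LD3_c40))))
theorem f121124 : Led Lsl_at (LP (LK LD1_c1 LD2_c54 LD3_c5)) = (LP (LK LD1_c3 LD2_c54 LD3_c60)) :=
  Lre_a IH (LK LD1_c1 LD2_c54 LD3_c5) (LK LD1_c3 LD2_c54 LD3_c60) Lrfl Lrfl
theorem f126473 : Led Lsl_at (LP (LK LD1_c3 LD2_c54 LD3_c4)) = (LP (LK LD1_c1 LD2_c53 LD3_c40)) :=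
  Lre_a IH (LK LD1_c3 LD2_c54 LD3_c4) (LK LD1_c1 LD2_c53 LD3_c40) Lrfl Lrfl
theorem f129346 : Led Lsl_ft (LP (LK LD1_c3 LD2_c54 LD3_c60)) = (LP (LK LD1_c3 LD2_c54 LD3_c4)) :=
  Lgr Lrot101 (Lpe (f121124 IH) (Lpr_ff (f129341 IH) (Lpe (f126473 IH) (Lpn (LP (LK LD1_c3 LD2_c54 LD3_c4))))))
theorem f129368 : Led Lsl_gt (LP (LK LD1_c3 LD2_c54 LD3_c60)) = (LP (LK LD1_c3 LD2_c54 LD3_c3)) :=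
  Lgr Lrot5 (Lpr_ft (f129346 IH) (Lpr_at (f126473 IH) (Lpe (f95898 IH) (Lpn (LP (LK LD1_c3 LD2_c54 LD3_c3))))))
theorem f16761 : Led Lsl_gt (LP (LK LD1_c1 LD2_c50 LD3_c51)) = (LP (LK LD1_c1 LD2_c39 LD3_c47)) :=
  Lgr Lrot46 (Lpe (f16760 IH) (Lpr_ft (K0.f14722 IH) (Lpr_at (K0.f15620 IH) (Lpn (LP (LK LD1_c1 LD2_c39 LD3_c47))))))
theorem f129370 : Led Lsl_cf (LP (LK LD1_c3 LD2_c54 LD3_c60)) = (LP (LK LD1_c3 LD2_c48 LD3_c27)) :=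
  Lgr Lrot125 (Lpr_gt (f129368 IH) (Lpe (f126477 IH) (Lpr_bt (f16767 IH) (Lpr_gt (f16761 IH) (Lpe (K3.f14642 IH) (Lpr_ct (K0.f14632 IH) (Lpe (f97576 IH) (Lpe (K4.f65965 IH) (Lpr_bt (K4.f65966 IH) (Lpe (f127868 IH) (Lpn (LP (LK LD1_c3 LD2_c48 LD3_c27)))))))))))))
theorem f129376 : Led Lsl_ct (LP (LK LD1_c3 LD2_c54 LD3_c4)) = (LP (LK LD1_c3 LD2_c26 LD3_c47)) :=
  Lgr Lrot40 (Lpe (f129346 IH) (Lpr_cf (f129370 IH) (Lpe (f127917 IH) (Lpn (LP (LK LD1_c3 LD2_c26 LD3_c47))))))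
theorem f129378 : Led Lsl_cf (LP (LK LD1_c3 LD2_c54 LD3_c4)) = (LP (LK LD1_c3 LD2_c26 LD3_c47)) :=
  Lgr Lrot11 (Lpr_ct (f129376 IH) (Lpn (LP (LK LD1_c3 LD2_c26 LD3_c47))))
theorem f127910 : Led Lsl_bt (LP (LK LD1_c3 LD2_c26 LD3_c47)) = (LP (LK LD1_c3 LD2_c48 LD3_c22)) :=
  Lgr Lrot127 (Lpr_bf (f127904 IH) (Lpn (LP (LK LD1_c3 LD2_c48 LD3_c22))))
theorem f16065 : Led Lsl_ft (LP (LK LD1_c1 LD2_c50 LD3_c53)) = (LP (LK LD1_c1 LD2_c39 LD3_c47)) :=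
  Lgr Lrot4 (Lpr_cf (K0.f14754 IH) (Lpr_ff (K3.f15058 IH) (Lpr_cf (K0.f15914 IH) (Lpn (LP (LK LD1_c1 LD2_c39 LD3_c47))))))
theorem f16057 : Led Lsl_at (LP (LK LD1_c1 LD2_c39 LD3_c47)) = (LP (LK LD1_c1 LD2_c49 LD3_c20)) :=
  Lgr Lrot107 (Lpr_cf (K0.f15914 IH) (Lpe (K0.f15620 IH) (Lpr_cf (K0.f14664 IH) (Lpn (LP (LK LD1_c1 LD2_c49 LD3_c20))))))
theorem f14737 : Led Lsl_gt (LP (LK LD1_c3 LD2_c44 LD3_c35)) = (LP (LK LD1_c1 LD2_c49 LD3_c20)) :=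
  Lre_g IH (LK LD1_c3 LD2_c44 LD3_c35) (LK LD1_c1 LD2_c49 LD3_c20) Lrfl Lrfl
theorem f16685 : Led Lsl_gt (LP (LK LD1_c1 LD2_c50 LD3_c53)) = (LP (LK LD1_c3 LD2_c44 LD3_c35)) :=
  Lgr Lrot5 (Lpr_ft (f16065 IH) (Lpr_at (f16057 IH) (Lpe (f14737 IH) (Lpn (LP (LK LD1_c3 LD2_c44 LD3_c35))))))
theorem f14738 : Led Lsl_ct (LP (LK LD1_c7 LD2_c30 LD3_c15)) = (LP (LK LD1_c3 LD2_c44 LD3_c35)) :=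
  Lre_c IH (LK LD1_c7 LD2_c30 LD3_c15) (LK LD1_c3 LD2_c44 LD3_c35) Lrfl Lrfl
theorem f89721 : Led Lsl_gt (LP (LK LD1_c3 LD2_c33 LD3_c17)) = (LP (LK LD1_c7 LD2_c7 LD3_c28)) :=
  Lre_g IH (LK LD1_c3 LD2_c33 LD3_c17) (LK LD1_c7 LD2_c7 LD3_c28) Lrfl Lrfl
theorem f89729 : Led Lsl_bf (LP (LK LD1_c7 LD2_c7 LD3_c28)) = (LP (LK LD1_c7 LD2_c30 LD3_c15)) :=
  Lgr Lrot34 (Lpe (f89721 IH) (Lpe (f89727 IH) (Lpr_ct (K3.f12037 IH) (Lpr_gf (K3.f89682 IH) (Lpe (K1.f12199 IH) (Lpe (K0.f12209 IH) (Lpe (K0.f14662 IH) (Lpe (K0.f14664 IH) (Lpe (f14737 IH) (Lpe (f14738 IH) (Lpn (LP (LK LD1_c7 LD2_c30 LD3_c15)))))))))))))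
theorem f127906 : Led Lsl_gt (LP (LK LD1_c7 LD2_c7 LD3_c28)) = (LP (LK LD1_c3 LD2_c48 LD3_c22)) :=
  Lgr Lrot82 (Lpr_bf (f89729 IH) (Lpr_ct (f14738 IH) (Lpe (f16685 IH) (Lpr_cf (K0.f14754 IH) (Lpr_bt (K0.f14764 IH) (Lpr_gf (K2.f91295 IH) (Lpe (K3.f89686 IH) (Lpr_ct (K3.f89687 IH) (Lpr_gf (f127902 IH) (Lpr_cf (f17407 IH) (Lpn (LP (LK LD1_c3 LD2_c48 LD3_c22)))))))))))))
theorem f14771 : Led Lsl_gt (LP (LK LD1_c3 LD2_c44 LD3_c34)) = (LP (LK LD1_c1 LD2_c50 LD3_c53)) :=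
  Lre_g IH (LK LD1_c3 LD2_c44 LD3_c34) (LK LD1_c1 LD2_c50 LD3_c53) Lrfl Lrfl
theorem f14774 : Led Lsl_bt (LP (LK LD1_c7 LD2_c30 LD3_c11)) = (LP (LK LD1_c3 LD2_c44 LD3_c34)) :=
  Lre_b IH (LK LD1_c7 LD2_c30 LD3_c11) (LK LD1_c3 LD2_c44 LD3_c34) Lrfl Lrfl
theorem f129559 : Led Lsl_cf (LP (LK LD1_c3 LD2_c54 LD3_c59)) = (LP (LK LD1_c7 LD2_c30 LD3_c11)) :=
  Lgr Lrot58 (Lpr_gf (f129557 IH) (Lpr_cf (f129378 IH) (Lpr_bt (f127910 IH) (Lpe (f127906 IH) (Lpr_bf (f89729 IH) (Lpr_ct (f14738 IH) (Lpe (f16685 IH) (Lpr_cf (K0.f14754 IH) (Lpe (f14771 IH) (Lpe (f14774 IH) (Lpn (LP (LK LD1_c7 LD2_c30 LD3_c11)))))))))))))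
theorem f123449 : Led Lsl_bt (LP (LK LD1_c3 LD2_c54 LD3_c59)) = (LP (LK LD1_c7 LD2_c51 LD3_c35)) :=
  Lre_b IH (LK LD1_c3 LD2_c54 LD3_c59) (LK LD1_c7 LD2_c51 LD3_c35) Lrfl Lrfl
theorem f120975 : Led Lsl_gt (LP (LK LD1_c3 LD2_c42 LD3_c9)) = (LP (LK LD1_c7 LD2_c24 LD3_c61)) :=
  Lre_g IH (LK LD1_c3 LD2_c42 LD3_c9) (LK LD1_c7 LD2_c24 LD3_c61) Lrfl Lrfl
theorem f65962 : Led Lsl_bt (LP (LK LD1_c0 LD2_c23 LD3_c49)) = (LP (LK LD1_c0 LD2_c52 LD3_c45)) :=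
  Lre_b IH (LK LD1_c0 LD2_c23 LD3_c49) (LK LD1_c0 LD2_c52 LD3_c45) Lrfl Lrfl
theorem f65963 : Led Lsl_gt (LP (LK LD1_c1 LD2_c51 LD3_c58)) = (LP (LK LD1_c0 LD2_c52 LD3_c45)) :=
  Lre_g IH (LK LD1_c1 LD2_c51 LD3_c58) (LK LD1_c0 LD2_c52 LD3_c45) Lrfl Lrfl
theorem f65964 : Led Lsl_bt (LP (LK LD1_c3 LD2_c49 LD3_c58)) = (LP (LK LD1_c1 LD2_c51 LD3_c58)) :=
  Lre_b IH (LK LD1_c3 LD2_c49 LD3_c58) (LK LD1_c1 LD2_c51 LD3_c58) Lrfl Lrfl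
theorem f122705 : Led Lsl_cf (LP (LK LD1_c7 LD2_c24 LD3_c61)) = (LP (LK LD1_c3 LD2_c49 LD3_c58)) :=
  Lgr Lrot163 (Lpe (f120975 IH) (Lpr_cf (f122696 IH) (Lpr_gf (K4.f96138 IH) (Lpe (K4.f96137 IH) (Lpe (K3.f96122 IH) (Lpr_gf (K3.f65960 IH) (Lpe (K2.f64262 IH) (Lpr_bt (f65962 IH) (Lpe (f65963 IH) (Lpe (f65964 IH) (Lpn (LP (LK LD1_c3 LD2_c49 LD3_c58)))))))))))))
theorem f14745 : Led Lsl_ct (LP (LK LD1_c0 LD2_c52 LD3_c45)) = (LP (LK LD1_c1 LD2_c51 LD3_c60)) :=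
  Lre_c IH (LK LD1_c0 LD2_c52 LD3_c45) (LK LD1_c1 LD2_c51 LD3_c60) Lrfl Lrfl
theorem f95906 : Led Lsl_ct (LP (LK LD1_c0 LD2_c50 LD3_c22)) = (LP (LK LD1_c1 LD2_c47 LD3_c9)) :=
  Lre_c IH (LK LD1_c0 LD2_c50 LD3_c22) (LK LD1_c1 LD2_c47 LD3_c9) Lrfl Lrfl
theorem f94613 : Led Lsl_dt (LP (LK LD1_c3 LD2_c25 LD3_c37)) = (LP (LK LD1_c1 LD2_c39 LD3_c27)) :=
  Lre_d IH (LK LD1_c3 LD2_c25 LD3_c37) (LK LD1_c1 LD2_c39 LD3_c27) Lrfl Lrfl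
theorem f97723 : Led Lsl_gt (LP (LK LD1_c1 LD2_c54 LD3_c31)) = (LP (LK LD1_c3 LD2_c25 LD3_c37)) :=
  Lgr Lrot94 (Lpe (f90288 IH) (Lpr_gt (f97719 IH) (Lpe (K2.f66868 IH) (Lpr_gt (K2.f94775 IH) (Lpe (K2.f94741 IH) (Lpr_cf (K3.f94921 IH) (Lpe (K3.f94222 IH) (Lpe (K2.f94532 IH) (Lpe (f94613 IH) (Lpn (LP (LK LD1_c3 LD2_c25 LD3_c37))))))))))))
theorem f107297 : Led Lsl_gt (LP (LK LD1_c1 LD2_c47 LD3_c9)) = (LP (LK LD1_c0 LD2_c53 LD3_c54)) :=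
  Lgr Lrot94 (Lpe (f95906 IH) (Lpr_gt (K3.f107278 IH) (Lpr_dt (K2.f88646 IH) (Lpe (K2.f87557 IH) (Lpe (K2.f90600 IH) (Lpe (K3.f94570 IH) (Lpe (f94613 IH) (Lpe (f97723 IH) (Lpe (f90256 IH) (Lpn (LP (LK LD1_c0 LD2_c53 LD3_c54))))))))))))
theorem f95915 : Led Lsl_bt (LP (LK LD1_c3 LD2_c40 LD3_c24)) = (LP (LK LD1_c1 LD2_c47 LD3_c9)) :=
  Lre_b IH (LK LD1_c3 LD2_c40 LD3_c24) (LK LD1_c1 LD2_c47 LD3_c9) Lrfl Lrfl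
theorem f95916 : Led Lsl_ct (LP (LK LD1_c3 LD2_c40 LD3_c24)) = (LP (LK LD1_c1 LD2_c47 LD3_c12)) :=
  Lre_c IH (LK LD1_c3 LD2_c40 LD3_c24) (LK LD1_c1 LD2_c47 LD3_c12) Lrfl Lrfl
theorem f122707 : Led Lsl_gt (LP (LK LD1_c1 LD2_c51 LD3_c60)) = (LP (LK LD1_c1 LD2_c47 LD3_c12)) :=
  Lgr Lrot149 (Lpe (f14745 IH) (Lpe (f65963 IH) (Lpe (f65964 IH) (Lpe (f122705 IH) (Lpe (f120975 IH) (Lpr_cf (f122696 IH) (Lpr_bt (K4.f120966 IH) (Lpe (f107297 IH) (Lpe (f95915 IH) (Lpr_ct (f95916 IH) (Lpn (LP (LK LD1_c1 LD2_c47 LD3_c12)))))))))))))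
theorem f14744 : Led Lsl_bt (LP (LK LD1_c0 LD2_c52 LD3_c45)) = (LP (LK LD1_c0 LD2_c23 LD3_c49)) :=
  Lre_b IH (LK LD1_c0 LD2_c52 LD3_c45) (LK LD1_c0 LD2_c23 LD3_c49) Lrfl Lrfl
theorem f84929 : Led Lsl_ct (LP (LK LD1_c1 LD2_c51 LD3_c60)) = (LP (LK LD1_c0 LD2_c52 LD3_c45)) :=
  Lre_c IH (LK LD1_c1 LD2_c51 LD3_c60) (LK LD1_c0 LD2_c52 LD3_c45) Lrfl Lrfl
theorem f96336 : Led Lsl_bt (LP (LK LD1_c1 LD2_c47 LD3_c0)) = (LP (LK LD1_c1 LD2_c51 LD3_c60)) :=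
  Lgr Lrot128 (Lpr_cf (K4.f96331 IH) (Lpr_bf (K2.f84922 IH) (Lpe (K2.f64262 IH) (Lpe (f14744 IH) (Lpe (f84929 IH) (Lpn (LP (LK LD1_c1 LD2_c51 LD3_c60))))))))
theorem f96338 : Led Lsl_ct (LP (LK LD1_c1 LD2_c47 LD3_c0)) = (LP (LK LD1_c1 LD2_c42 LD3_c40)) :=
  Lgr Lrot59 (Lpr_cf (K4.f96331 IH) (Lpn (LP (LK LD1_c1 LD2_c42 LD3_c40))))
theorem f121017 : Led Lsl_bt (LP (LK LD1_c0 LD2_c53 LD3_c38)) = (LP (LK LD1_c1 LD2_c54 LD3_c5)) :=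
  Lre_b IH (LK LD1_c0 LD2_c53 LD3_c38) (LK LD1_c1 LD2_c54 LD3_c5) Lrfl Lrfl
theorem f121019 : Led Lsl_bt (LP (LK LD1_c7 LD2_c51 LD3_c35)) = (LP (LK LD1_c3 LD2_c54 LD3_c59)) :=
  Lre_b IH (LK LD1_c7 LD2_c51 LD3_c35) (LK LD1_c3 LD2_c54 LD3_c59) Lrfl Lrfl
theorem f107312 : Led Lsl_ct (LP (LK LD1_c1 LD2_c47 LD3_c12)) = (LP (LK LD1_c3 LD2_c40 LD3_c24)) :=
  Lre_c IH (LK LD1_c1 LD2_c47 LD3_c12) (LK LD1_c3 LD2_c40 LD3_c24) Lrfl Lrfl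
theorem f107281 : Led Lsl_gt (LP (LK LD1_c3 LD2_c40 LD3_c24)) = (LP (LK LD1_c7 LD2_c20 LD3_c61)) :=
  Lre_g IH (LK LD1_c3 LD2_c40 LD3_c24) (LK LD1_c7 LD2_c20 LD3_c61) Lrfl Lrfl
theorem f122734 : Led Lsl_ct (LP (LK LD1_c7 LD2_c51 LD3_c35)) = (LP (LK LD1_c7 LD2_c20 LD3_c61)) :=
  Lgr Lrot63 (Lpr_bt (f121019 IH) (Lpr_gt (f121018 IH) (Lpe (f121017 IH) (Lpe (K4.f121000 IH) (Lpr_gt (K4.f121227 IH) (Lpe (f96338 IH) (Lpr_bt (f96336 IH) (Lpr_gt (f122707 IH) (Lpr_ct (f107312 IH) (Lpr_gt (f107281 IH) (Lpn (LP (LK LD1_c7 LD2_c20 LD3_c61)))))))))))))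
theorem f123450 : Led Lsl_cf (LP (LK LD1_c7 LD2_c51 LD3_c35)) = (LP (LK LD1_c7 LD2_c20 LD3_c61)) :=
  Lgr Lrot11 (Lpr_ct (f122734 IH) (Lpn (LP (LK LD1_c7 LD2_c20 LD3_c61))))
theorem f107280 : Led Lsl_bt (LP (LK LD1_c1 LD2_c47 LD3_c9)) = (LP (LK LD1_c3 LD2_c40 LD3_c24)) :=
  Lre_b IH (LK LD1_c1 LD2_c47 LD3_c9) (LK LD1_c3 LD2_c40 LD3_c24) Lrfl Lrfl
theorem f95904 : Led Lsl_ct (LP (LK LD1_c1 LD2_c47 LD3_c9)) = (LP (LK LD1_c0 LD2_c50 LD3_c22)) :=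
  Lre_c IH (LK LD1_c1 LD2_c47 LD3_c9) (LK LD1_c0 LD2_c50 LD3_c22) Lrfl Lrfl
theorem f116667 : Led Lsl_et (LP (LK LD1_c7 LD2_c35 LD3_c35)) = (LP (LK LD1_c3 LD2_c47 LD3_c22)) :=
  Lre_e IH (LK LD1_c7 LD2_c35 LD3_c35) (LK LD1_c3 LD2_c47 LD3_c22) Lrfl Lrfl
theorem f116668 : Led Lsl_dt (LP (LK LD1_c14 LD2_c18 LD3_c56)) = (LP (LK LD1_c7 LD2_c35 LD3_c35)) :=
  Lre_d IH (LK LD1_c14 LD2_c18 LD3_c56) (LK LD1_c7 LD2_c35 LD3_c35) Lrfl Lrfl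
theorem f62297 : Led Lsl_et (LP (LK LD1_c3 LD2_c17 LD3_c30)) = (LP (LK LD1_c6 LD2_c38 LD3_c22)) :=
  Lre_e IH (LK LD1_c3 LD2_c17 LD3_c30) (LK LD1_c6 LD2_c38 LD3_c22) Lrfl Lrfl
theorem f62275 : Led Lsl_dt (LP (LK LD1_c6 LD2_c38 LD3_c22)) = (LP (LK LD1_c12 LD2_c42 LD3_c24)) :=
  Lre_d IH (LK LD1_c6 LD2_c38 LD3_c22) (LK LD1_c12 LD2_c42 LD3_c24) Lrfl Lrfl
theorem f116669 : Led Lsl_ef (LP (LK LD1_c14 LD2_c18 LD3_c56)) = (LP (LK LD1_c12 LD2_c42 LD3_c24)) :=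
  Lgr Lrot73 (Lpr_dt (f116668 IH) (Lpr_et (f116667 IH) (Lpr_dt (K4.f116659 IH) (Lpr_et (f62297 IH) (Lpr_dt (f62275 IH) (Lpn (LP (LK LD1_c12 LD2_c42 LD3_c24))))))))
theorem f116677 : Led Lsl_et (LP (LK LD1_c14 LD2_c18 LD3_c56)) = (LP (LK LD1_c12 LD2_c42 LD3_c24)) :=
  Lgr Lrot87 (Lpr_ef (f116669 IH) (Lpn (LP (LK LD1_c12 LD2_c42 LD3_c24))))
theorem f62274 : Led Lsl_dt (LP (LK LD1_c13 LD2_c15 LD3_c14)) = (LP (LK LD1_c6 LD2_c59 LD3_c0)) :=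
  Lre_d IH (LK LD1_c13 LD2_c15 LD3_c14) (LK LD1_c6 LD2_c59 LD3_c0) Lrfl Lrfl
theorem f62276 : Led Lsl_bf (LP (LK LD1_c13 LD2_c15 LD3_c14)) = (LP (LK LD1_c12 LD2_c42 LD3_c24)) :=
  Lgr Lrot93 (Lpr_dt (f62274 IH) (Lpr_bt (K4.f62262 IH) (Lpr_dt (f62275 IH) (Lpn (LP (LK LD1_c12 LD2_c42 LD3_c24))))))
theorem f113313 : Led Lsl_et (LP (LK LD1_c3 LD2_c27 LD3_c10)) = (LP (LK LD1_c6 LD2_c56 LD3_c15)) :=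
  Lre_e IH (LK LD1_c3 LD2_c27 LD3_c10) (LK LD1_c6 LD2_c56 LD3_c15) Lrfl Lrfl
theorem f113012 : Led Lsl_dt (LP (LK LD1_c6 LD2_c56 LD3_c15)) = (LP (LK LD1_c13 LD2_c10 LD3_c30)) :=
  Lre_d IH (LK LD1_c6 LD2_c56 LD3_c15) (LK LD1_c13 LD2_c10 LD3_c30) Lrfl Lrfl
theorem f62296 : Led Lsl_et (LP (LK LD1_c6 LD2_c59 LD3_c0)) = (LP (LK LD1_c3 LD2_c28 LD3_c34)) :=
  Lre_e IH (LK LD1_c6 LD2_c59 LD3_c0) (LK LD1_c3 LD2_c28 LD3_c34) Lrfl Lrfl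
theorem f113314 : Led Lsl_et (LP (LK LD1_c13 LD2_c10 LD3_c30)) = (LP (LK LD1_c13 LD2_c15 LD3_c14)) :=
  Lgr Lrot71 (Lpe (f113012 IH) (Lpe (f113313 IH) (Lpr_df (K4.f113309 IH) (Lpe (f62296 IH) (Lpe (f62274 IH) (Lpn (LP (LK LD1_c13 LD2_c15 LD3_c14))))))))
theorem f113319 : Led Lsl_ef (LP (LK LD1_c13 LD2_c10 LD3_c30)) = (LP (LK LD1_c13 LD2_c15 LD3_c14)) :=
  Lgr Lrot88 (Lpr_et (f113314 IH) (Lpn (LP (LK LD1_c13 LD2_c15 LD3_c14))))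
theorem f116679 : Led Lsl_bf (LP (LK LD1_c14 LD2_c18 LD3_c56)) = (LP (LK LD1_c13 LD2_c10 LD3_c30)) :=
  Lgr Lrot96 (Lpr_et (f116677 IH) (Lpe (f62276 IH) (Lpe (f113319 IH) (Lpn (LP (LK LD1_c13 LD2_c10 LD3_c30))))))
theorem f116682 : Led Lsl_bt (LP (LK LD1_c7 LD2_c35 LD3_c35)) = (LP (LK LD1_c6 LD2_c56 LD3_c15)) :=
  Lgr Lrot95 (Lpe (f116668 IH) (Lpr_bf (f116679 IH) (Lpe (f113012 IH) (Lpn (LP (LK LD1_c6 LD2_c56 LD3_c15))))))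
theorem f116684 : Led Lsl_bf (LP (LK LD1_c7 LD2_c35 LD3_c35)) = (LP (LK LD1_c6 LD2_c56 LD3_c15)) :=
  Lgr Lrot24 (Lpr_bt (f116682 IH) (Lpn (LP (LK LD1_c6 LD2_c56 LD3_c15))))
theorem f116688 : Led Lsl_bt (LP (LK LD1_c3 LD2_c47 LD3_c22)) = (LP (LK LD1_c3 LD2_c27 LD3_c10)) :=
  Lgr Lrot119 (Lpe (f116667 IH) (Lpr_bf (f116684 IH) (Lpe (f113313 IH) (Lpn (LP (LK LD1_c3 LD2_c27 LD3_c10))))))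
theorem f123464 : Led Lsl_gt (LP (LK LD1_c7 LD2_c51 LD3_c35)) = (LP (LK LD1_c7 LD2_c35 LD3_c34)) :=
  Lgr Lrot149 (Lpr_cf (f123450 IH) (Lpe (f107281 IH) (Lpe (f107280 IH) (Lpr_ct (f95904 IH) (Lpr_gf (f107295 IH) (Lpr_cf (K2.f11963 IH) (Lpr_bt (K2.f11960 IH) (Lpe (K4.f12038 IH) (Lpe (f116688 IH) (Lpr_ct (f91266 IH) (Lpn (LP (LK LD1_c7 LD2_c35 LD3_c34)))))))))))))
theorem f110390 : Led Lsl_bt (LP (LK LD1_c9 LD2_c24 LD3_c4)) = (LP (LK LD1_c4 LD2_c45 LD3_c43)) :=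
  Lre_b IH (LK LD1_c9 LD2_c24 LD3_c4) (LK LD1_c4 LD2_c45 LD3_c43) Lrfl Lrfl
theorem f104166 : Led Lsl_gf (LP (LK LD1_c0 LD2_c51 LD3_c34)) = (LP (LK LD1_c1 LD2_c7 LD3_c2)) :=
  Lgr Lrot181 (Lpr_ct (K2.f24341 IH) (Lpr_gt (K3.f24324 IH) (Lpr_cf (K3.f24332 IH) (Lpr_bt (K3.f24329 IH) (Lpr_gt (K3.f95259 IH) (Lpe (K3.f79279 IH) (Lpr_ct (K3.f79291 IH) (Lpr_gt (K4.f104164 IH) (Lpe (K3.f23451 IH) (Lpr_bt (K3.f23572 IH) (Lpn (LP (LK LD1_c1 LD2_c7 LD3_c2)))))))))))))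
theorem f85151 : Led Lsl_dt (LP (LK LD1_c0 LD2_c51 LD3_c34)) = (LP (LK LD1_c1 LD2_c49 LD3_c29)) :=
  Lre_d IH (LK LD1_c0 LD2_c51 LD3_c34) (LK LD1_c1 LD2_c49 LD3_c29) Lrfl Lrfl
theorem f93188 : Led Lsl_gt (LP (LK LD1_c6 LD2_c33 LD3_c11)) = (LP (LK LD1_c12 LD2_c33 LD3_c40)) :=
  Lre_g IH (LK LD1_c6 LD2_c33 LD3_c11) (LK LD1_c12 LD2_c33 LD3_c40) Lrfl Lrfl
theorem f129570 : Led Lsl_dt (LP (LK LD1_c12 LD2_c33 LD3_c40)) = (LP (LK LD1_c7 LD2_c30 LD3_c11)) :=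
  Lgr Lrot182 (Lpe (f93188 IH) (Lpe (K2.f93183 IH) (Lpe (K2.f93178 IH) (Lpe (f85151 IH) (Lpr_gf (f104166 IH) (Lpe (K3.f23572 IH) (Lpe (K2.f23457 IH) (Lpe (K2.f23453 IH) (Lpr_gf (K4.f120779 IH) (Lpe (K3.f79565 IH) (Lpe (K3.f77992 IH) (Lpe (K3.f77993 IH) (Lpe (f110397 IH) (Lpe (f110390 IH) (Lpe (f128799 IH) (Lpe (f116690 IH) (Lpe (f123464 IH) (Lpe (f123449 IH) (Lpr_cf (f129559 IH) (Lpn (LP (LK LD1_c7 LD2_c30 LD3_c11))))))))))))))))))))))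
theorem f129574 : Led Lsl_df (LP (LK LD1_c12 LD2_c33 LD3_c40)) = (LP (LK LD1_c7 LD2_c30 LD3_c11)) :=
  Lgr Lrot38 (Lpr_dt (f129570 IH) (Lpn (LP (LK LD1_c7 LD2_c30 LD3_c11))))
theorem f122127 : Led Lsl_at (LP (LK LD1_c3 LD2_c43 LD3_c47)) = (LP (LK LD1_c1 LD2_c48 LD3_c59)) :=
  Lre_a IH (LK LD1_c3 LD2_c43 LD3_c47) (LK LD1_c1 LD2_c48 LD3_c59) Lrfl Lrfl
theorem f122163 : Led Lsl_ft (LP (LK LD1_c3 LD2_c41 LD3_c1)) = (LP (LK LD1_c3 LD2_c43 LD3_c47)) :=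
  Lgr Lrot101 (Lpe (K4.f122055 IH) (Lpr_ff (K4.f122150 IH) (Lpe (f122127 IH) (Lpn (LP (LK LD1_c3 LD2_c43 LD3_c47))))))
theorem f122247 : Led Lsl_gt (LP (LK LD1_c3 LD2_c29 LD3_c52)) = (LP (LK LD1_c1 LD2_c48 LD3_c59)) :=
  Lgr Lrot46 (Lpe (K4.f122071 IH) (Lpr_ft (f122163 IH) (Lpr_at (f122127 IH) (Lpn (LP (LK LD1_c1 LD2_c48 LD3_c59))))))
theorem f121979 : Led Lsl_dt (LP (LK LD1_c3 LD2_c25 LD3_c34)) = (LP (LK LD1_c6 LD2_c53 LD3_c7)) :=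
  Lre_d IH (LK LD1_c3 LD2_c25 LD3_c34) (LK LD1_c6 LD2_c53 LD3_c7) Lrfl Lrfl
theorem f121954 : Led Lsl_af (LP (LK LD1_c1 LD2_c39 LD3_c27)) = (LP (LK LD1_c1 LD2_c47 LD3_c25)) :=
  Lgr Lrot45 (Lpr_ft (K4.f121856 IH) (Lpe (K4.f121899 IH) (Lpr_ft (K4.f121952 IH) (Lpn (LP (LK LD1_c1 LD2_c47 LD3_c25))))))
theorem f121961 : Led Lsl_gt (LP (LK LD1_c1 LD2_c39 LD3_c26)) = (LP (LK LD1_c0 LD2_c46 LD3_c24)) :=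
  Lgr Lrot5 (Lpr_ft (K4.f121952 IH) (Lpe (f121954 IH) (Lpr_gf (K3.f97670 IH) (Lpn (LP (LK LD1_c0 LD2_c46 LD3_c24))))))
theorem f115895 : Led Lsl_dt (LP (LK LD1_c1 LD2_c39 LD3_c26)) = (LP (LK LD1_c3 LD2_c25 LD3_c35)) :=
  Lre_d IH (LK LD1_c1 LD2_c39 LD3_c26) (LK LD1_c3 LD2_c25 LD3_c35) Lrfl Lrfl
theorem f121965 : Led Lsl_gt (LP (LK LD1_c3 LD2_c25 LD3_c35)) = (LP (LK LD1_c1 LD2_c54 LD3_c31)) :=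
  Lgr Lrot9 (Lpe (f115895 IH) (Lpr_gt (f121961 IH) (Lpr_ct (K2.f14602 IH) (Lpe (K2.f90883 IH) (Lpr_ct (K1.f11431 IH) (Lpe (K1.f11453 IH) (Lpe (K2.f11443 IH) (Lpe (f97719 IH) (Lpe (f90257 IH) (Lpn (LP (LK LD1_c1 LD2_c54 LD3_c31))))))))))))
theorem f121938 : Led Lsl_bt (LP (LK LD1_c6 LD2_c53 LD3_c7)) = (LP (LK LD1_c3 LD2_c25 LD3_c35)) :=
  Lre_b IH (LK LD1_c6 LD2_c53 LD3_c7) (LK LD1_c3 LD2_c25 LD3_c35) Lrfl Lrfl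
theorem f64263 : Led Lsl_gt (LP (LK LD1_c3 LD2_c50 LD3_c5)) = (LP (LK LD1_c7 LD2_c41 LD3_c10)) :=
  Lre_g IH (LK LD1_c3 LD2_c50 LD3_c5) (LK LD1_c7 LD2_c41 LD3_c10) Lrfl Lrfl
theorem f121971 : Led Lsl_ct (LP (LK LD1_c6 LD2_c53 LD3_c7)) = (LP (LK LD1_c7 LD2_c41 LD3_c10)) :=
  Lgr Lrot10 (Lpr_bt (f121938 IH) (Lpr_gt (f121965 IH) (Lpr_ct (f90257 IH) (Lpr_gt (f97719 IH) (Lpe (K2.f11442 IH) (Lpr_bt (K4.f18248 IH) (Lpr_gt (K1.f64255 IH) (Lpe (K4.f63139 IH) (Lpr_ct (K4.f63507 IH) (Lpr_gt (f64263 IH) (Lpn (LP (LK LD1_c7 LD2_c41 LD3_c10)))))))))))))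
theorem f121977 : Led Lsl_cf (LP (LK LD1_c6 LD2_c53 LD3_c7)) = (LP (LK LD1_c7 LD2_c41 LD3_c10)) :=
  Lgr Lrot11 (Lpr_ct (f121971 IH) (Lpn (LP (LK LD1_c7 LD2_c41 LD3_c10))))
theorem f87474 : Led Lsl_gt (LP (LK LD1_c3 LD2_c50 LD3_c4)) = (LP (LK LD1_c1 LD2_c51 LD3_c61)) :=
  Lre_g IH (LK LD1_c3 LD2_c50 LD3_c4) (LK LD1_c1 LD2_c51 LD3_c61) Lrfl Lrfl
theorem f122251 : Led Lsl_df (LP (LK LD1_c3 LD2_c29 LD3_c50)) = (LP (LK LD1_c3 LD2_c50 LD3_c4)) :=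
  Lgr Lrot155 (Lpr_gt (K4.f103622 IH) (Lpr_ct (K4.f19046 IH) (Lpr_gt (f122247 IH) (Lpe (K4.f122125 IH) (Lpr_dt (f121979 IH) (Lpr_cf (f121977 IH) (Lpe (f64263 IH) (Lpe (K4.f63507 IH) (Lpe (f87474 IH) (Lpn (LP (LK LD1_c3 LD2_c50 LD3_c4))))))))))))
theorem f122262 : Led Lsl_ft (LP (LK LD1_c7 LD2_c31 LD3_c13)) = (LP (LK LD1_c3 LD2_c50 LD3_c4)) :=
  Lgr Lrot54 (Lpr_df (K4.f111233 IH) (Lpr_ff (K4.f111129 IH) (Lpr_df (f122251 IH) (Lpn (LP (LK LD1_c3 LD2_c50 LD3_c4))))))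
theorem f122271 : Led Lsl_ff (LP (LK LD1_c7 LD2_c31 LD3_c13)) = (LP (LK LD1_c3 LD2_c50 LD3_c4)) :=
  Lgr Lrot3 (Lpr_ft (f122262 IH) (Lpn (LP (LK LD1_c3 LD2_c50 LD3_c4))))
theorem f87475 : Led Lsl_bt (LP (LK LD1_c7 LD2_c41 LD3_c8)) = (LP (LK LD1_c3 LD2_c50 LD3_c4)) :=
  Lre_b IH (LK LD1_c7 LD2_c41 LD3_c8) (LK LD1_c3 LD2_c50 LD3_c4) Lrfl Lrfl
theorem f122303 : Led Lsl_ft (LP (LK LD1_c12 LD2_c33 LD3_c42)) = (LP (LK LD1_c7 LD2_c41 LD3_c8)) :=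
  Lgr Lrot75 (Lpe (K4.f95604 IH) (Lpr_ff (f122271 IH) (Lpe (f87475 IH) (Lpn (LP (LK LD1_c7 LD2_c41 LD3_c8))))))
theorem f111125 : Led Lsl_ff (LP (LK LD1_c12 LD2_c34 LD3_c51)) = (LP (LK LD1_c7 LD2_c1 LD3_c15)) :=
  Lgr Lrot25 (Lpr_bt (K4.f65363 IH) (Lpr_ft (K4.f111123 IH) (Lpr_bt (K4.f103626 IH) (Lpn (LP (LK LD1_c7 LD2_c1 LD3_c15))))))
theorem f122307 : Led Lsl_df (LP (LK LD1_c7 LD2_c1 LD3_c15)) = (LP (LK LD1_c7 LD2_c41 LD3_c8)) :=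
  Lgr Lrot78 (Lpe (f111125 IH) (Lpe (K4.f111280 IH) (Lpr_ft (f122303 IH) (Lpn (LP (LK LD1_c7 LD2_c41 LD3_c8))))))
theorem f122311 : Led Lsl_at (LP (LK LD1_c6 LD2_c49 LD3_c25)) = (LP (LK LD1_c7 LD2_c41 LD3_c8)) :=
  Lgr Lrot51 (Lpe (f95626 IH) (Lpe (K4.f108961 IH) (Lpr_df (f122307 IH) (Lpn (LP (LK LD1_c7 LD2_c41 LD3_c8))))))
theorem f91971 : Led Lsl_bt (LP (LK LD1_c6 LD2_c49 LD3_c25)) = (LP (LK LD1_c3 LD2_c22 LD3_c58)) :=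
  Lre_b IH (LK LD1_c6 LD2_c49 LD3_c25) (LK LD1_c3 LD2_c22 LD3_c58) Lrfl Lrfl
theorem f95611 : Led Lsl_ff (LP (LK LD1_c6 LD2_c49 LD3_c25)) = (LP (LK LD1_c6 LD2_c33 LD3_c11)) :=
  Lgr Lrot25 (Lpr_bt (f91971 IH) (Lpr_ft (K2.f95609 IH) (Lpr_bt (K2.f93183 IH) (Lpn (LP (LK LD1_c6 LD2_c33 LD3_c11))))))
theorem f122313 : Led Lsl_gt (LP (LK LD1_c12 LD2_c33 LD3_c40)) = (LP (LK LD1_c7 LD2_c41 LD3_c8)) :=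
  Lgr Lrot46 (Lpe (f93188 IH) (Lpe (f95611 IH) (Lpr_at (f122311 IH) (Lpn (LP (LK LD1_c7 LD2_c41 LD3_c8))))))
theorem f102874 : Led Lsl_dt (LP (LK LD1_c13 LD2_c6 LD3_c17)) = (LP (LK LD1_c6 LD2_c53 LD3_c44)) :=
  Lre_d IH (LK LD1_c13 LD2_c6 LD3_c17) (LK LD1_c6 LD2_c53 LD3_c44) Lrfl Lrfl
theorem f121020 : Led Lsl_gt (LP (LK LD1_c1 LD2_c54 LD3_c5)) = (LP (LK LD1_c3 LD2_c54 LD3_c58)) :=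
  Lre_g IH (LK LD1_c1 LD2_c54 LD3_c5) (LK LD1_c3 LD2_c54 LD3_c58) Lrfl Lrfl
theorem f129343 : Led Lsl_gt (LP (LK LD1_c3 LD2_c54 LD3_c58)) = (LP (LK LD1_c3 LD2_c54 LD3_c4)) :=
  Lgr Lrot46 (Lpe (f121020 IH) (Lpr_ft (f129334 IH) (Lpr_at (f126471 IH) (Lpn (LP (LK LD1_c3 LD2_c54 LD3_c4))))))
theorem f116530 : Led Lsl_gt (LP (LK LD1_c3 LD2_c41 LD3_c13)) = (LP (LK LD1_c7 LD2_c22 LD3_c48)) :=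
  Lre_g IH (LK LD1_c3 LD2_c41 LD3_c13) (LK LD1_c7 LD2_c22 LD3_c48) Lrfl Lrfl
theorem f123699 : Led Lsl_at (LP (LK LD1_c3 LD2_c43 LD3_c57)) = (LP (LK LD1_c7 LD2_c28 LD3_c33)) :=
  Lre_a IH (LK LD1_c3 LD2_c43 LD3_c57) (LK LD1_c7 LD2_c28 LD3_c33) Lrfl Lrfl
theorem f123712 : Led Lsl_gt (LP (LK LD1_c7 LD2_c22 LD3_c48)) = (LP (LK LD1_c7 LD2_c28 LD3_c33)) :=
  Lgr Lrot46 (Lpe (f116530 IH) (Lpr_ft (f123686 IH) (Lpr_at (f123699 IH) (Lpn (LP (LK LD1_c7 LD2_c28 LD3_c33))))))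
theorem f123678 : Led Lsl_dt (LP (LK LD1_c7 LD2_c28 LD3_c33)) = (LP (LK LD1_c3 LD2_c43 LD3_c56)) :=
  Lre_d IH (LK LD1_c7 LD2_c28 LD3_c33) (LK LD1_c3 LD2_c43 LD3_c56) Lrfl Lrfl
theorem f123647 : Led Lsl_ct (LP (LK LD1_c3 LD2_c45 LD3_c46)) = (LP (LK LD1_c3 LD2_c43 LD3_c56)) :=
  Lgr Lrot111 (Lpe (K4.f103792 IH) (Lpr_cf (K4.f123644 IH) (Lpe (f123646 IH) (Lpn (LP (LK LD1_c3 LD2_c43 LD3_c56))))))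
theorem f111372 : Led Lsl_df (LP (LK LD1_c3 LD2_c45 LD3_c46)) = (LP (LK LD1_c6 LD2_c55 LD3_c24)) :=
  Lgr Lrot38 (Lpr_dt (K4.f111368 IH) (Lpn (LP (LK LD1_c6 LD2_c55 LD3_c24))))
theorem f108738 : Led Lsl_dt (LP (LK LD1_c1 LD2_c40 LD3_c2)) = (LP (LK LD1_c3 LD2_c26 LD3_c49)) :=
  Lre_d IH (LK LD1_c1 LD2_c40 LD3_c2) (LK LD1_c3 LD2_c26 LD3_c49) Lrfl Lrfl
theorem f120822 : Led Lsl_bt (LP (LK LD1_c1 LD2_c39 LD3_c19)) = (LP (LK LD1_c1 LD2_c39 LD3_c33)) :=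
  Lgr Lrot95 (Lpe (K3.f103564 IH) (Lpr_bf (K4.f120820 IH) (Lpe (K4.f109453 IH) (Lpn (LP (LK LD1_c1 LD2_c39 LD3_c33))))))
theorem f121205 : Led Lsl_cf (LP (LK LD1_c1 LD2_c51 LD3_c14)) = (LP (LK LD1_c1 LD2_c54 LD3_c5)) :=
  Lgr Lrot97 (Lpr_bt (f64622 IH) (Lpe (K3.f110225 IH) (Lpr_bt (f120822 IH) (Lpr_ct (K4.f121010 IH) (Lpr_bt (f121017 IH) (Lpn (LP (LK LD1_c1 LD2_c54 LD3_c5))))))))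
theorem f123715 : Led Lsl_df (LP (LK LD1_c7 LD2_c22 LD3_c48)) = (LP (LK LD1_c3 LD2_c54 LD3_c58)) :=
  Lgr Lrot153 (Lpr_gt (f123712 IH) (Lpr_dt (f123678 IH) (Lpe (f123647 IH) (Lpr_df (f111372 IH) (Lpe (K4.f91287 IH) (Lpe (f108738 IH) (Lpe (f114422 IH) (Lpr_cf (f121205 IH) (Lpr_gt (f121020 IH) (Lpn (LP (LK LD1_c3 LD2_c54 LD3_c58))))))))))))
theorem f123675 : Led Lsl_ct (LP (LK LD1_c7 LD2_c28 LD3_c33)) = (LP (LK LD1_c14 LD2_c6 LD3_c41)) :=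
  Lre_c IH (LK LD1_c7 LD2_c28 LD3_c33) (LK LD1_c14 LD2_c6 LD3_c41) Lrfl Lrfl
theorem f123894 : Led Lsl_ff (LP (LK LD1_c13 LD2_c57 LD3_c8)) = (LP (LK LD1_c14 LD2_c6 LD3_c41)) :=
  Lgr Lrot23 (Lpr_ct (f116463 IH) (Lpr_ft (f123882 IH) (Lpr_ct (f123675 IH) (Lpn (LP (LK LD1_c14 LD2_c6 LD3_c41))))))
theorem f116503 : Led Lsl_at (LP (LK LD1_c13 LD2_c57 LD3_c8)) = (LP (LK LD1_c7 LD2_c22 LD3_c50)) :=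
  Lre_a IH (LK LD1_c13 LD2_c57 LD3_c8) (LK LD1_c7 LD2_c22 LD3_c50) Lrfl Lrfl
theorem f116509 : Led Lsl_gt (LP (LK LD1_c13 LD2_c57 LD3_c13)) = (LP (LK LD1_c7 LD2_c22 LD3_c50)) :=
  Lre_g IH (LK LD1_c13 LD2_c57 LD3_c13) (LK LD1_c7 LD2_c22 LD3_c50) Lrfl Lrfl
theorem f123906 : Led Lsl_gf (LP (LK LD1_c13 LD2_c57 LD3_c13)) = (LP (LK LD1_c14 LD2_c6 LD3_c41)) :=
  Lgr Lrot47 (Lpr_gt (f116509 IH) (Lpe (f116503 IH) (Lpr_ff (f123894 IH) (Lpn (LP (LK LD1_c14 LD2_c6 LD3_c41))))))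
theorem f127926 : Led Lsl_gt (LP (LK LD1_c3 LD2_c26 LD3_c47)) = (LP (LK LD1_c3 LD2_c48 LD3_c26)) :=
  Lgr Lrot5 (Lpr_ft (f127917 IH) (Lpr_at (f88226 IH) (Lpe (f88234 IH) (Lpn (LP (LK LD1_c3 LD2_c48 LD3_c26))))))
theorem f123527 : Led Lsl_dt (LP (LK LD1_c13 LD2_c55 LD3_c32)) = (LP (LK LD1_c7 LD2_c25 LD3_c1)) :=
  Lgr Lrot42 (Lpr_df (f122681 IH) (Lpn (LP (LK LD1_c7 LD2_c25 LD3_c1))))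
theorem f129384 : Led Lsl_ct (LP (LK LD1_c13 LD2_c57 LD3_c13)) = (LP (LK LD1_c13 LD2_c55 LD3_c32)) :=
  Lgr Lrot110 (Lpr_gf (f123906 IH) (Lpe (f123675 IH) (Lpe (f123712 IH) (Lpr_df (f123715 IH) (Lpr_gt (f129343 IH) (Lpr_ct (f129376 IH) (Lpr_gt (f127926 IH) (Lpe (f127967 IH) (Lpe (f123527 IH) (Lpn (LP (LK LD1_c13 LD2_c55 LD3_c32))))))))))))
theorem f129388 : Led Lsl_cf (LP (LK LD1_c13 LD2_c57 LD3_c13)) = (LP (LK LD1_c13 LD2_c55 LD3_c32)) :=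
  Lgr Lrot11 (Lpr_ct (f129384 IH) (Lpn (LP (LK LD1_c13 LD2_c55 LD3_c32))))
theorem f129390 : Led Lsl_at (LP (LK LD1_c13 LD2_c57 LD3_c13)) = (LP (LK LD1_c13 LD2_c55 LD3_c33)) :=
  Lgr Lrot107 (Lpr_cf (f129388 IH) (Lpe (f123532 IH) (Lpe (f122683 IH) (Lpn (LP (LK LD1_c13 LD2_c55 LD3_c33))))))
theorem f123909 : Led Lsl_gt (LP (LK LD1_c14 LD2_c6 LD3_c48)) = (LP (LK LD1_c7 LD2_c28 LD3_c37)) :=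
  Lre_g IH (LK LD1_c14 LD2_c6 LD3_c48) (LK LD1_c7 LD2_c28 LD3_c37) Lrfl Lrfl
theorem f129392 : Led Lsl_ff (LP (LK LD1_c13 LD2_c57 LD3_c13)) = (LP (LK LD1_c14 LD2_c6 LD3_c48)) :=
  Lgr Lrot52 (Lpr_at (f129390 IH) (Lpr_gf (f123924 IH) (Lpe (f123909 IH) (Lpn (LP (LK LD1_c14 LD2_c6 LD3_c48))))))
theorem f129394 : Led Lsl_ct (LP (LK LD1_c13 LD2_c8 LD3_c49)) = (LP (LK LD1_c14 LD2_c6 LD3_c48)) :=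
  Lgr Lrot40 (Lpe (f127992 IH) (Lpe (f129384 IH) (Lpr_ff (f129392 IH) (Lpn (LP (LK LD1_c14 LD2_c6 LD3_c48))))))
theorem f123649 : Led Lsl_ct (LP (LK LD1_c7 LD2_c28 LD3_c37)) = (LP (LK LD1_c3 LD2_c43 LD3_c57)) :=
  Lre_c IH (LK LD1_c7 LD2_c28 LD3_c37) (LK LD1_c3 LD2_c43 LD3_c57) Lrfl Lrfl
theorem f123608 : Led Lsl_dt (LP (LK LD1_c1 LD2_c49 LD3_c0)) = (LP (LK LD1_c3 LD2_c43 LD3_c57)) :=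
  Lre_d IH (LK LD1_c1 LD2_c49 LD3_c0) (LK LD1_c3 LD2_c43 LD3_c57) Lrfl Lrfl
theorem f129474 : Led Lsl_gf (LP (LK LD1_c13 LD2_c8 LD3_c49)) = (LP (LK LD1_c13 LD2_c6 LD3_c17)) :=
  Lgr Lrot147 (Lpr_ct (f129394 IH) (Lpr_gt (f123909 IH) (Lpr_ct (f123649 IH) (Lpe (f123608 IH) (Lpe (f123578 IH) (Lpe (K4.f103648 IH) (Lpe (f103662 IH) (Lpe (K4.f102871 IH) (Lpe (f102874 IH) (Lpn (LP (LK LD1_c13 LD2_c6 LD3_c17))))))))))))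
theorem f128014 : Led Lsl_at (LP (LK LD1_c6 LD2_c55 LD3_c13)) = (LP (LK LD1_c13 LD2_c8 LD3_c49)) :=
  Lre_a IH (LK LD1_c6 LD2_c55 LD3_c13) (LK LD1_c13 LD2_c8 LD3_c49) Lrfl Lrfl
theorem f129476 : Led Lsl_gt (LP (LK LD1_c7 LD2_c21 LD3_c55)) = (LP (LK LD1_c13 LD2_c6 LD3_c17)) :=
  Lgr Lrot5 (Lpr_ft (f128012 IH) (Lpr_at (f128014 IH) (Lpr_gf (f129474 IH) (Lpn (LP (LK LD1_c13 LD2_c6 LD3_c17))))))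
theorem f122690 : Led Lsl_gt (LP (LK LD1_c7 LD2_c25 LD3_c0)) = (LP (LK LD1_c3 LD2_c42 LD3_c9)) :=
  Lre_g IH (LK LD1_c7 LD2_c25 LD3_c0) (LK LD1_c3 LD2_c42 LD3_c9) Lrfl Lrfl
theorem f91855 : Led Lsl_ct (LP (LK LD1_c3 LD2_c24 LD3_c35)) = (LP (LK LD1_c3 LD2_c50 LD3_c60)) :=
  Lgr Lrot59 (Lpr_cf (K3.f91756 IH) (Lpn (LP (LK LD1_c3 LD2_c50 LD3_c60))))
theorem f14640 : Led Lsl_dt (LP (LK LD1_c3 LD2_c55 LD3_c39)) = (LP (LK LD1_c1 LD2_c54 LD3_c26)) :=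
  Lre_d IH (LK LD1_c3 LD2_c55 LD3_c39) (LK LD1_c1 LD2_c54 LD3_c26) Lrfl Lrfl
theorem f91867 : Led Lsl_gf (LP (LK LD1_c3 LD2_c24 LD3_c35)) = (LP (LK LD1_c3 LD2_c55 LD3_c39)) :=
  Lgr Lrot147 (Lpr_ct (f91855 IH) (Lpr_gt (K3.f15025 IH) (Lpr_ct (K3.f14634 IH) (Lpe (K0.f14639 IH) (Lpe (K0.f14638 IH) (Lpr_gf (K0.f14630 IH) (Lpe (K1.f11851 IH) (Lpe (K3.f12297 IH) (Lpe (f14640 IH) (Lpn (LP (LK LD1_c3 LD2_c55 LD3_c39))))))))))))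
theorem f14641 : Led Lsl_dt (LP (LK LD1_c1 LD2_c54 LD3_c26)) = (LP (LK LD1_c3 LD2_c55 LD3_c39)) :=
  Lre_d IH (LK LD1_c1 LD2_c54 LD3_c26) (LK LD1_c3 LD2_c55 LD3_c39) Lrfl Lrfl
theorem f98703 : Led Lsl_gt (LP (LK LD1_c0 LD2_c53 LD3_c54)) = (LP (LK LD1_c1 LD2_c54 LD3_c26)) :=
  Lgr Lrot94 (Lpe (f90255 IH) (Lpr_gt (K4.f17294 IH) (Lpe (K4.f14590 IH) (Lpe (K3.f98701 IH) (Lpr_dt (K3.f98694 IH) (Lpe (K2.f18173 IH) (Lpe (K3.f65870 IH) (Lpr_gf (f91867 IH) (Lpe (f14641 IH) (Lpn (LP (LK LD1_c1 LD2_c54 LD3_c26))))))))))))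
theorem f11977 : Led Lsl_gt (LP (LK LD1_c1 LD2_c40 LD3_c11)) = (LP (LK LD1_c3 LD2_c27 LD3_c9)) :=
  Lre_g IH (LK LD1_c1 LD2_c40 LD3_c11) (LK LD1_c3 LD2_c27 LD3_c9) Lrfl Lrfl
theorem f12056 : Led Lsl_bt (LP (LK LD1_c6 LD2_c56 LD3_c13)) = (LP (LK LD1_c3 LD2_c27 LD3_c9)) :=
  Lre_b IH (LK LD1_c6 LD2_c56 LD3_c13) (LK LD1_c3 LD2_c27 LD3_c9) Lrfl Lrfl
theorem f122709 : Led Lsl_cf (LP (LK LD1_c7 LD2_c25 LD3_c0)) = (LP (LK LD1_c6 LD2_c56 LD3_c13)) :=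
  Lgr Lrot160 (Lpr_gt (f122690 IH) (Lpr_cf (f122696 IH) (Lpr_bt (K4.f120966 IH) (Lpr_gt (f98703 IH) (Lpe (K3.f97361 IH) (Lpe (K3.f107248 IH) (Lpr_cf (K2.f11963 IH) (Lpr_bt (K2.f11960 IH) (Lpr_gt (f11977 IH) (Lpe (f12056 IH) (Lpn (LP (LK LD1_c6 LD2_c56 LD3_c13)))))))))))))
theorem f122712 : Led Lsl_ct (LP (LK LD1_c7 LD2_c25 LD3_c0)) = (LP (LK LD1_c6 LD2_c56 LD3_c13)) :=
  Lgr Lrot59 (Lpr_cf (f122709 IH) (Lpn (LP (LK LD1_c6 LD2_c56 LD3_c13))))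
theorem f129579 : Led Lsl_gt (LP (LK LD1_c6 LD2_c56 LD3_c13)) = (LP (LK LD1_c7 LD2_c30 LD3_c11)) :=
  Lgr Lrot94 (Lpe (f122712 IH) (Lpr_gt (f122690 IH) (Lpe (f122624 IH) (Lpr_gt (f129476 IH) (Lpr_dt (f102874 IH) (Lpe (K4.f103624 IH) (Lpr_df (f122307 IH) (Lpe (f122313 IH) (Lpr_df (f129574 IH) (Lpn (LP (LK LD1_c7 LD2_c30 LD3_c11))))))))))))
theorem f122711 : Led Lsl_bt (LP (LK LD1_c3 LD2_c27 LD3_c9)) = (LP (LK LD1_c6 LD2_c56 LD3_c13)) :=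
  Lre_b IH (LK LD1_c3 LD2_c27 LD3_c9) (LK LD1_c6 LD2_c56 LD3_c13) Lrfl Lrfl
theorem f121009 : Led Lsl_bt (LP (LK LD1_c1 LD2_c54 LD3_c5)) = (LP (LK LD1_c0 LD2_c53 LD3_c38)) :=
  Lre_b IH (LK LD1_c1 LD2_c54 LD3_c5) (LK LD1_c0 LD2_c53 LD3_c38) Lrfl Lrfl
theorem f121209 : Led Lsl_cf (LP (LK LD1_c1 LD2_c54 LD3_c5)) = (LP (LK LD1_c1 LD2_c51 LD3_c14)) :=
  Lgr Lrot97 (Lpr_bt (f121009 IH) (Lpe (K4.f121000 IH) (Lpr_bt (K4.f121207 IH) (Lpr_ct (K4.f110223 IH) (Lpr_bt (f88230 IH) (Lpn (LP (LK LD1_c1 LD2_c51 LD3_c14))))))))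
theorem f17299 : Led Lsl_gt (LP (LK LD1_c1 LD2_c51 LD3_c6)) = (LP (LK LD1_c3 LD2_c48 LD3_c11)) :=
  Lre_g IH (LK LD1_c1 LD2_c51 LD3_c6) (LK LD1_c3 LD2_c48 LD3_c11) Lrfl Lrfl
theorem f129581 : Led Lsl_ct (LP (LK LD1_c3 LD2_c27 LD3_c9)) = (LP (LK LD1_c3 LD2_c48 LD3_c11)) :=
  Lgr Lrot10 (Lpr_bt (f122711 IH) (Lpr_gt (f129579 IH) (Lpe (f129559 IH) (Lpr_gt (f121018 IH) (Lpr_cf (f121209 IH) (Lpr_bt (f64622 IH) (Lpr_gt (K3.f62680 IH) (Lpe (K4.f17461 IH) (Lpr_ct (K2.f11849 IH) (Lpr_gt (f17299 IH) (Lpn (LP (LK LD1_c3 LD2_c48 LD3_c11)))))))))))))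
theorem f12030 : Led Lsl_at (LP (LK LD1_c1 LD2_c40 LD3_c11)) = (LP (LK LD1_c3 LD2_c27 LD3_c11)) :=
  Lre_a IH (LK LD1_c1 LD2_c40 LD3_c11) (LK LD1_c3 LD2_c27 LD3_c11) Lrfl Lrfl
theorem f89832 : Led Lsl_gf (LP (LK LD1_c3 LD2_c27 LD3_c11)) = (LP (LK LD1_c3 LD2_c48 LD3_c11)) :=
  Lgr Lrot76 (Lpe (f12030 IH) (Lpr_ff (K2.f89819 IH) (Lpr_gt (f17299 IH) (Lpn (LP (LK LD1_c3 LD2_c48 LD3_c11))))))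
theorem f12033 : Led Lsl_at (LP (LK LD1_c3 LD2_c27 LD3_c11)) = (LP (LK LD1_c1 LD2_c40 LD3_c11)) :=
  Lre_a IH (LK LD1_c3 LD2_c27 LD3_c11) (LK LD1_c1 LD2_c40 LD3_c11) Lrfl Lrfl
theorem f89767 : Led Lsl_cf (LP (LK LD1_c3 LD2_c27 LD3_c11)) = (LP (LK LD1_c3 LD2_c19 LD3_c49)) :=
  Lgr Lrot1 (Lpr_at (f12033 IH) (Lpe (K2.f11961 IH) (Lpr_at (K3.f89761 IH) (Lpn (LP (LK LD1_c3 LD2_c19 LD3_c49))))))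
theorem f127073 : Led Lsl_df (LP (LK LD1_c3 LD2_c19 LD3_c49)) = (LP (LK LD1_c2 LD2_c20 LD3_c6)) :=
  Lgr Lrot177 (Lpe (f89767 IH) (Lpe (f12030 IH) (Lpr_ff (K2.f89819 IH) (Lpr_dt (K4.f116699 IH) (Lpr_ct (f25297 IH) (Lpe (f127071 IH) (Lpr_ct (K3.f57584 IH) (Lpr_dt (f66648 IH) (Lpr_ct (f127064 IH) (Lpn (LP (LK LD1_c2 LD2_c20 LD3_c6))))))))))))
theorem f129592 : Led Lsl_gt (LP (LK LD1_c1 LD2_c49 LD3_c29)) = (LP (LK LD1_c3 LD2_c1 LD3_c12)) :=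
  Lgr Lrot150 (Lpr_cf (K2.f93186 IH) (Lpe (K2.f24034 IH) (Lpr_df (K4.f112954 IH) (Lpr_gt (f11977 IH) (Lpr_ct (f129581 IH) (Lpe (f89832 IH) (Lpe (K3.f89813 IH) (Lpr_df (f127073 IH) (Lpe (f127064 IH) (Lpn (LP (LK LD1_c3 LD2_c1 LD3_c12))))))))))))
theorem f125328 : Led Lsl_ef (LP (LK LD1_c1 LD2_c7 LD3_c2)) = (LP (LK LD1_c1 LD2_c6 LD3_c37)) :=
  Lgr Lrot88 (Lpr_et (f125322 IH) (Lpn (LP (LK LD1_c1 LD2_c6 LD3_c37))))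
theorem f126913 : Led Lsl_et (LP (LK LD1_c1 LD2_c26 LD3_c32)) = (LP (LK LD1_c0 LD2_c43 LD3_c29)) :=
  Lgr Lrot87 (Lpr_ef (f126905 IH) (Lpn (LP (LK LD1_c0 LD2_c43 LD3_c29))))
theorem f129596 : Led Lsl_dt (LP (LK LD1_c1 LD2_c6 LD3_c37)) = (LP (LK LD1_c1 LD2_c32 LD3_c34)) :=
  Lgr Lrot37 (Lpe (f125328 IH) (Lpe (f104166 IH) (Lpr_dt (f85151 IH) (Lpr_gt (f129592 IH) (Lpe (f66648 IH) (Lpr_et (f126913 IH) (Lpe (K3.f93193 IH) (Lpr_ef (K2.f85065 IH) (Lpr_dt (K2.f24340 IH) (Lpr_gt (K4.f62869 IH) (Lpn (LP (LK LD1_c1 LD2_c32 LD3_c34)))))))))))))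
theorem f25298 : Led Lsl_ct (LP (LK LD1_c2 LD2_c20 LD3_c4)) = (LP (LK LD1_c1 LD2_c7 LD3_c18)) :=
  Lre_c IH (LK LD1_c2 LD2_c20 LD3_c4) (LK LD1_c1 LD2_c7 LD3_c18) Lrfl Lrfl
theorem f129608 : Led Lsl_gf (LP (LK LD1_c2 LD2_c20 LD3_c4)) = (LP (LK LD1_c3 LD2_c22 LD3_c58)) :=
  Lgr Lrot172 (Lpr_ct (f25298 IH) (Lpr_dt (f127119 IH) (Lpe (K2.f62320 IH) (Lpr_gf (K2.f25025 IH) (Lpe (K2.f17666 IH) (Lpe (K4.f113116 IH) (Lpr_dt (f129596 IH) (Lpr_gt (f126494 IH) (Lpr_ct (K2.f91963 IH) (Lpn (LP (LK LD1_c3 LD2_c22 LD3_c58))))))))))))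
theorem f127480 : Led Lsl_bt (LP (LK LD1_c1 LD2_c7 LD3_c18)) = (LP (LK LD1_c2 LD2_c20 LD3_c3)) :=
  Lre_b IH (LK LD1_c1 LD2_c7 LD3_c18) (LK LD1_c2 LD2_c20 LD3_c3) Lrfl Lrfl
theorem f66952 : Led Lsl_at (LP (LK LD1_c0 LD2_c42 LD3_c58)) = (LP (LK LD1_c1 LD2_c32 LD3_c45)) :=
  Lre_a IH (LK LD1_c0 LD2_c42 LD3_c58) (LK LD1_c1 LD2_c32 LD3_c45) Lrfl Lrfl
theorem f66953 : Led Lsl_bf (LP (LK LD1_c1 LD2_c29 LD3_c34)) = (LP (LK LD1_c1 LD2_c32 LD3_c45)) :=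
  Lgr Lrot81 (Lpr_at (K2.f66901 IH) (Lpr_bt (K3.f66941 IH) (Lpr_at (K1.f66948 IH) (Lpr_bt (K4.f61282 IH) (Lpr_at (f66952 IH) (Lpn (LP (LK LD1_c1 LD2_c32 LD3_c45))))))))
theorem f129612 : Led Lsl_gt (LP (LK LD1_c2 LD2_c20 LD3_c3)) = (LP (LK LD1_c1 LD2_c34 LD3_c17)) :=
  Lgr Lrot82 (Lpe (f127480 IH) (Lpr_ct (K4.f91915 IH) (Lpr_gf (f129608 IH) (Lpe (K2.f91963 IH) (Lpr_bt (K3.f91959 IH) (Lpe (K2.f91950 IH) (Lpr_bf (f66953 IH) (Lpr_ct (K2.f67014 IH) (Lpr_gf (K3.f76691 IH) (Lpe (K3.f110999 IH) (Lpn (LP (LK LD1_c1 LD2_c34 LD3_c17)))))))))))))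
theorem f129614 : Led Lsl_bf (LP (LK LD1_c1 LD2_c34 LD3_c17)) = (LP (LK LD1_c3 LD2_c1 LD3_c51)) :=
  Lgr Lrot34 (Lpe (f129612 IH) (Lpe (f127480 IH) (Lpr_ct (K4.f91915 IH) (Lpr_gf (f129608 IH) (Lpe (K2.f91963 IH) (Lpe (f126494 IH) (Lpe (K4.f62868 IH) (Lpr_ct (K4.f62867 IH) (Lpe (f113069 IH) (Lpr_cf (f128904 IH) (Lpn (LP (LK LD1_c3 LD2_c1 LD3_c51)))))))))))))
theorem f65546 : Led Lsl_dt (LP (LK LD1_c1 LD2_c34 LD3_c17)) = (LP (LK LD1_c0 LD2_c43 LD3_c49)) :=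
  Lre_d IH (LK LD1_c1 LD2_c34 LD3_c17) (LK LD1_c0 LD2_c43 LD3_c49) Lrfl Lrfl
theorem f124571 : Led Lsl_gt (LP (LK LD1_c0 LD2_c43 LD3_c3)) = (LP (LK LD1_c1 LD2_c33 LD3_c3)) :=
  Lre_g IH (LK LD1_c0 LD2_c43 LD3_c3) (LK LD1_c1 LD2_c33 LD3_c3) Lrfl Lrfl
theorem f124574 : Led Lsl_bf (LP (LK LD1_c1 LD2_c33 LD3_c3)) = (LP (LK LD1_c0 LD2_c43 LD3_c49)) :=
  Lgr Lrot34 (Lpe (f124571 IH) (Lpr_bf (f124567 IH) (Lpr_ct (f95913 IH) (Lpr_gf (K3.f107274 IH) (Lpr_cf (K3.f107299 IH) (Lpe (K2.f9813 IH) (Lpe (K2.f13510 IH) (Lpe (K2.f13493 IH) (Lpe (K3.f13532 IH) (Lpr_cf (K3.f103482 IH) (Lpn (LP (LK LD1_c0 LD2_c43 LD3_c49)))))))))))))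
theorem f129622 : Led Lsl_dt (LP (LK LD1_c1 LD2_c33 LD3_c3)) = (LP (LK LD1_c3 LD2_c1 LD3_c51)) :=
  Lgr Lrot79 (Lpr_bf (f124574 IH) (Lpe (f65546 IH) (Lpr_bf (f129614 IH) (Lpn (LP (LK LD1_c3 LD2_c1 LD3_c51))))))
theorem f95302 : Led Lsl_bt (LP (LK LD1_c0 LD2_c20 LD3_c15)) = (LP (LK LD1_c0 LD2_c45 LD3_c23)) :=
  Lre_b IH (LK LD1_c0 LD2_c20 LD3_c15) (LK LD1_c0 LD2_c45 LD3_c23) Lrfl Lrfl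
theorem f124572 : Led Lsl_ct (LP (LK LD1_c1 LD2_c33 LD3_c3)) = (LP (LK LD1_c1 LD2_c7 LD3_c29)) :=
  Lgr Lrot91 (Lpe (f124571 IH) (Lpr_bf (f124567 IH) (Lpr_ct (f95913 IH) (Lpr_gf (K3.f107274 IH) (Lpr_cf (K3.f107299 IH) (Lpr_bt (f95302 IH) (Lpr_gf (K3.f95557 IH) (Lpe (K3.f24326 IH) (Lpr_ct (f24384 IH) (Lpr_gf (K3.f79308 IH) (Lpn (LP (LK LD1_c1 LD2_c7 LD3_c29)))))))))))))
theorem f124590 : Led Lsl_gt (LP (LK LD1_c1 LD2_c33 LD3_c3)) = (LP (LK LD1_c0 LD2_c43 LD3_c5)) :=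
  Lgr Lrot180 (Lpr_ct (f124572 IH) (Lpe (K3.f79308 IH) (Lpr_dt (f26149 IH) (Lpr_gt (K4.f113353 IH) (Lpr_dt (K3.f77986 IH) (Lpr_ct (K1.f25016 IH) (Lpr_df (K1.f61937 IH) (Lpr_gf (f124588 IH) (Lpe (f23651 IH) (Lpn (LP (LK LD1_c0 LD2_c43 LD3_c5))))))))))))
theorem f129628 : Led Lsl_et (LP (LK LD1_c1 LD2_c33 LD3_c3)) = (LP (LK LD1_c1 LD2_c33 LD3_c3)) :=
  Lgr Lrot121 (Lpr_dt (f129622 IH) (Lpe (f115552 IH) (Lpe (f128907 IH) (Lpe (f108854 IH) (Lpr_gf (K4.f108838 IH) (Lpe (K1.f61956 IH) (Lpr_dt (K4.f61935 IH) (Lpr_gf (f124588 IH) (Lpe (f23651 IH) (Lpe (f124590 IH) (Lpn (LP (LK LD1_c1 LD2_c33 LD3_c3)))))))))))))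
theorem f98911 : Led Lsl_at (LP (LK LD1_c0 LD2_c30 LD3_c58)) = (LP (LK LD1_c0 LD2_c13 LD3_c46)) :=
  Lre_a IH (LK LD1_c0 LD2_c30 LD3_c58) (LK LD1_c0 LD2_c13 LD3_c46) Lrfl Lrfl
theorem f99098 : Led Lsl_et (LP (LK LD1_c0 LD2_c30 LD3_c58)) = (LP (LK LD1_c0 LD2_c30 LD3_c58)) :=
  Lgr Lrot123 (Lpe (K3.f99097 IH) (Lpr_ef (K3.f99095 IH) (Lpe (f98911 IH) (Lpn (LP (LK LD1_c0 LD2_c30 LD3_c58))))))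
theorem f102332 : Led Lsl_bt (LP (LK LD1_c1 LD2_c7 LD3_c29)) = (LP (LK LD1_c0 LD2_c30 LD3_c58)) :=
  Lre_b IH (LK LD1_c1 LD2_c7 LD3_c29) (LK LD1_c0 LD2_c30 LD3_c58) Lrfl Lrfl
theorem f102333 : Led Lsl_ef (LP (LK LD1_c1 LD2_c7 LD3_c29)) = (LP (LK LD1_c1 LD2_c7 LD3_c29)) :=
  Lgr Lrot29 (Lpr_bt (f102332 IH) (Lpr_et (f99098 IH) (Lpr_bt (K3.f79311 IH) (Lpn (LP (LK LD1_c1 LD2_c7 LD3_c29))))))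
theorem f129634 : Led Lsl_cf (LP (LK LD1_c1 LD2_c33 LD3_c3)) = (LP (LK LD1_c1 LD2_c7 LD3_c29)) :=
  Lgr Lrot39 (Lpr_et (f129628 IH) (Lpr_ct (f124572 IH) (Lpe (f102333 IH) (Lpn (LP (LK LD1_c1 LD2_c7 LD3_c29))))))
theorem f69135 : Led Lsl_ct (LP (LK LD1_c1 LD2_c31 LD3_c47)) = (LP (LK LD1_c0 LD2_c42 LD3_c28)) :=
  Lre_c IH (LK LD1_c1 LD2_c31 LD3_c47) (LK LD1_c0 LD2_c42 LD3_c28) Lrfl Lrfl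
theorem f79115 : Led Lsl_bt (LP (LK LD1_c0 LD2_c42 LD3_c28)) = (LP (LK LD1_c1 LD2_c31 LD3_c46)) :=
  Lre_b IH (LK LD1_c0 LD2_c42 LD3_c28) (LK LD1_c1 LD2_c31 LD3_c46) Lrfl Lrfl
theorem f79125 : Led Lsl_ct (LP (LK LD1_c0 LD2_c42 LD3_c28)) = (LP (LK LD1_c1 LD2_c31 LD3_c47)) :=
  Lre_c IH (LK LD1_c0 LD2_c42 LD3_c28) (LK LD1_c1 LD2_c31 LD3_c47) Lrfl Lrfl
theorem f125689 : Led Lsl_gf (LP (LK LD1_c1 LD2_c31 LD3_c47)) = (LP (LK LD1_c3 LD2_c10 LD3_c41)) :=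
  Lgr Lrot126 (Lpe (f79125 IH) (Lpr_bt (f79115 IH) (Lpe (K3.f94121 IH) (Lpr_ct (K3.f93456 IH) (Lpr_gt (K3.f15615 IH) (Lpe (K3.f63843 IH) (Lpr_bt (K3.f63850 IH) (Lpr_gt (K3.f63851 IH) (Lpe (K4.f24027 IH) (Lpr_ct (f125680 IH) (Lpn (LP (LK LD1_c3 LD2_c10 LD3_c41)))))))))))))
theorem f82328 : Led Lsl_at (LP (LK LD1_c0 LD2_c42 LD3_c53)) = (LP (LK LD1_c0 LD2_c19 LD3_c6)) :=
  Lre_a IH (LK LD1_c0 LD2_c42 LD3_c53) (LK LD1_c0 LD2_c19 LD3_c6) Lrfl Lrfl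
theorem f82331 : Led Lsl_gt (LP (LK LD1_c1 LD2_c7 LD3_c6)) = (LP (LK LD1_c0 LD2_c42 LD3_c55)) :=
  Lgr Lrot5 (Lpr_ft (K4.f82323 IH) (Lpr_at (f82328 IH) (Lpe (K4.f26086 IH) (Lpn (LP (LK LD1_c0 LD2_c42 LD3_c55))))))
theorem f129644 : Led Lsl_gt (LP (LK LD1_c0 LD2_c42 LD3_c52)) = (LP (LK LD1_c1 LD2_c7 LD3_c29)) :=
  Lgr Lrot150 (Lpe (K3.f26154 IH) (Lpe (K4.f82321 IH) (Lpe (K2.f23575 IH) (Lpr_gt (f82331 IH) (Lpr_ct (K4.f82333 IH) (Lpe (f128895 IH) (Lpr_ct (f128902 IH) (Lpe (f129622 IH) (Lpr_cf (f129634 IH) (Lpn (LP (LK LD1_c1 LD2_c7 LD3_c29))))))))))))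
theorem f129646 : Led Lsl_gf (LP (LK LD1_c2 LD2_c20 LD3_c39)) = (LP (LK LD1_c1 LD2_c32 LD3_c31)) :=
  Lgr Lrot147 (Lpr_ct (f125680 IH) (Lpe (f125689 IH) (Lpr_ct (f69135 IH) (Lpr_df (K2.f79141 IH) (Lpe (K0.f23450 IH) (Lpe (f124590 IH) (Lpr_cf (f129634 IH) (Lpe (f129644 IH) (Lpe (K3.f26155 IH) (Lpn (LP (LK LD1_c1 LD2_c32 LD3_c31))))))))))))
theorem f62305 : Led Lsl_ft (LP (LK LD1_c1 LD2_c41 LD3_c3)) = (LP (LK LD1_c0 LD2_c47 LD3_c2)) :=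
  Lre_f IH (LK LD1_c1 LD2_c41 LD3_c3) (LK LD1_c0 LD2_c47 LD3_c2) Lrfl Lrfl
theorem f90473 : Led Lsl_bf (LP (LK LD1_c1 LD2_c41 LD3_c3)) = (LP (LK LD1_c3 LD2_c23 LD3_c19)) :=
  Lgr Lrot61 (Lpr_ft (f62305 IH) (Lpr_bt (K2.f62176 IH) (Lpr_ft (K3.f90471 IH) (Lpn (LP (LK LD1_c3 LD2_c23 LD3_c19))))))
theorem f26164 : Led Lsl_gt (LP (LK LD1_c3 LD2_c14 LD3_c37)) = (LP (LK LD1_c1 LD2_c33 LD3_c50)) :=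
  Lre_g IH (LK LD1_c3 LD2_c14 LD3_c37) (LK LD1_c1 LD2_c33 LD3_c50) Lrfl Lrfl
theorem f129898 : Led Lsl_ct (LP (LK LD1_c3 LD2_c23 LD3_c19)) = (LP (LK LD1_c3 LD2_c14 LD3_c37)) :=
  Lgr Lrot64 (Lpe (f90473 IH) (Lpr_gf (K3.f94121 IH) (Lpe (f79115 IH) (Lpr_ct (f79125 IH) (Lpr_gf (f125689 IH) (Lpe (f125680 IH) (Lpr_gf (f129646 IH) (Lpe (K3.f26156 IH) (Lpr_ct (K3.f26162 IH) (Lpe (f26164 IH) (Lpn (LP (LK LD1_c3 LD2_c14 LD3_c37)))))))))))))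
theorem f89780 : Led Lsl_at (LP (LK LD1_c0 LD2_c52 LD3_c30)) = (LP (LK LD1_c1 LD2_c51 LD3_c17)) :=
  Lre_a IH (LK LD1_c0 LD2_c52 LD3_c30) (LK LD1_c1 LD2_c51 LD3_c17) Lrfl Lrfl
theorem f89823 : Led Lsl_gt (LP (LK LD1_c2 LD2_c21 LD3_c48)) = (LP (LK LD1_c1 LD2_c51 LD3_c17)) :=
  Lgr Lrot46 (Lpe (K3.f87622 IH) (Lpr_ft (K2.f89759 IH) (Lpr_at (f89780 IH) (Lpn (LP (LK LD1_c1 LD2_c51 LD3_c17))))))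
theorem f77840 : Led Lsl_ct (LP (LK LD1_c0 LD2_c45 LD3_c14)) = (LP (LK LD1_c1 LD2_c6 LD3_c37)) :=
  Lgr Lrot83 (Lpe (K4.f25139 IH) (Lpr_cf (K4.f77838 IH) (Lpr_bf (K3.f61675 IH) (Lpe (K4.f61707 IH) (Lpe (f61708 IH) (Lpn (LP (LK LD1_c1 LD2_c6 LD3_c37))))))))
theorem f24143 : Led Lsl_ct (LP (LK LD1_c1 LD2_c34 LD3_c0)) = (LP (LK LD1_c0 LD2_c43 LD3_c37)) :=
  Lre_c IH (LK LD1_c1 LD2_c34 LD3_c0) (LK LD1_c0 LD2_c43 LD3_c37) Lrfl Lrfl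
theorem f126569 : Led Lsl_dt (LP (LK LD1_c3 LD2_c14 LD3_c60)) = (LP (LK LD1_c1 LD2_c34 LD3_c0)) :=
  Lre_d IH (LK LD1_c3 LD2_c14 LD3_c60) (LK LD1_c1 LD2_c34 LD3_c0) Lrfl Lrfl
theorem f111897 : Led Lsl_dt (LP (LK LD1_c1 LD2_c34 LD3_c3)) = (LP (LK LD1_c1 LD2_c50 LD3_c42)) :=
  Lgr Lrot60 (Lpr_ff (K4.f111893 IH) (Lpe (f64306 IH) (Lpe (K2.f89759 IH) (Lpn (LP (LK LD1_c1 LD2_c50 LD3_c42))))))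
theorem f12017 : Led Lsl_et (LP (LK LD1_c3 LD2_c47 LD3_c10)) = (LP (LK LD1_c1 LD2_c50 LD3_c42)) :=
  Lre_e IH (LK LD1_c3 LD2_c47 LD3_c10) (LK LD1_c1 LD2_c50 LD3_c42) Lrfl Lrfl
theorem f12019 : Led Lsl_ct (LP (LK LD1_c1 LD2_c50 LD3_c42)) = (LP (LK LD1_c1 LD2_c40 LD3_c11)) :=
  Lgr Lrot15 (Lpe (f12017 IH) (Lpr_cf (K3.f12006 IH) (Lpe (f12018 IH) (Lpn (LP (LK LD1_c1 LD2_c40 LD3_c11))))))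
theorem f111905 : Led Lsl_at (LP (LK LD1_c1 LD2_c34 LD3_c2)) = (LP (LK LD1_c1 LD2_c51 LD3_c18)) :=
  Lgr Lrot100 (Lpr_af (f111903 IH) (Lpn (LP (LK LD1_c1 LD2_c51 LD3_c18))))
theorem f126506 : Led Lsl_cf (LP (LK LD1_c1 LD2_c34 LD3_c2)) = (LP (LK LD1_c1 LD2_c49 LD3_c44)) :=
  Lgr Lrot1 (Lpr_at (f111905 IH) (Lpe (K4.f89394 IH) (Lpr_at (f126502 IH) (Lpn (LP (LK LD1_c1 LD2_c49 LD3_c44))))))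
theorem f111910 : Led Lsl_dt (LP (LK LD1_c1 LD2_c34 LD3_c2)) = (LP (LK LD1_c1 LD2_c51 LD3_c17)) :=
  Lgr Lrot44 (Lpr_af (f111903 IH) (Lpe (f64306 IH) (Lpe (K3.f89755 IH) (Lpn (LP (LK LD1_c1 LD2_c51 LD3_c17))))))
theorem f129600 : Led Lsl_cf (LP (LK LD1_c3 LD2_c14 LD3_c60)) = (LP (LK LD1_c1 LD2_c51 LD3_c17)) :=
  Lgr Lrot55 (Lpr_dt (f126569 IH) (Lpr_ct (f24143 IH) (Lpe (f126566 IH) (Lpr_ct (f77840 IH) (Lpr_dt (f129596 IH) (Lpe (K4.f62892 IH) (Lpr_dt (f111897 IH) (Lpr_ct (f12019 IH) (Lpe (K4.f112954 IH) (Lpr_ct (K4.f24147 IH) (Lpr_dt (f112960 IH) (Lpe (f126556 IH) (Lpr_dt (f126550 IH) (Lpe (f126506 IH) (Lpr_dt (f111910 IH) (Lpn (LP (LK LD1_c1 LD2_c51 LD3_c17))))))))))))))))))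
theorem f127352 : Led Lsl_gt (LP (LK LD1_c3 LD2_c14 LD3_c60)) = (LP (LK LD1_c3 LD2_c27 LD3_c10)) :=
  Lgr Lrot9 (Lpe (f126563 IH) (Lpe (f127325 IH) (Lpr_ct (f127350 IH) (Lpe (f116722 IH) (Lpr_ct (K4.f89322 IH) (Lpe (f64306 IH) (Lpe (K4.f11852 IH) (Lpe (K4.f17462 IH) (Lpr_cf (K4.f116692 IH) (Lpn (LP (LK LD1_c3 LD2_c27 LD3_c10))))))))))))
theorem f129908 : Led Lsl_dt (LP (LK LD1_c3 LD2_c48 LD3_c12)) = (LP (LK LD1_c3 LD2_c14 LD3_c37)) :=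
  Lgr Lrot27 (Lpr_cf (K4.f116692 IH) (Lpe (f127352 IH) (Lpr_cf (f129600 IH) (Lpe (f89823 IH) (Lpe (K3.f78112 IH) (Lpr_gt (K2.f78097 IH) (Lpe (K2.f78103 IH) (Lpe (K3.f103184 IH) (Lpr_ct (f129898 IH) (Lpn (LP (LK LD1_c3 LD2_c14 LD3_c37))))))))))))
theorem f97862 : Led Lsl_bt (LP (LK LD1_c3 LD2_c27 LD3_c11)) = (LP (LK LD1_c3 LD2_c50 LD3_c48)) :=
  Lgr Lrot127 (Lpr_bf (K3.f97859 IH) (Lpn (LP (LK LD1_c3 LD2_c50 LD3_c48))))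
theorem f127255 : Led Lsl_dt (LP (LK LD1_c2 LD2_c20 LD3_c4)) = (LP (LK LD1_c3 LD2_c27 LD3_c11)) :=
  Lgr Lrot79 (Lpe (K4.f111088 IH) (Lpr_df (f127253 IH) (Lpe (f97862 IH) (Lpn (LP (LK LD1_c3 LD2_c27 LD3_c11))))))
theorem f129923 : Led Lsl_gf (LP (LK LD1_c3 LD2_c48 LD3_c12)) = (LP (LK LD1_c3 LD2_c27 LD3_c11)) :=
  Lgr Lrot143 (Lpr_dt (f129908 IH) (Lpe (f129898 IH) (Lpe (f90487 IH) (Lpe (K4.f113325 IH) (Lpr_df (f126508 IH) (Lpe (f95632 IH) (Lpe (K3.f91960 IH) (Lpe (f129608 IH) (Lpr_dt (f127255 IH) (Lpn (LP (LK LD1_c3 LD2_c27 LD3_c11))))))))))))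
theorem f129900 : Led Lsl_af (LP (LK LD1_c3 LD2_c23 LD3_c20)) = (LP (LK LD1_c3 LD2_c14 LD3_c37)) :=
  Lgr Lrot68 (Lpr_ct (K4.f83907 IH) (Lpr_at (K3.f83917 IH) (Lpr_ct (f129898 IH) (Lpn (LP (LK LD1_c3 LD2_c14 LD3_c37))))))
theorem f24342 : Led Lsl_ct (LP (LK LD1_c1 LD2_c33 LD3_c54)) = (LP (LK LD1_c0 LD2_c43 LD3_c32)) :=
  Lre_c IH (LK LD1_c1 LD2_c33 LD3_c54) (LK LD1_c0 LD2_c43 LD3_c32) Lrfl Lrfl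
theorem f64414 : Led Lsl_cf (LP (LK LD1_c1 LD2_c36 LD3_c19)) = (LP (LK LD1_c1 LD2_c51 LD3_c16)) :=
  Lgr Lrot11 (Lpr_ct (K4.f64307 IH) (Lpn (LP (LK LD1_c1 LD2_c51 LD3_c16))))
theorem f89778 : Led Lsl_gf (LP (LK LD1_c1 LD2_c51 LD3_c16)) = (LP (LK LD1_c3 LD2_c19 LD3_c49)) :=
  Lgr Lrot47 (Lpr_gt (K4.f11853 IH) (Lpe (K3.f89755 IH) (Lpr_ff (K3.f89772 IH) (Lpn (LP (LK LD1_c3 LD2_c19 LD3_c49))))))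
theorem f107387 : Led Lsl_dt (LP (LK LD1_c3 LD2_c48 LD3_c11)) = (LP (LK LD1_c3 LD2_c14 LD3_c36)) :=
  Lgr Lrot6 (Lpe (f89832 IH) (Lpe (K3.f89813 IH) (Lpe (f89778 IH) (Lpe (f64414 IH) (Lpe (K1.f57251 IH) (Lpe (K2.f56740 IH) (Lpe (K4.f103515 IH) (Lpe (f24342 IH) (Lpr_gf (K4.f107385 IH) (Lpn (LP (LK LD1_c3 LD2_c14 LD3_c36))))))))))))
theorem f129588 : Led Lsl_df (LP (LK LD1_c3 LD2_c27 LD3_c9)) = (LP (LK LD1_c3 LD2_c23 LD3_c20)) :=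
  Lgr Lrot106 (Lpr_ct (f129581 IH) (Lpr_dt (f107387 IH) (Lpr_ct (K3.f104291 IH) (Lpr_dt (K3.f90233 IH) (Lpr_ct (K2.f17666 IH) (Lpr_af (K3.f90364 IH) (Lpr_ff (K2.f90188 IH) (Lpr_dt (K3.f83723 IH) (Lpr_ct (K3.f77323 IH) (Lpn (LP (LK LD1_c3 LD2_c23 LD3_c20))))))))))))
theorem f129916 : Led Lsl_af (LP (LK LD1_c3 LD2_c48 LD3_c12)) = (LP (LK LD1_c3 LD2_c27 LD3_c9)) :=
  Lgr Lrot117 (Lpr_dt (f129908 IH) (Lpe (f129900 IH) (Lpe (f129588 IH) (Lpn (LP (LK LD1_c3 LD2_c27 LD3_c9))))))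
theorem f129925 : Led Lsl_ff (LP (LK LD1_c3 LD2_c27 LD3_c9)) = (LP (LK LD1_c3 LD2_c48 LD3_c11)) :=
  Lgr Lrot52 (Lpe (f129916 IH) (Lpr_gf (f129923 IH) (Lpr_gf (f89832 IH) (Lpn (LP (LK LD1_c3 LD2_c48 LD3_c11))))))
theorem f130011 : Led Lsl_ft (LP (LK LD1_c3 LD2_c27 LD3_c9)) = (LP (LK LD1_c3 LD2_c48 LD3_c11)) :=
  Lgr Lrot48 (Lpr_ff (f129925 IH) (Lpn (LP (LK LD1_c3 LD2_c48 LD3_c11))))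
theorem f130013 : Led Lsl_ff (LP (LK LD1_c3 LD2_c23 LD3_c20)) = (LP (LK LD1_c3 LD2_c14 LD3_c36)) :=
  Lgr Lrot19 (Lpe (f129588 IH) (Lpr_ft (f130011 IH) (Lpr_dt (f107387 IH) (Lpn (LP (LK LD1_c3 LD2_c14 LD3_c36))))))
theorem f83918 : Led Lsl_bt (LP (LK LD1_c3 LD2_c23 LD3_c20)) = (LP (LK LD1_c6 LD2_c49 LD3_c60)) :=
  Lre_b IH (LK LD1_c3 LD2_c23 LD3_c20) (LK LD1_c6 LD2_c49 LD3_c60) Lrfl Lrfl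
theorem f91854 : Led Lsl_bt (LP (LK LD1_c6 LD2_c32 LD3_c44)) = (LP (LK LD1_c3 LD2_c14 LD3_c36)) :=
  Lre_b IH (LK LD1_c6 LD2_c32 LD3_c44) (LK LD1_c3 LD2_c14 LD3_c36) Lrfl Lrfl
theorem f130082 : Led Lsl_ft (LP (LK LD1_c6 LD2_c49 LD3_c60)) = (LP (LK LD1_c6 LD2_c32 LD3_c44)) :=
  Lgr Lrot75 (Lpe (f83918 IH) (Lpr_ff (f130013 IH) (Lpe (f91854 IH) (Lpn (LP (LK LD1_c6 LD2_c32 LD3_c44))))))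
theorem f93264 : Led Lsl_ct (LP (LK LD1_c3 LD2_c23 LD3_c22)) = (LP (LK LD1_c6 LD2_c49 LD3_c60)) :=
  Lre_c IH (LK LD1_c3 LD2_c23 LD3_c22) (LK LD1_c6 LD2_c49 LD3_c60) Lrfl Lrfl
theorem f83915 : Led Lsl_bt (LP (LK LD1_c1 LD2_c38 LD3_c3)) = (LP (LK LD1_c3 LD2_c23 LD3_c22)) :=
  Lre_b IH (LK LD1_c1 LD2_c38 LD3_c3) (LK LD1_c3 LD2_c23 LD3_c22) Lrfl Lrfl
theorem f93269 : Led Lsl_bt (LP (LK LD1_c6 LD2_c49 LD3_c32)) = (LP (LK LD1_c3 LD2_c23 LD3_c1)) :=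
  Lre_b IH (LK LD1_c6 LD2_c49 LD3_c32) (LK LD1_c3 LD2_c23 LD3_c1) Lrfl Lrfl
theorem f94026 : Led Lsl_ft (LP (LK LD1_c3 LD2_c23 LD3_c22)) = (LP (LK LD1_c6 LD2_c49 LD3_c32)) :=
  Lgr Lrot75 (Lpe (f83915 IH) (Lpr_ff (K3.f93995 IH) (Lpe (f93269 IH) (Lpn (LP (LK LD1_c6 LD2_c49 LD3_c32))))))
theorem f94030 : Led Lsl_ff (LP (LK LD1_c3 LD2_c23 LD3_c22)) = (LP (LK LD1_c6 LD2_c49 LD3_c32)) :=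
  Lgr Lrot3 (Lpr_ft (f94026 IH) (Lpn (LP (LK LD1_c6 LD2_c49 LD3_c32))))
theorem f130085 : Led Lsl_cf (LP (LK LD1_c6 LD2_c49 LD3_c32)) = (LP (LK LD1_c6 LD2_c32 LD3_c44)) :=
  Lgr Lrot108 (Lpe (f94030 IH) (Lpr_ct (f93264 IH) (Lpr_ft (f130082 IH) (Lpn (LP (LK LD1_c6 LD2_c32 LD3_c44))))))
theorem f56741 : Led Lsl_bt (LP (LK LD1_c0 LD2_c44 LD3_c38)) = (LP (LK LD1_c1 LD2_c21 LD3_c10)) :=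
  Lgr Lrot128 (Lpe (K2.f56740 IH) (Lpe (K2.f56679 IH) (Lpr_cf (K1.f56671 IH) (Lpe (K1.f56673 IH) (Lpe (K1.f56674 IH) (Lpn (LP (LK LD1_c1 LD2_c21 LD3_c10))))))))
theorem f56814 : Led Lsl_gt (LP (LK LD1_c1 LD2_c21 LD3_c10)) = (LP (LK LD1_c2 LD2_c50 LD3_c14)) :=
  Lre_g IH (LK LD1_c1 LD2_c21 LD3_c10) (LK LD1_c2 LD2_c50 LD3_c14) Lrfl Lrfl
theorem f57528 : Led Lsl_bt (LP (LK LD1_c5 LD2_c48 LD3_c18)) = (LP (LK LD1_c2 LD2_c50 LD3_c14)) :=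
  Lre_b IH (LK LD1_c5 LD2_c48 LD3_c18) (LK LD1_c2 LD2_c50 LD3_c14) Lrfl Lrfl
theorem f57529 : Led Lsl_ct (LP (LK LD1_c5 LD2_c48 LD3_c18)) = (LP (LK LD1_c11 LD2_c26 LD3_c5)) :=
  Lre_c IH (LK LD1_c5 LD2_c48 LD3_c18) (LK LD1_c11 LD2_c26 LD3_c5) Lrfl Lrfl
theorem f130102 : Led Lsl_gf (LP (LK LD1_c6 LD2_c49 LD3_c32)) = (LP (LK LD1_c11 LD2_c26 LD3_c5)) :=
  Lgr Lrot126 (Lpr_cf (f130085 IH) (Lpr_bt (f91854 IH) (Lpe (K4.f107385 IH) (Lpr_ct (f24342 IH) (Lpr_gt (K4.f103515 IH) (Lpe (K1.f352 IH) (Lpr_bt (f56741 IH) (Lpr_gt (f56814 IH) (Lpe (f57528 IH) (Lpr_ct (f57529 IH) (Lpn (LP (LK LD1_c11 LD2_c26 LD3_c5)))))))))))))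
theorem f107391 : Led Lsl_bt (LP (LK LD1_c3 LD2_c14 LD3_c42)) = (LP (LK LD1_c1 LD2_c33 LD3_c54)) :=
  Lre_b IH (LK LD1_c3 LD2_c14 LD3_c42) (LK LD1_c1 LD2_c33 LD3_c54) Lrfl Lrfl
theorem f130105 : Led Lsl_gt (LP (LK LD1_c6 LD2_c53 LD3_c61)) = (LP (LK LD1_c5 LD2_c48 LD3_c18)) :=
  Lgr Lrot82 (Lpe (f127682 IH) (Lpe (f127668 IH) (Lpe (f95271 IH) (Lpe (f107392 IH) (Lpr_bt (f107391 IH) (Lpr_gf (K4.f107385 IH) (Lpe (f91854 IH) (Lpe (f130085 IH) (Lpr_gf (f130102 IH) (Lpe (f57529 IH) (Lpn (LP (LK LD1_c5 LD2_c48 LD3_c18)))))))))))))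
theorem f127723 : Led Lsl_ft (LP (LK LD1_c6 LD2_c53 LD3_c61)) = (LP (LK LD1_c7 LD2_c32 LD3_c50)) :=
  Lgr Lrot101 (Lpe (f127718 IH) (Lpr_ff (f127721 IH) (Lpe (f88253 IH) (Lpn (LP (LK LD1_c7 LD2_c32 LD3_c50))))))
theorem f130109 : Led Lsl_gf (LP (LK LD1_c3 LD2_c45 LD3_c61)) = (LP (LK LD1_c5 LD2_c48 LD3_c18)) :=
  Lgr Lrot76 (Lpe (f88253 IH) (Lpe (f127723 IH) (Lpr_gt (f130105 IH) (Lpn (LP (LK LD1_c5 LD2_c48 LD3_c18))))))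
theorem f88156 : Led Lsl_df (LP (LK LD1_c1 LD2_c51 LD3_c14)) = (LP (LK LD1_c3 LD2_c45 LD3_c61)) :=
  Lgr Lrot12 (Lpr_bt (f64622 IH) (Lpr_dt (K3.f87930 IH) (Lpr_bt (f88155 IH) (Lpn (LP (LK LD1_c3 LD2_c45 LD3_c61))))))
theorem f120810 : Led Lsl_dt (LP (LK LD1_c1 LD2_c48 LD3_c32)) = (LP (LK LD1_c3 LD2_c42 LD3_c61)) :=
  Lre_d IH (LK LD1_c1 LD2_c48 LD3_c32) (LK LD1_c3 LD2_c42 LD3_c61) Lrfl Lrfl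
theorem f98621 : Led Lsl_at (LP (LK LD1_c0 LD2_c46 LD3_c7)) = (LP (LK LD1_c0 LD2_c43 LD3_c53)) :=
  Lgr Lrot66 (Lpe (K3.f94275 IH) (Lpe (K3.f98611 IH) (Lpr_ff (K3.f98612 IH) (Lpn (LP (LK LD1_c0 LD2_c43 LD3_c53))))))
theorem f12583 : Led Lsl_dt (LP (LK LD1_c1 LD2_c39 LD3_c37)) = (LP (LK LD1_c3 LD2_c25 LD3_c58)) :=
  Lre_d IH (LK LD1_c1 LD2_c39 LD3_c37) (LK LD1_c3 LD2_c25 LD3_c58) Lrfl Lrfl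
theorem f12587 : Led Lsl_ct (LP (LK LD1_c3 LD2_c25 LD3_c58)) = (LP (LK LD1_c6 LD2_c53 LD3_c49)) :=
  Lre_c IH (LK LD1_c3 LD2_c25 LD3_c58) (LK LD1_c6 LD2_c53 LD3_c49) Lrfl Lrfl
theorem f124218 : Led Lsl_dt (LP (LK LD1_c6 LD2_c53 LD3_c49)) = (LP (LK LD1_c3 LD2_c39 LD3_c54)) :=
  Lgr Lrot140 (Lpe (f12587 IH) (Lpe (f12583 IH) (Lpe (K3.f12593 IH) (Lpe (K4.f12579 IH) (Lpr_ft (K3.f94275 IH) (Lpr_at (f98621 IH) (Lpr_cf (K4.f124216 IH) (Lpe (K4.f66467 IH) (Lpe (K4.f107289 IH) (Lpn (LP (LK LD1_c3 LD2_c39 LD3_c54))))))))))))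
theorem f125676 : Led Lsl_gt (LP (LK LD1_c3 LD2_c42 LD3_c61)) = (LP (LK LD1_c6 LD2_c53 LD3_c49)) :=
  Lgr Lrot49 (Lpe (f120810 IH) (Lpr_gf (K4.f120807 IH) (Lpe (K4.f12564 IH) (Lpr_gt (f125672 IH) (Lpr_dt (K4.f107288 IH) (Lpr_gt (K4.f107284 IH) (Lpr_dt (f107287 IH) (Lpe (K4.f107289 IH) (Lpe (f124218 IH) (Lpn (LP (LK LD1_c6 LD2_c53 LD3_c49))))))))))))
theorem f12586 : Led Lsl_ct (LP (LK LD1_c6 LD2_c53 LD3_c49)) = (LP (LK LD1_c3 LD2_c25 LD3_c58)) :=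
  Lre_c IH (LK LD1_c6 LD2_c53 LD3_c49) (LK LD1_c3 LD2_c25 LD3_c58) Lrfl Lrfl
theorem f129147 : Led Lsl_gf (LP (LK LD1_c1 LD2_c47 LD3_c13)) = (LP (LK LD1_c3 LD2_c25 LD3_c58)) :=
  Lgr Lrot172 (Lpe (f129145 IH) (Lpr_dt (f129129 IH) (Lpe (K1.f66453 IH) (Lpe (K4.f12565 IH) (Lpe (f12573 IH) (Lpe (K4.f124222 IH) (Lpr_dt (f120810 IH) (Lpr_gt (f125676 IH) (Lpr_ct (f12586 IH) (Lpn (LP (LK LD1_c3 LD2_c25 LD3_c58))))))))))))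
theorem f4458 : Led Lsl_dt (LP (LK LD1_c0 LD2_c50 LD3_c35)) = (LP (LK LD1_c0 LD2_c22 LD3_c51)) :=
  Lre_d IH (LK LD1_c0 LD2_c50 LD3_c35) (LK LD1_c0 LD2_c22 LD3_c51) Lrfl Lrfl
theorem f12918 : Led Lsl_ct (LP (LK LD1_c1 LD2_c47 LD3_c40)) = (LP (LK LD1_c0 LD2_c50 LD3_c35)) :=
  Lre_c IH (LK LD1_c1 LD2_c47 LD3_c40) (LK LD1_c0 LD2_c50 LD3_c35) Lrfl Lrfl
theorem f129158 : Led Lsl_gt (LP (LK LD1_c3 LD2_c14 LD3_c10)) = (LP (LK LD1_c1 LD2_c47 LD3_c40)) :=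
  Lgr Lrot150 (Lpr_cf (f129145 IH) (Lpr_gf (f129147 IH) (Lpe (f12583 IH) (Lpr_gt (K3.f108819 IH) (Lpr_ct (K3.f108816 IH) (Lpr_gt (K3.f4896 IH) (Lpr_ct (K3.f4462 IH) (Lpe (f4458 IH) (Lpe (f12918 IH) (Lpn (LP (LK LD1_c1 LD2_c47 LD3_c40))))))))))))
theorem f12927 : Led Lsl_ct (LP (LK LD1_c0 LD2_c50 LD3_c35)) = (LP (LK LD1_c1 LD2_c47 LD3_c40)) :=
  Lre_c IH (LK LD1_c0 LD2_c50 LD3_c35) (LK LD1_c1 LD2_c47 LD3_c40) Lrfl Lrfl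
theorem f11301 : Led Lsl_dt (LP (LK LD1_c0 LD2_c51 LD3_c20)) = (LP (LK LD1_c0 LD2_c23 LD3_c9)) :=
  Lre_d IH (LK LD1_c0 LD2_c51 LD3_c20) (LK LD1_c0 LD2_c23 LD3_c9) Lrfl Lrfl
theorem f12896 : Led Lsl_bf (LP (LK LD1_c0 LD2_c51 LD3_c20)) = (LP (LK LD1_c0 LD2_c50 LD3_c35)) :=
  Lgr Lrot93 (Lpr_dt (f11301 IH) (Lpr_bt (K4.f12876 IH) (Lpr_dt (K4.f12895 IH) (Lpn (LP (LK LD1_c0 LD2_c50 LD3_c35))))))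
theorem f12928 : Led Lsl_bt (LP (LK LD1_c3 LD2_c44 LD3_c6)) = (LP (LK LD1_c1 LD2_c49 LD3_c6)) :=
  Lre_b IH (LK LD1_c3 LD2_c44 LD3_c6) (LK LD1_c1 LD2_c49 LD3_c6) Lrfl Lrfl
theorem f12929 : Led Lsl_ct (LP (LK LD1_c3 LD2_c44 LD3_c6)) = (LP (LK LD1_c7 LD2_c29 LD3_c3)) :=
  Lre_c IH (LK LD1_c3 LD2_c44 LD3_c6) (LK LD1_c7 LD2_c29 LD3_c3) Lrfl Lrfl
theorem f107578 : Led Lsl_bt (LP (LK LD1_c6 LD2_c53 LD3_c47)) = (LP (LK LD1_c3 LD2_c25 LD3_c58)) :=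
  Lre_b IH (LK LD1_c6 LD2_c53 LD3_c47) (LK LD1_c3 LD2_c25 LD3_c58) Lrfl Lrfl
theorem f102873 : Led Lsl_ct (LP (LK LD1_c6 LD2_c53 LD3_c47)) = (LP (LK LD1_c13 LD2_c6 LD3_c24)) :=
  Lre_c IH (LK LD1_c6 LD2_c53 LD3_c47) (LK LD1_c13 LD2_c6 LD3_c24) Lrfl Lrfl
theorem f129160 : Led Lsl_gt (LP (LK LD1_c7 LD2_c29 LD3_c3)) = (LP (LK LD1_c13 LD2_c6 LD3_c24)) :=
  Lgr Lrot65 (Lpe (f12929 IH) (Lpr_bt (f12928 IH) (Lpe (K4.f12926 IH) (Lpr_bf (f12896 IH) (Lpr_ct (f12927 IH) (Lpe (f129158 IH) (Lpr_cf (f129145 IH) (Lpr_gf (f129147 IH) (Lpe (f107578 IH) (Lpr_ct (f102873 IH) (Lpn (LP (LK LD1_c13 LD2_c6 LD3_c24)))))))))))))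
theorem f103651 : Led Lsl_ct (LP (LK LD1_c13 LD2_c6 LD3_c24)) = (LP (LK LD1_c6 LD2_c53 LD3_c47)) :=
  Lre_c IH (LK LD1_c13 LD2_c6 LD3_c24) (LK LD1_c6 LD2_c53 LD3_c47) Lrfl Lrfl
theorem f97686 : Led Lsl_dt (LP (LK LD1_c3 LD2_c25 LD3_c57)) = (LP (LK LD1_c6 LD2_c53 LD3_c47)) :=
  Lre_d IH (LK LD1_c3 LD2_c25 LD3_c57) (LK LD1_c6 LD2_c53 LD3_c47) Lrfl Lrfl
theorem f123657 : Led Lsl_dt (LP (LK LD1_c7 LD2_c28 LD3_c31)) = (LP (LK LD1_c3 LD2_c43 LD3_c55)) :=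
  Lre_d IH (LK LD1_c7 LD2_c28 LD3_c31) (LK LD1_c3 LD2_c43 LD3_c55) Lrfl Lrfl
theorem f129186 : Led Lsl_gf (LP (LK LD1_c3 LD2_c44 LD3_c6)) = (LP (LK LD1_c7 LD2_c28 LD3_c31)) :=
  Lgr Lrot147 (Lpr_ct (f12929 IH) (Lpr_gt (f129160 IH) (Lpr_ct (f103651 IH) (Lpe (f97686 IH) (Lpe (K4.f96315 IH) (Lpr_gf (K4.f103620 IH) (Lpr_cf (K4.f123644 IH) (Lpe (K4.f123595 IH) (Lpe (f123657 IH) (Lpn (LP (LK LD1_c7 LD2_c28 LD3_c31))))))))))))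
theorem f123658 : Led Lsl_dt (LP (LK LD1_c3 LD2_c43 LD3_c55)) = (LP (LK LD1_c7 LD2_c28 LD3_c31)) :=
  Lre_d IH (LK LD1_c3 LD2_c43 LD3_c55) (LK LD1_c7 LD2_c28 LD3_c31) Lrfl Lrfl
theorem f130116 : Led Lsl_dt (LP (LK LD1_c3 LD2_c45 LD3_c45)) = (LP (LK LD1_c5 LD2_c48 LD3_c18)) :=
  Lgr Lrot57 (Lpe (K4.f103778 IH) (Lpe (K4.f116457 IH) (Lpr_gt (f123945 IH) (Lpr_dt (f123658 IH) (Lpe (f129186 IH) (Lpr_dt (f121113 IH) (Lpr_cf (f121209 IH) (Lpr_df (f88156 IH) (Lpr_gf (f130109 IH) (Lpn (LP (LK LD1_c5 LD2_c48 LD3_c18))))))))))))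
theorem f103682 : Led Lsl_dt (LP (LK LD1_c14 LD2_c12 LD3_c46)) = (LP (LK LD1_c7 LD2_c32 LD3_c11)) :=
  Lre_d IH (LK LD1_c14 LD2_c12 LD3_c46) (LK LD1_c7 LD2_c32 LD3_c11) Lrfl Lrfl
theorem f130124 : Led Lsl_et (LP (LK LD1_c5 LD2_c48 LD3_c18)) = (LP (LK LD1_c11 LD2_c26 LD3_c6)) :=
  Lre_e IH (LK LD1_c5 LD2_c48 LD3_c18) (LK LD1_c11 LD2_c26 LD3_c6) Lrfl Lrfl
theorem f130113 : Led Lsl_dt (LP (LK LD1_c11 LD2_c26 LD3_c6)) = (LP (LK LD1_c20 LD2_c23 LD3_c38)) :=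
  Lre_d IH (LK LD1_c11 LD2_c26 LD3_c6) (LK LD1_c20 LD2_c23 LD3_c38) Lrfl Lrfl
theorem f130125 : Led Lsl_ef (LP (LK LD1_c14 LD2_c12 LD3_c46)) = (LP (LK LD1_c20 LD2_c23 LD3_c38)) :=
  Lgr Lrot73 (Lpr_dt (f103682 IH) (Lpr_et (K4.f103664 IH) (Lpr_dt (f130116 IH) (Lpr_et (f130124 IH) (Lpr_dt (f130113 IH) (Lpn (LP (LK LD1_c20 LD2_c23 LD3_c38))))))))
theorem f130132 : Led Lsl_et (LP (LK LD1_c14 LD2_c12 LD3_c46)) = (LP (LK LD1_c20 LD2_c23 LD3_c38)) :=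
  Lgr Lrot87 (Lpr_ef (f130125 IH) (Lpn (LP (LK LD1_c20 LD2_c23 LD3_c38))))
theorem f130139 : Led Lsl_bt (LP (LK LD1_c20 LD2_c23 LD3_c38)) = (LP (LK LD1_c11 LD2_c26 LD3_c7)) :=
  Lre_b IH (LK LD1_c20 LD2_c23 LD3_c38) (LK LD1_c11 LD2_c26 LD3_c7) Lrfl Lrfl
theorem f130140 : Led Lsl_ef (LP (LK LD1_c13 LD2_c5 LD3_c31)) = (LP (LK LD1_c11 LD2_c26 LD3_c7)) :=
  Lgr Lrot29 (Lpr_bt (K4.f103693 IH) (Lpr_et (f130132 IH) (Lpr_bt (f130139 IH) (Lpn (LP (LK LD1_c11 LD2_c26 LD3_c7))))))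
theorem f103747 : Led Lsl_et (LP (LK LD1_c6 LD2_c53 LD3_c16)) = (LP (LK LD1_c3 LD2_c25 LD3_c41)) :=
  Lre_e IH (LK LD1_c6 LD2_c53 LD3_c16) (LK LD1_c3 LD2_c25 LD3_c41) Lrfl Lrfl
theorem f130148 : Led Lsl_dt (LP (LK LD1_c5 LD2_c48 LD3_c19)) = (LP (LK LD1_c11 LD2_c26 LD3_c7)) :=
  Lre_d IH (LK LD1_c5 LD2_c48 LD3_c19) (LK LD1_c11 LD2_c26 LD3_c7) Lrfl Lrfl
theorem f130149 : Led Lsl_et (LP (LK LD1_c2 LD2_c50 LD3_c14)) = (LP (LK LD1_c5 LD2_c48 LD3_c19)) :=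
  Lre_e IH (LK LD1_c2 LD2_c50 LD3_c14) (LK LD1_c5 LD2_c48 LD3_c19) Lrfl Lrfl
theorem f130150 : Led Lsl_dt (LP (LK LD1_c3 LD2_c25 LD3_c41)) = (LP (LK LD1_c2 LD2_c50 LD3_c14)) :=
  Lgr Lrot77 (Lpe (f103747 IH) (Lpe (K4.f103729 IH) (Lpr_ef (f130140 IH) (Lpe (f130148 IH) (Lpe (f130149 IH) (Lpn (LP (LK LD1_c2 LD2_c50 LD3_c14))))))))
theorem f95244 : Led Lsl_dt (LP (LK LD1_c3 LD2_c25 LD3_c42)) = (LP (LK LD1_c1 LD2_c39 LD3_c28)) :=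
  Lre_d IH (LK LD1_c3 LD2_c25 LD3_c42) (LK LD1_c1 LD2_c39 LD3_c28) Lrfl Lrfl
theorem f130153 : Led Lsl_af (LP (LK LD1_c3 LD2_c25 LD3_c42)) = (LP (LK LD1_c2 LD2_c50 LD3_c14)) :=
  Lgr Lrot117 (Lpr_dt (f95244 IH) (Lpr_at (K4.f102701 IH) (Lpr_dt (f130150 IH) (Lpn (LP (LK LD1_c2 LD2_c50 LD3_c14))))))
theorem f130155 : Led Lsl_at (LP (LK LD1_c3 LD2_c25 LD3_c42)) = (LP (LK LD1_c2 LD2_c50 LD3_c14)) :=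
  Lgr Lrot100 (Lpr_af (f130153 IH) (Lpn (LP (LK LD1_c2 LD2_c50 LD3_c14))))
theorem f56677 : Led Lsl_gt (LP (LK LD1_c2 LD2_c50 LD3_c15)) = (LP (LK LD1_c1 LD2_c21 LD3_c10)) :=
  Lre_g IH (LK LD1_c2 LD2_c50 LD3_c15) (LK LD1_c1 LD2_c21 LD3_c10) Lrfl Lrfl
theorem f130191 : Led Lsl_ff (LP (LK LD1_c3 LD2_c25 LD3_c42)) = (LP (LK LD1_c2 LD2_c50 LD3_c15)) :=
  Lgr Lrot52 (Lpr_at (f130155 IH) (Lpe (f56814 IH) (Lpe (f56677 IH) (Lpn (LP (LK LD1_c2 LD2_c50 LD3_c15))))))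
theorem f130196 : Led Lsl_ft (LP (LK LD1_c3 LD2_c25 LD3_c42)) = (LP (LK LD1_c2 LD2_c50 LD3_c15)) :=
  Lgr Lrot48 (Lpr_ff (f130191 IH) (Lpn (LP (LK LD1_c2 LD2_c50 LD3_c15))))
theorem f94777 : Led Lsl_bt (LP (LK LD1_c1 LD2_c39 LD3_c29)) = (LP (LK LD1_c3 LD2_c25 LD3_c42)) :=
  Lre_b IH (LK LD1_c1 LD2_c39 LD3_c29) (LK LD1_c3 LD2_c25 LD3_c42) Lrfl Lrfl
theorem f109959 : Led Lsl_gf (LP (LK LD1_c2 LD2_c14 LD3_c14)) = (LP (LK LD1_c3 LD2_c25 LD3_c42)) :=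
  Lgr Lrot181 (Lpr_ct (K3.f58944 IH) (Lpr_gt (K3.f92248 IH) (Lpr_cf (K3.f109929 IH) (Lpr_bt (K3.f63809 IH) (Lpr_gt (K3.f63802 IH) (Lpr_bf (K0.f15513 IH) (Lpr_ct (K2.f12034 IH) (Lpe (K2.f15005 IH) (Lpr_cf (K3.f94921 IH) (Lpr_bt (f94777 IH) (Lpn (LP (LK LD1_c3 LD2_c25 LD3_c42)))))))))))))
theorem f92059 : Led Lsl_gt (LP (LK LD1_c2 LD2_c14 LD3_c14)) = (LP (LK LD1_c4 LD2_c34 LD3_c31)) :=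
  Lre_g IH (LK LD1_c2 LD2_c14 LD3_c14) (LK LD1_c4 LD2_c34 LD3_c31) Lrfl Lrfl
theorem f130203 : Led Lsl_af (LP (LK LD1_c4 LD2_c34 LD3_c31)) = (LP (LK LD1_c2 LD2_c50 LD3_c15)) :=
  Lgr Lrot31 (Lpe (f92059 IH) (Lpr_gf (f109959 IH) (Lpr_ft (f130196 IH) (Lpn (LP (LK LD1_c2 LD2_c50 LD3_c15))))))
theorem f130193 : Led Lsl_dt (LP (LK LD1_c3 LD2_c24 LD3_c34)) = (LP (LK LD1_c2 LD2_c50 LD3_c15)) :=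
  Lgr Lrot60 (Lpe (K4.f103752 IH) (Lpe (f95244 IH) (Lpr_ff (f130191 IH) (Lpn (LP (LK LD1_c2 LD2_c50 LD3_c15))))))
theorem f130209 : Led Lsl_dt (LP (LK LD1_c4 LD2_c34 LD3_c31)) = (LP (LK LD1_c6 LD2_c51 LD3_c41)) :=
  Lgr Lrot44 (Lpr_af (f130203 IH) (Lpe (f130193 IH) (Lpe (K4.f65933 IH) (Lpn (LP (LK LD1_c6 LD2_c51 LD3_c41))))))
theorem f23665 : Led Lsl_bt (LP (LK LD1_c1 LD2_c34 LD3_c38)) = (LP (LK LD1_c3 LD2_c15 LD3_c48)) :=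
  Lre_b IH (LK LD1_c1 LD2_c34 LD3_c38) (LK LD1_c3 LD2_c15 LD3_c48) Lrfl Lrfl
theorem f20838 : Led Lsl_bt (LP (LK LD1_c1 LD2_c52 LD3_c30)) = (LP (LK LD1_c0 LD2_c52 LD3_c58)) :=
  Lre_b IH (LK LD1_c1 LD2_c52 LD3_c30) (LK LD1_c0 LD2_c52 LD3_c58) Lrfl Lrfl
theorem f65955 : Led Lsl_dt (LP (LK LD1_c3 LD2_c15 LD3_c48)) = (LP (LK LD1_c1 LD2_c52 LD3_c30)) :=
  Lgr Lrot79 (Lpe (f23665 IH) (Lpr_df (K3.f65774 IH) (Lpe (f20838 IH) (Lpn (LP (LK LD1_c1 LD2_c52 LD3_c30))))))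
theorem f65970 : Led Lsl_at (LP (LK LD1_c1 LD2_c52 LD3_c30)) = (LP (LK LD1_c3 LD2_c51 LD3_c21)) :=
  Lre_a IH (LK LD1_c1 LD2_c52 LD3_c30) (LK LD1_c3 LD2_c51 LD3_c21) Lrfl Lrfl
theorem f65971 : Led Lsl_df (LP (LK LD1_c6 LD2_c34 LD3_c55)) = (LP (LK LD1_c3 LD2_c51 LD3_c21)) :=
  Lgr Lrot18 (Lpr_at (K4.f65938 IH) (Lpr_dt (f65955 IH) (Lpr_at (f65970 IH) (Lpn (LP (LK LD1_c3 LD2_c51 LD3_c21))))))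
theorem f130533 : Led Lsl_gt (LP (LK LD1_c4 LD2_c48 LD3_c51)) = (LP (LK LD1_c3 LD2_c51 LD3_c21)) :=
  Lgr Lrot49 (Lpr_df (K3.f109396 IH) (Lpe (K3.f15090 IH) (Lpe (K4.f15172 IH) (Lpr_gt (K3.f12059 IH) (Lpe (K3.f92034 IH) (Lpr_gt (f92059 IH) (Lpr_dt (f130209 IH) (Lpe (K4.f65934 IH) (Lpr_df (f65971 IH) (Lpn (LP (LK LD1_c3 LD2_c51 LD3_c21))))))))))))
theorem f61821 : Led Lsl_gt (LP (LK LD1_c2 LD2_c14 LD3_c13)) = (LP (LK LD1_c1 LD2_c4 LD3_c10)) :=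
  Lre_g IH (LK LD1_c2 LD2_c14 LD3_c13) (LK LD1_c1 LD2_c4 LD3_c10) Lrfl Lrfl
theorem f130537 : Led Lsl_cf (LP (LK LD1_c2 LD2_c14 LD3_c13)) = (LP (LK LD1_c3 LD2_c51 LD3_c21)) :=
  Lgr Lrot125 (Lpr_gt (f61821 IH) (Lpe (K3.f58944 IH) (Lpr_bt (K3.f92046 IH) (Lpr_gt (K2.f78097 IH) (Lpe (K3.f78105 IH) (Lpe (K3.f78101 IH) (Lpe (K3.f103171 IH) (Lpe (K3.f103175 IH) (Lpr_bt (K3.f103176 IH) (Lpr_gt (f130533 IH) (Lpn (LP (LK LD1_c3 LD2_c51 LD3_c21)))))))))))))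
theorem f65976 : Led Lsl_dt (LP (LK LD1_c6 LD2_c34 LD3_c55)) = (LP (LK LD1_c3 LD2_c51 LD3_c21)) :=
  Lgr Lrot42 (Lpr_df (f65971 IH) (Lpn (LP (LK LD1_c3 LD2_c51 LD3_c21))))
theorem f130214 : Led Lsl_ft (LP (LK LD1_c4 LD2_c34 LD3_c31)) = (LP (LK LD1_c2 LD2_c50 LD3_c14)) :=
  Lgr Lrot101 (Lpr_af (f130203 IH) (Lpe (f130196 IH) (Lpr_af (f130153 IH) (Lpn (LP (LK LD1_c2 LD2_c50 LD3_c14))))))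
theorem f37956 : Led Lsl_dt (LP (LK LD1_c0 LD2_c38 LD3_c18)) = (LP (LK LD1_c1 LD2_c22 LD3_c39)) :=
  Lre_d IH (LK LD1_c0 LD2_c38 LD3_c18) (LK LD1_c1 LD2_c22 LD3_c39) Lrfl Lrfl
theorem f37957 : Led Lsl_ct (LP (LK LD1_c1 LD2_c22 LD3_c39)) = (LP (LK LD1_c2 LD2_c53 LD3_c7)) :=
  Lre_c IH (LK LD1_c1 LD2_c22 LD3_c39) (LK LD1_c2 LD2_c53 LD3_c7) Lrfl Lrfl
theorem f61826 : Led Lsl_bt (LP (LK LD1_c2 LD2_c53 LD3_c7)) = (LP (LK LD1_c3 LD2_c23 LD3_c40)) :=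
  Lgr Lrot178 (Lpe (f37957 IH) (Lpe (f37956 IH) (Lpe (K2.f37955 IH) (Lpe (K2.f37943 IH) (Lpr_cf (K1.f37939 IH) (Lpe (K1.f27290 IH) (Lpe (K0.f8181 IH) (Lpr_bf (K0.f35404 IH) (Lpe (K0.f161 IH) (Lpe (K0.f20083 IH) (Lpe (K0.f20958 IH) (Lpr_bf (K0.f25735 IH) (Lpe (K1.f24968 IH) (Lpe (K1.f24961 IH) (Lpr_gf (K1.f61818 IH) (Lpe (K3.f61825 IH) (Lpe (K2.f14977 IH) (Lpe (K2.f14976 IH) (Lpe (K2.f14580 IH) (Lpn (LP (LK LD1_c3 LD2_c23 LD3_c40))))))))))))))))))))))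
theorem f61839 : Led Lsl_bf (LP (LK LD1_c2 LD2_c53 LD3_c7)) = (LP (LK LD1_c3 LD2_c23 LD3_c40)) :=
  Lgr Lrot24 (Lpr_bt (f61826 IH) (Lpn (LP (LK LD1_c3 LD2_c23 LD3_c40))))
theorem f61846 : Led Lsl_ct (LP (LK LD1_c2 LD2_c53 LD3_c7)) = (LP (LK LD1_c1 LD2_c22 LD3_c39)) :=
  Lre_c IH (LK LD1_c2 LD2_c53 LD3_c7) (LK LD1_c1 LD2_c22 LD3_c39) Lrfl Lrfl
theorem f61862 : Led Lsl_bt (LP (LK LD1_c1 LD2_c22 LD3_c39)) = (LP (LK LD1_c2 LD2_c53 LD3_c2)) :=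
  Lre_b IH (LK LD1_c1 LD2_c22 LD3_c39) (LK LD1_c2 LD2_c53 LD3_c2) Lrfl Lrfl
theorem f94979 : Led Lsl_bt (LP (LK LD1_c3 LD2_c25 LD3_c42)) = (LP (LK LD1_c1 LD2_c39 LD3_c29)) :=
  Lre_b IH (LK LD1_c3 LD2_c25 LD3_c42) (LK LD1_c1 LD2_c39 LD3_c29) Lrfl Lrfl
theorem f94980 : Led Lsl_ct (LP (LK LD1_c2 LD2_c53 LD3_c2)) = (LP (LK LD1_c3 LD2_c25 LD3_c42)) :=
  Lgr Lrot83 (Lpe (f61862 IH) (Lpe (f61846 IH) (Lpr_bf (f61839 IH) (Lpr_cf (K3.f94921 IH) (Lpe (f94979 IH) (Lpn (LP (LK LD1_c3 LD2_c25 LD3_c42))))))))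
theorem f72398 : Led Lsl_dt (LP (LK LD1_c1 LD2_c22 LD3_c37)) = (LP (LK LD1_c2 LD2_c53 LD3_c2)) :=
  Lre_d IH (LK LD1_c1 LD2_c22 LD3_c37) (LK LD1_c2 LD2_c53 LD3_c2) Lrfl Lrfl
theorem f25394 : Led Lsl_ct (LP (LK LD1_c2 LD2_c15 LD3_c39)) = (LP (LK LD1_c2 LD2_c14 LD3_c28)) :=
  Lre_c IH (LK LD1_c2 LD2_c15 LD3_c39) (LK LD1_c2 LD2_c14 LD3_c28) Lrfl Lrfl
theorem f20413 : Led Lsl_bt (LP (LK LD1_c2 LD2_c14 LD3_c28)) = (LP (LK LD1_c1 LD2_c4 LD3_c21)) :=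
  Lre_b IH (LK LD1_c2 LD2_c14 LD3_c28) (LK LD1_c1 LD2_c4 LD3_c21) Lrfl Lrfl
theorem f71214 : Led Lsl_bt (LP (LK LD1_c1 LD2_c22 LD3_c37)) = (LP (LK LD1_c0 LD2_c38 LD3_c18)) :=
  Lre_b IH (LK LD1_c1 LD2_c22 LD3_c37) (LK LD1_c0 LD2_c38 LD3_c18) Lrfl Lrfl
theorem f72259 : Led Lsl_ct (LP (LK LD1_c1 LD2_c4 LD3_c21)) = (LP (LK LD1_c1 LD2_c22 LD3_c37)) :=
  Lgr Lrot83 (Lpe (f20413 IH) (Lpe (f25394 IH) (Lpr_bf (K2.f72255 IH) (Lpe (K2.f71210 IH) (Lpe (f71214 IH) (Lpn (LP (LK LD1_c1 LD2_c22 LD3_c37))))))))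
theorem f130546 : Led Lsl_dt (LP (LK LD1_c2 LD2_c14 LD3_c13)) = (LP (LK LD1_c1 LD2_c4 LD3_c21)) :=
  Lgr Lrot140 (Lpr_cf (f130537 IH) (Lpe (f65976 IH) (Lpr_cf (K4.f65942 IH) (Lpe (f130209 IH) (Lpr_ft (f130214 IH) (Lpe (f130153 IH) (Lpe (f94980 IH) (Lpe (f72398 IH) (Lpe (f72259 IH) (Lpn (LP (LK LD1_c1 LD2_c4 LD3_c21))))))))))))
theorem f130550 : Led Lsl_df (LP (LK LD1_c2 LD2_c14 LD3_c13)) = (LP (LK LD1_c1 LD2_c4 LD3_c21)) :=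
  Lgr Lrot38 (Lpr_dt (f130546 IH) (Lpn (LP (LK LD1_c1 LD2_c4 LD3_c21))))
theorem f130540 : Led Lsl_bt (LP (LK LD1_c2 LD2_c14 LD3_c13)) = (LP (LK LD1_c4 LD2_c34 LD3_c29)) :=
  Lre_b IH (LK LD1_c2 LD2_c14 LD3_c13) (LK LD1_c4 LD2_c34 LD3_c29) Lrfl Lrfl
theorem f130553 : Led Lsl_dt (LP (LK LD1_c4 LD2_c34 LD3_c29)) = (LP (LK LD1_c2 LD2_c14 LD3_c28)) :=
  Lgr Lrot79 (Lpe (f130540 IH) (Lpr_df (f130550 IH) (Lpe (f20413 IH) (Lpn (LP (LK LD1_c2 LD2_c14 LD3_c28))))))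
theorem f20415 : Led Lsl_gt (LP (LK LD1_c1 LD2_c4 LD3_c52)) = (LP (LK LD1_c2 LD2_c15 LD3_c39)) :=
  Lre_g IH (LK LD1_c1 LD2_c4 LD3_c52) (LK LD1_c2 LD2_c15 LD3_c39) Lrfl Lrfl
theorem f20416 : Led Lsl_ct (LP (LK LD1_c0 LD2_c29 LD3_c39)) = (LP (LK LD1_c1 LD2_c4 LD3_c52)) :=
  Lre_c IH (LK LD1_c0 LD2_c29 LD3_c39) (LK LD1_c1 LD2_c4 LD3_c52) Lrfl Lrfl
theorem f25135 : Led Lsl_gt (LP (LK LD1_c0 LD2_c13 LD3_c2)) = (LP (LK LD1_c0 LD2_c29 LD3_c39)) :=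
  Lre_g IH (LK LD1_c0 LD2_c13 LD3_c2) (LK LD1_c0 LD2_c29 LD3_c39) Lrfl Lrfl
theorem f79956 : Led Lsl_dt (LP (LK LD1_c0 LD2_c13 LD3_c2)) = (LP (LK LD1_c0 LD2_c29 LD3_c42)) :=
  Lre_d IH (LK LD1_c0 LD2_c13 LD3_c2) (LK LD1_c0 LD2_c29 LD3_c42) Lrfl Lrfl
theorem f40608 : Led Lsl_gt (LP (LK LD1_c0 LD2_c29 LD3_c42)) = (LP (LK LD1_c1 LD2_c4 LD3_c61)) :=
  Lre_g IH (LK LD1_c0 LD2_c29 LD3_c42) (LK LD1_c1 LD2_c4 LD3_c61) Lrfl Lrfl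
theorem f40639 : Led Lsl_ct (LP (LK LD1_c1 LD2_c4 LD3_c61)) = (LP (LK LD1_c2 LD2_c16 LD3_c4)) :=
  Lre_c IH (LK LD1_c1 LD2_c4 LD3_c61) (LK LD1_c2 LD2_c16 LD3_c4) Lrfl Lrfl
theorem f99567 : Led Lsl_gt (LP (LK LD1_c2 LD2_c16 LD3_c4)) = (LP (LK LD1_c4 LD2_c37 LD3_c48)) :=
  Lre_g IH (LK LD1_c2 LD2_c16 LD3_c4) (LK LD1_c4 LD2_c37 LD3_c48) Lrfl Lrfl
theorem f130558 : Led Lsl_cf (LP (LK LD1_c4 LD2_c34 LD3_c29)) = (LP (LK LD1_c4 LD2_c37 LD3_c48)) :=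
  Lgr Lrot175 (Lpr_dt (f130553 IH) (Lpe (f25394 IH) (Lpe (f20415 IH) (Lpe (f20416 IH) (Lpe (f25135 IH) (Lpr_dt (f79956 IH) (Lpr_gt (f40608 IH) (Lpr_ct (f40639 IH) (Lpr_gt (f99567 IH) (Lpn (LP (LK LD1_c4 LD2_c37 LD3_c48))))))))))))
theorem f130562 : Led Lsl_ct (LP (LK LD1_c4 LD2_c34 LD3_c29)) = (LP (LK LD1_c4 LD2_c37 LD3_c48)) :=
  Lgr Lrot59 (Lpr_cf (f130558 IH) (Lpn (LP (LK LD1_c4 LD2_c37 LD3_c48))))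
theorem f115818 : Led Lsl_dt (LP (LK LD1_c3 LD2_c29 LD3_c51)) = (LP (LK LD1_c7 LD2_c1 LD3_c18)) :=
  Lre_d IH (LK LD1_c3 LD2_c29 LD3_c51) (LK LD1_c7 LD2_c1 LD3_c18) Lrfl Lrfl
theorem f115864 : Led Lsl_bt (LP (LK LD1_c7 LD2_c1 LD3_c18)) = (LP (LK LD1_c3 LD2_c51 LD3_c21)) :=
  Lgr Lrot95 (Lpe (f115818 IH) (Lpr_bf (K4.f115857 IH) (Lpr_df (f65971 IH) (Lpn (LP (LK LD1_c3 LD2_c51 LD3_c21))))))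
theorem f130567 : Led Lsl_bt (LP (LK LD1_c4 LD2_c37 LD3_c48)) = (LP (LK LD1_c9 LD2_c11 LD3_c14)) :=
  Lre_b IH (LK LD1_c4 LD2_c37 LD3_c48) (LK LD1_c9 LD2_c11 LD3_c14) Lrfl Lrfl
theorem f130578 : Led Lsl_cf (LP (LK LD1_c7 LD2_c1 LD3_c18)) = (LP (LK LD1_c9 LD2_c11 LD3_c14)) :=
  Lgr Lrot97 (Lpr_bt (f115864 IH) (Lpe (f130537 IH) (Lpr_bt (f130540 IH) (Lpr_ct (f130562 IH) (Lpr_bt (f130567 IH) (Lpn (LP (LK LD1_c9 LD2_c11 LD3_c14))))))))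
theorem f115820 : Led Lsl_et (LP (LK LD1_c7 LD2_c1 LD3_c18)) = (LP (LK LD1_c13 LD2_c19 LD3_c8)) :=
  Lre_e IH (LK LD1_c7 LD2_c1 LD3_c18) (LK LD1_c13 LD2_c19 LD3_c8) Lrfl Lrfl
theorem f130584 : Led Lsl_et (LP (LK LD1_c17 LD2_c4 LD3_c45)) = (LP (LK LD1_c9 LD2_c11 LD3_c14)) :=
  Lre_e IH (LK LD1_c17 LD2_c4 LD3_c45) (LK LD1_c9 LD2_c11 LD3_c14) Lrfl Lrfl
theorem f130585 : Led Lsl_ct (LP (LK LD1_c13 LD2_c19 LD3_c8)) = (LP (LK LD1_c17 LD2_c4 LD3_c45)) :=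
  Lgr Lrot15 (Lpe (f115820 IH) (Lpr_cf (f130578 IH) (Lpe (f130584 IH) (Lpn (LP (LK LD1_c17 LD2_c4 LD3_c45))))))
theorem f130576 : Led Lsl_bt (LP (LK LD1_c17 LD2_c4 LD3_c45)) = (LP (LK LD1_c9 LD2_c11 LD3_c15)) :=
  Lre_b IH (LK LD1_c17 LD2_c4 LD3_c45) (LK LD1_c9 LD2_c11 LD3_c15) Lrfl Lrfl
theorem f130560 : Led Lsl_et (LP (LK LD1_c4 LD2_c34 LD3_c29)) = (LP (LK LD1_c9 LD2_c5 LD3_c54)) :=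
  Lre_e IH (LK LD1_c4 LD2_c34 LD3_c29) (LK LD1_c9 LD2_c5 LD3_c54) Lrfl Lrfl
theorem f130564 : Led Lsl_et (LP (LK LD1_c9 LD2_c11 LD3_c15)) = (LP (LK LD1_c4 LD2_c37 LD3_c48)) :=
  Lre_e IH (LK LD1_c9 LD2_c11 LD3_c15) (LK LD1_c4 LD2_c37 LD3_c48) Lrfl Lrfl
theorem f130565 : Led Lsl_ct (LP (LK LD1_c9 LD2_c5 LD3_c54)) = (LP (LK LD1_c9 LD2_c11 LD3_c15)) :=
  Lgr Lrot15 (Lpe (f130560 IH) (Lpr_cf (f130558 IH) (Lpe (f130564 IH) (Lpn (LP (LK LD1_c9 LD2_c11 LD3_c15))))))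
theorem f130570 : Led Lsl_cf (LP (LK LD1_c9 LD2_c5 LD3_c54)) = (LP (LK LD1_c9 LD2_c11 LD3_c15)) :=
  Lgr Lrot11 (Lpr_ct (f130565 IH) (Lpn (LP (LK LD1_c9 LD2_c11 LD3_c15))))
theorem f130575 : Led Lsl_bt (LP (LK LD1_c9 LD2_c5 LD3_c54)) = (LP (LK LD1_c4 LD2_c34 LD3_c30)) :=
  Lre_b IH (LK LD1_c9 LD2_c5 LD3_c54) (LK LD1_c4 LD2_c34 LD3_c30) Lrfl Lrfl
theorem f130543 : Led Lsl_et (LP (LK LD1_c2 LD2_c14 LD3_c13)) = (LP (LK LD1_c4 LD2_c34 LD3_c30)) :=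
  Lre_e IH (LK LD1_c2 LD2_c14 LD3_c13) (LK LD1_c4 LD2_c34 LD3_c30) Lrfl Lrfl
theorem f65978 : Led Lsl_et (LP (LK LD1_c7 LD2_c44 LD3_c9)) = (LP (LK LD1_c3 LD2_c51 LD3_c21)) :=
  Lre_e IH (LK LD1_c7 LD2_c44 LD3_c9) (LK LD1_c3 LD2_c51 LD3_c21) Lrfl Lrfl
theorem f130544 : Led Lsl_ct (LP (LK LD1_c4 LD2_c34 LD3_c30)) = (LP (LK LD1_c7 LD2_c44 LD3_c9)) :=
  Lgr Lrot15 (Lpe (f130543 IH) (Lpr_cf (f130537 IH) (Lpe (f65978 IH) (Lpn (LP (LK LD1_c7 LD2_c44 LD3_c9))))))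
theorem f130589 : Led Lsl_bf (LP (LK LD1_c13 LD2_c19 LD3_c8)) = (LP (LK LD1_c7 LD2_c44 LD3_c9)) :=
  Lgr Lrot90 (Lpr_ct (f130585 IH) (Lpr_bt (f130576 IH) (Lpe (f130570 IH) (Lpr_bt (f130575 IH) (Lpr_ct (f130544 IH) (Lpn (LP (LK LD1_c7 LD2_c44 LD3_c9))))))))
theorem f130596 : Led Lsl_dt (LP (LK LD1_c13 LD2_c19 LD3_c8)) = (LP (LK LD1_c22 LD2_c35 LD3_c32)) :=
  Lre_d IH (LK LD1_c13 LD2_c19 LD3_c8) (LK LD1_c22 LD2_c35 LD3_c32) Lrfl Lrfl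
theorem f65979 : Led Lsl_dt (LP (LK LD1_c14 LD2_c35 LD3_c23)) = (LP (LK LD1_c7 LD2_c44 LD3_c9)) :=
  Lre_d IH (LK LD1_c14 LD2_c35 LD3_c23) (LK LD1_c7 LD2_c44 LD3_c9) Lrfl Lrfl
theorem f130610 : Led Lsl_bt (LP (LK LD1_c22 LD2_c35 LD3_c32)) = (LP (LK LD1_c14 LD2_c35 LD3_c23)) :=
  Lgr Lrot95 (Lpe (f130596 IH) (Lpr_bf (f130589 IH) (Lpe (f65979 IH) (Lpn (LP (LK LD1_c14 LD2_c35 LD3_c23))))))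
theorem f130618 : Led Lsl_bf (LP (LK LD1_c22 LD2_c35 LD3_c32)) = (LP (LK LD1_c14 LD2_c35 LD3_c23)) :=
  Lgr Lrot24 (Lpr_bt (f130610 IH) (Lpn (LP (LK LD1_c14 LD2_c35 LD3_c23))))
theorem f130623 : Led Lsl_at (LP (LK LD1_c22 LD2_c35 LD3_c32)) = (LP (LK LD1_c13 LD2_c19 LD3_c15)) :=
  Lre_a IH (LK LD1_c22 LD2_c35 LD3_c32) (LK LD1_c13 LD2_c19 LD3_c15) Lrfl Lrfl
theorem f130624 : Led Lsl_bt (LP (LK LD1_c13 LD2_c19 LD3_c15)) = (LP (LK LD1_c7 LD2_c1 LD3_c29)) :=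
  Lre_b IH (LK LD1_c13 LD2_c19 LD3_c15) (LK LD1_c7 LD2_c1 LD3_c29) Lrfl Lrfl
theorem f130625 : Led Lsl_at (LP (LK LD1_c7 LD2_c44 LD3_c12)) = (LP (LK LD1_c14 LD2_c35 LD3_c23)) :=
  Lre_a IH (LK LD1_c7 LD2_c44 LD3_c12) (LK LD1_c14 LD2_c35 LD3_c23) Lrfl Lrfl
theorem f130626 : Led Lsl_bt (LP (LK LD1_c3 LD2_c51 LD3_c25)) = (LP (LK LD1_c7 LD2_c44 LD3_c12)) :=
  Lre_b IH (LK LD1_c3 LD2_c51 LD3_c25) (LK LD1_c7 LD2_c44 LD3_c12) Lrfl Lrfl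
theorem f130627 : Led Lsl_at (LP (LK LD1_c7 LD2_c1 LD3_c29)) = (LP (LK LD1_c3 LD2_c51 LD3_c25)) :=
  Lgr Lrot67 (Lpe (f130624 IH) (Lpe (f130623 IH) (Lpr_bf (f130618 IH) (Lpe (f130625 IH) (Lpe (f130626 IH) (Lpn (LP (LK LD1_c3 LD2_c51 LD3_c25))))))))
theorem f96283 : Led Lsl_ft (LP (LK LD1_c13 LD2_c19 LD3_c32)) = (LP (LK LD1_c7 LD2_c1 LD3_c29)) :=
  Lre_f IH (LK LD1_c13 LD2_c19 LD3_c32) (LK LD1_c7 LD2_c1 LD3_c29) Lrfl Lrfl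
theorem f65763 : Led Lsl_ft (LP (LK LD1_c3 LD2_c51 LD3_c25)) = (LP (LK LD1_c7 LD2_c44 LD3_c20)) :=
  Lre_f IH (LK LD1_c3 LD2_c51 LD3_c25) (LK LD1_c7 LD2_c44 LD3_c20) Lrfl Lrfl
theorem f130633 : Led Lsl_af (LP (LK LD1_c13 LD2_c19 LD3_c32)) = (LP (LK LD1_c7 LD2_c44 LD3_c20)) :=
  Lgr Lrot45 (Lpr_ft (f96283 IH) (Lpr_at (f130627 IH) (Lpr_ft (f65763 IH) (Lpn (LP (LK LD1_c7 LD2_c44 LD3_c20))))))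
theorem f96277 : Led Lsl_dt (LP (LK LD1_c13 LD2_c19 LD3_c32)) = (LP (LK LD1_c7 LD2_c1 LD3_c30)) :=
  Lre_d IH (LK LD1_c13 LD2_c19 LD3_c32) (LK LD1_c7 LD2_c1 LD3_c30) Lrfl Lrfl
theorem f65754 : Led Lsl_dt (LP (LK LD1_c3 LD2_c51 LD3_c26)) = (LP (LK LD1_c7 LD2_c44 LD3_c20)) :=
  Lre_d IH (LK LD1_c3 LD2_c51 LD3_c26) (LK LD1_c7 LD2_c44 LD3_c20) Lrfl Lrfl
theorem f130648 : Led Lsl_at (LP (LK LD1_c7 LD2_c1 LD3_c30)) = (LP (LK LD1_c3 LD2_c51 LD3_c26)) :=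
  Lgr Lrot51 (Lpe (f96277 IH) (Lpr_af (f130633 IH) (Lpe (f65754 IH) (Lpn (LP (LK LD1_c3 LD2_c51 LD3_c26))))))
theorem f115658 : Led Lsl_ft (LP (LK LD1_c7 LD2_c1 LD3_c44)) = (LP (LK LD1_c3 LD2_c30 LD3_c0)) :=
  Lre_f IH (LK LD1_c7 LD2_c1 LD3_c44) (LK LD1_c3 LD2_c30 LD3_c0) Lrfl Lrfl
theorem f115659 : Led Lsl_at (LP (LK LD1_c3 LD2_c51 LD3_c20)) = (LP (LK LD1_c7 LD2_c1 LD3_c44)) :=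
  Lgr Lrot66 (Lpe (K4.f65291 IH) (Lpr_af (K4.f115649 IH) (Lpe (f115658 IH) (Lpn (LP (LK LD1_c7 LD2_c1 LD3_c44))))))
theorem f115670 : Led Lsl_af (LP (LK LD1_c3 LD2_c51 LD3_c20)) = (LP (LK LD1_c7 LD2_c1 LD3_c44)) :=
  Lgr Lrot0 (Lpr_at (f115659 IH) (Lpn (LP (LK LD1_c7 LD2_c1 LD3_c44))))
theorem f130657 : Led Lsl_ef (LP (LK LD1_c7 LD2_c1 LD3_c44)) = (LP (LK LD1_c3 LD2_c51 LD3_c26)) :=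
  Lgr Lrot20 (Lpe (f115670 IH) (Lpr_et (K4.f115628 IH) (Lpr_at (f130648 IH) (Lpn (LP (LK LD1_c3 LD2_c51 LD3_c26))))))
theorem f63813 : Led Lsl_et (LP (LK LD1_c3 LD2_c30 LD3_c0)) = (LP (LK LD1_c1 LD2_c41 LD3_c41)) :=
  Lre_e IH (LK LD1_c3 LD2_c30 LD3_c0) (LK LD1_c1 LD2_c41 LD3_c41) Lrfl Lrfl
theorem f65721 : Led Lsl_ft (LP (LK LD1_c1 LD2_c52 LD3_c31)) = (LP (LK LD1_c3 LD2_c51 LD3_c26)) :=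
  Lre_f IH (LK LD1_c1 LD2_c52 LD3_c31) (LK LD1_c3 LD2_c51 LD3_c26) Lrfl Lrfl
theorem f65762 : Led Lsl_et (LP (LK LD1_c0 LD2_c52 LD3_c58)) = (LP (LK LD1_c1 LD2_c52 LD3_c31)) :=
  Lre_e IH (LK LD1_c0 LD2_c52 LD3_c58) (LK LD1_c1 LD2_c52 LD3_c31) Lrfl Lrfl
theorem f130664 : Led Lsl_ft (LP (LK LD1_c1 LD2_c41 LD3_c41)) = (LP (LK LD1_c0 LD2_c52 LD3_c58)) :=
  Lgr Lrot86 (Lpe (f63813 IH) (Lpe (f115658 IH) (Lpr_ef (f130657 IH) (Lpe (f65721 IH) (Lpe (f65762 IH) (Lpn (LP (LK LD1_c0 LD2_c52 LD3_c58))))))))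
theorem f130674 : Led Lsl_ff (LP (LK LD1_c1 LD2_c41 LD3_c41)) = (LP (LK LD1_c0 LD2_c52 LD3_c58)) :=
  Lgr Lrot3 (Lpr_ft (f130664 IH) (Lpn (LP (LK LD1_c0 LD2_c52 LD3_c58))))
theorem f130678 : Led Lsl_ft (LP (LK LD1_c3 LD2_c1 LD3_c50)) = (LP (LK LD1_c1 LD2_c34 LD3_c32)) :=
  Lgr Lrot4 (Lpr_cf (K3.f96043 IH) (Lpr_ff (f130674 IH) (Lpe (K3.f65706 IH) (Lpn (LP (LK LD1_c1 LD2_c34 LD3_c32))))))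
theorem f96103 : Led Lsl_gt (LP (LK LD1_c1 LD2_c26 LD3_c61)) = (LP (LK LD1_c1 LD2_c49 LD3_c49)) :=
  Lgr Lrot94 (Lpe (K3.f58456 IH) (Lpr_gt (K3.f12751 IH) (Lpr_dt (K3.f12750 IH) (Lpr_gt (K1.f7106 IH) (Lpr_dt (K1.f64294 IH) (Lpe (K3.f57110 IH) (Lpe (K3.f64254 IH) (Lpe (K3.f64477 IH) (Lpr_df (K3.f96089 IH) (Lpn (LP (LK LD1_c1 LD2_c49 LD3_c49))))))))))))
theorem f63849 : Led Lsl_dt (LP (LK LD1_c3 LD2_c1 LD3_c55)) = (LP (LK LD1_c1 LD2_c26 LD3_c61)) :=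
  Lre_d IH (LK LD1_c3 LD2_c1 LD3_c55) (LK LD1_c1 LD2_c26 LD3_c61) Lrfl Lrfl
theorem f93620 : Led Lsl_gf (LP (LK LD1_c0 LD2_c51 LD3_c52)) = (LP (LK LD1_c0 LD2_c23 LD3_c36)) :=
  Lgr Lrot144 (Lpr_dt (K3.f93603 IH) (Lpr_gt (K3.f93593 IH) (Lpr_dt (K2.f12060 IH) (Lpe (K3.f11947 IH) (Lpr_df (K2.f87608 IH) (Lpr_gf (K2.f87571 IH) (Lpe (K1.f20960 IH) (Lpr_gf (K1.f62801 IH) (Lpe (K1.f62807 IH) (Lpn (LP (LK LD1_c0 LD2_c23 LD3_c36))))))))))))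
theorem f96120 : Led Lsl_gf (LP (LK LD1_c3 LD2_c1 LD3_c55)) = (LP (LK LD1_c3 LD2_c45 LD3_c10)) :=
  Lgr Lrot144 (Lpr_dt (f63849 IH) (Lpr_gt (f96103 IH) (Lpe (K3.f96089 IH) (Lpr_cf (K3.f96105 IH) (Lpe (K3.f93603 IH) (Lpr_gf (f93620 IH) (Lpe (K1.f62804 IH) (Lpe (K3.f92648 IH) (Lpe (K3.f93394 IH) (Lpn (LP (LK LD1_c3 LD2_c45 LD3_c10))))))))))))
theorem f130682 : Led Lsl_af (LP (LK LD1_c3 LD2_c1 LD3_c55)) = (LP (LK LD1_c1 LD2_c34 LD3_c32)) :=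
  Lgr Lrot31 (Lpr_gf (f96120 IH) (Lpe (K3.f96057 IH) (Lpr_ft (f130678 IH) (Lpn (LP (LK LD1_c1 LD2_c34 LD3_c32))))))
theorem f103606 : Led Lsl_cf (LP (LK LD1_c0 LD2_c47 LD3_c22)) = (LP (LK LD1_c1 LD2_c34 LD3_c27)) :=
  Lgr Lrot11 (Lpr_ct (K3.f103582 IH) (Lpn (LP (LK LD1_c1 LD2_c34 LD3_c27))))
theorem f65444 : Led Lsl_dt (LP (LK LD1_c0 LD2_c43 LD3_c55)) = (LP (LK LD1_c1 LD2_c34 LD3_c27)) :=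
  Lre_d IH (LK LD1_c0 LD2_c43 LD3_c55) (LK LD1_c1 LD2_c34 LD3_c27) Lrfl Lrfl
theorem f130684 : Led Lsl_dt (LP (LK LD1_c0 LD2_c40 LD3_c17)) = (LP (LK LD1_c0 LD2_c19 LD3_c37)) :=
  Lgr Lrot32 (Lpe (K3.f64912 IH) (Lpe (K3.f96045 IH) (Lpr_ft (f130678 IH) (Lpe (f130682 IH) (Lpr_cf (K3.f65104 IH) (Lpe (K1.f18138 IH) (Lpr_cf (f103606 IH) (Lpe (f65444 IH) (Lpe (K3.f103492 IH) (Lpn (LP (LK LD1_c0 LD2_c19 LD3_c37))))))))))))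
theorem f130686 : Led Lsl_af (LP (LK LD1_c0 LD2_c40 LD3_c17)) = (LP (LK LD1_c0 LD2_c19 LD3_c40)) :=
  Lgr Lrot117 (Lpr_dt (f130684 IH) (Lpr_at (K3.f65958 IH) (Lpr_dt (K1.f62813 IH) (Lpn (LP (LK LD1_c0 LD2_c19 LD3_c40))))))
theorem f130757 : Led Lsl_at (LP (LK LD1_c0 LD2_c40 LD3_c17)) = (LP (LK LD1_c0 LD2_c19 LD3_c40)) :=
  Lgr Lrot100 (Lpr_af (f130686 IH) (Lpn (LP (LK LD1_c0 LD2_c19 LD3_c40))))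
theorem f96077 : Led Lsl_bt (LP (LK LD1_c0 LD2_c40 LD3_c17)) = (LP (LK LD1_c1 LD2_c26 LD3_c58)) :=
  Lre_b IH (LK LD1_c0 LD2_c40 LD3_c17) (LK LD1_c1 LD2_c26 LD3_c58) Lrfl Lrfl
theorem f110949 : Led Lsl_ft (LP (LK LD1_c0 LD2_c19 LD3_c36)) = (LP (LK LD1_c0 LD2_c40 LD3_c17)) :=
  Lgr Lrot75 (Lpe (K3.f65393 IH) (Lpr_ff (K3.f110946 IH) (Lpe (f96077 IH) (Lpn (LP (LK LD1_c0 LD2_c40 LD3_c17))))))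
theorem f96236 : Led Lsl_bt (LP (LK LD1_c0 LD2_c40 LD3_c18)) = (LP (LK LD1_c1 LD2_c26 LD3_c60)) :=
  Lre_b IH (LK LD1_c0 LD2_c40 LD3_c18) (LK LD1_c1 LD2_c26 LD3_c60) Lrfl Lrfl
theorem f115539 : Led Lsl_ft (LP (LK LD1_c0 LD2_c19 LD3_c40)) = (LP (LK LD1_c0 LD2_c40 LD3_c18)) :=
  Lgr Lrot75 (Lpe (K4.f62860 IH) (Lpr_ff (K4.f115534 IH) (Lpe (f96236 IH) (Lpn (LP (LK LD1_c0 LD2_c40 LD3_c18))))))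
theorem f130773 : Led Lsl_af (LP (LK LD1_c0 LD2_c19 LD3_c36)) = (LP (LK LD1_c0 LD2_c40 LD3_c18)) :=
  Lgr Lrot45 (Lpr_ft (f110949 IH) (Lpr_at (f130757 IH) (Lpr_ft (f115539 IH) (Lpn (LP (LK LD1_c0 LD2_c40 LD3_c18))))))
theorem f65407 : Led Lsl_et (LP (LK LD1_c0 LD2_c19 LD3_c36)) = (LP (LK LD1_c0 LD2_c43 LD3_c57)) :=
  Lre_e IH (LK LD1_c0 LD2_c19 LD3_c36) (LK LD1_c0 LD2_c43 LD3_c57) Lrfl Lrfl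
theorem f130777 : Led Lsl_et (LP (LK LD1_c1 LD2_c27 LD3_c0)) = (LP (LK LD1_c0 LD2_c40 LD3_c18)) :=
  Lre_e IH (LK LD1_c1 LD2_c27 LD3_c0) (LK LD1_c0 LD2_c40 LD3_c18) Lrfl Lrfl
theorem f130778 : Led Lsl_at (LP (LK LD1_c0 LD2_c43 LD3_c57)) = (LP (LK LD1_c1 LD2_c27 LD3_c0)) :=
  Lgr Lrot80 (Lpe (f65407 IH) (Lpr_af (f130773 IH) (Lpe (f130777 IH) (Lpn (LP (LK LD1_c1 LD2_c27 LD3_c0))))))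
theorem f65399 : Led Lsl_et (LP (LK LD1_c0 LD2_c43 LD3_c57)) = (LP (LK LD1_c0 LD2_c19 LD3_c36)) :=
  Lre_e IH (LK LD1_c0 LD2_c43 LD3_c57) (LK LD1_c0 LD2_c19 LD3_c36) Lrfl Lrfl
theorem f65408 : Led Lsl_df (LP (LK LD1_c0 LD2_c43 LD3_c57)) = (LP (LK LD1_c0 LD2_c43 LD3_c57)) :=
  Lgr Lrot70 (Lpr_et (f65399 IH) (Lpr_dt (K1.f65252 IH) (Lpr_et (K3.f65397 IH) (Lpr_dt (K2.f7158 IH) (Lpr_et (f65407 IH) (Lpn (LP (LK LD1_c0 LD2_c43 LD3_c57))))))))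
theorem f130780 : Led Lsl_af (LP (LK LD1_c0 LD2_c43 LD3_c57)) = (LP (LK LD1_c1 LD2_c27 LD3_c0)) :=
  Lgr Lrot0 (Lpr_at (f130778 IH) (Lpn (LP (LK LD1_c1 LD2_c27 LD3_c0))))
theorem f130786 : Led Lsl_df (LP (LK LD1_c1 LD2_c27 LD3_c0)) = (LP (LK LD1_c1 LD2_c27 LD3_c0)) :=
  Lgr Lrot18 (Lpe (f130780 IH) (Lpe (f65408 IH) (Lpr_at (f130778 IH) (Lpn (LP (LK LD1_c1 LD2_c27 LD3_c0))))))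
theorem f130789 : Led Lsl_gt (LP (LK LD1_c3 LD2_c1 LD3_c57)) = (LP (LK LD1_c1 LD2_c27 LD3_c0)) :=
  Lre_g IH (LK LD1_c3 LD2_c1 LD3_c57) (LK LD1_c1 LD2_c27 LD3_c0) Lrfl Lrfl
theorem f114226 : Led Lsl_gt (LP (LK LD1_c0 LD2_c44 LD3_c13)) = (LP (LK LD1_c1 LD2_c35 LD3_c4)) :=
  Lre_g IH (LK LD1_c0 LD2_c44 LD3_c13) (LK LD1_c1 LD2_c35 LD3_c4) Lrfl Lrfl
theorem f118516 : Led Lsl_et (LP (LK LD1_c3 LD2_c16 LD3_c55)) = (LP (LK LD1_c1 LD2_c35 LD3_c4)) :=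
  Lre_e IH (LK LD1_c3 LD2_c16 LD3_c55) (LK LD1_c1 LD2_c35 LD3_c4) Lrfl Lrfl
theorem f130808 : Led Lsl_df (LP (LK LD1_c3 LD2_c1 LD3_c57)) = (LP (LK LD1_c3 LD2_c16 LD3_c55)) :=
  Lgr Lrot170 (Lpr_gt (f130789 IH) (Lpr_df (f130786 IH) (Lpr_et (f130777 IH) (Lpr_gt (K3.f12751 IH) (Lpr_dt (K3.f12750 IH) (Lpr_gt (K1.f7106 IH) (Lpr_df (K3.f64464 IH) (Lpr_et (K4.f64468 IH) (Lpr_gt (f114226 IH) (Lpe (f118516 IH) (Lpn (LP (LK LD1_c3 LD2_c16 LD3_c55)))))))))))))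
theorem f62108 : Led Lsl_et (LP (LK LD1_c0 LD2_c40 LD3_c20)) = (LP (LK LD1_c0 LD2_c18 LD3_c2)) :=
  Lre_e IH (LK LD1_c0 LD2_c40 LD3_c20) (LK LD1_c0 LD2_c18 LD3_c2) Lrfl Lrfl
theorem f62107 : Led Lsl_dt (LP (LK LD1_c0 LD2_c40 LD3_c20)) = (LP (LK LD1_c0 LD2_c19 LD3_c46)) :=
  Lre_d IH (LK LD1_c0 LD2_c40 LD3_c20) (LK LD1_c0 LD2_c19 LD3_c46) Lrfl Lrfl
theorem f62968 : Led Lsl_gt (LP (LK LD1_c0 LD2_c19 LD3_c46)) = (LP (LK LD1_c0 LD2_c44 LD3_c23)) :=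
  Lre_g IH (LK LD1_c0 LD2_c19 LD3_c46) (LK LD1_c0 LD2_c44 LD3_c23) Lrfl Lrfl
theorem f130806 : Led Lsl_dt (LP (LK LD1_c1 LD2_c35 LD3_c41)) = (LP (LK LD1_c0 LD2_c44 LD3_c23)) :=
  Lre_d IH (LK LD1_c1 LD2_c35 LD3_c41) (LK LD1_c0 LD2_c44 LD3_c23) Lrfl Lrfl
theorem f130807 : Led Lsl_et (LP (LK LD1_c1 LD2_c35 LD3_c41)) = (LP (LK LD1_c3 LD2_c18 LD3_c29)) :=
  Lre_e IH (LK LD1_c1 LD2_c35 LD3_c41) (LK LD1_c3 LD2_c18 LD3_c29) Lrfl Lrfl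
theorem f130822 : Led Lsl_gt (LP (LK LD1_c3 LD2_c18 LD3_c29)) = (LP (LK LD1_c3 LD2_c16 LD3_c55)) :=
  Lgr Lrot137 (Lpe (f130807 IH) (Lpr_dt (f130806 IH) (Lpe (f62968 IH) (Lpe (f62107 IH) (Lpr_et (f62108 IH) (Lpe (K3.f12751 IH) (Lpe (f130777 IH) (Lpe (f130786 IH) (Lpe (f130789 IH) (Lpr_df (f130808 IH) (Lpn (LP (LK LD1_c3 LD2_c16 LD3_c55)))))))))))))
theorem f130828 : Led Lsl_gt (LP (LK LD1_c1 LD2_c27 LD3_c8)) = (LP (LK LD1_c0 LD2_c40 LD3_c20)) :=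
  Lre_g IH (LK LD1_c1 LD2_c27 LD3_c8) (LK LD1_c0 LD2_c40 LD3_c20) Lrfl Lrfl
theorem f130829 : Led Lsl_et (LP (LK LD1_c3 LD2_c2 LD3_c21)) = (LP (LK LD1_c1 LD2_c27 LD3_c8)) :=
  Lre_e IH (LK LD1_c3 LD2_c2 LD3_c21) (LK LD1_c1 LD2_c27 LD3_c8) Lrfl Lrfl
theorem f130830 : Led Lsl_dt (LP (LK LD1_c3 LD2_c2 LD3_c21)) = (LP (LK LD1_c6 LD2_c11 LD3_c34)) :=
  Lre_d IH (LK LD1_c3 LD2_c2 LD3_c21) (LK LD1_c6 LD2_c11 LD3_c34) Lrfl Lrfl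
theorem f130816 : Led Lsl_et (LP (LK LD1_c1 LD2_c35 LD3_c4)) = (LP (LK LD1_c3 LD2_c16 LD3_c55)) :=
  Lre_e IH (LK LD1_c1 LD2_c35 LD3_c4) (LK LD1_c3 LD2_c16 LD3_c55) Lrfl Lrfl
theorem f118513 : Led Lsl_dt (LP (LK LD1_c1 LD2_c35 LD3_c4)) = (LP (LK LD1_c3 LD2_c16 LD3_c54)) :=
  Lre_d IH (LK LD1_c1 LD2_c35 LD3_c4) (LK LD1_c3 LD2_c16 LD3_c54) Lrfl Lrfl
theorem f130831 : Led Lsl_gf (LP (LK LD1_c6 LD2_c11 LD3_c34)) = (LP (LK LD1_c3 LD2_c16 LD3_c54)) :=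
  Lgr Lrot145 (Lpe (f130830 IH) (Lpr_et (f130829 IH) (Lpr_gt (f130828 IH) (Lpr_dt (f62107 IH) (Lpr_gt (f62968 IH) (Lpe (f130806 IH) (Lpr_et (f130807 IH) (Lpr_gt (f130822 IH) (Lpe (f130816 IH) (Lpr_dt (f118513 IH) (Lpn (LP (LK LD1_c3 LD2_c16 LD3_c54)))))))))))))
theorem f130833 : Led Lsl_dt (LP (LK LD1_c6 LD2_c11 LD3_c34)) = (LP (LK LD1_c3 LD2_c2 LD3_c21)) :=
  Lre_d IH (LK LD1_c6 LD2_c11 LD3_c34) (LK LD1_c3 LD2_c2 LD3_c21) Lrfl Lrfl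
theorem f130838 : Led Lsl_ct (LP (LK LD1_c3 LD2_c2 LD3_c21)) = (LP (LK LD1_c6 LD2_c11 LD3_c31)) :=
  Lre_c IH (LK LD1_c3 LD2_c2 LD3_c21) (LK LD1_c6 LD2_c11 LD3_c31) Lrfl Lrfl
theorem f130839 : Led Lsl_dt (LP (LK LD1_c12 LD2_c3 LD3_c3)) = (LP (LK LD1_c6 LD2_c11 LD3_c31)) :=
  Lre_d IH (LK LD1_c12 LD2_c3 LD3_c3) (LK LD1_c6 LD2_c11 LD3_c31) Lrfl Lrfl
theorem f96110 : Led Lsl_gt (LP (LK LD1_c1 LD2_c35 LD3_c3)) = (LP (LK LD1_c3 LD2_c16 LD3_c49)) :=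
  Lre_g IH (LK LD1_c1 LD2_c35 LD3_c3) (LK LD1_c3 LD2_c16 LD3_c49) Lrfl Lrfl
theorem f96114 : Led Lsl_dt (LP (LK LD1_c3 LD2_c16 LD3_c49)) = (LP (LK LD1_c6 LD2_c36 LD3_c61)) :=
  Lre_d IH (LK LD1_c3 LD2_c16 LD3_c49) (LK LD1_c6 LD2_c36 LD3_c61) Lrfl Lrfl
theorem f130840 : Led Lsl_gf (LP (LK LD1_c12 LD2_c3 LD3_c3)) = (LP (LK LD1_c6 LD2_c36 LD3_c61)) :=
  Lgr Lrot143 (Lpr_dt (f130839 IH) (Lpe (f130838 IH) (Lpe (f130833 IH) (Lpr_gf (f130831 IH) (Lpe (f118513 IH) (Lpe (f114226 IH) (Lpe (K4.f118481 IH) (Lpr_gt (f96110 IH) (Lpr_dt (f96114 IH) (Lpn (LP (LK LD1_c6 LD2_c36 LD3_c61))))))))))))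
theorem f130867 : Led Lsl_dt (LP (LK LD1_c6 LD2_c11 LD3_c31)) = (LP (LK LD1_c12 LD2_c3 LD3_c3)) :=
  Lre_d IH (LK LD1_c6 LD2_c11 LD3_c31) (LK LD1_c12 LD2_c3 LD3_c3) Lrfl Lrfl
theorem f130868 : Led Lsl_et (LP (LK LD1_c6 LD2_c11 LD3_c31)) = (LP (LK LD1_c3 LD2_c2 LD3_c19)) :=
  Lre_e IH (LK LD1_c6 LD2_c11 LD3_c31) (LK LD1_c3 LD2_c2 LD3_c19) Lrfl Lrfl
theorem f96115 : Led Lsl_et (LP (LK LD1_c1 LD2_c49 LD3_c49)) = (LP (LK LD1_c3 LD2_c45 LD3_c19)) :=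
  Lre_e IH (LK LD1_c1 LD2_c49 LD3_c49) (LK LD1_c3 LD2_c45 LD3_c19) Lrfl Lrfl
theorem f130871 : Led Lsl_gt (LP (LK LD1_c3 LD2_c2 LD3_c19)) = (LP (LK LD1_c3 LD2_c45 LD3_c19)) :=
  Lgr Lrot131 (Lpe (f130868 IH) (Lpr_dt (f130867 IH) (Lpr_gf (f130840 IH) (Lpe (f96114 IH) (Lpe (f96110 IH) (Lpe (K4.f96109 IH) (Lpr_dt (K3.f64253 IH) (Lpe (K3.f64477 IH) (Lpr_df (K3.f96089 IH) (Lpr_et (f96115 IH) (Lpn (LP (LK LD1_c3 LD2_c45 LD3_c19)))))))))))))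
theorem f66036 : Led Lsl_ct (LP (LK LD1_c1 LD2_c27 LD3_c8)) = (LP (LK LD1_c3 LD2_c2 LD3_c19)) :=
  Lre_c IH (LK LD1_c1 LD2_c27 LD3_c8) (LK LD1_c3 LD2_c2 LD3_c19) Lrfl Lrfl
theorem f66035 : Led Lsl_gt (LP (LK LD1_c3 LD2_c1 LD3_c47)) = (LP (LK LD1_c1 LD2_c27 LD3_c8)) :=
  Lre_g IH (LK LD1_c3 LD2_c1 LD3_c47) (LK LD1_c1 LD2_c27 LD3_c8) Lrfl Lrfl
theorem f62082 : Led Lsl_dt (LP (LK LD1_c3 LD2_c1 LD3_c47)) = (LP (LK LD1_c1 LD2_c34 LD3_c57)) :=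
  Lre_d IH (LK LD1_c3 LD2_c1 LD3_c47) (LK LD1_c1 LD2_c34 LD3_c57) Lrfl Lrfl
theorem f62083 : Led Lsl_gt (LP (LK LD1_c1 LD2_c34 LD3_c57)) = (LP (LK LD1_c0 LD2_c44 LD3_c24)) :=
  Lre_g IH (LK LD1_c1 LD2_c34 LD3_c57) (LK LD1_c0 LD2_c44 LD3_c24) Lrfl Lrfl
theorem f66031 : Led Lsl_ct (LP (LK LD1_c0 LD2_c44 LD3_c24)) = (LP (LK LD1_c1 LD2_c35 LD3_c43)) :=
  Lre_c IH (LK LD1_c0 LD2_c44 LD3_c24) (LK LD1_c1 LD2_c35 LD3_c43) Lrfl Lrfl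
theorem f66011 : Led Lsl_et (LP (LK LD1_c0 LD2_c43 LD3_c56)) = (LP (LK LD1_c1 LD2_c34 LD3_c33)) :=
  Lre_e IH (LK LD1_c0 LD2_c43 LD3_c56) (LK LD1_c1 LD2_c34 LD3_c33) Lrfl Lrfl
theorem f66012 : Led Lsl_gt (LP (LK LD1_c1 LD2_c34 LD3_c33)) = (LP (LK LD1_c3 LD2_c15 LD3_c39)) :=
  Lre_g IH (LK LD1_c1 LD2_c34 LD3_c33) (LK LD1_c3 LD2_c15 LD3_c39) Lrfl Lrfl
theorem f66019 : Led Lsl_dt (LP (LK LD1_c3 LD2_c15 LD3_c39)) = (LP (LK LD1_c6 LD2_c34 LD3_c36)) :=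
  Lre_d IH (LK LD1_c3 LD2_c15 LD3_c39) (LK LD1_c6 LD2_c34 LD3_c36) Lrfl Lrfl
theorem f66020 : Led Lsl_gt (LP (LK LD1_c6 LD2_c34 LD3_c36)) = (LP (LK LD1_c6 LD2_c41 LD3_c9)) :=
  Lre_g IH (LK LD1_c6 LD2_c34 LD3_c36) (LK LD1_c6 LD2_c41 LD3_c9) Lrfl Lrfl
theorem f66021 : Led Lsl_dt (LP (LK LD1_c3 LD2_c18 LD3_c37)) = (LP (LK LD1_c6 LD2_c41 LD3_c9)) :=
  Lre_d IH (LK LD1_c3 LD2_c18 LD3_c37) (LK LD1_c6 LD2_c41 LD3_c9) Lrfl Lrfl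
theorem f66022 : Led Lsl_et (LP (LK LD1_c3 LD2_c18 LD3_c37)) = (LP (LK LD1_c1 LD2_c35 LD3_c43)) :=
  Lre_e IH (LK LD1_c3 LD2_c18 LD3_c37) (LK LD1_c1 LD2_c35 LD3_c43) Lrfl Lrfl
theorem f66023 : Led Lsl_et (LP (LK LD1_c1 LD2_c35 LD3_c0)) = (LP (LK LD1_c3 LD2_c16 LD3_c41)) :=
  Lre_e IH (LK LD1_c1 LD2_c35 LD3_c0) (LK LD1_c3 LD2_c16 LD3_c41) Lrfl Lrfl
theorem f66024 : Led Lsl_gt (LP (LK LD1_c1 LD2_c35 LD3_c43)) = (LP (LK LD1_c3 LD2_c16 LD3_c41)) :=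
  Lgr Lrot131 (Lpe (f66022 IH) (Lpr_dt (f66021 IH) (Lpe (f66020 IH) (Lpe (f66019 IH) (Lpe (f66012 IH) (Lpe (f66011 IH) (Lpr_dt (K3.f65181 IH) (Lpe (K3.f65714 IH) (Lpr_df (K3.f65992 IH) (Lpr_et (f66023 IH) (Lpn (LP (LK LD1_c3 LD2_c16 LD3_c41)))))))))))))
theorem f130879 : Led Lsl_ct (LP (LK LD1_c3 LD2_c45 LD3_c19)) = (LP (LK LD1_c1 LD2_c49 LD3_c50)) :=
  Lre_c IH (LK LD1_c3 LD2_c45 LD3_c19) (LK LD1_c1 LD2_c49 LD3_c50) Lrfl Lrfl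
theorem f85136 : Led Lsl_et (LP (LK LD1_c1 LD2_c49 LD3_c50)) = (LP (LK LD1_c0 LD2_c51 LD3_c45)) :=
  Lre_e IH (LK LD1_c1 LD2_c49 LD3_c50) (LK LD1_c0 LD2_c51 LD3_c45) Lrfl Lrfl
theorem f26242 : Led Lsl_et (LP (LK LD1_c1 LD2_c46 LD3_c3)) = (LP (LK LD1_c3 LD2_c38 LD3_c11)) :=
  Lre_e IH (LK LD1_c1 LD2_c46 LD3_c3) (LK LD1_c3 LD2_c38 LD3_c11) Lrfl Lrfl
theorem f105623 : Led Lsl_df (LP (LK LD1_c1 LD2_c49 LD3_c50)) = (LP (LK LD1_c3 LD2_c38 LD3_c11)) :=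
  Lgr Lrot70 (Lpr_et (f85136 IH) (Lpe (K3.f87575 IH) (Lpr_et (K3.f105617 IH) (Lpr_dt (K3.f26217 IH) (Lpr_et (f26242 IH) (Lpn (LP (LK LD1_c3 LD2_c38 LD3_c11))))))))
theorem f130880 : Led Lsl_ct (LP (LK LD1_c3 LD2_c16 LD3_c41)) = (LP (LK LD1_c3 LD2_c38 LD3_c11)) :=
  Lgr Lrot110 (Lpe (f66024 IH) (Lpe (f66031 IH) (Lpe (f62083 IH) (Lpe (f62082 IH) (Lpr_gt (f66035 IH) (Lpr_ct (f66036 IH) (Lpr_gt (f130871 IH) (Lpr_ct (f130879 IH) (Lpr_df (f105623 IH) (Lpn (LP (LK LD1_c3 LD2_c38 LD3_c11))))))))))))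
theorem f66002 : Led Lsl_et (LP (LK LD1_c3 LD2_c16 LD3_c41)) = (LP (LK LD1_c1 LD2_c35 LD3_c0)) :=
  Lre_e IH (LK LD1_c3 LD2_c16 LD3_c41) (LK LD1_c1 LD2_c35 LD3_c0) Lrfl Lrfl
theorem f96069 : Led Lsl_et (LP (LK LD1_c1 LD2_c49 LD3_c42)) = (LP (LK LD1_c3 LD2_c45 LD3_c11)) :=
  Lre_e IH (LK LD1_c1 LD2_c49 LD3_c42) (LK LD1_c3 LD2_c45 LD3_c11) Lrfl Lrfl
theorem f126377 : Led Lsl_af (LP (LK LD1_c3 LD2_c16 LD3_c41)) = (LP (LK LD1_c3 LD2_c45 LD3_c11)) :=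
  Lgr Lrot50 (Lpr_et (f66002 IH) (Lpr_at (f126366 IH) (Lpr_et (f96069 IH) (Lpn (LP (LK LD1_c3 LD2_c45 LD3_c11))))))
theorem f124467 : Led Lsl_ct (LP (LK LD1_c1 LD2_c49 LD3_c43)) = (LP (LK LD1_c3 LD2_c45 LD3_c11)) :=
  Lre_c IH (LK LD1_c1 LD2_c49 LD3_c43) (LK LD1_c3 LD2_c45 LD3_c11) Lrfl Lrfl
theorem f130889 : Led Lsl_af (LP (LK LD1_c1 LD2_c49 LD3_c43)) = (LP (LK LD1_c3 LD2_c38 LD3_c11)) :=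
  Lgr Lrot68 (Lpr_ct (f124467 IH) (Lpe (f126377 IH) (Lpr_ct (f130880 IH) (Lpn (LP (LK LD1_c3 LD2_c38 LD3_c11))))))
theorem f105629 : Led Lsl_et (LP (LK LD1_c0 LD2_c51 LD3_c42)) = (LP (LK LD1_c1 LD2_c49 LD3_c43)) :=
  Lre_e IH (LK LD1_c0 LD2_c51 LD3_c42) (LK LD1_c1 LD2_c49 LD3_c43) Lrfl Lrfl
theorem f65568 : Led Lsl_et (LP (LK LD1_c3 LD2_c13 LD3_c25)) = (LP (LK LD1_c1 LD2_c33 LD3_c9)) :=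
  Lre_e IH (LK LD1_c3 LD2_c13 LD3_c25) (LK LD1_c1 LD2_c33 LD3_c9) Lrfl Lrfl
theorem f105630 : Led Lsl_dt (LP (LK LD1_c1 LD2_c49 LD3_c43)) = (LP (LK LD1_c3 LD2_c13 LD3_c25)) :=
  Lgr Lrot77 (Lpe (f105629 IH) (Lpe (K1.f62313 IH) (Lpr_ef (K3.f105625 IH) (Lpr_df (K3.f96723 IH) (Lpe (f65568 IH) (Lpn (LP (LK LD1_c3 LD2_c13 LD3_c25))))))))
theorem f93353 : Led Lsl_et (LP (LK LD1_c0 LD2_c51 LD3_c45)) = (LP (LK LD1_c1 LD2_c49 LD3_c50)) :=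
  Lre_e IH (LK LD1_c0 LD2_c51 LD3_c45) (LK LD1_c1 LD2_c49 LD3_c50) Lrfl Lrfl
theorem f26229 : Led Lsl_et (LP (LK LD1_c3 LD2_c38 LD3_c11)) = (LP (LK LD1_c1 LD2_c46 LD3_c3)) :=
  Lre_e IH (LK LD1_c3 LD2_c38 LD3_c11) (LK LD1_c1 LD2_c46 LD3_c3) Lrfl Lrfl
theorem f105615 : Led Lsl_dt (LP (LK LD1_c1 LD2_c49 LD3_c50)) = (LP (LK LD1_c3 LD2_c38 LD3_c11)) :=
  Lgr Lrot77 (Lpe (f93353 IH) (Lpe (K3.f87573 IH) (Lpr_ef (K3.f105609 IH) (Lpe (K3.f5393 IH) (Lpe (f26229 IH) (Lpn (LP (LK LD1_c3 LD2_c38 LD3_c11))))))))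
theorem f130958 : Led Lsl_at (LP (LK LD1_c3 LD2_c13 LD3_c25)) = (LP (LK LD1_c1 LD2_c49 LD3_c50)) :=
  Lgr Lrot51 (Lpe (f105630 IH) (Lpr_af (f130889 IH) (Lpe (f105615 IH) (Lpn (LP (LK LD1_c1 LD2_c49 LD3_c50))))))
theorem f65591 : Led Lsl_et (LP (LK LD1_c1 LD2_c33 LD3_c9)) = (LP (LK LD1_c3 LD2_c13 LD3_c25)) :=
  Lre_e IH (LK LD1_c1 LD2_c33 LD3_c9) (LK LD1_c3 LD2_c13 LD3_c25) Lrfl Lrfl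
theorem f130964 : Led Lsl_af (LP (LK LD1_c1 LD2_c33 LD3_c9)) = (LP (LK LD1_c0 LD2_c51 LD3_c45)) :=
  Lgr Lrot50 (Lpr_et (f65591 IH) (Lpr_at (f130958 IH) (Lpr_et (f85136 IH) (Lpn (LP (LK LD1_c0 LD2_c51 LD3_c45))))))
theorem f130973 : Led Lsl_ft (LP (LK LD1_c1 LD2_c40 LD3_c59)) = (LP (LK LD1_c0 LD2_c51 LD3_c45)) :=
  Lgr Lrot2 (Lpr_gt (K3.f95730 IH) (Lpr_gt (K3.f96719 IH) (Lpr_af (f130964 IH) (Lpn (LP (LK LD1_c0 LD2_c51 LD3_c45))))))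
theorem f130975 : Led Lsl_ff (LP (LK LD1_c0 LD2_c46 LD3_c61)) = (LP (LK LD1_c0 LD2_c48 LD3_c6)) :=
  Lgr Lrot19 (Lpr_dt (K3.f17792 IH) (Lpr_ft (f130973 IH) (Lpe (K3.f87575 IH) (Lpn (LP (LK LD1_c0 LD2_c48 LD3_c6))))))
theorem f130991 : Led Lsl_ft (LP (LK LD1_c0 LD2_c46 LD3_c61)) = (LP (LK LD1_c0 LD2_c48 LD3_c6)) :=
  Lgr Lrot48 (Lpr_ff (f130975 IH) (Lpn (LP (LK LD1_c0 LD2_c48 LD3_c6))))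
theorem f130995 : Led Lsl_ff (LP (LK LD1_c0 LD2_c45 LD3_c53)) = (LP (LK LD1_c0 LD2_c46 LD3_c0)) :=
  Lgr Lrot25 (Lpr_bt (K2.f17733 IH) (Lpr_ft (f130991 IH) (Lpr_bt (K2.f84702 IH) (Lpn (LP (LK LD1_c0 LD2_c46 LD3_c0))))))
theorem f105619 : Led Lsl_ef (LP (LK LD1_c0 LD2_c46 LD3_c0)) = (LP (LK LD1_c0 LD2_c22 LD3_c56)) :=
  Lgr Lrot29 (Lpe (K2.f84706 IH) (Lpr_et (K3.f105617 IH) (Lpe (K3.f26214 IH) (Lpn (LP (LK LD1_c0 LD2_c22 LD3_c56))))))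
theorem f131001 : Led Lsl_ft (LP (LK LD1_c1 LD2_c38 LD3_c59)) = (LP (LK LD1_c0 LD2_c50 LD3_c17)) :=
  Lgr Lrot86 (Lpe (K0.f17739 IH) (Lpr_ff (f130995 IH) (Lpr_ef (f105619 IH) (Lpr_ff (f125618 IH) (Lpe (K1.f12412 IH) (Lpn (LP (LK LD1_c0 LD2_c50 LD3_c17))))))))
theorem f131007 : Led Lsl_ff (LP (LK LD1_c1 LD2_c38 LD3_c59)) = (LP (LK LD1_c0 LD2_c50 LD3_c17)) :=
  Lgr Lrot3 (Lpr_ft (f131001 IH) (Lpn (LP (LK LD1_c0 LD2_c50 LD3_c17))))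
theorem f125582 : Led Lsl_af (LP (LK LD1_c0 LD2_c50 LD3_c17)) = (LP (LK LD1_c0 LD2_c50 LD3_c54)) :=
  Lgr Lrot50 (Lpr_et (K1.f12412 IH) (Lpr_at (f125576 IH) (Lpr_et (f124134 IH) (Lpn (LP (LK LD1_c0 LD2_c50 LD3_c54))))))
theorem f131009 : Led Lsl_at (LP (LK LD1_c1 LD2_c38 LD3_c59)) = (LP (LK LD1_c1 LD2_c31 LD3_c52)) :=
  Lgr Lrot66 (Lpr_ff (f131007 IH) (Lpr_af (f125582 IH) (Lpe (f125093 IH) (Lpn (LP (LK LD1_c1 LD2_c31 LD3_c52))))))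
theorem f108873 : Led Lsl_dt (LP (LK LD1_c1 LD2_c39 LD3_c14)) = (LP (LK LD1_c0 LD2_c46 LD3_c3)) :=
  Lre_d IH (LK LD1_c1 LD2_c39 LD3_c14) (LK LD1_c0 LD2_c46 LD3_c3) Lrfl Lrfl
theorem f94113 : Led Lsl_dt (LP (LK LD1_c6 LD2_c52 LD3_c48)) = (LP (LK LD1_c3 LD2_c25 LD3_c17)) :=
  Lre_d IH (LK LD1_c6 LD2_c52 LD3_c48) (LK LD1_c3 LD2_c25 LD3_c17) Lrfl Lrfl
theorem f12455 : Led Lsl_ct (LP (LK LD1_c1 LD2_c46 LD3_c61)) = (LP (LK LD1_c3 LD2_c40 LD3_c2)) :=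
  Lre_c IH (LK LD1_c1 LD2_c46 LD3_c61) (LK LD1_c3 LD2_c40 LD3_c2) Lrfl Lrfl
theorem f105652 : Led Lsl_dt (LP (LK LD1_c3 LD2_c40 LD3_c2)) = (LP (LK LD1_c7 LD2_c20 LD3_c14)) :=
  Lre_d IH (LK LD1_c3 LD2_c40 LD3_c2) (LK LD1_c7 LD2_c20 LD3_c14) Lrfl Lrfl
theorem f131011 : Led Lsl_cf (LP (LK LD1_c6 LD2_c52 LD3_c48)) = (LP (LK LD1_c7 LD2_c20 LD3_c14)) :=
  Lgr Lrot116 (Lpr_dt (f94113 IH) (Lpr_ct (f94112 IH) (Lpr_dt (f108873 IH) (Lpe (f108833 IH) (Lpe (f131009 IH) (Lpr_ff (f131007 IH) (Lpr_dt (K1.f12432 IH) (Lpr_ct (f12455 IH) (Lpr_dt (f105652 IH) (Lpn (LP (LK LD1_c7 LD2_c20 LD3_c14))))))))))))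
theorem f124937 : Led Lsl_af (LP (LK LD1_c1 LD2_c39 LD3_c14)) = (LP (LK LD1_c1 LD2_c38 LD3_c60)) :=
  Lgr Lrot0 (Lpr_at (f124935 IH) (Lpn (LP (LK LD1_c1 LD2_c38 LD3_c60))))
theorem f12559 : Led Lsl_dt (LP (LK LD1_c0 LD2_c50 LD3_c20)) = (LP (LK LD1_c0 LD2_c22 LD3_c44)) :=
  Lre_d IH (LK LD1_c0 LD2_c50 LD3_c20) (LK LD1_c0 LD2_c22 LD3_c44) Lrfl Lrfl
theorem f131031 : Led Lsl_ff (LP (LK LD1_c1 LD2_c38 LD3_c60)) = (LP (LK LD1_c0 LD2_c50 LD3_c20)) :=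
  Lgr Lrot103 (Lpe (f124937 IH) (Lpe (f94112 IH) (Lpe (f94113 IH) (Lpr_cf (f131011 IH) (Lpe (f105652 IH) (Lpe (f12455 IH) (Lpe (K1.f12432 IH) (Lpe (K3.f12556 IH) (Lpe (f12559 IH) (Lpn (LP (LK LD1_c0 LD2_c50 LD3_c20))))))))))))
theorem f131037 : Led Lsl_ft (LP (LK LD1_c1 LD2_c38 LD3_c60)) = (LP (LK LD1_c0 LD2_c50 LD3_c20)) :=
  Lgr Lrot48 (Lpr_ff (f131031 IH) (Lpn (LP (LK LD1_c0 LD2_c50 LD3_c20))))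
theorem f125077 : Led Lsl_ff (LP (LK LD1_c1 LD2_c39 LD3_c14)) = (LP (LK LD1_c0 LD2_c50 LD3_c58)) :=
  Lgr Lrot103 (Lpr_at (f124935 IH) (Lpe (f17717 IH) (Lpe (f17722 IH) (Lpr_cf (f125069 IH) (Lpe (f125068 IH) (Lpe (f124244 IH) (Lpe (f120905 IH) (Lpe (K4.f120913 IH) (Lpe (f120897 IH) (Lpn (LP (LK LD1_c0 LD2_c50 LD3_c58))))))))))))
theorem f131039 : Led Lsl_af (LP (LK LD1_c0 LD2_c50 LD3_c58)) = (LP (LK LD1_c0 LD2_c50 LD3_c20)) :=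
  Lgr Lrot45 (Lpe (f125077 IH) (Lpr_at (f124935 IH) (Lpr_ft (f131037 IH) (Lpn (LP (LK LD1_c0 LD2_c50 LD3_c20))))))
theorem f124251 : Led Lsl_gt (LP (LK LD1_c1 LD2_c48 LD3_c25)) = (LP (LK LD1_c0 LD2_c50 LD3_c58)) :=
  Lre_g IH (LK LD1_c1 LD2_c48 LD3_c25) (LK LD1_c0 LD2_c50 LD3_c58) Lrfl Lrfl
theorem f131043 : Led Lsl_gt (LP (LK LD1_c1 LD2_c38 LD3_c60)) = (LP (LK LD1_c1 LD2_c48 LD3_c25)) :=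
  Lgr Lrot5 (Lpr_ft (f131037 IH) (Lpe (f131039 IH) (Lpe (f124251 IH) (Lpn (LP (LK LD1_c1 LD2_c48 LD3_c25))))))
theorem f124252 : Led Lsl_ct (LP (LK LD1_c1 LD2_c48 LD3_c25)) = (LP (LK LD1_c3 LD2_c42 LD3_c48)) :=
  Lre_c IH (LK LD1_c1 LD2_c48 LD3_c25) (LK LD1_c3 LD2_c42 LD3_c48) Lrfl Lrfl
theorem f131045 : Led Lsl_gf (LP (LK LD1_c3 LD2_c25 LD3_c11)) = (LP (LK LD1_c3 LD2_c42 LD3_c48)) :=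
  Lgr Lrot104 (Lpr_ct (K3.f106863 IH) (Lpe (K3.f65537 IH) (Lpe (f86734 IH) (Lpe (f124264 IH) (Lpe (f124263 IH) (Lpr_gf (f126893 IH) (Lpe (f17706 IH) (Lpr_gt (f131043 IH) (Lpr_ct (f124252 IH) (Lpn (LP (LK LD1_c3 LD2_c42 LD3_c48))))))))))))
theorem f131051 : Led Lsl_bt (LP (LK LD1_c1 LD2_c48 LD3_c25)) = (LP (LK LD1_c1 LD2_c48 LD3_c25)) :=
  Lgr Lrot92 (Lpr_ct (f124252 IH) (Lpe (f131045 IH) (Lpr_cf (K3.f106858 IH) (Lpr_bt (K3.f17975 IH) (Lpe (K3.f17965 IH) (Lpr_ct (K0.f10393 IH) (Lpr_gt (K3.f10405 IH) (Lpe (K3.f105883 IH) (Lpe (f17708 IH) (Lpr_gt (f131043 IH) (Lpn (LP (LK LD1_c1 LD2_c48 LD3_c25)))))))))))))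
theorem f115213 : Led Lsl_at (LP (LK LD1_c1 LD2_c38 LD3_c35)) = (LP (LK LD1_c1 LD2_c42 LD3_c34)) :=
  Lgr Lrot100 (Lpr_af (K4.f115087 IH) (Lpn (LP (LK LD1_c1 LD2_c42 LD3_c34))))
theorem f115235 : Led Lsl_ff (LP (LK LD1_c1 LD2_c38 LD3_c35)) = (LP (LK LD1_c1 LD2_c42 LD3_c38)) :=
  Lgr Lrot30 (Lpr_at (f115213 IH) (Lpe (K4.f115223 IH) (Lpr_at (K4.f115229 IH) (Lpn (LP (LK LD1_c1 LD2_c42 LD3_c38))))))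
theorem f115239 : Led Lsl_ft (LP (LK LD1_c1 LD2_c38 LD3_c35)) = (LP (LK LD1_c1 LD2_c42 LD3_c38)) :=
  Lgr Lrot48 (Lpr_ff (f115235 IH) (Lpn (LP (LK LD1_c1 LD2_c42 LD3_c38))))
theorem f92253 : Led Lsl_ct (LP (LK LD1_c3 LD2_c24 LD3_c22)) = (LP (LK LD1_c1 LD2_c38 LD3_c35)) :=
  Lre_c IH (LK LD1_c3 LD2_c24 LD3_c22) (LK LD1_c1 LD2_c38 LD3_c35) Lrfl Lrfl
theorem f115241 : Led Lsl_ff (LP (LK LD1_c3 LD2_c24 LD3_c22)) = (LP (LK LD1_c3 LD2_c31 LD3_c57)) :=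
  Lgr Lrot23 (Lpr_ct (f92253 IH) (Lpr_ft (f115239 IH) (Lpr_ct (f19333 IH) (Lpn (LP (LK LD1_c3 LD2_c31 LD3_c57))))))
theorem f64370 : Led Lsl_ct (LP (LK LD1_c3 LD2_c31 LD3_c52)) = (LP (LK LD1_c1 LD2_c42 LD3_c34)) :=
  Lre_c IH (LK LD1_c3 LD2_c31 LD3_c52) (LK LD1_c1 LD2_c42 LD3_c34) Lrfl Lrfl
theorem f115215 : Led Lsl_at (LP (LK LD1_c3 LD2_c24 LD3_c22)) = (LP (LK LD1_c3 LD2_c31 LD3_c52)) :=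
  Lgr Lrot107 (Lpe (K4.f92255 IH) (Lpr_af (K4.f115087 IH) (Lpe (f64370 IH) (Lpn (LP (LK LD1_c3 LD2_c31 LD3_c52))))))
theorem f124280 : Led Lsl_gt (LP (LK LD1_c3 LD2_c42 LD3_c29)) = (LP (LK LD1_c3 LD2_c31 LD3_c52)) :=
  Lgr Lrot46 (Lpr_gf (f124269 IH) (Lpe (f115241 IH) (Lpr_at (f115215 IH) (Lpn (LP (LK LD1_c3 LD2_c31 LD3_c52))))))
theorem f131057 : Led Lsl_gf (LP (LK LD1_c3 LD2_c42 LD3_c48)) = (LP (LK LD1_c3 LD2_c25 LD3_c10)) :=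
  Lgr Lrot129 (Lpe (f124252 IH) (Lpr_bt (f131051 IH) (Lpr_gt (f124251 IH) (Lpe (f124267 IH) (Lpr_ct (f120869 IH) (Lpr_gt (f124280 IH) (Lpe (f64373 IH) (Lpr_bt (K4.f115095 IH) (Lpe (K4.f115091 IH) (Lpe (f106910 IH) (Lpn (LP (LK LD1_c3 LD2_c25 LD3_c10)))))))))))))
theorem f124261 : Led Lsl_gt (LP (LK LD1_c1 LD2_c48 LD3_c26)) = (LP (LK LD1_c3 LD2_c42 LD3_c49)) :=
  Lre_g IH (LK LD1_c1 LD2_c48 LD3_c26) (LK LD1_c3 LD2_c42 LD3_c49) Lrfl Lrfl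
theorem f131059 : Led Lsl_ct (LP (LK LD1_c3 LD2_c32 LD3_c0)) = (LP (LK LD1_c3 LD2_c42 LD3_c49)) :=
  Lgr Lrot63 (Lpr_bt (K4.f87545 IH) (Lpr_gt (K3.f109140 IH) (Lpe (K3.f106424 IH) (Lpe (f106910 IH) (Lpe (f131057 IH) (Lpe (f124252 IH) (Lpr_bt (f131051 IH) (Lpr_gt (f124251 IH) (Lpr_ct (K4.f120877 IH) (Lpr_gt (f124261 IH) (Lpn (LP (LK LD1_c3 LD2_c42 LD3_c49)))))))))))))
theorem f131064 : Led Lsl_cf (LP (LK LD1_c3 LD2_c32 LD3_c0)) = (LP (LK LD1_c3 LD2_c42 LD3_c49)) :=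
  Lgr Lrot11 (Lpr_ct (f131059 IH) (Lpn (LP (LK LD1_c3 LD2_c42 LD3_c49))))
theorem f109129 : Led Lsl_gt (LP (LK LD1_c3 LD2_c32 LD3_c0)) = (LP (LK LD1_c1 LD2_c42 LD3_c45)) :=
  Lgr Lrot46 (Lpr_gf (K3.f109127 IH) (Lpr_ft (K3.f95937 IH) (Lpr_at (K3.f95940 IH) (Lpn (LP (LK LD1_c1 LD2_c42 LD3_c45))))))
theorem f115499 : Led Lsl_af (LP (LK LD1_c3 LD2_c27 LD3_c53)) = (LP (LK LD1_c3 LD2_c38 LD3_c4)) :=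
  Lgr Lrot0 (Lpr_at (K4.f115497 IH) (Lpn (LP (LK LD1_c3 LD2_c38 LD3_c4))))
theorem f120887 : Led Lsl_ft (LP (LK LD1_c3 LD2_c32 LD3_c0)) = (LP (LK LD1_c3 LD2_c38 LD3_c4)) :=
  Lgr Lrot2 (Lpr_gt (f109129 IH) (Lpr_gt (K4.f120883 IH) (Lpr_af (f115499 IH) (Lpn (LP (LK LD1_c3 LD2_c38 LD3_c4))))))
theorem f4901 : Led Lsl_dt (LP (LK LD1_c0 LD2_c22 LD3_c44)) = (LP (LK LD1_c0 LD2_c50 LD3_c20)) :=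
  Lre_d IH (LK LD1_c0 LD2_c22 LD3_c44) (LK LD1_c0 LD2_c50 LD3_c20) Lrfl Lrfl
theorem f106791 : Led Lsl_ct (LP (LK LD1_c1 LD2_c47 LD3_c7)) = (LP (LK LD1_c0 LD2_c50 LD3_c20)) :=
  Lre_c IH (LK LD1_c1 LD2_c47 LD3_c7) (LK LD1_c0 LD2_c50 LD3_c20) Lrfl Lrfl
theorem f106792 : Led Lsl_gt (LP (LK LD1_c3 LD2_c40 LD3_c21)) = (LP (LK LD1_c1 LD2_c47 LD3_c7)) :=
  Lre_g IH (LK LD1_c3 LD2_c40 LD3_c21) (LK LD1_c1 LD2_c47 LD3_c7) Lrfl Lrfl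
theorem f115503 : Led Lsl_cf (LP (LK LD1_c3 LD2_c40 LD3_c21)) = (LP (LK LD1_c3 LD2_c38 LD3_c4)) :=
  Lgr Lrot169 (Lpr_gt (f106792 IH) (Lpr_ct (f106791 IH) (Lpe (f4901 IH) (Lpe (K3.f12431 IH) (Lpe (K3.f12441 IH) (Lpe (K3.f106780 IH) (Lpe (K3.f107080 IH) (Lpe (K3.f95936 IH) (Lpr_gt (K4.f115501 IH) (Lpn (LP (LK LD1_c3 LD2_c38 LD3_c4))))))))))))
theorem f131079 : Led Lsl_ft (LP (LK LD1_c3 LD2_c40 LD3_c21)) = (LP (LK LD1_c3 LD2_c42 LD3_c49)) :=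
  Lgr Lrot4 (Lpr_cf (f115503 IH) (Lpe (f120887 IH) (Lpr_cf (f131064 IH) (Lpn (LP (LK LD1_c3 LD2_c42 LD3_c49))))))
theorem f131099 : Led Lsl_gt (LP (LK LD1_c1 LD2_c47 LD3_c7)) = (LP (LK LD1_c3 LD2_c40 LD3_c20)) :=
  Lre_g IH (LK LD1_c1 LD2_c47 LD3_c7) (LK LD1_c3 LD2_c40 LD3_c20) Lrfl Lrfl
theorem f131100 : Led Lsl_af (LP (LK LD1_c3 LD2_c40 LD3_c20)) = (LP (LK LD1_c3 LD2_c42 LD3_c49)) :=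
  Lgr Lrot31 (Lpe (f131099 IH) (Lpe (f106792 IH) (Lpr_ft (f131079 IH) (Lpn (LP (LK LD1_c3 LD2_c42 LD3_c49))))))
theorem f115085 : Led Lsl_af (LP (LK LD1_c3 LD2_c32 LD3_c0)) = (LP (LK LD1_c3 LD2_c31 LD3_c50)) :=
  Lgr Lrot0 (Lpr_at (K4.f115083 IH) (Lpn (LP (LK LD1_c3 LD2_c31 LD3_c50))))
theorem f131109 : Led Lsl_ct (LP (LK LD1_c3 LD2_c40 LD3_c20)) = (LP (LK LD1_c3 LD2_c31 LD3_c50)) :=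
  Lgr Lrot111 (Lpr_af (f131100 IH) (Lpe (f131059 IH) (Lpr_af (f115085 IH) (Lpn (LP (LK LD1_c3 LD2_c31 LD3_c50))))))
theorem f131116 : Led Lsl_ff (LP (LK LD1_c3 LD2_c40 LD3_c20)) = (LP (LK LD1_c3 LD2_c42 LD3_c50)) :=
  Lgr Lrot23 (Lpr_ct (f131109 IH) (Lpe (K4.f115219 IH) (Lpr_ct (K4.f120879 IH) (Lpn (LP (LK LD1_c3 LD2_c42 LD3_c50))))))
theorem f131128 : Led Lsl_ft (LP (LK LD1_c3 LD2_c40 LD3_c20)) = (LP (LK LD1_c3 LD2_c42 LD3_c50)) :=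
  Lgr Lrot48 (Lpr_ff (f131116 IH) (Lpn (LP (LK LD1_c3 LD2_c42 LD3_c50))))
theorem f131130 : Led Lsl_af (LP (LK LD1_c3 LD2_c40 LD3_c21)) = (LP (LK LD1_c3 LD2_c42 LD3_c50)) :=
  Lgr Lrot45 (Lpr_ft (f131079 IH) (Lpe (f131100 IH) (Lpr_ft (f131128 IH) (Lpn (LP (LK LD1_c3 LD2_c42 LD3_c50))))))
theorem f131191 : Led Lsl_ct (LP (LK LD1_c3 LD2_c40 LD3_c21)) = (LP (LK LD1_c3 LD2_c38 LD3_c4)) :=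
  Lgr Lrot111 (Lpr_af (f131130 IH) (Lpe (K4.f120879 IH) (Lpr_af (f115499 IH) (Lpn (LP (LK LD1_c3 LD2_c38 LD3_c4))))))
theorem f131118 : Led Lsl_dt (LP (LK LD1_c1 LD2_c47 LD3_c7)) = (LP (LK LD1_c3 LD2_c40 LD3_c23)) :=
  Lre_d IH (LK LD1_c1 LD2_c47 LD3_c7) (LK LD1_c3 LD2_c40 LD3_c23) Lrfl Lrfl
theorem f131119 : Led Lsl_gt (LP (LK LD1_c3 LD2_c40 LD3_c23)) = (LP (LK LD1_c7 LD2_c20 LD3_c57)) :=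
  Lre_g IH (LK LD1_c3 LD2_c40 LD3_c23) (LK LD1_c7 LD2_c20 LD3_c57) Lrfl Lrfl
theorem f90122 : Led Lsl_dt (LP (LK LD1_c1 LD2_c38 LD3_c36)) = (LP (LK LD1_c3 LD2_c24 LD3_c23)) :=
  Lre_d IH (LK LD1_c1 LD2_c38 LD3_c36) (LK LD1_c3 LD2_c24 LD3_c23) Lrfl Lrfl
theorem f91680 : Led Lsl_ct (LP (LK LD1_c3 LD2_c24 LD3_c23)) = (LP (LK LD1_c6 LD2_c51 LD3_c27)) :=
  Lre_c IH (LK LD1_c3 LD2_c24 LD3_c23) (LK LD1_c6 LD2_c51 LD3_c27) Lrfl Lrfl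
theorem f131195 : Led Lsl_dt (LP (LK LD1_c7 LD2_c20 LD3_c57)) = (LP (LK LD1_c6 LD2_c51 LD3_c27)) :=
  Lgr Lrot113 (Lpe (f131119 IH) (Lpe (f131118 IH) (Lpe (f106792 IH) (Lpr_ct (f131191 IH) (Lpr_gt (K3.f86811 IH) (Lpr_dt (K3.f86810 IH) (Lpe (K4.f105940 IH) (Lpr_dt (f90122 IH) (Lpr_ct (f91680 IH) (Lpn (LP (LK LD1_c6 LD2_c51 LD3_c27))))))))))))
theorem f91686 : Led Lsl_ct (LP (LK LD1_c6 LD2_c51 LD3_c27)) = (LP (LK LD1_c3 LD2_c24 LD3_c23)) :=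
  Lre_c IH (LK LD1_c6 LD2_c51 LD3_c27) (LK LD1_c3 LD2_c24 LD3_c23) Lrfl Lrfl
theorem f91704 : Led Lsl_dt (LP (LK LD1_c3 LD2_c24 LD3_c23)) = (LP (LK LD1_c1 LD2_c38 LD3_c36)) :=
  Lre_d IH (LK LD1_c3 LD2_c24 LD3_c23) (LK LD1_c1 LD2_c38 LD3_c36) Lrfl Lrfl
theorem f114174 : Led Lsl_gt (LP (LK LD1_c1 LD2_c46 LD3_c59)) = (LP (LK LD1_c1 LD2_c31 LD3_c52)) :=
  Lgr Lrot164 (Lpr_bf (K4.f114166 IH) (Lpr_ct (K4.f86318 IH) (Lpe (K4.f7474 IH) (Lpe (K3.f86151 IH) (Lpe (K3.f24990 IH) (Lpe (K3.f24991 IH) (Lpr_ct (K3.f24994 IH) (Lpe (K3.f24993 IH) (Lpe (K3.f24992 IH) (Lpr_bt (f25001 IH) (Lpn (LP (LK LD1_c1 LD2_c31 LD3_c52)))))))))))))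
theorem f108831 : Led Lsl_bt (LP (LK LD1_c0 LD2_c46 LD3_c3)) = (LP (LK LD1_c1 LD2_c39 LD3_c13)) :=
  Lre_b IH (LK LD1_c0 LD2_c46 LD3_c3) (LK LD1_c1 LD2_c39 LD3_c13) Lrfl Lrfl
theorem f114179 : Led Lsl_cf (LP (LK LD1_c1 LD2_c46 LD3_c59)) = (LP (LK LD1_c1 LD2_c38 LD3_c36)) :=
  Lgr Lrot125 (Lpr_gt (f114174 IH) (Lpr_cf (f108833 IH) (Lpr_bt (f108831 IH) (Lpe (K3.f108825 IH) (Lpe (f94356 IH) (Lpr_ct (K2.f94358 IH) (Lpr_gt (K3.f105934 IH) (Lpe (K3.f17995 IH) (Lpr_bt (K3.f105771 IH) (Lpe (K4.f105940 IH) (Lpn (LP (LK LD1_c1 LD2_c38 LD3_c36)))))))))))))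
theorem f125117 : Led Lsl_ft (LP (LK LD1_c1 LD2_c46 LD3_c60)) = (LP (LK LD1_c1 LD2_c48 LD3_c15)) :=
  Lgr Lrot48 (Lpr_ff (f125111 IH) (Lpn (LP (LK LD1_c1 LD2_c48 LD3_c15))))
theorem f106786 : Led Lsl_dt (LP (LK LD1_c1 LD2_c46 LD3_c60)) = (LP (LK LD1_c3 LD2_c39 LD3_c60)) :=
  Lre_d IH (LK LD1_c1 LD2_c46 LD3_c60) (LK LD1_c3 LD2_c39 LD3_c60) Lrfl Lrfl
theorem f106787 : Led Lsl_ct (LP (LK LD1_c3 LD2_c39 LD3_c60)) = (LP (LK LD1_c7 LD2_c20 LD3_c7)) :=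
  Lre_c IH (LK LD1_c3 LD2_c39 LD3_c60) (LK LD1_c7 LD2_c20 LD3_c7) Lrfl Lrfl
theorem f106788 : Led Lsl_dt (LP (LK LD1_c7 LD2_c20 LD3_c7)) = (LP (LK LD1_c13 LD2_c52 LD3_c30)) :=
  Lre_d IH (LK LD1_c7 LD2_c20 LD3_c7) (LK LD1_c13 LD2_c52 LD3_c30) Lrfl Lrfl
theorem f131203 : Led Lsl_cf (LP (LK LD1_c7 LD2_c20 LD3_c57)) = (LP (LK LD1_c13 LD2_c52 LD3_c30)) :=
  Lgr Lrot116 (Lpr_dt (f131195 IH) (Lpr_ct (f91686 IH) (Lpr_dt (f91704 IH) (Lpe (f114179 IH) (Lpr_af (f125179 IH) (Lpe (f125117 IH) (Lpr_dt (f106786 IH) (Lpr_ct (f106787 IH) (Lpr_dt (f106788 IH) (Lpn (LP (LK LD1_c13 LD2_c52 LD3_c30))))))))))))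
theorem f131215 : Led Lsl_ct (LP (LK LD1_c7 LD2_c20 LD3_c57)) = (LP (LK LD1_c13 LD2_c52 LD3_c30)) :=
  Lgr Lrot59 (Lpr_cf (f131203 IH) (Lpn (LP (LK LD1_c13 LD2_c52 LD3_c30))))
theorem f121389 : Led Lsl_dt (LP (LK LD1_c3 LD2_c40 LD3_c23)) = (LP (LK LD1_c1 LD2_c47 LD3_c7)) :=
  Lre_d IH (LK LD1_c3 LD2_c40 LD3_c23) (LK LD1_c1 LD2_c47 LD3_c7) Lrfl Lrfl
theorem f131291 : Led Lsl_gf (LP (LK LD1_c7 LD2_c26 LD3_c58)) = (LP (LK LD1_c13 LD2_c52 LD3_c30)) :=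
  Lgr Lrot104 (Lpe (K3.f106915 IH) (Lpe (K3.f106890 IH) (Lpr_cf (f106910 IH) (Lpr_gf (K4.f115091 IH) (Lpe (f131109 IH) (Lpe (f131099 IH) (Lpe (f121389 IH) (Lpr_gt (f131119 IH) (Lpr_ct (f131215 IH) (Lpn (LP (LK LD1_c13 LD2_c52 LD3_c30))))))))))))
theorem f106923 : Led Lsl_at (LP (LK LD1_c6 LD2_c31 LD3_c4)) = (LP (LK LD1_c7 LD2_c26 LD3_c58)) :=
  Lgr Lrot107 (Lpr_cf (K3.f95945 IH) (Lpe (K3.f106891 IH) (Lpr_cf (K3.f106915 IH) (Lpn (LP (LK LD1_c7 LD2_c26 LD3_c58))))))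
theorem f82425 : Led Lsl_dt (LP (LK LD1_c3 LD2_c1 LD3_c2)) = (LP (LK LD1_c1 LD2_c26 LD3_c24)) :=
  Lre_d IH (LK LD1_c3 LD2_c1 LD3_c2) (LK LD1_c1 LD2_c26 LD3_c24) Lrfl Lrfl
theorem f82431 : Led Lsl_ct (LP (LK LD1_c6 LD2_c9 LD3_c18)) = (LP (LK LD1_c3 LD2_c1 LD3_c2)) :=
  Lre_c IH (LK LD1_c6 LD2_c9 LD3_c18) (LK LD1_c3 LD2_c1 LD3_c2) Lrfl Lrfl
theorem f82434 : Led Lsl_dt (LP (LK LD1_c11 LD2_c59 LD3_c41)) = (LP (LK LD1_c6 LD2_c9 LD3_c18)) :=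
  Lre_d IH (LK LD1_c11 LD2_c59 LD3_c41) (LK LD1_c6 LD2_c9 LD3_c18) Lrfl Lrfl
theorem f106930 : Led Lsl_ct (LP (LK LD1_c6 LD2_c52 LD3_c36)) = (LP (LK LD1_c7 LD2_c26 LD3_c58)) :=
  Lgr Lrot59 (Lpr_cf (K3.f106915 IH) (Lpn (LP (LK LD1_c7 LD2_c26 LD3_c58))))
theorem f109178 : Led Lsl_ft (LP (LK LD1_c11 LD2_c59 LD3_c41)) = (LP (LK LD1_c6 LD2_c31 LD3_c4)) :=
  Lgr Lrot142 (Lpr_dt (f82434 IH) (Lpr_ct (f82431 IH) (Lpr_dt (f82425 IH) (Lpr_ct (K3.f109164 IH) (Lpr_dt (K3.f95930 IH) (Lpe (f106910 IH) (Lpr_dt (K3.f106890 IH) (Lpr_ct (f106930 IH) (Lpe (f106923 IH) (Lpn (LP (LK LD1_c6 LD2_c31 LD3_c4))))))))))))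
theorem f131294 : Led Lsl_gt (LP (LK LD1_c11 LD2_c59 LD3_c41)) = (LP (LK LD1_c13 LD2_c52 LD3_c30)) :=
  Lgr Lrot5 (Lpr_ft (f109178 IH) (Lpr_at (f106923 IH) (Lpr_gf (f131291 IH) (Lpn (LP (LK LD1_c13 LD2_c52 LD3_c30))))))
theorem f114191 : Led Lsl_dt (LP (LK LD1_c6 LD2_c9 LD3_c18)) = (LP (LK LD1_c11 LD2_c59 LD3_c41)) :=
  Lre_d IH (LK LD1_c6 LD2_c9 LD3_c18) (LK LD1_c11 LD2_c59 LD3_c41) Lrfl Lrfl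
theorem f12554 : Led Lsl_ct (LP (LK LD1_c3 LD2_c40 LD3_c0)) = (LP (LK LD1_c7 LD2_c20 LD3_c9)) :=
  Lre_c IH (LK LD1_c3 LD2_c40 LD3_c0) (LK LD1_c7 LD2_c20 LD3_c9) Lrfl Lrfl
theorem f114187 : Led Lsl_gt (LP (LK LD1_c7 LD2_c20 LD3_c9)) = (LP (LK LD1_c6 LD2_c9 LD3_c18)) :=
  Lgr Lrot150 (Lpe (f12554 IH) (Lpe (f12552 IH) (Lpe (K1.f12432 IH) (Lpr_gt (K4.f12436 IH) (Lpr_ct (K4.f114170 IH) (Lpe (K4.f107084 IH) (Lpe (f109170 IH) (Lpe (f82425 IH) (Lpe (f82431 IH) (Lpn (LP (LK LD1_c6 LD2_c9 LD3_c18))))))))))))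
theorem f105654 : Led Lsl_ct (LP (LK LD1_c7 LD2_c20 LD3_c9)) = (LP (LK LD1_c3 LD2_c40 LD3_c0)) :=
  Lre_c IH (LK LD1_c7 LD2_c20 LD3_c9) (LK LD1_c3 LD2_c40 LD3_c0) Lrfl Lrfl
theorem f106797 : Led Lsl_dt (LP (LK LD1_c13 LD2_c52 LD3_c30)) = (LP (LK LD1_c7 LD2_c20 LD3_c7)) :=
  Lre_d IH (LK LD1_c13 LD2_c52 LD3_c30) (LK LD1_c7 LD2_c20 LD3_c7) Lrfl Lrfl
theorem f108842 : Led Lsl_gt (LP (LK LD1_c1 LD2_c31 LD3_c52)) = (LP (LK LD1_c1 LD2_c46 LD3_c60)) :=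
  Lgr Lrot82 (Lpe (f25001 IH) (Lpr_ct (K3.f24992 IH) (Lpr_gf (K4.f108838 IH) (Lpe (K3.f64521 IH) (Lpe (K4.f90280 IH) (Lpr_gf (K4.f105942 IH) (Lpe (f105948 IH) (Lpr_ct (f86734 IH) (Lpe (K3.f86738 IH) (Lpr_cf (K3.f106784 IH) (Lpn (LP (LK LD1_c1 LD2_c46 LD3_c60)))))))))))))
theorem f108844 : Led Lsl_dt (LP (LK LD1_c3 LD2_c10 LD3_c54)) = (LP (LK LD1_c1 LD2_c31 LD3_c52)) :=
  Lre_d IH (LK LD1_c3 LD2_c10 LD3_c54) (LK LD1_c1 LD2_c31 LD3_c52) Lrfl Lrfl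
theorem f131297 : Led Lsl_gt (LP (LK LD1_c3 LD2_c40 LD3_c0)) = (LP (LK LD1_c3 LD2_c10 LD3_c54)) :=
  Lgr Lrot94 (Lpe (f105654 IH) (Lpr_gt (f114187 IH) (Lpr_dt (f114191 IH) (Lpr_gt (f131294 IH) (Lpr_dt (f106797 IH) (Lpe (f106787 IH) (Lpe (f106786 IH) (Lpe (f108842 IH) (Lpe (f108844 IH) (Lpn (LP (LK LD1_c3 LD2_c10 LD3_c54))))))))))))
theorem f25010 : Led Lsl_ct (LP (LK LD1_c1 LD2_c8 LD3_c2)) = (LP (LK LD1_c2 LD2_c21 LD3_c43)) :=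
  Lre_c IH (LK LD1_c1 LD2_c8 LD3_c2) (LK LD1_c2 LD2_c21 LD3_c43) Lrfl Lrfl
theorem f58137 : Led Lsl_bt (LP (LK LD1_c4 LD2_c47 LD3_c36)) = (LP (LK LD1_c2 LD2_c21 LD3_c42)) :=
  Lre_b IH (LK LD1_c4 LD2_c47 LD3_c36) (LK LD1_c2 LD2_c21 LD3_c42) Lrfl Lrfl
theorem f131304 : Led Lsl_bt (LP (LK LD1_c1 LD2_c31 LD3_c54)) = (LP (LK LD1_c3 LD2_c10 LD3_c54)) :=
  Lre_b IH (LK LD1_c1 LD2_c31 LD3_c54) (LK LD1_c3 LD2_c10 LD3_c54) Lrfl Lrfl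
theorem f131305 : Led Lsl_ct (LP (LK LD1_c1 LD2_c31 LD3_c54)) = (LP (LK LD1_c3 LD2_c10 LD3_c59)) :=
  Lre_c IH (LK LD1_c1 LD2_c31 LD3_c54) (LK LD1_c3 LD2_c10 LD3_c59) Lrfl Lrfl
theorem f131306 : Led Lsl_gt (LP (LK LD1_c3 LD2_c10 LD3_c59)) = (LP (LK LD1_c6 LD2_c26 LD3_c13)) :=
  Lre_g IH (LK LD1_c3 LD2_c10 LD3_c59) (LK LD1_c6 LD2_c26 LD3_c13) Lrfl Lrfl
theorem f131307 : Led Lsl_ct (LP (LK LD1_c4 LD2_c47 LD3_c36)) = (LP (LK LD1_c6 LD2_c26 LD3_c13)) :=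
  Lgr Lrot10 (Lpr_bt (f58137 IH) (Lpr_gt (K4.f58117 IH) (Lpr_ct (f25010 IH) (Lpr_gt (f58052 IH) (Lpr_cf (f115147 IH) (Lpe (f115135 IH) (Lpr_gt (f131297 IH) (Lpe (f131304 IH) (Lpr_ct (f131305 IH) (Lpr_gt (f131306 IH) (Lpn (LP (LK LD1_c6 LD2_c26 LD3_c13)))))))))))))
theorem f86021 : Led Lsl_bt (LP (LK LD1_c0 LD2_c30 LD3_c18)) = (LP (LK LD1_c1 LD2_c6 LD3_c9)) :=
  Lre_b IH (LK LD1_c0 LD2_c30 LD3_c18) (LK LD1_c1 LD2_c6 LD3_c9) Lrfl Lrfl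
theorem f131319 : Led Lsl_gt (LP (LK LD1_c1 LD2_c6 LD3_c9)) = (LP (LK LD1_c1 LD2_c31 LD3_c54)) :=
  Lgr Lrot82 (Lpe (f86021 IH) (Lpr_ct (K3.f25777 IH) (Lpr_gf (K3.f86017 IH) (Lpe (K2.f7454 IH) (Lpr_bt (K4.f7503 IH) (Lpe (K4.f58117 IH) (Lpe (f58137 IH) (Lpr_ct (f131307 IH) (Lpe (f131306 IH) (Lpe (f131305 IH) (Lpn (LP (LK LD1_c1 LD2_c31 LD3_c54)))))))))))))
theorem f104600 : Led Lsl_ft (LP (LK LD1_c1 LD2_c6 LD3_c9)) = (LP (LK LD1_c2 LD2_c18 LD3_c19)) :=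
  Lre_f IH (LK LD1_c1 LD2_c6 LD3_c9) (LK LD1_c2 LD2_c18 LD3_c19) Lrfl Lrfl
theorem f79148 : Led Lsl_gt (LP (LK LD1_c1 LD2_c31 LD3_c54)) = (LP (LK LD1_c3 LD2_c10 LD3_c58)) :=
  Lre_g IH (LK LD1_c1 LD2_c31 LD3_c54) (LK LD1_c3 LD2_c10 LD3_c58) Lrfl Lrfl
theorem f131338 : Led Lsl_at (LP (LK LD1_c2 LD2_c18 LD3_c19)) = (LP (LK LD1_c3 LD2_c10 LD3_c58)) :=
  Lgr Lrot26 (Lpe (f104600 IH) (Lpr_gt (f131319 IH) (Lpr_gt (f79148 IH) (Lpn (LP (LK LD1_c3 LD2_c10 LD3_c58))))))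
theorem f131365 : Led Lsl_at (LP (LK LD1_c2 LD2_c18 LD3_c1)) = (LP (LK LD1_c1 LD2_c6 LD3_c9)) :=
  Lre_a IH (LK LD1_c2 LD2_c18 LD3_c1) (LK LD1_c1 LD2_c6 LD3_c9) Lrfl Lrfl
theorem f131366 : Led Lsl_ff (LP (LK LD1_c2 LD2_c18 LD3_c1)) = (LP (LK LD1_c3 LD2_c10 LD3_c58)) :=
  Lgr Lrot30 (Lpr_at (f131365 IH) (Lpr_ft (f104600 IH) (Lpr_at (f131338 IH) (Lpn (LP (LK LD1_c3 LD2_c10 LD3_c58))))))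
theorem f86038 : Led Lsl_bt (LP (LK LD1_c0 LD2_c40 LD3_c29)) = (LP (LK LD1_c1 LD2_c27 LD3_c12)) :=
  Lre_b IH (LK LD1_c0 LD2_c40 LD3_c29) (LK LD1_c1 LD2_c27 LD3_c12) Lrfl Lrfl
theorem f114377 : Led Lsl_ct (LP (LK LD1_c3 LD2_c1 LD3_c37)) = (LP (LK LD1_c6 LD2_c10 LD3_c3)) :=
  Lre_c IH (LK LD1_c3 LD2_c1 LD3_c37) (LK LD1_c6 LD2_c10 LD3_c3) Lrfl Lrfl
theorem f114391 : Led Lsl_gf (LP (LK LD1_c6 LD2_c26 LD3_c15)) = (LP (LK LD1_c6 LD2_c10 LD3_c3)) :=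
  Lgr Lrot104 (Lpr_ct (f88974 IH) (Lpe (K3.f86346 IH) (Lpe (K3.f95749 IH) (Lpr_gf (K3.f106705 IH) (Lpe (K3.f106707 IH) (Lpe (K3.f12162 IH) (Lpe (f11112 IH) (Lpr_gt (K4.f114387 IH) (Lpr_ct (f114377 IH) (Lpn (LP (LK LD1_c6 LD2_c10 LD3_c3))))))))))))
theorem f88975 : Led Lsl_ct (LP (LK LD1_c3 LD2_c10 LD3_c60)) = (LP (LK LD1_c6 LD2_c26 LD3_c15)) :=
  Lre_c IH (LK LD1_c3 LD2_c10 LD3_c60) (LK LD1_c6 LD2_c26 LD3_c15) Lrfl Lrfl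
theorem f114393 : Led Lsl_bt (LP (LK LD1_c3 LD2_c10 LD3_c60)) = (LP (LK LD1_c1 LD2_c31 LD3_c57)) :=
  Lre_b IH (LK LD1_c3 LD2_c10 LD3_c60) (LK LD1_c1 LD2_c31 LD3_c57) Lrfl Lrfl
theorem f114394 : Led Lsl_gf (LP (LK LD1_c1 LD2_c6 LD3_c9)) = (LP (LK LD1_c1 LD2_c31 LD3_c57)) :=
  Lgr Lrot124 (Lpe (f86021 IH) (Lpr_ct (K3.f25777 IH) (Lpr_gt (K3.f86019 IH) (Lpe (K0.f7466 IH) (Lpr_bt (f86038 IH) (Lpr_gt (K4.f114387 IH) (Lpr_ct (f114377 IH) (Lpe (f114391 IH) (Lpe (f88975 IH) (Lpr_bt (f114393 IH) (Lpn (LP (LK LD1_c1 LD2_c31 LD3_c57)))))))))))))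
theorem f131375 : Led Lsl_gf (LP (LK LD1_c1 LD2_c31 LD3_c57)) = (LP (LK LD1_c3 LD2_c10 LD3_c58)) :=
  Lgr Lrot47 (Lpe (f114394 IH) (Lpe (f131365 IH) (Lpr_ff (f131366 IH) (Lpn (LP (LK LD1_c3 LD2_c10 LD3_c58))))))
theorem f82462 : Led Lsl_dt (LP (LK LD1_c0 LD2_c42 LD3_c32)) = (LP (LK LD1_c1 LD2_c31 LD3_c57)) :=
  Lre_d IH (LK LD1_c0 LD2_c42 LD3_c32) (LK LD1_c1 LD2_c31 LD3_c57) Lrfl Lrfl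
theorem f129067 : Led Lsl_df (LP (LK LD1_c0 LD2_c43 LD3_c6)) = (LP (LK LD1_c0 LD2_c30 LD3_c10)) :=
  Lgr Lrot78 (Lpr_ft (f129063 IH) (Lpr_dt (f82442 IH) (Lpe (f129053 IH) (Lpn (LP (LK LD1_c0 LD2_c30 LD3_c10))))))
theorem f108840 : Led Lsl_gt (LP (LK LD1_c0 LD2_c42 LD3_c31)) = (LP (LK LD1_c1 LD2_c31 LD3_c43)) :=
  Lre_g IH (LK LD1_c0 LD2_c42 LD3_c31) (LK LD1_c1 LD2_c31 LD3_c43) Lrfl Lrfl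
theorem f104672 : Led Lsl_dt (LP (LK LD1_c2 LD2_c18 LD3_c1)) = (LP (LK LD1_c1 LD2_c6 LD3_c2)) :=
  Lre_d IH (LK LD1_c2 LD2_c18 LD3_c1) (LK LD1_c1 LD2_c6 LD3_c2) Lrfl Lrfl
theorem f104628 : Led Lsl_ft (LP (LK LD1_c1 LD2_c6 LD3_c2)) = (LP (LK LD1_c2 LD2_c18 LD3_c2)) :=
  Lre_f IH (LK LD1_c1 LD2_c6 LD3_c2) (LK LD1_c2 LD2_c18 LD3_c2) Lrfl Lrfl
theorem f131371 : Led Lsl_dt (LP (LK LD1_c2 LD2_c18 LD3_c2)) = (LP (LK LD1_c3 LD2_c10 LD3_c58)) :=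
  Lgr Lrot60 (Lpe (f104628 IH) (Lpe (f104672 IH) (Lpr_ff (f131366 IH) (Lpn (LP (LK LD1_c3 LD2_c10 LD3_c58))))))
theorem f131383 : Led Lsl_ef (LP (LK LD1_c1 LD2_c31 LD3_c43)) = (LP (LK LD1_c2 LD2_c18 LD3_c2)) :=
  Lgr Lrot17 (Lpe (f108840 IH) (Lpr_ef (f108864 IH) (Lpe (f129067 IH) (Lpe (f59508 IH) (Lpe (f23555 IH) (Lpe (K0.f23449 IH) (Lpr_ef (f95753 IH) (Lpr_dt (f82462 IH) (Lpr_gf (f131375 IH) (Lpe (f131371 IH) (Lpn (LP (LK LD1_c2 LD2_c18 LD3_c2)))))))))))))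
theorem f82500 : Led Lsl_ft (LP (LK LD1_c1 LD2_c31 LD3_c43)) = (LP (LK LD1_c0 LD2_c42 LD3_c26)) :=
  Lre_f IH (LK LD1_c1 LD2_c31 LD3_c43) (LK LD1_c0 LD2_c42 LD3_c26) Lrfl Lrfl
theorem f131389 : Led Lsl_et (LP (LK LD1_c0 LD2_c42 LD3_c26)) = (LP (LK LD1_c0 LD2_c18 LD3_c56)) :=
  Lre_e IH (LK LD1_c0 LD2_c42 LD3_c26) (LK LD1_c0 LD2_c18 LD3_c56) Lrfl Lrfl
theorem f104673 : Led Lsl_et (LP (LK LD1_c0 LD2_c30 LD3_c12)) = (LP (LK LD1_c1 LD2_c6 LD3_c2)) :=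
  Lre_e IH (LK LD1_c0 LD2_c30 LD3_c12) (LK LD1_c1 LD2_c6 LD3_c2) Lrfl Lrfl
theorem f131390 : Led Lsl_ft (LP (LK LD1_c0 LD2_c18 LD3_c56)) = (LP (LK LD1_c0 LD2_c30 LD3_c12)) :=
  Lgr Lrot86 (Lpe (f131389 IH) (Lpe (f82500 IH) (Lpr_ef (f131383 IH) (Lpe (f104628 IH) (Lpe (f104673 IH) (Lpn (LP (LK LD1_c0 LD2_c30 LD3_c12))))))))
theorem f104320 : Led Lsl_at (LP (LK LD1_c0 LD2_c30 LD3_c12)) = (LP (LK LD1_c0 LD2_c13 LD3_c25)) :=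
  Lre_a IH (LK LD1_c0 LD2_c30 LD3_c12) (LK LD1_c0 LD2_c13 LD3_c25) Lrfl Lrfl
theorem f131400 : Led Lsl_gt (LP (LK LD1_c0 LD2_c18 LD3_c56)) = (LP (LK LD1_c0 LD2_c30 LD3_c11)) :=
  Lgr Lrot5 (Lpr_ft (f131390 IH) (Lpr_at (f104320 IH) (Lpe (K3.f20970 IH) (Lpn (LP (LK LD1_c0 LD2_c30 LD3_c11))))))
theorem f82480 : Led Lsl_dt (LP (LK LD1_c0 LD2_c42 LD3_c26)) = (LP (LK LD1_c1 LD2_c31 LD3_c42)) :=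
  Lre_d IH (LK LD1_c0 LD2_c42 LD3_c26) (LK LD1_c1 LD2_c31 LD3_c42) Lrfl Lrfl
theorem f82291 : Led Lsl_ft (LP (LK LD1_c0 LD2_c19 LD3_c12)) = (LP (LK LD1_c0 LD2_c30 LD3_c40)) :=
  Lgr Lrot101 (Lpe (K2.f23578 IH) (Lpr_ff (K2.f82289 IH) (Lpe (K2.f26083 IH) (Lpn (LP (LK LD1_c0 LD2_c30 LD3_c40))))))
theorem f83096 : Led Lsl_bf (LP (LK LD1_c0 LD2_c19 LD3_c12)) = (LP (LK LD1_c0 LD2_c30 LD3_c45)) :=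
  Lgr Lrot61 (Lpr_ft (f82291 IH) (Lpr_bt (K4.f82870 IH) (Lpe (K2.f82319 IH) (Lpn (LP (LK LD1_c0 LD2_c30 LD3_c45))))))
theorem f124420 : Led Lsl_gf (LP (LK LD1_c0 LD2_c30 LD3_c39)) = (LP (LK LD1_c0 LD2_c19 LD3_c12)) :=
  Lgr Lrot181 (Lpr_ct (K3.f26104 IH) (Lpr_gt (f124416 IH) (Lpe (K4.f104181 IH) (Lpr_bt (K4.f26122 IH) (Lpr_gt (K2.f14989 IH) (Lpe (K3.f26097 IH) (Lpr_ct (K3.f26095 IH) (Lpe (f82297 IH) (Lpe (K2.f23433 IH) (Lpe (f83096 IH) (Lpn (LP (LK LD1_c0 LD2_c19 LD3_c12)))))))))))))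
theorem f60974 : Led Lsl_gt (LP (LK LD1_c1 LD2_c6 LD3_c4)) = (LP (LK LD1_c0 LD2_c30 LD3_c13)) :=
  Lre_g IH (LK LD1_c1 LD2_c6 LD3_c4) (LK LD1_c0 LD2_c30 LD3_c13) Lrfl Lrfl
theorem f124423 : Led Lsl_dt (LP (LK LD1_c0 LD2_c30 LD3_c39)) = (LP (LK LD1_c1 LD2_c6 LD3_c4)) :=
  Lgr Lrot57 (Lpr_gf (f124420 IH) (Lpe (K2.f23433 IH) (Lpr_gt (K4.f82321 IH) (Lpr_dt (f91435 IH) (Lpr_gt (K3.f61883 IH) (Lpr_dt (K4.f25020 IH) (Lpe (K3.f25761 IH) (Lpe (K2.f60991 IH) (Lpe (f60974 IH) (Lpn (LP (LK LD1_c1 LD2_c6 LD3_c4))))))))))))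
theorem f104316 : Led Lsl_et (LP (LK LD1_c0 LD2_c13 LD3_c25)) = (LP (LK LD1_c0 LD2_c30 LD3_c14)) :=
  Lre_e IH (LK LD1_c0 LD2_c13 LD3_c25) (LK LD1_c0 LD2_c30 LD3_c14) Lrfl Lrfl
theorem f25790 : Led Lsl_gt (LP (LK LD1_c0 LD2_c30 LD3_c14)) = (LP (LK LD1_c1 LD2_c6 LD3_c7)) :=
  Lre_g IH (LK LD1_c0 LD2_c30 LD3_c14) (LK LD1_c1 LD2_c6 LD3_c7) Lrfl Lrfl
theorem f25791 : Led Lsl_dt (LP (LK LD1_c1 LD2_c6 LD3_c7)) = (LP (LK LD1_c2 LD2_c18 LD3_c15)) :=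
  Lre_d IH (LK LD1_c1 LD2_c6 LD3_c7) (LK LD1_c2 LD2_c18 LD3_c15) Lrfl Lrfl
theorem f131410 : Led Lsl_gf (LP (LK LD1_c1 LD2_c31 LD3_c42)) = (LP (LK LD1_c2 LD2_c18 LD3_c15)) :=
  Lgr Lrot134 (Lpe (f82480 IH) (Lpr_et (f131389 IH) (Lpr_gt (f131400 IH) (Lpe (f105627 IH) (Lpr_dt (f124423 IH) (Lpr_gt (f60974 IH) (Lpe (K3.f60992 IH) (Lpr_et (f104316 IH) (Lpr_gt (f25790 IH) (Lpr_dt (f25791 IH) (Lpn (LP (LK LD1_c2 LD2_c18 LD3_c15)))))))))))))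
theorem f82505 : Led Lsl_dt (LP (LK LD1_c1 LD2_c31 LD3_c42)) = (LP (LK LD1_c0 LD2_c42 LD3_c26)) :=
  Lre_d IH (LK LD1_c1 LD2_c31 LD3_c42) (LK LD1_c0 LD2_c42 LD3_c26) Lrfl Lrfl
theorem f82495 : Led Lsl_at (LP (LK LD1_c0 LD2_c18 LD3_c58)) = (LP (LK LD1_c0 LD2_c42 LD3_c26)) :=
  Lre_a IH (LK LD1_c0 LD2_c18 LD3_c58) (LK LD1_c0 LD2_c42 LD3_c26) Lrfl Lrfl
theorem f82457 : Led Lsl_at (LP (LK LD1_c1 LD2_c6 LD3_c43)) = (LP (LK LD1_c0 LD2_c30 LD3_c34)) :=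
  Lre_a IH (LK LD1_c1 LD2_c6 LD3_c43) (LK LD1_c0 LD2_c30 LD3_c34) Lrfl Lrfl
theorem f82496 : Led Lsl_ct (LP (LK LD1_c0 LD2_c42 LD3_c26)) = (LP (LK LD1_c1 LD2_c6 LD3_c43)) :=
  Lgr Lrot111 (Lpe (f82495 IH) (Lpr_cf (K3.f82450 IH) (Lpe (f82457 IH) (Lpn (LP (LK LD1_c1 LD2_c6 LD3_c43))))))
theorem f82511 : Led Lsl_dt (LP (LK LD1_c2 LD2_c19 LD3_c9)) = (LP (LK LD1_c1 LD2_c6 LD3_c43)) :=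
  Lre_d IH (LK LD1_c2 LD2_c19 LD3_c9) (LK LD1_c1 LD2_c6 LD3_c43) Lrfl Lrfl
theorem f104317 : Led Lsl_et (LP (LK LD1_c0 LD2_c18 LD3_c37)) = (LP (LK LD1_c0 LD2_c8 LD3_c21)) :=
  Lre_e IH (LK LD1_c0 LD2_c18 LD3_c37) (LK LD1_c0 LD2_c8 LD3_c21) Lrfl Lrfl
theorem f104318 : Led Lsl_ct (LP (LK LD1_c0 LD2_c30 LD3_c14)) = (LP (LK LD1_c0 LD2_c18 LD3_c37)) :=
  Lgr Lrot15 (Lpe (f104316 IH) (Lpr_cf (K3.f104310 IH) (Lpe (f104317 IH) (Lpn (LP (LK LD1_c0 LD2_c18 LD3_c37))))))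
theorem f104590 : Led Lsl_cf (LP (LK LD1_c0 LD2_c30 LD3_c14)) = (LP (LK LD1_c0 LD2_c18 LD3_c37)) :=
  Lgr Lrot11 (Lpr_ct (f104318 IH) (Lpn (LP (LK LD1_c0 LD2_c18 LD3_c37))))
theorem f91485 : Led Lsl_gt (LP (LK LD1_c0 LD2_c18 LD3_c37)) = (LP (LK LD1_c0 LD2_c41 LD3_c40)) :=
  Lre_g IH (LK LD1_c0 LD2_c18 LD3_c37) (LK LD1_c0 LD2_c41 LD3_c40) Lrfl Lrfl
theorem f91486 : Led Lsl_dt (LP (LK LD1_c0 LD2_c41 LD3_c40)) = (LP (LK LD1_c1 LD2_c30 LD3_c13)) :=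
  Lre_d IH (LK LD1_c0 LD2_c41 LD3_c40) (LK LD1_c1 LD2_c30 LD3_c13) Lrfl Lrfl
theorem f131415 : Led Lsl_gf (LP (LK LD1_c2 LD2_c19 LD3_c9)) = (LP (LK LD1_c1 LD2_c30 LD3_c13)) :=
  Lgr Lrot143 (Lpr_dt (f82511 IH) (Lpe (f82496 IH) (Lpe (f82505 IH) (Lpr_gf (f131410 IH) (Lpe (f25791 IH) (Lpe (f25790 IH) (Lpr_cf (f104590 IH) (Lpr_gt (f91485 IH) (Lpr_dt (f91486 IH) (Lpn (LP (LK LD1_c1 LD2_c30 LD3_c13))))))))))))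
theorem f82506 : Led Lsl_dt (LP (LK LD1_c1 LD2_c6 LD3_c43)) = (LP (LK LD1_c2 LD2_c19 LD3_c9)) :=
  Lre_d IH (LK LD1_c1 LD2_c6 LD3_c43) (LK LD1_c2 LD2_c19 LD3_c9) Lrfl Lrfl
theorem f82508 : Led Lsl_et (LP (LK LD1_c1 LD2_c6 LD3_c43)) = (LP (LK LD1_c0 LD2_c30 LD3_c32)) :=
  Lre_e IH (LK LD1_c1 LD2_c6 LD3_c43) (LK LD1_c0 LD2_c30 LD3_c32) Lrfl Lrfl
theorem f82390 : Led Lsl_at (LP (LK LD1_c0 LD2_c8 LD3_c30)) = (LP (LK LD1_c0 LD2_c18 LD3_c56)) :=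
  Lre_a IH (LK LD1_c0 LD2_c8 LD3_c30) (LK LD1_c0 LD2_c18 LD3_c56) Lrfl Lrfl
theorem f82391 : Led Lsl_at (LP (LK LD1_c0 LD2_c30 LD3_c32)) = (LP (LK LD1_c0 LD2_c13 LD3_c33)) :=
  Lre_a IH (LK LD1_c0 LD2_c30 LD3_c32) (LK LD1_c0 LD2_c13 LD3_c33) Lrfl Lrfl
theorem f82392 : Led Lsl_ct (LP (LK LD1_c0 LD2_c18 LD3_c56)) = (LP (LK LD1_c0 LD2_c30 LD3_c32)) :=
  Lgr Lrot111 (Lpe (f82390 IH) (Lpr_cf (K2.f82388 IH) (Lpe (f82391 IH) (Lpn (LP (LK LD1_c0 LD2_c30 LD3_c32))))))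
theorem f23440 : Led Lsl_dt (LP (LK LD1_c0 LD2_c19 LD3_c13)) = (LP (LK LD1_c0 LD2_c8 LD3_c37)) :=
  Lre_d IH (LK LD1_c0 LD2_c19 LD3_c13) (LK LD1_c0 LD2_c8 LD3_c37) Lrfl Lrfl
theorem f23445 : Led Lsl_dt (LP (LK LD1_c0 LD2_c30 LD3_c46)) = (LP (LK LD1_c0 LD2_c13 LD3_c39)) :=
  Lre_d IH (LK LD1_c0 LD2_c30 LD3_c46) (LK LD1_c0 LD2_c13 LD3_c39) Lrfl Lrfl
theorem f131404 : Led Lsl_gt (LP (LK LD1_c0 LD2_c30 LD3_c32)) = (LP (LK LD1_c0 LD2_c18 LD3_c34)) :=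
  Lgr Lrot94 (Lpe (f82392 IH) (Lpr_gt (f131400 IH) (Lpr_dt (K3.f104337 IH) (Lpr_gt (K3.f23446 IH) (Lpr_dt (f23440 IH) (Lpe (K0.f23385 IH) (Lpe (f23445 IH) (Lpr_gf (K4.f110440 IH) (Lpe (f66653 IH) (Lpn (LP (LK LD1_c0 LD2_c18 LD3_c34))))))))))))
theorem f91484 : Led Lsl_et (LP (LK LD1_c0 LD2_c8 LD3_c21)) = (LP (LK LD1_c0 LD2_c18 LD3_c37)) :=
  Lre_e IH (LK LD1_c0 LD2_c8 LD3_c21) (LK LD1_c0 LD2_c18 LD3_c37) Lrfl Lrfl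
theorem f131438 : Led Lsl_ef (LP (LK LD1_c0 LD2_c18 LD3_c34)) = (LP (LK LD1_c0 LD2_c19 LD3_c4)) :=
  Lgr Lrot17 (Lpe (f131404 IH) (Lpe (f82508 IH) (Lpr_dt (f82506 IH) (Lpr_gf (f131415 IH) (Lpe (f91486 IH) (Lpe (f91485 IH) (Lpe (f91484 IH) (Lpr_dt (K1.f25017 IH) (Lpe (K3.f61883 IH) (Lpe (f91435 IH) (Lpn (LP (LK LD1_c0 LD2_c19 LD3_c4)))))))))))))
theorem f131442 : Led Lsl_dt (LP (LK LD1_c1 LD2_c29 LD3_c52)) = (LP (LK LD1_c1 LD2_c30 LD3_c2)) :=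
  Lgr Lrot77 (Lpe (f128458 IH) (Lpe (f66653 IH) (Lpr_ef (f131438 IH) (Lpr_df (K3.f91439 IH) (Lpe (K4.f91447 IH) (Lpn (LP (LK LD1_c1 LD2_c30 LD3_c2))))))))
theorem f110472 : Led Lsl_bt (LP (LK LD1_c3 LD2_c7 LD3_c11)) = (LP (LK LD1_c1 LD2_c29 LD3_c52)) :=
  Lre_b IH (LK LD1_c3 LD2_c7 LD3_c11) (LK LD1_c1 LD2_c29 LD3_c52) Lrfl Lrfl
theorem f131446 : Led Lsl_df (LP (LK LD1_c3 LD2_c7 LD3_c11)) = (LP (LK LD1_c3 LD2_c7 LD3_c33)) :=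
  Lgr Lrot12 (Lpr_bt (f110472 IH) (Lpr_dt (f131442 IH) (Lpr_bt (K4.f120134 IH) (Lpn (LP (LK LD1_c3 LD2_c7 LD3_c33))))))
theorem f127042 : Led Lsl_at (LP (LK LD1_c6 LD2_c19 LD3_c56)) = (LP (LK LD1_c3 LD2_c7 LD3_c33)) :=
  Lre_a IH (LK LD1_c6 LD2_c19 LD3_c56) (LK LD1_c3 LD2_c7 LD3_c33) Lrfl Lrfl
theorem f131476 : Led Lsl_at (LP (LK LD1_c3 LD2_c7 LD3_c11)) = (LP (LK LD1_c4 LD2_c44 LD3_c37)) :=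
  Lgr Lrot51 (Lpr_df (f131446 IH) (Lpe (f127042 IH) (Lpr_df (f127040 IH) (Lpn (LP (LK LD1_c4 LD2_c44 LD3_c37))))))
theorem f110486 : Led Lsl_ft (LP (LK LD1_c6 LD2_c19 LD3_c26)) = (LP (LK LD1_c3 LD2_c7 LD3_c11)) :=
  Lre_f IH (LK LD1_c6 LD2_c19 LD3_c26) (LK LD1_c3 LD2_c7 LD3_c11) Lrfl Lrfl
theorem f131481 : Led Lsl_af (LP (LK LD1_c6 LD2_c19 LD3_c26)) = (LP (LK LD1_c9 LD2_c21 LD3_c59)) :=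
  Lgr Lrot45 (Lpr_ft (f110486 IH) (Lpr_at (f131476 IH) (Lpr_ft (f103247 IH) (Lpn (LP (LK LD1_c9 LD2_c21 LD3_c59))))))
theorem f128463 : Led Lsl_bt (LP (LK LD1_c6 LD2_c19 LD3_c26)) = (LP (LK LD1_c3 LD2_c7 LD3_c16)) :=
  Lre_b IH (LK LD1_c6 LD2_c19 LD3_c26) (LK LD1_c3 LD2_c7 LD3_c16) Lrfl Lrfl
theorem f126527 : Led Lsl_af (LP (LK LD1_c6 LD2_c19 LD3_c12)) = (LP (LK LD1_c7 LD2_c31 LD3_c12)) :=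
  Lgr Lrot0 (Lpr_at (f126521 IH) (Lpn (LP (LK LD1_c7 LD2_c31 LD3_c12))))
theorem f128611 : Led Lsl_at (LP (LK LD1_c6 LD2_c28 LD3_c19)) = (LP (LK LD1_c12 LD2_c0 LD3_c4)) :=
  Lgr Lrot80 (Lpr_ef (K4.f112017 IH) (Lpr_af (f126527 IH) (Lpr_ef (f128609 IH) (Lpn (LP (LK LD1_c12 LD2_c0 LD3_c4))))))
theorem f112014 : Led Lsl_bt (LP (LK LD1_c3 LD2_c12 LD3_c13)) = (LP (LK LD1_c6 LD2_c28 LD3_c19)) :=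
  Lre_b IH (LK LD1_c3 LD2_c12 LD3_c13) (LK LD1_c6 LD2_c28 LD3_c19) Lrfl Lrfl
theorem f131487 : Led Lsl_at (LP (LK LD1_c3 LD2_c7 LD3_c16)) = (LP (LK LD1_c3 LD2_c12 LD3_c13)) :=
  Lgr Lrot67 (Lpe (f128463 IH) (Lpr_af (f131481 IH) (Lpe (f127057 IH) (Lpe (f128611 IH) (Lpe (f112014 IH) (Lpn (LP (LK LD1_c3 LD2_c12 LD3_c13))))))))
theorem f131497 : Led Lsl_ft (LP (LK LD1_c3 LD2_c12 LD3_c13)) = (LP (LK LD1_c1 LD2_c32 LD3_c36)) :=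
  Lre_f IH (LK LD1_c3 LD2_c12 LD3_c13) (LK LD1_c1 LD2_c32 LD3_c36) Lrfl Lrfl
theorem f131498 : Led Lsl_af (LP (LK LD1_c1 LD2_c29 LD3_c52)) = (LP (LK LD1_c1 LD2_c32 LD3_c36)) :=
  Lgr Lrot45 (Lpr_ft (f128459 IH) (Lpr_at (f131487 IH) (Lpr_ft (f131497 IH) (Lpn (LP (LK LD1_c1 LD2_c32 LD3_c36))))))
theorem f120131 : Led Lsl_af (LP (LK LD1_c2 LD2_c19 LD3_c12)) = (LP (LK LD1_c1 LD2_c30 LD3_c2)) :=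
  Lgr Lrot0 (Lpr_at (K4.f120129 IH) (Lpn (LP (LK LD1_c1 LD2_c30 LD3_c2))))
theorem f131506 : Led Lsl_dt (LP (LK LD1_c2 LD2_c19 LD3_c12)) = (LP (LK LD1_c1 LD2_c32 LD3_c36)) :=
  Lgr Lrot44 (Lpr_af (f120131 IH) (Lpe (f131442 IH) (Lpr_af (f131498 IH) (Lpn (LP (LK LD1_c1 LD2_c32 LD3_c36))))))
theorem f131513 : Led Lsl_df (LP (LK LD1_c2 LD2_c19 LD3_c12)) = (LP (LK LD1_c1 LD2_c32 LD3_c36)) :=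
  Lgr Lrot38 (Lpr_dt (f131506 IH) (Lpn (LP (LK LD1_c1 LD2_c32 LD3_c36))))
theorem f120179 : Led Lsl_et (LP (LK LD1_c2 LD2_c19 LD3_c12)) = (LP (LK LD1_c1 LD2_c6 LD3_c44)) :=
  Lre_e IH (LK LD1_c2 LD2_c19 LD3_c12) (LK LD1_c1 LD2_c6 LD3_c44) Lrfl Lrfl
theorem f120126 : Led Lsl_dt (LP (LK LD1_c1 LD2_c6 LD3_c44)) = (LP (LK LD1_c0 LD2_c30 LD3_c43)) :=
  Lgr Lrot44 (Lpr_af (K4.f120117 IH) (Lpe (f91435 IH) (Lpe (K4.f120093 IH) (Lpn (LP (LK LD1_c0 LD2_c30 LD3_c43))))))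
theorem f131519 : Led Lsl_et (LP (LK LD1_c0 LD2_c30 LD3_c43)) = (LP (LK LD1_c0 LD2_c30 LD3_c30)) :=
  Lgr Lrot71 (Lpe (f120126 IH) (Lpe (f120179 IH) (Lpr_df (f131513 IH) (Lpe (K4.f112026 IH) (Lpr_df (K4.f113026 IH) (Lpn (LP (LK LD1_c0 LD2_c30 LD3_c30))))))))
theorem f113081 : Led Lsl_et (LP (LK LD1_c0 LD2_c18 LD3_c33)) = (LP (LK LD1_c0 LD2_c41 LD3_c30)) :=
  Lre_e IH (LK LD1_c0 LD2_c18 LD3_c33) (LK LD1_c0 LD2_c41 LD3_c30) Lrfl Lrfl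
theorem f131523 : Led Lsl_ff (LP (LK LD1_c0 LD2_c42 LD3_c50)) = (LP (LK LD1_c0 LD2_c41 LD3_c30)) :=
  Lgr Lrot72 (Lpr_et (K4.f82657 IH) (Lpe (K4.f120087 IH) (Lpr_et (f131519 IH) (Lpe (K4.f113075 IH) (Lpr_et (f113081 IH) (Lpn (LP (LK LD1_c0 LD2_c41 LD3_c30))))))))
theorem f120069 : Led Lsl_af (LP (LK LD1_c1 LD2_c6 LD3_c48)) = (LP (LK LD1_c0 LD2_c42 LD3_c50)) :=
  Lgr Lrot0 (Lpr_at (K4.f120067 IH) (Lpn (LP (LK LD1_c0 LD2_c42 LD3_c50))))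
theorem f62624 : Led Lsl_gt (LP (LK LD1_c0 LD2_c41 LD3_c30)) = (LP (LK LD1_c1 LD2_c29 LD3_c47)) :=
  Lre_g IH (LK LD1_c0 LD2_c41 LD3_c30) (LK LD1_c1 LD2_c29 LD3_c47) Lrfl Lrfl
theorem f131527 : Led Lsl_gf (LP (LK LD1_c1 LD2_c6 LD3_c48)) = (LP (LK LD1_c1 LD2_c29 LD3_c47)) :=
  Lgr Lrot76 (Lpr_af (f120069 IH) (Lpr_ff (f131523 IH) (Lpr_gt (f62624 IH) (Lpn (LP (LK LD1_c1 LD2_c29 LD3_c47))))))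
theorem f126955 : Led Lsl_df (LP (LK LD1_c1 LD2_c30 LD3_c17)) = (LP (LK LD1_c1 LD2_c6 LD3_c48)) :=
  Lgr Lrot38 (Lpr_dt (f126948 IH) (Lpn (LP (LK LD1_c1 LD2_c6 LD3_c48))))
theorem f104601 : Led Lsl_dt (LP (LK LD1_c0 LD2_c41 LD3_c42)) = (LP (LK LD1_c0 LD2_c18 LD3_c37)) :=
  Lre_d IH (LK LD1_c0 LD2_c41 LD3_c42) (LK LD1_c0 LD2_c18 LD3_c37) Lrfl Lrfl
theorem f104592 : Led Lsl_dt (LP (LK LD1_c1 LD2_c6 LD3_c9)) = (LP (LK LD1_c0 LD2_c30 LD3_c14)) :=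
  Lre_d IH (LK LD1_c1 LD2_c6 LD3_c9) (LK LD1_c0 LD2_c30 LD3_c14) Lrfl Lrfl
theorem f95762 : Led Lsl_gt (LP (LK LD1_c1 LD2_c31 LD3_c43)) = (LP (LK LD1_c0 LD2_c42 LD3_c32)) :=
  Lre_g IH (LK LD1_c1 LD2_c31 LD3_c43) (LK LD1_c0 LD2_c42 LD3_c32) Lrfl Lrfl
theorem f131531 : Led Lsl_ct (LP (LK LD1_c1 LD2_c31 LD3_c43)) = (LP (LK LD1_c1 LD2_c29 LD3_c47)) :=
  Lgr Lrot8 (Lpr_gt (f95762 IH) (Lpr_dt (f82462 IH) (Lpe (f114394 IH) (Lpr_dt (f104592 IH) (Lpr_cf (f104590 IH) (Lpe (f104601 IH) (Lpe (f84022 IH) (Lpr_df (f126955 IH) (Lpr_gf (f131527 IH) (Lpn (LP (LK LD1_c1 LD2_c29 LD3_c47))))))))))))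
theorem f131535 : Led Lsl_bt (LP (LK LD1_c1 LD2_c31 LD3_c43)) = (LP (LK LD1_c1 LD2_c29 LD3_c47)) :=
  Lgr Lrot130 (Lpr_ct (f131531 IH) (Lpe (f62624 IH) (Lpe (K2.f62627 IH) (Lpr_bt (f62609 IH) (Lpe (f125407 IH) (Lpr_bf (K2.f77850 IH) (Lpe (K2.f77886 IH) (Lpe (f125455 IH) (Lpe (f120044 IH) (Lpr_gf (f131527 IH) (Lpn (LP (LK LD1_c1 LD2_c29 LD3_c47)))))))))))))
theorem f82479 : Led Lsl_ft (LP (LK LD1_c0 LD2_c42 LD3_c26)) = (LP (LK LD1_c1 LD2_c31 LD3_c43)) :=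
  Lre_f IH (LK LD1_c0 LD2_c42 LD3_c26) (LK LD1_c1 LD2_c31 LD3_c43) Lrfl Lrfl
theorem f131529 : Led Lsl_ff (LP (LK LD1_c1 LD2_c6 LD3_c43)) = (LP (LK LD1_c1 LD2_c29 LD3_c47)) :=
  Lgr Lrot52 (Lpr_at (f82457 IH) (Lpe (K4.f25757 IH) (Lpr_gf (f131527 IH) (Lpn (LP (LK LD1_c1 LD2_c29 LD3_c47))))))
theorem f131539 : Led Lsl_bf (LP (LK LD1_c0 LD2_c42 LD3_c26)) = (LP (LK LD1_c1 LD2_c6 LD3_c43)) :=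
  Lgr Lrot61 (Lpr_ft (f82479 IH) (Lpr_bt (f131535 IH) (Lpe (f131529 IH) (Lpn (LP (LK LD1_c1 LD2_c6 LD3_c43))))))
theorem f131547 : Led Lsl_et (LP (LK LD1_c0 LD2_c30 LD3_c32)) = (LP (LK LD1_c1 LD2_c6 LD3_c43)) :=
  Lre_e IH (LK LD1_c0 LD2_c30 LD3_c32) (LK LD1_c1 LD2_c6 LD3_c43) Lrfl Lrfl
theorem f131548 : Led Lsl_bt (LP (LK LD1_c0 LD2_c18 LD3_c56)) = (LP (LK LD1_c0 LD2_c30 LD3_c32)) :=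
  Lgr Lrot119 (Lpe (f131389 IH) (Lpr_bf (f131539 IH) (Lpe (f131547 IH) (Lpn (LP (LK LD1_c0 LD2_c30 LD3_c32))))))
theorem f57588 : Led Lsl_bt (LP (LK LD1_c0 LD2_c41 LD3_c31)) = (LP (LK LD1_c0 LD2_c18 LD3_c34)) :=
  Lre_b IH (LK LD1_c0 LD2_c41 LD3_c31) (LK LD1_c0 LD2_c18 LD3_c34) Lrfl Lrfl
theorem f131555 : Led Lsl_gf (LP (LK LD1_c0 LD2_c30 LD3_c32)) = (LP (LK LD1_c0 LD2_c18 LD3_c33)) :=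
  Lgr Lrot129 (Lpe (f82392 IH) (Lpr_bt (f131548 IH) (Lpr_gt (f131404 IH) (Lpe (f57588 IH) (Lpe (f125277 IH) (Lpe (f127026 IH) (Lpe (K4.f58190 IH) (Lpr_bt (K4.f61243 IH) (Lpr_gt (f113374 IH) (Lpr_ct (K4.f25015 IH) (Lpn (LP (LK LD1_c0 LD2_c18 LD3_c33)))))))))))))
theorem f131552 : Led Lsl_dt (LP (LK LD1_c0 LD2_c30 LD3_c32)) = (LP (LK LD1_c1 LD2_c6 LD3_c42)) :=
  Lre_d IH (LK LD1_c0 LD2_c30 LD3_c32) (LK LD1_c1 LD2_c6 LD3_c42) Lrfl Lrfl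
theorem f131559 : Led Lsl_gt (LP (LK LD1_c1 LD2_c6 LD3_c42)) = (LP (LK LD1_c0 LD2_c41 LD3_c37)) :=
  Lgr Lrot49 (Lpe (f131552 IH) (Lpr_gf (f131555 IH) (Lpe (K4.f25015 IH) (Lpr_gt (K1.f24974 IH) (Lpe (K3.f79608 IH) (Lpe (K3.f104308 IH) (Lpr_dt (K3.f26155 IH) (Lpe (K3.f26154 IH) (Lpr_df (K3.f91439 IH) (Lpn (LP (LK LD1_c0 LD2_c41 LD3_c37))))))))))))
theorem f131573 : Led Lsl_gf (LP (LK LD1_c1 LD2_c6 LD3_c43)) = (LP (LK LD1_c0 LD2_c42 LD3_c50)) :=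
  Lgr Lrot141 (Lpe (f131547 IH) (Lpr_dt (f131552 IH) (Lpr_gt (f131559 IH) (Lpe (f91435 IH) (Lpe (f131438 IH) (Lpr_gt (K3.f57579 IH) (Lpr_dt (K1.f25017 IH) (Lpr_gt (K1.f25018 IH) (Lpe (K3.f104202 IH) (Lpr_et (K4.f104217 IH) (Lpn (LP (LK LD1_c0 LD2_c42 LD3_c50)))))))))))))
theorem f82443 : Led Lsl_at (LP (LK LD1_c0 LD2_c42 LD3_c26)) = (LP (LK LD1_c0 LD2_c18 LD3_c58)) :=
  Lre_a IH (LK LD1_c0 LD2_c42 LD3_c26) (LK LD1_c0 LD2_c18 LD3_c58) Lrfl Lrfl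
theorem f82444 : Led Lsl_at (LP (LK LD1_c0 LD2_c30 LD3_c34)) = (LP (LK LD1_c1 LD2_c6 LD3_c43)) :=
  Lre_a IH (LK LD1_c0 LD2_c30 LD3_c34) (LK LD1_c1 LD2_c6 LD3_c43) Lrfl Lrfl
theorem f82445 : Led Lsl_cf (LP (LK LD1_c0 LD2_c42 LD3_c26)) = (LP (LK LD1_c1 LD2_c6 LD3_c43)) :=
  Lgr Lrot1 (Lpr_at (f82443 IH) (Lpr_ct (K2.f82395 IH) (Lpr_at (f82444 IH) (Lpn (LP (LK LD1_c1 LD2_c6 LD3_c43))))))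
theorem f126891 : Led Lsl_gt (LP (LK LD1_c1 LD2_c26 LD3_c24)) = (LP (LK LD1_c1 LD2_c48 LD3_c24)) :=
  Lgr Lrot65 (Lpr_cf (f109170 IH) (Lpr_bt (f106334 IH) (Lpe (f106697 IH) (Lpe (f94380 IH) (Lpr_ct (f125098 IH) (Lpe (f124135 IH) (Lpe (K4.f120913 IH) (Lpe (f121008 IH) (Lpr_bf (f126852 IH) (Lpr_ct (f124263 IH) (Lpn (LP (LK LD1_c1 LD2_c48 LD3_c24)))))))))))))
theorem f131579 : Led Lsl_gt (LP (LK LD1_c0 LD2_c42 LD3_c26)) = (LP (LK LD1_c0 LD2_c42 LD3_c24)) :=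
  Lgr Lrot149 (Lpr_cf (f82445 IH) (Lpr_gf (f131573 IH) (Lpe (f24344 IH) (Lpr_ct (K3.f24350 IH) (Lpe (f24360 IH) (Lpe (f126783 IH) (Lpr_bt (f126842 IH) (Lpe (f126891 IH) (Lpe (f82420 IH) (Lpr_ct (f82422 IH) (Lpn (LP (LK LD1_c0 LD2_c42 LD3_c24)))))))))))))
theorem f82507 : Led Lsl_et (LP (LK LD1_c0 LD2_c18 LD3_c56)) = (LP (LK LD1_c0 LD2_c42 LD3_c26)) :=
  Lre_e IH (LK LD1_c0 LD2_c18 LD3_c56) (LK LD1_c0 LD2_c42 LD3_c26) Lrfl Lrfl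
theorem f82513 : Led Lsl_dt (LP (LK LD1_c0 LD2_c18 LD3_c56)) = (LP (LK LD1_c0 LD2_c42 LD3_c25)) :=
  Lre_d IH (LK LD1_c0 LD2_c18 LD3_c56) (LK LD1_c0 LD2_c42 LD3_c25) Lrfl Lrfl
theorem f119850 : Led Lsl_dt (LP (LK LD1_c0 LD2_c18 LD3_c55)) = (LP (LK LD1_c0 LD2_c42 LD3_c23)) :=
  Lre_d IH (LK LD1_c0 LD2_c18 LD3_c55) (LK LD1_c0 LD2_c42 LD3_c23) Lrfl Lrfl
theorem f68567 : Led Lsl_bt (LP (LK LD1_c0 LD2_c18 LD3_c49)) = (LP (LK LD1_c0 LD2_c8 LD3_c28)) :=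
  Lre_b IH (LK LD1_c0 LD2_c18 LD3_c49) (LK LD1_c0 LD2_c8 LD3_c28) Lrfl Lrfl
theorem f59808 : Led Lsl_gf (LP (LK LD1_c0 LD2_c7 LD3_c61)) = (LP (LK LD1_c0 LD2_c8 LD3_c28)) :=
  Lgr Lrot126 (Lpe (K0.f20551 IH) (Lpr_bt (K1.f56039 IH) (Lpr_gt (K1.f58941 IH) (Lpr_ct (K1.f21181 IH) (Lpr_gt (K1.f59724 IH) (Lpe (K1.f56568 IH) (Lpr_bt (K1.f59723 IH) (Lpr_gt (K1.f59252 IH) (Lpe (K1.f37935 IH) (Lpr_ct (K1.f56566 IH) (Lpn (LP (LK LD1_c0 LD2_c8 LD3_c28)))))))))))))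
theorem f68991 : Led Lsl_bt (LP (LK LD1_c0 LD2_c17 LD3_c49)) = (LP (LK LD1_c0 LD2_c7 LD3_c61)) :=
  Lre_b IH (LK LD1_c0 LD2_c17 LD3_c49) (LK LD1_c0 LD2_c7 LD3_c61) Lrfl Lrfl
theorem f72846 : Led Lsl_ct (LP (LK LD1_c2 LD2_c58 LD3_c16)) = (LP (LK LD1_c1 LD2_c24 LD3_c48)) :=
  Lre_c IH (LK LD1_c2 LD2_c58 LD3_c16) (LK LD1_c1 LD2_c24 LD3_c48) Lrfl Lrfl
theorem f66271 : Led Lsl_gt (LP (LK LD1_c2 LD2_c49 LD3_c49)) = (LP (LK LD1_c1 LD2_c20 LD3_c61)) :=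
  Lre_g IH (LK LD1_c2 LD2_c49 LD3_c49) (LK LD1_c1 LD2_c20 LD3_c61) Lrfl Lrfl
theorem f119841 : Led Lsl_bt (LP (LK LD1_c2 LD2_c58 LD3_c16)) = (LP (LK LD1_c2 LD2_c49 LD3_c49)) :=
  Lgr Lrot130 (Lpr_ct (f72846 IH) (Lpe (K4.f56023 IH) (Lpe (K2.f37267 IH) (Lpr_bt (f68991 IH) (Lpr_gf (f59808 IH) (Lpe (f68567 IH) (Lpr_ct (K4.f59711 IH) (Lpe (K4.f69211 IH) (Lpr_cf (K4.f117625 IH) (Lpe (f66271 IH) (Lpn (LP (LK LD1_c2 LD2_c49 LD3_c49)))))))))))))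
theorem f72843 : Led Lsl_ct (LP (LK LD1_c1 LD2_c24 LD3_c48)) = (LP (LK LD1_c2 LD2_c58 LD3_c16)) :=
  Lre_c IH (LK LD1_c1 LD2_c24 LD3_c48) (LK LD1_c2 LD2_c58 LD3_c16) Lrfl Lrfl
theorem f40309 : Led Lsl_bt (LP (LK LD1_c0 LD2_c14 LD3_c47)) = (LP (LK LD1_c0 LD2_c32 LD3_c54)) :=
  Lre_b IH (LK LD1_c0 LD2_c14 LD3_c47) (LK LD1_c0 LD2_c32 LD3_c54) Lrfl Lrfl
theorem f66270 : Led Lsl_dt (LP (LK LD1_c1 LD2_c20 LD3_c61)) = (LP (LK LD1_c2 LD2_c49 LD3_c51)) :=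
  Lre_d IH (LK LD1_c1 LD2_c20 LD3_c61) (LK LD1_c2 LD2_c49 LD3_c51) Lrfl Lrfl
theorem f66262 : Led Lsl_cf (LP (LK LD1_c3 LD2_c16 LD3_c44)) = (LP (LK LD1_c2 LD2_c49 LD3_c51)) :=
  Lgr Lrot11 (Lpr_ct (K4.f66160 IH) (Lpn (LP (LK LD1_c2 LD2_c49 LD3_c51))))
theorem f66273 : Led Lsl_bt (LP (LK LD1_c3 LD2_c16 LD3_c44)) = (LP (LK LD1_c1 LD2_c35 LD3_c2)) :=
  Lre_b IH (LK LD1_c3 LD2_c16 LD3_c44) (LK LD1_c1 LD2_c35 LD3_c2) Lrfl Lrfl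
theorem f82419 : Led Lsl_dt (LP (LK LD1_c0 LD2_c42 LD3_c23)) = (LP (LK LD1_c0 LD2_c18 LD3_c55)) :=
  Lre_d IH (LK LD1_c0 LD2_c42 LD3_c23) (LK LD1_c0 LD2_c18 LD3_c55) Lrfl Lrfl
theorem f109198 : Led Lsl_bf (LP (LK LD1_c0 LD2_c42 LD3_c23)) = (LP (LK LD1_c0 LD2_c51 LD3_c46)) :=
  Lgr Lrot93 (Lpr_dt (f82419 IH) (Lpr_bt (f82440 IH) (Lpr_dt (K3.f109196 IH) (Lpn (LP (LK LD1_c0 LD2_c51 LD3_c46))))))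
theorem f119848 : Led Lsl_gf (LP (LK LD1_c0 LD2_c30 LD3_c41)) = (LP (LK LD1_c0 LD2_c42 LD3_c23)) :=
  Lgr Lrot85 (Lpr_dt (K2.f26085 IH) (Lpr_ct (K2.f26074 IH) (Lpr_bt (K3.f13498 IH) (Lpr_gt (K0.f13449 IH) (Lpr_dt (K1.f58912 IH) (Lpe (K1.f58852 IH) (Lpr_bt (f40309 IH) (Lpr_gt (K4.f56864 IH) (Lpr_dt (K4.f75398 IH) (Lpr_ct (f72843 IH) (Lpr_bt (f119841 IH) (Lpr_gt (f66271 IH) (Lpr_dt (f66270 IH) (Lpe (f66262 IH) (Lpr_bt (f66273 IH) (Lpr_gt (K3.f64911 IH) (Lpe (K3.f96230 IH) (Lpr_ct (K3.f65257 IH) (Lpe (f109198 IH) (Lpn (LP (LK LD1_c0 LD2_c42 LD3_c23))))))))))))))))))))))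
theorem f131587 : Led Lsl_gf (LP (LK LD1_c0 LD2_c42 LD3_c25)) = (LP (LK LD1_c1 LD2_c6 LD3_c3)) :=
  Lgr Lrot134 (Lpe (f82513 IH) (Lpr_et (f82507 IH) (Lpr_gt (f131579 IH) (Lpe (f119852 IH) (Lpr_dt (f119850 IH) (Lpe (f119848 IH) (Lpe (K2.f26076 IH) (Lpr_et (K3.f82552 IH) (Lpr_gt (K3.f26084 IH) (Lpr_dt (K4.f104731 IH) (Lpn (LP (LK LD1_c1 LD2_c6 LD3_c3)))))))))))))
theorem f82516 : Led Lsl_dt (LP (LK LD1_c0 LD2_c42 LD3_c25)) = (LP (LK LD1_c0 LD2_c18 LD3_c56)) :=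
  Lre_d IH (LK LD1_c0 LD2_c42 LD3_c25) (LK LD1_c0 LD2_c18 LD3_c56) Lrfl Lrfl
theorem f60990 : Led Lsl_dt (LP (LK LD1_c2 LD2_c21 LD3_c1)) = (LP (LK LD1_c4 LD2_c45 LD3_c60)) :=
  Lre_d IH (LK LD1_c2 LD2_c21 LD3_c1) (LK LD1_c4 LD2_c45 LD3_c60) Lrfl Lrfl
theorem f131594 : Led Lsl_gf (LP (LK LD1_c3 LD2_c13 LD3_c27)) = (LP (LK LD1_c4 LD2_c45 LD3_c60)) :=
  Lgr Lrot143 (Lpr_dt (f104343 IH) (Lpe (f65607 IH) (Lpe (K3.f104337 IH) (Lpe (f131400 IH) (Lpe (f82516 IH) (Lpr_gf (f131587 IH) (Lpe (K4.f60989 IH) (Lpr_gt (K2.f60966 IH) (Lpr_dt (f60990 IH) (Lpn (LP (LK LD1_c4 LD2_c45 LD3_c60))))))))))))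
theorem f128888 : Led Lsl_gt (LP (LK LD1_c3 LD2_c12 LD3_c9)) = (LP (LK LD1_c6 LD2_c28 LD3_c22)) :=
  Lre_g IH (LK LD1_c3 LD2_c12 LD3_c9) (LK LD1_c6 LD2_c28 LD3_c22) Lrfl Lrfl
theorem f131598 : Led Lsl_ct (LP (LK LD1_c6 LD2_c28 LD3_c22)) = (LP (LK LD1_c4 LD2_c45 LD3_c60)) :=
  Lgr Lrot152 (Lpe (f128888 IH) (Lpe (f112042 IH) (Lpr_gt (K4.f62866 IH) (Lpr_ct (K4.f62861 IH) (Lpr_gt (f96728 IH) (Lpr_ct (f124582 IH) (Lpr_df (f128922 IH) (Lpe (f129019 IH) (Lpr_gf (f131594 IH) (Lpn (LP (LK LD1_c4 LD2_c45 LD3_c60))))))))))))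
theorem f25205 : Led Lsl_dt (LP (LK LD1_c4 LD2_c45 LD3_c60)) = (LP (LK LD1_c2 LD2_c21 LD3_c1)) :=
  Lre_d IH (LK LD1_c4 LD2_c45 LD3_c60) (LK LD1_c2 LD2_c21 LD3_c1) Lrfl Lrfl
theorem f77975 : Led Lsl_at (LP (LK LD1_c1 LD2_c35 LD3_c9)) = (LP (LK LD1_c3 LD2_c17 LD3_c0)) :=
  Lre_a IH (LK LD1_c1 LD2_c35 LD3_c9) (LK LD1_c3 LD2_c17 LD3_c0) Lrfl Lrfl
theorem f131617 : Led Lsl_df (LP (LK LD1_c6 LD2_c28 LD3_c22)) = (LP (LK LD1_c3 LD2_c15 LD3_c57)) :=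
  Lgr Lrot157 (Lpr_ct (f131598 IH) (Lpr_dt (f25205 IH) (Lpr_ct (K2.f25204 IH) (Lpr_dt (K3.f77981 IH) (Lpr_ct (K2.f77875 IH) (Lpr_dt (K3.f61951 IH) (Lpr_ct (K4.f77868 IH) (Lpe (f77975 IH) (Lpr_ff (K4.f118690 IH) (Lpn (LP (LK LD1_c3 LD2_c15 LD3_c57))))))))))))
theorem f61945 : Led Lsl_dt (LP (LK LD1_c3 LD2_c17 LD3_c3)) = (LP (LK LD1_c1 LD2_c35 LD3_c9)) :=
  Lre_d IH (LK LD1_c3 LD2_c17 LD3_c3) (LK LD1_c1 LD2_c35 LD3_c9) Lrfl Lrfl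
theorem f131626 : Led Lsl_ft (LP (LK LD1_c6 LD2_c28 LD3_c22)) = (LP (LK LD1_c3 LD2_c17 LD3_c3)) :=
  Lgr Lrot54 (Lpr_df (f131617 IH) (Lpe (K4.f118673 IH) (Lpe (f61945 IH) (Lpn (LP (LK LD1_c3 LD2_c17 LD3_c3))))))
theorem f131631 : Led Lsl_ff (LP (LK LD1_c6 LD2_c28 LD3_c22)) = (LP (LK LD1_c3 LD2_c17 LD3_c3)) :=
  Lgr Lrot3 (Lpr_ft (f131626 IH) (Lpn (LP (LK LD1_c3 LD2_c17 LD3_c3))))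
theorem f131619 : Led Lsl_at (LP (LK LD1_c6 LD2_c28 LD3_c22)) = (LP (LK LD1_c3 LD2_c17 LD3_c36)) :=
  Lgr Lrot51 (Lpr_df (f131617 IH) (Lpe (f118734 IH) (Lpe (f118700 IH) (Lpn (LP (LK LD1_c3 LD2_c17 LD3_c36))))))
theorem f131637 : Led Lsl_gf (LP (LK LD1_c3 LD2_c7 LD3_c13)) = (LP (LK LD1_c3 LD2_c17 LD3_c3)) :=
  Lgr Lrot47 (Lpe (f128365 IH) (Lpe (f131619 IH) (Lpr_ff (f131631 IH) (Lpn (LP (LK LD1_c3 LD2_c17 LD3_c3))))))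
theorem f131639 : Led Lsl_gt (LP (LK LD1_c1 LD2_c35 LD3_c21)) = (LP (LK LD1_c3 LD2_c17 LD3_c3)) :=
  Lgr Lrot5 (Lpe (f112036 IH) (Lpr_at (f128862 IH) (Lpr_gf (f131637 IH) (Lpn (LP (LK LD1_c3 LD2_c17 LD3_c3))))))
theorem f131652 : Led Lsl_df (LP (LK LD1_c0 LD2_c20 LD3_c31)) = (LP (LK LD1_c0 LD2_c23 LD3_c7)) :=
  Lgr Lrot183 (Lpr_ct (K4.f17696 IH) (Lpr_bt (K2.f17733 IH) (Lpr_gt (K2.f10767 IH) (Lpr_dt (K2.f17778 IH) (Lpr_ct (K1.f64597 IH) (Lpr_bt (f64606 IH) (Lpr_gt (f131639 IH) (Lpr_dt (f61945 IH) (Lpr_ct (K1.f61934 IH) (Lpr_bt (K1.f61876 IH) (Lpr_gt (K1.f61875 IH) (Lpr_dt (K2.f62966 IH) (Lpr_ct (K1.f12427 IH) (Lpr_bt (K0.f11271 IH) (Lpr_gt (K0.f344 IH) (Lpr_dt (K0.f345 IH) (Lpr_ct (K0.f12655 IH) (Lpr_bt (K3.f12760 IH) (Lpr_gt (K3.f12761 IH) (Lpn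 (LP (LK LD1_c0 LD2_c23 LD3_c7))))))))))))))))))))))
theorem f12901 : Led Lsl_ct (LP (LK LD1_c0 LD2_c51 LD3_c13)) = (LP (LK LD1_c0 LD2_c23 LD3_c7)) :=
  Lre_c IH (LK LD1_c0 LD2_c51 LD3_c13) (LK LD1_c0 LD2_c23 LD3_c7) Lrfl Lrfl
theorem f131674 : Led Lsl_gt (LP (LK LD1_c1 LD2_c48 LD3_c51)) = (LP (LK LD1_c0 LD2_c51 LD3_c13)) :=
  Lre_g IH (LK LD1_c1 LD2_c48 LD3_c51) (LK LD1_c0 LD2_c51 LD3_c13) Lrfl Lrfl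
theorem f131675 : Led Lsl_ct (LP (LK LD1_c1 LD2_c39 LD3_c34)) = (LP (LK LD1_c1 LD2_c48 LD3_c51)) :=
  Lgr Lrot152 (Lpr_gf (K4.f120267 IH) (Lpe (K3.f108776 IH) (Lpe (K3.f109357 IH) (Lpr_ct (K4.f84740 IH) (Lpe (K4.f109359 IH) (Lpr_ct (K0.f17728 IH) (Lpr_df (f131652 IH) (Lpe (f12901 IH) (Lpe (f131674 IH) (Lpn (LP (LK LD1_c1 LD2_c48 LD3_c51))))))))))))
theorem f131698 : Led Lsl_bf (LP (LK LD1_c0 LD2_c49 LD3_c7)) = (LP (LK LD1_c0 LD2_c23 LD3_c7)) :=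
  Lgr Lrot156 (Lpe (K4.f97463 IH) (Lpe (K2.f64796 IH) (Lpr_ct (K2.f18884 IH) (Lpr_gt (K3.f64636 IH) (Lpr_cf (K3.f104104 IH) (Lpr_bt (K4.f108748 IH) (Lpe (K4.f120267 IH) (Lpr_ct (f131675 IH) (Lpr_gt (f131674 IH) (Lpe (K3.f12762 IH) (Lpn (LP (LK LD1_c0 LD2_c23 LD3_c7)))))))))))))
theorem f90096 : Led Lsl_et (LP (LK LD1_c0 LD2_c49 LD3_c7)) = (LP (LK LD1_c1 LD2_c44 LD3_c53)) :=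
  Lre_e IH (LK LD1_c0 LD2_c49 LD3_c7) (LK LD1_c1 LD2_c44 LD3_c53) Lrfl Lrfl
theorem f131666 : Led Lsl_et (LP (LK LD1_c0 LD2_c51 LD3_c14)) = (LP (LK LD1_c0 LD2_c23 LD3_c7)) :=
  Lre_e IH (LK LD1_c0 LD2_c51 LD3_c14) (LK LD1_c0 LD2_c23 LD3_c7) Lrfl Lrfl
theorem f131703 : Led Lsl_bt (LP (LK LD1_c1 LD2_c44 LD3_c53)) = (LP (LK LD1_c0 LD2_c51 LD3_c14)) :=
  Lgr Lrot119 (Lpe (f90096 IH) (Lpr_bf (f131698 IH) (Lpe (f131666 IH) (Lpn (LP (LK LD1_c0 LD2_c51 LD3_c14))))))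
theorem f121773 : Led Lsl_ft (LP (LK LD1_c3 LD2_c36 LD3_c2)) = (LP (LK LD1_c1 LD2_c44 LD3_c53)) :=
  Lre_f IH (LK LD1_c3 LD2_c36 LD3_c2) (LK LD1_c1 LD2_c44 LD3_c53) Lrfl Lrfl
theorem f131714 : Led Lsl_ft (LP (LK LD1_c0 LD2_c51 LD3_c14)) = (LP (LK LD1_c1 LD2_c48 LD3_c57)) :=
  Lre_f IH (LK LD1_c0 LD2_c51 LD3_c14) (LK LD1_c1 LD2_c48 LD3_c57) Lrfl Lrfl
theorem f131715 : Led Lsl_bf (LP (LK LD1_c3 LD2_c36 LD3_c2)) = (LP (LK LD1_c1 LD2_c48 LD3_c57)) :=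
  Lgr Lrot61 (Lpr_ft (f121773 IH) (Lpr_bt (f131703 IH) (Lpr_ft (f131714 IH) (Lpn (LP (LK LD1_c1 LD2_c48 LD3_c57))))))
theorem f131722 : Led Lsl_bt (LP (LK LD1_c3 LD2_c36 LD3_c2)) = (LP (LK LD1_c1 LD2_c48 LD3_c57)) :=
  Lgr Lrot127 (Lpr_bf (f131715 IH) (Lpn (LP (LK LD1_c1 LD2_c48 LD3_c57))))
theorem f121762 : Led Lsl_ft (LP (LK LD1_c1 LD2_c44 LD3_c53)) = (LP (LK LD1_c3 LD2_c36 LD3_c2)) :=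
  Lre_f IH (LK LD1_c1 LD2_c44 LD3_c53) (LK LD1_c3 LD2_c36 LD3_c2) Lrfl Lrfl
theorem f121763 : Led Lsl_af (LP (LK LD1_c3 LD2_c32 LD3_c12)) = (LP (LK LD1_c3 LD2_c36 LD3_c2)) :=
  Lgr Lrot45 (Lpr_ft (K4.f92331 IH) (Lpr_at (K4.f121755 IH) (Lpr_ft (f121762 IH) (Lpn (LP (LK LD1_c3 LD2_c36 LD3_c2))))))
theorem f121769 : Led Lsl_at (LP (LK LD1_c3 LD2_c32 LD3_c12)) = (LP (LK LD1_c3 LD2_c36 LD3_c2)) :=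
  Lgr Lrot100 (Lpr_af (f121763 IH) (Lpn (LP (LK LD1_c3 LD2_c36 LD3_c2))))
theorem f93172 : Led Lsl_ft (LP (LK LD1_c3 LD2_c44 LD3_c53)) = (LP (LK LD1_c1 LD2_c49 LD3_c32)) :=
  Lre_f IH (LK LD1_c3 LD2_c44 LD3_c53) (LK LD1_c1 LD2_c49 LD3_c32) Lrfl Lrfl
theorem f93173 : Led Lsl_bf (LP (LK LD1_c3 LD2_c44 LD3_c53)) = (LP (LK LD1_c3 LD2_c32 LD3_c12)) :=
  Lgr Lrot61 (Lpr_ft (f93172 IH) (Lpr_bt (K2.f92281 IH) (Lpr_ft (K4.f92311 IH) (Lpn (LP (LK LD1_c3 LD2_c32 LD3_c12))))))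
theorem f93175 : Led Lsl_bt (LP (LK LD1_c3 LD2_c44 LD3_c53)) = (LP (LK LD1_c3 LD2_c32 LD3_c12)) :=
  Lgr Lrot127 (Lpr_bf (f93173 IH) (Lpn (LP (LK LD1_c3 LD2_c32 LD3_c12))))
theorem f122004 : Led Lsl_ft (LP (LK LD1_c3 LD2_c40 LD3_c61)) = (LP (LK LD1_c1 LD2_c47 LD3_c26)) :=
  Lre_f IH (LK LD1_c3 LD2_c40 LD3_c61) (LK LD1_c1 LD2_c47 LD3_c26) Lrfl Lrfl
theorem f93177 : Led Lsl_ft (LP (LK LD1_c1 LD2_c49 LD3_c32)) = (LP (LK LD1_c3 LD2_c44 LD3_c53)) :=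
  Lre_f IH (LK LD1_c1 LD2_c49 LD3_c32) (LK LD1_c3 LD2_c44 LD3_c53) Lrfl Lrfl
theorem f122024 : Led Lsl_af (LP (LK LD1_c3 LD2_c40 LD3_c61)) = (LP (LK LD1_c3 LD2_c44 LD3_c53)) :=
  Lgr Lrot45 (Lpr_ft (f122004 IH) (Lpr_at (K4.f122017 IH) (Lpr_ft (f93177 IH) (Lpn (LP (LK LD1_c3 LD2_c44 LD3_c53))))))
theorem f122032 : Led Lsl_at (LP (LK LD1_c3 LD2_c40 LD3_c61)) = (LP (LK LD1_c3 LD2_c44 LD3_c53)) :=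
  Lgr Lrot100 (Lpr_af (f122024 IH) (Lpn (LP (LK LD1_c3 LD2_c44 LD3_c53))))
theorem f122028 : Led Lsl_bt (LP (LK LD1_c1 LD2_c47 LD3_c31)) = (LP (LK LD1_c3 LD2_c40 LD3_c61)) :=
  Lre_b IH (LK LD1_c1 LD2_c47 LD3_c31) (LK LD1_c3 LD2_c40 LD3_c61) Lrfl Lrfl
theorem f131728 : Led Lsl_af (LP (LK LD1_c1 LD2_c47 LD3_c31)) = (LP (LK LD1_c1 LD2_c48 LD3_c57)) :=
  Lgr Lrot36 (Lpr_bt (f122028 IH) (Lpr_at (f122032 IH) (Lpr_bt (f93175 IH) (Lpr_at (f121769 IH) (Lpr_bt (f131722 IH) (Lpn (LP (LK LD1_c1 LD2_c48 LD3_c57))))))))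
theorem f122029 : Led Lsl_ct (LP (LK LD1_c3 LD2_c41 LD3_c8)) = (LP (LK LD1_c1 LD2_c47 LD3_c31)) :=
  Lre_c IH (LK LD1_c3 LD2_c41 LD3_c8) (LK LD1_c1 LD2_c47 LD3_c31) Lrfl Lrfl
theorem f122030 : Led Lsl_dt (LP (LK LD1_c7 LD2_c22 LD3_c36)) = (LP (LK LD1_c3 LD2_c41 LD3_c8)) :=
  Lre_d IH (LK LD1_c7 LD2_c22 LD3_c36) (LK LD1_c3 LD2_c41 LD3_c8) Lrfl Lrfl
theorem f131738 : Led Lsl_ct (LP (LK LD1_c13 LD2_c56 LD3_c58)) = (LP (LK LD1_c7 LD2_c22 LD3_c36)) :=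
  Lre_c IH (LK LD1_c13 LD2_c56 LD3_c58) (LK LD1_c7 LD2_c22 LD3_c36) Lrfl Lrfl
theorem f131711 : Led Lsl_dt (LP (LK LD1_c0 LD2_c51 LD3_c14)) = (LP (LK LD1_c1 LD2_c48 LD3_c56)) :=
  Lre_d IH (LK LD1_c0 LD2_c51 LD3_c14) (LK LD1_c1 LD2_c48 LD3_c56) Lrfl Lrfl
theorem f131739 : Led Lsl_ct (LP (LK LD1_c1 LD2_c48 LD3_c56)) = (LP (LK LD1_c3 LD2_c43 LD3_c45)) :=
  Lre_c IH (LK LD1_c1 LD2_c48 LD3_c56) (LK LD1_c3 LD2_c43 LD3_c45) Lrfl Lrfl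
theorem f131740 : Led Lsl_dt (LP (LK LD1_c3 LD2_c43 LD3_c45)) = (LP (LK LD1_c7 LD2_c28 LD3_c8)) :=
  Lre_d IH (LK LD1_c3 LD2_c43 LD3_c45) (LK LD1_c7 LD2_c28 LD3_c8) Lrfl Lrfl
theorem f131741 : Led Lsl_ct (LP (LK LD1_c7 LD2_c28 LD3_c8)) = (LP (LK LD1_c14 LD2_c6 LD3_c1)) :=
  Lre_c IH (LK LD1_c7 LD2_c28 LD3_c8) (LK LD1_c14 LD2_c6 LD3_c1) Lrfl Lrfl
theorem f131742 : Led Lsl_df (LP (LK LD1_c13 LD2_c56 LD3_c58)) = (LP (LK LD1_c14 LD2_c6 LD3_c1)) :=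
  Lgr Lrot13 (Lpr_ct (f131738 IH) (Lpr_dt (f122030 IH) (Lpr_ct (f122029 IH) (Lpr_af (f131728 IH) (Lpe (f131714 IH) (Lpr_dt (f131711 IH) (Lpr_ct (f131739 IH) (Lpr_dt (f131740 IH) (Lpr_ct (f131741 IH) (Lpn (LP (LK LD1_c14 LD2_c6 LD3_c1))))))))))))
theorem f131744 : Led Lsl_ct (LP (LK LD1_c1 LD2_c48 LD3_c54)) = (LP (LK LD1_c0 LD2_c51 LD3_c14)) :=
  Lre_c IH (LK LD1_c1 LD2_c48 LD3_c54) (LK LD1_c0 LD2_c51 LD3_c14) Lrfl Lrfl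
theorem f131745 : Led Lsl_dt (LP (LK LD1_c3 LD2_c43 LD3_c41)) = (LP (LK LD1_c1 LD2_c48 LD3_c54)) :=
  Lre_d IH (LK LD1_c3 LD2_c43 LD3_c41) (LK LD1_c1 LD2_c48 LD3_c54) Lrfl Lrfl
theorem f131752 : Led Lsl_ft (LP (LK LD1_c3 LD2_c43 LD3_c41)) = (LP (LK LD1_c7 LD2_c28 LD3_c2)) :=
  Lre_f IH (LK LD1_c3 LD2_c43 LD3_c41) (LK LD1_c7 LD2_c28 LD3_c2) Lrfl Lrfl
theorem f131753 : Led Lsl_af (LP (LK LD1_c7 LD2_c22 LD3_c36)) = (LP (LK LD1_c7 LD2_c28 LD3_c2)) :=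
  Lgr Lrot109 (Lpe (f131738 IH) (Lpr_df (f131742 IH) (Lpe (f131741 IH) (Lpe (f131740 IH) (Lpe (f131739 IH) (Lpe (f131711 IH) (Lpe (f131744 IH) (Lpe (f131745 IH) (Lpr_ft (f131752 IH) (Lpn (LP (LK LD1_c7 LD2_c28 LD3_c2))))))))))))
theorem f131770 : Led Lsl_ft (LP (LK LD1_c7 LD2_c22 LD3_c36)) = (LP (LK LD1_c3 LD2_c41 LD3_c7)) :=
  Lre_f IH (LK LD1_c7 LD2_c22 LD3_c36) (LK LD1_c3 LD2_c41 LD3_c7) Lrfl Lrfl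
theorem f131771 : Led Lsl_at (LP (LK LD1_c3 LD2_c41 LD3_c7)) = (LP (LK LD1_c3 LD2_c43 LD3_c41)) :=
  Lgr Lrot66 (Lpe (f131770 IH) (Lpr_af (f131753 IH) (Lpe (f131752 IH) (Lpn (LP (LK LD1_c3 LD2_c43 LD3_c41))))))
theorem f122530 : Led Lsl_et (LP (LK LD1_c7 LD2_c22 LD3_c25)) = (LP (LK LD1_c3 LD2_c41 LD3_c7)) :=
  Lre_e IH (LK LD1_c7 LD2_c22 LD3_c25) (LK LD1_c3 LD2_c41 LD3_c7) Lrfl Lrfl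
theorem f131796 : Led Lsl_et (LP (LK LD1_c3 LD2_c43 LD3_c41)) = (LP (LK LD1_c7 LD2_c27 LD3_c53)) :=
  Lre_e IH (LK LD1_c3 LD2_c43 LD3_c41) (LK LD1_c7 LD2_c27 LD3_c53) Lrfl Lrfl
theorem f131797 : Led Lsl_af (LP (LK LD1_c7 LD2_c22 LD3_c25)) = (LP (LK LD1_c7 LD2_c27 LD3_c53)) :=
  Lgr Lrot50 (Lpr_et (f122530 IH) (Lpr_at (f131771 IH) (Lpr_et (f131796 IH) (Lpn (LP (LK LD1_c7 LD2_c27 LD3_c53))))))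
theorem f131818 : Led Lsl_ft (LP (LK LD1_c7 LD2_c22 LD3_c25)) = (LP (LK LD1_c13 LD2_c56 LD3_c38)) :=
  Lre_f IH (LK LD1_c7 LD2_c22 LD3_c25) (LK LD1_c13 LD2_c56 LD3_c38) Lrfl Lrfl
theorem f131819 : Led Lsl_ft (LP (LK LD1_c14 LD2_c5 LD3_c34)) = (LP (LK LD1_c7 LD2_c27 LD3_c53)) :=
  Lre_f IH (LK LD1_c14 LD2_c5 LD3_c34) (LK LD1_c7 LD2_c27 LD3_c53) Lrfl Lrfl
theorem f131820 : Led Lsl_at (LP (LK LD1_c13 LD2_c56 LD3_c38)) = (LP (LK LD1_c14 LD2_c5 LD3_c34)) :=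
  Lgr Lrot66 (Lpe (f131818 IH) (Lpr_af (f131797 IH) (Lpe (f131819 IH) (Lpn (LP (LK LD1_c14 LD2_c5 LD3_c34))))))
theorem f122222 : Led Lsl_dt (LP (LK LD1_c7 LD2_c22 LD3_c26)) = (LP (LK LD1_c13 LD2_c56 LD3_c38)) :=
  Lre_d IH (LK LD1_c7 LD2_c22 LD3_c26) (LK LD1_c13 LD2_c56 LD3_c38) Lrfl Lrfl
theorem f131827 : Led Lsl_dt (LP (LK LD1_c14 LD2_c5 LD3_c34)) = (LP (LK LD1_c7 LD2_c27 LD3_c54)) :=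
  Lre_d IH (LK LD1_c14 LD2_c5 LD3_c34) (LK LD1_c7 LD2_c27 LD3_c54) Lrfl Lrfl
theorem f131842 : Led Lsl_af (LP (LK LD1_c7 LD2_c22 LD3_c26)) = (LP (LK LD1_c7 LD2_c27 LD3_c54)) :=
  Lgr Lrot117 (Lpr_dt (f122222 IH) (Lpr_at (f131820 IH) (Lpr_dt (f131827 IH) (Lpn (LP (LK LD1_c7 LD2_c27 LD3_c54))))))
theorem f122154 : Led Lsl_dt (LP (LK LD1_c1 LD2_c47 LD3_c27)) = (LP (LK LD1_c3 LD2_c41 LD3_c2)) :=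
  Lre_d IH (LK LD1_c1 LD2_c47 LD3_c27) (LK LD1_c3 LD2_c41 LD3_c2) Lrfl Lrfl
theorem f122130 : Led Lsl_dt (LP (LK LD1_c3 LD2_c43 LD3_c48)) = (LP (LK LD1_c1 LD2_c48 LD3_c59)) :=
  Lre_d IH (LK LD1_c3 LD2_c43 LD3_c48) (LK LD1_c1 LD2_c48 LD3_c59) Lrfl Lrfl
theorem f122168 : Led Lsl_ft (LP (LK LD1_c3 LD2_c41 LD3_c2)) = (LP (LK LD1_c3 LD2_c43 LD3_c48)) :=
  Lgr Lrot54 (Lpe (f122154 IH) (Lpr_ff (K4.f122150 IH) (Lpe (f122130 IH) (Lpn (LP (LK LD1_c3 LD2_c43 LD3_c48))))))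
theorem f122184 : Led Lsl_et (LP (LK LD1_c7 LD2_c22 LD3_c19)) = (LP (LK LD1_c3 LD2_c41 LD3_c2)) :=
  Lre_e IH (LK LD1_c7 LD2_c22 LD3_c19) (LK LD1_c3 LD2_c41 LD3_c2) Lrfl Lrfl
theorem f122185 : Led Lsl_ft (LP (LK LD1_c13 LD2_c56 LD3_c23)) = (LP (LK LD1_c7 LD2_c22 LD3_c19)) :=
  Lre_f IH (LK LD1_c13 LD2_c56 LD3_c23) (LK LD1_c7 LD2_c22 LD3_c19) Lrfl Lrfl
theorem f122186 : Led Lsl_et (LP (LK LD1_c3 LD2_c43 LD3_c48)) = (LP (LK LD1_c7 LD2_c28 LD3_c12)) :=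
  Lre_e IH (LK LD1_c3 LD2_c43 LD3_c48) (LK LD1_c7 LD2_c28 LD3_c12) Lrfl Lrfl
theorem f122187 : Led Lsl_ft (LP (LK LD1_c7 LD2_c28 LD3_c12)) = (LP (LK LD1_c14 LD2_c6 LD3_c7)) :=
  Lre_f IH (LK LD1_c7 LD2_c28 LD3_c12) (LK LD1_c14 LD2_c6 LD3_c7) Lrfl Lrfl
theorem f122188 : Led Lsl_ef (LP (LK LD1_c13 LD2_c56 LD3_c23)) = (LP (LK LD1_c14 LD2_c6 LD3_c7)) :=
  Lgr Lrot21 (Lpr_ft (f122185 IH) (Lpr_et (f122184 IH) (Lpr_ft (f122168 IH) (Lpr_et (f122186 IH) (Lpr_ft (f122187 IH) (Lpn (LP (LK LD1_c14 LD2_c6 LD3_c7))))))))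
theorem f122200 : Led Lsl_bt (LP (LK LD1_c13 LD2_c56 LD3_c23)) = (LP (LK LD1_c7 LD2_c22 LD3_c26)) :=
  Lre_b IH (LK LD1_c13 LD2_c56 LD3_c23) (LK LD1_c7 LD2_c22 LD3_c26) Lrfl Lrfl
theorem f122201 : Led Lsl_bt (LP (LK LD1_c7 LD2_c28 LD3_c18)) = (LP (LK LD1_c14 LD2_c6 LD3_c7)) :=
  Lre_b IH (LK LD1_c7 LD2_c28 LD3_c18) (LK LD1_c14 LD2_c6 LD3_c7) Lrfl Lrfl
theorem f122202 : Led Lsl_et (LP (LK LD1_c7 LD2_c22 LD3_c26)) = (LP (LK LD1_c7 LD2_c28 LD3_c18)) :=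
  Lgr Lrot74 (Lpe (f122200 IH) (Lpr_ef (f122188 IH) (Lpe (f122201 IH) (Lpn (LP (LK LD1_c7 LD2_c28 LD3_c18))))))
theorem f131974 : Led Lsl_et (LP (LK LD1_c7 LD2_c22 LD3_c0)) = (LP (LK LD1_c7 LD2_c27 LD3_c54)) :=
  Lgr Lrot123 (Lpr_af (K4.f122414 IH) (Lpe (f122202 IH) (Lpr_af (f131842 IH) (Lpn (LP (LK LD1_c7 LD2_c27 LD3_c54))))))
theorem f12607 : Led Lsl_et (LP (LK LD1_c1 LD2_c47 LD3_c23)) = (LP (LK LD1_c3 LD2_c40 LD3_c53)) :=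
  Lre_e IH (LK LD1_c1 LD2_c47 LD3_c23) (LK LD1_c3 LD2_c40 LD3_c53) Lrfl Lrfl
theorem f131991 : Led Lsl_ft (LP (LK LD1_c7 LD2_c27 LD3_c54)) = (LP (LK LD1_c3 LD2_c43 LD3_c38)) :=
  Lre_f IH (LK LD1_c7 LD2_c27 LD3_c54) (LK LD1_c3 LD2_c43 LD3_c38) Lrfl Lrfl
theorem f131992 : Led Lsl_et (LP (LK LD1_c3 LD2_c43 LD3_c38)) = (LP (LK LD1_c1 LD2_c48 LD3_c53)) :=
  Lre_e IH (LK LD1_c3 LD2_c43 LD3_c38) (LK LD1_c1 LD2_c48 LD3_c53) Lrfl Lrfl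
theorem f131993 : Led Lsl_ff (LP (LK LD1_c1 LD2_c47 LD3_c23)) = (LP (LK LD1_c1 LD2_c48 LD3_c53)) :=
  Lgr Lrot72 (Lpr_et (f12607 IH) (Lpr_ft (K4.f122439 IH) (Lpr_et (f131974 IH) (Lpr_ft (f131991 IH) (Lpr_et (f131992 IH) (Lpn (LP (LK LD1_c1 LD2_c48 LD3_c53))))))))
theorem f13549 : Led Lsl_dt (LP (LK LD1_c3 LD2_c26 LD3_c41)) = (LP (LK LD1_c1 LD2_c40 LD3_c0)) :=
  Lre_d IH (LK LD1_c3 LD2_c26 LD3_c41) (LK LD1_c1 LD2_c40 LD3_c0) Lrfl Lrfl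
theorem f12837 : Led Lsl_dt (LP (LK LD1_c0 LD2_c51 LD3_c13)) = (LP (LK LD1_c1 LD2_c48 LD3_c53)) :=
  Lre_d IH (LK LD1_c0 LD2_c51 LD3_c13) (LK LD1_c1 LD2_c48 LD3_c53) Lrfl Lrfl
theorem f131694 : Led Lsl_gf (LP (LK LD1_c3 LD2_c26 LD3_c41)) = (LP (LK LD1_c1 LD2_c48 LD3_c53)) :=
  Lgr Lrot154 (Lpr_dt (f13549 IH) (Lpr_ct (f13548 IH) (Lpe (K4.f91490 IH) (Lpr_gf (f90113 IH) (Lpe (K4.f84755 IH) (Lpe (K4.f124017 IH) (Lpr_ct (f131675 IH) (Lpr_gt (f131674 IH) (Lpr_dt (f12837 IH) (Lpn (LP (LK LD1_c1 LD2_c48 LD3_c53))))))))))))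
theorem f132005 : Led Lsl_gf (LP (LK LD1_c1 LD2_c48 LD3_c60)) = (LP (LK LD1_c3 LD2_c26 LD3_c41)) :=
  Lgr Lrot76 (Lpe (K4.f122458 IH) (Lpr_ff (f131993 IH) (Lpe (f131694 IH) (Lpn (LP (LK LD1_c3 LD2_c26 LD3_c41))))))
theorem f116533 : Led Lsl_dt (LP (LK LD1_c0 LD2_c51 LD3_c16)) = (LP (LK LD1_c1 LD2_c48 LD3_c60)) :=
  Lre_d IH (LK LD1_c0 LD2_c51 LD3_c16) (LK LD1_c1 LD2_c48 LD3_c60) Lrfl Lrfl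
theorem f96344 : Led Lsl_dt (LP (LK LD1_c3 LD2_c40 LD3_c3)) = (LP (LK LD1_c1 LD2_c47 LD3_c0)) :=
  Lre_d IH (LK LD1_c3 LD2_c40 LD3_c3) (LK LD1_c1 LD2_c47 LD3_c0) Lrfl Lrfl
theorem f116534 : Led Lsl_gt (LP (LK LD1_c1 LD2_c48 LD3_c60)) = (LP (LK LD1_c3 LD2_c40 LD3_c3)) :=
  Lgr Lrot49 (Lpe (f116533 IH) (Lpr_gf (K4.f116531 IH) (Lpr_cf (K3.f12764 IH) (Lpe (K3.f109120 IH) (Lpr_dt (K3.f109310 IH) (Lpe (K3.f109357 IH) (Lpr_dt (K2.f84742 IH) (Lpe (f96338 IH) (Lpe (f96344 IH) (Lpn (LP (LK LD1_c3 LD2_c40 LD3_c3))))))))))))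
theorem f132007 : Led Lsl_af (LP (LK LD1_c3 LD2_c40 LD3_c3)) = (LP (LK LD1_c3 LD2_c40 LD3_c51)) :=
  Lgr Lrot31 (Lpe (f116534 IH) (Lpr_gf (f132005 IH) (Lpe (f128016 IH) (Lpn (LP (LK LD1_c3 LD2_c40 LD3_c51))))))
theorem f132032 : Led Lsl_at (LP (LK LD1_c1 LD2_c47 LD3_c0)) = (LP (LK LD1_c1 LD2_c48 LD3_c4)) :=
  Lgr Lrot51 (Lpe (f96344 IH) (Lpr_af (f132007 IH) (Lpr_df (f122626 IH) (Lpn (LP (LK LD1_c1 LD2_c48 LD3_c4))))))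
theorem f26199 : Led Lsl_gt (LP (LK LD1_c1 LD2_c48 LD3_c5)) = (LP (LK LD1_c0 LD2_c50 LD3_c48)) :=
  Lre_g IH (LK LD1_c1 LD2_c48 LD3_c5) (LK LD1_c0 LD2_c50 LD3_c48) Lrfl Lrfl
theorem f132147 : Led Lsl_ff (LP (LK LD1_c1 LD2_c47 LD3_c0)) = (LP (LK LD1_c1 LD2_c48 LD3_c5)) :=
  Lgr Lrot52 (Lpr_at (f132032 IH) (Lpe (K4.f26198 IH) (Lpe (f26199 IH) (Lpn (LP (LK LD1_c1 LD2_c48 LD3_c5))))))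
theorem f132159 : Led Lsl_ft (LP (LK LD1_c1 LD2_c47 LD3_c0)) = (LP (LK LD1_c1 LD2_c48 LD3_c5)) :=
  Lgr Lrot48 (Lpr_ff (f132147 IH) (Lpn (LP (LK LD1_c1 LD2_c48 LD3_c5))))
theorem f96979 : Led Lsl_ft (LP (LK LD1_c1 LD2_c39 LD3_c61)) = (LP (LK LD1_c1 LD2_c42 LD3_c40)) :=
  Lgr Lrot48 (Lpr_ff (f96972 IH) (Lpn (LP (LK LD1_c1 LD2_c42 LD3_c40))))
theorem f132166 : Led Lsl_cf (LP (LK LD1_c1 LD2_c39 LD3_c61)) = (LP (LK LD1_c1 LD2_c48 LD3_c5)) :=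
  Lgr Lrot108 (Lpr_ft (f96979 IH) (Lpe (K4.f96331 IH) (Lpr_ft (f132159 IH) (Lpn (LP (LK LD1_c1 LD2_c48 LD3_c5))))))
theorem f110076 : Led Lsl_bf (LP (LK LD1_c1 LD2_c44 LD3_c48)) = (LP (LK LD1_c1 LD2_c39 LD3_c61)) :=
  Lgr Lrot61 (Lpr_ft (K3.f110074 IH) (Lpe (K2.f84922 IH) (Lpe (f96972 IH) (Lpn (LP (LK LD1_c1 LD2_c39 LD3_c61))))))
theorem f108151 : Led Lsl_bt (LP (LK LD1_c3 LD2_c42 LD3_c11)) = (LP (LK LD1_c1 LD2_c48 LD3_c5)) :=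
  Lre_b IH (LK LD1_c3 LD2_c42 LD3_c11) (LK LD1_c1 LD2_c48 LD3_c5) Lrfl Lrfl
theorem f132228 : Led Lsl_ct (LP (LK LD1_c1 LD2_c50 LD3_c48)) = (LP (LK LD1_c3 LD2_c42 LD3_c11)) :=
  Lgr Lrot83 (Lpe (K4.f91262 IH) (Lpe (K3.f91234 IH) (Lpr_bf (f110076 IH) (Lpr_cf (f132166 IH) (Lpe (f108151 IH) (Lpn (LP (LK LD1_c3 LD2_c42 LD3_c11))))))))
theorem f116672 : Led Lsl_et (LP (LK LD1_c3 LD2_c47 LD3_c26)) = (LP (LK LD1_c1 LD2_c50 LD3_c48)) :=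
  Lre_e IH (LK LD1_c3 LD2_c47 LD3_c26) (LK LD1_c1 LD2_c50 LD3_c48) Lrfl Lrfl
theorem f132232 : Led Lsl_et (LP (LK LD1_c3 LD2_c42 LD3_c11)) = (LP (LK LD1_c7 LD2_c25 LD3_c4)) :=
  Lre_e IH (LK LD1_c3 LD2_c42 LD3_c11) (LK LD1_c7 LD2_c25 LD3_c4) Lrfl Lrfl
theorem f132233 : Led Lsl_cf (LP (LK LD1_c3 LD2_c47 LD3_c26)) = (LP (LK LD1_c7 LD2_c25 LD3_c4)) :=
  Lgr Lrot39 (Lpr_et (f116672 IH) (Lpr_ct (f132228 IH) (Lpr_et (f132232 IH) (Lpn (LP (LK LD1_c7 LD2_c25 LD3_c4))))))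
theorem f132237 : Led Lsl_ct (LP (LK LD1_c3 LD2_c47 LD3_c26)) = (LP (LK LD1_c7 LD2_c25 LD3_c4)) :=
  Lgr Lrot59 (Lpr_cf (f132233 IH) (Lpn (LP (LK LD1_c7 LD2_c25 LD3_c4))))
theorem f91267 : Led Lsl_bt (LP (LK LD1_c1 LD2_c50 LD3_c50)) = (LP (LK LD1_c3 LD2_c47 LD3_c26)) :=
  Lre_b IH (LK LD1_c1 LD2_c50 LD3_c50) (LK LD1_c3 LD2_c47 LD3_c26) Lrfl Lrfl
theorem f91241 : Led Lsl_et (LP (LK LD1_c1 LD2_c44 LD3_c48)) = (LP (LK LD1_c3 LD2_c35 LD3_c55)) :=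
  Lre_e IH (LK LD1_c1 LD2_c44 LD3_c48) (LK LD1_c3 LD2_c35 LD3_c55) Lrfl Lrfl
theorem f91260 : Led Lsl_ct (LP (LK LD1_c3 LD2_c35 LD3_c55)) = (LP (LK LD1_c1 LD2_c50 LD3_c50)) :=
  Lgr Lrot15 (Lpe (f91241 IH) (Lpr_cf (K3.f91236 IH) (Lpe (K3.f63710 IH) (Lpn (LP (LK LD1_c1 LD2_c50 LD3_c50))))))
theorem f132182 : Led Lsl_bt (LP (LK LD1_c7 LD2_c25 LD3_c4)) = (LP (LK LD1_c3 LD2_c42 LD3_c12)) :=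
  Lre_b IH (LK LD1_c7 LD2_c25 LD3_c4) (LK LD1_c3 LD2_c42 LD3_c12) Lrfl Lrfl
theorem f96458 : Led Lsl_et (LP (LK LD1_c3 LD2_c40 LD3_c4)) = (LP (LK LD1_c1 LD2_c47 LD3_c0)) :=
  Lre_e IH (LK LD1_c3 LD2_c40 LD3_c4) (LK LD1_c1 LD2_c47 LD3_c0) Lrfl Lrfl
theorem f96350 : Led Lsl_ft (LP (LK LD1_c7 LD2_c20 LD3_c17)) = (LP (LK LD1_c3 LD2_c40 LD3_c4)) :=
  Lre_f IH (LK LD1_c7 LD2_c20 LD3_c17) (LK LD1_c3 LD2_c40 LD3_c4) Lrfl Lrfl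
theorem f132168 : Led Lsl_et (LP (LK LD1_c1 LD2_c48 LD3_c5)) = (LP (LK LD1_c3 LD2_c42 LD3_c12)) :=
  Lre_e IH (LK LD1_c1 LD2_c48 LD3_c5) (LK LD1_c3 LD2_c42 LD3_c12) Lrfl Lrfl
theorem f132169 : Led Lsl_ft (LP (LK LD1_c3 LD2_c42 LD3_c12)) = (LP (LK LD1_c7 LD2_c25 LD3_c6)) :=
  Lre_f IH (LK LD1_c3 LD2_c42 LD3_c12) (LK LD1_c7 LD2_c25 LD3_c6) Lrfl Lrfl
theorem f132170 : Led Lsl_ef (LP (LK LD1_c7 LD2_c20 LD3_c17)) = (LP (LK LD1_c7 LD2_c25 LD3_c6)) :=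
  Lgr Lrot21 (Lpr_ft (f96350 IH) (Lpr_et (f96458 IH) (Lpr_ft (f132159 IH) (Lpr_et (f132168 IH) (Lpr_ft (f132169 IH) (Lpn (LP (LK LD1_c7 LD2_c25 LD3_c6))))))))
theorem f96341 : Led Lsl_et (LP (LK LD1_c1 LD2_c47 LD3_c0)) = (LP (LK LD1_c3 LD2_c40 LD3_c4)) :=
  Lre_e IH (LK LD1_c1 LD2_c47 LD3_c0) (LK LD1_c3 LD2_c40 LD3_c4) Lrfl Lrfl
theorem f84924 : Led Lsl_et (LP (LK LD1_c3 LD2_c31 LD3_c60)) = (LP (LK LD1_c1 LD2_c42 LD3_c40)) :=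
  Lre_e IH (LK LD1_c3 LD2_c31 LD3_c60) (LK LD1_c1 LD2_c42 LD3_c40) Lrfl Lrfl
theorem f96342 : Led Lsl_ct (LP (LK LD1_c3 LD2_c40 LD3_c4)) = (LP (LK LD1_c3 LD2_c31 LD3_c60)) :=
  Lgr Lrot15 (Lpe (f96341 IH) (Lpr_cf (K4.f96331 IH) (Lpe (f84924 IH) (Lpn (LP (LK LD1_c3 LD2_c31 LD3_c60))))))
theorem f84954 : Led Lsl_ft (LP (LK LD1_c3 LD2_c31 LD3_c60)) = (LP (LK LD1_c7 LD2_c5 LD3_c27)) :=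
  Lre_f IH (LK LD1_c3 LD2_c31 LD3_c60) (LK LD1_c7 LD2_c5 LD3_c27) Lrfl Lrfl
theorem f96351 : Led Lsl_cf (LP (LK LD1_c7 LD2_c20 LD3_c17)) = (LP (LK LD1_c7 LD2_c5 LD3_c27)) :=
  Lgr Lrot108 (Lpr_ft (f96350 IH) (Lpr_ct (f96342 IH) (Lpr_ft (f84954 IH) (Lpn (LP (LK LD1_c7 LD2_c5 LD3_c27))))))
theorem f96356 : Led Lsl_ct (LP (LK LD1_c7 LD2_c20 LD3_c17)) = (LP (LK LD1_c7 LD2_c5 LD3_c27)) :=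
  Lgr Lrot59 (Lpr_cf (f96351 IH) (Lpn (LP (LK LD1_c7 LD2_c5 LD3_c27))))
theorem f96981 : Led Lsl_et (LP (LK LD1_c3 LD2_c26 LD3_c39)) = (LP (LK LD1_c1 LD2_c39 LD3_c61)) :=
  Lre_e IH (LK LD1_c3 LD2_c26 LD3_c39) (LK LD1_c1 LD2_c39 LD3_c61) Lrfl Lrfl
theorem f96982 : Led Lsl_ft (LP (LK LD1_c6 LD2_c55 LD3_c9)) = (LP (LK LD1_c3 LD2_c26 LD3_c39)) :=
  Lre_f IH (LK LD1_c6 LD2_c55 LD3_c9) (LK LD1_c3 LD2_c26 LD3_c39) Lrfl Lrfl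
theorem f84932 : Led Lsl_et (LP (LK LD1_c1 LD2_c42 LD3_c40)) = (LP (LK LD1_c3 LD2_c31 LD3_c60)) :=
  Lre_e IH (LK LD1_c1 LD2_c42 LD3_c40) (LK LD1_c3 LD2_c31 LD3_c60) Lrfl Lrfl
theorem f96983 : Led Lsl_ef (LP (LK LD1_c6 LD2_c55 LD3_c9)) = (LP (LK LD1_c7 LD2_c5 LD3_c27)) :=
  Lgr Lrot21 (Lpr_ft (f96982 IH) (Lpr_et (f96981 IH) (Lpr_ft (f96979 IH) (Lpr_et (f84932 IH) (Lpr_ft (f84954 IH) (Lpn (LP (LK LD1_c7 LD2_c5 LD3_c27))))))))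
theorem f132172 : Led Lsl_ct (LP (LK LD1_c6 LD2_c55 LD3_c9)) = (LP (LK LD1_c7 LD2_c25 LD3_c6)) :=
  Lgr Lrot15 (Lpr_ef (f96983 IH) (Lpe (f96356 IH) (Lpr_ef (f132170 IH) (Lpn (LP (LK LD1_c7 LD2_c25 LD3_c6))))))
theorem f96976 : Led Lsl_ft (LP (LK LD1_c3 LD2_c26 LD3_c39)) = (LP (LK LD1_c6 LD2_c55 LD3_c9)) :=
  Lre_f IH (LK LD1_c3 LD2_c26 LD3_c39) (LK LD1_c6 LD2_c55 LD3_c9) Lrfl Lrfl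
theorem f132156 : Led Lsl_ft (LP (LK LD1_c7 LD2_c25 LD3_c6)) = (LP (LK LD1_c3 LD2_c42 LD3_c12)) :=
  Lre_f IH (LK LD1_c7 LD2_c25 LD3_c6) (LK LD1_c3 LD2_c42 LD3_c12) Lrfl Lrfl
theorem f132176 : Led Lsl_cf (LP (LK LD1_c3 LD2_c26 LD3_c39)) = (LP (LK LD1_c3 LD2_c42 LD3_c12)) :=
  Lgr Lrot108 (Lpr_ft (f96976 IH) (Lpr_ct (f132172 IH) (Lpr_ft (f132156 IH) (Lpn (LP (LK LD1_c3 LD2_c42 LD3_c12))))))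
theorem f132251 : Led Lsl_bf (LP (LK LD1_c3 LD2_c35 LD3_c55)) = (LP (LK LD1_c3 LD2_c26 LD3_c39)) :=
  Lgr Lrot90 (Lpr_ct (f91260 IH) (Lpr_bt (f91267 IH) (Lpr_ct (f132237 IH) (Lpr_bt (f132182 IH) (Lpe (f132176 IH) (Lpn (LP (LK LD1_c3 LD2_c26 LD3_c39))))))))
theorem f91268 : Led Lsl_cf (LP (LK LD1_c3 LD2_c35 LD3_c55)) = (LP (LK LD1_c1 LD2_c50 LD3_c50)) :=
  Lgr Lrot11 (Lpr_ct (f91260 IH) (Lpn (LP (LK LD1_c1 LD2_c50 LD3_c50))))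
theorem f12214 : Led Lsl_ct (LP (LK LD1_c1 LD2_c52 LD3_c12)) = (LP (LK LD1_c0 LD2_c52 LD3_c52)) :=
  Lre_c IH (LK LD1_c1 LD2_c52 LD3_c12) (LK LD1_c0 LD2_c52 LD3_c52) Lrfl Lrfl
theorem f110103 : Led Lsl_at (LP (LK LD1_c3 LD2_c35 LD3_c55)) = (LP (LK LD1_c1 LD2_c52 LD3_c12)) :=
  Lgr Lrot107 (Lpr_cf (f91268 IH) (Lpr_af (K3.f110095 IH) (Lpe (f12214 IH) (Lpn (LP (LK LD1_c1 LD2_c52 LD3_c12))))))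
theorem f12204 : Led Lsl_et (LP (LK LD1_c1 LD2_c52 LD3_c12)) = (LP (LK LD1_c0 LD2_c52 LD3_c50)) :=
  Lre_e IH (LK LD1_c1 LD2_c52 LD3_c12) (LK LD1_c0 LD2_c52 LD3_c50) Lrfl Lrfl
theorem f12205 : Led Lsl_et (LP (LK LD1_c0 LD2_c24 LD3_c12)) = (LP (LK LD1_c0 LD2_c53 LD3_c52)) :=
  Lre_e IH (LK LD1_c0 LD2_c24 LD3_c12) (LK LD1_c0 LD2_c53 LD3_c52) Lrfl Lrfl
theorem f12206 : Led Lsl_bf (LP (LK LD1_c1 LD2_c52 LD3_c12)) = (LP (LK LD1_c0 LD2_c53 LD3_c52)) :=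
  Lgr Lrot96 (Lpr_et (f12204 IH) (Lpr_bt (K0.f12195 IH) (Lpr_et (f12205 IH) (Lpn (LP (LK LD1_c0 LD2_c53 LD3_c52))))))
theorem f12212 : Led Lsl_bt (LP (LK LD1_c1 LD2_c52 LD3_c12)) = (LP (LK LD1_c0 LD2_c53 LD3_c52)) :=
  Lgr Lrot127 (Lpr_bf (f12206 IH) (Lpn (LP (LK LD1_c0 LD2_c53 LD3_c52))))
theorem f132187 : Led Lsl_at (LP (LK LD1_c1 LD2_c40 LD3_c1)) = (LP (LK LD1_c3 LD2_c26 LD3_c39)) :=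
  Lre_a IH (LK LD1_c1 LD2_c40 LD3_c1) (LK LD1_c3 LD2_c26 LD3_c39) Lrfl Lrfl
theorem f132258 : Led Lsl_bt (LP (LK LD1_c0 LD2_c46 LD3_c34)) = (LP (LK LD1_c1 LD2_c40 LD3_c1)) :=
  Lre_b IH (LK LD1_c0 LD2_c46 LD3_c34) (LK LD1_c1 LD2_c40 LD3_c1) Lrfl Lrfl
theorem f132259 : Led Lsl_at (LP (LK LD1_c0 LD2_c53 LD3_c52)) = (LP (LK LD1_c0 LD2_c46 LD3_c34)) :=
  Lgr Lrot67 (Lpe (f12212 IH) (Lpe (f110103 IH) (Lpr_bf (f132251 IH) (Lpe (f132187 IH) (Lpe (f132258 IH) (Lpn (LP (LK LD1_c0 LD2_c46 LD3_c34))))))))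
theorem f91306 : Led Lsl_et (LP (LK LD1_c0 LD2_c46 LD3_c34)) = (LP (LK LD1_c0 LD2_c20 LD3_c54)) :=
  Lre_e IH (LK LD1_c0 LD2_c46 LD3_c34) (LK LD1_c0 LD2_c20 LD3_c54) Lrfl Lrfl
theorem f132265 : Led Lsl_af (LP (LK LD1_c0 LD2_c24 LD3_c12)) = (LP (LK LD1_c0 LD2_c20 LD3_c54)) :=
  Lgr Lrot50 (Lpr_et (f12205 IH) (Lpr_at (f132259 IH) (Lpr_et (f91306 IH) (Lpn (LP (LK LD1_c0 LD2_c20 LD3_c54))))))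
theorem f125873 : Led Lsl_ft (LP (LK LD1_c0 LD2_c24 LD3_c13)) = (LP (LK LD1_c0 LD2_c20 LD3_c54)) :=
  Lgr Lrot4 (Lpe (K4.f65965 IH) (Lpr_ff (f125861 IH) (Lpe (K2.f91128 IH) (Lpn (LP (LK LD1_c0 LD2_c20 LD3_c54))))))
theorem f125880 : Led Lsl_af (LP (LK LD1_c0 LD2_c24 LD3_c13)) = (LP (LK LD1_c0 LD2_c20 LD3_c53)) :=
  Lgr Lrot68 (Lpr_ct (f90255 IH) (Lpr_at (f125876 IH) (Lpr_ct (K2.f12057 IH) (Lpn (LP (LK LD1_c0 LD2_c20 LD3_c53))))))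
theorem f132275 : Led Lsl_ft (LP (LK LD1_c0 LD2_c24 LD3_c12)) = (LP (LK LD1_c0 LD2_c20 LD3_c53)) :=
  Lgr Lrot101 (Lpr_af (f132265 IH) (Lpe (f125873 IH) (Lpr_af (f125880 IH) (Lpn (LP (LK LD1_c0 LD2_c20 LD3_c53))))))
theorem f132283 : Led Lsl_ff (LP (LK LD1_c0 LD2_c24 LD3_c12)) = (LP (LK LD1_c0 LD2_c20 LD3_c53)) :=
  Lgr Lrot3 (Lpr_ft (f132275 IH) (Lpn (LP (LK LD1_c0 LD2_c20 LD3_c53))))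
theorem f132285 : Led Lsl_ft (LP (LK LD1_c0 LD2_c53 LD3_c51)) = (LP (LK LD1_c0 LD2_c46 LD3_c30)) :=
  Lgr Lrot4 (Lpe (K1.f11841 IH) (Lpr_ff (f132283 IH) (Lpe (K2.f12057 IH) (Lpn (LP (LK LD1_c0 LD2_c46 LD3_c30))))))
theorem f12215 : Led Lsl_bt (LP (LK LD1_c0 LD2_c52 LD3_c52)) = (LP (LK LD1_c1 LD2_c52 LD3_c11)) :=
  Lre_b IH (LK LD1_c0 LD2_c52 LD3_c52) (LK LD1_c1 LD2_c52 LD3_c11) Lrfl Lrfl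
theorem f12216 : Led Lsl_ct (LP (LK LD1_c1 LD2_c52 LD3_c11)) = (LP (LK LD1_c3 LD2_c50 LD3_c31)) :=
  Lre_c IH (LK LD1_c1 LD2_c52 LD3_c11) (LK LD1_c3 LD2_c50 LD3_c31) Lrfl Lrfl
theorem f12217 : Led Lsl_ct (LP (LK LD1_c1 LD2_c54 LD3_c28)) = (LP (LK LD1_c0 LD2_c53 LD3_c52)) :=
  Lre_c IH (LK LD1_c1 LD2_c54 LD3_c28) (LK LD1_c0 LD2_c53 LD3_c52) Lrfl Lrfl
theorem f12218 : Led Lsl_bt (LP (LK LD1_c3 LD2_c50 LD3_c31)) = (LP (LK LD1_c1 LD2_c54 LD3_c28)) :=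
  Lgr Lrot128 (Lpe (f12216 IH) (Lpe (f12215 IH) (Lpe (f12214 IH) (Lpr_bf (f12206 IH) (Lpe (f12217 IH) (Lpn (LP (LK LD1_c1 LD2_c54 LD3_c28))))))))
theorem f12228 : Led Lsl_dt (LP (LK LD1_c7 LD2_c42 LD3_c6)) = (LP (LK LD1_c3 LD2_c50 LD3_c31)) :=
  Lre_d IH (LK LD1_c7 LD2_c42 LD3_c6) (LK LD1_c3 LD2_c50 LD3_c31) Lrfl Lrfl
theorem f12229 : Led Lsl_dt (LP (LK LD1_c1 LD2_c54 LD3_c28)) = (LP (LK LD1_c3 LD2_c55 LD3_c45)) :=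
  Lre_d IH (LK LD1_c1 LD2_c54 LD3_c28) (LK LD1_c3 LD2_c55 LD3_c45) Lrfl Lrfl
theorem f12230 : Led Lsl_bf (LP (LK LD1_c7 LD2_c42 LD3_c6)) = (LP (LK LD1_c3 LD2_c55 LD3_c45)) :=
  Lgr Lrot93 (Lpr_dt (f12228 IH) (Lpr_bt (f12218 IH) (Lpr_dt (f12229 IH) (Lpn (LP (LK LD1_c3 LD2_c55 LD3_c45))))))
theorem f12249 : Led Lsl_et (LP (LK LD1_c7 LD2_c42 LD3_c6)) = (LP (LK LD1_c14 LD2_c30 LD3_c54)) :=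
  Lre_e IH (LK LD1_c7 LD2_c42 LD3_c6) (LK LD1_c14 LD2_c30 LD3_c54) Lrfl Lrfl
theorem f12250 : Led Lsl_et (LP (LK LD1_c7 LD2_c53 LD3_c9)) = (LP (LK LD1_c3 LD2_c55 LD3_c45)) :=
  Lre_e IH (LK LD1_c7 LD2_c53 LD3_c9) (LK LD1_c3 LD2_c55 LD3_c45) Lrfl Lrfl
theorem f12251 : Led Lsl_bt (LP (LK LD1_c14 LD2_c30 LD3_c54)) = (LP (LK LD1_c7 LD2_c53 LD3_c9)) :=
  Lgr Lrot119 (Lpe (f12249 IH) (Lpr_bf (f12230 IH) (Lpe (f12250 IH) (Lpn (LP (LK LD1_c7 LD2_c53 LD3_c9))))))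
theorem f12259 : Led Lsl_dt (LP (LK LD1_c7 LD2_c42 LD3_c4)) = (LP (LK LD1_c14 LD2_c30 LD3_c54)) :=
  Lre_d IH (LK LD1_c7 LD2_c42 LD3_c4) (LK LD1_c14 LD2_c30 LD3_c54) Lrfl Lrfl
theorem f12260 : Led Lsl_dt (LP (LK LD1_c7 LD2_c53 LD3_c9)) = (LP (LK LD1_c3 LD2_c55 LD3_c42)) :=
  Lre_d IH (LK LD1_c7 LD2_c53 LD3_c9) (LK LD1_c3 LD2_c55 LD3_c42) Lrfl Lrfl
theorem f12261 : Led Lsl_bf (LP (LK LD1_c7 LD2_c42 LD3_c4)) = (LP (LK LD1_c3 LD2_c55 LD3_c42)) :=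
  Lgr Lrot93 (Lpr_dt (f12259 IH) (Lpr_bt (f12251 IH) (Lpr_dt (f12260 IH) (Lpn (LP (LK LD1_c3 LD2_c55 LD3_c42))))))
theorem f12267 : Led Lsl_et (LP (LK LD1_c7 LD2_c42 LD3_c4)) = (LP (LK LD1_c3 LD2_c50 LD3_c30)) :=
  Lre_e IH (LK LD1_c7 LD2_c42 LD3_c4) (LK LD1_c3 LD2_c50 LD3_c30) Lrfl Lrfl
theorem f12268 : Led Lsl_et (LP (LK LD1_c1 LD2_c54 LD3_c27)) = (LP (LK LD1_c3 LD2_c55 LD3_c42)) :=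
  Lre_e IH (LK LD1_c1 LD2_c54 LD3_c27) (LK LD1_c3 LD2_c55 LD3_c42) Lrfl Lrfl
theorem f12269 : Led Lsl_bt (LP (LK LD1_c3 LD2_c50 LD3_c30)) = (LP (LK LD1_c1 LD2_c54 LD3_c27)) :=
  Lgr Lrot119 (Lpe (f12267 IH) (Lpr_bf (f12261 IH) (Lpe (f12268 IH) (Lpn (LP (LK LD1_c1 LD2_c54 LD3_c27))))))
theorem f12280 : Led Lsl_bf (LP (LK LD1_c3 LD2_c50 LD3_c30)) = (LP (LK LD1_c1 LD2_c54 LD3_c27)) :=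
  Lgr Lrot24 (Lpr_bt (f12269 IH) (Lpn (LP (LK LD1_c1 LD2_c54 LD3_c27))))
theorem f12284 : Led Lsl_dt (LP (LK LD1_c3 LD2_c50 LD3_c30)) = (LP (LK LD1_c1 LD2_c52 LD3_c9)) :=
  Lre_d IH (LK LD1_c3 LD2_c50 LD3_c30) (LK LD1_c1 LD2_c52 LD3_c9) Lrfl Lrfl
theorem f11842 : Led Lsl_dt (LP (LK LD1_c0 LD2_c53 LD3_c51)) = (LP (LK LD1_c1 LD2_c54 LD3_c27)) :=
  Lre_d IH (LK LD1_c0 LD2_c53 LD3_c51) (LK LD1_c1 LD2_c54 LD3_c27) Lrfl Lrfl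
theorem f12285 : Led Lsl_bt (LP (LK LD1_c1 LD2_c52 LD3_c9)) = (LP (LK LD1_c0 LD2_c53 LD3_c51)) :=
  Lgr Lrot95 (Lpe (f12284 IH) (Lpr_bf (f12280 IH) (Lpe (f11842 IH) (Lpn (LP (LK LD1_c0 LD2_c53 LD3_c51))))))
theorem f132289 : Led Lsl_ff (LP (LK LD1_c1 LD2_c52 LD3_c9)) = (LP (LK LD1_c1 LD2_c39 LD3_c56)) :=
  Lgr Lrot25 (Lpr_bt (f12285 IH) (Lpr_ft (f132285 IH) (Lpr_bt (K3.f12058 IH) (Lpn (LP (LK LD1_c1 LD2_c39 LD3_c56))))))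
theorem f132298 : Led Lsl_ft (LP (LK LD1_c1 LD2_c52 LD3_c9)) = (LP (LK LD1_c1 LD2_c39 LD3_c56)) :=
  Lgr Lrot48 (Lpr_ff (f132289 IH) (Lpn (LP (LK LD1_c1 LD2_c39 LD3_c56))))
theorem f12283 : Led Lsl_dt (LP (LK LD1_c1 LD2_c52 LD3_c9)) = (LP (LK LD1_c3 LD2_c50 LD3_c30)) :=
  Lre_d IH (LK LD1_c1 LD2_c52 LD3_c9) (LK LD1_c3 LD2_c50 LD3_c30) Lrfl Lrfl
theorem f15212 : Led Lsl_at (LP (LK LD1_c1 LD2_c39 LD3_c56)) = (LP (LK LD1_c3 LD2_c26 LD3_c29)) :=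
  Lre_a IH (LK LD1_c1 LD2_c39 LD3_c56) (LK LD1_c3 LD2_c26 LD3_c29) Lrfl Lrfl
theorem f15197 : Led Lsl_at (LP (LK LD1_c3 LD2_c26 LD3_c29)) = (LP (LK LD1_c1 LD2_c39 LD3_c56)) :=
  Lre_a IH (LK LD1_c3 LD2_c26 LD3_c29) (LK LD1_c1 LD2_c39 LD3_c56) Lrfl Lrfl
theorem f15198 : Led Lsl_at (LP (LK LD1_c1 LD2_c50 LD3_c45)) = (LP (LK LD1_c3 LD2_c47 LD3_c17)) :=
  Lre_a IH (LK LD1_c1 LD2_c50 LD3_c45) (LK LD1_c3 LD2_c47 LD3_c17) Lrfl Lrfl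
theorem f15199 : Led Lsl_cf (LP (LK LD1_c3 LD2_c26 LD3_c29)) = (LP (LK LD1_c3 LD2_c47 LD3_c17)) :=
  Lgr Lrot1 (Lpr_at (f15197 IH) (Lpr_ct (K4.f15172 IH) (Lpr_at (f15198 IH) (Lpn (LP (LK LD1_c3 LD2_c47 LD3_c17))))))
theorem f112106 : Led Lsl_df (LP (LK LD1_c2 LD2_c51 LD3_c51)) = (LP (LK LD1_c1 LD2_c50 LD3_c45)) :=
  Lgr Lrot12 (Lpr_bt (K4.f112096 IH) (Lpr_dt (K3.f15089 IH) (Lpr_bt (K3.f15078 IH) (Lpn (LP (LK LD1_c1 LD2_c50 LD3_c45))))))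
theorem f15202 : Led Lsl_at (LP (LK LD1_c3 LD2_c47 LD3_c17)) = (LP (LK LD1_c1 LD2_c50 LD3_c45)) :=
  Lre_a IH (LK LD1_c3 LD2_c47 LD3_c17) (LK LD1_c1 LD2_c50 LD3_c45) Lrfl Lrfl
theorem f117226 : Led Lsl_dt (LP (LK LD1_c2 LD2_c50 LD3_c2)) = (LP (LK LD1_c3 LD2_c47 LD3_c17)) :=
  Lgr Lrot44 (Lpr_af (K4.f117166 IH) (Lpr_df (f112106 IH) (Lpe (f15202 IH) (Lpn (LP (LK LD1_c3 LD2_c47 LD3_c17))))))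
theorem f100339 : Led Lsl_dt (LP (LK LD1_c0 LD2_c37 LD3_c26)) = (LP (LK LD1_c1 LD2_c21 LD3_c4)) :=
  Lre_d IH (LK LD1_c0 LD2_c37 LD3_c26) (LK LD1_c1 LD2_c21 LD3_c4) Lrfl Lrfl
theorem f117230 : Led Lsl_ct (LP (LK LD1_c1 LD2_c21 LD3_c3)) = (LP (LK LD1_c0 LD2_c37 LD3_c26)) :=
  Lre_c IH (LK LD1_c1 LD2_c21 LD3_c3) (LK LD1_c0 LD2_c37 LD3_c26) Lrfl Lrfl
theorem f117231 : Led Lsl_dt (LP (LK LD1_c2 LD2_c50 LD3_c0)) = (LP (LK LD1_c1 LD2_c21 LD3_c3)) :=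
  Lre_d IH (LK LD1_c2 LD2_c50 LD3_c0) (LK LD1_c1 LD2_c21 LD3_c3) Lrfl Lrfl
theorem f132314 : Led Lsl_ct (LP (LK LD1_c3 LD2_c50 LD3_c30)) = (LP (LK LD1_c2 LD2_c50 LD3_c0)) :=
  Lgr Lrot133 (Lpe (f12283 IH) (Lpr_ft (f132298 IH) (Lpr_at (f15212 IH) (Lpr_cf (f15199 IH) (Lpe (f117226 IH) (Lpe (K4.f100280 IH) (Lpe (f100339 IH) (Lpe (f117230 IH) (Lpe (f117231 IH) (Lpn (LP (LK LD1_c2 LD2_c50 LD3_c0))))))))))))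
theorem f12294 : Led Lsl_dt (LP (LK LD1_c1 LD2_c52 LD3_c10)) = (LP (LK LD1_c0 LD2_c52 LD3_c49)) :=
  Lre_d IH (LK LD1_c1 LD2_c52 LD3_c10) (LK LD1_c0 LD2_c52 LD3_c49) Lrfl Lrfl
theorem f116801 : Led Lsl_df (LP (LK LD1_c11 LD2_c49 LD3_c0)) = (LP (LK LD1_c6 LD2_c25 LD3_c5)) :=
  Lgr Lrot38 (Lpr_dt (K4.f116795 IH) (Lpn (LP (LK LD1_c6 LD2_c25 LD3_c5))))
theorem f117681 : Led Lsl_dt (LP (LK LD1_c11 LD2_c48 LD3_c60)) = (LP (LK LD1_c6 LD2_c24 LD3_c33)) :=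
  Lgr Lrot27 (Lpe (K4.f82016 IH) (Lpe (K4.f56778 IH) (Lpe (K4.f64547 IH) (Lpe (K4.f64561 IH) (Lpr_df (f116801 IH) (Lpr_gt (K4.f117676 IH) (Lpr_ct (K4.f71883 IH) (Lpe (K4.f117644 IH) (Lpr_ct (K4.f117604 IH) (Lpn (LP (LK LD1_c6 LD2_c24 LD3_c33))))))))))))
theorem f117646 : Led Lsl_ct (LP (LK LD1_c6 LD2_c24 LD3_c33)) = (LP (LK LD1_c3 LD2_c9 LD3_c55)) :=
  Lre_c IH (LK LD1_c6 LD2_c24 LD3_c33) (LK LD1_c3 LD2_c9 LD3_c55) Lrfl Lrfl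
theorem f66401 : Led Lsl_at (LP (LK LD1_c6 LD2_c36 LD3_c24)) = (LP (LK LD1_c3 LD2_c16 LD3_c31)) :=
  Lre_a IH (LK LD1_c6 LD2_c36 LD3_c24) (LK LD1_c3 LD2_c16 LD3_c31) Lrfl Lrfl
theorem f117813 : Led Lsl_ct (LP (LK LD1_c1 LD2_c31 LD3_c5)) = (LP (LK LD1_c1 LD2_c20 LD3_c61)) :=
  Lgr Lrot41 (Lpe (K4.f75518 IH) (Lpe (f117646 IH) (Lpe (f117681 IH) (Lpr_ft (K4.f117797 IH) (Lpr_at (f66401 IH) (Lpe (K4.f64541 IH) (Lpe (K4.f64540 IH) (Lpr_cf (f66262 IH) (Lpe (f66270 IH) (Lpn (LP (LK LD1_c1 LD2_c20 LD3_c61))))))))))))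
theorem f117818 : Led Lsl_ff (LP (LK LD1_c2 LD2_c14 LD3_c7)) = (LP (LK LD1_c1 LD2_c20 LD3_c61)) :=
  Lgr Lrot23 (Lpr_ct (K4.f36533 IH) (Lpe (K4.f117611 IH) (Lpr_ct (f117813 IH) (Lpn (LP (LK LD1_c1 LD2_c20 LD3_c61))))))
theorem f117823 : Led Lsl_ft (LP (LK LD1_c2 LD2_c14 LD3_c7)) = (LP (LK LD1_c1 LD2_c20 LD3_c61)) :=
  Lgr Lrot48 (Lpr_ff (f117818 IH) (Lpn (LP (LK LD1_c1 LD2_c20 LD3_c61))))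
theorem f20557 : Led Lsl_bt (LP (LK LD1_c1 LD2_c20 LD3_c61)) = (LP (LK LD1_c0 LD2_c37 LD3_c25)) :=
  Lre_b IH (LK LD1_c1 LD2_c20 LD3_c61) (LK LD1_c0 LD2_c37 LD3_c25) Lrfl Lrfl
theorem f117825 : Led Lsl_ff (LP (LK LD1_c1 LD2_c4 LD3_c7)) = (LP (LK LD1_c0 LD2_c37 LD3_c25)) :=
  Lgr Lrot25 (Lpr_bt (K4.f36536 IH) (Lpr_ft (f117823 IH) (Lpr_bt (f20557 IH) (Lpn (LP (LK LD1_c0 LD2_c37 LD3_c25))))))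
theorem f132325 : Led Lsl_at (LP (LK LD1_c1 LD2_c4 LD3_c7)) = (LP (LK LD1_c0 LD2_c37 LD3_c26)) :=
  Lgr Lrot33 (Lpr_ff (f117825 IH) (Lpr_dt (K4.f13447 IH) (Lpe (K4.f64914 IH) (Lpr_dt (f12294 IH) (Lpr_ct (K1.f12290 IH) (Lpr_dt (f12283 IH) (Lpr_ct (f132314 IH) (Lpr_dt (f117231 IH) (Lpr_ct (f117230 IH) (Lpn (LP (LK LD1_c0 LD2_c37 LD3_c26))))))))))))
theorem f132327 : Led Lsl_af (LP (LK LD1_c1 LD2_c4 LD3_c7)) = (LP (LK LD1_c0 LD2_c37 LD3_c26)) :=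
  Lgr Lrot0 (Lpr_at (f132325 IH) (Lpn (LP (LK LD1_c0 LD2_c37 LD3_c26))))
theorem f92058 : Led Lsl_gt (LP (LK LD1_c1 LD2_c4 LD3_c8)) = (LP (LK LD1_c0 LD2_c29 LD3_c18)) :=
  Lre_g IH (LK LD1_c1 LD2_c4 LD3_c8) (LK LD1_c0 LD2_c29 LD3_c18) Lrfl Lrfl
theorem f132478 : Led Lsl_ft (LP (LK LD1_c1 LD2_c4 LD3_c8)) = (LP (LK LD1_c0 LD2_c37 LD3_c26)) :=
  Lgr Lrot2 (Lpr_gt (f92058 IH) (Lpr_gt (K4.f20208 IH) (Lpr_af (f132327 IH) (Lpn (LP (LK LD1_c0 LD2_c37 LD3_c26))))))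
theorem f132486 : Led Lsl_ff (LP (LK LD1_c1 LD2_c4 LD3_c8)) = (LP (LK LD1_c0 LD2_c37 LD3_c26)) :=
  Lgr Lrot3 (Lpr_ft (f132478 IH) (Lpn (LP (LK LD1_c0 LD2_c37 LD3_c26))))
theorem f132490 : Led Lsl_bt (LP (LK LD1_c1 LD2_c4 LD3_c8)) = (LP (LK LD1_c2 LD2_c14 LD3_c10)) :=
  Lre_b IH (LK LD1_c1 LD2_c4 LD3_c8) (LK LD1_c2 LD2_c14 LD3_c10) Lrfl Lrfl
theorem f57257 : Led Lsl_bt (LP (LK LD1_c1 LD2_c21 LD3_c2)) = (LP (LK LD1_c0 LD2_c37 LD3_c26)) :=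
  Lre_b IH (LK LD1_c1 LD2_c21 LD3_c2) (LK LD1_c0 LD2_c37 LD3_c26) Lrfl Lrfl
theorem f132491 : Led Lsl_ft (LP (LK LD1_c2 LD2_c14 LD3_c10)) = (LP (LK LD1_c1 LD2_c21 LD3_c2)) :=
  Lgr Lrot75 (Lpe (f132490 IH) (Lpr_ff (f132486 IH) (Lpe (f57257 IH) (Lpn (LP (LK LD1_c1 LD2_c21 LD3_c2))))))
theorem f132504 : Led Lsl_at (LP (LK LD1_c4 LD2_c34 LD3_c24)) = (LP (LK LD1_c2 LD2_c14 LD3_c10)) :=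
  Lre_a IH (LK LD1_c4 LD2_c34 LD3_c24) (LK LD1_c2 LD2_c14 LD3_c10) Lrfl Lrfl
theorem f132330 : Led Lsl_at (LP (LK LD1_c1 LD2_c21 LD3_c2)) = (LP (LK LD1_c2 LD2_c49 LD3_c58)) :=
  Lre_a IH (LK LD1_c1 LD2_c21 LD3_c2) (LK LD1_c2 LD2_c49 LD3_c58) Lrfl Lrfl
theorem f132514 : Led Lsl_ff (LP (LK LD1_c4 LD2_c34 LD3_c24)) = (LP (LK LD1_c2 LD2_c49 LD3_c58)) :=
  Lgr Lrot30 (Lpr_at (f132504 IH) (Lpr_ft (f132491 IH) (Lpr_at (f132330 IH) (Lpn (LP (LK LD1_c2 LD2_c49 LD3_c58))))))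
theorem f132538 : Led Lsl_ft (LP (LK LD1_c4 LD2_c34 LD3_c24)) = (LP (LK LD1_c2 LD2_c49 LD3_c58)) :=
  Lgr Lrot48 (Lpr_ff (f132514 IH) (Lpn (LP (LK LD1_c2 LD2_c49 LD3_c58))))
theorem f24130 : Led Lsl_at (LP (LK LD1_c2 LD2_c51 LD3_c50)) = (LP (LK LD1_c5 LD2_c51 LD3_c7)) :=
  Lre_a IH (LK LD1_c2 LD2_c51 LD3_c50) (LK LD1_c5 LD2_c51 LD3_c7) Lrfl Lrfl
theorem f117513 : Led Lsl_at (LP (LK LD1_c3 LD2_c9 LD3_c51)) = (LP (LK LD1_c2 LD2_c14 LD3_c7)) :=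
  Lgr Lrot51 (Lpr_df (K4.f117508 IH) (Lpe (f24130 IH) (Lpr_df (K4.f112934 IH) (Lpn (LP (LK LD1_c2 LD2_c14 LD3_c7))))))
theorem f132329 : Led Lsl_bt (LP (LK LD1_c0 LD2_c37 LD3_c26)) = (LP (LK LD1_c1 LD2_c21 LD3_c2)) :=
  Lre_b IH (LK LD1_c0 LD2_c37 LD3_c26) (LK LD1_c1 LD2_c21 LD3_c2) Lrfl Lrfl
theorem f132331 : Led Lsl_bf (LP (LK LD1_c3 LD2_c9 LD3_c51)) = (LP (LK LD1_c2 LD2_c49 LD3_c58)) :=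
  Lgr Lrot81 (Lpr_at (f117513 IH) (Lpr_bt (K4.f20210 IH) (Lpr_at (f132325 IH) (Lpr_bt (f132329 IH) (Lpr_at (f132330 IH) (Lpn (LP (LK LD1_c2 LD2_c49 LD3_c58))))))))
theorem f132540 : Led Lsl_bf (LP (LK LD1_c4 LD2_c34 LD3_c24)) = (LP (LK LD1_c2 LD2_c49 LD3_c50)) :=
  Lgr Lrot61 (Lpr_ft (f132538 IH) (Lpe (f132331 IH) (Lpe (K4.f117533 IH) (Lpn (LP (LK LD1_c2 LD2_c49 LD3_c50))))))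
theorem f36423 : Led Lsl_bt (LP (LK LD1_c4 LD2_c23 LD3_c54)) = (LP (LK LD1_c2 LD2_c9 LD3_c22)) :=
  Lre_b IH (LK LD1_c4 LD2_c23 LD3_c54) (LK LD1_c2 LD2_c9 LD3_c22) Lrfl Lrfl
theorem f80542 : Led Lsl_bt (LP (LK LD1_c1 LD2_c57 LD3_c2)) = (LP (LK LD1_c0 LD2_c55 LD3_c21)) :=
  Lre_b IH (LK LD1_c1 LD2_c57 LD3_c2) (LK LD1_c0 LD2_c55 LD3_c21) Lrfl Lrfl
theorem f80438 : Led Lsl_gt (LP (LK LD1_c0 LD2_c55 LD3_c21)) = (LP (LK LD1_c0 LD2_c29 LD3_c50)) :=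
  Lgr Lrot150 (Lpe (K4.f80437 IH) (Lpr_gf (K4.f80351 IH) (Lpe (K1.f37186 IH) (Lpr_gt (K0.f27217 IH) (Lpr_ct (K0.f35509 IH) (Lpr_gt (K0.f35424 IH) (Lpr_ct (K0.f13635 IH) (Lpe (K1.f13642 IH) (Lpe (K1.f13643 IH) (Lpn (LP (LK LD1_c0 LD2_c29 LD3_c50))))))))))))
theorem f59360 : Led Lsl_gt (LP (LK LD1_c2 LD2_c9 LD3_c35)) = (LP (LK LD1_c1 LD2_c1 LD3_c55)) :=
  Lre_g IH (LK LD1_c2 LD2_c9 LD3_c35) (LK LD1_c1 LD2_c1 LD3_c55) Lrfl Lrfl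
theorem f80685 : Led Lsl_ct (LP (LK LD1_c4 LD2_c23 LD3_c54)) = (LP (LK LD1_c2 LD2_c9 LD3_c35)) :=
  Lgr Lrot64 (Lpr_bt (f36423 IH) (Lpe (K4.f23392 IH) (Lpe (K4.f23391 IH) (Lpr_ct (K1.f35822 IH) (Lpe (K1.f36421 IH) (Lpe (K1.f13643 IH) (Lpe (f80438 IH) (Lpe (f80542 IH) (Lpr_ct (K4.f80674 IH) (Lpe (f59360 IH) (Lpn (LP (LK LD1_c2 LD2_c9 LD3_c35)))))))))))))
theorem f80691 : Led Lsl_cf (LP (LK LD1_c4 LD2_c23 LD3_c54)) = (LP (LK LD1_c2 LD2_c9 LD3_c35)) :=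
  Lgr Lrot11 (Lpr_ct (f80685 IH) (Lpn (LP (LK LD1_c2 LD2_c9 LD3_c35))))
theorem f59361 : Led Lsl_bt (LP (LK LD1_c4 LD2_c24 LD3_c14)) = (LP (LK LD1_c2 LD2_c9 LD3_c35)) :=
  Lre_b IH (LK LD1_c4 LD2_c24 LD3_c14) (LK LD1_c2 LD2_c9 LD3_c35) Lrfl Lrfl
theorem f132542 : Led Lsl_ct (LP (LK LD1_c4 LD2_c34 LD3_c24)) = (LP (LK LD1_c4 LD2_c24 LD3_c14)) :=
  Lgr Lrot83 (Lpr_bf (f132540 IH) (Lpr_cf (K4.f117543 IH) (Lpe (f36423 IH) (Lpr_cf (f80691 IH) (Lpe (f59361 IH) (Lpn (LP (LK LD1_c4 LD2_c24 LD3_c14))))))))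
theorem f132568 : Led Lsl_cf (LP (LK LD1_c4 LD2_c34 LD3_c24)) = (LP (LK LD1_c4 LD2_c24 LD3_c14)) :=
  Lgr Lrot11 (Lpr_ct (f132542 IH) (Lpn (LP (LK LD1_c4 LD2_c24 LD3_c14))))
theorem f112932 : Led Lsl_et (LP (LK LD1_c2 LD2_c14 LD3_c9)) = (LP (LK LD1_c1 LD2_c4 LD3_c7)) :=
  Lre_e IH (LK LD1_c2 LD2_c14 LD3_c9) (LK LD1_c1 LD2_c4 LD3_c7) Lrfl Lrfl
theorem f100344 : Led Lsl_et (LP (LK LD1_c0 LD2_c37 LD3_c26)) = (LP (LK LD1_c1 LD2_c21 LD3_c5)) :=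
  Lre_e IH (LK LD1_c0 LD2_c37 LD3_c26) (LK LD1_c1 LD2_c21 LD3_c5) Lrfl Lrfl
theorem f132335 : Led Lsl_af (LP (LK LD1_c2 LD2_c14 LD3_c9)) = (LP (LK LD1_c1 LD2_c21 LD3_c5)) :=
  Lgr Lrot50 (Lpr_et (f112932 IH) (Lpr_at (f132325 IH) (Lpr_et (f100344 IH) (Lpn (LP (LK LD1_c1 LD2_c21 LD3_c5))))))
theorem f36547 : Led Lsl_ct (LP (LK LD1_c2 LD2_c14 LD3_c9)) = (LP (LK LD1_c4 LD2_c34 LD3_c22)) :=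
  Lre_c IH (LK LD1_c2 LD2_c14 LD3_c9) (LK LD1_c4 LD2_c34 LD3_c22) Lrfl Lrfl
theorem f132343 : Led Lsl_ct (LP (LK LD1_c2 LD2_c50 LD3_c1)) = (LP (LK LD1_c1 LD2_c21 LD3_c5)) :=
  Lre_c IH (LK LD1_c2 LD2_c50 LD3_c1) (LK LD1_c1 LD2_c21 LD3_c5) Lrfl Lrfl
theorem f132344 : Led Lsl_at (LP (LK LD1_c4 LD2_c34 LD3_c22)) = (LP (LK LD1_c2 LD2_c50 LD3_c1)) :=
  Lgr Lrot107 (Lpe (f36547 IH) (Lpr_af (f132335 IH) (Lpe (f132343 IH) (Lpn (LP (LK LD1_c2 LD2_c50 LD3_c1))))))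
theorem f132347 : Led Lsl_dt (LP (LK LD1_c9 LD2_c5 LD3_c48)) = (LP (LK LD1_c4 LD2_c34 LD3_c22)) :=
  Lre_d IH (LK LD1_c9 LD2_c5 LD3_c48) (LK LD1_c4 LD2_c34 LD3_c22) Lrfl Lrfl
theorem f132350 : Led Lsl_dt (LP (LK LD1_c2 LD2_c50 LD3_c1)) = (LP (LK LD1_c5 LD2_c48 LD3_c0)) :=
  Lre_d IH (LK LD1_c2 LD2_c50 LD3_c1) (LK LD1_c5 LD2_c48 LD3_c0) Lrfl Lrfl
theorem f132351 : Led Lsl_af (LP (LK LD1_c9 LD2_c5 LD3_c48)) = (LP (LK LD1_c5 LD2_c48 LD3_c0)) :=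
  Lgr Lrot117 (Lpr_dt (f132347 IH) (Lpr_at (f132344 IH) (Lpr_dt (f132350 IH) (Lpn (LP (LK LD1_c5 LD2_c48 LD3_c0))))))
theorem f132359 : Led Lsl_et (LP (LK LD1_c9 LD2_c5 LD3_c48)) = (LP (LK LD1_c16 LD2_c57 LD3_c37)) :=
  Lre_e IH (LK LD1_c9 LD2_c5 LD3_c48) (LK LD1_c16 LD2_c57 LD3_c37) Lrfl Lrfl
theorem f132360 : Led Lsl_et (LP (LK LD1_c11 LD2_c25 LD3_c35)) = (LP (LK LD1_c5 LD2_c48 LD3_c0)) :=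
  Lre_e IH (LK LD1_c11 LD2_c25 LD3_c35) (LK LD1_c5 LD2_c48 LD3_c0) Lrfl Lrfl
theorem f132361 : Led Lsl_at (LP (LK LD1_c16 LD2_c57 LD3_c37)) = (LP (LK LD1_c11 LD2_c25 LD3_c35)) :=
  Lgr Lrot80 (Lpe (f132359 IH) (Lpr_af (f132351 IH) (Lpe (f132360 IH) (Lpn (LP (LK LD1_c11 LD2_c25 LD3_c35))))))
theorem f132365 : Led Lsl_dt (LP (LK LD1_c9 LD2_c5 LD3_c47)) = (LP (LK LD1_c16 LD2_c57 LD3_c37)) :=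
  Lre_d IH (LK LD1_c9 LD2_c5 LD3_c47) (LK LD1_c16 LD2_c57 LD3_c37) Lrfl Lrfl
theorem f132366 : Led Lsl_dt (LP (LK LD1_c11 LD2_c25 LD3_c35)) = (LP (LK LD1_c5 LD2_c47 LD3_c60)) :=
  Lre_d IH (LK LD1_c11 LD2_c25 LD3_c35) (LK LD1_c5 LD2_c47 LD3_c60) Lrfl Lrfl
theorem f132367 : Led Lsl_af (LP (LK LD1_c9 LD2_c5 LD3_c47)) = (LP (LK LD1_c5 LD2_c47 LD3_c60)) :=
  Lgr Lrot117 (Lpr_dt (f132365 IH) (Lpr_at (f132361 IH) (Lpr_dt (f132366 IH) (Lpn (LP (LK LD1_c5 LD2_c47 LD3_c60))))))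
theorem f117892 : Led Lsl_ft (LP (LK LD1_c9 LD2_c5 LD3_c47)) = (LP (LK LD1_c16 LD2_c57 LD3_c38)) :=
  Lre_f IH (LK LD1_c9 LD2_c5 LD3_c47) (LK LD1_c16 LD2_c57 LD3_c38) Lrfl Lrfl
theorem f132372 : Led Lsl_ft (LP (LK LD1_c11 LD2_c25 LD3_c36)) = (LP (LK LD1_c5 LD2_c47 LD3_c60)) :=
  Lre_f IH (LK LD1_c11 LD2_c25 LD3_c36) (LK LD1_c5 LD2_c47 LD3_c60) Lrfl Lrfl
theorem f132373 : Led Lsl_at (LP (LK LD1_c16 LD2_c57 LD3_c38)) = (LP (LK LD1_c11 LD2_c25 LD3_c36)) :=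
  Lgr Lrot66 (Lpe (f117892 IH) (Lpr_af (f132367 IH) (Lpe (f132372 IH) (Lpn (LP (LK LD1_c11 LD2_c25 LD3_c36))))))
theorem f20209 : Led Lsl_ct (LP (LK LD1_c1 LD2_c4 LD3_c7)) = (LP (LK LD1_c2 LD2_c14 LD3_c8)) :=
  Lre_c IH (LK LD1_c1 LD2_c4 LD3_c7) (LK LD1_c2 LD2_c14 LD3_c8) Lrfl Lrfl
theorem f66378 : Led Lsl_ct (LP (LK LD1_c1 LD2_c21 LD3_c0)) = (LP (LK LD1_c0 LD2_c37 LD3_c25)) :=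
  Lre_c IH (LK LD1_c1 LD2_c21 LD3_c0) (LK LD1_c0 LD2_c37 LD3_c25) Lrfl Lrfl
theorem f117827 : Led Lsl_ft (LP (LK LD1_c2 LD2_c14 LD3_c8)) = (LP (LK LD1_c1 LD2_c21 LD3_c0)) :=
  Lgr Lrot4 (Lpe (f20209 IH) (Lpr_ff (f117825 IH) (Lpe (f66378 IH) (Lpn (LP (LK LD1_c1 LD2_c21 LD3_c0))))))
theorem f117848 : Led Lsl_ff (LP (LK LD1_c2 LD2_c14 LD3_c8)) = (LP (LK LD1_c1 LD2_c21 LD3_c0)) :=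
  Lgr Lrot3 (Lpr_ft (f117827 IH) (Lpn (LP (LK LD1_c1 LD2_c21 LD3_c0))))
theorem f112936 : Led Lsl_dt (LP (LK LD1_c2 LD2_c14 LD3_c8)) = (LP (LK LD1_c4 LD2_c34 LD3_c21)) :=
  Lre_d IH (LK LD1_c2 LD2_c14 LD3_c8) (LK LD1_c4 LD2_c34 LD3_c21) Lrfl Lrfl
theorem f117851 : Led Lsl_dt (LP (LK LD1_c2 LD2_c49 LD3_c55)) = (LP (LK LD1_c1 LD2_c21 LD3_c0)) :=
  Lre_d IH (LK LD1_c2 LD2_c49 LD3_c55) (LK LD1_c1 LD2_c21 LD3_c0) Lrfl Lrfl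
theorem f117852 : Led Lsl_ft (LP (LK LD1_c4 LD2_c34 LD3_c21)) = (LP (LK LD1_c2 LD2_c49 LD3_c55)) :=
  Lgr Lrot54 (Lpe (f112936 IH) (Lpr_ff (f117848 IH) (Lpe (f117851 IH) (Lpn (LP (LK LD1_c2 LD2_c49 LD3_c55))))))
theorem f117855 : Led Lsl_et (LP (LK LD1_c9 LD2_c5 LD3_c47)) = (LP (LK LD1_c4 LD2_c34 LD3_c21)) :=
  Lre_e IH (LK LD1_c9 LD2_c5 LD3_c47) (LK LD1_c4 LD2_c34 LD3_c21) Lrfl Lrfl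
theorem f117856 : Led Lsl_ft (LP (LK LD1_c16 LD2_c57 LD3_c38)) = (LP (LK LD1_c9 LD2_c5 LD3_c47)) :=
  Lre_f IH (LK LD1_c16 LD2_c57 LD3_c38) (LK LD1_c9 LD2_c5 LD3_c47) Lrfl Lrfl
theorem f117857 : Led Lsl_et (LP (LK LD1_c2 LD2_c49 LD3_c55)) = (LP (LK LD1_c5 LD2_c47 LD3_c48)) :=
  Lre_e IH (LK LD1_c2 LD2_c49 LD3_c55) (LK LD1_c5 LD2_c47 LD3_c48) Lrfl Lrfl
theorem f117858 : Led Lsl_ft (LP (LK LD1_c5 LD2_c47 LD3_c48)) = (LP (LK LD1_c11 LD2_c25 LD3_c20)) :=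
  Lre_f IH (LK LD1_c5 LD2_c47 LD3_c48) (LK LD1_c11 LD2_c25 LD3_c20) Lrfl Lrfl
theorem f117859 : Led Lsl_ef (LP (LK LD1_c16 LD2_c57 LD3_c38)) = (LP (LK LD1_c11 LD2_c25 LD3_c20)) :=
  Lgr Lrot21 (Lpr_ft (f117856 IH) (Lpr_et (f117855 IH) (Lpr_ft (f117852 IH) (Lpr_et (f117857 IH) (Lpr_ft (f117858 IH) (Lpn (LP (LK LD1_c11 LD2_c25 LD3_c20))))))))
theorem f112202 : Led Lsl_dt (LP (LK LD1_c4 LD2_c34 LD3_c21)) = (LP (LK LD1_c2 LD2_c14 LD3_c8)) :=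
  Lre_d IH (LK LD1_c4 LD2_c34 LD3_c21) (LK LD1_c2 LD2_c14 LD3_c8) Lrfl Lrfl
theorem f36537 : Led Lsl_ct (LP (LK LD1_c2 LD2_c14 LD3_c8)) = (LP (LK LD1_c1 LD2_c4 LD3_c7)) :=
  Lre_c IH (LK LD1_c2 LD2_c14 LD3_c8) (LK LD1_c1 LD2_c4 LD3_c7) Lrfl Lrfl
theorem f112117 : Led Lsl_ct (LP (LK LD1_c2 LD2_c51 LD3_c57)) = (LP (LK LD1_c3 LD2_c4 LD3_c52)) :=
  Lgr Lrot83 (Lpr_bf (K4.f112113 IH) (Lpr_cf (K2.f90986 IH) (Lpe (K4.f83764 IH) (Lpe (K4.f83763 IH) (Lpe (K4.f83771 IH) (Lpn (LP (LK LD1_c3 LD2_c4 LD3_c52))))))))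
theorem f117861 : Led Lsl_af (LP (LK LD1_c3 LD2_c4 LD3_c52)) = (LP (LK LD1_c2 LD2_c49 LD3_c55)) :=
  Lgr Lrot109 (Lpe (f112117 IH) (Lpr_df (K4.f112181 IH) (Lpr_cf (K3.f15079 IH) (Lpe (K4.f112189 IH) (Lpe (K4.f24055 IH) (Lpr_df (K4.f112111 IH) (Lpe (f36537 IH) (Lpe (f112202 IH) (Lpr_ft (f117852 IH) (Lpn (LP (LK LD1_c2 LD2_c49 LD3_c55))))))))))))
theorem f112328 : Led Lsl_et (LP (LK LD1_c3 LD2_c4 LD3_c52)) = (LP (LK LD1_c6 LD2_c15 LD3_c35)) :=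
  Lre_e IH (LK LD1_c3 LD2_c4 LD3_c52) (LK LD1_c6 LD2_c15 LD3_c35) Lrfl Lrfl
theorem f117867 : Led Lsl_et (LP (LK LD1_c5 LD2_c47 LD3_c48)) = (LP (LK LD1_c2 LD2_c49 LD3_c55)) :=
  Lre_e IH (LK LD1_c5 LD2_c47 LD3_c48) (LK LD1_c2 LD2_c49 LD3_c55) Lrfl Lrfl
theorem f117868 : Led Lsl_at (LP (LK LD1_c6 LD2_c15 LD3_c35)) = (LP (LK LD1_c5 LD2_c47 LD3_c48)) :=
  Lgr Lrot80 (Lpe (f112328 IH) (Lpr_af (f117861 IH) (Lpe (f117867 IH) (Lpn (LP (LK LD1_c5 LD2_c47 LD3_c48))))))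
theorem f112329 : Led Lsl_ft (LP (LK LD1_c12 LD2_c9 LD3_c4)) = (LP (LK LD1_c6 LD2_c15 LD3_c35)) :=
  Lre_f IH (LK LD1_c12 LD2_c9 LD3_c4) (LK LD1_c6 LD2_c15 LD3_c35) Lrfl Lrfl
theorem f117872 : Led Lsl_af (LP (LK LD1_c12 LD2_c9 LD3_c4)) = (LP (LK LD1_c11 LD2_c25 LD3_c20)) :=
  Lgr Lrot45 (Lpr_ft (f112329 IH) (Lpr_at (f117868 IH) (Lpr_ft (f117858 IH) (Lpn (LP (LK LD1_c11 LD2_c25 LD3_c20))))))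
theorem f117874 : Led Lsl_at (LP (LK LD1_c12 LD2_c9 LD3_c4)) = (LP (LK LD1_c11 LD2_c25 LD3_c20)) :=
  Lgr Lrot100 (Lpr_af (f117872 IH) (Lpn (LP (LK LD1_c11 LD2_c25 LD3_c20))))
theorem f132378 : Led Lsl_ef (LP (LK LD1_c12 LD2_c9 LD3_c4)) = (LP (LK LD1_c11 LD2_c25 LD3_c36)) :=
  Lgr Lrot20 (Lpr_at (f117874 IH) (Lpe (f117859 IH) (Lpr_at (f132373 IH) (Lpn (LP (LK LD1_c11 LD2_c25 LD3_c36))))))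
theorem f132386 : Led Lsl_ft (LP (LK LD1_c5 LD2_c47 LD3_c60)) = (LP (LK LD1_c11 LD2_c25 LD3_c36)) :=
  Lre_f IH (LK LD1_c5 LD2_c47 LD3_c60) (LK LD1_c11 LD2_c25 LD3_c36) Lrfl Lrfl
theorem f132318 : Led Lsl_et (LP (LK LD1_c2 LD2_c50 LD3_c0)) = (LP (LK LD1_c5 LD2_c47 LD3_c60)) :=
  Lre_e IH (LK LD1_c2 LD2_c50 LD3_c0) (LK LD1_c5 LD2_c47 LD3_c60) Lrfl Lrfl
theorem f132387 : Led Lsl_ft (LP (LK LD1_c3 LD2_c4 LD3_c52)) = (LP (LK LD1_c2 LD2_c50 LD3_c0)) :=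
  Lgr Lrot86 (Lpe (K4.f112346 IH) (Lpe (f112329 IH) (Lpr_ef (f132378 IH) (Lpe (f132386 IH) (Lpe (f132318 IH) (Lpn (LP (LK LD1_c2 LD2_c50 LD3_c0))))))))
theorem f112188 : Led Lsl_dt (LP (LK LD1_c1 LD2_c28 LD3_c31)) = (LP (LK LD1_c3 LD2_c4 LD3_c52)) :=
  Lre_d IH (LK LD1_c1 LD2_c28 LD3_c31) (LK LD1_c3 LD2_c4 LD3_c52) Lrfl Lrfl
theorem f132391 : Led Lsl_ff (LP (LK LD1_c1 LD2_c28 LD3_c31)) = (LP (LK LD1_c1 LD2_c21 LD3_c3)) :=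
  Lgr Lrot19 (Lpr_dt (f112188 IH) (Lpr_ft (f132387 IH) (Lpr_dt (f117231 IH) (Lpn (LP (LK LD1_c1 LD2_c21 LD3_c3))))))
theorem f132395 : Led Lsl_ft (LP (LK LD1_c1 LD2_c28 LD3_c31)) = (LP (LK LD1_c1 LD2_c21 LD3_c3)) :=
  Lgr Lrot48 (Lpr_ff (f132391 IH) (Lpn (LP (LK LD1_c1 LD2_c21 LD3_c3))))
theorem f132493 : Led Lsl_ct (LP (LK LD1_c1 LD2_c4 LD3_c8)) = (LP (LK LD1_c1 LD2_c28 LD3_c31)) :=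
  Lgr Lrot40 (Lpr_ff (f132486 IH) (Lpe (f117230 IH) (Lpe (f132395 IH) (Lpn (LP (LK LD1_c1 LD2_c28 LD3_c31))))))
theorem f92247 : Led Lsl_bt (LP (LK LD1_c2 LD2_c14 LD3_c10)) = (LP (LK LD1_c1 LD2_c4 LD3_c8)) :=
  Lre_b IH (LK LD1_c2 LD2_c14 LD3_c10) (LK LD1_c1 LD2_c4 LD3_c8) Lrfl Lrfl
theorem f58962 : Led Lsl_bt (LP (LK LD1_c1 LD2_c28 LD3_c31)) = (LP (LK LD1_c0 LD2_c40 LD3_c57)) :=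
  Lre_b IH (LK LD1_c1 LD2_c28 LD3_c31) (LK LD1_c0 LD2_c40 LD3_c57) Lrfl Lrfl
theorem f58964 : Led Lsl_ct (LP (LK LD1_c0 LD2_c40 LD3_c57)) = (LP (LK LD1_c1 LD2_c28 LD3_c32)) :=
  Lre_c IH (LK LD1_c0 LD2_c40 LD3_c57) (LK LD1_c1 LD2_c28 LD3_c32) Lrfl Lrfl
theorem f59366 : Led Lsl_bt (LP (LK LD1_c1 LD2_c28 LD3_c32)) = (LP (LK LD1_c3 LD2_c4 LD3_c56)) :=
  Lre_b IH (LK LD1_c1 LD2_c28 LD3_c32) (LK LD1_c3 LD2_c4 LD3_c56) Lrfl Lrfl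
theorem f132495 : Led Lsl_cf (LP (LK LD1_c2 LD2_c14 LD3_c10)) = (LP (LK LD1_c3 LD2_c4 LD3_c56)) :=
  Lgr Lrot97 (Lpr_bt (f92247 IH) (Lpr_ct (f132493 IH) (Lpr_bt (f58962 IH) (Lpr_ct (f58964 IH) (Lpr_bt (f59366 IH) (Lpn (LP (LK LD1_c3 LD2_c4 LD3_c56))))))))
theorem f132499 : Led Lsl_ct (LP (LK LD1_c2 LD2_c14 LD3_c10)) = (LP (LK LD1_c3 LD2_c4 LD3_c56)) :=
  Lgr Lrot59 (Lpr_cf (f132495 IH) (Lpn (LP (LK LD1_c3 LD2_c4 LD3_c56))))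
theorem f132570 : Led Lsl_at (LP (LK LD1_c3 LD2_c4 LD3_c56)) = (LP (LK LD1_c4 LD2_c24 LD3_c14)) :=
  Lgr Lrot107 (Lpe (f132499 IH) (Lpe (f132504 IH) (Lpr_cf (f132568 IH) (Lpn (LP (LK LD1_c4 LD2_c24 LD3_c14))))))
theorem f100283 : Led Lsl_ct (LP (LK LD1_c1 LD2_c21 LD3_c2)) = (LP (LK LD1_c2 LD2_c49 LD3_c59)) :=
  Lre_c IH (LK LD1_c1 LD2_c21 LD3_c2) (LK LD1_c2 LD2_c49 LD3_c59) Lrfl Lrfl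
theorem f132502 : Led Lsl_ft (LP (LK LD1_c2 LD2_c49 LD3_c59)) = (LP (LK LD1_c3 LD2_c4 LD3_c56)) :=
  Lgr Lrot4 (Lpe (f100283 IH) (Lpe (f132491 IH) (Lpr_cf (f132495 IH) (Lpn (LP (LK LD1_c3 LD2_c4 LD3_c56))))))
theorem f14701 : Led Lsl_bt (LP (LK LD1_c0 LD2_c44 LD3_c11)) = (LP (LK LD1_c0 LD2_c19 LD3_c43)) :=
  Lre_b IH (LK LD1_c0 LD2_c44 LD3_c11) (LK LD1_c0 LD2_c19 LD3_c43) Lrfl Lrfl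
theorem f118607 : Led Lsl_ft (LP (LK LD1_c1 LD2_c34 LD3_c47)) = (LP (LK LD1_c0 LD2_c44 LD3_c11)) :=
  Lgr Lrot75 (Lpe (K3.f96630 IH) (Lpr_ff (K4.f118605 IH) (Lpe (f14701 IH) (Lpn (LP (LK LD1_c0 LD2_c44 LD3_c11))))))
theorem f118866 : Led Lsl_ff (LP (LK LD1_c3 LD2_c16 LD3_c3)) = (LP (LK LD1_c1 LD2_c34 LD3_c59)) :=
  Lgr Lrot23 (Lpr_ct (K3.f60976 IH) (Lpr_ft (f118607 IH) (Lpr_ct (K2.f78159 IH) (Lpn (LP (LK LD1_c1 LD2_c34 LD3_c59))))))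
theorem f64549 : Led Lsl_bt (LP (LK LD1_c3 LD2_c16 LD3_c31)) = (LP (LK LD1_c1 LD2_c34 LD3_c59)) :=
  Lre_b IH (LK LD1_c3 LD2_c16 LD3_c31) (LK LD1_c1 LD2_c34 LD3_c59) Lrfl Lrfl
theorem f118869 : Led Lsl_ft (LP (LK LD1_c6 LD2_c35 LD3_c26)) = (LP (LK LD1_c3 LD2_c16 LD3_c31)) :=
  Lgr Lrot75 (Lpe (K4.f79644 IH) (Lpr_ff (f118866 IH) (Lpe (f64549 IH) (Lpn (LP (LK LD1_c3 LD2_c16 LD3_c31))))))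
theorem f118872 : Led Lsl_ff (LP (LK LD1_c5 LD2_c56 LD3_c8)) = (LP (LK LD1_c6 LD2_c24 LD3_c27)) :=
  Lgr Lrot19 (Lpr_dt (K4.f112865 IH) (Lpr_ft (f118869 IH) (Lpe (K4.f79061 IH) (Lpn (LP (LK LD1_c6 LD2_c24 LD3_c27))))))
theorem f118885 : Led Lsl_ft (LP (LK LD1_c2 LD2_c54 LD3_c26)) = (LP (LK LD1_c3 LD2_c9 LD3_c52)) :=
  Lgr Lrot4 (Lpe (K4.f81797 IH) (Lpr_ff (f118872 IH) (Lpe (K4.f36323 IH) (Lpn (LP (LK LD1_c3 LD2_c9 LD3_c52))))))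
theorem f81786 : Led Lsl_bt (LP (LK LD1_c5 LD2_c56 LD3_c7)) = (LP (LK LD1_c2 LD2_c54 LD3_c26)) :=
  Lre_b IH (LK LD1_c5 LD2_c56 LD3_c7) (LK LD1_c2 LD2_c54 LD3_c26) Lrfl Lrfl
theorem f79081 : Led Lsl_bt (LP (LK LD1_c3 LD2_c9 LD3_c52)) = (LP (LK LD1_c6 LD2_c24 LD3_c24)) :=
  Lre_b IH (LK LD1_c3 LD2_c9 LD3_c52) (LK LD1_c6 LD2_c24 LD3_c24) Lrfl Lrfl
theorem f118899 : Led Lsl_ff (LP (LK LD1_c5 LD2_c56 LD3_c7)) = (LP (LK LD1_c6 LD2_c24 LD3_c24)) :=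
  Lgr Lrot25 (Lpr_bt (f81786 IH) (Lpr_ft (f118885 IH) (Lpr_bt (f79081 IH) (Lpn (LP (LK LD1_c6 LD2_c24 LD3_c24))))))
theorem f112831 : Led Lsl_bt (LP (LK LD1_c2 LD2_c54 LD3_c26)) = (LP (LK LD1_c5 LD2_c56 LD3_c7)) :=
  Lre_b IH (LK LD1_c2 LD2_c54 LD3_c26) (LK LD1_c5 LD2_c56 LD3_c7) Lrfl Lrfl
theorem f112832 : Led Lsl_dt (LP (LK LD1_c5 LD2_c56 LD3_c7)) = (LP (LK LD1_c4 LD2_c23 LD3_c54)) :=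
  Lgr Lrot79 (Lpe (f112831 IH) (Lpr_df (K4.f112626 IH) (Lpe (f36423 IH) (Lpn (LP (LK LD1_c4 LD2_c23 LD3_c54))))))
theorem f112453 : Led Lsl_dt (LP (LK LD1_c3 LD2_c9 LD3_c50)) = (LP (LK LD1_c6 LD2_c24 LD3_c24)) :=
  Lre_d IH (LK LD1_c3 LD2_c9 LD3_c50) (LK LD1_c6 LD2_c24 LD3_c24) Lrfl Lrfl
theorem f118902 : Led Lsl_ft (LP (LK LD1_c4 LD2_c23 LD3_c54)) = (LP (LK LD1_c3 LD2_c9 LD3_c50)) :=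
  Lgr Lrot54 (Lpe (f112832 IH) (Lpr_ff (f118899 IH) (Lpe (f112453 IH) (Lpn (LP (LK LD1_c3 LD2_c9 LD3_c50))))))
theorem f80689 : Led Lsl_bt (LP (LK LD1_c2 LD2_c9 LD3_c22)) = (LP (LK LD1_c4 LD2_c23 LD3_c54)) :=
  Lre_b IH (LK LD1_c2 LD2_c9 LD3_c22) (LK LD1_c4 LD2_c23 LD3_c54) Lrfl Lrfl
theorem f112859 : Led Lsl_df (LP (LK LD1_c5 LD2_c56 LD3_c7)) = (LP (LK LD1_c4 LD2_c23 LD3_c54)) :=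
  Lgr Lrot12 (Lpr_bt (f81786 IH) (Lpr_dt (K4.f112834 IH) (Lpr_bt (f80689 IH) (Lpn (LP (LK LD1_c4 LD2_c23 LD3_c54))))))
theorem f81787 : Led Lsl_ct (LP (LK LD1_c5 LD2_c56 LD3_c7)) = (LP (LK LD1_c11 LD2_c37 LD3_c29)) :=
  Lre_c IH (LK LD1_c5 LD2_c56 LD3_c7) (LK LD1_c11 LD2_c37 LD3_c29) Lrfl Lrfl
theorem f79642 : Led Lsl_cf (LP (LK LD1_c6 LD2_c29 LD3_c22)) = (LP (LK LD1_c6 LD2_c49 LD3_c0)) :=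
  Lgr Lrot11 (Lpr_ct (K4.f79639 IH) (Lpn (LP (LK LD1_c6 LD2_c49 LD3_c0))))
theorem f81803 : Led Lsl_ct (LP (LK LD1_c11 LD2_c37 LD3_c29)) = (LP (LK LD1_c5 LD2_c56 LD3_c7)) :=
  Lre_c IH (LK LD1_c11 LD2_c37 LD3_c29) (LK LD1_c5 LD2_c56 LD3_c7) Lrfl Lrfl
theorem f112622 : Led Lsl_bf (LP (LK LD1_c11 LD2_c37 LD3_c29)) = (LP (LK LD1_c6 LD2_c49 LD3_c0)) :=
  Lgr Lrot90 (Lpr_ct (f81803 IH) (Lpr_bt (f81786 IH) (Lpr_ct (K4.f81788 IH) (Lpr_bt (K4.f112618 IH) (Lpr_ct (K4.f79639 IH) (Lpn (LP (LK LD1_c6 LD2_c49 LD3_c0))))))))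
theorem f112628 : Led Lsl_gf (LP (LK LD1_c5 LD2_c56 LD3_c14)) = (LP (LK LD1_c11 LD2_c37 LD3_c29)) :=
  Lgr Lrot124 (Lpe (K4.f81777 IH) (Lpr_ct (K4.f69447 IH) (Lpr_gt (K4.f81782 IH) (Lpe (K4.f81797 IH) (Lpr_bt (K4.f112618 IH) (Lpr_gt (K4.f61204 IH) (Lpr_ct (K2.f76417 IH) (Lpr_gt (K4.f76507 IH) (Lpr_cf (f79642 IH) (Lpe (f112622 IH) (Lpn (LP (LK LD1_c11 LD2_c37 LD3_c29)))))))))))))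
theorem f99242 : Led Lsl_dt (LP (LK LD1_c5 LD2_c59 LD3_c36)) = (LP (LK LD1_c11 LD2_c43 LD3_c47)) :=
  Lre_d IH (LK LD1_c5 LD2_c59 LD3_c36) (LK LD1_c11 LD2_c43 LD3_c47) Lrfl Lrfl
theorem f26452 : Led Lsl_ct (LP (LK LD1_c2 LD2_c56 LD3_c13)) = (LP (LK LD1_c5 LD2_c59 LD3_c36)) :=
  Lre_c IH (LK LD1_c2 LD2_c56 LD3_c13) (LK LD1_c5 LD2_c59 LD3_c36) Lrfl Lrfl
theorem f112634 : Led Lsl_df (LP (LK LD1_c6 LD2_c48 LD3_c61)) = (LP (LK LD1_c11 LD2_c37 LD3_c29)) :=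
  Lgr Lrot155 (Lpr_gt (K4.f99220 IH) (Lpe (K4.f99234 IH) (Lpr_gt (K4.f26454 IH) (Lpr_ct (f26452 IH) (Lpr_dt (f99242 IH) (Lpe (K4.f112596 IH) (Lpe (K4.f37457 IH) (Lpr_cf (K4.f81778 IH) (Lpr_gf (f112628 IH) (Lpn (LP (LK LD1_c11 LD2_c37 LD3_c29))))))))))))
theorem f81100 : Led Lsl_ct (LP (LK LD1_c8 LD2_c46 LD3_c4)) = (LP (LK LD1_c4 LD2_c24 LD3_c12)) :=
  Lre_c IH (LK LD1_c8 LD2_c46 LD3_c4) (LK LD1_c4 LD2_c24 LD3_c12) Lrfl Lrfl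
theorem f81057 : Led Lsl_dt (LP (LK LD1_c4 LD2_c24 LD3_c12)) = (LP (LK LD1_c2 LD2_c9 LD3_c34)) :=
  Lre_d IH (LK LD1_c4 LD2_c24 LD3_c12) (LK LD1_c2 LD2_c9 LD3_c34) Lrfl Lrfl
theorem f80682 : Led Lsl_ct (LP (LK LD1_c2 LD2_c9 LD3_c34)) = (LP (LK LD1_c4 LD2_c24 LD3_c11)) :=
  Lre_c IH (LK LD1_c2 LD2_c9 LD3_c34) (LK LD1_c4 LD2_c24 LD3_c11) Lrfl Lrfl
theorem f118906 : Led Lsl_af (LP (LK LD1_c4 LD2_c24 LD3_c11)) = (LP (LK LD1_c3 LD2_c9 LD3_c50)) :=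
  Lgr Lrot109 (Lpe (f80682 IH) (Lpe (f81057 IH) (Lpe (f81100 IH) (Lpe (K4.f102080 IH) (Lpe (K4.f99203 IH) (Lpr_df (f112634 IH) (Lpe (f81787 IH) (Lpr_df (f112859 IH) (Lpr_ft (f118902 IH) (Lpn (LP (LK LD1_c3 LD2_c9 LD3_c50))))))))))))
theorem f80684 : Led Lsl_dt (LP (LK LD1_c4 LD2_c24 LD3_c11)) = (LP (LK LD1_c8 LD2_c46 LD3_c2)) :=
  Lre_d IH (LK LD1_c4 LD2_c24 LD3_c11) (LK LD1_c8 LD2_c46 LD3_c2) Lrfl Lrfl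
theorem f112460 : Led Lsl_dt (LP (LK LD1_c6 LD2_c24 LD3_c24)) = (LP (LK LD1_c3 LD2_c9 LD3_c50)) :=
  Lre_d IH (LK LD1_c6 LD2_c24 LD3_c24) (LK LD1_c3 LD2_c9 LD3_c50) Lrfl Lrfl
theorem f118912 : Led Lsl_at (LP (LK LD1_c8 LD2_c46 LD3_c2)) = (LP (LK LD1_c6 LD2_c24 LD3_c24)) :=
  Lgr Lrot51 (Lpe (f80684 IH) (Lpr_af (f118906 IH) (Lpe (f112460 IH) (Lpn (LP (LK LD1_c6 LD2_c24 LD3_c24))))))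
theorem f38623 : Led Lsl_ct (LP (LK LD1_c1 LD2_c5 LD3_c21)) = (LP (LK LD1_c1 LD2_c28 LD3_c4)) :=
  Lgr Lrot8 (Lpr_gt (K1.f38266 IH) (Lpr_dt (K1.f34746 IH) (Lpr_gt (K1.f37756 IH) (Lpr_dt (K1.f37040 IH) (Lpe (K1.f37875 IH) (Lpe (K1.f16616 IH) (Lpr_gf (K1.f38619 IH) (Lpe (K1.f35657 IH) (Lpr_gf (K1.f37192 IH) (Lpn (LP (LK LD1_c1 LD2_c28 LD3_c4))))))))))))
theorem f112636 : Led Lsl_cf (LP (LK LD1_c5 LD2_c56 LD3_c14)) = (LP (LK LD1_c3 LD2_c57 LD3_c48)) :=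
  Lgr Lrot58 (Lpr_gf (f112628 IH) (Lpe (f81787 IH) (Lpr_bt (f81786 IH) (Lpe (K4.f81782 IH) (Lpe (K2.f81765 IH) (Lpe (K1.f37448 IH) (Lpr_gf (K1.f37192 IH) (Lpe (f38623 IH) (Lpr_gf (K1.f35592 IH) (Lpe (K4.f35658 IH) (Lpn (LP (LK LD1_c3 LD2_c57 LD3_c48)))))))))))))
theorem f112631 : Led Lsl_dt (LP (LK LD1_c5 LD2_c56 LD3_c14)) = (LP (LK LD1_c11 LD2_c37 LD3_c43)) :=
  Lre_d IH (LK LD1_c5 LD2_c56 LD3_c14) (LK LD1_c11 LD2_c37 LD3_c43) Lrfl Lrfl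
theorem f37038 : Led Lsl_ct (LP (LK LD1_c1 LD2_c55 LD3_c37)) = (LP (LK LD1_c1 LD2_c55 LD3_c39)) :=
  Lgr Lrot83 (Lpe (K1.f35577 IH) (Lpe (K1.f35573 IH) (Lpe (K1.f36923 IH) (Lpr_cf (K1.f36936 IH) (Lpe (K1.f37037 IH) (Lpn (LP (LK LD1_c1 LD2_c55 LD3_c39))))))))
theorem f35985 : Led Lsl_dt (LP (LK LD1_c3 LD2_c57 LD3_c44)) = (LP (LK LD1_c1 LD2_c55 LD3_c37)) :=
  Lre_d IH (LK LD1_c3 LD2_c57 LD3_c44) (LK LD1_c1 LD2_c55 LD3_c37) Lrfl Lrfl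
theorem f81635 : Led Lsl_dt (LP (LK LD1_c11 LD2_c41 LD3_c14)) = (LP (LK LD1_c5 LD2_c58 LD3_c17)) :=
  Lre_d IH (LK LD1_c11 LD2_c41 LD3_c14) (LK LD1_c5 LD2_c58 LD3_c17) Lrfl Lrfl
theorem f81636 : Led Lsl_df (LP (LK LD1_c8 LD2_c46 LD3_c57)) = (LP (LK LD1_c11 LD2_c41 LD3_c10)) :=
  Lgr Lrot78 (Lpr_ft (K2.f81625 IH) (Lpr_dt (f81635 IH) (Lpr_ft (K2.f81609 IH) (Lpn (LP (LK LD1_c11 LD2_c41 LD3_c10))))))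
theorem f112648 : Led Lsl_ct (LP (LK LD1_c11 LD2_c37 LD3_c43)) = (LP (LK LD1_c11 LD2_c41 LD3_c10)) :=
  Lgr Lrot53 (Lpe (f112631 IH) (Lpr_cf (f112636 IH) (Lpe (K4.f37077 IH) (Lpe (f37038 IH) (Lpe (f35985 IH) (Lpr_ft (K2.f35909 IH) (Lpr_at (K4.f35978 IH) (Lpe (K2.f35962 IH) (Lpr_df (f81636 IH) (Lpn (LP (LK LD1_c11 LD2_c41 LD3_c10))))))))))))
theorem f81644 : Led Lsl_ft (LP (LK LD1_c11 LD2_c41 LD3_c10)) = (LP (LK LD1_c5 LD2_c58 LD3_c17)) :=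
  Lre_f IH (LK LD1_c11 LD2_c41 LD3_c10) (LK LD1_c5 LD2_c58 LD3_c17) Lrfl Lrfl
theorem f81640 : Led Lsl_ff (LP (LK LD1_c8 LD2_c46 LD3_c57)) = (LP (LK LD1_c11 LD2_c41 LD3_c14)) :=
  Lgr Lrot3 (Lpr_ft (K2.f81625 IH) (Lpn (LP (LK LD1_c11 LD2_c41 LD3_c14))))
theorem f35968 : Led Lsl_at (LP (LK LD1_c8 LD2_c46 LD3_c57)) = (LP (LK LD1_c4 LD2_c24 LD3_c48)) :=
  Lre_a IH (LK LD1_c8 LD2_c46 LD3_c57) (LK LD1_c4 LD2_c24 LD3_c48) Lrfl Lrfl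
theorem f35969 : Led Lsl_ct (LP (LK LD1_c2 LD2_c9 LD3_c52)) = (LP (LK LD1_c4 LD2_c24 LD3_c48)) :=
  Lre_c IH (LK LD1_c2 LD2_c9 LD3_c52) (LK LD1_c4 LD2_c24 LD3_c48) Lrfl Lrfl
theorem f35994 : Led Lsl_dt (LP (LK LD1_c1 LD2_c2 LD3_c0)) = (LP (LK LD1_c2 LD2_c9 LD3_c52)) :=
  Lre_d IH (LK LD1_c1 LD2_c2 LD3_c0) (LK LD1_c2 LD2_c9 LD3_c52) Lrfl Lrfl
theorem f37992 : Led Lsl_ct (LP (LK LD1_c1 LD2_c2 LD3_c8)) = (LP (LK LD1_c1 LD2_c2 LD3_c0)) :=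
  Lgr Lrot83 (Lpe (K1.f37991 IH) (Lpr_cf (K1.f37987 IH) (Lpr_bf (K1.f35616 IH) (Lpe (K1.f35439 IH) (Lpe (K1.f35629 IH) (Lpn (LP (LK LD1_c1 LD2_c2 LD3_c0))))))))
theorem f69488 : Led Lsl_dt (LP (LK LD1_c8 LD2_c48 LD3_c20)) = (LP (LK LD1_c4 LD2_c25 LD3_c24)) :=
  Lre_d IH (LK LD1_c8 LD2_c48 LD3_c20) (LK LD1_c4 LD2_c25 LD3_c24) Lrfl Lrfl
theorem f81649 : Led Lsl_cf (LP (LK LD1_c8 LD2_c48 LD3_c20)) = (LP (LK LD1_c5 LD2_c58 LD3_c17)) :=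
  Lgr Lrot118 (Lpr_dt (f69488 IH) (Lpr_ct (K4.f38233 IH) (Lpr_dt (K4.f38515 IH) (Lpr_ct (f37992 IH) (Lpr_dt (f35994 IH) (Lpr_ct (f35969 IH) (Lpe (f35968 IH) (Lpr_ff (f81640 IH) (Lpr_dt (f81635 IH) (Lpn (LP (LK LD1_c5 LD2_c58 LD3_c17))))))))))))
theorem f112656 : Led Lsl_ff (LP (LK LD1_c11 LD2_c37 LD3_c43)) = (LP (LK LD1_c8 LD2_c48 LD3_c20)) :=
  Lgr Lrot23 (Lpr_ct (f112648 IH) (Lpr_ft (f81644 IH) (Lpe (f81649 IH) (Lpn (LP (LK LD1_c8 LD2_c48 LD3_c20))))))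
theorem f81594 : Led Lsl_dt (LP (LK LD1_c4 LD2_c24 LD3_c48)) = (LP (LK LD1_c5 LD2_c58 LD3_c16)) :=
  Lgr Lrot42 (Lpr_df (K2.f81589 IH) (Lpn (LP (LK LD1_c5 LD2_c58 LD3_c16))))
theorem f74563 : Led Lsl_ct (LP (LK LD1_c5 LD2_c58 LD3_c16)) = (LP (LK LD1_c11 LD2_c41 LD3_c11)) :=
  Lre_c IH (LK LD1_c5 LD2_c58 LD3_c16) (LK LD1_c11 LD2_c41 LD3_c11) Lrfl Lrfl
theorem f112663 : Led Lsl_at (LP (LK LD1_c11 LD2_c37 LD3_c43)) = (LP (LK LD1_c11 LD2_c41 LD3_c11)) :=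
  Lgr Lrot33 (Lpr_ff (f112656 IH) (Lpr_dt (f69488 IH) (Lpr_ct (K4.f38233 IH) (Lpr_dt (K4.f38515 IH) (Lpr_ct (f37992 IH) (Lpr_dt (f35994 IH) (Lpr_ct (f35969 IH) (Lpr_dt (f81594 IH) (Lpr_ct (f74563 IH) (Lpn (LP (LK LD1_c11 LD2_c41 LD3_c11))))))))))))
theorem f81606 : Led Lsl_df (LP (LK LD1_c11 LD2_c33 LD3_c31)) = (LP (LK LD1_c11 LD2_c41 LD3_c11)) :=
  Lgr Lrot38 (Lpr_dt (K2.f81598 IH) (Lpn (LP (LK LD1_c11 LD2_c41 LD3_c11))))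
theorem f112667 : Led Lsl_af (LP (LK LD1_c5 LD2_c56 LD3_c14)) = (LP (LK LD1_c11 LD2_c33 LD3_c31)) :=
  Lgr Lrot117 (Lpr_dt (f112631 IH) (Lpr_at (f112663 IH) (Lpe (f81606 IH) (Lpn (LP (LK LD1_c11 LD2_c33 LD3_c31))))))
theorem f38250 : Led Lsl_ft (LP (LK LD1_c2 LD2_c10 LD3_c5)) = (LP (LK LD1_c3 LD2_c57 LD3_c48)) :=
  Lgr Lrot75 (Lpe (K4.f38243 IH) (Lpr_ff (K1.f38241 IH) (Lpe (K4.f35658 IH) (Lpn (LP (LK LD1_c3 LD2_c57 LD3_c48))))))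
theorem f112646 : Led Lsl_ft (LP (LK LD1_c5 LD2_c56 LD3_c14)) = (LP (LK LD1_c4 LD2_c25 LD3_c24)) :=
  Lgr Lrot4 (Lpr_cf (f112636 IH) (Lpe (f38250 IH) (Lpe (K4.f38233 IH) (Lpn (LP (LK LD1_c4 LD2_c25 LD3_c24))))))
theorem f70398 : Led Lsl_at (LP (LK LD1_c4 LD2_c25 LD3_c24)) = (LP (LK LD1_c8 LD2_c48 LD3_c10)) :=
  Lre_a IH (LK LD1_c4 LD2_c25 LD3_c24) (LK LD1_c8 LD2_c48 LD3_c10) Lrfl Lrfl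
theorem f112671 : Led Lsl_ft (LP (LK LD1_c8 LD2_c48 LD3_c10)) = (LP (LK LD1_c11 LD2_c33 LD3_c31)) :=
  Lgr Lrot101 (Lpe (f70398 IH) (Lpe (f112646 IH) (Lpr_af (f112667 IH) (Lpn (LP (LK LD1_c11 LD2_c33 LD3_c31))))))
theorem f112673 : Led Lsl_gf (LP (LK LD1_c11 LD2_c37 LD3_c29)) = (LP (LK LD1_c8 LD2_c48 LD3_c10)) :=
  Lgr Lrot47 (Lpe (f112628 IH) (Lpr_af (f112667 IH) (Lpe (f112671 IH) (Lpn (LP (LK LD1_c8 LD2_c48 LD3_c10))))))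
theorem f80447 : Led Lsl_dt (LP (LK LD1_c1 LD2_c57 LD3_c2)) = (LP (LK LD1_c2 LD2_c10 LD3_c28)) :=
  Lgr Lrot79 (Lpe (K4.f80444 IH) (Lpr_df (K4.f80442 IH) (Lpe (K4.f38109 IH) (Lpn (LP (LK LD1_c2 LD2_c10 LD3_c28))))))
theorem f80681 : Led Lsl_gt (LP (LK LD1_c4 LD2_c0 LD3_c35)) = (LP (LK LD1_c1 LD2_c57 LD3_c2)) :=
  Lre_g IH (LK LD1_c4 LD2_c0 LD3_c35) (LK LD1_c1 LD2_c57 LD3_c2) Lrfl Lrfl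
theorem f38576 : Led Lsl_ct (LP (LK LD1_c4 LD2_c25 LD3_c20)) = (LP (LK LD1_c8 LD2_c48 LD3_c10)) :=
  Lre_c IH (LK LD1_c4 LD2_c25 LD3_c20) (LK LD1_c8 LD2_c48 LD3_c10) Lrfl Lrfl
theorem f72125 : Led Lsl_af (LP (LK LD1_c3 LD2_c57 LD3_c48)) = (LP (LK LD1_c5 LD2_c53 LD3_c49)) :=
  Lgr Lrot45 (Lpe (K4.f38567 IH) (Lpr_at (K4.f38582 IH) (Lpr_ft (K2.f72109 IH) (Lpn (LP (LK LD1_c5 LD2_c53 LD3_c49))))))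
theorem f37079 : Led Lsl_gt (LP (LK LD1_c7 LD2_c56 LD3_c60)) = (LP (LK LD1_c3 LD2_c57 LD3_c48)) :=
  Lre_g IH (LK LD1_c7 LD2_c56 LD3_c60) (LK LD1_c3 LD2_c57 LD3_c48) Lrfl Lrfl
theorem f72135 : Led Lsl_gt (LP (LK LD1_c4 LD2_c25 LD3_c20)) = (LP (LK LD1_c7 LD2_c56 LD3_c60)) :=
  Lgr Lrot5 (Lpr_ft (K2.f72109 IH) (Lpe (f72125 IH) (Lpe (f37079 IH) (Lpn (LP (LK LD1_c7 LD2_c56 LD3_c60))))))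
theorem f112675 : Led Lsl_df (LP (LK LD1_c4 LD2_c0 LD3_c35)) = (LP (LK LD1_c7 LD2_c56 LD3_c60)) :=
  Lgr Lrot153 (Lpr_gt (f80681 IH) (Lpr_dt (f80447 IH) (Lpe (K4.f38149 IH) (Lpe (K4.f38180 IH) (Lpe (K4.f99220 IH) (Lpr_df (f112634 IH) (Lpr_gf (f112673 IH) (Lpe (f38576 IH) (Lpr_gt (f72135 IH) (Lpn (LP (LK LD1_c7 LD2_c56 LD3_c60))))))))))))
theorem f112630 : Led Lsl_gt (LP (LK LD1_c5 LD2_c56 LD3_c14)) = (LP (LK LD1_c11 LD2_c37 LD3_c42)) :=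
  Lre_g IH (LK LD1_c5 LD2_c56 LD3_c14) (LK LD1_c11 LD2_c37 LD3_c42) Lrfl Lrfl
theorem f112682 : Led Lsl_cf (LP (LK LD1_c8 LD2_c46 LD3_c2)) = (LP (LK LD1_c11 LD2_c37 LD3_c42)) :=
  Lgr Lrot99 (Lpe (f80684 IH) (Lpe (f80682 IH) (Lpe (K4.f59627 IH) (Lpe (K4.f80674 IH) (Lpe (f80681 IH) (Lpr_df (f112675 IH) (Lpr_gt (f37079 IH) (Lpe (f112636 IH) (Lpr_gt (f112630 IH) (Lpn (LP (LK LD1_c11 LD2_c37 LD3_c42))))))))))))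
theorem f38509 : Led Lsl_ct (LP (LK LD1_c2 LD2_c10 LD3_c5)) = (LP (LK LD1_c4 LD2_c25 LD3_c24)) :=
  Lre_c IH (LK LD1_c2 LD2_c10 LD3_c5) (LK LD1_c4 LD2_c25 LD3_c24) Lrfl Lrfl
theorem f79060 : Led Lsl_bt (LP (LK LD1_c6 LD2_c24 LD3_c24)) = (LP (LK LD1_c3 LD2_c9 LD3_c52)) :=
  Lre_b IH (LK LD1_c6 LD2_c24 LD3_c24) (LK LD1_c3 LD2_c9 LD3_c52) Lrfl Lrfl
theorem f112446 : Led Lsl_cf (LP (LK LD1_c8 LD2_c48 LD3_c19)) = (LP (LK LD1_c6 LD2_c24 LD3_c24)) :=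
  Lgr Lrot160 (Lpr_gt (K4.f38516 IH) (Lpe (f38509 IH) (Lpr_bt (K4.f38232 IH) (Lpr_gt (K2.f69359 IH) (Lpe (K4.f59599 IH) (Lpe (K2.f69486 IH) (Lpr_cf (K2.f38236 IH) (Lpr_bt (K4.f36154 IH) (Lpr_gt (K4.f112440 IH) (Lpe (f79060 IH) (Lpn (LP (LK LD1_c6 LD2_c24 LD3_c24)))))))))))))
theorem f118921 : Led Lsl_af (LP (LK LD1_c11 LD2_c37 LD3_c42)) = (LP (LK LD1_c8 LD2_c48 LD3_c19)) :=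
  Lgr Lrot68 (Lpe (f112682 IH) (Lpr_at (f118912 IH) (Lpe (f112446 IH) (Lpn (LP (LK LD1_c8 LD2_c48 LD3_c19))))))
theorem f78341 : Led Lsl_et (LP (LK LD1_c2 LD2_c21 LD3_c13)) = (LP (LK LD1_c1 LD2_c7 LD3_c53)) :=
  Lre_e IH (LK LD1_c2 LD2_c21 LD3_c13) (LK LD1_c1 LD2_c7 LD3_c53) Lrfl Lrfl
theorem f77966 : Led Lsl_et (LP (LK LD1_c2 LD2_c17 LD3_c12)) = (LP (LK LD1_c4 LD2_c40 LD3_c14)) :=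
  Lre_e IH (LK LD1_c2 LD2_c17 LD3_c12) (LK LD1_c4 LD2_c40 LD3_c14) Lrfl Lrfl
theorem f78342 : Led Lsl_cf (LP (LK LD1_c2 LD2_c21 LD3_c13)) = (LP (LK LD1_c4 LD2_c40 LD3_c14)) :=
  Lgr Lrot39 (Lpr_et (f78341 IH) (Lpr_ct (K3.f78248 IH) (Lpr_et (f77966 IH) (Lpn (LP (LK LD1_c4 LD2_c40 LD3_c14))))))
theorem f78353 : Led Lsl_ct (LP (LK LD1_c2 LD2_c21 LD3_c13)) = (LP (LK LD1_c4 LD2_c40 LD3_c14)) :=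
  Lgr Lrot59 (Lpr_cf (f78342 IH) (Lpn (LP (LK LD1_c4 LD2_c40 LD3_c14))))
theorem f78374 : Led Lsl_bt (LP (LK LD1_c4 LD2_c46 LD3_c29)) = (LP (LK LD1_c2 LD2_c21 LD3_c13)) :=
  Lre_b IH (LK LD1_c4 LD2_c46 LD3_c29) (LK LD1_c2 LD2_c21 LD3_c13) Lrfl Lrfl
theorem f78375 : Led Lsl_ct (LP (LK LD1_c9 LD2_c25 LD3_c34)) = (LP (LK LD1_c4 LD2_c46 LD3_c29)) :=
  Lre_c IH (LK LD1_c9 LD2_c25 LD3_c34) (LK LD1_c4 LD2_c46 LD3_c29) Lrfl Lrfl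
theorem f77907 : Led Lsl_et (LP (LK LD1_c4 LD2_c40 LD3_c14)) = (LP (LK LD1_c2 LD2_c17 LD3_c12)) :=
  Lre_e IH (LK LD1_c4 LD2_c40 LD3_c14) (LK LD1_c2 LD2_c17 LD3_c12) Lrfl Lrfl
theorem f77800 : Led Lsl_et (LP (LK LD1_c1 LD2_c29 LD3_c13)) = (LP (LK LD1_c3 LD2_c6 LD3_c17)) :=
  Lre_e IH (LK LD1_c1 LD2_c29 LD3_c13) (LK LD1_c3 LD2_c6 LD3_c17) Lrfl Lrfl
theorem f77908 : Led Lsl_bf (LP (LK LD1_c4 LD2_c40 LD3_c14)) = (LP (LK LD1_c3 LD2_c6 LD3_c17)) :=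
  Lgr Lrot96 (Lpr_et (f77907 IH) (Lpr_bt (K2.f77903 IH) (Lpr_et (f77800 IH) (Lpn (LP (LK LD1_c3 LD2_c6 LD3_c17))))))
theorem f77910 : Led Lsl_bt (LP (LK LD1_c4 LD2_c40 LD3_c14)) = (LP (LK LD1_c3 LD2_c6 LD3_c17)) :=
  Lgr Lrot127 (Lpr_bf (f77908 IH) (Lpn (LP (LK LD1_c3 LD2_c6 LD3_c17))))
theorem f77919 : Led Lsl_ct (LP (LK LD1_c3 LD2_c6 LD3_c17)) = (LP (LK LD1_c6 LD2_c18 LD3_c5)) :=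
  Lre_c IH (LK LD1_c3 LD2_c6 LD3_c17) (LK LD1_c6 LD2_c18 LD3_c5) Lrfl Lrfl
theorem f78376 : Led Lsl_bf (LP (LK LD1_c9 LD2_c25 LD3_c34)) = (LP (LK LD1_c6 LD2_c18 LD3_c5)) :=
  Lgr Lrot90 (Lpr_ct (f78375 IH) (Lpr_bt (f78374 IH) (Lpr_ct (f78353 IH) (Lpr_bt (f77910 IH) (Lpr_ct (f77919 IH) (Lpn (LP (LK LD1_c6 LD2_c18 LD3_c5))))))))
theorem f78385 : Led Lsl_et (LP (LK LD1_c9 LD2_c25 LD3_c34)) = (LP (LK LD1_c4 LD2_c46 LD3_c27)) :=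
  Lre_e IH (LK LD1_c9 LD2_c25 LD3_c34) (LK LD1_c4 LD2_c46 LD3_c27) Lrfl Lrfl
theorem f78386 : Led Lsl_et (LP (LK LD1_c3 LD2_c6 LD3_c16)) = (LP (LK LD1_c6 LD2_c18 LD3_c5)) :=
  Lre_e IH (LK LD1_c3 LD2_c6 LD3_c16) (LK LD1_c6 LD2_c18 LD3_c5) Lrfl Lrfl
theorem f78387 : Led Lsl_bt (LP (LK LD1_c4 LD2_c46 LD3_c27)) = (LP (LK LD1_c3 LD2_c6 LD3_c16)) :=
  Lgr Lrot119 (Lpe (f78385 IH) (Lpr_bf (f78376 IH) (Lpe (f78386 IH) (Lpn (LP (LK LD1_c3 LD2_c6 LD3_c16))))))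
theorem f112438 : Led Lsl_dt (LP (LK LD1_c8 LD2_c48 LD3_c19)) = (LP (LK LD1_c4 LD2_c46 LD3_c27)) :=
  Lgr Lrot79 (Lpr_bf (K4.f112432 IH) (Lpe (K3.f78134 IH) (Lpe (f78387 IH) (Lpn (LP (LK LD1_c4 LD2_c46 LD3_c27))))))
theorem f112576 : Led Lsl_df (LP (LK LD1_c8 LD2_c48 LD3_c19)) = (LP (LK LD1_c4 LD2_c46 LD3_c27)) :=
  Lgr Lrot38 (Lpr_dt (f112438 IH) (Lpn (LP (LK LD1_c4 LD2_c46 LD3_c27))))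
theorem f78390 : Led Lsl_at (LP (LK LD1_c9 LD2_c25 LD3_c31)) = (LP (LK LD1_c4 LD2_c46 LD3_c27)) :=
  Lre_a IH (LK LD1_c9 LD2_c25 LD3_c31) (LK LD1_c4 LD2_c46 LD3_c27) Lrfl Lrfl
theorem f118937 : Led Lsl_dt (LP (LK LD1_c11 LD2_c37 LD3_c42)) = (LP (LK LD1_c9 LD2_c25 LD3_c31)) :=
  Lgr Lrot44 (Lpr_af (f118921 IH) (Lpr_df (f112576 IH) (Lpe (f78390 IH) (Lpn (LP (LK LD1_c9 LD2_c25 LD3_c31))))))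
theorem f118942 : Led Lsl_df (LP (LK LD1_c11 LD2_c37 LD3_c42)) = (LP (LK LD1_c9 LD2_c25 LD3_c31)) :=
  Lgr Lrot38 (Lpr_dt (f118937 IH) (Lpn (LP (LK LD1_c9 LD2_c25 LD3_c31))))
theorem f80683 : Led Lsl_dt (LP (LK LD1_c8 LD2_c46 LD3_c2)) = (LP (LK LD1_c4 LD2_c24 LD3_c11)) :=
  Lre_d IH (LK LD1_c8 LD2_c46 LD3_c2) (LK LD1_c4 LD2_c24 LD3_c11) Lrfl Lrfl
theorem f80688 : Led Lsl_ct (LP (LK LD1_c4 LD2_c24 LD3_c11)) = (LP (LK LD1_c2 LD2_c9 LD3_c34)) :=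
  Lre_c IH (LK LD1_c4 LD2_c24 LD3_c11) (LK LD1_c2 LD2_c9 LD3_c34) Lrfl Lrfl
theorem f72619 : Led Lsl_dt (LP (LK LD1_c11 LD2_c43 LD3_c47)) = (LP (LK LD1_c5 LD2_c59 LD3_c36)) :=
  Lre_d IH (LK LD1_c11 LD2_c43 LD3_c47) (LK LD1_c5 LD2_c59 LD3_c36) Lrfl Lrfl
theorem f112632 : Led Lsl_dt (LP (LK LD1_c6 LD2_c48 LD3_c61)) = (LP (LK LD1_c11 LD2_c37 LD3_c29)) :=
  Lgr Lrot6 (Lpr_gt (K4.f99220 IH) (Lpe (K4.f99234 IH) (Lpr_gt (K4.f26454 IH) (Lpr_ct (f26452 IH) (Lpe (f72619 IH) (Lpe (K4.f112596 IH) (Lpe (K4.f37457 IH) (Lpr_cf (K4.f81778 IH) (Lpr_gf (f112628 IH) (Lpn (LP (LK LD1_c11 LD2_c37 LD3_c29))))))))))))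
theorem f80693 : Led Lsl_dt (LP (LK LD1_c2 LD2_c9 LD3_c35)) = (LP (LK LD1_c4 LD2_c24 LD3_c15)) :=
  Lre_d IH (LK LD1_c2 LD2_c9 LD3_c35) (LK LD1_c4 LD2_c24 LD3_c15) Lrfl Lrfl
theorem f80694 : Led Lsl_ct (LP (LK LD1_c4 LD2_c24 LD3_c15)) = (LP (LK LD1_c8 LD2_c46 LD3_c7)) :=
  Lre_c IH (LK LD1_c4 LD2_c24 LD3_c15) (LK LD1_c8 LD2_c46 LD3_c7) Lrfl Lrfl
theorem f118946 : Led Lsl_ct (LP (LK LD1_c4 LD2_c46 LD3_c26)) = (LP (LK LD1_c9 LD2_c25 LD3_c31)) :=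
  Lre_c IH (LK LD1_c4 LD2_c46 LD3_c26) (LK LD1_c9 LD2_c25 LD3_c31) Lrfl Lrfl
theorem f118949 : Led Lsl_dt (LP (LK LD1_c8 LD2_c46 LD3_c7)) = (LP (LK LD1_c4 LD2_c46 LD3_c26)) :=
  Lgr Lrot173 (Lpe (f80694 IH) (Lpe (f80693 IH) (Lpe (f80685 IH) (Lpe (f112832 IH) (Lpe (f81803 IH) (Lpe (f112632 IH) (Lpr_cf (K4.f101893 IH) (Lpr_df (K4.f102103 IH) (Lpe (K4.f59629 IH) (Lpe (K4.f59628 IH) (Lpe (f80688 IH) (Lpe (f80683 IH) (Lpr_cf (f112682 IH) (Lpr_df (f118942 IH) (Lpe (f118946 IH) (Lpn (LP (LK LD1_c4 LD2_c46 LD3_c26))))))))))))))))))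
theorem f112455 : Led Lsl_at (LP (LK LD1_c4 LD2_c46 LD3_c26)) = (LP (LK LD1_c2 LD2_c21 LD3_c11)) :=
  Lre_a IH (LK LD1_c4 LD2_c46 LD3_c26) (LK LD1_c2 LD2_c21 LD3_c11) Lrfl Lrfl
theorem f112452 : Led Lsl_dt (LP (LK LD1_c2 LD2_c21 LD3_c11)) = (LP (LK LD1_c4 LD2_c46 LD3_c28)) :=
  Lre_d IH (LK LD1_c2 LD2_c21 LD3_c11) (LK LD1_c4 LD2_c46 LD3_c28) Lrfl Lrfl
theorem f118951 : Led Lsl_af (LP (LK LD1_c8 LD2_c46 LD3_c7)) = (LP (LK LD1_c4 LD2_c46 LD3_c28)) :=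
  Lgr Lrot117 (Lpr_dt (f118949 IH) (Lpr_at (f112455 IH) (Lpr_dt (f112452 IH) (Lpn (LP (LK LD1_c4 LD2_c46 LD3_c28))))))
theorem f102076 : Led Lsl_bt (LP (LK LD1_c4 LD2_c45 LD3_c11)) = (LP (LK LD1_c8 LD2_c46 LD3_c4)) :=
  Lgr Lrot127 (Lpr_bf (K4.f102071 IH) (Lpn (LP (LK LD1_c8 LD2_c46 LD3_c4))))
theorem f78580 : Led Lsl_bt (LP (LK LD1_c4 LD2_c46 LD3_c28)) = (LP (LK LD1_c2 LD2_c21 LD3_c12)) :=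
  Lre_b IH (LK LD1_c4 LD2_c46 LD3_c28) (LK LD1_c2 LD2_c21 LD3_c12) Lrfl Lrfl
theorem f113776 : Led Lsl_ft (LP (LK LD1_c8 LD2_c46 LD3_c4)) = (LP (LK LD1_c4 LD2_c46 LD3_c28)) :=
  Lgr Lrot75 (Lpe (f102076 IH) (Lpr_ff (K4.f113774 IH) (Lpe (f78580 IH) (Lpn (LP (LK LD1_c4 LD2_c46 LD3_c28))))))
theorem f26614 : Led Lsl_gt (LP (LK LD1_c0 LD2_c29 LD3_c33)) = (LP (LK LD1_c1 LD2_c4 LD3_c32)) :=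
  Lre_g IH (LK LD1_c0 LD2_c29 LD3_c33) (LK LD1_c1 LD2_c4 LD3_c32) Lrfl Lrfl
theorem f26615 : Led Lsl_ct (LP (LK LD1_c1 LD2_c4 LD3_c32)) = (LP (LK LD1_c2 LD2_c14 LD3_c49)) :=
  Lre_c IH (LK LD1_c1 LD2_c4 LD3_c32) (LK LD1_c2 LD2_c14 LD3_c49) Lrfl Lrfl
theorem f26593 : Led Lsl_bt (LP (LK LD1_c0 LD2_c13 LD3_c0)) = (LP (LK LD1_c0 LD2_c29 LD3_c33)) :=
  Lre_b IH (LK LD1_c0 LD2_c13 LD3_c0) (LK LD1_c0 LD2_c29 LD3_c33) Lrfl Lrfl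
theorem f37758 : Led Lsl_bt (LP (LK LD1_c0 LD2_c11 LD3_c4)) = (LP (LK LD1_c0 LD2_c24 LD3_c55)) :=
  Lre_b IH (LK LD1_c0 LD2_c11 LD3_c4) (LK LD1_c0 LD2_c24 LD3_c55) Lrfl Lrfl
theorem f37042 : Led Lsl_gt (LP (LK LD1_c0 LD2_c55 LD3_c0)) = (LP (LK LD1_c0 LD2_c24 LD3_c55)) :=
  Lre_g IH (LK LD1_c0 LD2_c55 LD3_c0) (LK LD1_c0 LD2_c24 LD3_c55) Lrfl Lrfl
theorem f37065 : Led Lsl_bt (LP (LK LD1_c1 LD2_c56 LD3_c26)) = (LP (LK LD1_c0 LD2_c55 LD3_c0)) :=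
  Lre_b IH (LK LD1_c1 LD2_c56 LD3_c26) (LK LD1_c0 LD2_c55 LD3_c0) Lrfl Lrfl
theorem f37061 : Led Lsl_ct (LP (LK LD1_c1 LD2_c56 LD3_c26)) = (LP (LK LD1_c3 LD2_c59 LD3_c28)) :=
  Lre_c IH (LK LD1_c1 LD2_c56 LD3_c26) (LK LD1_c3 LD2_c59 LD3_c28) Lrfl Lrfl
theorem f37759 : Led Lsl_gt (LP (LK LD1_c2 LD2_c14 LD3_c49)) = (LP (LK LD1_c3 LD2_c59 LD3_c28)) :=
  Lgr Lrot149 (Lpe (f26615 IH) (Lpe (f26614 IH) (Lpe (f26593 IH) (Lpe (K0.f26586 IH) (Lpr_gf (K1.f37752 IH) (Lpe (K1.f35523 IH) (Lpr_bt (f37758 IH) (Lpe (f37042 IH) (Lpe (f37065 IH) (Lpr_ct (f37061 IH) (Lpn (LP (LK LD1_c3 LD2_c59 LD3_c28)))))))))))))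
theorem f37062 : Led Lsl_ct (LP (LK LD1_c3 LD2_c59 LD3_c28)) = (LP (LK LD1_c1 LD2_c56 LD3_c26)) :=
  Lre_c IH (LK LD1_c3 LD2_c59 LD3_c28) (LK LD1_c1 LD2_c56 LD3_c26) Lrfl Lrfl
theorem f37762 : Led Lsl_dt (LP (LK LD1_c1 LD2_c56 LD3_c26)) = (LP (LK LD1_c3 LD2_c59 LD3_c29)) :=
  Lre_d IH (LK LD1_c1 LD2_c56 LD3_c26) (LK LD1_c3 LD2_c59 LD3_c29) Lrfl Lrfl
theorem f112482 : Led Lsl_gt (LP (LK LD1_c3 LD2_c10 LD3_c13)) = (LP (LK LD1_c6 LD2_c25 LD3_c7)) :=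
  Lre_g IH (LK LD1_c3 LD2_c10 LD3_c13) (LK LD1_c6 LD2_c25 LD3_c7) Lrfl Lrfl
theorem f112488 : Led Lsl_cf (LP (LK LD1_c3 LD2_c59 LD3_c29)) = (LP (LK LD1_c6 LD2_c25 LD3_c7)) :=
  Lgr Lrot99 (Lpe (f37762 IH) (Lpe (f37062 IH) (Lpe (f37759 IH) (Lpe (f26615 IH) (Lpe (f26614 IH) (Lpe (K2.f35222 IH) (Lpr_gt (K4.f112480 IH) (Lpr_ct (K4.f69208 IH) (Lpr_gt (f112482 IH) (Lpn (LP (LK LD1_c6 LD2_c25 LD3_c7))))))))))))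
theorem f112497 : Led Lsl_ct (LP (LK LD1_c3 LD2_c59 LD3_c29)) = (LP (LK LD1_c6 LD2_c25 LD3_c7)) :=
  Lgr Lrot59 (Lpr_cf (f112488 IH) (Lpn (LP (LK LD1_c6 LD2_c25 LD3_c7))))
theorem f112493 : Led Lsl_bt (LP (LK LD1_c3 LD2_c59 LD3_c29)) = (LP (LK LD1_c1 LD2_c56 LD3_c28)) :=
  Lre_b IH (LK LD1_c3 LD2_c59 LD3_c29) (LK LD1_c1 LD2_c56 LD3_c28) Lrfl Lrfl
theorem f68332 : Led Lsl_bt (LP (LK LD1_c0 LD2_c37 LD3_c59)) = (LP (LK LD1_c1 LD2_c22 LD3_c3)) :=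
  Lre_b IH (LK LD1_c0 LD2_c37 LD3_c59) (LK LD1_c1 LD2_c22 LD3_c3) Lrfl Lrfl
theorem f112520 : Led Lsl_gt (LP (LK LD1_c1 LD2_c56 LD3_c28)) = (LP (LK LD1_c1 LD2_c22 LD3_c3)) :=
  Lgr Lrot164 (Lpe (f112493 IH) (Lpr_ct (f112497 IH) (Lpe (f112482 IH) (Lpe (K4.f69208 IH) (Lpe (K4.f112480 IH) (Lpe (K4.f27178 IH) (Lpr_ct (K0.f27155 IH) (Lpe (K3.f67041 IH) (Lpr_cf (K2.f68316 IH) (Lpr_bt (f68332 IH) (Lpn (LP (LK LD1_c1 LD2_c22 LD3_c3)))))))))))))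
theorem f101600 : Led Lsl_dt (LP (LK LD1_c0 LD2_c55 LD3_c0)) = (LP (LK LD1_c1 LD2_c56 LD3_c28)) :=
  Lre_d IH (LK LD1_c0 LD2_c55 LD3_c0) (LK LD1_c1 LD2_c56 LD3_c28) Lrfl Lrfl
theorem f25134 : Led Lsl_bt (LP (LK LD1_c0 LD2_c5 LD3_c57)) = (LP (LK LD1_c0 LD2_c13 LD3_c2)) :=
  Lre_b IH (LK LD1_c0 LD2_c5 LD3_c57) (LK LD1_c0 LD2_c13 LD3_c2) Lrfl Lrfl
theorem f59572 : Led Lsl_bt (LP (LK LD1_c0 LD2_c40 LD3_c32)) = (LP (LK LD1_c0 LD2_c18 LD3_c9)) :=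
  Lre_b IH (LK LD1_c0 LD2_c40 LD3_c32) (LK LD1_c0 LD2_c18 LD3_c9) Lrfl Lrfl
theorem f59552 : Led Lsl_ct (LP (LK LD1_c0 LD2_c40 LD3_c32)) = (LP (LK LD1_c1 LD2_c27 LD3_c32)) :=
  Lre_c IH (LK LD1_c0 LD2_c40 LD3_c32) (LK LD1_c1 LD2_c27 LD3_c32) Lrfl Lrfl
theorem f69325 : Led Lsl_gt (LP (LK LD1_c2 LD2_c15 LD3_c35)) = (LP (LK LD1_c1 LD2_c27 LD3_c32)) :=
  Lgr Lrot65 (Lpe (K4.f69324 IH) (Lpr_bt (K4.f69323 IH) (Lpe (f25135 IH) (Lpe (f25134 IH) (Lpr_ct (K2.f20194 IH) (Lpe (K0.f6844 IH) (Lpe (K2.f20299 IH) (Lpr_gf (K2.f69264 IH) (Lpe (f59572 IH) (Lpr_ct (f59552 IH) (Lpn (LP (LK LD1_c1 LD2_c27 LD3_c32)))))))))))))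
theorem f99587 : Led Lsl_at (LP (LK LD1_c3 LD2_c3 LD3_c16)) = (LP (LK LD1_c1 LD2_c27 LD3_c32)) :=
  Lre_a IH (LK LD1_c3 LD2_c3 LD3_c16) (LK LD1_c1 LD2_c27 LD3_c32) Lrfl Lrfl
theorem f99588 : Led Lsl_ft (LP (LK LD1_c1 LD2_c55 LD3_c44)) = (LP (LK LD1_c3 LD2_c3 LD3_c16)) :=
  Lgr Lrot2 (Lpr_gt (K4.f99583 IH) (Lpr_gt (f69325 IH) (Lpe (f99587 IH) (Lpn (LP (LK LD1_c3 LD2_c3 LD3_c16))))))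
theorem f100421 : Led Lsl_ct (LP (LK LD1_c3 LD2_c3 LD3_c16)) = (LP (LK LD1_c1 LD2_c27 LD3_c38)) :=
  Lre_c IH (LK LD1_c3 LD2_c3 LD3_c16) (LK LD1_c1 LD2_c27 LD3_c38) Lrfl Lrfl
theorem f100422 : Led Lsl_ff (LP (LK LD1_c0 LD2_c55 LD3_c1)) = (LP (LK LD1_c1 LD2_c27 LD3_c38)) :=
  Lgr Lrot23 (Lpr_ct (K2.f40337 IH) (Lpr_ft (f99588 IH) (Lpr_ct (f100421 IH) (Lpn (LP (LK LD1_c1 LD2_c27 LD3_c38))))))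
theorem f101598 : Led Lsl_gf (LP (LK LD1_c0 LD2_c55 LD3_c0)) = (LP (LK LD1_c1 LD2_c27 LD3_c38)) :=
  Lgr Lrot47 (Lpr_gt (f37042 IH) (Lpe (K1.f40665 IH) (Lpr_ff (f100422 IH) (Lpn (LP (LK LD1_c1 LD2_c27 LD3_c38))))))
theorem f100432 : Led Lsl_ct (LP (LK LD1_c1 LD2_c27 LD3_c38)) = (LP (LK LD1_c3 LD2_c3 LD3_c16)) :=
  Lre_c IH (LK LD1_c1 LD2_c27 LD3_c38) (LK LD1_c3 LD2_c3 LD3_c16) Lrfl Lrfl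
theorem f100426 : Led Lsl_ff (LP (LK LD1_c1 LD2_c55 LD3_c44)) = (LP (LK LD1_c3 LD2_c3 LD3_c16)) :=
  Lgr Lrot3 (Lpr_ft (f99588 IH) (Lpn (LP (LK LD1_c3 LD2_c3 LD3_c16))))
theorem f40056 : Led Lsl_at (LP (LK LD1_c1 LD2_c55 LD3_c44)) = (LP (LK LD1_c0 LD2_c54 LD3_c35)) :=
  Lre_a IH (LK LD1_c1 LD2_c55 LD3_c44) (LK LD1_c0 LD2_c54 LD3_c35) Lrfl Lrfl
theorem f35531 : Led Lsl_gt (LP (LK LD1_c1 LD2_c55 LD3_c43)) = (LP (LK LD1_c0 LD2_c54 LD3_c35)) :=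
  Lre_g IH (LK LD1_c1 LD2_c55 LD3_c43) (LK LD1_c0 LD2_c54 LD3_c35) Lrfl Lrfl
theorem f100435 : Led Lsl_gf (LP (LK LD1_c1 LD2_c55 LD3_c43)) = (LP (LK LD1_c3 LD2_c3 LD3_c16)) :=
  Lgr Lrot47 (Lpr_gt (f35531 IH) (Lpe (f40056 IH) (Lpr_ff (f100426 IH) (Lpn (LP (LK LD1_c3 LD2_c3 LD3_c16))))))
theorem f100437 : Led Lsl_dt (LP (LK LD1_c1 LD2_c55 LD3_c43)) = (LP (LK LD1_c3 LD2_c57 LD3_c55)) :=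
  Lre_d IH (LK LD1_c1 LD2_c55 LD3_c43) (LK LD1_c3 LD2_c57 LD3_c55) Lrfl Lrfl
theorem f37219 : Led Lsl_dt (LP (LK LD1_c3 LD2_c4 LD3_c2)) = (LP (LK LD1_c1 LD2_c28 LD3_c3)) :=
  Lre_d IH (LK LD1_c3 LD2_c4 LD3_c2) (LK LD1_c1 LD2_c28 LD3_c3) Lrfl Lrfl
theorem f112524 : Led Lsl_gt (LP (LK LD1_c3 LD2_c57 LD3_c55)) = (LP (LK LD1_c3 LD2_c4 LD3_c2)) :=
  Lgr Lrot49 (Lpe (f100437 IH) (Lpr_gf (f100435 IH) (Lpe (f100432 IH) (Lpe (f101598 IH) (Lpr_dt (f101600 IH) (Lpr_gt (f112520 IH) (Lpe (K2.f73819 IH) (Lpe (K2.f60850 IH) (Lpe (f37219 IH) (Lpn (LP (LK LD1_c3 LD2_c4 LD3_c2))))))))))))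
theorem f112548 : Led Lsl_bt (LP (LK LD1_c7 LD2_c57 LD3_c8)) = (LP (LK LD1_c3 LD2_c57 LD3_c55)) :=
  Lre_b IH (LK LD1_c7 LD2_c57 LD3_c8) (LK LD1_c3 LD2_c57 LD3_c55) Lrfl Lrfl
theorem f112552 : Led Lsl_ct (LP (LK LD1_c7 LD2_c57 LD3_c8)) = (LP (LK LD1_c14 LD2_c59 LD3_c59)) :=
  Lre_c IH (LK LD1_c7 LD2_c57 LD3_c8) (LK LD1_c14 LD2_c59 LD3_c59) Lrfl Lrfl
theorem f56437 : Led Lsl_bt (LP (LK LD1_c1 LD2_c28 LD3_c4)) = (LP (LK LD1_c3 LD2_c4 LD3_c2)) :=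
  Lre_b IH (LK LD1_c1 LD2_c28 LD3_c4) (LK LD1_c3 LD2_c4 LD3_c2) Lrfl Lrfl
theorem f112554 : Led Lsl_gf (LP (LK LD1_c14 LD2_c59 LD3_c59)) = (LP (LK LD1_c8 LD2_c46 LD3_c4)) :=
  Lgr Lrot129 (Lpe (f112552 IH) (Lpr_bt (f112548 IH) (Lpr_gt (f112524 IH) (Lpe (f56437 IH) (Lpe (K1.f38625 IH) (Lpr_gt (K1.f38266 IH) (Lpr_cf (K1.f35670 IH) (Lpr_bt (K1.f35668 IH) (Lpr_gt (K4.f112412 IH) (Lpr_ct (K4.f59629 IH) (Lpn (LP (LK LD1_c8 LD2_c46 LD3_c4)))))))))))))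
theorem f119006 : Led Lsl_gf (LP (LK LD1_c8 LD2_c46 LD3_c7)) = (LP (LK LD1_c14 LD2_c59 LD3_c59)) :=
  Lgr Lrot76 (Lpr_af (f118951 IH) (Lpe (f113776 IH) (Lpe (f112554 IH) (Lpn (LP (LK LD1_c14 LD2_c59 LD3_c59))))))
theorem f37224 : Led Lsl_at (LP (LK LD1_c6 LD2_c14 LD3_c15)) = (LP (LK LD1_c3 LD2_c4 LD3_c2)) :=
  Lre_a IH (LK LD1_c6 LD2_c14 LD3_c15) (LK LD1_c3 LD2_c4 LD3_c2) Lrfl Lrfl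
theorem f73330 : Led Lsl_at (LP (LK LD1_c2 LD2_c49 LD3_c41)) = (LP (LK LD1_c5 LD2_c47 LD3_c19)) :=
  Lre_a IH (LK LD1_c2 LD2_c49 LD3_c41) (LK LD1_c5 LD2_c47 LD3_c19) Lrfl Lrfl
theorem f73331 : Led Lsl_ff (LP (LK LD1_c6 LD2_c14 LD3_c15)) = (LP (LK LD1_c5 LD2_c47 LD3_c19)) :=
  Lgr Lrot30 (Lpr_at (f37224 IH) (Lpr_ft (K2.f73324 IH) (Lpr_at (f73330 IH) (Lpn (LP (LK LD1_c5 LD2_c47 LD3_c19))))))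
theorem f112541 : Led Lsl_gf (LP (LK LD1_c3 LD2_c57 LD3_c55)) = (LP (LK LD1_c5 LD2_c47 LD3_c19)) :=
  Lgr Lrot47 (Lpr_gt (f112524 IH) (Lpe (f37224 IH) (Lpr_ff (f73331 IH) (Lpn (LP (LK LD1_c5 LD2_c47 LD3_c19))))))
theorem f56597 : Led Lsl_ct (LP (LK LD1_c0 LD2_c37 LD3_c16)) = (LP (LK LD1_c1 LD2_c20 LD3_c34)) :=
  Lre_c IH (LK LD1_c0 LD2_c37 LD3_c16) (LK LD1_c1 LD2_c20 LD3_c34) Lrfl Lrfl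
theorem f60254 : Led Lsl_dt (LP (LK LD1_c2 LD2_c48 LD3_c58)) = (LP (LK LD1_c1 LD2_c20 LD3_c34)) :=
  Lre_d IH (LK LD1_c2 LD2_c48 LD3_c58) (LK LD1_c1 LD2_c20 LD3_c34) Lrfl Lrfl
theorem f57103 : Led Lsl_dt (LP (LK LD1_c0 LD2_c29 LD3_c40)) = (LP (LK LD1_c1 LD2_c4 LD3_c58)) :=
  Lre_d IH (LK LD1_c0 LD2_c29 LD3_c40) (LK LD1_c1 LD2_c4 LD3_c58) Lrfl Lrfl
theorem f57102 : Led Lsl_gt (LP (LK LD1_c1 LD2_c4 LD3_c49)) = (LP (LK LD1_c0 LD2_c29 LD3_c40)) :=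
  Lre_g IH (LK LD1_c1 LD2_c4 LD3_c49) (LK LD1_c0 LD2_c29 LD3_c40) Lrfl Lrfl
theorem f80209 : Led Lsl_ct (LP (LK LD1_c2 LD2_c10 LD3_c10)) = (LP (LK LD1_c1 LD2_c4 LD3_c49)) :=
  Lre_c IH (LK LD1_c2 LD2_c10 LD3_c10) (LK LD1_c1 LD2_c4 LD3_c49) Lrfl Lrfl
theorem f99601 : Led Lsl_gt (LP (LK LD1_c2 LD2_c10 LD3_c10)) = (LP (LK LD1_c1 LD2_c2 LD3_c12)) :=
  Lre_g IH (LK LD1_c2 LD2_c10 LD3_c10) (LK LD1_c1 LD2_c2 LD3_c12) Lrfl Lrfl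
theorem f99658 : Led Lsl_dt (LP (LK LD1_c1 LD2_c2 LD3_c12)) = (LP (LK LD1_c2 LD2_c10 LD3_c19)) :=
  Lre_d IH (LK LD1_c1 LD2_c2 LD3_c12) (LK LD1_c2 LD2_c10 LD3_c19) Lrfl Lrfl
theorem f99659 : Led Lsl_gf (LP (LK LD1_c2 LD2_c48 LD3_c58)) = (LP (LK LD1_c2 LD2_c10 LD3_c19)) :=
  Lgr Lrot143 (Lpr_dt (f60254 IH) (Lpe (f56597 IH) (Lpr_df (K4.f73004 IH) (Lpr_gf (K4.f99651 IH) (Lpe (f57103 IH) (Lpe (f57102 IH) (Lpe (f80209 IH) (Lpr_gt (f99601 IH) (Lpr_dt (f99658 IH) (Lpn (LP (LK LD1_c2 LD2_c10 LD3_c19))))))))))))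
theorem f60264 : Led Lsl_ct (LP (LK LD1_c2 LD2_c48 LD3_c58)) = (LP (LK LD1_c5 LD2_c46 LD3_c26)) :=
  Lre_c IH (LK LD1_c2 LD2_c48 LD3_c58) (LK LD1_c5 LD2_c46 LD3_c26) Lrfl Lrfl
theorem f26590 : Led Lsl_gt (LP (LK LD1_c1 LD2_c2 LD3_c12)) = (LP (LK LD1_c0 LD2_c28 LD3_c23)) :=
  Lre_g IH (LK LD1_c1 LD2_c2 LD3_c12) (LK LD1_c0 LD2_c28 LD3_c23) Lrfl Lrfl
theorem f99736 : Led Lsl_dt (LP (LK LD1_c2 LD2_c15 LD3_c42)) = (LP (LK LD1_c1 LD2_c4 LD3_c52)) :=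
  Lre_d IH (LK LD1_c2 LD2_c15 LD3_c42) (LK LD1_c1 LD2_c4 LD3_c52) Lrfl Lrfl
theorem f99737 : Led Lsl_ct (LP (LK LD1_c4 LD2_c36 LD3_c60)) = (LP (LK LD1_c2 LD2_c15 LD3_c42)) :=
  Lre_c IH (LK LD1_c4 LD2_c36 LD3_c60) (LK LD1_c2 LD2_c15 LD3_c42) Lrfl Lrfl
theorem f99738 : Led Lsl_gt (LP (LK LD1_c5 LD2_c46 LD3_c26)) = (LP (LK LD1_c4 LD2_c36 LD3_c60)) :=
  Lgr Lrot150 (Lpe (f60264 IH) (Lpr_gf (f99659 IH) (Lpe (f99658 IH) (Lpr_gt (f26590 IH) (Lpr_ct (K2.f27174 IH) (Lpr_gt (f25135 IH) (Lpr_ct (f20416 IH) (Lpe (f99736 IH) (Lpe (f99737 IH) (Lpn (LP (LK LD1_c4 LD2_c36 LD3_c60))))))))))))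
theorem f60326 : Led Lsl_bt (LP (LK LD1_c5 LD2_c46 LD3_c35)) = (LP (LK LD1_c11 LD2_c23 LD3_c8)) :=
  Lre_b IH (LK LD1_c5 LD2_c46 LD3_c35) (LK LD1_c11 LD2_c23 LD3_c8) Lrfl Lrfl
theorem f60327 : Led Lsl_ef (LP (LK LD1_c9 LD2_c14 LD3_c51)) = (LP (LK LD1_c11 LD2_c23 LD3_c8)) :=
  Lgr Lrot29 (Lpr_bt (K2.f56142 IH) (Lpr_et (K1.f60320 IH) (Lpr_bt (f60326 IH) (Lpn (LP (LK LD1_c11 LD2_c23 LD3_c8))))))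
theorem f56145 : Led Lsl_ct (LP (LK LD1_c9 LD2_c14 LD3_c51)) = (LP (LK LD1_c17 LD2_c9 LD3_c7)) :=
  Lre_c IH (LK LD1_c9 LD2_c14 LD3_c51) (LK LD1_c17 LD2_c9 LD3_c7) Lrfl Lrfl
theorem f60333 : Led Lsl_ct (LP (LK LD1_c20 LD2_c20 LD3_c50)) = (LP (LK LD1_c11 LD2_c23 LD3_c8)) :=
  Lre_c IH (LK LD1_c20 LD2_c20 LD3_c50) (LK LD1_c11 LD2_c23 LD3_c8) Lrfl Lrfl
theorem f60334 : Led Lsl_et (LP (LK LD1_c17 LD2_c9 LD3_c7)) = (LP (LK LD1_c20 LD2_c20 LD3_c50)) :=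
  Lgr Lrot158 (Lpe (f56145 IH) (Lpr_ef (f60327 IH) (Lpe (f60333 IH) (Lpn (LP (LK LD1_c20 LD2_c20 LD3_c50))))))
theorem f60340 : Led Lsl_ft (LP (LK LD1_c9 LD2_c14 LD3_c48)) = (LP (LK LD1_c17 LD2_c9 LD3_c7)) :=
  Lre_f IH (LK LD1_c9 LD2_c14 LD3_c48) (LK LD1_c17 LD2_c9 LD3_c7) Lrfl Lrfl
theorem f60341 : Led Lsl_et (LP (LK LD1_c4 LD2_c39 LD3_c36)) = (LP (LK LD1_c9 LD2_c14 LD3_c48)) :=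
  Lre_e IH (LK LD1_c4 LD2_c39 LD3_c36) (LK LD1_c9 LD2_c14 LD3_c48) Lrfl Lrfl
theorem f60342 : Led Lsl_ft (LP (LK LD1_c20 LD2_c20 LD3_c50)) = (LP (LK LD1_c11 LD2_c23 LD3_c4)) :=
  Lre_f IH (LK LD1_c20 LD2_c20 LD3_c50) (LK LD1_c11 LD2_c23 LD3_c4) Lrfl Lrfl
theorem f60343 : Led Lsl_et (LP (LK LD1_c11 LD2_c23 LD3_c4)) = (LP (LK LD1_c5 LD2_c46 LD3_c26)) :=
  Lre_e IH (LK LD1_c11 LD2_c23 LD3_c4) (LK LD1_c5 LD2_c46 LD3_c26) Lrfl Lrfl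
theorem f60344 : Led Lsl_ff (LP (LK LD1_c4 LD2_c39 LD3_c36)) = (LP (LK LD1_c5 LD2_c46 LD3_c26)) :=
  Lgr Lrot72 (Lpr_et (f60341 IH) (Lpr_ft (f60340 IH) (Lpr_et (f60334 IH) (Lpr_ft (f60342 IH) (Lpr_et (f60343 IH) (Lpn (LP (LK LD1_c5 LD2_c46 LD3_c26))))))))
theorem f99777 : Led Lsl_gt (LP (LK LD1_c4 LD2_c36 LD3_c60)) = (LP (LK LD1_c8 LD2_c49 LD3_c5)) :=
  Lre_g IH (LK LD1_c4 LD2_c36 LD3_c60) (LK LD1_c8 LD2_c49 LD3_c5) Lrfl Lrfl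
theorem f99778 : Led Lsl_at (LP (LK LD1_c4 LD2_c39 LD3_c36)) = (LP (LK LD1_c8 LD2_c49 LD3_c5)) :=
  Lgr Lrot26 (Lpr_ff (f60344 IH) (Lpr_gt (f99738 IH) (Lpr_gt (f99777 IH) (Lpn (LP (LK LD1_c8 LD2_c49 LD3_c5))))))
theorem f60346 : Led Lsl_at (LP (LK LD1_c11 LD2_c23 LD3_c2)) = (LP (LK LD1_c5 LD2_c46 LD3_c26)) :=
  Lre_a IH (LK LD1_c11 LD2_c23 LD3_c2) (LK LD1_c5 LD2_c46 LD3_c26) Lrfl Lrfl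
theorem f99793 : Led Lsl_ff (LP (LK LD1_c11 LD2_c23 LD3_c2)) = (LP (LK LD1_c8 LD2_c49 LD3_c5)) :=
  Lgr Lrot30 (Lpr_at (f60346 IH) (Lpe (f60344 IH) (Lpr_at (f99778 IH) (Lpn (LP (LK LD1_c8 LD2_c49 LD3_c5))))))
theorem f60263 : Led Lsl_dt (LP (LK LD1_c1 LD2_c20 LD3_c34)) = (LP (LK LD1_c2 LD2_c48 LD3_c58)) :=
  Lre_d IH (LK LD1_c1 LD2_c20 LD3_c34) (LK LD1_c2 LD2_c48 LD3_c58) Lrfl Lrfl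
theorem f27158 : Led Lsl_dt (LP (LK LD1_c3 LD2_c2 LD3_c6)) = (LP (LK LD1_c1 LD2_c27 LD3_c3)) :=
  Lre_d IH (LK LD1_c3 LD2_c2 LD3_c6) (LK LD1_c1 LD2_c27 LD3_c3) Lrfl Lrfl
theorem f63514 : Led Lsl_ct (LP (LK LD1_c6 LD2_c10 LD3_c57)) = (LP (LK LD1_c3 LD2_c2 LD3_c6)) :=
  Lre_c IH (LK LD1_c6 LD2_c10 LD3_c57) (LK LD1_c3 LD2_c2 LD3_c6) Lrfl Lrfl
theorem f99806 : Led Lsl_df (LP (LK LD1_c6 LD2_c10 LD3_c57)) = (LP (LK LD1_c8 LD2_c49 LD3_c5)) :=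
  Lgr Lrot157 (Lpr_ct (f63514 IH) (Lpr_dt (f27158 IH) (Lpr_ct (K4.f27157 IH) (Lpe (K4.f73004 IH) (Lpr_ct (f56597 IH) (Lpr_dt (f60263 IH) (Lpr_ct (f60264 IH) (Lpe (f60346 IH) (Lpr_ff (f99793 IH) (Lpn (LP (LK LD1_c8 LD2_c49 LD3_c5))))))))))))
theorem f75526 : Led Lsl_dt (LP (LK LD1_c0 LD2_c38 LD3_c48)) = (LP (LK LD1_c0 LD2_c39 LD3_c44)) :=
  Lgr Lrot42 (Lpr_df (K4.f75506 IH) (Lpn (LP (LK LD1_c0 LD2_c39 LD3_c44))))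
theorem f75863 : Led Lsl_et (LP (LK LD1_c0 LD2_c38 LD3_c51)) = (LP (LK LD1_c0 LD2_c17 LD3_c14)) :=
  Lre_e IH (LK LD1_c0 LD2_c38 LD3_c51) (LK LD1_c0 LD2_c17 LD3_c14) Lrfl Lrfl
theorem f75864 : Led Lsl_dt (LP (LK LD1_c0 LD2_c38 LD3_c51)) = (LP (LK LD1_c1 LD2_c20 LD3_c20)) :=
  Lre_d IH (LK LD1_c0 LD2_c38 LD3_c51) (LK LD1_c1 LD2_c20 LD3_c20) Lrfl Lrfl
theorem f75865 : Led Lsl_gt (LP (LK LD1_c2 LD2_c48 LD3_c16)) = (LP (LK LD1_c1 LD2_c20 LD3_c20)) :=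
  Lre_g IH (LK LD1_c2 LD2_c48 LD3_c16) (LK LD1_c1 LD2_c20 LD3_c20) Lrfl Lrfl
theorem f75866 : Led Lsl_dt (LP (LK LD1_c5 LD2_c44 LD3_c58)) = (LP (LK LD1_c2 LD2_c48 LD3_c16)) :=
  Lre_d IH (LK LD1_c5 LD2_c44 LD3_c58) (LK LD1_c2 LD2_c48 LD3_c16) Lrfl Lrfl
theorem f72841 : Led Lsl_dt (LP (LK LD1_c2 LD2_c17 LD3_c28)) = (LP (LK LD1_c1 LD2_c25 LD3_c61)) :=
  Lre_d IH (LK LD1_c2 LD2_c17 LD3_c28) (LK LD1_c1 LD2_c25 LD3_c61) Lrfl Lrfl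
theorem f75067 : Led Lsl_et (LP (LK LD1_c2 LD2_c17 LD3_c28)) = (LP (LK LD1_c4 LD2_c40 LD3_c50)) :=
  Lre_e IH (LK LD1_c2 LD2_c17 LD3_c28) (LK LD1_c4 LD2_c40 LD3_c50) Lrfl Lrfl
theorem f75867 : Led Lsl_gt (LP (LK LD1_c4 LD2_c40 LD3_c50)) = (LP (LK LD1_c9 LD2_c17 LD3_c4)) :=
  Lre_g IH (LK LD1_c4 LD2_c40 LD3_c50) (LK LD1_c9 LD2_c17 LD3_c4) Lrfl Lrfl
theorem f75868 : Led Lsl_et (LP (LK LD1_c5 LD2_c44 LD3_c58)) = (LP (LK LD1_c9 LD2_c17 LD3_c4)) :=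
  Lgr Lrot122 (Lpr_dt (f75866 IH) (Lpr_gt (f75865 IH) (Lpe (f75864 IH) (Lpr_et (f75863 IH) (Lpr_gt (K0.f23682 IH) (Lpr_dt (f75526 IH) (Lpr_gt (K4.f72887 IH) (Lpe (f72841 IH) (Lpr_et (f75067 IH) (Lpr_gt (f75867 IH) (Lpn (LP (LK LD1_c9 LD2_c17 LD3_c4)))))))))))))
theorem f75882 : Led Lsl_gt (LP (LK LD1_c5 LD2_c44 LD3_c9)) = (LP (LK LD1_c2 LD2_c48 LD3_c16)) :=
  Lre_g IH (LK LD1_c5 LD2_c44 LD3_c9) (LK LD1_c2 LD2_c48 LD3_c16) Lrfl Lrfl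
theorem f75883 : Led Lsl_dt (LP (LK LD1_c2 LD2_c56 LD3_c7)) = (LP (LK LD1_c5 LD2_c44 LD3_c9)) :=
  Lre_d IH (LK LD1_c2 LD2_c56 LD3_c7) (LK LD1_c5 LD2_c44 LD3_c9) Lrfl Lrfl
theorem f75884 : Led Lsl_gt (LP (LK LD1_c1 LD2_c24 LD3_c9)) = (LP (LK LD1_c2 LD2_c56 LD3_c7)) :=
  Lre_g IH (LK LD1_c1 LD2_c24 LD3_c9) (LK LD1_c2 LD2_c56 LD3_c7) Lrfl Lrfl
theorem f75885 : Led Lsl_et (LP (LK LD1_c2 LD2_c56 LD3_c49)) = (LP (LK LD1_c1 LD2_c24 LD3_c9)) :=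
  Lre_e IH (LK LD1_c2 LD2_c56 LD3_c49) (LK LD1_c1 LD2_c24 LD3_c9) Lrfl Lrfl
theorem f75886 : Led Lsl_dt (LP (LK LD1_c2 LD2_c56 LD3_c49)) = (LP (LK LD1_c6 LD2_c1 LD3_c14)) :=
  Lre_d IH (LK LD1_c2 LD2_c56 LD3_c49) (LK LD1_c6 LD2_c1 LD3_c14) Lrfl Lrfl
theorem f75887 : Led Lsl_gt (LP (LK LD1_c9 LD2_c17 LD3_c4)) = (LP (LK LD1_c4 LD2_c40 LD3_c54)) :=
  Lre_g IH (LK LD1_c9 LD2_c17 LD3_c4) (LK LD1_c4 LD2_c40 LD3_c54) Lrfl Lrfl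
theorem f75888 : Led Lsl_et (LP (LK LD1_c3 LD2_c0 LD3_c42)) = (LP (LK LD1_c4 LD2_c40 LD3_c54)) :=
  Lre_e IH (LK LD1_c3 LD2_c0 LD3_c42) (LK LD1_c4 LD2_c40 LD3_c54) Lrfl Lrfl
theorem f74870 : Led Lsl_dt (LP (LK LD1_c3 LD2_c0 LD3_c42)) = (LP (LK LD1_c6 LD2_c8 LD3_c9)) :=
  Lre_d IH (LK LD1_c3 LD2_c0 LD3_c42) (LK LD1_c6 LD2_c8 LD3_c9) Lrfl Lrfl
theorem f75889 : Led Lsl_gf (LP (LK LD1_c6 LD2_c1 LD3_c14)) = (LP (LK LD1_c6 LD2_c8 LD3_c9)) :=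
  Lgr Lrot145 (Lpe (f75886 IH) (Lpr_et (f75885 IH) (Lpr_gt (f75884 IH) (Lpr_dt (f75883 IH) (Lpr_gt (f75882 IH) (Lpe (f75866 IH) (Lpr_et (f75868 IH) (Lpr_gt (f75887 IH) (Lpe (f75888 IH) (Lpr_dt (f74870 IH) (Lpn (LP (LK LD1_c6 LD2_c8 LD3_c9)))))))))))))
theorem f75931 : Led Lsl_gt (LP (LK LD1_c6 LD2_c1 LD3_c14)) = (LP (LK LD1_c5 LD2_c58 LD3_c9)) :=
  Lre_g IH (LK LD1_c6 LD2_c1 LD3_c14) (LK LD1_c5 LD2_c58 LD3_c9) Lrfl Lrfl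
theorem f75932 : Led Lsl_ft (LP (LK LD1_c6 LD2_c8 LD3_c9)) = (LP (LK LD1_c3 LD2_c0 LD3_c16)) :=
  Lre_f IH (LK LD1_c6 LD2_c8 LD3_c9) (LK LD1_c3 LD2_c0 LD3_c16) Lrfl Lrfl
theorem f75933 : Led Lsl_af (LP (LK LD1_c5 LD2_c58 LD3_c9)) = (LP (LK LD1_c3 LD2_c0 LD3_c16)) :=
  Lgr Lrot31 (Lpe (f75931 IH) (Lpr_gf (f75889 IH) (Lpr_ft (f75932 IH) (Lpn (LP (LK LD1_c3 LD2_c0 LD3_c16))))))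
theorem f75952 : Led Lsl_et (LP (LK LD1_c1 LD2_c25 LD3_c53)) = (LP (LK LD1_c3 LD2_c0 LD3_c16)) :=
  Lre_e IH (LK LD1_c1 LD2_c25 LD3_c53) (LK LD1_c3 LD2_c0 LD3_c16) Lrfl Lrfl
theorem f75953 : Led Lsl_at (LP (LK LD1_c3 LD2_c0 LD3_c13)) = (LP (LK LD1_c1 LD2_c25 LD3_c53)) :=
  Lre_a IH (LK LD1_c3 LD2_c0 LD3_c13) (LK LD1_c1 LD2_c25 LD3_c53) Lrfl Lrfl
theorem f75954 : Led Lsl_et (LP (LK LD1_c5 LD2_c58 LD3_c9)) = (LP (LK LD1_c3 LD2_c0 LD3_c13)) :=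
  Lgr Lrot123 (Lpr_af (f75933 IH) (Lpe (f75952 IH) (Lpe (f75953 IH) (Lpn (LP (LK LD1_c3 LD2_c0 LD3_c13))))))
theorem f75957 : Led Lsl_dt (LP (LK LD1_c2 LD2_c55 LD3_c27)) = (LP (LK LD1_c5 LD2_c58 LD3_c9)) :=
  Lre_d IH (LK LD1_c2 LD2_c55 LD3_c27) (LK LD1_c5 LD2_c58 LD3_c9) Lrfl Lrfl
theorem f56283 : Led Lsl_dt (LP (LK LD1_c3 LD2_c0 LD3_c13)) = (LP (LK LD1_c1 LD2_c25 LD3_c52)) :=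
  Lre_d IH (LK LD1_c3 LD2_c0 LD3_c13) (LK LD1_c1 LD2_c25 LD3_c52) Lrfl Lrfl
theorem f75958 : Led Lsl_et (LP (LK LD1_c1 LD2_c25 LD3_c52)) = (LP (LK LD1_c0 LD2_c39 LD3_c46)) :=
  Lre_e IH (LK LD1_c1 LD2_c25 LD3_c52) (LK LD1_c0 LD2_c39 LD3_c46) Lrfl Lrfl
theorem f75959 : Led Lsl_df (LP (LK LD1_c1 LD2_c23 LD3_c40)) = (LP (LK LD1_c0 LD2_c39 LD3_c46)) :=
  Lgr Lrot70 (Lpr_et (K2.f74784 IH) (Lpr_dt (f75957 IH) (Lpr_et (f75954 IH) (Lpr_dt (f56283 IH) (Lpr_et (f75958 IH) (Lpn (LP (LK LD1_c0 LD2_c39 LD3_c46))))))))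
theorem f99624 : Led Lsl_df (LP (LK LD1_c1 LD2_c5 LD3_c27)) = (LP (LK LD1_c2 LD2_c15 LD3_c45)) :=
  Lgr Lrot12 (Lpr_bt (K2.f60266 IH) (Lpe (f75959 IH) (Lpr_bt (K4.f99614 IH) (Lpn (LP (LK LD1_c2 LD2_c15 LD3_c45))))))
theorem f56296 : Led Lsl_ct (LP (LK LD1_c1 LD2_c5 LD3_c27)) = (LP (LK LD1_c2 LD2_c16 LD3_c49)) :=
  Lre_c IH (LK LD1_c1 LD2_c5 LD3_c27) (LK LD1_c2 LD2_c16 LD3_c49) Lrfl Lrfl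
theorem f99795 : Led Lsl_ct (LP (LK LD1_c4 LD2_c25 LD3_c51)) = (LP (LK LD1_c8 LD2_c49 LD3_c5)) :=
  Lre_c IH (LK LD1_c4 LD2_c25 LD3_c51) (LK LD1_c8 LD2_c49 LD3_c5) Lrfl Lrfl
theorem f99811 : Led Lsl_dt (LP (LK LD1_c2 LD2_c16 LD3_c49)) = (LP (LK LD1_c4 LD2_c25 LD3_c51)) :=
  Lgr Lrot32 (Lpe (f56296 IH) (Lpr_df (f99624 IH) (Lpe (K4.f99629 IH) (Lpr_at (K4.f73003 IH) (Lpe (K4.f27157 IH) (Lpe (f27158 IH) (Lpe (f63514 IH) (Lpr_df (f99806 IH) (Lpe (f99795 IH) (Lpn (LP (LK LD1_c4 LD2_c25 LD3_c51))))))))))))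
theorem f73391 : Led Lsl_dt (LP (LK LD1_c5 LD2_c47 LD3_c19)) = (LP (LK LD1_c2 LD2_c49 LD3_c37)) :=
  Lre_d IH (LK LD1_c5 LD2_c47 LD3_c19) (LK LD1_c2 LD2_c49 LD3_c37) Lrfl Lrfl
theorem f99818 : Led Lsl_bf (LP (LK LD1_c5 LD2_c47 LD3_c19)) = (LP (LK LD1_c4 LD2_c25 LD3_c51)) :=
  Lgr Lrot93 (Lpr_dt (f73391 IH) (Lpe (K2.f73396 IH) (Lpr_dt (f99811 IH) (Lpn (LP (LK LD1_c4 LD2_c25 LD3_c51))))))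
theorem f99743 : Led Lsl_ct (LP (LK LD1_c2 LD2_c15 LD3_c42)) = (LP (LK LD1_c4 LD2_c36 LD3_c60)) :=
  Lre_c IH (LK LD1_c2 LD2_c15 LD3_c42) (LK LD1_c4 LD2_c36 LD3_c60) Lrfl Lrfl
theorem f99826 : Led Lsl_gt (LP (LK LD1_c4 LD2_c36 LD3_c59)) = (LP (LK LD1_c2 LD2_c15 LD3_c42)) :=
  Lre_g IH (LK LD1_c4 LD2_c36 LD3_c59) (LK LD1_c2 LD2_c15 LD3_c42) Lrfl Lrfl
theorem f119008 : Led Lsl_bt (LP (LK LD1_c4 LD2_c24 LD3_c15)) = (LP (LK LD1_c4 LD2_c36 LD3_c59)) :=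
  Lgr Lrot130 (Lpr_ct (f80694 IH) (Lpr_gf (f119006 IH) (Lpe (f112552 IH) (Lpr_bt (f112548 IH) (Lpr_gf (f112541 IH) (Lpr_bf (f99818 IH) (Lpr_ct (f99795 IH) (Lpe (f99777 IH) (Lpe (f99743 IH) (Lpe (f99826 IH) (Lpn (LP (LK LD1_c4 LD2_c36 LD3_c59)))))))))))))
theorem f119013 : Led Lsl_df (LP (LK LD1_c4 LD2_c24 LD3_c14)) = (LP (LK LD1_c4 LD2_c36 LD3_c59)) :=
  Lgr Lrot12 (Lpr_bt (f59361 IH) (Lpr_dt (f80693 IH) (Lpr_bt (f119008 IH) (Lpn (LP (LK LD1_c4 LD2_c36 LD3_c59))))))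
theorem f119039 : Led Lsl_dt (LP (LK LD1_c4 LD2_c24 LD3_c14)) = (LP (LK LD1_c4 LD2_c36 LD3_c59)) :=
  Lgr Lrot42 (Lpr_df (f119013 IH) (Lpn (LP (LK LD1_c4 LD2_c36 LD3_c59))))
theorem f99946 : Led Lsl_dt (LP (LK LD1_c1 LD2_c4 LD3_c53)) = (LP (LK LD1_c0 LD2_c29 LD3_c39)) :=
  Lre_d IH (LK LD1_c1 LD2_c4 LD3_c53) (LK LD1_c0 LD2_c29 LD3_c39) Lrfl Lrfl
theorem f23038 : Led Lsl_bt (LP (LK LD1_c0 LD2_c40 LD3_c23)) = (LP (LK LD1_c0 LD2_c18 LD3_c4)) :=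
  Lre_b IH (LK LD1_c0 LD2_c40 LD3_c23) (LK LD1_c0 LD2_c18 LD3_c4) Lrfl Lrfl
theorem f59874 : Led Lsl_bt (LP (LK LD1_c0 LD2_c16 LD3_c37)) = (LP (LK LD1_c0 LD2_c37 LD3_c16)) :=
  Lre_b IH (LK LD1_c0 LD2_c16 LD3_c37) (LK LD1_c0 LD2_c37 LD3_c16) Lrfl Lrfl
theorem f59875 : Led Lsl_df (LP (LK LD1_c0 LD2_c40 LD3_c23)) = (LP (LK LD1_c0 LD2_c37 LD3_c16)) :=
  Lgr Lrot12 (Lpr_bt (f23038 IH) (Lpr_dt (K1.f59817 IH) (Lpr_bt (f59874 IH) (Lpn (LP (LK LD1_c0 LD2_c37 LD3_c16))))))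
theorem f56599 : Led Lsl_gt (LP (LK LD1_c1 LD2_c20 LD3_c41)) = (LP (LK LD1_c0 LD2_c37 LD3_c16)) :=
  Lre_g IH (LK LD1_c1 LD2_c20 LD3_c41) (LK LD1_c0 LD2_c37 LD3_c16) Lrfl Lrfl
theorem f56600 : Led Lsl_ct (LP (LK LD1_c2 LD2_c49 LD3_c6)) = (LP (LK LD1_c1 LD2_c20 LD3_c41)) :=
  Lre_c IH (LK LD1_c2 LD2_c49 LD3_c6) (LK LD1_c1 LD2_c20 LD3_c41) Lrfl Lrfl
theorem f119045 : Led Lsl_gf (LP (LK LD1_c4 LD2_c24 LD3_c14)) = (LP (LK LD1_c2 LD2_c49 LD3_c6)) :=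
  Lgr Lrot144 (Lpr_dt (f119039 IH) (Lpr_gt (f99826 IH) (Lpr_dt (f99736 IH) (Lpe (f20416 IH) (Lpe (f99946 IH) (Lpe (K4.f99655 IH) (Lpr_df (f59875 IH) (Lpe (f56599 IH) (Lpe (f56600 IH) (Lpn (LP (LK LD1_c2 LD2_c49 LD3_c6))))))))))))
theorem f132574 : Led Lsl_gt (LP (LK LD1_c2 LD2_c49 LD3_c59)) = (LP (LK LD1_c2 LD2_c49 LD3_c6)) :=
  Lgr Lrot5 (Lpr_ft (f132502 IH) (Lpr_at (f132570 IH) (Lpr_gf (f119045 IH) (Lpn (LP (LK LD1_c2 LD2_c49 LD3_c6))))))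
theorem f56598 : Led Lsl_ct (LP (LK LD1_c1 LD2_c20 LD3_c34)) = (LP (LK LD1_c0 LD2_c37 LD3_c16)) :=
  Lre_c IH (LK LD1_c1 LD2_c20 LD3_c34) (LK LD1_c0 LD2_c37 LD3_c16) Lrfl Lrfl
theorem f56596 : Led Lsl_bt (LP (LK LD1_c1 LD2_c20 LD3_c34)) = (LP (LK LD1_c0 LD2_c37 LD3_c14)) :=
  Lre_b IH (LK LD1_c1 LD2_c20 LD3_c34) (LK LD1_c0 LD2_c37 LD3_c14) Lrfl Lrfl
theorem f56601 : Led Lsl_bt (LP (LK LD1_c1 LD2_c6 LD3_c23)) = (LP (LK LD1_c0 LD2_c30 LD3_c23)) :=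
  Lre_b IH (LK LD1_c1 LD2_c6 LD3_c23) (LK LD1_c0 LD2_c30 LD3_c23) Lrfl Lrfl
theorem f27050 : Led Lsl_ct (LP (LK LD1_c1 LD2_c6 LD3_c23)) = (LP (LK LD1_c0 LD2_c30 LD3_c25)) :=
  Lre_c IH (LK LD1_c1 LD2_c6 LD3_c23) (LK LD1_c0 LD2_c30 LD3_c25) Lrfl Lrfl
theorem f56603 : Led Lsl_ct (LP (LK LD1_c2 LD2_c18 LD3_c53)) = (LP (LK LD1_c1 LD2_c6 LD3_c29)) :=
  Lre_c IH (LK LD1_c2 LD2_c18 LD3_c53) (LK LD1_c1 LD2_c6 LD3_c29) Lrfl Lrfl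
theorem f132580 : Led Lsl_bf (LP (LK LD1_c2 LD2_c49 LD3_c59)) = (LP (LK LD1_c2 LD2_c18 LD3_c53)) :=
  Lgr Lrot165 (Lpr_gt (f132574 IH) (Lpr_ct (f56600 IH) (Lpr_gt (f56599 IH) (Lpe (f56598 IH) (Lpr_bt (f56596 IH) (Lpe (K1.f56591 IH) (Lpe (f56601 IH) (Lpr_ct (f27050 IH) (Lpr_gt (K4.f56602 IH) (Lpe (f56603 IH) (Lpn (LP (LK LD1_c2 LD2_c18 LD3_c53)))))))))))))
theorem f80257 : Led Lsl_bt (LP (LK LD1_c3 LD2_c4 LD3_c56)) = (LP (LK LD1_c1 LD2_c28 LD3_c32)) :=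
  Lre_b IH (LK LD1_c3 LD2_c4 LD3_c56) (LK LD1_c1 LD2_c28 LD3_c32) Lrfl Lrfl
theorem f132595 : Led Lsl_ft (LP (LK LD1_c1 LD2_c28 LD3_c32)) = (LP (LK LD1_c2 LD2_c18 LD3_c53)) :=
  Lgr Lrot75 (Lpe (f80257 IH) (Lpe (f132502 IH) (Lpr_bf (f132580 IH) (Lpn (LP (LK LD1_c2 LD2_c18 LD3_c53))))))
theorem f58965 : Led Lsl_gt (LP (LK LD1_c1 LD2_c28 LD3_c32)) = (LP (LK LD1_c3 LD2_c4 LD3_c54)) :=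
  Lre_g IH (LK LD1_c1 LD2_c28 LD3_c32) (LK LD1_c3 LD2_c4 LD3_c54) Lrfl Lrfl
theorem f79927 : Led Lsl_bt (LP (LK LD1_c1 LD2_c28 LD3_c24)) = (LP (LK LD1_c2 LD2_c58 LD3_c19)) :=
  Lgr Lrot127 (Lpr_bf (K4.f79925 IH) (Lpn (LP (LK LD1_c2 LD2_c58 LD3_c19))))
theorem f60869 : Led Lsl_ct (LP (LK LD1_c3 LD2_c4 LD3_c42)) = (LP (LK LD1_c1 LD2_c28 LD3_c24)) :=
  Lre_c IH (LK LD1_c3 LD2_c4 LD3_c42) (LK LD1_c1 LD2_c28 LD3_c24) Lrfl Lrfl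
theorem f76083 : Led Lsl_bt (LP (LK LD1_c1 LD2_c24 LD3_c49)) = (LP (LK LD1_c2 LD2_c58 LD3_c18)) :=
  Lre_b IH (LK LD1_c1 LD2_c24 LD3_c49) (LK LD1_c2 LD2_c58 LD3_c18) Lrfl Lrfl
theorem f58963 : Led Lsl_bt (LP (LK LD1_c2 LD2_c58 LD3_c18)) = (LP (LK LD1_c1 LD2_c24 LD3_c49)) :=
  Lre_b IH (LK LD1_c2 LD2_c58 LD3_c18) (LK LD1_c1 LD2_c24 LD3_c49) Lrfl Lrfl
theorem f58966 : Led Lsl_ct (LP (LK LD1_c2 LD2_c58 LD3_c18)) = (LP (LK LD1_c3 LD2_c4 LD3_c54)) :=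
  Lgr Lrot63 (Lpr_bt (f58963 IH) (Lpr_gt (K4.f56022 IH) (Lpe (K1.f56029 IH) (Lpr_ct (K1.f195 IH) (Lpr_gt (K1.f58941 IH) (Lpe (K1.f7121 IH) (Lpr_bt (K4.f58960 IH) (Lpr_gt (K4.f58961 IH) (Lpr_ct (f58964 IH) (Lpr_gt (f58965 IH) (Lpn (LP (LK LD1_c3 LD2_c4 LD3_c54)))))))))))))
theorem f80248 : Led Lsl_bf (LP (LK LD1_c3 LD2_c4 LD3_c42)) = (LP (LK LD1_c3 LD2_c4 LD3_c54)) :=
  Lgr Lrot90 (Lpr_ct (f60869 IH) (Lpr_bt (f79927 IH) (Lpr_ct (K4.f76096 IH) (Lpr_bt (f76083 IH) (Lpr_ct (f58966 IH) (Lpn (LP (LK LD1_c3 LD2_c4 LD3_c54))))))))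
theorem f80252 : Led Lsl_bt (LP (LK LD1_c3 LD2_c4 LD3_c42)) = (LP (LK LD1_c3 LD2_c4 LD3_c54)) :=
  Lgr Lrot127 (Lpr_bf (f80248 IH) (Lpn (LP (LK LD1_c3 LD2_c4 LD3_c54))))
theorem f56493 : Led Lsl_bt (LP (LK LD1_c1 LD2_c28 LD3_c3)) = (LP (LK LD1_c0 LD2_c40 LD3_c44)) :=
  Lre_b IH (LK LD1_c1 LD2_c28 LD3_c3) (LK LD1_c0 LD2_c40 LD3_c44) Lrfl Lrfl
theorem f59363 : Led Lsl_bt (LP (LK LD1_c0 LD2_c40 LD3_c45)) = (LP (LK LD1_c0 LD2_c18 LD3_c15)) :=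
  Lre_b IH (LK LD1_c0 LD2_c40 LD3_c45) (LK LD1_c0 LD2_c18 LD3_c15) Lrfl Lrfl
theorem f60870 : Led Lsl_gt (LP (LK LD1_c0 LD2_c40 LD3_c58)) = (LP (LK LD1_c0 LD2_c18 LD3_c20)) :=
  Lre_g IH (LK LD1_c0 LD2_c40 LD3_c58) (LK LD1_c0 LD2_c18 LD3_c20) Lrfl Lrfl
theorem f60871 : Led Lsl_ct (LP (LK LD1_c1 LD2_c28 LD3_c36)) = (LP (LK LD1_c0 LD2_c40 LD3_c58)) :=
  Lre_c IH (LK LD1_c1 LD2_c28 LD3_c36) (LK LD1_c0 LD2_c40 LD3_c58) Lrfl Lrfl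
theorem f80258 : Led Lsl_gf (LP (LK LD1_c1 LD2_c28 LD3_c36)) = (LP (LK LD1_c3 LD2_c4 LD3_c54)) :=
  Lgr Lrot181 (Lpr_ct (f60871 IH) (Lpr_gt (f60870 IH) (Lpe (K4.f59364 IH) (Lpr_bt (f59363 IH) (Lpr_gt (K1.f37190 IH) (Lpe (f56493 IH) (Lpr_ct (K2.f60850 IH) (Lpr_gt (K4.f60852 IH) (Lpe (f60869 IH) (Lpr_bt (f80252 IH) (Lpn (LP (LK LD1_c3 LD2_c4 LD3_c54)))))))))))))
theorem f132606 : Led Lsl_af (LP (LK LD1_c1 LD2_c28 LD3_c36)) = (LP (LK LD1_c2 LD2_c18 LD3_c53)) :=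
  Lgr Lrot31 (Lpr_gf (f80258 IH) (Lpe (f58965 IH) (Lpr_ft (f132595 IH) (Lpn (LP (LK LD1_c2 LD2_c18 LD3_c53))))))
theorem f132610 : Led Lsl_at (LP (LK LD1_c0 LD2_c40 LD3_c58)) = (LP (LK LD1_c1 LD2_c6 LD3_c29)) :=
  Lgr Lrot107 (Lpe (f60871 IH) (Lpr_af (f132606 IH) (Lpe (K4.f60939 IH) (Lpn (LP (LK LD1_c1 LD2_c6 LD3_c29))))))
theorem f59334 : Led Lsl_gt (LP (LK LD1_c1 LD2_c6 LD3_c30)) = (LP (LK LD1_c0 LD2_c30 LD3_c25)) :=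
  Lre_g IH (LK LD1_c1 LD2_c6 LD3_c30) (LK LD1_c0 LD2_c30 LD3_c25) Lrfl Lrfl
theorem f132820 : Led Lsl_ff (LP (LK LD1_c0 LD2_c40 LD3_c58)) = (LP (LK LD1_c1 LD2_c6 LD3_c30)) :=
  Lgr Lrot52 (Lpr_at (f132610 IH) (Lpe (K4.f56602 IH) (Lpe (f59334 IH) (Lpn (LP (LK LD1_c1 LD2_c6 LD3_c30))))))
theorem f132831 : Led Lsl_ft (LP (LK LD1_c0 LD2_c40 LD3_c58)) = (LP (LK LD1_c1 LD2_c6 LD3_c30)) :=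
  Lgr Lrot48 (Lpr_ff (f132820 IH) (Lpn (LP (LK LD1_c1 LD2_c6 LD3_c30))))
theorem f59399 : Led Lsl_ct (LP (LK LD1_c1 LD2_c6 LD3_c30)) = (LP (LK LD1_c2 LD2_c18 LD3_c56)) :=
  Lre_c IH (LK LD1_c1 LD2_c6 LD3_c30) (LK LD1_c2 LD2_c18 LD3_c56) Lrfl Lrfl
theorem f132837 : Led Lsl_ff (LP (LK LD1_c1 LD2_c28 LD3_c36)) = (LP (LK LD1_c2 LD2_c18 LD3_c56)) :=
  Lgr Lrot23 (Lpr_ct (f60871 IH) (Lpr_ft (f132831 IH) (Lpr_ct (f59399 IH) (Lpn (LP (LK LD1_c2 LD2_c18 LD3_c56))))))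
theorem f80260 : Led Lsl_dt (LP (LK LD1_c1 LD2_c28 LD3_c36)) = (LP (LK LD1_c3 LD2_c5 LD3_c5)) :=
  Lre_d IH (LK LD1_c1 LD2_c28 LD3_c36) (LK LD1_c3 LD2_c5 LD3_c5) Lrfl Lrfl
theorem f59402 : Led Lsl_dt (LP (LK LD1_c4 LD2_c42 LD3_c52)) = (LP (LK LD1_c2 LD2_c18 LD3_c56)) :=
  Lre_d IH (LK LD1_c4 LD2_c42 LD3_c52) (LK LD1_c2 LD2_c18 LD3_c56) Lrfl Lrfl
theorem f132856 : Led Lsl_ft (LP (LK LD1_c3 LD2_c5 LD3_c5)) = (LP (LK LD1_c4 LD2_c42 LD3_c52)) :=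
  Lgr Lrot54 (Lpe (f80260 IH) (Lpr_ff (f132837 IH) (Lpe (f59402 IH) (Lpn (LP (LK LD1_c4 LD2_c42 LD3_c52))))))
theorem f132870 : Led Lsl_ff (LP (LK LD1_c3 LD2_c5 LD3_c5)) = (LP (LK LD1_c4 LD2_c42 LD3_c52)) :=
  Lgr Lrot3 (Lpr_ft (f132856 IH) (Lpn (LP (LK LD1_c4 LD2_c42 LD3_c52))))
theorem f60948 : Led Lsl_dt (LP (LK LD1_c4 LD2_c42 LD3_c48)) = (LP (LK LD1_c2 LD2_c18 LD3_c53)) :=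
  Lre_d IH (LK LD1_c4 LD2_c42 LD3_c48) (LK LD1_c2 LD2_c18 LD3_c53) Lrfl Lrfl
theorem f132612 : Led Lsl_at (LP (LK LD1_c3 LD2_c5 LD3_c5)) = (LP (LK LD1_c4 LD2_c42 LD3_c48)) :=
  Lgr Lrot51 (Lpe (f80260 IH) (Lpr_af (f132606 IH) (Lpe (f60948 IH) (Lpn (LP (LK LD1_c4 LD2_c42 LD3_c48))))))
theorem f80276 : Led Lsl_dt (LP (LK LD1_c3 LD2_c4 LD3_c57)) = (LP (LK LD1_c1 LD2_c28 LD3_c32)) :=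
  Lre_d IH (LK LD1_c3 LD2_c4 LD3_c57) (LK LD1_c1 LD2_c28 LD3_c32) Lrfl Lrfl
theorem f60949 : Led Lsl_dt (LP (LK LD1_c2 LD2_c18 LD3_c53)) = (LP (LK LD1_c4 LD2_c42 LD3_c48)) :=
  Lre_d IH (LK LD1_c2 LD2_c18 LD3_c53) (LK LD1_c4 LD2_c42 LD3_c48) Lrfl Lrfl
theorem f132599 : Led Lsl_ff (LP (LK LD1_c3 LD2_c4 LD3_c57)) = (LP (LK LD1_c4 LD2_c42 LD3_c48)) :=
  Lgr Lrot19 (Lpr_dt (f80276 IH) (Lpr_ft (f132595 IH) (Lpr_dt (f60949 IH) (Lpn (LP (LK LD1_c4 LD2_c42 LD3_c48))))))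
theorem f132875 : Led Lsl_at (LP (LK LD1_c3 LD2_c4 LD3_c57)) = (LP (LK LD1_c4 LD2_c42 LD3_c52)) :=
  Lgr Lrot66 (Lpr_ff (f132599 IH) (Lpe (f132612 IH) (Lpr_ff (f132870 IH) (Lpn (LP (LK LD1_c4 LD2_c42 LD3_c52))))))
theorem f83802 : Led Lsl_ct (LP (LK LD1_c6 LD2_c15 LD3_c41)) = (LP (LK LD1_c3 LD2_c4 LD3_c57)) :=
  Lre_c IH (LK LD1_c6 LD2_c15 LD3_c41) (LK LD1_c3 LD2_c4 LD3_c57) Lrfl Lrfl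
theorem f80262 : Led Lsl_ct (LP (LK LD1_c6 LD2_c15 LD3_c59)) = (LP (LK LD1_c3 LD2_c5 LD3_c5)) :=
  Lre_c IH (LK LD1_c6 LD2_c15 LD3_c59) (LK LD1_c3 LD2_c5 LD3_c5) Lrfl Lrfl
theorem f102050 : Led Lsl_et (LP (LK LD1_c4 LD2_c45 LD3_c11)) = (LP (LK LD1_c9 LD2_c23 LD3_c3)) :=
  Lre_e IH (LK LD1_c4 LD2_c45 LD3_c11) (LK LD1_c9 LD2_c23 LD3_c3) Lrfl Lrfl
theorem f102082 : Led Lsl_et (LP (LK LD1_c16 LD2_c24 LD3_c18)) = (LP (LK LD1_c8 LD2_c46 LD3_c4)) :=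
  Lre_e IH (LK LD1_c16 LD2_c24 LD3_c18) (LK LD1_c8 LD2_c46 LD3_c4) Lrfl Lrfl
theorem f102083 : Led Lsl_bt (LP (LK LD1_c9 LD2_c23 LD3_c3)) = (LP (LK LD1_c16 LD2_c24 LD3_c18)) :=
  Lgr Lrot119 (Lpe (f102050 IH) (Lpr_bf (K4.f102071 IH) (Lpe (f102082 IH) (Lpn (LP (LK LD1_c16 LD2_c24 LD3_c18))))))
theorem f102043 : Led Lsl_et (LP (LK LD1_c9 LD2_c23 LD3_c3)) = (LP (LK LD1_c4 LD2_c45 LD3_c11)) :=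
  Lre_e IH (LK LD1_c9 LD2_c23 LD3_c3) (LK LD1_c4 LD2_c45 LD3_c11) Lrfl Lrfl
theorem f61903 : Led Lsl_et (LP (LK LD1_c4 LD2_c45 LD3_c7)) = (LP (LK LD1_c9 LD2_c22 LD3_c56)) :=
  Lre_e IH (LK LD1_c4 LD2_c45 LD3_c7) (LK LD1_c9 LD2_c22 LD3_c56) Lrfl Lrfl
theorem f102046 : Led Lsl_cf (LP (LK LD1_c9 LD2_c23 LD3_c3)) = (LP (LK LD1_c9 LD2_c22 LD3_c56)) :=
  Lgr Lrot39 (Lpr_et (f102043 IH) (Lpr_ct (K3.f102040 IH) (Lpr_et (f61903 IH) (Lpn (LP (LK LD1_c9 LD2_c22 LD3_c56))))))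
theorem f81049 : Led Lsl_ct (LP (LK LD1_c16 LD2_c24 LD3_c18)) = (LP (LK LD1_c8 LD2_c46 LD3_c5)) :=
  Lre_c IH (LK LD1_c16 LD2_c24 LD3_c18) (LK LD1_c8 LD2_c46 LD3_c5) Lrfl Lrfl
theorem f80435 : Led Lsl_gf (LP (LK LD1_c0 LD2_c12 LD3_c29)) = (LP (LK LD1_c0 LD2_c18 LD3_c17)) :=
  Lgr Lrot154 (Lpr_dt (K1.f16642 IH) (Lpr_ct (K1.f59624 IH) (Lpe (K4.f29560 IH) (Lpr_gf (K4.f80351 IH) (Lpe (K1.f37186 IH) (Lpe (K0.f20612 IH) (Lpe (K0.f35396 IH) (Lpe (K1.f35511 IH) (Lpe (K1.f59665 IH) (Lpn (LP (LK LD1_c0 LD2_c18 LD3_c17))))))))))))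
theorem f80913 : Led Lsl_bf (LP (LK LD1_c2 LD2_c9 LD3_c34)) = (LP (LK LD1_c1 LD2_c28 LD3_c36)) :=
  Lgr Lrot34 (Lpe (K4.f59627 IH) (Lpe (K4.f59359 IH) (Lpr_ct (K2.f59354 IH) (Lpr_gf (f80435 IH) (Lpr_cf (K1.f59683 IH) (Lpe (K1.f37190 IH) (Lpe (f59363 IH) (Lpr_ct (K4.f59364 IH) (Lpe (f60870 IH) (Lpe (f60871 IH) (Lpn (LP (LK LD1_c1 LD2_c28 LD3_c36)))))))))))))
theorem f80991 : Led Lsl_et (LP (LK LD1_c2 LD2_c9 LD3_c34)) = (LP (LK LD1_c4 LD2_c24 LD3_c13)) :=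
  Lre_e IH (LK LD1_c2 LD2_c9 LD3_c34) (LK LD1_c4 LD2_c24 LD3_c13) Lrfl Lrfl
theorem f80273 : Led Lsl_et (LP (LK LD1_c3 LD2_c5 LD3_c6)) = (LP (LK LD1_c1 LD2_c28 LD3_c36)) :=
  Lre_e IH (LK LD1_c3 LD2_c5 LD3_c6) (LK LD1_c1 LD2_c28 LD3_c36) Lrfl Lrfl
theorem f80992 : Led Lsl_bt (LP (LK LD1_c4 LD2_c24 LD3_c13)) = (LP (LK LD1_c3 LD2_c5 LD3_c6)) :=
  Lgr Lrot119 (Lpe (f80991 IH) (Lpr_bf (f80913 IH) (Lpe (f80273 IH) (Lpn (LP (LK LD1_c3 LD2_c5 LD3_c6))))))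
theorem f81002 : Led Lsl_dt (LP (LK LD1_c8 LD2_c46 LD3_c6)) = (LP (LK LD1_c4 LD2_c24 LD3_c13)) :=
  Lre_d IH (LK LD1_c8 LD2_c46 LD3_c6) (LK LD1_c4 LD2_c24 LD3_c13) Lrfl Lrfl
theorem f80274 : Led Lsl_dt (LP (LK LD1_c3 LD2_c5 LD3_c6)) = (LP (LK LD1_c6 LD2_c16 LD3_c1)) :=
  Lre_d IH (LK LD1_c3 LD2_c5 LD3_c6) (LK LD1_c6 LD2_c16 LD3_c1) Lrfl Lrfl
theorem f81003 : Led Lsl_bf (LP (LK LD1_c8 LD2_c46 LD3_c6)) = (LP (LK LD1_c6 LD2_c16 LD3_c1)) :=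
  Lgr Lrot93 (Lpr_dt (f81002 IH) (Lpr_bt (f80992 IH) (Lpr_dt (f80274 IH) (Lpn (LP (LK LD1_c6 LD2_c16 LD3_c1))))))
theorem f81014 : Led Lsl_et (LP (LK LD1_c8 LD2_c46 LD3_c6)) = (LP (LK LD1_c16 LD2_c24 LD3_c20)) :=
  Lre_e IH (LK LD1_c8 LD2_c46 LD3_c6) (LK LD1_c16 LD2_c24 LD3_c20) Lrfl Lrfl
theorem f81015 : Led Lsl_et (LP (LK LD1_c12 LD2_c9 LD3_c37)) = (LP (LK LD1_c6 LD2_c16 LD3_c1)) :=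
  Lre_e IH (LK LD1_c12 LD2_c9 LD3_c37) (LK LD1_c6 LD2_c16 LD3_c1) Lrfl Lrfl
theorem f81016 : Led Lsl_bt (LP (LK LD1_c16 LD2_c24 LD3_c20)) = (LP (LK LD1_c12 LD2_c9 LD3_c37)) :=
  Lgr Lrot119 (Lpe (f81014 IH) (Lpr_bf (f81003 IH) (Lpe (f81015 IH) (Lpn (LP (LK LD1_c12 LD2_c9 LD3_c37))))))
theorem f81024 : Led Lsl_dt (LP (LK LD1_c8 LD2_c46 LD3_c5)) = (LP (LK LD1_c16 LD2_c24 LD3_c20)) :=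
  Lre_d IH (LK LD1_c8 LD2_c46 LD3_c5) (LK LD1_c16 LD2_c24 LD3_c20) Lrfl Lrfl
theorem f81025 : Led Lsl_dt (LP (LK LD1_c12 LD2_c9 LD3_c37)) = (LP (LK LD1_c6 LD2_c15 LD3_c60)) :=
  Lre_d IH (LK LD1_c12 LD2_c9 LD3_c37) (LK LD1_c6 LD2_c15 LD3_c60) Lrfl Lrfl
theorem f81026 : Led Lsl_bf (LP (LK LD1_c8 LD2_c46 LD3_c5)) = (LP (LK LD1_c6 LD2_c15 LD3_c60)) :=
  Lgr Lrot93 (Lpr_dt (f81024 IH) (Lpr_bt (f81016 IH) (Lpr_dt (f81025 IH) (Lpn (LP (LK LD1_c6 LD2_c15 LD3_c60))))))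
theorem f81032 : Led Lsl_bt (LP (LK LD1_c8 LD2_c46 LD3_c5)) = (LP (LK LD1_c6 LD2_c15 LD3_c60)) :=
  Lgr Lrot127 (Lpr_bf (f81026 IH) (Lpn (LP (LK LD1_c6 LD2_c15 LD3_c60))))
theorem f81042 : Led Lsl_ct (LP (LK LD1_c6 LD2_c15 LD3_c60)) = (LP (LK LD1_c12 LD2_c9 LD3_c34)) :=
  Lre_c IH (LK LD1_c6 LD2_c15 LD3_c60) (LK LD1_c12 LD2_c9 LD3_c34) Lrfl Lrfl
theorem f102087 : Led Lsl_bf (LP (LK LD1_c9 LD2_c22 LD3_c56)) = (LP (LK LD1_c12 LD2_c9 LD3_c34)) :=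
  Lgr Lrot90 (Lpe (f102046 IH) (Lpr_bt (f102083 IH) (Lpr_ct (f81049 IH) (Lpr_bt (f81032 IH) (Lpr_ct (f81042 IH) (Lpn (LP (LK LD1_c12 LD2_c9 LD3_c34))))))))
theorem f102089 : Led Lsl_bt (LP (LK LD1_c9 LD2_c22 LD3_c56)) = (LP (LK LD1_c12 LD2_c9 LD3_c34)) :=
  Lgr Lrot127 (Lpr_bf (f102087 IH) (Lpn (LP (LK LD1_c12 LD2_c9 LD3_c34))))
theorem f102092 : Led Lsl_et (LP (LK LD1_c12 LD2_c9 LD3_c34)) = (LP (LK LD1_c6 LD2_c15 LD3_c59)) :=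
  Lre_e IH (LK LD1_c12 LD2_c9 LD3_c34) (LK LD1_c6 LD2_c15 LD3_c59) Lrfl Lrfl
theorem f102093 : Led Lsl_bf (LP (LK LD1_c4 LD2_c45 LD3_c7)) = (LP (LK LD1_c6 LD2_c15 LD3_c59)) :=
  Lgr Lrot96 (Lpr_et (f61903 IH) (Lpr_bt (f102089 IH) (Lpr_et (f102092 IH) (Lpn (LP (LK LD1_c6 LD2_c15 LD3_c59))))))
theorem f78581 : Led Lsl_bt (LP (LK LD1_c2 LD2_c20 LD3_c56)) = (LP (LK LD1_c4 LD2_c45 LD3_c41)) :=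
  Lre_b IH (LK LD1_c2 LD2_c20 LD3_c56) (LK LD1_c4 LD2_c45 LD3_c41) Lrfl Lrfl
theorem f113772 : Led Lsl_ff (LP (LK LD1_c6 LD2_c15 LD3_c59)) = (LP (LK LD1_c4 LD2_c45 LD3_c41)) :=
  Lgr Lrot25 (Lpe (f102093 IH) (Lpr_ft (K4.f113768 IH) (Lpr_bt (f78581 IH) (Lpn (LP (LK LD1_c4 LD2_c45 LD3_c41))))))
theorem f132865 : Led Lsl_cf (LP (LK LD1_c4 LD2_c45 LD3_c41)) = (LP (LK LD1_c4 LD2_c42 LD3_c52)) :=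
  Lgr Lrot108 (Lpe (f113772 IH) (Lpr_ct (f80262 IH) (Lpr_ft (f132856 IH) (Lpn (LP (LK LD1_c4 LD2_c42 LD3_c52))))))
theorem f133093 : Led Lsl_af (LP (LK LD1_c6 LD2_c15 LD3_c41)) = (LP (LK LD1_c4 LD2_c45 LD3_c41)) :=
  Lgr Lrot68 (Lpr_ct (f83802 IH) (Lpr_at (f132875 IH) (Lpe (f132865 IH) (Lpn (LP (LK LD1_c4 LD2_c45 LD3_c41))))))
theorem f133098 : Led Lsl_dt (LP (LK LD1_c2 LD2_c20 LD3_c55)) = (LP (LK LD1_c4 LD2_c45 LD3_c41)) :=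
  Lre_d IH (LK LD1_c2 LD2_c20 LD3_c55) (LK LD1_c4 LD2_c45 LD3_c41) Lrfl Lrfl
theorem f133099 : Led Lsl_at (LP (LK LD1_c4 LD2_c45 LD3_c40)) = (LP (LK LD1_c2 LD2_c20 LD3_c55)) :=
  Lre_a IH (LK LD1_c4 LD2_c45 LD3_c40) (LK LD1_c2 LD2_c20 LD3_c55) Lrfl Lrfl
theorem f133100 : Led Lsl_dt (LP (LK LD1_c6 LD2_c15 LD3_c41)) = (LP (LK LD1_c4 LD2_c45 LD3_c40)) :=
  Lgr Lrot44 (Lpr_af (f133093 IH) (Lpe (f133098 IH) (Lpe (f133099 IH) (Lpn (LP (LK LD1_c4 LD2_c45 LD3_c40))))))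
theorem f133138 : Led Lsl_df (LP (LK LD1_c6 LD2_c15 LD3_c41)) = (LP (LK LD1_c4 LD2_c45 LD3_c40)) :=
  Lgr Lrot38 (Lpr_dt (f133100 IH) (Lpn (LP (LK LD1_c4 LD2_c45 LD3_c40))))
theorem f59365 : Led Lsl_ct (LP (LK LD1_c1 LD2_c28 LD3_c32)) = (LP (LK LD1_c0 LD2_c40 LD3_c57)) :=
  Lre_c IH (LK LD1_c1 LD2_c28 LD3_c32) (LK LD1_c0 LD2_c40 LD3_c57) Lrfl Lrfl
theorem f83772 : Led Lsl_bt (LP (LK LD1_c1 LD2_c38 LD3_c6)) = (LP (LK LD1_c3 LD2_c23 LD3_c31)) :=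
  Lre_b IH (LK LD1_c1 LD2_c38 LD3_c6) (LK LD1_c3 LD2_c23 LD3_c31) Lrfl Lrfl
theorem f83773 : Led Lsl_df (LP (LK LD1_c3 LD2_c4 LD3_c59)) = (LP (LK LD1_c3 LD2_c23 LD3_c31)) :=
  Lgr Lrot12 (Lpr_bt (K4.f83764 IH) (Lpr_dt (K2.f14578 IH) (Lpr_bt (f83772 IH) (Lpn (LP (LK LD1_c3 LD2_c23 LD3_c31))))))
theorem f83791 : Led Lsl_dt (LP (LK LD1_c3 LD2_c4 LD3_c59)) = (LP (LK LD1_c3 LD2_c23 LD3_c31)) :=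
  Lgr Lrot42 (Lpr_df (f83773 IH) (Lpn (LP (LK LD1_c3 LD2_c23 LD3_c31))))
theorem f61894 : Led Lsl_bt (LP (LK LD1_c4 LD2_c45 LD3_c6)) = (LP (LK LD1_c2 LD2_c20 LD3_c42)) :=
  Lre_b IH (LK LD1_c4 LD2_c45 LD3_c6) (LK LD1_c2 LD2_c20 LD3_c42) Lrfl Lrfl
theorem f91320 : Led Lsl_cf (LP (LK LD1_c4 LD2_c45 LD3_c6)) = (LP (LK LD1_c3 LD2_c23 LD3_c31)) :=
  Lgr Lrot97 (Lpr_bt (f61894 IH) (Lpr_ct (K3.f61891 IH) (Lpr_bt (K3.f91313 IH) (Lpe (K3.f91308 IH) (Lpr_bt (f83772 IH) (Lpn (LP (LK LD1_c3 LD2_c23 LD3_c31))))))))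
theorem f91357 : Led Lsl_at (LP (LK LD1_c9 LD2_c22 LD3_c54)) = (LP (LK LD1_c4 LD2_c45 LD3_c6)) :=
  Lre_a IH (LK LD1_c9 LD2_c22 LD3_c54) (LK LD1_c4 LD2_c45 LD3_c6) Lrfl Lrfl
theorem f133146 : Led Lsl_ff (LP (LK LD1_c9 LD2_c22 LD3_c54)) = (LP (LK LD1_c4 LD2_c45 LD3_c40)) :=
  Lgr Lrot103 (Lpr_at (f91357 IH) (Lpr_cf (f91320 IH) (Lpe (f83791 IH) (Lpe (K4.f83763 IH) (Lpe (K4.f83762 IH) (Lpe (f59365 IH) (Lpe (f80276 IH) (Lpe (f83802 IH) (Lpr_df (f133138 IH) (Lpn (LP (LK LD1_c4 LD2_c45 LD3_c40))))))))))))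
theorem f133155 : Led Lsl_ft (LP (LK LD1_c9 LD2_c22 LD3_c54)) = (LP (LK LD1_c4 LD2_c45 LD3_c40)) :=
  Lgr Lrot48 (Lpr_ff (f133146 IH) (Lpn (LP (LK LD1_c4 LD2_c45 LD3_c40))))
theorem f103188 : Led Lsl_bt (LP (LK LD1_c4 LD2_c45 LD3_c0)) = (LP (LK LD1_c2 LD2_c20 LD3_c40)) :=
  Lre_b IH (LK LD1_c4 LD2_c45 LD3_c0) (LK LD1_c2 LD2_c20 LD3_c40) Lrfl Lrfl
theorem f113717 : Led Lsl_at (LP (LK LD1_c9 LD2_c22 LD3_c45)) = (LP (LK LD1_c4 LD2_c45 LD3_c0)) :=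
  Lre_a IH (LK LD1_c9 LD2_c22 LD3_c45) (LK LD1_c4 LD2_c45 LD3_c0) Lrfl Lrfl
theorem f78250 : Led Lsl_bt (LP (LK LD1_c1 LD2_c7 LD3_c47)) = (LP (LK LD1_c2 LD2_c20 LD3_c55)) :=
  Lre_b IH (LK LD1_c1 LD2_c7 LD3_c47) (LK LD1_c2 LD2_c20 LD3_c55) Lrfl Lrfl
theorem f113718 : Led Lsl_at (LP (LK LD1_c2 LD2_c20 LD3_c55)) = (LP (LK LD1_c4 LD2_c45 LD3_c40)) :=
  Lre_a IH (LK LD1_c2 LD2_c20 LD3_c55) (LK LD1_c4 LD2_c45 LD3_c40) Lrfl Lrfl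
theorem f113719 : Led Lsl_bf (LP (LK LD1_c9 LD2_c22 LD3_c45)) = (LP (LK LD1_c4 LD2_c45 LD3_c40)) :=
  Lgr Lrot81 (Lpr_at (f113717 IH) (Lpr_bt (f103188 IH) (Lpr_at (K4.f113713 IH) (Lpr_bt (f78250 IH) (Lpr_at (f113718 IH) (Lpn (LP (LK LD1_c4 LD2_c45 LD3_c40))))))))
theorem f60994 : Led Lsl_bt (LP (LK LD1_c4 LD2_c45 LD3_c59)) = (LP (LK LD1_c2 LD2_c21 LD3_c1)) :=
  Lre_b IH (LK LD1_c4 LD2_c45 LD3_c59) (LK LD1_c2 LD2_c21 LD3_c1) Lrfl Lrfl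
theorem f125684 : Led Lsl_bt (LP (LK LD1_c3 LD2_c10 LD3_c41)) = (LP (LK LD1_c6 LD2_c25 LD3_c48)) :=
  Lre_b IH (LK LD1_c3 LD2_c10 LD3_c41) (LK LD1_c6 LD2_c25 LD3_c48) Lrfl Lrfl
theorem f125713 : Led Lsl_ff (LP (LK LD1_c4 LD2_c45 LD3_c59)) = (LP (LK LD1_c6 LD2_c25 LD3_c48)) :=
  Lgr Lrot25 (Lpr_bt (f60994 IH) (Lpr_ft (f125709 IH) (Lpr_bt (f125684 IH) (Lpn (LP (LK LD1_c6 LD2_c25 LD3_c48))))))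
theorem f60995 : Led Lsl_ct (LP (LK LD1_c4 LD2_c45 LD3_c59)) = (LP (LK LD1_c2 LD2_c21 LD3_c2)) :=
  Lre_c IH (LK LD1_c4 LD2_c45 LD3_c59) (LK LD1_c2 LD2_c21 LD3_c2) Lrfl Lrfl
theorem f79566 : Led Lsl_bt (LP (LK LD1_c1 LD2_c7 LD3_c50)) = (LP (LK LD1_c2 LD2_c21 LD3_c2)) :=
  Lre_b IH (LK LD1_c1 LD2_c7 LD3_c50) (LK LD1_c2 LD2_c21 LD3_c2) Lrfl Lrfl
theorem f113734 : Led Lsl_ff (LP (LK LD1_c4 LD2_c45 LD3_c0)) = (LP (LK LD1_c2 LD2_c21 LD3_c2)) :=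
  Lgr Lrot25 (Lpr_bt (f103188 IH) (Lpr_ft (K4.f113732 IH) (Lpr_bt (f79566 IH) (Lpn (LP (LK LD1_c2 LD2_c21 LD3_c2))))))
theorem f125719 : Led Lsl_ct (LP (LK LD1_c4 LD2_c45 LD3_c0)) = (LP (LK LD1_c6 LD2_c25 LD3_c48)) :=
  Lgr Lrot40 (Lpr_ff (f113734 IH) (Lpe (f60995 IH) (Lpr_ff (f125713 IH) (Lpn (LP (LK LD1_c6 LD2_c25 LD3_c48))))))
theorem f125706 : Led Lsl_at (LP (LK LD1_c6 LD2_c25 LD3_c48)) = (LP (LK LD1_c12 LD2_c24 LD3_c1)) :=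
  Lre_a IH (LK LD1_c6 LD2_c25 LD3_c48) (LK LD1_c12 LD2_c24 LD3_c1) Lrfl Lrfl
theorem f125723 : Led Lsl_cf (LP (LK LD1_c9 LD2_c22 LD3_c45)) = (LP (LK LD1_c12 LD2_c24 LD3_c1)) :=
  Lgr Lrot1 (Lpr_at (f113717 IH) (Lpr_ct (f125719 IH) (Lpr_at (f125706 IH) (Lpn (LP (LK LD1_c12 LD2_c24 LD3_c1))))))
theorem f125715 : Led Lsl_at (LP (LK LD1_c4 LD2_c45 LD3_c59)) = (LP (LK LD1_c9 LD2_c24 LD3_c30)) :=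
  Lre_a IH (LK LD1_c4 LD2_c45 LD3_c59) (LK LD1_c9 LD2_c24 LD3_c30) Lrfl Lrfl
theorem f125716 : Led Lsl_at (LP (LK LD1_c12 LD2_c24 LD3_c1)) = (LP (LK LD1_c6 LD2_c25 LD3_c48)) :=
  Lre_a IH (LK LD1_c12 LD2_c24 LD3_c1) (LK LD1_c6 LD2_c25 LD3_c48) Lrfl Lrfl
theorem f125717 : Led Lsl_ft (LP (LK LD1_c9 LD2_c24 LD3_c30)) = (LP (LK LD1_c12 LD2_c24 LD3_c1)) :=
  Lgr Lrot101 (Lpe (f125715 IH) (Lpr_ff (f125713 IH) (Lpe (f125716 IH) (Lpn (LP (LK LD1_c12 LD2_c24 LD3_c1))))))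
theorem f125721 : Led Lsl_ct (LP (LK LD1_c4 LD2_c46 LD3_c1)) = (LP (LK LD1_c9 LD2_c24 LD3_c30)) :=
  Lre_c IH (LK LD1_c4 LD2_c46 LD3_c1) (LK LD1_c9 LD2_c24 LD3_c30) Lrfl Lrfl
theorem f125737 : Led Lsl_ft (LP (LK LD1_c9 LD2_c22 LD3_c45)) = (LP (LK LD1_c4 LD2_c46 LD3_c1)) :=
  Lgr Lrot4 (Lpr_cf (f125723 IH) (Lpe (f125717 IH) (Lpe (f125721 IH) (Lpn (LP (LK LD1_c4 LD2_c46 LD3_c1))))))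
theorem f133159 : Led Lsl_bf (LP (LK LD1_c9 LD2_c22 LD3_c54)) = (LP (LK LD1_c4 LD2_c46 LD3_c1)) :=
  Lgr Lrot61 (Lpr_ft (f133155 IH) (Lpe (f113719 IH) (Lpr_ft (f125737 IH) (Lpn (LP (LK LD1_c4 LD2_c46 LD3_c1))))))
theorem f133153 : Led Lsl_et (LP (LK LD1_c9 LD2_c22 LD3_c54)) = (LP (LK LD1_c17 LD2_c19 LD3_c19)) :=
  Lre_e IH (LK LD1_c9 LD2_c22 LD3_c54) (LK LD1_c17 LD2_c19 LD3_c19) Lrfl Lrfl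
theorem f125752 : Led Lsl_et (LP (LK LD1_c9 LD2_c24 LD3_c38)) = (LP (LK LD1_c4 LD2_c46 LD3_c1)) :=
  Lre_e IH (LK LD1_c9 LD2_c24 LD3_c38) (LK LD1_c4 LD2_c46 LD3_c1) Lrfl Lrfl
theorem f133168 : Led Lsl_bt (LP (LK LD1_c17 LD2_c19 LD3_c19)) = (LP (LK LD1_c9 LD2_c24 LD3_c38)) :=
  Lgr Lrot119 (Lpe (f133153 IH) (Lpr_bf (f133159 IH) (Lpe (f125752 IH) (Lpn (LP (LK LD1_c9 LD2_c24 LD3_c38))))))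
theorem f91402 : Led Lsl_at (LP (LK LD1_c9 LD2_c22 LD3_c55)) = (LP (LK LD1_c17 LD2_c19 LD3_c19)) :=
  Lre_a IH (LK LD1_c9 LD2_c22 LD3_c55) (LK LD1_c17 LD2_c19 LD3_c19) Lrfl Lrfl
theorem f91328 : Led Lsl_bt (LP (LK LD1_c4 LD2_c45 LD3_c8)) = (LP (LK LD1_c9 LD2_c22 LD3_c55)) :=
  Lre_b IH (LK LD1_c4 LD2_c45 LD3_c8) (LK LD1_c9 LD2_c22 LD3_c55) Lrfl Lrfl
theorem f133170 : Led Lsl_at (LP (LK LD1_c9 LD2_c24 LD3_c38)) = (LP (LK LD1_c4 LD2_c46 LD3_c3)) :=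
  Lre_a IH (LK LD1_c9 LD2_c24 LD3_c38) (LK LD1_c4 LD2_c46 LD3_c3) Lrfl Lrfl
theorem f133171 : Led Lsl_bt (LP (LK LD1_c4 LD2_c46 LD3_c3)) = (LP (LK LD1_c2 LD2_c21 LD3_c4)) :=
  Lre_b IH (LK LD1_c4 LD2_c46 LD3_c3) (LK LD1_c2 LD2_c21 LD3_c4) Lrfl Lrfl
theorem f133172 : Led Lsl_af (LP (LK LD1_c4 LD2_c45 LD3_c8)) = (LP (LK LD1_c2 LD2_c21 LD3_c4)) :=
  Lgr Lrot36 (Lpr_bt (f91328 IH) (Lpr_at (f91402 IH) (Lpr_bt (f133168 IH) (Lpr_at (f133170 IH) (Lpr_bt (f133171 IH) (Lpn (LP (LK LD1_c2 LD2_c21 LD3_c4))))))))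
theorem f91345 : Led Lsl_ct (LP (LK LD1_c4 LD2_c45 LD3_c8)) = (LP (LK LD1_c2 LD2_c20 LD3_c43)) :=
  Lre_c IH (LK LD1_c4 LD2_c45 LD3_c8) (LK LD1_c2 LD2_c20 LD3_c43) Lrfl Lrfl
theorem f133206 : Led Lsl_ct (LP (LK LD1_c1 LD2_c7 LD3_c51)) = (LP (LK LD1_c2 LD2_c21 LD3_c4)) :=
  Lre_c IH (LK LD1_c1 LD2_c7 LD3_c51) (LK LD1_c2 LD2_c21 LD3_c4) Lrfl Lrfl
theorem f133207 : Led Lsl_at (LP (LK LD1_c2 LD2_c20 LD3_c43)) = (LP (LK LD1_c1 LD2_c7 LD3_c51)) :=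
  Lgr Lrot107 (Lpe (f91345 IH) (Lpr_af (f133172 IH) (Lpe (f133206 IH) (Lpn (LP (LK LD1_c1 LD2_c7 LD3_c51))))))
theorem f91341 : Led Lsl_dt (LP (LK LD1_c4 LD2_c45 LD3_c9)) = (LP (LK LD1_c2 LD2_c20 LD3_c43)) :=
  Lre_d IH (LK LD1_c4 LD2_c45 LD3_c9) (LK LD1_c2 LD2_c20 LD3_c43) Lrfl Lrfl
theorem f78036 : Led Lsl_dt (LP (LK LD1_c1 LD2_c7 LD3_c51)) = (LP (LK LD1_c2 LD2_c21 LD3_c6)) :=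
  Lre_d IH (LK LD1_c1 LD2_c7 LD3_c51) (LK LD1_c2 LD2_c21 LD3_c6) Lrfl Lrfl
theorem f133214 : Led Lsl_af (LP (LK LD1_c4 LD2_c45 LD3_c9)) = (LP (LK LD1_c2 LD2_c21 LD3_c6)) :=
  Lgr Lrot117 (Lpr_dt (f91341 IH) (Lpr_at (f133207 IH) (Lpr_dt (f78036 IH) (Lpn (LP (LK LD1_c2 LD2_c21 LD3_c6))))))
theorem f91347 : Led Lsl_et (LP (LK LD1_c1 LD2_c7 LD3_c43)) = (LP (LK LD1_c2 LD2_c20 LD3_c43)) :=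
  Lre_e IH (LK LD1_c1 LD2_c7 LD3_c43) (LK LD1_c2 LD2_c20 LD3_c43) Lrfl Lrfl
theorem f91329 : Led Lsl_dt (LP (LK LD1_c2 LD2_c20 LD3_c43)) = (LP (LK LD1_c4 LD2_c45 LD3_c9)) :=
  Lre_d IH (LK LD1_c2 LD2_c20 LD3_c43) (LK LD1_c4 LD2_c45 LD3_c9) Lrfl Lrfl
theorem f102186 : Led Lsl_ef (LP (LK LD1_c2 LD2_c21 LD3_c38)) = (LP (LK LD1_c4 LD2_c45 LD3_c9)) :=
  Lgr Lrot73 (Lpr_dt (f102185 IH) (Lpr_et (K4.f102179 IH) (Lpr_dt (K3.f99126 IH) (Lpr_et (f91347 IH) (Lpr_dt (f91329 IH) (Lpn (LP (LK LD1_c4 LD2_c45 LD3_c9))))))))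
theorem f77996 : Led Lsl_et (LP (LK LD1_c1 LD2_c7 LD3_c51)) = (LP (LK LD1_c0 LD2_c31 LD3_c7)) :=
  Lre_e IH (LK LD1_c1 LD2_c7 LD3_c51) (LK LD1_c0 LD2_c31 LD3_c7) Lrfl Lrfl
theorem f77997 : Led Lsl_dt (LP (LK LD1_c2 LD2_c21 LD3_c6)) = (LP (LK LD1_c1 LD2_c7 LD3_c51)) :=
  Lre_d IH (LK LD1_c2 LD2_c21 LD3_c6) (LK LD1_c1 LD2_c7 LD3_c51) Lrfl Lrfl
theorem f77999 : Led Lsl_dt (LP (LK LD1_c1 LD2_c5 LD3_c34)) = (LP (LK LD1_c2 LD2_c17 LD3_c14)) :=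
  Lre_d IH (LK LD1_c1 LD2_c5 LD3_c34) (LK LD1_c2 LD2_c17 LD3_c14) Lrfl Lrfl
theorem f78000 : Led Lsl_ef (LP (LK LD1_c2 LD2_c21 LD3_c6)) = (LP (LK LD1_c2 LD2_c17 LD3_c14)) :=
  Lgr Lrot73 (Lpr_dt (f77997 IH) (Lpr_et (f77996 IH) (Lpr_dt (K2.f77988 IH) (Lpr_et (K3.f77998 IH) (Lpr_dt (f77999 IH) (Lpn (LP (LK LD1_c2 LD2_c17 LD3_c14))))))))
theorem f133222 : Led Lsl_at (LP (LK LD1_c2 LD2_c21 LD3_c38)) = (LP (LK LD1_c2 LD2_c17 LD3_c14)) :=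
  Lgr Lrot80 (Lpr_ef (f102186 IH) (Lpr_af (f133214 IH) (Lpr_ef (f78000 IH) (Lpn (LP (LK LD1_c2 LD2_c17 LD3_c14))))))
theorem f78262 : Led Lsl_ct (LP (LK LD1_c2 LD2_c17 LD3_c14)) = (LP (LK LD1_c4 LD2_c40 LD3_c16)) :=
  Lre_c IH (LK LD1_c2 LD2_c17 LD3_c14) (LK LD1_c4 LD2_c40 LD3_c16) Lrfl Lrfl
theorem f133227 : Led Lsl_af (LP (LK LD1_c4 LD2_c47 LD3_c32)) = (LP (LK LD1_c4 LD2_c40 LD3_c16)) :=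
  Lgr Lrot68 (Lpr_ct (f102202 IH) (Lpr_at (f133222 IH) (Lpr_ct (f78262 IH) (Lpn (LP (LK LD1_c4 LD2_c40 LD3_c16))))))
theorem f78261 : Led Lsl_dt (LP (LK LD1_c9 LD2_c15 LD3_c58)) = (LP (LK LD1_c4 LD2_c40 LD3_c16)) :=
  Lre_d IH (LK LD1_c9 LD2_c15 LD3_c58) (LK LD1_c4 LD2_c40 LD3_c16) Lrfl Lrfl
theorem f133233 : Led Lsl_at (LP (LK LD1_c9 LD2_c28 LD3_c7)) = (LP (LK LD1_c9 LD2_c15 LD3_c58)) :=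
  Lgr Lrot51 (Lpe (f102199 IH) (Lpr_af (f133227 IH) (Lpe (f78261 IH) (Lpn (LP (LK LD1_c9 LD2_c15 LD3_c58))))))
theorem f102196 : Led Lsl_et (LP (LK LD1_c17 LD2_c27 LD3_c46)) = (LP (LK LD1_c9 LD2_c28 LD3_c7)) :=
  Lre_e IH (LK LD1_c17 LD2_c27 LD3_c46) (LK LD1_c9 LD2_c28 LD3_c7) Lrfl Lrfl
theorem f79561 : Led Lsl_et (LP (LK LD1_c9 LD2_c15 LD3_c58)) = (LP (LK LD1_c17 LD2_c10 LD3_c29)) :=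
  Lre_e IH (LK LD1_c9 LD2_c15 LD3_c58) (LK LD1_c17 LD2_c10 LD3_c29) Lrfl Lrfl
theorem f133243 : Led Lsl_af (LP (LK LD1_c17 LD2_c27 LD3_c46)) = (LP (LK LD1_c17 LD2_c10 LD3_c29)) :=
  Lgr Lrot50 (Lpr_et (f102196 IH) (Lpr_at (f133233 IH) (Lpr_et (f79561 IH) (Lpn (LP (LK LD1_c17 LD2_c10 LD3_c29))))))
theorem f113632 : Led Lsl_et (LP (LK LD1_c9 LD2_c28 LD3_c25)) = (LP (LK LD1_c17 LD2_c28 LD3_c20)) :=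
  Lre_e IH (LK LD1_c9 LD2_c28 LD3_c25) (LK LD1_c17 LD2_c28 LD3_c20) Lrfl Lrfl
theorem f113633 : Led Lsl_cf (LP (LK LD1_c17 LD2_c27 LD3_c46)) = (LP (LK LD1_c17 LD2_c28 LD3_c20)) :=
  Lgr Lrot39 (Lpr_et (f102196 IH) (Lpr_ct (f113621 IH) (Lpr_et (f113632 IH) (Lpn (LP (LK LD1_c17 LD2_c28 LD3_c20))))))
theorem f113638 : Led Lsl_ct (LP (LK LD1_c17 LD2_c27 LD3_c46)) = (LP (LK LD1_c17 LD2_c28 LD3_c20)) :=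
  Lgr Lrot59 (Lpr_cf (f113633 IH) (Lpn (LP (LK LD1_c17 LD2_c28 LD3_c20))))
theorem f25657 : Led Lsl_bt (LP (LK LD1_c0 LD2_c41 LD3_c14)) = (LP (LK LD1_c1 LD2_c29 LD3_c6)) :=
  Lre_b IH (LK LD1_c0 LD2_c41 LD3_c14) (LK LD1_c1 LD2_c29 LD3_c6) Lrfl Lrfl
theorem f84025 : Led Lsl_gt (LP (LK LD1_c6 LD2_c17 LD3_c40)) = (LP (LK LD1_c6 LD2_c20 LD3_c59)) :=
  Lgr Lrot149 (Lpe (K4.f84020 IH) (Lpe (K4.f78270 IH) (Lpe (f25657 IH) (Lpr_ct (K0.f25625 IH) (Lpr_gf (K2.f83939 IH) (Lpe (K2.f67082 IH) (Lpr_bt (f84021 IH) (Lpe (f84022 IH) (Lpe (f84023 IH) (Lpr_ct (f84024 IH) (Lpn (LP (LK LD1_c6 LD2_c20 LD3_c59)))))))))))))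
theorem f113485 : Led Lsl_gt (LP (LK LD1_c6 LD2_c20 LD3_c59)) = (LP (LK LD1_c6 LD2_c17 LD3_c19)) :=
  Lgr Lrot46 (Lpe (f84025 IH) (Lpr_ft (f113477 IH) (Lpe (f113435 IH) (Lpn (LP (LK LD1_c6 LD2_c17 LD3_c19))))))
theorem f113469 : Led Lsl_gt (LP (LK LD1_c3 LD2_c6 LD3_c2)) = (LP (LK LD1_c2 LD2_c20 LD3_c19)) :=
  Lgr Lrot5 (Lpr_ft (K4.f113462 IH) (Lpe (K4.f113433 IH) (Lpe (K3.f99113 IH) (Lpn (LP (LK LD1_c2 LD2_c20 LD3_c19))))))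
theorem f78260 : Led Lsl_ct (LP (LK LD1_c4 LD2_c40 LD3_c16)) = (LP (LK LD1_c2 LD2_c17 LD3_c14)) :=
  Lre_c IH (LK LD1_c4 LD2_c40 LD3_c16) (LK LD1_c2 LD2_c17 LD3_c14) Lrfl Lrfl
theorem f113471 : Led Lsl_gt (LP (LK LD1_c12 LD2_c16 LD3_c1)) = (LP (LK LD1_c9 LD2_c15 LD3_c58)) :=
  Lgr Lrot49 (Lpe (f84038 IH) (Lpe (f84025 IH) (Lpe (K4.f84020 IH) (Lpr_gt (f113469 IH) (Lpr_dt (K3.f58078 IH) (Lpr_gt (K3.f78253 IH) (Lpr_dt (f77999 IH) (Lpe (f78260 IH) (Lpe (f78261 IH) (Lpn (LP (LK LD1_c9 LD2_c15 LD3_c58))))))))))))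
theorem f25632 : Led Lsl_ct (LP (LK LD1_c1 LD2_c29 LD3_c6)) = (LP (LK LD1_c3 LD2_c6 LD3_c3)) :=
  Lre_c IH (LK LD1_c1 LD2_c29 LD3_c6) (LK LD1_c3 LD2_c6 LD3_c3) Lrfl Lrfl
theorem f25628 : Led Lsl_dt (LP (LK LD1_c6 LD2_c17 LD3_c45)) = (LP (LK LD1_c3 LD2_c6 LD3_c3)) :=
  Lre_d IH (LK LD1_c6 LD2_c17 LD3_c45) (LK LD1_c3 LD2_c6 LD3_c3) Lrfl Lrfl
theorem f57796 : Led Lsl_ct (LP (LK LD1_c12 LD2_c11 LD3_c54)) = (LP (LK LD1_c21 LD2_c17 LD3_c37)) :=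
  Lre_c IH (LK LD1_c12 LD2_c11 LD3_c54) (LK LD1_c21 LD2_c17 LD3_c37) Lrfl Lrfl
theorem f57962 : Led Lsl_bt (LP (LK LD1_c6 LD2_c17 LD3_c45)) = (LP (LK LD1_c12 LD2_c11 LD3_c54)) :=
  Lre_b IH (LK LD1_c6 LD2_c17 LD3_c45) (LK LD1_c12 LD2_c11 LD3_c54) Lrfl Lrfl
theorem f58032 : Led Lsl_bt (LP (LK LD1_c17 LD2_c18 LD3_c4)) = (LP (LK LD1_c9 LD2_c21 LD3_c50)) :=
  Lre_b IH (LK LD1_c17 LD2_c18 LD3_c4) (LK LD1_c9 LD2_c21 LD3_c50) Lrfl Lrfl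
theorem f85722 : Led Lsl_cf (LP (LK LD1_c6 LD2_c17 LD3_c45)) = (LP (LK LD1_c9 LD2_c21 LD3_c50)) :=
  Lgr Lrot97 (Lpr_bt (f57962 IH) (Lpr_ct (f57796 IH) (Lpr_bt (K3.f85716 IH) (Lpr_ct (K3.f85721 IH) (Lpr_bt (f58032 IH) (Lpn (LP (LK LD1_c9 LD2_c21 LD3_c50))))))))
theorem f58014 : Led Lsl_at (LP (LK LD1_c4 LD2_c47 LD3_c42)) = (LP (LK LD1_c9 LD2_c21 LD3_c50)) :=
  Lre_a IH (LK LD1_c4 LD2_c47 LD3_c42) (LK LD1_c9 LD2_c21 LD3_c50) Lrfl Lrfl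
theorem f57805 : Led Lsl_gt (LP (LK LD1_c6 LD2_c17 LD3_c45)) = (LP (LK LD1_c12 LD2_c11 LD3_c55)) :=
  Lre_g IH (LK LD1_c6 LD2_c17 LD3_c45) (LK LD1_c12 LD2_c11 LD3_c55) Lrfl Lrfl
theorem f58021 : Led Lsl_gf (LP (LK LD1_c9 LD2_c21 LD3_c50)) = (LP (LK LD1_c12 LD2_c11 LD3_c55)) :=
  Lgr Lrot76 (Lpe (f58014 IH) (Lpr_ff (K1.f58011 IH) (Lpr_gt (f57805 IH) (Lpn (LP (LK LD1_c12 LD2_c11 LD3_c55))))))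
theorem f113487 : Led Lsl_ct (LP (LK LD1_c9 LD2_c15 LD3_c58)) = (LP (LK LD1_c12 LD2_c11 LD3_c55)) :=
  Lgr Lrot152 (Lpe (f113471 IH) (Lpe (f84038 IH) (Lpr_gt (f113485 IH) (Lpr_ct (K4.f99121 IH) (Lpe (K3.f99115 IH) (Lpr_ct (f25632 IH) (Lpe (f25628 IH) (Lpr_cf (f85722 IH) (Lpr_gf (f58021 IH) (Lpn (LP (LK LD1_c12 LD2_c11 LD3_c55))))))))))))
theorem f79520 : Led Lsl_et (LP (LK LD1_c17 LD2_c10 LD3_c29)) = (LP (LK LD1_c9 LD2_c15 LD3_c58)) :=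
  Lre_e IH (LK LD1_c17 LD2_c10 LD3_c29) (LK LD1_c9 LD2_c15 LD3_c58) Lrfl Lrfl
theorem f113492 : Led Lsl_et (LP (LK LD1_c12 LD2_c11 LD3_c55)) = (LP (LK LD1_c21 LD2_c17 LD3_c40)) :=
  Lre_e IH (LK LD1_c12 LD2_c11 LD3_c55) (LK LD1_c21 LD2_c17 LD3_c40) Lrfl Lrfl
theorem f113493 : Led Lsl_cf (LP (LK LD1_c17 LD2_c10 LD3_c29)) = (LP (LK LD1_c21 LD2_c17 LD3_c40)) :=
  Lgr Lrot39 (Lpr_et (f79520 IH) (Lpr_ct (f113487 IH) (Lpr_et (f113492 IH) (Lpn (LP (LK LD1_c21 LD2_c17 LD3_c40))))))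
theorem f133247 : Led Lsl_at (LP (LK LD1_c17 LD2_c28 LD3_c20)) = (LP (LK LD1_c21 LD2_c17 LD3_c40)) :=
  Lgr Lrot107 (Lpe (f113638 IH) (Lpr_af (f133243 IH) (Lpr_cf (f113493 IH) (Lpn (LP (LK LD1_c21 LD2_c17 LD3_c40))))))
theorem f133249 : Led Lsl_af (LP (LK LD1_c17 LD2_c28 LD3_c20)) = (LP (LK LD1_c21 LD2_c17 LD3_c40)) :=
  Lgr Lrot0 (Lpr_at (f133247 IH) (Lpn (LP (LK LD1_c21 LD2_c17 LD3_c40))))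
theorem f86572 : Led Lsl_et (LP (LK LD1_c17 LD2_c28 LD3_c20)) = (LP (LK LD1_c9 LD2_c28 LD3_c25)) :=
  Lre_e IH (LK LD1_c17 LD2_c28 LD3_c20) (LK LD1_c9 LD2_c28 LD3_c25) Lrfl Lrfl
theorem f133251 : Led Lsl_at (LP (LK LD1_c9 LD2_c28 LD3_c25)) = (LP (LK LD1_c12 LD2_c11 LD3_c55)) :=
  Lgr Lrot80 (Lpe (f86572 IH) (Lpr_af (f133249 IH) (Lpe (f113492 IH) (Lpn (LP (LK LD1_c12 LD2_c11 LD3_c55))))))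
theorem f25629 : Led Lsl_gt (LP (LK LD1_c12 LD2_c11 LD3_c56)) = (LP (LK LD1_c6 LD2_c17 LD3_c45)) :=
  Lre_g IH (LK LD1_c12 LD2_c11 LD3_c56) (LK LD1_c6 LD2_c17 LD3_c45) Lrfl Lrfl
theorem f133257 : Led Lsl_ff (LP (LK LD1_c9 LD2_c28 LD3_c25)) = (LP (LK LD1_c12 LD2_c11 LD3_c56)) :=
  Lgr Lrot52 (Lpr_at (f133251 IH) (Lpe (f57805 IH) (Lpe (f25629 IH) (Lpn (LP (LK LD1_c12 LD2_c11 LD3_c56))))))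
theorem f79524 : Led Lsl_dt (LP (LK LD1_c4 LD2_c40 LD3_c16)) = (LP (LK LD1_c9 LD2_c15 LD3_c58)) :=
  Lre_d IH (LK LD1_c4 LD2_c40 LD3_c16) (LK LD1_c9 LD2_c15 LD3_c58) Lrfl Lrfl
theorem f77936 : Led Lsl_ct (LP (LK LD1_c9 LD2_c15 LD3_c54)) = (LP (LK LD1_c4 LD2_c40 LD3_c15)) :=
  Lre_c IH (LK LD1_c9 LD2_c15 LD3_c54) (LK LD1_c4 LD2_c40 LD3_c15) Lrfl Lrfl
theorem f133259 : Led Lsl_dt (LP (LK LD1_c12 LD2_c11 LD3_c56)) = (LP (LK LD1_c9 LD2_c15 LD3_c54)) :=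
  Lgr Lrot159 (Lpe (f133257 IH) (Lpr_at (f133251 IH) (Lpe (f113487 IH) (Lpe (f79524 IH) (Lpe (f78262 IH) (Lpe (f77999 IH) (Lpe (K3.f77883 IH) (Lpe (f77895 IH) (Lpe (f77936 IH) (Lpn (LP (LK LD1_c9 LD2_c15 LD3_c54))))))))))))
theorem f125249 : Led Lsl_at (LP (LK LD1_c1 LD2_c8 LD3_c0)) = (LP (LK LD1_c1 LD2_c5 LD3_c34)) :=
  Lgr Lrot107 (Lpe (K4.f86318 IH) (Lpr_af (f125247 IH) (Lpe (K2.f77891 IH) (Lpn (LP (LK LD1_c1 LD2_c5 LD3_c34))))))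
theorem f125255 : Led Lsl_ff (LP (LK LD1_c1 LD2_c8 LD3_c0)) = (LP (LK LD1_c1 LD2_c29 LD3_c5)) :=
  Lgr Lrot23 (Lpr_ct (K4.f79593 IH) (Lpr_ft (f125253 IH) (Lpr_ct (f78273 IH) (Lpn (LP (LK LD1_c1 LD2_c29 LD3_c5))))))
theorem f25713 : Led Lsl_dt (LP (LK LD1_c1 LD2_c29 LD3_c5)) = (LP (LK LD1_c3 LD2_c6 LD3_c1)) :=
  Lre_d IH (LK LD1_c1 LD2_c29 LD3_c5) (LK LD1_c3 LD2_c6 LD3_c1) Lrfl Lrfl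
theorem f25714 : Led Lsl_ct (LP (LK LD1_c3 LD2_c6 LD3_c1)) = (LP (LK LD1_c6 LD2_c17 LD3_c38)) :=
  Lre_c IH (LK LD1_c3 LD2_c6 LD3_c1) (LK LD1_c6 LD2_c17 LD3_c38) Lrfl Lrfl
theorem f133266 : Led Lsl_dt (LP (LK LD1_c6 LD2_c17 LD3_c38)) = (LP (LK LD1_c12 LD2_c11 LD3_c43)) :=
  Lre_d IH (LK LD1_c6 LD2_c17 LD3_c38) (LK LD1_c12 LD2_c11 LD3_c43) Lrfl Lrfl
theorem f133267 : Led Lsl_cf (LP (LK LD1_c12 LD2_c11 LD3_c56)) = (LP (LK LD1_c12 LD2_c11 LD3_c43)) :=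
  Lgr Lrot116 (Lpr_dt (f133259 IH) (Lpr_ct (f77936 IH) (Lpr_dt (f77895 IH) (Lpr_ct (K3.f77883 IH) (Lpe (f125249 IH) (Lpr_ff (f125255 IH) (Lpr_dt (f25713 IH) (Lpr_ct (f25714 IH) (Lpr_dt (f133266 IH) (Lpn (LP (LK LD1_c12 LD2_c11 LD3_c43))))))))))))
theorem f133229 : Led Lsl_at (LP (LK LD1_c4 LD2_c47 LD3_c32)) = (LP (LK LD1_c4 LD2_c40 LD3_c16)) :=
  Lgr Lrot100 (Lpr_af (f133227 IH) (Lpn (LP (LK LD1_c4 LD2_c40 LD3_c16))))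
theorem f133276 : Led Lsl_ff (LP (LK LD1_c4 LD2_c47 LD3_c32)) = (LP (LK LD1_c6 LD2_c17 LD3_c38)) :=
  Lgr Lrot103 (Lpr_at (f133229 IH) (Lpe (f78262 IH) (Lpe (f77999 IH) (Lpe (K3.f77883 IH) (Lpe (f77895 IH) (Lpe (f77936 IH) (Lpe (f133259 IH) (Lpr_cf (f133267 IH) (Lpe (f133266 IH) (Lpn (LP (LK LD1_c6 LD2_c17 LD3_c38))))))))))))
theorem f133284 : Led Lsl_ft (LP (LK LD1_c4 LD2_c47 LD3_c32)) = (LP (LK LD1_c6 LD2_c17 LD3_c38)) :=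
  Lgr Lrot48 (Lpr_ff (f133276 IH) (Lpn (LP (LK LD1_c6 LD2_c17 LD3_c38))))
theorem f133293 : Led Lsl_ff (LP (LK LD1_c9 LD2_c28 LD3_c7)) = (LP (LK LD1_c12 LD2_c11 LD3_c43)) :=
  Lgr Lrot19 (Lpr_dt (f102195 IH) (Lpr_ft (f133284 IH) (Lpr_dt (f133266 IH) (Lpn (LP (LK LD1_c12 LD2_c11 LD3_c43))))))
theorem f133300 : Led Lsl_gf (LP (LK LD1_c12 LD2_c16 LD3_c1)) = (LP (LK LD1_c12 LD2_c11 LD3_c43)) :=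
  Lgr Lrot47 (Lpr_gt (f113471 IH) (Lpe (f133233 IH) (Lpr_ff (f133293 IH) (Lpn (LP (LK LD1_c12 LD2_c11 LD3_c43))))))
theorem f127036 : Led Lsl_gt (LP (LK LD1_c6 LD2_c17 LD3_c18)) = (LP (LK LD1_c4 LD2_c43 LD3_c0)) :=
  Lgr Lrot112 (Lpe (K4.f61236 IH) (Lpr_et (K4.f61229 IH) (Lpr_gf (f127026 IH) (Lpe (f127034 IH) (Lpr_dt (K3.f91476 IH) (Lpr_gf (K4.f110354 IH) (Lpe (K4.f58753 IH) (Lpr_gf (K3.f99148 IH) (Lpe (f61646 IH) (Lpr_dt (f61653 IH) (Lpn (LP (LK LD1_c4 LD2_c43 LD3_c0)))))))))))))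
theorem f133271 : Led Lsl_ct (LP (LK LD1_c12 LD2_c11 LD3_c56)) = (LP (LK LD1_c12 LD2_c11 LD3_c43)) :=
  Lgr Lrot59 (Lpr_cf (f133267 IH) (Lpn (LP (LK LD1_c12 LD2_c11 LD3_c43))))
theorem f58036 : Led Lsl_dt (LP (LK LD1_c4 LD2_c44 LD3_c31)) = (LP (LK LD1_c9 LD2_c21 LD3_c50)) :=
  Lre_d IH (LK LD1_c4 LD2_c44 LD3_c31) (LK LD1_c9 LD2_c21 LD3_c50) Lrfl Lrfl
theorem f25627 : Led Lsl_ct (LP (LK LD1_c3 LD2_c6 LD3_c3)) = (LP (LK LD1_c1 LD2_c29 LD3_c6)) :=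
  Lre_c IH (LK LD1_c3 LD2_c6 LD3_c3) (LK LD1_c1 LD2_c29 LD3_c6) Lrfl Lrfl
theorem f58023 : Led Lsl_dt (LP (LK LD1_c1 LD2_c29 LD3_c6)) = (LP (LK LD1_c0 LD2_c41 LD3_c12)) :=
  Lre_d IH (LK LD1_c1 LD2_c29 LD3_c6) (LK LD1_c0 LD2_c41 LD3_c12) Lrfl Lrfl
theorem f58025 : Led Lsl_ct (LP (LK LD1_c4 LD2_c44 LD3_c31)) = (LP (LK LD1_c2 LD2_c20 LD3_c19)) :=
  Lre_c IH (LK LD1_c4 LD2_c44 LD3_c31) (LK LD1_c2 LD2_c20 LD3_c19) Lrfl Lrfl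
theorem f58024 : Led Lsl_dt (LP (LK LD1_c9 LD2_c21 LD3_c50)) = (LP (LK LD1_c4 LD2_c44 LD3_c31)) :=
  Lre_d IH (LK LD1_c9 LD2_c21 LD3_c50) (LK LD1_c4 LD2_c44 LD3_c31) Lrfl Lrfl
theorem f86153 : Led Lsl_ct (LP (LK LD1_c6 LD2_c17 LD3_c45)) = (LP (LK LD1_c9 LD2_c21 LD3_c50)) :=
  Lgr Lrot176 (Lpe (K1.f58018 IH) (Lpe (f25632 IH) (Lpe (K3.f58098 IH) (Lpe (K4.f58747 IH) (Lpe (f58023 IH) (Lpe (f25627 IH) (Lpe (f25628 IH) (Lpr_cf (f85722 IH) (Lpe (f58036 IH) (Lpe (K1.f58027 IH) (Lpe (K1.f58026 IH) (Lpr_cf (K3.f86148 IH) (Lpe (K3.f58078 IH) (Lpe (f58025 IH) (Lpe (f58024 IH) (Lpn (LP (LK LD1_c9 LD2_c21 LD3_c50))))))))))))))))))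
theorem f57961 : Led Lsl_bt (LP (LK LD1_c9 LD2_c28 LD3_c23)) = (LP (LK LD1_c4 LD2_c47 LD3_c42)) :=
  Lre_b IH (LK LD1_c9 LD2_c28 LD3_c23) (LK LD1_c4 LD2_c47 LD3_c42) Lrfl Lrfl
theorem f57963 : Led Lsl_ft (LP (LK LD1_c4 LD2_c47 LD3_c42)) = (LP (LK LD1_c6 LD2_c17 LD3_c45)) :=
  Lgr Lrot75 (Lpe (f57961 IH) (Lpr_ff (K1.f57951 IH) (Lpe (f57962 IH) (Lpn (LP (LK LD1_c6 LD2_c17 LD3_c45))))))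
theorem f58120 : Led Lsl_ct (LP (LK LD1_c9 LD2_c28 LD3_c26)) = (LP (LK LD1_c4 LD2_c47 LD3_c42)) :=
  Lre_c IH (LK LD1_c9 LD2_c28 LD3_c26) (LK LD1_c4 LD2_c47 LD3_c42) Lrfl Lrfl
theorem f86174 : Led Lsl_ff (LP (LK LD1_c9 LD2_c28 LD3_c26)) = (LP (LK LD1_c9 LD2_c21 LD3_c50)) :=
  Lgr Lrot23 (Lpr_ct (f58120 IH) (Lpr_ft (f57963 IH) (Lpr_ct (f86153 IH) (Lpn (LP (LK LD1_c9 LD2_c21 LD3_c50))))))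
theorem f86165 : Led Lsl_at (LP (LK LD1_c9 LD2_c21 LD3_c50)) = (LP (LK LD1_c4 LD2_c47 LD3_c42)) :=
  Lre_a IH (LK LD1_c9 LD2_c21 LD3_c50) (LK LD1_c4 LD2_c47 LD3_c42) Lrfl Lrfl
theorem f86170 : Led Lsl_af (LP (LK LD1_c6 LD2_c17 LD3_c45)) = (LP (LK LD1_c9 LD2_c28 LD3_c26)) :=
  Lgr Lrot68 (Lpr_ct (f86153 IH) (Lpr_at (f86165 IH) (Lpr_ct (f58016 IH) (Lpn (LP (LK LD1_c9 LD2_c28 LD3_c26))))))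
theorem f86183 : Led Lsl_gf (LP (LK LD1_c12 LD2_c11 LD3_c56)) = (LP (LK LD1_c9 LD2_c21 LD3_c50)) :=
  Lgr Lrot47 (Lpr_gt (f25629 IH) (Lpr_af (f86170 IH) (Lpr_ff (f86174 IH) (Lpn (LP (LK LD1_c9 LD2_c21 LD3_c50))))))
theorem f25633 : Led Lsl_gt (LP (LK LD1_c6 LD2_c17 LD3_c43)) = (LP (LK LD1_c3 LD2_c6 LD3_c3)) :=
  Lre_g IH (LK LD1_c6 LD2_c17 LD3_c43) (LK LD1_c3 LD2_c6 LD3_c3) Lrfl Lrfl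
theorem f58096 : Led Lsl_gt (LP (LK LD1_c4 LD2_c44 LD3_c31)) = (LP (LK LD1_c6 LD2_c17 LD3_c43)) :=
  Lgr Lrot5 (Lpr_ft (K1.f58068 IH) (Lpr_at (K1.f58067 IH) (Lpe (f25633 IH) (Lpn (LP (LK LD1_c6 LD2_c17 LD3_c43))))))
theorem f133306 : Led Lsl_cf (LP (LK LD1_c6 LD2_c17 LD3_c18)) = (LP (LK LD1_c6 LD2_c17 LD3_c43)) :=
  Lgr Lrot169 (Lpr_gt (f127036 IH) (Lpe (f125304 IH) (Lpe (f79586 IH) (Lpe (f127011 IH) (Lpr_gf (f133300 IH) (Lpe (f133271 IH) (Lpr_gf (f86183 IH) (Lpe (f58036 IH) (Lpr_gt (f58096 IH) (Lpn (LP (LK LD1_c6 LD2_c17 LD3_c43))))))))))))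
theorem f58105 : Led Lsl_dt (LP (LK LD1_c12 LD2_c11 LD3_c50)) = (LP (LK LD1_c6 LD2_c17 LD3_c43)) :=
  Lre_d IH (LK LD1_c12 LD2_c11 LD3_c50) (LK LD1_c6 LD2_c17 LD3_c43) Lrfl Lrfl
theorem f133312 : Led Lsl_ct (LP (LK LD1_c12 LD2_c11 LD3_c46)) = (LP (LK LD1_c12 LD2_c11 LD3_c50)) :=
  Lgr Lrot133 (Lpe (f84040 IH) (Lpr_ft (f113477 IH) (Lpe (f113435 IH) (Lpe (f99117 IH) (Lpe (K3.f58197 IH) (Lpe (K4.f61234 IH) (Lpe (K4.f61239 IH) (Lpr_cf (f133306 IH) (Lpe (f58105 IH) (Lpn (LP (LK LD1_c12 LD2_c11 LD3_c50))))))))))))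
theorem f133321 : Led Lsl_cf (LP (LK LD1_c12 LD2_c11 LD3_c46)) = (LP (LK LD1_c12 LD2_c11 LD3_c50)) :=
  Lgr Lrot11 (Lpr_ct (f133312 IH) (Lpn (LP (LK LD1_c12 LD2_c11 LD3_c50))))
theorem f113557 : Led Lsl_af (LP (LK LD1_c12 LD2_c11 LD3_c46)) = (LP (LK LD1_c9 LD2_c28 LD3_c13)) :=
  Lgr Lrot0 (Lpr_at (f113552 IH) (Lpn (LP (LK LD1_c9 LD2_c28 LD3_c13))))
theorem f58099 : Led Lsl_dt (LP (LK LD1_c6 LD2_c17 LD3_c43)) = (LP (LK LD1_c12 LD2_c11 LD3_c50)) :=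
  Lre_d IH (LK LD1_c6 LD2_c17 LD3_c43) (LK LD1_c12 LD2_c11 LD3_c50) Lrfl Lrfl
theorem f125269 : Led Lsl_cf (LP (LK LD1_c6 LD2_c17 LD3_c43)) = (LP (LK LD1_c6 LD2_c17 LD3_c18)) :=
  Lgr Lrot169 (Lpr_gt (f25633 IH) (Lpr_ct (f25627 IH) (Lpe (K3.f58098 IH) (Lpe (K4.f58747 IH) (Lpr_gf (K3.f78258 IH) (Lpe (K3.f77883 IH) (Lpr_gf (f125267 IH) (Lpe (K2.f23508 IH) (Lpe (K4.f120019 IH) (Lpn (LP (LK LD1_c6 LD2_c17 LD3_c18))))))))))))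
theorem f61237 : Led Lsl_ct (LP (LK LD1_c1 LD2_c29 LD3_c0)) = (LP (LK LD1_c3 LD2_c5 LD3_c51)) :=
  Lre_c IH (LK LD1_c1 LD2_c29 LD3_c0) (LK LD1_c3 LD2_c5 LD3_c51) Lrfl Lrfl
theorem f99119 : Led Lsl_dt (LP (LK LD1_c12 LD2_c11 LD3_c8)) = (LP (LK LD1_c6 LD2_c17 LD3_c19)) :=
  Lre_d IH (LK LD1_c12 LD2_c11 LD3_c8) (LK LD1_c6 LD2_c17 LD3_c19) Lrfl Lrfl
theorem f133344 : Led Lsl_ff (LP (LK LD1_c9 LD2_c28 LD3_c13)) = (LP (LK LD1_c12 LD2_c11 LD3_c8)) :=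
  Lgr Lrot103 (Lpe (f113557 IH) (Lpr_cf (f133321 IH) (Lpe (f58099 IH) (Lpr_cf (f125269 IH) (Lpe (K4.f61236 IH) (Lpe (f61237 IH) (Lpe (K4.f61242 IH) (Lpe (K4.f99121 IH) (Lpe (f99119 IH) (Lpn (LP (LK LD1_c12 LD2_c11 LD3_c8))))))))))))
theorem f133350 : Led Lsl_ft (LP (LK LD1_c9 LD2_c28 LD3_c13)) = (LP (LK LD1_c12 LD2_c11 LD3_c8)) :=
  Lgr Lrot48 (Lpr_ff (f133344 IH) (Lpn (LP (LK LD1_c12 LD2_c11 LD3_c8))))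
theorem f99120 : Led Lsl_dt (LP (LK LD1_c6 LD2_c17 LD3_c19)) = (LP (LK LD1_c12 LD2_c11 LD3_c8)) :=
  Lre_d IH (LK LD1_c6 LD2_c17 LD3_c19) (LK LD1_c12 LD2_c11 LD3_c8) Lrfl Lrfl
theorem f57668 : Led Lsl_gt (LP (LK LD1_c3 LD2_c6 LD3_c3)) = (LP (LK LD1_c6 LD2_c17 LD3_c42)) :=
  Lre_g IH (LK LD1_c3 LD2_c6 LD3_c3) (LK LD1_c6 LD2_c17 LD3_c42) Lrfl Lrfl
theorem f58079 : Led Lsl_dt (LP (LK LD1_c6 LD2_c17 LD3_c42)) = (LP (LK LD1_c12 LD2_c11 LD3_c48)) :=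
  Lre_d IH (LK LD1_c6 LD2_c17 LD3_c42) (LK LD1_c12 LD2_c11 LD3_c48) Lrfl Lrfl
theorem f133302 : Led Lsl_ct (LP (LK LD1_c12 LD2_c11 LD3_c8)) = (LP (LK LD1_c12 LD2_c11 LD3_c48)) :=
  Lgr Lrot7 (Lpe (f99120 IH) (Lpe (f113485 IH) (Lpe (f84043 IH) (Lpr_gf (f133300 IH) (Lpe (f133271 IH) (Lpr_gt (f25629 IH) (Lpr_dt (f25628 IH) (Lpr_gt (f57668 IH) (Lpr_dt (f58079 IH) (Lpn (LP (LK LD1_c12 LD2_c11 LD3_c48))))))))))))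
theorem f133404 : Led Lsl_ff (LP (LK LD1_c9 LD2_c28 LD3_c16)) = (LP (LK LD1_c12 LD2_c11 LD3_c48)) :=
  Lgr Lrot23 (Lpr_ct (f115155 IH) (Lpr_ft (f133350 IH) (Lpr_ct (f133302 IH) (Lpn (LP (LK LD1_c12 LD2_c11 LD3_c48))))))
theorem f58058 : Led Lsl_dt (LP (LK LD1_c9 LD2_c28 LD3_c16)) = (LP (LK LD1_c4 LD2_c47 LD3_c39)) :=
  Lre_d IH (LK LD1_c9 LD2_c28 LD3_c16) (LK LD1_c4 LD2_c47 LD3_c39) Lrfl Lrfl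
theorem f133409 : Led Lsl_ft (LP (LK LD1_c4 LD2_c47 LD3_c39)) = (LP (LK LD1_c6 LD2_c17 LD3_c42)) :=
  Lgr Lrot54 (Lpe (f58058 IH) (Lpr_ff (f133404 IH) (Lpe (f58079 IH) (Lpn (LP (LK LD1_c6 LD2_c17 LD3_c42))))))
theorem f133415 : Led Lsl_ff (LP (LK LD1_c4 LD2_c47 LD3_c39)) = (LP (LK LD1_c6 LD2_c17 LD3_c42)) :=
  Lgr Lrot3 (Lpr_ft (f133409 IH) (Lpn (LP (LK LD1_c6 LD2_c17 LD3_c42))))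
theorem f58075 : Led Lsl_gf (LP (LK LD1_c4 LD2_c44 LD3_c31)) = (LP (LK LD1_c6 LD2_c17 LD3_c42)) :=
  Lgr Lrot76 (Lpe (K1.f58066 IH) (Lpr_ff (K1.f58050 IH) (Lpr_gt (f57668 IH) (Lpn (LP (LK LD1_c6 LD2_c17 LD3_c42))))))
theorem f133419 : Led Lsl_at (LP (LK LD1_c4 LD2_c47 LD3_c39)) = (LP (LK LD1_c6 LD2_c17 LD3_c43)) :=
  Lgr Lrot26 (Lpr_ff (f133415 IH) (Lpe (f58075 IH) (Lpr_gt (f58096 IH) (Lpn (LP (LK LD1_c6 LD2_c17 LD3_c43))))))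
theorem f133421 : Led Lsl_af (LP (LK LD1_c4 LD2_c47 LD3_c39)) = (LP (LK LD1_c6 LD2_c17 LD3_c43)) :=
  Lgr Lrot0 (Lpr_at (f133419 IH) (Lpn (LP (LK LD1_c6 LD2_c17 LD3_c43))))
theorem f79594 : Led Lsl_gt (LP (LK LD1_c4 LD2_c47 LD3_c40)) = (LP (LK LD1_c2 LD2_c21 LD3_c43)) :=
  Lre_g IH (LK LD1_c4 LD2_c47 LD3_c40) (LK LD1_c2 LD2_c21 LD3_c43) Lrfl Lrfl
theorem f133454 : Led Lsl_ft (LP (LK LD1_c4 LD2_c47 LD3_c40)) = (LP (LK LD1_c6 LD2_c17 LD3_c43)) :=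
  Lgr Lrot2 (Lpr_gt (f79594 IH) (Lpr_gt (f58052 IH) (Lpr_af (f133421 IH) (Lpn (LP (LK LD1_c6 LD2_c17 LD3_c43))))))
theorem f79596 : Led Lsl_dt (LP (LK LD1_c4 LD2_c47 LD3_c40)) = (LP (LK LD1_c9 LD2_c28 LD3_c19)) :=
  Lre_d IH (LK LD1_c4 LD2_c47 LD3_c40) (LK LD1_c9 LD2_c28 LD3_c19) Lrfl Lrfl
theorem f133456 : Led Lsl_cf (LP (LK LD1_c9 LD2_c15 LD3_c50)) = (LP (LK LD1_c9 LD2_c28 LD3_c19)) :=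
  Lgr Lrot118 (Lpr_dt (f66784 IH) (Lpr_ct (f66781 IH) (Lpr_dt (K3.f66770 IH) (Lpr_ct (f66775 IH) (Lpr_dt (f66790 IH) (Lpe (f115147 IH) (Lpr_af (f133421 IH) (Lpe (f133454 IH) (Lpr_dt (f79596 IH) (Lpn (LP (LK LD1_c9 LD2_c28 LD3_c19))))))))))))
theorem f133467 : Led Lsl_ft (LP (LK LD1_c12 LD2_c11 LD3_c50)) = (LP (LK LD1_c9 LD2_c28 LD3_c19)) :=
  Lgr Lrot4 (Lpe (f133312 IH) (Lpr_ff (f113483 IH) (Lpr_cf (f133456 IH) (Lpn (LP (LK LD1_c9 LD2_c28 LD3_c19))))))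
theorem f133478 : Led Lsl_ff (LP (LK LD1_c12 LD2_c11 LD3_c50)) = (LP (LK LD1_c9 LD2_c28 LD3_c19)) :=
  Lgr Lrot3 (Lpr_ft (f133467 IH) (Lpn (LP (LK LD1_c9 LD2_c28 LD3_c19))))
theorem f133482 : Led Lsl_ft (LP (LK LD1_c6 LD2_c17 LD3_c43)) = (LP (LK LD1_c4 LD2_c47 LD3_c40)) :=
  Lgr Lrot54 (Lpe (f58105 IH) (Lpr_ff (f133478 IH) (Lpe (f79596 IH) (Lpn (LP (LK LD1_c4 LD2_c47 LD3_c40))))))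
theorem f133484 : Led Lsl_af (LP (LK LD1_c6 LD2_c17 LD3_c42)) = (LP (LK LD1_c4 LD2_c47 LD3_c40)) :=
  Lgr Lrot45 (Lpe (f133415 IH) (Lpr_at (f133419 IH) (Lpr_ft (f133482 IH) (Lpn (LP (LK LD1_c4 LD2_c47 LD3_c40))))))
theorem f133562 : Led Lsl_at (LP (LK LD1_c6 LD2_c17 LD3_c42)) = (LP (LK LD1_c4 LD2_c47 LD3_c40)) :=
  Lgr Lrot100 (Lpr_af (f133484 IH) (Lpn (LP (LK LD1_c4 LD2_c47 LD3_c40))))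
theorem f133611 : Led Lsl_gt (LP (LK LD1_c6 LD2_c17 LD3_c24)) = (LP (LK LD1_c4 LD2_c47 LD3_c40)) :=
  Lgr Lrot46 (Lpe (f58053 IH) (Lpr_ft (f133409 IH) (Lpr_at (f133562 IH) (Lpn (LP (LK LD1_c4 LD2_c47 LD3_c40))))))
theorem f86178 : Led Lsl_et (LP (LK LD1_c9 LD2_c28 LD3_c26)) = (LP (LK LD1_c17 LD2_c28 LD3_c22)) :=
  Lre_e IH (LK LD1_c9 LD2_c28 LD3_c26) (LK LD1_c17 LD2_c28 LD3_c22) Lrfl Lrfl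
theorem f86179 : Led Lsl_ft (LP (LK LD1_c17 LD2_c28 LD3_c22)) = (LP (LK LD1_c27 LD2_c18 LD3_c46)) :=
  Lre_f IH (LK LD1_c17 LD2_c28 LD3_c22) (LK LD1_c27 LD2_c18 LD3_c46) Lrfl Lrfl
theorem f58039 : Led Lsl_et (LP (LK LD1_c17 LD2_c18 LD3_c5)) = (LP (LK LD1_c9 LD2_c21 LD3_c50)) :=
  Lre_e IH (LK LD1_c17 LD2_c18 LD3_c5) (LK LD1_c9 LD2_c21 LD3_c50) Lrfl Lrfl
theorem f86180 : Led Lsl_ft (LP (LK LD1_c27 LD2_c7 LD3_c57)) = (LP (LK LD1_c17 LD2_c18 LD3_c5)) :=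
  Lre_f IH (LK LD1_c27 LD2_c7 LD3_c57) (LK LD1_c17 LD2_c18 LD3_c5) Lrfl Lrfl
theorem f86181 : Led Lsl_et (LP (LK LD1_c27 LD2_c18 LD3_c46)) = (LP (LK LD1_c27 LD2_c7 LD3_c57)) :=
  Lgr Lrot69 (Lpe (f86179 IH) (Lpe (f86178 IH) (Lpr_ff (f86174 IH) (Lpe (f58039 IH) (Lpe (f86180 IH) (Lpn (LP (LK LD1_c27 LD2_c7 LD3_c57))))))))
theorem f86193 : Led Lsl_ef (LP (LK LD1_c27 LD2_c18 LD3_c46)) = (LP (LK LD1_c27 LD2_c7 LD3_c57)) :=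
  Lgr Lrot88 (Lpr_et (f86181 IH) (Lpn (LP (LK LD1_c27 LD2_c7 LD3_c57))))
theorem f86198 : Led Lsl_at (LP (LK LD1_c17 LD2_c28 LD3_c25)) = (LP (LK LD1_c27 LD2_c7 LD3_c57)) :=
  Lre_a IH (LK LD1_c17 LD2_c28 LD3_c25) (LK LD1_c27 LD2_c7 LD3_c57) Lrfl Lrfl
theorem f57986 : Led Lsl_bt (LP (LK LD1_c17 LD2_c28 LD3_c25)) = (LP (LK LD1_c27 LD2_c18 LD3_c34)) :=
  Lre_b IH (LK LD1_c17 LD2_c28 LD3_c25) (LK LD1_c27 LD2_c18 LD3_c34) Lrfl Lrfl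
theorem f57987 : Led Lsl_bt (LP (LK LD1_c29 LD2_c56 LD3_c61)) = (LP (LK LD1_c21 LD2_c17 LD3_c44)) :=
  Lre_b IH (LK LD1_c29 LD2_c56 LD3_c61) (LK LD1_c21 LD2_c17 LD3_c44) Lrfl Lrfl
theorem f57988 : Led Lsl_ef (LP (LK LD1_c17 LD2_c28 LD3_c25)) = (LP (LK LD1_c21 LD2_c17 LD3_c44)) :=
  Lgr Lrot29 (Lpr_bt (f57986 IH) (Lpr_et (K1.f57971 IH) (Lpr_bt (f57987 IH) (Lpn (LP (LK LD1_c21 LD2_c17 LD3_c44))))))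
theorem f86199 : Led Lsl_at (LP (LK LD1_c27 LD2_c18 LD3_c46)) = (LP (LK LD1_c21 LD2_c17 LD3_c44)) :=
  Lgr Lrot80 (Lpr_ef (f86193 IH) (Lpe (f86198 IH) (Lpr_ef (f57988 IH) (Lpn (LP (LK LD1_c21 LD2_c17 LD3_c44))))))
theorem f86217 : Led Lsl_af (LP (LK LD1_c17 LD2_c28 LD3_c22)) = (LP (LK LD1_c12 LD2_c11 LD3_c57)) :=
  Lgr Lrot45 (Lpr_ft (f86179 IH) (Lpr_at (f86199 IH) (Lpr_ft (K1.f58009 IH) (Lpn (LP (LK LD1_c12 LD2_c11 LD3_c57))))))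
theorem f86223 : Led Lsl_at (LP (LK LD1_c17 LD2_c28 LD3_c22)) = (LP (LK LD1_c12 LD2_c11 LD3_c57)) :=
  Lgr Lrot100 (Lpr_af (f86217 IH) (Lpn (LP (LK LD1_c12 LD2_c11 LD3_c57))))
theorem f86270 : Led Lsl_af (LP (LK LD1_c9 LD2_c28 LD3_c26)) = (LP (LK LD1_c6 LD2_c17 LD3_c45)) :=
  Lgr Lrot50 (Lpr_et (f86178 IH) (Lpr_at (f86223 IH) (Lpr_et (K1.f58010 IH) (Lpn (LP (LK LD1_c6 LD2_c17 LD3_c45))))))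
theorem f85957 : Led Lsl_gt (LP (LK LD1_c4 LD2_c47 LD3_c42)) = (LP (LK LD1_c9 LD2_c28 LD3_c24)) :=
  Lre_g IH (LK LD1_c4 LD2_c47 LD3_c42) (LK LD1_c9 LD2_c28 LD3_c24) Lrfl Lrfl
theorem f86280 : Led Lsl_gf (LP (LK LD1_c9 LD2_c28 LD3_c26)) = (LP (LK LD1_c9 LD2_c28 LD3_c24)) :=
  Lgr Lrot76 (Lpr_af (f86270 IH) (Lpe (f57963 IH) (Lpr_gt (f85957 IH) (Lpn (LP (LK LD1_c9 LD2_c28 LD3_c24))))))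
theorem f58055 : Led Lsl_dt (LP (LK LD1_c2 LD2_c21 LD3_c43)) = (LP (LK LD1_c4 LD2_c47 LD3_c42)) :=
  Lre_d IH (LK LD1_c2 LD2_c21 LD3_c43) (LK LD1_c4 LD2_c47 LD3_c42) Lrfl Lrfl
theorem f58161 : Led Lsl_dt (LP (LK LD1_c1 LD2_c8 LD3_c1)) = (LP (LK LD1_c2 LD2_c21 LD3_c41)) :=
  Lre_d IH (LK LD1_c1 LD2_c8 LD3_c1) (LK LD1_c2 LD2_c21 LD3_c41) Lrfl Lrfl
theorem f58164 : Led Lsl_ct (LP (LK LD1_c4 LD2_c47 LD3_c34)) = (LP (LK LD1_c2 LD2_c21 LD3_c41)) :=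
  Lre_c IH (LK LD1_c4 LD2_c47 LD3_c34) (LK LD1_c2 LD2_c21 LD3_c41) Lrfl Lrfl
theorem f58163 : Led Lsl_dt (LP (LK LD1_c9 LD2_c28 LD3_c9)) = (LP (LK LD1_c4 LD2_c47 LD3_c34)) :=
  Lre_d IH (LK LD1_c9 LD2_c28 LD3_c9) (LK LD1_c4 LD2_c47 LD3_c34) Lrfl Lrfl
theorem f79571 : Led Lsl_gt (LP (LK LD1_c17 LD2_c10 LD3_c11)) = (LP (LK LD1_c9 LD2_c28 LD3_c9)) :=
  Lgr Lrot49 (Lpe (f78452 IH) (Lpe (f66786 IH) (Lpe (K4.f66779 IH) (Lpr_gt (K4.f79567 IH) (Lpr_dt (K1.f58061 IH) (Lpe (K3.f58159 IH) (Lpr_dt (f58161 IH) (Lpe (f58164 IH) (Lpe (f58163 IH) (Lpn (LP (LK LD1_c9 LD2_c28 LD3_c9))))))))))))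
theorem f113592 : Led Lsl_cf (LP (LK LD1_c9 LD2_c28 LD3_c24)) = (LP (LK LD1_c9 LD2_c28 LD3_c9)) :=
  Lgr Lrot169 (Lpe (f86280 IH) (Lpr_ct (f58120 IH) (Lpe (f58055 IH) (Lpe (f25010 IH) (Lpe (K4.f58117 IH) (Lpe (K4.f58132 IH) (Lpr_gf (f113590 IH) (Lpe (f79586 IH) (Lpr_gt (f79571 IH) (Lpn (LP (LK LD1_c9 LD2_c28 LD3_c9))))))))))))
theorem f113597 : Led Lsl_ct (LP (LK LD1_c9 LD2_c28 LD3_c24)) = (LP (LK LD1_c9 LD2_c28 LD3_c9)) :=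
  Lgr Lrot59 (Lpr_cf (f113592 IH) (Lpn (LP (LK LD1_c9 LD2_c28 LD3_c9))))
theorem f133464 : Led Lsl_ct (LP (LK LD1_c9 LD2_c15 LD3_c50)) = (LP (LK LD1_c9 LD2_c28 LD3_c19)) :=
  Lgr Lrot59 (Lpr_cf (f133456 IH) (Lpn (LP (LK LD1_c9 LD2_c28 LD3_c19))))
theorem f79574 : Led Lsl_dt (LP (LK LD1_c17 LD2_c10 LD3_c13)) = (LP (LK LD1_c9 LD2_c15 LD3_c48)) :=
  Lre_d IH (LK LD1_c17 LD2_c10 LD3_c13) (LK LD1_c9 LD2_c15 LD3_c48) Lrfl Lrfl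
theorem f133613 : Led Lsl_gt (LP (LK LD1_c9 LD2_c28 LD3_c9)) = (LP (LK LD1_c17 LD2_c10 LD3_c13)) :=
  Lgr Lrot94 (Lpe (f113597 IH) (Lpe (f86280 IH) (Lpr_dt (f85806 IH) (Lpr_gt (f133611 IH) (Lpr_dt (f79596 IH) (Lpe (f133464 IH) (Lpe (f78442 IH) (Lpe (f66787 IH) (Lpe (f79574 IH) (Lpn (LP (LK LD1_c17 LD2_c10 LD3_c13))))))))))))
theorem f133235 : Led Lsl_af (LP (LK LD1_c9 LD2_c28 LD3_c7)) = (LP (LK LD1_c9 LD2_c15 LD3_c58)) :=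
  Lgr Lrot0 (Lpr_at (f133233 IH) (Lpn (LP (LK LD1_c9 LD2_c15 LD3_c58))))
theorem f133615 : Led Lsl_ft (LP (LK LD1_c9 LD2_c28 LD3_c9)) = (LP (LK LD1_c9 LD2_c15 LD3_c58)) :=
  Lgr Lrot2 (Lpr_gt (f133613 IH) (Lpe (f113618 IH) (Lpr_af (f133235 IH) (Lpn (LP (LK LD1_c9 LD2_c15 LD3_c58))))))
theorem f133625 : Led Lsl_ff (LP (LK LD1_c9 LD2_c28 LD3_c9)) = (LP (LK LD1_c9 LD2_c15 LD3_c58)) :=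
  Lgr Lrot3 (Lpr_ft (f133615 IH) (Lpn (LP (LK LD1_c9 LD2_c15 LD3_c58))))
theorem f133633 : Led Lsl_ft (LP (LK LD1_c4 LD2_c47 LD3_c34)) = (LP (LK LD1_c4 LD2_c40 LD3_c16)) :=
  Lgr Lrot54 (Lpe (f58163 IH) (Lpr_ff (f133625 IH) (Lpe (f79524 IH) (Lpn (LP (LK LD1_c4 LD2_c40 LD3_c16))))))
theorem f58162 : Led Lsl_ct (LP (LK LD1_c2 LD2_c21 LD3_c41)) = (LP (LK LD1_c4 LD2_c47 LD3_c34)) :=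
  Lre_c IH (LK LD1_c2 LD2_c21 LD3_c41) (LK LD1_c4 LD2_c47 LD3_c34) Lrfl Lrfl
theorem f133640 : Led Lsl_ff (LP (LK LD1_c2 LD2_c21 LD3_c41)) = (LP (LK LD1_c2 LD2_c17 LD3_c14)) :=
  Lgr Lrot23 (Lpr_ct (f58162 IH) (Lpr_ft (f133633 IH) (Lpr_ct (f78260 IH) (Lpn (LP (LK LD1_c2 LD2_c17 LD3_c14))))))
theorem f133664 : Led Lsl_ft (LP (LK LD1_c2 LD2_c21 LD3_c41)) = (LP (LK LD1_c2 LD2_c17 LD3_c14)) :=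
  Lgr Lrot48 (Lpr_ff (f133640 IH) (Lpn (LP (LK LD1_c2 LD2_c17 LD3_c14))))
theorem f77901 : Led Lsl_dt (LP (LK LD1_c2 LD2_c17 LD3_c14)) = (LP (LK LD1_c1 LD2_c5 LD3_c34)) :=
  Lre_d IH (LK LD1_c2 LD2_c17 LD3_c14) (LK LD1_c1 LD2_c5 LD3_c34) Lrfl Lrfl
theorem f133668 : Led Lsl_ff (LP (LK LD1_c1 LD2_c8 LD3_c1)) = (LP (LK LD1_c1 LD2_c5 LD3_c34)) :=
  Lgr Lrot19 (Lpr_dt (f58161 IH) (Lpr_ft (f133664 IH) (Lpr_dt (f77901 IH) (Lpn (LP (LK LD1_c1 LD2_c5 LD3_c34))))))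
theorem f24997 : Led Lsl_bt (LP (LK LD1_c1 LD2_c8 LD3_c1)) = (LP (LK LD1_c2 LD2_c21 LD3_c39)) :=
  Lre_b IH (LK LD1_c1 LD2_c8 LD3_c1) (LK LD1_c2 LD2_c21 LD3_c39) Lrfl Lrfl
theorem f133675 : Led Lsl_ft (LP (LK LD1_c2 LD2_c21 LD3_c39)) = (LP (LK LD1_c2 LD2_c17 LD3_c11)) :=
  Lgr Lrot75 (Lpe (f24997 IH) (Lpr_ff (f133668 IH) (Lpe (K2.f77888 IH) (Lpn (LP (LK LD1_c2 LD2_c17 LD3_c11))))))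
theorem f126618 : Led Lsl_gt (LP (LK LD1_c2 LD2_c21 LD3_c39)) = (LP (LK LD1_c1 LD2_c32 LD3_c28)) :=
  Lgr Lrot164 (Lpe (f24997 IH) (Lpr_ct (K3.f25002 IH) (Lpr_gf (f125300 IH) (Lpr_cf (f61651 IH) (Lpr_gf (f120021 IH) (Lpr_bf (f77884 IH) (Lpr_ct (K2.f77858 IH) (Lpr_gf (f126612 IH) (Lpe (f24348 IH) (Lpr_bt (K3.f24367 IH) (Lpn (LP (LK LD1_c1 LD2_c32 LD3_c28)))))))))))))
theorem f133681 : Led Lsl_gt (LP (LK LD1_c1 LD2_c32 LD3_c28)) = (LP (LK LD1_c3 LD2_c1 LD3_c39)) :=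
  Lgr Lrot46 (Lpe (f126618 IH) (Lpr_ft (f133675 IH) (Lpr_at (K3.f77889 IH) (Lpn (LP (LK LD1_c3 LD2_c1 LD3_c39))))))
theorem f113343 : Led Lsl_et (LP (LK LD1_c0 LD2_c42 LD3_c49)) = (LP (LK LD1_c1 LD2_c32 LD3_c28)) :=
  Lre_e IH (LK LD1_c0 LD2_c42 LD3_c49) (LK LD1_c1 LD2_c32 LD3_c28) Lrfl Lrfl
theorem f64408 : Led Lsl_et (LP (LK LD1_c1 LD2_c26 LD3_c52)) = (LP (LK LD1_c3 LD2_c1 LD3_c39)) :=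
  Lre_e IH (LK LD1_c1 LD2_c26 LD3_c52) (LK LD1_c3 LD2_c1 LD3_c39) Lrfl Lrfl
theorem f133685 : Led Lsl_ef (LP (LK LD1_c0 LD2_c41 LD3_c32)) = (LP (LK LD1_c0 LD2_c42 LD3_c52)) :=
  Lgr Lrot167 (Lpe (K4.f113337 IH) (Lpe (K4.f102107 IH) (Lpr_gt (K4.f113341 IH) (Lpe (f26149 IH) (Lpr_et (f113343 IH) (Lpr_gt (f133681 IH) (Lpe (f64408 IH) (Lpe (K3.f79608 IH) (Lpe (K3.f104308 IH) (Lpe (K3.f26166 IH) (Lpn (LP (LK LD1_c0 LD2_c42 LD3_c52)))))))))))))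
theorem f113410 : Led Lsl_et (LP (LK LD1_c1 LD2_c6 LD3_c40)) = (LP (LK LD1_c2 LD2_c19 LD3_c5)) :=
  Lre_e IH (LK LD1_c1 LD2_c6 LD3_c40) (LK LD1_c2 LD2_c19 LD3_c5) Lrfl Lrfl
theorem f107456 : Led Lsl_ff (LP (LK LD1_c0 LD2_c42 LD3_c52)) = (LP (LK LD1_c1 LD2_c7 LD3_c5)) :=
  Lgr Lrot25 (Lpe (K3.f26150 IH) (Lpr_ft (K3.f107454 IH) (Lpe (K3.f23470 IH) (Lpn (LP (LK LD1_c1 LD2_c7 LD3_c5))))))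
theorem f133687 : Led Lsl_ft (LP (LK LD1_c2 LD2_c19 LD3_c5)) = (LP (LK LD1_c2 LD2_c19 LD3_c24)) :=
  Lgr Lrot86 (Lpe (f113410 IH) (Lpe (f113100 IH) (Lpr_ef (f133685 IH) (Lpr_ff (f107456 IH) (Lpe (f120045 IH) (Lpn (LP (LK LD1_c2 LD2_c19 LD3_c24))))))))
theorem f113394 : Led Lsl_dt (LP (LK LD1_c4 LD2_c43 LD3_c1)) = (LP (LK LD1_c2 LD2_c19 LD3_c5)) :=
  Lre_d IH (LK LD1_c4 LD2_c43 LD3_c1) (LK LD1_c2 LD2_c19 LD3_c5) Lrfl Lrfl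
theorem f120051 : Led Lsl_dt (LP (LK LD1_c2 LD2_c19 LD3_c24)) = (LP (LK LD1_c4 LD2_c43 LD3_c21)) :=
  Lre_d IH (LK LD1_c2 LD2_c19 LD3_c24) (LK LD1_c4 LD2_c43 LD3_c21) Lrfl Lrfl
theorem f133703 : Led Lsl_ff (LP (LK LD1_c4 LD2_c43 LD3_c1)) = (LP (LK LD1_c4 LD2_c43 LD3_c21)) :=
  Lgr Lrot19 (Lpr_dt (f113394 IH) (Lpr_ft (f133687 IH) (Lpr_dt (f120051 IH) (Lpn (LP (LK LD1_c4 LD2_c43 LD3_c21))))))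
theorem f110010 : Led Lsl_dt (LP (LK LD1_c2 LD2_c19 LD3_c5)) = (LP (LK LD1_c4 LD2_c43 LD3_c1)) :=
  Lre_d IH (LK LD1_c2 LD2_c19 LD3_c5) (LK LD1_c4 LD2_c43 LD3_c1) Lrfl Lrfl
theorem f126648 : Led Lsl_bf (LP (LK LD1_c3 LD2_c1 LD3_c17)) = (LP (LK LD1_c4 LD2_c43 LD3_c1)) :=
  Lgr Lrot93 (Lpr_dt (f62389 IH) (Lpr_bt (f126641 IH) (Lpr_dt (f110010 IH) (Lpn (LP (LK LD1_c4 LD2_c43 LD3_c1))))))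
theorem f120052 : Led Lsl_bt (LP (LK LD1_c2 LD2_c19 LD3_c24)) = (LP (LK LD1_c1 LD2_c7 LD3_c13)) :=
  Lgr Lrot119 (Lpr_ef (f120049 IH) (Lpr_bf (K3.f23470 IH) (Lpe (K3.f23554 IH) (Lpn (LP (LK LD1_c1 LD2_c7 LD3_c13))))))
theorem f120048 : Led Lsl_dt (LP (LK LD1_c4 LD2_c43 LD3_c21)) = (LP (LK LD1_c2 LD2_c19 LD3_c24)) :=
  Lre_d IH (LK LD1_c4 LD2_c43 LD3_c21) (LK LD1_c2 LD2_c19 LD3_c24) Lrfl Lrfl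
theorem f120054 : Led Lsl_bf (LP (LK LD1_c4 LD2_c43 LD3_c21)) = (LP (LK LD1_c2 LD2_c19 LD3_c57)) :=
  Lgr Lrot93 (Lpr_dt (f120048 IH) (Lpr_bt (f120052 IH) (Lpr_dt (K3.f107441 IH) (Lpn (LP (LK LD1_c2 LD2_c19 LD3_c57))))))
theorem f133707 : Led Lsl_ft (LP (LK LD1_c3 LD2_c1 LD3_c17)) = (LP (LK LD1_c2 LD2_c19 LD3_c57)) :=
  Lgr Lrot75 (Lpr_bf (f126648 IH) (Lpr_ff (f133703 IH) (Lpr_bf (f120054 IH) (Lpn (LP (LK LD1_c2 LD2_c19 LD3_c57))))))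
theorem f126681 : Led Lsl_ct (LP (LK LD1_c6 LD2_c9 LD3_c36)) = (LP (LK LD1_c3 LD2_c1 LD3_c17)) :=
  Lre_c IH (LK LD1_c6 LD2_c9 LD3_c36) (LK LD1_c3 LD2_c1 LD3_c17) Lrfl Lrfl
theorem f120063 : Led Lsl_ct (LP (LK LD1_c2 LD2_c19 LD3_c57)) = (LP (LK LD1_c4 LD2_c44 LD3_c1)) :=
  Lre_c IH (LK LD1_c2 LD2_c19 LD3_c57) (LK LD1_c4 LD2_c44 LD3_c1) Lrfl Lrfl
theorem f133724 : Led Lsl_ff (LP (LK LD1_c6 LD2_c9 LD3_c36)) = (LP (LK LD1_c4 LD2_c44 LD3_c1)) :=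
  Lgr Lrot23 (Lpr_ct (f126681 IH) (Lpr_ft (f133707 IH) (Lpr_ct (f120063 IH) (Lpn (LP (LK LD1_c4 LD2_c44 LD3_c1))))))
theorem f24371 : Led Lsl_ct (LP (LK LD1_c1 LD2_c33 LD3_c57)) = (LP (LK LD1_c3 LD2_c14 LD3_c48)) :=
  Lre_c IH (LK LD1_c1 LD2_c33 LD3_c57) (LK LD1_c3 LD2_c14 LD3_c48) Lrfl Lrfl
theorem f107439 : Led Lsl_at (LP (LK LD1_c3 LD2_c14 LD3_c48)) = (LP (LK LD1_c4 LD2_c44 LD3_c1)) :=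
  Lgr Lrot107 (Lpe (f24371 IH) (Lpr_af (K3.f107433 IH) (Lpe (f107438 IH) (Lpn (LP (LK LD1_c4 LD2_c44 LD3_c1))))))
theorem f24355 : Led Lsl_ct (LP (LK LD1_c3 LD2_c14 LD3_c48)) = (LP (LK LD1_c1 LD2_c33 LD3_c57)) :=
  Lre_c IH (LK LD1_c3 LD2_c14 LD3_c48) (LK LD1_c1 LD2_c33 LD3_c57) Lrfl Lrfl
theorem f62632 : Led Lsl_ct (LP (LK LD1_c3 LD2_c1 LD3_c14)) = (LP (LK LD1_c6 LD2_c9 LD3_c33)) :=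
  Lre_c IH (LK LD1_c3 LD2_c1 LD3_c14) (LK LD1_c6 LD2_c9 LD3_c33) Lrfl Lrfl
theorem f125361 : Led Lsl_ff (LP (LK LD1_c3 LD2_c14 LD3_c48)) = (LP (LK LD1_c6 LD2_c9 LD3_c33)) :=
  Lgr Lrot23 (Lpr_ct (f24355 IH) (Lpr_ft (f125356 IH) (Lpr_ct (f62632 IH) (Lpn (LP (LK LD1_c6 LD2_c9 LD3_c33))))))
theorem f133736 : Led Lsl_at (LP (LK LD1_c6 LD2_c9 LD3_c36)) = (LP (LK LD1_c6 LD2_c9 LD3_c33)) :=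
  Lgr Lrot66 (Lpr_ff (f133724 IH) (Lpe (f107439 IH) (Lpr_ff (f125361 IH) (Lpn (LP (LK LD1_c6 LD2_c9 LD3_c33))))))
theorem f133767 : Led Lsl_af (LP (LK LD1_c6 LD2_c9 LD3_c36)) = (LP (LK LD1_c6 LD2_c9 LD3_c33)) :=
  Lgr Lrot0 (Lpr_at (f133736 IH) (Lpn (LP (LK LD1_c6 LD2_c9 LD3_c33))))
theorem f62618 : Led Lsl_ct (LP (LK LD1_c6 LD2_c9 LD3_c33)) = (LP (LK LD1_c3 LD2_c1 LD3_c14)) :=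
  Lre_c IH (LK LD1_c6 LD2_c9 LD3_c33) (LK LD1_c3 LD2_c1 LD3_c14) Lrfl Lrfl
theorem f125354 : Led Lsl_ft (LP (LK LD1_c3 LD2_c14 LD3_c48)) = (LP (LK LD1_c6 LD2_c9 LD3_c33)) :=
  Lgr Lrot4 (Lpe (f24371 IH) (Lpr_ff (f125347 IH) (Lpe (f62618 IH) (Lpn (LP (LK LD1_c6 LD2_c9 LD3_c33))))))
theorem f133793 : Led Lsl_gt (LP (LK LD1_c3 LD2_c14 LD3_c48)) = (LP (LK LD1_c6 LD2_c33 LD3_c3)) :=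
  Lre_g IH (LK LD1_c3 LD2_c14 LD3_c48) (LK LD1_c6 LD2_c33 LD3_c3) Lrfl Lrfl
theorem f133794 : Led Lsl_gf (LP (LK LD1_c6 LD2_c9 LD3_c36)) = (LP (LK LD1_c6 LD2_c33 LD3_c3)) :=
  Lgr Lrot76 (Lpr_af (f133767 IH) (Lpe (f125354 IH) (Lpr_gt (f133793 IH) (Lpn (LP (LK LD1_c6 LD2_c33 LD3_c3))))))
theorem f57568 : Led Lsl_ct (LP (LK LD1_c3 LD2_c1 LD3_c17)) = (LP (LK LD1_c6 LD2_c9 LD3_c36)) :=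
  Lre_c IH (LK LD1_c3 LD2_c1 LD3_c17) (LK LD1_c6 LD2_c9 LD3_c36) Lrfl Lrfl
theorem f133709 : Led Lsl_ft (LP (LK LD1_c4 LD2_c43 LD3_c1)) = (LP (LK LD1_c4 LD2_c43 LD3_c21)) :=
  Lgr Lrot48 (Lpr_ff (f133703 IH) (Lpn (LP (LK LD1_c4 LD2_c43 LD3_c21))))
theorem f120057 : Led Lsl_bt (LP (LK LD1_c4 LD2_c43 LD3_c21)) = (LP (LK LD1_c2 LD2_c19 LD3_c57)) :=
  Lgr Lrot127 (Lpr_bf (f120054 IH) (Lpn (LP (LK LD1_c2 LD2_c19 LD3_c57))))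
theorem f126836 : Led Lsl_ft (LP (LK LD1_c2 LD2_c19 LD3_c57)) = (LP (LK LD1_c3 LD2_c1 LD3_c17)) :=
  Lgr Lrot54 (Lpe (K3.f107441 IH) (Lpr_ff (f126832 IH) (Lpe (f62389 IH) (Lpn (LP (LK LD1_c3 LD2_c1 LD3_c17))))))
theorem f133715 : Led Lsl_bf (LP (LK LD1_c4 LD2_c43 LD3_c1)) = (LP (LK LD1_c3 LD2_c1 LD3_c17)) :=
  Lgr Lrot61 (Lpr_ft (f133709 IH) (Lpr_bt (f120057 IH) (Lpr_ft (f126836 IH) (Lpn (LP (LK LD1_c3 LD2_c1 LD3_c17))))))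
theorem f58107 : Led Lsl_at (LP (LK LD1_c2 LD2_c20 LD3_c19)) = (LP (LK LD1_c1 LD2_c8 LD3_c2)) :=
  Lre_a IH (LK LD1_c2 LD2_c20 LD3_c19) (LK LD1_c1 LD2_c8 LD3_c2) Lrfl Lrfl
theorem f58118 : Led Lsl_gf (LP (LK LD1_c2 LD2_c21 LD3_c42)) = (LP (LK LD1_c3 LD2_c5 LD3_c55)) :=
  Lgr Lrot47 (Lpr_gt (K4.f58117 IH) (Lpe (f58107 IH) (Lpr_ff (K1.f58094 IH) (Lpn (LP (LK LD1_c3 LD2_c5 LD3_c55))))))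
theorem f58028 : Led Lsl_bt (LP (LK LD1_c2 LD2_c20 LD3_c19)) = (LP (LK LD1_c1 LD2_c34 LD3_c15)) :=
  Lre_b IH (LK LD1_c2 LD2_c20 LD3_c19) (LK LD1_c1 LD2_c34 LD3_c15) Lrfl Lrfl
theorem f58110 : Led Lsl_bt (LP (LK LD1_c3 LD2_c1 LD3_c24)) = (LP (LK LD1_c3 LD2_c5 LD3_c55)) :=
  Lgr Lrot35 (Lpe (K4.f58109 IH) (Lpe (f58028 IH) (Lpr_ff (K1.f58094 IH) (Lpn (LP (LK LD1_c3 LD2_c5 LD3_c55))))))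
theorem f58130 : Led Lsl_ct (LP (LK LD1_c3 LD2_c1 LD3_c24)) = (LP (LK LD1_c6 LD2_c9 LD3_c54)) :=
  Lre_c IH (LK LD1_c3 LD2_c1 LD3_c24) (LK LD1_c6 LD2_c9 LD3_c54) Lrfl Lrfl
theorem f88982 : Led Lsl_bt (LP (LK LD1_c1 LD2_c31 LD3_c57)) = (LP (LK LD1_c3 LD2_c10 LD3_c60)) :=
  Lre_b IH (LK LD1_c1 LD2_c31 LD3_c57) (LK LD1_c3 LD2_c10 LD3_c60) Lrfl Lrfl
theorem f88983 : Led Lsl_ct (LP (LK LD1_c1 LD2_c31 LD3_c57)) = (LP (LK LD1_c3 LD2_c11 LD3_c0)) :=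
  Lre_c IH (LK LD1_c1 LD2_c31 LD3_c57) (LK LD1_c3 LD2_c11 LD3_c0) Lrfl Lrfl
theorem f131321 : Led Lsl_gf (LP (LK LD1_c3 LD2_c11 LD3_c0)) = (LP (LK LD1_c6 LD2_c26 LD3_c13)) :=
  Lgr Lrot126 (Lpe (f88983 IH) (Lpr_bt (f88982 IH) (Lpe (K3.f88972 IH) (Lpr_ct (K3.f88979 IH) (Lpr_gt (K3.f58131 IH) (Lpe (f58130 IH) (Lpr_bt (f58110 IH) (Lpe (f58118 IH) (Lpe (f58137 IH) (Lpr_ct (f131307 IH) (Lpn (LP (LK LD1_c6 LD2_c26 LD3_c13)))))))))))))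
theorem f86336 : Led Lsl_ct (LP (LK LD1_c3 LD2_c11 LD3_c0)) = (LP (LK LD1_c1 LD2_c31 LD3_c57)) :=
  Lre_c IH (LK LD1_c3 LD2_c11 LD3_c0) (LK LD1_c1 LD2_c31 LD3_c57) Lrfl Lrfl
theorem f82464 : Led Lsl_dt (LP (LK LD1_c1 LD2_c31 LD3_c57)) = (LP (LK LD1_c0 LD2_c42 LD3_c32)) :=
  Lre_d IH (LK LD1_c1 LD2_c31 LD3_c57) (LK LD1_c0 LD2_c42 LD3_c32) Lrfl Lrfl
theorem f131323 : Led Lsl_gt (LP (LK LD1_c4 LD2_c43 LD3_c1)) = (LP (LK LD1_c4 LD2_c47 LD3_c36)) :=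
  Lgr Lrot9 (Lpe (f110010 IH) (Lpr_gt (f126706 IH) (Lpr_ct (K3.f24994 IH) (Lpe (K3.f86333 IH) (Lpr_ct (K3.f82463 IH) (Lpe (f82464 IH) (Lpe (f86336 IH) (Lpr_gf (f131321 IH) (Lpe (f131307 IH) (Lpn (LP (LK LD1_c4 LD2_c47 LD3_c36))))))))))))
theorem f88985 : Led Lsl_bt (LP (LK LD1_c3 LD2_c28 LD3_c37)) = (LP (LK LD1_c1 LD2_c41 LD3_c6)) :=
  Lre_b IH (LK LD1_c3 LD2_c28 LD3_c37) (LK LD1_c1 LD2_c41 LD3_c6) Lrfl Lrfl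
theorem f133799 : Led Lsl_ct (LP (LK LD1_c3 LD2_c28 LD3_c37)) = (LP (LK LD1_c6 LD2_c33 LD3_c3)) :=
  Lgr Lrot64 (Lpr_bt (f88985 IH) (Lpr_gf (K3.f88972 IH) (Lpe (f88982 IH) (Lpr_ct (f88983 IH) (Lpr_gf (f131321 IH) (Lpe (f131307 IH) (Lpe (f131323 IH) (Lpr_bf (f133715 IH) (Lpr_ct (f57568 IH) (Lpr_gf (f133794 IH) (Lpn (LP (LK LD1_c6 LD2_c33 LD3_c3)))))))))))))
theorem f105640 : Led Lsl_gf (LP (LK LD1_c3 LD2_c28 LD3_c33)) = (LP (LK LD1_c1 LD2_c41 LD3_c6)) :=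
  Lgr Lrot145 (Lpe (f17748 IH) (Lpr_et (K0.f17740 IH) (Lpr_gt (K2.f10767 IH) (Lpr_dt (K2.f17778 IH) (Lpe (K3.f93363 IH) (Lpe (K1.f62313 IH) (Lpr_et (K3.f105632 IH) (Lpr_gt (K3.f62194 IH) (Lpe (K3.f88679 IH) (Lpr_dt (K3.f85328 IH) (Lpn (LP (LK LD1_c1 LD2_c41 LD3_c6)))))))))))))
theorem f114380 : Led Lsl_bt (LP (LK LD1_c3 LD2_c1 LD3_c37)) = (LP (LK LD1_c6 LD2_c9 LD3_c60)) :=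
  Lre_b IH (LK LD1_c3 LD2_c1 LD3_c37) (LK LD1_c6 LD2_c9 LD3_c60) Lrfl Lrfl
theorem f107437 : Led Lsl_bt (LP (LK LD1_c1 LD2_c33 LD3_c57)) = (LP (LK LD1_c3 LD2_c14 LD3_c41)) :=
  Lre_b IH (LK LD1_c1 LD2_c33 LD3_c57) (LK LD1_c3 LD2_c14 LD3_c41) Lrfl Lrfl
theorem f133816 : Led Lsl_gt (LP (LK LD1_c6 LD2_c9 LD3_c60)) = (LP (LK LD1_c3 LD2_c14 LD3_c41)) :=
  Lgr Lrot164 (Lpe (f114380 IH) (Lpr_ct (f114377 IH) (Lpe (f114375 IH) (Lpe (f17756 IH) (Lpr_gf (f105640 IH) (Lpe (f88985 IH) (Lpr_ct (f133799 IH) (Lpe (f133793 IH) (Lpe (f24371 IH) (Lpr_bt (f107437 IH) (Lpn (LP (LK LD1_c3 LD2_c14 LD3_c41)))))))))))))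
theorem f78794 : Led Lsl_ft (LP (LK LD1_c6 LD2_c9 LD3_c60)) = (LP (LK LD1_c3 LD2_c1 LD3_c30)) :=
  Lre_f IH (LK LD1_c6 LD2_c9 LD3_c60) (LK LD1_c3 LD2_c1 LD3_c30) Lrfl Lrfl
theorem f78784 : Led Lsl_at (LP (LK LD1_c3 LD2_c1 LD3_c30)) = (LP (LK LD1_c6 LD2_c9 LD3_c56)) :=
  Lre_a IH (LK LD1_c3 LD2_c1 LD3_c30) (LK LD1_c6 LD2_c9 LD3_c56) Lrfl Lrfl
theorem f133826 : Led Lsl_gf (LP (LK LD1_c6 LD2_c9 LD3_c56)) = (LP (LK LD1_c3 LD2_c14 LD3_c41)) :=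
  Lgr Lrot76 (Lpe (f78784 IH) (Lpe (f78794 IH) (Lpr_gt (f133816 IH) (Lpn (LP (LK LD1_c3 LD2_c14 LD3_c41))))))
theorem f114470 : Led Lsl_df (LP (LK LD1_c1 LD2_c34 LD3_c47)) = (LP (LK LD1_c1 LD2_c26 LD3_c46)) :=
  Lgr Lrot153 (Lpe (K3.f111004 IH) (Lpr_dt (K3.f78133 IH) (Lpe (K3.f79259 IH) (Lpe (K3.f23343 IH) (Lpr_gf (K3.f79252 IH) (Lpe (K3.f25110 IH) (Lpr_gf (K2.f77794 IH) (Lpe (K2.f62641 IH) (Lpr_gt (K4.f114466 IH) (Lpn (LP (LK LD1_c1 LD2_c26 LD3_c46))))))))))))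
theorem f62635 : Led Lsl_dt (LP (LK LD1_c3 LD2_c7 LD3_c3)) = (LP (LK LD1_c6 LD2_c19 LD3_c16)) :=
  Lre_d IH (LK LD1_c3 LD2_c7 LD3_c3) (LK LD1_c6 LD2_c19 LD3_c16) Lrfl Lrfl
theorem f77842 : Led Lsl_et (LP (LK LD1_c3 LD2_c1 LD3_c27)) = (LP (LK LD1_c1 LD2_c26 LD3_c44)) :=
  Lre_e IH (LK LD1_c3 LD2_c1 LD3_c27) (LK LD1_c1 LD2_c26 LD3_c44) Lrfl Lrfl
theorem f78785 : Led Lsl_dt (LP (LK LD1_c3 LD2_c1 LD3_c27)) = (LP (LK LD1_c6 LD2_c9 LD3_c56)) :=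
  Lre_d IH (LK LD1_c3 LD2_c1 LD3_c27) (LK LD1_c6 LD2_c9 LD3_c56) Lrfl Lrfl
theorem f126604 : Led Lsl_gf (LP (LK LD1_c6 LD2_c19 LD3_c16)) = (LP (LK LD1_c6 LD2_c9 LD3_c56)) :=
  Lgr Lrot145 (Lpe (f62635 IH) (Lpr_et (K2.f62639 IH) (Lpr_gt (K4.f114466 IH) (Lpe (f114470 IH) (Lpe (K3.f111004 IH) (Lpe (K3.f78135 IH) (Lpr_et (f126599 IH) (Lpe (K4.f114916 IH) (Lpe (f77842 IH) (Lpr_dt (f78785 IH) (Lpn (LP (LK LD1_c6 LD2_c9 LD3_c56)))))))))))))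
theorem f125351 : Led Lsl_bt (LP (LK LD1_c6 LD2_c9 LD3_c32)) = (LP (LK LD1_c3 LD2_c1 LD3_c14)) :=
  Lre_b IH (LK LD1_c6 LD2_c9 LD3_c32) (LK LD1_c3 LD2_c1 LD3_c14) Lrfl Lrfl
theorem f125352 : Led Lsl_ft (LP (LK LD1_c3 LD2_c14 LD3_c41)) = (LP (LK LD1_c6 LD2_c9 LD3_c32)) :=
  Lgr Lrot75 (Lpe (f107437 IH) (Lpr_ff (f125347 IH) (Lpe (f125351 IH) (Lpn (LP (LK LD1_c6 LD2_c9 LD3_c32))))))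
theorem f133834 : Led Lsl_af (LP (LK LD1_c6 LD2_c19 LD3_c16)) = (LP (LK LD1_c6 LD2_c9 LD3_c32)) :=
  Lgr Lrot31 (Lpr_gf (f126604 IH) (Lpr_gf (f133826 IH) (Lpr_ft (f125352 IH) (Lpn (LP (LK LD1_c6 LD2_c9 LD3_c32))))))
theorem f78164 : Led Lsl_gf (LP (LK LD1_c1 LD2_c29 LD3_c25)) = (LP (LK LD1_c3 LD2_c6 LD3_c22)) :=
  Lgr Lrot145 (Lpe (K2.f25082 IH) (Lpr_et (K2.f25087 IH) (Lpr_gt (K2.f25053 IH) (Lpr_dt (K2.f25054 IH) (Lpr_gt (K2.f78129 IH) (Lpe (K2.f9763 IH) (Lpr_et (K2.f76717 IH) (Lpe (K2.f76707 IH) (Lpe (K4.f61755 IH) (Lpr_dt (K4.f61751 IH) (Lpn (LP (LK LD1_c3 LD2_c6 LD3_c22)))))))))))))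
theorem f67685 : Led Lsl_ff (LP (LK LD1_c3 LD2_c6 LD3_c25)) = (LP (LK LD1_c3 LD2_c11 LD3_c49)) :=
  Lgr Lrot30 (Lpr_at (K2.f67423 IH) (Lpr_ft (K2.f67666 IH) (Lpr_at (K2.f67684 IH) (Lpn (LP (LK LD1_c3 LD2_c11 LD3_c49))))))
theorem f78166 : Led Lsl_gt (LP (LK LD1_c3 LD2_c11 LD3_c49)) = (LP (LK LD1_c3 LD2_c6 LD3_c22)) :=
  Lgr Lrot5 (Lpe (f67685 IH) (Lpr_at (K2.f67423 IH) (Lpr_gf (f78164 IH) (Lpn (LP (LK LD1_c3 LD2_c6 LD3_c22))))))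
theorem f61752 : Led Lsl_ct (LP (LK LD1_c3 LD2_c6 LD3_c22)) = (LP (LK LD1_c6 LD2_c18 LD3_c12)) :=
  Lre_c IH (LK LD1_c3 LD2_c6 LD3_c22) (LK LD1_c6 LD2_c18 LD3_c12) Lrfl Lrfl
theorem f78169 : Led Lsl_gt (LP (LK LD1_c6 LD2_c18 LD3_c12)) = (LP (LK LD1_c12 LD2_c12 LD3_c31)) :=
  Lre_g IH (LK LD1_c6 LD2_c18 LD3_c12) (LK LD1_c12 LD2_c12 LD3_c31) Lrfl Lrfl
theorem f62643 : Led Lsl_dt (LP (LK LD1_c6 LD2_c19 LD3_c16)) = (LP (LK LD1_c3 LD2_c7 LD3_c3)) :=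
  Lre_d IH (LK LD1_c6 LD2_c19 LD3_c16) (LK LD1_c3 LD2_c7 LD3_c3) Lrfl Lrfl
theorem f125415 : Led Lsl_ct (LP (LK LD1_c12 LD2_c12 LD3_c31)) = (LP (LK LD1_c6 LD2_c19 LD3_c16)) :=
  Lgr Lrot110 (Lpe (f78169 IH) (Lpe (f61752 IH) (Lpe (f78166 IH) (Lpe (K2.f67712 IH) (Lpe (K4.f67890 IH) (Lpe (f84308 IH) (Lpr_gt (f125411 IH) (Lpe (K2.f62629 IH) (Lpe (f62643 IH) (Lpn (LP (LK LD1_c6 LD2_c19 LD3_c16))))))))))))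
theorem f78182 : Led Lsl_dt (LP (LK LD1_c21 LD2_c18 LD3_c22)) = (LP (LK LD1_c12 LD2_c12 LD3_c31)) :=
  Lre_d IH (LK LD1_c21 LD2_c18 LD3_c22) (LK LD1_c12 LD2_c12 LD3_c31) Lrfl Lrfl
theorem f24376 : Led Lsl_dt (LP (LK LD1_c3 LD2_c14 LD3_c41)) = (LP (LK LD1_c1 LD2_c33 LD3_c53)) :=
  Lre_d IH (LK LD1_c3 LD2_c14 LD3_c41) (LK LD1_c1 LD2_c33 LD3_c53) Lrfl Lrfl
theorem f61730 : Led Lsl_dt (LP (LK LD1_c3 LD2_c6 LD3_c22)) = (LP (LK LD1_c1 LD2_c29 LD3_c17)) :=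
  Lre_d IH (LK LD1_c3 LD2_c6 LD3_c22) (LK LD1_c1 LD2_c29 LD3_c17) Lrfl Lrfl
theorem f61739 : Led Lsl_dt (LP (LK LD1_c3 LD2_c1 LD3_c30)) = (LP (LK LD1_c1 LD2_c26 LD3_c45)) :=
  Lre_d IH (LK LD1_c3 LD2_c1 LD3_c30) (LK LD1_c1 LD2_c26 LD3_c45) Lrfl Lrfl
theorem f61740 : Led Lsl_gt (LP (LK LD1_c6 LD2_c9 LD3_c58)) = (LP (LK LD1_c3 LD2_c1 LD3_c30)) :=
  Lre_g IH (LK LD1_c6 LD2_c9 LD3_c58) (LK LD1_c3 LD2_c1 LD3_c30) Lrfl Lrfl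
theorem f126716 : Led Lsl_dt (LP (LK LD1_c3 LD2_c12 LD3_c1)) = (LP (LK LD1_c6 LD2_c9 LD3_c58)) :=
  Lgr Lrot57 (Lpr_gf (f126710 IH) (Lpe (K3.f25065 IH) (Lpr_gt (K4.f86325 IH) (Lpr_dt (K2.f67712 IH) (Lpr_gt (f78166 IH) (Lpr_dt (f61730 IH) (Lpr_cf (K2.f61728 IH) (Lpe (f61739 IH) (Lpe (f61740 IH) (Lpn (LP (LK LD1_c6 LD2_c9 LD3_c58))))))))))))
theorem f126718 : Led Lsl_ct (LP (LK LD1_c6 LD2_c9 LD3_c58)) = (LP (LK LD1_c12 LD2_c0 LD3_c46)) :=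
  Lre_c IH (LK LD1_c6 LD2_c9 LD3_c58) (LK LD1_c12 LD2_c0 LD3_c46) Lrfl Lrfl
theorem f133988 : Led Lsl_dt (LP (LK LD1_c12 LD2_c0 LD3_c46)) = (LP (LK LD1_c21 LD2_c5 LD3_c60)) :=
  Lre_d IH (LK LD1_c12 LD2_c0 LD3_c46) (LK LD1_c21 LD2_c5 LD3_c60) Lrfl Lrfl
theorem f133989 : Led Lsl_cf (LP (LK LD1_c21 LD2_c18 LD3_c22)) = (LP (LK LD1_c21 LD2_c5 LD3_c60)) :=
  Lgr Lrot161 (Lpr_dt (f78182 IH) (Lpr_ct (f125415 IH) (Lpr_af (f133834 IH) (Lpe (f125352 IH) (Lpr_dt (f24376 IH) (Lpe (K3.f24368 IH) (Lpr_dt (f126716 IH) (Lpr_ct (f126718 IH) (Lpr_dt (f133988 IH) (Lpn (LP (LK LD1_c21 LD2_c5 LD3_c60))))))))))))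
theorem f62646 : Led Lsl_dt (LP (LK LD1_c3 LD2_c1 LD3_c13)) = (LP (LK LD1_c6 LD2_c9 LD3_c32)) :=
  Lre_d IH (LK LD1_c3 LD2_c1 LD3_c13) (LK LD1_c6 LD2_c9 LD3_c32) Lrfl Lrfl
theorem f62647 : Led Lsl_ct (LP (LK LD1_c6 LD2_c9 LD3_c32)) = (LP (LK LD1_c12 LD2_c0 LD3_c5)) :=
  Lre_c IH (LK LD1_c6 LD2_c9 LD3_c32) (LK LD1_c12 LD2_c0 LD3_c5) Lrfl Lrfl
theorem f125418 : Led Lsl_cf (LP (LK LD1_c12 LD2_c12 LD3_c31)) = (LP (LK LD1_c6 LD2_c19 LD3_c16)) :=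
  Lgr Lrot11 (Lpr_ct (f125415 IH) (Lpn (LP (LK LD1_c6 LD2_c19 LD3_c16))))
theorem f62637 : Led Lsl_ct (LP (LK LD1_c12 LD2_c0 LD3_c5)) = (LP (LK LD1_c6 LD2_c9 LD3_c32)) :=
  Lre_c IH (LK LD1_c12 LD2_c0 LD3_c5) (LK LD1_c6 LD2_c9 LD3_c32) Lrfl Lrfl
theorem f133986 : Led Lsl_at (LP (LK LD1_c12 LD2_c12 LD3_c31)) = (LP (LK LD1_c12 LD2_c0 LD3_c5)) :=
  Lgr Lrot107 (Lpr_cf (f125418 IH) (Lpr_af (f133834 IH) (Lpe (f62637 IH) (Lpn (LP (LK LD1_c12 LD2_c0 LD3_c5))))))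
theorem f133998 : Led Lsl_ff (LP (LK LD1_c12 LD2_c12 LD3_c31)) = (LP (LK LD1_c12 LD2_c0 LD3_c46)) :=
  Lgr Lrot103 (Lpr_at (f133986 IH) (Lpe (f62647 IH) (Lpe (f62646 IH) (Lpe (f62611 IH) (Lpe (f62643 IH) (Lpe (f125415 IH) (Lpe (f78182 IH) (Lpr_cf (f133989 IH) (Lpe (f133988 IH) (Lpn (LP (LK LD1_c12 LD2_c0 LD3_c46))))))))))))
theorem f134007 : Led Lsl_ft (LP (LK LD1_c12 LD2_c12 LD3_c31)) = (LP (LK LD1_c12 LD2_c0 LD3_c46)) :=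
  Lgr Lrot48 (Lpr_ff (f133998 IH) (Lpn (LP (LK LD1_c12 LD2_c0 LD3_c46))))
theorem f78170 : Led Lsl_dt (LP (LK LD1_c12 LD2_c12 LD3_c31)) = (LP (LK LD1_c21 LD2_c18 LD3_c22)) :=
  Lre_d IH (LK LD1_c12 LD2_c12 LD3_c31) (LK LD1_c21 LD2_c18 LD3_c22) Lrfl Lrfl
theorem f133991 : Led Lsl_ct (LP (LK LD1_c21 LD2_c18 LD3_c22)) = (LP (LK LD1_c21 LD2_c5 LD3_c60)) :=
  Lgr Lrot59 (Lpr_cf (f133989 IH) (Lpn (LP (LK LD1_c21 LD2_c5 LD3_c60))))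
theorem f126719 : Led Lsl_dt (LP (LK LD1_c21 LD2_c5 LD3_c60)) = (LP (LK LD1_c12 LD2_c0 LD3_c46)) :=
  Lre_d IH (LK LD1_c21 LD2_c5 LD3_c60) (LK LD1_c12 LD2_c0 LD3_c46) Lrfl Lrfl
theorem f114546 : Led Lsl_ct (LP (LK LD1_c12 LD2_c0 LD3_c46)) = (LP (LK LD1_c6 LD2_c9 LD3_c58)) :=
  Lre_c IH (LK LD1_c12 LD2_c0 LD3_c46) (LK LD1_c6 LD2_c9 LD3_c58) Lrfl Lrfl
theorem f67906 : Led Lsl_gt (LP (LK LD1_c3 LD2_c11 LD3_c51)) = (LP (LK LD1_c1 LD2_c32 LD3_c17)) :=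
  Lre_g IH (LK LD1_c3 LD2_c11 LD3_c51) (LK LD1_c1 LD2_c32 LD3_c17) Lrfl Lrfl
theorem f114504 : Led Lsl_ft (LP (LK LD1_c3 LD2_c11 LD3_c51)) = (LP (LK LD1_c3 LD2_c6 LD3_c22)) :=
  Lgr Lrot2 (Lpr_gt (f67906 IH) (Lpr_gt (K4.f67412 IH) (Lpr_af (K4.f114496 IH) (Lpn (LP (LK LD1_c3 LD2_c6 LD3_c22))))))
theorem f114510 : Led Lsl_ff (LP (LK LD1_c3 LD2_c11 LD3_c51)) = (LP (LK LD1_c3 LD2_c6 LD3_c22)) :=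
  Lgr Lrot3 (Lpr_ft (f114504 IH) (Lpn (LP (LK LD1_c3 LD2_c6 LD3_c22))))
theorem f67691 : Led Lsl_gt (LP (LK LD1_c1 LD2_c29 LD3_c25)) = (LP (LK LD1_c3 LD2_c6 LD3_c37)) :=
  Lre_g IH (LK LD1_c1 LD2_c29 LD3_c25) (LK LD1_c3 LD2_c6 LD3_c37) Lrfl Lrfl
theorem f114516 : Led Lsl_at (LP (LK LD1_c3 LD2_c11 LD3_c51)) = (LP (LK LD1_c3 LD2_c6 LD3_c37)) :=
  Lgr Lrot26 (Lpr_ff (f114510 IH) (Lpe (f78164 IH) (Lpr_gt (f67691 IH) (Lpn (LP (LK LD1_c3 LD2_c6 LD3_c37))))))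
theorem f67717 : Led Lsl_ct (LP (LK LD1_c6 LD2_c18 LD3_c45)) = (LP (LK LD1_c3 LD2_c6 LD3_c37)) :=
  Lre_c IH (LK LD1_c6 LD2_c18 LD3_c45) (LK LD1_c3 LD2_c6 LD3_c37) Lrfl Lrfl
theorem f114518 : Led Lsl_dt (LP (LK LD1_c12 LD2_c13 LD3_c21)) = (LP (LK LD1_c6 LD2_c18 LD3_c45)) :=
  Lre_d IH (LK LD1_c12 LD2_c13 LD3_c21) (LK LD1_c6 LD2_c18 LD3_c45) Lrfl Lrfl
theorem f61733 : Led Lsl_dt (LP (LK LD1_c1 LD2_c26 LD3_c45)) = (LP (LK LD1_c3 LD2_c1 LD3_c30)) :=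
  Lre_d IH (LK LD1_c1 LD2_c26 LD3_c45) (LK LD1_c3 LD2_c1 LD3_c30) Lrfl Lrfl
theorem f61734 : Led Lsl_ct (LP (LK LD1_c3 LD2_c1 LD3_c30)) = (LP (LK LD1_c6 LD2_c9 LD3_c59)) :=
  Lre_c IH (LK LD1_c3 LD2_c1 LD3_c30) (LK LD1_c6 LD2_c9 LD3_c59) Lrfl Lrfl
theorem f61735 : Led Lsl_dt (LP (LK LD1_c6 LD2_c9 LD3_c59)) = (LP (LK LD1_c12 LD2_c0 LD3_c48)) :=
  Lre_d IH (LK LD1_c6 LD2_c9 LD3_c59) (LK LD1_c12 LD2_c0 LD3_c48) Lrfl Lrfl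
theorem f114519 : Led Lsl_cf (LP (LK LD1_c12 LD2_c13 LD3_c21)) = (LP (LK LD1_c12 LD2_c0 LD3_c48)) :=
  Lgr Lrot161 (Lpr_dt (f114518 IH) (Lpr_ct (f67717 IH) (Lpe (f114516 IH) (Lpr_ff (f114510 IH) (Lpr_dt (f61730 IH) (Lpr_ct (K2.f61719 IH) (Lpr_dt (f61733 IH) (Lpr_ct (f61734 IH) (Lpr_dt (f61735 IH) (Lpn (LP (LK LD1_c12 LD2_c0 LD3_c48))))))))))))
theorem f114524 : Led Lsl_ct (LP (LK LD1_c12 LD2_c13 LD3_c21)) = (LP (LK LD1_c12 LD2_c0 LD3_c48)) :=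
  Lgr Lrot59 (Lpr_cf (f114519 IH) (Lpn (LP (LK LD1_c12 LD2_c0 LD3_c48))))
theorem f114529 : Led Lsl_dt (LP (LK LD1_c6 LD2_c18 LD3_c45)) = (LP (LK LD1_c12 LD2_c13 LD3_c21)) :=
  Lre_d IH (LK LD1_c6 LD2_c18 LD3_c45) (LK LD1_c12 LD2_c13 LD3_c21) Lrfl Lrfl
theorem f61754 : Led Lsl_dt (LP (LK LD1_c12 LD2_c0 LD3_c48)) = (LP (LK LD1_c6 LD2_c9 LD3_c59)) :=
  Lre_d IH (LK LD1_c12 LD2_c0 LD3_c48) (LK LD1_c6 LD2_c9 LD3_c59) Lrfl Lrfl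
theorem f61741 : Led Lsl_ct (LP (LK LD1_c6 LD2_c9 LD3_c59)) = (LP (LK LD1_c3 LD2_c1 LD3_c30)) :=
  Lre_c IH (LK LD1_c6 LD2_c9 LD3_c59) (LK LD1_c3 LD2_c1 LD3_c30) Lrfl Lrfl
theorem f67671 : Led Lsl_ct (LP (LK LD1_c3 LD2_c11 LD3_c50)) = (LP (LK LD1_c6 LD2_c27 LD3_c51)) :=
  Lre_c IH (LK LD1_c3 LD2_c11 LD3_c50) (LK LD1_c6 LD2_c27 LD3_c51) Lrfl Lrfl
theorem f61731 : Led Lsl_ct (LP (LK LD1_c6 LD2_c18 LD3_c12)) = (LP (LK LD1_c3 LD2_c6 LD3_c22)) :=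
  Lre_c IH (LK LD1_c6 LD2_c18 LD3_c12) (LK LD1_c3 LD2_c6 LD3_c22) Lrfl Lrfl
theorem f114500 : Led Lsl_at (LP (LK LD1_c6 LD2_c27 LD3_c51)) = (LP (LK LD1_c6 LD2_c18 LD3_c12)) :=
  Lgr Lrot107 (Lpe (f67671 IH) (Lpr_af (K4.f114496 IH) (Lpe (f61731 IH) (Lpn (LP (LK LD1_c6 LD2_c18 LD3_c12))))))
theorem f114544 : Led Lsl_ft (LP (LK LD1_c6 LD2_c18 LD3_c45)) = (LP (LK LD1_c6 LD2_c27 LD3_c51)) :=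
  Lgr Lrot142 (Lpr_dt (f114529 IH) (Lpr_ct (f114524 IH) (Lpr_dt (f61754 IH) (Lpr_ct (f61741 IH) (Lpr_dt (f61739 IH) (Lpe (K2.f61728 IH) (Lpr_dt (K4.f61751 IH) (Lpr_ct (f61752 IH) (Lpe (f114500 IH) (Lpn (LP (LK LD1_c6 LD2_c27 LD3_c51))))))))))))
theorem f67913 : Led Lsl_ct (LP (LK LD1_c6 LD2_c27 LD3_c53)) = (LP (LK LD1_c3 LD2_c11 LD3_c51)) :=
  Lre_c IH (LK LD1_c6 LD2_c27 LD3_c53) (LK LD1_c3 LD2_c11 LD3_c51) Lrfl Lrfl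
theorem f114506 : Led Lsl_ff (LP (LK LD1_c6 LD2_c27 LD3_c53)) = (LP (LK LD1_c6 LD2_c18 LD3_c12)) :=
  Lgr Lrot23 (Lpr_ct (f67913 IH) (Lpr_ft (f114504 IH) (Lpr_ct (f61752 IH) (Lpn (LP (LK LD1_c6 LD2_c18 LD3_c12))))))
theorem f114547 : Led Lsl_af (LP (LK LD1_c6 LD2_c18 LD3_c45)) = (LP (LK LD1_c6 LD2_c27 LD3_c53)) :=
  Lgr Lrot45 (Lpr_ft (f114544 IH) (Lpr_at (f114500 IH) (Lpe (f114506 IH) (Lpn (LP (LK LD1_c6 LD2_c27 LD3_c53))))))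
theorem f114625 : Led Lsl_gf (LP (LK LD1_c6 LD2_c18 LD3_c45)) = (LP (LK LD1_c12 LD2_c12 LD3_c31)) :=
  Lgr Lrot76 (Lpr_af (f114547 IH) (Lpr_ff (f114506 IH) (Lpr_gt (f78169 IH) (Lpn (LP (LK LD1_c12 LD2_c12 LD3_c31))))))
theorem f24393 : Led Lsl_dt (LP (LK LD1_c1 LD2_c33 LD3_c53)) = (LP (LK LD1_c3 LD2_c14 LD3_c41)) :=
  Lre_d IH (LK LD1_c1 LD2_c33 LD3_c53) (LK LD1_c3 LD2_c14 LD3_c41) Lrfl Lrfl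
theorem f24377 : Led Lsl_ct (LP (LK LD1_c6 LD2_c32 LD3_c52)) = (LP (LK LD1_c3 LD2_c14 LD3_c41)) :=
  Lre_c IH (LK LD1_c6 LD2_c32 LD3_c52) (LK LD1_c3 LD2_c14 LD3_c41) Lrfl Lrfl
theorem f67895 : Led Lsl_ct (LP (LK LD1_c3 LD2_c6 LD3_c37)) = (LP (LK LD1_c6 LD2_c18 LD3_c45)) :=
  Lre_c IH (LK LD1_c3 LD2_c6 LD3_c37) (LK LD1_c6 LD2_c18 LD3_c45) Lrfl Lrfl
theorem f126720 : Led Lsl_gf (LP (LK LD1_c6 LD2_c32 LD3_c52)) = (LP (LK LD1_c6 LD2_c18 LD3_c45)) :=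
  Lgr Lrot104 (Lpr_ct (f24377 IH) (Lpe (f24393 IH) (Lpe (f24348 IH) (Lpr_gf (f126710 IH) (Lpe (K3.f25065 IH) (Lpe (K3.f25064 IH) (Lpe (K2.f25078 IH) (Lpr_gt (f67691 IH) (Lpr_ct (f67895 IH) (Lpn (LP (LK LD1_c6 LD2_c18 LD3_c45))))))))))))
theorem f134015 : Led Lsl_af (LP (LK LD1_c6 LD2_c32 LD3_c52)) = (LP (LK LD1_c12 LD2_c0 LD3_c46)) :=
  Lgr Lrot31 (Lpr_gf (f126720 IH) (Lpr_gf (f114625 IH) (Lpr_ft (f134007 IH) (Lpn (LP (LK LD1_c12 LD2_c0 LD3_c46))))))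
theorem f24394 : Led Lsl_ct (LP (LK LD1_c3 LD2_c14 LD3_c41)) = (LP (LK LD1_c6 LD2_c32 LD3_c52)) :=
  Lre_c IH (LK LD1_c3 LD2_c14 LD3_c41) (LK LD1_c6 LD2_c32 LD3_c52) Lrfl Lrfl
theorem f134017 : Led Lsl_dt (LP (LK LD1_c6 LD2_c9 LD3_c58)) = (LP (LK LD1_c3 LD2_c12 LD3_c1)) :=
  Lgr Lrot140 (Lpe (f114546 IH) (Lpe (f126719 IH) (Lpe (f133991 IH) (Lpe (f78170 IH) (Lpr_ft (f134007 IH) (Lpe (f134015 IH) (Lpe (f24394 IH) (Lpe (f24393 IH) (Lpe (f24348 IH) (Lpn (LP (LK LD1_c3 LD2_c12 LD3_c1))))))))))))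
theorem f126614 : Led Lsl_gt (LP (LK LD1_c3 LD2_c2 LD3_c26)) = (LP (LK LD1_c1 LD2_c33 LD3_c53)) :=
  Lgr Lrot5 (Lpe (K4.f113924 IH) (Lpr_at (f113893 IH) (Lpr_gf (f126612 IH) (Lpn (LP (LK LD1_c1 LD2_c33 LD3_c53))))))
theorem f67661 : Led Lsl_at (LP (LK LD1_c3 LD2_c11 LD3_c49)) = (LP (LK LD1_c1 LD2_c32 LD3_c17)) :=
  Lre_a IH (LK LD1_c3 LD2_c11 LD3_c49) (LK LD1_c1 LD2_c32 LD3_c17) Lrfl Lrfl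
theorem f67662 : Led Lsl_ft (LP (LK LD1_c3 LD2_c6 LD3_c25)) = (LP (LK LD1_c3 LD2_c11 LD3_c49)) :=
  Lgr Lrot101 (Lpe (K2.f67653 IH) (Lpr_ff (K2.f67654 IH) (Lpe (f67661 IH) (Lpn (LP (LK LD1_c3 LD2_c11 LD3_c49))))))
theorem f67907 : Led Lsl_gt (LP (LK LD1_c3 LD2_c6 LD3_c25)) = (LP (LK LD1_c3 LD2_c11 LD3_c51)) :=
  Lgr Lrot5 (Lpr_ft (f67662 IH) (Lpr_at (f67661 IH) (Lpe (f67906 IH) (Lpn (LP (LK LD1_c3 LD2_c11 LD3_c51))))))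
theorem f67909 : Led Lsl_ct (LP (LK LD1_c3 LD2_c11 LD3_c51)) = (LP (LK LD1_c6 LD2_c27 LD3_c53)) :=
  Lre_c IH (LK LD1_c3 LD2_c11 LD3_c51) (LK LD1_c6 LD2_c27 LD3_c53) Lrfl Lrfl
theorem f134029 : Led Lsl_gf (LP (LK LD1_c12 LD2_c0 LD3_c46)) = (LP (LK LD1_c6 LD2_c27 LD3_c53)) :=
  Lgr Lrot172 (Lpr_ct (f114546 IH) (Lpr_dt (f134017 IH) (Lpr_cf (K3.f24368 IH) (Lpe (f126614 IH) (Lpe (K3.f86145 IH) (Lpe (K3.f67898 IH) (Lpr_dt (K4.f25126 IH) (Lpr_gt (f67907 IH) (Lpr_ct (f67909 IH) (Lpn (LP (LK LD1_c6 LD2_c27 LD3_c53))))))))))))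
theorem f114512 : Led Lsl_ft (LP (LK LD1_c6 LD2_c27 LD3_c53)) = (LP (LK LD1_c6 LD2_c18 LD3_c12)) :=
  Lgr Lrot4 (Lpe (f67909 IH) (Lpr_ff (f114510 IH) (Lpe (f61731 IH) (Lpn (LP (LK LD1_c6 LD2_c18 LD3_c12))))))
theorem f67910 : Led Lsl_dt (LP (LK LD1_c12 LD2_c27 LD3_c3)) = (LP (LK LD1_c6 LD2_c27 LD3_c53)) :=
  Lre_d IH (LK LD1_c12 LD2_c27 LD3_c3) (LK LD1_c6 LD2_c27 LD3_c53) Lrfl Lrfl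
theorem f114622 : Led Lsl_at (LP (LK LD1_c12 LD2_c13 LD3_c21)) = (LP (LK LD1_c12 LD2_c27 LD3_c3)) :=
  Lgr Lrot51 (Lpe (f114529 IH) (Lpr_af (f114547 IH) (Lpe (f67910 IH) (Lpn (LP (LK LD1_c12 LD2_c27 LD3_c3))))))
theorem f114699 : Led Lsl_af (LP (LK LD1_c12 LD2_c13 LD3_c21)) = (LP (LK LD1_c12 LD2_c27 LD3_c3)) :=
  Lgr Lrot0 (Lpr_at (f114622 IH) (Lpn (LP (LK LD1_c12 LD2_c27 LD3_c3))))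
theorem f61732 : Led Lsl_dt (LP (LK LD1_c12 LD2_c12 LD3_c33)) = (LP (LK LD1_c6 LD2_c18 LD3_c12)) :=
  Lre_d IH (LK LD1_c12 LD2_c12 LD3_c33) (LK LD1_c6 LD2_c18 LD3_c12) Lrfl Lrfl
theorem f114714 : Led Lsl_ft (LP (LK LD1_c12 LD2_c12 LD3_c33)) = (LP (LK LD1_c12 LD2_c27 LD3_c3)) :=
  Lgr Lrot142 (Lpr_dt (f61732 IH) (Lpr_ct (f61731 IH) (Lpr_dt (f61730 IH) (Lpr_ct (K2.f61719 IH) (Lpr_dt (f61733 IH) (Lpr_ct (f61734 IH) (Lpr_dt (f61735 IH) (Lpe (f114519 IH) (Lpr_af (f114699 IH) (Lpn (LP (LK LD1_c12 LD2_c27 LD3_c3))))))))))))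
theorem f114723 : Led Lsl_ff (LP (LK LD1_c12 LD2_c12 LD3_c33)) = (LP (LK LD1_c12 LD2_c27 LD3_c3)) :=
  Lgr Lrot3 (Lpr_ft (f114714 IH) (Lpn (LP (LK LD1_c12 LD2_c27 LD3_c3))))
theorem f114727 : Led Lsl_bt (LP (LK LD1_c12 LD2_c12 LD3_c33)) = (LP (LK LD1_c21 LD2_c18 LD3_c25)) :=
  Lre_b IH (LK LD1_c12 LD2_c12 LD3_c33) (LK LD1_c21 LD2_c18 LD3_c25) Lrfl Lrfl
theorem f114713 : Led Lsl_bt (LP (LK LD1_c21 LD2_c34 LD3_c23)) = (LP (LK LD1_c12 LD2_c27 LD3_c3)) :=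
  Lre_b IH (LK LD1_c21 LD2_c34 LD3_c23) (LK LD1_c12 LD2_c27 LD3_c3) Lrfl Lrfl
theorem f114728 : Led Lsl_ft (LP (LK LD1_c21 LD2_c18 LD3_c25)) = (LP (LK LD1_c21 LD2_c34 LD3_c23)) :=
  Lgr Lrot75 (Lpe (f114727 IH) (Lpr_ff (f114723 IH) (Lpe (f114713 IH) (Lpn (LP (LK LD1_c21 LD2_c34 LD3_c23))))))
theorem f114733 : Led Lsl_dt (LP (LK LD1_c12 LD2_c12 LD3_c32)) = (LP (LK LD1_c21 LD2_c18 LD3_c25)) :=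
  Lre_d IH (LK LD1_c12 LD2_c12 LD3_c32) (LK LD1_c21 LD2_c18 LD3_c25) Lrfl Lrfl
theorem f114734 : Led Lsl_dt (LP (LK LD1_c21 LD2_c34 LD3_c23)) = (LP (LK LD1_c12 LD2_c27 LD3_c2)) :=
  Lre_d IH (LK LD1_c21 LD2_c34 LD3_c23) (LK LD1_c12 LD2_c27 LD3_c2) Lrfl Lrfl
theorem f114735 : Led Lsl_ff (LP (LK LD1_c12 LD2_c12 LD3_c32)) = (LP (LK LD1_c12 LD2_c27 LD3_c2)) :=
  Lgr Lrot19 (Lpr_dt (f114733 IH) (Lpr_ft (f114728 IH) (Lpr_dt (f114734 IH) (Lpn (LP (LK LD1_c12 LD2_c27 LD3_c2))))))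
theorem f114744 : Led Lsl_ft (LP (LK LD1_c12 LD2_c12 LD3_c32)) = (LP (LK LD1_c12 LD2_c27 LD3_c2)) :=
  Lgr Lrot48 (Lpr_ff (f114735 IH) (Lpn (LP (LK LD1_c12 LD2_c27 LD3_c2))))
theorem f114751 : Led Lsl_at (LP (LK LD1_c21 LD2_c18 LD3_c24)) = (LP (LK LD1_c12 LD2_c12 LD3_c32)) :=
  Lre_a IH (LK LD1_c21 LD2_c18 LD3_c24) (LK LD1_c12 LD2_c12 LD3_c32) Lrfl Lrfl
theorem f114752 : Led Lsl_at (LP (LK LD1_c12 LD2_c27 LD3_c2)) = (LP (LK LD1_c21 LD2_c34 LD3_c22)) :=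
  Lre_a IH (LK LD1_c12 LD2_c27 LD3_c2) (LK LD1_c21 LD2_c34 LD3_c22) Lrfl Lrfl
theorem f114753 : Led Lsl_ff (LP (LK LD1_c21 LD2_c18 LD3_c24)) = (LP (LK LD1_c21 LD2_c34 LD3_c22)) :=
  Lgr Lrot30 (Lpr_at (f114751 IH) (Lpr_ft (f114744 IH) (Lpr_at (f114752 IH) (Lpn (LP (LK LD1_c21 LD2_c34 LD3_c22))))))
theorem f67904 : Led Lsl_bt (LP (LK LD1_c6 LD2_c18 LD3_c45)) = (LP (LK LD1_c12 LD2_c13 LD3_c20)) :=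
  Lre_b IH (LK LD1_c6 LD2_c18 LD3_c45) (LK LD1_c12 LD2_c13 LD3_c20) Lrfl Lrfl
theorem f114599 : Led Lsl_at (LP (LK LD1_c12 LD2_c13 LD3_c20)) = (LP (LK LD1_c21 LD2_c19 LD3_c15)) :=
  Lre_a IH (LK LD1_c12 LD2_c13 LD3_c20) (LK LD1_c21 LD2_c19 LD3_c15) Lrfl Lrfl
theorem f114618 : Led Lsl_bt (LP (LK LD1_c12 LD2_c27 LD3_c2)) = (LP (LK LD1_c6 LD2_c27 LD3_c53)) :=
  Lre_b IH (LK LD1_c12 LD2_c27 LD3_c2) (LK LD1_c6 LD2_c27 LD3_c53) Lrfl Lrfl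
theorem f114619 : Led Lsl_at (LP (LK LD1_c21 LD2_c34 LD3_c22)) = (LP (LK LD1_c12 LD2_c27 LD3_c2)) :=
  Lre_a IH (LK LD1_c21 LD2_c34 LD3_c22) (LK LD1_c12 LD2_c27 LD3_c2) Lrfl Lrfl
theorem f114620 : Led Lsl_bt (LP (LK LD1_c21 LD2_c19 LD3_c15)) = (LP (LK LD1_c21 LD2_c34 LD3_c22)) :=
  Lgr Lrot62 (Lpe (f114599 IH) (Lpe (f67904 IH) (Lpr_af (f114547 IH) (Lpe (f114618 IH) (Lpe (f114619 IH) (Lpn (LP (LK LD1_c21 LD2_c34 LD3_c22))))))))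
theorem f114556 : Led Lsl_ff (LP (LK LD1_c6 LD2_c18 LD3_c45)) = (LP (LK LD1_c6 LD2_c27 LD3_c51)) :=
  Lgr Lrot3 (Lpr_ft (f114544 IH) (Lpn (LP (LK LD1_c6 LD2_c27 LD3_c51))))
theorem f79397 : Led Lsl_dt (LP (LK LD1_c12 LD2_c27 LD3_c1)) = (LP (LK LD1_c6 LD2_c27 LD3_c51)) :=
  Lre_d IH (LK LD1_c12 LD2_c27 LD3_c1) (LK LD1_c6 LD2_c27 LD3_c51) Lrfl Lrfl
theorem f114562 : Led Lsl_ft (LP (LK LD1_c12 LD2_c13 LD3_c21)) = (LP (LK LD1_c12 LD2_c27 LD3_c1)) :=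
  Lgr Lrot54 (Lpe (f114529 IH) (Lpr_ff (f114556 IH) (Lpe (f79397 IH) (Lpn (LP (LK LD1_c12 LD2_c27 LD3_c1))))))
theorem f114542 : Led Lsl_bt (LP (LK LD1_c21 LD2_c19 LD3_c16)) = (LP (LK LD1_c12 LD2_c13 LD3_c21)) :=
  Lre_b IH (LK LD1_c21 LD2_c19 LD3_c16) (LK LD1_c12 LD2_c13 LD3_c21) Lrfl Lrfl
theorem f114564 : Led Lsl_bt (LP (LK LD1_c12 LD2_c27 LD3_c1)) = (LP (LK LD1_c21 LD2_c34 LD3_c18)) :=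
  Lre_b IH (LK LD1_c12 LD2_c27 LD3_c1) (LK LD1_c21 LD2_c34 LD3_c18) Lrfl Lrfl
theorem f114565 : Led Lsl_ff (LP (LK LD1_c21 LD2_c19 LD3_c16)) = (LP (LK LD1_c21 LD2_c34 LD3_c18)) :=
  Lgr Lrot25 (Lpr_bt (f114542 IH) (Lpr_ft (f114562 IH) (Lpr_bt (f114564 IH) (Lpn (LP (LK LD1_c21 LD2_c34 LD3_c18))))))
theorem f114583 : Led Lsl_ft (LP (LK LD1_c21 LD2_c19 LD3_c16)) = (LP (LK LD1_c21 LD2_c34 LD3_c18)) :=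
  Lgr Lrot48 (Lpr_ff (f114565 IH) (Lpn (LP (LK LD1_c21 LD2_c34 LD3_c18))))
theorem f114585 : Led Lsl_at (LP (LK LD1_c29 LD2_c58 LD3_c12)) = (LP (LK LD1_c21 LD2_c19 LD3_c16)) :=
  Lre_a IH (LK LD1_c29 LD2_c58 LD3_c12) (LK LD1_c21 LD2_c19 LD3_c16) Lrfl Lrfl
theorem f114586 : Led Lsl_at (LP (LK LD1_c21 LD2_c34 LD3_c18)) = (LP (LK LD1_c30 LD2_c4 LD3_c29)) :=
  Lre_a IH (LK LD1_c21 LD2_c34 LD3_c18) (LK LD1_c30 LD2_c4 LD3_c29) Lrfl Lrfl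
theorem f114587 : Led Lsl_ff (LP (LK LD1_c29 LD2_c58 LD3_c12)) = (LP (LK LD1_c30 LD2_c4 LD3_c29)) :=
  Lgr Lrot30 (Lpr_at (f114585 IH) (Lpr_ft (f114583 IH) (Lpr_at (f114586 IH) (Lpn (LP (LK LD1_c30 LD2_c4 LD3_c29))))))
theorem f114594 : Led Lsl_dt (LP (LK LD1_c29 LD2_c58 LD3_c12)) = (LP (LK LD1_c21 LD2_c19 LD3_c15)) :=
  Lre_d IH (LK LD1_c29 LD2_c58 LD3_c12) (LK LD1_c21 LD2_c19 LD3_c15) Lrfl Lrfl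
theorem f114595 : Led Lsl_dt (LP (LK LD1_c21 LD2_c34 LD3_c17)) = (LP (LK LD1_c30 LD2_c4 LD3_c29)) :=
  Lre_d IH (LK LD1_c21 LD2_c34 LD3_c17) (LK LD1_c30 LD2_c4 LD3_c29) Lrfl Lrfl
theorem f114596 : Led Lsl_ft (LP (LK LD1_c21 LD2_c19 LD3_c15)) = (LP (LK LD1_c21 LD2_c34 LD3_c17)) :=
  Lgr Lrot54 (Lpe (f114594 IH) (Lpr_ff (f114587 IH) (Lpe (f114595 IH) (Lpn (LP (LK LD1_c21 LD2_c34 LD3_c17))))))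
theorem f114601 : Led Lsl_ff (LP (LK LD1_c21 LD2_c19 LD3_c15)) = (LP (LK LD1_c21 LD2_c34 LD3_c17)) :=
  Lgr Lrot3 (Lpr_ft (f114596 IH) (Lpn (LP (LK LD1_c21 LD2_c34 LD3_c17))))
theorem f114756 : Led Lsl_bt (LP (LK LD1_c21 LD2_c18 LD3_c24)) = (LP (LK LD1_c21 LD2_c34 LD3_c17)) :=
  Lgr Lrot35 (Lpr_ff (f114753 IH) (Lpe (f114620 IH) (Lpr_ff (f114601 IH) (Lpn (LP (LK LD1_c21 LD2_c34 LD3_c17))))))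
theorem f114760 : Led Lsl_bf (LP (LK LD1_c21 LD2_c18 LD3_c24)) = (LP (LK LD1_c21 LD2_c34 LD3_c17)) :=
  Lgr Lrot24 (Lpr_bt (f114756 IH) (Lpn (LP (LK LD1_c21 LD2_c34 LD3_c17))))
theorem f114742 : Led Lsl_bt (LP (LK LD1_c12 LD2_c12 LD3_c32)) = (LP (LK LD1_c6 LD2_c18 LD3_c12)) :=
  Lre_b IH (LK LD1_c12 LD2_c12 LD3_c32) (LK LD1_c6 LD2_c18 LD3_c12) Lrfl Lrfl
theorem f114607 : Led Lsl_at (LP (LK LD1_c12 LD2_c27 LD3_c0)) = (LP (LK LD1_c21 LD2_c34 LD3_c17)) :=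
  Lre_a IH (LK LD1_c12 LD2_c27 LD3_c0) (LK LD1_c21 LD2_c34 LD3_c17) Lrfl Lrfl
theorem f67675 : Led Lsl_bt (LP (LK LD1_c6 LD2_c27 LD3_c51)) = (LP (LK LD1_c12 LD2_c27 LD3_c0)) :=
  Lre_b IH (LK LD1_c6 LD2_c27 LD3_c51) (LK LD1_c12 LD2_c27 LD3_c0) Lrfl Lrfl
theorem f114767 : Led Lsl_at (LP (LK LD1_c6 LD2_c18 LD3_c12)) = (LP (LK LD1_c6 LD2_c27 LD3_c51)) :=
  Lgr Lrot67 (Lpe (f114742 IH) (Lpe (f114751 IH) (Lpr_bf (f114760 IH) (Lpe (f114607 IH) (Lpe (f67675 IH) (Lpn (LP (LK LD1_c6 LD2_c27 LD3_c51))))))))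
theorem f134031 : Led Lsl_gt (LP (LK LD1_c12 LD2_c0 LD3_c46)) = (LP (LK LD1_c6 LD2_c27 LD3_c51)) :=
  Lgr Lrot46 (Lpr_gf (f134029 IH) (Lpr_ft (f114512 IH) (Lpr_at (f114767 IH) (Lpn (LP (LK LD1_c6 LD2_c27 LD3_c51))))))
theorem f134046 : Led Lsl_gf (LP (LK LD1_c12 LD2_c0 LD3_c5)) = (LP (LK LD1_c6 LD2_c27 LD3_c51)) :=
  Lgr Lrot76 (Lpe (f133986 IH) (Lpr_ff (f133998 IH) (Lpr_gt (f134031 IH) (Lpn (LP (LK LD1_c6 LD2_c27 LD3_c51))))))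
theorem f114616 : Led Lsl_at (LP (LK LD1_c6 LD2_c18 LD3_c45)) = (LP (LK LD1_c6 LD2_c27 LD3_c53)) :=
  Lgr Lrot100 (Lpr_af (f114547 IH) (Lpn (LP (LK LD1_c6 LD2_c27 LD3_c53))))
theorem f134055 : Led Lsl_gt (LP (LK LD1_c12 LD2_c0 LD3_c5)) = (LP (LK LD1_c6 LD2_c27 LD3_c53)) :=
  Lgr Lrot46 (Lpr_gf (f134046 IH) (Lpe (f114556 IH) (Lpr_at (f114616 IH) (Lpn (LP (LK LD1_c6 LD2_c27 LD3_c53))))))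
theorem f62650 : Led Lsl_et (LP (LK LD1_c3 LD2_c1 LD3_c13)) = (LP (LK LD1_c1 LD2_c26 LD3_c33)) :=
  Lre_e IH (LK LD1_c3 LD2_c1 LD3_c13) (LK LD1_c1 LD2_c26 LD3_c33) Lrfl Lrfl
theorem f126610 : Led Lsl_gf (LP (LK LD1_c6 LD2_c9 LD3_c32)) = (LP (LK LD1_c3 LD2_c1 LD3_c30)) :=
  Lgr Lrot145 (Lpe (f62646 IH) (Lpr_et (f62650 IH) (Lpe (K2.f77794 IH) (Lpr_dt (K3.f25110 IH) (Lpe (K3.f79252 IH) (Lpe (K2.f23344 IH) (Lpr_et (f126596 IH) (Lpr_gt (K3.f61671 IH) (Lpe (K2.f61718 IH) (Lpr_dt (f61733 IH) (Lpn (LP (LK LD1_c3 LD2_c1 LD3_c30)))))))))))))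
theorem f78787 : Led Lsl_bt (LP (LK LD1_c1 LD2_c26 LD3_c49)) = (LP (LK LD1_c3 LD2_c1 LD3_c30)) :=
  Lre_b IH (LK LD1_c1 LD2_c26 LD3_c49) (LK LD1_c3 LD2_c1 LD3_c30) Lrfl Lrfl
theorem f12555 : Led Lsl_gt (LP (LK LD1_c3 LD2_c40 LD3_c1)) = (LP (LK LD1_c1 LD2_c46 LD3_c61)) :=
  Lre_g IH (LK LD1_c3 LD2_c40 LD3_c1) (LK LD1_c1 LD2_c46 LD3_c61) Lrfl Lrfl
theorem f134538 : Led Lsl_bf (LP (LK LD1_c3 LD2_c40 LD3_c1)) = (LP (LK LD1_c3 LD2_c11 LD3_c51)) :=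
  Lgr Lrot156 (Lpr_gt (f12555 IH) (Lpr_bf (f12442 IH) (Lpr_ct (f12446 IH) (Lpe (f114366 IH) (Lpe (K4.f78931 IH) (Lpr_bt (f78787 IH) (Lpe (f126610 IH) (Lpr_ct (f62647 IH) (Lpr_gt (f134055 IH) (Lpe (f67909 IH) (Lpn (LP (LK LD1_c3 LD2_c11 LD3_c51)))))))))))))
theorem f134541 : Led Lsl_bt (LP (LK LD1_c3 LD2_c40 LD3_c1)) = (LP (LK LD1_c3 LD2_c11 LD3_c51)) :=
  Lgr Lrot127 (Lpr_bf (f134538 IH) (Lpn (LP (LK LD1_c3 LD2_c11 LD3_c51))))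
theorem f134543 : Led Lsl_ct (LP (LK LD1_c3 LD2_c40 LD3_c1)) = (LP (LK LD1_c7 LD2_c20 LD3_c11)) :=
  Lre_c IH (LK LD1_c3 LD2_c40 LD3_c1) (LK LD1_c7 LD2_c20 LD3_c11) Lrfl Lrfl
theorem f67678 : Led Lsl_ct (LP (LK LD1_c3 LD2_c11 LD3_c39)) = (LP (LK LD1_c6 LD2_c27 LD3_c29)) :=
  Lre_c IH (LK LD1_c3 LD2_c11 LD3_c39) (LK LD1_c6 LD2_c27 LD3_c29) Lrfl Lrfl
theorem f83426 : Led Lsl_bt (LP (LK LD1_c3 LD2_c11 LD3_c42)) = (LP (LK LD1_c6 LD2_c27 LD3_c38)) :=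
  Lre_b IH (LK LD1_c3 LD2_c11 LD3_c42) (LK LD1_c6 LD2_c27 LD3_c38) Lrfl Lrfl
theorem f83427 : Led Lsl_bt (LP (LK LD1_c6 LD2_c23 LD3_c12)) = (LP (LK LD1_c3 LD2_c9 LD3_c15)) :=
  Lre_b IH (LK LD1_c6 LD2_c23 LD3_c12) (LK LD1_c3 LD2_c9 LD3_c15) Lrfl Lrfl
theorem f83428 : Led Lsl_ff (LP (LK LD1_c3 LD2_c11 LD3_c42)) = (LP (LK LD1_c3 LD2_c9 LD3_c15)) :=
  Lgr Lrot25 (Lpr_bt (f83426 IH) (Lpr_ft (K2.f83418 IH) (Lpr_bt (f83427 IH) (Lpn (LP (LK LD1_c3 LD2_c9 LD3_c15))))))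
theorem f83631 : Led Lsl_at (LP (LK LD1_c3 LD2_c11 LD3_c42)) = (LP (LK LD1_c6 LD2_c27 LD3_c29)) :=
  Lre_a IH (LK LD1_c3 LD2_c11 LD3_c42) (LK LD1_c6 LD2_c27 LD3_c29) Lrfl Lrfl
theorem f83663 : Led Lsl_gt (LP (LK LD1_c3 LD2_c9 LD3_c15)) = (LP (LK LD1_c6 LD2_c23 LD3_c10)) :=
  Lre_g IH (LK LD1_c3 LD2_c9 LD3_c15) (LK LD1_c6 LD2_c23 LD3_c10) Lrfl Lrfl
theorem f83664 : Led Lsl_gf (LP (LK LD1_c6 LD2_c27 LD3_c29)) = (LP (LK LD1_c6 LD2_c23 LD3_c10)) :=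
  Lgr Lrot76 (Lpe (f83631 IH) (Lpr_ff (f83428 IH) (Lpr_gt (f83663 IH) (Lpn (LP (LK LD1_c6 LD2_c23 LD3_c10))))))
theorem f17274 : Led Lsl_dt (LP (LK LD1_c0 LD2_c20 LD3_c57)) = (LP (LK LD1_c0 LD2_c46 LD3_c44)) :=
  Lre_d IH (LK LD1_c0 LD2_c20 LD3_c57) (LK LD1_c0 LD2_c46 LD3_c44) Lrfl Lrfl
theorem f92033 : Led Lsl_dt (LP (LK LD1_c1 LD2_c38 LD3_c35)) = (LP (LK LD1_c0 LD2_c45 LD3_c41)) :=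
  Lre_d IH (LK LD1_c1 LD2_c38 LD3_c35) (LK LD1_c0 LD2_c45 LD3_c41) Lrfl Lrfl
theorem f92262 : Led Lsl_ct (LP (LK LD1_c1 LD2_c38 LD3_c34)) = (LP (LK LD1_c0 LD2_c45 LD3_c41)) :=
  Lre_c IH (LK LD1_c1 LD2_c38 LD3_c34) (LK LD1_c0 LD2_c45 LD3_c41) Lrfl Lrfl
theorem f92263 : Led Lsl_dt (LP (LK LD1_c3 LD2_c24 LD3_c21)) = (LP (LK LD1_c1 LD2_c38 LD3_c34)) :=
  Lre_d IH (LK LD1_c3 LD2_c24 LD3_c21) (LK LD1_c1 LD2_c38 LD3_c34) Lrfl Lrfl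
theorem f106373 : Led Lsl_gt (LP (LK LD1_c3 LD2_c43 LD3_c2)) = (LP (LK LD1_c3 LD2_c24 LD3_c21)) :=
  Lgr Lrot49 (Lpe (f86747 IH) (Lpr_gf (K4.f106364 IH) (Lpe (K4.f19173 IH) (Lpr_gt (K4.f12646 IH) (Lpr_dt (f17274 IH) (Lpr_gt (K4.f92251 IH) (Lpr_dt (f92033 IH) (Lpe (f92262 IH) (Lpe (f92263 IH) (Lpn (LP (LK LD1_c3 LD2_c24 LD3_c21))))))))))))
theorem f86751 : Led Lsl_dt (LP (LK LD1_c3 LD2_c43 LD3_c2)) = (LP (LK LD1_c1 LD2_c48 LD3_c35)) :=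
  Lre_d IH (LK LD1_c3 LD2_c43 LD3_c2) (LK LD1_c1 LD2_c48 LD3_c35) Lrfl Lrfl
theorem f90272 : Led Lsl_bf (LP (LK LD1_c0 LD2_c46 LD3_c42)) = (LP (LK LD1_c1 LD2_c26 LD3_c54)) :=
  Lgr Lrot96 (Lpr_et (K4.f90270 IH) (Lpr_bt (K2.f64382 IH) (Lpr_et (K3.f63108 IH) (Lpn (LP (LK LD1_c1 LD2_c26 LD3_c54))))))
theorem f68154 : Led Lsl_ct (LP (LK LD1_c0 LD2_c47 LD3_c53)) = (LP (LK LD1_c1 LD2_c32 LD3_c11)) :=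
  Lgr Lrot83 (Lpr_bf (K4.f18098 IH) (Lpr_cf (K2.f68151 IH) (Lpe (K2.f68070 IH) (Lpr_cf (K2.f25076 IH) (Lpr_bf (K4.f67382 IH) (Lpn (LP (LK LD1_c1 LD2_c32 LD3_c11))))))))
theorem f90283 : Led Lsl_gt (LP (LK LD1_c0 LD2_c46 LD3_c42)) = (LP (LK LD1_c0 LD2_c47 LD3_c53)) :=
  Lgr Lrot82 (Lpr_bf (f90272 IH) (Lpr_ct (K3.f64508 IH) (Lpr_gf (K3.f64492 IH) (Lpe (K3.f64498 IH) (Lpe (K3.f11103 IH) (Lpe (K3.f64504 IH) (Lpe (K2.f11934 IH) (Lpe (K2.f11935 IH) (Lpr_gf (f76743 IH) (Lpe (f68154 IH) (Lpn (LP (LK LD1_c0 LD2_c47 LD3_c53)))))))))))))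
theorem f106377 : Led Lsl_cf (LP (LK LD1_c6 LD2_c23 LD3_c10)) = (LP (LK LD1_c3 LD2_c24 LD3_c21)) :=
  Lgr Lrot169 (Lpe (f83664 IH) (Lpr_ct (K2.f67912 IH) (Lpe (K2.f68069 IH) (Lpe (f68154 IH) (Lpe (f90283 IH) (Lpe (K4.f90274 IH) (Lpr_gf (K4.f105942 IH) (Lpe (f86751 IH) (Lpr_gt (f106373 IH) (Lpn (LP (LK LD1_c3 LD2_c24 LD3_c21))))))))))))
theorem f106379 : Led Lsl_bt (LP (LK LD1_c1 LD2_c48 LD3_c38)) = (LP (LK LD1_c3 LD2_c43 LD3_c2)) :=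
  Lre_b IH (LK LD1_c1 LD2_c48 LD3_c38) (LK LD1_c3 LD2_c43 LD3_c2) Lrfl Lrfl
theorem f134582 : Led Lsl_gt (LP (LK LD1_c7 LD2_c20 LD3_c11)) = (LP (LK LD1_c3 LD2_c43 LD3_c9)) :=
  Lgr Lrot65 (Lpe (f134543 IH) (Lpr_bt (f134541 IH) (Lpe (f67907 IH) (Lpr_bf (K2.f67425 IH) (Lpr_ct (f67678 IH) (Lpr_gf (f83664 IH) (Lpr_cf (f106377 IH) (Lpe (f106373 IH) (Lpe (f106379 IH) (Lpr_ct (K3.f86768 IH) (Lpn (LP (LK LD1_c3 LD2_c43 LD3_c9)))))))))))))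
theorem f134586 : Led Lsl_gf (LP (LK LD1_c3 LD2_c40 LD3_c1)) = (LP (LK LD1_c3 LD2_c10 LD3_c54)) :=
  Lgr Lrot147 (Lpr_ct (f134543 IH) (Lpr_gt (f134582 IH) (Lpr_ct (K3.f86770 IH) (Lpe (K3.f86737 IH) (Lpe (K3.f86723 IH) (Lpe (K3.f86738 IH) (Lpr_cf (K3.f106784 IH) (Lpe (f108842 IH) (Lpe (f108844 IH) (Lpn (LP (LK LD1_c3 LD2_c10 LD3_c54))))))))))))
theorem f108845 : Led Lsl_dt (LP (LK LD1_c1 LD2_c31 LD3_c52)) = (LP (LK LD1_c3 LD2_c10 LD3_c54)) :=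
  Lre_d IH (LK LD1_c1 LD2_c31 LD3_c52) (LK LD1_c3 LD2_c10 LD3_c54) Lrfl Lrfl
theorem f125090 : Led Lsl_dt (LP (LK LD1_c1 LD2_c48 LD3_c17)) = (LP (LK LD1_c0 LD2_c50 LD3_c54)) :=
  Lre_d IH (LK LD1_c1 LD2_c48 LD3_c17) (LK LD1_c0 LD2_c50 LD3_c54) Lrfl Lrfl
theorem f125091 : Led Lsl_ft (LP (LK LD1_c3 LD2_c10 LD3_c54)) = (LP (LK LD1_c1 LD2_c48 LD3_c17)) :=
  Lgr Lrot54 (Lpe (f108845 IH) (Lpr_ff (f125079 IH) (Lpe (f125090 IH) (Lpn (LP (LK LD1_c1 LD2_c48 LD3_c17))))))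
theorem f134595 : Led Lsl_af (LP (LK LD1_c1 LD2_c46 LD3_c61)) = (LP (LK LD1_c1 LD2_c48 LD3_c17)) :=
  Lgr Lrot31 (Lpe (f12555 IH) (Lpr_gf (f134586 IH) (Lpr_ft (f125091 IH) (Lpn (LP (LK LD1_c1 LD2_c48 LD3_c17))))))
theorem f134608 : Led Lsl_ct (LP (LK LD1_c3 LD2_c42 LD3_c35)) = (LP (LK LD1_c1 LD2_c48 LD3_c17)) :=
  Lre_c IH (LK LD1_c3 LD2_c42 LD3_c35) (LK LD1_c1 LD2_c48 LD3_c17) Lrfl Lrfl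
theorem f134609 : Led Lsl_at (LP (LK LD1_c3 LD2_c40 LD3_c2)) = (LP (LK LD1_c3 LD2_c42 LD3_c35)) :=
  Lgr Lrot107 (Lpe (f12455 IH) (Lpr_af (f134595 IH) (Lpe (f134608 IH) (Lpn (LP (LK LD1_c3 LD2_c42 LD3_c35))))))
theorem f125062 : Led Lsl_ct (LP (LK LD1_c7 LD2_c26 LD3_c25)) = (LP (LK LD1_c3 LD2_c42 LD3_c52)) :=
  Lre_c IH (LK LD1_c7 LD2_c26 LD3_c25) (LK LD1_c3 LD2_c42 LD3_c52) Lrfl Lrfl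
theorem f17758 : Led Lsl_dt (LP (LK LD1_c1 LD2_c38 LD3_c59)) = (LP (LK LD1_c3 LD2_c25 LD3_c1)) :=
  Lre_d IH (LK LD1_c1 LD2_c38 LD3_c59) (LK LD1_c3 LD2_c25 LD3_c1) Lrfl Lrfl
theorem f21077 : Led Lsl_ct (LP (LK LD1_c1 LD2_c26 LD3_c29)) = (LP (LK LD1_c3 LD2_c1 LD3_c10)) :=
  Lre_c IH (LK LD1_c1 LD2_c26 LD3_c29) (LK LD1_c3 LD2_c1 LD3_c10) Lrfl Lrfl
theorem f24798 : Led Lsl_gt (LP (LK LD1_c3 LD2_c1 LD3_c10)) = (LP (LK LD1_c6 LD2_c9 LD3_c25)) :=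
  Lre_g IH (LK LD1_c3 LD2_c1 LD3_c10) (LK LD1_c6 LD2_c9 LD3_c25) Lrfl Lrfl
theorem f86771 : Led Lsl_cf (LP (LK LD1_c3 LD2_c25 LD3_c1)) = (LP (LK LD1_c6 LD2_c9 LD3_c25)) :=
  Lgr Lrot99 (Lpe (f17758 IH) (Lpe (K0.f17711 IH) (Lpe (K3.f19765 IH) (Lpe (K3.f84607 IH) (Lpe (K3.f86724 IH) (Lpe (K4.f86735 IH) (Lpr_gt (f86761 IH) (Lpr_ct (f21077 IH) (Lpr_gt (f24798 IH) (Lpn (LP (LK LD1_c6 LD2_c9 LD3_c25))))))))))))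
theorem f86782 : Led Lsl_ct (LP (LK LD1_c3 LD2_c25 LD3_c1)) = (LP (LK LD1_c6 LD2_c9 LD3_c25)) :=
  Lgr Lrot59 (Lpr_cf (f86771 IH) (Lpn (LP (LK LD1_c6 LD2_c9 LD3_c25))))
theorem f125074 : Led Lsl_dt (LP (LK LD1_c6 LD2_c9 LD3_c25)) = (LP (LK LD1_c7 LD2_c26 LD3_c25)) :=
  Lgr Lrot173 (Lpe (f86782 IH) (Lpe (f17758 IH) (Lpe (K0.f17711 IH) (Lpe (f17706 IH) (Lpe (f17717 IH) (Lpe (f17722 IH) (Lpr_cf (f125069 IH) (Lpe (f125068 IH) (Lpe (f124244 IH) (Lpe (f120905 IH) (Lpe (K4.f120913 IH) (Lpe (f120897 IH) (Lpe (K4.f120875 IH) (Lpe (f120876 IH) (Lpe (f125062 IH) (Lpn (LP (LK LD1_c7 LD2_c26 LD3_c25))))))))))))))))))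
theorem f134616 : Led Lsl_ff (LP (LK LD1_c3 LD2_c40 LD3_c2)) = (LP (LK LD1_c6 LD2_c9 LD3_c25)) :=
  Lgr Lrot103 (Lpr_at (f134609 IH) (Lpe (f124244 IH) (Lpe (f120905 IH) (Lpe (K4.f120913 IH) (Lpe (f120897 IH) (Lpe (K4.f120875 IH) (Lpe (f120876 IH) (Lpe (f125062 IH) (Lpe (f125074 IH) (Lpn (LP (LK LD1_c6 LD2_c9 LD3_c25))))))))))))
theorem f134621 : Led Lsl_ft (LP (LK LD1_c3 LD2_c40 LD3_c2)) = (LP (LK LD1_c6 LD2_c9 LD3_c25)) :=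
  Lgr Lrot48 (Lpr_ff (f134616 IH) (Lpn (LP (LK LD1_c6 LD2_c9 LD3_c25))))
theorem f108874 : Led Lsl_ct (LP (LK LD1_c3 LD2_c10 LD3_c54)) = (LP (LK LD1_c6 LD2_c26 LD3_c10)) :=
  Lre_c IH (LK LD1_c3 LD2_c10 LD3_c54) (LK LD1_c6 LD2_c26 LD3_c10) Lrfl Lrfl
theorem f134627 : Led Lsl_af (LP (LK LD1_c6 LD2_c26 LD3_c10)) = (LP (LK LD1_c6 LD2_c9 LD3_c25)) :=
  Lgr Lrot109 (Lpe (f108874 IH) (Lpe (f108845 IH) (Lpr_cf (f108833 IH) (Lpe (f108873 IH) (Lpe (f94112 IH) (Lpe (f94113 IH) (Lpr_cf (f131011 IH) (Lpe (f105652 IH) (Lpr_ft (f134621 IH) (Lpn (LP (LK LD1_c6 LD2_c9 LD3_c25))))))))))))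
theorem f134611 : Led Lsl_af (LP (LK LD1_c3 LD2_c40 LD3_c2)) = (LP (LK LD1_c3 LD2_c42 LD3_c35)) :=
  Lgr Lrot0 (Lpr_at (f134609 IH) (Lpn (LP (LK LD1_c3 LD2_c42 LD3_c35))))
theorem f134636 : Led Lsl_ft (LP (LK LD1_c6 LD2_c26 LD3_c10)) = (LP (LK LD1_c3 LD2_c42 LD3_c35)) :=
  Lgr Lrot101 (Lpr_af (f134627 IH) (Lpe (f134621 IH) (Lpr_af (f134611 IH) (Lpn (LP (LK LD1_c3 LD2_c42 LD3_c35))))))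
theorem f134643 : Led Lsl_ff (LP (LK LD1_c6 LD2_c26 LD3_c10)) = (LP (LK LD1_c3 LD2_c42 LD3_c35)) :=
  Lgr Lrot3 (Lpr_ft (f134636 IH) (Lpn (LP (LK LD1_c3 LD2_c42 LD3_c35))))
theorem f134629 : Led Lsl_at (LP (LK LD1_c6 LD2_c26 LD3_c10)) = (LP (LK LD1_c6 LD2_c9 LD3_c25)) :=
  Lgr Lrot100 (Lpr_af (f134627 IH) (Lpn (LP (LK LD1_c6 LD2_c9 LD3_c25))))
theorem f134651 : Led Lsl_gf (LP (LK LD1_c3 LD2_c1 LD3_c10)) = (LP (LK LD1_c3 LD2_c42 LD3_c35)) :=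
  Lgr Lrot47 (Lpr_gt (f24798 IH) (Lpe (f134629 IH) (Lpr_ff (f134643 IH) (Lpn (LP (LK LD1_c3 LD2_c42 LD3_c35))))))
theorem f21085 : Led Lsl_at (LP (LK LD1_c6 LD2_c9 LD3_c19)) = (LP (LK LD1_c3 LD2_c1 LD3_c10)) :=
  Lre_a IH (LK LD1_c6 LD2_c9 LD3_c19) (LK LD1_c3 LD2_c1 LD3_c10) Lrfl Lrfl
theorem f125081 : Led Lsl_gt (LP (LK LD1_c7 LD2_c25 LD3_c46)) = (LP (LK LD1_c3 LD2_c42 LD3_c35)) :=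
  Lre_g IH (LK LD1_c7 LD2_c25 LD3_c46) (LK LD1_c3 LD2_c42 LD3_c35) Lrfl Lrfl
theorem f134653 : Led Lsl_ff (LP (LK LD1_c6 LD2_c9 LD3_c19)) = (LP (LK LD1_c7 LD2_c25 LD3_c46)) :=
  Lgr Lrot52 (Lpr_at (f21085 IH) (Lpr_gf (f134651 IH) (Lpe (f125081 IH) (Lpn (LP (LK LD1_c7 LD2_c25 LD3_c46))))))
theorem f21076 : Led Lsl_dt (LP (LK LD1_c0 LD2_c39 LD3_c61)) = (LP (LK LD1_c1 LD2_c26 LD3_c29)) :=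
  Lre_d IH (LK LD1_c0 LD2_c39 LD3_c61) (LK LD1_c1 LD2_c26 LD3_c29) Lrfl Lrfl
theorem f12738 : Led Lsl_ct (LP (LK LD1_c1 LD2_c39 LD3_c7)) = (LP (LK LD1_c0 LD2_c45 LD3_c59)) :=
  Lre_c IH (LK LD1_c1 LD2_c39 LD3_c7) (LK LD1_c0 LD2_c45 LD3_c59) Lrfl Lrfl
theorem f12739 : Led Lsl_dt (LP (LK LD1_c3 LD2_c25 LD3_c13)) = (LP (LK LD1_c1 LD2_c39 LD3_c7)) :=
  Lre_d IH (LK LD1_c3 LD2_c25 LD3_c13) (LK LD1_c1 LD2_c39 LD3_c7) Lrfl Lrfl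
theorem f21075 : Led Lsl_ct (LP (LK LD1_c6 LD2_c52 LD3_c42)) = (LP (LK LD1_c3 LD2_c25 LD3_c13)) :=
  Lre_c IH (LK LD1_c6 LD2_c52 LD3_c42) (LK LD1_c3 LD2_c25 LD3_c13) Lrfl Lrfl
theorem f134663 : Led Lsl_df (LP (LK LD1_c6 LD2_c52 LD3_c42)) = (LP (LK LD1_c7 LD2_c25 LD3_c46)) :=
  Lgr Lrot157 (Lpr_ct (f21075 IH) (Lpr_dt (f12739 IH) (Lpr_ct (f12738 IH) (Lpr_dt (f21074 IH) (Lpr_ct (K2.f21059 IH) (Lpr_dt (f21076 IH) (Lpr_ct (f21077 IH) (Lpe (f21085 IH) (Lpr_ff (f134653 IH) (Lpn (LP (LK LD1_c7 LD2_c25 LD3_c46))))))))))))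
theorem f124258 : Led Lsl_at (LP (LK LD1_c1 LD2_c39 LD3_c0)) = (LP (LK LD1_c0 LD2_c45 LD3_c59)) :=
  Lre_a IH (LK LD1_c1 LD2_c39 LD3_c0) (LK LD1_c0 LD2_c45 LD3_c59) Lrfl Lrfl
theorem f124259 : Led Lsl_ft (LP (LK LD1_c1 LD2_c48 LD3_c25)) = (LP (LK LD1_c1 LD2_c39 LD3_c0)) :=
  Lgr Lrot2 (Lpr_gt (f124251 IH) (Lpr_gt (f124254 IH) (Lpe (f124258 IH) (Lpn (LP (LK LD1_c1 LD2_c39 LD3_c0))))))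
theorem f21126 : Led Lsl_ct (LP (LK LD1_c6 LD2_c9 LD3_c19)) = (LP (LK LD1_c3 LD2_c1 LD3_c4)) :=
  Lre_c IH (LK LD1_c6 LD2_c9 LD3_c19) (LK LD1_c3 LD2_c1 LD3_c4) Lrfl Lrfl
theorem f86736 : Led Lsl_gt (LP (LK LD1_c3 LD2_c43 LD3_c8)) = (LP (LK LD1_c1 LD2_c48 LD3_c38)) :=
  Lre_g IH (LK LD1_c3 LD2_c43 LD3_c8) (LK LD1_c1 LD2_c48 LD3_c38) Lrfl Lrfl
theorem f24827 : Led Lsl_at (LP (LK LD1_c3 LD2_c1 LD3_c4)) = (LP (LK LD1_c1 LD2_c26 LD3_c29)) :=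
  Lre_a IH (LK LD1_c3 LD2_c1 LD3_c4) (LK LD1_c1 LD2_c26 LD3_c29) Lrfl Lrfl
theorem f86766 : Led Lsl_ft (LP (LK LD1_c3 LD2_c43 LD3_c8)) = (LP (LK LD1_c3 LD2_c1 LD3_c4)) :=
  Lgr Lrot2 (Lpr_gt (f86736 IH) (Lpr_gt (f86761 IH) (Lpe (f24827 IH) (Lpn (LP (LK LD1_c3 LD2_c1 LD3_c4))))))
theorem f86803 : Led Lsl_ff (LP (LK LD1_c3 LD2_c43 LD3_c8)) = (LP (LK LD1_c3 LD2_c1 LD3_c4)) :=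
  Lgr Lrot3 (Lpr_ft (f86766 IH) (Lpn (LP (LK LD1_c3 LD2_c1 LD3_c4))))
theorem f134659 : Led Lsl_ct (LP (LK LD1_c3 LD2_c43 LD3_c8)) = (LP (LK LD1_c7 LD2_c25 LD3_c46)) :=
  Lgr Lrot40 (Lpr_ff (f86803 IH) (Lpe (f21126 IH) (Lpr_ff (f134653 IH) (Lpn (LP (LK LD1_c7 LD2_c25 LD3_c46))))))
theorem f21124 : Led Lsl_dt (LP (LK LD1_c3 LD2_c1 LD3_c4)) = (LP (LK LD1_c1 LD2_c26 LD3_c26)) :=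
  Lre_d IH (LK LD1_c3 LD2_c1 LD3_c4) (LK LD1_c1 LD2_c26 LD3_c26) Lrfl Lrfl
theorem f21119 : Led Lsl_ft (LP (LK LD1_c1 LD2_c26 LD3_c26)) = (LP (LK LD1_c3 LD2_c1 LD3_c5)) :=
  Lre_f IH (LK LD1_c1 LD2_c26 LD3_c26) (LK LD1_c3 LD2_c1 LD3_c5) Lrfl Lrfl
theorem f86801 : Led Lsl_df (LP (LK LD1_c3 LD2_c43 LD3_c8)) = (LP (LK LD1_c3 LD2_c1 LD3_c5)) :=
  Lgr Lrot78 (Lpr_ft (f86766 IH) (Lpr_dt (f21124 IH) (Lpr_ft (f21119 IH) (Lpn (LP (LK LD1_c3 LD2_c1 LD3_c5))))))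
theorem f21053 : Led Lsl_at (LP (LK LD1_c0 LD2_c45 LD3_c60)) = (LP (LK LD1_c1 LD2_c39 LD3_c1)) :=
  Lre_a IH (LK LD1_c0 LD2_c45 LD3_c60) (LK LD1_c1 LD2_c39 LD3_c1) Lrfl Lrfl
theorem f21054 : Led Lsl_at (LP (LK LD1_c3 LD2_c1 LD3_c5)) = (LP (LK LD1_c1 LD2_c26 LD3_c30)) :=
  Lre_a IH (LK LD1_c3 LD2_c1 LD3_c5) (LK LD1_c1 LD2_c26 LD3_c30) Lrfl Lrfl
theorem f21055 : Led Lsl_ct (LP (LK LD1_c1 LD2_c39 LD3_c1)) = (LP (LK LD1_c3 LD2_c1 LD3_c5)) :=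
  Lgr Lrot111 (Lpe (f21053 IH) (Lpr_cf (K2.f21050 IH) (Lpe (f21054 IH) (Lpn (LP (LK LD1_c3 LD2_c1 LD3_c5))))))
theorem f134672 : Led Lsl_dt (LP (LK LD1_c1 LD2_c48 LD3_c25)) = (LP (LK LD1_c1 LD2_c39 LD3_c1)) :=
  Lgr Lrot159 (Lpr_ft (f124259 IH) (Lpr_at (f124258 IH) (Lpe (f12738 IH) (Lpe (f12739 IH) (Lpe (f21075 IH) (Lpr_df (f134663 IH) (Lpe (f134659 IH) (Lpr_df (f86801 IH) (Lpe (f21055 IH) (Lpn (LP (LK LD1_c1 LD2_c39 LD3_c1))))))))))))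
theorem f17719 : Led Lsl_dt (LP (LK LD1_c0 LD2_c45 LD3_c54)) = (LP (LK LD1_c1 LD2_c38 LD3_c60)) :=
  Lre_d IH (LK LD1_c0 LD2_c45 LD3_c54) (LK LD1_c1 LD2_c38 LD3_c60) Lrfl Lrfl
theorem f82433 : Led Lsl_dt (LP (LK LD1_c1 LD2_c26 LD3_c24)) = (LP (LK LD1_c3 LD2_c1 LD3_c2)) :=
  Lre_d IH (LK LD1_c1 LD2_c26 LD3_c24) (LK LD1_c3 LD2_c1 LD3_c2) Lrfl Lrfl
theorem f21096 : Led Lsl_at (LP (LK LD1_c0 LD2_c9 LD3_c16)) = (LP (LK LD1_c0 LD2_c20 LD3_c33)) :=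
  Lre_a IH (LK LD1_c0 LD2_c9 LD3_c16) (LK LD1_c0 LD2_c20 LD3_c33) Lrfl Lrfl
theorem f21097 : Led Lsl_at (LP (LK LD1_c0 LD2_c39 LD3_c60)) = (LP (LK LD1_c0 LD2_c17 LD3_c57)) :=
  Lre_a IH (LK LD1_c0 LD2_c39 LD3_c60) (LK LD1_c0 LD2_c17 LD3_c57) Lrfl Lrfl
theorem f21098 : Led Lsl_ct (LP (LK LD1_c0 LD2_c20 LD3_c33)) = (LP (LK LD1_c0 LD2_c39 LD3_c60)) :=
  Lgr Lrot111 (Lpe (f21096 IH) (Lpr_cf (K2.f21081 IH) (Lpe (f21097 IH) (Lpn (LP (LK LD1_c0 LD2_c39 LD3_c60))))))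
theorem f21103 : Led Lsl_cf (LP (LK LD1_c0 LD2_c20 LD3_c33)) = (LP (LK LD1_c0 LD2_c39 LD3_c60)) :=
  Lgr Lrot11 (Lpr_ct (f21098 IH) (Lpn (LP (LK LD1_c0 LD2_c39 LD3_c60))))
theorem f21108 : Led Lsl_et (LP (LK LD1_c0 LD2_c20 LD3_c33)) = (LP (LK LD1_c0 LD2_c45 LD3_c56)) :=
  Lre_e IH (LK LD1_c0 LD2_c20 LD3_c33) (LK LD1_c0 LD2_c45 LD3_c56) Lrfl Lrfl
theorem f21109 : Led Lsl_et (LP (LK LD1_c1 LD2_c26 LD3_c26)) = (LP (LK LD1_c0 LD2_c39 LD3_c60)) :=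
  Lre_e IH (LK LD1_c1 LD2_c26 LD3_c26) (LK LD1_c0 LD2_c39 LD3_c60) Lrfl Lrfl
theorem f21110 : Led Lsl_ct (LP (LK LD1_c0 LD2_c45 LD3_c56)) = (LP (LK LD1_c1 LD2_c26 LD3_c26)) :=
  Lgr Lrot15 (Lpe (f21108 IH) (Lpr_cf (f21103 IH) (Lpe (f21109 IH) (Lpn (LP (LK LD1_c1 LD2_c26 LD3_c26))))))
theorem f21118 : Led Lsl_ft (LP (LK LD1_c1 LD2_c39 LD3_c1)) = (LP (LK LD1_c0 LD2_c45 LD3_c56)) :=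
  Lre_f IH (LK LD1_c1 LD2_c39 LD3_c1) (LK LD1_c0 LD2_c45 LD3_c56) Lrfl Lrfl
theorem f21120 : Led Lsl_cf (LP (LK LD1_c1 LD2_c39 LD3_c1)) = (LP (LK LD1_c3 LD2_c1 LD3_c5)) :=
  Lgr Lrot108 (Lpr_ft (f21118 IH) (Lpr_ct (f21110 IH) (Lpr_ft (f21119 IH) (Lpn (LP (LK LD1_c3 LD2_c1 LD3_c5))))))
theorem f21116 : Led Lsl_dt (LP (LK LD1_c1 LD2_c26 LD3_c26)) = (LP (LK LD1_c3 LD2_c1 LD3_c4)) :=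
  Lre_d IH (LK LD1_c1 LD2_c26 LD3_c26) (LK LD1_c3 LD2_c1 LD3_c4) Lrfl Lrfl
theorem f21084 : Led Lsl_ft (LP (LK LD1_c3 LD2_c1 LD3_c5)) = (LP (LK LD1_c1 LD2_c26 LD3_c26)) :=
  Lre_f IH (LK LD1_c3 LD2_c1 LD3_c5) (LK LD1_c1 LD2_c26 LD3_c26) Lrfl Lrfl
theorem f86805 : Led Lsl_dt (LP (LK LD1_c3 LD2_c43 LD3_c8)) = (LP (LK LD1_c3 LD2_c1 LD3_c5)) :=
  Lgr Lrot60 (Lpr_ff (f86803 IH) (Lpe (f21116 IH) (Lpe (f21084 IH) (Lpn (LP (LK LD1_c3 LD2_c1 LD3_c5))))))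
theorem f134685 : Led Lsl_gt (LP (LK LD1_c3 LD2_c1 LD3_c2)) = (LP (LK LD1_c3 LD2_c43 LD3_c8)) :=
  Lgr Lrot49 (Lpe (f82433 IH) (Lpr_gf (f109180 IH) (Lpr_cf (K2.f84285 IH) (Lpr_gt (K3.f19765 IH) (Lpr_dt (f17719 IH) (Lpr_gt (f131043 IH) (Lpr_dt (f134672 IH) (Lpr_cf (f21120 IH) (Lpe (f86805 IH) (Lpn (LP (LK LD1_c3 LD2_c43 LD3_c8))))))))))))
theorem f134691 : Led Lsl_ef (LP (LK LD1_c1 LD2_c48 LD3_c24)) = (LP (LK LD1_c3 LD2_c1 LD3_c5)) :=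
  Lgr Lrot114 (Lpr_gt (f124264 IH) (Lpe (K3.f86741 IH) (Lpr_dt (K3.f86742 IH) (Lpe (f129269 IH) (Lpe (f23267 IH) (Lpe (K3.f84333 IH) (Lpe (f109180 IH) (Lpr_dt (f82433 IH) (Lpr_gt (f134685 IH) (Lpr_df (f86801 IH) (Lpn (LP (LK LD1_c3 LD2_c1 LD3_c5)))))))))))))
theorem f134695 : Led Lsl_et (LP (LK LD1_c1 LD2_c48 LD3_c24)) = (LP (LK LD1_c3 LD2_c1 LD3_c5)) :=
  Lgr Lrot87 (Lpr_ef (f134691 IH) (Lpn (LP (LK LD1_c3 LD2_c1 LD3_c5))))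
theorem f134697 : Led Lsl_ef (LP (LK LD1_c0 LD2_c50 LD3_c57)) = (LP (LK LD1_c1 LD2_c39 LD3_c1)) :=
  Lgr Lrot28 (Lpr_ct (f124263 IH) (Lpr_et (f134695 IH) (Lpe (f21120 IH) (Lpn (LP (LK LD1_c1 LD2_c39 LD3_c1))))))
theorem f84612 : Led Lsl_at (LP (LK LD1_c0 LD2_c46 LD3_c4)) = (LP (LK LD1_c0 LD2_c20 LD3_c40)) :=
  Lre_a IH (LK LD1_c0 LD2_c46 LD3_c4) (LK LD1_c0 LD2_c20 LD3_c40) Lrfl Lrfl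
theorem f124249 : Led Lsl_ft (LP (LK LD1_c0 LD2_c50 LD3_c57)) = (LP (LK LD1_c0 LD2_c46 LD3_c4)) :=
  Lgr Lrot2 (Lpr_gt (f121008 IH) (Lpr_gt (f124247 IH) (Lpe (f84612 IH) (Lpn (LP (LK LD1_c0 LD2_c46 LD3_c4))))))
theorem f84897 : Led Lsl_et (LP (LK LD1_c0 LD2_c46 LD3_c4)) = (LP (LK LD1_c0 LD2_c20 LD3_c39)) :=
  Lre_e IH (LK LD1_c0 LD2_c46 LD3_c4) (LK LD1_c0 LD2_c20 LD3_c39) Lrfl Lrfl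
theorem f21062 : Led Lsl_ft (LP (LK LD1_c0 LD2_c45 LD3_c56)) = (LP (LK LD1_c1 LD2_c39 LD3_c1)) :=
  Lre_f IH (LK LD1_c0 LD2_c45 LD3_c56) (LK LD1_c1 LD2_c39 LD3_c1) Lrfl Lrfl
theorem f134701 : Led Lsl_ft (LP (LK LD1_c0 LD2_c20 LD3_c39)) = (LP (LK LD1_c0 LD2_c20 LD3_c33)) :=
  Lgr Lrot86 (Lpe (f84897 IH) (Lpe (f124249 IH) (Lpr_ef (f134697 IH) (Lpe (f21062 IH) (Lpe (f21108 IH) (Lpn (LP (LK LD1_c0 LD2_c20 LD3_c33))))))))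
theorem f84763 : Led Lsl_df (LP (LK LD1_c0 LD2_c10 LD3_c46)) = (LP (LK LD1_c0 LD2_c9 LD3_c21)) :=
  Lgr Lrot162 (Lpe (K2.f11655 IH) (Lpe (K2.f11523 IH) (Lpr_cf (K2.f11524 IH) (Lpe (K2.f84760 IH) (Lpr_dt (K2.f84762 IH) (Lpr_gt (K2.f84732 IH) (Lpr_ct (K2.f84747 IH) (Lpr_gt (K2.f7370 IH) (Lpe (K2.f84628 IH) (Lpn (LP (LK LD1_c0 LD2_c9 LD3_c21))))))))))))
theorem f84768 : Led Lsl_et (LP (LK LD1_c0 LD2_c10 LD3_c46)) = (LP (LK LD1_c0 LD2_c24 LD3_c8)) :=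
  Lre_e IH (LK LD1_c0 LD2_c10 LD3_c46) (LK LD1_c0 LD2_c24 LD3_c8) Lrfl Lrfl
theorem f84769 : Led Lsl_dt (LP (LK LD1_c0 LD2_c24 LD3_c8)) = (LP (LK LD1_c0 LD2_c53 LD3_c44)) :=
  Lre_d IH (LK LD1_c0 LD2_c24 LD3_c8) (LK LD1_c0 LD2_c53 LD3_c44) Lrfl Lrfl
theorem f19767 : Led Lsl_dt (LP (LK LD1_c0 LD2_c46 LD3_c5)) = (LP (LK LD1_c0 LD2_c20 LD3_c40)) :=
  Lre_d IH (LK LD1_c0 LD2_c46 LD3_c5) (LK LD1_c0 LD2_c20 LD3_c40) Lrfl Lrfl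
theorem f84770 : Led Lsl_et (LP (LK LD1_c0 LD2_c53 LD3_c44)) = (LP (LK LD1_c0 LD2_c46 LD3_c5)) :=
  Lgr Lrot71 (Lpe (f84769 IH) (Lpe (f84768 IH) (Lpr_df (f84763 IH) (Lpe (K3.f84606 IH) (Lpe (f19767 IH) (Lpn (LP (LK LD1_c0 LD2_c46 LD3_c5))))))))
theorem f84786 : Led Lsl_ef (LP (LK LD1_c0 LD2_c53 LD3_c44)) = (LP (LK LD1_c0 LD2_c46 LD3_c5)) :=
  Lgr Lrot88 (Lpr_et (f84770 IH) (Lpn (LP (LK LD1_c0 LD2_c46 LD3_c5))))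
theorem f84792 : Led Lsl_at (LP (LK LD1_c0 LD2_c53 LD3_c44)) = (LP (LK LD1_c1 LD2_c54 LD3_c3)) :=
  Lre_a IH (LK LD1_c0 LD2_c53 LD3_c44) (LK LD1_c1 LD2_c54 LD3_c3) Lrfl Lrfl
theorem f84793 : Led Lsl_at (LP (LK LD1_c1 LD2_c39 LD3_c15)) = (LP (LK LD1_c0 LD2_c46 LD3_c5)) :=
  Lre_a IH (LK LD1_c1 LD2_c39 LD3_c15) (LK LD1_c0 LD2_c46 LD3_c5) Lrfl Lrfl
theorem f84794 : Led Lsl_et (LP (LK LD1_c1 LD2_c54 LD3_c3)) = (LP (LK LD1_c1 LD2_c39 LD3_c15)) :=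
  Lgr Lrot123 (Lpe (f84792 IH) (Lpr_ef (f84786 IH) (Lpe (f84793 IH) (Lpn (LP (LK LD1_c1 LD2_c39 LD3_c15))))))
theorem f84894 : Led Lsl_dt (LP (LK LD1_c0 LD2_c53 LD3_c37)) = (LP (LK LD1_c1 LD2_c54 LD3_c3)) :=
  Lre_d IH (LK LD1_c0 LD2_c53 LD3_c37) (LK LD1_c1 LD2_c54 LD3_c3) Lrfl Lrfl
theorem f84895 : Led Lsl_et (LP (LK LD1_c0 LD2_c24 LD3_c6)) = (LP (LK LD1_c0 LD2_c53 LD3_c37)) :=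
  Lre_e IH (LK LD1_c0 LD2_c24 LD3_c6) (LK LD1_c0 LD2_c53 LD3_c37) Lrfl Lrfl
theorem f84896 : Led Lsl_dt (LP (LK LD1_c1 LD2_c39 LD3_c15)) = (LP (LK LD1_c0 LD2_c46 LD3_c4)) :=
  Lre_d IH (LK LD1_c1 LD2_c39 LD3_c15) (LK LD1_c0 LD2_c46 LD3_c4) Lrfl Lrfl
theorem f84898 : Led Lsl_df (LP (LK LD1_c0 LD2_c24 LD3_c6)) = (LP (LK LD1_c0 LD2_c20 LD3_c39)) :=
  Lgr Lrot70 (Lpr_et (f84895 IH) (Lpr_dt (f84894 IH) (Lpr_et (f84794 IH) (Lpr_dt (f84896 IH) (Lpr_et (f84897 IH) (Lpn (LP (LK LD1_c0 LD2_c20 LD3_c39))))))))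
theorem f84905 : Led Lsl_ct (LP (LK LD1_c0 LD2_c24 LD3_c6)) = (LP (LK LD1_c0 LD2_c53 LD3_c36)) :=
  Lre_c IH (LK LD1_c0 LD2_c24 LD3_c6) (LK LD1_c0 LD2_c53 LD3_c36) Lrfl Lrfl
theorem f84906 : Led Lsl_dt (LP (LK LD1_c0 LD2_c53 LD3_c36)) = (LP (LK LD1_c1 LD2_c53 LD3_c61)) :=
  Lre_d IH (LK LD1_c0 LD2_c53 LD3_c36) (LK LD1_c1 LD2_c53 LD3_c61) Lrfl Lrfl
theorem f21100 : Led Lsl_at (LP (LK LD1_c0 LD2_c20 LD3_c33)) = (LP (LK LD1_c0 LD2_c9 LD3_c16)) :=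
  Lre_a IH (LK LD1_c0 LD2_c20 LD3_c33) (LK LD1_c0 LD2_c9 LD3_c16) Lrfl Lrfl
theorem f24610 : Led Lsl_et (LP (LK LD1_c0 LD2_c19 LD3_c50)) = (LP (LK LD1_c0 LD2_c8 LD3_c53)) :=
  Lre_e IH (LK LD1_c0 LD2_c19 LD3_c50) (LK LD1_c0 LD2_c8 LD3_c53) Lrfl Lrfl
theorem f24611 : Led Lsl_dt (LP (LK LD1_c0 LD2_c44 LD3_c35)) = (LP (LK LD1_c0 LD2_c19 LD3_c50)) :=
  Lre_d IH (LK LD1_c0 LD2_c44 LD3_c35) (LK LD1_c0 LD2_c19 LD3_c50) Lrfl Lrfl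
theorem f21144 : Led Lsl_et (LP (LK LD1_c0 LD2_c8 LD3_c3)) = (LP (LK LD1_c0 LD2_c17 LD3_c58)) :=
  Lre_e IH (LK LD1_c0 LD2_c8 LD3_c3) (LK LD1_c0 LD2_c17 LD3_c58) Lrfl Lrfl
theorem f24612 : Led Lsl_ef (LP (LK LD1_c0 LD2_c44 LD3_c35)) = (LP (LK LD1_c0 LD2_c40 LD3_c0)) :=
  Lgr Lrot73 (Lpr_dt (f24611 IH) (Lpr_et (f24610 IH) (Lpr_dt (K0.f24599 IH) (Lpr_et (f21144 IH) (Lpr_dt (K1.f21032 IH) (Lpn (LP (LK LD1_c0 LD2_c40 LD3_c0))))))))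
theorem f24679 : Led Lsl_et (LP (LK LD1_c0 LD2_c44 LD3_c35)) = (LP (LK LD1_c0 LD2_c40 LD3_c0)) :=
  Lgr Lrot87 (Lpr_ef (f24612 IH) (Lpn (LP (LK LD1_c0 LD2_c40 LD3_c0))))
theorem f24690 : Led Lsl_ct (LP (LK LD1_c1 LD2_c36 LD3_c13)) = (LP (LK LD1_c0 LD2_c44 LD3_c35)) :=
  Lre_c IH (LK LD1_c1 LD2_c36 LD3_c13) (LK LD1_c0 LD2_c44 LD3_c35) Lrfl Lrfl
theorem f24691 : Led Lsl_ef (LP (LK LD1_c1 LD2_c36 LD3_c13)) = (LP (LK LD1_c1 LD2_c26 LD3_c31)) :=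
  Lgr Lrot28 (Lpr_ct (f24690 IH) (Lpr_et (f24679 IH) (Lpr_ct (K2.f21033 IH) (Lpn (LP (LK LD1_c1 LD2_c26 LD3_c31))))))
theorem f24699 : Led Lsl_bt (LP (LK LD1_c1 LD2_c36 LD3_c13)) = (LP (LK LD1_c3 LD2_c19 LD3_c38)) :=
  Lre_b IH (LK LD1_c1 LD2_c36 LD3_c13) (LK LD1_c3 LD2_c19 LD3_c38) Lrfl Lrfl
theorem f24700 : Led Lsl_bt (LP (LK LD1_c3 LD2_c1 LD3_c11)) = (LP (LK LD1_c1 LD2_c26 LD3_c31)) :=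
  Lre_b IH (LK LD1_c3 LD2_c1 LD3_c11) (LK LD1_c1 LD2_c26 LD3_c31) Lrfl Lrfl
theorem f24701 : Led Lsl_et (LP (LK LD1_c3 LD2_c19 LD3_c38)) = (LP (LK LD1_c3 LD2_c1 LD3_c11)) :=
  Lgr Lrot74 (Lpe (f24699 IH) (Lpr_ef (f24691 IH) (Lpe (f24700 IH) (Lpn (LP (LK LD1_c3 LD2_c1 LD3_c11))))))
theorem f24720 : Led Lsl_ef (LP (LK LD1_c3 LD2_c19 LD3_c38)) = (LP (LK LD1_c3 LD2_c1 LD3_c11)) :=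
  Lgr Lrot88 (Lpr_et (f24701 IH) (Lpn (LP (LK LD1_c3 LD2_c1 LD3_c11))))
theorem f24737 : Led Lsl_ct (LP (LK LD1_c3 LD2_c19 LD3_c38)) = (LP (LK LD1_c6 LD2_c42 LD3_c45)) :=
  Lre_c IH (LK LD1_c3 LD2_c19 LD3_c38) (LK LD1_c6 LD2_c42 LD3_c45) Lrfl Lrfl
theorem f24738 : Led Lsl_ct (LP (LK LD1_c6 LD2_c9 LD3_c26)) = (LP (LK LD1_c3 LD2_c1 LD3_c11)) :=
  Lre_c IH (LK LD1_c6 LD2_c9 LD3_c26) (LK LD1_c3 LD2_c1 LD3_c11) Lrfl Lrfl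
theorem f24739 : Led Lsl_et (LP (LK LD1_c6 LD2_c42 LD3_c45)) = (LP (LK LD1_c6 LD2_c9 LD3_c26)) :=
  Lgr Lrot158 (Lpe (f24737 IH) (Lpr_ef (f24720 IH) (Lpe (f24738 IH) (Lpn (LP (LK LD1_c6 LD2_c9 LD3_c26))))))
theorem f24754 : Led Lsl_bt (LP (LK LD1_c3 LD2_c19 LD3_c21)) = (LP (LK LD1_c6 LD2_c42 LD3_c45)) :=
  Lre_b IH (LK LD1_c3 LD2_c19 LD3_c21) (LK LD1_c6 LD2_c42 LD3_c45) Lrfl Lrfl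
theorem f24755 : Led Lsl_bt (LP (LK LD1_c6 LD2_c9 LD3_c26)) = (LP (LK LD1_c3 LD2_c1 LD3_c10)) :=
  Lre_b IH (LK LD1_c6 LD2_c9 LD3_c26) (LK LD1_c3 LD2_c1 LD3_c10) Lrfl Lrfl
theorem f24756 : Led Lsl_ef (LP (LK LD1_c3 LD2_c19 LD3_c21)) = (LP (LK LD1_c3 LD2_c1 LD3_c10)) :=
  Lgr Lrot29 (Lpr_bt (f24754 IH) (Lpr_et (f24739 IH) (Lpr_bt (f24755 IH) (Lpn (LP (LK LD1_c3 LD2_c1 LD3_c10))))))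
theorem f24775 : Led Lsl_et (LP (LK LD1_c3 LD2_c19 LD3_c21)) = (LP (LK LD1_c3 LD2_c1 LD3_c10)) :=
  Lgr Lrot87 (Lpr_ef (f24756 IH) (Lpn (LP (LK LD1_c3 LD2_c1 LD3_c10))))
theorem f24784 : Led Lsl_at (LP (LK LD1_c6 LD2_c42 LD3_c1)) = (LP (LK LD1_c3 LD2_c19 LD3_c21)) :=
  Lre_a IH (LK LD1_c6 LD2_c42 LD3_c1) (LK LD1_c3 LD2_c19 LD3_c21) Lrfl Lrfl
theorem f21123 : Led Lsl_at (LP (LK LD1_c3 LD2_c1 LD3_c10)) = (LP (LK LD1_c6 LD2_c9 LD3_c19)) :=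
  Lre_a IH (LK LD1_c3 LD2_c1 LD3_c10) (LK LD1_c6 LD2_c9 LD3_c19) Lrfl Lrfl
theorem f24785 : Led Lsl_ef (LP (LK LD1_c6 LD2_c42 LD3_c1)) = (LP (LK LD1_c6 LD2_c9 LD3_c19)) :=
  Lgr Lrot20 (Lpr_at (f24784 IH) (Lpr_et (f24775 IH) (Lpr_at (f21123 IH) (Lpn (LP (LK LD1_c6 LD2_c9 LD3_c19))))))
theorem f24821 : Led Lsl_ct (LP (LK LD1_c6 LD2_c42 LD3_c1)) = (LP (LK LD1_c3 LD2_c18 LD3_c61)) :=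
  Lre_c IH (LK LD1_c6 LD2_c42 LD3_c1) (LK LD1_c3 LD2_c18 LD3_c61) Lrfl Lrfl
theorem f21117 : Led Lsl_ct (LP (LK LD1_c3 LD2_c1 LD3_c4)) = (LP (LK LD1_c6 LD2_c9 LD3_c19)) :=
  Lre_c IH (LK LD1_c3 LD2_c1 LD3_c4) (LK LD1_c6 LD2_c9 LD3_c19) Lrfl Lrfl
theorem f24822 : Led Lsl_et (LP (LK LD1_c3 LD2_c18 LD3_c61)) = (LP (LK LD1_c3 LD2_c1 LD3_c4)) :=
  Lgr Lrot158 (Lpe (f24821 IH) (Lpr_ef (f24785 IH) (Lpe (f21117 IH) (Lpn (LP (LK LD1_c3 LD2_c1 LD3_c4))))))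
theorem f24828 : Led Lsl_dt (LP (LK LD1_c1 LD2_c35 LD3_c59)) = (LP (LK LD1_c3 LD2_c18 LD3_c61)) :=
  Lre_d IH (LK LD1_c1 LD2_c35 LD3_c59) (LK LD1_c3 LD2_c18 LD3_c61) Lrfl Lrfl
theorem f24829 : Led Lsl_et (LP (LK LD1_c0 LD2_c44 LD3_c30)) = (LP (LK LD1_c1 LD2_c35 LD3_c59)) :=
  Lre_e IH (LK LD1_c0 LD2_c44 LD3_c30) (LK LD1_c1 LD2_c35 LD3_c59) Lrfl Lrfl
theorem f24830 : Led Lsl_df (LP (LK LD1_c0 LD2_c44 LD3_c30)) = (LP (LK LD1_c0 LD2_c39 LD3_c60)) :=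
  Lgr Lrot70 (Lpr_et (f24829 IH) (Lpr_dt (f24828 IH) (Lpr_et (f24822 IH) (Lpr_dt (f21124 IH) (Lpr_et (f21109 IH) (Lpn (LP (LK LD1_c0 LD2_c39 LD3_c60))))))))
theorem f24849 : Led Lsl_at (LP (LK LD1_c0 LD2_c44 LD3_c30)) = (LP (LK LD1_c0 LD2_c19 LD3_c49)) :=
  Lre_a IH (LK LD1_c0 LD2_c44 LD3_c30) (LK LD1_c0 LD2_c19 LD3_c49) Lrfl Lrfl
theorem f21107 : Led Lsl_at (LP (LK LD1_c0 LD2_c17 LD3_c57)) = (LP (LK LD1_c0 LD2_c39 LD3_c60)) :=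
  Lre_a IH (LK LD1_c0 LD2_c17 LD3_c57) (LK LD1_c0 LD2_c39 LD3_c60) Lrfl Lrfl
theorem f24850 : Led Lsl_dt (LP (LK LD1_c0 LD2_c19 LD3_c49)) = (LP (LK LD1_c0 LD2_c17 LD3_c57)) :=
  Lgr Lrot44 (Lpe (f24849 IH) (Lpr_df (f24830 IH) (Lpe (f21107 IH) (Lpn (LP (LK LD1_c0 LD2_c17 LD3_c57))))))
theorem f24858 : Led Lsl_dt (LP (LK LD1_c1 LD2_c36 LD3_c0)) = (LP (LK LD1_c0 LD2_c44 LD3_c31)) :=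
  Lre_d IH (LK LD1_c1 LD2_c36 LD3_c0) (LK LD1_c0 LD2_c44 LD3_c31) Lrfl Lrfl
theorem f134709 : Led Lsl_ct (LP (LK LD1_c1 LD2_c53 LD3_c61)) = (LP (LK LD1_c1 LD2_c36 LD3_c0)) :=
  Lgr Lrot41 (Lpe (f84906 IH) (Lpe (f84905 IH) (Lpr_df (f84898 IH) (Lpr_ft (f134701 IH) (Lpr_at (f21100 IH) (Lpr_cf (K2.f21081 IH) (Lpe (f24850 IH) (Lpe (f24857 IH) (Lpe (f24858 IH) (Lpn (LP (LK LD1_c1 LD2_c36 LD3_c0))))))))))))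
theorem f12405 : Led Lsl_dt (LP (LK LD1_c0 LD2_c22 LD3_c43)) = (LP (LK LD1_c0 LD2_c10 LD3_c15)) :=
  Lre_d IH (LK LD1_c0 LD2_c22 LD3_c43) (LK LD1_c0 LD2_c10 LD3_c15) Lrfl Lrfl
theorem f12191 : Led Lsl_bt (LP (LK LD1_c0 LD2_c4 LD3_c61)) = (LP (LK LD1_c0 LD2_c10 LD3_c44)) :=
  Lre_b IH (LK LD1_c0 LD2_c4 LD3_c61) (LK LD1_c0 LD2_c10 LD3_c44) Lrfl Lrfl
theorem f12357 : Led Lsl_bf (LP (LK LD1_c0 LD2_c22 LD3_c43)) = (LP (LK LD1_c0 LD2_c50 LD3_c0)) :=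
  Lgr Lrot24 (Lpr_bt (K4.f12354 IH) (Lpn (LP (LK LD1_c0 LD2_c50 LD3_c0))))
theorem f90077 : Led Lsl_gt (LP (LK LD1_c0 LD2_c10 LD3_c44)) = (LP (LK LD1_c0 LD2_c22 LD3_c43)) :=
  Lgr Lrot164 (Lpe (f12191 IH) (Lpr_ct (K0.f12149 IH) (Lpr_gf (K0.f11259 IH) (Lpe (K0.f9875 IH) (Lpr_gf (K0.f11937 IH) (Lpe (K0.f5886 IH) (Lpr_ct (K0.f6093 IH) (Lpe (K2.f6681 IH) (Lpr_cf (K2.f90064 IH) (Lpe (f12357 IH) (Lpn (LP (LK LD1_c0 LD2_c22 LD3_c43)))))))))))))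
theorem f124866 : Led Lsl_dt (LP (LK LD1_c0 LD2_c9 LD3_c16)) = (LP (LK LD1_c0 LD2_c10 LD3_c44)) :=
  Lgr Lrot57 (Lpe (f12693 IH) (Lpr_cf (f124859 IH) (Lpe (f124828 IH) (Lpr_dt (K4.f115063 IH) (Lpr_gt (K4.f12565 IH) (Lpr_dt (K1.f12408 IH) (Lpe (K1.f12339 IH) (Lpe (f12405 IH) (Lpe (f90077 IH) (Lpn (LP (LK LD1_c0 LD2_c10 LD3_c44))))))))))))
theorem f122748 : Led Lsl_at (LP (LK LD1_c0 LD2_c53 LD3_c23)) = (LP (LK LD1_c0 LD2_c24 LD3_c1)) :=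
  Lre_a IH (LK LD1_c0 LD2_c53 LD3_c23) (LK LD1_c0 LD2_c24 LD3_c1) Lrfl Lrfl
theorem f134718 : Led Lsl_ft (LP (LK LD1_c0 LD2_c53 LD3_c36)) = (LP (LK LD1_c0 LD2_c53 LD3_c23)) :=
  Lgr Lrot142 (Lpr_dt (f84906 IH) (Lpr_ct (f134709 IH) (Lpr_dt (f24858 IH) (Lpr_ct (f24857 IH) (Lpr_dt (f24850 IH) (Lpe (K2.f21081 IH) (Lpr_dt (f124866 IH) (Lpr_ct (K4.f90079 IH) (Lpe (f122748 IH) (Lpn (LP (LK LD1_c0 LD2_c53 LD3_c23))))))))))))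
theorem f134736 : Led Lsl_ff (LP (LK LD1_c0 LD2_c53 LD3_c36)) = (LP (LK LD1_c0 LD2_c53 LD3_c23)) :=
  Lgr Lrot3 (Lpr_ft (f134718 IH) (Lpn (LP (LK LD1_c0 LD2_c53 LD3_c23))))
theorem f84772 : Led Lsl_at (LP (LK LD1_c0 LD2_c53 LD3_c36)) = (LP (LK LD1_c0 LD2_c24 LD3_c7)) :=
  Lre_a IH (LK LD1_c0 LD2_c53 LD3_c36) (LK LD1_c0 LD2_c24 LD3_c7) Lrfl Lrfl
theorem f13619 : Led Lsl_dt (LP (LK LD1_c2 LD2_c22 LD3_c2)) = (LP (LK LD1_c1 LD2_c8 LD3_c11)) :=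
  Lre_d IH (LK LD1_c2 LD2_c22 LD3_c2) (LK LD1_c1 LD2_c8 LD3_c11) Lrfl Lrfl
theorem f134727 : Led Lsl_dt (LP (LK LD1_c0 LD2_c53 LD3_c23)) = (LP (LK LD1_c1 LD2_c53 LD3_c35)) :=
  Lre_d IH (LK LD1_c0 LD2_c53 LD3_c23) (LK LD1_c1 LD2_c53 LD3_c35) Lrfl Lrfl
theorem f134764 : Led Lsl_cf (LP (LK LD1_c2 LD2_c22 LD3_c2)) = (LP (LK LD1_c1 LD2_c53 LD3_c35)) :=
  Lgr Lrot118 (Lpr_dt (f13619 IH) (Lpr_ct (f13618 IH) (Lpe (f84582 IH) (Lpe (K2.f84628 IH) (Lpe (f84763 IH) (Lpr_ct (K2.f11266 IH) (Lpe (f84772 IH) (Lpr_ff (f134736 IH) (Lpr_dt (f134727 IH) (Lpn (LP (LK LD1_c1 LD2_c53 LD3_c35))))))))))))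
theorem f84635 : Led Lsl_at (LP (LK LD1_c0 LD2_c20 LD3_c39)) = (LP (LK LD1_c0 LD2_c9 LD3_c21)) :=
  Lre_a IH (LK LD1_c0 LD2_c20 LD3_c39) (LK LD1_c0 LD2_c9 LD3_c21) Lrfl Lrfl
theorem f134705 : Led Lsl_ff (LP (LK LD1_c0 LD2_c20 LD3_c39)) = (LP (LK LD1_c0 LD2_c20 LD3_c33)) :=
  Lgr Lrot3 (Lpr_ft (f134701 IH) (Lpn (LP (LK LD1_c0 LD2_c20 LD3_c33))))
theorem f134750 : Led Lsl_ct (LP (LK LD1_c0 LD2_c24 LD3_c0)) = (LP (LK LD1_c0 LD2_c53 LD3_c23)) :=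
  Lre_c IH (LK LD1_c0 LD2_c24 LD3_c0) (LK LD1_c0 LD2_c53 LD3_c23) Lrfl Lrfl
theorem f134775 : Led Lsl_dt (LP (LK LD1_c0 LD2_c20 LD3_c33)) = (LP (LK LD1_c0 LD2_c24 LD3_c0)) :=
  Lgr Lrot159 (Lpe (f134705 IH) (Lpr_at (f84635 IH) (Lpr_cf (K2.f84628 IH) (Lpr_df (f84582 IH) (Lpe (f13618 IH) (Lpe (f13619 IH) (Lpr_cf (f134764 IH) (Lpe (f134727 IH) (Lpe (f134750 IH) (Lpn (LP (LK LD1_c0 LD2_c24 LD3_c0))))))))))))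
theorem f24832 : Led Lsl_ef (LP (LK LD1_c3 LD2_c18 LD3_c61)) = (LP (LK LD1_c3 LD2_c1 LD3_c4)) :=
  Lgr Lrot88 (Lpr_et (f24822 IH) (Lpn (LP (LK LD1_c3 LD2_c1 LD3_c4))))
theorem f24834 : Led Lsl_dt (LP (LK LD1_c3 LD2_c18 LD3_c61)) = (LP (LK LD1_c1 LD2_c35 LD3_c59)) :=
  Lre_d IH (LK LD1_c3 LD2_c18 LD3_c61) (LK LD1_c1 LD2_c35 LD3_c59) Lrfl Lrfl
theorem f24841 : Led Lsl_et (LP (LK LD1_c1 LD2_c35 LD3_c59)) = (LP (LK LD1_c0 LD2_c44 LD3_c30)) :=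
  Lre_e IH (LK LD1_c1 LD2_c35 LD3_c59) (LK LD1_c0 LD2_c44 LD3_c30) Lrfl Lrfl
theorem f21106 : Led Lsl_et (LP (LK LD1_c0 LD2_c39 LD3_c60)) = (LP (LK LD1_c1 LD2_c26 LD3_c26)) :=
  Lre_e IH (LK LD1_c0 LD2_c39 LD3_c60) (LK LD1_c1 LD2_c26 LD3_c26) Lrfl Lrfl
theorem f24842 : Led Lsl_dt (LP (LK LD1_c0 LD2_c44 LD3_c30)) = (LP (LK LD1_c0 LD2_c39 LD3_c60)) :=
  Lgr Lrot77 (Lpe (f24841 IH) (Lpe (f24834 IH) (Lpr_ef (f24832 IH) (Lpe (f21116 IH) (Lpe (f21106 IH) (Lpn (LP (LK LD1_c0 LD2_c39 LD3_c60))))))))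
theorem f84588 : Led Lsl_at (LP (LK LD1_c1 LD2_c8 LD3_c10)) = (LP (LK LD1_c0 LD2_c31 LD3_c14)) :=
  Lre_a IH (LK LD1_c1 LD2_c8 LD3_c10) (LK LD1_c0 LD2_c31 LD3_c14) Lrfl Lrfl
theorem f134782 : Led Lsl_ft (LP (LK LD1_c0 LD2_c44 LD3_c30)) = (LP (LK LD1_c1 LD2_c8 LD3_c10)) :=
  Lgr Lrot142 (Lpr_dt (f24842 IH) (Lpe (f21103 IH) (Lpr_dt (f134775 IH) (Lpr_ct (f134750 IH) (Lpr_dt (f134727 IH) (Lpe (f134764 IH) (Lpr_dt (f13619 IH) (Lpr_ct (f13618 IH) (Lpe (f84588 IH) (Lpn (LP (LK LD1_c1 LD2_c8 LD3_c10))))))))))))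
theorem f134794 : Led Lsl_gt (LP (LK LD1_c0 LD2_c44 LD3_c30)) = (LP (LK LD1_c0 LD2_c51 LD3_c4)) :=
  Lgr Lrot5 (Lpr_ft (f134782 IH) (Lpr_at (f84588 IH) (Lpr_gf (f129269 IH) (Lpn (LP (LK LD1_c0 LD2_c51 LD3_c4))))))
theorem f134801 : Led Lsl_gt (LP (LK LD1_c0 LD2_c39 LD3_c60)) = (LP (LK LD1_c0 LD2_c45 LD3_c19)) :=
  Lgr Lrot9 (Lpe (f24842 IH) (Lpr_gt (f134794 IH) (Lpr_ct (f107570 IH) (Lpr_gt (f124685 IH) (Lpr_ct (f66561 IH) (Lpr_df (f124843 IH) (Lpe (f124868 IH) (Lpr_gf (f90113 IH) (Lpr_cf (K2.f84753 IH) (Lpn (LP (LK LD1_c0 LD2_c45 LD3_c19))))))))))))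
theorem f10019 : Led Lsl_bt (LP (LK LD1_c0 LD2_c21 LD3_c29)) = (LP (LK LD1_c0 LD2_c9 LD3_c43)) :=
  Lre_b IH (LK LD1_c0 LD2_c21 LD3_c29) (LK LD1_c0 LD2_c9 LD3_c43) Lrfl Lrfl
theorem f84700 : Led Lsl_bt (LP (LK LD1_c0 LD2_c21 LD3_c34)) = (LP (LK LD1_c0 LD2_c20 LD3_c37)) :=
  Lgr Lrot127 (Lpr_bf (K2.f84696 IH) (Lpn (LP (LK LD1_c0 LD2_c20 LD3_c37))))
theorem f134832 : Led Lsl_gf (LP (LK LD1_c0 LD2_c20 LD3_c33)) = (LP (LK LD1_c0 LD2_c20 LD3_c37)) :=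
  Lgr Lrot181 (Lpr_ct (f21098 IH) (Lpr_gt (f134801 IH) (Lpe (K2.f84747 IH) (Lpr_bt (f10019 IH) (Lpr_gt (K2.f10264 IH) (Lpr_bf (K3.f10436 IH) (Lpe (K2.f17631 IH) (Lpe (K2.f10775 IH) (Lpe (K2.f10786 IH) (Lpr_bt (f84700 IH) (Lpn (LP (LK LD1_c0 LD2_c20 LD3_c37)))))))))))))
theorem f134834 : Led Lsl_bt (LP (LK LD1_c0 LD2_c20 LD3_c33)) = (LP (LK LD1_c0 LD2_c20 LD3_c33)) :=
  Lgr Lrot92 (Lpr_ct (f21098 IH) (Lpr_gt (f134801 IH) (Lpe (K2.f84747 IH) (Lpr_bt (f10019 IH) (Lpr_gt (K2.f10264 IH) (Lpe (K2.f17631 IH) (Lpe (K2.f10775 IH) (Lpe (K2.f10786 IH) (Lpr_bt (f84700 IH) (Lpe (f134832 IH) (Lpn (LP (LK LD1_c0 LD2_c20 LD3_c33)))))))))))))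
theorem f134799 : Led Lsl_gf (LP (LK LD1_c0 LD2_c39 LD3_c60)) = (LP (LK LD1_c0 LD2_c45 LD3_c18)) :=
  Lgr Lrot144 (Lpe (f24830 IH) (Lpr_gt (f134794 IH) (Lpr_dt (K4.f5810 IH) (Lpe (K4.f5811 IH) (Lpr_df (K3.f107566 IH) (Lpe (K2.f84760 IH) (Lpe (K2.f84742 IH) (Lpr_gf (K3.f109357 IH) (Lpe (K3.f109380 IH) (Lpn (LP (LK LD1_c0 LD2_c45 LD3_c18))))))))))))
theorem f109386 : Led Lsl_cf (LP (LK LD1_c0 LD2_c45 LD3_c18)) = (LP (LK LD1_c0 LD2_c48 LD3_c59)) :=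
  Lgr Lrot11 (Lpr_ct (K3.f109380 IH) (Lpn (LP (LK LD1_c0 LD2_c48 LD3_c59))))
theorem f109355 : Led Lsl_gt (LP (LK LD1_c0 LD2_c45 LD3_c42)) = (LP (LK LD1_c0 LD2_c48 LD3_c59)) :=
  Lgr Lrot164 (Lpe (K4.f90112 IH) (Lpr_ct (K2.f19342 IH) (Lpe (f104323 IH) (Lpe (K2.f12664 IH) (Lpe (K2.f84654 IH) (Lpe (K1.f17648 IH) (Lpr_ct (K0.f9928 IH) (Lpe (K3.f62194 IH) (Lpr_cf (K3.f109343 IH) (Lpe (K3.f108200 IH) (Lpn (LP (LK LD1_c0 LD2_c48 LD3_c59)))))))))))))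
theorem f134845 : Led Lsl_gf (LP (LK LD1_c0 LD2_c20 LD3_c38)) = (LP (LK LD1_c0 LD2_c20 LD3_c33)) :=
  Lgr Lrot124 (Lpe (K2.f12661 IH) (Lpr_ct (K2.f12664 IH) (Lpr_gt (f104323 IH) (Lpe (K2.f19342 IH) (Lpr_bt (K4.f90112 IH) (Lpr_gt (f109355 IH) (Lpe (f109386 IH) (Lpe (f134799 IH) (Lpe (f21098 IH) (Lpr_bt (f134834 IH) (Lpn (LP (LK LD1_c0 LD2_c20 LD3_c33)))))))))))))
theorem f4900 : Led Lsl_et (LP (LK LD1_c0 LD2_c22 LD3_c44)) = (LP (LK LD1_c0 LD2_c10 LD3_c15)) :=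
  Lre_e IH (LK LD1_c0 LD2_c22 LD3_c44) (LK LD1_c0 LD2_c10 LD3_c15) Lrfl Lrfl
theorem f21105 : Led Lsl_et (LP (LK LD1_c0 LD2_c45 LD3_c56)) = (LP (LK LD1_c0 LD2_c20 LD3_c33)) :=
  Lre_e IH (LK LD1_c0 LD2_c45 LD3_c56) (LK LD1_c0 LD2_c20 LD3_c33) Lrfl Lrfl
theorem f21063 : Led Lsl_dt (LP (LK LD1_c0 LD2_c45 LD3_c56)) = (LP (LK LD1_c1 LD2_c39 LD3_c0)) :=
  Lre_d IH (LK LD1_c0 LD2_c45 LD3_c56) (LK LD1_c1 LD2_c39 LD3_c0) Lrfl Lrfl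
theorem f134851 : Led Lsl_gt (LP (LK LD1_c0 LD2_c50 LD3_c20)) = (LP (LK LD1_c1 LD2_c39 LD3_c0)) :=
  Lgr Lrot112 (Lpe (f4901 IH) (Lpr_et (f4900 IH) (Lpe (K1.f4898 IH) (Lpr_ef (K0.f4478 IH) (Lpr_dt (K4.f4880 IH) (Lpe (K3.f4896 IH) (Lpe (K3.f108793 IH) (Lpr_gf (f134845 IH) (Lpe (f21105 IH) (Lpr_dt (f21063 IH) (Lpn (LP (LK LD1_c1 LD2_c39 LD3_c0)))))))))))))
theorem f108869 : Led Lsl_ct (LP (LK LD1_c1 LD2_c31 LD3_c52)) = (LP (LK LD1_c0 LD2_c46 LD3_c3)) :=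
  Lgr Lrot15 (Lpr_ef (f108862 IH) (Lpe (K2.f84643 IH) (Lpe (f84774 IH) (Lpn (LP (LK LD1_c0 LD2_c46 LD3_c3))))))
theorem f7472 : Led Lsl_gt (LP (LK LD1_c0 LD2_c31 LD3_c22)) = (LP (LK LD1_c0 LD2_c13 LD3_c56)) :=
  Lre_g IH (LK LD1_c0 LD2_c31 LD3_c22) (LK LD1_c0 LD2_c13 LD3_c56) Lrfl Lrfl
theorem f94391 : Led Lsl_ct (LP (LK LD1_c0 LD2_c54 LD3_c16)) = (LP (LK LD1_c0 LD2_c24 LD3_c29)) :=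
  Lre_c IH (LK LD1_c0 LD2_c54 LD3_c16) (LK LD1_c0 LD2_c24 LD3_c29) Lrfl Lrfl
theorem f121381 : Led Lsl_bf (LP (LK LD1_c0 LD2_c31 LD3_c22)) = (LP (LK LD1_c0 LD2_c54 LD3_c16)) :=
  Lgr Lrot156 (Lpr_gt (f7472 IH) (Lpe (K3.f86162 IH) (Lpr_ct (K3.f86151 IH) (Lpr_gt (K4.f7474 IH) (Lpe (K4.f86318 IH) (Lpe (K4.f114166 IH) (Lpr_gt (f114174 IH) (Lpr_ct (f108869 IH) (Lpr_gt (f121376 IH) (Lpe (f94391 IH) (Lpn (LP (LK LD1_c0 LD2_c54 LD3_c16)))))))))))))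
theorem f23830 : Led Lsl_gt (LP (LK LD1_c0 LD2_c18 LD3_c7)) = (LP (LK LD1_c0 LD2_c31 LD3_c22)) :=
  Lre_g IH (LK LD1_c0 LD2_c18 LD3_c7) (LK LD1_c0 LD2_c31 LD3_c22) Lrfl Lrfl
theorem f57556 : Led Lsl_bt (LP (LK LD1_c0 LD2_c40 LD3_c22)) = (LP (LK LD1_c0 LD2_c18 LD3_c7)) :=
  Lre_b IH (LK LD1_c0 LD2_c40 LD3_c22) (LK LD1_c0 LD2_c18 LD3_c7) Lrfl Lrfl
theorem f12429 : Led Lsl_bt (LP (LK LD1_c0 LD2_c50 LD3_c17)) = (LP (LK LD1_c0 LD2_c51 LD3_c41)) :=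
  Lgr Lrot127 (Lpr_bf (K1.f12414 IH) (Lpn (LP (LK LD1_c0 LD2_c51 LD3_c41))))
theorem f121387 : Led Lsl_gf (LP (LK LD1_c0 LD2_c22 LD3_c44)) = (LP (LK LD1_c0 LD2_c24 LD3_c29)) :=
  Lgr Lrot126 (Lpe (K3.f12431 IH) (Lpr_bt (f12429 IH) (Lpe (K3.f105642 IH) (Lpr_ct (K3.f85006 IH) (Lpr_gt (K2.f84990 IH) (Lpe (K3.f11111 IH) (Lpr_bt (f57556 IH) (Lpr_gt (f23830 IH) (Lpr_bf (f121381 IH) (Lpr_ct (f94391 IH) (Lpn (LP (LK LD1_c0 LD2_c24 LD3_c29)))))))))))))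
theorem f21113 : Led Lsl_dt (LP (LK LD1_c1 LD2_c39 LD3_c0)) = (LP (LK LD1_c0 LD2_c45 LD3_c56)) :=
  Lre_d IH (LK LD1_c1 LD2_c39 LD3_c0) (LK LD1_c0 LD2_c45 LD3_c56) Lrfl Lrfl
theorem f21068 : Led Lsl_at (LP (LK LD1_c0 LD2_c45 LD3_c56)) = (LP (LK LD1_c0 LD2_c20 LD3_c34)) :=
  Lre_a IH (LK LD1_c0 LD2_c45 LD3_c56) (LK LD1_c0 LD2_c20 LD3_c34) Lrfl Lrfl
theorem f21069 : Led Lsl_at (LP (LK LD1_c0 LD2_c39 LD3_c61)) = (LP (LK LD1_c1 LD2_c26 LD3_c26)) :=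
  Lre_a IH (LK LD1_c0 LD2_c39 LD3_c61) (LK LD1_c1 LD2_c26 LD3_c26) Lrfl Lrfl
theorem f21070 : Led Lsl_cf (LP (LK LD1_c0 LD2_c45 LD3_c56)) = (LP (LK LD1_c1 LD2_c26 LD3_c26)) :=
  Lgr Lrot1 (Lpr_at (f21068 IH) (Lpr_ct (K2.f21059 IH) (Lpr_at (f21069 IH) (Lpn (LP (LK LD1_c1 LD2_c26 LD3_c26))))))
theorem f134858 : Led Lsl_gt (LP (LK LD1_c1 LD2_c33 LD3_c24)) = (LP (LK LD1_c3 LD2_c1 LD3_c4)) :=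
  Lgr Lrot49 (Lpe (K3.f23719 IH) (Lpr_gf (f106322 IH) (Lpe (f10007 IH) (Lpe (f121387 IH) (Lpr_dt (f4901 IH) (Lpr_gt (f134851 IH) (Lpr_dt (f21113 IH) (Lpr_cf (f21070 IH) (Lpe (f21124 IH) (Lpn (LP (LK LD1_c3 LD2_c1 LD3_c4))))))))))))
theorem f12444 : Led Lsl_ct (LP (LK LD1_c3 LD2_c40 LD3_c2)) = (LP (LK LD1_c1 LD2_c46 LD3_c61)) :=
  Lre_c IH (LK LD1_c3 LD2_c40 LD3_c2) (LK LD1_c1 LD2_c46 LD3_c61) Lrfl Lrfl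
theorem f86022 : Led Lsl_bt (LP (LK LD1_c2 LD2_c22 LD3_c59)) = (LP (LK LD1_c1 LD2_c8 LD3_c36)) :=
  Lre_b IH (LK LD1_c2 LD2_c22 LD3_c59) (LK LD1_c1 LD2_c8 LD3_c36) Lrfl Lrfl
theorem f86023 : Led Lsl_ct (LP (LK LD1_c2 LD2_c22 LD3_c59)) = (LP (LK LD1_c4 LD2_c50 LD3_c22)) :=
  Lre_c IH (LK LD1_c2 LD2_c22 LD3_c59) (LK LD1_c4 LD2_c50 LD3_c22) Lrfl Lrfl
theorem f105650 : Led Lsl_gt (LP (LK LD1_c4 LD2_c50 LD3_c22)) = (LP (LK LD1_c3 LD2_c40 LD3_c2)) :=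
  Lgr Lrot65 (Lpe (f86023 IH) (Lpr_bt (f86022 IH) (Lpe (K3.f20099 IH) (Lpe (K3.f86428 IH) (Lpr_ct (K3.f64515 IH) (Lpe (K3.f85010 IH) (Lpr_cf (K3.f90614 IH) (Lpr_gf (K3.f105646 IH) (Lpe (K1.f12434 IH) (Lpr_ct (f12455 IH) (Lpn (LP (LK LD1_c3 LD2_c40 LD3_c2)))))))))))))
theorem f94385 : Led Lsl_gt (LP (LK LD1_c1 LD2_c37 LD3_c47)) = (LP (LK LD1_c0 LD2_c54 LD3_c16)) :=
  Lgr Lrot149 (Lpe (K2.f87483 IH) (Lpe (K3.f87496 IH) (Lpr_bf (K3.f94378 IH) (Lpr_ct (K3.f84307 IH) (Lpe (K3.f7445 IH) (Lpe (K3.f12168 IH) (Lpr_bt (K3.f11100 IH) (Lpe (f7424 IH) (Lpe (f10006 IH) (Lpr_ct (f10007 IH) (Lpn (LP (LK LD1_c0 LD2_c54 LD3_c16)))))))))))))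
theorem f121391 : Led Lsl_gf (LP (LK LD1_c2 LD2_c22 LD3_c59)) = (LP (LK LD1_c3 LD2_c22 LD3_c51)) :=
  Lgr Lrot147 (Lpr_ct (f86023 IH) (Lpr_gt (f105650 IH) (Lpr_ct (f12444 IH) (Lpe (K1.f12432 IH) (Lpe (K3.f12556 IH) (Lpr_gf (f121387 IH) (Lpe (f94391 IH) (Lpe (f94385 IH) (Lpe (K3.f87488 IH) (Lpn (LP (LK LD1_c3 LD2_c22 LD3_c51))))))))))))
theorem f121397 : Led Lsl_gt (LP (LK LD1_c2 LD2_c22 LD3_c59)) = (LP (LK LD1_c1 LD2_c33 LD3_c24)) :=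
  Lgr Lrot46 (Lpr_gf (f121391 IH) (Lpr_ft (K3.f106983 IH) (Lpe (K3.f106988 IH) (Lpn (LP (LK LD1_c1 LD2_c33 LD3_c24))))))
theorem f24839 : Led Lsl_at (LP (LK LD1_c1 LD2_c26 LD3_c29)) = (LP (LK LD1_c3 LD2_c1 LD3_c4)) :=
  Lre_a IH (LK LD1_c1 LD2_c26 LD3_c29) (LK LD1_c3 LD2_c1 LD3_c4) Lrfl Lrfl
theorem f134863 : Led Lsl_ft (LP (LK LD1_c2 LD2_c22 LD3_c59)) = (LP (LK LD1_c1 LD2_c26 LD3_c29)) :=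
  Lgr Lrot2 (Lpr_gt (f121397 IH) (Lpr_gt (f134858 IH) (Lpe (f24839 IH) (Lpn (LP (LK LD1_c1 LD2_c26 LD3_c29))))))
theorem f134875 : Led Lsl_ff (LP (LK LD1_c2 LD2_c22 LD3_c59)) = (LP (LK LD1_c1 LD2_c26 LD3_c29)) :=
  Lgr Lrot3 (Lpr_ft (f134863 IH) (Lpn (LP (LK LD1_c1 LD2_c26 LD3_c29))))
theorem f134877 : Led Lsl_at (LP (LK LD1_c2 LD2_c22 LD3_c59)) = (LP (LK LD1_c3 LD2_c43 LD3_c8)) :=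
  Lgr Lrot66 (Lpr_ff (f134875 IH) (Lpe (f24827 IH) (Lpe (f86766 IH) (Lpn (LP (LK LD1_c3 LD2_c43 LD3_c8))))))
theorem f21130 : Led Lsl_dt (LP (LK LD1_c0 LD2_c20 LD3_c34)) = (LP (LK LD1_c0 LD2_c45 LD3_c59)) :=
  Lre_d IH (LK LD1_c0 LD2_c20 LD3_c34) (LK LD1_c0 LD2_c45 LD3_c59) Lrfl Lrfl
theorem f21131 : Led Lsl_dt (LP (LK LD1_c1 LD2_c39 LD3_c7)) = (LP (LK LD1_c3 LD2_c25 LD3_c13)) :=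
  Lre_d IH (LK LD1_c1 LD2_c39 LD3_c7) (LK LD1_c3 LD2_c25 LD3_c13) Lrfl Lrfl
theorem f21132 : Led Lsl_ct (LP (LK LD1_c3 LD2_c25 LD3_c13)) = (LP (LK LD1_c6 LD2_c52 LD3_c42)) :=
  Lre_c IH (LK LD1_c3 LD2_c25 LD3_c13) (LK LD1_c6 LD2_c52 LD3_c42) Lrfl Lrfl
theorem f134667 : Led Lsl_dt (LP (LK LD1_c6 LD2_c52 LD3_c42)) = (LP (LK LD1_c7 LD2_c25 LD3_c46)) :=
  Lgr Lrot42 (Lpr_df (f134663 IH) (Lpn (LP (LK LD1_c7 LD2_c25 LD3_c46))))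
theorem f134887 : Led Lsl_cf (LP (LK LD1_c3 LD2_c43 LD3_c8)) = (LP (LK LD1_c7 LD2_c25 LD3_c46)) :=
  Lgr Lrot102 (Lpe (f134877 IH) (Lpr_ff (f134875 IH) (Lpr_dt (f21087 IH) (Lpe (f21028 IH) (Lpr_dt (f21130 IH) (Lpr_ct (K3.f12731 IH) (Lpr_dt (f21131 IH) (Lpr_ct (f21132 IH) (Lpr_dt (f134667 IH) (Lpn (LP (LK LD1_c7 LD2_c25 LD3_c46))))))))))))
theorem f134677 : Led Lsl_df (LP (LK LD1_c1 LD2_c48 LD3_c25)) = (LP (LK LD1_c1 LD2_c39 LD3_c1)) :=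
  Lgr Lrot38 (Lpr_dt (f134672 IH) (Lpn (LP (LK LD1_c1 LD2_c39 LD3_c1))))
theorem f131048 : Led Lsl_dt (LP (LK LD1_c3 LD2_c42 LD3_c48)) = (LP (LK LD1_c7 LD2_c26 LD3_c16)) :=
  Lre_d IH (LK LD1_c3 LD2_c42 LD3_c48) (LK LD1_c7 LD2_c26 LD3_c16) Lrfl Lrfl
theorem f21091 : Led Lsl_ct (LP (LK LD1_c3 LD2_c1 LD3_c10)) = (LP (LK LD1_c1 LD2_c26 LD3_c29)) :=
  Lre_c IH (LK LD1_c3 LD2_c1 LD3_c10) (LK LD1_c1 LD2_c26 LD3_c29) Lrfl Lrfl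
theorem f21146 : Led Lsl_dt (LP (LK LD1_c6 LD2_c9 LD3_c27)) = (LP (LK LD1_c3 LD2_c1 LD3_c10)) :=
  Lre_d IH (LK LD1_c6 LD2_c9 LD3_c27) (LK LD1_c3 LD2_c1 LD3_c10) Lrfl Lrfl
theorem f134891 : Led Lsl_ct (LP (LK LD1_c7 LD2_c26 LD3_c16)) = (LP (LK LD1_c6 LD2_c9 LD3_c27)) :=
  Lgr Lrot176 (Lpe (f131048 IH) (Lpe (f124252 IH) (Lpr_df (f134677 IH) (Lpr_cf (f21120 IH) (Lpe (f86805 IH) (Lpr_cf (f134887 IH) (Lpe (f134667 IH) (Lpe (f21132 IH) (Lpe (f21131 IH) (Lpe (K3.f12731 IH) (Lpe (f21130 IH) (Lpr_cf (f21028 IH) (Lpe (f21087 IH) (Lpe (f21091 IH) (Lpe (f21146 IH) (Lpn (LP (LK LD1_c6 LD2_c9 LD3_c27))))))))))))))))))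
theorem f21149 : Led Lsl_at (LP (LK LD1_c3 LD2_c25 LD3_c4)) = (LP (LK LD1_c1 LD2_c39 LD3_c7)) :=
  Lre_a IH (LK LD1_c3 LD2_c25 LD3_c4) (LK LD1_c1 LD2_c39 LD3_c7) Lrfl Lrfl
theorem f134915 : Led Lsl_ft (LP (LK LD1_c3 LD2_c42 LD3_c48)) = (LP (LK LD1_c3 LD2_c25 LD3_c4)) :=
  Lgr Lrot142 (Lpr_dt (f131048 IH) (Lpr_ct (f134891 IH) (Lpr_dt (f21146 IH) (Lpr_ct (f21091 IH) (Lpr_dt (f21087 IH) (Lpe (f21028 IH) (Lpr_dt (f21130 IH) (Lpr_ct (K3.f12731 IH) (Lpe (f21149 IH) (Lpn (LP (LK LD1_c3 LD2_c25 LD3_c4))))))))))))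
theorem f134922 : Led Lsl_ff (LP (LK LD1_c3 LD2_c42 LD3_c48)) = (LP (LK LD1_c3 LD2_c25 LD3_c4)) :=
  Lgr Lrot3 (Lpr_ft (f134915 IH) (Lpn (LP (LK LD1_c3 LD2_c25 LD3_c4))))
theorem f131049 : Led Lsl_bt (LP (LK LD1_c3 LD2_c42 LD3_c48)) = (LP (LK LD1_c7 LD2_c26 LD3_c15)) :=
  Lre_b IH (LK LD1_c3 LD2_c42 LD3_c48) (LK LD1_c7 LD2_c26 LD3_c15) Lrfl Lrfl
theorem f134924 : Led Lsl_bt (LP (LK LD1_c6 LD2_c52 LD3_c29)) = (LP (LK LD1_c3 LD2_c25 LD3_c4)) :=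
  Lre_b IH (LK LD1_c6 LD2_c52 LD3_c29) (LK LD1_c3 LD2_c25 LD3_c4) Lrfl Lrfl
theorem f134925 : Led Lsl_ft (LP (LK LD1_c7 LD2_c26 LD3_c15)) = (LP (LK LD1_c6 LD2_c52 LD3_c29)) :=
  Lgr Lrot75 (Lpe (f131049 IH) (Lpr_ff (f134922 IH) (Lpe (f134924 IH) (Lpn (LP (LK LD1_c6 LD2_c52 LD3_c29))))))
theorem f124253 : Led Lsl_ct (LP (LK LD1_c3 LD2_c42 LD3_c48)) = (LP (LK LD1_c1 LD2_c48 LD3_c25)) :=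
  Lre_c IH (LK LD1_c3 LD2_c42 LD3_c48) (LK LD1_c1 LD2_c48 LD3_c25) Lrfl Lrfl
theorem f131054 : Led Lsl_bt (LP (LK LD1_c7 LD2_c26 LD3_c15)) = (LP (LK LD1_c3 LD2_c42 LD3_c48)) :=
  Lre_b IH (LK LD1_c7 LD2_c26 LD3_c15) (LK LD1_c3 LD2_c42 LD3_c48) Lrfl Lrfl
theorem f131055 : Led Lsl_cf (LP (LK LD1_c7 LD2_c26 LD3_c15)) = (LP (LK LD1_c7 LD2_c26 LD3_c15)) :=
  Lgr Lrot97 (Lpr_bt (f131054 IH) (Lpr_ct (f124253 IH) (Lpr_bt (f131051 IH) (Lpr_ct (f124252 IH) (Lpr_bt (f131049 IH) (Lpn (LP (LK LD1_c7 LD2_c26 LD3_c15))))))))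
theorem f134860 : Led Lsl_bt (LP (LK LD1_c3 LD2_c25 LD3_c4)) = (LP (LK LD1_c6 LD2_c52 LD3_c29)) :=
  Lre_b IH (LK LD1_c3 LD2_c25 LD3_c4) (LK LD1_c6 LD2_c52 LD3_c29) Lrfl Lrfl
theorem f134918 : Led Lsl_ff (LP (LK LD1_c7 LD2_c26 LD3_c15)) = (LP (LK LD1_c6 LD2_c52 LD3_c29)) :=
  Lgr Lrot25 (Lpr_bt (f131054 IH) (Lpr_ft (f134915 IH) (Lpr_bt (f134860 IH) (Lpn (LP (LK LD1_c6 LD2_c52 LD3_c29))))))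
theorem f134927 : Led Lsl_cf (LP (LK LD1_c6 LD2_c52 LD3_c29)) = (LP (LK LD1_c6 LD2_c52 LD3_c29)) :=
  Lgr Lrot108 (Lpe (f134918 IH) (Lpe (f131055 IH) (Lpr_ft (f134925 IH) (Lpn (LP (LK LD1_c6 LD2_c52 LD3_c29))))))
theorem f21114 : Led Lsl_ct (LP (LK LD1_c3 LD2_c25 LD3_c4)) = (LP (LK LD1_c1 LD2_c39 LD3_c0)) :=
  Lre_c IH (LK LD1_c3 LD2_c25 LD3_c4) (LK LD1_c1 LD2_c39 LD3_c0) Lrfl Lrfl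
theorem f21064 : Led Lsl_ct (LP (LK LD1_c1 LD2_c39 LD3_c0)) = (LP (LK LD1_c3 LD2_c25 LD3_c4)) :=
  Lre_c IH (LK LD1_c1 LD2_c39 LD3_c0) (LK LD1_c3 LD2_c25 LD3_c4) Lrfl Lrfl
theorem f134943 : Led Lsl_bt (LP (LK LD1_c1 LD2_c39 LD3_c0)) = (LP (LK LD1_c1 LD2_c39 LD3_c0)) :=
  Lgr Lrot128 (Lpe (f21114 IH) (Lpe (f134924 IH) (Lpr_cf (f134927 IH) (Lpe (f134860 IH) (Lpe (f21064 IH) (Lpn (LP (LK LD1_c1 LD2_c39 LD3_c0))))))))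
theorem f134856 : Led Lsl_gf (LP (LK LD1_c1 LD2_c39 LD3_c14)) = (LP (LK LD1_c1 LD2_c39 LD3_c0)) :=
  Lgr Lrot76 (Lpr_af (f124937 IH) (Lpr_ff (f131031 IH) (Lpr_gt (f134851 IH) (Lpn (LP (LK LD1_c1 LD2_c39 LD3_c0))))))
theorem f19334 : Led Lsl_ct (LP (LK LD1_c3 LD2_c31 LD3_c57)) = (LP (LK LD1_c1 LD2_c42 LD3_c38)) :=
  Lre_c IH (LK LD1_c3 LD2_c31 LD3_c57) (LK LD1_c1 LD2_c42 LD3_c38) Lrfl Lrfl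
theorem f115237 : Led Lsl_ft (LP (LK LD1_c3 LD2_c24 LD3_c22)) = (LP (LK LD1_c3 LD2_c31 LD3_c57)) :=
  Lgr Lrot4 (Lpe (K4.f92255 IH) (Lpr_ff (f115235 IH) (Lpe (f19334 IH) (Lpn (LP (LK LD1_c3 LD2_c31 LD3_c57))))))
theorem f19324 : Led Lsl_ct (LP (LK LD1_c3 LD2_c27 LD3_c54)) = (LP (LK LD1_c1 LD2_c40 LD3_c33)) :=
  Lre_c IH (LK LD1_c3 LD2_c27 LD3_c54) (LK LD1_c1 LD2_c40 LD3_c33) Lrfl Lrfl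
theorem f115233 : Led Lsl_af (LP (LK LD1_c3 LD2_c27 LD3_c54)) = (LP (LK LD1_c3 LD2_c31 LD3_c57)) :=
  Lgr Lrot68 (Lpr_ct (f19324 IH) (Lpr_at (K4.f115229 IH) (Lpr_ct (f19333 IH) (Lpn (LP (LK LD1_c3 LD2_c31 LD3_c57))))))
theorem f115388 : Led Lsl_gt (LP (LK LD1_c6 LD2_c51 LD3_c23)) = (LP (LK LD1_c3 LD2_c27 LD3_c54)) :=
  Lgr Lrot46 (Lpe (f92254 IH) (Lpr_ft (f115237 IH) (Lpe (f115233 IH) (Lpn (LP (LK LD1_c3 LD2_c27 LD3_c54))))))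
theorem f120889 : Led Lsl_gf (LP (LK LD1_c3 LD2_c13 LD3_c32)) = (LP (LK LD1_c3 LD2_c27 LD3_c53)) :=
  Lgr Lrot76 (Lpr_af (K3.f107076 IH) (Lpe (K3.f106460 IH) (Lpr_gt (K4.f120883 IH) (Lpn (LP (LK LD1_c3 LD2_c27 LD3_c53))))))
theorem f134952 : Led Lsl_gf (LP (LK LD1_c3 LD2_c25 LD3_c4)) = (LP (LK LD1_c3 LD2_c56 LD3_c47)) :=
  Lgr Lrot129 (Lpe (f21064 IH) (Lpr_bt (f134943 IH) (Lpe (f134856 IH) (Lpe (f121460 IH) (Lpr_ct (f121461 IH) (Lpr_gt (f115388 IH) (Lpe (K4.f19321 IH) (Lpr_bt (K4.f106363 IH) (Lpe (f120889 IH) (Lpr_ct (K3.f106288 IH) (Lpn (LP (LK LD1_c3 LD2_c56 LD3_c47)))))))))))))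
theorem f106912 : Led Lsl_ff (LP (LK LD1_c3 LD2_c25 LD3_c10)) = (LP (LK LD1_c3 LD2_c56 LD3_c47)) :=
  Lgr Lrot23 (Lpr_ct (K3.f106888 IH) (Lpe (K3.f95931 IH) (Lpr_ct (K3.f106288 IH) (Lpn (LP (LK LD1_c3 LD2_c56 LD3_c47))))))
theorem f106881 : Led Lsl_at (LP (LK LD1_c3 LD2_c25 LD3_c10)) = (LP (LK LD1_c3 LD2_c32 LD3_c8)) :=
  Lgr Lrot100 (Lpr_af (K3.f106879 IH) (Lpn (LP (LK LD1_c3 LD2_c32 LD3_c8))))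
theorem f134956 : Led Lsl_gt (LP (LK LD1_c3 LD2_c25 LD3_c4)) = (LP (LK LD1_c3 LD2_c32 LD3_c8)) :=
  Lgr Lrot46 (Lpr_gf (f134952 IH) (Lpe (f106912 IH) (Lpr_at (f106881 IH) (Lpn (LP (LK LD1_c3 LD2_c32 LD3_c8))))))
theorem f106029 : Led Lsl_gt (LP (LK LD1_c3 LD2_c32 LD3_c8)) = (LP (LK LD1_c1 LD2_c55 LD3_c6)) :=
  Lgr Lrot65 (Lpe (K3.f87486 IH) (Lpr_bt (K3.f106028 IH) (Lpr_gf (K3.f106004 IH) (Lpe (K2.f10383 IH) (Lpr_ct (K3.f9985 IH) (Lpe (K3.f11896 IH) (Lpe (K3.f7418 IH) (Lpe (K3.f7423 IH) (Lpe (K3.f11136 IH) (Lpr_ct (K3.f11137 IH) (Lpn (LP (LK LD1_c1 LD2_c55 LD3_c6)))))))))))))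
theorem f134965 : Led Lsl_at (LP (LK LD1_c3 LD2_c42 LD3_c48)) = (LP (LK LD1_c1 LD2_c55 LD3_c6)) :=
  Lgr Lrot26 (Lpr_ff (f134922 IH) (Lpr_gt (f134956 IH) (Lpr_gt (f106029 IH) (Lpn (LP (LK LD1_c1 LD2_c55 LD3_c6))))))
theorem f131047 : Led Lsl_dt (LP (LK LD1_c7 LD2_c26 LD3_c16)) = (LP (LK LD1_c3 LD2_c42 LD3_c48)) :=
  Lre_d IH (LK LD1_c7 LD2_c26 LD3_c16) (LK LD1_c3 LD2_c42 LD3_c48) Lrfl Lrfl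
theorem f106038 : Led Lsl_dt (LP (LK LD1_c1 LD2_c55 LD3_c6)) = (LP (LK LD1_c3 LD2_c56 LD3_c48)) :=
  Lre_d IH (LK LD1_c1 LD2_c55 LD3_c6) (LK LD1_c3 LD2_c56 LD3_c48) Lrfl Lrfl
theorem f134980 : Led Lsl_af (LP (LK LD1_c7 LD2_c26 LD3_c16)) = (LP (LK LD1_c3 LD2_c56 LD3_c48)) :=
  Lgr Lrot117 (Lpr_dt (f131047 IH) (Lpr_at (f134965 IH) (Lpr_dt (f106038 IH) (Lpn (LP (LK LD1_c3 LD2_c56 LD3_c48))))))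
theorem f134671 : Led Lsl_at (LP (LK LD1_c6 LD2_c52 LD3_c30)) = (LP (LK LD1_c3 LD2_c25 LD3_c13)) :=
  Lre_a IH (LK LD1_c6 LD2_c52 LD3_c30) (LK LD1_c3 LD2_c25 LD3_c13) Lrfl Lrfl
theorem f134681 : Led Lsl_ft (LP (LK LD1_c7 LD2_c26 LD3_c16)) = (LP (LK LD1_c6 LD2_c52 LD3_c30)) :=
  Lgr Lrot142 (Lpr_dt (f131047 IH) (Lpr_ct (f124253 IH) (Lpr_dt (f134672 IH) (Lpr_ct (f21055 IH) (Lpe (f86801 IH) (Lpr_ct (f134659 IH) (Lpe (f134663 IH) (Lpr_ct (f21075 IH) (Lpe (f134671 IH) (Lpn (LP (LK LD1_c6 LD2_c52 LD3_c30))))))))))))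
theorem f134991 : Led Lsl_ft (LP (LK LD1_c3 LD2_c25 LD3_c13)) = (LP (LK LD1_c3 LD2_c56 LD3_c48)) :=
  Lgr Lrot101 (Lpe (f134671 IH) (Lpe (f134681 IH) (Lpr_af (f134980 IH) (Lpn (LP (LK LD1_c3 LD2_c56 LD3_c48))))))
theorem f135001 : Led Lsl_ff (LP (LK LD1_c3 LD2_c25 LD3_c13)) = (LP (LK LD1_c3 LD2_c56 LD3_c48)) :=
  Lgr Lrot3 (Lpr_ft (f134991 IH) (Lpn (LP (LK LD1_c3 LD2_c56 LD3_c48))))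
theorem f135006 : Led Lsl_ft (LP (LK LD1_c1 LD2_c39 LD3_c7)) = (LP (LK LD1_c1 LD2_c55 LD3_c6)) :=
  Lgr Lrot54 (Lpe (f12739 IH) (Lpr_ff (f135001 IH) (Lpe (f106038 IH) (Lpn (LP (LK LD1_c1 LD2_c55 LD3_c6))))))
theorem f25749 : Led Lsl_ct (LP (LK LD1_c1 LD2_c55 LD3_c6)) = (LP (LK LD1_c0 LD2_c54 LD3_c17)) :=
  Lre_c IH (LK LD1_c1 LD2_c55 LD3_c6) (LK LD1_c0 LD2_c54 LD3_c17) Lrfl Lrfl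
theorem f135033 : Led Lsl_ff (LP (LK LD1_c0 LD2_c45 LD3_c59)) = (LP (LK LD1_c0 LD2_c54 LD3_c17)) :=
  Lgr Lrot23 (Lpr_ct (K3.f12731 IH) (Lpr_ft (f135006 IH) (Lpr_ct (f25749 IH) (Lpn (LP (LK LD1_c0 LD2_c54 LD3_c17))))))
theorem f134855 : Led Lsl_at (LP (LK LD1_c0 LD2_c45 LD3_c59)) = (LP (LK LD1_c1 LD2_c39 LD3_c0)) :=
  Lre_a IH (LK LD1_c0 LD2_c45 LD3_c59) (LK LD1_c1 LD2_c39 LD3_c0) Lrfl Lrfl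
theorem f135043 : Led Lsl_gf (LP (LK LD1_c0 LD2_c50 LD3_c20)) = (LP (LK LD1_c0 LD2_c54 LD3_c17)) :=
  Lgr Lrot47 (Lpr_gt (f134851 IH) (Lpe (f134855 IH) (Lpr_ff (f135033 IH) (Lpn (LP (LK LD1_c0 LD2_c54 LD3_c17))))))
theorem f115505 : Led Lsl_ct (LP (LK LD1_c0 LD2_c50 LD3_c20)) = (LP (LK LD1_c1 LD2_c47 LD3_c7)) :=
  Lre_c IH (LK LD1_c0 LD2_c50 LD3_c20) (LK LD1_c1 LD2_c47 LD3_c7) Lrfl Lrfl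
theorem f21129 : Led Lsl_ft (LP (LK LD1_c0 LD2_c20 LD3_c34)) = (LP (LK LD1_c0 LD2_c45 LD3_c60)) :=
  Lre_f IH (LK LD1_c0 LD2_c20 LD3_c34) (LK LD1_c0 LD2_c45 LD3_c60) Lrfl Lrfl
theorem f135039 : Led Lsl_dt (LP (LK LD1_c0 LD2_c45 LD3_c60)) = (LP (LK LD1_c0 LD2_c54 LD3_c17)) :=
  Lgr Lrot60 (Lpe (f21129 IH) (Lpe (f21074 IH) (Lpr_ff (f135033 IH) (Lpn (LP (LK LD1_c0 LD2_c54 LD3_c17))))))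
theorem f20860 : Led Lsl_gt (LP (LK LD1_c0 LD2_c45 LD3_c60)) = (LP (LK LD1_c1 LD2_c38 LD3_c61)) :=
  Lre_g IH (LK LD1_c0 LD2_c45 LD3_c60) (LK LD1_c1 LD2_c38 LD3_c61) Lrfl Lrfl
theorem f21066 : Led Lsl_ct (LP (LK LD1_c1 LD2_c38 LD3_c61)) = (LP (LK LD1_c3 LD2_c25 LD3_c3)) :=
  Lre_c IH (LK LD1_c1 LD2_c38 LD3_c61) (LK LD1_c3 LD2_c25 LD3_c3) Lrfl Lrfl
theorem f135045 : Led Lsl_gf (LP (LK LD1_c3 LD2_c25 LD3_c14)) = (LP (LK LD1_c3 LD2_c25 LD3_c3)) :=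
  Lgr Lrot104 (Lpr_ct (K3.f12094 IH) (Lpe (K4.f12102 IH) (Lpe (f131109 IH) (Lpe (f131099 IH) (Lpe (f115505 IH) (Lpr_gf (f135043 IH) (Lpe (f135039 IH) (Lpr_gt (f20860 IH) (Lpr_ct (f21066 IH) (Lpn (LP (LK LD1_c3 LD2_c25 LD3_c3))))))))))))
theorem f135047 : Led Lsl_df (LP (LK LD1_c0 LD2_c45 LD3_c60)) = (LP (LK LD1_c0 LD2_c54 LD3_c17)) :=
  Lgr Lrot155 (Lpr_gt (f20860 IH) (Lpr_ct (f21066 IH) (Lpe (f135045 IH) (Lpr_ct (K3.f12094 IH) (Lpr_dt (K4.f12101 IH) (Lpe (f131109 IH) (Lpe (f131099 IH) (Lpe (f115505 IH) (Lpr_gf (f135043 IH) (Lpn (LP (LK LD1_c0 LD2_c54 LD3_c17))))))))))))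
theorem f20848 : Led Lsl_bt (LP (LK LD1_c0 LD2_c20 LD3_c30)) = (LP (LK LD1_c0 LD2_c9 LD3_c20)) :=
  Lre_b IH (LK LD1_c0 LD2_c20 LD3_c30) (LK LD1_c0 LD2_c9 LD3_c20) Lrfl Lrfl
theorem f20856 : Led Lsl_ct (LP (LK LD1_c0 LD2_c9 LD3_c20)) = (LP (LK LD1_c0 LD2_c20 LD3_c36)) :=
  Lre_c IH (LK LD1_c0 LD2_c9 LD3_c20) (LK LD1_c0 LD2_c20 LD3_c36) Lrfl Lrfl
theorem f20859 : Led Lsl_bt (LP (LK LD1_c0 LD2_c20 LD3_c36)) = (LP (LK LD1_c0 LD2_c45 LD3_c60)) :=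
  Lre_b IH (LK LD1_c0 LD2_c20 LD3_c36) (LK LD1_c0 LD2_c45 LD3_c60) Lrfl Lrfl
theorem f21042 : Led Lsl_bt (LP (LK LD1_c1 LD2_c26 LD3_c30)) = (LP (LK LD1_c0 LD2_c40 LD3_c1)) :=
  Lre_b IH (LK LD1_c1 LD2_c26 LD3_c30) (LK LD1_c0 LD2_c40 LD3_c1) Lrfl Lrfl
theorem f21043 : Led Lsl_ct (LP (LK LD1_c0 LD2_c45 LD3_c60)) = (LP (LK LD1_c1 LD2_c26 LD3_c30)) :=
  Lgr Lrot83 (Lpe (f20859 IH) (Lpe (f20856 IH) (Lpe (f20848 IH) (Lpr_cf (K2.f21035 IH) (Lpe (f21042 IH) (Lpn (LP (LK LD1_c1 LD2_c26 LD3_c30))))))))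
theorem f134873 : Led Lsl_df (LP (LK LD1_c2 LD2_c22 LD3_c59)) = (LP (LK LD1_c1 LD2_c26 LD3_c30)) :=
  Lgr Lrot78 (Lpr_ft (f134863 IH) (Lpr_dt (f21087 IH) (Lpr_ft (K2.f21058 IH) (Lpn (LP (LK LD1_c1 LD2_c26 LD3_c30))))))
theorem f105653 : Led Lsl_dt (LP (LK LD1_c4 LD2_c50 LD3_c22)) = (LP (LK LD1_c9 LD2_c33 LD3_c2)) :=
  Lre_d IH (LK LD1_c4 LD2_c50 LD3_c22) (LK LD1_c9 LD2_c33 LD3_c2) Lrfl Lrfl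
theorem f25750 : Led Lsl_dt (LP (LK LD1_c3 LD2_c56 LD3_c48)) = (LP (LK LD1_c1 LD2_c55 LD3_c6)) :=
  Lre_d IH (LK LD1_c3 LD2_c56 LD3_c48) (LK LD1_c1 LD2_c55 LD3_c6) Lrfl Lrfl
theorem f135003 : Led Lsl_at (LP (LK LD1_c3 LD2_c25 LD3_c13)) = (LP (LK LD1_c6 LD2_c52 LD3_c30)) :=
  Lre_a IH (LK LD1_c3 LD2_c25 LD3_c13) (LK LD1_c6 LD2_c52 LD3_c30) Lrfl Lrfl
theorem f135055 : Led Lsl_ct (LP (LK LD1_c9 LD2_c33 LD3_c2)) = (LP (LK LD1_c6 LD2_c52 LD3_c30)) :=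
  Lgr Lrot98 (Lpe (f105653 IH) (Lpe (f86023 IH) (Lpr_df (f134873 IH) (Lpe (f21043 IH) (Lpr_df (f135047 IH) (Lpe (f25749 IH) (Lpe (f25750 IH) (Lpe (f135001 IH) (Lpr_at (f135003 IH) (Lpn (LP (LK LD1_c6 LD2_c52 LD3_c30))))))))))))
theorem f21065 : Led Lsl_dt (LP (LK LD1_c3 LD2_c25 LD3_c4)) = (LP (LK LD1_c6 LD2_c52 LD3_c30)) :=
  Lre_d IH (LK LD1_c3 LD2_c25 LD3_c4) (LK LD1_c6 LD2_c52 LD3_c30) Lrfl Lrfl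
theorem f134920 : Led Lsl_ff (LP (LK LD1_c7 LD2_c26 LD3_c16)) = (LP (LK LD1_c6 LD2_c52 LD3_c30)) :=
  Lgr Lrot19 (Lpr_dt (f131047 IH) (Lpr_ft (f134915 IH) (Lpr_dt (f21065 IH) (Lpn (LP (LK LD1_c6 LD2_c52 LD3_c30))))))
theorem f135066 : Led Lsl_ff (LP (LK LD1_c9 LD2_c33 LD3_c2)) = (LP (LK LD1_c6 LD2_c9 LD3_c27)) :=
  Lgr Lrot23 (Lpr_ct (f135055 IH) (Lpe (f134920 IH) (Lpr_ct (f134891 IH) (Lpn (LP (LK LD1_c6 LD2_c9 LD3_c27))))))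
theorem f135072 : Led Lsl_ft (LP (LK LD1_c9 LD2_c33 LD3_c2)) = (LP (LK LD1_c6 LD2_c9 LD3_c27)) :=
  Lgr Lrot48 (Lpr_ff (f135066 IH) (Lpn (LP (LK LD1_c6 LD2_c9 LD3_c27))))
theorem f135060 : Led Lsl_bt (LP (LK LD1_c17 LD2_c35 LD3_c16)) = (LP (LK LD1_c9 LD2_c33 LD3_c2)) :=
  Lre_b IH (LK LD1_c17 LD2_c35 LD3_c16) (LK LD1_c9 LD2_c33 LD3_c2) Lrfl Lrfl
theorem f134909 : Led Lsl_bt (LP (LK LD1_c6 LD2_c9 LD3_c27)) = (LP (LK LD1_c11 LD2_c59 LD3_c55)) :=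
  Lre_b IH (LK LD1_c6 LD2_c9 LD3_c27) (LK LD1_c11 LD2_c59 LD3_c55) Lrfl Lrfl
theorem f135160 : Led Lsl_ff (LP (LK LD1_c17 LD2_c35 LD3_c16)) = (LP (LK LD1_c11 LD2_c59 LD3_c55)) :=
  Lgr Lrot25 (Lpr_bt (f135060 IH) (Lpr_ft (f135072 IH) (Lpr_bt (f134909 IH) (Lpn (LP (LK LD1_c11 LD2_c59 LD3_c55))))))
theorem f86395 : Led Lsl_dt (LP (LK LD1_c17 LD2_c35 LD3_c16)) = (LP (LK LD1_c9 LD2_c33 LD3_c1)) :=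
  Lre_d IH (LK LD1_c17 LD2_c35 LD3_c16) (LK LD1_c9 LD2_c33 LD3_c1) Lrfl Lrfl
theorem f24759 : Led Lsl_dt (LP (LK LD1_c6 LD2_c9 LD3_c26)) = (LP (LK LD1_c11 LD2_c59 LD3_c55)) :=
  Lre_d IH (LK LD1_c6 LD2_c9 LD3_c26) (LK LD1_c11 LD2_c59 LD3_c55) Lrfl Lrfl
theorem f135164 : Led Lsl_ft (LP (LK LD1_c9 LD2_c33 LD3_c1)) = (LP (LK LD1_c6 LD2_c9 LD3_c26)) :=
  Lgr Lrot54 (Lpe (f86395 IH) (Lpr_ff (f135160 IH) (Lpe (f24759 IH) (Lpn (LP (LK LD1_c6 LD2_c9 LD3_c26))))))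
theorem f86416 : Led Lsl_dt (LP (LK LD1_c9 LD2_c33 LD3_c1)) = (LP (LK LD1_c17 LD2_c35 LD3_c16)) :=
  Lre_d IH (LK LD1_c9 LD2_c33 LD3_c1) (LK LD1_c17 LD2_c35 LD3_c16) Lrfl Lrfl
theorem f86417 : Led Lsl_ct (LP (LK LD1_c17 LD2_c35 LD3_c16)) = (LP (LK LD1_c27 LD2_c23 LD3_c20)) :=
  Lre_c IH (LK LD1_c17 LD2_c35 LD3_c16) (LK LD1_c27 LD2_c23 LD3_c20) Lrfl Lrfl
theorem f24751 : Led Lsl_at (LP (LK LD1_c6 LD2_c9 LD3_c26)) = (LP (LK LD1_c11 LD2_c59 LD3_c54)) :=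
  Lre_a IH (LK LD1_c6 LD2_c9 LD3_c26) (LK LD1_c11 LD2_c59 LD3_c54) Lrfl Lrfl
theorem f24909 : Led Lsl_ct (LP (LK LD1_c6 LD2_c9 LD3_c30)) = (LP (LK LD1_c11 LD2_c59 LD3_c54)) :=
  Lre_c IH (LK LD1_c6 LD2_c9 LD3_c30) (LK LD1_c11 LD2_c59 LD3_c54) Lrfl Lrfl
theorem f7443 : Led Lsl_gt (LP (LK LD1_c0 LD2_c19 LD3_c60)) = (LP (LK LD1_c0 LD2_c8 LD3_c58)) :=
  Lre_g IH (LK LD1_c0 LD2_c19 LD3_c60) (LK LD1_c0 LD2_c8 LD3_c58) Lrfl Lrfl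
theorem f25682 : Led Lsl_gt (LP (LK LD1_c0 LD2_c18 LD3_c27)) = (LP (LK LD1_c0 LD2_c19 LD3_c60)) :=
  Lgr Lrot5 (Lpr_ft (K0.f25663 IH) (Lpr_at (K0.f7441 IH) (Lpe (f7443 IH) (Lpn (LP (LK LD1_c0 LD2_c19 LD3_c60))))))
theorem f25745 : Led Lsl_dt (LP (LK LD1_c0 LD2_c19 LD3_c60)) = (LP (LK LD1_c0 LD2_c45 LD3_c5)) :=
  Lre_d IH (LK LD1_c0 LD2_c19 LD3_c60) (LK LD1_c0 LD2_c45 LD3_c5) Lrfl Lrfl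
theorem f57660 : Led Lsl_ct (LP (LK LD1_c1 LD2_c37 LD3_c26)) = (LP (LK LD1_c0 LD2_c45 LD3_c5)) :=
  Lre_c IH (LK LD1_c1 LD2_c37 LD3_c26) (LK LD1_c0 LD2_c45 LD3_c5) Lrfl Lrfl
theorem f84107 : Led Lsl_dt (LP (LK LD1_c1 LD2_c26 LD3_c31)) = (LP (LK LD1_c1 LD2_c37 LD3_c26)) :=
  Lgr Lrot105 (Lpr_gf (K2.f84095 IH) (Lpr_df (K2.f67401 IH) (Lpe (K2.f84105 IH) (Lpe (K2.f21033 IH) (Lpe (K1.f57600 IH) (Lpr_dt (K0.f25623 IH) (Lpr_gt (f25682 IH) (Lpr_dt (f25745 IH) (Lpe (f57660 IH) (Lpn (LP (LK LD1_c1 LD2_c37 LD3_c26))))))))))))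
theorem f24676 : Led Lsl_ct (LP (LK LD1_c0 LD2_c44 LD3_c35)) = (LP (LK LD1_c1 LD2_c36 LD3_c13)) :=
  Lre_c IH (LK LD1_c0 LD2_c44 LD3_c35) (LK LD1_c1 LD2_c36 LD3_c13) Lrfl Lrfl
theorem f24677 : Led Lsl_et (LP (LK LD1_c1 LD2_c36 LD3_c13)) = (LP (LK LD1_c1 LD2_c26 LD3_c31)) :=
  Lgr Lrot158 (Lpe (f24676 IH) (Lpr_ef (f24612 IH) (Lpe (K1.f21038 IH) (Lpn (LP (LK LD1_c1 LD2_c26 LD3_c31))))))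
theorem f24938 : Led Lsl_dt (LP (LK LD1_c3 LD2_c19 LD3_c39)) = (LP (LK LD1_c1 LD2_c36 LD3_c13)) :=
  Lre_d IH (LK LD1_c3 LD2_c19 LD3_c39) (LK LD1_c1 LD2_c36 LD3_c13) Lrfl Lrfl
theorem f24939 : Led Lsl_et (LP (LK LD1_c6 LD2_c43 LD3_c7)) = (LP (LK LD1_c3 LD2_c19 LD3_c39)) :=
  Lre_e IH (LK LD1_c6 LD2_c43 LD3_c7) (LK LD1_c3 LD2_c19 LD3_c39) Lrfl Lrfl
theorem f84179 : Led Lsl_et (LP (LK LD1_c1 LD2_c37 LD3_c26)) = (LP (LK LD1_c3 LD2_c22 LD3_c21)) :=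
  Lre_e IH (LK LD1_c1 LD2_c37 LD3_c26) (LK LD1_c3 LD2_c22 LD3_c21) Lrfl Lrfl
theorem f84180 : Led Lsl_df (LP (LK LD1_c6 LD2_c43 LD3_c7)) = (LP (LK LD1_c3 LD2_c22 LD3_c21)) :=
  Lgr Lrot70 (Lpr_et (f24939 IH) (Lpr_dt (f24938 IH) (Lpr_et (f24677 IH) (Lpr_dt (f84107 IH) (Lpr_et (f84179 IH) (Lpn (LP (LK LD1_c3 LD2_c22 LD3_c21))))))))
theorem f84186 : Led Lsl_dt (LP (LK LD1_c6 LD2_c43 LD3_c7)) = (LP (LK LD1_c3 LD2_c22 LD3_c21)) :=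
  Lgr Lrot42 (Lpr_df (f84180 IH) (Lpn (LP (LK LD1_c3 LD2_c22 LD3_c21))))
theorem f84192 : Led Lsl_bt (LP (LK LD1_c12 LD2_c51 LD3_c6)) = (LP (LK LD1_c6 LD2_c43 LD3_c7)) :=
  Lre_b IH (LK LD1_c12 LD2_c51 LD3_c6) (LK LD1_c6 LD2_c43 LD3_c7) Lrfl Lrfl
theorem f57688 : Led Lsl_bt (LP (LK LD1_c3 LD2_c22 LD3_c21)) = (LP (LK LD1_c6 LD2_c48 LD3_c25)) :=
  Lre_b IH (LK LD1_c3 LD2_c22 LD3_c21) (LK LD1_c6 LD2_c48 LD3_c25) Lrfl Lrfl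
theorem f84193 : Led Lsl_df (LP (LK LD1_c12 LD2_c51 LD3_c6)) = (LP (LK LD1_c6 LD2_c48 LD3_c25)) :=
  Lgr Lrot12 (Lpr_bt (f84192 IH) (Lpr_dt (f84186 IH) (Lpr_bt (f57688 IH) (Lpn (LP (LK LD1_c6 LD2_c48 LD3_c25))))))
theorem f24719 : Led Lsl_et (LP (LK LD1_c12 LD2_c51 LD3_c6)) = (LP (LK LD1_c6 LD2_c43 LD3_c3)) :=
  Lre_e IH (LK LD1_c12 LD2_c51 LD3_c6) (LK LD1_c6 LD2_c43 LD3_c3) Lrfl Lrfl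
theorem f24718 : Led Lsl_dt (LP (LK LD1_c6 LD2_c43 LD3_c3)) = (LP (LK LD1_c3 LD2_c19 LD3_c38)) :=
  Lre_d IH (LK LD1_c6 LD2_c43 LD3_c3) (LK LD1_c3 LD2_c19 LD3_c38) Lrfl Lrfl
theorem f84203 : Led Lsl_et (LP (LK LD1_c3 LD2_c22 LD3_c20)) = (LP (LK LD1_c6 LD2_c48 LD3_c25)) :=
  Lre_e IH (LK LD1_c3 LD2_c22 LD3_c20) (LK LD1_c6 LD2_c48 LD3_c25) Lrfl Lrfl
theorem f84204 : Led Lsl_dt (LP (LK LD1_c3 LD2_c1 LD3_c11)) = (LP (LK LD1_c3 LD2_c22 LD3_c20)) :=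
  Lgr Lrot77 (Lpe (f24701 IH) (Lpe (f24718 IH) (Lpe (f24719 IH) (Lpr_df (f84193 IH) (Lpe (f84203 IH) (Lpn (LP (LK LD1_c3 LD2_c22 LD3_c20))))))))
theorem f24732 : Led Lsl_at (LP (LK LD1_c6 LD2_c9 LD3_c30)) = (LP (LK LD1_c3 LD2_c1 LD3_c11)) :=
  Lre_a IH (LK LD1_c6 LD2_c9 LD3_c30) (LK LD1_c3 LD2_c1 LD3_c11) Lrfl Lrfl
theorem f84216 : Led Lsl_at (LP (LK LD1_c3 LD2_c22 LD3_c20)) = (LP (LK LD1_c6 LD2_c48 LD3_c24)) :=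
  Lre_a IH (LK LD1_c3 LD2_c22 LD3_c20) (LK LD1_c6 LD2_c48 LD3_c24) Lrfl Lrfl
theorem f84217 : Led Lsl_df (LP (LK LD1_c6 LD2_c9 LD3_c30)) = (LP (LK LD1_c6 LD2_c48 LD3_c24)) :=
  Lgr Lrot18 (Lpr_at (f24732 IH) (Lpr_dt (f84204 IH) (Lpr_at (f84216 IH) (Lpn (LP (LK LD1_c6 LD2_c48 LD3_c24))))))
theorem f84251 : Led Lsl_ct (LP (LK LD1_c12 LD2_c59 LD3_c14)) = (LP (LK LD1_c6 LD2_c48 LD3_c24)) :=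
  Lre_c IH (LK LD1_c12 LD2_c59 LD3_c14) (LK LD1_c6 LD2_c48 LD3_c24) Lrfl Lrfl
theorem f84252 : Led Lsl_dt (LP (LK LD1_c22 LD2_c9 LD3_c18)) = (LP (LK LD1_c12 LD2_c59 LD3_c14)) :=
  Lre_d IH (LK LD1_c22 LD2_c9 LD3_c18) (LK LD1_c12 LD2_c59 LD3_c14) Lrfl Lrfl
theorem f84253 : Led Lsl_ct (LP (LK LD1_c30 LD2_c19 LD3_c51)) = (LP (LK LD1_c22 LD2_c9 LD3_c18)) :=
  Lre_c IH (LK LD1_c30 LD2_c19 LD3_c51) (LK LD1_c22 LD2_c9 LD3_c18) Lrfl Lrfl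
theorem f135172 : Led Lsl_dt (LP (LK LD1_c27 LD2_c23 LD3_c20)) = (LP (LK LD1_c30 LD2_c19 LD3_c51)) :=
  Lgr Lrot32 (Lpe (f86417 IH) (Lpe (f86416 IH) (Lpr_ft (f135164 IH) (Lpr_at (f24751 IH) (Lpe (f24909 IH) (Lpr_df (f84217 IH) (Lpe (f84251 IH) (Lpe (f84252 IH) (Lpe (f84253 IH) (Lpn (LP (LK LD1_c30 LD2_c19 LD3_c51))))))))))))
theorem f86363 : Led Lsl_ct (LP (LK LD1_c4 LD2_c50 LD3_c23)) = (LP (LK LD1_c9 LD2_c33 LD3_c1)) :=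
  Lre_c IH (LK LD1_c4 LD2_c50 LD3_c23) (LK LD1_c9 LD2_c33 LD3_c1) Lrfl Lrfl
theorem f24956 : Led Lsl_dt (LP (LK LD1_c0 LD2_c17 LD3_c60)) = (LP (LK LD1_c0 LD2_c40 LD3_c6)) :=
  Lre_d IH (LK LD1_c0 LD2_c17 LD3_c60) (LK LD1_c0 LD2_c40 LD3_c6) Lrfl Lrfl
theorem f57562 : Led Lsl_ct (LP (LK LD1_c0 LD2_c40 LD3_c6)) = (LP (LK LD1_c1 LD2_c26 LD3_c38)) :=
  Lre_c IH (LK LD1_c0 LD2_c40 LD3_c6) (LK LD1_c1 LD2_c26 LD3_c38) Lrfl Lrfl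
theorem f86359 : Led Lsl_df (LP (LK LD1_c1 LD2_c26 LD3_c38)) = (LP (LK LD1_c2 LD2_c22 LD3_c60)) :=
  Lgr Lrot84 (Lpe (f57562 IH) (Lpe (f24956 IH) (Lpe (K3.f57544 IH) (Lpe (K0.f7456 IH) (Lpe (K3.f7471 IH) (Lpe (K3.f7502 IH) (Lpe (K3.f86357 IH) (Lpe (K2.f83203 IH) (Lpr_gt (K3.f86008 IH) (Lpn (LP (LK LD1_c2 LD2_c22 LD3_c60))))))))))))
theorem f62471 : Led Lsl_bt (LP (LK LD1_c1 LD2_c26 LD3_c38)) = (LP (LK LD1_c3 LD2_c1 LD3_c21)) :=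
  Lre_b IH (LK LD1_c1 LD2_c26 LD3_c38) (LK LD1_c3 LD2_c1 LD3_c21) Lrfl Lrfl
theorem f86362 : Led Lsl_bt (LP (LK LD1_c4 LD2_c50 LD3_c23)) = (LP (LK LD1_c2 LD2_c22 LD3_c60)) :=
  Lre_b IH (LK LD1_c4 LD2_c50 LD3_c23) (LK LD1_c2 LD2_c22 LD3_c60) Lrfl Lrfl
theorem f86366 : Led Lsl_dt (LP (LK LD1_c3 LD2_c1 LD3_c21)) = (LP (LK LD1_c4 LD2_c50 LD3_c23)) :=
  Lgr Lrot79 (Lpe (f62471 IH) (Lpr_df (f86359 IH) (Lpe (f86362 IH) (Lpn (LP (LK LD1_c4 LD2_c50 LD3_c23))))))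
theorem f62454 : Led Lsl_ct (LP (LK LD1_c6 LD2_c9 LD3_c43)) = (LP (LK LD1_c3 LD2_c1 LD3_c21)) :=
  Lre_c IH (LK LD1_c6 LD2_c9 LD3_c43) (LK LD1_c3 LD2_c1 LD3_c21) Lrfl Lrfl
theorem f62437 : Led Lsl_dt (LP (LK LD1_c12 LD2_c0 LD3_c27)) = (LP (LK LD1_c6 LD2_c9 LD3_c43)) :=
  Lre_d IH (LK LD1_c12 LD2_c0 LD3_c27) (LK LD1_c6 LD2_c9 LD3_c43) Lrfl Lrfl
theorem f135178 : Led Lsl_at (LP (LK LD1_c12 LD2_c59 LD3_c15)) = (LP (LK LD1_c22 LD2_c9 LD3_c18)) :=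
  Lre_a IH (LK LD1_c12 LD2_c59 LD3_c15) (LK LD1_c22 LD2_c9 LD3_c18) Lrfl Lrfl
theorem f135179 : Led Lsl_ft (LP (LK LD1_c12 LD2_c0 LD3_c27)) = (LP (LK LD1_c12 LD2_c59 LD3_c15)) :=
  Lgr Lrot142 (Lpr_dt (f62437 IH) (Lpr_ct (f62454 IH) (Lpr_dt (f86366 IH) (Lpr_ct (f86363 IH) (Lpr_dt (f86416 IH) (Lpr_ct (f86417 IH) (Lpr_dt (f135172 IH) (Lpr_ct (f84253 IH) (Lpe (f135178 IH) (Lpn (LP (LK LD1_c12 LD2_c59 LD3_c15))))))))))))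
theorem f135190 : Led Lsl_ff (LP (LK LD1_c12 LD2_c0 LD3_c27)) = (LP (LK LD1_c12 LD2_c59 LD3_c15)) :=
  Lgr Lrot3 (Lpr_ft (f135179 IH) (Lpn (LP (LK LD1_c12 LD2_c59 LD3_c15))))
theorem f84222 : Led Lsl_dt (LP (LK LD1_c6 LD2_c48 LD3_c17)) = (LP (LK LD1_c12 LD2_c59 LD3_c15)) :=
  Lre_d IH (LK LD1_c6 LD2_c48 LD3_c17) (LK LD1_c12 LD2_c59 LD3_c15) Lrfl Lrfl
theorem f135204 : Led Lsl_ft (LP (LK LD1_c6 LD2_c9 LD3_c43)) = (LP (LK LD1_c6 LD2_c48 LD3_c17)) :=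
  Lgr Lrot54 (Lpe (f62437 IH) (Lpr_ff (f135190 IH) (Lpe (f84222 IH) (Lpn (LP (LK LD1_c6 LD2_c48 LD3_c17))))))
theorem f62432 : Led Lsl_ct (LP (LK LD1_c3 LD2_c1 LD3_c21)) = (LP (LK LD1_c6 LD2_c9 LD3_c43)) :=
  Lre_c IH (LK LD1_c3 LD2_c1 LD3_c21) (LK LD1_c6 LD2_c9 LD3_c43) Lrfl Lrfl
theorem f84227 : Led Lsl_ct (LP (LK LD1_c6 LD2_c48 LD3_c17)) = (LP (LK LD1_c3 LD2_c22 LD3_c20)) :=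
  Lre_c IH (LK LD1_c6 LD2_c48 LD3_c17) (LK LD1_c3 LD2_c22 LD3_c20) Lrfl Lrfl
theorem f135214 : Led Lsl_ff (LP (LK LD1_c3 LD2_c1 LD3_c21)) = (LP (LK LD1_c3 LD2_c22 LD3_c20)) :=
  Lgr Lrot23 (Lpr_ct (f62432 IH) (Lpr_ft (f135204 IH) (Lpr_ct (f84227 IH) (Lpn (LP (LK LD1_c3 LD2_c22 LD3_c20))))))
theorem f62342 : Led Lsl_et (LP (LK LD1_c0 LD2_c19 LD3_c51)) = (LP (LK LD1_c0 LD2_c44 LD3_c39)) :=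
  Lre_e IH (LK LD1_c0 LD2_c19 LD3_c51) (LK LD1_c0 LD2_c44 LD3_c39) Lrfl Lrfl
theorem f62343 : Led Lsl_dt (LP (LK LD1_c0 LD2_c44 LD3_c39)) = (LP (LK LD1_c1 LD2_c36 LD3_c22)) :=
  Lre_d IH (LK LD1_c0 LD2_c44 LD3_c39) (LK LD1_c1 LD2_c36 LD3_c22) Lrfl Lrfl
theorem f62344 : Led Lsl_et (LP (LK LD1_c0 LD2_c40 LD3_c5)) = (LP (LK LD1_c0 LD2_c17 LD3_c59)) :=
  Lre_e IH (LK LD1_c0 LD2_c40 LD3_c5) (LK LD1_c0 LD2_c17 LD3_c59) Lrfl Lrfl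
theorem f62346 : Led Lsl_et (LP (LK LD1_c1 LD2_c36 LD3_c22)) = (LP (LK LD1_c1 LD2_c26 LD3_c37)) :=
  Lgr Lrot71 (Lpe (f62343 IH) (Lpe (f62342 IH) (Lpr_df (K3.f62336 IH) (Lpe (f62344 IH) (Lpe (f62345 IH) (Lpn (LP (LK LD1_c1 LD2_c26 LD3_c37))))))))
theorem f62363 : Led Lsl_ef (LP (LK LD1_c1 LD2_c36 LD3_c22)) = (LP (LK LD1_c1 LD2_c26 LD3_c37)) :=
  Lgr Lrot88 (Lpr_et (f62346 IH) (Lpn (LP (LK LD1_c1 LD2_c26 LD3_c37))))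
theorem f62378 : Led Lsl_ct (LP (LK LD1_c1 LD2_c36 LD3_c22)) = (LP (LK LD1_c3 LD2_c19 LD3_c59)) :=
  Lre_c IH (LK LD1_c1 LD2_c36 LD3_c22) (LK LD1_c3 LD2_c19 LD3_c59) Lrfl Lrfl
theorem f62380 : Led Lsl_et (LP (LK LD1_c3 LD2_c19 LD3_c59)) = (LP (LK LD1_c3 LD2_c1 LD3_c20)) :=
  Lgr Lrot158 (Lpe (f62378 IH) (Lpr_ef (f62363 IH) (Lpe (f62379 IH) (Lpn (LP (LK LD1_c3 LD2_c1 LD3_c20))))))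
theorem f62394 : Led Lsl_bt (LP (LK LD1_c6 LD2_c43 LD3_c48)) = (LP (LK LD1_c3 LD2_c19 LD3_c59)) :=
  Lre_b IH (LK LD1_c6 LD2_c43 LD3_c48) (LK LD1_c3 LD2_c19 LD3_c59) Lrfl Lrfl
theorem f62395 : Led Lsl_bt (LP (LK LD1_c3 LD2_c1 LD3_c20)) = (LP (LK LD1_c6 LD2_c9 LD3_c43)) :=
  Lre_b IH (LK LD1_c3 LD2_c1 LD3_c20) (LK LD1_c6 LD2_c9 LD3_c43) Lrfl Lrfl
theorem f62396 : Led Lsl_ef (LP (LK LD1_c6 LD2_c43 LD3_c48)) = (LP (LK LD1_c6 LD2_c9 LD3_c43)) :=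
  Lgr Lrot29 (Lpr_bt (f62394 IH) (Lpr_et (f62380 IH) (Lpr_bt (f62395 IH) (Lpn (LP (LK LD1_c6 LD2_c9 LD3_c43))))))
theorem f62438 : Led Lsl_et (LP (LK LD1_c6 LD2_c43 LD3_c48)) = (LP (LK LD1_c6 LD2_c9 LD3_c43)) :=
  Lgr Lrot87 (Lpr_ef (f62396 IH) (Lpn (LP (LK LD1_c6 LD2_c9 LD3_c43))))
theorem f62453 : Led Lsl_ct (LP (LK LD1_c3 LD2_c20 LD3_c11)) = (LP (LK LD1_c6 LD2_c43 LD3_c48)) :=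
  Lre_c IH (LK LD1_c3 LD2_c20 LD3_c11) (LK LD1_c6 LD2_c43 LD3_c48) Lrfl Lrfl
theorem f62455 : Led Lsl_ef (LP (LK LD1_c3 LD2_c20 LD3_c11)) = (LP (LK LD1_c3 LD2_c1 LD3_c21)) :=
  Lgr Lrot28 (Lpr_ct (f62453 IH) (Lpr_et (f62438 IH) (Lpr_ct (f62454 IH) (Lpn (LP (LK LD1_c3 LD2_c1 LD3_c21))))))
theorem f62476 : Led Lsl_ft (LP (LK LD1_c3 LD2_c20 LD3_c11)) = (LP (LK LD1_c6 LD2_c44 LD3_c7)) :=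
  Lre_f IH (LK LD1_c3 LD2_c20 LD3_c11) (LK LD1_c6 LD2_c44 LD3_c7) Lrfl Lrfl
theorem f62477 : Led Lsl_et (LP (LK LD1_c6 LD2_c44 LD3_c7)) = (LP (LK LD1_c12 LD2_c53 LD3_c10)) :=
  Lre_e IH (LK LD1_c6 LD2_c44 LD3_c7) (LK LD1_c12 LD2_c53 LD3_c10) Lrfl Lrfl
theorem f84210 : Led Lsl_et (LP (LK LD1_c6 LD2_c48 LD3_c25)) = (LP (LK LD1_c3 LD2_c22 LD3_c20)) :=
  Lre_e IH (LK LD1_c6 LD2_c48 LD3_c25) (LK LD1_c3 LD2_c22 LD3_c20) Lrfl Lrfl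
theorem f135230 : Led Lsl_ft (LP (LK LD1_c12 LD2_c53 LD3_c10)) = (LP (LK LD1_c6 LD2_c48 LD3_c25)) :=
  Lgr Lrot86 (Lpe (f62477 IH) (Lpe (f62476 IH) (Lpr_ef (f62455 IH) (Lpr_ff (f135214 IH) (Lpe (f84210 IH) (Lpn (LP (LK LD1_c6 LD2_c48 LD3_c25))))))))
theorem f135242 : Led Lsl_ff (LP (LK LD1_c12 LD2_c53 LD3_c10)) = (LP (LK LD1_c6 LD2_c48 LD3_c25)) :=
  Lgr Lrot3 (Lpr_ft (f135230 IH) (Lpn (LP (LK LD1_c6 LD2_c48 LD3_c25))))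
theorem f135244 : Led Lsl_bt (LP (LK LD1_c12 LD2_c53 LD3_c10)) = (LP (LK LD1_c6 LD2_c44 LD3_c12)) :=
  Lre_b IH (LK LD1_c12 LD2_c53 LD3_c10) (LK LD1_c6 LD2_c44 LD3_c12) Lrfl Lrfl
theorem f135245 : Led Lsl_ft (LP (LK LD1_c6 LD2_c44 LD3_c12)) = (LP (LK LD1_c3 LD2_c22 LD3_c21)) :=
  Lgr Lrot75 (Lpe (f135244 IH) (Lpr_ff (f135242 IH) (Lpe (f57688 IH) (Lpn (LP (LK LD1_c3 LD2_c22 LD3_c21))))))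
theorem f62492 : Led Lsl_et (LP (LK LD1_c3 LD2_c20 LD3_c13)) = (LP (LK LD1_c6 LD2_c44 LD3_c12)) :=
  Lre_e IH (LK LD1_c3 LD2_c20 LD3_c13) (LK LD1_c6 LD2_c44 LD3_c12) Lrfl Lrfl
theorem f62491 : Led Lsl_ft (LP (LK LD1_c1 LD2_c36 LD3_c30)) = (LP (LK LD1_c3 LD2_c20 LD3_c13)) :=
  Lre_f IH (LK LD1_c1 LD2_c36 LD3_c30) (LK LD1_c3 LD2_c20 LD3_c13) Lrfl Lrfl
theorem f62470 : Led Lsl_bt (LP (LK LD1_c3 LD2_c20 LD3_c11)) = (LP (LK LD1_c1 LD2_c36 LD3_c30)) :=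
  Lre_b IH (LK LD1_c3 LD2_c20 LD3_c11) (LK LD1_c1 LD2_c36 LD3_c30) Lrfl Lrfl
theorem f62472 : Led Lsl_et (LP (LK LD1_c1 LD2_c36 LD3_c30)) = (LP (LK LD1_c1 LD2_c26 LD3_c38)) :=
  Lgr Lrot74 (Lpe (f62470 IH) (Lpr_ef (f62455 IH) (Lpe (f62471 IH) (Lpn (LP (LK LD1_c1 LD2_c26 LD3_c38))))))
theorem f62482 : Led Lsl_ef (LP (LK LD1_c1 LD2_c36 LD3_c30)) = (LP (LK LD1_c1 LD2_c26 LD3_c38)) :=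
  Lgr Lrot88 (Lpr_et (f62472 IH) (Lpn (LP (LK LD1_c1 LD2_c26 LD3_c38))))
theorem f84191 : Led Lsl_et (LP (LK LD1_c3 LD2_c22 LD3_c21)) = (LP (LK LD1_c1 LD2_c37 LD3_c26)) :=
  Lre_e IH (LK LD1_c3 LD2_c22 LD3_c21) (LK LD1_c1 LD2_c37 LD3_c26) Lrfl Lrfl
theorem f135263 : Led Lsl_ff (LP (LK LD1_c1 LD2_c26 LD3_c38)) = (LP (LK LD1_c1 LD2_c37 LD3_c26)) :=
  Lgr Lrot72 (Lpe (f62482 IH) (Lpr_ft (f62491 IH) (Lpr_et (f62492 IH) (Lpr_ft (f135245 IH) (Lpr_et (f84191 IH) (Lpn (LP (LK LD1_c1 LD2_c37 LD3_c26))))))))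
theorem f84177 : Led Lsl_df (LP (LK LD1_c1 LD2_c26 LD3_c31)) = (LP (LK LD1_c1 LD2_c37 LD3_c26)) :=
  Lgr Lrot38 (Lpr_dt (f84107 IH) (Lpn (LP (LK LD1_c1 LD2_c37 LD3_c26))))
theorem f21037 : Led Lsl_dt (LP (LK LD1_c0 LD2_c40 LD3_c0)) = (LP (LK LD1_c0 LD2_c17 LD3_c58)) :=
  Lre_d IH (LK LD1_c0 LD2_c40 LD3_c0) (LK LD1_c0 LD2_c17 LD3_c58) Lrfl Lrfl

end

end K5

end

end Cfsg.Agent.Helper28.S1692
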