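import Cfsg.Agent.Lib.Helper28.S1692.Seeds49

set_option autoImplicit false
set_option maxRecDepth 100000
set_option linter.all false

namespace Cfsg.Agent.Helper28.S1692

open Cfsg.Agent.Helper28
open Cfsg.Spor.ON (Gen)

noncomputable section

namespace K50
abbrev LD1_c0 := D1.c0
abbrev LD1_c1 := D1.c1
abbrev LD1_c2 := D1.c2
abbrev LD1_c3 := D1.c3
abbrev LD1_c4 := D1.c4
abbrev LD1_c5 := D1.c5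
abbrev LD1_c6 := D1.c6
abbrev LD1_c7 := D1.c7
abbrev LD1_c8 := D1.c8
abbrev LD1_c9 := D1.c9
abbrev LD1_c10 := D1.c10
abbrev LD1_c11 := D1.c11
abbrev LD1_c12 := D1.c12
abbrev LD1_c13 := D1.c13
abbrev LD1_c14 := D1.c14
abbrev LD1_c15 := D1.c15
abbrev LD1_c16 := D1.c16
abbrev LD1_c17 := D1.c17
abbrev LD1_c18 := D1.c18
abbrev LD1_c19 := D1.c19
abbrev LD1_c20 := D1.c20
abbrev LD1_c21 := D1.c21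
abbrev LD1_c22 := D1.c22
abbrev LD1_c23 := D1.c23
abbrev LD1_c24 := D1.c24
abbrev LD1_c25 := D1.c25
abbrev LD1_c26 := D1.c26
abbrev LD1_c27 := D1.c27
abbrev LD1_c28 := D1.c28
abbrev LD1_c29 := D1.c29
abbrev LD1_c30 := D1.c30
abbrev LD1_c31 := D1.c31
abbrev LD1_c32 := D1.c32
abbrev LD2_c0 := D2.c0
abbrev LD2_c1 := D2.c1
abbrev LD2_c2 := D2.c2
abbrev LD2_c3 := D2.c3
abbrev LD2_c4 := D2.c4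
abbrev LD2_c5 := D2.c5
abbrev LD2_c6 := D2.c6
abbrev LD2_c7 := D2.c7
abbrev LD2_c8 := D2.c8
abbrev LD2_c9 := D2.c9
abbrev LD2_c10 := D2.c10
abbrev LD2_c11 := D2.c11
abbrev LD2_c12 := D2.c12
abbrev LD2_c13 := D2.c13
abbrev LD2_c14 := D2.c14
abbrev LD2_c15 := D2.c15
abbrev LD2_c16 := D2.c16
abbrev LD2_c17 := D2.c17
abbrev LD2_c18 := D2.c18
abbrev LD2_c19 := D2.c19
abbrev LD2_c20 := D2.c20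
abbrev LD2_c21 := D2.c21
abbrev LD2_c22 := D2.c22
abbrev LD2_c23 := D2.c23
abbrev LD2_c24 := D2.c24
abbrev LD2_c25 := D2.c25
abbrev LD2_c26 := D2.c26
abbrev LD2_c27 := D2.c27
abbrev LD2_c28 := D2.c28
abbrev LD2_c29 := D2.c29
abbrev LD2_c30 := D2.c30
abbrev LD2_c31 := D2.c31
abbrev LD2_c32 := D2.c32
abbrev LD2_c33 := D2.c33
abbrev LD2_c34 := D2.c34
abbrev LD2_c35 := D2.c35
abbrev LD2_c36 := D2.c36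
abbrev LD2_c37 := D2.c37
abbrev LD2_c38 := D2.c38
abbrev LD2_c39 := D2.c39
abbrev LD2_c40 := D2.c40
abbrev LD2_c41 := D2.c41
abbrev LD2_c42 := D2.c42
abbrev LD2_c43 := D2.c43
abbrev LD2_c44 := D2.c44
abbrev LD2_c45 := D2.c45
abbrev LD2_c46 := D2.c46
abbrev LD2_c47 := D2.c47
abbrev LD2_c48 := D2.c48
abbrev LD2_c49 := D2.c49
abbrev LD2_c50 := D2.c50
abbrev LD2_c51 := D2.c51
abbrev LD2_c52 := D2.c52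
abbrev LD2_c53 := D2.c53
abbrev LD2_c54 := D2.c54
abbrev LD2_c55 := D2.c55
abbrev LD2_c56 := D2.c56
abbrev LD2_c57 := D2.c57
abbrev LD2_c58 := D2.c58
abbrev LD2_c59 := D2.c59
abbrev LD3_c0 := D3.c0
abbrev LD3_c1 := D3.c1
abbrev LD3_c2 := D3.c2
abbrev LD3_c3 := D3.c3
abbrev LD3_c4 := D3.c4
abbrev LD3_c5 := D3.c5
abbrev LD3_c6 := D3.c6
abbrev LD3_c7 := D3.c7
abbrev LD3_c8 := D3.c8
abbrev LD3_c9 := D3.c9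
abbrev LD3_c10 := D3.c10
abbrev LD3_c11 := D3.c11
abbrev LD3_c12 := D3.c12
abbrev LD3_c13 := D3.c13
abbrev LD3_c14 := D3.c14
abbrev LD3_c15 := D3.c15
abbrev LD3_c16 := D3.c16
abbrev LD3_c17 := D3.c17
abbrev LD3_c18 := D3.c18
abbrev LD3_c19 := D3.c19
abbrev LD3_c20 := D3.c20
abbrev LD3_c21 := D3.c21
abbrev LD3_c22 := D3.c22
abbrev LD3_c23 := D3.c23
abbrev LD3_c24 := D3.c24
abbrev LD3_c25 := D3.c25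
abbrev LD3_c26 := D3.c26
abbrev LD3_c27 := D3.c27
abbrev LD3_c28 := D3.c28
abbrev LD3_c29 := D3.c29
abbrev LD3_c30 := D3.c30
abbrev LD3_c31 := D3.c31
abbrev LD3_c32 := D3.c32
abbrev LD3_c33 := D3.c33
abbrev LD3_c34 := D3.c34
abbrev LD3_c35 := D3.c35
abbrev LD3_c36 := D3.c36
abbrev LD3_c37 := D3.c37
abbrev LD3_c38 := D3.c38
abbrev LD3_c39 := D3.c39
abbrev LD3_c40 := D3.c40
abbrev LD3_c41 := D3.c41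
abbrev LD3_c42 := D3.c42
abbrev LD3_c43 := D3.c43
abbrev LD3_c44 := D3.c44
abbrev LD3_c45 := D3.c45
abbrev LD3_c46 := D3.c46
abbrev LD3_c47 := D3.c47
abbrev LD3_c48 := D3.c48
abbrev LD3_c49 := D3.c49
abbrev LD3_c50 := D3.c50
abbrev LD3_c51 := D3.c51
abbrev LD3_c52 := D3.c52
abbrev LD3_c53 := D3.c53
abbrev LD3_c54 := D3.c54
abbrev LD3_c55 := D3.c55
abbrev LD3_c56 := D3.c56
abbrev LD3_c57 := D3.c57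
abbrev LD3_c58 := D3.c58
abbrev LD3_c59 := D3.c59
abbrev LD3_c60 := D3.c60
abbrev LD3_c61 := D3.c61
abbrev LG_g := Gen.g
abbrev Lsl_gt : Gen × Bool := sl_gt
alias Lfl_gt := fl_gt
alias Lpr_gt := pr_gt
abbrev Lsl_gf : Gen × Bool := sl_gf
alias Lfl_gf := fl_gf
alias Lpr_gf := pr_gf
alias Lre_g := re_g
alias Leoe_g := eoe_g
abbrev LG_a := Gen.a
abbrev Lsl_at : Gen × Bool := sl_at
alias Lfl_at := fl_at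
alias Lpr_at := pr_at
abbrev Lsl_af : Gen × Bool := sl_af
alias Lfl_af := fl_af
alias Lpr_af := pr_af
alias Lre_a := re_a
alias Leoe_a := eoe_a
abbrev LG_b := Gen.b
abbrev Lsl_bt : Gen × Bool := sl_bt
alias Lfl_bt := fl_bt
alias Lpr_bt := pr_bt
abbrev Lsl_bf : Gen × Bool := sl_bf
alias Lfl_bf := fl_bf
alias Lpr_bf := pr_bf
alias Lre_b := re_b
alias Leoe_b := eoe_b
abbrev LG_c := Gen.c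
abbrev Lsl_ct : Gen × Bool := sl_ct
alias Lfl_ct := fl_ct
alias Lpr_ct := pr_ct
abbrev Lsl_cf : Gen × Bool := sl_cf
alias Lfl_cf := fl_cf
alias Lpr_cf := pr_cf
alias Lre_c := re_c
alias Leoe_c := eoe_c
abbrev LG_d := Gen.d
abbrev Lsl_dt : Gen × Bool := sl_dt
alias Lfl_dt := fl_dt
alias Lpr_dt := pr_dt
abbrev Lsl_df : Gen × Bool := sl_df
alias Lfl_df := fl_df
alias Lpr_df := pr_df
alias Lre_d := re_d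
alias Leoe_d := eoe_d
abbrev LG_e := Gen.e
abbrev Lsl_et : Gen × Bool := sl_et
alias Lfl_et := fl_et
alias Lpr_et := pr_et
abbrev Lsl_ef : Gen × Bool := sl_ef
alias Lfl_ef := fl_ef
alias Lpr_ef := pr_ef
alias Lre_e := re_e
alias Leoe_e := eoe_e
abbrev LG_f := Gen.f
abbrev Lsl_ft : Gen × Bool := sl_ft
alias Lfl_ft := fl_ft
alias Lpr_ft := pr_ft
abbrev Lsl_ff : Gen × Bool := sl_ff
alias Lfl_ff := fl_ff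
alias Lpr_ff := pr_ff
alias Lre_f := re_f
alias Leoe_f := eoe_f
abbrev LK := Pt.mk
abbrev LQ : Type := Qt rels S
abbrev LP (p : Pt) : LQ := P p
abbrev Led (l : Gen × Bool) (c : LQ) : LQ := ed l c
abbrev LEOK (x : Gen) (p : Pt) : Prop := EntryOK rels S fwd inv o plet idx x p
alias Lpe := pe
alias Lpn := pn
alias Lgr := gr
alias Lpq := pq
alias Lpqs := pqs
alias Llr := lr
alias Leop := eop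
alias Lefun := efun
alias Lecon := econ
theorem Lrfl {α : Sort _} {a : α} : a = a := rfl
alias Lrot0 := rot0
alias Lrot1 := rot1
alias Lrot2 := rot2
alias Lrot3 := rot3
alias Lrot4 := rot4
alias Lrot5 := rot5
alias Lrot6 := rot6
alias Lrot7 := rot7
alias Lrot8 := rot8
alias Lrot9 := rot9
alias Lrot10 := rot10
alias Lrot11 := rot11
alias Lrot12 := rot12
alias Lrot13 := rot13
alias Lrot14 := rot14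
alias Lrot15 := rot15
alias Lrot17 := rot17
alias Lrot18 := rot18
alias Lrot19 := rot19
alias Lrot20 := rot20
alias Lrot21 := rot21
alias Lrot22 := rot22
alias Lrot23 := rot23
alias Lrot24 := rot24
alias Lrot25 := rot25
alias Lrot26 := rot26
alias Lrot27 := rot27
alias Lrot28 := rot28
alias Lrot29 := rot29
alias Lrot30 := rot30
alias Lrot31 := rot31
alias Lrot32 := rot32
alias Lrot33 := rot33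
alias Lrot34 := rot34
alias Lrot35 := rot35
alias Lrot36 := rot36
alias Lrot38 := rot38
alias Lrot39 := rot39
alias Lrot40 := rot40
alias Lrot42 := rot42
alias Lrot44 := rot44
alias Lrot45 := rot45
alias Lrot46 := rot46
alias Lrot47 := rot47
alias Lrot48 := rot48
alias Lrot49 := rot49
alias Lrot50 := rot50
alias Lrot51 := rot51
alias Lrot52 := rot52
alias Lrot54 := rot54
alias Lrot55 := rot55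
alias Lrot56 := rot56
alias Lrot57 := rot57
alias Lrot58 := rot58
alias Lrot59 := rot59
alias Lrot60 := rot60
alias Lrot61 := rot61
alias Lrot62 := rot62
alias Lrot63 := rot63
alias Lrot64 := rot64
alias Lrot65 := rot65
alias Lrot66 := rot66
alias Lrot67 := rot67
alias Lrot68 := rot68
alias Lrot69 := rot69
alias Lrot70 := rot70
alias Lrot71 := rot71
alias Lrot72 := rot72
alias Lrot73 := rot73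
alias Lrot74 := rot74
alias Lrot75 := rot75
alias Lrot76 := rot76
alias Lrot77 := rot77
alias Lrot78 := rot78
alias Lrot79 := rot79
alias Lrot80 := rot80
alias Lrot81 := rot81
alias Lrot82 := rot82
alias Lrot83 := rot83
alias Lrot84 := rot84
alias Lrot85 := rot85
alias Lrot86 := rot86
alias Lrot87 := rot87
alias Lrot88 := rot88
alias Lrot90 := rot90
alias Lrot91 := rot91
alias Lrot92 := rot92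
alias Lrot93 := rot93
alias Lrot94 := rot94
alias Lrot95 := rot95
alias Lrot96 := rot96
alias Lrot97 := rot97
alias Lrot99 := rot99
alias Lrot100 := rot100
alias Lrot101 := rot101
alias Lrot102 := rot102
alias Lrot103 := rot103
alias Lrot104 := rot104
alias Lrot105 := rot105
alias Lrot106 := rot106
alias Lrot107 := rot107
alias Lrot108 := rot108
alias Lrot109 := rot109
alias Lrot110 := rot110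
alias Lrot111 := rot111
alias Lrot112 := rot112
alias Lrot113 := rot113
alias Lrot116 := rot116
alias Lrot117 := rot117
alias Lrot119 := rot119
alias Lrot120 := rot120
alias Lrot121 := rot121
alias Lrot122 := rot122
alias Lrot123 := rot123
alias Lrot124 := rot124
alias Lrot125 := rot125
alias Lrot126 := rot126
alias Lrot127 := rot127
alias Lrot128 := rot128
alias Lrot129 := rot129
alias Lrot130 := rot130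
alias Lrot131 := rot131
alias Lrot132 := rot132
alias Lrot133 := rot133
alias Lrot134 := rot134
alias Lrot135 := rot135
alias Lrot136 := rot136
alias Lrot137 := rot137
alias Lrot138 := rot138
alias Lrot139 := rot139
alias Lrot141 := rot141
alias Lrot142 := rot142
alias Lrot143 := rot143
alias Lrot144 := rot144
alias Lrot145 := rot145
alias Lrot146 := rot146
alias Lrot147 := rot147
alias Lrot148 := rot148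
alias Lrot149 := rot149
alias Lrot150 := rot150
alias Lrot152 := rot152
alias Lrot153 := rot153
alias Lrot154 := rot154
alias Lrot155 := rot155
alias Lrot156 := rot156
alias Lrot157 := rot157
alias Lrot158 := rot158
alias Lrot160 := rot160
alias Lrot161 := rot161
alias Lrot162 := rot162
alias Lrot163 := rot163
alias Lrot164 := rot164
alias Lrot165 := rot165
alias Lrot166 := rot166
alias Lrot167 := rot167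
alias Lrot168 := rot168
alias Lrot169 := rot169
alias Lrot170 := rot170
alias Lrot171 := rot171
alias Lrot172 := rot172
alias Lrot173 := rot173
alias Lrot174 := rot174
alias Lrot175 := rot175
alias Lrot176 := rot176
alias Lrot178 := rot178
alias Lrot181 := rot181
alias Lrot183 := rot183
alias Lrot185 := rot185
alias Lrot187 := rot187
alias Lrot190 := rot190

section
variable (IH : IHT)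
include IH

theorem f52227 : Led Lsl_bt (LP (LK LD1_c2 LD2_c6 LD3_c26)) = (LP (LK LD1_c1 LD2_c0 LD3_c12)) :=
  Lre_b IH (LK LD1_c2 LD2_c6 LD3_c26) (LK LD1_c1 LD2_c0 LD3_c12) Lrfl Lrfl
theorem f493980 : Led Lsl_ff (LP (LK LD1_c2 LD2_c6 LD3_c26)) = K49.v1210 :=
  Lgr Lrot25 (Lpr_bt (f52227 IH) (Lpr_ft (K49.f304909 IH) (Lpr_bt (K49.f493977 IH) (Lpn K49.v1210))))
theorem f179544 : Led Lsl_bt (LP (LK LD1_c1 LD2_c0 LD3_c40)) = (LP (LK LD1_c2 LD2_c7 LD3_c17)) :=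
  Lre_b IH (LK LD1_c1 LD2_c0 LD3_c40) (LK LD1_c2 LD2_c7 LD3_c17) Lrfl Lrfl
theorem f179551 : Led Lsl_dt (LP (LK LD1_c2 LD2_c7 LD3_c17)) = (LP (LK LD1_c2 LD2_c6 LD3_c26)) :=
  Lgr Lrot79 (Lpe (f179544 IH) (Lpr_df (K9.f179536 IH) (Lpe (f52227 IH) (Lpn (LP (LK LD1_c2 LD2_c6 LD3_c26))))))
theorem f422699 : Led Lsl_df (LP (LK LD1_c2 LD2_c7 LD3_c17)) = (LP (LK LD1_c2 LD2_c6 LD3_c26)) :=
  Lgr Lrot38 (Lpr_dt (f179551 IH) (Lpn (LP (LK LD1_c2 LD2_c6 LD3_c26))))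
theorem f304907 : Led Lsl_ft (LP (LK LD1_c2 LD2_c7 LD3_c17)) = (LP (LK LD1_c2 LD2_c3 LD3_c36)) :=
  Lgr Lrot75 (Lpe (f179544 IH) (Lpr_ff (K19.f304903 IH) (Lpe (K49.f167074 IH) (Lpn (LP (LK LD1_c2 LD2_c3 LD3_c36))))))
theorem f493981 : Led Lsl_dt (LP (LK LD1_c2 LD2_c3 LD3_c36)) = K49.v1210 :=
  Lgr Lrot60 (Lpe (f304907 IH) (Lpr_df (f422699 IH) (Lpr_ff (f493980 IH) (Lpn K49.v1210))))
def v4531 : LQ := Led Lsl_bt (LP (LK LD1_c2 LD2_c24 LD3_c34))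
theorem f635984 : Led Lsl_bt (LP (LK LD1_c2 LD2_c24 LD3_c34)) = v4531 :=
  Lrfl
theorem f635987 : Led Lsl_ff (LP (LK LD1_c4 LD2_c18 LD3_c18)) = v4531 :=
  Lgr Lrot25 (Lpe (K49.f421815 IH) (Lpr_ft (K19.f304689 IH) (Lpr_bt (f635984 IH) (Lpn v4531))))
theorem f493982 : Led Lsl_ft (LP (LK LD1_c2 LD2_c6 LD3_c26)) = K49.v1210 :=
  Lgr Lrot48 (Lpr_ff (f493980 IH) (Lpn K49.v1210))
theorem f635988 : Led Lsl_ct K49.v1210 = v4531 :=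
  Lgr Lrot40 (Lpe (f493982 IH) (Lpe (K49.f52228 IH) (Lpr_ff (f635987 IH) (Lpn v4531))))
theorem f635985 : Led Lsl_bf (LP (LK LD1_c2 LD2_c24 LD3_c34)) = v4531 :=
  Lgr Lrot24 (Lpr_bt (f635984 IH) (Lpn v4531))
theorem f199945 : Led Lsl_bt (LP (LK LD1_c8 LD2_c21 LD3_c13)) = (LP (LK LD1_c15 LD2_c43 LD3_c22)) :=
  Lre_b IH (LK LD1_c8 LD2_c21 LD3_c13) (LK LD1_c15 LD2_c43 LD3_c22) Lrfl Lrfl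
theorem f279243 : Led Lsl_gt (LP (LK LD1_c9 LD2_c37 LD3_c15)) = (LP (LK LD1_c17 LD2_c42 LD3_c50)) :=
  Lre_g IH (LK LD1_c9 LD2_c37 LD3_c15) (LK LD1_c17 LD2_c42 LD3_c50) Lrfl Lrfl
theorem f602086 : Led Lsl_bt (LP (LK LD1_c17 LD2_c42 LD3_c48)) = (LP (LK LD1_c9 LD2_c37 LD3_c15)) :=
  Lre_b IH (LK LD1_c17 LD2_c42 LD3_c48) (LK LD1_c9 LD2_c37 LD3_c15) Lrfl Lrfl
theorem f233101 : Led Lsl_gt (LP (LK LD1_c9 LD2_c35 LD3_c49)) = (LP (LK LD1_c17 LD2_c40 LD3_c5)) :=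
  Lre_g IH (LK LD1_c9 LD2_c35 LD3_c49) (LK LD1_c17 LD2_c40 LD3_c5) Lrfl Lrfl
theorem f233102 : Led Lsl_bt (LP (LK LD1_c27 LD2_c27 LD3_c42)) = (LP (LK LD1_c17 LD2_c40 LD3_c5)) :=
  Lre_b IH (LK LD1_c27 LD2_c27 LD3_c42) (LK LD1_c17 LD2_c40 LD3_c5) Lrfl Lrfl
theorem f620461 : Led Lsl_ct (LP (LK LD1_c27 LD2_c27 LD3_c42)) = (LP (LK LD1_c17 LD2_c42 LD3_c48)) :=
  Lgr Lrot64 (Lpr_bt (f233102 IH) (Lpe (f233101 IH) (Lpe (K30.f233100 IH) (Lpe (K27.f233088 IH) (Lpr_gf (K15.f233990 IH) (Lpe (K15.f233985 IH) (Lpe (K15.f233992 IH) (Lpe (K27.f170481 IH) (Lpr_ct (K38.f263842 IH) (Lpr_gf (K49.f620453 IH) (Lpn (LP (LK LD1_c17 LD2_c42 LD3_c48)))))))))))))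
theorem f620598 : Led Lsl_ft (LP (LK LD1_c9 LD2_c37 LD3_c14)) = (LP (LK LD1_c15 LD2_c40 LD3_c24)) :=
  Lgr Lrot75 (Lpe (K38.f232689 IH) (Lpe (K49.f620568 IH) (Lpr_bf (K49.f620590 IH) (Lpn (LP (LK LD1_c15 LD2_c40 LD3_c24))))))
theorem f620648 : Led Lsl_ff (LP (LK LD1_c9 LD2_c37 LD3_c14)) = (LP (LK LD1_c15 LD2_c40 LD3_c24)) :=
  Lgr Lrot3 (Lpr_ft (f620598 IH) (Lpn (LP (LK LD1_c15 LD2_c40 LD3_c24))))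
theorem f620539 : Led Lsl_at (LP (LK LD1_c9 LD2_c37 LD3_c14)) = (LP (LK LD1_c17 LD2_c42 LD3_c47)) :=
  Lre_a IH (LK LD1_c9 LD2_c37 LD3_c14) (LK LD1_c17 LD2_c42 LD3_c47) Lrfl Lrfl
theorem f620657 : Led Lsl_gf (LP (LK LD1_c17 LD2_c42 LD3_c47)) = (LP (LK LD1_c15 LD2_c37 LD3_c58)) :=
  Lgr Lrot76 (Lpe (f620539 IH) (Lpr_ff (f620648 IH) (Lpr_gt (K49.f397181 IH) (Lpn (LP (LK LD1_c15 LD2_c37 LD3_c58))))))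
theorem f170557 : Led Lsl_ct (LP (LK LD1_c8 LD2_c18 LD3_c41)) = (LP (LK LD1_c15 LD2_c37 LD3_c58)) :=
  Lre_c IH (LK LD1_c8 LD2_c18 LD3_c41) (LK LD1_c15 LD2_c37 LD3_c58) Lrfl Lrfl
theorem f257931 : Led Lsl_dt (LP (LK LD1_c4 LD2_c9 LD3_c20)) = (LP (LK LD1_c8 LD2_c18 LD3_c43)) :=
  Lre_d IH (LK LD1_c4 LD2_c9 LD3_c20) (LK LD1_c8 LD2_c18 LD3_c43) Lrfl Lrfl
theorem f171103 : Led Lsl_dt (LP (LK LD1_c8 LD2_c29 LD3_c58)) = (LP (LK LD1_c15 LD2_c57 LD3_c32)) :=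
  Lre_d IH (LK LD1_c8 LD2_c29 LD3_c58) (LK LD1_c15 LD2_c57 LD3_c32) Lrfl Lrfl
theorem f171104 : Led Lsl_dt (LP (LK LD1_c9 LD2_c35 LD3_c11)) = (LP (LK LD1_c4 LD2_c51 LD3_c33)) :=
  Lre_d IH (LK LD1_c9 LD2_c35 LD3_c11) (LK LD1_c4 LD2_c51 LD3_c33) Lrfl Lrfl
theorem f400854 : Led Lsl_ff (LP (LK LD1_c15 LD2_c35 LD3_c33)) = (LP (LK LD1_c17 LD2_c37 LD3_c46)) :=
  Lgr Lrot3 (Lpr_ft (K38.f400848 IH) (Lpn (LP (LK LD1_c17 LD2_c37 LD3_c46))))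
theorem f401033 : Led Lsl_at (LP (LK LD1_c15 LD2_c35 LD3_c33)) = (LP (LK LD1_c25 LD2_c27 LD3_c10)) :=
  Lgr Lrot107 (Lpe (K27.f263826 IH) (Lpr_af (K49.f401002 IH) (Lpe (K49.f236088 IH) (Lpn (LP (LK LD1_c25 LD2_c27 LD3_c10))))))
theorem f620388 : Led Lsl_dt (LP (LK LD1_c15 LD2_c37 LD3_c61)) = (LP (LK LD1_c15 LD2_c33 LD3_c36)) :=
  Lgr Lrot120 (Lpr_cf (K49.f620380 IH) (Lpe (f171103 IH) (Lpr_cf (K27.f171089 IH) (Lpe (f171104 IH) (Lpe (K38.f171105 IH) (Lpr_df (K38.f400842 IH) (Lpe (f400854 IH) (Lpr_at (f401033 IH) (Lpe (K49.f236085 IH) (Lpn (LP (LK LD1_c15 LD2_c33 LD3_c36))))))))))))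
theorem f372911 : Led Lsl_at (LP (LK LD1_c9 LD2_c35 LD3_c11)) = (LP (LK LD1_c17 LD2_c39 LD3_c6)) :=
  Lre_a IH (LK LD1_c9 LD2_c35 LD3_c11) (LK LD1_c17 LD2_c39 LD3_c6) Lrfl Lrfl
theorem f396982 : Led Lsl_af (LP (LK LD1_c17 LD2_c39 LD3_c10)) = (LP (LK LD1_c25 LD2_c29 LD3_c42)) :=
  Lgr Lrot68 (Lpr_ct (K38.f171105 IH) (Lpr_at (f372911 IH) (Lpr_ct (K38.f396965 IH) (Lpn (LP (LK LD1_c25 LD2_c29 LD3_c42))))))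
theorem f401060 : Led Lsl_at (LP (LK LD1_c25 LD2_c29 LD3_c52)) = (LP (LK LD1_c31 LD2_c54 LD3_c8)) :=
  Lgr Lrot66 (Lpr_ff (K38.f373000 IH) (Lpr_af (f396982 IH) (Lpr_ff (K49.f401058 IH) (Lpn (LP (LK LD1_c31 LD2_c54 LD3_c8))))))
theorem f373002 : Led Lsl_gt (LP (LK LD1_c17 LD2_c39 LD3_c10)) = (LP (LK LD1_c27 LD2_c27 LD3_c3)) :=
  Lre_g IH (LK LD1_c17 LD2_c39 LD3_c10) (LK LD1_c27 LD2_c27 LD3_c3) Lrfl Lrfl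
theorem f401070 : Led Lsl_gt (LP (LK LD1_c27 LD2_c27 LD3_c3)) = (LP (LK LD1_c31 LD2_c54 LD3_c8)) :=
  Lgr Lrot46 (Lpe (f373002 IH) (Lpe (K38.f373000 IH) (Lpr_at (f401060 IH) (Lpn (LP (LK LD1_c31 LD2_c54 LD3_c8))))))
theorem f620661 : Led Lsl_dt (LP (LK LD1_c17 LD2_c42 LD3_c47)) = (LP (LK LD1_c27 LD2_c27 LD3_c3)) :=
  Lgr Lrot57 (Lpr_gf (f620657 IH) (Lpe (f170557 IH) (Lpr_gt (K30.f167266 IH) (Lpr_dt (f257931 IH) (Lpr_gt (K49.f234366 IH) (Lpr_dt (f620388 IH) (Lpe (K49.f236088 IH) (Lpe (K49.f236086 IH) (Lpe (f401070 IH) (Lpn (LP (LK LD1_c27 LD2_c27 LD3_c3))))))))))))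
theorem f620659 : Led Lsl_gt (LP (LK LD1_c17 LD2_c42 LD3_c47)) = (LP (LK LD1_c15 LD2_c37 LD3_c55)) :=
  Lgr Lrot46 (Lpr_gf (f620657 IH) (Lpe (K38.f397005 IH) (Lpe (K38.f397160 IH) (Lpn (LP (LK LD1_c15 LD2_c37 LD3_c55))))))
theorem f167276 : Led Lsl_ct (LP (LK LD1_c15 LD2_c37 LD3_c55)) = (LP (LK LD1_c8 LD2_c18 LD3_c40)) :=
  Lre_c IH (LK LD1_c15 LD2_c37 LD3_c55) (LK LD1_c8 LD2_c18 LD3_c40) Lrfl Lrfl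
theorem f232652 : Led Lsl_ct (LP (LK LD1_c15 LD2_c33 LD3_c60)) = (LP (LK LD1_c9 LD2_c35 LD3_c57)) :=
  Lgr Lrot59 (Lpr_cf (K30.f232612 IH) (Lpn (LP (LK LD1_c9 LD2_c35 LD3_c57))))
theorem f401064 : Led Lsl_ft (LP (LK LD1_c25 LD2_c29 LD3_c42)) = (LP (LK LD1_c31 LD2_c54 LD3_c8)) :=
  Lgr Lrot48 (Lpr_ff (K49.f401058 IH) (Lpn (LP (LK LD1_c31 LD2_c54 LD3_c8))))
theorem f401068 : Led Lsl_cf (LP (LK LD1_c25 LD2_c58 LD3_c47)) = (LP (LK LD1_c31 LD2_c54 LD3_c8)) :=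
  Lgr Lrot108 (Lpr_ft (K38.f372981 IH) (Lpr_ct (K38.f396965 IH) (Lpr_ft (f401064 IH) (Lpn (LP (LK LD1_c31 LD2_c54 LD3_c8))))))
theorem f171110 : Led Lsl_gt (LP (LK LD1_c17 LD2_c39 LD3_c9)) = (LP (LK LD1_c9 LD2_c35 LD3_c11)) :=
  Lre_g IH (LK LD1_c17 LD2_c39 LD3_c9) (LK LD1_c9 LD2_c35 LD3_c11) Lrfl Lrfl
theorem f372990 : Led Lsl_gt (LP (LK LD1_c25 LD2_c58 LD3_c47)) = (LP (LK LD1_c17 LD2_c39 LD3_c9)) :=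
  Lgr Lrot5 (Lpr_ft (K38.f372981 IH) (Lpr_at (K38.f372952 IH) (Lpe (f171110 IH) (Lpn (LP (LK LD1_c17 LD2_c39 LD3_c9))))))
theorem f620671 : Led Lsl_cf (LP (LK LD1_c17 LD2_c40 LD3_c21)) = (LP (LK LD1_c17 LD2_c39 LD3_c9)) :=
  Lgr Lrot175 (Lpr_dt (K30.f232656 IH) (Lpe (f232652 IH) (Lpe (K38.f372691 IH) (Lpe (f167276 IH) (Lpe (f620659 IH) (Lpr_dt (f620661 IH) (Lpr_gt (f401070 IH) (Lpe (f401068 IH) (Lpr_gt (f372990 IH) (Lpn (LP (LK LD1_c17 LD2_c39 LD3_c9))))))))))))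
theorem f620679 : Led Lsl_ft (LP (LK LD1_c17 LD2_c37 LD3_c52)) = (LP (LK LD1_c17 LD2_c39 LD3_c9)) :=
  Lgr Lrot4 (Lpr_cf (K38.f400456 IH) (Lpr_ff (K30.f372575 IH) (Lpr_cf (f620671 IH) (Lpn (LP (LK LD1_c17 LD2_c39 LD3_c9))))))
theorem f400783 : Led Lsl_ff (LP (LK LD1_c9 LD2_c34 LD3_c28)) = (LP (LK LD1_c17 LD2_c36 LD3_c35)) :=
  Lgr Lrot23 (Lpr_ct (K38.f349505 IH) (Lpr_ft (K38.f400781 IH) (Lpr_ct (K38.f243505 IH) (Lpn (LP (LK LD1_c17 LD2_c36 LD3_c35))))))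
theorem f620683 : Led Lsl_df (LP (LK LD1_c17 LD2_c36 LD3_c35)) = (LP (LK LD1_c17 LD2_c39 LD3_c9)) :=
  Lgr Lrot78 (Lpe (f400783 IH) (Lpr_dt (K38.f349504 IH) (Lpr_ft (f620679 IH) (Lpn (LP (LK LD1_c17 LD2_c39 LD3_c9))))))
theorem f397186 : Led Lsl_dt (LP (LK LD1_c25 LD2_c35 LD3_c54)) = (LP (LK LD1_c15 LD2_c40 LD3_c24)) :=
  Lre_d IH (LK LD1_c25 LD2_c35 LD3_c54) (LK LD1_c15 LD2_c40 LD3_c24) Lrfl Lrfl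
theorem f620695 : Led Lsl_gf (LP (LK LD1_c25 LD2_c35 LD3_c54)) = (LP (LK LD1_c31 LD2_c54 LD3_c8)) :=
  Lgr Lrot144 (Lpr_dt (f397186 IH) (Lpr_gt (K49.f397181 IH) (Lpr_dt (K38.f170577 IH) (Lpe (K49.f394430 IH) (Lpe (K49.f167399 IH) (Lpe (K38.f167406 IH) (Lpr_df (f620683 IH) (Lpe (f372990 IH) (Lpr_cf (f401068 IH) (Lpn (LP (LK LD1_c31 LD2_c54 LD3_c8))))))))))))
theorem f620699 : Led Lsl_gt (LP (LK LD1_c25 LD2_c35 LD3_c54)) = (LP (LK LD1_c17 LD2_c39 LD3_c10)) :=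
  Lgr Lrot46 (Lpr_gf (f620695 IH) (Lpe (K49.f401058 IH) (Lpe (f396982 IH) (Lpn (LP (LK LD1_c17 LD2_c39 LD3_c10))))))
theorem f372694 : Led Lsl_dt (LP (LK LD1_c15 LD2_c40 LD3_c24)) = (LP (LK LD1_c25 LD2_c35 LD3_c54)) :=
  Lre_d IH (LK LD1_c15 LD2_c40 LD3_c24) (LK LD1_c25 LD2_c35 LD3_c54) Lrfl Lrfl
theorem f620646 : Led Lsl_ff (LP (LK LD1_c17 LD2_c42 LD3_c48)) = (LP (LK LD1_c25 LD2_c35 LD3_c54)) :=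
  Lgr Lrot19 (Lpr_dt (K49.f232699 IH) (Lpr_ft (f620598 IH) (Lpr_dt (f372694 IH) (Lpn (LP (LK LD1_c25 LD2_c35 LD3_c54))))))
theorem f620701 : Led Lsl_at (LP (LK LD1_c17 LD2_c42 LD3_c48)) = (LP (LK LD1_c27 LD2_c27 LD3_c3)) :=
  Lgr Lrot26 (Lpr_ff (f620646 IH) (Lpr_gt (f620699 IH) (Lpr_gt (f373002 IH) (Lpn (LP (LK LD1_c27 LD2_c27 LD3_c3))))))
theorem f551079 : Led Lsl_at (LP (LK LD1_c8 LD2_c32 LD3_c1)) = (LP (LK LD1_c15 LD2_c57 LD3_c30)) :=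
  Lgr Lrot107 (Lpe (K49.f170477 IH) (Lpr_af (K49.f551073 IH) (Lpe (K49.f233700 IH) (Lpn (LP (LK LD1_c15 LD2_c57 LD3_c30))))))
theorem f551106 : Led Lsl_ff (LP (LK LD1_c8 LD2_c32 LD3_c1)) = (LP (LK LD1_c15 LD2_c57 LD3_c29)) :=
  Lgr Lrot52 (Lpr_at (f551079 IH) (Lpe (K30.f373003 IH) (Lpe (K49.f377800 IH) (Lpn (LP (LK LD1_c15 LD2_c57 LD3_c29))))))
theorem f551116 : Led Lsl_ft (LP (LK LD1_c8 LD2_c32 LD3_c1)) = (LP (LK LD1_c15 LD2_c57 LD3_c29)) :=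
  Lgr Lrot48 (Lpr_ff (f551106 IH) (Lpn (LP (LK LD1_c15 LD2_c57 LD3_c29))))
theorem f551124 : Led Lsl_af (LP (LK LD1_c8 LD2_c32 LD3_c2)) = (LP (LK LD1_c15 LD2_c57 LD3_c29)) :=
  Lgr Lrot31 (Lpr_gf (K30.f374789 IH) (Lpr_gf (K31.f377796 IH) (Lpr_ft (f551116 IH) (Lpn (LP (LK LD1_c15 LD2_c57 LD3_c29))))))
theorem f171114 : Led Lsl_ct (LP (LK LD1_c25 LD2_c53 LD3_c54)) = (LP (LK LD1_c15 LD2_c57 LD3_c29)) :=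
  Lre_c IH (LK LD1_c25 LD2_c53 LD3_c54) (LK LD1_c15 LD2_c57 LD3_c29) Lrfl Lrfl
theorem f551126 : Led Lsl_at (LP (LK LD1_c16 LD2_c1 LD3_c16)) = (LP (LK LD1_c25 LD2_c53 LD3_c54)) :=
  Lgr Lrot107 (Lpe (K49.f186968 IH) (Lpr_af (f551124 IH) (Lpe (f171114 IH) (Lpn (LP (LK LD1_c25 LD2_c53 LD3_c54))))))
theorem f551071 : Led Lsl_ff (LP (LK LD1_c16 LD2_c1 LD3_c16)) = (LP (LK LD1_c25 LD2_c53 LD3_c57)) :=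
  Lgr Lrot3 (Lpr_ft (K49.f550956 IH) (Lpn (LP (LK LD1_c25 LD2_c53 LD3_c57))))
theorem f2826 : Led Lsl_bt (LP (LK LD1_c9 LD2_c38 LD3_c16)) = (LP (LK LD1_c4 LD2_c53 LD3_c9)) :=
  Lre_b IH (LK LD1_c9 LD2_c38 LD3_c16) (LK LD1_c4 LD2_c53 LD3_c9) Lrfl Lrfl
theorem f39010 : Led Lsl_bt (LP (LK LD1_c7 LD2_c55 LD3_c60)) = (LP (LK LD1_c3 LD2_c57 LD3_c9)) :=
  Lre_b IH (LK LD1_c7 LD2_c55 LD3_c60) (LK LD1_c3 LD2_c57 LD3_c9) Lrfl Lrfl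
theorem f199854 : Led Lsl_cf (LP (LK LD1_c14 LD2_c57 LD3_c61)) = (LP (LK LD1_c16 LD2_c4 LD3_c1)) :=
  Lgr Lrot11 (Lpr_ct (K11.f199841 IH) (Lpn (LP (LK LD1_c16 LD2_c4 LD3_c1))))
theorem f199863 : Led Lsl_et (LP (LK LD1_c8 LD2_c33 LD3_c35)) = (LP (LK LD1_c16 LD2_c4 LD3_c1)) :=
  Lre_e IH (LK LD1_c8 LD2_c33 LD3_c35) (LK LD1_c16 LD2_c4 LD3_c1) Lrfl Lrfl
theorem f199864 : Led Lsl_ct (LP (LK LD1_c7 LD2_c55 LD3_c60)) = (LP (LK LD1_c8 LD2_c33 LD3_c35)) :=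
  Lgr Lrot15 (Lpe (K11.f39628 IH) (Lpr_cf (f199854 IH) (Lpe (f199863 IH) (Lpn (LP (LK LD1_c8 LD2_c33 LD3_c35))))))
theorem f199834 : Led Lsl_gt (LP (LK LD1_c16 LD2_c3 LD3_c60)) = (LP (LK LD1_c8 LD2_c33 LD3_c35)) :=
  Lre_g IH (LK LD1_c16 LD2_c3 LD3_c60) (LK LD1_c8 LD2_c33 LD3_c35) Lrfl Lrfl
theorem f237481 : Led Lsl_ct (LP (LK LD1_c9 LD2_c38 LD3_c16)) = (LP (LK LD1_c16 LD2_c3 LD3_c60)) :=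
  Lgr Lrot64 (Lpr_bt (f2826 IH) (Lpe (K38.f2585 IH) (Lpe (K38.f2488 IH) (Lpr_ct (K1.f2491 IH) (Lpe (K12.f2451 IH) (Lpr_cf (K13.f237467 IH) (Lpe (K13.f39038 IH) (Lpe (f39010 IH) (Lpr_ct (f199864 IH) (Lpe (f199834 IH) (Lpn (LP (LK LD1_c16 LD2_c3 LD3_c60)))))))))))))
theorem f39696 : Led Lsl_at (LP (LK LD1_c14 LD2_c57 LD3_c48)) = (LP (LK LD1_c7 LD2_c55 LD3_c60)) :=
  Lre_a IH (LK LD1_c14 LD2_c57 LD3_c48) (LK LD1_c7 LD2_c55 LD3_c60) Lrfl Lrfl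
theorem f199866 : Led Lsl_at (LP (LK LD1_c8 LD2_c33 LD3_c35)) = (LP (LK LD1_c16 LD2_c3 LD3_c61)) :=
  Lre_a IH (LK LD1_c8 LD2_c33 LD3_c35) (LK LD1_c16 LD2_c3 LD3_c61) Lrfl Lrfl
theorem f199867 : Led Lsl_cf (LP (LK LD1_c14 LD2_c57 LD3_c48)) = (LP (LK LD1_c16 LD2_c3 LD3_c61)) :=
  Lgr Lrot1 (Lpr_at (f39696 IH) (Lpr_ct (f199864 IH) (Lpr_at (f199866 IH) (Lpn (LP (LK LD1_c16 LD2_c3 LD3_c61))))))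
theorem f39650 : Led Lsl_ft (LP (LK LD1_c14 LD2_c57 LD3_c48)) = (LP (LK LD1_c7 LD2_c55 LD3_c58)) :=
  Lre_f IH (LK LD1_c14 LD2_c57 LD3_c48) (LK LD1_c7 LD2_c55 LD3_c58) Lrfl Lrfl
theorem f29113 : Led Lsl_et (LP (LK LD1_c7 LD2_c55 LD3_c27)) = (LP (LK LD1_c3 LD2_c57 LD3_c7)) :=
  Lre_e IH (LK LD1_c7 LD2_c55 LD3_c27) (LK LD1_c3 LD2_c57 LD3_c7) Lrfl Lrfl
theorem f43188 : Led Lsl_cf (LP (LK LD1_c5 LD2_c21 LD3_c16)) = (LP (LK LD1_c3 LD2_c57 LD3_c7)) :=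
  Lgr Lrot39 (Lpr_et (K11.f43180 IH) (Lpr_ct (K13.f29090 IH) (Lpr_et (f29113 IH) (Lpn (LP (LK LD1_c3 LD2_c57 LD3_c7))))))
theorem f43167 : Led Lsl_at (LP (LK LD1_c5 LD2_c21 LD3_c16)) = (LP (LK LD1_c10 LD2_c32 LD3_c49)) :=
  Lre_a IH (LK LD1_c5 LD2_c21 LD3_c16) (LK LD1_c10 LD2_c32 LD3_c49) Lrfl Lrfl
theorem f39022 : Led Lsl_at (LP (LK LD1_c7 LD2_c55 LD3_c58)) = (LP (LK LD1_c3 LD2_c57 LD3_c7)) :=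
  Lre_a IH (LK LD1_c7 LD2_c55 LD3_c58) (LK LD1_c3 LD2_c57 LD3_c7) Lrfl Lrfl
theorem f43193 : Led Lsl_ct (LP (LK LD1_c10 LD2_c32 LD3_c49)) = (LP (LK LD1_c7 LD2_c55 LD3_c58)) :=
  Lgr Lrot111 (Lpe (f43167 IH) (Lpr_cf (f43188 IH) (Lpe (f39022 IH) (Lpn (LP (LK LD1_c7 LD2_c55 LD3_c58))))))
theorem f43203 : Led Lsl_cf (LP (LK LD1_c10 LD2_c32 LD3_c49)) = (LP (LK LD1_c7 LD2_c55 LD3_c58)) :=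
  Lgr Lrot11 (Lpr_ct (f43193 IH) (Lpn (LP (LK LD1_c7 LD2_c55 LD3_c58))))
theorem f199876 : Led Lsl_ft (LP (LK LD1_c10 LD2_c32 LD3_c49)) = (LP (LK LD1_c16 LD2_c3 LD3_c61)) :=
  Lgr Lrot4 (Lpr_cf (f43203 IH) (Lpe (f39650 IH) (Lpr_cf (f199867 IH) (Lpn (LP (LK LD1_c16 LD2_c3 LD3_c61))))))
theorem f199870 : Led Lsl_at (LP (LK LD1_c16 LD2_c3 LD3_c61)) = (LP (LK LD1_c8 LD2_c33 LD3_c35)) :=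
  Lre_a IH (LK LD1_c16 LD2_c3 LD3_c61) (LK LD1_c8 LD2_c33 LD3_c35) Lrfl Lrfl
theorem f199884 : Led Lsl_gt (LP (LK LD1_c10 LD2_c32 LD3_c49)) = (LP (LK LD1_c16 LD2_c3 LD3_c60)) :=
  Lgr Lrot5 (Lpr_ft (f199876 IH) (Lpr_at (f199870 IH) (Lpe (f199834 IH) (Lpn (LP (LK LD1_c16 LD2_c3 LD3_c60))))))
theorem f39442 : Led Lsl_at (LP (LK LD1_c14 LD2_c59 LD3_c10)) = (LP (LK LD1_c7 LD2_c56 LD3_c34)) :=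
  Lre_a IH (LK LD1_c14 LD2_c59 LD3_c10) (LK LD1_c7 LD2_c56 LD3_c34) Lrfl Lrfl
theorem f39501 : Led Lsl_at (LP (LK LD1_c4 LD2_c22 LD3_c10)) = (LP (LK LD1_c8 LD2_c42 LD3_c0)) :=
  Lre_a IH (LK LD1_c4 LD2_c22 LD3_c10) (LK LD1_c8 LD2_c42 LD3_c0) Lrfl Lrfl
theorem f39502 : Led Lsl_df (LP (LK LD1_c14 LD2_c59 LD3_c10)) = (LP (LK LD1_c8 LD2_c42 LD3_c0)) :=
  Lgr Lrot18 (Lpr_at (f39442 IH) (Lpr_dt (K9.f39484 IH) (Lpr_at (f39501 IH) (Lpn (LP (LK LD1_c8 LD2_c42 LD3_c0))))))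
theorem f39698 : Led Lsl_dt (LP (LK LD1_c14 LD2_c59 LD3_c10)) = (LP (LK LD1_c8 LD2_c42 LD3_c0)) :=
  Lgr Lrot42 (Lpr_df (f39502 IH) (Lpn (LP (LK LD1_c8 LD2_c42 LD3_c0))))
theorem f39609 : Led Lsl_ef (LP (LK LD1_c14 LD2_c58 LD3_c3)) = (LP (LK LD1_c8 LD2_c45 LD3_c9)) :=
  Lgr Lrot28 (Lpr_ct (K9.f39593 IH) (Lpr_et (K9.f39607 IH) (Lpr_ct (K1.f16245 IH) (Lpn (LP (LK LD1_c8 LD2_c45 LD3_c9))))))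
theorem f39592 : Led Lsl_bt (LP (LK LD1_c14 LD2_c58 LD3_c3)) = (LP (LK LD1_c24 LD2_c45 LD3_c34)) :=
  Lre_b IH (LK LD1_c14 LD2_c58 LD3_c3) (LK LD1_c24 LD2_c45 LD3_c34) Lrfl Lrfl
theorem f39611 : Led Lsl_bt (LP (LK LD1_c16 LD2_c22 LD3_c56)) = (LP (LK LD1_c8 LD2_c45 LD3_c9)) :=
  Lre_b IH (LK LD1_c16 LD2_c22 LD3_c56) (LK LD1_c8 LD2_c45 LD3_c9) Lrfl Lrfl
theorem f39612 : Led Lsl_et (LP (LK LD1_c24 LD2_c45 LD3_c34)) = (LP (LK LD1_c16 LD2_c22 LD3_c56)) :=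
  Lgr Lrot74 (Lpe (f39592 IH) (Lpr_ef (f39609 IH) (Lpe (f39611 IH) (Lpn (LP (LK LD1_c16 LD2_c22 LD3_c56))))))
theorem f39615 : Led Lsl_dt (LP (LK LD1_c14 LD2_c57 LD3_c61)) = (LP (LK LD1_c24 LD2_c45 LD3_c34)) :=
  Lre_d IH (LK LD1_c14 LD2_c57 LD3_c61) (LK LD1_c24 LD2_c45 LD3_c34) Lrfl Lrfl
theorem f39616 : Led Lsl_et (LP (LK LD1_c7 LD2_c55 LD3_c60)) = (LP (LK LD1_c14 LD2_c57 LD3_c61)) :=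
  Lre_e IH (LK LD1_c7 LD2_c55 LD3_c60) (LK LD1_c14 LD2_c57 LD3_c61) Lrfl Lrfl
theorem f39617 : Led Lsl_dt (LP (LK LD1_c16 LD2_c22 LD3_c56)) = (LP (LK LD1_c8 LD2_c45 LD3_c6)) :=
  Lre_d IH (LK LD1_c16 LD2_c22 LD3_c56) (LK LD1_c8 LD2_c45 LD3_c6) Lrfl Lrfl
theorem f39618 : Led Lsl_et (LP (LK LD1_c8 LD2_c45 LD3_c6)) = (LP (LK LD1_c4 LD2_c23 LD3_c38)) :=
  Lre_e IH (LK LD1_c8 LD2_c45 LD3_c6) (LK LD1_c4 LD2_c23 LD3_c38) Lrfl Lrfl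
theorem f39619 : Led Lsl_df (LP (LK LD1_c7 LD2_c55 LD3_c60)) = (LP (LK LD1_c4 LD2_c23 LD3_c38)) :=
  Lgr Lrot70 (Lpr_et (f39616 IH) (Lpr_dt (f39615 IH) (Lpr_et (f39612 IH) (Lpr_dt (f39617 IH) (Lpr_et (f39618 IH) (Lpn (LP (LK LD1_c4 LD2_c23 LD3_c38))))))))
theorem f38982 : Led Lsl_at (LP (LK LD1_c7 LD2_c55 LD3_c60)) = (LP (LK LD1_c14 LD2_c57 LD3_c48)) :=
  Lre_a IH (LK LD1_c7 LD2_c55 LD3_c60) (LK LD1_c14 LD2_c57 LD3_c48) Lrfl Lrfl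
theorem f39631 : Led Lsl_at (LP (LK LD1_c8 LD2_c45 LD3_c5)) = (LP (LK LD1_c4 LD2_c23 LD3_c38)) :=
  Lre_a IH (LK LD1_c8 LD2_c45 LD3_c5) (LK LD1_c4 LD2_c23 LD3_c38) Lrfl Lrfl
theorem f39632 : Led Lsl_dt (LP (LK LD1_c14 LD2_c57 LD3_c48)) = (LP (LK LD1_c8 LD2_c45 LD3_c5)) :=
  Lgr Lrot44 (Lpe (f38982 IH) (Lpr_df (f39619 IH) (Lpe (f39631 IH) (Lpn (LP (LK LD1_c8 LD2_c45 LD3_c5))))))
theorem f39646 : Led Lsl_ft (LP (LK LD1_c7 LD2_c55 LD3_c58)) = (LP (LK LD1_c14 LD2_c57 LD3_c48)) :=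
  Lre_f IH (LK LD1_c7 LD2_c55 LD3_c58) (LK LD1_c14 LD2_c57 LD3_c48) Lrfl Lrfl
theorem f39647 : Led Lsl_dt (LP (LK LD1_c14 LD2_c57 LD3_c57)) = (LP (LK LD1_c7 LD2_c55 LD3_c58)) :=
  Lre_d IH (LK LD1_c14 LD2_c57 LD3_c57) (LK LD1_c7 LD2_c55 LD3_c58) Lrfl Lrfl
theorem f39648 : Led Lsl_ff (LP (LK LD1_c14 LD2_c57 LD3_c57)) = (LP (LK LD1_c8 LD2_c45 LD3_c5)) :=
  Lgr Lrot19 (Lpr_dt (f39647 IH) (Lpr_ft (f39646 IH) (Lpr_dt (f39632 IH) (Lpn (LP (LK LD1_c8 LD2_c45 LD3_c5))))))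
theorem f39664 : Led Lsl_ft (LP (LK LD1_c14 LD2_c57 LD3_c57)) = (LP (LK LD1_c8 LD2_c45 LD3_c5)) :=
  Lgr Lrot48 (Lpr_ff (f39648 IH) (Lpn (LP (LK LD1_c8 LD2_c45 LD3_c5))))
theorem f39250 : Led Lsl_bt (LP (LK LD1_c7 LD2_c55 LD3_c59)) = (LP (LK LD1_c3 LD2_c57 LD3_c8)) :=
  Lre_b IH (LK LD1_c7 LD2_c55 LD3_c59) (LK LD1_c3 LD2_c57 LD3_c8) Lrfl Lrfl
theorem f39289 : Led Lsl_at (LP (LK LD1_c14 LD2_c57 LD3_c57)) = (LP (LK LD1_c7 LD2_c55 LD3_c59)) :=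
  Lre_a IH (LK LD1_c14 LD2_c57 LD3_c57) (LK LD1_c7 LD2_c55 LD3_c59) Lrfl Lrfl
theorem f38975 : Led Lsl_bt (LP (LK LD1_c2 LD2_c8 LD3_c32)) = (LP (LK LD1_c4 LD2_c22 LD3_c9)) :=
  Lre_b IH (LK LD1_c2 LD2_c8 LD3_c32) (LK LD1_c4 LD2_c22 LD3_c9) Lrfl Lrfl
theorem f39290 : Led Lsl_at (LP (LK LD1_c4 LD2_c22 LD3_c9)) = (LP (LK LD1_c8 LD2_c42 LD3_c11)) :=
  Lre_a IH (LK LD1_c4 LD2_c22 LD3_c9) (LK LD1_c8 LD2_c42 LD3_c11) Lrfl Lrfl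
theorem f39291 : Led Lsl_bf (LP (LK LD1_c14 LD2_c57 LD3_c57)) = (LP (LK LD1_c8 LD2_c42 LD3_c11)) :=
  Lgr Lrot81 (Lpr_at (f39289 IH) (Lpr_bt (f39250 IH) (Lpr_at (K1.f39287 IH) (Lpr_bt (f38975 IH) (Lpr_at (f39290 IH) (Lpn (LP (LK LD1_c8 LD2_c42 LD3_c11))))))))
theorem f39474 : Led Lsl_at (LP (LK LD1_c7 LD2_c56 LD3_c34)) = (LP (LK LD1_c14 LD2_c59 LD3_c10)) :=
  Lre_a IH (LK LD1_c7 LD2_c56 LD3_c34) (LK LD1_c14 LD2_c59 LD3_c10) Lrfl Lrfl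
theorem f39475 : Led Lsl_at (LP (LK LD1_c8 LD2_c42 LD3_c11)) = (LP (LK LD1_c4 LD2_c22 LD3_c9)) :=
  Lre_a IH (LK LD1_c8 LD2_c42 LD3_c11) (LK LD1_c4 LD2_c22 LD3_c9) Lrfl Lrfl
theorem f39476 : Led Lsl_ft (LP (LK LD1_c14 LD2_c59 LD3_c10)) = (LP (LK LD1_c8 LD2_c42 LD3_c11)) :=
  Lgr Lrot101 (Lpe (f39474 IH) (Lpr_ff (K9.f39457 IH) (Lpe (f39475 IH) (Lpn (LP (LK LD1_c8 LD2_c42 LD3_c11))))))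
theorem f39671 : Led Lsl_bf (LP (LK LD1_c14 LD2_c59 LD3_c10)) = (LP (LK LD1_c8 LD2_c45 LD3_c5)) :=
  Lgr Lrot61 (Lpr_ft (f39476 IH) (Lpe (f39291 IH) (Lpr_ft (f39664 IH) (Lpn (LP (LK LD1_c8 LD2_c45 LD3_c5))))))
theorem f39722 : Led Lsl_bf (LP (LK LD1_c14 LD2_c57 LD3_c48)) = (LP (LK LD1_c8 LD2_c42 LD3_c0)) :=
  Lgr Lrot93 (Lpr_dt (f39632 IH) (Lpe (f39671 IH) (Lpr_dt (f39698 IH) (Lpn (LP (LK LD1_c8 LD2_c42 LD3_c0))))))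
theorem f39739 : Led Lsl_bt (LP (LK LD1_c7 LD2_c55 LD3_c58)) = (LP (LK LD1_c4 LD2_c22 LD3_c8)) :=
  Lgr Lrot35 (Lpe (f39650 IH) (Lpr_bf (f39722 IH) (Lpe (K38.f39702 IH) (Lpn (LP (LK LD1_c4 LD2_c22 LD3_c8))))))
theorem f397767 : Led Lsl_gt (LP (LK LD1_c8 LD2_c42 LD3_c6)) = (LP (LK LD1_c4 LD2_c22 LD3_c8)) :=
  Lgr Lrot164 (Lpr_bf (K30.f397756 IH) (Lpr_ct (K30.f2845 IH) (Lpe (K38.f2833 IH) (Lpe (K38.f2283 IH) (Lpr_gf (K38.f2822 IH) (Lpe (f2826 IH) (Lpr_ct (f237481 IH) (Lpe (f199884 IH) (Lpr_cf (f43203 IH) (Lpr_bt (f39739 IH) (Lpn (LP (LK LD1_c4 LD2_c22 LD3_c8)))))))))))))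
theorem f29880 : Led Lsl_bt (LP (LK LD1_c15 LD2_c6 LD3_c48)) = (LP (LK LD1_c8 LD2_c1 LD3_c34)) :=
  Lre_b IH (LK LD1_c15 LD2_c6 LD3_c48) (LK LD1_c8 LD2_c1 LD3_c34) Lrfl Lrfl
theorem f398106 : Led Lsl_cf (LP (LK LD1_c16 LD2_c13 LD3_c58)) = (LP (LK LD1_c15 LD2_c6 LD3_c48)) :=
  Lgr Lrot163 (Lpr_gf (K38.f398103 IH) (Lpe (K38.f39467 IH) (Lpe (f397767 IH) (Lpr_bf (K30.f397756 IH) (Lpr_ct (K30.f2845 IH) (Lpe (K38.f2833 IH) (Lpe (K38.f2283 IH) (Lpe (K38.f29874 IH) (Lpe (K49.f29872 IH) (Lpe (f29880 IH) (Lpn (LP (LK LD1_c15 LD2_c6 LD3_c48)))))))))))))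
theorem f398114 : Led Lsl_ct (LP (LK LD1_c16 LD2_c13 LD3_c58)) = (LP (LK LD1_c15 LD2_c6 LD3_c48)) :=
  Lgr Lrot59 (Lpr_cf (f398106 IH) (Lpn (LP (LK LD1_c15 LD2_c6 LD3_c48))))
theorem f29852 : Led Lsl_ct (LP (LK LD1_c8 LD2_c1 LD3_c34)) = (LP (LK LD1_c15 LD2_c6 LD3_c49)) :=
  Lre_c IH (LK LD1_c8 LD2_c1 LD3_c34) (LK LD1_c15 LD2_c6 LD3_c49) Lrfl Lrfl
theorem f29854 : Led Lsl_bt (LP (LK LD1_c15 LD2_c6 LD3_c49)) = (LP (LK LD1_c24 LD2_c54 LD3_c52)) :=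
  Lre_b IH (LK LD1_c15 LD2_c6 LD3_c49) (LK LD1_c24 LD2_c54 LD3_c52) Lrfl Lrfl
theorem f398122 : Led Lsl_cf (LP (LK LD1_c26 LD2_c10 LD3_c45)) = (LP (LK LD1_c24 LD2_c54 LD3_c52)) :=
  Lgr Lrot97 (Lpr_bt (K41.f398105 IH) (Lpr_ct (f398114 IH) (Lpr_bt (f29880 IH) (Lpr_ct (f29852 IH) (Lpr_bt (f29854 IH) (Lpn (LP (LK LD1_c24 LD2_c54 LD3_c52))))))))
theorem f398132 : Led Lsl_ft (LP (LK LD1_c26 LD2_c10 LD3_c57)) = (LP (LK LD1_c24 LD2_c54 LD3_c52)) :=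
  Lgr Lrot4 (Lpe (K41.f279216 IH) (Lpe (K41.f398131 IH) (Lpr_cf (f398122 IH) (Lpn (LP (LK LD1_c24 LD2_c54 LD3_c52))))))
theorem f398039 : Led Lsl_bt (LP (LK LD1_c24 LD2_c54 LD3_c52)) = (LP (LK LD1_c15 LD2_c6 LD3_c49)) :=
  Lre_b IH (LK LD1_c24 LD2_c54 LD3_c52) (LK LD1_c15 LD2_c6 LD3_c49) Lrfl Lrfl
theorem f398139 : Led Lsl_bf (LP (LK LD1_c26 LD2_c10 LD3_c57)) = (LP (LK LD1_c24 LD2_c54 LD3_c53)) :=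
  Lgr Lrot61 (Lpr_ft (f398132 IH) (Lpr_bt (f398039 IH) (Lpr_ft (K49.f398022 IH) (Lpn (LP (LK LD1_c24 LD2_c54 LD3_c53))))))
theorem f237774 : Led Lsl_bt (LP (LK LD1_c1 LD2_c0 LD3_c13)) = (LP (LK LD1_c2 LD2_c6 LD3_c28)) :=
  Lre_b IH (LK LD1_c1 LD2_c0 LD3_c13) (LK LD1_c2 LD2_c6 LD3_c28) Lrfl Lrfl
theorem f237775 : Led Lsl_bf (LP (LK LD1_c2 LD2_c23 LD3_c56)) = (LP (LK LD1_c4 LD2_c18 LD3_c22)) :=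
  Lgr Lrot90 (Lpr_ct (K16.f1707 IH) (Lpr_bt (K16.f1706 IH) (Lpr_ct (K13.f237772 IH) (Lpr_bt (f237774 IH) (Lpr_ct (K41.f53369 IH) (Lpn (LP (LK LD1_c4 LD2_c18 LD3_c22))))))))
theorem f52232 : Led Lsl_ct (LP (LK LD1_c4 LD2_c18 LD3_c22)) = (LP (LK LD1_c2 LD2_c6 LD3_c28)) :=
  Lre_c IH (LK LD1_c4 LD2_c18 LD3_c22) (LK LD1_c2 LD2_c6 LD3_c28) Lrfl Lrfl
theorem f279200 : Led Lsl_gt (LP (LK LD1_c4 LD2_c18 LD3_c20)) = (LP (LK LD1_c2 LD2_c6 LD3_c28)) :=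
  Lre_g IH (LK LD1_c4 LD2_c18 LD3_c20) (LK LD1_c2 LD2_c6 LD3_c28) Lrfl Lrfl
theorem f279201 : Led Lsl_ct (LP (LK LD1_c8 LD2_c35 LD3_c26)) = (LP (LK LD1_c4 LD2_c18 LD3_c20)) :=
  Lre_c IH (LK LD1_c8 LD2_c35 LD3_c26) (LK LD1_c4 LD2_c18 LD3_c20) Lrfl Lrfl
theorem f279202 : Led Lsl_bt (LP (LK LD1_c8 LD2_c35 LD3_c26)) = (LP (LK LD1_c16 LD2_c6 LD3_c50)) :=
  Lre_b IH (LK LD1_c8 LD2_c35 LD3_c26) (LK LD1_c16 LD2_c6 LD3_c50) Lrfl Lrfl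
theorem f279203 : Led Lsl_gf (LP (LK LD1_c16 LD2_c6 LD3_c50)) = (LP (LK LD1_c8 LD2_c39 LD3_c59)) :=
  Lgr Lrot124 (Lpe (f279202 IH) (Lpr_ct (f279201 IH) (Lpr_gt (f279200 IH) (Lpe (f52232 IH) (Lpe (f237775 IH) (Lpr_gt (K16.f279180 IH) (Lpr_ct (K16.f219592 IH) (Lpr_gt (K12.f47815 IH) (Lpe (K31.f219463 IH) (Lpr_bt (K31.f219521 IH) (Lpn (LP (LK LD1_c8 LD2_c39 LD3_c59)))))))))))))
theorem f1933 : Led Lsl_bt (LP (LK LD1_c4 LD2_c51 LD3_c49)) = (LP (LK LD1_c2 LD2_c23 LD3_c43)) :=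
  Lre_b IH (LK LD1_c4 LD2_c51 LD3_c49) (LK LD1_c2 LD2_c23 LD3_c43) Lrfl Lrfl
theorem f30612 : Led Lsl_gt (LP (LK LD1_c9 LD2_c37 LD3_c12)) = (LP (LK LD1_c4 LD2_c52 LD3_c36)) :=
  Lre_g IH (LK LD1_c9 LD2_c37 LD3_c12) (LK LD1_c4 LD2_c52 LD3_c36) Lrfl Lrfl
theorem f219505 : Led Lsl_bt (LP (LK LD1_c17 LD2_c42 LD3_c43)) = (LP (LK LD1_c9 LD2_c37 LD3_c12)) :=
  Lre_b IH (LK LD1_c17 LD2_c42 LD3_c43) (LK LD1_c9 LD2_c37 LD3_c12) Lrfl Lrfl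
theorem f279217 : Led Lsl_cf (LP (LK LD1_c16 LD2_c6 LD3_c50)) = (LP (LK LD1_c17 LD2_c42 LD3_c43)) :=
  Lgr Lrot58 (Lpr_gf (f279203 IH) (Lpr_cf (K31.f219474 IH) (Lpr_bt (f1933 IH) (Lpe (K12.f2793 IH) (Lpe (K13.f2487 IH) (Lpr_ct (K13.f2356 IH) (Lpe (K13.f2749 IH) (Lpe (K13.f30605 IH) (Lpe (f30612 IH) (Lpe (f219505 IH) (Lpn (LP (LK LD1_c17 LD2_c42 LD3_c43)))))))))))))
theorem f279226 : Led Lsl_ct (LP (LK LD1_c16 LD2_c6 LD3_c50)) = (LP (LK LD1_c17 LD2_c42 LD3_c43)) :=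
  Lgr Lrot59 (Lpr_cf (f279217 IH) (Lpn (LP (LK LD1_c17 LD2_c42 LD3_c43))))
theorem f219594 : Led Lsl_bt (LP (LK LD1_c2 LD2_c8 LD3_c8)) = (LP (LK LD1_c4 LD2_c21 LD3_c14)) :=
  Lre_b IH (LK LD1_c2 LD2_c8 LD3_c8) (LK LD1_c4 LD2_c21 LD3_c14) Lrfl Lrfl
theorem f279215 : Led Lsl_bt (LP (LK LD1_c16 LD2_c14 LD3_c2)) = (LP (LK LD1_c8 LD2_c40 LD3_c6)) :=
  Lre_b IH (LK LD1_c16 LD2_c14 LD3_c2) (LK LD1_c8 LD2_c40 LD3_c6) Lrfl Lrfl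
theorem f279233 : Led Lsl_gf (LP (LK LD1_c26 LD2_c10 LD3_c57)) = (LP (LK LD1_c17 LD2_c42 LD3_c43)) :=
  Lgr Lrot129 (Lpe (K41.f279216 IH) (Lpr_bt (f279215 IH) (Lpr_gt (K38.f279214 IH) (Lpe (f219594 IH) (Lpr_ct (K16.f219592 IH) (Lpr_gt (K12.f47815 IH) (Lpe (K31.f219463 IH) (Lpr_bt (K31.f219521 IH) (Lpe (f279203 IH) (Lpr_ct (f279226 IH) (Lpn (LP (LK LD1_c17 LD2_c42 LD3_c43)))))))))))))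
theorem f279223 : Led Lsl_bt (LP (LK LD1_c9 LD2_c37 LD3_c12)) = (LP (LK LD1_c17 LD2_c42 LD3_c43)) :=
  Lre_b IH (LK LD1_c9 LD2_c37 LD3_c12) (LK LD1_c17 LD2_c42 LD3_c43) Lrfl Lrfl
theorem f279229 : Led Lsl_ct (LP (LK LD1_c4 LD2_c18 LD3_c20)) = (LP (LK LD1_c8 LD2_c35 LD3_c26)) :=
  Lre_c IH (LK LD1_c4 LD2_c18 LD3_c20) (LK LD1_c8 LD2_c35 LD3_c26) Lrfl Lrfl
theorem f279230 : Led Lsl_bt (LP (LK LD1_c8 LD2_c35 LD3_c25)) = (LP (LK LD1_c4 LD2_c18 LD3_c20)) :=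
  Lre_b IH (LK LD1_c8 LD2_c35 LD3_c25) (LK LD1_c4 LD2_c18 LD3_c20) Lrfl Lrfl
theorem f279231 : Led Lsl_cf (LP (LK LD1_c8 LD2_c35 LD3_c25)) = (LP (LK LD1_c9 LD2_c37 LD3_c12)) :=
  Lgr Lrot97 (Lpr_bt (f279230 IH) (Lpr_ct (f279229 IH) (Lpr_bt (f279202 IH) (Lpr_ct (f279226 IH) (Lpr_bt (f219505 IH) (Lpn (LP (LK LD1_c9 LD2_c37 LD3_c12))))))))
theorem f29817 : Led Lsl_cf (LP (LK LD1_c8 LD2_c1 LD3_c36)) = (LP (LK LD1_c9 LD2_c34 LD3_c0)) :=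
  Lgr Lrot1 (Lpr_at (K38.f29660 IH) (Lpr_ct (K13.f29815 IH) (Lpr_at (K49.f1958 IH) (Lpn (LP (LK LD1_c9 LD2_c34 LD3_c0))))))
theorem f2253 : Led Lsl_bt (LP (LK LD1_c9 LD2_c34 LD3_c0)) = (LP (LK LD1_c4 LD2_c51 LD3_c57)) :=
  Lre_b IH (LK LD1_c9 LD2_c34 LD3_c0) (LK LD1_c4 LD2_c51 LD3_c57) Lrfl Lrfl
theorem f2820 : Led Lsl_at (LP (LK LD1_c9 LD2_c36 LD3_c1)) = (LP (LK LD1_c4 LD2_c51 LD3_c59)) :=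
  Lre_a IH (LK LD1_c9 LD2_c36 LD3_c1) (LK LD1_c4 LD2_c51 LD3_c59) Lrfl Lrfl
theorem f2709 : Led Lsl_ft (LP (LK LD1_c4 LD2_c51 LD3_c57)) = (LP (LK LD1_c9 LD2_c36 LD3_c1)) :=
  Lre_f IH (LK LD1_c4 LD2_c51 LD3_c57) (LK LD1_c9 LD2_c36 LD3_c1) Lrfl Lrfl
theorem f170120 : Led Lsl_gf (LP (LK LD1_c8 LD2_c35 LD3_c34)) = (LP (LK LD1_c4 LD2_c51 LD3_c57)) :=
  Lgr Lrot47 (Lpr_gt (K30.f170114 IH) (Lpe (f2820 IH) (Lpe (f2709 IH) (Lpn (LP (LK LD1_c4 LD2_c51 LD3_c57))))))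
theorem f52132 : Led Lsl_ct (LP (LK LD1_c8 LD2_c35 LD3_c34)) = (LP (LK LD1_c4 LD2_c18 LD3_c23)) :=
  Lre_c IH (LK LD1_c8 LD2_c35 LD3_c34) (LK LD1_c4 LD2_c18 LD3_c23) Lrfl Lrfl
theorem f398146 : Led Lsl_gf (LP (LK LD1_c8 LD2_c35 LD3_c25)) = (LP (LK LD1_c4 LD2_c18 LD3_c23)) :=
  Lgr Lrot129 (Lpr_cf (f279231 IH) (Lpr_bt (f279223 IH) (Lpe (f279233 IH) (Lpr_bf (f398139 IH) (Lpr_ct (K41.f397968 IH) (Lpe (K38.f397997 IH) (Lpr_cf (f29817 IH) (Lpr_bt (f2253 IH) (Lpe (f170120 IH) (Lpr_ct (f52132 IH) (Lpn (LP (LK LD1_c4 LD2_c18 LD3_c23)))))))))))))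
theorem f279236 : Led Lsl_gt (LP (LK LD1_c16 LD2_c14 LD3_c2)) = (LP (LK LD1_c26 LD2_c10 LD3_c55)) :=
  Lre_g IH (LK LD1_c16 LD2_c14 LD3_c2) (LK LD1_c26 LD2_c10 LD3_c55) Lrfl Lrfl
theorem f372676 : Led Lsl_at (LP (LK LD1_c15 LD2_c38 LD3_c32)) = (LP (LK LD1_c8 LD2_c18 LD3_c59)) :=
  Lre_a IH (LK LD1_c15 LD2_c38 LD3_c32) (LK LD1_c8 LD2_c18 LD3_c59) Lrfl Lrfl
theorem f372681 : Led Lsl_gt (LP (LK LD1_c25 LD2_c16 LD3_c34)) = (LP (LK LD1_c15 LD2_c38 LD3_c31)) :=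
  Lgr Lrot5 (Lpr_ft (K38.f372672 IH) (Lpr_at (f372676 IH) (Lpe (K41.f222801 IH) (Lpn (LP (LK LD1_c15 LD2_c38 LD3_c31))))))
theorem f279948 : Led Lsl_ct (LP (LK LD1_c8 LD2_c40 LD3_c6)) = (LP (LK LD1_c16 LD2_c14 LD3_c3)) :=
  Lre_c IH (LK LD1_c8 LD2_c40 LD3_c6) (LK LD1_c16 LD2_c14 LD3_c3) Lrfl Lrfl
theorem f372721 : Led Lsl_ct (LP (LK LD1_c26 LD2_c10 LD3_c55)) = (LP (LK LD1_c16 LD2_c14 LD3_c26)) :=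
  Lgr Lrot91 (Lpe (f279236 IH) (Lpe (K41.f279949 IH) (Lpr_ct (f279948 IH) (Lpe (K38.f279932 IH) (Lpr_cf (K41.f279942 IH) (Lpr_bt (K41.f279950 IH) (Lpe (f372681 IH) (Lpr_bf (K31.f372717 IH) (Lpr_ct (K31.f219490 IH) (Lpe (K30.f372539 IH) (Lpn (LP (LK LD1_c16 LD2_c14 LD3_c26)))))))))))))
theorem f372723 : Led Lsl_cf (LP (LK LD1_c26 LD2_c10 LD3_c55)) = (LP (LK LD1_c16 LD2_c14 LD3_c26)) :=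
  Lgr Lrot11 (Lpr_ct (f372721 IH) (Lpn (LP (LK LD1_c16 LD2_c14 LD3_c26))))
theorem f398149 : Led Lsl_bt (LP (LK LD1_c8 LD2_c35 LD3_c34)) = (LP (LK LD1_c16 LD2_c6 LD3_c54)) :=
  Lre_b IH (LK LD1_c8 LD2_c35 LD3_c34) (LK LD1_c16 LD2_c6 LD3_c54) Lrfl Lrfl
theorem f398150 : Led Lsl_gt (LP (LK LD1_c25 LD2_c53 LD3_c57)) = (LP (LK LD1_c16 LD2_c6 LD3_c54)) :=
  Lgr Lrot164 (Lpe (K49.f233698 IH) (Lpe (f372723 IH) (Lpe (f279236 IH) (Lpe (K41.f279235 IH) (Lpr_gf (f279233 IH) (Lpe (f279223 IH) (Lpe (f279231 IH) (Lpr_gf (f398146 IH) (Lpe (f52132 IH) (Lpr_bt (f398149 IH) (Lpn (LP (LK LD1_c16 LD2_c6 LD3_c54)))))))))))))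
theorem f551214 : Led Lsl_gt (LP (LK LD1_c16 LD2_c6 LD3_c54)) = (LP (LK LD1_c25 LD2_c53 LD3_c54)) :=
  Lgr Lrot46 (Lpe (f398150 IH) (Lpe (f551071 IH) (Lpr_at (f551126 IH) (Lpn (LP (LK LD1_c25 LD2_c53 LD3_c54))))))
theorem f170136 : Led Lsl_dt (LP (LK LD1_c16 LD2_c6 LD3_c54)) = (LP (LK LD1_c26 LD2_c3 LD3_c41)) :=
  Lre_d IH (LK LD1_c16 LD2_c6 LD3_c54) (LK LD1_c26 LD2_c3 LD3_c41) Lrfl Lrfl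
theorem f398152 : Led Lsl_gt (LP (LK LD1_c26 LD2_c3 LD3_c41)) = (LP (LK LD1_c32 LD2_c3 LD3_c44)) :=
  Lre_g IH (LK LD1_c26 LD2_c3 LD3_c41) (LK LD1_c32 LD2_c3 LD3_c44) Lrfl Lrfl
theorem f551216 : Led Lsl_ct (LP (LK LD1_c32 LD2_c3 LD3_c44)) = (LP (LK LD1_c27 LD2_c27 LD3_c3)) :=
  Lgr Lrot152 (Lpe (f398152 IH) (Lpe (f170136 IH) (Lpr_gt (f551214 IH) (Lpr_ct (f171114 IH) (Lpr_gt (K49.f377800 IH) (Lpr_ct (K30.f369323 IH) (Lpe (K27.f369322 IH) (Lpr_cf (f401068 IH) (Lpe (f401070 IH) (Lpn (LP (LK LD1_c27 LD2_c27 LD3_c3))))))))))))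
theorem f551237 : Led Lsl_cf (LP (LK LD1_c32 LD2_c3 LD3_c44)) = (LP (LK LD1_c27 LD2_c27 LD3_c3)) :=
  Lgr Lrot11 (Lpr_ct (f551216 IH) (Lpn (LP (LK LD1_c27 LD2_c27 LD3_c3))))
theorem f620704 : Led Lsl_af (LP (LK LD1_c27 LD2_c27 LD3_c42)) = (LP (LK LD1_c32 LD2_c3 LD3_c44)) :=
  Lgr Lrot68 (Lpr_ct (f620461 IH) (Lpr_at (f620701 IH) (Lpe (f551237 IH) (Lpn (LP (LK LD1_c32 LD2_c3 LD3_c44))))))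
theorem f620706 : Led Lsl_at (LP (LK LD1_c27 LD2_c27 LD3_c42)) = (LP (LK LD1_c32 LD2_c3 LD3_c44)) :=
  Lgr Lrot100 (Lpr_af (f620704 IH) (Lpn (LP (LK LD1_c32 LD2_c3 LD3_c44))))
theorem f620663 : Led Lsl_af (LP (LK LD1_c17 LD2_c42 LD3_c48)) = (LP (LK LD1_c27 LD2_c27 LD3_c3)) :=
  Lgr Lrot117 (Lpr_dt (K49.f232699 IH) (Lpr_at (f620539 IH) (Lpr_dt (f620661 IH) (Lpn (LP (LK LD1_c27 LD2_c27 LD3_c3))))))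
theorem f620709 : Led Lsl_cf (LP (LK LD1_c27 LD2_c27 LD3_c42)) = (LP (LK LD1_c17 LD2_c42 LD3_c48)) :=
  Lgr Lrot1 (Lpr_at (f620706 IH) (Lpr_ct (f551216 IH) (Lpe (f620663 IH) (Lpn (LP (LK LD1_c17 LD2_c42 LD3_c48))))))
theorem f396986 : Led Lsl_at (LP (LK LD1_c17 LD2_c39 LD3_c10)) = (LP (LK LD1_c25 LD2_c29 LD3_c42)) :=
  Lgr Lrot33 (Lpe (K38.f372993 IH) (Lpr_dt (K38.f263840 IH) (Lpr_ct (K27.f220080 IH) (Lpr_dt (K31.f263823 IH) (Lpr_ct (K31.f263847 IH) (Lpr_dt (K38.f373022 IH) (Lpr_ct (K27.f171100 IH) (Lpr_dt (K27.f171121 IH) (Lpr_ct (K38.f396965 IH) (Lpn (LP (LK LD1_c25 LD2_c29 LD3_c42))))))))))))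
theorem f401066 : Led Lsl_af (LP (LK LD1_c25 LD2_c29 LD3_c52)) = (LP (LK LD1_c31 LD2_c54 LD3_c8)) :=
  Lgr Lrot45 (Lpr_ft (K38.f372993 IH) (Lpr_at (f396986 IH) (Lpr_ft (f401064 IH) (Lpn (LP (LK LD1_c31 LD2_c54 LD3_c8))))))
theorem f620457 : Led Lsl_gt (LP (LK LD1_c25 LD2_c29 LD3_c42)) = (LP (LK LD1_c17 LD2_c42 LD3_c48)) :=
  Lgr Lrot5 (Lpr_ft (f401064 IH) (Lpe (f401066 IH) (Lpr_gf (K49.f620453 IH) (Lpn (LP (LK LD1_c17 LD2_c42 LD3_c48))))))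
theorem f233975 : Led Lsl_bt (LP (LK LD1_c9 LD2_c35 LD3_c11)) = (LP (LK LD1_c4 LD2_c51 LD3_c34)) :=
  Lre_b IH (LK LD1_c9 LD2_c35 LD3_c11) (LK LD1_c4 LD2_c51 LD3_c34) Lrfl Lrfl
theorem f369513 : Led Lsl_ft (LP (LK LD1_c16 LD2_c1 LD3_c24)) = (LP (LK LD1_c9 LD2_c35 LD3_c11)) :=
  Lgr Lrot75 (Lpr_bf (K27.f170472 IH) (Lpr_ff (K27.f369504 IH) (Lpe (f233975 IH) (Lpn (LP (LK LD1_c9 LD2_c35 LD3_c11))))))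
theorem f620451 : Led Lsl_gf (LP (LK LD1_c17 LD2_c39 LD3_c6)) = (LP (LK LD1_c17 LD2_c37 LD3_c48)) :=
  Lgr Lrot76 (Lpe (f372911 IH) (Lpe (f369513 IH) (Lpr_gt (K49.f620449 IH) (Lpn (LP (LK LD1_c17 LD2_c37 LD3_c48))))))
theorem f400504 : Led Lsl_dt (LP (LK LD1_c15 LD2_c46 LD3_c48)) = (LP (LK LD1_c25 LD2_c43 LD3_c30)) :=
  Lre_d IH (LK LD1_c15 LD2_c46 LD3_c48) (LK LD1_c25 LD2_c43 LD3_c30) Lrfl Lrfl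
theorem f349487 : Led Lsl_dt (LP (LK LD1_c9 LD2_c34 LD3_c5)) = (LP (LK LD1_c15 LD2_c57 LD3_c57)) :=
  Lgr Lrot42 (Lpr_df (K38.f349484 IH) (Lpn (LP (LK LD1_c15 LD2_c57 LD3_c57))))
theorem f400501 : Led Lsl_dt (LP (LK LD1_c25 LD2_c43 LD3_c30)) = (LP (LK LD1_c15 LD2_c46 LD3_c48)) :=
  Lre_d IH (LK LD1_c25 LD2_c43 LD3_c30) (LK LD1_c15 LD2_c46 LD3_c48) Lrfl Lrfl
theorem f400502 : Led Lsl_gf (LP (LK LD1_c25 LD2_c27 LD3_c17)) = (LP (LK LD1_c25 LD2_c43 LD3_c30)) :=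
  Lgr Lrot147 (Lpr_ct (K30.f222976 IH) (Lpr_gt (K38.f222987 IH) (Lpr_ct (K49.f400340 IH) (Lpe (f349487 IH) (Lpe (K26.f255627 IH) (Lpe (K38.f295086 IH) (Lpe (K38.f295087 IH) (Lpr_gf (K38.f400497 IH) (Lpe (f400501 IH) (Lpn (LP (LK LD1_c25 LD2_c43 LD3_c30))))))))))))
theorem f400548 : Led Lsl_gt (LP (LK LD1_c9 LD2_c34 LD3_c27)) = (LP (LK LD1_c17 LD2_c36 LD3_c36)) :=
  Lgr Lrot94 (Lpe (K38.f299352 IH) (Lpr_gt (K38.f400540 IH) (Lpr_dt (f400504 IH) (Lpe (f400502 IH) (Lpe (K30.f396942 IH) (Lpe (K30.f171149 IH) (Lpr_df (K38.f400358 IH) (Lpe (K38.f349522 IH) (Lpe (K38.f167416 IH) (Lpn (LP (LK LD1_c17 LD2_c36 LD3_c36))))))))))))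
theorem f349095 : Led Lsl_at (LP (LK LD1_c17 LD2_c37 LD3_c12)) = (LP (LK LD1_c9 LD2_c34 LD3_c5)) :=
  Lre_a IH (LK LD1_c17 LD2_c37 LD3_c12) (LK LD1_c9 LD2_c34 LD3_c5) Lrfl Lrfl
theorem f349096 : Led Lsl_ft (LP (LK LD1_c25 LD2_c47 LD3_c18)) = (LP (LK LD1_c17 LD2_c37 LD3_c12)) :=
  Lgr Lrot101 (Lpe (K26.f167410 IH) (Lpr_ff (K26.f349083 IH) (Lpe (f349095 IH) (Lpn (LP (LK LD1_c17 LD2_c37 LD3_c12))))))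
theorem f255628 : Led Lsl_gt (LP (LK LD1_c17 LD2_c37 LD3_c11)) = (LP (LK LD1_c9 LD2_c34 LD3_c5)) :=
  Lre_g IH (LK LD1_c17 LD2_c37 LD3_c11) (LK LD1_c9 LD2_c34 LD3_c5) Lrfl Lrfl
theorem f349653 : Led Lsl_gt (LP (LK LD1_c25 LD2_c47 LD3_c18)) = (LP (LK LD1_c17 LD2_c37 LD3_c11)) :=
  Lgr Lrot5 (Lpr_ft (f349096 IH) (Lpr_at (f349095 IH) (Lpe (f255628 IH) (Lpn (LP (LK LD1_c17 LD2_c37 LD3_c11))))))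
theorem f191836 : Led Lsl_bt (LP (LK LD1_c4 LD2_c21 LD3_c18)) = (LP (LK LD1_c8 LD2_c40 LD3_c14)) :=
  Lre_b IH (LK LD1_c4 LD2_c21 LD3_c18) (LK LD1_c8 LD2_c40 LD3_c14) Lrfl Lrfl
theorem f191837 : Led Lsl_gt (LP (LK LD1_c8 LD2_c40 LD3_c14)) = (LP (LK LD1_c16 LD2_c14 LD3_c18)) :=
  Lre_g IH (LK LD1_c8 LD2_c40 LD3_c14) (LK LD1_c16 LD2_c14 LD3_c18) Lrfl Lrfl
theorem f255626 : Led Lsl_bt (LP (LK LD1_c26 LD2_c11 LD3_c17)) = (LP (LK LD1_c16 LD2_c14 LD3_c18)) :=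
  Lre_b IH (LK LD1_c26 LD2_c11 LD3_c17) (LK LD1_c16 LD2_c14 LD3_c18) Lrfl Lrfl
theorem f234005 : Led Lsl_bt (LP (LK LD1_c4 LD2_c51 LD3_c12)) = (LP (LK LD1_c2 LD2_c23 LD3_c25)) :=
  Lre_b IH (LK LD1_c4 LD2_c51 LD3_c12) (LK LD1_c2 LD2_c23 LD3_c25) Lrfl Lrfl
theorem f255629 : Led Lsl_ct (LP (LK LD1_c26 LD2_c11 LD3_c17)) = (LP (LK LD1_c17 LD2_c37 LD3_c11)) :=
  Lgr Lrot64 (Lpr_bt (f255626 IH) (Lpe (f191837 IH) (Lpe (f191836 IH) (Lpr_ct (K13.f184373 IH) (Lpr_gf (K14.f255616 IH) (Lpe (K14.f255620 IH) (Lpe (K14.f199320 IH) (Lpe (f234005 IH) (Lpr_ct (K26.f255627 IH) (Lpe (f255628 IH) (Lpn (LP (LK LD1_c17 LD2_c37 LD3_c11)))))))))))))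
theorem f255657 : Led Lsl_cf (LP (LK LD1_c26 LD2_c11 LD3_c17)) = (LP (LK LD1_c17 LD2_c37 LD3_c11)) :=
  Lgr Lrot11 (Lpr_ct (f255629 IH) (Lpn (LP (LK LD1_c17 LD2_c37 LD3_c11))))
theorem f620719 : Led Lsl_df (LP (LK LD1_c27 LD2_c27 LD3_c42)) = (LP (LK LD1_c26 LD2_c11 LD3_c17)) :=
  Lgr Lrot162 (Lpr_cf (f620709 IH) (Lpe (f620457 IH) (Lpe (K38.f396965 IH) (Lpr_gf (f620451 IH) (Lpr_dt (K38.f400566 IH) (Lpr_gt (f400548 IH) (Lpe (K26.f167395 IH) (Lpr_gt (f349653 IH) (Lpe (f255657 IH) (Lpn (LP (LK LD1_c26 LD2_c11 LD3_c17))))))))))))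
theorem f255795 : Led Lsl_bt (LP (LK LD1_c10 LD2_c38 LD3_c29)) = (LP (LK LD1_c19 LD2_c16 LD3_c40)) :=
  Lre_b IH (LK LD1_c10 LD2_c38 LD3_c29) (LK LD1_c19 LD2_c16 LD3_c40) Lrfl Lrfl
theorem f255796 : Led Lsl_bt (LP (LK LD1_c27 LD2_c25 LD3_c46)) = (LP (LK LD1_c17 LD2_c37 LD3_c38)) :=
  Lre_b IH (LK LD1_c27 LD2_c25 LD3_c46) (LK LD1_c17 LD2_c37 LD3_c38) Lrfl Lrfl
theorem f255797 : Led Lsl_ct (LP (LK LD1_c19 LD2_c16 LD3_c40)) = (LP (LK LD1_c27 LD2_c25 LD3_c46)) :=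
  Lgr Lrot83 (Lpe (f255795 IH) (Lpe (K22.f255794 IH) (Lpe (K19.f255793 IH) (Lpr_cf (K19.f255780 IH) (Lpe (f255796 IH) (Lpn (LP (LK LD1_c27 LD2_c25 LD3_c46))))))))
theorem f255804 : Led Lsl_ft (LP (LK LD1_c10 LD2_c38 LD3_c27)) = (LP (LK LD1_c19 LD2_c16 LD3_c40)) :=
  Lre_f IH (LK LD1_c10 LD2_c38 LD3_c27) (LK LD1_c19 LD2_c16 LD3_c40) Lrfl Lrfl
theorem f255806 : Led Lsl_cf (LP (LK LD1_c10 LD2_c38 LD3_c27)) = (LP (LK LD1_c17 LD2_c37 LD3_c36)) :=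
  Lgr Lrot108 (Lpr_ft (f255804 IH) (Lpr_ct (f255797 IH) (Lpr_ft (K20.f255805 IH) (Lpn (LP (LK LD1_c17 LD2_c37 LD3_c36))))))
theorem f255808 : Led Lsl_at (LP (LK LD1_c10 LD2_c38 LD3_c27)) = (LP (LK LD1_c19 LD2_c16 LD3_c38)) :=
  Lre_a IH (LK LD1_c10 LD2_c38 LD3_c27) (LK LD1_c19 LD2_c16 LD3_c38) Lrfl Lrfl
theorem f255809 : Led Lsl_at (LP (LK LD1_c27 LD2_c25 LD3_c43)) = (LP (LK LD1_c17 LD2_c37 LD3_c36)) :=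
  Lre_a IH (LK LD1_c27 LD2_c25 LD3_c43) (LK LD1_c17 LD2_c37 LD3_c36) Lrfl Lrfl
theorem f255810 : Led Lsl_ct (LP (LK LD1_c19 LD2_c16 LD3_c38)) = (LP (LK LD1_c27 LD2_c25 LD3_c43)) :=
  Lgr Lrot111 (Lpe (f255808 IH) (Lpr_cf (f255806 IH) (Lpe (f255809 IH) (Lpn (LP (LK LD1_c27 LD2_c25 LD3_c43))))))
theorem f255823 : Led Lsl_et (LP (LK LD1_c10 LD2_c38 LD3_c38)) = (LP (LK LD1_c19 LD2_c16 LD3_c38)) :=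
  Lre_e IH (LK LD1_c10 LD2_c38 LD3_c38) (LK LD1_c19 LD2_c16 LD3_c38) Lrfl Lrfl
theorem f255824 : Led Lsl_et (LP (LK LD1_c27 LD2_c25 LD3_c43)) = (LP (LK LD1_c17 LD2_c37 LD3_c34)) :=
  Lre_e IH (LK LD1_c27 LD2_c25 LD3_c43) (LK LD1_c17 LD2_c37 LD3_c34) Lrfl Lrfl
theorem f255825 : Led Lsl_cf (LP (LK LD1_c10 LD2_c38 LD3_c38)) = (LP (LK LD1_c17 LD2_c37 LD3_c34)) :=
  Lgr Lrot39 (Lpr_et (f255823 IH) (Lpr_ct (f255810 IH) (Lpr_et (f255824 IH) (Lpn (LP (LK LD1_c17 LD2_c37 LD3_c34))))))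
theorem f255830 : Led Lsl_ct (LP (LK LD1_c10 LD2_c38 LD3_c38)) = (LP (LK LD1_c17 LD2_c37 LD3_c34)) :=
  Lgr Lrot59 (Lpr_cf (f255825 IH) (Lpn (LP (LK LD1_c17 LD2_c37 LD3_c34))))
theorem f255833 : Led Lsl_at (LP (LK LD1_c5 LD2_c23 LD3_c59)) = (LP (LK LD1_c10 LD2_c38 LD3_c38)) :=
  Lre_a IH (LK LD1_c5 LD2_c23 LD3_c59) (LK LD1_c10 LD2_c38 LD3_c38) Lrfl Lrfl
theorem f255834 : Led Lsl_at (LP (LK LD1_c17 LD2_c37 LD3_c34)) = (LP (LK LD1_c9 LD2_c34 LD3_c21)) :=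
  Lre_a IH (LK LD1_c17 LD2_c37 LD3_c34) (LK LD1_c9 LD2_c34 LD3_c21) Lrfl Lrfl
theorem f255835 : Led Lsl_cf (LP (LK LD1_c5 LD2_c23 LD3_c59)) = (LP (LK LD1_c9 LD2_c34 LD3_c21)) :=
  Lgr Lrot1 (Lpr_at (f255833 IH) (Lpr_ct (f255830 IH) (Lpr_at (f255834 IH) (Lpn (LP (LK LD1_c9 LD2_c34 LD3_c21))))))
theorem f255845 : Led Lsl_gt (LP (LK LD1_c5 LD2_c23 LD3_c59)) = (LP (LK LD1_c10 LD2_c38 LD3_c36)) :=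
  Lre_g IH (LK LD1_c5 LD2_c23 LD3_c59) (LK LD1_c10 LD2_c38 LD3_c36) Lrfl Lrfl
theorem f255849 : Led Lsl_ct (LP (LK LD1_c19 LD2_c16 LD3_c59)) = (LP (LK LD1_c10 LD2_c38 LD3_c36)) :=
  Lre_c IH (LK LD1_c19 LD2_c16 LD3_c59) (LK LD1_c10 LD2_c38 LD3_c36) Lrfl Lrfl
theorem f255850 : Led Lsl_bt (LP (LK LD1_c19 LD2_c16 LD3_c59)) = (LP (LK LD1_c28 LD2_c42 LD3_c55)) :=
  Lre_b IH (LK LD1_c19 LD2_c16 LD3_c59) (LK LD1_c28 LD2_c42 LD3_c55) Lrfl Lrfl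
theorem f255851 : Led Lsl_gt (LP (LK LD1_c28 LD2_c42 LD3_c55)) = (LP (LK LD1_c26 LD2_c11 LD3_c17)) :=
  Lgr Lrot82 (Lpe (f255850 IH) (Lpr_ct (f255849 IH) (Lpe (f255845 IH) (Lpr_cf (f255835 IH) (Lpr_bt (K20.f255661 IH) (Lpe (K14.f199320 IH) (Lpe (f234005 IH) (Lpr_ct (K26.f255627 IH) (Lpe (f255628 IH) (Lpe (f255629 IH) (Lpn (LP (LK LD1_c26 LD2_c11 LD3_c17)))))))))))))
theorem f255847 : Led Lsl_ct (LP (LK LD1_c10 LD2_c38 LD3_c36)) = (LP (LK LD1_c19 LD2_c16 LD3_c59)) :=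
  Lre_c IH (LK LD1_c10 LD2_c38 LD3_c36) (LK LD1_c19 LD2_c16 LD3_c59) Lrfl Lrfl
theorem f255855 : Led Lsl_dt (LP (LK LD1_c19 LD2_c16 LD3_c60)) = (LP (LK LD1_c10 LD2_c38 LD3_c36)) :=
  Lre_d IH (LK LD1_c19 LD2_c16 LD3_c60) (LK LD1_c10 LD2_c38 LD3_c36) Lrfl Lrfl
theorem f692473 : Led Lsl_gt (LP (LK LD1_c15 LD2_c43 LD3_c22)) = (LP (LK LD1_c19 LD2_c16 LD3_c60)) :=
  Lgr Lrot190 (Lpe (f199945 IH) (Lpe (K19.f310001 IH) (Lpr_df (K19.f309995 IH) (Lpe (K16.f228924 IH) (Lpr_bf (f635985 IH) (Lpe (f635988 IH) (Lpe (f493981 IH) (Lpe (K49.f237201 IH) (Lpe (K49.f263800 IH) (Lpe (K49.f263821 IH) (Lpr_df (K49.f692465 IH) (Lpe (f279243 IH) (Lpe (f602086 IH) (Lpe (f620461 IH) (Lpr_df (f620719 IH) (Lpe (f255851 IH) (Lpe (f255850 IH) (Lpe (f255847 IH) (Lpe (f255855 IH) (Lpn (LP (LK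 LD1_c19 LD2_c16 LD3_c60))))))))))))))))))))))
theorem f692474 : Led Lsl_gt (LP (LK LD1_c15 LD2_c43 LD3_c22)) = (LP (LK LD1_c19 LD2_c16 LD3_c60)) :=
  Leop (Lpe (f692473 IH) (Lpn (LP (LK LD1_c15 LD2_c43 LD3_c22))))
theorem seed_614 : LEOK LG_g (LK LD1_c15 LD2_c43 LD3_c22) :=
  Leoe_g (LK LD1_c15 LD2_c43 LD3_c22) (f692474 IH)
def v12526 : LQ := Led Lsl_dt (LP (LK LD1_c4 LD2_c16 LD3_c29))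
theorem f692597 : Led Lsl_dt (LP (LK LD1_c4 LD2_c16 LD3_c29)) = v12526 :=
  Lrfl
theorem f692600 : Led Lsl_ff (LP (LK LD1_c15 LD2_c47 LD3_c6)) = v12526 :=
  Lgr Lrot19 (Lpr_dt (K38.f52093 IH) (Lpr_ft (K30.f397881 IH) (Lpr_dt (f692597 IH) (Lpn v12526))))
theorem f692602 : Led Lsl_ft (LP (LK LD1_c15 LD2_c47 LD3_c6)) = v12526 :=
  Lgr Lrot48 (Lpr_ff (f692600 IH) (Lpn v12526))
theorem f51862 : Led Lsl_dt (LP (LK LD1_c15 LD2_c47 LD3_c8)) = (LP (LK LD1_c8 LD2_c23 LD3_c40)) :=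
  Lre_d IH (LK LD1_c15 LD2_c47 LD3_c8) (LK LD1_c8 LD2_c23 LD3_c40) Lrfl Lrfl
theorem f692598 : Led Lsl_af (LP (LK LD1_c15 LD2_c47 LD3_c8)) = v12526 :=
  Lgr Lrot117 (Lpr_dt (f51862 IH) (Lpr_at (K30.f397866 IH) (Lpr_dt (f692597 IH) (Lpn v12526))))
theorem f692603 : Led Lsl_gt (LP (LK LD1_c19 LD2_c38 LD3_c56)) = (LP (LK LD1_c15 LD2_c47 LD3_c8)) :=
  Lgr Lrot46 (Lpe (K38.f396950 IH) (Lpr_ft (f692602 IH) (Lpe (f692598 IH) (Lpn (LP (LK LD1_c15 LD2_c47 LD3_c8))))))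
theorem f692604 : Led Lsl_gt (LP (LK LD1_c19 LD2_c38 LD3_c56)) = (LP (LK LD1_c15 LD2_c47 LD3_c8)) :=
  Leop (Lpe (f692603 IH) (Lpn (LP (LK LD1_c19 LD2_c38 LD3_c56))))
theorem seed_615 : LEOK LG_g (LK LD1_c19 LD2_c38 LD3_c56) :=
  Leoe_g (LK LD1_c19 LD2_c38 LD3_c56) (f692604 IH)
def v12528 : LQ := Led Lsl_ct (LP (LK LD1_c4 LD2_c16 LD3_c30))
theorem f692608 : Led Lsl_ct (LP (LK LD1_c4 LD2_c16 LD3_c30)) = v12528 :=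
  Lrfl
theorem f397829 : Led Lsl_bt (LP (LK LD1_c4 LD2_c16 LD3_c30)) = (LP (LK LD1_c8 LD2_c32 LD3_c13)) :=
  Lre_b IH (LK LD1_c4 LD2_c16 LD3_c30) (LK LD1_c8 LD2_c32 LD3_c13) Lrfl Lrfl
theorem f397830 : Led Lsl_ft (LP (LK LD1_c8 LD2_c23 LD3_c40)) = (LP (LK LD1_c4 LD2_c16 LD3_c30)) :=
  Lgr Lrot75 (Lpe (K30.f51861 IH) (Lpr_ff (K30.f397821 IH) (Lpe (f397829 IH) (Lpn (LP (LK LD1_c4 LD2_c16 LD3_c30))))))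
theorem f692611 : Led Lsl_ff (LP (LK LD1_c4 LD2_c53 LD3_c37)) = v12528 :=
  Lgr Lrot23 (Lpe (K30.f167048 IH) (Lpr_ft (f397830 IH) (Lpr_ct (f692608 IH) (Lpn v12528))))
theorem f51849 : Led Lsl_ct (LP (LK LD1_c4 LD2_c16 LD3_c29)) = (LP (LK LD1_c8 LD2_c32 LD3_c12)) :=
  Lre_c IH (LK LD1_c4 LD2_c16 LD3_c29) (LK LD1_c8 LD2_c32 LD3_c12) Lrfl Lrfl
theorem f397874 : Led Lsl_af (LP (LK LD1_c4 LD2_c53 LD3_c37)) = (LP (LK LD1_c8 LD2_c32 LD3_c12)) :=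
  Lgr Lrot68 (Lpe (K30.f167048 IH) (Lpr_at (K30.f397866 IH) (Lpr_ct (f51849 IH) (Lpn (LP (LK LD1_c8 LD2_c32 LD3_c12))))))
theorem f397876 : Led Lsl_at (LP (LK LD1_c4 LD2_c53 LD3_c37)) = (LP (LK LD1_c8 LD2_c32 LD3_c12)) :=
  Lgr Lrot100 (Lpr_af (f397874 IH) (Lpn (LP (LK LD1_c8 LD2_c32 LD3_c12))))
theorem f170225 : Led Lsl_at (LP (LK LD1_c8 LD2_c34 LD3_c23)) = (LP (LK LD1_c4 LD2_c17 LD3_c41)) :=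
  Lre_a IH (LK LD1_c8 LD2_c34 LD3_c23) (LK LD1_c4 LD2_c17 LD3_c41) Lrfl Lrfl
theorem f403484 : Led Lsl_ft (LP (LK LD1_c8 LD2_c22 LD3_c41)) = (LP (LK LD1_c8 LD2_c34 LD3_c23)) :=
  Lgr Lrot101 (Lpe (K41.f171020 IH) (Lpr_ff (K41.f310150 IH) (Lpe (f170225 IH) (Lpn (LP (LK LD1_c8 LD2_c34 LD3_c23))))))
theorem f167301 : Led Lsl_gt (LP (LK LD1_c8 LD2_c34 LD3_c22)) = (LP (LK LD1_c4 LD2_c17 LD3_c41)) :=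
  Lre_g IH (LK LD1_c8 LD2_c34 LD3_c22) (LK LD1_c4 LD2_c17 LD3_c41) Lrfl Lrfl
theorem f404647 : Led Lsl_gt (LP (LK LD1_c8 LD2_c22 LD3_c41)) = (LP (LK LD1_c8 LD2_c34 LD3_c22)) :=
  Lgr Lrot5 (Lpr_ft (f403484 IH) (Lpr_at (f170225 IH) (Lpe (f167301 IH) (Lpn (LP (LK LD1_c8 LD2_c34 LD3_c22))))))
theorem f140444 : Led Lsl_bt (LP (LK LD1_c4 LD2_c57 LD3_c36)) = (LP (LK LD1_c9 LD2_c46 LD3_c0)) :=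
  Lre_b IH (LK LD1_c4 LD2_c57 LD3_c36) (LK LD1_c9 LD2_c46 LD3_c0) Lrfl Lrfl
theorem f318733 : Led Lsl_bf (LP (LK LD1_c8 LD2_c34 LD3_c22)) = (LP (LK LD1_c9 LD2_c45 LD3_c27)) :=
  Lgr Lrot165 (Lpr_gt (f167301 IH) (Lpr_ct (K20.f167298 IH) (Lpr_gt (K20.f7932 IH) (Lpe (K20.f318720 IH) (Lpr_bt (K20.f318721 IH) (Lpr_gt (K20.f318722 IH) (Lpe (f140444 IH) (Lpr_ct (K27.f318730 IH) (Lpr_gt (K27.f318731 IH) (Lpe (K44.f318732 IH) (Lpn (LP (LK LD1_c9 LD2_c45 LD3_c27)))))))))))))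
theorem f318745 : Led Lsl_bt (LP (LK LD1_c9 LD2_c45 LD3_c26)) = (LP (LK LD1_c4 LD2_c57 LD3_c11)) :=
  Lre_b IH (LK LD1_c9 LD2_c45 LD3_c26) (LK LD1_c4 LD2_c57 LD3_c11) Lrfl Lrfl
theorem f318746 : Led Lsl_dt (LP (LK LD1_c8 LD2_c34 LD3_c22)) = (LP (LK LD1_c9 LD2_c45 LD3_c26)) :=
  Lgr Lrot79 (Lpr_bf (f318733 IH) (Lpe (K27.f318744 IH) (Lpe (f318745 IH) (Lpn (LP (LK LD1_c9 LD2_c45 LD3_c26))))))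
theorem f170171 : Led Lsl_ct (LP (LK LD1_c2 LD2_c5 LD3_c53)) = (LP (LK LD1_c4 LD2_c16 LD3_c53)) :=
  Lre_c IH (LK LD1_c2 LD2_c5 LD3_c53) (LK LD1_c4 LD2_c16 LD3_c53) Lrfl Lrfl
theorem f170158 : Led Lsl_dt (LP (LK LD1_c2 LD2_c6 LD3_c21)) = (LP (LK LD1_c2 LD2_c5 LD3_c53)) :=
  Lgr Lrot79 (Lpe (K27.f53377 IH) (Lpr_df (K9.f170151 IH) (Lpe (K27.f170157 IH) (Lpn (LP (LK LD1_c2 LD2_c5 LD3_c53))))))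
theorem f170248 : Led Lsl_gt (LP (LK LD1_c4 LD2_c18 LD3_c9)) = (LP (LK LD1_c2 LD2_c6 LD3_c21)) :=
  Lre_g IH (LK LD1_c4 LD2_c18 LD3_c9) (LK LD1_c2 LD2_c6 LD3_c21) Lrfl Lrfl
theorem f404649 : Led Lsl_dt (LP (LK LD1_c4 LD2_c17 LD3_c48)) = (LP (LK LD1_c4 LD2_c18 LD3_c9)) :=
  Lgr Lrot57 (Lpe (K41.f403511 IH) (Lpe (K41.f171021 IH) (Lpr_gt (f404647 IH) (Lpr_dt (f318746 IH) (Lpe (K27.f216429 IH) (Lpr_dt (K27.f170252 IH) (Lpe (f170171 IH) (Lpe (f170158 IH) (Lpe (f170248 IH) (Lpn (LP (LK LD1_c4 LD2_c18 LD3_c9))))))))))))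
theorem f392821 : Led Lsl_af (LP (LK LD1_c4 LD2_c17 LD3_c48)) = (LP (LK LD1_c4 LD2_c11 LD3_c34)) :=
  Lgr Lrot0 (Lpr_at (K49.f392819 IH) (Lpn (LP (LK LD1_c4 LD2_c11 LD3_c34))))
theorem f140354 : Led Lsl_dt (LP (LK LD1_c15 LD2_c3 LD3_c44)) = (LP (LK LD1_c7 LD2_c59 LD3_c2)) :=
  Lre_d IH (LK LD1_c15 LD2_c3 LD3_c44) (LK LD1_c7 LD2_c59 LD3_c2) Lrfl Lrfl
theorem f170889 : Led Lsl_gt (LP (LK LD1_c2 LD2_c2 LD3_c51)) = (LP (LK LD1_c4 LD2_c11 LD3_c12)) :=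
  Lre_g IH (LK LD1_c2 LD2_c2 LD3_c51) (LK LD1_c4 LD2_c11 LD3_c12) Lrfl Lrfl
theorem f270629 : Led Lsl_df (LP (LK LD1_c4 LD2_c11 LD3_c34)) = (LP (LK LD1_c4 LD2_c11 LD3_c12)) :=
  Lgr Lrot183 (Lpr_ct (K49.f53341 IH) (Lpr_bt (K20.f270626 IH) (Lpr_gt (K20.f270627 IH) (Lpr_dt (f140354 IH) (Lpr_ct (K9.f140338 IH) (Lpr_bt (K31.f140337 IH) (Lpr_gt (K9.f169277 IH) (Lpr_dt (K9.f169276 IH) (Lpr_ct (K9.f169275 IH) (Lpr_bt (K12.f169293 IH) (Lpr_gt (K12.f169294 IH) (Lpe (K14.f197513 IH) (Lpe (K13.f187236 IH) (Lpr_bt (K14.f167638 IH) (Lpr_gt (K9.f179728 IH) (Lpe (K9.f171155 IH) (Lpr_ct (K9.f51521 IH) (Lpr_bt (K49.f51530 IH) (Lpr_gt (f170889 IH) (Lpn (LP (LK LD1_c4 LD2_c11 LD3_c12))))))))))))))))))))))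
theorem f404651 : Led Lsl_af (LP (LK LD1_c4 LD2_c11 LD3_c12)) = (LP (LK LD1_c4 LD2_c18 LD3_c9)) :=
  Lgr Lrot117 (Lpe (f270629 IH) (Lpe (f392821 IH) (Lpr_dt (f404649 IH) (Lpn (LP (LK LD1_c4 LD2_c18 LD3_c9))))))
theorem f404686 : Led Lsl_ft (LP (LK LD1_c4 LD2_c11 LD3_c13)) = (LP (LK LD1_c4 LD2_c18 LD3_c9)) :=
  Lgr Lrot2 (Lpr_gt (K49.f51531 IH) (Lpr_gt (f170889 IH) (Lpr_af (f404651 IH) (Lpn (LP (LK LD1_c4 LD2_c18 LD3_c9))))))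
theorem f404696 : Led Lsl_ff (LP (LK LD1_c4 LD2_c11 LD3_c13)) = (LP (LK LD1_c4 LD2_c18 LD3_c9)) :=
  Lgr Lrot3 (Lpr_ft (f404686 IH) (Lpn (LP (LK LD1_c4 LD2_c18 LD3_c9))))
theorem f170887 : Led Lsl_ct (LP (LK LD1_c4 LD2_c11 LD3_c13)) = (LP (LK LD1_c8 LD2_c22 LD3_c24)) :=
  Lre_c IH (LK LD1_c4 LD2_c11 LD3_c13) (LK LD1_c8 LD2_c22 LD3_c24) Lrfl Lrfl
theorem f170253 : Led Lsl_ct (LP (LK LD1_c8 LD2_c35 LD3_c13)) = (LP (LK LD1_c4 LD2_c18 LD3_c9)) :=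
  Lre_c IH (LK LD1_c8 LD2_c35 LD3_c13) (LK LD1_c4 LD2_c18 LD3_c9) Lrfl Lrfl
theorem f404703 : Led Lsl_ft (LP (LK LD1_c8 LD2_c22 LD3_c24)) = (LP (LK LD1_c8 LD2_c35 LD3_c13)) :=
  Lgr Lrot4 (Lpe (f170887 IH) (Lpr_ff (f404696 IH) (Lpe (f170253 IH) (Lpn (LP (LK LD1_c8 LD2_c35 LD3_c13))))))
theorem f404655 : Led Lsl_df (LP (LK LD1_c4 LD2_c17 LD3_c48)) = (LP (LK LD1_c4 LD2_c18 LD3_c9)) :=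
  Lgr Lrot38 (Lpr_dt (f404649 IH) (Lpn (LP (LK LD1_c4 LD2_c18 LD3_c9))))
theorem f270631 : Led Lsl_dt (LP (LK LD1_c4 LD2_c11 LD3_c34)) = (LP (LK LD1_c4 LD2_c11 LD3_c12)) :=
  Lgr Lrot42 (Lpr_df (f270629 IH) (Lpn (LP (LK LD1_c4 LD2_c11 LD3_c12))))
theorem f404658 : Led Lsl_at (LP (LK LD1_c4 LD2_c11 LD3_c12)) = (LP (LK LD1_c4 LD2_c18 LD3_c9)) :=
  Lgr Lrot51 (Lpe (f270631 IH) (Lpe (K49.f392819 IH) (Lpr_df (f404655 IH) (Lpn (LP (LK LD1_c4 LD2_c18 LD3_c9))))))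
theorem f221989 : Led Lsl_ct (LP (LK LD1_c8 LD2_c22 LD3_c21)) = (LP (LK LD1_c4 LD2_c11 LD3_c12)) :=
  Lre_c IH (LK LD1_c8 LD2_c22 LD3_c21) (LK LD1_c4 LD2_c11 LD3_c12) Lrfl Lrfl
theorem f170249 : Led Lsl_ct (LP (LK LD1_c4 LD2_c18 LD3_c9)) = (LP (LK LD1_c8 LD2_c35 LD3_c13)) :=
  Lre_c IH (LK LD1_c4 LD2_c18 LD3_c9) (LK LD1_c8 LD2_c35 LD3_c13) Lrfl Lrfl
theorem f404663 : Led Lsl_af (LP (LK LD1_c8 LD2_c22 LD3_c21)) = (LP (LK LD1_c8 LD2_c35 LD3_c13)) :=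
  Lgr Lrot68 (Lpr_ct (f221989 IH) (Lpr_at (f404658 IH) (Lpr_ct (f170249 IH) (Lpn (LP (LK LD1_c8 LD2_c35 LD3_c13))))))
theorem f392810 : Led Lsl_ff (LP (LK LD1_c4 LD2_c17 LD3_c47)) = (LP (LK LD1_c4 LD2_c11 LD3_c34)) :=
  Lgr Lrot23 (Lpr_ct (K27.f170214 IH) (Lpr_ft (K41.f392808 IH) (Lpr_ct (K20.f270625 IH) (Lpn (LP (LK LD1_c4 LD2_c11 LD3_c34))))))
theorem f392883 : Led Lsl_ft (LP (LK LD1_c4 LD2_c18 LD3_c8)) = (LP (LK LD1_c4 LD2_c11 LD3_c12)) :=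
  Lgr Lrot54 (Lpe (K27.f318761 IH) (Lpr_ff (f392810 IH) (Lpr_df (f270629 IH) (Lpn (LP (LK LD1_c4 LD2_c11 LD3_c12))))))
theorem f170890 : Led Lsl_ct (LP (LK LD1_c4 LD2_c11 LD3_c12)) = (LP (LK LD1_c8 LD2_c22 LD3_c21)) :=
  Lre_c IH (LK LD1_c4 LD2_c11 LD3_c12) (LK LD1_c8 LD2_c22 LD3_c21) Lrfl Lrfl
theorem f392885 : Led Lsl_ff (LP (LK LD1_c8 LD2_c35 LD3_c11)) = (LP (LK LD1_c8 LD2_c22 LD3_c21)) :=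
  Lgr Lrot23 (Lpr_ct (K27.f170416 IH) (Lpr_ft (f392883 IH) (Lpr_ct (f170890 IH) (Lpn (LP (LK LD1_c8 LD2_c22 LD3_c21))))))
theorem f404707 : Led Lsl_af (LP (LK LD1_c8 LD2_c22 LD3_c24)) = (LP (LK LD1_c8 LD2_c35 LD3_c11)) :=
  Lgr Lrot45 (Lpr_ft (f404703 IH) (Lpe (f404663 IH) (Lpe (f392885 IH) (Lpn (LP (LK LD1_c8 LD2_c35 LD3_c11))))))
theorem f170891 : Led Lsl_gt (LP (LK LD1_c8 LD2_c22 LD3_c21)) = (LP (LK LD1_c8 LD2_c23 LD3_c28)) :=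
  Lre_g IH (LK LD1_c8 LD2_c22 LD3_c21) (LK LD1_c8 LD2_c23 LD3_c28) Lrfl Lrfl
theorem f404789 : Led Lsl_gf (LP (LK LD1_c8 LD2_c22 LD3_c24)) = (LP (LK LD1_c8 LD2_c23 LD3_c28)) :=
  Lgr Lrot76 (Lpr_af (f404707 IH) (Lpr_ff (f392885 IH) (Lpr_gt (f170891 IH) (Lpn (LP (LK LD1_c8 LD2_c23 LD3_c28))))))
theorem f404700 : Led Lsl_bt (LP (LK LD1_c4 LD2_c11 LD3_c13)) = (LP (LK LD1_c8 LD2_c22 LD3_c23)) :=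
  Lre_b IH (LK LD1_c4 LD2_c11 LD3_c13) (LK LD1_c8 LD2_c22 LD3_c23) Lrfl Lrfl
theorem f52218 : Led Lsl_ct (LP (LK LD1_c4 LD2_c11 LD3_c53)) = (LP (LK LD1_c8 LD2_c23 LD3_c28)) :=
  Lre_c IH (LK LD1_c4 LD2_c11 LD3_c53) (LK LD1_c8 LD2_c23 LD3_c28) Lrfl Lrfl
theorem f52217 : Led Lsl_bt (LP (LK LD1_c4 LD2_c11 LD3_c53)) = (LP (LK LD1_c2 LD2_c3 LD3_c6)) :=
  Lre_b IH (LK LD1_c4 LD2_c11 LD3_c53) (LK LD1_c2 LD2_c3 LD3_c6) Lrfl Lrfl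
theorem f51643 : Led Lsl_ff (LP (LK LD1_c2 LD2_c3 LD3_c11)) = (LP (LK LD1_c2 LD2_c3 LD3_c10)) :=
  Lgr Lrot23 (Lpr_ct (K20.f541 IH) (Lpr_ft (K0.f534 IH) (Lpr_ct (K20.f51633 IH) (Lpn (LP (LK LD1_c2 LD2_c3 LD3_c10))))))
theorem f51645 : Led Lsl_at (LP (LK LD1_c2 LD2_c3 LD3_c11)) = (LP (LK LD1_c2 LD2_c3 LD3_c10)) :=
  Lgr Lrot33 (Lpr_ff (f51643 IH) (Lpe (K20.f51624 IH) (Lpr_ct (K20.f541 IH) (Lpe (K0.f27322 IH) (Lpr_ct (K20.f533 IH) (Lpr_dt (K20.f51631 IH) (Lpr_ct (K20.f51555 IH) (Lpr_dt (K0.f27326 IH) (Lpr_ct (K20.f51633 IH) (Lpn (LP (LK LD1_c2 LD2_c3 LD3_c10))))))))))))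
theorem f51675 : Led Lsl_at (LP (LK LD1_c8 LD2_c23 LD3_c6)) = (LP (LK LD1_c4 LD2_c12 LD3_c0)) :=
  Lre_a IH (LK LD1_c8 LD2_c23 LD3_c6) (LK LD1_c4 LD2_c12 LD3_c0) Lrfl Lrfl
theorem f51676 : Led Lsl_at (LP (LK LD1_c4 LD2_c11 LD3_c61)) = (LP (LK LD1_c8 LD2_c23 LD3_c34)) :=
  Lre_a IH (LK LD1_c4 LD2_c11 LD3_c61) (LK LD1_c8 LD2_c23 LD3_c34) Lrfl Lrfl
theorem f52144 : Led Lsl_bf (LP (LK LD1_c8 LD2_c23 LD3_c6)) = (LP (LK LD1_c8 LD2_c23 LD3_c34)) :=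
  Lgr Lrot81 (Lpr_at (f51675 IH) (Lpr_bt (K30.f51650 IH) (Lpr_at (f51645 IH) (Lpr_bt (K30.f51639 IH) (Lpr_at (f51676 IH) (Lpn (LP (LK LD1_c8 LD2_c23 LD3_c34))))))))
theorem f1137 : Led Lsl_et (LP (LK LD1_c8 LD2_c23 LD3_c6)) = (LP (LK LD1_c4 LD2_c11 LD3_c46)) :=
  Lre_e IH (LK LD1_c8 LD2_c23 LD3_c6) (LK LD1_c4 LD2_c11 LD3_c46) Lrfl Lrfl
theorem f1143 : Led Lsl_et (LP (LK LD1_c4 LD2_c11 LD3_c57)) = (LP (LK LD1_c8 LD2_c23 LD3_c34)) :=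
  Lre_e IH (LK LD1_c4 LD2_c11 LD3_c57) (LK LD1_c8 LD2_c23 LD3_c34) Lrfl Lrfl
theorem f52152 : Led Lsl_bt (LP (LK LD1_c4 LD2_c11 LD3_c46)) = (LP (LK LD1_c4 LD2_c11 LD3_c57)) :=
  Lgr Lrot119 (Lpe (f1137 IH) (Lpr_bf (f52144 IH) (Lpe (f1143 IH) (Lpn (LP (LK LD1_c4 LD2_c11 LD3_c57))))))
theorem f52154 : Led Lsl_bf (LP (LK LD1_c4 LD2_c11 LD3_c46)) = (LP (LK LD1_c4 LD2_c11 LD3_c57)) :=
  Lgr Lrot24 (Lpr_bt (f52152 IH) (Lpn (LP (LK LD1_c4 LD2_c11 LD3_c57))))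
theorem f51712 : Led Lsl_gt (LP (LK LD1_c4 LD2_c16 LD3_c29)) = (LP (LK LD1_c8 LD2_c23 LD3_c33)) :=
  Lgr Lrot46 (Lpe (K30.f1095 IH) (Lpr_ft (K30.f51695 IH) (Lpr_at (K30.f51703 IH) (Lpn (LP (LK LD1_c8 LD2_c23 LD3_c33))))))
theorem f51848 : Led Lsl_ct (LP (LK LD1_c8 LD2_c32 LD3_c12)) = (LP (LK LD1_c4 LD2_c16 LD3_c29)) :=
  Lre_c IH (LK LD1_c8 LD2_c32 LD3_c12) (LK LD1_c4 LD2_c16 LD3_c29) Lrfl Lrfl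
theorem f404799 : Led Lsl_gt (LP (LK LD1_c8 LD2_c22 LD3_c23)) = (LP (LK LD1_c8 LD2_c32 LD3_c12)) :=
  Lgr Lrot82 (Lpe (f404700 IH) (Lpr_ct (f170887 IH) (Lpr_gf (f404789 IH) (Lpe (f52218 IH) (Lpr_bt (f52217 IH) (Lpe (K49.f51776 IH) (Lpr_bf (f52154 IH) (Lpr_ct (K30.f51715 IH) (Lpe (f51712 IH) (Lpe (f51848 IH) (Lpn (LP (LK LD1_c8 LD2_c32 LD3_c12)))))))))))))
theorem f692614 : Led Lsl_gf (LP (LK LD1_c8 LD2_c22 LD3_c23)) = v12528 :=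
  Lgr Lrot47 (Lpr_gt (f404799 IH) (Lpe (f397876 IH) (Lpr_ff (f692611 IH) (Lpn v12528))))
theorem f53354 : Led Lsl_ct (LP (LK LD1_c15 LD2_c45 LD3_c26)) = (LP (LK LD1_c8 LD2_c22 LD3_c23)) :=
  Lre_c IH (LK LD1_c15 LD2_c45 LD3_c26) (LK LD1_c8 LD2_c22 LD3_c23) Lrfl Lrfl
theorem f359473 : Led Lsl_bt (LP (LK LD1_c15 LD2_c45 LD3_c26)) = (LP (LK LD1_c25 LD2_c42 LD3_c7)) :=
  Lre_b IH (LK LD1_c15 LD2_c45 LD3_c26) (LK LD1_c25 LD2_c42 LD3_c7) Lrfl Lrfl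
theorem f219826 : Led Lsl_bt (LP (LK LD1_c4 LD2_c11 LD3_c3)) = (LP (LK LD1_c8 LD2_c21 LD3_c61)) :=
  Lre_b IH (LK LD1_c4 LD2_c11 LD3_c3) (LK LD1_c8 LD2_c21 LD3_c61) Lrfl Lrfl
theorem f219833 : Led Lsl_gt (LP (LK LD1_c15 LD2_c44 LD3_c39)) = (LP (LK LD1_c8 LD2_c21 LD3_c61)) :=
  Lre_g IH (LK LD1_c15 LD2_c44 LD3_c39) (LK LD1_c8 LD2_c21 LD3_c61) Lrfl Lrfl
theorem f219834 : Led Lsl_bt (LP (LK LD1_c25 LD2_c41 LD3_c4)) = (LP (LK LD1_c15 LD2_c44 LD3_c39)) :=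
  Lre_b IH (LK LD1_c25 LD2_c41 LD3_c4) (LK LD1_c15 LD2_c44 LD3_c39) Lrfl Lrfl
theorem f219908 : Led Lsl_bt (LP (LK LD1_c10 LD2_c50 LD3_c18)) = (LP (LK LD1_c5 LD2_c29 LD3_c31)) :=
  Lre_b IH (LK LD1_c10 LD2_c50 LD3_c18) (LK LD1_c5 LD2_c29 LD3_c31) Lrfl Lrfl
theorem f219817 : Led Lsl_bt (LP (LK LD1_c5 LD2_c29 LD3_c31)) = (LP (LK LD1_c10 LD2_c50 LD3_c18)) :=
  Lre_b IH (LK LD1_c5 LD2_c29 LD3_c31) (LK LD1_c10 LD2_c50 LD3_c18) Lrfl Lrfl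
theorem f219818 : Led Lsl_cf (LP (LK LD1_c8 LD2_c21 LD3_c61)) = (LP (LK LD1_c10 LD2_c50 LD3_c18)) :=
  Lgr Lrot97 (Lpr_bt (K27.f219816 IH) (Lpr_ct (K12.f219789 IH) (Lpr_bt (K12.f218091 IH) (Lpr_ct (K13.f212871 IH) (Lpr_bt (f219817 IH) (Lpn (LP (LK LD1_c10 LD2_c50 LD3_c18))))))))
theorem f1174 : Led Lsl_bt (LP (LK LD1_c2 LD2_c1 LD3_c34)) = (LP (LK LD1_c4 LD2_c8 LD3_c24)) :=
  Lre_b IH (LK LD1_c2 LD2_c1 LD3_c34) (LK LD1_c4 LD2_c8 LD3_c24) Lrfl Lrfl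
theorem f1285 : Led Lsl_gt (LP (LK LD1_c4 LD2_c8 LD3_c24)) = (LP (LK LD1_c8 LD2_c16 LD3_c54)) :=
  Lre_g IH (LK LD1_c4 LD2_c8 LD3_c24) (LK LD1_c8 LD2_c16 LD3_c54) Lrfl Lrfl
theorem f223030 : Led Lsl_bt (LP (LK LD1_c15 LD2_c34 LD3_c23)) = (LP (LK LD1_c8 LD2_c16 LD3_c54)) :=
  Lre_b IH (LK LD1_c15 LD2_c34 LD3_c23) (LK LD1_c8 LD2_c16 LD3_c54) Lrfl Lrfl
theorem f223031 : Led Lsl_cf (LP (LK LD1_c15 LD2_c44 LD3_c39)) = (LP (LK LD1_c15 LD2_c34 LD3_c23)) :=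
  Lgr Lrot160 (Lpr_gt (f219833 IH) (Lpr_cf (f219818 IH) (Lpr_bt (f219908 IH) (Lpr_gt (K13.f223028 IH) (Lpr_ct (K13.f47549 IH) (Lpr_gt (K10.f1329 IH) (Lpe (K9.f792 IH) (Lpr_bt (f1174 IH) (Lpr_gt (f1285 IH) (Lpe (f223030 IH) (Lpn (LP (LK LD1_c15 LD2_c34 LD3_c23)))))))))))))
theorem f223035 : Led Lsl_bt (LP (LK LD1_c15 LD2_c44 LD3_c39)) = (LP (LK LD1_c25 LD2_c41 LD3_c4)) :=
  Lre_b IH (LK LD1_c15 LD2_c44 LD3_c39) (LK LD1_c25 LD2_c41 LD3_c4) Lrfl Lrfl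
theorem f223036 : Led Lsl_bt (LP (LK LD1_c8 LD2_c16 LD3_c54)) = (LP (LK LD1_c15 LD2_c34 LD3_c23)) :=
  Lre_b IH (LK LD1_c8 LD2_c16 LD3_c54) (LK LD1_c15 LD2_c34 LD3_c23) Lrfl Lrfl
theorem f52198 : Led Lsl_ct (LP (LK LD1_c15 LD2_c34 LD3_c24)) = (LP (LK LD1_c8 LD2_c16 LD3_c54)) :=
  Lre_c IH (LK LD1_c15 LD2_c34 LD3_c24) (LK LD1_c8 LD2_c16 LD3_c54) Lrfl Lrfl
theorem f223037 : Led Lsl_bt (LP (LK LD1_c25 LD2_c28 LD3_c18)) = (LP (LK LD1_c15 LD2_c34 LD3_c24)) :=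
  Lre_b IH (LK LD1_c25 LD2_c28 LD3_c18) (LK LD1_c15 LD2_c34 LD3_c24) Lrfl Lrfl
theorem f223038 : Led Lsl_ct (LP (LK LD1_c25 LD2_c41 LD3_c4)) = (LP (LK LD1_c25 LD2_c28 LD3_c18)) :=
  Lgr Lrot83 (Lpe (f223035 IH) (Lpr_cf (f223031 IH) (Lpe (f223036 IH) (Lpe (f52198 IH) (Lpe (f223037 IH) (Lpn (LP (LK LD1_c25 LD2_c28 LD3_c18))))))))
theorem f359468 : Led Lsl_ct (LP (LK LD1_c15 LD2_c45 LD3_c27)) = (LP (LK LD1_c25 LD2_c42 LD3_c7)) :=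
  Lre_c IH (LK LD1_c15 LD2_c45 LD3_c27) (LK LD1_c25 LD2_c42 LD3_c7) Lrfl Lrfl
theorem f359469 : Led Lsl_gf (LP (LK LD1_c25 LD2_c28 LD3_c18)) = (LP (LK LD1_c25 LD2_c42 LD3_c7)) :=
  Lgr Lrot129 (Lpe (f223038 IH) (Lpr_bt (f219834 IH) (Lpr_gt (f219833 IH) (Lpe (f219826 IH) (Lpr_ct (K12.f219789 IH) (Lpe (K49.f359446 IH) (Lpr_cf (K26.f359448 IH) (Lpr_bt (K49.f359464 IH) (Lpe (K49.f359466 IH) (Lpr_ct (f359468 IH) (Lpn (LP (LK LD1_c25 LD2_c42 LD3_c7)))))))))))))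
theorem f223040 : Led Lsl_ct (LP (LK LD1_c15 LD2_c44 LD3_c39)) = (LP (LK LD1_c15 LD2_c34 LD3_c23)) :=
  Lgr Lrot59 (Lpr_cf (f223031 IH) (Lpn (LP (LK LD1_c15 LD2_c34 LD3_c23))))
theorem f52195 : Led Lsl_ct (LP (LK LD1_c8 LD2_c16 LD3_c54)) = (LP (LK LD1_c15 LD2_c34 LD3_c24)) :=
  Lre_c IH (LK LD1_c8 LD2_c16 LD3_c54) (LK LD1_c15 LD2_c34 LD3_c24) Lrfl Lrfl
theorem f52199 : Led Lsl_bt (LP (LK LD1_c15 LD2_c34 LD3_c24)) = (LP (LK LD1_c25 LD2_c28 LD3_c18)) :=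
  Lre_b IH (LK LD1_c15 LD2_c34 LD3_c24) (LK LD1_c25 LD2_c28 LD3_c18) Lrfl Lrfl
theorem f223058 : Led Lsl_cf (LP (LK LD1_c25 LD2_c41 LD3_c4)) = (LP (LK LD1_c25 LD2_c28 LD3_c18)) :=
  Lgr Lrot97 (Lpr_bt (f219834 IH) (Lpr_ct (f223040 IH) (Lpr_bt (f223030 IH) (Lpr_ct (f52195 IH) (Lpr_bt (f52199 IH) (Lpn (LP (LK LD1_c25 LD2_c28 LD3_c18))))))))
theorem f692615 : Led Lsl_gt (LP (LK LD1_c25 LD2_c41 LD3_c4)) = (LP (LK LD1_c16 LD2_c0 LD3_c47)) :=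
  Lgr Lrot149 (Lpr_cf (f223058 IH) (Lpr_gf (f359469 IH) (Lpe (f359473 IH) (Lpr_ct (f53354 IH) (Lpr_gf (f692614 IH) (Lpe (f692608 IH) (Lpr_bt (f397829 IH) (Lpe (K38.f398263 IH) (Lpe (K31.f250555 IH) (Lpr_ct (K20.f250530 IH) (Lpn (LP (LK LD1_c16 LD2_c0 LD3_c47)))))))))))))
theorem f692616 : Led Lsl_gt (LP (LK LD1_c25 LD2_c41 LD3_c4)) = (LP (LK LD1_c16 LD2_c0 LD3_c47)) :=
  Leop (Lpe (f692615 IH) (Lpn (LP (LK LD1_c25 LD2_c41 LD3_c4))))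
theorem seed_616 : LEOK LG_g (LK LD1_c25 LD2_c41 LD3_c4) :=
  Leoe_g (LK LD1_c25 LD2_c41 LD3_c4) (f692616 IH)
def v12532 : LQ := Led Lsl_at (LP (LK LD1_c4 LD2_c16 LD3_c56))
theorem f692636 : Led Lsl_at (LP (LK LD1_c4 LD2_c16 LD3_c56)) = v12532 :=
  Lrfl
theorem f692637 : Led Lsl_af (LP (LK LD1_c4 LD2_c16 LD3_c56)) = v12532 :=
  Lgr Lrot0 (Lpr_at (f692636 IH) (Lpn v12532))
theorem f692640 : Led Lsl_ft (LP (LK LD1_c4 LD2_c16 LD3_c57)) = v12532 :=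
  Lgr Lrot2 (Lpr_gt (K18.f169398 IH) (Lpr_gt (K20.f169386 IH) (Lpr_af (f692637 IH) (Lpn v12532))))
def v12384 : LQ := Led Lsl_at (LP (LK LD1_c4 LD2_c10 LD3_c20))
theorem f691842 : Led Lsl_at (LP (LK LD1_c4 LD2_c10 LD3_c20)) = v12384 :=
  Lrfl
theorem f691843 : Led Lsl_af (LP (LK LD1_c4 LD2_c10 LD3_c20)) = v12384 :=
  Lgr Lrot0 (Lpr_at (f691842 IH) (Lpn v12384))
theorem f692638 : Led Lsl_ef v12384 = v12532 :=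
  Lgr Lrot20 (Lpe (f691843 IH) (Lpe (K20.f316078 IH) (Lpr_at (f692636 IH) (Lpn v12532))))
theorem f691844 : Led Lsl_ft (LP (LK LD1_c4 LD2_c10 LD3_c21)) = v12384 :=
  Lgr Lrot2 (Lpr_gt (K9.f178717 IH) (Lpr_gt (K20.f178708 IH) (Lpr_af (f691843 IH) (Lpn v12384))))
theorem f691845 : Led Lsl_ff (LP (LK LD1_c4 LD2_c10 LD3_c21)) = v12384 :=
  Lgr Lrot3 (Lpr_ft (f691844 IH) (Lpn v12384))
theorem f692641 : Led Lsl_ff (LP (LK LD1_c8 LD2_c33 LD3_c21)) = (LP (LK LD1_c8 LD2_c20 LD3_c61)) :=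
  Lgr Lrot72 (Lpr_et (K21.f169422 IH) (Lpr_ft (f692640 IH) (Lpe (f692638 IH) (Lpe (f691845 IH) (Lpr_et (K21.f182225 IH) (Lpn (LP (LK LD1_c8 LD2_c20 LD3_c61))))))))
theorem f692642 : Led Lsl_ft (LP (LK LD1_c8 LD2_c20 LD3_c61)) = (LP (LK LD1_c8 LD2_c33 LD3_c21)) :=
  Leop (Lpr_ff (f692641 IH) (Lpn (LP (LK LD1_c8 LD2_c20 LD3_c61))))
theorem seed_617 : LEOK LG_f (LK LD1_c8 LD2_c20 LD3_c61) :=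
  Leoe_f (LK LD1_c8 LD2_c20 LD3_c61) (f692642 IH)
def v12536 : LQ := Led Lsl_gf (LP (LK LD1_c4 LD2_c17 LD3_c5))
theorem f693406 : Led Lsl_gf (LP (LK LD1_c4 LD2_c17 LD3_c5)) = v12536 :=
  Lrfl
theorem f220329 : Led Lsl_et (LP (LK LD1_c4 LD2_c10 LD3_c23)) = (LP (LK LD1_c8 LD2_c21 LD3_c3)) :=
  Lre_e IH (LK LD1_c4 LD2_c10 LD3_c23) (LK LD1_c8 LD2_c21 LD3_c3) Lrfl Lrfl
theorem f178832 : Led Lsl_bt (LP (LK LD1_c2 LD2_c41 LD3_c45)) = (LP (LK LD1_c1 LD2_c17 LD3_c32)) :=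
  Lre_b IH (LK LD1_c2 LD2_c41 LD3_c45) (LK LD1_c1 LD2_c17 LD3_c32) Lrfl Lrfl
theorem f260744 : Led Lsl_dt (LP (LK LD1_c4 LD2_c17 LD3_c1)) = (LP (LK LD1_c2 LD2_c41 LD3_c45)) :=
  Lgr Lrot79 (Lpe (K15.f167649 IH) (Lpr_df (K15.f260742 IH) (Lpe (f178832 IH) (Lpn (LP (LK LD1_c2 LD2_c41 LD3_c45))))))
theorem f295677 : Led Lsl_df (LP (LK LD1_c4 LD2_c10 LD3_c23)) = (LP (LK LD1_c4 LD2_c17 LD3_c5)) :=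
  Lgr Lrot78 (Lpe (K38.f260717 IH) (Lpr_dt (f260744 IH) (Lpr_ft (K40.f295651 IH) (Lpn (LP (LK LD1_c4 LD2_c17 LD3_c5))))))
theorem f220327 : Led Lsl_dt (LP (LK LD1_c15 LD2_c35 LD3_c17)) = (LP (LK LD1_c8 LD2_c17 LD3_c23)) :=
  Lre_d IH (LK LD1_c15 LD2_c35 LD3_c17) (LK LD1_c8 LD2_c17 LD3_c23) Lrfl Lrfl
theorem f397187 : Led Lsl_ct (LP (LK LD1_c8 LD2_c19 LD3_c45)) = (LP (LK LD1_c15 LD2_c40 LD3_c24)) :=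
  Lre_c IH (LK LD1_c8 LD2_c19 LD3_c45) (LK LD1_c15 LD2_c40 LD3_c24) Lrfl Lrfl
theorem f620613 : Led Lsl_ft (LP (LK LD1_c15 LD2_c40 LD3_c10)) = (LP (LK LD1_c8 LD2_c19 LD3_c45)) :=
  Lre_f IH (LK LD1_c15 LD2_c40 LD3_c10) (LK LD1_c8 LD2_c19 LD3_c45) Lrfl Lrfl
theorem f620653 : Led Lsl_ct (LP (LK LD1_c9 LD2_c37 LD3_c14)) = (LP (LK LD1_c15 LD2_c40 LD3_c10)) :=
  Lgr Lrot40 (Lpr_ff (f620648 IH) (Lpe (f397187 IH) (Lpe (f620613 IH) (Lpn (LP (LK LD1_c15 LD2_c40 LD3_c10))))))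
theorem f377844 : Led Lsl_gf (LP (LK LD1_c16 LD2_c13 LD3_c45)) = (LP (LK LD1_c15 LD2_c46 LD3_c21)) :=
  Lgr Lrot76 (Lpe (K31.f219488 IH) (Lpe (K38.f372803 IH) (Lpr_gt (K49.f377842 IH) (Lpn (LP (LK LD1_c15 LD2_c46 LD3_c21))))))
theorem f232631 : Led Lsl_cf (LP (LK LD1_c15 LD2_c39 LD3_c13)) = (LP (LK LD1_c9 LD2_c35 LD3_c56)) :=
  Lgr Lrot11 (Lpr_ct (K41.f232622 IH) (Lpn (LP (LK LD1_c9 LD2_c35 LD3_c56))))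
theorem f620600 : Led Lsl_gt (LP (LK LD1_c15 LD2_c39 LD3_c13)) = (LP (LK LD1_c8 LD2_c19 LD3_c45)) :=
  Lgr Lrot149 (Lpr_cf (f232631 IH) (Lpe (K41.f372594 IH) (Lpr_bf (K30.f372590 IH) (Lpe (K38.f219519 IH) (Lpr_gf (f377844 IH) (Lpe (K49.f377847 IH) (Lpr_bt (K49.f377848 IH) (Lpr_gf (K49.f620569 IH) (Lpr_bf (K49.f620590 IH) (Lpr_ct (K49.f397183 IH) (Lpn (LP (LK LD1_c8 LD2_c19 LD3_c45)))))))))))))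
theorem f232624 : Led Lsl_gt (LP (LK LD1_c25 LD2_c34 LD3_c30)) = (LP (LK LD1_c15 LD2_c39 LD3_c13)) :=
  Lre_g IH (LK LD1_c25 LD2_c34 LD3_c30) (LK LD1_c15 LD2_c39 LD3_c13) Lrfl Lrfl
theorem f620602 : Led Lsl_at (LP (LK LD1_c15 LD2_c40 LD3_c23)) = (LP (LK LD1_c8 LD2_c19 LD3_c45)) :=
  Lre_a IH (LK LD1_c15 LD2_c40 LD3_c23) (LK LD1_c8 LD2_c19 LD3_c45) Lrfl Lrfl
theorem f620603 : Led Lsl_ft (LP (LK LD1_c25 LD2_c34 LD3_c30)) = (LP (LK LD1_c15 LD2_c40 LD3_c23)) :=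
  Lgr Lrot2 (Lpr_gt (f232624 IH) (Lpr_gt (f620600 IH) (Lpe (f620602 IH) (Lpn (LP (LK LD1_c15 LD2_c40 LD3_c23))))))
theorem f620610 : Led Lsl_ff (LP (LK LD1_c25 LD2_c34 LD3_c30)) = (LP (LK LD1_c15 LD2_c40 LD3_c23)) :=
  Lgr Lrot3 (Lpr_ft (f620603 IH) (Lpn (LP (LK LD1_c15 LD2_c40 LD3_c23))))
theorem f620612 : Led Lsl_at (LP (LK LD1_c8 LD2_c19 LD3_c45)) = (LP (LK LD1_c15 LD2_c40 LD3_c23)) :=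
  Lre_a IH (LK LD1_c8 LD2_c19 LD3_c45) (LK LD1_c15 LD2_c40 LD3_c23) Lrfl Lrfl
theorem f620614 : Led Lsl_at (LP (LK LD1_c25 LD2_c34 LD3_c30)) = (LP (LK LD1_c15 LD2_c40 LD3_c10)) :=
  Lgr Lrot66 (Lpr_ff (f620610 IH) (Lpe (f620612 IH) (Lpe (f620613 IH) (Lpn (LP (LK LD1_c15 LD2_c40 LD3_c10))))))
theorem f620609 : Led Lsl_dt (LP (LK LD1_c15 LD2_c40 LD3_c23)) = (LP (LK LD1_c25 LD2_c35 LD3_c53)) :=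
  Lre_d IH (LK LD1_c15 LD2_c40 LD3_c23) (LK LD1_c25 LD2_c35 LD3_c53) Lrfl Lrfl
theorem f620491 : Led Lsl_gt (LP (LK LD1_c17 LD2_c39 LD3_c6)) = (LP (LK LD1_c17 LD2_c37 LD3_c52)) :=
  Lgr Lrot150 (Lpr_cf (K49.f396984 IH) (Lpe (K49.f620479 IH) (Lpe (K49.f620477 IH) (Lpr_gt (K49.f620485 IH) (Lpe (K41.f397177 IH) (Lpe (K41.f372596 IH) (Lpr_ct (K30.f366332 IH) (Lpe (K30.f372579 IH) (Lpe (K38.f400454 IH) (Lpn (LP (LK LD1_c17 LD2_c37 LD3_c52))))))))))))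
theorem f620495 : Led Lsl_gf (LP (LK LD1_c16 LD2_c1 LD3_c24)) = (LP (LK LD1_c17 LD2_c37 LD3_c52)) :=
  Lgr Lrot76 (Lpe (K27.f170484 IH) (Lpr_ff (K27.f372970 IH) (Lpr_gt (f620491 IH) (Lpn (LP (LK LD1_c17 LD2_c37 LD3_c52))))))
theorem f170475 : Led Lsl_gt (LP (LK LD1_c16 LD2_c1 LD3_c27)) = (LP (LK LD1_c8 LD2_c32 LD3_c5)) :=
  Lre_g IH (LK LD1_c16 LD2_c1 LD3_c27) (LK LD1_c8 LD2_c32 LD3_c5) Lrfl Lrfl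
theorem f620499 : Led Lsl_df (LP (LK LD1_c16 LD2_c1 LD3_c27)) = (LP (LK LD1_c17 LD2_c37 LD3_c11)) :=
  Lgr Lrot153 (Lpr_gt (f170475 IH) (Lpr_dt (K38.f170474 IH) (Lpe (K30.f167281 IH) (Lpe (K27.f170137 IH) (Lpr_gf (f620495 IH) (Lpe (K38.f349504 IH) (Lpe (K38.f349502 IH) (Lpe (K26.f167411 IH) (Lpr_gt (f349653 IH) (Lpn (LP (LK LD1_c17 LD2_c37 LD3_c11))))))))))))
theorem f620501 : Led Lsl_dt (LP (LK LD1_c16 LD2_c1 LD3_c27)) = (LP (LK LD1_c17 LD2_c37 LD3_c11)) :=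
  Lgr Lrot42 (Lpr_df (f620499 IH) (Lpn (LP (LK LD1_c17 LD2_c37 LD3_c11))))
theorem f620723 : Led Lsl_ct (LP (LK LD1_c25 LD2_c35 LD3_c53)) = (LP (LK LD1_c16 LD2_c1 LD3_c27)) :=
  Lgr Lrot133 (Lpe (f620609 IH) (Lpe (f620610 IH) (Lpr_at (f620614 IH) (Lpe (f620653 IH) (Lpe (K49.f232699 IH) (Lpe (f620461 IH) (Lpr_df (f620719 IH) (Lpr_cf (f255657 IH) (Lpe (f620501 IH) (Lpn (LP (LK LD1_c16 LD2_c1 LD3_c27))))))))))))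
theorem f620727 : Led Lsl_cf (LP (LK LD1_c25 LD2_c35 LD3_c53)) = (LP (LK LD1_c16 LD2_c1 LD3_c27)) :=
  Lgr Lrot11 (Lpr_ct (f620723 IH) (Lpn (LP (LK LD1_c16 LD2_c1 LD3_c27))))
theorem f417201 : Led Lsl_at (LP (LK LD1_c25 LD2_c35 LD3_c53)) = (LP (LK LD1_c15 LD2_c40 LD3_c25)) :=
  Lre_a IH (LK LD1_c25 LD2_c35 LD3_c53) (LK LD1_c15 LD2_c40 LD3_c25) Lrfl Lrfl
theorem f417202 : Led Lsl_ct (LP (LK LD1_c15 LD2_c40 LD3_c25)) = (LP (LK LD1_c25 LD2_c35 LD3_c56)) :=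
  Lre_c IH (LK LD1_c15 LD2_c40 LD3_c25) (LK LD1_c25 LD2_c35 LD3_c56) Lrfl Lrfl
theorem f620729 : Led Lsl_at (LP (LK LD1_c25 LD2_c35 LD3_c56)) = (LP (LK LD1_c16 LD2_c1 LD3_c27)) :=
  Lgr Lrot107 (Lpe (f417202 IH) (Lpe (f417201 IH) (Lpr_cf (f620727 IH) (Lpn (LP (LK LD1_c16 LD2_c1 LD3_c27))))))
theorem f369307 : Led Lsl_at (LP (LK LD1_c16 LD2_c1 LD3_c20)) = (LP (LK LD1_c8 LD2_c32 LD3_c5)) :=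
  Lre_a IH (LK LD1_c16 LD2_c1 LD3_c20) (LK LD1_c8 LD2_c32 LD3_c5) Lrfl Lrfl
theorem f373029 : Led Lsl_gt (LP (LK LD1_c25 LD2_c29 LD3_c54)) = (LP (LK LD1_c16 LD2_c1 LD3_c27)) :=
  Lgr Lrot5 (Lpr_ft (K27.f373024 IH) (Lpr_at (f369307 IH) (Lpe (f170475 IH) (Lpn (LP (LK LD1_c16 LD2_c1 LD3_c27))))))
theorem f374781 : Led Lsl_ff (LP (LK LD1_c15 LD2_c57 LD3_c32)) = (LP (LK LD1_c8 LD2_c32 LD3_c5)) :=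
  Lgr Lrot3 (Lpr_ft (K49.f373032 IH) (Lpn (LP (LK LD1_c8 LD2_c32 LD3_c5))))
theorem f374783 : Led Lsl_at (LP (LK LD1_c15 LD2_c57 LD3_c32)) = (LP (LK LD1_c25 LD2_c29 LD3_c54)) :=
  Lgr Lrot66 (Lpr_ff (f374781 IH) (Lpe (f369307 IH) (Lpe (K27.f373024 IH) (Lpn (LP (LK LD1_c25 LD2_c29 LD3_c54))))))
theorem f218177 : Led Lsl_gt (LP (LK LD1_c8 LD2_c32 LD3_c5)) = (LP (LK LD1_c16 LD2_c1 LD3_c26)) :=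
  Lre_g IH (LK LD1_c8 LD2_c32 LD3_c5) (LK LD1_c16 LD2_c1 LD3_c26) Lrfl Lrfl
theorem f374787 : Led Lsl_gf (LP (LK LD1_c25 LD2_c29 LD3_c54)) = (LP (LK LD1_c16 LD2_c1 LD3_c26)) :=
  Lgr Lrot76 (Lpe (f374783 IH) (Lpr_ff (f374781 IH) (Lpr_gt (f218177 IH) (Lpn (LP (LK LD1_c16 LD2_c1 LD3_c26))))))
theorem f620908 : Led Lsl_ff (LP (LK LD1_c25 LD2_c35 LD3_c56)) = (LP (LK LD1_c16 LD2_c1 LD3_c26)) :=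
  Lgr Lrot52 (Lpr_at (f620729 IH) (Lpe (f373029 IH) (Lpr_gf (f374787 IH) (Lpn (LP (LK LD1_c16 LD2_c1 LD3_c26))))))
theorem f620915 : Led Lsl_ft (LP (LK LD1_c25 LD2_c35 LD3_c56)) = (LP (LK LD1_c16 LD2_c1 LD3_c26)) :=
  Lgr Lrot48 (Lpr_ff (f620908 IH) (Lpn (LP (LK LD1_c16 LD2_c1 LD3_c26))))
theorem f620711 : Led Lsl_ft (LP (LK LD1_c25 LD2_c35 LD3_c33)) = (LP (LK LD1_c15 LD2_c40 LD3_c25)) :=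
  Lre_f IH (LK LD1_c25 LD2_c35 LD3_c33) (LK LD1_c15 LD2_c40 LD3_c25) Lrfl Lrfl
theorem f620917 : Led Lsl_cf (LP (LK LD1_c25 LD2_c35 LD3_c33)) = (LP (LK LD1_c16 LD2_c1 LD3_c26)) :=
  Lgr Lrot108 (Lpr_ft (f620711 IH) (Lpr_ct (f417202 IH) (Lpr_ft (f620915 IH) (Lpn (LP (LK LD1_c16 LD2_c1 LD3_c26))))))
theorem f620931 : Led Lsl_bt (LP (LK LD1_c25 LD2_c35 LD3_c33)) = (LP (LK LD1_c15 LD2_c40 LD3_c11)) :=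
  Lre_b IH (LK LD1_c25 LD2_c35 LD3_c33) (LK LD1_c15 LD2_c40 LD3_c11) Lrfl Lrfl
theorem f218176 : Led Lsl_bt (LP (LK LD1_c4 LD2_c16 LD3_c27)) = (LP (LK LD1_c8 LD2_c32 LD3_c5)) :=
  Lre_b IH (LK LD1_c4 LD2_c16 LD3_c27) (LK LD1_c8 LD2_c32 LD3_c5) Lrfl Lrfl
theorem f396956 : Led Lsl_bt (LP (LK LD1_c15 LD2_c35 LD3_c30)) = (LP (LK LD1_c25 LD2_c29 LD3_c38)) :=
  Lre_b IH (LK LD1_c15 LD2_c35 LD3_c30) (LK LD1_c25 LD2_c29 LD3_c38) Lrfl Lrfl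
theorem f396957 : Led Lsl_ct (LP (LK LD1_c8 LD2_c32 LD3_c5)) = (LP (LK LD1_c15 LD2_c35 LD3_c30)) :=
  Lgr Lrot83 (Lpe (f218176 IH) (Lpr_cf (K16.f218174 IH) (Lpe (K38.f218178 IH) (Lpr_cf (K38.f396954 IH) (Lpe (f396956 IH) (Lpn (LP (LK LD1_c15 LD2_c35 LD3_c30))))))))
theorem f620503 : Led Lsl_gt (LP (LK LD1_c15 LD2_c35 LD3_c30)) = (LP (LK LD1_c15 LD2_c37 LD3_c59)) :=
  Lgr Lrot150 (Lpe (f396957 IH) (Lpe (f170475 IH) (Lpr_df (f620499 IH) (Lpr_gt (f255628 IH) (Lpr_ct (K38.f234006 IH) (Lpr_gt (K38.f274 IH) (Lpr_ct (K38.f299311 IH) (Lpe (K38.f400797 IH) (Lpe (K38.f366330 IH) (Lpn (LP (LK LD1_c15 LD2_c37 LD3_c59))))))))))))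
theorem f232700 : Led Lsl_dt (LP (LK LD1_c9 LD2_c37 LD3_c14)) = (LP (LK LD1_c17 LD2_c42 LD3_c48)) :=
  Lre_d IH (LK LD1_c9 LD2_c37 LD3_c14) (LK LD1_c17 LD2_c42 LD3_c48) Lrfl Lrfl
theorem f397167 : Led Lsl_ct (LP (LK LD1_c15 LD2_c33 LD3_c58)) = (LP (LK LD1_c17 LD2_c42 LD3_c46)) :=
  Lgr Lrot40 (Lpe (K38.f397113 IH) (Lpe (f167276 IH) (Lpr_ff (K38.f397162 IH) (Lpn (LP (LK LD1_c17 LD2_c42 LD3_c46))))))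
theorem f620459 : Led Lsl_gf (LP (LK LD1_c15 LD2_c35 LD3_c34)) = (LP (LK LD1_c15 LD2_c37 LD3_c59)) :=
  Lgr Lrot143 (Lpr_dt (K27.f263825 IH) (Lpe (K27.f220080 IH) (Lpe (K38.f263840 IH) (Lpr_gf (K49.f620453 IH) (Lpe (f232700 IH) (Lpe (K38.f232698 IH) (Lpe (f397167 IH) (Lpe (K41.f372596 IH) (Lpr_dt (K38.f366326 IH) (Lpn (LP (LK LD1_c15 LD2_c37 LD3_c59))))))))))))
theorem f620382 : Led Lsl_at (LP (LK LD1_c15 LD2_c37 LD3_c61)) = (LP (LK LD1_c15 LD2_c35 LD3_c34)) :=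
  Lgr Lrot107 (Lpr_cf (K49.f620380 IH) (Lpe (K49.f373017 IH) (Lpe (K31.f263847 IH) (Lpn (LP (LK LD1_c15 LD2_c35 LD3_c34))))))
theorem f620506 : Led Lsl_ft (LP (LK LD1_c15 LD2_c35 LD3_c30)) = (LP (LK LD1_c15 LD2_c37 LD3_c61)) :=
  Lgr Lrot2 (Lpr_gt (f620503 IH) (Lpe (f620459 IH) (Lpe (f620382 IH) (Lpn (LP (LK LD1_c15 LD2_c37 LD3_c61))))))
theorem f620402 : Led Lsl_at (LP (LK LD1_c15 LD2_c38 LD3_c0)) = (LP (LK LD1_c15 LD2_c35 LD3_c30)) :=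
  Lgr Lrot107 (Lpr_cf (K49.f620400 IH) (Lpe (K49.f373031 IH) (Lpr_cf (K38.f396962 IH) (Lpn (LP (LK LD1_c15 LD2_c35 LD3_c30))))))
theorem f620509 : Led Lsl_ff (LP (LK LD1_c15 LD2_c38 LD3_c0)) = (LP (LK LD1_c15 LD2_c35 LD3_c34)) :=
  Lgr Lrot30 (Lpr_at (f620402 IH) (Lpr_ft (f620506 IH) (Lpr_at (f620382 IH) (Lpn (LP (LK LD1_c15 LD2_c35 LD3_c34))))))
theorem f620511 : Led Lsl_gf (LP (LK LD1_c15 LD2_c33 LD3_c61)) = (LP (LK LD1_c15 LD2_c35 LD3_c34)) :=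
  Lgr Lrot47 (Lpr_gt (K49.f550075 IH) (Lpe (f620402 IH) (Lpr_ff (f620509 IH) (Lpn (LP (LK LD1_c15 LD2_c35 LD3_c34))))))
theorem f232686 : Led Lsl_ct (LP (LK LD1_c15 LD2_c33 LD3_c61)) = (LP (LK LD1_c25 LD2_c27 LD3_c41)) :=
  Lre_c IH (LK LD1_c15 LD2_c33 LD3_c61) (LK LD1_c25 LD2_c27 LD3_c41) Lrfl Lrfl
theorem f400492 : Led Lsl_df (LP (LK LD1_c17 LD2_c37 LD3_c51)) = (LP (LK LD1_c25 LD2_c27 LD3_c41)) :=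
  Lgr Lrot38 (Lpr_dt (K38.f400490 IH) (Lpn (LP (LK LD1_c25 LD2_c27 LD3_c41))))
theorem f191973 : Led Lsl_gt (LP (LK LD1_c9 LD2_c34 LD3_c5)) = (LP (LK LD1_c17 LD2_c37 LD3_c10)) :=
  Lre_g IH (LK LD1_c9 LD2_c34 LD3_c5) (LK LD1_c17 LD2_c37 LD3_c10) Lrfl Lrfl
theorem f349103 : Led Lsl_gf (LP (LK LD1_c25 LD2_c47 LD3_c18)) = (LP (LK LD1_c17 LD2_c37 LD3_c10)) :=
  Lgr Lrot76 (Lpe (K26.f167410 IH) (Lpr_ff (K26.f349083 IH) (Lpr_gt (f191973 IH) (Lpn (LP (LK LD1_c17 LD2_c37 LD3_c10))))))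
theorem f620517 : Led Lsl_dt (LP (LK LD1_c17 LD2_c37 LD3_c10)) = (LP (LK LD1_c16 LD2_c1 LD3_c26)) :=
  Lgr Lrot6 (Lpe (f349103 IH) (Lpr_ct (K26.f167411 IH) (Lpr_gt (K38.f349502 IH) (Lpr_ct (K38.f349505 IH) (Lpr_df (f400492 IH) (Lpe (f232686 IH) (Lpr_gf (f620511 IH) (Lpe (K27.f263824 IH) (Lpr_gf (f374787 IH) (Lpn (LP (LK LD1_c16 LD2_c1 LD3_c26))))))))))))
theorem f191972 : Led Lsl_bt (LP (LK LD1_c4 LD2_c51 LD3_c1)) = (LP (LK LD1_c9 LD2_c34 LD3_c5)) :=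
  Lre_b IH (LK LD1_c4 LD2_c51 LD3_c1) (LK LD1_c9 LD2_c34 LD3_c5) Lrfl Lrfl
theorem f620932 : Led Lsl_gt (LP (LK LD1_c15 LD2_c40 LD3_c11)) = (LP (LK LD1_c15 LD2_c35 LD3_c17)) :=
  Lgr Lrot190 (Lpe (f620931 IH) (Lpr_cf (f620917 IH) (Lpe (f620517 IH) (Lpe (f191973 IH) (Lpe (f191972 IH) (Lpe (K18.f2096 IH) (Lpe (K10.f191718 IH) (Lpe (K11.f191968 IH) (Lpe (K10.f45771 IH) (Lpe (K10.f53816 IH) (Lpe (K12.f53774 IH) (Lpe (K12.f221994 IH) (Lpe (K12.f166632 IH) (Lpe (K9.f167032 IH) (Lpr_df (K9.f167070 IH) (Lpe (K9.f167076 IH) (Lpe (K15.f167078 IH) (Lpe (K15.f220060 IH) (Lpe (f220327 IH) (Lpn (LP (LK LD1_c15 LD2_c35 LD3_c17))))))))))))))))))))))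
theorem f620944 : Led Lsl_dt (LP (LK LD1_c8 LD2_c19 LD3_c41)) = (LP (LK LD1_c15 LD2_c40 LD3_c11)) :=
  Lre_d IH (LK LD1_c8 LD2_c19 LD3_c41) (LK LD1_c15 LD2_c40 LD3_c11) Lrfl Lrfl
theorem f2364 : Led Lsl_bt (LP (LK LD1_c4 LD2_c52 LD3_c31)) = (LP (LK LD1_c2 LD2_c23 LD3_c61)) :=
  Lre_b IH (LK LD1_c4 LD2_c52 LD3_c31) (LK LD1_c2 LD2_c23 LD3_c61) Lrfl Lrfl
theorem f620617 : Led Lsl_bt (LP (LK LD1_c15 LD2_c40 LD3_c10)) = (LP (LK LD1_c8 LD2_c19 LD3_c41)) :=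
  Lre_b IH (LK LD1_c15 LD2_c40 LD3_c10) (LK LD1_c8 LD2_c19 LD3_c41) Lrfl Lrfl
theorem f620964 : Led Lsl_cf (LP (LK LD1_c4 LD2_c52 LD3_c31)) = (LP (LK LD1_c8 LD2_c19 LD3_c41)) :=
  Lgr Lrot97 (Lpr_bt (f2364 IH) (Lpr_ct (K49.f2360 IH) (Lpr_bt (K38.f232689 IH) (Lpr_ct (f620653 IH) (Lpr_bt (f620617 IH) (Lpn (LP (LK LD1_c8 LD2_c19 LD3_c41))))))))
theorem f620978 : Led Lsl_ct (LP (LK LD1_c4 LD2_c52 LD3_c31)) = (LP (LK LD1_c8 LD2_c19 LD3_c41)) :=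
  Lgr Lrot59 (Lpr_cf (f620964 IH) (Lpn (LP (LK LD1_c8 LD2_c19 LD3_c41))))
theorem f51621 : Led Lsl_bt (LP (LK LD1_c2 LD2_c3 LD3_c9)) = (LP (LK LD1_c0 LD2_c58 LD3_c29)) :=
  Lre_b IH (LK LD1_c2 LD2_c3 LD3_c9) (LK LD1_c0 LD2_c58 LD3_c29) Lrfl Lrfl
theorem f52039 : Led Lsl_ct (LP (LK LD1_c2 LD2_c3 LD3_c9)) = (LP (LK LD1_c4 LD2_c9 LD3_c51)) :=
  Lre_c IH (LK LD1_c2 LD2_c3 LD3_c9) (LK LD1_c4 LD2_c9 LD3_c51) Lrfl Lrfl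
theorem f620984 : Led Lsl_gf (LP (LK LD1_c4 LD2_c9 LD3_c51)) = (LP (LK LD1_c8 LD2_c19 LD3_c41)) :=
  Lgr Lrot126 (Lpe (f52039 IH) (Lpr_bt (f51621 IH) (Lpr_gt (K13.f53367 IH) (Lpe (K38.f237777 IH) (Lpr_gt (K13.f267 IH) (Lpe (K9.f251 IH) (Lpr_bt (K20.f2249 IH) (Lpr_gt (K38.f2752 IH) (Lpe (f2364 IH) (Lpr_ct (f620978 IH) (Lpn (LP (LK LD1_c8 LD2_c19 LD3_c41)))))))))))))
theorem f52077 : Led Lsl_at (LP (LK LD1_c8 LD2_c19 LD3_c40)) = (LP (LK LD1_c4 LD2_c9 LD3_c51)) :=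
  Lre_a IH (LK LD1_c8 LD2_c19 LD3_c40) (LK LD1_c4 LD2_c9 LD3_c51) Lrfl Lrfl
theorem f1153 : Led Lsl_ft (LP (LK LD1_c4 LD2_c9 LD3_c49)) = (LP (LK LD1_c8 LD2_c19 LD3_c40)) :=
  Lre_f IH (LK LD1_c4 LD2_c9 LD3_c49) (LK LD1_c8 LD2_c19 LD3_c40) Lrfl Lrfl
theorem f620986 : Led Lsl_gt (LP (LK LD1_c4 LD2_c9 LD3_c49)) = (LP (LK LD1_c8 LD2_c19 LD3_c41)) :=
  Lgr Lrot5 (Lpr_ft (f1153 IH) (Lpr_at (f52077 IH) (Lpr_gf (f620984 IH) (Lpn (LP (LK LD1_c8 LD2_c19 LD3_c41))))))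
def v4104 : LQ := Led Lsl_gt (LP (LK LD1_c2 LD2_c3 LD3_c7))
theorem f629449 : Led Lsl_gt (LP (LK LD1_c2 LD2_c3 LD3_c7)) = v4104 :=
  Lrfl
theorem f693408 : Led Lsl_dt v4104 = v12536 :=
  Lgr Lrot57 (Lpe (f629449 IH) (Lpe (K30.f1130 IH) (Lpr_gt (f620986 IH) (Lpr_dt (f620944 IH) (Lpr_gt (f620932 IH) (Lpr_dt (f220327 IH) (Lpr_cf (K15.f220325 IH) (Lpr_df (f295677 IH) (Lpr_gf (f693406 IH) (Lpn v12536))))))))))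
theorem f1102 : Led Lsl_at (LP (LK LD1_c2 LD2_c6 LD3_c32)) = (LP (LK LD1_c1 LD2_c0 LD3_c14)) :=
  Lre_a IH (LK LD1_c2 LD2_c6 LD3_c32) (LK LD1_c1 LD2_c0 LD3_c14) Lrfl Lrfl
theorem f1103 : Led Lsl_et (LP (LK LD1_c2 LD2_c3 LD3_c7)) = (LP (LK LD1_c2 LD2_c6 LD3_c32)) :=
  Lgr Lrot123 (Lpe (K30.f1101 IH) (Lpr_ef (K30.f1083 IH) (Lpe (f1102 IH) (Lpn (LP (LK LD1_c2 LD2_c6 LD3_c32))))))
theorem f1134 : Led Lsl_ef (LP (LK LD1_c2 LD2_c3 LD3_c7)) = (LP (LK LD1_c2 LD2_c6 LD3_c32)) :=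
  Lgr Lrot88 (Lpr_et (f1103 IH) (Lpn (LP (LK LD1_c2 LD2_c6 LD3_c32))))
theorem f51775 : Led Lsl_gt (LP (LK LD1_c2 LD2_c3 LD3_c5)) = (LP (LK LD1_c4 LD2_c11 LD3_c46)) :=
  Lre_g IH (LK LD1_c2 LD2_c3 LD3_c5) (LK LD1_c4 LD2_c11 LD3_c46) Lrfl Lrfl
theorem f51789 : Led Lsl_dt (LP (LK LD1_c4 LD2_c11 LD3_c50)) = (LP (LK LD1_c2 LD2_c3 LD3_c5)) :=
  Lre_d IH (LK LD1_c4 LD2_c11 LD3_c50) (LK LD1_c2 LD2_c3 LD3_c5) Lrfl Lrfl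
theorem f51815 : Led Lsl_et (LP (LK LD1_c4 LD2_c11 LD3_c50)) = (LP (LK LD1_c8 LD2_c23 LD3_c23)) :=
  Lre_e IH (LK LD1_c4 LD2_c11 LD3_c50) (LK LD1_c8 LD2_c23 LD3_c23) Lrfl Lrfl
theorem f693409 : Led Lsl_gt (LP (LK LD1_c8 LD2_c21 LD3_c3)) = (LP (LK LD1_c8 LD2_c23 LD3_c23)) :=
  Lgr Lrot131 (Lpe (f220329 IH) (Lpr_dt (K38.f179575 IH) (Lpr_gf (f693406 IH) (Lpe (f693408 IH) (Lpe (f629449 IH) (Lpr_ef (f1134 IH) (Lpr_dt (K30.f51746 IH) (Lpe (f51775 IH) (Lpe (f51789 IH) (Lpr_et (f51815 IH) (Lpn (LP (LK LD1_c8 LD2_c23 LD3_c23)))))))))))))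
theorem f693410 : Led Lsl_gt (LP (LK LD1_c8 LD2_c21 LD3_c3)) = (LP (LK LD1_c8 LD2_c23 LD3_c23)) :=
  Leop (Lpe (f693409 IH) (Lpn (LP (LK LD1_c8 LD2_c21 LD3_c3))))
theorem seed_618 : LEOK LG_g (LK LD1_c8 LD2_c21 LD3_c3) :=
  Leoe_g (LK LD1_c8 LD2_c21 LD3_c3) (f693410 IH)
theorem f693411 : Led Lsl_df v4104 = v12536 :=
  Lgr Lrot38 (Lpr_dt (f693408 IH) (Lpn v12536))
theorem f1144 : Led Lsl_ft (LP (LK LD1_c2 LD2_c3 LD3_c7)) = (LP (LK LD1_c4 LD2_c11 LD3_c46)) :=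
  Lre_f IH (LK LD1_c2 LD2_c3 LD3_c7) (LK LD1_c4 LD2_c11 LD3_c46) Lrfl Lrfl
theorem f629450 : Led Lsl_gf (LP (LK LD1_c2 LD2_c3 LD3_c9)) = v4104 :=
  Lgr Lrot76 (Lpe (K30.f51745 IH) (Lpe (f1144 IH) (Lpr_gt (f629449 IH) (Lpn v4104))))
theorem f1060 : Led Lsl_dt (LP (LK LD1_c4 LD2_c16 LD3_c32)) = (LP (LK LD1_c2 LD2_c5 LD3_c33)) :=
  Lre_d IH (LK LD1_c4 LD2_c16 LD3_c32) (LK LD1_c2 LD2_c5 LD3_c33) Lrfl Lrfl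
theorem f1069 : Led Lsl_gt (LP (LK LD1_c8 LD2_c32 LD3_c17)) = (LP (LK LD1_c4 LD2_c16 LD3_c32)) :=
  Lre_g IH (LK LD1_c8 LD2_c32 LD3_c17) (LK LD1_c4 LD2_c16 LD3_c32) Lrfl Lrfl
theorem f400595 : Led Lsl_af (LP (LK LD1_c4 LD2_c17 LD3_c5)) = (LP (LK LD1_c8 LD2_c23 LD3_c21)) :=
  Lgr Lrot0 (Lpr_at (K40.f400513 IH) (Lpn (LP (LK LD1_c8 LD2_c23 LD3_c21))))
theorem f693407 : Led Lsl_gt (LP (LK LD1_c5 LD2_c30 LD3_c59)) = v12536 :=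
  Lgr Lrot5 (Lpr_ft (K40.f400615 IH) (Lpe (f400595 IH) (Lpr_gf (f693406 IH) (Lpn v12536))))
theorem f295656 : Led Lsl_ct (LP (LK LD1_c5 LD2_c30 LD3_c59)) = (LP (LK LD1_c10 LD2_c52 LD3_c4)) :=
  Lre_c IH (LK LD1_c5 LD2_c30 LD3_c59) (LK LD1_c10 LD2_c52 LD3_c4) Lrfl Lrfl
theorem f400610 : Led Lsl_ft (LP (LK LD1_c10 LD2_c52 LD3_c4)) = (LP (LK LD1_c15 LD2_c46 LD3_c46)) :=
  Lgr Lrot4 (Lpe (f295656 IH) (Lpr_ff (K40.f400606 IH) (Lpe (K40.f400554 IH) (Lpn (LP (LK LD1_c15 LD2_c46 LD3_c46))))))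
theorem f400599 : Led Lsl_af (LP (LK LD1_c8 LD2_c30 LD3_c17)) = (LP (LK LD1_c15 LD2_c46 LD3_c46)) :=
  Lgr Lrot68 (Lpr_ct (K38.f243267 IH) (Lpr_at (K40.f400513 IH) (Lpr_ct (K40.f400534 IH) (Lpn (LP (LK LD1_c15 LD2_c46 LD3_c46))))))
theorem f243497 : Led Lsl_gt (LP (LK LD1_c15 LD2_c58 LD3_c12)) = (LP (LK LD1_c8 LD2_c30 LD3_c17)) :=
  Lre_g IH (LK LD1_c15 LD2_c58 LD3_c12) (LK LD1_c8 LD2_c30 LD3_c17) Lrfl Lrfl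
theorem f400749 : Led Lsl_gt (LP (LK LD1_c10 LD2_c52 LD3_c4)) = (LP (LK LD1_c15 LD2_c58 LD3_c12)) :=
  Lgr Lrot5 (Lpr_ft (f400610 IH) (Lpe (f400599 IH) (Lpe (f243497 IH) (Lpn (LP (LK LD1_c15 LD2_c58 LD3_c12))))))
theorem f693412 : Led Lsl_df (LP (LK LD1_c8 LD2_c32 LD3_c17)) = (LP (LK LD1_c15 LD2_c58 LD3_c12)) :=
  Lgr Lrot153 (Lpr_gt (f1069 IH) (Lpr_dt (f1060 IH) (Lpe (K30.f1054 IH) (Lpr_df (K30.f51731 IH) (Lpr_gf (f629450 IH) (Lpr_df (f693411 IH) (Lpe (f693407 IH) (Lpe (K38.f295664 IH) (Lpr_gt (f400749 IH) (Lpn (LP (LK LD1_c15 LD2_c58 LD3_c12))))))))))))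
theorem f693413 : Led Lsl_dt (LP (LK LD1_c15 LD2_c58 LD3_c12)) = (LP (LK LD1_c8 LD2_c32 LD3_c17)) :=
  Leop (Lpr_df (f693412 IH) (Lpn (LP (LK LD1_c15 LD2_c58 LD3_c12))))
theorem seed_619 : LEOK LG_d (LK LD1_c15 LD2_c58 LD3_c12) :=
  Leoe_d (LK LD1_c15 LD2_c58 LD3_c12) (f693413 IH)
def v12600 : LQ := Led Lsl_at (LP (LK LD1_c4 LD2_c18 LD3_c24))
theorem f693734 : Led Lsl_at (LP (LK LD1_c4 LD2_c18 LD3_c24)) = v12600 :=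
  Lrfl
theorem f51753 : Led Lsl_ct (LP (LK LD1_c2 LD2_c6 LD3_c30)) = (LP (LK LD1_c4 LD2_c18 LD3_c24)) :=
  Lre_c IH (LK LD1_c2 LD2_c6 LD3_c30) (LK LD1_c4 LD2_c18 LD3_c24) Lrfl Lrfl
def v4133 : LQ := Led Lsl_at (LP (LK LD1_c2 LD2_c6 LD3_c30))
theorem f631374 : Led Lsl_at (LP (LK LD1_c2 LD2_c6 LD3_c30)) = v4133 :=
  Lrfl
theorem f631375 : Led Lsl_af (LP (LK LD1_c2 LD2_c6 LD3_c30)) = v4133 :=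
  Lgr Lrot0 (Lpr_at (f631374 IH) (Lpn v4133))
theorem f693737 : Led Lsl_cf v4133 = v12600 :=
  Lgr Lrot1 (Lpe (f631375 IH) (Lpr_ct (f51753 IH) (Lpr_at (f693734 IH) (Lpn v12600))))
theorem f631378 : Led Lsl_ft (LP (LK LD1_c2 LD2_c6 LD3_c31)) = v4133 :=
  Lgr Lrot2 (Lpr_gt (K41.f1213 IH) (Lpr_gt (K30.f1216 IH) (Lpr_af (f631375 IH) (Lpn v4133))))
theorem f631379 : Led Lsl_ff (LP (LK LD1_c2 LD2_c6 LD3_c31)) = v4133 :=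
  Lgr Lrot3 (Lpr_ft (f631378 IH) (Lpn v4133))
theorem f52062 : Led Lsl_ct (LP (LK LD1_c2 LD2_c6 LD3_c31)) = (LP (LK LD1_c4 LD2_c18 LD3_c28)) :=
  Lre_c IH (LK LD1_c2 LD2_c6 LD3_c31) (LK LD1_c4 LD2_c18 LD3_c28) Lrfl Lrfl
theorem f693739 : Led Lsl_ft (LP (LK LD1_c4 LD2_c18 LD3_c28)) = v12600 :=
  Lgr Lrot4 (Lpe (f52062 IH) (Lpr_ff (f631379 IH) (Lpr_cf (f693737 IH) (Lpn v12600))))
theorem f693735 : Led Lsl_af (LP (LK LD1_c4 LD2_c18 LD3_c24)) = v12600 :=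
  Lgr Lrot0 (Lpr_at (f693734 IH) (Lpn v12600))
theorem f52128 : Led Lsl_gt (LP (LK LD1_c8 LD2_c35 LD3_c37)) = (LP (LK LD1_c4 LD2_c18 LD3_c24)) :=
  Lre_g IH (LK LD1_c8 LD2_c35 LD3_c37) (LK LD1_c4 LD2_c18 LD3_c24) Lrfl Lrfl
theorem f693741 : Led Lsl_gt (LP (LK LD1_c4 LD2_c18 LD3_c28)) = (LP (LK LD1_c8 LD2_c35 LD3_c37)) :=
  Lgr Lrot5 (Lpr_ft (f693739 IH) (Lpe (f693735 IH) (Lpe (f52128 IH) (Lpn (LP (LK LD1_c8 LD2_c35 LD3_c37))))))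
theorem f693742 : Led Lsl_gt (LP (LK LD1_c4 LD2_c18 LD3_c28)) = (LP (LK LD1_c8 LD2_c35 LD3_c37)) :=
  Leop (Lpe (f693741 IH) (Lpn (LP (LK LD1_c4 LD2_c18 LD3_c28))))
theorem seed_620 : LEOK LG_g (LK LD1_c4 LD2_c18 LD3_c28) :=
  Leoe_g (LK LD1_c4 LD2_c18 LD3_c28) (f693742 IH)
def v12624 : LQ := Led Lsl_at (LP (LK LD1_c4 LD2_c18 LD3_c52))
theorem f693842 : Led Lsl_at (LP (LK LD1_c4 LD2_c18 LD3_c52)) = v12624 :=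
  Lrfl
theorem f693843 : Led Lsl_af (LP (LK LD1_c4 LD2_c18 LD3_c52)) = v12624 :=
  Lgr Lrot0 (Lpr_at (f693842 IH) (Lpn v12624))
theorem f693846 : Led Lsl_ft (LP (LK LD1_c4 LD2_c18 LD3_c53)) = v12624 :=
  Lgr Lrot2 (Lpr_gt (K25.f171465 IH) (Lpr_gt (K19.f171447 IH) (Lpr_af (f693843 IH) (Lpn v12624))))
def v12491 : LQ := Led Lsl_at (LP (LK LD1_c4 LD2_c12 LD3_c29))
theorem f692429 : Led Lsl_at (LP (LK LD1_c4 LD2_c12 LD3_c29)) = v12491 :=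
  Lrfl
theorem f692430 : Led Lsl_af (LP (LK LD1_c4 LD2_c12 LD3_c29)) = v12491 :=
  Lgr Lrot0 (Lpr_at (f692429 IH) (Lpn v12491))
theorem f693844 : Led Lsl_ef v12491 = v12624 :=
  Lgr Lrot20 (Lpe (f692430 IH) (Lpr_et (K19.f304583 IH) (Lpr_at (f693842 IH) (Lpn v12624))))
theorem f692431 : Led Lsl_ft (LP (LK LD1_c4 LD2_c12 LD3_c30)) = v12491 :=
  Lgr Lrot2 (Lpr_gt (K14.f166877 IH) (Lpr_gt (K19.f166862 IH) (Lpr_af (f692430 IH) (Lpn v12491))))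
theorem f692432 : Led Lsl_ff (LP (LK LD1_c4 LD2_c12 LD3_c30)) = v12491 :=
  Lgr Lrot3 (Lpr_ft (f692431 IH) (Lpn v12491))
theorem f693847 : Led Lsl_ff (LP (LK LD1_c8 LD2_c36 LD3_c32)) = (LP (LK LD1_c8 LD2_c24 LD3_c44)) :=
  Lgr Lrot72 (Lpr_et (K21.f171507 IH) (Lpr_ft (f693846 IH) (Lpe (f693844 IH) (Lpe (f692432 IH) (Lpr_et (K21.f189467 IH) (Lpn (LP (LK LD1_c8 LD2_c24 LD3_c44))))))))
theorem f693848 : Led Lsl_ft (LP (LK LD1_c8 LD2_c24 LD3_c44)) = (LP (LK LD1_c8 LD2_c36 LD3_c32)) :=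
  Leop (Lpr_ff (f693847 IH) (Lpn (LP (LK LD1_c8 LD2_c24 LD3_c44))))
theorem seed_621 : LEOK LG_f (LK LD1_c8 LD2_c24 LD3_c44) :=
  Leoe_f (LK LD1_c8 LD2_c24 LD3_c44) (f693848 IH)
def v12626 : LQ := Led Lsl_bt (LP (LK LD1_c4 LD2_c19 LD3_c0))
theorem f694821 : Led Lsl_bt (LP (LK LD1_c4 LD2_c19 LD3_c0)) = v12626 :=
  Lrfl
theorem f694822 : Led Lsl_bf (LP (LK LD1_c4 LD2_c19 LD3_c0)) = v12626 :=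
  Lgr Lrot24 (Lpr_bt (f694821 IH) (Lpn v12626))
theorem f171197 : Led Lsl_gt (LP (LK LD1_c2 LD2_c6 LD3_c48)) = (LP (LK LD1_c4 LD2_c19 LD3_c0)) :=
  Lre_g IH (LK LD1_c2 LD2_c6 LD3_c48) (LK LD1_c4 LD2_c19 LD3_c0) Lrfl Lrfl
theorem f178354 : Led Lsl_at (LP (LK LD1_c2 LD2_c3 LD3_c55)) = (LP (LK LD1_c4 LD2_c13 LD3_c18)) :=
  Lre_a IH (LK LD1_c2 LD2_c3 LD3_c55) (LK LD1_c4 LD2_c13 LD3_c18) Lrfl Lrfl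
theorem f304803 : Led Lsl_gt (LP (LK LD1_c4 LD2_c19 LD3_c0)) = (LP (LK LD1_c4 LD2_c13 LD3_c18)) :=
  Lgr Lrot46 (Lpe (f171197 IH) (Lpr_ft (K19.f304797 IH) (Lpr_at (f178354 IH) (Lpn (LP (LK LD1_c4 LD2_c13 LD3_c18))))))
theorem f178378 : Led Lsl_ct (LP (LK LD1_c4 LD2_c13 LD3_c18)) = (LP (LK LD1_c8 LD2_c25 LD3_c32)) :=
  Lre_c IH (LK LD1_c4 LD2_c13 LD3_c18) (LK LD1_c8 LD2_c25 LD3_c32) Lrfl Lrfl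
def v12620 : LQ := Led Lsl_gf (LP (LK LD1_c4 LD2_c18 LD3_c49))
theorem f693816 : Led Lsl_gf (LP (LK LD1_c4 LD2_c18 LD3_c49)) = v12620 :=
  Lrfl
theorem f179607 : Led Lsl_ct (LP (LK LD1_c2 LD2_c6 LD3_c48)) = (LP (LK LD1_c4 LD2_c18 LD3_c49)) :=
  Lre_c IH (LK LD1_c2 LD2_c6 LD3_c48) (LK LD1_c4 LD2_c18 LD3_c49) Lrfl Lrfl
theorem f167655 : Led Lsl_bt (LP (LK LD1_c1 LD2_c0 LD3_c2)) = (LP (LK LD1_c2 LD2_c6 LD3_c6)) :=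
  Lre_b IH (LK LD1_c1 LD2_c0 LD3_c2) (LK LD1_c2 LD2_c6 LD3_c6) Lrfl Lrfl
def v12544 : LQ := Led Lsl_bt (LP (LK LD1_c4 LD2_c17 LD3_c30))
theorem f693477 : Led Lsl_bt (LP (LK LD1_c4 LD2_c17 LD3_c30)) = v12544 :=
  Lrfl
theorem f693478 : Led Lsl_bf (LP (LK LD1_c4 LD2_c17 LD3_c30)) = v12544 :=
  Lgr Lrot24 (Lpr_bt (f693477 IH) (Lpn v12544))
theorem f693817 : Led Lsl_ct v12544 = v12620 :=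
  Lgr Lrot64 (Lpe (f693478 IH) (Lpe (K27.f167656 IH) (Lpe (f167655 IH) (Lpr_ct (K9.f7910 IH) (Lpe (K12.f167650 IH) (Lpe (K13.f167648 IH) (Lpe (K13.f237792 IH) (Lpe (K19.f179606 IH) (Lpr_ct (f179607 IH) (Lpr_gf (f693816 IH) (Lpn v12620)))))))))))
theorem f53151 : Led Lsl_bt (LP (LK LD1_c0 LD2_c58 LD3_c23)) = (LP (LK LD1_c2 LD2_c2 LD3_c60)) :=
  Lre_b IH (LK LD1_c0 LD2_c58 LD3_c23) (LK LD1_c2 LD2_c2 LD3_c60) Lrfl Lrfl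
theorem f170977 : Led Lsl_bt (LP (LK LD1_c2 LD2_c2 LD3_c28)) = (LP (LK LD1_c0 LD2_c58 LD3_c7)) :=
  Lre_b IH (LK LD1_c2 LD2_c2 LD3_c28) (LK LD1_c0 LD2_c58 LD3_c7) Lrfl Lrfl
theorem f170978 : Led Lsl_dt (LP (LK LD1_c2 LD2_c2 LD3_c60)) = (LP (LK LD1_c2 LD2_c2 LD3_c28)) :=
  Lgr Lrot79 (Lpe (f53151 IH) (Lpr_df (K9.f170972 IH) (Lpe (f170977 IH) (Lpn (LP (LK LD1_c2 LD2_c2 LD3_c28))))))
theorem f170989 : Led Lsl_at (LP (LK LD1_c2 LD2_c2 LD3_c28)) = (LP (LK LD1_c4 LD2_c10 LD3_c29)) :=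
  Lre_a IH (LK LD1_c2 LD2_c2 LD3_c28) (LK LD1_c4 LD2_c10 LD3_c29) Lrfl Lrfl
theorem f170990 : Led Lsl_df (LP (LK LD1_c4 LD2_c11 LD3_c36)) = (LP (LK LD1_c4 LD2_c10 LD3_c29)) :=
  Lgr Lrot18 (Lpr_at (K49.f170988 IH) (Lpr_dt (f170978 IH) (Lpr_at (f170989 IH) (Lpn (LP (LK LD1_c4 LD2_c10 LD3_c29))))))
theorem f171018 : Led Lsl_dt (LP (LK LD1_c4 LD2_c11 LD3_c36)) = (LP (LK LD1_c4 LD2_c10 LD3_c29)) :=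
  Lgr Lrot42 (Lpr_df (f170990 IH) (Lpn (LP (LK LD1_c4 LD2_c10 LD3_c29))))
theorem f166493 : Led Lsl_bt (LP (LK LD1_c2 LD2_c6 LD3_c6)) = (LP (LK LD1_c1 LD2_c0 LD3_c2)) :=
  Lre_b IH (LK LD1_c2 LD2_c6 LD3_c6) (LK LD1_c1 LD2_c0 LD3_c2) Lrfl Lrfl
theorem f170175 : Led Lsl_df (LP (LK LD1_c2 LD2_c6 LD3_c6)) = (LP (LK LD1_c2 LD2_c6 LD3_c13)) :=
  Lgr Lrot12 (Lpr_bt (f166493 IH) (Lpr_dt (K9.f170160 IH) (Lpr_bt (K27.f7931 IH) (Lpn (LP (LK LD1_c2 LD2_c6 LD3_c13))))))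
theorem f170203 : Led Lsl_at (LP (LK LD1_c2 LD2_c6 LD3_c6)) = (LP (LK LD1_c4 LD2_c17 LD3_c32)) :=
  Lre_a IH (LK LD1_c2 LD2_c6 LD3_c6) (LK LD1_c4 LD2_c17 LD3_c32) Lrfl Lrfl
theorem f170205 : Led Lsl_dt (LP (LK LD1_c4 LD2_c17 LD3_c32)) = (LP (LK LD1_c4 LD2_c17 LD3_c49)) :=
  Lgr Lrot44 (Lpe (f170203 IH) (Lpr_df (f170175 IH) (Lpe (K41.f170204 IH) (Lpn (LP (LK LD1_c4 LD2_c17 LD3_c49))))))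
theorem f404593 : Led Lsl_ft (LP (LK LD1_c4 LD2_c10 LD3_c29)) = (LP (LK LD1_c4 LD2_c17 LD3_c32)) :=
  Lgr Lrot54 (Lpe (f171018 IH) (Lpr_ff (K49.f403509 IH) (Lpe (f170205 IH) (Lpn (LP (LK LD1_c4 LD2_c17 LD3_c32))))))
theorem f170219 : Led Lsl_at (LP (LK LD1_c4 LD2_c17 LD3_c32)) = (LP (LK LD1_c2 LD2_c6 LD3_c6)) :=
  Lre_a IH (LK LD1_c4 LD2_c17 LD3_c32) (LK LD1_c2 LD2_c6 LD3_c6) Lrfl Lrfl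
theorem f404604 : Led Lsl_ff (LP (LK LD1_c2 LD2_c2 LD3_c28)) = (LP (LK LD1_c2 LD2_c6 LD3_c6)) :=
  Lgr Lrot30 (Lpr_at (f170989 IH) (Lpr_ft (f404593 IH) (Lpr_at (f170219 IH) (Lpn (LP (LK LD1_c2 LD2_c6 LD3_c6))))))
theorem f404640 : Led Lsl_gf (LP (LK LD1_c4 LD2_c10 LD3_c29)) = (LP (LK LD1_c4 LD2_c17 LD3_c30)) :=
  Lgr Lrot76 (Lpe (f170989 IH) (Lpr_ff (f404604 IH) (Lpr_gt (K27.f167656 IH) (Lpn (LP (LK LD1_c4 LD2_c17 LD3_c30))))))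
theorem f171024 : Led Lsl_ct (LP (LK LD1_c4 LD2_c10 LD3_c29)) = (LP (LK LD1_c8 LD2_c20 LD3_c48)) :=
  Lre_c IH (LK LD1_c4 LD2_c10 LD3_c29) (LK LD1_c8 LD2_c20 LD3_c48) Lrfl Lrfl
theorem f171017 : Led Lsl_ct (LP (LK LD1_c8 LD2_c20 LD3_c48)) = (LP (LK LD1_c4 LD2_c10 LD3_c29)) :=
  Lre_c IH (LK LD1_c8 LD2_c20 LD3_c48) (LK LD1_c4 LD2_c10 LD3_c29) Lrfl Lrfl
theorem f170233 : Led Lsl_ct (LP (LK LD1_c4 LD2_c17 LD3_c32)) = (LP (LK LD1_c8 LD2_c33 LD3_c57)) :=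
  Lre_c IH (LK LD1_c4 LD2_c17 LD3_c32) (LK LD1_c8 LD2_c33 LD3_c57) Lrfl Lrfl
theorem f404606 : Led Lsl_ff (LP (LK LD1_c8 LD2_c20 LD3_c48)) = (LP (LK LD1_c8 LD2_c33 LD3_c57)) :=
  Lgr Lrot23 (Lpr_ct (f171017 IH) (Lpr_ft (f404593 IH) (Lpr_ct (f170233 IH) (Lpn (LP (LK LD1_c8 LD2_c33 LD3_c57))))))
theorem f404610 : Led Lsl_ft (LP (LK LD1_c8 LD2_c20 LD3_c48)) = (LP (LK LD1_c8 LD2_c33 LD3_c57)) :=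
  Lgr Lrot48 (Lpr_ff (f404606 IH) (Lpn (LP (LK LD1_c8 LD2_c33 LD3_c57))))
theorem f170211 : Led Lsl_at (LP (LK LD1_c8 LD2_c33 LD3_c57)) = (LP (LK LD1_c4 LD2_c17 LD3_c24)) :=
  Lre_a IH (LK LD1_c8 LD2_c33 LD3_c57) (LK LD1_c4 LD2_c17 LD3_c24) Lrfl Lrfl
theorem f170185 : Led Lsl_gt (LP (LK LD1_c8 LD2_c33 LD3_c56)) = (LP (LK LD1_c4 LD2_c17 LD3_c24)) :=
  Lre_g IH (LK LD1_c8 LD2_c33 LD3_c56) (LK LD1_c4 LD2_c17 LD3_c24) Lrfl Lrfl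
theorem f404618 : Led Lsl_gt (LP (LK LD1_c8 LD2_c20 LD3_c48)) = (LP (LK LD1_c8 LD2_c33 LD3_c56)) :=
  Lgr Lrot5 (Lpr_ft (f404610 IH) (Lpr_at (f170211 IH) (Lpe (f170185 IH) (Lpn (LP (LK LD1_c8 LD2_c33 LD3_c56))))))
theorem f166494 : Led Lsl_ct (LP (LK LD1_c2 LD2_c6 LD3_c6)) = (LP (LK LD1_c4 LD2_c17 LD3_c24)) :=
  Lre_c IH (LK LD1_c2 LD2_c6 LD3_c6) (LK LD1_c4 LD2_c17 LD3_c24) Lrfl Lrfl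
theorem f166575 : Led Lsl_gt (LP (LK LD1_c2 LD2_c3 LD3_c36)) = (LP (LK LD1_c4 LD2_c12 LD3_c46)) :=
  Lre_g IH (LK LD1_c2 LD2_c3 LD3_c36) (LK LD1_c4 LD2_c12 LD3_c46) Lrfl Lrfl
theorem f170186 : Led Lsl_bt (LP (LK LD1_c8 LD2_c25 LD3_c0)) = (LP (LK LD1_c4 LD2_c12 LD3_c46)) :=
  Lre_b IH (LK LD1_c8 LD2_c25 LD3_c0) (LK LD1_c4 LD2_c12 LD3_c46) Lrfl Lrfl
theorem f170187 : Led Lsl_cf (LP (LK LD1_c8 LD2_c33 LD3_c56)) = (LP (LK LD1_c8 LD2_c25 LD3_c0)) :=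
  Lgr Lrot160 (Lpr_gt (f170185 IH) (Lpe (f166494 IH) (Lpr_bt (f166493 IH) (Lpr_gt (K14.f170180 IH) (Lpr_ct (K14.f166469 IH) (Lpr_gt (K14.f53325 IH) (Lpe (K9.f166993 IH) (Lpr_bt (K49.f166996 IH) (Lpr_gt (f166575 IH) (Lpe (f170186 IH) (Lpn (LP (LK LD1_c8 LD2_c25 LD3_c0)))))))))))))
def v4143 : LQ := Led Lsl_at (LP (LK LD1_c2 LD2_c7 LD3_c17))
theorem f631425 : Led Lsl_at (LP (LK LD1_c2 LD2_c7 LD3_c17)) = v4143 :=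
  Lrfl
theorem f179565 : Led Lsl_bt (LP (LK LD1_c2 LD2_c7 LD3_c17)) = (LP (LK LD1_c1 LD2_c0 LD3_c40)) :=
  Lre_b IH (LK LD1_c2 LD2_c7 LD3_c17) (LK LD1_c1 LD2_c0 LD3_c40) Lrfl Lrfl
theorem f304915 : Led Lsl_ff (LP (LK LD1_c2 LD2_c7 LD3_c17)) = (LP (LK LD1_c2 LD2_c3 LD3_c36)) :=
  Lgr Lrot25 (Lpr_bt (f179565 IH) (Lpr_ft (K19.f304911 IH) (Lpr_bt (K49.f166996 IH) (Lpn (LP (LK LD1_c2 LD2_c3 LD3_c36))))))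
theorem f631430 : Led Lsl_gt (LP (LK LD1_c4 LD2_c12 LD3_c46)) = v4143 :=
  Lgr Lrot46 (Lpe (f166575 IH) (Lpe (f304915 IH) (Lpr_at (f631425 IH) (Lpn v4143))))
def v4107 : LQ := Led Lsl_at (LP (LK LD1_c2 LD2_c3 LD3_c36))
theorem f629457 : Led Lsl_at (LP (LK LD1_c2 LD2_c3 LD3_c36)) = v4107 :=
  Lrfl
theorem f629458 : Led Lsl_af (LP (LK LD1_c2 LD2_c3 LD3_c36)) = v4107 :=
  Lgr Lrot0 (Lpr_at (f629457 IH) (Lpn v4107))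
theorem f631429 : Led Lsl_ff v4107 = v4143 :=
  Lgr Lrot30 (Lpe (f629458 IH) (Lpe (f304915 IH) (Lpr_at (f631425 IH) (Lpn v4143))))
def v4137 : LQ := Led Lsl_at (LP (LK LD1_c2 LD2_c6 LD3_c48))
theorem f631391 : Led Lsl_at (LP (LK LD1_c2 LD2_c6 LD3_c48)) = v4137 :=
  Lrfl
theorem f631393 : Led Lsl_bf v4107 = v4137 :=
  Lgr Lrot81 (Lpe (f629458 IH) (Lpr_bt (K49.f167074 IH) (Lpe (K19.f304913 IH) (Lpr_bt (K19.f171196 IH) (Lpr_at (f631391 IH) (Lpn v4137))))))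
theorem f631401 : Led Lsl_bt v4107 = v4137 :=
  Lgr Lrot127 (Lpr_bf (f631393 IH) (Lpn v4137))
theorem f178368 : Led Lsl_at (LP (LK LD1_c4 LD2_c13 LD3_c18)) = (LP (LK LD1_c2 LD2_c3 LD3_c55)) :=
  Lre_a IH (LK LD1_c4 LD2_c13 LD3_c18) (LK LD1_c2 LD2_c3 LD3_c55) Lrfl Lrfl
theorem f631395 : Led Lsl_ff (LP (LK LD1_c4 LD2_c13 LD3_c18)) = v4137 :=
  Lgr Lrot30 (Lpr_at (f178368 IH) (Lpe (K19.f304801 IH) (Lpr_at (f631391 IH) (Lpn v4137))))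
theorem f631431 : Led Lsl_bt (LP (LK LD1_c4 LD2_c13 LD3_c18)) = v4143 :=
  Lgr Lrot35 (Lpr_ff (f631395 IH) (Lpe (f631401 IH) (Lpr_ff (f631429 IH) (Lpn v4143))))
theorem f693820 : Led Lsl_gt (LP (LK LD1_c8 LD2_c25 LD3_c32)) = v12620 :=
  Lgr Lrot65 (Lpe (f178378 IH) (Lpr_bt (f631431 IH) (Lpe (f631430 IH) (Lpe (f170186 IH) (Lpe (f170187 IH) (Lpe (f404618 IH) (Lpe (f171024 IH) (Lpr_gf (f404640 IH) (Lpr_bf (f693478 IH) (Lpr_ct (f693817 IH) (Lpn v12620)))))))))))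
theorem f170903 : Led Lsl_ct (LP (LK LD1_c8 LD2_c22 LD3_c4)) = (LP (LK LD1_c4 LD2_c11 LD3_c14)) :=
  Lre_c IH (LK LD1_c8 LD2_c22 LD3_c4) (LK LD1_c4 LD2_c11 LD3_c14) Lrfl Lrfl
theorem f199835 : Led Lsl_bt (LP (LK LD1_c16 LD2_c6 LD3_c16)) = (LP (LK LD1_c8 LD2_c34 LD3_c59)) :=
  Lre_b IH (LK LD1_c16 LD2_c6 LD3_c16) (LK LD1_c8 LD2_c34 LD3_c59) Lrfl Lrfl
theorem f192385 : Led Lsl_bt (LP (LK LD1_c5 LD2_c21 LD3_c11)) = (LP (LK LD1_c10 LD2_c32 LD3_c32)) :=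
  Lre_b IH (LK LD1_c5 LD2_c21 LD3_c11) (LK LD1_c10 LD2_c32 LD3_c32) Lrfl Lrfl
theorem f192387 : Led Lsl_ct (LP (LK LD1_c10 LD2_c32 LD3_c32)) = (LP (LK LD1_c9 LD2_c33 LD3_c52)) :=
  Lgr Lrot83 (Lpe (f192385 IH) (Lpr_cf (K13.f192370 IH) (Lpe (K13.f189240 IH) (Lpe (K13.f2078 IH) (Lpe (K27.f192386 IH) (Lpn (LP (LK LD1_c9 LD2_c33 LD3_c52))))))))
theorem f192435 : Led Lsl_gt (LP (LK LD1_c17 LD2_c36 LD3_c43)) = (LP (LK LD1_c9 LD2_c33 LD3_c52)) :=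
  Lre_g IH (LK LD1_c17 LD2_c36 LD3_c43) (LK LD1_c9 LD2_c33 LD3_c52) Lrfl Lrfl
theorem f166437 : Led Lsl_ct (LP (LK LD1_c2 LD2_c6 LD3_c19)) = (LP (LK LD1_c1 LD2_c0 LD3_c9)) :=
  Lre_c IH (LK LD1_c2 LD2_c6 LD3_c19) (LK LD1_c1 LD2_c0 LD3_c9) Lrfl Lrfl
theorem f170064 : Led Lsl_bt (LP (LK LD1_c2 LD2_c6 LD3_c19)) = (LP (LK LD1_c4 LD2_c18 LD3_c2)) :=
  Lre_b IH (LK LD1_c2 LD2_c6 LD3_c19) (LK LD1_c4 LD2_c18 LD3_c2) Lrfl Lrfl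
theorem f219168 : Led Lsl_cf (LP (LK LD1_c17 LD2_c36 LD3_c43)) = (LP (LK LD1_c16 LD2_c6 LD3_c16)) :=
  Lgr Lrot160 (Lpr_gt (f192435 IH) (Lpe (f192387 IH) (Lpr_bt (K27.f42008 IH) (Lpr_gt (K13.f219164 IH) (Lpr_ct (K11.f199799 IH) (Lpe (K14.f199832 IH) (Lpe (f166437 IH) (Lpr_bt (f170064 IH) (Lpr_gt (K49.f170065 IH) (Lpe (f199835 IH) (Lpn (LP (LK LD1_c16 LD2_c6 LD3_c16)))))))))))))
theorem f372902 : Led Lsl_gf (LP (LK LD1_c17 LD2_c36 LD3_c43)) = (LP (LK LD1_c9 LD2_c35 LD3_c34)) :=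
  Lgr Lrot47 (Lpr_gt (f192435 IH) (Lpe (K27.f192430 IH) (Lpr_ff (K38.f372900 IH) (Lpn (LP (LK LD1_c9 LD2_c35 LD3_c34))))))
theorem f373092 : Led Lsl_at (LP (LK LD1_c19 LD2_c5 LD3_c43)) = (LP (LK LD1_c10 LD2_c32 LD3_c35)) :=
  Lre_a IH (LK LD1_c19 LD2_c5 LD3_c43) (LK LD1_c10 LD2_c32 LD3_c35) Lrfl Lrfl
theorem f233271 : Led Lsl_bt (LP (LK LD1_c4 LD2_c51 LD3_c40)) = (LP (LK LD1_c9 LD2_c35 LD3_c25)) :=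
  Lre_b IH (LK LD1_c4 LD2_c51 LD3_c40) (LK LD1_c9 LD2_c35 LD3_c25) Lrfl Lrfl
theorem f373093 : Led Lsl_bf (LP (LK LD1_c19 LD2_c5 LD3_c43)) = (LP (LK LD1_c17 LD2_c39 LD3_c37)) :=
  Lgr Lrot81 (Lpr_at (f373092 IH) (Lpr_bt (K49.f41970 IH) (Lpr_at (K27.f373090 IH) (Lpr_bt (f233271 IH) (Lpr_at (K38.f372885 IH) (Lpn (LP (LK LD1_c17 LD2_c39 LD3_c37))))))))
theorem f250523 : Led Lsl_gt (LP (LK LD1_c8 LD2_c31 LD3_c54)) = (LP (LK LD1_c16 LD2_c0 LD3_c56)) :=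
  Lre_g IH (LK LD1_c8 LD2_c31 LD3_c54) (LK LD1_c16 LD2_c0 LD3_c56) Lrfl Lrfl
theorem f373124 : Led Lsl_gt (LP (LK LD1_c16 LD2_c0 LD3_c56)) = (LP (LK LD1_c19 LD2_c5 LD3_c43)) :=
  Lgr Lrot46 (Lpe (f250523 IH) (Lpr_ft (K49.f373115 IH) (Lpr_at (K49.f373117 IH) (Lpn (LP (LK LD1_c19 LD2_c5 LD3_c43))))))
theorem f170124 : Led Lsl_ct (LP (LK LD1_c8 LD2_c35 LD3_c38)) = (LP (LK LD1_c16 LD2_c6 LD3_c54)) :=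
  Lre_c IH (LK LD1_c8 LD2_c35 LD3_c38) (LK LD1_c16 LD2_c6 LD3_c54) Lrfl Lrfl
theorem f398153 : Led Lsl_bt (LP (LK LD1_c8 LD2_c35 LD3_c38)) = (LP (LK LD1_c4 LD2_c18 LD3_c24)) :=
  Lre_b IH (LK LD1_c8 LD2_c35 LD3_c38) (LK LD1_c4 LD2_c18 LD3_c24) Lrfl Lrfl
theorem f51754 : Led Lsl_gt (LP (LK LD1_c4 LD2_c18 LD3_c24)) = (LP (LK LD1_c8 LD2_c35 LD3_c36)) :=
  Lre_g IH (LK LD1_c4 LD2_c18 LD3_c24) (LK LD1_c8 LD2_c35 LD3_c36) Lrfl Lrfl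
theorem f398154 : Led Lsl_bt (LP (LK LD1_c16 LD2_c6 LD3_c56)) = (LP (LK LD1_c8 LD2_c35 LD3_c36)) :=
  Lre_b IH (LK LD1_c16 LD2_c6 LD3_c56) (LK LD1_c8 LD2_c35 LD3_c36) Lrfl Lrfl
theorem f398155 : Led Lsl_cf (LP (LK LD1_c16 LD2_c0 LD3_c56)) = (LP (LK LD1_c16 LD2_c6 LD3_c56)) :=
  Lgr Lrot160 (Lpr_gt (f373124 IH) (Lpe (K49.f373152 IH) (Lpr_bt (K27.f365403 IH) (Lpr_gt (K30.f373003 IH) (Lpr_ct (K49.f233700 IH) (Lpr_gt (f398150 IH) (Lpe (f170124 IH) (Lpr_bt (f398153 IH) (Lpr_gt (f51754 IH) (Lpe (f398154 IH) (Lpn (LP (LK LD1_c16 LD2_c6 LD3_c56)))))))))))))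
theorem f398165 : Led Lsl_et (LP (LK LD1_c16 LD2_c0 LD3_c56)) = (LP (LK LD1_c25 LD2_c58 LD3_c21)) :=
  Lre_e IH (LK LD1_c16 LD2_c0 LD3_c56) (LK LD1_c25 LD2_c58 LD3_c21) Lrfl Lrfl
theorem f398166 : Led Lsl_et (LP (LK LD1_c26 LD2_c3 LD3_c43)) = (LP (LK LD1_c16 LD2_c6 LD3_c56)) :=
  Lre_e IH (LK LD1_c26 LD2_c3 LD3_c43) (LK LD1_c16 LD2_c6 LD3_c56) Lrfl Lrfl
theorem f398167 : Led Lsl_ct (LP (LK LD1_c25 LD2_c58 LD3_c21)) = (LP (LK LD1_c26 LD2_c3 LD3_c43)) :=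
  Lgr Lrot15 (Lpe (f398165 IH) (Lpr_cf (f398155 IH) (Lpe (f398166 IH) (Lpn (LP (LK LD1_c26 LD2_c3 LD3_c43))))))
theorem f398182 : Led Lsl_cf (LP (LK LD1_c25 LD2_c58 LD3_c21)) = (LP (LK LD1_c26 LD2_c3 LD3_c43)) :=
  Lgr Lrot11 (Lpr_ct (f398167 IH) (Lpn (LP (LK LD1_c26 LD2_c3 LD3_c43))))
theorem f398184 : Led Lsl_bt (LP (LK LD1_c16 LD2_c6 LD3_c58)) = (LP (LK LD1_c26 LD2_c3 LD3_c43)) :=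
  Lre_b IH (LK LD1_c16 LD2_c6 LD3_c58) (LK LD1_c26 LD2_c3 LD3_c43) Lrfl Lrfl
theorem f398185 : Led Lsl_ct (LP (LK LD1_c16 LD2_c6 LD3_c40)) = (LP (LK LD1_c16 LD2_c6 LD3_c58)) :=
  Lre_c IH (LK LD1_c16 LD2_c6 LD3_c40) (LK LD1_c16 LD2_c6 LD3_c58) Lrfl Lrfl
theorem f398186 : Led Lsl_bt (LP (LK LD1_c8 LD2_c35 LD3_c14)) = (LP (LK LD1_c16 LD2_c6 LD3_c40)) :=
  Lre_b IH (LK LD1_c8 LD2_c35 LD3_c14) (LK LD1_c16 LD2_c6 LD3_c40) Lrfl Lrfl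
theorem f398187 : Led Lsl_ct (LP (LK LD1_c16 LD2_c6 LD3_c42)) = (LP (LK LD1_c8 LD2_c35 LD3_c14)) :=
  Lre_c IH (LK LD1_c16 LD2_c6 LD3_c42) (LK LD1_c8 LD2_c35 LD3_c14) Lrfl Lrfl
theorem f398188 : Led Lsl_bt (LP (LK LD1_c25 LD2_c58 LD3_c21)) = (LP (LK LD1_c16 LD2_c6 LD3_c42)) :=
  Lgr Lrot128 (Lpr_cf (f398182 IH) (Lpe (f398184 IH) (Lpe (f398185 IH) (Lpe (f398186 IH) (Lpe (f398187 IH) (Lpn (LP (LK LD1_c16 LD2_c6 LD3_c42))))))))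
theorem f398192 : Led Lsl_et (LP (LK LD1_c16 LD2_c6 LD3_c42)) = (LP (LK LD1_c8 LD2_c35 LD3_c13)) :=
  Lre_e IH (LK LD1_c16 LD2_c6 LD3_c42) (LK LD1_c8 LD2_c35 LD3_c13) Lrfl Lrfl
theorem f398193 : Led Lsl_bf (LP (LK LD1_c16 LD2_c0 LD3_c56)) = (LP (LK LD1_c8 LD2_c35 LD3_c13)) :=
  Lgr Lrot96 (Lpr_et (f398165 IH) (Lpr_bt (f398188 IH) (Lpr_et (f398192 IH) (Lpn (LP (LK LD1_c8 LD2_c35 LD3_c13))))))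
theorem f406074 : Led Lsl_gt (LP (LK LD1_c4 LD2_c11 LD3_c14)) = (LP (LK LD1_c4 LD2_c18 LD3_c9)) :=
  Lgr Lrot149 (Lpe (f170903 IH) (Lpr_gf (K49.f406072 IH) (Lpe (f199835 IH) (Lpe (f219168 IH) (Lpr_gf (f372902 IH) (Lpe (K38.f372899 IH) (Lpe (f373093 IH) (Lpe (f373124 IH) (Lpr_bf (f398193 IH) (Lpr_ct (f170253 IH) (Lpn (LP (LK LD1_c4 LD2_c18 LD3_c9)))))))))))))
theorem f170239 : Led Lsl_at (LP (LK LD1_c4 LD2_c18 LD3_c10)) = (LP (LK LD1_c2 LD2_c6 LD3_c21)) :=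
  Lre_a IH (LK LD1_c4 LD2_c18 LD3_c10) (LK LD1_c2 LD2_c6 LD3_c21) Lrfl Lrfl
theorem f406079 : Led Lsl_ft (LP (LK LD1_c4 LD2_c11 LD3_c14)) = (LP (LK LD1_c4 LD2_c18 LD3_c10)) :=
  Lgr Lrot2 (Lpr_gt (f406074 IH) (Lpr_gt (f170248 IH) (Lpe (f170239 IH) (Lpn (LP (LK LD1_c4 LD2_c18 LD3_c10))))))
theorem f170870 : Led Lsl_bt (LP (LK LD1_c2 LD2_c2 LD3_c42)) = (LP (LK LD1_c0 LD2_c58 LD3_c15)) :=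
  Lre_b IH (LK LD1_c2 LD2_c2 LD3_c42) (LK LD1_c0 LD2_c58 LD3_c15) Lrfl Lrfl
theorem f170871 : Led Lsl_df (LP (LK LD1_c2 LD2_c2 LD3_c42)) = (LP (LK LD1_c2 LD2_c2 LD3_c51)) :=
  Lgr Lrot12 (Lpr_bt (f170870 IH) (Lpr_dt (K9.f170862 IH) (Lpr_bt (K49.f51530 IH) (Lpn (LP (LK LD1_c2 LD2_c2 LD3_c51))))))
theorem f170876 : Led Lsl_at (LP (LK LD1_c2 LD2_c2 LD3_c42)) = (LP (LK LD1_c4 LD2_c10 LD3_c55)) :=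
  Lre_a IH (LK LD1_c2 LD2_c2 LD3_c42) (LK LD1_c4 LD2_c10 LD3_c55) Lrfl Lrfl
theorem f170877 : Led Lsl_at (LP (LK LD1_c4 LD2_c11 LD3_c14)) = (LP (LK LD1_c2 LD2_c2 LD3_c51)) :=
  Lre_a IH (LK LD1_c4 LD2_c11 LD3_c14) (LK LD1_c2 LD2_c2 LD3_c51) Lrfl Lrfl
theorem f170878 : Led Lsl_dt (LP (LK LD1_c4 LD2_c10 LD3_c55)) = (LP (LK LD1_c4 LD2_c11 LD3_c14)) :=
  Lgr Lrot44 (Lpe (f170876 IH) (Lpr_df (f170871 IH) (Lpe (f170877 IH) (Lpn (LP (LK LD1_c4 LD2_c11 LD3_c14))))))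
theorem f170240 : Led Lsl_at (LP (LK LD1_c2 LD2_c5 LD3_c53)) = (LP (LK LD1_c4 LD2_c17 LD3_c9)) :=
  Lre_a IH (LK LD1_c2 LD2_c5 LD3_c53) (LK LD1_c4 LD2_c17 LD3_c9) Lrfl Lrfl
theorem f170241 : Led Lsl_df (LP (LK LD1_c4 LD2_c18 LD3_c10)) = (LP (LK LD1_c4 LD2_c17 LD3_c9)) :=
  Lgr Lrot18 (Lpr_at (f170239 IH) (Lpr_dt (f170158 IH) (Lpr_at (f170240 IH) (Lpn (LP (LK LD1_c4 LD2_c17 LD3_c9))))))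
theorem f170268 : Led Lsl_dt (LP (LK LD1_c4 LD2_c18 LD3_c10)) = (LP (LK LD1_c4 LD2_c17 LD3_c9)) :=
  Lgr Lrot42 (Lpr_df (f170241 IH) (Lpn (LP (LK LD1_c4 LD2_c17 LD3_c9))))
theorem f406087 : Led Lsl_ff (LP (LK LD1_c4 LD2_c10 LD3_c55)) = (LP (LK LD1_c4 LD2_c17 LD3_c9)) :=
  Lgr Lrot19 (Lpr_dt (f170878 IH) (Lpr_ft (f406079 IH) (Lpr_dt (f170268 IH) (Lpn (LP (LK LD1_c4 LD2_c17 LD3_c9))))))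
theorem f170275 : Led Lsl_at (LP (LK LD1_c4 LD2_c17 LD3_c9)) = (LP (LK LD1_c2 LD2_c5 LD3_c53)) :=
  Lre_a IH (LK LD1_c4 LD2_c17 LD3_c9) (LK LD1_c2 LD2_c5 LD3_c53) Lrfl Lrfl
theorem f299378 : Led Lsl_bt (LP (LK LD1_c4 LD2_c10 LD3_c29)) = (LP (LK LD1_c4 LD2_c17 LD3_c9)) :=
  Lgr Lrot62 (Lpe (f170989 IH) (Lpe (K49.f170969 IH) (Lpr_af (K18.f299366 IH) (Lpe (K27.f170157 IH) (Lpe (f170275 IH) (Lpn (LP (LK LD1_c4 LD2_c17 LD3_c9))))))))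
theorem f170207 : Led Lsl_dt (LP (LK LD1_c2 LD2_c6 LD3_c6)) = (LP (LK LD1_c2 LD2_c6 LD3_c13)) :=
  Lgr Lrot42 (Lpr_df (f170175 IH) (Lpn (LP (LK LD1_c2 LD2_c6 LD3_c13))))
theorem f170220 : Led Lsl_at (LP (LK LD1_c2 LD2_c6 LD3_c13)) = (LP (LK LD1_c4 LD2_c17 LD3_c49)) :=
  Lre_a IH (LK LD1_c2 LD2_c6 LD3_c13) (LK LD1_c4 LD2_c17 LD3_c49) Lrfl Lrfl
theorem f170221 : Led Lsl_df (LP (LK LD1_c4 LD2_c17 LD3_c32)) = (LP (LK LD1_c4 LD2_c17 LD3_c49)) :=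
  Lgr Lrot18 (Lpr_at (f170219 IH) (Lpr_dt (f170207 IH) (Lpr_at (f170220 IH) (Lpn (LP (LK LD1_c4 LD2_c17 LD3_c49))))))
theorem f403507 : Led Lsl_ff (LP (LK LD1_c4 LD2_c10 LD3_c29)) = (LP (LK LD1_c4 LD2_c17 LD3_c32)) :=
  Lgr Lrot19 (Lpe (f170990 IH) (Lpr_ft (K41.f403501 IH) (Lpe (f170221 IH) (Lpn (LP (LK LD1_c4 LD2_c17 LD3_c32))))))
theorem f406091 : Led Lsl_bt (LP (LK LD1_c4 LD2_c10 LD3_c55)) = (LP (LK LD1_c4 LD2_c17 LD3_c32)) :=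
  Lgr Lrot35 (Lpr_ff (f406087 IH) (Lpe (f299378 IH) (Lpr_ff (f403507 IH) (Lpn (LP (LK LD1_c4 LD2_c17 LD3_c32))))))
theorem f406167 : Led Lsl_bf (LP (LK LD1_c4 LD2_c10 LD3_c55)) = (LP (LK LD1_c4 LD2_c17 LD3_c32)) :=
  Lgr Lrot24 (Lpr_bt (f406091 IH) (Lpn (LP (LK LD1_c4 LD2_c17 LD3_c32))))
theorem f406095 : Led Lsl_ft (LP (LK LD1_c4 LD2_c10 LD3_c55)) = (LP (LK LD1_c4 LD2_c17 LD3_c9)) :=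
  Lgr Lrot48 (Lpr_ff (f406087 IH) (Lpn (LP (LK LD1_c4 LD2_c17 LD3_c9))))
theorem f406169 : Led Lsl_bt (LP (LK LD1_c4 LD2_c17 LD3_c9)) = (LP (LK LD1_c4 LD2_c10 LD3_c29)) :=
  Lgr Lrot35 (Lpe (f406095 IH) (Lpr_bf (f406167 IH) (Lpe (f404593 IH) (Lpn (LP (LK LD1_c4 LD2_c10 LD3_c29))))))
theorem f170276 : Led Lsl_ct (LP (LK LD1_c4 LD2_c17 LD3_c9)) = (LP (LK LD1_c8 LD2_c33 LD3_c7)) :=
  Lre_c IH (LK LD1_c4 LD2_c17 LD3_c9) (LK LD1_c8 LD2_c33 LD3_c7) Lrfl Lrfl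
theorem f170896 : Led Lsl_ct (LP (LK LD1_c8 LD2_c21 LD3_c26)) = (LP (LK LD1_c4 LD2_c10 LD3_c55)) :=
  Lre_c IH (LK LD1_c8 LD2_c21 LD3_c26) (LK LD1_c4 LD2_c10 LD3_c55) Lrfl Lrfl
theorem f406104 : Led Lsl_ff (LP (LK LD1_c8 LD2_c21 LD3_c26)) = (LP (LK LD1_c8 LD2_c33 LD3_c7)) :=
  Lgr Lrot23 (Lpr_ct (f170896 IH) (Lpr_ft (f406095 IH) (Lpr_ct (f170276 IH) (Lpn (LP (LK LD1_c8 LD2_c33 LD3_c7))))))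
theorem f170883 : Led Lsl_at (LP (LK LD1_c8 LD2_c21 LD3_c26)) = (LP (LK LD1_c4 LD2_c10 LD3_c46)) :=
  Lre_a IH (LK LD1_c8 LD2_c21 LD3_c26) (LK LD1_c4 LD2_c10 LD3_c46) Lrfl Lrfl
theorem f170892 : Led Lsl_gt (LP (LK LD1_c8 LD2_c21 LD3_c25)) = (LP (LK LD1_c4 LD2_c10 LD3_c46)) :=
  Lre_g IH (LK LD1_c8 LD2_c21 LD3_c25) (LK LD1_c4 LD2_c10 LD3_c46) Lrfl Lrfl
theorem f406115 : Led Lsl_gf (LP (LK LD1_c8 LD2_c21 LD3_c25)) = (LP (LK LD1_c8 LD2_c33 LD3_c7)) :=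
  Lgr Lrot47 (Lpr_gt (f170892 IH) (Lpe (f170883 IH) (Lpr_ff (f406104 IH) (Lpn (LP (LK LD1_c8 LD2_c33 LD3_c7))))))
theorem f694823 : Led Lsl_cf (LP (LK LD1_c8 LD2_c21 LD3_c25)) = v12626 :=
  Lgr Lrot58 (Lpr_gf (f406115 IH) (Lpe (f170276 IH) (Lpr_bt (f406169 IH) (Lpr_gf (f404640 IH) (Lpr_bf (f693478 IH) (Lpr_ct (f693817 IH) (Lpe (f693820 IH) (Lpe (f178378 IH) (Lpe (f304803 IH) (Lpr_bf (f694822 IH) (Lpn v12626)))))))))))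
theorem f170906 : Led Lsl_at (LP (LK LD1_c4 LD2_c10 LD3_c55)) = (LP (LK LD1_c2 LD2_c2 LD3_c42)) :=
  Lre_a IH (LK LD1_c4 LD2_c10 LD3_c55) (LK LD1_c2 LD2_c2 LD3_c42) Lrfl Lrfl
theorem f167221 : Led Lsl_gt (LP (LK LD1_c4 LD2_c10 LD3_c54)) = (LP (LK LD1_c2 LD2_c2 LD3_c42)) :=
  Lre_g IH (LK LD1_c4 LD2_c10 LD3_c54) (LK LD1_c2 LD2_c2 LD3_c42) Lrfl Lrfl
theorem f406097 : Led Lsl_gf (LP (LK LD1_c4 LD2_c10 LD3_c54)) = (LP (LK LD1_c4 LD2_c17 LD3_c9)) :=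
  Lgr Lrot47 (Lpr_gt (f167221 IH) (Lpe (f170906 IH) (Lpr_ff (f406087 IH) (Lpn (LP (LK LD1_c4 LD2_c17 LD3_c9))))))
theorem f170218 : Led Lsl_gt (LP (LK LD1_c4 LD2_c17 LD3_c31)) = (LP (LK LD1_c2 LD2_c6 LD3_c6)) :=
  Lre_g IH (LK LD1_c4 LD2_c17 LD3_c31) (LK LD1_c2 LD2_c6 LD3_c6) Lrfl Lrfl
theorem f404608 : Led Lsl_gt (LP (LK LD1_c4 LD2_c10 LD3_c29)) = (LP (LK LD1_c4 LD2_c17 LD3_c31)) :=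
  Lgr Lrot5 (Lpr_ft (f404593 IH) (Lpr_at (f170219 IH) (Lpe (f170218 IH) (Lpn (LP (LK LD1_c4 LD2_c17 LD3_c31))))))
theorem f278464 : Led Lsl_bt (LP (LK LD1_c8 LD2_c22 LD3_c5)) = (LP (LK LD1_c4 LD2_c11 LD3_c6)) :=
  Lre_b IH (LK LD1_c8 LD2_c22 LD3_c5) (LK LD1_c4 LD2_c11 LD3_c6) Lrfl Lrfl
theorem f170912 : Led Lsl_ct (LP (LK LD1_c8 LD2_c22 LD3_c5)) = (LP (LK LD1_c15 LD2_c44 LD3_c51)) :=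
  Lre_c IH (LK LD1_c8 LD2_c22 LD3_c5) (LK LD1_c15 LD2_c44 LD3_c51) Lrfl Lrfl
theorem f380927 : Led Lsl_gt (LP (LK LD1_c15 LD2_c44 LD3_c51)) = (LP (LK LD1_c25 LD2_c41 LD3_c21)) :=
  Lre_g IH (LK LD1_c15 LD2_c44 LD3_c51) (LK LD1_c25 LD2_c41 LD3_c21) Lrfl Lrfl
theorem f380953 : Led Lsl_bt (LP (LK LD1_c16 LD2_c4 LD3_c60)) = (LP (LK LD1_c26 LD2_c2 LD3_c7)) :=
  Lre_b IH (LK LD1_c16 LD2_c4 LD3_c60) (LK LD1_c26 LD2_c2 LD3_c7) Lrfl Lrfl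
theorem f380954 : Led Lsl_cf (LP (LK LD1_c25 LD2_c41 LD3_c21)) = (LP (LK LD1_c16 LD2_c4 LD3_c60)) :=
  Lgr Lrot58 (Lpe (f380927 IH) (Lpe (f170912 IH) (Lpr_bt (f278464 IH) (Lpe (K18.f51526 IH) (Lpe (K27.f51527 IH) (Lpe (K27.f380921 IH) (Lpe (K27.f267268 IH) (Lpe (K27.f243881 IH) (Lpr_gf (K27.f380929 IH) (Lpe (f380953 IH) (Lpn (LP (LK LD1_c16 LD2_c4 LD3_c60)))))))))))))
theorem f380957 : Led Lsl_ct (LP (LK LD1_c25 LD2_c41 LD3_c21)) = (LP (LK LD1_c16 LD2_c4 LD3_c60)) :=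
  Lgr Lrot59 (Lpr_cf (f380954 IH) (Lpn (LP (LK LD1_c16 LD2_c4 LD3_c60))))
theorem f170599 : Led Lsl_gt (LP (LK LD1_c15 LD2_c44 LD3_c50)) = (LP (LK LD1_c8 LD2_c22 LD3_c5)) :=
  Lre_g IH (LK LD1_c15 LD2_c44 LD3_c50) (LK LD1_c8 LD2_c22 LD3_c5) Lrfl Lrfl
theorem f380961 : Led Lsl_dt (LP (LK LD1_c16 LD2_c4 LD3_c60)) = (LP (LK LD1_c8 LD2_c34 LD3_c7)) :=
  Lre_d IH (LK LD1_c16 LD2_c4 LD3_c60) (LK LD1_c8 LD2_c34 LD3_c7) Lrfl Lrfl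
theorem f167660 : Led Lsl_ct (LP (LK LD1_c4 LD2_c17 LD3_c30)) = (LP (LK LD1_c8 LD2_c34 LD3_c7)) :=
  Lre_c IH (LK LD1_c4 LD2_c17 LD3_c30) (LK LD1_c8 LD2_c34 LD3_c7) Lrfl Lrfl
theorem f380964 : Led Lsl_df (LP (LK LD1_c15 LD2_c44 LD3_c50)) = (LP (LK LD1_c8 LD2_c33 LD3_c56)) :=
  Lgr Lrot155 (Lpr_gt (f170599 IH) (Lpr_ct (f170912 IH) (Lpr_gt (f380927 IH) (Lpr_ct (f380957 IH) (Lpr_dt (f380961 IH) (Lpe (f167660 IH) (Lpe (K27.f167656 IH) (Lpe (K27.f170183 IH) (Lpe (f170185 IH) (Lpn (LP (LK LD1_c8 LD2_c33 LD3_c56))))))))))))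
theorem f170598 : Led Lsl_dt (LP (LK LD1_c8 LD2_c22 LD3_c5)) = (LP (LK LD1_c4 LD2_c11 LD3_c5)) :=
  Lre_d IH (LK LD1_c8 LD2_c22 LD3_c5) (LK LD1_c4 LD2_c11 LD3_c5) Lrfl Lrfl
theorem f53358 : Led Lsl_ct (LP (LK LD1_c2 LD2_c2 LD3_c51)) = (LP (LK LD1_c4 LD2_c11 LD3_c5)) :=
  Lre_c IH (LK LD1_c2 LD2_c2 LD3_c51) (LK LD1_c4 LD2_c11 LD3_c5) Lrfl Lrfl
theorem f170596 : Led Lsl_bt (LP (LK LD1_c2 LD2_c2 LD3_c51)) = (LP (LK LD1_c0 LD2_c58 LD3_c20)) :=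
  Lre_b IH (LK LD1_c2 LD2_c2 LD3_c51) (LK LD1_c0 LD2_c58 LD3_c20) Lrfl Lrfl
theorem f170860 : Led Lsl_dt (LP (LK LD1_c2 LD2_c2 LD3_c42)) = (LP (LK LD1_c2 LD2_c2 LD3_c51)) :=
  Lgr Lrot79 (Lpe (K49.f53462 IH) (Lpr_df (K9.f170592 IH) (Lpe (f170596 IH) (Lpn (LP (LK LD1_c2 LD2_c2 LD3_c51))))))
theorem f404620 : Led Lsl_dt (LP (LK LD1_c4 LD2_c17 LD3_c31)) = (LP (LK LD1_c4 LD2_c10 LD3_c54)) :=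
  Lgr Lrot57 (Lpe (f404608 IH) (Lpe (f171017 IH) (Lpr_gt (f404618 IH) (Lpe (f380964 IH) (Lpr_gt (f170599 IH) (Lpr_dt (f170598 IH) (Lpe (f53358 IH) (Lpe (f170860 IH) (Lpe (f167221 IH) (Lpn (LP (LK LD1_c4 LD2_c10 LD3_c54))))))))))))
theorem f404626 : Led Lsl_df (LP (LK LD1_c4 LD2_c17 LD3_c31)) = (LP (LK LD1_c4 LD2_c10 LD3_c54)) :=
  Lgr Lrot38 (Lpr_dt (f404620 IH) (Lpn (LP (LK LD1_c4 LD2_c10 LD3_c54))))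
theorem f167299 : Led Lsl_dt (LP (LK LD1_c8 LD2_c34 LD3_c24)) = (LP (LK LD1_c4 LD2_c17 LD3_c41)) :=
  Lre_d IH (LK LD1_c8 LD2_c34 LD3_c24) (LK LD1_c4 LD2_c17 LD3_c41) Lrfl Lrfl
theorem f267753 : Led Lsl_gt (LP (LK LD1_c1 LD2_c0 LD3_c4)) = (LP (LK LD1_c0 LD2_c58 LD3_c18)) :=
  Lgr Lrot49 (Lpr_df (K12.f165005 IH) (Lpe (K9.f165016 IH) (Lpe (K9.f8559 IH) (Lpr_gt (K9.f165037 IH) (Lpr_dt (K15.f165038 IH) (Lpr_gt (K20.f180403 IH) (Lpr_dt (K15.f179312 IH) (Lpe (K12.f179306 IH) (Lpr_df (K15.f267745 IH) (Lpn (LP (LK LD1_c0 LD2_c58 LD3_c18))))))))))))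
theorem f267755 : Led Lsl_df (LP (LK LD1_c0 LD2_c32 LD3_c30)) = (LP (LK LD1_c0 LD2_c26 LD3_c50)) :=
  Lgr Lrot153 (Lpr_gt (K12.f172556 IH) (Lpr_dt (K9.f172546 IH) (Lpr_cf (K9.f174968 IH) (Lpe (K13.f8425 IH) (Lpe (K12.f172407 IH) (Lpr_df (K15.f267745 IH) (Lpe (f267753 IH) (Lpe (K13.f170314 IH) (Lpe (K14.f250331 IH) (Lpn (LP (LK LD1_c0 LD2_c26 LD3_c50))))))))))))
theorem f168558 : Led Lsl_ct (LP (LK LD1_c2 LD2_c26 LD3_c38)) = (LP (LK LD1_c4 LD2_c57 LD3_c31)) :=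
  Lre_c IH (LK LD1_c2 LD2_c26 LD3_c38) (LK LD1_c4 LD2_c57 LD3_c31) Lrfl Lrfl
theorem f383293 : Led Lsl_bt (LP (LK LD1_c4 LD2_c57 LD3_c31)) = (LP (LK LD1_c9 LD2_c45 LD3_c53)) :=
  Lre_b IH (LK LD1_c4 LD2_c57 LD3_c31) (LK LD1_c9 LD2_c45 LD3_c53) Lrfl Lrfl
theorem f383294 : Led Lsl_gf (LP (LK LD1_c8 LD2_c34 LD3_c24)) = (LP (LK LD1_c9 LD2_c45 LD3_c53)) :=
  Lgr Lrot85 (Lpr_dt (f167299 IH) (Lpr_ct (K20.f167298 IH) (Lpr_bt (K49.f167297 IH) (Lpr_gt (K9.f167291 IH) (Lpr_dt (K0.f2217 IH) (Lpr_ct (K0.f2216 IH) (Lpr_bt (K13.f2209 IH) (Lpr_gt (K12.f2232 IH) (Lpe (K13.f200403 IH) (Lpe (K13.f227283 IH) (Lpr_bt (K13.f238294 IH) (Lpe (K14.f250331 IH) (Lpe (f267755 IH) (Lpe (K12.f211807 IH) (Lpr_bt (K17.f211833 IH) (Lpr_gt (K39.f211836 IH) (Lpr_dt (K39.f383258 IH) (Lpr_ct (f168558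 IH) (Lpr_bt (f383293 IH) (Lpn (LP (LK LD1_c9 LD2_c45 LD3_c53))))))))))))))))))))))
theorem f406117 : Led Lsl_dt (LP (LK LD1_c8 LD2_c21 LD3_c25)) = (LP (LK LD1_c9 LD2_c45 LD3_c53)) :=
  Lgr Lrot57 (Lpr_gf (f406115 IH) (Lpe (f170276 IH) (Lpe (f406097 IH) (Lpe (f404626 IH) (Lpr_gt (f170218 IH) (Lpr_dt (f170207 IH) (Lpe (K20.f167298 IH) (Lpe (f167299 IH) (Lpr_gf (f383294 IH) (Lpn (LP (LK LD1_c9 LD2_c45 LD3_c53))))))))))))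
theorem f406121 : Led Lsl_df (LP (LK LD1_c8 LD2_c21 LD3_c25)) = (LP (LK LD1_c9 LD2_c45 LD3_c53)) :=
  Lgr Lrot38 (Lpr_dt (f406117 IH) (Lpn (LP (LK LD1_c9 LD2_c45 LD3_c53))))
theorem f383292 : Led Lsl_dt (LP (LK LD1_c9 LD2_c45 LD3_c54)) = (LP (LK LD1_c4 LD2_c57 LD3_c31)) :=
  Lre_d IH (LK LD1_c9 LD2_c45 LD3_c54) (LK LD1_c4 LD2_c57 LD3_c31) Lrfl Lrfl
theorem f406123 : Led Lsl_bt (LP (LK LD1_c8 LD2_c21 LD3_c25)) = (LP (LK LD1_c9 LD2_c45 LD3_c54)) :=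
  Lgr Lrot95 (Lpr_df (f406121 IH) (Lpe (f383293 IH) (Lpe (f383292 IH) (Lpn (LP (LK LD1_c9 LD2_c45 LD3_c54))))))
theorem f172383 : Led Lsl_bt (LP (LK LD1_c9 LD2_c45 LD3_c53)) = (LP (LK LD1_c4 LD2_c57 LD3_c31)) :=
  Lre_b IH (LK LD1_c9 LD2_c45 LD3_c53) (LK LD1_c4 LD2_c57 LD3_c31) Lrfl Lrfl
theorem f383288 : Led Lsl_dt (LP (LK LD1_c4 LD2_c57 LD3_c31)) = (LP (LK LD1_c9 LD2_c45 LD3_c54)) :=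
  Lre_d IH (LK LD1_c4 LD2_c57 LD3_c31) (LK LD1_c9 LD2_c45 LD3_c54) Lrfl Lrfl
theorem f406119 : Led Lsl_bf (LP (LK LD1_c8 LD2_c21 LD3_c25)) = (LP (LK LD1_c9 LD2_c45 LD3_c54)) :=
  Lgr Lrot93 (Lpr_dt (f406117 IH) (Lpr_bt (f172383 IH) (Lpr_dt (f383288 IH) (Lpn (LP (LK LD1_c9 LD2_c45 LD3_c54))))))
theorem f167213 : Led Lsl_ct (LP (LK LD1_c4 LD2_c10 LD3_c46)) = (LP (LK LD1_c2 LD2_c2 LD3_c42)) :=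
  Lre_c IH (LK LD1_c4 LD2_c10 LD3_c46) (LK LD1_c2 LD2_c2 LD3_c42) Lrfl Lrfl
theorem f167215 : Led Lsl_bt (LP (LK LD1_c8 LD2_c21 LD3_c41)) = (LP (LK LD1_c15 LD2_c44 LD3_c10)) :=
  Lre_b IH (LK LD1_c8 LD2_c21 LD3_c41) (LK LD1_c15 LD2_c44 LD3_c10) Lrfl Lrfl
theorem f267501 : Led Lsl_bt (LP (LK LD1_c10 LD2_c47 LD3_c47)) = (LP (LK LD1_c5 LD2_c28 LD3_c21)) :=
  Lre_b IH (LK LD1_c10 LD2_c47 LD3_c47) (LK LD1_c5 LD2_c28 LD3_c21) Lrfl Lrfl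
theorem f213018 : Led Lsl_ct (LP (LK LD1_c2 LD2_c11 LD3_c18)) = (LP (LK LD1_c4 LD2_c28 LD3_c23)) :=
  Lre_c IH (LK LD1_c2 LD2_c11 LD3_c18) (LK LD1_c4 LD2_c28 LD3_c23) Lrfl Lrfl
theorem f382735 : Led Lsl_df (LP (LK LD1_c4 LD2_c17 LD3_c30)) = (LP (LK LD1_c4 LD2_c10 LD3_c53)) :=
  Lgr Lrot183 (Lpr_ct (f167660 IH) (Lpr_bt (K27.f179708 IH) (Lpr_gt (K27.f179715 IH) (Lpr_dt (K30.f382731 IH) (Lpr_ct (K30.f267502 IH) (Lpr_bt (f267501 IH) (Lpr_gt (K26.f279193 IH) (Lpr_dt (K26.f213016 IH) (Lpr_ct (f213018 IH) (Lpe (K12.f217932 IH) (Lpr_gt (K12.f27450 IH) (Lpr_dt (K23.f27439 IH) (Lpr_ct (K10.f27357 IH) (Lpr_bt (K0.f27346 IH) (Lpe (K9.f53457 IH) (Lpr_dt (K9.f53459 IH) (Lpr_ct (K9.f53460 IH) (Lpr_bt (K49.f53462 IH) (Lpr_gt (K49.f53463 IH) (Lpn (LP (LK LD1_c4 LD2_c10 LD3_c53))))))))))))))))))))))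
theorem f382737 : Led Lsl_dt (LP (LK LD1_c4 LD2_c17 LD3_c30)) = (LP (LK LD1_c4 LD2_c10 LD3_c53)) :=
  Lgr Lrot42 (Lpr_df (f382735 IH) (Lpn (LP (LK LD1_c4 LD2_c10 LD3_c53))))
theorem f165021 : Led Lsl_bt (LP (LK LD1_c5 LD2_c28 LD3_c51)) = (LP (LK LD1_c2 LD2_c40 LD3_c42)) :=
  Lre_b IH (LK LD1_c5 LD2_c28 LD3_c51) (LK LD1_c2 LD2_c40 LD3_c42) Lrfl Lrfl
theorem f170888 : Led Lsl_ct (LP (LK LD1_c4 LD2_c10 LD3_c53)) = (LP (LK LD1_c8 LD2_c21 LD3_c41)) :=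
  Lre_c IH (LK LD1_c4 LD2_c10 LD3_c53) (LK LD1_c8 LD2_c21 LD3_c41) Lrfl Lrfl
theorem f382739 : Led Lsl_gf (LP (LK LD1_c19 LD2_c33 LD3_c8)) = (LP (LK LD1_c15 LD2_c44 LD3_c10)) :=
  Lgr Lrot85 (Lpr_dt (K30.f165023 IH) (Lpr_ct (K30.f165022 IH) (Lpr_bt (f165021 IH) (Lpr_gt (K12.f165010 IH) (Lpr_dt (K12.f165009 IH) (Lpr_ct (K9.f165008 IH) (Lpr_bt (K12.f165002 IH) (Lpr_gt (K12.f218724 IH) (Lpr_dt (K12.f28091 IH) (Lpr_ct (K12.f28122 IH) (Lpr_bt (K9.f27312 IH) (Lpe (K9.f170279 IH) (Lpr_dt (K9.f7858 IH) (Lpr_ct (K9.f7991 IH) (Lpr_bt (f167655 IH) (Lpr_gt (K27.f167656 IH) (Lpr_dt (f382737 IH) (Lpr_ct (f170888 IH) (Lpr_bt (f167215 IH) (Lpn (LP (LK LD1_c15 LD2_c44 LD3_c10))))))))))))))))))))))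
theorem f289498 : Led Lsl_ff (LP (LK LD1_c11 LD2_c11 LD3_c55)) = (LP (LK LD1_c11 LD2_c6 LD3_c39)) :=
  Lgr Lrot19 (Lpr_dt (K36.f289474 IH) (Lpr_ft (K20.f289494 IH) (Lpr_dt (K20.f258332 IH) (Lpn (LP (LK LD1_c11 LD2_c6 LD3_c39))))))
theorem f319552 : Led Lsl_bt (LP (LK LD1_c11 LD2_c11 LD3_c55)) = (LP (LK LD1_c19 LD2_c33 LD3_c8)) :=
  Lgr Lrot35 (Lpr_ff (f289498 IH) (Lpr_bf (K20.f319550 IH) (Lpe (K30.f289512 IH) (Lpn (LP (LK LD1_c19 LD2_c33 LD3_c8))))))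
theorem f384032 : Led Lsl_df (LP (LK LD1_c2 LD2_c44 LD3_c36)) = (LP (LK LD1_c1 LD2_c20 LD3_c18)) :=
  Lgr Lrot78 (Lpr_ft (K27.f384030 IH) (Lpe (K27.f383963 IH) (Lpr_ft (K27.f383646 IH) (Lpn (LP (LK LD1_c1 LD2_c20 LD3_c18))))))
theorem f211962 : Led Lsl_dt (LP (LK LD1_c11 LD2_c6 LD3_c28)) = (LP (LK LD1_c5 LD2_c37 LD3_c21)) :=
  Lre_d IH (LK LD1_c11 LD2_c6 LD3_c28) (LK LD1_c5 LD2_c37 LD3_c21) Lrfl Lrfl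
theorem f174679 : Led Lsl_gt (LP (LK LD1_c5 LD2_c43 LD3_c10)) = (LP (LK LD1_c2 LD2_c48 LD3_c10)) :=
  Lre_g IH (LK LD1_c5 LD2_c43 LD3_c10) (LK LD1_c2 LD2_c48 LD3_c10) Lrfl Lrfl
theorem f383884 : Led Lsl_dt (LP (LK LD1_c2 LD2_c48 LD3_c10)) = (LP (LK LD1_c5 LD2_c44 LD3_c35)) :=
  Lre_d IH (LK LD1_c2 LD2_c48 LD3_c10) (LK LD1_c5 LD2_c44 LD3_c35) Lrfl Lrfl
theorem f384047 : Led Lsl_gf (LP (LK LD1_c11 LD2_c6 LD3_c28)) = (LP (LK LD1_c5 LD2_c44 LD3_c35)) :=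
  Lgr Lrot143 (Lpr_dt (f211962 IH) (Lpe (K27.f211946 IH) (Lpe (K27.f211945 IH) (Lpe (K27.f211957 IH) (Lpr_df (f384032 IH) (Lpe (K36.f381547 IH) (Lpe (K39.f381129 IH) (Lpr_gt (f174679 IH) (Lpr_dt (f383884 IH) (Lpn (LP (LK LD1_c5 LD2_c44 LD3_c35))))))))))))
theorem f381287 : Led Lsl_at (LP (LK LD1_c11 LD2_c16 LD3_c56)) = (LP (LK LD1_c11 LD2_c6 LD3_c28)) :=
  Lgr Lrot51 (Lpe (K27.f381166 IH) (Lpr_af (K27.f381284 IH) (Lpe (f211962 IH) (Lpn (LP (LK LD1_c11 LD2_c6 LD3_c28))))))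
theorem f383369 : Led Lsl_ff (LP (LK LD1_c11 LD2_c16 LD3_c56)) = (LP (LK LD1_c11 LD2_c19 LD3_c6)) :=
  Lgr Lrot23 (Lpr_ct (K27.f381161 IH) (Lpe (f289498 IH) (Lpr_ct (K36.f383361 IH) (Lpn (LP (LK LD1_c11 LD2_c19 LD3_c6))))))
theorem f384053 : Led Lsl_gt (LP (LK LD1_c11 LD2_c19 LD3_c6)) = (LP (LK LD1_c5 LD2_c44 LD3_c35)) :=
  Lgr Lrot5 (Lpe (f383369 IH) (Lpr_at (f381287 IH) (Lpr_gf (f384047 IH) (Lpn (LP (LK LD1_c5 LD2_c44 LD3_c35))))))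
theorem f406127 : Led Lsl_cf (LP (LK LD1_c5 LD2_c44 LD3_c35)) = (LP (LK LD1_c9 LD2_c45 LD3_c54)) :=
  Lgr Lrot58 (Lpe (f384053 IH) (Lpe (K36.f383361 IH) (Lpr_bt (f319552 IH) (Lpr_gf (f382739 IH) (Lpe (f167215 IH) (Lpr_ct (K49.f167214 IH) (Lpe (K49.f53463 IH) (Lpe (f167213 IH) (Lpe (f170892 IH) (Lpr_bf (f406119 IH) (Lpn (LP (LK LD1_c9 LD2_c45 LD3_c54)))))))))))))
theorem f304806 : Led Lsl_ct (LP (LK LD1_c8 LD2_c36 LD3_c36)) = (LP (LK LD1_c4 LD2_c19 LD3_c0)) :=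
  Lre_c IH (LK LD1_c8 LD2_c36 LD3_c36) (LK LD1_c4 LD2_c19 LD3_c0) Lrfl Lrfl
theorem f694824 : Led Lsl_bt (LP (LK LD1_c5 LD2_c44 LD3_c35)) = (LP (LK LD1_c8 LD2_c36 LD3_c36)) :=
  Lgr Lrot128 (Lpr_cf (f406127 IH) (Lpe (f406123 IH) (Lpr_cf (f694823 IH) (Lpe (f694821 IH) (Lpe (f304806 IH) (Lpn (LP (LK LD1_c8 LD2_c36 LD3_c36))))))))
theorem f694825 : Led Lsl_bt (LP (LK LD1_c5 LD2_c44 LD3_c35)) = (LP (LK LD1_c8 LD2_c36 LD3_c36)) :=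
  Leop (Lpe (f694824 IH) (Lpn (LP (LK LD1_c5 LD2_c44 LD3_c35))))
theorem seed_622 : LEOK LG_b (LK LD1_c5 LD2_c44 LD3_c35) :=
  Leoe_b (LK LD1_c5 LD2_c44 LD3_c35) (f694825 IH)
theorem f694826 : Led Lsl_ct (LP (LK LD1_c8 LD2_c21 LD3_c25)) = v12626 :=
  Lgr Lrot59 (Lpr_cf (f694823 IH) (Lpn v12626))
theorem f406129 : Led Lsl_ct (LP (LK LD1_c5 LD2_c44 LD3_c35)) = (LP (LK LD1_c9 LD2_c45 LD3_c54)) :=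
  Lgr Lrot59 (Lpr_cf (f406127 IH) (Lpn (LP (LK LD1_c9 LD2_c45 LD3_c54))))
theorem f304805 : Led Lsl_ct (LP (LK LD1_c4 LD2_c19 LD3_c0)) = (LP (LK LD1_c8 LD2_c36 LD3_c36)) :=
  Lre_c IH (LK LD1_c4 LD2_c19 LD3_c0) (LK LD1_c8 LD2_c36 LD3_c36) Lrfl Lrfl
theorem f694827 : Led Lsl_bf (LP (LK LD1_c5 LD2_c44 LD3_c35)) = (LP (LK LD1_c8 LD2_c36 LD3_c36)) :=
  Lgr Lrot90 (Lpr_ct (f406129 IH) (Lpe (f406119 IH) (Lpr_ct (f694826 IH) (Lpe (f694822 IH) (Lpr_ct (f304805 IH) (Lpn (LP (LK LD1_c8 LD2_c36 LD3_c36))))))))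
theorem f139403 : Led Lsl_ft (LP (LK LD1_c1 LD2_c56 LD3_c23)) = (LP (LK LD1_c3 LD2_c3 LD3_c23)) :=
  Lgr Lrot4 (Lpe (K7.f37818 IH) (Lpr_ff (K6.f139401 IH) (Lpe (K6.f72251 IH) (Lpn (LP (LK LD1_c3 LD2_c3 LD3_c23))))))
theorem f565460 : Led Lsl_et (LP (LK LD1_c5 LD2_c52 LD3_c55)) = (LP (LK LD1_c5 LD2_c13 LD3_c53)) :=
  Lgr Lrot69 (Lpr_ff (K41.f565450 IH) (Lpe (K8.f101727 IH) (Lpe (f139403 IH) (Lpe (K41.f157817 IH) (Lpe (K35.f421197 IH) (Lpn (LP (LK LD1_c5 LD2_c13 LD3_c53))))))))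
theorem f596026 : Led Lsl_et (LP (LK LD1_c4 LD2_c5 LD3_c55)) = (LP (LK LD1_c8 LD2_c12 LD3_c30)) :=
  Lre_e IH (LK LD1_c4 LD2_c5 LD3_c55) (LK LD1_c8 LD2_c12 LD3_c30) Lrfl Lrfl
theorem f572452 : Led Lsl_dt (LP (LK LD1_c4 LD2_c5 LD3_c55)) = (LP (LK LD1_c8 LD2_c12 LD3_c29)) :=
  Lre_d IH (LK LD1_c4 LD2_c5 LD3_c55) (LK LD1_c8 LD2_c12 LD3_c29) Lrfl Lrfl
theorem f596027 : Led Lsl_gt (LP (LK LD1_c5 LD2_c54 LD3_c60)) = (LP (LK LD1_c8 LD2_c12 LD3_c29)) :=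
  Lgr Lrot112 (Lpe (K41.f421248 IH) (Lpr_et (K42.f570509 IH) (Lpr_gf (K37.f171701 IH) (Lpe (f565460 IH) (Lpr_dt (K46.f564227 IH) (Lpr_gf (K46.f565486 IH) (Lpr_df (K46.f596019 IH) (Lpe (K45.f565266 IH) (Lpe (f596026 IH) (Lpr_dt (f572452 IH) (Lpn (LP (LK LD1_c8 LD2_c12 LD3_c29)))))))))))))
theorem f587599 : Led Lsl_af (LP (LK LD1_c22 LD2_c52 LD3_c32)) = (LP (LK LD1_c13 LD2_c50 LD3_c53)) :=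
  Lgr Lrot0 (Lpr_at (K45.f587597 IH) (Lpn (LP (LK LD1_c13 LD2_c50 LD3_c53))))
theorem f587614 : Led Lsl_ft (LP (LK LD1_c15 LD2_c10 LD3_c7)) = (LP (LK LD1_c13 LD2_c50 LD3_c53)) :=
  Lgr Lrot48 (Lpr_ff (K45.f587606 IH) (Lpn (LP (LK LD1_c13 LD2_c50 LD3_c53))))
theorem f594064 : Led Lsl_gt (LP (LK LD1_c15 LD2_c10 LD3_c7)) = (LP (LK LD1_c20 LD2_c33 LD3_c24)) :=
  Lgr Lrot5 (Lpr_ft (f587614 IH) (Lpe (f587599 IH) (Lpr_gf (K45.f594062 IH) (Lpn (LP (LK LD1_c20 LD2_c33 LD3_c24))))))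
theorem f5082 : Led Lsl_ct (LP (LK LD1_c13 LD2_c47 LD3_c29)) = (LP (LK LD1_c23 LD2_c14 LD3_c55)) :=
  Lre_c IH (LK LD1_c13 LD2_c47 LD3_c29) (LK LD1_c23 LD2_c14 LD3_c55) Lrfl Lrfl
theorem f593520 : Led Lsl_dt (LP (LK LD1_c15 LD2_c13 LD3_c13)) = (LP (LK LD1_c8 LD2_c4 LD3_c60)) :=
  Lre_d IH (LK LD1_c15 LD2_c13 LD3_c13) (LK LD1_c8 LD2_c4 LD3_c60) Lrfl Lrfl
theorem f593760 : Led Lsl_ct (LP (LK LD1_c25 LD2_c2 LD3_c12)) = (LP (LK LD1_c15 LD2_c13 LD3_c13)) :=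
  Lre_c IH (LK LD1_c25 LD2_c2 LD3_c12) (LK LD1_c15 LD2_c13 LD3_c13) Lrfl Lrfl
theorem f593779 : Led Lsl_gt (LP (LK LD1_c23 LD2_c14 LD3_c55)) = (LP (LK LD1_c25 LD2_c2 LD3_c12)) :=
  Lgr Lrot150 (Lpe (f5082 IH) (Lpe (K43.f575031 IH) (Lpe (K43.f552276 IH) (Lpr_gt (K43.f574564 IH) (Lpe (K43.f574549 IH) (Lpr_gt (K43.f574535 IH) (Lpr_ct (K45.f593771 IH) (Lpe (f593520 IH) (Lpe (f593760 IH) (Lpn (LP (LK LD1_c25 LD2_c2 LD3_c12))))))))))))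
theorem f593777 : Led Lsl_at (LP (LK LD1_c15 LD2_c13 LD3_c18)) = (LP (LK LD1_c25 LD2_c2 LD3_c12)) :=
  Lre_a IH (LK LD1_c15 LD2_c13 LD3_c18) (LK LD1_c25 LD2_c2 LD3_c12) Lrfl Lrfl
theorem f593778 : Led Lsl_ft (LP (LK LD1_c25 LD2_c2 LD3_c19)) = (LP (LK LD1_c15 LD2_c13 LD3_c18)) :=
  Lre_f IH (LK LD1_c25 LD2_c2 LD3_c19) (LK LD1_c15 LD2_c13 LD3_c18) Lrfl Lrfl
theorem f593781 : Led Lsl_gf (LP (LK LD1_c23 LD2_c14 LD3_c55)) = (LP (LK LD1_c25 LD2_c2 LD3_c19)) :=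
  Lgr Lrot47 (Lpr_gt (f593779 IH) (Lpe (f593777 IH) (Lpe (f593778 IH) (Lpn (LP (LK LD1_c25 LD2_c2 LD3_c19))))))
theorem f593508 : Led Lsl_ct (LP (LK LD1_c15 LD2_c13 LD3_c20)) = (LP (LK LD1_c25 LD2_c2 LD3_c19)) :=
  Lre_c IH (LK LD1_c15 LD2_c13 LD3_c20) (LK LD1_c25 LD2_c2 LD3_c19) Lrfl Lrfl
theorem f596035 : Led Lsl_bt (LP (LK LD1_c15 LD2_c13 LD3_c20)) = (LP (LK LD1_c8 LD2_c12 LD3_c29)) :=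
  Lgr Lrot92 (Lpr_ct (f593508 IH) (Lpe (f593781 IH) (Lpe (f5082 IH) (Lpr_bt (K0.f5078 IH) (Lpr_gt (K41.f565683 IH) (Lpr_ct (K45.f196169 IH) (Lpr_gt (f594064 IH) (Lpe (K45.f239278 IH) (Lpr_bt (K47.f566945 IH) (Lpr_gt (f596027 IH) (Lpn (LP (LK LD1_c8 LD2_c12 LD3_c29)))))))))))))
theorem f596044 : Led Lsl_ff (LP (LK LD1_c15 LD2_c13 LD3_c14)) = (LP (LK LD1_c8 LD2_c12 LD3_c29)) :=
  Lgr Lrot25 (Lpr_bt (K45.f552322 IH) (Lpr_ft (K41.f552315 IH) (Lpr_bt (f596035 IH) (Lpn (LP (LK LD1_c8 LD2_c12 LD3_c29))))))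
theorem f596048 : Led Lsl_ft (LP (LK LD1_c8 LD2_c4 LD3_c61)) = (LP (LK LD1_c4 LD2_c5 LD3_c55)) :=
  Lgr Lrot54 (Lpe (K45.f552353 IH) (Lpr_ff (f596044 IH) (Lpe (f572452 IH) (Lpn (LP (LK LD1_c4 LD2_c5 LD3_c55))))))
theorem f596056 : Led Lsl_ff (LP (LK LD1_c8 LD2_c4 LD3_c61)) = (LP (LK LD1_c4 LD2_c5 LD3_c55)) :=
  Lgr Lrot3 (Lpr_ft (f596048 IH) (Lpn (LP (LK LD1_c4 LD2_c5 LD3_c55))))
theorem f565325 : Led Lsl_et (LP (LK LD1_c8 LD2_c12 LD3_c30)) = (LP (LK LD1_c4 LD2_c5 LD3_c55)) :=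
  Lre_e IH (LK LD1_c8 LD2_c12 LD3_c30) (LK LD1_c4 LD2_c5 LD3_c55) Lrfl Lrfl
theorem f596065 : Led Lsl_ft (LP (LK LD1_c12 LD2_c10 LD3_c59)) = (LP (LK LD1_c8 LD2_c12 LD3_c30)) :=
  Lgr Lrot86 (Lpr_ef (K43.f571886 IH) (Lpr_ff (K45.f593668 IH) (Lpe (K39.f552351 IH) (Lpr_ff (f596056 IH) (Lpe (f565325 IH) (Lpn (LP (LK LD1_c8 LD2_c12 LD3_c30))))))))
theorem f565267 : Led Lsl_dt (LP (LK LD1_c8 LD2_c12 LD3_c30)) = (LP (LK LD1_c15 LD2_c26 LD3_c36)) :=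
  Lre_d IH (LK LD1_c8 LD2_c12 LD3_c30) (LK LD1_c15 LD2_c26 LD3_c36) Lrfl Lrfl
theorem f596071 : Led Lsl_ff (LP (LK LD1_c11 LD2_c33 LD3_c8)) = (LP (LK LD1_c15 LD2_c26 LD3_c36)) :=
  Lgr Lrot19 (Lpr_dt (K43.f578793 IH) (Lpr_ft (f596065 IH) (Lpr_dt (f565267 IH) (Lpn (LP (LK LD1_c15 LD2_c26 LD3_c36))))))
theorem f552025 : Led Lsl_dt (LP (LK LD1_c17 LD2_c0 LD3_c29)) = (LP (LK LD1_c11 LD2_c6 LD3_c45)) :=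
  Lgr Lrot42 (Lpr_df (K43.f552023 IH) (Lpn (LP (LK LD1_c11 LD2_c6 LD3_c45))))
theorem f593658 : Led Lsl_at (LP (LK LD1_c11 LD2_c33 LD3_c8)) = (LP (LK LD1_c17 LD2_c0 LD3_c29)) :=
  Lgr Lrot51 (Lpr_df (K43.f578791 IH) (Lpr_af (K45.f593654 IH) (Lpe (f552025 IH) (Lpn (LP (LK LD1_c17 LD2_c0 LD3_c29))))))
theorem f596077 : Led Lsl_gf (LP (LK LD1_c11 LD2_c12 LD3_c58)) = (LP (LK LD1_c15 LD2_c26 LD3_c36)) :=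
  Lgr Lrot47 (Lpe (K45.f590190 IH) (Lpe (f593658 IH) (Lpr_ff (f596071 IH) (Lpn (LP (LK LD1_c15 LD2_c26 LD3_c36))))))
theorem f575057 : Led Lsl_dt (LP (LK LD1_c16 LD2_c31 LD3_c16)) = (LP (LK LD1_c13 LD2_c27 LD3_c57)) :=
  Lgr Lrot42 (Lpr_df (K43.f575055 IH) (Lpn (LP (LK LD1_c13 LD2_c27 LD3_c57))))
theorem f272777 : Led Lsl_gt (LP (LK LD1_c9 LD2_c47 LD3_c4)) = (LP (LK LD1_c17 LD2_c57 LD3_c16)) :=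
  Lre_g IH (LK LD1_c9 LD2_c47 LD3_c4) (LK LD1_c17 LD2_c57 LD3_c16) Lrfl Lrfl
theorem f593483 : Led Lsl_df (LP (LK LD1_c15 LD2_c13 LD3_c21)) = (LP (LK LD1_c17 LD2_c57 LD3_c16)) :=
  Lgr Lrot84 (Lpr_cf (K45.f593472 IH) (Lpe (f575057 IH) (Lpr_gf (K43.f565846 IH) (Lpe (K42.f138769 IH) (Lpe (K42.f565844 IH) (Lpe (K41.f424934 IH) (Lpr_gt (K39.f554405 IH) (Lpr_dt (K39.f272773 IH) (Lpr_gt (f272777 IH) (Lpn (LP (LK LD1_c17 LD2_c57 LD3_c16))))))))))))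
theorem f593485 : Led Lsl_ct (LP (LK LD1_c27 LD2_c41 LD3_c49)) = (LP (LK LD1_c17 LD2_c57 LD3_c16)) :=
  Lre_c IH (LK LD1_c27 LD2_c41 LD3_c49) (LK LD1_c17 LD2_c57 LD3_c16) Lrfl Lrfl
theorem f593486 : Led Lsl_gf (LP (LK LD1_c27 LD2_c41 LD3_c49)) = (LP (LK LD1_c26 LD2_c25 LD3_c21)) :=
  Lgr Lrot172 (Lpr_ct (f593485 IH) (Lpe (f593483 IH) (Lpr_cf (K45.f593472 IH) (Lpe (K43.f10630 IH) (Lpe (K42.f98331 IH) (Lpe (K42.f98225 IH) (Lpr_dt (K42.f98385 IH) (Lpe (K42.f570880 IH) (Lpr_ct (K42.f138765 IH) (Lpn (LP (LK LD1_c26 LD2_c25 LD3_c21))))))))))))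
theorem f272778 : Led Lsl_ct (LP (LK LD1_c17 LD2_c57 LD3_c16)) = (LP (LK LD1_c27 LD2_c41 LD3_c49)) :=
  Lre_c IH (LK LD1_c17 LD2_c57 LD3_c16) (LK LD1_c27 LD2_c41 LD3_c49) Lrfl Lrfl
theorem f596081 : Led Lsl_bt (LP (LK LD1_c17 LD2_c57 LD3_c16)) = (LP (LK LD1_c15 LD2_c26 LD3_c36)) :=
  Lgr Lrot22 (Lpr_ct (f272778 IH) (Lpr_gf (f593486 IH) (Lpe (K42.f138765 IH) (Lpr_gf (K42.f570880 IH) (Lpr_bf (K42.f570892 IH) (Lpr_ct (K42.f563358 IH) (Lpe (K40.f563228 IH) (Lpe (K40.f553437 IH) (Lpr_bt (K45.f590197 IH) (Lpr_gf (f596077 IH) (Lpn (LP (LK LD1_c15 LD2_c26 LD3_c36)))))))))))))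
theorem f553991 : Led Lsl_et (LP (LK LD1_c27 LD2_c41 LD3_c50)) = (LP (LK LD1_c17 LD2_c57 LD3_c16)) :=
  Lre_e IH (LK LD1_c27 LD2_c41 LD3_c50) (LK LD1_c17 LD2_c57 LD3_c16) Lrfl Lrfl
theorem f590928 : Led Lsl_et (LP (LK LD1_c15 LD2_c26 LD3_c36)) = (LP (LK LD1_c25 LD2_c18 LD3_c25)) :=
  Lre_e IH (LK LD1_c15 LD2_c26 LD3_c36) (LK LD1_c25 LD2_c18 LD3_c25) Lrfl Lrfl
theorem f596087 : Led Lsl_bf (LP (LK LD1_c27 LD2_c41 LD3_c50)) = (LP (LK LD1_c25 LD2_c18 LD3_c25)) :=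
  Lgr Lrot96 (Lpr_et (f553991 IH) (Lpr_bt (f596081 IH) (Lpr_et (f590928 IH) (Lpn (LP (LK LD1_c25 LD2_c18 LD3_c25))))))
theorem f596093 : Led Lsl_bt (LP (LK LD1_c27 LD2_c41 LD3_c50)) = (LP (LK LD1_c25 LD2_c18 LD3_c25)) :=
  Lgr Lrot127 (Lpr_bf (f596087 IH) (Lpn (LP (LK LD1_c25 LD2_c18 LD3_c25))))
theorem f565327 : Led Lsl_dt (LP (LK LD1_c25 LD2_c18 LD3_c25)) = (LP (LK LD1_c15 LD2_c26 LD3_c34)) :=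
  Lre_d IH (LK LD1_c25 LD2_c18 LD3_c25) (LK LD1_c15 LD2_c26 LD3_c34) Lrfl Lrfl
theorem f593511 : Led Lsl_et (LP (LK LD1_c25 LD2_c2 LD3_c22)) = (LP (LK LD1_c15 LD2_c13 LD3_c20)) :=
  Lre_e IH (LK LD1_c25 LD2_c2 LD3_c22) (LK LD1_c15 LD2_c13 LD3_c20) Lrfl Lrfl
theorem f596041 : Led Lsl_et (LP (LK LD1_c8 LD2_c12 LD3_c29)) = (LP (LK LD1_c15 LD2_c26 LD3_c34)) :=
  Lre_e IH (LK LD1_c8 LD2_c12 LD3_c29) (LK LD1_c15 LD2_c26 LD3_c34) Lrfl Lrfl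
theorem f596042 : Led Lsl_bf (LP (LK LD1_c25 LD2_c2 LD3_c22)) = (LP (LK LD1_c15 LD2_c26 LD3_c34)) :=
  Lgr Lrot96 (Lpr_et (f593511 IH) (Lpr_bt (f596035 IH) (Lpr_et (f596041 IH) (Lpn (LP (LK LD1_c15 LD2_c26 LD3_c34))))))
theorem f596095 : Led Lsl_df (LP (LK LD1_c27 LD2_c41 LD3_c50)) = (LP (LK LD1_c25 LD2_c2 LD3_c22)) :=
  Lgr Lrot12 (Lpr_bt (f596093 IH) (Lpr_dt (f565327 IH) (Lpe (f596042 IH) (Lpn (LP (LK LD1_c25 LD2_c2 LD3_c22))))))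
theorem f596097 : Led Lsl_at (LP (LK LD1_c15 LD2_c13 LD3_c25)) = (LP (LK LD1_c25 LD2_c2 LD3_c22)) :=
  Lre_a IH (LK LD1_c15 LD2_c13 LD3_c25) (LK LD1_c25 LD2_c2 LD3_c22) Lrfl Lrfl
theorem f443196 : Led Lsl_dt (LP (LK LD1_c8 LD2_c5 LD3_c6)) = (LP (LK LD1_c4 LD2_c2 LD3_c17)) :=
  Lre_d IH (LK LD1_c8 LD2_c5 LD3_c6) (LK LD1_c4 LD2_c2 LD3_c17) Lrfl Lrfl
theorem f552320 : Led Lsl_et (LP (LK LD1_c15 LD2_c13 LD3_c25)) = (LP (LK LD1_c8 LD2_c5 LD3_c6)) :=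
  Lre_e IH (LK LD1_c15 LD2_c13 LD3_c25) (LK LD1_c8 LD2_c5 LD3_c6) Lrfl Lrfl
theorem f556520 : Led Lsl_et (LP (LK LD1_c15 LD2_c8 LD3_c21)) = (LP (LK LD1_c24 LD2_c57 LD3_c10)) :=
  Lre_e IH (LK LD1_c15 LD2_c8 LD3_c21) (LK LD1_c24 LD2_c57 LD3_c10) Lrfl Lrfl
theorem f556521 : Led Lsl_df (LP (LK LD1_c15 LD2_c13 LD3_c25)) = (LP (LK LD1_c24 LD2_c57 LD3_c10)) :=
  Lgr Lrot70 (Lpr_et (f552320 IH) (Lpr_dt (f443196 IH) (Lpr_et (K43.f552319 IH) (Lpr_dt (K39.f556515 IH) (Lpr_et (f556520 IH) (Lpn (LP (LK LD1_c24 LD2_c57 LD3_c10))))))))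
theorem f596098 : Led Lsl_at (LP (LK LD1_c27 LD2_c41 LD3_c50)) = (LP (LK LD1_c24 LD2_c57 LD3_c10)) :=
  Lgr Lrot51 (Lpr_df (f596095 IH) (Lpe (f596097 IH) (Lpr_df (f556521 IH) (Lpn (LP (LK LD1_c24 LD2_c57 LD3_c10))))))
theorem f593500 : Led Lsl_et (LP (LK LD1_c17 LD2_c57 LD3_c16)) = (LP (LK LD1_c27 LD2_c41 LD3_c50)) :=
  Lre_e IH (LK LD1_c17 LD2_c57 LD3_c16) (LK LD1_c27 LD2_c41 LD3_c50) Lrfl Lrfl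
theorem f556530 : Led Lsl_et (LP (LK LD1_c24 LD2_c57 LD3_c10)) = (LP (LK LD1_c15 LD2_c8 LD3_c21)) :=
  Lre_e IH (LK LD1_c24 LD2_c57 LD3_c10) (LK LD1_c15 LD2_c8 LD3_c21) Lrfl Lrfl
theorem f596108 : Led Lsl_af (LP (LK LD1_c17 LD2_c57 LD3_c16)) = (LP (LK LD1_c15 LD2_c8 LD3_c21)) :=
  Lgr Lrot50 (Lpr_et (f593500 IH) (Lpr_at (f596098 IH) (Lpr_et (f556530 IH) (Lpn (LP (LK LD1_c15 LD2_c8 LD3_c21))))))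
theorem f596114 : Led Lsl_ft (LP (LK LD1_c17 LD2_c57 LD3_c17)) = (LP (LK LD1_c15 LD2_c8 LD3_c21)) :=
  Lgr Lrot2 (Lpr_gt (K42.f272576 IH) (Lpr_gt (f272777 IH) (Lpr_af (f596108 IH) (Lpn (LP (LK LD1_c15 LD2_c8 LD3_c21))))))
theorem f596121 : Led Lsl_ff (LP (LK LD1_c17 LD2_c57 LD3_c17)) = (LP (LK LD1_c15 LD2_c8 LD3_c21)) :=
  Lgr Lrot3 (Lpr_ft (f596114 IH) (Lpn (LP (LK LD1_c15 LD2_c8 LD3_c21))))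
theorem f29545 : Led Lsl_gt (LP (LK LD1_c15 LD2_c8 LD3_c22)) = (LP (LK LD1_c8 LD2_c2 LD3_c31)) :=
  Lre_g IH (LK LD1_c15 LD2_c8 LD3_c22) (LK LD1_c8 LD2_c2 LD3_c31) Lrfl Lrfl
theorem f556579 : Led Lsl_gt (LP (LK LD1_c8 LD2_c47 LD3_c28)) = (LP (LK LD1_c15 LD2_c8 LD3_c22)) :=
  Lgr Lrot5 (Lpr_ft (K39.f453222 IH) (Lpr_at (K39.f556541 IH) (Lpe (f29545 IH) (Lpn (LP (LK LD1_c15 LD2_c8 LD3_c22))))))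
theorem f596128 : Led Lsl_at (LP (LK LD1_c17 LD2_c57 LD3_c17)) = (LP (LK LD1_c15 LD2_c8 LD3_c22)) :=
  Lgr Lrot26 (Lpr_ff (f596121 IH) (Lpe (K39.f556526 IH) (Lpr_gt (f556579 IH) (Lpn (LP (LK LD1_c15 LD2_c8 LD3_c22))))))
theorem f596110 : Led Lsl_at (LP (LK LD1_c17 LD2_c57 LD3_c16)) = (LP (LK LD1_c15 LD2_c8 LD3_c21)) :=
  Lgr Lrot100 (Lpr_af (f596108 IH) (Lpn (LP (LK LD1_c15 LD2_c8 LD3_c21))))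
theorem f596136 : Led Lsl_ff (LP (LK LD1_c17 LD2_c57 LD3_c16)) = (LP (LK LD1_c15 LD2_c8 LD3_c22)) :=
  Lgr Lrot30 (Lpr_at (f596110 IH) (Lpe (f596121 IH) (Lpr_at (f596128 IH) (Lpn (LP (LK LD1_c15 LD2_c8 LD3_c22))))))
theorem f596144 : Led Lsl_ft (LP (LK LD1_c17 LD2_c57 LD3_c16)) = (LP (LK LD1_c15 LD2_c8 LD3_c22)) :=
  Lgr Lrot48 (Lpr_ff (f596136 IH) (Lpn (LP (LK LD1_c15 LD2_c8 LD3_c22))))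
theorem f596083 : Led Lsl_bf (LP (LK LD1_c17 LD2_c57 LD3_c16)) = (LP (LK LD1_c15 LD2_c26 LD3_c36)) :=
  Lgr Lrot24 (Lpr_bt (f596081 IH) (Lpn (LP (LK LD1_c15 LD2_c26 LD3_c36))))
theorem f596075 : Led Lsl_ft (LP (LK LD1_c11 LD2_c33 LD3_c8)) = (LP (LK LD1_c15 LD2_c26 LD3_c36)) :=
  Lgr Lrot48 (Lpr_ff (f596071 IH) (Lpn (LP (LK LD1_c15 LD2_c26 LD3_c36))))
theorem f596146 : Led Lsl_bf (LP (LK LD1_c11 LD2_c33 LD3_c8)) = (LP (LK LD1_c15 LD2_c8 LD3_c22)) :=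
  Lgr Lrot61 (Lpr_ft (f596075 IH) (Lpe (f596083 IH) (Lpr_ft (f596144 IH) (Lpn (LP (LK LD1_c15 LD2_c8 LD3_c22))))))
theorem f578795 : Led Lsl_et (LP (LK LD1_c11 LD2_c33 LD3_c8)) = (LP (LK LD1_c20 LD2_c30 LD3_c21)) :=
  Lre_e IH (LK LD1_c11 LD2_c33 LD3_c8) (LK LD1_c20 LD2_c30 LD3_c21) Lrfl Lrfl
theorem f557107 : Led Lsl_dt (LP (LK LD1_c15 LD2_c7 LD3_c18)) = (LP (LK LD1_c8 LD2_c37 LD3_c42)) :=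
  Lgr Lrot27 (Lpr_cf (K40.f236873 IH) (Lpe (K40.f236868 IH) (Lpe (K40.f40129 IH) (Lpr_gf (K39.f553932 IH) (Lpe (K39.f412358 IH) (Lpr_gt (K39.f557103 IH) (Lpr_ct (K39.f551969 IH) (Lpr_gt (K40.f386982 IH) (Lpr_ct (K40.f225662 IH) (Lpn (LP (LK LD1_c8 LD2_c37 LD3_c42))))))))))))
theorem f236875 : Led Lsl_et (LP (LK LD1_c24 LD2_c55 LD3_c45)) = (LP (LK LD1_c15 LD2_c7 LD3_c18)) :=
  Lre_e IH (LK LD1_c24 LD2_c55 LD3_c45) (LK LD1_c15 LD2_c7 LD3_c18) Lrfl Lrfl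
theorem f578796 : Led Lsl_dt (LP (LK LD1_c20 LD2_c30 LD3_c21)) = (LP (LK LD1_c24 LD2_c55 LD3_c45)) :=
  Lgr Lrot77 (Lpe (f578795 IH) (Lpr_df (K43.f578791 IH) (Lpr_ef (K43.f571886 IH) (Lpe (f557107 IH) (Lpe (f236875 IH) (Lpn (LP (LK LD1_c24 LD2_c55 LD3_c45))))))))
theorem f578801 : Led Lsl_df (LP (LK LD1_c20 LD2_c30 LD3_c21)) = (LP (LK LD1_c24 LD2_c55 LD3_c45)) :=
  Lgr Lrot38 (Lpr_dt (f578796 IH) (Lpn (LP (LK LD1_c24 LD2_c55 LD3_c45))))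
theorem f578805 : Led Lsl_bt (LP (LK LD1_c15 LD2_c7 LD3_c20)) = (LP (LK LD1_c24 LD2_c55 LD3_c45)) :=
  Lre_b IH (LK LD1_c15 LD2_c7 LD3_c20) (LK LD1_c24 LD2_c55 LD3_c45) Lrfl Lrfl
theorem f573455 : Led Lsl_dt (LP (LK LD1_c24 LD2_c55 LD3_c52)) = (LP (LK LD1_c15 LD2_c7 LD3_c20)) :=
  Lre_d IH (LK LD1_c24 LD2_c55 LD3_c52) (LK LD1_c15 LD2_c7 LD3_c20) Lrfl Lrfl
theorem f578806 : Led Lsl_bt (LP (LK LD1_c20 LD2_c30 LD3_c21)) = (LP (LK LD1_c24 LD2_c55 LD3_c52)) :=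
  Lgr Lrot95 (Lpr_df (f578801 IH) (Lpe (f578805 IH) (Lpe (f573455 IH) (Lpn (LP (LK LD1_c24 LD2_c55 LD3_c52))))))
theorem f596366 : Led Lsl_et (LP (LK LD1_c24 LD2_c55 LD3_c52)) = (LP (LK LD1_c15 LD2_c8 LD3_c22)) :=
  Lgr Lrot74 (Lpe (f578806 IH) (Lpe (f578795 IH) (Lpr_bf (f596146 IH) (Lpn (LP (LK LD1_c15 LD2_c8 LD3_c22))))))
theorem f596370 : Led Lsl_ef (LP (LK LD1_c24 LD2_c55 LD3_c52)) = (LP (LK LD1_c15 LD2_c8 LD3_c22)) :=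
  Lgr Lrot88 (Lpr_et (f596366 IH) (Lpn (LP (LK LD1_c15 LD2_c8 LD3_c22))))
theorem f553990 : Led Lsl_et (LP (LK LD1_c27 LD2_c41 LD3_c52)) = (LP (LK LD1_c17 LD2_c57 LD3_c17)) :=
  Lre_e IH (LK LD1_c27 LD2_c41 LD3_c52) (LK LD1_c17 LD2_c57 LD3_c17) Lrfl Lrfl
theorem f596372 : Led Lsl_at (LP (LK LD1_c24 LD2_c55 LD3_c52)) = (LP (LK LD1_c27 LD2_c41 LD3_c52)) :=
  Lgr Lrot80 (Lpr_ef (f596370 IH) (Lpe (f596128 IH) (Lpe (f553990 IH) (Lpn (LP (LK LD1_c27 LD2_c41 LD3_c52))))))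
theorem f552021 : Led Lsl_et (LP (LK LD1_c11 LD2_c6 LD3_c44)) = (LP (LK LD1_c20 LD2_c0 LD3_c4)) :=
  Lre_e IH (LK LD1_c11 LD2_c6 LD3_c44) (LK LD1_c20 LD2_c0 LD3_c4) Lrfl Lrfl
theorem f593691 : Led Lsl_af (LP (LK LD1_c24 LD2_c55 LD3_c45)) = (LP (LK LD1_c20 LD2_c0 LD3_c4)) :=
  Lgr Lrot50 (Lpr_et (f236875 IH) (Lpr_at (K45.f593686 IH) (Lpr_et (f552021 IH) (Lpn (LP (LK LD1_c20 LD2_c0 LD3_c4))))))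
theorem f552027 : Led Lsl_et (LP (LK LD1_c17 LD2_c0 LD3_c29)) = (LP (LK LD1_c26 LD2_c55 LD3_c36)) :=
  Lre_e IH (LK LD1_c17 LD2_c0 LD3_c29) (LK LD1_c26 LD2_c55 LD3_c36) Lrfl Lrfl
theorem f427688 : Led Lsl_et (LP (LK LD1_c20 LD2_c0 LD3_c4)) = (LP (LK LD1_c11 LD2_c6 LD3_c44)) :=
  Lre_e IH (LK LD1_c20 LD2_c0 LD3_c4) (LK LD1_c11 LD2_c6 LD3_c44) Lrfl Lrfl
theorem f552028 : Led Lsl_dt (LP (LK LD1_c26 LD2_c55 LD3_c36)) = (LP (LK LD1_c20 LD2_c0 LD3_c4)) :=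
  Lgr Lrot77 (Lpe (f552027 IH) (Lpr_df (K43.f552023 IH) (Lpe (K45.f427687 IH) (Lpe (K39.f402574 IH) (Lpe (f427688 IH) (Lpn (LP (LK LD1_c20 LD2_c0 LD3_c4))))))))
theorem f593695 : Led Lsl_at (LP (LK LD1_c20 LD2_c30 LD3_c21)) = (LP (LK LD1_c26 LD2_c55 LD3_c36)) :=
  Lgr Lrot51 (Lpr_df (f578801 IH) (Lpr_af (f593691 IH) (Lpe (f552028 IH) (Lpn (LP (LK LD1_c26 LD2_c55 LD3_c36))))))
theorem f593697 : Led Lsl_af (LP (LK LD1_c20 LD2_c30 LD3_c21)) = (LP (LK LD1_c26 LD2_c55 LD3_c36)) :=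
  Lgr Lrot0 (Lpr_at (f593695 IH) (Lpn (LP (LK LD1_c26 LD2_c55 LD3_c36))))
theorem f561620 : Led Lsl_et (LP (LK LD1_c21 LD2_c15 LD3_c10)) = (LP (LK LD1_c29 LD2_c55 LD3_c34)) :=
  Lre_e IH (LK LD1_c21 LD2_c15 LD3_c10) (LK LD1_c29 LD2_c55 LD3_c34) Lrfl Lrfl
theorem f552032 : Led Lsl_et (LP (LK LD1_c26 LD2_c55 LD3_c36)) = (LP (LK LD1_c17 LD2_c0 LD3_c29)) :=
  Lre_e IH (LK LD1_c26 LD2_c55 LD3_c36) (LK LD1_c17 LD2_c0 LD3_c29) Lrfl Lrfl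
theorem f561621 : Led Lsl_bt (LP (LK LD1_c29 LD2_c55 LD3_c34)) = (LP (LK LD1_c26 LD2_c55 LD3_c36)) :=
  Lgr Lrot119 (Lpe (f561620 IH) (Lpr_bf (K43.f561616 IH) (Lpe (f552032 IH) (Lpn (LP (LK LD1_c26 LD2_c55 LD3_c36))))))
theorem f571324 : Led Lsl_et (LP (LK LD1_c17 LD2_c57 LD3_c17)) = (LP (LK LD1_c27 LD2_c41 LD3_c52)) :=
  Lre_e IH (LK LD1_c17 LD2_c57 LD3_c17) (LK LD1_c27 LD2_c41 LD3_c52) Lrfl Lrfl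
theorem f569289 : Led Lsl_et (LP (LK LD1_c26 LD2_c56 LD3_c40)) = (LP (LK LD1_c17 LD2_c1 LD3_c39)) :=
  Lre_e IH (LK LD1_c26 LD2_c56 LD3_c40) (LK LD1_c17 LD2_c1 LD3_c39) Lrfl Lrfl
theorem f571325 : Led Lsl_bt (LP (LK LD1_c27 LD2_c41 LD3_c52)) = (LP (LK LD1_c26 LD2_c56 LD3_c40)) :=
  Lgr Lrot119 (Lpe (f571324 IH) (Lpr_bf (K42.f571319 IH) (Lpe (f569289 IH) (Lpn (LP (LK LD1_c26 LD2_c56 LD3_c40))))))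
theorem f596374 : Led Lsl_af (LP (LK LD1_c29 LD2_c55 LD3_c34)) = (LP (LK LD1_c26 LD2_c56 LD3_c40)) :=
  Lgr Lrot36 (Lpr_bt (f561621 IH) (Lpe (f593697 IH) (Lpr_bt (f578806 IH) (Lpr_at (f596372 IH) (Lpr_bt (f571325 IH) (Lpn (LP (LK LD1_c26 LD2_c56 LD3_c40))))))))
theorem f596381 : Led Lsl_at (LP (LK LD1_c29 LD2_c55 LD3_c34)) = (LP (LK LD1_c26 LD2_c56 LD3_c40)) :=
  Lgr Lrot100 (Lpr_af (f596374 IH) (Lpn (LP (LK LD1_c26 LD2_c56 LD3_c40))))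
theorem f596385 : Led Lsl_af (LP (LK LD1_c21 LD2_c15 LD3_c10)) = (LP (LK LD1_c17 LD2_c1 LD3_c39)) :=
  Lgr Lrot50 (Lpr_et (f561620 IH) (Lpr_at (f596381 IH) (Lpr_et (f569289 IH) (Lpn (LP (LK LD1_c17 LD2_c1 LD3_c39))))))
theorem f596387 : Led Lsl_at (LP (LK LD1_c26 LD2_c56 LD3_c17)) = (LP (LK LD1_c21 LD2_c10 LD3_c25)) :=
  Lgr Lrot107 (Lpr_cf (K43.f575876 IH) (Lpr_af (f596385 IH) (Lpr_cf (K44.f569296 IH) (Lpn (LP (LK LD1_c21 LD2_c10 LD3_c25))))))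
theorem f596391 : Led Lsl_ff (LP (LK LD1_c26 LD2_c56 LD3_c17)) = (LP (LK LD1_c21 LD2_c10 LD3_c24)) :=
  Lgr Lrot52 (Lpr_at (f596387 IH) (Lpe (K42.f559914 IH) (Lpr_gf (K43.f549725 IH) (Lpn (LP (LK LD1_c21 LD2_c10 LD3_c24))))))
theorem f596395 : Led Lsl_ft (LP (LK LD1_c26 LD2_c56 LD3_c17)) = (LP (LK LD1_c21 LD2_c10 LD3_c24)) :=
  Lgr Lrot48 (Lpr_ff (f596391 IH) (Lpn (LP (LK LD1_c21 LD2_c10 LD3_c24))))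
theorem f596397 : Led Lsl_ff (LP (LK LD1_c21 LD2_c15 LD3_c10)) = (LP (LK LD1_c17 LD2_c1 LD3_c38)) :=
  Lgr Lrot23 (Lpe (K43.f575876 IH) (Lpr_ft (f596395 IH) (Lpe (K43.f549729 IH) (Lpn (LP (LK LD1_c17 LD2_c1 LD3_c38))))))
theorem f596362 : Led Lsl_at (LP (LK LD1_c21 LD2_c15 LD3_c10)) = (LP (LK LD1_c17 LD2_c1 LD3_c39)) :=
  Lgr Lrot67 (Lpr_bf (K43.f561616 IH) (Lpe (f593658 IH) (Lpr_bf (f596146 IH) (Lpe (f596128 IH) (Lpr_bf (K42.f571319 IH) (Lpn (LP (LK LD1_c17 LD2_c1 LD3_c39))))))))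
theorem f575917 : Led Lsl_bt (LP (LK LD1_c24 LD2_c5 LD3_c26)) = (LP (LK LD1_c15 LD2_c8 LD3_c21)) :=
  Lgr Lrot95 (Lpe (K43.f97178 IH) (Lpr_bf (K43.f575913 IH) (Lpr_df (K43.f556518 IH) (Lpn (LP (LK LD1_c15 LD2_c8 LD3_c21))))))
theorem f596123 : Led Lsl_ft (LP (LK LD1_c17 LD2_c1 LD3_c39)) = (LP (LK LD1_c24 LD2_c5 LD3_c26)) :=
  Lgr Lrot75 (Lpe (K42.f571321 IH) (Lpr_ff (f596121 IH) (Lpe (f575917 IH) (Lpn (LP (LK LD1_c24 LD2_c5 LD3_c26))))))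
theorem f596399 : Led Lsl_at (LP (LK LD1_c24 LD2_c5 LD3_c26)) = (LP (LK LD1_c17 LD2_c1 LD3_c38)) :=
  Lgr Lrot66 (Lpe (f596123 IH) (Lpe (f596362 IH) (Lpr_ff (f596397 IH) (Lpn (LP (LK LD1_c17 LD2_c1 LD3_c38))))))
theorem f596401 : Led Lsl_af (LP (LK LD1_c24 LD2_c5 LD3_c26)) = (LP (LK LD1_c17 LD2_c1 LD3_c38)) :=
  Lgr Lrot0 (Lpr_at (f596399 IH) (Lpn (LP (LK LD1_c17 LD2_c1 LD3_c38))))
theorem f596403 : Led Lsl_at (LP (LK LD1_c14 LD2_c25 LD3_c34)) = (LP (LK LD1_c11 LD2_c27 LD3_c40)) :=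
  Lgr Lrot51 (Lpe (K43.f546823 IH) (Lpr_af (f596401 IH) (Lpr_df (K42.f569426 IH) (Lpn (LP (LK LD1_c11 LD2_c27 LD3_c40))))))
theorem f575923 : Led Lsl_ef (LP (LK LD1_c14 LD2_c25 LD3_c34)) = (LP (LK LD1_c8 LD2_c5 LD3_c4)) :=
  Lgr Lrot88 (Lpr_et (K43.f575919 IH) (Lpn (LP (LK LD1_c8 LD2_c5 LD3_c4))))
theorem f596405 : Led Lsl_af (LP (LK LD1_c8 LD2_c5 LD3_c4)) = (LP (LK LD1_c6 LD2_c16 LD3_c0)) :=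
  Lgr Lrot50 (Lpe (f575923 IH) (Lpr_at (f596403 IH) (Lpe (K42.f569430 IH) (Lpn (LP (LK LD1_c6 LD2_c16 LD3_c0))))))
theorem f503131 : Led Lsl_dt (LP (LK LD1_c12 LD2_c9 LD3_c40)) = (LP (LK LD1_c6 LD2_c16 LD3_c0)) :=
  Lre_d IH (LK LD1_c12 LD2_c9 LD3_c40) (LK LD1_c6 LD2_c16 LD3_c0) Lrfl Lrfl
theorem f596409 : Led Lsl_at (LP (LK LD1_c15 LD2_c13 LD3_c22)) = (LP (LK LD1_c12 LD2_c9 LD3_c40)) :=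
  Lgr Lrot51 (Lpe (K39.f552300 IH) (Lpr_af (f596405 IH) (Lpe (f503131 IH) (Lpn (LP (LK LD1_c12 LD2_c9 LD3_c40))))))
theorem f552286 : Led Lsl_dt (LP (LK LD1_c15 LD2_c13 LD3_c22)) = (LP (LK LD1_c8 LD2_c5 LD3_c4)) :=
  Lre_d IH (LK LD1_c15 LD2_c13 LD3_c22) (LK LD1_c8 LD2_c5 LD3_c4) Lrfl Lrfl
theorem f593539 : Led Lsl_ft (LP (LK LD1_c12 LD2_c9 LD3_c39)) = (LP (LK LD1_c15 LD2_c13 LD3_c22)) :=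
  Lgr Lrot54 (Lpe (K45.f81007 IH) (Lpr_ff (K45.f593535 IH) (Lpe (f552286 IH) (Lpn (LP (LK LD1_c15 LD2_c13 LD3_c22))))))
theorem f596417 : Led Lsl_gt (LP (LK LD1_c12 LD2_c9 LD3_c39)) = (LP (LK LD1_c15 LD2_c4 LD3_c43)) :=
  Lgr Lrot5 (Lpr_ft (f593539 IH) (Lpr_at (f596409 IH) (Lpe (K45.f592662 IH) (Lpn (LP (LK LD1_c15 LD2_c4 LD3_c43))))))
def v1823 : LQ := Led Lsl_gt (LP (LK LD1_c1 LD2_c28 LD3_c38))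
theorem f503129 : Led Lsl_gt (LP (LK LD1_c1 LD2_c28 LD3_c38)) = v1823 :=
  Lrfl
theorem f80994 : Led Lsl_bf (LP (LK LD1_c4 LD2_c24 LD3_c13)) = (LP (LK LD1_c3 LD2_c5 LD3_c6)) :=
  Lgr Lrot24 (Lpr_bt (K5.f80992 IH) (Lpn (LP (LK LD1_c3 LD2_c5 LD3_c6))))
theorem f563662 : v1823 = (LP (LK LD1_c1 LD2_c25 LD3_c45)) :=
  (Llr Lrot65 (Lpe (f503129 IH) (Lpe (K8.f80997 IH) (Lpe (f80994 IH) (Lpr_gf (K43.f563652 IH) (Lpe (K42.f211613 IH) (Lpr_ct (K13.f211608 IH) (Lpr_gf (K13.f196353 IH) (Lpe (K1.f46654 IH) (Lpe (K10.f193441 IH) (Lpr_bf (K42.f193468 IH) (Lpr_ct (K43.f176032 IH) (Lpn (LP (LK LD1_c1 LD2_c25 LD3_c45))))))))))))))).symm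
theorem f175976 : Led Lsl_gt (LP (LK LD1_c2 LD2_c59 LD3_c60)) = (LP (LK LD1_c6 LD2_c7 LD3_c36)) :=
  Lre_g IH (LK LD1_c2 LD2_c59 LD3_c60) (LK LD1_c6 LD2_c7 LD3_c36) Lrfl Lrfl
theorem f567084 : Led Lsl_ct (LP (LK LD1_c4 LD2_c5 LD3_c38)) = (LP (LK LD1_c7 LD2_c59 LD3_c60)) :=
  Lgr Lrot8 (Lpr_gt (K41.f567082 IH) (Lpr_dt (K41.f161374 IH) (Lpr_gt (K41.f540025 IH) (Lpr_dt (K41.f132789 IH) (Lpe (K42.f132775 IH) (Lpe (K39.f132774 IH) (Lpr_gf (K41.f552394 IH) (Lpe (K41.f157818 IH) (Lpe (K41.f161202 IH) (Lpn (LP (LK LD1_c7 LD2_c59 LD3_c60))))))))))))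
theorem f596421 : Led Lsl_dt (LP (LK LD1_c6 LD2_c7 LD3_c36)) = (LP (LK LD1_c4 LD2_c5 LD3_c38)) :=
  Lgr Lrot105 (Lpe (f175976 IH) (Lpe (K18.f175972 IH) (Lpq (f563662 IH) (Lpe (f503129 IH) (Lpe (K8.f80997 IH) (Lpr_gt (K43.f81006 IH) (Lpr_dt (K45.f81007 IH) (Lpr_gt (f596417 IH) (Lpr_dt (K45.f427955 IH) (Lpe (f567084 IH) (Lpn (LP (LK LD1_c4 LD2_c5 LD3_c38)))))))))))))
theorem f181083 : Led Lsl_ct (LP (LK LD1_c5 LD2_c14 LD3_c3)) = (LP (LK LD1_c2 LD2_c33 LD3_c55)) :=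
  Lre_c IH (LK LD1_c5 LD2_c14 LD3_c3) (LK LD1_c2 LD2_c33 LD3_c55) Lrfl Lrfl
theorem f250018 : Led Lsl_gt (LP (LK LD1_c10 LD2_c18 LD3_c5)) = (LP (LK LD1_c5 LD2_c14 LD3_c3)) :=
  Lre_g IH (LK LD1_c10 LD2_c18 LD3_c5) (LK LD1_c5 LD2_c14 LD3_c3) Lrfl Lrfl
theorem f594555 : Led Lsl_cf (LP (LK LD1_c18 LD2_c24 LD3_c30)) = (LP (LK LD1_c26 LD2_c26 LD3_c35)) :=
  Lgr Lrot11 (Lpr_ct (K45.f594527 IH) (Lpn (LP (LK LD1_c26 LD2_c26 LD3_c35))))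
theorem f428081 : Led Lsl_dt (LP (LK LD1_c18 LD2_c24 LD3_c30)) = (LP (LK LD1_c10 LD2_c5 LD3_c45)) :=
  Lre_d IH (LK LD1_c18 LD2_c24 LD3_c30) (LK LD1_c10 LD2_c5 LD3_c45) Lrfl Lrfl
theorem f586703 : Led Lsl_gt (LP (LK LD1_c17 LD2_c3 LD3_c20)) = (LP (LK LD1_c18 LD2_c42 LD3_c3)) :=
  Lgr Lrot49 (Lpe (K45.f542470 IH) (Lpe (K45.f542471 IH) (Lpr_cf (K45.f586691 IH) (Lpr_gt (K43.f570490 IH) (Lpr_dt (K45.f574891 IH) (Lpr_gt (K38.f421437 IH) (Lpr_dt (K36.f138933 IH) (Lpe (K36.f427599 IH) (Lpe (K36.f427609 IH) (Lpn (LP (LK LD1_c18 LD2_c42 LD3_c3))))))))))))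
theorem f594557 : Led Lsl_gf (LP (LK LD1_c10 LD2_c17 LD3_c41)) = (LP (LK LD1_c9 LD2_c10 LD3_c13)) :=
  Lgr Lrot147 (Lpr_ct (K45.f417531 IH) (Lpe (K42.f572810 IH) (Lpr_ct (K40.f428080 IH) (Lpe (f428081 IH) (Lpr_cf (f594555 IH) (Lpe (K45.f427613 IH) (Lpe (K36.f427607 IH) (Lpe (f586703 IH) (Lpe (K45.f542470 IH) (Lpn (LP (LK LD1_c9 LD2_c10 LD3_c13))))))))))))
theorem f308431 : Led Lsl_bt (LP (LK LD1_c5 LD2_c7 LD3_c16)) = (LP (LK LD1_c5 LD2_c14 LD3_c12)) :=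
  Lgr Lrot95 (Lpe (K32.f308430 IH) (Lpr_bf (K36.f308426 IH) (Lpe (K40.f308073 IH) (Lpn (LP (LK LD1_c5 LD2_c14 LD3_c12))))))
theorem f308474 : Led Lsl_at (LP (LK LD1_c10 LD2_c17 LD3_c59)) = (LP (LK LD1_c5 LD2_c14 LD3_c3)) :=
  Lre_a IH (LK LD1_c10 LD2_c17 LD3_c59) (LK LD1_c5 LD2_c14 LD3_c3) Lrfl Lrfl
theorem f308475 : Led Lsl_ff (LP (LK LD1_c10 LD2_c17 LD3_c59)) = (LP (LK LD1_c10 LD2_c5 LD3_c4)) :=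
  Lgr Lrot30 (Lpr_at (f308474 IH) (Lpr_ft (K32.f308472 IH) (Lpr_at (K32.f308471 IH) (Lpn (LP (LK LD1_c10 LD2_c5 LD3_c4))))))
theorem f308614 : Led Lsl_gf (LP (LK LD1_c10 LD2_c18 LD3_c5)) = (LP (LK LD1_c10 LD2_c5 LD3_c4)) :=
  Lgr Lrot47 (Lpr_gt (f250018 IH) (Lpe (f308474 IH) (Lpr_ff (f308475 IH) (Lpn (LP (LK LD1_c10 LD2_c5 LD3_c4))))))
theorem f542435 : Led Lsl_ct (LP (LK LD1_c4 LD2_c37 LD3_c18)) = (LP (LK LD1_c9 LD2_c10 LD3_c13)) :=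
  Lre_c IH (LK LD1_c4 LD2_c37 LD3_c18) (LK LD1_c9 LD2_c10 LD3_c13) Lrfl Lrfl
theorem f571374 : Led Lsl_bt (LP (LK LD1_c6 LD2_c16 LD3_c8)) = (LP (LK LD1_c5 LD2_c5 LD3_c58)) :=
  Lgr Lrot95 (Lpe (K42.f138513 IH) (Lpr_bf (K42.f571368 IH) (Lpe (K38.f495426 IH) (Lpn (LP (LK LD1_c5 LD2_c5 LD3_c58))))))
theorem f594559 : Led Lsl_cf (LP (LK LD1_c10 LD2_c18 LD3_c5)) = (LP (LK LD1_c6 LD2_c16 LD3_c8)) :=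
  Lgr Lrot58 (Lpr_gf (f308614 IH) (Lpe (K32.f308442 IH) (Lpr_bt (f308431 IH) (Lpe (K39.f387292 IH) (Lpe (K42.f165700 IH) (Lpe (K42.f417528 IH) (Lpr_gf (f594557 IH) (Lpe (f542435 IH) (Lpe (K43.f579645 IH) (Lpe (f571374 IH) (Lpn (LP (LK LD1_c6 LD2_c16 LD3_c8)))))))))))))
theorem f596433 : Led Lsl_gt (LP (LK LD1_c6 LD2_c7 LD3_c36)) = (LP (LK LD1_c6 LD2_c16 LD3_c8)) :=
  Lgr Lrot146 (Lpr_dt (f596421 IH) (Lpr_gt (K41.f567082 IH) (Lpr_ct (K43.f159170 IH) (Lpe (K37.f544496 IH) (Lpr_ct (K32.f164079 IH) (Lpr_dt (K32.f61410 IH) (Lpe (f181083 IH) (Lpe (f250018 IH) (Lpr_cf (f594559 IH) (Lpn (LP (LK LD1_c6 LD2_c16 LD3_c8))))))))))))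
theorem f407107 : Led Lsl_ft (LP (LK LD1_c2 LD2_c59 LD3_c60)) = (LP (LK LD1_c4 LD2_c5 LD3_c44)) :=
  Lgr Lrot48 (Lpr_ff (K39.f407102 IH) (Lpn (LP (LK LD1_c4 LD2_c5 LD3_c44))))
theorem f596436 : Led Lsl_at (LP (LK LD1_c4 LD2_c5 LD3_c44)) = (LP (LK LD1_c6 LD2_c16 LD3_c8)) :=
  Lgr Lrot26 (Lpe (f407107 IH) (Lpr_gt (f175976 IH) (Lpr_gt (f596433 IH) (Lpn (LP (LK LD1_c6 LD2_c16 LD3_c8))))))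
theorem f182439 : Led Lsl_ct (LP (LK LD1_c8 LD2_c12 LD3_c12)) = (LP (LK LD1_c4 LD2_c5 LD3_c44)) :=
  Lre_c IH (LK LD1_c8 LD2_c12 LD3_c12) (LK LD1_c4 LD2_c5 LD3_c44) Lrfl Lrfl
theorem f596440 : Led Lsl_af (LP (LK LD1_c8 LD2_c12 LD3_c12)) = (LP (LK LD1_c10 LD2_c18 LD3_c5)) :=
  Lgr Lrot68 (Lpr_ct (f182439 IH) (Lpr_at (f596436 IH) (Lpe (f594559 IH) (Lpn (LP (LK LD1_c10 LD2_c18 LD3_c5))))))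
theorem f407111 : Led Lsl_at (LP (LK LD1_c6 LD2_c7 LD3_c33)) = (LP (LK LD1_c2 LD2_c59 LD3_c60)) :=
  Lre_a IH (LK LD1_c6 LD2_c7 LD3_c33) (LK LD1_c2 LD2_c59 LD3_c60) Lrfl Lrfl
theorem f571394 : Led Lsl_ff (LP (LK LD1_c6 LD2_c7 LD3_c33)) = (LP (LK LD1_c6 LD2_c16 LD3_c8)) :=
  Lgr Lrot52 (Lpr_at (f407111 IH) (Lpe (K42.f175979 IH) (Lpr_gf (K42.f571392 IH) (Lpn (LP (LK LD1_c6 LD2_c16 LD3_c8))))))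
theorem f138497 : Led Lsl_dt (LP (LK LD1_c6 LD2_c16 LD3_c8)) = (LP (LK LD1_c3 LD2_c5 LD3_c9)) :=
  Lre_d IH (LK LD1_c6 LD2_c16 LD3_c8) (LK LD1_c3 LD2_c5 LD3_c9) Lrfl Lrfl
theorem f575859 : Led Lsl_ct (LP (LK LD1_c10 LD2_c18 LD3_c5)) = (LP (LK LD1_c6 LD2_c16 LD3_c8)) :=
  Lgr Lrot110 (Lpr_gf (f308614 IH) (Lpe (K32.f308442 IH) (Lpe (K36.f406590 IH) (Lpe (K36.f539736 IH) (Lpe (K43.f288171 IH) (Lpr_ct (K44.f552294 IH) (Lpr_gt (K43.f575850 IH) (Lpr_ct (K43.f546561 IH) (Lpe (f138497 IH) (Lpn (LP (LK LD1_c6 LD2_c16 LD3_c8))))))))))))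
theorem f579663 : Led Lsl_ft (LP (LK LD1_c10 LD2_c5 LD3_c11)) = (LP (LK LD1_c10 LD2_c18 LD3_c5)) :=
  Lgr Lrot4 (Lpr_cf (K43.f579657 IH) (Lpr_ff (f571394 IH) (Lpe (f575859 IH) (Lpn (LP (LK LD1_c10 LD2_c18 LD3_c5))))))
theorem f596464 : Led Lsl_gf (LP (LK LD1_c8 LD2_c12 LD3_c12)) = (LP (LK LD1_c5 LD2_c7 LD3_c22)) :=
  Lgr Lrot76 (Lpr_af (f596440 IH) (Lpe (f579663 IH) (Lpr_gt (K43.f194056 IH) (Lpn (LP (LK LD1_c5 LD2_c7 LD3_c22))))))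
theorem f596466 : Led Lsl_df (LP (LK LD1_c4 LD2_c53 LD3_c48)) = (LP (LK LD1_c5 LD2_c7 LD3_c21)) :=
  Lgr Lrot155 (Lpr_gt (K43.f177778 IH) (Lpr_ct (K12.f225556 IH) (Lpe (K39.f547954 IH) (Lpe (K38.f182428 IH) (Lpr_dt (K39.f182433 IH) (Lpe (f182439 IH) (Lpr_gf (f596464 IH) (Lpe (K43.f194055 IH) (Lpe (K43.f53306 IH) (Lpn (LP (LK LD1_c5 LD2_c7 LD3_c21))))))))))))
theorem f593537 : Led Lsl_ft (LP (LK LD1_c4 LD2_c53 LD3_c48)) = (LP (LK LD1_c4 LD2_c53 LD3_c54)) :=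
  Lgr Lrot4 (Lpr_cf (K45.f573990 IH) (Lpr_ff (K45.f593535 IH) (Lpe (K39.f552284 IH) (Lpn (LP (LK LD1_c4 LD2_c53 LD3_c54))))))
theorem f596470 : Led Lsl_ft (LP (LK LD1_c5 LD2_c14 LD3_c2)) = (LP (LK LD1_c5 LD2_c7 LD3_c21)) :=
  Lgr Lrot54 (Lpe (K43.f572340 IH) (Lpe (f593537 IH) (Lpr_df (f596466 IH) (Lpn (LP (LK LD1_c5 LD2_c7 LD3_c21))))))
theorem f596479 : Led Lsl_af (LP (LK LD1_c5 LD2_c14 LD3_c1)) = (LP (LK LD1_c5 LD2_c7 LD3_c21)) :=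
  Lgr Lrot31 (Lpe (K36.f61415 IH) (Lpe (K43.f61416 IH) (Lpr_ft (f596470 IH) (Lpn (LP (LK LD1_c5 LD2_c7 LD3_c21))))))
theorem f596481 : Led Lsl_at (LP (LK LD1_c5 LD2_c14 LD3_c1)) = (LP (LK LD1_c5 LD2_c7 LD3_c21)) :=
  Lgr Lrot100 (Lpr_af (f596479 IH) (Lpn (LP (LK LD1_c5 LD2_c7 LD3_c21))))
theorem f596483 : Led Lsl_af (LP (LK LD1_c4 LD2_c53 LD3_c53)) = (LP (LK LD1_c4 LD2_c53 LD3_c48)) :=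
  Lgr Lrot117 (Lpr_dt (K36.f539736 IH) (Lpr_at (f596481 IH) (Lpe (f596466 IH) (Lpn (LP (LK LD1_c4 LD2_c53 LD3_c48))))))
theorem f596503 : Led Lsl_ft (LP (LK LD1_c4 LD2_c53 LD3_c54)) = (LP (LK LD1_c4 LD2_c53 LD3_c48)) :=
  Lgr Lrot101 (Lpe (K44.f581994 IH) (Lpr_ff (K44.f581988 IH) (Lpr_af (f596483 IH) (Lpn (LP (LK LD1_c4 LD2_c53 LD3_c48))))))
theorem f596505 : Led Lsl_ff (LP (LK LD1_c6 LD2_c15 LD3_c22)) = (LP (LK LD1_c3 LD2_c4 LD3_c48)) :=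
  Lgr Lrot72 (Lpr_et (K42.f569256 IH) (Lpr_ft (K44.f582010 IH) (Lpr_et (K43.f177299 IH) (Lpr_ft (f596503 IH) (Lpe (K43.f573961 IH) (Lpn (LP (LK LD1_c3 LD2_c4 LD3_c48))))))))
theorem f596511 : Led Lsl_ft (LP (LK LD1_c6 LD2_c15 LD3_c22)) = (LP (LK LD1_c3 LD2_c4 LD3_c48)) :=
  Lgr Lrot48 (Lpr_ff (f596505 IH) (Lpn (LP (LK LD1_c3 LD2_c4 LD3_c48))))
theorem f596513 : Led Lsl_ff (LP (LK LD1_c12 LD2_c8 LD3_c51)) = (LP (LK LD1_c6 LD2_c15 LD3_c31)) :=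
  Lgr Lrot19 (Lpr_dt (K39.f60812 IH) (Lpr_ft (f596511 IH) (Lpr_dt (K43.f60838 IH) (Lpn (LP (LK LD1_c6 LD2_c15 LD3_c31))))))
theorem f547285 : Led Lsl_gf (LP (LK LD1_c5 LD2_c40 LD3_c1)) = (LP (LK LD1_c6 LD2_c15 LD3_c31)) :=
  Lgr Lrot147 (Lpr_ct (K36.f424386 IH) (Lpr_gt (K31.f172621 IH) (Lpr_ct (K31.f172609 IH) (Lpe (K30.f172543 IH) (Lpe (K30.f172617 IH) (Lpr_gf (K38.f547276 IH) (Lpr_cf (K35.f60444 IH) (Lpe (K38.f60806 IH) (Lpe (K43.f60881 IH) (Lpn (LP (LK LD1_c6 LD2_c15 LD3_c31))))))))))))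
theorem f596517 : Led Lsl_at (LP (LK LD1_c12 LD2_c8 LD3_c51)) = (LP (LK LD1_c6 LD2_c15 LD3_c27)) :=
  Lgr Lrot26 (Lpr_ff (f596513 IH) (Lpe (f547285 IH) (Lpr_gt (K42.f572063 IH) (Lpn (LP (LK LD1_c6 LD2_c15 LD3_c27))))))
theorem f596521 : Led Lsl_af (LP (LK LD1_c11 LD2_c12 LD3_c59)) = (LP (LK LD1_c12 LD2_c8 LD3_c54)) :=
  Lgr Lrot68 (Lpe (K39.f556167 IH) (Lpr_at (f596517 IH) (Lpr_ct (K40.f60731 IH) (Lpn (LP (LK LD1_c12 LD2_c8 LD3_c54))))))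
theorem f596531 : Led Lsl_ft (LP (LK LD1_c9 LD2_c45 LD3_c56)) = (LP (LK LD1_c12 LD2_c8 LD3_c54)) :=
  Lgr Lrot2 (Lpr_gt (K40.f423507 IH) (Lpr_gt (K39.f423455 IH) (Lpr_af (f596521 IH) (Lpn (LP (LK LD1_c12 LD2_c8 LD3_c54))))))
theorem f596535 : Led Lsl_ff (LP (LK LD1_c9 LD2_c45 LD3_c56)) = (LP (LK LD1_c12 LD2_c8 LD3_c54)) :=
  Lgr Lrot3 (Lpr_ft (f596531 IH) (Lpn (LP (LK LD1_c12 LD2_c8 LD3_c54))))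
theorem f596537 : Led Lsl_ft (LP (LK LD1_c4 LD2_c57 LD3_c33)) = (LP (LK LD1_c6 LD2_c15 LD3_c27)) :=
  Lgr Lrot4 (Lpe (K43.f174135 IH) (Lpr_ff (f596535 IH) (Lpe (K40.f60731 IH) (Lpn (LP (LK LD1_c6 LD2_c15 LD3_c27))))))
theorem f384180 : Led Lsl_bt (LP (LK LD1_c2 LD2_c26 LD3_c39)) = (LP (LK LD1_c4 LD2_c57 LD3_c33)) :=
  Lre_b IH (LK LD1_c2 LD2_c26 LD3_c39) (LK LD1_c4 LD2_c57 LD3_c33) Lrfl Lrfl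
theorem f596541 : Led Lsl_ff (LP (LK LD1_c2 LD2_c26 LD3_c39)) = (LP (LK LD1_c4 LD2_c57 LD3_c26)) :=
  Lgr Lrot25 (Lpr_bt (f384180 IH) (Lpr_ft (f596537 IH) (Lpr_bt (K40.f559738 IH) (Lpn (LP (LK LD1_c4 LD2_c57 LD3_c26))))))
theorem f596545 : Led Lsl_at (LP (LK LD1_c2 LD2_c26 LD3_c39)) = (LP (LK LD1_c4 LD2_c57 LD3_c27)) :=
  Lgr Lrot26 (Lpr_ff (f596541 IH) (Lpr_gt (K38.f40771 IH) (Lpr_gt (K9.f40772 IH) (Lpn (LP (LK LD1_c4 LD2_c57 LD3_c27))))))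
theorem f596519 : Led Lsl_af (LP (LK LD1_c12 LD2_c8 LD3_c51)) = (LP (LK LD1_c6 LD2_c15 LD3_c27)) :=
  Lgr Lrot0 (Lpr_at (f596517 IH) (Lpn (LP (LK LD1_c6 LD2_c15 LD3_c27))))
theorem f596509 : Led Lsl_ft (LP (LK LD1_c12 LD2_c8 LD3_c51)) = (LP (LK LD1_c6 LD2_c15 LD3_c31)) :=
  Lgr Lrot54 (Lpe (K39.f60813 IH) (Lpr_ff (f596505 IH) (Lpe (K43.f60881 IH) (Lpn (LP (LK LD1_c6 LD2_c15 LD3_c31))))))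
theorem f596539 : Led Lsl_af (LP (LK LD1_c4 LD2_c57 LD3_c33)) = (LP (LK LD1_c6 LD2_c15 LD3_c31)) :=
  Lgr Lrot45 (Lpr_ft (f596537 IH) (Lpe (f596519 IH) (Lpr_ft (f596509 IH) (Lpn (LP (LK LD1_c6 LD2_c15 LD3_c31))))))
theorem f573971 : Led Lsl_bt (LP (LK LD1_c12 LD2_c8 LD3_c56)) = (LP (LK LD1_c6 LD2_c15 LD3_c31)) :=
  Lre_b IH (LK LD1_c12 LD2_c8 LD3_c56) (LK LD1_c6 LD2_c15 LD3_c31) Lrfl Lrfl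
theorem f596549 : Led Lsl_af (LP (LK LD1_c12 LD2_c8 LD3_c56)) = (LP (LK LD1_c9 LD2_c3 LD3_c58)) :=
  Lgr Lrot36 (Lpr_bt (f573971 IH) (Lpe (f596539 IH) (Lpr_bt (K31.f174134 IH) (Lpr_at (f596545 IH) (Lpr_bt (K38.f174651 IH) (Lpn (LP (LK LD1_c9 LD2_c3 LD3_c58))))))))
theorem f596555 : Led Lsl_ft (LP (LK LD1_c4 LD2_c57 LD3_c30)) = (LP (LK LD1_c9 LD2_c3 LD3_c58)) :=
  Lgr Lrot2 (Lpe (K39.f424174 IH) (Lpe (K44.f582507 IH) (Lpr_af (f596549 IH) (Lpn (LP (LK LD1_c9 LD2_c3 LD3_c58))))))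
theorem f596563 : Led Lsl_ff (LP (LK LD1_c4 LD2_c57 LD3_c30)) = (LP (LK LD1_c9 LD2_c3 LD3_c58)) :=
  Lgr Lrot3 (Lpr_ft (f596555 IH) (Lpn (LP (LK LD1_c9 LD2_c3 LD3_c58))))
theorem f596567 : Led Lsl_ft (LP (LK LD1_c2 LD2_c26 LD3_c38)) = (LP (LK LD1_c4 LD2_c57 LD3_c27)) :=
  Lgr Lrot75 (Lpe (K9.f168559 IH) (Lpr_ff (f596563 IH) (Lpe (K38.f174651 IH) (Lpn (LP (LK LD1_c4 LD2_c57 LD3_c27))))))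
theorem f596595 : Led Lsl_ff (LP (LK LD1_c4 LD2_c31 LD3_c3)) = (LP (LK LD1_c2 LD2_c44 LD3_c40)) :=
  Lgr Lrot19 (Lpr_dt (K39.f383258 IH) (Lpr_ft (f596567 IH) (Lpe (K35.f427522 IH) (Lpn (LP (LK LD1_c2 LD2_c44 LD3_c40))))))
theorem f596603 : Led Lsl_at (LP (LK LD1_c4 LD2_c31 LD3_c3)) = (LP (LK LD1_c2 LD2_c44 LD3_c41)) :=
  Lgr Lrot26 (Lpr_ff (f596595 IH) (Lpe (K39.f289393 IH) (Lpe (K38.f384159 IH) (Lpn (LP (LK LD1_c2 LD2_c44 LD3_c41))))))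
theorem f596605 : Led Lsl_af (LP (LK LD1_c4 LD2_c31 LD3_c3)) = (LP (LK LD1_c2 LD2_c44 LD3_c41)) :=
  Lgr Lrot0 (Lpr_at (f596603 IH) (Lpn (LP (LK LD1_c2 LD2_c44 LD3_c41))))
theorem f596613 : Led Lsl_at (LP (LK LD1_c9 LD2_c0 LD3_c9)) = (LP (LK LD1_c5 LD2_c37 LD3_c29)) :=
  Lgr Lrot80 (Lpe (K43.f383296 IH) (Lpr_af (f596605 IH) (Lpe (K40.f165149 IH) (Lpn (LP (LK LD1_c5 LD2_c37 LD3_c29))))))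
theorem f596615 : Led Lsl_af (LP (LK LD1_c5 LD2_c53 LD3_c0)) = (LP (LK LD1_c9 LD2_c6 LD3_c57)) :=
  Lgr Lrot117 (Lpr_dt (K40.f559505 IH) (Lpr_at (f596613 IH) (Lpr_dt (K40.f559704 IH) (Lpn (LP (LK LD1_c9 LD2_c6 LD3_c57))))))
theorem f596621 : Led Lsl_ft (LP (LK LD1_c5 LD2_c53 LD3_c1)) = (LP (LK LD1_c9 LD2_c6 LD3_c57)) :=
  Lgr Lrot2 (Lpr_gt (K37.f211803 IH) (Lpr_gt (K40.f211802 IH) (Lpr_af (f596615 IH) (Lpn (LP (LK LD1_c9 LD2_c6 LD3_c57))))))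
theorem f596625 : Led Lsl_ff (LP (LK LD1_c5 LD2_c53 LD3_c1)) = (LP (LK LD1_c9 LD2_c6 LD3_c57)) :=
  Lgr Lrot3 (Lpr_ft (f596621 IH) (Lpn (LP (LK LD1_c9 LD2_c6 LD3_c57))))
theorem f596629 : Led Lsl_at (LP (LK LD1_c5 LD2_c53 LD3_c1)) = (LP (LK LD1_c9 LD2_c6 LD3_c56)) :=
  Lgr Lrot26 (Lpr_ff (f596625 IH) (Lpr_gt (K40.f211081 IH) (Lpr_gt (K40.f449347 IH) (Lpn (LP (LK LD1_c9 LD2_c6 LD3_c56))))))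
theorem f596617 : Led Lsl_at (LP (LK LD1_c5 LD2_c53 LD3_c0)) = (LP (LK LD1_c9 LD2_c6 LD3_c57)) :=
  Lgr Lrot100 (Lpr_af (f596615 IH) (Lpn (LP (LK LD1_c9 LD2_c6 LD3_c57))))
theorem f596637 : Led Lsl_ff (LP (LK LD1_c5 LD2_c53 LD3_c0)) = (LP (LK LD1_c9 LD2_c6 LD3_c56)) :=
  Lgr Lrot30 (Lpr_at (f596617 IH) (Lpe (f596625 IH) (Lpr_at (f596629 IH) (Lpn (LP (LK LD1_c9 LD2_c6 LD3_c56))))))
theorem f596643 : Led Lsl_ft (LP (LK LD1_c5 LD2_c53 LD3_c0)) = (LP (LK LD1_c9 LD2_c6 LD3_c56)) :=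
  Lgr Lrot48 (Lpr_ff (f596637 IH) (Lpn (LP (LK LD1_c9 LD2_c6 LD3_c56))))
theorem f596647 : Led Lsl_ff (LP (LK LD1_c11 LD2_c20 LD3_c38)) = (LP (LK LD1_c6 LD2_c1 LD3_c36)) :=
  Lgr Lrot23 (Lpe (K40.f559511 IH) (Lpr_ft (f596643 IH) (Lpe (K40.f545822 IH) (Lpn (LP (LK LD1_c6 LD2_c1 LD3_c36))))))
theorem f562379 : Led Lsl_dt (LP (LK LD1_c11 LD2_c47 LD3_c53)) = (LP (LK LD1_c6 LD2_c1 LD3_c36)) :=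
  Lre_d IH (LK LD1_c11 LD2_c47 LD3_c53) (LK LD1_c6 LD2_c1 LD3_c36) Lrfl Lrfl
theorem f596653 : Led Lsl_ft (LP (LK LD1_c20 LD2_c18 LD3_c4)) = (LP (LK LD1_c11 LD2_c47 LD3_c53)) :=
  Lgr Lrot54 (Lpe (K41.f176492 IH) (Lpr_ff (f596647 IH) (Lpe (f562379 IH) (Lpn (LP (LK LD1_c11 LD2_c47 LD3_c53))))))
theorem f387415 : Led Lsl_dt (LP (LK LD1_c11 LD2_c20 LD3_c39)) = (LP (LK LD1_c20 LD2_c18 LD3_c6)) :=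
  Lre_d IH (LK LD1_c11 LD2_c20 LD3_c39) (LK LD1_c20 LD2_c18 LD3_c6) Lrfl Lrfl
theorem f563976 : Led Lsl_gf (LP (LK LD1_c17 LD2_c58 LD3_c57)) = (LP (LK LD1_c20 LD2_c18 LD3_c6)) :=
  Lgr Lrot143 (Lpr_dt (K41.f545772 IH) (Lpr_cf (K40.f545774 IH) (Lpr_df (K41.f563974 IH) (Lpr_gf (K40.f558453 IH) (Lpe (K40.f386648 IH) (Lpe (K27.f386660 IH) (Lpe (K41.f387416 IH) (Lpr_gt (K39.f387414 IH) (Lpr_dt (f387415 IH) (Lpn (LP (LK LD1_c20 LD2_c18 LD3_c6))))))))))))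
theorem f564131 : Led Lsl_gf (LP (LK LD1_c20 LD2_c18 LD3_c6)) = (LP (LK LD1_c17 LD2_c58 LD3_c60)) :=
  Lgr Lrot47 (Lpe (f563976 IH) (Lpr_af (K41.f564119 IH) (Lpe (K41.f564115 IH) (Lpn (LP (LK LD1_c17 LD2_c58 LD3_c60))))))
theorem f596657 : Led Lsl_af (LP (LK LD1_c20 LD2_c18 LD3_c6)) = (LP (LK LD1_c11 LD2_c47 LD3_c53)) :=
  Lgr Lrot31 (Lpr_gf (f564131 IH) (Lpr_gf (K41.f558528 IH) (Lpr_ft (f596653 IH) (Lpn (LP (LK LD1_c11 LD2_c47 LD3_c53))))))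
theorem f596659 : Led Lsl_at (LP (LK LD1_c20 LD2_c18 LD3_c6)) = (LP (LK LD1_c11 LD2_c47 LD3_c53)) :=
  Lgr Lrot100 (Lpr_af (f596657 IH) (Lpn (LP (LK LD1_c11 LD2_c47 LD3_c53))))
theorem f564173 : Led Lsl_dt (LP (LK LD1_c9 LD2_c6 LD3_c56)) = (LP (LK LD1_c5 LD2_c38 LD3_c34)) :=
  Lgr Lrot6 (Lpe (K40.f539888 IH) (Lpr_ct (K36.f539841 IH) (Lpe (K41.f562459 IH) (Lpr_ct (K41.f442640 IH) (Lpr_df (K39.f442633 IH) (Lpr_cf (K41.f564165 IH) (Lpr_gf (K41.f562534 IH) (Lpe (K40.f211829 IH) (Lpr_gf (K43.f450439 IH) (Lpn (LP (LK LD1_c5 LD2_c38 LD3_c34))))))))))))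
theorem f562415 : Led Lsl_ct (LP (LK LD1_c6 LD2_c1 LD3_c36)) = (LP (LK LD1_c9 LD2_c6 LD3_c56)) :=
  Lgr Lrot8 (Lpr_gt (K40.f545821 IH) (Lpr_dt (K40.f562369 IH) (Lpr_gt (K40.f539892 IH) (Lpr_dt (K37.f539891 IH) (Lpe (K37.f539890 IH) (Lpe (K37.f72505 IH) (Lpe (K36.f72493 IH) (Lpe (K37.f539833 IH) (Lpr_gf (K40.f539888 IH) (Lpn (LP (LK LD1_c9 LD2_c6 LD3_c56))))))))))))
theorem f198309 : Led Lsl_bf (LP (LK LD1_c1 LD2_c3 LD3_c18)) = (LP (LK LD1_c1 LD2_c5 LD3_c54)) :=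
  Lgr Lrot93 (Lpe (K9.f164267 IH) (Lpr_bt (K10.f198305 IH) (Lpe (K10.f175547 IH) (Lpn (LP (LK LD1_c1 LD2_c5 LD3_c54))))))
theorem f210996 : Led Lsl_ct (LP (LK LD1_c4 LD2_c31 LD3_c14)) = (LP (LK LD1_c2 LD2_c45 LD3_c9)) :=
  Lgr Lrot83 (Lpe (K40.f20794 IH) (Lpe (K10.f20726 IH) (Lpr_bf (f198309 IH) (Lpr_cf (K36.f210992 IH) (Lpe (K38.f24525 IH) (Lpn (LP (LK LD1_c2 LD2_c45 LD3_c9))))))))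
theorem f562627 : Led Lsl_df (LP (LK LD1_c5 LD2_c0 LD3_c5)) = (LP (LK LD1_c6 LD2_c17 LD3_c12)) :=
  Lgr Lrot162 (Lpe (K38.f175605 IH) (Lpe (K43.f561225 IH) (Lpe (K38.f211095 IH) (Lpe (K39.f211082 IH) (Lpe (K41.f562491 IH) (Lpe (K43.f558457 IH) (Lpr_ct (f210996 IH) (Lpr_gt (K40.f24546 IH) (Lpr_ct (K40.f562618 IH) (Lpn (LP (LK LD1_c6 LD2_c17 LD3_c12))))))))))))
theorem f545303 : Led Lsl_dt (LP (LK LD1_c9 LD2_c50 LD3_c44)) = (LP (LK LD1_c18 LD2_c1 LD3_c48)) :=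
  Lre_d IH (LK LD1_c9 LD2_c50 LD3_c44) (LK LD1_c18 LD2_c1 LD3_c48) Lrfl Lrfl
theorem f546189 : Led Lsl_dt (LP (LK LD1_c6 LD2_c1 LD3_c37)) = (LP (LK LD1_c11 LD2_c47 LD3_c56)) :=
  Lre_d IH (LK LD1_c6 LD2_c1 LD3_c37) (LK LD1_c11 LD2_c47 LD3_c56) Lrfl Lrfl
theorem f562343 : Led Lsl_cf (LP (LK LD1_c18 LD2_c1 LD3_c48)) = (LP (LK LD1_c11 LD2_c47 LD3_c56)) :=
  Lgr Lrot14 (Lpe (f545303 IH) (Lpe (K43.f561225 IH) (Lpe (K38.f211078 IH) (Lpe (K38.f545311 IH) (Lpe (K40.f562308 IH) (Lpr_gt (K40.f562336 IH) (Lpe (K40.f562341 IH) (Lpr_gt (K43.f387451 IH) (Lpr_dt (f546189 IH) (Lpn (LP (LK LD1_c11 LD2_c47 LD3_c56))))))))))))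
theorem f562351 : Led Lsl_ct (LP (LK LD1_c18 LD2_c1 LD3_c48)) = (LP (LK LD1_c11 LD2_c47 LD3_c56)) :=
  Lgr Lrot59 (Lpr_cf (f562343 IH) (Lpn (LP (LK LD1_c11 LD2_c47 LD3_c56))))
theorem f559712 : Led Lsl_dt (LP (LK LD1_c11 LD2_c47 LD3_c56)) = (LP (LK LD1_c6 LD2_c1 LD3_c37)) :=
  Lre_d IH (LK LD1_c11 LD2_c47 LD3_c56) (LK LD1_c6 LD2_c1 LD3_c37) Lrfl Lrfl
theorem f559714 : Led Lsl_ct (LP (LK LD1_c6 LD2_c1 LD3_c37)) = (LP (LK LD1_c9 LD2_c6 LD3_c57)) :=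
  Lgr Lrot59 (Lpr_cf (K40.f559710 IH) (Lpn (LP (LK LD1_c9 LD2_c6 LD3_c57))))
theorem f549704 : Led Lsl_dt (LP (LK LD1_c9 LD2_c50 LD3_c46)) = (LP (LK LD1_c18 LD2_c1 LD3_c54)) :=
  Lre_d IH (LK LD1_c9 LD2_c50 LD3_c46) (LK LD1_c18 LD2_c1 LD3_c54) Lrfl Lrfl
theorem f564175 : Led Lsl_cf (LP (LK LD1_c11 LD2_c47 LD3_c53)) = (LP (LK LD1_c18 LD2_c1 LD3_c54)) :=
  Lgr Lrot55 (Lpr_dt (f562379 IH) (Lpr_ct (f562415 IH) (Lpr_dt (f564173 IH) (Lpr_ct (K40.f562618 IH) (Lpe (f562627 IH) (Lpr_ct (K38.f175601 IH) (Lpr_dt (f545303 IH) (Lpr_ct (f562351 IH) (Lpr_dt (f559712 IH) (Lpr_ct (f559714 IH) (Lpe (K40.f559706 IH) (Lpe (K40.f558367 IH) (Lpr_dt (K40.f558369 IH) (Lpr_ct (K44.f100512 IH) (Lpr_dt (f549704 IH) (Lpn (LP (LK LD1_c18 LD2_c1 LD3_c54))))))))))))))))))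
theorem f596662 : Led Lsl_ff (LP (LK LD1_c20 LD2_c18 LD3_c6)) = (LP (LK LD1_c11 LD2_c47 LD3_c56)) :=
  Lgr Lrot103 (Lpr_at (f596659 IH) (Lpr_cf (f564175 IH) (Lpe (f549704 IH) (Lpe (K44.f100512 IH) (Lpe (K40.f558369 IH) (Lpr_cf (K40.f558367 IH) (Lpr_df (K40.f559706 IH) (Lpe (f559714 IH) (Lpe (f559712 IH) (Lpn (LP (LK LD1_c11 LD2_c47 LD3_c56))))))))))))
theorem f596655 : Led Lsl_ff (LP (LK LD1_c20 LD2_c18 LD3_c4)) = (LP (LK LD1_c11 LD2_c47 LD3_c53)) :=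
  Lgr Lrot3 (Lpr_ft (f596653 IH) (Lpn (LP (LK LD1_c11 LD2_c47 LD3_c53))))
theorem f596664 : Led Lsl_at (LP (LK LD1_c20 LD2_c18 LD3_c4)) = (LP (LK LD1_c11 LD2_c47 LD3_c56)) :=
  Lgr Lrot66 (Lpr_ff (f596655 IH) (Lpe (f596659 IH) (Lpr_ff (f596662 IH) (Lpn (LP (LK LD1_c11 LD2_c47 LD3_c56))))))
theorem f450278 : Led Lsl_ft (LP (LK LD1_c2 LD2_c14 LD3_c43)) = (LP (LK LD1_c1 LD2_c22 LD3_c30)) :=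
  Lgr Lrot54 (Lpr_df (K40.f418595 IH) (Lpr_ff (K38.f450274 IH) (Lpr_df (K38.f24529 IH) (Lpn (LP (LK LD1_c1 LD2_c22 LD3_c30))))))
theorem f450423 : Led Lsl_ff (LP (LK LD1_c4 LD2_c35 LD3_c9)) = (LP (LK LD1_c2 LD2_c52 LD3_c52)) :=
  Lgr Lrot25 (Lpr_bt (K40.f418592 IH) (Lpr_ft (f450278 IH) (Lpr_bt (K40.f24526 IH) (Lpn (LP (LK LD1_c2 LD2_c52 LD3_c52))))))
theorem f418610 : Led Lsl_at (LP (LK LD1_c4 LD2_c35 LD3_c9)) = (LP (LK LD1_c9 LD2_c7 LD3_c0)) :=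
  Lre_a IH (LK LD1_c4 LD2_c35 LD3_c9) (LK LD1_c9 LD2_c7 LD3_c0) Lrfl Lrfl
theorem f548699 : Led Lsl_gf (LP (LK LD1_c9 LD2_c7 LD3_c0)) = (LP (LK LD1_c4 LD2_c58 LD3_c51)) :=
  Lgr Lrot76 (Lpe (f418610 IH) (Lpr_ff (f450423 IH) (Lpr_gt (K38.f548695 IH) (Lpn (LP (LK LD1_c4 LD2_c58 LD3_c51))))))
theorem f562611 : Led Lsl_dt (LP (LK LD1_c11 LD2_c42 LD3_c19)) = (LP (LK LD1_c20 LD2_c42 LD3_c34)) :=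
  Lre_d IH (LK LD1_c11 LD2_c42 LD3_c19) (LK LD1_c20 LD2_c42 LD3_c34) Lrfl Lrfl
theorem f562614 : Led Lsl_gf (LP (LK LD1_c11 LD2_c47 LD3_c56)) = (LP (LK LD1_c20 LD2_c42 LD3_c34)) :=
  Lgr Lrot143 (Lpr_dt (f559712 IH) (Lpr_cf (K40.f559710 IH) (Lpe (K40.f559704 IH) (Lpr_gf (K40.f562532 IH) (Lpe (K40.f418608 IH) (Lpr_gf (f548699 IH) (Lpe (K40.f139021 IH) (Lpr_gt (K40.f562609 IH) (Lpr_dt (f562611 IH) (Lpn (LP (LK LD1_c20 LD2_c42 LD3_c34))))))))))))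
theorem f596703 : Led Lsl_gt (LP (LK LD1_c11 LD2_c47 LD3_c53)) = (LP (LK LD1_c20 LD2_c42 LD3_c34)) :=
  Lgr Lrot5 (Lpe (f596655 IH) (Lpr_at (f596664 IH) (Lpr_gf (f562614 IH) (Lpn (LP (LK LD1_c20 LD2_c42 LD3_c34))))))
theorem f564121 : Led Lsl_at (LP (LK LD1_c17 LD2_c58 LD3_c57)) = (LP (LK LD1_c20 LD2_c42 LD3_c34)) :=
  Lgr Lrot100 (Lpr_af (K41.f564119 IH) (Lpn (LP (LK LD1_c20 LD2_c42 LD3_c34))))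
theorem f564138 : Led Lsl_ff (LP (LK LD1_c17 LD2_c58 LD3_c57)) = (LP (LK LD1_c20 LD2_c25 LD3_c53)) :=
  Lgr Lrot3 (Lpr_ft (K41.f564129 IH) (Lpn (LP (LK LD1_c20 LD2_c25 LD3_c53))))
theorem f596705 : Led Lsl_gf (LP (LK LD1_c11 LD2_c47 LD3_c53)) = (LP (LK LD1_c20 LD2_c25 LD3_c53)) :=
  Lgr Lrot47 (Lpr_gt (f596703 IH) (Lpe (f564121 IH) (Lpr_ff (f564138 IH) (Lpn (LP (LK LD1_c20 LD2_c25 LD3_c53))))))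
theorem f563986 : Led Lsl_gf (LP (LK LD1_c18 LD2_c2 LD3_c1)) = (LP (LK LD1_c11 LD2_c43 LD3_c0)) :=
  Lgr Lrot143 (Lpr_dt (K40.f562356 IH) (Lpr_cf (K40.f562441 IH) (Lpe (K43.f562466 IH) (Lpr_gf (K41.f563982 IH) (Lpe (K41.f24460 IH) (Lpq (K39.f556084 IH) (Lpe (K39.f500765 IH) (Lpe (K38.f500669 IH) (Lpr_gt (K40.f427711 IH) (Lpr_dt (K40.f500767 IH) (Lpn (LP (LK LD1_c11 LD2_c43 LD3_c0)))))))))))))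
theorem f596712 : Led Lsl_cf (LP (LK LD1_c11 LD2_c43 LD3_c0)) = (LP (LK LD1_c20 LD2_c25 LD3_c53)) :=
  Lgr Lrot166 (Lpe (f563986 IH) (Lpr_dt (K40.f562356 IH) (Lpr_gt (K40.f176556 IH) (Lpr_dt (K40.f562366 IH) (Lpr_ct (K41.f562367 IH) (Lpe (K40.f562369 IH) (Lpe (K40.f545821 IH) (Lpe (f562379 IH) (Lpr_gf (f596705 IH) (Lpn (LP (LK LD1_c20 LD2_c25 LD3_c53))))))))))))
theorem f545414 : Led Lsl_dt (LP (LK LD1_c11 LD2_c43 LD3_c0)) = (LP (LK LD1_c5 LD2_c59 LD3_c15)) :=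
  Lre_d IH (LK LD1_c11 LD2_c43 LD3_c0) (LK LD1_c5 LD2_c59 LD3_c15) Lrfl Lrfl
theorem f563970 : Led Lsl_dt (LP (LK LD1_c5 LD2_c52 LD3_c38)) = (LP (LK LD1_c3 LD2_c5 LD3_c45)) :=
  Lgr Lrot60 (Lpr_ff (K41.f563964 IH) (Lpr_df (K41.f26705 IH) (Lpe (K39.f450405 IH) (Lpn (LP (LK LD1_c3 LD2_c5 LD3_c45))))))
theorem f563972 : Led Lsl_ft (LP (LK LD1_c5 LD2_c52 LD3_c38)) = (LP (LK LD1_c9 LD2_c14 LD3_c40)) :=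
  Lgr Lrot48 (Lpr_ff (K41.f563964 IH) (Lpn (LP (LK LD1_c9 LD2_c14 LD3_c40))))
theorem f596724 : Led Lsl_af (LP (LK LD1_c11 LD2_c42 LD3_c61)) = (LP (LK LD1_c9 LD2_c14 LD3_c40)) :=
  Lgr Lrot109 (Lpe (K40.f427712 IH) (Lpe (f545414 IH) (Lpr_cf (f596712 IH) (Lpe (K41.f421069 IH) (Lpe (K40.f186120 IH) (Lpe (K40.f421068 IH) (Lpr_cf (K40.f198355 IH) (Lpe (f563970 IH) (Lpr_ft (f563972 IH) (Lpn (LP (LK LD1_c9 LD2_c14 LD3_c40))))))))))))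
theorem f596730 : Led Lsl_gf (LP (LK LD1_c9 LD2_c46 LD3_c21)) = (LP (LK LD1_c5 LD2_c52 LD3_c38)) :=
  Lgr Lrot47 (Lpr_gt (K40.f545415 IH) (Lpr_af (f596724 IH) (Lpe (f563972 IH) (Lpn (LP (LK LD1_c5 LD2_c52 LD3_c38))))))
theorem f500891 : Led Lsl_dt (LP (LK LD1_c9 LD2_c46 LD3_c21)) = (LP (LK LD1_c4 LD2_c57 LD3_c43)) :=
  Lre_d IH (LK LD1_c9 LD2_c46 LD3_c21) (LK LD1_c4 LD2_c57 LD3_c43) Lrfl Lrfl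
theorem f100488 : Led Lsl_ct (LP (LK LD1_c9 LD2_c47 LD3_c21)) = (LP (LK LD1_c4 LD2_c58 LD3_c15)) :=
  Lre_c IH (LK LD1_c9 LD2_c47 LD3_c21) (LK LD1_c4 LD2_c58 LD3_c15) Lrfl Lrfl
theorem f500721 : Led Lsl_gt (LP (LK LD1_c5 LD2_c59 LD3_c16)) = (LP (LK LD1_c2 LD2_c56 LD3_c0)) :=
  Lre_g IH (LK LD1_c5 LD2_c59 LD3_c16) (LK LD1_c2 LD2_c56 LD3_c0) Lrfl Lrfl
theorem f545380 : Led Lsl_gt (LP (LK LD1_c11 LD2_c32 LD3_c23)) = (LP (LK LD1_c5 LD2_c59 LD3_c16)) :=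
  Lgr Lrot5 (Lpr_ft (K38.f545369 IH) (Lpr_at (K38.f545372 IH) (Lpe (f500721 IH) (Lpn (LP (LK LD1_c5 LD2_c59 LD3_c16))))))
theorem f452732 : Led Lsl_bt (LP (LK LD1_c5 LD2_c52 LD3_c38)) = (LP (LK LD1_c2 LD2_c52 LD3_c35)) :=
  Lre_b IH (LK LD1_c5 LD2_c52 LD3_c38) (LK LD1_c2 LD2_c52 LD3_c35) Lrfl Lrfl
theorem f563131 : Led Lsl_cf (LP (LK LD1_c5 LD2_c59 LD3_c16)) = (LP (LK LD1_c5 LD2_c52 LD3_c38)) :=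
  Lgr Lrot58 (Lpe (f545380 IH) (Lpe (K44.f24264 IH) (Lpr_bt (K44.f539099 IH) (Lpe (K40.f500896 IH) (Lpr_bf (K40.f563121 IH) (Lpe (K40.f563083 IH) (Lpe (K40.f563076 IH) (Lpe (K40.f452733 IH) (Lpe (K41.f437295 IH) (Lpe (f452732 IH) (Lpn (LP (LK LD1_c5 LD2_c52 LD3_c38)))))))))))))
theorem f596734 : Led Lsl_gt (LP (LK LD1_c5 LD2_c59 LD3_c18)) = (LP (LK LD1_c11 LD2_c43 LD3_c8)) :=
  Lre_g IH (LK LD1_c5 LD2_c59 LD3_c18) (LK LD1_c11 LD2_c43 LD3_c8) Lrfl Lrfl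
theorem f596735 : Led Lsl_df (LP (LK LD1_c9 LD2_c47 LD3_c21)) = (LP (LK LD1_c11 LD2_c43 LD3_c8)) :=
  Lgr Lrot174 (Lpr_ct (f100488 IH) (Lpe (K40.f72483 IH) (Lpe (K40.f76111 IH) (Lpe (f500891 IH) (Lpr_gf (f596730 IH) (Lpe (f563131 IH) (Lpr_gt (f500721 IH) (Lpr_dt (K36.f500702 IH) (Lpr_gt (f596734 IH) (Lpn (LP (LK LD1_c11 LD2_c43 LD3_c8))))))))))))
theorem f596753 : Led Lsl_cf (LP (LK LD1_c5 LD2_c52 LD3_c38)) = (LP (LK LD1_c5 LD2_c59 LD3_c16)) :=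
  Lgr Lrot166 (Lpe (f596730 IH) (Lpr_dt (f500891 IH) (Lpr_gt (K40.f76111 IH) (Lpr_dt (K40.f72483 IH) (Lpr_ct (K44.f72503 IH) (Lpr_df (f596735 IH) (Lpe (f596734 IH) (Lpe (K36.f500702 IH) (Lpe (f500721 IH) (Lpn (LP (LK LD1_c5 LD2_c59 LD3_c16))))))))))))
theorem f597409 : Led Lsl_gt (LP (LK LD1_c2 LD2_c54 LD3_c61)) = (LP (LK LD1_c5 LD2_c53 LD3_c8)) :=
  Lgr Lrot9 (Lpr_df (K39.f24466 IH) (Lpe (K41.f563982 IH) (Lpr_ct (K40.f557461 IH) (Lpr_gt (K40.f176844 IH) (Lpr_ct (K39.f421043 IH) (Lpe (f563970 IH) (Lpr_cf (f596753 IH) (Lpe (f545380 IH) (Lpe (K44.f24264 IH) (Lpn (LP (LK LD1_c5 LD2_c53 LD3_c8))))))))))))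
theorem f549699 : Led Lsl_gf (LP (LK LD1_c5 LD2_c53 LD3_c12)) = (LP (LK LD1_c9 LD2_c50 LD3_c46)) :=
  Lgr Lrot129 (Lpe (K38.f211095 IH) (Lpr_bt (K40.f418401 IH) (Lpr_gt (K16.f198505 IH) (Lpe (K38.f198529 IH) (Lpr_ct (K38.f198532 IH) (Lpr_gt (K38.f385927 IH) (Lpr_cf (K38.f549695 IH) (Lpe (K7.f100493 IH) (Lpr_gt (K40.f100511 IH) (Lpr_ct (K44.f100512 IH) (Lpn (LP (LK LD1_c9 LD2_c50 LD3_c46)))))))))))))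
theorem f549701 : Led Lsl_gt (LP (LK LD1_c11 LD2_c32 LD3_c30)) = (LP (LK LD1_c17 LD2_c59 LD3_c4)) :=
  Lgr Lrot49 (Lpe (K43.f211096 IH) (Lpr_gf (f549699 IH) (Lpe (K44.f100512 IH) (Lpr_gt (K40.f175792 IH) (Lpr_dt (K40.f495290 IH) (Lpr_gt (K31.f104895 IH) (Lpr_dt (K37.f104896 IH) (Lpe (K37.f545748 IH) (Lpe (K37.f545749 IH) (Lpn (LP (LK LD1_c17 LD2_c59 LD3_c4))))))))))))
theorem f449329 : Led Lsl_ff (LP (LK LD1_c16 LD2_c59 LD3_c20)) = (LP (LK LD1_c11 LD2_c32 LD3_c30)) :=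
  Lgr Lrot3 (Lpr_ft (K43.f449324 IH) (Lpn (LP (LK LD1_c11 LD2_c32 LD3_c30))))
theorem f211077 : Led Lsl_ct (LP (LK LD1_c5 LD2_c53 LD3_c12)) = (LP (LK LD1_c2 LD2_c52 LD3_c56)) :=
  Lre_c IH (LK LD1_c5 LD2_c53 LD3_c12) (LK LD1_c2 LD2_c52 LD3_c56) Lrfl Lrfl
theorem f539853 : Led Lsl_af (LP (LK LD1_c11 LD2_c42 LD3_c53)) = (LP (LK LD1_c16 LD2_c59 LD3_c20)) :=
  Lgr Lrot109 (Lpr_cf (K36.f539844 IH) (Lpe (K36.f211075 IH) (Lpe (K36.f26642 IH) (Lpe (K36.f211074 IH) (Lpr_cf (K36.f211068 IH) (Lpe (K36.f211076 IH) (Lpe (f211077 IH) (Lpe (K38.f211078 IH) (Lpe (f449329 IH) (Lpn (LP (LK LD1_c16 LD2_c59 LD3_c20))))))))))))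
theorem f549707 : Led Lsl_gf (LP (LK LD1_c11 LD2_c42 LD3_c53)) = (LP (LK LD1_c17 LD2_c59 LD3_c4)) :=
  Lgr Lrot76 (Lpr_af (f539853 IH) (Lpr_ff (f449329 IH) (Lpr_gt (f549701 IH) (Lpn (LP (LK LD1_c17 LD2_c59 LD3_c4))))))
theorem f597412 : Led Lsl_gt (LP (LK LD1_c5 LD2_c57 LD3_c27)) = (LP (LK LD1_c9 LD2_c50 LD3_c42)) :=
  Lgr Lrot94 (Lpe (K41.f24497 IH) (Lpr_gt (f597409 IH) (Lpr_dt (K38.f539091 IH) (Lpq (K36.f539211 IH) (Lpe (K36.f500691 IH) (Lpr_dt (K36.f500692 IH) (Lpe (K36.f500695 IH) (Lpe (K36.f500694 IH) (Lpr_gf (f549707 IH) (Lpr_df (K37.f545751 IH) (Lpn (LP (LK LD1_c9 LD2_c50 LD3_c42)))))))))))))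
theorem f24501 : Led Lsl_dt (LP (LK LD1_c11 LD2_c40 LD3_c4)) = (LP (LK LD1_c5 LD2_c57 LD3_c27)) :=
  Lre_d IH (LK LD1_c11 LD2_c40 LD3_c4) (LK LD1_c5 LD2_c57 LD3_c27) Lrfl Lrfl
theorem f24502 : Led Lsl_gt (LP (LK LD1_c20 LD2_c40 LD3_c7)) = (LP (LK LD1_c11 LD2_c40 LD3_c4)) :=
  Lre_g IH (LK LD1_c20 LD2_c40 LD3_c7) (LK LD1_c11 LD2_c40 LD3_c4) Lrfl Lrfl
theorem f597416 : Led Lsl_cf (LP (LK LD1_c20 LD2_c40 LD3_c7)) = (LP (LK LD1_c20 LD2_c18 LD3_c4)) :=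
  Lgr Lrot166 (Lpr_gt (f24502 IH) (Lpr_dt (f24501 IH) (Lpr_gt (f597412 IH) (Lpe (K37.f545751 IH) (Lpr_ct (K37.f545811 IH) (Lpe (K37.f545746 IH) (Lpe (K40.f545792 IH) (Lpe (K41.f545797 IH) (Lpr_gf (K41.f558528 IH) (Lpn (LP (LK LD1_c20 LD2_c18 LD3_c4))))))))))))
theorem f545367 : Led Lsl_ct (LP (LK LD1_c20 LD2_c29 LD3_c11)) = (LP (LK LD1_c11 LD2_c42 LD3_c22)) :=
  Lgr Lrot40 (Lpr_ff (K38.f545357 IH) (Lpr_cf (K36.f539349 IH) (Lpe (K36.f539408 IH) (Lpn (LP (LK LD1_c11 LD2_c42 LD3_c22))))))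
theorem f596755 : Led Lsl_gf (LP (LK LD1_c20 LD2_c29 LD3_c11)) = (LP (LK LD1_c11 LD2_c43 LD3_c8)) :=
  Lgr Lrot147 (Lpr_ct (f545367 IH) (Lpe (K44.f580870 IH) (Lpe (K36.f539844 IH) (Lpe (K38.f500757 IH) (Lpe (K38.f500693 IH) (Lpr_gf (K40.f562524 IH) (Lpe (K41.f539145 IH) (Lpe (K44.f539142 IH) (Lpr_df (f596735 IH) (Lpn (LP (LK LD1_c11 LD2_c43 LD3_c8))))))))))))
theorem f500768 : Led Lsl_dt (LP (LK LD1_c5 LD2_c59 LD3_c16)) = (LP (LK LD1_c11 LD2_c43 LD3_c3)) :=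
  Lre_d IH (LK LD1_c5 LD2_c59 LD3_c16) (LK LD1_c11 LD2_c43 LD3_c3) Lrfl Lrfl
theorem f555919 : Led Lsl_dt (LP (LK LD1_c11 LD2_c32 LD3_c29)) = (LP (LK LD1_c20 LD2_c29 LD3_c18)) :=
  Lre_d IH (LK LD1_c11 LD2_c32 LD3_c29) (LK LD1_c20 LD2_c29 LD3_c18) Lrfl Lrfl
theorem f539137 : Led Lsl_ct (LP (LK LD1_c5 LD2_c53 LD3_c11)) = (LP (LK LD1_c11 LD2_c32 LD3_c29)) :=
  Lre_c IH (LK LD1_c5 LD2_c53 LD3_c11) (LK LD1_c11 LD2_c32 LD3_c29) Lrfl Lrfl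
theorem f580705 : Led Lsl_gt (LP (LK LD1_c9 LD2_c46 LD3_c25)) = (LP (LK LD1_c11 LD2_c32 LD3_c29)) :=
  Lgr Lrot65 (Lpe (K43.f72511 IH) (Lpr_bt (K9.f100496 IH) (Lpe (K10.f186042 IH) (Lpe (K36.f186050 IH) (Lpr_ct (K36.f186052 IH) (Lpe (K45.f580703 IH) (Lpr_cf (K44.f580695 IH) (Lpr_gf (K43.f573396 IH) (Lpe (K45.f562490 IH) (Lpr_ct (f539137 IH) (Lpn (LP (LK LD1_c11 LD2_c32 LD3_c29)))))))))))))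
theorem f545359 : Led Lsl_gt (LP (LK LD1_c20 LD2_c29 LD3_c11)) = (LP (LK LD1_c11 LD2_c43 LD3_c9)) :=
  Lgr Lrot5 (Lpr_ft (K38.f545348 IH) (Lpr_at (K38.f539399 IH) (Lpe (K41.f545350 IH) (Lpn (LP (LK LD1_c11 LD2_c43 LD3_c9))))))
theorem f580877 : Led Lsl_df (LP (LK LD1_c9 LD2_c46 LD3_c25)) = (LP (LK LD1_c11 LD2_c43 LD3_c9)) :=
  Lgr Lrot153 (Lpr_gt (f580705 IH) (Lpr_dt (f555919 IH) (Lpe (K41.f564161 IH) (Lpe (K41.f386647 IH) (Lpr_gf (K40.f559700 IH) (Lpe (K38.f26641 IH) (Lpr_gf (K44.f580870 IH) (Lpe (f545367 IH) (Lpr_gt (f545359 IH) (Lpn (LP (LK LD1_c11 LD2_c43 LD3_c9))))))))))))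
theorem f539267 : Led Lsl_dt (LP (LK LD1_c5 LD2_c45 LD3_c6)) = (LP (LK LD1_c11 LD2_c20 LD3_c41)) :=
  Lre_d IH (LK LD1_c5 LD2_c45 LD3_c6) (LK LD1_c11 LD2_c20 LD3_c41) Lrfl Lrfl
theorem f596744 : Led Lsl_ct (LP (LK LD1_c11 LD2_c20 LD3_c41)) = (LP (LK LD1_c11 LD2_c43 LD3_c8)) :=
  Lgr Lrot176 (Lpe (f539267 IH) (Lpe (K37.f386657 IH) (Lpe (K27.f381690 IH) (Lpe (K36.f172134 IH) (Lpe (K44.f386654 IH) (Lpe (K41.f72512 IH) (Lpr_df (f580877 IH) (Lpe (K41.f562616 IH) (Lpe (K40.f539325 IH) (Lpe (K39.f387413 IH) (Lpe (K27.f386661 IH) (Lpe (K36.f72499 IH) (Lpe (K40.f72498 IH) (Lpe (f100488 IH) (Lpr_df (f596735 IH) (Lpn (LP (LK LD1_c11 LD2_c43 LD3_c8))))))))))))))))))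
theorem f596763 : Led Lsl_ct (LP (LK LD1_c11 LD2_c43 LD3_c3)) = (LP (LK LD1_c20 LD2_c42 LD3_c34)) :=
  Lgr Lrot7 (Lpe (f500768 IH) (Lpe (f545380 IH) (Lpe (K38.f539095 IH) (Lpr_gf (f596755 IH) (Lpe (f596744 IH) (Lpe (K40.f562390 IH) (Lpr_dt (K40.f139028 IH) (Lpr_gt (K40.f562609 IH) (Lpr_dt (f562611 IH) (Lpn (LP (LK LD1_c20 LD2_c42 LD3_c34))))))))))))
theorem f564117 : Led Lsl_ff (LP (LK LD1_c17 LD2_c58 LD3_c60)) = (LP (LK LD1_c20 LD2_c42 LD3_c34)) :=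
  Lgr Lrot3 (Lpr_ft (K41.f564115 IH) (Lpn (LP (LK LD1_c20 LD2_c42 LD3_c34))))
theorem f596775 : Led Lsl_ff (LP (LK LD1_c11 LD2_c43 LD3_c3)) = (LP (LK LD1_c20 LD2_c41 LD3_c33)) :=
  Lgr Lrot23 (Lpr_ct (f596763 IH) (Lpe (f564117 IH) (Lpr_ct (K41.f564087 IH) (Lpn (LP (LK LD1_c20 LD2_c41 LD3_c33))))))
theorem f596792 : Led Lsl_ft (LP (LK LD1_c11 LD2_c43 LD3_c3)) = (LP (LK LD1_c20 LD2_c41 LD3_c33)) :=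
  Lgr Lrot48 (Lpr_ff (f596775 IH) (Lpn (LP (LK LD1_c20 LD2_c41 LD3_c33))))
theorem f564095 : Led Lsl_dt (LP (LK LD1_c20 LD2_c41 LD3_c33)) = (LP (LK LD1_c11 LD2_c41 LD3_c33)) :=
  Lre_d IH (LK LD1_c20 LD2_c41 LD3_c33) (LK LD1_c11 LD2_c41 LD3_c33) Lrfl Lrfl
theorem f596798 : Led Lsl_ff (LP (LK LD1_c5 LD2_c59 LD3_c16)) = (LP (LK LD1_c11 LD2_c41 LD3_c33)) :=
  Lgr Lrot19 (Lpr_dt (f500768 IH) (Lpr_ft (f596792 IH) (Lpr_dt (f564095 IH) (Lpn (LP (LK LD1_c11 LD2_c41 LD3_c33))))))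
theorem f568591 : Led Lsl_gf (LP (LK LD1_c5 LD2_c59 LD3_c19)) = (LP (LK LD1_c11 LD2_c41 LD3_c33)) :=
  Lgr Lrot126 (Lpe (K36.f500665 IH) (Lpr_bt (K38.f545447 IH) (Lpe (K42.f568589 IH) (Lpr_ct (K42.f568586 IH) (Lpr_gt (K42.f20364 IH) (Lpe (K7.f20355 IH) (Lpr_bt (K38.f500299 IH) (Lpqs (K38.f537706 IH) (Lpe (K11.f176728 IH) (Lpe (K41.f26703 IH) (Lpr_ct (K41.f564098 IH) (Lpn (LP (LK LD1_c11 LD2_c41 LD3_c33))))))))))))))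
theorem f596803 : Led Lsl_at (LP (LK LD1_c5 LD2_c59 LD3_c16)) = (LP (LK LD1_c11 LD2_c41 LD3_c34)) :=
  Lgr Lrot26 (Lpr_ff (f596798 IH) (Lpe (f568591 IH) (Lpr_gt (K41.f562433 IH) (Lpn (LP (LK LD1_c11 LD2_c41 LD3_c34))))))
theorem f596805 : Led Lsl_af (LP (LK LD1_c5 LD2_c59 LD3_c16)) = (LP (LK LD1_c11 LD2_c41 LD3_c34)) :=
  Lgr Lrot0 (Lpr_at (f596803 IH) (Lpn (LP (LK LD1_c11 LD2_c41 LD3_c34))))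
theorem f596811 : Led Lsl_ft (LP (LK LD1_c5 LD2_c59 LD3_c15)) = (LP (LK LD1_c11 LD2_c41 LD3_c34)) :=
  Lgr Lrot2 (Lpe (K40.f545411 IH) (Lpr_gt (f545380 IH) (Lpr_af (f596805 IH) (Lpn (LP (LK LD1_c11 LD2_c41 LD3_c34))))))
theorem f596817 : Led Lsl_ff (LP (LK LD1_c5 LD2_c59 LD3_c15)) = (LP (LK LD1_c11 LD2_c41 LD3_c34)) :=
  Lgr Lrot3 (Lpr_ft (f596811 IH) (Lpn (LP (LK LD1_c11 LD2_c41 LD3_c34))))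
theorem f596819 : Led Lsl_at (LP (LK LD1_c5 LD2_c59 LD3_c15)) = (LP (LK LD1_c11 LD2_c41 LD3_c33)) :=
  Lgr Lrot66 (Lpr_ff (f596817 IH) (Lpe (f596803 IH) (Lpr_ff (f596798 IH) (Lpn (LP (LK LD1_c11 LD2_c41 LD3_c33))))))
theorem f596822 : Led Lsl_cf (LP (LK LD1_c9 LD2_c14 LD3_c40)) = (LP (LK LD1_c11 LD2_c41 LD3_c33)) :=
  Lgr Lrot1 (Lpe (f596724 IH) (Lpr_ct (K40.f545413 IH) (Lpr_at (f596819 IH) (Lpn (LP (LK LD1_c11 LD2_c41 LD3_c33))))))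
theorem f495677 : Led Lsl_ct (LP (LK LD1_c1 LD2_c19 LD3_c0)) = K35.v1458 :=
  Lgr Lrot40 (Lpr_ff (K35.f196292 IH) (Lpr_cf (K35.f452621 IH) (Lpr_ff (K35.f495676 IH) (Lpn K35.v1458))))
theorem f495678 : Led Lsl_ft K35.v395 = K35.v1458 :=
  Lgr Lrot48 (Lpr_ff (K35.f495676 IH) (Lpn K35.v1458))
theorem f536692 : (LP (LK LD1_c0 LD2_c38 LD3_c2)) = K35.v395 :=
  Lefun (Lecon (Lfl_ef (K35.f452758 IH)) (K35.f536638 IH).symm) (K35.f452620 IH)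
theorem f536799 : K35.v1458 = K31.v423 :=
  Lefun (Lecon (f495678 IH) (f536692 IH).symm) (K31.f452762 IH)
theorem f419039 : Led Lsl_ct (LP (LK LD1_c8 LD2_c48 LD3_c26)) = (LP (LK LD1_c16 LD2_c28 LD3_c36)) :=
  Lre_c IH (LK LD1_c8 LD2_c48 LD3_c26) (LK LD1_c16 LD2_c28 LD3_c36) Lrfl Lrfl
theorem f557776 : Led Lsl_dt (LP (LK LD1_c9 LD2_c46 LD3_c24)) = (LP (LK LD1_c8 LD2_c14 LD3_c49)) :=
  Lgr Lrot105 (Lpe (K44.f101583 IH) (Lpe (K40.f72483 IH) (Lpe (K40.f76111 IH) (Lpr_cf (K40.f557764 IH) (Lpqs (K39.f556053 IH) (Lpe (K39.f500361 IH) (Lpr_dt (K37.f211093 IH) (Lpr_gt (K37.f539895 IH) (Lpe (K39.f556063 IH) (Lpe (K39.f556062 IH) (Lpn (LP (LK LD1_c8 LD2_c14 LD3_c49)))))))))))))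
theorem f596828 : Led Lsl_gt (LP (LK LD1_c20 LD2_c29 LD3_c15)) = (LP (LK LD1_c20 LD2_c41 LD3_c33)) :=
  Lgr Lrot49 (Lpe (K41.f539146 IH) (Lpe (K44.f539142 IH) (Lpe (K44.f72503 IH) (Lpr_gt (K44.f101583 IH) (Lpr_dt (f557776 IH) (Lpr_gt (K39.f556071 IH) (Lpe (K41.f26705 IH) (Lpr_cf (f596822 IH) (Lpe (f564095 IH) (Lpn (LP (LK LD1_c20 LD2_c41 LD3_c33))))))))))))
theorem f596830 : Led Lsl_bt (LP (LK LD1_c16 LD2_c28 LD3_c36)) = (LP (LK LD1_c20 LD2_c29 LD3_c15)) :=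
  Lgr Lrot178 (Lpe (f419039 IH) (Lpe (K43.f38490 IH) (Lpe (K42.f38489 IH) (Lpe (K39.f38393 IH) (Lpe (K1.f38382 IH) (Lpr_df (K1.f35620 IH) (Lpe (K12.f211038 IH) (Lpe (K11.f211032 IH) (Lpq (K31.f453265 IH) (Lpq (f536799 IH) (Lpe (f495677 IH) (Lpe (K19.f196262 IH) (Lpe (K10.f193451 IH) (Lpe (K10.f20574 IH) (Lpe (K10.f26690 IH) (Lpe (K10.f26685 IH) (Lpe (K10.f26686 IH) (Lpe (K41.f26703 IH) (Lpr_cf (f596822 IH) (Lpe (f564095 IH) (Lpe (f596828 IH) (Lpn (LP (LK LD1_c20 LD2_c29 LD3_c15))))))))))))))))))))))))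
theorem f596832 : Led Lsl_bf (LP (LK LD1_c16 LD2_c28 LD3_c36)) = (LP (LK LD1_c20 LD2_c29 LD3_c15)) :=
  Lgr Lrot24 (Lpr_bt (f596830 IH) (Lpn (LP (LK LD1_c20 LD2_c29 LD3_c15))))
theorem f539147 : Led Lsl_bt (LP (LK LD1_c20 LD2_c29 LD3_c14)) = (LP (LK LD1_c11 LD2_c32 LD3_c26)) :=
  Lre_b IH (LK LD1_c20 LD2_c29 LD3_c14) (LK LD1_c11 LD2_c32 LD3_c26) Lrfl Lrfl
theorem f596841 : Led Lsl_dt (LP (LK LD1_c16 LD2_c28 LD3_c36)) = (LP (LK LD1_c20 LD2_c29 LD3_c14)) :=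
  Lgr Lrot79 (Lpr_bf (f596832 IH) (Lpe (K41.f539146 IH) (Lpe (f539147 IH) (Lpn (LP (LK LD1_c20 LD2_c29 LD3_c14))))))
theorem f38481 : Led Lsl_dt (LP (LK LD1_c8 LD2_c47 LD3_c14)) = (LP (LK LD1_c16 LD2_c26 LD3_c36)) :=
  Lre_d IH (LK LD1_c8 LD2_c47 LD3_c14) (LK LD1_c16 LD2_c26 LD3_c36) Lrfl Lrfl
theorem f566056 : Led Lsl_gt (LP (LK LD1_c16 LD2_c26 LD3_c36)) = (LP (LK LD1_c26 LD2_c23 LD3_c53)) :=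
  Lre_g IH (LK LD1_c16 LD2_c26 LD3_c36) (LK LD1_c26 LD2_c23 LD3_c53) Lrfl Lrfl
theorem f566057 : Led Lsl_df (LP (LK LD1_c16 LD2_c28 LD3_c15)) = (LP (LK LD1_c26 LD2_c23 LD3_c53)) :=
  Lgr Lrot84 (Lpe (K42.f565606 IH) (Lpe (K42.f72124 IH) (Lpe (K41.f565848 IH) (Lpe (K41.f565621 IH) (Lpe (K41.f6536 IH) (Lpe (K42.f6460 IH) (Lpr_gt (K41.f566051 IH) (Lpr_dt (f38481 IH) (Lpr_gt (f566056 IH) (Lpn (LP (LK LD1_c26 LD2_c23 LD3_c53))))))))))))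
theorem f539198 : Led Lsl_at (LP (LK LD1_c20 LD2_c49 LD3_c49)) = (LP (LK LD1_c11 LD2_c47 LD3_c39)) :=
  Lre_a IH (LK LD1_c20 LD2_c49 LD3_c49) (LK LD1_c11 LD2_c47 LD3_c39) Lrfl Lrfl
theorem f596843 : Led Lsl_ft (LP (LK LD1_c26 LD2_c23 LD3_c53)) = (LP (LK LD1_c20 LD2_c49 LD3_c49)) :=
  Lgr Lrot142 (Lpe (f566057 IH) (Lpr_ct (K42.f565611 IH) (Lpr_dt (K41.f427431 IH) (Lpe (K43.f569975 IH) (Lpr_dt (K43.f38490 IH) (Lpr_ct (f419039 IH) (Lpr_dt (f596841 IH) (Lpe (K44.f539190 IH) (Lpe (f539198 IH) (Lpn (LP (LK LD1_c20 LD2_c49 LD3_c49))))))))))))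
theorem f596849 : Led Lsl_gt (LP (LK LD1_c26 LD2_c23 LD3_c53)) = (LP (LK LD1_c20 LD2_c49 LD3_c48)) :=
  Lgr Lrot5 (Lpr_ft (f596843 IH) (Lpr_at (f539198 IH) (Lpe (K44.f539201 IH) (Lpn (LP (LK LD1_c20 LD2_c49 LD3_c48))))))
theorem f596851 : Led Lsl_df (LP (LK LD1_c26 LD2_c23 LD3_c53)) = (LP (LK LD1_c16 LD2_c28 LD3_c15)) :=
  Lgr Lrot153 (Lpr_gt (f596849 IH) (Lpr_dt (K44.f581142 IH) (Lpr_cf (K41.f566037 IH) (Lpe (K42.f38487 IH) (Lpe (K42.f556696 IH) (Lpe (K43.f556700 IH) (Lpe (K43.f574075 IH) (Lpe (K42.f98319 IH) (Lpr_gt (K42.f572514 IH) (Lpn (LP (LK LD1_c16 LD2_c28 LD3_c15))))))))))))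
theorem f596853 : Led Lsl_ft (LP (LK LD1_c23 LD2_c7 LD3_c40)) = (LP (LK LD1_c16 LD2_c28 LD3_c15)) :=
  Lgr Lrot54 (Lpe (K44.f581031 IH) (Lpe (f596843 IH) (Lpr_df (f596851 IH) (Lpn (LP (LK LD1_c16 LD2_c28 LD3_c15))))))
theorem f596859 : Led Lsl_af (LP (LK LD1_c23 LD2_c7 LD3_c42)) = (LP (LK LD1_c16 LD2_c28 LD3_c15)) :=
  Lgr Lrot31 (Lpr_gf (K44.f581005 IH) (Lpe (K44.f580991 IH) (Lpr_ft (f596853 IH) (Lpn (LP (LK LD1_c16 LD2_c28 LD3_c15))))))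
theorem f569969 : Led Lsl_at (LP (LK LD1_c8 LD2_c48 LD3_c28)) = (LP (LK LD1_c8 LD2_c44 LD3_c8)) :=
  Lgr Lrot107 (Lpe (K41.f227504 IH) (Lpr_af (K42.f569965 IH) (Lpr_cf (K44.f565753 IH) (Lpn (LP (LK LD1_c8 LD2_c44 LD3_c8))))))
theorem f573205 : Led Lsl_at (LP (LK LD1_c13 LD2_c42 LD3_c4)) = (LP (LK LD1_c16 LD2_c28 LD3_c39)) :=
  Lgr Lrot51 (Lpr_df (K43.f573203 IH) (Lpe (f569969 IH) (Lpe (K44.f227505 IH) (Lpn (LP (LK LD1_c16 LD2_c28 LD3_c39))))))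
theorem f580843 : Led Lsl_at (LP (LK LD1_c20 LD2_c49 LD3_c50)) = (LP (LK LD1_c23 LD2_c7 LD3_c40)) :=
  Lgr Lrot107 (Lpr_cf (K44.f580839 IH) (Lpe (f573205 IH) (Lpe (K43.f573217 IH) (Lpn (LP (LK LD1_c23 LD2_c7 LD3_c40))))))
theorem f596863 : Led Lsl_ft (LP (LK LD1_c23 LD2_c7 LD3_c42)) = (LP (LK LD1_c20 LD2_c49 LD3_c50)) :=
  Lgr Lrot101 (Lpr_af (f596859 IH) (Lpe (f596853 IH) (Lpe (f580843 IH) (Lpn (LP (LK LD1_c20 LD2_c49 LD3_c50))))))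
theorem f539275 : Led Lsl_bt (LP (LK LD1_c20 LD2_c17 LD3_c59)) = (LP (LK LD1_c11 LD2_c20 LD3_c34)) :=
  Lre_b IH (LK LD1_c20 LD2_c17 LD3_c59) (LK LD1_c11 LD2_c20 LD3_c34) Lrfl Lrfl
theorem f581011 : Led Lsl_bf (LP (LK LD1_c23 LD2_c7 LD3_c42)) = (LP (LK LD1_c20 LD2_c17 LD3_c60)) :=
  Lgr Lrot93 (Lpr_dt (K44.f581009 IH) (Lpr_bt (f539275 IH) (Lpr_dt (K41.f442635 IH) (Lpn (LP (LK LD1_c20 LD2_c17 LD3_c60))))))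
theorem f596865 : Led Lsl_ff (LP (LK LD1_c20 LD2_c17 LD3_c60)) = (LP (LK LD1_c11 LD2_c47 LD3_c40)) :=
  Lgr Lrot25 (Lpe (f581011 IH) (Lpr_ft (f596863 IH) (Lpr_bt (K44.f562483 IH) (Lpn (LP (LK LD1_c11 LD2_c47 LD3_c40))))))
theorem f418611 : Led Lsl_dt (LP (LK LD1_c9 LD2_c7 LD3_c1)) = (LP (LK LD1_c16 LD2_c59 LD3_c11)) :=
  Lre_d IH (LK LD1_c9 LD2_c7 LD3_c1) (LK LD1_c16 LD2_c59 LD3_c11) Lrfl Lrfl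
theorem f557476 : Led Lsl_dt (LP (LK LD1_c11 LD2_c47 LD3_c47)) = (LP (LK LD1_c6 LD2_c1 LD3_c34)) :=
  Lre_d IH (LK LD1_c11 LD2_c47 LD3_c47) (LK LD1_c6 LD2_c1 LD3_c34) Lrfl Lrfl
theorem f580868 : Led Lsl_gt (LP (LK LD1_c16 LD2_c59 LD3_c11)) = (LP (LK LD1_c11 LD2_c47 LD3_c47)) :=
  Lgr Lrot49 (Lpe (f418611 IH) (Lpr_gf (K44.f580863 IH) (Lpe (K36.f428266 IH) (Lpr_gt (K40.f428275 IH) (Lpe (K40.f562564 IH) (Lpr_gt (K43.f562562 IH) (Lpe (K40.f557463 IH) (Lpe (K41.f557477 IH) (Lpe (f557476 IH) (Lpn (LP (LK LD1_c11 LD2_c47 LD3_c47))))))))))))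
theorem f596874 : Led Lsl_at (LP (LK LD1_c20 LD2_c17 LD3_c60)) = (LP (LK LD1_c11 LD2_c47 LD3_c47)) :=
  Lgr Lrot26 (Lpr_ff (f596865 IH) (Lpr_gt (K44.f580805 IH) (Lpr_gt (f580868 IH) (Lpn (LP (LK LD1_c11 LD2_c47 LD3_c47))))))
theorem f596882 : Led Lsl_af (LP (LK LD1_c11 LD2_c20 LD3_c34)) = (LP (LK LD1_c6 LD2_c1 LD3_c34)) :=
  Lgr Lrot117 (Lpr_dt (K41.f442635 IH) (Lpr_at (f596874 IH) (Lpr_dt (f557476 IH) (Lpn (LP (LK LD1_c6 LD2_c1 LD3_c34))))))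
theorem f596902 : Led Lsl_ft (LP (LK LD1_c11 LD2_c20 LD3_c36)) = (LP (LK LD1_c6 LD2_c1 LD3_c34)) :=
  Lgr Lrot2 (Lpr_gt (K40.f559698 IH) (Lpe (K41.f562459 IH) (Lpr_af (f596882 IH) (Lpn (LP (LK LD1_c6 LD2_c1 LD3_c34))))))
theorem f596911 : Led Lsl_ff (LP (LK LD1_c11 LD2_c20 LD3_c36)) = (LP (LK LD1_c6 LD2_c1 LD3_c34)) :=
  Lgr Lrot3 (Lpr_ft (f596902 IH) (Lpn (LP (LK LD1_c6 LD2_c1 LD3_c34))))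
theorem f596917 : Led Lsl_ft (LP (LK LD1_c20 LD2_c18 LD3_c1)) = (LP (LK LD1_c11 LD2_c47 LD3_c47)) :=
  Lgr Lrot54 (Lpe (K41.f386647 IH) (Lpr_ff (f596911 IH) (Lpe (f557476 IH) (Lpn (LP (LK LD1_c11 LD2_c47 LD3_c47))))))
theorem f557470 : Led Lsl_dt (LP (LK LD1_c6 LD2_c1 LD3_c34)) = (LP (LK LD1_c11 LD2_c47 LD3_c47)) :=
  Lre_d IH (LK LD1_c6 LD2_c1 LD3_c34) (LK LD1_c11 LD2_c47 LD3_c47) Lrfl Lrfl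
theorem f539400 : Led Lsl_at (LP (LK LD1_c11 LD2_c43 LD3_c10)) = (LP (LK LD1_c11 LD2_c47 LD3_c28)) :=
  Lgr Lrot107 (Lpe (K36.f500703 IH) (Lpe (K38.f539399 IH) (Lpr_cf (K36.f539349 IH) (Lpn (LP (LK LD1_c11 LD2_c47 LD3_c28))))))
theorem f539355 : Led Lsl_ff (LP (LK LD1_c11 LD2_c47 LD3_c34)) = (LP (LK LD1_c11 LD2_c43 LD3_c10)) :=
  Lgr Lrot23 (Lpr_ct (K36.f539340 IH) (Lpr_ft (K41.f500732 IH) (Lpr_ct (K36.f500703 IH) (Lpn (LP (LK LD1_c11 LD2_c43 LD3_c10))))))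
theorem f539364 : Led Lsl_ft (LP (LK LD1_c11 LD2_c47 LD3_c34)) = (LP (LK LD1_c11 LD2_c43 LD3_c10)) :=
  Lgr Lrot48 (Lpr_ff (f539355 IH) (Lpn (LP (LK LD1_c11 LD2_c43 LD3_c10))))
theorem f539417 : Led Lsl_at (LP (LK LD1_c11 LD2_c42 LD3_c22)) = (LP (LK LD1_c11 LD2_c47 LD3_c34)) :=
  Lgr Lrot66 (Lpr_ff (K36.f539415 IH) (Lpe (f539400 IH) (Lpe (f539364 IH) (Lpn (LP (LK LD1_c11 LD2_c47 LD3_c34))))))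
theorem f539422 : Led Lsl_gf (LP (LK LD1_c11 LD2_c32 LD3_c14)) = (LP (LK LD1_c11 LD2_c47 LD3_c28)) :=
  Lgr Lrot47 (Lpe (K41.f539075 IH) (Lpe (f539417 IH) (Lpr_ff (K36.f539415 IH) (Lpn (LP (LK LD1_c11 LD2_c47 LD3_c28))))))
theorem f545365 : Led Lsl_at (LP (LK LD1_c20 LD2_c29 LD3_c11)) = (LP (LK LD1_c11 LD2_c43 LD3_c12)) :=
  Lgr Lrot66 (Lpr_ff (K38.f545357 IH) (Lpe (K36.f500733 IH) (Lpe (K41.f500732 IH) (Lpn (LP (LK LD1_c11 LD2_c43 LD3_c12))))))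
theorem f562431 : Led Lsl_gf (LP (LK LD1_c9 LD2_c50 LD3_c51)) = (LP (LK LD1_c11 LD2_c41 LD3_c36)) :=
  Lgr Lrot47 (Lpr_gt (K40.f562429 IH) (Lpe (f545365 IH) (Lpr_ff (K38.f545357 IH) (Lpn (LP (LK LD1_c11 LD2_c41 LD3_c36))))))
theorem f548162 : Led Lsl_gt (LP (LK LD1_c5 LD2_c0 LD3_c7)) = (LP (LK LD1_c9 LD2_c50 LD3_c48)) :=
  Lre_g IH (LK LD1_c5 LD2_c0 LD3_c7) (LK LD1_c9 LD2_c50 LD3_c48) Lrfl Lrfl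
theorem f559653 : Led Lsl_dt (LP (LK LD1_c9 LD2_c50 LD3_c48)) = (LP (LK LD1_c18 LD2_c1 LD3_c60)) :=
  Lre_d IH (LK LD1_c9 LD2_c50 LD3_c48) (LK LD1_c18 LD2_c1 LD3_c60) Lrfl Lrfl
theorem f564065 : Led Lsl_ct (LP (LK LD1_c11 LD2_c47 LD3_c47)) = (LP (LK LD1_c18 LD2_c1 LD3_c60)) :=
  Lgr Lrot7 (Lpe (f557470 IH) (Lpr_gf (K41.f563988 IH) (Lpe (K41.f418969 IH) (Lpr_gf (f539422 IH) (Lpe (K36.f539402 IH) (Lpe (f562431 IH) (Lpr_dt (K40.f177704 IH) (Lpr_gt (f548162 IH) (Lpr_dt (f559653 IH) (Lpn (LP (LK LD1_c18 LD2_c1 LD3_c60))))))))))))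
theorem f596925 : Led Lsl_ff (LP (LK LD1_c20 LD2_c29 LD3_c18)) = (LP (LK LD1_c18 LD2_c1 LD3_c60)) :=
  Lgr Lrot23 (Lpe (K41.f564156 IH) (Lpr_ft (f596917 IH) (Lpr_ct (f564065 IH) (Lpn (LP (LK LD1_c18 LD2_c1 LD3_c60))))))
theorem f596929 : Led Lsl_ft (LP (LK LD1_c20 LD2_c29 LD3_c18)) = (LP (LK LD1_c18 LD2_c1 LD3_c60)) :=
  Lgr Lrot48 (Lpr_ff (f596925 IH) (Lpn (LP (LK LD1_c18 LD2_c1 LD3_c60))))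
theorem f596880 : Led Lsl_af (LP (LK LD1_c20 LD2_c29 LD3_c15)) = (LP (LK LD1_c18 LD2_c1 LD3_c60)) :=
  Lgr Lrot68 (Lpe (K41.f562520 IH) (Lpr_at (f596874 IH) (Lpr_ct (f564065 IH) (Lpn (LP (LK LD1_c18 LD2_c1 LD3_c60))))))
theorem f597074 : Led Lsl_gt (LP (LK LD1_c20 LD2_c29 LD3_c18)) = (LP (LK LD1_c20 LD2_c41 LD3_c34)) :=
  Lgr Lrot5 (Lpr_ft (f596929 IH) (Lpe (f596880 IH) (Lpe (K41.f564142 IH) (Lpn (LP (LK LD1_c20 LD2_c41 LD3_c34))))))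
def v1677 : LQ := Led Lsl_gt (LP (LK LD1_c1 LD2_c23 LD3_c53))
theorem f500719 : Led Lsl_gt (LP (LK LD1_c1 LD2_c23 LD3_c53)) = v1677 :=
  Lrfl
theorem f539258 : (LP (LK LD1_c1 LD2_c23 LD3_c27)) = v1677 :=
  Lefun (Lecon (Lfl_gf (K31.f495910 IH)) (K36.f539257 IH)) (f500719 IH)
theorem f555916 : Led Lsl_gf (LP (LK LD1_c9 LD2_c47 LD3_c21)) = (LP (LK LD1_c11 LD2_c32 LD3_c29)) :=
  Lgr Lrot104 (Lpr_ct (f100488 IH) (Lpe (K40.f72483 IH) (Lpe (K40.f72502 IH) (Lpqs (f539258 IH) (Lpe (f500719 IH) (Lpe (K36.f383272 IH) (Lpe (K36.f428177 IH) (Lpe (K36.f500697 IH) (Lpr_gt (K39.f555914 IH) (Lpr_ct (f539137 IH) (Lpn (LP (LK LD1_c11 LD2_c32 LD3_c29)))))))))))))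
theorem f180276 : Led Lsl_ct (LP (LK LD1_c4 LD2_c35 LD3_c13)) = (LP (LK LD1_c9 LD2_c7 LD3_c6)) :=
  Lre_c IH (LK LD1_c4 LD2_c35 LD3_c13) (LK LD1_c9 LD2_c7 LD3_c6) Lrfl Lrfl
theorem f180277 : Led Lsl_gt (LP (LK LD1_c16 LD2_c59 LD3_c19)) = (LP (LK LD1_c9 LD2_c7 LD3_c6)) :=
  Lre_g IH (LK LD1_c16 LD2_c59 LD3_c19) (LK LD1_c9 LD2_c7 LD3_c6) Lrfl Lrfl
theorem f100461 : Led Lsl_bt (LP (LK LD1_c9 LD2_c47 LD3_c20)) = (LP (LK LD1_c6 LD2_c51 LD3_c5)) :=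
  Lre_b IH (LK LD1_c9 LD2_c47 LD3_c20) (LK LD1_c6 LD2_c51 LD3_c5) Lrfl Lrfl
theorem f100462 : Led Lsl_et (LP (LK LD1_c4 LD2_c58 LD3_c15)) = (LP (LK LD1_c9 LD2_c47 LD3_c20)) :=
  Lre_e IH (LK LD1_c4 LD2_c58 LD3_c15) (LK LD1_c9 LD2_c47 LD3_c20) Lrfl Lrfl
theorem f100463 : Led Lsl_bf (LP (LK LD1_c4 LD2_c58 LD3_c15)) = (LP (LK LD1_c6 LD2_c13 LD3_c18)) :=
  Lgr Lrot96 (Lpr_et (f100462 IH) (Lpr_bt (f100461 IH) (Lpr_et (K7.f100453 IH) (Lpn (LP (LK LD1_c6 LD2_c13 LD3_c18))))))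
theorem f579420 : Led Lsl_cf (LP (LK LD1_c16 LD2_c59 LD3_c19)) = (LP (LK LD1_c9 LD2_c46 LD3_c24)) :=
  Lgr Lrot125 (Lpr_gt (f180277 IH) (Lpe (f180276 IH) (Lpr_bt (K36.f180273 IH) (Lpr_gt (K10.f180271 IH) (Lpe (K30.f172574 IH) (Lpr_ct (K42.f172662 IH) (Lpr_gt (K43.f579414 IH) (Lpe (K43.f100465 IH) (Lpe (f100463 IH) (Lpr_gt (K44.f101583 IH) (Lpn (LP (LK LD1_c9 LD2_c46 LD3_c24)))))))))))))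
theorem f597430 : Led Lsl_df (LP (LK LD1_c20 LD2_c40 LD3_c7)) = (LP (LK LD1_c16 LD2_c59 LD3_c19)) :=
  Lgr Lrot162 (Lpr_cf (f597416 IH) (Lpe (K41.f564140 IH) (Lpr_cf (K41.f562439 IH) (Lpe (f597074 IH) (Lpr_dt (K41.f555918 IH) (Lpe (f555916 IH) (Lpr_ct (f100488 IH) (Lpr_gt (K44.f101583 IH) (Lpe (f579420 IH) (Lpn (LP (LK LD1_c16 LD2_c59 LD3_c19))))))))))))
theorem f597426 : Led Lsl_ft (LP (LK LD1_c20 LD2_c40 LD3_c7)) = (LP (LK LD1_c18 LD2_c1 LD3_c54)) :=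
  Lgr Lrot4 (Lpr_cf (f597416 IH) (Lpr_ff (f596655 IH) (Lpr_cf (f564175 IH) (Lpn (LP (LK LD1_c18 LD2_c1 LD3_c54))))))
theorem f549703 : Led Lsl_dt (LP (LK LD1_c18 LD2_c1 LD3_c54)) = (LP (LK LD1_c9 LD2_c50 LD3_c46)) :=
  Lre_d IH (LK LD1_c18 LD2_c1 LD3_c54) (LK LD1_c9 LD2_c50 LD3_c46) Lrfl Lrfl
theorem f597436 : Led Lsl_ft (LP (LK LD1_c9 LD2_c50 LD3_c46)) = (LP (LK LD1_c16 LD2_c59 LD3_c19)) :=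
  Lgr Lrot54 (Lpe (f549703 IH) (Lpe (f597426 IH) (Lpr_df (f597430 IH) (Lpn (LP (LK LD1_c16 LD2_c59 LD3_c19))))))
theorem f597440 : Led Lsl_ff (LP (LK LD1_c9 LD2_c50 LD3_c46)) = (LP (LK LD1_c16 LD2_c59 LD3_c19)) :=
  Lgr Lrot3 (Lpr_ft (f597436 IH) (Lpn (LP (LK LD1_c16 LD2_c59 LD3_c19))))
theorem f227588 : Led Lsl_gt (LP (LK LD1_c9 LD2_c7 LD3_c6)) = (LP (LK LD1_c16 LD2_c59 LD3_c18)) :=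
  Lre_g IH (LK LD1_c9 LD2_c7 LD3_c6) (LK LD1_c16 LD2_c59 LD3_c18) Lrfl Lrfl
theorem f597495 : Led Lsl_at (LP (LK LD1_c9 LD2_c50 LD3_c46)) = (LP (LK LD1_c16 LD2_c59 LD3_c18)) :=
  Lgr Lrot26 (Lpr_ff (f597440 IH) (Lpr_gt (f180277 IH) (Lpr_gt (f227588 IH) (Lpn (LP (LK LD1_c16 LD2_c59 LD3_c18))))))
theorem f597414 : Led Lsl_ct (LP (LK LD1_c20 LD2_c40 LD3_c7)) = (LP (LK LD1_c20 LD2_c18 LD3_c4)) :=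
  Lgr Lrot8 (Lpr_gt (f24502 IH) (Lpr_dt (f24501 IH) (Lpr_gt (f597412 IH) (Lpe (K37.f545751 IH) (Lpe (K37.f545747 IH) (Lpe (K37.f545746 IH) (Lpe (K40.f545792 IH) (Lpe (K41.f545797 IH) (Lpr_gf (K41.f558528 IH) (Lpn (LP (LK LD1_c20 LD2_c18 LD3_c4))))))))))))
theorem f597497 : Led Lsl_cf (LP (LK LD1_c16 LD2_c59 LD3_c18)) = (LP (LK LD1_c9 LD2_c46 LD3_c23)) :=
  Lgr Lrot102 (Lpe (f597495 IH) (Lpr_ff (f597440 IH) (Lpe (f597430 IH) (Lpr_ct (f597414 IH) (Lpr_dt (K41.f559507 IH) (Lpe (K40.f559511 IH) (Lpr_dt (K40.f559505 IH) (Lpe (K43.f552477 IH) (Lpe (K40.f72488 IH) (Lpn (LP (LK LD1_c9 LD2_c46 LD3_c23))))))))))))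
theorem f449331 : Led Lsl_ft (LP (LK LD1_c9 LD2_c7 LD3_c6)) = (LP (LK LD1_c5 LD2_c53 LD3_c12)) :=
  Lgr Lrot54 (Lpe (K43.f180275 IH) (Lpr_ff (f449329 IH) (Lpe (K43.f211096 IH) (Lpn (LP (LK LD1_c5 LD2_c53 LD3_c12))))))
theorem f449335 : Led Lsl_gt (LP (LK LD1_c16 LD2_c59 LD3_c18)) = (LP (LK LD1_c11 LD2_c32 LD3_c25)) :=
  Lgr Lrot46 (Lpe (f227588 IH) (Lpr_ft (f449331 IH) (Lpr_at (K38.f211090 IH) (Lpn (LP (LK LD1_c11 LD2_c32 LD3_c25))))))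
theorem f211088 : Led Lsl_ct (LP (LK LD1_c5 LD2_c53 LD3_c9)) = (LP (LK LD1_c11 LD2_c32 LD3_c25)) :=
  Lre_c IH (LK LD1_c5 LD2_c53 LD3_c9) (LK LD1_c11 LD2_c32 LD3_c25) Lrfl Lrfl
theorem f541526 : Led Lsl_bt (LP (LK LD1_c4 LD2_c37 LD3_c36)) = (LP (LK LD1_c2 LD2_c55 LD3_c60)) :=
  Lgr Lrot127 (Lpr_bf (K36.f541524 IH) (Lpn (LP (LK LD1_c2 LD2_c55 LD3_c60))))
theorem f549668 : Led Lsl_ff (LP (LK LD1_c4 LD2_c37 LD3_c36)) = (LP (LK LD1_c2 LD2_c54 LD3_c14)) :=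
  Lgr Lrot52 (Lpr_at (K36.f541496 IH) (Lpr_gf (K38.f549666 IH) (Lpr_gf (K36.f542685 IH) (Lpn (LP (LK LD1_c2 LD2_c54 LD3_c14))))))
theorem f555909 : Led Lsl_bf (LP (LK LD1_c2 LD2_c54 LD3_c14)) = (LP (LK LD1_c5 LD2_c53 LD3_c9)) :=
  Lgr Lrot61 (Lpe (f549668 IH) (Lpr_bt (f541526 IH) (Lpr_ft (K39.f555907 IH) (Lpn (LP (LK LD1_c5 LD2_c53 LD3_c9))))))
theorem f597508 : Led Lsl_bf (LP (LK LD1_c16 LD2_c57 LD3_c56)) = (LP (LK LD1_c9 LD2_c46 LD3_c23)) :=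
  Lgr Lrot34 (Lpr_gf (K44.f580571 IH) (Lpr_bf (K44.f557758 IH) (Lpe (K44.f580577 IH) (Lpe (K44.f412374 IH) (Lpe (K44.f176771 IH) (Lpr_gf (K36.f542685 IH) (Lpr_bf (f555909 IH) (Lpr_ct (f211088 IH) (Lpe (f449335 IH) (Lpr_cf (f597497 IH) (Lpn (LP (LK LD1_c9 LD2_c46 LD3_c23)))))))))))))
theorem f581916 : Led Lsl_ff (LP (LK LD1_c9 LD2_c46 LD3_c23)) = (LP (LK LD1_c5 LD2_c0 LD3_c5)) :=
  Lgr Lrot19 (Lpr_dt (K40.f72494 IH) (Lpr_ft (K44.f581910 IH) (Lpe (f562627 IH) (Lpn (LP (LK LD1_c5 LD2_c0 LD3_c5))))))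
theorem f597512 : Led Lsl_ft (LP (LK LD1_c16 LD2_c57 LD3_c56)) = (LP (LK LD1_c9 LD2_c50 LD3_c43)) :=
  Lgr Lrot75 (Lpr_bf (f597508 IH) (Lpr_ff (f581916 IH) (Lpe (K38.f100514 IH) (Lpn (LP (LK LD1_c9 LD2_c50 LD3_c43))))))
theorem f597518 : Led Lsl_ff (LP (LK LD1_c16 LD2_c57 LD3_c56)) = (LP (LK LD1_c9 LD2_c50 LD3_c43)) :=
  Lgr Lrot3 (Lpr_ft (f597512 IH) (Lpn (LP (LK LD1_c9 LD2_c50 LD3_c43))))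
theorem f592739 : Led Lsl_dt (LP (LK LD1_c9 LD2_c6 LD3_c42)) = (LP (LK LD1_c11 LD2_c7 LD3_c29)) :=
  Lgr Lrot79 (Lpe (K45.f539951 IH) (Lpr_df (K45.f592735 IH) (Lpe (K41.f380366 IH) (Lpn (LP (LK LD1_c11 LD2_c7 LD3_c29))))))
theorem f592775 : Led Lsl_df (LP (LK LD1_c16 LD2_c55 LD3_c58)) = (LP (LK LD1_c20 LD2_c39 LD3_c11)) :=
  Lgr Lrot84 (Lpr_cf (K40.f539031 IH) (Lpr_df (K43.f578818 IH) (Lpe (K43.f578824 IH) (Lpe (f592739 IH) (Lpr_gf (K45.f592771 IH) (Lpr_cf (K45.f581810 IH) (Lpr_gt (K44.f562880 IH) (Lpr_dt (K45.f592773 IH) (Lpr_gt (K45.f592774 IH) (Lpn (LP (LK LD1_c20 LD2_c39 LD3_c11))))))))))))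
theorem f597522 : Led Lsl_at (LP (LK LD1_c16 LD2_c57 LD3_c56)) = (LP (LK LD1_c11 LD2_c32 LD3_c10)) :=
  Lgr Lrot33 (Lpr_ff (f597518 IH) (Lpr_dt (K45.f578863 IH) (Lpe (K43.f578859 IH) (Lpr_dt (K43.f549859 IH) (Lpr_ct (K41.f563283 IH) (Lpr_dt (K45.f545202 IH) (Lpr_ct (K45.f592924 IH) (Lpe (f592775 IH) (Lpr_ct (K41.f539040 IH) (Lpn (LP (LK LD1_c11 LD2_c32 LD3_c10))))))))))))
theorem f597526 : Led Lsl_af (LP (LK LD1_c9 LD2_c12 LD3_c44)) = (LP (LK LD1_c16 LD2_c55 LD3_c58)) :=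
  Lgr Lrot68 (Lpe (K45.f580569 IH) (Lpr_at (f597522 IH) (Lpe (K40.f539031 IH) (Lpn (LP (LK LD1_c16 LD2_c55 LD3_c58))))))
theorem f597535 : Led Lsl_ft (LP (LK LD1_c9 LD2_c12 LD3_c43)) = (LP (LK LD1_c16 LD2_c55 LD3_c58)) :=
  Lgr Lrot2 (Lpr_gt (K43.f572897 IH) (Lpr_gt (K45.f546327 IH) (Lpr_af (f597526 IH) (Lpn (LP (LK LD1_c16 LD2_c55 LD3_c58))))))
theorem f597541 : Led Lsl_ff (LP (LK LD1_c15 LD2_c26 LD3_c32)) = (LP (LK LD1_c11 LD2_c32 LD3_c10)) :=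
  Lgr Lrot23 (Lpr_ct (K43.f565278 IH) (Lpr_ft (f597535 IH) (Lpr_ct (K41.f539040 IH) (Lpn (LP (LK LD1_c11 LD2_c32 LD3_c10))))))
theorem f539035 : Led Lsl_bt (LP (LK LD1_c5 LD2_c52 LD3_c60)) = (LP (LK LD1_c11 LD2_c32 LD3_c10)) :=
  Lre_b IH (LK LD1_c5 LD2_c52 LD3_c60) (LK LD1_c11 LD2_c32 LD3_c10) Lrfl Lrfl
theorem f597673 : Led Lsl_ft (LP (LK LD1_c8 LD2_c12 LD3_c33)) = (LP (LK LD1_c5 LD2_c52 LD3_c60)) :=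
  Lgr Lrot75 (Lpe (K43.f565277 IH) (Lpr_ff (f597541 IH) (Lpe (f539035 IH) (Lpn (LP (LK LD1_c5 LD2_c52 LD3_c60))))))
theorem f597679 : Led Lsl_ff (LP (LK LD1_c8 LD2_c12 LD3_c33)) = (LP (LK LD1_c5 LD2_c52 LD3_c60)) :=
  Lgr Lrot3 (Lpr_ft (f597673 IH) (Lpn (LP (LK LD1_c5 LD2_c52 LD3_c60))))
theorem f449400 : Led Lsl_gt (LP (LK LD1_c2 LD2_c52 LD3_c47)) = (LP (LK LD1_c5 LD2_c52 LD3_c59)) :=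
  Lre_g IH (LK LD1_c2 LD2_c52 LD3_c47) (LK LD1_c5 LD2_c52 LD3_c59) Lrfl Lrfl
theorem f597683 : Led Lsl_at (LP (LK LD1_c8 LD2_c12 LD3_c33)) = (LP (LK LD1_c5 LD2_c52 LD3_c59)) :=
  Lgr Lrot26 (Lpr_ff (f597679 IH) (Lpr_gt (K40.f210712 IH) (Lpr_gt (f449400 IH) (Lpn (LP (LK LD1_c5 LD2_c52 LD3_c59))))))
theorem f565280 : Led Lsl_et (LP (LK LD1_c15 LD2_c26 LD3_c40)) = (LP (LK LD1_c8 LD2_c12 LD3_c33)) :=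
  Lre_e IH (LK LD1_c15 LD2_c26 LD3_c40) (LK LD1_c8 LD2_c12 LD3_c33) Lrfl Lrfl
theorem f597693 : Led Lsl_et (LP (LK LD1_c5 LD2_c52 LD3_c59)) = (LP (LK LD1_c11 LD2_c32 LD3_c9)) :=
  Lre_e IH (LK LD1_c5 LD2_c52 LD3_c59) (LK LD1_c11 LD2_c32 LD3_c9) Lrfl Lrfl
theorem f597694 : Led Lsl_af (LP (LK LD1_c15 LD2_c26 LD3_c40)) = (LP (LK LD1_c11 LD2_c32 LD3_c9)) :=
  Lgr Lrot50 (Lpr_et (f565280 IH) (Lpr_at (f597683 IH) (Lpr_et (f597693 IH) (Lpn (LP (LK LD1_c11 LD2_c32 LD3_c9))))))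
theorem f565295 : Led Lsl_ct (LP (LK LD1_c15 LD2_c26 LD3_c40)) = (LP (LK LD1_c25 LD2_c18 LD3_c32)) :=
  Lre_c IH (LK LD1_c15 LD2_c26 LD3_c40) (LK LD1_c25 LD2_c18 LD3_c32) Lrfl Lrfl
theorem f597700 : Led Lsl_ct (LP (LK LD1_c20 LD2_c28 LD3_c53)) = (LP (LK LD1_c11 LD2_c32 LD3_c9)) :=
  Lre_c IH (LK LD1_c20 LD2_c28 LD3_c53) (LK LD1_c11 LD2_c32 LD3_c9) Lrfl Lrfl
theorem f597701 : Led Lsl_at (LP (LK LD1_c25 LD2_c18 LD3_c32)) = (LP (LK LD1_c20 LD2_c28 LD3_c53)) :=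
  Lgr Lrot107 (Lpe (f565295 IH) (Lpr_af (f597694 IH) (Lpe (f597700 IH) (Lpn (LP (LK LD1_c20 LD2_c28 LD3_c53))))))
theorem f597704 : Led Lsl_af (LP (LK LD1_c25 LD2_c18 LD3_c32)) = (LP (LK LD1_c20 LD2_c28 LD3_c53)) :=
  Lgr Lrot0 (Lpr_at (f597701 IH) (Lpn (LP (LK LD1_c20 LD2_c28 LD3_c53))))
theorem f565321 : Led Lsl_et (LP (LK LD1_c25 LD2_c18 LD3_c32)) = (LP (LK LD1_c15 LD2_c26 LD3_c41)) :=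
  Lre_e IH (LK LD1_c25 LD2_c18 LD3_c32) (LK LD1_c15 LD2_c26 LD3_c41) Lrfl Lrfl
theorem f597717 : Led Lsl_et (LP (LK LD1_c11 LD2_c32 LD3_c8)) = (LP (LK LD1_c20 LD2_c28 LD3_c53)) :=
  Lre_e IH (LK LD1_c11 LD2_c32 LD3_c8) (LK LD1_c20 LD2_c28 LD3_c53) Lrfl Lrfl
theorem f597718 : Led Lsl_at (LP (LK LD1_c15 LD2_c26 LD3_c41)) = (LP (LK LD1_c11 LD2_c32 LD3_c8)) :=
  Lgr Lrot80 (Lpe (f565321 IH) (Lpr_af (f597704 IH) (Lpe (f597717 IH) (Lpn (LP (LK LD1_c11 LD2_c32 LD3_c8))))))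
theorem f565264 : Led Lsl_ct (LP (LK LD1_c15 LD2_c26 LD3_c41)) = (LP (LK LD1_c8 LD2_c12 LD3_c33)) :=
  Lre_c IH (LK LD1_c15 LD2_c26 LD3_c41) (LK LD1_c8 LD2_c12 LD3_c33) Lrfl Lrfl
theorem f597675 : Led Lsl_ff (LP (LK LD1_c15 LD2_c26 LD3_c41)) = (LP (LK LD1_c11 LD2_c32 LD3_c11)) :=
  Lgr Lrot23 (Lpr_ct (f565264 IH) (Lpr_ft (f597673 IH) (Lpr_ct (K40.f539044 IH) (Lpn (LP (LK LD1_c11 LD2_c32 LD3_c11))))))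
theorem f597724 : Led Lsl_gt (LP (LK LD1_c5 LD2_c53 LD3_c40)) = (LP (LK LD1_c11 LD2_c32 LD3_c8)) :=
  Lgr Lrot46 (Lpe (K40.f559694 IH) (Lpe (f597675 IH) (Lpr_at (f597718 IH) (Lpn (LP (LK LD1_c11 LD2_c32 LD3_c8))))))
theorem f597685 : Led Lsl_ct (LP (LK LD1_c11 LD2_c32 LD3_c8)) = (LP (LK LD1_c5 LD2_c52 LD3_c59)) :=
  Lre_c IH (LK LD1_c11 LD2_c32 LD3_c8) (LK LD1_c5 LD2_c52 LD3_c59) Lrfl Lrfl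
theorem f597730 : Led Lsl_df (LP (LK LD1_c6 LD2_c17 LD3_c5)) = (LP (LK LD1_c5 LD2_c52 LD3_c59)) :=
  Lgr Lrot162 (Lpe (K43.f450422 IH) (Lpr_gf (K43.f559580 IH) (Lpe (K43.f538279 IH) (Lpe (K41.f559576 IH) (Lpe (K39.f24000 IH) (Lpe (K42.f556743 IH) (Lpr_ct (K40.f208596 IH) (Lpr_gt (f597724 IH) (Lpr_ct (f597685 IH) (Lpn (LP (LK LD1_c5 LD2_c52 LD3_c59))))))))))))
theorem f552421 : Led Lsl_ct (LP (LK LD1_c11 LD2_c32 LD3_c12)) = (LP (LK LD1_c9 LD2_c8 LD3_c8)) :=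
  Lgr Lrot59 (Lpr_cf (K40.f552417 IH) (Lpn (LP (LK LD1_c9 LD2_c8 LD3_c8))))
theorem f597743 : Led Lsl_gf (LP (LK LD1_c8 LD2_c0 LD3_c18)) = (LP (LK LD1_c5 LD2_c52 LD3_c59)) :=
  Lgr Lrot147 (Lpe (K40.f559674 IH) (Lpr_gt (K40.f539063 IH) (Lpr_ct (f552421 IH) (Lpr_df (K39.f112365 IH) (Lpr_cf (K45.f571287 IH) (Lpr_gf (K41.f566864 IH) (Lpe (K41.f418986 IH) (Lpe (K43.f450420 IH) (Lpr_df (f597730 IH) (Lpn (LP (LK LD1_c5 LD2_c52 LD3_c59))))))))))))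
theorem f561667 : Led Lsl_ft (LP (LK LD1_c6 LD2_c15 LD3_c24)) = (LP (LK LD1_c9 LD2_c45 LD3_c35)) :=
  Lgr Lrot4 (Lpe (K40.f561605 IH) (Lpr_ff (K40.f561663 IH) (Lpe (K40.f411869 IH) (Lpn (LP (LK LD1_c9 LD2_c45 LD3_c35))))))
theorem f172185 : Led Lsl_ft (LP (LK LD1_c1 LD2_c28 LD3_c28)) = (LP (LK LD1_c2 LD2_c46 LD3_c24)) :=
  Lgr Lrot4 (Lpe (K36.f60727 IH) (Lpr_ff (K17.f172178 IH) (Lpe (K17.f172158 IH) (Lpn (LP (LK LD1_c2 LD2_c46 LD3_c24))))))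
theorem f496017 : Led Lsl_at (LP (LK LD1_c2 LD2_c46 LD3_c24)) = K40.v1517 :=
  Lgr Lrot66 (Lpe (f172185 IH) (Lpr_af (K17.f73137 IH) (Lpr_ff (K40.f496016 IH) (Lpn K40.v1517))))
theorem f563744 : Led Lsl_af (LP (LK LD1_c5 LD2_c40 LD3_c54)) = (LP (LK LD1_c9 LD2_c45 LD3_c35)) :=
  Lgr Lrot36 (Lpr_bt (K37.f172232 IH) (Lpr_at (f496017 IH) (Lpqs (K40.f537930 IH) (Lpr_bt (K42.f537937 IH) (Lpr_at (K40.f562147 IH) (Lpr_bt (K40.f563742 IH) (Lpn (LP (LK LD1_c9 LD2_c45 LD3_c35)))))))))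
theorem f580276 : Led Lsl_gf (LP (LK LD1_c5 LD2_c40 LD3_c54)) = (LP (LK LD1_c9 LD2_c45 LD3_c32)) :=
  Lgr Lrot76 (Lpr_af (f563744 IH) (Lpe (f561667 IH) (Lpr_gt (K44.f580274 IH) (Lpn (LP (LK LD1_c9 LD2_c45 LD3_c32))))))
theorem f588536 : Led Lsl_gt (LP (LK LD1_c5 LD2_c41 LD3_c35)) = (LP (LK LD1_c4 LD2_c57 LD3_c16)) :=
  Lgr Lrot94 (Lpe (K31.f172492 IH) (Lpr_gt (K31.f411681 IH) (Lpr_dt (K38.f269012 IH) (Lpe (K45.f411856 IH) (Lpr_dt (K45.f588512 IH) (Lpr_cf (K2.f60796 IH) (Lpr_df (K39.f172156 IH) (Lpr_gf (f580276 IH) (Lpe (K44.f580288 IH) (Lpn (LP (LK LD1_c4 LD2_c57 LD3_c16))))))))))))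
theorem f597728 : Led Lsl_dt (LP (LK LD1_c6 LD2_c17 LD3_c5)) = (LP (LK LD1_c5 LD2_c52 LD3_c59)) :=
  Lgr Lrot27 (Lpe (K43.f450422 IH) (Lpr_gf (K43.f559580 IH) (Lpe (K43.f538279 IH) (Lpe (K41.f559576 IH) (Lpe (K40.f23936 IH) (Lpe (K42.f556743 IH) (Lpr_ct (K40.f208596 IH) (Lpr_gt (f597724 IH) (Lpr_ct (f597685 IH) (Lpn (LP (LK LD1_c5 LD2_c52 LD3_c59))))))))))))
theorem f593645 : Led Lsl_ct (LP (LK LD1_c4 LD2_c5 LD3_c53)) = (LP (LK LD1_c8 LD2_c12 LD3_c23)) :=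
  Lre_c IH (LK LD1_c4 LD2_c5 LD3_c53) (LK LD1_c8 LD2_c12 LD3_c23) Lrfl Lrfl
theorem f593646 : Led Lsl_et (LP (LK LD1_c6 LD2_c17 LD3_c5)) = (LP (LK LD1_c4 LD2_c5 LD3_c53)) :=
  Lgr Lrot158 (Lpe (K43.f450422 IH) (Lpr_ef (K45.f593636 IH) (Lpe (f593645 IH) (Lpn (LP (LK LD1_c4 LD2_c5 LD3_c53))))))
theorem f597745 : Led Lsl_gt (LP (LK LD1_c2 LD2_c0 LD3_c17)) = (LP (LK LD1_c4 LD2_c5 LD3_c53)) :=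
  Lgr Lrot131 (Lpr_ef (K2.f60821 IH) (Lpr_dt (K37.f172225 IH) (Lpr_gf (f580276 IH) (Lpe (K44.f580288 IH) (Lpe (f588536 IH) (Lpe (K42.f559522 IH) (Lpr_dt (K40.f549838 IH) (Lpr_gf (f597743 IH) (Lpe (f597728 IH) (Lpr_et (f593646 IH) (Lpn (LP (LK LD1_c4 LD2_c5 LD3_c53)))))))))))))
theorem f55892 : Led Lsl_at (LP (LK LD1_c0 LD2_c57 LD3_c6)) = (LP (LK LD1_c2 LD2_c0 LD3_c15)) :=
  Lre_a IH (LK LD1_c0 LD2_c57 LD3_c6) (LK LD1_c2 LD2_c0 LD3_c15) Lrfl Lrfl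
theorem f597749 : Led Lsl_gf (LP (LK LD1_c2 LD2_c0 LD3_c15)) = (LP (LK LD1_c4 LD2_c5 LD3_c53)) :=
  Lgr Lrot76 (Lpe (f55892 IH) (Lpe (K2.f60830 IH) (Lpr_gt (f597745 IH) (Lpn (LP (LK LD1_c4 LD2_c5 LD3_c53))))))
theorem f581885 : Led Lsl_ft (LP (LK LD1_c4 LD2_c5 LD3_c53)) = (LP (LK LD1_c2 LD2_c0 LD3_c13)) :=
  Lre_f IH (LK LD1_c4 LD2_c5 LD3_c53) (LK LD1_c2 LD2_c0 LD3_c13) Lrfl Lrfl
theorem f581972 : Led Lsl_at (LP (LK LD1_c2 LD2_c0 LD3_c13)) = (LP (LK LD1_c4 LD2_c5 LD3_c48)) :=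
  Lre_a IH (LK LD1_c2 LD2_c0 LD3_c13) (LK LD1_c4 LD2_c5 LD3_c48) Lrfl Lrfl
theorem f597798 : Led Lsl_gt (LP (LK LD1_c2 LD2_c0 LD3_c15)) = (LP (LK LD1_c4 LD2_c5 LD3_c48)) :=
  Lgr Lrot46 (Lpr_gf (f597749 IH) (Lpr_ft (f581885 IH) (Lpr_at (f581972 IH) (Lpn (LP (LK LD1_c4 LD2_c5 LD3_c48))))))
theorem f73277 : Led Lsl_ef (LP (LK LD1_c2 LD2_c0 LD3_c15)) = (LP (LK LD1_c1 LD2_c20 LD3_c57)) :=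
  Lgr Lrot20 (Lpr_at (K10.f55874 IH) (Lpr_et (K2.f73258 IH) (Lpr_at (K4.f73181 IH) (Lpn (LP (LK LD1_c1 LD2_c20 LD3_c57))))))
theorem f149351 : Led Lsl_gf (LP (LK LD1_c2 LD2_c49 LD3_c38)) = (LP (LK LD1_c1 LD2_c56 LD3_c24)) :=
  Lgr Lrot76 (Lpe (K4.f73627 IH) (Lpr_ff (K2.f73804 IH) (Lpr_gt (K7.f149347 IH) (Lpn (LP (LK LD1_c1 LD2_c56 LD3_c24))))))
theorem f101549 : Led Lsl_et (LP (LK LD1_c0 LD2_c54 LD3_c58)) = (LP (LK LD1_c0 LD2_c24 LD3_c55)) :=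
  Lre_e IH (LK LD1_c0 LD2_c54 LD3_c58) (LK LD1_c0 LD2_c24 LD3_c55) Lrfl Lrfl
theorem f552387 : Led Lsl_df (LP (LK LD1_c3 LD2_c59 LD3_c7)) = (LP (LK LD1_c2 LD2_c44 LD3_c46)) :=
  Lgr Lrot38 (Lpr_dt (K39.f552382 IH) (Lpn (LP (LK LD1_c2 LD2_c44 LD3_c46))))
theorem f597809 : Led Lsl_et (LP (LK LD1_c2 LD2_c44 LD3_c46)) = (LP (LK LD1_c4 LD2_c5 LD3_c48)) :=
  Lgr Lrot122 (Lpe (f552387 IH) (Lpr_gt (K39.f174650 IH) (Lpe (K30.f172368 IH) (Lpr_et (f101549 IH) (Lpr_gt (K6.f37771 IH) (Lpr_dt (K6.f59885 IH) (Lpe (f149351 IH) (Lpe (K2.f73428 IH) (Lpe (f73277 IH) (Lpr_gt (f597798 IH) (Lpn (LP (LK LD1_c4 LD2_c5 LD3_c48)))))))))))))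
theorem f597815 : Led Lsl_ef (LP (LK LD1_c2 LD2_c44 LD3_c46)) = (LP (LK LD1_c4 LD2_c5 LD3_c48)) :=
  Lgr Lrot88 (Lpr_et (f597809 IH) (Lpn (LP (LK LD1_c4 LD2_c5 LD3_c48))))
theorem f590802 : Led Lsl_ft (LP (LK LD1_c2 LD2_c0 LD3_c14)) = (LP (LK LD1_c4 LD2_c5 LD3_c48)) :=
  Lre_f IH (LK LD1_c2 LD2_c0 LD3_c14) (LK LD1_c4 LD2_c5 LD3_c48) Lrfl Lrfl
theorem f597677 : Led Lsl_ff (LP (LK LD1_c4 LD2_c5 LD3_c57)) = (LP (LK LD1_c6 LD2_c17 LD3_c6)) :=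
  Lgr Lrot19 (Lpr_dt (K42.f60844 IH) (Lpr_ft (f597673 IH) (Lpr_dt (K43.f578816 IH) (Lpn (LP (LK LD1_c6 LD2_c17 LD3_c6))))))
theorem f597821 : Led Lsl_ft (LP (LK LD1_c2 LD2_c44 LD3_c46)) = (LP (LK LD1_c4 LD2_c19 LD3_c52)) :=
  Lgr Lrot86 (Lpr_ef (f597815 IH) (Lpe (f590802 IH) (Lpe (K42.f60843 IH) (Lpr_ff (f597677 IH) (Lpr_ef (K42.f571875 IH) (Lpn (LP (LK LD1_c4 LD2_c19 LD3_c52))))))))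
theorem f597825 : Led Lsl_af (LP (LK LD1_c2 LD2_c44 LD3_c45)) = (LP (LK LD1_c4 LD2_c19 LD3_c52)) :=
  Lgr Lrot31 (Lpe (K38.f319450 IH) (Lpe (K39.f386969 IH) (Lpr_ft (f597821 IH) (Lpn (LP (LK LD1_c4 LD2_c19 LD3_c52))))))
theorem f597811 : Led Lsl_af (LP (LK LD1_c2 LD2_c44 LD3_c46)) = (LP (LK LD1_c4 LD2_c5 LD3_c52)) :=
  Lgr Lrot50 (Lpr_et (f597809 IH) (Lpr_at (K44.f574876 IH) (Lpr_et (K36.f137991 IH) (Lpn (LP (LK LD1_c4 LD2_c5 LD3_c52))))))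
theorem f597831 : Led Lsl_ft (LP (LK LD1_c2 LD2_c44 LD3_c45)) = (LP (LK LD1_c4 LD2_c5 LD3_c52)) :=
  Lgr Lrot101 (Lpr_af (f597825 IH) (Lpe (f597821 IH) (Lpr_af (f597811 IH) (Lpn (LP (LK LD1_c4 LD2_c5 LD3_c52))))))
theorem f558365 : Led Lsl_bf (LP (LK LD1_c6 LD2_c17 LD3_c13)) = (LP (LK LD1_c5 LD2_c37 LD3_c37)) :=
  Lgr Lrot96 (Lpr_et (K40.f558363 IH) (Lpe (K38.f402569 IH) (Lpr_et (K38.f402573 IH) (Lpn (LP (LK LD1_c5 LD2_c37 LD3_c37))))))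
theorem f581938 : Led Lsl_ft (LP (LK LD1_c6 LD2_c17 LD3_c5)) = (LP (LK LD1_c5 LD2_c37 LD3_c37)) :=
  Lgr Lrot75 (Lpe (K42.f556364 IH) (Lpr_ff (K44.f581936 IH) (Lpr_bf (f558365 IH) (Lpn (LP (LK LD1_c5 LD2_c37 LD3_c37))))))
theorem f581875 : Led Lsl_ft (LP (LK LD1_c2 LD2_c0 LD3_c13)) = (LP (LK LD1_c4 LD2_c5 LD3_c53)) :=
  Lre_f IH (LK LD1_c2 LD2_c0 LD3_c13) (LK LD1_c4 LD2_c5 LD3_c53) Lrfl Lrfl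
theorem f597835 : Led Lsl_ef (LP (LK LD1_c6 LD2_c17 LD3_c5)) = (LP (LK LD1_c4 LD2_c5 LD3_c53)) :=
  Lgr Lrot21 (Lpr_ft (f581938 IH) (Lpr_et (K42.f387059 IH) (Lpr_ft (f597831 IH) (Lpr_et (K36.f60845 IH) (Lpr_ft (f581875 IH) (Lpn (LP (LK LD1_c4 LD2_c5 LD3_c53))))))))
theorem f593618 : Led Lsl_dt (LP (LK LD1_c4 LD2_c5 LD3_c53)) = (LP (LK LD1_c8 LD2_c12 LD3_c25)) :=
  Lre_d IH (LK LD1_c4 LD2_c5 LD3_c53) (LK LD1_c8 LD2_c12 LD3_c25) Lrfl Lrfl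
theorem f597837 : Led Lsl_gt (LP (LK LD1_c5 LD2_c7 LD3_c25)) = (LP (LK LD1_c8 LD2_c12 LD3_c25)) :=
  Lgr Lrot139 (Lpe (K43.f427971 IH) (Lpe (K41.f421703 IH) (Lpe (K41.f565368 IH) (Lpr_dt (K41.f548949 IH) (Lpr_gf (K45.f592674 IH) (Lpe (K43.f569091 IH) (Lpr_et (K39.f418996 IH) (Lpe (K43.f450420 IH) (Lpr_ef (f597835 IH) (Lpr_dt (f593618 IH) (Lpn (LP (LK LD1_c8 LD2_c12 LD3_c25)))))))))))))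
theorem f593619 : Led Lsl_ct (LP (LK LD1_c8 LD2_c12 LD3_c25)) = (LP (LK LD1_c15 LD2_c26 LD3_c28)) :=
  Lre_c IH (LK LD1_c8 LD2_c12 LD3_c25) (LK LD1_c15 LD2_c26 LD3_c28) Lrfl Lrfl
theorem f597841 : Led Lsl_gf (LP (LK LD1_c11 LD2_c33 LD3_c43)) = (LP (LK LD1_c15 LD2_c26 LD3_c28)) :=
  Lgr Lrot104 (Lpr_ct (K45.f428021 IH) (Lpe (K41.f112389 IH) (Lpe (K37.f227343 IH) (Lpr_gf (K45.f428016 IH) (Lpr_cf (K35.f161114 IH) (Lpr_gf (K43.f573953 IH) (Lpe (K43.f565331 IH) (Lpr_gt (f597837 IH) (Lpr_ct (f593619 IH) (Lpn (LP (LK LD1_c15 LD2_c26 LD3_c28))))))))))))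
theorem f566989 : Led Lsl_at (LP (LK LD1_c5 LD2_c54 LD3_c54)) = (LP (LK LD1_c11 LD2_c33 LD3_c43)) :=
  Lgr Lrot107 (Lpe (K45.f409404 IH) (Lpr_af (K41.f566984 IH) (Lpe (K45.f428021 IH) (Lpn (LP (LK LD1_c11 LD2_c33 LD3_c43))))))
theorem f570474 : Led Lsl_ff (LP (LK LD1_c5 LD2_c54 LD3_c54)) = (LP (LK LD1_c11 LD2_c33 LD3_c46)) :=
  Lgr Lrot23 (Lpr_ct (K45.f428090 IH) (Lpr_ft (K42.f570467 IH) (Lpr_ct (K45.f71492 IH) (Lpn (LP (LK LD1_c11 LD2_c33 LD3_c46))))))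
theorem f597844 : Led Lsl_gt (LP (LK LD1_c11 LD2_c33 LD3_c46)) = (LP (LK LD1_c15 LD2_c26 LD3_c28)) :=
  Lgr Lrot5 (Lpe (f570474 IH) (Lpr_at (f566989 IH) (Lpr_gf (f597841 IH) (Lpn (LP (LK LD1_c15 LD2_c26 LD3_c28))))))
theorem f597848 : Led Lsl_bf (LP (LK LD1_c5 LD2_c7 LD3_c4)) = (LP (LK LD1_c8 LD2_c12 LD3_c25)) :=
  Lgr Lrot156 (Lpr_gt (K40.f165699 IH) (Lpe (K42.f165659 IH) (Lpe (K10.f165663 IH) (Lpe (K42.f198617 IH) (Lpe (K42.f198611 IH) (Lpr_bt (K42.f249936 IH) (Lpe (K42.f570442 IH) (Lpr_ct (K45.f71492 IH) (Lpr_gt (f597844 IH) (Lpe (f593619 IH) (Lpn (LP (LK LD1_c8 LD2_c12 LD3_c25)))))))))))))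
theorem f597852 : Led Lsl_bt (LP (LK LD1_c5 LD2_c7 LD3_c4)) = (LP (LK LD1_c8 LD2_c12 LD3_c25)) :=
  Lgr Lrot127 (Lpr_bf (f597848 IH) (Lpn (LP (LK LD1_c8 LD2_c12 LD3_c25))))
theorem f558484 : Led Lsl_df (LP (LK LD1_c4 LD2_c7 LD3_c12)) = (LP (LK LD1_c5 LD2_c7 LD3_c4)) :=
  Lgr Lrot38 (Lpr_dt (K40.f558482 IH) (Lpn (LP (LK LD1_c5 LD2_c7 LD3_c4))))
theorem f581900 : Led Lsl_af (LP (LK LD1_c5 LD2_c7 LD3_c4)) = (LP (LK LD1_c5 LD2_c14 LD3_c14)) :=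
  Lgr Lrot117 (Lpe (f558484 IH) (Lpr_at (K44.f581890 IH) (Lpe (K40.f563787 IH) (Lpn (LP (LK LD1_c5 LD2_c14 LD3_c14))))))
theorem f248851 : Led Lsl_bt (LP (LK LD1_c10 LD2_c18 LD3_c16)) = (LP (LK LD1_c5 LD2_c14 LD3_c14)) :=
  Lre_b IH (LK LD1_c10 LD2_c18 LD3_c16) (LK LD1_c5 LD2_c14 LD3_c14) Lrfl Lrfl
theorem f590796 : Led Lsl_at (LP (LK LD1_c8 LD2_c12 LD3_c25)) = (LP (LK LD1_c4 LD2_c5 LD3_c56)) :=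
  Lre_a IH (LK LD1_c8 LD2_c12 LD3_c25) (LK LD1_c4 LD2_c5 LD3_c56) Lrfl Lrfl
theorem f570489 : Led Lsl_bt (LP (LK LD1_c4 LD2_c5 LD3_c56)) = (LP (LK LD1_c8 LD2_c12 LD3_c27)) :=
  Lre_b IH (LK LD1_c4 LD2_c5 LD3_c56) (LK LD1_c8 LD2_c12 LD3_c27) Lrfl Lrfl
theorem f597854 : Led Lsl_af (LP (LK LD1_c10 LD2_c18 LD3_c16)) = (LP (LK LD1_c8 LD2_c12 LD3_c27)) :=
  Lgr Lrot36 (Lpr_bt (f248851 IH) (Lpe (f581900 IH) (Lpr_bt (f597852 IH) (Lpr_at (f590796 IH) (Lpr_bt (f570489 IH) (Lpn (LP (LK LD1_c8 LD2_c12 LD3_c27))))))))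
theorem f586702 : Led Lsl_ft (LP (LK LD1_c15 LD2_c26 LD3_c18)) = (LP (LK LD1_c8 LD2_c12 LD3_c27)) :=
  Lre_f IH (LK LD1_c15 LD2_c26 LD3_c18) (LK LD1_c8 LD2_c12 LD3_c27) Lrfl Lrfl
theorem f574882 : Led Lsl_af (LP (LK LD1_c15 LD2_c26 LD3_c18)) = (LP (LK LD1_c10 LD2_c4 LD3_c44)) :=
  Lgr Lrot0 (Lpr_at (K43.f574880 IH) (Lpn (LP (LK LD1_c10 LD2_c4 LD3_c44))))
theorem f597862 : Led Lsl_ft (LP (LK LD1_c10 LD2_c18 LD3_c16)) = (LP (LK LD1_c10 LD2_c4 LD3_c44)) :=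
  Lgr Lrot101 (Lpr_af (f597854 IH) (Lpe (f586702 IH) (Lpr_af (f574882 IH) (Lpn (LP (LK LD1_c10 LD2_c4 LD3_c44))))))
theorem f597869 : Led Lsl_ff (LP (LK LD1_c10 LD2_c18 LD3_c16)) = (LP (LK LD1_c10 LD2_c4 LD3_c44)) :=
  Lgr Lrot3 (Lpr_ft (f597862 IH) (Lpn (LP (LK LD1_c10 LD2_c4 LD3_c44))))
theorem f597871 : Led Lsl_ft (LP (LK LD1_c5 LD2_c14 LD3_c14)) = (LP (LK LD1_c5 LD2_c7 LD3_c3)) :=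
  Lgr Lrot75 (Lpe (f248851 IH) (Lpr_ff (f597869 IH) (Lpe (K43.f417530 IH) (Lpn (LP (LK LD1_c5 LD2_c7 LD3_c3))))))
theorem f597442 : Led Lsl_af (LP (LK LD1_c9 LD2_c50 LD3_c44)) = (LP (LK LD1_c16 LD2_c59 LD3_c19)) :=
  Lgr Lrot31 (Lpe (K43.f561225 IH) (Lpr_gf (f549699 IH) (Lpr_ft (f597436 IH) (Lpn (LP (LK LD1_c16 LD2_c59 LD3_c19))))))
theorem f597448 : Led Lsl_et (LP (LK LD1_c9 LD2_c50 LD3_c44)) = (LP (LK LD1_c18 LD2_c1 LD3_c49)) :=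
  Lre_e IH (LK LD1_c9 LD2_c50 LD3_c44) (LK LD1_c18 LD2_c1 LD3_c49) Lrfl Lrfl
theorem f561239 : Led Lsl_et (LP (LK LD1_c26 LD2_c55 LD3_c1)) = (LP (LK LD1_c16 LD2_c59 LD3_c19)) :=
  Lre_e IH (LK LD1_c26 LD2_c55 LD3_c1) (LK LD1_c16 LD2_c59 LD3_c19) Lrfl Lrfl
theorem f597449 : Led Lsl_at (LP (LK LD1_c18 LD2_c1 LD3_c49)) = (LP (LK LD1_c26 LD2_c55 LD3_c1)) :=
  Lgr Lrot80 (Lpe (f597448 IH) (Lpr_af (f597442 IH) (Lpe (f561239 IH) (Lpn (LP (LK LD1_c26 LD2_c55 LD3_c1))))))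
theorem f175620 : Led Lsl_ct (LP (LK LD1_c9 LD2_c50 LD3_c45)) = (LP (LK LD1_c18 LD2_c1 LD3_c49)) :=
  Lre_c IH (LK LD1_c9 LD2_c50 LD3_c45) (LK LD1_c18 LD2_c1 LD3_c49) Lrfl Lrfl
theorem f579425 : Led Lsl_et (LP (LK LD1_c16 LD2_c59 LD3_c19)) = (LP (LK LD1_c26 LD2_c55 LD3_c1)) :=
  Lre_e IH (LK LD1_c16 LD2_c59 LD3_c19) (LK LD1_c26 LD2_c55 LD3_c1) Lrfl Lrfl
theorem f413853 : Led Lsl_et (LP (LK LD1_c17 LD2_c56 LD3_c23)) = (LP (LK LD1_c9 LD2_c46 LD3_c24)) :=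
  Lre_e IH (LK LD1_c17 LD2_c56 LD3_c23) (LK LD1_c9 LD2_c46 LD3_c24) Lrfl Lrfl
theorem f579426 : Led Lsl_ct (LP (LK LD1_c26 LD2_c55 LD3_c1)) = (LP (LK LD1_c17 LD2_c56 LD3_c23)) :=
  Lgr Lrot15 (Lpe (f579425 IH) (Lpr_cf (f579420 IH) (Lpe (f413853 IH) (Lpn (LP (LK LD1_c17 LD2_c56 LD3_c23))))))
theorem f597453 : Led Lsl_af (LP (LK LD1_c9 LD2_c50 LD3_c45)) = (LP (LK LD1_c17 LD2_c56 LD3_c23)) :=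
  Lgr Lrot68 (Lpr_ct (f175620 IH) (Lpr_at (f597449 IH) (Lpr_ct (f579426 IH) (Lpn (LP (LK LD1_c17 LD2_c56 LD3_c23))))))
theorem f563797 : Led Lsl_et (LP (LK LD1_c5 LD2_c0 LD3_c5)) = (LP (LK LD1_c9 LD2_c50 LD3_c45)) :=
  Lre_e IH (LK LD1_c5 LD2_c0 LD3_c5) (LK LD1_c9 LD2_c50 LD3_c45) Lrfl Lrfl
theorem f563790 : Led Lsl_dt (LP (LK LD1_c5 LD2_c14 LD3_c14)) = (LP (LK LD1_c4 LD2_c53 LD3_c51)) :=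
  Lgr Lrot42 (Lpr_df (K40.f563787 IH) (Lpn (LP (LK LD1_c4 LD2_c53 LD3_c51))))
theorem f387284 : Led Lsl_et (LP (LK LD1_c10 LD2_c18 LD3_c17)) = (LP (LK LD1_c5 LD2_c14 LD3_c14)) :=
  Lre_e IH (LK LD1_c10 LD2_c18 LD3_c17) (LK LD1_c5 LD2_c14 LD3_c14) Lrfl Lrfl
theorem f563798 : Led Lsl_dt (LP (LK LD1_c9 LD2_c50 LD3_c45)) = (LP (LK LD1_c10 LD2_c18 LD3_c17)) :=
  Lgr Lrot77 (Lpe (f563797 IH) (Lpr_df (f562627 IH) (Lpr_ef (K40.f563795 IH) (Lpe (f563790 IH) (Lpe (f387284 IH) (Lpn (LP (LK LD1_c10 LD2_c18 LD3_c17))))))))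
theorem f558486 : Led Lsl_et (LP (LK LD1_c5 LD2_c7 LD3_c4)) = (LP (LK LD1_c10 LD2_c4 LD3_c47)) :=
  Lre_e IH (LK LD1_c5 LD2_c7 LD3_c4) (LK LD1_c10 LD2_c4 LD3_c47) Lrfl Lrfl
theorem f558487 : Led Lsl_df (LP (LK LD1_c17 LD2_c56 LD3_c23)) = (LP (LK LD1_c10 LD2_c4 LD3_c47)) :=
  Lgr Lrot70 (Lpr_et (f413853 IH) (Lpr_dt (f557776 IH) (Lpr_et (K44.f556372 IH) (Lpr_dt (K40.f558482 IH) (Lpr_et (f558486 IH) (Lpn (LP (LK LD1_c10 LD2_c4 LD3_c47))))))))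
theorem f597457 : Led Lsl_at (LP (LK LD1_c10 LD2_c18 LD3_c17)) = (LP (LK LD1_c10 LD2_c4 LD3_c47)) :=
  Lgr Lrot51 (Lpe (f563798 IH) (Lpr_af (f597453 IH) (Lpr_df (f558487 IH) (Lpn (LP (LK LD1_c10 LD2_c4 LD3_c47))))))
theorem f563792 : Led Lsl_et (LP (LK LD1_c5 LD2_c14 LD3_c14)) = (LP (LK LD1_c10 LD2_c18 LD3_c17)) :=
  Lre_e IH (LK LD1_c5 LD2_c14 LD3_c14) (LK LD1_c10 LD2_c18 LD3_c17) Lrfl Lrfl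
theorem f387289 : Led Lsl_et (LP (LK LD1_c10 LD2_c4 LD3_c47)) = (LP (LK LD1_c5 LD2_c7 LD3_c4)) :=
  Lre_e IH (LK LD1_c10 LD2_c4 LD3_c47) (LK LD1_c5 LD2_c7 LD3_c4) Lrfl Lrfl
theorem f597473 : Led Lsl_af (LP (LK LD1_c5 LD2_c14 LD3_c14)) = (LP (LK LD1_c5 LD2_c7 LD3_c4)) :=
  Lgr Lrot50 (Lpr_et (f563792 IH) (Lpr_at (f597457 IH) (Lpr_et (f387289 IH) (Lpn (LP (LK LD1_c5 LD2_c7 LD3_c4))))))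
theorem f581881 : Led Lsl_ff (LP (LK LD1_c5 LD2_c7 LD3_c4)) = (LP (LK LD1_c5 LD2_c14 LD3_c15)) :=
  Lgr Lrot19 (Lpe (f558484 IH) (Lpr_ft (K44.f581849 IH) (Lpr_dt (K40.f563777 IH) (Lpn (LP (LK LD1_c5 LD2_c14 LD3_c15))))))
theorem f597873 : Led Lsl_af (LP (LK LD1_c5 LD2_c14 LD3_c15)) = (LP (LK LD1_c5 LD2_c7 LD3_c3)) :=
  Lgr Lrot45 (Lpe (f581881 IH) (Lpe (f597473 IH) (Lpr_ft (f597871 IH) (Lpn (LP (LK LD1_c5 LD2_c7 LD3_c3))))))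
theorem f597881 : Led Lsl_dt (LP (LK LD1_c5 LD2_c14 LD3_c15)) = (LP (LK LD1_c4 LD2_c5 LD3_c49)) :=
  Lgr Lrot44 (Lpr_af (f597873 IH) (Lpr_df (K39.f541678 IH) (Lpe (K44.f574877 IH) (Lpn (LP (LK LD1_c4 LD2_c5 LD3_c49))))))
theorem f387103 : Led Lsl_et (LP (LK LD1_c10 LD2_c18 LD3_c19)) = (LP (LK LD1_c5 LD2_c14 LD3_c15)) :=
  Lre_e IH (LK LD1_c10 LD2_c18 LD3_c19) (LK LD1_c5 LD2_c14 LD3_c15) Lrfl Lrfl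
theorem f549444 : Led Lsl_dt (LP (LK LD1_c5 LD2_c41 LD3_c0)) = (LP (LK LD1_c2 LD2_c46 LD3_c31)) :=
  Lre_d IH (LK LD1_c5 LD2_c41 LD3_c0) (LK LD1_c2 LD2_c46 LD3_c31) Lrfl Lrfl
theorem f383913 : Led Lsl_ct (LP (LK LD1_c9 LD2_c45 LD3_c20)) = (LP (LK LD1_c4 LD2_c57 LD3_c8)) :=
  Lre_c IH (LK LD1_c9 LD2_c45 LD3_c20) (LK LD1_c4 LD2_c57 LD3_c8) Lrfl Lrfl
theorem f383812 : Led Lsl_dt (LP (LK LD1_c1 LD2_c20 LD3_c19)) = (LP (LK LD1_c2 LD2_c48 LD3_c12)) :=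
  Lre_d IH (LK LD1_c1 LD2_c20 LD3_c19) (LK LD1_c2 LD2_c48 LD3_c12) Lrfl Lrfl
theorem f174698 : Led Lsl_gt (LP (LK LD1_c2 LD2_c48 LD3_c10)) = (LP (LK LD1_c1 LD2_c20 LD3_c19)) :=
  Lre_g IH (LK LD1_c2 LD2_c48 LD3_c10) (LK LD1_c1 LD2_c20 LD3_c19) Lrfl Lrfl
theorem f174680 : Led Lsl_ct (LP (LK LD1_c5 LD2_c44 LD3_c34)) = (LP (LK LD1_c2 LD2_c48 LD3_c10)) :=
  Lre_c IH (LK LD1_c5 LD2_c44 LD3_c34) (LK LD1_c2 LD2_c48 LD3_c10) Lrfl Lrfl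
theorem f495872 : Led Lsl_gf (LP (LK LD1_c9 LD2_c0 LD3_c13)) = (LP (LK LD1_c5 LD2_c44 LD3_c34)) :=
  Lgr Lrot144 (Lpe (K39.f495868 IH) (Lpr_gt (K31.f495870 IH) (Lpr_dt (K39.f172497 IH) (Lpe (f383913 IH) (Lpr_df (K44.f383899 IH) (Lpe (K39.f383855 IH) (Lpe (f383812 IH) (Lpe (f174698 IH) (Lpe (f174680 IH) (Lpn (LP (LK LD1_c5 LD2_c44 LD3_c34))))))))))))
theorem f563761 : Led Lsl_df (LP (LK LD1_c5 LD2_c44 LD3_c34)) = (LP (LK LD1_c2 LD2_c49 LD3_c27)) :=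
  Lgr Lrot153 (Lpe (f495872 IH) (Lpe (K39.f495868 IH) (Lpr_cf (K30.f495865 IH) (Lpqs (K39.f555957 IH) (Lpe (f549444 IH) (Lpe (K40.f558410 IH) (Lpe (K40.f80293 IH) (Lpr_gf (K40.f561718 IH) (Lpe (K40.f562151 IH) (Lpr_gt (K40.f563759 IH) (Lpn (LP (LK LD1_c2 LD2_c49 LD3_c27)))))))))))))
theorem f174713 : Led Lsl_et (LP (LK LD1_c5 LD2_c44 LD3_c34)) = (LP (LK LD1_c11 LD2_c19 LD3_c13)) :=
  Lre_e IH (LK LD1_c5 LD2_c44 LD3_c34) (LK LD1_c11 LD2_c19 LD3_c13) Lrfl Lrfl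
theorem f597888 : Led Lsl_df (LP (LK LD1_c10 LD2_c18 LD3_c19)) = (LP (LK LD1_c11 LD2_c19 LD3_c13)) :=
  Lgr Lrot70 (Lpr_et (f387103 IH) (Lpr_dt (f597881 IH) (Lpr_et (K40.f563773 IH) (Lpe (f563761 IH) (Lpr_et (f174713 IH) (Lpn (LP (LK LD1_c11 LD2_c19 LD3_c13))))))))
theorem f597896 : Led Lsl_dt (LP (LK LD1_c10 LD2_c18 LD3_c19)) = (LP (LK LD1_c11 LD2_c19 LD3_c13)) :=
  Lgr Lrot42 (Lpr_df (f597888 IH) (Lpn (LP (LK LD1_c11 LD2_c19 LD3_c13))))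
theorem f597883 : Led Lsl_et (LP (LK LD1_c5 LD2_c14 LD3_c15)) = (LP (LK LD1_c10 LD2_c18 LD3_c19)) :=
  Lre_e IH (LK LD1_c5 LD2_c14 LD3_c15) (LK LD1_c10 LD2_c18 LD3_c19) Lrfl Lrfl
theorem f387294 : Led Lsl_et (LP (LK LD1_c10 LD2_c4 LD3_c46)) = (LP (LK LD1_c5 LD2_c7 LD3_c3)) :=
  Lre_e IH (LK LD1_c10 LD2_c4 LD3_c46) (LK LD1_c5 LD2_c7 LD3_c3) Lrfl Lrfl
theorem f597884 : Led Lsl_at (LP (LK LD1_c10 LD2_c18 LD3_c19)) = (LP (LK LD1_c10 LD2_c4 LD3_c46)) :=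
  Lgr Lrot80 (Lpe (f597883 IH) (Lpr_af (f597873 IH) (Lpe (f387294 IH) (Lpn (LP (LK LD1_c10 LD2_c4 LD3_c46))))))
theorem f597886 : Led Lsl_af (LP (LK LD1_c10 LD2_c18 LD3_c19)) = (LP (LK LD1_c10 LD2_c4 LD3_c46)) :=
  Lgr Lrot0 (Lpr_at (f597884 IH) (Lpn (LP (LK LD1_c10 LD2_c4 LD3_c46))))
theorem f541691 : Led Lsl_dt (LP (LK LD1_c18 LD2_c23 LD3_c26)) = (LP (LK LD1_c10 LD2_c4 LD3_c46)) :=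
  Lre_d IH (LK LD1_c18 LD2_c23 LD3_c26) (LK LD1_c10 LD2_c4 LD3_c46) Lrfl Lrfl
theorem f597898 : Led Lsl_af (LP (LK LD1_c18 LD2_c23 LD3_c26)) = (LP (LK LD1_c11 LD2_c19 LD3_c13)) :=
  Lgr Lrot117 (Lpr_dt (f541691 IH) (Lpe (f597886 IH) (Lpr_dt (f597896 IH) (Lpn (LP (LK LD1_c11 LD2_c19 LD3_c13))))))
theorem f541684 : Led Lsl_et (LP (LK LD1_c5 LD2_c7 LD3_c3)) = (LP (LK LD1_c10 LD2_c4 LD3_c46)) :=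
  Lre_e IH (LK LD1_c5 LD2_c7 LD3_c3) (LK LD1_c10 LD2_c4 LD3_c46) Lrfl Lrfl
theorem f387295 : Led Lsl_dt (LP (LK LD1_c10 LD2_c4 LD3_c46)) = (LP (LK LD1_c18 LD2_c23 LD3_c26)) :=
  Lre_d IH (LK LD1_c10 LD2_c4 LD3_c46) (LK LD1_c18 LD2_c23 LD3_c26) Lrfl Lrfl
theorem f541685 : Led Lsl_et (LP (LK LD1_c18 LD2_c23 LD3_c26)) = (LP (LK LD1_c11 LD2_c6 LD3_c36)) :=
  Lgr Lrot71 (Lpe (f387295 IH) (Lpe (f541684 IH) (Lpr_df (K39.f541678 IH) (Lpe (K36.f427540 IH) (Lpe (K35.f383972 IH) (Lpn (LP (LK LD1_c11 LD2_c6 LD3_c36))))))))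
theorem f541689 : Led Lsl_ef (LP (LK LD1_c18 LD2_c23 LD3_c26)) = (LP (LK LD1_c11 LD2_c6 LD3_c36)) :=
  Lgr Lrot88 (Lpr_et (f541685 IH) (Lpn (LP (LK LD1_c11 LD2_c6 LD3_c36))))
theorem f383980 : Led Lsl_et (LP (LK LD1_c11 LD2_c18 LD3_c6)) = (LP (LK LD1_c5 LD2_c44 LD3_c3)) :=
  Lre_e IH (LK LD1_c11 LD2_c18 LD3_c6) (LK LD1_c5 LD2_c44 LD3_c3) Lrfl Lrfl
theorem f541693 : Led Lsl_ct (LP (LK LD1_c18 LD2_c23 LD3_c26)) = (LP (LK LD1_c11 LD2_c18 LD3_c6)) :=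
  Lgr Lrot15 (Lpr_ef (f541689 IH) (Lpe (K40.f383973 IH) (Lpe (f383980 IH) (Lpn (LP (LK LD1_c11 LD2_c18 LD3_c6))))))
theorem f597894 : Led Lsl_ct (LP (LK LD1_c5 LD2_c44 LD3_c36)) = (LP (LK LD1_c11 LD2_c19 LD3_c13)) :=
  Lre_c IH (LK LD1_c5 LD2_c44 LD3_c36) (LK LD1_c11 LD2_c19 LD3_c13) Lrfl Lrfl
theorem f597902 : Led Lsl_at (LP (LK LD1_c11 LD2_c18 LD3_c6)) = (LP (LK LD1_c5 LD2_c44 LD3_c36)) :=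
  Lgr Lrot107 (Lpe (f541693 IH) (Lpr_af (f597898 IH) (Lpe (f597894 IH) (Lpn (LP (LK LD1_c5 LD2_c44 LD3_c36))))))
theorem f383985 : Led Lsl_et (LP (LK LD1_c5 LD2_c44 LD3_c3)) = (LP (LK LD1_c11 LD2_c18 LD3_c6)) :=
  Lre_e IH (LK LD1_c5 LD2_c44 LD3_c3) (LK LD1_c11 LD2_c18 LD3_c6) Lrfl Lrfl
theorem f383909 : Led Lsl_et (LP (LK LD1_c5 LD2_c44 LD3_c36)) = (LP (LK LD1_c2 LD2_c48 LD3_c10)) :=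
  Lre_e IH (LK LD1_c5 LD2_c44 LD3_c36) (LK LD1_c2 LD2_c48 LD3_c10) Lrfl Lrfl
theorem f597906 : Led Lsl_af (LP (LK LD1_c5 LD2_c44 LD3_c3)) = (LP (LK LD1_c2 LD2_c48 LD3_c10)) :=
  Lgr Lrot50 (Lpr_et (f383985 IH) (Lpr_at (f597902 IH) (Lpr_et (f383909 IH) (Lpn (LP (LK LD1_c2 LD2_c48 LD3_c10))))))
theorem f597914 : Led Lsl_ft (LP (LK LD1_c5 LD2_c44 LD3_c2)) = (LP (LK LD1_c2 LD2_c48 LD3_c10)) :=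
  Lgr Lrot2 (Lpr_gt (K39.f174520 IH) (Lpr_gt (K40.f174860 IH) (Lpr_af (f597906 IH) (Lpn (LP (LK LD1_c2 LD2_c48 LD3_c10))))))
theorem f310108 : Led Lsl_dt (LP (LK LD1_c11 LD2_c18 LD3_c2)) = (LP (LK LD1_c5 LD2_c44 LD3_c2)) :=
  Lre_d IH (LK LD1_c11 LD2_c18 LD3_c2) (LK LD1_c5 LD2_c44 LD3_c2) Lrfl Lrfl
theorem f597918 : Led Lsl_ff (LP (LK LD1_c11 LD2_c18 LD3_c2)) = (LP (LK LD1_c5 LD2_c44 LD3_c35)) :=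
  Lgr Lrot19 (Lpr_dt (f310108 IH) (Lpr_ft (f597914 IH) (Lpr_dt (f383884 IH) (Lpn (LP (LK LD1_c5 LD2_c44 LD3_c35))))))
def v12508 : LQ := Led Lsl_ct (LP (LK LD1_c4 LD2_c13 LD3_c16))
theorem f692520 : Led Lsl_ct (LP (LK LD1_c4 LD2_c13 LD3_c16)) = v12508 :=
  Lrfl
theorem f692521 : Led Lsl_cf (LP (LK LD1_c4 LD2_c13 LD3_c16)) = v12508 :=
  Lgr Lrot11 (Lpr_ct (f692520 IH) (Lpn v12508))
theorem f178329 : Led Lsl_gt (LP (LK LD1_c2 LD2_c3 LD3_c55)) = (LP (LK LD1_c4 LD2_c13 LD3_c16)) :=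
  Lre_g IH (LK LD1_c2 LD2_c3 LD3_c55) (LK LD1_c4 LD2_c13 LD3_c16) Lrfl Lrfl
theorem f178346 : Led Lsl_ct (LP (LK LD1_c4 LD2_c13 LD3_c8)) = (LP (LK LD1_c2 LD2_c3 LD3_c55)) :=
  Lre_c IH (LK LD1_c4 LD2_c13 LD3_c8) (LK LD1_c2 LD2_c3 LD3_c55) Lrfl Lrfl
theorem f691891 : Led Lsl_bt (LP (LK LD1_c15 LD2_c49 LD3_c46)) = (LP (LK LD1_c8 LD2_c25 LD3_c31)) :=
  Lre_b IH (LK LD1_c15 LD2_c49 LD3_c46) (LK LD1_c8 LD2_c25 LD3_c31) Lrfl Lrfl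
theorem f404644 : Led Lsl_gt (LP (LK LD1_c25 LD2_c39 LD3_c26)) = (LP (LK LD1_c15 LD2_c43 LD3_c13)) :=
  Lre_g IH (LK LD1_c25 LD2_c39 LD3_c26) (LK LD1_c15 LD2_c43 LD3_c13) Lrfl Lrfl
theorem f222463 : Led Lsl_bt (LP (LK LD1_c2 LD2_c3 LD3_c50)) = (LP (LK LD1_c4 LD2_c13 LD3_c8)) :=
  Lre_b IH (LK LD1_c2 LD2_c3 LD3_c50) (LK LD1_c4 LD2_c13 LD3_c8) Lrfl Lrfl
theorem f691894 : Led Lsl_ct (LP (LK LD1_c15 LD2_c49 LD3_c21)) = (LP (LK LD1_c25 LD2_c39 LD3_c26)) :=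
  Lgr Lrot91 (Lpe (K27.f178810 IH) (Lpe (K27.f178807 IH) (Lpr_ct (K16.f178760 IH) (Lpe (K14.f178507 IH) (Lpe (K19.f178312 IH) (Lpr_bt (f222463 IH) (Lpe (K49.f178349 IH) (Lpe (f691891 IH) (Lpr_ct (K49.f691887 IH) (Lpe (f404644 IH) (Lpn (LP (LK LD1_c25 LD2_c39 LD3_c26)))))))))))))
theorem f174279 : Led Lsl_dt (LP (LK LD1_c11 LD2_c14 LD3_c31)) = (LP (LK LD1_c5 LD2_c42 LD3_c8)) :=
  Lre_d IH (LK LD1_c11 LD2_c14 LD3_c31) (LK LD1_c5 LD2_c42 LD3_c8) Lrfl Lrfl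
theorem f255978 : Led Lsl_bf (LP (LK LD1_c11 LD2_c14 LD3_c31)) = (LP (LK LD1_c15 LD2_c49 LD3_c21)) :=
  Lgr Lrot93 (Lpr_dt (f174279 IH) (Lpe (K27.f174145 IH) (Lpr_dt (K31.f255939 IH) (Lpn (LP (LK LD1_c15 LD2_c49 LD3_c21))))))
theorem f310106 : Led Lsl_dt (LP (LK LD1_c5 LD2_c44 LD3_c2)) = (LP (LK LD1_c11 LD2_c18 LD3_c2)) :=
  Lre_d IH (LK LD1_c5 LD2_c44 LD3_c2) (LK LD1_c11 LD2_c18 LD3_c2) Lrfl Lrfl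
theorem f383991 : Led Lsl_gt (LP (LK LD1_c11 LD2_c18 LD3_c2)) = (LP (LK LD1_c11 LD2_c14 LD3_c31)) :=
  Lgr Lrot49 (Lpe (f310106 IH) (Lpe (K38.f172373 IH) (Lpe (K38.f172372 IH) (Lpr_gt (K39.f382408 IH) (Lpr_dt (K27.f383970 IH) (Lpr_gt (K27.f178970 IH) (Lpr_dt (K17.f178880 IH) (Lpe (K27.f174272 IH) (Lpe (f174279 IH) (Lpn (LP (LK LD1_c11 LD2_c14 LD3_c31))))))))))))
theorem f692522 : Led Lsl_bf (LP (LK LD1_c11 LD2_c18 LD3_c2)) = v12508 :=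
  Lgr Lrot156 (Lpr_gt (f383991 IH) (Lpr_bf (f255978 IH) (Lpr_ct (f691894 IH) (Lpr_gt (f404644 IH) (Lpe (K49.f691887 IH) (Lpr_bt (f691891 IH) (Lpr_gt (K49.f178349 IH) (Lpr_ct (f178346 IH) (Lpr_gt (f178329 IH) (Lpr_cf (f692521 IH) (Lpn v12508)))))))))))
theorem f692523 : Led Lsl_bt (LP (LK LD1_c11 LD2_c18 LD3_c2)) = v12508 :=
  Lgr Lrot127 (Lpr_bf (f692522 IH) (Lpn v12508))
theorem f694839 : Led Lsl_ft v12508 = (LP (LK LD1_c8 LD2_c36 LD3_c36)) :=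
  Lgr Lrot75 (Lpe (f692523 IH) (Lpr_ff (f597918 IH) (Lpr_bf (f694827 IH) (Lpn (LP (LK LD1_c8 LD2_c36 LD3_c36))))))
def v12510 : LQ := Led Lsl_ft (LP (LK LD1_c4 LD2_c13 LD3_c16))
theorem f692530 : Led Lsl_ft (LP (LK LD1_c4 LD2_c13 LD3_c16)) = v12510 :=
  Lrfl
theorem f692532 : Led Lsl_ff (LP (LK LD1_c4 LD2_c13 LD3_c16)) = v12510 :=
  Lgr Lrot3 (Lpr_ft (f692530 IH) (Lpn v12510))
theorem f694843 : v12510 = (LP (LK LD1_c4 LD2_c19 LD3_c0)) :=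
  (Llr Lrot23 (Lpe (f692532 IH) (Lpr_ct (f692520 IH) (Lpr_ft (f694839 IH) (Lpr_ct (f304806 IH) (Lpn (LP (LK LD1_c4 LD2_c19 LD3_c0)))))))).symm
theorem f694844 : Led Lsl_ft (LP (LK LD1_c4 LD2_c19 LD3_c0)) = (LP (LK LD1_c4 LD2_c13 LD3_c16)) :=
  Leop (Lpr_ff (f692532 IH) (Lpqs (f694843 IH) (Lpn (LP (LK LD1_c4 LD2_c19 LD3_c0)))))
theorem seed_623 : LEOK LG_f (LK LD1_c4 LD2_c19 LD3_c0) :=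
  Leoe_f (LK LD1_c4 LD2_c19 LD3_c0) (f694844 IH)
def v12507 : LQ := Led Lsl_at (LP (LK LD1_c4 LD2_c13 LD3_c16))
theorem f692515 : Led Lsl_at (LP (LK LD1_c4 LD2_c13 LD3_c16)) = v12507 :=
  Lrfl
theorem f692516 : Led Lsl_af (LP (LK LD1_c4 LD2_c13 LD3_c16)) = v12507 :=
  Lgr Lrot0 (Lpr_at (f692515 IH) (Lpn v12507))
theorem f178318 : Led Lsl_gt (LP (LK LD1_c4 LD2_c13 LD3_c17)) = (LP (LK LD1_c2 LD2_c3 LD3_c55)) :=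
  Lre_g IH (LK LD1_c4 LD2_c13 LD3_c17) (LK LD1_c2 LD2_c3 LD3_c55) Lrfl Lrfl
theorem f692517 : Led Lsl_ft (LP (LK LD1_c4 LD2_c13 LD3_c17)) = v12507 :=
  Lgr Lrot2 (Lpr_gt (f178318 IH) (Lpr_gt (f178329 IH) (Lpr_af (f692516 IH) (Lpn v12507))))
theorem f692518 : Led Lsl_ff (LP (LK LD1_c4 LD2_c13 LD3_c17)) = v12507 :=
  Lgr Lrot3 (Lpr_ft (f692517 IH) (Lpn v12507))
theorem f692533 : Led Lsl_at (LP (LK LD1_c4 LD2_c13 LD3_c17)) = v12510 :=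
  Lgr Lrot66 (Lpr_ff (f692518 IH) (Lpe (f692515 IH) (Lpr_ff (f692532 IH) (Lpn v12510))))
theorem f694847 : Led Lsl_at (LP (LK LD1_c4 LD2_c13 LD3_c17)) = (LP (LK LD1_c4 LD2_c19 LD3_c0)) :=
  Leop (Lpq (f694843 IH) (Lpe (f692533 IH) (Lpn (LP (LK LD1_c4 LD2_c13 LD3_c17)))))
theorem seed_624 : LEOK LG_a (LK LD1_c4 LD2_c13 LD3_c17) :=
  Leoe_a (LK LD1_c4 LD2_c13 LD3_c17) (f694847 IH)
theorem f178330 : Led Lsl_bt (LP (LK LD1_c8 LD2_c25 LD3_c42)) = (LP (LK LD1_c4 LD2_c13 LD3_c16)) :=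
  Lre_b IH (LK LD1_c8 LD2_c25 LD3_c42) (LK LD1_c4 LD2_c13 LD3_c16) Lrfl Lrfl
theorem f694861 : Led Lsl_ff (LP (LK LD1_c8 LD2_c25 LD3_c42)) = v12626 :=
  Lgr Lrot25 (Lpr_bt (f178330 IH) (Lpr_ft (f692530 IH) (Lpqs (f694843 IH) (Lpr_bt (f694821 IH) (Lpn v12626)))))
theorem f170257 : Led Lsl_gt (LP (LK LD1_c8 LD2_c33 LD3_c6)) = (LP (LK LD1_c4 LD2_c16 LD3_c53)) :=
  Lre_g IH (LK LD1_c8 LD2_c33 LD3_c6) (LK LD1_c4 LD2_c16 LD3_c53) Lrfl Lrfl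
theorem f178331 : Led Lsl_cf (LP (LK LD1_c8 LD2_c33 LD3_c6)) = (LP (LK LD1_c8 LD2_c25 LD3_c42)) :=
  Lgr Lrot160 (Lpr_gt (f170257 IH) (Lpe (f170171 IH) (Lpr_bt (K27.f170157 IH) (Lpe (K9.f178323 IH) (Lpr_ct (K9.f166481 IH) (Lpr_gt (K9.f178305 IH) (Lpe (K9.f51581 IH) (Lpr_bt (K19.f178317 IH) (Lpr_gt (f178329 IH) (Lpe (f178330 IH) (Lpn (LP (LK LD1_c8 LD2_c25 LD3_c42)))))))))))))
theorem f694862 : Led Lsl_ft (LP (LK LD1_c8 LD2_c33 LD3_c6)) = (LP (LK LD1_c8 LD2_c21 LD3_c25)) :=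
  Lgr Lrot4 (Lpr_cf (f178331 IH) (Lpr_ff (f694861 IH) (Lpe (f694826 IH) (Lpn (LP (LK LD1_c8 LD2_c21 LD3_c25))))))
theorem f694863 : Led Lsl_ft (LP (LK LD1_c8 LD2_c33 LD3_c6)) = (LP (LK LD1_c8 LD2_c21 LD3_c25)) :=
  Leop (Lpe (f694862 IH) (Lpn (LP (LK LD1_c8 LD2_c33 LD3_c6))))
theorem seed_625 : LEOK LG_f (LK LD1_c8 LD2_c33 LD3_c6) :=
  Leoe_f (LK LD1_c8 LD2_c33 LD3_c6) (f694863 IH)
def v12630 : LQ := Led Lsl_at (LP (LK LD1_c4 LD2_c19 LD3_c35))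
theorem f694940 : Led Lsl_at (LP (LK LD1_c4 LD2_c19 LD3_c35)) = v12630 :=
  Lrfl
theorem f260865 : Led Lsl_bt (LP (LK LD1_c4 LD2_c19 LD3_c35)) = (LP (LK LD1_c2 LD2_c7 LD3_c11)) :=
  Lre_b IH (LK LD1_c4 LD2_c19 LD3_c35) (LK LD1_c2 LD2_c7 LD3_c11) Lrfl Lrfl
theorem f189447 : Led Lsl_bt (LP (LK LD1_c2 LD2_c3 LD3_c25)) = (LP (LK LD1_c4 LD2_c12 LD3_c26)) :=
  Lre_b IH (LK LD1_c2 LD2_c3 LD3_c25) (LK LD1_c4 LD2_c12 LD3_c26) Lrfl Lrfl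
theorem f267117 : Led Lsl_ff (LP (LK LD1_c4 LD2_c19 LD3_c35)) = (LP (LK LD1_c4 LD2_c12 LD3_c26)) :=
  Lgr Lrot25 (Lpr_bt (f260865 IH) (Lpr_ft (K15.f267107 IH) (Lpr_bt (f189447 IH) (Lpn (LP (LK LD1_c4 LD2_c12 LD3_c26))))))
def v12487 : LQ := Led Lsl_at (LP (LK LD1_c4 LD2_c12 LD3_c26))
theorem f692413 : Led Lsl_at (LP (LK LD1_c4 LD2_c12 LD3_c26)) = v12487 :=
  Lrfl
theorem f692414 : Led Lsl_af (LP (LK LD1_c4 LD2_c12 LD3_c26)) = v12487 :=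
  Lgr Lrot0 (Lpr_at (f692413 IH) (Lpn v12487))
theorem f694943 : Led Lsl_ff v12487 = v12630 :=
  Lgr Lrot30 (Lpe (f692414 IH) (Lpe (f267117 IH) (Lpr_at (f694940 IH) (Lpn v12630))))
theorem f694947 : Led Lsl_gf (LP (LK LD1_c8 LD2_c24 LD3_c30)) = v12630 :=
  Lgr Lrot47 (Lpr_gt (K49.f178844 IH) (Lpr_af (f692414 IH) (Lpr_ff (f694943 IH) (Lpn v12630))))
theorem f692056 : Led Lsl_dt (LP (LK LD1_c8 LD2_c24 LD3_c30)) = (LP (LK LD1_c15 LD2_c48 LD3_c29)) :=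
  Lre_d IH (LK LD1_c8 LD2_c24 LD3_c30) (LK LD1_c15 LD2_c48 LD3_c29) Lrfl Lrfl
theorem f692415 : Led Lsl_cf v4107 = v12487 :=
  Lgr Lrot1 (Lpe (f629458 IH) (Lpr_ct (K49.f167089 IH) (Lpr_at (f692413 IH) (Lpn v12487))))
theorem f631432 : Led Lsl_ft v4107 = v4143 :=
  Lgr Lrot48 (Lpr_ff (f631429 IH) (Lpn v4143))
theorem f694945 : Led Lsl_ct v4143 = v12630 :=
  Lgr Lrot40 (Lpe (f631432 IH) (Lpr_cf (f692415 IH) (Lpr_ff (f694943 IH) (Lpn v12630))))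
theorem f631433 : Led Lsl_gf (LP (LK LD1_c4 LD2_c12 LD3_c47)) = v4143 :=
  Lgr Lrot47 (Lpr_gt (K49.f237201 IH) (Lpr_af (f629458 IH) (Lpr_ff (f631429 IH) (Lpn v4143))))
def v12502 : LQ := Led Lsl_dt (LP (LK LD1_c4 LD2_c12 LD3_c47))
theorem f692495 : Led Lsl_dt (LP (LK LD1_c4 LD2_c12 LD3_c47)) = v12502 :=
  Lrfl
theorem f406089 : Led Lsl_ft (LP (LK LD1_c2 LD2_c2 LD3_c42)) = (LP (LK LD1_c2 LD2_c5 LD3_c53)) :=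
  Lgr Lrot101 (Lpe (f170906 IH) (Lpr_ff (f406087 IH) (Lpe (f170240 IH) (Lpn (LP (LK LD1_c2 LD2_c5 LD3_c53))))))
theorem f406173 : Led Lsl_gt (LP (LK LD1_c4 LD2_c10 LD3_c53)) = (LP (LK LD1_c4 LD2_c17 LD3_c9)) :=
  Lgr Lrot46 (Lpe (K49.f53463 IH) (Lpr_ft (f406089 IH) (Lpr_at (f170240 IH) (Lpn (LP (LK LD1_c4 LD2_c17 LD3_c9))))))
theorem f170193 : Led Lsl_ct (LP (LK LD1_c8 LD2_c33 LD3_c56)) = (LP (LK LD1_c8 LD2_c25 LD3_c0)) :=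
  Lgr Lrot59 (Lpr_cf (f170187 IH) (Lpn (LP (LK LD1_c8 LD2_c25 LD3_c0))))
theorem f694830 : Led Lsl_df (LP (LK LD1_c8 LD2_c25 LD3_c0)) = v12626 :=
  Lgr Lrot162 (Lpe (f170193 IH) (Lpe (f404618 IH) (Lpe (f171024 IH) (Lpr_gf (f404640 IH) (Lpr_dt (f382737 IH) (Lpr_gt (f406173 IH) (Lpr_ct (f170276 IH) (Lpe (f406115 IH) (Lpr_ct (f694826 IH) (Lpn v12626))))))))))
def v12498 : LQ := Led Lsl_dt (LP (LK LD1_c4 LD2_c12 LD3_c46))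
theorem f692485 : Led Lsl_dt (LP (LK LD1_c4 LD2_c12 LD3_c46)) = v12498 :=
  Lrfl
theorem f694831 : v12498 = (LP (LK LD1_c4 LD2_c19 LD3_c0)) :=
  (Llr Lrot79 (Lpe (f692485 IH) (Lpe (f170186 IH) (Lpr_df (f694830 IH) (Lpe (f694821 IH) (Lpn (LP (LK LD1_c4 LD2_c19 LD3_c0)))))))).symm
def v12496 : LQ := Led Lsl_at (LP (LK LD1_c4 LD2_c12 LD3_c46))
theorem f692478 : Led Lsl_at (LP (LK LD1_c4 LD2_c12 LD3_c46)) = v12496 :=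
  Lrfl
theorem f692479 : Led Lsl_af (LP (LK LD1_c4 LD2_c12 LD3_c46)) = v12496 :=
  Lgr Lrot0 (Lpr_at (f692478 IH) (Lpn v12496))
def v12625 : LQ := Led Lsl_at (LP (LK LD1_c4 LD2_c19 LD3_c0))
theorem f694817 : Led Lsl_at (LP (LK LD1_c4 LD2_c19 LD3_c0)) = v12625 :=
  Lrfl
theorem f694834 : Led Lsl_df v12496 = v12625 :=
  Lgr Lrot18 (Lpe (f692479 IH) (Lpr_dt (f692485 IH) (Lpqs (f694831 IH) (Lpr_at (f694817 IH) (Lpn v12625)))))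
theorem f692480 : Led Lsl_ft (LP (LK LD1_c4 LD2_c12 LD3_c47)) = v12496 :=
  Lgr Lrot2 (Lpr_gt (K49.f237201 IH) (Lpr_gt (f166575 IH) (Lpr_af (f692479 IH) (Lpn v12496))))
theorem f692481 : Led Lsl_ff (LP (LK LD1_c4 LD2_c12 LD3_c47)) = v12496 :=
  Lgr Lrot3 (Lpr_ft (f692480 IH) (Lpn v12496))
theorem f694818 : Led Lsl_af (LP (LK LD1_c4 LD2_c19 LD3_c0)) = v12625 :=
  Lgr Lrot0 (Lpr_at (f694817 IH) (Lpn v12625))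
def v4136 : LQ := Led Lsl_gf (LP (LK LD1_c2 LD2_c6 LD3_c48))
theorem f631390 : Led Lsl_gf (LP (LK LD1_c2 LD2_c6 LD3_c48)) = v4136 :=
  Lrfl
theorem f694819 : Led Lsl_ft v4136 = v12625 :=
  Lgr Lrot2 (Lpe (f631390 IH) (Lpr_gt (f171197 IH) (Lpr_af (f694818 IH) (Lpn v12625))))
theorem f694836 : v12502 = v4136 :=
  (Llr Lrot60 (Lpe (f692495 IH) (Lpr_ff (f692481 IH) (Lpr_df (f694834 IH) (Lpe (f694819 IH) (Lpn v4136)))))).symm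
theorem f52233 : Led Lsl_dt (LP (LK LD1_c8 LD2_c35 LD3_c31)) = (LP (LK LD1_c4 LD2_c18 LD3_c22)) :=
  Lre_d IH (LK LD1_c8 LD2_c35 LD3_c31) (LK LD1_c4 LD2_c18 LD3_c22) Lrfl Lrfl
theorem f694948 : Led Lsl_gt (LP (LK LD1_c15 LD2_c48 LD3_c29)) = (LP (LK LD1_c8 LD2_c35 LD3_c31)) :=
  Lgr Lrot49 (Lpe (f692056 IH) (Lpr_gf (f694947 IH) (Lpe (f694945 IH) (Lpe (f631433 IH) (Lpr_dt (f692495 IH) (Lpqs (f694836 IH) (Lpe (f631390 IH) (Lpr_dt (K19.f237787 IH) (Lpe (f52232 IH) (Lpe (f52233 IH) (Lpn (LP (LK LD1_c8 LD2_c35 LD3_c31)))))))))))))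
theorem f694949 : Led Lsl_gt (LP (LK LD1_c15 LD2_c48 LD3_c29)) = (LP (LK LD1_c8 LD2_c35 LD3_c31)) :=
  Leop (Lpe (f694948 IH) (Lpn (LP (LK LD1_c15 LD2_c48 LD3_c29))))
theorem seed_626 : LEOK LG_g (LK LD1_c15 LD2_c48 LD3_c29) :=
  Leoe_g (LK LD1_c15 LD2_c48 LD3_c29) (f694949 IH)
def v12638 : LQ := Led Lsl_at (LP (LK LD1_c4 LD2_c21 LD3_c59))
theorem f694991 : Led Lsl_at (LP (LK LD1_c4 LD2_c21 LD3_c59)) = v12638 :=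
  Lrfl
theorem f694992 : Led Lsl_af (LP (LK LD1_c4 LD2_c21 LD3_c59)) = v12638 :=
  Lgr Lrot0 (Lpr_at (f694991 IH) (Lpn v12638))
theorem f694993 : Led Lsl_ft (LP (LK LD1_c4 LD2_c21 LD3_c60)) = v12638 :=
  Lgr Lrot2 (Lpr_gt (K20.f216783 IH) (Lpr_gt (K21.f216787 IH) (Lpr_af (f694992 IH) (Lpn v12638))))
theorem f694995 : Led Lsl_ff (LP (LK LD1_c4 LD2_c21 LD3_c60)) = v12638 :=
  Lgr Lrot3 (Lpr_ft (f694993 IH) (Lpn v12638))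
def v12575 : LQ := Led Lsl_at (LP (LK LD1_c4 LD2_c18 LD3_c5))
theorem f693618 : Led Lsl_at (LP (LK LD1_c4 LD2_c18 LD3_c5)) = v12575 :=
  Lrfl
theorem f693619 : Led Lsl_af (LP (LK LD1_c4 LD2_c18 LD3_c5)) = v12575 :=
  Lgr Lrot0 (Lpr_at (f693618 IH) (Lpn v12575))
theorem f693620 : Led Lsl_ft (LP (LK LD1_c4 LD2_c18 LD3_c6)) = v12575 :=
  Lgr Lrot2 (Lpr_gt (K20.f167524 IH) (Lpr_gt (K20.f167512 IH) (Lpr_af (f693619 IH) (Lpn v12575))))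
theorem f694996 : Led Lsl_bt v12575 = v12638 :=
  Lgr Lrot35 (Lpe (f693620 IH) (Lpr_bf (K20.f321626 IH) (Lpr_ff (f694995 IH) (Lpn v12638))))
theorem f694997 : Led Lsl_af (LP (LK LD1_c8 LD2_c35 LD3_c7)) = (LP (LK LD1_c8 LD2_c19 LD3_c0)) :=
  Lgr Lrot36 (Lpr_bt (K26.f302856 IH) (Lpr_at (f693618 IH) (Lpr_bt (f694996 IH) (Lpe (f694992 IH) (Lpr_bt (K24.f341758 IH) (Lpn (LP (LK LD1_c8 LD2_c19 LD3_c0))))))))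
theorem f694998 : Led Lsl_at (LP (LK LD1_c8 LD2_c19 LD3_c0)) = (LP (LK LD1_c8 LD2_c35 LD3_c7)) :=
  Leop (Lpr_af (f694997 IH) (Lpn (LP (LK LD1_c8 LD2_c19 LD3_c0))))
theorem seed_627 : LEOK LG_a (LK LD1_c8 LD2_c19 LD3_c0) :=
  Leoe_a (LK LD1_c8 LD2_c19 LD3_c0) (f694998 IH)
def v12685 : LQ := Led Lsl_at (LP (LK LD1_c4 LD2_c26 LD3_c50))
theorem f696782 : Led Lsl_at (LP (LK LD1_c4 LD2_c26 LD3_c50)) = v12685 :=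
  Lrfl
theorem f617217 : Led Lsl_ft (LP (LK LD1_c8 LD2_c51 LD3_c25)) = (LP (LK LD1_c4 LD2_c26 LD3_c50)) :=
  Lre_f IH (LK LD1_c8 LD2_c51 LD3_c25) (LK LD1_c4 LD2_c26 LD3_c50) Lrfl Lrfl
theorem f70252 : Led Lsl_et (LP (LK LD1_c4 LD2_c24 LD3_c24)) = (LP (LK LD1_c8 LD2_c46 LD3_c29)) :=
  Lre_e IH (LK LD1_c4 LD2_c24 LD3_c24) (LK LD1_c8 LD2_c46 LD3_c29) Lrfl Lrfl
theorem f561098 : Led Lsl_cf (LP (LK LD1_c14 LD2_c59 LD3_c30)) = (LP (LK LD1_c8 LD2_c46 LD3_c29)) :=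
  Lgr Lrot39 (Lpr_et (K40.f70197 IH) (Lpr_ct (K40.f561093 IH) (Lpr_et (f70252 IH) (Lpn (LP (LK LD1_c8 LD2_c46 LD3_c29))))))
theorem f35311 : Led Lsl_ct (LP (LK LD1_c16 LD2_c11 LD3_c0)) = (LP (LK LD1_c8 LD2_c38 LD3_c28)) :=
  Lre_c IH (LK LD1_c16 LD2_c11 LD3_c0) (LK LD1_c8 LD2_c38 LD3_c28) Lrfl Lrfl
theorem f35313 : Led Lsl_ct (LP (LK LD1_c8 LD2_c38 LD3_c28)) = (LP (LK LD1_c16 LD2_c11 LD3_c0)) :=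
  Lre_c IH (LK LD1_c8 LD2_c38 LD3_c28) (LK LD1_c16 LD2_c11 LD3_c0) Lrfl Lrfl
theorem f59378 : Led Lsl_ct (LP (LK LD1_c14 LD2_c59 LD3_c53)) = (LP (LK LD1_c7 LD2_c57 LD3_c2)) :=
  Lre_c IH (LK LD1_c14 LD2_c59 LD3_c53) (LK LD1_c7 LD2_c57 LD3_c2) Lrfl Lrfl
theorem f445071 : Led Lsl_gt (LP (LK LD1_c16 LD2_c11 LD3_c0)) = (LP (LK LD1_c14 LD2_c59 LD3_c53)) :=
  Lgr Lrot150 (Lpe (f35313 IH) (Lpe (K40.f443111 IH) (Lpr_df (K1.f36079 IH) (Lpe (K40.f36172 IH) (Lpr_ct (K41.f445058 IH) (Lpr_gt (K40.f37387 IH) (Lpe (K6.f37450 IH) (Lpe (K6.f59373 IH) (Lpe (f59378 IH) (Lpn (LP (LK LD1_c14 LD2_c59 LD3_c53))))))))))))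
theorem f418290 : Led Lsl_ef (LP (LK LD1_c16 LD2_c13 LD3_c21)) = (LP (LK LD1_c16 LD2_c28 LD3_c1)) :=
  Lgr Lrot88 (Lpr_et (K45.f418286 IH) (Lpn (LP (LK LD1_c16 LD2_c28 LD3_c1))))
theorem f31367 : Led Lsl_at (LP (LK LD1_c16 LD2_c12 LD3_c48)) = (LP (LK LD1_c16 LD2_c13 LD3_c21)) :=
  Lgr Lrot66 (Lpe (K11.f31365 IH) (Lpr_af (K45.f31358 IH) (Lpe (K45.f31366 IH) (Lpn (LP (LK LD1_c16 LD2_c13 LD3_c21))))))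
theorem f31376 : Led Lsl_af (LP (LK LD1_c16 LD2_c12 LD3_c48)) = (LP (LK LD1_c16 LD2_c13 LD3_c21)) :=
  Lgr Lrot0 (Lpr_at (f31367 IH) (Lpn (LP (LK LD1_c16 LD2_c13 LD3_c21))))
theorem f31392 : Led Lsl_et (LP (LK LD1_c4 LD2_c20 LD3_c50)) = (LP (LK LD1_c8 LD2_c39 LD3_c23)) :=
  Lre_e IH (LK LD1_c4 LD2_c20 LD3_c50) (LK LD1_c8 LD2_c39 LD3_c23) Lrfl Lrfl
theorem f36963 : Led Lsl_et (LP (LK LD1_c14 LD2_c59 LD3_c53)) = (LP (LK LD1_c7 LD2_c57 LD3_c4)) :=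
  Lre_e IH (LK LD1_c14 LD2_c59 LD3_c53) (LK LD1_c7 LD2_c57 LD3_c4) Lrfl Lrfl
theorem f36964 : Led Lsl_ft (LP (LK LD1_c24 LD2_c47 LD3_c15)) = (LP (LK LD1_c14 LD2_c59 LD3_c53)) :=
  Lre_f IH (LK LD1_c24 LD2_c47 LD3_c15) (LK LD1_c14 LD2_c59 LD3_c53) Lrfl Lrfl
theorem f36965 : Led Lsl_et (LP (LK LD1_c16 LD2_c12 LD3_c48)) = (LP (LK LD1_c24 LD2_c47 LD3_c15)) :=
  Lgr Lrot69 (Lpe (K11.f31365 IH) (Lpe (f31392 IH) (Lpr_ff (K11.f36956 IH) (Lpe (f36963 IH) (Lpe (f36964 IH) (Lpn (LP (LK LD1_c24 LD2_c47 LD3_c15))))))))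
theorem f418292 : Led Lsl_at (LP (LK LD1_c24 LD2_c47 LD3_c15)) = (LP (LK LD1_c16 LD2_c28 LD3_c1)) :=
  Lgr Lrot80 (Lpe (f36965 IH) (Lpr_af (f31376 IH) (Lpr_ef (f418290 IH) (Lpn (LP (LK LD1_c16 LD2_c28 LD3_c1))))))
theorem f418295 : Led Lsl_af (LP (LK LD1_c14 LD2_c59 LD3_c53)) = (LP (LK LD1_c8 LD2_c47 LD3_c58)) :=
  Lgr Lrot45 (Lpr_ft (K11.f36971 IH) (Lpr_at (f418292 IH) (Lpr_ft (K45.f418285 IH) (Lpn (LP (LK LD1_c8 LD2_c47 LD3_c58))))))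
theorem f445075 : Led Lsl_gf (LP (LK LD1_c16 LD2_c11 LD3_c0)) = (LP (LK LD1_c16 LD2_c28 LD3_c1)) :=
  Lgr Lrot47 (Lpr_gt (f445071 IH) (Lpr_af (f418295 IH) (Lpe (K45.f418285 IH) (Lpn (LP (LK LD1_c16 LD2_c28 LD3_c1))))))
theorem f70784 : Led Lsl_ct (LP (LK LD1_c8 LD2_c47 LD3_c59)) = (LP (LK LD1_c16 LD2_c28 LD3_c1)) :=
  Lre_c IH (LK LD1_c8 LD2_c47 LD3_c59) (LK LD1_c16 LD2_c28 LD3_c1) Lrfl Lrfl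
theorem f37214 : Led Lsl_gt (LP (LK LD1_c7 LD2_c57 LD3_c2)) = (LP (LK LD1_c14 LD2_c59 LD3_c52)) :=
  Lre_g IH (LK LD1_c7 LD2_c57 LD3_c2) (LK LD1_c14 LD2_c59 LD3_c52) Lrfl Lrfl
theorem f201935 : Led Lsl_gf (LP (LK LD1_c8 LD2_c47 LD3_c59)) = (LP (LK LD1_c14 LD2_c59 LD3_c52)) :=
  Lgr Lrot76 (Lpr_af (K11.f201926 IH) (Lpe (K11.f70281 IH) (Lpr_gt (f37214 IH) (Lpn (LP (LK LD1_c14 LD2_c59 LD3_c52))))))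
theorem f211186 : Led Lsl_gt (LP (LK LD1_c4 LD2_c26 LD3_c50)) = (LP (LK LD1_c8 LD2_c51 LD3_c23)) :=
  Lre_g IH (LK LD1_c4 LD2_c26 LD3_c50) (LK LD1_c8 LD2_c51 LD3_c23) Lrfl Lrfl
theorem f227644 : Led Lsl_df (LP (LK LD1_c14 LD2_c59 LD3_c52)) = (LP (LK LD1_c8 LD2_c51 LD3_c23)) :=
  Lgr Lrot135 (Lpe (f201935 IH) (Lpe (K2.f70783 IH) (Lpe (K2.f70793 IH) (Lpe (K43.f38282 IH) (Lpe (K37.f38289 IH) (Lpr_dt (K40.f38290 IH) (Lpr_gt (K40.f227629 IH) (Lpe (K37.f101849 IH) (Lpr_et (K37.f227643 IH) (Lpr_gt (f211186 IH) (Lpn (LP (LK LD1_c8 LD2_c51 LD3_c23)))))))))))))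
theorem f227646 : Led Lsl_dt (LP (LK LD1_c14 LD2_c59 LD3_c52)) = (LP (LK LD1_c8 LD2_c51 LD3_c23)) :=
  Lgr Lrot42 (Lpr_df (f227644 IH) (Lpn (LP (LK LD1_c8 LD2_c51 LD3_c23))))
theorem f617205 : Led Lsl_gt (LP (LK LD1_c8 LD2_c51 LD3_c23)) = (LP (LK LD1_c12 LD2_c7 LD3_c58)) :=
  Lgr Lrot9 (Lpe (f227646 IH) (Lpe (f201935 IH) (Lpr_ct (f70784 IH) (Lpe (f445075 IH) (Lpr_ct (f35311 IH) (Lpr_df (K40.f70198 IH) (Lpr_cf (f561098 IH) (Lpe (K6.f70253 IH) (Lpe (K6.f70271 IH) (Lpn (LP (LK LD1_c12 LD2_c7 LD3_c58))))))))))))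
theorem f59380 : Led Lsl_et (LP (LK LD1_c3 LD2_c57 LD3_c50)) = (LP (LK LD1_c7 LD2_c57 LD3_c2)) :=
  Lre_e IH (LK LD1_c3 LD2_c57 LD3_c50) (LK LD1_c7 LD2_c57 LD3_c2) Lrfl Lrfl
theorem f53292 : Led Lsl_gt (LP (LK LD1_c15 LD2_c47 LD3_c32)) = (LP (LK LD1_c8 LD2_c23 LD3_c58)) :=
  Lre_g IH (LK LD1_c15 LD2_c47 LD3_c32) (LK LD1_c8 LD2_c23 LD3_c58) Lrfl Lrfl
theorem f38614 : Led Lsl_dt (LP (LK LD1_c14 LD2_c59 LD3_c54)) = (LP (LK LD1_c7 LD2_c57 LD3_c3)) :=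
  Lre_d IH (LK LD1_c14 LD2_c59 LD3_c54) (LK LD1_c7 LD2_c57 LD3_c3) Lrfl Lrfl
theorem f201511 : Led Lsl_dt (LP (LK LD1_c8 LD2_c45 LD3_c2)) = (LP (LK LD1_c15 LD2_c10 LD3_c11)) :=
  Lgr Lrot42 (Lpr_df (K15.f201480 IH) (Lpn (LP (LK LD1_c15 LD2_c10 LD3_c11))))
theorem f386052 : Led Lsl_ef (LP (LK LD1_c15 LD2_c13 LD3_c0)) = (LP (LK LD1_c15 LD2_c10 LD3_c11)) :=
  Lgr Lrot73 (Lpr_dt (K48.f242209 IH) (Lpr_et (K48.f386050 IH) (Lpr_dt (K48.f197769 IH) (Lpe (K15.f262290 IH) (Lpr_dt (f201511 IH) (Lpn (LP (LK LD1_c15 LD2_c10 LD3_c11))))))))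
theorem f182453 : Led Lsl_et (LP (LK LD1_c4 LD2_c1 LD3_c26)) = (LP (LK LD1_c8 LD2_c3 LD3_c32)) :=
  Lre_e IH (LK LD1_c4 LD2_c1 LD3_c26) (LK LD1_c8 LD2_c3 LD3_c32) Lrfl Lrfl
theorem f262385 : Led Lsl_ft (LP (LK LD1_c8 LD2_c3 LD3_c32)) = (LP (LK LD1_c15 LD2_c10 LD3_c15)) :=
  Lre_f IH (LK LD1_c8 LD2_c3 LD3_c32) (LK LD1_c15 LD2_c10 LD3_c15) Lrfl Lrfl
theorem f262386 : Led Lsl_et (LP (LK LD1_c15 LD2_c10 LD3_c15)) = (LP (LK LD1_c15 LD2_c12 LD3_c58)) :=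
  Lgr Lrot69 (Lpe (f262385 IH) (Lpe (f182453 IH) (Lpr_ff (K15.f262377 IH) (Lpe (K15.f193488 IH) (Lpe (K37.f193568 IH) (Lpn (LP (LK LD1_c15 LD2_c12 LD3_c58))))))))
theorem f386054 : Led Lsl_at (LP (LK LD1_c15 LD2_c13 LD3_c0)) = (LP (LK LD1_c15 LD2_c10 LD3_c15)) :=
  Lgr Lrot80 (Lpr_ef (f386052 IH) (Lpr_af (K15.f262344 IH) (Lpe (f262386 IH) (Lpn (LP (LK LD1_c15 LD2_c10 LD3_c15))))))
theorem f242195 : Led Lsl_ft (LP (LK LD1_c8 LD2_c4 LD3_c53)) = (LP (LK LD1_c15 LD2_c13 LD3_c0)) :=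
  Lre_f IH (LK LD1_c8 LD2_c4 LD3_c53) (LK LD1_c15 LD2_c13 LD3_c0) Lrfl Lrfl
theorem f262374 : Led Lsl_ft (LP (LK LD1_c15 LD2_c10 LD3_c15)) = (LP (LK LD1_c8 LD2_c3 LD3_c32)) :=
  Lre_f IH (LK LD1_c15 LD2_c10 LD3_c15) (LK LD1_c8 LD2_c3 LD3_c32) Lrfl Lrfl
theorem f386058 : Led Lsl_af (LP (LK LD1_c8 LD2_c4 LD3_c53)) = (LP (LK LD1_c8 LD2_c3 LD3_c32)) :=
  Lgr Lrot45 (Lpr_ft (f242195 IH) (Lpr_at (f386054 IH) (Lpr_ft (f262374 IH) (Lpn (LP (LK LD1_c8 LD2_c3 LD3_c32))))))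
theorem f242148 : Led Lsl_gt (LP (LK LD1_c15 LD2_c12 LD3_c61)) = (LP (LK LD1_c8 LD2_c4 LD3_c53)) :=
  Lre_g IH (LK LD1_c15 LD2_c12 LD3_c61) (LK LD1_c8 LD2_c4 LD3_c53) Lrfl Lrfl
theorem f386070 : Led Lsl_gf (LP (LK LD1_c15 LD2_c12 LD3_c61)) = (LP (LK LD1_c15 LD2_c10 LD3_c15)) :=
  Lgr Lrot47 (Lpr_gt (f242148 IH) (Lpr_af (f386058 IH) (Lpe (f262374 IH) (Lpn (LP (LK LD1_c15 LD2_c10 LD3_c15))))))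
theorem f242189 : Led Lsl_df (LP (LK LD1_c8 LD2_c4 LD3_c53)) = (LP (LK LD1_c11 LD2_c32 LD3_c38)) :=
  Lgr Lrot38 (Lpr_dt (K48.f242162 IH) (Lpn (LP (LK LD1_c11 LD2_c32 LD3_c38))))
theorem f38450 : Led Lsl_et (LP (LK LD1_c3 LD2_c0 LD3_c60)) = (LP (LK LD1_c6 LD2_c9 LD3_c13)) :=
  Lre_e IH (LK LD1_c3 LD2_c0 LD3_c60) (LK LD1_c6 LD2_c9 LD3_c13) Lrfl Lrfl
theorem f37794 : Led Lsl_gt (LP (LK LD1_c6 LD2_c9 LD3_c13)) = (LP (LK LD1_c11 LD2_c59 LD3_c34)) :=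
  Lre_g IH (LK LD1_c6 LD2_c9 LD3_c13) (LK LD1_c11 LD2_c59 LD3_c34) Lrfl Lrfl
theorem f38322 : Led Lsl_et (LP (LK LD1_c21 LD2_c4 LD3_c16)) = (LP (LK LD1_c11 LD2_c59 LD3_c34)) :=
  Lre_e IH (LK LD1_c21 LD2_c4 LD3_c16) (LK LD1_c11 LD2_c59 LD3_c34) Lrfl Lrfl
theorem f242217 : Led Lsl_df (LP (LK LD1_c15 LD2_c12 LD3_c61)) = (LP (LK LD1_c21 LD2_c4 LD3_c16)) :=
  Lgr Lrot170 (Lpr_gt (f242148 IH) (Lpr_df (f242189 IH) (Lpr_et (K48.f177053 IH) (Lpr_gt (K18.f24434 IH) (Lpr_dt (K18.f24433 IH) (Lpe (K10.f198264 IH) (Lpe (K12.f27259 IH) (Lpr_et (f38450 IH) (Lpr_gt (f37794 IH) (Lpe (f38322 IH) (Lpn (LP (LK LD1_c21 LD2_c4 LD3_c16)))))))))))))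
theorem f35750 : Led Lsl_ft (LP (LK LD1_c6 LD2_c9 LD3_c13)) = (LP (LK LD1_c11 LD2_c59 LD3_c37)) :=
  Lre_f IH (LK LD1_c6 LD2_c9 LD3_c13) (LK LD1_c11 LD2_c59 LD3_c37) Lrfl Lrfl
theorem f38319 : Led Lsl_gf (LP (LK LD1_c8 LD2_c48 LD3_c39)) = (LP (LK LD1_c11 LD2_c59 LD3_c34)) :=
  Lgr Lrot76 (Lpr_af (K1.f38298 IH) (Lpe (f35750 IH) (Lpr_gt (f37794 IH) (Lpn (LP (LK LD1_c11 LD2_c59 LD3_c34))))))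
theorem f201901 : Led Lsl_dt (LP (LK LD1_c16 LD2_c28 LD3_c59)) = (LP (LK LD1_c18 LD2_c40 LD3_c53)) :=
  Lgr Lrot77 (Lpe (K1.f38314 IH) (Lpe (K37.f38323 IH) (Lpr_ef (K6.f38599 IH) (Lpe (f38614 IH) (Lpr_ef (K11.f201899 IH) (Lpn (LP (LK LD1_c18 LD2_c40 LD3_c53))))))))
theorem f386037 : Led Lsl_dt (LP (LK LD1_c24 LD2_c59 LD3_c32)) = (LP (LK LD1_c15 LD2_c10 LD3_c15)) :=
  Lre_d IH (LK LD1_c24 LD2_c59 LD3_c32) (LK LD1_c15 LD2_c10 LD3_c15) Lrfl Lrfl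
theorem f242169 : Led Lsl_gt (LP (LK LD1_c11 LD2_c32 LD3_c38)) = (LP (LK LD1_c20 LD2_c29 LD3_c34)) :=
  Lre_g IH (LK LD1_c11 LD2_c32 LD3_c38) (LK LD1_c20 LD2_c29 LD3_c34) Lrfl Lrfl
theorem f386043 : Led Lsl_gf (LP (LK LD1_c24 LD2_c59 LD3_c32)) = (LP (LK LD1_c20 LD2_c29 LD3_c34)) :=
  Lgr Lrot76 (Lpr_af (K48.f386031 IH) (Lpe (K48.f242192 IH) (Lpr_gt (f242169 IH) (Lpn (LP (LK LD1_c20 LD2_c29 LD3_c34))))))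
theorem f38361 : Led Lsl_et (LP (LK LD1_c11 LD2_c59 LD3_c40)) = (LP (LK LD1_c6 LD2_c9 LD3_c17)) :=
  Lre_e IH (LK LD1_c11 LD2_c59 LD3_c40) (LK LD1_c6 LD2_c9 LD3_c17) Lrfl Lrfl
theorem f70825 : Led Lsl_gt (LP (LK LD1_c16 LD2_c28 LD3_c7)) = (LP (LK LD1_c8 LD2_c47 LD3_c61)) :=
  Lre_g IH (LK LD1_c16 LD2_c28 LD3_c7) (LK LD1_c8 LD2_c47 LD3_c61) Lrfl Lrfl
theorem f70826 : Led Lsl_dt (LP (LK LD1_c26 LD2_c25 LD3_c17)) = (LP (LK LD1_c16 LD2_c28 LD3_c7)) :=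
  Lre_d IH (LK LD1_c26 LD2_c25 LD3_c17) (LK LD1_c16 LD2_c28 LD3_c7) Lrfl Lrfl
theorem f242166 : Led Lsl_et (LP (LK LD1_c5 LD2_c53 LD3_c16)) = (LP (LK LD1_c11 LD2_c32 LD3_c38)) :=
  Lre_e IH (LK LD1_c5 LD2_c53 LD3_c16) (LK LD1_c11 LD2_c32 LD3_c38) Lrfl Lrfl
theorem f242170 : Led Lsl_et (LP (LK LD1_c26 LD2_c25 LD3_c17)) = (LP (LK LD1_c20 LD2_c29 LD3_c34)) :=
  Lgr Lrot122 (Lpr_dt (f70826 IH) (Lpr_gt (f70825 IH) (Lpe (K2.f70811 IH) (Lpr_et (f38361 IH) (Lpe (K12.f38371 IH) (Lpr_dt (K12.f38048 IH) (Lpr_gt (K12.f227780 IH) (Lpr_df (K18.f242159 IH) (Lpr_et (f242166 IH) (Lpr_gt (f242169 IH) (Lpn (LP (LK LD1_c20 LD2_c29 LD3_c34)))))))))))))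
theorem f386074 : Led Lsl_gt (LP (LK LD1_c18 LD2_c40 LD3_c53)) = (LP (LK LD1_c16 LD2_c28 LD3_c7)) :=
  Lgr Lrot112 (Lpe (f201901 IH) (Lpr_et (K11.f38324 IH) (Lpr_gf (f38319 IH) (Lpe (f38322 IH) (Lpe (f242217 IH) (Lpr_gf (f386070 IH) (Lpe (f386037 IH) (Lpr_gf (f386043 IH) (Lpe (f242170 IH) (Lpr_dt (f70826 IH) (Lpn (LP (LK LD1_c16 LD2_c28 LD3_c7)))))))))))))
theorem f227346 : Led Lsl_et (LP (LK LD1_c26 LD2_c25 LD3_c18)) = (LP (LK LD1_c16 LD2_c28 LD3_c7)) :=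
  Lre_e IH (LK LD1_c26 LD2_c25 LD3_c18) (LK LD1_c16 LD2_c28 LD3_c7) Lrfl Lrfl
theorem f241160 : Led Lsl_et (LP (LK LD1_c8 LD2_c4 LD3_c53)) = (LP (LK LD1_c4 LD2_c2 LD3_c10)) :=
  Lre_e IH (LK LD1_c8 LD2_c4 LD3_c53) (LK LD1_c4 LD2_c2 LD3_c10) Lrfl Lrfl
theorem f241159 : Led Lsl_et (LP (LK LD1_c15 LD2_c9 LD3_c53)) = (LP (LK LD1_c8 LD2_c3 LD3_c16)) :=
  Lre_e IH (LK LD1_c15 LD2_c9 LD3_c53) (LK LD1_c8 LD2_c3 LD3_c16) Lrfl Lrfl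
theorem f46713 : Led Lsl_et (LP (LK LD1_c2 LD2_c4 LD3_c6)) = (LP (LK LD1_c4 LD2_c13 LD3_c34)) :=
  Lre_e IH (LK LD1_c2 LD2_c4 LD3_c6) (LK LD1_c4 LD2_c13 LD3_c34) Lrfl Lrfl
theorem f46803 : Led Lsl_gt (LP (LK LD1_c4 LD2_c13 LD3_c34)) = (LP (LK LD1_c8 LD2_c26 LD3_c4)) :=
  Lre_g IH (LK LD1_c4 LD2_c13 LD3_c34) (LK LD1_c8 LD2_c26 LD3_c4) Lrfl Lrfl
theorem f46809 : Led Lsl_et (LP (LK LD1_c15 LD2_c50 LD3_c34)) = (LP (LK LD1_c8 LD2_c26 LD3_c4)) :=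
  Lre_e IH (LK LD1_c15 LD2_c50 LD3_c34) (LK LD1_c8 LD2_c26 LD3_c4) Lrfl Lrfl
theorem f242151 : Led Lsl_dt (LP (LK LD1_c15 LD2_c50 LD3_c34)) = (LP (LK LD1_c15 LD2_c47 LD3_c32)) :=
  Lgr Lrot136 (Lpr_et (f46809 IH) (Lpe (f46803 IH) (Lpe (f46713 IH) (Lpr_dt (K1.f27869 IH) (Lpr_gf (K13.f242135 IH) (Lpe (K12.f34054 IH) (Lpr_gf (K12.f227329 IH) (Lpe (f241159 IH) (Lpr_dt (K47.f241153 IH) (Lpe (f53292 IH) (Lpn (LP (LK LD1_c15 LD2_c47 LD3_c32)))))))))))))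
theorem f242157 : Led Lsl_gt (LP (LK LD1_c25 LD2_c46 LD3_c40)) = (LP (LK LD1_c15 LD2_c50 LD3_c34)) :=
  Lre_g IH (LK LD1_c25 LD2_c46 LD3_c40) (LK LD1_c15 LD2_c50 LD3_c34) Lrfl Lrfl
theorem f242179 : Led Lsl_dt (LP (LK LD1_c29 LD2_c28 LD3_c33)) = (LP (LK LD1_c20 LD2_c29 LD3_c34)) :=
  Lre_d IH (LK LD1_c29 LD2_c28 LD3_c33) (LK LD1_c20 LD2_c29 LD3_c34) Lrfl Lrfl
theorem f242199 : Led Lsl_ef (LP (LK LD1_c25 LD2_c46 LD3_c40)) = (LP (LK LD1_c29 LD2_c28 LD3_c33)) :=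
  Lgr Lrot167 (Lpr_gt (f242157 IH) (Lpr_dt (f242151 IH) (Lpr_gt (f53292 IH) (Lpe (K47.f241153 IH) (Lpr_et (f241159 IH) (Lpe (K12.f227329 IH) (Lpe (f241160 IH) (Lpr_dt (K48.f242162 IH) (Lpr_gt (f242169 IH) (Lpe (f242179 IH) (Lpn (LP (LK LD1_c29 LD2_c28 LD3_c33)))))))))))))
theorem f242203 : Led Lsl_et (LP (LK LD1_c25 LD2_c46 LD3_c40)) = (LP (LK LD1_c29 LD2_c28 LD3_c33)) :=
  Lgr Lrot87 (Lpr_ef (f242199 IH) (Lpn (LP (LK LD1_c29 LD2_c28 LD3_c33))))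
theorem f242175 : Led Lsl_ef (LP (LK LD1_c26 LD2_c25 LD3_c17)) = (LP (LK LD1_c20 LD2_c29 LD3_c34)) :=
  Lgr Lrot88 (Lpr_et (f242170 IH) (Lpn (LP (LK LD1_c20 LD2_c29 LD3_c34))))
theorem f242178 : Led Lsl_et (LP (LK LD1_c16 LD2_c28 LD3_c7)) = (LP (LK LD1_c26 LD2_c25 LD3_c18)) :=
  Lre_e IH (LK LD1_c16 LD2_c28 LD3_c7) (LK LD1_c26 LD2_c25 LD3_c18) Lrfl Lrfl
theorem f242205 : Led Lsl_df (LP (LK LD1_c25 LD2_c46 LD3_c40)) = (LP (LK LD1_c26 LD2_c25 LD3_c18)) :=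
  Lgr Lrot70 (Lpr_et (f242203 IH) (Lpr_dt (f242179 IH) (Lpe (f242175 IH) (Lpr_dt (f70826 IH) (Lpr_et (f242178 IH) (Lpn (LP (LK LD1_c26 LD2_c25 LD3_c18))))))))
theorem f242154 : Led Lsl_df (LP (LK LD1_c15 LD2_c50 LD3_c34)) = (LP (LK LD1_c15 LD2_c47 LD3_c32)) :=
  Lgr Lrot38 (Lpr_dt (f242151 IH) (Lpn (LP (LK LD1_c15 LD2_c47 LD3_c32))))
theorem f443071 : Led Lsl_gt (LP (LK LD1_c16 LD2_c27 LD3_c48)) = (LP (LK LD1_c8 LD2_c47 LD3_c51)) :=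
  Lre_g IH (LK LD1_c16 LD2_c27 LD3_c48) (LK LD1_c8 LD2_c47 LD3_c51) Lrfl Lrfl
theorem f443074 : Led Lsl_et (LP (LK LD1_c15 LD2_c47 LD3_c32)) = (LP (LK LD1_c16 LD2_c27 LD3_c48)) :=
  Lgr Lrot121 (Lpe (f242154 IH) (Lpe (f242157 IH) (Lpr_df (f242205 IH) (Lpr_et (f227346 IH) (Lpe (f386074 IH) (Lpe (K11.f201903 IH) (Lpr_dt (f38614 IH) (Lpr_gf (K37.f443069 IH) (Lpe (K43.f255536 IH) (Lpe (f443071 IH) (Lpn (LP (LK LD1_c16 LD2_c27 LD3_c48)))))))))))))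
theorem f443076 : Led Lsl_ef (LP (LK LD1_c15 LD2_c47 LD3_c32)) = (LP (LK LD1_c16 LD2_c27 LD3_c48)) :=
  Lgr Lrot88 (Lpr_et (f443074 IH) (Lpn (LP (LK LD1_c16 LD2_c27 LD3_c48))))
theorem f617210 : Led Lsl_dt (LP (LK LD1_c16 LD2_c27 LD3_c48)) = (LP (LK LD1_c12 LD2_c7 LD3_c58)) :=
  Lgr Lrot56 (Lpe (f443076 IH) (Lpr_gt (f53292 IH) (Lpe (K36.f53259 IH) (Lpr_dt (K13.f53244 IH) (Lpr_gt (K11.f201349 IH) (Lpe (K11.f36943 IH) (Lpr_et (f59380 IH) (Lpr_gt (f37214 IH) (Lpr_dt (f227646 IH) (Lpr_gt (f617205 IH) (Lpn (LP (LK LD1_c12 LD2_c7 LD3_c58)))))))))))))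
theorem f567274 : Led Lsl_af (LP (LK LD1_c6 LD2_c15 LD3_c5)) = (LP (LK LD1_c7 LD2_c19 LD3_c6)) :=
  Lgr Lrot36 (Lpr_bt (K47.f424497 IH) (Lpr_at (K43.f567270 IH) (Lpr_bt (K43.f94507 IH) (Lpr_at (K32.f497702 IH) (Lpe (K43.f147256 IH) (Lpn (LP (LK LD1_c7 LD2_c19 LD3_c6))))))))
theorem f476453 : Led Lsl_gt (LP (LK LD1_c7 LD2_c17 LD3_c43)) = (LP (LK LD1_c3 LD2_c38 LD3_c41)) :=
  Lre_g IH (LK LD1_c7 LD2_c17 LD3_c43) (LK LD1_c3 LD2_c38 LD3_c41) Lrfl Lrfl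
theorem f609770 : Led Lsl_ff (LP (LK LD1_c7 LD2_c19 LD3_c6)) = (LP (LK LD1_c7 LD2_c17 LD3_c43)) :=
  Lgr Lrot52 (Lpe (f567274 IH) (Lpr_gf (K47.f609768 IH) (Lpe (f476453 IH) (Lpn (LP (LK LD1_c7 LD2_c17 LD3_c43))))))
theorem f609894 : Led Lsl_ft (LP (LK LD1_c7 LD2_c19 LD3_c6)) = (LP (LK LD1_c7 LD2_c17 LD3_c43)) :=
  Lgr Lrot48 (Lpr_ff (f609770 IH) (Lpn (LP (LK LD1_c7 LD2_c17 LD3_c43))))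
theorem f522553 : Led Lsl_at (LP (LK LD1_c3 LD2_c39 LD3_c27)) = K39.v2474 :=
  Lgr Lrot100 (Lpr_af (K47.f522550 IH) (Lpn K39.v2474))
theorem f522555 : Led Lsl_ff (LP (LK LD1_c3 LD2_c39 LD3_c27)) = K39.v2475 :=
  Lgr Lrot52 (Lpr_at (f522553 IH) (Lpe (K39.f522547 IH) (Lpr_gf (K39.f522554 IH) (Lpn K39.v2475))))
theorem f147324 : Led Lsl_et (LP (LK LD1_c7 LD2_c19 LD3_c5)) = (LP (LK LD1_c3 LD2_c39 LD3_c26)) :=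
  Lre_e IH (LK LD1_c7 LD2_c19 LD3_c5) (LK LD1_c3 LD2_c39 LD3_c26) Lrfl Lrfl
theorem f147325 : Led Lsl_ct (LP (LK LD1_c7 LD2_c23 LD3_c0)) = (LP (LK LD1_c7 LD2_c19 LD3_c5)) :=
  Lgr Lrot15 (Lpe (K46.f147323 IH) (Lpr_cf (K8.f147315 IH) (Lpe (f147324 IH) (Lpn (LP (LK LD1_c7 LD2_c19 LD3_c5))))))
theorem f147336 : Led Lsl_cf (LP (LK LD1_c7 LD2_c23 LD3_c0)) = (LP (LK LD1_c7 LD2_c19 LD3_c5)) :=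
  Lgr Lrot11 (Lpr_ct (f147325 IH) (Lpn (LP (LK LD1_c7 LD2_c19 LD3_c5))))
theorem f608714 : Led Lsl_at (LP (LK LD1_c6 LD2_c15 LD3_c3)) = (LP (LK LD1_c7 LD2_c19 LD3_c5)) :=
  Lgr Lrot107 (Lpr_cf (K46.f608712 IH) (Lpe (K46.f497888 IH) (Lpr_cf (f147336 IH) (Lpn (LP (LK LD1_c7 LD2_c19 LD3_c5))))))
theorem f609339 : Led Lsl_ff (LP (LK LD1_c6 LD2_c15 LD3_c3)) = (LP (LK LD1_c7 LD2_c19 LD3_c27)) :=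
  Lgr Lrot52 (Lpr_at (f608714 IH) (Lpr_gf (K47.f609337 IH) (Lpe (K47.f479747 IH) (Lpn (LP (LK LD1_c7 LD2_c19 LD3_c27))))))
theorem f609902 : Led Lsl_ef (LP (LK LD1_c7 LD2_c19 LD3_c27)) = (LP (LK LD1_c7 LD2_c17 LD3_c43)) :=
  Lgr Lrot21 (Lpe (f609339 IH) (Lpr_et (K39.f242772 IH) (Lpq (K39.f540335 IH) (Lpe (f522555 IH) (Lpr_et (K47.f147309 IH) (Lpr_ft (f609894 IH) (Lpn (LP (LK LD1_c7 LD2_c17 LD3_c43)))))))))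
theorem f608825 : Led Lsl_dt (LP (LK LD1_c13 LD2_c48 LD3_c7)) = (LP (LK LD1_c7 LD2_c17 LD3_c43)) :=
  Lre_d IH (LK LD1_c13 LD2_c48 LD3_c7) (LK LD1_c7 LD2_c17 LD3_c43) Lrfl Lrfl
theorem f609904 : Led Lsl_et (LP (LK LD1_c15 LD2_c47 LD3_c33)) = (LP (LK LD1_c13 LD2_c48 LD3_c7)) :=
  Lgr Lrot71 (Lpr_df (K47.f609385 IH) (Lpe (K47.f609378 IH) (Lpe (K47.f609389 IH) (Lpr_ef (f609902 IH) (Lpe (f608825 IH) (Lpn (LP (LK LD1_c13 LD2_c48 LD3_c7))))))))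
theorem f609387 : Led Lsl_dt (LP (LK LD1_c15 LD2_c47 LD3_c33)) = (LP (LK LD1_c23 LD2_c20 LD3_c28)) :=
  Lgr Lrot42 (Lpr_df (K47.f609385 IH) (Lpn (LP (LK LD1_c23 LD2_c20 LD3_c28))))
theorem f609401 : Led Lsl_ff (LP (LK LD1_c15 LD2_c9 LD3_c53)) = (LP (LK LD1_c23 LD2_c20 LD3_c28)) :=
  Lgr Lrot3 (Lpr_ft (K47.f609390 IH) (Lpn (LP (LK LD1_c23 LD2_c20 LD3_c28))))
theorem f308381 : Led Lsl_at (LP (LK LD1_c15 LD2_c9 LD3_c53)) = (LP (LK LD1_c10 LD2_c17 LD3_c37)) :=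
  Lgr Lrot100 (Lpr_af (K47.f308359 IH) (Lpn (LP (LK LD1_c10 LD2_c17 LD3_c37))))
theorem f308397 : Led Lsl_gt (LP (LK LD1_c18 LD2_c42 LD3_c43)) = (LP (LK LD1_c10 LD2_c17 LD3_c37)) :=
  Lre_g IH (LK LD1_c18 LD2_c42 LD3_c43) (LK LD1_c10 LD2_c17 LD3_c37) Lrfl Lrfl
theorem f609407 : Led Lsl_gf (LP (LK LD1_c18 LD2_c42 LD3_c43)) = (LP (LK LD1_c23 LD2_c20 LD3_c28)) :=
  Lgr Lrot47 (Lpr_gt (f308397 IH) (Lpe (f308381 IH) (Lpr_ff (f609401 IH) (Lpn (LP (LK LD1_c23 LD2_c20 LD3_c28))))))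
theorem f36388 : Led Lsl_et (LP (LK LD1_c4 LD2_c20 LD3_c32)) = (LP (LK LD1_c8 LD2_c38 LD3_c53)) :=
  Lre_e IH (LK LD1_c4 LD2_c20 LD3_c32) (LK LD1_c8 LD2_c38 LD3_c53) Lrfl Lrfl
theorem f36368 : Led Lsl_gt (LP (LK LD1_c8 LD2_c38 LD3_c53)) = (LP (LK LD1_c16 LD2_c11 LD3_c48)) :=
  Lre_g IH (LK LD1_c8 LD2_c38 LD3_c53) (LK LD1_c16 LD2_c11 LD3_c48) Lrfl Lrfl
theorem f204933 : Led Lsl_et (LP (LK LD1_c26 LD2_c8 LD3_c39)) = (LP (LK LD1_c16 LD2_c11 LD3_c48)) :=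
  Lre_e IH (LK LD1_c26 LD2_c8 LD3_c39) (LK LD1_c16 LD2_c11 LD3_c48) Lrfl Lrfl
theorem f418874 : Led Lsl_df (LP (LK LD1_c18 LD2_c42 LD3_c43)) = (LP (LK LD1_c26 LD2_c8 LD3_c39)) :=
  Lgr Lrot170 (Lpr_gt (f308397 IH) (Lpe (K47.f240874 IH) (Lpr_et (K36.f240873 IH) (Lpr_gt (K15.f216363 IH) (Lpr_dt (K14.f201357 IH) (Lpr_gt (K12.f204930 IH) (Lpe (K12.f36351 IH) (Lpr_et (f36388 IH) (Lpr_gt (f36368 IH) (Lpe (f204933 IH) (Lpn (LP (LK LD1_c26 LD2_c8 LD3_c39)))))))))))))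
theorem f303844 : Led Lsl_gf (LP (LK LD1_c10 LD2_c16 LD3_c23)) = (LP (LK LD1_c16 LD2_c11 LD3_c48)) :=
  Lgr Lrot76 (Lpr_af (K32.f303811 IH) (Lpe (K32.f36361 IH) (Lpr_gt (f36368 IH) (Lpn (LP (LK LD1_c16 LD2_c11 LD3_c48))))))
theorem f303801 : Led Lsl_at (LP (LK LD1_c8 LD2_c46 LD3_c38)) = (LP (LK LD1_c6 LD2_c25 LD3_c2)) :=
  Lgr Lrot51 (Lpr_df (K43.f205347 IH) (Lpr_af (K32.f303759 IH) (Lpe (K32.f36353 IH) (Lpn (LP (LK LD1_c6 LD2_c25 LD3_c2))))))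
theorem f303849 : Led Lsl_gt (LP (LK LD1_c16 LD2_c25 LD3_c18)) = (LP (LK LD1_c12 LD2_c23 LD3_c7)) :=
  Lgr Lrot5 (Lpr_ft (K32.f205349 IH) (Lpr_at (f303801 IH) (Lpe (K37.f36366 IH) (Lpn (LP (LK LD1_c12 LD2_c23 LD3_c7))))))
theorem f609912 : Led Lsl_gt (LP (LK LD1_c10 LD2_c4 LD3_c19)) = (LP (LK LD1_c13 LD2_c48 LD3_c7)) :=
  Lgr Lrot131 (Lpe (K37.f204956 IH) (Lpe (K37.f204957 IH) (Lpe (f303849 IH) (Lpr_df (K32.f205351 IH) (Lpr_gf (f303844 IH) (Lpe (f204933 IH) (Lpe (f418874 IH) (Lpr_gf (f609407 IH) (Lpe (f609387 IH) (Lpr_et (f609904 IH) (Lpn (LP (LK LD1_c13 LD2_c48 LD3_c7)))))))))))))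
theorem f609916 : Led Lsl_gf (LP (LK LD1_c7 LD2_c17 LD3_c56)) = (LP (LK LD1_c13 LD2_c48 LD3_c7)) :=
  Lgr Lrot76 (Lpe (K43.f482781 IH) (Lpe (K43.f543225 IH) (Lpr_gt (f609912 IH) (Lpn (LP (LK LD1_c13 LD2_c48 LD3_c7))))))
theorem f449954 : Led Lsl_dt (LP (LK LD1_c12 LD2_c8 LD3_c25)) = (LP (LK LD1_c21 LD2_c14 LD3_c43)) :=
  Lre_d IH (LK LD1_c12 LD2_c8 LD3_c25) (LK LD1_c21 LD2_c14 LD3_c43) Lrfl Lrfl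
theorem f608824 : Led Lsl_dt (LP (LK LD1_c7 LD2_c17 LD3_c43)) = (LP (LK LD1_c13 LD2_c48 LD3_c7)) :=
  Lre_d IH (LK LD1_c7 LD2_c17 LD3_c43) (LK LD1_c13 LD2_c48 LD3_c7) Lrfl Lrfl
theorem f609918 : Led Lsl_gt (LP (LK LD1_c12 LD2_c8 LD3_c29)) = (LP (LK LD1_c7 LD2_c17 LD3_c43)) :=
  Lgr Lrot137 (Lpe (K47.f424510 IH) (Lpe (K47.f608953 IH) (Lpr_gf (K47.f609667 IH) (Lpe (f449954 IH) (Lpr_et (K36.f449945 IH) (Lpr_gf (K37.f543201 IH) (Lpr_ef (K37.f482700 IH) (Lpr_dt (K37.f482764 IH) (Lpr_gf (f609916 IH) (Lpe (f608824 IH) (Lpn (LP (LK LD1_c7 LD2_c17 LD3_c43)))))))))))))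
theorem f522581 : Led Lsl_at (LP (LK LD1_c7 LD2_c17 LD3_c44)) = (LP (LK LD1_c3 LD2_c38 LD3_c41)) :=
  Lre_a IH (LK LD1_c7 LD2_c17 LD3_c44) (LK LD1_c3 LD2_c38 LD3_c41) Lrfl Lrfl
theorem f609920 : Led Lsl_ft (LP (LK LD1_c12 LD2_c8 LD3_c29)) = (LP (LK LD1_c7 LD2_c17 LD3_c44)) :=
  Lgr Lrot2 (Lpr_gt (f609918 IH) (Lpr_gt (f476453 IH) (Lpe (f522581 IH) (Lpn (LP (LK LD1_c7 LD2_c17 LD3_c44))))))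
theorem f424508 : Led Lsl_dt (LP (LK LD1_c21 LD2_c14 LD3_c47)) = (LP (LK LD1_c12 LD2_c8 LD3_c29)) :=
  Lre_d IH (LK LD1_c21 LD2_c14 LD3_c47) (LK LD1_c12 LD2_c8 LD3_c29) Lrfl Lrfl
theorem f609922 : Led Lsl_ff (LP (LK LD1_c21 LD2_c14 LD3_c47)) = (LP (LK LD1_c13 LD2_c48 LD3_c9)) :=
  Lgr Lrot19 (Lpr_dt (f424508 IH) (Lpr_ft (f609920 IH) (Lpr_dt (K47.f525476 IH) (Lpn (LP (LK LD1_c13 LD2_c48 LD3_c9))))))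
theorem f424509 : Led Lsl_et (LP (LK LD1_c21 LD2_c14 LD3_c47)) = (LP (LK LD1_c29 LD2_c55 LD3_c27)) :=
  Lre_e IH (LK LD1_c21 LD2_c14 LD3_c47) (LK LD1_c29 LD2_c55 LD3_c27) Lrfl Lrfl
theorem f609926 : Led Lsl_ft (LP (LK LD1_c29 LD2_c55 LD3_c27)) = (LP (LK LD1_c26 LD2_c7 LD3_c21)) :=
  Lgr Lrot86 (Lpe (f424509 IH) (Lpr_ff (f609922 IH) (Lpr_ef (K47.f608990 IH) (Lpe (K47.f609756 IH) (Lpe (K47.f180167 IH) (Lpn (LP (LK LD1_c26 LD2_c7 LD3_c21))))))))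
theorem f609932 : Led Lsl_df (LP (LK LD1_c29 LD2_c55 LD3_c27)) = (LP (LK LD1_c23 LD2_c9 LD3_c12)) :=
  Lgr Lrot78 (Lpr_ft (f609926 IH) (Lpr_dt (K47.f408060 IH) (Lpe (K47.f609814 IH) (Lpn (LP (LK LD1_c23 LD2_c9 LD3_c12))))))
theorem f526416 : Led Lsl_at (LP (LK LD1_c13 LD2_c43 LD3_c1)) = (LP (LK LD1_c23 LD2_c9 LD3_c12)) :=
  Lre_a IH (LK LD1_c13 LD2_c43 LD3_c1) (LK LD1_c23 LD2_c9 LD3_c12) Lrfl Lrfl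
theorem f609934 : Led Lsl_at (LP (LK LD1_c29 LD2_c55 LD3_c27)) = (LP (LK LD1_c23 LD2_c9 LD3_c17)) :=
  Lgr Lrot51 (Lpr_df (f609932 IH) (Lpe (f526416 IH) (Lpe (K47.f92606 IH) (Lpn (LP (LK LD1_c23 LD2_c9 LD3_c17))))))
theorem f609657 : Led Lsl_ft (LP (LK LD1_c21 LD2_c14 LD3_c47)) = (LP (LK LD1_c13 LD2_c48 LD3_c9)) :=
  Lgr Lrot2 (Lpr_gt (K47.f609655 IH) (Lpr_gt (K47.f476484 IH) (Lpe (K47.f525477 IH) (Lpn (LP (LK LD1_c13 LD2_c48 LD3_c9))))))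
theorem f609659 : Led Lsl_et (LP (LK LD1_c29 LD2_c55 LD3_c27)) = (LP (LK LD1_c21 LD2_c14 LD3_c47)) :=
  Lre_e IH (LK LD1_c29 LD2_c55 LD3_c27) (LK LD1_c21 LD2_c14 LD3_c47) Lrfl Lrfl
theorem f609754 : Led Lsl_ft (LP (LK LD1_c26 LD2_c7 LD3_c21)) = (LP (LK LD1_c29 LD2_c55 LD3_c27)) :=
  Lgr Lrot86 (Lpe (K47.f408059 IH) (Lpr_ff (K47.f609746 IH) (Lpr_ef (K47.f608963 IH) (Lpe (f609657 IH) (Lpe (f609659 IH) (Lpn (LP (LK LD1_c29 LD2_c55 LD3_c27))))))))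
theorem f201984 : Led Lsl_et (LP (LK LD1_c9 LD2_c19 LD3_c37)) = (LP (LK LD1_c4 LD2_c42 LD3_c40)) :=
  Lre_e IH (LK LD1_c9 LD2_c19 LD3_c37) (LK LD1_c4 LD2_c42 LD3_c40) Lrfl Lrfl
theorem f56499 : Led Lsl_dt (LP (LK LD1_c6 LD2_c24 LD3_c21)) = (LP (LK LD1_c12 LD2_c21 LD3_c54)) :=
  Lre_d IH (LK LD1_c6 LD2_c24 LD3_c21) (LK LD1_c12 LD2_c21 LD3_c54) Lrfl Lrfl
theorem f443895 : Led Lsl_gf (LP (LK LD1_c17 LD2_c15 LD3_c21)) = (LP (LK LD1_c12 LD2_c21 LD3_c54)) :=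
  Lgr Lrot134 (Lpe (K47.f201985 IH) (Lpr_et (f201984 IH) (Lpr_gt (K32.f201975 IH) (Lpe (K11.f56607 IH) (Lpr_dt (K1.f36312 IH) (Lpr_gt (K1.f59168 IH) (Lpe (K4.f36404 IH) (Lpr_et (K1.f56342 IH) (Lpr_gt (K37.f56354 IH) (Lpr_dt (f56499 IH) (Lpn (LP (LK LD1_c12 LD2_c21 LD3_c54)))))))))))))
theorem f443809 : Led Lsl_et (LP (LK LD1_c21 LD2_c28 LD3_c38)) = (LP (LK LD1_c12 LD2_c21 LD3_c54)) :=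
  Lre_e IH (LK LD1_c21 LD2_c28 LD3_c38) (LK LD1_c12 LD2_c21 LD3_c54) Lrfl Lrfl
theorem f443807 : Led Lsl_et (LP (LK LD1_c8 LD2_c51 LD3_c34)) = (LP (LK LD1_c16 LD2_c33 LD3_c48)) :=
  Lre_e IH (LK LD1_c8 LD2_c51 LD3_c34) (LK LD1_c16 LD2_c33 LD3_c48) Lrfl Lrfl
theorem f56498 : Led Lsl_dt (LP (LK LD1_c12 LD2_c21 LD3_c54)) = (LP (LK LD1_c6 LD2_c24 LD3_c21)) :=
  Lre_d IH (LK LD1_c12 LD2_c21 LD3_c54) (LK LD1_c6 LD2_c24 LD3_c21) Lrfl Lrfl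
theorem f443810 : Led Lsl_dt (LP (LK LD1_c16 LD2_c33 LD3_c48)) = (LP (LK LD1_c21 LD2_c28 LD3_c38)) :=
  Lgr Lrot77 (Lpe (f443807 IH) (Lpr_df (K37.f443762 IH) (Lpe (K37.f443808 IH) (Lpe (f56498 IH) (Lpe (f443809 IH) (Lpn (LP (LK LD1_c21 LD2_c28 LD3_c38))))))))
theorem f443814 : Led Lsl_df (LP (LK LD1_c16 LD2_c33 LD3_c48)) = (LP (LK LD1_c21 LD2_c28 LD3_c38)) :=
  Lgr Lrot38 (Lpr_dt (f443810 IH) (Lpn (LP (LK LD1_c21 LD2_c28 LD3_c38))))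
theorem f411259 : Led Lsl_df (LP (LK LD1_c20 LD2_c26 LD3_c19)) = (LP (LK LD1_c15 LD2_c12 LD3_c41)) :=
  Lgr Lrot38 (Lpr_dt (K40.f411246 IH) (Lpn (LP (LK LD1_c15 LD2_c12 LD3_c41))))
theorem f262441 : Led Lsl_ft (LP (LK LD1_c8 LD2_c4 LD3_c43)) = (LP (LK LD1_c15 LD2_c12 LD3_c41)) :=
  Lre_f IH (LK LD1_c8 LD2_c4 LD3_c43) (LK LD1_c15 LD2_c12 LD3_c41) Lrfl Lrfl
theorem f271988 : Led Lsl_et (LP (LK LD1_c15 LD2_c12 LD3_c41)) = (LP (LK LD1_c15 LD2_c10 LD3_c6)) :=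
  Lgr Lrot69 (Lpe (f262441 IH) (Lpe (K37.f242802 IH) (Lpr_ff (K16.f271982 IH) (Lpe (K16.f192732 IH) (Lpe (K16.f192757 IH) (Lpn (LP (LK LD1_c15 LD2_c10 LD3_c6))))))))
theorem f193521 : Led Lsl_gt (LP (LK LD1_c15 LD2_c12 LD3_c54)) = (LP (LK LD1_c8 LD2_c4 LD3_c50)) :=
  Lre_g IH (LK LD1_c15 LD2_c12 LD3_c54) (LK LD1_c8 LD2_c4 LD3_c50) Lrfl Lrfl
theorem f271944 : Led Lsl_gf (LP (LK LD1_c15 LD2_c12 LD3_c54)) = (LP (LK LD1_c15 LD2_c10 LD3_c6)) :=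
  Lgr Lrot47 (Lpr_gt (f193521 IH) (Lpr_af (K16.f271933 IH) (Lpe (K16.f192757 IH) (Lpn (LP (LK LD1_c15 LD2_c10 LD3_c6))))))
theorem f271946 : Led Lsl_dt (LP (LK LD1_c15 LD2_c12 LD3_c54)) = (LP (LK LD1_c25 LD2_c1 LD3_c55)) :=
  Lre_d IH (LK LD1_c15 LD2_c12 LD3_c54) (LK LD1_c25 LD2_c1 LD3_c55) Lrfl Lrfl
theorem f503190 : Led Lsl_gf (LP (LK LD1_c16 LD2_c33 LD3_c48)) = (LP (LK LD1_c25 LD2_c1 LD3_c55)) :=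
  Lgr Lrot134 (Lpr_df (f443814 IH) (Lpr_et (f443809 IH) (Lpe (f443895 IH) (Lpe (K47.f443898 IH) (Lpr_dt (K47.f443899 IH) (Lpr_gt (K40.f503183 IH) (Lpr_df (f411259 IH) (Lpr_et (f271988 IH) (Lpe (f271944 IH) (Lpr_dt (f271946 IH) (Lpn (LP (LK LD1_c25 LD2_c1 LD3_c55)))))))))))))
theorem f192721 : Led Lsl_et (LP (LK LD1_c8 LD2_c51 LD3_c39)) = (LP (LK LD1_c4 LD2_c26 LD3_c55)) :=
  Lre_e IH (LK LD1_c8 LD2_c51 LD3_c39) (LK LD1_c4 LD2_c26 LD3_c55) Lrfl Lrfl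
theorem f192724 : Led Lsl_df (LP (LK LD1_c8 LD2_c51 LD3_c39)) = (LP (LK LD1_c8 LD2_c3 LD3_c24)) :=
  Lgr Lrot70 (Lpr_et (f192721 IH) (Lpr_dt (K12.f101401 IH) (Lpr_et (K12.f192717 IH) (Lpr_dt (K10.f192722 IH) (Lpr_et (K16.f192723 IH) (Lpn (LP (LK LD1_c8 LD2_c3 LD3_c24))))))))
theorem f101411 : Led Lsl_gt (LP (LK LD1_c16 LD2_c33 LD3_c59)) = (LP (LK LD1_c8 LD2_c51 LD3_c39)) :=
  Lre_g IH (LK LD1_c16 LD2_c33 LD3_c59) (LK LD1_c8 LD2_c51 LD3_c39) Lrfl Lrfl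
theorem f196136 : Led Lsl_gt (LP (LK LD1_c8 LD2_c3 LD3_c29)) = (LP (LK LD1_c15 LD2_c10 LD3_c9)) :=
  Lre_g IH (LK LD1_c8 LD2_c3 LD3_c29) (LK LD1_c15 LD2_c10 LD3_c9) Lrfl Lrfl
theorem f196137 : Led Lsl_et (LP (LK LD1_c24 LD2_c59 LD3_c22)) = (LP (LK LD1_c15 LD2_c10 LD3_c9)) :=
  Lre_e IH (LK LD1_c24 LD2_c59 LD3_c22) (LK LD1_c15 LD2_c10 LD3_c9) Lrfl Lrfl
theorem f196138 : Led Lsl_df (LP (LK LD1_c16 LD2_c33 LD3_c59)) = (LP (LK LD1_c24 LD2_c59 LD3_c22)) :=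
  Lgr Lrot170 (Lpr_gt (f101411 IH) (Lpr_df (f192724 IH) (Lpr_et (K16.f192732 IH) (Lpr_gt (K10.f196101 IH) (Lpr_dt (K1.f46876 IH) (Lpr_gt (K13.f181993 IH) (Lpe (K13.f69746 IH) (Lpr_et (K15.f69728 IH) (Lpr_gt (f196136 IH) (Lpe (f196137 IH) (Lpn (LP (LK LD1_c24 LD2_c59 LD3_c22)))))))))))))
theorem f56504 : Led Lsl_et (LP (LK LD1_c12 LD2_c21 LD3_c54)) = (LP (LK LD1_c21 LD2_c28 LD3_c38)) :=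
  Lre_e IH (LK LD1_c12 LD2_c21 LD3_c54) (LK LD1_c21 LD2_c28 LD3_c38) Lrfl Lrfl
theorem f196140 : Led Lsl_gf (LP (LK LD1_c24 LD2_c59 LD3_c22)) = (LP (LK LD1_c21 LD2_c28 LD3_c38)) :=
  Lgr Lrot138 (Lpe (f196138 IH) (Lpr_gt (f101411 IH) (Lpr_df (f192724 IH) (Lpr_et (K16.f192732 IH) (Lpr_gt (K10.f196101 IH) (Lpe (K1.f46714 IH) (Lpr_dt (K8.f56337 IH) (Lpr_gt (K37.f56354 IH) (Lpe (f56498 IH) (Lpr_et (f56504 IH) (Lpn (LP (LK LD1_c21 LD2_c28 LD3_c38)))))))))))))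
theorem f196150 : Led Lsl_dt (LP (LK LD1_c16 LD2_c33 LD3_c59)) = (LP (LK LD1_c24 LD2_c59 LD3_c22)) :=
  Lgr Lrot42 (Lpr_df (f196138 IH) (Lpn (LP (LK LD1_c24 LD2_c59 LD3_c22))))
theorem f16535 : Led Lsl_et (LP (LK LD1_c16 LD2_c33 LD3_c48)) = (LP (LK LD1_c8 LD2_c51 LD3_c34)) :=
  Lre_e IH (LK LD1_c16 LD2_c33 LD3_c48) (LK LD1_c8 LD2_c51 LD3_c34) Lrfl Lrfl
theorem f38888 : Led Lsl_gt (LP (LK LD1_c26 LD2_c21 LD3_c19)) = (LP (LK LD1_c16 LD2_c23 LD3_c25)) :=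
  Lre_g IH (LK LD1_c26 LD2_c21 LD3_c19) (LK LD1_c16 LD2_c23 LD3_c25) Lrfl Lrfl
theorem f443818 : Led Lsl_ef (LP (LK LD1_c26 LD2_c21 LD3_c19)) = (LP (LK LD1_c16 LD2_c33 LD3_c59)) :=
  Lgr Lrot167 (Lpr_gt (f38888 IH) (Lpr_dt (K47.f38887 IH) (Lpe (K37.f38883 IH) (Lpr_df (K37.f40007 IH) (Lpr_et (K9.f16349 IH) (Lpe (K37.f16224 IH) (Lpe (f16535 IH) (Lpr_dt (f443810 IH) (Lpe (f196140 IH) (Lpe (f196150 IH) (Lpn (LP (LK LD1_c16 LD2_c33 LD3_c59)))))))))))))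
theorem f198015 : Led Lsl_gt (LP (LK LD1_c8 LD2_c51 LD3_c45)) = (LP (LK LD1_c16 LD2_c34 LD3_c9)) :=
  Lre_g IH (LK LD1_c8 LD2_c51 LD3_c45) (LK LD1_c16 LD2_c34 LD3_c9) Lrfl Lrfl
theorem f241824 : Led Lsl_gt (LP (LK LD1_c6 LD2_c13 LD3_c6)) = (LP (LK LD1_c6 LD2_c15 LD3_c2)) :=
  Lgr Lrot49 (Lpe (K12.f101354 IH) (Lpe (K12.f69404 IH) (Lpe (K9.f69378 IH) (Lpr_gt (K12.f101488 IH) (Lpr_dt (K13.f241472 IH) (Lpr_gt (K13.f241820 IH) (Lpe (K12.f198343 IH) (Lpe (K13.f227752 IH) (Lpe (K13.f241497 IH) (Lpn (LP (LK LD1_c6 LD2_c15 LD3_c2))))))))))))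
theorem f193497 : Led Lsl_dt (LP (LK LD1_c12 LD2_c5 LD3_c8)) = (LP (LK LD1_c8 LD2_c4 LD3_c50)) :=
  Lgr Lrot77 (Lpe (K16.f69406 IH) (Lpe (K12.f101354 IH) (Lpr_ef (K12.f193491 IH) (Lpe (K12.f34066 IH) (Lpe (K16.f193496 IH) (Lpn (LP (LK LD1_c8 LD2_c4 LD3_c50))))))))
theorem f193522 : Led Lsl_dt (LP (LK LD1_c25 LD2_c1 LD3_c55)) = (LP (LK LD1_c15 LD2_c12 LD3_c54)) :=
  Lre_d IH (LK LD1_c25 LD2_c1 LD3_c55) (LK LD1_c15 LD2_c12 LD3_c54) Lrfl Lrfl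
theorem f410891 : Led Lsl_ef (LP (LK LD1_c16 LD2_c34 LD3_c9)) = (LP (LK LD1_c25 LD2_c1 LD3_c55)) :=
  Lgr Lrot17 (Lpe (f198015 IH) (Lpe (K40.f198014 IH) (Lpr_dt (K12.f198006 IH) (Lpr_gf (K45.f410887 IH) (Lpe (K13.f241497 IH) (Lpe (f241824 IH) (Lpe (K16.f193510 IH) (Lpr_dt (f193497 IH) (Lpe (f193521 IH) (Lpe (f193522 IH) (Lpn (LP (LK LD1_c25 LD2_c1 LD3_c55)))))))))))))
theorem f410897 : Led Lsl_et (LP (LK LD1_c16 LD2_c34 LD3_c9)) = (LP (LK LD1_c25 LD2_c1 LD3_c55)) :=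
  Lgr Lrot87 (Lpr_ef (f410891 IH) (Lpn (LP (LK LD1_c25 LD2_c1 LD3_c55))))
theorem f198016 : Led Lsl_dt (LP (LK LD1_c16 LD2_c34 LD3_c9)) = (LP (LK LD1_c26 LD2_c31 LD3_c19)) :=
  Lre_d IH (LK LD1_c16 LD2_c34 LD3_c9) (LK LD1_c26 LD2_c31 LD3_c19) Lrfl Lrfl
theorem f503192 : Led Lsl_gt (LP (LK LD1_c26 LD2_c7 LD3_c21)) = (LP (LK LD1_c26 LD2_c31 LD3_c19)) :=
  Lgr Lrot112 (Lpr_df (K47.f408176 IH) (Lpr_et (K47.f101349 IH) (Lpe (f38888 IH) (Lpr_ef (f443818 IH) (Lpr_dt (f196150 IH) (Lpr_gf (f196140 IH) (Lpe (f443810 IH) (Lpr_gf (f503190 IH) (Lpe (f410897 IH) (Lpr_dt (f198016 IH) (Lpn (LP (LK LD1_c26 LD2_c31 LD3_c19)))))))))))))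
theorem f609936 : Led Lsl_gt (LP (LK LD1_c26 LD2_c31 LD3_c19)) = (LP (LK LD1_c23 LD2_c9 LD3_c17)) :=
  Lgr Lrot46 (Lpe (f503192 IH) (Lpr_ft (f609754 IH) (Lpr_at (f609934 IH) (Lpn (LP (LK LD1_c23 LD2_c9 LD3_c17))))))
theorem f205010 : Led Lsl_dt (LP (LK LD1_c26 LD2_c31 LD3_c19)) = (LP (LK LD1_c16 LD2_c34 LD3_c9)) :=
  Lre_d IH (LK LD1_c26 LD2_c31 LD3_c19) (LK LD1_c16 LD2_c34 LD3_c9) Lrfl Lrfl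
theorem f410903 : Led Lsl_et (LP (LK LD1_c15 LD2_c12 LD3_c54)) = (LP (LK LD1_c25 LD2_c1 LD3_c56)) :=
  Lre_e IH (LK LD1_c15 LD2_c12 LD3_c54) (LK LD1_c25 LD2_c1 LD3_c56) Lrfl Lrfl
theorem f193526 : Led Lsl_dt (LP (LK LD1_c25 LD2_c1 LD3_c56)) = (LP (LK LD1_c31 LD2_c44 LD3_c49)) :=
  Lre_d IH (LK LD1_c25 LD2_c1 LD3_c56) (LK LD1_c31 LD2_c44 LD3_c49) Lrfl Lrfl
theorem f410904 : Led Lsl_ef (LP (LK LD1_c26 LD2_c31 LD3_c19)) = (LP (LK LD1_c31 LD2_c44 LD3_c49)) :=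
  Lgr Lrot73 (Lpr_dt (f205010 IH) (Lpr_et (f410897 IH) (Lpr_dt (f193522 IH) (Lpr_et (f410903 IH) (Lpr_dt (f193526 IH) (Lpn (LP (LK LD1_c31 LD2_c44 LD3_c49))))))))
theorem f410894 : Led Lsl_dt (LP (LK LD1_c31 LD2_c44 LD3_c49)) = (LP (LK LD1_c25 LD2_c1 LD3_c56)) :=
  Lre_d IH (LK LD1_c31 LD2_c44 LD3_c49) (LK LD1_c25 LD2_c1 LD3_c56) Lrfl Lrfl
theorem f201853 : Led Lsl_ct (LP (LK LD1_c10 LD2_c17 LD3_c34)) = (LP (LK LD1_c5 LD2_c13 LD3_c43)) :=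
  Lre_c IH (LK LD1_c10 LD2_c17 LD3_c34) (LK LD1_c5 LD2_c13 LD3_c43) Lrfl Lrfl
theorem f53277 : Led Lsl_ct (LP (LK LD1_c8 LD2_c23 LD3_c58)) = (LP (LK LD1_c15 LD2_c47 LD3_c30)) :=
  Lre_c IH (LK LD1_c8 LD2_c23 LD3_c58) (LK LD1_c15 LD2_c47 LD3_c30) Lrfl Lrfl
theorem f308253 : Led Lsl_at (LP (LK LD1_c5 LD2_c13 LD3_c43)) = (LP (LK LD1_c8 LD2_c23 LD3_c58)) :=
  Lgr Lrot107 (Lpe (f201853 IH) (Lpr_af (K19.f308247 IH) (Lpe (f53277 IH) (Lpn (LP (LK LD1_c8 LD2_c23 LD3_c58))))))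
theorem f308227 : Led Lsl_ft (LP (LK LD1_c10 LD2_c17 LD3_c38)) = (LP (LK LD1_c5 LD2_c13 LD3_c43)) :=
  Lre_f IH (LK LD1_c10 LD2_c17 LD3_c38) (LK LD1_c5 LD2_c13 LD3_c43) Lrfl Lrfl
theorem f405061 : Led Lsl_gt (LP (LK LD1_c10 LD2_c17 LD3_c38)) = (LP (LK LD1_c15 LD2_c47 LD3_c32)) :=
  Lgr Lrot5 (Lpr_ft (f308227 IH) (Lpr_at (f308253 IH) (Lpe (f53292 IH) (Lpn (LP (LK LD1_c15 LD2_c47 LD3_c32))))))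
theorem f609938 : Led Lsl_gf (LP (LK LD1_c25 LD2_c1 LD3_c56)) = (LP (LK LD1_c15 LD2_c50 LD3_c34)) :=
  Lgr Lrot134 (Lpe (f410894 IH) (Lpe (f410904 IH) (Lpr_gt (f609936 IH) (Lpe (K47.f92587 IH) (Lpr_dt (K47.f92609 IH) (Lpe (K47.f609143 IH) (Lpe (K41.f424480 IH) (Lpe (K19.f308216 IH) (Lpr_gt (f405061 IH) (Lpe (f242154 IH) (Lpn (LP (LK LD1_c15 LD2_c50 LD3_c34)))))))))))))
theorem f211198 : Led Lsl_et (LP (LK LD1_c16 LD2_c27 LD3_c55)) = (LP (LK LD1_c8 LD2_c47 LD3_c54)) :=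
  Lre_e IH (LK LD1_c16 LD2_c27 LD3_c55) (LK LD1_c8 LD2_c47 LD3_c54) Lrfl Lrfl
theorem f609940 : Led Lsl_gt (LP (LK LD1_c8 LD2_c47 LD3_c54)) = (LP (LK LD1_c16 LD2_c27 LD3_c48)) :=
  Lgr Lrot131 (Lpe (f211198 IH) (Lpe (K47.f609843 IH) (Lpe (K47.f92617 IH) (Lpe (K47.f92606 IH) (Lpe (f609936 IH) (Lpr_ef (f410904 IH) (Lpr_dt (f410894 IH) (Lpr_gf (f609938 IH) (Lpr_df (f242154 IH) (Lpr_et (f443074 IH) (Lpn (LP (LK LD1_c16 LD2_c27 LD3_c48)))))))))))))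
theorem f99372 : Led Lsl_ft (LP (LK LD1_c8 LD2_c51 LD3_c24)) = (LP (LK LD1_c16 LD2_c33 LD3_c30)) :=
  Lre_f IH (LK LD1_c8 LD2_c51 LD3_c24) (LK LD1_c16 LD2_c33 LD3_c30) Lrfl Lrfl
theorem f609942 : Led Lsl_at (LP (LK LD1_c16 LD2_c33 LD3_c30)) = (LP (LK LD1_c16 LD2_c27 LD3_c48)) :=
  Lgr Lrot26 (Lpe (f99372 IH) (Lpe (K37.f211182 IH) (Lpr_gt (f609940 IH) (Lpn (LP (LK LD1_c16 LD2_c27 LD3_c48))))))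
theorem f609947 : Led Lsl_dt (LP (LK LD1_c8 LD2_c51 LD3_c25)) = (LP (LK LD1_c16 LD2_c33 LD3_c30)) :=
  Lre_d IH (LK LD1_c8 LD2_c51 LD3_c25) (LK LD1_c16 LD2_c33 LD3_c30) Lrfl Lrfl
theorem f617212 : Led Lsl_af (LP (LK LD1_c8 LD2_c51 LD3_c25)) = (LP (LK LD1_c12 LD2_c7 LD3_c58)) :=
  Lgr Lrot117 (Lpr_dt (f609947 IH) (Lpr_at (f609942 IH) (Lpr_dt (f617210 IH) (Lpn (LP (LK LD1_c12 LD2_c7 LD3_c58))))))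
theorem f696786 : Led Lsl_ff (LP (LK LD1_c12 LD2_c7 LD3_c58)) = v12685 :=
  Lgr Lrot30 (Lpe (f617212 IH) (Lpr_ft (f617217 IH) (Lpr_at (f696782 IH) (Lpn v12685))))
theorem f696787 : Led Lsl_ft (LP (LK LD1_c12 LD2_c7 LD3_c58)) = v12685 :=
  Lgr Lrot48 (Lpr_ff (f696786 IH) (Lpn v12685))
def v4148 : LQ := Led Lsl_ft (LP (LK LD1_c2 LD2_c10 LD3_c32))
theorem f631464 : Led Lsl_ft (LP (LK LD1_c2 LD2_c10 LD3_c32)) = v4148 :=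
  Lrfl
def v4147 : LQ := Led Lsl_at (LP (LK LD1_c2 LD2_c10 LD3_c32))
theorem f631458 : Led Lsl_at (LP (LK LD1_c2 LD2_c10 LD3_c32)) = v4147 :=
  Lrfl
theorem f631459 : Led Lsl_af (LP (LK LD1_c2 LD2_c10 LD3_c32)) = v4147 :=
  Lgr Lrot0 (Lpr_at (f631458 IH) (Lpn v4147))
theorem f631462 : Led Lsl_ft (LP (LK LD1_c2 LD2_c10 LD3_c33)) = v4147 :=
  Lgr Lrot2 (Lpr_gt (K4.f99340 IH) (Lpr_gt (K8.f69509 IH) (Lpr_af (f631459 IH) (Lpn v4147))))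
theorem f631465 : Led Lsl_af (LP (LK LD1_c2 LD2_c10 LD3_c33)) = v4148 :=
  Lgr Lrot45 (Lpr_ft (f631462 IH) (Lpe (f631459 IH) (Lpr_ft (f631464 IH) (Lpn v4148))))
theorem f696785 : Led Lsl_ef v4148 = v12685 :=
  Lgr Lrot20 (Lpe (f631465 IH) (Lpr_et (K37.f227643 IH) (Lpr_at (f696782 IH) (Lpn v12685))))
theorem f631466 : Led Lsl_ff (LP (LK LD1_c2 LD2_c10 LD3_c32)) = v4148 :=
  Lgr Lrot3 (Lpr_ft (f631464 IH) (Lpn v4148))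
theorem f69531 : Led Lsl_ft (LP (LK LD1_c4 LD2_c26 LD3_c46)) = (LP (LK LD1_c8 LD2_c51 LD3_c12)) :=
  Lre_f IH (LK LD1_c4 LD2_c26 LD3_c46) (LK LD1_c8 LD2_c51 LD3_c12) Lrfl Lrfl
theorem f696788 : Led Lsl_ef (LP (LK LD1_c12 LD2_c7 LD3_c58)) = (LP (LK LD1_c8 LD2_c51 LD3_c12)) :=
  Lgr Lrot21 (Lpr_ft (f696787 IH) (Lpe (f696785 IH) (Lpe (f631466 IH) (Lpr_et (K37.f69524 IH) (Lpr_ft (f69531 IH) (Lpn (LP (LK LD1_c8 LD2_c51 LD3_c12))))))))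
theorem f696789 : Led Lsl_et (LP (LK LD1_c8 LD2_c51 LD3_c12)) = (LP (LK LD1_c12 LD2_c7 LD3_c58)) :=
  Leop (Lpr_ef (f696788 IH) (Lpn (LP (LK LD1_c8 LD2_c51 LD3_c12))))
theorem seed_628 : LEOK LG_e (LK LD1_c8 LD2_c51 LD3_c12) :=
  Leoe_e (LK LD1_c8 LD2_c51 LD3_c12) (f696789 IH)
def v12774 : LQ := Led Lsl_at (LP (LK LD1_c4 LD2_c30 LD3_c37))
theorem f698116 : Led Lsl_at (LP (LK LD1_c4 LD2_c30 LD3_c37)) = v12774 :=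
  Lrfl
theorem f698120 : Led Lsl_ff (LP (LK LD1_c5 LD2_c34 LD3_c37)) = v12774 :=
  Lgr Lrot30 (Lpr_at (K30.f226620 IH) (Lpr_ft (K30.f354356 IH) (Lpr_at (f698116 IH) (Lpn v12774))))
theorem f218374 : Led Lsl_bt (LP (LK LD1_c10 LD2_c57 LD3_c56)) = (LP (LK LD1_c10 LD2_c41 LD3_c19)) :=
  Lre_b IH (LK LD1_c10 LD2_c57 LD3_c56) (LK LD1_c10 LD2_c41 LD3_c19) Lrfl Lrfl
theorem f387831 : Led Lsl_gf (LP (LK LD1_c8 LD2_c58 LD3_c41)) = (LP (LK LD1_c5 LD2_c33 LD3_c2)) :=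
  Lgr Lrot126 (Lpe (K24.f379837 IH) (Lpr_bt (K24.f379850 IH) (Lpr_gt (K30.f387825 IH) (Lpr_ct (K30.f318397 IH) (Lpe (K30.f387631 IH) (Lpr_cf (K30.f218362 IH) (Lpr_bt (K30.f218281 IH) (Lpr_gt (K30.f218373 IH) (Lpe (f218374 IH) (Lpr_ct (K40.f218375 IH) (Lpn (LP (LK LD1_c5 LD2_c33 LD3_c2)))))))))))))
theorem f179526 : Led Lsl_gt (LP (LK LD1_c2 LD2_c42 LD3_c41)) = (LP (LK LD1_c1 LD2_c17 LD3_c54)) :=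
  Lre_g IH (LK LD1_c2 LD2_c42 LD3_c41) (LK LD1_c1 LD2_c17 LD3_c54) Lrfl Lrfl
theorem f213747 : Led Lsl_ct (LP (LK LD1_c5 LD2_c32 LD3_c59)) = (LP (LK LD1_c2 LD2_c42 LD3_c41)) :=
  Lre_c IH (LK LD1_c5 LD2_c32 LD3_c59) (LK LD1_c2 LD2_c42 LD3_c41) Lrfl Lrfl
theorem f213749 : Led Lsl_bt (LP (LK LD1_c5 LD2_c32 LD3_c59)) = (LP (LK LD1_c10 LD2_c57 LD3_c44)) :=
  Lre_b IH (LK LD1_c5 LD2_c32 LD3_c59) (LK LD1_c10 LD2_c57 LD3_c44) Lrfl Lrfl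
theorem f329823 : Led Lsl_ct (LP (LK LD1_c5 LD2_c0 LD3_c38)) = (LP (LK LD1_c2 LD2_c38 LD3_c48)) :=
  Lgr Lrot59 (Lpr_cf (K21.f329816 IH) (Lpn (LP (LK LD1_c2 LD2_c38 LD3_c48))))
theorem f329820 : Led Lsl_bt (LP (LK LD1_c5 LD2_c0 LD3_c38)) = (LP (LK LD1_c9 LD2_c51 LD3_c32)) :=
  Lre_b IH (LK LD1_c5 LD2_c0 LD3_c38) (LK LD1_c9 LD2_c51 LD3_c32) Lrfl Lrfl
theorem f329835 : Led Lsl_gf (LP (LK LD1_c10 LD2_c57 LD3_c44)) = (LP (LK LD1_c9 LD2_c51 LD3_c32)) :=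
  Lgr Lrot124 (Lpe (f213749 IH) (Lpr_ct (f213747 IH) (Lpr_gt (f179526 IH) (Lpe (K31.f174183 IH) (Lpr_bt (K31.f213544 IH) (Lpe (K13.f213480 IH) (Lpr_ct (K13.f189129 IH) (Lpr_gt (K21.f329831 IH) (Lpe (f329823 IH) (Lpr_bt (f329820 IH) (Lpn (LP (LK LD1_c9 LD2_c51 LD3_c32)))))))))))))
theorem f346072 : Led Lsl_gt (LP (LK LD1_c10 LD2_c57 LD3_c44)) = (LP (LK LD1_c17 LD2_c51 LD3_c47)) :=
  Lgr Lrot46 (Lpr_gf (f329835 IH) (Lpr_ft (K25.f346063 IH) (Lpr_at (K27.f338102 IH) (Lpn (LP (LK LD1_c17 LD2_c51 LD3_c47))))))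
theorem f394048 : Led Lsl_gt (LP (LK LD1_c4 LD2_c30 LD3_c14)) = (LP (LK LD1_c2 LD2_c42 LD3_c41)) :=
  Lgr Lrot149 (Lpe (K38.f379824 IH) (Lpr_gf (f387831 IH) (Lpe (K20.f213006 IH) (Lpr_ct (K20.f213005 IH) (Lpr_gf (K22.f331783 IH) (Lpe (K22.f235169 IH) (Lpr_bt (K41.f338077 IH) (Lpe (f346072 IH) (Lpe (f213749 IH) (Lpr_ct (f213747 IH) (Lpn (LP (LK LD1_c2 LD2_c42 LD3_c41)))))))))))))
theorem f387507 : Led Lsl_dt (LP (LK LD1_c2 LD2_c42 LD3_c41)) = (LP (LK LD1_c5 LD2_c32 LD3_c60)) :=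
  Lre_d IH (LK LD1_c2 LD2_c42 LD3_c41) (LK LD1_c5 LD2_c32 LD3_c60) Lrfl Lrfl
theorem f399836 : Led Lsl_gt (LP (LK LD1_c5 LD2_c32 LD3_c60)) = (LP (LK LD1_c2 LD2_c43 LD3_c14)) :=
  Lgr Lrot49 (Lpe (f387507 IH) (Lpe (f394048 IH) (Lpe (K38.f379824 IH) (Lpr_gt (K24.f379845 IH) (Lpr_dt (K40.f379847 IH) (Lpr_gt (K40.f399832 IH) (Lpr_dt (K19.f226558 IH) (Lpe (K30.f226560 IH) (Lpr_df (K30.f226530 IH) (Lpn (LP (LK LD1_c2 LD2_c43 LD3_c14))))))))))))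
theorem f698125 : Led Lsl_gf (LP (LK LD1_c5 LD2_c32 LD3_c60)) = v12774 :=
  Lgr Lrot47 (Lpr_gt (f399836 IH) (Lpe (K30.f226620 IH) (Lpr_ff (f698120 IH) (Lpn v12774))))
theorem f394053 : Led Lsl_ct (LP (LK LD1_c5 LD2_c32 LD3_c60)) = (LP (LK LD1_c10 LD2_c57 LD3_c46)) :=
  Lre_c IH (LK LD1_c5 LD2_c32 LD3_c60) (LK LD1_c10 LD2_c57 LD3_c46) Lrfl Lrfl
theorem f698123 : Led Lsl_dt (LP (LK LD1_c4 LD2_c31 LD3_c33)) = v12774 :=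
  Lgr Lrot60 (Lpe (K30.f312995 IH) (Lpe (K30.f226599 IH) (Lpr_ff (f698120 IH) (Lpn v12774))))
theorem f319287 : Led Lsl_ft (LP (LK LD1_c4 LD2_c30 LD3_c57)) = (LP (LK LD1_c2 LD2_c45 LD3_c42)) :=
  Lgr Lrot101 (Lpe (K30.f319286 IH) (Lpr_ff (K20.f319143 IH) (Lpe (K30.f179463 IH) (Lpn (LP (LK LD1_c2 LD2_c45 LD3_c42))))))
theorem f354549 : Led Lsl_ft (LP (LK LD1_c4 LD2_c31 LD3_c33)) = (LP (LK LD1_c2 LD2_c44 LD3_c16)) :=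
  Lgr Lrot75 (Lpr_bf (K30.f354535 IH) (Lpe (f319287 IH) (Lpr_bf (K30.f354506 IH) (Lpn (LP (LK LD1_c2 LD2_c44 LD3_c16))))))
theorem f354553 : Led Lsl_gt (LP (LK LD1_c4 LD2_c31 LD3_c33)) = (LP (LK LD1_c2 LD2_c44 LD3_c15)) :=
  Lgr Lrot5 (Lpr_ft (f354549 IH) (Lpr_at (K30.f226598 IH) (Lpe (K40.f226604 IH) (Lpn (LP (LK LD1_c2 LD2_c44 LD3_c15))))))
theorem f226607 : Led Lsl_ct (LP (LK LD1_c2 LD2_c44 LD3_c15)) = (LP (LK LD1_c5 LD2_c36 LD3_c50)) :=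
  Lre_c IH (LK LD1_c2 LD2_c44 LD3_c15) (LK LD1_c5 LD2_c36 LD3_c50) Lrfl Lrfl
theorem f384969 : Led Lsl_ct (LP (LK LD1_c11 LD2_c5 LD3_c39)) = (LP (LK LD1_c16 LD2_c43 LD3_c36)) :=
  Lgr Lrot40 (Lpr_ff (K30.f384965 IH) (Lpe (K30.f384955 IH) (Lpr_ff (K30.f384729 IH) (Lpn (LP (LK LD1_c16 LD2_c43 LD3_c36))))))
theorem f380743 : Led Lsl_dt (LP (LK LD1_c10 LD2_c57 LD3_c33)) = (LP (LK LD1_c5 LD2_c32 LD3_c55)) :=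
  Lre_d IH (LK LD1_c10 LD2_c57 LD3_c33) (LK LD1_c5 LD2_c32 LD3_c55) Lrfl Lrfl
theorem f172887 : Led Lsl_ct (LP (LK LD1_c10 LD2_c49 LD3_c44)) = (LP (LK LD1_c5 LD2_c29 LD3_c13)) :=
  Lre_c IH (LK LD1_c10 LD2_c49 LD3_c44) (LK LD1_c5 LD2_c29 LD3_c13) Lrfl Lrfl
theorem f399547 : Led Lsl_gt (LP (LK LD1_c11 LD2_c1 LD3_c1)) = (LP (LK LD1_c10 LD2_c49 LD3_c44)) :=
  Lgr Lrot187 (Lpe (K30.f172869 IH) (Lpe (K31.f399496 IH) (Lpr_dt (f380743 IH) (Lpe (K27.f380789 IH) (Lpr_ct (K27.f224501 IH) (Lpr_gt (K27.f224489 IH) (Lpr_ct (K27.f221295 IH) (Lpr_dt (K31.f399537 IH) (Lpe (f172887 IH) (Lpn (LP (LK LD1_c10 LD2_c49 LD3_c44))))))))))))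
theorem f173010 : Led Lsl_bt (LP (LK LD1_c2 LD2_c48 LD3_c36)) = (LP (LK LD1_c4 LD2_c33 LD3_c38)) :=
  Lre_b IH (LK LD1_c2 LD2_c48 LD3_c36) (LK LD1_c4 LD2_c33 LD3_c38) Lrfl Lrfl
theorem f224523 : Led Lsl_gt (LP (LK LD1_c8 LD2_c59 LD3_c25)) = (LP (LK LD1_c5 LD2_c44 LD3_c39)) :=
  Lre_g IH (LK LD1_c8 LD2_c59 LD3_c25) (LK LD1_c5 LD2_c44 LD3_c39) Lrfl Lrfl
theorem f172905 : Led Lsl_ct (LP (LK LD1_c5 LD2_c29 LD3_c13)) = (LP (LK LD1_c10 LD2_c49 LD3_c44)) :=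
  Lre_c IH (LK LD1_c5 LD2_c29 LD3_c13) (LK LD1_c10 LD2_c49 LD3_c44) Lrfl Lrfl
theorem f172886 : Led Lsl_bt (LP (LK LD1_c5 LD2_c29 LD3_c13)) = (LP (LK LD1_c10 LD2_c49 LD3_c43)) :=
  Lre_b IH (LK LD1_c5 LD2_c29 LD3_c13) (LK LD1_c10 LD2_c49 LD3_c43) Lrfl Lrfl
theorem f399549 : Led Lsl_gf (LP (LK LD1_c16 LD2_c48 LD3_c46)) = (LP (LK LD1_c10 LD2_c49 LD3_c43)) :=
  Lgr Lrot181 (Lpr_ct (K30.f173472 IH) (Lpr_gt (f224523 IH) (Lpe (K27.f173526 IH) (Lpr_bt (f173010 IH) (Lpr_gt (K42.f172982 IH) (Lpe (K30.f172868 IH) (Lpr_ct (K30.f172869 IH) (Lpr_gt (f399547 IH) (Lpe (f172905 IH) (Lpr_bt (f172886 IH) (Lpn (LP (LK LD1_c10 LD2_c49 LD3_c43)))))))))))))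
theorem f384708 : Led Lsl_ff (LP (LK LD1_c17 LD2_c56 LD3_c29)) = (LP (LK LD1_c19 LD2_c39 LD3_c0)) :=
  Lgr Lrot3 (Lpr_ft (K30.f384704 IH) (Lpn (LP (LK LD1_c19 LD2_c39 LD3_c0))))
theorem f383134 : Led Lsl_ft (LP (LK LD1_c16 LD2_c48 LD3_c46)) = (LP (LK LD1_c11 LD2_c19 LD3_c18)) :=
  Lgr Lrot4 (Lpe (K31.f173508 IH) (Lpr_ff (K30.f383111 IH) (Lpe (K30.f175124 IH) (Lpn (LP (LK LD1_c11 LD2_c19 LD3_c18))))))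
theorem f384710 : Led Lsl_bt (LP (LK LD1_c17 LD2_c56 LD3_c29)) = (LP (LK LD1_c16 LD2_c48 LD3_c46)) :=
  Lgr Lrot35 (Lpr_ff (f384708 IH) (Lpe (K30.f226586 IH) (Lpe (f383134 IH) (Lpn (LP (LK LD1_c16 LD2_c48 LD3_c46))))))
theorem f399500 : Led Lsl_bt (LP (LK LD1_c5 LD2_c32 LD3_c57)) = (LP (LK LD1_c10 LD2_c57 LD3_c33)) :=
  Lre_b IH (LK LD1_c5 LD2_c32 LD3_c57) (LK LD1_c10 LD2_c57 LD3_c33) Lrfl Lrfl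
theorem f266950 : Led Lsl_ct (LP (LK LD1_c5 LD2_c32 LD3_c57)) = (LP (LK LD1_c10 LD2_c57 LD3_c40)) :=
  Lre_c IH (LK LD1_c5 LD2_c32 LD3_c57) (LK LD1_c10 LD2_c57 LD3_c40) Lrfl Lrfl
theorem f380816 : Led Lsl_gt (LP (LK LD1_c19 LD2_c47 LD3_c42)) = (LP (LK LD1_c10 LD2_c57 LD3_c40)) :=
  Lre_g IH (LK LD1_c19 LD2_c47 LD3_c42) (LK LD1_c10 LD2_c57 LD3_c40) Lrfl Lrfl
theorem f399557 : Led Lsl_ct (LP (LK LD1_c17 LD2_c56 LD3_c29)) = (LP (LK LD1_c19 LD2_c47 LD3_c42)) :=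
  Lgr Lrot64 (Lpr_bt (f384710 IH) (Lpr_gf (f399549 IH) (Lpe (f172886 IH) (Lpr_ct (f172905 IH) (Lpe (f399547 IH) (Lpe (K30.f172869 IH) (Lpe (K31.f399496 IH) (Lpe (f399500 IH) (Lpr_ct (f266950 IH) (Lpe (f380816 IH) (Lpn (LP (LK LD1_c19 LD2_c47 LD3_c42)))))))))))))
theorem f399561 : Led Lsl_cf (LP (LK LD1_c17 LD2_c56 LD3_c29)) = (LP (LK LD1_c19 LD2_c47 LD3_c42)) :=
  Lgr Lrot11 (Lpr_ct (f399557 IH) (Lpn (LP (LK LD1_c19 LD2_c47 LD3_c42))))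
theorem f698126 : Led Lsl_gt (LP (LK LD1_c10 LD2_c57 LD3_c46)) = (LP (LK LD1_c19 LD2_c47 LD3_c42)) :=
  Lgr Lrot150 (Lpe (f394053 IH) (Lpr_gf (f698125 IH) (Lpe (f698123 IH) (Lpr_gt (f354553 IH) (Lpr_ct (f226607 IH) (Lpe (K40.f385056 IH) (Lpr_ct (f384969 IH) (Lpe (K31.f384718 IH) (Lpr_cf (f399561 IH) (Lpn (LP (LK LD1_c19 LD2_c47 LD3_c42))))))))))))
theorem f698127 : Led Lsl_gt (LP (LK LD1_c10 LD2_c57 LD3_c46)) = (LP (LK LD1_c19 LD2_c47 LD3_c42)) :=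
  Leop (Lpe (f698126 IH) (Lpn (LP (LK LD1_c10 LD2_c57 LD3_c46))))
theorem seed_629 : LEOK LG_g (LK LD1_c10 LD2_c57 LD3_c46) :=
  Leoe_g (LK LD1_c10 LD2_c57 LD3_c46) (f698127 IH)
def v12790 : LQ := Led Lsl_at (LP (LK LD1_c4 LD2_c30 LD3_c55))
theorem f698224 : Led Lsl_at (LP (LK LD1_c4 LD2_c30 LD3_c55)) = v12790 :=
  Lrfl
theorem f698225 : Led Lsl_af (LP (LK LD1_c4 LD2_c30 LD3_c55)) = v12790 :=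
  Lgr Lrot0 (Lpr_at (f698224 IH) (Lpn v12790))
theorem f199454 : Led Lsl_dt (LP (LK LD1_c19 LD2_c54 LD3_c10)) = (LP (LK LD1_c11 LD2_c2 LD3_c45)) :=
  Lre_d IH (LK LD1_c19 LD2_c54 LD3_c10) (LK LD1_c11 LD2_c2 LD3_c45) Lrfl Lrfl
theorem f698226 : Led Lsl_ft (LP (LK LD1_c4 LD2_c30 LD3_c56)) = v12790 :=
  Lgr Lrot2 (Lpr_gt (K30.f179858 IH) (Lpr_gt (K30.f167850 IH) (Lpr_af (f698225 IH) (Lpn v12790))))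
theorem f384364 : Led Lsl_dt (LP (LK LD1_c10 LD2_c59 LD3_c16)) = (LP (LK LD1_c19 LD2_c49 LD3_c61)) :=
  Lre_d IH (LK LD1_c10 LD2_c59 LD3_c16) (LK LD1_c19 LD2_c49 LD3_c61) Lrfl Lrfl
theorem f698227 : Led Lsl_cf (LP (LK LD1_c19 LD2_c54 LD3_c10)) = (LP (LK LD1_c19 LD2_c49 LD3_c61)) :=
  Lgr Lrot116 (Lpr_dt (f199454 IH) (Lpe (K31.f385098 IH) (Lpr_dt (K31.f174010 IH) (Lpr_ct (K30.f225265 IH) (Lpr_af (f698225 IH) (Lpe (f698226 IH) (Lpe (K30.f384357 IH) (Lpr_ct (K31.f384363 IH) (Lpr_dt (f384364 IH) (Lpn (LP (LK LD1_c19 LD2_c49 LD3_c61))))))))))))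
theorem f698228 : Led Lsl_ct (LP (LK LD1_c19 LD2_c49 LD3_c61)) = (LP (LK LD1_c19 LD2_c54 LD3_c10)) :=
  Leop (Lpr_cf (f698227 IH) (Lpn (LP (LK LD1_c19 LD2_c49 LD3_c61))))
theorem seed_630 : LEOK LG_c (LK LD1_c19 LD2_c49 LD3_c61) :=
  Leoe_c (LK LD1_c19 LD2_c49 LD3_c61) (f698228 IH)
def v12803 : LQ := Led Lsl_at (LP (LK LD1_c4 LD2_c31 LD3_c31))
theorem f698285 : Led Lsl_at (LP (LK LD1_c4 LD2_c31 LD3_c31)) = v12803 :=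
  Lrfl
theorem f698286 : Led Lsl_af (LP (LK LD1_c4 LD2_c31 LD3_c31)) = v12803 :=
  Lgr Lrot0 (Lpr_at (f698285 IH) (Lpn v12803))
theorem f385071 : Led Lsl_dt (LP (LK LD1_c16 LD2_c50 LD3_c57)) = (LP (LK LD1_c9 LD2_c1 LD3_c0)) :=
  Lre_d IH (LK LD1_c16 LD2_c50 LD3_c57) (LK LD1_c9 LD2_c1 LD3_c0) Lrfl Lrfl
theorem f379827 : Led Lsl_dt (LP (LK LD1_c8 LD2_c58 LD3_c41)) = (LP (LK LD1_c16 LD2_c47 LD3_c50)) :=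
  Lre_d IH (LK LD1_c8 LD2_c58 LD3_c41) (LK LD1_c16 LD2_c47 LD3_c50) Lrfl Lrfl
theorem f379828 : Led Lsl_ft (LP (LK LD1_c16 LD2_c47 LD3_c50)) = (LP (LK LD1_c10 LD2_c57 LD3_c49)) :=
  Lgr Lrot54 (Lpe (f379827 IH) (Lpr_ff (K24.f379815 IH) (Lpe (K45.f319922 IH) (Lpn (LP (LK LD1_c10 LD2_c57 LD3_c49))))))
theorem f213736 : Led Lsl_at (LP (LK LD1_c10 LD2_c57 LD3_c49)) = (LP (LK LD1_c5 LD2_c33 LD3_c4)) :=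
  Lre_a IH (LK LD1_c10 LD2_c57 LD3_c49) (LK LD1_c5 LD2_c33 LD3_c4) Lrfl Lrfl
theorem f213704 : Led Lsl_gt (LP (LK LD1_c10 LD2_c58 LD3_c0)) = (LP (LK LD1_c5 LD2_c33 LD3_c4)) :=
  Lre_g IH (LK LD1_c10 LD2_c58 LD3_c0) (LK LD1_c5 LD2_c33 LD3_c4) Lrfl Lrfl
theorem f394065 : Led Lsl_gt (LP (LK LD1_c16 LD2_c47 LD3_c50)) = (LP (LK LD1_c10 LD2_c58 LD3_c0)) :=
  Lgr Lrot5 (Lpr_ft (f379828 IH) (Lpr_at (f213736 IH) (Lpe (f213704 IH) (Lpn (LP (LK LD1_c10 LD2_c58 LD3_c0))))))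
theorem f174187 : Led Lsl_dt (LP (LK LD1_c10 LD2_c56 LD3_c53)) = (LP (LK LD1_c19 LD2_c46 LD3_c32)) :=
  Lre_d IH (LK LD1_c10 LD2_c56 LD3_c53) (LK LD1_c19 LD2_c46 LD3_c32) Lrfl Lrfl
theorem f174159 : Led Lsl_ct (LP (LK LD1_c2 LD2_c42 LD3_c44)) = (LP (LK LD1_c5 LD2_c33 LD3_c8)) :=
  Lre_c IH (LK LD1_c2 LD2_c42 LD3_c44) (LK LD1_c5 LD2_c33 LD3_c8) Lrfl Lrfl
theorem f174160 : Led Lsl_gt (LP (LK LD1_c10 LD2_c58 LD3_c13)) = (LP (LK LD1_c5 LD2_c33 LD3_c8)) :=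
  Lre_g IH (LK LD1_c10 LD2_c58 LD3_c13) (LK LD1_c5 LD2_c33 LD3_c8) Lrfl Lrfl
theorem f174132 : Led Lsl_gt (LP (LK LD1_c2 LD2_c42 LD3_c30)) = (LP (LK LD1_c5 LD2_c32 LD3_c41)) :=
  Lre_g IH (LK LD1_c2 LD2_c42 LD3_c30) (LK LD1_c5 LD2_c32 LD3_c41) Lrfl Lrfl
theorem f174161 : Led Lsl_bt (LP (LK LD1_c10 LD2_c57 LD3_c6)) = (LP (LK LD1_c5 LD2_c32 LD3_c41)) :=
  Lre_b IH (LK LD1_c10 LD2_c57 LD3_c6) (LK LD1_c5 LD2_c32 LD3_c41) Lrfl Lrfl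
theorem f174162 : Led Lsl_cf (LP (LK LD1_c10 LD2_c58 LD3_c13)) = (LP (LK LD1_c10 LD2_c57 LD3_c6)) :=
  Lgr Lrot160 (Lpr_gt (f174160 IH) (Lpe (f174159 IH) (Lpr_bt (K24.f174158 IH) (Lpr_gt (K9.f174127 IH) (Lpr_ct (K9.f174129 IH) (Lpr_gt (K9.f174128 IH) (Lpe (K20.f174108 IH) (Lpr_bt (K20.f174117 IH) (Lpr_gt (f174132 IH) (Lpe (f174161 IH) (Lpn (LP (LK LD1_c10 LD2_c57 LD3_c6)))))))))))))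
theorem f174181 : Led Lsl_ct (LP (LK LD1_c5 LD2_c33 LD3_c8)) = (LP (LK LD1_c2 LD2_c42 LD3_c44)) :=
  Lre_c IH (LK LD1_c5 LD2_c33 LD3_c8) (LK LD1_c2 LD2_c42 LD3_c44) Lrfl Lrfl
theorem f174188 : Led Lsl_gt (LP (LK LD1_c19 LD2_c46 LD3_c32)) = (LP (LK LD1_c10 LD2_c57 LD3_c6)) :=
  Lgr Lrot9 (Lpe (f174187 IH) (Lpr_gt (K30.f174186 IH) (Lpr_ct (K24.f174185 IH) (Lpr_gt (K24.f174184 IH) (Lpr_ct (K31.f174183 IH) (Lpe (K24.f174182 IH) (Lpe (f174181 IH) (Lpe (f174160 IH) (Lpr_cf (f174162 IH) (Lpn (LP (LK LD1_c10 LD2_c57 LD3_c6))))))))))))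
theorem f391319 : Led Lsl_ct (LP (LK LD1_c10 LD2_c59 LD3_c32)) = (LP (LK LD1_c8 LD2_c57 LD3_c22)) :=
  Lgr Lrot59 (Lpr_cf (K31.f390843 IH) (Lpn (LP (LK LD1_c8 LD2_c57 LD3_c22))))
theorem f173427 : Led Lsl_ct (LP (LK LD1_c4 LD2_c33 LD3_c36)) = (LP (LK LD1_c9 LD2_c4 LD3_c48)) :=
  Lre_c IH (LK LD1_c4 LD2_c33 LD3_c36) (LK LD1_c9 LD2_c4 LD3_c48) Lrfl Lrfl
theorem f173428 : Led Lsl_gt (LP (LK LD1_c9 LD2_c4 LD3_c48)) = (LP (LK LD1_c16 LD2_c56 LD3_c31)) :=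
  Lre_g IH (LK LD1_c9 LD2_c4 LD3_c48) (LK LD1_c16 LD2_c56 LD3_c31) Lrfl Lrfl
theorem f173425 : Led Lsl_gt (LP (LK LD1_c8 LD2_c56 LD3_c19)) = (LP (LK LD1_c4 LD2_c28 LD3_c60)) :=
  Lre_g IH (LK LD1_c8 LD2_c56 LD3_c19) (LK LD1_c4 LD2_c28 LD3_c60) Lrfl Lrfl
theorem f173426 : Led Lsl_bt (LP (LK LD1_c16 LD2_c43 LD3_c55)) = (LP (LK LD1_c8 LD2_c56 LD3_c19)) :=
  Lre_b IH (LK LD1_c16 LD2_c43 LD3_c55) (LK LD1_c8 LD2_c56 LD3_c19) Lrfl Lrfl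
theorem f173429 : Led Lsl_ct (LP (LK LD1_c16 LD2_c43 LD3_c55)) = (LP (LK LD1_c16 LD2_c56 LD3_c31)) :=
  Lgr Lrot63 (Lpr_bt (f173426 IH) (Lpr_gt (f173425 IH) (Lpe (K27.f173404 IH) (Lpr_ct (K9.f173382 IH) (Lpr_gt (K9.f173380 IH) (Lpe (K9.f173419 IH) (Lpr_bt (K31.f173420 IH) (Lpr_gt (K31.f173421 IH) (Lpr_ct (f173427 IH) (Lpr_gt (f173428 IH) (Lpn (LP (LK LD1_c16 LD2_c56 LD3_c31)))))))))))))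
theorem f173433 : Led Lsl_cf (LP (LK LD1_c16 LD2_c43 LD3_c55)) = (LP (LK LD1_c16 LD2_c56 LD3_c31)) :=
  Lgr Lrot11 (Lpr_ct (f173429 IH) (Lpn (LP (LK LD1_c16 LD2_c56 LD3_c31))))
theorem f391331 : Led Lsl_dt (LP (LK LD1_c8 LD2_c57 LD3_c22)) = (LP (LK LD1_c16 LD2_c43 LD3_c55)) :=
  Lgr Lrot27 (Lpe (f391319 IH) (Lpe (K31.f387798 IH) (Lpe (K30.f387628 IH) (Lpr_gf (K31.f391324 IH) (Lpe (K42.f173440 IH) (Lpr_gt (K31.f173421 IH) (Lpr_ct (f173427 IH) (Lpr_gt (f173428 IH) (Lpe (f173433 IH) (Lpn (LP (LK LD1_c16 LD2_c43 LD3_c55))))))))))))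
theorem f390756 : Led Lsl_ct (LP (LK LD1_c10 LD2_c59 LD3_c35)) = (LP (LK LD1_c5 LD2_c33 LD3_c48)) :=
  Lre_c IH (LK LD1_c10 LD2_c59 LD3_c35) (LK LD1_c5 LD2_c33 LD3_c48) Lrfl Lrfl
theorem f332371 : Led Lsl_af (LP (LK LD1_c10 LD2_c41 LD3_c21)) = (LP (LK LD1_c9 LD2_c44 LD3_c3)) :=
  Lgr Lrot45 (Lpr_ft (K31.f332370 IH) (Lpr_at (K22.f332369 IH) (Lpr_ft (K22.f332364 IH) (Lpn (LP (LK LD1_c9 LD2_c44 LD3_c3))))))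
theorem f384848 : Led Lsl_gt (LP (LK LD1_c10 LD2_c41 LD3_c36)) = (LP (LK LD1_c10 LD2_c52 LD3_c22)) :=
  Lgr Lrot5 (Lpr_ft (K22.f332364 IH) (Lpe (f332371 IH) (Lpr_gf (K30.f384829 IH) (Lpn (LP (LK LD1_c10 LD2_c52 LD3_c22))))))
theorem f391322 : Led Lsl_gt (LP (LK LD1_c5 LD2_c25 LD3_c19)) = (LP (LK LD1_c8 LD2_c57 LD3_c22)) :=
  Lgr Lrot9 (Lpe (K31.f226275 IH) (Lpr_gt (f384848 IH) (Lpr_ct (K31.f384832 IH) (Lpe (K31.f390829 IH) (Lpr_ct (f390756 IH) (Lpe (K31.f390753 IH) (Lpe (K31.f390760 IH) (Lpe (K31.f390833 IH) (Lpr_cf (K31.f390843 IH) (Lpn (LP (LK LD1_c8 LD2_c57 LD3_c22))))))))))))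
theorem f218418 : Led Lsl_dt (LP (LK LD1_c1 LD2_c16 LD3_c22)) = (LP (LK LD1_c2 LD2_c39 LD3_c8)) :=
  Lre_d IH (LK LD1_c1 LD2_c16 LD3_c22) (LK LD1_c2 LD2_c39 LD3_c8) Lrfl Lrfl
theorem f391372 : Led Lsl_gf (LP (LK LD1_c11 LD2_c1 LD3_c5)) = (LP (LK LD1_c16 LD2_c43 LD3_c55)) :=
  Lgr Lrot143 (Lpe (K42.f382892 IH) (Lpr_cf (K31.f382882 IH) (Lpr_df (K42.f277372 IH) (Lpe (K30.f218403 IH) (Lpe (f218418 IH) (Lpe (K14.f179523 IH) (Lpe (K31.f169326 IH) (Lpr_gt (f391322 IH) (Lpr_dt (f391331 IH) (Lpn (LP (LK LD1_c16 LD2_c43 LD3_c55))))))))))))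
theorem f384470 : Led Lsl_gt (LP (LK LD1_c5 LD2_c34 LD3_c27)) = (LP (LK LD1_c9 LD2_c4 LD3_c1)) :=
  Lre_g IH (LK LD1_c5 LD2_c34 LD3_c27) (LK LD1_c9 LD2_c4 LD3_c1) Lrfl Lrfl
theorem f391374 : Led Lsl_gt (LP (LK LD1_c8 LD2_c57 LD3_c22)) = (LP (LK LD1_c5 LD2_c25 LD3_c14)) :=
  Lgr Lrot146 (Lpr_dt (f391331 IH) (Lpe (f391372 IH) (Lpr_ct (K31.f172934 IH) (Lpr_gt (f384470 IH) (Lpr_ct (K42.f173002 IH) (Lpr_dt (K30.f175239 IH) (Lpe (K12.f218302 IH) (Lpe (K12.f218298 IH) (Lpe (K30.f218280 IH) (Lpn (LP (LK LD1_c5 LD2_c25 LD3_c14))))))))))))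
theorem f374655 : Led Lsl_bt (LP (LK LD1_c4 LD2_c29 LD3_c34)) = (LP (LK LD1_c8 LD2_c57 LD3_c22)) :=
  Lre_b IH (LK LD1_c4 LD2_c29 LD3_c34) (LK LD1_c8 LD2_c57 LD3_c22) Lrfl Lrfl
theorem f281161 : Led Lsl_ct (LP (LK LD1_c4 LD2_c29 LD3_c34)) = (LP (LK LD1_c8 LD2_c57 LD3_c23)) :=
  Lre_c IH (LK LD1_c4 LD2_c29 LD3_c34) (LK LD1_c8 LD2_c57 LD3_c23) Lrfl Lrfl
theorem f169324 : Led Lsl_ct (LP (LK LD1_c2 LD2_c42 LD3_c59)) = (LP (LK LD1_c5 LD2_c25 LD3_c11)) :=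
  Lre_c IH (LK LD1_c2 LD2_c42 LD3_c59) (LK LD1_c5 LD2_c25 LD3_c11) Lrfl Lrfl
theorem f169323 : Led Lsl_bt (LP (LK LD1_c2 LD2_c42 LD3_c59)) = (LP (LK LD1_c4 LD2_c30 LD3_c19)) :=
  Lre_b IH (LK LD1_c2 LD2_c42 LD3_c59) (LK LD1_c4 LD2_c30 LD3_c19) Lrfl Lrfl
theorem f267351 : Led Lsl_gt (LP (LK LD1_c4 LD2_c30 LD3_c19)) = (LP (LK LD1_c2 LD2_c12 LD3_c11)) :=
  Lre_g IH (LK LD1_c4 LD2_c30 LD3_c19) (LK LD1_c2 LD2_c12 LD3_c11) Lrfl Lrfl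
theorem f391376 : Led Lsl_bt (LP (LK LD1_c4 LD2_c30 LD3_c26)) = (LP (LK LD1_c2 LD2_c12 LD3_c11)) :=
  Lre_b IH (LK LD1_c4 LD2_c30 LD3_c26) (LK LD1_c2 LD2_c12 LD3_c11) Lrfl Lrfl
theorem f384885 : Led Lsl_ct (LP (LK LD1_c4 LD2_c30 LD3_c26)) = (LP (LK LD1_c8 LD2_c59 LD3_c10)) :=
  Lre_c IH (LK LD1_c4 LD2_c30 LD3_c26) (LK LD1_c8 LD2_c59 LD3_c10) Lrfl Lrfl
theorem f391377 : Led Lsl_gf (LP (LK LD1_c8 LD2_c57 LD3_c23)) = (LP (LK LD1_c8 LD2_c59 LD3_c10)) :=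
  Lgr Lrot126 (Lpe (f281161 IH) (Lpr_bt (f374655 IH) (Lpr_gt (f391374 IH) (Lpr_ct (K30.f218280 IH) (Lpr_gt (K12.f218298 IH) (Lpe (f169324 IH) (Lpr_bt (f169323 IH) (Lpr_gt (f267351 IH) (Lpe (f391376 IH) (Lpr_ct (f384885 IH) (Lpn (LP (LK LD1_c8 LD2_c59 LD3_c10)))))))))))))
theorem f391379 : Led Lsl_gf (LP (LK LD1_c4 LD2_c30 LD3_c26)) = (LP (LK LD1_c8 LD2_c58 LD3_c14)) :=
  Lgr Lrot181 (Lpr_ct (f384885 IH) (Lpe (f391377 IH) (Lpe (f281161 IH) (Lpr_bt (f374655 IH) (Lpr_gt (f391374 IH) (Lpe (K30.f218281 IH) (Lpe (K30.f218362 IH) (Lpe (K41.f385138 IH) (Lpe (K22.f168162 IH) (Lpr_bt (K31.f168119 IH) (Lpn (LP (LK LD1_c8 LD2_c58 LD3_c14)))))))))))))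
theorem f281644 : Led Lsl_dt (LP (LK LD1_c4 LD2_c30 LD3_c26)) = (LP (LK LD1_c8 LD2_c59 LD3_c11)) :=
  Lre_d IH (LK LD1_c4 LD2_c30 LD3_c26) (LK LD1_c8 LD2_c59 LD3_c11) Lrfl Lrfl
theorem f178106 : Led Lsl_gt (LP (LK LD1_c4 LD2_c28 LD3_c49)) = (LP (LK LD1_c8 LD2_c55 LD3_c54)) :=
  Lre_g IH (LK LD1_c4 LD2_c28 LD3_c49) (LK LD1_c8 LD2_c55 LD3_c54) Lrfl Lrfl
theorem f226222 : Led Lsl_ct (LP (LK LD1_c8 LD2_c55 LD3_c54)) = (LP (LK LD1_c16 LD2_c43 LD3_c7)) :=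
  Lre_c IH (LK LD1_c8 LD2_c55 LD3_c54) (LK LD1_c16 LD2_c43 LD3_c7) Lrfl Lrfl
theorem f281681 : Led Lsl_df (LP (LK LD1_c16 LD2_c43 LD3_c7)) = (LP (LK LD1_c16 LD2_c48 LD3_c24)) :=
  Lgr Lrot162 (Lpe (f226222 IH) (Lpe (f178106 IH) (Lpe (K30.f173443 IH) (Lpe (K30.f183319 IH) (Lpr_dt (K30.f226211 IH) (Lpr_gt (K20.f174388 IH) (Lpr_ct (K20.f174118 IH) (Lpr_gt (K20.f174336 IH) (Lpr_ct (K31.f281660 IH) (Lpn (LP (LK LD1_c16 LD2_c48 LD3_c24))))))))))))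
theorem f178107 : Led Lsl_ct (LP (LK LD1_c16 LD2_c43 LD3_c7)) = (LP (LK LD1_c8 LD2_c55 LD3_c54)) :=
  Lre_c IH (LK LD1_c16 LD2_c43 LD3_c7) (LK LD1_c8 LD2_c55 LD3_c54) Lrfl Lrfl
theorem f168132 : Led Lsl_gt (LP (LK LD1_c5 LD2_c32 LD3_c20)) = (LP (LK LD1_c10 LD2_c56 LD3_c18)) :=
  Lre_g IH (LK LD1_c5 LD2_c32 LD3_c20) (LK LD1_c10 LD2_c56 LD3_c18) Lrfl Lrfl
theorem f391384 : Led Lsl_df (LP (LK LD1_c8 LD2_c55 LD3_c54)) = (LP (LK LD1_c10 LD2_c56 LD3_c18)) :=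
  Lgr Lrot84 (Lpe (f178107 IH) (Lpr_df (f281681 IH) (Lpe (K20.f281640 IH) (Lpe (f281644 IH) (Lpr_gf (f391379 IH) (Lpr_cf (K41.f168125 IH) (Lpr_gt (K24.f168108 IH) (Lpr_dt (K30.f168131 IH) (Lpr_gt (f168132 IH) (Lpn (LP (LK LD1_c10 LD2_c56 LD3_c18))))))))))))
theorem f391403 : Led Lsl_dt (LP (LK LD1_c8 LD2_c55 LD3_c54)) = (LP (LK LD1_c10 LD2_c56 LD3_c18)) :=
  Lgr Lrot42 (Lpr_df (f391384 IH) (Lpn (LP (LK LD1_c10 LD2_c56 LD3_c18))))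
theorem f281115 : Led Lsl_gt (LP (LK LD1_c10 LD2_c56 LD3_c18)) = (LP (LK LD1_c16 LD2_c45 LD3_c33)) :=
  Lgr Lrot46 (Lpe (f168132 IH) (Lpr_ft (K30.f281094 IH) (Lpr_at (K30.f261941 IH) (Lpn (LP (LK LD1_c16 LD2_c45 LD3_c33))))))
theorem f281166 : Led Lsl_at (LP (LK LD1_c5 LD2_c32 LD3_c39)) = (LP (LK LD1_c2 LD2_c42 LD3_c30)) :=
  Lre_a IH (LK LD1_c5 LD2_c32 LD3_c39) (LK LD1_c2 LD2_c42 LD3_c30) Lrfl Lrfl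
theorem f281167 : Led Lsl_ft (LP (LK LD1_c2 LD2_c42 LD3_c30)) = (LP (LK LD1_c4 LD2_c29 LD3_c36)) :=
  Lgr Lrot101 (Lpe (f281166 IH) (Lpr_ff (K20.f281155 IH) (Lpe (K31.f280962 IH) (Lpn (LP (LK LD1_c4 LD2_c29 LD3_c36))))))
theorem f281315 : Led Lsl_gt (LP (LK LD1_c5 LD2_c32 LD3_c41)) = (LP (LK LD1_c8 LD2_c57 LD3_c24)) :=
  Lgr Lrot46 (Lpe (f174132 IH) (Lpr_ft (f281167 IH) (Lpr_at (K31.f280962 IH) (Lpn (LP (LK LD1_c8 LD2_c57 LD3_c24))))))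
theorem f391413 : Led Lsl_dt (LP (LK LD1_c4 LD2_c28 LD3_c57)) = (LP (LK LD1_c5 LD2_c32 LD3_c41)) :=
  Lgr Lrot57 (Lpe (K27.f173476 IH) (Lpe (K31.f179220 IH) (Lpr_gt (f178106 IH) (Lpr_dt (f391403 IH) (Lpr_gt (f281115 IH) (Lpr_dt (K30.f281089 IH) (Lpe (K20.f281083 IH) (Lpe (K31.f281084 IH) (Lpe (f281315 IH) (Lpn (LP (LK LD1_c5 LD2_c32 LD3_c41))))))))))))
theorem f174168 : Led Lsl_bt (LP (LK LD1_c5 LD2_c32 LD3_c41)) = (LP (LK LD1_c10 LD2_c57 LD3_c6)) :=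
  Lre_b IH (LK LD1_c5 LD2_c32 LD3_c41) (LK LD1_c10 LD2_c57 LD3_c6) Lrfl Lrfl
theorem f391424 : Led Lsl_df (LP (LK LD1_c8 LD2_c56 LD3_c11)) = (LP (LK LD1_c10 LD2_c57 LD3_c6)) :=
  Lgr Lrot12 (Lpr_bt (K30.f276225 IH) (Lpr_dt (f391413 IH) (Lpr_bt (f174168 IH) (Lpn (LP (LK LD1_c10 LD2_c57 LD3_c6))))))
theorem f394067 : Led Lsl_df (LP (LK LD1_c9 LD2_c0 LD3_c48)) = (LP (LK LD1_c10 LD2_c58 LD3_c0)) :=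
  Lgr Lrot84 (Lpe (K30.f276227 IH) (Lpr_df (f391424 IH) (Lpe (f174188 IH) (Lpe (f174187 IH) (Lpe (K30.f387522 IH) (Lpe (K30.f213486 IH) (Lpe (f387831 IH) (Lpr_dt (f379827 IH) (Lpr_gt (f394065 IH) (Lpn (LP (LK LD1_c10 LD2_c58 LD3_c0))))))))))))
theorem f384950 : Led Lsl_dt (LP (LK LD1_c9 LD2_c1 LD3_c0)) = (LP (LK LD1_c16 LD2_c50 LD3_c57)) :=
  Lre_d IH (LK LD1_c9 LD2_c1 LD3_c0) (LK LD1_c16 LD2_c50 LD3_c57) Lrfl Lrfl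
theorem f213698 : Led Lsl_ct (LP (LK LD1_c5 LD2_c33 LD3_c4)) = (LP (LK LD1_c10 LD2_c58 LD3_c1)) :=
  Lre_c IH (LK LD1_c5 LD2_c33 LD3_c4) (LK LD1_c10 LD2_c58 LD3_c1) Lrfl Lrfl
theorem f213741 : Led Lsl_gt (LP (LK LD1_c10 LD2_c58 LD3_c1)) = (LP (LK LD1_c19 LD2_c48 LD3_c19)) :=
  Lre_g IH (LK LD1_c10 LD2_c58 LD3_c1) (LK LD1_c19 LD2_c48 LD3_c19) Lrfl Lrfl
theorem f394076 : Led Lsl_cf (LP (LK LD1_c16 LD2_c50 LD3_c57)) = (LP (LK LD1_c19 LD2_c48 LD3_c19)) :=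
  Lgr Lrot99 (Lpe (f384950 IH) (Lpe (K31.f235860 IH) (Lpe (K30.f181956 IH) (Lpe (K19.f235845 IH) (Lpe (K30.f235855 IH) (Lpr_df (f394067 IH) (Lpr_gt (f213704 IH) (Lpr_ct (f213698 IH) (Lpr_gt (f213741 IH) (Lpn (LP (LK LD1_c19 LD2_c48 LD3_c19))))))))))))
theorem f226613 : Led Lsl_dt (LP (LK LD1_c5 LD2_c35 LD3_c46)) = (LP (LK LD1_c11 LD2_c3 LD3_c47)) :=
  Lre_d IH (LK LD1_c5 LD2_c35 LD3_c46) (LK LD1_c11 LD2_c3 LD3_c47) Lrfl Lrfl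
theorem f380049 : Led Lsl_bt (LP (LK LD1_c9 LD2_c1 LD3_c41)) = (LP (LK LD1_c16 LD2_c51 LD3_c34)) :=
  Lre_b IH (LK LD1_c9 LD2_c1 LD3_c41) (LK LD1_c16 LD2_c51 LD3_c34) Lrfl Lrfl
theorem f380175 : Led Lsl_df (LP (LK LD1_c20 LD2_c6 LD3_c30)) = (LP (LK LD1_c16 LD2_c51 LD3_c34)) :=
  Lgr Lrot12 (Lpr_bt (K40.f380174 IH) (Lpr_dt (K30.f380170 IH) (Lpr_bt (f380049 IH) (Lpn (LP (LK LD1_c16 LD2_c51 LD3_c34))))))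
theorem f175136 : Led Lsl_dt (LP (LK LD1_c5 LD2_c34 LD3_c38)) = (LP (LK LD1_c11 LD2_c1 LD3_c37)) :=
  Lre_d IH (LK LD1_c5 LD2_c34 LD3_c38) (LK LD1_c11 LD2_c1 LD3_c37) Lrfl Lrfl
theorem f380559 : Led Lsl_cf (LP (LK LD1_c16 LD2_c51 LD3_c34)) = (LP (LK LD1_c11 LD2_c1 LD3_c37)) :=
  Lgr Lrot161 (Lpe (f380175 IH) (Lpr_ct (K40.f380555 IH) (Lpe (K40.f380554 IH) (Lpe (K40.f313013 IH) (Lpr_dt (K19.f226558 IH) (Lpr_ct (K30.f178046 IH) (Lpe (K30.f226584 IH) (Lpr_ct (K30.f175096 IH) (Lpr_dt (f175136 IH) (Lpn (LP (LK LD1_c11 LD2_c1 LD3_c37))))))))))))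
theorem f380561 : Led Lsl_ct (LP (LK LD1_c16 LD2_c51 LD3_c34)) = (LP (LK LD1_c11 LD2_c1 LD3_c37)) :=
  Lgr Lrot59 (Lpr_cf (f380559 IH) (Lpn (LP (LK LD1_c11 LD2_c1 LD3_c37))))
theorem f44744 : Led Lsl_dt (LP (LK LD1_c11 LD2_c1 LD3_c37)) = (LP (LK LD1_c5 LD2_c34 LD3_c38)) :=
  Lre_d IH (LK LD1_c11 LD2_c1 LD3_c37) (LK LD1_c5 LD2_c34 LD3_c38) Lrfl Lrfl
theorem f380569 : Led Lsl_df (LP (LK LD1_c16 LD2_c51 LD3_c34)) = (LP (LK LD1_c20 LD2_c6 LD3_c30)) :=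
  Lgr Lrot157 (Lpr_ct (f380561 IH) (Lpr_dt (f44744 IH) (Lpr_ct (K30.f44743 IH) (Lpe (K30.f226530 IH) (Lpr_ct (K30.f226560 IH) (Lpr_dt (K40.f226577 IH) (Lpr_ct (K40.f226670 IH) (Lpe (K40.f313053 IH) (Lpe (K40.f380548 IH) (Lpn (LP (LK LD1_c20 LD2_c6 LD3_c30))))))))))))
theorem f380458 : Led Lsl_ft (LP (LK LD1_c5 LD2_c40 LD3_c21)) = (LP (LK LD1_c9 LD2_c1 LD3_c41)) :=
  Lgr Lrot142 (Lpr_dt (K30.f380219 IH) (Lpr_ct (K30.f380207 IH) (Lpr_dt (K30.f174834 IH) (Lpr_ct (K30.f174833 IH) (Lpr_dt (K30.f174837 IH) (Lpr_ct (K10.f181460 IH) (Lpr_dt (K30.f174832 IH) (Lpr_ct (K30.f174835 IH) (Lpe (K43.f181467 IH) (Lpn (LP (LK LD1_c9 LD2_c1 LD3_c41))))))))))))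
theorem f380460 : Led Lsl_bt (LP (LK LD1_c11 LD2_c11 LD3_c20)) = (LP (LK LD1_c5 LD2_c40 LD3_c21)) :=
  Lre_b IH (LK LD1_c11 LD2_c11 LD3_c20) (LK LD1_c5 LD2_c40 LD3_c21) Lrfl Lrfl
theorem f380461 : Led Lsl_ff (LP (LK LD1_c11 LD2_c11 LD3_c20)) = (LP (LK LD1_c16 LD2_c51 LD3_c34)) :=
  Lgr Lrot25 (Lpr_bt (f380460 IH) (Lpr_ft (f380458 IH) (Lpr_bt (f380049 IH) (Lpn (LP (LK LD1_c16 LD2_c51 LD3_c34))))))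
theorem f380571 : Led Lsl_dt (LP (LK LD1_c11 LD2_c11 LD3_c20)) = (LP (LK LD1_c19 LD2_c56 LD3_c14)) :=
  Lgr Lrot60 (Lpr_ff (f380461 IH) (Lpr_df (f380569 IH) (Lpr_ff (K40.f380544 IH) (Lpn (LP (LK LD1_c19 LD2_c56 LD3_c14))))))
theorem f380573 : Led Lsl_gt (LP (LK LD1_c20 LD2_c5 LD3_c56)) = (LP (LK LD1_c11 LD2_c11 LD3_c20)) :=
  Lre_g IH (LK LD1_c20 LD2_c5 LD3_c56) (LK LD1_c11 LD2_c11 LD3_c20) Lrfl Lrfl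
theorem f213738 : Led Lsl_ct (LP (LK LD1_c10 LD2_c58 LD3_c1)) = (LP (LK LD1_c5 LD2_c33 LD3_c4)) :=
  Lre_c IH (LK LD1_c10 LD2_c58 LD3_c1) (LK LD1_c5 LD2_c33 LD3_c4) Lrfl Lrfl
theorem f390279 : Led Lsl_df (LP (LK LD1_c20 LD2_c5 LD3_c56)) = (LP (LK LD1_c19 LD2_c48 LD3_c19)) :=
  Lgr Lrot153 (Lpr_gt (f380573 IH) (Lpr_dt (f380571 IH) (Lpe (K40.f226614 IH) (Lpe (f226613 IH) (Lpr_gf (K19.f312999 IH) (Lpr_df (K38.f390265 IH) (Lpe (K38.f213701 IH) (Lpe (f213738 IH) (Lpr_gt (f213741 IH) (Lpn (LP (LK LD1_c19 LD2_c48 LD3_c19))))))))))))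
theorem f390281 : Led Lsl_dt (LP (LK LD1_c20 LD2_c5 LD3_c56)) = (LP (LK LD1_c19 LD2_c48 LD3_c19)) :=
  Lgr Lrot42 (Lpr_df (f390279 IH) (Lpn (LP (LK LD1_c19 LD2_c48 LD3_c19))))
theorem f698287 : Led Lsl_ft (LP (LK LD1_c4 LD2_c31 LD3_c32)) = v12803 :=
  Lgr Lrot2 (Lpr_gt (K19.f175043 IH) (Lpr_gt (K30.f181956 IH) (Lpr_af (f698286 IH) (Lpn v12803))))
theorem f394074 : Led Lsl_dt (LP (LK LD1_c9 LD2_c0 LD3_c48)) = (LP (LK LD1_c10 LD2_c58 LD3_c0)) :=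
  Lgr Lrot42 (Lpr_df (f394067 IH) (Lpn (LP (LK LD1_c10 LD2_c58 LD3_c0))))
theorem f387650 : Led Lsl_cf (LP (LK LD1_c11 LD2_c9 LD3_c48)) = (LP (LK LD1_c10 LD2_c57 LD3_c12)) :=
  Lgr Lrot11 (Lpr_ct (K38.f387645 IH) (Lpn (LP (LK LD1_c10 LD2_c57 LD3_c12))))
theorem f391435 : Led Lsl_gt (LP (LK LD1_c4 LD2_c28 LD3_c57)) = (LP (LK LD1_c2 LD2_c41 LD3_c29)) :=
  Lgr Lrot146 (Lpr_dt (f391413 IH) (Lpr_gt (f281315 IH) (Lpr_ct (K31.f281125 IH) (Lpe (K38.f281192 IH) (Lpe (f387650 IH) (Lpr_dt (K30.f179232 IH) (Lpe (K30.f179230 IH) (Lpr_gf (K30.f384914 IH) (Lpe (K30.f222636 IH) (Lpn (LP (LK LD1_c2 LD2_c41 LD3_c29))))))))))))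
theorem f199477 : Led Lsl_ct (LP (LK LD1_c2 LD2_c44 LD3_c16)) = (LP (LK LD1_c5 LD2_c35 LD3_c46)) :=
  Lre_c IH (LK LD1_c2 LD2_c44 LD3_c16) (LK LD1_c5 LD2_c35 LD3_c46) Lrfl Lrfl
theorem f391457 : Led Lsl_gf (LP (LK LD1_c9 LD2_c0 LD3_c48)) = (LP (LK LD1_c5 LD2_c35 LD3_c46)) :=
  Lgr Lrot126 (Lpe (K30.f276227 IH) (Lpr_bt (K30.f276225 IH) (Lpr_gt (f391435 IH) (Lpr_ct (K30.f222636 IH) (Lpe (K30.f384914 IH) (Lpr_cf (K30.f179224 IH) (Lpr_bt (K30.f178083 IH) (Lpe (K30.f319294 IH) (Lpr_bf (K30.f354506 IH) (Lpr_ct (f199477 IH) (Lpn (LP (LK LD1_c5 LD2_c35 LD3_c46)))))))))))))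
theorem f213700 : Led Lsl_dt (LP (LK LD1_c5 LD2_c33 LD3_c4)) = (LP (LK LD1_c2 LD2_c42 LD3_c43)) :=
  Lre_d IH (LK LD1_c5 LD2_c33 LD3_c4) (LK LD1_c2 LD2_c42 LD3_c43) Lrfl Lrfl
theorem f213746 : Led Lsl_gt (LP (LK LD1_c5 LD2_c33 LD3_c7)) = (LP (LK LD1_c2 LD2_c42 LD3_c44)) :=
  Lre_g IH (LK LD1_c5 LD2_c33 LD3_c7) (LK LD1_c2 LD2_c42 LD3_c44) Lrfl Lrfl
theorem f394085 : Led Lsl_dt (LP (LK LD1_c4 LD2_c31 LD3_c32)) = (LP (LK LD1_c5 LD2_c33 LD3_c7)) :=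
  Lgr Lrot57 (Lpe (K19.f312992 IH) (Lpe (K19.f199440 IH) (Lpe (f391457 IH) (Lpr_dt (f394074 IH) (Lpr_gt (f213704 IH) (Lpr_dt (f213700 IH) (Lpe (K30.f213745 IH) (Lpe (K24.f174182 IH) (Lpe (f213746 IH) (Lpn (LP (LK LD1_c5 LD2_c33 LD3_c7))))))))))))
theorem f390202 : Led Lsl_ct (LP (LK LD1_c5 LD2_c33 LD3_c7)) = (LP (LK LD1_c10 LD2_c58 LD3_c10)) :=
  Lre_c IH (LK LD1_c5 LD2_c33 LD3_c7) (LK LD1_c10 LD2_c58 LD3_c10) Lrfl Lrfl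
theorem f390203 : Led Lsl_dt (LP (LK LD1_c10 LD2_c58 LD3_c10)) = (LP (LK LD1_c19 LD2_c48 LD3_c40)) :=
  Lre_d IH (LK LD1_c10 LD2_c58 LD3_c10) (LK LD1_c19 LD2_c48 LD3_c40) Lrfl Lrfl
theorem f698288 : Led Lsl_cf (LP (LK LD1_c20 LD2_c5 LD3_c56)) = (LP (LK LD1_c19 LD2_c48 LD3_c40)) :=
  Lgr Lrot116 (Lpr_dt (f390281 IH) (Lpe (f394076 IH) (Lpr_dt (f385071 IH) (Lpr_ct (K30.f235846 IH) (Lpr_af (f698286 IH) (Lpe (f698287 IH) (Lpr_dt (f394085 IH) (Lpr_ct (f390202 IH) (Lpr_dt (f390203 IH) (Lpn (LP (LK LD1_c19 LD2_c48 LD3_c40))))))))))))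
theorem f698289 : Led Lsl_ct (LP (LK LD1_c19 LD2_c48 LD3_c40)) = (LP (LK LD1_c20 LD2_c5 LD3_c56)) :=
  Leop (Lpr_cf (f698288 IH) (Lpn (LP (LK LD1_c19 LD2_c48 LD3_c40))))
theorem seed_631 : LEOK LG_c (LK LD1_c19 LD2_c48 LD3_c40) :=
  Leoe_c (LK LD1_c19 LD2_c48 LD3_c40) (f698289 IH)
def v12805 : LQ := Led Lsl_gf (LP (LK LD1_c4 LD2_c31 LD3_c35))
theorem f698301 : Led Lsl_gf (LP (LK LD1_c4 LD2_c31 LD3_c35)) = v12805 :=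
  Lrfl
theorem f212621 : Led Lsl_dt (LP (LK LD1_c4 LD2_c31 LD3_c35)) = (LP (LK LD1_c2 LD2_c12 LD3_c45)) :=
  Lre_d IH (LK LD1_c4 LD2_c31 LD3_c35) (LK LD1_c2 LD2_c12 LD3_c45) Lrfl Lrfl
theorem f181943 : Led Lsl_dt (LP (LK LD1_c2 LD2_c3 LD3_c32)) = (LP (LK LD1_c1 LD2_c3 LD3_c24)) :=
  Lgr Lrot77 (Lpe (K26.f179026 IH) (Lpr_df (K9.f181939 IH) (Lpe (K19.f175046 IH) (Lpe (K12.f174739 IH) (Lpe (K26.f175045 IH) (Lpn (LP (LK LD1_c1 LD2_c3 LD3_c24))))))))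
theorem f358472 : Led Lsl_gf (LP (LK LD1_c7 LD2_c58 LD3_c52)) = (LP (LK LD1_c4 LD2_c53 LD3_c26)) :=
  Lgr Lrot134 (Lpr_df (K26.f358468 IH) (Lpr_et (K26.f358452 IH) (Lpr_gt (K25.f178128 IH) (Lpe (K21.f170080 IH) (Lpr_dt (K9.f170079 IH) (Lpe (K9.f178278 IH) (Lpr_df (K15.f178276 IH) (Lpr_et (K13.f167021 IH) (Lpr_gt (K20.f167013 IH) (Lpr_dt (K35.f167014 IH) (Lpn (LP (LK LD1_c4 LD2_c53 LD3_c26)))))))))))))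
theorem f180067 : Led Lsl_ct (LP (LK LD1_c4 LD2_c53 LD3_c26)) = (LP (LK LD1_c9 LD2_c38 LD3_c58)) :=
  Lre_c IH (LK LD1_c4 LD2_c53 LD3_c26) (LK LD1_c9 LD2_c38 LD3_c58) Lrfl Lrfl
theorem f360655 : Led Lsl_bf (LP (LK LD1_c5 LD2_c24 LD3_c45)) = (LP (LK LD1_c2 LD2_c42 LD3_c37)) :=
  Lgr Lrot24 (Lpr_bt (K27.f360653 IH) (Lpn (LP (LK LD1_c2 LD2_c42 LD3_c37))))
theorem f363224 : Led Lsl_gf (LP (LK LD1_c5 LD2_c32 LD3_c52)) = (LP (LK LD1_c9 LD2_c38 LD3_c58)) :=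
  Lgr Lrot126 (Lpe (K26.f276166 IH) (Lpe (f360655 IH) (Lpr_gt (K22.f322676 IH) (Lpr_ct (K26.f289028 IH) (Lpe (K26.f325399 IH) (Lpe (K20.f322643 IH) (Lpr_bt (K20.f237937 IH) (Lpr_gt (K27.f363220 IH) (Lpe (K25.f355207 IH) (Lpr_ct (f180067 IH) (Lpn (LP (LK LD1_c9 LD2_c38 LD3_c58)))))))))))))
theorem f698303 : Led Lsl_dt (LP (LK LD1_c5 LD2_c32 LD3_c52)) = v12805 :=
  Lgr Lrot57 (Lpr_gf (f363224 IH) (Lpe (f180067 IH) (Lpe (f358472 IH) (Lpr_dt (K26.f358432 IH) (Lpr_gt (K25.f170932 IH) (Lpr_dt (f181943 IH) (Lpe (K22.f212620 IH) (Lpe (f212621 IH) (Lpr_gf (f698301 IH) (Lpn v12805))))))))))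
def v4135 : LQ := Led Lsl_at (LP (LK LD1_c2 LD2_c6 LD3_c33))
theorem f631386 : Led Lsl_at (LP (LK LD1_c2 LD2_c6 LD3_c33)) = v4135 :=
  Lrfl
theorem f631387 : Led Lsl_af (LP (LK LD1_c2 LD2_c6 LD3_c33)) = v4135 :=
  Lgr Lrot0 (Lpr_at (f631386 IH) (Lpn v4135))
theorem f631388 : Led Lsl_ft (LP (LK LD1_c2 LD2_c6 LD3_c33)) = v4135 :=
  Lgr Lrot2 (Lpr_gt (K13.f53393 IH) (Lpr_gt (K13.f536 IH) (Lpr_af (f631387 IH) (Lpn v4135))))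
theorem f631389 : Led Lsl_ff (LP (LK LD1_c2 LD2_c6 LD3_c33)) = v4135 :=
  Lgr Lrot3 (Lpr_ft (f631388 IH) (Lpn v4135))
def v4165 : LQ := Led Lsl_ft (LP (LK LD1_c2 LD2_c12 LD3_c1))
theorem f631568 : Led Lsl_ft (LP (LK LD1_c2 LD2_c12 LD3_c1)) = v4165 :=
  Lrfl
theorem f631571 : Led Lsl_ff (LP (LK LD1_c2 LD2_c12 LD3_c1)) = v4165 :=
  Lgr Lrot3 (Lpr_ft (f631568 IH) (Lpn v4165))
theorem f495585 : Led Lsl_af (LP (LK LD1_c1 LD2_c17 LD3_c52)) = K35.v1441 :=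
  Lgr Lrot45 (Lpr_ft (K35.f495582 IH) (Lpe (K35.f495581 IH) (Lpr_ft (K35.f495584 IH) (Lpn K35.v1441))))
def v4164 : LQ := Led Lsl_at (LP (LK LD1_c2 LD2_c12 LD3_c1))
theorem f631562 : Led Lsl_at (LP (LK LD1_c2 LD2_c12 LD3_c1)) = v4164 :=
  Lrfl
theorem f631564 : Led Lsl_df K35.v1440 = v4164 :=
  Lgr Lrot18 (Lpe (K35.f495581 IH) (Lpr_dt (K21.f276155 IH) (Lpr_at (f631562 IH) (Lpn v4164))))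
theorem f631566 : Led Lsl_ft (LP (LK LD1_c2 LD2_c12 LD3_c2)) = v4164 :=
  Lgr Lrot54 (Lpr_df (K25.f281004 IH) (Lpr_ff (K35.f495583 IH) (Lpr_df (f631564 IH) (Lpn v4164))))
theorem f631567 : Led Lsl_ff (LP (LK LD1_c2 LD2_c12 LD3_c2)) = v4164 :=
  Lgr Lrot3 (Lpr_ft (f631566 IH) (Lpn v4164))
theorem f631572 : Led Lsl_at (LP (LK LD1_c2 LD2_c12 LD3_c2)) = v4165 :=
  Lgr Lrot66 (Lpr_ff (f631567 IH) (Lpe (f631562 IH) (Lpr_ff (f631571 IH) (Lpn v4165))))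
theorem f637457 : Led Lsl_bf K35.v1441 = K35.v4615 :=
  Lgr Lrot61 (Lpe (K35.f495586 IH) (Lpe (K27.f360659 IH) (Lpr_ft (K35.f637455 IH) (Lpn K35.v4615))))
theorem f637471 : (LP (LK LD1_c4 LD2_c30 LD3_c2)) = K35.v4615 :=
  (Llr Lrot44 (Lpr_df (K22.f281002 IH) (Lpr_af (K35.f637461 IH) (Lpr_df (K22.f335974 IH) (Lpr_af (K35.f637456 IH) (Lpn K35.v4615)))))).symm
theorem f637476 : K35.v1441 = (LP (LK LD1_c2 LD2_c12 LD3_c2)) :=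
  Lefun (Lecon (Lfl_bf (f637457 IH)) (f637471 IH).symm) (K22.f264526 IH)
theorem f637477 : (LP (LK LD1_c1 LD2_c17 LD3_c52)) = v4165 :=
  Lefun (Lecon (Lfl_af (f495585 IH)) (f637476 IH)) (f631572 IH)
theorem f264636 : Led Lsl_ct (LP (LK LD1_c2 LD2_c42 LD3_c39)) = (LP (LK LD1_c1 LD2_c17 LD3_c52)) :=
  Lre_c IH (LK LD1_c2 LD2_c42 LD3_c39) (LK LD1_c1 LD2_c17 LD3_c52) Lrfl Lrfl
theorem f264524 : Led Lsl_ct (LP (LK LD1_c2 LD2_c12 LD3_c1)) = (LP (LK LD1_c4 LD2_c30 LD3_c0)) :=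
  Lre_c IH (LK LD1_c2 LD2_c12 LD3_c1) (LK LD1_c4 LD2_c30 LD3_c0) Lrfl Lrfl
theorem f637490 : Led Lsl_ff (LP (LK LD1_c2 LD2_c42 LD3_c39)) = (LP (LK LD1_c4 LD2_c30 LD3_c0)) :=
  Lgr Lrot23 (Lpr_ct (f264636 IH) (Lpqs (f637477 IH) (Lpe (f631571 IH) (Lpr_ct (f264524 IH) (Lpn (LP (LK LD1_c4 LD2_c30 LD3_c0)))))))
theorem f264521 : Led Lsl_ct (LP (LK LD1_c2 LD2_c12 LD3_c2)) = (LP (LK LD1_c4 LD2_c30 LD3_c3)) :=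
  Lre_c IH (LK LD1_c2 LD2_c12 LD3_c2) (LK LD1_c4 LD2_c30 LD3_c3) Lrfl Lrfl
theorem f225185 : Led Lsl_ct (LP (LK LD1_c1 LD2_c10 LD3_c6)) = (LP (LK LD1_c2 LD2_c12 LD3_c9)) :=
  Lgr Lrot15 (Lpe (K23.f168885 IH) (Lpr_cf (K12.f225172 IH) (Lpe (K24.f177505 IH) (Lpn (LP (LK LD1_c2 LD2_c12 LD3_c9))))))
theorem f333816 : Led Lsl_gt (LP (LK LD1_c4 LD2_c30 LD3_c3)) = (LP (LK LD1_c2 LD2_c12 LD3_c9)) :=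
  Lgr Lrot149 (Lpe (f264521 IH) (Lpr_gf (K22.f264596 IH) (Lpe (K21.f264599 IH) (Lpr_ct (K22.f258854 IH) (Lpe (K22.f258759 IH) (Lpr_cf (K22.f333808 IH) (Lpr_bt (K22.f314518 IH) (Lpe (K19.f168951 IH) (Lpe (K20.f168889 IH) (Lpr_ct (f225185 IH) (Lpn (LP (LK LD1_c2 LD2_c12 LD3_c9)))))))))))))
theorem f379880 : Led Lsl_ft (LP (LK LD1_c2 LD2_c42 LD3_c58)) = (LP (LK LD1_c1 LD2_c17 LD3_c59)) :=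
  Lre_f IH (LK LD1_c2 LD2_c42 LD3_c58) (LK LD1_c1 LD2_c17 LD3_c59) Lrfl Lrfl
theorem f379881 : Led Lsl_gf (LP (LK LD1_c4 LD2_c30 LD3_c3)) = (LP (LK LD1_c2 LD2_c42 LD3_c58)) :=
  Lgr Lrot47 (Lpr_gt (f333816 IH) (Lpr_af (K24.f379873 IH) (Lpe (f379880 IH) (Lpn (LP (LK LD1_c2 LD2_c42 LD3_c58))))))
theorem f379884 : Led Lsl_ct (LP (LK LD1_c3 LD2_c58 LD3_c43)) = (LP (LK LD1_c2 LD2_c42 LD3_c58)) :=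
  Lgr Lrot64 (Lpe (K23.f342169 IH) (Lpe (K25.f350159 IH) (Lpr_bf (K25.f357481 IH) (Lpe (K25.f357490 IH) (Lpe (K25.f168700 IH) (Lpe (K25.f42248 IH) (Lpe (K22.f333834 IH) (Lpe (K22.f281014 IH) (Lpr_ct (f264521 IH) (Lpr_gf (f379881 IH) (Lpn (LP (LK LD1_c2 LD2_c42 LD3_c58)))))))))))))
theorem f360672 : Led Lsl_bf (LP (LK LD1_c4 LD2_c28 LD3_c18)) = (LP (LK LD1_c2 LD2_c12 LD3_c1)) :=
  Lgr Lrot24 (Lpr_bt (K27.f360666 IH) (Lpn (LP (LK LD1_c2 LD2_c12 LD3_c1))))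
theorem f379886 : Led Lsl_gt (LP (LK LD1_c4 LD2_c30 LD3_c0)) = (LP (LK LD1_c2 LD2_c42 LD3_c58)) :=
  Lgr Lrot65 (Lpe (f264524 IH) (Lpe (f360672 IH) (Lpe (K22.f42351 IH) (Lpr_bf (K15.f223389 IH) (Lpr_ct (K26.f223405 IH) (Lpe (K19.f223406 IH) (Lpr_cf (K23.f312198 IH) (Lpe (K21.f314576 IH) (Lpr_bf (K23.f342169 IH) (Lpr_ct (f379884 IH) (Lpn (LP (LK LD1_c2 LD2_c42 LD3_c58)))))))))))))
theorem f637496 : Led Lsl_at (LP (LK LD1_c2 LD2_c42 LD3_c39)) = (LP (LK LD1_c4 LD2_c30 LD3_c3)) :=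
  Lgr Lrot26 (Lpr_ff (f637490 IH) (Lpr_gt (f379886 IH) (Lpe (f379881 IH) (Lpn (LP (LK LD1_c4 LD2_c30 LD3_c3))))))
theorem f637498 : Led Lsl_af (LP (LK LD1_c2 LD2_c42 LD3_c39)) = (LP (LK LD1_c4 LD2_c30 LD3_c3)) :=
  Lgr Lrot0 (Lpr_at (f637496 IH) (Lpn (LP (LK LD1_c4 LD2_c30 LD3_c3))))
def v4167 : LQ := Led Lsl_ft (LP (LK LD1_c2 LD2_c12 LD3_c9))
theorem f631578 : Led Lsl_ft (LP (LK LD1_c2 LD2_c12 LD3_c9)) = v4167 :=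
  Lrfl
theorem f631582 : Led Lsl_ff (LP (LK LD1_c2 LD2_c12 LD3_c9)) = v4167 :=
  Lgr Lrot3 (Lpr_ft (f631578 IH) (Lpn v4167))
theorem f379863 : Led Lsl_at (LP (LK LD1_c8 LD2_c58 LD3_c43)) = (LP (LK LD1_c4 LD2_c30 LD3_c17)) :=
  Lre_a IH (LK LD1_c8 LD2_c58 LD3_c43) (LK LD1_c4 LD2_c30 LD3_c17) Lrfl Lrfl
theorem f333821 : Led Lsl_bt (LP (LK LD1_c4 LD2_c30 LD3_c17)) = (LP (LK LD1_c2 LD2_c12 LD3_c9)) :=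
  Lre_b IH (LK LD1_c4 LD2_c30 LD3_c17) (LK LD1_c2 LD2_c12 LD3_c9) Lrfl Lrfl
theorem f379864 : Led Lsl_at (LP (LK LD1_c2 LD2_c42 LD3_c56)) = (LP (LK LD1_c5 LD2_c33 LD3_c34)) :=
  Lre_a IH (LK LD1_c2 LD2_c42 LD3_c56) (LK LD1_c5 LD2_c33 LD3_c34) Lrfl Lrfl
theorem f220960 : Led Lsl_bt (LP (LK LD1_c1 LD2_c17 LD3_c59)) = (LP (LK LD1_c2 LD2_c42 LD3_c56)) :=
  Lre_b IH (LK LD1_c1 LD2_c17 LD3_c59) (LK LD1_c2 LD2_c42 LD3_c56) Lrfl Lrfl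
theorem f379865 : Led Lsl_at (LP (LK LD1_c2 LD2_c12 LD3_c9)) = (LP (LK LD1_c1 LD2_c17 LD3_c59)) :=
  Lgr Lrot67 (Lpe (f333821 IH) (Lpe (f379863 IH) (Lpr_bf (K24.f379861 IH) (Lpe (f379864 IH) (Lpe (f220960 IH) (Lpn (LP (LK LD1_c1 LD2_c17 LD3_c59))))))))
theorem f181208 : Led Lsl_et (LP (LK LD1_c1 LD2_c25 LD3_c11)) = (LP (LK LD1_c0 LD2_c39 LD3_c14)) :=
  Lre_e IH (LK LD1_c1 LD2_c25 LD3_c11) (LK LD1_c0 LD2_c39 LD3_c14) Lrfl Lrfl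
theorem f261821 : Led Lsl_df (LP (LK LD1_c2 LD2_c33 LD3_c31)) = (LP (LK LD1_c1 LD2_c17 LD3_c44)) :=
  Lgr Lrot78 (Lpr_ft (K15.f261816 IH) (Lpr_dt (K15.f175266 IH) (Lpr_ft (K16.f261768 IH) (Lpn (LP (LK LD1_c1 LD2_c17 LD3_c44))))))
theorem f281032 : Led Lsl_gt (LP (LK LD1_c2 LD2_c12 LD3_c3)) = (LP (LK LD1_c1 LD2_c17 LD3_c52)) :=
  Lgr Lrot137 (Lpr_ef (K16.f271776 IH) (Lpe (f261821 IH) (Lpe (K15.f184919 IH) (Lpe (K10.f184918 IH) (Lpr_et (K10.f184917 IH) (Lpr_gf (K10.f184894 IH) (Lpe (f181208 IH) (Lpr_dt (K23.f181790 IH) (Lpe (K22.f181803 IH) (Lpr_df (K25.f281004 IH) (Lpn (LP (LK LD1_c1 LD2_c17 LD3_c52)))))))))))))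
theorem f264638 : Led Lsl_ct (LP (LK LD1_c1 LD2_c17 LD3_c52)) = (LP (LK LD1_c2 LD2_c42 LD3_c39)) :=
  Lre_c IH (LK LD1_c1 LD2_c17 LD3_c52) (LK LD1_c2 LD2_c42 LD3_c39) Lrfl Lrfl
theorem f355265 : Led Lsl_bf (LP (LK LD1_c4 LD2_c14 LD3_c43)) = (LP (LK LD1_c8 LD2_c26 LD3_c60)) :=
  Lgr Lrot93 (Lpr_dt (K19.f314521 IH) (Lpr_bt (K26.f333797 IH) (Lpr_dt (K25.f355263 IH) (Lpn (LP (LK LD1_c8 LD2_c26 LD3_c60))))))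
theorem f342179 : Led Lsl_bf (LP (LK LD1_c2 LD2_c4 LD3_c44)) = (LP (LK LD1_c1 LD2_c56 LD3_c5)) :=
  Lgr Lrot24 (Lpr_bt (K23.f342177 IH) (Lpn (LP (LK LD1_c1 LD2_c56 LD3_c5))))
theorem f220951 : Led Lsl_bf (LP (LK LD1_c4 LD2_c14 LD3_c42)) = (LP (LK LD1_c5 LD2_c33 LD3_c37)) :=
  Lgr Lrot96 (Lpr_et (K19.f220949 IH) (Lpr_bt (K20.f220921 IH) (Lpr_et (K20.f220950 IH) (Lpn (LP (LK LD1_c5 LD2_c33 LD3_c37))))))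
theorem f220959 : Led Lsl_ct (LP (LK LD1_c2 LD2_c42 LD3_c56)) = (LP (LK LD1_c5 LD2_c33 LD3_c37)) :=
  Lre_c IH (LK LD1_c2 LD2_c42 LD3_c56) (LK LD1_c5 LD2_c33 LD3_c37) Lrfl Lrfl
theorem f342181 : Led Lsl_cf (LP (LK LD1_c1 LD2_c17 LD3_c59)) = (LP (LK LD1_c1 LD2_c56 LD3_c5)) :=
  Lgr Lrot97 (Lpr_bt (f220960 IH) (Lpr_ct (f220959 IH) (Lpe (f220951 IH) (Lpr_ct (K23.f220958 IH) (Lpr_bt (K23.f342177 IH) (Lpn (LP (LK LD1_c1 LD2_c56 LD3_c5))))))))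
theorem f355288 : Led Lsl_gt (LP (LK LD1_c2 LD2_c42 LD3_c39)) = (LP (LK LD1_c1 LD2_c17 LD3_c59)) :=
  Lgr Lrot149 (Lpe (f264638 IH) (Lpe (f281032 IH) (Lpe (K25.f264606 IH) (Lpr_ct (K23.f263042 IH) (Lpr_gf (K25.f355284 IH) (Lpe (K25.f221530 IH) (Lpe (f355265 IH) (Lpe (K19.f221030 IH) (Lpr_bf (f342179 IH) (Lpe (f342181 IH) (Lpn (LP (LK LD1_c1 LD2_c17 LD3_c59)))))))))))))
theorem f631586 : Led Lsl_gf (LP (LK LD1_c2 LD2_c42 LD3_c39)) = v4167 :=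
  Lgr Lrot47 (Lpr_gt (f355288 IH) (Lpe (f379865 IH) (Lpr_ff (f631582 IH) (Lpn v4167))))
theorem f168913 : Led Lsl_ft (LP (LK LD1_c2 LD2_c25 LD3_c54)) = (LP (LK LD1_c1 LD2_c10 LD3_c6)) :=
  Lre_f IH (LK LD1_c2 LD2_c25 LD3_c54) (LK LD1_c1 LD2_c10 LD3_c6) Lrfl Lrfl
theorem f363394 : Led Lsl_at (LP (LK LD1_c1 LD2_c10 LD3_c6)) = (LP (LK LD1_c1 LD2_c56 LD3_c5)) :=
  Lgr Lrot26 (Lpe (f168913 IH) (Lpr_gt (K26.f363392 IH) (Lpr_gt (K26.f238314 IH) (Lpn (LP (LK LD1_c1 LD2_c56 LD3_c5))))))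
theorem f379876 : Led Lsl_ct (LP (LK LD1_c2 LD2_c12 LD3_c9)) = (LP (LK LD1_c1 LD2_c10 LD3_c6)) :=
  Lgr Lrot111 (Lpr_af (K24.f379873 IH) (Lpr_cf (f342181 IH) (Lpe (f363394 IH) (Lpn (LP (LK LD1_c1 LD2_c10 LD3_c6))))))
theorem f631584 : Led Lsl_ct (LP (LK LD1_c2 LD2_c25 LD3_c54)) = v4167 :=
  Lgr Lrot40 (Lpe (K14.f168896 IH) (Lpe (f379876 IH) (Lpr_ff (f631582 IH) (Lpn v4167))))
theorem f264639 : Led Lsl_ct (LP (LK LD1_c1 LD2_c17 LD3_c51)) = (LP (LK LD1_c2 LD2_c42 LD3_c36)) :=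
  Lre_c IH (LK LD1_c1 LD2_c17 LD3_c51) (LK LD1_c2 LD2_c42 LD3_c36) Lrfl Lrfl
theorem f631589 : Led Lsl_gt (LP (LK LD1_c2 LD2_c42 LD3_c36)) = v4167 :=
  Lgr Lrot65 (Lpe (f264639 IH) (Lpe (K27.f360659 IH) (Lpe (K20.f42568 IH) (Lpe (K26.f194521 IH) (Lpr_ct (K26.f194586 IH) (Lpe (K26.f194488 IH) (Lpr_cf (K26.f358230 IH) (Lpe (K21.f168932 IH) (Lpe (K14.f168914 IH) (Lpr_ct (f631584 IH) (Lpn v4167)))))))))))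
theorem f637500 : Led Lsl_ft (LP (LK LD1_c2 LD2_c42 LD3_c36)) = (LP (LK LD1_c4 LD2_c30 LD3_c3)) :=
  Lgr Lrot2 (Lpr_gt (f631589 IH) (Lpe (f631586 IH) (Lpr_af (f637498 IH) (Lpn (LP (LK LD1_c4 LD2_c30 LD3_c3))))))
theorem f637506 : Led Lsl_ff (LP (LK LD1_c2 LD2_c42 LD3_c36)) = (LP (LK LD1_c4 LD2_c30 LD3_c3)) :=
  Lgr Lrot3 (Lpr_ft (f637500 IH) (Lpn (LP (LK LD1_c4 LD2_c30 LD3_c3))))
theorem f276173 : Led Lsl_bt (LP (LK LD1_c2 LD2_c42 LD3_c36)) = (LP (LK LD1_c5 LD2_c32 LD3_c51)) :=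
  Lre_b IH (LK LD1_c2 LD2_c42 LD3_c36) (LK LD1_c5 LD2_c32 LD3_c51) Lrfl Lrfl
theorem f333818 : Led Lsl_bt (LP (LK LD1_c8 LD2_c58 LD3_c13)) = (LP (LK LD1_c4 LD2_c30 LD3_c3)) :=
  Lre_b IH (LK LD1_c8 LD2_c58 LD3_c13) (LK LD1_c4 LD2_c30 LD3_c3) Lrfl Lrfl
theorem f637510 : Led Lsl_ft (LP (LK LD1_c5 LD2_c32 LD3_c51)) = (LP (LK LD1_c8 LD2_c58 LD3_c13)) :=
  Lgr Lrot75 (Lpe (f276173 IH) (Lpr_ff (f637506 IH) (Lpe (f333818 IH) (Lpn (LP (LK LD1_c8 LD2_c58 LD3_c13))))))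
theorem f322688 : Led Lsl_ct (LP (LK LD1_c2 LD2_c38 LD3_c55)) = (LP (LK LD1_c5 LD2_c24 LD3_c44)) :=
  Lre_c IH (LK LD1_c2 LD2_c38 LD3_c55) (LK LD1_c5 LD2_c24 LD3_c44) Lrfl Lrfl
theorem f322700 : Led Lsl_bt (LP (LK LD1_c5 LD2_c24 LD3_c44)) = (LP (LK LD1_c10 LD2_c40 LD3_c6)) :=
  Lre_b IH (LK LD1_c5 LD2_c24 LD3_c44) (LK LD1_c10 LD2_c40 LD3_c6) Lrfl Lrfl
theorem f276157 : Led Lsl_ct (LP (LK LD1_c2 LD2_c42 LD3_c36)) = (LP (LK LD1_c1 LD2_c17 LD3_c51)) :=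
  Lre_c IH (LK LD1_c2 LD2_c42 LD3_c36) (LK LD1_c1 LD2_c17 LD3_c51) Lrfl Lrfl
theorem f360663 : Led Lsl_bt (LP (LK LD1_c5 LD2_c32 LD3_c51)) = (LP (LK LD1_c2 LD2_c42 LD3_c36)) :=
  Lre_b IH (LK LD1_c5 LD2_c32 LD3_c51) (LK LD1_c2 LD2_c42 LD3_c36) Lrfl Lrfl
theorem f360664 : Led Lsl_ct (LP (LK LD1_c10 LD2_c40 LD3_c6)) = (LP (LK LD1_c5 LD2_c32 LD3_c51)) :=
  Lgr Lrot83 (Lpe (f322700 IH) (Lpe (f322688 IH) (Lpr_bf (K27.f360659 IH) (Lpe (f276157 IH) (Lpe (f360663 IH) (Lpn (LP (LK LD1_c5 LD2_c32 LD3_c51))))))))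
theorem f333820 : Led Lsl_ct (LP (LK LD1_c8 LD2_c58 LD3_c13)) = (LP (LK LD1_c16 LD2_c47 LD3_c11)) :=
  Lre_c IH (LK LD1_c8 LD2_c58 LD3_c13) (LK LD1_c16 LD2_c47 LD3_c11) Lrfl Lrfl
theorem f637512 : Led Lsl_ff (LP (LK LD1_c10 LD2_c40 LD3_c6)) = (LP (LK LD1_c16 LD2_c47 LD3_c11)) :=
  Lgr Lrot23 (Lpr_ct (f360664 IH) (Lpr_ft (f637510 IH) (Lpr_ct (f333820 IH) (Lpn (LP (LK LD1_c16 LD2_c47 LD3_c11))))))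
theorem f637516 : Led Lsl_ft (LP (LK LD1_c10 LD2_c40 LD3_c6)) = (LP (LK LD1_c16 LD2_c47 LD3_c11)) :=
  Lgr Lrot48 (Lpr_ff (f637512 IH) (Lpn (LP (LK LD1_c16 LD2_c47 LD3_c11))))
theorem f281028 : Led Lsl_bt (LP (LK LD1_c16 LD2_c47 LD3_c11)) = (LP (LK LD1_c8 LD2_c58 LD3_c12)) :=
  Lre_b IH (LK LD1_c16 LD2_c47 LD3_c11) (LK LD1_c8 LD2_c58 LD3_c12) Lrfl Lrfl
theorem f637518 : Led Lsl_ff (LP (LK LD1_c5 LD2_c24 LD3_c44)) = (LP (LK LD1_c8 LD2_c58 LD3_c12)) :=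
  Lgr Lrot25 (Lpr_bt (f322700 IH) (Lpr_ft (f637516 IH) (Lpr_bt (f281028 IH) (Lpn (LP (LK LD1_c8 LD2_c58 LD3_c12))))))
theorem f637520 : Led Lsl_at (LP (LK LD1_c5 LD2_c24 LD3_c44)) = (LP (LK LD1_c10 LD2_c31 LD3_c53)) :=
  Lgr Lrot26 (Lpr_ff (f637518 IH) (Lpr_gt (K22.f333814 IH) (Lpe (K27.f356836 IH) (Lpn (LP (LK LD1_c10 LD2_c31 LD3_c53))))))
theorem f637528 : K35.v4614 = (LP (LK LD1_c5 LD2_c20 LD3_c53)) :=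
  (Llr Lrot68 (Lpe (K35.f637452 IH) (Lpr_ct (f322688 IH) (Lpr_at (f637520 IH) (Lpr_ct (K27.f318220 IH) (Lpn (LP (LK LD1_c5 LD2_c20 LD3_c53)))))))).symm
theorem f44688 : Led Lsl_ct (LP (LK LD1_c5 LD2_c24 LD3_c46)) = (LP (LK LD1_c2 LD2_c38 LD3_c56)) :=
  Lre_c IH (LK LD1_c5 LD2_c24 LD3_c46) (LK LD1_c2 LD2_c38 LD3_c56) Lrfl Lrfl
theorem f637533 : Led Lsl_ff (LP (LK LD1_c5 LD2_c24 LD3_c46)) = (LP (LK LD1_c10 LD2_c31 LD3_c53)) :=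
  Lgr Lrot23 (Lpr_ct (f44688 IH) (Lpr_ft (K35.f637453 IH) (Lpqs (f637528 IH) (Lpr_ct (K27.f42200 IH) (Lpn (LP (LK LD1_c10 LD2_c31 LD3_c53)))))))
theorem f637539 : Led Lsl_ft (LP (LK LD1_c5 LD2_c24 LD3_c46)) = (LP (LK LD1_c10 LD2_c31 LD3_c53)) :=
  Lgr Lrot48 (Lpr_ff (f637533 IH) (Lpn (LP (LK LD1_c10 LD2_c31 LD3_c53))))
theorem f637522 : Led Lsl_af (LP (LK LD1_c5 LD2_c24 LD3_c44)) = (LP (LK LD1_c10 LD2_c31 LD3_c53)) :=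
  Lgr Lrot0 (Lpr_at (f637520 IH) (Lpn (LP (LK LD1_c10 LD2_c31 LD3_c53))))
theorem f352270 : Led Lsl_bt (LP (LK LD1_c10 LD2_c40 LD3_c6)) = (LP (LK LD1_c5 LD2_c24 LD3_c44)) :=
  Lre_b IH (LK LD1_c10 LD2_c40 LD3_c6) (LK LD1_c5 LD2_c24 LD3_c44) Lrfl Lrfl
theorem f281024 : Led Lsl_bt (LP (LK LD1_c8 LD2_c58 LD3_c12)) = (LP (LK LD1_c16 LD2_c47 LD3_c11)) :=
  Lre_b IH (LK LD1_c8 LD2_c58 LD3_c12) (LK LD1_c16 LD2_c47 LD3_c11) Lrfl Lrfl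
theorem f637514 : Led Lsl_ft (LP (LK LD1_c5 LD2_c24 LD3_c44)) = (LP (LK LD1_c8 LD2_c58 LD3_c12)) :=
  Lgr Lrot75 (Lpe (f352270 IH) (Lpr_ff (f637512 IH) (Lpe (f281024 IH) (Lpn (LP (LK LD1_c8 LD2_c58 LD3_c12))))))
theorem f637541 : Led Lsl_af (LP (LK LD1_c5 LD2_c24 LD3_c46)) = (LP (LK LD1_c8 LD2_c58 LD3_c12)) :=
  Lgr Lrot45 (Lpr_ft (f637539 IH) (Lpe (f637522 IH) (Lpr_ft (f637514 IH) (Lpn (LP (LK LD1_c8 LD2_c58 LD3_c12))))))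
theorem f335978 : Led Lsl_ef (LP (LK LD1_c10 LD2_c33 LD3_c60)) = (LP (LK LD1_c5 LD2_c24 LD3_c46)) :=
  Lgr Lrot28 (Lpr_ct (K27.f254400 IH) (Lpr_et (K22.f335976 IH) (Lpr_ct (K26.f44693 IH) (Lpn (LP (LK LD1_c5 LD2_c24 LD3_c46))))))
theorem f637545 : Led Lsl_at (LP (LK LD1_c10 LD2_c33 LD3_c60)) = (LP (LK LD1_c11 LD2_c55 LD3_c50)) :=
  Lgr Lrot80 (Lpr_ef (f335978 IH) (Lpr_af (f637541 IH) (Lpr_ef (K22.f281021 IH) (Lpn (LP (LK LD1_c11 LD2_c55 LD3_c50))))))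
theorem f637553 : Led Lsl_ff (LP (LK LD1_c10 LD2_c33 LD3_c60)) = (LP (LK LD1_c19 LD2_c2 LD3_c46)) :=
  Lgr Lrot52 (Lpr_at (f637545 IH) (Lpe (K25.f343732 IH) (Lpe (K22.f288877 IH) (Lpn (LP (LK LD1_c19 LD2_c2 LD3_c46))))))
theorem f637561 : Led Lsl_ft (LP (LK LD1_c10 LD2_c33 LD3_c60)) = (LP (LK LD1_c19 LD2_c2 LD3_c46)) :=
  Lgr Lrot48 (Lpr_ff (f637553 IH) (Lpn (LP (LK LD1_c19 LD2_c2 LD3_c46))))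
theorem f228502 : Led Lsl_ct (LP (LK LD1_c19 LD2_c8 LD3_c17)) = (LP (LK LD1_c10 LD2_c33 LD3_c58)) :=
  Lre_c IH (LK LD1_c19 LD2_c8 LD3_c17) (LK LD1_c10 LD2_c33 LD3_c58) Lrfl Lrfl
theorem f330968 : Led Lsl_gf (LP (LK LD1_c10 LD2_c34 LD3_c0)) = (LP (LK LD1_c19 LD2_c2 LD3_c54)) :=
  Lgr Lrot147 (Lpr_ct (K16.f254413 IH) (Lpr_gt (K16.f254406 IH) (Lpr_ct (K21.f254326 IH) (Lpe (K25.f228503 IH) (Lpe (f228502 IH) (Lpe (K20.f228506 IH) (Lpe (K25.f305446 IH) (Lpr_gf (K27.f276843 IH) (Lpr_df (K27.f330960 IH) (Lpn (LP (LK LD1_c19 LD2_c2 LD3_c54))))))))))))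
theorem f637569 : Led Lsl_af (LP (LK LD1_c10 LD2_c34 LD3_c0)) = (LP (LK LD1_c19 LD2_c2 LD3_c46)) :=
  Lgr Lrot31 (Lpr_gf (f330968 IH) (Lpe (K27.f330956 IH) (Lpr_ft (f637561 IH) (Lpn (LP (LK LD1_c19 LD2_c2 LD3_c46))))))
theorem f637547 : Led Lsl_af (LP (LK LD1_c10 LD2_c33 LD3_c60)) = (LP (LK LD1_c11 LD2_c55 LD3_c50)) :=
  Lgr Lrot0 (Lpr_at (f637545 IH) (Lpn (LP (LK LD1_c11 LD2_c55 LD3_c50))))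
theorem f637579 : Led Lsl_ft (LP (LK LD1_c10 LD2_c34 LD3_c0)) = (LP (LK LD1_c11 LD2_c55 LD3_c50)) :=
  Lgr Lrot101 (Lpr_af (f637569 IH) (Lpe (f637561 IH) (Lpr_af (f637547 IH) (Lpn (LP (LK LD1_c11 LD2_c55 LD3_c50))))))
theorem f637587 : Led Lsl_ff (LP (LK LD1_c10 LD2_c34 LD3_c0)) = (LP (LK LD1_c11 LD2_c55 LD3_c50)) :=
  Lgr Lrot3 (Lpr_ft (f637579 IH) (Lpn (LP (LK LD1_c11 LD2_c55 LD3_c50))))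
theorem f256538 : Led Lsl_et (LP (LK LD1_c10 LD2_c34 LD3_c0)) = (LP (LK LD1_c19 LD2_c8 LD3_c23)) :=
  Lre_e IH (LK LD1_c10 LD2_c34 LD3_c0) (LK LD1_c19 LD2_c8 LD3_c23) Lrfl Lrfl
theorem f281025 : Led Lsl_et (LP (LK LD1_c8 LD2_c58 LD3_c12)) = (LP (LK LD1_c11 LD2_c55 LD3_c50)) :=
  Lgr Lrot87 (Lpr_ef (K22.f281021 IH) (Lpn (LP (LK LD1_c11 LD2_c55 LD3_c50))))
theorem f637593 : Led Lsl_ft (LP (LK LD1_c19 LD2_c8 LD3_c23)) = (LP (LK LD1_c10 LD2_c40 LD3_c8)) :=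
  Lgr Lrot86 (Lpe (f256538 IH) (Lpr_ff (f637587 IH) (Lpe (f281025 IH) (Lpe (f637514 IH) (Lpe (K27.f344307 IH) (Lpn (LP (LK LD1_c10 LD2_c40 LD3_c8))))))))
theorem f637601 : Led Lsl_af (LP (LK LD1_c19 LD2_c4 LD3_c46)) = (LP (LK LD1_c10 LD2_c40 LD3_c8)) :=
  Lgr Lrot31 (Lpe (K24.f345516 IH) (Lpr_gf (K24.f345535 IH) (Lpr_ft (f637593 IH) (Lpn (LP (LK LD1_c10 LD2_c40 LD3_c8))))))
theorem f305465 : Led Lsl_dt (LP (LK LD1_c19 LD2_c8 LD3_c19)) = (LP (LK LD1_c10 LD2_c33 LD3_c60)) :=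
  Lre_d IH (LK LD1_c19 LD2_c8 LD3_c19) (LK LD1_c10 LD2_c33 LD3_c60) Lrfl Lrfl
theorem f335986 : Led Lsl_gf (LP (LK LD1_c19 LD2_c8 LD3_c19)) = (LP (LK LD1_c25 LD2_c40 LD3_c26)) :=
  Lgr Lrot143 (Lpr_dt (f305465 IH) (Lpe (K27.f254402 IH) (Lpe (K21.f254401 IH) (Lpr_gf (K22.f335984 IH) (Lpe (K21.f288875 IH) (Lpe (K18.f288874 IH) (Lpe (K22.f178862 IH) (Lpr_gt (K16.f226952 IH) (Lpr_dt (K26.f226953 IH) (Lpn (LP (LK LD1_c25 LD2_c40 LD3_c26))))))))))))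
theorem f305463 : Led Lsl_dt (LP (LK LD1_c10 LD2_c33 LD3_c60)) = (LP (LK LD1_c19 LD2_c8 LD3_c19)) :=
  Lre_d IH (LK LD1_c10 LD2_c33 LD3_c60) (LK LD1_c19 LD2_c8 LD3_c19) Lrfl Lrfl
theorem f363652 : Led Lsl_et (LP (LK LD1_c10 LD2_c33 LD3_c60)) = (LP (LK LD1_c5 LD2_c24 LD3_c46)) :=
  Lgr Lrot185 (Lpr_dt (f305463 IH) (Lpr_gf (f335986 IH) (Lpe (K26.f226953 IH) (Lpe (K16.f226952 IH) (Lpe (K16.f246573 IH) (Lpr_dt (K14.f246551 IH) (Lpe (K14.f246506 IH) (Lpe (K14.f218496 IH) (Lpr_et (K27.f246579 IH) (Lpr_gf (K26.f363613 IH) (Lpn (LP (LK LD1_c5 LD2_c24 LD3_c46)))))))))))))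
theorem f345541 : Led Lsl_et (LP (LK LD1_c10 LD2_c31 LD3_c53)) = (LP (LK LD1_c19 LD2_c4 LD3_c46)) :=
  Lre_e IH (LK LD1_c10 LD2_c31 LD3_c53) (LK LD1_c19 LD2_c4 LD3_c46) Lrfl Lrfl
theorem f275280 : Led Lsl_ct (LP (LK LD1_c19 LD2_c2 LD3_c46)) = (LP (LK LD1_c10 LD2_c30 LD3_c35)) :=
  Lre_c IH (LK LD1_c19 LD2_c2 LD3_c46) (LK LD1_c10 LD2_c30 LD3_c35) Lrfl Lrfl
theorem f184332 : Led Lsl_ct (LP (LK LD1_c16 LD2_c2 LD3_c55)) = (LP (LK LD1_c26 LD2_c0 LD3_c23)) :=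
  Lre_c IH (LK LD1_c16 LD2_c2 LD3_c55) (LK LD1_c26 LD2_c0 LD3_c23) Lrfl Lrfl
theorem f275281 : Led Lsl_ef (LP (LK LD1_c19 LD2_c2 LD3_c46)) = (LP (LK LD1_c26 LD2_c0 LD3_c23)) :=
  Lgr Lrot28 (Lpr_ct (f275280 IH) (Lpr_et (K16.f275278 IH) (Lpr_ct (f184332 IH) (Lpn (LP (LK LD1_c26 LD2_c0 LD3_c23))))))
theorem f637559 : Led Lsl_ft (LP (LK LD1_c19 LD2_c4 LD3_c46)) = (LP (LK LD1_c26 LD2_c0 LD3_c23)) :=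
  Lgr Lrot86 (Lpe (f345541 IH) (Lpe (f637539 IH) (Lpe (f363652 IH) (Lpr_ff (f637553 IH) (Lpr_ef (f275281 IH) (Lpn (LP (LK LD1_c26 LD2_c0 LD3_c23))))))))
theorem f637612 : Led Lsl_at (LP (LK LD1_c26 LD2_c0 LD3_c23)) = (LP (LK LD1_c19 LD2_c8 LD3_c23)) :=
  Lgr Lrot66 (Lpe (f637559 IH) (Lpr_af (f637601 IH) (Lpe (f637593 IH) (Lpn (LP (LK LD1_c19 LD2_c8 LD3_c23))))))
theorem f637614 : Led Lsl_af (LP (LK LD1_c16 LD2_c2 LD3_c55)) = (LP (LK LD1_c10 LD2_c34 LD3_c1)) :=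
  Lgr Lrot68 (Lpr_ct (f184332 IH) (Lpr_at (f637612 IH) (Lpr_ct (K16.f256511 IH) (Lpn (LP (LK LD1_c10 LD2_c34 LD3_c1))))))
theorem f637597 : Led Lsl_ff (LP (LK LD1_c10 LD2_c34 LD3_c1)) = (LP (LK LD1_c5 LD2_c24 LD3_c45)) :=
  Lgr Lrot23 (Lpr_ct (K24.f256519 IH) (Lpr_ft (f637593 IH) (Lpr_ct (K22.f258261 IH) (Lpn (LP (LK LD1_c5 LD2_c24 LD3_c45))))))
theorem f637610 : Led Lsl_at (LP (LK LD1_c10 LD2_c31 LD3_c54)) = (LP (LK LD1_c5 LD2_c24 LD3_c45)) :=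
  Lgr Lrot107 (Lpe (K24.f345508 IH) (Lpr_af (f637601 IH) (Lpe (K22.f258273 IH) (Lpn (LP (LK LD1_c5 LD2_c24 LD3_c45))))))
theorem f637622 : Led Lsl_ft (LP (LK LD1_c16 LD2_c2 LD3_c55)) = (LP (LK LD1_c10 LD2_c31 LD3_c54)) :=
  Lgr Lrot101 (Lpr_af (f637614 IH) (Lpr_ff (f637597 IH) (Lpe (f637610 IH) (Lpn (LP (LK LD1_c10 LD2_c31 LD3_c54))))))
theorem f637628 : Led Lsl_ff (LP (LK LD1_c16 LD2_c2 LD3_c55)) = (LP (LK LD1_c10 LD2_c31 LD3_c54)) :=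
  Lgr Lrot3 (Lpr_ft (f637622 IH) (Lpn (LP (LK LD1_c10 LD2_c31 LD3_c54))))
theorem f637632 : Led Lsl_ft (LP (LK LD1_c8 LD2_c32 LD3_c54)) = (LP (LK LD1_c5 LD2_c23 LD3_c54)) :=
  Lgr Lrot54 (Lpe (K16.f184363 IH) (Lpr_ff (f637628 IH) (Lpr_df (K25.f345509 IH) (Lpn (LP (LK LD1_c5 LD2_c23 LD3_c54))))))
theorem f637640 : Led Lsl_af (LP (LK LD1_c8 LD2_c32 LD3_c55)) = (LP (LK LD1_c5 LD2_c23 LD3_c54)) :=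
  Lgr Lrot31 (Lpr_gf (K22.f300882 IH) (Lpe (K18.f300895 IH) (Lpr_ft (f637632 IH) (Lpn (LP (LK LD1_c5 LD2_c23 LD3_c54))))))
theorem f275329 : Led Lsl_ef (LP (LK LD1_c8 LD2_c33 LD3_c50)) = (LP (LK LD1_c8 LD2_c20 LD3_c39)) :=
  Lgr Lrot88 (Lpr_et (K16.f275323 IH) (Lpn (LP (LK LD1_c8 LD2_c20 LD3_c39))))
theorem f335988 : Led Lsl_ef (LP (LK LD1_c5 LD2_c30 LD3_c54)) = (LP (LK LD1_c8 LD2_c32 LD3_c55)) :=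
  Lgr Lrot17 (Lpe (K22.f335670 IH) (Lpr_ef (f275329 IH) (Lpe (K16.f275321 IH) (Lpr_gf (K23.f254398 IH) (Lpe (K21.f254401 IH) (Lpr_gf (K22.f335984 IH) (Lpe (K21.f288890 IH) (Lpr_dt (K21.f289012 IH) (Lpe (K22.f322676 IH) (Lpr_df (K22.f258263 IH) (Lpn (LP (LK LD1_c8 LD2_c32 LD3_c55)))))))))))))
theorem f637648 : Led Lsl_at (LP (LK LD1_c5 LD2_c30 LD3_c54)) = (LP (LK LD1_c8 LD2_c33 LD3_c49)) :=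
  Lgr Lrot80 (Lpr_ef (f335988 IH) (Lpr_af (f637640 IH) (Lpr_ef (K19.f307766 IH) (Lpn (LP (LK LD1_c8 LD2_c33 LD3_c49))))))
theorem f637658 : Led Lsl_ff (LP (LK LD1_c5 LD2_c30 LD3_c54)) = (LP (LK LD1_c8 LD2_c33 LD3_c27)) :=
  Lgr Lrot52 (Lpr_at (f637648 IH) (Lpe (K20.f302918 IH) (Lpe (K23.f343814 IH) (Lpn (LP (LK LD1_c8 LD2_c33 LD3_c27))))))
theorem f637668 : Led Lsl_ft (LP (LK LD1_c5 LD2_c30 LD3_c54)) = (LP (LK LD1_c8 LD2_c33 LD3_c27)) :=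
  Lgr Lrot48 (Lpr_ff (f637658 IH) (Lpn (LP (LK LD1_c8 LD2_c33 LD3_c27))))
theorem f637676 : Led Lsl_af (LP (LK LD1_c8 LD2_c20 LD3_c33)) = (LP (LK LD1_c8 LD2_c33 LD3_c27)) :=
  Lgr Lrot31 (Lpe (K21.f182286 IH) (Lpr_gf (K25.f335673 IH) (Lpr_ft (f637668 IH) (Lpn (LP (LK LD1_c8 LD2_c33 LD3_c27))))))
theorem f637650 : Led Lsl_af (LP (LK LD1_c5 LD2_c30 LD3_c54)) = (LP (LK LD1_c8 LD2_c33 LD3_c49)) :=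
  Lgr Lrot0 (Lpr_at (f637648 IH) (Lpn (LP (LK LD1_c8 LD2_c33 LD3_c49))))
theorem f637686 : Led Lsl_ft (LP (LK LD1_c8 LD2_c20 LD3_c33)) = (LP (LK LD1_c8 LD2_c33 LD3_c49)) :=
  Lgr Lrot101 (Lpr_af (f637676 IH) (Lpe (f637668 IH) (Lpr_af (f637650 IH) (Lpn (LP (LK LD1_c8 LD2_c33 LD3_c49))))))
theorem f637626 : Led Lsl_ff (LP (LK LD1_c8 LD2_c32 LD3_c54)) = (LP (LK LD1_c5 LD2_c23 LD3_c54)) :=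
  Lgr Lrot19 (Lpr_dt (K21.f184331 IH) (Lpr_ft (f637622 IH) (Lpr_dt (K24.f345504 IH) (Lpn (LP (LK LD1_c5 LD2_c23 LD3_c54))))))
theorem f637690 : Led Lsl_ff (LP (LK LD1_c15 LD2_c42 LD3_c11)) = (LP (LK LD1_c15 LD2_c41 LD3_c33)) :=
  Lgr Lrot72 (Lpr_et (K21.f182313 IH) (Lpr_ft (f637686 IH) (Lpe (K19.f307766 IH) (Lpe (f637626 IH) (Lpr_et (K16.f258326 IH) (Lpn (LP (LK LD1_c15 LD2_c41 LD3_c33))))))))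
theorem f637694 : Led Lsl_ft (LP (LK LD1_c8 LD2_c32 LD3_c44)) = (LP (LK LD1_c8 LD2_c20 LD3_c14)) :=
  Lgr Lrot54 (Lpr_df (K21.f253994 IH) (Lpr_ff (f637690 IH) (Lpe (K21.f184462 IH) (Lpn (LP (LK LD1_c8 LD2_c20 LD3_c14))))))
theorem f637700 : Led Lsl_af (LP (LK LD1_c4 LD2_c12 LD3_c3)) = (LP (LK LD1_c8 LD2_c20 LD3_c14)) :=
  Lgr Lrot31 (Lpe (K22.f322490 IH) (Lpe (K21.f232746 IH) (Lpr_ft (f637694 IH) (Lpn (LP (LK LD1_c8 LD2_c20 LD3_c14))))))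
theorem f637708 : Led Lsl_at (LP (LK LD1_c8 LD2_c23 LD3_c50)) = (LP (LK LD1_c15 LD2_c41 LD3_c34)) :=
  Lgr Lrot80 (Lpe (K20.f322479 IH) (Lpr_af (f637700 IH) (Lpe (K16.f232833 IH) (Lpn (LP (LK LD1_c15 LD2_c41 LD3_c34))))))
theorem f361361 : Led Lsl_ct (LP (LK LD1_c15 LD2_c46 LD3_c10)) = (LP (LK LD1_c8 LD2_c22 LD3_c52)) :=
  Lre_c IH (LK LD1_c15 LD2_c46 LD3_c10) (LK LD1_c8 LD2_c22 LD3_c52) Lrfl Lrfl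
theorem f361362 : Led Lsl_gt (LP (LK LD1_c8 LD2_c22 LD3_c52)) = (LP (LK LD1_c15 LD2_c41 LD3_c34)) :=
  Lgr Lrot94 (Lpe (f361361 IH) (Lpr_gt (K26.f361357 IH) (Lpe (K26.f233298 IH) (Lpr_gt (K19.f233297 IH) (Lpr_dt (K16.f233307 IH) (Lpe (K20.f233310 IH) (Lpe (K21.f275292 IH) (Lpe (K16.f231432 IH) (Lpr_df (K16.f275283 IH) (Lpn (LP (LK LD1_c15 LD2_c41 LD3_c34))))))))))))
theorem f637712 : Led Lsl_ff (LP (LK LD1_c8 LD2_c23 LD3_c50)) = (LP (LK LD1_c11 LD2_c55 LD3_c51)) :=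
  Lgr Lrot52 (Lpr_at (f637708 IH) (Lpe (f361362 IH) (Lpr_gf (K26.f361352 IH) (Lpn (LP (LK LD1_c11 LD2_c55 LD3_c51))))))
theorem f637718 : Led Lsl_ft (LP (LK LD1_c8 LD2_c23 LD3_c50)) = (LP (LK LD1_c11 LD2_c55 LD3_c51)) :=
  Lgr Lrot48 (Lpr_ff (f637712 IH) (Lpn (LP (LK LD1_c11 LD2_c55 LD3_c51))))
theorem f637724 : Led Lsl_af (LP (LK LD1_c10 LD2_c33 LD3_c61)) = (LP (LK LD1_c11 LD2_c55 LD3_c51)) :=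
  Lgr Lrot31 (Lpr_gf (K22.f335984 IH) (Lpr_gf (K21.f322504 IH) (Lpr_ft (f637718 IH) (Lpn (LP (LK LD1_c11 LD2_c55 LD3_c51))))))
theorem f637710 : Led Lsl_af (LP (LK LD1_c8 LD2_c23 LD3_c50)) = (LP (LK LD1_c15 LD2_c41 LD3_c34)) :=
  Lgr Lrot0 (Lpr_at (f637708 IH) (Lpn (LP (LK LD1_c15 LD2_c41 LD3_c34))))
theorem f637734 : Led Lsl_ft (LP (LK LD1_c10 LD2_c33 LD3_c61)) = (LP (LK LD1_c15 LD2_c41 LD3_c34)) :=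
  Lgr Lrot101 (Lpr_af (f637724 IH) (Lpe (f637718 IH) (Lpr_af (f637710 IH) (Lpn (LP (LK LD1_c15 LD2_c41 LD3_c34))))))
theorem f637738 : Led Lsl_ff (LP (LK LD1_c10 LD2_c33 LD3_c61)) = (LP (LK LD1_c15 LD2_c41 LD3_c34)) :=
  Lgr Lrot3 (Lpr_ft (f637734 IH) (Lpn (LP (LK LD1_c15 LD2_c41 LD3_c34))))
theorem f348539 : Led Lsl_bt (LP (LK LD1_c10 LD2_c33 LD3_c61)) = (LP (LK LD1_c11 LD2_c53 LD3_c23)) :=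
  Lgr Lrot95 (Lpe (K21.f254403 IH) (Lpr_bf (K23.f348534 IH) (Lpe (K21.f315959 IH) (Lpn (LP (LK LD1_c11 LD2_c53 LD3_c23))))))
theorem f302873 : Led Lsl_dt (LP (LK LD1_c11 LD2_c52 LD3_c22)) = (LP (LK LD1_c16 LD2_c2 LD3_c42)) :=
  Lgr Lrot42 (Lpr_df (K21.f302869 IH) (Lpn (LP (LK LD1_c16 LD2_c2 LD3_c42))))
theorem f336595 : Led Lsl_bt (LP (LK LD1_c16 LD2_c2 LD3_c42)) = (LP (LK LD1_c15 LD2_c41 LD3_c34)) :=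
  Lgr Lrot95 (Lpe (f302873 IH) (Lpr_bf (K22.f336589 IH) (Lpr_df (K16.f275283 IH) (Lpn (LP (LK LD1_c15 LD2_c41 LD3_c34))))))
theorem f637740 : Led Lsl_ft (LP (LK LD1_c11 LD2_c53 LD3_c23)) = (LP (LK LD1_c16 LD2_c2 LD3_c42)) :=
  Lgr Lrot75 (Lpe (f348539 IH) (Lpr_ff (f637738 IH) (Lpe (f336595 IH) (Lpn (LP (LK LD1_c16 LD2_c2 LD3_c42))))))
theorem f637744 : Led Lsl_af (LP (LK LD1_c8 LD2_c35 LD3_c51)) = (LP (LK LD1_c16 LD2_c2 LD3_c42)) :=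
  Lgr Lrot31 (Lpr_gf (K21.f325383 IH) (Lpr_gf (K21.f325624 IH) (Lpr_ft (f637740 IH) (Lpn (LP (LK LD1_c16 LD2_c2 LD3_c42))))))
theorem f637752 : Led Lsl_at (LP (LK LD1_c4 LD2_c18 LD3_c31)) = (LP (LK LD1_c8 LD2_c32 LD3_c44)) :=
  Lgr Lrot80 (Lpe (K21.f179835 IH) (Lpr_af (f637744 IH) (Lpe (K21.f253999 IH) (Lpn (LP (LK LD1_c8 LD2_c32 LD3_c44))))))
theorem f374075 : Led Lsl_gt (LP (LK LD1_c8 LD2_c31 LD3_c10)) = (LP (LK LD1_c8 LD2_c20 LD3_c9)) :=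
  Lgr Lrot5 (Lpr_ft (K30.f374070 IH) (Lpr_at (K12.f222831 IH) (Lpr_gf (K25.f353234 IH) (Lpn (LP (LK LD1_c8 LD2_c20 LD3_c9))))))
theorem f312058 : Led Lsl_et (LP (LK LD1_c8 LD2_c31 LD3_c10)) = (LP (LK LD1_c4 LD2_c16 LD3_c3)) :=
  Lre_e IH (LK LD1_c8 LD2_c31 LD3_c10) (LK LD1_c4 LD2_c16 LD3_c3) Lrfl Lrfl
theorem f374006 : Led Lsl_cf (LP (LK LD1_c8 LD2_c31 LD3_c10)) = (LP (LK LD1_c5 LD2_c27 LD3_c25)) :=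
  Lgr Lrot39 (Lpr_et (f312058 IH) (Lpr_ct (K30.f374000 IH) (Lpr_et (K23.f278097 IH) (Lpn (LP (LK LD1_c5 LD2_c27 LD3_c25))))))
theorem f320367 : Led Lsl_bf (LP (LK LD1_c8 LD2_c35 LD3_c59)) = (LP (LK LD1_c8 LD2_c24 LD3_c2)) :=
  Lgr Lrot24 (Lpr_bt (K23.f320365 IH) (Lpn (LP (LK LD1_c8 LD2_c24 LD3_c2))))
theorem f219369 : Led Lsl_ct (LP (LK LD1_c8 LD2_c24 LD3_c2)) = (LP (LK LD1_c15 LD2_c47 LD3_c45)) :=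
  Lre_c IH (LK LD1_c8 LD2_c24 LD3_c2) (LK LD1_c15 LD2_c47 LD3_c45) Lrfl Lrfl
theorem f374078 : Led Lsl_gf (LP (LK LD1_c15 LD2_c47 LD3_c45)) = (LP (LK LD1_c8 LD2_c40 LD3_c12)) :=
  Lgr Lrot129 (Lpe (f219369 IH) (Lpe (f320367 IH) (Lpr_gt (K16.f279272 IH) (Lpe (K23.f312096 IH) (Lpe (f374006 IH) (Lpr_gt (f374075 IH) (Lpe (K25.f825 IH) (Lpr_bt (K25.f328390 IH) (Lpe (K22.f328387 IH) (Lpr_ct (K23.f43074 IH) (Lpn (LP (LK LD1_c8 LD2_c40 LD3_c12)))))))))))))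
theorem f232227 : Led Lsl_ct (LP (LK LD1_c9 LD2_c36 LD3_c40)) = (LP (LK LD1_c8 LD2_c32 LD3_c40)) :=
  Lgr Lrot59 (Lpr_cf (K16.f232221 IH) (Lpn (LP (LK LD1_c8 LD2_c32 LD3_c40))))
theorem f232419 : Led Lsl_ff (LP (LK LD1_c9 LD2_c36 LD3_c40)) = (LP (LK LD1_c8 LD2_c40 LD3_c12)) :=
  Lgr Lrot23 (Lpr_ct (f232227 IH) (Lpr_ft (K16.f232417 IH) (Lpr_ct (K23.f43074 IH) (Lpn (LP (LK LD1_c8 LD2_c40 LD3_c12))))))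
theorem f270650 : Led Lsl_at (LP (LK LD1_c4 LD2_c53 LD3_c31)) = (LP (LK LD1_c4 LD2_c52 LD3_c8)) :=
  Lgr Lrot66 (Lpr_ff (K16.f270648 IH) (Lpe (K16.f270566 IH) (Lpe (K16.f232433 IH) (Lpn (LP (LK LD1_c4 LD2_c52 LD3_c8))))))
theorem f270647 : Led Lsl_et (LP (LK LD1_c9 LD2_c38 LD3_c60)) = (LP (LK LD1_c4 LD2_c53 LD3_c31)) :=
  Lre_e IH (LK LD1_c9 LD2_c38 LD3_c60) (LK LD1_c4 LD2_c53 LD3_c31) Lrfl Lrfl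
theorem f270653 : Led Lsl_af (LP (LK LD1_c9 LD2_c38 LD3_c60)) = (LP (LK LD1_c9 LD2_c36 LD3_c40)) :=
  Lgr Lrot50 (Lpr_et (f270647 IH) (Lpr_at (f270650 IH) (Lpr_et (K16.f232230 IH) (Lpn (LP (LK LD1_c9 LD2_c36 LD3_c40))))))
theorem f374080 : Led Lsl_gt (LP (LK LD1_c15 LD2_c47 LD3_c45)) = (LP (LK LD1_c9 LD2_c38 LD3_c60)) :=
  Lgr Lrot46 (Lpr_gf (f374078 IH) (Lpe (f232419 IH) (Lpe (f270653 IH) (Lpn (LP (LK LD1_c9 LD2_c38 LD3_c60))))))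
theorem f270661 : Led Lsl_cf (LP (LK LD1_c9 LD2_c38 LD3_c60)) = (LP (LK LD1_c8 LD2_c21 LD3_c11)) :=
  Lgr Lrot39 (Lpr_et (f270647 IH) (Lpr_ct (K16.f270657 IH) (Lpr_et (K17.f232860 IH) (Lpn (LP (LK LD1_c8 LD2_c21 LD3_c11))))))
theorem f270711 : Led Lsl_bf (LP (LK LD1_c4 LD2_c16 LD3_c43)) = (LP (LK LD1_c8 LD2_c21 LD3_c11)) :=
  Lgr Lrot93 (Lpe (K13.f232713 IH) (Lpr_bt (K19.f270705 IH) (Lpr_dt (K22.f270707 IH) (Lpn (LP (LK LD1_c8 LD2_c21 LD3_c11))))))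
theorem f232721 : Led Lsl_ct (LP (LK LD1_c8 LD2_c32 LD3_c44)) = (LP (LK LD1_c16 LD2_c2 LD3_c41)) :=
  Lre_c IH (LK LD1_c8 LD2_c32 LD3_c44) (LK LD1_c16 LD2_c2 LD3_c41) Lrfl Lrfl
theorem f374082 : Led Lsl_gf (LP (LK LD1_c8 LD2_c34 LD3_c58)) = (LP (LK LD1_c16 LD2_c2 LD3_c41)) :=
  Lgr Lrot129 (Lpe (K18.f221857 IH) (Lpr_bt (K20.f188787 IH) (Lpr_gt (K16.f188792 IH) (Lpr_bf (f320367 IH) (Lpr_ct (f219369 IH) (Lpr_gt (f374080 IH) (Lpr_cf (f270661 IH) (Lpe (f270711 IH) (Lpr_gt (K21.f184454 IH) (Lpr_ct (f232721 IH) (Lpn (LP (LK LD1_c16 LD2_c2 LD3_c41)))))))))))))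
theorem f221852 : Led Lsl_at (LP (LK LD1_c8 LD2_c22 LD3_c0)) = (LP (LK LD1_c8 LD2_c34 LD3_c58)) :=
  Lgr Lrot107 (Lpr_cf (K18.f219823 IH) (Lpe (K12.f218110 IH) (Lpr_cf (K18.f221849 IH) (Lpn (LP (LK LD1_c8 LD2_c34 LD3_c58))))))
theorem f374084 : Led Lsl_gt (LP (LK LD1_c8 LD2_c34 LD3_c19)) = (LP (LK LD1_c16 LD2_c2 LD3_c41)) :=
  Lgr Lrot5 (Lpe (K20.f219862 IH) (Lpr_at (f221852 IH) (Lpr_gf (f374082 IH) (Lpn (LP (LK LD1_c16 LD2_c2 LD3_c41))))))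
theorem f374086 : Led Lsl_bf (LP (LK LD1_c8 LD2_c20 LD3_c14)) = (LP (LK LD1_c8 LD2_c32 LD3_c44)) :=
  Lgr Lrot156 (Lpr_gt (K16.f232830 IH) (Lpr_bf (K11.f199899 IH) (Lpr_ct (K13.f200056 IH) (Lpe (K21.f200087 IH) (Lpr_cf (K19.f308756 IH) (Lpr_bt (K23.f308766 IH) (Lpr_gt (K20.f322614 IH) (Lpr_ct (K20.f188819 IH) (Lpr_gt (f374084 IH) (Lpe (f232721 IH) (Lpn (LP (LK LD1_c8 LD2_c32 LD3_c44)))))))))))))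
theorem f637760 : v4135 = (LP (LK LD1_c2 LD2_c3 LD3_c12)) :=
  (Llr Lrot36 (Lpe (f631387 IH) (Lpr_bt (K20.f322567 IH) (Lpr_at (f637752 IH) (Lpe (f374086 IH) (Lpe (f637700 IH) (Lpr_bt (K22.f51504 IH) (Lpn (LP (LK LD1_c2 LD2_c3 LD3_c12)))))))))).symm
theorem f322483 : Led Lsl_bt (LP (LK LD1_c4 LD2_c12 LD3_c6)) = (LP (LK LD1_c8 LD2_c23 LD3_c50)) :=
  Lre_b IH (LK LD1_c4 LD2_c12 LD3_c6) (LK LD1_c8 LD2_c23 LD3_c50) Lrfl Lrfl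
theorem f637720 : Led Lsl_ff (LP (LK LD1_c4 LD2_c12 LD3_c6)) = (LP (LK LD1_c6 LD2_c6 LD3_c14)) :=
  Lgr Lrot25 (Lpr_bt (f322483 IH) (Lpr_ft (f637718 IH) (Lpr_bt (K25.f281019 IH) (Lpn (LP (LK LD1_c6 LD2_c6 LD3_c14))))))
theorem f348184 : Led Lsl_ef (LP (LK LD1_c6 LD2_c6 LD3_c14)) = (LP (LK LD1_c5 LD2_c26 LD3_c40)) :=
  Lgr Lrot17 (Lpe (K22.f281017 IH) (Lpe (K19.f167672 IH) (Lpr_dt (K21.f181811 IH) (Lpr_gf (K21.f276175 IH) (Lpr_df (K22.f333732 IH) (Lpe (K22.f335661 IH) (Lpe (K13.f245780 IH) (Lpr_dt (K22.f245839 IH) (Lpr_gf (K23.f348180 IH) (Lpe (K23.f267661 IH) (Lpn (LP (LK LD1_c5 LD2_c26 LD3_c40)))))))))))))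
theorem f637772 : Led Lsl_ff (LP (LK LD1_c5 LD2_c26 LD3_c40)) = (LP (LK LD1_c4 LD2_c18 LD3_c34)) :=
  Lgr Lrot72 (Lpe (f348184 IH) (Lpe (f637720 IH) (Lpr_et (K22.f51511 IH) (Lpq (f637760 IH) (Lpe (f631389 IH) (Lpr_et (K13.f179812 IH) (Lpn (LP (LK LD1_c4 LD2_c18 LD3_c34)))))))))
theorem f637780 : Led Lsl_at (LP (LK LD1_c5 LD2_c26 LD3_c40)) = (LP (LK LD1_c6 LD2_c6 LD3_c14)) :=
  Lgr Lrot26 (Lpr_ff (f637772 IH) (Lpr_gt (K22.f333347 IH) (Lpr_gt (K22.f281017 IH) (Lpn (LP (LK LD1_c6 LD2_c6 LD3_c14))))))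
theorem f637786 : Led Lsl_af (LP (LK LD1_c4 LD2_c18 LD3_c34)) = (LP (LK LD1_c4 LD2_c12 LD3_c6)) :=
  Lgr Lrot45 (Lpe (f637772 IH) (Lpr_at (f637780 IH) (Lpe (f637720 IH) (Lpn (LP (LK LD1_c4 LD2_c12 LD3_c6))))))
theorem f637790 : Led Lsl_at (LP (LK LD1_c2 LD2_c59 LD3_c13)) = (LP (LK LD1_c2 LD2_c39 LD3_c44)) :=
  Lgr Lrot51 (Lpr_df (K13.f179806 IH) (Lpr_af (f637786 IH) (Lpe (K23.f322402 IH) (Lpn (LP (LK LD1_c2 LD2_c39 LD3_c44))))))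
theorem f637776 : Led Lsl_ft (LP (LK LD1_c2 LD2_c39 LD3_c43)) = (LP (LK LD1_c2 LD2_c59 LD3_c13)) :=
  Lgr Lrot54 (Lpe (K23.f267661 IH) (Lpr_ff (f637772 IH) (Lpe (K22.f179810 IH) (Lpn (LP (LK LD1_c2 LD2_c59 LD3_c13))))))
theorem f267654 : Led Lsl_dt (LP (LK LD1_c2 LD2_c39 LD3_c43)) = (LP (LK LD1_c5 LD2_c26 LD3_c40)) :=
  Lre_d IH (LK LD1_c2 LD2_c39 LD3_c43) (LK LD1_c5 LD2_c26 LD3_c40) Lrfl Lrfl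
theorem f637784 : Led Lsl_af (LP (LK LD1_c2 LD2_c39 LD3_c43)) = (LP (LK LD1_c2 LD2_c59 LD3_c12)) :=
  Lgr Lrot117 (Lpr_dt (f267654 IH) (Lpr_at (f637780 IH) (Lpr_dt (K22.f179805 IH) (Lpn (LP (LK LD1_c2 LD2_c59 LD3_c12))))))
theorem f637798 : Led Lsl_ff (LP (LK LD1_c2 LD2_c59 LD3_c12)) = (LP (LK LD1_c2 LD2_c39 LD3_c44)) :=
  Lgr Lrot30 (Lpe (f637784 IH) (Lpr_ft (f637776 IH) (Lpr_at (f637790 IH) (Lpn (LP (LK LD1_c2 LD2_c39 LD3_c44))))))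
theorem f637802 : Led Lsl_ft (LP (LK LD1_c2 LD2_c59 LD3_c12)) = (LP (LK LD1_c2 LD2_c39 LD3_c44)) :=
  Lgr Lrot48 (Lpr_ff (f637798 IH) (Lpn (LP (LK LD1_c2 LD2_c39 LD3_c44))))
theorem f637480 : (LP (LK LD1_c1 LD2_c17 LD3_c51)) = v4164 :=
  Lefun (Lecon (Lfl_ff (K35.f495586 IH)) (f637476 IH)) (f631566 IH)
theorem f637804 : Led Lsl_ff (LP (LK LD1_c2 LD2_c42 LD3_c37)) = (LP (LK LD1_c5 LD2_c26 LD3_c42)) :=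
  Lgr Lrot72 (Lpr_et (K22.f183269 IH) (Lpqs (f637480 IH) (Lpe (f631567 IH) (Lpr_et (K22.f281007 IH) (Lpr_ft (f637802 IH) (Lpr_et (K20.f245909 IH) (Lpn (LP (LK LD1_c5 LD2_c26 LD3_c42)))))))))
theorem f637810 : Led Lsl_at (LP (LK LD1_c2 LD2_c42 LD3_c37)) = (LP (LK LD1_c4 LD2_c30 LD3_c1)) :=
  Lgr Lrot26 (Lpr_ff (f637804 IH) (Lpr_gt (K23.f348204 IH) (Lpe (K21.f309738 IH) (Lpn (LP (LK LD1_c4 LD2_c30 LD3_c1))))))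
theorem f276168 : Led Lsl_ct (LP (LK LD1_c5 LD2_c32 LD3_c52)) = (LP (LK LD1_c2 LD2_c42 LD3_c37)) :=
  Lre_c IH (LK LD1_c5 LD2_c32 LD3_c52) (LK LD1_c2 LD2_c42 LD3_c37) Lrfl Lrfl
theorem f637816 : Led Lsl_af (LP (LK LD1_c5 LD2_c32 LD3_c52)) = (LP (LK LD1_c8 LD2_c58 LD3_c11)) :=
  Lgr Lrot68 (Lpr_ct (f276168 IH) (Lpr_at (f637810 IH) (Lpr_ct (K21.f276178 IH) (Lpn (LP (LK LD1_c8 LD2_c58 LD3_c11))))))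
theorem f637969 : Led Lsl_at (LP (LK LD1_c5 LD2_c32 LD3_c52)) = (LP (LK LD1_c8 LD2_c58 LD3_c11)) :=
  Lgr Lrot100 (Lpr_af (f637816 IH) (Lpn (LP (LK LD1_c8 LD2_c58 LD3_c11))))
theorem f310324 : Led Lsl_ct (LP (LK LD1_c4 LD2_c11 LD3_c16)) = (LP (LK LD1_c2 LD2_c23 LD3_c52)) :=
  Lgr Lrot59 (Lpr_cf (K20.f310300 IH) (Lpn (LP (LK LD1_c2 LD2_c23 LD3_c52))))
theorem f306904 : Led Lsl_ct (LP (LK LD1_c9 LD2_c36 LD3_c55)) = (LP (LK LD1_c4 LD2_c52 LD3_c16)) :=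
  Lre_c IH (LK LD1_c9 LD2_c36 LD3_c55) (LK LD1_c4 LD2_c52 LD3_c16) Lrfl Lrfl
theorem f333353 : Led Lsl_gt (LP (LK LD1_c10 LD2_c44 LD3_c31)) = (LP (LK LD1_c9 LD2_c36 LD3_c55)) :=
  Lgr Lrot150 (Lpe (K26.f245912 IH) (Lpr_gf (K22.f333351 IH) (Lpe (K21.f181811 IH) (Lpr_gt (K19.f167664 IH) (Lpr_ct (K21.f181827 IH) (Lpr_gt (K20.f170869 IH) (Lpr_ct (f310324 IH) (Lpe (K25.f306910 IH) (Lpe (f306904 IH) (Lpn (LP (LK LD1_c9 LD2_c36 LD3_c55))))))))))))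
theorem f637971 : Led Lsl_ff (LP (LK LD1_c5 LD2_c32 LD3_c52)) = (LP (LK LD1_c10 LD2_c44 LD3_c31)) :=
  Lgr Lrot52 (Lpr_at (f637969 IH) (Lpr_gf (K25.f354682 IH) (Lpe (f333353 IH) (Lpn (LP (LK LD1_c10 LD2_c44 LD3_c31))))))
theorem f698307 : Led Lsl_ff (LP (LK LD1_c5 LD2_c39 LD3_c36)) = v12805 :=
  Lgr Lrot19 (Lpe (K22.f245950 IH) (Lpe (f637971 IH) (Lpr_dt (f698303 IH) (Lpn v12805))))
theorem f226047 : Led Lsl_gt (LP (LK LD1_c4 LD2_c31 LD3_c35)) = (LP (LK LD1_c9 LD2_c1 LD3_c10)) :=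
  Lre_g IH (LK LD1_c4 LD2_c31 LD3_c35) (LK LD1_c9 LD2_c1 LD3_c10) Lrfl Lrfl
theorem f698309 : Led Lsl_at (LP (LK LD1_c5 LD2_c39 LD3_c36)) = (LP (LK LD1_c9 LD2_c1 LD3_c10)) :=
  Lgr Lrot26 (Lpr_ff (f698307 IH) (Lpe (f698301 IH) (Lpr_gt (f226047 IH) (Lpn (LP (LK LD1_c9 LD2_c1 LD3_c10))))))
theorem f698310 : Led Lsl_at (LP (LK LD1_c5 LD2_c39 LD3_c36)) = (LP (LK LD1_c9 LD2_c1 LD3_c10)) :=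
  Leop (Lpe (f698309 IH) (Lpn (LP (LK LD1_c5 LD2_c39 LD3_c36))))
theorem seed_632 : LEOK LG_a (LK LD1_c5 LD2_c39 LD3_c36) :=
  Leoe_a (LK LD1_c5 LD2_c39 LD3_c36) (f698310 IH)
def v12822 : LQ := Led Lsl_dt (LP (LK LD1_c4 LD2_c32 LD3_c4))
theorem f698391 : Led Lsl_dt (LP (LK LD1_c4 LD2_c32 LD3_c4)) = v12822 :=
  Lrfl
theorem f503803 : Led Lsl_ff (LP (LK LD1_c6 LD2_c30 LD3_c24)) = (LP (LK LD1_c4 LD2_c41 LD3_c6)) :=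
  Lgr Lrot3 (Lpr_ft (K41.f503795 IH) (Lpn (LP (LK LD1_c4 LD2_c41 LD3_c6))))
theorem f503753 : Led Lsl_af (LP (LK LD1_c4 LD2_c57 LD3_c53)) = (LP (LK LD1_c6 LD2_c30 LD3_c24)) :=
  Lgr Lrot0 (Lpr_at (K32.f503751 IH) (Lpn (LP (LK LD1_c6 LD2_c30 LD3_c24))))
theorem f503805 : Led Lsl_at (LP (LK LD1_c3 LD2_c2 LD3_c50)) = (LP (LK LD1_c4 LD2_c41 LD3_c6)) :=
  Lgr Lrot66 (Lpe (K32.f503738 IH) (Lpr_af (f503753 IH) (Lpr_ff (f503803 IH) (Lpn (LP (LK LD1_c4 LD2_c41 LD3_c6))))))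
theorem f505500 : Led Lsl_gt (LP (LK LD1_c4 LD2_c57 LD3_c53)) = (LP (LK LD1_c6 LD2_c30 LD3_c25)) :=
  Lgr Lrot5 (Lpr_ft (K32.f503738 IH) (Lpr_at (f503805 IH) (Lpr_gf (K46.f505498 IH) (Lpn (LP (LK LD1_c6 LD2_c30 LD3_c25))))))
theorem f174926 : Led Lsl_gt (LP (LK LD1_c4 LD2_c32 LD3_c4)) = (LP (LK LD1_c2 LD2_c13 LD3_c3)) :=
  Lre_g IH (LK LD1_c4 LD2_c32 LD3_c4) (LK LD1_c2 LD2_c13 LD3_c3) Lrfl Lrfl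
theorem f505606 : Led Lsl_et (LP (LK LD1_c8 LD2_c0 LD3_c56)) = (LP (LK LD1_c4 LD2_c32 LD3_c4)) :=
  Lgr Lrot185 (Lpr_dt (K49.f505546 IH) (Lpe (f505500 IH) (Lpe (K32.f140575 IH) (Lpe (K32.f58953 IH) (Lpe (K41.f40944 IH) (Lpr_dt (K1.f40727 IH) (Lpr_gf (K9.f174886 IH) (Lpe (K30.f20640 IH) (Lpr_et (K30.f174896 IH) (Lpe (f174926 IH) (Lpn (LP (LK LD1_c4 LD2_c32 LD3_c4)))))))))))))
theorem f698394 : Led Lsl_ef (LP (LK LD1_c4 LD2_c34 LD3_c6)) = v12822 :=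
  Lgr Lrot73 (Lpr_dt (K32.f505153 IH) (Lpr_et (K41.f505489 IH) (Lpe (K48.f505540 IH) (Lpr_et (f505606 IH) (Lpr_dt (f698391 IH) (Lpn v12822))))))
theorem f698393 : Led Lsl_df (LP (LK LD1_c4 LD2_c32 LD3_c4)) = v12822 :=
  Lgr Lrot38 (Lpr_dt (f698391 IH) (Lpn v12822))
theorem f177658 : Led Lsl_dt (LP (LK LD1_c2 LD2_c13 LD3_c3)) = (LP (LK LD1_c4 LD2_c32 LD3_c5)) :=
  Lre_d IH (LK LD1_c2 LD2_c13 LD3_c3) (LK LD1_c4 LD2_c32 LD3_c5) Lrfl Lrfl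
theorem f186066 : Led Lsl_dt (LP (LK LD1_c2 LD2_c46 LD3_c38)) = (LP (LK LD1_c1 LD2_c19 LD3_c43)) :=
  Lre_d IH (LK LD1_c2 LD2_c46 LD3_c38) (LK LD1_c1 LD2_c19 LD3_c43) Lrfl Lrfl
theorem f379975 : Led Lsl_af (LP (LK LD1_c2 LD2_c13 LD3_c3)) = (LP (LK LD1_c1 LD2_c19 LD3_c43)) :=
  Lgr Lrot117 (Lpr_dt (f177658 IH) (Lpr_at (K40.f379969 IH) (Lpr_dt (f186066 IH) (Lpn (LP (LK LD1_c1 LD2_c19 LD3_c43))))))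
theorem f225776 : Led Lsl_ft (LP (LK LD1_c2 LD2_c46 LD3_c39)) = (LP (LK LD1_c1 LD2_c19 LD3_c43)) :=
  Lre_f IH (LK LD1_c2 LD2_c46 LD3_c39) (LK LD1_c1 LD2_c19 LD3_c43) Lrfl Lrfl
theorem f380077 : Led Lsl_gf (LP (LK LD1_c4 LD2_c32 LD3_c4)) = (LP (LK LD1_c2 LD2_c46 LD3_c39)) :=
  Lgr Lrot47 (Lpr_gt (f174926 IH) (Lpr_af (f379975 IH) (Lpe (f225776 IH) (Lpn (LP (LK LD1_c2 LD2_c46 LD3_c39))))))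
theorem f225765 : Led Lsl_dt (LP (LK LD1_c5 LD2_c41 LD3_c14)) = (LP (LK LD1_c2 LD2_c46 LD3_c39)) :=
  Lre_d IH (LK LD1_c5 LD2_c41 LD3_c14) (LK LD1_c2 LD2_c46 LD3_c39) Lrfl Lrfl
theorem f571478 : Led Lsl_et (LP (LK LD1_c5 LD2_c48 LD3_c42)) = (LP (LK LD1_c11 LD2_c26 LD3_c51)) :=
  Lre_e IH (LK LD1_c5 LD2_c48 LD3_c42) (LK LD1_c11 LD2_c26 LD3_c51) Lrfl Lrfl
theorem f571717 : Led Lsl_bt (LP (LK LD1_c11 LD2_c26 LD3_c51)) = (LP (LK LD1_c5 LD2_c49 LD3_c7)) :=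
  Lgr Lrot119 (Lpe (f571478 IH) (Lpr_bf (K42.f571715 IH) (Lpe (K24.f380088 IH) (Lpn (LP (LK LD1_c5 LD2_c49 LD3_c7))))))
theorem f613278 : Led Lsl_bf (LP (LK LD1_c11 LD2_c26 LD3_c51)) = (LP (LK LD1_c5 LD2_c49 LD3_c7)) :=
  Lgr Lrot24 (Lpr_bt (f571717 IH) (Lpn (LP (LK LD1_c5 LD2_c49 LD3_c7))))
theorem f380608 : Led Lsl_et (LP (LK LD1_c9 LD2_c1 LD3_c42)) = (LP (LK LD1_c4 LD2_c31 LD3_c59)) :=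
  Lre_e IH (LK LD1_c9 LD2_c1 LD3_c42) (LK LD1_c4 LD2_c31 LD3_c59) Lrfl Lrfl
theorem f571479 : Led Lsl_dt (LP (LK LD1_c11 LD2_c26 LD3_c51)) = (LP (LK LD1_c9 LD2_c1 LD3_c42)) :=
  Lgr Lrot77 (Lpe (f571478 IH) (Lpr_df (K42.f571470 IH) (Lpe (K40.f181701 IH) (Lpe (K30.f181699 IH) (Lpe (f380608 IH) (Lpn (LP (LK LD1_c9 LD2_c1 LD3_c42))))))))
theorem f613280 : Led Lsl_bt (LP (LK LD1_c9 LD2_c1 LD3_c42)) = (LP (LK LD1_c5 LD2_c40 LD3_c59)) :=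
  Lgr Lrot95 (Lpe (f571479 IH) (Lpr_bf (f613278 IH) (Lpe (K24.f380096 IH) (Lpn (LP (LK LD1_c5 LD2_c40 LD3_c59))))))
theorem f380623 : Led Lsl_ft (LP (LK LD1_c16 LD2_c51 LD3_c38)) = (LP (LK LD1_c9 LD2_c1 LD3_c42)) :=
  Lre_f IH (LK LD1_c16 LD2_c51 LD3_c38) (LK LD1_c9 LD2_c1 LD3_c42) Lrfl Lrfl
theorem f380101 : Led Lsl_ft (LP (LK LD1_c5 LD2_c40 LD3_c59)) = (LP (LK LD1_c11 LD2_c12 LD3_c20)) :=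
  Lre_f IH (LK LD1_c5 LD2_c40 LD3_c59) (LK LD1_c11 LD2_c12 LD3_c20) Lrfl Lrfl
theorem f613289 : Led Lsl_bf (LP (LK LD1_c16 LD2_c51 LD3_c38)) = (LP (LK LD1_c11 LD2_c12 LD3_c20)) :=
  Lgr Lrot61 (Lpr_ft (f380623 IH) (Lpr_bt (f613280 IH) (Lpr_ft (f380101 IH) (Lpn (LP (LK LD1_c11 LD2_c12 LD3_c20))))))
theorem f380236 : Led Lsl_et (LP (LK LD1_c5 LD2_c40 LD3_c22)) = (LP (LK LD1_c2 LD2_c46 LD3_c9)) :=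
  Lre_e IH (LK LD1_c5 LD2_c40 LD3_c22) (LK LD1_c2 LD2_c46 LD3_c9) Lrfl Lrfl
theorem f380237 : Led Lsl_ft (LP (LK LD1_c11 LD2_c11 LD3_c24)) = (LP (LK LD1_c5 LD2_c40 LD3_c22)) :=
  Lre_f IH (LK LD1_c11 LD2_c11 LD3_c24) (LK LD1_c5 LD2_c40 LD3_c22) Lrfl Lrfl
theorem f380238 : Led Lsl_et (LP (LK LD1_c4 LD2_c31 LD3_c59)) = (LP (LK LD1_c9 LD2_c1 LD3_c42)) :=
  Lre_e IH (LK LD1_c4 LD2_c31 LD3_c59) (LK LD1_c9 LD2_c1 LD3_c42) Lrfl Lrfl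
theorem f380239 : Led Lsl_ft (LP (LK LD1_c9 LD2_c1 LD3_c42)) = (LP (LK LD1_c16 LD2_c51 LD3_c38)) :=
  Lre_f IH (LK LD1_c9 LD2_c1 LD3_c42) (LK LD1_c16 LD2_c51 LD3_c38) Lrfl Lrfl
theorem f380240 : Led Lsl_ef (LP (LK LD1_c11 LD2_c11 LD3_c24)) = (LP (LK LD1_c16 LD2_c51 LD3_c38)) :=
  Lgr Lrot21 (Lpr_ft (f380237 IH) (Lpr_et (f380236 IH) (Lpr_ft (K30.f380232 IH) (Lpr_et (f380238 IH) (Lpr_ft (f380239 IH) (Lpn (LP (LK LD1_c16 LD2_c51 LD3_c38))))))))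
theorem f380131 : Led Lsl_et (LP (LK LD1_c5 LD2_c40 LD3_c53)) = (LP (LK LD1_c11 LD2_c12 LD3_c20)) :=
  Lre_e IH (LK LD1_c5 LD2_c40 LD3_c53) (LK LD1_c11 LD2_c12 LD3_c20) Lrfl Lrfl
theorem f613295 : Led Lsl_bt (LP (LK LD1_c11 LD2_c11 LD3_c24)) = (LP (LK LD1_c5 LD2_c40 LD3_c53)) :=
  Lgr Lrot119 (Lpr_ef (f380240 IH) (Lpr_bf (f613289 IH) (Lpe (f380131 IH) (Lpn (LP (LK LD1_c5 LD2_c40 LD3_c53))))))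
theorem f380622 : Led Lsl_ft (LP (LK LD1_c5 LD2_c40 LD3_c22)) = (LP (LK LD1_c11 LD2_c11 LD3_c24)) :=
  Lre_f IH (LK LD1_c5 LD2_c40 LD3_c22) (LK LD1_c11 LD2_c11 LD3_c24) Lrfl Lrfl
theorem f613303 : Led Lsl_ft (LP (LK LD1_c5 LD2_c40 LD3_c53)) = (LP (LK LD1_c2 LD2_c46 LD3_c20)) :=
  Lre_f IH (LK LD1_c5 LD2_c40 LD3_c53) (LK LD1_c2 LD2_c46 LD3_c20) Lrfl Lrfl
theorem f613304 : Led Lsl_bf (LP (LK LD1_c5 LD2_c40 LD3_c22)) = (LP (LK LD1_c2 LD2_c46 LD3_c20)) :=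
  Lgr Lrot61 (Lpr_ft (f380622 IH) (Lpr_bt (f613295 IH) (Lpr_ft (f613303 IH) (Lpn (LP (LK LD1_c2 LD2_c46 LD3_c20))))))
theorem f613308 : Led Lsl_bt (LP (LK LD1_c5 LD2_c40 LD3_c22)) = (LP (LK LD1_c2 LD2_c46 LD3_c20)) :=
  Lgr Lrot127 (Lpr_bf (f613304 IH) (Lpn (LP (LK LD1_c2 LD2_c46 LD3_c20))))
theorem f380652 : Led Lsl_at (LP (LK LD1_c2 LD2_c46 LD3_c13)) = (LP (LK LD1_c5 LD2_c40 LD3_c22)) :=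
  Lre_a IH (LK LD1_c2 LD2_c46 LD3_c13) (LK LD1_c5 LD2_c40 LD3_c22) Lrfl Lrfl
theorem f380486 : Led Lsl_bt (LP (LK LD1_c1 LD2_c19 LD3_c31)) = (LP (LK LD1_c2 LD2_c46 LD3_c13)) :=
  Lre_b IH (LK LD1_c1 LD2_c19 LD3_c31) (LK LD1_c2 LD2_c46 LD3_c13) Lrfl Lrfl
theorem f380134 : Led Lsl_af (LP (LK LD1_c2 LD2_c46 LD3_c21)) = (LP (LK LD1_c4 LD2_c31 LD3_c53)) :=
  Lgr Lrot50 (Lpr_et (K30.f380132 IH) (Lpr_at (K40.f379989 IH) (Lpe (K24.f379915 IH) (Lpn (LP (LK LD1_c4 LD2_c31 LD3_c53))))))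
theorem f379925 : Led Lsl_ft (LP (LK LD1_c2 LD2_c12 LD3_c57)) = (LP (LK LD1_c4 LD2_c31 LD3_c53)) :=
  Lre_f IH (LK LD1_c2 LD2_c12 LD3_c57) (LK LD1_c4 LD2_c31 LD3_c53) Lrfl Lrfl
theorem f380636 : Led Lsl_at (LP (LK LD1_c1 LD2_c19 LD3_c31)) = (LP (LK LD1_c2 LD2_c12 LD3_c57)) :=
  Lgr Lrot66 (Lpe (K30.f380122 IH) (Lpr_af (f380134 IH) (Lpe (f379925 IH) (Lpn (LP (LK LD1_c2 LD2_c12 LD3_c57))))))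
theorem f380643 : Led Lsl_af (LP (LK LD1_c1 LD2_c19 LD3_c31)) = (LP (LK LD1_c2 LD2_c12 LD3_c57)) :=
  Lgr Lrot0 (Lpr_at (f380636 IH) (Lpn (LP (LK LD1_c2 LD2_c12 LD3_c57))))
theorem f380653 : Led Lsl_bt (LP (LK LD1_c4 LD2_c31 LD3_c50)) = (LP (LK LD1_c2 LD2_c12 LD3_c57)) :=
  Lre_b IH (LK LD1_c4 LD2_c31 LD3_c50) (LK LD1_c2 LD2_c12 LD3_c57) Lrfl Lrfl
theorem f613346 : Led Lsl_af (LP (LK LD1_c4 LD2_c31 LD3_c50)) = (LP (LK LD1_c2 LD2_c46 LD3_c20)) :=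
  Lgr Lrot36 (Lpr_bt (f380653 IH) (Lpe (f380643 IH) (Lpr_bt (f380486 IH) (Lpr_at (f380652 IH) (Lpr_bt (f613308 IH) (Lpn (LP (LK LD1_c2 LD2_c46 LD3_c20))))))))
theorem f380702 : Led Lsl_ft (LP (LK LD1_c4 LD2_c31 LD3_c50)) = (LP (LK LD1_c9 LD2_c1 LD3_c32)) :=
  Lre_f IH (LK LD1_c4 LD2_c31 LD3_c50) (LK LD1_c9 LD2_c1 LD3_c32) Lrfl Lrfl
theorem f613355 : Led Lsl_at (LP (LK LD1_c9 LD2_c1 LD3_c32)) = (LP (LK LD1_c5 LD2_c40 LD3_c53)) :=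
  Lgr Lrot66 (Lpe (f380702 IH) (Lpr_af (f613346 IH) (Lpe (f613303 IH) (Lpn (LP (LK LD1_c5 LD2_c40 LD3_c53))))))
theorem f380139 : Led Lsl_dt (LP (LK LD1_c5 LD2_c40 LD3_c53)) = (LP (LK LD1_c2 LD2_c46 LD3_c21)) :=
  Lre_d IH (LK LD1_c5 LD2_c40 LD3_c53) (LK LD1_c2 LD2_c46 LD3_c21) Lrfl Lrfl
theorem f379996 : Led Lsl_af (LP (LK LD1_c4 LD2_c32 LD3_c6)) = (LP (LK LD1_c2 LD2_c46 LD3_c39)) :=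
  Lgr Lrot0 (Lpr_at (K40.f379989 IH) (Lpn (LP (LK LD1_c2 LD2_c46 LD3_c39))))
theorem f380125 : Led Lsl_at (LP (LK LD1_c2 LD2_c46 LD3_c21)) = (LP (LK LD1_c4 LD2_c31 LD3_c53)) :=
  Lgr Lrot80 (Lpr_ef (K30.f380123 IH) (Lpr_af (f379996 IH) (Lpe (K24.f379920 IH) (Lpn (LP (LK LD1_c4 LD2_c31 LD3_c53))))))
theorem f613359 : Led Lsl_df (LP (LK LD1_c9 LD2_c1 LD3_c32)) = (LP (LK LD1_c4 LD2_c31 LD3_c53)) :=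
  Lgr Lrot18 (Lpr_at (f613355 IH) (Lpr_dt (f380139 IH) (Lpr_at (f380125 IH) (Lpn (LP (LK LD1_c4 LD2_c31 LD3_c53))))))
theorem f379917 : Led Lsl_bt (LP (LK LD1_c4 LD2_c31 LD3_c53)) = (LP (LK LD1_c9 LD2_c1 LD3_c32)) :=
  Lre_b IH (LK LD1_c4 LD2_c31 LD3_c53) (LK LD1_c9 LD2_c1 LD3_c32) Lrfl Lrfl
theorem f225759 : Led Lsl_bt (LP (LK LD1_c5 LD2_c41 LD3_c6)) = (LP (LK LD1_c2 LD2_c46 LD3_c39)) :=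
  Lre_b IH (LK LD1_c5 LD2_c41 LD3_c6) (LK LD1_c2 LD2_c46 LD3_c39) Lrfl Lrfl
theorem f379918 : Led Lsl_et (LP (LK LD1_c9 LD2_c1 LD3_c32)) = (LP (LK LD1_c5 LD2_c41 LD3_c6)) :=
  Lgr Lrot74 (Lpe (f379917 IH) (Lpr_ef (K24.f379915 IH) (Lpe (f225759 IH) (Lpn (LP (LK LD1_c5 LD2_c41 LD3_c6))))))
theorem f379932 : Led Lsl_dt (LP (LK LD1_c5 LD2_c41 LD3_c6)) = (LP (LK LD1_c11 LD2_c12 LD3_c42)) :=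
  Lre_d IH (LK LD1_c5 LD2_c41 LD3_c6) (LK LD1_c11 LD2_c12 LD3_c42) Lrfl Lrfl
theorem f613388 : Led Lsl_et (LP (LK LD1_c11 LD2_c12 LD3_c42)) = (LP (LK LD1_c5 LD2_c41 LD3_c14)) :=
  Lgr Lrot71 (Lpe (f379932 IH) (Lpe (f379918 IH) (Lpr_df (f613359 IH) (Lpr_ef (K24.f379915 IH) (Lpe (f225765 IH) (Lpn (LP (LK LD1_c5 LD2_c41 LD3_c14))))))))
theorem f613390 : Led Lsl_ef (LP (LK LD1_c11 LD2_c12 LD3_c42)) = (LP (LK LD1_c5 LD2_c41 LD3_c14)) :=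
  Lgr Lrot88 (Lpr_et (f613388 IH) (Lpn (LP (LK LD1_c5 LD2_c41 LD3_c14))))
theorem f698399 : Led Lsl_gt (LP (LK LD1_c6 LD2_c26 LD3_c60)) = (LP (LK LD1_c11 LD2_c12 LD3_c42)) :=
  Lgr Lrot131 (Lpe (K17.f416359 IH) (Lpr_dt (K17.f155862 IH) (Lpr_gf (K48.f416346 IH) (Lpe (K41.f57180 IH) (Lpe (K32.f437488 IH) (Lpr_ef (f698394 IH) (Lpe (f698393 IH) (Lpr_gf (f380077 IH) (Lpe (f225765 IH) (Lpe (f613390 IH) (Lpn (LP (LK LD1_c11 LD2_c12 LD3_c42)))))))))))))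
theorem f698400 : Led Lsl_gt (LP (LK LD1_c6 LD2_c26 LD3_c60)) = (LP (LK LD1_c11 LD2_c12 LD3_c42)) :=
  Leop (Lpe (f698399 IH) (Lpn (LP (LK LD1_c6 LD2_c26 LD3_c60))))
theorem seed_633 : LEOK LG_g (LK LD1_c6 LD2_c26 LD3_c60) :=
  Leoe_g (LK LD1_c6 LD2_c26 LD3_c60) (f698400 IH)
def v12848 : LQ := Led Lsl_dt (LP (LK LD1_c4 LD2_c33 LD3_c28))
theorem f698564 : Led Lsl_dt (LP (LK LD1_c4 LD2_c33 LD3_c28)) = v12848 :=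
  Lrfl
theorem f385536 : Led Lsl_et (LP (LK LD1_c2 LD2_c13 LD3_c39)) = (LP (LK LD1_c4 LD2_c33 LD3_c28)) :=
  Lre_e IH (LK LD1_c2 LD2_c13 LD3_c39) (LK LD1_c4 LD2_c33 LD3_c28) Lrfl Lrfl
theorem f698568 : Led Lsl_ef (LP (LK LD1_c4 LD2_c38 LD3_c26)) = v12848 :=
  Lgr Lrot73 (Lpr_dt (K40.f541569 IH) (Lpr_et (K30.f173305 IH) (Lpr_dt (K18.f174593 IH) (Lpr_et (f385536 IH) (Lpr_dt (f698564 IH) (Lpn v12848))))))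
theorem f509276 : Led Lsl_et (LP (LK LD1_c1 LD2_c36 LD3_c40)) = (LP (LK LD1_c2 LD2_c16 LD3_c16)) :=
  Lre_e IH (LK LD1_c1 LD2_c36 LD3_c40) (LK LD1_c2 LD2_c16 LD3_c16) Lrfl Lrfl
theorem f509256 : Led Lsl_dt (LP (LK LD1_c1 LD2_c36 LD3_c40)) = (LP (LK LD1_c0 LD2_c44 LD3_c47)) :=
  Lre_d IH (LK LD1_c1 LD2_c36 LD3_c40) (LK LD1_c0 LD2_c44 LD3_c47) Lrfl Lrfl
theorem f509296 : Led Lsl_dt (LP (LK LD1_c3 LD2_c20 LD3_c35)) = (LP (LK LD1_c1 LD2_c36 LD3_c38)) :=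
  Lre_d IH (LK LD1_c3 LD2_c20 LD3_c35) (LK LD1_c1 LD2_c36 LD3_c38) Lrfl Lrfl
theorem f509339 : Led Lsl_et (LP (LK LD1_c3 LD2_c20 LD3_c35)) = (LP (LK LD1_c6 LD2_c44 LD3_c59)) :=
  Lre_e IH (LK LD1_c3 LD2_c20 LD3_c35) (LK LD1_c6 LD2_c44 LD3_c59) Lrfl Lrfl
theorem f80018 : Led Lsl_gt (LP (LK LD1_c6 LD2_c44 LD3_c59)) = (LP (LK LD1_c12 LD2_c54 LD3_c17)) :=
  Lre_g IH (LK LD1_c6 LD2_c44 LD3_c59) (LK LD1_c12 LD2_c54 LD3_c17) Lrfl Lrfl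
theorem f698567 : Led Lsl_df (LP (LK LD1_c4 LD2_c33 LD3_c28)) = v12848 :=
  Lgr Lrot38 (Lpr_dt (f698564 IH) (Lpn v12848))
theorem f386227 : Led Lsl_gt (LP (LK LD1_c9 LD2_c4 LD3_c32)) = (LP (LK LD1_c4 LD2_c33 LD3_c28)) :=
  Lre_g IH (LK LD1_c9 LD2_c4 LD3_c32) (LK LD1_c4 LD2_c33 LD3_c28) Lrfl Lrfl
theorem f698572 : Led Lsl_dt (LP (LK LD1_c12 LD2_c54 LD3_c17)) = (LP (LK LD1_c9 LD2_c4 LD3_c32)) :=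
  Lgr Lrot171 (Lpe (f80018 IH) (Lpe (f509339 IH) (Lpr_dt (f509296 IH) (Lpe (K46.f142143 IH) (Lpe (f509256 IH) (Lpr_et (f509276 IH) (Lpe (K40.f176557 IH) (Lpr_ef (f698568 IH) (Lpe (f698567 IH) (Lpe (f386227 IH) (Lpn (LP (LK LD1_c9 LD2_c4 LD3_c32)))))))))))))
theorem f698573 : Led Lsl_dt (LP (LK LD1_c12 LD2_c54 LD3_c17)) = (LP (LK LD1_c9 LD2_c4 LD3_c32)) :=
  Leop (Lpe (f698572 IH) (Lpn (LP (LK LD1_c12 LD2_c54 LD3_c17))))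
theorem seed_634 : LEOK LG_d (LK LD1_c12 LD2_c54 LD3_c17) :=
  Leoe_d (LK LD1_c12 LD2_c54 LD3_c17) (f698573 IH)
theorem f509341 : Led Lsl_et (LP (LK LD1_c4 LD2_c38 LD3_c24)) = (LP (LK LD1_c9 LD2_c12 LD3_c39)) :=
  Lre_e IH (LK LD1_c4 LD2_c38 LD3_c24) (LK LD1_c9 LD2_c12 LD3_c39) Lrfl Lrfl
theorem f509342 : Led Lsl_gt (LP (LK LD1_c9 LD2_c12 LD3_c39)) = (LP (LK LD1_c17 LD2_c6 LD3_c56)) :=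
  Lre_g IH (LK LD1_c9 LD2_c12 LD3_c39) (LK LD1_c17 LD2_c6 LD3_c56) Lrfl Lrfl
theorem f698580 : Led Lsl_et (LP (LK LD1_c12 LD2_c54 LD3_c17)) = (LP (LK LD1_c17 LD2_c6 LD3_c56)) :=
  Lgr Lrot122 (Lpr_dt (f698572 IH) (Lpr_gt (f386227 IH) (Lpr_df (f698567 IH) (Lpe (f698568 IH) (Lpr_gt (K40.f176557 IH) (Lpr_dt (K40.f494500 IH) (Lpr_gt (K40.f116970 IH) (Lpe (K44.f509340 IH) (Lpr_et (f509341 IH) (Lpr_gt (f509342 IH) (Lpn (LP (LK LD1_c17 LD2_c6 LD3_c56)))))))))))))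
theorem f698581 : Led Lsl_et (LP (LK LD1_c12 LD2_c54 LD3_c17)) = (LP (LK LD1_c17 LD2_c6 LD3_c56)) :=
  Leop (Lpe (f698580 IH) (Lpn (LP (LK LD1_c12 LD2_c54 LD3_c17))))
theorem seed_635 : LEOK LG_e (LK LD1_c12 LD2_c54 LD3_c17) :=
  Leoe_e (LK LD1_c12 LD2_c54 LD3_c17) (f698581 IH)
def v12860 : LQ := Led Lsl_dt (LP (LK LD1_c4 LD2_c33 LD3_c35))
theorem f698634 : Led Lsl_dt (LP (LK LD1_c4 LD2_c33 LD3_c35)) = v12860 :=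
  Lrfl
theorem f698629 : Led Lsl_et (LP (LK LD1_c4 LD2_c33 LD3_c35)) = (LP (LK LD1_c9 LD2_c4 LD3_c46)) :=
  Lre_e IH (LK LD1_c4 LD2_c33 LD3_c35) (LK LD1_c9 LD2_c4 LD3_c46) Lrfl Lrfl
theorem f173390 : Led Lsl_gt (LP (LK LD1_c4 LD2_c33 LD3_c35)) = (LP (LK LD1_c2 LD2_c13 LD3_c42)) :=
  Lre_g IH (LK LD1_c4 LD2_c33 LD3_c35) (LK LD1_c2 LD2_c13 LD3_c42) Lrfl Lrfl
theorem f296999 : Led Lsl_ft (LP (LK LD1_c2 LD2_c48 LD3_c33)) = (LP (LK LD1_c1 LD2_c20 LD3_c26)) :=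
  Lre_f IH (LK LD1_c2 LD2_c48 LD3_c33) (LK LD1_c1 LD2_c20 LD3_c26) Lrfl Lrfl
theorem f297000 : Led Lsl_gf (LP (LK LD1_c4 LD2_c33 LD3_c35)) = (LP (LK LD1_c2 LD2_c48 LD3_c33)) :=
  Lgr Lrot47 (Lpr_gt (f173390 IH) (Lpr_af (K18.f296991 IH) (Lpe (f296999 IH) (Lpn (LP (LK LD1_c2 LD2_c48 LD3_c33))))))
theorem f385519 : Led Lsl_et (LP (LK LD1_c9 LD2_c4 LD3_c26)) = (LP (LK LD1_c4 LD2_c33 LD3_c26)) :=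
  Lre_e IH (LK LD1_c9 LD2_c4 LD3_c26) (LK LD1_c4 LD2_c33 LD3_c26) Lrfl Lrfl
theorem f168283 : Led Lsl_et (LP (LK LD1_c2 LD2_c48 LD3_c28)) = (LP (LK LD1_c5 LD2_c45 LD3_c23)) :=
  Lre_e IH (LK LD1_c2 LD2_c48 LD3_c28) (LK LD1_c5 LD2_c45 LD3_c23) Lrfl Lrfl
theorem f297010 : Led Lsl_ft (LP (LK LD1_c5 LD2_c45 LD3_c23)) = (LP (LK LD1_c11 LD2_c21 LD3_c16)) :=
  Lre_f IH (LK LD1_c5 LD2_c45 LD3_c23) (LK LD1_c11 LD2_c21 LD3_c16) Lrfl Lrfl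
theorem f385520 : Led Lsl_ef (LP (LK LD1_c16 LD2_c56 LD3_c4)) = (LP (LK LD1_c11 LD2_c21 LD3_c16)) :=
  Lgr Lrot21 (Lpr_ft (K30.f245628 IH) (Lpr_et (f385519 IH) (Lpr_ft (K30.f385444 IH) (Lpr_et (f168283 IH) (Lpr_ft (f297010 IH) (Lpn (LP (LK LD1_c11 LD2_c21 LD3_c16))))))))
theorem f245626 : Led Lsl_at (LP (LK LD1_c16 LD2_c56 LD3_c4)) = (LP (LK LD1_c9 LD2_c4 LD3_c33)) :=
  Lre_a IH (LK LD1_c16 LD2_c56 LD3_c4) (LK LD1_c9 LD2_c4 LD3_c33) Lrfl Lrfl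
theorem f385522 : Led Lsl_at (LP (LK LD1_c5 LD2_c45 LD3_c31)) = (LP (LK LD1_c11 LD2_c21 LD3_c16)) :=
  Lre_a IH (LK LD1_c5 LD2_c45 LD3_c31) (LK LD1_c11 LD2_c21 LD3_c16) Lrfl Lrfl
theorem f385523 : Led Lsl_et (LP (LK LD1_c9 LD2_c4 LD3_c33)) = (LP (LK LD1_c5 LD2_c45 LD3_c31)) :=
  Lgr Lrot123 (Lpe (f245626 IH) (Lpr_ef (f385520 IH) (Lpe (f385522 IH) (Lpn (LP (LK LD1_c5 LD2_c45 LD3_c31))))))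
theorem f297002 : Led Lsl_bt (LP (LK LD1_c5 LD2_c45 LD3_c31)) = (LP (LK LD1_c2 LD2_c48 LD3_c33)) :=
  Lre_b IH (LK LD1_c5 LD2_c45 LD3_c31) (LK LD1_c2 LD2_c48 LD3_c33) Lrfl Lrfl
theorem f385533 : Led Lsl_ef (LP (LK LD1_c4 LD2_c33 LD3_c31)) = (LP (LK LD1_c2 LD2_c48 LD3_c33)) :=
  Lgr Lrot29 (Lpr_bt (K30.f245604 IH) (Lpr_et (f385523 IH) (Lpr_bt (f297002 IH) (Lpn (LP (LK LD1_c2 LD2_c48 LD3_c33))))))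
theorem f385540 : Led Lsl_et (LP (LK LD1_c4 LD2_c33 LD3_c31)) = (LP (LK LD1_c2 LD2_c48 LD3_c33)) :=
  Lgr Lrot87 (Lpr_ef (f385533 IH) (Lpn (LP (LK LD1_c2 LD2_c48 LD3_c33))))
def v12854 : LQ := Led Lsl_dt (LP (LK LD1_c4 LD2_c33 LD3_c31))
theorem f698607 : Led Lsl_dt (LP (LK LD1_c4 LD2_c33 LD3_c31)) = v12854 :=
  Lrfl
theorem f245664 : Led Lsl_ft (LP (LK LD1_c2 LD2_c13 LD3_c40)) = (LP (LK LD1_c4 LD2_c33 LD3_c31)) :=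
  Lre_f IH (LK LD1_c2 LD2_c13 LD3_c40) (LK LD1_c4 LD2_c33 LD3_c31) Lrfl Lrfl
theorem f698610 : Led Lsl_ff K35.v4179 = v12854 :=
  Lgr Lrot19 (Lpe (K35.f631667 IH) (Lpr_ft (f245664 IH) (Lpr_dt (f698607 IH) (Lpn v12854))))
theorem f245584 : Led Lsl_at (LP (LK LD1_c1 LD2_c20 LD3_c24)) = (LP (LK LD1_c2 LD2_c13 LD3_c40)) :=
  Lgr Lrot100 (Lpr_af (K13.f245582 IH) (Lpn (LP (LK LD1_c2 LD2_c13 LD3_c40))))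
theorem f631666 : Led Lsl_af (LP (LK LD1_c2 LD2_c48 LD3_c26)) = K35.v4179 :=
  Lgr Lrot117 (Lpr_dt (K30.f172552 IH) (Lpr_at (f245584 IH) (Lpr_dt (K35.f631665 IH) (Lpn K35.v4179))))
def v4797 : LQ := Led Lsl_ft (LP (LK LD1_c2 LD2_c48 LD3_c26))
theorem f639046 : Led Lsl_ft (LP (LK LD1_c2 LD2_c48 LD3_c26)) = v4797 :=
  Lrfl
theorem f698612 : Led Lsl_at v4797 = v12854 :=
  Lgr Lrot66 (Lpe (f639046 IH) (Lpr_af (f631666 IH) (Lpr_ff (f698610 IH) (Lpn v12854))))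
def v4794 : LQ := Led Lsl_gt (LP (LK LD1_c2 LD2_c48 LD3_c26))
theorem f639036 : Led Lsl_gt (LP (LK LD1_c2 LD2_c48 LD3_c26)) = v4794 :=
  Lrfl
theorem f698614 : Led Lsl_gt v4794 = v12854 :=
  Lgr Lrot46 (Lpe (f639036 IH) (Lpr_ft (f639046 IH) (Lpr_at (f698612 IH) (Lpn v12854))))
def v5096 : LQ := Led Lsl_et (LP (LK LD1_c2 LD2_c57 LD3_c35))
theorem f645918 : Led Lsl_et (LP (LK LD1_c2 LD2_c57 LD3_c35)) = v5096 :=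
  Lrfl
theorem f24478 : Led Lsl_dt (LP (LK LD1_c2 LD2_c54 LD3_c56)) = (LP (LK LD1_c1 LD2_c23 LD3_c22)) :=
  Lre_d IH (LK LD1_c2 LD2_c54 LD3_c56) (LK LD1_c1 LD2_c23 LD3_c22) Lrfl Lrfl
theorem f24476 : Led Lsl_et (LP (LK LD1_c1 LD2_c23 LD3_c23)) = (LP (LK LD1_c0 LD2_c38 LD3_c34)) :=
  Lre_e IH (LK LD1_c1 LD2_c23 LD3_c23) (LK LD1_c0 LD2_c38 LD3_c34) Lrfl Lrfl
theorem f639037 : Led Lsl_et (LP (LK LD1_c2 LD2_c54 LD3_c56)) = v4794 :=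
  Lgr Lrot122 (Lpr_dt (f24478 IH) (Lpr_gt (K0.f23783 IH) (Lpe (K32.f24477 IH) (Lpr_et (f24476 IH) (Lpr_gt (K10.f23955 IH) (Lpr_dt (K10.f24462 IH) (Lpr_gt (K12.f185976 IH) (Lpe (K10.f172580 IH) (Lpr_et (K30.f172553 IH) (Lpr_gt (f639036 IH) (Lpn v4794)))))))))))
theorem f639038 : Led Lsl_ef (LP (LK LD1_c2 LD2_c54 LD3_c56)) = v4794 :=
  Lgr Lrot88 (Lpr_et (f639037 IH) (Lpn v4794))
theorem f645919 : Led Lsl_df v4794 = v5096 :=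
  Lgr Lrot70 (Lpe (f639038 IH) (Lpr_dt (f24478 IH) (Lpr_et (K35.f454894 IH) (Lpr_dt (K0.f23857 IH) (Lpr_et (f645918 IH) (Lpn v5096))))))
theorem f645920 : Led Lsl_ef (LP (LK LD1_c2 LD2_c57 LD3_c35)) = v5096 :=
  Lgr Lrot88 (Lpr_et (f645918 IH) (Lpn v5096))
theorem f454896 : Led Lsl_et (LP (LK LD1_c2 LD2_c57 LD3_c38)) = (LP (LK LD1_c1 LD2_c24 LD3_c31)) :=
  Lre_e IH (LK LD1_c2 LD2_c57 LD3_c38) (LK LD1_c1 LD2_c24 LD3_c31) Lrfl Lrfl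
def v5100 : LQ := Led Lsl_dt (LP (LK LD1_c2 LD2_c57 LD3_c38))
theorem f645930 : Led Lsl_dt (LP (LK LD1_c2 LD2_c57 LD3_c38)) = v5100 :=
  Lrfl
theorem f698636 : Led Lsl_gf v5100 = v12860 :=
  Lgr Lrot134 (Lpe (f645930 IH) (Lpr_et (f454896 IH) (Lpr_gt (K0.f23858 IH) (Lpr_ef (f645920 IH) (Lpe (f645919 IH) (Lpr_gt (f698614 IH) (Lpe (f698607 IH) (Lpr_et (f385540 IH) (Lpe (f297000 IH) (Lpr_dt (f698634 IH) (Lpn v12860)))))))))))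
theorem f454895 : Led Lsl_et (LP (LK LD1_c2 LD2_c13 LD3_c45)) = (LP (LK LD1_c4 LD2_c33 LD3_c47)) :=
  Lre_e IH (LK LD1_c2 LD2_c13 LD3_c45) (LK LD1_c4 LD2_c33 LD3_c47) Lrfl Lrfl
theorem f698637 : Led Lsl_gf (LP (LK LD1_c9 LD2_c4 LD3_c46)) = (LP (LK LD1_c4 LD2_c33 LD3_c47)) :=
  Lgr Lrot141 (Lpe (f698629 IH) (Lpr_dt (f698634 IH) (Lpe (f698636 IH) (Lpe (f645930 IH) (Lpr_et (f454896 IH) (Lpr_gt (K0.f23858 IH) (Lpr_dt (K35.f416151 IH) (Lpe (K35.f454880 IH) (Lpe (K24.f140281 IH) (Lpr_et (f454895 IH) (Lpn (LP (LK LD1_c4 LD2_c33 LD3_c47)))))))))))))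
theorem f698638 : Led Lsl_gt (LP (LK LD1_c4 LD2_c33 LD3_c47)) = (LP (LK LD1_c9 LD2_c4 LD3_c46)) :=
  Leop (Lpr_gf (f698637 IH) (Lpn (LP (LK LD1_c4 LD2_c33 LD3_c47))))
theorem seed_636 : LEOK LG_g (LK LD1_c4 LD2_c33 LD3_c47) :=
  Leoe_g (LK LD1_c4 LD2_c33 LD3_c47) (f698638 IH)
theorem f698635 : Led Lsl_df (LP (LK LD1_c4 LD2_c33 LD3_c35)) = v12860 :=
  Lgr Lrot38 (Lpr_dt (f698634 IH) (Lpn v12860))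
theorem f173379 : Led Lsl_et (LP (LK LD1_c2 LD2_c13 LD3_c42)) = (LP (LK LD1_c1 LD2_c3 LD3_c51)) :=
  Lre_e IH (LK LD1_c2 LD2_c13 LD3_c42) (LK LD1_c1 LD2_c3 LD3_c51) Lrfl Lrfl
theorem f175948 : Led Lsl_dt (LP (LK LD1_c2 LD2_c59 LD3_c61)) = (LP (LK LD1_c2 LD2_c13 LD3_c42)) :=
  Lgr Lrot77 (Lpe (K18.f175947 IH) (Lpe (K10.f175946 IH) (Lpr_ef (K9.f175928 IH) (Lpr_df (K9.f173365 IH) (Lpe (f173379 IH) (Lpn (LP (LK LD1_c2 LD2_c13 LD3_c42))))))))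
theorem f185107 : Led Lsl_et (LP (LK LD1_c2 LD2_c0 LD3_c4)) = (LP (LK LD1_c4 LD2_c5 LD3_c37)) :=
  Lre_e IH (LK LD1_c2 LD2_c0 LD3_c4) (LK LD1_c4 LD2_c5 LD3_c37) Lrfl Lrfl
theorem f185108 : Led Lsl_gt (LP (LK LD1_c4 LD2_c5 LD3_c37)) = (LP (LK LD1_c8 LD2_c12 LD3_c2)) :=
  Lre_g IH (LK LD1_c4 LD2_c5 LD3_c37) (LK LD1_c8 LD2_c12 LD3_c2) Lrfl Lrfl
theorem f698642 : Led Lsl_ef (LP (LK LD1_c8 LD2_c12 LD3_c2)) = v12860 :=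
  Lgr Lrot17 (Lpe (f185108 IH) (Lpe (f185107 IH) (Lpr_dt (K9.f182473 IH) (Lpr_gf (K11.f183202 IH) (Lpe (K14.f20707 IH) (Lpr_gf (K10.f185100 IH) (Lpe (K18.f175957 IH) (Lpr_dt (f175948 IH) (Lpe (f173390 IH) (Lpr_df (f698635 IH) (Lpn v12860)))))))))))
theorem f411169 : Led Lsl_dt (LP (LK LD1_c8 LD2_c12 LD3_c2)) = (LP (LK LD1_c15 LD2_c26 LD3_c9)) :=
  Lre_d IH (LK LD1_c8 LD2_c12 LD3_c2) (LK LD1_c15 LD2_c26 LD3_c9) Lrfl Lrfl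
theorem f173391 : Led Lsl_et (LP (LK LD1_c9 LD2_c4 LD3_c46)) = (LP (LK LD1_c4 LD2_c33 LD3_c35)) :=
  Lre_e IH (LK LD1_c9 LD2_c4 LD3_c46) (LK LD1_c4 LD2_c33 LD3_c35) Lrfl Lrfl
theorem f226000 : Led Lsl_dt (LP (LK LD1_c16 LD2_c56 LD3_c28)) = (LP (LK LD1_c9 LD2_c4 LD3_c46)) :=
  Lre_d IH (LK LD1_c16 LD2_c56 LD3_c28) (LK LD1_c9 LD2_c4 LD3_c46) Lrfl Lrfl
theorem f698643 : Led Lsl_et (LP (LK LD1_c15 LD2_c26 LD3_c9)) = (LP (LK LD1_c16 LD2_c56 LD3_c28)) :=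
  Lgr Lrot71 (Lpe (f411169 IH) (Lpr_ef (f698642 IH) (Lpe (f698634 IH) (Lpe (f173391 IH) (Lpe (f226000 IH) (Lpn (LP (LK LD1_c16 LD2_c56 LD3_c28))))))))
theorem f698644 : Led Lsl_et (LP (LK LD1_c15 LD2_c26 LD3_c9)) = (LP (LK LD1_c16 LD2_c56 LD3_c28)) :=
  Leop (Lpe (f698643 IH) (Lpn (LP (LK LD1_c15 LD2_c26 LD3_c9))))
theorem seed_637 : LEOK LG_e (LK LD1_c15 LD2_c26 LD3_c9) :=
  Leoe_e (LK LD1_c15 LD2_c26 LD3_c9) (f698644 IH)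
def v12879 : LQ := Led Lsl_ft (LP (LK LD1_c4 LD2_c33 LD3_c51))
theorem f698772 : Led Lsl_ft (LP (LK LD1_c4 LD2_c33 LD3_c51)) = v12879 :=
  Lrfl
theorem f23136 : Led Lsl_gt (LP (LK LD1_c4 LD2_c33 LD3_c51)) = (LP (LK LD1_c9 LD2_c5 LD3_c13)) :=
  Lre_g IH (LK LD1_c4 LD2_c33 LD3_c51) (LK LD1_c9 LD2_c5 LD3_c13) Lrfl Lrfl
def v4491 : LQ := Led Lsl_ft (LP (LK LD1_c2 LD2_c22 LD3_c32))
theorem f634216 : Led Lsl_ft (LP (LK LD1_c2 LD2_c22 LD3_c32)) = v4491 :=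
  Lrfl
theorem f634219 : Led Lsl_ff (LP (LK LD1_c2 LD2_c22 LD3_c32)) = v4491 :=
  Lgr Lrot3 (Lpr_ft (f634216 IH) (Lpn v4491))
def v2170 : LQ := Led Lsl_ft (LP (LK LD1_c1 LD2_c36 LD3_c48))
theorem f509455 : Led Lsl_ft (LP (LK LD1_c1 LD2_c36 LD3_c48)) = v2170 :=
  Lrfl
def v2169 : LQ := Led Lsl_at (LP (LK LD1_c1 LD2_c36 LD3_c48))
theorem f509449 : Led Lsl_at (LP (LK LD1_c1 LD2_c36 LD3_c48)) = v2169 :=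
  Lrfl
theorem f509450 : Led Lsl_af (LP (LK LD1_c1 LD2_c36 LD3_c48)) = v2169 :=
  Lgr Lrot0 (Lpr_at (f509449 IH) (Lpn v2169))
theorem f509451 : Led Lsl_ft (LP (LK LD1_c1 LD2_c36 LD3_c49)) = v2169 :=
  Lgr Lrot2 (Lpr_gt (K24.f22954 IH) (Lpr_gt (K17.f140978 IH) (Lpr_af (f509450 IH) (Lpn v2169))))
theorem f509456 : Led Lsl_af (LP (LK LD1_c1 LD2_c36 LD3_c49)) = v2170 :=
  Lgr Lrot45 (Lpr_ft (f509451 IH) (Lpe (f509450 IH) (Lpr_ft (f509455 IH) (Lpn v2170))))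
def v4490 : LQ := Led Lsl_at (LP (LK LD1_c2 LD2_c22 LD3_c32))
theorem f634208 : Led Lsl_at (LP (LK LD1_c2 LD2_c22 LD3_c32)) = v4490 :=
  Lrfl
theorem f634209 : Led Lsl_af (LP (LK LD1_c2 LD2_c22 LD3_c32)) = v4490 :=
  Lgr Lrot0 (Lpr_at (f634208 IH) (Lpn v4490))
theorem f634212 : Led Lsl_ft (LP (LK LD1_c2 LD2_c22 LD3_c33)) = v4490 :=
  Lgr Lrot2 (Lpr_gt (K0.f27059 IH) (Lpr_gt (K24.f76939 IH) (Lpr_af (f634209 IH) (Lpn v4490))))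
theorem f634214 : Led Lsl_ff (LP (LK LD1_c2 LD2_c22 LD3_c33)) = v4490 :=
  Lgr Lrot3 (Lpr_ft (f634212 IH) (Lpn v4490))
theorem f634220 : Led Lsl_at (LP (LK LD1_c2 LD2_c22 LD3_c33)) = v4491 :=
  Lgr Lrot66 (Lpr_ff (f634214 IH) (Lpe (f634208 IH) (Lpr_ff (f634219 IH) (Lpn v4491))))
def v4232 : LQ := Led Lsl_ft (LP (LK LD1_c2 LD2_c17 LD3_c4))
theorem f632088 : Led Lsl_ft (LP (LK LD1_c2 LD2_c17 LD3_c4)) = v4232 :=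
  Lrfl
theorem f632091 : Led Lsl_ff (LP (LK LD1_c2 LD2_c17 LD3_c4)) = v4232 :=
  Lgr Lrot3 (Lpr_ft (f632088 IH) (Lpn v4232))
theorem f140014 : Led Lsl_ct (LP (LK LD1_c2 LD2_c17 LD3_c4)) = (LP (LK LD1_c1 LD2_c32 LD3_c54)) :=
  Lgr Lrot59 (Lpr_cf (K46.f140010 IH) (Lpn (LP (LK LD1_c1 LD2_c32 LD3_c54))))
theorem f632093 : Led Lsl_ct K48.v1985 = v4232 :=
  Lgr Lrot40 (Lpe (K48.f506759 IH) (Lpe (f140014 IH) (Lpr_ff (f632091 IH) (Lpn v4232))))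
theorem f639393 : v4232 = (LP (LK LD1_c1 LD2_c26 LD3_c12)) :=
  Lefun (Lecon (f632093 IH) (K48.f639389 IH)) (K32.f444198 IH)
theorem f639405 : (LP (LK LD1_c2 LD2_c17 LD3_c4)) = K48.v1778 :=
  Lefun (Lecon (Lfl_ff (f632091 IH)) (f639393 IH)) (K48.f502835 IH)
theorem f639511 : Led Lsl_af (LP (LK LD1_c3 LD2_c0 LD3_c48)) = (LP (LK LD1_c4 LD2_c40 LD3_c5)) :=
  Lgr Lrot50 (Lpr_et (K0.f22939 IH) (Lpr_at (K48.f502833 IH) (Lpq (f639405 IH) (Lpr_et (K46.f27079 IH) (Lpn (LP (LK LD1_c4 LD2_c40 LD3_c5)))))))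
theorem f509457 : Led Lsl_ff (LP (LK LD1_c1 LD2_c36 LD3_c48)) = v2170 :=
  Lgr Lrot3 (Lpr_ft (f509455 IH) (Lpn v2170))
theorem f509453 : Led Lsl_ff (LP (LK LD1_c1 LD2_c36 LD3_c49)) = v2169 :=
  Lgr Lrot3 (Lpr_ft (f509451 IH) (Lpn v2169))
theorem f509458 : Led Lsl_at (LP (LK LD1_c1 LD2_c36 LD3_c49)) = v2170 :=
  Lgr Lrot66 (Lpr_ff (f509453 IH) (Lpe (f509449 IH) (Lpr_ff (f509457 IH) (Lpn v2170))))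
theorem f639519 : v2170 = (LP (LK LD1_c2 LD2_c22 LD3_c33)) :=
  (Llr Lrot51 (Lpe (f509458 IH) (Lpe (K0.f22942 IH) (Lpr_af (f639511 IH) (Lpe (K17.f27101 IH) (Lpn (LP (LK LD1_c2 LD2_c22 LD3_c33)))))))).symm
theorem f639520 : (LP (LK LD1_c1 LD2_c36 LD3_c49)) = v4491 :=
  Lefun (Lecon (Lfl_af (f509456 IH)) (f639519 IH)) (f634220 IH)
theorem f639533 : Led Lsl_ff (LP (LK LD1_c3 LD2_c21 LD3_c5)) = (LP (LK LD1_c4 LD2_c49 LD3_c30)) :=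
  Lgr Lrot23 (Lpr_ct (K17.f22960 IH) (Lpqs (f639520 IH) (Lpe (f634219 IH) (Lpr_ct (K24.f73945 IH) (Lpn (LP (LK LD1_c4 LD2_c49 LD3_c30)))))))
theorem f639646 : Led Lsl_at (LP (LK LD1_c3 LD2_c21 LD3_c5)) = (LP (LK LD1_c4 LD2_c49 LD3_c34)) :=
  Lgr Lrot26 (Lpr_ff (f639533 IH) (Lpr_gt (K24.f414152 IH) (Lpr_gt (K24.f413956 IH) (Lpn (LP (LK LD1_c4 LD2_c49 LD3_c34))))))
theorem f639652 : Led Lsl_af (LP (LK LD1_c6 LD2_c12 LD3_c4)) = (LP (LK LD1_c9 LD2_c17 LD3_c20)) :=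
  Lgr Lrot117 (Lpe (K24.f414736 IH) (Lpr_at (f639646 IH) (Lpe (K24.f413958 IH) (Lpn (LP (LK LD1_c9 LD2_c17 LD3_c20))))))
theorem f639658 : Led Lsl_ft (LP (LK LD1_c6 LD2_c12 LD3_c6)) = (LP (LK LD1_c9 LD2_c17 LD3_c20)) :=
  Lgr Lrot2 (Lpe (K35.f416608 IH) (Lpr_gt (K35.f59844 IH) (Lpr_af (f639652 IH) (Lpn (LP (LK LD1_c9 LD2_c17 LD3_c20))))))
theorem f639668 : Led Lsl_ff (LP (LK LD1_c6 LD2_c12 LD3_c6)) = (LP (LK LD1_c9 LD2_c17 LD3_c20)) :=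
  Lgr Lrot3 (Lpr_ft (f639658 IH) (Lpn (LP (LK LD1_c9 LD2_c17 LD3_c20))))
theorem f438344 : Led Lsl_gt (LP (LK LD1_c9 LD2_c17 LD3_c20)) = (LP (LK LD1_c11 LD2_c27 LD3_c20)) :=
  Lgr Lrot150 (Lpe (K24.f22862 IH) (Lpr_gf (K24.f416736 IH) (Lpe (K32.f414525 IH) (Lpe (K17.f414511 IH) (Lpr_ct (K9.f139994 IH) (Lpe (K35.f438342 IH) (Lpr_ct (K24.f438333 IH) (Lpe (K24.f413514 IH) (Lpe (K24.f413519 IH) (Lpn (LP (LK LD1_c11 LD2_c27 LD3_c20))))))))))))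
theorem f639676 : Led Lsl_at (LP (LK LD1_c6 LD2_c12 LD3_c6)) = (LP (LK LD1_c9 LD2_c17 LD3_c24)) :=
  Lgr Lrot26 (Lpr_ff (f639668 IH) (Lpr_gt (f438344 IH) (Lpe (K24.f413516 IH) (Lpn (LP (LK LD1_c9 LD2_c17 LD3_c24))))))
theorem f639654 : Led Lsl_at (LP (LK LD1_c6 LD2_c12 LD3_c4)) = (LP (LK LD1_c9 LD2_c17 LD3_c20)) :=
  Lgr Lrot100 (Lpr_af (f639652 IH) (Lpn (LP (LK LD1_c9 LD2_c17 LD3_c20))))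
theorem f639682 : Led Lsl_ff (LP (LK LD1_c6 LD2_c12 LD3_c4)) = (LP (LK LD1_c9 LD2_c17 LD3_c24)) :=
  Lgr Lrot30 (Lpr_at (f639654 IH) (Lpe (f639668 IH) (Lpr_at (f639676 IH) (Lpn (LP (LK LD1_c9 LD2_c17 LD3_c24))))))
theorem f639686 : Led Lsl_ft (LP (LK LD1_c3 LD2_c2 LD3_c35)) = (LP (LK LD1_c4 LD2_c40 LD3_c58)) :=
  Lgr Lrot4 (Lpe (K17.f59831 IH) (Lpr_ff (f639682 IH) (Lpe (K24.f61052 IH) (Lpn (LP (LK LD1_c4 LD2_c40 LD3_c58))))))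
theorem f639678 : Led Lsl_af (LP (LK LD1_c3 LD2_c2 LD3_c37)) = (LP (LK LD1_c4 LD2_c40 LD3_c58)) :=
  Lgr Lrot68 (Lpr_ct (K17.f141020 IH) (Lpr_at (f639676 IH) (Lpr_ct (K24.f61045 IH) (Lpn (LP (LK LD1_c4 LD2_c40 LD3_c58))))))
theorem f639672 : Led Lsl_ft (LP (LK LD1_c3 LD2_c2 LD3_c37)) = (LP (LK LD1_c4 LD2_c40 LD3_c56)) :=
  Lgr Lrot4 (Lpe (K17.f141021 IH) (Lpr_ff (f639668 IH) (Lpe (K24.f22862 IH) (Lpn (LP (LK LD1_c4 LD2_c40 LD3_c56))))))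
theorem f639688 : Led Lsl_af (LP (LK LD1_c3 LD2_c2 LD3_c35)) = (LP (LK LD1_c4 LD2_c40 LD3_c56)) :=
  Lgr Lrot45 (Lpr_ft (f639686 IH) (Lpe (f639678 IH) (Lpr_ft (f639672 IH) (Lpn (LP (LK LD1_c4 LD2_c40 LD3_c56))))))
theorem f140617 : Led Lsl_dt (LP (LK LD1_c2 LD2_c48 LD3_c46)) = (LP (LK LD1_c5 LD2_c46 LD3_c4)) :=
  Lre_d IH (LK LD1_c2 LD2_c48 LD3_c46) (LK LD1_c5 LD2_c46 LD3_c4) Lrfl Lrfl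
theorem f140649 : Led Lsl_et (LP (LK LD1_c5 LD2_c46 LD3_c5)) = (LP (LK LD1_c2 LD2_c48 LD3_c46)) :=
  Lre_e IH (LK LD1_c5 LD2_c46 LD3_c5) (LK LD1_c2 LD2_c48 LD3_c46) Lrfl Lrfl
theorem f140650 : Led Lsl_dt (LP (LK LD1_c11 LD2_c22 LD3_c33)) = (LP (LK LD1_c5 LD2_c46 LD3_c5)) :=
  Lre_d IH (LK LD1_c11 LD2_c22 LD3_c33) (LK LD1_c5 LD2_c46 LD3_c5) Lrfl Lrfl
theorem f59868 : Led Lsl_dt (LP (LK LD1_c3 LD2_c2 LD3_c34)) = (LP (LK LD1_c6 LD2_c12 LD3_c2)) :=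
  Lre_d IH (LK LD1_c3 LD2_c2 LD3_c34) (LK LD1_c6 LD2_c12 LD3_c2) Lrfl Lrfl
theorem f140651 : Led Lsl_ef (LP (LK LD1_c11 LD2_c22 LD3_c33)) = (LP (LK LD1_c6 LD2_c12 LD3_c2)) :=
  Lgr Lrot73 (Lpr_dt (f140650 IH) (Lpr_et (f140649 IH) (Lpr_dt (f140617 IH) (Lpr_et (K38.f140640 IH) (Lpr_dt (f59868 IH) (Lpn (LP (LK LD1_c6 LD2_c12 LD3_c2))))))))
theorem f140662 : Led Lsl_et (LP (LK LD1_c11 LD2_c22 LD3_c33)) = (LP (LK LD1_c6 LD2_c12 LD3_c2)) :=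
  Lgr Lrot87 (Lpr_ef (f140651 IH) (Lpn (LP (LK LD1_c6 LD2_c12 LD3_c2))))
theorem f140666 : Led Lsl_bt (LP (LK LD1_c5 LD2_c46 LD3_c8)) = (LP (LK LD1_c11 LD2_c22 LD3_c33)) :=
  Lre_b IH (LK LD1_c5 LD2_c46 LD3_c8) (LK LD1_c11 LD2_c22 LD3_c33) Lrfl Lrfl
theorem f59847 : Led Lsl_bt (LP (LK LD1_c6 LD2_c12 LD3_c2)) = (LP (LK LD1_c3 LD2_c2 LD3_c35)) :=
  Lre_b IH (LK LD1_c6 LD2_c12 LD3_c2) (LK LD1_c3 LD2_c2 LD3_c35) Lrfl Lrfl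
theorem f140667 : Led Lsl_ef (LP (LK LD1_c5 LD2_c46 LD3_c8)) = (LP (LK LD1_c3 LD2_c2 LD3_c35)) :=
  Lgr Lrot29 (Lpr_bt (f140666 IH) (Lpr_et (f140662 IH) (Lpr_bt (f59847 IH) (Lpn (LP (LK LD1_c3 LD2_c2 LD3_c35))))))
theorem f639768 : Led Lsl_at (LP (LK LD1_c5 LD2_c46 LD3_c8)) = (LP (LK LD1_c9 LD2_c5 LD3_c14)) :=
  Lgr Lrot80 (Lpr_ef (f140667 IH) (Lpr_af (f639688 IH) (Lpr_ef (K32.f23130 IH) (Lpn (LP (LK LD1_c9 LD2_c5 LD3_c14))))))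
theorem f140687 : Led Lsl_dt (LP (LK LD1_c2 LD2_c48 LD3_c49)) = (LP (LK LD1_c5 LD2_c46 LD3_c8)) :=
  Lre_d IH (LK LD1_c2 LD2_c48 LD3_c49) (LK LD1_c5 LD2_c46 LD3_c8) Lrfl Lrfl
theorem f639772 : Led Lsl_af (LP (LK LD1_c2 LD2_c48 LD3_c49)) = (LP (LK LD1_c4 LD2_c33 LD3_c51)) :=
  Lgr Lrot117 (Lpr_dt (f140687 IH) (Lpr_at (f639768 IH) (Lpr_dt (K32.f23115 IH) (Lpn (LP (LK LD1_c4 LD2_c33 LD3_c51))))))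
theorem f639779 : Led Lsl_at (LP (LK LD1_c2 LD2_c48 LD3_c49)) = (LP (LK LD1_c4 LD2_c33 LD3_c51)) :=
  Lgr Lrot100 (Lpr_af (f639772 IH) (Lpn (LP (LK LD1_c4 LD2_c33 LD3_c51))))
theorem f495939 : Led Lsl_ft (LP (LK LD1_c5 LD2_c46 LD3_c9)) = (LP (LK LD1_c2 LD2_c48 LD3_c49)) :=
  Lre_f IH (LK LD1_c5 LD2_c46 LD3_c9) (LK LD1_c2 LD2_c48 LD3_c49) Lrfl Lrfl
theorem f698773 : Led Lsl_af (LP (LK LD1_c5 LD2_c46 LD3_c9)) = v12879 :=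
  Lgr Lrot45 (Lpr_ft (f495939 IH) (Lpr_at (f639779 IH) (Lpr_ft (f698772 IH) (Lpn v12879))))
theorem f698777 : Led Lsl_gt (LP (LK LD1_c9 LD2_c5 LD3_c13)) = (LP (LK LD1_c5 LD2_c46 LD3_c9)) :=
  Lgr Lrot46 (Lpe (f23136 IH) (Lpr_ft (f698772 IH) (Lpe (f698773 IH) (Lpn (LP (LK LD1_c5 LD2_c46 LD3_c9))))))
theorem f698778 : Led Lsl_gt (LP (LK LD1_c9 LD2_c5 LD3_c13)) = (LP (LK LD1_c5 LD2_c46 LD3_c9)) :=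
  Leop (Lpe (f698777 IH) (Lpn (LP (LK LD1_c9 LD2_c5 LD3_c13))))
theorem seed_638 : LEOK LG_g (LK LD1_c9 LD2_c5 LD3_c13) :=
  Leoe_g (LK LD1_c9 LD2_c5 LD3_c13) (f698778 IH)
theorem f639230 : (LP (LK LD1_c1 LD2_c20 LD3_c29)) = K35.v4182 :=
  Lefun (Lecon (Lfl_ff (K48.f495945 IH)) (K48.f639217 IH)) (K35.f631696 IH)
theorem f495944 : Led Lsl_ft (LP (LK LD1_c5 LD2_c46 LD3_c0)) = (LP (LK LD1_c2 LD2_c48 LD3_c45)) :=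
  Lre_f IH (LK LD1_c5 LD2_c46 LD3_c0) (LK LD1_c2 LD2_c48 LD3_c45) Lrfl Lrfl
theorem f698775 : Led Lsl_ef (LP (LK LD1_c5 LD2_c46 LD3_c0)) = v12879 :=
  Lgr Lrot21 (Lpr_ft (f495944 IH) (Lpr_et (K17.f225981 IH) (Lpqs (f639230 IH) (Lpe (K48.f631702 IH) (Lpr_et (K32.f23128 IH) (Lpr_ft (f698772 IH) (Lpn v12879)))))))
theorem f140294 : Led Lsl_et (LP (LK LD1_c9 LD2_c5 LD3_c4)) = (LP (LK LD1_c4 LD2_c33 LD3_c45)) :=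
  Lre_e IH (LK LD1_c9 LD2_c5 LD3_c4) (LK LD1_c4 LD2_c33 LD3_c45) Lrfl Lrfl
def v4816 : LQ := Led Lsl_at (LP (LK LD1_c2 LD2_c48 LD3_c43))
theorem f639138 : Led Lsl_at (LP (LK LD1_c2 LD2_c48 LD3_c43)) = v4816 :=
  Lrfl
theorem f639141 : Led Lsl_cf K31.v1504 = v4816 :=
  Lgr Lrot1 (Lpe (K31.f495926 IH) (Lpr_ct (K9.f140246 IH) (Lpr_at (f639138 IH) (Lpn v4816))))
theorem f639142 : Led Lsl_ct K31.v1504 = v4816 :=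
  Lgr Lrot59 (Lpr_cf (f639141 IH) (Lpn v4816))
theorem f639238 : v4816 = (LP (LK LD1_c4 LD2_c33 LD3_c45)) :=
  Lefun (Lecon (f639142 IH) (K48.f639233 IH).symm) (K32.f140143 IH)
theorem f639139 : Led Lsl_af (LP (LK LD1_c2 LD2_c48 LD3_c43)) = v4816 :=
  Lgr Lrot0 (Lpr_at (f639138 IH) (Lpn v4816))
theorem f639146 : Led Lsl_et (LP (LK LD1_c2 LD2_c48 LD3_c43)) = (LP (LK LD1_c5 LD2_c45 LD3_c57)) :=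
  Lre_e IH (LK LD1_c2 LD2_c48 LD3_c43) (LK LD1_c5 LD2_c45 LD3_c57) Lrfl Lrfl
theorem f640373 : Led Lsl_af (LP (LK LD1_c9 LD2_c5 LD3_c4)) = (LP (LK LD1_c5 LD2_c45 LD3_c57)) :=
  Lgr Lrot50 (Lpr_et (f140294 IH) (Lpq (f639238 IH) (Lpe (f639139 IH) (Lpr_et (f639146 IH) (Lpn (LP (LK LD1_c5 LD2_c45 LD3_c57)))))))
theorem f640382 : Led Lsl_ct (LP (LK LD1_c9 LD2_c5 LD3_c4)) = (LP (LK LD1_c4 LD2_c33 LD3_c47)) :=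
  Lre_c IH (LK LD1_c9 LD2_c5 LD3_c4) (LK LD1_c4 LD2_c33 LD3_c47) Lrfl Lrfl
theorem f289274 : Led Lsl_ct (LP (LK LD1_c2 LD2_c48 LD3_c45)) = (LP (LK LD1_c5 LD2_c45 LD3_c57)) :=
  Lre_c IH (LK LD1_c2 LD2_c48 LD3_c45) (LK LD1_c5 LD2_c45 LD3_c57) Lrfl Lrfl
theorem f640383 : Led Lsl_at (LP (LK LD1_c4 LD2_c33 LD3_c47)) = (LP (LK LD1_c2 LD2_c48 LD3_c45)) :=
  Lgr Lrot107 (Lpe (f640382 IH) (Lpr_af (f640373 IH) (Lpe (f289274 IH) (Lpn (LP (LK LD1_c2 LD2_c48 LD3_c45))))))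
theorem f640385 : Led Lsl_af (LP (LK LD1_c4 LD2_c33 LD3_c47)) = (LP (LK LD1_c2 LD2_c48 LD3_c45)) :=
  Lgr Lrot0 (Lpr_at (f640383 IH) (Lpn (LP (LK LD1_c2 LD2_c48 LD3_c45))))
theorem f501085 : Led Lsl_gt (LP (LK LD1_c9 LD2_c5 LD3_c5)) = (LP (LK LD1_c4 LD2_c33 LD3_c47)) :=
  Lre_g IH (LK LD1_c9 LD2_c5 LD3_c5) (LK LD1_c4 LD2_c33 LD3_c47) Lrfl Lrfl
theorem f640403 : Led Lsl_gf (LP (LK LD1_c9 LD2_c5 LD3_c5)) = (LP (LK LD1_c5 LD2_c46 LD3_c0)) :=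
  Lgr Lrot47 (Lpr_gt (f501085 IH) (Lpr_af (f640385 IH) (Lpe (f495944 IH) (Lpn (LP (LK LD1_c5 LD2_c46 LD3_c0))))))
theorem f639692 : Led Lsl_ff (LP (LK LD1_c3 LD2_c2 LD3_c35)) = (LP (LK LD1_c4 LD2_c40 LD3_c58)) :=
  Lgr Lrot3 (Lpr_ft (f639686 IH) (Lpn (LP (LK LD1_c4 LD2_c40 LD3_c58))))
theorem f639656 : Led Lsl_at (LP (LK LD1_c3 LD2_c2 LD3_c35)) = (LP (LK LD1_c4 LD2_c40 LD3_c56)) :=
  Lgr Lrot107 (Lpe (K17.f59831 IH) (Lpr_af (f639652 IH) (Lpe (K24.f22862 IH) (Lpn (LP (LK LD1_c4 LD2_c40 LD3_c56))))))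
theorem f639664 : Led Lsl_ff (LP (LK LD1_c3 LD2_c2 LD3_c37)) = (LP (LK LD1_c4 LD2_c40 LD3_c56)) :=
  Lgr Lrot23 (Lpr_ct (K17.f141020 IH) (Lpr_ft (f639658 IH) (Lpr_ct (K24.f22867 IH) (Lpn (LP (LK LD1_c4 LD2_c40 LD3_c56))))))
theorem f639694 : Led Lsl_at (LP (LK LD1_c3 LD2_c2 LD3_c37)) = (LP (LK LD1_c4 LD2_c40 LD3_c58)) :=
  Lgr Lrot66 (Lpr_ff (f639664 IH) (Lpe (f639656 IH) (Lpr_ff (f639692 IH) (Lpn (LP (LK LD1_c4 LD2_c40 LD3_c58))))))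
theorem f639720 : Led Lsl_af (LP (LK LD1_c6 LD2_c12 LD3_c7)) = (LP (LK LD1_c9 LD2_c17 LD3_c25)) :=
  Lgr Lrot50 (Lpr_et (K32.f413438 IH) (Lpr_at (f639694 IH) (Lpr_et (K35.f27046 IH) (Lpn (LP (LK LD1_c9 LD2_c17 LD3_c25))))))
theorem f639722 : Led Lsl_at (LP (LK LD1_c6 LD2_c12 LD3_c7)) = (LP (LK LD1_c9 LD2_c17 LD3_c25)) :=
  Lgr Lrot100 (Lpr_af (f639720 IH) (Lpn (LP (LK LD1_c9 LD2_c17 LD3_c25))))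
theorem f443745 : Led Lsl_ft (LP (LK LD1_c12 LD2_c3 LD3_c58)) = (LP (LK LD1_c6 LD2_c12 LD3_c7)) :=
  Lre_f IH (LK LD1_c12 LD2_c3 LD3_c58) (LK LD1_c6 LD2_c12 LD3_c7) Lrfl Lrfl
theorem f639730 : Led Lsl_gt (LP (LK LD1_c12 LD2_c3 LD3_c58)) = (LP (LK LD1_c9 LD2_c1 LD3_c39)) :=
  Lgr Lrot5 (Lpr_ft (f443745 IH) (Lpr_at (f639722 IH) (Lpr_gf (K35.f412329 IH) (Lpn (LP (LK LD1_c9 LD2_c1 LD3_c39))))))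
theorem f242649 : Led Lsl_gt (LP (LK LD1_c4 LD2_c34 LD3_c42)) = (LP (LK LD1_c9 LD2_c6 LD3_c10)) :=
  Lre_g IH (LK LD1_c4 LD2_c34 LD3_c42) (LK LD1_c9 LD2_c6 LD3_c10) Lrfl Lrfl
theorem f242650 : Led Lsl_et (LP (LK LD1_c16 LD2_c57 LD3_c55)) = (LP (LK LD1_c9 LD2_c6 LD3_c10)) :=
  Lre_e IH (LK LD1_c16 LD2_c57 LD3_c55) (LK LD1_c9 LD2_c6 LD3_c10) Lrfl Lrfl
theorem f639735 : Led Lsl_df (LP (LK LD1_c12 LD2_c3 LD3_c58)) = (LP (LK LD1_c16 LD2_c57 LD3_c55)) :=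
  Lgr Lrot170 (Lpr_gt (f639730 IH) (Lpr_df (K35.f177080 IH) (Lpr_et (K35.f177084 IH) (Lpr_gt (K30.f396271 IH) (Lpr_dt (K30.f25962 IH) (Lpe (K13.f242644 IH) (Lpe (K36.f177089 IH) (Lpr_et (K17.f177094 IH) (Lpr_gt (f242649 IH) (Lpe (f242650 IH) (Lpn (LP (LK LD1_c16 LD2_c57 LD3_c55)))))))))))))
theorem f443731 : Led Lsl_dt (LP (LK LD1_c6 LD2_c12 LD3_c7)) = (LP (LK LD1_c11 LD2_c49 LD3_c23)) :=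
  Lgr Lrot42 (Lpr_df (K32.f443725 IH) (Lpn (LP (LK LD1_c11 LD2_c49 LD3_c23))))
theorem f639741 : Led Lsl_ft (LP (LK LD1_c11 LD2_c49 LD3_c23)) = (LP (LK LD1_c16 LD2_c57 LD3_c55)) :=
  Lgr Lrot54 (Lpe (f443731 IH) (Lpe (f443745 IH) (Lpr_df (f639735 IH) (Lpn (LP (LK LD1_c16 LD2_c57 LD3_c55))))))
theorem f639745 : Led Lsl_ff (LP (LK LD1_c11 LD2_c49 LD3_c23)) = (LP (LK LD1_c16 LD2_c57 LD3_c55)) :=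
  Lgr Lrot3 (Lpr_ft (f639741 IH) (Lpn (LP (LK LD1_c16 LD2_c57 LD3_c55))))
theorem f507794 : Led Lsl_at (LP (LK LD1_c2 LD2_c57 LD3_c21)) = (LP (LK LD1_c4 LD2_c38 LD3_c53)) :=
  Lgr Lrot66 (Lpr_ff (K45.f507792 IH) (Lpe (K35.f506967 IH) (Lpr_ff (K35.f506962 IH) (Lpn (LP (LK LD1_c4 LD2_c38 LD3_c53))))))
theorem f204254 : Led Lsl_gt (LP (LK LD1_c9 LD2_c13 LD3_c35)) = (LP (LK LD1_c4 LD2_c38 LD3_c53)) :=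
  Lre_g IH (LK LD1_c9 LD2_c13 LD3_c35) (LK LD1_c4 LD2_c38 LD3_c53) Lrfl Lrfl
theorem f507796 : Led Lsl_gf (LP (LK LD1_c9 LD2_c13 LD3_c35)) = (LP (LK LD1_c4 LD2_c38 LD3_c55)) :=
  Lgr Lrot47 (Lpr_gt (f204254 IH) (Lpe (f507794 IH) (Lpr_ff (K45.f507792 IH) (Lpn (LP (LK LD1_c4 LD2_c38 LD3_c55))))))
theorem f27094 : Led Lsl_dt (LP (LK LD1_c2 LD2_c16 LD3_c28)) = (LP (LK LD1_c4 LD2_c38 LD3_c55)) :=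
  Lre_d IH (LK LD1_c2 LD2_c16 LD3_c28) (LK LD1_c4 LD2_c38 LD3_c55) Lrfl Lrfl
theorem f27095 : Led Lsl_et (LP (LK LD1_c2 LD2_c16 LD3_c28)) = (LP (LK LD1_c4 LD2_c38 LD3_c56)) :=
  Lre_e IH (LK LD1_c2 LD2_c16 LD3_c28) (LK LD1_c4 LD2_c38 LD3_c56) Lrfl Lrfl
theorem f507798 : Led Lsl_df (LP (LK LD1_c9 LD2_c13 LD3_c35)) = (LP (LK LD1_c5 LD2_c45 LD3_c59)) :=
  Lgr Lrot168 (Lpr_gf (f507796 IH) (Lpe (f27094 IH) (Lpr_et (f27095 IH) (Lpe (K35.f507731 IH) (Lpe (K9.f22987 IH) (Lpr_dt (K32.f23050 IH) (Lpe (K35.f140108 IH) (Lpr_df (K35.f507630 IH) (Lpe (K35.f444625 IH) (Lpe (K38.f444648 IH) (Lpn (LP (LK LD1_c5 LD2_c45 LD3_c59)))))))))))))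
theorem f507800 : Led Lsl_dt (LP (LK LD1_c9 LD2_c13 LD3_c35)) = (LP (LK LD1_c5 LD2_c45 LD3_c59)) :=
  Lgr Lrot42 (Lpr_df (f507798 IH) (Lpn (LP (LK LD1_c5 LD2_c45 LD3_c59))))
theorem f639179 : Led Lsl_ft (LP (LK LD1_c6 LD2_c2 LD3_c33)) = (LP (LK LD1_c9 LD2_c13 LD3_c35)) :=
  Lgr Lrot54 (Lpe (K32.f443719 IH) (Lpr_ff (K48.f639176 IH) (Lpe (f507800 IH) (Lpn (LP (LK LD1_c9 LD2_c13 LD3_c35))))))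
theorem f414988 : Led Lsl_et (LP (LK LD1_c2 LD2_c48 LD3_c44)) = (LP (LK LD1_c5 LD2_c45 LD3_c59)) :=
  Lre_e IH (LK LD1_c2 LD2_c48 LD3_c44) (LK LD1_c5 LD2_c45 LD3_c59) Lrfl Lrfl
theorem f289272 : Led Lsl_dt (LP (LK LD1_c5 LD2_c45 LD3_c61)) = (LP (LK LD1_c2 LD2_c48 LD3_c45)) :=
  Lre_d IH (LK LD1_c5 LD2_c45 LD3_c61) (LK LD1_c2 LD2_c48 LD3_c45) Lrfl Lrfl
theorem f507802 : Led Lsl_et (LP (LK LD1_c9 LD2_c13 LD3_c35)) = (LP (LK LD1_c5 LD2_c45 LD3_c61)) :=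
  Lgr Lrot71 (Lpr_df (f507798 IH) (Lpe (f414988 IH) (Lpe (K38.f140579 IH) (Lpe (K17.f225981 IH) (Lpe (f289272 IH) (Lpn (LP (LK LD1_c5 LD2_c45 LD3_c61))))))))
theorem f639740 : Led Lsl_et (LP (LK LD1_c9 LD2_c6 LD3_c10)) = (LP (LK LD1_c16 LD2_c57 LD3_c55)) :=
  Lre_e IH (LK LD1_c9 LD2_c6 LD3_c10) (LK LD1_c16 LD2_c57 LD3_c55) Lrfl Lrfl
theorem f639747 : Led Lsl_ft (LP (LK LD1_c5 LD2_c45 LD3_c61)) = (LP (LK LD1_c9 LD2_c6 LD3_c10)) :=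
  Lgr Lrot86 (Lpe (f507802 IH) (Lpe (f639179 IH) (Lpe (K32.f443734 IH) (Lpr_ff (f639745 IH) (Lpe (f639740 IH) (Lpn (LP (LK LD1_c9 LD2_c6 LD3_c10))))))))
theorem f639749 : Led Lsl_df (LP (LK LD1_c5 LD2_c46 LD3_c0)) = (LP (LK LD1_c9 LD2_c6 LD3_c10)) :=
  Lgr Lrot78 (Lpr_ft (f495944 IH) (Lpr_dt (K17.f225982 IH) (Lpr_ft (f639747 IH) (Lpn (LP (LK LD1_c9 LD2_c6 LD3_c10))))))
theorem f204337 : Led Lsl_gt (LP (LK LD1_c6 LD2_c25 LD3_c28)) = (LP (LK LD1_c3 LD2_c10 LD3_c23)) :=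
  Lre_g IH (LK LD1_c6 LD2_c25 LD3_c28) (LK LD1_c3 LD2_c10 LD3_c23) Lrfl Lrfl
theorem f204340 : Led Lsl_et (LP (LK LD1_c12 LD2_c23 LD3_c44)) = (LP (LK LD1_c6 LD2_c25 LD3_c28)) :=
  Lre_e IH (LK LD1_c12 LD2_c23 LD3_c44) (LK LD1_c6 LD2_c25 LD3_c28) Lrfl Lrfl
theorem f640407 : Led Lsl_df (LP (LK LD1_c9 LD2_c5 LD3_c5)) = (LP (LK LD1_c12 LD2_c23 LD3_c44)) :=
  Lgr Lrot132 (Lpr_gf (f640403 IH) (Lpr_df (f639749 IH) (Lpe (f242649 IH) (Lpe (K17.f177094 IH) (Lpr_dt (K36.f177089 IH) (Lpr_gf (K13.f242644 IH) (Lpe (K30.f25962 IH) (Lpr_et (K11.f68926 IH) (Lpe (f204337 IH) (Lpe (f204340 IH) (Lpn (LP (LK LD1_c12 LD2_c23 LD3_c44)))))))))))))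
theorem f640409 : Led Lsl_dt (LP (LK LD1_c9 LD2_c5 LD3_c5)) = (LP (LK LD1_c12 LD2_c23 LD3_c44)) :=
  Lgr Lrot42 (Lpr_df (f640407 IH) (Lpn (LP (LK LD1_c12 LD2_c23 LD3_c44))))
theorem f639770 : Led Lsl_af (LP (LK LD1_c5 LD2_c46 LD3_c8)) = (LP (LK LD1_c9 LD2_c5 LD3_c14)) :=
  Lgr Lrot0 (Lpr_at (f639768 IH) (Lpn (LP (LK LD1_c9 LD2_c5 LD3_c14))))
theorem f140683 : Led Lsl_gt (LP (LK LD1_c5 LD2_c42 LD3_c13)) = (LP (LK LD1_c5 LD2_c46 LD3_c8)) :=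
  Lre_g IH (LK LD1_c5 LD2_c42 LD3_c13) (LK LD1_c5 LD2_c46 LD3_c8) Lrfl Lrfl
theorem f281895 : Led Lsl_gt (LP (LK LD1_c11 LD2_c14 LD3_c39)) = (LP (LK LD1_c5 LD2_c42 LD3_c13)) :=
  Lre_g IH (LK LD1_c11 LD2_c14 LD3_c39) (LK LD1_c5 LD2_c42 LD3_c13) Lrfl Lrfl
theorem f639817 : Led Lsl_ft (LP (LK LD1_c11 LD2_c14 LD3_c39)) = (LP (LK LD1_c9 LD2_c5 LD3_c14)) :=
  Lgr Lrot2 (Lpr_gt (f281895 IH) (Lpr_gt (f140683 IH) (Lpr_af (f639770 IH) (Lpn (LP (LK LD1_c9 LD2_c5 LD3_c14))))))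
theorem f698774 : Led Lsl_df (LP (LK LD1_c11 LD2_c14 LD3_c39)) = v12879 :=
  Lgr Lrot78 (Lpr_ft (f639817 IH) (Lpr_dt (K32.f23115 IH) (Lpr_ft (f698772 IH) (Lpn v12879))))
theorem f140680 : Led Lsl_ft (LP (LK LD1_c5 LD2_c46 LD3_c8)) = (LP (LK LD1_c11 LD2_c22 LD3_c37)) :=
  Lre_f IH (LK LD1_c5 LD2_c46 LD3_c8) (LK LD1_c11 LD2_c22 LD3_c37) Lrfl Lrfl
theorem f639819 : Led Lsl_af (LP (LK LD1_c11 LD2_c14 LD3_c39)) = (LP (LK LD1_c11 LD2_c22 LD3_c37)) :=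
  Lgr Lrot45 (Lpr_ft (f639817 IH) (Lpe (f639770 IH) (Lpr_ft (f140680 IH) (Lpn (LP (LK LD1_c11 LD2_c22 LD3_c37))))))
theorem f68617 : Led Lsl_dt (LP (LK LD1_c2 LD2_c47 LD3_c6)) = (LP (LK LD1_c1 LD2_c19 LD3_c56)) :=
  Lre_d IH (LK LD1_c2 LD2_c47 LD3_c6) (LK LD1_c1 LD2_c19 LD3_c56) Lrfl Lrfl
theorem f68618 : Led Lsl_gt (LP (LK LD1_c2 LD2_c47 LD3_c5)) = (LP (LK LD1_c1 LD2_c19 LD3_c56)) :=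
  Lre_g IH (LK LD1_c2 LD2_c47 LD3_c5) (LK LD1_c1 LD2_c19 LD3_c56) Lrfl Lrfl
theorem f68619 : Led Lsl_dt (LP (LK LD1_c5 LD2_c42 LD3_c15)) = (LP (LK LD1_c2 LD2_c47 LD3_c5)) :=
  Lre_d IH (LK LD1_c5 LD2_c42 LD3_c15) (LK LD1_c2 LD2_c47 LD3_c5) Lrfl Lrfl
theorem f140681 : Led Lsl_gt (LP (LK LD1_c5 LD2_c46 LD3_c8)) = (LP (LK LD1_c5 LD2_c42 LD3_c15)) :=
  Lgr Lrot137 (Lpr_ef (f140667 IH) (Lpr_dt (K17.f59846 IH) (Lpe (K1.f59815 IH) (Lpe (K16.f27134 IH) (Lpr_et (K16.f59962 IH) (Lpe (K10.f68579 IH) (Lpe (K32.f68616 IH) (Lpr_dt (f68617 IH) (Lpe (f68618 IH) (Lpe (f68619 IH) (Lpn (LP (LK LD1_c5 LD2_c42 LD3_c15)))))))))))))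
theorem f639832 : Led Lsl_gf (LP (LK LD1_c11 LD2_c14 LD3_c39)) = (LP (LK LD1_c5 LD2_c42 LD3_c15)) :=
  Lgr Lrot76 (Lpr_af (f639819 IH) (Lpe (f140680 IH) (Lpr_gt (f140681 IH) (Lpn (LP (LK LD1_c5 LD2_c42 LD3_c15))))))
theorem f68673 : Led Lsl_dt (LP (LK LD1_c2 LD2_c47 LD3_c5)) = (LP (LK LD1_c5 LD2_c42 LD3_c15)) :=
  Lre_d IH (LK LD1_c2 LD2_c47 LD3_c5) (LK LD1_c5 LD2_c42 LD3_c15) Lrfl Lrfl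
theorem f68689 : Led Lsl_et (LP (LK LD1_c2 LD2_c47 LD3_c5)) = (LP (LK LD1_c5 LD2_c42 LD3_c16)) :=
  Lre_e IH (LK LD1_c2 LD2_c47 LD3_c5) (LK LD1_c5 LD2_c42 LD3_c16) Lrfl Lrfl
theorem f225974 : Led Lsl_df (LP (LK LD1_c11 LD2_c14 LD3_c28)) = (LP (LK LD1_c5 LD2_c46 LD3_c19)) :=
  Lgr Lrot38 (Lpr_dt (K17.f225942 IH) (Lpn (LP (LK LD1_c5 LD2_c46 LD3_c19))))
theorem f68690 : Led Lsl_et (LP (LK LD1_c2 LD2_c22 LD3_c27)) = (LP (LK LD1_c4 LD2_c49 LD3_c20)) :=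
  Lre_e IH (LK LD1_c2 LD2_c22 LD3_c27) (LK LD1_c4 LD2_c49 LD3_c20) Lrfl Lrfl
theorem f68668 : Led Lsl_gt (LP (LK LD1_c9 LD2_c31 LD3_c27)) = (LP (LK LD1_c4 LD2_c49 LD3_c20)) :=
  Lre_g IH (LK LD1_c9 LD2_c31 LD3_c27) (LK LD1_c4 LD2_c49 LD3_c20) Lrfl Lrfl
theorem f68620 : Led Lsl_et (LP (LK LD1_c5 LD2_c42 LD3_c15)) = (LP (LK LD1_c11 LD2_c14 LD3_c46)) :=
  Lre_e IH (LK LD1_c5 LD2_c42 LD3_c15) (LK LD1_c11 LD2_c14 LD3_c46) Lrfl Lrfl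
theorem f68622 : Led Lsl_et (LP (LK LD1_c2 LD2_c49 LD3_c11)) = (LP (LK LD1_c5 LD2_c46 LD3_c51)) :=
  Lre_e IH (LK LD1_c2 LD2_c49 LD3_c11) (LK LD1_c5 LD2_c46 LD3_c51) Lrfl Lrfl
theorem f68623 : Led Lsl_gf (LP (LK LD1_c11 LD2_c14 LD3_c46)) = (LP (LK LD1_c5 LD2_c46 LD3_c51)) :=
  Lgr Lrot141 (Lpe (f68620 IH) (Lpr_dt (f68619 IH) (Lpr_gt (f68618 IH) (Lpe (f68617 IH) (Lpr_et (K32.f68616 IH) (Lpr_gt (K10.f68579 IH) (Lpr_dt (K10.f60122 IH) (Lpr_gt (K10.f60159 IH) (Lpe (K16.f68621 IH) (Lpr_et (f68622 IH) (Lpn (LP (LK LD1_c5 LD2_c46 LD3_c51)))))))))))))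
theorem f68667 : Led Lsl_et (LP (LK LD1_c6 LD2_c12 LD3_c13)) = (LP (LK LD1_c3 LD2_c2 LD3_c40)) :=
  Lre_e IH (LK LD1_c6 LD2_c12 LD3_c13) (LK LD1_c3 LD2_c2 LD3_c40) Lrfl Lrfl
theorem f68669 : Led Lsl_dt (LP (LK LD1_c11 LD2_c14 LD3_c46)) = (LP (LK LD1_c9 LD2_c31 LD3_c27)) :=
  Lgr Lrot171 (Lpr_gf (f68623 IH) (Lpe (f68622 IH) (Lpr_dt (K16.f68621 IH) (Lpe (K10.f60159 IH) (Lpe (K10.f60122 IH) (Lpe (K32.f59878 IH) (Lpe (K0.f27133 IH) (Lpe (f68667 IH) (Lpe (K35.f27131 IH) (Lpe (f68668 IH) (Lpn (LP (LK LD1_c9 LD2_c31 LD3_c27)))))))))))))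
theorem f68674 : Led Lsl_et (LP (LK LD1_c5 LD2_c42 LD3_c16)) = (LP (LK LD1_c2 LD2_c47 LD3_c5)) :=
  Lre_e IH (LK LD1_c5 LD2_c42 LD3_c16) (LK LD1_c2 LD2_c47 LD3_c5) Lrfl Lrfl
theorem f68675 : Led Lsl_dt (LP (LK LD1_c11 LD2_c14 LD3_c47)) = (LP (LK LD1_c5 LD2_c42 LD3_c16)) :=
  Lre_d IH (LK LD1_c11 LD2_c14 LD3_c47) (LK LD1_c5 LD2_c42 LD3_c16) Lrfl Lrfl
theorem f68676 : Led Lsl_ef (LP (LK LD1_c11 LD2_c14 LD3_c47)) = (LP (LK LD1_c9 LD2_c31 LD3_c27)) :=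
  Lgr Lrot73 (Lpr_dt (f68675 IH) (Lpr_et (f68674 IH) (Lpr_dt (f68673 IH) (Lpr_et (f68620 IH) (Lpr_dt (f68669 IH) (Lpn (LP (LK LD1_c9 LD2_c31 LD3_c27))))))))
theorem f68682 : Led Lsl_et (LP (LK LD1_c11 LD2_c14 LD3_c47)) = (LP (LK LD1_c9 LD2_c31 LD3_c27)) :=
  Lgr Lrot87 (Lpr_ef (f68676 IH) (Lpn (LP (LK LD1_c9 LD2_c31 LD3_c27))))
theorem f225990 : Led Lsl_gt (LP (LK LD1_c11 LD2_c14 LD3_c28)) = (LP (LK LD1_c5 LD2_c42 LD3_c16)) :=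
  Lgr Lrot139 (Lpr_df (f225974 IH) (Lpe (K17.f9322 IH) (Lpe (K35.f68692 IH) (Lpr_dt (K17.f68691 IH) (Lpe (K0.f27113 IH) (Lpe (K24.f27128 IH) (Lpr_et (f68690 IH) (Lpe (f68668 IH) (Lpe (f68682 IH) (Lpr_dt (f68675 IH) (Lpn (LP (LK LD1_c5 LD2_c42 LD3_c16)))))))))))))
theorem f225938 : Led Lsl_dt (LP (LK LD1_c5 LD2_c42 LD3_c4)) = (LP (LK LD1_c11 LD2_c14 LD3_c27)) :=
  Lre_d IH (LK LD1_c5 LD2_c42 LD3_c4) (LK LD1_c11 LD2_c14 LD3_c27) Lrfl Lrfl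
theorem f698784 : Led Lsl_gt (LP (LK LD1_c12 LD2_c23 LD3_c44)) = (LP (LK LD1_c11 LD2_c14 LD3_c27)) :=
  Lgr Lrot139 (Lpe (f640409 IH) (Lpr_gf (f640403 IH) (Lpr_ef (f698775 IH) (Lpe (f698774 IH) (Lpr_gf (f639832 IH) (Lpe (f68673 IH) (Lpr_et (f68689 IH) (Lpe (f225990 IH) (Lpe (K35.f225976 IH) (Lpr_dt (f225938 IH) (Lpn (LP (LK LD1_c11 LD2_c14 LD3_c27)))))))))))))
theorem f698785 : Led Lsl_gt (LP (LK LD1_c12 LD2_c23 LD3_c44)) = (LP (LK LD1_c11 LD2_c14 LD3_c27)) :=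
  Leop (Lpe (f698784 IH) (Lpn (LP (LK LD1_c12 LD2_c23 LD3_c44))))
theorem seed_639 : LEOK LG_g (LK LD1_c12 LD2_c23 LD3_c44) :=
  Leoe_g (LK LD1_c12 LD2_c23 LD3_c44) (f698785 IH)
def v12884 : LQ := Led Lsl_et (LP (LK LD1_c4 LD2_c33 LD3_c58))
theorem f698810 : Led Lsl_et (LP (LK LD1_c4 LD2_c33 LD3_c58)) = v12884 :=
  Lrfl
theorem f698815 : Led Lsl_ef (LP (LK LD1_c4 LD2_c33 LD3_c58)) = v12884 :=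
  Lgr Lrot88 (Lpr_et (f698810 IH) (Lpn v12884))
def v4184 : LQ := Led Lsl_et (LP (LK LD1_c2 LD2_c13 LD3_c52))
theorem f631714 : Led Lsl_et (LP (LK LD1_c2 LD2_c13 LD3_c52)) = v4184 :=
  Lrfl
theorem f698817 : Led Lsl_bt v4184 = v12884 :=
  Lgr Lrot119 (Lpe (f631714 IH) (Lpe (K8.f58857 IH) (Lpr_ef (f698815 IH) (Lpn v12884))))
theorem f631715 : Led Lsl_af K46.v1567 = v4184 :=
  Lgr Lrot50 (Lpe (K46.f499990 IH) (Lpe (K8.f163257 IH) (Lpr_et (f631714 IH) (Lpn v4184))))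
theorem f454008 : Led Lsl_at (LP (LK LD1_c3 LD2_c21 LD3_c25)) = (LP (LK LD1_c1 LD2_c36 LD3_c58)) :=
  Lre_a IH (LK LD1_c3 LD2_c21 LD3_c25) (LK LD1_c1 LD2_c36 LD3_c58) Lrfl Lrfl
theorem f454211 : Led Lsl_ff (LP (LK LD1_c3 LD2_c21 LD3_c26)) = (LP (LK LD1_c3 LD2_c21 LD3_c36)) :=
  Lgr Lrot3 (Lpr_ft (K24.f454180 IH) (Lpn (LP (LK LD1_c3 LD2_c21 LD3_c36))))
theorem f454200 : Led Lsl_et (LP (LK LD1_c6 LD2_c46 LD3_c54)) = (LP (LK LD1_c3 LD2_c21 LD3_c36)) :=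
  Lre_e IH (LK LD1_c6 LD2_c46 LD3_c54) (LK LD1_c3 LD2_c21 LD3_c36) Lrfl Lrfl
theorem f454199 : Led Lsl_et (LP (LK LD1_c2 LD2_c22 LD3_c46)) = (LP (LK LD1_c4 LD2_c50 LD3_c0)) :=
  Lre_e IH (LK LD1_c2 LD2_c22 LD3_c46) (LK LD1_c4 LD2_c50 LD3_c0) Lrfl Lrfl
theorem f454221 : Led Lsl_ft (LP (LK LD1_c1 LD2_c36 LD3_c58)) = (LP (LK LD1_c2 LD2_c22 LD3_c46)) :=
  Lgr Lrot86 (Lpe (K46.f454220 IH) (Lpr_ff (f454211 IH) (Lpe (f454200 IH) (Lpe (K46.f454193 IH) (Lpe (f454199 IH) (Lpn (LP (LK LD1_c2 LD2_c22 LD3_c46))))))))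
theorem f454226 : Led Lsl_at (LP (LK LD1_c2 LD2_c22 LD3_c46)) = (LP (LK LD1_c4 LD2_c49 LD3_c61)) :=
  Lre_a IH (LK LD1_c2 LD2_c22 LD3_c46) (LK LD1_c4 LD2_c49 LD3_c61) Lrfl Lrfl
theorem f454227 : Led Lsl_ff (LP (LK LD1_c3 LD2_c21 LD3_c25)) = (LP (LK LD1_c4 LD2_c49 LD3_c61)) :=
  Lgr Lrot30 (Lpr_at (f454008 IH) (Lpr_ft (f454221 IH) (Lpr_at (f454226 IH) (Lpn (LP (LK LD1_c4 LD2_c49 LD3_c61))))))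
theorem f509502 : Led Lsl_gt (LP (LK LD1_c4 LD2_c49 LD3_c61)) = K46.v2182 :=
  Lgr Lrot5 (Lpe (f454227 IH) (Lpr_at (f454008 IH) (Lpr_gf (K46.f509501 IH) (Lpn K46.v2182))))
def v2181 : LQ := Led Lsl_gt (LP (LK LD1_c1 LD2_c36 LD3_c58))
theorem f509499 : Led Lsl_gt (LP (LK LD1_c1 LD2_c36 LD3_c58)) = v2181 :=
  Lrfl
theorem f509500 : Led Lsl_gf (LP (LK LD1_c4 LD2_c49 LD3_c61)) = v2181 :=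
  Lgr Lrot76 (Lpe (f454226 IH) (Lpe (f454221 IH) (Lpr_gt (f509499 IH) (Lpn v2181))))
theorem f653313 : Led Lsl_ff v4184 = v2181 :=
  Lgr Lrot52 (Lpe (f631715 IH) (Lpq (K46.f653292 IH) (Lpe (f509502 IH) (Lpr_gf (f509500 IH) (Lpn v2181)))))
def v8727 : LQ := Led Lsl_bt v2181
theorem f672095 : Led Lsl_bt v2181 = v8727 :=
  Lrfl
theorem f672096 : Led Lsl_bf v2181 = v8727 :=
  Lgr Lrot24 (Lpr_bt (f672095 IH) (Lpn v8727))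
theorem f698820 : Led Lsl_ff v8727 = v12884 :=
  Lgr Lrot25 (Lpe (f672096 IH) (Lpe (f653313 IH) (Lpr_bt (f698817 IH) (Lpn v12884))))
theorem f414494 : Led Lsl_bt (LP (LK LD1_c1 LD2_c36 LD3_c45)) = (LP (LK LD1_c0 LD2_c44 LD3_c49)) :=
  Lre_b IH (LK LD1_c1 LD2_c36 LD3_c45) (LK LD1_c0 LD2_c44 LD3_c49) Lrfl Lrfl
theorem f414495 : Led Lsl_ct (LP (LK LD1_c1 LD2_c36 LD3_c45)) = (LP (LK LD1_c3 LD2_c20 LD3_c55)) :=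
  Lre_c IH (LK LD1_c1 LD2_c36 LD3_c45) (LK LD1_c3 LD2_c20 LD3_c55) Lrfl Lrfl
def v6363 : LQ := Led Lsl_gf (LP (LK LD1_c3 LD2_c20 LD3_c55))
theorem f652996 : Led Lsl_gf (LP (LK LD1_c3 LD2_c20 LD3_c55)) = v6363 :=
  Lrfl
theorem f672097 : Led Lsl_cf v6363 = v8727 :=
  Lgr Lrot160 (Lpe (f652996 IH) (Lpe (f414495 IH) (Lpr_bt (f414494 IH) (Lpr_gt (K17.f185972 IH) (Lpr_ct (K17.f22961 IH) (Lpr_gt (K0.f23179 IH) (Lpe (K16.f413451 IH) (Lpr_bt (K46.f454014 IH) (Lpr_gt (f509499 IH) (Lpr_bf (f672096 IH) (Lpn v8727)))))))))))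
theorem f58893 : Led Lsl_et (LP (LK LD1_c4 LD2_c38 LD3_c46)) = (LP (LK LD1_c9 LD2_c13 LD3_c21)) :=
  Lre_e IH (LK LD1_c4 LD2_c38 LD3_c46) (LK LD1_c9 LD2_c13 LD3_c21) Lrfl Lrfl
theorem f698818 : Led Lsl_ct (LP (LK LD1_c9 LD2_c13 LD3_c21)) = v12884 :=
  Lgr Lrot15 (Lpe (f58893 IH) (Lpe (K8.f58860 IH) (Lpr_ef (f698815 IH) (Lpn v12884))))
theorem f698821 : Led Lsl_ft v6363 = (LP (LK LD1_c9 LD2_c13 LD3_c21)) :=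
  Lgr Lrot4 (Lpr_cf (f672097 IH) (Lpr_ff (f698820 IH) (Lpe (f698818 IH) (Lpn (LP (LK LD1_c9 LD2_c13 LD3_c21))))))
def v6362 : LQ := Led Lsl_gt (LP (LK LD1_c3 LD2_c20 LD3_c55))
theorem f652993 : Led Lsl_gt (LP (LK LD1_c3 LD2_c20 LD3_c55)) = v6362 :=
  Lrfl
theorem f139479 : Led Lsl_et (LP (LK LD1_c6 LD2_c1 LD3_c47)) = (LP (LK LD1_c2 LD2_c56 LD3_c61)) :=
  Lre_e IH (LK LD1_c6 LD2_c1 LD3_c47) (LK LD1_c2 LD2_c56 LD3_c61) Lrfl Lrfl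
theorem f158864 : Led Lsl_at (LP (LK LD1_c9 LD2_c13 LD3_c21)) = (LP (LK LD1_c6 LD2_c1 LD3_c47)) :=
  Lgr Lrot80 (Lpe (f58893 IH) (Lpr_af (K8.f158862 IH) (Lpe (f139479 IH) (Lpn (LP (LK LD1_c6 LD2_c1 LD3_c47))))))
theorem f698824 : v6362 = (LP (LK LD1_c6 LD2_c1 LD3_c47)) :=
  (Llr Lrot46 (Lpe (f652993 IH) (Lpr_gf (f652996 IH) (Lpr_ft (f698821 IH) (Lpr_at (f158864 IH) (Lpn (LP (LK LD1_c6 LD2_c1 LD3_c47)))))))).symm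
def v2161 : LQ := Led Lsl_at (LP (LK LD1_c1 LD2_c36 LD3_c43))
theorem f509390 : Led Lsl_at (LP (LK LD1_c1 LD2_c36 LD3_c43)) = v2161 :=
  Lrfl
theorem f509393 : Led Lsl_df K32.v558 = v2161 :=
  Lgr Lrot18 (Lpe (K32.f453979 IH) (Lpr_dt (K24.f140048 IH) (Lpr_at (f509390 IH) (Lpn v2161))))
theorem f509394 : Led Lsl_dt K32.v558 = v2161 :=
  Lgr Lrot42 (Lpr_df (f509393 IH) (Lpn v2161))
theorem f509867 : v2161 = (LP (LK LD1_c2 LD2_c22 LD3_c27)) :=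
  Lefun (Lecon (f509394 IH) (K35.f509845 IH)) (K17.f77023 IH)
theorem f509395 : Led Lsl_ft (LP (LK LD1_c1 LD2_c36 LD3_c46)) = v2161 :=
  Lgr Lrot54 (Lpe (K24.f414619 IH) (Lpr_ff (K32.f453983 IH) (Lpr_df (f509393 IH) (Lpn v2161))))
theorem f415144 : Led Lsl_bt (LP (LK LD1_c3 LD2_c20 LD3_c56)) = (LP (LK LD1_c1 LD2_c36 LD3_c46)) :=
  Lre_b IH (LK LD1_c3 LD2_c20 LD3_c56) (LK LD1_c1 LD2_c36 LD3_c46) Lrfl Lrfl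
theorem f77039 : Led Lsl_bt (LP (LK LD1_c2 LD2_c22 LD3_c27)) = (LP (LK LD1_c4 LD2_c49 LD3_c16)) :=
  Lre_b IH (LK LD1_c2 LD2_c22 LD3_c27) (LK LD1_c4 LD2_c49 LD3_c16) Lrfl Lrfl
theorem f510313 : Led Lsl_ff (LP (LK LD1_c3 LD2_c20 LD3_c56)) = (LP (LK LD1_c4 LD2_c49 LD3_c16)) :=
  Lgr Lrot25 (Lpr_bt (f415144 IH) (Lpr_ft (f509395 IH) (Lpqs (f509867 IH) (Lpr_bt (f77039 IH) (Lpn (LP (LK LD1_c4 LD2_c49 LD3_c16)))))))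
theorem f510321 : Led Lsl_ft (LP (LK LD1_c3 LD2_c20 LD3_c56)) = (LP (LK LD1_c4 LD2_c49 LD3_c16)) :=
  Lgr Lrot48 (Lpr_ff (f510313 IH) (Lpn (LP (LK LD1_c4 LD2_c49 LD3_c16))))
theorem f509406 : Led Lsl_at (LP (LK LD1_c6 LD2_c45 LD3_c42)) = (LP (LK LD1_c3 LD2_c20 LD3_c56)) :=
  Lre_a IH (LK LD1_c6 LD2_c45 LD3_c42) (LK LD1_c3 LD2_c20 LD3_c56) Lrfl Lrfl
theorem f510328 : Led Lsl_at (LP (LK LD1_c4 LD2_c49 LD3_c16)) = (LP (LK LD1_c9 LD2_c31 LD3_c14)) :=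
  Lre_a IH (LK LD1_c4 LD2_c49 LD3_c16) (LK LD1_c9 LD2_c31 LD3_c14) Lrfl Lrfl
theorem f510329 : Led Lsl_ff (LP (LK LD1_c6 LD2_c45 LD3_c42)) = (LP (LK LD1_c9 LD2_c31 LD3_c14)) :=
  Lgr Lrot30 (Lpr_at (f509406 IH) (Lpr_ft (f510321 IH) (Lpr_at (f510328 IH) (Lpn (LP (LK LD1_c9 LD2_c31 LD3_c14))))))
theorem f510175 : Led Lsl_dt (LP (LK LD1_c6 LD2_c45 LD3_c42)) = (LP (LK LD1_c3 LD2_c20 LD3_c54)) :=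
  Lre_d IH (LK LD1_c6 LD2_c45 LD3_c42) (LK LD1_c3 LD2_c20 LD3_c54) Lrfl Lrfl
theorem f510343 : Led Lsl_dt (LP (LK LD1_c4 LD2_c49 LD3_c14)) = (LP (LK LD1_c9 LD2_c31 LD3_c14)) :=
  Lre_d IH (LK LD1_c4 LD2_c49 LD3_c14) (LK LD1_c9 LD2_c31 LD3_c14) Lrfl Lrfl
theorem f510346 : Led Lsl_ft (LP (LK LD1_c3 LD2_c20 LD3_c54)) = (LP (LK LD1_c4 LD2_c49 LD3_c14)) :=
  Lgr Lrot54 (Lpe (f510175 IH) (Lpr_ff (f510329 IH) (Lpe (f510343 IH) (Lpn (LP (LK LD1_c4 LD2_c49 LD3_c14))))))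
theorem f510358 : Led Lsl_ff (LP (LK LD1_c3 LD2_c20 LD3_c54)) = (LP (LK LD1_c4 LD2_c49 LD3_c14)) :=
  Lgr Lrot3 (Lpr_ft (f510346 IH) (Lpn (LP (LK LD1_c4 LD2_c49 LD3_c14))))
theorem f510171 : Led Lsl_ct (LP (LK LD1_c3 LD2_c20 LD3_c54)) = (LP (LK LD1_c6 LD2_c45 LD3_c41)) :=
  Lre_c IH (LK LD1_c3 LD2_c20 LD3_c54) (LK LD1_c6 LD2_c45 LD3_c41) Lrfl Lrfl
theorem f510340 : Led Lsl_ct (LP (LK LD1_c9 LD2_c31 LD3_c13)) = (LP (LK LD1_c4 LD2_c49 LD3_c14)) :=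
  Lre_c IH (LK LD1_c9 LD2_c31 LD3_c13) (LK LD1_c4 LD2_c49 LD3_c14) Lrfl Lrfl
theorem f510362 : Led Lsl_ft (LP (LK LD1_c6 LD2_c45 LD3_c41)) = (LP (LK LD1_c9 LD2_c31 LD3_c13)) :=
  Lgr Lrot4 (Lpe (f510171 IH) (Lpr_ff (f510358 IH) (Lpe (f510340 IH) (Lpn (LP (LK LD1_c9 LD2_c31 LD3_c13))))))
theorem f415077 : Led Lsl_at (LP (LK LD1_c3 LD2_c20 LD3_c55)) = (LP (LK LD1_c6 LD2_c45 LD3_c41)) :=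
  Lre_a IH (LK LD1_c3 LD2_c20 LD3_c55) (LK LD1_c6 LD2_c45 LD3_c41) Lrfl Lrfl
theorem f510377 : Led Lsl_at (LP (LK LD1_c9 LD2_c31 LD3_c13)) = (LP (LK LD1_c4 LD2_c49 LD3_c15)) :=
  Lre_a IH (LK LD1_c9 LD2_c31 LD3_c13) (LK LD1_c4 LD2_c49 LD3_c15) Lrfl Lrfl
theorem f510378 : Led Lsl_ff (LP (LK LD1_c3 LD2_c20 LD3_c55)) = (LP (LK LD1_c4 LD2_c49 LD3_c15)) :=
  Lgr Lrot30 (Lpr_at (f415077 IH) (Lpr_ft (f510362 IH) (Lpr_at (f510377 IH) (Lpn (LP (LK LD1_c4 LD2_c49 LD3_c15))))))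
theorem f510380 : Led Lsl_ft (LP (LK LD1_c3 LD2_c20 LD3_c55)) = (LP (LK LD1_c4 LD2_c49 LD3_c15)) :=
  Lgr Lrot48 (Lpr_ff (f510378 IH) (Lpn (LP (LK LD1_c4 LD2_c49 LD3_c15))))
theorem f510385 : Led Lsl_at (LP (LK LD1_c4 LD2_c49 LD3_c15)) = (LP (LK LD1_c9 LD2_c31 LD3_c13)) :=
  Lre_a IH (LK LD1_c4 LD2_c49 LD3_c15) (LK LD1_c9 LD2_c31 LD3_c13) Lrfl Lrfl
theorem f652994 : Led Lsl_gf (LP (LK LD1_c9 LD2_c31 LD3_c13)) = v6362 :=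
  Lgr Lrot76 (Lpe (f510385 IH) (Lpe (f510380 IH) (Lpr_gt (f652993 IH) (Lpn v6362))))
theorem f698825 : Led Lsl_gt (LP (LK LD1_c6 LD2_c1 LD3_c47)) = (LP (LK LD1_c9 LD2_c31 LD3_c13)) :=
  Leop (Lpr_gf (f652994 IH) (Lpqs (f698824 IH) (Lpn (LP (LK LD1_c6 LD2_c1 LD3_c47)))))
theorem seed_640 : LEOK LG_g (LK LD1_c6 LD2_c1 LD3_c47) :=
  Leoe_g (LK LD1_c6 LD2_c1 LD3_c47) (f698825 IH)
def v12896 : LQ := Led Lsl_ct (LP (LK LD1_c4 LD2_c34 LD3_c7))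
theorem f698872 : Led Lsl_ct (LP (LK LD1_c4 LD2_c34 LD3_c7)) = v12896 :=
  Lrfl
theorem f146419 : Led Lsl_bt (LP (LK LD1_c4 LD2_c34 LD3_c7)) = (LP (LK LD1_c9 LD2_c5 LD3_c39)) :=
  Lre_b IH (LK LD1_c4 LD2_c34 LD3_c7) (LK LD1_c9 LD2_c5 LD3_c39) Lrfl Lrfl
theorem f418504 : Led Lsl_gt (LP (LK LD1_c2 LD2_c50 LD3_c55)) = (LP (LK LD1_c5 LD2_c49 LD3_c36)) :=
  Lre_g IH (LK LD1_c2 LD2_c50 LD3_c55) (LK LD1_c5 LD2_c49 LD3_c36) Lrfl Lrfl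
theorem f567736 : Led Lsl_gf (LP (LK LD1_c9 LD2_c5 LD3_c39)) = (LP (LK LD1_c5 LD2_c49 LD3_c36)) :=
  Lgr Lrot76 (Lpr_af (K41.f567720 IH) (Lpe (K41.f567719 IH) (Lpr_gt (f418504 IH) (Lpn (LP (LK LD1_c5 LD2_c49 LD3_c36))))))
theorem f567738 : Led Lsl_bt (LP (LK LD1_c11 LD2_c27 LD3_c58)) = (LP (LK LD1_c5 LD2_c49 LD3_c36)) :=
  Lre_b IH (LK LD1_c11 LD2_c27 LD3_c58) (LK LD1_c5 LD2_c49 LD3_c36) Lrfl Lrfl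
theorem f146429 : Led Lsl_dt (LP (LK LD1_c2 LD2_c50 LD3_c32)) = (LP (LK LD1_c5 LD2_c48 LD3_c61)) :=
  Lre_d IH (LK LD1_c2 LD2_c50 LD3_c32) (LK LD1_c5 LD2_c48 LD3_c61) Lrfl Lrfl
theorem f503452 : Led Lsl_gf (LP (LK LD1_c5 LD2_c52 LD3_c46)) = (LP (LK LD1_c5 LD2_c48 LD3_c61)) :=
  Lgr Lrot76 (Lpe (K35.f503447 IH) (Lpr_ff (K35.f503445 IH) (Lpe (K32.f438591 IH) (Lpn (LP (LK LD1_c5 LD2_c48 LD3_c61))))))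
theorem f669448 : Led Lsl_cf K48.v1708 = K48.v7973 :=
  Lgr Lrot11 (Lpr_ct (K48.f669170 IH) (Lpn K48.v7973))
theorem f698878 : Led Lsl_gf K48.v7973 = v12896 :=
  Lgr Lrot104 (Lpe (f669448 IH) (Lpe (K48.f500964 IH) (Lpr_cf (K32.f442890 IH) (Lpe (K29.f57137 IH) (Lpr_cf (K35.f57138 IH) (Lpr_gf (f503452 IH) (Lpe (f146429 IH) (Lpe (K32.f146426 IH) (Lpr_ct (f698872 IH) (Lpn v12896))))))))))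
theorem f425774 : Led Lsl_et (LP (LK LD1_c4 LD2_c0 LD3_c51)) = (LP (LK LD1_c1 LD2_c57 LD3_c11)) :=
  Lre_e IH (LK LD1_c4 LD2_c0 LD3_c51) (LK LD1_c1 LD2_c57 LD3_c11) Lrfl Lrfl
theorem f541798 : Led Lsl_cf (LP (LK LD1_c4 LD2_c0 LD3_c51)) = (LP (LK LD1_c2 LD2_c56 LD3_c18)) :=
  Lgr Lrot39 (Lpr_et (f425774 IH) (Lpr_ct (K36.f541790 IH) (Lpe (K32.f75816 IH) (Lpn (LP (LK LD1_c2 LD2_c56 LD3_c18))))))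
theorem f99353 : Led Lsl_gt (LP (LK LD1_c4 LD2_c0 LD3_c51)) = (LP (LK LD1_c8 LD2_c2 LD3_c27)) :=
  Lre_g IH (LK LD1_c4 LD2_c0 LD3_c51) (LK LD1_c8 LD2_c2 LD3_c27) Lrfl Lrfl
theorem f698879 : Led Lsl_ct (LP (LK LD1_c11 LD2_c27 LD3_c58)) = (LP (LK LD1_c8 LD2_c2 LD3_c27)) :=
  Lgr Lrot63 (Lpr_bt (f567738 IH) (Lpe (f567736 IH) (Lpe (f146419 IH) (Lpr_ct (f698872 IH) (Lpe (f698878 IH) (Lpe (K48.f669170 IH) (Lpe (K48.f641942 IH) (Lpe (K41.f641432 IH) (Lpe (f541798 IH) (Lpr_gt (f99353 IH) (Lpn (LP (LK LD1_c8 LD2_c2 LD3_c27)))))))))))))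
theorem f698880 : Led Lsl_ct (LP (LK LD1_c11 LD2_c27 LD3_c58)) = (LP (LK LD1_c8 LD2_c2 LD3_c27)) :=
  Leop (Lpe (f698879 IH) (Lpn (LP (LK LD1_c11 LD2_c27 LD3_c58))))
theorem seed_641 : LEOK LG_c (LK LD1_c11 LD2_c27 LD3_c58) :=
  Leoe_c (LK LD1_c11 LD2_c27 LD3_c58) (f698880 IH)
def v4848 : LQ := Led Lsl_ct (LP (LK LD1_c2 LD2_c50 LD3_c34))
theorem f640576 : Led Lsl_ct (LP (LK LD1_c2 LD2_c50 LD3_c34)) = v4848 :=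
  Lrfl
theorem f640578 : Led Lsl_ff K37.v1535 = v4848 :=
  Lgr Lrot23 (Lpe (K48.f496155 IH) (Lpr_ft (K6.f57502 IH) (Lpr_ct (f640576 IH) (Lpn v4848))))
theorem f640579 : Led Lsl_ft K37.v1535 = v4848 :=
  Lgr Lrot48 (Lpr_ff (f640578 IH) (Lpn v4848))
theorem f698877 : Led Lsl_at v4848 = v12896 :=
  Lgr Lrot33 (Lpe (f640579 IH) (Lpr_dt (K48.f669449 IH) (Lpe (K48.f669453 IH) (Lpr_dt (K32.f135363 IH) (Lpr_ct (K24.f135364 IH) (Lpr_dt (K6.f135392 IH) (Lpe (K24.f146060 IH) (Lpr_dt (K24.f143131 IH) (Lpr_ct (f698872 IH) (Lpn v12896))))))))))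
theorem f698892 : Led Lsl_gt K45.v5081 = v12896 :=
  Lgr Lrot46 (Lpe (K45.f645227 IH) (Lpr_ft (f640579 IH) (Lpr_at (f698877 IH) (Lpn v12896))))
theorem f204733 : Led Lsl_bt (LP (LK LD1_c2 LD2_c57 LD3_c4)) = (LP (LK LD1_c1 LD2_c24 LD3_c20)) :=
  Lre_b IH (LK LD1_c2 LD2_c57 LD3_c4) (LK LD1_c1 LD2_c24 LD3_c20) Lrfl Lrfl
theorem f204717 : Led Lsl_ct (LP (LK LD1_c2 LD2_c57 LD3_c4)) = (LP (LK LD1_c6 LD2_c1 LD3_c60)) :=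
  Lre_c IH (LK LD1_c2 LD2_c57 LD3_c4) (LK LD1_c6 LD2_c1 LD3_c60) Lrfl Lrfl
theorem f204770 : Led Lsl_gt (LP (LK LD1_c11 LD2_c48 LD3_c33)) = (LP (LK LD1_c6 LD2_c1 LD3_c60)) :=
  Lre_g IH (LK LD1_c11 LD2_c48 LD3_c33) (LK LD1_c6 LD2_c1 LD3_c60) Lrfl Lrfl
theorem f567727 : Led Lsl_bt (LP (LK LD1_c11 LD2_c27 LD3_c59)) = (LP (LK LD1_c5 LD2_c49 LD3_c37)) :=
  Lre_b IH (LK LD1_c11 LD2_c27 LD3_c59) (LK LD1_c5 LD2_c49 LD3_c37) Lrfl Lrfl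
theorem f698893 : Led Lsl_cf (LP (LK LD1_c11 LD2_c48 LD3_c33)) = (LP (LK LD1_c11 LD2_c27 LD3_c59)) :=
  Lgr Lrot160 (Lpr_gt (f204770 IH) (Lpe (f204717 IH) (Lpr_bt (f204733 IH) (Lpr_gt (K16.f59861 IH) (Lpr_ct (K45.f645225 IH) (Lpr_gt (f698892 IH) (Lpe (f698872 IH) (Lpr_bt (f146419 IH) (Lpr_gt (K45.f567722 IH) (Lpe (f567727 IH) (Lpn (LP (LK LD1_c11 LD2_c27 LD3_c59)))))))))))))
theorem f698894 : Led Lsl_ct (LP (LK LD1_c11 LD2_c27 LD3_c59)) = (LP (LK LD1_c11 LD2_c48 LD3_c33)) :=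
  Leop (Lpr_cf (f698893 IH) (Lpn (LP (LK LD1_c11 LD2_c27 LD3_c59))))
theorem seed_642 : LEOK LG_c (LK LD1_c11 LD2_c27 LD3_c59) :=
  Leoe_c (LK LD1_c11 LD2_c27 LD3_c59) (f698894 IH)
theorem f538083 : Led Lsl_bf (LP (LK LD1_c3 LD2_c20 LD3_c28)) = (LP (LK LD1_c4 LD2_c41 LD3_c38)) :=
  Lgr Lrot96 (Lpr_et (K35.f538079 IH) (Lpr_bt (K40.f204778 IH) (Lpr_et (K11.f26809 IH) (Lpn (LP (LK LD1_c4 LD2_c41 LD3_c38))))))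
theorem f26823 : Led Lsl_ct (LP (LK LD1_c4 LD2_c41 LD3_c38)) = (LP (LK LD1_c9 LD2_c18 LD3_c4)) :=
  Lre_c IH (LK LD1_c4 LD2_c41 LD3_c38) (LK LD1_c9 LD2_c18 LD3_c4) Lrfl Lrfl
theorem f567725 : Led Lsl_ct (LP (LK LD1_c5 LD2_c49 LD3_c37)) = (LP (LK LD1_c11 LD2_c27 LD3_c60)) :=
  Lre_c IH (LK LD1_c5 LD2_c49 LD3_c37) (LK LD1_c11 LD2_c27 LD3_c60) Lrfl Lrfl
theorem f698895 : Led Lsl_gf (LP (LK LD1_c9 LD2_c18 LD3_c4)) = (LP (LK LD1_c11 LD2_c27 LD3_c60)) :=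
  Lgr Lrot129 (Lpe (f26823 IH) (Lpe (f538083 IH) (Lpe (K46.f644685 IH) (Lpe (K45.f507160 IH) (Lpr_ct (K45.f645225 IH) (Lpr_gt (f698892 IH) (Lpe (f698872 IH) (Lpr_bt (f146419 IH) (Lpr_gt (K45.f567722 IH) (Lpr_ct (f567725 IH) (Lpn (LP (LK LD1_c11 LD2_c27 LD3_c60)))))))))))))
theorem f698896 : Led Lsl_gt (LP (LK LD1_c11 LD2_c27 LD3_c60)) = (LP (LK LD1_c9 LD2_c18 LD3_c4)) :=
  Leop (Lpr_gf (f698895 IH) (Lpn (LP (LK LD1_c11 LD2_c27 LD3_c60))))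
theorem seed_643 : LEOK LG_g (LK LD1_c11 LD2_c27 LD3_c60) :=
  Leoe_g (LK LD1_c11 LD2_c27 LD3_c60) (f698896 IH)
def v12899 : LQ := Led Lsl_et (LP (LK LD1_c4 LD2_c34 LD3_c10))
theorem f699220 : Led Lsl_et (LP (LK LD1_c4 LD2_c34 LD3_c10)) = v12899 :=
  Lrfl
theorem f699224 : Led Lsl_ef (LP (LK LD1_c4 LD2_c34 LD3_c10)) = v12899 :=
  Lgr Lrot88 (Lpr_et (f699220 IH) (Lpn v12899))
theorem f68566 : Led Lsl_et (LP (LK LD1_c2 LD2_c30 LD3_c52)) = (LP (LK LD1_c5 LD2_c7 LD3_c6)) :=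
  Lre_e IH (LK LD1_c2 LD2_c30 LD3_c52) (LK LD1_c5 LD2_c7 LD3_c6) Lrfl Lrfl
theorem f699227 : Led Lsl_dt (LP (LK LD1_c5 LD2_c7 LD3_c6)) = v12899 :=
  Lgr Lrot77 (Lpe (f68566 IH) (Lpe (K39.f68565 IH) (Lpe (K27.f68563 IH) (Lpe (K40.f68544 IH) (Lpr_ef (f699224 IH) (Lpn v12899))))))
theorem f165675 : Led Lsl_ct (LP (LK LD1_c10 LD2_c4 LD3_c49)) = (LP (LK LD1_c5 LD2_c7 LD3_c6)) :=
  Lre_c IH (LK LD1_c10 LD2_c4 LD3_c49) (LK LD1_c5 LD2_c7 LD3_c6) Lrfl Lrfl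
theorem f387269 : Led Lsl_dt (LP (LK LD1_c18 LD2_c23 LD3_c30)) = (LP (LK LD1_c10 LD2_c4 LD3_c49)) :=
  Lre_d IH (LK LD1_c18 LD2_c23 LD3_c30) (LK LD1_c10 LD2_c4 LD3_c49) Lrfl Lrfl
theorem f699222 : Led Lsl_cf (LP (LK LD1_c8 LD2_c2 LD3_c24)) = v12899 :=
  Lgr Lrot39 (Lpr_et (K44.f425770 IH) (Lpr_ct (K36.f541826 IH) (Lpr_et (f699220 IH) (Lpn v12899))))
theorem f570650 : Led Lsl_dt (LP (LK LD1_c8 LD2_c2 LD3_c24)) = (LP (LK LD1_c13 LD2_c50 LD3_c7)) :=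
  Lgr Lrot44 (Lpe (K44.f499073 IH) (Lpr_df (K44.f570648 IH) (Lpe (K28.f426683 IH) (Lpn (LP (LK LD1_c13 LD2_c50 LD3_c7))))))
theorem f426685 : Led Lsl_ct (LP (LK LD1_c13 LD2_c50 LD3_c7)) = (LP (LK LD1_c7 LD2_c18 LD3_c49)) :=
  Lre_c IH (LK LD1_c13 LD2_c50 LD3_c7) (LK LD1_c7 LD2_c18 LD3_c49) Lrfl Lrfl
theorem f80226 : Led Lsl_dt (LP (LK LD1_c4 LD2_c26 LD3_c12)) = (LP (LK LD1_c8 LD2_c49 LD3_c49)) :=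
  Lre_d IH (LK LD1_c4 LD2_c26 LD3_c12) (LK LD1_c8 LD2_c49 LD3_c49) Lrfl Lrfl
theorem f499032 : Led Lsl_bt (LP (LK LD1_c8 LD2_c49 LD3_c44)) = (LP (LK LD1_c4 LD2_c26 LD3_c12)) :=
  Lre_b IH (LK LD1_c8 LD2_c49 LD3_c44) (LK LD1_c4 LD2_c26 LD3_c12) Lrfl Lrfl
theorem f575153 : Led Lsl_dt (LP (LK LD1_c7 LD2_c18 LD3_c49)) = (LP (LK LD1_c8 LD2_c49 LD3_c44)) :=
  Lgr Lrot79 (Lpr_bf (K43.f575151 IH) (Lpe (f80226 IH) (Lpe (f499032 IH) (Lpn (LP (LK LD1_c8 LD2_c49 LD3_c44))))))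
theorem f582179 : Led Lsl_bt (LP (LK LD1_c11 LD2_c36 LD3_c18)) = (LP (LK LD1_c9 LD2_c17 LD3_c53)) :=
  Lgr Lrot95 (Lpr_df (K32.f420036 IH) (Lpr_bf (K32.f419847 IH) (Lpr_df (K44.f582175 IH) (Lpn (LP (LK LD1_c9 LD2_c17 LD3_c53))))))
theorem f420047 : Led Lsl_et (LP (LK LD1_c20 LD2_c34 LD3_c28)) = (LP (LK LD1_c11 LD2_c36 LD3_c18)) :=
  Lre_e IH (LK LD1_c20 LD2_c34 LD3_c28) (LK LD1_c11 LD2_c36 LD3_c18) Lrfl Lrfl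
theorem f582188 : Led Lsl_et (LP (LK LD1_c9 LD2_c17 LD3_c53)) = (LP (LK LD1_c17 LD2_c12 LD3_c58)) :=
  Lre_e IH (LK LD1_c9 LD2_c17 LD3_c53) (LK LD1_c17 LD2_c12 LD3_c58) Lrfl Lrfl
theorem f604821 : Led Lsl_bf (LP (LK LD1_c20 LD2_c34 LD3_c28)) = (LP (LK LD1_c17 LD2_c12 LD3_c58)) :=
  Lgr Lrot96 (Lpr_et (f420047 IH) (Lpr_bt (f582179 IH) (Lpr_et (f582188 IH) (Lpn (LP (LK LD1_c17 LD2_c12 LD3_c58))))))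
theorem f582203 : Led Lsl_ct (LP (LK LD1_c9 LD2_c17 LD3_c54)) = (LP (LK LD1_c17 LD2_c12 LD3_c58)) :=
  Lre_c IH (LK LD1_c9 LD2_c17 LD3_c54) (LK LD1_c17 LD2_c12 LD3_c58) Lrfl Lrfl
theorem f604825 : Led Lsl_ct (LP (LK LD1_c13 LD2_c46 LD3_c26)) = (LP (LK LD1_c11 LD2_c58 LD3_c40)) :=
  Lgr Lrot83 (Lpe (K43.f578153 IH) (Lpe (K43.f498945 IH) (Lpr_bf (f604821 IH) (Lpe (f582203 IH) (Lpe (K44.f582197 IH) (Lpn (LP (LK LD1_c11 LD2_c58 LD3_c40))))))))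
theorem f604827 : Led Lsl_cf (LP (LK LD1_c13 LD2_c46 LD3_c26)) = (LP (LK LD1_c11 LD2_c58 LD3_c40)) :=
  Lgr Lrot11 (Lpr_ct (f604825 IH) (Lpn (LP (LK LD1_c11 LD2_c58 LD3_c40))))
theorem f578155 : Led Lsl_af (LP (LK LD1_c8 LD2_c49 LD3_c44)) = (LP (LK LD1_c13 LD2_c46 LD3_c26)) :=
  Lgr Lrot36 (Lpr_bt (f499032 IH) (Lpr_at (K43.f499028 IH) (Lpr_bt (K43.f420355 IH) (Lpe (K43.f498938 IH) (Lpr_bt (K43.f578153 IH) (Lpn (LP (LK LD1_c13 LD2_c46 LD3_c26))))))))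
theorem f604831 : Led Lsl_ct (LP (LK LD1_c8 LD2_c49 LD3_c44)) = (LP (LK LD1_c9 LD2_c17 LD3_c59)) :=
  Lgr Lrot111 (Lpr_af (f578155 IH) (Lpr_cf (f604827 IH) (Lpe (K36.f428107 IH) (Lpn (LP (LK LD1_c9 LD2_c17 LD3_c59))))))
theorem f699228 : Led Lsl_ft (LP (LK LD1_c18 LD2_c23 LD3_c30)) = (LP (LK LD1_c11 LD2_c58 LD3_c40)) :=
  Lgr Lrot142 (Lpr_dt (f387269 IH) (Lpr_ct (f165675 IH) (Lpr_dt (f699227 IH) (Lpe (f699222 IH) (Lpr_dt (f570650 IH) (Lpr_ct (f426685 IH) (Lpr_dt (f575153 IH) (Lpr_ct (f604831 IH) (Lpr_af (K36.f428105 IH) (Lpn (LP (LK LD1_c11 LD2_c58 LD3_c40))))))))))))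
theorem f699229 : Led Lsl_ft (LP (LK LD1_c18 LD2_c23 LD3_c30)) = (LP (LK LD1_c11 LD2_c58 LD3_c40)) :=
  Leop (Lpe (f699228 IH) (Lpn (LP (LK LD1_c18 LD2_c23 LD3_c30))))
theorem seed_644 : LEOK LG_f (LK LD1_c18 LD2_c23 LD3_c30) :=
  Leoe_f (LK LD1_c18 LD2_c23 LD3_c30) (f699229 IH)
def v12908 : LQ := Led Lsl_ft (LP (LK LD1_c4 LD2_c34 LD3_c18))
theorem f699472 : Led Lsl_ft (LP (LK LD1_c4 LD2_c34 LD3_c18)) = v12908 :=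
  Lrfl
def v12905 : LQ := Led Lsl_gt (LP (LK LD1_c4 LD2_c34 LD3_c18))
theorem f699457 : Led Lsl_gt (LP (LK LD1_c4 LD2_c34 LD3_c18)) = v12905 :=
  Lrfl
def v4864 : LQ := Led Lsl_ft (LP (LK LD1_c2 LD2_c51 LD3_c4))
theorem f640633 : Led Lsl_ft (LP (LK LD1_c2 LD2_c51 LD3_c4)) = v4864 :=
  Lrfl
theorem f640634 : Led Lsl_ff (LP (LK LD1_c2 LD2_c51 LD3_c4)) = v4864 :=
  Lgr Lrot3 (Lpr_ft (f640633 IH) (Lpn v4864))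
theorem f699473 : Led Lsl_af v4864 = v12908 :=
  Lgr Lrot45 (Lpe (f640634 IH) (Lpe (K37.f450008 IH) (Lpr_ft (f699472 IH) (Lpn v12908))))
theorem f699476 : Led Lsl_gt v12905 = v4864 :=
  Lgr Lrot46 (Lpe (f699457 IH) (Lpr_ft (f699472 IH) (Lpe (f699473 IH) (Lpn v4864))))
def v12906 : LQ := Led Lsl_gf (LP (LK LD1_c4 LD2_c34 LD3_c18))
theorem f699458 : Led Lsl_gf (LP (LK LD1_c4 LD2_c34 LD3_c18)) = v12906 :=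
  Lrfl
theorem f699459 : Led Lsl_gt v4864 = v12906 :=
  Lgr Lrot5 (Lpe (f640634 IH) (Lpe (K37.f450008 IH) (Lpr_gf (f699458 IH) (Lpn v12906))))
theorem f26800 : Led Lsl_et (LP (LK LD1_c2 LD2_c14 LD3_c4)) = (LP (LK LD1_c4 LD2_c34 LD3_c18)) :=
  Lre_e IH (LK LD1_c2 LD2_c14 LD3_c4) (LK LD1_c4 LD2_c34 LD3_c18) Lrfl Lrfl
theorem f507514 : Led Lsl_at (LP (LK LD1_c2 LD2_c54 LD3_c54)) = (LP (LK LD1_c4 LD2_c36 LD3_c30)) :=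
  Lgr Lrot100 (Lpr_af (K46.f507166 IH) (Lpn (LP (LK LD1_c4 LD2_c36 LD3_c30))))
theorem f507531 : Led Lsl_gt (LP (LK LD1_c5 LD2_c57 LD3_c19)) = (LP (LK LD1_c9 LD2_c9 LD3_c9)) :=
  Lgr Lrot5 (Lpr_ft (K32.f442892 IH) (Lpr_at (f507514 IH) (Lpe (K32.f504734 IH) (Lpn (LP (LK LD1_c9 LD2_c9 LD3_c9))))))
theorem f419056 : Led Lsl_dt (LP (LK LD1_c2 LD2_c57 LD3_c7)) = (LP (LK LD1_c1 LD2_c24 LD3_c18)) :=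
  Lre_d IH (LK LD1_c2 LD2_c57 LD3_c7) (LK LD1_c1 LD2_c24 LD3_c18) Lrfl Lrfl
theorem f419067 : Led Lsl_gt (LP (LK LD1_c6 LD2_c2 LD3_c3)) = (LP (LK LD1_c2 LD2_c57 LD3_c7)) :=
  Lre_g IH (LK LD1_c6 LD2_c2 LD3_c3) (LK LD1_c2 LD2_c57 LD3_c7) Lrfl Lrfl
theorem f507533 : Led Lsl_df (LP (LK LD1_c6 LD2_c2 LD3_c3)) = (LP (LK LD1_c9 LD2_c9 LD3_c9)) :=
  Lgr Lrot153 (Lpr_gt (f419067 IH) (Lpr_dt (f419056 IH) (Lpe (K32.f435293 IH) (Lpe (K32.f416853 IH) (Lpe (K32.f416856 IH) (Lpr_df (K35.f438679 IH) (Lpe (K35.f507139 IH) (Lpe (K32.f442917 IH) (Lpr_gt (f507531 IH) (Lpn (LP (LK LD1_c9 LD2_c9 LD3_c9))))))))))))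
theorem f507536 : Led Lsl_dt (LP (LK LD1_c6 LD2_c2 LD3_c3)) = (LP (LK LD1_c9 LD2_c9 LD3_c9)) :=
  Lgr Lrot42 (Lpr_df (f507533 IH) (Lpn (LP (LK LD1_c9 LD2_c9 LD3_c9))))
theorem f699461 : Led Lsl_et (LP (LK LD1_c6 LD2_c2 LD3_c3)) = v12906 :=
  Lgr Lrot185 (Lpr_dt (f507536 IH) (Lpe (f507531 IH) (Lpr_df (K41.f507150 IH) (Lpe (K41.f26831 IH) (Lpr_ef (K8.f26805 IH) (Lpr_dt (K8.f25927 IH) (Lpe (K11.f26787 IH) (Lpe (K15.f26677 IH) (Lpr_et (f26800 IH) (Lpr_gf (f699458 IH) (Lpn v12906)))))))))))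
theorem f699464 : Led Lsl_ef (LP (LK LD1_c6 LD2_c2 LD3_c3)) = v12906 :=
  Lgr Lrot88 (Lpr_et (f699461 IH) (Lpn v12906))
theorem f639535 : Led Lsl_ff (LP (LK LD1_c3 LD2_c0 LD3_c48)) = (LP (LK LD1_c4 LD2_c49 LD3_c31)) :=
  Lgr Lrot19 (Lpr_dt (K0.f22942 IH) (Lpqs (f639520 IH) (Lpe (f634219 IH) (Lpr_dt (K24.f73939 IH) (Lpn (LP (LK LD1_c4 LD2_c49 LD3_c31)))))))
theorem f639546 : Led Lsl_ft (LP (LK LD1_c3 LD2_c0 LD3_c48)) = (LP (LK LD1_c4 LD2_c49 LD3_c31)) :=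
  Lgr Lrot48 (Lpr_ff (f639535 IH) (Lpn (LP (LK LD1_c4 LD2_c49 LD3_c31))))
def v1779 : LQ := Led Lsl_ft (LP (LK LD1_c1 LD2_c26 LD3_c11))
theorem f502837 : Led Lsl_ft (LP (LK LD1_c1 LD2_c26 LD3_c11)) = v1779 :=
  Lrfl
theorem f502839 : Led Lsl_ff (LP (LK LD1_c1 LD2_c26 LD3_c11)) = v1779 :=
  Lgr Lrot3 (Lpr_ft (f502837 IH) (Lpn v1779))
theorem f504479 : Led Lsl_cf v1779 = K48.v1836 :=
  Lgr Lrot108 (Lpe (f502839 IH) (Lpr_ct (K32.f140089 IH) (Lpr_ft (K48.f504477 IH) (Lpn K48.v1836))))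
theorem f639397 : v1779 = (LP (LK LD1_c2 LD2_c17 LD3_c5)) :=
  Lefun (Lecon (Lfl_cf (f504479 IH)) (K48.f639390 IH).symm) (K29.f445910 IH)
theorem f506744 : Led Lsl_et (LP (LK LD1_c4 LD2_c49 LD3_c31)) = (LP (LK LD1_c9 LD2_c9 LD3_c9)) :=
  Lgr Lrot87 (Lpr_ef (K32.f506739 IH) (Lpn (LP (LK LD1_c9 LD2_c9 LD3_c9))))
theorem f639551 : Led Lsl_ff (LP (LK LD1_c4 LD2_c40 LD3_c8)) = (LP (LK LD1_c9 LD2_c9 LD3_c9)) :=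
  Lgr Lrot72 (Lpr_et (K11.f445892 IH) (Lpq (f639397 IH) (Lpe (f502839 IH) (Lpr_et (K9.f22951 IH) (Lpr_ft (f639546 IH) (Lpr_et (f506744 IH) (Lpn (LP (LK LD1_c9 LD2_c9 LD3_c9)))))))))
theorem f416168 : Led Lsl_gf (LP (LK LD1_c3 LD2_c6 LD3_c8)) = (LP (LK LD1_c2 LD2_c20 LD3_c12)) :=
  Lgr Lrot141 (Lpe (K32.f57613 IH) (Lpr_dt (K32.f57620 IH) (Lpr_gt (K32.f416134 IH) (Lpe (K32.f23838 IH) (Lpr_et (K32.f23866 IH) (Lpr_gt (K24.f22522 IH) (Lpr_dt (K24.f22523 IH) (Lpr_gt (K24.f414548 IH) (Lpr_df (K24.f414552 IH) (Lpr_et (K32.f414554 IH) (Lpn (LP (LK LD1_c2 LD2_c20 LD3_c12)))))))))))))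
theorem f69069 : Led Lsl_dt (LP (LK LD1_c1 LD2_c24 LD3_c18)) = (LP (LK LD1_c2 LD2_c57 LD3_c7)) :=
  Lre_d IH (LK LD1_c1 LD2_c24 LD3_c18) (LK LD1_c2 LD2_c57 LD3_c7) Lrfl Lrfl
theorem f69070 : Led Lsl_gt (LP (LK LD1_c2 LD2_c57 LD3_c7)) = (LP (LK LD1_c6 LD2_c2 LD3_c2)) :=
  Lre_g IH (LK LD1_c2 LD2_c57 LD3_c7) (LK LD1_c6 LD2_c2 LD3_c2) Lrfl Lrfl
theorem f444222 : Led Lsl_dt (LP (LK LD1_c6 LD2_c2 LD3_c2)) = (LP (LK LD1_c3 LD2_c0 LD3_c51)) :=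
  Lgr Lrot105 (Lpe (f69070 IH) (Lpe (f69069 IH) (Lpe (K32.f69068 IH) (Lpr_cf (K11.f68989 IH) (Lpr_gt (K17.f25849 IH) (Lpr_dt (K17.f61682 IH) (Lpr_gt (K17.f61683 IH) (Lpe (K17.f61689 IH) (Lpr_cf (K41.f444206 IH) (Lpn (LP (LK LD1_c3 LD2_c0 LD3_c51))))))))))))
theorem f444232 : Led Lsl_et (LP (LK LD1_c11 LD2_c48 LD3_c41)) = (LP (LK LD1_c6 LD2_c2 LD3_c2)) :=
  Lre_e IH (LK LD1_c11 LD2_c48 LD3_c41) (LK LD1_c6 LD2_c2 LD3_c2) Lrfl Lrfl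
theorem f444233 : Led Lsl_et (LP (LK LD1_c3 LD2_c0 LD3_c51)) = (LP (LK LD1_c1 LD2_c26 LD3_c12)) :=
  Lre_e IH (LK LD1_c3 LD2_c0 LD3_c51) (LK LD1_c1 LD2_c26 LD3_c12) Lrfl Lrfl
theorem f58491 : Led Lsl_dt (LP (LK LD1_c1 LD2_c26 LD3_c12)) = (LP (LK LD1_c3 LD2_c0 LD3_c50)) :=
  Lre_d IH (LK LD1_c1 LD2_c26 LD3_c12) (LK LD1_c3 LD2_c0 LD3_c50) Lrfl Lrfl
theorem f421761 : Led Lsl_et (LP (LK LD1_c3 LD2_c0 LD3_c50)) = (LP (LK LD1_c6 LD2_c9 LD3_c0)) :=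
  Lre_e IH (LK LD1_c3 LD2_c0 LD3_c50) (LK LD1_c6 LD2_c9 LD3_c0) Lrfl Lrfl
theorem f444234 : Led Lsl_df (LP (LK LD1_c11 LD2_c48 LD3_c41)) = (LP (LK LD1_c6 LD2_c9 LD3_c0)) :=
  Lgr Lrot70 (Lpr_et (f444232 IH) (Lpr_dt (f444222 IH) (Lpr_et (f444233 IH) (Lpr_dt (f58491 IH) (Lpr_et (f421761 IH) (Lpn (LP (LK LD1_c6 LD2_c9 LD3_c0))))))))
theorem f444237 : Led Lsl_dt (LP (LK LD1_c11 LD2_c48 LD3_c41)) = (LP (LK LD1_c6 LD2_c9 LD3_c0)) :=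
  Lgr Lrot42 (Lpr_df (f444234 IH) (Lpn (LP (LK LD1_c6 LD2_c9 LD3_c0))))
theorem f183382 : Led Lsl_dt (LP (LK LD1_c2 LD2_c33 LD3_c38)) = (LP (LK LD1_c1 LD2_c13 LD3_c46)) :=
  Lre_d IH (LK LD1_c2 LD2_c33 LD3_c38) (LK LD1_c1 LD2_c13 LD3_c46) Lrfl Lrfl
theorem f186366 : Led Lsl_et (LP (LK LD1_c2 LD2_c33 LD3_c38)) = (LP (LK LD1_c5 LD2_c13 LD3_c33)) :=
  Lre_e IH (LK LD1_c2 LD2_c33 LD3_c38) (LK LD1_c5 LD2_c13 LD3_c33) Lrfl Lrfl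
theorem f421762 : Led Lsl_gf (LP (LK LD1_c6 LD2_c9 LD3_c0)) = (LP (LK LD1_c5 LD2_c13 LD3_c33)) :=
  Lgr Lrot141 (Lpe (f421761 IH) (Lpr_dt (K32.f58492 IH) (Lpr_gt (K32.f58490 IH) (Lpe (K1.f22994 IH) (Lpr_et (K32.f176043 IH) (Lpr_gt (K9.f9094 IH) (Lpe (K9.f177798 IH) (Lpr_gt (K9.f181134 IH) (Lpe (f183382 IH) (Lpr_et (f186366 IH) (Lpn (LP (LK LD1_c5 LD2_c13 LD3_c33)))))))))))))
theorem f185070 : Led Lsl_et (LP (LK LD1_c5 LD2_c13 LD3_c33)) = (LP (LK LD1_c2 LD2_c33 LD3_c38)) :=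
  Lre_e IH (LK LD1_c5 LD2_c13 LD3_c33) (LK LD1_c2 LD2_c33 LD3_c38) Lrfl Lrfl
theorem f186362 : Led Lsl_df (LP (LK LD1_c5 LD2_c13 LD3_c33)) = (LP (LK LD1_c3 LD2_c5 LD3_c28)) :=
  Lgr Lrot70 (Lpr_et (f185070 IH) (Lpr_dt (f183382 IH) (Lpe (K18.f181125 IH) (Lpr_dt (K18.f186349 IH) (Lpr_et (K44.f186356 IH) (Lpn (LP (LK LD1_c3 LD2_c5 LD3_c28))))))))
theorem f186351 : Led Lsl_et (LP (LK LD1_c3 LD2_c5 LD3_c28)) = (LP (LK LD1_c1 LD2_c28 LD3_c44)) :=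
  Lre_e IH (LK LD1_c3 LD2_c5 LD3_c28) (LK LD1_c1 LD2_c28 LD3_c44) Lrfl Lrfl
theorem f444240 : Led Lsl_gt (LP (LK LD1_c6 LD2_c2 LD3_c2)) = (LP (LK LD1_c2 LD2_c57 LD3_c8)) :=
  Lgr Lrot137 (Lpe (f444232 IH) (Lpr_dt (f444237 IH) (Lpr_gf (f421762 IH) (Lpr_df (f186362 IH) (Lpr_et (f186351 IH) (Lpe (K16.f175927 IH) (Lpe (K16.f204661 IH) (Lpr_dt (K16.f69071 IH) (Lpe (K16.f59823 IH) (Lpe (K16.f69111 IH) (Lpn (LP (LK LD1_c2 LD2_c57 LD3_c8)))))))))))))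
theorem f444230 : Led Lsl_df (LP (LK LD1_c6 LD2_c2 LD3_c2)) = (LP (LK LD1_c3 LD2_c0 LD3_c51)) :=
  Lgr Lrot38 (Lpr_dt (f444222 IH) (Lpn (LP (LK LD1_c3 LD2_c0 LD3_c51))))
theorem f504728 : Led Lsl_gt (LP (LK LD1_c4 LD2_c36 LD3_c30)) = (LP (LK LD1_c3 LD2_c0 LD3_c51)) :=
  Lgr Lrot94 (Lpr_cf (K32.f504720 IH) (Lpe (f416168 IH) (Lpr_dt (K24.f57604 IH) (Lpe (K24.f416558 IH) (Lpr_dt (K24.f57142 IH) (Lpr_cf (K17.f415427 IH) (Lpe (K16.f69111 IH) (Lpe (f444240 IH) (Lpr_df (f444230 IH) (Lpn (LP (LK LD1_c3 LD2_c0 LD3_c51))))))))))))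
theorem f639557 : Led Lsl_at (LP (LK LD1_c4 LD2_c40 LD3_c8)) = (LP (LK LD1_c3 LD2_c0 LD3_c51)) :=
  Lgr Lrot26 (Lpr_ff (f639551 IH) (Lpr_gt (K32.f504734 IH) (Lpr_gt (f504728 IH) (Lpn (LP (LK LD1_c3 LD2_c0 LD3_c51))))))
theorem f639563 : Led Lsl_af (LP (LK LD1_c9 LD2_c13 LD3_c8)) = (LP (LK LD1_c6 LD2_c2 LD3_c2)) :=
  Lgr Lrot117 (Lpr_dt (K11.f445898 IH) (Lpr_at (f639557 IH) (Lpe (f444230 IH) (Lpn (LP (LK LD1_c6 LD2_c2 LD3_c2))))))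
theorem f639567 : Led Lsl_ft (LP (LK LD1_c9 LD2_c13 LD3_c9)) = (LP (LK LD1_c6 LD2_c2 LD3_c2)) :=
  Lgr Lrot2 (Lpr_gt (K46.f435369 IH) (Lpr_gt (K11.f59500 IH) (Lpr_af (f639563 IH) (Lpn (LP (LK LD1_c6 LD2_c2 LD3_c2))))))
theorem f639555 : Led Lsl_ft (LP (LK LD1_c9 LD2_c13 LD3_c8)) = (LP (LK LD1_c6 LD2_c2 LD3_c3)) :=
  Lgr Lrot54 (Lpr_df (K11.f445893 IH) (Lpr_ff (f639551 IH) (Lpe (f507536 IH) (Lpn (LP (LK LD1_c6 LD2_c2 LD3_c3))))))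
theorem f639569 : Led Lsl_af (LP (LK LD1_c9 LD2_c13 LD3_c9)) = (LP (LK LD1_c6 LD2_c2 LD3_c3)) :=
  Lgr Lrot45 (Lpr_ft (f639567 IH) (Lpe (f639563 IH) (Lpr_ft (f639555 IH) (Lpn (LP (LK LD1_c6 LD2_c2 LD3_c3))))))
theorem f442906 : Led Lsl_et (LP (LK LD1_c5 LD2_c57 LD3_c18)) = (LP (LK LD1_c3 LD2_c21 LD3_c2)) :=
  Lgr Lrot158 (Lpr_cf (K48.f442896 IH) (Lpe (K11.f79726 IH) (Lpr_cf (K24.f414595 IH) (Lpn (LP (LK LD1_c3 LD2_c21 LD3_c2))))))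
theorem f442909 : Led Lsl_ef (LP (LK LD1_c5 LD2_c57 LD3_c18)) = (LP (LK LD1_c3 LD2_c21 LD3_c2)) :=
  Lgr Lrot88 (Lpr_et (f442906 IH) (Lpn (LP (LK LD1_c3 LD2_c21 LD3_c2))))
theorem f186125 : Led Lsl_et (LP (LK LD1_c3 LD2_c21 LD3_c3)) = (LP (LK LD1_c1 LD2_c36 LD3_c48)) :=
  Lre_e IH (LK LD1_c3 LD2_c21 LD3_c3) (LK LD1_c1 LD2_c36 LD3_c48) Lrfl Lrfl
theorem f186123 : Led Lsl_gt (LP (LK LD1_c5 LD2_c49 LD3_c56)) = (LP (LK LD1_c2 LD2_c51 LD3_c4)) :=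
  Lre_g IH (LK LD1_c5 LD2_c49 LD3_c56) (LK LD1_c2 LD2_c51 LD3_c4) Lrfl Lrfl
theorem f186124 : Led Lsl_et (LP (LK LD1_c1 LD2_c5 LD3_c13)) = (LP (LK LD1_c0 LD2_c44 LD3_c50)) :=
  Lre_e IH (LK LD1_c1 LD2_c5 LD3_c13) (LK LD1_c0 LD2_c44 LD3_c50) Lrfl Lrfl
theorem f186126 : Led Lsl_df (LP (LK LD1_c5 LD2_c49 LD3_c56)) = (LP (LK LD1_c3 LD2_c21 LD3_c3)) :=
  Lgr Lrot170 (Lpr_gt (f186123 IH) (Lpe (K37.f186122 IH) (Lpr_et (K37.f186121 IH) (Lpr_gt (K11.f186109 IH) (Lpr_dt (K11.f176076 IH) (Lpr_gt (K9.f68587 IH) (Lpe (K9.f23946 IH) (Lpr_et (f186124 IH) (Lpr_gt (K17.f140978 IH) (Lpe (f186125 IH) (Lpn (LP (LK LD1_c3 LD2_c21 LD3_c3)))))))))))))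
theorem f186131 : Led Lsl_dt (LP (LK LD1_c5 LD2_c49 LD3_c56)) = (LP (LK LD1_c3 LD2_c21 LD3_c3)) :=
  Lgr Lrot42 (Lpr_df (f186126 IH) (Lpn (LP (LK LD1_c3 LD2_c21 LD3_c3))))
theorem f507524 : Led Lsl_ef (LP (LK LD1_c5 LD2_c49 LD3_c56)) = (LP (LK LD1_c9 LD2_c13 LD3_c9)) :=
  Lgr Lrot73 (Lpr_dt (f186131 IH) (Lpr_et (f186125 IH) (Lpr_dt (K17.f186141 IH) (Lpe (f442909 IH) (Lpr_dt (K46.f507518 IH) (Lpn (LP (LK LD1_c9 LD2_c13 LD3_c9))))))))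
theorem f699465 : Led Lsl_at (LP (LK LD1_c5 LD2_c49 LD3_c56)) = v12906 :=
  Lgr Lrot80 (Lpr_ef (f507524 IH) (Lpr_af (f639569 IH) (Lpr_ef (f699464 IH) (Lpn v12906))))
theorem f699477 : Led Lsl_ft v12905 = (LP (LK LD1_c5 LD2_c49 LD3_c56)) :=
  Lgr Lrot2 (Lpr_gt (f699476 IH) (Lpr_gt (f699459 IH) (Lpe (f699465 IH) (Lpn (LP (LK LD1_c5 LD2_c49 LD3_c56))))))
theorem f699479 : Led Lsl_ff v12905 = (LP (LK LD1_c5 LD2_c49 LD3_c56)) :=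
  Lgr Lrot3 (Lpr_ft (f699477 IH) (Lpn (LP (LK LD1_c5 LD2_c49 LD3_c56))))
theorem f186324 : Led Lsl_gt (LP (LK LD1_c2 LD2_c51 LD3_c4)) = (LP (LK LD1_c5 LD2_c49 LD3_c55)) :=
  Lre_g IH (LK LD1_c2 LD2_c51 LD3_c4) (LK LD1_c5 LD2_c49 LD3_c55) Lrfl Lrfl
theorem f699481 : Led Lsl_at v12905 = (LP (LK LD1_c5 LD2_c49 LD3_c55)) :=
  Lgr Lrot26 (Lpr_ff (f699479 IH) (Lpr_gt (f186123 IH) (Lpr_gt (f186324 IH) (Lpn (LP (LK LD1_c5 LD2_c49 LD3_c55))))))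
theorem f186136 : Led Lsl_ft (LP (LK LD1_c3 LD2_c21 LD3_c3)) = (LP (LK LD1_c6 LD2_c45 LD3_c61)) :=
  Lre_f IH (LK LD1_c3 LD2_c21 LD3_c3) (LK LD1_c6 LD2_c45 LD3_c61) Lrfl Lrfl
theorem f699478 : Led Lsl_df v12905 = (LP (LK LD1_c6 LD2_c45 LD3_c61)) :=
  Lgr Lrot78 (Lpr_ft (f699477 IH) (Lpr_dt (f186131 IH) (Lpr_ft (f186136 IH) (Lpn (LP (LK LD1_c6 LD2_c45 LD3_c61))))))
theorem f639680 : Led Lsl_af (LP (LK LD1_c3 LD2_c21 LD3_c1)) = (LP (LK LD1_c4 LD2_c49 LD3_c30)) :=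
  Lgr Lrot117 (Lpe (K17.f414716 IH) (Lpr_at (f639676 IH) (Lpr_dt (K24.f141063 IH) (Lpn (LP (LK LD1_c4 LD2_c49 LD3_c30))))))
theorem f414731 : Led Lsl_et (LP (LK LD1_c3 LD2_c21 LD3_c1)) = (LP (LK LD1_c6 LD2_c45 LD3_c58)) :=
  Lre_e IH (LK LD1_c3 LD2_c21 LD3_c1) (LK LD1_c6 LD2_c45 LD3_c58) Lrfl Lrfl
theorem f73953 : Led Lsl_et (LP (LK LD1_c9 LD2_c31 LD3_c44)) = (LP (LK LD1_c4 LD2_c49 LD3_c30)) :=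
  Lre_e IH (LK LD1_c9 LD2_c31 LD3_c44) (LK LD1_c4 LD2_c49 LD3_c30) Lrfl Lrfl
theorem f639876 : Led Lsl_at (LP (LK LD1_c6 LD2_c45 LD3_c58)) = (LP (LK LD1_c9 LD2_c31 LD3_c44)) :=
  Lgr Lrot80 (Lpe (f414731 IH) (Lpr_af (f639680 IH) (Lpe (f73953 IH) (Lpn (LP (LK LD1_c9 LD2_c31 LD3_c44))))))
theorem f186140 : Led Lsl_ct (LP (LK LD1_c3 LD2_c21 LD3_c3)) = (LP (LK LD1_c6 LD2_c45 LD3_c58)) :=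
  Lre_c IH (LK LD1_c3 LD2_c21 LD3_c3) (LK LD1_c6 LD2_c45 LD3_c58) Lrfl Lrfl
theorem f639882 : Led Lsl_ct (LP (LK LD1_c9 LD2_c31 LD3_c44)) = (LP (LK LD1_c4 LD2_c49 LD3_c32)) :=
  Lre_c IH (LK LD1_c9 LD2_c31 LD3_c44) (LK LD1_c4 LD2_c49 LD3_c32) Lrfl Lrfl
theorem f639883 : Led Lsl_af (LP (LK LD1_c3 LD2_c21 LD3_c3)) = (LP (LK LD1_c4 LD2_c49 LD3_c32)) :=
  Lgr Lrot68 (Lpr_ct (f186140 IH) (Lpr_at (f639876 IH) (Lpr_ct (f639882 IH) (Lpn (LP (LK LD1_c4 LD2_c49 LD3_c32))))))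
theorem f634218 : Led Lsl_ft (LP (LK LD1_c9 LD2_c31 LD3_c46)) = (LP (LK LD1_c4 LD2_c49 LD3_c32)) :=
  Lre_f IH (LK LD1_c9 LD2_c31 LD3_c46) (LK LD1_c4 LD2_c49 LD3_c32) Lrfl Lrfl
theorem f639888 : Led Lsl_at (LP (LK LD1_c6 LD2_c45 LD3_c61)) = (LP (LK LD1_c9 LD2_c31 LD3_c46)) :=
  Lgr Lrot66 (Lpe (f186136 IH) (Lpr_af (f639883 IH) (Lpe (f634218 IH) (Lpn (LP (LK LD1_c9 LD2_c31 LD3_c46))))))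
theorem f639892 : Led Lsl_af (LP (LK LD1_c6 LD2_c45 LD3_c61)) = (LP (LK LD1_c9 LD2_c31 LD3_c46)) :=
  Lgr Lrot0 (Lpr_at (f639888 IH) (Lpn (LP (LK LD1_c9 LD2_c31 LD3_c46))))
theorem f699484 : Led Lsl_df (LP (LK LD1_c9 LD2_c31 LD3_c46)) = (LP (LK LD1_c5 LD2_c49 LD3_c55)) :=
  Lgr Lrot18 (Lpe (f639892 IH) (Lpe (f699478 IH) (Lpr_at (f699481 IH) (Lpn (LP (LK LD1_c5 LD2_c49 LD3_c55))))))
theorem f699485 : Led Lsl_dt (LP (LK LD1_c5 LD2_c49 LD3_c55)) = (LP (LK LD1_c9 LD2_c31 LD3_c46)) :=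
  Leop (Lpr_df (f699484 IH) (Lpn (LP (LK LD1_c5 LD2_c49 LD3_c55))))
theorem seed_645 : LEOK LG_d (LK LD1_c5 LD2_c49 LD3_c55) :=
  Leoe_d (LK LD1_c5 LD2_c49 LD3_c55) (f699485 IH)
theorem f421674 : Led Lsl_dt (LP (LK LD1_c6 LD2_c3 LD3_c29)) = (LP (LK LD1_c4 LD2_c34 LD3_c18)) :=
  Lre_d IH (LK LD1_c6 LD2_c3 LD3_c29) (LK LD1_c4 LD2_c34 LD3_c18) Lrfl Lrfl
theorem f421673 : Led Lsl_et (LP (LK LD1_c6 LD2_c3 LD3_c29)) = (LP (LK LD1_c2 LD2_c57 LD3_c52)) :=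
  Lre_e IH (LK LD1_c6 LD2_c3 LD3_c29) (LK LD1_c2 LD2_c57 LD3_c52) Lrfl Lrfl
theorem f175321 : Led Lsl_et (LP (LK LD1_c4 LD2_c5 LD3_c42)) = (LP (LK LD1_c2 LD2_c0 LD3_c7)) :=
  Lre_e IH (LK LD1_c4 LD2_c5 LD3_c42) (LK LD1_c2 LD2_c0 LD3_c7) Lrfl Lrfl
theorem f175329 : Led Lsl_dt (LP (LK LD1_c2 LD2_c57 LD3_c55)) = (LP (LK LD1_c4 LD2_c5 LD3_c42)) :=
  Lgr Lrot77 (Lpe (K36.f175328 IH) (Lpe (K10.f26783 IH) (Lpr_ef (K9.f175319 IH) (Lpe (K9.f55907 IH) (Lpe (f175321 IH) (Lpn (LP (LK LD1_c4 LD2_c5 LD3_c42))))))))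
theorem f175348 : Led Lsl_gt (LP (LK LD1_c8 LD2_c12 LD3_c9)) = (LP (LK LD1_c4 LD2_c5 LD3_c42)) :=
  Lre_g IH (LK LD1_c8 LD2_c12 LD3_c9) (LK LD1_c4 LD2_c5 LD3_c42) Lrfl Lrfl
theorem f175464 : Led Lsl_et (LP (LK LD1_c4 LD2_c49 LD3_c35)) = (LP (LK LD1_c2 LD2_c22 LD3_c33)) :=
  Lre_e IH (LK LD1_c4 LD2_c49 LD3_c35) (LK LD1_c2 LD2_c22 LD3_c33) Lrfl Lrfl
theorem f634213 : Led Lsl_ft (LP (LK LD1_c9 LD2_c31 LD3_c52)) = (LP (LK LD1_c4 LD2_c49 LD3_c35)) :=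
  Lre_f IH (LK LD1_c9 LD2_c31 LD3_c52) (LK LD1_c4 LD2_c49 LD3_c35) Lrfl Lrfl
theorem f186133 : Led Lsl_et (LP (LK LD1_c1 LD2_c36 LD3_c48)) = (LP (LK LD1_c3 LD2_c21 LD3_c3)) :=
  Lre_e IH (LK LD1_c1 LD2_c36 LD3_c48) (LK LD1_c3 LD2_c21 LD3_c3) Lrfl Lrfl
theorem f639937 : Led Lsl_ef (LP (LK LD1_c9 LD2_c31 LD3_c52)) = (LP (LK LD1_c6 LD2_c45 LD3_c61)) :=
  Lgr Lrot21 (Lpr_ft (f634213 IH) (Lpr_et (f175464 IH) (Lpq (f639519 IH) (Lpe (f509457 IH) (Lpr_et (f186133 IH) (Lpr_ft (f186136 IH) (Lpn (LP (LK LD1_c6 LD2_c45 LD3_c61)))))))))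
theorem f639941 : Led Lsl_et (LP (LK LD1_c9 LD2_c31 LD3_c52)) = (LP (LK LD1_c6 LD2_c45 LD3_c61)) :=
  Lgr Lrot87 (Lpr_ef (f639937 IH) (Lpn (LP (LK LD1_c6 LD2_c45 LD3_c61))))
theorem f23080 : Led Lsl_et (LP (LK LD1_c3 LD2_c21 LD3_c6)) = (LP (LK LD1_c1 LD2_c36 LD3_c49)) :=
  Lre_e IH (LK LD1_c3 LD2_c21 LD3_c6) (LK LD1_c1 LD2_c36 LD3_c49) Lrfl Lrfl
theorem f509452 : Led Lsl_ft (LP (LK LD1_c6 LD2_c46 LD3_c6)) = (LP (LK LD1_c3 LD2_c21 LD3_c6)) :=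
  Lre_f IH (LK LD1_c6 LD2_c46 LD3_c6) (LK LD1_c3 LD2_c21 LD3_c6) Lrfl Lrfl
theorem f180329 : Led Lsl_et (LP (LK LD1_c2 LD2_c22 LD3_c32)) = (LP (LK LD1_c4 LD2_c49 LD3_c32)) :=
  Lre_e IH (LK LD1_c2 LD2_c22 LD3_c32) (LK LD1_c4 LD2_c49 LD3_c32) Lrfl Lrfl
theorem f634221 : Led Lsl_ft (LP (LK LD1_c4 LD2_c49 LD3_c32)) = (LP (LK LD1_c9 LD2_c31 LD3_c46)) :=
  Lre_f IH (LK LD1_c4 LD2_c49 LD3_c32) (LK LD1_c9 LD2_c31 LD3_c46) Lrfl Lrfl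
theorem f639537 : Led Lsl_ef (LP (LK LD1_c6 LD2_c46 LD3_c6)) = (LP (LK LD1_c9 LD2_c31 LD3_c46)) :=
  Lgr Lrot21 (Lpr_ft (f509452 IH) (Lpr_et (f23080 IH) (Lpqs (f639520 IH) (Lpe (f634219 IH) (Lpr_et (f180329 IH) (Lpr_ft (f634221 IH) (Lpn (LP (LK LD1_c9 LD2_c31 LD3_c46)))))))))
theorem f639943 : Led Lsl_af (LP (LK LD1_c9 LD2_c31 LD3_c52)) = (LP (LK LD1_c6 LD2_c46 LD3_c6)) :=
  Lgr Lrot50 (Lpr_et (f639941 IH) (Lpr_at (f639888 IH) (Lpe (f639537 IH) (Lpn (LP (LK LD1_c6 LD2_c46 LD3_c6))))))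
theorem f509454 : Led Lsl_ft (LP (LK LD1_c3 LD2_c21 LD3_c6)) = (LP (LK LD1_c6 LD2_c46 LD3_c6)) :=
  Lre_f IH (LK LD1_c3 LD2_c21 LD3_c6) (LK LD1_c6 LD2_c46 LD3_c6) Lrfl Lrfl
theorem f639945 : Led Lsl_at (LP (LK LD1_c4 LD2_c49 LD3_c35)) = (LP (LK LD1_c3 LD2_c21 LD3_c6)) :=
  Lgr Lrot66 (Lpe (f634213 IH) (Lpr_af (f639943 IH) (Lpe (f509454 IH) (Lpn (LP (LK LD1_c3 LD2_c21 LD3_c6))))))
theorem f23090 : Led Lsl_gt (LP (LK LD1_c6 LD2_c46 LD3_c5)) = (LP (LK LD1_c3 LD2_c21 LD3_c6)) :=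
  Lre_g IH (LK LD1_c6 LD2_c46 LD3_c5) (LK LD1_c3 LD2_c21 LD3_c6) Lrfl Lrfl
theorem f639954 : Led Lsl_gt (LP (LK LD1_c9 LD2_c31 LD3_c52)) = (LP (LK LD1_c6 LD2_c46 LD3_c5)) :=
  Lgr Lrot5 (Lpr_ft (f634213 IH) (Lpr_at (f639945 IH) (Lpe (f23090 IH) (Lpn (LP (LK LD1_c6 LD2_c46 LD3_c5))))))
theorem f699503 : Led Lsl_df (LP (LK LD1_c8 LD2_c12 LD3_c9)) = (LP (LK LD1_c6 LD2_c46 LD3_c5)) :=
  Lgr Lrot135 (Lpr_gt (f175348 IH) (Lpe (f175329 IH) (Lpr_et (K36.f175338 IH) (Lpr_gt (K11.f26784 IH) (Lpe (f421673 IH) (Lpr_dt (f421674 IH) (Lpr_gt (f699457 IH) (Lpr_df (f699478 IH) (Lpe (f639937 IH) (Lpr_gt (f639954 IH) (Lpn (LP (LK LD1_c6 LD2_c46 LD3_c5)))))))))))))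
theorem f699504 : Led Lsl_dt (LP (LK LD1_c6 LD2_c46 LD3_c5)) = (LP (LK LD1_c8 LD2_c12 LD3_c9)) :=
  Leop (Lpr_df (f699503 IH) (Lpn (LP (LK LD1_c6 LD2_c46 LD3_c5))))
theorem seed_646 : LEOK LG_d (LK LD1_c6 LD2_c46 LD3_c5) :=
  Leoe_d (LK LD1_c6 LD2_c46 LD3_c5) (f699504 IH)
def v12909 : LQ := Led Lsl_gf (LP (LK LD1_c4 LD2_c34 LD3_c26))
theorem f699523 : Led Lsl_gf (LP (LK LD1_c4 LD2_c34 LD3_c26)) = v12909 :=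
  Lrfl
theorem f437251 : Led Lsl_ft (LP (LK LD1_c4 LD2_c34 LD3_c26)) = (LP (LK LD1_c9 LD2_c5 LD3_c52)) :=
  Lre_f IH (LK LD1_c4 LD2_c34 LD3_c26) (LK LD1_c9 LD2_c5 LD3_c52) Lrfl Lrfl
theorem f615488 : Led Lsl_df (LP (LK LD1_c4 LD2_c34 LD3_c26)) = (LP (LK LD1_c2 LD2_c14 LD3_c15)) :=
  Lgr Lrot78 (Lpr_ft (f437251 IH) (Lpr_dt (K48.f615482 IH) (Lpr_ft (K6.f146454 IH) (Lpn (LP (LK LD1_c2 LD2_c14 LD3_c15))))))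
theorem f22325 : Led Lsl_gt (LP (LK LD1_c2 LD2_c51 LD3_c49)) = (LP (LK LD1_c5 LD2_c51 LD3_c4)) :=
  Lre_g IH (LK LD1_c2 LD2_c51 LD3_c49) (LK LD1_c5 LD2_c51 LD3_c4) Lrfl Lrfl
theorem f22366 : Led Lsl_et (LP (LK LD1_c11 LD2_c29 LD3_c39)) = (LP (LK LD1_c5 LD2_c51 LD3_c4)) :=
  Lre_e IH (LK LD1_c11 LD2_c29 LD3_c39) (LK LD1_c5 LD2_c51 LD3_c4) Lrfl Lrfl
theorem f699526 : Led Lsl_dt (LP (LK LD1_c11 LD2_c29 LD3_c39)) = v12909 :=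
  Lgr Lrot136 (Lpr_et (f22366 IH) (Lpe (f22325 IH) (Lpe (K8.f22336 IH) (Lpr_dt (K8.f8375 IH) (Lpe (K8.f151796 IH) (Lpe (K8.f109940 IH) (Lpe (K3.f92248 IH) (Lpe (K6.f109947 IH) (Lpe (f615488 IH) (Lpr_gf (f699523 IH) (Lpn v12909)))))))))))
theorem f699527 : Led Lsl_df (LP (LK LD1_c11 LD2_c29 LD3_c39)) = v12909 :=
  Lgr Lrot38 (Lpr_dt (f699526 IH) (Lpn v12909))
def v1570 : LQ := Led Lsl_at (LP (LK LD1_c1 LD2_c21 LD3_c45))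
theorem f500005 : Led Lsl_at (LP (LK LD1_c1 LD2_c21 LD3_c45)) = v1570 :=
  Lrfl
theorem f79864 : Led Lsl_bt (LP (LK LD1_c2 LD2_c14 LD3_c15)) = (LP (LK LD1_c1 LD2_c4 LD3_c11)) :=
  Lre_b IH (LK LD1_c2 LD2_c14 LD3_c15) (LK LD1_c1 LD2_c4 LD3_c11) Lrfl Lrfl
theorem f438772 : Led Lsl_at (LP (LK LD1_c4 LD2_c34 LD3_c26)) = (LP (LK LD1_c2 LD2_c14 LD3_c15)) :=
  Lre_a IH (LK LD1_c4 LD2_c34 LD3_c26) (LK LD1_c2 LD2_c14 LD3_c15) Lrfl Lrfl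
theorem f500007 : Led Lsl_bf (LP (LK LD1_c4 LD2_c34 LD3_c26)) = v1570 :=
  Lgr Lrot81 (Lpr_at (f438772 IH) (Lpr_bt (f79864 IH) (Lpr_at (K31.f135649 IH) (Lpr_bt (K45.f139894 IH) (Lpr_at (f500005 IH) (Lpn v1570))))))
theorem f452691 : Led Lsl_af (LP (LK LD1_c0 LD2_c37 LD3_c49)) = K38.v408 :=
  Lgr Lrot0 (Lpr_at (K38.f452690 IH) (Lpn K38.v408))
theorem f500008 : Led Lsl_ef K38.v408 = v1570 :=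
  Lgr Lrot20 (Lpe (f452691 IH) (Lpr_et (K35.f143140 IH) (Lpr_at (f500005 IH) (Lpn v1570))))
theorem f500010 : Led Lsl_et K38.v408 = v1570 :=
  Lgr Lrot87 (Lpr_ef (f500008 IH) (Lpn v1570))
theorem f537599 : v1570 = (LP (LK LD1_c2 LD2_c14 LD3_c16)) :=
  Lefun (Lecon (f500010 IH) (K38.f537243 IH)) (K45.f205149 IH)
theorem f79852 : Led Lsl_ct (LP (LK LD1_c2 LD2_c14 LD3_c16)) = (LP (LK LD1_c4 LD2_c34 LD3_c38)) :=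
  Lre_c IH (LK LD1_c2 LD2_c14 LD3_c16) (LK LD1_c4 LD2_c34 LD3_c38) Lrfl Lrfl
theorem f204216 : Led Lsl_ct (LP (LK LD1_c6 LD2_c2 LD3_c16)) = (LP (LK LD1_c11 LD2_c48 LD3_c53)) :=
  Lre_c IH (LK LD1_c6 LD2_c2 LD3_c16) (LK LD1_c11 LD2_c48 LD3_c53) Lrfl Lrfl
theorem f204234 : Led Lsl_gt (LP (LK LD1_c11 LD2_c48 LD3_c53)) = (LP (LK LD1_c6 LD2_c2 LD3_c24)) :=
  Lre_g IH (LK LD1_c11 LD2_c48 LD3_c53) (LK LD1_c6 LD2_c2 LD3_c24) Lrfl Lrfl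
theorem f204235 : Led Lsl_ct (LP (LK LD1_c11 LD2_c49 LD3_c9)) = (LP (LK LD1_c6 LD2_c2 LD3_c24)) :=
  Lre_c IH (LK LD1_c11 LD2_c49 LD3_c9) (LK LD1_c6 LD2_c2 LD3_c24) Lrfl Lrfl
theorem f699525 : Led Lsl_bt (LP (LK LD1_c11 LD2_c49 LD3_c9)) = v12909 :=
  Lgr Lrot22 (Lpr_ct (f204235 IH) (Lpe (f204234 IH) (Lpe (f204216 IH) (Lpe (K45.f117000 IH) (Lpr_bf (K42.f614581 IH) (Lpr_ct (K41.f614578 IH) (Lpe (K41.f614575 IH) (Lpe (f79852 IH) (Lpq (f537599 IH) (Lpe (f500007 IH) (Lpr_gf (f699523 IH) (Lpn v12909))))))))))))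
theorem f502740 : Led Lsl_ct (LP (LK LD1_c2 LD2_c56 LD3_c26)) = (LP (LK LD1_c6 LD2_c0 LD3_c17)) :=
  Lre_c IH (LK LD1_c2 LD2_c56 LD3_c26) (LK LD1_c6 LD2_c0 LD3_c17) Lrfl Lrfl
theorem f204260 : Led Lsl_bt (LP (LK LD1_c1 LD2_c24 LD3_c24)) = (LP (LK LD1_c0 LD2_c38 LD3_c56)) :=
  Lre_b IH (LK LD1_c1 LD2_c24 LD3_c24) (LK LD1_c0 LD2_c38 LD3_c56) Lrfl Lrfl
theorem f204536 : Led Lsl_ct (LP (LK LD1_c1 LD2_c24 LD3_c24)) = (LP (LK LD1_c2 LD2_c57 LD3_c17)) :=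
  Lre_c IH (LK LD1_c1 LD2_c24 LD3_c24) (LK LD1_c2 LD2_c57 LD3_c17) Lrfl Lrfl
theorem f119643 : Led Lsl_gt (LP (LK LD1_c6 LD2_c2 LD3_c24)) = (LP (LK LD1_c2 LD2_c57 LD3_c17)) :=
  Lre_g IH (LK LD1_c6 LD2_c2 LD3_c24) (LK LD1_c2 LD2_c57 LD3_c17) Lrfl Lrfl
theorem f112890 : Led Lsl_ct (LP (LK LD1_c9 LD2_c48 LD3_c53)) = (LP (LK LD1_c4 LD2_c59 LD3_c14)) :=
  Lre_c IH (LK LD1_c9 LD2_c48 LD3_c53) (LK LD1_c4 LD2_c59 LD3_c14) Lrfl Lrfl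
theorem f615169 : Led Lsl_ft (LP (LK LD1_c12 LD2_c17 LD3_c3)) = (LP (LK LD1_c9 LD2_c48 LD3_c53)) :=
  Lgr Lrot4 (Lpe (K42.f443700 IH) (Lpr_ff (K42.f615165 IH) (Lpe (f112890 IH) (Lpn (LP (LK LD1_c9 LD2_c48 LD3_c53))))))
theorem f615274 : Led Lsl_gt (LP (LK LD1_c12 LD2_c17 LD3_c3)) = (LP (LK LD1_c9 LD2_c49 LD3_c35)) :=
  Lgr Lrot5 (Lpr_ft (f615169 IH) (Lpr_at (K42.f499395 IH) (Lpe (K46.f203119 IH) (Lpn (LP (LK LD1_c9 LD2_c49 LD3_c35))))))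
theorem f615197 : Led Lsl_af (LP (LK LD1_c12 LD2_c17 LD3_c3)) = (LP (LK LD1_c9 LD2_c49 LD3_c37)) :=
  Lgr Lrot0 (Lpr_at (K42.f615186 IH) (Lpn (LP (LK LD1_c9 LD2_c49 LD3_c37))))
theorem f497166 : Led Lsl_ft (LP (LK LD1_c4 LD2_c59 LD3_c35)) = (LP (LK LD1_c9 LD2_c49 LD3_c37)) :=
  Lre_f IH (LK LD1_c4 LD2_c59 LD3_c35) (LK LD1_c9 LD2_c49 LD3_c37) Lrfl Lrfl
theorem f150362 : Led Lsl_gt (LP (LK LD1_c4 LD2_c59 LD3_c35)) = (LP (LK LD1_c9 LD2_c49 LD3_c34)) :=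
  Lre_g IH (LK LD1_c4 LD2_c59 LD3_c35) (LK LD1_c9 LD2_c49 LD3_c34) Lrfl Lrfl
theorem f615267 : Led Lsl_gf (LP (LK LD1_c12 LD2_c17 LD3_c3)) = (LP (LK LD1_c9 LD2_c49 LD3_c34)) :=
  Lgr Lrot76 (Lpr_af (f615197 IH) (Lpe (f497166 IH) (Lpr_gt (f150362 IH) (Lpn (LP (LK LD1_c9 LD2_c49 LD3_c34))))))
theorem f643465 : Led Lsl_ff (LP (LK LD1_c17 LD2_c8 LD3_c0)) = (LP (LK LD1_c9 LD2_c49 LD3_c34)) :=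
  Lgr Lrot52 (Lpr_at (K46.f643461 IH) (Lpe (f615274 IH) (Lpr_gf (f615267 IH) (Lpn (LP (LK LD1_c9 LD2_c49 LD3_c34))))))
theorem f643480 : Led Lsl_cf (LP (LK LD1_c9 LD2_c49 LD3_c34)) = (LP (LK LD1_c6 LD2_c0 LD3_c23)) :=
  Lgr Lrot108 (Lpe (f643465 IH) (Lpr_ct (K46.f419095 IH) (Lpr_ft (K46.f643476 IH) (Lpn (LP (LK LD1_c6 LD2_c0 LD3_c23))))))
theorem f615147 : Led Lsl_ct (LP (LK LD1_c12 LD2_c17 LD3_c3)) = (LP (LK LD1_c6 LD2_c21 LD3_c36)) :=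
  Lre_c IH (LK LD1_c12 LD2_c17 LD3_c3) (LK LD1_c6 LD2_c21 LD3_c36) Lrfl Lrfl
theorem f615248 : Led Lsl_cf (LP (LK LD1_c12 LD2_c17 LD3_c4)) = (LP (LK LD1_c9 LD2_c25 LD3_c53)) :=
  Lgr Lrot1 (Lpr_at (K42.f615201 IH) (Lpe (K42.f570797 IH) (Lpe (K42.f497066 IH) (Lpn (LP (LK LD1_c9 LD2_c25 LD3_c53))))))
def v5043 : LQ := Led Lsl_gt (LP (LK LD1_c2 LD2_c56 LD3_c37))
theorem f641460 : Led Lsl_gt (LP (LK LD1_c2 LD2_c56 LD3_c37)) = v5043 :=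
  Lrfl
theorem f641461 : Led Lsl_gf (LP (LK LD1_c9 LD2_c25 LD3_c53)) = v5043 :=
  Lgr Lrot76 (Lpr_af (K42.f497066 IH) (Lpe (K42.f497065 IH) (Lpr_gt (f641460 IH) (Lpn v5043))))
theorem f75032 : Led Lsl_dt (LP (LK LD1_c1 LD2_c24 LD3_c4)) = (LP (LK LD1_c2 LD2_c56 LD3_c28)) :=
  Lre_d IH (LK LD1_c1 LD2_c24 LD3_c4) (LK LD1_c2 LD2_c56 LD3_c28) Lrfl Lrfl
theorem f644200 : v5043 = (LP (LK LD1_c6 LD2_c0 LD3_c17)) :=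
  (Llr Lrot104 (Lpe (f641461 IH) (Lpe (f615248 IH) (Lpe (K42.f438668 IH) (Lpe (f615147 IH) (Lpr_gf (f615267 IH) (Lpr_cf (f643480 IH) (Lpe (K46.f75033 IH) (Lpe (f75032 IH) (Lpr_gt (K45.f75065 IH) (Lpr_ct (f502740 IH) (Lpn (LP (LK LD1_c6 LD2_c0 LD3_c17)))))))))))))).symm
theorem f615101 : Led Lsl_bt (LP (LK LD1_c9 LD2_c49 LD3_c28)) = (LP (LK LD1_c4 LD2_c59 LD3_c38)) :=
  Lre_b IH (LK LD1_c9 LD2_c49 LD3_c28) (LK LD1_c4 LD2_c59 LD3_c38) Lrfl Lrfl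
theorem f61087 : Led Lsl_gt (LP (LK LD1_c2 LD2_c16 LD3_c26)) = (LP (LK LD1_c4 LD2_c38 LD3_c49)) :=
  Lre_g IH (LK LD1_c2 LD2_c16 LD3_c26) (LK LD1_c4 LD2_c38 LD3_c49) Lrfl Lrfl
theorem f443756 : Led Lsl_ct (LP (LK LD1_c4 LD2_c38 LD3_c49)) = (LP (LK LD1_c9 LD2_c13 LD3_c26)) :=
  Lre_c IH (LK LD1_c4 LD2_c38 LD3_c49) (LK LD1_c9 LD2_c13 LD3_c26) Lrfl Lrfl
theorem f443757 : Led Lsl_gt (LP (LK LD1_c9 LD2_c13 LD3_c26)) = (LP (LK LD1_c17 LD2_c7 LD3_c51)) :=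
  Lre_g IH (LK LD1_c9 LD2_c13 LD3_c26) (LK LD1_c17 LD2_c7 LD3_c51) Lrfl Lrfl
theorem f644121 : Led Lsl_ct (LP (LK LD1_c9 LD2_c49 LD3_c28)) = (LP (LK LD1_c17 LD2_c7 LD3_c51)) :=
  Lgr Lrot63 (Lpr_bt (f615101 IH) (Lpqs (K46.f643529 IH) (Lpe (K46.f640675 IH) (Lpe (K35.f500032 IH) (Lpq (K31.f500029 IH) (Lpe (K31.f494707 IH) (Lpr_gt (K31.f59488 IH) (Lpr_cf (K8.f60960 IH) (Lpr_bt (K8.f61064 IH) (Lpr_gt (f61087 IH) (Lpr_ct (f443756 IH) (Lpr_gt (f443757 IH) (Lpn (LP (LK LD1_c17 LD2_c7 LD3_c51)))))))))))))))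
theorem f499832 : Led Lsl_ft (LP (LK LD1_c4 LD2_c59 LD3_c32)) = (LP (LK LD1_c9 LD2_c49 LD3_c28)) :=
  Lre_f IH (LK LD1_c4 LD2_c59 LD3_c32) (LK LD1_c9 LD2_c49 LD3_c28) Lrfl Lrfl
theorem f570806 : Led Lsl_ct (LP (LK LD1_c9 LD2_c49 LD3_c26)) = (LP (LK LD1_c4 LD2_c59 LD3_c32)) :=
  Lre_c IH (LK LD1_c9 LD2_c49 LD3_c26) (LK LD1_c4 LD2_c59 LD3_c32) Lrfl Lrfl
theorem f644141 : Led Lsl_ff (LP (LK LD1_c9 LD2_c49 LD3_c26)) = (LP (LK LD1_c17 LD2_c7 LD3_c51)) :=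
  Lgr Lrot23 (Lpr_ct (f570806 IH) (Lpr_ft (f499832 IH) (Lpr_ct (f644121 IH) (Lpn (LP (LK LD1_c17 LD2_c7 LD3_c51))))))
theorem f499102 : Led Lsl_ct (LP (LK LD1_c6 LD2_c38 LD3_c61)) = (LP (LK LD1_c12 LD2_c43 LD3_c30)) :=
  Lre_c IH (LK LD1_c6 LD2_c38 LD3_c61) (LK LD1_c12 LD2_c43 LD3_c30) Lrfl Lrfl
theorem f615144 : Led Lsl_af (LP (LK LD1_c12 LD2_c17 LD3_c2)) = (LP (LK LD1_c12 LD2_c43 LD3_c30)) :=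
  Lgr Lrot68 (Lpr_ct (K42.f615142 IH) (Lpr_at (K49.f499239 IH) (Lpr_ct (f499102 IH) (Lpn (LP (LK LD1_c12 LD2_c43 LD3_c30))))))
theorem f132531 : Led Lsl_gt (LP (LK LD1_c6 LD2_c38 LD3_c55)) = (LP (LK LD1_c12 LD2_c43 LD3_c29)) :=
  Lre_g IH (LK LD1_c6 LD2_c38 LD3_c55) (LK LD1_c12 LD2_c43 LD3_c29) Lrfl Lrfl
theorem f615276 : Led Lsl_gf (LP (LK LD1_c12 LD2_c17 LD3_c2)) = (LP (LK LD1_c12 LD2_c43 LD3_c29)) :=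
  Lgr Lrot76 (Lpr_af (f615144 IH) (Lpe (K49.f499099 IH) (Lpr_gt (f132531 IH) (Lpn (LP (LK LD1_c12 LD2_c43 LD3_c29))))))
theorem f64557 : Led Lsl_gt (LP (LK LD1_c2 LD2_c57 LD3_c17)) = (LP (LK LD1_c6 LD2_c2 LD3_c23)) :=
  Lre_g IH (LK LD1_c2 LD2_c57 LD3_c17) (LK LD1_c6 LD2_c2 LD3_c23) Lrfl Lrfl
theorem f204239 : Led Lsl_ct (LP (LK LD1_c11 LD2_c49 LD3_c7)) = (LP (LK LD1_c6 LD2_c2 LD3_c23)) :=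
  Lre_c IH (LK LD1_c11 LD2_c49 LD3_c7) (LK LD1_c6 LD2_c2 LD3_c23) Lrfl Lrfl
theorem f615278 : Led Lsl_bt (LP (LK LD1_c11 LD2_c49 LD3_c7)) = (LP (LK LD1_c12 LD2_c43 LD3_c29)) :=
  Lgr Lrot130 (Lpr_ct (f204239 IH) (Lpe (f64557 IH) (Lpe (f204536 IH) (Lpr_bt (f204260 IH) (Lpe (K29.f68641 IH) (Lpe (K42.f435531 IH) (Lpr_ct (K42.f435532 IH) (Lpr_gf (K42.f615071 IH) (Lpe (K42.f615142 IH) (Lpr_gf (f615276 IH) (Lpn (LP (LK LD1_c12 LD2_c43 LD3_c29)))))))))))))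
theorem f204238 : Led Lsl_gt (LP (LK LD1_c6 LD2_c2 LD3_c23)) = (LP (LK LD1_c11 LD2_c48 LD3_c53)) :=
  Lre_g IH (LK LD1_c6 LD2_c2 LD3_c23) (LK LD1_c11 LD2_c48 LD3_c53) Lrfl Lrfl
theorem f204232 : Led Lsl_gt (LP (LK LD1_c9 LD2_c13 LD3_c19)) = (LP (LK LD1_c4 LD2_c38 LD3_c50)) :=
  Lre_g IH (LK LD1_c9 LD2_c13 LD3_c19) (LK LD1_c4 LD2_c38 LD3_c50) Lrfl Lrfl
theorem f204241 : Led Lsl_ct (LP (LK LD1_c4 LD2_c38 LD3_c50)) = (LP (LK LD1_c9 LD2_c13 LD3_c30)) :=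
  Lre_c IH (LK LD1_c4 LD2_c38 LD3_c50) (LK LD1_c9 LD2_c13 LD3_c30) Lrfl Lrfl
theorem f570820 : Led Lsl_ct (LP (LK LD1_c8 LD2_c0 LD3_c36)) = (LP (LK LD1_c15 LD2_c5 LD3_c15)) :=
  Lre_c IH (LK LD1_c8 LD2_c0 LD3_c36) (LK LD1_c15 LD2_c5 LD3_c15) Lrfl Lrfl
theorem f615288 : Led Lsl_gt (LP (LK LD1_c9 LD2_c13 LD3_c30)) = (LP (LK LD1_c15 LD2_c5 LD3_c15)) :=
  Lgr Lrot149 (Lpe (f204241 IH) (Lpe (f204232 IH) (Lpe (K11.f204214 IH) (Lpr_ct (f204216 IH) (Lpe (f204238 IH) (Lpe (f204239 IH) (Lpr_bt (f615278 IH) (Lpe (f132531 IH) (Lpe (K49.f570829 IH) (Lpr_ct (f570820 IH) (Lpn (LP (LK LD1_c15 LD2_c5 LD3_c15)))))))))))))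
theorem f644145 : Led Lsl_gf (LP (LK LD1_c9 LD2_c13 LD3_c30)) = (LP (LK LD1_c17 LD2_c7 LD3_c51)) :=
  Lgr Lrot47 (Lpr_gt (f615288 IH) (Lpr_af (K49.f570813 IH) (Lpr_ff (f644141 IH) (Lpn (LP (LK LD1_c17 LD2_c7 LD3_c51))))))
theorem f615290 : Led Lsl_bt (LP (LK LD1_c4 LD2_c38 LD3_c50)) = (LP (LK LD1_c9 LD2_c13 LD3_c29)) :=
  Lre_b IH (LK LD1_c4 LD2_c38 LD3_c50) (LK LD1_c9 LD2_c13 LD3_c29) Lrfl Lrfl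
theorem f644147 : Led Lsl_gt (LP (LK LD1_c9 LD2_c13 LD3_c29)) = (LP (LK LD1_c4 LD2_c38 LD3_c51)) :=
  Lgr Lrot82 (Lpe (f615290 IH) (Lpr_ct (f204241 IH) (Lpr_gf (f644145 IH) (Lpe (f644121 IH) (Lpr_bt (f615101 IH) (Lpqs (K46.f643529 IH) (Lpe (K46.f640676 IH) (Lpe (K35.f505036 IH) (Lpr_ct (K45.f505045 IH) (Lpr_gf (K46.f614587 IH) (Lpr_cf (K40.f557992 IH) (Lpn (LP (LK LD1_c4 LD2_c38 LD3_c51))))))))))))))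
theorem f557963 : Led Lsl_at (LP (LK LD1_c3 LD2_c20 LD3_c17)) = (LP (LK LD1_c4 LD2_c38 LD3_c51)) :=
  Lgr Lrot100 (Lpr_af (K40.f557958 IH) (Lpn (LP (LK LD1_c4 LD2_c38 LD3_c51))))
theorem f209302 : Led Lsl_ft (LP (LK LD1_c6 LD2_c44 LD3_c18)) = (LP (LK LD1_c3 LD2_c20 LD3_c17)) :=
  Lre_f IH (LK LD1_c6 LD2_c44 LD3_c18) (LK LD1_c3 LD2_c20 LD3_c17) Lrfl Lrfl
theorem f644149 : Led Lsl_gf (LP (LK LD1_c9 LD2_c13 LD3_c29)) = (LP (LK LD1_c6 LD2_c44 LD3_c18)) :=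
  Lgr Lrot47 (Lpr_gt (f644147 IH) (Lpe (f557963 IH) (Lpe (f209302 IH) (Lpn (LP (LK LD1_c6 LD2_c44 LD3_c18))))))
theorem f207321 : Led Lsl_bt (LP (LK LD1_c3 LD2_c20 LD3_c23)) = (LP (LK LD1_c6 LD2_c44 LD3_c18)) :=
  Lre_b IH (LK LD1_c3 LD2_c20 LD3_c23) (LK LD1_c6 LD2_c44 LD3_c18) Lrfl Lrfl
theorem f207322 : Led Lsl_ct (LP (LK LD1_c3 LD2_c20 LD3_c23)) = (LP (LK LD1_c6 LD2_c44 LD3_c29)) :=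
  Lre_c IH (LK LD1_c3 LD2_c20 LD3_c23) (LK LD1_c6 LD2_c44 LD3_c29) Lrfl Lrfl
theorem f207339 : Led Lsl_ct (LP (LK LD1_c2 LD2_c16 LD3_c7)) = (LP (LK LD1_c4 LD2_c37 LD3_c57)) :=
  Lre_c IH (LK LD1_c2 LD2_c16 LD3_c7) (LK LD1_c4 LD2_c37 LD3_c57) Lrfl Lrfl
theorem f157780 : Led Lsl_ct (LP (LK LD1_c3 LD2_c20 LD3_c21)) = (LP (LK LD1_c1 LD2_c36 LD3_c34)) :=
  Lre_c IH (LK LD1_c3 LD2_c20 LD3_c21) (LK LD1_c1 LD2_c36 LD3_c34) Lrfl Lrfl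
theorem f207340 : Led Lsl_at (LP (LK LD1_c4 LD2_c37 LD3_c57)) = (LP (LK LD1_c3 LD2_c20 LD3_c21)) :=
  Lgr Lrot107 (Lpe (f207339 IH) (Lpr_af (K35.f207325 IH) (Lpe (f157780 IH) (Lpn (LP (LK LD1_c3 LD2_c20 LD3_c21))))))
theorem f207358 : Led Lsl_af (LP (LK LD1_c4 LD2_c37 LD3_c57)) = (LP (LK LD1_c3 LD2_c20 LD3_c21)) :=
  Lgr Lrot0 (Lpr_at (f207340 IH) (Lpn (LP (LK LD1_c3 LD2_c20 LD3_c21))))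
theorem f207290 : Led Lsl_ft (LP (LK LD1_c4 LD2_c37 LD3_c57)) = (LP (LK LD1_c9 LD2_c11 LD3_c33)) :=
  Lre_f IH (LK LD1_c4 LD2_c37 LD3_c57) (LK LD1_c9 LD2_c11 LD3_c33) Lrfl Lrfl
theorem f207377 : Led Lsl_ft (LP (LK LD1_c6 LD2_c44 LD3_c29)) = (LP (LK LD1_c3 LD2_c20 LD3_c21)) :=
  Lre_f IH (LK LD1_c6 LD2_c44 LD3_c29) (LK LD1_c3 LD2_c20 LD3_c21) Lrfl Lrfl
theorem f207378 : Led Lsl_at (LP (LK LD1_c9 LD2_c11 LD3_c33)) = (LP (LK LD1_c6 LD2_c44 LD3_c29)) :=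
  Lgr Lrot66 (Lpe (f207290 IH) (Lpr_af (f207358 IH) (Lpe (f207377 IH) (Lpn (LP (LK LD1_c6 LD2_c44 LD3_c29))))))
theorem f207385 : Led Lsl_gt (LP (LK LD1_c4 LD2_c37 LD3_c57)) = (LP (LK LD1_c9 LD2_c11 LD3_c30)) :=
  Lre_g IH (LK LD1_c4 LD2_c37 LD3_c57) (LK LD1_c9 LD2_c11 LD3_c30) Lrfl Lrfl
theorem f207386 : Led Lsl_gt (LP (LK LD1_c9 LD2_c11 LD3_c30)) = (LP (LK LD1_c6 LD2_c44 LD3_c29)) :=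
  Lgr Lrot46 (Lpe (f207385 IH) (Lpr_ft (f207290 IH) (Lpr_at (f207378 IH) (Lpn (LP (LK LD1_c6 LD2_c44 LD3_c29))))))
theorem f644151 : Led Lsl_ct (LP (LK LD1_c12 LD2_c43 LD3_c29)) = (LP (LK LD1_c9 LD2_c11 LD3_c30)) :=
  Lgr Lrot91 (Lpe (f132531 IH) (Lpe (K49.f570829 IH) (Lpr_ct (f570820 IH) (Lpe (f615288 IH) (Lpe (f204241 IH) (Lpr_bt (f615290 IH) (Lpr_gf (f644149 IH) (Lpe (f207321 IH) (Lpr_ct (f207322 IH) (Lpe (f207386 IH) (Lpn (LP (LK LD1_c9 LD2_c11 LD3_c30)))))))))))))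
theorem f615280 : Led Lsl_bf (LP (LK LD1_c11 LD2_c49 LD3_c7)) = (LP (LK LD1_c12 LD2_c43 LD3_c29)) :=
  Lgr Lrot24 (Lpr_bt (f615278 IH) (Lpn (LP (LK LD1_c12 LD2_c43 LD3_c29))))
theorem f204609 : Led Lsl_gt (LP (LK LD1_c11 LD2_c49 LD3_c7)) = (LP (LK LD1_c20 LD2_c51 LD3_c38)) :=
  Lre_g IH (LK LD1_c11 LD2_c49 LD3_c7) (LK LD1_c20 LD2_c51 LD3_c38) Lrfl Lrfl
theorem f644163 : Led Lsl_bf (LP (LK LD1_c20 LD2_c51 LD3_c38)) = (LP (LK LD1_c12 LD2_c17 LD3_c4)) :=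
  Lgr Lrot34 (Lpe (f204609 IH) (Lpr_bf (f615280 IH) (Lpr_ct (f644151 IH) (Lpe (f207385 IH) (Lpe (f207339 IH) (Lpe (K11.f207344 IH) (Lpqs (K45.f643357 IH) (Lpe (K45.f641448 IH) (Lpr_ct (K45.f501432 IH) (Lpqs (K45.f643376 IH) (Lpe (K45.f641465 IH) (Lpe (K45.f615252 IH) (Lpn (LP (LK LD1_c12 LD2_c17 LD3_c4)))))))))))))))
theorem f644215 : Led Lsl_gf (LP (LK LD1_c11 LD2_c49 LD3_c9)) = (LP (LK LD1_c20 LD2_c51 LD3_c38)) :=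
  Lgr Lrot181 (Lpr_ct (f204235 IH) (Lpr_gt (f119643 IH) (Lpe (f204536 IH) (Lpr_bt (f204260 IH) (Lpr_gt (K32.f68929 IH) (Lpq (K45.f643295 IH) (Lpe (K45.f641442 IH) (Lpr_ct (f502740 IH) (Lpq (f644200 IH) (Lpe (f641461 IH) (Lpe (K45.f615252 IH) (Lpe (f644163 IH) (Lpn (LP (LK LD1_c20 LD2_c51 LD3_c38)))))))))))))))
theorem f644173 : Led Lsl_ft (LP (LK LD1_c20 LD2_c51 LD3_c38)) = (LP (LK LD1_c15 LD2_c5 LD3_c11)) :=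
  Lgr Lrot75 (Lpr_bf (f644163 IH) (Lpr_ff (K45.f615250 IH) (Lpe (K42.f498326 IH) (Lpn (LP (LK LD1_c15 LD2_c5 LD3_c11))))))
theorem f644217 : Led Lsl_gt (LP (LK LD1_c11 LD2_c49 LD3_c9)) = (LP (LK LD1_c8 LD2_c0 LD3_c32)) :=
  Lgr Lrot46 (Lpr_gf (f644215 IH) (Lpr_ft (f644173 IH) (Lpr_at (K42.f497260 IH) (Lpn (LP (LK LD1_c8 LD2_c0 LD3_c32))))))
theorem f497261 : Led Lsl_at (LP (LK LD1_c8 LD2_c0 LD3_c32)) = (LP (LK LD1_c15 LD2_c5 LD3_c11)) :=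
  Lre_a IH (LK LD1_c8 LD2_c0 LD3_c32) (LK LD1_c15 LD2_c5 LD3_c11) Lrfl Lrfl
theorem f570762 : Led Lsl_df (LP (LK LD1_c8 LD2_c0 LD3_c32)) = (LP (LK LD1_c6 LD2_c38 LD3_c55)) :=
  Lgr Lrot18 (Lpr_at (f497261 IH) (Lpr_dt (K42.f570760 IH) (Lpr_at (K42.f499236 IH) (Lpn (LP (LK LD1_c6 LD2_c38 LD3_c55))))))
theorem f132529 : Led Lsl_et (LP (LK LD1_c6 LD2_c38 LD3_c55)) = (LP (LK LD1_c3 LD2_c17 LD3_c42)) :=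
  Lre_e IH (LK LD1_c6 LD2_c38 LD3_c55) (LK LD1_c3 LD2_c17 LD3_c42) Lrfl Lrfl
theorem f138947 : Led Lsl_et (LP (LK LD1_c2 LD2_c27 LD3_c2)) = (LP (LK LD1_c4 LD2_c58 LD3_c23)) :=
  Lre_e IH (LK LD1_c2 LD2_c27 LD3_c2) (LK LD1_c4 LD2_c58 LD3_c23) Lrfl Lrfl
theorem f149886 : Led Lsl_gt (LP (LK LD1_c4 LD2_c58 LD3_c23)) = (LP (LK LD1_c9 LD2_c47 LD3_c26)) :=
  Lre_g IH (LK LD1_c4 LD2_c58 LD3_c23) (LK LD1_c9 LD2_c47 LD3_c26) Lrfl Lrfl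
theorem f149887 : Led Lsl_et (LP (LK LD1_c17 LD2_c57 LD3_c48)) = (LP (LK LD1_c9 LD2_c47 LD3_c26)) :=
  Lre_e IH (LK LD1_c17 LD2_c57 LD3_c48) (LK LD1_c9 LD2_c47 LD3_c26) Lrfl Lrfl
theorem f644225 : Led Lsl_df (LP (LK LD1_c11 LD2_c49 LD3_c9)) = (LP (LK LD1_c17 LD2_c57 LD3_c48)) :=
  Lgr Lrot170 (Lpr_gt (f644217 IH) (Lpr_df (f570762 IH) (Lpr_et (f132529 IH) (Lpr_gt (K7.f149878 IH) (Lpr_dt (K7.f82049 IH) (Lpr_gt (K7.f82030 IH) (Lpe (K6.f138921 IH) (Lpr_et (f138947 IH) (Lpr_gt (f149886 IH) (Lpe (f149887 IH) (Lpn (LP (LK LD1_c17 LD2_c57 LD3_c48)))))))))))))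
theorem f699529 : Led Lsl_bt (LP (LK LD1_c11 LD2_c29 LD3_c39)) = (LP (LK LD1_c17 LD2_c57 LD3_c48)) :=
  Lgr Lrot95 (Lpr_df (f699527 IH) (Lpe (f699525 IH) (Lpr_df (f644225 IH) (Lpn (LP (LK LD1_c17 LD2_c57 LD3_c48))))))
theorem f699530 : Led Lsl_bt (LP (LK LD1_c11 LD2_c29 LD3_c39)) = (LP (LK LD1_c17 LD2_c57 LD3_c48)) :=
  Leop (Lpe (f699529 IH) (Lpn (LP (LK LD1_c11 LD2_c29 LD3_c39))))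
theorem seed_647 : LEOK LG_b (LK LD1_c11 LD2_c29 LD3_c39) :=
  Leoe_b (LK LD1_c11 LD2_c29 LD3_c39) (f699530 IH)
def v12917 : LQ := Led Lsl_at (LP (LK LD1_c4 LD2_c34 LD3_c33))
theorem f699572 : Led Lsl_at (LP (LK LD1_c4 LD2_c34 LD3_c33)) = v12917 :=
  Lrfl
theorem f699573 : Led Lsl_af (LP (LK LD1_c4 LD2_c34 LD3_c33)) = v12917 :=
  Lgr Lrot0 (Lpr_at (f699572 IH) (Lpn v12917))
theorem f92149 : Led Lsl_gt (LP (LK LD1_c2 LD2_c14 LD3_c15)) = (LP (LK LD1_c4 LD2_c34 LD3_c33)) :=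
  Lre_g IH (LK LD1_c2 LD2_c14 LD3_c15) (LK LD1_c4 LD2_c34 LD3_c33) Lrfl Lrfl
theorem f92151 : Led Lsl_gt (LP (LK LD1_c4 LD2_c34 LD3_c34)) = (LP (LK LD1_c2 LD2_c14 LD3_c15)) :=
  Lre_g IH (LK LD1_c4 LD2_c34 LD3_c34) (LK LD1_c2 LD2_c14 LD3_c15) Lrfl Lrfl
theorem f699576 : Led Lsl_ft (LP (LK LD1_c4 LD2_c34 LD3_c34)) = v12917 :=
  Lgr Lrot2 (Lpr_gt (f92151 IH) (Lpr_gt (f92149 IH) (Lpr_af (f699573 IH) (Lpn v12917))))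
theorem f699578 : Led Lsl_ff (LP (LK LD1_c4 LD2_c34 LD3_c34)) = v12917 :=
  Lgr Lrot3 (Lpr_ft (f699576 IH) (Lpn v12917))
theorem f615491 : Led Lsl_dt (LP (LK LD1_c4 LD2_c34 LD3_c26)) = (LP (LK LD1_c2 LD2_c14 LD3_c15)) :=
  Lgr Lrot42 (Lpr_df (f615488 IH) (Lpn (LP (LK LD1_c2 LD2_c14 LD3_c15))))
theorem f135920 : Led Lsl_df (LP (LK LD1_c0 LD2_c37 LD3_c55)) = (LP (LK LD1_c1 LD2_c21 LD3_c9)) :=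
  Lgr Lrot153 (Lpr_gt (K6.f8361 IH) (Lpr_dt (K7.f8355 IH) (Lpe (K4.f8352 IH) (Lpe (K7.f8353 IH) (Lpe (K4.f65881 IH) (Lpr_df (K36.f130200 IH) (Lpe (K6.f135860 IH) (Lpe (K6.f135849 IH) (Lpr_gt (K6.f135918 IH) (Lpn (LP (LK LD1_c1 LD2_c21 LD3_c9))))))))))))
theorem f22292 : Led Lsl_et (LP (LK LD1_c0 LD2_c37 LD3_c57)) = (LP (LK LD1_c1 LD2_c22 LD3_c0)) :=
  Lre_e IH (LK LD1_c0 LD2_c37 LD3_c57) (LK LD1_c1 LD2_c22 LD3_c0) Lrfl Lrfl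
theorem f22303 : Led Lsl_gt (LP (LK LD1_c1 LD2_c22 LD3_c0)) = (LP (LK LD1_c2 LD2_c51 LD3_c59)) :=
  Lre_g IH (LK LD1_c1 LD2_c22 LD3_c0) (LK LD1_c2 LD2_c51 LD3_c59) Lrfl Lrfl
theorem f22363 : Led Lsl_et (LP (LK LD1_c5 LD2_c51 LD3_c28)) = (LP (LK LD1_c2 LD2_c51 LD3_c59)) :=
  Lre_e IH (LK LD1_c5 LD2_c51 LD3_c28) (LK LD1_c2 LD2_c51 LD3_c59) Lrfl Lrfl
theorem f615494 : Led Lsl_dt (LP (LK LD1_c5 LD2_c51 LD3_c28)) = (LP (LK LD1_c4 LD2_c34 LD3_c34)) :=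
  Lgr Lrot136 (Lpr_et (f22363 IH) (Lpe (f22303 IH) (Lpe (f22292 IH) (Lpr_dt (K7.f8351 IH) (Lpe (K6.f8361 IH) (Lpr_df (f135920 IH) (Lpe (K6.f135918 IH) (Lpe (K45.f135912 IH) (Lpr_dt (f615491 IH) (Lpe (f92151 IH) (Lpn (LP (LK LD1_c4 LD2_c34 LD3_c34)))))))))))))
theorem f615501 : Led Lsl_df (LP (LK LD1_c5 LD2_c51 LD3_c28)) = (LP (LK LD1_c4 LD2_c34 LD3_c34)) :=
  Lgr Lrot38 (Lpr_dt (f615494 IH) (Lpn (LP (LK LD1_c4 LD2_c34 LD3_c34))))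
theorem f615509 : Led Lsl_ft (LP (LK LD1_c5 LD2_c51 LD3_c28)) = (LP (LK LD1_c11 LD2_c30 LD3_c24)) :=
  Lre_f IH (LK LD1_c5 LD2_c51 LD3_c28) (LK LD1_c11 LD2_c30 LD3_c24) Lrfl Lrfl
theorem f699579 : Led Lsl_dt (LP (LK LD1_c11 LD2_c30 LD3_c24)) = v12917 :=
  Lgr Lrot60 (Lpe (f615509 IH) (Lpr_df (f615501 IH) (Lpr_ff (f699578 IH) (Lpn v12917))))
theorem f92163 : Led Lsl_dt (LP (LK LD1_c4 LD2_c34 LD3_c33)) = (LP (LK LD1_c9 LD2_c5 LD3_c61)) :=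
  Lre_d IH (LK LD1_c4 LD2_c34 LD3_c33) (LK LD1_c9 LD2_c5 LD3_c61) Lrfl Lrfl
theorem f699580 : Led Lsl_af (LP (LK LD1_c11 LD2_c30 LD3_c24)) = (LP (LK LD1_c9 LD2_c5 LD3_c61)) :=
  Lgr Lrot117 (Lpr_dt (f699579 IH) (Lpe (f699573 IH) (Lpr_dt (f92163 IH) (Lpn (LP (LK LD1_c9 LD2_c5 LD3_c61))))))
theorem f699581 : Led Lsl_at (LP (LK LD1_c9 LD2_c5 LD3_c61)) = (LP (LK LD1_c11 LD2_c30 LD3_c24)) :=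
  Leop (Lpr_af (f699580 IH) (Lpn (LP (LK LD1_c9 LD2_c5 LD3_c61))))
theorem seed_648 : LEOK LG_a (LK LD1_c9 LD2_c5 LD3_c61) :=
  Leoe_a (LK LD1_c9 LD2_c5 LD3_c61) (f699581 IH)
def v12920 : LQ := Led Lsl_ct (LP (LK LD1_c4 LD2_c34 LD3_c34))
theorem f699595 : Led Lsl_ct (LP (LK LD1_c4 LD2_c34 LD3_c34)) = v12920 :=
  Lrfl
theorem f614648 : Led Lsl_bt (LP (LK LD1_c4 LD2_c34 LD3_c34)) = (LP (LK LD1_c9 LD2_c6 LD3_c1)) :=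
  Lre_b IH (LK LD1_c4 LD2_c34 LD3_c34) (LK LD1_c9 LD2_c6 LD3_c1) Lrfl Lrfl
theorem f643478 : Led Lsl_bf (LP (LK LD1_c2 LD2_c57 LD3_c26)) = (LP (LK LD1_c6 LD2_c0 LD3_c23)) :=
  Lgr Lrot61 (Lpr_ft (K46.f508147 IH) (Lpr_bt (K46.f419098 IH) (Lpr_ft (K46.f643476 IH) (Lpn (LP (LK LD1_c6 LD2_c0 LD3_c23))))))
theorem f500975 : Led Lsl_bf (LP (LK LD1_c1 LD2_c24 LD3_c27)) = K35.v1710 :=
  Lgr Lrot93 (Lpr_dt (K11.f68640 IH) (Lpr_bt (K42.f146040 IH) (Lpr_dt (K35.f500974 IH) (Lpn K35.v1710))))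
theorem f206939 : Led Lsl_gt (LP (LK LD1_c9 LD2_c11 LD3_c31)) = (LP (LK LD1_c4 LD2_c37 LD3_c57)) :=
  Lre_g IH (LK LD1_c9 LD2_c11 LD3_c31) (LK LD1_c4 LD2_c37 LD3_c57) Lrfl Lrfl
theorem f92152 : Led Lsl_bt (LP (LK LD1_c9 LD2_c6 LD3_c1)) = (LP (LK LD1_c4 LD2_c34 LD3_c34)) :=
  Lre_b IH (LK LD1_c9 LD2_c6 LD3_c1) (LK LD1_c4 LD2_c34 LD3_c34) Lrfl Lrfl
theorem f207380 : Led Lsl_gf (LP (LK LD1_c9 LD2_c11 LD3_c31)) = (LP (LK LD1_c6 LD2_c44 LD3_c29)) :=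
  Lgr Lrot47 (Lpr_gt (f206939 IH) (Lpr_af (f207358 IH) (Lpe (f207377 IH) (Lpn (LP (LK LD1_c6 LD2_c44 LD3_c29))))))
theorem f614646 : Led Lsl_ct (LP (LK LD1_c9 LD2_c6 LD3_c1)) = (LP (LK LD1_c9 LD2_c11 LD3_c31)) :=
  Lgr Lrot63 (Lpr_bt (f92152 IH) (Lpr_gt (f92151 IH) (Lpe (K6.f92148 IH) (Lpr_ct (K6.f92125 IH) (Lpr_gt (K24.f68362 IH) (Lpr_cf (K41.f435405 IH) (Lpr_bt (K42.f614634 IH) (Lpr_gt (K42.f207328 IH) (Lpr_ct (f207322 IH) (Lpe (f207380 IH) (Lpn (LP (LK LD1_c9 LD2_c11 LD3_c31)))))))))))))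
theorem f644198 : Led Lsl_gt (LP (LK LD1_c12 LD2_c17 LD3_c2)) = (LP (LK LD1_c9 LD2_c6 LD3_c1)) :=
  Lgr Lrot82 (Lpe (K42.f615146 IH) (Lpr_ct (K42.f443700 IH) (Lpr_gf (f615267 IH) (Lpr_cf (f643480 IH) (Lpe (f643478 IH) (Lpe (K29.f22977 IH) (Lpr_bf (f500975 IH) (Lpqs (K35.f538049 IH) (Lpr_ct (f207339 IH) (Lpe (f206939 IH) (Lpe (f614646 IH) (Lpn (LP (LK LD1_c9 LD2_c6 LD3_c1))))))))))))))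
theorem f644273 : Led Lsl_gf (LP (LK LD1_c6 LD2_c38 LD3_c55)) = (LP (LK LD1_c9 LD2_c6 LD3_c1)) :=
  Lgr Lrot76 (Lpe (K42.f499236 IH) (Lpe (K42.f615163 IH) (Lpr_gt (f644198 IH) (Lpn (LP (LK LD1_c9 LD2_c6 LD3_c1))))))
theorem f207353 : Led Lsl_ct (LP (LK LD1_c9 LD2_c11 LD3_c36)) = (LP (LK LD1_c4 LD2_c37 LD3_c59)) :=
  Lre_c IH (LK LD1_c9 LD2_c11 LD3_c36) (LK LD1_c4 LD2_c37 LD3_c59) Lrfl Lrfl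
theorem f615015 : Led Lsl_ft (LP (LK LD1_c4 LD2_c37 LD3_c59)) = (LP (LK LD1_c3 LD2_c20 LD3_c22)) :=
  Lgr Lrot48 (Lpr_ff (K45.f615011 IH) (Lpn (LP (LK LD1_c3 LD2_c20 LD3_c22))))
theorem f615128 : Led Lsl_ct (LP (LK LD1_c3 LD2_c20 LD3_c22)) = (LP (LK LD1_c6 LD2_c38 LD3_c59)) :=
  Lgr Lrot40 (Lpe (f615015 IH) (Lpe (f207353 IH) (Lpr_ff (K49.f615126 IH) (Lpn (LP (LK LD1_c6 LD2_c38 LD3_c59))))))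
theorem f643073 : Led Lsl_bt (LP (LK LD1_c3 LD2_c20 LD3_c22)) = (LP (LK LD1_c4 LD2_c48 LD3_c48)) :=
  Lgr Lrot127 (Lpr_bf (K42.f643070 IH) (Lpn (LP (LK LD1_c4 LD2_c48 LD3_c48))))
theorem f501943 : Led Lsl_bt (LP (LK LD1_c6 LD2_c0 LD3_c7)) = (LP (LK LD1_c2 LD2_c56 LD3_c29)) :=
  Lre_b IH (LK LD1_c6 LD2_c0 LD3_c7) (LK LD1_c2 LD2_c56 LD3_c29) Lrfl Lrfl
theorem f501951 : Led Lsl_ct (LP (LK LD1_c6 LD2_c0 LD3_c7)) = (LP (LK LD1_c11 LD2_c44 LD3_c39)) :=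
  Lre_c IH (LK LD1_c6 LD2_c0 LD3_c7) (LK LD1_c11 LD2_c44 LD3_c39) Lrfl Lrfl
theorem f699597 : Led Lsl_gt (LP (LK LD1_c11 LD2_c44 LD3_c39)) = v12920 :=
  Lgr Lrot65 (Lpe (f501951 IH) (Lpr_bt (f501943 IH) (Lpr_gf (K42.f501977 IH) (Lpe (f643073 IH) (Lpr_ct (f615128 IH) (Lpe (K49.f103913 IH) (Lpe (K42.f103916 IH) (Lpr_gf (f644273 IH) (Lpe (f614648 IH) (Lpr_ct (f699595 IH) (Lpn v12920)))))))))))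
theorem f644123 : Led Lsl_bt (LP (LK LD1_c4 LD2_c38 LD3_c49)) = (LP (LK LD1_c9 LD2_c13 LD3_c25)) :=
  Lre_b IH (LK LD1_c4 LD2_c38 LD3_c49) (LK LD1_c9 LD2_c13 LD3_c25) Lrfl Lrfl
theorem f79976 : Led Lsl_et (LP (LK LD1_c1 LD2_c4 LD3_c61)) = (LP (LK LD1_c2 LD2_c16 LD3_c5)) :=
  Lre_e IH (LK LD1_c1 LD2_c4 LD3_c61) (LK LD1_c2 LD2_c16 LD3_c5) Lrfl Lrfl
theorem f206892 : Led Lsl_ft (LP (LK LD1_c2 LD2_c16 LD3_c5)) = (LP (LK LD1_c4 LD2_c37 LD3_c54)) :=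
  Lre_f IH (LK LD1_c2 LD2_c16 LD3_c5) (LK LD1_c4 LD2_c37 LD3_c54) Lrfl Lrfl
theorem f206894 : Led Lsl_et (LP (LK LD1_c4 LD2_c37 LD3_c54)) = (LP (LK LD1_c3 LD2_c20 LD3_c23)) :=
  Lgr Lrot69 (Lpe (f206892 IH) (Lpe (f79976 IH) (Lpr_ff (K11.f206886 IH) (Lpe (K49.f142129 IH) (Lpe (K35.f206893 IH) (Lpn (LP (LK LD1_c3 LD2_c20 LD3_c23))))))))
theorem f207310 : Led Lsl_af (LP (LK LD1_c4 LD2_c37 LD3_c60)) = (LP (LK LD1_c3 LD2_c20 LD3_c23)) :=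
  Lgr Lrot50 (Lpr_et (K35.f207308 IH) (Lpe (K35.f207126 IH) (Lpr_et (f206894 IH) (Lpn (LP (LK LD1_c3 LD2_c20 LD3_c23))))))
theorem f207399 : Led Lsl_gf (LP (LK LD1_c4 LD2_c37 LD3_c60)) = (LP (LK LD1_c3 LD2_c20 LD3_c22)) :=
  Lgr Lrot76 (Lpr_af (f207310 IH) (Lpe (K35.f206905 IH) (Lpr_gt (K42.f206813 IH) (Lpn (LP (LK LD1_c3 LD2_c20 LD3_c22))))))
theorem f538054 : Led Lsl_bf (LP (LK LD1_c4 LD2_c37 LD3_c60)) = (LP (LK LD1_c2 LD2_c57 LD3_c29)) :=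
  Lgr Lrot61 (Lpr_ft (K35.f207319 IH) (Lpq (K35.f538049 IH) (Lpe (f500975 IH) (Lpr_ft (K29.f68937 IH) (Lpn (LP (LK LD1_c2 LD2_c57 LD3_c29)))))))
theorem f622581 : Led Lsl_gt (LP (LK LD1_c5 LD2_c50 LD3_c25)) = (LP (LK LD1_c4 LD2_c38 LD3_c59)) :=
  Lgr Lrot150 (Lpe (K49.f500017 IH) (Lpq (K45.f537651 IH) (Lpe (K45.f536247 IH) (Lpe (K6.f92118 IH) (Lpr_gt (K32.f438773 IH) (Lpq (K31.f500029 IH) (Lpe (K31.f494707 IH) (Lpr_gt (K31.f59488 IH) (Lpe (K8.f61062 IH) (Lpe (K11.f61080 IH) (Lpe (K40.f61084 IH) (Lpn (LP (LK LD1_c4 LD2_c38 LD3_c59))))))))))))))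
theorem f204273 : Led Lsl_at (LP (LK LD1_c2 LD2_c57 LD3_c28)) = (LP (LK LD1_c4 LD2_c38 LD3_c59)) :=
  Lgr Lrot107 (Lpe (K11.f68939 IH) (Lpr_af (K11.f204265 IH) (Lpe (K40.f61084 IH) (Lpn (LP (LK LD1_c4 LD2_c38 LD3_c59))))))
theorem f622583 : Led Lsl_gf (LP (LK LD1_c5 LD2_c50 LD3_c25)) = (LP (LK LD1_c6 LD2_c2 LD3_c48)) :=
  Lgr Lrot47 (Lpr_gt (f622581 IH) (Lpe (f204273 IH) (Lpe (K11.f68952 IH) (Lpn (LP (LK LD1_c6 LD2_c2 LD3_c48))))))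
theorem f643087 : Led Lsl_gf (LP (LK LD1_c9 LD2_c25 LD3_c48)) = (LP (LK LD1_c5 LD2_c50 LD3_c24)) :=
  Lgr Lrot181 (Lpr_ct (K46.f497060 IH) (Lpr_gt (K42.f104961 IH) (Lpr_cf (K42.f643077 IH) (Lpe (K42.f643070 IH) (Lpe (f207399 IH) (Lpr_bf (f538054 IH) (Lpr_ct (K35.f204252 IH) (Lpe (f622583 IH) (Lpe (K49.f500017 IH) (Lpr_bt (K45.f537655 IH) (Lpn (LP (LK LD1_c5 LD2_c50 LD3_c24)))))))))))))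
theorem f643089 : Led Lsl_gt (LP (LK LD1_c9 LD2_c49 LD3_c40)) = (LP (LK LD1_c5 LD2_c50 LD3_c24)) :=
  Lgr Lrot5 (Lpr_ft (K42.f570782 IH) (Lpe (K42.f570772 IH) (Lpr_gf (f643087 IH) (Lpn (LP (LK LD1_c5 LD2_c50 LD3_c24))))))
theorem f500823 : Led Lsl_ct (LP (LK LD1_c2 LD2_c56 LD3_c25)) = (LP (LK LD1_c1 LD2_c24 LD3_c4)) :=
  Lre_c IH (LK LD1_c2 LD2_c56 LD3_c25) (LK LD1_c1 LD2_c24 LD3_c4) Lrfl Lrfl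
theorem f76135 : Led Lsl_ct (LP (LK LD1_c6 LD2_c0 LD3_c25)) = (LP (LK LD1_c2 LD2_c56 LD3_c28)) :=
  Lre_c IH (LK LD1_c6 LD2_c0 LD3_c25) (LK LD1_c2 LD2_c56 LD3_c28) Lrfl Lrfl
theorem f643960 : Led Lsl_gf (LP (LK LD1_c6 LD2_c0 LD3_c25)) = (LP (LK LD1_c5 LD2_c50 LD3_c34)) :=
  Lgr Lrot172 (Lpr_ct (f76135 IH) (Lpr_dt (K42.f75046 IH) (Lpe (f500823 IH) (Lpe (K45.f156789 IH) (Lpr_cf (K45.f643281 IH) (Lpe (f643089 IH) (Lpr_dt (K42.f570783 IH) (Lpqs (K46.f643529 IH) (Lpe (K46.f640675 IH) (Lpr_ct (K35.f139893 IH) (Lpn (LP (LK LD1_c5 LD2_c50 LD3_c34)))))))))))))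
theorem f559377 : Led Lsl_bf (LP (LK LD1_c6 LD2_c0 LD3_c2)) = (LP (LK LD1_c2 LD2_c56 LD3_c28)) :=
  Lgr Lrot24 (Lpr_bt (K42.f559373 IH) (Lpn (LP (LK LD1_c2 LD2_c56 LD3_c28))))
theorem f644124 : Led Lsl_gf (LP (LK LD1_c9 LD2_c13 LD3_c25)) = (LP (LK LD1_c6 LD2_c0 LD3_c2)) :=
  Lgr Lrot124 (Lpe (f644123 IH) (Lpr_ct (f443756 IH) (Lpr_gt (f443757 IH) (Lpe (f644121 IH) (Lpr_bt (f615101 IH) (Lpqs (K46.f643529 IH) (Lpe (K46.f640675 IH) (Lpr_ct (K35.f139893 IH) (Lpe (f643960 IH) (Lpe (K42.f76126 IH) (Lpe (f559377 IH) (Lpn (LP (LK LD1_c6 LD2_c0 LD3_c2))))))))))))))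
theorem f501958 : Led Lsl_ft (LP (LK LD1_c6 LD2_c0 LD3_c2)) = (LP (LK LD1_c11 LD2_c44 LD3_c33)) :=
  Lre_f IH (LK LD1_c6 LD2_c0 LD3_c2) (LK LD1_c11 LD2_c44 LD3_c33) Lrfl Lrfl
theorem f501960 : Led Lsl_at (LP (LK LD1_c11 LD2_c44 LD3_c33)) = (LP (LK LD1_c6 LD2_c0 LD3_c7)) :=
  Lre_a IH (LK LD1_c11 LD2_c44 LD3_c33) (LK LD1_c6 LD2_c0 LD3_c7) Lrfl Lrfl
theorem f644126 : Led Lsl_gt (LP (LK LD1_c9 LD2_c13 LD3_c25)) = (LP (LK LD1_c6 LD2_c0 LD3_c7)) :=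
  Lgr Lrot46 (Lpr_gf (f644124 IH) (Lpr_ft (f501958 IH) (Lpr_at (f501960 IH) (Lpn (LP (LK LD1_c6 LD2_c0 LD3_c7))))))
theorem f699598 : Led Lsl_gt (LP (LK LD1_c15 LD2_c5 LD3_c15)) = (LP (LK LD1_c9 LD2_c13 LD3_c26)) :=
  Lgr Lrot65 (Lpe (f570820 IH) (Lpr_bt (K49.f570829 IH) (Lpr_gf (f644273 IH) (Lpe (f614648 IH) (Lpr_ct (f699595 IH) (Lpe (f699597 IH) (Lpe (f501951 IH) (Lpe (f644126 IH) (Lpe (f644123 IH) (Lpr_ct (f443756 IH) (Lpn (LP (LK LD1_c9 LD2_c13 LD3_c26)))))))))))))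
theorem f699599 : Led Lsl_gt (LP (LK LD1_c15 LD2_c5 LD3_c15)) = (LP (LK LD1_c9 LD2_c13 LD3_c26)) :=
  Leop (Lpe (f699598 IH) (Lpn (LP (LK LD1_c15 LD2_c5 LD3_c15))))
theorem seed_649 : LEOK LG_g (LK LD1_c15 LD2_c5 LD3_c15) :=
  Leoe_g (LK LD1_c15 LD2_c5 LD3_c15) (f699599 IH)
def v12925 : LQ := Led Lsl_ft (LP (LK LD1_c4 LD2_c34 LD3_c41))
theorem f699626 : Led Lsl_ft (LP (LK LD1_c4 LD2_c34 LD3_c41)) = v12925 :=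
  Lrfl
theorem f302459 : Led Lsl_ft (LP (LK LD1_c5 LD2_c50 LD3_c56)) = (LP (LK LD1_c2 LD2_c51 LD3_c39)) :=
  Lre_f IH (LK LD1_c5 LD2_c50 LD3_c56) (LK LD1_c2 LD2_c51 LD3_c39) Lrfl Lrfl
theorem f699630 : Led Lsl_ef (LP (LK LD1_c5 LD2_c50 LD3_c56)) = v12925 :=
  Lgr Lrot21 (Lpr_ft (f302459 IH) (Lpr_et (K35.f204842 IH) (Lpe (K18.f302457 IH) (Lpr_et (K35.f20501 IH) (Lpr_ft (f699626 IH) (Lpn v12925))))))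
def v12875 : LQ := Led Lsl_dt (LP (LK LD1_c4 LD2_c33 LD3_c47))
theorem f698743 : Led Lsl_dt (LP (LK LD1_c4 LD2_c33 LD3_c47)) = v12875 :=
  Lrfl
theorem f211871 : Led Lsl_et (LP (LK LD1_c4 LD2_c33 LD3_c47)) = (LP (LK LD1_c2 LD2_c13 LD3_c45)) :=
  Lre_e IH (LK LD1_c4 LD2_c33 LD3_c47) (LK LD1_c2 LD2_c13 LD3_c45) Lrfl Lrfl
theorem f140932 : Led Lsl_dt (LP (LK LD1_c1 LD2_c20 LD3_c31)) = (LP (LK LD1_c0 LD2_c38 LD3_c59)) :=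
  Lre_d IH (LK LD1_c1 LD2_c20 LD3_c31) (LK LD1_c0 LD2_c38 LD3_c59) Lrfl Lrfl
theorem f174607 : Led Lsl_et (LP (LK LD1_c2 LD2_c16 LD3_c35)) = (LP (LK LD1_c4 LD2_c39 LD3_c12)) :=
  Lre_e IH (LK LD1_c2 LD2_c16 LD3_c35) (LK LD1_c4 LD2_c39 LD3_c12) Lrfl Lrfl
theorem f185125 : Led Lsl_et (LP (LK LD1_c1 LD2_c13 LD3_c31)) = (LP (LK LD1_c2 LD2_c33 LD3_c8)) :=
  Lre_e IH (LK LD1_c1 LD2_c13 LD3_c31) (LK LD1_c2 LD2_c33 LD3_c8) Lrfl Lrfl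
theorem f185126 : Led Lsl_dt (LP (LK LD1_c2 LD2_c33 LD3_c8)) = (LP (LK LD1_c2 LD2_c47 LD3_c3)) :=
  Lgr Lrot77 (Lpe (f185125 IH) (Lpe (K10.f185098 IH) (Lpr_ef (K10.f185120 IH) (Lpr_df (K9.f178876 IH) (Lpe (K17.f174240 IH) (Lpn (LP (LK LD1_c2 LD2_c47 LD3_c3))))))))
theorem f289301 : Led Lsl_af (LP (LK LD1_c2 LD2_c33 LD3_c8)) = (LP (LK LD1_c2 LD2_c30 LD3_c19)) :=
  Lgr Lrot117 (Lpr_dt (f185126 IH) (Lpr_at (K17.f289292 IH) (Lpr_dt (K17.f164737 IH) (Lpn (LP (LK LD1_c2 LD2_c30 LD3_c19))))))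
theorem f186191 : Led Lsl_gt (LP (LK LD1_c5 LD2_c12 LD3_c32)) = (LP (LK LD1_c2 LD2_c33 LD3_c8)) :=
  Lre_g IH (LK LD1_c5 LD2_c12 LD3_c32) (LK LD1_c2 LD2_c33 LD3_c8) Lrfl Lrfl
theorem f408191 : Led Lsl_gf (LP (LK LD1_c5 LD2_c12 LD3_c32)) = (LP (LK LD1_c5 LD2_c6 LD3_c2)) :=
  Lgr Lrot47 (Lpr_gt (f186191 IH) (Lpr_af (f289301 IH) (Lpe (K18.f164759 IH) (Lpn (LP (LK LD1_c5 LD2_c6 LD3_c2))))))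
theorem f164760 : Led Lsl_dt (LP (LK LD1_c5 LD2_c37 LD3_c17)) = (LP (LK LD1_c5 LD2_c6 LD3_c2)) :=
  Lgr Lrot60 (Lpe (K17.f164758 IH) (Lpr_df (K17.f164749 IH) (Lpe (K18.f164759 IH) (Lpn (LP (LK LD1_c5 LD2_c6 LD3_c2))))))
theorem f289321 : Led Lsl_ef (LP (LK LD1_c5 LD2_c42 LD3_c6)) = (LP (LK LD1_c5 LD2_c37 LD3_c17)) :=
  Lgr Lrot21 (Lpr_ft (K17.f289248 IH) (Lpr_et (K35.f225935 IH) (Lpr_ft (K17.f289315 IH) (Lpr_et (K17.f164734 IH) (Lpr_ft (K17.f164758 IH) (Lpn (LP (LK LD1_c5 LD2_c37 LD3_c17))))))))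
theorem f211853 : Led Lsl_gt (LP (LK LD1_c2 LD2_c44 LD3_c39)) = (LP (LK LD1_c5 LD2_c37 LD3_c23)) :=
  Lre_g IH (LK LD1_c2 LD2_c44 LD3_c39) (LK LD1_c5 LD2_c37 LD3_c23) Lrfl Lrfl
theorem f289259 : Led Lsl_gt (LP (LK LD1_c5 LD2_c37 LD3_c23)) = (LP (LK LD1_c5 LD2_c42 LD3_c6)) :=
  Lgr Lrot46 (Lpe (f211853 IH) (Lpr_ft (K17.f242697 IH) (Lpr_at (K17.f289249 IH) (Lpn (LP (LK LD1_c5 LD2_c42 LD3_c6))))))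
theorem f211857 : Led Lsl_et (LP (LK LD1_c11 LD2_c6 LD3_c35)) = (LP (LK LD1_c5 LD2_c37 LD3_c23)) :=
  Lre_e IH (LK LD1_c11 LD2_c6 LD3_c35) (LK LD1_c5 LD2_c37 LD3_c23) Lrfl Lrfl
theorem f168301 : Led Lsl_et (LP (LK LD1_c2 LD2_c13 LD3_c48)) = (LP (LK LD1_c1 LD2_c3 LD3_c54)) :=
  Lre_e IH (LK LD1_c2 LD2_c13 LD3_c48) (LK LD1_c1 LD2_c3 LD3_c54) Lrfl Lrfl
theorem f68893 : Led Lsl_gt (LP (LK LD1_c9 LD2_c5 LD3_c22)) = (LP (LK LD1_c4 LD2_c33 LD3_c55)) :=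
  Lre_g IH (LK LD1_c9 LD2_c5 LD3_c22) (LK LD1_c4 LD2_c33 LD3_c55) Lrfl Lrfl
theorem f211858 : Led Lsl_dt (LP (LK LD1_c11 LD2_c6 LD3_c35)) = (LP (LK LD1_c9 LD2_c5 LD3_c22)) :=
  Lgr Lrot136 (Lpr_et (f211857 IH) (Lpe (f211853 IH) (Lpe (K17.f172683 IH) (Lpr_dt (K12.f172675 IH) (Lpr_gf (K12.f211846 IH) (Lpr_df (K9.f168223 IH) (Lpe (K9.f68913 IH) (Lpe (f168301 IH) (Lpr_dt (K36.f9252 IH) (Lpe (f68893 IH) (Lpn (LP (LK LD1_c9 LD2_c5 LD3_c22)))))))))))))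
theorem f9293 : Led Lsl_gt (LP (LK LD1_c4 LD2_c49 LD3_c41)) = (LP (LK LD1_c9 LD2_c5 LD3_c22)) :=
  Lre_g IH (LK LD1_c4 LD2_c49 LD3_c41) (LK LD1_c9 LD2_c5 LD3_c22) Lrfl Lrfl
theorem f9266 : Led Lsl_gt (LP (LK LD1_c4 LD2_c33 LD3_c53)) = (LP (LK LD1_c2 LD2_c48 LD3_c50)) :=
  Lre_g IH (LK LD1_c4 LD2_c33 LD3_c53) (LK LD1_c2 LD2_c48 LD3_c50) Lrfl Lrfl
theorem f211872 : Led Lsl_et (LP (LK LD1_c9 LD2_c5 LD3_c17)) = (LP (LK LD1_c4 LD2_c33 LD3_c53)) :=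
  Lre_e IH (LK LD1_c9 LD2_c5 LD3_c17) (LK LD1_c4 LD2_c33 LD3_c53) Lrfl Lrfl
theorem f408195 : Led Lsl_df (LP (LK LD1_c5 LD2_c12 LD3_c32)) = (LP (LK LD1_c9 LD2_c5 LD3_c17)) :=
  Lgr Lrot168 (Lpr_gf (f408191 IH) (Lpe (f164760 IH) (Lpe (f289321 IH) (Lpe (f289259 IH) (Lpe (f211857 IH) (Lpr_dt (f211858 IH) (Lpe (f9293 IH) (Lpe (K0.f9243 IH) (Lpe (f9266 IH) (Lpe (f211872 IH) (Lpn (LP (LK LD1_c9 LD2_c5 LD3_c17)))))))))))))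
theorem f408197 : Led Lsl_et (LP (LK LD1_c1 LD2_c20 LD3_c31)) = (LP (LK LD1_c2 LD2_c48 LD3_c50)) :=
  Lre_e IH (LK LD1_c1 LD2_c20 LD3_c31) (LK LD1_c2 LD2_c48 LD3_c50) Lrfl Lrfl
theorem f408198 : Led Lsl_gt (LP (LK LD1_c4 LD2_c39 LD3_c12)) = (LP (LK LD1_c5 LD2_c37 LD3_c17)) :=
  Lgr Lrot137 (Lpe (f174607 IH) (Lpr_dt (K49.f174606 IH) (Lpe (K24.f140933 IH) (Lpe (f140932 IH) (Lpr_et (f408197 IH) (Lpe (f9266 IH) (Lpe (f211872 IH) (Lpe (f408195 IH) (Lpr_gf (f408191 IH) (Lpe (f164760 IH) (Lpn (LP (LK LD1_c5 LD2_c37 LD3_c17)))))))))))))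
theorem f242702 : Led Lsl_et (LP (LK LD1_c4 LD2_c34 LD3_c42)) = (LP (LK LD1_c2 LD2_c14 LD3_c21)) :=
  Lre_e IH (LK LD1_c4 LD2_c34 LD3_c42) (LK LD1_c2 LD2_c14 LD3_c21) Lrfl Lrfl
theorem f406400 : Led Lsl_af (LP (LK LD1_c4 LD2_c34 LD3_c42)) = (LP (LK LD1_c2 LD2_c51 LD3_c39)) :=
  Lgr Lrot50 (Lpr_et (f242702 IH) (Lpr_at (K18.f302453 IH) (Lpr_et (K35.f68664 IH) (Lpn (LP (LK LD1_c2 LD2_c51 LD3_c39))))))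
theorem f242700 : Led Lsl_ft (LP (LK LD1_c4 LD2_c34 LD3_c42)) = (LP (LK LD1_c9 LD2_c6 LD3_c11)) :=
  Lre_f IH (LK LD1_c4 LD2_c34 LD3_c42) (LK LD1_c9 LD2_c6 LD3_c11) Lrfl Lrfl
theorem f406404 : Led Lsl_at (LP (LK LD1_c9 LD2_c6 LD3_c11)) = (LP (LK LD1_c5 LD2_c50 LD3_c56)) :=
  Lgr Lrot66 (Lpe (f242700 IH) (Lpr_af (f406400 IH) (Lpe (f302459 IH) (Lpn (LP (LK LD1_c5 LD2_c50 LD3_c56))))))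
theorem f406408 : Led Lsl_df (LP (LK LD1_c5 LD2_c42 LD3_c6)) = (LP (LK LD1_c5 LD2_c50 LD3_c56)) :=
  Lgr Lrot18 (Lpe (K17.f289256 IH) (Lpe (K17.f242698 IH) (Lpr_at (f406404 IH) (Lpn (LP (LK LD1_c5 LD2_c50 LD3_c56))))))
theorem f406412 : Led Lsl_dt (LP (LK LD1_c5 LD2_c42 LD3_c6)) = (LP (LK LD1_c5 LD2_c50 LD3_c56)) :=
  Lgr Lrot42 (Lpr_df (f406408 IH) (Lpn (LP (LK LD1_c5 LD2_c50 LD3_c56))))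
theorem f698748 : Led Lsl_gt (LP (LK LD1_c5 LD2_c50 LD3_c56)) = v12875 :=
  Lgr Lrot112 (Lpe (f406412 IH) (Lpr_et (K17.f289329 IH) (Lpe (f408198 IH) (Lpe (f174607 IH) (Lpr_dt (K49.f174606 IH) (Lpe (K24.f140933 IH) (Lpe (f140932 IH) (Lpe (K32.f140279 IH) (Lpe (f211871 IH) (Lpr_dt (f698743 IH) (Lpn v12875)))))))))))
theorem f698745 : Led Lsl_df (LP (LK LD1_c4 LD2_c33 LD3_c47)) = v12875 :=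
  Lgr Lrot38 (Lpr_dt (f698743 IH) (Lpn v12875))
theorem f698645 : Led Lsl_et (LP (LK LD1_c8 LD2_c12 LD3_c2)) = v12860 :=
  Lgr Lrot87 (Lpr_ef (f698642 IH) (Lpn v12860))
theorem f204843 : Led Lsl_dt (LP (LK LD1_c15 LD2_c26 LD3_c9)) = (LP (LK LD1_c8 LD2_c12 LD3_c2)) :=
  Lre_d IH (LK LD1_c15 LD2_c26 LD3_c9) (LK LD1_c8 LD2_c12 LD3_c2) Lrfl Lrfl
theorem f173392 : Led Lsl_dt (LP (LK LD1_c9 LD2_c4 LD3_c46)) = (LP (LK LD1_c16 LD2_c56 LD3_c28)) :=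
  Lre_d IH (LK LD1_c9 LD2_c4 LD3_c46) (LK LD1_c16 LD2_c56 LD3_c28) Lrfl Lrfl
theorem f698646 : Led Lsl_ef (LP (LK LD1_c15 LD2_c26 LD3_c9)) = (LP (LK LD1_c16 LD2_c56 LD3_c28)) :=
  Lgr Lrot73 (Lpr_dt (f204843 IH) (Lpr_et (f698645 IH) (Lpe (f698635 IH) (Lpr_et (f698629 IH) (Lpr_dt (f173392 IH) (Lpn (LP (LK LD1_c16 LD2_c56 LD3_c28))))))))
theorem f20506 : Led Lsl_dt (LP (LK LD1_c2 LD2_c33 LD3_c37)) = (LP (LK LD1_c4 LD2_c34 LD3_c41)) :=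
  Lgr Lrot42 (Lpr_df (K35.f20502 IH) (Lpn (LP (LK LD1_c4 LD2_c34 LD3_c41))))
theorem f699629 : Led Lsl_df (LP (LK LD1_c5 LD2_c13 LD3_c32)) = v12925 :=
  Lgr Lrot78 (Lpr_ft (K18.f20518 IH) (Lpr_dt (f20506 IH) (Lpr_ft (f699626 IH) (Lpn v12925))))
theorem f302405 : Led Lsl_at (LP (LK LD1_c0 LD2_c34 LD3_c2)) = (LP (LK LD1_c0 LD2_c33 LD3_c23)) :=
  Lgr Lrot100 (Lpr_af (K18.f302403 IH) (Lpn (LP (LK LD1_c0 LD2_c33 LD3_c23))))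
theorem f302401 : Led Lsl_ff (LP (LK LD1_c0 LD2_c34 LD3_c9)) = (LP (LK LD1_c0 LD2_c33 LD3_c23)) :=
  Lgr Lrot3 (Lpr_ft (K18.f302397 IH) (Lpn (LP (LK LD1_c0 LD2_c33 LD3_c23))))
theorem f302637 : Led Lsl_at (LP (LK LD1_c0 LD2_c34 LD3_c9)) = (LP (LK LD1_c0 LD2_c33 LD3_c27)) :=
  Lgr Lrot66 (Lpr_ff (f302401 IH) (Lpe (f302405 IH) (Lpr_ff (K27.f302635 IH) (Lpn (LP (LK LD1_c0 LD2_c33 LD3_c27))))))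
theorem f302675 : Led Lsl_af (LP (LK LD1_c1 LD2_c13 LD3_c45)) = (LP (LK LD1_c1 LD2_c12 LD3_c17)) :=
  Lgr Lrot117 (Lpr_dt (K10.f20498 IH) (Lpr_at (f302637 IH) (Lpr_dt (K9.f22147 IH) (Lpn (LP (LK LD1_c1 LD2_c12 LD3_c17))))))
theorem f302677 : Led Lsl_at (LP (LK LD1_c2 LD2_c33 LD3_c37)) = (LP (LK LD1_c2 LD2_c30 LD3_c35)) :=
  Lgr Lrot80 (Lpe (K18.f20516 IH) (Lpr_af (f302675 IH) (Lpe (K11.f22144 IH) (Lpn (LP (LK LD1_c2 LD2_c30 LD3_c35))))))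
theorem f22155 : Led Lsl_ft (LP (LK LD1_c2 LD2_c30 LD3_c35)) = (LP (LK LD1_c5 LD2_c6 LD3_c38)) :=
  Lre_f IH (LK LD1_c2 LD2_c30 LD3_c35) (LK LD1_c5 LD2_c6 LD3_c38) Lrfl Lrfl
theorem f302683 : Led Lsl_af (LP (LK LD1_c5 LD2_c13 LD3_c32)) = (LP (LK LD1_c5 LD2_c6 LD3_c38)) :=
  Lgr Lrot45 (Lpr_ft (K18.f20518 IH) (Lpr_at (f302677 IH) (Lpr_ft (f22155 IH) (Lpn (LP (LK LD1_c5 LD2_c6 LD3_c38))))))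
theorem f22160 : Led Lsl_gt (LP (LK LD1_c2 LD2_c30 LD3_c35)) = (LP (LK LD1_c5 LD2_c6 LD3_c36)) :=
  Lre_g IH (LK LD1_c2 LD2_c30 LD3_c35) (LK LD1_c5 LD2_c6 LD3_c36) Lrfl Lrfl
theorem f302691 : Led Lsl_gf (LP (LK LD1_c5 LD2_c13 LD3_c32)) = (LP (LK LD1_c5 LD2_c6 LD3_c36)) :=
  Lgr Lrot76 (Lpr_af (f302683 IH) (Lpe (f22155 IH) (Lpr_gt (f22160 IH) (Lpn (LP (LK LD1_c5 LD2_c6 LD3_c36))))))
theorem f22168 : Led Lsl_dt (LP (LK LD1_c10 LD2_c3 LD3_c59)) = (LP (LK LD1_c5 LD2_c6 LD3_c36)) :=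
  Lre_d IH (LK LD1_c10 LD2_c3 LD3_c59) (LK LD1_c5 LD2_c6 LD3_c36) Lrfl Lrfl
theorem f22169 : Led Lsl_et (LP (LK LD1_c10 LD2_c3 LD3_c59)) = (LP (LK LD1_c18 LD2_c22 LD3_c36)) :=
  Lre_e IH (LK LD1_c10 LD2_c3 LD3_c59) (LK LD1_c18 LD2_c22 LD3_c36) Lrfl Lrfl
theorem f699639 : Led Lsl_gt (LP (LK LD1_c15 LD2_c26 LD3_c9)) = (LP (LK LD1_c18 LD2_c22 LD3_c36)) :=
  Lgr Lrot131 (Lpr_ef (f698646 IH) (Lpr_dt (f226000 IH) (Lpr_gf (f698637 IH) (Lpr_df (f698745 IH) (Lpe (f698748 IH) (Lpr_ef (f699630 IH) (Lpe (f699629 IH) (Lpr_gf (f302691 IH) (Lpe (f22168 IH) (Lpr_et (f22169 IH) (Lpn (LP (LK LD1_c18 LD2_c22 LD3_c36)))))))))))))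
theorem f699640 : Led Lsl_gt (LP (LK LD1_c15 LD2_c26 LD3_c9)) = (LP (LK LD1_c18 LD2_c22 LD3_c36)) :=
  Leop (Lpe (f699639 IH) (Lpn (LP (LK LD1_c15 LD2_c26 LD3_c9))))
theorem seed_650 : LEOK LG_g (LK LD1_c15 LD2_c26 LD3_c9) :=
  Leoe_g (LK LD1_c15 LD2_c26 LD3_c9) (f699640 IH)
theorem f226704 : Led Lsl_et (LP (LK LD1_c0 LD2_c29 LD3_c7)) = (LP (LK LD1_c1 LD2_c3 LD3_c53)) :=
  Lre_e IH (LK LD1_c0 LD2_c29 LD3_c7) (LK LD1_c1 LD2_c3 LD3_c53) Lrfl Lrfl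
theorem f242694 : Led Lsl_df (LP (LK LD1_c4 LD2_c34 LD3_c42)) = (LP (LK LD1_c2 LD2_c44 LD3_c39)) :=
  Lgr Lrot38 (Lpr_dt (K17.f242665 IH) (Lpn (LP (LK LD1_c2 LD2_c44 LD3_c39))))
theorem f698749 : Led Lsl_gf (LP (LK LD1_c4 LD2_c34 LD3_c42)) = v12875 :=
  Lgr Lrot145 (Lpr_df (f242694 IH) (Lpr_et (K17.f226703 IH) (Lpr_gt (K12.f226691 IH) (Lpr_dt (K12.f174526 IH) (Lpr_gt (K9.f26792 IH) (Lpe (K12.f173399 IH) (Lpr_et (f226704 IH) (Lpr_gt (K24.f140142 IH) (Lpe (f211871 IH) (Lpr_dt (f698743 IH) (Lpn v12875)))))))))))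
theorem f211867 : Led Lsl_dt (LP (LK LD1_c11 LD2_c6 LD3_c34)) = (LP (LK LD1_c5 LD2_c37 LD3_c23)) :=
  Lre_d IH (LK LD1_c11 LD2_c6 LD3_c34) (LK LD1_c5 LD2_c37 LD3_c23) Lrfl Lrfl
theorem f508160 : Led Lsl_ft (LP (LK LD1_c17 LD2_c7 LD3_c61)) = (LP (LK LD1_c9 LD2_c13 LD3_c39)) :=
  Lre_f IH (LK LD1_c17 LD2_c7 LD3_c61) (LK LD1_c9 LD2_c13 LD3_c39) Lrfl Lrfl
theorem f508163 : Led Lsl_gf (LP (LK LD1_c11 LD2_c49 LD3_c31)) = (LP (LK LD1_c17 LD2_c7 LD3_c61)) :=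
  Lgr Lrot47 (Lpr_gt (K35.f494570 IH) (Lpr_af (K35.f508156 IH) (Lpe (f508160 IH) (Lpn (LP (LK LD1_c17 LD2_c7 LD3_c61))))))
theorem f166191 : Led Lsl_gt (LP (LK LD1_c10 LD2_c2 LD3_c46)) = (LP (LK LD1_c5 LD2_c5 LD3_c54)) :=
  Lre_g IH (LK LD1_c10 LD2_c2 LD3_c46) (LK LD1_c5 LD2_c5 LD3_c54) Lrfl Lrfl
theorem f268358 : Led Lsl_gt (LP (LK LD1_c4 LD2_c39 LD3_c19)) = (LP (LK LD1_c9 LD2_c14 LD3_c16)) :=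
  Lre_g IH (LK LD1_c4 LD2_c39 LD3_c19) (LK LD1_c9 LD2_c14 LD3_c16) Lrfl Lrfl
theorem f268362 : Led Lsl_et (LP (LK LD1_c17 LD2_c8 LD3_c36)) = (LP (LK LD1_c9 LD2_c14 LD3_c16)) :=
  Lre_e IH (LK LD1_c17 LD2_c8 LD3_c36) (LK LD1_c9 LD2_c14 LD3_c16) Lrfl Lrfl
theorem f422758 : Led Lsl_df (LP (LK LD1_c10 LD2_c2 LD3_c46)) = (LP (LK LD1_c17 LD2_c8 LD3_c36)) :=
  Lgr Lrot170 (Lpr_gt (f166191 IH) (Lpr_df (K36.f177751 IH) (Lpr_et (K39.f268420 IH) (Lpr_gt (K9.f26684 IH) (Lpr_dt (K10.f26683 IH) (Lpr_gt (K9.f26663 IH) (Lpe (K11.f176076 IH) (Lpr_et (K30.f268291 IH) (Lpr_gt (f268358 IH) (Lpe (f268362 IH) (Lpn (LP (LK LD1_c17 LD2_c8 LD3_c36)))))))))))))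
theorem f23983 : Led Lsl_et (LP (LK LD1_c2 LD2_c48 LD3_c53)) = (LP (LK LD1_c1 LD2_c20 LD3_c33)) :=
  Lre_e IH (LK LD1_c2 LD2_c48 LD3_c53) (LK LD1_c1 LD2_c20 LD3_c33) Lrfl Lrfl
theorem f422764 : Led Lsl_gt (LP (LK LD1_c11 LD2_c22 LD3_c46)) = (LP (LK LD1_c17 LD2_c8 LD3_c36)) :=
  Lgr Lrot137 (Lpe (K17.f180492 IH) (Lpr_dt (K17.f180472 IH) (Lpe (K17.f180459 IH) (Lpe (K0.f9152 IH) (Lpr_et (f23983 IH) (Lpe (K9.f26684 IH) (Lpe (K39.f268420 IH) (Lpe (K36.f177751 IH) (Lpe (f166191 IH) (Lpr_df (f422758 IH) (Lpn (LP (LK LD1_c17 LD2_c8 LD3_c36)))))))))))))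
theorem f422763 : Led Lsl_et (LP (LK LD1_c9 LD2_c14 LD3_c16)) = (LP (LK LD1_c17 LD2_c8 LD3_c36)) :=
  Lre_e IH (LK LD1_c9 LD2_c14 LD3_c16) (LK LD1_c17 LD2_c8 LD3_c36) Lrfl Lrfl
theorem f508165 : Led Lsl_dt (LP (LK LD1_c9 LD2_c14 LD3_c16)) = (LP (LK LD1_c17 LD2_c7 LD3_c61)) :=
  Lgr Lrot136 (Lpr_et (f422763 IH) (Lpe (f422764 IH) (Lpe (K17.f180492 IH) (Lpr_dt (K17.f180472 IH) (Lpe (K17.f180459 IH) (Lpe (K0.f9152 IH) (Lpe (K17.f9196 IH) (Lpe (K35.f225987 IH) (Lpr_dt (K35.f494577 IH) (Lpr_gf (f508163 IH) (Lpn (LP (LK LD1_c17 LD2_c7 LD3_c61)))))))))))))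
theorem f508181 : Led Lsl_ft (LP (LK LD1_c6 LD2_c3 LD3_c39)) = (LP (LK LD1_c9 LD2_c14 LD3_c16)) :=
  Lgr Lrot54 (Lpr_df (K35.f508172 IH) (Lpe (f508160 IH) (Lpe (f508165 IH) (Lpn (LP (LK LD1_c9 LD2_c14 LD3_c16))))))
theorem f186207 : Led Lsl_gt (LP (LK LD1_c2 LD2_c57 LD3_c57)) = (LP (LK LD1_c6 LD2_c3 LD3_c38)) :=
  Lre_g IH (LK LD1_c2 LD2_c57 LD3_c57) (LK LD1_c6 LD2_c3 LD3_c38) Lrfl Lrfl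
theorem f508187 : Led Lsl_af (LP (LK LD1_c6 LD2_c3 LD3_c38)) = (LP (LK LD1_c9 LD2_c14 LD3_c16)) :=
  Lgr Lrot31 (Lpe (f186207 IH) (Lpe (K35.f268347 IH) (Lpr_ft (f508181 IH) (Lpn (LP (LK LD1_c9 LD2_c14 LD3_c16))))))
theorem f508167 : Led Lsl_df (LP (LK LD1_c9 LD2_c14 LD3_c16)) = (LP (LK LD1_c17 LD2_c7 LD3_c61)) :=
  Lgr Lrot38 (Lpr_dt (f508165 IH) (Lpn (LP (LK LD1_c17 LD2_c7 LD3_c61))))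
theorem f494583 : Led Lsl_ft (LP (LK LD1_c6 LD2_c2 LD3_c42)) = (LP (LK LD1_c11 LD2_c49 LD3_c32)) :=
  Lre_f IH (LK LD1_c6 LD2_c2 LD3_c42) (LK LD1_c11 LD2_c49 LD3_c32) Lrfl Lrfl
theorem f508161 : Led Lsl_at (LP (LK LD1_c11 LD2_c49 LD3_c32)) = (LP (LK LD1_c17 LD2_c7 LD3_c61)) :=
  Lgr Lrot66 (Lpe (f494583 IH) (Lpr_af (K35.f508156 IH) (Lpe (f508160 IH) (Lpn (LP (LK LD1_c17 LD2_c7 LD3_c61))))))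
theorem f508191 : Led Lsl_dt (LP (LK LD1_c6 LD2_c3 LD3_c38)) = (LP (LK LD1_c11 LD2_c49 LD3_c32)) :=
  Lgr Lrot44 (Lpr_af (f508187 IH) (Lpr_df (f508167 IH) (Lpe (f508161 IH) (Lpn (LP (LK LD1_c11 LD2_c49 LD3_c32))))))
theorem f9411 : Led Lsl_et (LP (LK LD1_c2 LD2_c13 LD3_c49)) = (LP (LK LD1_c4 LD2_c33 LD3_c55)) :=
  Lre_e IH (LK LD1_c2 LD2_c13 LD3_c49) (LK LD1_c4 LD2_c33 LD3_c55) Lrfl Lrfl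
theorem f186215 : Led Lsl_et (LP (LK LD1_c16 LD2_c57 LD3_c24)) = (LP (LK LD1_c9 LD2_c5 LD3_c22)) :=
  Lre_e IH (LK LD1_c16 LD2_c57 LD3_c24) (LK LD1_c9 LD2_c5 LD3_c22) Lrfl Lrfl
theorem f494582 : Led Lsl_ft (LP (LK LD1_c11 LD2_c49 LD3_c32)) = (LP (LK LD1_c6 LD2_c2 LD3_c42)) :=
  Lre_f IH (LK LD1_c11 LD2_c49 LD3_c32) (LK LD1_c6 LD2_c2 LD3_c42) Lrfl Lrfl
theorem f508174 : Led Lsl_gt (LP (LK LD1_c17 LD2_c7 LD3_c60)) = (LP (LK LD1_c9 LD2_c13 LD3_c39)) :=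
  Lre_g IH (LK LD1_c17 LD2_c7 LD3_c60) (LK LD1_c9 LD2_c13 LD3_c39) Lrfl Lrfl
theorem f508175 : Led Lsl_gt (LP (LK LD1_c11 LD2_c49 LD3_c32)) = (LP (LK LD1_c17 LD2_c7 LD3_c60)) :=
  Lgr Lrot5 (Lpr_ft (f494582 IH) (Lpr_at (K35.f508158 IH) (Lpe (f508174 IH) (Lpn (LP (LK LD1_c17 LD2_c7 LD3_c60))))))
theorem f508232 : Led Lsl_dt (LP (LK LD1_c16 LD2_c57 LD3_c24)) = (LP (LK LD1_c17 LD2_c7 LD3_c60)) :=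
  Lgr Lrot56 (Lpr_et (f186215 IH) (Lpr_gt (f68893 IH) (Lpe (f9411 IH) (Lpr_dt (K0.f9380 IH) (Lpr_gt (K9.f101494 IH) (Lpe (K10.f175571 IH) (Lpr_et (K35.f186206 IH) (Lpr_gt (f186207 IH) (Lpr_dt (f508191 IH) (Lpr_gt (f508175 IH) (Lpn (LP (LK LD1_c17 LD2_c7 LD3_c60)))))))))))))
theorem f211868 : Led Lsl_et (LP (LK LD1_c9 LD2_c5 LD3_c22)) = (LP (LK LD1_c16 LD2_c57 LD3_c24)) :=
  Lre_e IH (LK LD1_c9 LD2_c5 LD3_c22) (LK LD1_c16 LD2_c57 LD3_c24) Lrfl Lrfl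
theorem f211866 : Led Lsl_et (LP (LK LD1_c5 LD2_c37 LD3_c23)) = (LP (LK LD1_c11 LD2_c6 LD3_c35)) :=
  Lre_e IH (LK LD1_c5 LD2_c37 LD3_c23) (LK LD1_c11 LD2_c6 LD3_c35) Lrfl Lrfl
theorem f508236 : Led Lsl_ef (LP (LK LD1_c11 LD2_c6 LD3_c34)) = (LP (LK LD1_c17 LD2_c7 LD3_c60)) :=
  Lgr Lrot73 (Lpr_dt (f211867 IH) (Lpr_et (f211866 IH) (Lpr_dt (f211858 IH) (Lpr_et (f211868 IH) (Lpr_dt (f508232 IH) (Lpn (LP (LK LD1_c17 LD2_c7 LD3_c60))))))))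
theorem f508238 : Led Lsl_et (LP (LK LD1_c11 LD2_c6 LD3_c34)) = (LP (LK LD1_c17 LD2_c7 LD3_c60)) :=
  Lgr Lrot87 (Lpr_ef (f508236 IH) (Lpn (LP (LK LD1_c17 LD2_c7 LD3_c60))))
def v12874 : LQ := Led Lsl_et (LP (LK LD1_c4 LD2_c33 LD3_c46))
theorem f698731 : Led Lsl_et (LP (LK LD1_c4 LD2_c33 LD3_c46)) = v12874 :=
  Lrfl
theorem f698736 : Led Lsl_gt (LP (LK LD1_c5 LD2_c55 LD3_c15)) = v12874 :=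
  Lgr Lrot131 (Lpr_ef (K35.f508127 IH) (Lpr_dt (K24.f140054 IH) (Lpe (K24.f415141 IH) (Lpe (K24.f414619 IH) (Lpe (K17.f186139 IH) (Lpe (K32.f22929 IH) (Lpr_dt (K24.f22930 IH) (Lpe (K32.f140279 IH) (Lpe (K32.f140282 IH) (Lpr_et (f698731 IH) (Lpn v12874)))))))))))
theorem f185170 : Led Lsl_gt (LP (LK LD1_c1 LD2_c4 LD3_c37)) = (LP (LK LD1_c2 LD2_c14 LD3_c61)) :=
  Lre_g IH (LK LD1_c1 LD2_c4 LD3_c37) (LK LD1_c2 LD2_c14 LD3_c61) Lrfl Lrfl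
theorem f646017 : Led Lsl_gt K49.v4202 = K49.v5116 :=
  Lgr Lrot139 (Lpe (K49.f631845 IH) (Lpe (f185170 IH) (Lpe (K24.f82239 IH) (Lpr_dt (K0.f25186 IH) (Lpe (K0.f20307 IH) (Lpe (K0.f20189 IH) (Lpr_et (K0.f22999 IH) (Lpe (K24.f174605 IH) (Lpr_ef (K46.f494518 IH) (Lpq (K46.f645297 IH) (Lpr_dt (K49.f646015 IH) (Lpn K49.v5116))))))))))))
theorem f698737 : Led Lsl_gf (LP (LK LD1_c4 LD2_c35 LD3_c41)) = v12874 :=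
  Lgr Lrot141 (Lpe (K35.f435426 IH) (Lpr_dt (K49.f631845 IH) (Lpr_gt (f646017 IH) (Lpe (K49.f646015 IH) (Lpqs (K46.f645297 IH) (Lpe (K46.f494518 IH) (Lpr_gt (K24.f174605 IH) (Lpr_dt (K24.f23122 IH) (Lpr_gt (K24.f140142 IH) (Lpe (K32.f140282 IH) (Lpr_et (f698731 IH) (Lpn v12874))))))))))))
def v5491 : LQ := Led Lsl_dt (LP (LK LD1_c3 LD2_c8 LD3_c33))
theorem f647919 : Led Lsl_dt (LP (LK LD1_c3 LD2_c8 LD3_c33)) = v5491 :=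
  Lrfl
theorem f444005 : Led Lsl_ct (LP (LK LD1_c1 LD2_c36 LD3_c12)) = (LP (LK LD1_c3 LD2_c8 LD3_c54)) :=
  Lgr Lrot152 (Lpe (K35.f135636 IH) (Lpe (K6.f92219 IH) (Lpe (K32.f416954 IH) (Lpr_ct (K29.f443997 IH) (Lpr_gt (K29.f68641 IH) (Lpe (K11.f61870 IH) (Lpe (K11.f67105 IH) (Lpe (K11.f153545 IH) (Lpe (K29.f154645 IH) (Lpn (LP (LK LD1_c3 LD2_c8 LD3_c54))))))))))))
theorem f84054 : Led Lsl_gt (LP (LK LD1_c3 LD2_c8 LD3_c56)) = (LP (LK LD1_c6 LD2_c22 LD3_c27)) :=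
  Lre_g IH (LK LD1_c3 LD2_c8 LD3_c56) (LK LD1_c6 LD2_c22 LD3_c27) Lrfl Lrfl
theorem f444017 : Led Lsl_df (LP (LK LD1_c3 LD2_c19 LD3_c27)) = (LP (LK LD1_c6 LD2_c22 LD3_c27)) :=
  Lgr Lrot174 (Lpr_ct (K49.f24638 IH) (Lpe (K9.f24621 IH) (Lpe (K9.f24620 IH) (Lpe (K5.f24611 IH) (Lpe (K32.f24685 IH) (Lpr_ct (f444005 IH) (Lpr_gt (K29.f154645 IH) (Lpr_dt (K11.f84030 IH) (Lpr_gt (f84054 IH) (Lpn (LP (LK LD1_c6 LD2_c22 LD3_c27))))))))))))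
theorem f444023 : Led Lsl_dt (LP (LK LD1_c3 LD2_c19 LD3_c27)) = (LP (LK LD1_c6 LD2_c22 LD3_c27)) :=
  Lgr Lrot42 (Lpr_df (f444017 IH) (Lpn (LP (LK LD1_c6 LD2_c22 LD3_c27))))
theorem f153509 : Led Lsl_dt (LP (LK LD1_c3 LD2_c8 LD3_c57)) = (LP (LK LD1_c6 LD2_c22 LD3_c31)) :=
  Lre_d IH (LK LD1_c3 LD2_c8 LD3_c57) (LK LD1_c6 LD2_c22 LD3_c31) Lrfl Lrfl
theorem f61114 : Led Lsl_dt (LP (LK LD1_c9 LD2_c18 LD3_c51)) = (LP (LK LD1_c4 LD2_c42 LD3_c15)) :=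
  Lre_d IH (LK LD1_c9 LD2_c18 LD3_c51) (LK LD1_c4 LD2_c42 LD3_c15) Lrfl Lrfl
theorem f153523 : Led Lsl_at (LP (LK LD1_c6 LD2_c22 LD3_c31)) = (LP (LK LD1_c9 LD2_c18 LD3_c51)) :=
  Lgr Lrot51 (Lpe (f153509 IH) (Lpr_af (K7.f153504 IH) (Lpe (f61114 IH) (Lpn (LP (LK LD1_c9 LD2_c18 LD3_c51))))))
theorem f153542 : Led Lsl_ft (LP (LK LD1_c3 LD2_c8 LD3_c56)) = (LP (LK LD1_c6 LD2_c22 LD3_c31)) :=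
  Lre_f IH (LK LD1_c3 LD2_c8 LD3_c56) (LK LD1_c6 LD2_c22 LD3_c31) Lrfl Lrfl
theorem f153543 : Led Lsl_gt (LP (LK LD1_c6 LD2_c22 LD3_c27)) = (LP (LK LD1_c9 LD2_c18 LD3_c51)) :=
  Lgr Lrot46 (Lpe (f84054 IH) (Lpr_ft (f153542 IH) (Lpr_at (f153523 IH) (Lpn (LP (LK LD1_c9 LD2_c18 LD3_c51))))))
theorem f82618 : Led Lsl_gt (LP (LK LD1_c3 LD2_c8 LD3_c33)) = (LP (LK LD1_c1 LD2_c30 LD3_c27)) :=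
  Lre_g IH (LK LD1_c3 LD2_c8 LD3_c33) (LK LD1_c1 LD2_c30 LD3_c27) Lrfl Lrfl
theorem f435555 : Led Lsl_ct (LP (LK LD1_c6 LD2_c21 LD3_c43)) = (LP (LK LD1_c3 LD2_c8 LD3_c33)) :=
  Lre_c IH (LK LD1_c6 LD2_c21 LD3_c43) (LK LD1_c3 LD2_c8 LD3_c33) Lrfl Lrfl
theorem f444033 : Led Lsl_gf (LP (LK LD1_c3 LD2_c19 LD3_c27)) = (LP (LK LD1_c6 LD2_c21 LD3_c43)) :=
  Lgr Lrot144 (Lpr_dt (f444023 IH) (Lpr_gt (f153543 IH) (Lpr_dt (f61114 IH) (Lpe (K7.f61103 IH) (Lpe (K11.f61102 IH) (Lpe (K24.f435550 IH) (Lpe (K24.f82591 IH) (Lpe (f82618 IH) (Lpe (f435555 IH) (Lpn (LP (LK LD1_c6 LD2_c21 LD3_c43))))))))))))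
theorem f435553 : Led Lsl_ct (LP (LK LD1_c3 LD2_c8 LD3_c33)) = (LP (LK LD1_c6 LD2_c21 LD3_c43)) :=
  Lre_c IH (LK LD1_c3 LD2_c8 LD3_c33) (LK LD1_c6 LD2_c21 LD3_c43) Lrfl Lrfl
theorem f444035 : Led Lsl_gt (LP (LK LD1_c1 LD2_c30 LD3_c31)) = (LP (LK LD1_c3 LD2_c8 LD3_c33)) :=
  Lgr Lrot9 (Lpe (K32.f146039 IH) (Lpr_gt (K9.f67106 IH) (Lpe (K11.f204263 IH) (Lpr_gt (K32.f68929 IH) (Lpe (K35.f435573 IH) (Lpe (K32.f24640 IH) (Lpe (K49.f24638 IH) (Lpr_gf (f444033 IH) (Lpe (f435553 IH) (Lpn (LP (LK LD1_c3 LD2_c8 LD3_c33))))))))))))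
theorem f92157 : Led Lsl_dt (LP (LK LD1_c4 LD2_c48 LD3_c10)) = (LP (LK LD1_c2 LD2_c21 LD3_c60)) :=
  Lre_d IH (LK LD1_c4 LD2_c48 LD3_c10) (LK LD1_c2 LD2_c21 LD3_c60) Lrfl Lrfl
theorem f504277 : Led Lsl_gt (LP (LK LD1_c6 LD2_c21 LD3_c44)) = (LP (LK LD1_c3 LD2_c8 LD3_c45)) :=
  Lgr Lrot94 (Lpr_cf (K48.f504238 IH) (Lpe (K32.f135498 IH) (Lpr_dt (K32.f27091 IH) (Lpr_gt (K32.f20101 IH) (Lpr_dt (K32.f20123 IH) (Lpe (K32.f92142 IH) (Lpe (f92157 IH) (Lpe (K32.f438516 IH) (Lpe (K32.f438514 IH) (Lpn (LP (LK LD1_c3 LD2_c8 LD3_c45))))))))))))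
theorem f504284 : Led Lsl_gf (LP (LK LD1_c6 LD2_c21 LD3_c45)) = (LP (LK LD1_c3 LD2_c8 LD3_c45)) :=
  Lgr Lrot76 (Lpr_af (K32.f503551 IH) (Lpe (K35.f504233 IH) (Lpr_gt (f504277 IH) (Lpn (LP (LK LD1_c3 LD2_c8 LD3_c45))))))
theorem f435726 : Led Lsl_dt (LP (LK LD1_c6 LD2_c21 LD3_c45)) = (LP (LK LD1_c12 LD2_c17 LD3_c14)) :=
  Lre_d IH (LK LD1_c6 LD2_c21 LD3_c45) (LK LD1_c12 LD2_c17 LD3_c14) Lrfl Lrfl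
theorem f435709 : Led Lsl_dt (LP (LK LD1_c6 LD2_c21 LD3_c44)) = (LP (LK LD1_c12 LD2_c17 LD3_c12)) :=
  Lre_d IH (LK LD1_c6 LD2_c21 LD3_c44) (LK LD1_c12 LD2_c17 LD3_c12) Lrfl Lrfl
theorem f24642 : Led Lsl_dt (LP (LK LD1_c12 LD2_c4 LD3_c41)) = (LP (LK LD1_c6 LD2_c12 LD3_c45)) :=
  Lre_d IH (LK LD1_c12 LD2_c4 LD3_c41) (LK LD1_c6 LD2_c12 LD3_c45) Lrfl Lrfl
theorem f504231 : Led Lsl_at (LP (LK LD1_c12 LD2_c17 LD3_c12)) = (LP (LK LD1_c12 LD2_c4 LD3_c41)) :=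
  Lgr Lrot51 (Lpe (f435709 IH) (Lpr_af (K35.f504223 IH) (Lpe (f24642 IH) (Lpn (LP (LK LD1_c12 LD2_c4 LD3_c41))))))
theorem f504342 : Led Lsl_af (LP (LK LD1_c12 LD2_c17 LD3_c12)) = (LP (LK LD1_c12 LD2_c4 LD3_c41)) :=
  Lgr Lrot0 (Lpr_at (f504231 IH) (Lpn (LP (LK LD1_c12 LD2_c4 LD3_c41))))
theorem f435716 : Led Lsl_dt (LP (LK LD1_c12 LD2_c17 LD3_c12)) = (LP (LK LD1_c6 LD2_c21 LD3_c44)) :=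
  Lre_d IH (LK LD1_c12 LD2_c17 LD3_c12) (LK LD1_c6 LD2_c21 LD3_c44) Lrfl Lrfl
theorem f416989 : Led Lsl_dt (LP (LK LD1_c3 LD2_c19 LD3_c37)) = (LP (LK LD1_c6 LD2_c42 LD3_c61)) :=
  Lre_d IH (LK LD1_c3 LD2_c19 LD3_c37) (LK LD1_c6 LD2_c42 LD3_c61) Lrfl Lrfl
theorem f504279 : Led Lsl_gf (LP (LK LD1_c12 LD2_c17 LD3_c12)) = (LP (LK LD1_c6 LD2_c42 LD3_c61)) :=
  Lgr Lrot143 (Lpr_dt (f435716 IH) (Lpr_cf (K48.f504238 IH) (Lpe (K24.f20143 IH) (Lpe (K35.f437527 IH) (Lpe (K35.f143897 IH) (Lpe (K35.f135636 IH) (Lpe (K6.f92121 IH) (Lpr_gt (K35.f438283 IH) (Lpr_dt (f416989 IH) (Lpn (LP (LK LD1_c6 LD2_c42 LD3_c61))))))))))))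
theorem f504246 : Led Lsl_ft (LP (LK LD1_c12 LD2_c17 LD3_c12)) = (LP (LK LD1_c12 LD2_c17 LD3_c60)) :=
  Lgr Lrot54 (Lpe (f435709 IH) (Lpr_ff (K35.f504242 IH) (Lpr_df (K32.f503563 IH) (Lpn (LP (LK LD1_c12 LD2_c17 LD3_c60))))))
theorem f435727 : Led Lsl_dt (LP (LK LD1_c12 LD2_c17 LD3_c14)) = (LP (LK LD1_c6 LD2_c21 LD3_c45)) :=
  Lre_d IH (LK LD1_c12 LD2_c17 LD3_c14) (LK LD1_c6 LD2_c21 LD3_c45) Lrfl Lrfl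
theorem f503610 : Led Lsl_at (LP (LK LD1_c12 LD2_c17 LD3_c60)) = (LP (LK LD1_c12 LD2_c17 LD3_c14)) :=
  Lgr Lrot51 (Lpe (K32.f503567 IH) (Lpr_af (K32.f503598 IH) (Lpe (f435727 IH) (Lpn (LP (LK LD1_c12 LD2_c17 LD3_c14))))))
theorem f504344 : Led Lsl_ft (LP (LK LD1_c12 LD2_c17 LD3_c14)) = (LP (LK LD1_c12 LD2_c4 LD3_c41)) :=
  Lgr Lrot101 (Lpe (f503610 IH) (Lpe (f504246 IH) (Lpr_af (f504342 IH) (Lpn (LP (LK LD1_c12 LD2_c4 LD3_c41))))))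
theorem f504346 : Led Lsl_gf (LP (LK LD1_c6 LD2_c42 LD3_c61)) = (LP (LK LD1_c12 LD2_c17 LD3_c14)) :=
  Lgr Lrot47 (Lpe (f504279 IH) (Lpr_af (f504342 IH) (Lpe (f504344 IH) (Lpn (LP (LK LD1_c12 LD2_c17 LD3_c14))))))
theorem f135654 : Led Lsl_dt (LP (LK LD1_c6 LD2_c42 LD3_c61)) = (LP (LK LD1_c3 LD2_c19 LD3_c37)) :=
  Lre_d IH (LK LD1_c6 LD2_c42 LD3_c61) (LK LD1_c3 LD2_c19 LD3_c37) Lrfl Lrfl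
theorem f647924 : Led Lsl_gf K35.v2819 = v5491 :=
  Lgr Lrot143 (Lpe (K35.f535760 IH) (Lpr_cf (K35.f500076 IH) (Lpe (f135654 IH) (Lpr_gf (f504346 IH) (Lpe (f435726 IH) (Lpr_gf (f504284 IH) (Lpe (K32.f435544 IH) (Lpr_gt (f444035 IH) (Lpr_dt (f647919 IH) (Lpn v5491))))))))))
theorem f698738 : Led Lsl_ct v5491 = v12874 :=
  Lgr Lrot8 (Lpe (f647924 IH) (Lpe (K35.f535760 IH) (Lpr_gt (K32.f61083 IH) (Lpr_dt (K32.f61071 IH) (Lpr_cf (K8.f60960 IH) (Lpe (K11.f61080 IH) (Lpe (K32.f61081 IH) (Lpe (K35.f61082 IH) (Lpr_gf (f698737 IH) (Lpn v12874))))))))))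
theorem f435527 : Led Lsl_dt (LP (LK LD1_c1 LD2_c24 LD3_c26)) = (LP (LK LD1_c2 LD2_c57 LD3_c24)) :=
  Lre_d IH (LK LD1_c1 LD2_c24 LD3_c26) (LK LD1_c2 LD2_c57 LD3_c24) Lrfl Lrfl
theorem f419125 : Led Lsl_gt (LP (LK LD1_c6 LD2_c2 LD3_c34)) = (LP (LK LD1_c2 LD2_c57 LD3_c21)) :=
  Lre_g IH (LK LD1_c6 LD2_c2 LD3_c34) (LK LD1_c2 LD2_c57 LD3_c21) Lrfl Lrfl
theorem f507810 : Led Lsl_gf (LP (LK LD1_c6 LD2_c2 LD3_c34)) = (LP (LK LD1_c2 LD2_c57 LD3_c24)) :=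
  Lgr Lrot47 (Lpr_gt (f419125 IH) (Lpr_af (K45.f507790 IH) (Lpe (K45.f506965 IH) (Lpn (LP (LK LD1_c2 LD2_c57 LD3_c24))))))
theorem f698739 : Led Lsl_dt (LP (LK LD1_c6 LD2_c2 LD3_c34)) = v12874 :=
  Lgr Lrot113 (Lpr_gf (f507810 IH) (Lpe (f435527 IH) (Lpr_gf (K32.f435525 IH) (Lpr_ct (K11.f61076 IH) (Lpe (K32.f435542 IH) (Lpr_dt (K32.f146039 IH) (Lpr_gt (f444035 IH) (Lpr_dt (f647919 IH) (Lpr_ct (f698738 IH) (Lpn v12874))))))))))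
theorem f698750 : Led Lsl_et (LP (LK LD1_c6 LD2_c2 LD3_c34)) = v12875 :=
  Lgr Lrot121 (Lpr_dt (f698739 IH) (Lpe (f698736 IH) (Lpr_df (K35.f508153 IH) (Lpr_et (K35.f508155 IH) (Lpe (f508174 IH) (Lpe (f508238 IH) (Lpr_dt (f211867 IH) (Lpe (f211853 IH) (Lpe (K17.f242665 IH) (Lpr_gf (f698749 IH) (Lpn v12875)))))))))))
theorem f419099 : Led Lsl_et (LP (LK LD1_c4 LD2_c38 LD3_c58)) = (LP (LK LD1_c9 LD2_c13 LD3_c41)) :=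
  Lre_e IH (LK LD1_c4 LD2_c38 LD3_c58) (LK LD1_c9 LD2_c13 LD3_c41) Lrfl Lrfl
theorem f699641 : Led Lsl_gt (LP (LK LD1_c9 LD2_c13 LD3_c41)) = (LP (LK LD1_c10 LD2_c3 LD3_c59)) :=
  Lgr Lrot137 (Lpe (f419099 IH) (Lpr_dt (K32.f419089 IH) (Lpr_gf (f698737 IH) (Lpe (f698739 IH) (Lpr_et (f698750 IH) (Lpe (f698748 IH) (Lpr_ef (f699630 IH) (Lpe (f699629 IH) (Lpr_gf (f302691 IH) (Lpe (f22168 IH) (Lpn (LP (LK LD1_c10 LD2_c3 LD3_c59)))))))))))))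
theorem f699642 : Led Lsl_gt (LP (LK LD1_c9 LD2_c13 LD3_c41)) = (LP (LK LD1_c10 LD2_c3 LD3_c59)) :=
  Leop (Lpe (f699641 IH) (Lpn (LP (LK LD1_c9 LD2_c13 LD3_c41))))
theorem seed_651 : LEOK LG_g (LK LD1_c9 LD2_c13 LD3_c41) :=
  Leoe_g (LK LD1_c9 LD2_c13 LD3_c41) (f699642 IH)
def v12951 : LQ := Led Lsl_ft (LP (LK LD1_c4 LD2_c35 LD3_c14))
theorem f699782 : Led Lsl_ft (LP (LK LD1_c4 LD2_c35 LD3_c14)) = v12951 :=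
  Lrfl
def v12948 : LQ := Led Lsl_gt (LP (LK LD1_c4 LD2_c35 LD3_c14))
theorem f699767 : Led Lsl_gt (LP (LK LD1_c4 LD2_c35 LD3_c14)) = v12948 :=
  Lrfl
def v4937 : LQ := Led Lsl_ft (LP (LK LD1_c2 LD2_c53 LD3_c1))
theorem f640985 : Led Lsl_ft (LP (LK LD1_c2 LD2_c53 LD3_c1)) = v4937 :=
  Lrfl
theorem f640986 : Led Lsl_ff (LP (LK LD1_c2 LD2_c53 LD3_c1)) = v4937 :=
  Lgr Lrot3 (Lpr_ft (f640985 IH) (Lpn v4937))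
theorem f699783 : Led Lsl_af v4937 = v12951 :=
  Lgr Lrot45 (Lpe (f640986 IH) (Lpe (K36.f449278 IH) (Lpr_ft (f699782 IH) (Lpn v12951))))
theorem f699786 : Led Lsl_gt v12948 = v4937 :=
  Lgr Lrot46 (Lpe (f699767 IH) (Lpr_ft (f699782 IH) (Lpe (f699783 IH) (Lpn v4937))))
def v12949 : LQ := Led Lsl_gf (LP (LK LD1_c4 LD2_c35 LD3_c14))
theorem f699768 : Led Lsl_gf (LP (LK LD1_c4 LD2_c35 LD3_c14)) = v12949 :=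
  Lrfl
theorem f699769 : Led Lsl_gt v4937 = v12949 :=
  Lgr Lrot5 (Lpe (f640986 IH) (Lpe (K36.f449278 IH) (Lpr_gf (f699768 IH) (Lpn v12949))))
theorem f164292 : Led Lsl_et (LP (LK LD1_c2 LD2_c14 LD3_c48)) = (LP (LK LD1_c4 LD2_c35 LD3_c14)) :=
  Lre_e IH (LK LD1_c2 LD2_c14 LD3_c48) (LK LD1_c4 LD2_c35 LD3_c14) Lrfl Lrfl
theorem f71440 : Led Lsl_et (LP (LK LD1_c1 LD2_c4 LD3_c47)) = (LP (LK LD1_c2 LD2_c15 LD3_c26)) :=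
  Lre_e IH (LK LD1_c1 LD2_c4 LD3_c47) (LK LD1_c2 LD2_c15 LD3_c26) Lrfl Lrfl
def v4983 : LQ := Led Lsl_gt (LP (LK LD1_c2 LD2_c54 LD3_c56))
theorem f641174 : Led Lsl_gt (LP (LK LD1_c2 LD2_c54 LD3_c56)) = v4983 :=
  Lrfl
theorem f82919 : Led Lsl_dt (LP (LK LD1_c1 LD2_c23 LD3_c22)) = (LP (LK LD1_c2 LD2_c54 LD3_c56)) :=
  Lre_d IH (LK LD1_c1 LD2_c23 LD3_c22) (LK LD1_c2 LD2_c54 LD3_c56) Lrfl Lrfl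
theorem f82897 : Led Lsl_ft (LP (LK LD1_c2 LD2_c15 LD3_c27)) = (LP (LK LD1_c1 LD2_c4 LD3_c46)) :=
  Lre_f IH (LK LD1_c2 LD2_c15 LD3_c27) (LK LD1_c1 LD2_c4 LD3_c46) Lrfl Lrfl
theorem f443042 : Led Lsl_gt (LP (LK LD1_c2 LD2_c15 LD3_c27)) = (LP (LK LD1_c1 LD2_c23 LD3_c22)) :=
  Lgr Lrot5 (Lpr_ft (f82897 IH) (Lpr_at (K24.f71328 IH) (Lpe (K0.f23783 IH) (Lpn (LP (LK LD1_c1 LD2_c23 LD3_c22))))))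
theorem f452317 : Led Lsl_gf (LP (LK LD1_c3 LD2_c13 LD3_c2)) = (LP (LK LD1_c1 LD2_c33 LD3_c1)) :=
  Lgr Lrot147 (Lpe (K24.f446006 IH) (Lpr_gt (K24.f452309 IH) (Lpr_ct (K0.f23786 IH) (Lpe (K0.f22521 IH) (Lpe (K35.f442869 IH) (Lpe (K32.f82898 IH) (Lpr_cf (K4.f82888 IH) (Lpe (K11.f82680 IH) (Lpe (K11.f82681 IH) (Lpn (LP (LK LD1_c1 LD2_c33 LD3_c1))))))))))))
theorem f641176 : Led Lsl_df (LP (LK LD1_c4 LD2_c49 LD3_c28)) = v4983 :=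
  Lgr Lrot84 (Lpr_cf (K48.f509828 IH) (Lpr_df (K35.f445967 IH) (Lpr_gf (f452317 IH) (Lpe (K24.f82697 IH) (Lpr_gf (K11.f452307 IH) (Lpe (K24.f452304 IH) (Lpr_gt (f443042 IH) (Lpr_dt (f82919 IH) (Lpr_gt (f641174 IH) (Lpn v4983))))))))))
theorem f699771 : Led Lsl_et v4983 = v12949 :=
  Lgr Lrot185 (Lpe (f641176 IH) (Lpr_gf (K48.f509907 IH) (Lpe (K32.f442817 IH) (Lpe (K24.f23027 IH) (Lpe (f71440 IH) (Lpr_dt (K2.f37712 IH) (Lpr_gf (K10.f175503 IH) (Lpe (K16.f164274 IH) (Lpr_et (f164292 IH) (Lpr_gf (f699768 IH) (Lpn v12949)))))))))))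
theorem f699774 : Led Lsl_ef v4983 = v12949 :=
  Lgr Lrot88 (Lpr_et (f699771 IH) (Lpn v12949))
def v6370 : LQ := Led Lsl_dt (LP (LK LD1_c3 LD2_c20 LD3_c61))
theorem f653062 : Led Lsl_dt (LP (LK LD1_c3 LD2_c20 LD3_c61)) = v6370 :=
  Lrfl
def v1367 : LQ := Led Lsl_ft (LP (LK LD1_c1 LD2_c8 LD3_c21))
theorem f495151 : Led Lsl_ft (LP (LK LD1_c1 LD2_c8 LD3_c21)) = v1367 :=
  Lrfl
theorem f509875 : (LP (LK LD1_c0 LD2_c44 LD3_c49)) = v1367 :=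
  Lefun (Lecon (Lfl_ff (K32.f453983 IH)) (K35.f509845 IH)) (f495151 IH)
theorem f414607 : Led Lsl_ft (LP (LK LD1_c1 LD2_c36 LD3_c47)) = (LP (LK LD1_c3 LD2_c20 LD3_c61)) :=
  Lre_f IH (LK LD1_c1 LD2_c36 LD3_c47) (LK LD1_c3 LD2_c20 LD3_c61) Lrfl Lrfl
theorem f634173 : Led Lsl_et (LP (LK LD1_c3 LD2_c20 LD3_c61)) = K35.v4487 :=
  Lgr Lrot69 (Lpe (f414607 IH) (Lpe (K24.f414612 IH) (Lpqs (f509875 IH) (Lpe (f495151 IH) (Lpe (K0.f27114 IH) (Lpr_ff (K35.f634169 IH) (Lpn K35.v4487)))))))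
def v4208 : LQ := Led Lsl_dt (LP (LK LD1_c2 LD2_c15 LD3_c25))
theorem f631888 : Led Lsl_dt (LP (LK LD1_c2 LD2_c15 LD3_c25)) = v4208 :=
  Lrfl
theorem f653068 : Led Lsl_gt v4208 = v6370 :=
  Lgr Lrot112 (Lpe (f631888 IH) (Lpr_et (K32.f144088 IH) (Lpe (K35.f503797 IH) (Lpr_ef (K38.f140647 IH) (Lpr_dt (K16.f59826 IH) (Lpe (K24.f59829 IH) (Lpr_df (K32.f509413 IH) (Lpr_gf (K35.f634174 IH) (Lpe (f634173 IH) (Lpr_dt (f653062 IH) (Lpn v6370)))))))))))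
def v4489 : LQ := Led Lsl_dt (LP (LK LD1_c2 LD2_c22 LD3_c31))
theorem f634202 : Led Lsl_dt (LP (LK LD1_c2 LD2_c22 LD3_c31)) = v4489 :=
  Lrfl
theorem f631890 : Led Lsl_df (LP (LK LD1_c2 LD2_c15 LD3_c25)) = v4208 :=
  Lgr Lrot38 (Lpr_dt (f631888 IH) (Lpn v4208))
theorem f634205 : Led Lsl_gf v4208 = v4489 :=
  Lgr Lrot143 (Lpe (f631890 IH) (Lpe (K32.f144089 IH) (Lpe (K32.f144062 IH) (Lpr_gf (K32.f24658 IH) (Lpe (K24.f23206 IH) (Lpr_gf (K24.f446145 IH) (Lpe (K32.f68372 IH) (Lpr_gt (K48.f507769 IH) (Lpr_dt (f634202 IH) (Lpn v4489))))))))))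
theorem f59504 : Led Lsl_et (LP (LK LD1_c0 LD2_c17 LD3_c6)) = (LP (LK LD1_c0 LD2_c38 LD3_c24)) :=
  Lre_e IH (LK LD1_c0 LD2_c17 LD3_c6) (LK LD1_c0 LD2_c38 LD3_c24) Lrfl Lrfl
theorem f452818 : Led Lsl_ef (LP (LK LD1_c2 LD2_c15 LD3_c27)) = K24.v437 :=
  Lgr Lrot21 (Lpr_ft (f82897 IH) (Lpr_et (K2.f23025 IH) (Lpr_ft (K24.f71313 IH) (Lpr_et (f59504 IH) (Lpr_ft (K24.f452815 IH) (Lpn K24.v437))))))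
def v4204 : LQ := Led Lsl_gt (LP (LK LD1_c2 LD2_c15 LD3_c1))
theorem f631859 : Led Lsl_gt (LP (LK LD1_c2 LD2_c15 LD3_c1)) = v4204 :=
  Lrfl
theorem f442793 : Led Lsl_ft (LP (LK LD1_c2 LD2_c15 LD3_c1)) = (LP (LK LD1_c4 LD2_c35 LD3_c45)) :=
  Lre_f IH (LK LD1_c2 LD2_c15 LD3_c1) (LK LD1_c4 LD2_c35 LD3_c45) Lrfl Lrfl
theorem f500489 : Led Lsl_at (LP (LK LD1_c4 LD2_c35 LD3_c45)) = K35.v1638 :=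
  Lgr Lrot66 (Lpe (f442793 IH) (Lpe (K35.f71522 IH) (Lpr_ff (K35.f500488 IH) (Lpn K35.v1638))))
theorem f631860 : Led Lsl_gf K35.v1638 = v4204 :=
  Lgr Lrot76 (Lpe (f500489 IH) (Lpe (f442793 IH) (Lpr_gt (f631859 IH) (Lpn v4204))))
theorem f186190 : Led Lsl_gt (LP (LK LD1_c2 LD2_c15 LD3_c0)) = (LP (LK LD1_c1 LD2_c4 LD3_c37)) :=
  Lre_g IH (LK LD1_c2 LD2_c15 LD3_c0) (LK LD1_c1 LD2_c4 LD3_c37) Lrfl Lrfl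
theorem f631863 : Led Lsl_dt K35.v1730 = v4204 :=
  Lgr Lrot56 (Lpe (K35.f501188 IH) (Lpe (K17.f414511 IH) (Lpe (K9.f27127 IH) (Lpr_dt (K17.f77023 IH) (Lpr_gt (K24.f414530 IH) (Lpe (K24.f414531 IH) (Lpr_et (K35.f414532 IH) (Lpr_gt (f186190 IH) (Lpr_dt (K35.f27165 IH) (Lpr_gt (f631859 IH) (Lpn v4204)))))))))))
theorem f141042 : Led Lsl_ft (LP (LK LD1_c3 LD2_c20 LD3_c52)) = (LP (LK LD1_c1 LD2_c36 LD3_c44)) :=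
  Lre_f IH (LK LD1_c3 LD2_c20 LD3_c52) (LK LD1_c1 LD2_c36 LD3_c44) Lrfl Lrfl
theorem f446010 : Led Lsl_ft (LP (LK LD1_c2 LD2_c22 LD3_c31)) = (LP (LK LD1_c4 LD2_c49 LD3_c28)) :=
  Lre_f IH (LK LD1_c2 LD2_c22 LD3_c31) (LK LD1_c4 LD2_c49 LD3_c28) Lrfl Lrfl
theorem f510134 : Led Lsl_et (LP (LK LD1_c4 LD2_c49 LD3_c28)) = (LP (LK LD1_c3 LD2_c20 LD3_c52)) :=
  Lgr Lrot69 (Lpe (f446010 IH) (Lpe (K35.f76938 IH) (Lpqs (K35.f509878 IH) (Lpe (K35.f453984 IH) (Lpe (K0.f22848 IH) (Lpe (f141042 IH) (Lpn (LP (LK LD1_c3 LD2_c20 LD3_c52)))))))))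
theorem f641177 : Led Lsl_dt (LP (LK LD1_c4 LD2_c49 LD3_c28)) = v4983 :=
  Lgr Lrot56 (Lpr_et (f510134 IH) (Lpqs (K35.f509911 IH) (Lpe (K32.f509795 IH) (Lpr_ef (K35.f501188 IH) (Lpr_dt (f631863 IH) (Lpe (f631860 IH) (Lpe (K35.f500490 IH) (Lpe (f452818 IH) (Lpr_gt (f443042 IH) (Lpr_dt (f82919 IH) (Lpr_gt (f641174 IH) (Lpn v4983))))))))))))
theorem f634204 : Led Lsl_df (LP (LK LD1_c2 LD2_c22 LD3_c31)) = v4489 :=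
  Lgr Lrot38 (Lpr_dt (f634202 IH) (Lpn v4489))
theorem f641178 : Led Lsl_ff v4489 = v4983 :=
  Lgr Lrot19 (Lpe (f634204 IH) (Lpr_ft (f446010 IH) (Lpr_dt (f641177 IH) (Lpn v4983))))
theorem f641179 : Led Lsl_ft v4489 = v4983 :=
  Lgr Lrot48 (Lpr_ff (f641178 IH) (Lpn v4983))
theorem f653069 : Led Lsl_at v4983 = v6370 :=
  Lgr Lrot26 (Lpe (f641179 IH) (Lpe (f634205 IH) (Lpr_gt (f653068 IH) (Lpn v6370))))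
theorem f495153 : Led Lsl_ff (LP (LK LD1_c1 LD2_c8 LD3_c21)) = v1367 :=
  Lgr Lrot3 (Lpr_ft (f495151 IH) (Lpn v1367))
theorem f414613 : Led Lsl_ft (LP (LK LD1_c3 LD2_c20 LD3_c61)) = (LP (LK LD1_c1 LD2_c36 LD3_c47)) :=
  Lre_f IH (LK LD1_c3 LD2_c20 LD3_c61) (LK LD1_c1 LD2_c36 LD3_c47) Lrfl Lrfl
theorem f634168 : Led Lsl_ef (LP (LK LD1_c3 LD2_c20 LD3_c61)) = K35.v4487 :=
  Lgr Lrot21 (Lpr_ft (f414613 IH) (Lpr_et (K24.f414505 IH) (Lpqs (f509875 IH) (Lpe (f495153 IH) (Lpr_et (K9.f27127 IH) (Lpr_ft (K35.f634164 IH) (Lpn K35.v4487)))))))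
theorem f194000 : Led Lsl_et (LP (LK LD1_c9 LD2_c17 LD3_c27)) = (LP (LK LD1_c4 LD2_c40 LD3_c60)) :=
  Lre_e IH (LK LD1_c9 LD2_c17 LD3_c27) (LK LD1_c4 LD2_c40 LD3_c60) Lrfl Lrfl
theorem f24492 : Led Lsl_gt (LP (LK LD1_c5 LD2_c53 LD3_c24)) = (LP (LK LD1_c2 LD2_c53 LD3_c1)) :=
  Lre_g IH (LK LD1_c5 LD2_c53 LD3_c24) (LK LD1_c2 LD2_c53 LD3_c1) Lrfl Lrfl
theorem f194001 : Led Lsl_df (LP (LK LD1_c5 LD2_c53 LD3_c24)) = (LP (LK LD1_c9 LD2_c17 LD3_c27)) :=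
  Lgr Lrot170 (Lpr_gt (f24492 IH) (Lpe (K36.f177007 IH) (Lpr_et (K36.f177000 IH) (Lpr_gt (K35.f193988 IH) (Lpr_dt (K16.f60110 IH) (Lpr_gt (K10.f9538 IH) (Lpe (K1.f9524 IH) (Lpr_et (K35.f22899 IH) (Lpr_gt (K24.f22858 IH) (Lpe (f194000 IH) (Lpn (LP (LK LD1_c9 LD2_c17 LD3_c27)))))))))))))
theorem f194004 : Led Lsl_dt (LP (LK LD1_c5 LD2_c53 LD3_c24)) = (LP (LK LD1_c9 LD2_c17 LD3_c27)) :=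
  Lgr Lrot42 (Lpr_df (f194001 IH) (Lpn (LP (LK LD1_c9 LD2_c17 LD3_c27))))
theorem f653065 : Led Lsl_ef (LP (LK LD1_c5 LD2_c53 LD3_c24)) = v6370 :=
  Lgr Lrot73 (Lpr_dt (f194004 IH) (Lpr_et (f194000 IH) (Lpr_dt (K35.f634172 IH) (Lpe (f634168 IH) (Lpr_dt (f653062 IH) (Lpn v6370))))))
theorem f699775 : Led Lsl_at (LP (LK LD1_c5 LD2_c53 LD3_c24)) = v12949 :=
  Lgr Lrot80 (Lpr_ef (f653065 IH) (Lpe (f653069 IH) (Lpr_ef (f699774 IH) (Lpn v12949))))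
theorem f699787 : Led Lsl_ft v12948 = (LP (LK LD1_c5 LD2_c53 LD3_c24)) :=
  Lgr Lrot2 (Lpr_gt (f699786 IH) (Lpr_gt (f699769 IH) (Lpe (f699775 IH) (Lpn (LP (LK LD1_c5 LD2_c53 LD3_c24))))))
theorem f699788 : Led Lsl_ff v12948 = (LP (LK LD1_c5 LD2_c53 LD3_c24)) :=
  Lgr Lrot3 (Lpr_ft (f699787 IH) (Lpn (LP (LK LD1_c5 LD2_c53 LD3_c24))))
theorem f71458 : Led Lsl_gt (LP (LK LD1_c2 LD2_c53 LD3_c1)) = (LP (LK LD1_c5 LD2_c53 LD3_c23)) :=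
  Lre_g IH (LK LD1_c2 LD2_c53 LD3_c1) (LK LD1_c5 LD2_c53 LD3_c23) Lrfl Lrfl
theorem f699789 : Led Lsl_at v12948 = (LP (LK LD1_c5 LD2_c53 LD3_c23)) :=
  Lgr Lrot26 (Lpr_ff (f699788 IH) (Lpr_gt (f24492 IH) (Lpr_gt (f71458 IH) (Lpn (LP (LK LD1_c5 LD2_c53 LD3_c23))))))
theorem f509899 : Led Lsl_af (LP (LK LD1_c4 LD2_c49 LD3_c28)) = (LP (LK LD1_c3 LD2_c20 LD3_c61)) :=
  Lgr Lrot45 (Lpr_ft (K35.f446014 IH) (Lpq (K35.f509896 IH) (Lpe (K35.f509439 IH) (Lpr_ft (f414607 IH) (Lpn (LP (LK LD1_c3 LD2_c20 LD3_c61)))))))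
theorem f510144 : Led Lsl_cf (LP (LK LD1_c3 LD2_c20 LD3_c61)) = (LP (LK LD1_c3 LD2_c13 LD3_c1)) :=
  Lgr Lrot1 (Lpe (f509899 IH) (Lpr_ct (K48.f510142 IH) (Lpe (K35.f509832 IH) (Lpn (LP (LK LD1_c3 LD2_c13 LD3_c1))))))
theorem f510150 : Led Lsl_gt (LP (LK LD1_c3 LD2_c20 LD3_c61)) = (LP (LK LD1_c3 LD2_c14 LD3_c33)) :=
  Lgr Lrot94 (Lpr_cf (f510144 IH) (Lpe (K24.f454654 IH) (Lpr_dt (K11.f82681 IH) (Lpr_gt (K11.f82680 IH) (Lpe (K11.f82665 IH) (Lpe (K4.f82893 IH) (Lpe (K32.f24477 IH) (Lpe (K32.f23926 IH) (Lpe (K32.f435447 IH) (Lpn (LP (LK LD1_c3 LD2_c14 LD3_c33))))))))))))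
theorem f507254 : Led Lsl_at (LP (LK LD1_c2 LD2_c57 LD3_c22)) = (LP (LK LD1_c3 LD2_c14 LD3_c33)) :=
  Lgr Lrot100 (Lpr_af (K35.f507252 IH) (Lpn (LP (LK LD1_c3 LD2_c14 LD3_c33))))
theorem f507228 : Led Lsl_ff (LP (LK LD1_c2 LD2_c57 LD3_c22)) = (LP (LK LD1_c3 LD2_c14 LD3_c27)) :=
  Lgr Lrot23 (Lpe (K35.f435576 IH) (Lpr_ft (K35.f507222 IH) (Lpr_ct (K42.f23789 IH) (Lpn (LP (LK LD1_c3 LD2_c14 LD3_c27))))))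
theorem f510152 : Led Lsl_gf (LP (LK LD1_c3 LD2_c20 LD3_c61)) = (LP (LK LD1_c3 LD2_c14 LD3_c27)) :=
  Lgr Lrot47 (Lpr_gt (f510150 IH) (Lpe (f507254 IH) (Lpr_ff (f507228 IH) (Lpn (LP (LK LD1_c3 LD2_c14 LD3_c27))))))
theorem f510154 : Led Lsl_af (LP (LK LD1_c3 LD2_c20 LD3_c61)) = (LP (LK LD1_c4 LD2_c49 LD3_c28)) :=
  Lgr Lrot31 (Lpr_gf (f510152 IH) (Lpe (K24.f452309 IH) (Lpr_ft (f446010 IH) (Lpn (LP (LK LD1_c4 LD2_c49 LD3_c28))))))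
theorem f653063 : Led Lsl_af v4983 = v6370 :=
  Lgr Lrot117 (Lpe (f641176 IH) (Lpe (f510154 IH) (Lpr_dt (f653062 IH) (Lpn v6370))))
theorem f653071 : Led Lsl_et (LP (LK LD1_c5 LD2_c53 LD3_c24)) = v6370 :=
  Lgr Lrot87 (Lpr_ef (f653065 IH) (Lpn v6370))
theorem f699772 : Led Lsl_af (LP (LK LD1_c5 LD2_c53 LD3_c24)) = v12949 :=
  Lgr Lrot50 (Lpr_et (f653071 IH) (Lpe (f653063 IH) (Lpr_et (f699771 IH) (Lpn v12949))))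
theorem f699793 : Led Lsl_ff v12949 = (LP (LK LD1_c5 LD2_c53 LD3_c23)) :=
  Lgr Lrot30 (Lpe (f699772 IH) (Lpe (f699788 IH) (Lpr_at (f699789 IH) (Lpn (LP (LK LD1_c5 LD2_c53 LD3_c23))))))
theorem f180392 : Led Lsl_et (LP (LK LD1_c6 LD2_c12 LD3_c10)) = (LP (LK LD1_c3 LD2_c2 LD3_c39)) :=
  Lre_e IH (LK LD1_c6 LD2_c12 LD3_c10) (LK LD1_c3 LD2_c2 LD3_c39) Lrfl Lrfl
theorem f699773 : Led Lsl_df (LP (LK LD1_c6 LD2_c12 LD3_c10)) = v12949 :=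
  Lgr Lrot70 (Lpr_et (f180392 IH) (Lpr_dt (K32.f509796 IH) (Lpq (K35.f509911 IH) (Lpe (K35.f509903 IH) (Lpr_dt (f641177 IH) (Lpr_et (f699771 IH) (Lpn v12949)))))))
theorem f177014 : Led Lsl_dt (LP (LK LD1_c11 LD2_c32 LD3_c52)) = (LP (LK LD1_c5 LD2_c53 LD3_c23)) :=
  Lre_d IH (LK LD1_c11 LD2_c32 LD3_c52) (LK LD1_c5 LD2_c53 LD3_c23) Lrfl Lrfl
theorem f699795 : Led Lsl_ft (LP (LK LD1_c6 LD2_c12 LD3_c10)) = (LP (LK LD1_c11 LD2_c32 LD3_c52)) :=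
  Lgr Lrot54 (Lpr_df (f699773 IH) (Lpr_ff (f699793 IH) (Lpe (f177014 IH) (Lpn (LP (LK LD1_c11 LD2_c32 LD3_c52))))))
theorem f699796 : Led Lsl_ft (LP (LK LD1_c6 LD2_c12 LD3_c10)) = (LP (LK LD1_c11 LD2_c32 LD3_c52)) :=
  Leop (Lpe (f699795 IH) (Lpn (LP (LK LD1_c6 LD2_c12 LD3_c10))))
theorem seed_652 : LEOK LG_f (LK LD1_c6 LD2_c12 LD3_c10) :=
  Leoe_f (LK LD1_c6 LD2_c12 LD3_c10) (f699796 IH)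
def v12997 : LQ := Led Lsl_dt (LP (LK LD1_c4 LD2_c36 LD3_c31))
theorem f700084 : Led Lsl_dt (LP (LK LD1_c4 LD2_c36 LD3_c31)) = v12997 :=
  Lrfl
theorem f507063 : Led Lsl_et (LP (LK LD1_c4 LD2_c36 LD3_c31)) = (LP (LK LD1_c9 LD2_c9 LD3_c11)) :=
  Lre_e IH (LK LD1_c4 LD2_c36 LD3_c31) (LK LD1_c9 LD2_c9 LD3_c11) Lrfl Lrfl
theorem f414694 : Led Lsl_gt (LP (LK LD1_c5 LD2_c44 LD3_c54)) = (LP (LK LD1_c11 LD2_c20 LD3_c2)) :=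
  Lre_g IH (LK LD1_c5 LD2_c44 LD3_c54) (LK LD1_c11 LD2_c20 LD3_c2) Lrfl Lrfl
theorem f641723 : Led Lsl_dt (LP (LK LD1_c9 LD2_c13 LD3_c58)) = (LP (LK LD1_c9 LD2_c9 LD3_c11)) :=
  Lre_d IH (LK LD1_c9 LD2_c13 LD3_c58) (LK LD1_c9 LD2_c9 LD3_c11) Lrfl Lrfl
theorem f641726 : Led Lsl_ft (LP (LK LD1_c9 LD2_c9 LD3_c11)) = (LP (LK LD1_c11 LD2_c46 LD3_c61)) :=
  Lgr Lrot54 (Lpe (f641723 IH) (Lpr_ff (K41.f641721 IH) (Lpe (K41.f641664 IH) (Lpn (LP (LK LD1_c11 LD2_c46 LD3_c61))))))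
theorem f642122 : Led Lsl_gf (LP (LK LD1_c5 LD2_c44 LD3_c54)) = (LP (LK LD1_c9 LD2_c9 LD3_c11)) :=
  Lgr Lrot47 (Lpr_gt (f414694 IH) (Lpr_af (K41.f642118 IH) (Lpe (f641726 IH) (Lpn (LP (LK LD1_c9 LD2_c9 LD3_c11))))))
theorem f414695 : Led Lsl_dt (LP (LK LD1_c5 LD2_c44 LD3_c54)) = (LP (LK LD1_c2 LD2_c48 LD3_c15)) :=
  Lre_d IH (LK LD1_c5 LD2_c44 LD3_c54) (LK LD1_c2 LD2_c48 LD3_c15) Lrfl Lrfl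
theorem f140497 : Led Lsl_gt (LP (LK LD1_c2 LD2_c48 LD3_c15)) = (LP (LK LD1_c5 LD2_c44 LD3_c9)) :=
  Lre_g IH (LK LD1_c2 LD2_c48 LD3_c15) (LK LD1_c5 LD2_c44 LD3_c9) Lrfl Lrfl
theorem f75891 : Led Lsl_et (LP (LK LD1_c2 LD2_c56 LD3_c7)) = (LP (LK LD1_c4 LD2_c49 LD3_c0)) :=
  Lre_e IH (LK LD1_c2 LD2_c56 LD3_c7) (LK LD1_c4 LD2_c49 LD3_c0) Lrfl Lrfl
theorem f634145 : Led Lsl_gt (LP (LK LD1_c4 LD2_c49 LD3_c0)) = (LP (LK LD1_c2 LD2_c22 LD3_c23)) :=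
  Lre_g IH (LK LD1_c4 LD2_c49 LD3_c0) (LK LD1_c2 LD2_c22 LD3_c23) Lrfl Lrfl
theorem f427775 : Led Lsl_et (LP (LK LD1_c4 LD2_c49 LD3_c8)) = (LP (LK LD1_c2 LD2_c22 LD3_c23)) :=
  Lre_e IH (LK LD1_c4 LD2_c49 LD3_c8) (LK LD1_c2 LD2_c22 LD3_c23) Lrfl Lrfl
theorem f427776 : Led Lsl_dt (LP (LK LD1_c4 LD2_c49 LD3_c8)) = (LP (LK LD1_c9 LD2_c30 LD3_c60)) :=
  Lre_d IH (LK LD1_c4 LD2_c49 LD3_c8) (LK LD1_c9 LD2_c30 LD3_c60) Lrfl Lrfl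
theorem f700089 : Led Lsl_gt (LP (LK LD1_c9 LD2_c30 LD3_c60)) = v12997 :=
  Lgr Lrot112 (Lpe (f427776 IH) (Lpr_et (f427775 IH) (Lpe (f634145 IH) (Lpe (f75891 IH) (Lpr_dt (K5.f75883 IH) (Lpe (f140497 IH) (Lpe (f414695 IH) (Lpr_gf (f642122 IH) (Lpe (f507063 IH) (Lpr_dt (f700084 IH) (Lpn v12997)))))))))))
theorem f644025 : Led Lsl_ct (LP (LK LD1_c9 LD2_c30 LD3_c60)) = (LP (LK LD1_c17 LD2_c32 LD3_c37)) :=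
  Lre_c IH (LK LD1_c9 LD2_c30 LD3_c60) (LK LD1_c17 LD2_c32 LD3_c37) Lrfl Lrfl
theorem f700090 : Led Lsl_gt (LP (LK LD1_c17 LD2_c32 LD3_c37)) = (LP (LK LD1_c27 LD2_c21 LD3_c48)) :=
  Lre_g IH (LK LD1_c17 LD2_c32 LD3_c37) (LK LD1_c27 LD2_c21 LD3_c48) Lrfl Lrfl
theorem f700087 : Led Lsl_df (LP (LK LD1_c4 LD2_c36 LD3_c31)) = v12997 :=
  Lgr Lrot38 (Lpr_dt (f700084 IH) (Lpn v12997))
theorem f426313 : Led Lsl_dt (LP (LK LD1_c2 LD2_c55 LD3_c37)) = (LP (LK LD1_c5 LD2_c58 LD3_c28)) :=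
  Lre_d IH (LK LD1_c2 LD2_c55 LD3_c37) (LK LD1_c5 LD2_c58 LD3_c28) Lrfl Lrfl
theorem f428335 : Led Lsl_dt (LP (LK LD1_c20 LD2_c41 LD3_c31)) = (LP (LK LD1_c11 LD2_c41 LD3_c30)) :=
  Lre_d IH (LK LD1_c20 LD2_c41 LD3_c31) (LK LD1_c11 LD2_c41 LD3_c30) Lrfl Lrfl
theorem f428336 : Led Lsl_gt (LP (LK LD1_c29 LD2_c35 LD3_c29)) = (LP (LK LD1_c20 LD2_c41 LD3_c31)) :=
  Lre_g IH (LK LD1_c29 LD2_c35 LD3_c29) (LK LD1_c20 LD2_c41 LD3_c31) Lrfl Lrfl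
theorem f700091 : Led Lsl_dt (LP (LK LD1_c27 LD2_c21 LD3_c48)) = (LP (LK LD1_c29 LD2_c35 LD3_c29)) :=
  Lgr Lrot57 (Lpe (f700090 IH) (Lpe (f644025 IH) (Lpr_gt (f700089 IH) (Lpe (f700087 IH) (Lpqs (K41.f641739 IH) (Lpqs (K41.f642149 IH) (Lpe (K41.f641333 IH) (Lpr_dt (f426313 IH) (Lpe (K46.f428303 IH) (Lpe (f428335 IH) (Lpe (f428336 IH) (Lpn (LP (LK LD1_c29 LD2_c35 LD3_c29))))))))))))))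
theorem f700092 : Led Lsl_dt (LP (LK LD1_c27 LD2_c21 LD3_c48)) = (LP (LK LD1_c29 LD2_c35 LD3_c29)) :=
  Leop (Lpe (f700091 IH) (Lpn (LP (LK LD1_c27 LD2_c21 LD3_c48))))
theorem seed_653 : LEOK LG_d (LK LD1_c27 LD2_c21 LD3_c48) :=
  Leoe_d (LK LD1_c27 LD2_c21 LD3_c48) (f700092 IH)
def v13010 : LQ := Led Lsl_dt (LP (LK LD1_c4 LD2_c37 LD3_c14))
theorem f700170 : Led Lsl_dt (LP (LK LD1_c4 LD2_c37 LD3_c14)) = v13010 :=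
  Lrfl
theorem f69224 : Led Lsl_et (LP (LK LD1_c6 LD2_c2 LD3_c32)) = (LP (LK LD1_c2 LD2_c57 LD3_c19)) :=
  Lre_e IH (LK LD1_c6 LD2_c2 LD3_c32) (LK LD1_c2 LD2_c57 LD3_c19) Lrfl Lrfl
theorem f69229 : Led Lsl_dt (LP (LK LD1_c11 LD2_c49 LD3_c21)) = (LP (LK LD1_c6 LD2_c2 LD3_c32)) :=
  Lre_d IH (LK LD1_c11 LD2_c49 LD3_c21) (LK LD1_c6 LD2_c2 LD3_c32) Lrfl Lrfl
theorem f700174 : Led Lsl_ef (LP (LK LD1_c11 LD2_c49 LD3_c21)) = v13010 :=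
  Lgr Lrot73 (Lpr_dt (f69229 IH) (Lpr_et (f69224 IH) (Lpr_dt (K45.f204218 IH) (Lpe (K45.f622249 IH) (Lpr_dt (f700170 IH) (Lpn v13010))))))
theorem f700175 : Led Lsl_et (LP (LK LD1_c11 LD2_c49 LD3_c21)) = v13010 :=
  Lgr Lrot87 (Lpr_ef (f700174 IH) (Lpn v13010))
theorem f622256 : Led Lsl_et (LP (LK LD1_c4 LD2_c37 LD3_c14)) = (LP (LK LD1_c6 LD2_c2 LD3_c31)) :=
  Lgr Lrot87 (Lpr_ef (K45.f622249 IH) (Lpn (LP (LK LD1_c6 LD2_c2 LD3_c31))))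
theorem f420491 : Led Lsl_ct (LP (LK LD1_c11 LD2_c48 LD3_c54)) = (LP (LK LD1_c20 LD2_c51 LD3_c22)) :=
  Lre_c IH (LK LD1_c11 LD2_c48 LD3_c54) (LK LD1_c20 LD2_c51 LD3_c22) Lrfl Lrfl
theorem f614927 : Led Lsl_ct (LP (LK LD1_c11 LD2_c49 LD3_c20)) = (LP (LK LD1_c6 LD2_c2 LD3_c31)) :=
  Lre_c IH (LK LD1_c11 LD2_c49 LD3_c20) (LK LD1_c6 LD2_c2 LD3_c31) Lrfl Lrfl
theorem f614928 : Led Lsl_ft (LP (LK LD1_c20 LD2_c51 LD3_c22)) = (LP (LK LD1_c11 LD2_c49 LD3_c20)) :=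
  Lgr Lrot4 (Lpe (f420491 IH) (Lpr_ff (K45.f614922 IH) (Lpe (f614927 IH) (Lpn (LP (LK LD1_c11 LD2_c49 LD3_c20))))))
theorem f614936 : Led Lsl_ff (LP (LK LD1_c20 LD2_c51 LD3_c22)) = (LP (LK LD1_c11 LD2_c49 LD3_c20)) :=
  Lgr Lrot3 (Lpr_ft (f614928 IH) (Lpn (LP (LK LD1_c11 LD2_c49 LD3_c20))))
theorem f557988 : Led Lsl_ct (LP (LK LD1_c20 LD2_c51 LD3_c22)) = (LP (LK LD1_c11 LD2_c48 LD3_c54)) :=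
  Lre_c IH (LK LD1_c20 LD2_c51 LD3_c22) (LK LD1_c11 LD2_c48 LD3_c54) Lrfl Lrfl
theorem f419103 : Led Lsl_ct (LP (LK LD1_c6 LD2_c2 LD3_c28)) = (LP (LK LD1_c11 LD2_c49 LD3_c18)) :=
  Lre_c IH (LK LD1_c6 LD2_c2 LD3_c28) (LK LD1_c11 LD2_c49 LD3_c18) Lrfl Lrfl
theorem f614906 : Led Lsl_af (LP (LK LD1_c20 LD2_c51 LD3_c22)) = (LP (LK LD1_c11 LD2_c49 LD3_c18)) :=
  Lgr Lrot68 (Lpr_ct (f557988 IH) (Lpr_at (K45.f614902 IH) (Lpr_ct (f419103 IH) (Lpn (LP (LK LD1_c11 LD2_c49 LD3_c18))))))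
theorem f614908 : Led Lsl_at (LP (LK LD1_c20 LD2_c51 LD3_c22)) = (LP (LK LD1_c11 LD2_c49 LD3_c18)) :=
  Lgr Lrot100 (Lpr_af (f614906 IH) (Lpn (LP (LK LD1_c11 LD2_c49 LD3_c18))))
theorem f614614 : Led Lsl_ff (LP (LK LD1_c6 LD2_c2 LD3_c28)) = (LP (LK LD1_c5 LD2_c55 LD3_c13)) :=
  Lgr Lrot3 (Lpr_ft (K45.f614610 IH) (Lpn (LP (LK LD1_c5 LD2_c55 LD3_c13))))
theorem f435584 : Led Lsl_ct (LP (LK LD1_c11 LD2_c35 LD3_c56)) = (LP (LK LD1_c5 LD2_c55 LD3_c13)) :=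
  Lre_c IH (LK LD1_c11 LD2_c35 LD3_c56) (LK LD1_c5 LD2_c55 LD3_c13) Lrfl Lrfl
theorem f614616 : Led Lsl_ft (LP (LK LD1_c11 LD2_c49 LD3_c18)) = (LP (LK LD1_c11 LD2_c35 LD3_c56)) :=
  Lgr Lrot4 (Lpe (f419103 IH) (Lpr_ff (f614614 IH) (Lpe (f435584 IH) (Lpn (LP (LK LD1_c11 LD2_c35 LD3_c56))))))
theorem f614940 : Led Lsl_at (LP (LK LD1_c11 LD2_c35 LD3_c56)) = (LP (LK LD1_c11 LD2_c49 LD3_c20)) :=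
  Lgr Lrot66 (Lpe (f614616 IH) (Lpe (f614908 IH) (Lpr_ff (f614936 IH) (Lpn (LP (LK LD1_c11 LD2_c49 LD3_c20))))))
theorem f435618 : Led Lsl_ct (LP (LK LD1_c5 LD2_c55 LD3_c13)) = (LP (LK LD1_c11 LD2_c35 LD3_c56)) :=
  Lre_c IH (LK LD1_c5 LD2_c55 LD3_c13) (LK LD1_c11 LD2_c35 LD3_c56) Lrfl Lrfl
theorem f614942 : Led Lsl_af (LP (LK LD1_c5 LD2_c55 LD3_c13)) = (LP (LK LD1_c6 LD2_c2 LD3_c31)) :=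
  Lgr Lrot68 (Lpr_ct (f435618 IH) (Lpr_at (f614940 IH) (Lpr_ct (f614927 IH) (Lpn (LP (LK LD1_c6 LD2_c2 LD3_c31))))))
theorem f622258 : Led Lsl_af (LP (LK LD1_c4 LD2_c37 LD3_c14)) = (LP (LK LD1_c2 LD2_c53 LD3_c56)) :=
  Lgr Lrot50 (Lpr_et (f622256 IH) (Lpe (f614942 IH) (Lpr_et (K49.f508541 IH) (Lpn (LP (LK LD1_c2 LD2_c53 LD3_c56))))))
theorem f700171 : Led Lsl_af (LP (LK LD1_c5 LD2_c55 LD3_c12)) = v13010 :=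
  Lgr Lrot117 (Lpr_dt (K49.f435627 IH) (Lpe (f622258 IH) (Lpr_dt (f700170 IH) (Lpn v13010))))
theorem f700176 : Led Lsl_af (LP (LK LD1_c11 LD2_c49 LD3_c21)) = (LP (LK LD1_c11 LD2_c35 LD3_c57)) :=
  Lgr Lrot50 (Lpr_et (f700175 IH) (Lpe (f700171 IH) (Lpr_et (K49.f614981 IH) (Lpn (LP (LK LD1_c11 LD2_c35 LD3_c57))))))
theorem f700177 : Led Lsl_at (LP (LK LD1_c11 LD2_c35 LD3_c57)) = (LP (LK LD1_c11 LD2_c49 LD3_c21)) :=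
  Leop (Lpr_af (f700176 IH) (Lpn (LP (LK LD1_c11 LD2_c35 LD3_c57))))
theorem seed_654 : LEOK LG_a (LK LD1_c11 LD2_c35 LD3_c57) :=
  Leoe_a (LK LD1_c11 LD2_c35 LD3_c57) (f700177 IH)
def v13027 : LQ := Led Lsl_gf (LP (LK LD1_c4 LD2_c37 LD3_c53))
theorem f700243 : Led Lsl_gf (LP (LK LD1_c4 LD2_c37 LD3_c53)) = v13027 :=
  Lrfl
theorem f80187 : Led Lsl_dt (LP (LK LD1_c2 LD2_c16 LD3_c5)) = (LP (LK LD1_c4 LD2_c37 LD3_c53)) :=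
  Lre_d IH (LK LD1_c2 LD2_c16 LD3_c5) (LK LD1_c4 LD2_c37 LD3_c53) Lrfl Lrfl
theorem f494480 : Led Lsl_et (LP (LK LD1_c1 LD2_c4 LD3_c58)) = (LP (LK LD1_c2 LD2_c15 LD3_c59)) :=
  Lre_e IH (LK LD1_c1 LD2_c4 LD3_c58) (LK LD1_c2 LD2_c15 LD3_c59) Lrfl Lrfl
def v4213 : LQ := Led Lsl_gt (LP (LK LD1_c2 LD2_c15 LD3_c59))
theorem f631924 : Led Lsl_gt (LP (LK LD1_c2 LD2_c15 LD3_c59)) = v4213 :=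
  Lrfl
theorem f642780 : (LP (LK LD1_c4 LD2_c36 LD3_c29)) = v4213 :=
  (Llr Lrot26 (Lpe (K45.f504766 IH) (Lpr_ff (K45.f641169 IH) (Lpq (K45.f641760 IH) (Lpq (K45.f642558 IH) (Lpr_gt (K46.f100012 IH) (Lpr_gt (f631924 IH) (Lpn v4213)))))))).symm
theorem f700247 : Led Lsl_dt (LP (LK LD1_c9 LD2_c9 LD3_c8)) = v13027 :=
  Lgr Lrot136 (Lpr_et (K45.f504763 IH) (Lpqs (f642780 IH) (Lpe (f631924 IH) (Lpe (f494480 IH) (Lpr_dt (K6.f99632 IH) (Lpe (K5.f57102 IH) (Lpe (K6.f40640 IH) (Lpe (K4.f26401 IH) (Lpe (K35.f79951 IH) (Lpr_dt (f80187 IH) (Lpr_gf (f700243 IH) (Lpn v13027))))))))))))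
theorem f700250 : Led Lsl_df (LP (LK LD1_c9 LD2_c9 LD3_c8)) = v13027 :=
  Lgr Lrot38 (Lpr_dt (f700247 IH) (Lpn v13027))
theorem f71362 : Led Lsl_gt (LP (LK LD1_c2 LD2_c15 LD3_c24)) = (LP (LK LD1_c1 LD2_c23 LD3_c24)) :=
  Lgr Lrot46 (Lpe (K32.f71361 IH) (Lpr_ft (K2.f71312 IH) (Lpr_at (K2.f71339 IH) (Lpn (LP (LK LD1_c1 LD2_c23 LD3_c24))))))
theorem f71367 : Led Lsl_ct (LP (LK LD1_c4 LD2_c36 LD3_c29)) = (LP (LK LD1_c9 LD2_c9 LD3_c7)) :=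
  Lre_c IH (LK LD1_c4 LD2_c36 LD3_c29) (LK LD1_c9 LD2_c9 LD3_c7) Lrfl Lrfl
theorem f642556 : Led Lsl_gt (LP (LK LD1_c6 LD2_c10 LD3_c54)) = (LP (LK LD1_c9 LD2_c9 LD3_c7)) :=
  Lgr Lrot65 (Lpe (K8.f99971 IH) (Lpr_bt (K8.f138978 IH) (Lpqs (K45.f642553 IH) (Lpe (K45.f640872 IH) (Lpe (K41.f445623 IH) (Lpr_ct (K24.f445604 IH) (Lpr_gf (K24.f82886 IH) (Lpe (K24.f82895 IH) (Lpe (f71362 IH) (Lpe (K45.f71364 IH) (Lpr_ct (f71367 IH) (Lpn (LP (LK LD1_c9 LD2_c9 LD3_c7))))))))))))))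
theorem f100004 : Led Lsl_et (LP (LK LD1_c4 LD2_c38 LD3_c2)) = (LP (LK LD1_c2 LD2_c16 LD3_c8)) :=
  Lre_e IH (LK LD1_c4 LD2_c38 LD3_c2) (LK LD1_c2 LD2_c16 LD3_c8) Lrfl Lrfl
theorem f100005 : Led Lsl_dt (LP (LK LD1_c4 LD2_c38 LD3_c2)) = (LP (LK LD1_c9 LD2_c11 LD3_c45)) :=
  Lre_d IH (LK LD1_c4 LD2_c38 LD3_c2) (LK LD1_c9 LD2_c11 LD3_c45) Lrfl Lrfl
theorem f100006 : Led Lsl_gt (LP (LK LD1_c17 LD2_c5 LD3_c30)) = (LP (LK LD1_c9 LD2_c11 LD3_c45)) :=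
  Lre_g IH (LK LD1_c17 LD2_c5 LD3_c30) (LK LD1_c9 LD2_c11 LD3_c45) Lrfl Lrfl
theorem f642845 : Led Lsl_df (LP (LK LD1_c17 LD2_c5 LD3_c30)) = (LP (LK LD1_c17 LD2_c2 LD3_c12)) :=
  Lgr Lrot170 (Lpr_gt (f100006 IH) (Lpe (f100005 IH) (Lpr_et (f100004 IH) (Lpr_gt (K6.f80051 IH) (Lpr_dt (K6.f80096 IH) (Lpr_gt (K6.f15594 IH) (Lpr_df (K6.f99944 IH) (Lpr_et (K45.f99993 IH) (Lpr_gt (f642556 IH) (Lpe (K45.f504740 IH) (Lpn (LP (LK LD1_c17 LD2_c2 LD3_c12)))))))))))))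
theorem f642849 : Led Lsl_dt (LP (LK LD1_c17 LD2_c5 LD3_c30)) = (LP (LK LD1_c17 LD2_c2 LD3_c12)) :=
  Lgr Lrot42 (Lpr_df (f642845 IH) (Lpn (LP (LK LD1_c17 LD2_c2 LD3_c12))))
theorem f498188 : Led Lsl_af (LP (LK LD1_c9 LD2_c11 LD3_c45)) = (LP (LK LD1_c6 LD2_c39 LD3_c4)) :=
  Lgr Lrot0 (Lpr_at (K32.f498184 IH) (Lpn (LP (LK LD1_c6 LD2_c39 LD3_c4))))
theorem f57047 : Led Lsl_ft (LP (LK LD1_c12 LD2_c43 LD3_c50)) = (LP (LK LD1_c6 LD2_c39 LD3_c4)) :=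
  Lre_f IH (LK LD1_c12 LD2_c43 LD3_c50) (LK LD1_c6 LD2_c39 LD3_c4) Lrfl Lrfl
theorem f499448 : Led Lsl_gf (LP (LK LD1_c17 LD2_c5 LD3_c30)) = (LP (LK LD1_c12 LD2_c43 LD3_c50)) :=
  Lgr Lrot47 (Lpr_gt (f100006 IH) (Lpr_af (f498188 IH) (Lpe (f57047 IH) (Lpn (LP (LK LD1_c12 LD2_c43 LD3_c50))))))
theorem f207123 : Led Lsl_af (LP (LK LD1_c4 LD2_c37 LD3_c53)) = (LP (LK LD1_c3 LD2_c20 LD3_c28)) :=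
  Lgr Lrot117 (Lpr_dt (K35.f79952 IH) (Lpr_at (K35.f207118 IH) (Lpr_dt (K46.f116918 IH) (Lpn (LP (LK LD1_c3 LD2_c20 LD3_c28))))))
theorem f207148 : Led Lsl_ft (LP (LK LD1_c6 LD2_c44 LD3_c44)) = (LP (LK LD1_c3 LD2_c20 LD3_c28)) :=
  Lre_f IH (LK LD1_c6 LD2_c44 LD3_c44) (LK LD1_c3 LD2_c20 LD3_c28) Lrfl Lrfl
theorem f700244 : Led Lsl_gt (LP (LK LD1_c6 LD2_c44 LD3_c44)) = v13027 :=
  Lgr Lrot5 (Lpr_ft (f207148 IH) (Lpe (f207123 IH) (Lpr_gf (f700243 IH) (Lpn v13027))))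
theorem f40625 : Led Lsl_gt (LP (LK LD1_c2 LD2_c16 LD3_c5)) = (LP (LK LD1_c4 LD2_c37 LD3_c51)) :=
  Lre_g IH (LK LD1_c2 LD2_c16 LD3_c5) (LK LD1_c4 LD2_c37 LD3_c51) Lrfl Lrfl
theorem f207251 : Led Lsl_gt (LP (LK LD1_c4 LD2_c37 LD3_c51)) = (LP (LK LD1_c3 LD2_c20 LD3_c29)) :=
  Lgr Lrot46 (Lpe (f40625 IH) (Lpr_ft (f206892 IH) (Lpr_at (K35.f207132 IH) (Lpn (LP (LK LD1_c3 LD2_c20 LD3_c29))))))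
theorem f152562 : Led Lsl_ct (LP (LK LD1_c9 LD2_c11 LD3_c21)) = (LP (LK LD1_c4 LD2_c37 LD3_c51)) :=
  Lre_c IH (LK LD1_c9 LD2_c11 LD3_c21) (LK LD1_c4 LD2_c37 LD3_c51) Lrfl Lrfl
theorem f700254 : Led Lsl_gf (LP (LK LD1_c6 LD2_c39 LD3_c5)) = (LP (LK LD1_c9 LD2_c11 LD3_c21)) :=
  Lgr Lrot144 (Lpr_dt (K32.f57032 IH) (Lpe (f499448 IH) (Lpr_dt (f642849 IH) (Lpe (K45.f504723 IH) (Lpr_df (f700250 IH) (Lpe (f700244 IH) (Lpe (K35.f207156 IH) (Lpe (f207251 IH) (Lpe (f152562 IH) (Lpn (LP (LK LD1_c9 LD2_c11 LD3_c21))))))))))))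
theorem f700255 : Led Lsl_gt (LP (LK LD1_c9 LD2_c11 LD3_c21)) = (LP (LK LD1_c6 LD2_c39 LD3_c5)) :=
  Leop (Lpr_gf (f700254 IH) (Lpn (LP (LK LD1_c9 LD2_c11 LD3_c21))))
theorem seed_655 : LEOK LG_g (LK LD1_c9 LD2_c11 LD3_c21) :=
  Leoe_g (LK LD1_c9 LD2_c11 LD3_c21) (f700255 IH)
def v13032 : LQ := Led Lsl_ft (LP (LK LD1_c4 LD2_c38 LD3_c11))
theorem f700607 : Led Lsl_ft (LP (LK LD1_c4 LD2_c38 LD3_c11)) = v13032 :=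
  Lrfl
theorem f642625 : Led Lsl_ct (LP (LK LD1_c9 LD2_c12 LD3_c2)) = (LP (LK LD1_c17 LD2_c6 LD3_c3)) :=
  Lre_c IH (LK LD1_c9 LD2_c12 LD3_c2) (LK LD1_c17 LD2_c6 LD3_c3) Lrfl Lrfl
def v13031 : LQ := Led Lsl_at (LP (LK LD1_c4 LD2_c38 LD3_c11))
theorem f700602 : Led Lsl_at (LP (LK LD1_c4 LD2_c38 LD3_c11)) = v13031 :=
  Lrfl
theorem f700603 : Led Lsl_af (LP (LK LD1_c4 LD2_c38 LD3_c11)) = v13031 :=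
  Lgr Lrot0 (Lpr_at (f700602 IH) (Lpn v13031))
theorem f700605 : Led Lsl_ft (LP (LK LD1_c4 LD2_c38 LD3_c12)) = v13031 :=
  Lgr Lrot2 (Lpr_gt (K9.f100356 IH) (Lpr_gt (K45.f99952 IH) (Lpr_af (f700603 IH) (Lpn v13031))))
theorem f700608 : Led Lsl_af (LP (LK LD1_c4 LD2_c38 LD3_c12)) = v13032 :=
  Lgr Lrot45 (Lpr_ft (f700605 IH) (Lpe (f700603 IH) (Lpr_ft (f700607 IH) (Lpn v13032))))
theorem f140156 : Led Lsl_dt (LP (LK LD1_c17 LD2_c6 LD3_c8)) = (LP (LK LD1_c9 LD2_c12 LD3_c5)) :=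
  Lre_d IH (LK LD1_c17 LD2_c6 LD3_c8) (LK LD1_c9 LD2_c12 LD3_c5) Lrfl Lrfl
theorem f140154 : Led Lsl_ct (LP (LK LD1_c4 LD2_c38 LD3_c12)) = (LP (LK LD1_c9 LD2_c12 LD3_c5)) :=
  Lre_c IH (LK LD1_c4 LD2_c38 LD3_c12) (LK LD1_c9 LD2_c12 LD3_c5) Lrfl Lrfl
theorem f644454 : Led Lsl_ct (LP (LK LD1_c26 LD2_c51 LD3_c47)) = (LP (LK LD1_c17 LD2_c6 LD3_c8)) :=
  Lgr Lrot110 (Lpr_gf (K45.f644448 IH) (Lpe (K45.f642608 IH) (Lpe (K45.f615053 IH) (Lpe (K45.f615054 IH) (Lpr_gt (K32.f79996 IH) (Lpr_ct (K9.f140161 IH) (Lpr_gt (K9.f140160 IH) (Lpr_ct (f140154 IH) (Lpe (f140156 IH) (Lpn (LP (LK LD1_c17 LD2_c6 LD3_c8))))))))))))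
theorem f644453 : Led Lsl_ct (LP (LK LD1_c26 LD2_c51 LD3_c46)) = (LP (LK LD1_c16 LD2_c55 LD3_c31)) :=
  Lre_c IH (LK LD1_c26 LD2_c51 LD3_c46) (LK LD1_c16 LD2_c55 LD3_c31) Lrfl Lrfl
theorem f700610 : Led Lsl_dt (LP (LK LD1_c17 LD2_c6 LD3_c3)) = (LP (LK LD1_c26 LD2_c51 LD3_c46)) :=
  Lgr Lrot32 (Lpe (f642625 IH) (Lpe (K45.f99998 IH) (Lpr_ft (f700607 IH) (Lpe (f700608 IH) (Lpe (K9.f140149 IH) (Lpe (f140156 IH) (Lpe (f644454 IH) (Lpe (K45.f644461 IH) (Lpe (f644453 IH) (Lpn (LP (LK LD1_c26 LD2_c51 LD3_c46))))))))))))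
theorem f700611 : Led Lsl_dt (LP (LK LD1_c17 LD2_c6 LD3_c3)) = (LP (LK LD1_c26 LD2_c51 LD3_c46)) :=
  Leop (Lpe (f700610 IH) (Lpn (LP (LK LD1_c17 LD2_c6 LD3_c3))))
theorem seed_656 : LEOK LG_d (LK LD1_c17 LD2_c6 LD3_c3) :=
  Leoe_d (LK LD1_c17 LD2_c6 LD3_c3) (f700611 IH)
def v13037 : LQ := Led Lsl_ft (LP (LK LD1_c4 LD2_c38 LD3_c16))
theorem f700659 : Led Lsl_ft (LP (LK LD1_c4 LD2_c38 LD3_c16)) = v13037 :=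
  Lrfl
theorem f140872 : Led Lsl_gt (LP (LK LD1_c4 LD2_c38 LD3_c16)) = (LP (LK LD1_c9 LD2_c12 LD3_c17)) :=
  Lre_g IH (LK LD1_c4 LD2_c38 LD3_c16) (LK LD1_c9 LD2_c12 LD3_c17) Lrfl Lrfl
def v13036 : LQ := Led Lsl_at (LP (LK LD1_c4 LD2_c38 LD3_c16))
theorem f700645 : Led Lsl_at (LP (LK LD1_c4 LD2_c38 LD3_c16)) = v13036 :=
  Lrfl
theorem f700646 : Led Lsl_af (LP (LK LD1_c4 LD2_c38 LD3_c16)) = v13036 :=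
  Lgr Lrot0 (Lpr_at (f700645 IH) (Lpn v13036))
theorem f140871 : Led Lsl_ct (LP (LK LD1_c2 LD2_c16 LD3_c12)) = (LP (LK LD1_c4 LD2_c38 LD3_c16)) :=
  Lre_c IH (LK LD1_c2 LD2_c16 LD3_c12) (LK LD1_c4 LD2_c38 LD3_c16) Lrfl Lrfl
theorem f700647 : Led Lsl_cf K45.v4214 = v13036 :=
  Lgr Lrot1 (Lpe (K45.f631936 IH) (Lpr_ct (f140871 IH) (Lpr_at (f700645 IH) (Lpn v13036))))
theorem f631950 : Led Lsl_ff (LP (LK LD1_c2 LD2_c16 LD3_c13)) = K45.v4214 :=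
  Lgr Lrot3 (Lpr_ft (K45.f631942 IH) (Lpn K45.v4214))
theorem f631952 : Led Lsl_ct (LP (LK LD1_c2 LD2_c16 LD3_c13)) = (LP (LK LD1_c4 LD2_c38 LD3_c20)) :=
  Lre_c IH (LK LD1_c2 LD2_c16 LD3_c13) (LK LD1_c4 LD2_c38 LD3_c20) Lrfl Lrfl
theorem f700649 : Led Lsl_ft (LP (LK LD1_c4 LD2_c38 LD3_c20)) = v13036 :=
  Lgr Lrot4 (Lpe (f631952 IH) (Lpr_ff (f631950 IH) (Lpr_cf (f700647 IH) (Lpn v13036))))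
theorem f700660 : Led Lsl_af (LP (LK LD1_c4 LD2_c38 LD3_c20)) = v13037 :=
  Lgr Lrot45 (Lpr_ft (f700649 IH) (Lpe (f700646 IH) (Lpr_ft (f700659 IH) (Lpn v13037))))
theorem f700664 : Led Lsl_gt (LP (LK LD1_c9 LD2_c12 LD3_c17)) = (LP (LK LD1_c4 LD2_c38 LD3_c20)) :=
  Lgr Lrot46 (Lpe (f140872 IH) (Lpr_ft (f700659 IH) (Lpe (f700660 IH) (Lpn (LP (LK LD1_c4 LD2_c38 LD3_c20))))))
theorem f700665 : Led Lsl_gt (LP (LK LD1_c9 LD2_c12 LD3_c17)) = (LP (LK LD1_c4 LD2_c38 LD3_c20)) :=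
  Leop (Lpe (f700664 IH) (Lpn (LP (LK LD1_c9 LD2_c12 LD3_c17))))
theorem seed_657 : LEOK LG_g (LK LD1_c9 LD2_c12 LD3_c17) :=
  Leoe_g (LK LD1_c9 LD2_c12 LD3_c17) (f700665 IH)
def v13060 : LQ := Led Lsl_ct (LP (LK LD1_c4 LD2_c38 LD3_c41))
theorem f700793 : Led Lsl_ct (LP (LK LD1_c4 LD2_c38 LD3_c41)) = v13060 :=
  Lrfl
theorem f26801 : Led Lsl_bt (LP (LK LD1_c4 LD2_c38 LD3_c36)) = (LP (LK LD1_c2 LD2_c16 LD3_c22)) :=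
  Lre_b IH (LK LD1_c4 LD2_c38 LD3_c36) (LK LD1_c2 LD2_c16 LD3_c22) Lrfl Lrfl
theorem f26913 : Led Lsl_ct (LP (LK LD1_c4 LD2_c38 LD3_c36)) = (LP (LK LD1_c9 LD2_c13 LD3_c5)) :=
  Lre_c IH (LK LD1_c4 LD2_c38 LD3_c36) (LK LD1_c9 LD2_c13 LD3_c5) Lrfl Lrfl
theorem f26910 : Led Lsl_gt (LP (LK LD1_c17 LD2_c7 LD3_c38)) = (LP (LK LD1_c9 LD2_c13 LD3_c5)) :=
  Lre_g IH (LK LD1_c17 LD2_c7 LD3_c38) (LK LD1_c9 LD2_c13 LD3_c5) Lrfl Lrfl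
theorem f640577 : Led Lsl_cf (LP (LK LD1_c2 LD2_c50 LD3_c34)) = v4848 :=
  Lgr Lrot11 (Lpr_ct (f640576 IH) (Lpn v4848))
theorem f700798 : Led Lsl_gf v4848 = v13060 :=
  Lgr Lrot104 (Lpe (f640577 IH) (Lpe (K6.f57194 IH) (Lpe (K1.f57175 IH) (Lpr_gf (K29.f438792 IH) (Lpr_cf (K32.f435487 IH) (Lpe (K11.f26813 IH) (Lpe (K24.f26812 IH) (Lpr_gt (K41.f26831 IH) (Lpr_ct (f700793 IH) (Lpn v13060))))))))))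
theorem f146525 : Led Lsl_bt (LP (LK LD1_c2 LD2_c50 LD3_c34)) = (LP (LK LD1_c5 LD2_c48 LD3_c37)) :=
  Lre_b IH (LK LD1_c2 LD2_c50 LD3_c34) (LK LD1_c5 LD2_c48 LD3_c37) Lrfl Lrfl
theorem f146460 : Led Lsl_gt (LP (LK LD1_c5 LD2_c48 LD3_c37)) = (LP (LK LD1_c11 LD2_c25 LD3_c58)) :=
  Lre_g IH (LK LD1_c5 LD2_c48 LD3_c37) (LK LD1_c11 LD2_c25 LD3_c58) Lrfl Lrfl
theorem f146518 : Led Lsl_bt (LP (LK LD1_c20 LD2_c23 LD3_c31)) = (LP (LK LD1_c11 LD2_c25 LD3_c58)) :=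
  Lre_b IH (LK LD1_c20 LD2_c23 LD3_c31) (LK LD1_c11 LD2_c25 LD3_c58) Lrfl Lrfl
theorem f700799 : Led Lsl_cf (LP (LK LD1_c17 LD2_c7 LD3_c38)) = (LP (LK LD1_c20 LD2_c23 LD3_c31)) :=
  Lgr Lrot160 (Lpr_gt (f26910 IH) (Lpe (f26913 IH) (Lpr_bt (f26801 IH) (Lpr_gt (K41.f26831 IH) (Lpr_ct (f700793 IH) (Lpe (f700798 IH) (Lpe (f640576 IH) (Lpr_bt (f146525 IH) (Lpr_gt (f146460 IH) (Lpe (f146518 IH) (Lpn (LP (LK LD1_c20 LD2_c23 LD3_c31)))))))))))))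
theorem f700800 : Led Lsl_ct (LP (LK LD1_c20 LD2_c23 LD3_c31)) = (LP (LK LD1_c17 LD2_c7 LD3_c38)) :=
  Leop (Lpr_cf (f700799 IH) (Lpn (LP (LK LD1_c20 LD2_c23 LD3_c31))))
theorem seed_658 : LEOK LG_c (LK LD1_c20 LD2_c23 LD3_c31) :=
  Leoe_c (LK LD1_c20 LD2_c23 LD3_c31) (f700800 IH)
theorem f641946 : Led Lsl_at (LP (LK LD1_c5 LD2_c59 LD3_c61)) = (LP (LK LD1_c9 LD2_c13 LD3_c12)) :=
  Lgr Lrot100 (Lpr_af (K41.f641944 IH) (Lpn (LP (LK LD1_c9 LD2_c13 LD3_c12))))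
theorem f644905 : Led Lsl_gf (LP (LK LD1_c9 LD2_c13 LD3_c12)) = (LP (LK LD1_c4 LD2_c48 LD3_c57)) :=
  Lgr Lrot76 (Lpe (f641946 IH) (Lpr_ff (K46.f642144 IH) (Lpr_gt (K41.f427466 IH) (Lpn (LP (LK LD1_c4 LD2_c48 LD3_c57))))))
theorem f136292 : Led Lsl_ct (LP (LK LD1_c9 LD2_c30 LD3_c14)) = (LP (LK LD1_c17 LD2_c31 LD3_c34)) :=
  Lre_c IH (LK LD1_c9 LD2_c30 LD3_c14) (LK LD1_c17 LD2_c31 LD3_c34) Lrfl Lrfl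
theorem f146502 : Led Lsl_ct (LP (LK LD1_c11 LD2_c25 LD3_c58)) = (LP (LK LD1_c20 LD2_c23 LD3_c32)) :=
  Lre_c IH (LK LD1_c11 LD2_c25 LD3_c58) (LK LD1_c20 LD2_c23 LD3_c32) Lrfl Lrfl
theorem f700801 : Led Lsl_gf (LP (LK LD1_c17 LD2_c31 LD3_c34)) = (LP (LK LD1_c20 LD2_c23 LD3_c32)) :=
  Lgr Lrot129 (Lpe (f136292 IH) (Lpr_bt (K40.f136291 IH) (Lpe (f644905 IH) (Lpe (K41.f507147 IH) (Lpr_ct (f700793 IH) (Lpe (f700798 IH) (Lpe (f640576 IH) (Lpr_bt (f146525 IH) (Lpr_gt (f146460 IH) (Lpr_ct (f146502 IH) (Lpn (LP (LK LD1_c20 LD2_c23 LD3_c32)))))))))))))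
theorem f700802 : Led Lsl_gt (LP (LK LD1_c20 LD2_c23 LD3_c32)) = (LP (LK LD1_c17 LD2_c31 LD3_c34)) :=
  Leop (Lpr_gf (f700801 IH) (Lpn (LP (LK LD1_c20 LD2_c23 LD3_c32))))
theorem seed_659 : LEOK LG_g (LK LD1_c20 LD2_c23 LD3_c32) :=
  Leoe_g (LK LD1_c20 LD2_c23 LD3_c32) (f700802 IH)
theorem f698873 : Led Lsl_af v4848 = v12896 :=
  Lgr Lrot68 (Lpe (f640577 IH) (Lpe (K6.f146412 IH) (Lpr_ct (f698872 IH) (Lpn v12896))))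
def v4187 : LQ := Led Lsl_ct (LP (LK LD1_c2 LD2_c13 LD3_c57))
theorem f631738 : Led Lsl_ct (LP (LK LD1_c2 LD2_c13 LD3_c57)) = v4187 :=
  Lrfl
theorem f631740 : Led Lsl_cf (LP (LK LD1_c2 LD2_c13 LD3_c57)) = v4187 :=
  Lgr Lrot11 (Lpr_ct (f631738 IH) (Lpn v4187))
theorem f698876 : Led Lsl_ff v4187 = v12896 :=
  Lgr Lrot23 (Lpe (f631740 IH) (Lpr_ft (K32.f437396 IH) (Lpr_ct (f698872 IH) (Lpn v12896))))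
theorem f699206 : Led Lsl_ft v4187 = v12896 :=
  Lgr Lrot48 (Lpr_ff (f698876 IH) (Lpn v12896))
theorem f700808 : Led Lsl_gt v4187 = v13060 :=
  Lgr Lrot5 (Lpr_ft (f699206 IH) (Lpe (f698873 IH) (Lpr_gf (f700798 IH) (Lpn v13060))))
theorem f437493 : Led Lsl_bt (LP (LK LD1_c2 LD2_c13 LD3_c57)) = (LP (LK LD1_c4 LD2_c34 LD3_c3)) :=
  Lre_b IH (LK LD1_c2 LD2_c13 LD3_c57) (LK LD1_c4 LD2_c34 LD3_c3) Lrfl Lrfl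
theorem f163576 : Led Lsl_gt (LP (LK LD1_c9 LD2_c5 LD3_c37)) = (LP (LK LD1_c4 LD2_c34 LD3_c3)) :=
  Lre_g IH (LK LD1_c9 LD2_c5 LD3_c37) (LK LD1_c4 LD2_c34 LD3_c3) Lrfl Lrfl
theorem f437448 : Led Lsl_bt (LP (LK LD1_c16 LD2_c57 LD3_c30)) = (LP (LK LD1_c9 LD2_c5 LD3_c37)) :=
  Lre_b IH (LK LD1_c16 LD2_c57 LD3_c30) (LK LD1_c9 LD2_c5 LD3_c37) Lrfl Lrfl
theorem f644907 : Led Lsl_gt (LP (LK LD1_c9 LD2_c13 LD3_c12)) = (LP (LK LD1_c6 LD2_c0 LD3_c0)) :=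
  Lgr Lrot46 (Lpr_gf (f644905 IH) (Lpr_ft (K40.f502602 IH) (Lpe (K40.f501925 IH) (Lpn (LP (LK LD1_c6 LD2_c0 LD3_c0))))))
theorem f427464 : Led Lsl_ct (LP (LK LD1_c4 LD2_c48 LD3_c55)) = (LP (LK LD1_c2 LD2_c22 LD3_c20)) :=
  Lre_c IH (LK LD1_c4 LD2_c48 LD3_c55) (LK LD1_c2 LD2_c22 LD3_c20) Lrfl Lrfl
theorem f427463 : Led Lsl_dt (LP (LK LD1_c9 LD2_c30 LD3_c20)) = (LP (LK LD1_c4 LD2_c48 LD3_c55)) :=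
  Lre_d IH (LK LD1_c9 LD2_c30 LD3_c20) (LK LD1_c4 LD2_c48 LD3_c55) Lrfl Lrfl
theorem f502202 : Led Lsl_ct (LP (LK LD1_c17 LD2_c31 LD3_c44)) = (LP (LK LD1_c9 LD2_c30 LD3_c20)) :=
  Lre_c IH (LK LD1_c17 LD2_c31 LD3_c44) (LK LD1_c9 LD2_c30 LD3_c20) Lrfl Lrfl
theorem f558581 : Led Lsl_ft (LP (LK LD1_c8 LD2_c2 LD3_c29)) = (LP (LK LD1_c4 LD2_c0 LD3_c51)) :=
  Lre_f IH (LK LD1_c8 LD2_c2 LD3_c29) (LK LD1_c4 LD2_c0 LD3_c51) Lrfl Lrfl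
theorem f558582 : Led Lsl_dt (LP (LK LD1_c8 LD2_c2 LD3_c29)) = (LP (LK LD1_c15 LD2_c7 LD3_c31)) :=
  Lre_d IH (LK LD1_c8 LD2_c2 LD3_c29) (LK LD1_c15 LD2_c7 LD3_c31) Lrfl Lrfl
theorem f29983 : Led Lsl_ct (LP (LK LD1_c15 LD2_c7 LD3_c31)) = (LP (LK LD1_c24 LD2_c56 LD3_c12)) :=
  Lre_c IH (LK LD1_c15 LD2_c7 LD3_c31) (LK LD1_c24 LD2_c56 LD3_c12) Lrfl Lrfl
theorem f558583 : Led Lsl_dt (LP (LK LD1_c24 LD2_c56 LD3_c12)) = (LP (LK LD1_c17 LD2_c31 LD3_c44)) :=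
  Lgr Lrot32 (Lpe (f29983 IH) (Lpe (f558582 IH) (Lpr_ft (f558581 IH) (Lpr_at (K40.f30045 IH) (Lpr_cf (K40.f558557 IH) (Lpe (K40.f74636 IH) (Lpe (f427464 IH) (Lpe (f427463 IH) (Lpe (f502202 IH) (Lpn (LP (LK LD1_c17 LD2_c31 LD3_c44))))))))))))
theorem f558591 : Led Lsl_cf (LP (LK LD1_c8 LD2_c2 LD3_c29)) = (LP (LK LD1_c6 LD2_c0 LD3_c0)) :=
  Lgr Lrot55 (Lpr_dt (f558582 IH) (Lpr_ct (f29983 IH) (Lpr_dt (f558583 IH) (Lpr_ct (f502202 IH) (Lpr_dt (f427463 IH) (Lpr_ct (f427464 IH) (Lpr_dt (K40.f74636 IH) (Lpe (K40.f558557 IH) (Lpr_dt (K40.f428739 IH) (Lpr_ct (K40.f445390 IH) (Lpr_dt (K40.f558587 IH) (Lpr_ct (K40.f502237 IH) (Lpr_dt (K40.f501455 IH) (Lpr_ct (K40.f501440 IH) (Lpr_dt (K49.f500806 IH) (Lpn (LP (LK LD1_c6 LD2_c0 LD3_c0))))))))))))))))))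
theorem f445379 : Led Lsl_gt (LP (LK LD1_c8 LD2_c2 LD3_c29)) = (LP (LK LD1_c15 LD2_c8 LD3_c5)) :=
  Lre_g IH (LK LD1_c8 LD2_c2 LD3_c29) (LK LD1_c15 LD2_c8 LD3_c5) Lrfl Lrfl
theorem f700809 : Led Lsl_ct (LP (LK LD1_c16 LD2_c57 LD3_c30)) = (LP (LK LD1_c15 LD2_c8 LD3_c5)) :=
  Lgr Lrot63 (Lpr_bt (f437448 IH) (Lpr_gt (f163576 IH) (Lpe (f437493 IH) (Lpr_ct (f631738 IH) (Lpr_gt (f700808 IH) (Lpe (f700793 IH) (Lpr_bt (K41.f507147 IH) (Lpr_gt (f644907 IH) (Lpe (f558591 IH) (Lpr_gt (f445379 IH) (Lpn (LP (LK LD1_c15 LD2_c8 LD3_c5)))))))))))))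
theorem f700810 : Led Lsl_ct (LP (LK LD1_c16 LD2_c57 LD3_c30)) = (LP (LK LD1_c15 LD2_c8 LD3_c5)) :=
  Leop (Lpe (f700809 IH) (Lpn (LP (LK LD1_c16 LD2_c57 LD3_c30))))
theorem seed_660 : LEOK LG_c (LK LD1_c16 LD2_c57 LD3_c30) :=
  Leoe_c (LK LD1_c16 LD2_c57 LD3_c30) (f700810 IH)
def v13070 : LQ := Led Lsl_ct (LP (LK LD1_c4 LD2_c38 LD3_c54))
theorem f700906 : Led Lsl_ct (LP (LK LD1_c4 LD2_c38 LD3_c54)) = v13070 :=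
  Lrfl
theorem f27085 : Led Lsl_bt (LP (LK LD1_c4 LD2_c38 LD3_c54)) = (LP (LK LD1_c2 LD2_c16 LD3_c28)) :=
  Lre_b IH (LK LD1_c4 LD2_c38 LD3_c54) (LK LD1_c2 LD2_c16 LD3_c28) Lrfl Lrfl
theorem f61196 : Led Lsl_gt (LP (LK LD1_c4 LD2_c38 LD3_c48)) = (LP (LK LD1_c9 LD2_c13 LD3_c23)) :=
  Lre_g IH (LK LD1_c4 LD2_c38 LD3_c48) (LK LD1_c9 LD2_c13 LD3_c23) Lrfl Lrfl
theorem f700912 : Led Lsl_gt (LP (LK LD1_c6 LD2_c0 LD3_c45)) = v13070 :=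
  Lgr Lrot65 (Lpr_cf (K42.f570797 IH) (Lpe (K42.f615087 IH) (Lpe (K42.f436257 IH) (Lpe (K42.f436252 IH) (Lpe (K32.f436255 IH) (Lpe (K8.f61012 IH) (Lpr_cf (K8.f60960 IH) (Lpe (K11.f27064 IH) (Lpe (f27085 IH) (Lpr_ct (f700906 IH) (Lpn v13070)))))))))))
theorem f643747 : Led Lsl_gf (LP (LK LD1_c9 LD2_c49 LD3_c40)) = (LP (LK LD1_c11 LD2_c44 LD3_c56)) :=
  Lgr Lrot76 (Lpe (K42.f615201 IH) (Lpr_ff (K45.f615250 IH) (Lpr_gt (K49.f643743 IH) (Lpn (LP (LK LD1_c11 LD2_c44 LD3_c56))))))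
theorem f76120 : Led Lsl_gt (LP (LK LD1_c4 LD2_c59 LD3_c32)) = (LP (LK LD1_c9 LD2_c49 LD3_c27)) :=
  Lre_g IH (LK LD1_c4 LD2_c59 LD3_c32) (LK LD1_c9 LD2_c49 LD3_c27) Lrfl Lrfl
theorem f643788 : Led Lsl_af (LP (LK LD1_c9 LD2_c49 LD3_c27)) = (LP (LK LD1_c5 LD2_c50 LD3_c20)) :=
  Lgr Lrot31 (Lpe (f76120 IH) (Lpr_gf (K49.f643786 IH) (Lpr_ft (K49.f622916 IH) (Lpn (LP (LK LD1_c5 LD2_c50 LD3_c20))))))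
theorem f643790 : Led Lsl_at (LP (LK LD1_c9 LD2_c49 LD3_c27)) = (LP (LK LD1_c5 LD2_c50 LD3_c20)) :=
  Lgr Lrot100 (Lpr_af (f643788 IH) (Lpn (LP (LK LD1_c5 LD2_c50 LD3_c20))))
theorem f622898 : Led Lsl_ff (LP (LK LD1_c9 LD2_c6 LD3_c3)) = (LP (LK LD1_c5 LD2_c50 LD3_c24)) :=
  Lgr Lrot3 (Lpr_ft (K45.f622894 IH) (Lpn (LP (LK LD1_c5 LD2_c50 LD3_c24))))
theorem f643745 : Led Lsl_at (LP (LK LD1_c9 LD2_c6 LD3_c3)) = (LP (LK LD1_c11 LD2_c44 LD3_c56)) :=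
  Lgr Lrot26 (Lpr_ff (f622898 IH) (Lpe (f643087 IH) (Lpr_gt (K49.f643743 IH) (Lpn (LP (LK LD1_c11 LD2_c44 LD3_c56))))))
theorem f643800 : Led Lsl_bf (LP (LK LD1_c9 LD2_c49 LD3_c27)) = (LP (LK LD1_c11 LD2_c44 LD3_c56)) :=
  Lgr Lrot81 (Lpr_at (f643790 IH) (Lpr_bt (K49.f139898 IH) (Lpe (K49.f622922 IH) (Lpr_bt (K45.f438501 IH) (Lpr_at (f643745 IH) (Lpn (LP (LK LD1_c11 LD2_c44 LD3_c56))))))))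
theorem f643802 : Led Lsl_bt (LP (LK LD1_c9 LD2_c49 LD3_c27)) = (LP (LK LD1_c11 LD2_c44 LD3_c56)) :=
  Lgr Lrot127 (Lpr_bf (f643800 IH) (Lpn (LP (LK LD1_c11 LD2_c44 LD3_c56))))
theorem f700913 : Led Lsl_cf (LP (LK LD1_c9 LD2_c13 LD3_c23)) = (LP (LK LD1_c9 LD2_c49 LD3_c27)) :=
  Lgr Lrot58 (Lpe (f61196 IH) (Lpe (K8.f61065 IH) (Lpr_bt (K49.f61192 IH) (Lpe (K11.f27064 IH) (Lpe (f27085 IH) (Lpr_ct (f700906 IH) (Lpe (f700912 IH) (Lpr_cf (K42.f570797 IH) (Lpr_gf (f643747 IH) (Lpe (f643802 IH) (Lpn (LP (LK LD1_c9 LD2_c49 LD3_c27)))))))))))))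
theorem f700914 : Led Lsl_ct (LP (LK LD1_c9 LD2_c49 LD3_c27)) = (LP (LK LD1_c9 LD2_c13 LD3_c23)) :=
  Leop (Lpr_cf (f700913 IH) (Lpn (LP (LK LD1_c9 LD2_c49 LD3_c27))))
theorem seed_661 : LEOK LG_c (LK LD1_c9 LD2_c49 LD3_c27) :=
  Leoe_c (LK LD1_c9 LD2_c49 LD3_c27) (f700914 IH)
theorem f452869 : Led Lsl_ft (LP (LK LD1_c2 LD2_c56 LD3_c29)) = (LP (LK LD1_c1 LD2_c24 LD3_c4)) :=
  Lre_f IH (LK LD1_c2 LD2_c56 LD3_c29) (LK LD1_c1 LD2_c24 LD3_c4) Lrfl Lrfl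
theorem f634116 : Led Lsl_gt (LP (LK LD1_c2 LD2_c56 LD3_c29)) = K42.v4481 :=
  Lgr Lrot5 (Lpr_ft (f452869 IH) (Lpr_at (K37.f500819 IH) (Lpqs (K37.f501419 IH) (Lpr_gf (K42.f634115 IH) (Lpn K42.v4481)))))
def v12918 : LQ := Led Lsl_ct (LP (LK LD1_c4 LD2_c34 LD3_c33))
theorem f699588 : Led Lsl_ct (LP (LK LD1_c4 LD2_c34 LD3_c33)) = v12918 :=
  Lrfl
theorem f699590 : Led Lsl_gf (LP (LK LD1_c11 LD2_c44 LD3_c39)) = v12918 :=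
  Lgr Lrot129 (Lpe (f501951 IH) (Lpr_bt (f501943 IH) (Lpr_gt (f634116 IH) (Lpq (K42.f643138 IH) (Lpe (K42.f27093 IH) (Lpr_ct (K35.f27083 IH) (Lpr_gt (K32.f20101 IH) (Lpe (K6.f92125 IH) (Lpr_bt (K6.f92148 IH) (Lpr_gt (f92149 IH) (Lpr_ct (f699588 IH) (Lpn v12918))))))))))))
theorem f699574 : Led Lsl_bt (LP (LK LD1_c4 LD2_c34 LD3_c33)) = (LP (LK LD1_c9 LD2_c5 LD3_c60)) :=
  Lre_b IH (LK LD1_c4 LD2_c34 LD3_c33) (LK LD1_c9 LD2_c5 LD3_c60) Lrfl Lrfl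
theorem f500825 : Led Lsl_dt (LP (LK LD1_c2 LD2_c56 LD3_c29)) = (LP (LK LD1_c6 LD2_c0 LD3_c26)) :=
  Lre_d IH (LK LD1_c2 LD2_c56 LD3_c29) (LK LD1_c6 LD2_c0 LD3_c26) Lrfl Lrfl
theorem f500829 : Led Lsl_at (LP (LK LD1_c2 LD2_c56 LD3_c22)) = (LP (LK LD1_c6 LD2_c0 LD3_c2)) :=
  Lre_a IH (LK LD1_c2 LD2_c56 LD3_c22) (LK LD1_c6 LD2_c0 LD3_c2) Lrfl Lrfl
theorem f559375 : Led Lsl_af (LP (LK LD1_c4 LD2_c48 LD3_c42)) = (LP (LK LD1_c2 LD2_c56 LD3_c28)) :=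
  Lgr Lrot36 (Lpr_bt (K42.f56903 IH) (Lpq (K37.f501419 IH) (Lpe (K37.f500820 IH) (Lpr_bt (K45.f500828 IH) (Lpr_at (f500829 IH) (Lpr_bt (K42.f559373 IH) (Lpn (LP (LK LD1_c2 LD2_c56 LD3_c28)))))))))
theorem f643254 : Led Lsl_gf (LP (LK LD1_c9 LD2_c13 LD3_c40)) = (LP (LK LD1_c6 LD2_c0 LD3_c26)) :=
  Lgr Lrot47 (Lpr_gt (K46.f643136 IH) (Lpr_af (f559375 IH) (Lpe (K42.f76137 IH) (Lpn (LP (LK LD1_c6 LD2_c0 LD3_c26))))))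
theorem f643525 : Led Lsl_gf (LP (LK LD1_c9 LD2_c48 LD3_c53)) = (LP (LK LD1_c17 LD2_c8 LD3_c0)) :=
  Lgr Lrot76 (Lpr_af (K42.f499398 IH) (Lpe (K42.f499420 IH) (Lpr_gt (K46.f643523 IH) (Lpn (LP (LK LD1_c17 LD2_c8 LD3_c0))))))
theorem f570764 : Led Lsl_df (LP (LK LD1_c9 LD2_c25 LD3_c48)) = (LP (LK LD1_c4 LD2_c59 LD3_c14)) :=
  Lgr Lrot12 (Lpe (K42.f498328 IH) (Lpr_dt (K42.f570760 IH) (Lpe (K42.f112888 IH) (Lpn (LP (LK LD1_c4 LD2_c59 LD3_c14))))))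
theorem f700911 : Led Lsl_gf (LP (LK LD1_c4 LD2_c46 LD3_c36)) = v13070 :=
  Lgr Lrot104 (Lpr_ct (K45.f498330 IH) (Lpr_df (f570764 IH) (Lpe (f112890 IH) (Lpr_gf (f643525 IH) (Lpe (K46.f419093 IH) (Lpr_gf (f643254 IH) (Lpe (f500825 IH) (Lpr_gt (f634116 IH) (Lpq (K42.f643138 IH) (Lpr_ct (f700906 IH) (Lpn v13070)))))))))))
theorem f700915 : Led Lsl_gf (LP (LK LD1_c9 LD2_c5 LD3_c60)) = (LP (LK LD1_c15 LD2_c5 LD3_c11)) :=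
  Lgr Lrot124 (Lpe (f699574 IH) (Lpr_ct (f699588 IH) (Lpe (f699590 IH) (Lpe (f501951 IH) (Lpr_bt (f501943 IH) (Lpr_gt (f634116 IH) (Lpq (K42.f643138 IH) (Lpr_ct (f700906 IH) (Lpe (f700911 IH) (Lpe (K46.f497060 IH) (Lpe (K42.f498328 IH) (Lpn (LP (LK LD1_c15 LD2_c5 LD3_c11))))))))))))))
theorem f700916 : Led Lsl_gt (LP (LK LD1_c15 LD2_c5 LD3_c11)) = (LP (LK LD1_c9 LD2_c5 LD3_c60)) :=
  Leop (Lpr_gf (f700915 IH) (Lpn (LP (LK LD1_c15 LD2_c5 LD3_c11))))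
theorem seed_662 : LEOK LG_g (LK LD1_c15 LD2_c5 LD3_c11) :=
  Leoe_g (LK LD1_c15 LD2_c5 LD3_c11) (f700916 IH)
def v13090 : LQ := Led Lsl_gf (LP (LK LD1_c4 LD2_c39 LD3_c11))
theorem f701030 : Led Lsl_gf (LP (LK LD1_c4 LD2_c39 LD3_c11)) = v13090 :=
  Lrfl
theorem f140936 : Led Lsl_ct (LP (LK LD1_c4 LD2_c39 LD3_c11)) = (LP (LK LD1_c2 LD2_c16 LD3_c35)) :=
  Lre_c IH (LK LD1_c4 LD2_c39 LD3_c11) (LK LD1_c2 LD2_c16 LD3_c35) Lrfl Lrfl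
theorem f701033 : Led Lsl_ct (LP (LK LD1_c5 LD2_c52 LD3_c50)) = v13090 :=
  Lgr Lrot152 (Lpr_gf (K24.f445593 IH) (Lpe (K24.f40471 IH) (Lpr_gt (K24.f77388 IH) (Lpe (K9.f77374 IH) (Lpr_gt (K24.f454828 IH) (Lpe (K24.f454830 IH) (Lpe (K49.f174606 IH) (Lpe (f140936 IH) (Lpr_gf (f701030 IH) (Lpn v13090))))))))))
theorem f505524 : Led Lsl_bt (LP (LK LD1_c5 LD2_c52 LD3_c50)) = (LP (LK LD1_c11 LD2_c31 LD3_c58)) :=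
  Lre_b IH (LK LD1_c5 LD2_c52 LD3_c50) (LK LD1_c11 LD2_c31 LD3_c58) Lrfl Lrfl
theorem f501123 : Led Lsl_ff (LP (LK LD1_c1 LD2_c24 LD3_c31)) = K32.v1722 :=
  Lgr Lrot3 (Lpr_ft (K32.f501120 IH) (Lpn K32.v1722))
theorem f501138 : Led Lsl_dt K46.v447 = K32.v1722 :=
  Lgr Lrot60 (Lpe (K46.f452896 IH) (Lpe (K32.f140711 IH) (Lpr_ff (f501123 IH) (Lpn K32.v1722))))
theorem f645306 : K32.v1722 = (LP (LK LD1_c2 LD2_c16 LD3_c35)) :=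
  Lefun (Lecon (f501138 IH) (K46.f645298 IH)) (K46.f140934 IH)
theorem f645708 : Led Lsl_ff (LP (LK LD1_c4 LD2_c39 LD3_c11)) = (LP (LK LD1_c2 LD2_c57 LD3_c37)) :=
  Lgr Lrot23 (Lpr_ct (f140936 IH) (Lpq (f645306 IH) (Lpe (f501123 IH) (Lpr_ct (K46.f415858 IH) (Lpn (LP (LK LD1_c2 LD2_c57 LD3_c37)))))))
theorem f645714 : Led Lsl_ft (LP (LK LD1_c4 LD2_c39 LD3_c11)) = (LP (LK LD1_c2 LD2_c57 LD3_c37)) :=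
  Lgr Lrot48 (Lpr_ff (f645708 IH) (Lpn (LP (LK LD1_c2 LD2_c57 LD3_c37))))
def v4225 : LQ := Led Lsl_ft (LP (LK LD1_c2 LD2_c16 LD3_c32))
theorem f632049 : Led Lsl_ft (LP (LK LD1_c2 LD2_c16 LD3_c32)) = v4225 :=
  Lrfl
theorem f632052 : Led Lsl_ff (LP (LK LD1_c2 LD2_c16 LD3_c32)) = v4225 :=
  Lgr Lrot3 (Lpr_ft (f632049 IH) (Lpn v4225))
theorem f22988 : Led Lsl_dt (LP (LK LD1_c2 LD2_c16 LD3_c32)) = (LP (LK LD1_c1 LD2_c5 LD3_c8)) :=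
  Lre_d IH (LK LD1_c2 LD2_c16 LD3_c32) (LK LD1_c1 LD2_c5 LD3_c8) Lrfl Lrfl
theorem f632054 : Led Lsl_dt K49.v1279 = v4225 :=
  Lgr Lrot60 (Lpe (K49.f494510 IH) (Lpe (f22988 IH) (Lpr_ff (f632052 IH) (Lpn v4225))))
theorem f645317 : v4225 = (LP (LK LD1_c1 LD2_c24 LD3_c35)) :=
  Lefun (Lecon (f632054 IH) (K49.f645301 IH).symm) (K32.f415895 IH)
def v4223 : LQ := Led Lsl_ct (LP (LK LD1_c2 LD2_c16 LD3_c32))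
theorem f632044 : Led Lsl_ct (LP (LK LD1_c2 LD2_c16 LD3_c32)) = v4223 :=
  Lrfl
theorem f645480 : Led Lsl_ff (LP (LK LD1_c2 LD2_c57 LD3_c47)) = v4223 :=
  Lgr Lrot23 (Lpr_ct (K46.f415896 IH) (Lpq (f645317 IH) (Lpe (f632052 IH) (Lpr_ct (f632044 IH) (Lpn v4223)))))
theorem f645482 : Led Lsl_ft (LP (LK LD1_c2 LD2_c57 LD3_c47)) = v4223 :=
  Lgr Lrot48 (Lpr_ff (f645480 IH) (Lpn v4223))
theorem f140709 : Led Lsl_ct (LP (LK LD1_c2 LD2_c57 LD3_c37)) = (LP (LK LD1_c1 LD2_c24 LD3_c31)) :=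
  Lre_c IH (LK LD1_c2 LD2_c57 LD3_c37) (LK LD1_c1 LD2_c24 LD3_c31) Lrfl Lrfl
theorem f140710 : Led Lsl_gt (LP (LK LD1_c6 LD2_c3 LD3_c5)) = (LP (LK LD1_c2 LD2_c57 LD3_c37)) :=
  Lre_g IH (LK LD1_c6 LD2_c3 LD3_c5) (LK LD1_c2 LD2_c57 LD3_c37) Lrfl Lrfl
theorem f505552 : Led Lsl_ct (LP (LK LD1_c5 LD2_c0 LD3_c14)) = (LP (LK LD1_c6 LD2_c3 LD3_c5)) :=
  Lgr Lrot152 (Lpr_gf (K46.f505548 IH) (Lpe (K46.f40958 IH) (Lpr_gt (K32.f40955 IH) (Lpr_ct (K2.f58908 IH) (Lpe (K24.f140234 IH) (Lpr_ct (K31.f140236 IH) (Lpe (K32.f140711 IH) (Lpe (f140709 IH) (Lpe (f140710 IH) (Lpn (LP (LK LD1_c6 LD2_c3 LD3_c5))))))))))))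
theorem f505557 : Led Lsl_cf (LP (LK LD1_c5 LD2_c0 LD3_c14)) = (LP (LK LD1_c6 LD2_c3 LD3_c5)) :=
  Lgr Lrot11 (Lpr_ct (f505552 IH) (Lpn (LP (LK LD1_c6 LD2_c3 LD3_c5))))
theorem f452893 : Led Lsl_ct (LP (LK LD1_c1 LD2_c24 LD3_c35)) = (LP (LK LD1_c2 LD2_c57 LD3_c47)) :=
  Lre_c IH (LK LD1_c1 LD2_c24 LD3_c35) (LK LD1_c2 LD2_c57 LD3_c47) Lrfl Lrfl
theorem f505573 : Led Lsl_gt (LP (LK LD1_c2 LD2_c57 LD3_c47)) = (LP (LK LD1_c6 LD2_c3 LD3_c5)) :=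
  Lgr Lrot150 (Lpe (f452893 IH) (Lpe (K32.f501124 IH) (Lpe (K0.f23857 IH) (Lpe (K35.f454880 IH) (Lpr_ct (K35.f454864 IH) (Lpe (K32.f505105 IH) (Lpe (K32.f445612 IH) (Lpr_df (K46.f505529 IH) (Lpr_cf (f505557 IH) (Lpn (LP (LK LD1_c6 LD2_c3 LD3_c5))))))))))))
theorem f645483 : Led Lsl_af (LP (LK LD1_c2 LD2_c57 LD3_c37)) = v4223 :=
  Lgr Lrot31 (Lpe (f140710 IH) (Lpe (f505573 IH) (Lpr_ft (f645482 IH) (Lpn v4223))))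
theorem f645484 : Led Lsl_at (LP (LK LD1_c2 LD2_c57 LD3_c37)) = v4223 :=
  Lgr Lrot100 (Lpr_af (f645483 IH) (Lpn v4223))
theorem f645716 : Led Lsl_af (LP (LK LD1_c4 LD2_c39 LD3_c11)) = (LP (LK LD1_c2 LD2_c57 LD3_c47)) :=
  Lgr Lrot45 (Lpr_ft (f645714 IH) (Lpr_at (f645484 IH) (Lpe (f645480 IH) (Lpn (LP (LK LD1_c2 LD2_c57 LD3_c47))))))
theorem f701031 : Led Lsl_gt v4223 = v13090 :=
  Lgr Lrot5 (Lpe (f645480 IH) (Lpe (f645716 IH) (Lpr_gf (f701030 IH) (Lpn v13090))))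
theorem f642678 : Led Lsl_bf (LP (LK LD1_c4 LD2_c39 LD3_c5)) = (LP (LK LD1_c9 LD2_c12 LD3_c22)) :=
  Lgr Lrot61 (Lpr_ft (K35.f507623 IH) (Lpr_bt (K45.f444675 IH) (Lpr_ft (K45.f642676 IH) (Lpn (LP (LK LD1_c9 LD2_c12 LD3_c22))))))
theorem f644465 : Led Lsl_cf (LP (LK LD1_c26 LD2_c51 LD3_c47)) = (LP (LK LD1_c17 LD2_c6 LD3_c8)) :=
  Lgr Lrot11 (Lpr_ct (f644454 IH) (Lpn (LP (LK LD1_c17 LD2_c6 LD3_c8))))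
theorem f77379 : Led Lsl_dt (LP (LK LD1_c4 LD2_c59 LD3_c19)) = (LP (LK LD1_c9 LD2_c49 LD3_c2)) :=
  Lre_d IH (LK LD1_c4 LD2_c59 LD3_c19) (LK LD1_c9 LD2_c49 LD3_c2) Lrfl Lrfl
theorem f140157 : Led Lsl_bf (LP (LK LD1_c17 LD2_c6 LD3_c8)) = (LP (LK LD1_c9 LD2_c49 LD3_c2)) :=
  Lgr Lrot93 (Lpr_dt (f140156 IH) (Lpr_bt (K9.f140150 IH) (Lpr_dt (f77379 IH) (Lpn (LP (LK LD1_c9 LD2_c49 LD3_c2))))))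
theorem f140928 : Led Lsl_bt (LP (LK LD1_c17 LD2_c6 LD3_c8)) = (LP (LK LD1_c9 LD2_c49 LD3_c2)) :=
  Lgr Lrot127 (Lpr_bf (f140157 IH) (Lpn (LP (LK LD1_c9 LD2_c49 LD3_c2))))
theorem f701036 : Led Lsl_gt (LP (LK LD1_c11 LD2_c31 LD3_c58)) = (LP (LK LD1_c9 LD2_c49 LD3_c2)) :=
  Lgr Lrot164 (Lpe (f505524 IH) (Lpr_ct (f701033 IH) (Lpe (f701031 IH) (Lpe (f632044 IH) (Lpe (K35.f140108 IH) (Lpr_bf (f642678 IH) (Lpr_ct (K45.f642680 IH) (Lpr_gf (K45.f644487 IH) (Lpr_cf (f644465 IH) (Lpr_bt (f140928 IH) (Lpn (LP (LK LD1_c9 LD2_c49 LD3_c2)))))))))))))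
theorem f701037 : Led Lsl_gt (LP (LK LD1_c11 LD2_c31 LD3_c58)) = (LP (LK LD1_c9 LD2_c49 LD3_c2)) :=
  Leop (Lpe (f701036 IH) (Lpn (LP (LK LD1_c11 LD2_c31 LD3_c58))))
theorem seed_663 : LEOK LG_g (LK LD1_c11 LD2_c31 LD3_c58) :=
  Leoe_g (LK LD1_c11 LD2_c31 LD3_c58) (f701037 IH)
def v13094 : LQ := Led Lsl_et (LP (LK LD1_c4 LD2_c39 LD3_c13))
theorem f701062 : Led Lsl_et (LP (LK LD1_c4 LD2_c39 LD3_c13)) = v13094 :=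
  Lrfl
theorem f175440 : Led Lsl_et (LP (LK LD1_c1 LD2_c8 LD3_c23)) = (LP (LK LD1_c0 LD2_c39 LD3_c0)) :=
  Lre_e IH (LK LD1_c1 LD2_c8 LD3_c23) (LK LD1_c0 LD2_c39 LD3_c0) Lrfl Lrfl
theorem f175807 : Led Lsl_et (LP (LK LD1_c2 LD2_c22 LD3_c30)) = (LP (LK LD1_c4 LD2_c49 LD3_c27)) :=
  Lre_e IH (LK LD1_c2 LD2_c22 LD3_c30) (LK LD1_c4 LD2_c49 LD3_c27) Lrfl Lrfl
theorem f701067 : Led Lsl_gf (LP (LK LD1_c4 LD2_c49 LD3_c27)) = v13094 :=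
  Lgr Lrot141 (Lpe (f175807 IH) (Lpr_dt (K24.f76940 IH) (Lpr_gt (K17.f61053 IH) (Lpe (K17.f27104 IH) (Lpr_et (f175440 IH) (Lpr_gt (K10.f175573 IH) (Lpr_dt (K10.f175574 IH) (Lpe (K11.f186163 IH) (Lpr_df (K10.f176709 IH) (Lpr_et (f701062 IH) (Lpn v13094)))))))))))
theorem f415016 : Led Lsl_et (LP (LK LD1_c6 LD2_c45 LD3_c53)) = (LP (LK LD1_c3 LD2_c20 LD3_c58)) :=
  Lre_e IH (LK LD1_c6 LD2_c45 LD3_c53) (LK LD1_c3 LD2_c20 LD3_c58) Lrfl Lrfl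
theorem f414148 : Led Lsl_et (LP (LK LD1_c4 LD2_c49 LD3_c26)) = (LP (LK LD1_c9 LD2_c31 LD3_c40)) :=
  Lre_e IH (LK LD1_c4 LD2_c49 LD3_c26) (LK LD1_c9 LD2_c31 LD3_c40) Lrfl Lrfl
theorem f510002 : Led Lsl_af (LP (LK LD1_c6 LD2_c45 LD3_c53)) = (LP (LK LD1_c9 LD2_c31 LD3_c40)) :=
  Lgr Lrot50 (Lpr_et (f415016 IH) (Lpr_at (K35.f509994 IH) (Lpr_et (f414148 IH) (Lpn (LP (LK LD1_c9 LD2_c31 LD3_c40))))))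
theorem f510058 : Led Lsl_ct (LP (LK LD1_c6 LD2_c45 LD3_c53)) = (LP (LK LD1_c3 LD2_c20 LD3_c59)) :=
  Lre_c IH (LK LD1_c6 LD2_c45 LD3_c53) (LK LD1_c3 LD2_c20 LD3_c59) Lrfl Lrfl
theorem f510059 : Led Lsl_ct (LP (LK LD1_c4 LD2_c49 LD3_c27)) = (LP (LK LD1_c9 LD2_c31 LD3_c40)) :=
  Lre_c IH (LK LD1_c4 LD2_c49 LD3_c27) (LK LD1_c9 LD2_c31 LD3_c40) Lrfl Lrfl
theorem f510060 : Led Lsl_at (LP (LK LD1_c3 LD2_c20 LD3_c59)) = (LP (LK LD1_c4 LD2_c49 LD3_c27)) :=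
  Lgr Lrot107 (Lpe (f510058 IH) (Lpr_af (f510002 IH) (Lpe (f510059 IH) (Lpn (LP (LK LD1_c4 LD2_c49 LD3_c27))))))
def v6368 : LQ := Led Lsl_ft (LP (LK LD1_c3 LD2_c20 LD3_c59))
theorem f653013 : Led Lsl_ft (LP (LK LD1_c3 LD2_c20 LD3_c59)) = v6368 :=
  Lrfl
theorem f653015 : Led Lsl_ff (LP (LK LD1_c3 LD2_c20 LD3_c59)) = v6368 :=
  Lgr Lrot3 (Lpr_ft (f653013 IH) (Lpn v6368))
theorem f701068 : Led Lsl_gt v6368 = v13094 :=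
  Lgr Lrot5 (Lpe (f653015 IH) (Lpr_at (f510060 IH) (Lpr_gf (f701067 IH) (Lpn v13094))))
theorem f415149 : Led Lsl_et (LP (LK LD1_c3 LD2_c20 LD3_c59)) = (LP (LK LD1_c1 LD2_c36 LD3_c46)) :=
  Lre_e IH (LK LD1_c3 LD2_c20 LD3_c59) (LK LD1_c1 LD2_c36 LD3_c46) Lrfl Lrfl
theorem f653016 : Led Lsl_et (LP (LK LD1_c9 LD2_c31 LD3_c28)) = v6368 :=
  Lgr Lrot69 (Lpe (K35.f445868 IH) (Lpe (f68690 IH) (Lpq (f509867 IH) (Lpe (f509395 IH) (Lpe (f415149 IH) (Lpr_ff (f653015 IH) (Lpn v6368)))))))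
theorem f175401 : Led Lsl_gt (LP (LK LD1_c2 LD2_c58 LD3_c1)) = (LP (LK LD1_c6 LD2_c3 LD3_c52)) :=
  Lre_g IH (LK LD1_c2 LD2_c58 LD3_c1) (LK LD1_c6 LD2_c3 LD3_c52) Lrfl Lrfl
theorem f175402 : Led Lsl_dt (LP (LK LD1_c6 LD2_c3 LD3_c52)) = (LP (LK LD1_c11 LD2_c51 LD3_c16)) :=
  Lre_d IH (LK LD1_c6 LD2_c3 LD3_c52) (LK LD1_c11 LD2_c51 LD3_c16) Lrfl Lrfl
theorem f701069 : Led Lsl_gf (LP (LK LD1_c12 LD2_c4 LD3_c6)) = (LP (LK LD1_c11 LD2_c51 LD3_c16)) :=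
  Lgr Lrot134 (Lpe (K35.f445870 IH) (Lpr_et (f653016 IH) (Lpr_gt (f701068 IH) (Lpe (f701062 IH) (Lpe (K10.f176709 IH) (Lpr_gt (K9.f175413 IH) (Lpe (K9.f175386 IH) (Lpr_et (K39.f175400 IH) (Lpr_gt (f175401 IH) (Lpr_dt (f175402 IH) (Lpn (LP (LK LD1_c11 LD2_c51 LD3_c16)))))))))))))
theorem f701070 : Led Lsl_gt (LP (LK LD1_c11 LD2_c51 LD3_c16)) = (LP (LK LD1_c12 LD2_c4 LD3_c6)) :=
  Leop (Lpr_gf (f701069 IH) (Lpn (LP (LK LD1_c11 LD2_c51 LD3_c16))))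
theorem seed_664 : LEOK LG_g (LK LD1_c11 LD2_c51 LD3_c16) :=
  Leoe_g (LK LD1_c11 LD2_c51 LD3_c16) (f701070 IH)
def v13143 : LQ := Led Lsl_ct (LP (LK LD1_c4 LD2_c40 LD3_c41))
theorem f701330 : Led Lsl_ct (LP (LK LD1_c4 LD2_c40 LD3_c41)) = v13143 :=
  Lrfl
theorem f701331 : Led Lsl_cf (LP (LK LD1_c4 LD2_c40 LD3_c41)) = v13143 :=
  Lgr Lrot11 (Lpr_ct (f701330 IH) (Lpn v13143))
theorem f58301 : Led Lsl_gt (LP (LK LD1_c4 LD2_c40 LD3_c41)) = (LP (LK LD1_c9 LD2_c16 LD3_c6)) :=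
  Lre_g IH (LK LD1_c4 LD2_c40 LD3_c41) (LK LD1_c9 LD2_c16 LD3_c6) Lrfl Lrfl
theorem f58334 : Led Lsl_ct (LP (LK LD1_c4 LD2_c40 LD3_c22)) = (LP (LK LD1_c9 LD2_c16 LD3_c6)) :=
  Lre_c IH (LK LD1_c4 LD2_c40 LD3_c22) (LK LD1_c9 LD2_c16 LD3_c6) Lrfl Lrfl
theorem f209006 : Led Lsl_gt (LP (LK LD1_c3 LD2_c25 LD3_c15)) = (LP (LK LD1_c6 LD2_c52 LD3_c44)) :=
  Lre_g IH (LK LD1_c3 LD2_c25 LD3_c15) (LK LD1_c6 LD2_c52 LD3_c44) Lrfl Lrfl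
theorem f701339 : Led Lsl_bf (LP (LK LD1_c6 LD2_c52 LD3_c44)) = v13143 :=
  Lgr Lrot34 (Lpe (f209006 IH) (Lpe (K49.f209010 IH) (Lpr_ct (K48.f130883 IH) (Lpe (K5.f130871 IH) (Lpe (K5.f66036 IH) (Lpe (K5.f66035 IH) (Lpe (K1.f58330 IH) (Lpr_ct (f58334 IH) (Lpe (f58301 IH) (Lpr_cf (f701331 IH) (Lpn v13143)))))))))))
theorem f209346 : Led Lsl_ft (LP (LK LD1_c3 LD2_c43 LD3_c18)) = (LP (LK LD1_c7 LD2_c27 LD3_c16)) :=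
  Lre_f IH (LK LD1_c3 LD2_c43 LD3_c18) (LK LD1_c7 LD2_c27 LD3_c16) Lrfl Lrfl
theorem f649729 : Led Lsl_at (LP (LK LD1_c7 LD2_c27 LD3_c16)) = K46.v5834 :=
  Lgr Lrot66 (Lpe (f209346 IH) (Lpe (K49.f209337 IH) (Lpr_ff (K49.f649726 IH) (Lpn K46.v5834))))
theorem f148142 : Led Lsl_gt (LP (LK LD1_c3 LD2_c43 LD3_c18)) = (LP (LK LD1_c7 LD2_c27 LD3_c13)) :=
  Lre_g IH (LK LD1_c3 LD2_c43 LD3_c18) (LK LD1_c7 LD2_c27 LD3_c13) Lrfl Lrfl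
theorem f649733 : Led Lsl_gt (LP (LK LD1_c7 LD2_c27 LD3_c13)) = K46.v5834 :=
  Lgr Lrot46 (Lpe (f148142 IH) (Lpr_ft (f209346 IH) (Lpr_at (f649729 IH) (Lpn K46.v5834))))
theorem f663144 : Led Lsl_cf (LP (LK LD1_c7 LD2_c27 LD3_c13)) = (LP (LK LD1_c6 LD2_c52 LD3_c44)) :=
  Lgr Lrot125 (Lpr_gt (f649733 IH) (Lpqs (K49.f662816 IH) (Lpe (K49.f413475 IH) (Lpr_bt (K48.f646821 IH) (Lpq (K48.f662815 IH) (Lpqs (K48.f663054 IH) (Lpr_gt (K48.f130886 IH) (Lpe (K48.f130885 IH) (Lpr_ct (K5.f66036 IH) (Lpr_gt (K5.f130871 IH) (Lpe (K48.f130883 IH) (Lpr_bt (K49.f209010 IH) (Lpr_gt (f209006 IH) (Lpn (LP (LK LD1_c6 LD2_c52 LD3_c44))))))))))))))))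
theorem f663146 : Led Lsl_bt (LP (LK LD1_c7 LD2_c27 LD3_c13)) = (LP (LK LD1_c14 LD2_c4 LD3_c50)) :=
  Lre_b IH (LK LD1_c7 LD2_c27 LD3_c13) (LK LD1_c14 LD2_c4 LD3_c50) Lrfl Lrfl
theorem f701317 : Led Lsl_bt (LP (LK LD1_c9 LD2_c16 LD3_c46)) = (LP (LK LD1_c4 LD2_c40 LD3_c41)) :=
  Lre_b IH (LK LD1_c9 LD2_c16 LD3_c46) (LK LD1_c4 LD2_c40 LD3_c41) Lrfl Lrfl
theorem f701341 : Led Lsl_ct (LP (LK LD1_c14 LD2_c4 LD3_c50)) = (LP (LK LD1_c9 LD2_c16 LD3_c46)) :=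
  Lgr Lrot83 (Lpe (f663146 IH) (Lpr_cf (f663144 IH) (Lpr_bf (f701339 IH) (Lpe (f701330 IH) (Lpe (f701317 IH) (Lpn (LP (LK LD1_c9 LD2_c16 LD3_c46))))))))
theorem f701342 : Led Lsl_ct (LP (LK LD1_c14 LD2_c4 LD3_c50)) = (LP (LK LD1_c9 LD2_c16 LD3_c46)) :=
  Leop (Lpe (f701341 IH) (Lpn (LP (LK LD1_c14 LD2_c4 LD3_c50))))
theorem seed_665 : LEOK LG_c (LK LD1_c14 LD2_c4 LD3_c50) :=
  Leoe_c (LK LD1_c14 LD2_c4 LD3_c50) (f701342 IH)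
def v6674 : LQ := Led Lsl_gt (LP (LK LD1_c3 LD2_c25 LD3_c32))
theorem f657633 : Led Lsl_gt (LP (LK LD1_c3 LD2_c25 LD3_c32)) = v6674 :=
  Lrfl
def v13149 : LQ := Led Lsl_ct (LP (LK LD1_c4 LD2_c40 LD3_c45))
theorem f701397 : Led Lsl_ct (LP (LK LD1_c4 LD2_c40 LD3_c45)) = v13149 :=
  Lrfl
theorem f61054 : Led Lsl_bt (LP (LK LD1_c4 LD2_c40 LD3_c45)) = (LP (LK LD1_c2 LD2_c17 LD3_c25)) :=
  Lre_b IH (LK LD1_c4 LD2_c40 LD3_c45) (LK LD1_c2 LD2_c17 LD3_c25) Lrfl Lrfl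
theorem f22877 : Led Lsl_gt (LP (LK LD1_c1 LD2_c5 LD3_c39)) = (LP (LK LD1_c2 LD2_c17 LD3_c25)) :=
  Lre_g IH (LK LD1_c1 LD2_c5 LD3_c39) (LK LD1_c2 LD2_c17 LD3_c25) Lrfl Lrfl
def v5368 : LQ := Led Lsl_ft (LP (LK LD1_c3 LD2_c6 LD3_c55))
theorem f647269 : Led Lsl_ft (LP (LK LD1_c3 LD2_c6 LD3_c55)) = v5368 :=
  Lrfl
theorem f647272 : Led Lsl_ff (LP (LK LD1_c3 LD2_c6 LD3_c55)) = v5368 :=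
  Lgr Lrot3 (Lpr_ft (f647269 IH) (Lpn v5368))
theorem f76843 : Led Lsl_ct (LP (LK LD1_c3 LD2_c6 LD3_c55)) = (LP (LK LD1_c1 LD2_c29 LD3_c36)) :=
  Lre_c IH (LK LD1_c3 LD2_c6 LD3_c55) (LK LD1_c1 LD2_c29 LD3_c36) Lrfl Lrfl
theorem f66931 : Led Lsl_ft (LP (LK LD1_c1 LD2_c29 LD3_c36)) = (LP (LK LD1_c3 LD2_c6 LD3_c58)) :=
  Lre_f IH (LK LD1_c1 LD2_c29 LD3_c36) (LK LD1_c3 LD2_c6 LD3_c58) Lrfl Lrfl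
theorem f647273 : Led Lsl_ct (LP (LK LD1_c3 LD2_c6 LD3_c58)) = v5368 :=
  Lgr Lrot40 (Lpe (f66931 IH) (Lpe (f76843 IH) (Lpr_ff (f647272 IH) (Lpn v5368))))
theorem f701400 : Led Lsl_gf v5368 = v13149 :=
  Lgr Lrot126 (Lpe (f647273 IH) (Lpr_bt (K2.f66914 IH) (Lpr_gt (K9.f67028 IH) (Lpe (K17.f61043 IH) (Lpr_gt (K8.f27029 IH) (Lpe (K17.f22866 IH) (Lpr_bt (K46.f22876 IH) (Lpr_gt (f22877 IH) (Lpe (f61054 IH) (Lpr_ct (f701397 IH) (Lpn v13149)))))))))))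
theorem f77077 : Led Lsl_ct (LP (LK LD1_c1 LD2_c29 LD3_c36)) = (LP (LK LD1_c3 LD2_c6 LD3_c55)) :=
  Lre_c IH (LK LD1_c1 LD2_c29 LD3_c36) (LK LD1_c3 LD2_c6 LD3_c55) Lrfl Lrfl
theorem f647270 : Led Lsl_cf (LP (LK LD1_c3 LD2_c6 LD3_c58)) = v5368 :=
  Lgr Lrot108 (Lpr_ft (K2.f66921 IH) (Lpr_ct (f77077 IH) (Lpr_ft (f647269 IH) (Lpn v5368))))
theorem f73786 : Led Lsl_ct (LP (LK LD1_c3 LD2_c23 LD3_c45)) = (LP (LK LD1_c1 LD2_c38 LD3_c13)) :=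
  Lre_c IH (LK LD1_c3 LD2_c23 LD3_c45) (LK LD1_c1 LD2_c38 LD3_c13) Lrfl Lrfl
theorem f66833 : Led Lsl_dt (LP (LK LD1_c3 LD2_c6 LD3_c52)) = (LP (LK LD1_c3 LD2_c30 LD3_c6)) :=
  Lgr Lrot173 (Lpe (K1.f66832 IH) (Lpe (K1.f66831 IH) (Lpr_cf (K1.f66827 IH) (Lpe (K1.f15857 IH) (Lpe (K1.f15853 IH) (Lpe (K1.f15859 IH) (Lpe (K1.f66665 IH) (Lpe (K1.f66660 IH) (Lpe (K1.f59462 IH) (Lpr_df (K1.f66642 IH) (Lpe (K1.f12096 IH) (Lpr_df (K1.f18060 IH) (Lpe (K1.f11445 IH) (Lpe (K1.f11453 IH) (Lpe (K2.f11443 IH) (Lpn (LP (LK LD1_c3 LD2_c30 LD3_c6))))))))))))))))))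
theorem f97707 : Led Lsl_df (LP (LK LD1_c1 LD2_c31 LD3_c34)) = (LP (LK LD1_c1 LD2_c39 LD3_c24)) :=
  Lgr Lrot153 (Lpr_gt (K5.f82406 IH) (Lpe (K3.f78197 IH) (Lpe (K3.f78194 IH) (Lpr_df (K3.f97701 IH) (Lpe (K3.f97578 IH) (Lpe (f66833 IH) (Lpr_gf (K2.f91976 IH) (Lpe (K2.f91962 IH) (Lpr_gt (K11.f91978 IH) (Lpn (LP (LK LD1_c1 LD2_c39 LD3_c24))))))))))))
theorem f124702 : Led Lsl_et (LP (LK LD1_c3 LD2_c25 LD3_c32)) = (LP (LK LD1_c1 LD2_c39 LD3_c24)) :=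
  Lre_e IH (LK LD1_c3 LD2_c25 LD3_c32) (LK LD1_c1 LD2_c39 LD3_c24) Lrfl Lrfl
theorem f523708 : Led Lsl_df (LP (LK LD1_c3 LD2_c25 LD3_c32)) = K49.v2513 :=
  Lgr Lrot70 (Lpr_et (f124702 IH) (Lpe (f97707 IH) (Lpe (K5.f124696 IH) (Lpr_dt (K5.f107265 IH) (Lpr_et (K49.f523705 IH) (Lpn K49.v2513))))))
theorem f701401 : v6674 = (LP (LK LD1_c4 LD2_c40 LD3_c45)) :=
  (Llr Lrot9 (Lpe (f657633 IH) (Lpr_df (f523708 IH) (Lpq (K49.f663084 IH) (Lpe (K49.f633335 IH) (Lpr_ct (K49.f76950 IH) (Lpe (K49.f76951 IH) (Lpr_ct (f73786 IH) (Lpr_df (K2.f76810 IH) (Lpr_cf (f647270 IH) (Lpr_gf (f701400 IH) (Lpe (f701397 IH) (Lpn (LP (LK LD1_c4 LD2_c40 LD3_c45))))))))))))))).symm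
theorem f701404 : Led Lsl_gt (LP (LK LD1_c3 LD2_c25 LD3_c32)) = (LP (LK LD1_c4 LD2_c40 LD3_c45)) :=
  Leop (Lpq (f701401 IH) (Lpe (f657633 IH) (Lpn (LP (LK LD1_c3 LD2_c25 LD3_c32)))))
theorem seed_666 : LEOK LG_g (LK LD1_c3 LD2_c25 LD3_c32) :=
  Leoe_g (LK LD1_c3 LD2_c25 LD3_c32) (f701404 IH)
def v13155 : LQ := Led Lsl_ft (LP (LK LD1_c4 LD2_c40 LD3_c46))
theorem f701439 : Led Lsl_ft (LP (LK LD1_c4 LD2_c40 LD3_c46)) = v13155 :=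
  Lrfl
theorem f61056 : Led Lsl_gt (LP (LK LD1_c4 LD2_c40 LD3_c46)) = (LP (LK LD1_c9 LD2_c16 LD3_c57)) :=
  Lre_g IH (LK LD1_c4 LD2_c40 LD3_c46) (LK LD1_c9 LD2_c16 LD3_c57) Lrfl Lrfl
def v13153 : LQ := Led Lsl_at (LP (LK LD1_c4 LD2_c40 LD3_c46))
theorem f701428 : Led Lsl_at (LP (LK LD1_c4 LD2_c40 LD3_c46)) = v13153 :=
  Lrfl
theorem f701429 : Led Lsl_af (LP (LK LD1_c4 LD2_c40 LD3_c46)) = v13153 :=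
  Lgr Lrot0 (Lpr_at (f701428 IH) (Lpn v13153))
theorem f61055 : Led Lsl_ct (LP (LK LD1_c2 LD2_c17 LD3_c25)) = (LP (LK LD1_c4 LD2_c40 LD3_c46)) :=
  Lre_c IH (LK LD1_c2 LD2_c17 LD3_c25) (LK LD1_c4 LD2_c40 LD3_c46) Lrfl Lrfl
def v4240 : LQ := Led Lsl_at (LP (LK LD1_c2 LD2_c17 LD3_c25))
theorem f632141 : Led Lsl_at (LP (LK LD1_c2 LD2_c17 LD3_c25)) = v4240 :=
  Lrfl
theorem f632142 : Led Lsl_af (LP (LK LD1_c2 LD2_c17 LD3_c25)) = v4240 :=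
  Lgr Lrot0 (Lpr_at (f632141 IH) (Lpn v4240))
theorem f701430 : Led Lsl_cf v4240 = v13153 :=
  Lgr Lrot1 (Lpe (f632142 IH) (Lpr_ct (f61055 IH) (Lpr_at (f701428 IH) (Lpn v13153))))
theorem f632146 : Led Lsl_ft (LP (LK LD1_c2 LD2_c17 LD3_c26)) = v4240 :=
  Lgr Lrot2 (Lpr_gt (K46.f78495 IH) (Lpr_gt (f22877 IH) (Lpr_af (f632142 IH) (Lpn v4240))))
theorem f632149 : Led Lsl_ff (LP (LK LD1_c2 LD2_c17 LD3_c26)) = v4240 :=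
  Lgr Lrot3 (Lpr_ft (f632146 IH) (Lpn v4240))
theorem f495056 : Led Lsl_ct (LP (LK LD1_c2 LD2_c17 LD3_c26)) = (LP (LK LD1_c4 LD2_c40 LD3_c49)) :=
  Lre_c IH (LK LD1_c2 LD2_c17 LD3_c26) (LK LD1_c4 LD2_c40 LD3_c49) Lrfl Lrfl
theorem f701432 : Led Lsl_ft (LP (LK LD1_c4 LD2_c40 LD3_c49)) = v13153 :=
  Lgr Lrot4 (Lpe (f495056 IH) (Lpr_ff (f632149 IH) (Lpr_cf (f701430 IH) (Lpn v13153))))
theorem f701440 : Led Lsl_af (LP (LK LD1_c4 LD2_c40 LD3_c49)) = v13155 :=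
  Lgr Lrot45 (Lpr_ft (f701432 IH) (Lpe (f701429 IH) (Lpr_ft (f701439 IH) (Lpn v13155))))
theorem f701443 : Led Lsl_gt (LP (LK LD1_c9 LD2_c16 LD3_c57)) = (LP (LK LD1_c4 LD2_c40 LD3_c49)) :=
  Lgr Lrot46 (Lpe (f61056 IH) (Lpr_ft (f701439 IH) (Lpe (f701440 IH) (Lpn (LP (LK LD1_c4 LD2_c40 LD3_c49))))))
theorem f701444 : Led Lsl_gt (LP (LK LD1_c9 LD2_c16 LD3_c57)) = (LP (LK LD1_c4 LD2_c40 LD3_c49)) :=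
  Leop (Lpe (f701443 IH) (Lpn (LP (LK LD1_c9 LD2_c16 LD3_c57))))
theorem seed_667 : LEOK LG_g (LK LD1_c9 LD2_c16 LD3_c57) :=
  Leoe_g (LK LD1_c9 LD2_c16 LD3_c57) (f701444 IH)
def v13181 : LQ := Led Lsl_at (LP (LK LD1_c4 LD2_c41 LD3_c2))
theorem f701540 : Led Lsl_at (LP (LK LD1_c4 LD2_c41 LD3_c2)) = v13181 :=
  Lrfl
theorem f504022 : Led Lsl_ff (LP (LK LD1_c3 LD2_c3 LD3_c1)) = (LP (LK LD1_c4 LD2_c41 LD3_c7)) :=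
  Lgr Lrot72 (Lpr_et (K16.f413629 IH) (Lpr_ft (K32.f503417 IH) (Lpr_et (K32.f438571 IH) (Lpe (K35.f503445 IH) (Lpr_et (K35.f504018 IH) (Lpn (LP (LK LD1_c4 LD2_c41 LD3_c7))))))))
theorem f504026 : Led Lsl_ft (LP (LK LD1_c3 LD2_c3 LD3_c1)) = (LP (LK LD1_c4 LD2_c41 LD3_c7)) :=
  Lgr Lrot48 (Lpr_ff (f504022 IH) (Lpn (LP (LK LD1_c4 LD2_c41 LD3_c7))))
theorem f504028 : Led Lsl_ff (LP (LK LD1_c5 LD2_c0 LD3_c22)) = (LP (LK LD1_c3 LD2_c24 LD3_c7)) :=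
  Lgr Lrot19 (Lpe (K16.f413617 IH) (Lpr_ft (f504026 IH) (Lpe (K24.f414438 IH) (Lpn (LP (LK LD1_c3 LD2_c24 LD3_c7))))))
theorem f504032 : Led Lsl_at (LP (LK LD1_c5 LD2_c0 LD3_c22)) = (LP (LK LD1_c3 LD2_c24 LD3_c8)) :=
  Lgr Lrot26 (Lpr_ff (f504028 IH) (Lpe (K17.f414796 IH) (Lpr_gt (K24.f413730 IH) (Lpn (LP (LK LD1_c3 LD2_c24 LD3_c8))))))
theorem f504036 : Led Lsl_af (LP (LK LD1_c3 LD2_c21 LD3_c8)) = (LP (LK LD1_c4 LD2_c49 LD3_c37)) :=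
  Lgr Lrot68 (Lpe (K17.f414065 IH) (Lpr_at (f504032 IH) (Lpr_ct (K24.f414260 IH) (Lpn (LP (LK LD1_c4 LD2_c49 LD3_c37))))))
theorem f504046 : Led Lsl_ft (LP (LK LD1_c3 LD2_c21 LD3_c7)) = (LP (LK LD1_c4 LD2_c49 LD3_c37)) :=
  Lgr Lrot2 (Lpr_gt (K16.f60007 IH) (Lpr_gt (K24.f23082 IH) (Lpr_af (f504036 IH) (Lpn (LP (LK LD1_c4 LD2_c49 LD3_c37))))))
theorem f504052 : Led Lsl_ff (LP (LK LD1_c3 LD2_c21 LD3_c7)) = (LP (LK LD1_c4 LD2_c49 LD3_c37)) :=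
  Lgr Lrot3 (Lpr_ft (f504046 IH) (Lpn (LP (LK LD1_c4 LD2_c49 LD3_c37))))
theorem f504056 : Led Lsl_at (LP (LK LD1_c3 LD2_c21 LD3_c7)) = (LP (LK LD1_c4 LD2_c49 LD3_c36)) :=
  Lgr Lrot26 (Lpr_ff (f504052 IH) (Lpr_gt (K24.f80013 IH) (Lpr_gt (K17.f27108 IH) (Lpn (LP (LK LD1_c4 LD2_c49 LD3_c36))))))
theorem f504042 : Led Lsl_at (LP (LK LD1_c3 LD2_c21 LD3_c8)) = (LP (LK LD1_c4 LD2_c49 LD3_c37)) :=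
  Lgr Lrot100 (Lpr_af (f504036 IH) (Lpn (LP (LK LD1_c4 LD2_c49 LD3_c37))))
theorem f504060 : Led Lsl_ff (LP (LK LD1_c3 LD2_c21 LD3_c8)) = (LP (LK LD1_c4 LD2_c49 LD3_c36)) :=
  Lgr Lrot30 (Lpr_at (f504042 IH) (Lpe (f504052 IH) (Lpr_at (f504056 IH) (Lpn (LP (LK LD1_c4 LD2_c49 LD3_c36))))))
theorem f504064 : Led Lsl_ft (LP (LK LD1_c6 LD2_c12 LD3_c31)) = (LP (LK LD1_c9 LD2_c17 LD3_c44)) :=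
  Lgr Lrot54 (Lpr_df (K24.f416473 IH) (Lpr_ff (f504060 IH) (Lpr_df (K24.f414341 IH) (Lpn (LP (LK LD1_c9 LD2_c17 LD3_c44))))))
theorem f504072 : Led Lsl_ff (LP (LK LD1_c6 LD2_c12 LD3_c31)) = (LP (LK LD1_c9 LD2_c17 LD3_c44)) :=
  Lgr Lrot3 (Lpr_ft (f504064 IH) (Lpn (LP (LK LD1_c9 LD2_c17 LD3_c44))))
theorem f504078 : Led Lsl_ft (LP (LK LD1_c3 LD2_c2 LD3_c49)) = (LP (LK LD1_c4 LD2_c41 LD3_c14)) :=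
  Lgr Lrot4 (Lpe (K24.f413467 IH) (Lpr_ff (f504072 IH) (Lpe (K24.f414343 IH) (Lpn (LP (LK LD1_c4 LD2_c41 LD3_c14))))))
theorem f504080 : Led Lsl_af (LP (LK LD1_c3 LD2_c2 LD3_c61)) = (LP (LK LD1_c4 LD2_c41 LD3_c14)) :=
  Lgr Lrot31 (Lpe (K24.f414154 IH) (Lpe (K24.f413480 IH) (Lpr_ft (f504078 IH) (Lpn (LP (LK LD1_c4 LD2_c41 LD3_c14))))))
theorem f504082 : Led Lsl_at (LP (LK LD1_c3 LD2_c2 LD3_c61)) = (LP (LK LD1_c4 LD2_c41 LD3_c14)) :=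
  Lgr Lrot100 (Lpr_af (f504080 IH) (Lpn (LP (LK LD1_c4 LD2_c41 LD3_c14))))
theorem f504084 : Led Lsl_ff (LP (LK LD1_c3 LD2_c2 LD3_c61)) = (LP (LK LD1_c4 LD2_c41 LD3_c5)) :=
  Lgr Lrot52 (Lpr_at (f504082 IH) (Lpe (K24.f416364 IH) (Lpe (K17.f416244 IH) (Lpn (LP (LK LD1_c4 LD2_c41 LD3_c5))))))
theorem f504090 : Led Lsl_ft (LP (LK LD1_c3 LD2_c2 LD3_c61)) = (LP (LK LD1_c4 LD2_c41 LD3_c5)) :=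
  Lgr Lrot48 (Lpr_ff (f504084 IH) (Lpn (LP (LK LD1_c4 LD2_c41 LD3_c5))))
theorem f413977 : Led Lsl_bt (LP (LK LD1_c6 LD2_c12 LD3_c40)) = (LP (LK LD1_c3 LD2_c2 LD3_c61)) :=
  Lre_b IH (LK LD1_c6 LD2_c12 LD3_c40) (LK LD1_c3 LD2_c2 LD3_c61) Lrfl Lrfl
theorem f414424 : Led Lsl_bt (LP (LK LD1_c4 LD2_c41 LD3_c5)) = (LP (LK LD1_c9 LD2_c17 LD3_c37)) :=
  Lre_b IH (LK LD1_c4 LD2_c41 LD3_c5) (LK LD1_c9 LD2_c17 LD3_c37) Lrfl Lrfl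
theorem f504094 : Led Lsl_ff (LP (LK LD1_c6 LD2_c12 LD3_c40)) = (LP (LK LD1_c9 LD2_c17 LD3_c37)) :=
  Lgr Lrot25 (Lpr_bt (f413977 IH) (Lpr_ft (f504090 IH) (Lpr_bt (f414424 IH) (Lpn (LP (LK LD1_c9 LD2_c17 LD3_c37))))))
theorem f504096 : Led Lsl_dt (LP (LK LD1_c6 LD2_c12 LD3_c40)) = (LP (LK LD1_c3 LD2_c2 LD3_c60)) :=
  Lre_d IH (LK LD1_c6 LD2_c12 LD3_c40) (LK LD1_c3 LD2_c2 LD3_c60) Lrfl Lrfl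
theorem f416340 : Led Lsl_dt (LP (LK LD1_c4 LD2_c41 LD3_c4)) = (LP (LK LD1_c9 LD2_c17 LD3_c37)) :=
  Lre_d IH (LK LD1_c4 LD2_c41 LD3_c4) (LK LD1_c9 LD2_c17 LD3_c37) Lrfl Lrfl
theorem f504097 : Led Lsl_ft (LP (LK LD1_c3 LD2_c2 LD3_c60)) = (LP (LK LD1_c4 LD2_c41 LD3_c4)) :=
  Lgr Lrot54 (Lpe (f504096 IH) (Lpr_ff (f504094 IH) (Lpe (f416340 IH) (Lpn (LP (LK LD1_c4 LD2_c41 LD3_c4))))))
theorem f504104 : Led Lsl_ff (LP (LK LD1_c3 LD2_c2 LD3_c60)) = (LP (LK LD1_c4 LD2_c41 LD3_c4)) :=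
  Lgr Lrot3 (Lpr_ft (f504097 IH) (Lpn (LP (LK LD1_c4 LD2_c41 LD3_c4))))
theorem f139938 : Led Lsl_ct (LP (LK LD1_c3 LD2_c2 LD3_c60)) = (LP (LK LD1_c6 LD2_c12 LD3_c36)) :=
  Lre_c IH (LK LD1_c3 LD2_c2 LD3_c60) (LK LD1_c6 LD2_c12 LD3_c36) Lrfl Lrfl
theorem f413660 : Led Lsl_ct (LP (LK LD1_c9 LD2_c17 LD3_c33)) = (LP (LK LD1_c4 LD2_c41 LD3_c4)) :=
  Lre_c IH (LK LD1_c9 LD2_c17 LD3_c33) (LK LD1_c4 LD2_c41 LD3_c4) Lrfl Lrfl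
theorem f504107 : Led Lsl_ft (LP (LK LD1_c6 LD2_c12 LD3_c36)) = (LP (LK LD1_c9 LD2_c17 LD3_c33)) :=
  Lgr Lrot4 (Lpe (f139938 IH) (Lpr_ff (f504104 IH) (Lpe (f413660 IH) (Lpn (LP (LK LD1_c9 LD2_c17 LD3_c33))))))
theorem f139937 : Led Lsl_dt (LP (LK LD1_c12 LD2_c4 LD3_c32)) = (LP (LK LD1_c6 LD2_c12 LD3_c36)) :=
  Lre_d IH (LK LD1_c12 LD2_c4 LD3_c32) (LK LD1_c6 LD2_c12 LD3_c36) Lrfl Lrfl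
theorem f504100 : Led Lsl_dt (LP (LK LD1_c9 LD2_c17 LD3_c33)) = (LP (LK LD1_c17 LD2_c12 LD3_c37)) :=
  Lre_d IH (LK LD1_c9 LD2_c17 LD3_c33) (LK LD1_c17 LD2_c12 LD3_c37) Lrfl Lrfl
theorem f504113 : Led Lsl_ff (LP (LK LD1_c12 LD2_c4 LD3_c32)) = (LP (LK LD1_c17 LD2_c12 LD3_c37)) :=
  Lgr Lrot19 (Lpr_dt (f139937 IH) (Lpr_ft (f504107 IH) (Lpr_dt (f504100 IH) (Lpn (LP (LK LD1_c17 LD2_c12 LD3_c37))))))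
theorem f504122 : Led Lsl_ft (LP (LK LD1_c12 LD2_c4 LD3_c32)) = (LP (LK LD1_c17 LD2_c12 LD3_c37)) :=
  Lgr Lrot48 (Lpr_ff (f504113 IH) (Lpn (LP (LK LD1_c17 LD2_c12 LD3_c37))))
theorem f504124 : Led Lsl_bt (LP (LK LD1_c6 LD2_c12 LD3_c37)) = (LP (LK LD1_c12 LD2_c4 LD3_c32)) :=
  Lre_b IH (LK LD1_c6 LD2_c12 LD3_c37) (LK LD1_c12 LD2_c4 LD3_c32) Lrfl Lrfl
theorem f504125 : Led Lsl_bt (LP (LK LD1_c17 LD2_c12 LD3_c37)) = (LP (LK LD1_c9 LD2_c17 LD3_c34)) :=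
  Lre_b IH (LK LD1_c17 LD2_c12 LD3_c37) (LK LD1_c9 LD2_c17 LD3_c34) Lrfl Lrfl
theorem f504126 : Led Lsl_ff (LP (LK LD1_c6 LD2_c12 LD3_c37)) = (LP (LK LD1_c9 LD2_c17 LD3_c34)) :=
  Lgr Lrot25 (Lpr_bt (f504124 IH) (Lpr_ft (f504122 IH) (Lpr_bt (f504125 IH) (Lpn (LP (LK LD1_c9 LD2_c17 LD3_c34))))))
theorem f502979 : Led Lsl_dt (LP (LK LD1_c6 LD2_c12 LD3_c37)) = (LP (LK LD1_c3 LD2_c2 LD3_c58)) :=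
  Lre_d IH (LK LD1_c6 LD2_c12 LD3_c37) (LK LD1_c3 LD2_c2 LD3_c58) Lrfl Lrfl
theorem f504130 : Led Lsl_dt (LP (LK LD1_c4 LD2_c41 LD3_c2)) = (LP (LK LD1_c9 LD2_c17 LD3_c34)) :=
  Lre_d IH (LK LD1_c4 LD2_c41 LD3_c2) (LK LD1_c9 LD2_c17 LD3_c34) Lrfl Lrfl
theorem f504131 : Led Lsl_ft (LP (LK LD1_c3 LD2_c2 LD3_c58)) = (LP (LK LD1_c4 LD2_c41 LD3_c2)) :=
  Lgr Lrot54 (Lpe (f502979 IH) (Lpr_ff (f504126 IH) (Lpe (f504130 IH) (Lpn (LP (LK LD1_c4 LD2_c41 LD3_c2))))))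
theorem f502987 : Led Lsl_at (LP (LK LD1_c6 LD2_c12 LD3_c34)) = (LP (LK LD1_c3 LD2_c2 LD3_c58)) :=
  Lre_a IH (LK LD1_c6 LD2_c12 LD3_c34) (LK LD1_c3 LD2_c2 LD3_c58) Lrfl Lrfl
theorem f701543 : Led Lsl_ff (LP (LK LD1_c6 LD2_c12 LD3_c34)) = v13181 :=
  Lgr Lrot30 (Lpr_at (f502987 IH) (Lpr_ft (f504131 IH) (Lpr_at (f701540 IH) (Lpn v13181))))
theorem f140038 : Led Lsl_gt (LP (LK LD1_c6 LD2_c12 LD3_c35)) = (LP (LK LD1_c3 LD2_c2 LD3_c58)) :=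
  Lre_g IH (LK LD1_c6 LD2_c12 LD3_c35) (LK LD1_c3 LD2_c2 LD3_c58) Lrfl Lrfl
theorem f701547 : Led Lsl_gf (LP (LK LD1_c6 LD2_c12 LD3_c35)) = v13181 :=
  Lgr Lrot47 (Lpr_gt (f140038 IH) (Lpe (f502987 IH) (Lpr_ff (f701543 IH) (Lpn v13181))))
theorem f502974 : Led Lsl_dt (LP (LK LD1_c6 LD2_c12 LD3_c35)) = (LP (LK LD1_c12 LD2_c4 LD3_c31)) :=
  Lre_d IH (LK LD1_c6 LD2_c12 LD3_c35) (LK LD1_c12 LD2_c4 LD3_c31) Lrfl Lrfl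
theorem f502992 : Led Lsl_ct (LP (LK LD1_c6 LD2_c12 LD3_c34)) = (LP (LK LD1_c3 LD2_c2 LD3_c57)) :=
  Lre_c IH (LK LD1_c6 LD2_c12 LD3_c34) (LK LD1_c3 LD2_c2 LD3_c57) Lrfl Lrfl
theorem f632192 : Led Lsl_ft (LP (LK LD1_c3 LD2_c2 LD3_c57)) = K49.v4248 :=
  Lgr Lrot48 (Lpr_ff (K49.f632190 IH) (Lpn K49.v4248))
theorem f701545 : Led Lsl_ct K49.v4248 = v13181 :=
  Lgr Lrot40 (Lpe (f632192 IH) (Lpe (f502992 IH) (Lpr_ff (f701543 IH) (Lpn v13181))))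
def v5276 : LQ := Led Lsl_dt (LP (LK LD1_c3 LD2_c2 LD3_c56))
theorem f646877 : Led Lsl_dt (LP (LK LD1_c3 LD2_c2 LD3_c56)) = v5276 :=
  Lrfl
theorem f674269 : (LP (LK LD1_c1 LD2_c37 LD3_c4)) = v5276 :=
  Lefun (Lecon (Lfl_df (K49.f509549 IH)) (K49.f674264 IH)) (f646877 IH)
theorem f416185 : Led Lsl_dt (LP (LK LD1_c0 LD2_c44 LD3_c56)) = (LP (LK LD1_c1 LD2_c37 LD3_c7)) :=
  Lre_d IH (LK LD1_c0 LD2_c44 LD3_c56) (LK LD1_c1 LD2_c37 LD3_c7) Lrfl Lrfl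
theorem f416231 : Led Lsl_dt (LP (LK LD1_c6 LD2_c47 LD3_c15)) = (LP (LK LD1_c3 LD2_c21 LD3_c46)) :=
  Lre_d IH (LK LD1_c6 LD2_c47 LD3_c15) (LK LD1_c3 LD2_c21 LD3_c46) Lrfl Lrfl
theorem f701548 : Led Lsl_gt (LP (LK LD1_c12 LD2_c4 LD3_c31)) = (LP (LK LD1_c6 LD2_c47 LD3_c15)) :=
  Lgr Lrot49 (Lpe (f502974 IH) (Lpr_gf (f701547 IH) (Lpe (f701545 IH) (Lpe (K49.f632193 IH) (Lpr_dt (f646877 IH) (Lpq (f674269 IH) (Lpr_gt (K46.f141119 IH) (Lpr_dt (f416185 IH) (Lpe (K24.f416182 IH) (Lpe (f416231 IH) (Lpn (LP (LK LD1_c6 LD2_c47 LD3_c15)))))))))))))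
theorem f701549 : Led Lsl_gt (LP (LK LD1_c12 LD2_c4 LD3_c31)) = (LP (LK LD1_c6 LD2_c47 LD3_c15)) :=
  Leop (Lpe (f701548 IH) (Lpn (LP (LK LD1_c12 LD2_c4 LD3_c31))))
theorem seed_668 : LEOK LG_g (LK LD1_c12 LD2_c4 LD3_c31) :=
  Leoe_g (LK LD1_c12 LD2_c4 LD3_c31) (f701549 IH)
def v13203 : LQ := Led Lsl_gf (LP (LK LD1_c4 LD2_c41 LD3_c34))
theorem f701651 : Led Lsl_gf (LP (LK LD1_c4 LD2_c41 LD3_c34)) = v13203 :=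
  Lrfl
theorem f166393 : Led Lsl_et (LP (LK LD1_c2 LD2_c17 LD3_c52)) = (LP (LK LD1_c4 LD2_c41 LD3_c34)) :=
  Lre_e IH (LK LD1_c2 LD2_c17 LD3_c52) (LK LD1_c4 LD2_c41 LD3_c34) Lrfl Lrfl
theorem f166394 : Led Lsl_df (LP (LK LD1_c2 LD2_c30 LD3_c45)) = (LP (LK LD1_c4 LD2_c41 LD3_c34)) :=
  Lgr Lrot70 (Lpr_et (K19.f166392 IH) (Lpr_dt (K14.f166379 IH) (Lpr_et (K14.f166391 IH) (Lpr_dt (K11.f166384 IH) (Lpr_et (f166393 IH) (Lpn (LP (LK LD1_c4 LD2_c41 LD3_c34))))))))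
theorem f166397 : Led Lsl_dt (LP (LK LD1_c2 LD2_c30 LD3_c45)) = (LP (LK LD1_c4 LD2_c41 LD3_c34)) :=
  Lgr Lrot42 (Lpr_df (f166394 IH) (Lpn (LP (LK LD1_c4 LD2_c41 LD3_c34))))
theorem f387381 : Led Lsl_gt (LP (LK LD1_c2 LD2_c33 LD3_c8)) = (LP (LK LD1_c5 LD2_c12 LD3_c31)) :=
  Lre_g IH (LK LD1_c2 LD2_c33 LD3_c8) (LK LD1_c5 LD2_c12 LD3_c31) Lrfl Lrfl
theorem f387391 : Led Lsl_et (LP (LK LD1_c10 LD2_c15 LD3_c30)) = (LP (LK LD1_c5 LD2_c12 LD3_c31)) :=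
  Lre_e IH (LK LD1_c10 LD2_c15 LD3_c30) (LK LD1_c5 LD2_c12 LD3_c31) Lrfl Lrfl
theorem f701653 : Led Lsl_dt (LP (LK LD1_c10 LD2_c15 LD3_c30)) = v13203 :=
  Lgr Lrot136 (Lpr_et (f387391 IH) (Lpe (f387381 IH) (Lpe (f185125 IH) (Lpr_dt (K10.f185085 IH) (Lpe (K10.f185133 IH) (Lpr_df (K12.f194024 IH) (Lpe (K10.f166373 IH) (Lpe (K19.f166392 IH) (Lpr_dt (f166397 IH) (Lpr_gf (f701651 IH) (Lpn v13203)))))))))))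
theorem f701654 : Led Lsl_df (LP (LK LD1_c10 LD2_c15 LD3_c30)) = v13203 :=
  Lgr Lrot38 (Lpr_dt (f701653 IH) (Lpn v13203))
theorem f307991 : Led Lsl_at (LP (LK LD1_c3 LD2_c5 LD3_c30)) = (LP (LK LD1_c4 LD2_c41 LD3_c34)) :=
  Lgr Lrot51 (Lpr_df (K36.f185789 IH) (Lpr_af (K38.f307987 IH) (Lpr_df (f166394 IH) (Lpn (LP (LK LD1_c4 LD2_c41 LD3_c34))))))
def v5306 : LQ := Led Lsl_ft (LP (LK LD1_c3 LD2_c5 LD3_c30))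
theorem f646971 : Led Lsl_ft (LP (LK LD1_c3 LD2_c5 LD3_c30)) = v5306 :=
  Lrfl
theorem f646974 : Led Lsl_ff (LP (LK LD1_c3 LD2_c5 LD3_c30)) = v5306 :=
  Lgr Lrot3 (Lpr_ft (f646971 IH) (Lpn v5306))
theorem f701652 : Led Lsl_gt v5306 = v13203 :=
  Lgr Lrot5 (Lpe (f646974 IH) (Lpr_at (f307991 IH) (Lpr_gf (f701651 IH) (Lpn v13203))))
theorem f179944 : Led Lsl_et (LP (LK LD1_c3 LD2_c5 LD3_c30)) = (LP (LK LD1_c1 LD2_c28 LD3_c45)) :=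
  Lre_e IH (LK LD1_c3 LD2_c5 LD3_c30) (LK LD1_c1 LD2_c28 LD3_c45) Lrfl Lrfl
theorem f176924 : Led Lsl_et (LP (LK LD1_c2 LD2_c17 LD3_c51)) = (LP (LK LD1_c4 LD2_c41 LD3_c33)) :=
  Lre_e IH (LK LD1_c2 LD2_c17 LD3_c51) (LK LD1_c4 LD2_c41 LD3_c33) Lrfl Lrfl
theorem f176960 : Led Lsl_ft (LP (LK LD1_c4 LD2_c41 LD3_c33)) = (LP (LK LD1_c9 LD2_c17 LD3_c61)) :=
  Lre_f IH (LK LD1_c4 LD2_c41 LD3_c33) (LK LD1_c9 LD2_c17 LD3_c61) Lrfl Lrfl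
theorem f646976 : Led Lsl_et (LP (LK LD1_c9 LD2_c17 LD3_c61)) = v5306 :=
  Lgr Lrot69 (Lpe (f176960 IH) (Lpe (f176924 IH) (Lpe (K18.f302547 IH) (Lpe (f179944 IH) (Lpr_ff (f646974 IH) (Lpn v5306))))))
theorem f176959 : Led Lsl_ft (LP (LK LD1_c10 LD2_c4 LD3_c6)) = (LP (LK LD1_c5 LD2_c6 LD3_c41)) :=
  Lre_f IH (LK LD1_c10 LD2_c4 LD3_c6) (LK LD1_c5 LD2_c6 LD3_c41) Lrfl Lrfl
theorem f176961 : Led Lsl_df (LP (LK LD1_c10 LD2_c4 LD3_c6)) = (LP (LK LD1_c9 LD2_c17 LD3_c61)) :=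
  Lgr Lrot78 (Lpr_ft (f176959 IH) (Lpr_dt (K18.f176950 IH) (Lpr_ft (f176960 IH) (Lpn (LP (LK LD1_c9 LD2_c17 LD3_c61))))))
theorem f186374 : Led Lsl_ft (LP (LK LD1_c5 LD2_c13 LD3_c33)) = (LP (LK LD1_c10 LD2_c17 LD3_c23)) :=
  Lre_f IH (LK LD1_c5 LD2_c13 LD3_c33) (LK LD1_c10 LD2_c17 LD3_c23) Lrfl Lrfl
theorem f186380 : Led Lsl_ft (LP (LK LD1_c6 LD2_c16 LD3_c47)) = (LP (LK LD1_c3 LD2_c5 LD3_c28)) :=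
  Lre_f IH (LK LD1_c6 LD2_c16 LD3_c47) (LK LD1_c3 LD2_c5 LD3_c28) Lrfl Lrfl
theorem f302569 : Led Lsl_af (LP (LK LD1_c6 LD2_c16 LD3_c47)) = (LP (LK LD1_c9 LD2_c17 LD3_c61)) :=
  Lgr Lrot45 (Lpr_ft (f186380 IH) (Lpr_at (K44.f302563 IH) (Lpr_ft (f176960 IH) (Lpn (LP (LK LD1_c9 LD2_c17 LD3_c61))))))
theorem f186367 : Led Lsl_df (LP (LK LD1_c3 LD2_c5 LD3_c28)) = (LP (LK LD1_c5 LD2_c13 LD3_c33)) :=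
  Lgr Lrot70 (Lpr_et (f186351 IH) (Lpe (K16.f186327 IH) (Lpr_et (K18.f186364 IH) (Lpr_dt (K18.f183386 IH) (Lpr_et (f186366 IH) (Lpn (LP (LK LD1_c5 LD2_c13 LD3_c33))))))))
theorem f186370 : Led Lsl_ft (LP (LK LD1_c3 LD2_c5 LD3_c28)) = (LP (LK LD1_c6 LD2_c16 LD3_c47)) :=
  Lre_f IH (LK LD1_c3 LD2_c5 LD3_c28) (LK LD1_c6 LD2_c16 LD3_c47) Lrfl Lrfl
theorem f186371 : Led Lsl_ft (LP (LK LD1_c10 LD2_c17 LD3_c23)) = (LP (LK LD1_c5 LD2_c13 LD3_c33)) :=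
  Lre_f IH (LK LD1_c10 LD2_c17 LD3_c23) (LK LD1_c5 LD2_c13 LD3_c33) Lrfl Lrfl
theorem f186372 : Led Lsl_dt (LP (LK LD1_c6 LD2_c16 LD3_c47)) = (LP (LK LD1_c10 LD2_c17 LD3_c23)) :=
  Lgr Lrot60 (Lpe (f186370 IH) (Lpr_df (f186367 IH) (Lpe (f186371 IH) (Lpn (LP (LK LD1_c10 LD2_c17 LD3_c23))))))
theorem f176966 : Led Lsl_dt (LP (LK LD1_c10 LD2_c4 LD3_c6)) = (LP (LK LD1_c9 LD2_c17 LD3_c61)) :=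
  Lgr Lrot42 (Lpr_df (f176961 IH) (Lpn (LP (LK LD1_c9 LD2_c17 LD3_c61))))
theorem f302575 : Led Lsl_at (LP (LK LD1_c10 LD2_c17 LD3_c23)) = (LP (LK LD1_c10 LD2_c4 LD3_c6)) :=
  Lgr Lrot51 (Lpe (f186372 IH) (Lpr_af (f302569 IH) (Lpe (f176966 IH) (Lpn (LP (LK LD1_c10 LD2_c4 LD3_c6))))))
theorem f421764 : Led Lsl_gt (LP (LK LD1_c6 LD2_c9 LD3_c0)) = (LP (LK LD1_c10 LD2_c4 LD3_c6)) :=
  Lgr Lrot46 (Lpr_gf (f421762 IH) (Lpr_ft (f186374 IH) (Lpr_at (f302575 IH) (Lpn (LP (LK LD1_c10 LD2_c4 LD3_c6))))))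
def v5078 : LQ := Led Lsl_et (LP (LK LD1_c2 LD2_c57 LD3_c7))
theorem f645210 : Led Lsl_et (LP (LK LD1_c2 LD2_c57 LD3_c7)) = v5078 :=
  Lrfl
theorem f645211 : Led Lsl_ef (LP (LK LD1_c2 LD2_c57 LD3_c7)) = v5078 :=
  Lgr Lrot88 (Lpr_et (f645210 IH) (Lpn v5078))
def v12967 : LQ := Led Lsl_et (LP (LK LD1_c4 LD2_c35 LD3_c44))
theorem f699924 : Led Lsl_et (LP (LK LD1_c4 LD2_c35 LD3_c44)) = v12967 :=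
  Lrfl
theorem f699927 : Led Lsl_ef (LP (LK LD1_c4 LD2_c35 LD3_c44)) = v12967 :=
  Lgr Lrot88 (Lpr_et (f699924 IH) (Lpn v12967))
theorem f500953 : Led Lsl_dt (LP (LK LD1_c4 LD2_c35 LD3_c44)) = K35.v1705 :=
  Lgr Lrot42 (Lpr_df (K35.f500952 IH) (Lpn K35.v1705))
theorem f699929 : Led Lsl_dt v5078 = v12967 :=
  Lgr Lrot77 (Lpe (f645210 IH) (Lpe (f69069 IH) (Lpr_ef (K35.f500950 IH) (Lpe (f500953 IH) (Lpr_ef (f699927 IH) (Lpn v12967))))))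
theorem f701656 : Led Lsl_gt (LP (LK LD1_c10 LD2_c15 LD3_c30)) = v12967 :=
  Lgr Lrot139 (Lpr_df (f701654 IH) (Lpe (f701652 IH) (Lpe (f646976 IH) (Lpe (f176961 IH) (Lpe (f421764 IH) (Lpe (f444237 IH) (Lpr_et (f444232 IH) (Lpe (f69070 IH) (Lpr_ef (f645211 IH) (Lpr_dt (f699929 IH) (Lpn v12967)))))))))))
theorem f701655 : Led Lsl_et (LP (LK LD1_c5 LD2_c12 LD3_c31)) = (LP (LK LD1_c10 LD2_c15 LD3_c30)) :=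
  Lre_e IH (LK LD1_c5 LD2_c12 LD3_c31) (LK LD1_c10 LD2_c15 LD3_c30) Lrfl Lrfl
theorem f387382 : Led Lsl_dt (LP (LK LD1_c5 LD2_c12 LD3_c31)) = (LP (LK LD1_c10 LD2_c15 LD3_c29)) :=
  Lre_d IH (LK LD1_c5 LD2_c12 LD3_c31) (LK LD1_c10 LD2_c15 LD3_c29) Lrfl Lrfl
theorem f507101 : Led Lsl_ef (LP (LK LD1_c5 LD2_c57 LD3_c19)) = (LP (LK LD1_c6 LD2_c3 LD3_c3)) :=
  Lgr Lrot20 (Lpe (K32.f446172 IH) (Lpr_et (K35.f444636 IH) (Lpr_at (K35.f507095 IH) (Lpn (LP (LK LD1_c6 LD2_c3 LD3_c3))))))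
def v1731 : LQ := Led Lsl_gf (LP (LK LD1_c1 LD2_c24 LD3_c36))
theorem f501189 : Led Lsl_gf (LP (LK LD1_c1 LD2_c24 LD3_c36)) = v1731 :=
  Lrfl
theorem f507535 : v1731 = K35.v1705 :=
  (Llr Lrot141 (Lpe (f501189 IH) (Lpe (K35.f452895 IH) (Lpr_dt (K32.f415895 IH) (Lpr_gt (K32.f501055 IH) (Lpe (K32.f501075 IH) (Lpe (f507101 IH) (Lpr_gt (f507531 IH) (Lpe (f507533 IH) (Lpr_gt (f419067 IH) (Lpe (f69069 IH) (Lpr_et (K35.f500948 IH) (Lpn K35.v1705))))))))))))).symm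
theorem f180345 : Led Lsl_et (LP (LK LD1_c2 LD2_c57 LD3_c49)) = (LP (LK LD1_c6 LD2_c3 LD3_c23)) :=
  Lre_e IH (LK LD1_c2 LD2_c57 LD3_c49) (LK LD1_c6 LD2_c3 LD3_c23) Lrfl Lrfl
theorem f172568 : Led Lsl_gt (LP (LK LD1_c2 LD2_c48 LD3_c25)) = (LP (LK LD1_c1 LD2_c20 LD3_c24)) :=
  Lre_g IH (LK LD1_c2 LD2_c48 LD3_c25) (LK LD1_c1 LD2_c20 LD3_c24) Lrfl Lrfl
theorem f172569 : Led Lsl_et (LP (LK LD1_c5 LD2_c45 LD3_c21)) = (LP (LK LD1_c2 LD2_c48 LD3_c25)) :=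
  Lre_e IH (LK LD1_c5 LD2_c45 LD3_c21) (LK LD1_c2 LD2_c48 LD3_c25) Lrfl Lrfl
theorem f172570 : Led Lsl_dt (LP (LK LD1_c5 LD2_c45 LD3_c21)) = (LP (LK LD1_c11 LD2_c21 LD3_c9)) :=
  Lre_d IH (LK LD1_c5 LD2_c45 LD3_c21) (LK LD1_c11 LD2_c21 LD3_c9) Lrfl Lrfl
theorem f180292 : Led Lsl_dt (LP (LK LD1_c2 LD2_c57 LD3_c48)) = (LP (LK LD1_c6 LD2_c3 LD3_c23)) :=
  Lre_d IH (LK LD1_c2 LD2_c57 LD3_c48) (LK LD1_c6 LD2_c3 LD3_c23) Lrfl Lrfl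
theorem f180298 : Led Lsl_gf (LP (LK LD1_c11 LD2_c21 LD3_c9)) = (LP (LK LD1_c6 LD2_c3 LD3_c23)) :=
  Lgr Lrot134 (Lpe (f172570 IH) (Lpr_et (f172569 IH) (Lpr_gt (f172568 IH) (Lpe (K13.f172567 IH) (Lpe (K9.f172427 IH) (Lpe (K10.f180278 IH) (Lpe (K9.f7895 IH) (Lpr_et (K17.f164734 IH) (Lpr_gt (K17.f180290 IH) (Lpr_dt (f180292 IH) (Lpn (LP (LK LD1_c6 LD2_c3 LD3_c23)))))))))))))
theorem f180343 : Led Lsl_dt (LP (LK LD1_c11 LD2_c21 LD3_c9)) = (LP (LK LD1_c5 LD2_c45 LD3_c21)) :=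
  Lre_d IH (LK LD1_c11 LD2_c21 LD3_c9) (LK LD1_c5 LD2_c45 LD3_c21) Lrfl Lrfl
theorem f701657 : Led Lsl_gf (LP (LK LD1_c10 LD2_c15 LD3_c29)) = (LP (LK LD1_c5 LD2_c45 LD3_c21)) :=
  Lgr Lrot134 (Lpe (f387382 IH) (Lpr_et (f701655 IH) (Lpr_gt (f701656 IH) (Lpe (f699924 IH) (Lpr_dt (f500953 IH) (Lpq (f507535 IH) (Lpe (f501189 IH) (Lpe (K49.f180309 IH) (Lpr_et (f180345 IH) (Lpe (f180298 IH) (Lpr_dt (f180343 IH) (Lpn (LP (LK LD1_c5 LD2_c45 LD3_c21))))))))))))))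
theorem f701658 : Led Lsl_gt (LP (LK LD1_c5 LD2_c45 LD3_c21)) = (LP (LK LD1_c10 LD2_c15 LD3_c29)) :=
  Leop (Lpr_gf (f701657 IH) (Lpn (LP (LK LD1_c5 LD2_c45 LD3_c21))))
theorem seed_669 : LEOK LG_g (LK LD1_c5 LD2_c45 LD3_c21) :=
  Leoe_g (LK LD1_c5 LD2_c45 LD3_c21) (f701658 IH)
def v13232 : LQ := Led Lsl_gf (LP (LK LD1_c4 LD2_c41 LD3_c52))
theorem f701815 : Led Lsl_gf (LP (LK LD1_c4 LD2_c41 LD3_c52)) = v13232 :=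
  Lrfl
def v13231 : LQ := Led Lsl_gt (LP (LK LD1_c4 LD2_c41 LD3_c52))
theorem f701806 : Led Lsl_gt (LP (LK LD1_c4 LD2_c41 LD3_c52)) = v13231 :=
  Lrfl
theorem f104348 : Led Lsl_dt (LP (LK LD1_c2 LD2_c18 LD3_c10)) = (LP (LK LD1_c4 LD2_c41 LD3_c52)) :=
  Lre_d IH (LK LD1_c2 LD2_c18 LD3_c10) (LK LD1_c4 LD2_c41 LD3_c52) Lrfl Lrfl
theorem f61093 : Led Lsl_gt (LP (LK LD1_c1 LD2_c6 LD3_c6)) = (LP (LK LD1_c2 LD2_c18 LD3_c10)) :=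
  Lre_g IH (LK LD1_c1 LD2_c6 LD3_c6) (LK LD1_c2 LD2_c18 LD3_c10) Lrfl Lrfl
theorem f104347 : Led Lsl_et (LP (LK LD1_c0 LD2_c30 LD3_c13)) = (LP (LK LD1_c1 LD2_c6 LD3_c6)) :=
  Lre_e IH (LK LD1_c0 LD2_c30 LD3_c13) (LK LD1_c1 LD2_c6 LD3_c6) Lrfl Lrfl
def v8349 : LQ := Led Lsl_et K48.v1995
theorem f670949 : Led Lsl_et K48.v1995 = v8349 :=
  Lrfl
theorem f670951 : Led Lsl_ef K48.v1995 = v8349 :=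
  Lgr Lrot88 (Lpr_et (f670949 IH) (Lpn v8349))
theorem f701808 : Led Lsl_dt v8349 = v13231 :=
  Lgr Lrot56 (Lpe (f670951 IH) (Lpe (K48.f506786 IH) (Lpe (K34.f104342 IH) (Lpe (K3.f104340 IH) (Lpr_gt (K3.f20970 IH) (Lpe (K2.f60991 IH) (Lpr_et (f104347 IH) (Lpr_gt (f61093 IH) (Lpr_dt (f104348 IH) (Lpr_gt (f701806 IH) (Lpn v13231)))))))))))
def v8346 : LQ := Led Lsl_dt K48.v1992
theorem f670881 : Led Lsl_dt K48.v1992 = v8346 :=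
  Lrfl
theorem f670882 : Led Lsl_df K48.v1992 = v8346 :=
  Lgr Lrot38 (Lpr_dt (f670881 IH) (Lpn v8346))
theorem f701811 : Led Lsl_ef v8346 = v13231 :=
  Lgr Lrot73 (Lpe (f670882 IH) (Lpr_et (K48.f670883 IH) (Lpe (K48.f670885 IH) (Lpr_et (f670949 IH) (Lpr_dt (f701808 IH) (Lpn v13231))))))
def v5353 : LQ := Led Lsl_dt (LP (LK LD1_c3 LD2_c6 LD3_c39))
theorem f647229 : Led Lsl_dt (LP (LK LD1_c3 LD2_c6 LD3_c39)) = v5353 :=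
  Lrfl
theorem f647231 : Led Lsl_df (LP (LK LD1_c3 LD2_c6 LD3_c39)) = v5353 :=
  Lgr Lrot38 (Lpr_dt (f647229 IH) (Lpn v5353))
theorem f670935 : Led Lsl_af v5353 = v8346 :=
  Lgr Lrot117 (Lpe (f647231 IH) (Lpr_at (K48.f647223 IH) (Lpqs (K48.f670891 IH) (Lpr_dt (f670881 IH) (Lpn v8346)))))
def v5489 : LQ := Led Lsl_bt (LP (LK LD1_c3 LD2_c8 LD3_c32))
theorem f647913 : Led Lsl_bt (LP (LK LD1_c3 LD2_c8 LD3_c32)) = v5489 :=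
  Lrfl
theorem f647230 : Led Lsl_bf (LP (LK LD1_c3 LD2_c6 LD3_c40)) = v5353 :=
  Lgr Lrot93 (Lpr_dt (K32.f67110 IH) (Lpr_bt (K48.f140096 IH) (Lpr_dt (f647229 IH) (Lpn v5353))))
theorem f647915 : Led Lsl_ef v5353 = v5489 :=
  Lgr Lrot29 (Lpe (f647230 IH) (Lpr_et (K32.f444131 IH) (Lpr_bt (f647913 IH) (Lpn v5489))))
theorem f647916 : Led Lsl_et v5353 = v5489 :=
  Lgr Lrot87 (Lpr_ef (f647915 IH) (Lpn v5489))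
theorem f701812 : Led Lsl_at v5489 = v13231 :=
  Lgr Lrot80 (Lpe (f647916 IH) (Lpr_af (f670935 IH) (Lpr_ef (f701811 IH) (Lpn v13231))))
theorem f701816 : Led Lsl_ff v5489 = v13232 :=
  Lgr Lrot52 (Lpr_at (f701812 IH) (Lpe (f701806 IH) (Lpr_gf (f701815 IH) (Lpn v13232))))
theorem f647914 : Led Lsl_bf (LP (LK LD1_c3 LD2_c8 LD3_c32)) = v5489 :=
  Lgr Lrot24 (Lpr_bt (f647913 IH) (Lpn v5489))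
theorem f639969 : Led Lsl_ff (LP (LK LD1_c3 LD2_c12 LD3_c55)) = (LP (LK LD1_c3 LD2_c6 LD3_c40)) :=
  Lgr Lrot19 (Lpr_dt (K24.f59494 IH) (Lpqs (K48.f639390 IH) (Lpe (K48.f504480 IH) (Lpr_dt (K9.f67309 IH) (Lpn (LP (LK LD1_c3 LD2_c6 LD3_c40)))))))
theorem f639975 : Led Lsl_ft (LP (LK LD1_c3 LD2_c12 LD3_c55)) = (LP (LK LD1_c3 LD2_c6 LD3_c40)) :=
  Lgr Lrot48 (Lpr_ff (f639969 IH) (Lpn (LP (LK LD1_c3 LD2_c6 LD3_c40))))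
theorem f435263 : Led Lsl_et (LP (LK LD1_c4 LD2_c42 LD3_c22)) = (LP (LK LD1_c3 LD2_c12 LD3_c55)) :=
  Lgr Lrot87 (Lpr_ef (K24.f435258 IH) (Lpn (LP (LK LD1_c3 LD2_c12 LD3_c55))))
theorem f639979 : Led Lsl_ff (LP (LK LD1_c4 LD2_c42 LD3_c3)) = (LP (LK LD1_c3 LD2_c8 LD3_c32)) :=
  Lgr Lrot72 (Lpe (K35.f627817 IH) (Lpe (K48.f639375 IH) (Lpr_et (f435263 IH) (Lpr_ft (f639975 IH) (Lpr_et (K32.f444131 IH) (Lpn (LP (LK LD1_c3 LD2_c8 LD3_c32))))))))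
theorem f701817 : Led Lsl_bt (LP (LK LD1_c4 LD2_c42 LD3_c3)) = v13232 :=
  Lgr Lrot35 (Lpr_ff (f639979 IH) (Lpr_bf (f647914 IH) (Lpr_ff (f701816 IH) (Lpn v13232))))
theorem f153581 : Led Lsl_ct (LP (LK LD1_c4 LD2_c42 LD3_c3)) = (LP (LK LD1_c9 LD2_c18 LD3_c32)) :=
  Lre_c IH (LK LD1_c4 LD2_c42 LD3_c3) (LK LD1_c9 LD2_c18 LD3_c32) Lrfl Lrfl
theorem f27090 : Led Lsl_ct (LP (LK LD1_c2 LD2_c21 LD3_c56)) = (LP (LK LD1_c4 LD2_c48 LD3_c5)) :=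
  Lre_c IH (LK LD1_c2 LD2_c21 LD3_c56) (LK LD1_c4 LD2_c48 LD3_c5) Lrfl Lrfl
theorem f507357 : Led Lsl_ff (LP (LK LD1_c3 LD2_c19 LD3_c27)) = (LP (LK LD1_c4 LD2_c48 LD3_c5)) :=
  Lgr Lrot23 (Lpr_ct (K49.f24638 IH) (Lpr_ft (K49.f507355 IH) (Lpr_ct (f27090 IH) (Lpn (LP (LK LD1_c4 LD2_c48 LD3_c5))))))
theorem f153506 : Led Lsl_gt (LP (LK LD1_c4 LD2_c42 LD3_c12)) = (LP (LK LD1_c2 LD2_c18 LD3_c26)) :=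
  Lre_g IH (LK LD1_c4 LD2_c42 LD3_c12) (LK LD1_c2 LD2_c18 LD3_c26) Lrfl Lrfl
theorem f415357 : Led Lsl_cf (LP (LK LD1_c4 LD2_c42 LD3_c12)) = (LP (LK LD1_c2 LD2_c21 LD3_c59)) :=
  Lgr Lrot169 (Lpr_gt (f153506 IH) (Lpr_ct (K29.f61072 IH) (Lpe (K24.f26012 IH) (Lpr_cf (K8.f60960 IH) (Lpe (K11.f27064 IH) (Lpr_cf (K35.f27086 IH) (Lpr_gf (K32.f415355 IH) (Lpe (K6.f139842 IH) (Lpr_gt (K32.f206548 IH) (Lpn (LP (LK LD1_c2 LD2_c21 LD3_c59))))))))))))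
theorem f86027 : Led Lsl_gt (LP (LK LD1_c4 LD2_c42 LD3_c14)) = (LP (LK LD1_c9 LD2_c18 LD3_c50)) :=
  Lre_g IH (LK LD1_c4 LD2_c42 LD3_c14) (LK LD1_c9 LD2_c18 LD3_c50) Lrfl Lrfl
theorem f415381 : Led Lsl_dt (LP (LK LD1_c9 LD2_c18 LD3_c50)) = (LP (LK LD1_c4 LD2_c48 LD3_c4)) :=
  Lgr Lrot105 (Lpe (f86027 IH) (Lpe (K32.f86026 IH) (Lpe (f153506 IH) (Lpr_cf (f415357 IH) (Lpr_gt (K32.f68457 IH) (Lpr_dt (K32.f68456 IH) (Lpr_gt (K24.f68362 IH) (Lpr_dt (K24.f68373 IH) (Lpe (K49.f68409 IH) (Lpn (LP (LK LD1_c4 LD2_c48 LD3_c4))))))))))))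
theorem f415385 : Led Lsl_df (LP (LK LD1_c9 LD2_c18 LD3_c50)) = (LP (LK LD1_c4 LD2_c48 LD3_c4)) :=
  Lgr Lrot38 (Lpr_dt (f415381 IH) (Lpn (LP (LK LD1_c4 LD2_c48 LD3_c4))))
theorem f153536 : Led Lsl_af (LP (LK LD1_c6 LD2_c22 LD3_c31)) = (LP (LK LD1_c9 LD2_c18 LD3_c51)) :=
  Lgr Lrot0 (Lpr_at (f153523 IH) (Lpn (LP (LK LD1_c9 LD2_c18 LD3_c51))))
theorem f61078 : Led Lsl_ft (LP (LK LD1_c4 LD2_c42 LD3_c14)) = (LP (LK LD1_c9 LD2_c18 LD3_c51)) :=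
  Lre_f IH (LK LD1_c4 LD2_c42 LD3_c14) (LK LD1_c9 LD2_c18 LD3_c51) Lrfl Lrfl
theorem f153556 : Led Lsl_gf (LP (LK LD1_c6 LD2_c22 LD3_c31)) = (LP (LK LD1_c9 LD2_c18 LD3_c50)) :=
  Lgr Lrot76 (Lpr_af (f153536 IH) (Lpe (f61078 IH) (Lpr_gt (f86027 IH) (Lpn (LP (LK LD1_c9 LD2_c18 LD3_c50))))))
theorem f153512 : Led Lsl_dt (LP (LK LD1_c6 LD2_c22 LD3_c31)) = (LP (LK LD1_c3 LD2_c8 LD3_c57)) :=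
  Lre_d IH (LK LD1_c6 LD2_c22 LD3_c31) (LK LD1_c3 LD2_c8 LD3_c57) Lrfl Lrfl
theorem f415390 : Led Lsl_gt (LP (LK LD1_c9 LD2_c18 LD3_c32)) = (LP (LK LD1_c4 LD2_c48 LD3_c4)) :=
  Lgr Lrot94 (Lpe (f153581 IH) (Lpr_gt (K35.f82711 IH) (Lpr_dt (K32.f82708 IH) (Lpe (K11.f153578 IH) (Lpr_dt (K7.f153528 IH) (Lpe (K7.f153510 IH) (Lpe (f153512 IH) (Lpr_gf (f153556 IH) (Lpr_df (f415385 IH) (Lpn (LP (LK LD1_c4 LD2_c48 LD3_c4))))))))))))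
theorem f507367 : Led Lsl_gf (LP (LK LD1_c9 LD2_c18 LD3_c32)) = (LP (LK LD1_c4 LD2_c48 LD3_c5)) :=
  Lgr Lrot47 (Lpr_gt (f415390 IH) (Lpe (K49.f507351 IH) (Lpr_ff (f507357 IH) (Lpn (LP (LK LD1_c4 LD2_c48 LD3_c5))))))
theorem f20150 : Led Lsl_ct (LP (LK LD1_c9 LD2_c17 LD3_c43)) = (LP (LK LD1_c17 LD2_c12 LD3_c46)) :=
  Lre_c IH (LK LD1_c9 LD2_c17 LD3_c43) (LK LD1_c17 LD2_c12 LD3_c46) Lrfl Lrfl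
theorem f701807 : Led Lsl_bt (LP (LK LD1_c9 LD2_c18 LD3_c15)) = (LP (LK LD1_c4 LD2_c41 LD3_c52)) :=
  Lre_b IH (LK LD1_c9 LD2_c18 LD3_c15) (LK LD1_c4 LD2_c41 LD3_c52) Lrfl Lrfl
theorem f415377 : Led Lsl_ct (LP (LK LD1_c9 LD2_c18 LD3_c15)) = (LP (LK LD1_c17 LD2_c13 LD3_c18)) :=
  Lre_c IH (LK LD1_c9 LD2_c18 LD3_c15) (LK LD1_c17 LD2_c13 LD3_c18) Lrfl Lrfl
theorem f701824 : Led Lsl_gf (LP (LK LD1_c17 LD2_c12 LD3_c46)) = (LP (LK LD1_c17 LD2_c13 LD3_c18)) :=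
  Lgr Lrot126 (Lpe (f20150 IH) (Lpr_bt (K48.f20146 IH) (Lpe (K32.f135498 IH) (Lpr_ct (f27090 IH) (Lpe (f507367 IH) (Lpe (f153581 IH) (Lpr_bt (f701817 IH) (Lpe (f701815 IH) (Lpe (f701807 IH) (Lpr_ct (f415377 IH) (Lpn (LP (LK LD1_c17 LD2_c13 LD3_c18)))))))))))))
theorem f701825 : Led Lsl_gt (LP (LK LD1_c17 LD2_c13 LD3_c18)) = (LP (LK LD1_c17 LD2_c12 LD3_c46)) :=
  Leop (Lpr_gf (f701824 IH) (Lpn (LP (LK LD1_c17 LD2_c13 LD3_c18))))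
theorem seed_670 : LEOK LG_g (LK LD1_c17 LD2_c13 LD3_c18) :=
  Leoe_g (LK LD1_c17 LD2_c13 LD3_c18) (f701825 IH)
def v13243 : LQ := Led Lsl_gt (LP (LK LD1_c4 LD2_c41 LD3_c55))
theorem f701864 : Led Lsl_gt (LP (LK LD1_c4 LD2_c41 LD3_c55)) = v13243 :=
  Lrfl
theorem f448340 : Led Lsl_bt (LP (LK LD1_c9 LD2_c18 LD3_c20)) = (LP (LK LD1_c4 LD2_c41 LD3_c55)) :=
  Lre_b IH (LK LD1_c9 LD2_c18 LD3_c20) (LK LD1_c4 LD2_c41 LD3_c55) Lrfl Lrfl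
theorem f448107 : Led Lsl_ff (LP (LK LD1_c6 LD2_c52 LD3_c31)) = (LP (LK LD1_c6 LD2_c48 LD3_c6)) :=
  Lgr Lrot23 (Lpr_ct (K7.f21152 IH) (Lpe (K11.f435902 IH) (Lpr_ct (K11.f448097 IH) (Lpn (LP (LK LD1_c6 LD2_c48 LD3_c6))))))
theorem f84458 : Led Lsl_gt (LP (LK LD1_c6 LD2_c48 LD3_c7)) = (LP (LK LD1_c3 LD2_c22 LD3_c15)) :=
  Lre_g IH (LK LD1_c6 LD2_c48 LD3_c7) (LK LD1_c3 LD2_c22 LD3_c15) Lrfl Lrfl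
theorem f432174 : Led Lsl_gf (LP (LK LD1_c6 LD2_c48 LD3_c7)) = (LP (LK LD1_c7 LD2_c26 LD3_c13)) :=
  Lgr Lrot47 (Lpr_gt (f84458 IH) (Lpe (K49.f432171 IH) (Lpr_ff (K49.f432167 IH) (Lpn (LP (LK LD1_c7 LD2_c26 LD3_c13))))))
theorem f448505 : Led Lsl_at (LP (LK LD1_c6 LD2_c52 LD3_c31)) = (LP (LK LD1_c6 LD2_c48 LD3_c7)) :=
  Lgr Lrot26 (Lpr_ff (f448107 IH) (Lpr_gt (K11.f432504 IH) (Lpe (f432174 IH) (Lpn (LP (LK LD1_c6 LD2_c48 LD3_c7))))))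
theorem f430993 : Led Lsl_dt (LP (LK LD1_c11 LD2_c59 LD3_c56)) = (LP (LK LD1_c6 LD2_c52 LD3_c31)) :=
  Lgr Lrot27 (Lpr_cf (K7.f143238 IH) (Lpe (K7.f143232 IH) (Lpr_cf (K11.f153370 IH) (Lpr_gf (K11.f430979 IH) (Lpe (K11.f430514 IH) (Lpr_gt (K11.f430487 IH) (Lpr_ct (K11.f106793 IH) (Lpr_gt (K7.f144235 IH) (Lpr_ct (K7.f144237 IH) (Lpn (LP (LK LD1_c6 LD2_c52 LD3_c31))))))))))))
theorem f432176 : Led Lsl_dt (LP (LK LD1_c6 LD2_c48 LD3_c7)) = (LP (LK LD1_c12 LD2_c58 LD3_c56)) :=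
  Lre_d IH (LK LD1_c6 LD2_c48 LD3_c7) (LK LD1_c12 LD2_c58 LD3_c56) Lrfl Lrfl
theorem f448510 : Led Lsl_af (LP (LK LD1_c11 LD2_c59 LD3_c56)) = (LP (LK LD1_c12 LD2_c58 LD3_c56)) :=
  Lgr Lrot117 (Lpr_dt (f430993 IH) (Lpr_at (f448505 IH) (Lpr_dt (f432176 IH) (Lpn (LP (LK LD1_c12 LD2_c58 LD3_c56))))))
theorem f24780 : Led Lsl_gt (LP (LK LD1_c11 LD2_c59 LD3_c57)) = (LP (LK LD1_c6 LD2_c9 LD3_c27)) :=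
  Lre_g IH (LK LD1_c11 LD2_c59 LD3_c57) (LK LD1_c6 LD2_c9 LD3_c27) Lrfl Lrfl
theorem f448516 : Led Lsl_ft (LP (LK LD1_c11 LD2_c59 LD3_c57)) = (LP (LK LD1_c12 LD2_c58 LD3_c56)) :=
  Lgr Lrot2 (Lpr_gt (f24780 IH) (Lpr_gt (K7.f24783 IH) (Lpr_af (f448510 IH) (Lpn (LP (LK LD1_c12 LD2_c58 LD3_c56))))))
theorem f448520 : Led Lsl_ff (LP (LK LD1_c11 LD2_c59 LD3_c57)) = (LP (LK LD1_c12 LD2_c58 LD3_c56)) :=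
  Lgr Lrot3 (Lpr_ft (f448516 IH) (Lpn (LP (LK LD1_c12 LD2_c58 LD3_c56))))
theorem f152806 : Led Lsl_ct (LP (LK LD1_c6 LD2_c26 LD3_c19)) = (LP (LK LD1_c3 LD2_c11 LD3_c1)) :=
  Lre_c IH (LK LD1_c6 LD2_c26 LD3_c19) (LK LD1_c3 LD2_c11 LD3_c1) Lrfl Lrfl
theorem f431016 : Led Lsl_gf (LP (LK LD1_c6 LD2_c26 LD3_c19)) = (LP (LK LD1_c6 LD2_c31 LD3_c0)) :=
  Lgr Lrot104 (Lpr_ct (f152806 IH) (Lpe (K11.f430977 IH) (Lpe (K7.f21137 IH) (Lpe (K7.f21133 IH) (Lpr_cf (K5.f21120 IH) (Lpe (K11.f21136 IH) (Lpe (K11.f21138 IH) (Lpr_gt (K11.f431004 IH) (Lpr_ct (K7.f95822 IH) (Lpn (LP (LK LD1_c6 LD2_c31 LD3_c0))))))))))))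
theorem f431029 : Led Lsl_dt (LP (LK LD1_c6 LD2_c26 LD3_c19)) = (LP (LK LD1_c11 LD2_c59 LD3_c57)) :=
  Lgr Lrot57 (Lpr_gf (f431016 IH) (Lpe (K7.f95822 IH) (Lpe (K7.f156032 IH) (Lpr_dt (K7.f21153 IH) (Lpr_gt (K6.f21093 IH) (Lpr_dt (K5.f21076 IH) (Lpe (K5.f21091 IH) (Lpe (K5.f21146 IH) (Lpe (f24780 IH) (Lpn (LP (LK LD1_c11 LD2_c59 LD3_c57))))))))))))
theorem f431036 : Led Lsl_df (LP (LK LD1_c6 LD2_c26 LD3_c19)) = (LP (LK LD1_c11 LD2_c59 LD3_c57)) :=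
  Lgr Lrot38 (Lpr_dt (f431029 IH) (Lpn (LP (LK LD1_c11 LD2_c59 LD3_c57))))
theorem f448522 : Led Lsl_ft (LP (LK LD1_c6 LD2_c26 LD3_c19)) = (LP (LK LD1_c6 LD2_c48 LD3_c7)) :=
  Lgr Lrot54 (Lpr_df (f431036 IH) (Lpr_ff (f448520 IH) (Lpe (f432176 IH) (Lpn (LP (LK LD1_c6 LD2_c48 LD3_c7))))))
theorem f152810 : Led Lsl_bt (LP (LK LD1_c12 LD2_c24 LD3_c34)) = (LP (LK LD1_c6 LD2_c26 LD3_c19)) :=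
  Lre_b IH (LK LD1_c12 LD2_c24 LD3_c34) (LK LD1_c6 LD2_c26 LD3_c19) Lrfl Lrfl
theorem f448509 : Led Lsl_bt (LP (LK LD1_c6 LD2_c48 LD3_c7)) = (LP (LK LD1_c12 LD2_c58 LD3_c55)) :=
  Lre_b IH (LK LD1_c6 LD2_c48 LD3_c7) (LK LD1_c12 LD2_c58 LD3_c55) Lrfl Lrfl
theorem f448524 : Led Lsl_ff (LP (LK LD1_c12 LD2_c24 LD3_c34)) = (LP (LK LD1_c12 LD2_c58 LD3_c55)) :=
  Lgr Lrot25 (Lpr_bt (f152810 IH) (Lpr_ft (f448522 IH) (Lpr_bt (f448509 IH) (Lpn (LP (LK LD1_c12 LD2_c58 LD3_c55))))))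
theorem f152812 : Led Lsl_ct (LP (LK LD1_c12 LD2_c24 LD3_c34)) = (LP (LK LD1_c6 LD2_c26 LD3_c20)) :=
  Lre_c IH (LK LD1_c12 LD2_c24 LD3_c34) (LK LD1_c6 LD2_c26 LD3_c20) Lrfl Lrfl
theorem f152834 : Led Lsl_bt (LP (LK LD1_c1 LD2_c31 LD3_c58)) = (LP (LK LD1_c3 LD2_c11 LD3_c1)) :=
  Lre_b IH (LK LD1_c1 LD2_c31 LD3_c58) (LK LD1_c3 LD2_c11 LD3_c1) Lrfl Lrfl
theorem f430975 : Led Lsl_dt (LP (LK LD1_c2 LD2_c18 LD3_c0)) = (LP (LK LD1_c1 LD2_c31 LD3_c58)) :=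
  Lgr Lrot79 (Lpr_bf (K11.f152671 IH) (Lpr_df (K11.f430969 IH) (Lpe (f152834 IH) (Lpn (LP (LK LD1_c1 LD2_c31 LD3_c58))))))
theorem f25007 : Led Lsl_dt (LP (LK LD1_c0 LD2_c18 LD3_c58)) = (LP (LK LD1_c0 LD2_c42 LD3_c33)) :=
  Lre_d IH (LK LD1_c0 LD2_c18 LD3_c58) (LK LD1_c0 LD2_c42 LD3_c33) Lrfl Lrfl
theorem f82498 : Led Lsl_et (LP (LK LD1_c0 LD2_c18 LD3_c58)) = (LP (LK LD1_c0 LD2_c8 LD3_c30)) :=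
  Lre_e IH (LK LD1_c0 LD2_c18 LD3_c58) (LK LD1_c0 LD2_c8 LD3_c30) Lrfl Lrfl
theorem f431054 : Led Lsl_et (LP (LK LD1_c2 LD2_c18 LD3_c0)) = (LP (LK LD1_c2 LD2_c18 LD3_c0)) :=
  Lgr Lrot121 (Lpr_dt (f430975 IH) (Lpe (K7.f25004 IH) (Lpe (f25007 IH) (Lpr_et (f82498 IH) (Lpe (K3.f21009 IH) (Lpe (K7.f129044 IH) (Lpr_dt (K7.f109184 IH) (Lpr_gf (K7.f152624 IH) (Lpe (K7.f104629 IH) (Lpe (K11.f104679 IH) (Lpn (LP (LK LD1_c2 LD2_c18 LD3_c0)))))))))))))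
theorem f448151 : Led Lsl_ff (LP (LK LD1_c2 LD2_c18 LD3_c0)) = (LP (LK LD1_c1 LD2_c6 LD3_c7)) :=
  Lgr Lrot72 (Lpr_et (f431054 IH) (Lpr_ft (K11.f448145 IH) (Lpe (K7.f131424 IH) (Lpe (K11.f447783 IH) (Lpr_et (K7.f131428 IH) (Lpn (LP (LK LD1_c1 LD2_c6 LD3_c7))))))))
theorem f104698 : Led Lsl_dt (LP (LK LD1_c2 LD2_c18 LD3_c15)) = (LP (LK LD1_c1 LD2_c6 LD3_c7)) :=
  Lre_d IH (LK LD1_c2 LD2_c18 LD3_c15) (LK LD1_c1 LD2_c6 LD3_c7) Lrfl Lrfl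
theorem f448336 : Led Lsl_ft (LP (LK LD1_c1 LD2_c31 LD3_c58)) = (LP (LK LD1_c2 LD2_c18 LD3_c15)) :=
  Lgr Lrot54 (Lpe (f430975 IH) (Lpr_ff (f448151 IH) (Lpe (f104698 IH) (Lpn (LP (LK LD1_c2 LD2_c18 LD3_c15))))))
theorem f430985 : Led Lsl_ct (LP (LK LD1_c3 LD2_c11 LD3_c2)) = (LP (LK LD1_c1 LD2_c31 LD3_c58)) :=
  Lre_c IH (LK LD1_c3 LD2_c11 LD3_c2) (LK LD1_c1 LD2_c31 LD3_c58) Lrfl Lrfl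
theorem f25792 : Led Lsl_ct (LP (LK LD1_c2 LD2_c18 LD3_c15)) = (LP (LK LD1_c4 LD2_c41 LD3_c55)) :=
  Lre_c IH (LK LD1_c2 LD2_c18 LD3_c15) (LK LD1_c4 LD2_c41 LD3_c55) Lrfl Lrfl
theorem f448338 : Led Lsl_ff (LP (LK LD1_c3 LD2_c11 LD3_c2)) = (LP (LK LD1_c4 LD2_c41 LD3_c55)) :=
  Lgr Lrot23 (Lpr_ct (f430985 IH) (Lpr_ft (f448336 IH) (Lpr_ct (f25792 IH) (Lpn (LP (LK LD1_c4 LD2_c41 LD3_c55))))))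
theorem f431053 : Led Lsl_bt (LP (LK LD1_c3 LD2_c11 LD3_c2)) = (LP (LK LD1_c6 LD2_c26 LD3_c20)) :=
  Lre_b IH (LK LD1_c3 LD2_c11 LD3_c2) (LK LD1_c6 LD2_c26 LD3_c20) Lrfl Lrfl
theorem f448341 : Led Lsl_ft (LP (LK LD1_c6 LD2_c26 LD3_c20)) = (LP (LK LD1_c9 LD2_c18 LD3_c20)) :=
  Lgr Lrot75 (Lpe (f431053 IH) (Lpr_ff (f448338 IH) (Lpe (f448340 IH) (Lpn (LP (LK LD1_c9 LD2_c18 LD3_c20))))))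
theorem f448526 : Led Lsl_ct (LP (LK LD1_c9 LD2_c18 LD3_c20)) = (LP (LK LD1_c12 LD2_c58 LD3_c55)) :=
  Lgr Lrot40 (Lpe (f448341 IH) (Lpe (f152812 IH) (Lpr_ff (f448524 IH) (Lpn (LP (LK LD1_c12 LD2_c58 LD3_c55))))))
theorem f448535 : Led Lsl_gt (LP (LK LD1_c22 LD2_c8 LD3_c48)) = (LP (LK LD1_c12 LD2_c58 LD3_c55)) :=
  Lre_g IH (LK LD1_c22 LD2_c8 LD3_c48) (LK LD1_c12 LD2_c58 LD3_c55) Lrfl Lrfl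
theorem f82491 : Led Lsl_at (LP (LK LD1_c0 LD2_c42 LD3_c33)) = (LP (LK LD1_c1 LD2_c31 LD3_c42)) :=
  Lre_a IH (LK LD1_c0 LD2_c42 LD3_c33) (LK LD1_c1 LD2_c31 LD3_c42) Lrfl Lrfl
theorem f82490 : Led Lsl_ft (LP (LK LD1_c1 LD2_c31 LD3_c60)) = (LP (LK LD1_c0 LD2_c42 LD3_c33)) :=
  Lre_f IH (LK LD1_c1 LD2_c31 LD3_c60) (LK LD1_c0 LD2_c42 LD3_c33) Lrfl Lrfl
theorem f131412 : Led Lsl_gt (LP (LK LD1_c1 LD2_c31 LD3_c60)) = (LP (LK LD1_c2 LD2_c18 LD3_c15)) :=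
  Lgr Lrot5 (Lpr_ft (f82490 IH) (Lpr_at (f82491 IH) (Lpr_gf (K5.f131410 IH) (Lpn (LP (LK LD1_c2 LD2_c18 LD3_c15))))))
theorem f82482 : Led Lsl_dt (LP (LK LD1_c1 LD2_c31 LD3_c60)) = (LP (LK LD1_c0 LD2_c42 LD3_c34)) :=
  Lre_d IH (LK LD1_c1 LD2_c31 LD3_c60) (LK LD1_c0 LD2_c42 LD3_c34) Lrfl Lrfl
theorem f155811 : Led Lsl_ef (LP (LK LD1_c0 LD2_c41 LD3_c43)) = (LP (LK LD1_c1 LD2_c6 LD3_c50)) :=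
  Lgr Lrot88 (Lpr_et (K7.f155807 IH) (Lpn (LP (LK LD1_c1 LD2_c6 LD3_c50))))
theorem f155817 : Led Lsl_et (LP (LK LD1_c1 LD2_c6 LD3_c10)) = (LP (LK LD1_c0 LD2_c42 LD3_c34)) :=
  Lgr Lrot158 (Lpr_cf (K6.f104596 IH) (Lpr_ef (f155811 IH) (Lpe (K7.f82474 IH) (Lpn (LP (LK LD1_c0 LD2_c42 LD3_c34))))))
theorem f155819 : Led Lsl_gf (LP (LK LD1_c1 LD2_c6 LD3_c58)) = (LP (LK LD1_c0 LD2_c42 LD3_c34)) :=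
  Lgr Lrot141 (Lpe (K4.f104736 IH) (Lpr_dt (K4.f104731 IH) (Lpe (K5.f131587 IH) (Lpe (K5.f82513 IH) (Lpr_et (K5.f82507 IH) (Lpr_gt (K5.f131579 IH) (Lpr_dt (K7.f109184 IH) (Lpr_gt (K7.f152628 IH) (Lpe (K11.f104624 IH) (Lpr_et (f155817 IH) (Lpn (LP (LK LD1_c0 LD2_c42 LD3_c34)))))))))))))
def v4233 : LQ := Led Lsl_dt (LP (LK LD1_c2 LD2_c17 LD3_c11))
theorem f632094 : Led Lsl_dt (LP (LK LD1_c2 LD2_c17 LD3_c11)) = v4233 :=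
  Lrfl
theorem f701866 : Led Lsl_cf v4233 = v13243 :=
  Lgr Lrot99 (Lpe (f632094 IH) (Lpr_cf (K2.f77886 IH) (Lpe (K4.f124236 IH) (Lpe (K4.f26127 IH) (Lpr_gf (f155819 IH) (Lpe (f82482 IH) (Lpr_gt (f131412 IH) (Lpr_ct (f25792 IH) (Lpr_gt (f701864 IH) (Lpn v13243))))))))))
def v2245 : LQ := Led Lsl_et (LP (LK LD1_c1 LD2_c38 LD3_c32))
theorem f510449 : Led Lsl_et (LP (LK LD1_c1 LD2_c38 LD3_c32)) = v2245 :=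
  Lrfl
theorem f109995 : Led Lsl_ff (LP (LK LD1_c1 LD2_c38 LD3_c32)) = (LP (LK LD1_c1 LD2_c26 LD3_c52)) :=
  Lgr Lrot19 (Lpr_dt (K3.f82401 IH) (Lpr_ft (K3.f109991 IH) (Lpr_dt (K3.f77986 IH) (Lpn (LP (LK LD1_c1 LD2_c26 LD3_c52))))))
theorem f77857 : Led Lsl_at (LP (LK LD1_c3 LD2_c1 LD3_c38)) = (LP (LK LD1_c1 LD2_c26 LD3_c53)) :=
  Lre_a IH (LK LD1_c3 LD2_c1 LD3_c38) (LK LD1_c1 LD2_c26 LD3_c53) Lrfl Lrfl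
theorem f77880 : Led Lsl_af (LP (LK LD1_c2 LD2_c17 LD3_c11)) = (LP (LK LD1_c3 LD2_c1 LD3_c39)) :=
  Lgr Lrot68 (Lpr_ct (K2.f77878 IH) (Lpr_at (f77857 IH) (Lpr_ct (K5.f64510 IH) (Lpn (LP (LK LD1_c3 LD2_c1 LD3_c39))))))
theorem f125457 : Led Lsl_ft (LP (LK LD1_c3 LD2_c7 LD3_c4)) = (LP (LK LD1_c3 LD2_c1 LD3_c39)) :=
  Lgr Lrot2 (Lpe (K5.f125384 IH) (Lpr_gt (K5.f125455 IH) (Lpr_af (f77880 IH) (Lpn (LP (LK LD1_c3 LD2_c1 LD3_c39))))))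
theorem f510454 : Led Lsl_ff (LP (LK LD1_c3 LD2_c8 LD3_c1)) = v2245 :=
  Lgr Lrot72 (Lpe (K7.f155151 IH) (Lpr_ft (f125457 IH) (Lpr_et (K3.f25029 IH) (Lpe (f109995 IH) (Lpr_et (f510449 IH) (Lpn v2245))))))
theorem f510456 : Led Lsl_ct (LP (LK LD1_c3 LD2_c1 LD3_c25)) = v2245 :=
  Lgr Lrot40 (Lpr_ff (K11.f155147 IH) (Lpe (K7.f126934 IH) (Lpr_ff (f510454 IH) (Lpn v2245))))
theorem f114021 : Led Lsl_bt (LP (LK LD1_c3 LD2_c1 LD3_c25)) = (LP (LK LD1_c1 LD2_c26 LD3_c42)) :=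
  Lre_b IH (LK LD1_c3 LD2_c1 LD3_c25) (LK LD1_c1 LD2_c26 LD3_c42) Lrfl Lrfl
theorem f88839 : Led Lsl_bt (LP (LK LD1_c1 LD2_c41 LD3_c7)) = (LP (LK LD1_c3 LD2_c28 LD3_c38)) :=
  Lre_b IH (LK LD1_c1 LD2_c41 LD3_c7) (LK LD1_c3 LD2_c28 LD3_c38) Lrfl Lrfl
theorem f510458 : Led Lsl_gt (LP (LK LD1_c3 LD2_c7 LD3_c26)) = v2245 :=
  Lgr Lrot65 (Lpe (K7.f104655 IH) (Lpr_bt (K11.f155461 IH) (Lpr_gf (K46.f431191 IH) (Lpe (f88839 IH) (Lpr_ct (K11.f85594 IH) (Lpe (K7.f143292 IH) (Lpe (K7.f106105 IH) (Lpr_gf (K7.f154953 IH) (Lpe (f114021 IH) (Lpr_ct (f510456 IH) (Lpn v2245)))))))))))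
theorem f647405 : Led Lsl_gt v4233 = K46.v5403 :=
  Lgr Lrot139 (Lpe (f632094 IH) (Lpe (K5.f125455 IH) (Lpr_ef (K5.f120049 IH) (Lpr_dt (K3.f23485 IH) (Lpe (K3.f109989 IH) (Lpe (K3.f82401 IH) (Lpr_et (f510449 IH) (Lpe (f510458 IH) (Lpr_ef (K7.f155486 IH) (Lpr_dt (K46.f647398 IH) (Lpn K46.v5403)))))))))))
theorem f647406 : Led Lsl_bt (LP (LK LD1_c3 LD2_c11 LD3_c3)) = (LP (LK LD1_c6 LD2_c26 LD3_c21)) :=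
  Lre_b IH (LK LD1_c3 LD2_c11 LD3_c3) (LK LD1_c6 LD2_c26 LD3_c21) Lrfl Lrfl
theorem f647407 : Led Lsl_gt (LP (LK LD1_c6 LD2_c26 LD3_c21)) = (LP (LK LD1_c12 LD2_c24 LD3_c37)) :=
  Lre_g IH (LK LD1_c6 LD2_c26 LD3_c21) (LK LD1_c12 LD2_c24 LD3_c37) Lrfl Lrfl
theorem f647408 : Led Lsl_bt (LP (LK LD1_c21 LD2_c31 LD3_c29)) = (LP (LK LD1_c12 LD2_c24 LD3_c37)) :=
  Lre_b IH (LK LD1_c21 LD2_c31 LD3_c29) (LK LD1_c12 LD2_c24 LD3_c37) Lrfl Lrfl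
theorem f701867 : Led Lsl_cf (LP (LK LD1_c22 LD2_c8 LD3_c48)) = (LP (LK LD1_c21 LD2_c31 LD3_c29)) :=
  Lgr Lrot160 (Lpr_gt (f448535 IH) (Lpe (f448526 IH) (Lpr_bt (f448340 IH) (Lpr_gt (f701864 IH) (Lpe (f701866 IH) (Lpr_gt (f647405 IH) (Lpe (K46.f647404 IH) (Lpr_bt (f647406 IH) (Lpr_gt (f647407 IH) (Lpe (f647408 IH) (Lpn (LP (LK LD1_c21 LD2_c31 LD3_c29)))))))))))))
theorem f701868 : Led Lsl_ct (LP (LK LD1_c21 LD2_c31 LD3_c29)) = (LP (LK LD1_c22 LD2_c8 LD3_c48)) :=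
  Leop (Lpr_cf (f701867 IH) (Lpn (LP (LK LD1_c21 LD2_c31 LD3_c29))))
theorem seed_671 : LEOK LG_c (LK LD1_c21 LD2_c31 LD3_c29) :=
  Leoe_c (LK LD1_c21 LD2_c31 LD3_c29) (f701868 IH)
def v13260 : LQ := Led Lsl_at (LP (LK LD1_c4 LD2_c42 LD3_c1))
theorem f701976 : Led Lsl_at (LP (LK LD1_c4 LD2_c42 LD3_c1)) = v13260 :=
  Lrfl
theorem f505842 : Led Lsl_ft (LP (LK LD1_c6 LD2_c22 LD3_c7)) = (LP (LK LD1_c9 LD2_c18 LD3_c33)) :=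
  Lgr Lrot48 (Lpr_ff (K46.f505834 IH) (Lpn (LP (LK LD1_c9 LD2_c18 LD3_c33))))
theorem f504301 : Led Lsl_ct (LP (LK LD1_c12 LD2_c17 LD3_c37)) = (LP (LK LD1_c6 LD2_c22 LD3_c7)) :=
  Lre_c IH (LK LD1_c12 LD2_c17 LD3_c37) (LK LD1_c6 LD2_c22 LD3_c7) Lrfl Lrfl
theorem f82743 : Led Lsl_ct (LP (LK LD1_c9 LD2_c18 LD3_c33)) = (LP (LK LD1_c17 LD2_c13 LD3_c41)) :=
  Lre_c IH (LK LD1_c9 LD2_c18 LD3_c33) (LK LD1_c17 LD2_c13 LD3_c41) Lrfl Lrfl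
theorem f505856 : Led Lsl_ff (LP (LK LD1_c12 LD2_c17 LD3_c37)) = (LP (LK LD1_c17 LD2_c13 LD3_c41)) :=
  Lgr Lrot23 (Lpr_ct (f504301 IH) (Lpr_ft (f505842 IH) (Lpr_ct (f82743 IH) (Lpn (LP (LK LD1_c17 LD2_c13 LD3_c41))))))
theorem f504312 : Led Lsl_dt (LP (LK LD1_c12 LD2_c17 LD3_c37)) = (LP (LK LD1_c21 LD2_c22 LD3_c60)) :=
  Lre_d IH (LK LD1_c12 LD2_c17 LD3_c37) (LK LD1_c21 LD2_c22 LD3_c60) Lrfl Lrfl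
theorem f500102 : Led Lsl_dt (LP (LK LD1_c27 LD2_c3 LD3_c60)) = (LP (LK LD1_c17 LD2_c13 LD3_c41)) :=
  Lre_d IH (LK LD1_c27 LD2_c3 LD3_c60) (LK LD1_c17 LD2_c13 LD3_c41) Lrfl Lrfl
theorem f505870 : Led Lsl_ft (LP (LK LD1_c21 LD2_c22 LD3_c60)) = (LP (LK LD1_c27 LD2_c3 LD3_c60)) :=
  Lgr Lrot54 (Lpe (f504312 IH) (Lpr_ff (f505856 IH) (Lpe (f500102 IH) (Lpn (LP (LK LD1_c27 LD2_c3 LD3_c60))))))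
theorem f505879 : Led Lsl_ff (LP (LK LD1_c21 LD2_c22 LD3_c60)) = (LP (LK LD1_c27 LD2_c3 LD3_c60)) :=
  Lgr Lrot3 (Lpr_ft (f505870 IH) (Lpn (LP (LK LD1_c27 LD2_c3 LD3_c60))))
theorem f505881 : Led Lsl_bt (LP (LK LD1_c21 LD2_c22 LD3_c60)) = (LP (LK LD1_c12 LD2_c17 LD3_c38)) :=
  Lre_b IH (LK LD1_c21 LD2_c22 LD3_c60) (LK LD1_c12 LD2_c17 LD3_c38) Lrfl Lrfl
theorem f505882 : Led Lsl_bt (LP (LK LD1_c17 LD2_c13 LD3_c42)) = (LP (LK LD1_c27 LD2_c3 LD3_c60)) :=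
  Lre_b IH (LK LD1_c17 LD2_c13 LD3_c42) (LK LD1_c27 LD2_c3 LD3_c60) Lrfl Lrfl
theorem f505883 : Led Lsl_ft (LP (LK LD1_c12 LD2_c17 LD3_c38)) = (LP (LK LD1_c17 LD2_c13 LD3_c42)) :=
  Lgr Lrot75 (Lpe (f505881 IH) (Lpr_ff (f505879 IH) (Lpe (f505882 IH) (Lpn (LP (LK LD1_c17 LD2_c13 LD3_c42))))))
theorem f504788 : Led Lsl_dt (LP (LK LD1_c6 LD2_c21 LD3_c59)) = (LP (LK LD1_c12 LD2_c17 LD3_c38)) :=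
  Lre_d IH (LK LD1_c6 LD2_c21 LD3_c59) (LK LD1_c12 LD2_c17 LD3_c38) Lrfl Lrfl
theorem f61036 : Led Lsl_dt (LP (LK LD1_c17 LD2_c13 LD3_c42)) = (LP (LK LD1_c9 LD2_c18 LD3_c30)) :=
  Lre_d IH (LK LD1_c17 LD2_c13 LD3_c42) (LK LD1_c9 LD2_c18 LD3_c30) Lrfl Lrfl
theorem f505886 : Led Lsl_ff (LP (LK LD1_c6 LD2_c21 LD3_c59)) = (LP (LK LD1_c9 LD2_c18 LD3_c30)) :=
  Lgr Lrot19 (Lpr_dt (f504788 IH) (Lpr_ft (f505883 IH) (Lpr_dt (f61036 IH) (Lpn (LP (LK LD1_c9 LD2_c18 LD3_c30))))))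
theorem f444042 : Led Lsl_ct (LP (LK LD1_c6 LD2_c21 LD3_c59)) = (LP (LK LD1_c3 LD2_c8 LD3_c40)) :=
  Lre_c IH (LK LD1_c6 LD2_c21 LD3_c59) (LK LD1_c3 LD2_c8 LD3_c40) Lrfl Lrfl
theorem f82757 : Led Lsl_ct (LP (LK LD1_c4 LD2_c42 LD3_c1)) = (LP (LK LD1_c9 LD2_c18 LD3_c30)) :=
  Lre_c IH (LK LD1_c4 LD2_c42 LD3_c1) (LK LD1_c9 LD2_c18 LD3_c30) Lrfl Lrfl
theorem f505892 : Led Lsl_ft (LP (LK LD1_c3 LD2_c8 LD3_c40)) = (LP (LK LD1_c4 LD2_c42 LD3_c1)) :=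
  Lgr Lrot4 (Lpe (f444042 IH) (Lpr_ff (f505886 IH) (Lpe (f82757 IH) (Lpn (LP (LK LD1_c4 LD2_c42 LD3_c1))))))
theorem f504696 : Led Lsl_at (LP (LK LD1_c6 LD2_c21 LD3_c52)) = (LP (LK LD1_c3 LD2_c8 LD3_c40)) :=
  Lre_a IH (LK LD1_c6 LD2_c21 LD3_c52) (LK LD1_c3 LD2_c8 LD3_c40) Lrfl Lrfl
theorem f701981 : Led Lsl_ff (LP (LK LD1_c6 LD2_c21 LD3_c52)) = v13260 :=
  Lgr Lrot30 (Lpr_at (f504696 IH) (Lpr_ft (f505892 IH) (Lpr_at (f701976 IH) (Lpn v13260))))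
theorem f701988 : Led Lsl_ft (LP (LK LD1_c6 LD2_c21 LD3_c52)) = v13260 :=
  Lgr Lrot48 (Lpr_ff (f701981 IH) (Lpn v13260))
theorem f701977 : Led Lsl_af (LP (LK LD1_c4 LD2_c42 LD3_c1)) = v13260 :=
  Lgr Lrot0 (Lpr_at (f701976 IH) (Lpn v13260))
theorem f82762 : Led Lsl_gt (LP (LK LD1_c9 LD2_c18 LD3_c29)) = (LP (LK LD1_c4 LD2_c42 LD3_c1)) :=
  Lre_g IH (LK LD1_c9 LD2_c18 LD3_c29) (LK LD1_c4 LD2_c42 LD3_c1) Lrfl Lrfl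
theorem f701993 : Led Lsl_gt (LP (LK LD1_c6 LD2_c21 LD3_c52)) = (LP (LK LD1_c9 LD2_c18 LD3_c29)) :=
  Lgr Lrot5 (Lpr_ft (f701988 IH) (Lpe (f701977 IH) (Lpe (f82762 IH) (Lpn (LP (LK LD1_c9 LD2_c18 LD3_c29))))))
theorem f701994 : Led Lsl_gt (LP (LK LD1_c6 LD2_c21 LD3_c52)) = (LP (LK LD1_c9 LD2_c18 LD3_c29)) :=
  Leop (Lpe (f701993 IH) (Lpn (LP (LK LD1_c6 LD2_c21 LD3_c52))))
theorem seed_672 : LEOK LG_g (LK LD1_c6 LD2_c21 LD3_c52) :=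
  Leoe_g (LK LD1_c6 LD2_c21 LD3_c52) (f701994 IH)
def v13334 : LQ := Led Lsl_ct (LP (LK LD1_c4 LD2_c43 LD3_c15))
theorem f702393 : Led Lsl_ct (LP (LK LD1_c4 LD2_c43 LD3_c15)) = v13334 :=
  Lrfl
theorem f702394 : Led Lsl_cf (LP (LK LD1_c4 LD2_c43 LD3_c15)) = v13334 :=
  Lgr Lrot11 (Lpr_ct (f702393 IH) (Lpn v13334))
theorem f128385 : Led Lsl_gt (LP (LK LD1_c4 LD2_c43 LD3_c15)) = (LP (LK LD1_c2 LD2_c19 LD3_c19)) :=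
  Lre_g IH (LK LD1_c4 LD2_c43 LD3_c15) (LK LD1_c2 LD2_c19 LD3_c19) Lrfl Lrfl
theorem f150576 : Led Lsl_bt (LP (LK LD1_c1 LD2_c6 LD3_c47)) = (LP (LK LD1_c0 LD2_c30 LD3_c35)) :=
  Lre_b IH (LK LD1_c1 LD2_c6 LD3_c47) (LK LD1_c0 LD2_c30 LD3_c35) Lrfl Lrfl
theorem f146430 : Led Lsl_gt (LP (LK LD1_c2 LD2_c22 LD3_c7)) = (LP (LK LD1_c4 LD2_c48 LD3_c14)) :=
  Lre_g IH (LK LD1_c2 LD2_c22 LD3_c7) (LK LD1_c4 LD2_c48 LD3_c14) Lrfl Lrfl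
theorem f702396 : Led Lsl_bf (LP (LK LD1_c4 LD2_c48 LD3_c14)) = v13334 :=
  Lgr Lrot34 (Lpe (f146430 IH) (Lpe (K48.f146057 IH) (Lpe (K24.f146060 IH) (Lpr_gf (K24.f437474 IH) (Lpe (K24.f438428 IH) (Lpe (K11.f26310 IH) (Lpe (f150576 IH) (Lpr_ct (K11.f150464 IH) (Lpe (f128385 IH) (Lpr_cf (f702394 IH) (Lpn v13334)))))))))))
def v4470 : LQ := Led Lsl_bt (LP (LK LD1_c2 LD2_c22 LD3_c4))
theorem f634066 : Led Lsl_bt (LP (LK LD1_c2 LD2_c22 LD3_c4)) = v4470 :=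
  Lrfl
theorem f702399 : Led Lsl_ft v4470 = v13334 :=
  Lgr Lrot75 (Lpe (f634066 IH) (Lpr_ff (K49.f634073 IH) (Lpqs (K49.f675078 IH) (Lpr_bf (f702396 IH) (Lpn v13334)))))
theorem f702401 : Led Lsl_ff v4470 = v13334 :=
  Lgr Lrot3 (Lpr_ft (f702399 IH) (Lpn v13334))
def v13307 : LQ := Led Lsl_gt (LP (LK LD1_c4 LD2_c43 LD3_c3))
theorem f702262 : Led Lsl_gt (LP (LK LD1_c4 LD2_c43 LD3_c3)) = v13307 :=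
  Lrfl
theorem f435312 : Led Lsl_ct (LP (LK LD1_c2 LD2_c19 LD3_c8)) = (LP (LK LD1_c4 LD2_c43 LD3_c3)) :=
  Lre_c IH (LK LD1_c2 LD2_c19 LD3_c8) (LK LD1_c4 LD2_c43 LD3_c3) Lrfl Lrfl
theorem f57112 : Led Lsl_bt (LP (LK LD1_c0 LD2_c44 LD3_c39)) = (LP (LK LD1_c0 LD2_c19 LD3_c52)) :=
  Lre_b IH (LK LD1_c0 LD2_c44 LD3_c39) (LK LD1_c0 LD2_c19 LD3_c52) Lrfl Lrfl
theorem f57223 : Led Lsl_ct (LP (LK LD1_c0 LD2_c44 LD3_c39)) = (LP (LK LD1_c1 LD2_c36 LD3_c20)) :=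
  Lre_c IH (LK LD1_c0 LD2_c44 LD3_c39) (LK LD1_c1 LD2_c36 LD3_c20) Lrfl Lrfl
theorem f57526 : Led Lsl_gt (LP (LK LD1_c3 LD2_c19 LD3_c52)) = (LP (LK LD1_c1 LD2_c36 LD3_c20)) :=
  Lre_g IH (LK LD1_c3 LD2_c19 LD3_c52) (LK LD1_c1 LD2_c36 LD3_c20) Lrfl Lrfl
theorem f435304 : Led Lsl_ct (LP (LK LD1_c6 LD2_c43 LD3_c31)) = (LP (LK LD1_c3 LD2_c19 LD3_c52)) :=
  Lre_c IH (LK LD1_c6 LD2_c43 LD3_c31) (LK LD1_c3 LD2_c19 LD3_c52) Lrfl Lrfl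
theorem f150510 : Led Lsl_bt (LP (LK LD1_c1 LD2_c6 LD3_c54)) = (LP (LK LD1_c2 LD2_c19 LD3_c22)) :=
  Lre_b IH (LK LD1_c1 LD2_c6 LD3_c54) (LK LD1_c2 LD2_c19 LD3_c22) Lrfl Lrfl
theorem f150511 : Led Lsl_gt (LP (LK LD1_c2 LD2_c19 LD3_c22)) = (LP (LK LD1_c4 LD2_c43 LD3_c4)) :=
  Lre_g IH (LK LD1_c2 LD2_c19 LD3_c22) (LK LD1_c4 LD2_c43 LD3_c4) Lrfl Lrfl
theorem f435305 : Led Lsl_bt (LP (LK LD1_c6 LD2_c43 LD3_c31)) = (LP (LK LD1_c4 LD2_c43 LD3_c4)) :=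
  Lgr Lrot92 (Lpr_ct (f435304 IH) (Lpr_gt (f57526 IH) (Lpe (f57223 IH) (Lpr_bt (f57112 IH) (Lpr_gt (K24.f57129 IH) (Lpr_ct (K32.f435293 IH) (Lpr_gt (K32.f419065 IH) (Lpr_cf (K11.f150490 IH) (Lpr_bt (f150510 IH) (Lpr_gt (f150511 IH) (Lpn (LP (LK LD1_c4 LD2_c43 LD3_c4)))))))))))))
def v6266 : LQ := Led Lsl_ft (LP (LK LD1_c3 LD2_c19 LD3_c44))
theorem f652464 : Led Lsl_ft (LP (LK LD1_c3 LD2_c19 LD3_c44)) = v6266 :=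
  Lrfl
theorem f652467 : Led Lsl_ff (LP (LK LD1_c3 LD2_c19 LD3_c44)) = v6266 :=
  Lgr Lrot3 (Lpr_ft (f652464 IH) (Lpn v6266))
theorem f57217 : Led Lsl_at (LP (LK LD1_c3 LD2_c19 LD3_c44)) = (LP (LK LD1_c1 LD2_c36 LD3_c20)) :=
  Lre_a IH (LK LD1_c3 LD2_c19 LD3_c44) (LK LD1_c1 LD2_c36 LD3_c20) Lrfl Lrfl
theorem f652473 : Led Lsl_gf (LP (LK LD1_c3 LD2_c19 LD3_c52)) = v6266 :=
  Lgr Lrot47 (Lpr_gt (f57526 IH) (Lpe (f57217 IH) (Lpr_ff (f652467 IH) (Lpn v6266))))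
theorem f144009 : Led Lsl_ct (LP (LK LD1_c3 LD2_c19 LD3_c44)) = (LP (LK LD1_c1 LD2_c36 LD3_c16)) :=
  Lre_c IH (LK LD1_c3 LD2_c19 LD3_c44) (LK LD1_c1 LD2_c36 LD3_c16) Lrfl Lrfl
def v2136 : LQ := Led Lsl_ft (LP (LK LD1_c1 LD2_c36 LD3_c16))
theorem f509168 : Led Lsl_ft (LP (LK LD1_c1 LD2_c36 LD3_c16)) = v2136 :=
  Lrfl
theorem f652472 : Led Lsl_ct v2136 = v6266 :=
  Lgr Lrot40 (Lpe (f509168 IH) (Lpe (f144009 IH) (Lpr_ff (f652467 IH) (Lpn v6266))))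
def v4468 : LQ := Led Lsl_ft (LP (LK LD1_c2 LD2_c22 LD3_c1))
theorem f634043 : Led Lsl_ft (LP (LK LD1_c2 LD2_c22 LD3_c1)) = v4468 :=
  Lrfl
theorem f634047 : Led Lsl_ff (LP (LK LD1_c2 LD2_c22 LD3_c1)) = v4468 :=
  Lgr Lrot3 (Lpr_ft (f634043 IH) (Lpn v4468))
theorem f144005 : Led Lsl_bt (LP (LK LD1_c2 LD2_c22 LD3_c1)) = (LP (LK LD1_c1 LD2_c36 LD3_c16)) :=
  Lgr Lrot127 (Lpr_bf (K6.f143993 IH) (Lpn (LP (LK LD1_c1 LD2_c36 LD3_c16))))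
theorem f634050 : Led Lsl_bt v2136 = v4468 :=
  Lgr Lrot35 (Lpe (f509168 IH) (Lpe (f144005 IH) (Lpr_ff (f634047 IH) (Lpn v4468))))
theorem f144000 : Led Lsl_at (LP (LK LD1_c2 LD2_c22 LD3_c1)) = (LP (LK LD1_c1 LD2_c8 LD3_c12)) :=
  Lre_a IH (LK LD1_c2 LD2_c22 LD3_c1) (LK LD1_c1 LD2_c8 LD3_c12) Lrfl Lrfl
theorem f437551 : Led Lsl_ft (LP (LK LD1_c1 LD2_c8 LD3_c12)) = (LP (LK LD1_c2 LD2_c22 LD3_c7)) :=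
  Lre_f IH (LK LD1_c1 LD2_c8 LD3_c12) (LK LD1_c2 LD2_c22 LD3_c7) Lrfl Lrfl
theorem f634049 : Led Lsl_at (LP (LK LD1_c2 LD2_c22 LD3_c7)) = v4468 :=
  Lgr Lrot66 (Lpe (f437551 IH) (Lpe (f144000 IH) (Lpr_ff (f634047 IH) (Lpn v4468))))
theorem f634057 : Led Lsl_gt (LP (LK LD1_c2 LD2_c22 LD3_c4)) = v4468 :=
  Lgr Lrot46 (Lpe (K49.f84491 IH) (Lpr_ft (f437551 IH) (Lpr_at (f634049 IH) (Lpn v4468))))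
theorem f634067 : Led Lsl_bf (LP (LK LD1_c2 LD2_c22 LD3_c4)) = v4470 :=
  Lgr Lrot24 (Lpr_bt (f634066 IH) (Lpn v4470))
theorem f702263 : Led Lsl_ct v4470 = v13307 :=
  Lgr Lrot63 (Lpe (f634067 IH) (Lpr_gt (f634057 IH) (Lpe (f634050 IH) (Lpr_ct (f652472 IH) (Lpe (f652473 IH) (Lpe (f435304 IH) (Lpr_bt (f435305 IH) (Lpr_gt (K35.f435311 IH) (Lpr_ct (f435312 IH) (Lpr_gt (f702262 IH) (Lpn v13307)))))))))))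
theorem f702402 : Led Lsl_ft v13307 = (LP (LK LD1_c4 LD2_c43 LD3_c15)) :=
  Lgr Lrot4 (Lpe (f702263 IH) (Lpr_ff (f702401 IH) (Lpe (f702393 IH) (Lpn (LP (LK LD1_c4 LD2_c43 LD3_c15))))))
theorem f150513 : Led Lsl_ct (LP (LK LD1_c2 LD2_c19 LD3_c22)) = (LP (LK LD1_c4 LD2_c43 LD3_c17)) :=
  Lre_c IH (LK LD1_c2 LD2_c19 LD3_c22) (LK LD1_c4 LD2_c43 LD3_c17) Lrfl Lrfl
theorem f702265 : Led Lsl_gf (LP (LK LD1_c4 LD2_c43 LD3_c17)) = v13307 :=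
  Lgr Lrot126 (Lpe (f150513 IH) (Lpr_bt (K11.f150489 IH) (Lpe (K32.f435519 IH) (Lpr_ct (K32.f155863 IH) (Lpr_gt (K17.f416250 IH) (Lpr_cf (K32.f58848 IH) (Lpr_bt (K32.f416353 IH) (Lpr_gt (K49.f84491 IH) (Lpr_bf (f634067 IH) (Lpr_ct (f702263 IH) (Lpn v13307)))))))))))
theorem f150494 : Led Lsl_gt (LP (LK LD1_c4 LD2_c43 LD3_c17)) = (LP (LK LD1_c9 LD2_c19 LD3_c55)) :=
  Lre_g IH (LK LD1_c4 LD2_c43 LD3_c17) (LK LD1_c9 LD2_c19 LD3_c55) Lrfl Lrfl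
def v13333 : LQ := Led Lsl_at (LP (LK LD1_c4 LD2_c43 LD3_c15))
theorem f702386 : Led Lsl_at (LP (LK LD1_c4 LD2_c43 LD3_c15)) = v13333 :=
  Lrfl
theorem f702404 : (LP (LK LD1_c9 LD2_c19 LD3_c55)) = v13333 :=
  (Llr Lrot46 (Lpe (f150494 IH) (Lpr_gf (f702265 IH) (Lpr_ft (f702402 IH) (Lpr_at (f702386 IH) (Lpn v13333)))))).symm
theorem f702387 : Led Lsl_af (LP (LK LD1_c4 LD2_c43 LD3_c15)) = v13333 :=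
  Lgr Lrot0 (Lpr_at (f702386 IH) (Lpn v13333))
theorem f702405 : Led Lsl_at (LP (LK LD1_c9 LD2_c19 LD3_c55)) = (LP (LK LD1_c4 LD2_c43 LD3_c15)) :=
  Leop (Lpr_af (f702387 IH) (Lpq (f702404 IH) (Lpn (LP (LK LD1_c9 LD2_c19 LD3_c55)))))
theorem seed_673 : LEOK LG_a (LK LD1_c9 LD2_c19 LD3_c55) :=
  Leoe_a (LK LD1_c9 LD2_c19 LD3_c55) (f702405 IH)
def v13365 : LQ := Led Lsl_at (LP (LK LD1_c4 LD2_c43 LD3_c26))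
theorem f702537 : Led Lsl_at (LP (LK LD1_c4 LD2_c43 LD3_c26)) = v13365 :=
  Lrfl
theorem f506569 : Led Lsl_dt K35.v494 = K35.v1953 :=
  Lgr Lrot42 (Lpr_df (K35.f506568 IH) (Lpn K35.v1953))
theorem f622798 : K35.v1953 = (LP (LK LD1_c2 LD2_c19 LD3_c28)) :=
  Lefun (Lecon (f506569 IH) (K35.f622786 IH)) (K11.f26311 IH)
theorem f67179 : Led Lsl_bt (LP (LK LD1_c3 LD2_c11 LD3_c18)) = (LP (LK LD1_c1 LD2_c32 LD3_c4)) :=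
  Lre_b IH (LK LD1_c3 LD2_c11 LD3_c18) (LK LD1_c1 LD2_c32 LD3_c4) Lrfl Lrfl
theorem f438371 : Led Lsl_bt (LP (LK LD1_c2 LD2_c19 LD3_c28)) = (LP (LK LD1_c4 LD2_c43 LD3_c26)) :=
  Lre_b IH (LK LD1_c2 LD2_c19 LD3_c28) (LK LD1_c4 LD2_c43 LD3_c26) Lrfl Lrfl
theorem f623784 : Led Lsl_ff (LP (LK LD1_c3 LD2_c11 LD3_c18)) = (LP (LK LD1_c4 LD2_c43 LD3_c26)) :=
  Lgr Lrot25 (Lpr_bt (f67179 IH) (Lpr_ft (K35.f506570 IH) (Lpqs (f622798 IH) (Lpr_bt (f438371 IH) (Lpn (LP (LK LD1_c4 LD2_c43 LD3_c26)))))))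
theorem f623788 : Led Lsl_ft (LP (LK LD1_c3 LD2_c11 LD3_c18)) = (LP (LK LD1_c4 LD2_c43 LD3_c26)) :=
  Lgr Lrot48 (Lpr_ff (f623784 IH) (Lpn (LP (LK LD1_c4 LD2_c43 LD3_c26))))
theorem f67277 : Led Lsl_at (LP (LK LD1_c6 LD2_c26 LD3_c46)) = (LP (LK LD1_c3 LD2_c11 LD3_c18)) :=
  Lre_a IH (LK LD1_c6 LD2_c26 LD3_c46) (LK LD1_c3 LD2_c11 LD3_c18) Lrfl Lrfl
theorem f702541 : Led Lsl_ff (LP (LK LD1_c6 LD2_c26 LD3_c46)) = v13365 :=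
  Lgr Lrot30 (Lpr_at (f67277 IH) (Lpr_ft (f623788 IH) (Lpr_at (f702537 IH) (Lpn v13365))))
theorem f702545 : Led Lsl_ft (LP (LK LD1_c6 LD2_c26 LD3_c46)) = v13365 :=
  Lgr Lrot48 (Lpr_ff (f702541 IH) (Lpn v13365))
theorem f702538 : Led Lsl_af (LP (LK LD1_c4 LD2_c43 LD3_c26)) = v13365 :=
  Lgr Lrot0 (Lpr_at (f702537 IH) (Lpn v13365))
theorem f446024 : Led Lsl_gt (LP (LK LD1_c9 LD2_c20 LD3_c12)) = (LP (LK LD1_c4 LD2_c43 LD3_c26)) :=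
  Lre_g IH (LK LD1_c9 LD2_c20 LD3_c12) (LK LD1_c4 LD2_c43 LD3_c26) Lrfl Lrfl
theorem f702549 : Led Lsl_gt (LP (LK LD1_c6 LD2_c26 LD3_c46)) = (LP (LK LD1_c9 LD2_c20 LD3_c12)) :=
  Lgr Lrot5 (Lpr_ft (f702545 IH) (Lpe (f702538 IH) (Lpe (f446024 IH) (Lpn (LP (LK LD1_c9 LD2_c20 LD3_c12))))))
theorem f702550 : Led Lsl_gt (LP (LK LD1_c6 LD2_c26 LD3_c46)) = (LP (LK LD1_c9 LD2_c20 LD3_c12)) :=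
  Leop (Lpe (f702549 IH) (Lpn (LP (LK LD1_c6 LD2_c26 LD3_c46))))
theorem seed_674 : LEOK LG_g (LK LD1_c6 LD2_c26 LD3_c46) :=
  Leoe_g (LK LD1_c6 LD2_c26 LD3_c46) (f702550 IH)
def v6479 : LQ := Led Lsl_gt (LP (LK LD1_c3 LD2_c22 LD3_c31))
theorem f653569 : Led Lsl_gt (LP (LK LD1_c3 LD2_c22 LD3_c31)) = v6479 :=
  Lrfl
def v13391 : LQ := Led Lsl_et (LP (LK LD1_c4 LD2_c43 LD3_c39))
theorem f702698 : Led Lsl_et (LP (LK LD1_c4 LD2_c43 LD3_c39)) = v13391 :=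
  Lrfl
theorem f84027 : Led Lsl_et (LP (LK LD1_c1 LD2_c30 LD3_c51)) = (LP (LK LD1_c3 LD2_c9 LD3_c27)) :=
  Lre_e IH (LK LD1_c1 LD2_c30 LD3_c51) (LK LD1_c3 LD2_c9 LD3_c27) Lrfl Lrfl
theorem f84028 : Led Lsl_gt (LP (LK LD1_c3 LD2_c9 LD3_c27)) = (LP (LK LD1_c6 LD2_c23 LD3_c41)) :=
  Lre_g IH (LK LD1_c3 LD2_c9 LD3_c27) (LK LD1_c6 LD2_c23 LD3_c41) Lrfl Lrfl
theorem f435648 : Led Lsl_ef (LP (LK LD1_c6 LD2_c23 LD3_c41)) = (LP (LK LD1_c3 LD2_c19 LD3_c29)) :=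
  Lgr Lrot17 (Lpe (f84028 IH) (Lpe (f84027 IH) (Lpr_dt (K7.f67154 IH) (Lpe (K2.f84011 IH) (Lpe (K0.f25684 IH) (Lpr_gf (K2.f83939 IH) (Lpe (K32.f84029 IH) (Lpr_dt (K11.f84030 IH) (Lpe (K32.f84031 IH) (Lpr_df (K32.f435642 IH) (Lpn (LP (LK LD1_c3 LD2_c19 LD3_c29)))))))))))))
theorem f702703 : Led Lsl_gt (LP (LK LD1_c6 LD2_c23 LD3_c41)) = v13391 :=
  Lgr Lrot131 (Lpr_ef (f435648 IH) (Lpe (K32.f435642 IH) (Lpr_gf (K32.f435635 IH) (Lpe (K11.f61104 IH) (Lpe (K32.f435569 IH) (Lpe (K29.f415471 IH) (Lpr_dt (K17.f415458 IH) (Lpr_gf (K17.f154549 IH) (Lpe (K16.f150516 IH) (Lpr_et (f702698 IH) (Lpn v13391)))))))))))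
theorem f435655 : Led Lsl_et (LP (LK LD1_c6 LD2_c23 LD3_c41)) = (LP (LK LD1_c3 LD2_c19 LD3_c29)) :=
  Lgr Lrot87 (Lpr_ef (f435648 IH) (Lpn (LP (LK LD1_c3 LD2_c19 LD3_c29))))
theorem f435660 : Led Lsl_cf (LP (LK LD1_c6 LD2_c23 LD3_c41)) = (LP (LK LD1_c3 LD2_c19 LD3_c30)) :=
  Lgr Lrot39 (Lpr_et (f435655 IH) (Lpr_ct (K32.f416957 IH) (Lpr_et (K32.f24698 IH) (Lpn (LP (LK LD1_c3 LD2_c19 LD3_c30))))))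
theorem f146120 : Led Lsl_ct (LP (LK LD1_c3 LD2_c22 LD3_c27)) = (LP (LK LD1_c6 LD2_c48 LD3_c41)) :=
  Lre_c IH (LK LD1_c3 LD2_c22 LD3_c27) (LK LD1_c6 LD2_c48 LD3_c41) Lrfl Lrfl
def v4337 : LQ := Led Lsl_et (LP (LK LD1_c2 LD2_c19 LD3_c35))
theorem f632759 : Led Lsl_et (LP (LK LD1_c2 LD2_c19 LD3_c35)) = v4337 :=
  Lrfl
theorem f632762 : Led Lsl_ef (LP (LK LD1_c2 LD2_c19 LD3_c35)) = v4337 :=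
  Lgr Lrot88 (Lpr_et (f632759 IH) (Lpn v4337))
theorem f702700 : Led Lsl_cf v4337 = v13391 :=
  Lgr Lrot39 (Lpe (f632762 IH) (Lpr_ct (K32.f150515 IH) (Lpr_et (f702698 IH) (Lpn v13391))))
theorem f632765 : Led Lsl_gf (LP (LK LD1_c3 LD2_c11 LD3_c57)) = v4337 :=
  Lgr Lrot141 (Lpe (K46.f505111 IH) (Lpe (K46.f505103 IH) (Lpr_gt (K48.f505120 IH) (Lpr_df (K32.f83699 IH) (Lpe (K32.f435318 IH) (Lpr_gt (K32.f153683 IH) (Lpr_dt (K17.f25850 IH) (Lpr_gt (K17.f153681 IH) (Lpe (K32.f150502 IH) (Lpr_et (f632759 IH) (Lpn v4337)))))))))))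
theorem f632734 : Led Lsl_df (LP (LK LD1_c3 LD2_c11 LD3_c57)) = K46.v4335 :=
  Lgr Lrot70 (Lpe (K46.f505114 IH) (Lpe (K46.f505103 IH) (Lpe (K32.f504993 IH) (Lpe (K32.f505193 IH) (Lpr_et (K46.f632731 IH) (Lpn K46.v4335))))))
theorem f153563 : Led Lsl_af (LP (LK LD1_c1 LD2_c30 LD3_c36)) = (LP (LK LD1_c2 LD2_c18 LD3_c27)) :=
  Lgr Lrot0 (Lpr_at (K7.f153521 IH) (Lpn (LP (LK LD1_c2 LD2_c18 LD3_c27))))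
theorem f435567 : Led Lsl_gf (LP (LK LD1_c1 LD2_c30 LD3_c36)) = (LP (LK LD1_c2 LD2_c18 LD3_c24)) :=
  Lgr Lrot76 (Lpr_af (f153563 IH) (Lpe (K46.f61079 IH) (Lpr_gt (K24.f26013 IH) (Lpn (LP (LK LD1_c2 LD2_c18 LD3_c24))))))
def v1890 : LQ := Led Lsl_et (LP (LK LD1_c1 LD2_c30 LD3_c36))
theorem f506265 : Led Lsl_et (LP (LK LD1_c1 LD2_c30 LD3_c36)) = v1890 :=
  Lrfl
theorem f506266 : Led Lsl_ef (LP (LK LD1_c1 LD2_c30 LD3_c36)) = v1890 :=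
  Lgr Lrot88 (Lpr_et (f506265 IH) (Lpn v1890))
theorem f632766 : Led Lsl_dt v1890 = v4337 :=
  Lgr Lrot136 (Lpe (f506266 IH) (Lpr_gf (f435567 IH) (Lpr_ef (K24.f152207 IH) (Lpr_dt (K24.f152206 IH) (Lpr_gf (K24.f210120 IH) (Lpe (K7.f69090 IH) (Lpr_gf (K24.f153699 IH) (Lpr_ef (K46.f632735 IH) (Lpe (f632734 IH) (Lpr_gf (f632765 IH) (Lpn v4337)))))))))))
theorem f153513 : Led Lsl_ct (LP (LK LD1_c1 LD2_c30 LD3_c36)) = (LP (LK LD1_c3 LD2_c8 LD3_c57)) :=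
  Lre_c IH (LK LD1_c1 LD2_c30 LD3_c36) (LK LD1_c3 LD2_c8 LD3_c57) Lrfl Lrfl
theorem f648030 : Led Lsl_cf v1890 = K46.v5515 :=
  Lgr Lrot39 (Lpe (f506266 IH) (Lpr_ct (f153513 IH) (Lpr_et (K46.f648028 IH) (Lpn K46.v5515))))
theorem f152649 : Led Lsl_ct (LP (LK LD1_c3 LD2_c22 LD3_c31)) = (LP (LK LD1_c2 LD2_c18 LD3_c36)) :=
  Lgr Lrot15 (Lpe (K16.f152647 IH) (Lpr_cf (K7.f152639 IH) (Lpe (K46.f152648 IH) (Lpn (LP (LK LD1_c2 LD2_c18 LD3_c36))))))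
theorem f154009 : Led Lsl_ct (LP (LK LD1_c1 LD2_c30 LD3_c53)) = (LP (LK LD1_c3 LD2_c9 LD3_c28)) :=
  Lre_c IH (LK LD1_c1 LD2_c30 LD3_c53) (LK LD1_c3 LD2_c9 LD3_c28) Lrfl Lrfl
theorem f154010 : Led Lsl_af (LP (LK LD1_c3 LD2_c22 LD3_c31)) = (LP (LK LD1_c3 LD2_c9 LD3_c28)) :=
  Lgr Lrot68 (Lpr_ct (f152649 IH) (Lpr_at (K46.f154005 IH) (Lpr_ct (f154009 IH) (Lpn (LP (LK LD1_c3 LD2_c9 LD3_c28))))))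
theorem f648033 : Led Lsl_at (LP (LK LD1_c6 LD2_c48 LD3_c51)) = K46.v5515 :=
  Lgr Lrot66 (Lpe (K16.f154019 IH) (Lpr_af (f154010 IH) (Lpr_ff (K46.f648032 IH) (Lpn K46.v5515))))
theorem f653570 : Led Lsl_gf K46.v5515 = v6479 :=
  Lgr Lrot76 (Lpe (f648033 IH) (Lpe (K16.f154019 IH) (Lpr_gt (f653569 IH) (Lpn v6479))))
theorem f702706 : (LP (LK LD1_c6 LD2_c48 LD3_c41)) = v6479 :=
  (Llr Lrot152 (Lpe (f146120 IH) (Lpe (K32.f146118 IH) (Lpe (K6.f146098 IH) (Lpr_gt (K32.f57671 IH) (Lpe (f435660 IH) (Lpr_gt (f702703 IH) (Lpe (f702700 IH) (Lpe (f632766 IH) (Lpr_cf (f648030 IH) (Lpr_gf (f653570 IH) (Lpn v6479)))))))))))).symm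
theorem f702707 : Led Lsl_gt (LP (LK LD1_c3 LD2_c22 LD3_c31)) = (LP (LK LD1_c6 LD2_c48 LD3_c41)) :=
  Leop (Lpqs (f702706 IH) (Lpe (f653569 IH) (Lpn (LP (LK LD1_c3 LD2_c22 LD3_c31)))))
theorem seed_675 : LEOK LG_g (LK LD1_c3 LD2_c22 LD3_c31) :=
  Leoe_g (LK LD1_c3 LD2_c22 LD3_c31) (f702707 IH)
def v13417 : LQ := Led Lsl_at (LP (LK LD1_c4 LD2_c43 LD3_c48))
theorem f702832 : Led Lsl_at (LP (LK LD1_c4 LD2_c43 LD3_c48)) = v13417 :=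
  Lrfl
theorem f446027 : Led Lsl_bt (LP (LK LD1_c3 LD2_c11 LD3_c27)) = (LP (LK LD1_c6 LD2_c27 LD3_c5)) :=
  Lre_b IH (LK LD1_c3 LD2_c11 LD3_c27) (LK LD1_c6 LD2_c27 LD3_c5) Lrfl Lrfl
theorem f26276 : Led Lsl_bt (LP (LK LD1_c4 LD2_c43 LD3_c48)) = (LP (LK LD1_c2 LD2_c19 LD3_c43)) :=
  Lre_b IH (LK LD1_c4 LD2_c43 LD3_c48) (LK LD1_c2 LD2_c19 LD3_c43) Lrfl Lrfl
theorem f505178 : Led Lsl_ft (LP (LK LD1_c6 LD2_c27 LD3_c5)) = (LP (LK LD1_c4 LD2_c43 LD3_c48)) :=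
  Lgr Lrot75 (Lpe (f446027 IH) (Lpr_ff (K32.f505174 IH) (Lpe (f26276 IH) (Lpn (LP (LK LD1_c4 LD2_c43 LD3_c48))))))
theorem f446037 : Led Lsl_at (LP (LK LD1_c12 LD2_c25 LD3_c51)) = (LP (LK LD1_c6 LD2_c27 LD3_c5)) :=
  Lre_a IH (LK LD1_c12 LD2_c25 LD3_c51) (LK LD1_c6 LD2_c27 LD3_c5) Lrfl Lrfl
theorem f702837 : Led Lsl_ff (LP (LK LD1_c12 LD2_c25 LD3_c51)) = v13417 :=
  Lgr Lrot30 (Lpr_at (f446037 IH) (Lpr_ft (f505178 IH) (Lpr_at (f702832 IH) (Lpn v13417))))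
theorem f702841 : Led Lsl_ft (LP (LK LD1_c12 LD2_c25 LD3_c51)) = v13417 :=
  Lgr Lrot48 (Lpr_ff (f702837 IH) (Lpn v13417))
theorem f702833 : Led Lsl_af (LP (LK LD1_c4 LD2_c43 LD3_c48)) = v13417 :=
  Lgr Lrot0 (Lpr_at (f702832 IH) (Lpn v13417))
theorem f26296 : Led Lsl_gt (LP (LK LD1_c9 LD2_c20 LD3_c39)) = (LP (LK LD1_c4 LD2_c43 LD3_c48)) :=
  Lre_g IH (LK LD1_c9 LD2_c20 LD3_c39) (LK LD1_c4 LD2_c43 LD3_c48) Lrfl Lrfl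
theorem f702842 : Led Lsl_gt (LP (LK LD1_c12 LD2_c25 LD3_c51)) = (LP (LK LD1_c9 LD2_c20 LD3_c39)) :=
  Lgr Lrot5 (Lpr_ft (f702841 IH) (Lpe (f702833 IH) (Lpe (f26296 IH) (Lpn (LP (LK LD1_c9 LD2_c20 LD3_c39))))))
theorem f702843 : Led Lsl_gt (LP (LK LD1_c12 LD2_c25 LD3_c51)) = (LP (LK LD1_c9 LD2_c20 LD3_c39)) :=
  Leop (Lpe (f702842 IH) (Lpn (LP (LK LD1_c12 LD2_c25 LD3_c51))))
theorem seed_676 : LEOK LG_g (LK LD1_c12 LD2_c25 LD3_c51) :=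
  Leoe_g (LK LD1_c12 LD2_c25 LD3_c51) (f702843 IH)
def v13423 : LQ := Led Lsl_gt (LP (LK LD1_c4 LD2_c43 LD3_c55))
theorem f702882 : Led Lsl_gt (LP (LK LD1_c4 LD2_c43 LD3_c55)) = v13423 :=
  Lrfl
theorem f208097 : Led Lsl_ft (LP (LK LD1_c4 LD2_c43 LD3_c55)) = (LP (LK LD1_c9 LD2_c20 LD3_c46)) :=
  Lre_f IH (LK LD1_c4 LD2_c43 LD3_c55) (LK LD1_c9 LD2_c20 LD3_c46) Lrfl Lrfl
theorem f208089 : Led Lsl_at (LP (LK LD1_c9 LD2_c20 LD3_c46)) = (LP (LK LD1_c6 LD2_c29 LD3_c2)) :=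
  Lgr Lrot100 (Lpr_af (K48.f208087 IH) (Lpn (LP (LK LD1_c6 LD2_c29 LD3_c2))))
theorem f702884 : Led Lsl_gf (LP (LK LD1_c6 LD2_c29 LD3_c2)) = v13423 :=
  Lgr Lrot76 (Lpe (f208089 IH) (Lpe (f208097 IH) (Lpr_gt (f702882 IH) (Lpn v13423))))
theorem f208775 : Led Lsl_bt (LP (LK LD1_c3 LD2_c43 LD3_c15)) = (LP (LK LD1_c6 LD2_c25 LD3_c43)) :=
  Lgr Lrot35 (Lpe (K49.f208774 IH) (Lpr_bf (K48.f208767 IH) (Lpe (K48.f208766 IH) (Lpn (LP (LK LD1_c6 LD2_c25 LD3_c43))))))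
theorem f208778 : Led Lsl_bf (LP (LK LD1_c3 LD2_c43 LD3_c15)) = (LP (LK LD1_c6 LD2_c25 LD3_c43)) :=
  Lgr Lrot24 (Lpr_bt (f208775 IH) (Lpn (LP (LK LD1_c6 LD2_c25 LD3_c43))))
theorem f209519 : Led Lsl_ct (LP (LK LD1_c3 LD2_c14 LD3_c1)) = (LP (LK LD1_c6 LD2_c31 LD3_c40)) :=
  Lre_c IH (LK LD1_c3 LD2_c14 LD3_c1) (LK LD1_c6 LD2_c31 LD3_c40) Lrfl Lrfl
def v8344 : LQ := Led Lsl_bt K48.v1992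
theorem f670877 : Led Lsl_bt K48.v1992 = v8344 :=
  Lrfl
theorem f670878 : Led Lsl_bf K48.v1992 = v8344 :=
  Lgr Lrot24 (Lpr_bt (f670877 IH) (Lpn v8344))
theorem f702886 : Led Lsl_ct v8344 = v13423 :=
  Lgr Lrot64 (Lpe (f670878 IH) (Lpe (K48.f506781 IH) (Lpe (K48.f68474 IH) (Lpe (K8.f68479 IH) (Lpr_gf (K49.f649804 IH) (Lpq (K49.f670902 IH) (Lpe (f209519 IH) (Lpr_gf (K48.f209514 IH) (Lpr_bf (f208778 IH) (Lpe (K48.f208800 IH) (Lpr_gf (f702884 IH) (Lpn v13423))))))))))))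
def v8322 : LQ := Led Lsl_at K48.v1984
theorem f670796 : Led Lsl_at K48.v1984 = v8322 :=
  Lrfl
theorem f670799 : Led Lsl_ff K48.v5357 = v8322 :=
  Lgr Lrot30 (Lpe (K48.f647242 IH) (Lpr_ft (K48.f640057 IH) (Lpr_at (f670796 IH) (Lpn v8322))))
def v5576 : LQ := Led Lsl_ft (LP (LK LD1_c3 LD2_c10 LD3_c38))
theorem f648320 : Led Lsl_ft (LP (LK LD1_c3 LD2_c10 LD3_c38)) = v5576 :=
  Lrfl
theorem f670801 : Led Lsl_bt v5576 = v8322 :=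
  Lgr Lrot35 (Lpe (f648320 IH) (Lpq (K48.f649376 IH) (Lpe (K48.f649216 IH) (Lpr_ff (f670799 IH) (Lpn v8322)))))
theorem f648322 : Led Lsl_ff (LP (LK LD1_c3 LD2_c10 LD3_c38)) = v5576 :=
  Lgr Lrot3 (Lpr_ft (f648320 IH) (Lpn v5576))
def v5572 : LQ := Led Lsl_at (LP (LK LD1_c3 LD2_c10 LD3_c38))
theorem f648310 : Led Lsl_at (LP (LK LD1_c3 LD2_c10 LD3_c38)) = v5572 :=
  Lrfl
theorem f648311 : Led Lsl_af (LP (LK LD1_c3 LD2_c10 LD3_c38)) = v5572 :=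
  Lgr Lrot0 (Lpr_at (f648310 IH) (Lpn v5572))
theorem f209265 : Led Lsl_gf (LP (LK LD1_c3 LD2_c10 LD3_c38)) = (LP (LK LD1_c3 LD2_c13 LD3_c24)) :=
  Lgr Lrot47 (Lpr_gt (K48.f209264 IH) (Lpr_af (K46.f209252 IH) (Lpe (K5.f129070 IH) (Lpn (LP (LK LD1_c3 LD2_c13 LD3_c24))))))
theorem f648312 : Led Lsl_ft K46.v1923 = v5572 :=
  Lgr Lrot2 (Lpr_gt (K46.f506420 IH) (Lpe (f209265 IH) (Lpr_af (f648311 IH) (Lpn v5572))))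
theorem f648313 : Led Lsl_ff K46.v1923 = v5572 :=
  Lgr Lrot3 (Lpr_ft (f648312 IH) (Lpn v5572))
theorem f648323 : Led Lsl_at K46.v1923 = v5576 :=
  Lgr Lrot66 (Lpr_ff (f648313 IH) (Lpe (f648310 IH) (Lpr_ff (f648322 IH) (Lpn v5576))))
theorem f649379 : v5576 = K48.v5351 :=
  Lefun (Lecon (f648323 IH) (K46.f649374 IH).symm) (K48.f647223 IH)
theorem f670895 : v8322 = v8344 :=
  Lefun (Lecon (f670801 IH) ((f649379 IH).trans (K48.f670891 IH))) (f670877 IH)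
theorem f639400 : (LP (LK LD1_c1 LD2_c29 LD3_c26)) = K48.v1983 :=
  Lefun (Lecon (Lfl_ff (K48.f504480 IH)) (K48.f639390 IH).symm) (K48.f506755 IH)
theorem f670798 : Led Lsl_bf K48.v5351 = v8322 :=
  Lgr Lrot81 (Lpe (K48.f647224 IH) (Lpr_bt (K46.f79737 IH) (Lpqs (f639400 IH) (Lpe (K48.f506754 IH) (Lpr_bt (K48.f506757 IH) (Lpr_at (f670796 IH) (Lpn v8322)))))))
def v5955 : LQ := Led Lsl_gf (LP (LK LD1_c3 LD2_c15 LD3_c32))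
theorem f650217 : Led Lsl_gf (LP (LK LD1_c3 LD2_c15 LD3_c32)) = v5955 :=
  Lrfl
theorem f650218 : Led Lsl_gt (LP (LK LD1_c7 LD2_c31 LD3_c32)) = v5955 :=
  Lgr Lrot5 (Lpr_ft (K34.f209220 IH) (Lpr_at (K34.f209210 IH) (Lpr_gf (f650217 IH) (Lpn v5955))))
theorem f114399 : Led Lsl_gt (LP (LK LD1_c3 LD2_c2 LD3_c24)) = (LP (LK LD1_c1 LD2_c27 LD3_c10)) :=
  Lre_g IH (LK LD1_c3 LD2_c2 LD3_c24) (LK LD1_c1 LD2_c27 LD3_c10) Lrfl Lrfl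
theorem f646743 : Led Lsl_ft (LP (LK LD1_c3 LD2_c2 LD3_c24)) = K48.v5239 :=
  Lgr Lrot2 (Lpr_gt (f114399 IH) (Lpr_gt (K48.f23886 IH) (Lpr_af (K48.f646742 IH) (Lpn K48.v5239))))
theorem f646746 : Led Lsl_ct (LP (LK LD1_c6 LD2_c11 LD3_c40)) = (LP (LK LD1_c3 LD2_c2 LD3_c24)) :=
  Lre_c IH (LK LD1_c6 LD2_c11 LD3_c40) (LK LD1_c3 LD2_c2 LD3_c24) Lrfl Lrfl
theorem f663358 : Led Lsl_ff (LP (LK LD1_c6 LD2_c11 LD3_c40)) = (LP (LK LD1_c7 LD2_c31 LD3_c29)) :=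
  Lgr Lrot23 (Lpr_ct (f646746 IH) (Lpr_ft (f646743 IH) (Lpqs (K48.f663351 IH) (Lpr_ct (K48.f508948 IH) (Lpn (LP (LK LD1_c7 LD2_c31 LD3_c29)))))))
theorem f209223 : Led Lsl_at (LP (LK LD1_c7 LD2_c31 LD3_c32)) = (LP (LK LD1_c6 LD2_c34 LD3_c22)) :=
  Lgr Lrot100 (Lpr_af (K34.f209221 IH) (Lpn (LP (LK LD1_c6 LD2_c34 LD3_c22))))
theorem f111564 : Led Lsl_ft (LP (LK LD1_c3 LD2_c45 LD3_c24)) = (LP (LK LD1_c7 LD2_c31 LD3_c32)) :=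
  Lre_f IH (LK LD1_c3 LD2_c45 LD3_c24) (LK LD1_c7 LD2_c31 LD3_c32) Lrfl Lrfl
theorem f209273 : Led Lsl_gt (LP (LK LD1_c7 LD2_c31 LD3_c29)) = (LP (LK LD1_c6 LD2_c34 LD3_c22)) :=
  Lgr Lrot46 (Lpe (K48.f96617 IH) (Lpr_ft (f111564 IH) (Lpr_at (f209223 IH) (Lpn (LP (LK LD1_c6 LD2_c34 LD3_c22))))))
theorem f209201 : Led Lsl_at (LP (LK LD1_c7 LD2_c31 LD3_c28)) = (LP (LK LD1_c14 LD2_c11 LD3_c50)) :=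
  Lre_a IH (LK LD1_c7 LD2_c31 LD3_c28) (LK LD1_c14 LD2_c11 LD3_c50) Lrfl Lrfl
theorem f209202 : Led Lsl_bt (LP (LK LD1_c3 LD2_c45 LD3_c24)) = (LP (LK LD1_c7 LD2_c31 LD3_c28)) :=
  Lre_b IH (LK LD1_c3 LD2_c45 LD3_c24) (LK LD1_c7 LD2_c31 LD3_c28) Lrfl Lrfl
theorem f208862 : Led Lsl_at (LP (LK LD1_c12 LD2_c35 LD3_c7)) = (LP (LK LD1_c6 LD2_c34 LD3_c19)) :=
  Lre_a IH (LK LD1_c12 LD2_c35 LD3_c7) (LK LD1_c6 LD2_c34 LD3_c19) Lrfl Lrfl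
theorem f108726 : Led Lsl_bt (LP (LK LD1_c6 LD2_c34 LD3_c19)) = (LP (LK LD1_c3 LD2_c15 LD3_c32)) :=
  Lre_b IH (LK LD1_c6 LD2_c34 LD3_c19) (LK LD1_c3 LD2_c15 LD3_c32) Lrfl Lrfl
theorem f209203 : Led Lsl_af (LP (LK LD1_c3 LD2_c45 LD3_c24)) = (LP (LK LD1_c3 LD2_c15 LD3_c32)) :=
  Lgr Lrot36 (Lpr_bt (f209202 IH) (Lpr_at (f209201 IH) (Lpr_bt (K34.f209199 IH) (Lpr_at (f208862 IH) (Lpr_bt (f108726 IH) (Lpn (LP (LK LD1_c3 LD2_c15 LD3_c32))))))))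
theorem f96199 : Led Lsl_gt (LP (LK LD1_c7 LD2_c31 LD3_c30)) = (LP (LK LD1_c3 LD2_c45 LD3_c24)) :=
  Lre_g IH (LK LD1_c7 LD2_c31 LD3_c30) (LK LD1_c3 LD2_c45 LD3_c24) Lrfl Lrfl
theorem f108724 : Led Lsl_ft (LP (LK LD1_c6 LD2_c34 LD3_c22)) = (LP (LK LD1_c3 LD2_c15 LD3_c32)) :=
  Lre_f IH (LK LD1_c6 LD2_c34 LD3_c22) (LK LD1_c3 LD2_c15 LD3_c32) Lrfl Lrfl
theorem f209280 : Led Lsl_gf (LP (LK LD1_c7 LD2_c31 LD3_c30)) = (LP (LK LD1_c6 LD2_c34 LD3_c22)) :=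
  Lgr Lrot47 (Lpr_gt (f96199 IH) (Lpr_af (f209203 IH) (Lpe (f108724 IH) (Lpn (LP (LK LD1_c6 LD2_c34 LD3_c22))))))
theorem f663365 : Led Lsl_at (LP (LK LD1_c6 LD2_c11 LD3_c40)) = (LP (LK LD1_c7 LD2_c31 LD3_c30)) :=
  Lgr Lrot26 (Lpr_ff (f663358 IH) (Lpr_gt (f209273 IH) (Lpe (f209280 IH) (Lpn (LP (LK LD1_c7 LD2_c31 LD3_c30))))))
theorem f444306 : Led Lsl_ct (LP (LK LD1_c3 LD2_c2 LD3_c24)) = (LP (LK LD1_c6 LD2_c11 LD3_c40)) :=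
  Lre_c IH (LK LD1_c3 LD2_c2 LD3_c24) (LK LD1_c6 LD2_c11 LD3_c40) Lrfl Lrfl
def v5241 : LQ := Led Lsl_ft (LP (LK LD1_c3 LD2_c2 LD3_c23))
theorem f646752 : Led Lsl_ft (LP (LK LD1_c3 LD2_c2 LD3_c23)) = v5241 :=
  Lrfl
theorem f646753 : Led Lsl_af (LP (LK LD1_c3 LD2_c2 LD3_c24)) = v5241 :=
  Lgr Lrot45 (Lpr_ft (f646743 IH) (Lpe (K48.f646742 IH) (Lpr_ft (f646752 IH) (Lpn v5241))))
theorem f62173 : Led Lsl_gt (LP (LK LD1_c3 LD2_c2 LD3_c22)) = (LP (LK LD1_c6 LD2_c9 LD3_c51)) :=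
  Lre_g IH (LK LD1_c3 LD2_c2 LD3_c22) (LK LD1_c6 LD2_c9 LD3_c51) Lrfl Lrfl
theorem f649394 : Led Lsl_ct (LP (LK LD1_c6 LD2_c9 LD3_c51)) = (LP (LK LD1_c7 LD2_c31 LD3_c30)) :=
  Lgr Lrot91 (Lpe (f62173 IH) (Lpe (K29.f58345 IH) (Lpr_ct (K46.f25562 IH) (Lpe (K0.f22938 IH) (Lpr_cf (K9.f140086 IH) (Lpr_bt (K48.f140096 IH) (Lpr_gf (K46.f647222 IH) (Lpqs (K46.f649373 IH) (Lpr_bf (K48.f209258 IH) (Lpr_ct (K48.f209213 IH) (Lpe (f96199 IH) (Lpn (LP (LK LD1_c7 LD2_c31 LD3_c30))))))))))))))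
theorem f649397 : Led Lsl_cf (LP (LK LD1_c6 LD2_c9 LD3_c51)) = (LP (LK LD1_c7 LD2_c31 LD3_c30)) :=
  Lgr Lrot11 (Lpr_ct (f649394 IH) (Lpn (LP (LK LD1_c7 LD2_c31 LD3_c30))))
theorem f663373 : v5241 = (LP (LK LD1_c6 LD2_c9 LD3_c51)) :=
  (Llr Lrot68 (Lpe (f646753 IH) (Lpr_ct (f444306 IH) (Lpr_at (f663365 IH) (Lpe (f649397 IH) (Lpn (LP (LK LD1_c6 LD2_c9 LD3_c51)))))))).symm
theorem f100188 : Led Lsl_ct (LP (LK LD1_c6 LD2_c11 LD3_c37)) = (LP (LK LD1_c3 LD2_c2 LD3_c23)) :=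
  Lre_c IH (LK LD1_c6 LD2_c11 LD3_c37) (LK LD1_c3 LD2_c2 LD3_c23) Lrfl Lrfl
theorem f663378 : Led Lsl_ff (LP (LK LD1_c6 LD2_c11 LD3_c37)) = (LP (LK LD1_c7 LD2_c31 LD3_c30)) :=
  Lgr Lrot23 (Lpr_ct (f100188 IH) (Lpr_ft (f646752 IH) (Lpqs (f663373 IH) (Lpr_ct (f649394 IH) (Lpn (LP (LK LD1_c7 LD2_c31 LD3_c30)))))))
theorem f663387 : Led Lsl_ft (LP (LK LD1_c6 LD2_c11 LD3_c37)) = (LP (LK LD1_c7 LD2_c31 LD3_c30)) :=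
  Lgr Lrot48 (Lpr_ff (f663378 IH) (Lpn (LP (LK LD1_c7 LD2_c31 LD3_c30))))
theorem f663367 : Led Lsl_af (LP (LK LD1_c6 LD2_c11 LD3_c40)) = (LP (LK LD1_c7 LD2_c31 LD3_c30)) :=
  Lgr Lrot0 (Lpr_at (f663365 IH) (Lpn (LP (LK LD1_c7 LD2_c31 LD3_c30))))
theorem f670930 : (LP (LK LD1_c6 LD2_c11 LD3_c40)) = v5955 :=
  (Llr Lrot26 (Lpr_af (f663367 IH) (Lpe (f663387 IH) (Lpqs (K48.f670898 IH) (Lpe (K48.f650216 IH) (Lpr_gt (f650218 IH) (Lpn v5955))))))).symm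
theorem f646748 : Led Lsl_bt (LP (LK LD1_c3 LD2_c2 LD3_c24)) = (LP (LK LD1_c6 LD2_c11 LD3_c39)) :=
  Lre_b IH (LK LD1_c3 LD2_c2 LD3_c24) (LK LD1_c6 LD2_c11 LD3_c39) Lrfl Lrfl
theorem f82358 : Led Lsl_et (LP (LK LD1_c4 LD2_c43 LD3_c55)) = (LP (LK LD1_c2 LD2_c19 LD3_c49)) :=
  Lre_e IH (LK LD1_c4 LD2_c43 LD3_c55) (LK LD1_c2 LD2_c19 LD3_c49) Lrfl Lrfl
theorem f128919 : Led Lsl_et (LP (LK LD1_c1 LD2_c34 LD3_c36)) = (LP (LK LD1_c3 LD2_c15 LD3_c45)) :=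
  Lre_e IH (LK LD1_c1 LD2_c34 LD3_c36) (LK LD1_c3 LD2_c15 LD3_c45) Lrfl Lrfl
theorem f128920 : Led Lsl_cf (LP (LK LD1_c4 LD2_c43 LD3_c55)) = (LP (LK LD1_c3 LD2_c15 LD3_c45)) :=
  Lgr Lrot39 (Lpr_et (f82358 IH) (Lpr_ct (K5.f128917 IH) (Lpr_et (f128919 IH) (Lpn (LP (LK LD1_c3 LD2_c15 LD3_c45))))))
def v5976 : LQ := Led Lsl_gf (LP (LK LD1_c3 LD2_c15 LD3_c45))
theorem f650330 : Led Lsl_gf (LP (LK LD1_c3 LD2_c15 LD3_c45)) = v5976 :=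
  Lrfl
theorem f702889 : (LP (LK LD1_c6 LD2_c11 LD3_c39)) = v5976 :=
  (Llr Lrot130 (Lpe (f646748 IH) (Lpr_ct (f444306 IH) (Lpqs (f670930 IH) (Lpe (f650218 IH) (Lpe (K48.f209230 IH) (Lpr_bt (K48.f506422 IH) (Lpr_gf (K48.f506782 IH) (Lpq (K48.f670891 IH) (Lpr_bf (f670798 IH) (Lpqs (f670895 IH) (Lpr_ct (f702886 IH) (Lpe (f702882 IH) (Lpr_cf (f128920 IH) (Lpr_gf (f650330 IH) (Lpn v5976)))))))))))))))).symm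
theorem f702890 : Led Lsl_gt (LP (LK LD1_c6 LD2_c11 LD3_c39)) = (LP (LK LD1_c3 LD2_c15 LD3_c45)) :=
  Leop (Lpr_gf (f650330 IH) (Lpq (f702889 IH) (Lpn (LP (LK LD1_c6 LD2_c11 LD3_c39)))))
theorem seed_677 : LEOK LG_g (LK LD1_c6 LD2_c11 LD3_c39) :=
  Leoe_g (LK LD1_c6 LD2_c11 LD3_c39) (f702890 IH)
def v13456 : LQ := Led Lsl_et (LP (LK LD1_c4 LD2_c44 LD3_c12))
theorem f703081 : Led Lsl_et (LP (LK LD1_c4 LD2_c44 LD3_c12)) = v13456 :=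
  Lrfl
theorem f703082 : Led Lsl_ef (LP (LK LD1_c4 LD2_c44 LD3_c12)) = v13456 :=
  Lgr Lrot88 (Lpr_et (f703081 IH) (Lpn v13456))
theorem f127132 : Led Lsl_gt (LP (LK LD1_c4 LD2_c44 LD3_c12)) = (LP (LK LD1_c2 LD2_c20 LD3_c5)) :=
  Lre_g IH (LK LD1_c4 LD2_c44 LD3_c12) (LK LD1_c2 LD2_c20 LD3_c5) Lrfl Lrfl
theorem f127131 : Led Lsl_et (LP (LK LD1_c1 LD2_c7 LD3_c18)) = (LP (LK LD1_c2 LD2_c20 LD3_c5)) :=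
  Lre_e IH (LK LD1_c1 LD2_c7 LD3_c18) (LK LD1_c2 LD2_c20 LD3_c5) Lrfl Lrfl
def v552 : LQ := Led Lsl_gt (LP (LK LD1_c0 LD2_c44 LD3_c39))
theorem f453956 : Led Lsl_gt (LP (LK LD1_c0 LD2_c44 LD3_c39)) = v552 :=
  Lrfl
def v3187 : LQ := Led Lsl_dt v552
theorem f624562 : Led Lsl_dt v552 = v3187 :=
  Lrfl
def v6288 : LQ := Led Lsl_at (LP (LK LD1_c3 LD2_c19 LD3_c56))
theorem f652582 : Led Lsl_at (LP (LK LD1_c3 LD2_c19 LD3_c56)) = v6288 :=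
  Lrfl
theorem f509174 : Led Lsl_dt (LP (LK LD1_c1 LD2_c36 LD3_c21)) = (LP (LK LD1_c3 LD2_c19 LD3_c56)) :=
  Lre_d IH (LK LD1_c1 LD2_c36 LD3_c21) (LK LD1_c3 LD2_c19 LD3_c56) Lrfl Lrfl
def v2137 : LQ := Led Lsl_at (LP (LK LD1_c1 LD2_c36 LD3_c21))
theorem f509187 : Led Lsl_at (LP (LK LD1_c1 LD2_c36 LD3_c21)) = v2137 :=
  Lrfl
theorem f509188 : Led Lsl_af (LP (LK LD1_c1 LD2_c36 LD3_c21)) = v2137 :=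
  Lgr Lrot0 (Lpr_at (f509187 IH) (Lpn v2137))
theorem f652584 : Led Lsl_df v2137 = v6288 :=
  Lgr Lrot18 (Lpe (f509188 IH) (Lpr_dt (f509174 IH) (Lpr_at (f652582 IH) (Lpn v6288))))
theorem f509170 : Led Lsl_ff (LP (LK LD1_c1 LD2_c36 LD3_c16)) = v2136 :=
  Lgr Lrot3 (Lpr_ft (f509168 IH) (Lpn v2136))
theorem f437845 : Led Lsl_at (LP (LK LD1_c1 LD2_c36 LD3_c16)) = (LP (LK LD1_c0 LD2_c44 LD3_c39)) :=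
  Lre_a IH (LK LD1_c1 LD2_c36 LD3_c16) (LK LD1_c0 LD2_c44 LD3_c39) Lrfl Lrfl
theorem f57155 : Led Lsl_gt (LP (LK LD1_c1 LD2_c36 LD3_c21)) = (LP (LK LD1_c0 LD2_c44 LD3_c39)) :=
  Lre_g IH (LK LD1_c1 LD2_c36 LD3_c21) (LK LD1_c0 LD2_c44 LD3_c39) Lrfl Lrfl
theorem f509173 : Led Lsl_gf (LP (LK LD1_c1 LD2_c36 LD3_c21)) = v2136 :=
  Lgr Lrot47 (Lpr_gt (f57155 IH) (Lpe (f437845 IH) (Lpr_ff (f509170 IH) (Lpn v2136))))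
theorem f155962 : Led Lsl_ft (LP (LK LD1_c0 LD2_c44 LD3_c39)) = (LP (LK LD1_c1 LD2_c36 LD3_c23)) :=
  Lre_f IH (LK LD1_c0 LD2_c44 LD3_c39) (LK LD1_c1 LD2_c36 LD3_c23) Lrfl Lrfl
theorem f509172 : Led Lsl_at (LP (LK LD1_c1 LD2_c36 LD3_c23)) = v2136 :=
  Lgr Lrot66 (Lpe (f155962 IH) (Lpe (f437845 IH) (Lpr_ff (f509170 IH) (Lpn v2136))))
theorem f509185 : Led Lsl_gt v552 = v2136 :=
  Lgr Lrot46 (Lpe (f453956 IH) (Lpr_ft (f155962 IH) (Lpr_at (f509172 IH) (Lpn v2136))))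
theorem f509189 : Led Lsl_ft v552 = v2137 :=
  Lgr Lrot2 (Lpr_gt (f509185 IH) (Lpe (f509173 IH) (Lpr_af (f509188 IH) (Lpn v2137))))
theorem f509190 : Led Lsl_ff v552 = v2137 :=
  Lgr Lrot3 (Lpr_ft (f509189 IH) (Lpn v2137))
theorem f652586 : Led Lsl_ft v3187 = v6288 :=
  Lgr Lrot54 (Lpe (f624562 IH) (Lpr_ff (f509190 IH) (Lpr_df (f652584 IH) (Lpn v6288))))
theorem f652583 : Led Lsl_af (LP (LK LD1_c3 LD2_c19 LD3_c56)) = v6288 :=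
  Lgr Lrot0 (Lpr_at (f652582 IH) (Lpn v6288))
def v6287 : LQ := Led Lsl_gf (LP (LK LD1_c3 LD2_c19 LD3_c56))
theorem f652581 : Led Lsl_gf (LP (LK LD1_c3 LD2_c19 LD3_c56)) = v6287 :=
  Lrfl
theorem f652588 : Led Lsl_gt v3187 = v6287 :=
  Lgr Lrot5 (Lpr_ft (f652586 IH) (Lpe (f652583 IH) (Lpr_gf (f652581 IH) (Lpn v6287))))
theorem f703083 : Led Lsl_df v6287 = v13456 :=
  Lgr Lrot132 (Lpe (f652588 IH) (Lpe (f624562 IH) (Lpe (f453956 IH) (Lpe (K5.f62342 IH) (Lpr_dt (K2.f57532 IH) (Lpe (K2.f57576 IH) (Lpe (K5.f127119 IH) (Lpr_et (f127131 IH) (Lpe (f127132 IH) (Lpr_ef (f703082 IH) (Lpn v13456)))))))))))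
theorem f703086 : Led Lsl_dt v6287 = v13456 :=
  Lgr Lrot42 (Lpr_df (f703083 IH) (Lpn v13456))
theorem f57113 : Led Lsl_ct (LP (LK LD1_c1 LD2_c36 LD3_c20)) = (LP (LK LD1_c0 LD2_c44 LD3_c39)) :=
  Lre_c IH (LK LD1_c1 LD2_c36 LD3_c20) (LK LD1_c0 LD2_c44 LD3_c39) Lrfl Lrfl
theorem f57517 : Led Lsl_gt (LP (LK LD1_c1 LD2_c36 LD3_c20)) = (LP (LK LD1_c3 LD2_c19 LD3_c51)) :=
  Lre_g IH (LK LD1_c1 LD2_c36 LD3_c20) (LK LD1_c3 LD2_c19 LD3_c51) Lrfl Lrfl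
theorem f57518 : Led Lsl_dt (LP (LK LD1_c3 LD2_c19 LD3_c51)) = (LP (LK LD1_c6 LD2_c43 LD3_c30)) :=
  Lre_d IH (LK LD1_c3 LD2_c19 LD3_c51) (LK LD1_c6 LD2_c43 LD3_c30) Lrfl Lrfl
theorem f64313 : Led Lsl_gt (LP (LK LD1_c6 LD2_c43 LD3_c30)) = (LP (LK LD1_c12 LD2_c51 LD3_c49)) :=
  Lre_g IH (LK LD1_c6 LD2_c43 LD3_c30) (LK LD1_c12 LD2_c51 LD3_c49) Lrfl Lrfl
theorem f64315 : Led Lsl_gt (LP (LK LD1_c7 LD2_c38 LD3_c4)) = (LP (LK LD1_c3 LD2_c48 LD3_c33)) :=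
  Lre_g IH (LK LD1_c7 LD2_c38 LD3_c4) (LK LD1_c3 LD2_c48 LD3_c33) Lrfl Lrfl
theorem f64316 : Led Lsl_et (LP (LK LD1_c14 LD2_c23 LD3_c14)) = (LP (LK LD1_c7 LD2_c38 LD3_c4)) :=
  Lre_e IH (LK LD1_c14 LD2_c23 LD3_c14) (LK LD1_c7 LD2_c38 LD3_c4) Lrfl Lrfl
theorem f64317 : Led Lsl_df (LP (LK LD1_c12 LD2_c51 LD3_c49)) = (LP (LK LD1_c14 LD2_c23 LD3_c14)) :=
  Lgr Lrot132 (Lpe (f64313 IH) (Lpe (f57518 IH) (Lpe (f57517 IH) (Lpe (K1.f57230 IH) (Lpr_dt (K1.f57251 IH) (Lpr_gf (K1.f64297 IH) (Lpe (K4.f11850 IH) (Lpr_et (K4.f64314 IH) (Lpe (f64315 IH) (Lpe (f64316 IH) (Lpn (LP (LK LD1_c14 LD2_c23 LD3_c14)))))))))))))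
theorem f64320 : Led Lsl_dt (LP (LK LD1_c12 LD2_c51 LD3_c49)) = (LP (LK LD1_c14 LD2_c23 LD3_c14)) :=
  Lgr Lrot42 (Lpr_df (f64317 IH) (Lpn (LP (LK LD1_c14 LD2_c23 LD3_c14))))
theorem f703088 : Led Lsl_cf (LP (LK LD1_c14 LD2_c23 LD3_c14)) = v13456 :=
  Lgr Lrot14 (Lpe (f64320 IH) (Lpe (f64313 IH) (Lpe (f57518 IH) (Lpe (f57517 IH) (Lpr_ct (f57113 IH) (Lpr_gt (f453956 IH) (Lpr_dt (f624562 IH) (Lpr_gt (f652588 IH) (Lpr_dt (f703086 IH) (Lpn v13456))))))))))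
def v13455 : LQ := Led Lsl_ct (LP (LK LD1_c4 LD2_c44 LD3_c12))
theorem f703079 : Led Lsl_ct (LP (LK LD1_c4 LD2_c44 LD3_c12)) = v13455 :=
  Lrfl
theorem f703080 : Led Lsl_cf (LP (LK LD1_c4 LD2_c44 LD3_c12)) = v13455 :=
  Lgr Lrot11 (Lpr_ct (f703079 IH) (Lpn v13455))
theorem f703089 : (LP (LK LD1_c7 LD2_c38 LD3_c4)) = v13455 :=
  (Llr Lrot158 (Lpe (f64316 IH) (Lpr_cf (f703088 IH) (Lpe (f703081 IH) (Lpr_cf (f703080 IH) (Lpn v13455)))))).symm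
theorem f703090 : Led Lsl_ct (LP (LK LD1_c7 LD2_c38 LD3_c4)) = (LP (LK LD1_c4 LD2_c44 LD3_c12)) :=
  Leop (Lpr_cf (f703080 IH) (Lpq (f703089 IH) (Lpn (LP (LK LD1_c7 LD2_c38 LD3_c4)))))
theorem seed_678 : LEOK LG_c (LK LD1_c7 LD2_c38 LD3_c4) :=
  Leoe_c (LK LD1_c7 LD2_c38 LD3_c4) (f703090 IH)
def v5768 : LQ := Led Lsl_dt (LP (LK LD1_c3 LD2_c13 LD3_c7))
theorem f649280 : Led Lsl_dt (LP (LK LD1_c3 LD2_c13 LD3_c7)) = v5768 :=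
  Lrfl
def v13469 : LQ := Led Lsl_gt (LP (LK LD1_c4 LD2_c44 LD3_c20))
theorem f703171 : Led Lsl_gt (LP (LK LD1_c4 LD2_c44 LD3_c20)) = v13469 :=
  Lrfl
theorem f25259 : Led Lsl_ct (LP (LK LD1_c2 LD2_c20 LD3_c9)) = (LP (LK LD1_c4 LD2_c44 LD3_c20)) :=
  Lre_c IH (LK LD1_c2 LD2_c20 LD3_c9) (LK LD1_c4 LD2_c44 LD3_c20) Lrfl Lrfl
theorem f25228 : Led Lsl_gt (LP (LK LD1_c1 LD2_c7 LD3_c20)) = (LP (LK LD1_c2 LD2_c20 LD3_c9)) :=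
  Lre_g IH (LK LD1_c1 LD2_c7 LD3_c20) (LK LD1_c2 LD2_c20 LD3_c9) Lrfl Lrfl
theorem f140750 : Led Lsl_bt (LP (LK LD1_c0 LD2_c43 LD3_c1)) = (LP (LK LD1_c1 LD2_c32 LD3_c61)) :=
  Lre_b IH (LK LD1_c0 LD2_c43 LD3_c1) (LK LD1_c1 LD2_c32 LD3_c61) Lrfl Lrfl
theorem f82770 : Led Lsl_gt (LP (LK LD1_c3 LD2_c13 LD3_c7)) = (LP (LK LD1_c1 LD2_c32 LD3_c61)) :=
  Lre_g IH (LK LD1_c3 LD2_c13 LD3_c7) (LK LD1_c1 LD2_c32 LD3_c61) Lrfl Lrfl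
def v5767 : LQ := Led Lsl_bt (LP (LK LD1_c3 LD2_c13 LD3_c7))
theorem f649277 : Led Lsl_bt (LP (LK LD1_c3 LD2_c13 LD3_c7)) = v5767 :=
  Lrfl
theorem f649278 : Led Lsl_bf (LP (LK LD1_c3 LD2_c13 LD3_c7)) = v5767 :=
  Lgr Lrot24 (Lpr_bt (f649277 IH) (Lpn v5767))
theorem f703174 : Led Lsl_ct v5767 = v13469 :=
  Lgr Lrot63 (Lpe (f649278 IH) (Lpr_gt (f82770 IH) (Lpe (f140750 IH) (Lpr_ct (K32.f82683 IH) (Lpe (K24.f140743 IH) (Lpe (K7.f25219 IH) (Lpr_bt (K24.f25213 IH) (Lpr_gt (f25228 IH) (Lpr_ct (f25259 IH) (Lpr_gt (f703171 IH) (Lpn v13469)))))))))))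
theorem f703178 : Led Lsl_cf v5767 = v13469 :=
  Lgr Lrot11 (Lpr_ct (f703174 IH) (Lpn v13469))
theorem f703179 : Led Lsl_dt v5767 = v5767 :=
  Lgr Lrot27 (Lpr_cf (f703178 IH) (Lpe (f703171 IH) (Lpe (f25259 IH) (Lpe (f25228 IH) (Lpr_df (K24.f144049 IH) (Lpr_gt (f25228 IH) (Lpr_ct (f25259 IH) (Lpr_gt (f703171 IH) (Lpe (f703178 IH) (Lpn v5767))))))))))
theorem f649281 : Led Lsl_df (LP (LK LD1_c3 LD2_c13 LD3_c7)) = v5768 :=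
  Lgr Lrot38 (Lpr_dt (f649280 IH) (Lpn v5768))
theorem f703180 : v5768 = (LP (LK LD1_c3 LD2_c13 LD3_c7)) :=
  (Llr Lrot12 (Lpe (f649281 IH) (Lpr_bt (f649277 IH) (Lpr_dt (f703179 IH) (Lpe (f649278 IH) (Lpn (LP (LK LD1_c3 LD2_c13 LD3_c7)))))))).symm
theorem f703181 : Led Lsl_dt (LP (LK LD1_c3 LD2_c13 LD3_c7)) = (LP (LK LD1_c3 LD2_c13 LD3_c7)) :=
  Leop (Lpq (f703180 IH) (Lpe (f649280 IH) (Lpn (LP (LK LD1_c3 LD2_c13 LD3_c7)))))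
theorem seed_679 : LEOK LG_d (LK LD1_c3 LD2_c13 LD3_c7) :=
  Leoe_d (LK LD1_c3 LD2_c13 LD3_c7) (f703181 IH)
def v13496 : LQ := Led Lsl_ft (LP (LK LD1_c4 LD2_c44 LD3_c29))
theorem f703302 : Led Lsl_ft (LP (LK LD1_c4 LD2_c44 LD3_c29)) = v13496 :=
  Lrfl
theorem f13833 : Led Lsl_gt (LP (LK LD1_c4 LD2_c44 LD3_c29)) = (LP (LK LD1_c9 LD2_c21 LD3_c45)) :=
  Lre_g IH (LK LD1_c4 LD2_c44 LD3_c29) (LK LD1_c9 LD2_c21 LD3_c45) Lrfl Lrfl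
theorem f633331 : Led Lsl_at (LP (LK LD1_c2 LD2_c21 LD3_c28)) = (LP (LK LD1_c4 LD2_c44 LD3_c29)) :=
  Lre_a IH (LK LD1_c2 LD2_c21 LD3_c28) (LK LD1_c4 LD2_c44 LD3_c29) Lrfl Lrfl
theorem f703295 : Led Lsl_ft (LP (LK LD1_c4 LD2_c47 LD3_c11)) = (LP (LK LD1_c2 LD2_c21 LD3_c28)) :=
  Lre_f IH (LK LD1_c4 LD2_c47 LD3_c11) (LK LD1_c2 LD2_c21 LD3_c28) Lrfl Lrfl
theorem f703303 : Led Lsl_af (LP (LK LD1_c4 LD2_c47 LD3_c11)) = v13496 :=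
  Lgr Lrot45 (Lpr_ft (f703295 IH) (Lpr_at (f633331 IH) (Lpr_ft (f703302 IH) (Lpn v13496))))
theorem f703307 : Led Lsl_gt (LP (LK LD1_c9 LD2_c21 LD3_c45)) = (LP (LK LD1_c4 LD2_c47 LD3_c11)) :=
  Lgr Lrot46 (Lpe (f13833 IH) (Lpr_ft (f703302 IH) (Lpe (f703303 IH) (Lpn (LP (LK LD1_c4 LD2_c47 LD3_c11))))))
theorem f703308 : Led Lsl_gt (LP (LK LD1_c9 LD2_c21 LD3_c45)) = (LP (LK LD1_c4 LD2_c47 LD3_c11)) :=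
  Leop (Lpe (f703307 IH) (Lpn (LP (LK LD1_c9 LD2_c21 LD3_c45))))
theorem seed_680 : LEOK LG_g (LK LD1_c9 LD2_c21 LD3_c45) :=
  Leoe_g (LK LD1_c9 LD2_c21 LD3_c45) (f703308 IH)
def v13497 : LQ := Led Lsl_ft (LP (LK LD1_c4 LD2_c44 LD3_c30))
theorem f703337 : Led Lsl_ft (LP (LK LD1_c4 LD2_c44 LD3_c30)) = v13497 :=
  Lrfl
theorem f78019 : Led Lsl_gt (LP (LK LD1_c4 LD2_c44 LD3_c30)) = (LP (LK LD1_c9 LD2_c21 LD3_c47)) :=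
  Lre_g IH (LK LD1_c4 LD2_c44 LD3_c30) (LK LD1_c9 LD2_c21 LD3_c47) Lrfl Lrfl
theorem f78015 : Led Lsl_at (LP (LK LD1_c2 LD2_c21 LD3_c36)) = (LP (LK LD1_c4 LD2_c44 LD3_c30)) :=
  Lre_a IH (LK LD1_c2 LD2_c21 LD3_c36) (LK LD1_c4 LD2_c44 LD3_c30) Lrfl Lrfl
theorem f78016 : Led Lsl_ft (LP (LK LD1_c4 LD2_c47 LD3_c23)) = (LP (LK LD1_c2 LD2_c21 LD3_c36)) :=
  Lre_f IH (LK LD1_c4 LD2_c47 LD3_c23) (LK LD1_c2 LD2_c21 LD3_c36) Lrfl Lrfl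
theorem f703338 : Led Lsl_af (LP (LK LD1_c4 LD2_c47 LD3_c23)) = v13497 :=
  Lgr Lrot45 (Lpr_ft (f78016 IH) (Lpr_at (f78015 IH) (Lpr_ft (f703337 IH) (Lpn v13497))))
theorem f703343 : Led Lsl_gt (LP (LK LD1_c9 LD2_c21 LD3_c47)) = (LP (LK LD1_c4 LD2_c47 LD3_c23)) :=
  Lgr Lrot46 (Lpe (f78019 IH) (Lpr_ft (f703337 IH) (Lpe (f703338 IH) (Lpn (LP (LK LD1_c4 LD2_c47 LD3_c23))))))
theorem f703344 : Led Lsl_gt (LP (LK LD1_c9 LD2_c21 LD3_c47)) = (LP (LK LD1_c4 LD2_c47 LD3_c23)) :=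
  Leop (Lpe (f703343 IH) (Lpn (LP (LK LD1_c9 LD2_c21 LD3_c47))))
theorem seed_681 : LEOK LG_g (LK LD1_c9 LD2_c21 LD3_c47) :=
  Leoe_g (LK LD1_c9 LD2_c21 LD3_c47) (f703344 IH)
def v13543 : LQ := Led Lsl_ft (LP (LK LD1_c4 LD2_c45 LD3_c9))
theorem f703525 : Led Lsl_ft (LP (LK LD1_c4 LD2_c45 LD3_c9)) = v13543 :=
  Lrfl
theorem f91343 : Led Lsl_gt (LP (LK LD1_c4 LD2_c45 LD3_c9)) = (LP (LK LD1_c9 LD2_c22 LD3_c59)) :=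
  Lre_g IH (LK LD1_c4 LD2_c45 LD3_c9) (LK LD1_c9 LD2_c22 LD3_c59) Lrfl Lrfl
theorem f79512 : Led Lsl_ft (LP (LK LD1_c4 LD2_c46 LD3_c14)) = (LP (LK LD1_c2 LD2_c21 LD3_c6)) :=
  Lre_f IH (LK LD1_c4 LD2_c46 LD3_c14) (LK LD1_c2 LD2_c21 LD3_c6) Lrfl Lrfl
theorem f703526 : Led Lsl_af (LP (LK LD1_c4 LD2_c46 LD3_c14)) = v13543 :=
  Lgr Lrot45 (Lpr_ft (f79512 IH) (Lpe (K5.f133214 IH) (Lpr_ft (f703525 IH) (Lpn v13543))))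
theorem f703529 : Led Lsl_gt (LP (LK LD1_c9 LD2_c22 LD3_c59)) = (LP (LK LD1_c4 LD2_c46 LD3_c14)) :=
  Lgr Lrot46 (Lpe (f91343 IH) (Lpr_ft (f703525 IH) (Lpe (f703526 IH) (Lpn (LP (LK LD1_c4 LD2_c46 LD3_c14))))))
theorem f703530 : Led Lsl_gt (LP (LK LD1_c9 LD2_c22 LD3_c59)) = (LP (LK LD1_c4 LD2_c46 LD3_c14)) :=
  Leop (Lpe (f703529 IH) (Lpn (LP (LK LD1_c9 LD2_c22 LD3_c59))))
theorem seed_682 : LEOK LG_g (LK LD1_c9 LD2_c22 LD3_c59) :=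
  Leoe_g (LK LD1_c9 LD2_c22 LD3_c59) (f703530 IH)
def v13551 : LQ := Led Lsl_et (LP (LK LD1_c4 LD2_c45 LD3_c22))
theorem f703577 : Led Lsl_et (LP (LK LD1_c4 LD2_c45 LD3_c22)) = v13551 :=
  Lrfl
theorem f703579 : Led Lsl_ef (LP (LK LD1_c4 LD2_c45 LD3_c22)) = v13551 :=
  Lgr Lrot88 (Lpr_et (f703577 IH) (Lpn v13551))
theorem f79500 : Led Lsl_gt (LP (LK LD1_c4 LD2_c45 LD3_c22)) = (LP (LK LD1_c2 LD2_c21 LD3_c27)) :=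
  Lre_g IH (LK LD1_c4 LD2_c45 LD3_c22) (LK LD1_c2 LD2_c21 LD3_c27) Lrfl Lrfl
theorem f79499 : Led Lsl_et (LP (LK LD1_c4 LD2_c47 LD3_c11)) = (LP (LK LD1_c2 LD2_c21 LD3_c27)) :=
  Lre_e IH (LK LD1_c4 LD2_c47 LD3_c11) (LK LD1_c2 LD2_c21 LD3_c27) Lrfl Lrfl
theorem f79486 : Led Lsl_dt (LP (LK LD1_c4 LD2_c47 LD3_c11)) = (LP (LK LD1_c9 LD2_c27 LD3_c24)) :=
  Lre_d IH (LK LD1_c4 LD2_c47 LD3_c11) (LK LD1_c9 LD2_c27 LD3_c24) Lrfl Lrfl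
theorem f13852 : Led Lsl_et (LP (LK LD1_c4 LD2_c44 LD3_c29)) = (LP (LK LD1_c2 LD2_c20 LD3_c17)) :=
  Lre_e IH (LK LD1_c4 LD2_c44 LD3_c29) (LK LD1_c2 LD2_c20 LD3_c17) Lrfl Lrfl
theorem f78695 : Led Lsl_et (LP (LK LD1_c1 LD2_c5 LD3_c38)) = (LP (LK LD1_c2 LD2_c17 LD3_c24)) :=
  Lre_e IH (LK LD1_c1 LD2_c5 LD3_c38) (LK LD1_c2 LD2_c17 LD3_c24) Lrfl Lrfl
theorem f79464 : Led Lsl_gt (LP (LK LD1_c2 LD2_c17 LD3_c24)) = (LP (LK LD1_c4 LD2_c40 LD3_c41)) :=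
  Lre_g IH (LK LD1_c2 LD2_c17 LD3_c24) (LK LD1_c4 LD2_c40 LD3_c41) Lrfl Lrfl
theorem f58302 : Led Lsl_et (LP (LK LD1_c9 LD2_c16 LD3_c48)) = (LP (LK LD1_c4 LD2_c40 LD3_c41)) :=
  Lre_e IH (LK LD1_c9 LD2_c16 LD3_c48) (LK LD1_c4 LD2_c40 LD3_c41) Lrfl Lrfl
theorem f58303 : Led Lsl_dt (LP (LK LD1_c9 LD2_c16 LD3_c48)) = (LP (LK LD1_c17 LD2_c11 LD3_c47)) :=
  Lre_d IH (LK LD1_c9 LD2_c16 LD3_c48) (LK LD1_c17 LD2_c11 LD3_c47) Lrfl Lrfl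
theorem f79465 : Led Lsl_gf (LP (LK LD1_c9 LD2_c21 LD3_c46)) = (LP (LK LD1_c17 LD2_c11 LD3_c47)) :=
  Lgr Lrot145 (Lpe (K0.f13787 IH) (Lpr_et (f13852 IH) (Lpr_gt (K3.f13800 IH) (Lpr_dt (K3.f13801 IH) (Lpr_gt (K3.f78002 IH) (Lpe (K1.f13655 IH) (Lpr_et (f78695 IH) (Lpr_gt (f79464 IH) (Lpe (f58302 IH) (Lpr_dt (f58303 IH) (Lpn (LP (LK LD1_c17 LD2_c11 LD3_c47)))))))))))))
theorem f13817 : Led Lsl_at (LP (LK LD1_c4 LD2_c47 LD3_c14)) = (LP (LK LD1_c9 LD2_c21 LD3_c46)) :=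
  Lre_a IH (LK LD1_c4 LD2_c47 LD3_c14) (LK LD1_c9 LD2_c21 LD3_c46) Lrfl Lrfl
theorem f79468 : Led Lsl_ft (LP (LK LD1_c9 LD2_c27 LD3_c24)) = (LP (LK LD1_c4 LD2_c47 LD3_c14)) :=
  Lre_f IH (LK LD1_c9 LD2_c27 LD3_c24) (LK LD1_c4 LD2_c47 LD3_c14) Lrfl Lrfl
theorem f79469 : Led Lsl_gt (LP (LK LD1_c9 LD2_c27 LD3_c24)) = (LP (LK LD1_c17 LD2_c11 LD3_c47)) :=
  Lgr Lrot5 (Lpr_ft (f79468 IH) (Lpr_at (f13817 IH) (Lpr_gf (f79465 IH) (Lpn (LP (LK LD1_c17 LD2_c11 LD3_c47))))))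
theorem f58293 : Led Lsl_dt (LP (LK LD1_c9 LD2_c16 LD3_c6)) = (LP (LK LD1_c17 LD2_c10 LD3_c43)) :=
  Lre_d IH (LK LD1_c9 LD2_c16 LD3_c6) (LK LD1_c17 LD2_c10 LD3_c43) Lrfl Lrfl
theorem f79501 : Led Lsl_gt (LP (LK LD1_c17 LD2_c10 LD3_c43)) = (LP (LK LD1_c9 LD2_c16 LD3_c53)) :=
  Lre_g IH (LK LD1_c17 LD2_c10 LD3_c43) (LK LD1_c9 LD2_c16 LD3_c53) Lrfl Lrfl
theorem f703581 : Led Lsl_df (LP (LK LD1_c9 LD2_c16 LD3_c53)) = v13551 :=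
  Lgr Lrot132 (Lpe (f79501 IH) (Lpe (f58293 IH) (Lpe (f58301 IH) (Lpe (f58302 IH) (Lpr_dt (f58303 IH) (Lpe (f79469 IH) (Lpe (f79486 IH) (Lpr_et (f79499 IH) (Lpe (f79500 IH) (Lpr_ef (f703579 IH) (Lpn v13551)))))))))))
theorem f141114 : Led Lsl_cf (LP (LK LD1_c4 LD2_c45 LD3_c22)) = (LP (LK LD1_c6 LD2_c49 LD3_c6)) :=
  Lgr Lrot160 (Lpr_gt (f79500 IH) (Lpe (K49.f98990 IH) (Lpr_bt (K49.f141113 IH) (Lpr_gt (K16.f139931 IH) (Lpr_ct (K17.f139932 IH) (Lpr_gt (K17.f139933 IH) (Lpe (K2.f73760 IH) (Lpr_bt (K49.f73757 IH) (Lpr_gt (K49.f76909 IH) (Lpe (K49.f76855 IH) (Lpn (LP (LK LD1_c6 LD2_c49 LD3_c6)))))))))))))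
theorem f495080 : Led Lsl_ct (LP (LK LD1_c2 LD2_c21 LD3_c24)) = (LP (LK LD1_c4 LD2_c47 LD3_c0)) :=
  Lre_c IH (LK LD1_c2 LD2_c21 LD3_c24) (LK LD1_c4 LD2_c47 LD3_c0) Lrfl Lrfl
def v4427 : LQ := Led Lsl_at (LP (LK LD1_c2 LD2_c21 LD3_c24))
theorem f633303 : Led Lsl_at (LP (LK LD1_c2 LD2_c21 LD3_c24)) = v4427 :=
  Lrfl
theorem f633304 : Led Lsl_af (LP (LK LD1_c2 LD2_c21 LD3_c24)) = v4427 :=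
  Lgr Lrot0 (Lpr_at (f633303 IH) (Lpn v4427))
theorem f674440 : (LP (LK LD1_c4 LD2_c45 LD3_c22)) = v4427 :=
  (Llr Lrot111 (Lpr_cf (f141114 IH) (Lpr_af (K49.f674436 IH) (Lpe (f495080 IH) (Lpr_af (f633304 IH) (Lpn v4427)))))).symm
theorem f633305 : Led Lsl_et (LP (LK LD1_c2 LD2_c21 LD3_c24)) = (LP (LK LD1_c4 LD2_c47 LD3_c2)) :=
  Lre_e IH (LK LD1_c2 LD2_c21 LD3_c24) (LK LD1_c4 LD2_c47 LD3_c2) Lrfl Lrfl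
theorem f703580 : Led Lsl_at (LP (LK LD1_c4 LD2_c47 LD3_c2)) = v13551 :=
  Lgr Lrot80 (Lpe (f633305 IH) (Lpr_af (f633304 IH) (Lpq (f674440 IH) (Lpr_ef (f703579 IH) (Lpn v13551)))))
theorem f103211 : Led Lsl_dt (LP (LK LD1_c9 LD2_c27 LD3_c1)) = (LP (LK LD1_c4 LD2_c47 LD3_c2)) :=
  Lre_d IH (LK LD1_c9 LD2_c27 LD3_c1) (LK LD1_c4 LD2_c47 LD3_c2) Lrfl Lrfl
theorem f703582 : Led Lsl_at (LP (LK LD1_c9 LD2_c16 LD3_c53)) = (LP (LK LD1_c9 LD2_c27 LD3_c1)) :=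
  Lgr Lrot51 (Lpr_df (f703581 IH) (Lpe (f703580 IH) (Lpe (f103211 IH) (Lpn (LP (LK LD1_c9 LD2_c27 LD3_c1))))))
theorem f703583 : Led Lsl_at (LP (LK LD1_c9 LD2_c16 LD3_c53)) = (LP (LK LD1_c9 LD2_c27 LD3_c1)) :=
  Leop (Lpe (f703582 IH) (Lpn (LP (LK LD1_c9 LD2_c16 LD3_c53))))
theorem seed_683 : LEOK LG_a (LK LD1_c9 LD2_c16 LD3_c53) :=
  Leoe_a (LK LD1_c9 LD2_c16 LD3_c53) (f703583 IH)
def v13644 : LQ := Led Lsl_gf (LP (LK LD1_c4 LD2_c46 LD3_c19))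
theorem f704040 : Led Lsl_gf (LP (LK LD1_c4 LD2_c46 LD3_c19)) = v13644 :=
  Lrfl
theorem f206672 : Led Lsl_et (LP (LK LD1_c2 LD2_c21 LD3_c8)) = (LP (LK LD1_c4 LD2_c46 LD3_c20)) :=
  Lre_e IH (LK LD1_c2 LD2_c21 LD3_c8) (LK LD1_c4 LD2_c46 LD3_c20) Lrfl Lrfl
theorem f78076 : Led Lsl_gt (LP (LK LD1_c4 LD2_c46 LD3_c20)) = (LP (LK LD1_c9 LD2_c25 LD3_c19)) :=
  Lre_g IH (LK LD1_c4 LD2_c46 LD3_c20) (LK LD1_c9 LD2_c25 LD3_c19) Lrfl Lrfl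
theorem f704045 : Led Lsl_et (LP (LK LD1_c17 LD2_c22 LD3_c44)) = (LP (LK LD1_c9 LD2_c25 LD3_c19)) :=
  Lre_e IH (LK LD1_c17 LD2_c22 LD3_c44) (LK LD1_c9 LD2_c25 LD3_c19) Lrfl Lrfl
theorem f704046 : Led Lsl_dt (LP (LK LD1_c17 LD2_c22 LD3_c44)) = (LP (LK LD1_c27 LD2_c12 LD3_c1)) :=
  Lre_d IH (LK LD1_c17 LD2_c22 LD3_c44) (LK LD1_c27 LD2_c12 LD3_c1) Lrfl Lrfl
def v2560 : LQ := Led Lsl_gf (LP (LK LD1_c1 LD2_c48 LD3_c39))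
def v9254 : LQ := Led Lsl_bt v2560
theorem f674907 : Led Lsl_bt v2560 = v9254 :=
  Lrfl
theorem f527482 : Led Lsl_gf (LP (LK LD1_c1 LD2_c48 LD3_c39)) = v2560 :=
  Lrfl
theorem f527485 : Led Lsl_ct K49.v587 = v2560 :=
  Lgr Lrot8 (Lpe (K49.f455048 IH) (Lpr_dt (K49.f129097 IH) (Lpr_gt (K7.f144245 IH) (Lpe (K6.f144161 IH) (Lpr_cf (K6.f124094 IH) (Lpe (K7.f124102 IH) (Lpr_gf (K7.f148134 IH) (Lpe (K4.f116088 IH) (Lpr_gf (f527482 IH) (Lpn v2560))))))))))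
theorem f94573 : Led Lsl_bt (LP (LK LD1_c3 LD2_c25 LD3_c37)) = (LP (LK LD1_c3 LD2_c46 LD3_c35)) :=
  Lgr Lrot95 (Lpe (K3.f94572 IH) (Lpr_bf (K2.f94566 IH) (Lpe (K34.f94530 IH) (Lpn (LP (LK LD1_c3 LD2_c46 LD3_c35))))))
theorem f121895 : Led Lsl_ff (LP (LK LD1_c3 LD2_c25 LD3_c37)) = (LP (LK LD1_c3 LD2_c26 LD3_c31)) :=
  Lgr Lrot19 (Lpr_dt (K5.f94613 IH) (Lpr_ft (K4.f121856 IH) (Lpe (K2.f91134 IH) (Lpn (LP (LK LD1_c3 LD2_c26 LD3_c31))))))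
theorem f157531 : Led Lsl_bt (LP (LK LD1_c3 LD2_c49 LD3_c23)) = (LP (LK LD1_c3 LD2_c26 LD3_c31)) :=
  Lgr Lrot35 (Lpr_ff (K42.f157529 IH) (Lpe (f94573 IH) (Lpr_ff (f121895 IH) (Lpn (LP (LK LD1_c3 LD2_c26 LD3_c31))))))
theorem f87300 : Led Lsl_ct (LP (LK LD1_c7 LD2_c39 LD3_c37)) = (LP (LK LD1_c3 LD2_c49 LD3_c23)) :=
  Lre_c IH (LK LD1_c7 LD2_c39 LD3_c37) (LK LD1_c3 LD2_c49 LD3_c23) Lrfl Lrfl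
theorem f568356 : Led Lsl_gf (LP (LK LD1_c6 LD2_c16 LD3_c42)) = (LP (LK LD1_c5 LD2_c49 LD3_c28)) :=
  Lgr Lrot76 (Lpe (K42.f558824 IH) (Lpe (K42.f204757 IH) (Lpr_gt (K42.f568354 IH) (Lpn (LP (LK LD1_c5 LD2_c49 LD3_c28))))))
theorem f604974 : Led Lsl_dt (LP (LK LD1_c6 LD2_c16 LD3_c42)) = (LP (LK LD1_c7 LD2_c39 LD3_c37)) :=
  Lgr Lrot105 (Lpr_gf (f568356 IH) (Lpr_df (K46.f604972 IH) (Lpr_gf (K46.f156869 IH) (Lpe (K8.f120305 IH) (Lpr_gt (K7.f103535 IH) (Lpe (K4.f120285 IH) (Lpe (K4.f109546 IH) (Lpe (K34.f157527 IH) (Lpe (f87300 IH) (Lpn (LP (LK LD1_c7 LD2_c39 LD3_c37))))))))))))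
theorem f558804 : Led Lsl_bf (LP (LK LD1_c6 LD2_c16 LD3_c19)) = (LP (LK LD1_c9 LD2_c26 LD3_c34)) :=
  Lgr Lrot24 (Lpr_bt (K40.f558799 IH) (Lpn (LP (LK LD1_c9 LD2_c26 LD3_c34))))
theorem f210068 : Led Lsl_bt (LP (LK LD1_c4 LD2_c41 LD3_c24)) = (LP (LK LD1_c3 LD2_c5 LD3_c14)) :=
  Lgr Lrot127 (Lpr_bf (K11.f210063 IH) (Lpn (LP (LK LD1_c3 LD2_c5 LD3_c14))))
theorem f558806 : Led Lsl_cf (LP (LK LD1_c17 LD2_c12 LD3_c53)) = (LP (LK LD1_c9 LD2_c26 LD3_c34)) :=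
  Lgr Lrot97 (Lpr_bt (K41.f210152 IH) (Lpr_ct (K35.f26920 IH) (Lpr_bt (f210068 IH) (Lpr_ct (K40.f202265 IH) (Lpr_bt (K40.f558799 IH) (Lpn (LP (LK LD1_c9 LD2_c26 LD3_c34))))))))
theorem f567505 : Led Lsl_gf (LP (LK LD1_c17 LD2_c12 LD3_c53)) = (LP (LK LD1_c16 LD2_c23 LD3_c51)) :=
  Lgr Lrot47 (Lpr_gt (K41.f567503 IH) (Lpr_af (K11.f202873 IH) (Lpe (K11.f202880 IH) (Lpn (LP (LK LD1_c16 LD2_c23 LD3_c51))))))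
theorem f568362 : Led Lsl_bt (LP (LK LD1_c9 LD2_c25 LD3_c8)) = (LP (LK LD1_c5 LD2_c49 LD3_c28)) :=
  Lgr Lrot92 (Lpr_ct (K40.f557914 IH) (Lpr_gt (K40.f61317 IH) (Lpe (K40.f301989 IH) (Lpe (K40.f557906 IH) (Lpr_gt (K40.f419579 IH) (Lpe (K37.f419538 IH) (Lpe (f567505 IH) (Lpr_cf (f558806 IH) (Lpe (f558804 IH) (Lpr_gt (K42.f568354 IH) (Lpn (LP (LK LD1_c5 LD2_c49 LD3_c28)))))))))))))
theorem f567669 : Led Lsl_dt (LP (LK LD1_c5 LD2_c52 LD3_c12)) = (LP (LK LD1_c5 LD2_c49 LD3_c30)) :=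
  Lgr Lrot60 (Lpr_ff (K32.f496389 IH) (Lpr_df (K41.f567664 IH) (Lpe (K40.f301978 IH) (Lpn (LP (LK LD1_c5 LD2_c49 LD3_c30))))))
theorem f674911 : Led Lsl_gf (LP (LK LD1_c5 LD2_c52 LD3_c12)) = v9254 :=
  Lgr Lrot85 (Lpr_dt (f567669 IH) (Lpe (K46.f557918 IH) (Lpr_bt (f568362 IH) (Lpe (f568356 IH) (Lpr_dt (f604974 IH) (Lpr_ct (f87300 IH) (Lpr_bt (f157531 IH) (Lpr_gt (K2.f91111 IH) (Lpr_dt (K2.f90854 IH) (Lpr_ct (K2.f12057 IH) (Lpr_bt (K3.f15076 IH) (Lpr_gt (K3.f95138 IH) (Lpr_dt (K3.f17453 IH) (Lpr_ct (K0.f5249 IH) (Lpe (K5.f12406 IH) (Lpr_gt (K3.f12341 IH) (Lpr_dt (K49.f455043 IH) (Lpr_ct (f527485 IH) (Lpr_bt (f674907 IH) (Lpn v9254))))))))))))))))))))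
theorem f74716 : Led Lsl_bt (LP (LK LD1_c1 LD2_c22 LD3_c17)) = (LP (LK LD1_c2 LD2_c52 LD3_c23)) :=
  Lre_b IH (LK LD1_c1 LD2_c22 LD3_c17) (LK LD1_c2 LD2_c52 LD3_c23) Lrfl Lrfl
theorem f74717 : Led Lsl_bt (LP (LK LD1_c5 LD2_c52 LD3_c12)) = (LP (LK LD1_c2 LD2_c52 LD3_c24)) :=
  Lre_b IH (LK LD1_c5 LD2_c52 LD3_c12) (LK LD1_c2 LD2_c52 LD3_c24) Lrfl Lrfl
theorem f74719 : Led Lsl_cf (LP (LK LD1_c5 LD2_c52 LD3_c12)) = (LP (LK LD1_c5 LD2_c58 LD3_c11)) :=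
  Lgr Lrot97 (Lpr_bt (f74717 IH) (Lpr_ct (K32.f22821 IH) (Lpr_bt (f74716 IH) (Lpr_ct (K7.f74555 IH) (Lpr_bt (K32.f74718 IH) (Lpn (LP (LK LD1_c5 LD2_c58 LD3_c11))))))))
theorem f74776 : Led Lsl_bt (LP (LK LD1_c4 LD2_c40 LD3_c30)) = (LP (LK LD1_c2 LD2_c17 LD3_c20)) :=
  Lre_b IH (LK LD1_c4 LD2_c40 LD3_c30) (LK LD1_c2 LD2_c17 LD3_c20) Lrfl Lrfl
theorem f674913 : Led Lsl_ct (LP (LK LD1_c4 LD2_c40 LD3_c30)) = v9254 :=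
  Lgr Lrot64 (Lpr_bt (f74776 IH) (Lpe (K4.f68361 IH) (Lpe (K6.f74562 IH) (Lpr_ct (K2.f22838 IH) (Lpe (K2.f72460 IH) (Lpe (K7.f72538 IH) (Lpe (K7.f72553 IH) (Lpe (K32.f72648 IH) (Lpe (f74719 IH) (Lpr_gf (f674911 IH) (Lpn v9254)))))))))))
theorem f704041 : Led Lsl_dt (LP (LK LD1_c9 LD2_c16 LD3_c22)) = v13644 :=
  Lgr Lrot6 (Lpr_gt (K37.f110876 IH) (Lpr_ct (f674913 IH) (Lpe (f674911 IH) (Lpr_ct (K32.f74763 IH) (Lpe (K41.f74771 IH) (Lpr_cf (K41.f206678 IH) (Lpe (K37.f205831 IH) (Lpe (K36.f78508 IH) (Lpr_gf (f704040 IH) (Lpn v13644))))))))))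
theorem f704047 : Led Lsl_gt (LP (LK LD1_c27 LD2_c12 LD3_c1)) = (LP (LK LD1_c27 LD2_c7 LD3_c59)) :=
  Lgr Lrot112 (Lpe (f704046 IH) (Lpr_et (f704045 IH) (Lpe (f78076 IH) (Lpe (f206672 IH) (Lpr_dt (K36.f78572 IH) (Lpr_gf (f704040 IH) (Lpe (f704041 IH) (Lpr_gf (K37.f110877 IH) (Lpe (K42.f110653 IH) (Lpr_dt (K37.f110652 IH) (Lpn (LP (LK LD1_c27 LD2_c7 LD3_c59)))))))))))))
theorem f704048 : Led Lsl_gt (LP (LK LD1_c27 LD2_c12 LD3_c1)) = (LP (LK LD1_c27 LD2_c7 LD3_c59)) :=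
  Leop (Lpe (f704047 IH) (Lpn (LP (LK LD1_c27 LD2_c12 LD3_c1))))
theorem seed_684 : LEOK LG_g (LK LD1_c27 LD2_c12 LD3_c1) :=
  Leoe_g (LK LD1_c27 LD2_c12 LD3_c1) (f704048 IH)
def v13678 : LQ := Led Lsl_et (LP (LK LD1_c4 LD2_c47 LD3_c0))
theorem f704230 : Led Lsl_et (LP (LK LD1_c4 LD2_c47 LD3_c0)) = v13678 :=
  Lrfl
theorem f704233 : Led Lsl_ef (LP (LK LD1_c4 LD2_c47 LD3_c0)) = v13678 :=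
  Lgr Lrot88 (Lpr_et (f704230 IH) (Lpn v13678))
def v7165 : LQ := Led Lsl_dt (LP (LK LD1_c3 LD2_c40 LD3_c27))
theorem f661631 : Led Lsl_dt (LP (LK LD1_c3 LD2_c40 LD3_c27)) = v7165 :=
  Lrfl
theorem f661632 : Led Lsl_df (LP (LK LD1_c3 LD2_c40 LD3_c27)) = v7165 :=
  Lgr Lrot38 (Lpr_dt (f661631 IH) (Lpn v7165))
theorem f661633 : Led Lsl_ef K49.v2540 = v7165 :=
  Lgr Lrot17 (Lpe (K49.f527248 IH) (Lpe (K6.f26228 IH) (Lpr_dt (K4.f26216 IH) (Lpe (K3.f26250 IH) (Lpe (K7.f107217 IH) (Lpr_gf (K7.f124873 IH) (Lpe (K34.f125659 IH) (Lpr_dt (K35.f125668 IH) (Lpe (K48.f107294 IH) (Lpr_df (f661632 IH) (Lpn v7165)))))))))))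
theorem f661634 : Led Lsl_et K49.v2540 = v7165 :=
  Lgr Lrot87 (Lpr_ef (f661633 IH) (Lpn v7165))
theorem f704234 : Led Lsl_bt v7165 = v13678 :=
  Lgr Lrot119 (Lpe (f661634 IH) (Lpe (K49.f527250 IH) (Lpr_ef (f704233 IH) (Lpn v13678))))
def v9222 : LQ := Led Lsl_dt K49.v2540
theorem f674732 : Led Lsl_dt K49.v2540 = v9222 :=
  Lrfl
def v7167 : LQ := Led Lsl_ft (LP (LK LD1_c3 LD2_c40 LD3_c27))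
theorem f661637 : Led Lsl_ft (LP (LK LD1_c3 LD2_c40 LD3_c27)) = v7167 :=
  Lrfl
theorem f661639 : Led Lsl_ff (LP (LK LD1_c3 LD2_c40 LD3_c27)) = v7167 :=
  Lgr Lrot3 (Lpr_ft (f661637 IH) (Lpn v7167))
def v7163 : LQ := Led Lsl_at (LP (LK LD1_c3 LD2_c40 LD3_c27))
theorem f661625 : Led Lsl_at (LP (LK LD1_c3 LD2_c40 LD3_c27)) = v7163 :=
  Lrfl
theorem f661626 : Led Lsl_af (LP (LK LD1_c3 LD2_c40 LD3_c27)) = v7163 :=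
  Lgr Lrot0 (Lpr_at (f661625 IH) (Lpn v7163))
theorem f523714 : Led Lsl_gf (LP (LK LD1_c3 LD2_c42 LD3_c8)) = K49.v2514 :=
  Lgr Lrot76 (Lpr_af (K48.f209059 IH) (Lpe (K35.f208921 IH) (Lpr_gt (K49.f523713 IH) (Lpn K49.v2514))))
theorem f661627 : Led Lsl_ft K49.v2514 = v7163 :=
  Lgr Lrot2 (Lpe (f523714 IH) (Lpr_gt (K48.f209061 IH) (Lpr_af (f661626 IH) (Lpn v7163))))
theorem f661628 : Led Lsl_ff K49.v2514 = v7163 :=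
  Lgr Lrot3 (Lpr_ft (f661627 IH) (Lpn v7163))
theorem f661640 : Led Lsl_at K49.v2514 = v7167 :=
  Lgr Lrot66 (Lpr_ff (f661628 IH) (Lpe (f661625 IH) (Lpr_ff (f661639 IH) (Lpn v7167))))
theorem f673994 : Led Lsl_bt K49.v6482 = K49.v2514 :=
  Lgr Lrot127 (Lpr_bf (K49.f673993 IH) (Lpn K49.v2514))
theorem f103200 : Led Lsl_gt (LP (LK LD1_c1 LD2_c7 LD3_c56)) = (LP (LK LD1_c2 LD2_c21 LD3_c24)) :=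
  Lre_g IH (LK LD1_c1 LD2_c7 LD3_c56) (LK LD1_c2 LD2_c21 LD3_c24) Lrfl Lrfl
theorem f416242 : Led Lsl_gt (LP (LK LD1_c2 LD2_c21 LD3_c25)) = (LP (LK LD1_c1 LD2_c7 LD3_c56)) :=
  Lre_g IH (LK LD1_c2 LD2_c21 LD3_c25) (LK LD1_c1 LD2_c7 LD3_c56) Lrfl Lrfl
theorem f633306 : Led Lsl_ft (LP (LK LD1_c2 LD2_c21 LD3_c25)) = v4427 :=
  Lgr Lrot2 (Lpr_gt (f416242 IH) (Lpr_gt (f103200 IH) (Lpr_af (f633304 IH) (Lpn v4427))))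
theorem f416243 : Led Lsl_ct (LP (LK LD1_c4 LD2_c47 LD3_c4)) = (LP (LK LD1_c2 LD2_c21 LD3_c25)) :=
  Lre_c IH (LK LD1_c4 LD2_c47 LD3_c4) (LK LD1_c2 LD2_c21 LD3_c25) Lrfl Lrfl
theorem f141125 : Led Lsl_ct (LP (LK LD1_c4 LD2_c45 LD3_c22)) = (LP (LK LD1_c6 LD2_c49 LD3_c6)) :=
  Lgr Lrot59 (Lpr_cf (f141114 IH) (Lpn (LP (LK LD1_c6 LD2_c49 LD3_c6))))
theorem f674447 : Led Lsl_ff (LP (LK LD1_c4 LD2_c47 LD3_c4)) = (LP (LK LD1_c6 LD2_c49 LD3_c6)) :=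
  Lgr Lrot23 (Lpr_ct (f416243 IH) (Lpr_ft (f633306 IH) (Lpq (f674440 IH) (Lpr_ct (f141125 IH) (Lpn (LP (LK LD1_c6 LD2_c49 LD3_c6)))))))
def v6483 : LQ := Led Lsl_gf (LP (LK LD1_c3 LD2_c22 LD3_c35))
theorem f653587 : Led Lsl_gf (LP (LK LD1_c3 LD2_c22 LD3_c35)) = v6483 :=
  Lrfl
theorem f78713 : Led Lsl_et (LP (LK LD1_c3 LD2_c16 LD3_c30)) = (LP (LK LD1_c6 LD2_c36 LD3_c21)) :=
  Lre_e IH (LK LD1_c3 LD2_c16 LD3_c30) (LK LD1_c6 LD2_c36 LD3_c21) Lrfl Lrfl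
theorem f60986 : Led Lsl_et (LP (LK LD1_c3 LD2_c22 LD3_c41)) = (LP (LK LD1_c1 LD2_c37 LD3_c36)) :=
  Lre_e IH (LK LD1_c3 LD2_c22 LD3_c41) (LK LD1_c1 LD2_c37 LD3_c36) Lrfl Lrfl
theorem f79019 : Led Lsl_at (LP (LK LD1_c6 LD2_c36 LD3_c21)) = (LP (LK LD1_c3 LD2_c22 LD3_c41)) :=
  Lgr Lrot80 (Lpe (f78713 IH) (Lpr_af (K2.f78985 IH) (Lpe (f60986 IH) (Lpn (LP (LK LD1_c3 LD2_c22 LD3_c41))))))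
theorem f76851 : Led Lsl_ct (LP (LK LD1_c3 LD2_c22 LD3_c41)) = (LP (LK LD1_c1 LD2_c37 LD3_c37)) :=
  Lre_c IH (LK LD1_c3 LD2_c22 LD3_c41) (LK LD1_c1 LD2_c37 LD3_c37) Lrfl Lrfl
theorem f76901 : Led Lsl_at (LP (LK LD1_c1 LD2_c37 LD3_c37)) = (LP (LK LD1_c3 LD2_c22 LD3_c35)) :=
  Lre_a IH (LK LD1_c1 LD2_c37 LD3_c37) (LK LD1_c3 LD2_c22 LD3_c35) Lrfl Lrfl
theorem f79446 : Led Lsl_cf (LP (LK LD1_c6 LD2_c36 LD3_c21)) = (LP (LK LD1_c3 LD2_c22 LD3_c35)) :=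
  Lgr Lrot1 (Lpr_at (f79019 IH) (Lpr_ct (f76851 IH) (Lpr_at (f76901 IH) (Lpn (LP (LK LD1_c3 LD2_c22 LD3_c35))))))
theorem f77075 : Led Lsl_bt (LP (LK LD1_c3 LD2_c22 LD3_c35)) = (LP (LK LD1_c1 LD2_c37 LD3_c60)) :=
  Lre_b IH (LK LD1_c3 LD2_c22 LD3_c35) (LK LD1_c1 LD2_c37 LD3_c60) Lrfl Lrfl
theorem f416440 : Led Lsl_gf (LP (LK LD1_c3 LD2_c18 LD3_c22)) = (LP (LK LD1_c6 LD2_c36 LD3_c21)) :=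
  Lgr Lrot126 (Lpe (K46.f414626 IH) (Lpr_bt (K46.f414625 IH) (Lpr_gt (K24.f416439 IH) (Lpr_ct (K49.f416438 IH) (Lpr_gt (K49.f416437 IH) (Lpe (K46.f416426 IH) (Lpr_bt (K46.f416427 IH) (Lpr_gt (K46.f76808 IH) (Lpe (f77075 IH) (Lpe (f79446 IH) (Lpn (LP (LK LD1_c6 LD2_c36 LD3_c21)))))))))))))
theorem f416445 : Led Lsl_gt (LP (LK LD1_c4 LD2_c45 LD3_c25)) = (LP (LK LD1_c2 LD2_c21 LD3_c25)) :=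
  Lre_g IH (LK LD1_c4 LD2_c45 LD3_c25) (LK LD1_c2 LD2_c21 LD3_c25) Lrfl Lrfl
theorem f653589 : Led Lsl_bt (LP (LK LD1_c4 LD2_c47 LD3_c4)) = v6483 :=
  Lgr Lrot130 (Lpr_ct (f416243 IH) (Lpe (f416445 IH) (Lpe (K49.f66042 IH) (Lpr_bt (K49.f66041 IH) (Lpe (K24.f416439 IH) (Lpe (K46.f414625 IH) (Lpr_ct (K46.f414626 IH) (Lpr_gf (f416440 IH) (Lpr_cf (f79446 IH) (Lpr_gf (f653587 IH) (Lpn v6483)))))))))))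
theorem f141124 : Led Lsl_bt (LP (LK LD1_c3 LD2_c22 LD3_c42)) = (LP (LK LD1_c6 LD2_c49 LD3_c6)) :=
  Lre_b IH (LK LD1_c3 LD2_c22 LD3_c42) (LK LD1_c6 LD2_c49 LD3_c6) Lrfl Lrfl
def v6495 : LQ := Led Lsl_ft (LP (LK LD1_c3 LD2_c22 LD3_c42))
theorem f653637 : Led Lsl_ft (LP (LK LD1_c3 LD2_c22 LD3_c42)) = v6495 :=
  Lrfl
theorem f653639 : Led Lsl_ff (LP (LK LD1_c3 LD2_c22 LD3_c42)) = v6495 :=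
  Lgr Lrot3 (Lpr_ft (f653637 IH) (Lpn v6495))
theorem f674529 : v6483 = v6495 :=
  (Llr Lrot35 (Lpe (f653589 IH) (Lpr_ff (f674447 IH) (Lpe (f141124 IH) (Lpr_ff (f653639 IH) (Lpn v6495)))))).symm
theorem f674532 : K49.v6491 = K49.v6482 :=
  (Llr Lrot26 (Lpe (K49.f653625 IH) (Lpr_ff (f653639 IH) (Lpq (f674529 IH) (Lpe (f653587 IH) (Lpr_gt (K49.f653585 IH) (Lpn K49.v6482))))))).symm
theorem f674533 : K49.v9221 = K49.v2514 :=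
  Lefun (Lecon (K49.f674435 IH) (f674532 IH)) (f673994 IH)
theorem f674534 : K49.v2540 = v7167 :=
  Lefun (Lecon (Lfl_af (K49.f674431 IH)) (f674533 IH)) (f661640 IH)
theorem f674735 : Led Lsl_ff v7165 = v9222 :=
  Lgr Lrot19 (Lpe (f661632 IH) (Lpr_ft (f661637 IH) (Lpq (f674534 IH) (Lpr_dt (f674732 IH) (Lpn v9222)))))
def v13677 : LQ := Led Lsl_dt (LP (LK LD1_c4 LD2_c47 LD3_c0))
theorem f704225 : Led Lsl_dt (LP (LK LD1_c4 LD2_c47 LD3_c0)) = v13677 :=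
  Lrfl
theorem f674734 : Led Lsl_df K49.v2540 = v9222 :=
  Lgr Lrot38 (Lpr_dt (f674732 IH) (Lpn v9222))
theorem f704226 : Led Lsl_bf v9222 = v13677 :=
  Lgr Lrot93 (Lpe (f674734 IH) (Lpe (K49.f527251 IH) (Lpr_dt (f704225 IH) (Lpn v13677))))
theorem f704239 : Led Lsl_ff v13677 = v13678 :=
  Lgr Lrot25 (Lpe (f704226 IH) (Lpe (f674735 IH) (Lpr_bt (f704234 IH) (Lpn v13678))))
theorem f704227 : Led Lsl_df (LP (LK LD1_c4 LD2_c47 LD3_c0)) = v13677 :=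
  Lgr Lrot38 (Lpr_dt (f704225 IH) (Lpn v13677))
theorem f653638 : Led Lsl_af (LP (LK LD1_c3 LD2_c22 LD3_c43)) = v6495 :=
  Lgr Lrot45 (Lpr_ft (K49.f653627 IH) (Lpe (K49.f653626 IH) (Lpr_ft (f653637 IH) (Lpn v6495))))
theorem f674535 : K49.v2541 = v7163 :=
  Lefun (Lecon (Lfl_ff (K49.f674434 IH)) (f674533 IH)) (f661627 IH)
theorem f527847 : Led Lsl_bt (LP (LK LD1_c3 LD2_c40 LD3_c27)) = (LP (LK LD1_c7 LD2_c21 LD3_c5)) :=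
  Lre_b IH (LK LD1_c3 LD2_c40 LD3_c27) (LK LD1_c7 LD2_c21 LD3_c5) Lrfl Lrfl
theorem f674548 : Led Lsl_af (LP (LK LD1_c4 LD2_c47 LD3_c4)) = (LP (LK LD1_c7 LD2_c21 LD3_c5)) :=
  Lgr Lrot36 (Lpr_bt (f653589 IH) (Lpqs (f674529 IH) (Lpe (f653638 IH) (Lpr_bt (K49.f653641 IH) (Lpq (K49.f674239 IH) (Lpqs (f674535 IH) (Lpe (f661626 IH) (Lpr_bt (f527847 IH) (Lpn (LP (LK LD1_c7 LD2_c21 LD3_c5)))))))))))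
theorem f674527 : Led Lsl_ft (LP (LK LD1_c4 LD2_c47 LD3_c4)) = (LP (LK LD1_c6 LD2_c49 LD3_c6)) :=
  Lgr Lrot48 (Lpr_ff (f674447 IH) (Lpn (LP (LK LD1_c6 LD2_c49 LD3_c6))))
theorem f674438 : Led Lsl_at (LP (LK LD1_c6 LD2_c49 LD3_c6)) = (LP (LK LD1_c4 LD2_c47 LD3_c0)) :=
  Lgr Lrot100 (Lpr_af (K49.f674436 IH) (Lpn (LP (LK LD1_c4 LD2_c47 LD3_c0))))
theorem f674552 : Led Lsl_ft (LP (LK LD1_c4 LD2_c47 LD3_c0)) = (LP (LK LD1_c7 LD2_c21 LD3_c5)) :=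
  Lgr Lrot101 (Lpe (f674438 IH) (Lpe (f674527 IH) (Lpr_af (f674548 IH) (Lpn (LP (LK LD1_c7 LD2_c21 LD3_c5))))))
theorem f704240 : Led Lsl_dt (LP (LK LD1_c7 LD2_c21 LD3_c5)) = v13678 :=
  Lgr Lrot60 (Lpe (f674552 IH) (Lpr_df (f704227 IH) (Lpr_ff (f704239 IH) (Lpn v13678))))
def v4428 : LQ := Led Lsl_ft (LP (LK LD1_c2 LD2_c21 LD3_c24))
theorem f633315 : Led Lsl_ft (LP (LK LD1_c2 LD2_c21 LD3_c24)) = v4428 :=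
  Lrfl
theorem f633317 : Led Lsl_ff (LP (LK LD1_c2 LD2_c21 LD3_c24)) = v4428 :=
  Lgr Lrot3 (Lpr_ft (f633315 IH) (Lpn v4428))
theorem f633311 : Led Lsl_ff (LP (LK LD1_c2 LD2_c21 LD3_c25)) = v4427 :=
  Lgr Lrot3 (Lpr_ft (f633306 IH) (Lpn v4427))
theorem f633319 : Led Lsl_at (LP (LK LD1_c2 LD2_c21 LD3_c25)) = v4428 :=
  Lgr Lrot66 (Lpr_ff (f633311 IH) (Lpe (f633303 IH) (Lpr_ff (f633317 IH) (Lpn v4428))))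
theorem f527848 : Led Lsl_cf (LP (LK LD1_c7 LD2_c21 LD3_c5)) = (LP (LK LD1_c4 LD2_c45 LD3_c23)) :=
  Lgr Lrot11 (Lpr_ct (K49.f527845 IH) (Lpn (LP (LK LD1_c4 LD2_c45 LD3_c23))))
theorem f674556 : v4428 = (LP (LK LD1_c4 LD2_c45 LD3_c23)) :=
  (Llr Lrot107 (Lpe (f633319 IH) (Lpe (f416243 IH) (Lpr_af (f674548 IH) (Lpr_cf (f527848 IH) (Lpn (LP (LK LD1_c4 LD2_c45 LD3_c23)))))))).symm
theorem f674561 : Led Lsl_ff (LP (LK LD1_c4 LD2_c47 LD3_c0)) = (LP (LK LD1_c7 LD2_c21 LD3_c5)) :=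
  Lgr Lrot23 (Lpr_ct (K49.f66044 IH) (Lpr_ft (f633315 IH) (Lpqs (f674556 IH) (Lpe (f527848 IH) (Lpn (LP (LK LD1_c7 LD2_c21 LD3_c5)))))))
theorem f141130 : Led Lsl_dt (LP (LK LD1_c9 LD2_c23 LD3_c32)) = (LP (LK LD1_c4 LD2_c45 LD3_c22)) :=
  Lre_d IH (LK LD1_c9 LD2_c23 LD3_c32) (LK LD1_c4 LD2_c45 LD3_c22) Lrfl Lrfl
theorem f141131 : Led Lsl_ct (LP (LK LD1_c17 LD2_c20 LD3_c19)) = (LP (LK LD1_c9 LD2_c23 LD3_c32)) :=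
  Lre_c IH (LK LD1_c17 LD2_c20 LD3_c19) (LK LD1_c9 LD2_c23 LD3_c32) Lrfl Lrfl
theorem f103201 : Led Lsl_et (LP (LK LD1_c4 LD2_c47 LD3_c2)) = (LP (LK LD1_c2 LD2_c21 LD3_c24)) :=
  Lre_e IH (LK LD1_c4 LD2_c47 LD3_c2) (LK LD1_c2 LD2_c21 LD3_c24) Lrfl Lrfl
theorem f704232 : Led Lsl_cf (LP (LK LD1_c4 LD2_c47 LD3_c2)) = v13678 :=
  Lgr Lrot39 (Lpr_et (f103201 IH) (Lpr_ct (f495080 IH) (Lpr_et (f704230 IH) (Lpn v13678))))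
theorem f103202 : Led Lsl_dt (LP (LK LD1_c4 LD2_c47 LD3_c2)) = (LP (LK LD1_c9 LD2_c27 LD3_c1)) :=
  Lre_d IH (LK LD1_c4 LD2_c47 LD3_c2) (LK LD1_c9 LD2_c27 LD3_c1) Lrfl Lrfl
theorem f103210 : Led Lsl_ct (LP (LK LD1_c9 LD2_c27 LD3_c1)) = (LP (LK LD1_c17 LD2_c25 LD3_c39)) :=
  Lre_c IH (LK LD1_c9 LD2_c27 LD3_c1) (LK LD1_c17 LD2_c25 LD3_c39) Lrfl Lrfl
theorem f704242 : Led Lsl_df (LP (LK LD1_c17 LD2_c20 LD3_c19)) = (LP (LK LD1_c17 LD2_c25 LD3_c39)) :=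
  Lgr Lrot13 (Lpr_ct (f141131 IH) (Lpr_dt (f141130 IH) (Lpr_ct (f141125 IH) (Lpr_af (K49.f674436 IH) (Lpr_ff (f674561 IH) (Lpr_dt (f704240 IH) (Lpe (f704232 IH) (Lpr_dt (f103202 IH) (Lpr_ct (f103210 IH) (Lpn (LP (LK LD1_c17 LD2_c25 LD3_c39))))))))))))
theorem f704243 : Led Lsl_dt (LP (LK LD1_c17 LD2_c25 LD3_c39)) = (LP (LK LD1_c17 LD2_c20 LD3_c19)) :=
  Leop (Lpr_df (f704242 IH) (Lpn (LP (LK LD1_c17 LD2_c25 LD3_c39))))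
theorem seed_685 : LEOK LG_d (LK LD1_c17 LD2_c25 LD3_c39) :=
  Leoe_d (LK LD1_c17 LD2_c25 LD3_c39) (f704243 IH)
def v13690 : LQ := Led Lsl_dt (LP (LK LD1_c4 LD2_c47 LD3_c8))
theorem f704340 : Led Lsl_dt (LP (LK LD1_c4 LD2_c47 LD3_c8)) = v13690 :=
  Lrfl
theorem f704341 : Led Lsl_df (LP (LK LD1_c4 LD2_c47 LD3_c8)) = v13690 :=
  Lgr Lrot38 (Lpr_dt (f704340 IH) (Lpn v13690))
theorem f78512 : Led Lsl_gt (LP (LK LD1_c4 LD2_c47 LD3_c8)) = (LP (LK LD1_c2 LD2_c21 LD3_c26)) :=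
  Lre_g IH (LK LD1_c4 LD2_c47 LD3_c8) (LK LD1_c2 LD2_c21 LD3_c26) Lrfl Lrfl
theorem f78511 : Led Lsl_dt (LP (LK LD1_c1 LD2_c7 LD3_c56)) = (LP (LK LD1_c2 LD2_c21 LD3_c26)) :=
  Lre_d IH (LK LD1_c1 LD2_c7 LD3_c56) (LK LD1_c2 LD2_c21 LD3_c26) Lrfl Lrfl
theorem f78510 : Led Lsl_et (LP (LK LD1_c1 LD2_c7 LD3_c56)) = (LP (LK LD1_c0 LD2_c31 LD3_c8)) :=
  Lre_e IH (LK LD1_c1 LD2_c7 LD3_c56) (LK LD1_c0 LD2_c31 LD3_c8) Lrfl Lrfl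
theorem f58243 : Led Lsl_gt (LP (LK LD1_c6 LD2_c17 LD3_c21)) = (LP (LK LD1_c12 LD2_c11 LD3_c12)) :=
  Lre_g IH (LK LD1_c6 LD2_c17 LD3_c21) (LK LD1_c12 LD2_c11 LD3_c12) Lrfl Lrfl
theorem f704350 : Led Lsl_ef (LP (LK LD1_c12 LD2_c11 LD3_c12)) = v13690 :=
  Lgr Lrot17 (Lpe (f58243 IH) (Lpe (K1.f58241 IH) (Lpe (K1.f58215 IH) (Lpe (K3.f78492 IH) (Lpe (K3.f78092 IH) (Lpe (K3.f60998 IH) (Lpe (f78510 IH) (Lpr_dt (f78511 IH) (Lpe (f78512 IH) (Lpr_df (f704341 IH) (Lpn v13690)))))))))))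
theorem f58244 : Led Lsl_dt (LP (LK LD1_c12 LD2_c11 LD3_c12)) = (LP (LK LD1_c21 LD2_c16 LD3_c30)) :=
  Lre_d IH (LK LD1_c12 LD2_c11 LD3_c12) (LK LD1_c21 LD2_c16 LD3_c30) Lrfl Lrfl
theorem f704317 : Led Lsl_et (LP (LK LD1_c9 LD2_c27 LD3_c17)) = (LP (LK LD1_c4 LD2_c47 LD3_c8)) :=
  Lre_e IH (LK LD1_c9 LD2_c27 LD3_c17) (LK LD1_c4 LD2_c47 LD3_c8) Lrfl Lrfl
theorem f704342 : Led Lsl_dt (LP (LK LD1_c17 LD2_c26 LD3_c7)) = (LP (LK LD1_c9 LD2_c27 LD3_c17)) :=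
  Lre_d IH (LK LD1_c17 LD2_c26 LD3_c7) (LK LD1_c9 LD2_c27 LD3_c17) Lrfl Lrfl
theorem f704351 : Led Lsl_et (LP (LK LD1_c21 LD2_c16 LD3_c30)) = (LP (LK LD1_c17 LD2_c26 LD3_c7)) :=
  Lgr Lrot71 (Lpe (f58244 IH) (Lpr_ef (f704350 IH) (Lpe (f704340 IH) (Lpe (f704317 IH) (Lpe (f704342 IH) (Lpn (LP (LK LD1_c17 LD2_c26 LD3_c7))))))))
theorem f704352 : Led Lsl_et (LP (LK LD1_c21 LD2_c16 LD3_c30)) = (LP (LK LD1_c17 LD2_c26 LD3_c7)) :=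
  Leop (Lpe (f704351 IH) (Lpn (LP (LK LD1_c21 LD2_c16 LD3_c30))))
theorem seed_686 : LEOK LG_e (LK LD1_c21 LD2_c16 LD3_c30) :=
  Leoe_e (LK LD1_c21 LD2_c16 LD3_c30) (f704352 IH)
def v13711 : LQ := Led Lsl_ct (LP (LK LD1_c4 LD2_c47 LD3_c20))
theorem f704453 : Led Lsl_ct (LP (LK LD1_c4 LD2_c47 LD3_c20)) = v13711 :=
  Lrfl
theorem f704455 : Led Lsl_cf (LP (LK LD1_c4 LD2_c47 LD3_c20)) = v13711 :=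
  Lgr Lrot11 (Lpr_ct (f704453 IH) (Lpn v13711))
theorem f674199 : Led Lsl_gt (LP (LK LD1_c9 LD2_c27 LD3_c41)) = (LP (LK LD1_c4 LD2_c47 LD3_c20)) :=
  Lre_g IH (LK LD1_c9 LD2_c27 LD3_c41) (LK LD1_c4 LD2_c47 LD3_c20) Lrfl Lrfl
theorem f704457 : Led Lsl_ct (LP (LK LD1_c17 LD2_c26 LD3_c54)) = (LP (LK LD1_c9 LD2_c27 LD3_c41)) :=
  Lre_c IH (LK LD1_c17 LD2_c26 LD3_c54) (LK LD1_c9 LD2_c27 LD3_c41) Lrfl Lrfl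
theorem f495072 : Led Lsl_bt (LP (LK LD1_c2 LD2_c21 LD3_c32)) = (LP (LK LD1_c4 LD2_c47 LD3_c20)) :=
  Lre_b IH (LK LD1_c2 LD2_c21 LD3_c32) (LK LD1_c4 LD2_c47 LD3_c20) Lrfl Lrfl
theorem f704454 : Led Lsl_bf K49.v7905 = v13711 :=
  Lgr Lrot90 (Lpe (K49.f668935 IH) (Lpe (K49.f495070 IH) (Lpr_ct (K35.f495052 IH) (Lpr_bt (f495072 IH) (Lpr_ct (f704453 IH) (Lpn v13711))))))
theorem f58320 : Led Lsl_gt (LP (LK LD1_c2 LD2_c20 LD3_c50)) = (LP (LK LD1_c1 LD2_c7 LD3_c59)) :=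
  Lre_g IH (LK LD1_c2 LD2_c20 LD3_c50) (LK LD1_c1 LD2_c7 LD3_c59) Lrfl Lrfl
theorem f416442 : Led Lsl_bt (LP (LK LD1_c1 LD2_c34 LD3_c57)) = (LP (LK LD1_c2 LD2_c20 LD3_c50)) :=
  Lre_b IH (LK LD1_c1 LD2_c34 LD3_c57) (LK LD1_c2 LD2_c20 LD3_c50) Lrfl Lrfl
theorem f632303 : Led Lsl_ef (LP (LK LD1_c2 LD2_c18 LD3_c4)) = K49.v4263 :=
  Lgr Lrot88 (Lpr_et (K49.f632300 IH) (Lpn K49.v4263))
theorem f632305 : Led Lsl_ct (LP (LK LD1_c2 LD2_c18 LD3_c5)) = K49.v4263 :=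
  Lgr Lrot15 (Lpe (K34.f124431 IH) (Lpe (K7.f61142 IH) (Lpr_ef (f632303 IH) (Lpn K49.v4263))))
theorem f668937 : Led Lsl_gf K49.v4263 = K49.v7905 :=
  Lgr Lrot126 (Lpe (f632305 IH) (Lpe (K34.f124463 IH) (Lpr_gt (K46.f527786 IH) (Lpq (K46.f649461 IH) (Lpr_ct (K46.f140079 IH) (Lpr_gt (K46.f495074 IH) (Lpe (K49.f416438 IH) (Lpr_bt (f416442 IH) (Lpr_gt (f58320 IH) (Lpr_bf (K49.f495070 IH) (Lpr_ct (K49.f668934 IH) (Lpn K49.v7905))))))))))))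
def v6617 : LQ := Led Lsl_ft (LP (LK LD1_c3 LD2_c24 LD3_c13))
theorem f654441 : Led Lsl_ft (LP (LK LD1_c3 LD2_c24 LD3_c13)) = v6617 :=
  Lrfl
theorem f654443 : Led Lsl_cf K34.v2213 = v6617 :=
  Lgr Lrot108 (Lpr_ft (K35.f510414 IH) (Lpr_ct (K49.f414461 IH) (Lpr_ft (f654441 IH) (Lpn v6617))))
theorem f79725 : Led Lsl_ct (LP (LK LD1_c3 LD2_c24 LD3_c13)) = (LP (LK LD1_c1 LD2_c38 LD3_c25)) :=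
  Lre_c IH (LK LD1_c3 LD2_c24 LD3_c13) (LK LD1_c1 LD2_c38 LD3_c25) Lrfl Lrfl
theorem f414515 : Led Lsl_bt (LP (LK LD1_c0 LD2_c44 LD3_c49)) = (LP (LK LD1_c1 LD2_c36 LD3_c45)) :=
  Lre_b IH (LK LD1_c0 LD2_c44 LD3_c49) (LK LD1_c1 LD2_c36 LD3_c45) Lrfl Lrfl
theorem f414617 : Led Lsl_bf (LP (LK LD1_c3 LD2_c24 LD3_c13)) = (LP (LK LD1_c3 LD2_c20 LD3_c55)) :=
  Lgr Lrot90 (Lpr_ct (f79725 IH) (Lpr_bt (K34.f79724 IH) (Lpr_ct (K17.f414502 IH) (Lpr_bt (f414515 IH) (Lpr_ct (f414495 IH) (Lpn (LP (LK LD1_c3 LD2_c20 LD3_c55))))))))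
theorem f654442 : Led Lsl_bf (LP (LK LD1_c4 LD2_c49 LD3_c15)) = v6617 :=
  Lgr Lrot61 (Lpe (f510378 IH) (Lpe (f414617 IH) (Lpr_ft (f654441 IH) (Lpn v6617))))
theorem f510382 : Led Lsl_gt (LP (LK LD1_c4 LD2_c49 LD3_c15)) = (LP (LK LD1_c9 LD2_c31 LD3_c15)) :=
  Lre_g IH (LK LD1_c4 LD2_c49 LD3_c15) (LK LD1_c9 LD2_c31 LD3_c15) Lrfl Lrfl
theorem f704461 : Led Lsl_bt (LP (LK LD1_c17 LD2_c26 LD3_c54)) = (LP (LK LD1_c9 LD2_c31 LD3_c15)) :=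
  Lgr Lrot92 (Lpr_ct (f704457 IH) (Lpr_gt (f674199 IH) (Lpr_cf (f704455 IH) (Lpe (f704454 IH) (Lpe (f668937 IH) (Lpe (K49.f632302 IH) (Lpe (K34.f527808 IH) (Lpr_cf (f654443 IH) (Lpe (f654442 IH) (Lpr_gt (f510382 IH) (Lpn (LP (LK LD1_c9 LD2_c31 LD3_c15)))))))))))))
theorem f704462 : Led Lsl_bt (LP (LK LD1_c17 LD2_c26 LD3_c54)) = (LP (LK LD1_c9 LD2_c31 LD3_c15)) :=
  Leop (Lpe (f704461 IH) (Lpn (LP (LK LD1_c17 LD2_c26 LD3_c54))))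
theorem seed_687 : LEOK LG_b (LK LD1_c17 LD2_c26 LD3_c54) :=
  Leoe_b (LK LD1_c17 LD2_c26 LD3_c54) (f704462 IH)
def v13747 : LQ := Led Lsl_ft (LP (LK LD1_c4 LD2_c47 LD3_c46))
theorem f704629 : Led Lsl_ft (LP (LK LD1_c4 LD2_c47 LD3_c46)) = v13747 :=
  Lrfl
theorem f57234 : Led Lsl_dt (LP (LK LD1_c1 LD2_c36 LD3_c22)) = (LP (LK LD1_c0 LD2_c44 LD3_c39)) :=
  Lre_d IH (LK LD1_c1 LD2_c36 LD3_c22) (LK LD1_c0 LD2_c44 LD3_c39) Lrfl Lrfl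
theorem f62368 : Led Lsl_dt (LP (LK LD1_c3 LD2_c19 LD3_c56)) = (LP (LK LD1_c1 LD2_c36 LD3_c21)) :=
  Lre_d IH (LK LD1_c3 LD2_c19 LD3_c56) (LK LD1_c1 LD2_c36 LD3_c21) Lrfl Lrfl
theorem f62371 : Led Lsl_et (LP (LK LD1_c3 LD2_c19 LD3_c56)) = (LP (LK LD1_c6 LD2_c43 LD3_c40)) :=
  Lre_e IH (LK LD1_c3 LD2_c19 LD3_c56) (LK LD1_c6 LD2_c43 LD3_c40) Lrfl Lrfl
theorem f113137 : Led Lsl_at (LP (LK LD1_c4 LD2_c47 LD3_c46)) = (LP (LK LD1_c2 LD2_c21 LD3_c52)) :=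
  Lre_a IH (LK LD1_c4 LD2_c47 LD3_c46) (LK LD1_c2 LD2_c21 LD3_c52) Lrfl Lrfl
theorem f113138 : Led Lsl_et (LP (LK LD1_c3 LD2_c22 LD3_c46)) = (LP (LK LD1_c4 LD2_c47 LD3_c46)) :=
  Lgr Lrot123 (Lpe (K6.f113136 IH) (Lpr_ef (K6.f113132 IH) (Lpe (f113137 IH) (Lpn (LP (LK LD1_c4 LD2_c47 LD3_c46))))))
theorem f209592 : Led Lsl_gf (LP (LK LD1_c6 LD2_c43 LD3_c40)) = (LP (LK LD1_c4 LD2_c47 LD3_c46)) :=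
  Lgr Lrot141 (Lpe (f62371 IH) (Lpr_dt (f62368 IH) (Lpr_gt (f57155 IH) (Lpe (f57234 IH) (Lpr_et (K5.f62346 IH) (Lpr_gt (K6.f62369 IH) (Lpr_dt (K11.f209582 IH) (Lpr_gt (K11.f152357 IH) (Lpe (K6.f113289 IH) (Lpr_et (f113138 IH) (Lpn (LP (LK LD1_c4 LD2_c47 LD3_c46)))))))))))))
theorem f704630 : Led Lsl_af (LP (LK LD1_c4 LD2_c48 LD3_c0)) = v13747 :=
  Lgr Lrot45 (Lpr_ft (K6.f113150 IH) (Lpr_at (K6.f113154 IH) (Lpr_ft (f704629 IH) (Lpn v13747))))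
theorem f704634 : Led Lsl_gt (LP (LK LD1_c6 LD2_c43 LD3_c40)) = (LP (LK LD1_c4 LD2_c48 LD3_c0)) :=
  Lgr Lrot46 (Lpr_gf (f209592 IH) (Lpr_ft (f704629 IH) (Lpe (f704630 IH) (Lpn (LP (LK LD1_c4 LD2_c48 LD3_c0))))))
theorem f704635 : Led Lsl_gt (LP (LK LD1_c6 LD2_c43 LD3_c40)) = (LP (LK LD1_c4 LD2_c48 LD3_c0)) :=
  Leop (Lpe (f704634 IH) (Lpn (LP (LK LD1_c6 LD2_c43 LD3_c40))))
theorem seed_688 : LEOK LG_g (LK LD1_c6 LD2_c43 LD3_c40) :=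
  Leoe_g (LK LD1_c6 LD2_c43 LD3_c40) (f704635 IH)
def v13792 : LQ := Led Lsl_et (LP (LK LD1_c4 LD2_c48 LD3_c5))
theorem f704870 : Led Lsl_et (LP (LK LD1_c4 LD2_c48 LD3_c5)) = v13792 :=
  Lrfl
theorem f507365 : Led Lsl_ft (LP (LK LD1_c3 LD2_c19 LD3_c27)) = (LP (LK LD1_c4 LD2_c48 LD3_c5)) :=
  Lgr Lrot48 (Lpr_ff (f507357 IH) (Lpn (LP (LK LD1_c4 LD2_c48 LD3_c5))))
theorem f652313 : Led Lsl_ft (LP (LK LD1_c9 LD2_c32 LD3_c37)) = K49.v6253 :=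
  Lgr Lrot48 (Lpr_ff (K49.f652312 IH) (Lpn K49.v6253))
theorem f503662 : Led Lsl_dt (LP (LK LD1_c1 LD2_c37 LD3_c20)) = (LP (LK LD1_c3 LD2_c2 LD3_c55)) :=
  Lgr Lrot44 (Lpe (K32.f503291 IH) (Lpr_df (K32.f503313 IH) (Lpr_af (K32.f503655 IH) (Lpn (LP (LK LD1_c3 LD2_c2 LD3_c55))))))
theorem f84032 : Led Lsl_dt (LP (LK LD1_c3 LD2_c22 LD3_c9)) = (LP (LK LD1_c6 LD2_c47 LD3_c55)) :=
  Lre_d IH (LK LD1_c3 LD2_c22 LD3_c9) (LK LD1_c6 LD2_c47 LD3_c55) Lrfl Lrfl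
theorem f84033 : Led Lsl_gt (LP (LK LD1_c6 LD2_c47 LD3_c55)) = (LP (LK LD1_c12 LD2_c58 LD3_c37)) :=
  Lre_g IH (LK LD1_c6 LD2_c47 LD3_c55) (LK LD1_c12 LD2_c58 LD3_c37) Lrfl Lrfl
theorem f503675 : Led Lsl_df (LP (LK LD1_c9 LD2_c32 LD3_c37)) = (LP (LK LD1_c12 LD2_c58 LD3_c37)) :=
  Lgr Lrot84 (Lpe (K32.f146148 IH) (Lpr_df (K35.f438691 IH) (Lpr_gf (K35.f503673 IH) (Lpe (f503662 IH) (Lpe (K32.f140866 IH) (Lpe (K24.f25442 IH) (Lpr_gt (K35.f23250 IH) (Lpr_dt (f84032 IH) (Lpr_gt (f84033 IH) (Lpn (LP (LK LD1_c12 LD2_c58 LD3_c37))))))))))))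
theorem f503682 : Led Lsl_dt (LP (LK LD1_c9 LD2_c32 LD3_c37)) = (LP (LK LD1_c12 LD2_c58 LD3_c37)) :=
  Lgr Lrot42 (Lpr_df (f503675 IH) (Lpn (LP (LK LD1_c12 LD2_c58 LD3_c37))))
theorem f25694 : Led Lsl_et (LP (LK LD1_c0 LD2_c45 LD3_c7)) = (LP (LK LD1_c1 LD2_c37 LD3_c22)) :=
  Lre_e IH (LK LD1_c0 LD2_c45 LD3_c7) (LK LD1_c1 LD2_c37 LD3_c22) Lrfl Lrfl
theorem f84034 : Led Lsl_gt (LP (LK LD1_c6 LD2_c23 LD3_c42)) = (LP (LK LD1_c3 LD2_c9 LD3_c27)) :=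
  Lre_g IH (LK LD1_c6 LD2_c23 LD3_c42) (LK LD1_c3 LD2_c9 LD3_c27) Lrfl Lrfl
theorem f503688 : Led Lsl_et (LP (LK LD1_c9 LD2_c32 LD3_c37)) = (LP (LK LD1_c6 LD2_c23 LD3_c42)) :=
  Lgr Lrot185 (Lpr_dt (f503682 IH) (Lpe (f84033 IH) (Lpe (f84032 IH) (Lpe (K35.f23250 IH) (Lpe (f25694 IH) (Lpe (K2.f25691 IH) (Lpr_gf (K2.f83939 IH) (Lpe (K7.f67154 IH) (Lpr_et (f84027 IH) (Lpe (f84034 IH) (Lpn (LP (LK LD1_c6 LD2_c23 LD3_c42)))))))))))))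
theorem f503695 : Led Lsl_ef (LP (LK LD1_c9 LD2_c32 LD3_c37)) = (LP (LK LD1_c6 LD2_c23 LD3_c42)) :=
  Lgr Lrot88 (Lpr_et (f503688 IH) (Lpn (LP (LK LD1_c6 LD2_c23 LD3_c42))))
theorem f704874 : Led Lsl_ff (LP (LK LD1_c6 LD2_c23 LD3_c42)) = v13792 :=
  Lgr Lrot72 (Lpe (f503695 IH) (Lpr_ft (f652313 IH) (Lpe (K49.f652309 IH) (Lpr_ft (f507365 IH) (Lpr_et (f704870 IH) (Lpn v13792))))))
theorem f503693 : Led Lsl_cf (LP (LK LD1_c3 LD2_c22 LD3_c22)) = (LP (LK LD1_c6 LD2_c23 LD3_c42)) :=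
  Lgr Lrot39 (Lpe (K32.f146146 IH) (Lpr_ct (K32.f146148 IH) (Lpr_et (f503688 IH) (Lpn (LP (LK LD1_c6 LD2_c23 LD3_c42))))))
theorem f704877 : Led Lsl_ct (LP (LK LD1_c4 LD2_c48 LD3_c6)) = v13792 :=
  Lgr Lrot40 (Lpe (K49.f507325 IH) (Lpr_cf (f503693 IH) (Lpr_ff (f704874 IH) (Lpn v13792))))
theorem f146002 : Led Lsl_gt (LP (LK LD1_c2 LD2_c22 LD3_c61)) = (LP (LK LD1_c4 LD2_c50 LD3_c25)) :=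
  Lre_g IH (LK LD1_c2 LD2_c22 LD3_c61) (LK LD1_c4 LD2_c50 LD3_c25) Lrfl Lrfl
def v13278 : LQ := Led Lsl_gf (LP (LK LD1_c4 LD2_c42 LD3_c14))
theorem f702086 : Led Lsl_gf (LP (LK LD1_c4 LD2_c42 LD3_c14)) = v13278 :=
  Lrfl
theorem f61073 : Led Lsl_dt (LP (LK LD1_c4 LD2_c42 LD3_c14)) = (LP (LK LD1_c2 LD2_c18 LD3_c26)) :=
  Lre_d IH (LK LD1_c4 LD2_c42 LD3_c14) (LK LD1_c2 LD2_c18 LD3_c26) Lrfl Lrfl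
theorem f204495 : Led Lsl_ct (LP (LK LD1_c0 LD2_c41 LD3_c49)) = (LP (LK LD1_c1 LD2_c24 LD3_c28)) :=
  Lgr Lrot15 (Lpr_ef (K7.f153649 IH) (Lpe (K32.f150499 IH) (Lpr_ef (K11.f204489 IH) (Lpn (LP (LK LD1_c1 LD2_c24 LD3_c28))))))
theorem f27092 : Led Lsl_ct (LP (LK LD1_c4 LD2_c48 LD3_c5)) = (LP (LK LD1_c2 LD2_c21 LD3_c56)) :=
  Lre_c IH (LK LD1_c4 LD2_c48 LD3_c5) (LK LD1_c2 LD2_c21 LD3_c56) Lrfl Lrfl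
theorem f204626 : Led Lsl_gt (LP (LK LD1_c9 LD2_c18 LD3_c31)) = (LP (LK LD1_c4 LD2_c48 LD3_c5)) :=
  Lgr Lrot150 (Lpe (K29.f61023 IH) (Lpe (K8.f61015 IH) (Lpe (K8.f61014 IH) (Lpe (K11.f153578 IH) (Lpr_ct (f204495 IH) (Lpr_gt (K16.f204267 IH) (Lpr_ct (K35.f27083 IH) (Lpe (K32.f27091 IH) (Lpe (f27092 IH) (Lpn (LP (LK LD1_c4 LD2_c48 LD3_c5))))))))))))
theorem f702089 : Led Lsl_dt (LP (LK LD1_c4 LD2_c48 LD3_c5)) = v13278 :=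
  Lgr Lrot57 (Lpe (f204626 IH) (Lpe (K29.f61023 IH) (Lpe (K35.f82830 IH) (Lpr_dt (K35.f61085 IH) (Lpr_gt (K31.f59488 IH) (Lpr_dt (K24.f26012 IH) (Lpe (K29.f61072 IH) (Lpe (f61073 IH) (Lpr_gf (f702086 IH) (Lpn v13278))))))))))
theorem f153553 : Led Lsl_ft (LP (LK LD1_c6 LD2_c22 LD3_c31)) = (LP (LK LD1_c3 LD2_c8 LD3_c56)) :=
  Lre_f IH (LK LD1_c6 LD2_c22 LD3_c31) (LK LD1_c3 LD2_c8 LD3_c56) Lrfl Lrfl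
theorem f153554 : Led Lsl_at (LP (LK LD1_c3 LD2_c8 LD3_c56)) = (LP (LK LD1_c4 LD2_c42 LD3_c14)) :=
  Lgr Lrot66 (Lpe (f153553 IH) (Lpr_af (f153536 IH) (Lpe (f61078 IH) (Lpn (LP (LK LD1_c4 LD2_c42 LD3_c14))))))
theorem f702087 : Led Lsl_gt (LP (LK LD1_c6 LD2_c22 LD3_c31)) = v13278 :=
  Lgr Lrot5 (Lpr_ft (f153553 IH) (Lpr_at (f153554 IH) (Lpr_gf (f702086 IH) (Lpn v13278))))
theorem f704876 : Led Lsl_gf (LP (LK LD1_c6 LD2_c23 LD3_c43)) = v13792 :=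
  Lgr Lrot141 (Lpe (K16.f153749 IH) (Lpr_dt (K32.f69088 IH) (Lpr_gt (K32.f435277 IH) (Lpe (K32.f435381 IH) (Lpr_et (K32.f435388 IH) (Lpe (K32.f153526 IH) (Lpr_dt (f153509 IH) (Lpr_gt (f702087 IH) (Lpe (f702089 IH) (Lpr_et (f704870 IH) (Lpn v13792)))))))))))
theorem f153755 : Led Lsl_cf (LP (LK LD1_c3 LD2_c11 LD3_c37)) = (LP (LK LD1_c6 LD2_c23 LD3_c43)) :=
  Lgr Lrot39 (Lpr_et (K46.f153703 IH) (Lpr_ct (K16.f69087 IH) (Lpr_et (K16.f153749 IH) (Lpn (LP (LK LD1_c6 LD2_c23 LD3_c43))))))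
theorem f154014 : Led Lsl_at (LP (LK LD1_c3 LD2_c22 LD3_c31)) = (LP (LK LD1_c3 LD2_c9 LD3_c28)) :=
  Lgr Lrot100 (Lpr_af (f154010 IH) (Lpn (LP (LK LD1_c3 LD2_c9 LD3_c28))))
theorem f154013 : Led Lsl_ct (LP (LK LD1_c3 LD2_c9 LD3_c28)) = (LP (LK LD1_c1 LD2_c30 LD3_c53)) :=
  Lre_c IH (LK LD1_c3 LD2_c9 LD3_c28) (LK LD1_c1 LD2_c30 LD3_c53) Lrfl Lrfl
theorem f154007 : Led Lsl_af (LP (LK LD1_c2 LD2_c18 LD3_c36)) = (LP (LK LD1_c1 LD2_c30 LD3_c53)) :=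
  Lgr Lrot0 (Lpr_at (K46.f154005 IH) (Lpn (LP (LK LD1_c1 LD2_c30 LD3_c53))))
theorem f154033 : Led Lsl_cf (LP (LK LD1_c3 LD2_c22 LD3_c31)) = (LP (LK LD1_c2 LD2_c18 LD3_c36)) :=
  Lgr Lrot1 (Lpr_at (f154014 IH) (Lpr_ct (f154013 IH) (Lpe (f154007 IH) (Lpn (LP (LK LD1_c2 LD2_c18 LD3_c36))))))
theorem f632465 : Led Lsl_ct (LP (LK LD1_c6 LD2_c48 LD3_c51)) = K46.v4294 :=
  Lgr Lrot40 (Lpe (K16.f154019 IH) (Lpr_cf (f154033 IH) (Lpr_ff (K46.f632463 IH) (Lpn K46.v4294))))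
theorem f704879 : Led Lsl_ct (LP (LK LD1_c4 LD2_c50 LD3_c25)) = (LP (LK LD1_c6 LD2_c23 LD3_c44)) :=
  Lgr Lrot152 (Lpe (f146002 IH) (Lpe (K6.f143036 IH) (Lpe (K32.f135494 IH) (Lpr_ct (f704877 IH) (Lpe (f704876 IH) (Lpe (f153755 IH) (Lpr_df (K46.f632461 IH) (Lpe (f632465 IH) (Lpe (K46.f648037 IH) (Lpn (LP (LK LD1_c6 LD2_c23 LD3_c44))))))))))))
theorem f704880 : Led Lsl_ct (LP (LK LD1_c4 LD2_c50 LD3_c25)) = (LP (LK LD1_c6 LD2_c23 LD3_c44)) :=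
  Leop (Lpe (f704879 IH) (Lpn (LP (LK LD1_c4 LD2_c50 LD3_c25))))
theorem seed_689 : LEOK LG_c (LK LD1_c4 LD2_c50 LD3_c25) :=
  Leoe_c (LK LD1_c4 LD2_c50 LD3_c25) (f704880 IH)
def v13801 : LQ := Led Lsl_ft (LP (LK LD1_c4 LD2_c48 LD3_c16))
theorem f704942 : Led Lsl_ft (LP (LK LD1_c4 LD2_c48 LD3_c16)) = v13801 :=
  Lrfl
theorem f124141 : Led Lsl_gt (LP (LK LD1_c4 LD2_c48 LD3_c16)) = (LP (LK LD1_c9 LD2_c29 LD3_c16)) :=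
  Lre_g IH (LK LD1_c4 LD2_c48 LD3_c16) (LK LD1_c9 LD2_c29 LD3_c16) Lrfl Lrfl
theorem f148451 : Led Lsl_et (LP (LK LD1_c1 LD2_c47 LD3_c40)) = (LP (LK LD1_c3 LD2_c41 LD3_c30)) :=
  Lre_e IH (LK LD1_c1 LD2_c47 LD3_c40) (LK LD1_c3 LD2_c41 LD3_c30) Lrfl Lrfl
theorem f13318 : Led Lsl_gt (LP (LK LD1_c3 LD2_c41 LD3_c30)) = (LP (LK LD1_c7 LD2_c23 LD3_c34)) :=
  Lre_g IH (LK LD1_c3 LD2_c41 LD3_c30) (LK LD1_c7 LD2_c23 LD3_c34) Lrfl Lrfl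
theorem f148452 : Led Lsl_et (LP (LK LD1_c13 LD2_c58 LD3_c42)) = (LP (LK LD1_c7 LD2_c23 LD3_c34)) :=
  Lre_e IH (LK LD1_c13 LD2_c58 LD3_c42) (LK LD1_c7 LD2_c23 LD3_c34) Lrfl Lrfl
theorem f146873 : Led Lsl_dt (LP (LK LD1_c4 LD2_c48 LD3_c16)) = (LP (LK LD1_c9 LD2_c29 LD3_c18)) :=
  Lre_d IH (LK LD1_c4 LD2_c48 LD3_c16) (LK LD1_c9 LD2_c29 LD3_c18) Lrfl Lrfl
theorem f146874 : Led Lsl_gt (LP (LK LD1_c17 LD2_c29 LD3_c61)) = (LP (LK LD1_c9 LD2_c29 LD3_c18)) :=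
  Lre_g IH (LK LD1_c17 LD2_c29 LD3_c61) (LK LD1_c9 LD2_c29 LD3_c18) Lrfl Lrfl
theorem f148453 : Led Lsl_dt (LP (LK LD1_c13 LD2_c58 LD3_c42)) = (LP (LK LD1_c17 LD2_c29 LD3_c61)) :=
  Lgr Lrot136 (Lpr_et (f148452 IH) (Lpe (f13318 IH) (Lpe (f148451 IH) (Lpe (K8.f148054 IH) (Lpr_gf (K7.f148435 IH) (Lpe (K7.f146850 IH) (Lpe (K6.f146861 IH) (Lpe (K37.f146872 IH) (Lpr_dt (f146873 IH) (Lpe (f146874 IH) (Lpn (LP (LK LD1_c17 LD2_c29 LD3_c61)))))))))))))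
theorem f148458 : Led Lsl_gt (LP (LK LD1_c23 LD2_c30 LD3_c45)) = (LP (LK LD1_c13 LD2_c58 LD3_c42)) :=
  Lre_g IH (LK LD1_c23 LD2_c30 LD3_c45) (LK LD1_c13 LD2_c58 LD3_c42) Lrfl Lrfl
theorem f148459 : Led Lsl_dt (LP (LK LD1_c9 LD2_c29 LD3_c18)) = (LP (LK LD1_c4 LD2_c48 LD3_c16)) :=
  Lre_d IH (LK LD1_c9 LD2_c29 LD3_c18) (LK LD1_c4 LD2_c48 LD3_c16) Lrfl Lrfl
theorem f142315 : Led Lsl_dt (LP (LK LD1_c7 LD2_c49 LD3_c29)) = (LP (LK LD1_c3 LD2_c53 LD3_c56)) :=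
  Lre_d IH (LK LD1_c7 LD2_c49 LD3_c29) (LK LD1_c3 LD2_c53 LD3_c56) Lrfl Lrfl
theorem f123299 : Led Lsl_ft (LP (LK LD1_c7 LD2_c50 LD3_c13)) = (LP (LK LD1_c3 LD2_c54 LD3_c17)) :=
  Lre_f IH (LK LD1_c7 LD2_c50 LD3_c13) (LK LD1_c3 LD2_c54 LD3_c17) Lrfl Lrfl
theorem f122903 : Led Lsl_at (LP (LK LD1_c3 LD2_c54 LD3_c17)) = (LP (LK LD1_c7 LD2_c49 LD3_c29)) :=
  Lre_a IH (LK LD1_c3 LD2_c54 LD3_c17) (LK LD1_c7 LD2_c49 LD3_c29) Lrfl Lrfl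
theorem f147633 : Led Lsl_gt (LP (LK LD1_c13 LD2_c58 LD3_c57)) = (LP (LK LD1_c7 LD2_c49 LD3_c29)) :=
  Lgr Lrot46 (Lpr_gf (K7.f147631 IH) (Lpr_ft (f123299 IH) (Lpr_at (f122903 IH) (Lpn (LP (LK LD1_c7 LD2_c49 LD3_c29))))))
theorem f148460 : Led Lsl_gt (LP (LK LD1_c13 LD2_c58 LD3_c56)) = (LP (LK LD1_c7 LD2_c23 LD3_c40)) :=
  Lre_g IH (LK LD1_c13 LD2_c58 LD3_c56) (LK LD1_c7 LD2_c23 LD3_c40) Lrfl Lrfl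
theorem f148461 : Led Lsl_cf (LP (LK LD1_c23 LD2_c30 LD3_c45)) = (LP (LK LD1_c13 LD2_c58 LD3_c56)) :=
  Lgr Lrot166 (Lpr_gt (f148458 IH) (Lpr_dt (f148453 IH) (Lpr_gt (f146874 IH) (Lpr_dt (f148459 IH) (Lpr_ct (K37.f134771 IH) (Lpe (f142315 IH) (Lpe (f147633 IH) (Lpe (K7.f147630 IH) (Lpe (f148460 IH) (Lpn (LP (LK LD1_c13 LD2_c58 LD3_c56))))))))))))
theorem f148464 : Led Lsl_ct (LP (LK LD1_c23 LD2_c30 LD3_c45)) = (LP (LK LD1_c13 LD2_c58 LD3_c56)) :=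
  Lgr Lrot59 (Lpr_cf (f148461 IH) (Lpn (LP (LK LD1_c13 LD2_c58 LD3_c56))))
theorem f148466 : Led Lsl_cf (LP (LK LD1_c4 LD2_c48 LD3_c16)) = (LP (LK LD1_c3 LD2_c53 LD3_c56)) :=
  Lgr Lrot14 (Lpe (f148459 IH) (Lpe (f146874 IH) (Lpe (f148453 IH) (Lpe (f148458 IH) (Lpr_ct (f148464 IH) (Lpr_gt (f148460 IH) (Lpr_dt (K7.f147630 IH) (Lpr_gt (f147633 IH) (Lpr_dt (f142315 IH) (Lpn (LP (LK LD1_c3 LD2_c53 LD3_c56))))))))))))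
theorem f123010 : Led Lsl_at (LP (LK LD1_c1 LD2_c53 LD3_c45)) = (LP (LK LD1_c3 LD2_c53 LD3_c56)) :=
  Lre_a IH (LK LD1_c1 LD2_c53 LD3_c45) (LK LD1_c3 LD2_c53 LD3_c56) Lrfl Lrfl
theorem f148468 : Led Lsl_at (LP (LK LD1_c4 LD2_c48 LD3_c16)) = (LP (LK LD1_c3 LD2_c54 LD3_c14)) :=
  Lgr Lrot107 (Lpr_cf (f148466 IH) (Lpe (f123010 IH) (Lpe (K6.f122935 IH) (Lpn (LP (LK LD1_c3 LD2_c54 LD3_c14))))))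
theorem f148478 : Led Lsl_af (LP (LK LD1_c4 LD2_c48 LD3_c16)) = (LP (LK LD1_c3 LD2_c54 LD3_c14)) :=
  Lgr Lrot0 (Lpr_at (f148468 IH) (Lpn (LP (LK LD1_c3 LD2_c54 LD3_c14))))
theorem f145313 : Led Lsl_ft (LP (LK LD1_c7 LD2_c50 LD3_c3)) = (LP (LK LD1_c3 LD2_c54 LD3_c14)) :=
  Lre_f IH (LK LD1_c7 LD2_c50 LD3_c3) (LK LD1_c3 LD2_c54 LD3_c14) Lrfl Lrfl
theorem f704943 : Led Lsl_af (LP (LK LD1_c7 LD2_c50 LD3_c3)) = v13801 :=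
  Lgr Lrot45 (Lpr_ft (f145313 IH) (Lpe (f148478 IH) (Lpr_ft (f704942 IH) (Lpn v13801))))
theorem f704948 : Led Lsl_gt (LP (LK LD1_c9 LD2_c29 LD3_c16)) = (LP (LK LD1_c7 LD2_c50 LD3_c3)) :=
  Lgr Lrot46 (Lpe (f124141 IH) (Lpr_ft (f704942 IH) (Lpe (f704943 IH) (Lpn (LP (LK LD1_c7 LD2_c50 LD3_c3))))))
theorem f704949 : Led Lsl_gt (LP (LK LD1_c9 LD2_c29 LD3_c16)) = (LP (LK LD1_c7 LD2_c50 LD3_c3)) :=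
  Leop (Lpe (f704948 IH) (Lpn (LP (LK LD1_c9 LD2_c29 LD3_c16))))
theorem seed_690 : LEOK LG_g (LK LD1_c9 LD2_c29 LD3_c16) :=
  Leoe_g (LK LD1_c9 LD2_c29 LD3_c16) (f704949 IH)
theorem f148472 : Led Lsl_ft (LP (LK LD1_c7 LD2_c49 LD3_c30)) = (LP (LK LD1_c3 LD2_c53 LD3_c56)) :=
  Lre_f IH (LK LD1_c7 LD2_c49 LD3_c30) (LK LD1_c3 LD2_c53 LD3_c56) Lrfl Lrfl
theorem f704945 : Led Lsl_cf (LP (LK LD1_c7 LD2_c49 LD3_c30)) = v13801 :=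
  Lgr Lrot108 (Lpr_ft (f148472 IH) (Lpe (f148466 IH) (Lpr_ft (f704942 IH) (Lpn v13801))))
theorem f437690 : Led Lsl_gt (LP (LK LD1_c7 LD2_c49 LD3_c30)) = (LP (LK LD1_c3 LD2_c54 LD3_c16)) :=
  Lre_g IH (LK LD1_c7 LD2_c49 LD3_c30) (LK LD1_c3 LD2_c54 LD3_c16) Lrfl Lrfl
def v7662 : LQ := Led Lsl_ct (LP (LK LD1_c3 LD2_c54 LD3_c16))
theorem f667521 : Led Lsl_ct (LP (LK LD1_c3 LD2_c54 LD3_c16)) = v7662 :=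
  Lrfl
theorem f667522 : Led Lsl_cf (LP (LK LD1_c3 LD2_c54 LD3_c16)) = v7662 :=
  Lgr Lrot11 (Lpr_ct (f667521 IH) (Lpn v7662))
theorem f704944 : Led Lsl_bf v4848 = v13801 :=
  Lgr Lrot61 (Lpe (f640578 IH) (Lpe (K37.f544109 IH) (Lpr_ft (f704942 IH) (Lpn v13801))))
theorem f700796 : Led Lsl_cf (LP (LK LD1_c4 LD2_c38 LD3_c41)) = v13060 :=
  Lgr Lrot11 (Lpr_ct (f700793 IH) (Lpn v13060))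
theorem f558577 : Led Lsl_ct (LP (LK LD1_c8 LD2_c2 LD3_c23)) = (LP (LK LD1_c4 LD2_c48 LD3_c57)) :=
  Lgr Lrot59 (Lpr_cf (K40.f558557 IH) (Lpn (LP (LK LD1_c4 LD2_c48 LD3_c57))))
theorem f538822 : Led Lsl_gt (LP (LK LD1_c12 LD2_c22 LD3_c59)) = (LP (LK LD1_c6 LD2_c24 LD3_c59)) :=
  Lre_g IH (LK LD1_c12 LD2_c22 LD3_c59) (LK LD1_c6 LD2_c24 LD3_c59) Lrfl Lrfl
theorem f30080 : Led Lsl_ct (LP (LK LD1_c15 LD2_c6 LD3_c15)) = (LP (LK LD1_c8 LD2_c1 LD3_c20)) :=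
  Lre_c IH (LK LD1_c15 LD2_c6 LD3_c15) (LK LD1_c8 LD2_c1 LD3_c20) Lrfl Lrfl
theorem f538694 : Led Lsl_ct (LP (LK LD1_c12 LD2_c22 LD3_c61)) = (LP (LK LD1_c21 LD2_c29 LD3_c54)) :=
  Lre_c IH (LK LD1_c12 LD2_c22 LD3_c61) (LK LD1_c21 LD2_c29 LD3_c54) Lrfl Lrfl
theorem f538704 : Led Lsl_af (LP (LK LD1_c15 LD2_c6 LD3_c15)) = (LP (LK LD1_c21 LD2_c29 LD3_c54)) :=
  Lgr Lrot68 (Lpr_ct (f30080 IH) (Lpr_at (K35.f538683 IH) (Lpr_ct (f538694 IH) (Lpn (LP (LK LD1_c21 LD2_c29 LD3_c54))))))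
theorem f618539 : Led Lsl_ft (LP (LK LD1_c12 LD2_c22 LD3_c57)) = (LP (LK LD1_c21 LD2_c29 LD3_c54)) :=
  Lre_f IH (LK LD1_c12 LD2_c22 LD3_c57) (LK LD1_c21 LD2_c29 LD3_c54) Lrfl Lrfl
theorem f538810 : Led Lsl_gt (LP (LK LD1_c12 LD2_c22 LD3_c57)) = (LP (LK LD1_c21 LD2_c29 LD3_c51)) :=
  Lre_g IH (LK LD1_c12 LD2_c22 LD3_c57) (LK LD1_c21 LD2_c29 LD3_c51) Lrfl Lrfl
theorem f622225 : Led Lsl_gf (LP (LK LD1_c15 LD2_c6 LD3_c15)) = (LP (LK LD1_c21 LD2_c29 LD3_c51)) :=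
  Lgr Lrot76 (Lpr_af (f538704 IH) (Lpe (f618539 IH) (Lpr_gt (f538810 IH) (Lpn (LP (LK LD1_c21 LD2_c29 LD3_c51))))))
theorem f30079 : Led Lsl_bt (LP (LK LD1_c8 LD2_c1 LD3_c20)) = (LP (LK LD1_c4 LD2_c0 LD3_c13)) :=
  Lre_b IH (LK LD1_c8 LD2_c1 LD3_c20) (LK LD1_c4 LD2_c0 LD3_c13) Lrfl Lrfl
theorem f38702 : Led Lsl_bt (LP (LK LD1_c1 LD2_c55 LD3_c46)) = (LP (LK LD1_c3 LD2_c57 LD3_c61)) :=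
  Lre_b IH (LK LD1_c1 LD2_c55 LD3_c46) (LK LD1_c3 LD2_c57 LD3_c61) Lrfl Lrfl
theorem f38729 : Led Lsl_gt (LP (LK LD1_c3 LD2_c57 LD3_c61)) = (LP (LK LD1_c7 LD2_c57 LD3_c22)) :=
  Lre_g IH (LK LD1_c3 LD2_c57 LD3_c61) (LK LD1_c7 LD2_c57 LD3_c22) Lrfl Lrfl
theorem f39967 : Led Lsl_bt (LP (LK LD1_c15 LD2_c0 LD3_c13)) = (LP (LK LD1_c7 LD2_c57 LD3_c22)) :=
  Lre_b IH (LK LD1_c15 LD2_c0 LD3_c13) (LK LD1_c7 LD2_c57 LD3_c22) Lrfl Lrfl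
theorem f622227 : Led Lsl_ct (LP (LK LD1_c15 LD2_c0 LD3_c13)) = (LP (LK LD1_c21 LD2_c29 LD3_c51)) :=
  Lgr Lrot64 (Lpr_bt (f39967 IH) (Lpe (f38729 IH) (Lpe (f38702 IH) (Lpe (K1.f37884 IH) (Lpe (K37.f16598 IH) (Lpr_cf (K37.f35702 IH) (Lpe (K37.f30054 IH) (Lpe (f30079 IH) (Lpr_ct (K37.f30083 IH) (Lpr_gf (f622225 IH) (Lpn (LP (LK LD1_c21 LD2_c29 LD3_c51)))))))))))))
theorem f39966 : Led Lsl_gt (LP (LK LD1_c7 LD2_c57 LD3_c22)) = (LP (LK LD1_c15 LD2_c0 LD3_c3)) :=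
  Lre_g IH (LK LD1_c7 LD2_c57 LD3_c22) (LK LD1_c15 LD2_c0 LD3_c3) Lrfl Lrfl
theorem f39961 : Led Lsl_ct (LP (LK LD1_c8 LD2_c49 LD3_c42)) = (LP (LK LD1_c16 LD2_c30 LD3_c22)) :=
  Lre_c IH (LK LD1_c8 LD2_c49 LD3_c42) (LK LD1_c16 LD2_c30 LD3_c22) Lrfl Lrfl
theorem f39968 : Led Lsl_gt (LP (LK LD1_c16 LD2_c30 LD3_c22)) = (LP (LK LD1_c8 LD2_c50 LD3_c6)) :=
  Lre_g IH (LK LD1_c16 LD2_c30 LD3_c22) (LK LD1_c8 LD2_c50 LD3_c6) Lrfl Lrfl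
theorem f39969 : Led Lsl_ct (LP (LK LD1_c16 LD2_c30 LD3_c46)) = (LP (LK LD1_c8 LD2_c50 LD3_c6)) :=
  Lre_c IH (LK LD1_c16 LD2_c30 LD3_c46) (LK LD1_c8 LD2_c50 LD3_c6) Lrfl Lrfl
theorem f622235 : Led Lsl_bt (LP (LK LD1_c16 LD2_c30 LD3_c46)) = (LP (LK LD1_c12 LD2_c22 LD3_c59)) :=
  Lgr Lrot130 (Lpr_ct (f39969 IH) (Lpe (f39968 IH) (Lpe (f39961 IH) (Lpe (K1.f39942 IH) (Lpe (f39966 IH) (Lpe (f39967 IH) (Lpr_ct (f622227 IH) (Lpe (f538810 IH) (Lpe (K40.f538726 IH) (Lpe (f538822 IH) (Lpn (LP (LK LD1_c12 LD2_c22 LD3_c59)))))))))))))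
theorem f39979 : Led Lsl_gt (LP (LK LD1_c4 LD2_c26 LD3_c22)) = (LP (LK LD1_c8 LD2_c49 LD3_c42)) :=
  Lre_g IH (LK LD1_c4 LD2_c26 LD3_c22) (LK LD1_c8 LD2_c49 LD3_c42) Lrfl Lrfl
theorem f39980 : Led Lsl_bt (LP (LK LD1_c8 LD2_c50 LD3_c10)) = (LP (LK LD1_c4 LD2_c26 LD3_c22)) :=
  Lre_b IH (LK LD1_c8 LD2_c50 LD3_c10) (LK LD1_c4 LD2_c26 LD3_c22) Lrfl Lrfl
theorem f644909 : Led Lsl_cf (LP (LK LD1_c9 LD2_c13 LD3_c12)) = (LP (LK LD1_c8 LD2_c50 LD3_c10)) :=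
  Lgr Lrot58 (Lpr_gf (f644905 IH) (Lpe (f558577 IH) (Lpr_bt (K40.f538673 IH) (Lpe (f538822 IH) (Lpe (f622235 IH) (Lpr_ct (f39969 IH) (Lpe (f39968 IH) (Lpe (f39961 IH) (Lpe (f39979 IH) (Lpe (f39980 IH) (Lpn (LP (LK LD1_c8 LD2_c50 LD3_c10)))))))))))))
theorem f645033 : Led Lsl_ct (LP (LK LD1_c9 LD2_c13 LD3_c12)) = (LP (LK LD1_c8 LD2_c50 LD3_c10)) :=
  Lgr Lrot59 (Lpr_cf (f644909 IH) (Lpn (LP (LK LD1_c8 LD2_c50 LD3_c10))))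
def v12667 : LQ := Led Lsl_ct (LP (LK LD1_c4 LD2_c26 LD3_c22))
theorem f696673 : Led Lsl_ct (LP (LK LD1_c4 LD2_c26 LD3_c22)) = v12667 :=
  Lrfl
theorem f700855 : Led Lsl_bt v12667 = v13060 :=
  Lgr Lrot128 (Lpe (f696673 IH) (Lpe (f39980 IH) (Lpe (f645033 IH) (Lpe (K41.f507147 IH) (Lpr_cf (f700796 IH) (Lpn v13060))))))
theorem f696674 : Led Lsl_cf (LP (LK LD1_c4 LD2_c26 LD3_c22)) = v12667 :=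
  Lgr Lrot11 (Lpr_ct (f696673 IH) (Lpn v12667))
theorem f70650 : Led Lsl_gt (LP (LK LD1_c2 LD2_c10 LD3_c25)) = (LP (LK LD1_c4 LD2_c26 LD3_c22)) :=
  Lre_g IH (LK LD1_c2 LD2_c10 LD3_c25) (LK LD1_c4 LD2_c26 LD3_c22) Lrfl Lrfl
theorem f696551 : Led Lsl_ct (LP (LK LD1_c4 LD2_c26 LD3_c20)) = (LP (LK LD1_c2 LD2_c10 LD3_c25)) :=
  Lre_c IH (LK LD1_c4 LD2_c26 LD3_c20) (LK LD1_c2 LD2_c10 LD3_c25) Lrfl Lrfl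
theorem f438092 : Led Lsl_gt (LP (LK LD1_c8 LD2_c50 LD3_c6)) = (LP (LK LD1_c4 LD2_c26 LD3_c20)) :=
  Lre_g IH (LK LD1_c8 LD2_c50 LD3_c6) (LK LD1_c4 LD2_c26 LD3_c20) Lrfl Lrfl
theorem f704960 : Led Lsl_bt v7662 = (LP (LK LD1_c8 LD2_c50 LD3_c6)) :=
  Lgr Lrot130 (Lpe (f667522 IH) (Lpe (f437690 IH) (Lpr_cf (f704945 IH) (Lpe (f704944 IH) (Lpr_gf (f700798 IH) (Lpe (f700855 IH) (Lpe (f696674 IH) (Lpe (f70650 IH) (Lpe (f696551 IH) (Lpe (f438092 IH) (Lpn (LP (LK LD1_c8 LD2_c50 LD3_c6)))))))))))))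
theorem f123024 : Led Lsl_bt (LP (LK LD1_c7 LD2_c50 LD3_c8)) = (LP (LK LD1_c3 LD2_c54 LD3_c16)) :=
  Lre_b IH (LK LD1_c7 LD2_c50 LD3_c8) (LK LD1_c3 LD2_c54 LD3_c16) Lrfl Lrfl
theorem f622239 : Led Lsl_ct (LP (LK LD1_c8 LD2_c50 LD3_c6)) = (LP (LK LD1_c16 LD2_c30 LD3_c46)) :=
  Lre_c IH (LK LD1_c8 LD2_c50 LD3_c6) (LK LD1_c16 LD2_c30 LD3_c46) Lrfl Lrfl
theorem f704962 : Led Lsl_cf (LP (LK LD1_c7 LD2_c50 LD3_c8)) = (LP (LK LD1_c12 LD2_c22 LD3_c59)) :=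
  Lgr Lrot97 (Lpr_bt (f123024 IH) (Lpr_ct (f667521 IH) (Lpr_bt (f704960 IH) (Lpr_ct (f622239 IH) (Lpr_bt (f622235 IH) (Lpn (LP (LK LD1_c12 LD2_c22 LD3_c59))))))))
theorem f704963 : Led Lsl_ct (LP (LK LD1_c12 LD2_c22 LD3_c59)) = (LP (LK LD1_c7 LD2_c50 LD3_c8)) :=
  Leop (Lpr_cf (f704962 IH) (Lpn (LP (LK LD1_c12 LD2_c22 LD3_c59))))
theorem seed_691 : LEOK LG_c (LK LD1_c12 LD2_c22 LD3_c59) :=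
  Leoe_c (LK LD1_c12 LD2_c22 LD3_c59) (f704963 IH)
theorem f704947 : Led Lsl_ff (LP (LK LD1_c4 LD2_c48 LD3_c16)) = v13801 :=
  Lgr Lrot3 (Lpr_ft (f704942 IH) (Lpn v13801))
theorem f704951 : Led Lsl_at (LP (LK LD1_c7 LD2_c50 LD3_c3)) = v13801 :=
  Lgr Lrot66 (Lpe (K6.f145302 IH) (Lpe (f148468 IH) (Lpr_ff (f704947 IH) (Lpn v13801))))
theorem f122954 : Led Lsl_gt (LP (LK LD1_c3 LD2_c54 LD3_c14)) = (LP (LK LD1_c7 LD2_c50 LD3_c1)) :=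
  Lre_g IH (LK LD1_c3 LD2_c54 LD3_c14) (LK LD1_c7 LD2_c50 LD3_c1) Lrfl Lrfl
theorem f704957 : Led Lsl_gt (LP (LK LD1_c7 LD2_c50 LD3_c1)) = v13801 :=
  Lgr Lrot46 (Lpe (f122954 IH) (Lpr_ft (K6.f145302 IH) (Lpr_at (f704951 IH) (Lpn v13801))))
theorem f123007 : Led Lsl_bt (LP (LK LD1_c14 LD2_c46 LD3_c33)) = (LP (LK LD1_c7 LD2_c50 LD3_c1)) :=
  Lre_b IH (LK LD1_c14 LD2_c46 LD3_c33) (LK LD1_c7 LD2_c50 LD3_c1) Lrfl Lrfl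
def v12665 : LQ := Led Lsl_et (LP (LK LD1_c4 LD2_c26 LD3_c18))
theorem f696654 : Led Lsl_et (LP (LK LD1_c4 LD2_c26 LD3_c18)) = v12665 :=
  Lrfl
theorem f16677 : Led Lsl_bt (LP (LK LD1_c2 LD2_c10 LD3_c24)) = (LP (LK LD1_c4 LD2_c26 LD3_c18)) :=
  Lre_b IH (LK LD1_c2 LD2_c10 LD3_c24) (LK LD1_c4 LD2_c26 LD3_c18) Lrfl Lrfl
theorem f209312 : Led Lsl_et (LP (LK LD1_c4 LD2_c26 LD3_c20)) = (LP (LK LD1_c2 LD2_c10 LD3_c24)) :=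
  Lre_e IH (LK LD1_c4 LD2_c26 LD3_c20) (LK LD1_c2 LD2_c10 LD3_c24) Lrfl Lrfl
theorem f696655 : Led Lsl_bf (LP (LK LD1_c4 LD2_c26 LD3_c20)) = v12665 :=
  Lgr Lrot96 (Lpr_et (f209312 IH) (Lpr_bt (f16677 IH) (Lpr_et (f696654 IH) (Lpn v12665))))
theorem f696656 : Led Lsl_cf (LP (LK LD1_c4 LD2_c26 LD3_c38)) = v12665 :=
  Lgr Lrot39 (Lpr_et (K32.f101269 IH) (Lpr_ct (K8.f38103 IH) (Lpr_et (f696654 IH) (Lpn v12665))))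
theorem f101253 : Led Lsl_gt (LP (LK LD1_c4 LD2_c26 LD3_c38)) = (LP (LK LD1_c8 LD2_c50 LD3_c47)) :=
  Lre_g IH (LK LD1_c4 LD2_c26 LD3_c38) (LK LD1_c8 LD2_c50 LD3_c47) Lrfl Lrfl
theorem f704966 : Led Lsl_ct (LP (LK LD1_c14 LD2_c46 LD3_c33)) = (LP (LK LD1_c8 LD2_c50 LD3_c47)) :=
  Lgr Lrot10 (Lpr_bt (f123007 IH) (Lpr_gt (f704957 IH) (Lpe (f704945 IH) (Lpr_gt (f437690 IH) (Lpr_cf (f667522 IH) (Lpr_bt (f704960 IH) (Lpr_gt (f438092 IH) (Lpr_bf (f696655 IH) (Lpe (f696656 IH) (Lpr_gt (f101253 IH) (Lpn (LP (LK LD1_c8 LD2_c50 LD3_c47)))))))))))))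
theorem f704967 : Led Lsl_ct (LP (LK LD1_c14 LD2_c46 LD3_c33)) = (LP (LK LD1_c8 LD2_c50 LD3_c47)) :=
  Leop (Lpe (f704966 IH) (Lpn (LP (LK LD1_c14 LD2_c46 LD3_c33))))
theorem seed_692 : LEOK LG_c (LK LD1_c14 LD2_c46 LD3_c33) :=
  Leoe_c (LK LD1_c14 LD2_c46 LD3_c33) (f704967 IH)
def v13845 : LQ := Led Lsl_ft (LP (LK LD1_c4 LD2_c49 LD3_c2))
theorem f705237 : Led Lsl_ft (LP (LK LD1_c4 LD2_c49 LD3_c2)) = v13845 :=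
  Lrfl
theorem f454709 : Led Lsl_gt (LP (LK LD1_c4 LD2_c49 LD3_c2)) = (LP (LK LD1_c9 LD2_c30 LD3_c41)) :=
  Lre_g IH (LK LD1_c4 LD2_c49 LD3_c2) (LK LD1_c9 LD2_c30 LD3_c41) Lrfl Lrfl
def v13843 : LQ := Led Lsl_at (LP (LK LD1_c4 LD2_c49 LD3_c2))
theorem f705209 : Led Lsl_at (LP (LK LD1_c4 LD2_c49 LD3_c2)) = v13843 :=
  Lrfl
theorem f705210 : Led Lsl_af (LP (LK LD1_c4 LD2_c49 LD3_c2)) = v13843 :=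
  Lgr Lrot0 (Lpr_at (f705209 IH) (Lpn v13843))
theorem f454708 : Led Lsl_ct (LP (LK LD1_c2 LD2_c22 LD3_c22)) = (LP (LK LD1_c4 LD2_c49 LD3_c2)) :=
  Lre_c IH (LK LD1_c2 LD2_c22 LD3_c22) (LK LD1_c4 LD2_c49 LD3_c2) Lrfl Lrfl
def v4483 : LQ := Led Lsl_at (LP (LK LD1_c2 LD2_c22 LD3_c22))
theorem f634121 : Led Lsl_at (LP (LK LD1_c2 LD2_c22 LD3_c22)) = v4483 :=
  Lrfl
theorem f634122 : Led Lsl_af (LP (LK LD1_c2 LD2_c22 LD3_c22)) = v4483 :=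
  Lgr Lrot0 (Lpr_at (f634121 IH) (Lpn v4483))
theorem f705212 : Led Lsl_cf v4483 = v13843 :=
  Lgr Lrot1 (Lpe (f634122 IH) (Lpr_ct (f454708 IH) (Lpr_at (f705209 IH) (Lpn v13843))))
theorem f387463 : Led Lsl_gt (LP (LK LD1_c2 LD2_c22 LD3_c23)) = (LP (LK LD1_c1 LD2_c8 LD3_c20)) :=
  Lre_g IH (LK LD1_c2 LD2_c22 LD3_c23) (LK LD1_c1 LD2_c8 LD3_c20) Lrfl Lrfl
theorem f634128 : Led Lsl_ft (LP (LK LD1_c2 LD2_c22 LD3_c23)) = v4483 :=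
  Lgr Lrot2 (Lpr_gt (f387463 IH) (Lpr_gt (K17.f75929 IH) (Lpr_af (f634122 IH) (Lpn v4483))))
theorem f634136 : Led Lsl_ff (LP (LK LD1_c2 LD2_c22 LD3_c23)) = v4483 :=
  Lgr Lrot3 (Lpr_ft (f634128 IH) (Lpn v4483))
theorem f634138 : Led Lsl_ct (LP (LK LD1_c2 LD2_c22 LD3_c23)) = (LP (LK LD1_c4 LD2_c49 LD3_c6)) :=
  Lre_c IH (LK LD1_c2 LD2_c22 LD3_c23) (LK LD1_c4 LD2_c49 LD3_c6) Lrfl Lrfl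
theorem f705214 : Led Lsl_ft (LP (LK LD1_c4 LD2_c49 LD3_c6)) = v13843 :=
  Lgr Lrot4 (Lpe (f634138 IH) (Lpr_ff (f634136 IH) (Lpr_cf (f705212 IH) (Lpn v13843))))
theorem f705238 : Led Lsl_af (LP (LK LD1_c4 LD2_c49 LD3_c6)) = v13845 :=
  Lgr Lrot45 (Lpr_ft (f705214 IH) (Lpe (f705210 IH) (Lpr_ft (f705237 IH) (Lpn v13845))))
theorem f705241 : Led Lsl_gt (LP (LK LD1_c9 LD2_c30 LD3_c41)) = (LP (LK LD1_c4 LD2_c49 LD3_c6)) :=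
  Lgr Lrot46 (Lpe (f454709 IH) (Lpr_ft (f705237 IH) (Lpe (f705238 IH) (Lpn (LP (LK LD1_c4 LD2_c49 LD3_c6))))))
theorem f705242 : Led Lsl_gt (LP (LK LD1_c9 LD2_c30 LD3_c41)) = (LP (LK LD1_c4 LD2_c49 LD3_c6)) :=
  Leop (Lpe (f705241 IH) (Lpn (LP (LK LD1_c9 LD2_c30 LD3_c41))))
theorem seed_693 : LEOK LG_g (LK LD1_c9 LD2_c30 LD3_c41) :=
  Leoe_g (LK LD1_c9 LD2_c30 LD3_c41) (f705242 IH)
def v13853 : LQ := Led Lsl_at (LP (LK LD1_c4 LD2_c49 LD3_c8))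
theorem f705288 : Led Lsl_at (LP (LK LD1_c4 LD2_c49 LD3_c8)) = v13853 :=
  Lrfl
theorem f634135 : Led Lsl_ft (LP (LK LD1_c9 LD2_c30 LD3_c61)) = (LP (LK LD1_c4 LD2_c49 LD3_c8)) :=
  Lre_f IH (LK LD1_c9 LD2_c30 LD3_c61) (LK LD1_c4 LD2_c49 LD3_c8) Lrfl Lrfl
theorem f643964 : Led Lsl_af (LP (LK LD1_c11 LD2_c45 LD3_c14)) = (LP (LK LD1_c6 LD2_c21 LD3_c27)) :=
  Lgr Lrot31 (Lpe (K45.f559412 IH) (Lpr_gf (f643960 IH) (Lpe (K35.f506129 IH) (Lpn (LP (LK LD1_c6 LD2_c21 LD3_c27))))))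
theorem f559461 : Led Lsl_et (LP (LK LD1_c11 LD2_c45 LD3_c14)) = (LP (LK LD1_c20 LD2_c46 LD3_c31)) :=
  Lre_e IH (LK LD1_c11 LD2_c45 LD3_c14) (LK LD1_c20 LD2_c46 LD3_c31) Lrfl Lrfl
theorem f504965 : Led Lsl_et (LP (LK LD1_c12 LD2_c16 LD3_c52)) = (LP (LK LD1_c6 LD2_c21 LD3_c27)) :=
  Lre_e IH (LK LD1_c12 LD2_c16 LD3_c52) (LK LD1_c6 LD2_c21 LD3_c27) Lrfl Lrfl
theorem f643972 : Led Lsl_at (LP (LK LD1_c20 LD2_c46 LD3_c31)) = (LP (LK LD1_c12 LD2_c16 LD3_c52)) :=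
  Lgr Lrot80 (Lpe (f559461 IH) (Lpr_af (f643964 IH) (Lpe (f504965 IH) (Lpn (LP (LK LD1_c12 LD2_c16 LD3_c52))))))
theorem f643974 : Led Lsl_af (LP (LK LD1_c20 LD2_c46 LD3_c31)) = (LP (LK LD1_c12 LD2_c16 LD3_c52)) :=
  Lgr Lrot0 (Lpr_at (f643972 IH) (Lpn (LP (LK LD1_c12 LD2_c16 LD3_c52))))
theorem f414568 : Led Lsl_gt (LP (LK LD1_c12 LD2_c29 LD3_c40)) = (LP (LK LD1_c21 LD2_c36 LD3_c29)) :=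
  Lre_g IH (LK LD1_c12 LD2_c29 LD3_c40) (LK LD1_c21 LD2_c36 LD3_c29) Lrfl Lrfl
theorem f643978 : Led Lsl_gf (LP (LK LD1_c20 LD2_c46 LD3_c31)) = (LP (LK LD1_c21 LD2_c36 LD3_c29)) :=
  Lgr Lrot76 (Lpr_af (f643974 IH) (Lpe (K32.f504960 IH) (Lpr_gt (f414568 IH) (Lpn (LP (LK LD1_c21 LD2_c36 LD3_c29))))))
theorem f643402 : Led Lsl_cf (LP (LK LD1_c12 LD2_c17 LD3_c6)) = (LP (LK LD1_c20 LD2_c46 LD3_c31)) :=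
  Lgr Lrot39 (Lpr_et (K46.f505002 IH) (Lpr_ct (K45.f643393 IH) (Lpr_et (f559461 IH) (Lpn (LP (LK LD1_c20 LD2_c46 LD3_c31))))))
theorem f636069 : Led Lsl_ct (LP (LK LD1_c17 LD2_c58 LD3_c51)) = (LP (LK LD1_c9 LD2_c48 LD3_c37)) :=
  Lre_c IH (LK LD1_c17 LD2_c58 LD3_c51) (LK LD1_c9 LD2_c48 LD3_c37) Lrfl Lrfl
theorem f642288 : Led Lsl_gf (LP (LK LD1_c9 LD2_c48 LD3_c37)) = (LP (LK LD1_c12 LD2_c29 LD3_c43)) :=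
  Lgr Lrot47 (Lpr_gt (K46.f72481 IH) (Lpe (K48.f139030 IH) (Lpr_ff (K48.f642258 IH) (Lpn (LP (LK LD1_c12 LD2_c29 LD3_c43))))))
theorem f636067 : Led Lsl_ct (LP (LK LD1_c9 LD2_c48 LD3_c37)) = (LP (LK LD1_c17 LD2_c58 LD3_c51)) :=
  Lre_c IH (LK LD1_c9 LD2_c48 LD3_c37) (LK LD1_c17 LD2_c58 LD3_c51) Lrfl Lrfl
theorem f640883 : Led Lsl_gt (LP (LK LD1_c6 LD2_c30 LD3_c2)) = K41.v4912 :=
  Lgr Lrot46 (Lpe (K45.f82938 IH) (Lpr_ft (K41.f505763 IH) (Lpr_at (K41.f640879 IH) (Lpn K41.v4912))))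
theorem f427043 : Led Lsl_dt (LP (LK LD1_c5 LD2_c58 LD3_c55)) = (LP (LK LD1_c2 LD2_c55 LD3_c52)) :=
  Lre_d IH (LK LD1_c5 LD2_c58 LD3_c55) (LK LD1_c2 LD2_c55 LD3_c52) Lrfl Lrfl
theorem f642291 : Led Lsl_gt (LP (LK LD1_c17 LD2_c58 LD3_c51)) = (LP (LK LD1_c11 LD2_c42 LD3_c17)) :=
  Lgr Lrot150 (Lpe (f636067 IH) (Lpr_gf (f642288 IH) (Lpe (K48.f506251 IH) (Lpr_gt (f640883 IH) (Lpqs (K41.f642213 IH) (Lpr_ct (K41.f428360 IH) (Lpr_gt (K41.f427041 IH) (Lpr_ct (K42.f427035 IH) (Lpe (f427043 IH) (Lpe (K40.f427044 IH) (Lpn (LP (LK LD1_c11 LD2_c42 LD3_c17)))))))))))))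
theorem f539431 : Led Lsl_et (LP (LK LD1_c11 LD2_c42 LD3_c17)) = (LP (LK LD1_c5 LD2_c58 LD3_c58)) :=
  Lre_e IH (LK LD1_c11 LD2_c42 LD3_c17) (LK LD1_c5 LD2_c58 LD3_c58) Lrfl Lrfl
theorem f539081 : Led Lsl_et (LP (LK LD1_c6 LD2_c1 LD3_c29)) = (LP (LK LD1_c11 LD2_c47 LD3_c35)) :=
  Lre_e IH (LK LD1_c6 LD2_c1 LD3_c29) (LK LD1_c11 LD2_c47 LD3_c35) Lrfl Lrfl
theorem f539557 : Led Lsl_af (LP (LK LD1_c11 LD2_c42 LD3_c17)) = (LP (LK LD1_c11 LD2_c47 LD3_c35)) :=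
  Lgr Lrot50 (Lpr_et (f539431 IH) (Lpr_at (K40.f539555 IH) (Lpr_et (f539081 IH) (Lpn (LP (LK LD1_c11 LD2_c47 LD3_c35))))))
theorem f539559 : Led Lsl_ft (LP (LK LD1_c20 LD2_c49 LD3_c47)) = (LP (LK LD1_c11 LD2_c47 LD3_c35)) :=
  Lre_f IH (LK LD1_c20 LD2_c49 LD3_c47) (LK LD1_c11 LD2_c47 LD3_c35) Lrfl Lrfl
theorem f642295 : Led Lsl_gf (LP (LK LD1_c17 LD2_c58 LD3_c51)) = (LP (LK LD1_c20 LD2_c49 LD3_c47)) :=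
  Lgr Lrot47 (Lpr_gt (f642291 IH) (Lpr_af (f539557 IH) (Lpe (f539559 IH) (Lpn (LP (LK LD1_c20 LD2_c49 LD3_c47))))))
theorem f539464 : Led Lsl_ct (LP (LK LD1_c11 LD2_c47 LD3_c37)) = (LP (LK LD1_c20 LD2_c49 LD3_c47)) :=
  Lre_c IH (LK LD1_c11 LD2_c47 LD3_c37) (LK LD1_c20 LD2_c49 LD3_c47) Lrfl Lrfl
theorem f428337 : Led Lsl_gt (LP (LK LD1_c5 LD2_c58 LD3_c55)) = (LP (LK LD1_c11 LD2_c42 LD3_c15)) :=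
  Lre_g IH (LK LD1_c5 LD2_c58 LD3_c55) (LK LD1_c11 LD2_c42 LD3_c15) Lrfl Lrfl
theorem f539472 : Led Lsl_gt (LP (LK LD1_c11 LD2_c42 LD3_c15)) = (LP (LK LD1_c11 LD2_c47 LD3_c37)) :=
  Lgr Lrot46 (Lpe (f428337 IH) (Lpr_ft (K40.f428334 IH) (Lpr_at (K40.f539459 IH) (Lpn (LP (LK LD1_c11 LD2_c47 LD3_c37))))))
theorem f428338 : Led Lsl_dt (LP (LK LD1_c11 LD2_c42 LD3_c15)) = (LP (LK LD1_c20 LD2_c42 LD3_c30)) :=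
  Lre_d IH (LK LD1_c11 LD2_c42 LD3_c15) (LK LD1_c20 LD2_c42 LD3_c30) Lrfl Lrfl
theorem f559369 : Led Lsl_et (LP (LK LD1_c4 LD2_c59 LD3_c15)) = (LP (LK LD1_c6 LD2_c0 LD3_c25)) :=
  Lgr Lrot158 (Lpr_cf (K42.f559350 IH) (Lpr_ef (K42.f76127 IH) (Lpe (f76135 IH) (Lpn (LP (LK LD1_c6 LD2_c0 LD3_c25))))))
theorem f74306 : Led Lsl_dt (LP (LK LD1_c5 LD2_c58 LD3_c52)) = (LP (LK LD1_c11 LD2_c42 LD3_c9)) :=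
  Lre_d IH (LK LD1_c5 LD2_c58 LD3_c52) (LK LD1_c11 LD2_c42 LD3_c9) Lrfl Lrfl
theorem f74307 : Led Lsl_gt (LP (LK LD1_c20 LD2_c42 LD3_c24)) = (LP (LK LD1_c11 LD2_c42 LD3_c9)) :=
  Lre_g IH (LK LD1_c20 LD2_c42 LD3_c24) (LK LD1_c11 LD2_c42 LD3_c9) Lrfl Lrfl
theorem f559435 : Led Lsl_et (LP (LK LD1_c20 LD2_c46 LD3_c31)) = (LP (LK LD1_c11 LD2_c45 LD3_c14)) :=
  Lre_e IH (LK LD1_c20 LD2_c46 LD3_c31) (LK LD1_c11 LD2_c45 LD3_c14) Lrfl Lrfl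
theorem f559457 : Led Lsl_df (LP (LK LD1_c20 LD2_c42 LD3_c24)) = (LP (LK LD1_c20 LD2_c46 LD3_c31)) :=
  Lgr Lrot170 (Lpr_gt (f74307 IH) (Lpe (f74306 IH) (Lpr_et (K42.f74305 IH) (Lpe (K4.f74296 IH) (Lpr_dt (K2.f61531 IH) (Lpr_gt (K4.f104984 IH) (Lpe (K4.f105014 IH) (Lpr_et (f559369 IH) (Lpr_gt (K45.f559412 IH) (Lpe (f559435 IH) (Lpn (LP (LK LD1_c20 LD2_c46 LD3_c31)))))))))))))
theorem f427049 : Led Lsl_dt (LP (LK LD1_c11 LD2_c42 LD3_c9)) = (LP (LK LD1_c5 LD2_c58 LD3_c52)) :=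
  Lre_d IH (LK LD1_c11 LD2_c42 LD3_c9) (LK LD1_c5 LD2_c58 LD3_c52) Lrfl Lrfl
theorem f150372 : Led Lsl_gt (LP (LK LD1_c11 LD2_c42 LD3_c16)) = (LP (LK LD1_c5 LD2_c58 LD3_c55)) :=
  Lre_g IH (LK LD1_c11 LD2_c42 LD3_c16) (LK LD1_c5 LD2_c58 LD3_c55) Lrfl Lrfl
theorem f426132 : Led Lsl_af (LP (LK LD1_c5 LD2_c58 LD3_c0)) = (LP (LK LD1_c5 LD2_c57 LD3_c44)) :=
  Lgr Lrot50 (Lpr_et (K40.f425971 IH) (Lpr_at (K40.f425994 IH) (Lpr_et (K24.f426130 IH) (Lpn (LP (LK LD1_c5 LD2_c57 LD3_c44))))))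
theorem f426144 : Led Lsl_ft (LP (LK LD1_c2 LD2_c55 LD3_c10)) = (LP (LK LD1_c5 LD2_c57 LD3_c44)) :=
  Lre_f IH (LK LD1_c2 LD2_c55 LD3_c10) (LK LD1_c5 LD2_c57 LD3_c44) Lrfl Lrfl
theorem f428130 : Led Lsl_gf (LP (LK LD1_c5 LD2_c58 LD3_c0)) = (LP (LK LD1_c5 LD2_c57 LD3_c41)) :=
  Lgr Lrot76 (Lpr_af (f426132 IH) (Lpe (f426144 IH) (Lpr_gt (K45.f428129 IH) (Lpn (LP (LK LD1_c5 LD2_c57 LD3_c41))))))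
theorem f539461 : Led Lsl_gf (LP (LK LD1_c11 LD2_c42 LD3_c16)) = (LP (LK LD1_c11 LD2_c47 LD3_c37)) :=
  Lgr Lrot47 (Lpr_gt (f150372 IH) (Lpr_af (K40.f539447 IH) (Lpe (K40.f539458 IH) (Lpn (LP (LK LD1_c11 LD2_c47 LD3_c37))))))
theorem f76133 : Led Lsl_et (LP (LK LD1_c11 LD2_c45 LD3_c12)) = (LP (LK LD1_c6 LD2_c0 LD3_c23)) :=
  Lre_e IH (LK LD1_c11 LD2_c45 LD3_c12) (LK LD1_c6 LD2_c0 LD3_c23) Lrfl Lrfl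
theorem f618460 : Led Lsl_df (LP (LK LD1_c11 LD2_c42 LD3_c16)) = (LP (LK LD1_c11 LD2_c45 LD3_c12)) :=
  Lgr Lrot168 (Lpr_gf (f539461 IH) (Lpe (K45.f539481 IH) (Lpr_et (K24.f425982 IH) (Lpr_gf (f428130 IH) (Lpr_ef (K45.f559354 IH) (Lpr_dt (K45.f76138 IH) (Lpe (K45.f501427 IH) (Lpe (K49.f558639 IH) (Lpr_gf (K46.f618458 IH) (Lpe (f76133 IH) (Lpn (LP (LK LD1_c11 LD2_c45 LD3_c12)))))))))))))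
theorem f618467 : Led Lsl_gt (LP (LK LD1_c20 LD2_c46 LD3_c27)) = (LP (LK LD1_c11 LD2_c45 LD3_c12)) :=
  Lre_g IH (LK LD1_c20 LD2_c46 LD3_c27) (LK LD1_c11 LD2_c45 LD3_c12) Lrfl Lrfl
theorem f643980 : Led Lsl_ct (LP (LK LD1_c20 LD2_c46 LD3_c27)) = (LP (LK LD1_c21 LD2_c36 LD3_c29)) :=
  Lgr Lrot8 (Lpr_gt (f618467 IH) (Lpe (f618460 IH) (Lpr_gt (f150372 IH) (Lpr_dt (f427043 IH) (Lpe (K42.f427035 IH) (Lpe (f427049 IH) (Lpe (f74307 IH) (Lpr_df (f559457 IH) (Lpr_gf (f643978 IH) (Lpn (LP (LK LD1_c21 LD2_c36 LD3_c29))))))))))))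
theorem f643984 : Led Lsl_gt (LP (LK LD1_c20 LD2_c42 LD3_c30)) = (LP (LK LD1_c20 LD2_c46 LD3_c27)) :=
  Lgr Lrot9 (Lpe (f428338 IH) (Lpr_gt (f539472 IH) (Lpr_ct (f539464 IH) (Lpe (f642295 IH) (Lpr_ct (f636069 IH) (Lpr_df (K46.f643535 IH) (Lpr_cf (f643402 IH) (Lpr_gf (f643978 IH) (Lpe (f643980 IH) (Lpn (LP (LK LD1_c20 LD2_c46 LD3_c27))))))))))))
def v1678 : LQ := Led Lsl_gf (LP (LK LD1_c1 LD2_c23 LD3_c53))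
theorem f500720 : Led Lsl_gf (LP (LK LD1_c1 LD2_c23 LD3_c53)) = v1678 :=
  Lrfl
theorem f539261 : (LP (LK LD1_c1 LD2_c20 LD3_c22)) = v1678 :=
  Lefun (Lecon (Lfl_gt (K31.f495908 IH)) (K36.f539257 IH)) (f500720 IH)
theorem f495911 : Led Lsl_et (LP (LK LD1_c2 LD2_c48 LD3_c20)) = (LP (LK LD1_c5 LD2_c45 LD3_c1)) :=
  Lre_e IH (LK LD1_c2 LD2_c48 LD3_c20) (LK LD1_c5 LD2_c45 LD3_c1) Lrfl Lrfl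
theorem f427675 : Led Lsl_gt (LP (LK LD1_c11 LD2_c20 LD3_c29)) = (LP (LK LD1_c5 LD2_c45 LD3_c1)) :=
  Lre_g IH (LK LD1_c11 LD2_c20 LD3_c29) (LK LD1_c5 LD2_c45 LD3_c1) Lrfl Lrfl
theorem f495912 : Led Lsl_et (LP (LK LD1_c20 LD2_c17 LD3_c50)) = (LP (LK LD1_c11 LD2_c20 LD3_c29)) :=
  Lre_e IH (LK LD1_c20 LD2_c17 LD3_c50) (LK LD1_c11 LD2_c20 LD3_c29) Lrfl Lrfl
theorem f643988 : Led Lsl_dt (LP (LK LD1_c20 LD2_c17 LD3_c50)) = (LP (LK LD1_c20 LD2_c46 LD3_c27)) :=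
  Lgr Lrot56 (Lpr_et (f495912 IH) (Lpr_gt (f427675 IH) (Lpe (f495911 IH) (Lpr_dt (K37.f386653 IH) (Lpqs (f539261 IH) (Lpe (f500720 IH) (Lpe (K36.f383269 IH) (Lpr_et (K40.f428271 IH) (Lpr_gt (f428337 IH) (Lpr_dt (f428338 IH) (Lpr_gt (f643984 IH) (Lpn (LP (LK LD1_c20 LD2_c46 LD3_c27))))))))))))))
theorem f387319 : Led Lsl_gt (LP (LK LD1_c17 LD2_c31 LD3_c58)) = (LP (LK LD1_c11 LD2_c20 LD3_c29)) :=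
  Lre_g IH (LK LD1_c17 LD2_c31 LD3_c58) (LK LD1_c11 LD2_c20 LD3_c29) Lrfl Lrfl
theorem f546367 : Led Lsl_et (LP (LK LD1_c9 LD2_c30 LD3_c36)) = (LP (LK LD1_c17 LD2_c31 LD3_c58)) :=
  Lre_e IH (LK LD1_c9 LD2_c30 LD3_c36) (LK LD1_c17 LD2_c31 LD3_c58) Lrfl Lrfl
theorem f643993 : Led Lsl_dt (LP (LK LD1_c9 LD2_c30 LD3_c36)) = (LP (LK LD1_c4 LD2_c49 LD3_c0)) :=
  Lre_d IH (LK LD1_c9 LD2_c30 LD3_c36) (LK LD1_c4 LD2_c49 LD3_c0) Lrfl Lrfl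
theorem f618934 : Led Lsl_dt (LP (LK LD1_c4 LD2_c49 LD3_c3)) = (LP (LK LD1_c2 LD2_c22 LD3_c22)) :=
  Lre_d IH (LK LD1_c4 LD2_c49 LD3_c3) (LK LD1_c2 LD2_c22 LD3_c22) Lrfl Lrfl
theorem f643994 : Led Lsl_gt (LP (LK LD1_c9 LD2_c30 LD3_c45)) = (LP (LK LD1_c4 LD2_c49 LD3_c3)) :=
  Lre_g IH (LK LD1_c9 LD2_c30 LD3_c45) (LK LD1_c4 LD2_c49 LD3_c3) Lrfl Lrfl
theorem f618462 : Led Lsl_dt (LP (LK LD1_c11 LD2_c42 LD3_c16)) = (LP (LK LD1_c11 LD2_c45 LD3_c12)) :=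
  Lgr Lrot42 (Lpr_df (f618460 IH) (Lpn (LP (LK LD1_c11 LD2_c45 LD3_c12))))
theorem f643995 : Led Lsl_ef (LP (LK LD1_c9 LD2_c30 LD3_c45)) = (LP (LK LD1_c11 LD2_c42 LD3_c16)) :=
  Lgr Lrot167 (Lpr_gt (f643994 IH) (Lpr_dt (f618934 IH) (Lpr_gt (K17.f75892 IH) (Lpe (f643993 IH) (Lpr_et (f546367 IH) (Lpr_gt (f387319 IH) (Lpe (f495912 IH) (Lpr_dt (f643988 IH) (Lpr_gt (f618467 IH) (Lpe (f618462 IH) (Lpn (LP (LK LD1_c11 LD2_c42 LD3_c16)))))))))))))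
theorem f644004 : Led Lsl_et (LP (LK LD1_c9 LD2_c30 LD3_c45)) = (LP (LK LD1_c11 LD2_c42 LD3_c16)) :=
  Lgr Lrot87 (Lpr_ef (f643995 IH) (Lpn (LP (LK LD1_c11 LD2_c42 LD3_c16))))
theorem f76134 : Led Lsl_dt (LP (LK LD1_c6 LD2_c0 LD3_c23)) = (LP (LK LD1_c11 LD2_c45 LD3_c11)) :=
  Lre_d IH (LK LD1_c6 LD2_c0 LD3_c23) (LK LD1_c11 LD2_c45 LD3_c11) Lrfl Lrfl
theorem f502746 : Led Lsl_dt (LP (LK LD1_c5 LD2_c58 LD3_c27)) = (LP (LK LD1_c6 LD2_c0 LD3_c24)) :=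
  Lre_d IH (LK LD1_c5 LD2_c58 LD3_c27) (LK LD1_c6 LD2_c0 LD3_c24) Lrfl Lrfl
theorem f641298 : Led Lsl_ft (LP (LK LD1_c11 LD2_c41 LD3_c29)) = (LP (LK LD1_c5 LD2_c58 LD3_c27)) :=
  Lre_f IH (LK LD1_c11 LD2_c41 LD3_c29) (LK LD1_c5 LD2_c58 LD3_c27) Lrfl Lrfl
theorem f643505 : Led Lsl_dt (LP (LK LD1_c9 LD2_c29 LD3_c54)) = (LP (LK LD1_c11 LD2_c41 LD3_c29)) :=
  Lgr Lrot60 (Lpr_ff (K46.f643501 IH) (Lpe (f502746 IH) (Lpe (f641298 IH) (Lpn (LP (LK LD1_c11 LD2_c41 LD3_c29))))))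
theorem f75034 : Led Lsl_dt (LP (LK LD1_c11 LD2_c45 LD3_c11)) = (LP (LK LD1_c6 LD2_c0 LD3_c23)) :=
  Lre_d IH (LK LD1_c11 LD2_c45 LD3_c11) (LK LD1_c6 LD2_c0 LD3_c23) Lrfl Lrfl
theorem f643507 : Led Lsl_af (LP (LK LD1_c11 LD2_c45 LD3_c11)) = (LP (LK LD1_c11 LD2_c41 LD3_c29)) :=
  Lgr Lrot117 (Lpr_dt (f75034 IH) (Lpe (K46.f643482 IH) (Lpr_dt (f643505 IH) (Lpn (LP (LK LD1_c11 LD2_c41 LD3_c29))))))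
theorem f643423 : Led Lsl_bt (LP (LK LD1_c11 LD2_c48 LD3_c54)) = (LP (LK LD1_c11 LD2_c41 LD3_c29)) :=
  Lgr Lrot35 (Lpr_ff (K45.f614922 IH) (Lpr_bf (K45.f643415 IH) (Lpe (f641298 IH) (Lpn (LP (LK LD1_c11 LD2_c41 LD3_c29))))))
theorem f614904 : Led Lsl_af (LP (LK LD1_c11 LD2_c48 LD3_c54)) = (LP (LK LD1_c6 LD2_c2 LD3_c28)) :=
  Lgr Lrot0 (Lpr_at (K45.f614902 IH) (Lpn (LP (LK LD1_c6 LD2_c2 LD3_c28))))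
theorem f437533 : Led Lsl_af (LP (LK LD1_c5 LD2_c55 LD3_c15)) = (LP (LK LD1_c6 LD2_c2 LD3_c41)) :=
  Lgr Lrot0 (Lpr_at (K35.f437531 IH) (Lpn (LP (LK LD1_c6 LD2_c2 LD3_c41))))
theorem f643511 : Led Lsl_bt (LP (LK LD1_c11 LD2_c45 LD3_c11)) = (LP (LK LD1_c6 LD2_c2 LD3_c41)) :=
  Lgr Lrot62 (Lpr_af (f643507 IH) (Lpe (f643423 IH) (Lpr_af (f614904 IH) (Lpr_bf (K45.f614596 IH) (Lpr_af (f437533 IH) (Lpn (LP (LK LD1_c6 LD2_c2 LD3_c41))))))))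
theorem f22973 : Led Lsl_et (LP (LK LD1_c0 LD2_c19 LD3_c54)) = (LP (LK LD1_c0 LD2_c8 LD3_c55)) :=
  Lre_e IH (LK LD1_c0 LD2_c19 LD3_c54) (LK LD1_c0 LD2_c8 LD3_c55) Lrfl Lrfl
theorem f22975 : Led Lsl_et (LP (LK LD1_c0 LD2_c38 LD3_c56)) = (LP (LK LD1_c0 LD2_c17 LD3_c17)) :=
  Lre_e IH (LK LD1_c0 LD2_c38 LD3_c56) (LK LD1_c0 LD2_c17 LD3_c17) Lrfl Lrfl
theorem f508139 : Led Lsl_et (LP (LK LD1_c6 LD2_c2 LD3_c41)) = (LP (LK LD1_c5 LD2_c55 LD3_c19)) :=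
  Lgr Lrot121 (Lpr_dt (K29.f22978 IH) (Lpe (K29.f22977 IH) (Lpe (K11.f22976 IH) (Lpr_et (f22975 IH) (Lpe (K1.f22974 IH) (Lpe (f22973 IH) (Lpr_dt (K17.f22972 IH) (Lpe (K24.f22954 IH) (Lpe (K0.f22942 IH) (Lpr_gf (K49.f508137 IH) (Lpn (LP (LK LD1_c5 LD2_c55 LD3_c19)))))))))))))
theorem f417053 : Led Lsl_bt (LP (LK LD1_c5 LD2_c55 LD3_c19)) = (LP (LK LD1_c11 LD2_c35 LD3_c61)) :=
  Lre_b IH (LK LD1_c5 LD2_c55 LD3_c19) (LK LD1_c11 LD2_c35 LD3_c61) Lrfl Lrfl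
theorem f643515 : Led Lsl_ef (LP (LK LD1_c11 LD2_c45 LD3_c11)) = (LP (LK LD1_c11 LD2_c35 LD3_c61)) :=
  Lgr Lrot29 (Lpr_bt (f643511 IH) (Lpr_et (f508139 IH) (Lpr_bt (f417053 IH) (Lpn (LP (LK LD1_c11 LD2_c35 LD3_c61))))))
theorem f643517 : Led Lsl_et (LP (LK LD1_c11 LD2_c45 LD3_c11)) = (LP (LK LD1_c11 LD2_c35 LD3_c61)) :=
  Lgr Lrot87 (Lpr_ef (f643515 IH) (Lpn (LP (LK LD1_c11 LD2_c35 LD3_c61))))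
theorem f644013 : Led Lsl_df (LP (LK LD1_c9 LD2_c30 LD3_c45)) = (LP (LK LD1_c11 LD2_c35 LD3_c61)) :=
  Lgr Lrot70 (Lpr_et (f644004 IH) (Lpr_dt (f618462 IH) (Lpr_et (f76133 IH) (Lpr_dt (f76134 IH) (Lpr_et (f643517 IH) (Lpn (LP (LK LD1_c11 LD2_c35 LD3_c61))))))))
theorem f643142 : Led Lsl_gt (LP (LK LD1_c9 LD2_c13 LD3_c36)) = (LP (LK LD1_c17 LD2_c7 LD3_c57)) :=
  Lre_g IH (LK LD1_c9 LD2_c13 LD3_c36) (LK LD1_c17 LD2_c7 LD3_c57) Lrfl Lrfl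
theorem f502633 : Led Lsl_gt (LP (LK LD1_c5 LD2_c59 LD3_c61)) = (LP (LK LD1_c9 LD2_c30 LD3_c24)) :=
  Lgr Lrot46 (Lpe (K41.f75835 IH) (Lpr_ft (K40.f75834 IH) (Lpr_at (K40.f502597 IH) (Lpn (LP (LK LD1_c9 LD2_c30 LD3_c24))))))
theorem f616267 : Led Lsl_et (LP (LK LD1_c11 LD2_c17 LD3_c46)) = (LP (LK LD1_c5 LD2_c43 LD3_c51)) :=
  Lre_e IH (LK LD1_c11 LD2_c17 LD3_c46) (LK LD1_c5 LD2_c43 LD3_c51) Lrfl Lrfl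
theorem f616269 : Led Lsl_et (LP (LK LD1_c11 LD2_c44 LD3_c30)) = (LP (LK LD1_c11 LD2_c20 LD3_c2)) :=
  Lgr Lrot71 (Lpe (K41.f75836 IH) (Lpr_ef (K41.f616261 IH) (Lpe (K46.f616266 IH) (Lpe (f616267 IH) (Lpe (K41.f616268 IH) (Lpn (LP (LK LD1_c11 LD2_c20 LD3_c2))))))))
theorem f616285 : Led Lsl_et (LP (LK LD1_c11 LD2_c20 LD3_c4)) = (LP (LK LD1_c5 LD2_c44 LD3_c54)) :=
  Lre_e IH (LK LD1_c11 LD2_c20 LD3_c4) (LK LD1_c5 LD2_c44 LD3_c54) Lrfl Lrfl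
theorem f643155 : Led Lsl_df (LP (LK LD1_c17 LD2_c7 LD3_c57)) = (LP (LK LD1_c11 LD2_c20 LD3_c4)) :=
  Lgr Lrot132 (Lpe (f643142 IH) (Lpe (K45.f507818 IH) (Lpqs (K42.f643138 IH) (Lpe (f634116 IH) (Lpr_ef (K37.f501927 IH) (Lpr_dt (K40.f501924 IH) (Lpe (f502633 IH) (Lpe (K41.f502636 IH) (Lpr_et (f616269 IH) (Lpe (f414694 IH) (Lpe (f616285 IH) (Lpn (LP (LK LD1_c11 LD2_c20 LD3_c4))))))))))))))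
theorem f502748 : Led Lsl_et (LP (LK LD1_c5 LD2_c44 LD3_c54)) = (LP (LK LD1_c11 LD2_c20 LD3_c4)) :=
  Lre_e IH (LK LD1_c5 LD2_c44 LD3_c54) (LK LD1_c11 LD2_c20 LD3_c4) Lrfl Lrfl
theorem f414693 : Led Lsl_dt (LP (LK LD1_c2 LD2_c48 LD3_c15)) = (LP (LK LD1_c5 LD2_c44 LD3_c54)) :=
  Lre_d IH (LK LD1_c2 LD2_c48 LD3_c15) (LK LD1_c5 LD2_c44 LD3_c54) Lrfl Lrfl
theorem f383350 : Led Lsl_et (LP (LK LD1_c5 LD2_c44 LD3_c55)) = (LP (LK LD1_c2 LD2_c48 LD3_c15)) :=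
  Lre_e IH (LK LD1_c5 LD2_c44 LD3_c55) (LK LD1_c2 LD2_c48 LD3_c15) Lrfl Lrfl
theorem f618140 : Led Lsl_dt (LP (LK LD1_c11 LD2_c20 LD3_c6)) = (LP (LK LD1_c5 LD2_c44 LD3_c55)) :=
  Lre_d IH (LK LD1_c11 LD2_c20 LD3_c6) (LK LD1_c5 LD2_c44 LD3_c55) Lrfl Lrfl
theorem f643159 : Led Lsl_et (LP (LK LD1_c17 LD2_c7 LD3_c57)) = (LP (LK LD1_c11 LD2_c20 LD3_c6)) :=
  Lgr Lrot71 (Lpr_df (f643155 IH) (Lpe (f502748 IH) (Lpe (f414693 IH) (Lpe (f383350 IH) (Lpe (f618140 IH) (Lpn (LP (LK LD1_c11 LD2_c20 LD3_c6))))))))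
theorem f643157 : Led Lsl_dt (LP (LK LD1_c17 LD2_c7 LD3_c57)) = (LP (LK LD1_c11 LD2_c20 LD3_c4)) :=
  Lgr Lrot42 (Lpr_df (f643155 IH) (Lpn (LP (LK LD1_c11 LD2_c20 LD3_c4))))
theorem f546437 : Led Lsl_ff (LP (LK LD1_c9 LD2_c17 LD3_c47)) = (LP (LK LD1_c9 LD2_c10 LD3_c15)) :=
  Lgr Lrot23 (Lpr_ct (K43.f161053 IH) (Lpr_ft (K38.f546428 IH) (Lpr_ct (K42.f546436 IH) (Lpn (LP (LK LD1_c9 LD2_c10 LD3_c15))))))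
theorem f560031 : Led Lsl_at (LP (LK LD1_c9 LD2_c17 LD3_c47)) = (LP (LK LD1_c5 LD2_c13 LD3_c28)) :=
  Lgr Lrot26 (Lpr_ff (f546437 IH) (Lpr_gt (K42.f560027 IH) (Lpr_gt (K36.f185164 IH) (Lpn (LP (LK LD1_c5 LD2_c13 LD3_c28))))))
theorem f161052 : Led Lsl_ct (LP (LK LD1_c5 LD2_c56 LD3_c39)) = (LP (LK LD1_c11 LD2_c38 LD3_c39)) :=
  Lre_c IH (LK LD1_c5 LD2_c56 LD3_c39) (LK LD1_c11 LD2_c38 LD3_c39) Lrfl Lrfl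
theorem f161054 : Led Lsl_et (LP (LK LD1_c11 LD2_c38 LD3_c39)) = (LP (LK LD1_c9 LD2_c17 LD3_c47)) :=
  Lgr Lrot158 (Lpe (f161052 IH) (Lpr_ef (K42.f161047 IH) (Lpe (K43.f161053 IH) (Lpn (LP (LK LD1_c9 LD2_c17 LD3_c47))))))
theorem f185729 : Led Lsl_et (LP (LK LD1_c5 LD2_c13 LD3_c28)) = (LP (LK LD1_c10 LD2_c17 LD3_c13)) :=
  Lre_e IH (LK LD1_c5 LD2_c13 LD3_c28) (LK LD1_c10 LD2_c17 LD3_c13) Lrfl Lrfl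
theorem f560064 : Led Lsl_af (LP (LK LD1_c11 LD2_c38 LD3_c39)) = (LP (LK LD1_c10 LD2_c17 LD3_c13)) :=
  Lgr Lrot50 (Lpr_et (f161054 IH) (Lpr_at (f560031 IH) (Lpr_et (f185729 IH) (Lpn (LP (LK LD1_c10 LD2_c17 LD3_c13))))))
theorem f161066 : Led Lsl_ft (LP (LK LD1_c11 LD2_c38 LD3_c39)) = (LP (LK LD1_c20 LD2_c37 LD3_c50)) :=
  Lre_f IH (LK LD1_c11 LD2_c38 LD3_c39) (LK LD1_c20 LD2_c37 LD3_c50) Lrfl Lrfl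
theorem f185732 : Led Lsl_ft (LP (LK LD1_c18 LD2_c42 LD3_c9)) = (LP (LK LD1_c10 LD2_c17 LD3_c13)) :=
  Lre_f IH (LK LD1_c18 LD2_c42 LD3_c9) (LK LD1_c10 LD2_c17 LD3_c13) Lrfl Lrfl
theorem f560072 : Led Lsl_at (LP (LK LD1_c20 LD2_c37 LD3_c50)) = (LP (LK LD1_c18 LD2_c42 LD3_c9)) :=
  Lgr Lrot66 (Lpe (f161066 IH) (Lpr_af (f560064 IH) (Lpe (f185732 IH) (Lpn (LP (LK LD1_c18 LD2_c42 LD3_c9))))))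
theorem f499200 : Led Lsl_ct (LP (LK LD1_c11 LD2_c38 LD3_c40)) = (LP (LK LD1_c20 LD2_c37 LD3_c50)) :=
  Lre_c IH (LK LD1_c11 LD2_c38 LD3_c40) (LK LD1_c20 LD2_c37 LD3_c50) Lrfl Lrfl
theorem f185718 : Led Lsl_ct (LP (LK LD1_c18 LD2_c42 LD3_c9)) = (LP (LK LD1_c10 LD2_c17 LD3_c15)) :=
  Lre_c IH (LK LD1_c18 LD2_c42 LD3_c9) (LK LD1_c10 LD2_c17 LD3_c15) Lrfl Lrfl
theorem f560076 : Led Lsl_af (LP (LK LD1_c11 LD2_c38 LD3_c40)) = (LP (LK LD1_c10 LD2_c17 LD3_c15)) :=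
  Lgr Lrot68 (Lpr_ct (f499200 IH) (Lpr_at (f560072 IH) (Lpr_ct (f185718 IH) (Lpn (LP (LK LD1_c10 LD2_c17 LD3_c15))))))
theorem f496809 : Led Lsl_dt (LP (LK LD1_c11 LD2_c38 LD3_c40)) = (LP (LK LD1_c5 LD2_c56 LD3_c40)) :=
  Lre_d IH (LK LD1_c11 LD2_c38 LD3_c40) (LK LD1_c5 LD2_c56 LD3_c40) Lrfl Lrfl
theorem f560082 : Led Lsl_dt (LP (LK LD1_c6 LD2_c25 LD3_c11)) = (LP (LK LD1_c10 LD2_c17 LD3_c15)) :=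
  Lgr Lrot44 (Lpe (K32.f496796 IH) (Lpe (f496809 IH) (Lpr_af (f560076 IH) (Lpn (LP (LK LD1_c10 LD2_c17 LD3_c15))))))
theorem f302394 : Led Lsl_ft (LP (LK LD1_c10 LD2_c17 LD3_c15)) = (LP (LK LD1_c5 LD2_c13 LD3_c29)) :=
  Lre_f IH (LK LD1_c10 LD2_c17 LD3_c15) (LK LD1_c5 LD2_c13 LD3_c29) Lrfl Lrfl
theorem f560090 : Led Lsl_df (LP (LK LD1_c3 LD2_c10 LD3_c14)) = (LP (LK LD1_c5 LD2_c13 LD3_c29)) :=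
  Lgr Lrot78 (Lpr_ft (K32.f496767 IH) (Lpr_dt (f560082 IH) (Lpr_ft (f302394 IH) (Lpn (LP (LK LD1_c5 LD2_c13 LD3_c29))))))
theorem f560094 : Led Lsl_dt (LP (LK LD1_c3 LD2_c10 LD3_c14)) = (LP (LK LD1_c5 LD2_c13 LD3_c29)) :=
  Lgr Lrot42 (Lpr_df (f560090 IH) (Lpn (LP (LK LD1_c5 LD2_c13 LD3_c29))))
theorem f20515 : Led Lsl_bt (LP (LK LD1_c5 LD2_c13 LD3_c29)) = (LP (LK LD1_c2 LD2_c33 LD3_c37)) :=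
  Lre_b IH (LK LD1_c5 LD2_c13 LD3_c29) (LK LD1_c2 LD2_c33 LD3_c37) Lrfl Lrfl
theorem f560099 : Led Lsl_bf (LP (LK LD1_c3 LD2_c10 LD3_c14)) = (LP (LK LD1_c4 LD2_c34 LD3_c41)) :=
  Lgr Lrot93 (Lpr_dt (f560094 IH) (Lpr_bt (f20515 IH) (Lpr_dt (f20506 IH) (Lpn (LP (LK LD1_c4 LD2_c34 LD3_c41))))))
theorem f302469 : Led Lsl_af (LP (LK LD1_c4 LD2_c34 LD3_c41)) = (LP (LK LD1_c2 LD2_c51 LD3_c35)) :=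
  Lgr Lrot50 (Lpr_et (K35.f20512 IH) (Lpr_at (K18.f302462 IH) (Lpr_et (K11.f22142 IH) (Lpn (LP (LK LD1_c2 LD2_c51 LD3_c35))))))
theorem f22148 : Led Lsl_bt (LP (LK LD1_c5 LD2_c50 LD3_c41)) = (LP (LK LD1_c2 LD2_c51 LD3_c35)) :=
  Lre_b IH (LK LD1_c5 LD2_c50 LD3_c41) (LK LD1_c2 LD2_c51 LD3_c35) Lrfl Lrfl
theorem f560101 : Led Lsl_at (LP (LK LD1_c5 LD2_c56 LD3_c34)) = (LP (LK LD1_c5 LD2_c50 LD3_c41)) :=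
  Lgr Lrot67 (Lpe (K32.f157102 IH) (Lpr_af (K32.f496789 IH) (Lpr_bf (f560099 IH) (Lpr_af (f302469 IH) (Lpe (f22148 IH) (Lpn (LP (LK LD1_c5 LD2_c50 LD3_c41))))))))
theorem f22194 : Led Lsl_ft (LP (LK LD1_c5 LD2_c50 LD3_c41)) = (LP (LK LD1_c11 LD2_c29 LD3_c8)) :=
  Lre_f IH (LK LD1_c5 LD2_c50 LD3_c41) (LK LD1_c11 LD2_c29 LD3_c8) Lrfl Lrfl
theorem f560107 : Led Lsl_af (LP (LK LD1_c11 LD2_c38 LD3_c27)) = (LP (LK LD1_c11 LD2_c29 LD3_c8)) :=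
  Lgr Lrot45 (Lpr_ft (K32.f157101 IH) (Lpr_at (f560101 IH) (Lpr_ft (f22194 IH) (Lpn (LP (LK LD1_c11 LD2_c29 LD3_c8))))))
theorem f425902 : Led Lsl_et (LP (LK LD1_c2 LD2_c55 LD3_c8)) = (LP (LK LD1_c5 LD2_c57 LD3_c37)) :=
  Lre_e IH (LK LD1_c2 LD2_c55 LD3_c8) (LK LD1_c5 LD2_c57 LD3_c37) Lrfl Lrfl
theorem f496714 : Led Lsl_af (LP (LK LD1_c5 LD2_c57 LD3_c56)) = (LP (LK LD1_c5 LD2_c57 LD3_c37)) :=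
  Lgr Lrot50 (Lpr_et (K32.f150316 IH) (Lpr_at (K36.f496708 IH) (Lpr_et (f425902 IH) (Lpn (LP (LK LD1_c5 LD2_c57 LD3_c37))))))
theorem f425901 : Led Lsl_ft (LP (LK LD1_c11 LD2_c40 LD3_c13)) = (LP (LK LD1_c5 LD2_c57 LD3_c37)) :=
  Lre_f IH (LK LD1_c11 LD2_c40 LD3_c13) (LK LD1_c5 LD2_c57 LD3_c37) Lrfl Lrfl
theorem f496720 : Led Lsl_at (LP (LK LD1_c11 LD2_c40 LD3_c37)) = (LP (LK LD1_c11 LD2_c40 LD3_c13)) :=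
  Lgr Lrot66 (Lpe (K32.f150320 IH) (Lpr_af (f496714 IH) (Lpe (f425901 IH) (Lpn (LP (LK LD1_c11 LD2_c40 LD3_c13))))))
theorem f560113 : Led Lsl_et (LP (LK LD1_c11 LD2_c40 LD3_c13)) = (LP (LK LD1_c11 LD2_c29 LD3_c8)) :=
  Lgr Lrot123 (Lpe (f496720 IH) (Lpr_ef (K32.f496732 IH) (Lpr_af (f560107 IH) (Lpn (LP (LK LD1_c11 LD2_c29 LD3_c8))))))
theorem f560117 : Led Lsl_ef (LP (LK LD1_c11 LD2_c40 LD3_c13)) = (LP (LK LD1_c11 LD2_c29 LD3_c8)) :=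
  Lgr Lrot88 (Lpr_et (f560113 IH) (Lpn (LP (LK LD1_c11 LD2_c29 LD3_c8))))
theorem f22172 : Led Lsl_bt (LP (LK LD1_c5 LD2_c50 LD3_c47)) = (LP (LK LD1_c11 LD2_c29 LD3_c8)) :=
  Lre_b IH (LK LD1_c5 LD2_c50 LD3_c47) (LK LD1_c11 LD2_c29 LD3_c8) Lrfl Lrfl
theorem f22163 : Led Lsl_et (LP (LK LD1_c2 LD2_c51 LD3_c35)) = (LP (LK LD1_c1 LD2_c21 LD3_c50)) :=
  Lre_e IH (LK LD1_c2 LD2_c51 LD3_c35) (LK LD1_c1 LD2_c21 LD3_c50) Lrfl Lrfl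
theorem f22154 : Led Lsl_ft (LP (LK LD1_c5 LD2_c50 LD3_c47)) = (LP (LK LD1_c2 LD2_c51 LD3_c35)) :=
  Lre_f IH (LK LD1_c5 LD2_c50 LD3_c47) (LK LD1_c2 LD2_c51 LD3_c35) Lrfl Lrfl
theorem f302476 : Led Lsl_et (LP (LK LD1_c9 LD2_c6 LD3_c11)) = (LP (LK LD1_c5 LD2_c50 LD3_c47)) :=
  Lgr Lrot69 (Lpe (f242700 IH) (Lpe (K17.f177094 IH) (Lpr_ff (K18.f302471 IH) (Lpe (f22163 IH) (Lpe (f22154 IH) (Lpn (LP (LK LD1_c5 LD2_c50 LD3_c47))))))))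
theorem f560119 : Led Lsl_bt (LP (LK LD1_c11 LD2_c40 LD3_c13)) = (LP (LK LD1_c9 LD2_c6 LD3_c11)) :=
  Lgr Lrot119 (Lpr_ef (f560117 IH) (Lpe (f22172 IH) (Lpe (f302476 IH) (Lpn (LP (LK LD1_c9 LD2_c6 LD3_c11))))))
theorem f425894 : Led Lsl_ft (LP (LK LD1_c5 LD2_c57 LD3_c37)) = (LP (LK LD1_c11 LD2_c40 LD3_c13)) :=
  Lre_f IH (LK LD1_c5 LD2_c57 LD3_c37) (LK LD1_c11 LD2_c40 LD3_c13) Lrfl Lrfl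
theorem f560125 : Led Lsl_bf (LP (LK LD1_c5 LD2_c57 LD3_c37)) = (LP (LK LD1_c4 LD2_c34 LD3_c42)) :=
  Lgr Lrot61 (Lpr_ft (f425894 IH) (Lpr_bt (f560119 IH) (Lpr_ft (K17.f242696 IH) (Lpn (LP (LK LD1_c4 LD2_c34 LD3_c42))))))
theorem f242708 : Led Lsl_bt (LP (LK LD1_c5 LD2_c37 LD3_c22)) = (LP (LK LD1_c2 LD2_c44 LD3_c39)) :=
  Lre_b IH (LK LD1_c5 LD2_c37 LD3_c22) (LK LD1_c2 LD2_c44 LD3_c39) Lrfl Lrfl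
theorem f560131 : Led Lsl_dt (LP (LK LD1_c5 LD2_c57 LD3_c37)) = (LP (LK LD1_c5 LD2_c37 LD3_c22)) :=
  Lgr Lrot79 (Lpr_bf (f560125 IH) (Lpr_df (f242694 IH) (Lpe (f242708 IH) (Lpn (LP (LK LD1_c5 LD2_c37 LD3_c22))))))
theorem f496716 : Led Lsl_at (LP (LK LD1_c5 LD2_c57 LD3_c56)) = (LP (LK LD1_c5 LD2_c57 LD3_c37)) :=
  Lgr Lrot100 (Lpr_af (f496714 IH) (Lpn (LP (LK LD1_c5 LD2_c57 LD3_c37))))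
theorem f618022 : Led Lsl_df (LP (LK LD1_c5 LD2_c57 LD3_c56)) = (LP (LK LD1_c5 LD2_c43 LD3_c27)) :=
  Lgr Lrot18 (Lpr_at (f496716 IH) (Lpr_dt (f560131 IH) (Lpe (K27.f381262 IH) (Lpn (LP (LK LD1_c5 LD2_c43 LD3_c27))))))
theorem f381259 : Led Lsl_et (LP (LK LD1_c5 LD2_c43 LD3_c27)) = (LP (LK LD1_c2 LD2_c47 LD3_c45)) :=
  Lre_e IH (LK LD1_c5 LD2_c43 LD3_c27) (LK LD1_c2 LD2_c47 LD3_c45) Lrfl Lrfl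
theorem f381200 : Led Lsl_dt (LP (LK LD1_c1 LD2_c20 LD3_c14)) = (LP (LK LD1_c0 LD2_c37 LD3_c4)) :=
  Lre_d IH (LK LD1_c1 LD2_c20 LD3_c14) (LK LD1_c0 LD2_c37 LD3_c4) Lrfl Lrfl
theorem f452570 : Led Lsl_et (LP (LK LD1_c0 LD2_c37 LD3_c6)) = (LP (LK LD1_c1 LD2_c20 LD3_c20)) :=
  Lre_e IH (LK LD1_c0 LD2_c37 LD3_c6) (LK LD1_c1 LD2_c20 LD3_c20) Lrfl Lrfl
theorem f383351 : Led Lsl_dt (LP (LK LD1_c5 LD2_c44 LD3_c55)) = (LP (LK LD1_c11 LD2_c20 LD3_c6)) :=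
  Lre_d IH (LK LD1_c5 LD2_c44 LD3_c55) (LK LD1_c11 LD2_c20 LD3_c6) Lrfl Lrfl
theorem f618135 : Led Lsl_gf (LP (LK LD1_c5 LD2_c57 LD3_c56)) = (LP (LK LD1_c11 LD2_c20 LD3_c6)) :=
  Lgr Lrot145 (Lpr_df (f618022 IH) (Lpr_et (f381259 IH) (Lpr_gt (K36.f381199 IH) (Lpr_dt (f381200 IH) (Lpr_gt (K27.f75552 IH) (Lpe (K27.f168866 IH) (Lpr_et (f452570 IH) (Lpr_gt (K41.f444613 IH) (Lpe (f383350 IH) (Lpr_dt (f383351 IH) (Lpn (LP (LK LD1_c11 LD2_c20 LD3_c6)))))))))))))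
theorem f500652 : Led Lsl_ft (LP (LK LD1_c2 LD2_c55 LD3_c8)) = K32.v1667 :=
  Lgr Lrot48 (Lpr_ff (K36.f500650 IH) (Lpn K32.v1667))
theorem f500653 : Led Lsl_af (LP (LK LD1_c2 LD2_c54 LD3_c36)) = K32.v1667 :=
  Lgr Lrot45 (Lpe (K32.f496700 IH) (Lpr_at (K36.f496708 IH) (Lpr_ft (f500652 IH) (Lpn K32.v1667))))
theorem f26874 : Led Lsl_bt (LP (LK LD1_c2 LD2_c17 LD3_c44)) = (LP (LK LD1_c1 LD2_c5 LD3_c48)) :=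
  Lre_b IH (LK LD1_c2 LD2_c17 LD3_c44) (LK LD1_c1 LD2_c5 LD3_c48) Lrfl Lrfl
theorem f161034 : Led Lsl_dt (LP (LK LD1_c2 LD2_c54 LD3_c36)) = (LP (LK LD1_c2 LD2_c17 LD3_c44)) :=
  Lgr Lrot79 (Lpe (K24.f157049 IH) (Lpr_df (K8.f161032 IH) (Lpe (f26874 IH) (Lpn (LP (LK LD1_c2 LD2_c17 LD3_c44))))))
theorem f502777 : Led Lsl_at (LP (LK LD1_c2 LD2_c17 LD3_c44)) = K32.v1768 :=
  Lgr Lrot51 (Lpe (f161034 IH) (Lpr_af (f500653 IH) (Lpr_df (K36.f502771 IH) (Lpn K32.v1768))))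
theorem f496704 : Led Lsl_ft (LP (LK LD1_c1 LD2_c31 LD3_c17)) = (LP (LK LD1_c2 LD2_c17 LD3_c44)) :=
  Lgr Lrot54 (Lpr_df (K32.f150337 IH) (Lpr_ff (K32.f496700 IH) (Lpr_df (K32.f161068 IH) (Lpn (LP (LK LD1_c2 LD2_c17 LD3_c44))))))
theorem f502795 : Led Lsl_gt (LP (LK LD1_c1 LD2_c31 LD3_c17)) = K40.v1770 :=
  Lgr Lrot5 (Lpr_ft (f496704 IH) (Lpr_at (f502777 IH) (Lpr_gf (K40.f502794 IH) (Lpn K40.v1770))))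
theorem f643163 : Led Lsl_gf (LP (LK LD1_c11 LD2_c20 LD3_c4)) = (LP (LK LD1_c11 LD2_c45 LD3_c11)) :=
  Lgr Lrot134 (Lpe (f643157 IH) (Lpr_et (f643159 IH) (Lpe (f618135 IH) (Lpe (K32.f150339 IH) (Lpe (K32.f150337 IH) (Lpr_gt (f502795 IH) (Lpqs (K40.f537856 IH) (Lpe (K44.f76130 IH) (Lpr_et (K42.f75047 IH) (Lpr_gt (K46.f75033 IH) (Lpr_dt (f76134 IH) (Lpn (LP (LK LD1_c11 LD2_c45 LD3_c11))))))))))))))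
theorem f634131 : Led Lsl_dt (LP (LK LD1_c2 LD2_c22 LD3_c23)) = (LP (LK LD1_c4 LD2_c49 LD3_c7)) :=
  Lre_d IH (LK LD1_c2 LD2_c22 LD3_c23) (LK LD1_c4 LD2_c49 LD3_c7) Lrfl Lrfl
theorem f644019 : Led Lsl_gf (LP (LK LD1_c9 LD2_c30 LD3_c45)) = (LP (LK LD1_c4 LD2_c49 LD3_c7)) :=
  Lgr Lrot134 (Lpr_df (f644013 IH) (Lpe (f643515 IH) (Lpe (f643163 IH) (Lpe (f502748 IH) (Lpr_dt (f414695 IH) (Lpr_gt (f140497 IH) (Lpe (K5.f75883 IH) (Lpr_et (f75891 IH) (Lpr_gt (f634145 IH) (Lpr_dt (f634131 IH) (Lpn (LP (LK LD1_c4 LD2_c49 LD3_c7)))))))))))))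
theorem f634139 : Led Lsl_et (LP (LK LD1_c2 LD2_c22 LD3_c23)) = (LP (LK LD1_c4 LD2_c49 LD3_c8)) :=
  Lre_e IH (LK LD1_c2 LD2_c22 LD3_c23) (LK LD1_c4 LD2_c49 LD3_c8) Lrfl Lrfl
theorem f643323 : Led Lsl_gt (LP (LK LD1_c17 LD2_c7 LD3_c57)) = (LP (LK LD1_c9 LD2_c30 LD3_c7)) :=
  Lgr Lrot46 (Lpe (f643142 IH) (Lpe (K45.f643309 IH) (Lpr_at (K45.f643319 IH) (Lpn (LP (LK LD1_c9 LD2_c30 LD3_c7))))))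
theorem f56919 : Led Lsl_dt (LP (LK LD1_c4 LD2_c48 LD3_c48)) = (LP (LK LD1_c9 LD2_c30 LD3_c7)) :=
  Lre_d IH (LK LD1_c4 LD2_c48 LD3_c48) (LK LD1_c9 LD2_c30 LD3_c7) Lrfl Lrfl
theorem f452979 : Led Lsl_et (LP (LK LD1_c4 LD2_c48 LD3_c48)) = (LP (LK LD1_c9 LD2_c30 LD3_c8)) :=
  Lre_e IH (LK LD1_c4 LD2_c48 LD3_c48) (LK LD1_c9 LD2_c30 LD3_c8) Lrfl Lrfl
theorem f644021 : Led Lsl_gf (LP (LK LD1_c4 LD2_c49 LD3_c8)) = (LP (LK LD1_c9 LD2_c30 LD3_c8)) :=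
  Lgr Lrot141 (Lpe (f634139 IH) (Lpr_dt (f634131 IH) (Lpe (f644019 IH) (Lpr_df (f644013 IH) (Lpe (f643515 IH) (Lpe (f643163 IH) (Lpe (f643155 IH) (Lpr_gt (f643323 IH) (Lpe (f56919 IH) (Lpr_et (f452979 IH) (Lpn (LP (LK LD1_c9 LD2_c30 LD3_c8)))))))))))))
theorem f446118 : Led Lsl_at (LP (LK LD1_c12 LD2_c32 LD3_c46)) = (LP (LK LD1_c6 LD2_c32 LD3_c35)) :=
  Lre_a IH (LK LD1_c12 LD2_c32 LD3_c46) (LK LD1_c6 LD2_c32 LD3_c35) Lrfl Lrfl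
theorem f644023 : Led Lsl_gt (LP (LK LD1_c4 LD2_c49 LD3_c8)) = (LP (LK LD1_c6 LD2_c32 LD3_c35)) :=
  Lgr Lrot46 (Lpr_gf (f644021 IH) (Lpe (K42.f643064 IH) (Lpr_at (f446118 IH) (Lpn (LP (LK LD1_c6 LD2_c32 LD3_c35))))))
theorem f634140 : Led Lsl_ft (LP (LK LD1_c4 LD2_c49 LD3_c8)) = (LP (LK LD1_c9 LD2_c30 LD3_c61)) :=
  Lre_f IH (LK LD1_c4 LD2_c49 LD3_c8) (LK LD1_c9 LD2_c30 LD3_c61) Lrfl Lrfl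
theorem f644037 : Led Lsl_at (LP (LK LD1_c9 LD2_c30 LD3_c61)) = (LP (LK LD1_c12 LD2_c32 LD3_c45)) :=
  Lgr Lrot26 (Lpe (f634140 IH) (Lpr_gt (f644023 IH) (Lpr_gt (K46.f446107 IH) (Lpn (LP (LK LD1_c12 LD2_c32 LD3_c45))))))
theorem f644042 : Led Lsl_af (LP (LK LD1_c9 LD2_c30 LD3_c61)) = (LP (LK LD1_c12 LD2_c32 LD3_c45)) :=
  Lgr Lrot0 (Lpr_at (f644037 IH) (Lpn (LP (LK LD1_c12 LD2_c32 LD3_c45))))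
theorem f705292 : Led Lsl_ff (LP (LK LD1_c12 LD2_c32 LD3_c45)) = v13853 :=
  Lgr Lrot30 (Lpe (f644042 IH) (Lpr_ft (f634135 IH) (Lpr_at (f705288 IH) (Lpn v13853))))
theorem f705293 : Led Lsl_ft (LP (LK LD1_c12 LD2_c32 LD3_c45)) = v13853 :=
  Lgr Lrot48 (Lpr_ff (f705292 IH) (Lpn v13853))
def v4484 : LQ := Led Lsl_ft (LP (LK LD1_c2 LD2_c22 LD3_c22))
theorem f634141 : Led Lsl_ft (LP (LK LD1_c2 LD2_c22 LD3_c22)) = v4484 :=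
  Lrfl
theorem f634142 : Led Lsl_af (LP (LK LD1_c2 LD2_c22 LD3_c23)) = v4484 :=
  Lgr Lrot45 (Lpr_ft (f634128 IH) (Lpe (f634122 IH) (Lpr_ft (f634141 IH) (Lpn v4484))))
theorem f705291 : Led Lsl_ef v4484 = v13853 :=
  Lgr Lrot20 (Lpe (f634142 IH) (Lpr_et (f634139 IH) (Lpr_at (f705288 IH) (Lpn v13853))))
theorem f634144 : Led Lsl_ff (LP (LK LD1_c2 LD2_c22 LD3_c22)) = v4484 :=
  Lgr Lrot3 (Lpr_ft (f634141 IH) (Lpn v4484))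
theorem f634127 : Led Lsl_et (LP (LK LD1_c2 LD2_c22 LD3_c22)) = (LP (LK LD1_c4 LD2_c49 LD3_c4)) :=
  Lre_e IH (LK LD1_c2 LD2_c22 LD3_c22) (LK LD1_c4 LD2_c49 LD3_c4) Lrfl Lrfl
theorem f634150 : Led Lsl_ft (LP (LK LD1_c4 LD2_c49 LD3_c4)) = (LP (LK LD1_c9 LD2_c30 LD3_c49)) :=
  Lre_f IH (LK LD1_c4 LD2_c49 LD3_c4) (LK LD1_c9 LD2_c30 LD3_c49) Lrfl Lrfl
theorem f705294 : Led Lsl_ef (LP (LK LD1_c12 LD2_c32 LD3_c45)) = (LP (LK LD1_c9 LD2_c30 LD3_c49)) :=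
  Lgr Lrot21 (Lpr_ft (f705293 IH) (Lpe (f705291 IH) (Lpe (f634144 IH) (Lpr_et (f634127 IH) (Lpr_ft (f634150 IH) (Lpn (LP (LK LD1_c9 LD2_c30 LD3_c49))))))))
theorem f705295 : Led Lsl_et (LP (LK LD1_c9 LD2_c30 LD3_c49)) = (LP (LK LD1_c12 LD2_c32 LD3_c45)) :=
  Leop (Lpr_ef (f705294 IH) (Lpn (LP (LK LD1_c9 LD2_c30 LD3_c49))))
theorem seed_694 : LEOK LG_e (LK LD1_c9 LD2_c30 LD3_c49) :=
  Leoe_e (LK LD1_c9 LD2_c30 LD3_c49) (f705295 IH)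
def v13901 : LQ := Led Lsl_at (LP (LK LD1_c4 LD2_c49 LD3_c45))
theorem f705781 : Led Lsl_at (LP (LK LD1_c4 LD2_c49 LD3_c45)) = v13901 :=
  Lrfl
theorem f416202 : Led Lsl_dt (LP (LK LD1_c4 LD2_c49 LD3_c44)) = (LP (LK LD1_c9 LD2_c32 LD3_c4)) :=
  Lre_d IH (LK LD1_c4 LD2_c49 LD3_c44) (LK LD1_c9 LD2_c32 LD3_c4) Lrfl Lrfl
theorem f141110 : Led Lsl_dt (LP (LK LD1_c6 LD2_c47 LD3_c4)) = (LP (LK LD1_c3 LD2_c21 LD3_c43)) :=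
  Lre_d IH (LK LD1_c6 LD2_c47 LD3_c4) (LK LD1_c3 LD2_c21 LD3_c43) Lrfl Lrfl
theorem f454343 : Led Lsl_ft (LP (LK LD1_c9 LD2_c32 LD3_c4)) = (LP (LK LD1_c6 LD2_c47 LD3_c4)) :=
  Lgr Lrot54 (Lpe (f416202 IH) (Lpr_ff (K32.f454322 IH) (Lpe (f141110 IH) (Lpn (LP (LK LD1_c6 LD2_c47 LD3_c4))))))
theorem f454350 : Led Lsl_bt (LP (LK LD1_c4 LD2_c49 LD3_c45)) = (LP (LK LD1_c9 LD2_c32 LD3_c4)) :=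
  Lre_b IH (LK LD1_c4 LD2_c49 LD3_c45) (LK LD1_c9 LD2_c32 LD3_c4) Lrfl Lrfl
theorem f454351 : Led Lsl_bt (LP (LK LD1_c6 LD2_c47 LD3_c4)) = (LP (LK LD1_c3 LD2_c21 LD3_c44)) :=
  Lre_b IH (LK LD1_c6 LD2_c47 LD3_c4) (LK LD1_c3 LD2_c21 LD3_c44) Lrfl Lrfl
theorem f454352 : Led Lsl_ff (LP (LK LD1_c4 LD2_c49 LD3_c45)) = (LP (LK LD1_c3 LD2_c21 LD3_c44)) :=
  Lgr Lrot25 (Lpr_bt (f454350 IH) (Lpr_ft (f454343 IH) (Lpr_bt (f454351 IH) (Lpn (LP (LK LD1_c3 LD2_c21 LD3_c44))))))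
theorem f454364 : Led Lsl_at (LP (LK LD1_c6 LD2_c46 LD3_c59)) = (LP (LK LD1_c3 LD2_c21 LD3_c44)) :=
  Lre_a IH (LK LD1_c6 LD2_c46 LD3_c59) (LK LD1_c3 LD2_c21 LD3_c44) Lrfl Lrfl
theorem f705784 : Led Lsl_ff (LP (LK LD1_c6 LD2_c46 LD3_c59)) = v13901 :=
  Lgr Lrot30 (Lpr_at (f454364 IH) (Lpe (f454352 IH) (Lpr_at (f705781 IH) (Lpn v13901))))
theorem f705791 : Led Lsl_ft (LP (LK LD1_c6 LD2_c46 LD3_c59)) = v13901 :=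
  Lgr Lrot48 (Lpr_ff (f705784 IH) (Lpn v13901))
theorem f705782 : Led Lsl_af (LP (LK LD1_c4 LD2_c49 LD3_c45)) = v13901 :=
  Lgr Lrot0 (Lpr_at (f705781 IH) (Lpn v13901))
theorem f416196 : Led Lsl_gt (LP (LK LD1_c9 LD2_c32 LD3_c6)) = (LP (LK LD1_c4 LD2_c49 LD3_c45)) :=
  Lre_g IH (LK LD1_c9 LD2_c32 LD3_c6) (LK LD1_c4 LD2_c49 LD3_c45) Lrfl Lrfl
theorem f705795 : Led Lsl_gt (LP (LK LD1_c6 LD2_c46 LD3_c59)) = (LP (LK LD1_c9 LD2_c32 LD3_c6)) :=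
  Lgr Lrot5 (Lpr_ft (f705791 IH) (Lpe (f705782 IH) (Lpe (f416196 IH) (Lpn (LP (LK LD1_c9 LD2_c32 LD3_c6))))))
theorem f705796 : Led Lsl_gt (LP (LK LD1_c6 LD2_c46 LD3_c59)) = (LP (LK LD1_c9 LD2_c32 LD3_c6)) :=
  Leop (Lpe (f705795 IH) (Lpn (LP (LK LD1_c6 LD2_c46 LD3_c59))))
theorem seed_695 : LEOK LG_g (LK LD1_c6 LD2_c46 LD3_c59) :=
  Leoe_g (LK LD1_c6 LD2_c46 LD3_c59) (f705796 IH)
def v13915 : LQ := Led Lsl_gf (LP (LK LD1_c4 LD2_c49 LD3_c60))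
theorem f705875 : Led Lsl_gf (LP (LK LD1_c4 LD2_c49 LD3_c60)) = v13915 :=
  Lrfl
theorem f446149 : Led Lsl_ct (LP (LK LD1_c2 LD2_c22 LD3_c45)) = (LP (LK LD1_c4 LD2_c49 LD3_c60)) :=
  Lre_c IH (LK LD1_c2 LD2_c22 LD3_c45) (LK LD1_c4 LD2_c49 LD3_c60) Lrfl Lrfl
def v5763 : LQ := Led Lsl_bt (LP (LK LD1_c3 LD2_c13 LD3_c1))
theorem f649252 : Led Lsl_bt (LP (LK LD1_c3 LD2_c13 LD3_c1)) = v5763 :=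
  Lrfl
def v8275 : LQ := Led Lsl_bt K35.v1958
theorem f670604 : Led Lsl_bt K35.v1958 = v8275 :=
  Lrfl
theorem f649253 : Led Lsl_bf (LP (LK LD1_c3 LD2_c13 LD3_c1)) = v5763 :=
  Lgr Lrot24 (Lpr_bt (f649252 IH) (Lpn v5763))
theorem f670608 : Led Lsl_ef v5763 = v8275 :=
  Lgr Lrot29 (Lpe (f649253 IH) (Lpr_et (K35.f506600 IH) (Lpr_bt (f670604 IH) (Lpn v8275))))
theorem f670607 : Led Lsl_df K34.v2213 = v8275 :=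
  Lgr Lrot12 (Lpe (K34.f509705 IH) (Lpr_dt (K35.f506599 IH) (Lpr_bt (f670604 IH) (Lpn v8275))))
def v1313 : LQ := Led Lsl_et (LP (LK LD1_c1 LD2_c6 LD3_c59))
theorem f494771 : Led Lsl_et (LP (LK LD1_c1 LD2_c6 LD3_c59)) = v1313 :=
  Lrfl
theorem f494774 : Led Lsl_ef (LP (LK LD1_c1 LD2_c6 LD3_c59)) = v1313 :=
  Lgr Lrot88 (Lpr_et (f494771 IH) (Lpn v1313))
theorem f26172 : Led Lsl_dt (LP (LK LD1_c1 LD2_c6 LD3_c59)) = (LP (LK LD1_c0 LD2_c30 LD3_c40)) :=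
  Lre_d IH (LK LD1_c1 LD2_c6 LD3_c59) (LK LD1_c0 LD2_c30 LD3_c40) Lrfl Lrfl
theorem f82554 : Led Lsl_ef (LP (LK LD1_c0 LD2_c30 LD3_c40)) = (LP (LK LD1_c0 LD2_c30 LD3_c40)) :=
  Lgr Lrot20 (Lpr_at (K2.f26083 IH) (Lpr_et (K3.f82552 IH) (Lpr_at (K2.f26070 IH) (Lpn (LP (LK LD1_c0 LD2_c30 LD3_c40))))))
theorem f494777 : Led Lsl_dt v1313 = v1313 :=
  Lgr Lrot77 (Lpe (f494771 IH) (Lpe (K8.f26169 IH) (Lpr_ef (f82554 IH) (Lpe (f26172 IH) (Lpr_ef (f494774 IH) (Lpn v1313))))))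
def v7817 : LQ := Led Lsl_gf v1313
theorem f668564 : Led Lsl_gf v1313 = v7817 :=
  Lrfl
def v4272 : LQ := Led Lsl_et (LP (LK LD1_c2 LD2_c18 LD3_c10))
theorem f632346 : Led Lsl_et (LP (LK LD1_c2 LD2_c18 LD3_c10)) = v4272 :=
  Lrfl
theorem f632347 : Led Lsl_ef (LP (LK LD1_c2 LD2_c18 LD3_c10)) = v4272 :=
  Lgr Lrot88 (Lpr_et (f632346 IH) (Lpn v4272))
theorem f668567 : Led Lsl_dt v4272 = v7817 :=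
  Lgr Lrot136 (Lpe (f632347 IH) (Lpe (f61093 IH) (Lpe (f104347 IH) (Lpr_dt (K2.f60991 IH) (Lpe (K3.f20970 IH) (Lpr_df (K3.f104340 IH) (Lpe (K8.f128353 IH) (Lpr_ef (f494774 IH) (Lpr_dt (f494777 IH) (Lpr_gf (f668564 IH) (Lpn v7817)))))))))))
theorem f670614 : Led Lsl_gt v5763 = v4272 :=
  Lgr Lrot137 (Lpr_ef (f670608 IH) (Lpe (f670607 IH) (Lpr_gf (K34.f527808 IH) (Lpe (K34.f124469 IH) (Lpr_et (K34.f104346 IH) (Lpe (K8.f128353 IH) (Lpr_ef (f494774 IH) (Lpr_dt (f494777 IH) (Lpr_gf (f668564 IH) (Lpe (f668567 IH) (Lpn v4272)))))))))))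
def v13224 : LQ := Led Lsl_et (LP (LK LD1_c4 LD2_c41 LD3_c50))
theorem f701776 : Led Lsl_et (LP (LK LD1_c4 LD2_c41 LD3_c50)) = v13224 :=
  Lrfl
theorem f415370 : Led Lsl_bt (LP (LK LD1_c2 LD2_c18 LD3_c10)) = (LP (LK LD1_c4 LD2_c41 LD3_c50)) :=
  Lre_b IH (LK LD1_c2 LD2_c18 LD3_c10) (LK LD1_c4 LD2_c41 LD3_c50) Lrfl Lrfl
theorem f701777 : Led Lsl_bf v4272 = v13224 :=
  Lgr Lrot96 (Lpe (f632347 IH) (Lpr_bt (f415370 IH) (Lpr_et (f701776 IH) (Lpn v13224))))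
theorem f705876 : Led Lsl_ct v13224 = v13915 :=
  Lgr Lrot64 (Lpe (f701777 IH) (Lpe (f670614 IH) (Lpe (f649252 IH) (Lpe (f510144 IH) (Lpr_gf (f510152 IH) (Lpe (K42.f23789 IH) (Lpe (K24.f446151 IH) (Lpe (K46.f446133 IH) (Lpr_ct (f446149 IH) (Lpr_gf (f705875 IH) (Lpn v13915)))))))))))
theorem f61091 : Led Lsl_bt (LP (LK LD1_c0 LD2_c30 LD3_c15)) = (LP (LK LD1_c1 LD2_c6 LD3_c6)) :=
  Lre_b IH (LK LD1_c0 LD2_c30 LD3_c15) (LK LD1_c1 LD2_c6 LD3_c6) Lrfl Lrfl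
theorem f61094 : Led Lsl_bt (LP (LK LD1_c4 LD2_c41 LD3_c50)) = (LP (LK LD1_c2 LD2_c18 LD3_c10)) :=
  Lre_b IH (LK LD1_c4 LD2_c41 LD3_c50) (LK LD1_c2 LD2_c18 LD3_c10) Lrfl Lrfl
theorem f139849 : Led Lsl_ct (LP (LK LD1_c1 LD2_c36 LD3_c5)) = (LP (LK LD1_c3 LD2_c19 LD3_c11)) :=
  Lre_c IH (LK LD1_c1 LD2_c36 LD3_c5) (LK LD1_c3 LD2_c19 LD3_c11) Lrfl Lrfl
theorem f139839 : Led Lsl_gt (LP (LK LD1_c6 LD2_c41 LD3_c54)) = (LP (LK LD1_c3 LD2_c19 LD3_c11)) :=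
  Lre_g IH (LK LD1_c6 LD2_c41 LD3_c54) (LK LD1_c3 LD2_c19 LD3_c11) Lrfl Lrfl
theorem f415359 : Led Lsl_ct (LP (LK LD1_c4 LD2_c41 LD3_c50)) = (LP (LK LD1_c6 LD2_c41 LD3_c54)) :=
  Lgr Lrot64 (Lpr_bt (f61094 IH) (Lpe (f61093 IH) (Lpe (f61091 IH) (Lpe (K8.f61062 IH) (Lpe (K11.f27064 IH) (Lpr_cf (K35.f27086 IH) (Lpr_gf (K32.f415355 IH) (Lpe (K6.f139830 IH) (Lpr_ct (f139849 IH) (Lpe (f139839 IH) (Lpn (LP (LK LD1_c6 LD2_c41 LD3_c54)))))))))))))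
theorem f415372 : Led Lsl_cf (LP (LK LD1_c4 LD2_c41 LD3_c50)) = (LP (LK LD1_c6 LD2_c41 LD3_c54)) :=
  Lgr Lrot11 (Lpr_ct (f415359 IH) (Lpn (LP (LK LD1_c6 LD2_c41 LD3_c54))))
theorem f705878 : Led Lsl_ef (LP (LK LD1_c6 LD2_c41 LD3_c54)) = v13915 :=
  Lgr Lrot28 (Lpe (f415372 IH) (Lpr_et (f701776 IH) (Lpr_ct (f705876 IH) (Lpn v13915))))
theorem f135759 : Led Lsl_gt (LP (LK LD1_c3 LD2_c18 LD3_c58)) = (LP (LK LD1_c6 LD2_c41 LD3_c54)) :=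
  Lre_g IH (LK LD1_c3 LD2_c18 LD3_c58) (LK LD1_c6 LD2_c41 LD3_c54) Lrfl Lrfl
theorem f144375 : Led Lsl_et (LP (LK LD1_c1 LD2_c35 LD3_c58)) = (LP (LK LD1_c3 LD2_c18 LD3_c58)) :=
  Lre_e IH (LK LD1_c1 LD2_c35 LD3_c58) (LK LD1_c3 LD2_c18 LD3_c58) Lrfl Lrfl
theorem f22587 : Led Lsl_dt (LP (LK LD1_c1 LD2_c33 LD3_c39)) = (LP (LK LD1_c3 LD2_c14 LD3_c15)) :=
  Lre_d IH (LK LD1_c1 LD2_c33 LD3_c39) (LK LD1_c3 LD2_c14 LD3_c15) Lrfl Lrfl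
theorem f22705 : Led Lsl_gt (LP (LK LD1_c6 LD2_c32 LD3_c11)) = (LP (LK LD1_c3 LD2_c14 LD3_c15)) :=
  Lre_g IH (LK LD1_c6 LD2_c32 LD3_c11) (LK LD1_c3 LD2_c14 LD3_c15) Lrfl Lrfl
theorem f705880 : Led Lsl_df (LP (LK LD1_c6 LD2_c32 LD3_c11)) = v13915 :=
  Lgr Lrot170 (Lpr_gt (f22705 IH) (Lpe (f22587 IH) (Lpr_et (K8.f22591 IH) (Lpr_gt (K6.f22814 IH) (Lpr_dt (K6.f22815 IH) (Lpe (K6.f146858 IH) (Lpr_df (K6.f144345 IH) (Lpr_et (f144375 IH) (Lpr_gt (f135759 IH) (Lpr_ef (f705878 IH) (Lpn v13915)))))))))))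
theorem f705882 : Led Lsl_dt (LP (LK LD1_c6 LD2_c32 LD3_c11)) = v13915 :=
  Lgr Lrot42 (Lpr_df (f705880 IH) (Lpn v13915))
theorem f705883 : Led Lsl_ct (LP (LK LD1_c12 LD2_c32 LD3_c9)) = (LP (LK LD1_c6 LD2_c32 LD3_c11)) :=
  Lre_c IH (LK LD1_c12 LD2_c32 LD3_c9) (LK LD1_c6 LD2_c32 LD3_c11) Lrfl Lrfl
theorem f705877 : Led Lsl_cf v13224 = v13915 :=
  Lgr Lrot11 (Lpr_ct (f705876 IH) (Lpn v13915))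
theorem f701778 : Led Lsl_ef (LP (LK LD1_c4 LD2_c41 LD3_c50)) = v13224 :=
  Lgr Lrot88 (Lpr_et (f701776 IH) (Lpn v13224))
theorem f701779 : Led Lsl_bt v4272 = v13224 :=
  Lgr Lrot119 (Lpe (f632346 IH) (Lpe (f61094 IH) (Lpr_ef (f701778 IH) (Lpn v13224))))
theorem f668568 : Led Lsl_df v4272 = v7817 :=
  Lgr Lrot38 (Lpr_dt (f668567 IH) (Lpn v7817))
theorem f83093 : Led Lsl_bt (LP (LK LD1_c1 LD2_c6 LD3_c59)) = (LP (LK LD1_c0 LD2_c42 LD3_c53)) :=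
  Lgr Lrot127 (Lpr_bf (K8.f82874 IH) (Lpn (LP (LK LD1_c0 LD2_c42 LD3_c53))))
theorem f82327 : Led Lsl_et (LP (LK LD1_c0 LD2_c42 LD3_c53)) = (LP (LK LD1_c1 LD2_c32 LD3_c33)) :=
  Lre_e IH (LK LD1_c0 LD2_c42 LD3_c53) (LK LD1_c1 LD2_c32 LD3_c33) Lrfl Lrfl
theorem f494776 : Led Lsl_bt (LP (LK LD1_c1 LD2_c32 LD3_c33)) = v1313 :=
  Lgr Lrot119 (Lpe (f82327 IH) (Lpe (f83093 IH) (Lpr_ef (f494774 IH) (Lpn v1313))))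
theorem f82781 : Led Lsl_ct (LP (LK LD1_c1 LD2_c32 LD3_c33)) = (LP (LK LD1_c3 LD2_c12 LD3_c4)) :=
  Lre_c IH (LK LD1_c1 LD2_c32 LD3_c33) (LK LD1_c3 LD2_c12 LD3_c4) Lrfl Lrfl
def v5822 : LQ := Led Lsl_ft (LP (LK LD1_c3 LD2_c13 LD3_c49))
theorem f649576 : Led Lsl_ft (LP (LK LD1_c3 LD2_c13 LD3_c49)) = v5822 :=
  Lrfl
theorem f649579 : Led Lsl_ff (LP (LK LD1_c3 LD2_c13 LD3_c49)) = v5822 :=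
  Lgr Lrot3 (Lpr_ft (f649576 IH) (Lpn v5822))
theorem f23773 : Led Lsl_ct (LP (LK LD1_c3 LD2_c13 LD3_c49)) = (LP (LK LD1_c1 LD2_c33 LD3_c29)) :=
  Lre_c IH (LK LD1_c3 LD2_c13 LD3_c49) (LK LD1_c1 LD2_c33 LD3_c29) Lrfl Lrfl
theorem f649582 : Led Lsl_ct K32.v2010 = v5822 :=
  Lgr Lrot40 (Lpe (K32.f506870 IH) (Lpe (f23773 IH) (Lpr_ff (f649579 IH) (Lpn v5822))))
theorem f22680 : Led Lsl_at (LP (LK LD1_c3 LD2_c13 LD3_c49)) = (LP (LK LD1_c1 LD2_c33 LD3_c39)) :=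
  Lre_a IH (LK LD1_c3 LD2_c13 LD3_c49) (LK LD1_c1 LD2_c33 LD3_c39) Lrfl Lrfl
theorem f22604 : Led Lsl_gt (LP (LK LD1_c3 LD2_c14 LD3_c14)) = (LP (LK LD1_c1 LD2_c33 LD3_c39)) :=
  Lre_g IH (LK LD1_c3 LD2_c14 LD3_c14) (LK LD1_c1 LD2_c33 LD3_c39) Lrfl Lrfl
theorem f649583 : Led Lsl_gf (LP (LK LD1_c3 LD2_c14 LD3_c14)) = v5822 :=
  Lgr Lrot47 (Lpr_gt (f22604 IH) (Lpe (f22680 IH) (Lpr_ff (f649579 IH) (Lpn v5822))))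
def v5855 : LQ := Led Lsl_ct (LP (LK LD1_c3 LD2_c14 LD3_c14))
theorem f649836 : Led Lsl_ct (LP (LK LD1_c3 LD2_c14 LD3_c14)) = v5855 :=
  Lrfl
theorem f649837 : Led Lsl_cf (LP (LK LD1_c3 LD2_c14 LD3_c14)) = v5855 :=
  Lgr Lrot11 (Lpr_ct (f649836 IH) (Lpn v5855))
theorem f668566 : Led Lsl_bt v5855 = v7817 :=
  Lgr Lrot22 (Lpe (f649837 IH) (Lpr_gf (f649583 IH) (Lpe (f649582 IH) (Lpe (K48.f506882 IH) (Lpe (K46.f22734 IH) (Lpe (K46.f648884 IH) (Lpe (K32.f494778 IH) (Lpe (f82781 IH) (Lpr_bt (f494776 IH) (Lpr_gf (f668564 IH) (Lpn v7817)))))))))))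
theorem f701780 : Led Lsl_df v5855 = v13224 :=
  Lgr Lrot12 (Lpr_bt (f668566 IH) (Lpe (f668568 IH) (Lpr_bt (f701779 IH) (Lpn v13224))))
def v5853 : LQ := Led Lsl_ft (LP (LK LD1_c3 LD2_c14 LD3_c13))
theorem f649827 : Led Lsl_ft (LP (LK LD1_c3 LD2_c14 LD3_c13)) = v5853 :=
  Lrfl
def v5851 : LQ := Led Lsl_at (LP (LK LD1_c3 LD2_c14 LD3_c13))
theorem f649813 : Led Lsl_at (LP (LK LD1_c3 LD2_c14 LD3_c13)) = v5851 :=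
  Lrfl
theorem f649814 : Led Lsl_af (LP (LK LD1_c3 LD2_c14 LD3_c13)) = v5851 :=
  Lgr Lrot0 (Lpr_at (f649813 IH) (Lpn v5851))
theorem f22595 : Led Lsl_gt (LP (LK LD1_c1 LD2_c33 LD3_c39)) = (LP (LK LD1_c3 LD2_c14 LD3_c13)) :=
  Lre_g IH (LK LD1_c1 LD2_c33 LD3_c39) (LK LD1_c3 LD2_c14 LD3_c13) Lrfl Lrfl
theorem f649819 : Led Lsl_ft (LP (LK LD1_c3 LD2_c14 LD3_c14)) = v5851 :=
  Lgr Lrot2 (Lpr_gt (f22604 IH) (Lpr_gt (f22595 IH) (Lpr_af (f649814 IH) (Lpn v5851))))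
theorem f649828 : Led Lsl_af (LP (LK LD1_c3 LD2_c14 LD3_c14)) = v5853 :=
  Lgr Lrot45 (Lpr_ft (f649819 IH) (Lpe (f649814 IH) (Lpr_ft (f649827 IH) (Lpn v5853))))
theorem f22596 : Led Lsl_dt (LP (LK LD1_c3 LD2_c14 LD3_c13)) = (LP (LK LD1_c6 LD2_c32 LD3_c6)) :=
  Lre_d IH (LK LD1_c3 LD2_c14 LD3_c13) (LK LD1_c6 LD2_c32 LD3_c6) Lrfl Lrfl
theorem f22597 : Led Lsl_ct (LP (LK LD1_c6 LD2_c32 LD3_c6)) = (LP (LK LD1_c12 LD2_c32 LD3_c2)) :=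
  Lre_c IH (LK LD1_c6 LD2_c32 LD3_c6) (LK LD1_c12 LD2_c32 LD3_c2) Lrfl Lrfl
theorem f705884 : Led Lsl_df (LP (LK LD1_c12 LD2_c32 LD3_c9)) = (LP (LK LD1_c12 LD2_c32 LD3_c2)) :=
  Lgr Lrot106 (Lpr_ct (f705883 IH) (Lpr_dt (f705882 IH) (Lpe (f705877 IH) (Lpe (f701780 IH) (Lpe (f649837 IH) (Lpr_af (f649828 IH) (Lpe (f649827 IH) (Lpr_dt (f22596 IH) (Lpr_ct (f22597 IH) (Lpn (LP (LK LD1_c12 LD2_c32 LD3_c2))))))))))))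
theorem f705885 : Led Lsl_dt (LP (LK LD1_c12 LD2_c32 LD3_c2)) = (LP (LK LD1_c12 LD2_c32 LD3_c9)) :=
  Leop (Lpr_df (f705884 IH) (Lpn (LP (LK LD1_c12 LD2_c32 LD3_c2))))
theorem seed_696 : LEOK LG_d (LK LD1_c12 LD2_c32 LD3_c2) :=
  Leoe_d (LK LD1_c12 LD2_c32 LD3_c2) (f705885 IH)
def v13919 : LQ := Led Lsl_dt (LP (LK LD1_c4 LD2_c49 LD3_c61))
theorem f705908 : Led Lsl_dt (LP (LK LD1_c4 LD2_c49 LD3_c61)) = v13919 :=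
  Lrfl
theorem f454229 : Led Lsl_ft (LP (LK LD1_c3 LD2_c21 LD3_c25)) = (LP (LK LD1_c4 LD2_c49 LD3_c61)) :=
  Lgr Lrot48 (Lpr_ff (f454227 IH) (Lpn (LP (LK LD1_c4 LD2_c49 LD3_c61))))
def v6415 : LQ := Led Lsl_dt (LP (LK LD1_c3 LD2_c21 LD3_c25))
theorem f653258 : Led Lsl_dt (LP (LK LD1_c3 LD2_c21 LD3_c25)) = v6415 :=
  Lrfl
theorem f653260 : Led Lsl_df (LP (LK LD1_c3 LD2_c21 LD3_c25)) = v6415 :=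
  Lgr Lrot38 (Lpr_dt (f653258 IH) (Lpn v6415))
theorem f705912 : Led Lsl_ff v6415 = v13919 :=
  Lgr Lrot19 (Lpe (f653260 IH) (Lpr_ft (f454229 IH) (Lpr_dt (f705908 IH) (Lpn v13919))))
theorem f454015 : Led Lsl_at (LP (LK LD1_c1 LD2_c36 LD3_c58)) = (LP (LK LD1_c3 LD2_c21 LD3_c25)) :=
  Lre_a IH (LK LD1_c1 LD2_c36 LD3_c58) (LK LD1_c3 LD2_c21 LD3_c25) Lrfl Lrfl
def v2183 : LQ := Led Lsl_dt (LP (LK LD1_c1 LD2_c36 LD3_c58))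
theorem f509503 : Led Lsl_dt (LP (LK LD1_c1 LD2_c36 LD3_c58)) = v2183 :=
  Lrfl
theorem f509505 : Led Lsl_df (LP (LK LD1_c1 LD2_c36 LD3_c58)) = v2183 :=
  Lgr Lrot38 (Lpr_dt (f509503 IH) (Lpn v2183))
theorem f653259 : Led Lsl_af v2183 = v6415 :=
  Lgr Lrot117 (Lpe (f509505 IH) (Lpr_at (f454015 IH) (Lpr_dt (f653258 IH) (Lpn v6415))))
def v8730 : LQ := Led Lsl_gf v2183
theorem f672109 : Led Lsl_gf v2183 = v8730 :=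
  Lrfl
theorem f705916 : Led Lsl_gf v8730 = v13919 :=
  Lgr Lrot47 (Lpe (f672109 IH) (Lpr_af (f653259 IH) (Lpr_ff (f705912 IH) (Lpn v13919))))
def v12943 : LQ := Led Lsl_ft (LP (LK LD1_c4 LD2_c35 LD3_c8))
theorem f699731 : Led Lsl_ft (LP (LK LD1_c4 LD2_c35 LD3_c8)) = v12943 :=
  Lrfl
theorem f699734 : Led Lsl_ff (LP (LK LD1_c4 LD2_c35 LD3_c8)) = v12943 :=
  Lgr Lrot3 (Lpr_ft (f699731 IH) (Lpn v12943))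
theorem f211791 : Led Lsl_et (LP (LK LD1_c2 LD2_c52 LD3_c49)) = (LP (LK LD1_c1 LD2_c22 LD3_c28)) :=
  Lre_e IH (LK LD1_c2 LD2_c52 LD3_c49) (LK LD1_c1 LD2_c22 LD3_c28) Lrfl Lrfl
theorem f140765 : Led Lsl_et (LP (LK LD1_c2 LD2_c14 LD3_c42)) = (LP (LK LD1_c4 LD2_c35 LD3_c8)) :=
  Lre_e IH (LK LD1_c2 LD2_c14 LD3_c42) (LK LD1_c4 LD2_c35 LD3_c8) Lrfl Lrfl
theorem f449372 : Led Lsl_af (LP (LK LD1_c2 LD2_c52 LD3_c49)) = (LP (LK LD1_c4 LD2_c35 LD3_c8)) :=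
  Lgr Lrot50 (Lpr_et (f211791 IH) (Lpr_at (K36.f449365 IH) (Lpr_et (f140765 IH) (Lpn (LP (LK LD1_c4 LD2_c35 LD3_c8))))))
def v4921 : LQ := Led Lsl_gf (LP (LK LD1_c2 LD2_c52 LD3_c49))
theorem f640922 : Led Lsl_gf (LP (LK LD1_c2 LD2_c52 LD3_c49)) = v4921 :=
  Lrfl
theorem f699744 : Led Lsl_gf v4921 = v12943 :=
  Lgr Lrot47 (Lpe (f640922 IH) (Lpr_af (f449372 IH) (Lpr_ff (f699734 IH) (Lpn v12943))))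
def v5774 : LQ := Led Lsl_gt (LP (LK LD1_c3 LD2_c13 LD3_c13))
theorem f649297 : Led Lsl_gt (LP (LK LD1_c3 LD2_c13 LD3_c13)) = v5774 :=
  Lrfl
theorem f140731 : Led Lsl_dt (LP (LK LD1_c1 LD2_c33 LD3_c0)) = (LP (LK LD1_c3 LD2_c13 LD3_c13)) :=
  Lre_d IH (LK LD1_c1 LD2_c33 LD3_c0) (LK LD1_c3 LD2_c13 LD3_c13) Lrfl Lrfl
theorem f164370 : Led Lsl_dt (LP (LK LD1_c2 LD2_c14 LD3_c26)) = (LP (LK LD1_c2 LD2_c34 LD3_c14)) :=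
  Lgr Lrot42 (Lpr_df (K10.f164362 IH) (Lpn (LP (LK LD1_c2 LD2_c34 LD3_c14))))
theorem f164365 : Led Lsl_at (LP (LK LD1_c2 LD2_c31 LD3_c25)) = (LP (LK LD1_c2 LD2_c34 LD3_c14)) :=
  Lgr Lrot51 (Lpe (K7.f22255 IH) (Lpe (K24.f152059 IH) (Lpr_df (K10.f164362 IH) (Lpn (LP (LK LD1_c2 LD2_c34 LD3_c14))))))
theorem f22242 : Led Lsl_gt (LP (LK LD1_c1 LD2_c12 LD3_c41)) = (LP (LK LD1_c2 LD2_c31 LD3_c23)) :=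
  Lre_g IH (LK LD1_c1 LD2_c12 LD3_c41) (LK LD1_c2 LD2_c31 LD3_c23) Lrfl Lrfl
theorem f164648 : Led Lsl_gt (LP (LK LD1_c2 LD2_c31 LD3_c23)) = (LP (LK LD1_c2 LD2_c34 LD3_c14)) :=
  Lgr Lrot46 (Lpe (f22242 IH) (Lpr_ft (K7.f22238 IH) (Lpr_at (f164365 IH) (Lpn (LP (LK LD1_c2 LD2_c34 LD3_c14))))))
def v4584 : LQ := Led Lsl_dt (LP (LK LD1_c2 LD2_c31 LD3_c23))
theorem f636252 : Led Lsl_dt (LP (LK LD1_c2 LD2_c31 LD3_c23)) = v4584 :=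
  Lrfl
theorem f636253 : Led Lsl_df (LP (LK LD1_c2 LD2_c31 LD3_c23)) = v4584 :=
  Lgr Lrot38 (Lpr_dt (f636252 IH) (Lpn v4584))
theorem f164651 : Led Lsl_et (LP (LK LD1_c5 LD2_c8 LD3_c22)) = (LP (LK LD1_c2 LD2_c31 LD3_c23)) :=
  Lre_e IH (LK LD1_c5 LD2_c8 LD3_c22) (LK LD1_c2 LD2_c31 LD3_c23) Lrfl Lrfl
theorem f354425 : Led Lsl_et (LP (LK LD1_c5 LD2_c40 LD3_c0)) = (LP (LK LD1_c2 LD2_c45 LD3_c58)) :=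
  Lre_e IH (LK LD1_c5 LD2_c40 LD3_c0) (LK LD1_c2 LD2_c45 LD3_c58) Lrfl Lrfl
theorem f354402 : Led Lsl_dt (LP (LK LD1_c2 LD2_c45 LD3_c58)) = (LP (LK LD1_c1 LD2_c19 LD3_c21)) :=
  Lre_d IH (LK LD1_c2 LD2_c45 LD3_c58) (LK LD1_c1 LD2_c19 LD3_c21) Lrfl Lrfl
theorem f164101 : Led Lsl_et (LP (LK LD1_c2 LD2_c30 LD3_c11)) = (LP (LK LD1_c5 LD2_c5 LD3_c53)) :=
  Lre_e IH (LK LD1_c2 LD2_c30 LD3_c11) (LK LD1_c5 LD2_c5 LD3_c53) Lrfl Lrfl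
theorem f622426 : Led Lsl_df (LP (LK LD1_c5 LD2_c40 LD3_c0)) = (LP (LK LD1_c5 LD2_c5 LD3_c53)) :=
  Lgr Lrot70 (Lpr_et (f354425 IH) (Lpr_dt (f354402 IH) (Lpr_et (K38.f495706 IH) (Lpqs (K38.f537468 IH) (Lpr_dt (K9.f164099 IH) (Lpr_et (f164101 IH) (Lpn (LP (LK LD1_c5 LD2_c5 LD3_c53)))))))))
theorem f622430 : Led Lsl_dt (LP (LK LD1_c5 LD2_c40 LD3_c0)) = (LP (LK LD1_c5 LD2_c5 LD3_c53)) :=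
  Lgr Lrot42 (Lpr_df (f622426 IH) (Lpn (LP (LK LD1_c5 LD2_c5 LD3_c53))))
theorem f354439 : Led Lsl_at (LP (LK LD1_c2 LD2_c46 LD3_c0)) = (LP (LK LD1_c5 LD2_c40 LD3_c0)) :=
  Lre_a IH (LK LD1_c2 LD2_c46 LD3_c0) (LK LD1_c5 LD2_c40 LD3_c0) Lrfl Lrfl
theorem f313861 : Led Lsl_at (LP (LK LD1_c5 LD2_c5 LD3_c53)) = (LP (LK LD1_c5 LD2_c7 LD3_c7)) :=
  Lgr Lrot100 (Lpr_af (K19.f313859 IH) (Lpn (LP (LK LD1_c5 LD2_c7 LD3_c7))))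
theorem f622440 : Led Lsl_df (LP (LK LD1_c2 LD2_c46 LD3_c0)) = (LP (LK LD1_c5 LD2_c7 LD3_c7)) :=
  Lgr Lrot18 (Lpr_at (f354439 IH) (Lpr_dt (f622430 IH) (Lpr_at (f313861 IH) (Lpn (LP (LK LD1_c5 LD2_c7 LD3_c7))))))
theorem f452503 : Led Lsl_gt (LP (LK LD1_c5 LD2_c40 LD3_c12)) = (LP (LK LD1_c2 LD2_c46 LD3_c0)) :=
  Lre_g IH (LK LD1_c5 LD2_c40 LD3_c12) (LK LD1_c2 LD2_c46 LD3_c0) Lrfl Lrfl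
theorem f250201 : Led Lsl_et (LP (LK LD1_c5 LD2_c7 LD3_c7)) = (LP (LK LD1_c2 LD2_c30 LD3_c54)) :=
  Lre_e IH (LK LD1_c5 LD2_c7 LD3_c7) (LK LD1_c2 LD2_c30 LD3_c54) Lrfl Lrfl
theorem f622451 : Led Lsl_df (LP (LK LD1_c5 LD2_c40 LD3_c12)) = (LP (LK LD1_c5 LD2_c8 LD3_c22)) :=
  Lgr Lrot170 (Lpr_gt (f452503 IH) (Lpr_df (f622440 IH) (Lpr_et (f250201 IH) (Lpr_gt (K14.f250187 IH) (Lpr_dt (K10.f53188 IH) (Lpr_gt (K9.f3298 IH) (Lpe (K7.f3763 IH) (Lpr_et (K10.f22215 IH) (Lpr_gt (f22242 IH) (Lpe (f164651 IH) (Lpn (LP (LK LD1_c5 LD2_c8 LD3_c22)))))))))))))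
theorem f622456 : Led Lsl_dt (LP (LK LD1_c5 LD2_c40 LD3_c12)) = (LP (LK LD1_c5 LD2_c8 LD3_c22)) :=
  Lgr Lrot42 (Lpr_df (f622451 IH) (Lpn (LP (LK LD1_c5 LD2_c8 LD3_c22))))
theorem f73865 : Led Lsl_bt (LP (LK LD1_c2 LD2_c52 LD3_c8)) = (LP (LK LD1_c5 LD2_c51 LD3_c47)) :=
  Lre_b IH (LK LD1_c2 LD2_c52 LD3_c8) (LK LD1_c5 LD2_c51 LD3_c47) Lrfl Lrfl
theorem f73866 : Led Lsl_et (LP (LK LD1_c1 LD2_c28 LD3_c28)) = (LP (LK LD1_c2 LD2_c52 LD3_c8)) :=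
  Lgr Lrot74 (Lpe (K9.f73125 IH) (Lpr_ef (K2.f73854 IH) (Lpe (f73865 IH) (Lpn (LP (LK LD1_c2 LD2_c52 LD3_c8))))))
theorem f416788 : Led Lsl_dt (LP (LK LD1_c3 LD2_c21 LD3_c31)) = (LP (LK LD1_c6 LD2_c12 LD3_c30)) :=
  Lgr Lrot42 (Lpr_df (K24.f416783 IH) (Lpn (LP (LK LD1_c6 LD2_c12 LD3_c30))))
theorem f417014 : Led Lsl_gf (LP (LK LD1_c3 LD2_c21 LD3_c31)) = (LP (LK LD1_c2 LD2_c22 LD3_c41)) :=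
  Lgr Lrot143 (Lpr_dt (f416788 IH) (Lpe (K24.f413541 IH) (Lpr_df (K24.f416610 IH) (Lpr_gf (K24.f415056 IH) (Lpe (K24.f415000 IH) (Lpr_gf (K24.f141015 IH) (Lpe (K17.f73658 IH) (Lpr_gt (K24.f414303 IH) (Lpr_dt (K24.f414302 IH) (Lpn (LP (LK LD1_c2 LD2_c22 LD3_c41))))))))))))
def v459 : LQ := Led Lsl_ct (LP (LK LD1_c0 LD2_c39 LD3_c52))
theorem f452987 : Led Lsl_ct (LP (LK LD1_c0 LD2_c39 LD3_c52)) = v459 :=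
  Lrfl
theorem f452992 : Led Lsl_gf (LP (LK LD1_c0 LD2_c40 LD3_c53)) = v459 :=
  Lgr Lrot148 (Lpr_dt (K24.f59655 IH) (Lpe (K24.f380110 IH) (Lpr_dt (K24.f313671 IH) (Lpr_ct (K24.f313670 IH) (Lpe (K24.f313672 IH) (Lpe (K9.f9536 IH) (Lpe (K0.f9519 IH) (Lpe (K9.f9535 IH) (Lpr_ct (f452987 IH) (Lpn v459))))))))))
theorem f452585 : Led Lsl_cf (LP (LK LD1_c0 LD2_c37 LD3_c18)) = K35.v389 :=
  Lgr Lrot11 (Lpr_ct (K35.f452583 IH) (Lpn K35.v389))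
theorem f452991 : Led Lsl_ff K35.v389 = v459 :=
  Lgr Lrot23 (Lpe (f452585 IH) (Lpe (K19.f313705 IH) (Lpr_ct (f452987 IH) (Lpn v459))))
theorem f452996 : Led Lsl_ft K35.v389 = v459 :=
  Lgr Lrot48 (Lpr_ff (f452991 IH) (Lpn v459))
theorem f537388 : v459 = (LP (LK LD1_c0 LD2_c36 LD3_c38)) :=
  Lefun (Lecon (f452996 IH) (K35.f537166 IH).symm) (K38.f319406 IH)
theorem f354411 : Led Lsl_et (LP (LK LD1_c1 LD2_c19 LD3_c22)) = (LP (LK LD1_c2 LD2_c46 LD3_c0)) :=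
  Lre_e IH (LK LD1_c1 LD2_c19 LD3_c22) (LK LD1_c2 LD2_c46 LD3_c0) Lrfl Lrfl
theorem f622324 : Led Lsl_et (LP (LK LD1_c6 LD2_c12 LD3_c30)) = (LP (LK LD1_c5 LD2_c40 LD3_c12)) :=
  Lgr Lrot185 (Lpe (K24.f416783 IH) (Lpr_gf (f417014 IH) (Lpe (K24.f414302 IH) (Lpe (K24.f414303 IH) (Lpe (f73866 IH) (Lpr_dt (K9.f60726 IH) (Lpr_gf (f452992 IH) (Lpqs (f537388 IH) (Lpe (K30.f354388 IH) (Lpr_et (f354411 IH) (Lpe (f452503 IH) (Lpn (LP (LK LD1_c5 LD2_c40 LD3_c12))))))))))))))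
theorem f636254 : Led Lsl_ef (LP (LK LD1_c3 LD2_c21 LD3_c31)) = v4584 :=
  Lgr Lrot73 (Lpr_dt (f416788 IH) (Lpr_et (f622324 IH) (Lpr_dt (f622456 IH) (Lpr_et (f164651 IH) (Lpr_dt (f636252 IH) (Lpn v4584))))))
theorem f649301 : Led Lsl_dt (LP (LK LD1_c3 LD2_c21 LD3_c55)) = v5774 :=
  Lgr Lrot56 (Lpe (K32.f454583 IH) (Lpe (f417014 IH) (Lpr_ef (f636254 IH) (Lpe (f636253 IH) (Lpr_gt (f164648 IH) (Lpe (f164370 IH) (Lpr_et (K10.f152044 IH) (Lpe (K24.f436239 IH) (Lpr_dt (f140731 IH) (Lpr_gt (f649297 IH) (Lpn v5774)))))))))))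
theorem f414324 : Led Lsl_et (LP (LK LD1_c9 LD2_c32 LD3_c29)) = (LP (LK LD1_c4 LD2_c49 LD3_c56)) :=
  Lre_e IH (LK LD1_c9 LD2_c32 LD3_c29) (LK LD1_c4 LD2_c49 LD3_c56) Lrfl Lrfl
theorem f539883 : Led Lsl_et (LP (LK LD1_c9 LD2_c48 LD3_c41)) = (LP (LK LD1_c4 LD2_c59 LD3_c6)) :=
  Lre_e IH (LK LD1_c9 LD2_c48 LD3_c41) (LK LD1_c4 LD2_c59 LD3_c6) Lrfl Lrfl
theorem f559530 : Led Lsl_df (LP (LK LD1_c9 LD2_c48 LD3_c41)) = (LP (LK LD1_c17 LD2_c54 LD3_c58)) :=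
  Lgr Lrot70 (Lpr_et (f539883 IH) (Lpr_dt (K37.f539833 IH) (Lpq (K36.f539826 IH) (Lpr_et (K40.f559526 IH) (Lpr_dt (K39.f172448 IH) (Lpr_et (K39.f424034 IH) (Lpn (LP (LK LD1_c17 LD2_c54 LD3_c58)))))))))
theorem f555998 : Led Lsl_at (LP (LK LD1_c11 LD2_c10 LD3_c60)) = (LP (LK LD1_c17 LD2_c54 LD3_c58)) :=
  Lgr Lrot100 (Lpr_af (K39.f555996 IH) (Lpn (LP (LK LD1_c17 LD2_c54 LD3_c58))))
theorem f559532 : Led Lsl_dt (LP (LK LD1_c5 LD2_c53 LD3_c3)) = (LP (LK LD1_c11 LD2_c10 LD3_c60)) :=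
  Lgr Lrot44 (Lpe (K40.f539881 IH) (Lpr_df (f559530 IH) (Lpe (f555998 IH) (Lpn (LP (LK LD1_c11 LD2_c10 LD3_c60))))))
theorem f449376 : Led Lsl_bt (LP (LK LD1_c2 LD2_c52 LD3_c49)) = (LP (LK LD1_c5 LD2_c53 LD3_c3)) :=
  Lre_b IH (LK LD1_c2 LD2_c52 LD3_c49) (LK LD1_c5 LD2_c53 LD3_c3) Lrfl Lrfl
theorem f424400 : Led Lsl_bt (LP (LK LD1_c11 LD2_c10 LD3_c60)) = (LP (LK LD1_c5 LD2_c40 LD3_c6)) :=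
  Lre_b IH (LK LD1_c11 LD2_c10 LD3_c60) (LK LD1_c5 LD2_c40 LD3_c6) Lrfl Lrfl
theorem f559535 : Led Lsl_df (LP (LK LD1_c2 LD2_c52 LD3_c49)) = (LP (LK LD1_c5 LD2_c40 LD3_c6)) :=
  Lgr Lrot12 (Lpr_bt (f449376 IH) (Lpr_dt (f559532 IH) (Lpr_bt (f424400 IH) (Lpn (LP (LK LD1_c5 LD2_c40 LD3_c6))))))
theorem f452502 : Led Lsl_et (LP (LK LD1_c5 LD2_c40 LD3_c6)) = (LP (LK LD1_c2 LD2_c45 LD3_c60)) :=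
  Lre_e IH (LK LD1_c5 LD2_c40 LD3_c6) (LK LD1_c2 LD2_c45 LD3_c60) Lrfl Lrfl
def v374 : LQ := Led Lsl_gt (LP (LK LD1_c0 LD2_c36 LD3_c38))
theorem f452501 : Led Lsl_gt (LP (LK LD1_c0 LD2_c36 LD3_c38)) = v374 :=
  Lrfl
theorem f494070 : Led Lsl_gt v374 = K35.v1218 :=
  Lgr Lrot46 (Lpe (f452501 IH) (Lpr_ft (K30.f354416 IH) (Lpr_at (K35.f494066 IH) (Lpn K35.v1218))))
theorem f537771 : v374 = (LP (LK LD1_c0 LD2_c40 LD3_c53)) :=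
  Lefun (Lecon (Lfl_gt (f494070 IH)) (K35.f537378 IH).symm) (K19.f176755 IH)
theorem f640923 : Led Lsl_dt (LP (LK LD1_c9 LD2_c32 LD3_c29)) = v4921 :=
  Lgr Lrot136 (Lpr_et (f414324 IH) (Lpe (K24.f414303 IH) (Lpe (f73866 IH) (Lpr_dt (K9.f60726 IH) (Lpq (f537771 IH) (Lpe (f452501 IH) (Lpe (K30.f354388 IH) (Lpe (K35.f354488 IH) (Lpe (f452502 IH) (Lpe (f559535 IH) (Lpr_gf (f640922 IH) (Lpn v4921))))))))))))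
theorem f640924 : Led Lsl_df (LP (LK LD1_c9 LD2_c32 LD3_c29)) = v4921 :=
  Lgr Lrot38 (Lpr_dt (f640923 IH) (Lpn v4921))
theorem f649302 : Led Lsl_ef v4921 = v5774 :=
  Lgr Lrot73 (Lpe (f640924 IH) (Lpr_et (f414324 IH) (Lpr_dt (K24.f414302 IH) (Lpr_et (K32.f454589 IH) (Lpr_dt (f649301 IH) (Lpn v5774))))))
theorem f454587 : Led Lsl_ct (LP (LK LD1_c1 LD2_c37 LD3_c14)) = (LP (LK LD1_c3 LD2_c21 LD3_c55)) :=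
  Lgr Lrot15 (Lpe (K24.f415306 IH) (Lpe (K24.f414301 IH) (Lpr_ef (K32.f454583 IH) (Lpn (LP (LK LD1_c3 LD2_c21 LD3_c55))))))
theorem f649299 : Led Lsl_df (LP (LK LD1_c3 LD2_c21 LD3_c55)) = v5774 :=
  Lgr Lrot84 (Lpe (f454587 IH) (Lpe (K32.f416138 IH) (Lpe (K32.f446233 IH) (Lpr_df (K32.f144065 IH) (Lpr_gf (K32.f151920 IH) (Lpr_cf (K7.f22554 IH) (Lpe (K24.f436239 IH) (Lpr_dt (f140731 IH) (Lpr_gt (f649297 IH) (Lpn v5774))))))))))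
def v4917 : LQ := Led Lsl_et (LP (LK LD1_c2 LD2_c52 LD3_c42))
theorem f640909 : Led Lsl_et (LP (LK LD1_c2 LD2_c52 LD3_c42)) = v4917 :=
  Lrfl
theorem f165061 : Led Lsl_et (LP (LK LD1_c4 LD2_c35 LD3_c8)) = (LP (LK LD1_c2 LD2_c14 LD3_c42)) :=
  Lre_e IH (LK LD1_c4 LD2_c35 LD3_c8) (LK LD1_c2 LD2_c14 LD3_c42) Lrfl Lrfl
def v1610 : LQ := Led Lsl_et (LP (LK LD1_c1 LD2_c22 LD3_c26))
theorem f500358 : Led Lsl_et (LP (LK LD1_c1 LD2_c22 LD3_c26)) = v1610 :=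
  Lrfl
def v8001 : LQ := Led Lsl_ft v1610
theorem f669603 : Led Lsl_ft v1610 = v8001 :=
  Lrfl
theorem f699743 : Led Lsl_et v8001 = v12943 :=
  Lgr Lrot69 (Lpe (f669603 IH) (Lpe (f500358 IH) (Lpr_ff (K36.f449386 IH) (Lpe (f165061 IH) (Lpr_ff (f699734 IH) (Lpn v12943))))))
theorem f163334 : Led Lsl_df (LP (LK LD1_c2 LD2_c13 LD3_c52)) = (LP (LK LD1_c1 LD2_c4 LD3_c15)) :=
  Lgr Lrot12 (Lpr_bt (K8.f58890 IH) (Lpr_dt (K8.f163332 IH) (Lpr_bt (K7.f71055 IH) (Lpn (LP (LK LD1_c1 LD2_c4 LD3_c15))))))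
def v1251 : LQ := Led Lsl_et (LP (LK LD1_c1 LD2_c4 LD3_c15))
theorem f494319 : Led Lsl_et (LP (LK LD1_c1 LD2_c4 LD3_c15)) = v1251 :=
  Lrfl
theorem f494321 : Led Lsl_ef (LP (LK LD1_c1 LD2_c4 LD3_c15)) = v1251 :=
  Lgr Lrot88 (Lpr_et (f494319 IH) (Lpn v1251))
theorem f537370 : (LP (LK LD1_c0 LD2_c38 LD3_c11)) = v1251 :=
  Lefun (Lecon (Lfl_ef (K35.f452802 IH)) (K40.f537157 IH)) (f494319 IH)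
theorem f500359 : Led Lsl_ef (LP (LK LD1_c1 LD2_c22 LD3_c26)) = v1610 :=
  Lgr Lrot88 (Lpr_et (f500358 IH) (Lpn v1610))
theorem f631716 : Led Lsl_df v1610 = v4184 :=
  Lgr Lrot70 (Lpe (f500359 IH) (Lpr_dt (K35.f210671 IH) (Lpqs (f537370 IH) (Lpe (f494321 IH) (Lpe (f163334 IH) (Lpr_et (f631714 IH) (Lpn v4184)))))))
theorem f669604 : Led Lsl_df v2181 = v8001 :=
  Lgr Lrot78 (Lpe (f653313 IH) (Lpe (f631716 IH) (Lpr_ft (f669603 IH) (Lpn v8001))))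
theorem f699746 : v4917 = v8730 :=
  (Llr Lrot121 (Lpe (f640909 IH) (Lpe (K32.f438451 IH) (Lpr_gf (K32.f454593 IH) (Lpr_df (f649299 IH) (Lpe (f649302 IH) (Lpr_gf (f699744 IH) (Lpe (f699743 IH) (Lpe (f669604 IH) (Lpe (f509499 IH) (Lpr_df (f509505 IH) (Lpr_gf (f672109 IH) (Lpn v8730))))))))))))).symm
def v5488 : LQ := Led Lsl_et (LP (LK LD1_c3 LD2_c8 LD3_c30))
theorem f647907 : Led Lsl_et (LP (LK LD1_c3 LD2_c8 LD3_c30)) = v5488 :=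
  Lrfl
theorem f640910 : Led Lsl_ef (LP (LK LD1_c2 LD2_c52 LD3_c42)) = v4917 :=
  Lgr Lrot88 (Lpr_et (f640909 IH) (Lpn v4917))
theorem f647909 : Led Lsl_df v4917 = v5488 :=
  Lgr Lrot70 (Lpe (f640910 IH) (Lpe (K32.f438451 IH) (Lpr_et (K32.f438459 IH) (Lpr_dt (K32.f438460 IH) (Lpr_et (f647907 IH) (Lpn v5488))))))
theorem f647910 : Led Lsl_ef (LP (LK LD1_c3 LD2_c8 LD3_c30)) = v5488 :=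
  Lgr Lrot88 (Lpr_et (f647907 IH) (Lpn v5488))
theorem f438472 : Led Lsl_dt (LP (LK LD1_c6 LD2_c21 LD3_c40)) = (LP (LK LD1_c4 LD2_c41 LD3_c15)) :=
  Lgr Lrot105 (Lpe (K32.f438471 IH) (Lpe (K32.f438460 IH) (Lpr_gf (K32.f438469 IH) (Lpr_cf (K6.f92135 IH) (Lpr_gt (K24.f68362 IH) (Lpr_dt (K24.f68373 IH) (Lpr_gt (K24.f416139 IH) (Lpr_dt (K24.f20130 IH) (Lpe (K35.f416141 IH) (Lpn (LP (LK LD1_c4 LD2_c41 LD3_c15))))))))))))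
theorem f537650 : Led Lsl_et (LP (LK LD1_c2 LD2_c51 LD3_c22)) = (LP (LK LD1_c5 LD2_c50 LD3_c23)) :=
  Lre_e IH (LK LD1_c2 LD2_c51 LD3_c22) (LK LD1_c5 LD2_c50 LD3_c23) Lrfl Lrfl
theorem f454205 : Led Lsl_et (LP (LK LD1_c4 LD2_c49 LD3_c61)) = (LP (LK LD1_c9 LD2_c32 LD3_c33)) :=
  Lre_e IH (LK LD1_c4 LD2_c49 LD3_c61) (LK LD1_c9 LD2_c32 LD3_c33) Lrfl Lrfl
theorem f705917 : Led Lsl_gt (LP (LK LD1_c5 LD2_c50 LD3_c23)) = (LP (LK LD1_c9 LD2_c32 LD3_c33)) :=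
  Lgr Lrot131 (Lpe (f537650 IH) (Lpr_dt (K41.f446048 IH) (Lpr_gf (K35.f622586 IH) (Lpe (f438472 IH) (Lpe (K32.f438471 IH) (Lpr_ef (f647910 IH) (Lpe (f647909 IH) (Lpqs (f699746 IH) (Lpr_gf (f705916 IH) (Lpe (f705908 IH) (Lpr_et (f454205 IH) (Lpn (LP (LK LD1_c9 LD2_c32 LD3_c33))))))))))))))
theorem f705918 : Led Lsl_gt (LP (LK LD1_c5 LD2_c50 LD3_c23)) = (LP (LK LD1_c9 LD2_c32 LD3_c33)) :=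
  Leop (Lpe (f705917 IH) (Lpn (LP (LK LD1_c5 LD2_c50 LD3_c23))))
theorem seed_697 : LEOK LG_g (LK LD1_c5 LD2_c50 LD3_c23) :=
  Leoe_g (LK LD1_c5 LD2_c50 LD3_c23) (f705918 IH)
theorem f631717 : Led Lsl_ef (LP (LK LD1_c2 LD2_c13 LD3_c52)) = v4184 :=
  Lgr Lrot88 (Lpr_et (f631714 IH) (Lpn v4184))
theorem f698812 : Led Lsl_bf v4184 = v12884 :=
  Lgr Lrot96 (Lpe (f631717 IH) (Lpr_bt (K8.f58890 IH) (Lpr_et (f698810 IH) (Lpn v12884))))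
theorem f58897 : Led Lsl_et (LP (LK LD1_c9 LD2_c13 LD3_c21)) = (LP (LK LD1_c4 LD2_c38 LD3_c46)) :=
  Lre_e IH (LK LD1_c9 LD2_c13 LD3_c21) (LK LD1_c4 LD2_c38 LD3_c46) Lrfl Lrfl
theorem f698813 : Led Lsl_cf (LP (LK LD1_c9 LD2_c13 LD3_c21)) = v12884 :=
  Lgr Lrot39 (Lpr_et (f58897 IH) (Lpe (K8.f58891 IH) (Lpr_et (f698810 IH) (Lpn v12884))))
theorem f705919 : Led Lsl_gf (LP (LK LD1_c5 LD2_c50 LD3_c23)) = (LP (LK LD1_c6 LD2_c46 LD3_c54)) :=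
  Lgr Lrot47 (Lpr_gt (f705917 IH) (Lpe (K24.f454186 IH) (Lpr_ff (K24.f454184 IH) (Lpn (LP (LK LD1_c6 LD2_c46 LD3_c54))))))
theorem f615373 : Led Lsl_df (LP (LK LD1_c2 LD2_c46 LD3_c15)) = (LP (LK LD1_c2 LD2_c51 LD3_c14)) :=
  Lgr Lrot38 (Lpr_dt (K41.f615367 IH) (Lpn (LP (LK LD1_c2 LD2_c51 LD3_c14))))
theorem f289447 : Led Lsl_gt (LP (LK LD1_c2 LD2_c46 LD3_c15)) = (LP (LK LD1_c5 LD2_c40 LD3_c38)) :=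
  Lre_g IH (LK LD1_c2 LD2_c46 LD3_c15) (LK LD1_c5 LD2_c40 LD3_c38) Lrfl Lrfl
theorem f454192 : Led Lsl_et (LP (LK LD1_c3 LD2_c21 LD3_c36)) = (LP (LK LD1_c6 LD2_c46 LD3_c54)) :=
  Lre_e IH (LK LD1_c3 LD2_c21 LD3_c36) (LK LD1_c6 LD2_c46 LD3_c54) Lrfl Lrfl
theorem f705921 : (LP (LK LD1_c5 LD2_c40 LD3_c38)) = K46.v6420 :=
  (Llr Lrot112 (Lpe (f289447 IH) (Lpr_df (f615373 IH) (Lpr_et (K41.f452688 IH) (Lpq (K41.f496456 IH) (Lpe (K41.f494345 IH) (Lpe (K7.f151977 IH) (Lpr_dt (K49.f599765 IH) (Lpe (K49.f422797 IH) (Lpe (K49.f599804 IH) (Lpr_gf (f705919 IH) (Lpe (f454192 IH) (Lpr_dt (K46.f653280 IH) (Lpn K46.v6420)))))))))))))).symm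
theorem f289489 : Led Lsl_ft (LP (LK LD1_c2 LD2_c46 LD3_c15)) = (LP (LK LD1_c5 LD2_c40 LD3_c40)) :=
  Lre_f IH (LK LD1_c2 LD2_c46 LD3_c15) (LK LD1_c5 LD2_c40 LD3_c40) Lrfl Lrfl
theorem f319495 : Led Lsl_gf (LP (LK LD1_c5 LD2_c37 LD3_c49)) = (LP (LK LD1_c5 LD2_c40 LD3_c38)) :=
  Lgr Lrot76 (Lpr_af (K20.f319478 IH) (Lpe (f289489 IH) (Lpr_gt (f289447 IH) (Lpn (LP (LK LD1_c5 LD2_c40 LD3_c38))))))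
theorem f289454 : Led Lsl_gt (LP (LK LD1_c5 LD2_c40 LD3_c39)) = (LP (LK LD1_c2 LD2_c46 LD3_c15)) :=
  Lre_g IH (LK LD1_c5 LD2_c40 LD3_c39) (LK LD1_c2 LD2_c46 LD3_c15) Lrfl Lrfl
theorem f402557 : Led Lsl_gt (LP (LK LD1_c5 LD2_c37 LD3_c49)) = (LP (LK LD1_c5 LD2_c40 LD3_c39)) :=
  Lgr Lrot5 (Lpr_ft (K20.f319468 IH) (Lpr_at (K41.f319460 IH) (Lpe (f289454 IH) (Lpn (LP (LK LD1_c5 LD2_c40 LD3_c39))))))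
theorem f705930 : Led Lsl_at K46.v6416 = (LP (LK LD1_c5 LD2_c40 LD3_c39)) :=
  Lgr Lrot26 (Lpr_ff (K46.f653284 IH) (Lpq (f705921 IH) (Lpe (f319495 IH) (Lpr_gt (f402557 IH) (Lpn (LP (LK LD1_c5 LD2_c40 LD3_c39)))))))
theorem f653283 : Led Lsl_df (LP (LK LD1_c3 LD2_c21 LD3_c36)) = K46.v6420 :=
  Lgr Lrot38 (Lpr_dt (K46.f653280 IH) (Lpn K46.v6420))
theorem f653331 : Led Lsl_at (LP (LK LD1_c5 LD2_c37 LD3_c47)) = K46.v6420 :=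
  Lgr Lrot51 (Lpe (K46.f643230 IH) (Lpe (K24.f454208 IH) (Lpr_df (f653283 IH) (Lpn K46.v6420))))
theorem f705936 : Led Lsl_ff (LP (LK LD1_c5 LD2_c37 LD3_c47)) = (LP (LK LD1_c5 LD2_c40 LD3_c39)) :=
  Lgr Lrot30 (Lpr_at (f653331 IH) (Lpe (K46.f653284 IH) (Lpr_at (f705930 IH) (Lpn (LP (LK LD1_c5 LD2_c40 LD3_c39))))))
theorem f705938 : Led Lsl_dt (LP (LK LD1_c6 LD2_c46 LD3_c32)) = (LP (LK LD1_c5 LD2_c40 LD3_c39)) :=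
  Lgr Lrot60 (Lpr_ff (K24.f454209 IH) (Lpr_df (K46.f643234 IH) (Lpr_ff (f705936 IH) (Lpn (LP (LK LD1_c5 LD2_c40 LD3_c39))))))
theorem f454232 : Led Lsl_et (LP (LK LD1_c6 LD2_c46 LD3_c32)) = (LP (LK LD1_c3 LD2_c21 LD3_c25)) :=
  Lre_e IH (LK LD1_c6 LD2_c46 LD3_c32) (LK LD1_c3 LD2_c21 LD3_c25) Lrfl Lrfl
def v4511 : LQ := Led Lsl_gt (LP (LK LD1_c2 LD2_c22 LD3_c46))
theorem f634311 : Led Lsl_gt (LP (LK LD1_c2 LD2_c22 LD3_c46)) = v4511 :=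
  Lrfl
theorem f413577 : Led Lsl_bt (LP (LK LD1_c1 LD2_c36 LD3_c58)) = (LP (LK LD1_c0 LD2_c44 LD3_c53)) :=
  Lre_b IH (LK LD1_c1 LD2_c36 LD3_c58) (LK LD1_c0 LD2_c44 LD3_c53) Lrfl Lrfl
theorem f23213 : Led Lsl_bt (LP (LK LD1_c1 LD2_c8 LD3_c29)) = (LP (LK LD1_c2 LD2_c22 LD3_c46)) :=
  Lre_b IH (LK LD1_c1 LD2_c8 LD3_c29) (LK LD1_c2 LD2_c22 LD3_c46) Lrfl Lrfl
theorem f454091 : Led Lsl_ff (LP (LK LD1_c1 LD2_c36 LD3_c58)) = (LP (LK LD1_c2 LD2_c22 LD3_c46)) :=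
  Lgr Lrot25 (Lpr_bt (f413577 IH) (Lpr_ft (K24.f454016 IH) (Lpqs (K24.f454086 IH) (Lpr_bt (f23213 IH) (Lpn (LP (LK LD1_c2 LD2_c22 LD3_c46)))))))
theorem f634312 : Led Lsl_gf (LP (LK LD1_c3 LD2_c21 LD3_c25)) = v4511 :=
  Lgr Lrot76 (Lpe (f454015 IH) (Lpr_ff (f454091 IH) (Lpr_gt (f634311 IH) (Lpn v4511))))
theorem f152008 : Led Lsl_dt (LP (LK LD1_c1 LD2_c4 LD3_c18)) = (LP (LK LD1_c0 LD2_c29 LD3_c25)) :=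
  Lre_d IH (LK LD1_c1 LD2_c4 LD3_c18) (LK LD1_c0 LD2_c29 LD3_c25) Lrfl Lrfl
theorem f705942 : v4511 = v4184 :=
  (Llr Lrot141 (Lpe (f634312 IH) (Lpe (f454232 IH) (Lpr_dt (f705938 IH) (Lpr_gt (f289454 IH) (Lpr_df (f615373 IH) (Lpr_et (K41.f452688 IH) (Lpq (K41.f496456 IH) (Lpe (K41.f494344 IH) (Lpr_dt (f152008 IH) (Lpr_gt (K7.f20545 IH) (Lpe (K8.f163340 IH) (Lpr_et (f631714 IH) (Lpn v4184)))))))))))))).symm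
theorem f141029 : Led Lsl_bt (LP (LK LD1_c2 LD2_c22 LD3_c26)) = (LP (LK LD1_c1 LD2_c8 LD3_c21)) :=
  Lre_b IH (LK LD1_c2 LD2_c22 LD3_c26) (LK LD1_c1 LD2_c8 LD3_c21) Lrfl Lrfl
theorem f139991 : Led Lsl_ct (LP (LK LD1_c2 LD2_c22 LD3_c26)) = (LP (LK LD1_c4 LD2_c49 LD3_c15)) :=
  Lre_c IH (LK LD1_c2 LD2_c22 LD3_c26) (LK LD1_c4 LD2_c49 LD3_c15) Lrfl Lrfl
def v13864 : LQ := Led Lsl_gf (LP (LK LD1_c4 LD2_c49 LD3_c15))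
theorem f705588 : Led Lsl_gf (LP (LK LD1_c4 LD2_c49 LD3_c15)) = v13864 :=
  Lrfl
theorem f705944 : (LP (LK LD1_c9 LD2_c13 LD3_c21)) = v13864 :=
  (Llr Lrot64 (Lpr_cf (f698813 IH) (Lpe (f698812 IH) (Lpq (f705942 IH) (Lpe (f634311 IH) (Lpe (f23213 IH) (Lpr_ct (K17.f23209 IH) (Lpe (K0.f23214 IH) (Lpe (K9.f139983 IH) (Lpe (K0.f27113 IH) (Lpe (f141029 IH) (Lpr_ct (f139991 IH) (Lpr_gf (f705588 IH) (Lpn v13864)))))))))))))).symm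
theorem f705945 : Led Lsl_gt (LP (LK LD1_c9 LD2_c13 LD3_c21)) = (LP (LK LD1_c4 LD2_c49 LD3_c15)) :=
  Leop (Lpr_gf (f705588 IH) (Lpq (f705944 IH) (Lpn (LP (LK LD1_c9 LD2_c13 LD3_c21)))))
theorem seed_698 : LEOK LG_g (LK LD1_c9 LD2_c13 LD3_c21) :=
  Leoe_g (LK LD1_c9 LD2_c13 LD3_c21) (f705945 IH)
theorem f644820 : Led Lsl_gt (LP (LK LD1_c3 LD2_c20 LD3_c40)) = (LP (LK LD1_c6 LD2_c45 LD3_c5)) :=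
  Lre_g IH (LK LD1_c3 LD2_c20 LD3_c40) (LK LD1_c6 LD2_c45 LD3_c5) Lrfl Lrfl
theorem f509313 : Led Lsl_ft (LP (LK LD1_c3 LD2_c20 LD3_c40)) = (LP (LK LD1_c6 LD2_c45 LD3_c7)) :=
  Lre_f IH (LK LD1_c3 LD2_c20 LD3_c40) (LK LD1_c6 LD2_c45 LD3_c7) Lrfl Lrfl
theorem f653021 : Led Lsl_ff (LP (LK LD1_c6 LD2_c32 LD3_c40)) = K46.v6369 :=
  Lgr Lrot25 (Lpr_bt (K42.f435446 IH) (Lpe (K48.f507739 IH) (Lpr_bt (K46.f653017 IH) (Lpn K46.v6369))))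
theorem f615035 : Led Lsl_at (LP (LK LD1_c6 LD2_c32 LD3_c40)) = (LP (LK LD1_c6 LD2_c44 LD3_c31)) :=
  Lgr Lrot100 (Lpr_af (K42.f615009 IH) (Lpn (LP (LK LD1_c6 LD2_c44 LD3_c31))))
theorem f653022 : Led Lsl_at (LP (LK LD1_c12 LD2_c53 LD3_c33)) = K46.v6369 :=
  Lgr Lrot66 (Lpe (K42.f206825 IH) (Lpe (f615035 IH) (Lpr_ff (f653021 IH) (Lpn K46.v6369))))
theorem f639705 : Led Lsl_et (LP (LK LD1_c9 LD2_c17 LD3_c23)) = (LP (LK LD1_c4 LD2_c40 LD3_c57)) :=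
  Lre_e IH (LK LD1_c9 LD2_c17 LD3_c23) (LK LD1_c4 LD2_c40 LD3_c57) Lrfl Lrfl
def v13171 : LQ := Led Lsl_gt (LP (LK LD1_c4 LD2_c40 LD3_c57))
theorem f701508 : Led Lsl_gt (LP (LK LD1_c4 LD2_c40 LD3_c57)) = v13171 :=
  Lrfl
theorem f140656 : Led Lsl_bt (LP (LK LD1_c3 LD2_c2 LD3_c35)) = (LP (LK LD1_c6 LD2_c12 LD3_c2)) :=
  Lre_b IH (LK LD1_c3 LD2_c2 LD3_c35) (LK LD1_c6 LD2_c12 LD3_c2) Lrfl Lrfl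
theorem f416616 : Led Lsl_bt (LP (LK LD1_c9 LD2_c17 LD3_c22)) = (LP (LK LD1_c4 LD2_c40 LD3_c58)) :=
  Lre_b IH (LK LD1_c9 LD2_c17 LD3_c22) (LK LD1_c4 LD2_c40 LD3_c58) Lrfl Lrfl
theorem f639696 : Led Lsl_ft (LP (LK LD1_c6 LD2_c12 LD3_c2)) = (LP (LK LD1_c9 LD2_c17 LD3_c22)) :=
  Lgr Lrot75 (Lpe (f140656 IH) (Lpr_ff (f639692 IH) (Lpe (f416616 IH) (Lpn (LP (LK LD1_c9 LD2_c17 LD3_c22))))))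
theorem f639700 : Led Lsl_dt (LP (LK LD1_c9 LD2_c17 LD3_c22)) = (LP (LK LD1_c4 LD2_c40 LD3_c57)) :=
  Lre_d IH (LK LD1_c9 LD2_c17 LD3_c22) (LK LD1_c4 LD2_c40 LD3_c57) Lrfl Lrfl
theorem f639701 : Led Lsl_ff (LP (LK LD1_c3 LD2_c2 LD3_c34)) = (LP (LK LD1_c4 LD2_c40 LD3_c57)) :=
  Lgr Lrot19 (Lpr_dt (f59868 IH) (Lpr_ft (f639696 IH) (Lpr_dt (f639700 IH) (Lpn (LP (LK LD1_c4 LD2_c40 LD3_c57))))))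
def v5251 : LQ := Led Lsl_at (LP (LK LD1_c3 LD2_c2 LD3_c34))
theorem f646799 : Led Lsl_at (LP (LK LD1_c3 LD2_c2 LD3_c34)) = v5251 :=
  Lrfl
theorem f701509 : Led Lsl_gf v5251 = v13171 :=
  Lgr Lrot76 (Lpe (f646799 IH) (Lpr_ff (f639701 IH) (Lpr_gt (f701508 IH) (Lpn v13171))))
theorem f141816 : Led Lsl_gt (LP (LK LD1_c2 LD2_c54 LD3_c35)) = (LP (LK LD1_c5 LD2_c56 LD3_c32)) :=
  Lre_g IH (LK LD1_c2 LD2_c54 LD3_c35) (LK LD1_c5 LD2_c56 LD3_c32) Lrfl Lrfl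
theorem f73029 : Led Lsl_gt (LP (LK LD1_c3 LD2_c2 LD3_c31)) = (LP (LK LD1_c1 LD2_c27 LD3_c14)) :=
  Lre_g IH (LK LD1_c3 LD2_c2 LD3_c31) (LK LD1_c1 LD2_c27 LD3_c14) Lrfl Lrfl
theorem f73054 : Led Lsl_dt (LP (LK LD1_c6 LD2_c11 LD3_c57)) = (LP (LK LD1_c3 LD2_c2 LD3_c31)) :=
  Lre_d IH (LK LD1_c6 LD2_c11 LD3_c57) (LK LD1_c3 LD2_c2 LD3_c31) Lrfl Lrfl
theorem f281972 : Led Lsl_et (LP (LK LD1_c5 LD2_c42 LD3_c52)) = (LP (LK LD1_c2 LD2_c47 LD3_c24)) :=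
  Lre_e IH (LK LD1_c5 LD2_c42 LD3_c52) (LK LD1_c2 LD2_c47 LD3_c24) Lrfl Lrfl
theorem f72998 : Led Lsl_et (LP (LK LD1_c3 LD2_c2 LD3_c29)) = (LP (LK LD1_c1 LD2_c27 LD3_c13)) :=
  Lre_e IH (LK LD1_c3 LD2_c2 LD3_c29) (LK LD1_c1 LD2_c27 LD3_c13) Lrfl Lrfl
theorem f549523 : Led Lsl_df (LP (LK LD1_c3 LD2_c2 LD3_c29)) = (LP (LK LD1_c5 LD2_c42 LD3_c52)) :=
  Lgr Lrot70 (Lpr_et (f72998 IH) (Lpe (K4.f72972 IH) (Lpr_et (K35.f72981 IH) (Lpr_dt (K38.f549518 IH) (Lpr_et (K40.f549522 IH) (Lpn (LP (LK LD1_c5 LD2_c42 LD3_c52))))))))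
theorem f61456 : Led Lsl_gt (LP (LK LD1_c6 LD2_c11 LD3_c51)) = (LP (LK LD1_c3 LD2_c2 LD3_c29)) :=
  Lre_g IH (LK LD1_c6 LD2_c11 LD3_c51) (LK LD1_c3 LD2_c2 LD3_c29) Lrfl Lrfl
theorem f61467 : Led Lsl_dt (LP (LK LD1_c12 LD2_c3 LD3_c32)) = (LP (LK LD1_c6 LD2_c11 LD3_c51)) :=
  Lre_d IH (LK LD1_c12 LD2_c3 LD3_c32) (LK LD1_c6 LD2_c11 LD3_c51) Lrfl Lrfl
theorem f163560 : Led Lsl_et (LP (LK LD1_c2 LD2_c51 LD3_c17)) = (LP (LK LD1_c1 LD2_c21 LD3_c42)) :=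
  Lre_e IH (LK LD1_c2 LD2_c51 LD3_c17) (LK LD1_c1 LD2_c21 LD3_c42) Lrfl Lrfl
theorem f579071 : Led Lsl_gf (LP (LK LD1_c7 LD2_c59 LD3_c11)) = (LP (LK LD1_c4 LD2_c57 LD3_c15)) :=
  Lgr Lrot144 (Lpr_dt (K43.f579061 IH) (Lpr_gt (K40.f60801 IH) (Lpr_dt (K37.f60800 IH) (Lpe (K2.f60470 IH) (Lpe (K39.f60788 IH) (Lpr_gf (K45.f551687 IH) (Lpe (K30.f269069 IH) (Lpr_gf (K30.f411800 IH) (Lpe (K36.f411805 IH) (Lpn (LP (LK LD1_c4 LD2_c57 LD3_c15))))))))))))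
theorem f411810 : Led Lsl_dt (LP (LK LD1_c9 LD2_c45 LD3_c31)) = (LP (LK LD1_c4 LD2_c57 LD3_c15)) :=
  Lre_d IH (LK LD1_c9 LD2_c45 LD3_c31) (LK LD1_c4 LD2_c57 LD3_c15) Lrfl Lrfl
theorem f579073 : Led Lsl_gf (LP (LK LD1_c9 LD2_c45 LD3_c31)) = (LP (LK LD1_c4 LD2_c57 LD3_c33)) :=
  Lgr Lrot148 (Lpr_dt (f411810 IH) (Lpe (f579071 IH) (Lpr_dt (K43.f579061 IH) (Lpr_ct (K40.f561681 IH) (Lpe (K39.f411951 IH) (Lpe (K39.f423433 IH) (Lpe (K31.f385548 IH) (Lpe (K40.f423507 IH) (Lpr_ct (K43.f174135 IH) (Lpn (LP (LK LD1_c4 LD2_c57 LD3_c33))))))))))))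
theorem f536079 : Led Lsl_dt (LP (LK LD1_c5 LD2_c40 LD3_c1)) = K36.v2887 :=
  Lgr Lrot27 (Lpr_cf (K36.f424439 IH) (Lpr_gf (K31.f385558 IH) (Lpe (K30.f175989 IH) (Lpe (K36.f411974 IH) (Lpe (K31.f174964 IH) (Lpr_gt (K36.f380611 IH) (Lpr_ct (K31.f268858 IH) (Lpe (K31.f281794 IH) (Lpr_ct (K36.f536078 IH) (Lpn K36.v2887))))))))))
theorem f559549 : Led Lsl_ft (LP (LK LD1_c9 LD2_c0 LD3_c10)) = (LP (LK LD1_c5 LD2_c40 LD3_c1)) :=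
  Lgr Lrot54 (Lpr_df (K30.f418798 IH) (Lpr_ff (K40.f559547 IH) (Lpqs (K38.f537430 IH) (Lpq (K38.f537430 IH) (Lpe (f536079 IH) (Lpn (LP (LK LD1_c5 LD2_c40 LD3_c1))))))))
theorem f606279 : Led Lsl_af (LP (LK LD1_c9 LD2_c45 LD3_c31)) = (LP (LK LD1_c5 LD2_c40 LD3_c1)) :=
  Lgr Lrot31 (Lpr_gf (f579073 IH) (Lpe (K40.f559566 IH) (Lpr_ft (f559549 IH) (Lpn (LP (LK LD1_c5 LD2_c40 LD3_c1))))))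
theorem f606283 : Led Lsl_at (LP (LK LD1_c9 LD2_c4 LD3_c41)) = (LP (LK LD1_c5 LD2_c45 LD3_c10)) :=
  Lgr Lrot107 (Lpe (K39.f411817 IH) (Lpr_af (f606279 IH) (Lpr_cf (K36.f424439 IH) (Lpn (LP (LK LD1_c5 LD2_c45 LD3_c10))))))
theorem f606291 : Led Lsl_ff (LP (LK LD1_c9 LD2_c4 LD3_c41)) = (LP (LK LD1_c5 LD2_c45 LD3_c9)) :=
  Lgr Lrot52 (Lpr_at (f606283 IH) (Lpr_gf (K31.f385558 IH) (Lpr_gf (K37.f386181 IH) (Lpn (LP (LK LD1_c5 LD2_c45 LD3_c9))))))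
theorem f606296 : Led Lsl_ft (LP (LK LD1_c9 LD2_c4 LD3_c41)) = (LP (LK LD1_c5 LD2_c45 LD3_c9)) :=
  Lgr Lrot48 (Lpr_ff (f606291 IH) (Lpn (LP (LK LD1_c5 LD2_c45 LD3_c9))))
theorem f606301 : Led Lsl_af (LP (LK LD1_c9 LD2_c4 LD3_c42)) = (LP (LK LD1_c5 LD2_c45 LD3_c9)) :=
  Lgr Lrot31 (Lpr_gf (K30.f386338 IH) (Lpe (K39.f385235 IH) (Lpr_ft (f606296 IH) (Lpn (LP (LK LD1_c5 LD2_c45 LD3_c9))))))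
theorem f606285 : Led Lsl_af (LP (LK LD1_c9 LD2_c4 LD3_c41)) = (LP (LK LD1_c5 LD2_c45 LD3_c10)) :=
  Lgr Lrot0 (Lpr_at (f606283 IH) (Lpn (LP (LK LD1_c5 LD2_c45 LD3_c10))))
theorem f606311 : Led Lsl_ft (LP (LK LD1_c9 LD2_c4 LD3_c42)) = (LP (LK LD1_c5 LD2_c45 LD3_c10)) :=
  Lgr Lrot101 (Lpr_af (f606301 IH) (Lpe (f606296 IH) (Lpr_af (f606285 IH) (Lpn (LP (LK LD1_c5 LD2_c45 LD3_c10))))))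
theorem f606319 : Led Lsl_ff (LP (LK LD1_c9 LD2_c4 LD3_c42)) = (LP (LK LD1_c5 LD2_c45 LD3_c10)) :=
  Lgr Lrot3 (Lpr_ft (f606311 IH) (Lpn (LP (LK LD1_c5 LD2_c45 LD3_c10))))
theorem f386351 : Led Lsl_bt (LP (LK LD1_c9 LD2_c4 LD3_c42)) = (LP (LK LD1_c16 LD2_c56 LD3_c23)) :=
  Lre_b IH (LK LD1_c9 LD2_c4 LD3_c42) (LK LD1_c16 LD2_c56 LD3_c23) Lrfl Lrfl
theorem f385808 : Led Lsl_bt (LP (LK LD1_c11 LD2_c20 LD3_c49)) = (LP (LK LD1_c5 LD2_c45 LD3_c10)) :=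
  Lre_b IH (LK LD1_c11 LD2_c20 LD3_c49) (LK LD1_c5 LD2_c45 LD3_c10) Lrfl Lrfl
theorem f606321 : Led Lsl_ft (LP (LK LD1_c16 LD2_c56 LD3_c23)) = (LP (LK LD1_c11 LD2_c20 LD3_c49)) :=
  Lgr Lrot75 (Lpe (f386351 IH) (Lpr_ff (f606319 IH) (Lpe (f385808 IH) (Lpn (LP (LK LD1_c11 LD2_c20 LD3_c49))))))
theorem f354423 : Led Lsl_bt (LP (LK LD1_c9 LD2_c0 LD3_c11)) = (LP (LK LD1_c16 LD2_c49 LD3_c37)) :=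
  Lre_b IH (LK LD1_c9 LD2_c0 LD3_c11) (LK LD1_c16 LD2_c49 LD3_c37) Lrfl Lrfl
theorem f386342 : Led Lsl_bt (LP (LK LD1_c16 LD2_c56 LD3_c23)) = (LP (LK LD1_c9 LD2_c4 LD3_c42)) :=
  Lre_b IH (LK LD1_c16 LD2_c56 LD3_c23) (LK LD1_c9 LD2_c4 LD3_c42) Lrfl Lrfl
theorem f418794 : Led Lsl_ct (LP (LK LD1_c16 LD2_c49 LD3_c37)) = (LP (LK LD1_c16 LD2_c56 LD3_c23)) :=
  Lgr Lrot83 (Lpe (f354423 IH) (Lpe (K39.f354421 IH) (Lpe (K30.f354422 IH) (Lpr_cf (K30.f418780 IH) (Lpe (f386342 IH) (Lpn (LP (LK LD1_c16 LD2_c56 LD3_c23))))))))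
theorem f424435 : Led Lsl_bt (LP (LK LD1_c2 LD2_c45 LD3_c59)) = (LP (LK LD1_c5 LD2_c40 LD3_c1)) :=
  Lre_b IH (LK LD1_c2 LD2_c45 LD3_c59) (LK LD1_c5 LD2_c40 LD3_c1) Lrfl Lrfl
theorem f354493 : Led Lsl_ct (LP (LK LD1_c5 LD2_c40 LD3_c2)) = (LP (LK LD1_c2 LD2_c45 LD3_c59)) :=
  Lre_c IH (LK LD1_c5 LD2_c40 LD3_c2) (LK LD1_c2 LD2_c45 LD3_c59) Lrfl Lrfl
theorem f424436 : Led Lsl_bt (LP (LK LD1_c11 LD2_c10 LD3_c58)) = (LP (LK LD1_c5 LD2_c40 LD3_c2)) :=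
  Lre_b IH (LK LD1_c11 LD2_c10 LD3_c58) (LK LD1_c5 LD2_c40 LD3_c2) Lrfl Lrfl
theorem f385813 : Led Lsl_bt (LP (LK LD1_c5 LD2_c45 LD3_c10)) = (LP (LK LD1_c11 LD2_c20 LD3_c49)) :=
  Lre_b IH (LK LD1_c5 LD2_c45 LD3_c10) (LK LD1_c11 LD2_c20 LD3_c49) Lrfl Lrfl
theorem f424437 : Led Lsl_cf (LP (LK LD1_c11 LD2_c10 LD3_c58)) = (LP (LK LD1_c11 LD2_c20 LD3_c49)) :=
  Lgr Lrot97 (Lpr_bt (f424436 IH) (Lpr_ct (f354493 IH) (Lpr_bt (f424435 IH) (Lpr_ct (K36.f424386 IH) (Lpr_bt (f385813 IH) (Lpn (LP (LK LD1_c11 LD2_c20 LD3_c49))))))))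
theorem f606331 : Led Lsl_ff (LP (LK LD1_c16 LD2_c49 LD3_c37)) = (LP (LK LD1_c11 LD2_c10 LD3_c58)) :=
  Lgr Lrot23 (Lpr_ct (f418794 IH) (Lpr_ft (f606321 IH) (Lpe (f424437 IH) (Lpn (LP (LK LD1_c11 LD2_c10 LD3_c58))))))
theorem f606337 : Led Lsl_ft (LP (LK LD1_c16 LD2_c49 LD3_c37)) = (LP (LK LD1_c11 LD2_c10 LD3_c58)) :=
  Lgr Lrot48 (Lpr_ff (f606331 IH) (Lpn (LP (LK LD1_c11 LD2_c10 LD3_c58))))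
theorem f606339 : Led Lsl_ff (LP (LK LD1_c9 LD2_c0 LD3_c11)) = (LP (LK LD1_c5 LD2_c40 LD3_c2)) :=
  Lgr Lrot25 (Lpr_bt (f354423 IH) (Lpr_ft (f606337 IH) (Lpr_bt (f424436 IH) (Lpn (LP (LK LD1_c5 LD2_c40 LD3_c2))))))
theorem f68716 : Led Lsl_dt (LP (LK LD1_c5 LD2_c42 LD3_c24)) = (LP (LK LD1_c2 LD2_c47 LD3_c9)) :=
  Lre_d IH (LK LD1_c5 LD2_c42 LD3_c24) (LK LD1_c2 LD2_c47 LD3_c9) Lrfl Lrfl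
theorem f549354 : Led Lsl_df (LP (LK LD1_c5 LD2_c40 LD3_c2)) = (LP (LK LD1_c9 LD2_c0 LD3_c14)) :=
  Lgr Lrot84 (Lpe (K39.f424384 IH) (Lpqs (K36.f537436 IH) (Lpe (K36.f495729 IH) (Lpqs (K36.f537175 IH) (Lpe (K36.f452544 IH) (Lpe (K24.f379937 IH) (Lpq (K37.f537181 IH) (Lpe (K37.f496005 IH) (Lpe (K17.f73140 IH) (Lpr_gt (K39.f412338 IH) (Lpe (K16.f268645 IH) (Lpr_gt (K39.f549347 IH) (Lpn (LP (LK LD1_c9 LD2_c0 LD3_c14)))))))))))))))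
theorem f549356 : Led Lsl_gf (LP (LK LD1_c5 LD2_c42 LD3_c24)) = (LP (LK LD1_c5 LD2_c40 LD3_c2)) :=
  Lgr Lrot154 (Lpr_dt (f68716 IH) (Lpr_ct (K40.f68598 IH) (Lpe (K10.f68578 IH) (Lpr_gf (K11.f68596 IH) (Lpe (K10.f60181 IH) (Lpe (K10.f60213 IH) (Lpr_ct (K16.f60129 IH) (Lpr_gt (K39.f549347 IH) (Lpe (f549354 IH) (Lpn (LP (LK LD1_c5 LD2_c40 LD3_c2))))))))))))
theorem f606345 : Led Lsl_at (LP (LK LD1_c9 LD2_c0 LD3_c11)) = (LP (LK LD1_c5 LD2_c40 LD3_c5)) :=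
  Lgr Lrot26 (Lpr_ff (f606339 IH) (Lpe (f549356 IH) (Lpr_gt (K40.f553562 IH) (Lpn (LP (LK LD1_c5 LD2_c40 LD3_c5))))))
theorem f606343 : Led Lsl_ft (LP (LK LD1_c5 LD2_c40 LD3_c5)) = (LP (LK LD1_c9 LD2_c0 LD3_c14)) :=
  Lgr Lrot54 (Lpr_df (K40.f553546 IH) (Lpr_ff (f606339 IH) (Lpr_df (f549354 IH) (Lpn (LP (LK LD1_c9 LD2_c0 LD3_c14))))))
theorem f606353 : Led Lsl_af (LP (LK LD1_c5 LD2_c40 LD3_c2)) = (LP (LK LD1_c9 LD2_c0 LD3_c14)) :=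
  Lgr Lrot45 (Lpe (f606339 IH) (Lpr_at (f606345 IH) (Lpr_ft (f606343 IH) (Lpn (LP (LK LD1_c9 LD2_c0 LD3_c14))))))
theorem f553719 : Led Lsl_et (LP (LK LD1_c5 LD2_c40 LD3_c2)) = (LP (LK LD1_c11 LD2_c10 LD3_c59)) :=
  Lre_e IH (LK LD1_c5 LD2_c40 LD3_c2) (LK LD1_c11 LD2_c10 LD3_c59) Lrfl Lrfl
theorem f549363 : Led Lsl_et (LP (LK LD1_c16 LD2_c49 LD3_c41)) = (LP (LK LD1_c9 LD2_c0 LD3_c14)) :=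
  Lre_e IH (LK LD1_c16 LD2_c49 LD3_c41) (LK LD1_c9 LD2_c0 LD3_c14) Lrfl Lrfl
theorem f606362 : Led Lsl_at (LP (LK LD1_c11 LD2_c10 LD3_c59)) = (LP (LK LD1_c16 LD2_c49 LD3_c41)) :=
  Lgr Lrot80 (Lpe (f553719 IH) (Lpr_af (f606353 IH) (Lpe (f549363 IH) (Lpn (LP (LK LD1_c16 LD2_c49 LD3_c41))))))
theorem f424447 : Led Lsl_ct (LP (LK LD1_c5 LD2_c40 LD3_c3)) = (LP (LK LD1_c11 LD2_c10 LD3_c59)) :=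
  Lre_c IH (LK LD1_c5 LD2_c40 LD3_c3) (LK LD1_c11 LD2_c10 LD3_c59) Lrfl Lrfl
theorem f382439 : Led Lsl_ct (LP (LK LD1_c16 LD2_c49 LD3_c41)) = (LP (LK LD1_c9 LD2_c0 LD3_c15)) :=
  Lre_c IH (LK LD1_c16 LD2_c49 LD3_c41) (LK LD1_c9 LD2_c0 LD3_c15) Lrfl Lrfl
theorem f606366 : Led Lsl_af (LP (LK LD1_c5 LD2_c40 LD3_c3)) = (LP (LK LD1_c9 LD2_c0 LD3_c15)) :=
  Lgr Lrot68 (Lpr_ct (f424447 IH) (Lpr_at (f606362 IH) (Lpr_ct (f382439 IH) (Lpn (LP (LK LD1_c9 LD2_c0 LD3_c15))))))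
theorem f211794 : Led Lsl_bt (LP (LK LD1_c2 LD2_c46 LD3_c22)) = (LP (LK LD1_c1 LD2_c19 LD3_c32)) :=
  Lre_b IH (LK LD1_c2 LD2_c46 LD3_c22) (LK LD1_c1 LD2_c19 LD3_c32) Lrfl Lrfl
theorem f211795 : Led Lsl_et (LP (LK LD1_c1 LD2_c22 LD3_c27)) = (LP (LK LD1_c2 LD2_c46 LD3_c22)) :=
  Lgr Lrot74 (Lpe (K36.f211760 IH) (Lpr_ef (K39.f211792 IH) (Lpe (f211794 IH) (Lpn (LP (LK LD1_c2 LD2_c46 LD3_c22))))))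
theorem f424527 : Led Lsl_bt (LP (LK LD1_c1 LD2_c4 LD3_c16)) = (LP (LK LD1_c2 LD2_c14 LD3_c23)) :=
  Lre_b IH (LK LD1_c1 LD2_c4 LD3_c16) (LK LD1_c2 LD2_c14 LD3_c23) Lrfl Lrfl
theorem f424528 : Led Lsl_ff (LP (LK LD1_c1 LD2_c22 LD3_c14)) = (LP (LK LD1_c2 LD2_c14 LD3_c23)) :=
  Lgr Lrot25 (Lpr_bt (K8.f22818 IH) (Lpr_ft (K35.f424523 IH) (Lpr_bt (f424527 IH) (Lpn (LP (LK LD1_c2 LD2_c14 LD3_c23))))))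
theorem f555974 : Led Lsl_ef (LP (LK LD1_c2 LD2_c14 LD3_c23)) = (LP (LK LD1_c4 LD2_c31 LD3_c48)) :=
  Lgr Lrot21 (Lpe (f424528 IH) (Lpr_et (K36.f500290 IH) (Lpqs (K36.f537720 IH) (Lpe (K36.f449305 IH) (Lpr_et (f211795 IH) (Lpq (K39.f537442 IH) (Lpr_ft (K39.f555970 IH) (Lpn (LP (LK LD1_c4 LD2_c31 LD3_c48))))))))))
theorem f58884 : Led Lsl_et (LP (LK LD1_c4 LD2_c33 LD3_c59)) = (LP (LK LD1_c9 LD2_c5 LD3_c28)) :=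
  Lre_e IH (LK LD1_c4 LD2_c33 LD3_c59) (LK LD1_c9 LD2_c5 LD3_c28) Lrfl Lrfl
theorem f382429 : Led Lsl_et (LP (LK LD1_c16 LD2_c49 LD3_c39)) = (LP (LK LD1_c9 LD2_c0 LD3_c13)) :=
  Lre_e IH (LK LD1_c16 LD2_c49 LD3_c39) (LK LD1_c9 LD2_c0 LD3_c13) Lrfl Lrfl
theorem f555976 : Led Lsl_dt (LP (LK LD1_c9 LD2_c5 LD3_c28)) = (LP (LK LD1_c16 LD2_c49 LD3_c39)) :=
  Lgr Lrot77 (Lpe (f58884 IH) (Lpr_df (K35.f424537 IH) (Lpr_ef (f555974 IH) (Lpr_df (K39.f495868 IH) (Lpe (f382429 IH) (Lpn (LP (LK LD1_c16 LD2_c49 LD3_c39))))))))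
theorem f555980 : Led Lsl_df (LP (LK LD1_c9 LD2_c5 LD3_c28)) = (LP (LK LD1_c16 LD2_c49 LD3_c39)) :=
  Lgr Lrot38 (Lpr_dt (f555976 IH) (Lpn (LP (LK LD1_c16 LD2_c49 LD3_c39))))
theorem f58876 : Led Lsl_bt (LP (LK LD1_c9 LD2_c5 LD3_c28)) = (LP (LK LD1_c4 LD2_c33 LD3_c60)) :=
  Lre_b IH (LK LD1_c9 LD2_c5 LD3_c28) (LK LD1_c4 LD2_c33 LD3_c60) Lrfl Lrfl
theorem f382438 : Led Lsl_bt (LP (LK LD1_c9 LD2_c0 LD3_c15)) = (LP (LK LD1_c16 LD2_c49 LD3_c39)) :=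
  Lre_b IH (LK LD1_c9 LD2_c0 LD3_c15) (LK LD1_c16 LD2_c49 LD3_c39) Lrfl Lrfl
theorem f555982 : Led Lsl_dt (LP (LK LD1_c4 LD2_c33 LD3_c60)) = (LP (LK LD1_c9 LD2_c0 LD3_c15)) :=
  Lgr Lrot79 (Lpe (f58876 IH) (Lpr_df (f555980 IH) (Lpe (f382438 IH) (Lpn (LP (LK LD1_c9 LD2_c0 LD3_c15))))))
theorem f203178 : Led Lsl_at (LP (LK LD1_c2 LD2_c13 LD3_c53)) = (LP (LK LD1_c1 LD2_c21 LD3_c42)) :=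
  Lgr Lrot26 (Lpr_ff (K38.f203175 IH) (Lpr_gt (K7.f26481 IH) (Lpr_gt (K6.f26488 IH) (Lpn (LP (LK LD1_c1 LD2_c21 LD3_c42))))))
theorem f203174 : Led Lsl_et (LP (LK LD1_c4 LD2_c33 LD3_c60)) = (LP (LK LD1_c2 LD2_c13 LD3_c53)) :=
  Lre_e IH (LK LD1_c4 LD2_c33 LD3_c60) (LK LD1_c2 LD2_c13 LD3_c53) Lrfl Lrfl
theorem f163563 : Led Lsl_et (LP (LK LD1_c1 LD2_c21 LD3_c42)) = (LP (LK LD1_c2 LD2_c51 LD3_c17)) :=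
  Lre_e IH (LK LD1_c1 LD2_c21 LD3_c42) (LK LD1_c2 LD2_c51 LD3_c17) Lrfl Lrfl
theorem f203180 : Led Lsl_af (LP (LK LD1_c4 LD2_c33 LD3_c60)) = (LP (LK LD1_c2 LD2_c51 LD3_c17)) :=
  Lgr Lrot50 (Lpr_et (f203174 IH) (Lpr_at (f203178 IH) (Lpr_et (f163563 IH) (Lpn (LP (LK LD1_c2 LD2_c51 LD3_c17))))))
theorem f606370 : Led Lsl_dt (LP (LK LD1_c5 LD2_c40 LD3_c3)) = (LP (LK LD1_c2 LD2_c51 LD3_c17)) :=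
  Lgr Lrot44 (Lpr_af (f606366 IH) (Lpe (f555982 IH) (Lpr_af (f203180 IH) (Lpn (LP (LK LD1_c2 LD2_c51 LD3_c17))))))
theorem f606374 : Led Lsl_df (LP (LK LD1_c5 LD2_c40 LD3_c3)) = (LP (LK LD1_c2 LD2_c51 LD3_c17)) :=
  Lgr Lrot38 (Lpr_dt (f606370 IH) (Lpn (LP (LK LD1_c2 LD2_c51 LD3_c17))))
def v4868 : LQ := Led Lsl_gt (LP (LK LD1_c2 LD2_c51 LD3_c14))
theorem f640648 : Led Lsl_gt (LP (LK LD1_c2 LD2_c51 LD3_c14)) = v4868 :=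
  Lrfl
theorem f640801 : Led Lsl_ft (LP (LK LD1_c5 LD2_c50 LD3_c8)) = (LP (LK LD1_c5 LD2_c52 LD3_c9)) :=
  Lgr Lrot48 (Lpr_ff (K41.f640793 IH) (Lpn (LP (LK LD1_c5 LD2_c52 LD3_c9))))
theorem f640810 : Led Lsl_af v4868 = (LP (LK LD1_c5 LD2_c52 LD3_c9)) :=
  Lgr Lrot31 (Lpe (f640648 IH) (Lpe (K41.f496477 IH) (Lpr_ft (f640801 IH) (Lpn (LP (LK LD1_c5 LD2_c52 LD3_c9))))))
theorem f503809 : Led Lsl_ft (LP (LK LD1_c3 LD2_c59 LD3_c13)) = (LP (LK LD1_c2 LD2_c26 LD3_c47)) :=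
  Lgr Lrot54 (Lpe (K32.f454661 IH) (Lpr_ff (f503803 IH) (Lpr_df (K32.f416258 IH) (Lpn (LP (LK LD1_c2 LD2_c26 LD3_c47))))))
theorem f503815 : Led Lsl_ff (LP (LK LD1_c2 LD2_c48 LD3_c38)) = (LP (LK LD1_c4 LD2_c33 LD3_c41)) :=
  Lgr Lrot23 (Lpr_ct (K35.f415985 IH) (Lpr_ft (f503809 IH) (Lpe (K32.f416267 IH) (Lpn (LP (LK LD1_c4 LD2_c33 LD3_c41))))))
theorem f503819 : Led Lsl_at (LP (LK LD1_c2 LD2_c48 LD3_c38)) = (LP (LK LD1_c4 LD2_c33 LD3_c40)) :=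
  Lgr Lrot26 (Lpr_ff (f503815 IH) (Lpr_gt (K32.f140870 IH) (Lpr_gt (K32.f415678 IH) (Lpn (LP (LK LD1_c4 LD2_c33 LD3_c40))))))
theorem f408243 : Led Lsl_et (LP (LK LD1_c5 LD2_c45 LD3_c45)) = (LP (LK LD1_c2 LD2_c48 LD3_c38)) :=
  Lre_e IH (LK LD1_c5 LD2_c45 LD3_c45) (LK LD1_c2 LD2_c48 LD3_c38) Lrfl Lrfl
theorem f503827 : Led Lsl_af (LP (LK LD1_c5 LD2_c45 LD3_c45)) = (LP (LK LD1_c9 LD2_c4 LD3_c58)) :=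
  Lgr Lrot50 (Lpr_et (f408243 IH) (Lpr_at (f503819 IH) (Lpr_et (K41.f415670 IH) (Lpn (LP (LK LD1_c9 LD2_c4 LD3_c58))))))
theorem f415988 : Led Lsl_et (LP (LK LD1_c2 LD2_c48 LD3_c38)) = (LP (LK LD1_c5 LD2_c45 LD3_c45)) :=
  Lre_e IH (LK LD1_c2 LD2_c48 LD3_c38) (LK LD1_c5 LD2_c45 LD3_c45) Lrfl Lrfl
theorem f415989 : Led Lsl_ct (LP (LK LD1_c5 LD2_c45 LD3_c45)) = (LP (LK LD1_c7 LD2_c59 LD3_c48)) :=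
  Lgr Lrot15 (Lpe (f415988 IH) (Lpr_cf (K35.f415556 IH) (Lpe (K41.f40930 IH) (Lpn (LP (LK LD1_c7 LD2_c59 LD3_c48))))))
theorem f503831 : Led Lsl_at (LP (LK LD1_c7 LD2_c59 LD3_c48)) = (LP (LK LD1_c4 LD2_c57 LD3_c54)) :=
  Lgr Lrot107 (Lpe (f415989 IH) (Lpr_af (f503827 IH) (Lpr_cf (K41.f415701 IH) (Lpn (LP (LK LD1_c4 LD2_c57 LD3_c54))))))
theorem f535812 : Led Lsl_dt (LP (LK LD1_c5 LD2_c51 LD3_c56)) = (LP (LK LD1_c6 LD2_c21 LD3_c41)) :=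
  Lgr Lrot60 (Lpr_ff (K41.f535808 IH) (Lpr_df (K9.f139886 IH) (Lpe (K35.f504379 IH) (Lpn (LP (LK LD1_c6 LD2_c21 LD3_c41))))))
theorem f535806 : Led Lsl_ef (LP (LK LD1_c5 LD2_c51 LD3_c56)) = (LP (LK LD1_c6 LD2_c30 LD3_c24)) :=
  Lgr Lrot21 (Lpr_ft (K41.f535800 IH) (Lpr_et (K9.f139902 IH) (Lpr_ft (K41.f502947 IH) (Lpqs (K41.f503338 IH) (Lpr_et (K46.f416260 IH) (Lpe (f503803 IH) (Lpn (LP (LK LD1_c6 LD2_c30 LD3_c24)))))))))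
theorem f615359 : Led Lsl_df (LP (LK LD1_c7 LD2_c59 LD3_c48)) = (LP (LK LD1_c5 LD2_c50 LD3_c8)) :=
  Lgr Lrot70 (Lpr_et (K41.f40930 IH) (Lpe (K35.f454667 IH) (Lpe (f535806 IH) (Lpr_dt (f535812 IH) (Lpr_et (K41.f615357 IH) (Lpn (LP (LK LD1_c5 LD2_c50 LD3_c8))))))))
theorem f640778 : Led Lsl_af (LP (LK LD1_c5 LD2_c50 LD3_c8)) = K41.v4900 :=
  Lgr Lrot117 (Lpe (f615359 IH) (Lpr_at (f503831 IH) (Lpr_dt (K41.f640777 IH) (Lpn K41.v4900))))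
theorem f640812 : Led Lsl_ft v4868 = K41.v4900 :=
  Lgr Lrot101 (Lpr_af (f640810 IH) (Lpe (f640801 IH) (Lpr_af (f640778 IH) (Lpn K41.v4900))))
theorem f640813 : Led Lsl_ff v4868 = K41.v4900 :=
  Lgr Lrot3 (Lpr_ft (f640812 IH) (Lpn K41.v4900))
def v13194 : LQ := Led Lsl_gf (LP (LK LD1_c4 LD2_c41 LD3_c13))
theorem f701611 : Led Lsl_gf (LP (LK LD1_c4 LD2_c41 LD3_c13)) = v13194 :=
  Lrfl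
theorem f288058 : Led Lsl_gf (LP (LK LD1_c5 LD2_c40 LD3_c45)) = (LP (LK LD1_c5 LD2_c37 LD3_c33)) :=
  Lgr Lrot76 (Lpr_af (K17.f288050 IH) (Lpe (K17.f165085 IH) (Lpr_gt (K48.f165091 IH) (Lpn (LP (LK LD1_c5 LD2_c37 LD3_c33))))))
theorem f452212 : Led Lsl_et (LP (LK LD1_c1 LD2_c22 LD3_c16)) = (LP (LK LD1_c2 LD2_c52 LD3_c22)) :=
  Lre_e IH (LK LD1_c1 LD2_c22 LD3_c16) (LK LD1_c2 LD2_c52 LD3_c22) Lrfl Lrfl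
theorem f496429 : Led Lsl_at (LP (LK LD1_c2 LD2_c52 LD3_c22)) = (LP (LK LD1_c2 LD2_c51 LD3_c14)) :=
  Lgr Lrot80 (Lpe (f452212 IH) (Lpr_af (K32.f496421 IH) (Lpe (K41.f452688 IH) (Lpn (LP (LK LD1_c2 LD2_c51 LD3_c14))))))
theorem f499961 : Led Lsl_gt (LP (LK LD1_c5 LD2_c52 LD3_c10)) = (LP (LK LD1_c5 LD2_c50 LD3_c8)) :=
  Lgr Lrot5 (Lpr_ft (K41.f496441 IH) (Lpr_at (f496429 IH) (Lpe (K41.f496477 IH) (Lpn (LP (LK LD1_c5 LD2_c50 LD3_c8))))))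
theorem f615365 : Led Lsl_dt (LP (LK LD1_c5 LD2_c37 LD3_c49)) = (LP (LK LD1_c5 LD2_c52 LD3_c10)) :=
  Lgr Lrot136 (Lpr_et (K20.f319476 IH) (Lpr_gf (f288058 IH) (Lpr_ef (K48.f171820 IH) (Lpr_dt (K48.f40474 IH) (Lpr_gf (K32.f444578 IH) (Lpe (K2.f40916 IH) (Lpe (K32.f40922 IH) (Lpe (K41.f40930 IH) (Lpr_dt (K41.f615363 IH) (Lpe (f499961 IH) (Lpn (LP (LK LD1_c5 LD2_c52 LD3_c10)))))))))))))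
theorem f416035 : Led Lsl_cf (LP (LK LD1_c5 LD2_c45 LD3_c45)) = (LP (LK LD1_c7 LD2_c59 LD3_c48)) :=
  Lgr Lrot11 (Lpr_ct (f415989 IH) (Lpn (LP (LK LD1_c7 LD2_c59 LD3_c48))))
theorem f408242 : Led Lsl_dt (LP (LK LD1_c11 LD2_c21 LD3_c57)) = (LP (LK LD1_c5 LD2_c45 LD3_c45)) :=
  Lre_d IH (LK LD1_c11 LD2_c21 LD3_c57) (LK LD1_c5 LD2_c45 LD3_c45) Lrfl Lrfl
theorem f289173 : Led Lsl_at (LP (LK LD1_c10 LD2_c48 LD3_c10)) = (LP (LK LD1_c10 LD2_c58 LD3_c35)) :=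
  Lgr Lrot100 (Lpr_af (K17.f289171 IH) (Lpn (LP (LK LD1_c10 LD2_c58 LD3_c35))))
theorem f381340 : Led Lsl_ft (LP (LK LD1_c19 LD2_c32 LD3_c23)) = (LP (LK LD1_c10 LD2_c48 LD3_c10)) :=
  Lre_f IH (LK LD1_c19 LD2_c32 LD3_c23) (LK LD1_c10 LD2_c48 LD3_c10) Lrfl Lrfl
theorem f225376 : Led Lsl_gt (LP (LK LD1_c11 LD2_c21 LD3_c57)) = (LP (LK LD1_c10 LD2_c58 LD3_c35)) :=
  Lre_g IH (LK LD1_c11 LD2_c21 LD3_c57) (LK LD1_c10 LD2_c58 LD3_c35) Lrfl Lrfl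
theorem f408240 : Led Lsl_gt (LP (LK LD1_c19 LD2_c32 LD3_c23)) = (LP (LK LD1_c11 LD2_c21 LD3_c57)) :=
  Lgr Lrot5 (Lpr_ft (f381340 IH) (Lpr_at (f289173 IH) (Lpe (f225376 IH) (Lpn (LP (LK LD1_c11 LD2_c21 LD3_c57))))))
theorem f289190 : Led Lsl_ft (LP (LK LD1_c5 LD2_c33 LD3_c17)) = (LP (LK LD1_c10 LD2_c58 LD3_c36)) :=
  Lre_f IH (LK LD1_c5 LD2_c33 LD3_c17) (LK LD1_c10 LD2_c58 LD3_c36) Lrfl Lrfl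
theorem f225364 : Led Lsl_gt (LP (LK LD1_c5 LD2_c33 LD3_c17)) = (LP (LK LD1_c10 LD2_c58 LD3_c33)) :=
  Lre_g IH (LK LD1_c5 LD2_c33 LD3_c17) (LK LD1_c10 LD2_c58 LD3_c33) Lrfl Lrfl
theorem f289191 : Led Lsl_gf (LP (LK LD1_c10 LD2_c48 LD3_c11)) = (LP (LK LD1_c10 LD2_c58 LD3_c33)) :=
  Lgr Lrot76 (Lpr_af (K17.f289184 IH) (Lpe (f289190 IH) (Lpr_gt (f225364 IH) (Lpn (LP (LK LD1_c10 LD2_c58 LD3_c33))))))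
theorem f615479 : Led Lsl_cf (LP (LK LD1_c5 LD2_c40 LD3_c38)) = (LP (LK LD1_c10 LD2_c58 LD3_c33)) :=
  Lgr Lrot166 (Lpe (f319495 IH) (Lpr_dt (f615365 IH) (Lpr_gt (f499961 IH) (Lpe (f615359 IH) (Lpe (f416035 IH) (Lpe (f408242 IH) (Lpe (f408240 IH) (Lpe (K17.f289183 IH) (Lpr_gf (f289191 IH) (Lpn (LP (LK LD1_c10 LD2_c58 LD3_c33))))))))))))
theorem f640788 : Led Lsl_cf (LP (LK LD1_c10 LD2_c48 LD3_c8)) = (LP (LK LD1_c5 LD2_c37 LD3_c47)) :=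
  Lgr Lrot166 (Lpr_gt (K41.f289200 IH) (Lpr_dt (K41.f289195 IH) (Lpe (K41.f418616 IH) (Lpr_dt (K41.f415703 IH) (Lpr_ct (K41.f415671 IH) (Lpr_df (K41.f640779 IH) (Lpe (K41.f640776 IH) (Lpe (K41.f615379 IH) (Lpe (K41.f319499 IH) (Lpn (LP (LK LD1_c5 LD2_c37 LD3_c47))))))))))))
theorem f705969 : Led Lsl_af (LP (LK LD1_c10 LD2_c58 LD3_c33)) = (LP (LK LD1_c10 LD2_c48 LD3_c8)) :=
  Lgr Lrot68 (Lpe (f615479 IH) (Lpqs (f705921 IH) (Lpe (K46.f653281 IH) (Lpe (f640788 IH) (Lpn (LP (LK LD1_c10 LD2_c48 LD3_c8)))))))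
theorem f225363 : Led Lsl_gt (LP (LK LD1_c10 LD2_c58 LD3_c34)) = (LP (LK LD1_c5 LD2_c33 LD3_c17)) :=
  Lre_g IH (LK LD1_c10 LD2_c58 LD3_c34) (LK LD1_c5 LD2_c33 LD3_c17) Lrfl Lrfl
theorem f705973 : Led Lsl_ft (LP (LK LD1_c10 LD2_c58 LD3_c34)) = (LP (LK LD1_c10 LD2_c48 LD3_c8)) :=
  Lgr Lrot2 (Lpr_gt (f225363 IH) (Lpr_gt (f225364 IH) (Lpr_af (f705969 IH) (Lpn (LP (LK LD1_c10 LD2_c48 LD3_c8))))))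
theorem f705979 : Led Lsl_ff (LP (LK LD1_c10 LD2_c58 LD3_c34)) = (LP (LK LD1_c10 LD2_c48 LD3_c8)) :=
  Lgr Lrot3 (Lpr_ft (f705973 IH) (Lpn (LP (LK LD1_c10 LD2_c48 LD3_c8))))
theorem f179515 : Led Lsl_gt (LP (LK LD1_c10 LD2_c48 LD3_c9)) = (LP (LK LD1_c5 LD2_c28 LD3_c31)) :=
  Lre_g IH (LK LD1_c10 LD2_c48 LD3_c9) (LK LD1_c5 LD2_c28 LD3_c31) Lrfl Lrfl
theorem f289206 : Led Lsl_gf (LP (LK LD1_c10 LD2_c48 LD3_c9)) = (LP (LK LD1_c10 LD2_c58 LD3_c36)) :=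
  Lgr Lrot47 (Lpr_gt (f179515 IH) (Lpr_af (K17.f289198 IH) (Lpe (K17.f289197 IH) (Lpn (LP (LK LD1_c10 LD2_c58 LD3_c36))))))
theorem f705986 : Led Lsl_at (LP (LK LD1_c10 LD2_c58 LD3_c34)) = (LP (LK LD1_c10 LD2_c48 LD3_c9)) :=
  Lgr Lrot26 (Lpr_ff (f705979 IH) (Lpr_gt (K41.f289200 IH) (Lpe (f289206 IH) (Lpn (LP (LK LD1_c10 LD2_c48 LD3_c9))))))
theorem f705971 : Led Lsl_at (LP (LK LD1_c10 LD2_c58 LD3_c33)) = (LP (LK LD1_c10 LD2_c48 LD3_c8)) :=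
  Lgr Lrot100 (Lpr_af (f705969 IH) (Lpn (LP (LK LD1_c10 LD2_c48 LD3_c8))))
theorem f705992 : Led Lsl_ff (LP (LK LD1_c10 LD2_c58 LD3_c33)) = (LP (LK LD1_c10 LD2_c48 LD3_c9)) :=
  Lgr Lrot30 (Lpr_at (f705971 IH) (Lpe (f705979 IH) (Lpr_at (f705986 IH) (Lpn (LP (LK LD1_c10 LD2_c48 LD3_c9))))))
theorem f705994 : Led Lsl_ct K46.v6416 = (LP (LK LD1_c10 LD2_c48 LD3_c9)) :=
  Lgr Lrot40 (Lpr_ff (K46.f653284 IH) (Lpq (f705921 IH) (Lpr_cf (f615479 IH) (Lpr_ff (f705992 IH) (Lpn (LP (LK LD1_c10 LD2_c48 LD3_c9)))))))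
theorem f73661 : Led Lsl_bt (LP (LK LD1_c11 LD2_c24 LD3_c33)) = (LP (LK LD1_c5 LD2_c47 LD3_c13)) :=
  Lre_b IH (LK LD1_c11 LD2_c24 LD3_c33) (LK LD1_c5 LD2_c47 LD3_c13) Lrfl Lrfl
theorem f383279 : Led Lsl_et (LP (LK LD1_c11 LD2_c16 LD3_c40)) = (LP (LK LD1_c20 LD2_c12 LD3_c39)) :=
  Lre_e IH (LK LD1_c11 LD2_c16 LD3_c40) (LK LD1_c20 LD2_c12 LD3_c39) Lrfl Lrfl
theorem f381542 : Led Lsl_et (LP (LK LD1_c11 LD2_c17 LD3_c1)) = (LP (LK LD1_c5 LD2_c43 LD3_c28)) :=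
  Lre_e IH (LK LD1_c11 LD2_c17 LD3_c1) (LK LD1_c5 LD2_c43 LD3_c28) Lrfl Lrfl
theorem f562065 : Led Lsl_at (LP (LK LD1_c20 LD2_c12 LD3_c39)) = (LP (LK LD1_c11 LD2_c17 LD3_c1)) :=
  Lgr Lrot80 (Lpe (f383279 IH) (Lpr_af (K40.f562061 IH) (Lpe (f381542 IH) (Lpn (LP (LK LD1_c11 LD2_c17 LD3_c1))))))
theorem f562067 : Led Lsl_af (LP (LK LD1_c20 LD2_c12 LD3_c39)) = (LP (LK LD1_c11 LD2_c17 LD3_c1)) :=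
  Lgr Lrot0 (Lpr_at (f562065 IH) (Lpn (LP (LK LD1_c11 LD2_c17 LD3_c1))))
theorem f552498 : Led Lsl_et (LP (LK LD1_c2 LD2_c49 LD3_c28)) = (LP (LK LD1_c5 LD2_c47 LD3_c7)) :=
  Lre_e IH (LK LD1_c2 LD2_c49 LD3_c28) (LK LD1_c5 LD2_c47 LD3_c7) Lrfl Lrfl
theorem f558394 : Led Lsl_ct (LP (LK LD1_c5 LD2_c47 LD3_c7)) = (LP (LK LD1_c11 LD2_c17 LD3_c1)) :=
  Lgr Lrot15 (Lpe (f552498 IH) (Lpr_cf (K40.f558353 IH) (Lpe (f381542 IH) (Lpn (LP (LK LD1_c11 LD2_c17 LD3_c1))))))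
theorem f73969 : Led Lsl_at (LP (LK LD1_c11 LD2_c24 LD3_c16)) = (LP (LK LD1_c5 LD2_c47 LD3_c7)) :=
  Lre_a IH (LK LD1_c11 LD2_c24 LD3_c16) (LK LD1_c5 LD2_c47 LD3_c7) Lrfl Lrfl
theorem f562073 : Led Lsl_ct (LP (LK LD1_c20 LD2_c12 LD3_c39)) = (LP (LK LD1_c11 LD2_c24 LD3_c16)) :=
  Lgr Lrot111 (Lpr_af (f562067 IH) (Lpe (f558394 IH) (Lpe (f73969 IH) (Lpn (LP (LK LD1_c11 LD2_c24 LD3_c16))))))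
theorem f562076 : Led Lsl_cf (LP (LK LD1_c20 LD2_c12 LD3_c39)) = (LP (LK LD1_c11 LD2_c24 LD3_c16)) :=
  Lgr Lrot11 (Lpr_ct (f562073 IH) (Lpn (LP (LK LD1_c11 LD2_c24 LD3_c16))))
theorem f74168 : Led Lsl_at (LP (LK LD1_c5 LD2_c47 LD3_c7)) = (LP (LK LD1_c11 LD2_c24 LD3_c16)) :=
  Lre_a IH (LK LD1_c5 LD2_c47 LD3_c7) (LK LD1_c11 LD2_c24 LD3_c16) Lrfl Lrfl
theorem f562078 : Led Lsl_ct (LP (LK LD1_c11 LD2_c17 LD3_c1)) = (LP (LK LD1_c5 LD2_c47 LD3_c7)) :=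
  Lgr Lrot111 (Lpe (f562065 IH) (Lpr_cf (f562076 IH) (Lpe (f74168 IH) (Lpn (LP (LK LD1_c5 LD2_c47 LD3_c7))))))
theorem f562075 : Led Lsl_ft (LP (LK LD1_c20 LD2_c13 LD3_c1)) = (LP (LK LD1_c11 LD2_c17 LD3_c1)) :=
  Lre_f IH (LK LD1_c20 LD2_c13 LD3_c1) (LK LD1_c11 LD2_c17 LD3_c1) Lrfl Lrfl
theorem f562080 : Led Lsl_ft (LP (LK LD1_c5 LD2_c47 LD3_c7)) = (LP (LK LD1_c11 LD2_c24 LD3_c33)) :=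
  Lre_f IH (LK LD1_c5 LD2_c47 LD3_c7) (LK LD1_c11 LD2_c24 LD3_c33) Lrfl Lrfl
theorem f562081 : Led Lsl_cf (LP (LK LD1_c20 LD2_c13 LD3_c1)) = (LP (LK LD1_c11 LD2_c24 LD3_c33)) :=
  Lgr Lrot108 (Lpr_ft (f562075 IH) (Lpr_ct (f562078 IH) (Lpr_ft (f562080 IH) (Lpn (LP (LK LD1_c11 LD2_c24 LD3_c33))))))
theorem f226689 : Led Lsl_ct (LP (LK LD1_c2 LD2_c44 LD3_c39)) = (LP (LK LD1_c5 LD2_c28 LD3_c31)) :=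
  Lgr Lrot15 (Lpe (K17.f172683 IH) (Lpr_cf (K12.f226556 IH) (Lpe (K17.f226688 IH) (Lpn (LP (LK LD1_c5 LD2_c28 LD3_c31))))))
theorem f242692 : Led Lsl_bt (LP (LK LD1_c2 LD2_c44 LD3_c39)) = (LP (LK LD1_c5 LD2_c37 LD3_c22)) :=
  Lre_b IH (LK LD1_c2 LD2_c44 LD3_c39) (LK LD1_c5 LD2_c37 LD3_c22) Lrfl Lrfl
theorem f381326 : Led Lsl_gt (LP (LK LD1_c5 LD2_c37 LD3_c22)) = (LP (LK LD1_c11 LD2_c6 LD3_c30)) :=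
  Lre_g IH (LK LD1_c5 LD2_c37 LD3_c22) (LK LD1_c11 LD2_c6 LD3_c30) Lrfl Lrfl
theorem f381354 : Led Lsl_ct (LP (LK LD1_c11 LD2_c6 LD3_c30)) = (LP (LK LD1_c19 LD2_c59 LD3_c59)) :=
  Lre_c IH (LK LD1_c11 LD2_c6 LD3_c30) (LK LD1_c19 LD2_c59 LD3_c59) Lrfl Lrfl
theorem f706000 : Led Lsl_gf (LP (LK LD1_c20 LD2_c13 LD3_c1)) = (LP (LK LD1_c19 LD2_c59 LD3_c59)) :=
  Lgr Lrot129 (Lpr_cf (f562081 IH) (Lpr_bt (f73661 IH) (Lpe (K16.f413636 IH) (Lpr_bf (K46.f653263 IH) (Lpr_ct (f705994 IH) (Lpr_gt (f179515 IH) (Lpe (f226689 IH) (Lpr_bt (f242692 IH) (Lpr_gt (f381326 IH) (Lpr_ct (f381354 IH) (Lpn (LP (LK LD1_c19 LD2_c59 LD3_c59)))))))))))))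
theorem f562087 : Led Lsl_ct (LP (LK LD1_c20 LD2_c13 LD3_c1)) = (LP (LK LD1_c11 LD2_c24 LD3_c33)) :=
  Lgr Lrot59 (Lpr_cf (f562081 IH) (Lpn (LP (LK LD1_c11 LD2_c24 LD3_c33))))
theorem f61598 : Led Lsl_dt (LP (LK LD1_c11 LD2_c24 LD3_c33)) = (LP (LK LD1_c5 LD2_c47 LD3_c8)) :=
  Lre_d IH (LK LD1_c11 LD2_c24 LD3_c33) (LK LD1_c5 LD2_c47 LD3_c8) Lrfl Lrfl
theorem f61474 : Led Lsl_ct (LP (LK LD1_c5 LD2_c47 LD3_c8)) = (LP (LK LD1_c11 LD2_c24 LD3_c22)) :=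
  Lre_c IH (LK LD1_c5 LD2_c47 LD3_c8) (LK LD1_c11 LD2_c24 LD3_c22) Lrfl Lrfl
theorem f414362 : Led Lsl_bt (LP (LK LD1_c1 LD2_c5 LD3_c41)) = (LP (LK LD1_c2 LD2_c17 LD3_c29)) :=
  Lre_b IH (LK LD1_c1 LD2_c5 LD3_c41) (LK LD1_c2 LD2_c17 LD3_c29) Lrfl Lrfl
theorem f74637 : Led Lsl_gt (LP (LK LD1_c2 LD2_c17 LD3_c29)) = (LP (LK LD1_c4 LD2_c40 LD3_c51)) :=
  Lre_g IH (LK LD1_c2 LD2_c17 LD3_c29) (LK LD1_c4 LD2_c40 LD3_c51) Lrfl Lrfl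

end

end K50

end

end Cfsg.Agent.Helper28.S1692
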