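import Cfsg.Agent.Lib.Helper28.S1692.Seeds50

set_option autoImplicit false
set_option maxRecDepth 100000
set_option linter.all false

namespace Cfsg.Agent.Helper28.S1692

open Cfsg.Agent.Helper28
open Cfsg.Spor.ON (Gen)

noncomputable section

namespace K51
abbrev LD1_c0 := D1.c0
abbrev LD1_c1 := D1.c1
abbrev LD1_c2 := D1.c2
abbrev LD1_c3 := D1.c3
abbrev LD1_c4 := D1.c4
abbrev LD1_c5 := D1.c5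
abbrev LD1_c6 := D1.c6
abbrev LD1_c7 := D1.c7
abbrev LD1_c8 := D1.c8
abbrev LD1_c9 := D1.c9
abbrev LD1_c10 := D1.c10
abbrev LD1_c11 := D1.c11
abbrev LD1_c12 := D1.c12
abbrev LD1_c13 := D1.c13
abbrev LD1_c14 := D1.c14
abbrev LD1_c15 := D1.c15
abbrev LD1_c16 := D1.c16
abbrev LD1_c17 := D1.c17
abbrev LD1_c18 := D1.c18
abbrev LD1_c19 := D1.c19
abbrev LD1_c20 := D1.c20
abbrev LD1_c21 := D1.c21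
abbrev LD1_c22 := D1.c22
abbrev LD1_c23 := D1.c23
abbrev LD1_c24 := D1.c24
abbrev LD1_c25 := D1.c25
abbrev LD1_c26 := D1.c26
abbrev LD1_c27 := D1.c27
abbrev LD1_c28 := D1.c28
abbrev LD1_c29 := D1.c29
abbrev LD1_c30 := D1.c30
abbrev LD1_c31 := D1.c31
abbrev LD1_c32 := D1.c32
abbrev LD2_c0 := D2.c0
abbrev LD2_c1 := D2.c1
abbrev LD2_c2 := D2.c2
abbrev LD2_c3 := D2.c3
abbrev LD2_c4 := D2.c4
abbrev LD2_c5 := D2.c5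
abbrev LD2_c6 := D2.c6
abbrev LD2_c7 := D2.c7
abbrev LD2_c8 := D2.c8
abbrev LD2_c9 := D2.c9
abbrev LD2_c10 := D2.c10
abbrev LD2_c11 := D2.c11
abbrev LD2_c12 := D2.c12
abbrev LD2_c13 := D2.c13
abbrev LD2_c14 := D2.c14
abbrev LD2_c15 := D2.c15
abbrev LD2_c16 := D2.c16
abbrev LD2_c17 := D2.c17
abbrev LD2_c18 := D2.c18
abbrev LD2_c19 := D2.c19
abbrev LD2_c20 := D2.c20
abbrev LD2_c21 := D2.c21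
abbrev LD2_c22 := D2.c22
abbrev LD2_c23 := D2.c23
abbrev LD2_c24 := D2.c24
abbrev LD2_c25 := D2.c25
abbrev LD2_c26 := D2.c26
abbrev LD2_c27 := D2.c27
abbrev LD2_c28 := D2.c28
abbrev LD2_c29 := D2.c29
abbrev LD2_c30 := D2.c30
abbrev LD2_c31 := D2.c31
abbrev LD2_c32 := D2.c32
abbrev LD2_c33 := D2.c33
abbrev LD2_c34 := D2.c34
abbrev LD2_c35 := D2.c35
abbrev LD2_c36 := D2.c36
abbrev LD2_c37 := D2.c37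
abbrev LD2_c38 := D2.c38
abbrev LD2_c39 := D2.c39
abbrev LD2_c40 := D2.c40
abbrev LD2_c41 := D2.c41
abbrev LD2_c42 := D2.c42
abbrev LD2_c43 := D2.c43
abbrev LD2_c44 := D2.c44
abbrev LD2_c45 := D2.c45
abbrev LD2_c46 := D2.c46
abbrev LD2_c47 := D2.c47
abbrev LD2_c48 := D2.c48
abbrev LD2_c49 := D2.c49
abbrev LD2_c50 := D2.c50
abbrev LD2_c51 := D2.c51
abbrev LD2_c52 := D2.c52
abbrev LD2_c53 := D2.c53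
abbrev LD2_c54 := D2.c54
abbrev LD2_c55 := D2.c55
abbrev LD2_c56 := D2.c56
abbrev LD2_c57 := D2.c57
abbrev LD2_c58 := D2.c58
abbrev LD2_c59 := D2.c59
abbrev LD3_c0 := D3.c0
abbrev LD3_c1 := D3.c1
abbrev LD3_c2 := D3.c2
abbrev LD3_c3 := D3.c3
abbrev LD3_c4 := D3.c4
abbrev LD3_c5 := D3.c5
abbrev LD3_c6 := D3.c6
abbrev LD3_c7 := D3.c7
abbrev LD3_c8 := D3.c8
abbrev LD3_c9 := D3.c9
abbrev LD3_c10 := D3.c10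
abbrev LD3_c11 := D3.c11
abbrev LD3_c12 := D3.c12
abbrev LD3_c13 := D3.c13
abbrev LD3_c14 := D3.c14
abbrev LD3_c15 := D3.c15
abbrev LD3_c16 := D3.c16
abbrev LD3_c17 := D3.c17
abbrev LD3_c18 := D3.c18
abbrev LD3_c19 := D3.c19
abbrev LD3_c20 := D3.c20
abbrev LD3_c21 := D3.c21
abbrev LD3_c22 := D3.c22
abbrev LD3_c23 := D3.c23
abbrev LD3_c24 := D3.c24
abbrev LD3_c25 := D3.c25
abbrev LD3_c26 := D3.c26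
abbrev LD3_c27 := D3.c27
abbrev LD3_c28 := D3.c28
abbrev LD3_c29 := D3.c29
abbrev LD3_c30 := D3.c30
abbrev LD3_c31 := D3.c31
abbrev LD3_c32 := D3.c32
abbrev LD3_c33 := D3.c33
abbrev LD3_c34 := D3.c34
abbrev LD3_c35 := D3.c35
abbrev LD3_c36 := D3.c36
abbrev LD3_c37 := D3.c37
abbrev LD3_c38 := D3.c38
abbrev LD3_c39 := D3.c39
abbrev LD3_c40 := D3.c40
abbrev LD3_c41 := D3.c41
abbrev LD3_c42 := D3.c42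
abbrev LD3_c43 := D3.c43
abbrev LD3_c44 := D3.c44
abbrev LD3_c45 := D3.c45
abbrev LD3_c46 := D3.c46
abbrev LD3_c47 := D3.c47
abbrev LD3_c48 := D3.c48
abbrev LD3_c49 := D3.c49
abbrev LD3_c50 := D3.c50
abbrev LD3_c51 := D3.c51
abbrev LD3_c52 := D3.c52
abbrev LD3_c53 := D3.c53
abbrev LD3_c54 := D3.c54
abbrev LD3_c55 := D3.c55
abbrev LD3_c56 := D3.c56
abbrev LD3_c57 := D3.c57
abbrev LD3_c58 := D3.c58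
abbrev LD3_c59 := D3.c59
abbrev LD3_c60 := D3.c60
abbrev LD3_c61 := D3.c61
abbrev LG_g := Gen.g
abbrev Lsl_gt : Gen × Bool := sl_gt
alias Lfl_gt := fl_gt
alias Lpr_gt := pr_gt
abbrev Lsl_gf : Gen × Bool := sl_gf
alias Lfl_gf := fl_gf
alias Lpr_gf := pr_gf
alias Lre_g := re_g
alias Leoe_g := eoe_g
abbrev LG_a := Gen.a
abbrev Lsl_at : Gen × Bool := sl_at
alias Lfl_at := fl_at
alias Lpr_at := pr_at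
abbrev Lsl_af : Gen × Bool := sl_af
alias Lfl_af := fl_af
alias Lpr_af := pr_af
alias Lre_a := re_a
alias Leoe_a := eoe_a
abbrev LG_b := Gen.b
abbrev Lsl_bt : Gen × Bool := sl_bt
alias Lfl_bt := fl_bt
alias Lpr_bt := pr_bt
abbrev Lsl_bf : Gen × Bool := sl_bf
alias Lfl_bf := fl_bf
alias Lpr_bf := pr_bf
alias Lre_b := re_b
alias Leoe_b := eoe_b
abbrev LG_c := Gen.c
abbrev Lsl_ct : Gen × Bool := sl_ct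
alias Lfl_ct := fl_ct
alias Lpr_ct := pr_ct
abbrev Lsl_cf : Gen × Bool := sl_cf
alias Lfl_cf := fl_cf
alias Lpr_cf := pr_cf
alias Lre_c := re_c
alias Leoe_c := eoe_c
abbrev LG_d := Gen.d
abbrev Lsl_dt : Gen × Bool := sl_dt
alias Lfl_dt := fl_dt
alias Lpr_dt := pr_dt
abbrev Lsl_df : Gen × Bool := sl_df
alias Lfl_df := fl_df
alias Lpr_df := pr_df
alias Lre_d := re_d
alias Leoe_d := eoe_d
abbrev LG_e := Gen.e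
abbrev Lsl_et : Gen × Bool := sl_et
alias Lfl_et := fl_et
alias Lpr_et := pr_et
abbrev Lsl_ef : Gen × Bool := sl_ef
alias Lfl_ef := fl_ef
alias Lpr_ef := pr_ef
alias Lre_e := re_e
alias Leoe_e := eoe_e
abbrev LG_f := Gen.f
abbrev Lsl_ft : Gen × Bool := sl_ft
alias Lfl_ft := fl_ft
alias Lpr_ft := pr_ft
abbrev Lsl_ff : Gen × Bool := sl_ff
alias Lfl_ff := fl_ff
alias Lpr_ff := pr_ff
alias Lre_f := re_f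
alias Leoe_f := eoe_f
abbrev LK := Pt.mk
abbrev LQ : Type := Qt rels S
abbrev LP (p : Pt) : LQ := P p
abbrev Led (l : Gen × Bool) (c : LQ) : LQ := ed l c
abbrev LEOK (x : Gen) (p : Pt) : Prop := EntryOK rels S fwd inv o plet idx x p
alias Lpe := pe
alias Lpn := pn
alias Lgr := gr
alias Lpq := pq
alias Lpqs := pqs
alias Llr := lr
alias Leop := eop
alias Lefun := efun
alias Lecon := econ
theorem Lrfl {α : Sort _} {a : α} : a = a := rfl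
alias Lrot0 := rot0
alias Lrot1 := rot1
alias Lrot2 := rot2
alias Lrot3 := rot3
alias Lrot4 := rot4
alias Lrot5 := rot5
alias Lrot6 := rot6
alias Lrot7 := rot7
alias Lrot8 := rot8
alias Lrot9 := rot9
alias Lrot10 := rot10
alias Lrot11 := rot11
alias Lrot12 := rot12
alias Lrot13 := rot13
alias Lrot15 := rot15
alias Lrot16 := rot16
alias Lrot17 := rot17
alias Lrot18 := rot18
alias Lrot19 := rot19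
alias Lrot20 := rot20
alias Lrot21 := rot21
alias Lrot22 := rot22
alias Lrot23 := rot23
alias Lrot24 := rot24
alias Lrot25 := rot25
alias Lrot26 := rot26
alias Lrot28 := rot28
alias Lrot29 := rot29
alias Lrot30 := rot30
alias Lrot31 := rot31
alias Lrot34 := rot34
alias Lrot35 := rot35
alias Lrot36 := rot36
alias Lrot37 := rot37
alias Lrot38 := rot38
alias Lrot39 := rot39
alias Lrot40 := rot40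
alias Lrot42 := rot42
alias Lrot43 := rot43
alias Lrot44 := rot44
alias Lrot45 := rot45
alias Lrot46 := rot46
alias Lrot47 := rot47
alias Lrot48 := rot48
alias Lrot49 := rot49
alias Lrot50 := rot50
alias Lrot51 := rot51
alias Lrot52 := rot52
alias Lrot54 := rot54
alias Lrot55 := rot55
alias Lrot56 := rot56
alias Lrot57 := rot57
alias Lrot58 := rot58
alias Lrot59 := rot59
alias Lrot60 := rot60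
alias Lrot61 := rot61
alias Lrot62 := rot62
alias Lrot63 := rot63
alias Lrot64 := rot64
alias Lrot65 := rot65
alias Lrot66 := rot66
alias Lrot67 := rot67
alias Lrot68 := rot68
alias Lrot69 := rot69
alias Lrot70 := rot70
alias Lrot71 := rot71
alias Lrot72 := rot72
alias Lrot73 := rot73
alias Lrot74 := rot74
alias Lrot75 := rot75
alias Lrot76 := rot76
alias Lrot77 := rot77
alias Lrot78 := rot78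
alias Lrot79 := rot79
alias Lrot80 := rot80
alias Lrot81 := rot81
alias Lrot82 := rot82
alias Lrot83 := rot83
alias Lrot84 := rot84
alias Lrot86 := rot86
alias Lrot87 := rot87
alias Lrot88 := rot88
alias Lrot90 := rot90
alias Lrot91 := rot91
alias Lrot92 := rot92
alias Lrot93 := rot93
alias Lrot94 := rot94
alias Lrot95 := rot95
alias Lrot96 := rot96
alias Lrot97 := rot97
alias Lrot100 := rot100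
alias Lrot101 := rot101
alias Lrot103 := rot103
alias Lrot104 := rot104
alias Lrot107 := rot107
alias Lrot108 := rot108
alias Lrot110 := rot110
alias Lrot111 := rot111
alias Lrot112 := rot112
alias Lrot114 := rot114
alias Lrot116 := rot116
alias Lrot117 := rot117
alias Lrot119 := rot119
alias Lrot121 := rot121
alias Lrot122 := rot122
alias Lrot123 := rot123
alias Lrot124 := rot124
alias Lrot125 := rot125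
alias Lrot126 := rot126
alias Lrot127 := rot127
alias Lrot128 := rot128
alias Lrot129 := rot129
alias Lrot130 := rot130
alias Lrot131 := rot131
alias Lrot132 := rot132
alias Lrot134 := rot134
alias Lrot135 := rot135
alias Lrot136 := rot136
alias Lrot137 := rot137
alias Lrot138 := rot138
alias Lrot139 := rot139
alias Lrot141 := rot141
alias Lrot142 := rot142
alias Lrot143 := rot143
alias Lrot144 := rot144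
alias Lrot145 := rot145
alias Lrot146 := rot146
alias Lrot147 := rot147
alias Lrot149 := rot149
alias Lrot150 := rot150
alias Lrot152 := rot152
alias Lrot154 := rot154
alias Lrot155 := rot155
alias Lrot156 := rot156
alias Lrot160 := rot160
alias Lrot162 := rot162
alias Lrot163 := rot163
alias Lrot164 := rot164
alias Lrot165 := rot165
alias Lrot166 := rot166
alias Lrot167 := rot167
alias Lrot168 := rot168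
alias Lrot169 := rot169
alias Lrot170 := rot170
alias Lrot171 := rot171
alias Lrot172 := rot172
alias Lrot176 := rot176
alias Lrot181 := rot181
alias Lrot182 := rot182
alias Lrot183 := rot183
alias Lrot185 := rot185
alias Lrot187 := rot187
alias Lrot190 := rot190

section
variable (IH : IHT)
include IH

theorem f414363 : Led Lsl_bt (LP (LK LD1_c9 LD2_c17 LD3_c8)) = (LP (LK LD1_c4 LD2_c40 LD3_c51)) :=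
  Lre_b IH (LK LD1_c9 LD2_c17 LD3_c8) (LK LD1_c4 LD2_c40 LD3_c51) Lrfl Lrfl
theorem f414364 : Led Lsl_ct (LP (LK LD1_c9 LD2_c17 LD3_c8)) = (LP (LK LD1_c17 LD2_c12 LD3_c14)) :=
  Lre_c IH (LK LD1_c9 LD2_c17 LD3_c8) (LK LD1_c17 LD2_c12 LD3_c14) Lrfl Lrfl
theorem f414365 : Led Lsl_gf (LP (LK LD1_c11 LD2_c24 LD3_c22)) = (LP (LK LD1_c17 LD2_c12 LD3_c14)) :=
  Lgr Lrot126 (Lpe (K50.f61474 IH) (Lpr_bt (K2.f61486 IH) (Lpr_gt (K17.f414299 IH) (Lpr_ct (K17.f414307 IH) (Lpr_gt (K17.f20092 IH) (Lpe (K17.f22864 IH) (Lpr_bt (K50.f414362 IH) (Lpr_gt (K50.f74637 IH) (Lpe (f414363 IH) (Lpr_ct (f414364 IH) (Lpn (LP (LK LD1_c17 LD2_c12 LD3_c14)))))))))))))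
theorem f706002 : Led Lsl_gf (LP (LK LD1_c9 LD2_c17 LD3_c8)) = (LP (LK LD1_c5 LD2_c57 LD3_c37)) :=
  Lgr Lrot147 (Lpr_ct (f414364 IH) (Lpe (f414365 IH) (Lpr_ct (K2.f61487 IH) (Lpe (K50.f61598 IH) (Lpe (K50.f562087 IH) (Lpr_gf (K50.f706000 IH) (Lpe (K50.f381354 IH) (Lpe (K50.f381326 IH) (Lpe (K50.f560131 IH) (Lpn (LP (LK LD1_c5 LD2_c57 LD3_c37))))))))))))
theorem f414309 : Led Lsl_bt (LP (LK LD1_c4 LD2_c41 LD3_c13)) = (LP (LK LD1_c2 LD2_c17 LD3_c39)) :=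
  Lre_b IH (LK LD1_c4 LD2_c41 LD3_c13) (LK LD1_c2 LD2_c17 LD3_c39) Lrfl Lrfl
theorem f436777 : Led Lsl_et (LP (LK LD1_c5 LD2_c52 LD3_c16)) = (LP (LK LD1_c2 LD2_c52 LD3_c26)) :=
  Lre_e IH (LK LD1_c5 LD2_c52 LD3_c16) (LK LD1_c2 LD2_c52 LD3_c26) Lrfl Lrfl
theorem f540164 : Led Lsl_cf (LP (LK LD1_c5 LD2_c52 LD3_c16)) = (LP (LK LD1_c4 LD2_c34 LD3_c42)) :=
  Lgr Lrot39 (Lpr_et (f436777 IH) (Lpr_ct (K36.f540160 IH) (Lpr_et (K17.f177094 IH) (Lpn (LP (LK LD1_c4 LD2_c34 LD3_c42))))))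
theorem f706014 : Led Lsl_gt (LP (LK LD1_c9 LD2_c17 LD3_c41)) = (LP (LK LD1_c5 LD2_c52 LD3_c16)) :=
  Lgr Lrot65 (Lpe (K48.f414312 IH) (Lpr_bt (f414309 IH) (Lpe (K17.f414299 IH) (Lpe (K2.f61486 IH) (Lpr_ct (K50.f61474 IH) (Lpr_gf (f414365 IH) (Lpe (f414364 IH) (Lpr_gf (f706002 IH) (Lpr_bf (K50.f560125 IH) (Lpe (f540164 IH) (Lpn (LP (LK LD1_c5 LD2_c52 LD3_c16)))))))))))))
theorem f622184 : Led Lsl_ct (LP (LK LD1_c5 LD2_c52 LD3_c16)) = (LP (LK LD1_c4 LD2_c34 LD3_c42)) :=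
  Lgr Lrot59 (Lpr_cf (f540164 IH) (Lpn (LP (LK LD1_c4 LD2_c34 LD3_c42))))
theorem f289367 : Led Lsl_ft (LP (LK LD1_c5 LD2_c37 LD3_c21)) = (LP (LK LD1_c5 LD2_c42 LD3_c8)) :=
  Lgr Lrot4 (Lpe (K27.f211946 IH) (Lpr_ff (K17.f289364 IH) (Lpe (K27.f174272 IH) (Lpn (LP (LK LD1_c5 LD2_c42 LD3_c8))))))
theorem f381312 : Led Lsl_bf (LP (LK LD1_c5 LD2_c37 LD3_c21)) = (LP (LK LD1_c10 LD2_c48 LD3_c3)) :=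
  Lgr Lrot61 (Lpr_ft (f289367 IH) (Lpe (K27.f174145 IH) (Lpr_ft (K27.f381308 IH) (Lpn (LP (LK LD1_c10 LD2_c48 LD3_c3))))))
theorem f381295 : Led Lsl_et (LP (LK LD1_c5 LD2_c37 LD3_c21)) = (LP (LK LD1_c11 LD2_c6 LD3_c29)) :=
  Lre_e IH (LK LD1_c5 LD2_c37 LD3_c21) (LK LD1_c11 LD2_c6 LD3_c29) Lrfl Lrfl
theorem f381307 : Led Lsl_et (LP (LK LD1_c19 LD2_c32 LD3_c17)) = (LP (LK LD1_c10 LD2_c48 LD3_c3)) :=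
  Lre_e IH (LK LD1_c19 LD2_c32 LD3_c17) (LK LD1_c10 LD2_c48 LD3_c3) Lrfl Lrfl
theorem f381317 : Led Lsl_bt (LP (LK LD1_c11 LD2_c6 LD3_c29)) = (LP (LK LD1_c19 LD2_c32 LD3_c17)) :=
  Lgr Lrot119 (Lpe (f381295 IH) (Lpr_bf (f381312 IH) (Lpe (f381307 IH) (Lpn (LP (LK LD1_c19 LD2_c32 LD3_c17))))))
theorem f381286 : Led Lsl_ct (LP (LK LD1_c5 LD2_c37 LD3_c22)) = (LP (LK LD1_c11 LD2_c6 LD3_c29)) :=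
  Lre_c IH (LK LD1_c5 LD2_c37 LD3_c22) (LK LD1_c11 LD2_c6 LD3_c29) Lrfl Lrfl
theorem f381322 : Led Lsl_ct (LP (LK LD1_c19 LD2_c32 LD3_c17)) = (LP (LK LD1_c10 LD2_c48 LD3_c4)) :=
  Lre_c IH (LK LD1_c19 LD2_c32 LD3_c17) (LK LD1_c10 LD2_c48 LD3_c4) Lrfl Lrfl
theorem f381323 : Led Lsl_bt (LP (LK LD1_c10 LD2_c48 LD3_c4)) = (LP (LK LD1_c5 LD2_c28 LD3_c31)) :=
  Lre_b IH (LK LD1_c10 LD2_c48 LD3_c4) (LK LD1_c5 LD2_c28 LD3_c31) Lrfl Lrfl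
theorem f381324 : Led Lsl_cf (LP (LK LD1_c2 LD2_c44 LD3_c39)) = (LP (LK LD1_c5 LD2_c28 LD3_c31)) :=
  Lgr Lrot97 (Lpr_bt (K50.f242692 IH) (Lpr_ct (f381286 IH) (Lpr_bt (f381317 IH) (Lpr_ct (f381322 IH) (Lpr_bt (f381323 IH) (Lpn (LP (LK LD1_c5 LD2_c28 LD3_c31))))))))
theorem f319508 : Led Lsl_gf (LP (LK LD1_c5 LD2_c37 LD3_c48)) = (LP (LK LD1_c5 LD2_c40 LD3_c40)) :=
  Lgr Lrot47 (Lpr_gt (K46.f319507 IH) (Lpr_af (K20.f319497 IH) (Lpe (K20.f289435 IH) (Lpn (LP (LK LD1_c5 LD2_c40 LD3_c40))))))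
theorem f706037 : K50.v13194 = (LP (LK LD1_c5 LD2_c50 LD3_c9)) :=
  (Llr Lrot147 (Lpe (K50.f701611 IH) (Lpr_ct (K48.f414312 IH) (Lpr_gt (f706014 IH) (Lpr_ct (f622184 IH) (Lpr_df (K50.f242694 IH) (Lpr_cf (f381324 IH) (Lpe (K50.f179515 IH) (Lpe (K50.f705994 IH) (Lpqs (K46.f653287 IH) (Lpr_gf (f319508 IH) (Lpr_df (K41.f615375 IH) (Lpn (LP (LK LD1_c5 LD2_c50 LD3_c9))))))))))))))).symm
theorem f706038 : (LP (LK LD1_c4 LD2_c41 LD3_c13)) = K41.v4900 :=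
  Lefun (Lecon (Lfl_gf (K50.f701611 IH)) (f706037 IH)) (K41.f640776 IH)
theorem f706058 : K50.v4868 = (LP (LK LD1_c3 LD2_c2 LD3_c48)) :=
  Lefun (Lecon (Lfl_ff (K50.f640813 IH)) (f706038 IH).symm) (Lfl_ff (K48.f504387 IH))
theorem f413507 : Led Lsl_et (LP (LK LD1_c6 LD2_c12 LD3_c29)) = (LP (LK LD1_c3 LD2_c2 LD3_c48)) :=
  Lre_e IH (LK LD1_c6 LD2_c12 LD3_c29) (LK LD1_c3 LD2_c2 LD3_c48) Lrfl Lrfl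
theorem f413499 : Led Lsl_bt (LP (LK LD1_c3 LD2_c2 LD3_c50)) = (LP (LK LD1_c6 LD2_c12 LD3_c29)) :=
  Lre_b IH (LK LD1_c3 LD2_c2 LD3_c50) (LK LD1_c6 LD2_c12 LD3_c29) Lrfl Lrfl
theorem f40475 : Led Lsl_bt (LP (LK LD1_c7 LD2_c59 LD3_c49)) = (LP (LK LD1_c3 LD2_c59 LD3_c14)) :=
  Lre_b IH (LK LD1_c7 LD2_c59 LD3_c49) (LK LD1_c3 LD2_c59 LD3_c14) Lrfl Lrfl
theorem f413500 : Led Lsl_dt (LP (LK LD1_c6 LD2_c12 LD3_c29)) = (LP (LK LD1_c7 LD2_c59 LD3_c49)) :=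
  Lgr Lrot79 (Lpe (f413499 IH) (Lpr_df (K24.f413494 IH) (Lpe (f40475 IH) (Lpn (LP (LK LD1_c7 LD2_c59 LD3_c49))))))
theorem f706118 : Led Lsl_gf (LP (LK LD1_c5 LD2_c40 LD3_c3)) = (LP (LK LD1_c7 LD2_c59 LD3_c49)) :=
  Lgr Lrot145 (Lpr_df (K50.f606374 IH) (Lpr_et (K50.f163560 IH) (Lpe (K32.f437289 IH) (Lpr_dt (K38.f143173 IH) (Lpr_gt (K11.f448941 IH) (Lpe (K41.f448922 IH) (Lpr_et (K32.f448947 IH) (Lpr_gt (K50.f640648 IH) (Lpqs (f706058 IH) (Lpe (f413507 IH) (Lpr_dt (f413500 IH) (Lpn (LP (LK LD1_c7 LD2_c59 LD3_c49))))))))))))))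
theorem f143152 : Led Lsl_et (LP (LK LD1_c1 LD2_c21 LD3_c45)) = (LP (LK LD1_c0 LD2_c37 LD3_c49)) :=
  Lre_e IH (LK LD1_c1 LD2_c21 LD3_c45) (LK LD1_c0 LD2_c37 LD3_c49) Lrfl Lrfl
def v1571 : LQ := Led Lsl_dt (LP (LK LD1_c1 LD2_c21 LD3_c45))
theorem f500013 : Led Lsl_dt (LP (LK LD1_c1 LD2_c21 LD3_c45)) = v1571 :=
  Lrfl
def v115 : LQ := Led Lsl_et (LP (LK LD1_c0 LD2_c16 LD3_c52))
theorem f448948 : Led Lsl_et (LP (LK LD1_c0 LD2_c16 LD3_c52)) = v115 :=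
  Lrfl
theorem f448950 : Led Lsl_ef (LP (LK LD1_c0 LD2_c16 LD3_c52)) = v115 :=
  Lgr Lrot88 (Lpr_et (f448948 IH) (Lpn v115))
def v945 : LQ := Led Lsl_dt v115
theorem f490673 : Led Lsl_dt v115 = v945 :=
  Lrfl
theorem f490675 : Led Lsl_df v115 = v945 :=
  Lgr Lrot38 (Lpr_dt (f490673 IH) (Lpn v945))
theorem f500016 : Led Lsl_ef v945 = v1571 :=
  Lgr Lrot73 (Lpe (f490675 IH) (Lpe (f448950 IH) (Lpr_dt (K35.f26560 IH) (Lpr_et (K35.f143140 IH) (Lpr_dt (f500013 IH) (Lpn v1571))))))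
theorem f500020 : Led Lsl_et v945 = v1571 :=
  Lgr Lrot87 (Lpr_ef (f500016 IH) (Lpn v1571))
theorem f448951 : Led Lsl_bt K35.v80 = v115 :=
  Lgr Lrot119 (Lpe (K35.f446799 IH) (Lpe (K35.f59429 IH) (Lpr_ef (f448950 IH) (Lpn v115))))
theorem f537100 : v115 = (LP (LK LD1_c0 LD2_c7 LD3_c31)) :=
  Lefun (Lecon (f448951 IH) (K35.f536885 IH).symm) (K35.f59429 IH)
theorem f537259 : v945 = (LP (LK LD1_c0 LD2_c16 LD3_c53)) :=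
  Lefun (Lecon (f490673 IH) (f537100 IH)) (K2.f20288 IH)
theorem f537630 : v1571 = (LP (LK LD1_c0 LD2_c37 LD3_c50)) :=
  Lefun (Lecon (f500020 IH) (f537259 IH)) (K6.f59434 IH)
theorem f139904 : Led Lsl_et (LP (LK LD1_c11 LD2_c28 LD3_c61)) = (LP (LK LD1_c5 LD2_c50 LD3_c32)) :=
  Lre_e IH (LK LD1_c11 LD2_c28 LD3_c61) (LK LD1_c5 LD2_c50 LD3_c32) Lrfl Lrfl
theorem f139903 : Led Lsl_et (LP (LK LD1_c3 LD2_c2 LD3_c61)) = (LP (LK LD1_c6 LD2_c12 LD3_c43)) :=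
  Lre_e IH (LK LD1_c3 LD2_c2 LD3_c61) (LK LD1_c6 LD2_c12 LD3_c43) Lrfl Lrfl
theorem f139905 : Led Lsl_dt (LP (LK LD1_c6 LD2_c12 LD3_c43)) = (LP (LK LD1_c11 LD2_c28 LD3_c61)) :=
  Lgr Lrot77 (Lpe (f139903 IH) (Lpe (K16.f59845 IH) (Lpe (K9.f139902 IH) (Lpr_df (K9.f139886 IH) (Lpe (f139904 IH) (Lpn (LP (LK LD1_c11 LD2_c28 LD3_c61))))))))
theorem f139911 : Led Lsl_df (LP (LK LD1_c6 LD2_c12 LD3_c43)) = (LP (LK LD1_c11 LD2_c28 LD3_c61)) :=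
  Lgr Lrot38 (Lpr_dt (f139905 IH) (Lpn (LP (LK LD1_c11 LD2_c28 LD3_c61))))
theorem f606379 : Led Lsl_gt (LP (LK LD1_c5 LD2_c40 LD3_c3)) = (LP (LK LD1_c6 LD2_c12 LD3_c43)) :=
  Lgr Lrot112 (Lpr_df (K50.f606374 IH) (Lpr_et (K50.f163560 IH) (Lpe (K6.f26488 IH) (Lpe (f143152 IH) (Lpr_dt (f500013 IH) (Lpqs (f537630 IH) (Lpe (K31.f59435 IH) (Lpe (K35.f139889 IH) (Lpe (K35.f506174 IH) (Lpe (f139904 IH) (Lpe (f139911 IH) (Lpn (LP (LK LD1_c6 LD2_c12 LD3_c43))))))))))))))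
def v13198 : LQ := Led Lsl_et (LP (LK LD1_c4 LD2_c41 LD3_c14))
theorem f701631 : Led Lsl_et (LP (LK LD1_c4 LD2_c41 LD3_c14)) = v13198 :=
  Lrfl
theorem f139915 : Led Lsl_et (LP (LK LD1_c6 LD2_c12 LD3_c43)) = (LP (LK LD1_c3 LD2_c2 LD3_c61)) :=
  Lre_e IH (LK LD1_c6 LD2_c12 LD3_c43) (LK LD1_c3 LD2_c2 LD3_c61) Lrfl Lrfl
theorem f701632 : Led Lsl_af (LP (LK LD1_c6 LD2_c12 LD3_c43)) = v13198 :=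
  Lgr Lrot50 (Lpr_et (f139915 IH) (Lpr_at (K50.f504082 IH) (Lpr_et (f701631 IH) (Lpn v13198))))
theorem f58954 : Led Lsl_dt (LP (LK LD1_c4 LD2_c57 LD3_c53)) = (LP (LK LD1_c2 LD2_c26 LD3_c46)) :=
  Lre_d IH (LK LD1_c4 LD2_c57 LD3_c53) (LK LD1_c2 LD2_c26 LD3_c46) Lrfl Lrfl
theorem f503749 : Led Lsl_ft (LP (LK LD1_c2 LD2_c26 LD3_c46)) = (LP (LK LD1_c3 LD2_c59 LD3_c14)) :=
  Lgr Lrot54 (Lpe (f58954 IH) (Lpr_ff (K32.f503745 IH) (Lpr_df (K24.f413494 IH) (Lpn (LP (LK LD1_c3 LD2_c59 LD3_c14))))))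
theorem f415663 : Led Lsl_bt (LP (LK LD1_c4 LD2_c57 LD3_c52)) = (LP (LK LD1_c2 LD2_c26 LD3_c46)) :=
  Lre_b IH (LK LD1_c4 LD2_c57 LD3_c52) (LK LD1_c2 LD2_c26 LD3_c46) Lrfl Lrfl
theorem f413490 : Led Lsl_bt (LP (LK LD1_c3 LD2_c59 LD3_c14)) = (LP (LK LD1_c7 LD2_c59 LD3_c49)) :=
  Lre_b IH (LK LD1_c3 LD2_c59 LD3_c14) (LK LD1_c7 LD2_c59 LD3_c49) Lrfl Lrfl
theorem f504194 : Led Lsl_ff (LP (LK LD1_c4 LD2_c57 LD3_c52)) = (LP (LK LD1_c7 LD2_c59 LD3_c49)) :=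
  Lgr Lrot25 (Lpr_bt (f415663 IH) (Lpr_ft (f503749 IH) (Lpr_bt (f413490 IH) (Lpn (LP (LK LD1_c7 LD2_c59 LD3_c49))))))
theorem f706122 : v13198 = (LP (LK LD1_c4 LD2_c57 LD3_c52)) :=
  (Llr Lrot31 (Lpe (f701632 IH) (Lpe (f606379 IH) (Lpr_gf (f706118 IH) (Lpe (f504194 IH) (Lpn (LP (LK LD1_c4 LD2_c57 LD3_c52)))))))).symm
theorem f415693 : Led Lsl_ct (LP (LK LD1_c4 LD2_c57 LD3_c52)) = (LP (LK LD1_c9 LD2_c46 LD3_c37)) :=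
  Lre_c IH (LK LD1_c4 LD2_c57 LD3_c52) (LK LD1_c9 LD2_c46 LD3_c37) Lrfl Lrfl
theorem f706183 : Led Lsl_ef (LP (LK LD1_c9 LD2_c17 LD3_c44)) = (LP (LK LD1_c9 LD2_c46 LD3_c37)) :=
  Lgr Lrot28 (Lpr_ct (K24.f414332 IH) (Lpr_et (f701631 IH) (Lpqs (f706122 IH) (Lpr_ct (f415693 IH) (Lpn (LP (LK LD1_c9 LD2_c46 LD3_c37)))))))
theorem f706187 : Led Lsl_et (LP (LK LD1_c9 LD2_c17 LD3_c44)) = (LP (LK LD1_c9 LD2_c46 LD3_c37)) :=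
  Lgr Lrot87 (Lpr_ef (f706183 IH) (Lpn (LP (LK LD1_c9 LD2_c46 LD3_c37))))
theorem f258922 : Led Lsl_dt (LP (LK LD1_c5 LD2_c40 LD3_c9)) = (LP (LK LD1_c2 LD2_c45 LD3_c61)) :=
  Lre_d IH (LK LD1_c5 LD2_c40 LD3_c9) (LK LD1_c2 LD2_c45 LD3_c61) Lrfl Lrfl
theorem f553549 : Led Lsl_et (LP (LK LD1_c9 LD2_c0 LD3_c17)) = (LP (LK LD1_c16 LD2_c49 LD3_c44)) :=
  Lre_e IH (LK LD1_c9 LD2_c0 LD3_c17) (LK LD1_c16 LD2_c49 LD3_c44) Lrfl Lrfl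
theorem f706191 : Led Lsl_gt (LP (LK LD1_c16 LD2_c49 LD3_c44)) = (LP (LK LD1_c9 LD2_c46 LD3_c37)) :=
  Lgr Lrot131 (Lpe (f553549 IH) (Lpr_dt (K39.f549416 IH) (Lpe (K39.f172148 IH) (Lpe (f258922 IH) (Lpe (K40.f553745 IH) (Lpe (K37.f60009 IH) (Lpr_dt (K24.f22871 IH) (Lpe (K17.f59993 IH) (Lpr_df (K24.f414341 IH) (Lpr_et (f706187 IH) (Lpn (LP (LK LD1_c9 LD2_c46 LD3_c37)))))))))))))
theorem f411697 : Led Lsl_gt (LP (LK LD1_c11 LD2_c15 LD3_c13)) = (LP (LK LD1_c9 LD2_c44 LD3_c59)) :=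
  Lgr Lrot46 (Lpr_gf (K31.f411695 IH) (Lpr_ft (K30.f297093 IH) (Lpr_at (K30.f168309 IH) (Lpn (LP (LK LD1_c9 LD2_c44 LD3_c59))))))
theorem f588658 : Led Lsl_gt (LP (LK LD1_c11 LD2_c15 LD3_c5)) = (LP (LK LD1_c5 LD2_c42 LD3_c31)) :=
  Lgr Lrot146 (Lpe (K45.f588654 IH) (Lpr_gt (K45.f588652 IH) (Lpr_ct (K40.f168267 IH) (Lpr_gt (K38.f56551 IH) (Lpr_ct (K30.f56546 IH) (Lpr_dt (K38.f168304 IH) (Lpe (K31.f168257 IH) (Lpe (f411697 IH) (Lpe (K31.f172512 IH) (Lpn (LP (LK LD1_c5 LD2_c42 LD3_c31))))))))))))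
theorem f549221 : Led Lsl_ft (LP (LK LD1_c5 LD2_c42 LD3_c27)) = (LP (LK LD1_c9 LD2_c1 LD3_c57)) :=
  Lgr Lrot48 (Lpr_ff (K38.f549217 IH) (Lpn (LP (LK LD1_c9 LD2_c1 LD3_c57))))
theorem f601552 : Led Lsl_at (LP (LK LD1_c9 LD2_c1 LD3_c57)) = (LP (LK LD1_c5 LD2_c42 LD3_c31)) :=
  Lgr Lrot26 (Lpe (f549221 IH) (Lpr_gt (K45.f423876 IH) (Lpr_gt (f588658 IH) (Lpn (LP (LK LD1_c5 LD2_c42 LD3_c31))))))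
theorem f398564 : Led Lsl_et (LP (LK LD1_c16 LD2_c51 LD3_c54)) = (LP (LK LD1_c9 LD2_c1 LD3_c57)) :=
  Lre_e IH (LK LD1_c16 LD2_c51 LD3_c54) (LK LD1_c9 LD2_c1 LD3_c57) Lrfl Lrfl
theorem f601558 : Led Lsl_af (LP (LK LD1_c16 LD2_c51 LD3_c54)) = (LP (LK LD1_c11 LD2_c15 LD3_c14)) :=
  Lgr Lrot50 (Lpr_et (f398564 IH) (Lpr_at (f601552 IH) (Lpr_et (K44.f172515 IH) (Lpn (LP (LK LD1_c11 LD2_c15 LD3_c14))))))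
theorem f547257 : Led Lsl_et (LP (LK LD1_c11 LD2_c13 LD3_c25)) = (LP (LK LD1_c20 LD2_c7 LD3_c61)) :=
  Lre_e IH (LK LD1_c11 LD2_c13 LD3_c25) (LK LD1_c20 LD2_c7 LD3_c61) Lrfl Lrfl
theorem f547258 : Led Lsl_at (LP (LK LD1_c20 LD2_c7 LD3_c61)) = (LP (LK LD1_c16 LD2_c27 LD3_c41)) :=
  Lgr Lrot80 (Lpe (f547257 IH) (Lpr_af (K38.f547252 IH) (Lpe (K36.f449425 IH) (Lpn (LP (LK LD1_c16 LD2_c27 LD3_c41))))))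
theorem f418543 : Led Lsl_bt (LP (LK LD1_c16 LD2_c27 LD3_c41)) = (LP (LK LD1_c8 LD2_c47 LD3_c49)) :=
  Lre_b IH (LK LD1_c16 LD2_c27 LD3_c41) (LK LD1_c8 LD2_c47 LD3_c49) Lrfl Lrfl
theorem f449447 : Led Lsl_af (LP (LK LD1_c5 LD2_c53 LD3_c18)) = (LP (LK LD1_c8 LD2_c47 LD3_c49)) :=
  Lgr Lrot0 (Lpr_at (K36.f449445 IH) (Lpn (LP (LK LD1_c8 LD2_c47 LD3_c49))))
theorem f177064 : Led Lsl_bt (LP (LK LD1_c5 LD2_c53 LD3_c18)) = (LP (LK LD1_c11 LD2_c32 LD3_c35)) :=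
  Lre_b IH (LK LD1_c5 LD2_c53 LD3_c18) (LK LD1_c11 LD2_c32 LD3_c35) Lrfl Lrfl
theorem f580633 : Led Lsl_at (LP (LK LD1_c11 LD2_c32 LD3_c35)) = (LP (LK LD1_c16 LD2_c30 LD3_c8)) :=
  Lgr Lrot67 (Lpe (f177064 IH) (Lpr_af (f449447 IH) (Lpe (f418543 IH) (Lpe (f547258 IH) (Lpr_bf (K44.f580628 IH) (Lpn (LP (LK LD1_c16 LD2_c30 LD3_c8))))))))
theorem f601564 : Led Lsl_dt (LP (LK LD1_c16 LD2_c51 LD3_c54)) = (LP (LK LD1_c11 LD2_c32 LD3_c35)) :=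
  Lgr Lrot44 (Lpr_af (f601558 IH) (Lpr_df (K44.f580618 IH) (Lpe (f580633 IH) (Lpn (LP (LK LD1_c11 LD2_c32 LD3_c35))))))
theorem f177032 : Led Lsl_bt (LP (LK LD1_c11 LD2_c32 LD3_c35)) = (LP (LK LD1_c5 LD2_c53 LD3_c18)) :=
  Lre_b IH (LK LD1_c11 LD2_c32 LD3_c35) (LK LD1_c5 LD2_c53 LD3_c18) Lrfl Lrfl
theorem f601566 : Led Lsl_bf (LP (LK LD1_c16 LD2_c51 LD3_c54)) = (LP (LK LD1_c11 LD2_c12 LD3_c34)) :=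
  Lgr Lrot93 (Lpr_dt (f601564 IH) (Lpr_bt (f177032 IH) (Lpe (K36.f177030 IH) (Lpn (LP (LK LD1_c11 LD2_c12 LD3_c34))))))
theorem f601574 : Led Lsl_bt (LP (LK LD1_c9 LD2_c1 LD3_c57)) = (LP (LK LD1_c5 LD2_c40 LD3_c60)) :=
  Lgr Lrot119 (Lpe (f398564 IH) (Lpr_bf (f601566 IH) (Lpe (K36.f177020 IH) (Lpn (LP (LK LD1_c5 LD2_c40 LD3_c60))))))
theorem f297088 : Led Lsl_bt (LP (LK LD1_c26 LD2_c17 LD3_c30)) = (LP (LK LD1_c16 LD2_c19 LD3_c33)) :=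
  Lre_b IH (LK LD1_c26 LD2_c17 LD3_c30) (LK LD1_c16 LD2_c19 LD3_c33) Lrfl Lrfl
theorem f198287 : Led Lsl_bt (LP (LK LD1_c11 LD2_c12 LD3_c33)) = (LP (LK LD1_c20 LD2_c7 LD3_c5)) :=
  Lre_b IH (LK LD1_c11 LD2_c12 LD3_c33) (LK LD1_c20 LD2_c7 LD3_c5) Lrfl Lrfl
theorem f601576 : Led Lsl_cf (LP (LK LD1_c26 LD2_c17 LD3_c30)) = (LP (LK LD1_c20 LD2_c7 LD3_c5)) :=
  Lgr Lrot97 (Lpr_bt (f297088 IH) (Lpr_ct (K31.f398551 IH) (Lpr_bt (f601574 IH) (Lpr_ct (K13.f198282 IH) (Lpr_bt (f198287 IH) (Lpn (LP (LK LD1_c20 LD2_c7 LD3_c5))))))))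
theorem f601578 : Led Lsl_ct (LP (LK LD1_c26 LD2_c17 LD3_c30)) = (LP (LK LD1_c20 LD2_c7 LD3_c5)) :=
  Lgr Lrot59 (Lpr_cf (f601576 IH) (Lpn (LP (LK LD1_c20 LD2_c7 LD3_c5))))
theorem f449495 : Led Lsl_ft (LP (LK LD1_c11 LD2_c12 LD3_c33)) = (LP (LK LD1_c16 LD2_c21 LD3_c0)) :=
  Lgr Lrot4 (Lpe (K13.f198282 IH) (Lpr_ff (K38.f449493 IH) (Lpe (K37.f197846 IH) (Lpn (LP (LK LD1_c16 LD2_c21 LD3_c0))))))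
theorem f449501 : Led Lsl_ff (LP (LK LD1_c11 LD2_c12 LD3_c33)) = (LP (LK LD1_c16 LD2_c21 LD3_c0)) :=
  Lgr Lrot3 (Lpr_ft (f449495 IH) (Lpn (LP (LK LD1_c16 LD2_c21 LD3_c0))))
theorem f212036 : Led Lsl_bt (LP (LK LD1_c26 LD2_c19 LD3_c2)) = (LP (LK LD1_c16 LD2_c21 LD3_c0)) :=
  Lre_b IH (LK LD1_c26 LD2_c19 LD3_c2) (LK LD1_c16 LD2_c21 LD3_c0) Lrfl Lrfl
theorem f449503 : Led Lsl_ft (LP (LK LD1_c20 LD2_c7 LD3_c5)) = (LP (LK LD1_c26 LD2_c19 LD3_c2)) :=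
  Lgr Lrot75 (Lpe (f198287 IH) (Lpr_ff (f449501 IH) (Lpe (f212036 IH) (Lpn (LP (LK LD1_c26 LD2_c19 LD3_c2))))))
theorem f423880 : Led Lsl_bt (LP (LK LD1_c20 LD2_c10 LD3_c2)) = (LP (LK LD1_c11 LD2_c15 LD3_c6)) :=
  Lre_b IH (LK LD1_c20 LD2_c10 LD3_c2) (LK LD1_c11 LD2_c15 LD3_c6) Lrfl Lrfl
theorem f212033 : Led Lsl_bt (LP (LK LD1_c16 LD2_c21 LD3_c0)) = (LP (LK LD1_c26 LD2_c19 LD3_c2)) :=
  Lre_b IH (LK LD1_c16 LD2_c21 LD3_c0) (LK LD1_c26 LD2_c19 LD3_c2) Lrfl Lrfl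
theorem f549213 : Led Lsl_cf (LP (LK LD1_c20 LD2_c10 LD3_c2)) = (LP (LK LD1_c26 LD2_c19 LD3_c2)) :=
  Lgr Lrot97 (Lpr_bt (f423880 IH) (Lpr_ct (K36.f423866 IH) (Lpr_bt (K38.f549209 IH) (Lpr_ct (K37.f212028 IH) (Lpr_bt (f212033 IH) (Lpn (LP (LK LD1_c26 LD2_c19 LD3_c2))))))))
theorem f601582 : Led Lsl_ff (LP (LK LD1_c26 LD2_c17 LD3_c30)) = (LP (LK LD1_c20 LD2_c10 LD3_c2)) :=
  Lgr Lrot23 (Lpr_ct (f601578 IH) (Lpr_ft (f449503 IH) (Lpe (f549213 IH) (Lpn (LP (LK LD1_c20 LD2_c10 LD3_c2))))))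
theorem f601580 : Led Lsl_dt (LP (LK LD1_c26 LD2_c17 LD3_c30)) = (LP (LK LD1_c32 LD2_c7 LD3_c0)) :=
  Lre_d IH (LK LD1_c26 LD2_c17 LD3_c30) (LK LD1_c32 LD2_c7 LD3_c0) Lrfl Lrfl
theorem f588735 : Led Lsl_dt (LP (LK LD1_c29 LD2_c19 LD3_c49)) = (LP (LK LD1_c20 LD2_c10 LD3_c2)) :=
  Lre_d IH (LK LD1_c29 LD2_c19 LD3_c49) (LK LD1_c20 LD2_c10 LD3_c2) Lrfl Lrfl
theorem f601587 : Led Lsl_ft (LP (LK LD1_c32 LD2_c7 LD3_c0)) = (LP (LK LD1_c29 LD2_c19 LD3_c49)) :=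
  Lgr Lrot54 (Lpe (f601580 IH) (Lpr_ff (f601582 IH) (Lpe (f588735 IH) (Lpn (LP (LK LD1_c29 LD2_c19 LD3_c49))))))
theorem f398619 : Led Lsl_bt (LP (LK LD1_c26 LD2_c17 LD3_c31)) = (LP (LK LD1_c32 LD2_c7 LD3_c0)) :=
  Lre_b IH (LK LD1_c26 LD2_c17 LD3_c31) (LK LD1_c32 LD2_c7 LD3_c0) Lrfl Lrfl
theorem f423885 : Led Lsl_bt (LP (LK LD1_c29 LD2_c19 LD3_c49)) = (LP (LK LD1_c20 LD2_c10 LD3_c3)) :=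
  Lre_b IH (LK LD1_c29 LD2_c19 LD3_c49) (LK LD1_c20 LD2_c10 LD3_c3) Lrfl Lrfl
theorem f601601 : Led Lsl_ff (LP (LK LD1_c26 LD2_c17 LD3_c31)) = (LP (LK LD1_c20 LD2_c10 LD3_c3)) :=
  Lgr Lrot25 (Lpr_bt (f398619 IH) (Lpr_ft (f601587 IH) (Lpr_bt (f423885 IH) (Lpn (LP (LK LD1_c20 LD2_c10 LD3_c3))))))
theorem f601603 : Led Lsl_at (LP (LK LD1_c26 LD2_c17 LD3_c31)) = (LP (LK LD1_c20 LD2_c10 LD3_c13)) :=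
  Lgr Lrot26 (Lpr_ff (f601601 IH) (Lpr_gt (K36.f423874 IH) (Lpr_gt (K38.f423913 IH) (Lpn (LP (LK LD1_c20 LD2_c10 LD3_c13))))))
theorem f601607 : Led Lsl_af (LP (LK LD1_c16 LD2_c51 LD3_c61)) = (LP (LK LD1_c11 LD2_c15 LD3_c10)) :=
  Lgr Lrot68 (Lpr_ct (K31.f398616 IH) (Lpr_at (f601603 IH) (Lpr_ct (K36.f422923 IH) (Lpn (LP (LK LD1_c11 LD2_c15 LD3_c10))))))
theorem f73114 : Led Lsl_dt (LP (LK LD1_c11 LD2_c23 LD3_c48)) = (LP (LK LD1_c20 LD2_c21 LD3_c38)) :=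
  Lre_d IH (LK LD1_c11 LD2_c23 LD3_c48) (LK LD1_c20 LD2_c21 LD3_c38) Lrfl Lrfl
theorem f542258 : Led Lsl_gf (LP (LK LD1_c16 LD2_c51 LD3_c61)) = (LP (LK LD1_c20 LD2_c21 LD3_c38)) :=
  Lgr Lrot143 (Lpr_dt (K40.f280516 IH) (Lpe (K31.f280517 IH) (Lpe (K31.f181751 IH) (Lpe (K31.f280513 IH) (Lpe (K16.f268874 IH) (Lpr_gf (K37.f542254 IH) (Lpe (K40.f73036 IH) (Lpr_gt (K41.f68608 IH) (Lpr_dt (f73114 IH) (Lpn (LP (LK LD1_c20 LD2_c21 LD3_c38))))))))))))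
theorem f422975 : Led Lsl_ft (LP (LK LD1_c9 LD2_c1 LD3_c22)) = (LP (LK LD1_c5 LD2_c38 LD3_c8)) :=
  Lgr Lrot4 (Lpr_cf (K31.f174853 IH) (Lpr_ff (K31.f422971 IH) (Lpe (K30.f172338 IH) (Lpn (LP (LK LD1_c5 LD2_c38 LD3_c8))))))
theorem f423729 : Led Lsl_dt (LP (LK LD1_c5 LD2_c38 LD3_c8)) = (LP (LK LD1_c2 LD2_c46 LD3_c5)) :=
  Lgr Lrot60 (Lpe (f422975 IH) (Lpr_df (K31.f407074 IH) (Lpr_ff (K31.f423724 IH) (Lpn (LP (LK LD1_c2 LD2_c46 LD3_c5))))))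
theorem f542279 : Led Lsl_dt (LP (LK LD1_c20 LD2_c21 LD3_c38)) = (LP (LK LD1_c11 LD2_c23 LD3_c48)) :=
  Lre_d IH (LK LD1_c20 LD2_c21 LD3_c38) (LK LD1_c11 LD2_c23 LD3_c48) Lrfl Lrfl
theorem f549345 : Led Lsl_gt (LP (LK LD1_c16 LD2_c51 LD3_c57)) = (LP (LK LD1_c20 LD2_c21 LD3_c38)) :=
  Lgr Lrot49 (Lpe (K31.f398555 IH) (Lpe (K39.f407050 IH) (Lpr_cf (K39.f549335 IH) (Lpr_gt (K39.f211895 IH) (Lpr_dt (f423729 IH) (Lpe (K31.f382084 IH) (Lpr_dt (K41.f382087 IH) (Lpr_cf (K45.f542283 IH) (Lpe (f542279 IH) (Lpn (LP (LK LD1_c20 LD2_c21 LD3_c38))))))))))))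
theorem f601611 : Led Lsl_ft (LP (LK LD1_c16 LD2_c51 LD3_c57)) = (LP (LK LD1_c11 LD2_c15 LD3_c10)) :=
  Lgr Lrot2 (Lpr_gt (f549345 IH) (Lpe (f542258 IH) (Lpr_af (f601607 IH) (Lpn (LP (LK LD1_c11 LD2_c15 LD3_c10))))))
theorem f601617 : Led Lsl_ff (LP (LK LD1_c26 LD2_c17 LD3_c34)) = (LP (LK LD1_c20 LD2_c10 LD3_c13)) :=
  Lgr Lrot23 (Lpe (K31.f407048 IH) (Lpr_ft (f601611 IH) (Lpr_ct (K38.f423905 IH) (Lpn (LP (LK LD1_c20 LD2_c10 LD3_c13))))))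
theorem f601626 : Led Lsl_ft (LP (LK LD1_c26 LD2_c17 LD3_c34)) = (LP (LK LD1_c20 LD2_c10 LD3_c13)) :=
  Lgr Lrot48 (Lpr_ff (f601617 IH) (Lpn (LP (LK LD1_c20 LD2_c10 LD3_c13))))
theorem f423922 : Led Lsl_bf (LP (LK LD1_c25 LD2_c54 LD3_c26)) = (LP (LK LD1_c20 LD2_c10 LD3_c13)) :=
  Lgr Lrot24 (Lpr_bt (K36.f423919 IH) (Lpn (LP (LK LD1_c20 LD2_c10 LD3_c13))))
theorem f423933 : Led Lsl_ft (LP (LK LD1_c25 LD2_c54 LD3_c26)) = (LP (LK LD1_c32 LD2_c1 LD3_c34)) :=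
  Lre_f IH (LK LD1_c25 LD2_c54 LD3_c26) (LK LD1_c32 LD2_c1 LD3_c34) Lrfl Lrfl
theorem f601630 : Led Lsl_bf (LP (LK LD1_c26 LD2_c17 LD3_c34)) = (LP (LK LD1_c32 LD2_c1 LD3_c34)) :=
  Lgr Lrot61 (Lpr_ft (f601626 IH) (Lpe (f423922 IH) (Lpr_ft (f423933 IH) (Lpn (LP (LK LD1_c32 LD2_c1 LD3_c34))))))
theorem f51478 : Led Lsl_bt (LP (LK LD1_c4 LD2_c15 LD3_c35)) = (LP (LK LD1_c8 LD2_c30 LD3_c6)) :=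
  Lre_b IH (LK LD1_c4 LD2_c15 LD3_c35) (LK LD1_c8 LD2_c30 LD3_c6) Lrfl Lrfl
theorem f601739 : Led Lsl_ct (LP (LK LD1_c25 LD2_c54 LD3_c27)) = (LP (LK LD1_c32 LD2_c1 LD3_c34)) :=
  Lre_c IH (LK LD1_c25 LD2_c54 LD3_c27) (LK LD1_c32 LD2_c1 LD3_c34) Lrfl Lrfl
theorem f601740 : Led Lsl_dt (LP (LK LD1_c15 LD2_c57 LD3_c47)) = (LP (LK LD1_c25 LD2_c54 LD3_c27)) :=
  Lre_d IH (LK LD1_c15 LD2_c57 LD3_c47) (LK LD1_c25 LD2_c54 LD3_c27) Lrfl Lrfl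
theorem f601748 : Led Lsl_gt (LP (LK LD1_c8 LD2_c30 LD3_c6)) = (LP (LK LD1_c15 LD2_c57 LD3_c47)) :=
  Lgr Lrot190 (Lpe (f51478 IH) (Lpe (K9.f51477 IH) (Lpe (K12.f51465 IH) (Lpe (K12.f834 IH) (Lpr_bf (K12.f216826 IH) (Lpe (K12.f181958 IH) (Lpe (K11.f182324 IH) (Lpe (K11.f180287 IH) (Lpe (K11.f211148 IH) (Lpe (K11.f182326 IH) (Lpe (K13.f237239 IH) (Lpe (K13.f193691 IH) (Lpe (K38.f237252 IH) (Lpe (K16.f181747 IH) (Lpe (K16.f181776 IH) (Lpe (K31.f398601 IH) (Lpr_bf (f601630 IH) (Lpe (f601739 IH) (Lpe (f601740 IH) (Lpn (LP (LK LD1_c15 LD2_c57 LD3_c47))))))))))))))))))))))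
theorem f192012 : Led Lsl_at (LP (LK LD1_c8 LD2_c22 LD3_c36)) = (LP (LK LD1_c15 LD2_c45 LD3_c44)) :=
  Lre_a IH (LK LD1_c8 LD2_c22 LD3_c36) (LK LD1_c15 LD2_c45 LD3_c44) Lrfl Lrfl
theorem f374233 : Led Lsl_cf (LP (LK LD1_c8 LD2_c22 LD3_c36)) = (LP (LK LD1_c8 LD2_c31 LD3_c11)) :=
  Lgr Lrot1 (Lpr_at (f192012 IH) (Lpr_ct (K30.f374231 IH) (Lpr_at (K30.f266959 IH) (Lpn (LP (LK LD1_c8 LD2_c31 LD3_c11))))))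
theorem f192002 : Led Lsl_gt (LP (LK LD1_c15 LD2_c45 LD3_c43)) = (LP (LK LD1_c8 LD2_c22 LD3_c36)) :=
  Lre_g IH (LK LD1_c15 LD2_c45 LD3_c43) (LK LD1_c8 LD2_c22 LD3_c36) Lrfl Lrfl
theorem f192008 : Led Lsl_ct (LP (LK LD1_c25 LD2_c42 LD3_c22)) = (LP (LK LD1_c15 LD2_c45 LD3_c43)) :=
  Lre_c IH (LK LD1_c25 LD2_c42 LD3_c22) (LK LD1_c15 LD2_c45 LD3_c43) Lrfl Lrfl
theorem f601773 : Led Lsl_bt (LP (LK LD1_c25 LD2_c42 LD3_c22)) = (LP (LK LD1_c15 LD2_c57 LD3_c47)) :=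
  Lgr Lrot92 (Lpr_ct (f192008 IH) (Lpr_gt (f192002 IH) (Lpr_cf (f374233 IH) (Lpr_bt (K30.f243539 IH) (Lpr_gt (K13.f220557 IH) (Lpr_ct (K13.f220550 IH) (Lpr_gt (K12.f51467 IH) (Lpe (K12.f52203 IH) (Lpr_bt (f51478 IH) (Lpr_gt (f601748 IH) (Lpn (LP (LK LD1_c15 LD2_c57 LD3_c47)))))))))))))
theorem f601742 : Led Lsl_ft (LP (LK LD1_c15 LD2_c57 LD3_c47)) = (LP (LK LD1_c8 LD2_c30 LD3_c2)) :=
  Lre_f IH (LK LD1_c15 LD2_c57 LD3_c47) (LK LD1_c8 LD2_c30 LD3_c2) Lrfl Lrfl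
theorem f374194 : Led Lsl_bt (LP (LK LD1_c8 LD2_c30 LD3_c2)) = (LP (LK LD1_c15 LD2_c57 LD3_c43)) :=
  Lre_b IH (LK LD1_c8 LD2_c30 LD3_c2) (LK LD1_c15 LD2_c57 LD3_c43) Lrfl Lrfl
theorem f601781 : Led Lsl_ff (LP (LK LD1_c25 LD2_c42 LD3_c22)) = (LP (LK LD1_c15 LD2_c57 LD3_c43)) :=
  Lgr Lrot25 (Lpr_bt (f601773 IH) (Lpr_ft (f601742 IH) (Lpr_bt (f374194 IH) (Lpn (LP (LK LD1_c15 LD2_c57 LD3_c43))))))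
theorem f601787 : Led Lsl_ft (LP (LK LD1_c25 LD2_c42 LD3_c22)) = (LP (LK LD1_c15 LD2_c57 LD3_c43)) :=
  Lgr Lrot48 (Lpr_ff (f601781 IH) (Lpn (LP (LK LD1_c15 LD2_c57 LD3_c43))))
theorem f398936 : Led Lsl_at (LP (LK LD1_c25 LD2_c54 LD3_c21)) = (LP (LK LD1_c16 LD2_c0 LD3_c50)) :=
  Lgr Lrot100 (Lpr_af (K31.f398934 IH) (Lpn (LP (LK LD1_c16 LD2_c0 LD3_c50))))
theorem f270426 : Led Lsl_bt (LP (LK LD1_c16 LD2_c16 LD3_c5)) = (LP (LK LD1_c26 LD2_c13 LD3_c54)) :=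
  Lre_b IH (LK LD1_c16 LD2_c16 LD3_c5) (LK LD1_c26 LD2_c13 LD3_c54) Lrfl Lrfl
theorem f398771 : Led Lsl_ff (LP (LK LD1_c25 LD2_c54 LD3_c21)) = (LP (LK LD1_c26 LD2_c13 LD3_c54)) :=
  Lgr Lrot25 (Lpr_bt (K31.f397846 IH) (Lpr_ft (K31.f398769 IH) (Lpr_bt (f270426 IH) (Lpn (LP (LK LD1_c26 LD2_c13 LD3_c54))))))
theorem f374274 : Led Lsl_gf (LP (LK LD1_c25 LD2_c42 LD3_c22)) = (LP (LK LD1_c26 LD2_c13 LD3_c54)) :=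
  Lgr Lrot181 (Lpr_ct (f192008 IH) (Lpr_gt (f192002 IH) (Lpr_cf (f374233 IH) (Lpr_bt (K30.f243539 IH) (Lpr_gt (K13.f220557 IH) (Lpe (K30.f260543 IH) (Lpe (K30.f237766 IH) (Lpr_gt (K31.f227218 IH) (Lpe (K31.f270420 IH) (Lpr_bt (f270426 IH) (Lpn (LP (LK LD1_c26 LD2_c13 LD3_c54)))))))))))))
theorem f400009 : Led Lsl_gt (LP (LK LD1_c25 LD2_c42 LD3_c22)) = (LP (LK LD1_c16 LD2_c0 LD3_c50)) :=
  Lgr Lrot46 (Lpr_gf (f374274 IH) (Lpe (f398771 IH) (Lpr_at (f398936 IH) (Lpn (LP (LK LD1_c16 LD2_c0 LD3_c50))))))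
theorem f252048 : Led Lsl_gt (LP (LK LD1_c8 LD2_c21 LD3_c18)) = (LP (LK LD1_c15 LD2_c43 LD3_c27)) :=
  Lre_g IH (LK LD1_c8 LD2_c21 LD3_c18) (LK LD1_c15 LD2_c43 LD3_c27) Lrfl Lrfl
theorem f562153 : Led Lsl_bf (LP (LK LD1_c15 LD2_c43 LD3_c27)) = (LP (LK LD1_c11 LD2_c59 LD3_c7)) :=
  Lgr Lrot34 (Lpe (f252048 IH) (Lpe (K40.f252042 IH) (Lpr_ct (K14.f252043 IH) (Lpe (K14.f200554 IH) (Lpe (K14.f211430 IH) (Lpe (K14.f232259 IH) (Lpe (K27.f184303 IH) (Lpe (K27.f184349 IH) (Lpe (K32.f381169 IH) (Lpr_cf (K40.f562140 IH) (Lpn (LP (LK LD1_c11 LD2_c59 LD3_c7)))))))))))))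
theorem f562159 : Led Lsl_dt (LP (LK LD1_c15 LD2_c43 LD3_c27)) = (LP (LK LD1_c11 LD2_c59 LD3_c6)) :=
  Lgr Lrot79 (Lpr_bf (f562153 IH) (Lpe (K40.f73172 IH) (Lpe (K40.f60083 IH) (Lpn (LP (LK LD1_c11 LD2_c59 LD3_c6))))))
theorem f400761 : Led Lsl_dt (LP (LK LD1_c15 LD2_c46 LD3_c58)) = (LP (LK LD1_c25 LD2_c43 LD3_c36)) :=
  Lre_d IH (LK LD1_c15 LD2_c46 LD3_c58) (LK LD1_c25 LD2_c43 LD3_c36) Lrfl Lrfl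
theorem f290093 : Led Lsl_et (LP (LK LD1_c8 LD2_c22 LD3_c38)) = (LP (LK LD1_c4 LD2_c11 LD3_c27)) :=
  Lre_e IH (LK LD1_c8 LD2_c22 LD3_c38) (LK LD1_c4 LD2_c11 LD3_c27) Lrfl Lrfl
theorem f319098 : Led Lsl_af (LP (LK LD1_c4 LD2_c17 LD3_c39)) = (LP (LK LD1_c4 LD2_c11 LD3_c27)) :=
  Lgr Lrot50 (Lpr_et (K18.f188814 IH) (Lpr_at (K20.f319085 IH) (Lpr_et (f290093 IH) (Lpn (LP (LK LD1_c4 LD2_c11 LD3_c27))))))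
theorem f319100 : Led Lsl_bt (LP (LK LD1_c16 LD2_c5 LD3_c14)) = (LP (LK LD1_c15 LD2_c45 LD3_c47)) :=
  Lgr Lrot62 (Lpe (K30.f191989 IH) (Lpe (K27.f188809 IH) (Lpr_af (f319098 IH) (Lpe (K20.f200137 IH) (Lpe (K20.f319015 IH) (Lpn (LP (LK LD1_c15 LD2_c45 LD3_c47))))))))
theorem f542161 : Led Lsl_dt (LP (LK LD1_c21 LD2_c3 LD3_c55)) = (LP (LK LD1_c16 LD2_c5 LD3_c14)) :=
  Lgr Lrot79 (Lpr_bf (K40.f542155 IH) (Lpr_df (K20.f319122 IH) (Lpe (f319100 IH) (Lpn (LP (LK LD1_c16 LD2_c5 LD3_c14))))))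
theorem f374068 : Led Lsl_ft (LP (LK LD1_c8 LD2_c30 LD3_c31)) = (LP (LK LD1_c10 LD2_c19 LD3_c11)) :=
  Lgr Lrot54 (Lpe (K19.f312043 IH) (Lpr_ff (K30.f374008 IH) (Lpe (K12.f33447 IH) (Lpn (LP (LK LD1_c10 LD2_c19 LD3_c11))))))
theorem f243530 : Led Lsl_dt (LP (LK LD1_c8 LD2_c30 LD3_c32)) = (LP (LK LD1_c4 LD2_c16 LD3_c4)) :=
  Lgr Lrot6 (Lpr_gt (K13.f684 IH) (Lpr_ct (K13.f243520 IH) (Lpr_gt (K13.f195806 IH) (Lpr_ct (K12.f188961 IH) (Lpe (K15.f874 IH) (Lpe (K9.f51477 IH) (Lpe (K12.f51467 IH) (Lpe (K13.f220550 IH) (Lpe (K13.f220557 IH) (Lpn (LP (LK LD1_c4 LD2_c16 LD3_c4))))))))))))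
theorem f263686 : Led Lsl_gt (LP (LK LD1_c4 LD2_c15 LD3_c60)) = (LP (LK LD1_c8 LD2_c30 LD3_c32)) :=
  Lgr Lrot49 (Lpe (K14.f243381 IH) (Lpr_gf (K16.f262772 IH) (Lpr_cf (K15.f243272 IH) (Lpr_gt (K15.f263684 IH) (Lpr_dt (K15.f219089 IH) (Lpr_gt (K14.f222165 IH) (Lpr_dt (K11.f33445 IH) (Lpr_cf (K13.f243568 IH) (Lpe (f243530 IH) (Lpn (LP (LK LD1_c8 LD2_c30 LD3_c32))))))))))))
theorem f374284 : Led Lsl_af (LP (LK LD1_c8 LD2_c30 LD3_c32)) = (LP (LK LD1_c10 LD2_c19 LD3_c11)) :=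
  Lgr Lrot31 (Lpe (f263686 IH) (Lpe (K19.f278071 IH) (Lpr_ft (f374068 IH) (Lpn (LP (LK LD1_c10 LD2_c19 LD3_c11))))))
theorem f278061 : Led Lsl_af (LP (LK LD1_c8 LD2_c30 LD3_c31)) = (LP (LK LD1_c10 LD2_c19 LD3_c16)) :=
  Lgr Lrot68 (Lpr_ct (K16.f278057 IH) (Lpr_at (K16.f33468 IH) (Lpr_ct (K16.f33479 IH) (Lpn (LP (LK LD1_c10 LD2_c19 LD3_c16))))))
theorem f374293 : Led Lsl_ft (LP (LK LD1_c8 LD2_c30 LD3_c32)) = (LP (LK LD1_c10 LD2_c19 LD3_c16)) :=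
  Lgr Lrot101 (Lpr_af (f374284 IH) (Lpe (f374068 IH) (Lpr_af (f278061 IH) (Lpn (LP (LK LD1_c10 LD2_c19 LD3_c16))))))
theorem f243534 : Led Lsl_bt (LP (LK LD1_c15 LD2_c58 LD3_c50)) = (LP (LK LD1_c8 LD2_c30 LD3_c32)) :=
  Lre_b IH (LK LD1_c15 LD2_c58 LD3_c50) (LK LD1_c8 LD2_c30 LD3_c32) Lrfl Lrfl
theorem f188905 : Led Lsl_bt (LP (LK LD1_c10 LD2_c19 LD3_c16)) = (LP (LK LD1_c18 LD2_c44 LD3_c12)) :=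
  Lre_b IH (LK LD1_c10 LD2_c19 LD3_c16) (LK LD1_c18 LD2_c44 LD3_c12) Lrfl Lrfl
theorem f374295 : Led Lsl_ff (LP (LK LD1_c15 LD2_c58 LD3_c50)) = (LP (LK LD1_c18 LD2_c44 LD3_c12)) :=
  Lgr Lrot25 (Lpr_bt (f243534 IH) (Lpr_ft (f374293 IH) (Lpr_bt (f188905 IH) (Lpn (LP (LK LD1_c18 LD2_c44 LD3_c12))))))
theorem f243538 : Led Lsl_bt (LP (LK LD1_c8 LD2_c30 LD3_c32)) = (LP (LK LD1_c15 LD2_c58 LD3_c50)) :=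
  Lre_b IH (LK LD1_c8 LD2_c30 LD3_c32) (LK LD1_c15 LD2_c58 LD3_c50) Lrfl Lrfl
theorem f243540 : Led Lsl_dt (LP (LK LD1_c15 LD2_c58 LD3_c50)) = (LP (LK LD1_c8 LD2_c31 LD3_c11)) :=
  Lgr Lrot79 (Lpe (f243538 IH) (Lpr_df (K13.f243532 IH) (Lpe (K30.f243539 IH) (Lpn (LP (LK LD1_c8 LD2_c31 LD3_c11))))))
theorem f374326 : Led Lsl_dt (LP (LK LD1_c15 LD2_c57 LD3_c7)) = (LP (LK LD1_c18 LD2_c44 LD3_c12)) :=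
  Lgr Lrot60 (Lpe (K30.f374190 IH) (Lpe (f243540 IH) (Lpr_ff (f374295 IH) (Lpn (LP (LK LD1_c18 LD2_c44 LD3_c12))))))
theorem f374217 : Led Lsl_at (LP (LK LD1_c25 LD2_c43 LD3_c44)) = (LP (LK LD1_c15 LD2_c57 LD3_c7)) :=
  Lgr Lrot100 (Lpr_af (K30.f374215 IH) (Lpn (LP (LK LD1_c15 LD2_c57 LD3_c7))))
theorem f374304 : Led Lsl_at (LP (LK LD1_c18 LD2_c44 LD3_c12)) = (LP (LK LD1_c28 LD2_c14 LD3_c17)) :=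
  Lre_a IH (LK LD1_c18 LD2_c44 LD3_c12) (LK LD1_c28 LD2_c14 LD3_c17) Lrfl Lrfl
theorem f374330 : Led Lsl_df (LP (LK LD1_c25 LD2_c43 LD3_c44)) = (LP (LK LD1_c28 LD2_c14 LD3_c17)) :=
  Lgr Lrot18 (Lpr_at (f374217 IH) (Lpr_dt (f374326 IH) (Lpr_at (f374304 IH) (Lpn (LP (LK LD1_c28 LD2_c14 LD3_c17))))))
theorem f562171 : Led Lsl_gt (LP (LK LD1_c25 LD2_c43 LD3_c36)) = (LP (LK LD1_c28 LD2_c14 LD3_c17)) :=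
  Lgr Lrot49 (Lpe (f400761 IH) (Lpe (K40.f400757 IH) (Lpe (K40.f344426 IH) (Lpr_gt (f252048 IH) (Lpr_dt (f562159 IH) (Lpr_gt (K40.f542154 IH) (Lpr_dt (f542161 IH) (Lpe (K30.f374222 IH) (Lpr_df (f374330 IH) (Lpn (LP (LK LD1_c28 LD2_c14 LD3_c17))))))))))))
theorem f400762 : Led Lsl_dt (LP (LK LD1_c25 LD2_c43 LD3_c36)) = (LP (LK LD1_c15 LD2_c46 LD3_c58)) :=
  Lre_d IH (LK LD1_c25 LD2_c43 LD3_c36) (LK LD1_c15 LD2_c46 LD3_c58) Lrfl Lrfl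
theorem f561924 : Led Lsl_ct (LP (LK LD1_c20 LD2_c11 LD3_c27)) = (LP (LK LD1_c29 LD2_c21 LD3_c15)) :=
  Lre_c IH (LK LD1_c20 LD2_c11 LD3_c27) (LK LD1_c29 LD2_c21 LD3_c15) Lrfl Lrfl
theorem f418702 : Led Lsl_gt (LP (LK LD1_c29 LD2_c21 LD3_c14)) = (LP (LK LD1_c20 LD2_c11 LD3_c27)) :=
  Lre_g IH (LK LD1_c29 LD2_c21 LD3_c14) (LK LD1_c20 LD2_c11 LD3_c27) Lrfl Lrfl
theorem f562175 : Led Lsl_cf (LP (LK LD1_c29 LD2_c21 LD3_c14)) = (LP (LK LD1_c28 LD2_c14 LD3_c17)) :=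
  Lgr Lrot169 (Lpr_gt (f418702 IH) (Lpr_ct (f561924 IH) (Lpe (K40.f561962 IH) (Lpe (K40.f344458 IH) (Lpr_gf (K40.f344456 IH) (Lpr_cf (K40.f344449 IH) (Lpr_gf (K40.f400759 IH) (Lpe (f400762 IH) (Lpr_gt (f562171 IH) (Lpn (LP (LK LD1_c28 LD2_c14 LD3_c17))))))))))))
theorem f280894 : Led Lsl_gt (LP (LK LD1_c11 LD2_c15 LD3_c50)) = (LP (LK LD1_c20 LD2_c11 LD3_c24)) :=
  Lre_g IH (LK LD1_c11 LD2_c15 LD3_c50) (LK LD1_c20 LD2_c11 LD3_c24) Lrfl Lrfl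
theorem f281569 : Led Lsl_bt (LP (LK LD1_c11 LD2_c16 LD3_c0)) = (LP (LK LD1_c5 LD2_c42 LD3_c54)) :=
  Lre_b IH (LK LD1_c11 LD2_c16 LD3_c0) (LK LD1_c5 LD2_c42 LD3_c54) Lrfl Lrfl
theorem f280836 : Led Lsl_bt (LP (LK LD1_c5 LD2_c31 LD3_c42)) = (LP (LK LD1_c2 LD2_c47 LD3_c25)) :=
  Lgr Lrot35 (Lpr_ff (K20.f280804 IH) (Lpr_bf (K20.f174458 IH) (Lpe (K16.f280352 IH) (Lpn (LP (LK LD1_c2 LD2_c47 LD3_c25))))))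
theorem f226119 : Led Lsl_ct (LP (LK LD1_c10 LD2_c55 LD3_c4)) = (LP (LK LD1_c5 LD2_c31 LD3_c40)) :=
  Lre_c IH (LK LD1_c10 LD2_c55 LD3_c4) (LK LD1_c5 LD2_c31 LD3_c40) Lrfl Lrfl
theorem f226139 : Led Lsl_bt (LP (LK LD1_c10 LD2_c55 LD3_c4)) = (LP (LK LD1_c19 LD2_c43 LD3_c17)) :=
  Lre_b IH (LK LD1_c10 LD2_c55 LD3_c4) (LK LD1_c19 LD2_c43 LD3_c17) Lrfl Lrfl
theorem f235991 : Led Lsl_dt (LP (LK LD1_c28 LD2_c51 LD3_c1)) = (LP (LK LD1_c19 LD2_c28 LD3_c53)) :=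
  Lre_d IH (LK LD1_c28 LD2_c51 LD3_c1) (LK LD1_c19 LD2_c28 LD3_c53) Lrfl Lrfl
theorem f388347 : Led Lsl_gt (LP (LK LD1_c19 LD2_c43 LD3_c17)) = (LP (LK LD1_c28 LD2_c51 LD3_c1)) :=
  Lgr Lrot190 (Lpe (f226139 IH) (Lpe (K14.f226025 IH) (Lpr_df (K30.f388238 IH) (Lpe (K30.f179765 IH) (Lpe (K30.f179764 IH) (Lpe (K12.f167776 IH) (Lpe (K9.f165019 IH) (Lpe (K9.f40823 IH) (Lpe (K9.f167790 IH) (Lpe (K9.f167804 IH) (Lpe (K12.f55280 IH) (Lpe (K12.f55291 IH) (Lpe (K12.f201127 IH) (Lpe (K12.f188612 IH) (Lpe (K16.f188610 IH) (Lpr_gf (K16.f271473 IH) (Lpe (K31.f295122 IH) (Lpe (K38.f235836 IH) (Lpe (f235991 IH) (Lpn (LP (LK LD1_c28 LD2_c51 LD3_c1))))))))))))))))))))))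
theorem f380607 : Led Lsl_gt (LP (LK LD1_c20 LD2_c6 LD3_c1)) = (LP (LK LD1_c11 LD2_c11 LD3_c28)) :=
  Lre_g IH (LK LD1_c20 LD2_c6 LD3_c1) (LK LD1_c11 LD2_c11 LD3_c28) Lrfl Lrfl
theorem f418687 : Led Lsl_ct (LP (LK LD1_c28 LD2_c51 LD3_c1)) = (LP (LK LD1_c20 LD2_c6 LD3_c1)) :=
  Lgr Lrot91 (Lpe (f388347 IH) (Lpe (f226139 IH) (Lpr_ct (f226119 IH) (Lpe (K14.f224535 IH) (Lpe (K20.f178895 IH) (Lpr_bt (f280836 IH) (Lpe (K39.f174223 IH) (Lpe (f281569 IH) (Lpr_ct (K43.f418623 IH) (Lpe (f380607 IH) (Lpn (LP (LK LD1_c20 LD2_c6 LD3_c1)))))))))))))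
theorem f280310 : Led Lsl_bt (LP (LK LD1_c5 LD2_c42 LD3_c48)) = (LP (LK LD1_c11 LD2_c15 LD3_c50)) :=
  Lre_b IH (LK LD1_c5 LD2_c42 LD3_c48) (LK LD1_c11 LD2_c15 LD3_c50) Lrfl Lrfl
theorem f418693 : Led Lsl_bt (LP (LK LD1_c28 LD2_c51 LD3_c1)) = (LP (LK LD1_c20 LD2_c11 LD3_c24)) :=
  Lgr Lrot92 (Lpr_ct (f418687 IH) (Lpr_gt (f380607 IH) (Lpe (K43.f418623 IH) (Lpr_bt (f281569 IH) (Lpr_gt (K39.f174223 IH) (Lpr_ct (K31.f174233 IH) (Lpr_gt (K36.f280301 IH) (Lpe (K36.f280306 IH) (Lpr_bt (f280310 IH) (Lpr_gt (f280894 IH) (Lpn (LP (LK LD1_c20 LD2_c11 LD3_c24)))))))))))))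
theorem f235825 : Led Lsl_dt (LP (LK LD1_c19 LD2_c28 LD3_c53)) = (LP (LK LD1_c28 LD2_c51 LD3_c1)) :=
  Lre_d IH (LK LD1_c19 LD2_c28 LD3_c53) (LK LD1_c28 LD2_c51 LD3_c1) Lrfl Lrfl
theorem f282791 : Led Lsl_et (LP (LK LD1_c15 LD2_c59 LD3_c56)) = (LP (LK LD1_c8 LD2_c31 LD3_c17)) :=
  Lre_e IH (LK LD1_c15 LD2_c59 LD3_c56) (LK LD1_c8 LD2_c31 LD3_c17) Lrfl Lrfl
theorem f251117 : Led Lsl_et (LP (LK LD1_c8 LD2_c30 LD3_c24)) = (LP (LK LD1_c15 LD2_c58 LD3_c28)) :=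
  Lre_e IH (LK LD1_c8 LD2_c30 LD3_c24) (LK LD1_c15 LD2_c58 LD3_c28) Lrfl Lrfl
theorem f323024 : Led Lsl_af (LP (LK LD1_c15 LD2_c59 LD3_c56)) = (LP (LK LD1_c15 LD2_c58 LD3_c28)) :=
  Lgr Lrot50 (Lpr_et (f282791 IH) (Lpr_at (K20.f323017 IH) (Lpr_et (f251117 IH) (Lpn (LP (LK LD1_c15 LD2_c58 LD3_c28))))))
theorem f401986 : Led Lsl_at (LP (LK LD1_c15 LD2_c59 LD3_c56)) = (LP (LK LD1_c15 LD2_c58 LD3_c28)) :=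
  Lgr Lrot100 (Lpr_af (f323024 IH) (Lpn (LP (LK LD1_c15 LD2_c58 LD3_c28))))
theorem f282777 : Led Lsl_et (LP (LK LD1_c15 LD2_c37 LD3_c38)) = (LP (LK LD1_c8 LD2_c18 LD3_c31)) :=
  Lre_e IH (LK LD1_c15 LD2_c37 LD3_c38) (LK LD1_c8 LD2_c18 LD3_c31) Lrfl Lrfl
theorem f271552 : Led Lsl_et (LP (LK LD1_c8 LD2_c31 LD3_c17)) = (LP (LK LD1_c15 LD2_c59 LD3_c56)) :=
  Lre_e IH (LK LD1_c8 LD2_c31 LD3_c17) (LK LD1_c15 LD2_c59 LD3_c56) Lrfl Lrfl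
theorem f282778 : Led Lsl_cf (LP (LK LD1_c15 LD2_c37 LD3_c38)) = (LP (LK LD1_c15 LD2_c59 LD3_c56)) :=
  Lgr Lrot39 (Lpr_et (f282777 IH) (Lpr_ct (K17.f282732 IH) (Lpr_et (f271552 IH) (Lpn (LP (LK LD1_c15 LD2_c59 LD3_c56))))))
theorem f282784 : Led Lsl_ct (LP (LK LD1_c15 LD2_c37 LD3_c38)) = (LP (LK LD1_c15 LD2_c59 LD3_c56)) :=
  Lgr Lrot59 (Lpr_cf (f282778 IH) (Lpn (LP (LK LD1_c15 LD2_c59 LD3_c56))))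
theorem f339239 : Led Lsl_ft (LP (LK LD1_c15 LD2_c37 LD3_c32)) = (LP (LK LD1_c25 LD2_c32 LD3_c32)) :=
  Lre_f IH (LK LD1_c15 LD2_c37 LD3_c32) (LK LD1_c25 LD2_c32 LD3_c32) Lrfl Lrfl
theorem f339260 : Led Lsl_ff (LP (LK LD1_c25 LD2_c32 LD3_c30)) = (LP (LK LD1_c28 LD2_c49 LD3_c0)) :=
  Lgr Lrot23 (Lpr_ct (K23.f236338 IH) (Lpr_ft (f339239 IH) (Lpr_ct (K22.f339252 IH) (Lpn (LP (LK LD1_c28 LD2_c49 LD3_c0))))))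
theorem f341604 : Led Lsl_at (LP (LK LD1_c25 LD2_c32 LD3_c30)) = (LP (LK LD1_c19 LD2_c29 LD3_c3)) :=
  Lgr Lrot66 (Lpr_ff (f339260 IH) (Lpr_af (K23.f341602 IH) (Lpe (K23.f341589 IH) (Lpn (LP (LK LD1_c19 LD2_c29 LD3_c3))))))
theorem f339234 : Led Lsl_et (LP (LK LD1_c31 LD2_c55 LD3_c47)) = (LP (LK LD1_c25 LD2_c32 LD3_c30)) :=
  Lre_e IH (LK LD1_c31 LD2_c55 LD3_c47) (LK LD1_c25 LD2_c32 LD3_c30) Lrfl Lrfl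
theorem f323199 : Led Lsl_et (LP (LK LD1_c19 LD2_c29 LD3_c3)) = (LP (LK LD1_c28 LD2_c51 LD3_c7)) :=
  Lre_e IH (LK LD1_c19 LD2_c29 LD3_c3) (LK LD1_c28 LD2_c51 LD3_c7) Lrfl Lrfl
theorem f341644 : Led Lsl_af (LP (LK LD1_c31 LD2_c55 LD3_c47)) = (LP (LK LD1_c28 LD2_c51 LD3_c7)) :=
  Lgr Lrot50 (Lpr_et (f339234 IH) (Lpr_at (f341604 IH) (Lpr_et (f323199 IH) (Lpn (LP (LK LD1_c28 LD2_c51 LD3_c7))))))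
theorem f282789 : Led Lsl_ct (LP (LK LD1_c31 LD2_c55 LD3_c47)) = (LP (LK LD1_c25 LD2_c32 LD3_c31)) :=
  Lre_c IH (LK LD1_c31 LD2_c55 LD3_c47) (LK LD1_c25 LD2_c32 LD3_c31) Lrfl Lrfl
theorem f341649 : Led Lsl_ct (LP (LK LD1_c19 LD2_c28 LD3_c59)) = (LP (LK LD1_c28 LD2_c51 LD3_c7)) :=
  Lre_c IH (LK LD1_c19 LD2_c28 LD3_c59) (LK LD1_c28 LD2_c51 LD3_c7) Lrfl Lrfl
theorem f341650 : Led Lsl_at (LP (LK LD1_c25 LD2_c32 LD3_c31)) = (LP (LK LD1_c19 LD2_c28 LD3_c59)) :=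
  Lgr Lrot107 (Lpe (f282789 IH) (Lpr_af (f341644 IH) (Lpe (f341649 IH) (Lpn (LP (LK LD1_c19 LD2_c28 LD3_c59))))))
theorem f282786 : Led Lsl_dt (LP (LK LD1_c15 LD2_c37 LD3_c38)) = (LP (LK LD1_c25 LD2_c32 LD3_c31)) :=
  Lre_d IH (LK LD1_c15 LD2_c37 LD3_c38) (LK LD1_c25 LD2_c32 LD3_c31) Lrfl Lrfl
theorem f250955 : Led Lsl_dt (LP (LK LD1_c19 LD2_c28 LD3_c59)) = (LP (LK LD1_c10 LD2_c46 LD3_c22)) :=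
  Lre_d IH (LK LD1_c19 LD2_c28 LD3_c59) (LK LD1_c10 LD2_c46 LD3_c22) Lrfl Lrfl
theorem f341655 : Led Lsl_af (LP (LK LD1_c15 LD2_c37 LD3_c38)) = (LP (LK LD1_c10 LD2_c46 LD3_c22)) :=
  Lgr Lrot117 (Lpr_dt (f282786 IH) (Lpr_at (f341650 IH) (Lpr_dt (f250955 IH) (Lpn (LP (LK LD1_c10 LD2_c46 LD3_c22))))))
theorem f401992 : Led Lsl_cf (LP (LK LD1_c10 LD2_c46 LD3_c22)) = (LP (LK LD1_c15 LD2_c58 LD3_c28)) :=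
  Lgr Lrot1 (Lpe (f341655 IH) (Lpr_ct (f282784 IH) (Lpr_at (f401986 IH) (Lpn (LP (LK LD1_c15 LD2_c58 LD3_c28))))))
theorem f341663 : Led Lsl_bt (LP (LK LD1_c10 LD2_c46 LD3_c22)) = (LP (LK LD1_c19 LD2_c28 LD3_c54)) :=
  Lre_b IH (LK LD1_c10 LD2_c46 LD3_c22) (LK LD1_c19 LD2_c28 LD3_c54) Lrfl Lrfl
theorem f401995 : Led Lsl_ct (LP (LK LD1_c19 LD2_c28 LD3_c54)) = (LP (LK LD1_c28 LD2_c51 LD3_c2)) :=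
  Lre_c IH (LK LD1_c19 LD2_c28 LD3_c54) (LK LD1_c28 LD2_c51 LD3_c2) Lrfl Lrfl
theorem f401988 : Led Lsl_bt (LP (LK LD1_c25 LD2_c55 LD3_c30)) = (LP (LK LD1_c15 LD2_c58 LD3_c28)) :=
  Lre_b IH (LK LD1_c25 LD2_c55 LD3_c30) (LK LD1_c15 LD2_c58 LD3_c28) Lrfl Lrfl
theorem f401996 : Led Lsl_ct (LP (LK LD1_c32 LD2_c1 LD3_c55)) = (LP (LK LD1_c25 LD2_c55 LD3_c30)) :=
  Lre_c IH (LK LD1_c32 LD2_c1 LD3_c55) (LK LD1_c25 LD2_c55 LD3_c30) Lrfl Lrfl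
theorem f401997 : Led Lsl_bt (LP (LK LD1_c28 LD2_c51 LD3_c2)) = (LP (LK LD1_c32 LD2_c1 LD3_c55)) :=
  Lgr Lrot128 (Lpe (f401995 IH) (Lpe (f341663 IH) (Lpr_cf (f401992 IH) (Lpe (f401988 IH) (Lpe (f401996 IH) (Lpn (LP (LK LD1_c32 LD2_c1 LD3_c55))))))))
theorem f388351 : Led Lsl_et (LP (LK LD1_c19 LD2_c28 LD3_c53)) = (LP (LK LD1_c28 LD2_c51 LD3_c2)) :=
  Lre_e IH (LK LD1_c19 LD2_c28 LD3_c53) (LK LD1_c28 LD2_c51 LD3_c2) Lrfl Lrfl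
theorem f395967 : Led Lsl_et (LP (LK LD1_c32 LD2_c1 LD3_c55)) = (LP (LK LD1_c25 LD2_c55 LD3_c29)) :=
  Lre_e IH (LK LD1_c32 LD2_c1 LD3_c55) (LK LD1_c25 LD2_c55 LD3_c29) Lrfl Lrfl
theorem f402003 : Led Lsl_bf (LP (LK LD1_c19 LD2_c28 LD3_c53)) = (LP (LK LD1_c25 LD2_c55 LD3_c29)) :=
  Lgr Lrot96 (Lpr_et (f388351 IH) (Lpr_bt (f401997 IH) (Lpr_et (f395967 IH) (Lpn (LP (LK LD1_c25 LD2_c55 LD3_c29))))))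
theorem f418697 : Led Lsl_df (LP (LK LD1_c25 LD2_c55 LD3_c29)) = (LP (LK LD1_c20 LD2_c11 LD3_c24)) :=
  Lgr Lrot12 (Lpe (f402003 IH) (Lpr_dt (f235825 IH) (Lpr_bt (f418693 IH) (Lpn (LP (LK LD1_c20 LD2_c11 LD3_c24))))))
theorem f323057 : Led Lsl_dt (LP (LK LD1_c8 LD2_c30 LD3_c23)) = (LP (LK LD1_c15 LD2_c58 LD3_c26)) :=
  Lre_d IH (LK LD1_c8 LD2_c30 LD3_c23) (LK LD1_c15 LD2_c58 LD3_c26) Lrfl Lrfl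
theorem f323106 : Led Lsl_gt (LP (LK LD1_c15 LD2_c58 LD3_c24)) = (LP (LK LD1_c8 LD2_c30 LD3_c23)) :=
  Lre_g IH (LK LD1_c15 LD2_c58 LD3_c24) (LK LD1_c8 LD2_c30 LD3_c23) Lrfl Lrfl
theorem f323112 : Led Lsl_dt (LP (LK LD1_c25 LD2_c55 LD3_c24)) = (LP (LK LD1_c15 LD2_c58 LD3_c24)) :=
  Lre_d IH (LK LD1_c25 LD2_c55 LD3_c24) (LK LD1_c15 LD2_c58 LD3_c24) Lrfl Lrfl
theorem f562182 : Led Lsl_gf (LP (LK LD1_c25 LD2_c55 LD3_c24)) = (LP (LK LD1_c28 LD2_c14 LD3_c17)) :=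
  Lgr Lrot144 (Lpr_dt (f323112 IH) (Lpr_gt (f323106 IH) (Lpr_dt (f323057 IH) (Lpe (K38.f271464 IH) (Lpr_df (f418697 IH) (Lpe (f280894 IH) (Lpe (K40.f418701 IH) (Lpe (f418702 IH) (Lpr_cf (f562175 IH) (Lpn (LP (LK LD1_c28 LD2_c14 LD3_c17))))))))))))
theorem f374297 : Led Lsl_ff (LP (LK LD1_c8 LD2_c30 LD3_c32)) = (LP (LK LD1_c10 LD2_c19 LD3_c16)) :=
  Lgr Lrot3 (Lpr_ft (f374293 IH) (Lpn (LP (LK LD1_c10 LD2_c19 LD3_c16))))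
theorem f374301 : Led Lsl_ft (LP (LK LD1_c15 LD2_c58 LD3_c50)) = (LP (LK LD1_c18 LD2_c44 LD3_c12)) :=
  Lgr Lrot75 (Lpe (f243538 IH) (Lpr_ff (f374297 IH) (Lpe (K31.f271545 IH) (Lpn (LP (LK LD1_c18 LD2_c44 LD3_c12))))))
theorem f374303 : Led Lsl_at (LP (LK LD1_c25 LD2_c56 LD3_c4)) = (LP (LK LD1_c15 LD2_c58 LD3_c50)) :=
  Lre_a IH (LK LD1_c25 LD2_c56 LD3_c4) (LK LD1_c15 LD2_c58 LD3_c50) Lrfl Lrfl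
theorem f374305 : Led Lsl_ff (LP (LK LD1_c25 LD2_c56 LD3_c4)) = (LP (LK LD1_c28 LD2_c14 LD3_c17)) :=
  Lgr Lrot30 (Lpr_at (f374303 IH) (Lpr_ft (f374301 IH) (Lpr_at (f374304 IH) (Lpn (LP (LK LD1_c28 LD2_c14 LD3_c17))))))
theorem f562184 : Led Lsl_gt (LP (LK LD1_c25 LD2_c55 LD3_c24)) = (LP (LK LD1_c15 LD2_c58 LD3_c50)) :=
  Lgr Lrot46 (Lpr_gf (f562182 IH) (Lpe (f374305 IH) (Lpr_at (f374303 IH) (Lpn (LP (LK LD1_c15 LD2_c58 LD3_c50))))))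
theorem f323109 : Led Lsl_dt (LP (LK LD1_c15 LD2_c58 LD3_c24)) = (LP (LK LD1_c25 LD2_c55 LD3_c24)) :=
  Lre_d IH (LK LD1_c15 LD2_c58 LD3_c24) (LK LD1_c25 LD2_c55 LD3_c24) Lrfl Lrfl
theorem f323107 : Led Lsl_gt (LP (LK LD1_c25 LD2_c31 LD3_c27)) = (LP (LK LD1_c15 LD2_c58 LD3_c24)) :=
  Lgr Lrot5 (Lpr_ft (K40.f323069 IH) (Lpr_at (K40.f323068 IH) (Lpe (f323106 IH) (Lpn (LP (LK LD1_c15 LD2_c58 LD3_c24))))))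
theorem f344435 : Led Lsl_dt (LP (LK LD1_c15 LD2_c43 LD3_c28)) = (LP (LK LD1_c25 LD2_c39 LD3_c43)) :=
  Lre_d IH (LK LD1_c15 LD2_c43 LD3_c28) (LK LD1_c25 LD2_c39 LD3_c43) Lrfl Lrfl
theorem f262665 : Led Lsl_bt (LP (LK LD1_c8 LD2_c21 LD3_c28)) = (LP (LK LD1_c15 LD2_c43 LD3_c42)) :=
  Lre_b IH (LK LD1_c8 LD2_c21 LD3_c28) (LK LD1_c15 LD2_c43 LD3_c42) Lrfl Lrfl
theorem f262674 : Led Lsl_dt (LP (LK LD1_c15 LD2_c43 LD3_c42)) = (LP (LK LD1_c8 LD2_c22 LD3_c36)) :=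
  Lgr Lrot79 (Lpe (f262665 IH) (Lpr_df (K15.f262672 IH) (Lpe (K27.f191982 IH) (Lpn (LP (LK LD1_c8 LD2_c22 LD3_c36))))))
theorem f562186 : Led Lsl_gt (LP (LK LD1_c25 LD2_c39 LD3_c43)) = (LP (LK LD1_c15 LD2_c43 LD3_c42)) :=
  Lgr Lrot49 (Lpe (f344435 IH) (Lpr_gf (K40.f344456 IH) (Lpr_cf (K40.f344449 IH) (Lpr_gt (f323107 IH) (Lpr_dt (f323109 IH) (Lpr_gt (f562184 IH) (Lpr_dt (f243540 IH) (Lpe (K30.f243580 IH) (Lpe (f262674 IH) (Lpn (LP (LK LD1_c15 LD2_c43 LD3_c42))))))))))))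
theorem f318880 : Led Lsl_af (LP (LK LD1_c15 LD2_c43 LD3_c42)) = (LP (LK LD1_c24 LD2_c52 LD3_c52)) :=
  Lgr Lrot117 (Lpr_dt (f262674 IH) (Lpr_at (f192012 IH) (Lpr_dt (K30.f318878 IH) (Lpn (LP (LK LD1_c24 LD2_c52 LD3_c52))))))
theorem f562250 : Led Lsl_gf (LP (LK LD1_c25 LD2_c39 LD3_c43)) = (LP (LK LD1_c21 LD2_c3 LD3_c55)) :=
  Lgr Lrot47 (Lpr_gt (f562186 IH) (Lpr_af (f318880 IH) (Lpe (K40.f542163 IH) (Lpn (LP (LK LD1_c21 LD2_c3 LD3_c55))))))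
theorem f561966 : Led Lsl_df (LP (LK LD1_c25 LD2_c39 LD3_c42)) = (LP (LK LD1_c29 LD2_c21 LD3_c15)) :=
  Lgr Lrot38 (Lpr_dt (K40.f561962 IH) (Lpn (LP (LK LD1_c29 LD2_c21 LD3_c15))))
theorem f252037 : Led Lsl_bt (LP (LK LD1_c8 LD2_c21 LD3_c18)) = (LP (LK LD1_c4 LD2_c10 LD3_c44)) :=
  Lre_b IH (LK LD1_c8 LD2_c21 LD3_c18) (LK LD1_c4 LD2_c10 LD3_c44) Lrfl Lrfl
theorem f295106 : Led Lsl_cf (LP (LK LD1_c8 LD2_c21 LD3_c18)) = (LP (LK LD1_c8 LD2_c30 LD3_c23)) :=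
  Lgr Lrot97 (Lpr_bt (f252037 IH) (Lpr_ct (K14.f252043 IH) (Lpe (K18.f295090 IH) (Lpr_ct (K18.f295103 IH) (Lpr_bt (K40.f295105 IH) (Lpn (LP (LK LD1_c8 LD2_c30 LD3_c23))))))))
theorem f252054 : Led Lsl_ct (LP (LK LD1_c15 LD2_c43 LD3_c27)) = (LP (LK LD1_c25 LD2_c39 LD3_c39)) :=
  Lre_c IH (LK LD1_c15 LD2_c43 LD3_c27) (LK LD1_c25 LD2_c39 LD3_c39) Lrfl Lrfl
theorem f407358 : Led Lsl_dt (LP (LK LD1_c25 LD2_c39 LD3_c39)) = (LP (LK LD1_c31 LD2_c57 LD3_c58)) :=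
  Lre_d IH (LK LD1_c25 LD2_c39 LD3_c39) (LK LD1_c31 LD2_c57 LD3_c58) Lrfl Lrfl
theorem f344420 : Led Lsl_ct (LP (LK LD1_c25 LD2_c39 LD3_c39)) = (LP (LK LD1_c15 LD2_c43 LD3_c27)) :=
  Lre_c IH (LK LD1_c25 LD2_c39 LD3_c39) (LK LD1_c15 LD2_c43 LD3_c27) Lrfl Lrfl
theorem f407359 : Led Lsl_dt (LP (LK LD1_c31 LD2_c57 LD3_c58)) = (LP (LK LD1_c25 LD2_c39 LD3_c39)) :=
  Lre_d IH (LK LD1_c31 LD2_c57 LD3_c58) (LK LD1_c25 LD2_c39 LD3_c39) Lrfl Lrfl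
theorem f561899 : Led Lsl_ct (LP (LK LD1_c11 LD2_c24 LD3_c7)) = (LP (LK LD1_c11 LD2_c15 LD3_c50)) :=
  Lgr Lrot59 (Lpr_cf (K40.f561893 IH) (Lpn (LP (LK LD1_c11 LD2_c15 LD3_c50))))
theorem f561908 : Led Lsl_dt (LP (LK LD1_c11 LD2_c15 LD3_c50)) = (LP (LK LD1_c20 LD2_c11 LD3_c27)) :=
  Lre_d IH (LK LD1_c11 LD2_c15 LD3_c50) (LK LD1_c20 LD2_c11 LD3_c27) Lrfl Lrfl
theorem f412246 : Led Lsl_ff (LP (LK LD1_c20 LD2_c7 LD3_c1)) = (LP (LK LD1_c11 LD2_c59 LD3_c23)) :=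
  Lgr Lrot3 (Lpr_ft (K40.f412234 IH) (Lpn (LP (LK LD1_c11 LD2_c59 LD3_c23))))
theorem f60086 : Led Lsl_at (LP (LK LD1_c11 LD2_c24 LD3_c7)) = (LP (LK LD1_c20 LD2_c21 LD3_c52)) :=
  Lre_a IH (LK LD1_c11 LD2_c24 LD3_c7) (LK LD1_c20 LD2_c21 LD3_c52) Lrfl Lrfl
theorem f60087 : Led Lsl_df (LP (LK LD1_c11 LD2_c59 LD3_c23)) = (LP (LK LD1_c20 LD2_c21 LD3_c52)) :=
  Lgr Lrot18 (Lpr_at (K40.f60085 IH) (Lpr_dt (K1.f60076 IH) (Lpr_at (f60086 IH) (Lpn (LP (LK LD1_c20 LD2_c21 LD3_c52))))))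
theorem f412254 : Led Lsl_dt (LP (LK LD1_c20 LD2_c7 LD3_c1)) = (LP (LK LD1_c11 LD2_c24 LD3_c6)) :=
  Lgr Lrot60 (Lpr_ff (f412246 IH) (Lpr_df (f60087 IH) (Lpe (K40.f73099 IH) (Lpn (LP (LK LD1_c11 LD2_c24 LD3_c6))))))
theorem f73082 : Led Lsl_ct (LP (LK LD1_c11 LD2_c24 LD3_c6)) = (LP (LK LD1_c20 LD2_c21 LD3_c45)) :=
  Lre_c IH (LK LD1_c11 LD2_c24 LD3_c6) (LK LD1_c20 LD2_c21 LD3_c45) Lrfl Lrfl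
theorem f73088 : Led Lsl_dt (LP (LK LD1_c20 LD2_c21 LD3_c45)) = (LP (LK LD1_c29 LD2_c25 LD3_c25)) :=
  Lre_d IH (LK LD1_c20 LD2_c21 LD3_c45) (LK LD1_c29 LD2_c25 LD3_c25) Lrfl Lrfl
theorem f562167 : Led Lsl_cf (LP (LK LD1_c31 LD2_c57 LD3_c58)) = (LP (LK LD1_c29 LD2_c25 LD3_c25)) :=
  Lgr Lrot55 (Lpr_dt (f407359 IH) (Lpr_ct (f344420 IH) (Lpr_dt (f562159 IH) (Lpr_ct (K40.f60082 IH) (Lpr_dt (K1.f60076 IH) (Lpr_ct (f561899 IH) (Lpr_dt (f561908 IH) (Lpr_ct (f561924 IH) (Lpe (f561966 IH) (Lpr_ct (K40.f344436 IH) (Lpr_dt (f344435 IH) (Lpr_ct (K40.f561980 IH) (Lpr_dt (f412254 IH) (Lpr_ct (f73082 IH) (Lpr_dt (f73088 IH) (Lpn (LP (LK LD1_c29 LD2_c25 LD3_c25))))))))))))))))))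
theorem f243535 : Led Lsl_ct (LP (LK LD1_c15 LD2_c58 LD3_c50)) = (LP (LK LD1_c25 LD2_c56 LD3_c5)) :=
  Lre_c IH (LK LD1_c15 LD2_c58 LD3_c50) (LK LD1_c25 LD2_c56 LD3_c5) Lrfl Lrfl
theorem f562188 : Led Lsl_gf (LP (LK LD1_c29 LD2_c25 LD3_c25)) = (LP (LK LD1_c25 LD2_c56 LD3_c5)) :=
  Lgr Lrot104 (Lpe (f562167 IH) (Lpe (f407358 IH) (Lpe (f252054 IH) (Lpe (f252048 IH) (Lpr_cf (f295106 IH) (Lpe (f323106 IH) (Lpe (f323112 IH) (Lpr_gt (f562184 IH) (Lpr_ct (f243535 IH) (Lpn (LP (LK LD1_c25 LD2_c56 LD3_c5))))))))))))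
theorem f561975 : Led Lsl_at (LP (LK LD1_c20 LD2_c21 LD3_c46)) = (LP (LK LD1_c29 LD2_c25 LD3_c25)) :=
  Lre_a IH (LK LD1_c20 LD2_c21 LD3_c46) (LK LD1_c29 LD2_c25 LD3_c25) Lrfl Lrfl
theorem f68709 : Led Lsl_dt (LP (LK LD1_c20 LD2_c21 LD3_c46)) = (LP (LK LD1_c11 LD2_c23 LD3_c50)) :=
  Lre_d IH (LK LD1_c20 LD2_c21 LD3_c46) (LK LD1_c11 LD2_c23 LD3_c50) Lrfl Lrfl
theorem f561909 : Led Lsl_ff (LP (LK LD1_c20 LD2_c21 LD3_c46)) = (LP (LK LD1_c20 LD2_c11 LD3_c27)) :=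
  Lgr Lrot19 (Lpr_dt (f68709 IH) (Lpr_ft (K40.f561901 IH) (Lpr_dt (f561908 IH) (Lpn (LP (LK LD1_c20 LD2_c11 LD3_c27))))))
theorem f562190 : Led Lsl_gt (LP (LK LD1_c20 LD2_c11 LD3_c27)) = (LP (LK LD1_c25 LD2_c56 LD3_c5)) :=
  Lgr Lrot5 (Lpe (f561909 IH) (Lpr_at (f561975 IH) (Lpr_gf (f562188 IH) (Lpn (LP (LK LD1_c25 LD2_c56 LD3_c5))))))
theorem f374271 : Led Lsl_ct (LP (LK LD1_c25 LD2_c56 LD3_c5)) = (LP (LK LD1_c15 LD2_c58 LD3_c50)) :=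
  Lre_c IH (LK LD1_c25 LD2_c56 LD3_c5) (LK LD1_c15 LD2_c58 LD3_c50) Lrfl Lrfl
theorem f374332 : Led Lsl_df (LP (LK LD1_c15 LD2_c57 LD3_c7)) = (LP (LK LD1_c18 LD2_c44 LD3_c12)) :=
  Lgr Lrot38 (Lpr_dt (f374326 IH) (Lpn (LP (LK LD1_c18 LD2_c44 LD3_c12))))
theorem f374213 : Led Lsl_ff (LP (LK LD1_c8 LD2_c31 LD3_c11)) = (LP (LK LD1_c15 LD2_c57 LD3_c7)) :=
  Lgr Lrot3 (Lpr_ft (K30.f374190 IH) (Lpn (LP (LK LD1_c15 LD2_c57 LD3_c7))))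
theorem f374336 : Led Lsl_dt (LP (LK LD1_c8 LD2_c31 LD3_c11)) = (LP (LK LD1_c15 LD2_c58 LD3_c50)) :=
  Lgr Lrot60 (Lpr_ff (f374213 IH) (Lpr_df (f374332 IH) (Lpe (f374301 IH) (Lpn (LP (LK LD1_c15 LD2_c58 LD3_c50))))))
theorem f374276 : Led Lsl_dt (LP (LK LD1_c32 LD2_c6 LD3_c14)) = (LP (LK LD1_c26 LD2_c13 LD3_c54)) :=
  Lre_d IH (LK LD1_c32 LD2_c6 LD3_c14) (LK LD1_c26 LD2_c13 LD3_c54) Lrfl Lrfl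
theorem f562220 : Led Lsl_gf (LP (LK LD1_c29 LD2_c21 LD3_c15)) = (LP (LK LD1_c32 LD2_c6 LD3_c14)) :=
  Lgr Lrot147 (Lpr_ct (K40.f561285 IH) (Lpr_gt (f562190 IH) (Lpr_ct (f374271 IH) (Lpe (f374336 IH) (Lpe (K30.f243580 IH) (Lpe (f192002 IH) (Lpe (f192008 IH) (Lpr_gf (f374274 IH) (Lpe (f374276 IH) (Lpn (LP (LK LD1_c32 LD2_c6 LD3_c14))))))))))))
theorem f374277 : Led Lsl_dt (LP (LK LD1_c26 LD2_c13 LD3_c54)) = (LP (LK LD1_c32 LD2_c6 LD3_c14)) :=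
  Lre_d IH (LK LD1_c26 LD2_c13 LD3_c54) (LK LD1_c32 LD2_c6 LD3_c14) Lrfl Lrfl
theorem f192000 : Led Lsl_ff (LP (LK LD1_c16 LD2_c5 LD3_c14)) = (LP (LK LD1_c15 LD2_c45 LD3_c44)) :=
  Lgr Lrot3 (Lpr_ft (K30.f191991 IH) (Lpn (LP (LK LD1_c15 LD2_c45 LD3_c44))))
theorem f542167 : Led Lsl_df (LP (LK LD1_c21 LD2_c3 LD3_c55)) = (LP (LK LD1_c16 LD2_c5 LD3_c14)) :=
  Lgr Lrot78 (Lpr_ft (K40.f542163 IH) (Lpe (K30.f318882 IH) (Lpe (f192000 IH) (Lpn (LP (LK LD1_c16 LD2_c5 LD3_c14))))))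
theorem f191981 : Led Lsl_gt (LP (LK LD1_c8 LD2_c22 LD3_c36)) = (LP (LK LD1_c15 LD2_c45 LD3_c42)) :=
  Lre_g IH (LK LD1_c8 LD2_c22 LD3_c36) (LK LD1_c15 LD2_c45 LD3_c42) Lrfl Lrfl
theorem f191994 : Led Lsl_gf (LP (LK LD1_c16 LD2_c5 LD3_c14)) = (LP (LK LD1_c15 LD2_c45 LD3_c42)) :=
  Lgr Lrot76 (Lpe (K30.f191989 IH) (Lpr_ff (K30.f191987 IH) (Lpr_gt (f191981 IH) (Lpn (LP (LK LD1_c15 LD2_c45 LD3_c42))))))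
theorem f191996 : Led Lsl_ct (LP (LK LD1_c25 LD2_c42 LD3_c20)) = (LP (LK LD1_c15 LD2_c45 LD3_c42)) :=
  Lre_c IH (LK LD1_c25 LD2_c42 LD3_c20) (LK LD1_c15 LD2_c45 LD3_c42) Lrfl Lrfl
theorem f562253 : Led Lsl_gf (LP (LK LD1_c26 LD2_c13 LD3_c54)) = (LP (LK LD1_c25 LD2_c42 LD3_c20)) :=
  Lgr Lrot144 (Lpr_dt (f374277 IH) (Lpe (f562220 IH) (Lpe (f561966 IH) (Lpe (K40.f344458 IH) (Lpe (K40.f344437 IH) (Lpr_gf (f562250 IH) (Lpr_df (f542167 IH) (Lpr_gf (f191994 IH) (Lpe (f191996 IH) (Lpn (LP (LK LD1_c25 LD2_c42 LD3_c20))))))))))))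
theorem f373162 : Led Lsl_bt (LP (LK LD1_c15 LD2_c57 LD3_c35)) = (LP (LK LD1_c25 LD2_c54 LD3_c3)) :=
  Lre_b IH (LK LD1_c15 LD2_c57 LD3_c35) (LK LD1_c25 LD2_c54 LD3_c3) Lrfl Lrfl
theorem f397930 : Led Lsl_bt (LP (LK LD1_c26 LD2_c13 LD3_c54)) = (LP (LK LD1_c16 LD2_c16 LD3_c5)) :=
  Lre_b IH (LK LD1_c26 LD2_c13 LD3_c54) (LK LD1_c16 LD2_c16 LD3_c5) Lrfl Lrfl
theorem f398857 : Led Lsl_at (LP (LK LD1_c25 LD2_c54 LD3_c3)) = (LP (LK LD1_c26 LD2_c13 LD3_c54)) :=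
  Lgr Lrot67 (Lpe (f373162 IH) (Lpr_af (K31.f398853 IH) (Lpe (K20.f250532 IH) (Lpr_af (K31.f398765 IH) (Lpe (f397930 IH) (Lpn (LP (LK LD1_c26 LD2_c13 LD3_c54))))))))
theorem f365467 : Led Lsl_bt (LP (LK LD1_c25 LD2_c54 LD3_c3)) = (LP (LK LD1_c15 LD2_c57 LD3_c35)) :=
  Lre_b IH (LK LD1_c25 LD2_c54 LD3_c3) (LK LD1_c15 LD2_c57 LD3_c35) Lrfl Lrfl
theorem f398905 : Led Lsl_ff (LP (LK LD1_c25 LD2_c54 LD3_c3)) = (LP (LK LD1_c16 LD2_c0 LD3_c50)) :=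
  Lgr Lrot25 (Lpr_bt (f365467 IH) (Lpr_ft (K31.f398900 IH) (Lpr_bt (K31.f398904 IH) (Lpn (LP (LK LD1_c16 LD2_c0 LD3_c50))))))
theorem f562260 : Led Lsl_gt (LP (LK LD1_c16 LD2_c0 LD3_c50)) = (LP (LK LD1_c25 LD2_c42 LD3_c20)) :=
  Lgr Lrot5 (Lpe (f398905 IH) (Lpr_at (f398857 IH) (Lpr_gf (f562253 IH) (Lpn (LP (LK LD1_c25 LD2_c42 LD3_c20))))))
theorem f601793 : Led Lsl_af (LP (LK LD1_c25 LD2_c42 LD3_c20)) = (LP (LK LD1_c15 LD2_c57 LD3_c43)) :=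
  Lgr Lrot31 (Lpe (f562260 IH) (Lpe (f400009 IH) (Lpr_ft (f601787 IH) (Lpn (LP (LK LD1_c15 LD2_c57 LD3_c43))))))
theorem f374272 : Led Lsl_dt (LP (LK LD1_c25 LD2_c42 LD3_c20)) = (LP (LK LD1_c31 LD2_c58 LD3_c33)) :=
  Lre_d IH (LK LD1_c25 LD2_c42 LD3_c20) (LK LD1_c31 LD2_c58 LD3_c33) Lrfl Lrfl
theorem f374198 : Led Lsl_dt (LP (LK LD1_c25 LD2_c54 LD3_c22)) = (LP (LK LD1_c15 LD2_c57 LD3_c43)) :=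
  Lre_d IH (LK LD1_c25 LD2_c54 LD3_c22) (LK LD1_c15 LD2_c57 LD3_c43) Lrfl Lrfl
theorem f601801 : Led Lsl_at (LP (LK LD1_c31 LD2_c58 LD3_c33)) = (LP (LK LD1_c25 LD2_c54 LD3_c22)) :=
  Lgr Lrot51 (Lpe (f374272 IH) (Lpr_af (f601793 IH) (Lpe (f374198 IH) (Lpn (LP (LK LD1_c25 LD2_c54 LD3_c22))))))
theorem f423953 : Led Lsl_at (LP (LK LD1_c20 LD2_c10 LD3_c9)) = (LP (LK LD1_c29 LD2_c19 LD3_c51)) :=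
  Lre_a IH (LK LD1_c20 LD2_c10 LD3_c9) (LK LD1_c29 LD2_c19 LD3_c51) Lrfl Lrfl
theorem f601806 : Led Lsl_cf (LP (LK LD1_c31 LD2_c58 LD3_c33)) = (LP (LK LD1_c29 LD2_c19 LD3_c51)) :=
  Lgr Lrot1 (Lpr_at (f601801 IH) (Lpr_ct (K36.f423946 IH) (Lpr_at (f423953 IH) (Lpn (LP (LK LD1_c29 LD2_c19 LD3_c51))))))
theorem f562248 : Led Lsl_gt (LP (LK LD1_c29 LD2_c21 LD3_c15)) = (LP (LK LD1_c25 LD2_c58 LD3_c13)) :=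
  Lgr Lrot46 (Lpr_gf (f562220 IH) (Lpe (K31.f398782 IH) (Lpr_at (K31.f398931 IH) (Lpn (LP (LK LD1_c25 LD2_c58 LD3_c13))))))
theorem f173371 : Led Lsl_bt (LP (LK LD1_c9 LD2_c1 LD3_c58)) = (LP (LK LD1_c16 LD2_c51 LD3_c56)) :=
  Lre_b IH (LK LD1_c9 LD2_c1 LD3_c58) (LK LD1_c16 LD2_c51 LD3_c56) Lrfl Lrfl
theorem f173372 : Led Lsl_gt (LP (LK LD1_c16 LD2_c51 LD3_c56)) = (LP (LK LD1_c26 LD2_c48 LD3_c61)) :=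
  Lre_g IH (LK LD1_c16 LD2_c51 LD3_c56) (LK LD1_c26 LD2_c48 LD3_c61) Lrfl Lrfl
theorem f417946 : Led Lsl_df (LP (LK LD1_c25 LD2_c56 LD3_c5)) = (LP (LK LD1_c26 LD2_c48 LD3_c61)) :=
  Lgr Lrot183 (Lpr_ct (f374271 IH) (Lpr_bt (f243534 IH) (Lpr_gt (K13.f684 IH) (Lpr_dt (K13.f243469 IH) (Lpr_ct (K13.f197005 IH) (Lpr_bt (K17.f243112 IH) (Lpe (K13.f180222 IH) (Lpr_dt (K13.f170307 IH) (Lpr_ct (K13.f170306 IH) (Lpr_bt (K13.f170305 IH) (Lpr_gt (K9.f170296 IH) (Lpr_dt (K9.f170297 IH) (Lpr_ct (K9.f173206 IH) (Lpr_bt (K36.f173359 IH) (Lpr_gt (K31.f173368 IH) (Lpr_dt (K31.f173369 IH) (Lpr_ct (K31.f173370 IH) (Lpr_bt (f173371 IH) (Lpr_gt (f173372 IH) (Lpn (LP (LK LD1_c26 LD2_c48 LD3_c61))))))))))))))))))))))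
theorem f417948 : Led Lsl_dt (LP (LK LD1_c25 LD2_c56 LD3_c5)) = (LP (LK LD1_c26 LD2_c48 LD3_c61)) :=
  Lgr Lrot42 (Lpr_df (f417946 IH) (Lpn (LP (LK LD1_c26 LD2_c48 LD3_c61))))
theorem f601810 : Led Lsl_dt (LP (LK LD1_c20 LD2_c10 LD3_c8)) = (LP (LK LD1_c29 LD2_c19 LD3_c51)) :=
  Lre_d IH (LK LD1_c20 LD2_c10 LD3_c8) (LK LD1_c29 LD2_c19 LD3_c51) Lrfl Lrfl
theorem f601811 : Led Lsl_gt (LP (LK LD1_c26 LD2_c48 LD3_c61)) = (LP (LK LD1_c20 LD2_c10 LD3_c8)) :=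
  Lgr Lrot49 (Lpe (f417948 IH) (Lpe (f562190 IH) (Lpe (K40.f561285 IH) (Lpr_gt (f562248 IH) (Lpr_dt (K31.f271524 IH) (Lpr_gt (f562260 IH) (Lpr_dt (f374272 IH) (Lpr_cf (f601806 IH) (Lpe (f601810 IH) (Lpn (LP (LK LD1_c20 LD2_c10 LD3_c8))))))))))))
theorem f601813 : Led Lsl_at (LP (LK LD1_c11 LD2_c15 LD3_c9)) = (LP (LK LD1_c20 LD2_c10 LD3_c8)) :=
  Lre_a IH (LK LD1_c11 LD2_c15 LD3_c9) (LK LD1_c20 LD2_c10 LD3_c8) Lrfl Lrfl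
theorem f601814 : Led Lsl_ft (LP (LK LD1_c16 LD2_c51 LD3_c56)) = (LP (LK LD1_c11 LD2_c15 LD3_c9)) :=
  Lgr Lrot2 (Lpr_gt (f173372 IH) (Lpr_gt (f601811 IH) (Lpe (f601813 IH) (Lpn (LP (LK LD1_c11 LD2_c15 LD3_c9))))))
theorem f60081 : Led Lsl_dt (LP (LK LD1_c29 LD2_c25 LD3_c25)) = (LP (LK LD1_c20 LD2_c21 LD3_c45)) :=
  Lre_d IH (LK LD1_c29 LD2_c25 LD3_c25) (LK LD1_c20 LD2_c21 LD3_c45) Lrfl Lrfl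
theorem f60080 : Led Lsl_ct (LP (LK LD1_c20 LD2_c21 LD3_c45)) = (LP (LK LD1_c11 LD2_c24 LD3_c6)) :=
  Lre_c IH (LK LD1_c20 LD2_c21 LD3_c45) (LK LD1_c11 LD2_c24 LD3_c6) Lrfl Lrfl
theorem f26956 : Led Lsl_gt (LP (LK LD1_c6 LD2_c9 LD3_c8)) = (LP (LK LD1_c11 LD2_c59 LD3_c21)) :=
  Lre_g IH (LK LD1_c6 LD2_c9 LD3_c8) (LK LD1_c11 LD2_c59 LD3_c21) Lrfl Lrfl
theorem f412236 : Led Lsl_gf (LP (LK LD1_c20 LD2_c7 LD3_c1)) = (LP (LK LD1_c11 LD2_c59 LD3_c21)) :=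
  Lgr Lrot76 (Lpe (K40.f412233 IH) (Lpr_ff (K40.f412231 IH) (Lpr_gt (f26956 IH) (Lpn (LP (LK LD1_c11 LD2_c59 LD3_c21))))))
theorem f495772 : Led Lsl_bt (LP (LK LD1_c5 LD2_c40 LD3_c8)) = (LP (LK LD1_c11 LD2_c11 LD3_c3)) :=
  Lre_b IH (LK LD1_c5 LD2_c40 LD3_c8) (LK LD1_c11 LD2_c11 LD3_c3) Lrfl Lrfl
theorem f495784 : Led Lsl_gt (LP (LK LD1_c11 LD2_c11 LD3_c3)) = (LP (LK LD1_c20 LD2_c5 LD3_c48)) :=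
  Lre_g IH (LK LD1_c11 LD2_c11 LD3_c3) (LK LD1_c20 LD2_c5 LD3_c48) Lrfl Lrfl
theorem f232265 : Led Lsl_ct (LP (LK LD1_c8 LD2_c43 LD3_c10)) = (LP (LK LD1_c4 LD2_c22 LD3_c42)) :=
  Lre_c IH (LK LD1_c8 LD2_c43 LD3_c10) (LK LD1_c4 LD2_c22 LD3_c42) Lrfl Lrfl
theorem f251853 : Led Lsl_dt (LP (LK LD1_c16 LD2_c19 LD3_c57)) = (LP (LK LD1_c8 LD2_c43 LD3_c10)) :=
  Lre_d IH (LK LD1_c16 LD2_c19 LD3_c57) (LK LD1_c8 LD2_c43 LD3_c10) Lrfl Lrfl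
theorem f391171 : Led Lsl_dt (LP (LK LD1_c25 LD2_c47 LD3_c54)) = (LP (LK LD1_c28 LD2_c38 LD3_c1)) :=
  Lgr Lrot42 (Lpr_df (K31.f391167 IH) (Lpn (LP (LK LD1_c28 LD2_c38 LD3_c1))))
theorem f388730 : Led Lsl_bt (LP (LK LD1_c31 LD2_c59 LD3_c48)) = (LP (LK LD1_c25 LD2_c47 LD3_c54)) :=
  Lre_b IH (LK LD1_c31 LD2_c59 LD3_c48) (LK LD1_c25 LD2_c47 LD3_c54) Lrfl Lrfl
theorem f398477 : Led Lsl_dt (LP (LK LD1_c26 LD2_c16 LD3_c18)) = (LP (LK LD1_c31 LD2_c59 LD3_c48)) :=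
  Lgr Lrot79 (Lpr_bf (K31.f398454 IH) (Lpe (f391171 IH) (Lpe (f388730 IH) (Lpn (LP (LK LD1_c31 LD2_c59 LD3_c48))))))
theorem f237242 : Led Lsl_dt (LP (LK LD1_c26 LD2_c15 LD3_c38)) = (LP (LK LD1_c16 LD2_c17 LD3_c41)) :=
  Lre_d IH (LK LD1_c26 LD2_c15 LD3_c38) (LK LD1_c16 LD2_c17 LD3_c41) Lrfl Lrfl
theorem f237582 : Led Lsl_dt (LP (LK LD1_c4 LD2_c22 LD3_c3)) = (LP (LK LD1_c8 LD2_c41 LD3_c57)) :=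
  Lre_d IH (LK LD1_c4 LD2_c22 LD3_c3) (LK LD1_c8 LD2_c41 LD3_c57) Lrfl Lrfl
theorem f237583 : Led Lsl_dt (LP (LK LD1_c16 LD2_c17 LD3_c30)) = (LP (LK LD1_c8 LD2_c41 LD3_c54)) :=
  Lre_d IH (LK LD1_c16 LD2_c17 LD3_c30) (LK LD1_c8 LD2_c41 LD3_c54) Lrfl Lrfl
theorem f398632 : Led Lsl_gt (LP (LK LD1_c17 LD2_c54 LD3_c29)) = (LP (LK LD1_c16 LD2_c17 LD3_c30)) :=
  Lgr Lrot94 (Lpe (K31.f236851 IH) (Lpr_gt (K31.f298322 IH) (Lpr_dt (f398477 IH) (Lpr_gt (K31.f398626 IH) (Lpr_dt (f237242 IH) (Lpe (K16.f236586 IH) (Lpe (f237582 IH) (Lpe (K38.f237483 IH) (Lpe (f237583 IH) (Lpn (LP (LK LD1_c16 LD2_c17 LD3_c30))))))))))))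
theorem f298220 : Led Lsl_at (LP (LK LD1_c16 LD2_c18 LD3_c30)) = (LP (LK LD1_c8 LD2_c42 LD3_c19)) :=
  Lre_a IH (LK LD1_c16 LD2_c18 LD3_c30) (LK LD1_c8 LD2_c42 LD3_c19) Lrfl Lrfl
theorem f398634 : Led Lsl_gf (LP (LK LD1_c8 LD2_c42 LD3_c19)) = (LP (LK LD1_c16 LD2_c17 LD3_c30)) :=
  Lgr Lrot76 (Lpe (f298220 IH) (Lpe (K31.f298296 IH) (Lpr_gt (f398632 IH) (Lpn (LP (LK LD1_c16 LD2_c17 LD3_c30))))))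
theorem f238744 : Led Lsl_df (LP (LK LD1_c4 LD2_c22 LD3_c42)) = (LP (LK LD1_c8 LD2_c42 LD3_c19)) :=
  Lgr Lrot12 (Lpr_bt (K19.f238743 IH) (Lpr_dt (K13.f238722 IH) (Lpr_bt (K31.f237471 IH) (Lpn (LP (LK LD1_c8 LD2_c42 LD3_c19))))))
theorem f237575 : Led Lsl_dt (LP (LK LD1_c8 LD2_c41 LD3_c54)) = (LP (LK LD1_c16 LD2_c17 LD3_c30)) :=
  Lre_d IH (LK LD1_c8 LD2_c41 LD3_c54) (LK LD1_c16 LD2_c17 LD3_c30) Lrfl Lrfl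
theorem f282023 : Led Lsl_dt (LP (LK LD1_c16 LD2_c17 LD3_c36)) = (LP (LK LD1_c26 LD2_c15 LD3_c27)) :=
  Lre_d IH (LK LD1_c16 LD2_c17 LD3_c36) (LK LD1_c26 LD2_c15 LD3_c27) Lrfl Lrfl
theorem f398638 : Led Lsl_gf (LP (LK LD1_c16 LD2_c19 LD3_c57)) = (LP (LK LD1_c26 LD2_c15 LD3_c27)) :=
  Lgr Lrot143 (Lpr_dt (f251853 IH) (Lpe (K19.f251835 IH) (Lpr_df (f238744 IH) (Lpr_gf (f398634 IH) (Lpe (f237575 IH) (Lpe (K41.f280114 IH) (Lpe (K17.f282024 IH) (Lpr_gt (K31.f282021 IH) (Lpr_dt (f282023 IH) (Lpn (LP (LK LD1_c26 LD2_c15 LD3_c27))))))))))))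
theorem f287752 : Led Lsl_at (LP (LK LD1_c8 LD2_c21 LD3_c28)) = (LP (LK LD1_c8 LD2_c33 LD3_c10)) :=
  Lgr Lrot107 (Lpr_cf (K15.f262662 IH) (Lpr_af (K12.f222859 IH) (Lpr_cf (K17.f287748 IH) (Lpn (LP (LK LD1_c8 LD2_c33 LD3_c10))))))
theorem f290308 : Led Lsl_ft (LP (LK LD1_c8 LD2_c33 LD3_c9)) = (LP (LK LD1_c8 LD2_c21 LD3_c28)) :=
  Lgr Lrot101 (Lpr_af (K17.f290301 IH) (Lpe (K17.f290293 IH) (Lpe (f287752 IH) (Lpn (LP (LK LD1_c8 LD2_c21 LD3_c28))))))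
theorem f290310 : Led Lsl_ff (LP (LK LD1_c16 LD2_c3 LD3_c14)) = (LP (LK LD1_c15 LD2_c43 LD3_c42)) :=
  Lgr Lrot25 (Lpr_bt (K40.f252015 IH) (Lpr_ft (f290308 IH) (Lpr_bt (f262665 IH) (Lpn (LP (LK LD1_c15 LD2_c43 LD3_c42))))))
theorem f542165 : Led Lsl_af (LP (LK LD1_c21 LD2_c3 LD3_c55)) = (LP (LK LD1_c16 LD2_c3 LD3_c14)) :=
  Lgr Lrot45 (Lpr_ft (K40.f542163 IH) (Lpe (f318880 IH) (Lpe (f290310 IH) (Lpn (LP (LK LD1_c16 LD2_c3 LD3_c14))))))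
theorem f542171 : Led Lsl_gf (LP (LK LD1_c11 LD2_c59 LD3_c6)) = (LP (LK LD1_c15 LD2_c43 LD3_c42)) :=
  Lgr Lrot47 (Lpr_gt (K40.f542154 IH) (Lpr_af (f542165 IH) (Lpr_ff (f290310 IH) (Lpn (LP (LK LD1_c15 LD2_c43 LD3_c42))))))
theorem f412238 : Led Lsl_ct (LP (LK LD1_c21 LD2_c4 LD3_c3)) = (LP (LK LD1_c11 LD2_c59 LD3_c21)) :=
  Lre_c IH (LK LD1_c21 LD2_c4 LD3_c3) (LK LD1_c11 LD2_c59 LD3_c21) Lrfl Lrfl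
theorem f262664 : Led Lsl_bt (LP (LK LD1_c8 LD2_c43 LD3_c11)) = (LP (LK LD1_c16 LD2_c19 LD3_c57)) :=
  Lre_b IH (LK LD1_c8 LD2_c43 LD3_c11) (LK LD1_c16 LD2_c19 LD3_c57) Lrfl Lrfl
theorem f542173 : Led Lsl_bt (LP (LK LD1_c21 LD2_c4 LD3_c3)) = (LP (LK LD1_c26 LD2_c15 LD3_c27)) :=
  Lgr Lrot22 (Lpr_ct (f412238 IH) (Lpe (f26956 IH) (Lpe (K40.f60082 IH) (Lpr_gf (f542171 IH) (Lpe (f262665 IH) (Lpr_ct (K17.f262667 IH) (Lpr_gf (K14.f222869 IH) (Lpe (K15.f262658 IH) (Lpr_bt (f262664 IH) (Lpr_gf (f398638 IH) (Lpn (LP (LK LD1_c26 LD2_c15 LD3_c27)))))))))))))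
theorem f26957 : Led Lsl_ct (LP (LK LD1_c11 LD2_c59 LD3_c21)) = (LP (LK LD1_c21 LD2_c4 LD3_c3)) :=
  Lre_c IH (LK LD1_c11 LD2_c59 LD3_c21) (LK LD1_c21 LD2_c4 LD3_c3) Lrfl Lrfl
theorem f551747 : Led Lsl_dt (LP (LK LD1_c20 LD2_c5 LD3_c48)) = (LP (LK LD1_c11 LD2_c59 LD3_c21)) :=
  Lgr Lrot182 (Lpe (f495784 IH) (Lpe (f495772 IH) (Lpe (K36.f538921 IH) (Lpe (K35.f176898 IH) (Lpr_gf (K35.f186504 IH) (Lpe (K10.f68719 IH) (Lpe (K10.f181580 IH) (Lpe (K39.f181674 IH) (Lpr_gf (K39.f551743 IH) (Lpe (K39.f238840 IH) (Lpe (K13.f180224 IH) (Lpe (K19.f238898 IH) (Lpe (K14.f238754 IH) (Lpe (K19.f238743 IH) (Lpe (f232265 IH) (Lpe (f251853 IH) (Lpr_gf (f398638 IH) (Lpe (f542173 IH) (Lpe (f26957 IH) (Lpn (LP (LK LD1_c11 LD2_c59 LD3_c21))))))))))))))))))))))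
theorem f562194 : Led Lsl_ct (LP (LK LD1_c11 LD2_c11 LD3_c3)) = (LP (LK LD1_c16 LD2_c51 LD3_c56)) :=
  Lgr Lrot8 (Lpr_gt (f495784 IH) (Lpr_dt (f551747 IH) (Lpe (f412236 IH) (Lpr_dt (f412254 IH) (Lpe (f60080 IH) (Lpe (f60081 IH) (Lpr_gf (f562188 IH) (Lpr_df (f417946 IH) (Lpe (f173372 IH) (Lpn (LP (LK LD1_c16 LD2_c51 LD3_c56))))))))))))
theorem f354496 : Led Lsl_bt (LP (LK LD1_c16 LD2_c49 LD3_c43)) = (LP (LK LD1_c9 LD2_c0 LD3_c17)) :=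
  Lre_b IH (LK LD1_c16 LD2_c49 LD3_c43) (LK LD1_c9 LD2_c0 LD3_c17) Lrfl Lrfl
theorem f549423 : Led Lsl_cf (LP (LK LD1_c16 LD2_c49 LD3_c43)) = (LP (LK LD1_c11 LD2_c15 LD3_c9)) :=
  Lgr Lrot97 (Lpr_bt (f354496 IH) (Lpe (K39.f549373 IH) (Lpr_bt (K39.f549418 IH) (Lpr_ct (K31.f172845 IH) (Lpr_bt (K31.f172846 IH) (Lpn (LP (LK LD1_c11 LD2_c15 LD3_c9))))))))
theorem f601829 : Led Lsl_ff (LP (LK LD1_c11 LD2_c11 LD3_c3)) = (LP (LK LD1_c16 LD2_c49 LD3_c43)) :=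
  Lgr Lrot23 (Lpr_ct (f562194 IH) (Lpr_ft (f601814 IH) (Lpe (f549423 IH) (Lpn (LP (LK LD1_c16 LD2_c49 LD3_c43))))))
theorem f601837 : Led Lsl_ft (LP (LK LD1_c11 LD2_c11 LD3_c3)) = (LP (LK LD1_c16 LD2_c49 LD3_c43)) :=
  Lgr Lrot48 (Lpr_ff (f601829 IH) (Lpn (LP (LK LD1_c16 LD2_c49 LD3_c43))))
theorem f354473 : Led Lsl_bt (LP (LK LD1_c11 LD2_c11 LD3_c3)) = (LP (LK LD1_c5 LD2_c40 LD3_c8)) :=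
  Lre_b IH (LK LD1_c11 LD2_c11 LD3_c3) (LK LD1_c5 LD2_c40 LD3_c8) Lrfl Lrfl
theorem f553737 : Led Lsl_ct (LP (LK LD1_c16 LD2_c51 LD3_c56)) = (LP (LK LD1_c11 LD2_c11 LD3_c3)) :=
  Lgr Lrot83 (Lpe (f173371 IH) (Lpe (K31.f173370 IH) (Lpe (K36.f538917 IH) (Lpr_cf (K39.f553734 IH) (Lpe (f354473 IH) (Lpn (LP (LK LD1_c11 LD2_c11 LD3_c3))))))))
theorem f407070 : Led Lsl_bt (LP (LK LD1_c16 LD2_c51 LD3_c56)) = (LP (LK LD1_c9 LD2_c1 LD3_c58)) :=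
  Lre_b IH (LK LD1_c16 LD2_c51 LD3_c56) (LK LD1_c9 LD2_c1 LD3_c58) Lrfl Lrfl
theorem f549301 : Led Lsl_ft (LP (LK LD1_c11 LD2_c15 LD3_c9)) = (LP (LK LD1_c16 LD2_c51 LD3_c56)) :=
  Lgr Lrot75 (Lpe (K31.f172846 IH) (Lpr_ff (K39.f549299 IH) (Lpe (f407070 IH) (Lpn (LP (LK LD1_c16 LD2_c51 LD3_c56))))))
theorem f601844 : Led Lsl_cf (LP (LK LD1_c11 LD2_c15 LD3_c9)) = (LP (LK LD1_c16 LD2_c49 LD3_c43)) :=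
  Lgr Lrot108 (Lpr_ft (f549301 IH) (Lpr_ct (f553737 IH) (Lpr_ft (f601837 IH) (Lpn (LP (LK LD1_c16 LD2_c49 LD3_c43))))))
theorem f550665 : Led Lsl_et (LP (LK LD1_c11 LD2_c15 LD3_c9)) = (LP (LK LD1_c20 LD2_c10 LD3_c10)) :=
  Lre_e IH (LK LD1_c11 LD2_c15 LD3_c9) (LK LD1_c20 LD2_c10 LD3_c10) Lrfl Lrfl
theorem f601836 : Led Lsl_et (LP (LK LD1_c26 LD2_c47 LD3_c2)) = (LP (LK LD1_c16 LD2_c49 LD3_c43)) :=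
  Lre_e IH (LK LD1_c26 LD2_c47 LD3_c2) (LK LD1_c16 LD2_c49 LD3_c43) Lrfl Lrfl
theorem f601856 : Led Lsl_ct (LP (LK LD1_c20 LD2_c10 LD3_c10)) = (LP (LK LD1_c26 LD2_c47 LD3_c2)) :=
  Lgr Lrot15 (Lpe (f550665 IH) (Lpr_cf (f601844 IH) (Lpe (f601836 IH) (Lpn (LP (LK LD1_c26 LD2_c47 LD3_c2))))))
theorem f601861 : Led Lsl_cf (LP (LK LD1_c20 LD2_c10 LD3_c10)) = (LP (LK LD1_c26 LD2_c47 LD3_c2)) :=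
  Lgr Lrot11 (Lpr_ct (f601856 IH) (Lpn (LP (LK LD1_c26 LD2_c47 LD3_c2))))
theorem f549278 : Led Lsl_bt (LP (LK LD1_c20 LD2_c10 LD3_c10)) = (LP (LK LD1_c11 LD2_c15 LD3_c11)) :=
  Lre_b IH (LK LD1_c20 LD2_c10 LD3_c10) (LK LD1_c11 LD2_c15 LD3_c11) Lrfl Lrfl
theorem f549274 : Led Lsl_ct (LP (LK LD1_c11 LD2_c15 LD3_c11)) = (LP (LK LD1_c5 LD2_c42 LD3_c29)) :=
  Lre_c IH (LK LD1_c11 LD2_c15 LD3_c11) (LK LD1_c5 LD2_c42 LD3_c29) Lrfl Lrfl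
theorem f601866 : Led Lsl_bt (LP (LK LD1_c16 LD2_c49 LD3_c44)) = (LP (LK LD1_c26 LD2_c47 LD3_c2)) :=
  Lre_b IH (LK LD1_c16 LD2_c49 LD3_c44) (LK LD1_c26 LD2_c47 LD3_c2) Lrfl Lrfl
theorem f601867 : Led Lsl_ct (LP (LK LD1_c9 LD2_c1 LD3_c39)) = (LP (LK LD1_c16 LD2_c49 LD3_c44)) :=
  Lgr Lrot83 (Lpr_bf (K39.f549425 IH) (Lpe (f549274 IH) (Lpe (f549278 IH) (Lpr_cf (f601861 IH) (Lpe (f601866 IH) (Lpn (LP (LK LD1_c16 LD2_c49 LD3_c44))))))))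
theorem f40238 : Led Lsl_at (LP (LK LD1_c7 LD2_c59 LD3_c44)) = (LP (LK LD1_c15 LD2_c4 LD3_c12)) :=
  Lre_a IH (LK LD1_c7 LD2_c59 LD3_c44) (LK LD1_c15 LD2_c4 LD3_c12) Lrfl Lrfl
theorem f40240 : Led Lsl_at (LP (LK LD1_c9 LD2_c45 LD3_c51)) = (LP (LK LD1_c4 LD2_c57 LD3_c41)) :=
  Lre_a IH (LK LD1_c9 LD2_c45 LD3_c51) (LK LD1_c4 LD2_c57 LD3_c41) Lrfl Lrfl
theorem f40241 : Led Lsl_bt (LP (LK LD1_c4 LD2_c57 LD3_c41)) = (LP (LK LD1_c2 LD2_c26 LD3_c48)) :=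
  Lre_b IH (LK LD1_c4 LD2_c57 LD3_c41) (LK LD1_c2 LD2_c26 LD3_c48) Lrfl Lrfl
theorem f40242 : Led Lsl_af (LP (LK LD1_c3 LD2_c59 LD3_c15)) = (LP (LK LD1_c2 LD2_c26 LD3_c48)) :=
  Lgr Lrot36 (Lpr_bt (K45.f40239 IH) (Lpr_at (f40238 IH) (Lpr_bt (K1.f40233 IH) (Lpr_at (f40240 IH) (Lpr_bt (f40241 IH) (Lpn (LP (LK LD1_c2 LD2_c26 LD3_c48))))))))
theorem f140260 : Led Lsl_ft (LP (LK LD1_c1 LD2_c10 LD3_c39)) = (LP (LK LD1_c2 LD2_c26 LD3_c48)) :=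
  Lre_f IH (LK LD1_c1 LD2_c10 LD3_c39) (LK LD1_c2 LD2_c26 LD3_c48) Lrfl Lrfl
theorem f444689 : Led Lsl_gf (LP (LK LD1_c3 LD2_c59 LD3_c15)) = (LP (LK LD1_c2 LD2_c26 LD3_c46)) :=
  Lgr Lrot76 (Lpr_af (f40242 IH) (Lpe (f140260 IH) (Lpr_gt (K32.f58953 IH) (Lpn (LP (LK LD1_c2 LD2_c26 LD3_c46))))))
theorem f140609 : Led Lsl_ct (LP (LK LD1_c1 LD2_c20 LD3_c30)) = (LP (LK LD1_c2 LD2_c48 LD3_c47)) :=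
  Lre_c IH (LK LD1_c1 LD2_c20 LD3_c30) (LK LD1_c2 LD2_c48 LD3_c47) Lrfl Lrfl
theorem f415846 : Led Lsl_gt (LP (LK LD1_c2 LD2_c48 LD3_c47)) = (LP (LK LD1_c2 LD2_c26 LD3_c45)) :=
  Lgr Lrot150 (Lpe (f140609 IH) (Lpe (K1.f27144 IH) (Lpe (K1.f27143 IH) (Lpr_gt (K17.f180314 IH) (Lpr_ct (K31.f415838 IH) (Lpr_gt (K31.f415839 IH) (Lpr_ct (K24.f77345 IH) (Lpe (K2.f67063 IH) (Lpe (K1.f40503 IH) (Lpn (LP (LK LD1_c2 LD2_c26 LD3_c45))))))))))))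
theorem f415856 : Led Lsl_gf (LP (LK LD1_c2 LD2_c48 LD3_c47)) = (LP (LK LD1_c5 LD2_c45 LD3_c54)) :=
  Lgr Lrot47 (Lpr_gt (f415846 IH) (Lpe (K1.f40938 IH) (Lpe (K9.f140273 IH) (Lpn (LP (LK LD1_c5 LD2_c45 LD3_c54))))))
theorem f415867 : Led Lsl_bt (LP (LK LD1_c1 LD2_c20 LD3_c30)) = (LP (LK LD1_c2 LD2_c48 LD3_c46)) :=
  Lre_b IH (LK LD1_c1 LD2_c20 LD3_c30) (LK LD1_c2 LD2_c48 LD3_c46) Lrfl Lrfl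
def v4821 : LQ := Led Lsl_gt (LP (LK LD1_c2 LD2_c48 LD3_c46))
theorem f640466 : Led Lsl_gt (LP (LK LD1_c2 LD2_c48 LD3_c46)) = v4821 :=
  Lrfl
theorem f706195 : (LP (LK LD1_c5 LD2_c42 LD3_c29)) = v4821 :=
  (Llr Lrot92 (Lpe (K39.f549429 IH) (Lpr_ct (f601867 IH) (Lpr_gt (f706191 IH) (Lpe (f415693 IH) (Lpr_bt (f415663 IH) (Lpe (f444689 IH) (Lpe (K45.f140256 IH) (Lpe (f415856 IH) (Lpe (f140609 IH) (Lpr_bt (f415867 IH) (Lpr_gt (f640466 IH) (Lpn v4821))))))))))))).symm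
theorem f140625 : Led Lsl_bt (LP (LK LD1_c5 LD2_c46 LD3_c4)) = (LP (LK LD1_c2 LD2_c48 LD3_c48)) :=
  Lre_b IH (LK LD1_c5 LD2_c46 LD3_c4) (LK LD1_c2 LD2_c48 LD3_c48) Lrfl Lrfl
theorem f454862 : Led Lsl_bt (LP (LK LD1_c4 LD2_c33 LD3_c46)) = (LP (LK LD1_c9 LD2_c5 LD3_c1)) :=
  Lre_b IH (LK LD1_c4 LD2_c33 LD3_c46) (LK LD1_c9 LD2_c5 LD3_c1) Lrfl Lrfl
theorem f639249 : Led Lsl_ff (LP (LK LD1_c5 LD2_c46 LD3_c4)) = (LP (LK LD1_c9 LD2_c5 LD3_c1)) :=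
  Lgr Lrot25 (Lpr_bt (f140625 IH) (Lpr_ft (K38.f639160 IH) (Lpqs (K48.f639244 IH) (Lpr_bt (f454862 IH) (Lpn (LP (LK LD1_c9 LD2_c5 LD3_c1)))))))
theorem f140653 : Led Lsl_dt (LP (LK LD1_c5 LD2_c46 LD3_c4)) = (LP (LK LD1_c2 LD2_c48 LD3_c46)) :=
  Lre_d IH (LK LD1_c5 LD2_c46 LD3_c4) (LK LD1_c2 LD2_c48 LD3_c46) Lrfl Lrfl
theorem f140296 : Led Lsl_dt (LP (LK LD1_c4 LD2_c33 LD3_c44)) = (LP (LK LD1_c9 LD2_c5 LD3_c1)) :=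
  Lre_d IH (LK LD1_c4 LD2_c33 LD3_c44) (LK LD1_c9 LD2_c5 LD3_c1) Lrfl Lrfl
theorem f640120 : Led Lsl_ft (LP (LK LD1_c2 LD2_c48 LD3_c46)) = (LP (LK LD1_c4 LD2_c33 LD3_c44)) :=
  Lgr Lrot54 (Lpe (f140653 IH) (Lpr_ff (f639249 IH) (Lpe (f140296 IH) (Lpn (LP (LK LD1_c4 LD2_c33 LD3_c44))))))
theorem f631695 : Led Lsl_at (LP (LK LD1_c4 LD2_c33 LD3_c44)) = (LP (LK LD1_c9 LD2_c4 LD3_c61)) :=
  Lre_a IH (LK LD1_c4 LD2_c33 LD3_c44) (LK LD1_c9 LD2_c4 LD3_c61) Lrfl Lrfl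
theorem f640467 : Led Lsl_gf (LP (LK LD1_c9 LD2_c4 LD3_c61)) = v4821 :=
  Lgr Lrot76 (Lpe (f631695 IH) (Lpe (f640120 IH) (Lpr_gt (f640466 IH) (Lpn v4821))))
theorem f706200 : Led Lsl_et (LP (LK LD1_c12 LD2_c3 LD3_c32)) = (LP (LK LD1_c9 LD2_c4 LD3_c61)) :=
  Lgr Lrot122 (Lpr_dt (K50.f61467 IH) (Lpr_gt (K50.f61456 IH) (Lpr_df (K50.f549523 IH) (Lpr_et (K50.f281972 IH) (Lpr_gt (K36.f172746 IH) (Lpr_dt (K16.f172745 IH) (Lpr_gt (K31.f172438 IH) (Lpe (K31.f412032 IH) (Lpr_et (K39.f412033 IH) (Lpqs (f706195 IH) (Lpe (f640467 IH) (Lpn (LP (LK LD1_c9 LD2_c4 LD3_c61))))))))))))))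
theorem f631694 : Led Lsl_at (LP (LK LD1_c9 LD2_c4 LD3_c61)) = (LP (LK LD1_c4 LD2_c33 LD3_c44)) :=
  Lre_a IH (LK LD1_c9 LD2_c4 LD3_c61) (LK LD1_c4 LD2_c33 LD3_c44) Lrfl Lrfl
def v12873 : LQ := Led Lsl_et (LP (LK LD1_c4 LD2_c33 LD3_c44))
theorem f698727 : Led Lsl_et (LP (LK LD1_c4 LD2_c33 LD3_c44)) = v12873 :=
  Lrfl
theorem f706202 : Led Lsl_af (LP (LK LD1_c12 LD2_c3 LD3_c32)) = v12873 :=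
  Lgr Lrot50 (Lpr_et (f706200 IH) (Lpr_at (f631694 IH) (Lpr_et (f698727 IH) (Lpn v12873))))
def v4217 : LQ := Led Lsl_bt (LP (LK LD1_c2 LD2_c16 LD3_c21))
theorem f631998 : Led Lsl_bt (LP (LK LD1_c2 LD2_c16 LD3_c21)) = v4217 :=
  Lrfl
theorem f416695 : Led Lsl_bt (LP (LK LD1_c6 LD2_c46 LD3_c49)) = (LP (LK LD1_c3 LD2_c21 LD3_c34)) :=
  Lre_b IH (LK LD1_c6 LD2_c46 LD3_c49) (LK LD1_c3 LD2_c21 LD3_c34) Lrfl Lrfl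
theorem f632000 : Led Lsl_ef (LP (LK LD1_c6 LD2_c46 LD3_c49)) = v4217 :=
  Lgr Lrot29 (Lpr_bt (f416695 IH) (Lpe (K24.f416692 IH) (Lpr_bt (f631998 IH) (Lpn v4217))))
def v13021 : LQ := Led Lsl_at (LP (LK LD1_c4 LD2_c37 LD3_c51))
theorem f700225 : Led Lsl_at (LP (LK LD1_c4 LD2_c37 LD3_c51)) = v13021 :=
  Lrfl
theorem f700226 : Led Lsl_af (LP (LK LD1_c4 LD2_c37 LD3_c51)) = v13021 :=
  Lgr Lrot0 (Lpr_at (f700225 IH) (Lpn v13021))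
theorem f40637 : Led Lsl_gt (LP (LK LD1_c4 LD2_c37 LD3_c52)) = (LP (LK LD1_c2 LD2_c16 LD3_c5)) :=
  Lre_g IH (LK LD1_c4 LD2_c37 LD3_c52) (LK LD1_c2 LD2_c16 LD3_c5) Lrfl Lrfl
theorem f700227 : Led Lsl_ft (LP (LK LD1_c4 LD2_c37 LD3_c52)) = v13021 :=
  Lgr Lrot2 (Lpr_gt (f40637 IH) (Lpr_gt (K50.f40625 IH) (Lpr_af (f700226 IH) (Lpn v13021))))
theorem f700229 : Led Lsl_ff (LP (LK LD1_c4 LD2_c37 LD3_c52)) = v13021 :=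
  Lgr Lrot3 (Lpr_ft (f700227 IH) (Lpn v13021))
def v1706 : LQ := Led Lsl_ft (LP (LK LD1_c1 LD2_c24 LD3_c18))
theorem f500954 : Led Lsl_ft (LP (LK LD1_c1 LD2_c24 LD3_c18)) = v1706 :=
  Lrfl
theorem f500957 : Led Lsl_ff (LP (LK LD1_c1 LD2_c24 LD3_c18)) = v1706 :=
  Lgr Lrot3 (Lpr_ft (f500954 IH) (Lpn v1706))
theorem f500959 : Led Lsl_ct K32.v556 = v1706 :=
  Lgr Lrot40 (Lpe (K32.f453968 IH) (Lpr_cf (K32.f435300 IH) (Lpr_ff (f500957 IH) (Lpn v1706))))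
theorem f507996 : v1706 = (LP (LK LD1_c2 LD2_c16 LD3_c21)) :=
  Lefun (Lecon (f500959 IH) (K32.f507992 IH)) (Lfl_cf (K32.f416702 IH))
theorem f419068 : Led Lsl_bt (LP (LK LD1_c2 LD2_c57 LD3_c6)) = (LP (LK LD1_c1 LD2_c24 LD3_c18)) :=
  Lre_b IH (LK LD1_c2 LD2_c57 LD3_c6) (LK LD1_c1 LD2_c24 LD3_c18) Lrfl Lrfl
theorem f632001 : Led Lsl_ff (LP (LK LD1_c2 LD2_c57 LD3_c6)) = v4217 :=
  Lgr Lrot25 (Lpr_bt (f419068 IH) (Lpr_ft (f500954 IH) (Lpqs (f507996 IH) (Lpr_bt (f631998 IH) (Lpn v4217)))))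
theorem f632003 : Led Lsl_ft (LP (LK LD1_c2 LD2_c57 LD3_c6)) = v4217 :=
  Lgr Lrot48 (Lpr_ff (f632001 IH) (Lpn v4217))
def v5076 : LQ := Led Lsl_at (LP (LK LD1_c2 LD2_c57 LD3_c6))
theorem f645204 : Led Lsl_at (LP (LK LD1_c2 LD2_c57 LD3_c6)) = v5076 :=
  Lrfl
theorem f645205 : Led Lsl_af (LP (LK LD1_c2 LD2_c57 LD3_c6)) = v5076 :=
  Lgr Lrot0 (Lpr_at (f645204 IH) (Lpn v5076))
theorem f435486 : Led Lsl_bt (LP (LK LD1_c2 LD2_c16 LD3_c20)) = (LP (LK LD1_c4 LD2_c38 LD3_c38)) :=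
  Lre_b IH (LK LD1_c2 LD2_c16 LD3_c20) (LK LD1_c4 LD2_c38 LD3_c38) Lrfl Lrfl
theorem f500961 : Led Lsl_bf (LP (LK LD1_c1 LD2_c24 LD3_c19)) = K48.v1707 :=
  Lgr Lrot24 (Lpr_bt (K48.f500960 IH) (Lpn K48.v1707))
theorem f508014 : Led Lsl_ff K48.v1707 = (LP (LK LD1_c4 LD2_c38 LD3_c38)) :=
  Lgr Lrot25 (Lpe (f500961 IH) (Lpr_ft (K32.f500946 IH) (Lpqs (K32.f508009 IH) (Lpr_bt (f435486 IH) (Lpn (LP (LK LD1_c4 LD2_c38 LD3_c38)))))))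
theorem f508514 : Led Lsl_ft K48.v1707 = (LP (LK LD1_c4 LD2_c38 LD3_c38)) :=
  Lgr Lrot48 (Lpr_ff (f508014 IH) (Lpn (LP (LK LD1_c4 LD2_c38 LD3_c38))))
def v5029 : LQ := Led Lsl_at (LP (LK LD1_c2 LD2_c56 LD3_c16))
theorem f641414 : Led Lsl_at (LP (LK LD1_c2 LD2_c56 LD3_c16)) = v5029 :=
  Lrfl
theorem f641415 : Led Lsl_af (LP (LK LD1_c2 LD2_c56 LD3_c16)) = v5029 :=
  Lgr Lrot0 (Lpr_at (f641414 IH) (Lpn v5029))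
theorem f75820 : Led Lsl_gt (LP (LK LD1_c1 LD2_c24 LD3_c1)) = (LP (LK LD1_c2 LD2_c56 LD3_c16)) :=
  Lre_g IH (LK LD1_c1 LD2_c24 LD3_c1) (LK LD1_c2 LD2_c56 LD3_c16) Lrfl Lrfl
theorem f641416 : Led Lsl_ft (LP (LK LD1_c2 LD2_c56 LD3_c17)) = v5029 :=
  Lgr Lrot2 (Lpr_gt (K48.f75822 IH) (Lpr_gt (f75820 IH) (Lpr_af (f641415 IH) (Lpn v5029))))
theorem f669240 : (LP (LK LD1_c4 LD2_c38 LD3_c38)) = v5029 :=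
  Lefun (Lecon (f508514 IH) (K48.f669222 IH)) (f641416 IH)
def v5030 : LQ := Led Lsl_bt (LP (LK LD1_c2 LD2_c56 LD3_c16))
theorem f641418 : Led Lsl_bt (LP (LK LD1_c2 LD2_c56 LD3_c16)) = v5030 :=
  Lrfl
theorem f669256 : v5076 = v5030 :=
  (Llr Lrot36 (Lpe (f645205 IH) (Lpr_bt (f419068 IH) (Lpr_at (K32.f500942 IH) (Lpqs (K32.f508009 IH) (Lpr_bt (f435486 IH) (Lpqs (f669240 IH) (Lpe (f641415 IH) (Lpr_bt (f641418 IH) (Lpn v5030)))))))))).symm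
theorem f499339 : Led Lsl_at (LP (LK LD1_c6 LD2_c4 LD3_c15)) = (LP (LK LD1_c5 LD2_c46 LD3_c61)) :=
  Lgr Lrot51 (Lpe (K8.f56025 IH) (Lpr_af (K38.f499335 IH) (Lpe (K44.f104889 IH) (Lpn (LP (LK LD1_c5 LD2_c46 LD3_c61))))))
theorem f104892 : Led Lsl_ef (LP (LK LD1_c5 LD2_c46 LD3_c61)) = (LP (LK LD1_c9 LD2_c48 LD3_c52)) :=
  Lgr Lrot73 (Lpr_dt (K44.f104889 IH) (Lpr_et (K40.f72869 IH) (Lpr_dt (K4.f104805 IH) (Lpr_et (K48.f104890 IH) (Lpr_dt (K48.f104891 IH) (Lpn (LP (LK LD1_c9 LD2_c48 LD3_c52))))))))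
theorem f104901 : Led Lsl_et (LP (LK LD1_c5 LD2_c46 LD3_c61)) = (LP (LK LD1_c9 LD2_c48 LD3_c52)) :=
  Lgr Lrot87 (Lpr_ef (f104892 IH) (Lpn (LP (LK LD1_c9 LD2_c48 LD3_c52))))
theorem f499343 : Led Lsl_af (LP (LK LD1_c4 LD2_c59 LD3_c28)) = (LP (LK LD1_c9 LD2_c48 LD3_c52)) :=
  Lgr Lrot50 (Lpr_et (K8.f75478 IH) (Lpr_at (f499339 IH) (Lpr_et (f104901 IH) (Lpn (LP (LK LD1_c9 LD2_c48 LD3_c52))))))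
theorem f499349 : Led Lsl_at (LP (LK LD1_c2 LD2_c27 LD3_c35)) = (LP (LK LD1_c4 LD2_c59 LD3_c12)) :=
  Lgr Lrot51 (Lpe (K8.f75444 IH) (Lpr_af (f499343 IH) (Lpe (K48.f104891 IH) (Lpn (LP (LK LD1_c4 LD2_c59 LD3_c12))))))
def v4839 : LQ := Led Lsl_at (LP (LK LD1_c2 LD2_c50 LD3_c27))
theorem f640534 : Led Lsl_at (LP (LK LD1_c2 LD2_c50 LD3_c27)) = v4839 :=
  Lrfl
theorem f414846 : Led Lsl_et (LP (LK LD1_c6 LD2_c26 LD3_c61)) = (LP (LK LD1_c12 LD2_c25 LD3_c45)) :=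
  Lre_e IH (LK LD1_c6 LD2_c26 LD3_c61) (LK LD1_c12 LD2_c25 LD3_c45) Lrfl Lrfl
theorem f413521 : Led Lsl_et (LP (LK LD1_c11 LD2_c27 LD3_c19)) = (LP (LK LD1_c5 LD2_c48 LD3_c59)) :=
  Lre_e IH (LK LD1_c11 LD2_c27 LD3_c19) (LK LD1_c5 LD2_c48 LD3_c59) Lrfl Lrfl
theorem f623149 : Led Lsl_at (LP (LK LD1_c12 LD2_c25 LD3_c45)) = (LP (LK LD1_c11 LD2_c27 LD3_c19)) :=
  Lgr Lrot80 (Lpe (f414846 IH) (Lpr_af (K35.f623143 IH) (Lpe (f413521 IH) (Lpn (LP (LK LD1_c11 LD2_c27 LD3_c19))))))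
theorem f416362 : Led Lsl_dt (LP (LK LD1_c6 LD2_c26 LD3_c60)) = (LP (LK LD1_c12 LD2_c25 LD3_c45)) :=
  Lre_d IH (LK LD1_c6 LD2_c26 LD3_c60) (LK LD1_c12 LD2_c25 LD3_c45) Lrfl Lrfl
theorem f413522 : Led Lsl_dt (LP (LK LD1_c11 LD2_c27 LD3_c19)) = (LP (LK LD1_c5 LD2_c48 LD3_c58)) :=
  Lre_d IH (LK LD1_c11 LD2_c27 LD3_c19) (LK LD1_c5 LD2_c48 LD3_c58) Lrfl Lrfl
theorem f623154 : Led Lsl_af (LP (LK LD1_c6 LD2_c26 LD3_c60)) = (LP (LK LD1_c5 LD2_c48 LD3_c58)) :=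
  Lgr Lrot117 (Lpr_dt (f416362 IH) (Lpr_at (f623149 IH) (Lpr_dt (f413522 IH) (Lpn (LP (LK LD1_c5 LD2_c48 LD3_c58))))))
theorem f438581 : Led Lsl_et (LP (LK LD1_c6 LD2_c26 LD3_c60)) = (LP (LK LD1_c3 LD2_c11 LD3_c21)) :=
  Lre_e IH (LK LD1_c6 LD2_c26 LD3_c60) (LK LD1_c3 LD2_c11 LD3_c21) Lrfl Lrfl
theorem f176651 : Led Lsl_et (LP (LK LD1_c2 LD2_c50 LD3_c30)) = (LP (LK LD1_c5 LD2_c48 LD3_c58)) :=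
  Lre_e IH (LK LD1_c2 LD2_c50 LD3_c30) (LK LD1_c5 LD2_c48 LD3_c58) Lrfl Lrfl
theorem f623160 : Led Lsl_at (LP (LK LD1_c3 LD2_c11 LD3_c21)) = (LP (LK LD1_c2 LD2_c50 LD3_c30)) :=
  Lgr Lrot80 (Lpe (f438581 IH) (Lpr_af (f623154 IH) (Lpe (f176651 IH) (Lpn (LP (LK LD1_c2 LD2_c50 LD3_c30))))))
theorem f623169 : Led Lsl_ff (LP (LK LD1_c3 LD2_c11 LD3_c21)) = (LP (LK LD1_c2 LD2_c50 LD3_c28)) :=
  Lgr Lrot52 (Lpr_at (f623160 IH) (Lpr_gf (K32.f416638 IH) (Lpe (K32.f57133 IH) (Lpn (LP (LK LD1_c2 LD2_c50 LD3_c28))))))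
theorem f623174 : Led Lsl_ft (LP (LK LD1_c3 LD2_c11 LD3_c21)) = (LP (LK LD1_c2 LD2_c50 LD3_c28)) :=
  Lgr Lrot48 (Lpr_ff (f623169 IH) (Lpn (LP (LK LD1_c2 LD2_c50 LD3_c28))))
theorem f438577 : Led Lsl_bt (LP (LK LD1_c6 LD2_c26 LD3_c57)) = (LP (LK LD1_c3 LD2_c11 LD3_c21)) :=
  Lre_b IH (LK LD1_c6 LD2_c26 LD3_c57) (LK LD1_c3 LD2_c11 LD3_c21) Lrfl Lrfl
theorem f623176 : Led Lsl_bt (LP (LK LD1_c2 LD2_c50 LD3_c28)) = (LP (LK LD1_c5 LD2_c48 LD3_c50)) :=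
  Lre_b IH (LK LD1_c2 LD2_c50 LD3_c28) (LK LD1_c5 LD2_c48 LD3_c50) Lrfl Lrfl
theorem f623177 : Led Lsl_ff (LP (LK LD1_c6 LD2_c26 LD3_c57)) = (LP (LK LD1_c5 LD2_c48 LD3_c50)) :=
  Lgr Lrot25 (Lpr_bt (f438577 IH) (Lpr_ft (f623174 IH) (Lpr_bt (f623176 IH) (Lpn (LP (LK LD1_c5 LD2_c48 LD3_c50))))))
theorem f623182 : Led Lsl_dt (LP (LK LD1_c6 LD2_c26 LD3_c57)) = (LP (LK LD1_c3 LD2_c11 LD3_c20)) :=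
  Lre_d IH (LK LD1_c6 LD2_c26 LD3_c57) (LK LD1_c3 LD2_c11 LD3_c20) Lrfl Lrfl
theorem f623183 : Led Lsl_dt (LP (LK LD1_c2 LD2_c50 LD3_c27)) = (LP (LK LD1_c5 LD2_c48 LD3_c50)) :=
  Lre_d IH (LK LD1_c2 LD2_c50 LD3_c27) (LK LD1_c5 LD2_c48 LD3_c50) Lrfl Lrfl
theorem f623184 : Led Lsl_ft (LP (LK LD1_c3 LD2_c11 LD3_c20)) = (LP (LK LD1_c2 LD2_c50 LD3_c27)) :=
  Lgr Lrot54 (Lpe (f623182 IH) (Lpr_ff (f623177 IH) (Lpe (f623183 IH) (Lpn (LP (LK LD1_c2 LD2_c50 LD3_c27))))))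
theorem f506564 : Led Lsl_at (LP (LK LD1_c6 LD2_c26 LD3_c56)) = (LP (LK LD1_c3 LD2_c11 LD3_c20)) :=
  Lre_a IH (LK LD1_c6 LD2_c26 LD3_c56) (LK LD1_c3 LD2_c11 LD3_c20) Lrfl Lrfl
theorem f640537 : Led Lsl_ff (LP (LK LD1_c6 LD2_c26 LD3_c56)) = v4839 :=
  Lgr Lrot30 (Lpr_at (f506564 IH) (Lpr_ft (f623184 IH) (Lpr_at (f640534 IH) (Lpn v4839))))
theorem f640539 : Led Lsl_ft (LP (LK LD1_c6 LD2_c26 LD3_c56)) = v4839 :=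
  Lgr Lrot48 (Lpr_ff (f640537 IH) (Lpn v4839))
theorem f640535 : Led Lsl_af (LP (LK LD1_c2 LD2_c50 LD3_c27)) = v4839 :=
  Lgr Lrot0 (Lpr_at (f640534 IH) (Lpn v4839))
theorem f640541 : Led Lsl_gt (LP (LK LD1_c6 LD2_c26 LD3_c56)) = K48.v4838 :=
  Lgr Lrot5 (Lpr_ft (f640539 IH) (Lpe (f640535 IH) (Lpr_gf (K48.f640533 IH) (Lpn K48.v4838))))
def v4837 : LQ := Led Lsl_gt (LP (LK LD1_c2 LD2_c50 LD3_c27))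
theorem f640529 : Led Lsl_gt (LP (LK LD1_c2 LD2_c50 LD3_c27)) = v4837 :=
  Lrfl
theorem f623204 : Led Lsl_ff (LP (LK LD1_c3 LD2_c11 LD3_c20)) = (LP (LK LD1_c2 LD2_c50 LD3_c27)) :=
  Lgr Lrot3 (Lpr_ft (f623184 IH) (Lpn (LP (LK LD1_c2 LD2_c50 LD3_c27))))
theorem f506565 : Led Lsl_at (LP (LK LD1_c3 LD2_c11 LD3_c20)) = (LP (LK LD1_c6 LD2_c26 LD3_c56)) :=
  Lre_a IH (LK LD1_c3 LD2_c11 LD3_c20) (LK LD1_c6 LD2_c26 LD3_c56) Lrfl Lrfl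
theorem f640530 : Led Lsl_gf (LP (LK LD1_c6 LD2_c26 LD3_c56)) = v4837 :=
  Lgr Lrot76 (Lpe (f506565 IH) (Lpr_ff (f623204 IH) (Lpr_gt (f640529 IH) (Lpn v4837))))
theorem f669416 : (LP (LK LD1_c4 LD2_c59 LD3_c29)) = v4837 :=
  (Llr Lrot52 (Lpr_ft (K42.f495282 IH) (Lpr_at (f499349 IH) (Lpqs (K48.f669344 IH) (Lpe (f640541 IH) (Lpr_gf (f640530 IH) (Lpn v4837))))))).symm
theorem f186084 : Led Lsl_dt (LP (LK LD1_c5 LD2_c48 LD3_c60)) = (LP (LK LD1_c11 LD2_c27 LD3_c22)) :=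
  Lre_d IH (LK LD1_c5 LD2_c48 LD3_c60) (LK LD1_c11 LD2_c27 LD3_c22) Lrfl Lrfl
theorem f644361 : Led Lsl_ff (LP (LK LD1_c20 LD2_c45 LD3_c2)) = (LP (LK LD1_c18 LD2_c0 LD3_c26)) :=
  Lgr Lrot3 (Lpr_ft (K45.f644355 IH) (Lpn (LP (LK LD1_c18 LD2_c0 LD3_c26))))
theorem f644365 : Led Lsl_dt (LP (LK LD1_c20 LD2_c45 LD3_c2)) = (LP (LK LD1_c20 LD2_c25 LD3_c21)) :=
  Lgr Lrot60 (Lpr_ff (f644361 IH) (Lpe (K45.f642182 IH) (Lpr_ff (K45.f505743 IH) (Lpn (LP (LK LD1_c20 LD2_c25 LD3_c21))))))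
theorem f104935 : Led Lsl_gt (LP (LK LD1_c11 LD2_c43 LD3_c50)) = (LP (LK LD1_c5 LD2_c59 LD3_c38)) :=
  Lre_g IH (LK LD1_c11 LD2_c43 LD3_c50) (LK LD1_c5 LD2_c59 LD3_c38) Lrfl Lrfl
theorem f669405 : Led Lsl_cf (LP (LK LD1_c11 LD2_c43 LD3_c50)) = (LP (LK LD1_c6 LD2_c26 LD3_c56)) :=
  Lgr Lrot166 (Lpr_gt (f104935 IH) (Lpr_dt (K45.f26441 IH) (Lpr_gt (K45.f26442 IH) (Lpr_dt (f644365 IH) (Lpr_ct (K45.f503454 IH) (Lpe (f186084 IH) (Lpe (K48.f644386 IH) (Lpe (K48.f104891 IH) (Lpqs (K48.f669344 IH) (Lpe (f640541 IH) (Lpn (LP (LK LD1_c6 LD2_c26 LD3_c56)))))))))))))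
theorem f641419 : Led Lsl_bf (LP (LK LD1_c2 LD2_c56 LD3_c16)) = v5030 :=
  Lgr Lrot24 (Lpr_bt (f641418 IH) (Lpn v5030))
theorem f40635 : Led Lsl_ct (LP (LK LD1_c4 LD2_c37 LD3_c51)) = (LP (LK LD1_c9 LD2_c11 LD3_c21)) :=
  Lre_c IH (LK LD1_c4 LD2_c37 LD3_c51) (LK LD1_c9 LD2_c11 LD3_c21) Lrfl Lrfl
theorem f700261 : v5030 = (LP (LK LD1_c4 LD2_c37 LD3_c51)) :=
  (Llr Lrot34 (Lpe (f641419 IH) (Lpe (f75820 IH) (Lpe (K48.f500803 IH) (Lpr_ct (K48.f502511 IH) (Lpe (f104935 IH) (Lpr_cf (f669405 IH) (Lpr_gf (f640530 IH) (Lpq (f669416 IH) (Lpe (K4.f57038 IH) (Lpe (K4.f57002 IH) (Lpr_gf (K50.f700254 IH) (Lpe (f40635 IH) (Lpn (LP (LK LD1_c4 LD2_c37 LD3_c51)))))))))))))))).symm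
theorem f700262 : (LP (LK LD1_c2 LD2_c57 LD3_c6)) = v13021 :=
  Lefun (Lecon (Lfl_af (f645205 IH)) ((f669256 IH).trans (f700261 IH))) (f700225 IH)
theorem f700271 : (LP (LK LD1_c4 LD2_c37 LD3_c52)) = v4217 :=
  Lefun (Lecon (Lfl_ff (f700229 IH)) (f700262 IH).symm) (f632003 IH)
theorem f80189 : Led Lsl_dt (LP (LK LD1_c9 LD2_c11 LD3_c24)) = (LP (LK LD1_c4 LD2_c37 LD3_c52)) :=
  Lre_d IH (LK LD1_c9 LD2_c11 LD3_c24) (LK LD1_c4 LD2_c37 LD3_c52) Lrfl Lrfl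
theorem f549556 : Led Lsl_dt (LP (LK LD1_c4 LD2_c33 LD3_c4)) = (LP (LK LD1_c9 LD2_c3 LD3_c24)) :=
  Lre_d IH (LK LD1_c4 LD2_c33 LD3_c4) (LK LD1_c9 LD2_c3 LD3_c24) Lrfl Lrfl
theorem f582229 : Led Lsl_df (LP (LK LD1_c2 LD2_c47 LD3_c27)) = (LP (LK LD1_c4 LD2_c41 LD3_c29)) :=
  Lgr Lrot78 (Lpe (K44.f582171 IH) (Lpr_dt (f549556 IH) (Lpr_ft (K44.f582223 IH) (Lpn (LP (LK LD1_c4 LD2_c41 LD3_c29))))))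
theorem f495847 : Led Lsl_et (LP (LK LD1_c2 LD2_c47 LD3_c28)) = (LP (LK LD1_c5 LD2_c42 LD3_c59)) :=
  Lre_e IH (LK LD1_c2 LD2_c47 LD3_c28) (LK LD1_c5 LD2_c42 LD3_c59) Lrfl Lrfl
theorem f604814 : Led Lsl_gt (LP (LK LD1_c5 LD2_c42 LD3_c59)) = (LP (LK LD1_c11 LD2_c16 LD3_c14)) :=
  Lre_g IH (LK LD1_c5 LD2_c42 LD3_c59) (LK LD1_c11 LD2_c16 LD3_c14) Lrfl Lrfl
theorem f582191 : Led Lsl_gt (LP (LK LD1_c4 LD2_c39 LD3_c57)) = (LP (LK LD1_c4 LD2_c41 LD3_c29)) :=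
  Lgr Lrot9 (Lpe (K35.f73425 IH) (Lpr_gt (K40.f538126 IH) (Lpr_ct (K42.f272493 IH) (Lpr_gt (K42.f572007 IH) (Lpr_ct (K44.f565160 IH) (Lpe (K40.f499334 IH) (Lpe (K44.f578296 IH) (Lpr_gf (K44.f582186 IH) (Lpe (K44.f494676 IH) (Lpn (LP (LK LD1_c4 LD2_c41 LD3_c29))))))))))))
theorem f80177 : Led Lsl_ef (LP (LK LD1_c4 LD2_c39 LD3_c57)) = (LP (LK LD1_c4 LD2_c37 LD3_c53)) :=
  Lgr Lrot88 (Lpr_et (K35.f79953 IH) (Lpn (LP (LK LD1_c4 LD2_c37 LD3_c53))))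
theorem f604815 : Led Lsl_ef (LP (LK LD1_c11 LD2_c16 LD3_c14)) = (LP (LK LD1_c9 LD2_c11 LD3_c24)) :=
  Lgr Lrot17 (Lpe (f604814 IH) (Lpe (f495847 IH) (Lpr_dt (K38.f172839 IH) (Lpe (K41.f172730 IH) (Lpr_df (f582229 IH) (Lpe (f582191 IH) (Lpr_ef (f80177 IH) (Lpr_dt (K35.f79952 IH) (Lpe (f40637 IH) (Lpe (f80189 IH) (Lpn (LP (LK LD1_c9 LD2_c11 LD3_c24)))))))))))))
theorem f604818 : Led Lsl_et (LP (LK LD1_c11 LD2_c16 LD3_c14)) = (LP (LK LD1_c9 LD2_c11 LD3_c24)) :=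
  Lgr Lrot87 (Lpr_ef (f604815 IH) (Lpn (LP (LK LD1_c9 LD2_c11 LD3_c24))))
theorem f281962 : Led Lsl_dt (LP (LK LD1_c20 LD2_c12 LD3_c12)) = (LP (LK LD1_c11 LD2_c16 LD3_c14)) :=
  Lre_d IH (LK LD1_c20 LD2_c12 LD3_c12) (LK LD1_c11 LD2_c16 LD3_c14) Lrfl Lrfl
theorem f632005 : Led Lsl_dt (LP (LK LD1_c6 LD2_c46 LD3_c49)) = (LP (LK LD1_c12 LD2_c56 LD3_c50)) :=
  Lre_d IH (LK LD1_c6 LD2_c46 LD3_c49) (LK LD1_c12 LD2_c56 LD3_c50) Lrfl Lrfl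
theorem f700282 : Led Lsl_ef (LP (LK LD1_c20 LD2_c12 LD3_c12)) = (LP (LK LD1_c12 LD2_c56 LD3_c50)) :=
  Lgr Lrot73 (Lpr_dt (f281962 IH) (Lpr_et (f604818 IH) (Lpr_dt (f80189 IH) (Lpqs (f700271 IH) (Lpe (f632000 IH) (Lpr_dt (f632005 IH) (Lpn (LP (LK LD1_c12 LD2_c56 LD3_c50)))))))))
theorem f700288 : Led Lsl_et (LP (LK LD1_c20 LD2_c12 LD3_c12)) = (LP (LK LD1_c12 LD2_c56 LD3_c50)) :=
  Lgr Lrot87 (Lpr_ef (f700282 IH) (Lpn (LP (LK LD1_c12 LD2_c56 LD3_c50))))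
theorem f552613 : Led Lsl_dt (LP (LK LD1_c2 LD2_c47 LD3_c26)) = (LP (LK LD1_c5 LD2_c42 LD3_c59)) :=
  Lre_d IH (LK LD1_c2 LD2_c47 LD3_c26) (LK LD1_c5 LD2_c42 LD3_c59) Lrfl Lrfl
theorem f700294 : Led Lsl_gf (LP (LK LD1_c12 LD2_c3 LD3_c32)) = (LP (LK LD1_c12 LD2_c56 LD3_c50)) :=
  Lgr Lrot138 (Lpr_dt (K50.f61467 IH) (Lpr_gt (K50.f61456 IH) (Lpr_df (K50.f549523 IH) (Lpr_et (K50.f281972 IH) (Lpr_gt (K36.f172746 IH) (Lpe (K16.f280295 IH) (Lpr_dt (f552613 IH) (Lpr_gt (f604814 IH) (Lpe (f281962 IH) (Lpr_et (f700288 IH) (Lpn (LP (LK LD1_c12 LD2_c56 LD3_c50)))))))))))))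
theorem f632006 : Led Lsl_et (LP (LK LD1_c6 LD2_c46 LD3_c49)) = v4217 :=
  Lgr Lrot87 (Lpr_ef (f632000 IH) (Lpn v4217))
theorem f73000 : Led Lsl_et (LP (LK LD1_c1 LD2_c27 LD3_c13)) = (LP (LK LD1_c3 LD2_c2 LD3_c29)) :=
  Lre_e IH (LK LD1_c1 LD2_c27 LD3_c13) (LK LD1_c3 LD2_c2 LD3_c29) Lrfl Lrfl
theorem f73001 : Led Lsl_gt (LP (LK LD1_c3 LD2_c2 LD3_c29)) = (LP (LK LD1_c6 LD2_c11 LD3_c50)) :=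
  Lre_g IH (LK LD1_c3 LD2_c2 LD3_c29) (LK LD1_c6 LD2_c11 LD3_c50) Lrfl Lrfl
theorem f73002 : Led Lsl_dt (LP (LK LD1_c6 LD2_c11 LD3_c50)) = (LP (LK LD1_c12 LD2_c3 LD3_c31)) :=
  Lre_d IH (LK LD1_c6 LD2_c11 LD3_c50) (LK LD1_c12 LD2_c3 LD3_c31) Lrfl Lrfl
theorem f700335 : Led Lsl_gt (LP (LK LD1_c12 LD2_c3 LD3_c31)) = (LP (LK LD1_c12 LD2_c56 LD3_c50)) :=
  Lgr Lrot139 (Lpe (f73002 IH) (Lpe (f73001 IH) (Lpe (f73000 IH) (Lpe (K4.f72972 IH) (Lpe (K4.f73421 IH) (Lpr_df (K4.f79947 IH) (Lpr_et (K50.f79976 IH) (Lpe (f40637 IH) (Lpqs (f700271 IH) (Lpe (f632006 IH) (Lpr_dt (f632005 IH) (Lpn (LP (LK LD1_c12 LD2_c56 LD3_c50))))))))))))))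
theorem f706214 : Led Lsl_ft (LP (LK LD1_c12 LD2_c3 LD3_c31)) = v12873 :=
  Lgr Lrot2 (Lpr_gt (f700335 IH) (Lpe (f700294 IH) (Lpr_af (f706202 IH) (Lpn v12873))))
theorem f706219 : Led Lsl_ff (LP (LK LD1_c12 LD2_c3 LD3_c31)) = v12873 :=
  Lgr Lrot3 (Lpr_ft (f706214 IH) (Lpn v12873))
theorem f640269 : Led Lsl_ft (LP (LK LD1_c11 LD2_c22 LD3_c34)) = (LP (LK LD1_c5 LD2_c46 LD3_c5)) :=
  Lre_f IH (LK LD1_c11 LD2_c22 LD3_c34) (LK LD1_c5 LD2_c46 LD3_c5) Lrfl Lrfl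
theorem f706222 : Led Lsl_et (LP (LK LD1_c12 LD2_c3 LD3_c31)) = (LP (LK LD1_c11 LD2_c22 LD3_c34)) :=
  Lgr Lrot69 (Lpr_ff (f706219 IH) (Lpe (f698727 IH) (Lpe (f640120 IH) (Lpe (K50.f140649 IH) (Lpe (f640269 IH) (Lpn (LP (LK LD1_c11 LD2_c22 LD3_c34))))))))
theorem f79970 : Led Lsl_et (LP (LK LD1_c1 LD2_c5 LD3_c2)) = (LP (LK LD1_c0 LD2_c29 LD3_c42)) :=
  Lre_e IH (LK LD1_c1 LD2_c5 LD3_c2) (LK LD1_c0 LD2_c29 LD3_c42) Lrfl Lrfl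
theorem f79972 : Led Lsl_gt (LP (LK LD1_c4 LD2_c33 LD3_c22)) = (LP (LK LD1_c2 LD2_c13 LD3_c36)) :=
  Lre_g IH (LK LD1_c4 LD2_c33 LD3_c22) (LK LD1_c2 LD2_c13 LD3_c36) Lrfl Lrfl
theorem f79973 : Led Lsl_dt (LP (LK LD1_c9 LD2_c4 LD3_c17)) = (LP (LK LD1_c4 LD2_c33 LD3_c22)) :=
  Lre_d IH (LK LD1_c9 LD2_c4 LD3_c17) (LK LD1_c4 LD2_c33 LD3_c22) Lrfl Lrfl
theorem f79974 : Led Lsl_ef (LP (LK LD1_c6 LD2_c11 LD3_c50)) = (LP (LK LD1_c9 LD2_c4 LD3_c17)) :=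
  Lgr Lrot17 (Lpe (f73001 IH) (Lpe (f73000 IH) (Lpe (K4.f72972 IH) (Lpe (K4.f73421 IH) (Lpr_df (K4.f79947 IH) (Lpe (K5.f40608 IH) (Lpe (f79970 IH) (Lpr_dt (K45.f79971 IH) (Lpe (f79972 IH) (Lpe (f79973 IH) (Lpn (LP (LK LD1_c9 LD2_c4 LD3_c17)))))))))))))
theorem f79981 : Led Lsl_dt (LP (LK LD1_c4 LD2_c33 LD3_c22)) = (LP (LK LD1_c9 LD2_c4 LD3_c17)) :=
  Lre_d IH (LK LD1_c4 LD2_c33 LD3_c22) (LK LD1_c9 LD2_c4 LD3_c17) Lrfl Lrfl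
theorem f79982 : Led Lsl_et (LP (LK LD1_c9 LD2_c4 LD3_c18)) = (LP (LK LD1_c4 LD2_c33 LD3_c22)) :=
  Lre_e IH (LK LD1_c9 LD2_c4 LD3_c18) (LK LD1_c4 LD2_c33 LD3_c22) Lrfl Lrfl
theorem f706224 : Led Lsl_df (LP (LK LD1_c9 LD2_c4 LD3_c18)) = (LP (LK LD1_c11 LD2_c22 LD3_c34)) :=
  Lgr Lrot70 (Lpr_et (f79982 IH) (Lpr_dt (f79981 IH) (Lpe (f79974 IH) (Lpr_dt (f73002 IH) (Lpr_et (f706222 IH) (Lpn (LP (LK LD1_c11 LD2_c22 LD3_c34))))))))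
theorem f640149 : Led Lsl_ft (LP (LK LD1_c5 LD2_c46 LD3_c5)) = (LP (LK LD1_c11 LD2_c22 LD3_c34)) :=
  Lre_f IH (LK LD1_c5 LD2_c46 LD3_c5) (LK LD1_c11 LD2_c22 LD3_c34) Lrfl Lrfl
theorem f706230 : Led Lsl_ft (LP (LK LD1_c9 LD2_c4 LD3_c18)) = (LP (LK LD1_c11 LD2_c22 LD3_c33)) :=
  Lgr Lrot54 (Lpr_df (f706224 IH) (Lpe (f640149 IH) (Lpe (K50.f140650 IH) (Lpn (LP (LK LD1_c11 LD2_c22 LD3_c33))))))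
theorem f644528 : Led Lsl_et (LP (LK LD1_c16 LD2_c54 LD3_c11)) = (LP (LK LD1_c26 LD2_c50 LD3_c27)) :=
  Lre_e IH (LK LD1_c16 LD2_c54 LD3_c11) (LK LD1_c26 LD2_c50 LD3_c27) Lrfl Lrfl
theorem f226035 : Led Lsl_et (LP (LK LD1_c0 LD2_c16 LD3_c33)) = (LP (LK LD1_c0 LD2_c37 LD3_c11)) :=
  Lre_e IH (LK LD1_c0 LD2_c16 LD3_c33) (LK LD1_c0 LD2_c37 LD3_c11) Lrfl Lrfl
theorem f281547 : Led Lsl_et (LP (LK LD1_c0 LD2_c37 LD3_c1)) = (LP (LK LD1_c1 LD2_c20 LD3_c3)) :=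
  Lre_e IH (LK LD1_c0 LD2_c37 LD3_c1) (LK LD1_c1 LD2_c20 LD3_c3) Lrfl Lrfl
theorem f176865 : Led Lsl_gt (LP (LK LD1_c2 LD2_c47 LD3_c30)) = (LP (LK LD1_c1 LD2_c20 LD3_c3)) :=
  Lre_g IH (LK LD1_c2 LD2_c47 LD3_c30) (LK LD1_c1 LD2_c20 LD3_c3) Lrfl Lrfl
theorem f507647 : Led Lsl_et (LP (LK LD1_c4 LD2_c39 LD3_c5)) = (LP (LK LD1_c2 LD2_c47 LD3_c30)) :=
  Lgr Lrot185 (Lpr_dt (K46.f507639 IH) (Lpe (K35.f444625 IH) (Lpe (K38.f140579 IH) (Lpe (K9.f140245 IH) (Lpe (f226035 IH) (Lpr_dt (K9.f165204 IH) (Lpe (K9.f168534 IH) (Lpe (K9.f172420 IH) (Lpr_et (f281547 IH) (Lpe (f176865 IH) (Lpn (LP (LK LD1_c2 LD2_c47 LD3_c30)))))))))))))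
theorem f507657 : Led Lsl_bt (LP (LK LD1_c2 LD2_c47 LD3_c30)) = (LP (LK LD1_c5 LD2_c43 LD3_c3)) :=
  Lre_b IH (LK LD1_c2 LD2_c47 LD3_c30) (LK LD1_c5 LD2_c43 LD3_c3) Lrfl Lrfl
theorem f642704 : Led Lsl_et (LP (LK LD1_c5 LD2_c43 LD3_c3)) = (LP (LK LD1_c9 LD2_c12 LD3_c22)) :=
  Lgr Lrot74 (Lpe (f507657 IH) (Lpe (f507647 IH) (Lpr_bf (K50.f642678 IH) (Lpn (LP (LK LD1_c9 LD2_c12 LD3_c22))))))
theorem f507695 : Led Lsl_ct (LP (LK LD1_c11 LD2_c16 LD3_c25)) = (LP (LK LD1_c5 LD2_c43 LD3_c3)) :=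
  Lre_c IH (LK LD1_c11 LD2_c16 LD3_c25) (LK LD1_c5 LD2_c43 LD3_c3) Lrfl Lrfl
theorem f642706 : Led Lsl_ef (LP (LK LD1_c11 LD2_c16 LD3_c25)) = (LP (LK LD1_c17 LD2_c6 LD3_c33)) :=
  Lgr Lrot28 (Lpr_ct (f507695 IH) (Lpr_et (f642704 IH) (Lpr_ct (K45.f642680 IH) (Lpn (LP (LK LD1_c17 LD2_c6 LD3_c33))))))
theorem f644529 : Led Lsl_af (LP (LK LD1_c16 LD2_c54 LD3_c11)) = (LP (LK LD1_c11 LD2_c16 LD3_c25)) :=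
  Lgr Lrot50 (Lpr_et (f644528 IH) (Lpr_at (K45.f644484 IH) (Lpe (f642706 IH) (Lpn (LP (LK LD1_c11 LD2_c16 LD3_c25))))))
theorem f644533 : Led Lsl_ct (LP (LK LD1_c16 LD2_c54 LD3_c11)) = (LP (LK LD1_c9 LD2_c3 LD3_c21)) :=
  Lre_c IH (LK LD1_c16 LD2_c54 LD3_c11) (LK LD1_c9 LD2_c3 LD3_c21) Lrfl Lrfl
theorem f281277 : Led Lsl_ct (LP (LK LD1_c5 LD2_c43 LD3_c3)) = (LP (LK LD1_c11 LD2_c16 LD3_c25)) :=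
  Lre_c IH (LK LD1_c5 LD2_c43 LD3_c3) (LK LD1_c11 LD2_c16 LD3_c25) Lrfl Lrfl
theorem f644534 : Led Lsl_at (LP (LK LD1_c9 LD2_c3 LD3_c21)) = (LP (LK LD1_c5 LD2_c43 LD3_c3)) :=
  Lgr Lrot107 (Lpe (f644533 IH) (Lpr_af (f644529 IH) (Lpe (f281277 IH) (Lpn (LP (LK LD1_c5 LD2_c43 LD3_c3))))))
theorem f507658 : Led Lsl_ef (LP (LK LD1_c4 LD2_c39 LD3_c5)) = (LP (LK LD1_c2 LD2_c47 LD3_c30)) :=
  Lgr Lrot88 (Lpr_et (f507647 IH) (Lpn (LP (LK LD1_c2 LD2_c47 LD3_c30))))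
theorem f507634 : Led Lsl_at (LP (LK LD1_c4 LD2_c39 LD3_c5)) = (LP (LK LD1_c2 LD2_c57 LD3_c36)) :=
  Lgr Lrot66 (Lpr_ff (K46.f507632 IH) (Lpe (K35.f507077 IH) (Lpr_ff (K41.f507115 IH) (Lpn (LP (LK LD1_c2 LD2_c57 LD3_c36))))))
theorem f177764 : Led Lsl_gt (LP (LK LD1_c4 LD2_c32 LD3_c44)) = (LP (LK LD1_c2 LD2_c13 LD3_c21)) :=
  Lre_g IH (LK LD1_c4 LD2_c32 LD3_c44) (LK LD1_c2 LD2_c13 LD3_c21) Lrfl Lrfl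
theorem f501083 : Led Lsl_ef (LP (LK LD1_c4 LD2_c32 LD3_c44)) = (LP (LK LD1_c2 LD2_c57 LD3_c36)) :=
  Lgr Lrot114 (Lpr_gt (f177764 IH) (Lpe (K20.f226733 IH) (Lpr_dt (K12.f174526 IH) (Lpr_gt (K9.f26792 IH) (Lpe (K12.f173399 IH) (Lpr_et (K50.f226704 IH) (Lpr_gt (K24.f140142 IH) (Lpr_dt (K24.f140281 IH) (Lpr_gt (K32.f501078 IH) (Lpe (K32.f501057 IH) (Lpn (LP (LK LD1_c2 LD2_c57 LD3_c36)))))))))))))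
theorem f507660 : Led Lsl_at (LP (LK LD1_c4 LD2_c32 LD3_c44)) = (LP (LK LD1_c2 LD2_c47 LD3_c30)) :=
  Lgr Lrot80 (Lpr_ef (f501083 IH) (Lpe (f507634 IH) (Lpr_ef (f507658 IH) (Lpn (LP (LK LD1_c2 LD2_c47 LD3_c30))))))
theorem f281200 : Led Lsl_bf (LP (LK LD1_c4 LD2_c32 LD3_c37)) = (LP (LK LD1_c8 LD2_c57 LD3_c26)) :=
  Lgr Lrot81 (Lpr_at (K16.f268979 IH) (Lpr_bt (K20.f268836 IH) (Lpr_at (K31.f281198 IH) (Lpr_bt (K31.f281188 IH) (Lpr_at (K22.f281177 IH) (Lpn (LP (LK LD1_c8 LD2_c57 LD3_c26))))))))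
theorem f281248 : Led Lsl_et (LP (LK LD1_c16 LD2_c46 LD3_c12)) = (LP (LK LD1_c8 LD2_c57 LD3_c26)) :=
  Lre_e IH (LK LD1_c16 LD2_c46 LD3_c12) (LK LD1_c8 LD2_c57 LD3_c26) Lrfl Lrfl
theorem f281249 : Led Lsl_bt (LP (LK LD1_c9 LD2_c2 LD3_c45)) = (LP (LK LD1_c16 LD2_c46 LD3_c12)) :=
  Lgr Lrot119 (Lpe (K16.f268975 IH) (Lpr_bf (f281200 IH) (Lpe (f281248 IH) (Lpn (LP (LK LD1_c16 LD2_c46 LD3_c12))))))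
theorem f281256 : Led Lsl_ct (LP (LK LD1_c4 LD2_c32 LD3_c38)) = (LP (LK LD1_c9 LD2_c2 LD3_c45)) :=
  Lre_c IH (LK LD1_c4 LD2_c32 LD3_c38) (LK LD1_c9 LD2_c2 LD3_c45) Lrfl Lrfl
theorem f268806 : Led Lsl_bt (LP (LK LD1_c2 LD2_c13 LD3_c21)) = (LP (LK LD1_c4 LD2_c32 LD3_c38)) :=
  Lre_b IH (LK LD1_c2 LD2_c13 LD3_c21) (LK LD1_c4 LD2_c32 LD3_c38) Lrfl Lrfl
theorem f281257 : Led Lsl_ct (LP (LK LD1_c16 LD2_c46 LD3_c12)) = (LP (LK LD1_c8 LD2_c57 LD3_c27)) :=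
  Lre_c IH (LK LD1_c16 LD2_c46 LD3_c12) (LK LD1_c8 LD2_c57 LD3_c27) Lrfl Lrfl
theorem f280954 : Led Lsl_bt (LP (LK LD1_c8 LD2_c57 LD3_c27)) = (LP (LK LD1_c4 LD2_c29 LD3_c38)) :=
  Lre_b IH (LK LD1_c8 LD2_c57 LD3_c27) (LK LD1_c4 LD2_c29 LD3_c38) Lrfl Lrfl
theorem f281258 : Led Lsl_cf (LP (LK LD1_c2 LD2_c13 LD3_c21)) = (LP (LK LD1_c4 LD2_c29 LD3_c38)) :=
  Lgr Lrot97 (Lpr_bt (f268806 IH) (Lpr_ct (f281256 IH) (Lpr_bt (f281249 IH) (Lpr_ct (f281257 IH) (Lpr_bt (f280954 IH) (Lpn (LP (LK LD1_c4 LD2_c29 LD3_c38))))))))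
theorem f280951 : Led Lsl_at (LP (LK LD1_c2 LD2_c42 LD3_c5)) = (LP (LK LD1_c4 LD2_c29 LD3_c38)) :=
  Lgr Lrot100 (Lpr_af (K20.f280940 IH) (Lpn (LP (LK LD1_c4 LD2_c29 LD3_c38))))
theorem f280902 : Led Lsl_ct (LP (LK LD1_c5 LD2_c31 LD3_c43)) = (LP (LK LD1_c10 LD2_c55 LD3_c12)) :=
  Lre_c IH (LK LD1_c5 LD2_c31 LD3_c43) (LK LD1_c10 LD2_c55 LD3_c12) Lrfl Lrfl
theorem f280903 : Led Lsl_bt (LP (LK LD1_c2 LD2_c42 LD3_c5)) = (LP (LK LD1_c5 LD2_c31 LD3_c43)) :=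
  Lre_b IH (LK LD1_c2 LD2_c42 LD3_c5) (LK LD1_c5 LD2_c31 LD3_c43) Lrfl Lrfl
theorem f280904 : Led Lsl_ct (LP (LK LD1_c5 LD2_c42 LD3_c56)) = (LP (LK LD1_c2 LD2_c47 LD3_c26)) :=
  Lre_c IH (LK LD1_c5 LD2_c42 LD3_c56) (LK LD1_c2 LD2_c47 LD3_c26) Lrfl Lrfl
theorem f268805 : Led Lsl_bt (LP (LK LD1_c2 LD2_c47 LD3_c26)) = (LP (LK LD1_c1 LD2_c20 LD3_c3)) :=
  Lre_b IH (LK LD1_c2 LD2_c47 LD3_c26) (LK LD1_c1 LD2_c20 LD3_c3) Lrfl Lrfl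
theorem f280905 : Led Lsl_cf (LP (LK LD1_c2 LD2_c42 LD3_c5)) = (LP (LK LD1_c1 LD2_c20 LD3_c3)) :=
  Lgr Lrot97 (Lpr_bt (f280903 IH) (Lpr_ct (f280902 IH) (Lpr_bt (K20.f280884 IH) (Lpr_ct (f280904 IH) (Lpr_bt (f268805 IH) (Lpn (LP (LK LD1_c1 LD2_c20 LD3_c3))))))))
theorem f281268 : Led Lsl_at (LP (LK LD1_c2 LD2_c13 LD3_c21)) = (LP (LK LD1_c1 LD2_c20 LD3_c3)) :=
  Lgr Lrot107 (Lpr_cf (f281258 IH) (Lpe (f280951 IH) (Lpr_cf (f280905 IH) (Lpn (LP (LK LD1_c1 LD2_c20 LD3_c3))))))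
theorem f281274 : Led Lsl_gt (LP (LK LD1_c4 LD2_c32 LD3_c46)) = (LP (LK LD1_c2 LD2_c47 LD3_c30)) :=
  Lgr Lrot5 (Lpr_ft (K16.f268928 IH) (Lpr_at (f281268 IH) (Lpe (f176865 IH) (Lpn (LP (LK LD1_c2 LD2_c47 LD3_c30))))))
theorem f268771 : Led Lsl_at (LP (LK LD1_c2 LD2_c47 LD3_c32)) = (LP (LK LD1_c4 LD2_c32 LD3_c46)) :=
  Lgr Lrot100 (Lpr_af (K16.f268768 IH) (Lpn (LP (LK LD1_c4 LD2_c32 LD3_c46))))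
theorem f179932 : Led Lsl_gt (LP (LK LD1_c1 LD2_c20 LD3_c3)) = (LP (LK LD1_c2 LD2_c47 LD3_c29)) :=
  Lre_g IH (LK LD1_c1 LD2_c20 LD3_c3) (LK LD1_c2 LD2_c47 LD3_c29) Lrfl Lrfl
theorem f412038 : Led Lsl_gt (LP (LK LD1_c2 LD2_c47 LD3_c29)) = (LP (LK LD1_c4 LD2_c32 LD3_c46)) :=
  Lgr Lrot46 (Lpe (f179932 IH) (Lpr_ft (K20.f280935 IH) (Lpr_at (f268771 IH) (Lpn (LP (LK LD1_c4 LD2_c32 LD3_c46))))))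
theorem f507663 : Led Lsl_ff (LP (LK LD1_c4 LD2_c32 LD3_c44)) = (LP (LK LD1_c2 LD2_c47 LD3_c29)) :=
  Lgr Lrot52 (Lpr_at (f507660 IH) (Lpe (f281274 IH) (Lpe (f412038 IH) (Lpn (LP (LK LD1_c2 LD2_c47 LD3_c29))))))
theorem f507667 : Led Lsl_ft (LP (LK LD1_c4 LD2_c32 LD3_c44)) = (LP (LK LD1_c2 LD2_c47 LD3_c29)) :=
  Lgr Lrot48 (Lpr_ff (f507663 IH) (Lpn (LP (LK LD1_c2 LD2_c47 LD3_c29))))
theorem f175526 : Led Lsl_gt (LP (LK LD1_c2 LD2_c13 LD3_c21)) = (LP (LK LD1_c4 LD2_c32 LD3_c43)) :=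
  Lre_g IH (LK LD1_c2 LD2_c13 LD3_c21) (LK LD1_c4 LD2_c32 LD3_c43) Lrfl Lrfl
theorem f507672 : Led Lsl_af (LP (LK LD1_c4 LD2_c32 LD3_c43)) = (LP (LK LD1_c2 LD2_c47 LD3_c29)) :=
  Lgr Lrot31 (Lpe (f175526 IH) (Lpe (f177764 IH) (Lpr_ft (f507667 IH) (Lpn (LP (LK LD1_c2 LD2_c47 LD3_c29))))))
theorem f501087 : Led Lsl_et (LP (LK LD1_c4 LD2_c32 LD3_c44)) = (LP (LK LD1_c2 LD2_c57 LD3_c36)) :=
  Lgr Lrot87 (Lpr_ef (f501083 IH) (Lpn (LP (LK LD1_c2 LD2_c57 LD3_c36))))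
theorem f507655 : Led Lsl_af (LP (LK LD1_c4 LD2_c32 LD3_c44)) = (LP (LK LD1_c2 LD2_c47 LD3_c30)) :=
  Lgr Lrot50 (Lpr_et (f501087 IH) (Lpe (K49.f507625 IH) (Lpr_et (f507647 IH) (Lpn (LP (LK LD1_c2 LD2_c47 LD3_c30))))))
theorem f507681 : Led Lsl_ft (LP (LK LD1_c4 LD2_c32 LD3_c43)) = (LP (LK LD1_c2 LD2_c47 LD3_c30)) :=
  Lgr Lrot101 (Lpr_af (f507672 IH) (Lpe (f507667 IH) (Lpr_af (f507655 IH) (Lpn (LP (LK LD1_c2 LD2_c47 LD3_c30))))))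
theorem f268784 : Led Lsl_bt (LP (LK LD1_c9 LD2_c2 LD3_c52)) = (LP (LK LD1_c4 LD2_c32 LD3_c43)) :=
  Lre_b IH (LK LD1_c9 LD2_c2 LD3_c52) (LK LD1_c4 LD2_c32 LD3_c43) Lrfl Lrfl
theorem f507683 : Led Lsl_ff (LP (LK LD1_c9 LD2_c2 LD3_c52)) = (LP (LK LD1_c5 LD2_c43 LD3_c3)) :=
  Lgr Lrot25 (Lpr_bt (f268784 IH) (Lpr_ft (f507681 IH) (Lpr_bt (f507657 IH) (Lpn (LP (LK LD1_c5 LD2_c43 LD3_c3))))))
theorem f507677 : Led Lsl_at (LP (LK LD1_c9 LD2_c2 LD3_c52)) = (LP (LK LD1_c16 LD2_c53 LD3_c30)) :=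
  Lre_a IH (LK LD1_c9 LD2_c2 LD3_c52) (LK LD1_c16 LD2_c53 LD3_c30) Lrfl Lrfl
theorem f644539 : Led Lsl_ff (LP (LK LD1_c9 LD2_c3 LD3_c21)) = (LP (LK LD1_c16 LD2_c53 LD3_c30)) :=
  Lgr Lrot30 (Lpr_at (f644534 IH) (Lpe (f507683 IH) (Lpr_at (f507677 IH) (Lpn (LP (LK LD1_c16 LD2_c53 LD3_c30))))))
theorem f644541 : Led Lsl_ft (LP (LK LD1_c9 LD2_c3 LD3_c21)) = (LP (LK LD1_c16 LD2_c53 LD3_c30)) :=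
  Lgr Lrot48 (Lpr_ff (f644539 IH) (Lpn (LP (LK LD1_c16 LD2_c53 LD3_c30))))
theorem f507689 : Led Lsl_at (LP (LK LD1_c16 LD2_c53 LD3_c30)) = (LP (LK LD1_c9 LD2_c2 LD3_c52)) :=
  Lre_a IH (LK LD1_c16 LD2_c53 LD3_c30) (LK LD1_c9 LD2_c2 LD3_c52) Lrfl Lrfl
theorem f644543 : Led Lsl_gt (LP (LK LD1_c4 LD2_c33 LD3_c3)) = (LP (LK LD1_c9 LD2_c2 LD3_c52)) :=
  Lgr Lrot46 (Lpe (K46.f563562 IH) (Lpr_ft (f644541 IH) (Lpr_at (f507689 IH) (Lpn (LP (LK LD1_c9 LD2_c2 LD3_c52))))))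
theorem f580454 : Led Lsl_ft (LP (LK LD1_c4 LD2_c33 LD3_c3)) = (LP (LK LD1_c9 LD2_c3 LD3_c23)) :=
  Lre_f IH (LK LD1_c4 LD2_c33 LD3_c3) (LK LD1_c9 LD2_c3 LD3_c23) Lrfl Lrfl
theorem f507692 : Led Lsl_gt (LP (LK LD1_c9 LD2_c2 LD3_c52)) = (LP (LK LD1_c16 LD2_c53 LD3_c29)) :=
  Lre_g IH (LK LD1_c9 LD2_c2 LD3_c52) (LK LD1_c16 LD2_c53 LD3_c29) Lrfl Lrfl
theorem f644545 : Led Lsl_at (LP (LK LD1_c9 LD2_c3 LD3_c23)) = (LP (LK LD1_c16 LD2_c53 LD3_c29)) :=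
  Lgr Lrot26 (Lpe (f580454 IH) (Lpr_gt (f644543 IH) (Lpr_gt (f507692 IH) (Lpn (LP (LK LD1_c16 LD2_c53 LD3_c29))))))
theorem f613055 : Led Lsl_at (LP (LK LD1_c9 LD2_c3 LD3_c16)) = (LP (LK LD1_c4 LD2_c33 LD3_c3)) :=
  Lre_a IH (LK LD1_c9 LD2_c3 LD3_c16) (LK LD1_c4 LD2_c33 LD3_c3) Lrfl Lrfl
theorem f644553 : Led Lsl_ff (LP (LK LD1_c9 LD2_c3 LD3_c16)) = (LP (LK LD1_c16 LD2_c53 LD3_c29)) :=
  Lgr Lrot30 (Lpr_at (f613055 IH) (Lpr_ft (f580454 IH) (Lpr_at (f644545 IH) (Lpn (LP (LK LD1_c16 LD2_c53 LD3_c29))))))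
theorem f644561 : Led Lsl_gf (LP (LK LD1_c9 LD2_c3 LD3_c21)) = (LP (LK LD1_c16 LD2_c53 LD3_c29)) :=
  Lgr Lrot47 (Lpr_gt (K46.f563562 IH) (Lpe (f613055 IH) (Lpr_ff (f644553 IH) (Lpn (LP (LK LD1_c16 LD2_c53 LD3_c29))))))
theorem f140539 : Led Lsl_dt (LP (LK LD1_c4 LD2_c38 LD3_c13)) = (LP (LK LD1_c2 LD2_c16 LD3_c11)) :=
  Lre_d IH (LK LD1_c4 LD2_c38 LD3_c13) (LK LD1_c2 LD2_c16 LD3_c11) Lrfl Lrfl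
theorem f140540 : Led Lsl_dt (LP (LK LD1_c2 LD2_c13 LD3_c36)) = (LP (LK LD1_c1 LD2_c5 LD3_c2)) :=
  Lre_d IH (LK LD1_c2 LD2_c13 LD3_c36) (LK LD1_c1 LD2_c5 LD3_c2) Lrfl Lrfl
theorem f140541 : Led Lsl_gt (LP (LK LD1_c16 LD2_c55 LD3_c45)) = (LP (LK LD1_c9 LD2_c4 LD3_c17)) :=
  Lgr Lrot94 (Lpe (K45.f140538 IH) (Lpr_gt (K45.f140536 IH) (Lpr_dt (K45.f80069 IH) (Lpr_gt (K45.f80068 IH) (Lpr_dt (f140539 IH) (Lpe (K9.f140148 IH) (Lpe (f140540 IH) (Lpe (f79972 IH) (Lpe (f79973 IH) (Lpn (LP (LK LD1_c9 LD2_c4 LD3_c17))))))))))))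
theorem f80022 : Led Lsl_et (LP (LK LD1_c4 LD2_c33 LD3_c22)) = (LP (LK LD1_c9 LD2_c4 LD3_c18)) :=
  Lre_e IH (LK LD1_c4 LD2_c33 LD3_c22) (LK LD1_c9 LD2_c4 LD3_c18) Lrfl Lrfl
theorem f557201 : Led Lsl_et (LP (LK LD1_c9 LD2_c3 LD3_c16)) = (LP (LK LD1_c4 LD2_c32 LD3_c60)) :=
  Lre_e IH (LK LD1_c9 LD2_c3 LD3_c16) (LK LD1_c4 LD2_c32 LD3_c60) Lrfl Lrfl
theorem f551647 : Led Lsl_ft (LP (LK LD1_c4 LD2_c32 LD3_c60)) = (LP (LK LD1_c2 LD2_c13 LD3_c27)) :=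
  Lre_f IH (LK LD1_c4 LD2_c32 LD3_c60) (LK LD1_c2 LD2_c13 LD3_c27) Lrfl Lrfl
theorem f494151 : Led Lsl_et (LP (LK LD1_c2 LD2_c13 LD3_c27)) = (LP (LK LD1_c4 LD2_c32 LD3_c59)) :=
  Lre_e IH (LK LD1_c2 LD2_c13 LD3_c27) (LK LD1_c4 LD2_c32 LD3_c59) Lrfl Lrfl
theorem f566522 : Led Lsl_ft (LP (LK LD1_c4 LD2_c32 LD3_c59)) = (LP (LK LD1_c9 LD2_c3 LD3_c15)) :=
  Lre_f IH (LK LD1_c4 LD2_c32 LD3_c59) (LK LD1_c9 LD2_c3 LD3_c15) Lrfl Lrfl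
theorem f644557 : Led Lsl_et (LP (LK LD1_c9 LD2_c3 LD3_c15)) = (LP (LK LD1_c16 LD2_c53 LD3_c29)) :=
  Lgr Lrot69 (Lpe (f566522 IH) (Lpe (f494151 IH) (Lpe (f551647 IH) (Lpe (f557201 IH) (Lpr_ff (f644553 IH) (Lpn (LP (LK LD1_c16 LD2_c53 LD3_c29))))))))
theorem f566487 : Led Lsl_bt (LP (LK LD1_c16 LD2_c53 LD3_c49)) = (LP (LK LD1_c9 LD2_c3 LD3_c15)) :=
  Lre_b IH (LK LD1_c16 LD2_c53 LD3_c49) (LK LD1_c9 LD2_c3 LD3_c15) Lrfl Lrfl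
theorem f566488 : Led Lsl_df (LP (LK LD1_c16 LD2_c52 LD3_c6)) = (LP (LK LD1_c9 LD2_c3 LD3_c15)) :=
  Lgr Lrot12 (Lpe (K16.f281825 IH) (Lpr_dt (K41.f566482 IH) (Lpr_bt (f566487 IH) (Lpn (LP (LK LD1_c9 LD2_c3 LD3_c15))))))
theorem f281848 : Led Lsl_gt (LP (LK LD1_c9 LD2_c2 LD3_c9)) = (LP (LK LD1_c16 LD2_c52 LD3_c6)) :=
  Lre_g IH (LK LD1_c9 LD2_c2 LD3_c9) (LK LD1_c16 LD2_c52 LD3_c6) Lrfl Lrfl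
theorem f552453 : Led Lsl_dt (LP (LK LD1_c16 LD2_c52 LD3_c23)) = (LP (LK LD1_c9 LD2_c2 LD3_c9)) :=
  Lre_d IH (LK LD1_c16 LD2_c52 LD3_c23) (LK LD1_c9 LD2_c2 LD3_c9) Lrfl Lrfl
theorem f644563 : Led Lsl_gt (LP (LK LD1_c9 LD2_c4 LD3_c18)) = (LP (LK LD1_c16 LD2_c52 LD3_c23)) :=
  Lgr Lrot137 (Lpe (f80022 IH) (Lpr_dt (f79981 IH) (Lpe (f140541 IH) (Lpe (K45.f140547 IH) (Lpr_et (K46.f140552 IH) (Lpr_gf (f644561 IH) (Lpe (f644557 IH) (Lpe (f566488 IH) (Lpe (f281848 IH) (Lpe (f552453 IH) (Lpn (LP (LK LD1_c16 LD2_c52 LD3_c23)))))))))))))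
theorem f140654 : Led Lsl_at (LP (LK LD1_c11 LD2_c22 LD3_c33)) = (LP (LK LD1_c20 LD2_c20 LD3_c4)) :=
  Lre_a IH (LK LD1_c11 LD2_c22 LD3_c33) (LK LD1_c20 LD2_c20 LD3_c4) Lrfl Lrfl
theorem f706239 : Led Lsl_gt (LP (LK LD1_c16 LD2_c52 LD3_c23)) = (LP (LK LD1_c20 LD2_c20 LD3_c4)) :=
  Lgr Lrot46 (Lpe (f644563 IH) (Lpr_ft (f706230 IH) (Lpr_at (f140654 IH) (Lpn (LP (LK LD1_c20 LD2_c20 LD3_c4))))))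
theorem f621121 : Led Lsl_dt (LP (LK LD1_c9 LD2_c2 LD3_c9)) = (LP (LK LD1_c16 LD2_c52 LD3_c23)) :=
  Lre_d IH (LK LD1_c9 LD2_c2 LD3_c9) (LK LD1_c16 LD2_c52 LD3_c23) Lrfl Lrfl
theorem f398542 : Led Lsl_gt (LP (LK LD1_c4 LD2_c32 LD3_c15)) = (LP (LK LD1_c9 LD2_c2 LD3_c9)) :=
  Lre_g IH (LK LD1_c4 LD2_c32 LD3_c15) (LK LD1_c9 LD2_c2 LD3_c9) Lrfl Lrfl
theorem f639813 : Led Lsl_dt (LP (LK LD1_c11 LD2_c22 LD3_c24)) = (LP (LK LD1_c20 LD2_c20 LD3_c4)) :=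
  Lre_d IH (LK LD1_c11 LD2_c22 LD3_c24) (LK LD1_c20 LD2_c20 LD3_c4) Lrfl Lrfl
theorem f639806 : Led Lsl_et (LP (LK LD1_c11 LD2_c22 LD3_c24)) = (LP (LK LD1_c5 LD2_c46 LD3_c2)) :=
  Lre_e IH (LK LD1_c11 LD2_c22 LD3_c24) (LK LD1_c5 LD2_c46 LD3_c2) Lrfl Lrfl
def v12872 : LQ := Led Lsl_gf (LP (LK LD1_c4 LD2_c33 LD3_c44))
theorem f698725 : Led Lsl_gf (LP (LK LD1_c4 LD2_c33 LD3_c44)) = v12872 :=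
  Lrfl
theorem f640122 : Led Lsl_ft (LP (LK LD1_c5 LD2_c46 LD3_c4)) = (LP (LK LD1_c9 LD2_c5 LD3_c1)) :=
  Lgr Lrot48 (Lpr_ff (f639249 IH) (Lpn (LP (LK LD1_c9 LD2_c5 LD3_c1))))
theorem f140297 : Led Lsl_dt (LP (LK LD1_c9 LD2_c5 LD3_c1)) = (LP (LK LD1_c4 LD2_c33 LD3_c44)) :=
  Lre_d IH (LK LD1_c9 LD2_c5 LD3_c1) (LK LD1_c4 LD2_c33 LD3_c44) Lrfl Lrfl
theorem f640131 : Led Lsl_ff (LP (LK LD1_c2 LD2_c48 LD3_c46)) = (LP (LK LD1_c4 LD2_c33 LD3_c44)) :=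
  Lgr Lrot19 (Lpr_dt (K50.f140617 IH) (Lpr_ft (f640122 IH) (Lpr_dt (f140297 IH) (Lpn (LP (LK LD1_c4 LD2_c33 LD3_c44))))))
theorem f495949 : Led Lsl_at (LP (LK LD1_c2 LD2_c48 LD3_c46)) = (LP (LK LD1_c5 LD2_c46 LD3_c2)) :=
  Lre_a IH (LK LD1_c2 LD2_c48 LD3_c46) (LK LD1_c5 LD2_c46 LD3_c2) Lrfl Lrfl
theorem f640145 : Led Lsl_ft (LP (LK LD1_c5 LD2_c46 LD3_c2)) = (LP (LK LD1_c9 LD2_c4 LD3_c61)) :=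
  Lgr Lrot101 (Lpe (f495949 IH) (Lpr_ff (f640131 IH) (Lpe (f631694 IH) (Lpn (LP (LK LD1_c9 LD2_c4 LD3_c61))))))
theorem f698726 : Led Lsl_gt (LP (LK LD1_c5 LD2_c46 LD3_c2)) = v12872 :=
  Lgr Lrot5 (Lpr_ft (f640145 IH) (Lpr_at (f631694 IH) (Lpr_gf (f698725 IH) (Lpn v12872))))
theorem f706241 : (LP (LK LD1_c9 LD2_c2 LD3_c0)) = v12872 :=
  (Llr Lrot122 (Lpe (K39.f280522 IH) (Lpr_dt (K31.f181750 IH) (Lpr_gt (K31.f174474 IH) (Lpe (K31.f181741 IH) (Lpr_et (K16.f280297 IH) (Lpr_gt (f398542 IH) (Lpr_dt (f621121 IH) (Lpr_gt (f706239 IH) (Lpe (f639813 IH) (Lpr_et (f639806 IH) (Lpr_gt (f698726 IH) (Lpn v12872))))))))))))).symm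
theorem f698729 : Led Lsl_ef (LP (LK LD1_c4 LD2_c33 LD3_c44)) = v12873 :=
  Lgr Lrot88 (Lpr_et (f698727 IH) (Lpn v12873))
theorem f706244 : (LP (LK LD1_c6 LD2_c11 LD3_c57)) = v12873 :=
  (Llr Lrot170 (Lpr_dt (K50.f73054 IH) (Lpr_gt (K50.f73029 IH) (Lpe (K40.f73017 IH) (Lpe (K40.f73040 IH) (Lpe (K37.f542254 IH) (Lpr_dt (K16.f268874 IH) (Lpr_gt (K31.f280513 IH) (Lpe (K31.f181750 IH) (Lpr_et (K39.f280522 IH) (Lpqs (f706241 IH) (Lpe (f698725 IH) (Lpr_ef (f698729 IH) (Lpn v12873)))))))))))))).symm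
def v5245 : LQ := Led Lsl_at (LP (LK LD1_c3 LD2_c2 LD3_c30))
theorem f646779 : Led Lsl_at (LP (LK LD1_c3 LD2_c2 LD3_c30)) = v5245 :=
  Lrfl
theorem f646780 : Led Lsl_af (LP (LK LD1_c3 LD2_c2 LD3_c30)) = v5245 :=
  Lgr Lrot0 (Lpr_at (f646779 IH) (Lpn v5245))
theorem f646781 : Led Lsl_ft (LP (LK LD1_c3 LD2_c2 LD3_c31)) = v5245 :=
  Lgr Lrot2 (Lpr_gt (K50.f73029 IH) (Lpr_gt (K36.f73031 IH) (Lpr_af (f646780 IH) (Lpn v5245))))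
theorem f706255 : (LP (LK LD1_c6 LD2_c11 LD3_c50)) = v5245 :=
  (Llr Lrot78 (Lpr_dt (f73002 IH) (Lpr_ft (f706214 IH) (Lpq (f706244 IH) (Lpr_dt (K50.f73054 IH) (Lpr_ft (f646781 IH) (Lpn v5245))))))).symm
theorem f646782 : Led Lsl_ff (LP (LK LD1_c3 LD2_c2 LD3_c31)) = v5245 :=
  Lgr Lrot3 (Lpr_ft (f646781 IH) (Lpn v5245))
def v5248 : LQ := Led Lsl_ft (LP (LK LD1_c3 LD2_c2 LD3_c30))
theorem f646789 : Led Lsl_ft (LP (LK LD1_c3 LD2_c2 LD3_c30)) = v5248 :=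
  Lrfl
theorem f646791 : Led Lsl_ff (LP (LK LD1_c3 LD2_c2 LD3_c30)) = v5248 :=
  Lgr Lrot3 (Lpr_ft (f646789 IH) (Lpn v5248))
theorem f646792 : Led Lsl_at (LP (LK LD1_c3 LD2_c2 LD3_c31)) = v5248 :=
  Lgr Lrot66 (Lpr_ff (f646782 IH) (Lpe (f646779 IH) (Lpr_ff (f646791 IH) (Lpn v5248))))
theorem f79985 : Led Lsl_gt (LP (LK LD1_c6 LD2_c11 LD3_c50)) = (LP (LK LD1_c3 LD2_c2 LD3_c33)) :=
  Lre_g IH (LK LD1_c6 LD2_c11 LD3_c50) (LK LD1_c3 LD2_c2 LD3_c33) Lrfl Lrfl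
theorem f80009 : Led Lsl_gt (LP (LK LD1_c3 LD2_c2 LD3_c33)) = (LP (LK LD1_c6 LD2_c11 LD3_c51)) :=
  Lre_g IH (LK LD1_c3 LD2_c2 LD3_c33) (LK LD1_c6 LD2_c11 LD3_c51) Lrfl Lrfl
theorem f706260 : v5248 = (LP (LK LD1_c6 LD2_c11 LD3_c51)) :=
  (Llr Lrot26 (Lpe (f646792 IH) (Lpr_ff (f646782 IH) (Lpq (f706255 IH) (Lpr_gt (f79985 IH) (Lpr_gt (f80009 IH) (Lpn (LP (LK LD1_c6 LD2_c11 LD3_c51))))))))).symm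
theorem f73055 : Led Lsl_dt (LP (LK LD1_c6 LD2_c11 LD3_c53)) = (LP (LK LD1_c3 LD2_c2 LD3_c30)) :=
  Lre_d IH (LK LD1_c6 LD2_c11 LD3_c53) (LK LD1_c3 LD2_c2 LD3_c30) Lrfl Lrfl
theorem f61465 : Led Lsl_dt (LP (LK LD1_c6 LD2_c11 LD3_c51)) = (LP (LK LD1_c12 LD2_c3 LD3_c32)) :=
  Lre_d IH (LK LD1_c6 LD2_c11 LD3_c51) (LK LD1_c12 LD2_c3 LD3_c32) Lrfl Lrfl
theorem f706265 : Led Lsl_ff (LP (LK LD1_c6 LD2_c11 LD3_c53)) = (LP (LK LD1_c12 LD2_c3 LD3_c32)) :=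
  Lgr Lrot19 (Lpr_dt (f73055 IH) (Lpr_ft (f646789 IH) (Lpqs (f706260 IH) (Lpr_dt (f61465 IH) (Lpn (LP (LK LD1_c12 LD2_c3 LD3_c32)))))))
theorem f706273 : Led Lsl_ft (LP (LK LD1_c6 LD2_c11 LD3_c53)) = (LP (LK LD1_c12 LD2_c3 LD3_c32)) :=
  Lgr Lrot48 (Lpr_ff (f706265 IH) (Lpn (LP (LK LD1_c12 LD2_c3 LD3_c32))))
theorem f116923 : Led Lsl_et (LP (LK LD1_c12 LD2_c3 LD3_c36)) = (LP (LK LD1_c6 LD2_c11 LD3_c53)) :=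
  Lre_e IH (LK LD1_c12 LD2_c3 LD3_c36) (LK LD1_c6 LD2_c11 LD3_c53) Lrfl Lrfl
theorem f415879 : Led Lsl_ct (LP (LK LD1_c2 LD2_c48 LD3_c46)) = (LP (LK LD1_c5 LD2_c46 LD3_c3)) :=
  Lre_c IH (LK LD1_c2 LD2_c48 LD3_c46) (LK LD1_c5 LD2_c46 LD3_c3) Lrfl Lrfl
theorem f633051 : Led Lsl_ct (LP (LK LD1_c9 LD2_c5 LD3_c0)) = (LP (LK LD1_c4 LD2_c33 LD3_c44)) :=
  Lre_c IH (LK LD1_c9 LD2_c5 LD3_c0) (LK LD1_c4 LD2_c33 LD3_c44) Lrfl Lrfl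
theorem f640147 : Led Lsl_ft (LP (LK LD1_c5 LD2_c46 LD3_c3)) = (LP (LK LD1_c9 LD2_c5 LD3_c0)) :=
  Lgr Lrot4 (Lpe (f415879 IH) (Lpr_ff (f640131 IH) (Lpe (f633051 IH) (Lpn (LP (LK LD1_c9 LD2_c5 LD3_c0))))))
theorem f640167 : Led Lsl_ff (LP (LK LD1_c5 LD2_c46 LD3_c3)) = (LP (LK LD1_c9 LD2_c5 LD3_c0)) :=
  Lgr Lrot3 (Lpr_ft (f640147 IH) (Lpn (LP (LK LD1_c9 LD2_c5 LD3_c0))))
theorem f640169 : Led Lsl_at (LP (LK LD1_c5 LD2_c46 LD3_c3)) = (LP (LK LD1_c11 LD2_c22 LD3_c22)) :=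
  Lre_a IH (LK LD1_c5 LD2_c46 LD3_c3) (LK LD1_c11 LD2_c22 LD3_c22) Lrfl Lrfl
theorem f640170 : Led Lsl_at (LP (LK LD1_c16 LD2_c56 LD3_c55)) = (LP (LK LD1_c9 LD2_c5 LD3_c0)) :=
  Lre_a IH (LK LD1_c16 LD2_c56 LD3_c55) (LK LD1_c9 LD2_c5 LD3_c0) Lrfl Lrfl
theorem f640171 : Led Lsl_ft (LP (LK LD1_c11 LD2_c22 LD3_c22)) = (LP (LK LD1_c16 LD2_c56 LD3_c55)) :=
  Lgr Lrot101 (Lpe (f640169 IH) (Lpr_ff (f640167 IH) (Lpe (f640170 IH) (Lpn (LP (LK LD1_c16 LD2_c56 LD3_c55))))))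
theorem f639798 : Led Lsl_ct (LP (LK LD1_c5 LD2_c46 LD3_c2)) = (LP (LK LD1_c11 LD2_c22 LD3_c22)) :=
  Lre_c IH (LK LD1_c5 LD2_c46 LD3_c2) (LK LD1_c11 LD2_c22 LD3_c22) Lrfl Lrfl
theorem f640139 : Led Lsl_ct (LP (LK LD1_c16 LD2_c56 LD3_c55)) = (LP (LK LD1_c9 LD2_c4 LD3_c61)) :=
  Lre_c IH (LK LD1_c16 LD2_c56 LD3_c55) (LK LD1_c9 LD2_c4 LD3_c61) Lrfl Lrfl
theorem f640238 : Led Lsl_ff (LP (LK LD1_c5 LD2_c46 LD3_c2)) = (LP (LK LD1_c9 LD2_c4 LD3_c61)) :=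
  Lgr Lrot23 (Lpr_ct (f639798 IH) (Lpr_ft (f640171 IH) (Lpr_ct (f640139 IH) (Lpn (LP (LK LD1_c9 LD2_c4 LD3_c61))))))
theorem f639791 : Led Lsl_et (LP (LK LD1_c5 LD2_c46 LD3_c2)) = (LP (LK LD1_c11 LD2_c22 LD3_c24)) :=
  Lre_e IH (LK LD1_c5 LD2_c46 LD3_c2) (LK LD1_c11 LD2_c22 LD3_c24) Lrfl Lrfl
theorem f706279 : Led Lsl_ff (LP (LK LD1_c12 LD2_c3 LD3_c36)) = (LP (LK LD1_c11 LD2_c22 LD3_c24)) :=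
  Lgr Lrot72 (Lpr_et (f116923 IH) (Lpr_ft (f706273 IH) (Lpr_et (f706200 IH) (Lpe (f640238 IH) (Lpr_et (f639791 IH) (Lpn (LP (LK LD1_c11 LD2_c22 LD3_c24))))))))
theorem f116933 : Led Lsl_et (LP (LK LD1_c9 LD2_c3 LD3_c36)) = (LP (LK LD1_c16 LD2_c54 LD3_c45)) :=
  Lre_e IH (LK LD1_c9 LD2_c3 LD3_c36) (LK LD1_c16 LD2_c54 LD3_c45) Lrfl Lrfl
theorem f116919 : Led Lsl_et (LP (LK LD1_c3 LD2_c2 LD3_c30)) = (LP (LK LD1_c6 LD2_c11 LD3_c54)) :=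
  Lre_e IH (LK LD1_c3 LD2_c2 LD3_c30) (LK LD1_c6 LD2_c11 LD3_c54) Lrfl Lrfl
theorem f116934 : Led Lsl_dt (LP (LK LD1_c16 LD2_c54 LD3_c45)) = (LP (LK LD1_c12 LD2_c3 LD3_c36)) :=
  Lgr Lrot77 (Lpe (f116933 IH) (Lpr_df (K36.f116902 IH) (Lpe (f116919 IH) (Lpe (f73055 IH) (Lpe (f116923 IH) (Lpn (LP (LK LD1_c12 LD2_c3 LD3_c36))))))))
theorem f116944 : Led Lsl_df (LP (LK LD1_c16 LD2_c54 LD3_c45)) = (LP (LK LD1_c12 LD2_c3 LD3_c36)) :=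
  Lgr Lrot38 (Lpr_dt (f116934 IH) (Lpn (LP (LK LD1_c12 LD2_c3 LD3_c36))))
theorem f639790 : Led Lsl_dt (LP (LK LD1_c20 LD2_c20 LD3_c4)) = (LP (LK LD1_c11 LD2_c22 LD3_c24)) :=
  Lre_d IH (LK LD1_c20 LD2_c20 LD3_c4) (LK LD1_c11 LD2_c22 LD3_c24) Lrfl Lrfl
theorem f706285 : Led Lsl_ft (LP (LK LD1_c16 LD2_c54 LD3_c45)) = (LP (LK LD1_c20 LD2_c20 LD3_c4)) :=
  Lgr Lrot54 (Lpr_df (f116944 IH) (Lpr_ff (f706279 IH) (Lpe (f639790 IH) (Lpn (LP (LK LD1_c20 LD2_c20 LD3_c4))))))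
theorem f706289 : Led Lsl_ff (LP (LK LD1_c16 LD2_c54 LD3_c45)) = (LP (LK LD1_c20 LD2_c20 LD3_c4)) :=
  Lgr Lrot3 (Lpr_ft (f706285 IH) (Lpn (LP (LK LD1_c20 LD2_c20 LD3_c4))))
theorem f706295 : Led Lsl_at (LP (LK LD1_c16 LD2_c54 LD3_c45)) = (LP (LK LD1_c9 LD2_c4 LD3_c18)) :=
  Lgr Lrot66 (Lpr_ff (f706289 IH) (Lpe (f140654 IH) (Lpe (f706230 IH) (Lpn (LP (LK LD1_c9 LD2_c4 LD3_c18))))))
theorem f140673 : Led Lsl_et (LP (LK LD1_c2 LD2_c48 LD3_c46)) = (LP (LK LD1_c5 LD2_c46 LD3_c5)) :=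
  Lre_e IH (LK LD1_c2 LD2_c48 LD3_c46) (LK LD1_c5 LD2_c46 LD3_c5) Lrfl Lrfl
theorem f706217 : Led Lsl_ef (LP (LK LD1_c12 LD2_c3 LD3_c31)) = (LP (LK LD1_c11 LD2_c22 LD3_c34)) :=
  Lgr Lrot21 (Lpr_ft (f706214 IH) (Lpe (f698729 IH) (Lpe (f640131 IH) (Lpr_et (f140673 IH) (Lpr_ft (f640149 IH) (Lpn (LP (LK LD1_c11 LD2_c22 LD3_c34))))))))
theorem f281961 : Led Lsl_gt (LP (LK LD1_c11 LD2_c16 LD3_c14)) = (LP (LK LD1_c20 LD2_c10 LD3_c33)) :=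
  Lre_g IH (LK LD1_c11 LD2_c16 LD3_c14) (LK LD1_c20 LD2_c10 LD3_c33) Lrfl Lrfl
theorem f281953 : Led Lsl_dt (LP (LK LD1_c11 LD2_c15 LD3_c26)) = (LP (LK LD1_c20 LD2_c10 LD3_c33)) :=
  Lre_d IH (LK LD1_c11 LD2_c15 LD3_c26) (LK LD1_c20 LD2_c10 LD3_c33) Lrfl Lrfl
theorem f280316 : Led Lsl_et (LP (LK LD1_c11 LD2_c15 LD3_c26)) = (LP (LK LD1_c16 LD2_c52 LD3_c6)) :=
  Lgr Lrot123 (Lpe (K16.f268774 IH) (Lpr_ef (K16.f280299 IH) (Lpe (K16.f280315 IH) (Lpn (LP (LK LD1_c16 LD2_c52 LD3_c6))))))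
theorem f281845 : Led Lsl_gt (LP (LK LD1_c16 LD2_c52 LD3_c6)) = (LP (LK LD1_c9 LD2_c2 LD3_c10)) :=
  Lre_g IH (LK LD1_c16 LD2_c52 LD3_c6) (LK LD1_c9 LD2_c2 LD3_c10) Lrfl Lrfl
theorem f281846 : Led Lsl_dt (LP (LK LD1_c9 LD2_c2 LD3_c10)) = (LP (LK LD1_c16 LD2_c52 LD3_c25)) :=
  Lre_d IH (LK LD1_c9 LD2_c2 LD3_c10) (LK LD1_c16 LD2_c52 LD3_c25) Lrfl Lrfl
theorem f706232 : Led Lsl_gf (LP (LK LD1_c9 LD2_c4 LD3_c18)) = (LP (LK LD1_c16 LD2_c52 LD3_c25)) :=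
  Lgr Lrot134 (Lpr_df (f706224 IH) (Lpe (f706217 IH) (Lpr_gt (f700335 IH) (Lpe (f700288 IH) (Lpr_dt (f281962 IH) (Lpr_gt (f281961 IH) (Lpe (f281953 IH) (Lpr_et (f280316 IH) (Lpr_gt (f281845 IH) (Lpr_dt (f281846 IH) (Lpn (LP (LK LD1_c16 LD2_c52 LD3_c25)))))))))))))
theorem f706297 : Led Lsl_gf (LP (LK LD1_c16 LD2_c52 LD3_c25)) = (LP (LK LD1_c20 LD2_c20 LD3_c4)) :=
  Lgr Lrot47 (Lpe (f706232 IH) (Lpe (f706295 IH) (Lpr_ff (f706289 IH) (Lpn (LP (LK LD1_c20 LD2_c20 LD3_c4))))))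
theorem f542298 : Led Lsl_dt (LP (LK LD1_c16 LD2_c52 LD3_c25)) = (LP (LK LD1_c9 LD2_c2 LD3_c10)) :=
  Lre_d IH (LK LD1_c16 LD2_c52 LD3_c25) (LK LD1_c9 LD2_c2 LD3_c10) Lrfl Lrfl
theorem f542297 : Led Lsl_gt (LP (LK LD1_c9 LD2_c2 LD3_c10)) = (LP (LK LD1_c4 LD2_c32 LD3_c15)) :=
  Lre_g IH (LK LD1_c9 LD2_c2 LD3_c10) (LK LD1_c4 LD2_c32 LD3_c15) Lrfl Lrfl
theorem f542292 : Led Lsl_dt (LP (LK LD1_c9 LD2_c2 LD3_c11)) = (LP (LK LD1_c4 LD2_c32 LD3_c15)) :=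
  Lre_d IH (LK LD1_c9 LD2_c2 LD3_c11) (LK LD1_c4 LD2_c32 LD3_c15) Lrfl Lrfl
theorem f542294 : Led Lsl_et (LP (LK LD1_c9 LD2_c2 LD3_c11)) = (LP (LK LD1_c4 LD2_c32 LD3_c16)) :=
  Lre_e IH (LK LD1_c9 LD2_c2 LD3_c11) (LK LD1_c4 LD2_c32 LD3_c16) Lrfl Lrfl
theorem f494670 : Led Lsl_ef (LP (LK LD1_c1 LD2_c5 LD3_c47)) = K38.v1293 :=
  Lgr Lrot88 (Lpr_et (K38.f494669 IH) (Lpn K38.v1293))
theorem f542295 : Led Lsl_gf (LP (LK LD1_c2 LD2_c47 LD3_c0)) = (LP (LK LD1_c4 LD2_c32 LD3_c16)) :=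
  Lgr Lrot145 (Lpr_df (K39.f225931 IH) (Lpqs (K38.f537573 IH) (Lpe (f494670 IH) (Lpr_gt (K32.f210817 IH) (Lpe (K32.f69194 IH) (Lpe (K8.f160854 IH) (Lpe (K8.f35231 IH) (Lpr_et (K36.f494398 IH) (Lpq (K36.f542136 IH) (Lpr_gt (K31.f174474 IH) (Lpe (K16.f181730 IH) (Lpr_dt (K39.f181728 IH) (Lpn (LP (LK LD1_c4 LD2_c32 LD3_c16)))))))))))))))
theorem f289340 : Led Lsl_et (LP (LK LD1_c5 LD2_c42 LD3_c3)) = (LP (LK LD1_c2 LD2_c47 LD3_c0)) :=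
  Lre_e IH (LK LD1_c5 LD2_c42 LD3_c3) (LK LD1_c2 LD2_c47 LD3_c0) Lrfl Lrfl
theorem f618024 : Led Lsl_df (LP (LK LD1_c5 LD2_c57 LD3_c37)) = (LP (LK LD1_c5 LD2_c37 LD3_c22)) :=
  Lgr Lrot38 (Lpr_dt (K50.f560131 IH) (Lpn (LP (LK LD1_c5 LD2_c37 LD3_c22))))
theorem f425897 : Led Lsl_gt (LP (LK LD1_c11 LD2_c40 LD3_c12)) = (LP (LK LD1_c5 LD2_c57 LD3_c37)) :=
  Lre_g IH (LK LD1_c11 LD2_c40 LD3_c12) (LK LD1_c5 LD2_c57 LD3_c37) Lrfl Lrfl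
theorem f242713 : Led Lsl_et (LP (LK LD1_c5 LD2_c37 LD3_c22)) = (LP (LK LD1_c2 LD2_c44 LD3_c38)) :=
  Lre_e IH (LK LD1_c5 LD2_c37 LD3_c22) (LK LD1_c2 LD2_c44 LD3_c38) Lrfl Lrfl
theorem f382409 : Led Lsl_et (LP (LK LD1_c1 LD2_c20 LD3_c16)) = (LP (LK LD1_c2 LD2_c48 LD3_c2)) :=
  Lre_e IH (LK LD1_c1 LD2_c20 LD3_c16) (LK LD1_c2 LD2_c48 LD3_c2) Lrfl Lrfl
theorem f382410 : Led Lsl_gt (LP (LK LD1_c2 LD2_c48 LD3_c2)) = (LP (LK LD1_c5 LD2_c44 LD3_c7)) :=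
  Lre_g IH (LK LD1_c2 LD2_c48 LD3_c2) (LK LD1_c5 LD2_c44 LD3_c7) Lrfl Lrfl
theorem f382411 : Led Lsl_et (LP (LK LD1_c11 LD2_c18 LD3_c22)) = (LP (LK LD1_c5 LD2_c44 LD3_c7)) :=
  Lre_e IH (LK LD1_c11 LD2_c18 LD3_c22) (LK LD1_c5 LD2_c44 LD3_c7) Lrfl Lrfl
theorem f618030 : Led Lsl_df (LP (LK LD1_c11 LD2_c40 LD3_c12)) = (LP (LK LD1_c11 LD2_c18 LD3_c22)) :=
  Lgr Lrot170 (Lpr_gt (f425897 IH) (Lpr_df (f618024 IH) (Lpr_et (f242713 IH) (Lpe (K27.f382449 IH) (Lpr_dt (K27.f381642 IH) (Lpr_gt (K27.f381676 IH) (Lpe (K27.f40156 IH) (Lpr_et (f382409 IH) (Lpr_gt (f382410 IH) (Lpe (f382411 IH) (Lpn (LP (LK LD1_c11 LD2_c18 LD3_c22)))))))))))))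
theorem f150333 : Led Lsl_ft (LP (LK LD1_c11 LD2_c40 LD3_c37)) = (LP (LK LD1_c5 LD2_c57 LD3_c56)) :=
  Lre_f IH (LK LD1_c11 LD2_c40 LD3_c37) (LK LD1_c5 LD2_c57 LD3_c56) Lrfl Lrfl
theorem f496728 : Led Lsl_gt (LP (LK LD1_c11 LD2_c40 LD3_c37)) = (LP (LK LD1_c11 LD2_c40 LD3_c12)) :=
  Lgr Lrot5 (Lpr_ft (f150333 IH) (Lpr_at (K50.f496716 IH) (Lpe (f425897 IH) (Lpn (LP (LK LD1_c11 LD2_c40 LD3_c12))))))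
theorem f384010 : Led Lsl_gt (LP (LK LD1_c5 LD2_c44 LD3_c7)) = (LP (LK LD1_c2 LD2_c48 LD3_c17)) :=
  Lre_g IH (LK LD1_c5 LD2_c44 LD3_c7) (LK LD1_c2 LD2_c48 LD3_c17) Lrfl Lrfl
theorem f384009 : Led Lsl_dt (LP (LK LD1_c2 LD2_c48 LD3_c17)) = (LP (LK LD1_c1 LD2_c24 LD3_c11)) :=
  Lre_d IH (LK LD1_c2 LD2_c48 LD3_c17) (LK LD1_c1 LD2_c24 LD3_c11) Lrfl Lrfl
theorem f383996 : Led Lsl_dt (LP (LK LD1_c5 LD2_c59 LD3_c33)) = (LP (LK LD1_c2 LD2_c56 LD3_c6)) :=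
  Lre_d IH (LK LD1_c5 LD2_c59 LD3_c33) (LK LD1_c2 LD2_c56 LD3_c6) Lrfl Lrfl
theorem f383994 : Led Lsl_et (LP (LK LD1_c2 LD2_c48 LD3_c2)) = (LP (LK LD1_c1 LD2_c20 LD3_c16)) :=
  Lre_e IH (LK LD1_c2 LD2_c48 LD3_c2) (LK LD1_c1 LD2_c20 LD3_c16) Lrfl Lrfl
theorem f74621 : Led Lsl_dt (LP (LK LD1_c2 LD2_c48 LD3_c2)) = (LP (LK LD1_c1 LD2_c23 LD3_c60)) :=
  Lre_d IH (LK LD1_c2 LD2_c48 LD3_c2) (LK LD1_c1 LD2_c23 LD3_c60) Lrfl Lrfl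
theorem f383997 : Led Lsl_et (LP (LK LD1_c2 LD2_c47 LD3_c2)) = (LP (LK LD1_c5 LD2_c42 LD3_c9)) :=
  Lre_e IH (LK LD1_c2 LD2_c47 LD3_c2) (LK LD1_c5 LD2_c42 LD3_c9) Lrfl Lrfl
theorem f174255 : Led Lsl_gt (LP (LK LD1_c5 LD2_c42 LD3_c9)) = (LP (LK LD1_c11 LD2_c14 LD3_c33)) :=
  Lre_g IH (LK LD1_c5 LD2_c42 LD3_c9) (LK LD1_c11 LD2_c14 LD3_c33) Lrfl Lrfl
theorem f383998 : Led Lsl_et (LP (LK LD1_c5 LD2_c59 LD3_c33)) = (LP (LK LD1_c11 LD2_c14 LD3_c33)) :=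
  Lgr Lrot122 (Lpr_dt (f383996 IH) (Lpr_gt (K32.f383995 IH) (Lpe (f74621 IH) (Lpr_et (f383994 IH) (Lpr_gt (K39.f382408 IH) (Lpr_dt (K27.f383970 IH) (Lpr_gt (K27.f178970 IH) (Lpr_df (K27.f178950 IH) (Lpr_et (f383997 IH) (Lpr_gt (f174255 IH) (Lpn (LP (LK LD1_c11 LD2_c14 LD3_c33)))))))))))))
theorem f302438 : Led Lsl_gt (LP (LK LD1_c11 LD2_c14 LD3_c33)) = (LP (LK LD1_c20 LD2_c9 LD3_c31)) :=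
  Lre_g IH (LK LD1_c11 LD2_c14 LD3_c33) (LK LD1_c20 LD2_c9 LD3_c31) Lrfl Lrfl
theorem f618039 : Led Lsl_df (LP (LK LD1_c11 LD2_c40 LD3_c37)) = (LP (LK LD1_c11 LD2_c16 LD3_c60)) :=
  Lgr Lrot170 (Lpr_gt (f496728 IH) (Lpr_df (f618030 IH) (Lpr_et (f382411 IH) (Lpr_gt (f384010 IH) (Lpr_dt (f384009 IH) (Lpr_gt (K32.f384008 IH) (Lpe (f383996 IH) (Lpr_et (f383998 IH) (Lpr_gt (f302438 IH) (Lpe (K27.f381250 IH) (Lpn (LP (LK LD1_c11 LD2_c16 LD3_c60)))))))))))))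
theorem f618041 : Led Lsl_dt (LP (LK LD1_c11 LD2_c40 LD3_c37)) = (LP (LK LD1_c11 LD2_c16 LD3_c60)) :=
  Lgr Lrot42 (Lpr_df (f618039 IH) (Lpn (LP (LK LD1_c11 LD2_c16 LD3_c60))))
theorem f150326 : Led Lsl_bt (LP (LK LD1_c6 LD2_c25 LD3_c20)) = (LP (LK LD1_c11 LD2_c40 LD3_c37)) :=
  Lgr Lrot127 (Lpr_bf (K32.f150321 IH) (Lpn (LP (LK LD1_c11 LD2_c40 LD3_c37))))
theorem f618043 : Led Lsl_bf (LP (LK LD1_c12 LD2_c23 LD3_c34)) = (LP (LK LD1_c11 LD2_c16 LD3_c60)) :=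
  Lgr Lrot93 (Lpr_dt (K42.f150331 IH) (Lpr_bt (f150326 IH) (Lpr_dt (f618041 IH) (Lpn (LP (LK LD1_c11 LD2_c16 LD3_c60))))))
theorem f618045 : Led Lsl_bt (LP (LK LD1_c6 LD2_c25 LD3_c19)) = (LP (LK LD1_c5 LD2_c43 LD3_c27)) :=
  Lgr Lrot35 (Lpe (K42.f559980 IH) (Lpr_bf (f618043 IH) (Lpe (K27.f381249 IH) (Lpn (LP (LK LD1_c5 LD2_c43 LD3_c27))))))
theorem f618049 : Led Lsl_bf (LP (LK LD1_c6 LD2_c25 LD3_c19)) = (LP (LK LD1_c5 LD2_c43 LD3_c27)) :=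
  Lgr Lrot24 (Lpr_bt (f618045 IH) (Lpn (LP (LK LD1_c5 LD2_c43 LD3_c27))))
theorem f289243 : Led Lsl_bt (LP (LK LD1_c5 LD2_c42 LD3_c3)) = (LP (LK LD1_c2 LD2_c47 LD3_c1)) :=
  Lre_b IH (LK LD1_c5 LD2_c42 LD3_c3) (LK LD1_c2 LD2_c47 LD3_c1) Lrfl Lrfl
theorem f618053 : Led Lsl_at (LP (LK LD1_c6 LD2_c25 LD3_c19)) = (LP (LK LD1_c5 LD2_c42 LD3_c3)) :=
  Lgr Lrot67 (Lpr_bf (f618049 IH) (Lpr_af (K27.f381262 IH) (Lpe (K50.f242692 IH) (Lpr_af (K17.f289239 IH) (Lpe (f289243 IH) (Lpn (LP (LK LD1_c5 LD2_c42 LD3_c3))))))))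
theorem f116991 : Led Lsl_dt (LP (LK LD1_c3 LD2_c10 LD3_c18)) = (LP (LK LD1_c6 LD2_c25 LD3_c19)) :=
  Lre_d IH (LK LD1_c3 LD2_c10 LD3_c18) (LK LD1_c6 LD2_c25 LD3_c19) Lrfl Lrfl
theorem f496835 : Led Lsl_at (LP (LK LD1_c6 LD2_c25 LD3_c17)) = (LP (LK LD1_c5 LD2_c56 LD3_c31)) :=
  Lgr Lrot100 (Lpr_af (K32.f496829 IH) (Lpn (LP (LK LD1_c5 LD2_c56 LD3_c31))))
theorem f150298 : Led Lsl_ct (LP (LK LD1_c3 LD2_c10 LD3_c18)) = (LP (LK LD1_c6 LD2_c25 LD3_c17)) :=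
  Lre_c IH (LK LD1_c3 LD2_c10 LD3_c18) (LK LD1_c6 LD2_c25 LD3_c17) Lrfl Lrfl
theorem f141815 : Led Lsl_ct (LP (LK LD1_c5 LD2_c56 LD3_c31)) = (LP (LK LD1_c2 LD2_c54 LD3_c35)) :=
  Lre_c IH (LK LD1_c5 LD2_c56 LD3_c31) (LK LD1_c2 LD2_c54 LD3_c35) Lrfl Lrfl
theorem f499875 : Led Lsl_af (LP (LK LD1_c3 LD2_c10 LD3_c18)) = (LP (LK LD1_c2 LD2_c54 LD3_c35)) :=
  Lgr Lrot68 (Lpr_ct (f150298 IH) (Lpr_at (f496835 IH) (Lpr_ct (f141815 IH) (Lpn (LP (LK LD1_c2 LD2_c54 LD3_c35))))))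
theorem f618058 : Led Lsl_df (LP (LK LD1_c2 LD2_c54 LD3_c35)) = (LP (LK LD1_c5 LD2_c42 LD3_c3)) :=
  Lgr Lrot18 (Lpe (f499875 IH) (Lpr_dt (f116991 IH) (Lpr_at (f618053 IH) (Lpn (LP (LK LD1_c5 LD2_c42 LD3_c3))))))
theorem f141869 : Led Lsl_dt (LP (LK LD1_c11 LD2_c38 LD3_c24)) = (LP (LK LD1_c5 LD2_c56 LD3_c32)) :=
  Lre_d IH (LK LD1_c11 LD2_c38 LD3_c24) (LK LD1_c5 LD2_c56 LD3_c32) Lrfl Lrfl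
theorem f706300 : Led Lsl_et (LP (LK LD1_c11 LD2_c38 LD3_c24)) = (LP (LK LD1_c20 LD2_c20 LD3_c4)) :=
  Lgr Lrot121 (Lpr_dt (f141869 IH) (Lpe (K50.f141816 IH) (Lpr_df (f618058 IH) (Lpr_et (f289340 IH) (Lpr_gf (f542295 IH) (Lpe (f542294 IH) (Lpr_dt (f542292 IH) (Lpe (f542297 IH) (Lpe (f542298 IH) (Lpr_gf (f706297 IH) (Lpn (LP (LK LD1_c20 LD2_c20 LD3_c4)))))))))))))
theorem f141860 : Led Lsl_dt (LP (LK LD1_c5 LD2_c56 LD3_c32)) = (LP (LK LD1_c11 LD2_c38 LD3_c24)) :=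
  Lre_d IH (LK LD1_c5 LD2_c56 LD3_c32) (LK LD1_c11 LD2_c38 LD3_c24) Lrfl Lrfl
theorem f639801 : Led Lsl_dt (LP (LK LD1_c5 LD2_c46 LD3_c2)) = (LP (LK LD1_c11 LD2_c22 LD3_c23)) :=
  Lre_d IH (LK LD1_c5 LD2_c46 LD3_c2) (LK LD1_c11 LD2_c22 LD3_c23) Lrfl Lrfl
theorem f140645 : Led Lsl_at (LP (LK LD1_c11 LD2_c22 LD3_c23)) = (LP (LK LD1_c5 LD2_c46 LD3_c4)) :=
  Lre_a IH (LK LD1_c11 LD2_c22 LD3_c23) (LK LD1_c5 LD2_c46 LD3_c4) Lrfl Lrfl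
theorem f646801 : Led Lsl_ef (LP (LK LD1_c11 LD2_c22 LD3_c23)) = K50.v5251 :=
  Lgr Lrot20 (Lpr_at (f140645 IH) (Lpr_et (K38.f140640 IH) (Lpr_at (K50.f646799 IH) (Lpn K50.v5251))))
theorem f646802 : Led Lsl_et (LP (LK LD1_c11 LD2_c22 LD3_c23)) = K50.v5251 :=
  Lgr Lrot87 (Lpr_ef (f646801 IH) (Lpn K50.v5251))
theorem f706306 : (LP (LK LD1_c5 LD2_c56 LD3_c32)) = K50.v5251 :=
  (Llr Lrot70 (Lpr_dt (f141860 IH) (Lpr_et (f706300 IH) (Lpr_dt (f639790 IH) (Lpr_et (f639806 IH) (Lpr_dt (f639801 IH) (Lpr_et (f646802 IH) (Lpn K50.v5251)))))))).symm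
theorem f706312 : K50.v13171 = (LP (LK LD1_c2 LD2_c54 LD3_c35)) :=
  Lefun (Lecon (K50.f701509 IH) (f706306 IH).symm) (Lfl_gt (K50.f141816 IH))
theorem f141854 : Led Lsl_et (LP (LK LD1_c1 LD2_c23 LD3_c14)) = (LP (LK LD1_c2 LD2_c54 LD3_c35)) :=
  Lre_e IH (LK LD1_c1 LD2_c23 LD3_c14) (LK LD1_c2 LD2_c54 LD3_c35) Lrfl Lrfl
theorem f69256 : Led Lsl_et (LP (LK LD1_c1 LD2_c24 LD3_c22)) = (LP (LK LD1_c2 LD2_c57 LD3_c13)) :=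
  Lre_e IH (LK LD1_c1 LD2_c24 LD3_c22) (LK LD1_c2 LD2_c57 LD3_c13) Lrfl Lrfl
theorem f435594 : Led Lsl_gt (LP (LK LD1_c11 LD2_c35 LD3_c59)) = (LP (LK LD1_c5 LD2_c55 LD3_c13)) :=
  Lre_g IH (LK LD1_c11 LD2_c35 LD3_c59) (LK LD1_c5 LD2_c55 LD3_c13) Lrfl Lrfl
theorem f614916 : Led Lsl_ft (LP (LK LD1_c11 LD2_c48 LD3_c54)) = (LP (LK LD1_c6 LD2_c2 LD3_c31)) :=
  Lgr Lrot54 (Lpe (K45.f69258 IH) (Lpr_ff (K45.f614912 IH) (Lpe (K45.f500978 IH) (Lpn (LP (LK LD1_c6 LD2_c2 LD3_c31))))))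
theorem f614944 : Led Lsl_gf (LP (LK LD1_c11 LD2_c35 LD3_c59)) = (LP (LK LD1_c11 LD2_c48 LD3_c54)) :=
  Lgr Lrot47 (Lpr_gt (f435594 IH) (Lpr_af (K50.f614942 IH) (Lpe (f614916 IH) (Lpn (LP (LK LD1_c11 LD2_c48 LD3_c54))))))
theorem f706317 : Led Lsl_dt (LP (LK LD1_c9 LD2_c17 LD3_c23)) = (LP (LK LD1_c11 LD2_c35 LD3_c59)) :=
  Lgr Lrot56 (Lpr_et (K50.f639705 IH) (Lpr_gt (K50.f701508 IH) (Lpqs (f706312 IH) (Lpe (f141854 IH) (Lpr_dt (K8.f141852 IH) (Lpr_gt (K32.f210817 IH) (Lpe (K8.f69237 IH) (Lpr_et (f69256 IH) (Lpr_gt (K45.f69257 IH) (Lpr_dt (K45.f69258 IH) (Lpe (f614944 IH) (Lpn (LP (LK LD1_c11 LD2_c35 LD3_c59))))))))))))))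
theorem f639711 : Led Lsl_et (LP (LK LD1_c4 LD2_c40 LD3_c57)) = (LP (LK LD1_c9 LD2_c17 LD3_c23)) :=
  Lre_e IH (LK LD1_c4 LD2_c40 LD3_c57) (LK LD1_c9 LD2_c17 LD3_c23) Lrfl Lrfl
theorem f494175 : Led Lsl_gt (LP (LK LD1_c4 LD2_c33 LD3_c9)) = (LP (LK LD1_c9 LD2_c3 LD3_c35)) :=
  Lre_g IH (LK LD1_c4 LD2_c33 LD3_c9) (LK LD1_c9 LD2_c3 LD3_c35) Lrfl Lrfl
theorem f509244 : Led Lsl_dt (LP (LK LD1_c16 LD2_c54 LD3_c42)) = (LP (LK LD1_c9 LD2_c3 LD3_c35)) :=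
  Lre_d IH (LK LD1_c16 LD2_c54 LD3_c42) (LK LD1_c9 LD2_c3 LD3_c35) Lrfl Lrfl
theorem f614977 : Led Lsl_et (LP (LK LD1_c16 LD2_c54 LD3_c42)) = (LP (LK LD1_c11 LD2_c35 LD3_c59)) :=
  Lgr Lrot121 (Lpr_dt (f509244 IH) (Lpe (f494175 IH) (Lpe (K36.f116901 IH) (Lpr_et (K36.f116900 IH) (Lpe (K4.f40100 IH) (Lpe (K49.f142129 IH) (Lpr_dt (K45.f509242 IH) (Lpqs (K45.f557974 IH) (Lpe (K45.f69259 IH) (Lpr_df (K49.f614894 IH) (Lpe (f435594 IH) (Lpn (LP (LK LD1_c11 LD2_c35 LD3_c59))))))))))))))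
theorem f614982 : Led Lsl_ef (LP (LK LD1_c16 LD2_c54 LD3_c42)) = (LP (LK LD1_c11 LD2_c35 LD3_c59)) :=
  Lgr Lrot88 (Lpr_et (f614977 IH) (Lpn (LP (LK LD1_c11 LD2_c35 LD3_c59))))
theorem f706323 : Led Lsl_ef (LP (LK LD1_c9 LD2_c17 LD3_c22)) = (LP (LK LD1_c9 LD2_c3 LD3_c35)) :=
  Lgr Lrot73 (Lpr_dt (K50.f639700 IH) (Lpr_et (f639711 IH) (Lpr_dt (f706317 IH) (Lpe (f614982 IH) (Lpr_dt (f509244 IH) (Lpn (LP (LK LD1_c9 LD2_c3 LD3_c35))))))))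
def v12846 : LQ := Led Lsl_at (LP (LK LD1_c4 LD2_c33 LD3_c21))
theorem f698551 : Led Lsl_at (LP (LK LD1_c4 LD2_c33 LD3_c21)) = v12846 :=
  Lrfl
theorem f698552 : Led Lsl_af (LP (LK LD1_c4 LD2_c33 LD3_c21)) = v12846 :=
  Lgr Lrot0 (Lpr_at (f698551 IH) (Lpn v12846))
theorem f416270 : Led Lsl_gt (LP (LK LD1_c2 LD2_c13 LD3_c36)) = (LP (LK LD1_c4 LD2_c33 LD3_c21)) :=
  Lre_g IH (LK LD1_c2 LD2_c13 LD3_c36) (LK LD1_c4 LD2_c33 LD3_c21) Lrfl Lrfl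
theorem f698554 : Led Lsl_ft (LP (LK LD1_c4 LD2_c33 LD3_c22)) = v12846 :=
  Lgr Lrot2 (Lpr_gt (f79972 IH) (Lpr_gt (f416270 IH) (Lpr_af (f698552 IH) (Lpn v12846))))
theorem f698555 : Led Lsl_ff (LP (LK LD1_c4 LD2_c33 LD3_c22)) = v12846 :=
  Lgr Lrot3 (Lpr_ft (f698554 IH) (Lpn v12846))
theorem f706236 : Led Lsl_ef v12846 = (LP (LK LD1_c9 LD2_c17 LD3_c22)) :=
  Lgr Lrot21 (Lpe (f698555 IH) (Lpr_et (f80022 IH) (Lpr_ft (f706230 IH) (Lpr_et (K50.f140662 IH) (Lpr_ft (K50.f639696 IH) (Lpn (LP (LK LD1_c9 LD2_c17 LD3_c22))))))))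
theorem f706331 : v12846 = (LP (LK LD1_c9 LD2_c3 LD3_c35)) :=
  (Llr Lrot87 (Lpr_ef (f706236 IH) (Lpr_ef (f706323 IH) (Lpn (LP (LK LD1_c9 LD2_c3 LD3_c35)))))).symm
theorem f494176 : Led Lsl_dt (LP (LK LD1_c9 LD2_c3 LD3_c35)) = (LP (LK LD1_c16 LD2_c54 LD3_c42)) :=
  Lre_d IH (LK LD1_c9 LD2_c3 LD3_c35) (LK LD1_c16 LD2_c54 LD3_c42) Lrfl Lrfl
theorem f706339 : Led Lsl_ff (LP (LK LD1_c9 LD2_c4 LD3_c17)) = (LP (LK LD1_c16 LD2_c54 LD3_c42)) :=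
  Lgr Lrot19 (Lpr_dt (f79973 IH) (Lpr_ft (f698554 IH) (Lpqs (f706331 IH) (Lpr_dt (f494176 IH) (Lpn (LP (LK LD1_c16 LD2_c54 LD3_c42)))))))
theorem f642659 : Led Lsl_af (LP (LK LD1_c6 LD2_c3 LD3_c0)) = (LP (LK LD1_c9 LD2_c12 LD3_c21)) :=
  Lgr Lrot0 (Lpr_at (K45.f642657 IH) (Lpn (LP (LK LD1_c9 LD2_c12 LD3_c21))))
theorem f644471 : Led Lsl_af (LP (LK LD1_c16 LD2_c54 LD3_c13)) = (LP (LK LD1_c9 LD2_c12 LD3_c22)) :=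
  Lgr Lrot45 (Lpr_ft (K45.f644443 IH) (Lpe (f642659 IH) (Lpr_ft (K45.f642676 IH) (Lpn (LP (LK LD1_c9 LD2_c12 LD3_c22))))))
theorem f642674 : Led Lsl_dt (LP (LK LD1_c11 LD2_c22 LD3_c19)) = (LP (LK LD1_c9 LD2_c12 LD3_c22)) :=
  Lgr Lrot60 (Lpr_ff (K45.f507081 IH) (Lpe (K46.f507614 IH) (Lpr_ff (K45.f642667 IH) (Lpn (LP (LK LD1_c9 LD2_c12 LD3_c22))))))
theorem f644777 : Led Lsl_at (LP (LK LD1_c16 LD2_c55 LD3_c45)) = (LP (LK LD1_c11 LD2_c22 LD3_c19)) :=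
  Lgr Lrot51 (Lpe (K45.f140547 IH) (Lpr_af (f644471 IH) (Lpe (f642674 IH) (Lpn (LP (LK LD1_c11 LD2_c22 LD3_c19))))))
theorem f644408 : Led Lsl_ff (LP (LK LD1_c16 LD2_c55 LD3_c45)) = (LP (LK LD1_c9 LD2_c10 LD3_c46)) :=
  Lgr Lrot23 (Lpr_ct (K45.f140535 IH) (Lpr_ft (K45.f644401 IH) (Lpr_ct (K45.f642587 IH) (Lpn (LP (LK LD1_c9 LD2_c10 LD3_c46))))))
theorem f100007 : Led Lsl_et (LP (LK LD1_c1 LD2_c35 LD3_c26)) = (LP (LK LD1_c3 LD2_c17 LD3_c49)) :=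
  Lre_e IH (LK LD1_c1 LD2_c35 LD3_c26) (LK LD1_c3 LD2_c17 LD3_c49) Lrfl Lrfl
theorem f100008 : Led Lsl_gt (LP (LK LD1_c6 LD2_c39 LD3_c8)) = (LP (LK LD1_c3 LD2_c17 LD3_c49)) :=
  Lre_g IH (LK LD1_c6 LD2_c39 LD3_c8) (LK LD1_c3 LD2_c17 LD3_c49) Lrfl Lrfl
theorem f100009 : Led Lsl_et (LP (LK LD1_c12 LD2_c43 LD3_c61)) = (LP (LK LD1_c6 LD2_c39 LD3_c8)) :=
  Lre_e IH (LK LD1_c12 LD2_c43 LD3_c61) (LK LD1_c6 LD2_c39 LD3_c8) Lrfl Lrfl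
theorem f100010 : Led Lsl_dt (LP (LK LD1_c12 LD2_c43 LD3_c61)) = (LP (LK LD1_c21 LD2_c51 LD3_c12)) :=
  Lre_d IH (LK LD1_c12 LD2_c43 LD3_c61) (LK LD1_c21 LD2_c51 LD3_c12) Lrfl Lrfl
theorem f504758 : Led Lsl_dt (LP (LK LD1_c9 LD2_c9 LD3_c7)) = (LP (LK LD1_c17 LD2_c2 LD3_c11)) :=
  Lre_d IH (LK LD1_c9 LD2_c9 LD3_c7) (LK LD1_c17 LD2_c2 LD3_c11) Lrfl Lrfl
theorem f642843 : Led Lsl_gf (LP (LK LD1_c21 LD2_c51 LD3_c12)) = (LP (LK LD1_c17 LD2_c2 LD3_c11)) :=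
  Lgr Lrot134 (Lpe (f100010 IH) (Lpr_et (f100009 IH) (Lpr_gt (f100008 IH) (Lpe (f100007 IH) (Lpr_dt (K6.f80096 IH) (Lpr_gt (K6.f15594 IH) (Lpr_df (K6.f99944 IH) (Lpr_et (K45.f99993 IH) (Lpr_gt (K50.f642556 IH) (Lpr_dt (f504758 IH) (Lpn (LP (LK LD1_c17 LD2_c2 LD3_c11)))))))))))))
theorem f500600 : Led Lsl_dt (LP (LK LD1_c11 LD2_c39 LD3_c58)) = (LP (LK LD1_c5 LD2_c57 LD3_c20)) :=
  Lre_d IH (LK LD1_c11 LD2_c39 LD3_c58) (LK LD1_c5 LD2_c57 LD3_c20) Lrfl Lrfl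
theorem f507563 : Led Lsl_ff (LP (LK LD1_c11 LD2_c39 LD3_c58)) = (LP (LK LD1_c17 LD2_c2 LD3_c11)) :=
  Lgr Lrot19 (Lpr_dt (f500600 IH) (Lpr_ft (K45.f507558 IH) (Lpr_dt (f504758 IH) (Lpn (LP (LK LD1_c17 LD2_c2 LD3_c11))))))
theorem f82951 : Led Lsl_dt (LP (LK LD1_c5 LD2_c57 LD3_c20)) = (LP (LK LD1_c11 LD2_c39 LD3_c58)) :=
  Lre_d IH (LK LD1_c5 LD2_c57 LD3_c20) (LK LD1_c11 LD2_c39 LD3_c58) Lrfl Lrfl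
theorem f100013 : Led Lsl_dt (LP (LK LD1_c17 LD2_c3 LD3_c61)) = (LP (LK LD1_c9 LD2_c10 LD3_c44)) :=
  Lre_d IH (LK LD1_c17 LD2_c3 LD3_c61) (LK LD1_c9 LD2_c10 LD3_c44) Lrfl Lrfl
theorem f642580 : Led Lsl_at (LP (LK LD1_c11 LD2_c39 LD3_c58)) = (LP (LK LD1_c17 LD2_c3 LD3_c61)) :=
  Lgr Lrot51 (Lpe (f82951 IH) (Lpr_af (K45.f642574 IH) (Lpe (f100013 IH) (Lpn (LP (LK LD1_c17 LD2_c3 LD3_c61))))))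
theorem f642864 : Led Lsl_gt (LP (LK LD1_c21 LD2_c51 LD3_c12)) = (LP (LK LD1_c17 LD2_c3 LD3_c61)) :=
  Lgr Lrot46 (Lpr_gf (f642843 IH) (Lpe (f507563 IH) (Lpr_at (f642580 IH) (Lpn (LP (LK LD1_c17 LD2_c3 LD3_c61))))))
theorem f510411 : Led Lsl_gt (LP (LK LD1_c3 LD2_c17 LD3_c57)) = (LP (LK LD1_c6 LD2_c39 LD3_c8)) :=
  Lre_g IH (LK LD1_c3 LD2_c17 LD3_c57) (LK LD1_c6 LD2_c39 LD3_c8) Lrfl Lrfl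
theorem f100370 : Led Lsl_et (LP (LK LD1_c4 LD2_c38 LD3_c14)) = (LP (LK LD1_c3 LD2_c17 LD3_c57)) :=
  Lre_e IH (LK LD1_c4 LD2_c38 LD3_c14) (LK LD1_c3 LD2_c17 LD3_c57) Lrfl Lrfl
theorem f100371 : Led Lsl_dt (LP (LK LD1_c4 LD2_c38 LD3_c14)) = (LP (LK LD1_c9 LD2_c12 LD3_c11)) :=
  Lre_d IH (LK LD1_c4 LD2_c38 LD3_c14) (LK LD1_c9 LD2_c12 LD3_c11) Lrfl Lrfl
theorem f642869 : Led Lsl_gt (LP (LK LD1_c17 LD2_c4 LD3_c26)) = (LP (LK LD1_c9 LD2_c12 LD3_c11)) :=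
  Lre_g IH (LK LD1_c17 LD2_c4 LD3_c26) (LK LD1_c9 LD2_c12 LD3_c11) Lrfl Lrfl
theorem f100015 : Led Lsl_dt (LP (LK LD1_c9 LD2_c10 LD3_c44)) = (LP (LK LD1_c17 LD2_c3 LD3_c61)) :=
  Lre_d IH (LK LD1_c9 LD2_c10 LD3_c44) (LK LD1_c17 LD2_c3 LD3_c61) Lrfl Lrfl
theorem f642577 : Led Lsl_et (LP (LK LD1_c9 LD2_c10 LD3_c44)) = (LP (LK LD1_c17 LD2_c4 LD3_c0)) :=
  Lre_e IH (LK LD1_c9 LD2_c10 LD3_c44) (LK LD1_c17 LD2_c4 LD3_c0) Lrfl Lrfl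
theorem f642649 : Led Lsl_gt (LP (LK LD1_c17 LD2_c4 LD3_c0)) = (LP (LK LD1_c26 LD2_c58 LD3_c26)) :=
  Lre_g IH (LK LD1_c17 LD2_c4 LD3_c0) (LK LD1_c26 LD2_c58 LD3_c26) Lrfl Lrfl
theorem f642870 : Led Lsl_df (LP (LK LD1_c17 LD2_c4 LD3_c26)) = (LP (LK LD1_c26 LD2_c58 LD3_c26)) :=
  Lgr Lrot135 (Lpr_gt (f642869 IH) (Lpe (f100371 IH) (Lpr_et (f100370 IH) (Lpr_gt (f510411 IH) (Lpe (f100009 IH) (Lpr_dt (f100010 IH) (Lpr_gt (f642864 IH) (Lpe (f100015 IH) (Lpr_et (f642577 IH) (Lpr_gt (f642649 IH) (Lpn (LP (LK LD1_c26 LD2_c58 LD3_c26)))))))))))))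
theorem f642875 : Led Lsl_dt (LP (LK LD1_c9 LD2_c12 LD3_c11)) = (LP (LK LD1_c4 LD2_c38 LD3_c14)) :=
  Lre_d IH (LK LD1_c9 LD2_c12 LD3_c11) (LK LD1_c4 LD2_c38 LD3_c14) Lrfl Lrfl
theorem f415833 : Led Lsl_ct (LP (LK LD1_c4 LD2_c38 LD3_c14)) = (LP (LK LD1_c2 LD2_c16 LD3_c14)) :=
  Lre_c IH (LK LD1_c4 LD2_c38 LD3_c14) (LK LD1_c2 LD2_c16 LD3_c14) Lrfl Lrfl
theorem f415835 : Led Lsl_dt (LP (LK LD1_c4 LD2_c33 LD3_c23)) = (LP (LK LD1_c2 LD2_c16 LD3_c14)) :=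
  Lre_d IH (LK LD1_c4 LD2_c33 LD3_c23) (LK LD1_c2 LD2_c16 LD3_c14) Lrfl Lrfl
theorem f444610 : Led Lsl_gt (LP (LK LD1_c9 LD2_c3 LD3_c35)) = (LP (LK LD1_c4 LD2_c33 LD3_c23)) :=
  Lre_g IH (LK LD1_c9 LD2_c3 LD3_c35) (LK LD1_c4 LD2_c33 LD3_c23) Lrfl Lrfl
theorem f642876 : Led Lsl_gf (LP (LK LD1_c16 LD2_c54 LD3_c42)) = (LP (LK LD1_c9 LD2_c10 LD3_c46)) :=
  Lgr Lrot144 (Lpr_dt (f509244 IH) (Lpr_gt (f444610 IH) (Lpr_dt (f415835 IH) (Lpe (f415833 IH) (Lpe (f642875 IH) (Lpe (f642869 IH) (Lpr_df (f642870 IH) (Lpe (f642649 IH) (Lpe (K45.f642592 IH) (Lpn (LP (LK LD1_c9 LD2_c10 LD3_c46))))))))))))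
theorem f644779 : Led Lsl_gt (LP (LK LD1_c16 LD2_c54 LD3_c42)) = (LP (LK LD1_c11 LD2_c22 LD3_c19)) :=
  Lgr Lrot46 (Lpr_gf (f642876 IH) (Lpe (f644408 IH) (Lpr_at (f644777 IH) (Lpn (LP (LK LD1_c11 LD2_c22 LD3_c19))))))
theorem f444654 : Led Lsl_dt (LP (LK LD1_c11 LD2_c48 LD3_c47)) = (LP (LK LD1_c6 LD2_c2 LD3_c8)) :=
  Lre_d IH (LK LD1_c11 LD2_c48 LD3_c47) (LK LD1_c6 LD2_c2 LD3_c8) Lrfl Lrfl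
theorem f644690 : Led Lsl_gt (LP (LK LD1_c11 LD2_c22 LD3_c19)) = (LP (LK LD1_c6 LD2_c11 LD3_c54)) :=
  Lgr Lrot137 (Lpe (K45.f444649 IH) (Lpr_dt (f444654 IH) (Lpr_gf (K46.f644685 IH) (Lpe (K46.f116918 IH) (Lpr_et (K46.f116896 IH) (Lpe (K6.f96652 IH) (Lpe (K36.f116900 IH) (Lpr_dt (K36.f116901 IH) (Lpe (K36.f116885 IH) (Lpr_df (K36.f116902 IH) (Lpn (LP (LK LD1_c6 LD2_c11 LD3_c54)))))))))))))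
theorem f706345 : Led Lsl_at (LP (LK LD1_c9 LD2_c4 LD3_c17)) = (LP (LK LD1_c6 LD2_c11 LD3_c54)) :=
  Lgr Lrot26 (Lpr_ff (f706339 IH) (Lpr_gt (f644779 IH) (Lpr_gt (f644690 IH) (Lpn (LP (LK LD1_c6 LD2_c11 LD3_c54))))))
def v12847 : LQ := Led Lsl_ft (LP (LK LD1_c4 LD2_c33 LD3_c21))
theorem f698557 : Led Lsl_ft (LP (LK LD1_c4 LD2_c33 LD3_c21)) = v12847 :=
  Lrfl
theorem f698558 : Led Lsl_af (LP (LK LD1_c4 LD2_c33 LD3_c22)) = v12847 :=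
  Lgr Lrot45 (Lpr_ft (f698554 IH) (Lpe (f698552 IH) (Lpr_ft (f698557 IH) (Lpn v12847))))
theorem f706349 : v12847 = (LP (LK LD1_c9 LD2_c3 LD3_c36)) :=
  (Llr Lrot117 (Lpe (f698558 IH) (Lpr_dt (f79981 IH) (Lpr_at (f706345 IH) (Lpe (K36.f116902 IH) (Lpn (LP (LK LD1_c9 LD2_c3 LD3_c36)))))))).symm
theorem f140544 : Led Lsl_dt (LP (LK LD1_c9 LD2_c4 LD3_c13)) = (LP (LK LD1_c4 LD2_c33 LD3_c21)) :=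
  Lre_d IH (LK LD1_c9 LD2_c4 LD3_c13) (LK LD1_c4 LD2_c33 LD3_c21) Lrfl Lrfl
theorem f116931 : Led Lsl_dt (LP (LK LD1_c9 LD2_c3 LD3_c36)) = (LP (LK LD1_c6 LD2_c11 LD3_c54)) :=
  Lgr Lrot42 (Lpr_df (K36.f116902 IH) (Lpn (LP (LK LD1_c6 LD2_c11 LD3_c54))))
theorem f706358 : Led Lsl_ff (LP (LK LD1_c9 LD2_c4 LD3_c13)) = (LP (LK LD1_c6 LD2_c11 LD3_c54)) :=
  Lgr Lrot19 (Lpr_dt (f140544 IH) (Lpr_ft (f698557 IH) (Lpqs (f706349 IH) (Lpr_dt (f116931 IH) (Lpn (LP (LK LD1_c6 LD2_c11 LD3_c54)))))))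
theorem f706474 : Led Lsl_ft (LP (LK LD1_c9 LD2_c4 LD3_c13)) = (LP (LK LD1_c6 LD2_c11 LD3_c54)) :=
  Lgr Lrot48 (Lpr_ff (f706358 IH) (Lpn (LP (LK LD1_c6 LD2_c11 LD3_c54))))
theorem f69215 : Led Lsl_gt (LP (LK LD1_c6 LD2_c2 LD3_c28)) = (LP (LK LD1_c11 LD2_c49 LD3_c17)) :=
  Lre_g IH (LK LD1_c6 LD2_c2 LD3_c28) (LK LD1_c11 LD2_c49 LD3_c17) Lrfl Lrfl
theorem f614946 : Led Lsl_gt (LP (LK LD1_c11 LD2_c49 LD3_c17)) = (LP (LK LD1_c6 LD2_c2 LD3_c31)) :=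
  Lgr Lrot46 (Lpe (f69215 IH) (Lpr_ft (K45.f614610 IH) (Lpr_at (K45.f614925 IH) (Lpn (LP (LK LD1_c6 LD2_c2 LD3_c31))))))
theorem f614948 : Led Lsl_ef (LP (LK LD1_c11 LD2_c49 LD3_c17)) = (LP (LK LD1_c9 LD2_c4 LD3_c13)) :=
  Lgr Lrot167 (Lpr_gt (f614946 IH) (Lpr_dt (K45.f500978 IH) (Lpr_gt (K45.f69223 IH) (Lpr_df (K35.f500976 IH) (Lpqs (K35.f538049 IH) (Lpr_et (K35.f207320 IH) (Lpr_gt (K7.f58856 IH) (Lpe (f79970 IH) (Lpr_dt (K45.f79971 IH) (Lpr_gt (f416270 IH) (Lpe (f140544 IH) (Lpn (LP (LK LD1_c9 LD2_c4 LD3_c13))))))))))))))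
theorem f614952 : Led Lsl_et (LP (LK LD1_c11 LD2_c49 LD3_c17)) = (LP (LK LD1_c9 LD2_c4 LD3_c13)) :=
  Lgr Lrot87 (Lpr_ef (f614948 IH) (Lpn (LP (LK LD1_c9 LD2_c4 LD3_c13))))
theorem f116899 : Led Lsl_et (LP (LK LD1_c0 LD2_c44 LD3_c45)) = (LP (LK LD1_c1 LD2_c36 LD3_c36)) :=
  Lre_e IH (LK LD1_c0 LD2_c44 LD3_c45) (LK LD1_c1 LD2_c36 LD3_c36) Lrfl Lrfl
theorem f206884 : Led Lsl_af (LP (LK LD1_c2 LD2_c16 LD3_c5)) = (LP (LK LD1_c1 LD2_c36 LD3_c36)) :=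
  Lgr Lrot50 (Lpr_et (K35.f79951 IH) (Lpr_at (K11.f206878 IH) (Lpr_et (f116899 IH) (Lpn (LP (LK LD1_c1 LD2_c36 LD3_c36))))))
theorem f207250 : Led Lsl_ft (LP (LK LD1_c3 LD2_c20 LD3_c29)) = (LP (LK LD1_c1 LD2_c36 LD3_c36)) :=
  Lre_f IH (LK LD1_c3 LD2_c20 LD3_c29) (LK LD1_c1 LD2_c36 LD3_c36) Lrfl Lrfl
theorem f209305 : Led Lsl_gf (LP (LK LD1_c4 LD2_c37 LD3_c52)) = (LP (LK LD1_c3 LD2_c20 LD3_c29)) :=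
  Lgr Lrot47 (Lpr_gt (f40637 IH) (Lpr_af (f206884 IH) (Lpe (f207250 IH) (Lpn (LP (LK LD1_c3 LD2_c20 LD3_c29))))))
theorem f204611 : Led Lsl_gt (LP (LK LD1_c6 LD2_c2 LD3_c14)) = (LP (LK LD1_c2 LD2_c57 LD3_c20)) :=
  Lre_g IH (LK LD1_c6 LD2_c2 LD3_c14) (LK LD1_c2 LD2_c57 LD3_c20) Lrfl Lrfl
theorem f435595 : Led Lsl_gt (LP (LK LD1_c5 LD2_c55 LD3_c13)) = (LP (LK LD1_c11 LD2_c35 LD3_c58)) :=
  Lre_g IH (LK LD1_c5 LD2_c55 LD3_c13) (LK LD1_c11 LD2_c35 LD3_c58) Lrfl Lrfl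
theorem f614910 : Led Lsl_gf (LP (LK LD1_c11 LD2_c48 LD3_c54)) = (LP (LK LD1_c11 LD2_c35 LD3_c58)) :=
  Lgr Lrot76 (Lpr_af (K50.f614904 IH) (Lpr_ff (K50.f614614 IH) (Lpr_gt (f435595 IH) (Lpn (LP (LK LD1_c11 LD2_c35 LD3_c58))))))
theorem f700296 : Led Lsl_et (LP (LK LD1_c6 LD2_c11 LD3_c51)) = (LP (LK LD1_c11 LD2_c35 LD3_c58)) :=
  Lgr Lrot121 (Lpr_dt (f61465 IH) (Lpr_gf (f700294 IH) (Lpe (f632005 IH) (Lpr_et (f632006 IH) (Lpq (f700271 IH) (Lpr_gf (f209305 IH) (Lpe (K35.f207308 IH) (Lpr_dt (K42.f538062 IH) (Lpe (f204611 IH) (Lpe (K45.f538066 IH) (Lpr_gf (f614910 IH) (Lpn (LP (LK LD1_c11 LD2_c35 LD3_c58))))))))))))))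
theorem f706478 : Led Lsl_ff (LP (LK LD1_c11 LD2_c49 LD3_c17)) = (LP (LK LD1_c11 LD2_c35 LD3_c58)) :=
  Lgr Lrot72 (Lpr_et (f614952 IH) (Lpr_ft (f706474 IH) (Lpr_et (K36.f73032 IH) (Lpr_ft (f646789 IH) (Lpqs (f706260 IH) (Lpr_et (f700296 IH) (Lpn (LP (LK LD1_c11 LD2_c35 LD3_c58)))))))))
theorem f706480 : Led Lsl_at (LP (LK LD1_c11 LD2_c49 LD3_c17)) = (LP (LK LD1_c11 LD2_c35 LD3_c59)) :=
  Lgr Lrot26 (Lpr_ff (f706478 IH) (Lpe (f614910 IH) (Lpe (f614944 IH) (Lpn (LP (LK LD1_c11 LD2_c35 LD3_c59))))))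
theorem f706482 : Led Lsl_af (LP (LK LD1_c11 LD2_c49 LD3_c17)) = (LP (LK LD1_c11 LD2_c35 LD3_c59)) :=
  Lgr Lrot0 (Lpr_at (f706480 IH) (Lpn (LP (LK LD1_c11 LD2_c35 LD3_c59))))
theorem f700298 : Led Lsl_ef (LP (LK LD1_c6 LD2_c11 LD3_c51)) = (LP (LK LD1_c11 LD2_c35 LD3_c58)) :=
  Lgr Lrot88 (Lpr_et (f700296 IH) (Lpn (LP (LK LD1_c11 LD2_c35 LD3_c58))))
theorem f706472 : Led Lsl_ft (LP (LK LD1_c11 LD2_c49 LD3_c17)) = (LP (LK LD1_c11 LD2_c35 LD3_c58)) :=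
  Lgr Lrot86 (Lpr_ef (f614948 IH) (Lpr_ff (f706358 IH) (Lpe (f116919 IH) (Lpr_ff (f646791 IH) (Lpqs (f706260 IH) (Lpr_ef (f700298 IH) (Lpn (LP (LK LD1_c11 LD2_c35 LD3_c58)))))))))
theorem f568470 : Led Lsl_et (LP (LK LD1_c3 LD2_c2 LD3_c31)) = (LP (LK LD1_c6 LD2_c11 LD3_c58)) :=
  Lre_e IH (LK LD1_c3 LD2_c2 LD3_c31) (LK LD1_c6 LD2_c11 LD3_c58) Lrfl Lrfl
theorem f706341 : Led Lsl_ft (LP (LK LD1_c6 LD2_c11 LD3_c58)) = (LP (LK LD1_c11 LD2_c35 LD3_c59)) :=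
  Lgr Lrot86 (Lpe (f568470 IH) (Lpr_ff (f646782 IH) (Lpq (f706255 IH) (Lpr_ef (f79974 IH) (Lpr_ff (f706339 IH) (Lpr_ef (f614982 IH) (Lpn (LP (LK LD1_c11 LD2_c35 LD3_c59)))))))))
theorem f706484 : Led Lsl_at (LP (LK LD1_c11 LD2_c35 LD3_c58)) = (LP (LK LD1_c6 LD2_c11 LD3_c58)) :=
  Lgr Lrot66 (Lpe (f706472 IH) (Lpr_af (f706482 IH) (Lpe (f706341 IH) (Lpn (LP (LK LD1_c6 LD2_c11 LD3_c58))))))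
theorem f207335 : Led Lsl_gt (LP (LK LD1_c9 LD2_c11 LD3_c35)) = (LP (LK LD1_c17 LD2_c5 LD3_c13)) :=
  Lre_g IH (LK LD1_c9 LD2_c11 LD3_c35) (LK LD1_c17 LD2_c5 LD3_c13) Lrfl Lrfl
theorem f700300 : Led Lsl_df (LP (LK LD1_c17 LD2_c5 LD3_c13)) = (LP (LK LD1_c11 LD2_c35 LD3_c58)) :=
  Lgr Lrot132 (Lpe (f207335 IH) (Lpe (K45.f207334 IH) (Lpe (K42.f207327 IH) (Lpe (K11.f207315 IH) (Lpqs (K35.f537964 IH) (Lpe (K35.f453550 IH) (Lpq (K35.f537794 IH) (Lpe (K38.f452278 IH) (Lpr_df (K4.f72972 IH) (Lpr_et (f73000 IH) (Lpe (K50.f61456 IH) (Lpr_ef (f700298 IH) (Lpn (LP (LK LD1_c11 LD2_c35 LD3_c58)))))))))))))))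
theorem f700302 : Led Lsl_dt (LP (LK LD1_c17 LD2_c5 LD3_c13)) = (LP (LK LD1_c11 LD2_c35 LD3_c58)) :=
  Lgr Lrot42 (Lpr_df (f700300 IH) (Lpn (LP (LK LD1_c11 LD2_c35 LD3_c58))))
theorem f615017 : Led Lsl_ff (LP (LK LD1_c9 LD2_c11 LD3_c37)) = (LP (LK LD1_c6 LD2_c44 LD3_c30)) :=
  Lgr Lrot19 (Lpr_dt (K45.f207355 IH) (Lpr_ft (K50.f615015 IH) (Lpr_dt (K45.f206814 IH) (Lpn (LP (LK LD1_c6 LD2_c44 LD3_c30))))))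
theorem f614675 : Led Lsl_dt (LP (LK LD1_c6 LD2_c2 LD3_c36)) = (LP (LK LD1_c2 LD2_c57 LD3_c23)) :=
  Lre_d IH (LK LD1_c6 LD2_c2 LD3_c36) (LK LD1_c2 LD2_c57 LD3_c23) Lrfl Lrfl
theorem f614676 : Led Lsl_af (LP (LK LD1_c6 LD2_c2 LD3_c36)) = (LP (LK LD1_c9 LD2_c11 LD3_c37)) :=
  Lgr Lrot117 (Lpr_dt (f614675 IH) (Lpr_at (K45.f614668 IH) (Lpr_dt (K45.f207349 IH) (Lpn (LP (LK LD1_c9 LD2_c11 LD3_c37))))))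
theorem f614699 : Led Lsl_gt (LP (LK LD1_c11 LD2_c49 LD3_c26)) = (LP (LK LD1_c6 LD2_c2 LD3_c36)) :=
  Lre_g IH (LK LD1_c11 LD2_c49 LD3_c26) (LK LD1_c6 LD2_c2 LD3_c36) Lrfl Lrfl
theorem f615021 : Led Lsl_gf (LP (LK LD1_c11 LD2_c49 LD3_c26)) = (LP (LK LD1_c6 LD2_c44 LD3_c30)) :=
  Lgr Lrot47 (Lpr_gt (f614699 IH) (Lpr_af (f614676 IH) (Lpr_ff (f615017 IH) (Lpn (LP (LK LD1_c6 LD2_c44 LD3_c30))))))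
theorem f73030 : Led Lsl_et (LP (LK LD1_c6 LD2_c11 LD3_c58)) = (LP (LK LD1_c3 LD2_c2 LD3_c31)) :=
  Lre_e IH (LK LD1_c6 LD2_c11 LD3_c58) (LK LD1_c3 LD2_c2 LD3_c31) Lrfl Lrfl
theorem f615023 : Led Lsl_df (LP (LK LD1_c11 LD2_c49 LD3_c26)) = (LP (LK LD1_c6 LD2_c11 LD3_c58)) :=
  Lgr Lrot132 (Lpr_gf (f615021 IH) (Lpe (K45.f206814 IH) (Lpe (K42.f206813 IH) (Lpe (K35.f206812 IH) (Lpr_dt (K11.f206791 IH) (Lpe (K4.f73023 IH) (Lpr_df (K4.f73004 IH) (Lpr_et (K36.f73028 IH) (Lpe (K50.f73029 IH) (Lpe (f73030 IH) (Lpn (LP (LK LD1_c6 LD2_c11 LD3_c58)))))))))))))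
theorem f706488 : Led Lsl_af (LP (LK LD1_c17 LD2_c5 LD3_c13)) = (LP (LK LD1_c11 LD2_c49 LD3_c26)) :=
  Lgr Lrot117 (Lpr_dt (f700302 IH) (Lpr_at (f706484 IH) (Lpe (f615023 IH) (Lpn (LP (LK LD1_c11 LD2_c49 LD3_c26))))))
theorem f706207 : Led Lsl_ef (LP (LK LD1_c12 LD2_c3 LD3_c32)) = (LP (LK LD1_c9 LD2_c4 LD3_c61)) :=
  Lgr Lrot88 (Lpr_et (f706200 IH) (Lpn (LP (LK LD1_c9 LD2_c4 LD3_c61))))
theorem f640138 : Led Lsl_dt (LP (LK LD1_c16 LD2_c56 LD3_c56)) = (LP (LK LD1_c9 LD2_c4 LD3_c61)) :=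
  Lre_d IH (LK LD1_c16 LD2_c56 LD3_c56) (LK LD1_c9 LD2_c4 LD3_c61) Lrfl Lrfl
theorem f706212 : Led Lsl_et (LP (LK LD1_c17 LD2_c5 LD3_c13)) = (LP (LK LD1_c16 LD2_c56 LD3_c56)) :=
  Lgr Lrot71 (Lpr_df (f700300 IH) (Lpe (f700296 IH) (Lpe (K50.f61467 IH) (Lpr_ef (f706207 IH) (Lpe (f640138 IH) (Lpn (LP (LK LD1_c16 LD2_c56 LD3_c56))))))))
theorem f640115 : Led Lsl_at (LP (LK LD1_c16 LD2_c56 LD3_c56)) = (LP (LK LD1_c9 LD2_c5 LD3_c1)) :=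
  Lre_a IH (LK LD1_c16 LD2_c56 LD3_c56) (LK LD1_c9 LD2_c5 LD3_c1) Lrfl Lrfl
theorem f706492 : Led Lsl_et (LP (LK LD1_c9 LD2_c5 LD3_c1)) = (LP (LK LD1_c11 LD2_c49 LD3_c26)) :=
  Lgr Lrot123 (Lpe (f640115 IH) (Lpe (f706212 IH) (Lpr_af (f706488 IH) (Lpn (LP (LK LD1_c11 LD2_c49 LD3_c26))))))
theorem f59869 : Led Lsl_ct (LP (LK LD1_c6 LD2_c12 LD3_c1)) = (LP (LK LD1_c3 LD2_c2 LD3_c34)) :=
  Lre_c IH (LK LD1_c6 LD2_c12 LD3_c1) (LK LD1_c3 LD2_c2 LD3_c34) Lrfl Lrfl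
theorem f140633 : Led Lsl_ef (LP (LK LD1_c5 LD2_c46 LD3_c4)) = (LP (LK LD1_c3 LD2_c2 LD3_c34)) :=
  Lgr Lrot28 (Lpr_ct (K38.f140605 IH) (Lpr_et (K38.f140629 IH) (Lpr_ct (f59869 IH) (Lpn (LP (LK LD1_c3 LD2_c2 LD3_c34))))))
theorem f706497 : Led Lsl_ff (LP (LK LD1_c9 LD2_c17 LD3_c23)) = (LP (LK LD1_c11 LD2_c49 LD3_c26)) :=
  Lgr Lrot72 (Lpr_et (K50.f639705 IH) (Lpe (K50.f639701 IH) (Lpe (f140633 IH) (Lpr_ft (f640122 IH) (Lpr_et (f706492 IH) (Lpn (LP (LK LD1_c11 LD2_c49 LD3_c26))))))))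
theorem f614718 : Led Lsl_gt (LP (LK LD1_c6 LD2_c2 LD3_c36)) = (LP (LK LD1_c11 LD2_c49 LD3_c25)) :=
  Lre_g IH (LK LD1_c6 LD2_c2 LD3_c36) (LK LD1_c11 LD2_c49 LD3_c25) Lrfl Lrfl
theorem f706504 : Led Lsl_at (LP (LK LD1_c9 LD2_c17 LD3_c23)) = (LP (LK LD1_c11 LD2_c49 LD3_c25)) :=
  Lgr Lrot26 (Lpr_ff (f706497 IH) (Lpr_gt (f614699 IH) (Lpr_gt (f614718 IH) (Lpn (LP (LK LD1_c11 LD2_c49 LD3_c25))))))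
theorem f706490 : Led Lsl_at (LP (LK LD1_c17 LD2_c5 LD3_c13)) = (LP (LK LD1_c11 LD2_c49 LD3_c26)) :=
  Lgr Lrot100 (Lpr_af (f706488 IH) (Lpn (LP (LK LD1_c11 LD2_c49 LD3_c26))))
theorem f706512 : Led Lsl_ff (LP (LK LD1_c17 LD2_c5 LD3_c13)) = (LP (LK LD1_c11 LD2_c49 LD3_c25)) :=
  Lgr Lrot30 (Lpr_at (f706490 IH) (Lpe (f706497 IH) (Lpr_at (f706504 IH) (Lpn (LP (LK LD1_c11 LD2_c49 LD3_c25))))))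
theorem f706514 : Led Lsl_dt (LP (LK LD1_c11 LD2_c49 LD3_c17)) = (LP (LK LD1_c11 LD2_c49 LD3_c25)) :=
  Lgr Lrot60 (Lpr_ff (f706478 IH) (Lpe (f700302 IH) (Lpr_ff (f706512 IH) (Lpn (LP (LK LD1_c11 LD2_c49 LD3_c25))))))
theorem f644424 : Led Lsl_af (LP (LK LD1_c16 LD2_c55 LD3_c45)) = (LP (LK LD1_c11 LD2_c22 LD3_c19)) :=
  Lgr Lrot45 (Lpr_ft (K45.f644416 IH) (Lpe (K45.f642588 IH) (Lpe (K45.f507081 IH) (Lpn (LP (LK LD1_c11 LD2_c22 LD3_c19))))))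
theorem f644804 : Led Lsl_gf (LP (LK LD1_c9 LD2_c4 LD3_c13)) = (LP (LK LD1_c5 LD2_c57 LD3_c22)) :=
  Lgr Lrot47 (Lpr_gt (K45.f140534 IH) (Lpr_af (f644424 IH) (Lpr_ff (K45.f507081 IH) (Lpn (LP (LK LD1_c5 LD2_c57 LD3_c22))))))
theorem f82955 : Led Lsl_dt (LP (LK LD1_c2 LD2_c54 LD3_c55)) = (LP (LK LD1_c5 LD2_c57 LD3_c21)) :=
  Lre_d IH (LK LD1_c2 LD2_c54 LD3_c55) (LK LD1_c5 LD2_c57 LD3_c21) Lrfl Lrfl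
theorem f79987 : Led Lsl_dt (LP (LK LD1_c4 LD2_c37 LD3_c45)) = (LP (LK LD1_c9 LD2_c3 LD3_c37)) :=
  Lre_d IH (LK LD1_c4 LD2_c37 LD3_c45) (LK LD1_c9 LD2_c3 LD3_c37) Lrfl Lrfl
theorem f79988 : Led Lsl_et (LP (LK LD1_c4 LD2_c37 LD3_c45)) = (LP (LK LD1_c3 LD2_c20 LD3_c32)) :=
  Lre_e IH (LK LD1_c4 LD2_c37 LD3_c45) (LK LD1_c3 LD2_c20 LD3_c32) Lrfl Lrfl
theorem f509318 : Led Lsl_gt (LP (LK LD1_c3 LD2_c20 LD3_c32)) = (LP (LK LD1_c1 LD2_c36 LD3_c39)) :=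
  Lre_g IH (LK LD1_c3 LD2_c20 LD3_c32) (LK LD1_c1 LD2_c36 LD3_c39) Lrfl Lrfl
theorem f438066 : Led Lsl_et (LP (LK LD1_c3 LD2_c20 LD3_c40)) = (LP (LK LD1_c1 LD2_c36 LD3_c39)) :=
  Lre_e IH (LK LD1_c3 LD2_c20 LD3_c40) (LK LD1_c1 LD2_c36 LD3_c39) Lrfl Lrfl
theorem f438067 : Led Lsl_dt (LP (LK LD1_c3 LD2_c20 LD3_c40)) = (LP (LK LD1_c6 LD2_c45 LD3_c6)) :=
  Lre_d IH (LK LD1_c3 LD2_c20 LD3_c40) (LK LD1_c6 LD2_c45 LD3_c6) Lrfl Lrfl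
theorem f644814 : Led Lsl_gt (LP (LK LD1_c6 LD2_c45 LD3_c6)) = (LP (LK LD1_c5 LD2_c57 LD3_c21)) :=
  Lgr Lrot112 (Lpe (f438067 IH) (Lpr_et (f438066 IH) (Lpe (f509318 IH) (Lpe (f79988 IH) (Lpr_dt (f79987 IH) (Lpe (K45.f140503 IH) (Lpe (f140544 IH) (Lpr_gf (f644804 IH) (Lpe (K45.f507555 IH) (Lpr_dt (f82955 IH) (Lpn (LP (LK LD1_c5 LD2_c57 LD3_c21)))))))))))))
def v6345 : LQ := Led Lsl_gf (LP (LK LD1_c3 LD2_c20 LD3_c40))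
theorem f652909 : Led Lsl_gf (LP (LK LD1_c3 LD2_c20 LD3_c40)) = v6345 :=
  Lrfl
theorem f614663 : Led Lsl_dt (LP (LK LD1_c2 LD2_c57 LD3_c23)) = (LP (LK LD1_c6 LD2_c2 LD3_c36)) :=
  Lre_d IH (LK LD1_c2 LD2_c57 LD3_c23) (LK LD1_c6 LD2_c2 LD3_c36) Lrfl Lrfl
theorem f614664 : Led Lsl_ft (LP (LK LD1_c6 LD2_c2 LD3_c36)) = (LP (LK LD1_c9 LD2_c11 LD3_c35)) :=
  Lgr Lrot54 (Lpe (f614663 IH) (Lpr_ff (K42.f614644 IH) (Lpe (K45.f207332 IH) (Lpn (LP (LK LD1_c9 LD2_c11 LD3_c35))))))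
theorem f615019 : Led Lsl_at (LP (LK LD1_c9 LD2_c11 LD3_c35)) = (LP (LK LD1_c6 LD2_c44 LD3_c30)) :=
  Lgr Lrot66 (Lpe (f614664 IH) (Lpr_af (f614676 IH) (Lpr_ff (f615017 IH) (Lpn (LP (LK LD1_c6 LD2_c44 LD3_c30))))))
theorem f615029 : Led Lsl_gt (LP (LK LD1_c11 LD2_c49 LD3_c25)) = (LP (LK LD1_c6 LD2_c44 LD3_c30)) :=
  Lgr Lrot46 (Lpe (f614718 IH) (Lpr_ft (f614664 IH) (Lpr_at (f615019 IH) (Lpn (LP (LK LD1_c6 LD2_c44 LD3_c30))))))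
theorem f706530 : v6345 = (LP (LK LD1_c6 LD2_c44 LD3_c31)) :=
  (Llr Lrot138 (Lpe (f652909 IH) (Lpr_dt (f438067 IH) (Lpr_gt (f644814 IH) (Lpe (f82955 IH) (Lpr_et (K45.f507555 IH) (Lpe (f644804 IH) (Lpe (f614952 IH) (Lpr_dt (f706514 IH) (Lpr_gt (f615029 IH) (Lpe (K45.f206814 IH) (Lpr_et (K42.f206822 IH) (Lpn (LP (LK LD1_c6 LD2_c44 LD3_c31))))))))))))))).symm
theorem f706532 : K46.v6369 = (LP (LK LD1_c6 LD2_c45 LD3_c5)) :=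
  (Llr Lrot26 (Lpe (K50.f653022 IH) (Lpe (K42.f206825 IH) (Lpq (f706530 IH) (Lpe (f652909 IH) (Lpr_gt (K50.f644820 IH) (Lpn (LP (LK LD1_c6 LD2_c45 LD3_c5))))))))).symm
theorem f206826 : Led Lsl_gt (LP (LK LD1_c12 LD2_c53 LD3_c32)) = (LP (LK LD1_c6 LD2_c44 LD3_c31)) :=
  Lre_g IH (LK LD1_c12 LD2_c53 LD3_c32) (LK LD1_c6 LD2_c44 LD3_c31) Lrfl Lrfl
theorem f653025 : Led Lsl_gf (LP (LK LD1_c12 LD2_c53 LD3_c32)) = K46.v6369 :=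
  Lgr Lrot47 (Lpr_gt (f206826 IH) (Lpe (K50.f615035 IH) (Lpr_ff (K50.f653021 IH) (Lpn K46.v6369))))
theorem f706544 : Led Lsl_at (LP (LK LD1_c6 LD2_c45 LD3_c7)) = (LP (LK LD1_c12 LD2_c53 LD3_c32)) :=
  Lgr Lrot26 (Lpe (K50.f509313 IH) (Lpr_gt (K50.f644820 IH) (Lpq (f706532 IH) (Lpe (f653025 IH) (Lpn (LP (LK LD1_c12 LD2_c53 LD3_c32)))))))
def v6346 : LQ := Led Lsl_at (LP (LK LD1_c3 LD2_c20 LD3_c40))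
theorem f652918 : Led Lsl_at (LP (LK LD1_c3 LD2_c20 LD3_c40)) = v6346 :=
  Lrfl
theorem f652919 : Led Lsl_af (LP (LK LD1_c3 LD2_c20 LD3_c40)) = v6346 :=
  Lgr Lrot0 (Lpr_at (f652918 IH) (Lpn v6346))
theorem f706549 : Led Lsl_ff v6346 = (LP (LK LD1_c12 LD2_c53 LD3_c32)) :=
  Lgr Lrot30 (Lpe (f652919 IH) (Lpr_ft (K50.f509313 IH) (Lpr_at (f706544 IH) (Lpn (LP (LK LD1_c12 LD2_c53 LD3_c32))))))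
theorem f509312 : Led Lsl_et (LP (LK LD1_c1 LD2_c36 LD3_c39)) = (LP (LK LD1_c3 LD2_c20 LD3_c40)) :=
  Lre_e IH (LK LD1_c1 LD2_c36 LD3_c39) (LK LD1_c3 LD2_c20 LD3_c40) Lrfl Lrfl
def v2155 : LQ := Led Lsl_ft (LP (LK LD1_c1 LD2_c36 LD3_c38))
theorem f509314 : Led Lsl_ft (LP (LK LD1_c1 LD2_c36 LD3_c38)) = v2155 :=
  Lrfl
theorem f509315 : Led Lsl_af (LP (LK LD1_c1 LD2_c36 LD3_c39)) = v2155 :=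
  Lgr Lrot45 (Lpr_ft (K46.f509300 IH) (Lpe (K46.f509293 IH) (Lpr_ft (f509314 IH) (Lpn v2155))))
theorem f652920 : Led Lsl_ef v2155 = v6346 :=
  Lgr Lrot20 (Lpe (f509315 IH) (Lpr_et (f509312 IH) (Lpr_at (f652918 IH) (Lpn v6346))))
theorem f509317 : Led Lsl_ff (LP (LK LD1_c1 LD2_c36 LD3_c38)) = v2155 :=
  Lgr Lrot3 (Lpr_ft (f509314 IH) (Lpn v2155))
theorem f509299 : Led Lsl_et (LP (LK LD1_c1 LD2_c36 LD3_c38)) = (LP (LK LD1_c3 LD2_c20 LD3_c36)) :=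
  Lre_e IH (LK LD1_c1 LD2_c36 LD3_c38) (LK LD1_c3 LD2_c20 LD3_c36) Lrfl Lrfl
theorem f509323 : Led Lsl_ft (LP (LK LD1_c3 LD2_c20 LD3_c36)) = (LP (LK LD1_c6 LD2_c44 LD3_c61)) :=
  Lre_f IH (LK LD1_c3 LD2_c20 LD3_c36) (LK LD1_c6 LD2_c44 LD3_c61) Lrfl Lrfl
theorem f706550 : Led Lsl_et (LP (LK LD1_c6 LD2_c44 LD3_c61)) = (LP (LK LD1_c12 LD2_c53 LD3_c32)) :=
  Lgr Lrot69 (Lpe (f509323 IH) (Lpe (f509299 IH) (Lpr_ff (f509317 IH) (Lpr_ef (f652920 IH) (Lpr_ff (f706549 IH) (Lpn (LP (LK LD1_c12 LD2_c53 LD3_c32))))))))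
theorem f706551 : Led Lsl_et (LP (LK LD1_c6 LD2_c44 LD3_c61)) = (LP (LK LD1_c12 LD2_c53 LD3_c32)) :=
  Leop (Lpe (f706550 IH) (Lpn (LP (LK LD1_c6 LD2_c44 LD3_c61))))
theorem seed_699 : LEOK LG_e (LK LD1_c6 LD2_c44 LD3_c61) :=
  Leoe_e (LK LD1_c6 LD2_c44 LD3_c61) (f706551 IH)
theorem f652858 : Led Lsl_ff (LP (LK LD1_c3 LD2_c20 LD3_c35)) = K46.v6334 :=
  Lgr Lrot3 (Lpr_ft (K46.f652854 IH) (Lpn K46.v6334))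
theorem f652882 : Led Lsl_dt v2155 = K46.v6334 :=
  Lgr Lrot60 (Lpe (f509314 IH) (Lpe (K50.f509296 IH) (Lpr_ff (f652858 IH) (Lpn K46.v6334))))
theorem f77018 : Led Lsl_dt (LP (LK LD1_c3 LD2_c20 LD3_c31)) = (LP (LK LD1_c6 LD2_c44 LD3_c49)) :=
  Lre_d IH (LK LD1_c3 LD2_c20 LD3_c31) (LK LD1_c6 LD2_c44 LD3_c49) Lrfl Lrfl
def v8695 : LQ := Led Lsl_gt K46.v2154
theorem f672023 : Led Lsl_gt K46.v2154 = v8695 :=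
  Lrfl
theorem f509322 : Led Lsl_at (LP (LK LD1_c1 LD2_c36 LD3_c39)) = v2155 :=
  Lgr Lrot66 (Lpr_ff (K46.f509309 IH) (Lpe (K46.f509292 IH) (Lpr_ff (f509317 IH) (Lpn v2155))))
theorem f672024 : Led Lsl_gf v2155 = v8695 :=
  Lgr Lrot76 (Lpe (f509322 IH) (Lpr_ff (K46.f509309 IH) (Lpr_gt (f672023 IH) (Lpn v8695))))
def v6337 : LQ := Led Lsl_at (LP (LK LD1_c3 LD2_c20 LD3_c36))
theorem f652887 : Led Lsl_at (LP (LK LD1_c3 LD2_c20 LD3_c36)) = v6337 :=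
  Lrfl
theorem f652889 : Led Lsl_ef K46.v2154 = v6337 :=
  Lgr Lrot20 (Lpe (K46.f509293 IH) (Lpr_et (f509299 IH) (Lpr_at (f652887 IH) (Lpn v6337))))
theorem f73045 : Led Lsl_gt (LP (LK LD1_c3 LD2_c2 LD3_c32)) = (LP (LK LD1_c6 LD2_c11 LD3_c59)) :=
  Lre_g IH (LK LD1_c3 LD2_c2 LD3_c32) (LK LD1_c6 LD2_c11 LD3_c59) Lrfl Lrfl
theorem f706555 : Led Lsl_dt (LP (LK LD1_c6 LD2_c44 LD3_c61)) = (LP (LK LD1_c6 LD2_c11 LD3_c59)) :=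
  Lgr Lrot56 (Lpr_et (f706550 IH) (Lpr_gt (f206826 IH) (Lpe (K42.f206822 IH) (Lpr_dt (K45.f206814 IH) (Lpe (f615021 IH) (Lpr_df (f615023 IH) (Lpr_et (f73030 IH) (Lpr_gt (K50.f73029 IH) (Lpr_dt (K40.f73052 IH) (Lpr_gt (f73045 IH) (Lpn (LP (LK LD1_c6 LD2_c11 LD3_c59)))))))))))))
theorem f80008 : Led Lsl_dt (LP (LK LD1_c6 LD2_c44 LD3_c60)) = (LP (LK LD1_c3 LD2_c20 LD3_c36)) :=
  Lre_d IH (LK LD1_c6 LD2_c44 LD3_c60) (LK LD1_c3 LD2_c20 LD3_c36) Lrfl Lrfl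
theorem f706561 : Led Lsl_ff (LP (LK LD1_c6 LD2_c44 LD3_c60)) = (LP (LK LD1_c6 LD2_c11 LD3_c59)) :=
  Lgr Lrot19 (Lpr_dt (f80008 IH) (Lpr_ft (f509323 IH) (Lpr_dt (f706555 IH) (Lpn (LP (LK LD1_c6 LD2_c11 LD3_c59))))))
theorem f100191 : Led Lsl_at (LP (LK LD1_c6 LD2_c11 LD3_c52)) = (LP (LK LD1_c3 LD2_c2 LD3_c33)) :=
  Lre_a IH (LK LD1_c6 LD2_c11 LD3_c52) (LK LD1_c3 LD2_c2 LD3_c33) Lrfl Lrfl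
theorem f61452 : Led Lsl_dt (LP (LK LD1_c3 LD2_c2 LD3_c33)) = (LP (LK LD1_c6 LD2_c12 LD3_c0)) :=
  Lre_d IH (LK LD1_c3 LD2_c2 LD3_c33) (LK LD1_c6 LD2_c12 LD3_c0) Lrfl Lrfl
theorem f561807 : Led Lsl_af (LP (LK LD1_c11 LD2_c15 LD3_c58)) = (LP (LK LD1_c6 LD2_c12 LD3_c0)) :=
  Lgr Lrot117 (Lpr_dt (K40.f561805 IH) (Lpr_at (f100191 IH) (Lpr_dt (f61452 IH) (Lpn (LP (LK LD1_c6 LD2_c12 LD3_c0))))))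
theorem f617082 : Led Lsl_gf (LP (LK LD1_c11 LD2_c15 LD3_c58)) = (LP (LK LD1_c6 LD2_c11 LD3_c59)) :=
  Lgr Lrot76 (Lpr_af (f561807 IH) (Lpe (K40.f73042 IH) (Lpr_gt (f73045 IH) (Lpn (LP (LK LD1_c6 LD2_c11 LD3_c59))))))
theorem f706571 : Led Lsl_at (LP (LK LD1_c6 LD2_c44 LD3_c60)) = (LP (LK LD1_c6 LD2_c11 LD3_c60)) :=
  Lgr Lrot26 (Lpr_ff (f706561 IH) (Lpe (f617082 IH) (Lpr_gt (K40.f561820 IH) (Lpn (LP (LK LD1_c6 LD2_c11 LD3_c60))))))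
theorem f79991 : Led Lsl_dt (LP (LK LD1_c3 LD2_c20 LD3_c36)) = (LP (LK LD1_c6 LD2_c44 LD3_c60)) :=
  Lre_d IH (LK LD1_c3 LD2_c20 LD3_c36) (LK LD1_c6 LD2_c44 LD3_c60) Lrfl Lrfl
theorem f652888 : Led Lsl_af (LP (LK LD1_c3 LD2_c20 LD3_c36)) = v6337 :=
  Lgr Lrot0 (Lpr_at (f652887 IH) (Lpn v6337))
theorem f100265 : Led Lsl_dt (LP (LK LD1_c6 LD2_c11 LD3_c60)) = (LP (LK LD1_c6 LD2_c44 LD3_c46)) :=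
  Lgr Lrot42 (Lpr_df (K40.f100257 IH) (Lpn (LP (LK LD1_c6 LD2_c44 LD3_c46))))
theorem f706577 : v6337 = (LP (LK LD1_c6 LD2_c44 LD3_c46)) :=
  (Llr Lrot117 (Lpe (f652888 IH) (Lpr_dt (f79991 IH) (Lpr_at (f706571 IH) (Lpr_dt (f100265 IH) (Lpn (LP (LK LD1_c6 LD2_c44 LD3_c46)))))))).symm
theorem f706580 : K46.v2154 = (LP (LK LD1_c3 LD2_c20 LD3_c30)) :=
  Lefun (Lecon (Lfl_ef (f652889 IH)) (f706577 IH)) (K40.f100256 IH)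
theorem f706581 : v8695 = (LP (LK LD1_c1 LD2_c36 LD3_c41)) :=
  Lefun (Lecon (f672023 IH) (f706580 IH)) (K40.f100274 IH)
theorem f706596 : v2155 = (LP (LK LD1_c3 LD2_c20 LD3_c31)) :=
  Lefun (Lecon (Lfl_gf (f672024 IH)) (f706581 IH)) (K17.f414458 IH)
theorem f706612 : K46.v6334 = (LP (LK LD1_c6 LD2_c44 LD3_c49)) :=
  Lefun (Lecon (f652882 IH) (f706596 IH)) (f77018 IH)
theorem f652847 : Led Lsl_ff (LP (LK LD1_c3 LD2_c20 LD3_c39)) = K46.v6333 :=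
  Lgr Lrot3 (Lpr_ft (K46.f652846 IH) (Lpn K46.v6333))
theorem f652881 : Led Lsl_at (LP (LK LD1_c3 LD2_c20 LD3_c39)) = K46.v6334 :=
  Lgr Lrot66 (Lpr_ff (f652847 IH) (Lpe (K46.f652841 IH) (Lpr_ff (f652858 IH) (Lpn K46.v6334))))
theorem f652845 : Led Lsl_dt K46.v2154 = K46.v6333 :=
  Lgr Lrot42 (Lpr_df (K46.f652843 IH) (Lpn K46.v6333))
def v6321 : LQ := Led Lsl_dt (LP (LK LD1_c3 LD2_c20 LD3_c30))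
theorem f652711 : Led Lsl_dt (LP (LK LD1_c3 LD2_c20 LD3_c30)) = v6321 :=
  Lrfl
theorem f706592 : K46.v6333 = v6321 :=
  Lefun (Lecon (f652845 IH) (f706580 IH)) (f652711 IH)
theorem f446203 : Led Lsl_bt (LP (LK LD1_c2 LD2_c15 LD3_c0)) = (LP (LK LD1_c4 LD2_c35 LD3_c42)) :=
  Lre_b IH (LK LD1_c2 LD2_c15 LD3_c0) (LK LD1_c4 LD2_c35 LD3_c42) Lrfl Lrfl
theorem f508530 : Led Lsl_ff (LP (LK LD1_c2 LD2_c53 LD3_c56)) = (LP (LK LD1_c4 LD2_c35 LD3_c42)) :=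
  Lgr Lrot25 (Lpr_bt (K42.f435604 IH) (Lpr_ft (K35.f500479 IH) (Lpqs (K35.f507948 IH) (Lpr_bt (f446203 IH) (Lpn (LP (LK LD1_c4 LD2_c35 LD3_c42)))))))
theorem f622267 : Led Lsl_gf (LP (LK LD1_c2 LD2_c15 LD3_c47)) = (LP (LK LD1_c4 LD2_c35 LD3_c42)) :=
  Lgr Lrot47 (Lpr_gt (K45.f560096 IH) (Lpr_af (K50.f622258 IH) (Lpr_ff (f508530 IH) (Lpn (LP (LK LD1_c4 LD2_c35 LD3_c42))))))
theorem f508536 : Led Lsl_et (LP (LK LD1_c9 LD2_c7 LD3_c54)) = (LP (LK LD1_c4 LD2_c35 LD3_c42)) :=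
  Lre_e IH (LK LD1_c9 LD2_c7 LD3_c54) (LK LD1_c4 LD2_c35 LD3_c42) Lrfl Lrfl
theorem f622274 : Led Lsl_dt (LP (LK LD1_c9 LD2_c7 LD3_c54)) = (LP (LK LD1_c9 LD2_c31 LD3_c20)) :=
  Lre_d IH (LK LD1_c9 LD2_c7 LD3_c54) (LK LD1_c9 LD2_c31 LD3_c20) Lrfl Lrfl
theorem f652713 : Led Lsl_gf (LP (LK LD1_c9 LD2_c31 LD3_c20)) = v6321 :=
  Lgr Lrot134 (Lpe (f622274 IH) (Lpr_et (f508536 IH) (Lpe (f622267 IH) (Lpe (K45.f494447 IH) (Lpr_dt (K5.f99946 IH) (Lpr_gt (K4.f80111 IH) (Lpe (K6.f40640 IH) (Lpr_et (K40.f100254 IH) (Lpr_gt (K40.f100255 IH) (Lpr_dt (f652711 IH) (Lpn v6321)))))))))))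
theorem f706658 : Led Lsl_gt (LP (LK LD1_c9 LD2_c31 LD3_c20)) = (LP (LK LD1_c6 LD2_c44 LD3_c49)) :=
  Lgr Lrot46 (Lpr_gf (f652713 IH) (Lpq (f706592 IH) (Lpe (f652847 IH) (Lpr_at (f652881 IH) (Lpqs (f706612 IH) (Lpn (LP (LK LD1_c6 LD2_c44 LD3_c49))))))))
theorem f706659 : Led Lsl_gt (LP (LK LD1_c9 LD2_c31 LD3_c20)) = (LP (LK LD1_c6 LD2_c44 LD3_c49)) :=
  Leop (Lpe (f706658 IH) (Lpn (LP (LK LD1_c9 LD2_c31 LD3_c20))))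
theorem seed_700 : LEOK LG_g (LK LD1_c9 LD2_c31 LD3_c20) :=
  Leoe_g (LK LD1_c9 LD2_c31 LD3_c20) (f706659 IH)
def v6327 : LQ := Led Lsl_ft (LP (LK LD1_c3 LD2_c20 LD3_c33))
theorem f652776 : Led Lsl_ft (LP (LK LD1_c3 LD2_c20 LD3_c33)) = v6327 :=
  Lrfl
theorem f652778 : Led Lsl_ff (LP (LK LD1_c3 LD2_c20 LD3_c33)) = v6327 :=
  Lgr Lrot3 (Lpr_ft (f652776 IH) (Lpn v6327))
theorem f413588 : Led Lsl_bt (LP (LK LD1_c3 LD2_c20 LD3_c33)) = (LP (LK LD1_c1 LD2_c36 LD3_c38)) :=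
  Lre_b IH (LK LD1_c3 LD2_c20 LD3_c33) (LK LD1_c1 LD2_c36 LD3_c38) Lrfl Lrfl
theorem f652779 : Led Lsl_bt v2155 = v6327 :=
  Lgr Lrot35 (Lpe (f509314 IH) (Lpe (f413588 IH) (Lpr_ff (f652778 IH) (Lpn v6327))))
theorem f414476 : Led Lsl_bt (LP (LK LD1_c3 LD2_c20 LD3_c31)) = (LP (LK LD1_c6 LD2_c44 LD3_c47)) :=
  Lre_b IH (LK LD1_c3 LD2_c20 LD3_c31) (LK LD1_c6 LD2_c44 LD3_c47) Lrfl Lrfl
theorem f706601 : v6327 = (LP (LK LD1_c6 LD2_c44 LD3_c47)) :=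
  Lefun (Lecon (f652779 IH) (f706596 IH)) (f414476 IH)
def v6325 : LQ := Led Lsl_ct (LP (LK LD1_c3 LD2_c20 LD3_c33))
theorem f652764 : Led Lsl_ct (LP (LK LD1_c3 LD2_c20 LD3_c33)) = v6325 :=
  Lrfl
theorem f652765 : Led Lsl_cf (LP (LK LD1_c3 LD2_c20 LD3_c33)) = v6325 :=
  Lgr Lrot11 (Lpr_ct (f652764 IH) (Lpn v6325))
theorem f706695 : Led Lsl_ff v6325 = (LP (LK LD1_c6 LD2_c50 LD3_c32)) :=
  Lgr Lrot23 (Lpe (f652765 IH) (Lpr_ft (f652776 IH) (Lpqs (f706601 IH) (Lpe (K17.f414459 IH) (Lpn (LP (LK LD1_c6 LD2_c50 LD3_c32)))))))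
theorem f76882 : Led Lsl_gt (LP (LK LD1_c3 LD2_c23 LD3_c38)) = (LP (LK LD1_c6 LD2_c50 LD3_c31)) :=
  Lre_g IH (LK LD1_c3 LD2_c23 LD3_c38) (LK LD1_c6 LD2_c50 LD3_c31) Lrfl Lrfl
theorem f706697 : Led Lsl_at v6325 = (LP (LK LD1_c6 LD2_c50 LD3_c31)) :=
  Lgr Lrot26 (Lpr_ff (f706695 IH) (Lpr_gt (K17.f139751 IH) (Lpr_gt (f76882 IH) (Lpn (LP (LK LD1_c6 LD2_c50 LD3_c31))))))
theorem f509294 : Led Lsl_at (LP (LK LD1_c6 LD2_c44 LD3_c52)) = (LP (LK LD1_c3 LD2_c20 LD3_c33)) :=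
  Lre_a IH (LK LD1_c6 LD2_c44 LD3_c52) (LK LD1_c3 LD2_c20 LD3_c33) Lrfl Lrfl
theorem f706699 : Led Lsl_cf (LP (LK LD1_c6 LD2_c44 LD3_c52)) = (LP (LK LD1_c6 LD2_c50 LD3_c31)) :=
  Lgr Lrot1 (Lpr_at (f509294 IH) (Lpr_ct (f652764 IH) (Lpr_at (f706697 IH) (Lpn (LP (LK LD1_c6 LD2_c50 LD3_c31))))))
theorem f706700 : Led Lsl_ct (LP (LK LD1_c6 LD2_c50 LD3_c31)) = (LP (LK LD1_c6 LD2_c44 LD3_c52)) :=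
  Leop (Lpr_cf (f706699 IH) (Lpn (LP (LK LD1_c6 LD2_c50 LD3_c31))))
theorem seed_701 : LEOK LG_c (LK LD1_c6 LD2_c50 LD3_c31) :=
  Leoe_c (LK LD1_c6 LD2_c50 LD3_c31) (f706700 IH)
theorem f706698 : Led Lsl_af v6325 = (LP (LK LD1_c6 LD2_c50 LD3_c31)) :=
  Lgr Lrot0 (Lpr_at (f706697 IH) (Lpn (LP (LK LD1_c6 LD2_c50 LD3_c31))))
theorem f79989 : Led Lsl_gt (LP (LK LD1_c1 LD2_c36 LD3_c38)) = (LP (LK LD1_c3 LD2_c20 LD3_c32)) :=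
  Lre_g IH (LK LD1_c1 LD2_c36 LD3_c38) (LK LD1_c3 LD2_c20 LD3_c32) Lrfl Lrfl
theorem f413850 : Led Lsl_bt (LP (LK LD1_c3 LD2_c24 LD3_c3)) = (LP (LK LD1_c4 LD2_c58 LD3_c14)) :=
  Lre_b IH (LK LD1_c3 LD2_c24 LD3_c3) (LK LD1_c4 LD2_c58 LD3_c14) Lrfl Lrfl
theorem f413851 : Led Lsl_ct (LP (LK LD1_c3 LD2_c24 LD3_c3)) = (LP (LK LD1_c6 LD2_c50 LD3_c27)) :=
  Lre_c IH (LK LD1_c3 LD2_c24 LD3_c3) (LK LD1_c6 LD2_c50 LD3_c27) Lrfl Lrfl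
theorem f652766 : Led Lsl_gt (LP (LK LD1_c6 LD2_c50 LD3_c27)) = v6325 :=
  Lgr Lrot65 (Lpe (f413851 IH) (Lpr_bt (f413850 IH) (Lpe (K17.f413844 IH) (Lpr_bf (K17.f413685 IH) (Lpr_ct (K17.f140988 IH) (Lpe (K17.f413701 IH) (Lpe (K17.f413702 IH) (Lpe (f79989 IH) (Lpe (f413588 IH) (Lpr_ct (f652764 IH) (Lpn v6325)))))))))))
theorem f413889 : Led Lsl_ct (LP (LK LD1_c3 LD2_c21 LD3_c23)) = (LP (LK LD1_c6 LD2_c46 LD3_c28)) :=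
  Lre_c IH (LK LD1_c3 LD2_c21 LD3_c23) (LK LD1_c6 LD2_c46 LD3_c28) Lrfl Lrfl
theorem f413890 : Led Lsl_ct (LP (LK LD1_c3 LD2_c23 LD3_c38)) = (LP (LK LD1_c1 LD2_c38 LD3_c20)) :=
  Lre_c IH (LK LD1_c3 LD2_c23 LD3_c38) (LK LD1_c1 LD2_c38 LD3_c20) Lrfl Lrfl
theorem f413891 : Led Lsl_ft (LP (LK LD1_c6 LD2_c46 LD3_c28)) = (LP (LK LD1_c3 LD2_c23 LD3_c38)) :=
  Lgr Lrot4 (Lpe (f413889 IH) (Lpr_ff (K17.f413880 IH) (Lpe (f413890 IH) (Lpn (LP (LK LD1_c3 LD2_c23 LD3_c38))))))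
theorem f414019 : Led Lsl_gt (LP (LK LD1_c6 LD2_c46 LD3_c28)) = (LP (LK LD1_c12 LD2_c56 LD3_c25)) :=
  Lre_g IH (LK LD1_c6 LD2_c46 LD3_c28) (LK LD1_c12 LD2_c56 LD3_c25) Lrfl Lrfl
theorem f414036 : Led Lsl_at (LP (LK LD1_c3 LD2_c23 LD3_c38)) = (LP (LK LD1_c6 LD2_c50 LD3_c27)) :=
  Lre_a IH (LK LD1_c3 LD2_c23 LD3_c38) (LK LD1_c6 LD2_c50 LD3_c27) Lrfl Lrfl
theorem f414050 : Led Lsl_gt (LP (LK LD1_c12 LD2_c56 LD3_c25)) = (LP (LK LD1_c6 LD2_c50 LD3_c27)) :=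
  Lgr Lrot46 (Lpe (f414019 IH) (Lpr_ft (f413891 IH) (Lpr_at (f414036 IH) (Lpn (LP (LK LD1_c6 LD2_c50 LD3_c27))))))
theorem f706703 : Led Lsl_ft (LP (LK LD1_c12 LD2_c56 LD3_c25)) = (LP (LK LD1_c6 LD2_c50 LD3_c31)) :=
  Lgr Lrot2 (Lpr_gt (f414050 IH) (Lpr_gt (f652766 IH) (Lpr_af (f706698 IH) (Lpn (LP (LK LD1_c6 LD2_c50 LD3_c31))))))
theorem f706704 : Led Lsl_ft (LP (LK LD1_c12 LD2_c56 LD3_c25)) = (LP (LK LD1_c6 LD2_c50 LD3_c31)) :=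
  Leop (Lpe (f706703 IH) (Lpn (LP (LK LD1_c12 LD2_c56 LD3_c25))))
theorem seed_702 : LEOK LG_f (LK LD1_c12 LD2_c56 LD3_c25) :=
  Leoe_f (LK LD1_c12 LD2_c56 LD3_c25) (f706704 IH)
theorem f496472 : Led Lsl_ct (LP (LK LD1_c5 LD2_c50 LD3_c7)) = (LP (LK LD1_c2 LD2_c51 LD3_c14)) :=
  Lre_c IH (LK LD1_c5 LD2_c50 LD3_c7) (LK LD1_c2 LD2_c51 LD3_c14) Lrfl Lrfl
theorem f499951 : Led Lsl_bt (LP (LK LD1_c5 LD2_c50 LD3_c7)) = (LP (LK LD1_c11 LD2_c28 LD3_c38)) :=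
  Lre_b IH (LK LD1_c5 LD2_c50 LD3_c7) (LK LD1_c11 LD2_c28 LD3_c38) Lrfl Lrfl
theorem f663118 : Led Lsl_cf K48.v5566 = (LP (LK LD1_c6 LD2_c31 LD3_c29)) :=
  Lgr Lrot11 (Lpr_ct (K48.f663116 IH) (Lpn (LP (LK LD1_c6 LD2_c31 LD3_c29))))
theorem f663117 : Led Lsl_bt (LP (LK LD1_c6 LD2_c31 LD3_c29)) = (LP (LK LD1_c12 LD2_c31 LD3_c15)) :=
  Lre_b IH (LK LD1_c6 LD2_c31 LD3_c29) (LK LD1_c12 LD2_c31 LD3_c15) Lrfl Lrfl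
theorem f707180 : Led Lsl_gf (LP (LK LD1_c11 LD2_c28 LD3_c38)) = (LP (LK LD1_c12 LD2_c31 LD3_c15)) :=
  Lgr Lrot124 (Lpe (f499951 IH) (Lpr_ct (f496472 IH) (Lpr_gt (K50.f640648 IH) (Lpqs (f706058 IH) (Lpe (K48.f413546 IH) (Lpr_bt (K48.f504395 IH) (Lpr_gt (K46.f502936 IH) (Lpe (K46.f649407 IH) (Lpr_gt (K48.f648282 IH) (Lpr_cf (f663118 IH) (Lpr_bt (f663117 IH) (Lpn (LP (LK LD1_c12 LD2_c31 LD3_c15))))))))))))))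
theorem f707181 : Led Lsl_gt (LP (LK LD1_c12 LD2_c31 LD3_c15)) = (LP (LK LD1_c11 LD2_c28 LD3_c38)) :=
  Leop (Lpr_gf (f707180 IH) (Lpn (LP (LK LD1_c12 LD2_c31 LD3_c15))))
theorem seed_703 : LEOK LG_g (LK LD1_c12 LD2_c31 LD3_c15) :=
  Leoe_g (LK LD1_c12 LD2_c31 LD3_c15) (f707181 IH)
def v13196 : LQ := Led Lsl_dt (LP (LK LD1_c4 LD2_c41 LD3_c13))
theorem f701621 : Led Lsl_dt (LP (LK LD1_c4 LD2_c41 LD3_c13)) = v13196 :=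
  Lrfl
theorem f706046 : (LP (LK LD1_c4 LD2_c57 LD3_c54)) = v13196 :=
  Lefun (Lecon (Lfl_df (K41.f640779 IH)) (f706038 IH).symm) (f701621 IH)
theorem f413506 : Led Lsl_dt (LP (LK LD1_c6 LD2_c12 LD3_c28)) = (LP (LK LD1_c3 LD2_c2 LD3_c48)) :=
  Lre_d IH (LK LD1_c6 LD2_c12 LD3_c28) (LK LD1_c3 LD2_c2 LD3_c48) Lrfl Lrfl
theorem f701624 : Led Lsl_ff (LP (LK LD1_c6 LD2_c12 LD3_c28)) = v13196 :=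
  Lgr Lrot19 (Lpr_dt (f413506 IH) (Lpr_ft (K48.f504391 IH) (Lpr_dt (f701621 IH) (Lpn v13196))))
theorem f701626 : Led Lsl_ft (LP (LK LD1_c6 LD2_c12 LD3_c28)) = v13196 :=
  Lgr Lrot48 (Lpr_ff (f701624 IH) (Lpn v13196))
theorem f416488 : Led Lsl_gt (LP (LK LD1_c6 LD2_c12 LD3_c28)) = (LP (LK LD1_c12 LD2_c4 LD3_c23)) :=
  Lre_g IH (LK LD1_c6 LD2_c12 LD3_c28) (LK LD1_c12 LD2_c4 LD3_c23) Lrfl Lrfl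
theorem f707187 : Led Lsl_gt (LP (LK LD1_c12 LD2_c4 LD3_c23)) = (LP (LK LD1_c7 LD2_c59 LD3_c48)) :=
  Lgr Lrot46 (Lpe (f416488 IH) (Lpr_ft (f701626 IH) (Lpq (f706046 IH) (Lpr_at (K41.f503763 IH) (Lpn (LP (LK LD1_c7 LD2_c59 LD3_c48)))))))
theorem f454191 : Led Lsl_et (LP (LK LD1_c1 LD2_c36 LD3_c58)) = (LP (LK LD1_c3 LD2_c21 LD3_c26)) :=
  Lre_e IH (LK LD1_c1 LD2_c36 LD3_c58) (LK LD1_c3 LD2_c21 LD3_c26) Lrfl Lrfl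
theorem f446273 : Led Lsl_gt (LP (LK LD1_c3 LD2_c21 LD3_c26)) = (LP (LK LD1_c6 LD2_c46 LD3_c33)) :=
  Lre_g IH (LK LD1_c3 LD2_c21 LD3_c26) (LK LD1_c6 LD2_c46 LD3_c33) Lrfl Lrfl
theorem f707189 : Led Lsl_df (LP (LK LD1_c12 LD2_c4 LD3_c23)) = (LP (LK LD1_c6 LD2_c46 LD3_c33)) :=
  Lgr Lrot135 (Lpr_gt (f707187 IH) (Lpr_df (K50.f615359 IH) (Lpe (K41.f615361 IH) (Lpr_gt (K35.f438505 IH) (Lpr_ef (K50.f647910 IH) (Lpe (K50.f647909 IH) (Lpqs (K50.f699746 IH) (Lpe (K50.f672109 IH) (Lpe (K50.f509503 IH) (Lpr_et (f454191 IH) (Lpr_gt (f446273 IH) (Lpn (LP (LK LD1_c6 LD2_c46 LD3_c33))))))))))))))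
theorem f707190 : Led Lsl_dt (LP (LK LD1_c6 LD2_c46 LD3_c33)) = (LP (LK LD1_c12 LD2_c4 LD3_c23)) :=
  Leop (Lpr_df (f707189 IH) (Lpn (LP (LK LD1_c6 LD2_c46 LD3_c33))))
theorem seed_704 : LEOK LG_d (LK LD1_c6 LD2_c46 LD3_c33) :=
  Leoe_d (LK LD1_c6 LD2_c46 LD3_c33) (f707190 IH)
theorem f510261 : Led Lsl_et (LP (LK LD1_c6 LD2_c45 LD3_c14)) = (LP (LK LD1_c12 LD2_c54 LD3_c47)) :=
  Lre_e IH (LK LD1_c6 LD2_c45 LD3_c14) (LK LD1_c12 LD2_c54 LD3_c47) Lrfl Lrfl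
theorem f634201 : Led Lsl_gt (LP (LK LD1_c12 LD2_c54 LD3_c47)) = (LP (LK LD1_c22 LD2_c4 LD3_c30)) :=
  Lre_g IH (LK LD1_c12 LD2_c54 LD3_c47) (LK LD1_c22 LD2_c4 LD3_c30) Lrfl Lrfl
def v4488 : LQ := Led Lsl_gt (LP (LK LD1_c2 LD2_c22 LD3_c29))
theorem f634199 : Led Lsl_gt (LP (LK LD1_c2 LD2_c22 LD3_c29)) = v4488 :=
  Lrfl
def v2160 : LQ := Led Lsl_ft (LP (LK LD1_c1 LD2_c36 LD3_c42))
theorem f509381 : Led Lsl_ft (LP (LK LD1_c1 LD2_c36 LD3_c42)) = v2160 :=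
  Lrfl
theorem f509384 : Led Lsl_ff (LP (LK LD1_c1 LD2_c36 LD3_c42)) = v2160 :=
  Lgr Lrot3 (Lpr_ft (f509381 IH) (Lpn v2160))
theorem f509387 : Led Lsl_bt K35.v559 = v2160 :=
  Lgr Lrot35 (Lpe (K35.f453984 IH) (Lpe (K49.f140971 IH) (Lpr_ff (f509384 IH) (Lpn v2160))))
theorem f509886 : v2160 = (LP (LK LD1_c2 LD2_c22 LD3_c29)) :=
  Lefun (Lecon (f509387 IH) (K35.f509878 IH).symm) (K49.f76930 IH)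
theorem f453981 : Led Lsl_at (LP (LK LD1_c1 LD2_c36 LD3_c42)) = (LP (LK LD1_c3 LD2_c20 LD3_c43)) :=
  Lre_a IH (LK LD1_c1 LD2_c36 LD3_c42) (LK LD1_c3 LD2_c20 LD3_c43) Lrfl Lrfl
theorem f634200 : Led Lsl_gf (LP (LK LD1_c3 LD2_c20 LD3_c43)) = v4488 :=
  Lgr Lrot76 (Lpe (f453981 IH) (Lpr_ff (f509384 IH) (Lpqs (f509886 IH) (Lpr_gt (f634199 IH) (Lpn v4488)))))
theorem f141023 : Led Lsl_bt (LP (LK LD1_c3 LD2_c2 LD3_c39)) = (LP (LK LD1_c6 LD2_c12 LD3_c8)) :=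
  Lre_b IH (LK LD1_c3 LD2_c2 LD3_c39) (LK LD1_c6 LD2_c12 LD3_c8) Lrfl Lrfl
theorem f289189 : Led Lsl_ft (LP (LK LD1_c10 LD2_c48 LD3_c11)) = (LP (LK LD1_c5 LD2_c28 LD3_c31)) :=
  Lre_f IH (LK LD1_c10 LD2_c48 LD3_c11) (LK LD1_c5 LD2_c28 LD3_c31) Lrfl Lrfl
theorem f381331 : Led Lsl_ct (LP (LK LD1_c5 LD2_c37 LD3_c25)) = (LP (LK LD1_c10 LD2_c48 LD3_c11)) :=
  Lgr Lrot40 (Lpe (K17.f242697 IH) (Lpr_cf (f381324 IH) (Lpe (f289189 IH) (Lpn (LP (LK LD1_c10 LD2_c48 LD3_c11))))))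
theorem f381335 : Led Lsl_cf (LP (LK LD1_c5 LD2_c37 LD3_c25)) = (LP (LK LD1_c10 LD2_c48 LD3_c11)) :=
  Lgr Lrot11 (Lpr_ct (f381331 IH) (Lpn (LP (LK LD1_c10 LD2_c48 LD3_c11))))
theorem f381338 : Led Lsl_ct (LP (LK LD1_c5 LD2_c42 LD3_c6)) = (LP (LK LD1_c10 LD2_c58 LD3_c36)) :=
  Lgr Lrot111 (Lpe (K17.f289249 IH) (Lpr_cf (f381335 IH) (Lpr_af (K17.f289184 IH) (Lpn (LP (LK LD1_c10 LD2_c58 LD3_c36))))))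
theorem f289258 : Led Lsl_bt (LP (LK LD1_c5 LD2_c42 LD3_c6)) = (LP (LK LD1_c11 LD2_c14 LD3_c25)) :=
  Lre_b IH (LK LD1_c5 LD2_c42 LD3_c6) (LK LD1_c11 LD2_c14 LD3_c25) Lrfl Lrfl
theorem f705998 : Led Lsl_gt (LP (LK LD1_c6 LD2_c12 LD3_c8)) = (LP (LK LD1_c11 LD2_c14 LD3_c25)) :=
  Lgr Lrot164 (Lpe (f141023 IH) (Lpr_ct (K17.f141009 IH) (Lpr_gf (K24.f141015 IH) (Lpe (K17.f73658 IH) (Lpe (K17.f413638 IH) (Lpr_bf (K46.f653263 IH) (Lpr_ct (K50.f705994 IH) (Lpr_gf (K50.f289206 IH) (Lpe (f381338 IH) (Lpr_bt (f289258 IH) (Lpn (LP (LK LD1_c11 LD2_c14 LD3_c25)))))))))))))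
theorem f509927 : Led Lsl_ft (LP (LK LD1_c3 LD2_c20 LD3_c51)) = (LP (LK LD1_c3 LD2_c2 LD3_c39)) :=
  Lgr Lrot48 (Lpr_ff (K35.f509920 IH) (Lpn (LP (LK LD1_c3 LD2_c2 LD3_c39))))
theorem f22882 : Led Lsl_bt (LP (LK LD1_c6 LD2_c45 LD3_c23)) = (LP (LK LD1_c3 LD2_c20 LD3_c51)) :=
  Lre_b IH (LK LD1_c6 LD2_c45 LD3_c23) (LK LD1_c3 LD2_c20 LD3_c51) Lrfl Lrfl
theorem f510112 : Led Lsl_ff (LP (LK LD1_c6 LD2_c45 LD3_c23)) = (LP (LK LD1_c6 LD2_c12 LD3_c8)) :=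
  Lgr Lrot25 (Lpr_bt (f22882 IH) (Lpr_ft (f509927 IH) (Lpr_bt (f141023 IH) (Lpn (LP (LK LD1_c6 LD2_c12 LD3_c8))))))
theorem f381150 : Led Lsl_at (LP (LK LD1_c5 LD2_c43 LD3_c27)) = (LP (LK LD1_c5 LD2_c37 LD3_c22)) :=
  Lgr Lrot80 (Lpe (K27.f381149 IH) (Lpr_af (K27.f381122 IH) (Lpe (f242713 IH) (Lpn (LP (LK LD1_c5 LD2_c37 LD3_c22))))))
theorem f289241 : Led Lsl_at (LP (LK LD1_c2 LD2_c44 LD3_c39)) = (LP (LK LD1_c2 LD2_c47 LD3_c1)) :=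
  Lgr Lrot100 (Lpr_af (K17.f289239 IH) (Lpn (LP (LK LD1_c2 LD2_c47 LD3_c1))))
theorem f381346 : Led Lsl_bt (LP (LK LD1_c2 LD2_c47 LD3_c1)) = (LP (LK LD1_c5 LD2_c42 LD3_c3)) :=
  Lre_b IH (LK LD1_c2 LD2_c47 LD3_c1) (LK LD1_c5 LD2_c42 LD3_c3) Lrfl Lrfl
theorem f618047 : Led Lsl_af (LP (LK LD1_c6 LD2_c25 LD3_c19)) = (LP (LK LD1_c5 LD2_c42 LD3_c3)) :=
  Lgr Lrot36 (Lpr_bt (f618045 IH) (Lpr_at (f381150 IH) (Lpr_bt (K50.f242708 IH) (Lpr_at (f289241 IH) (Lpr_bt (f381346 IH) (Lpn (LP (LK LD1_c5 LD2_c42 LD3_c3))))))))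
theorem f117015 : Led Lsl_gt (LP (LK LD1_c12 LD2_c23 LD3_c32)) = (LP (LK LD1_c6 LD2_c25 LD3_c19)) :=
  Lre_g IH (LK LD1_c12 LD2_c23 LD3_c32) (LK LD1_c6 LD2_c25 LD3_c19) Lrfl Lrfl
theorem f289339 : Led Lsl_ft (LP (LK LD1_c11 LD2_c14 LD3_c25)) = (LP (LK LD1_c5 LD2_c42 LD3_c3)) :=
  Lre_f IH (LK LD1_c11 LD2_c14 LD3_c25) (LK LD1_c5 LD2_c42 LD3_c3) Lrfl Lrfl
theorem f618130 : Led Lsl_gf (LP (LK LD1_c12 LD2_c23 LD3_c32)) = (LP (LK LD1_c11 LD2_c14 LD3_c25)) :=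
  Lgr Lrot47 (Lpr_gt (f117015 IH) (Lpr_af (f618047 IH) (Lpe (f289339 IH) (Lpn (LP (LK LD1_c11 LD2_c14 LD3_c25))))))
theorem f707237 : Led Lsl_at (LP (LK LD1_c6 LD2_c45 LD3_c23)) = (LP (LK LD1_c12 LD2_c23 LD3_c32)) :=
  Lgr Lrot26 (Lpr_ff (f510112 IH) (Lpr_gt (f705998 IH) (Lpe (f618130 IH) (Lpn (LP (LK LD1_c12 LD2_c23 LD3_c32))))))
theorem f509379 : Led Lsl_dt (LP (LK LD1_c3 LD2_c20 LD3_c46)) = (LP (LK LD1_c6 LD2_c45 LD3_c23)) :=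
  Lre_d IH (LK LD1_c3 LD2_c20 LD3_c46) (LK LD1_c6 LD2_c45 LD3_c23) Lrfl Lrfl
theorem f509421 : Led Lsl_at (LP (LK LD1_c6 LD2_c45 LD3_c15)) = (LP (LK LD1_c3 LD2_c20 LD3_c46)) :=
  Lre_a IH (LK LD1_c6 LD2_c45 LD3_c15) (LK LD1_c3 LD2_c20 LD3_c46) Lrfl Lrfl
theorem f707248 : Led Lsl_df (LP (LK LD1_c6 LD2_c45 LD3_c15)) = (LP (LK LD1_c12 LD2_c23 LD3_c32)) :=
  Lgr Lrot18 (Lpr_at (f509421 IH) (Lpr_dt (f509379 IH) (Lpr_at (f707237 IH) (Lpn (LP (LK LD1_c12 LD2_c23 LD3_c32))))))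
theorem f707250 : Led Lsl_dt (LP (LK LD1_c6 LD2_c45 LD3_c15)) = (LP (LK LD1_c12 LD2_c23 LD3_c32)) :=
  Lgr Lrot42 (Lpr_df (f707248 IH) (Lpn (LP (LK LD1_c12 LD2_c23 LD3_c32))))
theorem f510250 : Led Lsl_et (LP (LK LD1_c6 LD2_c45 LD3_c15)) = (LP (LK LD1_c3 LD2_c20 LD3_c43)) :=
  Lre_e IH (LK LD1_c6 LD2_c45 LD3_c15) (LK LD1_c3 LD2_c20 LD3_c43) Lrfl Lrfl
theorem f116990 : Led Lsl_et (LP (LK LD1_c3 LD2_c10 LD3_c18)) = (LP (LK LD1_c1 LD2_c31 LD3_c19)) :=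
  Lre_e IH (LK LD1_c3 LD2_c10 LD3_c18) (LK LD1_c1 LD2_c31 LD3_c19) Lrfl Lrfl
theorem f117017 : Led Lsl_et (LP (LK LD1_c2 LD2_c14 LD3_c50)) = (LP (LK LD1_c4 LD2_c35 LD3_c17)) :=
  Lre_e IH (LK LD1_c2 LD2_c14 LD3_c50) (LK LD1_c4 LD2_c35 LD3_c17) Lrfl Lrfl
theorem f707253 : v4488 = (LP (LK LD1_c4 LD2_c35 LD3_c17)) :=
  (Llr Lrot141 (Lpe (f634200 IH) (Lpe (f510250 IH) (Lpr_dt (f707250 IH) (Lpr_gt (f117015 IH) (Lpe (f116991 IH) (Lpr_et (f116990 IH) (Lpr_gt (K8.f116978 IH) (Lpr_dt (K2.f35222 IH) (Lpr_gt (K5.f26614 IH) (Lpe (K8.f117016 IH) (Lpr_et (f117017 IH) (Lpn (LP (LK LD1_c4 LD2_c35 LD3_c17))))))))))))))).symm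
def v12947 : LQ := Led Lsl_et (LP (LK LD1_c4 LD2_c35 LD3_c12))
theorem f699759 : Led Lsl_et (LP (LK LD1_c4 LD2_c35 LD3_c12)) = v12947 :=
  Lrfl
theorem f161445 : Led Lsl_et (LP (LK LD1_c4 LD2_c35 LD3_c17)) = (LP (LK LD1_c2 LD2_c14 LD3_c50)) :=
  Lre_e IH (LK LD1_c4 LD2_c35 LD3_c17) (LK LD1_c2 LD2_c14 LD3_c50) Lrfl Lrfl
theorem f699762 : Led Lsl_df (LP (LK LD1_c4 LD2_c35 LD3_c17)) = v12947 :=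
  Lgr Lrot70 (Lpr_et (f161445 IH) (Lpr_dt (K8.f117016 IH) (Lpr_et (K36.f494394 IH) (Lpqs (K36.f541541 IH) (Lpr_dt (K40.f210978 IH) (Lpr_et (f699759 IH) (Lpn v12947)))))))
theorem f699763 : Led Lsl_ef (LP (LK LD1_c4 LD2_c35 LD3_c12)) = v12947 :=
  Lgr Lrot88 (Lpr_et (f699759 IH) (Lpn v12947))
theorem f570260 : Led Lsl_gt (LP (LK LD1_c2 LD2_c57 LD3_c61)) = (LP (LK LD1_c4 LD2_c35 LD3_c12)) :=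
  Lgr Lrot139 (Lpr_df (K36.f175391 IH) (Lpe (K42.f570250 IH) (Lpe (K42.f562635 IH) (Lpr_dt (K42.f570254 IH) (Lpe (K40.f161438 IH) (Lpe (K41.f71979 IH) (Lpr_et (K40.f71972 IH) (Lpr_gf (K8.f161427 IH) (Lpr_ef (K39.f494396 IH) (Lpqs (K36.f541541 IH) (Lpr_dt (K40.f210978 IH) (Lpn (LP (LK LD1_c4 LD2_c35 LD3_c12))))))))))))))
theorem f412375 : Led Lsl_et (LP (LK LD1_c6 LD2_c3 LD3_c49)) = (LP (LK LD1_c2 LD2_c57 LD3_c61)) :=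
  Lre_e IH (LK LD1_c6 LD2_c3 LD3_c49) (LK LD1_c2 LD2_c57 LD3_c61) Lrfl Lrfl
theorem f547407 : Led Lsl_et (LP (LK LD1_c4 LD2_c33 LD3_c6)) = (LP (LK LD1_c9 LD2_c3 LD3_c27)) :=
  Lre_e IH (LK LD1_c4 LD2_c33 LD3_c6) (LK LD1_c9 LD2_c3 LD3_c27) Lrfl Lrfl
theorem f619273 : Led Lsl_df (LP (LK LD1_c6 LD2_c3 LD3_c49)) = (LP (LK LD1_c9 LD2_c3 LD3_c27)) :=
  Lgr Lrot70 (Lpr_et (f412375 IH) (Lpr_dt (K36.f175411 IH) (Lpr_et (K36.f495982 IH) (Lpq (K38.f547308 IH) (Lpqs (K38.f547308 IH) (Lpr_dt (K42.f547416 IH) (Lpr_et (f547407 IH) (Lpn (LP (LK LD1_c9 LD2_c3 LD3_c27))))))))))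
theorem f619278 : Led Lsl_dt (LP (LK LD1_c6 LD2_c3 LD3_c49)) = (LP (LK LD1_c9 LD2_c3 LD3_c27)) :=
  Lgr Lrot42 (Lpr_df (f619273 IH) (Lpn (LP (LK LD1_c9 LD2_c3 LD3_c27))))
theorem f598104 : Led Lsl_gt (LP (LK LD1_c16 LD2_c54 LD3_c24)) = (LP (LK LD1_c9 LD2_c3 LD3_c27)) :=
  Lre_g IH (LK LD1_c16 LD2_c54 LD3_c24) (LK LD1_c9 LD2_c3 LD3_c27) Lrfl Lrfl
theorem f707284 : Led Lsl_dt (LP (LK LD1_c22 LD2_c4 LD3_c30)) = (LP (LK LD1_c16 LD2_c54 LD3_c24)) :=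
  Lgr Lrot171 (Lpe (f634201 IH) (Lpe (f510261 IH) (Lpr_dt (K49.f510199 IH) (Lpr_gf (f634200 IH) (Lpqs (f707253 IH) (Lpr_df (f699762 IH) (Lpe (f699763 IH) (Lpe (f570260 IH) (Lpe (f412375 IH) (Lpr_dt (f619278 IH) (Lpe (f598104 IH) (Lpn (LP (LK LD1_c16 LD2_c54 LD3_c24))))))))))))))
theorem f707285 : Led Lsl_dt (LP (LK LD1_c22 LD2_c4 LD3_c30)) = (LP (LK LD1_c16 LD2_c54 LD3_c24)) :=
  Leop (Lpe (f707284 IH) (Lpn (LP (LK LD1_c22 LD2_c4 LD3_c30))))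
theorem seed_705 : LEOK LG_d (LK LD1_c22 LD2_c4 LD3_c30) :=
  Leoe_d (LK LD1_c22 LD2_c4 LD3_c30) (f707285 IH)
theorem f510256 : Led Lsl_dt (LP (LK LD1_c3 LD2_c20 LD3_c43)) = (LP (LK LD1_c6 LD2_c45 LD3_c14)) :=
  Lre_d IH (LK LD1_c3 LD2_c20 LD3_c43) (LK LD1_c6 LD2_c45 LD3_c14) Lrfl Lrfl
def v13875 : LQ := Led Lsl_gf (LP (LK LD1_c4 LD2_c49 LD3_c24))
theorem f705634 : Led Lsl_gf (LP (LK LD1_c4 LD2_c49 LD3_c24)) = v13875 :=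
  Lrfl
def v13872 : LQ := Led Lsl_dt (LP (LK LD1_c4 LD2_c49 LD3_c22))
theorem f705615 : Led Lsl_dt (LP (LK LD1_c4 LD2_c49 LD3_c22)) = v13872 :=
  Lrfl
theorem f495156 : Led Lsl_at (LP (LK LD1_c2 LD2_c22 LD3_c29)) = (LP (LK LD1_c4 LD2_c49 LD3_c22)) :=
  Lre_a IH (LK LD1_c2 LD2_c22 LD3_c29) (LK LD1_c4 LD2_c49 LD3_c22) Lrfl Lrfl
theorem f705616 : Led Lsl_af (LP (LK LD1_c4 LD2_c49 LD3_c24)) = v13872 :=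
  Lgr Lrot117 (Lpr_dt (K49.f77072 IH) (Lpr_at (f495156 IH) (Lpr_dt (f705615 IH) (Lpn v13872))))
theorem f141000 : Led Lsl_at (LP (LK LD1_c6 LD2_c45 LD3_c13)) = (LP (LK LD1_c3 LD2_c20 LD3_c44)) :=
  Lre_a IH (LK LD1_c6 LD2_c45 LD3_c13) (LK LD1_c3 LD2_c20 LD3_c44) Lrfl Lrfl
theorem f77063 : Led Lsl_at (LP (LK LD1_c4 LD2_c49 LD3_c23)) = (LP (LK LD1_c9 LD2_c31 LD3_c30)) :=
  Lre_a IH (LK LD1_c4 LD2_c49 LD3_c23) (LK LD1_c9 LD2_c31 LD3_c30) Lrfl Lrfl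
theorem f510218 : Led Lsl_ff (LP (LK LD1_c6 LD2_c45 LD3_c13)) = (LP (LK LD1_c9 LD2_c31 LD3_c30)) :=
  Lgr Lrot30 (Lpr_at (f141000 IH) (Lpr_ft (K49.f510216 IH) (Lpr_at (f77063 IH) (Lpn (LP (LK LD1_c9 LD2_c31 LD3_c30))))))
theorem f509389 : Led Lsl_ct (LP (LK LD1_c6 LD2_c45 LD3_c13)) = (LP (LK LD1_c3 LD2_c20 LD3_c43)) :=
  Lre_c IH (LK LD1_c6 LD2_c45 LD3_c13) (LK LD1_c3 LD2_c20 LD3_c43) Lrfl Lrfl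
theorem f510174 : Led Lsl_ct (LP (LK LD1_c4 LD2_c49 LD3_c22)) = (LP (LK LD1_c9 LD2_c31 LD3_c30)) :=
  Lre_c IH (LK LD1_c4 LD2_c49 LD3_c22) (LK LD1_c9 LD2_c31 LD3_c30) Lrfl Lrfl
theorem f510233 : Led Lsl_ft (LP (LK LD1_c3 LD2_c20 LD3_c43)) = (LP (LK LD1_c4 LD2_c49 LD3_c22)) :=
  Lgr Lrot4 (Lpe (f509389 IH) (Lpr_ff (f510218 IH) (Lpe (f510174 IH) (Lpn (LP (LK LD1_c4 LD2_c49 LD3_c22))))))
theorem f705619 : Led Lsl_ff (LP (LK LD1_c6 LD2_c45 LD3_c14)) = v13872 :=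
  Lgr Lrot19 (Lpr_dt (K49.f510199 IH) (Lpr_ft (f510233 IH) (Lpr_dt (f705615 IH) (Lpn v13872))))
theorem f705622 : Led Lsl_ft (LP (LK LD1_c6 LD2_c45 LD3_c14)) = v13872 :=
  Lgr Lrot48 (Lpr_ff (f705619 IH) (Lpn v13872))
theorem f705635 : Led Lsl_gt (LP (LK LD1_c6 LD2_c45 LD3_c14)) = v13875 :=
  Lgr Lrot5 (Lpr_ft (f705622 IH) (Lpe (f705616 IH) (Lpr_gf (f705634 IH) (Lpn v13875))))
theorem f160864 : Led Lsl_et (LP (LK LD1_c1 LD2_c4 LD3_c35)) = (LP (LK LD1_c2 LD2_c14 LD3_c56)) :=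
  Lre_e IH (LK LD1_c1 LD2_c4 LD3_c35) (LK LD1_c2 LD2_c14 LD3_c56) Lrfl Lrfl
theorem f445863 : Led Lsl_gt (LP (LK LD1_c4 LD2_c35 LD3_c30)) = (LP (LK LD1_c2 LD2_c14 LD3_c56)) :=
  Lre_g IH (LK LD1_c4 LD2_c35 LD3_c30) (LK LD1_c2 LD2_c14 LD3_c56) Lrfl Lrfl
theorem f442685 : Led Lsl_et (LP (LK LD1_c9 LD2_c7 LD3_c32)) = (LP (LK LD1_c4 LD2_c35 LD3_c30)) :=
  Lre_e IH (LK LD1_c9 LD2_c7 LD3_c32) (LK LD1_c4 LD2_c35 LD3_c30) Lrfl Lrfl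
theorem f707297 : Led Lsl_df v13875 = (LP (LK LD1_c9 LD2_c7 LD3_c32)) :=
  Lgr Lrot132 (Lpe (f705635 IH) (Lpe (f510256 IH) (Lpr_gf (f634200 IH) (Lpqs (f707253 IH) (Lpe (f117017 IH) (Lpr_dt (K8.f117016 IH) (Lpe (K5.f26614 IH) (Lpe (K2.f35222 IH) (Lpr_et (f160864 IH) (Lpe (f445863 IH) (Lpe (f442685 IH) (Lpn (LP (LK LD1_c9 LD2_c7 LD3_c32))))))))))))))
theorem f414983 : Led Lsl_dt (LP (LK LD1_c2 LD2_c22 LD3_c29)) = (LP (LK LD1_c4 LD2_c49 LD3_c24)) :=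
  Lre_d IH (LK LD1_c2 LD2_c22 LD3_c29) (LK LD1_c4 LD2_c49 LD3_c24) Lrfl Lrfl
theorem f509889 : Led Lsl_et (LP (LK LD1_c2 LD2_c22 LD3_c29)) = (LP (LK LD1_c4 LD2_c49 LD3_c25)) :=
  Lre_e IH (LK LD1_c2 LD2_c22 LD3_c29) (LK LD1_c4 LD2_c49 LD3_c25) Lrfl Lrfl
theorem f446011 : Led Lsl_gt (LP (LK LD1_c4 LD2_c49 LD3_c25)) = (LP (LK LD1_c9 LD2_c31 LD3_c36)) :=
  Lre_g IH (LK LD1_c4 LD2_c49 LD3_c25) (LK LD1_c9 LD2_c31 LD3_c36) Lrfl Lrfl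
theorem f442684 : Led Lsl_gt (LP (LK LD1_c9 LD2_c7 LD3_c19)) = (LP (LK LD1_c4 LD2_c35 LD3_c30)) :=
  Lre_g IH (LK LD1_c9 LD2_c7 LD3_c19) (LK LD1_c4 LD2_c35 LD3_c30) Lrfl Lrfl
theorem f71848 : Led Lsl_et (LP (LK LD1_c1 LD2_c23 LD3_c8)) = (LP (LK LD1_c2 LD2_c54 LD3_c18)) :=
  Lre_e IH (LK LD1_c1 LD2_c23 LD3_c8) (LK LD1_c2 LD2_c54 LD3_c18) Lrfl Lrfl
theorem f71849 : Led Lsl_ft (LP (LK LD1_c2 LD2_c54 LD3_c18)) = (LP (LK LD1_c5 LD2_c55 LD3_c57)) :=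
  Lre_f IH (LK LD1_c2 LD2_c54 LD3_c18) (LK LD1_c5 LD2_c55 LD3_c57) Lrfl Lrfl
theorem f71850 : Led Lsl_et (LP (LK LD1_c4 LD2_c35 LD3_c22)) = (LP (LK LD1_c2 LD2_c14 LD3_c53)) :=
  Lre_e IH (LK LD1_c4 LD2_c35 LD3_c22) (LK LD1_c2 LD2_c14 LD3_c53) Lrfl Lrfl
theorem f71851 : Led Lsl_ft (LP (LK LD1_c9 LD2_c7 LD3_c19)) = (LP (LK LD1_c4 LD2_c35 LD3_c22)) :=
  Lre_f IH (LK LD1_c9 LD2_c7 LD3_c19) (LK LD1_c4 LD2_c35 LD3_c22) Lrfl Lrfl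
theorem f71852 : Led Lsl_et (LP (LK LD1_c5 LD2_c55 LD3_c57)) = (LP (LK LD1_c9 LD2_c7 LD3_c19)) :=
  Lgr Lrot69 (Lpe (f71849 IH) (Lpe (f71848 IH) (Lpr_ff (K2.f71836 IH) (Lpe (f71850 IH) (Lpe (f71851 IH) (Lpn (LP (LK LD1_c9 LD2_c7 LD3_c19))))))))
theorem f425739 : Led Lsl_dt (LP (LK LD1_c5 LD2_c55 LD3_c57)) = (LP (LK LD1_c11 LD2_c37 LD3_c3)) :=
  Lre_d IH (LK LD1_c5 LD2_c55 LD3_c57) (LK LD1_c11 LD2_c37 LD3_c3) Lrfl Lrfl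
theorem f442683 : Led Lsl_gt (LP (LK LD1_c5 LD2_c56 LD3_c57)) = (LP (LK LD1_c11 LD2_c37 LD3_c3)) :=
  Lre_g IH (LK LD1_c5 LD2_c56 LD3_c57) (LK LD1_c11 LD2_c37 LD3_c3) Lrfl Lrfl
theorem f707299 : Led Lsl_dt (LP (LK LD1_c9 LD2_c31 LD3_c36)) = (LP (LK LD1_c5 LD2_c56 LD3_c57)) :=
  Lgr Lrot171 (Lpe (f446011 IH) (Lpe (f509889 IH) (Lpr_dt (f414983 IH) (Lpr_gf (f705634 IH) (Lpr_df (f707297 IH) (Lpr_et (f442685 IH) (Lpe (f442684 IH) (Lpe (f71852 IH) (Lpr_dt (f425739 IH) (Lpe (f442683 IH) (Lpn (LP (LK LD1_c5 LD2_c56 LD3_c57)))))))))))))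
theorem f707300 : Led Lsl_dt (LP (LK LD1_c9 LD2_c31 LD3_c36)) = (LP (LK LD1_c5 LD2_c56 LD3_c57)) :=
  Leop (Lpe (f707299 IH) (Lpn (LP (LK LD1_c9 LD2_c31 LD3_c36))))
theorem seed_706 : LEOK LG_d (LK LD1_c9 LD2_c31 LD3_c36) :=
  Leoe_d (LK LD1_c9 LD2_c31 LD3_c36) (f707300 IH)
def v6446 : LQ := Led Lsl_ft (LP (LK LD1_c3 LD2_c21 LD3_c48))
theorem f653446 : Led Lsl_ft (LP (LK LD1_c3 LD2_c21 LD3_c48)) = v6446 :=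
  Lrfl
theorem f653448 : Led Lsl_ff (LP (LK LD1_c3 LD2_c21 LD3_c48)) = v6446 :=
  Lgr Lrot3 (Lpr_ft (f653446 IH) (Lpn v6446))
def v6443 : LQ := Led Lsl_at (LP (LK LD1_c3 LD2_c21 LD3_c48))
theorem f653437 : Led Lsl_at (LP (LK LD1_c3 LD2_c21 LD3_c48)) = v6443 :=
  Lrfl
theorem f653438 : Led Lsl_af (LP (LK LD1_c3 LD2_c21 LD3_c48)) = v6443 :=
  Lgr Lrot0 (Lpr_at (f653437 IH) (Lpn v6443))
theorem f454455 : Led Lsl_gt (LP (LK LD1_c3 LD2_c21 LD3_c48)) = (LP (LK LD1_c1 LD2_c37 LD3_c9)) :=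
  Lre_g IH (LK LD1_c3 LD2_c21 LD3_c48) (LK LD1_c1 LD2_c37 LD3_c9) Lrfl Lrfl
theorem f454456 : Led Lsl_gt (LP (LK LD1_c4 LD2_c49 LD3_c49)) = (LP (LK LD1_c3 LD2_c21 LD3_c48)) :=
  Lgr Lrot5 (Lpr_ft (K24.f454306 IH) (Lpr_at (K24.f454022 IH) (Lpe (f454455 IH) (Lpn (LP (LK LD1_c3 LD2_c21 LD3_c48))))))
def v2201 : LQ := Led Lsl_gt (LP (LK LD1_c1 LD2_c37 LD3_c9))
theorem f509644 : Led Lsl_gt (LP (LK LD1_c1 LD2_c37 LD3_c9)) = v2201 :=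
  Lrfl
theorem f509645 : Led Lsl_gf (LP (LK LD1_c4 LD2_c49 LD3_c49)) = v2201 :=
  Lgr Lrot76 (Lpe (K24.f416222 IH) (Lpr_ff (K24.f454303 IH) (Lpr_gt (f509644 IH) (Lpn v2201))))
theorem f653439 : Led Lsl_ft v2201 = v6443 :=
  Lgr Lrot2 (Lpe (f509645 IH) (Lpr_gt (f454456 IH) (Lpr_af (f653438 IH) (Lpn v6443))))
theorem f653440 : Led Lsl_ff v2201 = v6443 :=
  Lgr Lrot3 (Lpr_ft (f653439 IH) (Lpn v6443))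
theorem f653449 : Led Lsl_at v2201 = v6446 :=
  Lgr Lrot66 (Lpr_ff (f653440 IH) (Lpe (f653437 IH) (Lpr_ff (f653448 IH) (Lpn v6446))))
theorem f149695 : Led Lsl_et (LP (LK LD1_c11 LD2_c26 LD3_c0)) = (LP (LK LD1_c5 LD2_c48 LD3_c14)) :=
  Lre_e IH (LK LD1_c11 LD2_c26 LD3_c0) (LK LD1_c5 LD2_c48 LD3_c14) Lrfl Lrfl
theorem f149701 : Led Lsl_bt (LP (LK LD1_c12 LD2_c53 LD3_c19)) = (LP (LK LD1_c11 LD2_c26 LD3_c0)) :=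
  Lgr Lrot119 (Lpe (K6.f141754 IH) (Lpr_bf (K7.f149697 IH) (Lpe (f149695 IH) (Lpn (LP (LK LD1_c11 LD2_c26 LD3_c0))))))
theorem f130568 : Led Lsl_bt (LP (LK LD1_c4 LD2_c34 LD3_c30)) = (LP (LK LD1_c9 LD2_c5 LD3_c54)) :=
  Lre_b IH (LK LD1_c4 LD2_c34 LD3_c30) (LK LD1_c9 LD2_c5 LD3_c54) Lrfl Lrfl
theorem f56791 : Led Lsl_at (LP (LK LD1_c11 LD2_c26 LD3_c0)) = (LP (LK LD1_c5 LD2_c48 LD3_c15)) :=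
  Lre_a IH (LK LD1_c11 LD2_c26 LD3_c0) (LK LD1_c5 LD2_c48 LD3_c15) Lrfl Lrfl
theorem f56785 : Led Lsl_bt (LP (LK LD1_c5 LD2_c48 LD3_c15)) = (LP (LK LD1_c2 LD2_c50 LD3_c10)) :=
  Lre_b IH (LK LD1_c5 LD2_c48 LD3_c15) (LK LD1_c2 LD2_c50 LD3_c10) Lrfl Lrfl
theorem f436683 : Led Lsl_af (LP (LK LD1_c4 LD2_c34 LD3_c30)) = (LP (LK LD1_c2 LD2_c50 LD3_c10)) :=
  Lgr Lrot36 (Lpr_bt (f130568 IH) (Lpr_at (K6.f141913 IH) (Lpr_bt (f149701 IH) (Lpr_at (f56791 IH) (Lpr_bt (f56785 IH) (Lpn (LP (LK LD1_c2 LD2_c50 LD3_c10))))))))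
def v8780 : LQ := Led Lsl_bt v2201
theorem f672270 : Led Lsl_bt v2201 = v8780 :=
  Lrfl
theorem f672271 : Led Lsl_bf v2201 = v8780 :=
  Lgr Lrot24 (Lpr_bt (f672270 IH) (Lpn v8780))
theorem f414533 : Led Lsl_bt (LP (LK LD1_c0 LD2_c44 LD3_c57)) = (LP (LK LD1_c1 LD2_c37 LD3_c9)) :=
  Lre_b IH (LK LD1_c0 LD2_c44 LD3_c57) (LK LD1_c1 LD2_c37 LD3_c9) Lrfl Lrfl
theorem f140043 : Led Lsl_ct (LP (LK LD1_c1 LD2_c36 LD3_c42)) = (LP (LK LD1_c3 LD2_c20 LD3_c44)) :=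
  Lre_c IH (LK LD1_c1 LD2_c36 LD3_c42) (LK LD1_c3 LD2_c20 LD3_c44) Lrfl Lrfl
def v6354 : LQ := Led Lsl_gf (LP (LK LD1_c3 LD2_c20 LD3_c44))
theorem f652957 : Led Lsl_gf (LP (LK LD1_c3 LD2_c20 LD3_c44)) = v6354 :=
  Lrfl
theorem f672272 : Led Lsl_cf v6354 = v8780 :=
  Lgr Lrot160 (Lpe (f652957 IH) (Lpe (f140043 IH) (Lpr_bt (K49.f140971 IH) (Lpr_gt (K0.f22928 IH) (Lpr_ct (K9.f98994 IH) (Lpr_gt (K16.f139931 IH) (Lpe (K17.f141108 IH) (Lpr_bt (f414533 IH) (Lpr_gt (f509644 IH) (Lpr_bf (f672271 IH) (Lpn v8780)))))))))))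
theorem f672273 : Led Lsl_ct v6354 = v8780 :=
  Lgr Lrot59 (Lpr_cf (f672272 IH) (Lpn v8780))
theorem f56773 : Led Lsl_et (LP (LK LD1_c2 LD2_c57 LD3_c15)) = (LP (LK LD1_c6 LD2_c2 LD3_c19)) :=
  Lre_e IH (LK LD1_c2 LD2_c57 LD3_c15) (LK LD1_c6 LD2_c2 LD3_c19) Lrfl Lrfl
theorem f56774 : Led Lsl_et (LP (LK LD1_c5 LD2_c48 LD3_c15)) = (LP (LK LD1_c2 LD2_c50 LD3_c9)) :=
  Lre_e IH (LK LD1_c5 LD2_c48 LD3_c15) (LK LD1_c2 LD2_c50 LD3_c9) Lrfl Lrfl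
theorem f56775 : Led Lsl_ct (LP (LK LD1_c6 LD2_c2 LD3_c19)) = (LP (LK LD1_c5 LD2_c48 LD3_c15)) :=
  Lgr Lrot15 (Lpe (f56773 IH) (Lpr_cf (K6.f56764 IH) (Lpe (f56774 IH) (Lpn (LP (LK LD1_c5 LD2_c48 LD3_c15))))))
theorem f71959 : Led Lsl_et (LP (LK LD1_c1 LD2_c23 LD3_c5)) = (LP (LK LD1_c2 LD2_c54 LD3_c13)) :=
  Lre_e IH (LK LD1_c1 LD2_c23 LD3_c5) (LK LD1_c2 LD2_c54 LD3_c13) Lrfl Lrfl
def v4967 : LQ := Led Lsl_gf (LP (LK LD1_c2 LD2_c54 LD3_c13))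
theorem f641097 : Led Lsl_gf (LP (LK LD1_c2 LD2_c54 LD3_c13)) = v4967 :=
  Lrfl
def v12954 : LQ := Led Lsl_ft (LP (LK LD1_c4 LD2_c35 LD3_c17))
theorem f699839 : Led Lsl_ft (LP (LK LD1_c4 LD2_c35 LD3_c17)) = v12954 :=
  Lrfl
theorem f699843 : Led Lsl_ff (LP (LK LD1_c4 LD2_c35 LD3_c17)) = v12954 :=
  Lgr Lrot3 (Lpr_ft (f699839 IH) (Lpn v12954))
theorem f82005 : Led Lsl_et (LP (LK LD1_c2 LD2_c54 LD3_c13)) = (LP (LK LD1_c1 LD2_c23 LD3_c5)) :=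
  Lre_e IH (LK LD1_c2 LD2_c54 LD3_c13) (LK LD1_c1 LD2_c23 LD3_c5) Lrfl Lrfl
theorem f163113 : Led Lsl_af (LP (LK LD1_c2 LD2_c54 LD3_c13)) = (LP (LK LD1_c4 LD2_c35 LD3_c17)) :=
  Lgr Lrot50 (Lpr_et (f82005 IH) (Lpr_at (K8.f163107 IH) (Lpr_et (f117017 IH) (Lpn (LP (LK LD1_c4 LD2_c35 LD3_c17))))))
theorem f699848 : Led Lsl_gf v4967 = v12954 :=
  Lgr Lrot47 (Lpe (f641097 IH) (Lpr_af (f163113 IH) (Lpr_ff (f699843 IH) (Lpn v12954))))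
theorem f140057 : Led Lsl_gt (LP (LK LD1_c1 LD2_c36 LD3_c42)) = (LP (LK LD1_c3 LD2_c20 LD3_c42)) :=
  Lre_g IH (LK LD1_c1 LD2_c36 LD3_c42) (LK LD1_c3 LD2_c20 LD3_c42) Lrfl Lrfl
theorem f510303 : Led Lsl_gt (LP (LK LD1_c3 LD2_c20 LD3_c42)) = (LP (LK LD1_c4 LD2_c49 LD3_c22)) :=
  Lgr Lrot46 (Lpe (f140057 IH) (Lpr_ft (f509381 IH) (Lpqs (f509886 IH) (Lpr_at (f495156 IH) (Lpn (LP (LK LD1_c4 LD2_c49 LD3_c22)))))))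
def v4968 : LQ := Led Lsl_ft (LP (LK LD1_c2 LD2_c54 LD3_c13))
theorem f641100 : Led Lsl_ft (LP (LK LD1_c2 LD2_c54 LD3_c13)) = v4968 :=
  Lrfl
theorem f699845 : Led Lsl_at v4968 = v12954 :=
  Lgr Lrot66 (Lpe (f641100 IH) (Lpr_af (f163113 IH) (Lpr_ff (f699843 IH) (Lpn v12954))))
def v4966 : LQ := Led Lsl_gt (LP (LK LD1_c2 LD2_c54 LD3_c13))
theorem f641094 : Led Lsl_gt (LP (LK LD1_c2 LD2_c54 LD3_c13)) = v4966 :=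
  Lrfl
theorem f699849 : Led Lsl_gt v4966 = v12954 :=
  Lgr Lrot46 (Lpe (f641094 IH) (Lpr_ft (f641100 IH) (Lpr_at (f699845 IH) (Lpn v12954))))
theorem f615477 : Led Lsl_ct (LP (LK LD1_c5 LD2_c40 LD3_c38)) = (LP (LK LD1_c10 LD2_c58 LD3_c33)) :=
  Lgr Lrot8 (Lpe (K50.f319495 IH) (Lpr_dt (K50.f615365 IH) (Lpr_gt (K50.f499961 IH) (Lpe (K50.f615359 IH) (Lpe (K50.f415989 IH) (Lpe (K50.f408242 IH) (Lpe (K50.f408240 IH) (Lpe (K17.f289183 IH) (Lpr_gf (K50.f289191 IH) (Lpn (LP (LK LD1_c10 LD2_c58 LD3_c33))))))))))))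
theorem f381329 : Led Lsl_ct (LP (LK LD1_c2 LD2_c47 LD3_c1)) = (LP (LK LD1_c5 LD2_c33 LD3_c17)) :=
  Lgr Lrot111 (Lpe (f289241 IH) (Lpr_cf (f381324 IH) (Lpr_af (K17.f289198 IH) (Lpn (LP (LK LD1_c5 LD2_c33 LD3_c17))))))
theorem f653282 : Led Lsl_bf (LP (LK LD1_c3 LD2_c21 LD3_c37)) = K46.v6420 :=
  Lgr Lrot93 (Lpr_dt (K16.f139927 IH) (Lpr_bt (K24.f417134 IH) (Lpr_dt (K46.f653280 IH) (Lpn K46.v6420))))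
theorem f61615 : Led Lsl_bt (LP (LK LD1_c3 LD2_c20 LD3_c51)) = (LP (LK LD1_c6 LD2_c45 LD3_c23)) :=
  Lre_b IH (LK LD1_c3 LD2_c20 LD3_c51) (LK LD1_c6 LD2_c45 LD3_c23) Lrfl Lrfl
theorem f707319 : Led Lsl_gf (LP (LK LD1_c5 LD2_c42 LD3_c3)) = (LP (LK LD1_c6 LD2_c45 LD3_c23)) :=
  Lgr Lrot124 (Lpe (f381346 IH) (Lpr_ct (f381329 IH) (Lpr_gt (K50.f225364 IH) (Lpe (f615477 IH) (Lpqs (K50.f705921 IH) (Lpe (f653282 IH) (Lpr_gt (K16.f141143 IH) (Lpr_ct (K16.f73679 IH) (Lpr_gt (K17.f73930 IH) (Lpe (K17.f22868 IH) (Lpr_bt (f61615 IH) (Lpn (LP (LK LD1_c6 LD2_c45 LD3_c23))))))))))))))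
theorem f618113 : Led Lsl_dt (LP (LK LD1_c2 LD2_c54 LD3_c35)) = (LP (LK LD1_c5 LD2_c42 LD3_c3)) :=
  Lgr Lrot42 (Lpr_df (f618058 IH) (Lpn (LP (LK LD1_c5 LD2_c42 LD3_c3))))
theorem f509378 : Led Lsl_et (LP (LK LD1_c3 LD2_c20 LD3_c46)) = (LP (LK LD1_c1 LD2_c36 LD3_c42)) :=
  Lre_e IH (LK LD1_c3 LD2_c20 LD3_c46) (LK LD1_c1 LD2_c36 LD3_c42) Lrfl Lrfl
theorem f707328 : v4966 = (LP (LK LD1_c1 LD2_c36 LD3_c42)) :=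
  (Llr Lrot131 (Lpe (f641094 IH) (Lpe (f71959 IH) (Lpr_dt (K8.f69451 IH) (Lpr_gf (K6.f71951 IH) (Lpe (K2.f35254 IH) (Lpe (K8.f141855 IH) (Lpe (K32.f141858 IH) (Lpr_dt (f618113 IH) (Lpr_gf (f707319 IH) (Lpe (f509379 IH) (Lpr_et (f509378 IH) (Lpn (LP (LK LD1_c1 LD2_c36 LD3_c42))))))))))))))).symm
theorem f707329 : v12954 = (LP (LK LD1_c3 LD2_c20 LD3_c42)) :=
  Lefun (Lecon (f699849 IH) (f707328 IH)) (f140057 IH)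
theorem f707332 : v4967 = (LP (LK LD1_c4 LD2_c49 LD3_c22)) :=
  Lefun (Lecon (Lfl_gf (f699848 IH)) (f707329 IH)) (f510303 IH)
theorem f510164 : Led Lsl_et (LP (LK LD1_c9 LD2_c31 LD3_c31)) = (LP (LK LD1_c4 LD2_c49 LD3_c22)) :=
  Lre_e IH (LK LD1_c9 LD2_c31 LD3_c31) (LK LD1_c4 LD2_c49 LD3_c22) Lrfl Lrfl
theorem f82899 : Led Lsl_gt (LP (LK LD1_c1 LD2_c23 LD3_c17)) = (LP (LK LD1_c2 LD2_c54 LD3_c43)) :=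
  Lre_g IH (LK LD1_c1 LD2_c23 LD3_c17) (LK LD1_c2 LD2_c54 LD3_c43) Lrfl Lrfl
theorem f82900 : Led Lsl_dt (LP (LK LD1_c2 LD2_c54 LD3_c43)) = (LP (LK LD1_c5 LD2_c56 LD3_c51)) :=
  Lre_d IH (LK LD1_c2 LD2_c54 LD3_c43) (LK LD1_c5 LD2_c56 LD3_c51) Lrfl Lrfl
theorem f641099 : Led Lsl_gt (LP (LK LD1_c5 LD2_c56 LD3_c51)) = (LP (LK LD1_c11 LD2_c38 LD3_c59)) :=
  Lre_g IH (LK LD1_c5 LD2_c56 LD3_c51) (LK LD1_c11 LD2_c38 LD3_c59) Lrfl Lrfl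
theorem f707346 : Led Lsl_dt (LP (LK LD1_c9 LD2_c31 LD3_c31)) = (LP (LK LD1_c11 LD2_c38 LD3_c59)) :=
  Lgr Lrot56 (Lpr_et (f510164 IH) (Lpq (f707332 IH) (Lpe (f641097 IH) (Lpe (f71959 IH) (Lpr_dt (K8.f69451 IH) (Lpr_gt (K6.f69439 IH) (Lpe (K2.f24081 IH) (Lpr_et (K45.f425725 IH) (Lpr_gt (f82899 IH) (Lpr_dt (f82900 IH) (Lpr_gt (f641099 IH) (Lpn (LP (LK LD1_c11 LD2_c38 LD3_c59))))))))))))))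
theorem f707351 : Led Lsl_df (LP (LK LD1_c9 LD2_c31 LD3_c31)) = (LP (LK LD1_c11 LD2_c38 LD3_c59)) :=
  Lgr Lrot38 (Lpr_dt (f707346 IH) (Lpn (LP (LK LD1_c11 LD2_c38 LD3_c59))))
theorem f510163 : Led Lsl_ct (LP (LK LD1_c9 LD2_c31 LD3_c31)) = (LP (LK LD1_c17 LD2_c33 LD3_c23)) :=
  Lre_c IH (LK LD1_c9 LD2_c31 LD3_c31) (LK LD1_c17 LD2_c33 LD3_c23) Lrfl Lrfl
theorem f82958 : Led Lsl_gt (LP (LK LD1_c2 LD2_c54 LD3_c42)) = (LP (LK LD1_c5 LD2_c56 LD3_c46)) :=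
  Lre_g IH (LK LD1_c2 LD2_c54 LD3_c42) (LK LD1_c5 LD2_c56 LD3_c46) Lrfl Lrfl
theorem f82985 : Led Lsl_dt (LP (LK LD1_c5 LD2_c56 LD3_c46)) = (LP (LK LD1_c11 LD2_c38 LD3_c48)) :=
  Lre_d IH (LK LD1_c5 LD2_c56 LD3_c46) (LK LD1_c11 LD2_c38 LD3_c48) Lrfl Lrfl
theorem f436687 : Led Lsl_gt (LP (LK LD1_c11 LD2_c38 LD3_c48)) = (LP (LK LD1_c20 LD2_c38 LD3_c1)) :=
  Lre_g IH (LK LD1_c11 LD2_c38 LD3_c48) (LK LD1_c20 LD2_c38 LD3_c1) Lrfl Lrfl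
theorem f707359 : Led Lsl_df (LP (LK LD1_c17 LD2_c33 LD3_c23)) = (LP (LK LD1_c20 LD2_c38 LD3_c1)) :=
  Lgr Lrot84 (Lpe (f510163 IH) (Lpr_df (f707351 IH) (Lpe (f641099 IH) (Lpe (f82900 IH) (Lpe (f82899 IH) (Lpe (K4.f82916 IH) (Lpr_gt (f82958 IH) (Lpr_dt (f82985 IH) (Lpr_gt (f436687 IH) (Lpn (LP (LK LD1_c20 LD2_c38 LD3_c1))))))))))))
theorem f707366 : Led Lsl_dt (LP (LK LD1_c17 LD2_c33 LD3_c23)) = (LP (LK LD1_c20 LD2_c38 LD3_c1)) :=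
  Lgr Lrot42 (Lpr_df (f707359 IH) (Lpn (LP (LK LD1_c20 LD2_c38 LD3_c1))))
theorem f510229 : Led Lsl_et (LP (LK LD1_c17 LD2_c33 LD3_c23)) = (LP (LK LD1_c9 LD2_c31 LD3_c30)) :=
  Lre_e IH (LK LD1_c17 LD2_c33 LD3_c23) (LK LD1_c9 LD2_c31 LD3_c30) Lrfl Lrfl
theorem f652958 : Led Lsl_gt (LP (LK LD1_c9 LD2_c31 LD3_c30)) = v6354 :=
  Lgr Lrot5 (Lpe (f510218 IH) (Lpr_at (f141000 IH) (Lpr_gf (f652957 IH) (Lpn v6354))))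
theorem f83011 : Led Lsl_et (LP (LK LD1_c1 LD2_c23 LD3_c16)) = (LP (LK LD1_c2 LD2_c54 LD3_c42)) :=
  Lre_e IH (LK LD1_c1 LD2_c23 LD3_c16) (LK LD1_c2 LD2_c54 LD3_c42) Lrfl Lrfl
theorem f707374 : v6354 = (LP (LK LD1_c6 LD2_c2 LD3_c19)) :=
  (Llr Lrot131 (Lpe (f652958 IH) (Lpe (f510229 IH) (Lpr_dt (f707366 IH) (Lpe (f436687 IH) (Lpe (f82985 IH) (Lpe (f82958 IH) (Lpe (f83011 IH) (Lpr_dt (K7.f24070 IH) (Lpr_gf (K6.f80296 IH) (Lpr_df (K8.f149669 IH) (Lpr_et (f56773 IH) (Lpn (LP (LK LD1_c6 LD2_c2 LD3_c19))))))))))))))).symm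
theorem f707377 : v8780 = (LP (LK LD1_c5 LD2_c48 LD3_c15)) :=
  Lefun (Lecon (f672273 IH) (f707374 IH)) (f56775 IH)
theorem f707378 : v2201 = (LP (LK LD1_c2 LD2_c50 LD3_c10)) :=
  Lefun (Lecon (Lfl_bf (f672271 IH)) (f707377 IH)) (f56785 IH)
theorem f707383 : v6446 = (LP (LK LD1_c4 LD2_c34 LD3_c30)) :=
  Lefun (Lecon (f653449 IH) (f707378 IH)) (Lfl_af (f436683 IH))
theorem f149714 : Led Lsl_af (LP (LK LD1_c4 LD2_c38 LD3_c30)) = (LP (LK LD1_c2 LD2_c57 LD3_c15)) :=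
  Lgr Lrot117 (Lpr_dt (K7.f149712 IH) (Lpr_at (K6.f119744 IH) (Lpr_dt (K7.f149665 IH) (Lpn (LP (LK LD1_c2 LD2_c57 LD3_c15))))))
theorem f149707 : Led Lsl_et (LP (LK LD1_c4 LD2_c38 LD3_c30)) = (LP (LK LD1_c9 LD2_c12 LD3_c54)) :=
  Lre_e IH (LK LD1_c4 LD2_c38 LD3_c30) (LK LD1_c9 LD2_c12 LD3_c54) Lrfl Lrfl
theorem f56800 : Led Lsl_et (LP (LK LD1_c6 LD2_c2 LD3_c19)) = (LP (LK LD1_c2 LD2_c57 LD3_c15)) :=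
  Lre_e IH (LK LD1_c6 LD2_c2 LD3_c19) (LK LD1_c2 LD2_c57 LD3_c15) Lrfl Lrfl
theorem f436639 : Led Lsl_at (LP (LK LD1_c9 LD2_c12 LD3_c54)) = (LP (LK LD1_c6 LD2_c2 LD3_c19)) :=
  Lgr Lrot80 (Lpe (f149707 IH) (Lpr_af (f149714 IH) (Lpe (f56800 IH) (Lpn (LP (LK LD1_c6 LD2_c2 LD3_c19))))))
theorem f124533 : Led Lsl_bt (LP (LK LD1_c17 LD2_c7 LD3_c20)) = (LP (LK LD1_c9 LD2_c12 LD3_c54)) :=
  Lre_b IH (LK LD1_c17 LD2_c7 LD3_c20) (LK LD1_c9 LD2_c12 LD3_c54) Lrfl Lrfl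
theorem f96250 : Led Lsl_bt (LP (LK LD1_c6 LD2_c10 LD3_c34)) = (LP (LK LD1_c12 LD2_c1 LD3_c38)) :=
  Lre_b IH (LK LD1_c6 LD2_c10 LD3_c34) (LK LD1_c12 LD2_c1 LD3_c38) Lrfl Lrfl
theorem f150962 : Led Lsl_et (LP (LK LD1_c3 LD2_c15 LD3_c41)) = (LP (LK LD1_c6 LD2_c34 LD3_c34)) :=
  Lre_e IH (LK LD1_c3 LD2_c15 LD3_c41) (LK LD1_c6 LD2_c34 LD3_c34) Lrfl Lrfl
theorem f150963 : Led Lsl_et (LP (LK LD1_c12 LD2_c1 LD3_c43)) = (LP (LK LD1_c6 LD2_c10 LD3_c35)) :=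
  Lre_e IH (LK LD1_c12 LD2_c1 LD3_c43) (LK LD1_c6 LD2_c10 LD3_c35) Lrfl Lrfl
theorem f150964 : Led Lsl_at (LP (LK LD1_c6 LD2_c34 LD3_c34)) = (LP (LK LD1_c12 LD2_c1 LD3_c43)) :=
  Lgr Lrot80 (Lpe (f150962 IH) (Lpr_af (K46.f150949 IH) (Lpe (f150963 IH) (Lpn (LP (LK LD1_c12 LD2_c1 LD3_c43))))))
theorem f65757 : Led Lsl_ft (LP (LK LD1_c12 LD2_c35 LD3_c36)) = (LP (LK LD1_c6 LD2_c34 LD3_c34)) :=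
  Lre_f IH (LK LD1_c12 LD2_c35 LD3_c36) (LK LD1_c6 LD2_c34 LD3_c34) Lrfl Lrfl
theorem f96285 : Led Lsl_ft (LP (LK LD1_c12 LD2_c1 LD3_c43)) = (LP (LK LD1_c21 LD2_c7 LD3_c10)) :=
  Lre_f IH (LK LD1_c12 LD2_c1 LD3_c43) (LK LD1_c21 LD2_c7 LD3_c10) Lrfl Lrfl
theorem f151013 : Led Lsl_af (LP (LK LD1_c12 LD2_c35 LD3_c36)) = (LP (LK LD1_c21 LD2_c7 LD3_c10)) :=
  Lgr Lrot45 (Lpr_ft (f65757 IH) (Lpr_at (f150964 IH) (Lpr_ft (f96285 IH) (Lpn (LP (LK LD1_c21 LD2_c7 LD3_c10))))))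
theorem f151017 : Led Lsl_at (LP (LK LD1_c12 LD2_c35 LD3_c36)) = (LP (LK LD1_c21 LD2_c7 LD3_c10)) :=
  Lgr Lrot100 (Lpr_af (f151013 IH) (Lpn (LP (LK LD1_c21 LD2_c7 LD3_c10))))
theorem f65747 : Led Lsl_dt (LP (LK LD1_c6 LD2_c34 LD3_c35)) = (LP (LK LD1_c12 LD2_c35 LD3_c36)) :=
  Lre_d IH (LK LD1_c6 LD2_c34 LD3_c35) (LK LD1_c12 LD2_c35 LD3_c36) Lrfl Lrfl
theorem f96275 : Led Lsl_dt (LP (LK LD1_c21 LD2_c7 LD3_c10)) = (LP (LK LD1_c12 LD2_c1 LD3_c44)) :=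
  Lre_d IH (LK LD1_c21 LD2_c7 LD3_c10) (LK LD1_c12 LD2_c1 LD3_c44) Lrfl Lrfl
theorem f151019 : Led Lsl_af (LP (LK LD1_c6 LD2_c34 LD3_c35)) = (LP (LK LD1_c12 LD2_c1 LD3_c44)) :=
  Lgr Lrot117 (Lpr_dt (f65747 IH) (Lpr_at (f151017 IH) (Lpr_dt (f96275 IH) (Lpn (LP (LK LD1_c12 LD2_c1 LD3_c44))))))
theorem f65720 : Led Lsl_ft (LP (LK LD1_c6 LD2_c34 LD3_c35)) = (LP (LK LD1_c3 LD2_c15 LD3_c38)) :=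
  Lre_f IH (LK LD1_c6 LD2_c34 LD3_c35) (LK LD1_c3 LD2_c15 LD3_c38) Lrfl Lrfl
theorem f151025 : Led Lsl_at (LP (LK LD1_c3 LD2_c15 LD3_c38)) = (LP (LK LD1_c6 LD2_c10 LD3_c34)) :=
  Lgr Lrot66 (Lpe (f65720 IH) (Lpr_af (f151019 IH) (Lpe (K4.f96255 IH) (Lpn (LP (LK LD1_c6 LD2_c10 LD3_c34))))))
theorem f436643 : Led Lsl_bf (LP (LK LD1_c3 LD2_c15 LD3_c38)) = (LP (LK LD1_c6 LD2_c2 LD3_c19)) :=
  Lgr Lrot81 (Lpr_at (f151025 IH) (Lpr_bt (f96250 IH) (Lpe (K6.f141703 IH) (Lpr_bt (f124533 IH) (Lpr_at (f436639 IH) (Lpn (LP (LK LD1_c6 LD2_c2 LD3_c19))))))))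
theorem f436647 : Led Lsl_bt (LP (LK LD1_c3 LD2_c15 LD3_c38)) = (LP (LK LD1_c6 LD2_c2 LD3_c19)) :=
  Lgr Lrot127 (Lpr_bf (f436643 IH) (Lpn (LP (LK LD1_c6 LD2_c2 LD3_c19))))
theorem f65710 : Led Lsl_et (LP (LK LD1_c1 LD2_c34 LD3_c32)) = (LP (LK LD1_c3 LD2_c15 LD3_c38)) :=
  Lre_e IH (LK LD1_c1 LD2_c34 LD3_c32) (LK LD1_c3 LD2_c15 LD3_c38) Lrfl Lrfl
theorem f64005 : Led Lsl_et (LP (LK LD1_c1 LD2_c52 LD3_c31)) = (LP (LK LD1_c0 LD2_c52 LD3_c58)) :=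
  Lre_e IH (LK LD1_c1 LD2_c52 LD3_c31) (LK LD1_c0 LD2_c52 LD3_c58) Lrfl Lrfl
theorem f65711 : Led Lsl_ct (LP (LK LD1_c3 LD2_c15 LD3_c38)) = (LP (LK LD1_c1 LD2_c52 LD3_c31)) :=
  Lgr Lrot15 (Lpe (f65710 IH) (Lpr_cf (K2.f65701 IH) (Lpe (f64005 IH) (Lpn (LP (LK LD1_c1 LD2_c52 LD3_c31))))))
theorem f65716 : Led Lsl_cf (LP (LK LD1_c3 LD2_c15 LD3_c38)) = (LP (LK LD1_c1 LD2_c52 LD3_c31)) :=
  Lgr Lrot11 (Lpr_ct (f65711 IH) (Lpn (LP (LK LD1_c1 LD2_c52 LD3_c31))))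
theorem f65758 : Led Lsl_bt (LP (LK LD1_c3 LD2_c51 LD3_c22)) = (LP (LK LD1_c1 LD2_c52 LD3_c31)) :=
  Lre_b IH (LK LD1_c3 LD2_c51 LD3_c22) (LK LD1_c1 LD2_c52 LD3_c31) Lrfl Lrfl
theorem f436669 : Led Lsl_cf (LP (LK LD1_c3 LD2_c51 LD3_c22)) = (LP (LK LD1_c2 LD2_c50 LD3_c10)) :=
  Lgr Lrot97 (Lpr_bt (f65758 IH) (Lpe (f65716 IH) (Lpr_bt (f436647 IH) (Lpr_ct (f56775 IH) (Lpr_bt (f56785 IH) (Lpn (LP (LK LD1_c2 LD2_c50 LD3_c10))))))))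
theorem f130605 : Led Lsl_at (LP (LK LD1_c3 LD2_c51 LD3_c22)) = (LP (LK LD1_c7 LD2_c44 LD3_c9)) :=
  Lre_a IH (LK LD1_c3 LD2_c51 LD3_c22) (LK LD1_c7 LD2_c44 LD3_c9) Lrfl Lrfl
theorem f136239 : Led Lsl_et (LP (LK LD1_c2 LD2_c50 LD3_c10)) = (LP (LK LD1_c1 LD2_c21 LD3_c8)) :=
  Lre_e IH (LK LD1_c2 LD2_c50 LD3_c10) (LK LD1_c1 LD2_c21 LD3_c8) Lrfl Lrfl
theorem f146609 : Led Lsl_at (LP (LK LD1_c4 LD2_c34 LD3_c30)) = (LP (LK LD1_c2 LD2_c50 LD3_c10)) :=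
  Lgr Lrot80 (Lpe (K5.f130543 IH) (Lpr_af (K6.f146488 IH) (Lpe (f136239 IH) (Lpn (LP (LK LD1_c2 LD2_c50 LD3_c10))))))
theorem f436671 : Led Lsl_ct (LP (LK LD1_c7 LD2_c44 LD3_c9)) = (LP (LK LD1_c4 LD2_c34 LD3_c30)) :=
  Lgr Lrot111 (Lpe (f130605 IH) (Lpr_cf (f436669 IH) (Lpe (f146609 IH) (Lpn (LP (LK LD1_c4 LD2_c34 LD3_c30))))))
theorem f454458 : Led Lsl_ct (LP (LK LD1_c3 LD2_c21 LD3_c48)) = (LP (LK LD1_c6 LD2_c47 LD3_c18)) :=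
  Lre_c IH (LK LD1_c3 LD2_c21 LD3_c48) (LK LD1_c6 LD2_c47 LD3_c18) Lrfl Lrfl
theorem f707394 : Led Lsl_ff (LP (LK LD1_c7 LD2_c44 LD3_c9)) = (LP (LK LD1_c6 LD2_c47 LD3_c18)) :=
  Lgr Lrot23 (Lpr_ct (f436671 IH) (Lpq (f707383 IH) (Lpe (f653448 IH) (Lpr_ct (f454458 IH) (Lpn (LP (LK LD1_c6 LD2_c47 LD3_c18)))))))
theorem f707404 : Led Lsl_ft (LP (LK LD1_c7 LD2_c44 LD3_c9)) = (LP (LK LD1_c6 LD2_c47 LD3_c18)) :=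
  Lgr Lrot48 (Lpr_ff (f707394 IH) (Lpn (LP (LK LD1_c6 LD2_c47 LD3_c18))))
theorem f454461 : Led Lsl_dt (LP (LK LD1_c6 LD2_c47 LD3_c18)) = (LP (LK LD1_c12 LD2_c57 LD3_c38)) :=
  Lre_d IH (LK LD1_c6 LD2_c47 LD3_c18) (LK LD1_c12 LD2_c57 LD3_c38) Lrfl Lrfl
theorem f707412 : Led Lsl_ff (LP (LK LD1_c14 LD2_c35 LD3_c23)) = (LP (LK LD1_c12 LD2_c57 LD3_c38)) :=
  Lgr Lrot19 (Lpr_dt (K5.f65979 IH) (Lpr_ft (f707404 IH) (Lpr_dt (f454461 IH) (Lpn (LP (LK LD1_c12 LD2_c57 LD3_c38))))))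
theorem f652806 : Led Lsl_bt (LP (LK LD1_c12 LD2_c54 LD3_c4)) = (LP (LK LD1_c6 LD2_c44 LD3_c54)) :=
  Lre_b IH (LK LD1_c12 LD2_c54 LD3_c4) (LK LD1_c6 LD2_c44 LD3_c54) Lrfl Lrfl
theorem f508792 : Led Lsl_bt (LP (LK LD1_c3 LD2_c18 LD3_c6)) = (LP (LK LD1_c1 LD2_c35 LD3_c34)) :=
  Lre_b IH (LK LD1_c3 LD2_c18 LD3_c6) (LK LD1_c1 LD2_c35 LD3_c34) Lrfl Lrfl
theorem f624495 : Led Lsl_ct (LP (LK LD1_c3 LD2_c18 LD3_c6)) = (LP (LK LD1_c6 LD2_c40 LD3_c4)) :=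
  Lre_c IH (LK LD1_c3 LD2_c18 LD3_c6) (LK LD1_c6 LD2_c40 LD3_c4) Lrfl Lrfl
theorem f651160 : Led Lsl_gt (LP (LK LD1_c6 LD2_c40 LD3_c4)) = (LP (LK LD1_c12 LD2_c46 LD3_c2)) :=
  Lre_g IH (LK LD1_c6 LD2_c40 LD3_c4) (LK LD1_c12 LD2_c46 LD3_c2) Lrfl Lrfl
theorem f652820 : Led Lsl_ct (LP (LK LD1_c12 LD2_c54 LD3_c4)) = (LP (LK LD1_c12 LD2_c46 LD3_c2)) :=
  Lgr Lrot10 (Lpr_bt (f652806 IH) (Lpr_gt (K46.f652816 IH) (Lpr_ct (K46.f509306 IH) (Lpr_gt (K46.f438065 IH) (Lpe (K46.f508784 IH) (Lpr_bt (K46.f508783 IH) (Lpr_gt (K46.f65677 IH) (Lpe (f508792 IH) (Lpr_ct (f624495 IH) (Lpr_gt (f651160 IH) (Lpn (LP (LK LD1_c12 LD2_c46 LD3_c2)))))))))))))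
theorem f652827 : Led Lsl_cf (LP (LK LD1_c12 LD2_c54 LD3_c4)) = (LP (LK LD1_c12 LD2_c46 LD3_c2)) :=
  Lgr Lrot11 (Lpr_ct (f652820 IH) (Lpn (LP (LK LD1_c12 LD2_c46 LD3_c2))))
theorem f509328 : Led Lsl_ct (LP (LK LD1_c6 LD2_c44 LD3_c54)) = (LP (LK LD1_c6 LD2_c47 LD3_c17)) :=
  Lre_c IH (LK LD1_c6 LD2_c44 LD3_c54) (LK LD1_c6 LD2_c47 LD3_c17) Lrfl Lrfl
theorem f454463 : Led Lsl_bt (LP (LK LD1_c6 LD2_c47 LD3_c17)) = (LP (LK LD1_c3 LD2_c21 LD3_c48)) :=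
  Lre_b IH (LK LD1_c6 LD2_c47 LD3_c17) (LK LD1_c3 LD2_c21 LD3_c48) Lrfl Lrfl
theorem f652831 : Led Lsl_bt (LP (LK LD1_c6 LD2_c47 LD3_c18)) = (LP (LK LD1_c12 LD2_c46 LD3_c2)) :=
  Lgr Lrot128 (Lpe (f454458 IH) (Lpe (f454463 IH) (Lpe (f509328 IH) (Lpe (f652806 IH) (Lpr_cf (f652827 IH) (Lpn (LP (LK LD1_c12 LD2_c46 LD3_c2))))))))
theorem f454459 : Led Lsl_dt (LP (LK LD1_c12 LD2_c57 LD3_c38)) = (LP (LK LD1_c6 LD2_c47 LD3_c18)) :=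
  Lre_d IH (LK LD1_c12 LD2_c57 LD3_c38) (LK LD1_c6 LD2_c47 LD3_c18) Lrfl Lrfl
theorem f652829 : Led Lsl_dt (LP (LK LD1_c12 LD2_c46 LD3_c2)) = (LP (LK LD1_c21 LD2_c53 LD3_c23)) :=
  Lre_d IH (LK LD1_c12 LD2_c46 LD3_c2) (LK LD1_c21 LD2_c53 LD3_c23) Lrfl Lrfl
theorem f652834 : Led Lsl_bf (LP (LK LD1_c12 LD2_c57 LD3_c38)) = (LP (LK LD1_c21 LD2_c53 LD3_c23)) :=
  Lgr Lrot93 (Lpr_dt (f454459 IH) (Lpr_bt (f652831 IH) (Lpr_dt (f652829 IH) (Lpn (LP (LK LD1_c21 LD2_c53 LD3_c23))))))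
theorem f707419 : Led Lsl_ft (LP (LK LD1_c22 LD2_c35 LD3_c32)) = (LP (LK LD1_c21 LD2_c53 LD3_c23)) :=
  Lgr Lrot75 (Lpr_bf (K5.f130618 IH) (Lpr_ff (f707412 IH) (Lpr_bf (f652834 IH) (Lpn (LP (LK LD1_c21 LD2_c53 LD3_c23))))))
theorem f707435 : Led Lsl_ff (LP (LK LD1_c22 LD2_c35 LD3_c32)) = (LP (LK LD1_c21 LD2_c53 LD3_c23)) :=
  Lgr Lrot3 (Lpr_ft (f707419 IH) (Lpn (LP (LK LD1_c21 LD2_c53 LD3_c23))))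
theorem f437120 : Led Lsl_ft (LP (LK LD1_c13 LD2_c19 LD3_c15)) = (LP (LK LD1_c22 LD2_c35 LD3_c44)) :=
  Lre_f IH (LK LD1_c13 LD2_c19 LD3_c15) (LK LD1_c22 LD2_c35 LD3_c44) Lrfl Lrfl
theorem f707437 : Led Lsl_at (LP (LK LD1_c22 LD2_c35 LD3_c44)) = (LP (LK LD1_c21 LD2_c53 LD3_c23)) :=
  Lgr Lrot66 (Lpe (f437120 IH) (Lpe (K5.f130623 IH) (Lpr_ff (f707435 IH) (Lpn (LP (LK LD1_c21 LD2_c53 LD3_c23))))))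
theorem f130601 : Led Lsl_dt (LP (LK LD1_c13 LD2_c19 LD3_c16)) = (LP (LK LD1_c22 LD2_c35 LD3_c44)) :=
  Lre_d IH (LK LD1_c13 LD2_c19 LD3_c16) (LK LD1_c22 LD2_c35 LD3_c44) Lrfl Lrfl
theorem f652830 : Led Lsl_dt (LP (LK LD1_c21 LD2_c53 LD3_c23)) = (LP (LK LD1_c12 LD2_c46 LD3_c2)) :=
  Lre_d IH (LK LD1_c21 LD2_c53 LD3_c23) (LK LD1_c12 LD2_c46 LD3_c2) Lrfl Lrfl
theorem f707444 : Led Lsl_af (LP (LK LD1_c13 LD2_c19 LD3_c16)) = (LP (LK LD1_c12 LD2_c46 LD3_c2)) :=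
  Lgr Lrot117 (Lpr_dt (f130601 IH) (Lpr_at (f707437 IH) (Lpr_dt (f652830 IH) (Lpn (LP (LK LD1_c12 LD2_c46 LD3_c2))))))
theorem f707449 : Led Lsl_at (LP (LK LD1_c13 LD2_c19 LD3_c16)) = (LP (LK LD1_c12 LD2_c46 LD3_c2)) :=
  Lgr Lrot100 (Lpr_af (f707444 IH) (Lpn (LP (LK LD1_c12 LD2_c46 LD3_c2))))
theorem f438077 : Led Lsl_ft (LP (LK LD1_c7 LD2_c1 LD3_c23)) = (LP (LK LD1_c13 LD2_c19 LD3_c16)) :=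
  Lre_f IH (LK LD1_c7 LD2_c1 LD3_c23) (LK LD1_c13 LD2_c19 LD3_c16) Lrfl Lrfl
theorem f707462 : Led Lsl_gt (LP (LK LD1_c7 LD2_c1 LD3_c23)) = (LP (LK LD1_c6 LD2_c40 LD3_c4)) :=
  Lgr Lrot5 (Lpr_ft (f438077 IH) (Lpr_at (f707449 IH) (Lpe (f651160 IH) (Lpn (LP (LK LD1_c6 LD2_c40 LD3_c4))))))
theorem f96268 : Led Lsl_bt (LP (LK LD1_c3 LD2_c29 LD3_c55)) = (LP (LK LD1_c7 LD2_c1 LD3_c23)) :=
  Lre_b IH (LK LD1_c3 LD2_c29 LD3_c55) (LK LD1_c7 LD2_c1 LD3_c23) Lrfl Lrfl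
theorem f111576 : Led Lsl_ft (LP (LK LD1_c12 LD2_c35 LD3_c6)) = (LP (LK LD1_c6 LD2_c34 LD3_c16)) :=
  Lre_f IH (LK LD1_c12 LD2_c35 LD3_c6) (LK LD1_c6 LD2_c34 LD3_c16) Lrfl Lrfl
theorem f207553 : Led Lsl_ft (LP (LK LD1_c6 LD2_c36 LD3_c55)) = (LP (LK LD1_c12 LD2_c39 LD3_c38)) :=
  Lre_f IH (LK LD1_c6 LD2_c36 LD3_c55) (LK LD1_c12 LD2_c39 LD3_c38) Lrfl Lrfl
theorem f207554 : Led Lsl_af (LP (LK LD1_c12 LD2_c35 LD3_c6)) = (LP (LK LD1_c12 LD2_c39 LD3_c38)) :=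
  Lgr Lrot45 (Lpr_ft (f111576 IH) (Lpr_at (K46.f207547 IH) (Lpr_ft (f207553 IH) (Lpn (LP (LK LD1_c12 LD2_c39 LD3_c38))))))
theorem f94150 : Led Lsl_ft (LP (LK LD1_c6 LD2_c36 LD3_c53)) = (LP (LK LD1_c12 LD2_c39 LD3_c33)) :=
  Lre_f IH (LK LD1_c6 LD2_c36 LD3_c53) (LK LD1_c12 LD2_c39 LD3_c33) Lrfl Lrfl
theorem f94151 : Led Lsl_cf (LP (LK LD1_c7 LD2_c32 LD3_c8)) = (LP (LK LD1_c12 LD2_c39 LD3_c33)) :=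
  Lgr Lrot108 (Lpr_ft (K4.f94149 IH) (Lpr_ct (K3.f94142 IH) (Lpr_ft (f94150 IH) (Lpn (LP (LK LD1_c12 LD2_c39 LD3_c33))))))
theorem f94155 : Led Lsl_ct (LP (LK LD1_c7 LD2_c32 LD3_c8)) = (LP (LK LD1_c12 LD2_c39 LD3_c33)) :=
  Lgr Lrot59 (Lpr_cf (f94151 IH) (Lpn (LP (LK LD1_c12 LD2_c39 LD3_c33))))
theorem f94158 : Led Lsl_ft (LP (LK LD1_c12 LD2_c39 LD3_c33)) = (LP (LK LD1_c6 LD2_c36 LD3_c53)) :=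
  Lre_f IH (LK LD1_c12 LD2_c39 LD3_c33) (LK LD1_c6 LD2_c36 LD3_c53) Lrfl Lrfl
theorem f111569 : Led Lsl_ft (LP (LK LD1_c6 LD2_c34 LD3_c16)) = (LP (LK LD1_c12 LD2_c35 LD3_c6)) :=
  Lre_f IH (LK LD1_c6 LD2_c34 LD3_c16) (LK LD1_c12 LD2_c35 LD3_c6) Lrfl Lrfl
theorem f111570 : Led Lsl_ef (LP (LK LD1_c12 LD2_c39 LD3_c33)) = (LP (LK LD1_c12 LD2_c35 LD3_c6)) :=
  Lgr Lrot21 (Lpr_ft (f94158 IH) (Lpr_et (K3.f94141 IH) (Lpr_ft (K4.f111562 IH) (Lpr_et (K46.f96716 IH) (Lpr_ft (f111569 IH) (Lpn (LP (LK LD1_c12 LD2_c35 LD3_c6))))))))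
theorem f111573 : Led Lsl_et (LP (LK LD1_c12 LD2_c39 LD3_c33)) = (LP (LK LD1_c12 LD2_c35 LD3_c6)) :=
  Lgr Lrot87 (Lpr_ef (f111570 IH) (Lpn (LP (LK LD1_c12 LD2_c35 LD3_c6))))
theorem f111589 : Led Lsl_ct (LP (LK LD1_c12 LD2_c35 LD3_c6)) = (LP (LK LD1_c7 LD2_c38 LD3_c21)) :=
  Lgr Lrot15 (Lpe (f111573 IH) (Lpe (f94155 IH) (Lpr_ef (K4.f111584 IH) (Lpn (LP (LK LD1_c7 LD2_c38 LD3_c21))))))
theorem f111643 : Led Lsl_af (LP (LK LD1_c7 LD2_c32 LD3_c22)) = (LP (LK LD1_c7 LD2_c38 LD3_c21)) :=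
  Lgr Lrot0 (Lpr_at (K4.f111586 IH) (Lpn (LP (LK LD1_c7 LD2_c38 LD3_c21))))
theorem f207563 : Led Lsl_ct (LP (LK LD1_c7 LD2_c32 LD3_c22)) = (LP (LK LD1_c12 LD2_c39 LD3_c38)) :=
  Lgr Lrot111 (Lpr_af (f111643 IH) (Lpe (f111589 IH) (Lpr_af (f207554 IH) (Lpn (LP (LK LD1_c12 LD2_c39 LD3_c38))))))
theorem f207571 : Led Lsl_cf (LP (LK LD1_c7 LD2_c32 LD3_c22)) = (LP (LK LD1_c12 LD2_c39 LD3_c38)) :=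
  Lgr Lrot11 (Lpr_ct (f207563 IH) (Lpn (LP (LK LD1_c12 LD2_c39 LD3_c38))))
theorem f207573 : Led Lsl_ct (LP (LK LD1_c3 LD2_c45 LD3_c49)) = (LP (LK LD1_c6 LD2_c36 LD3_c55)) :=
  Lgr Lrot40 (Lpe (K4.f109258 IH) (Lpr_cf (f207571 IH) (Lpe (f207553 IH) (Lpn (LP (LK LD1_c6 LD2_c36 LD3_c55))))))
theorem f93632 : Led Lsl_gt (LP (LK LD1_c3 LD2_c45 LD3_c49)) = (LP (LK LD1_c7 LD2_c32 LD3_c19)) :=
  Lre_g IH (LK LD1_c3 LD2_c45 LD3_c49) (LK LD1_c7 LD2_c32 LD3_c19) Lrfl Lrfl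
theorem f93633 : Led Lsl_dt (LP (LK LD1_c7 LD2_c32 LD3_c19)) = (LP (LK LD1_c14 LD2_c13 LD3_c2)) :=
  Lre_d IH (LK LD1_c7 LD2_c32 LD3_c19) (LK LD1_c14 LD2_c13 LD3_c2) Lrfl Lrfl
theorem f93631 : Led Lsl_et (LP (LK LD1_c1 LD2_c49 LD3_c61)) = (LP (LK LD1_c3 LD2_c45 LD3_c49)) :=
  Lre_e IH (LK LD1_c1 LD2_c49 LD3_c61) (LK LD1_c3 LD2_c45 LD3_c49) Lrfl Lrfl
theorem f93634 : Led Lsl_gt (LP (LK LD1_c3 LD2_c46 LD3_c46)) = (LP (LK LD1_c1 LD2_c50 LD3_c29)) :=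
  Lre_g IH (LK LD1_c3 LD2_c46 LD3_c46) (LK LD1_c1 LD2_c50 LD3_c29) Lrfl Lrfl
theorem f93635 : Led Lsl_et (LP (LK LD1_c7 LD2_c34 LD3_c28)) = (LP (LK LD1_c3 LD2_c46 LD3_c46)) :=
  Lre_e IH (LK LD1_c7 LD2_c34 LD3_c28) (LK LD1_c3 LD2_c46 LD3_c46) Lrfl Lrfl
theorem f93636 : Led Lsl_dt (LP (LK LD1_c7 LD2_c34 LD3_c28)) = (LP (LK LD1_c14 LD2_c16 LD3_c58)) :=
  Lre_d IH (LK LD1_c7 LD2_c34 LD3_c28) (LK LD1_c14 LD2_c16 LD3_c58) Lrfl Lrfl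
theorem f93637 : Led Lsl_gt (LP (LK LD1_c14 LD2_c13 LD3_c2)) = (LP (LK LD1_c14 LD2_c16 LD3_c58)) :=
  Lgr Lrot139 (Lpe (f93633 IH) (Lpe (f93632 IH) (Lpe (f93631 IH) (Lpr_dt (K3.f65700 IH) (Lpr_gf (K5.f93620 IH) (Lpe (K1.f62804 IH) (Lpr_et (K3.f65231 IH) (Lpe (f93634 IH) (Lpe (f93635 IH) (Lpr_dt (f93636 IH) (Lpn (LP (LK LD1_c14 LD2_c16 LD3_c58)))))))))))))
theorem f93642 : Led Lsl_dt (LP (LK LD1_c14 LD2_c16 LD3_c58)) = (LP (LK LD1_c7 LD2_c34 LD3_c28)) :=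
  Lre_d IH (LK LD1_c14 LD2_c16 LD3_c58) (LK LD1_c7 LD2_c34 LD3_c28) Lrfl Lrfl
theorem f93644 : Led Lsl_ct (LP (LK LD1_c14 LD2_c16 LD3_c55)) = (LP (LK LD1_c7 LD2_c34 LD3_c28)) :=
  Lre_c IH (LK LD1_c14 LD2_c16 LD3_c55) (LK LD1_c7 LD2_c34 LD3_c28) Lrfl Lrfl
theorem f93645 : Led Lsl_dt (LP (LK LD1_c23 LD2_c54 LD3_c8)) = (LP (LK LD1_c14 LD2_c16 LD3_c55)) :=
  Lre_d IH (LK LD1_c23 LD2_c54 LD3_c8) (LK LD1_c14 LD2_c16 LD3_c55) Lrfl Lrfl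
theorem f207565 : Led Lsl_gt (LP (LK LD1_c6 LD2_c36 LD3_c55)) = (LP (LK LD1_c12 LD2_c39 LD3_c35)) :=
  Lre_g IH (LK LD1_c6 LD2_c36 LD3_c55) (LK LD1_c12 LD2_c39 LD3_c35) Lrfl Lrfl
theorem f207569 : Led Lsl_dt (LP (LK LD1_c12 LD2_c39 LD3_c35)) = (LP (LK LD1_c21 LD2_c45 LD3_c42)) :=
  Lre_d IH (LK LD1_c12 LD2_c39 LD3_c35) (LK LD1_c21 LD2_c45 LD3_c42) Lrfl Lrfl
theorem f207575 : Led Lsl_gf (LP (LK LD1_c23 LD2_c54 LD3_c8)) = (LP (LK LD1_c21 LD2_c45 LD3_c42)) :=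
  Lgr Lrot154 (Lpr_dt (f93645 IH) (Lpr_ct (f93644 IH) (Lpe (f93642 IH) (Lpe (f93637 IH) (Lpe (f93633 IH) (Lpe (f93632 IH) (Lpr_ct (f207573 IH) (Lpr_gt (f207565 IH) (Lpr_dt (f207569 IH) (Lpn (LP (LK LD1_c21 LD2_c45 LD3_c42))))))))))))
theorem f207578 : Led Lsl_dt (LP (LK LD1_c14 LD2_c16 LD3_c55)) = (LP (LK LD1_c23 LD2_c54 LD3_c8)) :=
  Lre_d IH (LK LD1_c14 LD2_c16 LD3_c55) (LK LD1_c23 LD2_c54 LD3_c8) Lrfl Lrfl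
theorem f207579 : Led Lsl_et (LP (LK LD1_c14 LD2_c16 LD3_c55)) = (LP (LK LD1_c7 LD2_c34 LD3_c26)) :=
  Lre_e IH (LK LD1_c14 LD2_c16 LD3_c55) (LK LD1_c7 LD2_c34 LD3_c26) Lrfl Lrfl
theorem f96240 : Led Lsl_et (LP (LK LD1_c3 LD2_c1 LD3_c55)) = (LP (LK LD1_c6 LD2_c10 LD3_c34)) :=
  Lre_e IH (LK LD1_c3 LD2_c1 LD3_c55) (LK LD1_c6 LD2_c10 LD3_c34) Lrfl Lrfl
theorem f207583 : Led Lsl_gt (LP (LK LD1_c7 LD2_c34 LD3_c26)) = (LP (LK LD1_c6 LD2_c10 LD3_c34)) :=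
  Lgr Lrot131 (Lpe (f207579 IH) (Lpr_dt (f207578 IH) (Lpr_gf (f207575 IH) (Lpe (f207569 IH) (Lpe (f207565 IH) (Lpe (K46.f96093 IH) (Lpr_dt (K3.f96087 IH) (Lpe (K5.f96103 IH) (Lpe (K5.f63849 IH) (Lpr_et (f96240 IH) (Lpn (LP (LK LD1_c6 LD2_c10 LD3_c34)))))))))))))
theorem f207589 : Led Lsl_ct (LP (LK LD1_c3 LD2_c46 LD3_c46)) = (LP (LK LD1_c7 LD2_c34 LD3_c26)) :=
  Lre_c IH (LK LD1_c3 LD2_c46 LD3_c46) (LK LD1_c7 LD2_c34 LD3_c26) Lrfl Lrfl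
def v6781 : LQ := Led Lsl_ft (LP (LK LD1_c3 LD2_c29 LD3_c27))
theorem f658413 : Led Lsl_ft (LP (LK LD1_c3 LD2_c29 LD3_c27)) = v6781 :=
  Lrfl
theorem f658417 : Led Lsl_ff (LP (LK LD1_c3 LD2_c29 LD3_c27)) = v6781 :=
  Lgr Lrot3 (Lpr_ft (f658413 IH) (Lpn v6781))
theorem f658421 : Led Lsl_gf (LP (LK LD1_c3 LD2_c46 LD3_c46)) = v6781 :=
  Lgr Lrot47 (Lpr_gt (f93634 IH) (Lpr_af (K3.f105343 IH) (Lpr_ff (f658417 IH) (Lpn v6781))))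
def v13751 : LQ := Led Lsl_ft (LP (LK LD1_c4 LD2_c47 LD3_c48))
theorem f704652 : Led Lsl_ft (LP (LK LD1_c4 LD2_c47 LD3_c48)) = v13751 :=
  Lrfl
theorem f704654 : Led Lsl_bf v6781 = v13751 :=
  Lgr Lrot61 (Lpe (f658417 IH) (Lpe (K4.f120591 IH) (Lpr_ft (f704652 IH) (Lpn v13751))))
def v13315 : LQ := Led Lsl_ft (LP (LK LD1_c4 LD2_c43 LD3_c5))
theorem f702291 : Led Lsl_ft (LP (LK LD1_c4 LD2_c43 LD3_c5)) = v13315 :=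
  Lrfl
theorem f702296 : Led Lsl_ff (LP (LK LD1_c4 LD2_c43 LD3_c5)) = v13315 :=
  Lgr Lrot3 (Lpr_ft (f702291 IH) (Lpn v13315))
theorem f704655 : Led Lsl_cf v13315 = v13751 :=
  Lgr Lrot108 (Lpe (f702296 IH) (Lpe (K4.f120607 IH) (Lpr_ft (f704652 IH) (Lpn v13751))))
theorem f120605 : Led Lsl_af (LP (LK LD1_c3 LD2_c14 LD3_c35)) = (LP (LK LD1_c4 LD2_c43 LD3_c5)) :=
  Lgr Lrot68 (Lpr_ct (K4.f103532 IH) (Lpe (K4.f120209 IH) (Lpr_ct (K4.f120603 IH) (Lpn (LP (LK LD1_c4 LD2_c43 LD3_c5))))))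
theorem f103554 : Led Lsl_ft (LP (LK LD1_c3 LD2_c14 LD3_c35)) = (LP (LK LD1_c6 LD2_c32 LD3_c43)) :=
  Lre_f IH (LK LD1_c3 LD2_c14 LD3_c35) (LK LD1_c6 LD2_c32 LD3_c43) Lrfl Lrfl
theorem f702298 : Led Lsl_at (LP (LK LD1_c6 LD2_c32 LD3_c43)) = v13315 :=
  Lgr Lrot66 (Lpe (f103554 IH) (Lpr_af (f120605 IH) (Lpr_ff (f702296 IH) (Lpn v13315))))
theorem f103545 : Led Lsl_gt (LP (LK LD1_c3 LD2_c14 LD3_c35)) = (LP (LK LD1_c6 LD2_c32 LD3_c42)) :=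
  Lre_g IH (LK LD1_c3 LD2_c14 LD3_c35) (LK LD1_c6 LD2_c32 LD3_c42) Lrfl Lrfl
theorem f702303 : Led Lsl_gt (LP (LK LD1_c6 LD2_c32 LD3_c42)) = v13315 :=
  Lgr Lrot46 (Lpe (f103545 IH) (Lpr_ft (f103554 IH) (Lpr_at (f702298 IH) (Lpn v13315))))
def v13893 : LQ := Led Lsl_gf (LP (LK LD1_c4 LD2_c49 LD3_c42))
theorem f705735 : Led Lsl_gf (LP (LK LD1_c4 LD2_c49 LD3_c42)) = v13893 :=
  Lrfl
theorem f414466 : Led Lsl_ct (LP (LK LD1_c2 LD2_c22 LD3_c36)) = (LP (LK LD1_c4 LD2_c49 LD3_c42)) :=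
  Lre_c IH (LK LD1_c2 LD2_c22 LD3_c36) (LK LD1_c4 LD2_c49 LD3_c42) Lrfl Lrfl
def v13699 : LQ := Led Lsl_ct (LP (LK LD1_c4 LD2_c47 LD3_c16))
theorem f704408 : Led Lsl_ct (LP (LK LD1_c4 LD2_c47 LD3_c16)) = v13699 :=
  Lrfl
theorem f704409 : Led Lsl_cf (LP (LK LD1_c4 LD2_c47 LD3_c16)) = v13699 :=
  Lgr Lrot11 (Lpr_ct (f704408 IH) (Lpn v13699))
theorem f73778 : Led Lsl_bt (LP (LK LD1_c1 LD2_c37 LD3_c39)) = (LP (LK LD1_c3 LD2_c22 LD3_c45)) :=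
  Lre_b IH (LK LD1_c1 LD2_c37 LD3_c39) (LK LD1_c3 LD2_c22 LD3_c45) Lrfl Lrfl
def v6501 : LQ := Led Lsl_gf (LP (LK LD1_c3 LD2_c22 LD3_c45))
theorem f653655 : Led Lsl_gf (LP (LK LD1_c3 LD2_c22 LD3_c45)) = v6501 :=
  Lrfl
theorem f704413 : Led Lsl_bf v6501 = v13699 :=
  Lgr Lrot156 (Lpe (f653655 IH) (Lpe (f73778 IH) (Lpr_ct (K17.f76927 IH) (Lpr_gt (K17.f61053 IH) (Lpe (K24.f23210 IH) (Lpr_bt (K49.f76947 IH) (Lpr_gt (K35.f76948 IH) (Lpr_ct (K35.f76953 IH) (Lpr_gt (K35.f76954 IH) (Lpr_cf (f704409 IH) (Lpn v13699)))))))))))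
def v6502 : LQ := Led Lsl_at (LP (LK LD1_c3 LD2_c22 LD3_c45))
theorem f653656 : Led Lsl_at (LP (LK LD1_c3 LD2_c22 LD3_c45)) = v6502 :=
  Lrfl
def v2232 : LQ := Led Lsl_ft (LP (LK LD1_c1 LD2_c38 LD3_c22))
theorem f509773 : Led Lsl_ft (LP (LK LD1_c1 LD2_c38 LD3_c22)) = v2232 :=
  Lrfl
theorem f509775 : Led Lsl_ff (LP (LK LD1_c1 LD2_c38 LD3_c22)) = v2232 :=
  Lgr Lrot3 (Lpr_ft (f509773 IH) (Lpn v2232))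
def v572 : LQ := Led Lsl_ft (LP (LK LD1_c0 LD2_c45 LD3_c35))
theorem f454821 : Led Lsl_ft (LP (LK LD1_c0 LD2_c45 LD3_c35)) = v572 :=
  Lrfl
theorem f509776 : Led Lsl_bt v572 = v2232 :=
  Lgr Lrot35 (Lpe (f454821 IH) (Lpe (K49.f73755 IH) (Lpr_ff (f509775 IH) (Lpn v2232))))
theorem f509857 : (LP (LK LD1_c1 LD2_c37 LD3_c39)) = v572 :=
  Lefun (Lecon (Lfl_ff (K32.f509703 IH)) (K35.f509842 IH).symm) (f454821 IH)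
theorem f509883 : v2232 = (LP (LK LD1_c3 LD2_c22 LD3_c45)) :=
  Lefun (Lecon (f509776 IH) (f509857 IH).symm) (f73778 IH)
theorem f653659 : Led Lsl_ff (LP (LK LD1_c3 LD2_c24 LD3_c11)) = v6502 :=
  Lgr Lrot30 (Lpr_at (K49.f454815 IH) (Lpr_ft (f509773 IH) (Lpqs (f509883 IH) (Lpr_at (f653656 IH) (Lpn v6502)))))
theorem f653662 : Led Lsl_ft (LP (LK LD1_c3 LD2_c24 LD3_c11)) = v6502 :=
  Lgr Lrot48 (Lpr_ff (f653659 IH) (Lpn v6502))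
theorem f653657 : Led Lsl_af (LP (LK LD1_c3 LD2_c22 LD3_c45)) = v6502 :=
  Lgr Lrot0 (Lpr_at (f653656 IH) (Lpn v6502))
theorem f653664 : Led Lsl_gt (LP (LK LD1_c3 LD2_c24 LD3_c11)) = v6501 :=
  Lgr Lrot5 (Lpr_ft (f653662 IH) (Lpe (f653657 IH) (Lpr_gf (f653655 IH) (Lpn v6501))))
def v8224 : LQ := Led Lsl_ct K35.v1930
theorem f670424 : Led Lsl_ct K35.v1930 = v8224 :=
  Lrfl
def v6614 : LQ := Led Lsl_at (LP (LK LD1_c3 LD2_c24 LD3_c13))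
theorem f654425 : Led Lsl_at (LP (LK LD1_c3 LD2_c24 LD3_c13)) = v6614 :=
  Lrfl
theorem f654427 : Led Lsl_cf K35.v2240 = v6614 :=
  Lgr Lrot1 (Lpe (K35.f510426 IH) (Lpr_ct (K49.f414461 IH) (Lpr_at (f654425 IH) (Lpn v6614))))
theorem f670427 : Led Lsl_ff v6614 = v8224 :=
  Lgr Lrot23 (Lpe (f654427 IH) (Lpr_ft (K35.f527805 IH) (Lpr_ct (f670424 IH) (Lpn v8224))))
theorem f654426 : Led Lsl_af (LP (LK LD1_c3 LD2_c24 LD3_c13)) = v6614 :=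
  Lgr Lrot0 (Lpr_at (f654425 IH) (Lpn v6614))
theorem f670429 : Led Lsl_at K50.v6617 = v8224 :=
  Lgr Lrot66 (Lpe (K50.f654441 IH) (Lpr_af (f654426 IH) (Lpr_ff (f670427 IH) (Lpn v8224))))
theorem f670431 : Led Lsl_gt K49.v6612 = v8224 :=
  Lgr Lrot46 (Lpe (K49.f654421 IH) (Lpr_ft (K50.f654441 IH) (Lpr_at (f670429 IH) (Lpn v8224))))
def v7902 : LQ := Led Lsl_gt K49.v1354
theorem f668930 : Led Lsl_gt K49.v1354 = v7902 :=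
  Lrfl
theorem f704415 : K49.v8572 = v7902 :=
  (Llr Lrot125 (Lpe (K49.f671641 IH) (Lpr_gt (f670431 IH) (Lpe (f670424 IH) (Lpe (K49.f527803 IH) (Lpr_gt (f653664 IH) (Lpr_bf (f704413 IH) (Lpe (f704409 IH) (Lpr_gt (K35.f633382 IH) (Lpe (K35.f495052 IH) (Lpr_bt (K49.f495069 IH) (Lpr_gt (f668930 IH) (Lpn v7902))))))))))))).symm
theorem f671619 : Led Lsl_ff K49.v2096 = K49.v8567 :=
  Lgr Lrot3 (Lpr_ft (K49.f671618 IH) (Lpn K49.v8567))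
theorem f671635 : Led Lsl_at K49.v2096 = K49.v8571 :=
  Lgr Lrot66 (Lpr_ff (f671619 IH) (Lpe (K49.f671616 IH) (Lpr_ff (K49.f671634 IH) (Lpn K49.v8571))))
theorem f671633 : Led Lsl_bf K49.v2194 = K49.v8571 :=
  Lgr Lrot61 (Lpe (K49.f509554 IH) (Lpr_bt (K49.f509545 IH) (Lpqs (K49.f653976 IH) (Lpr_ft (K49.f671631 IH) (Lpn K49.v8571)))))
theorem f509553 : Led Lsl_af K46.v566 = K49.v2194 :=
  Lgr Lrot45 (Lpr_ft (K46.f509543 IH) (Lpe (K46.f509542 IH) (Lpr_ft (K49.f509552 IH) (Lpn K49.v2194))))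
theorem f671640 : Led Lsl_at K49.v3199 = K49.v8572 :=
  Lgr Lrot67 (Lpe (K49.f624596 IH) (Lpr_af (f509553 IH) (Lpr_bf (f671633 IH) (Lpe (f671635 IH) (Lpr_bf (K49.f671639 IH) (Lpn K49.v8572))))))
def v7903 : LQ := Led Lsl_gf K49.v1354
theorem f668931 : Led Lsl_gf K49.v1354 = v7903 :=
  Lrfl
theorem f704416 : K49.v8750 = v7903 :=
  (Llr Lrot52 (Lpe (K49.f672196 IH) (Lpr_at (f671640 IH) (Lpqs (f704415 IH) (Lpe (f668930 IH) (Lpr_gf (f668931 IH) (Lpn v7903))))))).symm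
theorem f651281 : Led Lsl_bf (LP (LK LD1_c3 LD2_c18 LD3_c7)) = K46.v6115 :=
  Lgr Lrot24 (Lpr_bt (K46.f651280 IH) (Lpn K46.v6115))
theorem f705738 : Led Lsl_ct K46.v6115 = v13893 :=
  Lgr Lrot64 (Lpe (f651281 IH) (Lpqs (K46.f649461 IH) (Lpe (K46.f527786 IH) (Lpr_bf (K34.f124463 IH) (Lpr_ct (K50.f632305 IH) (Lpr_gf (K50.f668937 IH) (Lpe (K49.f668934 IH) (Lpr_gf (f668931 IH) (Lpq (f704416 IH) (Lpq (K49.f678936 IH) (Lpe (K49.f634229 IH) (Lpr_ct (f414466 IH) (Lpr_gf (f705735 IH) (Lpn v13893))))))))))))))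
theorem f649469 : Led Lsl_ct (LP (LK LD1_c6 LD2_c40 LD3_c4)) = (LP (LK LD1_c3 LD2_c18 LD3_c6)) :=
  Lre_c IH (LK LD1_c6 LD2_c40 LD3_c4) (LK LD1_c3 LD2_c18 LD3_c6) Lrfl Lrfl
theorem f705740 : Led Lsl_bf (LP (LK LD1_c6 LD2_c40 LD3_c4)) = v13893 :=
  Lgr Lrot90 (Lpr_ct (f649469 IH) (Lpr_bt (f508792 IH) (Lpr_ct (K46.f508797 IH) (Lpr_bt (K46.f651280 IH) (Lpr_ct (f705738 IH) (Lpn v13893))))))
theorem f705741 : Led Lsl_cf K46.v6115 = v13893 :=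
  Lgr Lrot11 (Lpr_ct (f705738 IH) (Lpn v13893))
theorem f707475 : (LP (LK LD1_c6 LD2_c32 LD3_c42)) = K46.v6115 :=
  (Llr Lrot126 (Lpr_gt (f702303 IH) (Lpr_cf (f704655 IH) (Lpe (f704654 IH) (Lpe (f658421 IH) (Lpr_ct (f207589 IH) (Lpr_gt (f207583 IH) (Lpe (K4.f96244 IH) (Lpr_bt (f96268 IH) (Lpr_gt (f707462 IH) (Lpr_bf (f705740 IH) (Lpe (f705741 IH) (Lpn K46.v6115))))))))))))).symm
theorem f653813 : Led Lsl_ff (LP (LK LD1_c3 LD2_c23 LD3_c9)) = K46.v6529 :=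
  Lgr Lrot3 (Lpr_ft (K46.f653811 IH) (Lpn K46.v6529))
theorem f416429 : Led Lsl_bf (LP (LK LD1_c3 LD2_c18 LD3_c11)) = (LP (LK LD1_c3 LD2_c23 LD3_c9)) :=
  Lgr Lrot24 (Lpr_bt (K46.f416427 IH) (Lpn (LP (LK LD1_c3 LD2_c23 LD3_c9))))
theorem f653814 : Led Lsl_bt K46.v6114 = K46.v6529 :=
  Lgr Lrot35 (Lpe (K46.f651278 IH) (Lpr_bf (f416429 IH) (Lpr_ff (f653813 IH) (Lpn K46.v6529))))
theorem f653815 : Led Lsl_af K46.v6115 = (LP (LK LD1_c6 LD2_c49 LD3_c41)) :=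
  Lgr Lrot36 (Lpe (f651281 IH) (Lpr_at (K46.f651274 IH) (Lpr_bt (f653814 IH) (Lpe (K46.f653810 IH) (Lpr_bt (K46.f76886 IH) (Lpn (LP (LK LD1_c6 LD2_c49 LD3_c41))))))))
theorem f653816 : Led Lsl_at K46.v6115 = (LP (LK LD1_c6 LD2_c49 LD3_c41)) :=
  Lgr Lrot100 (Lpr_af (f653815 IH) (Lpn (LP (LK LD1_c6 LD2_c49 LD3_c41))))
theorem f707476 : Led Lsl_at (LP (LK LD1_c6 LD2_c32 LD3_c42)) = (LP (LK LD1_c6 LD2_c49 LD3_c41)) :=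
  Leop (Lpe (f653816 IH) (Lpq (f707475 IH) (Lpn (LP (LK LD1_c6 LD2_c32 LD3_c42)))))
theorem seed_707 : LEOK LG_a (LK LD1_c6 LD2_c32 LD3_c42) :=
  Leoe_a (LK LD1_c6 LD2_c32 LD3_c42) (f707476 IH)
def v8320 : LQ := Led Lsl_gt K48.v1984
theorem f670791 : Led Lsl_gt K48.v1984 = v8320 :=
  Lrfl
theorem f670792 : Led Lsl_gf K48.v5357 = v8320 :=
  Lgr Lrot76 (Lpe (K48.f647241 IH) (Lpr_ff (K48.f640055 IH) (Lpr_gt (f670791 IH) (Lpn v8320))))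
theorem f89400 : Led Lsl_bt (LP (LK LD1_c3 LD2_c7 LD3_c0)) = (LP (LK LD1_c1 LD2_c29 LD3_c46)) :=
  Lre_b IH (LK LD1_c3 LD2_c7 LD3_c0) (LK LD1_c1 LD2_c29 LD3_c46) Lrfl Lrfl
theorem f128635 : Led Lsl_at (LP (LK LD1_c3 LD2_c12 LD3_c16)) = (LP (LK LD1_c6 LD2_c28 LD3_c31)) :=
  Lre_a IH (LK LD1_c3 LD2_c12 LD3_c16) (LK LD1_c6 LD2_c28 LD3_c31) Lrfl Lrfl
theorem f128636 : Led Lsl_bt (LP (LK LD1_c1 LD2_c32 LD3_c39)) = (LP (LK LD1_c3 LD2_c12 LD3_c16)) :=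
  Lre_b IH (LK LD1_c1 LD2_c32 LD3_c39) (LK LD1_c3 LD2_c12 LD3_c16) Lrfl Lrfl
theorem f128637 : Led Lsl_at (LP (LK LD1_c1 LD2_c29 LD3_c46)) = (LP (LK LD1_c1 LD2_c32 LD3_c39)) :=
  Lgr Lrot67 (Lpe (f89400 IH) (Lpr_af (K5.f126511 IH) (Lpr_bf (K5.f128631 IH) (Lpe (f128635 IH) (Lpe (f128636 IH) (Lpn (LP (LK LD1_c1 LD2_c32 LD3_c39))))))))
theorem f128437 : Led Lsl_gt (LP (LK LD1_c3 LD2_c12 LD3_c21)) = (LP (LK LD1_c1 LD2_c32 LD3_c39)) :=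
  Lre_g IH (LK LD1_c3 LD2_c12 LD3_c21) (LK LD1_c1 LD2_c32 LD3_c39) Lrfl Lrfl
theorem f440093 : Led Lsl_gt (LP (LK LD1_c3 LD2_c7 LD3_c10)) = (LP (LK LD1_c3 LD2_c12 LD3_c21)) :=
  Lgr Lrot5 (Lpr_ft (K4.f112027 IH) (Lpr_at (f128637 IH) (Lpe (f128437 IH) (Lpn (LP (LK LD1_c3 LD2_c12 LD3_c21))))))
def v5746 : LQ := Led Lsl_bt (LP (LK LD1_c3 LD2_c12 LD3_c44))
theorem f649172 : Led Lsl_bt (LP (LK LD1_c3 LD2_c12 LD3_c44)) = v5746 :=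
  Lrfl
theorem f649175 : Led Lsl_ef K48.v1984 = v5746 :=
  Lgr Lrot29 (Lpe (K48.f506758 IH) (Lpe (K29.f79712 IH) (Lpr_bt (f649172 IH) (Lpn v5746))))
theorem f649174 : Led Lsl_df K48.v1982 = v5746 :=
  Lgr Lrot12 (Lpe (K48.f506752 IH) (Lpr_dt (K24.f61029 IH) (Lpr_bt (f649172 IH) (Lpn v5746))))
def v8318 : LQ := Led Lsl_gf K48.v1982
theorem f670779 : Led Lsl_gf K48.v1982 = v8318 :=
  Lrfl
theorem f670780 : Led Lsl_dt v6501 = v8318 :=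
  Lgr Lrot6 (Lpe (f653655 IH) (Lpr_ct (K46.f76966 IH) (Lpr_gt (K49.f663080 IH) (Lpe (K49.f124552 IH) (Lpr_df (K49.f207463 IH) (Lpr_cf (K24.f128374 IH) (Lpr_gf (K48.f649030 IH) (Lpr_cf (K48.f663134 IH) (Lpr_gf (f670779 IH) (Lpn v8318))))))))))
def v6608 : LQ := Led Lsl_et (LP (LK LD1_c3 LD2_c24 LD3_c11))
theorem f654400 : Led Lsl_et (LP (LK LD1_c3 LD2_c24 LD3_c11)) = v6608 :=
  Lrfl
theorem f654402 : Led Lsl_ef (LP (LK LD1_c3 LD2_c24 LD3_c11)) = v6608 :=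
  Lgr Lrot88 (Lpr_et (f654400 IH) (Lpn v6608))
def v2231 : LQ := Led Lsl_et (LP (LK LD1_c1 LD2_c38 LD3_c22))
theorem f509767 : Led Lsl_et (LP (LK LD1_c1 LD2_c38 LD3_c22)) = v2231 :=
  Lrfl
theorem f654403 : Led Lsl_at v2231 = v6608 :=
  Lgr Lrot80 (Lpe (f509767 IH) (Lpe (K49.f454815 IH) (Lpr_ef (f654402 IH) (Lpn v6608))))
theorem f509769 : Led Lsl_ef (LP (LK LD1_c1 LD2_c38 LD3_c22)) = v2231 :=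
  Lgr Lrot88 (Lpr_et (f509767 IH) (Lpn v2231))
theorem f509770 : Led Lsl_bt (LP (LK LD1_c1 LD2_c38 LD3_c24)) = v2231 :=
  Lgr Lrot119 (Lpe (K35.f73781 IH) (Lpe (K49.f73755 IH) (Lpr_ef (f509769 IH) (Lpn v2231))))
theorem f509771 : Led Lsl_df (LP (LK LD1_c3 LD2_c22 LD3_c45)) = v2231 :=
  Lgr Lrot12 (Lpr_bt (K46.f73783 IH) (Lpe (K24.f73779 IH) (Lpr_bt (f509770 IH) (Lpn v2231))))
theorem f509772 : Led Lsl_dt (LP (LK LD1_c3 LD2_c22 LD3_c45)) = v2231 :=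
  Lgr Lrot42 (Lpr_df (f509771 IH) (Lpn v2231))
theorem f654404 : Led Lsl_df v6502 = v6608 :=
  Lgr Lrot18 (Lpe (f653657 IH) (Lpr_dt (f509772 IH) (Lpr_at (f654403 IH) (Lpn v6608))))
theorem f653660 : Led Lsl_gt (LP (LK LD1_c3 LD2_c24 LD3_c10)) = v6502 :=
  Lgr Lrot46 (Lpe (K46.f140064 IH) (Lpr_ft (f509773 IH) (Lpqs (f509883 IH) (Lpr_at (f653656 IH) (Lpn v6502)))))
def v6604 : LQ := Led Lsl_dt (LP (LK LD1_c3 LD2_c24 LD3_c10))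
theorem f654388 : Led Lsl_dt (LP (LK LD1_c3 LD2_c24 LD3_c10)) = v6604 :=
  Lrfl
theorem f654389 : Led Lsl_df (LP (LK LD1_c3 LD2_c24 LD3_c10)) = v6604 :=
  Lgr Lrot38 (Lpr_dt (f654388 IH) (Lpn v6604))
theorem f670793 : Led Lsl_et v6604 = v8320 :=
  Lgr Lrot122 (Lpe (f654389 IH) (Lpr_gt (f653660 IH) (Lpr_df (f654404 IH) (Lpe (f654402 IH) (Lpr_gt (f653664 IH) (Lpr_dt (f670780 IH) (Lpe (f670779 IH) (Lpr_df (f649174 IH) (Lpe (f649175 IH) (Lpr_gt (f670791 IH) (Lpn v8320)))))))))))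
def v4310 : LQ := Led Lsl_ft (LP (LK LD1_c2 LD2_c19 LD3_c12))
theorem f632584 : Led Lsl_ft (LP (LK LD1_c2 LD2_c19 LD3_c12)) = v4310 :=
  Lrfl
theorem f632586 : Led Lsl_df (LP (LK LD1_c3 LD2_c12 LD3_c13)) = v4310 :=
  Lgr Lrot78 (Lpr_ft (K5.f131497 IH) (Lpe (K5.f131513 IH) (Lpr_ft (f632584 IH) (Lpn v4310))))
theorem f120612 : Led Lsl_bt (LP (LK LD1_c2 LD2_c19 LD3_c12)) = (LP (LK LD1_c4 LD2_c43 LD3_c5)) :=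
  Lre_b IH (LK LD1_c2 LD2_c19 LD3_c12) (LK LD1_c4 LD2_c43 LD3_c5) Lrfl Lrfl
theorem f632588 : Led Lsl_ff (LP (LK LD1_c2 LD2_c19 LD3_c12)) = v4310 :=
  Lgr Lrot3 (Lpr_ft (f632584 IH) (Lpn v4310))
theorem f702293 : Led Lsl_bf v4310 = v13315 :=
  Lgr Lrot61 (Lpe (f632588 IH) (Lpr_bt (f120612 IH) (Lpr_ft (f702291 IH) (Lpn v13315))))
theorem f707485 : (LP (LK LD1_c6 LD2_c47 LD3_c0)) = v13315 :=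
  Lefun (Lecon (Lfl_gf (K46.f651282 IH)) (f707475 IH).symm) (f702303 IH)
theorem f707496 : v4310 = (LP (LK LD1_c3 LD2_c24 LD3_c10)) :=
  Lefun (Lecon (Lfl_bf (f702293 IH)) (f707485 IH).symm) (K46.f140065 IH)
theorem f707513 : (LP (LK LD1_c3 LD2_c12 LD3_c13)) = v6604 :=
  Lefun (Lecon (Lfl_df (f632586 IH)) (f707496 IH)) (f654388 IH)
theorem f707571 : v8320 = (LP (LK LD1_c3 LD2_c7 LD3_c10)) :=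
  Lefun (Lecon (f670793 IH) (f707513 IH).symm) (K4.f112020 IH)
theorem f707593 : K48.v5357 = (LP (LK LD1_c3 LD2_c12 LD3_c21)) :=
  Lefun (Lecon (Lfl_gf (f670792 IH)) (f707571 IH)) (f440093 IH)
theorem f707611 : Led Lsl_at (LP (LK LD1_c3 LD2_c6 LD3_c42)) = (LP (LK LD1_c3 LD2_c12 LD3_c21)) :=
  Leop (Lpq (f707593 IH) (Lpe (K48.f647241 IH) (Lpn (LP (LK LD1_c3 LD2_c6 LD3_c42)))))
theorem seed_708 : LEOK LG_a (LK LD1_c3 LD2_c6 LD3_c42) :=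
  Leoe_a (LK LD1_c3 LD2_c6 LD3_c42) (f707611 IH)
theorem f707677 : Led Lsl_et (LP (LK LD1_c12 LD2_c27 LD3_c59)) = (LP (LK LD1_c6 LD2_c28 LD3_c28)) :=
  Lre_e IH (LK LD1_c12 LD2_c27 LD3_c59) (LK LD1_c6 LD2_c28 LD3_c28) Lrfl Lrfl
def v5716 : LQ := Led Lsl_gt (LP (LK LD1_c3 LD2_c12 LD3_c26))
theorem f649028 : Led Lsl_gt (LP (LK LD1_c3 LD2_c12 LD3_c26)) = v5716 :=
  Lrfl
theorem f128398 : Led Lsl_ft (LP (LK LD1_c3 LD2_c12 LD3_c26)) = (LP (LK LD1_c6 LD2_c28 LD3_c58)) :=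
  Lre_f IH (LK LD1_c3 LD2_c12 LD3_c26) (LK LD1_c6 LD2_c28 LD3_c58) Lrfl Lrfl
theorem f649029 : Led Lsl_gf (LP (LK LD1_c9 LD2_c20 LD3_c47)) = v5716 :=
  Lgr Lrot76 (Lpr_af (K48.f207452 IH) (Lpe (f128398 IH) (Lpr_gt (f649028 IH) (Lpn v5716))))
theorem f662783 : K48.v4252 = (LP (LK LD1_c3 LD2_c43 LD3_c19)) :=
  Lefun (Lecon (K48.f632221 IH) ((K46.f649434 IH).symm.trans (K48.f662780 IH))) (Lfl_gt (K48.f148104 IH))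
theorem f209500 : Led Lsl_ct (LP (LK LD1_c3 LD2_c43 LD3_c19)) = (LP (LK LD1_c7 LD2_c27 LD3_c17)) :=
  Lre_c IH (LK LD1_c3 LD2_c43 LD3_c19) (LK LD1_c7 LD2_c27 LD3_c17) Lrfl Lrfl
theorem f662802 : K48.v7261 = (LP (LK LD1_c7 LD2_c27 LD3_c17)) :=
  Lefun (Lecon (K48.f662716 IH) (f662783 IH)) (f209500 IH)
def v1840 : LQ := Led Lsl_ft (LP (LK LD1_c1 LD2_c29 LD3_c37))
theorem f504502 : Led Lsl_ft (LP (LK LD1_c1 LD2_c29 LD3_c37)) = v1840 :=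
  Lrfl
theorem f504505 : Led Lsl_ff (LP (LK LD1_c1 LD2_c29 LD3_c37)) = v1840 :=
  Lgr Lrot3 (Lpr_ft (f504502 IH) (Lpn v1840))
theorem f504507 : Led Lsl_ct K48.v1791 = v1840 :=
  Lgr Lrot40 (Lpe (K48.f502928 IH) (Lpr_cf (K9.f140023 IH) (Lpr_ff (f504505 IH) (Lpn v1840))))
theorem f639192 : v1840 = (LP (LK LD1_c1 LD2_c32 LD3_c49)) :=
  Lefun (Lecon (f504507 IH) (K48.f639188 IH)) (K17.f61039 IH)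
theorem f639204 : (LP (LK LD1_c1 LD2_c29 LD3_c37)) = K48.v1979 :=
  Lefun (Lecon (Lfl_ff (f504505 IH)) (f639192 IH)) (K48.f506732 IH)
def v5375 : LQ := Led Lsl_at (LP (LK LD1_c3 LD2_c6 LD3_c59))
theorem f647290 : Led Lsl_at (LP (LK LD1_c3 LD2_c6 LD3_c59)) = v5375 :=
  Lrfl
theorem f647291 : Led Lsl_af (LP (LK LD1_c3 LD2_c6 LD3_c59)) = v5375 :=
  Lgr Lrot0 (Lpr_at (f647290 IH) (Lpn v5375))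
theorem f649151 : Led Lsl_bf v5375 = K48.v5742 :=
  Lgr Lrot81 (Lpe (f647291 IH) (Lpr_bt (K38.f66981 IH) (Lpqs (f639204 IH) (Lpe (K48.f506731 IH) (Lpr_bt (K34.f139987 IH) (Lpr_at (K48.f649149 IH) (Lpn K48.v5742)))))))
theorem f649154 : Led Lsl_bt v5375 = K48.v5742 :=
  Lgr Lrot127 (Lpr_bf (f649151 IH) (Lpn K48.v5742))
theorem f663135 : Led Lsl_cf v5716 = v5375 :=
  Lgr Lrot160 (Lpe (f649029 IH) (Lpr_cf (K48.f649700 IH) (Lpqs (K48.f663054 IH) (Lpq (K48.f663054 IH) (Lpqs (K48.f662815 IH) (Lpe (K48.f646822 IH) (Lpr_gt (K48.f632215 IH) (Lpqs (f662783 IH) (Lpr_ct (f209500 IH) (Lpq (f662802 IH) (Lpe (K48.f662713 IH) (Lpr_cf (K46.f208917 IH) (Lpr_bt (K35.f208924 IH) (Lpr_gt (K48.f506395 IH) (Lpq (K48.f649372 IH) (Lpe (f649154 IH) (Lpn v5375)))))))))))))))))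
theorem f62925 : Led Lsl_ct (LP (LK LD1_c3 LD2_c12 LD3_c11)) = (LP (LK LD1_c6 LD2_c28 LD3_c28)) :=
  Lre_c IH (LK LD1_c3 LD2_c12 LD3_c11) (LK LD1_c6 LD2_c28 LD3_c28) Lrfl Lrfl
def v8319 : LQ := Led Lsl_at K48.v1982
theorem f670782 : Led Lsl_at K48.v1982 = v8319 :=
  Lrfl
theorem f140037 : Led Lsl_bt (LP (LK LD1_c1 LD2_c29 LD3_c37)) = (LP (LK LD1_c3 LD2_c6 LD3_c59)) :=
  Lre_b IH (LK LD1_c1 LD2_c29 LD3_c37) (LK LD1_c3 LD2_c6 LD3_c59) Lrfl Lrfl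
theorem f640445 : Led Lsl_ff K48.v1982 = (LP (LK LD1_c3 LD2_c6 LD3_c59)) :=
  Lgr Lrot25 (Lpe (K48.f506752 IH) (Lpq (f639192 IH) (Lpe (f504505 IH) (Lpr_bt (f140037 IH) (Lpn (LP (LK LD1_c3 LD2_c6 LD3_c59)))))))
theorem f670785 : Led Lsl_ff v5375 = v8319 :=
  Lgr Lrot30 (Lpe (f647291 IH) (Lpe (f640445 IH) (Lpr_at (f670782 IH) (Lpn v8319))))
theorem f670788 : Led Lsl_ft v5375 = v8319 :=
  Lgr Lrot48 (Lpr_ff (f670785 IH) (Lpn v8319))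
theorem f670783 : Led Lsl_af K48.v1982 = v8319 :=
  Lgr Lrot0 (Lpr_at (f670782 IH) (Lpn v8319))
theorem f670790 : Led Lsl_gt v5375 = v8318 :=
  Lgr Lrot5 (Lpr_ft (f670788 IH) (Lpe (f670783 IH) (Lpr_gf (f670779 IH) (Lpn v8318))))
theorem f131493 : Led Lsl_af (LP (LK LD1_c3 LD2_c7 LD3_c16)) = (LP (LK LD1_c3 LD2_c12 LD3_c13)) :=
  Lgr Lrot0 (Lpr_at (K5.f131487 IH) (Lpn (LP (LK LD1_c3 LD2_c12 LD3_c13))))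
theorem f62914 : Led Lsl_gt (LP (LK LD1_c1 LD2_c32 LD3_c36)) = (LP (LK LD1_c3 LD2_c12 LD3_c11)) :=
  Lre_g IH (LK LD1_c1 LD2_c32 LD3_c36) (LK LD1_c3 LD2_c12 LD3_c11) Lrfl Lrfl
theorem f439739 : Led Lsl_gf (LP (LK LD1_c3 LD2_c7 LD3_c16)) = (LP (LK LD1_c3 LD2_c12 LD3_c11)) :=
  Lgr Lrot76 (Lpr_af (f131493 IH) (Lpe (K4.f112025 IH) (Lpr_gt (f62914 IH) (Lpn (LP (LK LD1_c3 LD2_c12 LD3_c11))))))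
theorem f128446 : Led Lsl_ft (LP (LK LD1_c3 LD2_c7 LD3_c16)) = (LP (LK LD1_c1 LD2_c29 LD3_c52)) :=
  Lre_f IH (LK LD1_c3 LD2_c7 LD3_c16) (LK LD1_c1 LD2_c29 LD3_c52) Lrfl Lrfl
theorem f120114 : Led Lsl_ft (LP (LK LD1_c1 LD2_c30 LD3_c2)) = (LP (LK LD1_c3 LD2_c7 LD3_c38)) :=
  Lre_f IH (LK LD1_c1 LD2_c30 LD3_c2) (LK LD1_c3 LD2_c7 LD3_c38) Lrfl Lrfl
theorem f131451 : Led Lsl_df (LP (LK LD1_c3 LD2_c7 LD3_c16)) = (LP (LK LD1_c3 LD2_c7 LD3_c38)) :=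
  Lgr Lrot78 (Lpr_ft (f128446 IH) (Lpr_dt (K5.f131442 IH) (Lpr_ft (f120114 IH) (Lpn (LP (LK LD1_c3 LD2_c7 LD3_c38))))))
def v4308 : LQ := Led Lsl_gt (LP (LK LD1_c2 LD2_c19 LD3_c12))
theorem f632581 : Led Lsl_gt (LP (LK LD1_c2 LD2_c19 LD3_c12)) = v4308 :=
  Lrfl
theorem f131464 : Led Lsl_ft (LP (LK LD1_c3 LD2_c7 LD3_c38)) = (LP (LK LD1_c1 LD2_c30 LD3_c2)) :=
  Lre_f IH (LK LD1_c3 LD2_c7 LD3_c38) (LK LD1_c1 LD2_c30 LD3_c2) Lrfl Lrfl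
theorem f632585 : Led Lsl_af (LP (LK LD1_c3 LD2_c7 LD3_c38)) = v4310 :=
  Lgr Lrot45 (Lpr_ft (f131464 IH) (Lpe (K5.f120131 IH) (Lpr_ft (f632584 IH) (Lpn v4310))))
theorem f632589 : Led Lsl_gt v4308 = (LP (LK LD1_c3 LD2_c7 LD3_c38)) :=
  Lgr Lrot46 (Lpe (f632581 IH) (Lpr_ft (f632584 IH) (Lpe (f632585 IH) (Lpn (LP (LK LD1_c3 LD2_c7 LD3_c38))))))
def v5415 : LQ := Led Lsl_dt (LP (LK LD1_c3 LD2_c7 LD3_c37))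
theorem f647530 : Led Lsl_dt (LP (LK LD1_c3 LD2_c7 LD3_c37)) = v5415 :=
  Lrfl
theorem f647531 : Led Lsl_df (LP (LK LD1_c3 LD2_c7 LD3_c37)) = v5415 :=
  Lgr Lrot38 (Lpr_dt (f647530 IH) (Lpn v5415))
theorem f91451 : Led Lsl_gt (LP (LK LD1_c3 LD2_c7 LD3_c37)) = (LP (LK LD1_c1 LD2_c30 LD3_c2)) :=
  Lre_g IH (LK LD1_c3 LD2_c7 LD3_c37) (LK LD1_c1 LD2_c30 LD3_c2) Lrfl Lrfl
theorem f110446 : Led Lsl_et (LP (LK LD1_c1 LD2_c29 LD3_c52)) = (LP (LK LD1_c0 LD2_c41 LD3_c33)) :=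
  Lre_e IH (LK LD1_c1 LD2_c29 LD3_c52) (LK LD1_c0 LD2_c41 LD3_c33) Lrfl Lrfl
theorem f647532 : Led Lsl_ef v4308 = v5415 :=
  Lgr Lrot17 (Lpe (f632581 IH) (Lpe (K4.f120128 IH) (Lpr_dt (K5.f120126 IH) (Lpe (K2.f23443 IH) (Lpe (K5.f23445 IH) (Lpr_gf (K4.f110440 IH) (Lpe (f110446 IH) (Lpr_dt (K5.f131442 IH) (Lpe (f91451 IH) (Lpr_df (f647531 IH) (Lpn v5415)))))))))))
def v2230 : LQ := Led Lsl_dt (LP (LK LD1_c1 LD2_c38 LD3_c22))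
theorem f509763 : Led Lsl_dt (LP (LK LD1_c1 LD2_c38 LD3_c22)) = v2230 :=
  Lrfl
theorem f509765 : Led Lsl_df (LP (LK LD1_c1 LD2_c38 LD3_c22)) = v2230 :=
  Lgr Lrot38 (Lpr_dt (f509763 IH) (Lpn v2230))
theorem f510308 : Led Lsl_ff v2230 = v2231 :=
  Lgr Lrot19 (Lpe (f509765 IH) (Lpr_ft (f509773 IH) (Lpqs (f509883 IH) (Lpr_dt (f509772 IH) (Lpn v2231)))))
theorem f510309 : Led Lsl_ft v2230 = v2231 :=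
  Lgr Lrot48 (Lpr_ff (f510308 IH) (Lpn v2231))
def v6607 : LQ := Led Lsl_dt (LP (LK LD1_c3 LD2_c24 LD3_c11))
theorem f654396 : Led Lsl_dt (LP (LK LD1_c3 LD2_c24 LD3_c11)) = v6607 :=
  Lrfl
theorem f454820 : Led Lsl_at (LP (LK LD1_c1 LD2_c38 LD3_c22)) = (LP (LK LD1_c3 LD2_c24 LD3_c11)) :=
  Lre_a IH (LK LD1_c1 LD2_c38 LD3_c22) (LK LD1_c3 LD2_c24 LD3_c11) Lrfl Lrfl
theorem f654397 : Led Lsl_af v2230 = v6607 :=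
  Lgr Lrot117 (Lpe (f509765 IH) (Lpr_at (f454820 IH) (Lpr_dt (f654396 IH) (Lpn v6607))))
theorem f654405 : Led Lsl_ff v6607 = v6608 :=
  Lgr Lrot30 (Lpe (f654397 IH) (Lpr_ft (f510309 IH) (Lpr_at (f654403 IH) (Lpn v6608))))
theorem f654398 : Led Lsl_df (LP (LK LD1_c3 LD2_c24 LD3_c11)) = v6607 :=
  Lgr Lrot38 (Lpr_dt (f654396 IH) (Lpn v6607))
theorem f654406 : Led Lsl_dt v6502 = v6608 :=
  Lgr Lrot60 (Lpe (f653662 IH) (Lpr_df (f654398 IH) (Lpr_ff (f654405 IH) (Lpn v6608))))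
theorem f632593 : Led Lsl_gf (LP (LK LD1_c3 LD2_c7 LD3_c37)) = v4310 :=
  Lgr Lrot47 (Lpr_gt (f91451 IH) (Lpe (K4.f120129 IH) (Lpr_ff (f632588 IH) (Lpn v4310))))
theorem f707499 : (LP (LK LD1_c3 LD2_c7 LD3_c37)) = v6502 :=
  Lefun (Lecon (Lfl_gf (f632593 IH)) (f707496 IH)) (f653660 IH)
theorem f707559 : v6608 = v5415 :=
  Lefun (Lecon (f654406 IH) (f707499 IH).symm) (f647530 IH)
theorem f707578 : (LP (LK LD1_c3 LD2_c24 LD3_c11)) = v4308 :=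
  Lefun (Lecon (Lfl_ef (f654402 IH)) (f707559 IH)) (Lfl_ef (f647532 IH))
theorem f707597 : (LP (LK LD1_c3 LD2_c7 LD3_c38)) = v6501 :=
  Lefun (Lecon (f632589 IH) (f707578 IH).symm) (f653664 IH)
theorem f707641 : v8318 = (LP (LK LD1_c3 LD2_c7 LD3_c16)) :=
  Lefun (Lecon (f670780 IH) (f707597 IH).symm) (Lfl_df (f131451 IH))
theorem f707644 : v5375 = (LP (LK LD1_c3 LD2_c12 LD3_c11)) :=
  Lefun (Lecon (Lfl_gt (f670790 IH)) (f707641 IH)) (f439739 IH)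
theorem f707669 : v5716 = (LP (LK LD1_c6 LD2_c28 LD3_c28)) :=
  Lefun (Lecon (Lfl_cf (f663135 IH)) (f707644 IH)) (f62925 IH)
theorem f124088 : Led Lsl_et (LP (LK LD1_c4 LD2_c43 LD3_c13)) = (LP (LK LD1_c2 LD2_c19 LD3_c17)) :=
  Lre_e IH (LK LD1_c4 LD2_c43 LD3_c13) (LK LD1_c2 LD2_c19 LD3_c17) Lrfl Lrfl
theorem f124087 : Led Lsl_dt (LP (LK LD1_c4 LD2_c43 LD3_c13)) = (LP (LK LD1_c9 LD2_c19 LD3_c60)) :=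
  Lre_d IH (LK LD1_c4 LD2_c43 LD3_c13) (LK LD1_c9 LD2_c19 LD3_c60) Lrfl Lrfl
theorem f124086 : Led Lsl_gt (LP (LK LD1_c17 LD2_c15 LD3_c51)) = (LP (LK LD1_c9 LD2_c19 LD3_c60)) :=
  Lre_g IH (LK LD1_c17 LD2_c15 LD3_c51) (LK LD1_c9 LD2_c19 LD3_c60) Lrfl Lrfl
theorem f707686 : Led Lsl_dt (LP (LK LD1_c12 LD2_c27 LD3_c59)) = (LP (LK LD1_c17 LD2_c15 LD3_c51)) :=
  Lgr Lrot136 (Lpr_et (f707677 IH) (Lpq (f707669 IH) (Lpe (f649028 IH) (Lpe (K24.f128373 IH) (Lpr_dt (K8.f82368 IH) (Lpe (K8.f128376 IH) (Lpe (K7.f124082 IH) (Lpe (K5.f26267 IH) (Lpe (f124088 IH) (Lpr_dt (f124087 IH) (Lpe (f124086 IH) (Lpn (LP (LK LD1_c17 LD2_c15 LD3_c51))))))))))))))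
theorem f663136 : Led Lsl_at v5716 = (LP (LK LD1_c6 LD2_c19 LD3_c7)) :=
  Lgr Lrot107 (Lpr_cf (f663135 IH) (Lpe (f647290 IH) (Lpe (K38.f66982 IH) (Lpn (LP (LK LD1_c6 LD2_c19 LD3_c7))))))
theorem f707684 : Led Lsl_af (LP (LK LD1_c12 LD2_c27 LD3_c59)) = (LP (LK LD1_c12 LD2_c13 LD3_c56)) :=
  Lgr Lrot50 (Lpr_et (f707677 IH) (Lpq (f707669 IH) (Lpr_at (f663136 IH) (Lpr_et (K38.f140628 IH) (Lpn (LP (LK LD1_c12 LD2_c13 LD3_c56)))))))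
theorem f66984 : Led Lsl_ct (LP (LK LD1_c3 LD2_c6 LD3_c59)) = (LP (LK LD1_c6 LD2_c19 LD3_c7)) :=
  Lre_c IH (LK LD1_c3 LD2_c6 LD3_c59) (LK LD1_c6 LD2_c19 LD3_c7) Lrfl Lrfl
theorem f663980 : Led Lsl_gf (LP (LK LD1_c6 LD2_c19 LD3_c7)) = (LP (LK LD1_c4 LD2_c43 LD3_c56)) :=
  Lgr Lrot126 (Lpe (f66984 IH) (Lpr_bt (K38.f66981 IH) (Lpr_gt (K9.f66977 IH) (Lpr_ct (K2.f61432 IH) (Lpr_gt (K17.f414299 IH) (Lpe (K17.f414275 IH) (Lpr_bt (K48.f414313 IH) (Lpr_gt (K48.f632208 IH) (Lpqs (K48.f662742 IH) (Lpe (K48.f207458 IH) (Lpr_ct (K24.f207459 IH) (Lpn (LP (LK LD1_c4 LD2_c43 LD3_c56))))))))))))))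
theorem f140616 : Led Lsl_et (LP (LK LD1_c12 LD2_c13 LD3_c56)) = (LP (LK LD1_c6 LD2_c19 LD3_c7)) :=
  Lre_e IH (LK LD1_c12 LD2_c13 LD3_c56) (LK LD1_c6 LD2_c19 LD3_c7) Lrfl Lrfl
theorem f91429 : Led Lsl_dt (LP (LK LD1_c3 LD2_c7 LD3_c41)) = (LP (LK LD1_c6 LD2_c20 LD3_c14)) :=
  Lre_d IH (LK LD1_c3 LD2_c7 LD3_c41) (LK LD1_c6 LD2_c20 LD3_c14) Lrfl Lrfl
theorem f91425 : Led Lsl_gt (LP (LK LD1_c12 LD2_c15 LD3_c7)) = (LP (LK LD1_c6 LD2_c20 LD3_c14)) :=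
  Lre_g IH (LK LD1_c12 LD2_c15 LD3_c7) (LK LD1_c6 LD2_c20 LD3_c14) Lrfl Lrfl
theorem f663984 : Led Lsl_dt (LP (LK LD1_c12 LD2_c13 LD3_c56)) = (LP (LK LD1_c12 LD2_c15 LD3_c7)) :=
  Lgr Lrot136 (Lpr_et (f140616 IH) (Lpr_gf (f663980 IH) (Lpe (K24.f110458 IH) (Lpr_dt (K8.f110448 IH) (Lpr_gf (K8.f160787 IH) (Lpe (K7.f152392 IH) (Lpr_gf (K8.f152428 IH) (Lpe (K5.f91430 IH) (Lpr_dt (f91429 IH) (Lpe (f91425 IH) (Lpn (LP (LK LD1_c12 LD2_c15 LD3_c7)))))))))))))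
theorem f663988 : Led Lsl_df (LP (LK LD1_c12 LD2_c13 LD3_c56)) = (LP (LK LD1_c12 LD2_c15 LD3_c7)) :=
  Lgr Lrot38 (Lpr_dt (f663984 IH) (Lpn (LP (LK LD1_c12 LD2_c15 LD3_c7))))
theorem f707688 : Led Lsl_af (LP (LK LD1_c12 LD2_c15 LD3_c7)) = (LP (LK LD1_c17 LD2_c15 LD3_c51)) :=
  Lgr Lrot117 (Lpe (f663988 IH) (Lpe (f707684 IH) (Lpr_dt (f707686 IH) (Lpn (LP (LK LD1_c17 LD2_c15 LD3_c51))))))
theorem f707692 : Led Lsl_at (LP (LK LD1_c12 LD2_c15 LD3_c7)) = (LP (LK LD1_c17 LD2_c15 LD3_c51)) :=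
  Lgr Lrot100 (Lpr_af (f707688 IH) (Lpn (LP (LK LD1_c17 LD2_c15 LD3_c51))))
theorem f707690 : Led Lsl_df (LP (LK LD1_c12 LD2_c27 LD3_c59)) = (LP (LK LD1_c17 LD2_c15 LD3_c51)) :=
  Lgr Lrot38 (Lpr_dt (f707686 IH) (Lpn (LP (LK LD1_c17 LD2_c15 LD3_c51))))
theorem f707694 : Led Lsl_af (LP (LK LD1_c12 LD2_c13 LD3_c56)) = (LP (LK LD1_c12 LD2_c27 LD3_c59)) :=
  Lgr Lrot117 (Lpr_dt (f663984 IH) (Lpr_at (f707692 IH) (Lpe (f707690 IH) (Lpn (LP (LK LD1_c12 LD2_c27 LD3_c59))))))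
theorem f126980 : Led Lsl_ct (LP (LK LD1_c6 LD2_c28 LD3_c29)) = (LP (LK LD1_c12 LD2_c27 LD3_c59)) :=
  Lre_c IH (LK LD1_c6 LD2_c28 LD3_c29) (LK LD1_c12 LD2_c27 LD3_c59) Lrfl Lrfl
theorem f707696 : Led Lsl_at (LP (LK LD1_c6 LD2_c19 LD3_c8)) = (LP (LK LD1_c6 LD2_c28 LD3_c29)) :=
  Lgr Lrot107 (Lpe (K38.f140606 IH) (Lpr_af (f707694 IH) (Lpe (f126980 IH) (Lpn (LP (LK LD1_c6 LD2_c28 LD3_c29))))))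
def v5480 : LQ := Led Lsl_bt (LP (LK LD1_c3 LD2_c8 LD3_c21))
theorem f647868 : Led Lsl_bt (LP (LK LD1_c3 LD2_c8 LD3_c21)) = v5480 :=
  Lrfl
theorem f647870 : Led Lsl_df (LP (LK LD1_c6 LD2_c19 LD3_c8)) = v5480 :=
  Lgr Lrot12 (Lpr_bt (K38.f67058 IH) (Lpr_dt (K31.f67056 IH) (Lpr_bt (f647868 IH) (Lpn v5480))))
theorem f126960 : Led Lsl_gt (LP (LK LD1_c6 LD2_c21 LD3_c0)) = (LP (LK LD1_c3 LD2_c8 LD3_c10)) :=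
  Lre_g IH (LK LD1_c6 LD2_c21 LD3_c0) (LK LD1_c3 LD2_c8 LD3_c10) Lrfl Lrfl
theorem f120113 : Led Lsl_et (LP (LK LD1_c2 LD2_c19 LD3_c15)) = (LP (LK LD1_c1 LD2_c6 LD3_c45)) :=
  Lre_e IH (LK LD1_c2 LD2_c19 LD3_c15) (LK LD1_c1 LD2_c6 LD3_c45) Lrfl Lrfl
theorem f126971 : Led Lsl_et (LP (LK LD1_c6 LD2_c28 LD3_c29)) = (LP (LK LD1_c3 LD2_c12 LD3_c11)) :=
  Lre_e IH (LK LD1_c6 LD2_c28 LD3_c29) (LK LD1_c3 LD2_c12 LD3_c11) Lrfl Lrfl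
theorem f126972 : Led Lsl_df (LP (LK LD1_c6 LD2_c21 LD3_c0)) = (LP (LK LD1_c6 LD2_c28 LD3_c29)) :=
  Lgr Lrot170 (Lpr_gt (f126960 IH) (Lpr_df (K5.f126957 IH) (Lpr_et (f120113 IH) (Lpr_gt (K2.f79144 IH) (Lpr_dt (K2.f79143 IH) (Lpr_gt (K3.f61673 IH) (Lpe (K5.f113064 IH) (Lpr_et (K4.f112026 IH) (Lpr_gt (f62914 IH) (Lpe (f126971 IH) (Lpn (LP (LK LD1_c6 LD2_c28 LD3_c29)))))))))))))
theorem f707701 : Led Lsl_af v5480 = (LP (LK LD1_c6 LD2_c21 LD3_c0)) :=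
  Lgr Lrot117 (Lpe (f647870 IH) (Lpr_at (f707696 IH) (Lpe (f126972 IH) (Lpn (LP (LK LD1_c6 LD2_c21 LD3_c0))))))
def v1847 : LQ := Led Lsl_gt (LP (LK LD1_c1 LD2_c29 LD3_c52))
def v8122 : LQ := Led Lsl_et v1847
theorem f670090 : Led Lsl_et v1847 = v8122 :=
  Lrfl
theorem f670091 : Led Lsl_ef v1847 = v8122 :=
  Lgr Lrot88 (Lpr_et (f670090 IH) (Lpn v8122))
theorem f504551 : Led Lsl_gt (LP (LK LD1_c1 LD2_c29 LD3_c52)) = v1847 :=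
  Lrfl
theorem f504552 : Led Lsl_gf (LP (LK LD1_c3 LD2_c12 LD3_c13)) = v1847 :=
  Lgr Lrot76 (Lpe (K5.f131487 IH) (Lpe (K5.f128459 IH) (Lpr_gt (f504551 IH) (Lpn v1847))))
theorem f632591 : Led Lsl_dt (LP (LK LD1_c3 LD2_c12 LD3_c13)) = v4310 :=
  Lgr Lrot60 (Lpe (K4.f112025 IH) (Lpe (K5.f131506 IH) (Lpr_ff (f632588 IH) (Lpn v4310))))
def v4313 : LQ := Led Lsl_ft (LP (LK LD1_c2 LD2_c19 LD3_c15))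
theorem f632599 : Led Lsl_ft (LP (LK LD1_c2 LD2_c19 LD3_c15)) = v4313 :=
  Lrfl
theorem f120115 : Led Lsl_ff (LP (LK LD1_c1 LD2_c6 LD3_c45)) = (LP (LK LD1_c0 LD2_c41 LD3_c37)) :=
  Lgr Lrot3 (Lpr_ft (K4.f120103 IH) (Lpn (LP (LK LD1_c0 LD2_c41 LD3_c37))))
theorem f632601 : Led Lsl_ef (LP (LK LD1_c3 LD2_c7 LD3_c38)) = v4313 :=
  Lgr Lrot21 (Lpr_ft (f131464 IH) (Lpr_et (K4.f91447 IH) (Lpe (f120115 IH) (Lpr_et (K5.f124540 IH) (Lpr_ft (f632599 IH) (Lpn v4313))))))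
def v5463 : LQ := Led Lsl_ft (LP (LK LD1_c3 LD2_c8 LD3_c10))
theorem f647762 : Led Lsl_ft (LP (LK LD1_c3 LD2_c8 LD3_c10)) = v5463 :=
  Lrfl
theorem f647765 : Led Lsl_ff (LP (LK LD1_c3 LD2_c8 LD3_c10)) = v5463 :=
  Lgr Lrot3 (Lpr_ft (f647762 IH) (Lpn v5463))
theorem f647768 : Led Lsl_dt v4313 = v5463 :=
  Lgr Lrot60 (Lpe (f632599 IH) (Lpe (K5.f126967 IH) (Lpr_ff (f647765 IH) (Lpn v5463))))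
theorem f136055 : Led Lsl_dt (LP (LK LD1_c3 LD2_c46 LD3_c29)) = (LP (LK LD1_c2 LD2_c19 LD3_c14)) :=
  Lgr Lrot79 (Lpr_bf (K3.f105236 IH) (Lpr_df (K42.f136051 IH) (Lpe (K36.f83099 IH) (Lpn (LP (LK LD1_c2 LD2_c19 LD3_c14))))))
theorem f105194 : Led Lsl_et (LP (LK LD1_c7 LD2_c33 LD3_c53)) = (LP (LK LD1_c3 LD2_c46 LD3_c29)) :=
  Lre_e IH (LK LD1_c7 LD2_c33 LD3_c53) (LK LD1_c3 LD2_c46 LD3_c29) Lrfl Lrfl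
theorem f105255 : Led Lsl_dt (LP (LK LD1_c14 LD2_c15 LD3_c52)) = (LP (LK LD1_c7 LD2_c33 LD3_c53)) :=
  Lre_d IH (LK LD1_c14 LD2_c15 LD3_c52) (LK LD1_c7 LD2_c33 LD3_c53) Lrfl Lrfl
theorem f136059 : Led Lsl_et (LP (LK LD1_c2 LD2_c19 LD3_c14)) = (LP (LK LD1_c4 LD2_c43 LD3_c9)) :=
  Lre_e IH (LK LD1_c2 LD2_c19 LD3_c14) (LK LD1_c4 LD2_c43 LD3_c9) Lrfl Lrfl
theorem f124516 : Led Lsl_dt (LP (LK LD1_c4 LD2_c43 LD3_c9)) = (LP (LK LD1_c9 LD2_c19 LD3_c57)) :=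
  Lre_d IH (LK LD1_c4 LD2_c43 LD3_c9) (LK LD1_c9 LD2_c19 LD3_c57) Lrfl Lrfl
theorem f136060 : Led Lsl_ef (LP (LK LD1_c14 LD2_c15 LD3_c52)) = (LP (LK LD1_c9 LD2_c19 LD3_c57)) :=
  Lgr Lrot73 (Lpr_dt (f105255 IH) (Lpr_et (f105194 IH) (Lpr_dt (f136055 IH) (Lpr_et (f136059 IH) (Lpr_dt (f124516 IH) (Lpn (LP (LK LD1_c9 LD2_c19 LD3_c57))))))))
theorem f136064 : Led Lsl_et (LP (LK LD1_c14 LD2_c15 LD3_c52)) = (LP (LK LD1_c9 LD2_c19 LD3_c57)) :=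
  Lgr Lrot87 (Lpr_ef (f136060 IH) (Lpn (LP (LK LD1_c9 LD2_c19 LD3_c57))))
theorem f104266 : Led Lsl_at (LP (LK LD1_c7 LD2_c33 LD3_c56)) = (LP (LK LD1_c14 LD2_c15 LD3_c52)) :=
  Lre_a IH (LK LD1_c7 LD2_c33 LD3_c56) (LK LD1_c14 LD2_c15 LD3_c52) Lrfl Lrfl
theorem f61942 : Led Lsl_et (LP (LK LD1_c3 LD2_c7 LD3_c29)) = (LP (LK LD1_c1 LD2_c29 LD3_c60)) :=
  Lre_e IH (LK LD1_c3 LD2_c7 LD3_c29) (LK LD1_c1 LD2_c29 LD3_c60) Lrfl Lrfl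
theorem f104238 : Led Lsl_bt (LP (LK LD1_c3 LD2_c17 LD3_c60)) = (LP (LK LD1_c3 LD2_c7 LD3_c29)) :=
  Lgr Lrot119 (Lpe (K3.f65692 IH) (Lpr_bf (K3.f104229 IH) (Lpe (f61942 IH) (Lpn (LP (LK LD1_c3 LD2_c7 LD3_c29))))))
theorem f61943 : Led Lsl_dt (LP (LK LD1_c3 LD2_c7 LD3_c29)) = (LP (LK LD1_c6 LD2_c19 LD3_c53)) :=
  Lre_d IH (LK LD1_c3 LD2_c7 LD3_c29) (LK LD1_c6 LD2_c19 LD3_c53) Lrfl Lrfl
theorem f104243 : Led Lsl_bf (LP (LK LD1_c6 LD2_c39 LD3_c42)) = (LP (LK LD1_c6 LD2_c19 LD3_c53)) :=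
  Lgr Lrot93 (Lpr_dt (K3.f66406 IH) (Lpr_bt (f104238 IH) (Lpr_dt (f61943 IH) (Lpn (LP (LK LD1_c6 LD2_c19 LD3_c53))))))
theorem f66402 : Led Lsl_bt (LP (LK LD1_c3 LD2_c46 LD3_c31)) = (LP (LK LD1_c7 LD2_c33 LD3_c56)) :=
  Lre_b IH (LK LD1_c3 LD2_c46 LD3_c31) (LK LD1_c7 LD2_c33 LD3_c56) Lrfl Lrfl
theorem f104251 : Led Lsl_et (LP (LK LD1_c7 LD2_c33 LD3_c56)) = (LP (LK LD1_c6 LD2_c19 LD3_c53)) :=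
  Lgr Lrot74 (Lpe (f66402 IH) (Lpr_ef (K3.f65694 IH) (Lpr_bf (f104243 IH) (Lpn (LP (LK LD1_c6 LD2_c19 LD3_c53))))))
theorem f104260 : Led Lsl_ef (LP (LK LD1_c7 LD2_c33 LD3_c56)) = (LP (LK LD1_c6 LD2_c19 LD3_c53)) :=
  Lgr Lrot88 (Lpr_et (f104251 IH) (Lpn (LP (LK LD1_c6 LD2_c19 LD3_c53))))
theorem f136066 : Led Lsl_af (LP (LK LD1_c6 LD2_c19 LD3_c53)) = (LP (LK LD1_c9 LD2_c19 LD3_c57)) :=
  Lgr Lrot50 (Lpe (f104260 IH) (Lpr_at (f104266 IH) (Lpr_et (f136064 IH) (Lpn (LP (LK LD1_c9 LD2_c19 LD3_c57))))))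
theorem f104257 : Led Lsl_dt (LP (LK LD1_c6 LD2_c19 LD3_c53)) = (LP (LK LD1_c3 LD2_c7 LD3_c29)) :=
  Lre_d IH (LK LD1_c6 LD2_c19 LD3_c53) (LK LD1_c3 LD2_c7 LD3_c29) Lrfl Lrfl
theorem f136068 : Led Lsl_at (LP (LK LD1_c3 LD2_c7 LD3_c29)) = (LP (LK LD1_c4 LD2_c43 LD3_c9)) :=
  Lgr Lrot51 (Lpe (f104257 IH) (Lpr_af (f136066 IH) (Lpe (f124516 IH) (Lpn (LP (LK LD1_c4 LD2_c43 LD3_c9))))))
theorem f61916 : Led Lsl_ct (LP (LK LD1_c1 LD2_c29 LD3_c61)) = (LP (LK LD1_c3 LD2_c7 LD3_c29)) :=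
  Lre_c IH (LK LD1_c1 LD2_c29 LD3_c61) (LK LD1_c3 LD2_c7 LD3_c29) Lrfl Lrfl
theorem f126965 : Led Lsl_ct (LP (LK LD1_c4 LD2_c43 LD3_c9)) = (LP (LK LD1_c2 LD2_c19 LD3_c15)) :=
  Lre_c IH (LK LD1_c4 LD2_c43 LD3_c9) (LK LD1_c2 LD2_c19 LD3_c15) Lrfl Lrfl
theorem f136072 : Led Lsl_af (LP (LK LD1_c1 LD2_c29 LD3_c61)) = (LP (LK LD1_c2 LD2_c19 LD3_c15)) :=
  Lgr Lrot68 (Lpr_ct (f61916 IH) (Lpr_at (f136068 IH) (Lpr_ct (f126965 IH) (Lpn (LP (LK LD1_c2 LD2_c19 LD3_c15))))))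
theorem f104228 : Led Lsl_dt (LP (LK LD1_c1 LD2_c29 LD3_c61)) = (LP (LK LD1_c3 LD2_c7 LD3_c30)) :=
  Lre_d IH (LK LD1_c1 LD2_c29 LD3_c61) (LK LD1_c3 LD2_c7 LD3_c30) Lrfl Lrfl
theorem f136078 : Led Lsl_at (LP (LK LD1_c3 LD2_c7 LD3_c30)) = (LP (LK LD1_c3 LD2_c8 LD3_c10)) :=
  Lgr Lrot51 (Lpe (f104228 IH) (Lpr_af (f136072 IH) (Lpe (K5.f126967 IH) (Lpn (LP (LK LD1_c3 LD2_c8 LD3_c10))))))
theorem f136080 : Led Lsl_af (LP (LK LD1_c3 LD2_c7 LD3_c30)) = (LP (LK LD1_c3 LD2_c8 LD3_c10)) :=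
  Lgr Lrot0 (Lpr_at (f136078 IH) (Lpn (LP (LK LD1_c3 LD2_c8 LD3_c10))))
theorem f104223 : Led Lsl_gt (LP (LK LD1_c6 LD2_c19 LD3_c55)) = (LP (LK LD1_c3 LD2_c7 LD3_c30)) :=
  Lre_g IH (LK LD1_c6 LD2_c19 LD3_c55) (LK LD1_c3 LD2_c7 LD3_c30) Lrfl Lrfl
theorem f647769 : Led Lsl_gf (LP (LK LD1_c6 LD2_c19 LD3_c55)) = v5463 :=
  Lgr Lrot47 (Lpr_gt (f104223 IH) (Lpr_af (f136080 IH) (Lpr_ff (f647765 IH) (Lpn v5463))))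
theorem f670092 : Led Lsl_df (LP (LK LD1_c6 LD2_c19 LD3_c55)) = v8122 :=
  Lgr Lrot168 (Lpr_gf (f647769 IH) (Lpe (f647768 IH) (Lpe (f632601 IH) (Lpe (f632589 IH) (Lpr_ef (f647532 IH) (Lpe (f647531 IH) (Lpr_gf (f632593 IH) (Lpe (f632591 IH) (Lpr_gf (f504552 IH) (Lpr_ef (f670091 IH) (Lpn v8122)))))))))))
theorem f647871 : Led Lsl_dt (LP (LK LD1_c6 LD2_c19 LD3_c8)) = v5480 :=
  Lgr Lrot42 (Lpr_df (f647870 IH) (Lpn v5480))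
theorem f640448 : Led Lsl_et (LP (LK LD1_c3 LD2_c6 LD3_c59)) = (LP (LK LD1_c6 LD2_c19 LD3_c8)) :=
  Lre_e IH (LK LD1_c3 LD2_c6 LD3_c59) (LK LD1_c6 LD2_c19 LD3_c8) Lrfl Lrfl
def v5373 : LQ := Led Lsl_gt (LP (LK LD1_c3 LD2_c6 LD3_c59))
theorem f647288 : Led Lsl_gt (LP (LK LD1_c3 LD2_c6 LD3_c59)) = v5373 :=
  Lrfl
def v13425 : LQ := Led Lsl_gf (LP (LK LD1_c4 LD2_c43 LD3_c56))
theorem f702905 : Led Lsl_gf (LP (LK LD1_c4 LD2_c43 LD3_c56)) = v13425 :=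
  Lrfl
theorem f506748 : Led Lsl_af (LP (LK LD1_c1 LD2_c32 LD3_c49)) = K48.v1981 :=
  Lgr Lrot45 (Lpr_ft (K48.f506732 IH) (Lpe (K48.f506731 IH) (Lpr_ft (K48.f506747 IH) (Lpn K48.v1981))))
theorem f670784 : Led Lsl_bf K48.v1995 = v8319 :=
  Lgr Lrot81 (Lpe (K48.f640444 IH) (Lpe (K46.f504509 IH) (Lpq (K48.f639196 IH) (Lpe (f506748 IH) (Lpr_bt (K48.f506751 IH) (Lpr_at (f670782 IH) (Lpn v8319)))))))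
theorem f702908 : Led Lsl_ct v8319 = v13425 :=
  Lgr Lrot64 (Lpe (f670784 IH) (Lpe (K48.f506787 IH) (Lpe (K46.f129077 IH) (Lpe (K46.f208909 IH) (Lpe (K48.f649423 IH) (Lpe (K48.f646832 IH) (Lpqs (K48.f662754 IH) (Lpe (K48.f506883 IH) (Lpe (K48.f207458 IH) (Lpr_ct (K24.f207459 IH) (Lpr_gf (f702905 IH) (Lpn v13425))))))))))))
theorem f670786 : Led Lsl_gt v5373 = v8319 :=
  Lgr Lrot46 (Lpe (f647288 IH) (Lpe (f640445 IH) (Lpr_at (f670782 IH) (Lpn v8319))))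
def v5421 : LQ := Led Lsl_gf (LP (LK LD1_c3 LD2_c7 LD3_c44))
theorem f647543 : Led Lsl_gf (LP (LK LD1_c3 LD2_c7 LD3_c44)) = v5421 :=
  Lrfl
theorem f495164 : Led Lsl_bf (LP (LK LD1_c1 LD2_c36 LD3_c53)) = K46.v1369 :=
  Lgr Lrot81 (Lpr_at (K46.f450662 IH) (Lpr_bt (K35.f414623 IH) (Lpqs (K24.f454062 IH) (Lpe (K24.f452393 IH) (Lpr_bt (K24.f414462 IH) (Lpr_at (K46.f495162 IH) (Lpn K46.v1369)))))))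
def v4498 : LQ := Led Lsl_at (LP (LK LD1_c2 LD2_c22 LD3_c37))
theorem f634240 : Led Lsl_at (LP (LK LD1_c2 LD2_c22 LD3_c37)) = v4498 :=
  Lrfl
theorem f416212 : Led Lsl_bt (LP (LK LD1_c2 LD2_c22 LD3_c37)) = (LP (LK LD1_c4 LD2_c49 LD3_c44)) :=
  Lre_b IH (LK LD1_c2 LD2_c22 LD3_c37) (LK LD1_c4 LD2_c49 LD3_c44) Lrfl Lrfl
theorem f454316 : Led Lsl_bt (LP (LK LD1_c3 LD2_c21 LD3_c43)) = (LP (LK LD1_c1 LD2_c37 LD3_c6)) :=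
  Lre_b IH (LK LD1_c3 LD2_c21 LD3_c43) (LK LD1_c1 LD2_c37 LD3_c6) Lrfl Lrfl
theorem f454317 : Led Lsl_ff (LP (LK LD1_c2 LD2_c22 LD3_c37)) = (LP (LK LD1_c1 LD2_c37 LD3_c6)) :=
  Lgr Lrot25 (Lpr_bt (f416212 IH) (Lpr_ft (K32.f454308 IH) (Lpr_bt (f454316 IH) (Lpn (LP (LK LD1_c1 LD2_c37 LD3_c6))))))
theorem f454449 : Led Lsl_at (LP (LK LD1_c3 LD2_c21 LD3_c40)) = (LP (LK LD1_c1 LD2_c37 LD3_c6)) :=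
  Lre_a IH (LK LD1_c3 LD2_c21 LD3_c40) (LK LD1_c1 LD2_c37 LD3_c6) Lrfl Lrfl
theorem f634243 : Led Lsl_ff (LP (LK LD1_c3 LD2_c21 LD3_c40)) = v4498 :=
  Lgr Lrot30 (Lpr_at (f454449 IH) (Lpe (f454317 IH) (Lpr_at (f634240 IH) (Lpn v4498))))
theorem f454388 : Led Lsl_ct (LP (LK LD1_c3 LD2_c21 LD3_c40)) = (LP (LK LD1_c1 LD2_c37 LD3_c5)) :=
  Lre_c IH (LK LD1_c3 LD2_c21 LD3_c40) (LK LD1_c1 LD2_c37 LD3_c5) Lrfl Lrfl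
theorem f495168 : Led Lsl_ft (LP (LK LD1_c1 LD2_c37 LD3_c5)) = K46.v1369 :=
  Lgr Lrot48 (Lpr_ff (K46.f495165 IH) (Lpn K46.v1369))
theorem f634245 : Led Lsl_ct K46.v1369 = v4498 :=
  Lgr Lrot40 (Lpe (f495168 IH) (Lpe (f454388 IH) (Lpr_ff (f634243 IH) (Lpn v4498))))
theorem f634247 : Led Lsl_gf (LP (LK LD1_c3 LD2_c21 LD3_c42)) = v4498 :=
  Lgr Lrot47 (Lpr_gt (K46.f140062 IH) (Lpe (f454449 IH) (Lpr_ff (f634243 IH) (Lpn v4498))))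
theorem f663076 : Led Lsl_cf v5421 = v6502 :=
  Lgr Lrot125 (Lpe (f647543 IH) (Lpe (K49.f128951 IH) (Lpr_bt (K48.f129282 IH) (Lpr_gt (K48.f527464 IH) (Lpq (K48.f662737 IH) (Lpr_bf (f495164 IH) (Lpr_ct (f634245 IH) (Lpe (f634247 IH) (Lpe (K46.f140063 IH) (Lpr_bt (K46.f140065 IH) (Lpr_gt (f653660 IH) (Lpn v6502))))))))))))
theorem f702911 : v5373 = v6604 :=
  (Llr Lrot147 (Lpr_gt (f670786 IH) (Lpr_ct (f702908 IH) (Lpe (f702905 IH) (Lpe (K24.f160768 IH) (Lpe (K49.f207470 IH) (Lpr_cf (K48.f139713 IH) (Lpr_gf (f647543 IH) (Lpr_cf (f663076 IH) (Lpe (f653660 IH) (Lpr_df (f654389 IH) (Lpn v6604)))))))))))).symm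
theorem f707569 : (LP (LK LD1_c3 LD2_c6 LD3_c59)) = v1847 :=
  Lefun (Lecon (Lfl_gt (f647288 IH)) ((f702911 IH).trans (f707513 IH).symm)) (f504552 IH)
theorem f707592 : v8122 = (LP (LK LD1_c6 LD2_c19 LD3_c8)) :=
  Lefun (Lecon (f670090 IH) (f707569 IH).symm) (f640448 IH)
theorem f707604 : (LP (LK LD1_c6 LD2_c19 LD3_c55)) = v5480 :=
  Lefun (Lecon (Lfl_df (f670092 IH)) (f707592 IH)) (f647871 IH)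
def v5409 : LQ := Led Lsl_ft (LP (LK LD1_c3 LD2_c7 LD3_c30))
theorem f647512 : Led Lsl_ft (LP (LK LD1_c3 LD2_c7 LD3_c30)) = v5409 :=
  Lrfl
theorem f647767 : Led Lsl_at v5409 = v5463 :=
  Lgr Lrot66 (Lpe (f647512 IH) (Lpr_af (f136080 IH) (Lpr_ff (f647765 IH) (Lpn v5463))))
theorem f104224 : Led Lsl_gt (LP (LK LD1_c3 LD2_c7 LD3_c30)) = (LP (LK LD1_c6 LD2_c19 LD3_c54)) :=
  Lre_g IH (LK LD1_c3 LD2_c7 LD3_c30) (LK LD1_c6 LD2_c19 LD3_c54) Lrfl Lrfl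
theorem f647770 : Led Lsl_gt (LP (LK LD1_c6 LD2_c19 LD3_c54)) = v5463 :=
  Lgr Lrot46 (Lpe (f104224 IH) (Lpr_ft (f647512 IH) (Lpr_at (f647767 IH) (Lpn v5463))))
theorem f707706 : Led Lsl_ft (LP (LK LD1_c6 LD2_c19 LD3_c54)) = (LP (LK LD1_c6 LD2_c21 LD3_c0)) :=
  Lgr Lrot2 (Lpr_gt (f647770 IH) (Lpe (f647769 IH) (Lpqs (f707604 IH) (Lpr_af (f707701 IH) (Lpn (LP (LK LD1_c6 LD2_c21 LD3_c0)))))))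
theorem f707707 : Led Lsl_ft (LP (LK LD1_c6 LD2_c19 LD3_c54)) = (LP (LK LD1_c6 LD2_c21 LD3_c0)) :=
  Leop (Lpe (f707706 IH) (Lpn (LP (LK LD1_c6 LD2_c19 LD3_c54))))
theorem seed_709 : LEOK LG_f (LK LD1_c6 LD2_c19 LD3_c54) :=
  Leoe_f (LK LD1_c6 LD2_c19 LD3_c54) (f707707 IH)
theorem f707709 : Led Lsl_ff (LP (LK LD1_c6 LD2_c19 LD3_c54)) = (LP (LK LD1_c6 LD2_c21 LD3_c0)) :=
  Lgr Lrot3 (Lpr_ft (f707706 IH) (Lpn (LP (LK LD1_c6 LD2_c21 LD3_c0))))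
theorem f707703 : Led Lsl_at v5480 = (LP (LK LD1_c6 LD2_c21 LD3_c0)) :=
  Lgr Lrot100 (Lpr_af (f707701 IH) (Lpn (LP (LK LD1_c6 LD2_c21 LD3_c0))))
def v5532 : LQ := Led Lsl_bt (LP (LK LD1_c3 LD2_c9 LD3_c19))
theorem f648113 : Led Lsl_bt (LP (LK LD1_c3 LD2_c9 LD3_c19)) = v5532 :=
  Lrfl
theorem f639253 : Led Lsl_ft (LP (LK LD1_c3 LD2_c8 LD3_c21)) = (LP (LK LD1_c3 LD2_c9 LD3_c19)) :=
  Lgr Lrot54 (Lpe (K31.f67056 IH) (Lpr_ff (K48.f639251 IH) (Lpr_df (K24.f454659 IH) (Lpn (LP (LK LD1_c3 LD2_c9 LD3_c19))))))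
theorem f647869 : Led Lsl_bf (LP (LK LD1_c3 LD2_c8 LD3_c21)) = v5480 :=
  Lgr Lrot24 (Lpr_bt (f647868 IH) (Lpn v5480))
theorem f648115 : Led Lsl_ff v5480 = v5532 :=
  Lgr Lrot25 (Lpe (f647869 IH) (Lpr_ft (f639253 IH) (Lpr_bt (f648113 IH) (Lpn v5532))))
theorem f707711 : Led Lsl_at (LP (LK LD1_c6 LD2_c19 LD3_c54)) = v5532 :=
  Lgr Lrot66 (Lpr_ff (f707709 IH) (Lpe (f707703 IH) (Lpr_ff (f648115 IH) (Lpn v5532))))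
theorem f126959 : Led Lsl_gt (LP (LK LD1_c3 LD2_c8 LD3_c10)) = (LP (LK LD1_c6 LD2_c20 LD3_c61)) :=
  Lre_g IH (LK LD1_c3 LD2_c8 LD3_c10) (LK LD1_c6 LD2_c20 LD3_c61) Lrfl Lrfl
theorem f707712 : v5532 = (LP (LK LD1_c6 LD2_c20 LD3_c61)) :=
  (Llr Lrot26 (Lpe (f707711 IH) (Lpr_ff (f707709 IH) (Lpr_gt (f126960 IH) (Lpr_gt (f126959 IH) (Lpn (LP (LK LD1_c6 LD2_c20 LD3_c61)))))))).symm
theorem f58534 : Led Lsl_ct (LP (LK LD1_c2 LD2_c22 LD3_c49)) = (LP (LK LD1_c4 LD2_c50 LD3_c3)) :=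
  Lre_c IH (LK LD1_c2 LD2_c22 LD3_c49) (LK LD1_c4 LD2_c50 LD3_c3) Lrfl Lrfl
theorem f78046 : Led Lsl_bt (LP (LK LD1_c2 LD2_c22 LD3_c49)) = (LP (LK LD1_c4 LD2_c47 LD3_c23)) :=
  Lre_b IH (LK LD1_c2 LD2_c22 LD3_c49) (LK LD1_c4 LD2_c47 LD3_c23) Lrfl Lrfl
theorem f78010 : Led Lsl_et (LP (LK LD1_c2 LD2_c20 LD3_c18)) = (LP (LK LD1_c1 LD2_c7 LD3_c27)) :=
  Lre_e IH (LK LD1_c2 LD2_c20 LD3_c18) (LK LD1_c1 LD2_c7 LD3_c27) Lrfl Lrfl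
theorem f78011 : Led Lsl_dt (LP (LK LD1_c2 LD2_c20 LD3_c18)) = (LP (LK LD1_c4 LD2_c44 LD3_c30)) :=
  Lre_d IH (LK LD1_c2 LD2_c20 LD3_c18) (LK LD1_c4 LD2_c44 LD3_c30) Lrfl Lrfl
theorem f58758 : Led Lsl_et (LP (LK LD1_c0 LD2_c30 LD3_c0)) = (LP (LK LD1_c1 LD2_c5 LD3_c39)) :=
  Lre_e IH (LK LD1_c0 LD2_c30 LD3_c0) (LK LD1_c1 LD2_c5 LD3_c39) Lrfl Lrfl
theorem f58342 : Led Lsl_et (LP (LK LD1_c4 LD2_c40 LD3_c48)) = (LP (LK LD1_c2 LD2_c17 LD3_c25)) :=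
  Lre_e IH (LK LD1_c4 LD2_c40 LD3_c48) (LK LD1_c2 LD2_c17 LD3_c25) Lrfl Lrfl
theorem f58343 : Led Lsl_dt (LP (LK LD1_c4 LD2_c40 LD3_c48)) = (LP (LK LD1_c9 LD2_c17 LD3_c0)) :=
  Lre_d IH (LK LD1_c4 LD2_c40 LD3_c48) (LK LD1_c9 LD2_c17 LD3_c0) Lrfl Lrfl
theorem f78012 : Led Lsl_gf (LP (LK LD1_c4 LD2_c44 LD3_c30)) = (LP (LK LD1_c9 LD2_c17 LD3_c0)) :=
  Lgr Lrot145 (Lpe (f78011 IH) (Lpr_et (f78010 IH) (Lpr_gt (K2.f62318 IH) (Lpr_dt (K2.f77988 IH) (Lpr_gt (K2.f13667 IH) (Lpe (K1.f13657 IH) (Lpr_et (f58758 IH) (Lpr_gt (K50.f22877 IH) (Lpe (f58342 IH) (Lpr_dt (f58343 IH) (Lpn (LP (LK LD1_c9 LD2_c17 LD3_c0)))))))))))))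
theorem f78017 : Led Lsl_gt (LP (LK LD1_c4 LD2_c47 LD3_c23)) = (LP (LK LD1_c9 LD2_c17 LD3_c0)) :=
  Lgr Lrot5 (Lpr_ft (K50.f78016 IH) (Lpr_at (K50.f78015 IH) (Lpr_gf (f78012 IH) (Lpn (LP (LK LD1_c9 LD2_c17 LD3_c0))))))
theorem f78024 : Led Lsl_ct (LP (LK LD1_c9 LD2_c17 LD3_c0)) = (LP (LK LD1_c17 LD2_c12 LD3_c6)) :=
  Lre_c IH (LK LD1_c9 LD2_c17 LD3_c0) (LK LD1_c17 LD2_c12 LD3_c6) Lrfl Lrfl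
theorem f126986 : Led Lsl_ct (LP (LK LD1_c6 LD2_c20 LD3_c60)) = (LP (LK LD1_c12 LD2_c16 LD3_c2)) :=
  Lre_c IH (LK LD1_c6 LD2_c20 LD3_c60) (LK LD1_c12 LD2_c16 LD3_c2) Lrfl Lrfl
theorem f707720 : Led Lsl_gt (LP (LK LD1_c17 LD2_c12 LD3_c6)) = (LP (LK LD1_c12 LD2_c16 LD3_c2)) :=
  Lgr Lrot149 (Lpe (f78024 IH) (Lpe (f78017 IH) (Lpe (f78046 IH) (Lpr_ct (f58534 IH) (Lpe (K35.f78047 IH) (Lpr_cf (K35.f140110 IH) (Lpr_bt (f648113 IH) (Lpqs (f707712 IH) (Lpe (f126959 IH) (Lpe (K5.f126981 IH) (Lpr_ct (f126986 IH) (Lpn (LP (LK LD1_c12 LD2_c16 LD3_c2))))))))))))))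
theorem f78045 : Led Lsl_dt (LP (LK LD1_c4 LD2_c47 LD3_c23)) = (LP (LK LD1_c2 LD2_c21 LD3_c34)) :=
  Lre_d IH (LK LD1_c4 LD2_c47 LD3_c23) (LK LD1_c2 LD2_c21 LD3_c34) Lrfl Lrfl
def v4385 : LQ := Led Lsl_gf (LP (LK LD1_c2 LD2_c20 LD3_c18))
theorem f633047 : Led Lsl_gf (LP (LK LD1_c2 LD2_c20 LD3_c18)) = v4385 :=
  Lrfl
theorem f495102 : Led Lsl_at (LP (LK LD1_c1 LD2_c7 LD3_c61)) = (LP (LK LD1_c2 LD2_c20 LD3_c18)) :=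
  Lre_a IH (LK LD1_c1 LD2_c7 LD3_c61) (LK LD1_c2 LD2_c20 LD3_c18) Lrfl Lrfl
theorem f633048 : Led Lsl_ft (LP (LK LD1_c2 LD2_c21 LD3_c34)) = (LP (LK LD1_c1 LD2_c7 LD3_c61)) :=
  Lre_f IH (LK LD1_c2 LD2_c21 LD3_c34) (LK LD1_c1 LD2_c7 LD3_c61) Lrfl Lrfl
theorem f633049 : Led Lsl_gt (LP (LK LD1_c2 LD2_c21 LD3_c34)) = v4385 :=
  Lgr Lrot5 (Lpr_ft (f633048 IH) (Lpr_at (f495102 IH) (Lpr_gf (f633047 IH) (Lpn v4385))))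
theorem f126994 : Led Lsl_ct (LP (LK LD1_c12 LD2_c16 LD3_c2)) = (LP (LK LD1_c6 LD2_c20 LD3_c60)) :=
  Lre_c IH (LK LD1_c12 LD2_c16 LD3_c2) (LK LD1_c6 LD2_c20 LD3_c60) Lrfl Lrfl
theorem f120773 : Led Lsl_et (LP (LK LD1_c4 LD2_c43 LD3_c7)) = (LP (LK LD1_c2 LD2_c19 LD3_c13)) :=
  Lre_e IH (LK LD1_c4 LD2_c43 LD3_c7) (LK LD1_c2 LD2_c19 LD3_c13) Lrfl Lrfl
theorem f102977 : Led Lsl_et (LP (LK LD1_c2 LD2_c20 LD3_c53)) = (LP (LK LD1_c4 LD2_c45 LD3_c35)) :=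
  Lre_e IH (LK LD1_c2 LD2_c20 LD3_c53) (LK LD1_c4 LD2_c45 LD3_c35) Lrfl Lrfl
theorem f120774 : Led Lsl_cf (LP (LK LD1_c4 LD2_c43 LD3_c7)) = (LP (LK LD1_c4 LD2_c45 LD3_c35)) :=
  Lgr Lrot39 (Lpr_et (f120773 IH) (Lpr_ct (K4.f120761 IH) (Lpr_et (f102977 IH) (Lpn (LP (LK LD1_c4 LD2_c45 LD3_c35))))))
def v13571 : LQ := Led Lsl_gf (LP (LK LD1_c4 LD2_c45 LD3_c35))
theorem f703724 : Led Lsl_gf (LP (LK LD1_c4 LD2_c45 LD3_c35)) = v13571 :=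
  Lrfl
theorem f707722 : Led Lsl_ct v4385 = v13571 :=
  Lgr Lrot152 (Lpe (f633049 IH) (Lpe (f78045 IH) (Lpr_gt (f78017 IH) (Lpr_ct (f78024 IH) (Lpr_gt (f707720 IH) (Lpr_ct (f126994 IH) (Lpr_df (K5.f126983 IH) (Lpr_cf (f120774 IH) (Lpr_gf (f703724 IH) (Lpn v13571))))))))))
theorem f140113 : Led Lsl_bt (LP (LK LD1_c1 LD2_c8 LD3_c31)) = (LP (LK LD1_c2 LD2_c21 LD3_c34)) :=
  Lre_b IH (LK LD1_c1 LD2_c8 LD3_c31) (LK LD1_c2 LD2_c21 LD3_c34) Lrfl Lrfl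
theorem f140114 : Led Lsl_bt (LP (LK LD1_c1 LD2_c38 LD3_c29)) = (LP (LK LD1_c3 LD2_c24 LD3_c14)) :=
  Lre_b IH (LK LD1_c1 LD2_c38 LD3_c29) (LK LD1_c3 LD2_c24 LD3_c14) Lrfl Lrfl
def v6619 : LQ := Led Lsl_gf (LP (LK LD1_c3 LD2_c24 LD3_c14))
theorem f654448 : Led Lsl_gf (LP (LK LD1_c3 LD2_c24 LD3_c14)) = v6619 :=
  Lrfl
theorem f440600 : Led Lsl_ct (LP (LK LD1_c4 LD2_c43 LD3_c7)) = (LP (LK LD1_c4 LD2_c45 LD3_c35)) :=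
  Lgr Lrot59 (Lpr_cf (f120774 IH) (Lpn (LP (LK LD1_c4 LD2_c45 LD3_c35))))
theorem f126962 : Led Lsl_bt (LP (LK LD1_c4 LD2_c43 LD3_c7)) = (LP (LK LD1_c2 LD2_c19 LD3_c15)) :=
  Lre_b IH (LK LD1_c4 LD2_c43 LD3_c7) (LK LD1_c2 LD2_c19 LD3_c15) Lrfl Lrfl
theorem f707725 : v6619 = (LP (LK LD1_c2 LD2_c19 LD3_c15)) :=
  (Llr Lrot124 (Lpe (f654448 IH) (Lpe (f140114 IH) (Lpe (K9.f140099 IH) (Lpr_gt (K0.f22968 IH) (Lpe (K32.f140112 IH) (Lpr_bt (f140113 IH) (Lpr_gt (f633049 IH) (Lpr_ct (f707722 IH) (Lpe (f703724 IH) (Lpe (f440600 IH) (Lpr_bt (f126962 IH) (Lpn (LP (LK LD1_c2 LD2_c19 LD3_c15))))))))))))))).symm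
theorem f707727 : Led Lsl_gt (LP (LK LD1_c2 LD2_c19 LD3_c15)) = (LP (LK LD1_c3 LD2_c24 LD3_c14)) :=
  Leop (Lpr_gf (f654448 IH) (Lpqs (f707725 IH) (Lpn (LP (LK LD1_c2 LD2_c19 LD3_c15)))))
theorem seed_710 : LEOK LG_g (LK LD1_c2 LD2_c19 LD3_c15) :=
  Leoe_g (LK LD1_c2 LD2_c19 LD3_c15) (f707727 IH)
def v13502 : LQ := Led Lsl_gt (LP (LK LD1_c4 LD2_c44 LD3_c35))
theorem f703379 : Led Lsl_gt (LP (LK LD1_c4 LD2_c44 LD3_c35)) = v13502 :=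
  Lrfl
def v4453 : LQ := Led Lsl_et (LP (LK LD1_c2 LD2_c21 LD3_c46))
theorem f633480 : Led Lsl_et (LP (LK LD1_c2 LD2_c21 LD3_c46)) = v4453 :=
  Lrfl
theorem f633483 : Led Lsl_ef (LP (LK LD1_c2 LD2_c21 LD3_c46)) = v4453 :=
  Lgr Lrot88 (Lpr_et (f633480 IH) (Lpn v4453))
theorem f23528 : Led Lsl_et (LP (LK LD1_c2 LD2_c19 LD3_c53)) = (LP (LK LD1_c4 LD2_c43 LD3_c58)) :=
  Lre_e IH (LK LD1_c2 LD2_c19 LD3_c53) (LK LD1_c4 LD2_c43 LD3_c58) Lrfl Lrfl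
theorem f633485 : Led Lsl_ct (LP (LK LD1_c4 LD2_c43 LD3_c58)) = v4453 :=
  Lgr Lrot15 (Lpe (f23528 IH) (Lpr_cf (K2.f78103 IH) (Lpr_ef (f633483 IH) (Lpn v4453))))
def v6274 : LQ := Led Lsl_ft (LP (LK LD1_c3 LD2_c19 LD3_c48))
theorem f652523 : Led Lsl_ft (LP (LK LD1_c3 LD2_c19 LD3_c48)) = v6274 :=
  Lrfl
theorem f652526 : Led Lsl_ff (LP (LK LD1_c3 LD2_c19 LD3_c48)) = v6274 :=
  Lgr Lrot3 (Lpr_ft (f652523 IH) (Lpn v6274))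
theorem f61911 : Led Lsl_et (LP (LK LD1_c1 LD2_c36 LD3_c18)) = (LP (LK LD1_c3 LD2_c19 LD3_c48)) :=
  Lre_e IH (LK LD1_c1 LD2_c36 LD3_c18) (LK LD1_c3 LD2_c19 LD3_c48) Lrfl Lrfl
theorem f633484 : Led Lsl_at (LP (LK LD1_c3 LD2_c19 LD3_c48)) = v4453 :=
  Lgr Lrot80 (Lpe (f61911 IH) (Lpe (K3.f108987 IH) (Lpr_ef (f633483 IH) (Lpn v4453))))
def v2116 : LQ := Led Lsl_bt (LP (LK LD1_c1 LD2_c35 LD3_c48))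
def v8601 : LQ := Led Lsl_ct v2116
theorem f671727 : Led Lsl_ct v2116 = v8601 :=
  Lrfl
theorem f509071 : Led Lsl_bt (LP (LK LD1_c1 LD2_c35 LD3_c48)) = v2116 :=
  Lrfl
theorem f509072 : Led Lsl_bf (LP (LK LD1_c1 LD2_c35 LD3_c48)) = v2116 :=
  Lgr Lrot24 (Lpr_bt (f509071 IH) (Lpn v2116))
def v6135 : LQ := Led Lsl_ct (LP (LK LD1_c3 LD2_c18 LD3_c19))
theorem f651459 : Led Lsl_ct (LP (LK LD1_c3 LD2_c18 LD3_c19)) = v6135 :=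
  Lrfl
theorem f651460 : Led Lsl_cf (LP (LK LD1_c3 LD2_c18 LD3_c19)) = v6135 :=
  Lgr Lrot11 (Lpr_ct (f651459 IH) (Lpn v6135))
def v5407 : LQ := Led Lsl_ft (LP (LK LD1_c3 LD2_c7 LD3_c29))
theorem f647502 : Led Lsl_ft (LP (LK LD1_c3 LD2_c7 LD3_c29)) = v5407 :=
  Lrfl
theorem f647505 : Led Lsl_ff (LP (LK LD1_c3 LD2_c7 LD3_c29)) = v5407 :=
  Lgr Lrot3 (Lpr_ft (f647502 IH) (Lpn v5407))
theorem f61925 : Led Lsl_ct (LP (LK LD1_c3 LD2_c7 LD3_c29)) = (LP (LK LD1_c1 LD2_c29 LD3_c61)) :=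
  Lre_c IH (LK LD1_c3 LD2_c7 LD3_c29) (LK LD1_c1 LD2_c29 LD3_c61) Lrfl Lrfl
def v1852 : LQ := Led Lsl_ft (LP (LK LD1_c1 LD2_c29 LD3_c61))
theorem f504572 : Led Lsl_ft (LP (LK LD1_c1 LD2_c29 LD3_c61)) = v1852 :=
  Lrfl
theorem f647507 : Led Lsl_ct v1852 = v5407 :=
  Lgr Lrot40 (Lpe (f504572 IH) (Lpe (f61925 IH) (Lpr_ff (f647505 IH) (Lpn v5407))))
def v13325 : LQ := Led Lsl_gf (LP (LK LD1_c4 LD2_c43 LD3_c9))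
theorem f702346 : Led Lsl_gf (LP (LK LD1_c4 LD2_c43 LD3_c9)) = v13325 :=
  Lrfl
theorem f702347 : Led Lsl_gt v5407 = v13325 :=
  Lgr Lrot5 (Lpe (f647505 IH) (Lpr_at (f136068 IH) (Lpr_gf (f702346 IH) (Lpn v13325))))
def v4311 : LQ := Led Lsl_gt (LP (LK LD1_c2 LD2_c19 LD3_c15))
theorem f632596 : Led Lsl_gt (LP (LK LD1_c2 LD2_c19 LD3_c15)) = v4311 :=
  Lrfl
theorem f136074 : Led Lsl_at (LP (LK LD1_c1 LD2_c29 LD3_c61)) = (LP (LK LD1_c2 LD2_c19 LD3_c15)) :=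
  Lgr Lrot100 (Lpr_af (f136072 IH) (Lpn (LP (LK LD1_c2 LD2_c19 LD3_c15))))
theorem f504573 : Led Lsl_ff (LP (LK LD1_c1 LD2_c29 LD3_c61)) = v1852 :=
  Lgr Lrot3 (Lpr_ft (f504572 IH) (Lpn v1852))
theorem f632600 : Led Lsl_af v1852 = v4313 :=
  Lgr Lrot45 (Lpe (f504573 IH) (Lpr_at (f136074 IH) (Lpr_ft (f632599 IH) (Lpn v4313))))
theorem f632603 : Led Lsl_gt v4311 = v1852 :=
  Lgr Lrot46 (Lpe (f632596 IH) (Lpr_ft (f632599 IH) (Lpe (f632600 IH) (Lpn v1852))))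
theorem f707726 : (LP (LK LD1_c3 LD2_c24 LD3_c14)) = v4311 :=
  Lefun (Lecon (Lfl_gf (f654448 IH)) (f707725 IH)) (f632596 IH)
theorem f140115 : Led Lsl_bt (LP (LK LD1_c0 LD2_c19 LD3_c58)) = (LP (LK LD1_c0 LD2_c44 LD3_c26)) :=
  Lre_b IH (LK LD1_c0 LD2_c19 LD3_c58) (LK LD1_c0 LD2_c44 LD3_c26) Lrfl Lrfl
theorem f707736 : v13325 = v8601 :=
  (Llr Lrot149 (Lpe (f702347 IH) (Lpe (f647507 IH) (Lpe (f632603 IH) (Lpq (f707726 IH) (Lpe (f140114 IH) (Lpe (K9.f140099 IH) (Lpe (K0.f22998 IH) (Lpe (K32.f23248 IH) (Lpr_bt (f140115 IH) (Lpe (K46.f103595 IH) (Lpr_bf (f509072 IH) (Lpr_ct (f671727 IH) (Lpn v8601)))))))))))))).symm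
def v5405 : LQ := Led Lsl_ft (LP (LK LD1_c3 LD2_c7 LD3_c27))
theorem f647497 : Led Lsl_ft (LP (LK LD1_c3 LD2_c7 LD3_c27)) = v5405 :=
  Lrfl
theorem f647499 : Led Lsl_ff (LP (LK LD1_c3 LD2_c7 LD3_c27)) = v5405 :=
  Lgr Lrot3 (Lpr_ft (f647497 IH) (Lpn v5405))
theorem f61915 : Led Lsl_bt (LP (LK LD1_c3 LD2_c7 LD3_c27)) = (LP (LK LD1_c1 LD2_c29 LD3_c61)) :=
  Lre_b IH (LK LD1_c3 LD2_c7 LD3_c27) (LK LD1_c1 LD2_c29 LD3_c61) Lrfl Lrfl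
theorem f647500 : Led Lsl_bt v1852 = v5405 :=
  Lgr Lrot35 (Lpe (f504572 IH) (Lpe (f61915 IH) (Lpr_ff (f647499 IH) (Lpn v5405))))
def v13433 : LQ := Led Lsl_ft (LP (LK LD1_c4 LD2_c43 LD3_c58))
theorem f702933 : Led Lsl_ft (LP (LK LD1_c4 LD2_c43 LD3_c58)) = v13433 :=
  Lrfl
def v13431 : LQ := Led Lsl_gt (LP (LK LD1_c4 LD2_c43 LD3_c58))
theorem f702930 : Led Lsl_gt (LP (LK LD1_c4 LD2_c43 LD3_c58)) = v13431 :=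
  Lrfl
theorem f702934 : Led Lsl_af v5405 = v13433 :=
  Lgr Lrot45 (Lpe (f647499 IH) (Lpr_at (K3.f107493 IH) (Lpr_ft (f702933 IH) (Lpn v13433))))
theorem f702938 : Led Lsl_gt v13431 = v5405 :=
  Lgr Lrot46 (Lpe (f702930 IH) (Lpr_ft (f702933 IH) (Lpe (f702934 IH) (Lpn v5405))))
theorem f707737 : Led Lsl_bt v6135 = v13431 :=
  Lgr Lrot22 (Lpe (f651460 IH) (Lpe (K46.f96048 IH) (Lpe (K46.f415754 IH) (Lpe (K46.f103595 IH) (Lpr_bf (f509072 IH) (Lpr_ct (f671727 IH) (Lpq (f707736 IH) (Lpe (f702347 IH) (Lpe (f647507 IH) (Lpr_bt (f647500 IH) (Lpe (f702938 IH) (Lpn v13431))))))))))))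
theorem f415753 : Led Lsl_bt (LP (LK LD1_c0 LD2_c44 LD3_c26)) = (LP (LK LD1_c0 LD2_c19 LD3_c58)) :=
  Lre_b IH (LK LD1_c0 LD2_c44 LD3_c26) (LK LD1_c0 LD2_c19 LD3_c58) Lrfl Lrfl
def v569 : LQ := Led Lsl_bt (LP (LK LD1_c0 LD2_c45 LD3_c0))
theorem f454807 : Led Lsl_bt (LP (LK LD1_c0 LD2_c45 LD3_c0)) = v569 :=
  Lrfl
theorem f454808 : Led Lsl_bf (LP (LK LD1_c0 LD2_c45 LD3_c0)) = v569 :=
  Lgr Lrot24 (Lpr_bt (f454807 IH) (Lpn v569))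
def v3210 : LQ := Led Lsl_ct v569
theorem f624620 : Led Lsl_ct v569 = v3210 :=
  Lrfl
def v10159 : LQ := Led Lsl_gf v3210
theorem f679020 : Led Lsl_gf v3210 = v10159 :=
  Lrfl
theorem f61912 : Led Lsl_cf (LP (LK LD1_c3 LD2_c7 LD3_c27)) = (LP (LK LD1_c3 LD2_c19 LD3_c48)) :=
  Lgr Lrot39 (Lpr_et (K3.f61910 IH) (Lpr_ct (K2.f61881 IH) (Lpr_et (f61911 IH) (Lpn (LP (LK LD1_c3 LD2_c19 LD3_c48))))))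
theorem f652528 : Led Lsl_ct v5405 = v6274 :=
  Lgr Lrot40 (Lpe (f647497 IH) (Lpr_cf (f61912 IH) (Lpr_ff (f652526 IH) (Lpn v6274))))
theorem f707741 : v10159 = v6274 :=
  (Llr Lrot129 (Lpe (f679020 IH) (Lpe (f624620 IH) (Lpe (f454808 IH) (Lpr_gt (K32.f25436 IH) (Lpe (f415753 IH) (Lpr_ct (K46.f415754 IH) (Lpr_gt (K46.f96048 IH) (Lpr_cf (f651460 IH) (Lpr_bt (f707737 IH) (Lpr_gt (f702938 IH) (Lpr_ct (f652528 IH) (Lpn v6274))))))))))))).symm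
def v10158 : LQ := Led Lsl_gt v3210
theorem f679019 : Led Lsl_gt v3210 = v10158 :=
  Lrfl
theorem f707742 : v4453 = v10158 :=
  (Llr Lrot26 (Lpe (f633484 IH) (Lpr_ff (f652526 IH) (Lpq (f707741 IH) (Lpe (f679020 IH) (Lpr_gt (f679019 IH) (Lpn v10158))))))).symm
theorem f140885 : Led Lsl_bt (LP (LK LD1_c2 LD2_c21 LD3_c34)) = (LP (LK LD1_c1 LD2_c8 LD3_c31)) :=
  Lre_b IH (LK LD1_c2 LD2_c21 LD3_c34) (LK LD1_c1 LD2_c8 LD3_c31) Lrfl Lrfl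
theorem f140886 : Led Lsl_ct (LP (LK LD1_c2 LD2_c21 LD3_c34)) = (LP (LK LD1_c4 LD2_c47 LD3_c11)) :=
  Lre_c IH (LK LD1_c2 LD2_c21 LD3_c34) (LK LD1_c4 LD2_c47 LD3_c11) Lrfl Lrfl
theorem f77410 : Led Lsl_gt (LP (LK LD1_c1 LD2_c30 LD3_c22)) = (LP (LK LD1_c3 LD2_c8 LD3_c17)) :=
  Lre_g IH (LK LD1_c1 LD2_c30 LD3_c22) (LK LD1_c3 LD2_c8 LD3_c17) Lrfl Lrfl
theorem f77412 : Led Lsl_bt (LP (LK LD1_c6 LD2_c21 LD3_c11)) = (LP (LK LD1_c3 LD2_c8 LD3_c17)) :=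
  Lre_b IH (LK LD1_c6 LD2_c21 LD3_c11) (LK LD1_c3 LD2_c8 LD3_c17) Lrfl Lrfl
theorem f703310 : Led Lsl_cf (LP (LK LD1_c9 LD2_c21 LD3_c45)) = (LP (LK LD1_c6 LD2_c21 LD3_c11)) :=
  Lgr Lrot160 (Lpr_gt (K50.f703307 IH) (Lpe (f140886 IH) (Lpr_bt (f140885 IH) (Lpr_gt (K46.f25607 IH) (Lpr_ct (K46.f140864 IH) (Lpr_gt (K32.f40955 IH) (Lpe (K24.f77345 IH) (Lpr_bt (K9.f77337 IH) (Lpr_gt (f77410 IH) (Lpe (f77412 IH) (Lpn (LP (LK LD1_c6 LD2_c21 LD3_c11)))))))))))))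
theorem f707743 : v13502 = (LP (LK LD1_c6 LD2_c21 LD3_c11)) :=
  (Llr Lrot82 (Lpe (f703379 IH) (Lpr_bf (K2.f23522 IH) (Lpr_ct (f633485 IH) (Lpqs (f707742 IH) (Lpe (f679019 IH) (Lpe (f624620 IH) (Lpe (f454808 IH) (Lpe (K46.f25607 IH) (Lpe (f140885 IH) (Lpr_ct (f140886 IH) (Lpe (K50.f703307 IH) (Lpr_cf (f703310 IH) (Lpn (LP (LK LD1_c6 LD2_c21 LD3_c11)))))))))))))))).symm
theorem f707744 : Led Lsl_gt (LP (LK LD1_c4 LD2_c44 LD3_c35)) = (LP (LK LD1_c6 LD2_c21 LD3_c11)) :=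
  Leop (Lpq (f707743 IH) (Lpe (f703379 IH) (Lpn (LP (LK LD1_c4 LD2_c44 LD3_c35)))))
theorem seed_711 : LEOK LG_g (LK LD1_c4 LD2_c44 LD3_c35) :=
  Leoe_g (LK LD1_c4 LD2_c44 LD3_c35) (f707744 IH)
def v13501 : LQ := Led Lsl_et (LP (LK LD1_c4 LD2_c44 LD3_c34))
theorem f703373 : Led Lsl_et (LP (LK LD1_c4 LD2_c44 LD3_c34)) = v13501 :=
  Lrfl
theorem f23527 : Led Lsl_et (LP (LK LD1_c4 LD2_c44 LD3_c35)) = (LP (LK LD1_c2 LD2_c20 LD3_c23)) :=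
  Lre_e IH (LK LD1_c4 LD2_c44 LD3_c35) (LK LD1_c2 LD2_c20 LD3_c23) Lrfl Lrfl
theorem f703375 : Led Lsl_cf (LP (LK LD1_c4 LD2_c44 LD3_c35)) = v13501 :=
  Lgr Lrot39 (Lpr_et (f23527 IH) (Lpr_ct (K3.f23537 IH) (Lpr_et (f703373 IH) (Lpn v13501))))
theorem f23541 : Led Lsl_et (LP (LK LD1_c9 LD2_c21 LD3_c56)) = (LP (LK LD1_c4 LD2_c44 LD3_c36)) :=
  Lre_e IH (LK LD1_c9 LD2_c21 LD3_c56) (LK LD1_c4 LD2_c44 LD3_c36) Lrfl Lrfl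
theorem f113628 : Led Lsl_et (LP (LK LD1_c9 LD2_c15 LD3_c48)) = (LP (LK LD1_c17 LD2_c10 LD3_c14)) :=
  Lre_e IH (LK LD1_c9 LD2_c15 LD3_c48) (LK LD1_c17 LD2_c10 LD3_c14) Lrfl Lrfl
theorem f133820 : Led Lsl_cf (LP (LK LD1_c9 LD2_c21 LD3_c56)) = (LP (LK LD1_c17 LD2_c10 LD3_c14)) :=
  Lgr Lrot39 (Lpr_et (f23541 IH) (Lpr_ct (K11.f133818 IH) (Lpr_et (f113628 IH) (Lpn (LP (LK LD1_c17 LD2_c10 LD3_c14))))))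
theorem f633074 : Led Lsl_gt (LP (LK LD1_c3 LD2_c18 LD3_c19)) = (LP (LK LD1_c6 LD2_c33 LD3_c43)) :=
  Lre_g IH (LK LD1_c3 LD2_c18 LD3_c19) (LK LD1_c6 LD2_c33 LD3_c43) Lrfl Lrfl
theorem f439811 : Led Lsl_ct (LP (LK LD1_c3 LD2_c15 LD3_c12)) = (LP (LK LD1_c6 LD2_c33 LD3_c43)) :=
  Lre_c IH (LK LD1_c3 LD2_c15 LD3_c12) (LK LD1_c6 LD2_c33 LD3_c43) Lrfl Lrfl
def v4386 : LQ := Led Lsl_ft (LP (LK LD1_c2 LD2_c20 LD3_c18))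
theorem f633053 : Led Lsl_ft (LP (LK LD1_c2 LD2_c20 LD3_c18)) = v4386 :=
  Lrfl
theorem f633059 : Led Lsl_ff (LP (LK LD1_c2 LD2_c20 LD3_c18)) = v4386 :=
  Lgr Lrot3 (Lpr_ft (f633053 IH) (Lpn v4386))
theorem f79475 : Led Lsl_bt (LP (LK LD1_c2 LD2_c20 LD3_c18)) = (LP (LK LD1_c1 LD2_c34 LD3_c14)) :=
  Lre_b IH (LK LD1_c2 LD2_c20 LD3_c18) (LK LD1_c1 LD2_c34 LD3_c14) Lrfl Lrfl
theorem f508573 : Led Lsl_ft (LP (LK LD1_c1 LD2_c34 LD3_c14)) = (LP (LK LD1_c3 LD2_c15 LD3_c12)) :=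
  Lre_f IH (LK LD1_c1 LD2_c34 LD3_c14) (LK LD1_c3 LD2_c15 LD3_c12) Lrfl Lrfl
theorem f633064 : Led Lsl_bt (LP (LK LD1_c3 LD2_c15 LD3_c12)) = v4386 :=
  Lgr Lrot35 (Lpe (f508573 IH) (Lpe (f79475 IH) (Lpr_ff (f633059 IH) (Lpn v4386))))
theorem f495095 : Led Lsl_at (LP (LK LD1_c2 LD2_c20 LD3_c18)) = (LP (LK LD1_c1 LD2_c7 LD3_c61)) :=
  Lre_a IH (LK LD1_c2 LD2_c20 LD3_c18) (LK LD1_c1 LD2_c7 LD3_c61) Lrfl Lrfl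
def v1356 : LQ := Led Lsl_gf (LP (LK LD1_c1 LD2_c7 LD3_c61))
theorem f495094 : Led Lsl_gf (LP (LK LD1_c1 LD2_c7 LD3_c61)) = v1356 :=
  Lrfl
theorem f633066 : Led Lsl_gf v1356 = v4386 :=
  Lgr Lrot47 (Lpe (f495094 IH) (Lpe (f495095 IH) (Lpr_ff (f633059 IH) (Lpn v4386))))
def v7909 : LQ := Led Lsl_ct v1356
theorem f668950 : Led Lsl_ct v1356 = v7909 :=
  Lrfl
def v13722 : LQ := Led Lsl_at (LP (LK LD1_c4 LD2_c47 LD3_c25))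
theorem f704504 : Led Lsl_at (LP (LK LD1_c4 LD2_c47 LD3_c25)) = v13722 :=
  Lrfl
theorem f501175 : Led Lsl_ct (LP (LK LD1_c2 LD2_c21 LD3_c35)) = (LP (LK LD1_c4 LD2_c47 LD3_c25)) :=
  Lre_c IH (LK LD1_c2 LD2_c21 LD3_c35) (LK LD1_c4 LD2_c47 LD3_c25) Lrfl Lrfl
def v4448 : LQ := Led Lsl_at (LP (LK LD1_c2 LD2_c21 LD3_c35))
theorem f633432 : Led Lsl_at (LP (LK LD1_c2 LD2_c21 LD3_c35)) = v4448 :=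
  Lrfl
theorem f633433 : Led Lsl_af (LP (LK LD1_c2 LD2_c21 LD3_c35)) = v4448 :=
  Lgr Lrot0 (Lpr_at (f633432 IH) (Lpn v4448))
theorem f704506 : Led Lsl_cf v4448 = v13722 :=
  Lgr Lrot1 (Lpe (f633433 IH) (Lpr_ct (f501175 IH) (Lpr_at (f704504 IH) (Lpn v13722))))
theorem f110545 : Led Lsl_gt (LP (LK LD1_c1 LD2_c7 LD3_c61)) = (LP (LK LD1_c2 LD2_c21 LD3_c35)) :=
  Lre_g IH (LK LD1_c1 LD2_c7 LD3_c61) (LK LD1_c2 LD2_c21 LD3_c35) Lrfl Lrfl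
theorem f633436 : Led Lsl_ft v1356 = v4448 :=
  Lgr Lrot2 (Lpe (f495094 IH) (Lpr_gt (f110545 IH) (Lpr_af (f633433 IH) (Lpn v4448))))
theorem f633439 : Led Lsl_ff v1356 = v4448 :=
  Lgr Lrot3 (Lpr_ft (f633436 IH) (Lpn v4448))
theorem f704508 : Led Lsl_ft v7909 = v13722 :=
  Lgr Lrot4 (Lpe (f668950 IH) (Lpr_ff (f633439 IH) (Lpr_cf (f704506 IH) (Lpn v13722))))
theorem f704505 : Led Lsl_af (LP (LK LD1_c4 LD2_c47 LD3_c25)) = v13722 :=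
  Lgr Lrot0 (Lpr_at (f704504 IH) (Lpn v13722))
def v13721 : LQ := Led Lsl_gf (LP (LK LD1_c4 LD2_c47 LD3_c25))
theorem f704500 : Led Lsl_gf (LP (LK LD1_c4 LD2_c47 LD3_c25)) = v13721 :=
  Lrfl
theorem f704510 : Led Lsl_gt v7909 = v13721 :=
  Lgr Lrot5 (Lpr_ft (f704508 IH) (Lpe (f704505 IH) (Lpr_gf (f704500 IH) (Lpn v13721))))
theorem f703376 : Led Lsl_ef (LP (LK LD1_c4 LD2_c44 LD3_c34)) = v13501 :=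
  Lgr Lrot88 (Lpr_et (f703373 IH) (Lpn v13501))
theorem f703378 : Led Lsl_ct (LP (LK LD1_c4 LD2_c44 LD3_c35)) = v13501 :=
  Lgr Lrot15 (Lpe (K2.f23532 IH) (Lpe (K3.f23550 IH) (Lpr_ef (f703376 IH) (Lpn v13501))))
theorem f707740 : v13721 = v13501 :=
  (Llr Lrot149 (Lpe (f704510 IH) (Lpe (f668950 IH) (Lpr_gf (f633066 IH) (Lpe (f633064 IH) (Lpr_ct (f439811 IH) (Lpe (f633074 IH) (Lpr_cf (f651460 IH) (Lpr_bt (f707737 IH) (Lpe (f702930 IH) (Lpe (K2.f23525 IH) (Lpr_ct (f703378 IH) (Lpn v13501))))))))))))).symm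
theorem f703341 : Led Lsl_df v4386 = K50.v13497 :=
  Lgr Lrot78 (Lpe (f633059 IH) (Lpr_dt (f78011 IH) (Lpr_ft (K50.f703337 IH) (Lpn K50.v13497))))
theorem f703342 : Led Lsl_ff (LP (LK LD1_c4 LD2_c44 LD3_c30)) = K50.v13497 :=
  Lgr Lrot3 (Lpr_ft (K50.f703337 IH) (Lpn K50.v13497))
theorem f703336 : Led Lsl_at (LP (LK LD1_c4 LD2_c44 LD3_c30)) = (LP (LK LD1_c2 LD2_c21 LD3_c36)) :=
  Lre_a IH (LK LD1_c4 LD2_c44 LD3_c30) (LK LD1_c2 LD2_c21 LD3_c36) Lrfl Lrfl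
theorem f99146 : Led Lsl_gt (LP (LK LD1_c4 LD2_c47 LD3_c29)) = (LP (LK LD1_c2 LD2_c21 LD3_c36)) :=
  Lre_g IH (LK LD1_c4 LD2_c47 LD3_c29) (LK LD1_c2 LD2_c21 LD3_c36) Lrfl Lrfl
theorem f703349 : Led Lsl_gf (LP (LK LD1_c4 LD2_c47 LD3_c29)) = K50.v13497 :=
  Lgr Lrot47 (Lpr_gt (f99146 IH) (Lpe (f703336 IH) (Lpr_ff (f703342 IH) (Lpn K50.v13497))))
theorem f99160 : Led Lsl_ct (LP (LK LD1_c4 LD2_c47 LD3_c29)) = (LP (LK LD1_c9 LD2_c27 LD3_c61)) :=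
  Lre_c IH (LK LD1_c4 LD2_c47 LD3_c29) (LK LD1_c9 LD2_c27 LD3_c61) Lrfl Lrfl
theorem f707747 : Led Lsl_gf (LP (LK LD1_c17 LD2_c10 LD3_c14)) = (LP (LK LD1_c9 LD2_c27 LD3_c61)) :=
  Lgr Lrot104 (Lpe (f133820 IH) (Lpe (K2.f23520 IH) (Lpr_cf (f703375 IH) (Lpq (f707740 IH) (Lpe (f704510 IH) (Lpe (f668950 IH) (Lpr_gf (f633066 IH) (Lpr_df (f703341 IH) (Lpe (f703349 IH) (Lpr_ct (f99160 IH) (Lpn (LP (LK LD1_c9 LD2_c27 LD3_c61)))))))))))))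
theorem f707748 : Led Lsl_gt (LP (LK LD1_c9 LD2_c27 LD3_c61)) = (LP (LK LD1_c17 LD2_c10 LD3_c14)) :=
  Leop (Lpr_gf (f707747 IH) (Lpn (LP (LK LD1_c9 LD2_c27 LD3_c61))))
theorem seed_712 : LEOK LG_g (LK LD1_c9 LD2_c27 LD3_c61) :=
  Leoe_g (LK LD1_c9 LD2_c27 LD3_c61) (f707748 IH)
def v5444 : LQ := Led Lsl_ft (LP (LK LD1_c3 LD2_c7 LD3_c55))
theorem f647675 : Led Lsl_ft (LP (LK LD1_c3 LD2_c7 LD3_c55)) = v5444 :=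
  Lrfl
def v1857 : LQ := Led Lsl_et (LP (LK LD1_c1 LD2_c30 LD3_c8))
def v8144 : LQ := Led Lsl_gt v1857
theorem f670169 : Led Lsl_gt v1857 = v8144 :=
  Lrfl
def v8147 : LQ := Led Lsl_ft v1857
theorem f670176 : Led Lsl_ft v1857 = v8147 :=
  Lrfl
theorem f504604 : Led Lsl_et (LP (LK LD1_c1 LD2_c30 LD3_c8)) = v1857 :=
  Lrfl
theorem f504592 : Led Lsl_dt (LP (LK LD1_c1 LD2_c30 LD3_c8)) = (LP (LK LD1_c3 LD2_c7 LD3_c58)) :=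
  Lre_d IH (LK LD1_c1 LD2_c30 LD3_c8) (LK LD1_c3 LD2_c7 LD3_c58) Lrfl Lrfl
def v5435 : LQ := Led Lsl_gt (LP (LK LD1_c3 LD2_c7 LD3_c54))
theorem f647634 : Led Lsl_gt (LP (LK LD1_c3 LD2_c7 LD3_c54)) = v5435 :=
  Lrfl
theorem f443698 : Led Lsl_dt (LP (LK LD1_c1 LD2_c30 LD3_c7)) = (LP (LK LD1_c3 LD2_c7 LD3_c54)) :=
  Lre_d IH (LK LD1_c1 LD2_c30 LD3_c7) (LK LD1_c3 LD2_c7 LD3_c54) Lrfl Lrfl
theorem f110452 : Led Lsl_et (LP (LK LD1_c0 LD2_c18 LD3_c36)) = (LP (LK LD1_c0 LD2_c41 LD3_c39)) :=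
  Lre_e IH (LK LD1_c0 LD2_c18 LD3_c36) (LK LD1_c0 LD2_c41 LD3_c39) Lrfl Lrfl
theorem f110487 : Led Lsl_gt (LP (LK LD1_c3 LD2_c7 LD3_c15)) = (LP (LK LD1_c1 LD2_c29 LD3_c52)) :=
  Lre_g IH (LK LD1_c3 LD2_c7 LD3_c15) (LK LD1_c1 LD2_c29 LD3_c52) Lrfl Lrfl
def v5393 : LQ := Led Lsl_et (LP (LK LD1_c3 LD2_c7 LD3_c15))
theorem f647356 : Led Lsl_et (LP (LK LD1_c3 LD2_c7 LD3_c15)) = v5393 :=
  Lrfl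
theorem f647357 : Led Lsl_ef (LP (LK LD1_c3 LD2_c7 LD3_c15)) = v5393 :=
  Lgr Lrot88 (Lpr_et (f647356 IH) (Lpn v5393))
theorem f647636 : Led Lsl_dt v5393 = v5435 :=
  Lgr Lrot56 (Lpe (f647357 IH) (Lpr_gt (f110487 IH) (Lpe (K5.f128458 IH) (Lpr_dt (K4.f57589 IH) (Lpr_gt (K3.f57579 IH) (Lpe (K4.f25020 IH) (Lpr_et (f110452 IH) (Lpr_gt (K46.f110453 IH) (Lpr_dt (f443698 IH) (Lpr_gt (f647634 IH) (Lpn v5435)))))))))))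
def v5383 : LQ := Led Lsl_et (LP (LK LD1_c3 LD2_c7 LD3_c8))
theorem f647323 : Led Lsl_et (LP (LK LD1_c3 LD2_c7 LD3_c8)) = v5383 :=
  Lrfl
theorem f647324 : Led Lsl_ef (LP (LK LD1_c3 LD2_c7 LD3_c8)) = v5383 :=
  Lgr Lrot88 (Lpr_et (f647323 IH) (Lpn v5383))
theorem f89415 : Led Lsl_gt (LP (LK LD1_c1 LD2_c29 LD3_c46)) = (LP (LK LD1_c3 LD2_c7 LD3_c8)) :=
  Lre_g IH (LK LD1_c1 LD2_c29 LD3_c46) (LK LD1_c3 LD2_c7 LD3_c8) Lrfl Lrfl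
theorem f131475 : Led Lsl_et (LP (LK LD1_c0 LD2_c41 LD3_c29)) = (LP (LK LD1_c1 LD2_c29 LD3_c46)) :=
  Lre_e IH (LK LD1_c0 LD2_c41 LD3_c29) (LK LD1_c1 LD2_c29 LD3_c46) Lrfl Lrfl
theorem f131449 : Led Lsl_df (LP (LK LD1_c1 LD2_c29 LD3_c52)) = (LP (LK LD1_c1 LD2_c30 LD3_c2)) :=
  Lgr Lrot38 (Lpr_dt (K5.f131442 IH) (Lpn (LP (LK LD1_c1 LD2_c30 LD3_c2))))
theorem f647325 : Led Lsl_df (LP (LK LD1_c3 LD2_c7 LD3_c15)) = v5383 :=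
  Lgr Lrot170 (Lpr_gt (f110487 IH) (Lpr_df (f131449 IH) (Lpr_et (K4.f91447 IH) (Lpr_gt (K3.f61883 IH) (Lpr_dt (K4.f25020 IH) (Lpr_gt (K1.f24970 IH) (Lpe (K4.f89451 IH) (Lpr_et (f131475 IH) (Lpr_gt (f89415 IH) (Lpr_ef (f647324 IH) (Lpn v5383)))))))))))
def v5382 : LQ := Led Lsl_dt (LP (LK LD1_c3 LD2_c7 LD3_c8))
theorem f647321 : Led Lsl_dt (LP (LK LD1_c3 LD2_c7 LD3_c8)) = v5382 :=
  Lrfl
theorem f647322 : Led Lsl_df (LP (LK LD1_c3 LD2_c7 LD3_c8)) = v5382 :=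
  Lgr Lrot38 (Lpr_dt (f647321 IH) (Lpn v5382))
theorem f647638 : Led Lsl_ef v5382 = v5435 :=
  Lgr Lrot73 (Lpe (f647322 IH) (Lpr_et (f647323 IH) (Lpe (f647325 IH) (Lpr_et (f647356 IH) (Lpr_dt (f647636 IH) (Lpn v5435))))))
theorem f647639 : Led Lsl_et v5382 = v5435 :=
  Lgr Lrot87 (Lpr_ef (f647638 IH) (Lpn v5435))
theorem f89506 : Led Lsl_dt (LP (LK LD1_c3 LD2_c7 LD3_c9)) = (LP (LK LD1_c1 LD2_c29 LD3_c46)) :=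
  Lre_d IH (LK LD1_c3 LD2_c7 LD3_c9) (LK LD1_c1 LD2_c29 LD3_c46) Lrfl Lrfl
theorem f113404 : Led Lsl_et (LP (LK LD1_c3 LD2_c7 LD3_c9)) = (LP (LK LD1_c1 LD2_c29 LD3_c48)) :=
  Lre_e IH (LK LD1_c3 LD2_c7 LD3_c9) (LK LD1_c1 LD2_c29 LD3_c48) Lrfl Lrfl
theorem f126936 : Led Lsl_et (LP (LK LD1_c1 LD2_c30 LD3_c9)) = (LP (LK LD1_c0 LD2_c41 LD3_c42)) :=
  Lre_e IH (LK LD1_c1 LD2_c30 LD3_c9) (LK LD1_c0 LD2_c41 LD3_c42) Lrfl Lrfl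
theorem f126937 : Led Lsl_dt (LP (LK LD1_c1 LD2_c30 LD3_c9)) = (LP (LK LD1_c0 LD2_c41 LD3_c39)) :=
  Lre_d IH (LK LD1_c1 LD2_c30 LD3_c9) (LK LD1_c0 LD2_c41 LD3_c39) Lrfl Lrfl
theorem f126939 : Led Lsl_dt (LP (LK LD1_c3 LD2_c7 LD3_c58)) = (LP (LK LD1_c1 LD2_c30 LD3_c8)) :=
  Lre_d IH (LK LD1_c3 LD2_c7 LD3_c58) (LK LD1_c1 LD2_c30 LD3_c8) Lrfl Lrfl
theorem f647640 : Led Lsl_gf (LP (LK LD1_c3 LD2_c7 LD3_c58)) = v5435 :=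
  Lgr Lrot138 (Lpr_dt (f126939 IH) (Lpr_gt (K46.f126938 IH) (Lpe (f126937 IH) (Lpr_et (f126936 IH) (Lpr_gt (K5.f126924 IH) (Lpe (f113404 IH) (Lpr_dt (f89506 IH) (Lpr_gt (f89415 IH) (Lpr_df (f647322 IH) (Lpr_et (f647639 IH) (Lpn v5435)))))))))))
theorem f131508 : Led Lsl_gf (LP (LK LD1_c3 LD2_c7 LD3_c15)) = (LP (LK LD1_c3 LD2_c12 LD3_c13)) :=
  Lgr Lrot47 (Lpr_gt (f110487 IH) (Lpr_af (K5.f131498 IH) (Lpe (K5.f131497 IH) (Lpn (LP (LK LD1_c3 LD2_c12 LD3_c13))))))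
theorem f112015 : Led Lsl_ef (LP (LK LD1_c3 LD2_c12 LD3_c13)) = (LP (LK LD1_c3 LD2_c7 LD3_c10)) :=
  Lgr Lrot29 (Lpr_bt (K5.f112014 IH) (Lpr_et (K4.f112012 IH) (Lpr_bt (K4.f89423 IH) (Lpn (LP (LK LD1_c3 LD2_c7 LD3_c10))))))
def v5388 : LQ := Led Lsl_ft (LP (LK LD1_c3 LD2_c7 LD3_c9))
theorem f647337 : Led Lsl_ft (LP (LK LD1_c3 LD2_c7 LD3_c9)) = v5388 :=
  Lrfl
theorem f647339 : Led Lsl_ff (LP (LK LD1_c3 LD2_c7 LD3_c9)) = v5388 :=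
  Lgr Lrot3 (Lpr_ft (f647337 IH) (Lpn v5388))
theorem f208237 : Led Lsl_ft (LP (LK LD1_c1 LD2_c29 LD3_c46)) = (LP (LK LD1_c3 LD2_c7 LD3_c10)) :=
  Lre_f IH (LK LD1_c1 LD2_c29 LD3_c46) (LK LD1_c3 LD2_c7 LD3_c10) Lrfl Lrfl
theorem f647340 : Led Lsl_dt (LP (LK LD1_c3 LD2_c7 LD3_c10)) = v5388 :=
  Lgr Lrot60 (Lpe (f208237 IH) (Lpe (f89506 IH) (Lpr_ff (f647339 IH) (Lpn v5388))))
def v5715 : LQ := Led Lsl_ft (LP (LK LD1_c3 LD2_c12 LD3_c22))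
theorem f649017 : Led Lsl_ft (LP (LK LD1_c3 LD2_c12 LD3_c22)) = v5715 :=
  Lrfl
def v5712 : LQ := Led Lsl_gt (LP (LK LD1_c3 LD2_c12 LD3_c22))
theorem f649008 : Led Lsl_gt (LP (LK LD1_c3 LD2_c12 LD3_c22)) = v5712 :=
  Lrfl
theorem f79286 : Led Lsl_dt (LP (LK LD1_c1 LD2_c34 LD3_c35)) = (LP (LK LD1_c0 LD2_c43 LD3_c59)) :=
  Lre_d IH (LK LD1_c1 LD2_c34 LD3_c35) (LK LD1_c0 LD2_c43 LD3_c59) Lrfl Lrfl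
theorem f208120 : Led Lsl_gt (LP (LK LD1_c1 LD2_c29 LD3_c51)) = (LP (LK LD1_c3 LD2_c7 LD3_c6)) :=
  Lgr Lrot150 (Lpe (K4.f110388 IH) (Lpe (K8.f110442 IH) (Lpe (K8.f26173 IH) (Lpe (K2.f82325 IH) (Lpr_ct (K2.f23472 IH) (Lpr_gt (K3.f104154 IH) (Lpe (K3.f79284 IH) (Lpe (f79286 IH) (Lpr_cf (K32.f208108 IH) (Lpn (LP (LK LD1_c3 LD2_c7 LD3_c6))))))))))))
theorem f128456 : Led Lsl_ft (LP (LK LD1_c1 LD2_c29 LD3_c51)) = (LP (LK LD1_c1 LD2_c32 LD3_c38)) :=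
  Lgr Lrot4 (Lpe (K4.f110388 IH) (Lpr_ff (K5.f128450 IH) (Lpe (K4.f82336 IH) (Lpn (LP (LK LD1_c1 LD2_c32 LD3_c38))))))
theorem f208124 : Led Lsl_at (LP (LK LD1_c1 LD2_c32 LD3_c38)) = (LP (LK LD1_c1 LD2_c29 LD3_c45)) :=
  Lgr Lrot26 (Lpe (f128456 IH) (Lpr_gt (f208120 IH) (Lpr_gt (K30.f89466 IH) (Lpn (LP (LK LD1_c1 LD2_c29 LD3_c45))))))
theorem f120004 : Led Lsl_et (LP (LK LD1_c3 LD2_c12 LD3_c19)) = (LP (LK LD1_c1 LD2_c32 LD3_c38)) :=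
  Lre_e IH (LK LD1_c3 LD2_c12 LD3_c19) (LK LD1_c1 LD2_c32 LD3_c38) Lrfl Lrfl
theorem f89454 : Led Lsl_et (LP (LK LD1_c1 LD2_c29 LD3_c45)) = (LP (LK LD1_c3 LD2_c7 LD3_c7)) :=
  Lre_e IH (LK LD1_c1 LD2_c29 LD3_c45) (LK LD1_c3 LD2_c7 LD3_c7) Lrfl Lrfl
theorem f208128 : Led Lsl_af (LP (LK LD1_c3 LD2_c12 LD3_c19)) = (LP (LK LD1_c3 LD2_c7 LD3_c7)) :=
  Lgr Lrot50 (Lpr_et (f120004 IH) (Lpr_at (f208124 IH) (Lpr_et (f89454 IH) (Lpn (LP (LK LD1_c3 LD2_c7 LD3_c7))))))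
theorem f208136 : Led Lsl_ct (LP (LK LD1_c3 LD2_c12 LD3_c19)) = (LP (LK LD1_c1 LD2_c32 LD3_c39)) :=
  Lre_c IH (LK LD1_c3 LD2_c12 LD3_c19) (LK LD1_c1 LD2_c32 LD3_c39) Lrfl Lrfl
theorem f89401 : Led Lsl_ct (LP (LK LD1_c1 LD2_c29 LD3_c46)) = (LP (LK LD1_c3 LD2_c7 LD3_c7)) :=
  Lre_c IH (LK LD1_c1 LD2_c29 LD3_c46) (LK LD1_c3 LD2_c7 LD3_c7) Lrfl Lrfl
theorem f208137 : Led Lsl_at (LP (LK LD1_c1 LD2_c32 LD3_c39)) = (LP (LK LD1_c1 LD2_c29 LD3_c46)) :=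
  Lgr Lrot107 (Lpe (f208136 IH) (Lpr_af (f208128 IH) (Lpe (f89401 IH) (Lpn (LP (LK LD1_c1 LD2_c29 LD3_c46))))))
theorem f128430 : Led Lsl_dt (LP (LK LD1_c3 LD2_c12 LD3_c22)) = (LP (LK LD1_c1 LD2_c32 LD3_c39)) :=
  Lre_d IH (LK LD1_c3 LD2_c12 LD3_c22) (LK LD1_c1 LD2_c32 LD3_c39) Lrfl Lrfl
theorem f116778 : Led Lsl_dt (LP (LK LD1_c1 LD2_c29 LD3_c46)) = (LP (LK LD1_c3 LD2_c7 LD3_c9)) :=
  Lre_d IH (LK LD1_c1 LD2_c29 LD3_c46) (LK LD1_c3 LD2_c7 LD3_c9) Lrfl Lrfl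
theorem f208235 : Led Lsl_af (LP (LK LD1_c3 LD2_c12 LD3_c22)) = (LP (LK LD1_c3 LD2_c7 LD3_c9)) :=
  Lgr Lrot117 (Lpr_dt (f128430 IH) (Lpr_at (f208137 IH) (Lpr_dt (f116778 IH) (Lpn (LP (LK LD1_c3 LD2_c7 LD3_c9))))))
theorem f649018 : Led Lsl_af v5388 = v5715 :=
  Lgr Lrot45 (Lpe (f647339 IH) (Lpe (f208235 IH) (Lpr_ft (f649017 IH) (Lpn v5715))))
theorem f649022 : Led Lsl_gt v5712 = v5388 :=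
  Lgr Lrot46 (Lpe (f649008 IH) (Lpr_ft (f649017 IH) (Lpe (f649018 IH) (Lpn v5388))))
theorem f670170 : Led Lsl_df v5712 = v8144 :=
  Lgr Lrot135 (Lpr_gt (f649022 IH) (Lpe (f647340 IH) (Lpe (f112015 IH) (Lpe (f131508 IH) (Lpr_ef (f647357 IH) (Lpr_dt (f647636 IH) (Lpe (f647640 IH) (Lpe (f504592 IH) (Lpr_et (f504604 IH) (Lpr_gt (f670169 IH) (Lpn v8144)))))))))))
theorem f670171 : Led Lsl_dt v5712 = v8144 :=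
  Lgr Lrot42 (Lpr_df (f670170 IH) (Lpn v8144))
def v8195 : LQ := Led Lsl_bt K32.v1883
theorem f670300 : Led Lsl_bt K32.v1883 = v8195 :=
  Lrfl
theorem f645429 : Led Lsl_ft (LP (LK LD1_c3 LD2_c24 LD3_c16)) = K32.v1883 :=
  Lgr Lrot48 (Lpr_ff (K46.f645351 IH) (Lpn K32.v1883))
def v6622 : LQ := Led Lsl_et (LP (LK LD1_c3 LD2_c24 LD3_c14))
theorem f654457 : Led Lsl_et (LP (LK LD1_c3 LD2_c24 LD3_c14)) = v6622 :=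
  Lrfl
theorem f654458 : Led Lsl_bf (LP (LK LD1_c3 LD2_c24 LD3_c16)) = v6622 :=
  Lgr Lrot96 (Lpr_et (K9.f26063 IH) (Lpr_bt (f140114 IH) (Lpr_et (f654457 IH) (Lpn v6622))))
theorem f670303 : Led Lsl_ff v6622 = v8195 :=
  Lgr Lrot25 (Lpe (f654458 IH) (Lpr_ft (f645429 IH) (Lpr_bt (f670300 IH) (Lpn v8195))))
theorem f654459 : Led Lsl_ef (LP (LK LD1_c3 LD2_c24 LD3_c14)) = v6622 :=
  Lgr Lrot88 (Lpr_et (f654457 IH) (Lpn v6622))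
theorem f77368 : Led Lsl_bt (LP (LK LD1_c3 LD2_c24 LD3_c14)) = (LP (LK LD1_c1 LD2_c38 LD3_c29)) :=
  Lre_b IH (LK LD1_c3 LD2_c24 LD3_c14) (LK LD1_c1 LD2_c38 LD3_c29) Lrfl Lrfl
theorem f654460 : Led Lsl_bt (LP (LK LD1_c3 LD2_c24 LD3_c16)) = v6622 :=
  Lgr Lrot119 (Lpe (K46.f61779 IH) (Lpe (f77368 IH) (Lpr_ef (f654459 IH) (Lpn v6622))))
def v5359 : LQ := Led Lsl_bt (LP (LK LD1_c3 LD2_c6 LD3_c45))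
theorem f647247 : Led Lsl_bt (LP (LK LD1_c3 LD2_c6 LD3_c45)) = v5359 :=
  Lrfl
theorem f647248 : Led Lsl_bf (LP (LK LD1_c3 LD2_c6 LD3_c45)) = v5359 :=
  Lgr Lrot24 (Lpr_bt (f647247 IH) (Lpn v5359))
theorem f654461 : Led Lsl_df v5359 = v6622 :=
  Lgr Lrot12 (Lpe (f647248 IH) (Lpr_dt (K9.f61777 IH) (Lpr_bt (f654460 IH) (Lpn v6622))))
def v5669 : LQ := Led Lsl_bt (LP (LK LD1_c3 LD2_c11 LD3_c46))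
theorem f648763 : Led Lsl_bt (LP (LK LD1_c3 LD2_c11 LD3_c46)) = v5669 :=
  Lrfl
theorem f648765 : Led Lsl_ff v5359 = v5669 :=
  Lgr Lrot25 (Lpe (f647248 IH) (Lpr_ft (K46.f645427 IH) (Lpr_bt (f648763 IH) (Lpn v5669))))
theorem f648766 : Led Lsl_ft v5359 = v5669 :=
  Lgr Lrot48 (Lpr_ff (f648765 IH) (Lpn v5669))
theorem f670304 : Led Lsl_dt v5669 = v8195 :=
  Lgr Lrot60 (Lpe (f648766 IH) (Lpr_df (f654461 IH) (Lpr_ff (f670303 IH) (Lpn v8195))))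
def v1850 : LQ := Led Lsl_gt (LP (LK LD1_c1 LD2_c29 LD3_c61))
def v8130 : LQ := Led Lsl_et v1850
theorem f670122 : Led Lsl_et v1850 = v8130 :=
  Lrfl
theorem f670123 : Led Lsl_ef v1850 = v8130 :=
  Lgr Lrot88 (Lpr_et (f670122 IH) (Lpn v8130))
def v8126 : LQ := Led Lsl_at v1850
theorem f670112 : Led Lsl_at v1850 = v8126 :=
  Lrfl
theorem f670113 : Led Lsl_af v1850 = v8126 :=
  Lgr Lrot0 (Lpr_at (f670112 IH) (Lpn v8126))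
theorem f504570 : Led Lsl_gt (LP (LK LD1_c1 LD2_c29 LD3_c61)) = v1850 :=
  Lrfl
def v1851 : LQ := Led Lsl_gf (LP (LK LD1_c1 LD2_c29 LD3_c61))
theorem f504571 : Led Lsl_gf (LP (LK LD1_c1 LD2_c29 LD3_c61)) = v1851 :=
  Lrfl
theorem f670114 : Led Lsl_ft v1851 = v8126 :=
  Lgr Lrot2 (Lpe (f504571 IH) (Lpr_gt (f504570 IH) (Lpr_af (f670113 IH) (Lpn v8126))))
def v1728 : LQ := Led Lsl_bt (LP (LK LD1_c1 LD2_c24 LD3_c34))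
theorem f501173 : Led Lsl_bt (LP (LK LD1_c1 LD2_c24 LD3_c34)) = v1728 :=
  Lrfl
theorem f501174 : Led Lsl_bf (LP (LK LD1_c1 LD2_c24 LD3_c34)) = v1728 :=
  Lgr Lrot24 (Lpr_bt (f501173 IH) (Lpn v1728))
theorem f645675 : Led Lsl_ff v1728 = (LP (LK LD1_c3 LD2_c24 LD3_c14)) :=
  Lgr Lrot25 (Lpe (f501174 IH) (Lpq (K49.f645316 IH) (Lpe (K49.f510446 IH) (Lpr_bt (f140114 IH) (Lpn (LP (LK LD1_c3 LD2_c24 LD3_c14)))))))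
theorem f645700 : Led Lsl_ft v1728 = (LP (LK LD1_c3 LD2_c24 LD3_c14)) :=
  Lgr Lrot48 (Lpr_ff (f645675 IH) (Lpn (LP (LK LD1_c3 LD2_c24 LD3_c14))))
def v8132 : LQ := Led Lsl_bt v1851
theorem f670131 : Led Lsl_bt v1851 = v8132 :=
  Lrfl
theorem f670132 : Led Lsl_bf v1851 = v8132 :=
  Lgr Lrot24 (Lpr_bt (f670131 IH) (Lpn v8132))
def v13572 : LQ := Led Lsl_ft (LP (LK LD1_c4 LD2_c45 LD3_c35))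
theorem f703725 : Led Lsl_ft (LP (LK LD1_c4 LD2_c45 LD3_c35)) = v13572 :=
  Lrfl
theorem f703727 : Led Lsl_ff (LP (LK LD1_c4 LD2_c45 LD3_c35)) = v13572 :=
  Lgr Lrot3 (Lpr_ft (f703725 IH) (Lpn v13572))
def v13322 : LQ := Led Lsl_ft (LP (LK LD1_c4 LD2_c43 LD3_c7))
theorem f702330 : Led Lsl_ft (LP (LK LD1_c4 LD2_c43 LD3_c7)) = v13322 :=
  Lrfl
theorem f703728 : Led Lsl_ct v13322 = v13572 :=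
  Lgr Lrot40 (Lpe (f702330 IH) (Lpr_cf (f120774 IH) (Lpr_ff (f703727 IH) (Lpn v13572))))
theorem f632602 : Led Lsl_ff (LP (LK LD1_c2 LD2_c19 LD3_c15)) = v4313 :=
  Lgr Lrot3 (Lpr_ft (f632599 IH) (Lpn v4313))
theorem f702332 : Led Lsl_bf v4313 = v13322 :=
  Lgr Lrot61 (Lpe (f632602 IH) (Lpr_bt (K5.f126982 IH) (Lpr_ft (f702330 IH) (Lpn v13322))))
theorem f632606 : Led Lsl_gf v1851 = v4313 :=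
  Lgr Lrot47 (Lpe (f504571 IH) (Lpr_af (f136072 IH) (Lpr_ff (f632602 IH) (Lpn v4313))))
theorem f105492 : Led Lsl_ct (LP (LK LD1_c12 LD2_c14 LD3_c40)) = (LP (LK LD1_c6 LD2_c20 LD3_c0)) :=
  Lre_c IH (LK LD1_c12 LD2_c14 LD3_c40) (LK LD1_c6 LD2_c20 LD3_c0) Lrfl Lrfl
theorem f105493 : Led Lsl_ct (LP (LK LD1_c6 LD2_c39 LD3_c35)) = (LP (LK LD1_c12 LD2_c44 LD3_c61)) :=
  Lre_c IH (LK LD1_c6 LD2_c39 LD3_c35) (LK LD1_c12 LD2_c44 LD3_c61) Lrfl Lrfl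
theorem f105494 : Led Lsl_af (LP (LK LD1_c12 LD2_c14 LD3_c40)) = (LP (LK LD1_c12 LD2_c44 LD3_c61)) :=
  Lgr Lrot68 (Lpr_ct (f105492 IH) (Lpr_at (K4.f105486 IH) (Lpr_ct (f105493 IH) (Lpn (LP (LK LD1_c12 LD2_c44 LD3_c61))))))
theorem f105515 : Led Lsl_at (LP (LK LD1_c12 LD2_c14 LD3_c40)) = (LP (LK LD1_c12 LD2_c44 LD3_c61)) :=
  Lgr Lrot100 (Lpr_af (f105494 IH) (Lpn (LP (LK LD1_c12 LD2_c44 LD3_c61))))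
theorem f105523 : Led Lsl_et (LP (LK LD1_c6 LD2_c19 LD3_c57)) = (LP (LK LD1_c12 LD2_c14 LD3_c40)) :=
  Lre_e IH (LK LD1_c6 LD2_c19 LD3_c57) (LK LD1_c12 LD2_c14 LD3_c40) Lrfl Lrfl
theorem f105524 : Led Lsl_et (LP (LK LD1_c12 LD2_c44 LD3_c61)) = (LP (LK LD1_c6 LD2_c39 LD3_c34)) :=
  Lre_e IH (LK LD1_c12 LD2_c44 LD3_c61) (LK LD1_c6 LD2_c39 LD3_c34) Lrfl Lrfl
theorem f105525 : Led Lsl_af (LP (LK LD1_c6 LD2_c19 LD3_c57)) = (LP (LK LD1_c6 LD2_c39 LD3_c34)) :=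
  Lgr Lrot50 (Lpr_et (f105523 IH) (Lpr_at (f105515 IH) (Lpr_et (f105524 IH) (Lpn (LP (LK LD1_c6 LD2_c39 LD3_c34))))))
theorem f120648 : Led Lsl_at (LP (LK LD1_c3 LD2_c7 LD3_c32)) = (LP (LK LD1_c2 LD2_c20 LD3_c54)) :=
  Lgr Lrot67 (Lpe (K6.f61895 IH) (Lpr_af (f105525 IH) (Lpr_bf (K6.f65226 IH) (Lpr_af (K4.f120646 IH) (Lpe (K4.f103009 IH) (Lpn (LP (LK LD1_c2 LD2_c20 LD3_c54))))))))
theorem f107517 : Led Lsl_ff (LP (LK LD1_c4 LD2_c44 LD3_c34)) = (LP (LK LD1_c2 LD2_c20 LD3_c54)) :=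
  Lgr Lrot23 (Lpr_ct (K3.f23550 IH) (Lpe (K3.f98879 IH) (Lpr_ct (K3.f107509 IH) (Lpn (LP (LK LD1_c2 LD2_c20 LD3_c54))))))
theorem f120756 : Led Lsl_at (LP (LK LD1_c4 LD2_c44 LD3_c34)) = (LP (LK LD1_c2 LD2_c20 LD3_c53)) :=
  Lgr Lrot66 (Lpr_ff (f107517 IH) (Lpe (f120648 IH) (Lpr_ff (K4.f120754 IH) (Lpn (LP (LK LD1_c2 LD2_c20 LD3_c53))))))
theorem f703377 : Led Lsl_at (LP (LK LD1_c4 LD2_c45 LD3_c35)) = v13501 :=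
  Lgr Lrot80 (Lpe (f102977 IH) (Lpe (f120756 IH) (Lpr_ef (f703376 IH) (Lpn v13501))))
def v13723 : LQ := Led Lsl_ft (LP (LK LD1_c4 LD2_c47 LD3_c25))
theorem f704513 : Led Lsl_ft (LP (LK LD1_c4 LD2_c47 LD3_c25)) = v13723 :=
  Lrfl
def v13720 : LQ := Led Lsl_gt (LP (LK LD1_c4 LD2_c47 LD3_c25))
theorem f704493 : Led Lsl_gt (LP (LK LD1_c4 LD2_c47 LD3_c25)) = v13720 :=
  Lrfl
theorem f704514 : Led Lsl_af v7909 = v13723 :=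
  Lgr Lrot45 (Lpr_ft (f704508 IH) (Lpe (f704505 IH) (Lpr_ft (f704513 IH) (Lpn v13723))))
theorem f704517 : Led Lsl_gt v13720 = v7909 :=
  Lgr Lrot46 (Lpe (f704493 IH) (Lpr_ft (f704513 IH) (Lpe (f704514 IH) (Lpn v7909))))
theorem f707749 : v13572 = v13720 :=
  (Llr Lrot52 (Lpe (f703727 IH) (Lpr_at (f703377 IH) (Lpq (f707740 IH) (Lpe (f704510 IH) (Lpe (f704517 IH) (Lpn v13720))))))).symm
theorem f415897 : Led Lsl_bt (LP (LK LD1_c0 LD2_c31 LD3_c21)) = (LP (LK LD1_c1 LD2_c7 LD3_c61)) :=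
  Lre_b IH (LK LD1_c0 LD2_c31 LD3_c21) (LK LD1_c1 LD2_c7 LD3_c61) Lrfl Lrfl
theorem f707751 : v8132 = (LP (LK LD1_c1 LD2_c24 LD3_c34)) :=
  (Llr Lrot34 (Lpe (f670132 IH) (Lpr_gf (f632606 IH) (Lpr_bf (f702332 IH) (Lpr_ct (f703728 IH) (Lpqs (f707749 IH) (Lpe (f704493 IH) (Lpe (f501175 IH) (Lpe (f110545 IH) (Lpe (f415897 IH) (Lpr_ct (K32.f415323 IH) (Lpe (K17.f172564 IH) (Lpe (K31.f415843 IH) (Lpn (LP (LK LD1_c1 LD2_c24 LD3_c34)))))))))))))))).symm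
theorem f707752 : v1851 = v1728 :=
  Lefun (Lecon (Lfl_bf (f670132 IH)) (f707751 IH)) (f501173 IH)
theorem f707759 : v8126 = (LP (LK LD1_c3 LD2_c24 LD3_c14)) :=
  Lefun (Lecon (f670114 IH) (f707752 IH)) (f645700 IH)
theorem f707762 : Led Lsl_af v8130 = v6622 :=
  Lgr Lrot50 (Lpe (f670123 IH) (Lpr_at (f670112 IH) (Lpqs (f707759 IH) (Lpr_et (f654457 IH) (Lpn v6622)))))
theorem f632604 : Led Lsl_at v1852 = v4313 :=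
  Lgr Lrot66 (Lpe (f504572 IH) (Lpr_af (f136072 IH) (Lpr_ff (f632602 IH) (Lpn v4313))))
theorem f632607 : Led Lsl_gt v1850 = v4313 :=
  Lgr Lrot46 (Lpe (f504570 IH) (Lpr_ft (f504572 IH) (Lpr_at (f632604 IH) (Lpn v4313))))
def v5713 : LQ := Led Lsl_gf (LP (LK LD1_c3 LD2_c12 LD3_c22))
theorem f649009 : Led Lsl_gf (LP (LK LD1_c3 LD2_c12 LD3_c22)) = v5713 :=
  Lrfl
theorem f649010 : Led Lsl_gt v5388 = v5713 :=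
  Lgr Lrot5 (Lpe (f647339 IH) (Lpe (f208235 IH) (Lpr_gf (f649009 IH) (Lpn v5713))))
theorem f670124 : Led Lsl_df v5713 = v8130 :=
  Lgr Lrot168 (Lpe (f649010 IH) (Lpe (f647340 IH) (Lpe (f112015 IH) (Lpr_gf (f504552 IH) (Lpr_ef (f670091 IH) (Lpe (f670092 IH) (Lpr_gf (f647769 IH) (Lpe (f647768 IH) (Lpe (f632607 IH) (Lpr_ef (f670123 IH) (Lpn v8130)))))))))))
theorem f654462 : Led Lsl_dt v5359 = v6622 :=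
  Lgr Lrot42 (Lpr_df (f654461 IH) (Lpn v6622))
theorem f707764 : Led Lsl_at v5713 = v5359 :=
  Lgr Lrot51 (Lpr_df (f670124 IH) (Lpr_af (f707762 IH) (Lpe (f654462 IH) (Lpn v5359))))
theorem f120164 : Led Lsl_ff (LP (LK LD1_c1 LD2_c6 LD3_c44)) = (LP (LK LD1_c0 LD2_c41 LD3_c36)) :=
  Lgr Lrot23 (Lpr_ct (K4.f120123 IH) (Lpr_ft (K4.f120162 IH) (Lpr_ct (K7.f61907 IH) (Lpn (LP (LK LD1_c0 LD2_c41 LD3_c36))))))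
theorem f632587 : Led Lsl_ef v1852 = v4310 :=
  Lgr Lrot21 (Lpe (f504573 IH) (Lpr_et (K4.f104219 IH) (Lpe (f120164 IH) (Lpr_et (K4.f120128 IH) (Lpr_ft (f632584 IH) (Lpn v4310))))))
theorem f128619 : Led Lsl_at (LP (LK LD1_c6 LD2_c28 LD3_c37)) = (LP (LK LD1_c12 LD2_c27 LD3_c61)) :=
  Lre_a IH (LK LD1_c6 LD2_c28 LD3_c37) (LK LD1_c12 LD2_c27 LD3_c61) Lrfl Lrfl
theorem f128464 : Led Lsl_bt (LP (LK LD1_c3 LD2_c12 LD3_c23)) = (LP (LK LD1_c6 LD2_c28 LD3_c37)) :=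
  Lre_b IH (LK LD1_c3 LD2_c12 LD3_c23) (LK LD1_c6 LD2_c28 LD3_c37) Lrfl Lrfl
theorem f128620 : Led Lsl_at (LP (LK LD1_c3 LD2_c7 LD3_c10)) = (LP (LK LD1_c3 LD2_c12 LD3_c23)) :=
  Lgr Lrot67 (Lpe (K4.f89423 IH) (Lpr_af (K5.f126527 IH) (Lpr_bf (K5.f128617 IH) (Lpe (f128619 IH) (Lpe (f128464 IH) (Lpn (LP (LK LD1_c3 LD2_c12 LD3_c23))))))))
theorem f440101 : Led Lsl_gt (LP (LK LD1_c3 LD2_c7 LD3_c8)) = (LP (LK LD1_c3 LD2_c12 LD3_c23)) :=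
  Lgr Lrot46 (Lpe (f89415 IH) (Lpr_ft (f208237 IH) (Lpr_at (f128620 IH) (Lpn (LP (LK LD1_c3 LD2_c12 LD3_c23))))))
theorem f649021 : Led Lsl_ff (LP (LK LD1_c3 LD2_c12 LD3_c22)) = v5715 :=
  Lgr Lrot3 (Lpr_ft (f649017 IH) (Lpn v5715))
theorem f128447 : Led Lsl_ft (LP (LK LD1_c1 LD2_c32 LD3_c39)) = (LP (LK LD1_c3 LD2_c12 LD3_c23)) :=
  Lre_f IH (LK LD1_c1 LD2_c32 LD3_c39) (LK LD1_c3 LD2_c12 LD3_c23) Lrfl Lrfl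
theorem f649024 : Led Lsl_dt (LP (LK LD1_c3 LD2_c12 LD3_c23)) = v5715 :=
  Lgr Lrot60 (Lpe (f128447 IH) (Lpe (f128430 IH) (Lpr_ff (f649021 IH) (Lpn v5715))))
theorem f208238 : Led Lsl_at (LP (LK LD1_c3 LD2_c12 LD3_c22)) = (LP (LK LD1_c3 LD2_c7 LD3_c9)) :=
  Lgr Lrot100 (Lpr_af (f208235 IH) (Lpn (LP (LK LD1_c3 LD2_c7 LD3_c9))))
def v5386 : LQ := Led Lsl_gf (LP (LK LD1_c3 LD2_c7 LD3_c9))
theorem f647332 : Led Lsl_gf (LP (LK LD1_c3 LD2_c7 LD3_c9)) = v5386 :=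
  Lrfl
theorem f649026 : Led Lsl_gf v5386 = v5715 :=
  Lgr Lrot47 (Lpe (f647332 IH) (Lpe (f208238 IH) (Lpr_ff (f649021 IH) (Lpn v5715))))
theorem f707730 : v5386 = v5359 :=
  (Llr Lrot139 (Lpr_gf (f649026 IH) (Lpe (f649024 IH) (Lpe (f440101 IH) (Lpr_ef (f647324 IH) (Lpe (f647325 IH) (Lpr_gf (f131508 IH) (Lpqs (f707513 IH) (Lpe (f654388 IH) (Lpq (f707496 IH) (Lpe (f632587 IH) (Lpe (f632603 IH) (Lpq (f707726 IH) (Lpr_ef (f654459 IH) (Lpe (f654461 IH) (Lpn v5359)))))))))))))))).symm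
def v5385 : LQ := Led Lsl_gt (LP (LK LD1_c3 LD2_c7 LD3_c9))
theorem f647331 : Led Lsl_gt (LP (LK LD1_c3 LD2_c7 LD3_c9)) = v5385 :=
  Lrfl
theorem f707731 : Led Lsl_at v5669 = v5385 :=
  Lgr Lrot26 (Lpe (f648766 IH) (Lpq (f707730 IH) (Lpe (f647332 IH) (Lpr_gt (f647331 IH) (Lpn v5385)))))
theorem f707767 : Led Lsl_ff v5713 = v5385 :=
  Lgr Lrot30 (Lpr_at (f707764 IH) (Lpr_ft (f648766 IH) (Lpr_at (f707731 IH) (Lpn v5385))))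
theorem f707768 : Led Lsl_ft v5713 = v5385 :=
  Lgr Lrot48 (Lpr_ff (f707767 IH) (Lpn v5385))
theorem f707732 : Led Lsl_af v5669 = v5385 :=
  Lgr Lrot0 (Lpr_at (f707731 IH) (Lpn v5385))
theorem f707769 : v5712 = v5669 :=
  (Llr Lrot46 (Lpe (f649008 IH) (Lpr_gf (f649009 IH) (Lpr_ft (f707768 IH) (Lpe (f707732 IH) (Lpn v5669)))))).symm
theorem f707770 : v8144 = v8195 :=
  Lefun (Lecon (f670171 IH) (f707769 IH)) (f670304 IH)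
theorem f82341 : Led Lsl_dt (LP (LK LD1_c1 LD2_c32 LD3_c39)) = (LP (LK LD1_c3 LD2_c12 LD3_c22)) :=
  Lre_d IH (LK LD1_c1 LD2_c32 LD3_c39) (LK LD1_c3 LD2_c12 LD3_c22) Lrfl Lrfl
theorem f82676 : Led Lsl_dt (LP (LK LD1_c3 LD2_c12 LD3_c33)) = (LP (LK LD1_c1 LD2_c32 LD3_c44)) :=
  Lre_d IH (LK LD1_c3 LD2_c12 LD3_c33) (LK LD1_c1 LD2_c32 LD3_c44) Lrfl Lrfl
def v5732 : LQ := Led Lsl_et (LP (LK LD1_c3 LD2_c12 LD3_c33))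
theorem f649100 : Led Lsl_et (LP (LK LD1_c3 LD2_c12 LD3_c33)) = v5732 :=
  Lrfl
theorem f670126 : Led Lsl_gt v5732 = v8130 :=
  Lgr Lrot137 (Lpe (f649100 IH) (Lpr_dt (f82676 IH) (Lpe (K46.f82670 IH) (Lpe (K11.f82655 IH) (Lpr_et (K11.f82654 IH) (Lpe (K4.f26086 IH) (Lpe (K5.f82340 IH) (Lpr_dt (f82341 IH) (Lpr_gf (f649009 IH) (Lpr_df (f670124 IH) (Lpn v8130)))))))))))
theorem f707765 : Led Lsl_gf v5732 = v8195 :=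
  Lgr Lrot47 (Lpr_gt (f670126 IH) (Lpr_af (f707762 IH) (Lpr_ff (f670303 IH) (Lpn v8195))))
theorem f707771 : Led Lsl_at v8147 = v5732 :=
  Lgr Lrot26 (Lpe (f670176 IH) (Lpr_gt (f670169 IH) (Lpqs (f707770 IH) (Lpe (f707765 IH) (Lpn v5732)))))
theorem f670178 : Led Lsl_ff v1857 = v8147 :=
  Lgr Lrot3 (Lpr_ft (f670176 IH) (Lpn v8147))
theorem f504605 : Led Lsl_ef (LP (LK LD1_c1 LD2_c30 LD3_c8)) = v1857 :=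
  Lgr Lrot88 (Lpr_et (f504604 IH) (Lpn v1857))
def v5443 : LQ := Led Lsl_at (LP (LK LD1_c3 LD2_c7 LD3_c55))
theorem f647671 : Led Lsl_at (LP (LK LD1_c3 LD2_c7 LD3_c55)) = v5443 :=
  Lrfl
theorem f504589 : Led Lsl_et (LP (LK LD1_c1 LD2_c30 LD3_c7)) = (LP (LK LD1_c3 LD2_c7 LD3_c55)) :=
  Lre_e IH (LK LD1_c1 LD2_c30 LD3_c7) (LK LD1_c3 LD2_c7 LD3_c55) Lrfl Lrfl
theorem f647673 : Led Lsl_ef K46.v1855 = v5443 :=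
  Lgr Lrot20 (Lpe (K46.f504585 IH) (Lpr_et (f504589 IH) (Lpr_at (f647671 IH) (Lpn v5443))))
theorem f647674 : Led Lsl_et K46.v1855 = v5443 :=
  Lgr Lrot87 (Lpr_ef (f647673 IH) (Lpn v5443))
def v5694 : LQ := Led Lsl_dt (LP (LK LD1_c3 LD2_c12 LD3_c5))
theorem f648935 : Led Lsl_dt (LP (LK LD1_c3 LD2_c12 LD3_c5)) = v5694 :=
  Lrfl
theorem f648937 : Led Lsl_df (LP (LK LD1_c3 LD2_c12 LD3_c5)) = v5694 :=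
  Lgr Lrot38 (Lpr_dt (f648935 IH) (Lpn v5694))
def v5693 : LQ := Led Lsl_at (LP (LK LD1_c3 LD2_c12 LD3_c5))
theorem f648928 : Led Lsl_at (LP (LK LD1_c3 LD2_c12 LD3_c5)) = v5693 :=
  Lrfl
theorem f648929 : Led Lsl_af (LP (LK LD1_c3 LD2_c12 LD3_c5)) = v5693 :=
  Lgr Lrot0 (Lpr_at (f648928 IH) (Lpn v5693))
theorem f82784 : Led Lsl_gt (LP (LK LD1_c1 LD2_c32 LD3_c33)) = (LP (LK LD1_c3 LD2_c12 LD3_c5)) :=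
  Lre_g IH (LK LD1_c1 LD2_c32 LD3_c33) (LK LD1_c3 LD2_c12 LD3_c5) Lrfl Lrfl
def v1969 : LQ := Led Lsl_gf (LP (LK LD1_c1 LD2_c32 LD3_c33))
theorem f506666 : Led Lsl_gf (LP (LK LD1_c1 LD2_c32 LD3_c33)) = v1969 :=
  Lrfl
theorem f648931 : Led Lsl_ft v1969 = v5693 :=
  Lgr Lrot2 (Lpe (f506666 IH) (Lpr_gt (f82784 IH) (Lpr_af (f648929 IH) (Lpn v5693))))
theorem f82660 : Led Lsl_at (LP (LK LD1_c0 LD2_c42 LD3_c57)) = (LP (LK LD1_c1 LD2_c32 LD3_c33)) :=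
  Lre_a IH (LK LD1_c0 LD2_c42 LD3_c57) (LK LD1_c1 LD2_c32 LD3_c33) Lrfl Lrfl
theorem f82661 : Led Lsl_df (LP (LK LD1_c1 LD2_c32 LD3_c33)) = (LP (LK LD1_c1 LD2_c32 LD3_c33)) :=
  Lgr Lrot18 (Lpr_at (K46.f82659 IH) (Lpr_dt (K11.f82655 IH) (Lpr_at (f82660 IH) (Lpn (LP (LK LD1_c1 LD2_c32 LD3_c33))))))
theorem f82381 : Led Lsl_et (LP (LK LD1_c1 LD2_c32 LD3_c33)) = (LP (LK LD1_c0 LD2_c42 LD3_c53)) :=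
  Lre_e IH (LK LD1_c1 LD2_c32 LD3_c33) (LK LD1_c0 LD2_c42 LD3_c53) Lrfl Lrfl
theorem f110454 : Led Lsl_et (LP (LK LD1_c3 LD2_c7 LD3_c55)) = (LP (LK LD1_c1 LD2_c30 LD3_c7)) :=
  Lre_e IH (LK LD1_c3 LD2_c7 LD3_c55) (LK LD1_c1 LD2_c30 LD3_c7) Lrfl Lrfl
theorem f506668 : Led Lsl_dt (LP (LK LD1_c3 LD2_c7 LD3_c55)) = v1969 :=
  Lgr Lrot136 (Lpr_et (f110454 IH) (Lpe (K46.f110453 IH) (Lpe (f110452 IH) (Lpr_dt (K4.f25020 IH) (Lpe (K3.f57579 IH) (Lpe (K4.f57589 IH) (Lpe (K8.f110442 IH) (Lpe (f82381 IH) (Lpe (f82661 IH) (Lpr_gf (f506666 IH) (Lpn v1969)))))))))))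
theorem f647676 : Led Lsl_ff (LP (LK LD1_c3 LD2_c7 LD3_c55)) = v5444 :=
  Lgr Lrot3 (Lpr_ft (f647675 IH) (Lpn v5444))
theorem f648932 : Led Lsl_df v5444 = v5693 :=
  Lgr Lrot78 (Lpe (f647676 IH) (Lpr_dt (f506668 IH) (Lpr_ft (f648931 IH) (Lpn v5693))))
theorem f648938 : Led Lsl_at v5444 = v5694 :=
  Lgr Lrot51 (Lpr_df (f648932 IH) (Lpe (f648928 IH) (Lpr_df (f648937 IH) (Lpn v5694))))
theorem f647672 : Led Lsl_af (LP (LK LD1_c3 LD2_c7 LD3_c55)) = v5443 :=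
  Lgr Lrot0 (Lpr_at (f647671 IH) (Lpn v5443))
theorem f648939 : Led Lsl_ff v5443 = v5694 :=
  Lgr Lrot30 (Lpe (f647672 IH) (Lpr_ft (f647675 IH) (Lpr_at (f648938 IH) (Lpn v5694))))
theorem f648941 : Led Lsl_ft v5443 = v5694 :=
  Lgr Lrot48 (Lpr_ff (f648939 IH) (Lpn v5694))
theorem f670179 : Led Lsl_et v5694 = v8147 :=
  Lgr Lrot69 (Lpe (f648941 IH) (Lpe (f647674 IH) (Lpe (K46.f504590 IH) (Lpr_ef (f504605 IH) (Lpr_ff (f670178 IH) (Lpn v8147))))))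
theorem f649101 : Led Lsl_ef (LP (LK LD1_c3 LD2_c12 LD3_c33)) = v5732 :=
  Lgr Lrot88 (Lpr_et (f649100 IH) (Lpn v5732))
theorem f707773 : v5444 = (LP (LK LD1_c3 LD2_c12 LD3_c33)) :=
  (Llr Lrot50 (Lpr_at (f648938 IH) (Lpr_et (f670179 IH) (Lpr_at (f707771 IH) (Lpe (f649101 IH) (Lpn (LP (LK LD1_c3 LD2_c12 LD3_c33)))))))).symm
theorem f707778 : Led Lsl_ft (LP (LK LD1_c3 LD2_c7 LD3_c55)) = (LP (LK LD1_c3 LD2_c12 LD3_c33)) :=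
  Leop (Lpq (f707773 IH) (Lpe (f647675 IH) (Lpn (LP (LK LD1_c3 LD2_c7 LD3_c55)))))
theorem seed_713 : LEOK LG_f (LK LD1_c3 LD2_c7 LD3_c55) :=
  Leoe_f (LK LD1_c3 LD2_c7 LD3_c55) (f707778 IH)
theorem f648933 : Led Lsl_ff v1969 = v5693 :=
  Lgr Lrot3 (Lpr_ft (f648931 IH) (Lpn v5693))
theorem f506671 : Led Lsl_df (LP (LK LD1_c3 LD2_c7 LD3_c55)) = v1969 :=
  Lgr Lrot38 (Lpr_dt (f506668 IH) (Lpn v1969))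
theorem f648934 : Led Lsl_dt v5444 = v5693 :=
  Lgr Lrot60 (Lpe (f647675 IH) (Lpr_df (f506671 IH) (Lpr_ff (f648933 IH) (Lpn v5693))))
theorem f707776 : v5693 = (LP (LK LD1_c1 LD2_c32 LD3_c44)) :=
  Lefun (Lecon (f648934 IH) (f707773 IH)) (f82676 IH)
theorem f707782 : Led Lsl_at (LP (LK LD1_c3 LD2_c12 LD3_c5)) = (LP (LK LD1_c1 LD2_c32 LD3_c44)) :=
  Leop (Lpq (f707776 IH) (Lpe (f648928 IH) (Lpn (LP (LK LD1_c3 LD2_c12 LD3_c5)))))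
theorem seed_714 : LEOK LG_a (LK LD1_c3 LD2_c12 LD3_c5) :=
  Leoe_a (LK LD1_c3 LD2_c12 LD3_c5) (f707782 IH)
def v1856 : LQ := Led Lsl_ft (LP (LK LD1_c1 LD2_c30 LD3_c7))
theorem f504596 : Led Lsl_ft (LP (LK LD1_c1 LD2_c30 LD3_c7)) = v1856 :=
  Lrfl
def v8143 : LQ := Led Lsl_et v1856
theorem f670165 : Led Lsl_et v1856 = v8143 :=
  Lrfl
theorem f670167 : Led Lsl_ef v1856 = v8143 :=
  Lgr Lrot88 (Lpr_et (f670165 IH) (Lpn v8143))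
def v5398 : LQ := Led Lsl_et (LP (LK LD1_c3 LD2_c7 LD3_c21))
theorem f647372 : Led Lsl_et (LP (LK LD1_c3 LD2_c7 LD3_c21)) = v5398 :=
  Lrfl
theorem f647373 : Led Lsl_ef (LP (LK LD1_c3 LD2_c7 LD3_c21)) = v5398 :=
  Lgr Lrot88 (Lpr_et (f647372 IH) (Lpn v5398))
theorem f504598 : Led Lsl_ff (LP (LK LD1_c1 LD2_c30 LD3_c7)) = v1856 :=
  Lgr Lrot3 (Lpr_ft (f504596 IH) (Lpn v1856))
theorem f504601 : Led Lsl_at (LP (LK LD1_c1 LD2_c30 LD3_c8)) = v1856 :=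
  Lgr Lrot66 (Lpr_ff (K46.f504593 IH) (Lpe (K46.f504584 IH) (Lpr_ff (f504598 IH) (Lpn v1856))))
theorem f670166 : Led Lsl_af v1857 = v8143 :=
  Lgr Lrot50 (Lpe (f504605 IH) (Lpr_at (f504601 IH) (Lpr_et (f670165 IH) (Lpn v8143))))
def v5733 : LQ := Led Lsl_ft (LP (LK LD1_c3 LD2_c12 LD3_c33))
theorem f649102 : Led Lsl_ft (LP (LK LD1_c3 LD2_c12 LD3_c33)) = v5733 :=
  Lrfl
theorem f649105 : Led Lsl_ff (LP (LK LD1_c3 LD2_c12 LD3_c33)) = v5733 :=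
  Lgr Lrot3 (Lpr_ft (f649102 IH) (Lpn v5733))
def v5731 : LQ := Led Lsl_at (LP (LK LD1_c3 LD2_c12 LD3_c33))
theorem f649090 : Led Lsl_at (LP (LK LD1_c3 LD2_c12 LD3_c33)) = v5731 :=
  Lrfl
theorem f82671 : Led Lsl_dt (LP (LK LD1_c1 LD2_c32 LD3_c44)) = (LP (LK LD1_c3 LD2_c12 LD3_c33)) :=
  Lre_d IH (LK LD1_c1 LD2_c32 LD3_c44) (LK LD1_c3 LD2_c12 LD3_c33) Lrfl Lrfl
def v1976 : LQ := Led Lsl_at (LP (LK LD1_c1 LD2_c32 LD3_c44))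
theorem f506709 : Led Lsl_at (LP (LK LD1_c1 LD2_c32 LD3_c44)) = v1976 :=
  Lrfl
theorem f506710 : Led Lsl_af (LP (LK LD1_c1 LD2_c32 LD3_c44)) = v1976 :=
  Lgr Lrot0 (Lpr_at (f506709 IH) (Lpn v1976))
theorem f649093 : Led Lsl_df v1976 = v5731 :=
  Lgr Lrot18 (Lpe (f506710 IH) (Lpr_dt (f82671 IH) (Lpr_at (f649090 IH) (Lpn v5731))))
def v497 : LQ := Led Lsl_gf (LP (LK LD1_c0 LD2_c42 LD3_c57))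
theorem f453629 : Led Lsl_gf (LP (LK LD1_c0 LD2_c42 LD3_c57)) = v497 :=
  Lrfl
theorem f506714 : Led Lsl_ft v497 = v1976 :=
  Lgr Lrot2 (Lpe (f453629 IH) (Lpr_gt (K46.f82670 IH) (Lpr_af (f506710 IH) (Lpn v1976))))
theorem f506715 : Led Lsl_ff v497 = v1976 :=
  Lgr Lrot3 (Lpr_ft (f506714 IH) (Lpn v1976))
def v3087 : LQ := Led Lsl_dt v497
theorem f623808 : Led Lsl_dt v497 = v3087 :=
  Lrfl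
theorem f649095 : Led Lsl_ft v3087 = v5731 :=
  Lgr Lrot54 (Lpe (f623808 IH) (Lpr_ff (f506715 IH) (Lpr_df (f649093 IH) (Lpn v5731))))
theorem f649096 : Led Lsl_ff v3087 = v5731 :=
  Lgr Lrot3 (Lpr_ft (f649095 IH) (Lpn v5731))
theorem f649107 : Led Lsl_at v3087 = v5733 :=
  Lgr Lrot66 (Lpr_ff (f649096 IH) (Lpe (f649090 IH) (Lpr_ff (f649105 IH) (Lpn v5733))))
theorem f623809 : Led Lsl_df v497 = v3087 :=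
  Lgr Lrot38 (Lpr_dt (f623808 IH) (Lpn v3087))
theorem f155509 : Led Lsl_et (LP (LK LD1_c0 LD2_c41 LD3_c34)) = (LP (LK LD1_c1 LD2_c29 LD3_c54)) :=
  Lre_e IH (LK LD1_c0 LD2_c41 LD3_c34) (LK LD1_c1 LD2_c29 LD3_c54) Lrfl Lrfl
theorem f155510 : Led Lsl_gt (LP (LK LD1_c1 LD2_c29 LD3_c54)) = (LP (LK LD1_c3 LD2_c7 LD3_c20)) :=
  Lre_g IH (LK LD1_c1 LD2_c29 LD3_c54) (LK LD1_c3 LD2_c7 LD3_c20) Lrfl Lrfl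
theorem f623810 : Led Lsl_ef (LP (LK LD1_c3 LD2_c7 LD3_c20)) = v3087 :=
  Lgr Lrot17 (Lpe (f155510 IH) (Lpe (f155509 IH) (Lpr_dt (K7.f104685 IH) (Lpe (K7.f155501 IH) (Lpe (K5.f113064 IH) (Lpe (K7.f62876 IH) (Lpe (K11.f82654 IH) (Lpr_dt (K11.f82655 IH) (Lpr_gf (f453629 IH) (Lpr_df (f623809 IH) (Lpn v3087)))))))))))
theorem f623812 : Led Lsl_et (LP (LK LD1_c3 LD2_c7 LD3_c20)) = v3087 :=
  Lgr Lrot87 (Lpr_ef (f623810 IH) (Lpn v3087))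
def v5395 : LQ := Led Lsl_at (LP (LK LD1_c3 LD2_c7 LD3_c20))
theorem f647362 : Led Lsl_at (LP (LK LD1_c3 LD2_c7 LD3_c20)) = v5395 :=
  Lrfl
theorem f647363 : Led Lsl_af (LP (LK LD1_c3 LD2_c7 LD3_c20)) = v5395 :=
  Lgr Lrot0 (Lpr_at (f647362 IH) (Lpn v5395))
theorem f649109 : Led Lsl_ef v5395 = v5733 :=
  Lgr Lrot20 (Lpe (f647363 IH) (Lpr_et (f623812 IH) (Lpr_at (f649107 IH) (Lpn v5733))))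
theorem f155500 : Led Lsl_gt (LP (LK LD1_c3 LD2_c7 LD3_c21)) = (LP (LK LD1_c1 LD2_c29 LD3_c54)) :=
  Lre_g IH (LK LD1_c3 LD2_c7 LD3_c21) (LK LD1_c1 LD2_c29 LD3_c54) Lrfl Lrfl
theorem f647364 : Led Lsl_ft (LP (LK LD1_c3 LD2_c7 LD3_c21)) = v5395 :=
  Lgr Lrot2 (Lpr_gt (f155500 IH) (Lpr_gt (f155510 IH) (Lpr_af (f647363 IH) (Lpn v5395))))
theorem f647365 : Led Lsl_ff (LP (LK LD1_c3 LD2_c7 LD3_c21)) = v5395 :=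
  Lgr Lrot3 (Lpr_ft (f647364 IH) (Lpn v5395))
theorem f649111 : Led Lsl_ft v5398 = v5732 :=
  Lgr Lrot86 (Lpe (f647372 IH) (Lpr_ff (f647365 IH) (Lpr_ef (f649109 IH) (Lpe (f649102 IH) (Lpr_ef (f649101 IH) (Lpn v5732))))))
theorem f649112 : Led Lsl_ff v5398 = v5732 :=
  Lgr Lrot3 (Lpr_ft (f649111 IH) (Lpn v5732))
theorem f707774 : v8143 = v5398 :=
  (Llr Lrot45 (Lpe (f670166 IH) (Lpr_ft (f670176 IH) (Lpr_at (f707771 IH) (Lpe (f649112 IH) (Lpn v5398)))))).symm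
theorem f707780 : v1856 = (LP (LK LD1_c3 LD2_c7 LD3_c21)) :=
  Lefun (Lecon (Lfl_ef (f670167 IH)) (f707774 IH)) (Lfl_ef (f647373 IH))
theorem f707787 : Led Lsl_ft (LP (LK LD1_c1 LD2_c30 LD3_c7)) = (LP (LK LD1_c3 LD2_c7 LD3_c21)) :=
  Leop (Lpq (f707780 IH) (Lpe (f504596 IH) (Lpn (LP (LK LD1_c1 LD2_c30 LD3_c7)))))
theorem seed_715 : LEOK LG_f (LK LD1_c1 LD2_c30 LD3_c7) :=
  Leoe_f (LK LD1_c1 LD2_c30 LD3_c7) (f707787 IH)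
theorem f155511 : Led Lsl_dt (LP (LK LD1_c3 LD2_c7 LD3_c20)) = (LP (LK LD1_c6 LD2_c19 LD3_c45)) :=
  Lre_d IH (LK LD1_c3 LD2_c7 LD3_c20) (LK LD1_c6 LD2_c19 LD3_c45) Lrfl Lrfl
theorem f91449 : Led Lsl_gt (LP (LK LD1_c3 LD2_c12 LD3_c33)) = (LP (LK LD1_c6 LD2_c29 LD3_c13)) :=
  Lre_g IH (LK LD1_c3 LD2_c12 LD3_c33) (LK LD1_c6 LD2_c29 LD3_c13) Lrfl Lrfl
theorem f649091 : Led Lsl_af (LP (LK LD1_c3 LD2_c12 LD3_c33)) = v5731 :=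
  Lgr Lrot0 (Lpr_at (f649090 IH) (Lpn v5731))
theorem f649103 : Led Lsl_af v3087 = v5733 :=
  Lgr Lrot45 (Lpr_ft (f649095 IH) (Lpe (f649091 IH) (Lpr_ft (f649102 IH) (Lpn v5733))))
theorem f649106 : Led Lsl_gt (LP (LK LD1_c6 LD2_c29 LD3_c13)) = v3087 :=
  Lgr Lrot46 (Lpe (f91449 IH) (Lpr_ft (f649102 IH) (Lpe (f649103 IH) (Lpn v3087))))
theorem f62924 : Led Lsl_gt (LP (LK LD1_c3 LD2_c12 LD3_c12)) = (LP (LK LD1_c1 LD2_c32 LD3_c36)) :=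
  Lre_g IH (LK LD1_c3 LD2_c12 LD3_c12) (LK LD1_c1 LD2_c32 LD3_c36) Lrfl Lrfl
def v5704 : LQ := Led Lsl_et (LP (LK LD1_c3 LD2_c12 LD3_c12))
theorem f648978 : Led Lsl_et (LP (LK LD1_c3 LD2_c12 LD3_c12)) = v5704 :=
  Lrfl
theorem f648979 : Led Lsl_ef (LP (LK LD1_c3 LD2_c12 LD3_c12)) = v5704 :=
  Lgr Lrot88 (Lpr_et (f648978 IH) (Lpn v5704))
def v5747 : LQ := Led Lsl_bt (LP (LK LD1_c3 LD2_c12 LD3_c45))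
theorem f649180 : Led Lsl_bt (LP (LK LD1_c3 LD2_c12 LD3_c45)) = v5747 :=
  Lrfl
theorem f649182 : Led Lsl_ef K48.v1982 = v5747 :=
  Lgr Lrot29 (Lpe (K48.f506752 IH) (Lpr_et (K17.f61026 IH) (Lpr_bt (f649180 IH) (Lpn v5747))))
theorem f649183 : Led Lsl_et K48.v1982 = v5747 :=
  Lgr Lrot87 (Lpr_ef (f649182 IH) (Lpn v5747))
def v5703 : LQ := Led Lsl_dt (LP (LK LD1_c3 LD2_c12 LD3_c12))
theorem f648974 : Led Lsl_dt (LP (LK LD1_c3 LD2_c12 LD3_c12)) = v5703 :=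
  Lrfl
theorem f648975 : Led Lsl_df (LP (LK LD1_c3 LD2_c12 LD3_c12)) = v5703 :=
  Lgr Lrot38 (Lpr_dt (f648974 IH) (Lpn v5703))
theorem f649179 : Led Lsl_et K48.v1984 = v5746 :=
  Lgr Lrot87 (Lpr_ef (f649175 IH) (Lpn v5746))
theorem f128436 : Led Lsl_et (LP (LK LD1_c0 LD2_c42 LD3_c55)) = (LP (LK LD1_c1 LD2_c32 LD3_c39)) :=
  Lre_e IH (LK LD1_c0 LD2_c42 LD3_c55) (LK LD1_c1 LD2_c32 LD3_c39) Lrfl Lrfl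
theorem f128439 : Led Lsl_gt (LP (LK LD1_c1 LD2_c32 LD3_c39)) = (LP (LK LD1_c3 LD2_c12 LD3_c20)) :=
  Lre_g IH (LK LD1_c1 LD2_c32 LD3_c39) (LK LD1_c3 LD2_c12 LD3_c20) Lrfl Lrfl
theorem f648976 : Led Lsl_ef (LP (LK LD1_c3 LD2_c12 LD3_c20)) = v5703 :=
  Lgr Lrot17 (Lpe (f128439 IH) (Lpe (f128436 IH) (Lpe (K5.f128403 IH) (Lpr_gf (K7.f155505 IH) (Lpe (K7.f104685 IH) (Lpe (K7.f152484 IH) (Lpe (K5.f120179 IH) (Lpr_dt (K5.f131506 IH) (Lpe (f62924 IH) (Lpr_df (f648975 IH) (Lpn v5703)))))))))))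
theorem f648977 : Led Lsl_et (LP (LK LD1_c3 LD2_c12 LD3_c20)) = v5703 :=
  Lgr Lrot87 (Lpr_ef (f648976 IH) (Lpn v5703))
theorem f128625 : Led Lsl_at (LP (LK LD1_c12 LD2_c27 LD3_c61)) = (LP (LK LD1_c6 LD2_c28 LD3_c37)) :=
  Lre_a IH (LK LD1_c12 LD2_c27 LD3_c61) (LK LD1_c6 LD2_c28 LD3_c37) Lrfl Lrfl
theorem f128626 : Led Lsl_bt (LP (LK LD1_c6 LD2_c28 LD3_c37)) = (LP (LK LD1_c3 LD2_c12 LD3_c23)) :=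
  Lre_b IH (LK LD1_c6 LD2_c28 LD3_c37) (LK LD1_c3 LD2_c12 LD3_c23) Lrfl Lrfl
theorem f128627 : Led Lsl_af (LP (LK LD1_c3 LD2_c7 LD3_c10)) = (LP (LK LD1_c3 LD2_c12 LD3_c23)) :=
  Lgr Lrot36 (Lpr_bt (K4.f89417 IH) (Lpr_at (K5.f126521 IH) (Lpr_bt (K5.f128622 IH) (Lpr_at (f128625 IH) (Lpr_bt (f128626 IH) (Lpn (LP (LK LD1_c3 LD2_c12 LD3_c23))))))))
theorem f440097 : Led Lsl_gf (LP (LK LD1_c3 LD2_c7 LD3_c10)) = (LP (LK LD1_c3 LD2_c12 LD3_c20)) :=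
  Lgr Lrot76 (Lpr_af (f128627 IH) (Lpe (f128447 IH) (Lpr_gt (f128439 IH) (Lpn (LP (LK LD1_c3 LD2_c12 LD3_c20))))))
theorem f707594 : K48.v1984 = (LP (LK LD1_c3 LD2_c12 LD3_c20)) :=
  Lefun (Lecon (Lfl_gt (f670791 IH)) (f707571 IH)) (f440097 IH)
theorem f707637 : v5746 = v5703 :=
  Lefun (Lecon (f649179 IH) (f707594 IH)) (f648977 IH)
theorem f707643 : K48.v1982 = (LP (LK LD1_c3 LD2_c12 LD3_c12)) :=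
  Lefun (Lecon (Lfl_df (f649174 IH)) (f707637 IH)) (Lfl_df (f648975 IH))
theorem f707662 : v5747 = v5704 :=
  Lefun (Lecon (f649183 IH) (f707643 IH)) (f648978 IH)
def v13261 : LQ := Led Lsl_bt (LP (LK LD1_c4 LD2_c42 LD3_c2))
theorem f701998 : Led Lsl_bt (LP (LK LD1_c4 LD2_c42 LD3_c2)) = v13261 :=
  Lrfl
def v5752 : LQ := Led Lsl_bt (LP (LK LD1_c3 LD2_c12 LD3_c53))
theorem f649199 : Led Lsl_bt (LP (LK LD1_c3 LD2_c12 LD3_c53)) = v5752 :=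
  Lrfl
theorem f649200 : Led Lsl_bf (LP (LK LD1_c3 LD2_c12 LD3_c53)) = v5752 :=
  Lgr Lrot24 (Lpr_bt (f649199 IH) (Lpn v5752))
theorem f702001 : Led Lsl_ef v5752 = v13261 :=
  Lgr Lrot29 (Lpe (f649200 IH) (Lpe (K32.f79710 IH) (Lpr_bt (f701998 IH) (Lpn v13261))))
theorem f649201 : Led Lsl_df K48.v1984 = v5752 :=
  Lgr Lrot12 (Lpe (K48.f506758 IH) (Lpr_dt (K29.f59489 IH) (Lpr_bt (f649199 IH) (Lpn v5752))))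
theorem f702004 : Led Lsl_dt v5747 = v13261 :=
  Lgr Lrot77 (Lpe (f649183 IH) (Lpr_df (f649174 IH) (Lpe (f649179 IH) (Lpr_df (f649201 IH) (Lpr_ef (f702001 IH) (Lpn v13261))))))
theorem f707844 : Led Lsl_gf v13261 = (LP (LK LD1_c6 LD2_c19 LD3_c45)) :=
  Lgr Lrot134 (Lpe (f702004 IH) (Lpqs (f707662 IH) (Lpe (f648979 IH) (Lpr_gt (f62924 IH) (Lpe (K4.f112026 IH) (Lpr_dt (K5.f113064 IH) (Lpr_gt (K7.f155501 IH) (Lpe (K7.f104685 IH) (Lpr_et (f155509 IH) (Lpr_gt (f155510 IH) (Lpr_dt (f155511 IH) (Lpn (LP (LK LD1_c6 LD2_c19 LD3_c45))))))))))))))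
theorem f707845 : Led Lsl_ef (LP (LK LD1_c6 LD2_c29 LD3_c13)) = v6607 :=
  Lgr Lrot114 (Lpr_gt (f649106 IH) (Lpe (f623812 IH) (Lpr_dt (f155511 IH) (Lpe (f707844 IH) (Lpe (f702004 IH) (Lpqs (f707662 IH) (Lpe (f648979 IH) (Lpr_gt (f62924 IH) (Lpe (K5.f131513 IH) (Lpr_gt (f632581 IH) (Lpq (f707578 IH) (Lpr_df (f654398 IH) (Lpn v6607)))))))))))))
theorem f647533 : Led Lsl_et v4308 = v5415 :=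
  Lgr Lrot87 (Lpr_ef (f647532 IH) (Lpn v5415))
theorem f91452 : Led Lsl_et (LP (LK LD1_c6 LD2_c20 LD3_c6)) = (LP (LK LD1_c3 LD2_c7 LD3_c37)) :=
  Lre_e IH (LK LD1_c6 LD2_c20 LD3_c6) (LK LD1_c3 LD2_c7 LD3_c37) Lrfl Lrfl
theorem f707848 : Led Lsl_ft (LP (LK LD1_c6 LD2_c29 LD3_c13)) = (LP (LK LD1_c6 LD2_c20 LD3_c6)) :=
  Lgr Lrot86 (Lpr_ef (f707845 IH) (Lpr_ff (f654405 IH) (Lpqs (f707559 IH) (Lpe (f647533 IH) (Lpq (f707578 IH) (Lpr_ff (f653659 IH) (Lpq (f707499 IH) (Lpe (f91452 IH) (Lpn (LP (LK LD1_c6 LD2_c20 LD3_c6)))))))))))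
theorem f707849 : Led Lsl_ft (LP (LK LD1_c6 LD2_c29 LD3_c13)) = (LP (LK LD1_c6 LD2_c20 LD3_c6)) :=
  Leop (Lpe (f707848 IH) (Lpn (LP (LK LD1_c6 LD2_c29 LD3_c13))))
theorem seed_716 : LEOK LG_f (LK LD1_c6 LD2_c29 LD3_c13) :=
  Leoe_f (LK LD1_c6 LD2_c29 LD3_c13) (f707849 IH)
def v5441 : LQ := Led Lsl_gt (LP (LK LD1_c3 LD2_c7 LD3_c55))
theorem f647669 : Led Lsl_gt (LP (LK LD1_c3 LD2_c7 LD3_c55)) = v5441 :=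
  Lrfl
def v5730 : LQ := Led Lsl_gf (LP (LK LD1_c3 LD2_c12 LD3_c33))
theorem f649089 : Led Lsl_gf (LP (LK LD1_c3 LD2_c12 LD3_c33)) = v5730 :=
  Lrfl
theorem f649097 : Led Lsl_gt v3087 = v5730 :=
  Lgr Lrot5 (Lpr_ft (f649095 IH) (Lpe (f649091 IH) (Lpr_gf (f649089 IH) (Lpn v5730))))
theorem f707854 : Led Lsl_af v5730 = (LP (LK LD1_c6 LD2_c20 LD3_c6)) :=
  Lgr Lrot31 (Lpe (f649097 IH) (Lpe (f649106 IH) (Lpr_ft (f707848 IH) (Lpn (LP (LK LD1_c6 LD2_c20 LD3_c6))))))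
theorem f91459 : Led Lsl_et (LP (LK LD1_c3 LD2_c7 LD3_c37)) = (LP (LK LD1_c6 LD2_c20 LD3_c6)) :=
  Lre_e IH (LK LD1_c3 LD2_c7 LD3_c37) (LK LD1_c6 LD2_c20 LD3_c6) Lrfl Lrfl
def v5413 : LQ := Led Lsl_at (LP (LK LD1_c3 LD2_c7 LD3_c37))
theorem f647523 : Led Lsl_at (LP (LK LD1_c3 LD2_c7 LD3_c37)) = v5413 :=
  Lrfl
theorem f647524 : Led Lsl_af (LP (LK LD1_c3 LD2_c7 LD3_c37)) = v5413 :=
  Lgr Lrot0 (Lpr_at (f647523 IH) (Lpn v5413))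
theorem f707546 : (LP (LK LD1_c3 LD2_c22 LD3_c45)) = v5413 :=
  Lefun (Lecon (Lfl_af (f653657 IH)) (f707499 IH).symm) (f647523 IH)
def v5764 : LQ := Led Lsl_bt (LP (LK LD1_c3 LD2_c13 LD3_c2))
theorem f649258 : Led Lsl_bt (LP (LK LD1_c3 LD2_c13 LD3_c2)) = v5764 :=
  Lrfl
theorem f649261 : Led Lsl_ef (LP (LK LD1_c3 LD2_c22 LD3_c45)) = v5764 :=
  Lgr Lrot29 (Lpr_bt (K46.f73783 IH) (Lpr_et (K24.f445973 IH) (Lpr_bt (f649258 IH) (Lpn v5764))))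
theorem f707856 : v5730 = v5764 :=
  (Llr Lrot80 (Lpr_af (f707854 IH) (Lpe (f91459 IH) (Lpr_af (f647524 IH) (Lpq (f707546 IH) (Lpr_ef (f649261 IH) (Lpn v5764))))))).symm
theorem f509830 : Led Lsl_ff (LP (LK LD1_c3 LD2_c13 LD3_c2)) = (LP (LK LD1_c3 LD2_c8 LD3_c36)) :=
  Lgr Lrot3 (Lpr_ft (K32.f509826 IH) (Lpn (LP (LK LD1_c3 LD2_c8 LD3_c36))))
def v5492 : LQ := Led Lsl_bt (LP (LK LD1_c3 LD2_c8 LD3_c36))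
theorem f647929 : Led Lsl_bt (LP (LK LD1_c3 LD2_c8 LD3_c36)) = v5492 :=
  Lrfl
theorem f647930 : Led Lsl_bf (LP (LK LD1_c3 LD2_c8 LD3_c36)) = v5492 :=
  Lgr Lrot24 (Lpr_bt (f647929 IH) (Lpn v5492))
theorem f649262 : Led Lsl_ff v5492 = v5764 :=
  Lgr Lrot25 (Lpe (f647930 IH) (Lpe (f509830 IH) (Lpr_bt (f649258 IH) (Lpn v5764))))
theorem f649264 : Led Lsl_ft v5492 = v5764 :=
  Lgr Lrot48 (Lpr_ff (f649262 IH) (Lpn v5764))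
def v1853 : LQ := Led Lsl_gt (LP (LK LD1_c1 LD2_c30 LD3_c2))
def v8138 : LQ := Led Lsl_dt v1853
theorem f670143 : Led Lsl_dt v1853 = v8138 :=
  Lrfl
theorem f670144 : Led Lsl_df v1853 = v8138 :=
  Lgr Lrot38 (Lpr_dt (f670143 IH) (Lpn v8138))
theorem f504574 : Led Lsl_gt (LP (LK LD1_c1 LD2_c30 LD3_c2)) = v1853 :=
  Lrfl
def v5442 : LQ := Led Lsl_gf (LP (LK LD1_c3 LD2_c7 LD3_c55))
theorem f647670 : Led Lsl_gf (LP (LK LD1_c3 LD2_c7 LD3_c55)) = v5442 :=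
  Lrfl
theorem f670145 : Led Lsl_ef v5442 = v8138 :=
  Lgr Lrot114 (Lpe (f647670 IH) (Lpe (f504589 IH) (Lpr_dt (f443698 IH) (Lpr_gt (f647634 IH) (Lpe (f647636 IH) (Lpe (f647357 IH) (Lpr_gt (f110487 IH) (Lpr_dt (K5.f131442 IH) (Lpr_gt (f504574 IH) (Lpr_df (f670144 IH) (Lpn v8138)))))))))))
theorem f509764 : Led Lsl_bf (LP (LK LD1_c1 LD2_c38 LD3_c23)) = v2230 :=
  Lgr Lrot93 (Lpr_dt (K24.f73754 IH) (Lpr_bt (K46.f140059 IH) (Lpr_dt (f509763 IH) (Lpn v2230))))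
theorem f647931 : Led Lsl_ef v2230 = v5492 :=
  Lgr Lrot29 (Lpe (f509764 IH) (Lpr_et (K24.f82577 IH) (Lpr_bt (f647929 IH) (Lpn v5492))))
theorem f647932 : Led Lsl_et v2230 = v5492 :=
  Lgr Lrot87 (Lpr_ef (f647931 IH) (Lpn v5492))
theorem f632590 : Led Lsl_at (LP (LK LD1_c3 LD2_c7 LD3_c38)) = v4310 :=
  Lgr Lrot66 (Lpe (f120114 IH) (Lpe (K4.f120129 IH) (Lpr_ff (f632588 IH) (Lpn v4310))))
theorem f632595 : Led Lsl_gt v1853 = v4310 :=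
  Lgr Lrot46 (Lpe (f504574 IH) (Lpr_ft (f120114 IH) (Lpr_at (f632590 IH) (Lpn v4310))))
theorem f707501 : v1853 = (LP (LK LD1_c1 LD2_c38 LD3_c22)) :=
  Lefun (Lecon (Lfl_gt (f632595 IH)) (f707496 IH)) (Lfl_gt (K46.f140064 IH))
theorem f707565 : v8138 = v2230 :=
  Lefun (Lecon (f670143 IH) (f707501 IH)) (f509763 IH)
theorem f707580 : v5442 = v5492 :=
  Lefun (Lecon (Lfl_ef (f670145 IH)) (f707565 IH)) (f647932 IH)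
theorem f707855 : Led Lsl_at v5730 = (LP (LK LD1_c6 LD2_c20 LD3_c6)) :=
  Lgr Lrot100 (Lpr_af (f707854 IH) (Lpn (LP (LK LD1_c6 LD2_c20 LD3_c6))))
theorem f707857 : v5441 = (LP (LK LD1_c6 LD2_c20 LD3_c6)) :=
  (Llr Lrot46 (Lpe (f647669 IH) (Lpr_gf (f647670 IH) (Lpqs (f707580 IH) (Lpr_ft (f649264 IH) (Lpq (f707856 IH) (Lpr_at (f707855 IH) (Lpn (LP (LK LD1_c6 LD2_c20 LD3_c6)))))))))).symm
theorem f707858 : Led Lsl_gt (LP (LK LD1_c3 LD2_c7 LD3_c55)) = (LP (LK LD1_c6 LD2_c20 LD3_c6)) :=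
  Leop (Lpq (f707857 IH) (Lpe (f647669 IH) (Lpn (LP (LK LD1_c3 LD2_c7 LD3_c55)))))
theorem seed_717 : LEOK LG_g (LK LD1_c3 LD2_c7 LD3_c55) :=
  Leoe_g (LK LD1_c3 LD2_c7 LD3_c55) (f707858 IH)
def v5734 : LQ := Led Lsl_gt (LP (LK LD1_c3 LD2_c12 LD3_c34))
theorem f649113 : Led Lsl_gt (LP (LK LD1_c3 LD2_c12 LD3_c34)) = v5734 :=
  Lrfl
theorem f649265 : Led Lsl_dt v5492 = v5764 :=
  Lgr Lrot77 (Lpe (f647932 IH) (Lpe (f509763 IH) (Lpr_ef (f509769 IH) (Lpe (f509772 IH) (Lpr_ef (f649261 IH) (Lpn v5764))))))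
theorem f670146 : Led Lsl_et v5442 = v8138 :=
  Lgr Lrot87 (Lpr_ef (f670145 IH) (Lpn v8138))
def v8846 : LQ := Led Lsl_gf v2230
theorem f672468 : Led Lsl_gf v2230 = v8846 :=
  Lrfl
def v13351 : LQ := Led Lsl_at (LP (LK LD1_c4 LD2_c43 LD3_c20))
theorem f702463 : Led Lsl_at (LP (LK LD1_c4 LD2_c43 LD3_c20)) = v13351 :=
  Lrfl
theorem f632572 : Led Lsl_dt (LP (LK LD1_c2 LD2_c19 LD3_c20)) = (LP (LK LD1_c4 LD2_c43 LD3_c20)) :=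
  Lre_d IH (LK LD1_c2 LD2_c19 LD3_c20) (LK LD1_c4 LD2_c43 LD3_c20) Lrfl Lrfl
def v4315 : LQ := Led Lsl_at (LP (LK LD1_c2 LD2_c19 LD3_c20))
theorem f632609 : Led Lsl_at (LP (LK LD1_c2 LD2_c19 LD3_c20)) = v4315 :=
  Lrfl
theorem f632610 : Led Lsl_af (LP (LK LD1_c2 LD2_c19 LD3_c20)) = v4315 :=
  Lgr Lrot0 (Lpr_at (f632609 IH) (Lpn v4315))
theorem f702465 : Led Lsl_df v4315 = v13351 :=
  Lgr Lrot18 (Lpe (f632610 IH) (Lpr_dt (f632572 IH) (Lpr_at (f702463 IH) (Lpn v13351))))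
def v4306 : LQ := Led Lsl_ft (LP (LK LD1_c2 LD2_c19 LD3_c8))
theorem f632562 : Led Lsl_ft (LP (LK LD1_c2 LD2_c19 LD3_c8)) = v4306 :=
  Lrfl
theorem f632566 : Led Lsl_ff (LP (LK LD1_c2 LD2_c19 LD3_c8)) = v4306 :=
  Lgr Lrot3 (Lpr_ft (f632562 IH) (Lpn v4306))
theorem f435518 : Led Lsl_at (LP (LK LD1_c2 LD2_c19 LD3_c8)) = (LP (LK LD1_c1 LD2_c6 LD3_c47)) :=
  Lre_a IH (LK LD1_c2 LD2_c19 LD3_c8) (LK LD1_c1 LD2_c6 LD3_c47) Lrfl Lrfl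
theorem f150479 : Led Lsl_gt (LP (LK LD1_c2 LD2_c19 LD3_c20)) = (LP (LK LD1_c1 LD2_c6 LD3_c47)) :=
  Lre_g IH (LK LD1_c2 LD2_c19 LD3_c20) (LK LD1_c1 LD2_c6 LD3_c47) Lrfl Lrfl
theorem f632571 : Led Lsl_gf (LP (LK LD1_c2 LD2_c19 LD3_c20)) = v4306 :=
  Lgr Lrot47 (Lpr_gt (f150479 IH) (Lpe (f435518 IH) (Lpr_ff (f632566 IH) (Lpn v4306))))
theorem f153665 : Led Lsl_ft (LP (LK LD1_c1 LD2_c6 LD3_c47)) = (LP (LK LD1_c2 LD2_c19 LD3_c22)) :=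
  Lre_f IH (LK LD1_c1 LD2_c6 LD3_c47) (LK LD1_c2 LD2_c19 LD3_c22) Lrfl Lrfl
theorem f632568 : Led Lsl_at (LP (LK LD1_c2 LD2_c19 LD3_c22)) = v4306 :=
  Lgr Lrot66 (Lpe (f153665 IH) (Lpe (f435518 IH) (Lpr_ff (f632566 IH) (Lpn v4306))))
def v1305 : LQ := Led Lsl_gt (LP (LK LD1_c1 LD2_c6 LD3_c47))
theorem f494728 : Led Lsl_gt (LP (LK LD1_c1 LD2_c6 LD3_c47)) = v1305 :=
  Lrfl
theorem f632576 : Led Lsl_gt v1305 = v4306 :=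
  Lgr Lrot46 (Lpe (f494728 IH) (Lpr_ft (f153665 IH) (Lpr_at (f632568 IH) (Lpn v4306))))
theorem f632612 : Led Lsl_ft v1305 = v4315 :=
  Lgr Lrot2 (Lpr_gt (f632576 IH) (Lpe (f632571 IH) (Lpr_af (f632610 IH) (Lpn v4315))))
theorem f632613 : Led Lsl_ff v1305 = v4315 :=
  Lgr Lrot3 (Lpr_ft (f632612 IH) (Lpn v4315))
def v7806 : LQ := Led Lsl_dt v1305
theorem f668511 : Led Lsl_dt v1305 = v7806 :=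
  Lrfl
theorem f702467 : Led Lsl_ft v7806 = v13351 :=
  Lgr Lrot54 (Lpe (f668511 IH) (Lpr_ff (f632613 IH) (Lpr_df (f702465 IH) (Lpn v13351))))
theorem f702464 : Led Lsl_af (LP (LK LD1_c4 LD2_c43 LD3_c20)) = v13351 :=
  Lgr Lrot0 (Lpr_at (f702463 IH) (Lpn v13351))
def v13350 : LQ := Led Lsl_gf (LP (LK LD1_c4 LD2_c43 LD3_c20))
theorem f702462 : Led Lsl_gf (LP (LK LD1_c4 LD2_c43 LD3_c20)) = v13350 :=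
  Lrfl
theorem f702469 : Led Lsl_gt v7806 = v13350 :=
  Lgr Lrot5 (Lpr_ft (f702467 IH) (Lpe (f702464 IH) (Lpr_gf (f702462 IH) (Lpn v13350))))
theorem f128435 : Led Lsl_et (LP (LK LD1_c0 LD2_c30 LD3_c33)) = (LP (LK LD1_c1 LD2_c6 LD3_c47)) :=
  Lre_e IH (LK LD1_c0 LD2_c30 LD3_c33) (LK LD1_c1 LD2_c6 LD3_c47) Lrfl Lrfl
theorem f128438 : Led Lsl_et (LP (LK LD1_c6 LD2_c28 LD3_c49)) = (LP (LK LD1_c3 LD2_c12 LD3_c21)) :=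
  Lre_e IH (LK LD1_c6 LD2_c28 LD3_c49) (LK LD1_c3 LD2_c12 LD3_c21) Lrfl Lrfl
theorem f702470 : Led Lsl_dt (LP (LK LD1_c6 LD2_c28 LD3_c49)) = v13350 :=
  Lgr Lrot56 (Lpr_et (f128438 IH) (Lpr_gt (f128437 IH) (Lpe (f128436 IH) (Lpe (K5.f128403 IH) (Lpr_gt (K3.f61637 IH) (Lpe (K2.f79143 IH) (Lpr_et (f128435 IH) (Lpr_gt (f494728 IH) (Lpr_dt (f668511 IH) (Lpr_gt (f702469 IH) (Lpn v13350)))))))))))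
def v4316 : LQ := Led Lsl_et (LP (LK LD1_c2 LD2_c19 LD3_c20))
theorem f632614 : Led Lsl_et (LP (LK LD1_c2 LD2_c19 LD3_c20)) = v4316 :=
  Lrfl
theorem f702473 : Led Lsl_gf v8138 = v4316 :=
  Lgr Lrot138 (Lpe (f670144 IH) (Lpr_gt (f632595 IH) (Lpe (f632591 IH) (Lpr_et (K4.f112020 IH) (Lpr_gt (f440093 IH) (Lpe (f128438 IH) (Lpr_dt (f702470 IH) (Lpe (f702462 IH) (Lpe (f632572 IH) (Lpr_et (f632614 IH) (Lpn v4316)))))))))))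
theorem f707579 : v4316 = v8846 :=
  Lefun (Lecon (f702473 IH) (f707565 IH)) (f672468 IH)
theorem f91461 : Led Lsl_et (LP (LK LD1_c1 LD2_c32 LD3_c44)) = (LP (LK LD1_c3 LD2_c12 LD3_c34)) :=
  Lre_e IH (LK LD1_c1 LD2_c32 LD3_c44) (LK LD1_c3 LD2_c12 LD3_c34) Lrfl Lrfl
theorem f707867 : (LP (LK LD1_c6 LD2_c28 LD3_c49)) = v5734 :=
  (Llr Lrot135 (Lpr_dt (f702470 IH) (Lpe (f702462 IH) (Lpe (f632572 IH) (Lpr_et (f632614 IH) (Lpqs (f707579 IH) (Lpe (f672468 IH) (Lpq (f707565 IH) (Lpe (f670146 IH) (Lpqs (f707580 IH) (Lpr_dt (f649265 IH) (Lpq (f707856 IH) (Lpe (f649089 IH) (Lpe (f82671 IH) (Lpr_et (f91461 IH) (Lpr_gt (f649113 IH) (Lpn v5734))))))))))))))))).symm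
theorem f707868 : Led Lsl_gt (LP (LK LD1_c3 LD2_c12 LD3_c34)) = (LP (LK LD1_c6 LD2_c28 LD3_c49)) :=
  Leop (Lpqs (f707867 IH) (Lpe (f649113 IH) (Lpn (LP (LK LD1_c3 LD2_c12 LD3_c34)))))
theorem seed_718 : LEOK LG_g (LK LD1_c3 LD2_c12 LD3_c34) :=
  Leoe_g (LK LD1_c3 LD2_c12 LD3_c34) (f707868 IH)
def v5725 : LQ := Led Lsl_ft (LP (LK LD1_c3 LD2_c12 LD3_c31))
theorem f649062 : Led Lsl_ft (LP (LK LD1_c3 LD2_c12 LD3_c31)) = v5725 :=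
  Lrfl
theorem f506683 : Led Lsl_ct (LP (LK LD1_c6 LD2_c29 LD3_c7)) = (LP (LK LD1_c3 LD2_c12 LD3_c31)) :=
  Lre_c IH (LK LD1_c6 LD2_c29 LD3_c7) (LK LD1_c3 LD2_c12 LD3_c31) Lrfl Lrfl
theorem f649065 : Led Lsl_ff (LP (LK LD1_c3 LD2_c12 LD3_c31)) = v5725 :=
  Lgr Lrot3 (Lpr_ft (f649062 IH) (Lpn v5725))
def v1977 : LQ := Led Lsl_ft (LP (LK LD1_c1 LD2_c32 LD3_c44))
theorem f506716 : Led Lsl_ft (LP (LK LD1_c1 LD2_c32 LD3_c44)) = v1977 :=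
  Lrfl
theorem f649066 : Led Lsl_bt v1977 = v5725 :=
  Lgr Lrot35 (Lpe (f506716 IH) (Lpe (K46.f82904 IH) (Lpr_ff (f649065 IH) (Lpn v5725))))
def v8295 : LQ := Led Lsl_bt v1969
theorem f670695 : Led Lsl_bt v1969 = v8295 :=
  Lrfl
theorem f707785 : v1969 = v1977 :=
  Lefun (Lecon (Lfl_ff (f648933 IH)) (f707776 IH)) (f506716 IH)
theorem f707822 : v5725 = v8295 :=
  Lefun (Lecon (f649066 IH) (f707785 IH).symm) (f670695 IH)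
theorem f670696 : Led Lsl_bf v1969 = v8295 :=
  Lgr Lrot24 (Lpr_bt (f670695 IH) (Lpn v8295))
theorem f453632 : Led Lsl_ff (LP (LK LD1_c0 LD2_c42 LD3_c57)) = K46.v498 :=
  Lgr Lrot3 (Lpr_ft (K46.f453630 IH) (Lpn K46.v498))
theorem f506667 : Led Lsl_gt K46.v498 = v1969 :=
  Lgr Lrot5 (Lpe (f453632 IH) (Lpr_at (f82660 IH) (Lpr_gf (f506666 IH) (Lpn v1969))))
theorem f453633 : Led Lsl_bt (LP (LK LD1_c0 LD2_c43 LD3_c2)) = K46.v498 :=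
  Lgr Lrot35 (Lpe (K24.f82248 IH) (Lpe (K11.f82664 IH) (Lpr_ff (f453632 IH) (Lpn K46.v498))))
theorem f25214 : Led Lsl_ct (LP (LK LD1_c1 LD2_c7 LD3_c20)) = (LP (LK LD1_c2 LD2_c20 LD3_c8)) :=
  Lre_c IH (LK LD1_c1 LD2_c7 LD3_c20) (LK LD1_c2 LD2_c20 LD3_c8) Lrfl Lrfl
theorem f25285 : Led Lsl_gt (LP (LK LD1_c4 LD2_c44 LD3_c18)) = (LP (LK LD1_c2 LD2_c20 LD3_c8)) :=
  Lre_g IH (LK LD1_c4 LD2_c44 LD3_c18) (LK LD1_c2 LD2_c20 LD3_c8) Lrfl Lrfl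
theorem f670699 : Led Lsl_cf (LP (LK LD1_c4 LD2_c44 LD3_c18)) = v8295 :=
  Lgr Lrot160 (Lpr_gt (f25285 IH) (Lpe (f25214 IH) (Lpr_bt (K8.f25249 IH) (Lpr_gt (K24.f25227 IH) (Lpr_ct (K32.f494882 IH) (Lpqs (K32.f504713 IH) (Lpr_gt (K50.f71362 IH) (Lpr_cf (K48.f82907 IH) (Lpr_bt (f453633 IH) (Lpr_gt (f506667 IH) (Lpr_bf (f670696 IH) (Lpn v8295))))))))))))
def v13464 : LQ := Led Lsl_at (LP (LK LD1_c4 LD2_c44 LD3_c17))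
theorem f703149 : Led Lsl_at (LP (LK LD1_c4 LD2_c44 LD3_c17)) = v13464 :=
  Lrfl
theorem f703150 : Led Lsl_af (LP (LK LD1_c4 LD2_c44 LD3_c17)) = v13464 :=
  Lgr Lrot0 (Lpr_at (f703149 IH) (Lpn v13464))
theorem f25276 : Led Lsl_gt (LP (LK LD1_c2 LD2_c20 LD3_c8)) = (LP (LK LD1_c4 LD2_c44 LD3_c17)) :=
  Lre_g IH (LK LD1_c2 LD2_c20 LD3_c8) (LK LD1_c4 LD2_c44 LD3_c17) Lrfl Lrfl
theorem f703152 : Led Lsl_ft (LP (LK LD1_c4 LD2_c44 LD3_c18)) = v13464 :=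
  Lgr Lrot2 (Lpr_gt (f25285 IH) (Lpr_gt (f25276 IH) (Lpr_af (f703150 IH) (Lpn v13464))))
theorem f707900 : (LP (LK LD1_c6 LD2_c29 LD3_c7)) = v13464 :=
  (Llr Lrot108 (Lpr_ct (f506683 IH) (Lpr_ft (f649062 IH) (Lpqs (f707822 IH) (Lpe (f670699 IH) (Lpr_ft (f703152 IH) (Lpn v13464))))))).symm
theorem f707901 : Led Lsl_at (LP (LK LD1_c6 LD2_c29 LD3_c7)) = (LP (LK LD1_c4 LD2_c44 LD3_c17)) :=
  Leop (Lpr_af (f703150 IH) (Lpq (f707900 IH) (Lpn (LP (LK LD1_c6 LD2_c29 LD3_c7)))))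
theorem seed_719 : LEOK LG_a (LK LD1_c6 LD2_c29 LD3_c7) :=
  Leoe_a (LK LD1_c6 LD2_c29 LD3_c7) (f707901 IH)
def v2027 : LQ := Led Lsl_gf (LP (LK LD1_c1 LD2_c33 LD3_c51))
def v8409 : LQ := Led Lsl_et v2027
theorem f671149 : Led Lsl_et v2027 = v8409 :=
  Lrfl
theorem f671150 : Led Lsl_ef v2027 = v8409 :=
  Lgr Lrot88 (Lpr_et (f671149 IH) (Lpn v8409))
theorem f416186 : Led Lsl_et (LP (LK LD1_c1 LD2_c37 LD3_c8)) = (LP (LK LD1_c0 LD2_c44 LD3_c56)) :=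
  Lre_e IH (LK LD1_c1 LD2_c37 LD3_c8) (LK LD1_c0 LD2_c44 LD3_c56) Lrfl Lrfl
theorem f632968 : Led Lsl_dt (LP (LK LD1_c6 LD2_c29 LD3_c7)) = (LP (LK LD1_c12 LD2_c28 LD3_c35)) :=
  Lre_d IH (LK LD1_c6 LD2_c29 LD3_c7) (LK LD1_c12 LD2_c28 LD3_c35) Lrfl Lrfl
theorem f156583 : Led Lsl_et (LP (LK LD1_c2 LD2_c19 LD3_c61)) = (LP (LK LD1_c4 LD2_c44 LD3_c6)) :=
  Lre_e IH (LK LD1_c2 LD2_c19 LD3_c61) (LK LD1_c4 LD2_c44 LD3_c6) Lrfl Lrfl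
theorem f137189 : Led Lsl_gt (LP (LK LD1_c3 LD2_c15 LD3_c3)) = (LP (LK LD1_c1 LD2_c50 LD3_c1)) :=
  Lgr Lrot65 (Lpr_cf (K24.f120490 IH) (Lpr_bt (K24.f120456 IH) (Lpe (K44.f137187 IH) (Lpe (K36.f136941 IH) (Lpr_ct (K36.f136932 IH) (Lpe (K6.f115859 IH) (Lpr_cf (K6.f115840 IH) (Lpr_gf (K4.f103767 IH) (Lpr_bf (K4.f24150 IH) (Lpe (K3.f65873 IH) (Lpn (LP (LK LD1_c1 LD2_c50 LD3_c1)))))))))))))
theorem f24398 : Led Lsl_dt (LP (LK LD1_c3 LD2_c14 LD3_c43)) = (LP (LK LD1_c1 LD2_c33 LD3_c54)) :=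
  Lre_d IH (LK LD1_c3 LD2_c14 LD3_c43) (LK LD1_c1 LD2_c33 LD3_c54) Lrfl Lrfl
theorem f120492 : Led Lsl_df (LP (LK LD1_c3 LD2_c15 LD3_c3)) = (LP (LK LD1_c1 LD2_c36 LD3_c17)) :=
  Lgr Lrot43 (Lpr_ct (K4.f120483 IH) (Lpr_dt (f24398 IH) (Lpr_ct (K5.f24342 IH) (Lpr_dt (K4.f24313 IH) (Lpe (K3.f24332 IH) (Lpe (K3.f104152 IH) (Lpr_ct (K2.f61881 IH) (Lpe (K3.f104280 IH) (Lpr_ct (K3.f58786 IH) (Lpr_dt (K3.f91771 IH) (Lpr_ct (K3.f26160 IH) (Lpr_dt (K4.f26165 IH) (Lpr_ct (K3.f24311 IH) (Lpr_dt (K4.f24314 IH) (Lpr_ct (K4.f103529 IH) (Lpn (LP (LK LD1_c1 LD2_c36 LD3_c17))))))))))))))))))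
theorem f103553 : Led Lsl_et (LP (LK LD1_c1 LD2_c36 LD3_c17)) = (LP (LK LD1_c3 LD2_c19 LD3_c47)) :=
  Lre_e IH (LK LD1_c1 LD2_c36 LD3_c17) (LK LD1_c3 LD2_c19 LD3_c47) Lrfl Lrfl
def v6270 : LQ := Led Lsl_gf (LP (LK LD1_c3 LD2_c19 LD3_c47))
theorem f652516 : Led Lsl_gf (LP (LK LD1_c3 LD2_c19 LD3_c47)) = v6270 :=
  Lrfl
theorem f704657 : Led Lsl_ff (LP (LK LD1_c4 LD2_c47 LD3_c48)) = v13751 :=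
  Lgr Lrot3 (Lpr_ft (f704652 IH) (Lpn v13751))
theorem f704663 : Led Lsl_gf v6270 = v13751 :=
  Lgr Lrot47 (Lpe (f652516 IH) (Lpe (K4.f120207 IH) (Lpr_ff (f704657 IH) (Lpn v13751))))
theorem f704661 : Led Lsl_ct v13315 = v13751 :=
  Lgr Lrot40 (Lpe (f702291 IH) (Lpe (K4.f120603 IH) (Lpr_ff (f704657 IH) (Lpn v13751))))
theorem f707497 : v13751 = (LP (LK LD1_c3 LD2_c21 LD3_c42)) :=
  Lefun (Lecon (f704661 IH) (f707485 IH).symm) (K46.f140063 IH)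
theorem f707520 : v6270 = (LP (LK LD1_c1 LD2_c37 LD3_c6)) :=
  Lefun (Lecon (Lfl_gf (f704663 IH)) (f707497 IH)) (K46.f140062 IH)
theorem f454450 : Led Lsl_et (LP (LK LD1_c3 LD2_c21 LD3_c45)) = (LP (LK LD1_c1 LD2_c37 LD3_c6)) :=
  Lre_e IH (LK LD1_c3 LD2_c21 LD3_c45) (LK LD1_c1 LD2_c37 LD3_c6) Lrfl Lrfl
theorem f708004 : Led Lsl_gt (LP (LK LD1_c12 LD2_c28 LD3_c35)) = (LP (LK LD1_c6 LD2_c47 LD3_c12)) :=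
  Lgr Lrot139 (Lpe (f632968 IH) (Lpr_gf (K46.f649608 IH) (Lpe (f156583 IH) (Lpe (K7.f156553 IH) (Lpe (f137189 IH) (Lpr_df (f120492 IH) (Lpr_et (f103553 IH) (Lpr_gf (f652516 IH) (Lpqs (f707520 IH) (Lpe (f454450 IH) (Lpr_dt (K32.f509570 IH) (Lpn (LP (LK LD1_c6 LD2_c47 LD3_c12))))))))))))))
theorem f144097 : Led Lsl_ct (LP (LK LD1_c4 LD2_c44 LD3_c6)) = (LP (LK LD1_c2 LD2_c20 LD3_c0)) :=
  Lre_c IH (LK LD1_c4 LD2_c44 LD3_c6) (LK LD1_c2 LD2_c20 LD3_c0) Lrfl Lrfl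
def v4361 : LQ := Led Lsl_gt (LP (LK LD1_c2 LD2_c20 LD3_c0))
theorem f632920 : Led Lsl_gt (LP (LK LD1_c2 LD2_c20 LD3_c0)) = v4361 :=
  Lrfl
theorem f414560 : Led Lsl_dt (LP (LK LD1_c6 LD2_c47 LD3_c12)) = (LP (LK LD1_c3 LD2_c21 LD3_c45)) :=
  Lre_d IH (LK LD1_c6 LD2_c47 LD3_c12) (LK LD1_c3 LD2_c21 LD3_c45) Lrfl Lrfl
def v6429 : LQ := Led Lsl_dt (LP (LK LD1_c3 LD2_c21 LD3_c41))
theorem f653368 : Led Lsl_dt (LP (LK LD1_c3 LD2_c21 LD3_c41)) = v6429 :=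
  Lrfl
def v2195 : LQ := Led Lsl_dt (LP (LK LD1_c1 LD2_c37 LD3_c5))
theorem f509556 : Led Lsl_dt (LP (LK LD1_c1 LD2_c37 LD3_c5)) = v2195 :=
  Lrfl
theorem f509559 : Led Lsl_df (LP (LK LD1_c1 LD2_c37 LD3_c5)) = v2195 :=
  Lgr Lrot38 (Lpr_dt (f509556 IH) (Lpn v2195))
theorem f509561 : Led Lsl_bt K48.v2176 = v2195 :=
  Lgr Lrot95 (Lpe (K49.f509486 IH) (Lpr_bf (K46.f454629 IH) (Lpr_df (f509559 IH) (Lpn v2195))))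
theorem f509563 : Led Lsl_ef K46.v1369 = v2195 :=
  Lgr Lrot29 (Lpe (f495164 IH) (Lpr_et (K48.f509477 IH) (Lpr_bt (f509561 IH) (Lpn v2195))))
theorem f509564 : Led Lsl_et K46.v1369 = v2195 :=
  Lgr Lrot87 (Lpr_ef (f509563 IH) (Lpn v2195))
def v6390 : LQ := Led Lsl_bt (LP (LK LD1_c3 LD2_c21 LD3_c15))
theorem f653165 : Led Lsl_bt (LP (LK LD1_c3 LD2_c21 LD3_c15)) = v6390 :=
  Lrfl
theorem f653168 : Led Lsl_df K46.v1369 = v6390 :=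
  Lgr Lrot12 (Lpe (f495164 IH) (Lpr_dt (K48.f454731 IH) (Lpr_bt (f653165 IH) (Lpn v6390))))
theorem f653372 : Led Lsl_ef v6390 = v6429 :=
  Lgr Lrot73 (Lpe (f653168 IH) (Lpr_et (f509564 IH) (Lpe (f509559 IH) (Lpr_et (K46.f454624 IH) (Lpr_dt (f653368 IH) (Lpn v6429))))))
theorem f509558 : Led Lsl_bf K48.v2176 = v2195 :=
  Lgr Lrot93 (Lpe (K48.f509481 IH) (Lpr_bt (K46.f454625 IH) (Lpr_dt (f509556 IH) (Lpn v2195))))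
theorem f653169 : Led Lsl_ff v2195 = v6390 :=
  Lgr Lrot25 (Lpe (f509558 IH) (Lpe (K48.f509482 IH) (Lpr_bt (f653165 IH) (Lpn v6390))))
theorem f653376 : Led Lsl_ft (LP (LK LD1_c3 LD2_c21 LD3_c41)) = v6429 :=
  Lgr Lrot86 (Lpe (K46.f454624 IH) (Lpr_ff (K46.f495165 IH) (Lpr_ef (f509563 IH) (Lpr_ff (f653169 IH) (Lpr_ef (f653372 IH) (Lpn v6429))))))
def v6427 : LQ := Led Lsl_gt (LP (LK LD1_c3 LD2_c21 LD3_c41))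
theorem f653365 : Led Lsl_gt (LP (LK LD1_c3 LD2_c21 LD3_c41)) = v6427 :=
  Lrfl
theorem f653369 : Led Lsl_af K32.v2200 = v6429 :=
  Lgr Lrot117 (Lpe (K32.f509580 IH) (Lpr_at (K32.f454612 IH) (Lpr_dt (f653368 IH) (Lpn v6429))))
theorem f653378 : Led Lsl_gt v6427 = K32.v2200 :=
  Lgr Lrot46 (Lpe (f653365 IH) (Lpr_ft (f653376 IH) (Lpe (f653369 IH) (Lpn K32.v2200))))
theorem f708008 : Led Lsl_dt v4361 = v6427 :=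
  Lgr Lrot57 (Lpe (f632920 IH) (Lpe (f144097 IH) (Lpe (K46.f649608 IH) (Lpr_dt (f632968 IH) (Lpr_gt (f708004 IH) (Lpr_dt (f414560 IH) (Lpe (K32.f442857 IH) (Lpr_df (K32.f509580 IH) (Lpe (f653378 IH) (Lpn v6427))))))))))
theorem f144103 : Led Lsl_et (LP (LK LD1_c1 LD2_c7 LD3_c16)) = (LP (LK LD1_c2 LD2_c20 LD3_c0)) :=
  Lre_e IH (LK LD1_c1 LD2_c7 LD3_c16) (LK LD1_c2 LD2_c20 LD3_c0) Lrfl Lrfl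
theorem f507827 : Led Lsl_gf (LP (LK LD1_c1 LD2_c33 LD3_c51)) = v2027 :=
  Lrfl
theorem f708017 : v8409 = (LP (LK LD1_c1 LD2_c37 LD3_c8)) :=
  (Llr Lrot114 (Lpe (f671150 IH) (Lpe (f507827 IH) (Lpe (K4.f26167 IH) (Lpr_dt (K4.f26165 IH) (Lpr_gt (K7.f156500 IH) (Lpe (K7.f144105 IH) (Lpr_et (f144103 IH) (Lpr_gt (f632920 IH) (Lpr_dt (f708008 IH) (Lpr_gt (f653378 IH) (Lpe (K32.f509577 IH) (Lpn (LP (LK LD1_c1 LD2_c37 LD3_c8))))))))))))))).symm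
theorem f708018 : v2027 = (LP (LK LD1_c0 LD2_c44 LD3_c56)) :=
  Lefun (Lecon (Lfl_ef (f671150 IH)) (f708017 IH)) (f416186 IH)
theorem f708020 : Led Lsl_gt (LP (LK LD1_c0 LD2_c44 LD3_c56)) = (LP (LK LD1_c1 LD2_c33 LD3_c51)) :=
  Leop (Lpr_gf (f507827 IH) (Lpqs (f708018 IH) (Lpn (LP (LK LD1_c0 LD2_c44 LD3_c56)))))
theorem seed_720 : LEOK LG_g (LK LD1_c0 LD2_c44 LD3_c56) :=
  Leoe_g (LK LD1_c0 LD2_c44 LD3_c56) (f708020 IH)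
def v4357 : LQ := Led Lsl_et (LP (LK LD1_c2 LD2_c19 LD3_c58))
theorem f632898 : Led Lsl_et (LP (LK LD1_c2 LD2_c19 LD3_c58)) = v4357 :=
  Lrfl
theorem f23568 : Led Lsl_et (LP (LK LD1_c3 LD2_c15 LD3_c15)) = (LP (LK LD1_c1 LD2_c34 LD3_c16)) :=
  Lre_e IH (LK LD1_c3 LD2_c15 LD3_c15) (LK LD1_c1 LD2_c34 LD3_c16) Lrfl Lrfl
theorem f632899 : Led Lsl_af (LP (LK LD1_c3 LD2_c15 LD3_c15)) = v4357 :=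
  Lgr Lrot50 (Lpr_et (f23568 IH) (Lpr_at (K5.f127506 IH) (Lpr_et (f632898 IH) (Lpn v4357))))
def v1368 : LQ := Led Lsl_gf (LP (LK LD1_c1 LD2_c8 LD3_c25))
def v7919 : LQ := Led Lsl_bt v1368
theorem f668986 : Led Lsl_bt v1368 = v7919 :=
  Lrfl
def v8748 : LQ := Led Lsl_gt K46.v2190
theorem f672190 : Led Lsl_gt K46.v2190 = v8748 :=
  Lrfl
theorem f672191 : Led Lsl_gf K49.v2194 = v8748 :=
  Lgr Lrot76 (Lpe (K49.f509555 IH) (Lpr_ff (K46.f509544 IH) (Lpr_gt (f672190 IH) (Lpn v8748))))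
theorem f495163 : Led Lsl_af (LP (LK LD1_c1 LD2_c8 LD3_c25)) = K46.v1369 :=
  Lgr Lrot0 (Lpr_at (K46.f495162 IH) (Lpn K46.v1369))
theorem f495161 : Led Lsl_gf (LP (LK LD1_c1 LD2_c8 LD3_c25)) = v1368 :=
  Lrfl
theorem f495176 : Led Lsl_gt (LP (LK LD1_c1 LD2_c37 LD3_c5)) = v1368 :=
  Lgr Lrot5 (Lpr_ft (f495168 IH) (Lpe (f495163 IH) (Lpr_gf (f495161 IH) (Lpn v1368))))
theorem f450671 : Led Lsl_at (LP (LK LD1_c0 LD2_c44 LD3_c56)) = (LP (LK LD1_c1 LD2_c37 LD3_c5)) :=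
  Lre_a IH (LK LD1_c0 LD2_c44 LD3_c56) (LK LD1_c1 LD2_c37 LD3_c5) Lrfl Lrfl
theorem f454426 : Led Lsl_gt (LP (LK LD1_c2 LD2_c22 LD3_c36)) = (LP (LK LD1_c1 LD2_c37 LD3_c5)) :=
  Lgr Lrot46 (Lpe (K49.f414463 IH) (Lpr_ft (K32.f454424 IH) (Lpr_at (f450671 IH) (Lpn (LP (LK LD1_c1 LD2_c37 LD3_c5))))))
theorem f678938 : v8748 = (LP (LK LD1_c1 LD2_c37 LD3_c5)) :=
  Lefun (Lecon (f672190 IH) (K49.f678937 IH)) (f454426 IH)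
theorem f678949 : K49.v2194 = v1368 :=
  Lefun (Lecon (Lfl_gf (f672191 IH)) (f678938 IH)) (f495176 IH)
theorem f678950 : K49.v8571 = v7919 :=
  Lefun (Lecon (K49.f671636 IH) (f678949 IH)) (f668986 IH)
theorem f632902 : Led Lsl_ef (LP (LK LD1_c2 LD2_c19 LD3_c58)) = v4357 :=
  Lgr Lrot88 (Lpr_et (f632898 IH) (Lpn v4357))
theorem f632904 : Led Lsl_bt (LP (LK LD1_c2 LD2_c19 LD3_c60)) = v4357 :=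
  Lgr Lrot119 (Lpe (K5.f126574 IH) (Lpe (K2.f78116 IH) (Lpr_ef (f632902 IH) (Lpn v4357))))
theorem f708019 : (LP (LK LD1_c1 LD2_c33 LD3_c51)) = K46.v566 :=
  Lefun (Lecon (Lfl_gf (f507827 IH)) (f708018 IH)) (K46.f454795 IH)
theorem f708028 : K49.v2194 = (LP (LK LD1_c2 LD2_c19 LD3_c60)) :=
  Lefun (Lecon (K49.f509555 IH) (f708019 IH).symm) (Lfl_af (K4.f120384 IH))
theorem f708049 : v7919 = v4357 :=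
  Lefun (Lecon (f668986 IH) ((f678949 IH).symm.trans (f708028 IH))) (f632904 IH)
theorem f708112 : K49.v2096 = (LP (LK LD1_c3 LD2_c15 LD3_c15)) :=
  Lefun (Lecon (Lfl_af (K49.f671632 IH)) ((f678950 IH).trans (f708049 IH))) (Lfl_af (f632899 IH))
theorem f708134 : Led Lsl_gt (LP (LK LD1_c3 LD2_c15 LD3_c15)) = (LP (LK LD1_c1 LD2_c35 LD3_c39)) :=
  Leop (Lpr_gf (K49.f508833 IH) (Lpqs (f708112 IH) (Lpn (LP (LK LD1_c3 LD2_c15 LD3_c15)))))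
theorem seed_721 : LEOK LG_g (LK LD1_c3 LD2_c15 LD3_c15) :=
  Leoe_g (LK LD1_c3 LD2_c15 LD3_c15) (f708134 IH)
def v4350 : LQ := Led Lsl_et (LP (LK LD1_c2 LD2_c19 LD3_c46))
theorem f632849 : Led Lsl_et (LP (LK LD1_c2 LD2_c19 LD3_c46)) = v4350 :=
  Lrfl
theorem f79163 : Led Lsl_et (LP (LK LD1_c3 LD2_c10 LD3_c47)) = (LP (LK LD1_c1 LD2_c31 LD3_c48)) :=
  Lre_e IH (LK LD1_c3 LD2_c10 LD3_c47) (LK LD1_c1 LD2_c31 LD3_c48) Lrfl Lrfl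
theorem f632852 : Led Lsl_cf (LP (LK LD1_c3 LD2_c10 LD3_c47)) = v4350 :=
  Lgr Lrot39 (Lpr_et (f79163 IH) (Lpr_ct (K5.f79109 IH) (Lpr_et (f632849 IH) (Lpn v4350))))
theorem f632853 : Led Lsl_ef (LP (LK LD1_c2 LD2_c19 LD3_c46)) = v4350 :=
  Lgr Lrot88 (Lpr_et (f632849 IH) (Lpn v4350))
theorem f127625 : Led Lsl_at (LP (LK LD1_c2 LD2_c19 LD3_c46)) = (LP (LK LD1_c1 LD2_c32 LD3_c31)) :=
  Lgr Lrot107 (Lpe (K5.f79109 IH) (Lpr_af (K8.f127592 IH) (Lpe (K3.f104299 IH) (Lpn (LP (LK LD1_c1 LD2_c32 LD3_c31))))))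
def v1967 : LQ := Led Lsl_et (LP (LK LD1_c1 LD2_c32 LD3_c31))
theorem f506643 : Led Lsl_et (LP (LK LD1_c1 LD2_c32 LD3_c31)) = v1967 :=
  Lrfl
theorem f632854 : Led Lsl_at v1967 = v4350 :=
  Lgr Lrot80 (Lpe (f506643 IH) (Lpe (f127625 IH) (Lpr_ef (f632853 IH) (Lpn v4350))))
theorem f506645 : Led Lsl_ef (LP (LK LD1_c1 LD2_c32 LD3_c31)) = v1967 :=
  Lgr Lrot88 (Lpr_et (f506643 IH) (Lpn v1967))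
theorem f506646 : Led Lsl_bt (LP (LK LD1_c1 LD2_c33 LD3_c51)) = v1967 :=
  Lgr Lrot119 (Lpe (K4.f26167 IH) (Lpr_bf (K3.f26158 IH) (Lpr_ef (f506645 IH) (Lpn v1967))))
theorem f708031 : K49.v3199 = v1967 :=
  Lefun (Lecon (K49.f624596 IH) (f708019 IH).symm) (f506646 IH)
theorem f708059 : K49.v8572 = v4350 :=
  Lefun (Lecon (f671640 IH) (f708031 IH)) (f632854 IH)
theorem f708123 : K49.v6612 = (LP (LK LD1_c3 LD2_c10 LD3_c47)) :=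
  Lefun (Lecon (Lfl_cf (K49.f671641 IH)) (f708059 IH)) (Lfl_cf (f632852 IH))
theorem f708142 : Led Lsl_gt (LP (LK LD1_c3 LD2_c24 LD3_c13)) = (LP (LK LD1_c3 LD2_c10 LD3_c47)) :=
  Leop (Lpq (f708123 IH) (Lpe (K49.f654421 IH) (Lpn (LP (LK LD1_c3 LD2_c24 LD3_c13)))))
theorem seed_722 : LEOK LG_g (LK LD1_c3 LD2_c24 LD3_c13) :=
  Leoe_g (LK LD1_c3 LD2_c24 LD3_c13) (f708142 IH)
def v1843 : LQ := Led Lsl_gf (LP (LK LD1_c1 LD2_c29 LD3_c46))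
def v8109 : LQ := Led Lsl_dt v1843
theorem f670033 : Led Lsl_dt v1843 = v8109 :=
  Lrfl
theorem f670034 : Led Lsl_df v1843 = v8109 :=
  Lgr Lrot38 (Lpr_dt (f670033 IH) (Lpn v8109))
theorem f504529 : Led Lsl_gf (LP (LK LD1_c1 LD2_c29 LD3_c46)) = v1843 :=
  Lrfl
def v1845 : LQ := Led Lsl_gt (LP (LK LD1_c1 LD2_c29 LD3_c48))
theorem f504539 : Led Lsl_gt (LP (LK LD1_c1 LD2_c29 LD3_c48)) = v1845 :=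
  Lrfl
theorem f504542 : Led Lsl_df (LP (LK LD1_c1 LD2_c29 LD3_c58)) = v1845 :=
  Lgr Lrot84 (Lpe (K11.f104615 IH) (Lpr_df (K11.f131363 IH) (Lpe (K5.f79148 IH) (Lpe (K6.f79147 IH) (Lpe (K3.f24988 IH) (Lpr_cf (K3.f82450 IH) (Lpr_gt (K5.f125396 IH) (Lpr_dt (K5.f113397 IH) (Lpr_gt (f504539 IH) (Lpn v1845))))))))))
theorem f209654 : Led Lsl_gt (LP (LK LD1_c3 LD2_c8 LD3_c8)) = (LP (LK LD1_c6 LD2_c20 LD3_c58)) :=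
  Lre_g IH (LK LD1_c3 LD2_c8 LD3_c8) (LK LD1_c6 LD2_c20 LD3_c58) Lrfl Lrfl
theorem f670035 : Led Lsl_ef (LP (LK LD1_c6 LD2_c20 LD3_c58)) = v8109 :=
  Lgr Lrot17 (Lpe (f209654 IH) (Lpe (K33.f209644 IH) (Lpr_dt (K33.f104705 IH) (Lpe (K11.f104663 IH) (Lpr_df (f504542 IH) (Lpe (f504539 IH) (Lpe (f113404 IH) (Lpr_dt (f89506 IH) (Lpr_gf (f504529 IH) (Lpr_df (f670034 IH) (Lpn v8109)))))))))))
def v5530 : LQ := Led Lsl_bt (LP (LK LD1_c3 LD2_c9 LD3_c11))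
theorem f648107 : Led Lsl_bt (LP (LK LD1_c3 LD2_c9 LD3_c11)) = v5530 :=
  Lrfl
def v5358 : LQ := Led Lsl_dt (LP (LK LD1_c3 LD2_c6 LD3_c42))
theorem f647243 : Led Lsl_dt (LP (LK LD1_c3 LD2_c6 LD3_c42)) = v5358 :=
  Lrfl
theorem f444208 : Led Lsl_bt (LP (LK LD1_c1 LD2_c29 LD3_c27)) = (LP (LK LD1_c3 LD2_c6 LD3_c42)) :=
  Lre_b IH (LK LD1_c1 LD2_c29 LD3_c27) (LK LD1_c3 LD2_c6 LD3_c42) Lrfl Lrfl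
theorem f647244 : Led Lsl_bf (LP (LK LD1_c3 LD2_c6 LD3_c43)) = v5358 :=
  Lgr Lrot93 (Lpr_dt (K17.f61692 IH) (Lpr_bt (f444208 IH) (Lpr_dt (f647243 IH) (Lpn v5358))))
theorem f648109 : Led Lsl_ef v5358 = v5530 :=
  Lgr Lrot29 (Lpe (f647244 IH) (Lpr_et (K17.f155834 IH) (Lpr_bt (f648107 IH) (Lpn v5530))))
theorem f648110 : Led Lsl_et v5358 = v5530 :=
  Lgr Lrot87 (Lpr_ef (f648109 IH) (Lpn v5530))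
def v8107 : LQ := Led Lsl_bt v1843
theorem f670029 : Led Lsl_bt v1843 = v8107 :=
  Lrfl
theorem f670030 : Led Lsl_bf v1843 = v8107 :=
  Lgr Lrot24 (Lpr_bt (f670029 IH) (Lpn v8107))
theorem f440095 : Led Lsl_ct (LP (LK LD1_c3 LD2_c12 LD3_c21)) = (LP (LK LD1_c6 LD2_c28 LD3_c48)) :=
  Lre_c IH (LK LD1_c3 LD2_c12 LD3_c21) (LK LD1_c6 LD2_c28 LD3_c48) Lrfl Lrfl
theorem f707618 : K48.v5719 = (LP (LK LD1_c6 LD2_c28 LD3_c48)) :=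
  Lefun (Lecon (K48.f663040 IH) (f707593 IH)) (f440095 IH)
def v5923 : LQ := Led Lsl_gt (LP (LK LD1_c3 LD2_c15 LD3_c1))
theorem f650080 : Led Lsl_gt (LP (LK LD1_c3 LD2_c15 LD3_c1)) = v5923 :=
  Lrfl
theorem f650081 : Led Lsl_gf (LP (LK LD1_c7 LD2_c38 LD3_c6)) = v5923 :=
  Lgr Lrot76 (Lpe (K5.f111931 IH) (Lpe (K5.f111995 IH) (Lpr_gt (f650080 IH) (Lpn v5923))))
theorem f708155 : Led Lsl_cf v5923 = K48.v5325 :=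
  Lgr Lrot160 (Lpe (f650081 IH) (Lpe (K4.f89411 IH) (Lpr_bt (K4.f89423 IH) (Lpr_gt (f440093 IH) (Lpr_ct (f440095 IH) (Lpq (f707618 IH) (Lpe (K48.f649034 IH) (Lpr_cf (K48.f208791 IH) (Lpe (K48.f208767 IH) (Lpr_gt (K48.f116079 IH) (Lpq (K48.f662980 IH) (Lpr_bf (K48.f647088 IH) (Lpn K48.v5325)))))))))))))
theorem f128603 : Led Lsl_bt (LP (LK LD1_c3 LD2_c45 LD3_c12)) = (LP (LK LD1_c6 LD2_c28 LD3_c31)) :=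
  Lgr Lrot119 (Lpe (K5.f126510 IH) (Lpr_bf (K5.f128599 IH) (Lpe (K5.f128572 IH) (Lpn (LP (LK LD1_c6 LD2_c28 LD3_c31))))))
theorem f128677 : Led Lsl_gt (LP (LK LD1_c12 LD2_c27 LD3_c60)) = (LP (LK LD1_c6 LD2_c28 LD3_c31)) :=
  Lre_g IH (LK LD1_c12 LD2_c27 LD3_c60) (LK LD1_c6 LD2_c28 LD3_c31) Lrfl Lrfl
theorem f148156 : Led Lsl_gt (LP (LK LD1_c7 LD2_c27 LD3_c1)) = (LP (LK LD1_c3 LD2_c43 LD3_c12)) :=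
  Lre_g IH (LK LD1_c7 LD2_c27 LD3_c1) (LK LD1_c3 LD2_c43 LD3_c12) Lrfl Lrfl
theorem f209410 : Led Lsl_gt (LP (LK LD1_c6 LD2_c31 LD3_c39)) = (LP (LK LD1_c7 LD2_c27 LD3_c1)) :=
  Lgr Lrot5 (Lpr_ft (K46.f209345 IH) (Lpr_at (K46.f209398 IH) (Lpe (f148156 IH) (Lpn (LP (LK LD1_c7 LD2_c27 LD3_c1))))))
theorem f68489 : Led Lsl_gt (LP (LK LD1_c6 LD2_c30 LD3_c30)) = (LP (LK LD1_c3 LD2_c13 LD3_c20)) :=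
  Lre_g IH (LK LD1_c6 LD2_c30 LD3_c30) (LK LD1_c3 LD2_c13 LD3_c20) Lrfl Lrfl
theorem f209039 : Led Lsl_gt (LP (LK LD1_c6 LD2_c52 LD3_c26)) = (LP (LK LD1_c6 LD2_c30 LD3_c30)) :=
  Lgr Lrot5 (Lpr_ft (K48.f109372 IH) (Lpr_at (K48.f209031 IH) (Lpe (f68489 IH) (Lpn (LP (LK LD1_c6 LD2_c30 LD3_c30))))))
theorem f208771 : Led Lsl_ct (LP (LK LD1_c1 LD2_c48 LD3_c40)) = (LP (LK LD1_c3 LD2_c43 LD3_c12)) :=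
  Lre_c IH (LK LD1_c1 LD2_c48 LD3_c40) (LK LD1_c3 LD2_c43 LD3_c12) Lrfl Lrfl
theorem f663046 : Led Lsl_ct (LP (LK LD1_c6 LD2_c30 LD3_c30)) = (LP (LK LD1_c7 LD2_c27 LD3_c1)) :=
  Lgr Lrot91 (Lpe (f209039 IH) (Lpr_bf (K48.f109373 IH) (Lpe (K34.f108718 IH) (Lpe (K50.f209273 IH) (Lpe (K48.f508948 IH) (Lpr_bt (K48.f663041 IH) (Lpe (K48.f207467 IH) (Lpe (K48.f208769 IH) (Lpr_ct (f208771 IH) (Lpe (f148156 IH) (Lpn (LP (LK LD1_c7 LD2_c27 LD3_c1)))))))))))))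
theorem f708159 : Led Lsl_bf (LP (LK LD1_c12 LD2_c27 LD3_c60)) = (LP (LK LD1_c6 LD2_c30 LD3_c30)) :=
  Lgr Lrot156 (Lpr_gt (f128677 IH) (Lpe (f128603 IH) (Lpe (K5.f126538 IH) (Lpr_gt (f650080 IH) (Lpr_cf (f708155 IH) (Lpe (K48.f647088 IH) (Lpqs (K48.f662980 IH) (Lpe (K49.f209505 IH) (Lpr_ct (K49.f209359 IH) (Lpr_gt (f209410 IH) (Lpe (f663046 IH) (Lpn (LP (LK LD1_c6 LD2_c30 LD3_c30))))))))))))))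
theorem f131492 : Led Lsl_gt (LP (LK LD1_c6 LD2_c28 LD3_c37)) = (LP (LK LD1_c12 LD2_c27 LD3_c60)) :=
  Lre_g IH (LK LD1_c6 LD2_c28 LD3_c37) (LK LD1_c12 LD2_c27 LD3_c60) Lrfl Lrfl
theorem f128480 : Led Lsl_ft (LP (LK LD1_c3 LD2_c12 LD3_c19)) = (LP (LK LD1_c6 LD2_c28 LD3_c46)) :=
  Lre_f IH (LK LD1_c3 LD2_c12 LD3_c19) (LK LD1_c6 LD2_c28 LD3_c46) Lrfl Lrfl
theorem f208141 : Led Lsl_at (LP (LK LD1_c6 LD2_c28 LD3_c46)) = (LP (LK LD1_c6 LD2_c19 LD3_c22)) :=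
  Lgr Lrot66 (Lpe (f128480 IH) (Lpr_af (f208128 IH) (Lpe (K4.f89499 IH) (Lpn (LP (LK LD1_c6 LD2_c19 LD3_c22))))))
theorem f208149 : Led Lsl_af (LP (LK LD1_c6 LD2_c28 LD3_c46)) = (LP (LK LD1_c6 LD2_c19 LD3_c22)) :=
  Lgr Lrot0 (Lpr_at (f208141 IH) (Lpn (LP (LK LD1_c6 LD2_c19 LD3_c22))))
theorem f89443 : Led Lsl_gt (LP (LK LD1_c3 LD2_c7 LD3_c7)) = (LP (LK LD1_c6 LD2_c19 LD3_c19)) :=
  Lre_g IH (LK LD1_c3 LD2_c7 LD3_c7) (LK LD1_c6 LD2_c19 LD3_c19) Lrfl Lrfl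
theorem f208224 : Led Lsl_gf (LP (LK LD1_c6 LD2_c28 LD3_c46)) = (LP (LK LD1_c6 LD2_c19 LD3_c19)) :=
  Lgr Lrot76 (Lpr_af (f208149 IH) (Lpe (K4.f89432 IH) (Lpr_gt (f89443 IH) (Lpn (LP (LK LD1_c6 LD2_c19 LD3_c19))))))
theorem f708163 : Led Lsl_cf (LP (LK LD1_c6 LD2_c19 LD3_c19)) = (LP (LK LD1_c6 LD2_c25 LD3_c41)) :=
  Lgr Lrot125 (Lpe (f208224 IH) (Lpe (K5.f128468 IH) (Lpr_bt (f128464 IH) (Lpr_gt (f131492 IH) (Lpr_bf (f708159 IH) (Lpr_ct (f663046 IH) (Lpr_gt (f148156 IH) (Lpe (f208771 IH) (Lpr_bt (K48.f208769 IH) (Lpr_gt (K48.f207467 IH) (Lpn (LP (LK LD1_c6 LD2_c25 LD3_c41)))))))))))))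
theorem f663043 : Led Lsl_bf (LP (LK LD1_c6 LD2_c9 LD3_c50)) = (LP (LK LD1_c6 LD2_c25 LD3_c41)) :=
  Lgr Lrot24 (Lpr_bt (K48.f663041 IH) (Lpn (LP (LK LD1_c6 LD2_c25 LD3_c41))))
theorem f100209 : Led Lsl_gt (LP (LK LD1_c2 LD2_c17 LD3_c6)) = (LP (LK LD1_c1 LD2_c26 LD3_c12)) :=
  Lre_g IH (LK LD1_c2 LD2_c17 LD3_c6) (LK LD1_c1 LD2_c26 LD3_c12) Lrfl Lrfl
theorem f708170 : v8107 = (LP (LK LD1_c1 LD2_c29 LD3_c27)) :=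
  (Llr Lrot165 (Lpe (f670030 IH) (Lpe (f504529 IH) (Lpr_ct (f89401 IH) (Lpr_gt (f89443 IH) (Lpr_cf (f708163 IH) (Lpe (f663043 IH) (Lpr_gt (K24.f62080 IH) (Lpe (K29.f58345 IH) (Lpr_ct (K46.f25562 IH) (Lpr_gt (f100209 IH) (Lpe (K32.f444198 IH) (Lpn (LP (LK LD1_c1 LD2_c29 LD3_c27))))))))))))))).symm
theorem f708171 : v1843 = (LP (LK LD1_c3 LD2_c6 LD3_c42)) :=
  Lefun (Lecon (Lfl_bf (f670030 IH)) (f708170 IH)) (f444208 IH)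
theorem f708178 : v8109 = v5358 :=
  Lefun (Lecon (f670033 IH) (f708171 IH)) (f647243 IH)
theorem f708186 : (LP (LK LD1_c6 LD2_c20 LD3_c58)) = v5530 :=
  Lefun (Lecon (Lfl_ef (f670035 IH)) (f708178 IH)) (f648110 IH)
theorem f648108 : Led Lsl_bf (LP (LK LD1_c3 LD2_c9 LD3_c11)) = v5530 :=
  Lgr Lrot24 (Lpr_bt (f648107 IH) (Lpn v5530))
theorem f708187 : Led Lsl_bt (LP (LK LD1_c6 LD2_c20 LD3_c58)) = (LP (LK LD1_c3 LD2_c9 LD3_c11)) :=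
  Leop (Lpr_bf (f648108 IH) (Lpq (f708186 IH) (Lpn (LP (LK LD1_c6 LD2_c20 LD3_c58)))))
theorem seed_723 : LEOK LG_b (LK LD1_c6 LD2_c20 LD3_c58) :=
  Leoe_b (LK LD1_c6 LD2_c20 LD3_c58) (f708187 IH)
def v5355 : LQ := Led Lsl_gt (LP (LK LD1_c3 LD2_c6 LD3_c42))
theorem f647239 : Led Lsl_gt (LP (LK LD1_c3 LD2_c6 LD3_c42)) = v5355 :=
  Lrfl
theorem f670800 : Led Lsl_gt v5355 = K50.v8322 :=
  Lgr Lrot46 (Lpe (f647239 IH) (Lpr_ft (K48.f640057 IH) (Lpr_at (K50.f670796 IH) (Lpn K50.v8322))))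
theorem f708172 : (LP (LK LD1_c1 LD2_c29 LD3_c46)) = v5355 :=
  Lefun (Lecon (Lfl_gf (f504529 IH)) (f708171 IH)) (f647239 IH)
theorem f708181 : K50.v8322 = (LP (LK LD1_c3 LD2_c7 LD3_c8)) :=
  Lefun (Lecon (f670800 IH) (f708172 IH).symm) (f89415 IH)
theorem f708201 : Led Lsl_bf K50.v8346 = v5382 :=
  Lgr Lrot93 (Lpe (K50.f670882 IH) (Lpr_bt (K50.f670877 IH) (Lpq (K50.f670895 IH) (Lpqs (f708181 IH) (Lpr_dt (f647321 IH) (Lpn v5382))))))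
theorem f701813 : Led Lsl_et K50.v8346 = K50.v13231 :=
  Lgr Lrot87 (Lpr_ef (K50.f701811 IH) (Lpn K50.v13231))
theorem f708204 : Led Lsl_bt K50.v13231 = v5435 :=
  Lgr Lrot119 (Lpe (f701813 IH) (Lpr_bf (f708201 IH) (Lpr_ef (f647638 IH) (Lpn v5435))))
theorem f647637 : Led Lsl_df v5393 = v5435 :=
  Lgr Lrot38 (Lpr_dt (f647636 IH) (Lpn v5435))
theorem f708207 : Led Lsl_bf K50.v8349 = v5393 :=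
  Lgr Lrot93 (Lpr_dt (K50.f701808 IH) (Lpr_bt (f708204 IH) (Lpe (f647637 IH) (Lpn v5393))))
theorem f708209 : Led Lsl_bt K50.v8349 = v5393 :=
  Lgr Lrot127 (Lpr_bf (f708207 IH) (Lpn v5393))
def v8106 : LQ := Led Lsl_et K46.v1841
theorem f670023 : Led Lsl_et K46.v1841 = v8106 :=
  Lrfl
theorem f670952 : Led Lsl_at v8106 = K50.v8349 :=
  Lgr Lrot80 (Lpe (f670023 IH) (Lpr_af (K48.f640444 IH) (Lpr_ef (K50.f670951 IH) (Lpn K50.v8349))))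
theorem f670026 : Led Lsl_ef K46.v1841 = v8106 :=
  Lgr Lrot88 (Lpr_et (f670023 IH) (Lpn v8106))
theorem f670027 : Led Lsl_bt K32.v1842 = v8106 :=
  Lgr Lrot119 (Lpe (K32.f504510 IH) (Lpr_bf (K46.f504509 IH) (Lpr_ef (f670026 IH) (Lpn v8106))))
theorem f639185 : Led Lsl_af K32.v1842 = (LP (LK LD1_c3 LD2_c12 LD3_c45)) :=
  Lgr Lrot68 (Lpe (K35.f504511 IH) (Lpr_at (K48.f639181 IH) (Lpr_ct (K8.f61037 IH) (Lpn (LP (LK LD1_c3 LD2_c12 LD3_c45))))))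
theorem f649181 : Led Lsl_bf (LP (LK LD1_c3 LD2_c12 LD3_c45)) = v5747 :=
  Lgr Lrot24 (Lpr_bt (f649180 IH) (Lpn v5747))
theorem f708210 : Led Lsl_af v5747 = v5393 :=
  Lgr Lrot36 (Lpe (f649181 IH) (Lpe (f639185 IH) (Lpr_bt (f670027 IH) (Lpr_at (f670952 IH) (Lpr_bt (f708209 IH) (Lpn v5393))))))
theorem f708211 : Led Lsl_at v13261 = v5435 :=
  Lgr Lrot51 (Lpe (f702004 IH) (Lpr_af (f708210 IH) (Lpr_df (f647637 IH) (Lpn v5435))))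
theorem f504821 : Led Lsl_ef (LP (LK LD1_c2 LD2_c19 LD3_c42)) = K32.v1886 :=
  Lgr Lrot21 (Lpr_ft (K32.f504705 IH) (Lpe (K32.f504702 IH) (Lpe (K42.f453515 IH) (Lpr_et (K32.f444046 IH) (Lpr_ft (K32.f504820 IH) (Lpn K32.v1886))))))
theorem f445975 : Led Lsl_gt (LP (LK LD1_c2 LD2_c19 LD3_c42)) = (LP (LK LD1_c3 LD2_c8 LD3_c36)) :=
  Lgr Lrot139 (Lpe (K24.f26290 IH) (Lpe (K24.f26270 IH) (Lpe (K24.f26064 IH) (Lpr_dt (K2.f26051 IH) (Lpr_gf (K0.f26043 IH) (Lpe (K0.f9743 IH) (Lpr_et (K35.f77783 IH) (Lpe (K9.f73775 IH) (Lpr_ef (K24.f445969 IH) (Lpe (K35.f445967 IH) (Lpn (LP (LK LD1_c3 LD2_c8 LD3_c36)))))))))))))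
theorem f59493 : Led Lsl_et (LP (LK LD1_c1 LD2_c32 LD3_c55)) = (LP (LK LD1_c3 LD2_c12 LD3_c56)) :=
  Lre_e IH (LK LD1_c1 LD2_c32 LD3_c55) (LK LD1_c3 LD2_c12 LD3_c56) Lrfl Lrfl
theorem f632753 : Led Lsl_gt (LP (LK LD1_c3 LD2_c12 LD3_c55)) = K35.v4336 :=
  Lgr Lrot112 (Lpe (K24.f59497 IH) (Lpr_et (f59493 IH) (Lpr_gf (K24.f445956 IH) (Lpe (K11.f13571 IH) (Lpr_dt (K11.f13563 IH) (Lpe (K11.f79774 IH) (Lpe (K24.f445965 IH) (Lpe (f445975 IH) (Lpr_ef (f504821 IH) (Lpr_dt (K46.f632751 IH) (Lpn K35.v4336)))))))))))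
theorem f639981 : Led Lsl_af (LP (LK LD1_c3 LD2_c12 LD3_c53)) = (LP (LK LD1_c3 LD2_c6 LD3_c40)) :=
  Lgr Lrot31 (Lpr_gf (K35.f632748 IH) (Lpe (f632753 IH) (Lpr_ft (K50.f639975 IH) (Lpn (LP (LK LD1_c3 LD2_c6 LD3_c40))))))
theorem f639989 : Led Lsl_ft (LP (LK LD1_c3 LD2_c12 LD3_c53)) = (LP (LK LD1_c3 LD2_c6 LD3_c43)) :=
  Lgr Lrot101 (Lpr_af (f639981 IH) (Lpe (K50.f639975 IH) (Lpr_af (K48.f639383 IH) (Lpn (LP (LK LD1_c3 LD2_c6 LD3_c43))))))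
theorem f639993 : Led Lsl_ff (LP (LK LD1_c3 LD2_c12 LD3_c53)) = (LP (LK LD1_c3 LD2_c6 LD3_c43)) :=
  Lgr Lrot3 (Lpr_ft (f639989 IH) (Lpn (LP (LK LD1_c3 LD2_c6 LD3_c43))))
theorem f155837 : Led Lsl_ct (LP (LK LD1_c6 LD2_c18 LD3_c52)) = (LP (LK LD1_c3 LD2_c6 LD3_c43)) :=
  Lre_c IH (LK LD1_c6 LD2_c18 LD3_c52) (LK LD1_c3 LD2_c6 LD3_c43) Lrfl Lrfl
theorem f639995 : Led Lsl_ft (LP (LK LD1_c6 LD2_c29 LD3_c50)) = (LP (LK LD1_c6 LD2_c18 LD3_c52)) :=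
  Lgr Lrot4 (Lpe (K29.f68250 IH) (Lpr_ff (f639993 IH) (Lpe (f155837 IH) (Lpn (LP (LK LD1_c6 LD2_c18 LD3_c52))))))
theorem f445916 : Led Lsl_cf (LP (LK LD1_c1 LD2_c32 LD3_c55)) = (LP (LK LD1_c2 LD2_c17 LD3_c5)) :=
  Lgr Lrot11 (Lpr_ct (K29.f445910 IH) (Lpn (LP (LK LD1_c2 LD2_c17 LD3_c5))))
theorem f435260 : Led Lsl_ct (LP (LK LD1_c6 LD2_c29 LD3_c51)) = (LP (LK LD1_c3 LD2_c12 LD3_c55)) :=
  Lre_c IH (LK LD1_c6 LD2_c29 LD3_c51) (LK LD1_c3 LD2_c12 LD3_c55) Lrfl Lrfl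
theorem f445945 : Led Lsl_gf (LP (LK LD1_c6 LD2_c29 LD3_c51)) = (LP (LK LD1_c9 LD2_c29 LD3_c1)) :=
  Lgr Lrot104 (Lpr_ct (f435260 IH) (Lpe (K24.f59497 IH) (Lpr_cf (f445916 IH) (Lpe (K48.f58579 IH) (Lpr_cf (K46.f58482 IH) (Lpe (K24.f415335 IH) (Lpe (K24.f20115 IH) (Lpe (K35.f20105 IH) (Lpr_ct (K49.f20114 IH) (Lpn (LP (LK LD1_c9 LD2_c29 LD3_c1))))))))))))
theorem f639997 : Led Lsl_af (LP (LK LD1_c6 LD2_c29 LD3_c51)) = (LP (LK LD1_c6 LD2_c18 LD3_c52)) :=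
  Lgr Lrot31 (Lpr_gf (f445945 IH) (Lpr_gf (K46.f507270 IH) (Lpr_ft (f639995 IH) (Lpn (LP (LK LD1_c6 LD2_c18 LD3_c52))))))
theorem f435265 : Led Lsl_ct (LP (LK LD1_c3 LD2_c12 LD3_c55)) = (LP (LK LD1_c6 LD2_c29 LD3_c51)) :=
  Lre_c IH (LK LD1_c3 LD2_c12 LD3_c55) (LK LD1_c6 LD2_c29 LD3_c51) Lrfl Lrfl
theorem f639971 : Led Lsl_ft (LP (LK LD1_c6 LD2_c29 LD3_c51)) = (LP (LK LD1_c6 LD2_c18 LD3_c49)) :=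
  Lgr Lrot4 (Lpe (f435265 IH) (Lpr_ff (K50.f639969 IH) (Lpe (K32.f140092 IH) (Lpn (LP (LK LD1_c6 LD2_c18 LD3_c49))))))
theorem f639999 : Led Lsl_at (LP (LK LD1_c6 LD2_c18 LD3_c49)) = (LP (LK LD1_c6 LD2_c29 LD3_c50)) :=
  Lgr Lrot66 (Lpe (f639971 IH) (Lpr_af (f639997 IH) (Lpe (f639995 IH) (Lpn (LP (LK LD1_c6 LD2_c29 LD3_c50))))))
theorem f640003 : Led Lsl_af (LP (LK LD1_c6 LD2_c21 LD3_c42)) = (LP (LK LD1_c9 LD2_c18 LD3_c31)) :=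
  Lgr Lrot50 (Lpe (K32.f444127 IH) (Lpr_at (f639999 IH) (Lpe (K29.f79720 IH) (Lpn (LP (LK LD1_c9 LD2_c18 LD3_c31))))))
theorem f640011 : Led Lsl_ft (LP (LK LD1_c6 LD2_c21 LD3_c43)) = (LP (LK LD1_c9 LD2_c18 LD3_c31)) :=
  Lgr Lrot2 (Lpe (K50.f444033 IH) (Lpe (K32.f504516 IH) (Lpr_af (f640003 IH) (Lpn (LP (LK LD1_c9 LD2_c18 LD3_c31))))))
theorem f640015 : Led Lsl_ff (LP (LK LD1_c6 LD2_c21 LD3_c43)) = (LP (LK LD1_c9 LD2_c18 LD3_c31)) :=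
  Lgr Lrot3 (Lpr_ft (f640011 IH) (Lpn (LP (LK LD1_c9 LD2_c18 LD3_c31))))
theorem f640017 : Led Lsl_ft (LP (LK LD1_c3 LD2_c8 LD3_c33)) = (LP (LK LD1_c4 LD2_c42 LD3_c2)) :=
  Lgr Lrot4 (Lpe (K50.f435555 IH) (Lpr_ff (f640015 IH) (Lpe (K29.f61023 IH) (Lpn (LP (LK LD1_c4 LD2_c42 LD3_c2))))))
def v5490 : LQ := Led Lsl_bt (LP (LK LD1_c3 LD2_c8 LD3_c33))
theorem f647917 : Led Lsl_bt (LP (LK LD1_c3 LD2_c8 LD3_c33)) = v5490 :=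
  Lrfl
theorem f647918 : Led Lsl_bf (LP (LK LD1_c3 LD2_c8 LD3_c33)) = v5490 :=
  Lgr Lrot24 (Lpr_bt (f647917 IH) (Lpn v5490))
theorem f702002 : Led Lsl_ff v5490 = v13261 :=
  Lgr Lrot25 (Lpe (f647918 IH) (Lpr_ft (f640017 IH) (Lpr_bt (f701998 IH) (Lpn v13261))))
theorem f702003 : Led Lsl_ft v5490 = v13261 :=
  Lgr Lrot48 (Lpr_ff (f702002 IH) (Lpn v13261))
def v5436 : LQ := Led Lsl_gf (LP (LK LD1_c3 LD2_c7 LD3_c54))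
theorem f647643 : Led Lsl_gf (LP (LK LD1_c3 LD2_c7 LD3_c54)) = v5436 :=
  Lrfl
theorem f708213 : v5490 = v5436 :=
  (Llr Lrot52 (Lpr_ft (f702003 IH) (Lpr_at (f708211 IH) (Lpe (f647634 IH) (Lpr_gf (f647643 IH) (Lpn v5436)))))).symm
theorem f507337 : Led Lsl_af (LP (LK LD1_c3 LD2_c19 LD3_c29)) = (LP (LK LD1_c4 LD2_c48 LD3_c5)) :=
  Lgr Lrot68 (Lpr_ct (K32.f416957 IH) (Lpr_at (K49.f507333 IH) (Lpr_ct (K50.f27090 IH) (Lpn (LP (LK LD1_c4 LD2_c48 LD3_c5))))))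
theorem f416956 : Led Lsl_ct (LP (LK LD1_c1 LD2_c36 LD3_c9)) = (LP (LK LD1_c3 LD2_c19 LD3_c29)) :=
  Lre_c IH (LK LD1_c1 LD2_c36 LD3_c9) (LK LD1_c3 LD2_c19 LD3_c29) Lrfl Lrfl
theorem f507343 : Led Lsl_ft (LP (LK LD1_c3 LD2_c19 LD3_c29)) = (LP (LK LD1_c4 LD2_c48 LD3_c4)) :=
  Lgr Lrot4 (Lpe (f416956 IH) (Lpr_ff (K49.f507339 IH) (Lpe (K49.f68409 IH) (Lpn (LP (LK LD1_c4 LD2_c48 LD3_c4))))))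
theorem f507369 : Led Lsl_af (LP (LK LD1_c3 LD2_c19 LD3_c27)) = (LP (LK LD1_c4 LD2_c48 LD3_c4)) :=
  Lgr Lrot45 (Lpr_ft (K50.f507365 IH) (Lpe (f507337 IH) (Lpr_ft (f507343 IH) (Lpn (LP (LK LD1_c4 LD2_c48 LD3_c4))))))
theorem f507394 : Led Lsl_gf (LP (LK LD1_c6 LD2_c21 LD3_c43)) = (LP (LK LD1_c3 LD2_c19 LD3_c29)) :=
  Lgr Lrot47 (Lpe (K50.f444033 IH) (Lpr_af (f507369 IH) (Lpe (f507343 IH) (Lpn (LP (LK LD1_c3 LD2_c19 LD3_c29))))))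
theorem f24652 : Led Lsl_ct (LP (LK LD1_c6 LD2_c12 LD3_c39)) = (LP (LK LD1_c12 LD2_c4 LD3_c36)) :=
  Lre_c IH (LK LD1_c6 LD2_c12 LD3_c39) (LK LD1_c12 LD2_c4 LD3_c36) Lrfl Lrfl
theorem f647635 : Led Lsl_bt (LP (LK LD1_c6 LD2_c20 LD3_c39)) = (LP (LK LD1_c3 LD2_c7 LD3_c54)) :=
  Lre_b IH (LK LD1_c6 LD2_c20 LD3_c39) (LK LD1_c3 LD2_c7 LD3_c54) Lrfl Lrfl
theorem f647596 : Led Lsl_ct (LP (LK LD1_c6 LD2_c20 LD3_c39)) = (LP (LK LD1_c12 LD2_c15 LD3_c42)) :=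
  Lre_c IH (LK LD1_c6 LD2_c20 LD3_c39) (LK LD1_c12 LD2_c15 LD3_c42) Lrfl Lrfl
theorem f708214 : Led Lsl_gf (LP (LK LD1_c12 LD2_c4 LD3_c36)) = (LP (LK LD1_c12 LD2_c15 LD3_c42)) :=
  Lgr Lrot126 (Lpe (f24652 IH) (Lpr_bt (K48.f24651 IH) (Lpr_gt (K32.f444275 IH) (Lpr_ct (f416956 IH) (Lpe (f507394 IH) (Lpe (K50.f435553 IH) (Lpr_bt (f647917 IH) (Lpqs (f708213 IH) (Lpe (f647643 IH) (Lpe (f647635 IH) (Lpr_ct (f647596 IH) (Lpn (LP (LK LD1_c12 LD2_c15 LD3_c42))))))))))))))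
theorem f708215 : Led Lsl_gt (LP (LK LD1_c12 LD2_c15 LD3_c42)) = (LP (LK LD1_c12 LD2_c4 LD3_c36)) :=
  Leop (Lpr_gf (f708214 IH) (Lpn (LP (LK LD1_c12 LD2_c15 LD3_c42))))
theorem seed_724 : LEOK LG_g (LK LD1_c12 LD2_c15 LD3_c42) :=
  Leoe_g (LK LD1_c12 LD2_c15 LD3_c42) (f708215 IH)
def v4374 : LQ := Led Lsl_dt (LP (LK LD1_c2 LD2_c20 LD3_c10))
theorem f632995 : Led Lsl_dt (LP (LK LD1_c2 LD2_c20 LD3_c10)) = v4374 :=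
  Lrfl
def v2197 : LQ := Led Lsl_gt (LP (LK LD1_c1 LD2_c37 LD3_c7))
def v8766 : LQ := Led Lsl_at v2197
theorem f672238 : Led Lsl_at v2197 = v8766 :=
  Lrfl
theorem f672239 : Led Lsl_af v2197 = v8766 :=
  Lgr Lrot0 (Lpr_at (f672238 IH) (Lpn v8766))
theorem f509572 : Led Lsl_gt (LP (LK LD1_c1 LD2_c37 LD3_c7)) = v2197 :=
  Lrfl
def v2198 : LQ := Led Lsl_gf (LP (LK LD1_c1 LD2_c37 LD3_c7))
theorem f509573 : Led Lsl_gf (LP (LK LD1_c1 LD2_c37 LD3_c7)) = v2198 :=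
  Lrfl
theorem f672240 : Led Lsl_ft v2198 = v8766 :=
  Lgr Lrot2 (Lpe (f509573 IH) (Lpr_gt (f509572 IH) (Lpr_af (f672239 IH) (Lpn v8766))))
theorem f672241 : Led Lsl_ff v2198 = v8766 :=
  Lgr Lrot3 (Lpr_ft (f672240 IH) (Lpn v8766))
def v8770 : LQ := Led Lsl_et v2197
theorem f672248 : Led Lsl_et v2197 = v8770 :=
  Lrfl
theorem f672249 : Led Lsl_ef v2197 = v8770 :=
  Lgr Lrot88 (Lpr_et (f672248 IH) (Lpn v8770))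
theorem f146111 : Led Lsl_bt (LP (LK LD1_c6 LD2_c12 LD3_c50)) = (LP (LK LD1_c3 LD2_c3 LD3_c9)) :=
  Lre_b IH (LK LD1_c6 LD2_c12 LD3_c50) (LK LD1_c3 LD2_c3 LD3_c9) Lrfl Lrfl
theorem f503491 : Led Lsl_ff (LP (LK LD1_c6 LD2_c12 LD3_c50)) = (LP (LK LD1_c6 LD2_c17 LD3_c47)) :=
  Lgr Lrot25 (Lpr_bt (f146111 IH) (Lpr_ft (K48.f503487 IH) (Lpr_bt (K48.f68268 IH) (Lpn (LP (LK LD1_c6 LD2_c17 LD3_c47))))))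
theorem f503505 : Led Lsl_dt (LP (LK LD1_c6 LD2_c12 LD3_c50)) = (LP (LK LD1_c3 LD2_c3 LD3_c8)) :=
  Lre_d IH (LK LD1_c6 LD2_c12 LD3_c50) (LK LD1_c3 LD2_c3 LD3_c8) Lrfl Lrfl
theorem f503506 : Led Lsl_ft (LP (LK LD1_c3 LD2_c3 LD3_c8)) = (LP (LK LD1_c3 LD2_c6 LD3_c4)) :=
  Lgr Lrot54 (Lpe (f503505 IH) (Lpr_ff (f503491 IH) (Lpe (K48.f444189 IH) (Lpn (LP (LK LD1_c3 LD2_c6 LD3_c4))))))
theorem f503511 : Led Lsl_ff (LP (LK LD1_c3 LD2_c3 LD3_c8)) = (LP (LK LD1_c3 LD2_c6 LD3_c4)) :=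
  Lgr Lrot3 (Lpr_ft (f503506 IH) (Lpn (LP (LK LD1_c3 LD2_c6 LD3_c4))))
theorem f140018 : Led Lsl_ct (LP (LK LD1_c3 LD2_c3 LD3_c8)) = (LP (LK LD1_c6 LD2_c12 LD3_c49)) :=
  Lre_c IH (LK LD1_c3 LD2_c3 LD3_c8) (LK LD1_c6 LD2_c12 LD3_c49) Lrfl Lrfl
theorem f443955 : Led Lsl_ct (LP (LK LD1_c6 LD2_c17 LD3_c46)) = (LP (LK LD1_c3 LD2_c6 LD3_c4)) :=
  Lre_c IH (LK LD1_c6 LD2_c17 LD3_c46) (LK LD1_c3 LD2_c6 LD3_c4) Lrfl Lrfl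
theorem f503514 : Led Lsl_ft (LP (LK LD1_c6 LD2_c12 LD3_c49)) = (LP (LK LD1_c6 LD2_c17 LD3_c46)) :=
  Lgr Lrot4 (Lpe (f140018 IH) (Lpr_ff (f503511 IH) (Lpe (f443955 IH) (Lpn (LP (LK LD1_c6 LD2_c17 LD3_c46))))))
def v5707 : LQ := Led Lsl_bt (LP (LK LD1_c3 LD2_c12 LD3_c20))
theorem f648996 : Led Lsl_bt (LP (LK LD1_c3 LD2_c12 LD3_c20)) = v5707 :=
  Lrfl
theorem f648997 : Led Lsl_bf (LP (LK LD1_c3 LD2_c12 LD3_c20)) = v5707 :=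
  Lgr Lrot24 (Lpr_bt (f648996 IH) (Lpn v5707))
theorem f707626 : (LP (LK LD1_c1 LD2_c32 LD3_c54)) = v5707 :=
  Lefun (Lecon (Lfl_bf (K48.f506758 IH)) (f707594 IH)) (f648996 IH)
theorem f140017 : Led Lsl_bt (LP (LK LD1_c3 LD2_c3 LD3_c8)) = (LP (LK LD1_c1 LD2_c27 LD3_c29)) :=
  Lre_b IH (LK LD1_c3 LD2_c3 LD3_c8) (LK LD1_c1 LD2_c27 LD3_c29) Lrfl Lrfl
def v5924 : LQ := Led Lsl_gf (LP (LK LD1_c3 LD2_c15 LD3_c1))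
theorem f650082 : Led Lsl_gf (LP (LK LD1_c3 LD2_c15 LD3_c1)) = v5924 :=
  Lrfl
theorem f111915 : Led Lsl_af (LP (LK LD1_c3 LD2_c15 LD3_c1)) = (LP (LK LD1_c3 LD2_c48 LD3_c33)) :=
  Lgr Lrot0 (Lpr_at (K5.f111913 IH) (Lpn (LP (LK LD1_c3 LD2_c48 LD3_c33))))
theorem f650083 : Led Lsl_gt (LP (LK LD1_c7 LD2_c38 LD3_c6)) = v5924 :=
  Lgr Lrot5 (Lpr_ft (K4.f89410 IH) (Lpe (f111915 IH) (Lpr_gf (f650082 IH) (Lpn v5924))))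
theorem f708239 : (LP (LK LD1_c6 LD2_c12 LD3_c49)) = v5924 :=
  (Llr Lrot10 (Lpe (f140018 IH) (Lpr_bt (f140017 IH) (Lpr_gt (K32.f20961 IH) (Lpr_ct (K35.f20112 IH) (Lpr_gt (K0.f20110 IH) (Lpr_cf (K46.f140010 IH) (Lpqs (f707626 IH) (Lpe (f648997 IH) (Lpe (f440097 IH) (Lpe (K4.f89423 IH) (Lpr_ct (K4.f89411 IH) (Lpr_gt (f650083 IH) (Lpn v5924)))))))))))))).symm
theorem f708242 : Led Lsl_at (LP (LK LD1_c6 LD2_c17 LD3_c46)) = v5923 :=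
  Lgr Lrot26 (Lpe (f503514 IH) (Lpqs (f708239 IH) (Lpe (f650082 IH) (Lpr_gt (f650080 IH) (Lpn v5923)))))
def v5295 : LQ := Led Lsl_at (LP (LK LD1_c3 LD2_c3 LD3_c8))
theorem f646928 : Led Lsl_at (LP (LK LD1_c3 LD2_c3 LD3_c8)) = v5295 :=
  Lrfl
theorem f646929 : Led Lsl_af (LP (LK LD1_c3 LD2_c3 LD3_c8)) = v5295 :=
  Lgr Lrot0 (Lpr_at (f646928 IH) (Lpn v5295))
theorem f647090 : Led Lsl_ff v5295 = K48.v5325 :=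
  Lgr Lrot30 (Lpe (f646929 IH) (Lpr_ft (f503506 IH) (Lpr_at (K48.f647086 IH) (Lpn K48.v5325))))
theorem f647092 : Led Lsl_ft v5295 = K48.v5325 :=
  Lgr Lrot48 (Lpr_ff (f647090 IH) (Lpn K48.v5325))
def v5323 : LQ := Led Lsl_gt (LP (LK LD1_c3 LD2_c6 LD3_c4))
theorem f647083 : Led Lsl_gt (LP (LK LD1_c3 LD2_c6 LD3_c4)) = v5323 :=
  Lrfl
theorem f647084 : Led Lsl_gf v5295 = v5323 :=
  Lgr Lrot76 (Lpe (f646928 IH) (Lpr_ff (f503511 IH) (Lpr_gt (f647083 IH) (Lpn v5323))))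
theorem f127194 : Led Lsl_gf (LP (LK LD1_c4 LD2_c44 LD3_c12)) = (LP (LK LD1_c3 LD2_c14 LD3_c56)) :=
  Lgr Lrot47 (Lpr_gt (K50.f127132 IH) (Lpr_af (K5.f127180 IH) (Lpe (K5.f127191 IH) (Lpn (LP (LK LD1_c3 LD2_c14 LD3_c56))))))
def v4494 : LQ := Led Lsl_dt (LP (LK LD1_c2 LD2_c22 LD3_c36))
theorem f634231 : Led Lsl_dt (LP (LK LD1_c2 LD2_c22 LD3_c36)) = v4494 :=
  Lrfl
theorem f634232 : Led Lsl_df (LP (LK LD1_c2 LD2_c22 LD3_c36)) = v4494 :=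
  Lgr Lrot38 (Lpr_dt (f634231 IH) (Lpn v4494))
theorem f674278 : Led Lsl_ef v5323 = v4494 :=
  Lgr Lrot17 (Lpe (f647083 IH) (Lpr_ef (K48.f502981 IH) (Lpe (K48.f502980 IH) (Lpe (K49.f139944 IH) (Lpq (K49.f674264 IH) (Lpe (K49.f509548 IH) (Lpr_gf (K46.f495169 IH) (Lpr_ef (f509563 IH) (Lpe (f509559 IH) (Lpe (f454426 IH) (Lpr_df (f634232 IH) (Lpn v4494))))))))))))
def v4366 : LQ := Led Lsl_ft (LP (LK LD1_c2 LD2_c20 LD3_c2))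
theorem f632946 : Led Lsl_ft (LP (LK LD1_c2 LD2_c20 LD3_c2)) = v4366 :=
  Lrfl
theorem f127087 : Led Lsl_et (LP (LK LD1_c1 LD2_c7 LD3_c17)) = (LP (LK LD1_c2 LD2_c20 LD3_c2)) :=
  Lre_e IH (LK LD1_c1 LD2_c7 LD3_c17) (LK LD1_c2 LD2_c20 LD3_c2) Lrfl Lrfl
theorem f127093 : Led Lsl_ft (LP (LK LD1_c0 LD2_c43 LD3_c36)) = (LP (LK LD1_c1 LD2_c7 LD3_c17)) :=
  Lgr Lrot54 (Lpr_df (K4.f112958 IH) (Lpr_ff (K5.f127088 IH) (Lpr_df (K5.f127071 IH) (Lpn (LP (LK LD1_c1 LD2_c7 LD3_c17))))))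
theorem f112968 : Led Lsl_et (LP (LK LD1_c1 LD2_c33 LD3_c60)) = (LP (LK LD1_c0 LD2_c43 LD3_c36)) :=
  Lre_e IH (LK LD1_c1 LD2_c33 LD3_c60) (LK LD1_c0 LD2_c43 LD3_c36) Lrfl Lrfl
theorem f632949 : Led Lsl_ef (LP (LK LD1_c3 LD2_c14 LD3_c56)) = v4366 :=
  Lgr Lrot21 (Lpr_ft (K5.f127191 IH) (Lpr_et (f112968 IH) (Lpr_ft (f127093 IH) (Lpr_et (f127087 IH) (Lpr_ft (f632946 IH) (Lpn v4366))))))
def v8751 : LQ := Led Lsl_dt K46.v2190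
theorem f672198 : Led Lsl_dt K46.v2190 = v8751 :=
  Lrfl
theorem f678946 : v8751 = v4494 :=
  Lefun (Lecon (f672198 IH) (K49.f678937 IH)) (f634231 IH)
theorem f672200 : Led Lsl_df K46.v2190 = v8751 :=
  Lgr Lrot38 (Lpr_dt (f672198 IH) (Lpn v8751))
theorem f672203 : Led Lsl_at K49.v2192 = v8751 :=
  Lgr Lrot51 (Lpe (K49.f509548 IH) (Lpr_af (K46.f509542 IH) (Lpr_df (f672200 IH) (Lpn v8751))))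
def v5274 : LQ := Led Lsl_at (LP (LK LD1_c3 LD2_c2 LD3_c56))
theorem f646870 : Led Lsl_at (LP (LK LD1_c3 LD2_c2 LD3_c56)) = v5274 :=
  Lrfl
theorem f674267 : v8751 = v5274 :=
  Lefun (Lecon (f672203 IH) (K49.f674264 IH)) (f646870 IH)
theorem f646871 : Led Lsl_af (LP (LK LD1_c3 LD2_c2 LD3_c56)) = v5274 :=
  Lgr Lrot0 (Lpr_at (f646870 IH) (Lpn v5274))
def v1799 : LQ := Led Lsl_gt (LP (LK LD1_c1 LD2_c27 LD3_c23))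
theorem f502972 : Led Lsl_gt (LP (LK LD1_c1 LD2_c27 LD3_c23)) = v1799 :=
  Lrfl
theorem f632191 : Led Lsl_gt v1799 = K49.v4248 :=
  Lgr Lrot46 (Lpe (f502972 IH) (Lpr_ft (K49.f502988 IH) (Lpqs (K49.f503334 IH) (Lpr_at (K49.f632187 IH) (Lpn K49.v4248)))))
theorem f646872 : Led Lsl_ft v1799 = v5274 :=
  Lgr Lrot2 (Lpr_gt (f632191 IH) (Lpe (K49.f632193 IH) (Lpr_af (f646871 IH) (Lpn v5274))))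
def v8757 : LQ := Led Lsl_ft K49.v2192
theorem f672215 : Led Lsl_ft K49.v2192 = v8757 :=
  Lrfl
def v8753 : LQ := Led Lsl_gt K49.v2192
theorem f672208 : Led Lsl_gt K49.v2192 = v8753 :=
  Lrfl
theorem f672199 : Led Lsl_af K49.v2192 = v8751 :=
  Lgr Lrot117 (Lpe (K49.f509549 IH) (Lpr_at (K46.f509541 IH) (Lpr_dt (f672198 IH) (Lpn v8751))))
def v3201 : LQ := Led Lsl_dt K46.v566
theorem f624600 : Led Lsl_dt K46.v566 = v3201 :=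
  Lrfl
theorem f624601 : Led Lsl_df K46.v566 = v3201 :=
  Lgr Lrot38 (Lpr_dt (f624600 IH) (Lpn v3201))
theorem f672201 : Led Lsl_ff v3201 = v8751 :=
  Lgr Lrot19 (Lpe (f624601 IH) (Lpr_ft (K46.f509543 IH) (Lpr_dt (f672198 IH) (Lpn v8751))))
theorem f672202 : Led Lsl_ft v3201 = v8751 :=
  Lgr Lrot48 (Lpr_ff (f672201 IH) (Lpn v8751))
theorem f672216 : Led Lsl_af v3201 = v8757 :=
  Lgr Lrot45 (Lpr_ft (f672202 IH) (Lpe (f672199 IH) (Lpr_ft (f672215 IH) (Lpn v8757))))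
theorem f672219 : Led Lsl_gt v8753 = v3201 :=
  Lgr Lrot46 (Lpe (f672208 IH) (Lpr_ft (f672215 IH) (Lpe (f672216 IH) (Lpn v3201))))
theorem f674265 : v8753 = (LP (LK LD1_c1 LD2_c27 LD3_c23)) :=
  Lefun (Lecon (f672208 IH) (K49.f674264 IH)) (K49.f139944 IH)
theorem f674274 : v3201 = v1799 :=
  Lefun (Lecon (f672219 IH) (f674265 IH)) (f502972 IH)
theorem f116705 : Led Lsl_dt (LP (LK LD1_c7 LD2_c37 LD3_c28)) = (LP (LK LD1_c3 LD2_c48 LD3_c13)) :=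
  Lre_d IH (LK LD1_c7 LD2_c37 LD3_c28) (LK LD1_c3 LD2_c48 LD3_c13) Lrfl Lrfl
theorem f129943 : Led Lsl_dt (LP (LK LD1_c6 LD2_c33 LD3_c25)) = (LP (LK LD1_c12 LD2_c34 LD3_c0)) :=
  Lre_d IH (LK LD1_c6 LD2_c33 LD3_c25) (LK LD1_c12 LD2_c34 LD3_c0) Lrfl Lrfl
theorem f129944 : Led Lsl_af (LP (LK LD1_c7 LD2_c37 LD3_c28)) = (LP (LK LD1_c12 LD2_c34 LD3_c0)) :=
  Lgr Lrot117 (Lpr_dt (f116705 IH) (Lpr_at (K33.f129934 IH) (Lpr_dt (f129943 IH) (Lpn (LP (LK LD1_c12 LD2_c34 LD3_c0))))))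
theorem f129946 : Led Lsl_at (LP (LK LD1_c7 LD2_c37 LD3_c28)) = (LP (LK LD1_c12 LD2_c34 LD3_c0)) :=
  Lgr Lrot100 (Lpr_af (f129944 IH) (Lpn (LP (LK LD1_c12 LD2_c34 LD3_c0))))
theorem f89831 : Led Lsl_et (LP (LK LD1_c3 LD2_c48 LD3_c13)) = (LP (LK LD1_c1 LD2_c51 LD3_c6)) :=
  Lre_e IH (LK LD1_c3 LD2_c48 LD3_c13) (LK LD1_c1 LD2_c51 LD3_c6) Lrfl Lrfl
theorem f116706 : Led Lsl_et (LP (LK LD1_c2 LD2_c20 LD3_c1)) = (LP (LK LD1_c4 LD2_c44 LD3_c7)) :=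
  Lre_e IH (LK LD1_c2 LD2_c20 LD3_c1) (LK LD1_c4 LD2_c44 LD3_c7) Lrfl Lrfl
theorem f91974 : Led Lsl_dt (LP (LK LD1_c4 LD2_c44 LD3_c7)) = (LP (LK LD1_c9 LD2_c21 LD3_c7)) :=
  Lre_d IH (LK LD1_c4 LD2_c44 LD3_c7) (LK LD1_c9 LD2_c21 LD3_c7) Lrfl Lrfl
theorem f116707 : Led Lsl_ef (LP (LK LD1_c7 LD2_c37 LD3_c28)) = (LP (LK LD1_c9 LD2_c21 LD3_c7)) :=
  Lgr Lrot73 (Lpr_dt (f116705 IH) (Lpr_et (f89831 IH) (Lpr_dt (K4.f116699 IH) (Lpr_et (f116706 IH) (Lpr_dt (f91974 IH) (Lpn (LP (LK LD1_c9 LD2_c21 LD3_c7))))))))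
theorem f127417 : Led Lsl_et (LP (LK LD1_c12 LD2_c34 LD3_c0)) = (LP (LK LD1_c6 LD2_c33 LD3_c28)) :=
  Lre_e IH (LK LD1_c12 LD2_c34 LD3_c0) (LK LD1_c6 LD2_c33 LD3_c28) Lrfl Lrfl
theorem f129949 : Led Lsl_af (LP (LK LD1_c9 LD2_c21 LD3_c7)) = (LP (LK LD1_c6 LD2_c33 LD3_c28)) :=
  Lgr Lrot50 (Lpe (f116707 IH) (Lpr_at (f129946 IH) (Lpr_et (f127417 IH) (Lpn (LP (LK LD1_c6 LD2_c33 LD3_c28))))))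
theorem f129959 : Led Lsl_dt (LP (LK LD1_c9 LD2_c21 LD3_c7)) = (LP (LK LD1_c4 LD2_c44 LD3_c7)) :=
  Lre_d IH (LK LD1_c9 LD2_c21 LD3_c7) (LK LD1_c4 LD2_c44 LD3_c7) Lrfl Lrfl
theorem f126580 : Led Lsl_dt (LP (LK LD1_c3 LD2_c14 LD3_c61)) = (LP (LK LD1_c6 LD2_c33 LD3_c28)) :=
  Lre_d IH (LK LD1_c3 LD2_c14 LD3_c61) (LK LD1_c6 LD2_c33 LD3_c28) Lrfl Lrfl
theorem f129960 : Led Lsl_at (LP (LK LD1_c4 LD2_c44 LD3_c7)) = (LP (LK LD1_c3 LD2_c14 LD3_c61)) :=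
  Lgr Lrot51 (Lpe (f129959 IH) (Lpr_af (f129949 IH) (Lpe (f126580 IH) (Lpn (LP (LK LD1_c3 LD2_c14 LD3_c61))))))
theorem f129967 : Led Lsl_ct (LP (LK LD1_c2 LD2_c20 LD3_c2)) = (LP (LK LD1_c4 LD2_c44 LD3_c7)) :=
  Lre_c IH (LK LD1_c2 LD2_c20 LD3_c2) (LK LD1_c4 LD2_c44 LD3_c7) Lrfl Lrfl
theorem f126584 : Led Lsl_ct (LP (LK LD1_c3 LD2_c14 LD3_c61)) = (LP (LK LD1_c1 LD2_c34 LD3_c1)) :=
  Lre_c IH (LK LD1_c3 LD2_c14 LD3_c61) (LK LD1_c1 LD2_c34 LD3_c1) Lrfl Lrfl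
theorem f129968 : Led Lsl_af (LP (LK LD1_c2 LD2_c20 LD3_c2)) = (LP (LK LD1_c1 LD2_c34 LD3_c1)) :=
  Lgr Lrot68 (Lpr_ct (f129967 IH) (Lpr_at (f129960 IH) (Lpr_ct (f126584 IH) (Lpn (LP (LK LD1_c1 LD2_c34 LD3_c1))))))
theorem f129972 : Led Lsl_dt (LP (LK LD1_c2 LD2_c20 LD3_c2)) = (LP (LK LD1_c1 LD2_c33 LD3_c51)) :=
  Lgr Lrot44 (Lpr_af (f129968 IH) (Lpe (K5.f126576 IH) (Lpr_af (K4.f120384 IH) (Lpn (LP (LK LD1_c1 LD2_c33 LD3_c51))))))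
theorem f129976 : Led Lsl_df (LP (LK LD1_c2 LD2_c20 LD3_c2)) = (LP (LK LD1_c1 LD2_c33 LD3_c51)) :=
  Lgr Lrot38 (Lpr_dt (f129972 IH) (Lpn (LP (LK LD1_c1 LD2_c33 LD3_c51))))
theorem f708033 : v3201 = (LP (LK LD1_c2 LD2_c20 LD3_c2)) :=
  Lefun (Lecon (f624600 IH) (f708019 IH).symm) (Lfl_df (f129976 IH))
theorem f708085 : v5274 = v4366 :=
  Lefun (Lecon (f646872 IH) ((f674274 IH).symm.trans (f708033 IH))) (f632946 IH)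
theorem f708129 : v5323 = (LP (LK LD1_c3 LD2_c14 LD3_c56)) :=
  Lefun (Lecon (Lfl_ef (f674278 IH)) (((f678946 IH).symm.trans (f674267 IH)).trans (f708085 IH))) (Lfl_ef (f632949 IH))
theorem f708143 : v5295 = (LP (LK LD1_c4 LD2_c44 LD3_c12)) :=
  Lefun (Lecon (Lfl_gf (f647084 IH)) (f708129 IH)) (Lfl_gf (f127194 IH))
theorem f708158 : Led Lsl_ft v5923 = K50.v13455 :=
  Lgr Lrot4 (Lpr_cf (f708155 IH) (Lpe (f647092 IH) (Lpqs (f708143 IH) (Lpr_cf (K50.f703080 IH) (Lpn K50.v13455)))))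
theorem f708243 : Led Lsl_af (LP (LK LD1_c6 LD2_c12 LD3_c49)) = K50.v13455 :=
  Lgr Lrot45 (Lpr_ft (f503514 IH) (Lpr_at (f708242 IH) (Lpr_ft (f708158 IH) (Lpn K50.v13455))))
theorem f503524 : Led Lsl_et (LP (LK LD1_c6 LD2_c12 LD3_c49)) = (LP (LK LD1_c12 LD2_c4 LD3_c47)) :=
  Lre_e IH (LK LD1_c6 LD2_c12 LD3_c49) (LK LD1_c12 LD2_c4 LD3_c47) Lrfl Lrfl
theorem f708249 : Led Lsl_at (LP (LK LD1_c12 LD2_c4 LD3_c47)) = (LP (LK LD1_c14 LD2_c23 LD3_c14)) :=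
  Lgr Lrot80 (Lpe (f503524 IH) (Lpr_af (f708243 IH) (Lpq (K50.f703089 IH) (Lpe (K50.f64316 IH) (Lpn (LP (LK LD1_c14 LD2_c23 LD3_c14)))))))
theorem f415354 : Led Lsl_ct (LP (LK LD1_c6 LD2_c12 LD3_c51)) = (LP (LK LD1_c12 LD2_c4 LD3_c47)) :=
  Lre_c IH (LK LD1_c6 LD2_c12 LD3_c51) (LK LD1_c12 LD2_c4 LD3_c47) Lrfl Lrfl
theorem f703087 : Led Lsl_ct (LP (LK LD1_c14 LD2_c23 LD3_c14)) = K50.v13456 :=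
  Lgr Lrot7 (Lpe (K50.f64320 IH) (Lpe (K50.f64313 IH) (Lpe (K50.f57518 IH) (Lpe (K50.f57517 IH) (Lpe (K50.f57223 IH) (Lpr_gt (K50.f453956 IH) (Lpr_dt (K50.f624562 IH) (Lpr_gt (K50.f652588 IH) (Lpr_dt (K50.f703086 IH) (Lpn K50.v13456))))))))))
theorem f708253 : Led Lsl_af (LP (LK LD1_c6 LD2_c12 LD3_c51)) = K50.v13456 :=
  Lgr Lrot68 (Lpr_ct (f415354 IH) (Lpr_at (f708249 IH) (Lpr_ct (f703087 IH) (Lpn K50.v13456))))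
def v13822 : LQ := Led Lsl_bt (LP (LK LD1_c4 LD2_c48 LD3_c29))
theorem f705068 : Led Lsl_bt (LP (LK LD1_c4 LD2_c48 LD3_c29)) = v13822 :=
  Lrfl
theorem f503269 : Led Lsl_ff (LP (LK LD1_c4 LD2_c50 LD3_c12)) = (LP (LK LD1_c9 LD2_c19 LD3_c23)) :=
  Lgr Lrot19 (Lpe (K32.f154228 IH) (Lpr_ft (K32.f503267 IH) (Lpr_dt (K32.f86098 IH) (Lpn (LP (LK LD1_c9 LD2_c19 LD3_c23))))))
theorem f503315 : Led Lsl_ff (LP (LK LD1_c4 LD2_c48 LD3_c29)) = (LP (LK LD1_c3 LD2_c20 LD3_c0)) :=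
  Lgr Lrot72 (Lpr_et (K32.f437969 IH) (Lpe (f503269 IH) (Lpr_et (K32.f154227 IH) (Lpr_ft (K32.f503307 IH) (Lpe (K32.f438681 IH) (Lpn (LP (LK LD1_c3 LD2_c20 LD3_c0))))))))
def v6296 : LQ := Led Lsl_bt (LP (LK LD1_c3 LD2_c20 LD3_c0))
theorem f652621 : Led Lsl_bt (LP (LK LD1_c3 LD2_c20 LD3_c0)) = v6296 :=
  Lrfl
theorem f652622 : Led Lsl_bf (LP (LK LD1_c3 LD2_c20 LD3_c0)) = v6296 :=
  Lgr Lrot24 (Lpr_bt (f652621 IH) (Lpn v6296))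
theorem f705071 : Led Lsl_ff v6296 = v13822 :=
  Lgr Lrot25 (Lpe (f652622 IH) (Lpe (f503315 IH) (Lpr_bt (f705068 IH) (Lpn v13822))))
def v13189 : LQ := Led Lsl_bt (LP (LK LD1_c4 LD2_c41 LD3_c8))
theorem f701590 : Led Lsl_bt (LP (LK LD1_c4 LD2_c41 LD3_c8)) = v13189 :=
  Lrfl
theorem f414584 : Led Lsl_et (LP (LK LD1_c2 LD2_c17 LD3_c36)) = (LP (LK LD1_c4 LD2_c41 LD3_c8)) :=
  Lre_e IH (LK LD1_c2 LD2_c17 LD3_c36) (LK LD1_c4 LD2_c41 LD3_c8) Lrfl Lrfl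
def v4249 : LQ := Led Lsl_dt (LP (LK LD1_c2 LD2_c17 LD3_c34))
theorem f632202 : Led Lsl_dt (LP (LK LD1_c2 LD2_c17 LD3_c34)) = v4249 :=
  Lrfl
theorem f632203 : Led Lsl_bf (LP (LK LD1_c2 LD2_c17 LD3_c36)) = v4249 :=
  Lgr Lrot93 (Lpr_dt (K17.f23237 IH) (Lpr_bt (K49.f413665 IH) (Lpr_dt (f632202 IH) (Lpn v4249))))
theorem f701593 : Led Lsl_ef v4249 = v13189 :=
  Lgr Lrot29 (Lpe (f632203 IH) (Lpr_et (f414584 IH) (Lpr_bt (f701590 IH) (Lpn v13189))))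
theorem f632204 : Led Lsl_df (LP (LK LD1_c2 LD2_c17 LD3_c34)) = v4249 :=
  Lgr Lrot38 (Lpr_dt (f632202 IH) (Lpn v4249))
theorem f446125 : Led Lsl_et (LP (LK LD1_c2 LD2_c17 LD3_c34)) = (LP (LK LD1_c4 LD2_c41 LD3_c3)) :=
  Lre_e IH (LK LD1_c2 LD2_c17 LD3_c34) (LK LD1_c4 LD2_c41 LD3_c3) Lrfl Lrfl
theorem f416269 : Led Lsl_bt (LP (LK LD1_c2 LD2_c17 LD3_c37)) = (LP (LK LD1_c4 LD2_c41 LD3_c3)) :=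
  Lre_b IH (LK LD1_c2 LD2_c17 LD3_c37) (LK LD1_c4 LD2_c41 LD3_c3) Lrfl Lrfl
theorem f140124 : Led Lsl_bt (LP (LK LD1_c3 LD2_c22 LD3_c7)) = (LP (LK LD1_c1 LD2_c37 LD3_c21)) :=
  Lre_b IH (LK LD1_c3 LD2_c22 LD3_c7) (LK LD1_c1 LD2_c37 LD3_c21) Lrfl Lrfl
theorem f446121 : Led Lsl_dt (LP (LK LD1_c4 LD2_c41 LD3_c3)) = (LP (LK LD1_c3 LD2_c22 LD3_c7)) :=
  Lgr Lrot79 (Lpe (f416269 IH) (Lpr_df (K24.f23234 IH) (Lpe (f140124 IH) (Lpn (LP (LK LD1_c3 LD2_c22 LD3_c7))))))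
theorem f652623 : Led Lsl_ef (LP (LK LD1_c3 LD2_c22 LD3_c7)) = v6296 :=
  Lgr Lrot29 (Lpr_bt (f140124 IH) (Lpe (K32.f438681 IH) (Lpr_bt (f652621 IH) (Lpn v6296))))
theorem f652624 : Led Lsl_et (LP (LK LD1_c3 LD2_c22 LD3_c7)) = v6296 :=
  Lgr Lrot87 (Lpr_ef (f652623 IH) (Lpn v6296))
theorem f701597 : Led Lsl_dt v6296 = v13189 :=
  Lgr Lrot77 (Lpe (f652624 IH) (Lpe (f446121 IH) (Lpe (f446125 IH) (Lpr_df (f632204 IH) (Lpr_ef (f701593 IH) (Lpn v13189))))))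
theorem f504011 : Led Lsl_ft (LP (LK LD1_c3 LD2_c3 LD3_c10)) = (LP (LK LD1_c4 LD2_c41 LD3_c8)) :=
  Lgr Lrot48 (Lpr_ff (K35.f504007 IH) (Lpn (LP (LK LD1_c4 LD2_c41 LD3_c8))))
theorem f23285 : Led Lsl_bt (LP (LK LD1_c6 LD2_c12 LD3_c51)) = (LP (LK LD1_c3 LD2_c3 LD3_c10)) :=
  Lre_b IH (LK LD1_c6 LD2_c12 LD3_c51) (LK LD1_c3 LD2_c3 LD3_c10) Lrfl Lrfl
theorem f701594 : Led Lsl_ff (LP (LK LD1_c6 LD2_c12 LD3_c51)) = v13189 :=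
  Lgr Lrot25 (Lpr_bt (f23285 IH) (Lpr_ft (f504011 IH) (Lpr_bt (f701590 IH) (Lpn v13189))))
theorem f705072 : Led Lsl_dt (LP (LK LD1_c6 LD2_c12 LD3_c51)) = v13822 :=
  Lgr Lrot60 (Lpr_ff (f701594 IH) (Lpe (f701597 IH) (Lpr_ff (f705071 IH) (Lpn v13822))))
theorem f708256 : Led Lsl_at v13822 = K50.v6287 :=
  Lgr Lrot51 (Lpe (f705072 IH) (Lpr_af (f708253 IH) (Lpe (K50.f703086 IH) (Lpn K50.v6287))))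
theorem f705073 : Led Lsl_ft v6296 = v13822 :=
  Lgr Lrot48 (Lpr_ff (f705071 IH) (Lpn v13822))
def v6290 : LQ := Led Lsl_ft (LP (LK LD1_c3 LD2_c19 LD3_c56))
theorem f652594 : Led Lsl_ft (LP (LK LD1_c3 LD2_c19 LD3_c56)) = v6290 :=
  Lrfl
def v6286 : LQ := Led Lsl_gt (LP (LK LD1_c3 LD2_c19 LD3_c56))
theorem f652578 : Led Lsl_gt (LP (LK LD1_c3 LD2_c19 LD3_c56)) = v6286 :=
  Lrfl
theorem f652595 : Led Lsl_af K50.v3187 = v6290 :=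
  Lgr Lrot45 (Lpr_ft (K50.f652586 IH) (Lpe (K50.f652583 IH) (Lpr_ft (f652594 IH) (Lpn v6290))))
theorem f652598 : Led Lsl_gt v6286 = K50.v3187 :=
  Lgr Lrot46 (Lpe (f652578 IH) (Lpr_ft (f652594 IH) (Lpe (f652595 IH) (Lpn K50.v3187))))
theorem f708259 : v6296 = v6286 :=
  (Llr Lrot52 (Lpr_ft (f705073 IH) (Lpr_at (f708256 IH) (Lpe (K50.f652588 IH) (Lpe (f652598 IH) (Lpn v6286)))))).symm
theorem f701592 : Led Lsl_df v6296 = v13189 :=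
  Lgr Lrot12 (Lpe (f652622 IH) (Lpr_dt (K35.f438685 IH) (Lpr_bt (f701590 IH) (Lpn v13189))))
def v2139 : LQ := Led Lsl_et (LP (LK LD1_c1 LD2_c36 LD3_c21))
theorem f509194 : Led Lsl_et (LP (LK LD1_c1 LD2_c36 LD3_c21)) = v2139 :=
  Lrfl
def v8663 : LQ := Led Lsl_gf v2139
theorem f671935 : Led Lsl_gf v2139 = v8663 :=
  Lrfl
def v7924 : LQ := Led Lsl_gf K32.v1370
theorem f668996 : Led Lsl_gf K32.v1370 = v7924 :=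
  Lrfl
theorem f141145 : Led Lsl_bt (LP (LK LD1_c0 LD2_c44 LD3_c54)) = (LP (LK LD1_c1 LD2_c36 LD3_c55)) :=
  Lre_b IH (LK LD1_c0 LD2_c44 LD3_c54) (LK LD1_c1 LD2_c36 LD3_c55) Lrfl Lrfl
theorem f495178 : Led Lsl_bf (LP (LK LD1_c1 LD2_c8 LD3_c27)) = K32.v1370 :=
  Lgr Lrot93 (Lpr_dt (K24.f68367 IH) (Lpr_bt (K24.f414462 IH) (Lpr_dt (K32.f495177 IH) (Lpn K32.v1370))))
theorem f653166 : Led Lsl_af K32.v1370 = v6390 :=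
  Lgr Lrot36 (Lpe (f495178 IH) (Lpqs (K24.f454056 IH) (Lpe (K24.f454025 IH) (Lpr_bt (f141145 IH) (Lpr_at (K49.f454031 IH) (Lpr_bt (f653165 IH) (Lpn v6390)))))))
theorem f653172 : Led Lsl_ft v2195 = v6390 :=
  Lgr Lrot48 (Lpr_ff (f653169 IH) (Lpn v6390))
theorem f668997 : Led Lsl_gt v2195 = v7924 :=
  Lgr Lrot5 (Lpr_ft (f653172 IH) (Lpe (f653166 IH) (Lpr_gf (f668996 IH) (Lpn v7924))))
def v8662 : LQ := Led Lsl_gt v2139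
theorem f671934 : Led Lsl_gt v2139 = v8662 :=
  Lrfl
def v2028 : LQ := Led Lsl_ft (LP (LK LD1_c1 LD2_c33 LD3_c51))
theorem f507828 : Led Lsl_ft (LP (LK LD1_c1 LD2_c33 LD3_c51)) = v2028 :=
  Lrfl
theorem f507829 : Led Lsl_ff (LP (LK LD1_c1 LD2_c33 LD3_c51)) = v2028 :=
  Lgr Lrot3 (Lpr_ft (f507828 IH) (Lpn v2028))
theorem f632948 : Led Lsl_df v2028 = v4366 :=
  Lgr Lrot78 (Lpe (f507829 IH) (Lpe (f129976 IH) (Lpr_ft (f632946 IH) (Lpn v4366))))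
def v4360 : LQ := Led Lsl_ft (LP (LK LD1_c2 LD2_c19 LD3_c60))
theorem f632909 : Led Lsl_ft (LP (LK LD1_c2 LD2_c19 LD3_c60)) = v4360 :=
  Lrfl
def v4358 : LQ := Led Lsl_gt (LP (LK LD1_c2 LD2_c19 LD3_c60))
theorem f632906 : Led Lsl_gt (LP (LK LD1_c2 LD2_c19 LD3_c60)) = v4358 :=
  Lrfl
theorem f632910 : Led Lsl_af v2028 = v4360 :=
  Lgr Lrot45 (Lpe (f507829 IH) (Lpe (K4.f120384 IH) (Lpr_ft (f632909 IH) (Lpn v4360))))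
theorem f632914 : Led Lsl_gt v4358 = v2028 :=
  Lgr Lrot46 (Lpe (f632906 IH) (Lpr_ft (f632909 IH) (Lpe (f632910 IH) (Lpn v2028))))
theorem f703084 : Led Lsl_df v4358 = v8662 :=
  Lgr Lrot135 (Lpr_gt (f632914 IH) (Lpr_df (f632948 IH) (Lpe (f632949 IH) (Lpe (f127194 IH) (Lpr_ef (K50.f703082 IH) (Lpe (K50.f703083 IH) (Lpe (K50.f652581 IH) (Lpe (K50.f509174 IH) (Lpr_et (f509194 IH) (Lpr_gt (f671934 IH) (Lpn v8662)))))))))))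
theorem f703085 : Led Lsl_dt v4358 = v8662 :=
  Lgr Lrot42 (Lpr_df (f703084 IH) (Lpn v8662))
def v8408 : LQ := Led Lsl_dt v2027
theorem f671145 : Led Lsl_dt v2027 = v8408 :=
  Lrfl
theorem f671146 : Led Lsl_df v2027 = v8408 :=
  Lgr Lrot38 (Lpr_dt (f671145 IH) (Lpn v8408))
theorem f129974 : Led Lsl_et (LP (LK LD1_c2 LD2_c20 LD3_c2)) = (LP (LK LD1_c1 LD2_c7 LD3_c17)) :=
  Lre_e IH (LK LD1_c2 LD2_c20 LD3_c2) (LK LD1_c1 LD2_c7 LD3_c17) Lrfl Lrfl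
theorem f24304 : Led Lsl_dt (LP (LK LD1_c0 LD2_c43 LD3_c34)) = (LP (LK LD1_c0 LD2_c19 LD3_c26)) :=
  Lre_d IH (LK LD1_c0 LD2_c43 LD3_c34) (LK LD1_c0 LD2_c19 LD3_c26) Lrfl Lrfl
theorem f156452 : Led Lsl_gt (LP (LK LD1_c0 LD2_c19 LD3_c26)) = (LP (LK LD1_c0 LD2_c30 LD3_c51)) :=
  Lgr Lrot65 (Lpr_cf (K7.f24297 IH) (Lpr_bt (K7.f156444 IH) (Lpr_gf (K40.f147743 IH) (Lpr_bf (K0.f23590 IH) (Lpr_ct (K0.f23450 IH) (Lpr_gf (K2.f82384 IH) (Lpr_cf (K2.f26140 IH) (Lpr_gf (K4.f104158 IH) (Lpe (K4.f23558 IH) (Lpr_ct (K3.f79264 IH) (Lpn (LP (LK LD1_c0 LD2_c30 LD3_c51)))))))))))))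
theorem f671147 : Led Lsl_ef v4358 = v8408 :=
  Lgr Lrot17 (Lpe (f632906 IH) (Lpe (K5.f126574 IH) (Lpr_dt (K3.f78111 IH) (Lpe (f156452 IH) (Lpe (f24304 IH) (Lpr_gf (K7.f156479 IH) (Lpe (f129974 IH) (Lpr_dt (f129972 IH) (Lpr_gf (f507827 IH) (Lpr_df (f671146 IH) (Lpn v8408)))))))))))
theorem f708025 : v8408 = (LP (LK LD1_c1 LD2_c37 LD3_c7)) :=
  Lefun (Lecon (f671145 IH) (f708018 IH)) (K50.f416185 IH)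
theorem f708041 : v4358 = (LP (LK LD1_c1 LD2_c8 LD3_c25)) :=
  Lefun (Lecon (Lfl_ef (f671147 IH)) (f708025 IH)) (Lfl_ef (K24.f416180 IH))
theorem f708110 : v8662 = K32.v1370 :=
  Lefun (Lecon (f703085 IH) (f708041 IH)) (K32.f495177 IH)
theorem f708131 : v2139 = v7924 :=
  Lefun (Lecon (Lfl_gt (f671934 IH)) (f708110 IH)) (f668996 IH)
theorem f708147 : v2195 = v8663 :=
  Lefun (Lecon (Lfl_gt (f668997 IH)) (f708131 IH).symm) (f671935 IH)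
theorem f653171 : Led Lsl_dt K46.v1369 = v6390 :=
  Lgr Lrot60 (Lpe (f495168 IH) (Lpr_df (f509559 IH) (Lpr_ff (f653169 IH) (Lpn v6390))))
theorem f509557 : Led Lsl_af (LP (LK LD1_c1 LD2_c37 LD3_c7)) = v2195 :=
  Lgr Lrot117 (Lpr_dt (K32.f416178 IH) (Lpr_at (f450671 IH) (Lpr_dt (f509556 IH) (Lpn v2195))))
theorem f495182 : Led Lsl_ft (LP (LK LD1_c1 LD2_c37 LD3_c7)) = K32.v1370 :=
  Lgr Lrot48 (Lpr_ff (K32.f495180 IH) (Lpn K32.v1370))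
theorem f653170 : Led Lsl_at K32.v1370 = v6390 :=
  Lgr Lrot66 (Lpe (f495182 IH) (Lpr_af (f509557 IH) (Lpr_ff (f653169 IH) (Lpn v6390))))
theorem f653174 : Led Lsl_gt v2197 = v6390 :=
  Lgr Lrot46 (Lpe (f509572 IH) (Lpr_ft (f495182 IH) (Lpr_at (f653170 IH) (Lpn v6390))))
def v8769 : LQ := Led Lsl_dt v2197
theorem f672246 : Led Lsl_dt v2197 = v8769 :=
  Lrfl
theorem f672247 : Led Lsl_df v2197 = v8769 :=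
  Lgr Lrot38 (Lpr_dt (f672246 IH) (Lpn v8769))
theorem f708260 : Led Lsl_gt v4249 = v8769 :=
  Lgr Lrot137 (Lpr_ef (f701593 IH) (Lpe (f701592 IH) (Lpqs (f708259 IH) (Lpe (f652578 IH) (Lpe (K50.f509174 IH) (Lpr_et (f509194 IH) (Lpr_gf (f671935 IH) (Lpq (f708147 IH) (Lpe (f509564 IH) (Lpr_dt (f653171 IH) (Lpe (f653174 IH) (Lpr_df (f672247 IH) (Lpn v8769)))))))))))))
theorem f144020 : Led Lsl_ff (LP (LK LD1_c1 LD2_c8 LD3_c3)) = (LP (LK LD1_c0 LD2_c44 LD3_c37)) :=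
  Lgr Lrot25 (Lpr_bt (K6.f135755 IH) (Lpr_ft (K5.f134782 IH) (Lpr_bt (K6.f144012 IH) (Lpn (LP (LK LD1_c0 LD2_c44 LD3_c37))))))
theorem f62603 : Led Lsl_et (LP (LK LD1_c1 LD2_c36 LD3_c16)) = (LP (LK LD1_c0 LD2_c44 LD3_c37)) :=
  Lre_e IH (LK LD1_c1 LD2_c36 LD3_c16) (LK LD1_c0 LD2_c44 LD3_c37) Lrfl Lrfl
theorem f633459 : Led Lsl_ef K50.v2136 = K35.v4452 :=
  Lgr Lrot21 (Lpe (K50.f509170 IH) (Lpr_et (f62603 IH) (Lpe (f144020 IH) (Lpr_et (K6.f113292 IH) (Lpr_ft (K35.f633456 IH) (Lpn K35.v4452))))))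
theorem f704633 : Led Lsl_ff (LP (LK LD1_c4 LD2_c47 LD3_c46)) = K50.v13747 :=
  Lgr Lrot3 (Lpr_ft (K50.f704629 IH) (Lpn K50.v13747))
theorem f113295 : Led Lsl_dt (LP (LK LD1_c4 LD2_c47 LD3_c46)) = (LP (LK LD1_c2 LD2_c21 LD3_c45)) :=
  Lre_d IH (LK LD1_c4 LD2_c47 LD3_c46) (LK LD1_c2 LD2_c21 LD3_c45) Lrfl Lrfl
theorem f704638 : Led Lsl_dt K35.v4452 = K50.v13747 :=
  Lgr Lrot60 (Lpe (K35.f633456 IH) (Lpe (f113295 IH) (Lpr_ff (f704633 IH) (Lpn K50.v13747))))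
theorem f113165 : Led Lsl_ft (LP (LK LD1_c2 LD2_c21 LD3_c52)) = (LP (LK LD1_c4 LD2_c48 LD3_c0)) :=
  Lre_f IH (LK LD1_c2 LD2_c21 LD3_c52) (LK LD1_c4 LD2_c48 LD3_c0) Lrfl Lrfl
theorem f704636 : Led Lsl_at (LP (LK LD1_c4 LD2_c48 LD3_c0)) = K50.v13747 :=
  Lgr Lrot66 (Lpe (f113165 IH) (Lpe (K50.f113137 IH) (Lpr_ff (f704633 IH) (Lpn K50.v13747))))
theorem f78128 : Led Lsl_gt (LP (LK LD1_c2 LD2_c21 LD3_c52)) = (LP (LK LD1_c4 LD2_c47 LD3_c59)) :=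
  Lre_g IH (LK LD1_c2 LD2_c21 LD3_c52) (LK LD1_c4 LD2_c47 LD3_c59) Lrfl Lrfl
theorem f704640 : Led Lsl_gt (LP (LK LD1_c4 LD2_c47 LD3_c59)) = K50.v13747 :=
  Lgr Lrot46 (Lpe (f78128 IH) (Lpr_ft (f113165 IH) (Lpr_at (f704636 IH) (Lpn K50.v13747))))
def v13782 : LQ := Led Lsl_dt (LP (LK LD1_c4 LD2_c47 LD3_c59))
theorem f704816 : Led Lsl_dt (LP (LK LD1_c4 LD2_c47 LD3_c59)) = v13782 :=
  Lrfl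
theorem f704817 : Led Lsl_df (LP (LK LD1_c4 LD2_c47 LD3_c59)) = v13782 :=
  Lgr Lrot38 (Lpr_dt (f704816 IH) (Lpn v13782))
theorem f708261 : Led Lsl_ef v8769 = v13782 :=
  Lgr Lrot17 (Lpe (f708260 IH) (Lpr_ef (f701593 IH) (Lpe (f701592 IH) (Lpqs (f708259 IH) (Lpe (f652578 IH) (Lpe (K50.f509174 IH) (Lpr_gf (K50.f509173 IH) (Lpr_ef (f633459 IH) (Lpr_dt (f704638 IH) (Lpe (f704640 IH) (Lpr_df (f704817 IH) (Lpn v13782))))))))))))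
def v2135 : LQ := Led Lsl_gf (LP (LK LD1_c1 LD2_c36 LD3_c16))
def v8650 : LQ := Led Lsl_dt v2135
theorem f671901 : Led Lsl_dt v2135 = v8650 :=
  Lrfl
theorem f671902 : Led Lsl_df v2135 = v8650 :=
  Lgr Lrot38 (Lpr_dt (f671901 IH) (Lpn v8650))
theorem f509163 : Led Lsl_gf (LP (LK LD1_c1 LD2_c36 LD3_c16)) = v2135 :=
  Lrfl
theorem f671903 : Led Lsl_ef (LP (LK LD1_c4 LD2_c47 LD3_c59)) = v8650 :=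
  Lgr Lrot17 (Lpe (f78128 IH) (Lpe (K6.f113148 IH) (Lpr_dt (K6.f113130 IH) (Lpe (K11.f113135 IH) (Lpe (K46.f431177 IH) (Lpr_gf (K7.f155990 IH) (Lpe (K6.f62374 IH) (Lpr_dt (K6.f62581 IH) (Lpr_gf (f509163 IH) (Lpr_df (f671902 IH) (Lpn v8650)))))))))))
theorem f708264 : v8770 = v2135 :=
  (Llr Lrot71 (Lpe (f672248 IH) (Lpr_df (f672247 IH) (Lpr_ef (f708261 IH) (Lpe (f704816 IH) (Lpr_ef (f671903 IH) (Lpe (f671901 IH) (Lpn v2135)))))))).symm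
def v2134 : LQ := Led Lsl_gt (LP (LK LD1_c1 LD2_c36 LD3_c16))
def v8647 : LQ := Led Lsl_ft v2134
theorem f671891 : Led Lsl_ft v2134 = v8647 :=
  Lrfl
def v8642 : LQ := Led Lsl_at v2134
theorem f671877 : Led Lsl_at v2134 = v8642 :=
  Lrfl
theorem f671878 : Led Lsl_af v2134 = v8642 :=
  Lgr Lrot0 (Lpr_at (f671877 IH) (Lpn v8642))
theorem f509161 : Led Lsl_gt (LP (LK LD1_c1 LD2_c36 LD3_c16)) = v2134 :=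
  Lrfl
theorem f671879 : Led Lsl_ft v2135 = v8642 :=
  Lgr Lrot2 (Lpe (f509163 IH) (Lpr_gt (f509161 IH) (Lpr_af (f671878 IH) (Lpn v8642))))
theorem f671892 : Led Lsl_af v2135 = v8647 :=
  Lgr Lrot45 (Lpr_ft (f671879 IH) (Lpe (f671878 IH) (Lpr_ft (f671891 IH) (Lpn v8647))))
theorem f708266 : Led Lsl_ef v8647 = v8766 :=
  Lgr Lrot20 (Lpe (f671892 IH) (Lpq (f708264 IH) (Lpe (f672249 IH) (Lpr_at (f672238 IH) (Lpn v8766)))))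
theorem f708273 : Led Lsl_et v8647 = v8766 :=
  Lgr Lrot87 (Lpr_ef (f708266 IH) (Lpn v8766))
def v2140 : LQ := Led Lsl_ft (LP (LK LD1_c1 LD2_c36 LD3_c21))
theorem f509197 : Led Lsl_ft (LP (LK LD1_c1 LD2_c36 LD3_c21)) = v2140 :=
  Lrfl
theorem f509199 : Led Lsl_ff (LP (LK LD1_c1 LD2_c36 LD3_c21)) = v2140 :=
  Lgr Lrot3 (Lpr_ft (f509197 IH) (Lpn v2140))
def v8666 : LQ := Led Lsl_et v2140
theorem f671940 : Led Lsl_et v2140 = v8666 :=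
  Lrfl
theorem f671942 : Led Lsl_ef v2140 = v8666 :=
  Lgr Lrot88 (Lpr_et (f671940 IH) (Lpn v8666))
def v8646 : LQ := Led Lsl_et v2134
theorem f671887 : Led Lsl_et v2134 = v8646 :=
  Lrfl
theorem f671888 : Led Lsl_ef v2134 = v8646 :=
  Lgr Lrot88 (Lpr_et (f671887 IH) (Lpn v8646))
def v3188 : LQ := Led Lsl_et K50.v552
def v10117 : LQ := Led Lsl_ft v3188
theorem f678866 : Led Lsl_ft v3188 = v10117 :=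
  Lrfl
theorem f678867 : Led Lsl_ff v3188 = v10117 :=
  Lgr Lrot3 (Lpr_ft (f678866 IH) (Lpn v10117))
theorem f509198 : Led Lsl_af K50.v552 = v2140 :=
  Lgr Lrot45 (Lpr_ft (K50.f509189 IH) (Lpe (K50.f509188 IH) (Lpr_ft (f509197 IH) (Lpn v2140))))
theorem f624564 : Led Lsl_et K50.v552 = v3188 :=
  Lrfl
theorem f671943 : Led Lsl_at v3188 = v8666 :=
  Lgr Lrot80 (Lpe (f624564 IH) (Lpr_af (f509198 IH) (Lpr_ef (f671942 IH) (Lpn v8666))))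
theorem f671893 : Led Lsl_ff v2134 = v8647 :=
  Lgr Lrot3 (Lpr_ft (f671891 IH) (Lpn v8647))
def v8775 : LQ := Led Lsl_et v2198
theorem f672260 : Led Lsl_et v2198 = v8775 :=
  Lrfl
theorem f672261 : Led Lsl_ef v2198 = v8775 :=
  Lgr Lrot88 (Lpr_et (f672260 IH) (Lpn v8775))
theorem f708274 : Led Lsl_ft v8646 = v8775 :=
  Lgr Lrot86 (Lpe (f671887 IH) (Lpr_ff (f671893 IH) (Lpr_ef (f708266 IH) (Lpe (f672240 IH) (Lpr_ef (f672261 IH) (Lpn v8775))))))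
theorem f708276 : Led Lsl_ff v8646 = v8775 :=
  Lgr Lrot3 (Lpr_ft (f708274 IH) (Lpn v8775))
theorem f62338 : Led Lsl_at (LP (LK LD1_c0 LD2_c19 LD3_c51)) = (LP (LK LD1_c0 LD2_c44 LD3_c37)) :=
  Lre_a IH (LK LD1_c0 LD2_c19 LD3_c51) (LK LD1_c0 LD2_c44 LD3_c37) Lrfl Lrfl
theorem f62340 : Led Lsl_dt (LP (LK LD1_c0 LD2_c44 LD3_c37)) = (LP (LK LD1_c0 LD2_c40 LD3_c4)) :=
  Lgr Lrot44 (Lpe (f62338 IH) (Lpr_df (K3.f62336 IH) (Lpe (K11.f62339 IH) (Lpn (LP (LK LD1_c0 LD2_c40 LD3_c4))))))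
theorem f144028 : Led Lsl_gt (LP (LK LD1_c0 LD2_c45 LD3_c13)) = (LP (LK LD1_c0 LD2_c40 LD3_c4)) :=
  Lgr Lrot94 (Lpe (K5.f126554 IH) (Lpr_gt (K4.f113325 IH) (Lpr_dt (K5.f90487 IH) (Lpe (K5.f120189 IH) (Lpr_dt (K4.f120180 IH) (Lpr_cf (K3.f79266 IH) (Lpe (K3.f78111 IH) (Lpr_gf (K6.f144022 IH) (Lpr_df (K6.f62579 IH) (Lpn (LP (LK LD1_c0 LD2_c40 LD3_c4))))))))))))
def v131 : LQ := Led Lsl_et (LP (LK LD1_c0 LD2_c19 LD3_c27))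
theorem f450633 : Led Lsl_et (LP (LK LD1_c0 LD2_c19 LD3_c27)) = v131 :=
  Lrfl
theorem f450635 : Led Lsl_ef (LP (LK LD1_c0 LD2_c19 LD3_c27)) = v131 :=
  Lgr Lrot88 (Lpr_et (f450633 IH) (Lpn v131))
def v969 : LQ := Led Lsl_dt v131
theorem f490778 : Led Lsl_dt v131 = v969 :=
  Lrfl
def v3619 : LQ := Led Lsl_gf v969
theorem f626449 : Led Lsl_gf v969 = v3619 :=
  Lrfl
theorem f671889 : Led Lsl_df v3619 = v8646 :=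
  Lgr Lrot170 (Lpe (f626449 IH) (Lpe (f490778 IH) (Lpe (f450635 IH) (Lpr_gt (K2.f24032 IH) (Lpr_dt (K5.f112960 IH) (Lpr_gt (f144028 IH) (Lpe (f62340 IH) (Lpr_et (K6.f62576 IH) (Lpr_gt (f509161 IH) (Lpr_ef (f671888 IH) (Lpn v8646)))))))))))
def v3618 : LQ := Led Lsl_gt v969
def v11136 : LQ := Led Lsl_at v3618
theorem f683229 : Led Lsl_at v3618 = v11136 :=
  Lrfl
theorem f683230 : Led Lsl_af v3618 = v11136 :=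
  Lgr Lrot0 (Lpr_at (f683229 IH) (Lpn v11136))
theorem f626448 : Led Lsl_gt v969 = v3618 :=
  Lrfl
theorem f683231 : Led Lsl_ft v3619 = v11136 :=
  Lgr Lrot2 (Lpe (f626449 IH) (Lpr_gt (f626448 IH) (Lpr_af (f683230 IH) (Lpn v11136))))
theorem f708277 : Led Lsl_dt v11136 = v8775 :=
  Lgr Lrot60 (Lpe (f683231 IH) (Lpr_df (f671889 IH) (Lpr_ff (f708276 IH) (Lpn v8775))))
def v8774 : LQ := Led Lsl_dt v2198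
theorem f672258 : Led Lsl_dt v2198 = v8774 :=
  Lrfl
def v968 : LQ := Led Lsl_gf v131
def v3617 : LQ := Led Lsl_et v968
def v11134 : LQ := Led Lsl_dt v3617
theorem f683224 : Led Lsl_dt v3617 = v11134 :=
  Lrfl
theorem f683225 : Led Lsl_df v3617 = v11134 :=
  Lgr Lrot38 (Lpr_dt (f683224 IH) (Lpn v11134))
theorem f626446 : Led Lsl_et v968 = v3617 :=
  Lrfl
theorem f626447 : Led Lsl_ef v968 = v3617 :=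
  Lgr Lrot88 (Lpr_et (f626446 IH) (Lpn v3617))
theorem f490777 : Led Lsl_gf v131 = v968 :=
  Lrfl
def v2026 : LQ := Led Lsl_gt (LP (LK LD1_c1 LD2_c33 LD3_c51))
theorem f507825 : Led Lsl_gt (LP (LK LD1_c1 LD2_c33 LD3_c51)) = v2026 :=
  Lrfl
def v8403 : LQ := Led Lsl_dt v2026
theorem f671131 : Led Lsl_dt v2026 = v8403 :=
  Lrfl
theorem f683226 : Led Lsl_gt v8403 = v11134 :=
  Lgr Lrot139 (Lpe (f671131 IH) (Lpe (f507825 IH) (Lpe (K4.f26167 IH) (Lpr_dt (K4.f26165 IH) (Lpe (K3.f24308 IH) (Lpe (K5.f24307 IH) (Lpr_et (f450633 IH) (Lpr_gf (f490777 IH) (Lpr_ef (f626447 IH) (Lpr_dt (f683224 IH) (Lpn v11134)))))))))))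
theorem f653173 : Led Lsl_gf v2198 = v6390 :=
  Lgr Lrot47 (Lpe (f509573 IH) (Lpr_af (f509557 IH) (Lpr_ff (f653169 IH) (Lpn v6390))))
theorem f708027 : K46.v1369 = v2026 :=
  Lefun (Lecon (K46.f495166 IH) (f708019 IH).symm) (f507825 IH)
theorem f708045 : v8403 = v6390 :=
  Lefun (Lecon (f671131 IH) (f708027 IH).symm) (f653171 IH)
theorem f708111 : v11134 = v2198 :=
  Lefun (Lecon (f683226 IH) (f708045 IH)) (Lfl_gf (f653173 IH))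
theorem f708132 : v3617 = v8774 :=
  Lefun (Lecon (Lfl_df (f683225 IH)) (f708111 IH)) (f672258 IH)
def v3616 : LQ := Led Lsl_dt v968
theorem f626444 : Led Lsl_dt v968 = v3616 :=
  Lrfl
def v512 : LQ := Led Lsl_et (LP (LK LD1_c0 LD2_c43 LD3_c34))
def v3107 : LQ := Led Lsl_dt v512
def v9891 : LQ := Led Lsl_gt v3107
theorem f677964 : Led Lsl_gt v3107 = v9891 :=
  Lrfl
theorem f623891 : Led Lsl_dt v512 = v3107 :=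
  Lrfl
theorem f453715 : Led Lsl_et (LP (LK LD1_c0 LD2_c43 LD3_c34)) = v512 :=
  Lrfl
def v513 : LQ := Led Lsl_dt (LP (LK LD1_c0 LD2_c43 LD3_c35))
theorem f453719 : Led Lsl_dt (LP (LK LD1_c0 LD2_c43 LD3_c35)) = v513 :=
  Lrfl
theorem f453721 : Led Lsl_df (LP (LK LD1_c0 LD2_c43 LD3_c35)) = v513 :=
  Lgr Lrot38 (Lpr_dt (f453719 IH) (Lpn v513))
theorem f623894 : Led Lsl_ef v513 = v3107 :=
  Lgr Lrot73 (Lpe (f453721 IH) (Lpr_et (K7.f24296 IH) (Lpr_dt (K7.f24301 IH) (Lpr_et (f453715 IH) (Lpr_dt (f623891 IH) (Lpn v3107))))))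
theorem f623896 : Led Lsl_et v513 = v3107 :=
  Lgr Lrot87 (Lpr_ef (f623894 IH) (Lpn v3107))
def v517 : LQ := Led Lsl_dt (LP (LK LD1_c0 LD2_c43 LD3_c39))
theorem f453742 : Led Lsl_dt (LP (LK LD1_c0 LD2_c43 LD3_c39)) = v517 :=
  Lrfl
theorem f453743 : Led Lsl_df (LP (LK LD1_c0 LD2_c43 LD3_c39)) = v517 :=
  Lgr Lrot38 (Lpr_dt (f453742 IH) (Lpn v517))
theorem f431675 : Led Lsl_gt (LP (LK LD1_c1 LD2_c34 LD3_c6)) = (LP (LK LD1_c3 LD2_c9 LD3_c31)) :=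
  Lgr Lrot65 (Lpr_cf (K33.f431669 IH) (Lpe (K33.f431644 IH) (Lpe (K5.f66776 IH) (Lpr_bf (K3.f66768 IH) (Lpr_ct (K3.f12094 IH) (Lpe (K7.f143282 IH) (Lpr_cf (K7.f143279 IH) (Lpe (K6.f21134 IH) (Lpr_bf (K11.f430410 IH) (Lpr_ct (K11.f430425 IH) (Lpn (LP (LK LD1_c3 LD2_c9 LD3_c31)))))))))))))
theorem f24374 : Led Lsl_et (LP (LK LD1_c0 LD2_c43 LD3_c33)) = (LP (LK LD1_c0 LD2_c19 LD3_c25)) :=
  Lre_e IH (LK LD1_c0 LD2_c43 LD3_c33) (LK LD1_c0 LD2_c19 LD3_c25) Lrfl Lrfl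
def v132 : LQ := Led Lsl_dt (LP (LK LD1_c0 LD2_c19 LD3_c28))
theorem f450637 : Led Lsl_dt (LP (LK LD1_c0 LD2_c19 LD3_c28)) = v132 :=
  Lrfl
theorem f453745 : Led Lsl_gt v132 = v517 :=
  Lgr Lrot112 (Lpe (f450637 IH) (Lpr_et (K7.f24287 IH) (Lpe (K3.f24141 IH) (Lpe (f24374 IH) (Lpr_dt (K5.f24370 IH) (Lpe (K6.f24358 IH) (Lpr_df (K11.f430423 IH) (Lpe (f431675 IH) (Lpe (K33.f431662 IH) (Lpr_dt (f453742 IH) (Lpn v517)))))))))))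
theorem f450639 : Led Lsl_df (LP (LK LD1_c0 LD2_c19 LD3_c28)) = v132 :=
  Lgr Lrot38 (Lpr_dt (f450637 IH) (Lpn v132))
theorem f490781 : Led Lsl_ef v132 = v969 :=
  Lgr Lrot73 (Lpe (f450639 IH) (Lpr_et (K7.f24287 IH) (Lpr_dt (K3.f24140 IH) (Lpr_et (f450633 IH) (Lpr_dt (f490778 IH) (Lpn v969))))))
theorem f490780 : Led Lsl_df v131 = v969 :=
  Lgr Lrot38 (Lpr_dt (f490778 IH) (Lpn v969))
theorem f626445 : Led Lsl_df v968 = v3616 :=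
  Lgr Lrot38 (Lpr_dt (f626444 IH) (Lpn v3616))
theorem f677965 : Led Lsl_et v3616 = v9891 :=
  Lgr Lrot122 (Lpe (f626445 IH) (Lpe (f490777 IH) (Lpr_df (f490780 IH) (Lpe (f490781 IH) (Lpr_gt (f453745 IH) (Lpe (f453743 IH) (Lpe (K11.f156496 IH) (Lpr_df (f453721 IH) (Lpr_et (f623896 IH) (Lpr_gt (f677964 IH) (Lpn v9891)))))))))))
theorem f708279 : v11136 = v9891 :=
  (Llr Lrot70 (Lpr_dt (f708277 IH) (Lpe (f672261 IH) (Lpr_dt (f672258 IH) (Lpq (f708132 IH) (Lpe (f626447 IH) (Lpr_dt (f626444 IH) (Lpr_et (f677965 IH) (Lpn v9891))))))))).symm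
theorem f683232 : Led Lsl_ff v3619 = v11136 :=
  Lgr Lrot3 (Lpr_ft (f683231 IH) (Lpn v11136))
def v11140 : LQ := Led Lsl_ft v3618
theorem f683239 : Led Lsl_ft v3618 = v11140 :=
  Lrfl
theorem f683241 : Led Lsl_ff v3618 = v11140 :=
  Lgr Lrot3 (Lpr_ft (f683239 IH) (Lpn v11140))
theorem f683242 : Led Lsl_at v3619 = v11140 :=
  Lgr Lrot66 (Lpr_ff (f683232 IH) (Lpe (f683229 IH) (Lpr_ff (f683241 IH) (Lpn v11140))))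
def v9894 : LQ := Led Lsl_ft v3107
theorem f677977 : Led Lsl_ft v3107 = v9894 :=
  Lrfl
theorem f453720 : Led Lsl_af v132 = v513 :=
  Lgr Lrot117 (Lpe (f450639 IH) (Lpr_at (K7.f24283 IH) (Lpr_dt (f453719 IH) (Lpn v513))))
theorem f490783 : Led Lsl_et v132 = v969 :=
  Lgr Lrot87 (Lpr_ef (f490781 IH) (Lpn v969))
theorem f623895 : Led Lsl_at v969 = v3107 :=
  Lgr Lrot80 (Lpe (f490783 IH) (Lpr_af (f453720 IH) (Lpr_ef (f623894 IH) (Lpn v3107))))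
def v524 : LQ := Led Lsl_bt (LP (LK LD1_c0 LD2_c43 LD3_c43))
def v3129 : LQ := Led Lsl_dt v524
theorem f623963 : Led Lsl_dt v524 = v3129 :=
  Lrfl
theorem f453768 : Led Lsl_bt (LP (LK LD1_c0 LD2_c43 LD3_c43)) = v524 :=
  Lrfl
theorem f450634 : Led Lsl_bf (LP (LK LD1_c0 LD2_c19 LD3_c30)) = v131 :=
  Lgr Lrot96 (Lpr_et (K24.f23186 IH) (Lpr_bt (K2.f24028 IH) (Lpr_et (f450633 IH) (Lpn v131))))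
theorem f453770 : Led Lsl_ff v131 = v524 :=
  Lgr Lrot25 (Lpe (f450634 IH) (Lpr_ft (K24.f24037 IH) (Lpr_bt (f453768 IH) (Lpn v524))))
theorem f453771 : Led Lsl_ft v131 = v524 :=
  Lgr Lrot48 (Lpr_ff (f453770 IH) (Lpn v524))
theorem f623967 : Led Lsl_ff v969 = v3129 :=
  Lgr Lrot19 (Lpe (f490780 IH) (Lpr_ft (f453771 IH) (Lpr_dt (f623963 IH) (Lpn v3129))))
theorem f677978 : Led Lsl_af v3129 = v9894 :=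
  Lgr Lrot45 (Lpe (f623967 IH) (Lpr_at (f623895 IH) (Lpr_ft (f677977 IH) (Lpn v9894))))
theorem f677982 : Led Lsl_gt v9891 = v3129 :=
  Lgr Lrot46 (Lpe (f677964 IH) (Lpr_ft (f677977 IH) (Lpe (f677978 IH) (Lpn v3129))))
def v9892 : LQ := Led Lsl_gf v3107
theorem f677967 : Led Lsl_gf v3107 = v9892 :=
  Lrfl
theorem f677968 : Led Lsl_gt v3129 = v9892 :=
  Lgr Lrot5 (Lpe (f623967 IH) (Lpr_at (f623895 IH) (Lpr_gf (f677967 IH) (Lpn v9892))))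
theorem f708280 : v11140 = v9892 :=
  (Llr Lrot26 (Lpe (f683242 IH) (Lpr_ff (f683232 IH) (Lpqs (f708279 IH) (Lpr_gt (f677982 IH) (Lpr_gt (f677968 IH) (Lpn v9892))))))).symm
def v11139 : LQ := Led Lsl_dt v3618
theorem f683237 : Led Lsl_dt v3618 = v11139 :=
  Lrfl
theorem f683238 : Led Lsl_df v3618 = v11139 :=
  Lgr Lrot38 (Lpr_dt (f683237 IH) (Lpn v11139))
theorem f453717 : Led Lsl_ef (LP (LK LD1_c0 LD2_c43 LD3_c34)) = v512 :=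
  Lgr Lrot88 (Lpr_et (f453715 IH) (Lpn v512))
theorem f624565 : Led Lsl_ef K50.v552 = v3188 :=
  Lgr Lrot88 (Lpr_et (f624564 IH) (Lpn v3188))
theorem f677969 : Led Lsl_dt v3188 = v9892 :=
  Lgr Lrot136 (Lpe (f624565 IH) (Lpe (K50.f453956 IH) (Lpe (K5.f62342 IH) (Lpr_dt (K2.f57532 IH) (Lpe (K2.f57576 IH) (Lpe (K5.f127119 IH) (Lpe (K11.f156456 IH) (Lpr_ef (f453717 IH) (Lpr_dt (f623891 IH) (Lpr_gf (f677967 IH) (Lpn v9892)))))))))))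
theorem f677970 : Led Lsl_df v3188 = v9892 :=
  Lgr Lrot38 (Lpr_dt (f677969 IH) (Lpn v9892))
theorem f708281 : v11139 = v10117 :=
  (Llr Lrot78 (Lpe (f683238 IH) (Lpr_ft (f683239 IH) (Lpqs (f708280 IH) (Lpe (f677970 IH) (Lpr_ft (f678866 IH) (Lpn v10117))))))).symm
theorem f708278 : Led Lsl_af v11139 = v8775 :=
  Lgr Lrot117 (Lpe (f683238 IH) (Lpr_at (f683229 IH) (Lpr_dt (f708277 IH) (Lpn v8775))))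
theorem f708282 : v8666 = v8646 :=
  (Llr Lrot66 (Lpe (f671943 IH) (Lpr_ff (f678867 IH) (Lpq (f708281 IH) (Lpr_af (f708278 IH) (Lpe (f708274 IH) (Lpn v8646))))))).symm
theorem f708283 : v2140 = v2134 :=
  Lefun (Lecon (Lfl_ef (f671942 IH)) (f708282 IH)) (Lfl_ef (f671888 IH))
theorem f708290 : (LP (LK LD1_c1 LD2_c36 LD3_c21)) = v8647 :=
  Lefun (Lecon (Lfl_ff (f509199 IH)) (f708283 IH)) (f671891 IH)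
theorem f708292 : v8766 = v2139 :=
  Lefun (Lecon (f708273 IH) (f708290 IH).symm) (f509194 IH)
def v7923 : LQ := Led Lsl_gt K32.v1370
theorem f668994 : Led Lsl_gt K32.v1370 = v7923 :=
  Lrfl
def v8771 : LQ := Led Lsl_ft v2197
theorem f672250 : Led Lsl_ft v2197 = v8771 :=
  Lrfl
theorem f672252 : Led Lsl_ff v2197 = v8771 :=
  Lgr Lrot3 (Lpr_ft (f672250 IH) (Lpn v8771))
theorem f672253 : Led Lsl_at v2198 = v8771 :=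
  Lgr Lrot66 (Lpr_ff (f672241 IH) (Lpe (f672238 IH) (Lpr_ff (f672252 IH) (Lpn v8771))))
theorem f708301 : v7923 = v8771 :=
  (Llr Lrot46 (Lpe (f668994 IH) (Lpq (f708110 IH) (Lpe (f671934 IH) (Lpq (f708292 IH) (Lpe (f672241 IH) (Lpr_at (f672253 IH) (Lpn v8771)))))))).symm
theorem f671880 : Led Lsl_ff v2135 = v8642 :=
  Lgr Lrot3 (Lpr_ft (f671879 IH) (Lpn v8642))
theorem f708286 : K50.v552 = v8642 :=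
  Lefun (Lecon (Lfl_af (f509198 IH)) (f708283 IH)) (f671877 IH)
theorem f708302 : Led Lsl_ef v10117 = v7923 :=
  Lgr Lrot21 (Lpe (f678867 IH) (Lpe (f624565 IH) (Lpqs (f708286 IH) (Lpe (f671880 IH) (Lpq (f708264 IH) (Lpe (f672249 IH) (Lpr_ft (f672250 IH) (Lpq (f708301 IH) (Lpn v7923)))))))))
theorem f708305 : Led Lsl_et v10117 = v7923 :=
  Lgr Lrot87 (Lpr_ef (f708302 IH) (Lpn v7923))
def v3108 : LQ := Led Lsl_ft v512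
theorem f623897 : Led Lsl_ft v512 = v3108 :=
  Lrfl
theorem f623900 : Led Lsl_ff v512 = v3108 :=
  Lgr Lrot3 (Lpr_ft (f623897 IH) (Lpn v3108))
theorem f453716 : Led Lsl_af v131 = v512 :=
  Lgr Lrot50 (Lpe (f450635 IH) (Lpr_at (K48.f152080 IH) (Lpr_et (f453715 IH) (Lpn v512))))
theorem f623904 : Led Lsl_gf v968 = v3108 :=
  Lgr Lrot47 (Lpe (f490777 IH) (Lpr_af (f453716 IH) (Lpr_ff (f623900 IH) (Lpn v3108))))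
theorem f677980 : Led Lsl_df v3108 = v9894 :=
  Lgr Lrot78 (Lpe (f623900 IH) (Lpr_dt (f623891 IH) (Lpr_ft (f677977 IH) (Lpn v9894))))
def v1328 : LQ := Led Lsl_ft (LP (LK LD1_c1 LD2_c7 LD3_c20))
theorem f494871 : Led Lsl_ft (LP (LK LD1_c1 LD2_c7 LD3_c20)) = v1328 :=
  Lrfl
theorem f152099 : Led Lsl_ff (LP (LK LD1_c0 LD2_c30 LD3_c53)) = (LP (LK LD1_c0 LD2_c19 LD3_c27)) :=
  Lgr Lrot25 (Lpr_bt (K4.f25190 IH) (Lpr_ft (K7.f152095 IH) (Lpr_bt (K2.f24028 IH) (Lpn (LP (LK LD1_c0 LD2_c19 LD3_c27))))))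
theorem f494873 : Led Lsl_ef v524 = v1328 :=
  Lgr Lrot21 (Lpe (f453770 IH) (Lpe (f450635 IH) (Lpe (f152099 IH) (Lpr_et (K24.f144035 IH) (Lpr_ft (f494871 IH) (Lpn v1328))))))
theorem f494874 : Led Lsl_ff (LP (LK LD1_c1 LD2_c7 LD3_c20)) = v1328 :=
  Lgr Lrot3 (Lpr_ft (f494871 IH) (Lpn v1328))
theorem f494876 : Led Lsl_dt v1328 = v1328 :=
  Lgr Lrot60 (Lpe (f494871 IH) (Lpr_df (K24.f144049 IH) (Lpr_ff (f494874 IH) (Lpn v1328))))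
theorem f152089 : Led Lsl_ft (LP (LK LD1_c0 LD2_c30 LD3_c53)) = (LP (LK LD1_c0 LD2_c19 LD3_c27)) :=
  Lgr Lrot75 (Lpe (K4.f25206 IH) (Lpr_ff (K7.f152087 IH) (Lpe (K3.f23172 IH) (Lpn (LP (LK LD1_c0 LD2_c19 LD3_c27))))))
theorem f494877 : Led Lsl_et v524 = v1328 :=
  Lgr Lrot69 (Lpe (f453771 IH) (Lpe (f450633 IH) (Lpe (f152089 IH) (Lpe (K24.f129979 IH) (Lpr_ff (f494874 IH) (Lpn v1328))))))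
theorem f623965 : Led Lsl_df v524 = v3129 :=
  Lgr Lrot38 (Lpr_dt (f623963 IH) (Lpn v3129))
theorem f623966 : Led Lsl_ef v3129 = v3129 :=
  Lgr Lrot73 (Lpe (f623965 IH) (Lpr_et (f494877 IH) (Lpr_dt (f494876 IH) (Lpe (f494873 IH) (Lpr_dt (f623963 IH) (Lpn v3129))))))
def v3106 : LQ := Led Lsl_gf v512
theorem f623889 : Led Lsl_gf v512 = v3106 :=
  Lrfl
theorem f453718 : Led Lsl_at v131 = v512 :=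
  Lgr Lrot80 (Lpe (f450633 IH) (Lpe (K48.f65915 IH) (Lpr_ef (f453717 IH) (Lpn v512))))
theorem f623890 : Led Lsl_gt v524 = v3106 :=
  Lgr Lrot5 (Lpe (f453770 IH) (Lpr_at (f453718 IH) (Lpr_gf (f623889 IH) (Lpn v3106))))
def v9889 : LQ := Led Lsl_dt v3106
theorem f677958 : Led Lsl_dt v3106 = v9889 :=
  Lrfl
theorem f677959 : Led Lsl_df v3106 = v9889 :=
  Lgr Lrot38 (Lpr_dt (f677958 IH) (Lpn v9889))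
theorem f623893 : Led Lsl_df v512 = v3107 :=
  Lgr Lrot38 (Lpr_dt (f623891 IH) (Lpn v3107))
def v518 : LQ := Led Lsl_dt (LP (LK LD1_c0 LD2_c43 LD3_c40))
theorem f453747 : Led Lsl_dt (LP (LK LD1_c0 LD2_c43 LD3_c40)) = v518 :=
  Lrfl
theorem f126849 : Led Lsl_et (LP (LK LD1_c0 LD2_c43 LD3_c40)) = (LP (LK LD1_c1 LD2_c34 LD3_c9)) :=
  Lre_e IH (LK LD1_c0 LD2_c43 LD3_c40) (LK LD1_c1 LD2_c34 LD3_c9) Lrfl Lrfl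
theorem f453751 : Led Lsl_gt v513 = v518 :=
  Lgr Lrot112 (Lpe (f453719 IH) (Lpr_et (K7.f24296 IH) (Lpr_gf (K7.f156454 IH) (Lpe (K3.f23554 IH) (Lpr_dt (K3.f107441 IH) (Lpr_gf (K6.f134061 IH) (Lpr_df (K11.f430387 IH) (Lpe (K11.f430385 IH) (Lpe (f126849 IH) (Lpr_dt (f453747 IH) (Lpn v518)))))))))))
theorem f453749 : Led Lsl_df (LP (LK LD1_c0 LD2_c43 LD3_c40)) = v518 :=
  Lgr Lrot38 (Lpr_dt (f453747 IH) (Lpn v518))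
theorem f677960 : Led Lsl_ef v3618 = v9889 :=
  Lgr Lrot17 (Lpe (f626448 IH) (Lpe (f490783 IH) (Lpe (f450639 IH) (Lpe (K6.f24290 IH) (Lpr_df (f453749 IH) (Lpe (f453751 IH) (Lpr_ef (f623894 IH) (Lpe (f623893 IH) (Lpr_gf (f623889 IH) (Lpr_df (f677959 IH) (Lpn v9889)))))))))))
theorem f677983 : Led Lsl_gf v9894 = v3618 :=
  Lgr Lrot138 (Lpe (f677980 IH) (Lpe (f623904 IH) (Lpr_df (f626445 IH) (Lpr_et (f677965 IH) (Lpr_gt (f677982 IH) (Lpr_ef (f623966 IH) (Lpe (f623965 IH) (Lpr_gt (f623890 IH) (Lpr_df (f677959 IH) (Lpe (f677960 IH) (Lpn v3618)))))))))))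
theorem f677985 : Led Lsl_ef v9894 = v9894 :=
  Lgr Lrot17 (Lpr_gf (f677983 IH) (Lpr_ef (f677960 IH) (Lpe (f677959 IH) (Lpe (f623890 IH) (Lpr_df (f623965 IH) (Lpe (f677982 IH) (Lpe (f677965 IH) (Lpe (f626445 IH) (Lpr_gf (f623904 IH) (Lpr_df (f677980 IH) (Lpn v9894)))))))))))
def v4363 : LQ := Led Lsl_ft (LP (LK LD1_c2 LD2_c20 LD3_c0))
theorem f632928 : Led Lsl_ft (LP (LK LD1_c2 LD2_c20 LD3_c0)) = v4363 :=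
  Lrfl
theorem f632932 : Led Lsl_ff (LP (LK LD1_c2 LD2_c20 LD3_c0)) = v4363 :=
  Lgr Lrot3 (Lpr_ft (f632928 IH) (Lpn v4363))
theorem f144106 : Led Lsl_et (LP (LK LD1_c2 LD2_c20 LD3_c0)) = (LP (LK LD1_c1 LD2_c7 LD3_c16)) :=
  Lre_e IH (LK LD1_c2 LD2_c20 LD3_c0) (LK LD1_c1 LD2_c7 LD3_c16) Lrfl Lrfl
theorem f632937 : Led Lsl_et v3108 = v4363 :=
  Lgr Lrot69 (Lpe (f623897 IH) (Lpe (f453715 IH) (Lpr_ff (K48.f156581 IH) (Lpe (f144106 IH) (Lpr_ff (f632932 IH) (Lpn v4363))))))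
theorem f144052 : Led Lsl_at (LP (LK LD1_c2 LD2_c20 LD3_c0)) = (LP (LK LD1_c1 LD2_c7 LD3_c20)) :=
  Lre_a IH (LK LD1_c2 LD2_c20 LD3_c0) (LK LD1_c1 LD2_c7 LD3_c20) Lrfl Lrfl
theorem f144053 : Led Lsl_dt (LP (LK LD1_c2 LD2_c20 LD3_c0)) = (LP (LK LD1_c2 LD2_c20 LD3_c0)) :=
  Lgr Lrot44 (Lpe (K46.f144051 IH) (Lpr_df (K24.f144049 IH) (Lpe (f144052 IH) (Lpn (LP (LK LD1_c2 LD2_c20 LD3_c0))))))
theorem f632936 : Led Lsl_dt v4363 = v4363 :=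
  Lgr Lrot60 (Lpe (f632928 IH) (Lpe (f144053 IH) (Lpr_ff (f632932 IH) (Lpn v4363))))
theorem f148392 : Led Lsl_ff (LP (LK LD1_c0 LD2_c50 LD3_c59)) = (LP (LK LD1_c0 LD2_c43 LD3_c21)) :=
  Lgr Lrot52 (Lpr_at (K48.f148391 IH) (Lpe (K7.f64388 IH) (Lpr_gf (K7.f148368 IH) (Lpn (LP (LK LD1_c0 LD2_c43 LD3_c21))))))
theorem f156448 : Led Lsl_bf (LP (LK LD1_c0 LD2_c43 LD3_c34)) = (LP (LK LD1_c0 LD2_c50 LD3_c59)) :=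
  Lgr Lrot93 (Lpr_dt (f24304 IH) (Lpr_bt (K7.f156444 IH) (Lpr_dt (K7.f148437 IH) (Lpn (LP (LK LD1_c0 LD2_c50 LD3_c59))))))
theorem f156545 : Led Lsl_ft (LP (LK LD1_c0 LD2_c43 LD3_c34)) = (LP (LK LD1_c1 LD2_c7 LD3_c16)) :=
  Lgr Lrot75 (Lpr_bf (f156448 IH) (Lpr_ff (f148392 IH) (Lpr_bf (K7.f156520 IH) (Lpn (LP (LK LD1_c1 LD2_c7 LD3_c16))))))
theorem f632931 : Led Lsl_ef v3108 = v4363 :=
  Lgr Lrot21 (Lpe (f623900 IH) (Lpe (f453717 IH) (Lpr_ft (f156545 IH) (Lpr_et (f144103 IH) (Lpr_ft (f632928 IH) (Lpn v4363))))))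
theorem f677987 : Led Lsl_dt v3108 = v9894 :=
  Lgr Lrot77 (Lpr_ef (f632931 IH) (Lpe (f632936 IH) (Lpe (f632937 IH) (Lpr_df (f677980 IH) (Lpr_ef (f677985 IH) (Lpn v9894))))))
theorem f25260 : Led Lsl_gt (LP (LK LD1_c2 LD2_c20 LD3_c10)) = (LP (LK LD1_c1 LD2_c7 LD3_c20)) :=
  Lre_g IH (LK LD1_c2 LD2_c20 LD3_c10) (LK LD1_c1 LD2_c7 LD3_c20) Lrfl Lrfl
theorem f632938 : Led Lsl_gf (LP (LK LD1_c2 LD2_c20 LD3_c10)) = v4363 :=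
  Lgr Lrot47 (Lpr_gt (f25260 IH) (Lpe (f144052 IH) (Lpr_ff (f632932 IH) (Lpn v4363))))
theorem f414570 : Led Lsl_gt (LP (LK LD1_c3 LD2_c21 LD3_c47)) = (LP (LK LD1_c1 LD2_c37 LD3_c8)) :=
  Lre_g IH (LK LD1_c3 LD2_c21 LD3_c47) (LK LD1_c1 LD2_c37 LD3_c8) Lrfl Lrfl
theorem f708307 : v4374 = (LP (LK LD1_c3 LD2_c21 LD3_c47)) :=
  (Llr Lrot171 (Lpe (f632995 IH) (Lpr_gf (f632938 IH) (Lpe (f632937 IH) (Lpr_dt (f677987 IH) (Lpr_gf (f677983 IH) (Lpr_df (f683238 IH) (Lpqs (f708281 IH) (Lpr_et (f708305 IH) (Lpe (f668994 IH) (Lpr_ef (K32.f509581 IH) (Lpe (K32.f509580 IH) (Lpe (f414570 IH) (Lpn (LP (LK LD1_c3 LD2_c21 LD3_c47)))))))))))))))).symm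
theorem f708309 : Led Lsl_dt (LP (LK LD1_c2 LD2_c20 LD3_c10)) = (LP (LK LD1_c3 LD2_c21 LD3_c47)) :=
  Leop (Lpq (f708307 IH) (Lpe (f632995 IH) (Lpn (LP (LK LD1_c2 LD2_c20 LD3_c10)))))
theorem seed_725 : LEOK LG_d (LK LD1_c2 LD2_c20 LD3_c10) :=
  Leoe_d (LK LD1_c2 LD2_c20 LD3_c10) (f708309 IH)
theorem f632996 : Led Lsl_df (LP (LK LD1_c2 LD2_c20 LD3_c10)) = v4374 :=
  Lgr Lrot38 (Lpr_dt (f632995 IH) (Lpn v4374))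
theorem f632998 : Led Lsl_ef (LP (LK LD1_c4 LD2_c47 LD3_c45)) = v4374 :=
  Lgr Lrot17 (Lpe (K35.f113296 IH) (Lpe (K6.f113292 IH) (Lpe (K6.f113126 IH) (Lpr_gf (K6.f142991 IH) (Lpr_df (K5.f127071 IH) (Lpe (K4.f25207 IH) (Lpe (K24.f129979 IH) (Lpe (K24.f144049 IH) (Lpe (f25260 IH) (Lpr_df (f632996 IH) (Lpn v4374)))))))))))
theorem f632999 : Led Lsl_et (LP (LK LD1_c4 LD2_c47 LD3_c45)) = v4374 :=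
  Lgr Lrot87 (Lpr_ef (f632998 IH) (Lpn v4374))
theorem f653377 : Led Lsl_ff (LP (LK LD1_c3 LD2_c21 LD3_c41)) = v6429 :=
  Lgr Lrot3 (Lpr_ft (f653376 IH) (Lpn v6429))
theorem f454651 : Led Lsl_at (LP (LK LD1_c3 LD2_c21 LD3_c41)) = (LP (LK LD1_c1 LD2_c37 LD3_c8)) :=
  Lre_a IH (LK LD1_c3 LD2_c21 LD3_c41) (LK LD1_c1 LD2_c37 LD3_c8) Lrfl Lrfl
theorem f653379 : Led Lsl_gf (LP (LK LD1_c3 LD2_c21 LD3_c47)) = v6429 :=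
  Lgr Lrot47 (Lpr_gt (f414570 IH) (Lpe (f454651 IH) (Lpr_ff (f653377 IH) (Lpn v6429))))
theorem f653375 : Led Lsl_et v6390 = v6429 :=
  Lgr Lrot87 (Lpr_ef (f653372 IH) (Lpn v6429))
def v4365 : LQ := Led Lsl_gf (LP (LK LD1_c2 LD2_c20 LD3_c2))
theorem f632944 : Led Lsl_gf (LP (LK LD1_c2 LD2_c20 LD3_c2)) = v4365 :=
  Lrfl
theorem f708081 : (LP (LK LD1_c1 LD2_c27 LD3_c23)) = v4365 :=
  Lefun (Lecon (Lfl_gt (f502972 IH)) ((f674274 IH).symm.trans (f708033 IH))) (f632944 IH)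
theorem f444184 : Led Lsl_dt (LP (LK LD1_c3 LD2_c2 LD3_c59)) = (LP (LK LD1_c6 LD2_c12 LD3_c39)) :=
  Lre_d IH (LK LD1_c3 LD2_c2 LD3_c59) (LK LD1_c6 LD2_c12 LD3_c39) Lrfl Lrfl
def v13745 : LQ := Led Lsl_dt (LP (LK LD1_c4 LD2_c47 LD3_c45))
theorem f704620 : Led Lsl_dt (LP (LK LD1_c4 LD2_c47 LD3_c45)) = v13745 :=
  Lrfl
theorem f708335 : Led Lsl_gf (LP (LK LD1_c6 LD2_c12 LD3_c39)) = v13745 :=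
  Lgr Lrot145 (Lpe (f444184 IH) (Lpr_et (K48.f444188 IH) (Lpqs (f708081 IH) (Lpe (f632944 IH) (Lpr_dt (f129972 IH) (Lpqs (f708019 IH) (Lpr_gt (K46.f495166 IH) (Lpr_df (f653168 IH) (Lpr_et (f653375 IH) (Lpe (f653379 IH) (Lpq (f708307 IH) (Lpe (f632999 IH) (Lpr_dt (f704620 IH) (Lpn v13745))))))))))))))
theorem f444186 : Led Lsl_dt (LP (LK LD1_c6 LD2_c17 LD3_c47)) = (LP (LK LD1_c3 LD2_c6 LD3_c4)) :=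
  Lre_d IH (LK LD1_c6 LD2_c17 LD3_c47) (LK LD1_c3 LD2_c6 LD3_c4) Lrfl Lrfl
def v5916 : LQ := Led Lsl_ft (LP (LK LD1_c3 LD2_c14 LD3_c55))
theorem f650053 : Led Lsl_ft (LP (LK LD1_c3 LD2_c14 LD3_c55)) = v5916 :=
  Lrfl
theorem f650054 : Led Lsl_df (LP (LK LD1_c3 LD2_c14 LD3_c56)) = v5916 :=
  Lgr Lrot78 (Lpr_ft (K5.f127191 IH) (Lpr_dt (K5.f112963 IH) (Lpr_ft (f650053 IH) (Lpn v5916))))
def v13441 : LQ := Led Lsl_ft (LP (LK LD1_c4 LD2_c44 LD3_c0))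
theorem f702979 : Led Lsl_ft (LP (LK LD1_c4 LD2_c44 LD3_c0)) = v13441 :=
  Lrfl
theorem f702983 : Led Lsl_ff (LP (LK LD1_c4 LD2_c44 LD3_c0)) = v13441 :=
  Lgr Lrot3 (Lpr_ft (f702979 IH) (Lpn v13441))
theorem f126655 : Led Lsl_et (LP (LK LD1_c3 LD2_c1 LD3_c17)) = (LP (LK LD1_c3 LD2_c14 LD3_c55)) :=
  Lgr Lrot71 (Lpe (K5.f57567 IH) (Lpr_ef (K5.f126650 IH) (Lpe (K5.f112960 IH) (Lpe (f112968 IH) (Lpe (K5.f112969 IH) (Lpn (LP (LK LD1_c3 LD2_c14 LD3_c55))))))))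
theorem f702989 : Led Lsl_et v5916 = v13441 :=
  Lgr Lrot69 (Lpe (f650053 IH) (Lpe (f126655 IH) (Lpe (K5.f126836 IH) (Lpe (K3.f107432 IH) (Lpr_ff (f702983 IH) (Lpn v13441))))))
theorem f107424 : Led Lsl_af (LP (LK LD1_c3 LD2_c14 LD3_c45)) = (LP (LK LD1_c4 LD2_c44 LD3_c0)) :=
  Lgr Lrot0 (Lpr_at (K3.f107421 IH) (Lpn (LP (LK LD1_c4 LD2_c44 LD3_c0))))
theorem f103527 : Led Lsl_gt (LP (LK LD1_c6 LD2_c32 LD3_c59)) = (LP (LK LD1_c3 LD2_c14 LD3_c45)) :=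
  Lre_g IH (LK LD1_c6 LD2_c32 LD3_c59) (LK LD1_c3 LD2_c14 LD3_c45) Lrfl Lrfl
theorem f702990 : Led Lsl_gf (LP (LK LD1_c6 LD2_c32 LD3_c59)) = v13441 :=
  Lgr Lrot47 (Lpr_gt (f103527 IH) (Lpr_af (f107424 IH) (Lpr_ff (f702983 IH) (Lpn v13441))))
theorem f144059 : Led Lsl_et (LP (LK LD1_c4 LD2_c44 LD3_c23)) = (LP (LK LD1_c2 LD2_c20 LD3_c10)) :=
  Lre_e IH (LK LD1_c4 LD2_c44 LD3_c23) (LK LD1_c2 LD2_c20 LD3_c10) Lrfl Lrfl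
def v13483 : LQ := Led Lsl_dt (LP (LK LD1_c4 LD2_c44 LD3_c23))
theorem f703242 : Led Lsl_dt (LP (LK LD1_c4 LD2_c44 LD3_c23)) = v13483 :=
  Lrfl
theorem f703243 : Led Lsl_df (LP (LK LD1_c4 LD2_c44 LD3_c23)) = v13483 :=
  Lgr Lrot38 (Lpr_dt (f703242 IH) (Lpn v13483))
theorem f704622 : Led Lsl_ef v13483 = v13745 :=
  Lgr Lrot73 (Lpe (f703243 IH) (Lpr_et (f144059 IH) (Lpr_dt (f632995 IH) (Lpe (f632998 IH) (Lpr_dt (f704620 IH) (Lpn v13745))))))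
theorem f704623 : Led Lsl_et v13483 = v13745 :=
  Lgr Lrot87 (Lpr_ef (f704622 IH) (Lpn v13745))
def v13480 : LQ := Led Lsl_gf (LP (LK LD1_c4 LD2_c44 LD3_c23))
theorem f703231 : Led Lsl_gf (LP (LK LD1_c4 LD2_c44 LD3_c23)) = v13480 :=
  Lrfl
theorem f708338 : Led Lsl_dt (LP (LK LD1_c6 LD2_c32 LD3_c59)) = v13480 :=
  Lgr Lrot171 (Lpr_gf (f702990 IH) (Lpe (f702989 IH) (Lpe (f650054 IH) (Lpq (f708129 IH) (Lpe (f647083 IH) (Lpe (f444186 IH) (Lpe (K48.f443971 IH) (Lpr_gf (f708335 IH) (Lpe (f704623 IH) (Lpe (f703243 IH) (Lpr_gf (f703231 IH) (Lpn v13480))))))))))))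
theorem f708339 : Led Lsl_df (LP (LK LD1_c6 LD2_c32 LD3_c59)) = v13480 :=
  Lgr Lrot38 (Lpr_dt (f708338 IH) (Lpn v13480))
def v13183 : LQ := Led Lsl_at (LP (LK LD1_c4 LD2_c41 LD3_c3))
theorem f701554 : Led Lsl_at (LP (LK LD1_c4 LD2_c41 LD3_c3)) = v13183 :=
  Lrfl
theorem f23227 : Led Lsl_bt (LP (LK LD1_c4 LD2_c41 LD3_c3)) = (LP (LK LD1_c2 LD2_c17 LD3_c37)) :=
  Lre_b IH (LK LD1_c4 LD2_c41 LD3_c3) (LK LD1_c2 LD2_c17 LD3_c37) Lrfl Lrfl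
theorem f23228 : Led Lsl_bt (LP (LK LD1_c1 LD2_c37 LD3_c21)) = (LP (LK LD1_c3 LD2_c22 LD3_c7)) :=
  Lre_b IH (LK LD1_c1 LD2_c37 LD3_c21) (LK LD1_c3 LD2_c22 LD3_c7) Lrfl Lrfl
theorem f23229 : Led Lsl_df (LP (LK LD1_c4 LD2_c41 LD3_c3)) = (LP (LK LD1_c3 LD2_c22 LD3_c7)) :=
  Lgr Lrot12 (Lpr_bt (f23227 IH) (Lpr_dt (K0.f23222 IH) (Lpr_bt (f23228 IH) (Lpn (LP (LK LD1_c3 LD2_c22 LD3_c7))))))
def v6470 : LQ := Led Lsl_at (LP (LK LD1_c3 LD2_c22 LD3_c7))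
theorem f653534 : Led Lsl_at (LP (LK LD1_c3 LD2_c22 LD3_c7)) = v6470 :=
  Lrfl
theorem f653535 : Led Lsl_af (LP (LK LD1_c3 LD2_c22 LD3_c7)) = v6470 :=
  Lgr Lrot0 (Lpr_at (f653534 IH) (Lpn v6470))
theorem f701557 : Led Lsl_df v6470 = v13183 :=
  Lgr Lrot18 (Lpe (f653535 IH) (Lpe (f23229 IH) (Lpr_at (f701554 IH) (Lpn v13183))))
theorem f103525 : Led Lsl_et (LP (LK LD1_c1 LD2_c33 LD3_c55)) = (LP (LK LD1_c0 LD2_c43 LD3_c32)) :=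
  Lre_e IH (LK LD1_c1 LD2_c33 LD3_c55) (LK LD1_c0 LD2_c43 LD3_c32) Lrfl Lrfl
def v4364 : LQ := Led Lsl_gt (LP (LK LD1_c2 LD2_c20 LD3_c2))
theorem f632943 : Led Lsl_gt (LP (LK LD1_c2 LD2_c20 LD3_c2)) = v4364 :=
  Lrfl
theorem f708080 : K49.v4248 = v4364 :=
  Lefun (Lecon (f632191 IH) ((f674274 IH).symm.trans (f708033 IH))) (f632943 IH)
theorem f632188 : Led Lsl_af (LP (LK LD1_c2 LD2_c17 LD3_c34)) = K49.v4248 :=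
  Lgr Lrot0 (Lpr_at (K49.f632187 IH) (Lpn K49.v4248))
theorem f701558 : Led Lsl_ef K49.v4248 = v13183 :=
  Lgr Lrot20 (Lpe (f632188 IH) (Lpr_et (f446125 IH) (Lpr_at (f701554 IH) (Lpn v13183))))
theorem f708340 : v13183 = v13480 :=
  (Llr Lrot17 (Lpe (f701558 IH) (Lpqs (f708080 IH) (Lpe (f632943 IH) (Lpe (f127087 IH) (Lpe (K5.f127071 IH) (Lpe (K3.f57581 IH) (Lpe (K2.f57532 IH) (Lpe (K4.f103515 IH) (Lpe (f103525 IH) (Lpr_dt (K3.f103526 IH) (Lpe (f103527 IH) (Lpr_df (f708339 IH) (Lpn v13480)))))))))))))).symm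
theorem f708341 : (LP (LK LD1_c6 LD2_c32 LD3_c59)) = v6470 :=
  Lefun (Lecon (Lfl_df (f708339 IH)) (f708340 IH).symm) (Lfl_df (f701557 IH))
theorem f708342 : Led Lsl_at (LP (LK LD1_c6 LD2_c32 LD3_c59)) = (LP (LK LD1_c3 LD2_c22 LD3_c7)) :=
  Leop (Lpr_af (f653535 IH) (Lpq (f708341 IH) (Lpn (LP (LK LD1_c6 LD2_c32 LD3_c59)))))
theorem seed_726 : LEOK LG_a (LK LD1_c6 LD2_c32 LD3_c59) :=
  Leoe_a (LK LD1_c6 LD2_c32 LD3_c59) (f708342 IH)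
def v5896 : LQ := Led Lsl_gt (LP (LK LD1_c3 LD2_c14 LD3_c38))
theorem f649977 : Led Lsl_gt (LP (LK LD1_c3 LD2_c14 LD3_c38)) = v5896 :=
  Lrfl
theorem f91845 : Led Lsl_ct (LP (LK LD1_c1 LD2_c33 LD3_c51)) = (LP (LK LD1_c3 LD2_c14 LD3_c38)) :=
  Lre_c IH (LK LD1_c1 LD2_c33 LD3_c51) (LK LD1_c3 LD2_c14 LD3_c38) Lrfl Lrfl
theorem f708032 : K46.v3200 = (LP (LK LD1_c3 LD2_c14 LD3_c38)) :=
  Lefun (Lecon (K46.f624598 IH) (f708019 IH).symm) (f91845 IH)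
theorem f708064 : K46.v6423 = v5896 :=
  Lefun (Lecon (K46.f653350 IH) (f708032 IH)) (f649977 IH)
def v13445 : LQ := Led Lsl_ft (LP (LK LD1_c4 LD2_c44 LD3_c4))
theorem f703010 : Led Lsl_ft (LP (LK LD1_c4 LD2_c44 LD3_c4)) = v13445 :=
  Lrfl
theorem f703014 : Led Lsl_ff (LP (LK LD1_c4 LD2_c44 LD3_c4)) = v13445 :=
  Lgr Lrot3 (Lpr_ft (f703010 IH) (Lpn v13445))
def v5897 : LQ := Led Lsl_ft (LP (LK LD1_c3 LD2_c14 LD3_c38))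
theorem f649978 : Led Lsl_ft (LP (LK LD1_c3 LD2_c14 LD3_c38)) = v5897 :=
  Lrfl
theorem f703016 : Led Lsl_at v5897 = v13445 :=
  Lgr Lrot66 (Lpe (f649978 IH) (Lpe (K4.f120392 IH) (Lpr_ff (f703014 IH) (Lpn v13445))))
theorem f703022 : Led Lsl_gt v5896 = v13445 :=
  Lgr Lrot46 (Lpe (f649977 IH) (Lpr_ft (f649978 IH) (Lpr_at (f703016 IH) (Lpn v13445))))
theorem f120394 : Led Lsl_ct (LP (LK LD1_c4 LD2_c44 LD3_c4)) = (LP (LK LD1_c2 LD2_c19 LD3_c60)) :=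
  Lre_c IH (LK LD1_c4 LD2_c44 LD3_c4) (LK LD1_c2 LD2_c19 LD3_c60) Lrfl Lrfl
theorem f703017 : Led Lsl_ct v4360 = v13445 :=
  Lgr Lrot40 (Lpe (f632909 IH) (Lpe (f120394 IH) (Lpr_ff (f703014 IH) (Lpn v13445))))
theorem f632913 : Led Lsl_ff (LP (LK LD1_c2 LD2_c19 LD3_c60)) = v4360 :=
  Lgr Lrot3 (Lpr_ft (f632909 IH) (Lpn v4360))
theorem f120389 : Led Lsl_at (LP (LK LD1_c2 LD2_c19 LD3_c60)) = (LP (LK LD1_c1 LD2_c33 LD3_c51)) :=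
  Lgr Lrot100 (Lpr_af (K4.f120384 IH) (Lpn (LP (LK LD1_c1 LD2_c33 LD3_c51))))
theorem f632918 : Led Lsl_gf v2027 = v4360 :=
  Lgr Lrot47 (Lpe (f507827 IH) (Lpe (f120389 IH) (Lpr_ff (f632913 IH) (Lpn v4360))))
theorem f708021 : v4360 = (LP (LK LD1_c1 LD2_c37 LD3_c4)) :=
  Lefun (Lecon (f632918 IH) (f708018 IH)) (Lfl_gt (K46.f141119 IH))
theorem f708038 : v13445 = (LP (LK LD1_c3 LD2_c21 LD3_c39)) :=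
  Lefun (Lecon (f703017 IH) (f708021 IH)) (K46.f495171 IH)
theorem f495174 : Led Lsl_ct (LP (LK LD1_c3 LD2_c21 LD3_c39)) = (LP (LK LD1_c1 LD2_c37 LD3_c4)) :=
  Lre_c IH (LK LD1_c3 LD2_c21 LD3_c39) (LK LD1_c1 LD2_c37 LD3_c4) Lrfl Lrfl
theorem f502983 : Led Lsl_ct (LP (LK LD1_c6 LD2_c12 LD3_c33)) = (LP (LK LD1_c3 LD2_c2 LD3_c56)) :=
  Lre_c IH (LK LD1_c6 LD2_c12 LD3_c33) (LK LD1_c3 LD2_c2 LD3_c56) Lrfl Lrfl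
def v5922 : LQ := Led Lsl_ft (LP (LK LD1_c3 LD2_c14 LD3_c61))
theorem f650073 : Led Lsl_ft (LP (LK LD1_c3 LD2_c14 LD3_c61)) = v5922 :=
  Lrfl
theorem f650076 : Led Lsl_ff (LP (LK LD1_c3 LD2_c14 LD3_c61)) = v5922 :=
  Lgr Lrot3 (Lpr_ft (f650073 IH) (Lpn v5922))
def v2037 : LQ := Led Lsl_ft (LP (LK LD1_c1 LD2_c34 LD3_c1))
theorem f507862 : Led Lsl_ft (LP (LK LD1_c1 LD2_c34 LD3_c1)) = v2037 :=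
  Lrfl
theorem f650077 : Led Lsl_ct v2037 = v5922 :=
  Lgr Lrot40 (Lpe (f507862 IH) (Lpe (f126584 IH) (Lpr_ff (f650076 IH) (Lpn v5922))))
theorem f502982 : Led Lsl_ct (LP (LK LD1_c3 LD2_c2 LD3_c56)) = (LP (LK LD1_c6 LD2_c12 LD3_c33)) :=
  Lre_c IH (LK LD1_c3 LD2_c2 LD3_c56) (LK LD1_c6 LD2_c12 LD3_c33) Lrfl Lrfl
theorem f507864 : Led Lsl_ff (LP (LK LD1_c1 LD2_c34 LD3_c1)) = v2037 :=
  Lgr Lrot3 (Lpr_ft (f507862 IH) (Lpn v2037))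
theorem f632911 : Led Lsl_df v2037 = v4360 :=
  Lgr Lrot78 (Lpe (f507864 IH) (Lpe (K5.f126582 IH) (Lpr_ft (f632909 IH) (Lpn v4360))))
theorem f708039 : v2037 = K49.v2192 :=
  Lefun (Lecon (Lfl_df (f632911 IH)) (f708021 IH)) (K49.f509548 IH)
theorem f708095 : v5922 = (LP (LK LD1_c6 LD2_c12 LD3_c33)) :=
  Lefun (Lecon (f650077 IH) ((f708039 IH).trans (K49.f674264 IH))) (f502982 IH)
def v13448 : LQ := Led Lsl_ft (LP (LK LD1_c4 LD2_c44 LD3_c7))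
theorem f703038 : Led Lsl_ft (LP (LK LD1_c4 LD2_c44 LD3_c7)) = v13448 :=
  Lrfl
theorem f129912 : Led Lsl_gt (LP (LK LD1_c4 LD2_c44 LD3_c7)) = (LP (LK LD1_c9 LD2_c21 LD3_c5)) :=
  Lre_g IH (LK LD1_c4 LD2_c44 LD3_c7) (LK LD1_c9 LD2_c21 LD3_c5) Lrfl Lrfl
theorem f129963 : Led Lsl_af (LP (LK LD1_c4 LD2_c44 LD3_c7)) = (LP (LK LD1_c3 LD2_c14 LD3_c61)) :=
  Lgr Lrot0 (Lpr_at (f129960 IH) (Lpn (LP (LK LD1_c3 LD2_c14 LD3_c61))))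
theorem f703039 : Led Lsl_af v5922 = v13448 :=
  Lgr Lrot45 (Lpe (f650076 IH) (Lpe (f129963 IH) (Lpr_ft (f703038 IH) (Lpn v13448))))
theorem f703044 : Led Lsl_gt (LP (LK LD1_c9 LD2_c21 LD3_c5)) = v5922 :=
  Lgr Lrot46 (Lpe (f129912 IH) (Lpr_ft (f703038 IH) (Lpe (f703039 IH) (Lpn v5922))))
def v13897 : LQ := Led Lsl_ct (LP (LK LD1_c4 LD2_c49 LD3_c43))
theorem f705764 : Led Lsl_ct (LP (LK LD1_c4 LD2_c49 LD3_c43)) = v13897 :=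
  Lrfl
theorem f705765 : Led Lsl_cf (LP (LK LD1_c4 LD2_c49 LD3_c43)) = v13897 :=
  Lgr Lrot11 (Lpr_ct (f705764 IH) (Lpn v13897))
theorem f416233 : Led Lsl_gt (LP (LK LD1_c2 LD2_c22 LD3_c37)) = (LP (LK LD1_c4 LD2_c49 LD3_c43)) :=
  Lre_g IH (LK LD1_c2 LD2_c22 LD3_c37) (LK LD1_c4 LD2_c49 LD3_c43) Lrfl Lrfl
theorem f454410 : Led Lsl_at (LP (LK LD1_c1 LD2_c37 LD3_c6)) = (LP (LK LD1_c3 LD2_c21 LD3_c40)) :=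
  Lre_a IH (LK LD1_c1 LD2_c37 LD3_c6) (LK LD1_c3 LD2_c21 LD3_c40) Lrfl Lrfl
theorem f454414 : Led Lsl_gt (LP (LK LD1_c4 LD2_c49 LD3_c43)) = (LP (LK LD1_c3 LD2_c21 LD3_c40)) :=
  Lgr Lrot46 (Lpe (f416233 IH) (Lpr_ft (K32.f454341 IH) (Lpr_at (f454410 IH) (Lpn (LP (LK LD1_c3 LD2_c21 LD3_c40))))))
theorem f454386 : Led Lsl_ct (LP (LK LD1_c1 LD2_c37 LD3_c5)) = (LP (LK LD1_c3 LD2_c21 LD3_c40)) :=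
  Lre_c IH (LK LD1_c1 LD2_c37 LD3_c5) (LK LD1_c3 LD2_c21 LD3_c40) Lrfl Lrfl
theorem f506861 : Led Lsl_ct (LP (LK LD1_c3 LD2_c13 LD3_c44)) = (LP (LK LD1_c6 LD2_c31 LD3_c7)) :=
  Lre_c IH (LK LD1_c3 LD2_c13 LD3_c44) (LK LD1_c6 LD2_c31 LD3_c7) Lrfl Lrfl
def v2007 : LQ := Led Lsl_gt (LP (LK LD1_c1 LD2_c33 LD3_c27))
theorem f506859 : Led Lsl_gt (LP (LK LD1_c1 LD2_c33 LD3_c27)) = v2007 :=
  Lrfl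
theorem f662807 : (LP (LK LD1_c0 LD2_c44 LD3_c52)) = v2007 :=
  Lefun (Lecon (Lfl_gf (K46.f453994 IH)) (K49.f662785 IH)) (f506859 IH)
theorem f76866 : Led Lsl_ct (LP (LK LD1_c3 LD2_c23 LD3_c9)) = (LP (LK LD1_c6 LD2_c49 LD3_c43)) :=
  Lre_c IH (LK LD1_c3 LD2_c23 LD3_c9) (LK LD1_c6 LD2_c49 LD3_c43) Lrfl Lrfl
theorem f663973 : Led Lsl_gf (LP (LK LD1_c6 LD2_c31 LD3_c7)) = (LP (LK LD1_c6 LD2_c49 LD3_c43)) :=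
  Lgr Lrot129 (Lpe (f506861 IH) (Lpr_bt (K49.f139732 IH) (Lpr_gt (f506859 IH) (Lpq (f662807 IH) (Lpe (K46.f414092 IH) (Lpr_ct (K16.f413542 IH) (Lpr_gt (K16.f413543 IH) (Lpr_cf (K24.f413555 IH) (Lpr_bt (K46.f76856 IH) (Lpr_gt (K46.f76865 IH) (Lpr_ct (f76866 IH) (Lpn (LP (LK LD1_c6 LD2_c49 LD3_c43))))))))))))))
theorem f76824 : Led Lsl_ct (LP (LK LD1_c3 LD2_c23 LD3_c48)) = (LP (LK LD1_c1 LD2_c38 LD3_c11)) :=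
  Lre_c IH (LK LD1_c3 LD2_c23 LD3_c48) (LK LD1_c1 LD2_c38 LD3_c11) Lrfl Lrfl
theorem f654230 : Led Lsl_ff (LP (LK LD1_c3 LD2_c23 LD3_c48)) = (LP (LK LD1_c6 LD2_c49 LD3_c43)) :=
  Lgr Lrot23 (Lpr_ct (f76824 IH) (Lpqs (K46.f653990 IH) (Lpe (f653813 IH) (Lpr_ct (f76866 IH) (Lpn (LP (LK LD1_c6 LD2_c49 LD3_c43)))))))
theorem f76864 : Led Lsl_ct (LP (LK LD1_c6 LD2_c49 LD3_c42)) = (LP (LK LD1_c3 LD2_c23 LD3_c8)) :=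
  Lre_c IH (LK LD1_c6 LD2_c49 LD3_c42) (LK LD1_c3 LD2_c23 LD3_c8) Lrfl Lrfl
theorem f76826 : Led Lsl_ct (LP (LK LD1_c1 LD2_c38 LD3_c12)) = (LP (LK LD1_c3 LD2_c23 LD3_c52)) :=
  Lre_c IH (LK LD1_c1 LD2_c38 LD3_c12) (LK LD1_c3 LD2_c23 LD3_c52) Lrfl Lrfl
theorem f654253 : Led Lsl_ff (LP (LK LD1_c6 LD2_c49 LD3_c42)) = (LP (LK LD1_c3 LD2_c23 LD3_c52)) :=
  Lgr Lrot23 (Lpr_ct (f76864 IH) (Lpq (K46.f653989 IH) (Lpe (K46.f509754 IH) (Lpr_ct (f76826 IH) (Lpn (LP (LK LD1_c3 LD2_c23 LD3_c52)))))))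
theorem f654261 : Led Lsl_ft (LP (LK LD1_c6 LD2_c49 LD3_c42)) = (LP (LK LD1_c3 LD2_c23 LD3_c52)) :=
  Lgr Lrot48 (Lpr_ff (f654253 IH) (Lpn (LP (LK LD1_c3 LD2_c23 LD3_c52))))
theorem f76964 : Led Lsl_ct (LP (LK LD1_c6 LD2_c49 LD3_c43)) = (LP (LK LD1_c3 LD2_c23 LD3_c9)) :=
  Lre_c IH (LK LD1_c6 LD2_c49 LD3_c43) (LK LD1_c3 LD2_c23 LD3_c9) Lrfl Lrfl
def v6531 : LQ := Led Lsl_ft (LP (LK LD1_c3 LD2_c23 LD3_c8))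
theorem f653819 : Led Lsl_ft (LP (LK LD1_c3 LD2_c23 LD3_c8)) = v6531 :=
  Lrfl
theorem f653821 : Led Lsl_ff (LP (LK LD1_c3 LD2_c23 LD3_c8)) = v6531 :=
  Lgr Lrot3 (Lpr_ft (f653819 IH) (Lpn v6531))
theorem f653822 : Led Lsl_at (LP (LK LD1_c3 LD2_c23 LD3_c9)) = v6531 :=
  Lgr Lrot66 (Lpr_ff (f653813 IH) (Lpe (K46.f653809 IH) (Lpr_ff (f653821 IH) (Lpn v6531))))
theorem f653993 : (LP (LK LD1_c1 LD2_c38 LD3_c12)) = v6531 :=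
  Lefun (Lecon (Lfl_ff (K46.f509754 IH)) (K46.f653989 IH)) (f653819 IH)
theorem f654246 : Led Lsl_af (LP (LK LD1_c6 LD2_c49 LD3_c43)) = (LP (LK LD1_c3 LD2_c23 LD3_c52)) :=
  Lgr Lrot68 (Lpr_ct (f76964 IH) (Lpr_at (f653822 IH) (Lpq (f653993 IH) (Lpr_ct (f76826 IH) (Lpn (LP (LK LD1_c3 LD2_c23 LD3_c52)))))))
theorem f654263 : Led Lsl_af (LP (LK LD1_c6 LD2_c49 LD3_c42)) = (LP (LK LD1_c3 LD2_c23 LD3_c48)) :=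
  Lgr Lrot45 (Lpr_ft (f654261 IH) (Lpe (f654246 IH) (Lpe (f654230 IH) (Lpn (LP (LK LD1_c3 LD2_c23 LD3_c48))))))
theorem f663975 : Led Lsl_gt (LP (LK LD1_c6 LD2_c31 LD3_c7)) = (LP (LK LD1_c6 LD2_c49 LD3_c42)) :=
  Lgr Lrot46 (Lpr_gf (f663973 IH) (Lpe (f654230 IH) (Lpe (f654263 IH) (Lpn (LP (LK LD1_c6 LD2_c49 LD3_c42))))))
theorem f76805 : Led Lsl_ct (LP (LK LD1_c3 LD2_c23 LD3_c8)) = (LP (LK LD1_c6 LD2_c49 LD3_c42)) :=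
  Lre_c IH (LK LD1_c3 LD2_c23 LD3_c8) (LK LD1_c6 LD2_c49 LD3_c42) Lrfl Lrfl
theorem f705766 : Led Lsl_gt (LP (LK LD1_c6 LD2_c49 LD3_c41)) = v13897 :=
  Lgr Lrot82 (Lpe (K46.f76886 IH) (Lpr_ct (f76805 IH) (Lpe (f663975 IH) (Lpe (f506861 IH) (Lpr_bt (K49.f139732 IH) (Lpq (K49.f662785 IH) (Lpr_gf (K48.f454772 IH) (Lpr_bf (K46.f454629 IH) (Lpr_ct (f454386 IH) (Lpe (f454414 IH) (Lpr_cf (f705765 IH) (Lpn v13897))))))))))))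
def v13313 : LQ := Led Lsl_gt (LP (LK LD1_c4 LD2_c43 LD3_c5))
theorem f702288 : Led Lsl_gt (LP (LK LD1_c4 LD2_c43 LD3_c5)) = v13313 :=
  Lrfl
theorem f103544 : Led Lsl_ft (LP (LK LD1_c6 LD2_c32 LD3_c43)) = (LP (LK LD1_c3 LD2_c14 LD3_c35)) :=
  Lre_f IH (LK LD1_c6 LD2_c32 LD3_c43) (LK LD1_c3 LD2_c14 LD3_c35) Lrfl Lrfl
theorem f702292 : Led Lsl_af (LP (LK LD1_c6 LD2_c32 LD3_c43)) = v13315 :=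
  Lgr Lrot45 (Lpr_ft (f103544 IH) (Lpr_at (K4.f120610 IH) (Lpr_ft (f702291 IH) (Lpn v13315))))
theorem f702297 : Led Lsl_gt v13313 = (LP (LK LD1_c6 LD2_c32 LD3_c43)) :=
  Lgr Lrot46 (Lpe (f702288 IH) (Lpr_ft (f702291 IH) (Lpe (f702292 IH) (Lpn (LP (LK LD1_c6 LD2_c32 LD3_c43))))))
def v6271 : LQ := Led Lsl_ft (LP (LK LD1_c3 LD2_c19 LD3_c47))
theorem f652517 : Led Lsl_ft (LP (LK LD1_c3 LD2_c19 LD3_c47)) = v6271 :=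
  Lrfl
theorem f652518 : Led Lsl_cf (LP (LK LD1_c6 LD2_c32 LD3_c43)) = v6271 :=
  Lgr Lrot108 (Lpr_ft (f103544 IH) (Lpr_ct (K4.f103532 IH) (Lpr_ft (f652517 IH) (Lpn v6271))))
def v13749 : LQ := Led Lsl_gt (LP (LK LD1_c4 LD2_c47 LD3_c48))
theorem f704649 : Led Lsl_gt (LP (LK LD1_c4 LD2_c47 LD3_c48)) = v13749 :=
  Lrfl
theorem f652519 : Led Lsl_ff (LP (LK LD1_c3 LD2_c19 LD3_c47)) = v6271 :=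
  Lgr Lrot3 (Lpr_ft (f652517 IH) (Lpn v6271))
theorem f704653 : Led Lsl_af v6271 = v13751 :=
  Lgr Lrot45 (Lpe (f652519 IH) (Lpe (K4.f120209 IH) (Lpr_ft (f704652 IH) (Lpn v13751))))
theorem f704658 : Led Lsl_gt v13749 = v6271 :=
  Lgr Lrot46 (Lpe (f704649 IH) (Lpr_ft (f704652 IH) (Lpe (f704653 IH) (Lpn v6271))))
def v13463 : LQ := Led Lsl_ft (LP (LK LD1_c4 LD2_c44 LD3_c15))
theorem f703135 : Led Lsl_ft (LP (LK LD1_c4 LD2_c44 LD3_c15)) = v13463 :=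
  Lrfl
def v13461 : LQ := Led Lsl_gt (LP (LK LD1_c4 LD2_c44 LD3_c15))
theorem f703132 : Led Lsl_gt (LP (LK LD1_c4 LD2_c44 LD3_c15)) = v13461 :=
  Lrfl
theorem f62905 : Led Lsl_bt (LP (LK LD1_c3 LD2_c12 LD3_c6)) = (LP (LK LD1_c1 LD2_c32 LD3_c36)) :=
  Lre_b IH (LK LD1_c3 LD2_c12 LD3_c6) (LK LD1_c1 LD2_c32 LD3_c36) Lrfl Lrfl
theorem f131517 : Led Lsl_dt (LP (LK LD1_c4 LD2_c43 LD3_c5)) = (LP (LK LD1_c3 LD2_c12 LD3_c6)) :=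
  Lgr Lrot79 (Lpe (f120612 IH) (Lpr_df (K5.f131513 IH) (Lpe (f62905 IH) (Lpn (LP (LK LD1_c3 LD2_c12 LD3_c6))))))
theorem f439662 : Led Lsl_af (LP (LK LD1_c6 LD2_c9 LD3_c31)) = (LP (LK LD1_c3 LD2_c12 LD3_c6)) :=
  Lgr Lrot117 (Lpr_dt (K5.f126911 IH) (Lpr_at (K4.f120610 IH) (Lpr_dt (f131517 IH) (Lpn (LP (LK LD1_c3 LD2_c12 LD3_c6))))))
theorem f128726 : Led Lsl_ct (LP (LK LD1_c7 LD2_c39 LD3_c30)) = (LP (LK LD1_c14 LD2_c25 LD3_c58)) :=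
  Lre_c IH (LK LD1_c7 LD2_c39 LD3_c30) (LK LD1_c14 LD2_c25 LD3_c58) Lrfl Lrfl
theorem f128713 : Led Lsl_bt (LP (LK LD1_c14 LD2_c25 LD3_c58)) = (LP (LK LD1_c9 LD2_c16 LD3_c10)) :=
  Lgr Lrot127 (Lpr_bf (K28.f128711 IH) (Lpn (LP (LK LD1_c9 LD2_c16 LD3_c10))))
theorem f128742 : Led Lsl_ct (LP (LK LD1_c6 LD2_c9 LD3_c31)) = (LP (LK LD1_c4 LD2_c44 LD3_c15)) :=
  Lgr Lrot83 (Lpr_bf (K5.f127047 IH) (Lpr_cf (K28.f103237 IH) (Lpe (f128713 IH) (Lpe (f128726 IH) (Lpr_bf (K28.f128720 IH) (Lpn (LP (LK LD1_c4 LD2_c44 LD3_c15))))))))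
theorem f62901 : Led Lsl_et (LP (LK LD1_c1 LD2_c34 LD3_c3)) = (LP (LK LD1_c3 LD2_c15 LD3_c2)) :=
  Lre_e IH (LK LD1_c1 LD2_c34 LD3_c3) (LK LD1_c3 LD2_c15 LD3_c2) Lrfl Lrfl
theorem f62896 : Led Lsl_et (LP (LK LD1_c3 LD2_c12 LD3_c6)) = (LP (LK LD1_c1 LD2_c32 LD3_c34)) :=
  Lre_e IH (LK LD1_c3 LD2_c12 LD3_c6) (LK LD1_c1 LD2_c32 LD3_c34) Lrfl Lrfl
theorem f62902 : Led Lsl_ct (LP (LK LD1_c3 LD2_c15 LD3_c2)) = (LP (LK LD1_c3 LD2_c12 LD3_c6)) :=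
  Lgr Lrot15 (Lpe (f62901 IH) (Lpr_cf (K4.f62892 IH) (Lpe (f62896 IH) (Lpn (LP (LK LD1_c3 LD2_c12 LD3_c6))))))
theorem f439664 : Led Lsl_at (LP (LK LD1_c4 LD2_c44 LD3_c15)) = (LP (LK LD1_c3 LD2_c15 LD3_c2)) :=
  Lgr Lrot107 (Lpe (f128742 IH) (Lpr_af (f439662 IH) (Lpe (f62902 IH) (Lpn (LP (LK LD1_c3 LD2_c15 LD3_c2))))))
theorem f439666 : Led Lsl_af (LP (LK LD1_c4 LD2_c44 LD3_c15)) = (LP (LK LD1_c3 LD2_c15 LD3_c2)) :=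
  Lgr Lrot0 (Lpr_at (f439664 IH) (Lpn (LP (LK LD1_c3 LD2_c15 LD3_c2))))
def v5927 : LQ := Led Lsl_ft (LP (LK LD1_c3 LD2_c15 LD3_c2))
theorem f650086 : Led Lsl_ft (LP (LK LD1_c3 LD2_c15 LD3_c2)) = v5927 :=
  Lrfl
theorem f650090 : Led Lsl_ff (LP (LK LD1_c3 LD2_c15 LD3_c2)) = v5927 :=
  Lgr Lrot3 (Lpr_ft (f650086 IH) (Lpn v5927))
theorem f703136 : Led Lsl_af v5927 = v13463 :=
  Lgr Lrot45 (Lpe (f650090 IH) (Lpe (f439666 IH) (Lpr_ft (f703135 IH) (Lpn v13463))))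
theorem f703141 : Led Lsl_gt v13461 = v5927 :=
  Lgr Lrot46 (Lpe (f703132 IH) (Lpr_ft (f703135 IH) (Lpe (f703136 IH) (Lpn v5927))))
def v5281 : LQ := Led Lsl_gt (LP (LK LD1_c3 LD2_c2 LD3_c58))
theorem f646893 : Led Lsl_gt (LP (LK LD1_c3 LD2_c2 LD3_c58)) = v5281 :=
  Lrfl
theorem f701544 : Led Lsl_gt v5281 = K50.v13181 :=
  Lgr Lrot46 (Lpe (f646893 IH) (Lpr_ft (K50.f504131 IH) (Lpr_at (K50.f701540 IH) (Lpn K50.v13181))))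
theorem f443989 : Led Lsl_ct (LP (LK LD1_c3 LD2_c2 LD3_c59)) = (LP (LK LD1_c6 LD2_c12 LD3_c38)) :=
  Lre_c IH (LK LD1_c3 LD2_c2 LD3_c59) (LK LD1_c6 LD2_c12 LD3_c38) Lrfl Lrfl
theorem f416811 : Led Lsl_dt (LP (LK LD1_c12 LD2_c4 LD3_c35)) = (LP (LK LD1_c6 LD2_c12 LD3_c38)) :=
  Lre_d IH (LK LD1_c12 LD2_c4 LD3_c35) (LK LD1_c6 LD2_c12 LD3_c38) Lrfl Lrfl
theorem f437692 : Led Lsl_ct (LP (LK LD1_c4 LD2_c47 LD3_c44)) = (LP (LK LD1_c2 LD2_c21 LD3_c45)) :=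
  Lre_c IH (LK LD1_c4 LD2_c47 LD3_c44) (LK LD1_c2 LD2_c21 LD3_c45) Lrfl Lrfl
theorem f444012 : Led Lsl_dt (LP (LK LD1_c6 LD2_c20 LD3_c38)) = (LP (LK LD1_c12 LD2_c15 LD3_c39)) :=
  Lre_d IH (LK LD1_c6 LD2_c20 LD3_c38) (LK LD1_c12 LD2_c15 LD3_c39) Lrfl Lrfl
theorem f708336 : Led Lsl_gf (LP (LK LD1_c12 LD2_c4 LD3_c35)) = (LP (LK LD1_c12 LD2_c15 LD3_c39)) :=
  Lgr Lrot143 (Lpr_dt (f416811 IH) (Lpe (f443989 IH) (Lpe (K48.f444187 IH) (Lpr_gf (f708335 IH) (Lpe (f704620 IH) (Lpe (K35.f113296 IH) (Lpe (f437692 IH) (Lpe (K46.f647576 IH) (Lpr_dt (f444012 IH) (Lpn (LP (LK LD1_c12 LD2_c15 LD3_c39))))))))))))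
theorem f646894 : Led Lsl_dt (LP (LK LD1_c6 LD2_c12 LD3_c38)) = (LP (LK LD1_c12 LD2_c4 LD3_c35)) :=
  Lre_d IH (LK LD1_c6 LD2_c12 LD3_c38) (LK LD1_c12 LD2_c4 LD3_c35) Lrfl Lrfl
theorem f504138 : Led Lsl_et (LP (LK LD1_c6 LD2_c12 LD3_c38)) = (LP (LK LD1_c3 LD2_c2 LD3_c58)) :=
  Lre_e IH (LK LD1_c6 LD2_c12 LD3_c38) (LK LD1_c3 LD2_c2 LD3_c58) Lrfl Lrfl
theorem f135798 : Led Lsl_et (LP (LK LD1_c2 LD2_c21 LD3_c44)) = (LP (LK LD1_c4 LD2_c47 LD3_c44)) :=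
  Lre_e IH (LK LD1_c2 LD2_c21 LD3_c44) (LK LD1_c4 LD2_c47 LD3_c44) Lrfl Lrfl
theorem f708381 : v5281 = (LP (LK LD1_c4 LD2_c44 LD3_c15)) :=
  (Llr Lrot131 (Lpe (f646893 IH) (Lpe (f504138 IH) (Lpr_dt (f646894 IH) (Lpr_gf (f708336 IH) (Lpe (f444012 IH) (Lpr_gf (K46.f647576 IH) (Lpe (f135798 IH) (Lpr_dt (K6.f135774 IH) (Lpr_gf (K5.f89778 IH) (Lpr_df (K5.f127073 IH) (Lpr_et (K28.f127068 IH) (Lpn (LP (LK LD1_c4 LD2_c44 LD3_c15))))))))))))))).symm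
theorem f708382 : K50.v13181 = v13461 :=
  Lefun (Lecon (f701544 IH) (f708381 IH)) (f703132 IH)
theorem f708385 : v5927 = (LP (LK LD1_c6 LD2_c12 LD3_c35)) :=
  Lefun (Lecon (f703141 IH) (f708382 IH).symm) (Lfl_gf (K50.f701547 IH))
theorem f62910 : Led Lsl_dt (LP (LK LD1_c6 LD2_c33 LD3_c32)) = (LP (LK LD1_c3 LD2_c15 LD3_c2)) :=
  Lre_d IH (LK LD1_c6 LD2_c33 LD3_c32) (LK LD1_c3 LD2_c15 LD3_c2) Lrfl Lrfl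
theorem f708394 : Led Lsl_ff (LP (LK LD1_c6 LD2_c33 LD3_c32)) = (LP (LK LD1_c12 LD2_c4 LD3_c31)) :=
  Lgr Lrot19 (Lpr_dt (f62910 IH) (Lpr_ft (f650086 IH) (Lpqs (f708385 IH) (Lpr_dt (K50.f502974 IH) (Lpn (LP (LK LD1_c12 LD2_c4 LD3_c31)))))))
theorem f128739 : Led Lsl_dt (LP (LK LD1_c9 LD2_c21 LD3_c18)) = (LP (LK LD1_c4 LD2_c44 LD3_c15)) :=
  Lre_d IH (LK LD1_c9 LD2_c21 LD3_c18) (LK LD1_c4 LD2_c44 LD3_c15) Lrfl Lrfl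
theorem f62919 : Led Lsl_dt (LP (LK LD1_c3 LD2_c15 LD3_c2)) = (LP (LK LD1_c6 LD2_c33 LD3_c32)) :=
  Lre_d IH (LK LD1_c3 LD2_c15 LD3_c2) (LK LD1_c6 LD2_c33 LD3_c32) Lrfl Lrfl
theorem f439670 : Led Lsl_af (LP (LK LD1_c9 LD2_c21 LD3_c18)) = (LP (LK LD1_c6 LD2_c33 LD3_c32)) :=
  Lgr Lrot117 (Lpr_dt (f128739 IH) (Lpr_at (f439664 IH) (Lpr_dt (f62919 IH) (Lpn (LP (LK LD1_c6 LD2_c33 LD3_c32))))))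
theorem f708400 : Led Lsl_gf (LP (LK LD1_c9 LD2_c21 LD3_c18)) = (LP (LK LD1_c6 LD2_c47 LD3_c15)) :=
  Lgr Lrot76 (Lpr_af (f439670 IH) (Lpr_ff (f708394 IH) (Lpr_gt (K50.f701548 IH) (Lpn (LP (LK LD1_c6 LD2_c47 LD3_c15))))))
theorem f127081 : Led Lsl_dt (LP (LK LD1_c4 LD2_c44 LD3_c15)) = (LP (LK LD1_c9 LD2_c21 LD3_c18)) :=
  Lre_d IH (LK LD1_c4 LD2_c44 LD3_c15) (LK LD1_c9 LD2_c21 LD3_c18) Lrfl Lrfl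
theorem f128725 : Led Lsl_et (LP (LK LD1_c4 LD2_c44 LD3_c15)) = (LP (LK LD1_c2 LD2_c20 LD3_c6)) :=
  Lre_e IH (LK LD1_c4 LD2_c44 LD3_c15) (LK LD1_c2 LD2_c20 LD3_c6) Lrfl Lrfl
theorem f156467 : Led Lsl_gt (LP (LK LD1_c3 LD2_c14 LD3_c50)) = (LP (LK LD1_c1 LD2_c41 LD3_c26)) :=
  Lgr Lrot49 (Lpe (K7.f24303 IH) (Lpr_gf (K7.f156460 IH) (Lpe (K5.f127064 IH) (Lpr_gt (K28.f127356 IH) (Lpr_dt (K2.f95548 IH) (Lpe (K3.f104188 IH) (Lpe (K4.f120193 IH) (Lpe (K4.f120205 IH) (Lpr_df (K4.f120361 IH) (Lpn (LP (LK LD1_c1 LD2_c41 LD3_c26))))))))))))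
theorem f416192 : Led Lsl_dt (LP (LK LD1_c3 LD2_c21 LD3_c46)) = (LP (LK LD1_c6 LD2_c47 LD3_c15)) :=
  Lre_d IH (LK LD1_c3 LD2_c21 LD3_c46) (LK LD1_c6 LD2_c47 LD3_c15) Lrfl Lrfl
theorem f416175 : Led Lsl_ct (LP (LK LD1_c2 LD2_c22 LD3_c37)) = (LP (LK LD1_c1 LD2_c8 LD3_c25)) :=
  Lre_c IH (LK LD1_c2 LD2_c22 LD3_c37) (LK LD1_c1 LD2_c8 LD3_c25) Lrfl Lrfl
theorem f414544 : Led Lsl_ct (LP (LK LD1_c1 LD2_c37 LD3_c7)) = (LP (LK LD1_c3 LD2_c21 LD3_c46)) :=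
  Lre_c IH (LK LD1_c1 LD2_c37 LD3_c7) (LK LD1_c3 LD2_c21 LD3_c46) Lrfl Lrfl
theorem f416176 : Led Lsl_ef (LP (LK LD1_c2 LD2_c22 LD3_c37)) = (LP (LK LD1_c3 LD2_c21 LD3_c46)) :=
  Lgr Lrot28 (Lpr_ct (f416175 IH) (Lpr_et (K24.f415303 IH) (Lpr_ct (f414544 IH) (Lpn (LP (LK LD1_c3 LD2_c21 LD3_c46))))))
theorem f708438 : v13749 = (LP (LK LD1_c2 LD2_c22 LD3_c37)) :=
  (Llr Lrot131 (Lpe (f704649 IH) (Lpe (K4.f109967 IH) (Lpr_dt (K4.f109965 IH) (Lpe (f156467 IH) (Lpe (K7.f24303 IH) (Lpr_gf (K7.f156460 IH) (Lpe (f128725 IH) (Lpr_dt (f127081 IH) (Lpr_gf (f708400 IH) (Lpe (f416192 IH) (Lpe (f416176 IH) (Lpn (LP (LK LD1_c2 LD2_c22 LD3_c37))))))))))))))).symm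
theorem f708439 : v6271 = (LP (LK LD1_c4 LD2_c49 LD3_c43)) :=
  Lefun (Lecon (f704658 IH) (f708438 IH)) (f416233 IH)
theorem f708447 : (LP (LK LD1_c6 LD2_c32 LD3_c43)) = v13897 :=
  Lefun (Lecon (Lfl_cf (f652518 IH)) (f708439 IH)) (f705764 IH)
theorem f708458 : (LP (LK LD1_c6 LD2_c49 LD3_c41)) = v13313 :=
  Lefun (Lecon (Lfl_gt (f705766 IH)) (f708447 IH).symm) (Lfl_gt (f702297 IH))
theorem f120195 : Led Lsl_et (LP (LK LD1_c4 LD2_c43 LD3_c5)) = (LP (LK LD1_c2 LD2_c19 LD3_c10)) :=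
  Lre_e IH (LK LD1_c4 LD2_c43 LD3_c5) (LK LD1_c2 LD2_c19 LD3_c10) Lrfl Lrfl
theorem f129602 : Led Lsl_df (LP (LK LD1_c4 LD2_c43 LD3_c5)) = (LP (LK LD1_c3 LD2_c12 LD3_c6)) :=
  Lgr Lrot70 (Lpr_et (f120195 IH) (Lpr_dt (K4.f120180 IH) (Lpr_et (K5.f125322 IH) (Lpr_dt (K5.f129596 IH) (Lpr_et (K4.f62922 IH) (Lpn (LP (LK LD1_c3 LD2_c12 LD3_c6))))))))
theorem f62913 : Led Lsl_gt (LP (LK LD1_c3 LD2_c12 LD3_c6)) = (LP (LK LD1_c6 LD2_c28 LD3_c17)) :=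
  Lre_g IH (LK LD1_c3 LD2_c12 LD3_c6) (LK LD1_c6 LD2_c28 LD3_c17) Lrfl Lrfl
theorem f708461 : Led Lsl_cf (LP (LK LD1_c9 LD2_c21 LD3_c5)) = (LP (LK LD1_c6 LD2_c28 LD3_c17)) :=
  Lgr Lrot169 (Lpr_gt (f703044 IH) (Lpqs (f708095 IH) (Lpr_ct (f502983 IH) (Lpq (K49.f674264 IH) (Lpe (K49.f509548 IH) (Lpe (f495174 IH) (Lpq (f708038 IH) (Lpe (f703022 IH) (Lpq (f708064 IH) (Lpe (K46.f653351 IH) (Lpqs (f708458 IH) (Lpe (f702288 IH) (Lpr_df (f129602 IH) (Lpr_gt (f62913 IH) (Lpn (LP (LK LD1_c6 LD2_c28 LD3_c17)))))))))))))))))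
theorem f708462 : Led Lsl_ct (LP (LK LD1_c6 LD2_c28 LD3_c17)) = (LP (LK LD1_c9 LD2_c21 LD3_c5)) :=
  Leop (Lpr_cf (f708461 IH) (Lpn (LP (LK LD1_c6 LD2_c28 LD3_c17))))
theorem seed_727 : LEOK LG_c (LK LD1_c6 LD2_c28 LD3_c17) :=
  Leoe_c (LK LD1_c6 LD2_c28 LD3_c17) (f708462 IH)
theorem f650543 : Led Lsl_ct (LP (LK LD1_c3 LD2_c18 LD3_c31)) = (LP (LK LD1_c6 LD2_c40 LD3_c58)) :=
  Lre_c IH (LK LD1_c3 LD2_c18 LD3_c31) (LK LD1_c6 LD2_c40 LD3_c58) Lrfl Lrfl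
theorem f207468 : Led Lsl_dt (LP (LK LD1_c6 LD2_c30 LD3_c27)) = (LP (LK LD1_c6 LD2_c25 LD3_c40)) :=
  Lgr Lrot42 (Lpr_df (K48.f207465 IH) (Lpn (LP (LK LD1_c6 LD2_c25 LD3_c40))))
def v5829 : LQ := Led Lsl_gf (LP (LK LD1_c3 LD2_c13 LD3_c52))
theorem f649695 : Led Lsl_gf (LP (LK LD1_c3 LD2_c13 LD3_c52)) = v5829 :=
  Lrfl
theorem f649696 : Led Lsl_gt (LP (LK LD1_c6 LD2_c25 LD3_c40)) = v5829 :=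
  Lgr Lrot5 (Lpr_ft (K48.f128397 IH) (Lpe (K24.f207455 IH) (Lpr_gf (f649695 IH) (Lpn v5829))))
def v6162 : LQ := Led Lsl_bt (LP (LK LD1_c3 LD2_c18 LD3_c31))
theorem f651578 : Led Lsl_bt (LP (LK LD1_c3 LD2_c18 LD3_c31)) = v6162 :=
  Lrfl
theorem f651582 : Led Lsl_ff K46.v2097 = v6162 :=
  Lgr Lrot25 (Lpr_bt (K46.f650556 IH) (Lpe (K46.f650550 IH) (Lpr_bt (f651578 IH) (Lpn v6162))))
theorem f651583 : Led Lsl_at K46.v2100 = v6162 :=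
  Lgr Lrot66 (Lpe (K46.f508848 IH) (Lpr_af (K46.f508835 IH) (Lpr_ff (f651582 IH) (Lpn v6162))))
theorem f651586 : Led Lsl_gt K49.v2095 = v6162 :=
  Lgr Lrot46 (Lpe (K49.f508828 IH) (Lpr_ft (K46.f508848 IH) (Lpr_at (f651583 IH) (Lpn v6162))))
def v13317 : LQ := Led Lsl_gf (LP (LK LD1_c4 LD2_c43 LD3_c6))
theorem f702305 : Led Lsl_gf (LP (LK LD1_c4 LD2_c43 LD3_c6)) = v13317 :=
  Lrfl
theorem f708463 : (LP (LK LD1_c6 LD2_c40 LD3_c58)) = v13317 :=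
  (Llr Lrot64 (Lpe (f650543 IH) (Lpr_bt (f651578 IH) (Lpe (f651586 IH) (Lpq (K49.f653976 IH) (Lpe (K49.f509545 IH) (Lpr_ct (K46.f495171 IH) (Lpq (f708038 IH) (Lpe (f703022 IH) (Lpq (f708064 IH) (Lpe (K46.f653351 IH) (Lpqs (f708458 IH) (Lpe (f702288 IH) (Lpe (f120612 IH) (Lpr_ct (K4.f120149 IH) (Lpr_gf (f702305 IH) (Lpn v13317))))))))))))))))).symm
theorem f62917 : Led Lsl_ct (LP (LK LD1_c3 LD2_c12 LD3_c10)) = (LP (LK LD1_c1 LD2_c32 LD3_c36)) :=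
  Lre_c IH (LK LD1_c3 LD2_c12 LD3_c10) (LK LD1_c1 LD2_c32 LD3_c36) Lrfl Lrfl
theorem f131515 : Led Lsl_gt (LP (LK LD1_c6 LD2_c28 LD3_c26)) = (LP (LK LD1_c3 LD2_c12 LD3_c10)) :=
  Lre_g IH (LK LD1_c6 LD2_c28 LD3_c26) (LK LD1_c3 LD2_c12 LD3_c10) Lrfl Lrfl
theorem f708466 : Led Lsl_ct v5829 = (LP (LK LD1_c6 LD2_c28 LD3_c26)) :=
  Lgr Lrot152 (Lpe (f649696 IH) (Lpe (f207468 IH) (Lpq (K48.f663068 IH) (Lpe (K48.f650542 IH) (Lpr_ct (f650543 IH) (Lpqs (f708463 IH) (Lpe (f702305 IH) (Lpr_ct (K4.f120136 IH) (Lpr_df (K5.f131513 IH) (Lpe (f62917 IH) (Lpe (f131515 IH) (Lpn (LP (LK LD1_c6 LD2_c28 LD3_c26))))))))))))))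
theorem f708471 : Led Lsl_cf v5829 = (LP (LK LD1_c6 LD2_c28 LD3_c26)) :=
  Lgr Lrot11 (Lpr_ct (f708466 IH) (Lpn (LP (LK LD1_c6 LD2_c28 LD3_c26))))
theorem f140040 : Led Lsl_bt (LP (LK LD1_c3 LD2_c2 LD3_c18)) = (LP (LK LD1_c1 LD2_c27 LD3_c8)) :=
  Lre_b IH (LK LD1_c3 LD2_c2 LD3_c18) (LK LD1_c1 LD2_c27 LD3_c8) Lrfl Lrfl
theorem f646709 : Led Lsl_bt K32.v1787 = K48.v5232 :=
  Lgr Lrot35 (Lpe (K32.f502897 IH) (Lpe (f140040 IH) (Lpr_ff (K48.f646708 IH) (Lpn K48.v5232))))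
theorem f663209 : K48.v5232 = (LP (LK LD1_c6 LD2_c10 LD3_c16)) :=
  Lefun (Lecon (f646709 IH) (K49.f663204 IH).symm) (K48.f646474 IH)
theorem f663300 : (LP (LK LD1_c6 LD2_c11 LD3_c26)) = v5829 :=
  (Llr Lrot26 (Lpe (K48.f502918 IH) (Lpr_ff (K48.f646708 IH) (Lpqs (f663209 IH) (Lpqs (K48.f663119 IH) (Lpr_gt (K48.f649703 IH) (Lpr_gt (f649696 IH) (Lpn v5829)))))))).symm
theorem f140041 : Led Lsl_ct (LP (LK LD1_c3 LD2_c2 LD3_c18)) = (LP (LK LD1_c6 LD2_c11 LD3_c27)) :=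
  Lre_c IH (LK LD1_c3 LD2_c2 LD3_c18) (LK LD1_c6 LD2_c11 LD3_c27) Lrfl Lrfl
theorem f708473 : Led Lsl_at (LP (LK LD1_c6 LD2_c11 LD3_c27)) = (LP (LK LD1_c6 LD2_c28 LD3_c26)) :=
  Lgr Lrot107 (Lpe (f140041 IH) (Lpe (K48.f502917 IH) (Lpqs (f663300 IH) (Lpr_cf (f708471 IH) (Lpn (LP (LK LD1_c6 LD2_c28 LD3_c26)))))))
theorem f110473 : Led Lsl_ct (LP (LK LD1_c1 LD2_c29 LD3_c52)) = (LP (LK LD1_c3 LD2_c7 LD3_c14)) :=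
  Lre_c IH (LK LD1_c1 LD2_c29 LD3_c52) (LK LD1_c3 LD2_c7 LD3_c14) Lrfl Lrfl
theorem f131504 : Led Lsl_at (LP (LK LD1_c3 LD2_c7 LD3_c14)) = (LP (LK LD1_c3 LD2_c12 LD3_c10)) :=
  Lgr Lrot107 (Lpe (f110473 IH) (Lpr_af (K5.f131498 IH) (Lpe (f62917 IH) (Lpn (LP (LK LD1_c3 LD2_c12 LD3_c10))))))
theorem f128478 : Led Lsl_ft (LP (LK LD1_c6 LD2_c19 LD3_c32)) = (LP (LK LD1_c3 LD2_c7 LD3_c14)) :=
  Lre_f IH (LK LD1_c6 LD2_c19 LD3_c32) (LK LD1_c3 LD2_c7 LD3_c14) Lrfl Lrfl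
theorem f439725 : Led Lsl_gt (LP (LK LD1_c6 LD2_c19 LD3_c32)) = (LP (LK LD1_c6 LD2_c28 LD3_c26)) :=
  Lgr Lrot5 (Lpr_ft (f128478 IH) (Lpr_at (f131504 IH) (Lpe (f131515 IH) (Lpn (LP (LK LD1_c6 LD2_c28 LD3_c26))))))
theorem f112054 : Led Lsl_ct (LP (LK LD1_c3 LD2_c12 LD3_c13)) = (LP (LK LD1_c6 LD2_c28 LD3_c27)) :=
  Lre_c IH (LK LD1_c3 LD2_c12 LD3_c13) (LK LD1_c6 LD2_c28 LD3_c27) Lrfl Lrfl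
theorem f131495 : Led Lsl_af (LP (LK LD1_c6 LD2_c19 LD3_c32)) = (LP (LK LD1_c6 LD2_c28 LD3_c27)) :=
  Lgr Lrot68 (Lpr_ct (K5.f128467 IH) (Lpr_at (K5.f131487 IH) (Lpr_ct (f112054 IH) (Lpn (LP (LK LD1_c6 LD2_c28 LD3_c27))))))
theorem f436006 : Led Lsl_gt (LP (LK LD1_c3 LD2_c12 LD3_c10)) = (LP (LK LD1_c6 LD2_c28 LD3_c25)) :=
  Lre_g IH (LK LD1_c3 LD2_c12 LD3_c10) (LK LD1_c6 LD2_c28 LD3_c25) Lrfl Lrfl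
theorem f439737 : Led Lsl_gf (LP (LK LD1_c6 LD2_c19 LD3_c32)) = (LP (LK LD1_c6 LD2_c28 LD3_c25)) :=
  Lgr Lrot76 (Lpr_af (f131495 IH) (Lpe (K4.f112048 IH) (Lpr_gt (f436006 IH) (Lpn (LP (LK LD1_c6 LD2_c28 LD3_c25))))))
theorem f708477 : Led Lsl_ff (LP (LK LD1_c6 LD2_c11 LD3_c27)) = (LP (LK LD1_c6 LD2_c28 LD3_c25)) :=
  Lgr Lrot52 (Lpr_at (f708473 IH) (Lpe (f439725 IH) (Lpr_gf (f439737 IH) (Lpn (LP (LK LD1_c6 LD2_c28 LD3_c25))))))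
theorem f646697 : Led Lsl_ct (LP (LK LD1_c6 LD2_c11 LD3_c27)) = (LP (LK LD1_c3 LD2_c2 LD3_c18)) :=
  Lre_c IH (LK LD1_c6 LD2_c11 LD3_c27) (LK LD1_c3 LD2_c2 LD3_c18) Lrfl Lrfl
theorem f708479 : Led Lsl_ct K48.v5232 = (LP (LK LD1_c6 LD2_c28 LD3_c25)) :=
  Lgr Lrot40 (Lpe (K48.f646706 IH) (Lpe (f646697 IH) (Lpr_ff (f708477 IH) (Lpn (LP (LK LD1_c6 LD2_c28 LD3_c25))))))
theorem f61061 : Led Lsl_bt (LP (LK LD1_c6 LD2_c10 LD3_c16)) = (LP (LK LD1_c3 LD2_c1 LD3_c45)) :=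
  Lre_b IH (LK LD1_c6 LD2_c10 LD3_c16) (LK LD1_c3 LD2_c1 LD3_c45) Lrfl Lrfl
theorem f61060 : Led Lsl_gt (LP (LK LD1_c3 LD2_c1 LD3_c45)) = (LP (LK LD1_c1 LD2_c27 LD3_c9)) :=
  Lre_g IH (LK LD1_c3 LD2_c1 LD3_c45) (LK LD1_c1 LD2_c27 LD3_c9) Lrfl Lrfl
theorem f504422 : Led Lsl_gt (LP (LK LD1_c3 LD2_c2 LD3_c13)) = (LP (LK LD1_c6 LD2_c10 LD3_c14)) :=
  Lre_g IH (LK LD1_c3 LD2_c2 LD3_c13) (LK LD1_c6 LD2_c10 LD3_c14) Lrfl Lrfl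
def v7343 : LQ := Led Lsl_bt (LP (LK LD1_c3 LD2_c45 LD3_c21))
theorem f664654 : Led Lsl_bt (LP (LK LD1_c3 LD2_c45 LD3_c21)) = v7343 :=
  Lrfl
theorem f62906 : Led Lsl_ct (LP (LK LD1_c1 LD2_c32 LD3_c36)) = (LP (LK LD1_c3 LD2_c12 LD3_c10)) :=
  Lre_c IH (LK LD1_c1 LD2_c32 LD3_c36) (LK LD1_c3 LD2_c12 LD3_c10) Lrfl Lrfl
theorem f62916 : Led Lsl_bt (LP (LK LD1_c1 LD2_c32 LD3_c36)) = (LP (LK LD1_c3 LD2_c12 LD3_c6)) :=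
  Lre_b IH (LK LD1_c1 LD2_c32 LD3_c36) (LK LD1_c3 LD2_c12 LD3_c6) Lrfl Lrfl
theorem f62915 : Led Lsl_gt (LP (LK LD1_c6 LD2_c28 LD3_c18)) = (LP (LK LD1_c3 LD2_c12 LD3_c6)) :=
  Lre_g IH (LK LD1_c6 LD2_c28 LD3_c18) (LK LD1_c3 LD2_c12 LD3_c6) Lrfl Lrfl
theorem f708493 : v7343 = (LP (LK LD1_c6 LD2_c28 LD3_c18)) :=
  (Llr Lrot22 (Lpe (f664654 IH) (Lpe (K46.f651368 IH) (Lpe (f504422 IH) (Lpe (K46.f414315 IH) (Lpe (f61060 IH) (Lpe (f61061 IH) (Lpq (f663209 IH) (Lpr_ct (f708479 IH) (Lpe (f436006 IH) (Lpe (f62906 IH) (Lpr_bt (f62916 IH) (Lpe (f62915 IH) (Lpn (LP (LK LD1_c6 LD2_c28 LD3_c18)))))))))))))))).symm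
def v7342 : LQ := Led Lsl_ft (LP (LK LD1_c3 LD2_c45 LD3_c20))
theorem f664648 : Led Lsl_ft (LP (LK LD1_c3 LD2_c45 LD3_c20)) = v7342 :=
  Lrfl
def v7339 : LQ := Led Lsl_at (LP (LK LD1_c3 LD2_c45 LD3_c20))
theorem f664635 : Led Lsl_at (LP (LK LD1_c3 LD2_c45 LD3_c20)) = v7339 :=
  Lrfl
theorem f664636 : Led Lsl_af (LP (LK LD1_c3 LD2_c45 LD3_c20)) = v7339 :=
  Lgr Lrot0 (Lpr_at (f664635 IH) (Lpn v7339))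
theorem f664637 : Led Lsl_ft (LP (LK LD1_c3 LD2_c45 LD3_c21)) = v7339 :=
  Lgr Lrot2 (Lpr_gt (K46.f93354 IH) (Lpr_gt (K46.f94134 IH) (Lpr_af (f664636 IH) (Lpn v7339))))
theorem f664649 : Led Lsl_af (LP (LK LD1_c3 LD2_c45 LD3_c21)) = v7342 :=
  Lgr Lrot45 (Lpr_ft (f664637 IH) (Lpe (f664636 IH) (Lpr_ft (f664648 IH) (Lpn v7342))))
theorem f664651 : Led Lsl_ff (LP (LK LD1_c3 LD2_c45 LD3_c20)) = v7342 :=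
  Lgr Lrot3 (Lpr_ft (f664648 IH) (Lpn v7342))
def v5371 : LQ := Led Lsl_ft (LP (LK LD1_c3 LD2_c6 LD3_c56))
theorem f647282 : Led Lsl_ft (LP (LK LD1_c3 LD2_c6 LD3_c56)) = v5371 :=
  Lrfl
theorem f664653 : Led Lsl_bt v5371 = v7342 :=
  Lgr Lrot35 (Lpe (f647282 IH) (Lpr_bf (K46.f646446 IH) (Lpr_ff (f664651 IH) (Lpn v7342))))
theorem f647284 : Led Lsl_ff (LP (LK LD1_c3 LD2_c6 LD3_c56)) = v5371 :=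
  Lgr Lrot3 (Lpr_ft (f647282 IH) (Lpn v5371))
def v5369 : LQ := Led Lsl_at (LP (LK LD1_c3 LD2_c6 LD3_c56))
theorem f647275 : Led Lsl_at (LP (LK LD1_c3 LD2_c6 LD3_c56)) = v5369 :=
  Lrfl
theorem f647276 : Led Lsl_af (LP (LK LD1_c3 LD2_c6 LD3_c56)) = v5369 :=
  Lgr Lrot0 (Lpr_at (f647275 IH) (Lpn v5369))
theorem f647277 : Led Lsl_ft (LP (LK LD1_c3 LD2_c6 LD3_c57)) = v5369 :=
  Lgr Lrot2 (Lpr_gt (K2.f76876 IH) (Lpr_gt (K2.f76879 IH) (Lpr_af (f647276 IH) (Lpn v5369))))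
theorem f647278 : Led Lsl_ff (LP (LK LD1_c3 LD2_c6 LD3_c57)) = v5369 :=
  Lgr Lrot3 (Lpr_ft (f647277 IH) (Lpn v5369))
theorem f647285 : Led Lsl_at (LP (LK LD1_c3 LD2_c6 LD3_c57)) = v5371 :=
  Lgr Lrot66 (Lpr_ff (f647278 IH) (Lpe (f647275 IH) (Lpr_ff (f647284 IH) (Lpn v5371))))
theorem f66994 : Led Lsl_bt (LP (LK LD1_c6 LD2_c19 LD3_c4)) = (LP (LK LD1_c3 LD2_c6 LD3_c57)) :=
  Lre_b IH (LK LD1_c6 LD2_c19 LD3_c4) (LK LD1_c3 LD2_c6 LD3_c57) Lrfl Lrfl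
theorem f664655 : Led Lsl_af (LP (LK LD1_c6 LD2_c19 LD3_c4)) = v7343 :=
  Lgr Lrot36 (Lpr_bt (f66994 IH) (Lpr_at (f647285 IH) (Lpr_bt (f664653 IH) (Lpe (f664649 IH) (Lpr_bt (f664654 IH) (Lpn v7343))))))
theorem f708494 : Led Lsl_at (LP (LK LD1_c6 LD2_c28 LD3_c18)) = (LP (LK LD1_c6 LD2_c19 LD3_c4)) :=
  Leop (Lpr_af (f664655 IH) (Lpqs (f708493 IH) (Lpn (LP (LK LD1_c6 LD2_c28 LD3_c18)))))
theorem seed_728 : LEOK LG_a (LK LD1_c6 LD2_c28 LD3_c18) :=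
  Leoe_a (LK LD1_c6 LD2_c28 LD3_c18) (f708494 IH)
theorem f58313 : Led Lsl_dt (LP (LK LD1_c2 LD2_c20 LD3_c50)) = (LP (LK LD1_c4 LD2_c40 LD3_c22)) :=
  Lre_d IH (LK LD1_c2 LD2_c20 LD3_c50) (LK LD1_c4 LD2_c40 LD3_c22) Lrfl Lrfl
def v13152 : LQ := Led Lsl_gf (LP (LK LD1_c4 LD2_c40 LD3_c46))
theorem f701421 : Led Lsl_gf (LP (LK LD1_c4 LD2_c40 LD3_c46)) = v13152 :=
  Lrfl
theorem f701434 : Led Lsl_gt (LP (LK LD1_c4 LD2_c40 LD3_c49)) = v13152 :=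
  Lgr Lrot5 (Lpr_ft (K50.f701432 IH) (Lpe (K50.f701429 IH) (Lpr_gf (f701421 IH) (Lpn v13152))))
def v4435 : LQ := Led Lsl_gf (LP (LK LD1_c2 LD2_c21 LD3_c30))
theorem f633354 : Led Lsl_gf (LP (LK LD1_c2 LD2_c21 LD3_c30)) = v4435 :=
  Lrfl
theorem f633369 : Led Lsl_gt (LP (LK LD1_c2 LD2_c21 LD3_c32)) = v4435 :=
  Lgr Lrot5 (Lpr_ft (K35.f633366 IH) (Lpe (K35.f633362 IH) (Lpr_gf (f633354 IH) (Lpn v4435))))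
def v13684 : LQ := Led Lsl_dt (LP (LK LD1_c4 LD2_c47 LD3_c4))
theorem f704293 : Led Lsl_dt (LP (LK LD1_c4 LD2_c47 LD3_c4)) = v13684 :=
  Lrfl
theorem f704297 : Led Lsl_df (LP (LK LD1_c4 LD2_c47 LD3_c4)) = v13684 :=
  Lgr Lrot38 (Lpr_dt (f704293 IH) (Lpn v13684))
theorem f495077 : Led Lsl_dt (LP (LK LD1_c2 LD2_c21 LD3_c25)) = (LP (LK LD1_c4 LD2_c47 LD3_c5)) :=
  Lre_d IH (LK LD1_c2 LD2_c21 LD3_c25) (LK LD1_c4 LD2_c47 LD3_c5) Lrfl Lrfl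
theorem f633307 : Led Lsl_ct (LP (LK LD1_c4 LD2_c47 LD3_c5)) = (LP (LK LD1_c9 LD2_c27 LD3_c8)) :=
  Lre_c IH (LK LD1_c4 LD2_c47 LD3_c5) (LK LD1_c9 LD2_c27 LD3_c8) Lrfl Lrfl
theorem f633309 : Led Lsl_dt (LP (LK LD1_c4 LD2_c47 LD3_c5)) = (LP (LK LD1_c2 LD2_c21 LD3_c25)) :=
  Lre_d IH (LK LD1_c4 LD2_c47 LD3_c5) (LK LD1_c2 LD2_c21 LD3_c25) Lrfl Lrfl
theorem f110799 : Led Lsl_dt (LP (LK LD1_c4 LD2_c45 LD3_c22)) = (LP (LK LD1_c9 LD2_c23 LD3_c32)) :=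
  Lre_d IH (LK LD1_c4 LD2_c45 LD3_c22) (LK LD1_c9 LD2_c23 LD3_c32) Lrfl Lrfl
theorem f674449 : Led Lsl_ff (LP (LK LD1_c4 LD2_c47 LD3_c5)) = (LP (LK LD1_c9 LD2_c23 LD3_c32)) :=
  Lgr Lrot19 (Lpr_dt (f633309 IH) (Lpr_ft (K50.f633306 IH) (Lpq (K50.f674440 IH) (Lpr_dt (f110799 IH) (Lpn (LP (LK LD1_c9 LD2_c23 LD3_c32)))))))
theorem f674460 : Led Lsl_ft (LP (LK LD1_c4 LD2_c47 LD3_c5)) = (LP (LK LD1_c9 LD2_c23 LD3_c32)) :=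
  Lgr Lrot48 (Lpr_ff (f674449 IH) (Lpn (LP (LK LD1_c9 LD2_c23 LD3_c32))))
theorem f674466 : Led Lsl_ct (LP (LK LD1_c9 LD2_c27 LD3_c8)) = (LP (LK LD1_c4 LD2_c47 LD3_c5)) :=
  Lre_c IH (LK LD1_c9 LD2_c27 LD3_c8) (LK LD1_c4 LD2_c47 LD3_c5) Lrfl Lrfl
theorem f141127 : Led Lsl_ct (LP (LK LD1_c9 LD2_c23 LD3_c32)) = (LP (LK LD1_c17 LD2_c20 LD3_c19)) :=
  Lre_c IH (LK LD1_c9 LD2_c23 LD3_c32) (LK LD1_c17 LD2_c20 LD3_c19) Lrfl Lrfl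
theorem f674467 : Led Lsl_ff (LP (LK LD1_c9 LD2_c27 LD3_c8)) = (LP (LK LD1_c17 LD2_c20 LD3_c19)) :=
  Lgr Lrot23 (Lpr_ct (f674466 IH) (Lpr_ft (f674460 IH) (Lpr_ct (f141127 IH) (Lpn (LP (LK LD1_c17 LD2_c20 LD3_c19))))))
theorem f703585 : Led Lsl_et (LP (LK LD1_c9 LD2_c16 LD3_c53)) = (LP (LK LD1_c17 LD2_c11 LD3_c58)) :=
  Lre_e IH (LK LD1_c9 LD2_c16 LD3_c53) (LK LD1_c17 LD2_c11 LD3_c58) Lrfl Lrfl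
theorem f674459 : Led Lsl_et (LP (LK LD1_c17 LD2_c20 LD3_c20)) = (LP (LK LD1_c9 LD2_c23 LD3_c32)) :=
  Lre_e IH (LK LD1_c17 LD2_c20 LD3_c20) (LK LD1_c9 LD2_c23 LD3_c32) Lrfl Lrfl
theorem f703586 : Led Lsl_dt (LP (LK LD1_c17 LD2_c11 LD3_c58)) = (LP (LK LD1_c17 LD2_c20 LD3_c20)) :=
  Lgr Lrot77 (Lpe (f703585 IH) (Lpr_df (K50.f703581 IH) (Lpe (K50.f703577 IH) (Lpe (K50.f141130 IH) (Lpe (f674459 IH) (Lpn (LP (LK LD1_c17 LD2_c20 LD3_c20))))))))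
theorem f703592 : Led Lsl_df (LP (LK LD1_c17 LD2_c11 LD3_c58)) = (LP (LK LD1_c17 LD2_c20 LD3_c20)) :=
  Lgr Lrot38 (Lpr_dt (f703586 IH) (Lpn (LP (LK LD1_c17 LD2_c20 LD3_c20))))
theorem f495021 : Led Lsl_dt (LP (LK LD1_c9 LD2_c23 LD3_c33)) = (LP (LK LD1_c4 LD2_c45 LD3_c23)) :=
  Lre_d IH (LK LD1_c9 LD2_c23 LD3_c33) (LK LD1_c4 LD2_c45 LD3_c23) Lrfl Lrfl
theorem f633316 : Led Lsl_af (LP (LK LD1_c2 LD2_c21 LD3_c25)) = K50.v4428 :=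
  Lgr Lrot45 (Lpr_ft (K50.f633306 IH) (Lpe (K50.f633304 IH) (Lpr_ft (K50.f633315 IH) (Lpn K50.v4428))))
theorem f674613 : Led Lsl_af (LP (LK LD1_c9 LD2_c23 LD3_c33)) = (LP (LK LD1_c4 LD2_c47 LD3_c5)) :=
  Lgr Lrot117 (Lpr_dt (f495021 IH) (Lpq (K50.f674556 IH) (Lpe (f633316 IH) (Lpr_dt (f495077 IH) (Lpn (LP (LK LD1_c4 LD2_c47 LD3_c5)))))))
theorem f527253 : Led Lsl_dt (LP (LK LD1_c4 LD2_c47 LD3_c1)) = (LP (LK LD1_c2 LD2_c21 LD3_c24)) :=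
  Lre_d IH (LK LD1_c4 LD2_c47 LD3_c1) (LK LD1_c2 LD2_c21 LD3_c24) Lrfl Lrfl
theorem f98988 : Led Lsl_dt (LP (LK LD1_c4 LD2_c45 LD3_c23)) = (LP (LK LD1_c9 LD2_c23 LD3_c33)) :=
  Lre_d IH (LK LD1_c4 LD2_c45 LD3_c23) (LK LD1_c9 LD2_c23 LD3_c33) Lrfl Lrfl
theorem f674563 : Led Lsl_ff (LP (LK LD1_c4 LD2_c47 LD3_c1)) = (LP (LK LD1_c9 LD2_c23 LD3_c33)) :=
  Lgr Lrot19 (Lpr_dt (f527253 IH) (Lpr_ft (K50.f633315 IH) (Lpqs (K50.f674556 IH) (Lpr_dt (f98988 IH) (Lpn (LP (LK LD1_c9 LD2_c23 LD3_c33)))))))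
theorem f674626 : Led Lsl_at (LP (LK LD1_c4 LD2_c47 LD3_c1)) = (LP (LK LD1_c9 LD2_c23 LD3_c32)) :=
  Lgr Lrot66 (Lpr_ff (f674563 IH) (Lpr_af (f674613 IH) (Lpr_ff (f674449 IH) (Lpn (LP (LK LD1_c9 LD2_c23 LD3_c32))))))
theorem f674580 : Led Lsl_et (LP (LK LD1_c9 LD2_c27 LD3_c0)) = (LP (LK LD1_c4 LD2_c47 LD3_c1)) :=
  Lre_e IH (LK LD1_c9 LD2_c27 LD3_c0) (LK LD1_c4 LD2_c47 LD3_c1) Lrfl Lrfl
theorem f674471 : Led Lsl_et (LP (LK LD1_c9 LD2_c23 LD3_c32)) = (LP (LK LD1_c17 LD2_c20 LD3_c20)) :=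
  Lre_e IH (LK LD1_c9 LD2_c23 LD3_c32) (LK LD1_c17 LD2_c20 LD3_c20) Lrfl Lrfl
theorem f674632 : Led Lsl_af (LP (LK LD1_c9 LD2_c27 LD3_c0)) = (LP (LK LD1_c17 LD2_c20 LD3_c20)) :=
  Lgr Lrot50 (Lpr_et (f674580 IH) (Lpr_at (f674626 IH) (Lpr_et (f674471 IH) (Lpn (LP (LK LD1_c17 LD2_c20 LD3_c20))))))
theorem f674634 : Led Lsl_at (LP (LK LD1_c9 LD2_c27 LD3_c0)) = (LP (LK LD1_c17 LD2_c20 LD3_c20)) :=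
  Lgr Lrot100 (Lpr_af (f674632 IH) (Lpn (LP (LK LD1_c17 LD2_c20 LD3_c20))))
theorem f103220 : Led Lsl_dt (LP (LK LD1_c17 LD2_c25 LD3_c37)) = (LP (LK LD1_c9 LD2_c27 LD3_c0)) :=
  Lre_d IH (LK LD1_c17 LD2_c25 LD3_c37) (LK LD1_c9 LD2_c27 LD3_c0) Lrfl Lrfl
theorem f703597 : Led Lsl_at (LP (LK LD1_c17 LD2_c11 LD3_c58)) = (LP (LK LD1_c17 LD2_c25 LD3_c37)) :=
  Lgr Lrot51 (Lpr_df (f703592 IH) (Lpe (f674634 IH) (Lpe (f103220 IH) (Lpn (LP (LK LD1_c17 LD2_c25 LD3_c37))))))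
theorem f103219 : Led Lsl_et (LP (LK LD1_c17 LD2_c25 LD3_c37)) = (LP (LK LD1_c9 LD2_c27 LD3_c1)) :=
  Lre_e IH (LK LD1_c17 LD2_c25 LD3_c37) (LK LD1_c9 LD2_c27 LD3_c1) Lrfl Lrfl
theorem f703600 : Led Lsl_af (LP (LK LD1_c9 LD2_c16 LD3_c53)) = (LP (LK LD1_c9 LD2_c27 LD3_c1)) :=
  Lgr Lrot50 (Lpr_et (f703585 IH) (Lpr_at (f703597 IH) (Lpr_et (f103219 IH) (Lpn (LP (LK LD1_c9 LD2_c27 LD3_c1))))))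
theorem f444313 : Led Lsl_gt (LP (LK LD1_c9 LD2_c16 LD3_c52)) = (LP (LK LD1_c17 LD2_c10 LD3_c43)) :=
  Lre_g IH (LK LD1_c9 LD2_c16 LD3_c52) (LK LD1_c17 LD2_c10 LD3_c43) Lrfl Lrfl
theorem f703604 : Led Lsl_ft (LP (LK LD1_c9 LD2_c16 LD3_c52)) = (LP (LK LD1_c9 LD2_c27 LD3_c1)) :=
  Lgr Lrot2 (Lpr_gt (f444313 IH) (Lpr_gt (K50.f79501 IH) (Lpr_af (f703600 IH) (Lpn (LP (LK LD1_c9 LD2_c27 LD3_c1))))))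
theorem f703615 : Led Lsl_ff (LP (LK LD1_c9 LD2_c16 LD3_c52)) = (LP (LK LD1_c9 LD2_c27 LD3_c1)) :=
  Lgr Lrot3 (Lpr_ft (f703604 IH) (Lpn (LP (LK LD1_c9 LD2_c27 LD3_c1))))
theorem f701334 : Led Lsl_ct (LP (LK LD1_c9 LD2_c16 LD3_c52)) = (LP (LK LD1_c17 LD2_c11 LD3_c55)) :=
  Lre_c IH (LK LD1_c9 LD2_c16 LD3_c52) (LK LD1_c17 LD2_c11 LD3_c55) Lrfl Lrfl
theorem f103209 : Led Lsl_ct (LP (LK LD1_c17 LD2_c25 LD3_c39)) = (LP (LK LD1_c9 LD2_c27 LD3_c1)) :=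
  Lre_c IH (LK LD1_c17 LD2_c25 LD3_c39) (LK LD1_c9 LD2_c27 LD3_c1) Lrfl Lrfl
theorem f703620 : Led Lsl_ft (LP (LK LD1_c17 LD2_c11 LD3_c55)) = (LP (LK LD1_c17 LD2_c25 LD3_c39)) :=
  Lgr Lrot4 (Lpe (f701334 IH) (Lpr_ff (f703615 IH) (Lpe (f103209 IH) (Lpn (LP (LK LD1_c17 LD2_c25 LD3_c39))))))
theorem f704250 : Led Lsl_dt (LP (LK LD1_c9 LD2_c27 LD3_c8)) = (LP (LK LD1_c17 LD2_c11 LD3_c55)) :=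
  Lgr Lrot60 (Lpr_ff (f674467 IH) (Lpr_df (K50.f704242 IH) (Lpe (f703620 IH) (Lpn (LP (LK LD1_c17 LD2_c11 LD3_c55))))))
theorem f703609 : Led Lsl_ct (LP (LK LD1_c17 LD2_c11 LD3_c55)) = (LP (LK LD1_c9 LD2_c16 LD3_c52)) :=
  Lre_c IH (LK LD1_c17 LD2_c11 LD3_c55) (LK LD1_c9 LD2_c16 LD3_c52) Lrfl Lrfl
def v13682 : LQ := Led Lsl_ft (LP (LK LD1_c4 LD2_c47 LD3_c2))
theorem f704279 : Led Lsl_ft (LP (LK LD1_c4 LD2_c47 LD3_c2)) = v13682 :=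
  Lrfl
theorem f704282 : Led Lsl_ff (LP (LK LD1_c4 LD2_c47 LD3_c2)) = v13682 :=
  Lgr Lrot3 (Lpr_ft (f704279 IH) (Lpn v13682))
theorem f704284 : Led Lsl_dt (LP (LK LD1_c9 LD2_c16 LD3_c52)) = v13682 :=
  Lgr Lrot60 (Lpr_ff (f703615 IH) (Lpe (K50.f103202 IH) (Lpr_ff (f704282 IH) (Lpn v13682))))
theorem f704241 : Led Lsl_ft K50.v13677 = K50.v13678 :=
  Lgr Lrot48 (Lpr_ff (K50.f704239 IH) (Lpn K50.v13678))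
theorem f704280 : Led Lsl_cf K50.v13677 = v13682 :=
  Lgr Lrot108 (Lpr_ft (f704241 IH) (Lpe (K50.f704232 IH) (Lpr_ft (f704279 IH) (Lpn v13682))))
theorem f441950 : Led Lsl_dt (LP (LK LD1_c2 LD2_c21 LD3_c24)) = (LP (LK LD1_c4 LD2_c47 LD3_c1)) :=
  Lre_d IH (LK LD1_c2 LD2_c21 LD3_c24) (LK LD1_c4 LD2_c47 LD3_c1) Lrfl Lrfl
theorem f633318 : Led Lsl_ct (LP (LK LD1_c4 LD2_c47 LD3_c1)) = (LP (LK LD1_c9 LD2_c26 LD3_c61)) :=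
  Lre_c IH (LK LD1_c4 LD2_c47 LD3_c1) (LK LD1_c9 LD2_c26 LD3_c61) Lrfl Lrfl
theorem f674577 : Led Lsl_ct (LP (LK LD1_c9 LD2_c26 LD3_c61)) = (LP (LK LD1_c4 LD2_c47 LD3_c1)) :=
  Lre_c IH (LK LD1_c9 LD2_c26 LD3_c61) (LK LD1_c4 LD2_c47 LD3_c1) Lrfl Lrfl
theorem f674630 : Led Lsl_af (LP (LK LD1_c9 LD2_c26 LD3_c61)) = (LP (LK LD1_c17 LD2_c20 LD3_c19)) :=
  Lgr Lrot68 (Lpr_ct (f674577 IH) (Lpr_at (f674626 IH) (Lpr_ct (f141127 IH) (Lpn (LP (LK LD1_c17 LD2_c20 LD3_c19))))))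
theorem f701383 : Led Lsl_ct (LP (LK LD1_c9 LD2_c16 LD3_c53)) = (LP (LK LD1_c17 LD2_c11 LD3_c57)) :=
  Lre_c IH (LK LD1_c9 LD2_c16 LD3_c53) (LK LD1_c17 LD2_c11 LD3_c57) Lrfl Lrfl
theorem f703602 : Led Lsl_at (LP (LK LD1_c17 LD2_c11 LD3_c57)) = (LP (LK LD1_c17 LD2_c25 LD3_c39)) :=
  Lgr Lrot107 (Lpe (f701383 IH) (Lpr_af (f703600 IH) (Lpe (f103209 IH) (Lpn (LP (LK LD1_c17 LD2_c25 LD3_c39))))))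
theorem f704244 : Led Lsl_dt (LP (LK LD1_c9 LD2_c26 LD3_c61)) = (LP (LK LD1_c17 LD2_c11 LD3_c57)) :=
  Lgr Lrot44 (Lpr_af (f674630 IH) (Lpr_df (K50.f704242 IH) (Lpe (f703602 IH) (Lpn (LP (LK LD1_c17 LD2_c11 LD3_c57))))))
theorem f703588 : Led Lsl_ct (LP (LK LD1_c17 LD2_c11 LD3_c57)) = (LP (LK LD1_c9 LD2_c16 LD3_c53)) :=
  Lre_c IH (LK LD1_c17 LD2_c11 LD3_c57) (LK LD1_c9 LD2_c16 LD3_c53) Lrfl Lrfl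
theorem f703584 : Led Lsl_dt (LP (LK LD1_c9 LD2_c16 LD3_c53)) = K50.v13551 :=
  Lgr Lrot42 (Lpr_df (K50.f703581 IH) (Lpn K50.v13551))
theorem f704300 : Led Lsl_ct K50.v13551 = v13684 :=
  Lgr Lrot176 (Lpe (f703584 IH) (Lpe (f703588 IH) (Lpe (f704244 IH) (Lpe (f633318 IH) (Lpe (f441950 IH) (Lpe (K49.f66044 IH) (Lpr_df (K50.f704227 IH) (Lpr_cf (f704280 IH) (Lpe (f704284 IH) (Lpe (f703609 IH) (Lpe (f704250 IH) (Lpe (f633307 IH) (Lpe (f495077 IH) (Lpe (K50.f416243 IH) (Lpr_df (f704297 IH) (Lpn v13684))))))))))))))))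
theorem f704301 : Led Lsl_ef (LP (LK LD1_c6 LD2_c49 LD3_c6)) = v13684 :=
  Lgr Lrot28 (Lpe (K50.f141114 IH) (Lpr_et (K50.f703577 IH) (Lpr_ct (f704300 IH) (Lpn v13684))))
def v13676 : LQ := Led Lsl_gf (LP (LK LD1_c4 LD2_c47 LD3_c0))
theorem f704220 : Led Lsl_gf (LP (LK LD1_c4 LD2_c47 LD3_c0)) = v13676 :=
  Lrfl
theorem f704221 : Led Lsl_gt (LP (LK LD1_c4 LD2_c47 LD3_c4)) = v13676 :=
  Lgr Lrot5 (Lpr_ft (K50.f674527 IH) (Lpr_at (K50.f674438 IH) (Lpr_gf (f704220 IH) (Lpn v13676))))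
theorem f703140 : Led Lsl_ff (LP (LK LD1_c4 LD2_c44 LD3_c15)) = v13463 :=
  Lgr Lrot3 (Lpr_ft (f703135 IH) (Lpn v13463))
theorem f703142 : Led Lsl_at v5927 = v13463 :=
  Lgr Lrot66 (Lpe (f650086 IH) (Lpe (f439664 IH) (Lpr_ff (f703140 IH) (Lpn v13463))))
def v5925 : LQ := Led Lsl_gt (LP (LK LD1_c3 LD2_c15 LD3_c2))
theorem f650084 : Led Lsl_gt (LP (LK LD1_c3 LD2_c15 LD3_c2)) = v5925 :=
  Lrfl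
theorem f703147 : Led Lsl_gt v5925 = v13463 :=
  Lgr Lrot46 (Lpe (f650084 IH) (Lpr_ft (f650086 IH) (Lpr_at (f703142 IH) (Lpn v13463))))
theorem f504147 : Led Lsl_gt (LP (LK LD1_c4 LD2_c41 LD3_c2)) = (LP (LK LD1_c9 LD2_c17 LD3_c32)) :=
  Lre_g IH (LK LD1_c4 LD2_c41 LD3_c2) (LK LD1_c9 LD2_c17 LD3_c32) Lrfl Lrfl
def v13180 : LQ := Led Lsl_gf (LP (LK LD1_c4 LD2_c41 LD3_c2))
theorem f701538 : Led Lsl_gf (LP (LK LD1_c4 LD2_c41 LD3_c2)) = v13180 :=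
  Lrfl
theorem f61057 : Led Lsl_bt (LP (LK LD1_c2 LD2_c17 LD3_c34)) = (LP (LK LD1_c1 LD2_c5 LD3_c42)) :=
  Lre_b IH (LK LD1_c2 LD2_c17 LD3_c34) (LK LD1_c1 LD2_c5 LD3_c42) Lrfl Lrfl
theorem f61058 : Led Lsl_ct (LP (LK LD1_c2 LD2_c17 LD3_c34)) = (LP (LK LD1_c4 LD2_c41 LD3_c2)) :=
  Lre_c IH (LK LD1_c2 LD2_c17 LD3_c34) (LK LD1_c4 LD2_c41 LD3_c2) Lrfl Lrfl
theorem f62908 : Led Lsl_cf (LP (LK LD1_c3 LD2_c15 LD3_c2)) = (LP (LK LD1_c3 LD2_c12 LD3_c6)) :=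
  Lgr Lrot11 (Lpr_ct (f62902 IH) (Lpn (LP (LK LD1_c3 LD2_c12 LD3_c6))))
theorem f708498 : v13180 = (LP (LK LD1_c3 LD2_c15 LD3_c2)) :=
  (Llr Lrot129 (Lpe (f701538 IH) (Lpe (f61058 IH) (Lpr_bt (f61057 IH) (Lpr_gt (K0.f23216 IH) (Lpe (K46.f414314 IH) (Lpr_ct (K46.f414315 IH) (Lpr_gt (f504422 IH) (Lpr_cf (K46.f651368 IH) (Lpr_bt (f664654 IH) (Lpqs (f708493 IH) (Lpr_gt (f62915 IH) (Lpe (f62908 IH) (Lpn (LP (LK LD1_c3 LD2_c15 LD3_c2)))))))))))))))).symm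
theorem f708499 : (LP (LK LD1_c4 LD2_c41 LD3_c2)) = v5925 :=
  Lefun (Lecon (Lfl_gf (f701538 IH)) (f708498 IH)) (f650084 IH)
theorem f708503 : v13463 = (LP (LK LD1_c9 LD2_c17 LD3_c32)) :=
  Lefun (Lecon (f703147 IH) (f708499 IH).symm) (f504147 IH)
theorem f703144 : Led Lsl_ct (LP (LK LD1_c12 LD2_c0 LD3_c4)) = v13463 :=
  Lgr Lrot40 (Lpe (K5.f127056 IH) (Lpr_cf (K28.f127069 IH) (Lpr_ff (f703140 IH) (Lpn v13463))))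
theorem f131485 : Led Lsl_at (LP (LK LD1_c6 LD2_c19 LD3_c26)) = (LP (LK LD1_c9 LD2_c21 LD3_c59)) :=
  Lgr Lrot100 (Lpr_af (K5.f131481 IH) (Lpn (LP (LK LD1_c9 LD2_c21 LD3_c59))))
theorem f110479 : Led Lsl_ft (LP (LK LD1_c3 LD2_c7 LD3_c11)) = (LP (LK LD1_c6 LD2_c19 LD3_c26)) :=
  Lre_f IH (LK LD1_c3 LD2_c7 LD3_c11) (LK LD1_c6 LD2_c19 LD3_c26) Lrfl Lrfl
theorem f110466 : Led Lsl_gt (LP (LK LD1_c3 LD2_c7 LD3_c11)) = (LP (LK LD1_c6 LD2_c19 LD3_c24)) :=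
  Lre_g IH (LK LD1_c3 LD2_c7 LD3_c11) (LK LD1_c6 LD2_c19 LD3_c24) Lrfl Lrfl
theorem f439743 : Led Lsl_gt (LP (LK LD1_c6 LD2_c19 LD3_c24)) = (LP (LK LD1_c9 LD2_c21 LD3_c59)) :=
  Lgr Lrot46 (Lpe (f110466 IH) (Lpr_ft (f110479 IH) (Lpr_at (f131485 IH) (Lpn (LP (LK LD1_c9 LD2_c21 LD3_c59))))))
theorem f502976 : Led Lsl_bt (LP (LK LD1_c3 LD2_c2 LD3_c58)) = (LP (LK LD1_c6 LD2_c12 LD3_c36)) :=
  Lre_b IH (LK LD1_c3 LD2_c2 LD3_c58) (LK LD1_c6 LD2_c12 LD3_c36) Lrfl Lrfl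
theorem f504110 : Led Lsl_bt (LP (LK LD1_c9 LD2_c17 LD3_c33)) = (LP (LK LD1_c4 LD2_c41 LD3_c2)) :=
  Lre_b IH (LK LD1_c9 LD2_c17 LD3_c33) (LK LD1_c4 LD2_c41 LD3_c2) Lrfl Lrfl
theorem f504111 : Led Lsl_ff (LP (LK LD1_c3 LD2_c2 LD3_c58)) = (LP (LK LD1_c4 LD2_c41 LD3_c2)) :=
  Lgr Lrot25 (Lpr_bt (f502976 IH) (Lpr_ft (K50.f504107 IH) (Lpr_bt (f504110 IH) (Lpn (LP (LK LD1_c4 LD2_c41 LD3_c2))))))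
theorem f504144 : Led Lsl_at (LP (LK LD1_c3 LD2_c2 LD3_c58)) = (LP (LK LD1_c6 LD2_c12 LD3_c34)) :=
  Lre_a IH (LK LD1_c3 LD2_c2 LD3_c58) (LK LD1_c6 LD2_c12 LD3_c34) Lrfl Lrfl
theorem f504148 : Led Lsl_gf (LP (LK LD1_c6 LD2_c12 LD3_c34)) = (LP (LK LD1_c9 LD2_c17 LD3_c32)) :=
  Lgr Lrot76 (Lpe (f504144 IH) (Lpr_ff (f504111 IH) (Lpr_gt (f504147 IH) (Lpn (LP (LK LD1_c9 LD2_c17 LD3_c32))))))
theorem f504150 : Led Lsl_ct (LP (LK LD1_c3 LD2_c2 LD3_c57)) = (LP (LK LD1_c6 LD2_c12 LD3_c34)) :=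
  Lre_c IH (LK LD1_c3 LD2_c2 LD3_c57) (LK LD1_c6 LD2_c12 LD3_c34) Lrfl Lrfl
theorem f632218 : Led Lsl_bt (LP (LK LD1_c3 LD2_c2 LD3_c57)) = K48.v4252 :=
  Lgr Lrot35 (Lpr_ff (K49.f632190 IH) (Lpe (K49.f632199 IH) (Lpr_ff (K48.f632214 IH) (Lpn K48.v4252))))
theorem f701340 : Led Lsl_bt (LP (LK LD1_c6 LD2_c52 LD3_c44)) = K50.v13143 :=
  Lgr Lrot127 (Lpr_bf (K50.f701339 IH) (Lpn K50.v13143))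
theorem f708519 : (LP (LK LD1_c6 LD2_c19 LD3_c24)) = K50.v13143 :=
  (Llr Lrot124 (Lpr_gt (f439743 IH) (Lpe (K5.f127057 IH) (Lpr_ct (f703144 IH) (Lpqs (f708503 IH) (Lpe (f504148 IH) (Lpe (f504150 IH) (Lpr_bt (f632218 IH) (Lpqs (f662783 IH) (Lpr_gt (K48.f148104 IH) (Lpr_ct (K46.f209493 IH) (Lpr_gt (K50.f148142 IH) (Lpr_cf (K50.f663144 IH) (Lpr_bt (f701340 IH) (Lpn K50.v13143))))))))))))))).symm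
theorem f495058 : Led Lsl_ct (LP (LK LD1_c2 LD2_c21 LD3_c25)) = (LP (LK LD1_c4 LD2_c47 LD3_c4)) :=
  Lre_c IH (LK LD1_c2 LD2_c21 LD3_c25) (LK LD1_c4 LD2_c47 LD3_c4) Lrfl Lrfl
theorem f704254 : Led Lsl_df (LP (LK LD1_c9 LD2_c27 LD3_c8)) = (LP (LK LD1_c17 LD2_c11 LD3_c55)) :=
  Lgr Lrot38 (Lpr_dt (f704250 IH) (Lpn (LP (LK LD1_c17 LD2_c11 LD3_c55))))
theorem f704281 : Led Lsl_df (LP (LK LD1_c9 LD2_c16 LD3_c52)) = v13682 :=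
  Lgr Lrot78 (Lpr_ft (f703604 IH) (Lpr_dt (K50.f103211 IH) (Lpr_ft (f704279 IH) (Lpn v13682))))
theorem f704235 : Led Lsl_ct (LP (LK LD1_c4 LD2_c47 LD3_c2)) = K50.v13678 :=
  Lgr Lrot15 (Lpe (K50.f633305 IH) (Lpe (K49.f66044 IH) (Lpr_ef (K50.f704233 IH) (Lpn K50.v13678))))
theorem f704283 : Led Lsl_ct K50.v13677 = v13682 :=
  Lgr Lrot40 (Lpr_ff (K50.f704239 IH) (Lpe (f704235 IH) (Lpr_ff (f704282 IH) (Lpn v13682))))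
theorem f704248 : Led Lsl_dt (LP (LK LD1_c17 LD2_c20 LD3_c19)) = (LP (LK LD1_c17 LD2_c25 LD3_c39)) :=
  Lgr Lrot42 (Lpr_df (K50.f704242 IH) (Lpn (LP (LK LD1_c17 LD2_c25 LD3_c39))))
theorem f674643 : Led Lsl_at (LP (LK LD1_c9 LD2_c26 LD3_c61)) = (LP (LK LD1_c17 LD2_c20 LD3_c19)) :=
  Lgr Lrot100 (Lpr_af (f674630 IH) (Lpn (LP (LK LD1_c17 LD2_c20 LD3_c19))))
theorem f703641 : Led Lsl_af (LP (LK LD1_c17 LD2_c11 LD3_c57)) = (LP (LK LD1_c17 LD2_c25 LD3_c39)) :=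
  Lgr Lrot0 (Lpr_at (f703602 IH) (Lpn (LP (LK LD1_c17 LD2_c25 LD3_c39))))
theorem f704264 : Led Lsl_df (LP (LK LD1_c9 LD2_c26 LD3_c61)) = (LP (LK LD1_c17 LD2_c11 LD3_c57)) :=
  Lgr Lrot18 (Lpr_at (f674643 IH) (Lpr_dt (f704248 IH) (Lpe (f703641 IH) (Lpn (LP (LK LD1_c17 LD2_c11 LD3_c57))))))
theorem f704296 : Led Lsl_cf K50.v13551 = v13684 :=
  Lgr Lrot55 (Lpe (K50.f703581 IH) (Lpr_ct (f701383 IH) (Lpe (f704264 IH) (Lpr_ct (f674577 IH) (Lpr_dt (f527253 IH) (Lpr_ct (K50.f495080 IH) (Lpr_dt (K50.f704225 IH) (Lpr_ct (f704283 IH) (Lpe (f704281 IH) (Lpr_ct (f701334 IH) (Lpe (f704254 IH) (Lpr_ct (f674466 IH) (Lpr_dt (f633309 IH) (Lpr_ct (f495058 IH) (Lpr_dt (f704293 IH) (Lpn v13684))))))))))))))))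
theorem f527256 : Led Lsl_gt (LP (LK LD1_c4 LD2_c47 LD3_c0)) = (LP (LK LD1_c9 LD2_c26 LD3_c59)) :=
  Lre_g IH (LK LD1_c4 LD2_c47 LD3_c0) (LK LD1_c9 LD2_c26 LD3_c59) Lrfl Lrfl
theorem f674554 : Led Lsl_gf (LP (LK LD1_c4 LD2_c47 LD3_c4)) = (LP (LK LD1_c9 LD2_c26 LD3_c59)) :=
  Lgr Lrot76 (Lpr_af (K50.f674548 IH) (Lpe (K50.f674552 IH) (Lpr_gt (f527256 IH) (Lpn (LP (LK LD1_c9 LD2_c26 LD3_c59))))))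
theorem f708529 : Led Lsl_df (LP (LK LD1_c9 LD2_c26 LD3_c59)) = (LP (LK LD1_c9 LD2_c21 LD3_c59)) :=
  Lgr Lrot16 (Lpe (f674554 IH) (Lpr_dt (f704293 IH) (Lpe (f704296 IH) (Lpe (f703584 IH) (Lpe (K50.f79501 IH) (Lpe (K50.f58293 IH) (Lpe (K50.f58301 IH) (Lpr_ct (K50.f701330 IH) (Lpq (f708519 IH) (Lpr_gt (f439743 IH) (Lpn (LP (LK LD1_c9 LD2_c21 LD3_c59)))))))))))))
theorem f708535 : Led Lsl_ft (LP (LK LD1_c9 LD2_c26 LD3_c59)) = (LP (LK LD1_c6 LD2_c19 LD3_c56)) :=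
  Lgr Lrot54 (Lpr_df (f708529 IH) (Lpe (K5.f103247 IH) (Lpe (K5.f127043 IH) (Lpn (LP (LK LD1_c6 LD2_c19 LD3_c56))))))
theorem f708544 : v13676 = (LP (LK LD1_c3 LD2_c7 LD3_c33)) :=
  (Llr Lrot46 (Lpe (f704221 IH) (Lpr_gf (f674554 IH) (Lpr_ft (f708535 IH) (Lpr_at (K5.f127042 IH) (Lpn (LP (LK LD1_c3 LD2_c7 LD3_c33)))))))).symm
theorem f91479 : Led Lsl_et (LP (LK LD1_c3 LD2_c7 LD3_c33)) = (LP (LK LD1_c1 LD2_c30 LD3_c0)) :=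
  Lre_e IH (LK LD1_c3 LD2_c7 LD3_c33) (LK LD1_c1 LD2_c30 LD3_c0) Lrfl Lrfl
theorem f77809 : Led Lsl_et (LP (LK LD1_c1 LD2_c29 LD3_c50)) = (LP (LK LD1_c3 LD2_c7 LD3_c11)) :=
  Lre_e IH (LK LD1_c1 LD2_c29 LD3_c50) (LK LD1_c3 LD2_c7 LD3_c11) Lrfl Lrfl
theorem f125279 : Led Lsl_df (LP (LK LD1_c3 LD2_c7 LD3_c33)) = (LP (LK LD1_c3 LD2_c7 LD3_c11)) :=
  Lgr Lrot70 (Lpr_et (f91479 IH) (Lpe (K3.f91469 IH) (Lpr_et (K5.f125271 IH) (Lpr_dt (K5.f77806 IH) (Lpr_et (f77809 IH) (Lpn (LP (LK LD1_c3 LD2_c7 LD3_c11))))))))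
theorem f708549 : Led Lsl_gf (LP (LK LD1_c6 LD2_c49 LD3_c6)) = (LP (LK LD1_c6 LD2_c19 LD3_c56)) :=
  Lgr Lrot141 (Lpr_ef (f704301 IH) (Lpe (f704297 IH) (Lpr_gt (f704221 IH) (Lpqs (f708544 IH) (Lpr_df (f125279 IH) (Lpr_et (K5.f110389 IH) (Lpe (K4.f110381 IH) (Lpr_dt (K4.f103462 IH) (Lpe (K3.f107529 IH) (Lpr_df (K3.f91467 IH) (Lpr_et (K4.f91480 IH) (Lpn (LP (LK LD1_c6 LD2_c19 LD3_c56))))))))))))))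
theorem f708551 : Led Lsl_gt (LP (LK LD1_c7 LD2_c21 LD3_c5)) = (LP (LK LD1_c6 LD2_c19 LD3_c56)) :=
  Lgr Lrot5 (Lpe (K50.f674561 IH) (Lpe (K49.f674436 IH) (Lpr_gf (f708549 IH) (Lpn (LP (LK LD1_c6 LD2_c19 LD3_c56))))))
theorem f662594 : Led Lsl_gt K49.v5820 = K48.v7234 :=
  Lgr Lrot5 (Lpe (K49.f649573 IH) (Lpe (K5.f129286 IH) (Lpr_gf (K48.f662593 IH) (Lpn K48.v7234))))
theorem f633353 : Led Lsl_bt K49.v1353 = K49.v4434 :=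
  Lgr Lrot35 (Lpe (K49.f495063 IH) (Lpe (K49.f76949 IH) (Lpr_ff (K49.f633352 IH) (Lpn K49.v4434))))
theorem f674021 : K49.v4434 = K35.v4408 :=
  Lefun (Lecon (f633353 IH) (K49.f674014 IH)) (K35.f633190 IH)
def v4429 : LQ := Led Lsl_gt (LP (LK LD1_c2 LD2_c21 LD3_c29))
theorem f633333 : Led Lsl_gt (LP (LK LD1_c2 LD2_c21 LD3_c29)) = v4429 :=
  Lrfl
theorem f673982 : Led Lsl_at K49.v4434 = K49.v9198 :=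
  Lgr Lrot66 (Lpe (K49.f633350 IH) (Lpr_af (K49.f633338 IH) (Lpr_ff (K49.f673981 IH) (Lpn K49.v9198))))
theorem f674193 : v4429 = K49.v5812 :=
  (Llr Lrot5 (Lpe (f633333 IH) (Lpr_ft (K49.f633350 IH) (Lpqs (f674021 IH) (Lpq (f674021 IH) (Lpr_at (f673982 IH) (Lpe (K49.f673980 IH) (Lpn K49.v5812)))))))).symm
theorem f708582 : v4435 = (LP (LK LD1_c4 LD2_c45 LD3_c37)) :=
  (Llr Lrot129 (Lpe (f633354 IH) (Lpe (K35.f76953 IH) (Lpr_bt (K49.f495047 IH) (Lpr_gt (f633333 IH) (Lpqs (f674193 IH) (Lpqs (K49.f662744 IH) (Lpe (K49.f634258 IH) (Lpr_ct (K49.f446275 IH) (Lpq (K49.f662745 IH) (Lpr_gt (f662594 IH) (Lpqs (K48.f663115 IH) (Lpe (K48.f661629 IH) (Lpr_bt (K50.f527847 IH) (Lpr_gt (f708551 IH) (Lpr_ct (K4.f120677 IH) (Lpn (LP (LK LD1_c4 LD2_c45 LD3_c37))))))))))))))))))).symm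
theorem f107515 : Led Lsl_cf (LP (LK LD1_c6 LD2_c19 LD3_c56)) = (LP (LK LD1_c4 LD2_c45 LD3_c37)) :=
  Lgr Lrot39 (Lpr_et (K5.f91481 IH) (Lpr_ct (K3.f107509 IH) (Lpr_et (K4.f103012 IH) (Lpn (LP (LK LD1_c4 LD2_c45 LD3_c37))))))
theorem f708647 : v13152 = (LP (LK LD1_c9 LD2_c16 LD3_c10)) :=
  (Llr Lrot150 (Lpe (f701434 IH) (Lpe (K50.f495056 IH) (Lpe (K46.f58340 IH) (Lpe (f58313 IH) (Lpr_gt (K50.f58320 IH) (Lpr_ct (K35.f495052 IH) (Lpr_gt (f633369 IH) (Lpqs (f708582 IH) (Lpe (f107515 IH) (Lpr_df (K5.f127040 IH) (Lpr_cf (K28.f103237 IH) (Lpn (LP (LK LD1_c9 LD2_c16 LD3_c10))))))))))))))).symm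
theorem f708648 : Led Lsl_gt (LP (LK LD1_c9 LD2_c16 LD3_c10)) = (LP (LK LD1_c4 LD2_c40 LD3_c46)) :=
  Leop (Lpr_gf (f701421 IH) (Lpqs (f708647 IH) (Lpn (LP (LK LD1_c9 LD2_c16 LD3_c10)))))
theorem seed_729 : LEOK LG_g (LK LD1_c9 LD2_c16 LD3_c10) :=
  Leoe_g (LK LD1_c9 LD2_c16 LD3_c10) (f708648 IH)
theorem f708481 : Led Lsl_ft (LP (LK LD1_c6 LD2_c11 LD3_c27)) = (LP (LK LD1_c6 LD2_c28 LD3_c25)) :=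
  Lgr Lrot48 (Lpr_ff (f708477 IH) (Lpn (LP (LK LD1_c6 LD2_c28 LD3_c25))))
theorem f90375 : Led Lsl_gt (LP (LK LD1_c6 LD2_c9 LD3_c31)) = (LP (LK LD1_c12 LD2_c0 LD3_c3)) :=
  Lre_g IH (LK LD1_c6 LD2_c9 LD3_c31) (LK LD1_c12 LD2_c0 LD3_c3) Lrfl Lrfl
theorem f708656 : Led Lsl_bf (LP (LK LD1_c12 LD2_c0 LD3_c3)) = (LP (LK LD1_c6 LD2_c11 LD3_c7)) :=
  Lgr Lrot34 (Lpe (f90375 IH) (Lpr_bf (K5.f127047 IH) (Lpr_ct (K28.f103245 IH) (Lpq (f708647 IH) (Lpe (f701434 IH) (Lpe (K50.f495056 IH) (Lpe (K46.f58340 IH) (Lpe (K46.f58309 IH) (Lpr_ct (K46.f414651 IH) (Lpe (K46.f443695 IH) (Lpe (K46.f504414 IH) (Lpn (LP (LK LD1_c6 LD2_c11 LD3_c7))))))))))))))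
theorem f128615 : Led Lsl_af (LP (LK LD1_c6 LD2_c28 LD3_c19)) = (LP (LK LD1_c12 LD2_c0 LD3_c4)) :=
  Lgr Lrot50 (Lpr_et (K4.f112012 IH) (Lpr_at (K5.f126521 IH) (Lpr_et (K5.f128613 IH) (Lpn (LP (LK LD1_c12 LD2_c0 LD3_c4))))))
theorem f440104 : Led Lsl_gf (LP (LK LD1_c6 LD2_c28 LD3_c19)) = (LP (LK LD1_c12 LD2_c0 LD3_c3)) :=
  Lgr Lrot76 (Lpr_af (f128615 IH) (Lpe (K5.f127056 IH) (Lpr_gt (f90375 IH) (Lpn (LP (LK LD1_c12 LD2_c0 LD3_c3))))))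
def v5390 : LQ := Led Lsl_gf (LP (LK LD1_c3 LD2_c7 LD3_c14))
theorem f647347 : Led Lsl_gf (LP (LK LD1_c3 LD2_c7 LD3_c14)) = v5390 :=
  Lrfl
theorem f87193 : Led Lsl_bt (LP (LK LD1_c6 LD2_c38 LD3_c24)) = (LP (LK LD1_c3 LD2_c17 LD3_c33)) :=
  Lre_b IH (LK LD1_c6 LD2_c38 LD3_c24) (LK LD1_c3 LD2_c17 LD3_c33) Lrfl Lrfl
theorem f112073 : Led Lsl_af (LP (LK LD1_c6 LD2_c28 LD3_c21)) = (LP (LK LD1_c3 LD2_c17 LD3_c33)) :=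
  Lgr Lrot0 (Lpr_at (K4.f112071 IH) (Lpn (LP (LK LD1_c3 LD2_c17 LD3_c33))))
theorem f62918 : Led Lsl_bt (LP (LK LD1_c6 LD2_c28 LD3_c21)) = (LP (LK LD1_c3 LD2_c12 LD3_c10)) :=
  Lre_b IH (LK LD1_c6 LD2_c28 LD3_c21) (LK LD1_c3 LD2_c12 LD3_c10) Lrfl Lrfl
theorem f110474 : Led Lsl_bt (LP (LK LD1_c3 LD2_c7 LD3_c14)) = (LP (LK LD1_c6 LD2_c19 LD3_c28)) :=
  Lre_b IH (LK LD1_c3 LD2_c7 LD3_c14) (LK LD1_c6 LD2_c19 LD3_c28) Lrfl Lrfl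
theorem f128764 : Led Lsl_at (LP (LK LD1_c3 LD2_c12 LD3_c10)) = (LP (LK LD1_c3 LD2_c7 LD3_c14)) :=
  Lgr Lrot67 (Lpe (f62918 IH) (Lpr_af (f112073 IH) (Lpe (f87193 IH) (Lpr_af (K5.f128760 IH) (Lpe (f110474 IH) (Lpn (LP (LK LD1_c3 LD2_c7 LD3_c14))))))))
theorem f112039 : Led Lsl_ft (LP (LK LD1_c6 LD2_c28 LD3_c27)) = (LP (LK LD1_c3 LD2_c12 LD3_c10)) :=
  Lre_f IH (LK LD1_c6 LD2_c28 LD3_c27) (LK LD1_c3 LD2_c12 LD3_c10) Lrfl Lrfl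
theorem f647348 : Led Lsl_gt (LP (LK LD1_c6 LD2_c28 LD3_c27)) = v5390 :=
  Lgr Lrot5 (Lpr_ft (f112039 IH) (Lpr_at (f128764 IH) (Lpr_gf (f647347 IH) (Lpn v5390))))
theorem f413548 : Led Lsl_ct (LP (LK LD1_c0 LD2_c40 LD3_c20)) = (LP (LK LD1_c1 LD2_c27 LD3_c5)) :=
  Lre_c IH (LK LD1_c0 LD2_c40 LD3_c20) (LK LD1_c1 LD2_c27 LD3_c5) Lrfl Lrfl
theorem f708662 : v5390 = (LP (LK LD1_c6 LD2_c11 LD3_c27)) :=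
  (Llr Lrot65 (Lpe (f647348 IH) (Lpe (f112054 IH) (Lpr_bt (K5.f112014 IH) (Lpr_gf (f440104 IH) (Lpr_bf (f708656 IH) (Lpr_ct (K46.f504414 IH) (Lpe (K46.f443625 IH) (Lpe (f413548 IH) (Lpe (K5.f130828 IH) (Lpe (f140040 IH) (Lpr_ct (f140041 IH) (Lpn (LP (LK LD1_c6 LD2_c11 LD3_c27))))))))))))))).symm
theorem f110498 : Led Lsl_gt (LP (LK LD1_c3 LD2_c7 LD3_c14)) = (LP (LK LD1_c6 LD2_c19 LD3_c30)) :=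
  Lre_g IH (LK LD1_c3 LD2_c7 LD3_c14) (LK LD1_c6 LD2_c19 LD3_c30) Lrfl Lrfl
theorem f708665 : Led Lsl_at (LP (LK LD1_c6 LD2_c28 LD3_c25)) = (LP (LK LD1_c6 LD2_c19 LD3_c30)) :=
  Lgr Lrot26 (Lpe (f708481 IH) (Lpq (f708662 IH) (Lpe (f647347 IH) (Lpr_gt (f110498 IH) (Lpn (LP (LK LD1_c6 LD2_c19 LD3_c30)))))))
theorem f708468 : Led Lsl_af (LP (LK LD1_c6 LD2_c11 LD3_c27)) = (LP (LK LD1_c6 LD2_c28 LD3_c26)) :=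
  Lgr Lrot68 (Lpr_ct (f646697 IH) (Lpr_at (K48.f502918 IH) (Lpqs (f663300 IH) (Lpr_ct (f708466 IH) (Lpn (LP (LK LD1_c6 LD2_c28 LD3_c26)))))))
theorem f708674 : Led Lsl_ff (LP (LK LD1_c6 LD2_c28 LD3_c26)) = (LP (LK LD1_c6 LD2_c19 LD3_c30)) :=
  Lgr Lrot30 (Lpe (f708468 IH) (Lpr_ft (f708481 IH) (Lpr_at (f708665 IH) (Lpn (LP (LK LD1_c6 LD2_c19 LD3_c30))))))
theorem f708678 : Led Lsl_ct (LP (LK LD1_c6 LD2_c25 LD3_c39)) = (LP (LK LD1_c6 LD2_c19 LD3_c30)) :=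
  Lgr Lrot40 (Lpr_ff (K48.f663153 IH) (Lpqs (f663300 IH) (Lpr_cf (f708471 IH) (Lpr_ff (f708674 IH) (Lpn (LP (LK LD1_c6 LD2_c19 LD3_c30)))))))
theorem f61522 : Led Lsl_bt (LP (LK LD1_c12 LD2_c28 LD3_c60)) = (LP (LK LD1_c6 LD2_c29 LD3_c24)) :=
  Lre_b IH (LK LD1_c12 LD2_c28 LD3_c60) (LK LD1_c6 LD2_c29 LD3_c24) Lrfl Lrfl
theorem f708669 : Led Lsl_bt (LP (LK LD1_c6 LD2_c19 LD3_c30)) = (LP (LK LD1_c12 LD2_c14 LD3_c13)) :=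
  Lre_b IH (LK LD1_c6 LD2_c19 LD3_c30) (LK LD1_c12 LD2_c14 LD3_c13) Lrfl Lrfl
theorem f708688 : Led Lsl_cf (LP (LK LD1_c12 LD2_c28 LD3_c60)) = (LP (LK LD1_c12 LD2_c14 LD3_c13)) :=
  Lgr Lrot97 (Lpr_bt (f61522 IH) (Lpr_ct (K48.f663167 IH) (Lpe (K48.f663157 IH) (Lpr_ct (f708678 IH) (Lpr_bt (f708669 IH) (Lpn (LP (LK LD1_c12 LD2_c14 LD3_c13))))))))
theorem f708689 : Led Lsl_ct (LP (LK LD1_c12 LD2_c14 LD3_c13)) = (LP (LK LD1_c12 LD2_c28 LD3_c60)) :=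
  Leop (Lpr_cf (f708688 IH) (Lpn (LP (LK LD1_c12 LD2_c14 LD3_c13))))
theorem seed_730 : LEOK LG_c (LK LD1_c12 LD2_c14 LD3_c13) :=
  Leoe_c (LK LD1_c12 LD2_c14 LD3_c13) (f708689 IH)
theorem f139966 : Led Lsl_bt (LP (LK LD1_c3 LD2_c1 LD3_c46)) = (LP (LK LD1_c6 LD2_c10 LD3_c20)) :=
  Lre_b IH (LK LD1_c3 LD2_c1 LD3_c46) (LK LD1_c6 LD2_c10 LD3_c20) Lrfl Lrfl
theorem f130962 : Led Lsl_af (LP (LK LD1_c3 LD2_c15 LD3_c29)) = (LP (LK LD1_c3 LD2_c45 LD3_c19)) :=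
  Lgr Lrot68 (Lpr_ct (K34.f65569 IH) (Lpr_at (K5.f130958 IH) (Lpr_ct (K48.f130883 IH) (Lpn (LP (LK LD1_c3 LD2_c45 LD3_c19))))))
theorem f130986 : Led Lsl_ft (LP (LK LD1_c7 LD2_c31 LD3_c25)) = (LP (LK LD1_c3 LD2_c45 LD3_c19)) :=
  Lre_f IH (LK LD1_c7 LD2_c31 LD3_c25) (LK LD1_c3 LD2_c45 LD3_c19) Lrfl Lrfl
theorem f527814 : Led Lsl_gf (LP (LK LD1_c6 LD2_c10 LD3_c21)) = (LP (LK LD1_c7 LD2_c31 LD3_c25)) :=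
  Lgr Lrot47 (Lpr_gt (K34.f527812 IH) (Lpr_af (f130962 IH) (Lpe (f130986 IH) (Lpn (LP (LK LD1_c7 LD2_c31 LD3_c25))))))
def v5565 : LQ := Led Lsl_gt (LP (LK LD1_c3 LD2_c10 LD3_c30))
theorem f648279 : Led Lsl_gt (LP (LK LD1_c3 LD2_c10 LD3_c30)) = v5565 :=
  Lrfl
theorem f209004 : Led Lsl_at (LP (LK LD1_c6 LD2_c25 LD3_c37)) = (LP (LK LD1_c6 LD2_c52 LD3_c45)) :=
  Lgr Lrot100 (Lpr_af (K46.f209002 IH) (Lpn (LP (LK LD1_c6 LD2_c52 LD3_c45))))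
theorem f648280 : Led Lsl_gf (LP (LK LD1_c6 LD2_c52 LD3_c45)) = v5565 :=
  Lgr Lrot76 (Lpe (f209004 IH) (Lpe (K5.f129088 IH) (Lpr_gt (f648279 IH) (Lpn v5565))))
theorem f446276 : Led Lsl_ct (LP (LK LD1_c4 LD2_c49 LD3_c57)) = (LP (LK LD1_c2 LD2_c22 LD3_c42)) :=
  Lre_c IH (LK LD1_c4 LD2_c49 LD3_c57) (LK LD1_c2 LD2_c22 LD3_c42) Lrfl Lrfl
theorem f673992 : Led Lsl_cf (LP (LK LD1_c6 LD2_c31 LD3_c28)) = v5565 :=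
  Lgr Lrot169 (Lpr_gt (K46.f649727 IH) (Lpr_ct (K49.f209360 IH) (Lpqs (K48.f662748 IH) (Lpe (K48.f634260 IH) (Lpe (f446276 IH) (Lpq (K49.f662745 IH) (Lpe (K49.f662604 IH) (Lpr_cf (K49.f673990 IH) (Lpe (K49.f523713 IH) (Lpe (K35.f125668 IH) (Lpr_gt (f648279 IH) (Lpn v5565))))))))))))
def v2012 : LQ := Led Lsl_gf (LP (LK LD1_c1 LD2_c33 LD3_c32))
theorem f506884 : Led Lsl_gf (LP (LK LD1_c1 LD2_c33 LD3_c32)) = v2012 :=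
  Lrfl
theorem f662757 : (LP (LK LD1_c2 LD2_c17 LD3_c38)) = v2012 :=
  Lefun (Lecon (Lfl_gt (K48.f632208 IH)) (K48.f662742 IH)) (f506884 IH)
theorem f61484 : Led Lsl_gt (LP (LK LD1_c6 LD2_c29 LD3_c18)) = (LP (LK LD1_c3 LD2_c12 LD3_c41)) :=
  Lre_g IH (LK LD1_c6 LD2_c29 LD3_c18) (LK LD1_c3 LD2_c12 LD3_c41) Lrfl Lrfl
theorem f674000 : Led Lsl_bf (LP (LK LD1_c6 LD2_c29 LD3_c18)) = v5565 :=
  Lgr Lrot156 (Lpr_gt (f61484 IH) (Lpe (K2.f61482 IH) (Lpr_ct (K2.f61432 IH) (Lpr_gt (K17.f414299 IH) (Lpe (K17.f414275 IH) (Lpr_bt (K48.f414313 IH) (Lpqs (f662757 IH) (Lpe (f506884 IH) (Lpr_ct (K48.f209284 IH) (Lpr_gt (K46.f147533 IH) (Lpr_cf (f673992 IH) (Lpn v5565))))))))))))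
theorem f674001 : Led Lsl_bt (LP (LK LD1_c6 LD2_c29 LD3_c18)) = v5565 :=
  Lgr Lrot127 (Lpr_bf (f674000 IH) (Lpn v5565))
theorem f67027 : Led Lsl_ct (LP (LK LD1_c6 LD2_c29 LD3_c18)) = (LP (LK LD1_c12 LD2_c28 LD3_c53)) :=
  Lre_c IH (LK LD1_c6 LD2_c29 LD3_c18) (LK LD1_c12 LD2_c28 LD3_c53) Lrfl Lrfl
theorem f646606 : Led Lsl_ff (LP (LK LD1_c3 LD2_c2 LD3_c15)) = K48.v5223 :=
  Lgr Lrot3 (Lpr_ft (K48.f646604 IH) (Lpn K48.v5223))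
theorem f124830 : Led Lsl_et (LP (LK LD1_c1 LD2_c31 LD3_c35)) = (LP (LK LD1_c3 LD2_c10 LD3_c33)) :=
  Lre_e IH (LK LD1_c1 LD2_c31 LD3_c35) (LK LD1_c3 LD2_c10 LD3_c33) Lrfl Lrfl
theorem f209548 : Led Lsl_bf (LP (LK LD1_c3 LD2_c25 LD3_c32)) = (LP (LK LD1_c3 LD2_c10 LD3_c33)) :=
  Lgr Lrot96 (Lpr_et (K50.f124702 IH) (Lpr_bt (K11.f209539 IH) (Lpr_et (f124830 IH) (Lpn (LP (LK LD1_c3 LD2_c10 LD3_c33))))))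
theorem f209796 : Led Lsl_bt (LP (LK LD1_c3 LD2_c25 LD3_c32)) = (LP (LK LD1_c3 LD2_c10 LD3_c33)) :=
  Lgr Lrot127 (Lpr_bf (f209548 IH) (Lpn (LP (LK LD1_c3 LD2_c10 LD3_c33))))
def v6673 : LQ := Led Lsl_et (LP (LK LD1_c3 LD2_c25 LD3_c31))
theorem f657629 : Led Lsl_et (LP (LK LD1_c3 LD2_c25 LD3_c31)) = v6673 :=
  Lrfl
theorem f657631 : Led Lsl_ef (LP (LK LD1_c3 LD2_c25 LD3_c31)) = v6673 :=
  Lgr Lrot88 (Lpr_et (f657629 IH) (Lpn v6673))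
theorem f209541 : Led Lsl_et (LP (LK LD1_c1 LD2_c39 LD3_c24)) = (LP (LK LD1_c3 LD2_c25 LD3_c32)) :=
  Lre_e IH (LK LD1_c1 LD2_c39 LD3_c24) (LK LD1_c3 LD2_c25 LD3_c32) Lrfl Lrfl
theorem f657632 : Led Lsl_ct (LP (LK LD1_c3 LD2_c25 LD3_c32)) = v6673 :=
  Lgr Lrot15 (Lpe (f209541 IH) (Lpe (K11.f91980 IH) (Lpr_ef (f657631 IH) (Lpn v6673))))
def v6535 : LQ := Led Lsl_et (LP (LK LD1_c3 LD2_c23 LD3_c13))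
theorem f653835 : Led Lsl_et (LP (LK LD1_c3 LD2_c23 LD3_c13)) = v6535 :=
  Lrfl
theorem f653837 : Led Lsl_cf K49.v2513 = v6535 :=
  Lgr Lrot39 (Lpe (K49.f523709 IH) (Lpr_ct (K5.f107332 IH) (Lpr_et (f653835 IH) (Lpn v6535))))
theorem f657630 : Led Lsl_cf (LP (LK LD1_c3 LD2_c25 LD3_c32)) = v6673 :=
  Lgr Lrot39 (Lpr_et (K50.f124702 IH) (Lpr_ct (K11.f91979 IH) (Lpr_et (f657629 IH) (Lpn v6673))))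
theorem f653838 : Led Lsl_ef (LP (LK LD1_c3 LD2_c23 LD3_c13)) = v6535 :=
  Lgr Lrot88 (Lpr_et (f653835 IH) (Lpn v6535))
theorem f653840 : Led Lsl_ct K49.v2513 = v6535 :=
  Lgr Lrot15 (Lpe (K49.f523705 IH) (Lpr_cf (K5.f107330 IH) (Lpr_ef (f653838 IH) (Lpn v6535))))
theorem f523707 : Led Lsl_bf (LP (LK LD1_c3 LD2_c13 LD3_c18)) = K49.v2513 :=
  Lgr Lrot96 (Lpr_et (K48.f124556 IH) (Lpr_bt (K5.f124561 IH) (Lpr_et (K49.f523705 IH) (Lpn K49.v2513))))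
def v5780 : LQ := Led Lsl_gf (LP (LK LD1_c3 LD2_c13 LD3_c18))
theorem f649330 : Led Lsl_gf (LP (LK LD1_c3 LD2_c13 LD3_c18)) = v5780 :=
  Lrfl
theorem f662582 : Led Lsl_gf v5780 = K48.v7231 :=
  Lgr Lrot47 (Lpe (f649330 IH) (Lpe (K48.f139724 IH) (Lpr_ff (K49.f662575 IH) (Lpn K48.v7231))))
theorem f662853 : v5780 = (LP (LK LD1_c1 LD2_c35 LD3_c42)) :=
  Lefun (Lecon (Lfl_gf (f662582 IH)) ((K49.f662838 IH).trans (K48.f651564 IH).symm)) (K46.f62164 IH)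
theorem f66046 : Led Lsl_bt (LP (LK LD1_c0 LD2_c44 LD3_c24)) = (LP (LK LD1_c1 LD2_c35 LD3_c42)) :=
  Lre_b IH (LK LD1_c0 LD2_c44 LD3_c24) (LK LD1_c1 LD2_c35 LD3_c42) Lrfl Lrfl
theorem f76822 : Led Lsl_ct (LP (LK LD1_c1 LD2_c38 LD3_c11)) = (LP (LK LD1_c3 LD2_c23 LD3_c48)) :=
  Lre_c IH (LK LD1_c1 LD2_c38 LD3_c11) (LK LD1_c3 LD2_c23 LD3_c48) Lrfl Lrfl
def v6575 : LQ := Led Lsl_gf (LP (LK LD1_c3 LD2_c23 LD3_c48))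
theorem f654271 : Led Lsl_gf (LP (LK LD1_c3 LD2_c23 LD3_c48)) = v6575 :=
  Lrfl
theorem f663086 : v6535 = v6575 :=
  (Llr Lrot64 (Lpe (f653840 IH) (Lpe (f523707 IH) (Lpr_gf (f649330 IH) (Lpqs (f662853 IH) (Lpe (f66046 IH) (Lpr_ct (K5.f66031 IH) (Lpe (K32.f508889 IH) (Lpr_cf (K34.f527789 IH) (Lpe (K46.f651186 IH) (Lpe (K46.f414283 IH) (Lpr_ct (f76822 IH) (Lpr_gf (f654271 IH) (Lpn v6575)))))))))))))).symm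
theorem f654248 : Led Lsl_at (LP (LK LD1_c6 LD2_c49 LD3_c43)) = (LP (LK LD1_c3 LD2_c23 LD3_c52)) :=
  Lgr Lrot100 (Lpr_af (f654246 IH) (Lpn (LP (LK LD1_c3 LD2_c23 LD3_c52))))
theorem f654232 : Led Lsl_ft (LP (LK LD1_c3 LD2_c23 LD3_c48)) = (LP (LK LD1_c6 LD2_c49 LD3_c43)) :=
  Lgr Lrot48 (Lpr_ff (f654230 IH) (Lpn (LP (LK LD1_c6 LD2_c49 LD3_c43))))
theorem f654259 : Led Lsl_at (LP (LK LD1_c6 LD2_c49 LD3_c42)) = (LP (LK LD1_c3 LD2_c23 LD3_c48)) :=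
  Lgr Lrot66 (Lpr_ff (f654253 IH) (Lpe (f654248 IH) (Lpe (f654232 IH) (Lpn (LP (LK LD1_c3 LD2_c23 LD3_c48))))))
theorem f654272 : Led Lsl_gt (LP (LK LD1_c3 LD2_c23 LD3_c52)) = v6575 :=
  Lgr Lrot5 (Lpe (f654253 IH) (Lpr_at (f654259 IH) (Lpr_gf (f654271 IH) (Lpn v6575))))
def v5372 : LQ := Led Lsl_ct (LP (LK LD1_c3 LD2_c6 LD3_c57))
theorem f647286 : Led Lsl_ct (LP (LK LD1_c3 LD2_c6 LD3_c57)) = v5372 :=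
  Lrfl
theorem f663087 : Led Lsl_gf v6673 = v5372 :=
  Lgr Lrot104 (Lpe (f657630 IH) (Lpr_df (K50.f523708 IH) (Lpr_cf (f653837 IH) (Lpqs (f663086 IH) (Lpe (f654272 IH) (Lpe (f76826 IH) (Lpe (K2.f76825 IH) (Lpr_df (K2.f76815 IH) (Lpr_gt (K2.f66990 IH) (Lpr_ct (f647286 IH) (Lpn v5372)))))))))))
theorem f647279 : Led Lsl_bt (LP (LK LD1_c3 LD2_c6 LD3_c57)) = (LP (LK LD1_c6 LD2_c19 LD3_c4)) :=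
  Lre_b IH (LK LD1_c3 LD2_c6 LD3_c57) (LK LD1_c6 LD2_c19 LD3_c4) Lrfl Lrfl
theorem f87238 : Led Lsl_bt (LP (LK LD1_c6 LD2_c38 LD3_c32)) = (LP (LK LD1_c12 LD2_c42 LD3_c29)) :=
  Lre_b IH (LK LD1_c6 LD2_c38 LD3_c32) (LK LD1_c12 LD2_c42 LD3_c29) Lrfl Lrfl
theorem f93764 : Led Lsl_af (LP (LK LD1_c6 LD2_c38 LD3_c46)) = (LP (LK LD1_c12 LD2_c37 LD3_c23)) :=
  Lgr Lrot0 (Lpr_at (K4.f93757 IH) (Lpn (LP (LK LD1_c12 LD2_c37 LD3_c23))))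
theorem f112055 : Led Lsl_at (LP (LK LD1_c12 LD2_c27 LD3_c53)) = (LP (LK LD1_c6 LD2_c38 LD3_c32)) :=
  Lgr Lrot80 (Lpr_ef (K4.f112052 IH) (Lpr_af (f93764 IH) (Lpe (K4.f93848 IH) (Lpn (LP (LK LD1_c6 LD2_c38 LD3_c32))))))
theorem f112070 : Led Lsl_bt (LP (LK LD1_c6 LD2_c28 LD3_c27)) = (LP (LK LD1_c12 LD2_c27 LD3_c53)) :=
  Lre_b IH (LK LD1_c6 LD2_c28 LD3_c27) (LK LD1_c12 LD2_c27 LD3_c53) Lrfl Lrfl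
theorem f128775 : Led Lsl_af (LP (LK LD1_c6 LD2_c28 LD3_c27)) = (LP (LK LD1_c6 LD2_c19 LD3_c32)) :=
  Lgr Lrot36 (Lpr_bt (f112070 IH) (Lpr_at (f112055 IH) (Lpr_bt (f87238 IH) (Lpr_at (K5.f128771 IH) (Lpr_bt (K5.f128482 IH) (Lpn (LP (LK LD1_c6 LD2_c19 LD3_c32))))))))
theorem f128488 : Led Lsl_ft (LP (LK LD1_c3 LD2_c7 LD3_c14)) = (LP (LK LD1_c6 LD2_c19 LD3_c32)) :=
  Lre_f IH (LK LD1_c3 LD2_c7 LD3_c14) (LK LD1_c6 LD2_c19 LD3_c32) Lrfl Lrfl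
theorem f440074 : Led Lsl_gf (LP (LK LD1_c6 LD2_c28 LD3_c27)) = (LP (LK LD1_c6 LD2_c19 LD3_c30)) :=
  Lgr Lrot76 (Lpr_af (f128775 IH) (Lpe (f128488 IH) (Lpr_gt (f110498 IH) (Lpn (LP (LK LD1_c6 LD2_c19 LD3_c30))))))
theorem f708693 : Led Lsl_gf (LP (LK LD1_c6 LD2_c19 LD3_c4)) = (LP (LK LD1_c6 LD2_c28 LD3_c19)) :=
  Lgr Lrot124 (Lpe (f647279 IH) (Lpr_ct (f647286 IH) (Lpe (f663087 IH) (Lpe (f657632 IH) (Lpr_bt (f209796 IH) (Lpr_gt (K48.f124831 IH) (Lpr_ct (f708678 IH) (Lpe (f440074 IH) (Lpe (f112054 IH) (Lpr_bt (K5.f112014 IH) (Lpn (LP (LK LD1_c6 LD2_c28 LD3_c19)))))))))))))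
theorem f62923 : Led Lsl_ft (LP (LK LD1_c6 LD2_c28 LD3_c19)) = (LP (LK LD1_c3 LD2_c12 LD3_c6)) :=
  Lre_f IH (LK LD1_c6 LD2_c28 LD3_c19) (LK LD1_c3 LD2_c12 LD3_c6) Lrfl Lrfl
theorem f702294 : Led Lsl_df (LP (LK LD1_c6 LD2_c28 LD3_c19)) = v13315 :=
  Lgr Lrot78 (Lpr_ft (f62923 IH) (Lpe (f129602 IH) (Lpr_ft (f702291 IH) (Lpn v13315))))
def v6426 : LQ := Led Lsl_ft (LP (LK LD1_c3 LD2_c21 LD3_c39))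
theorem f653358 : Led Lsl_ft (LP (LK LD1_c3 LD2_c21 LD3_c39)) = v6426 :=
  Lrfl
theorem f653361 : Led Lsl_ff (LP (LK LD1_c3 LD2_c21 LD3_c39)) = v6426 :=
  Lgr Lrot3 (Lpr_ft (f653358 IH) (Lpn v6426))
theorem f653349 : Led Lsl_ff K46.v3200 = K46.v6424 :=
  Lgr Lrot3 (Lpr_ft (K46.f653348 IH) (Lpn K46.v6424))
theorem f653363 : Led Lsl_at K46.v3200 = v6426 :=
  Lgr Lrot66 (Lpr_ff (f653349 IH) (Lpe (K46.f653343 IH) (Lpr_ff (f653361 IH) (Lpn v6426))))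
theorem f653347 : Led Lsl_ct K46.v2190 = K46.v6424 :=
  Lgr Lrot59 (Lpr_cf (K46.f653346 IH) (Lpn K46.v6424))
theorem f678943 : K46.v6424 = (LP (LK LD1_c4 LD2_c49 LD3_c42)) :=
  Lefun (Lecon (f653347 IH) (K49.f678937 IH)) (f414466 IH)
theorem f414467 : Led Lsl_gf (LP (LK LD1_c6 LD2_c50 LD3_c48)) = (LP (LK LD1_c4 LD2_c49 LD3_c42)) :=
  Lgr Lrot129 (Lpe (K46.f414465 IH) (Lpr_bt (K46.f77081 IH) (Lpr_gt (K2.f76883 IH) (Lpe (K46.f77076 IH) (Lpr_ct (K2.f73673 IH) (Lpr_gt (K17.f414445 IH) (Lpe (K16.f413655 IH) (Lpr_bt (K24.f414462 IH) (Lpr_gt (K49.f414463 IH) (Lpr_ct (f414466 IH) (Lpn (LP (LK LD1_c4 LD2_c49 LD3_c42)))))))))))))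
theorem f678954 : Led Lsl_gt (LP (LK LD1_c6 LD2_c50 LD3_c48)) = v6426 :=
  Lgr Lrot46 (Lpr_gf (f414467 IH) (Lpq (f678943 IH) (Lpe (f653349 IH) (Lpr_at (f653363 IH) (Lpn v6426)))))
theorem f653364 : Led Lsl_ct K49.v2194 = v6426 :=
  Lgr Lrot40 (Lpe (K49.f509552 IH) (Lpe (f495174 IH) (Lpr_ff (f653361 IH) (Lpn v6426))))
def v7920 : LQ := Led Lsl_ct v1368
theorem f668988 : Led Lsl_ct v1368 = v7920 :=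
  Lrfl
theorem f678951 : v6426 = v7920 :=
  Lefun (Lecon (f653364 IH) (f678949 IH)) (f668988 IH)
theorem f708050 : v7920 = (LP (LK LD1_c4 LD2_c44 LD3_c4)) :=
  Lefun (Lecon (f668988 IH) ((f678949 IH).symm.trans (f708028 IH))) (K4.f120391 IH)
theorem f126586 : Led Lsl_gt (LP (LK LD1_c6 LD2_c33 LD3_c27)) = (LP (LK LD1_c3 LD2_c14 LD3_c61)) :=
  Lre_g IH (LK LD1_c6 LD2_c33 LD3_c27) (LK LD1_c3 LD2_c14 LD3_c61) Lrfl Lrfl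
theorem f708699 : Led Lsl_ct (LP (LK LD1_c6 LD2_c19 LD3_c4)) = (LP (LK LD1_c6 LD2_c33 LD3_c27)) :=
  Lgr Lrot152 (Lpr_gf (f708693 IH) (Lpr_df (f702294 IH) (Lpq (f707485 IH) (Lpr_gt (K46.f654210 IH) (Lpr_ct (K46.f414465 IH) (Lpr_gt (f678954 IH) (Lpqs (f678951 IH) (Lpqs (f708050 IH) (Lpr_ct (f120394 IH) (Lpr_df (K5.f126582 IH) (Lpe (f126584 IH) (Lpe (f126586 IH) (Lpn (LP (LK LD1_c6 LD2_c33 LD3_c27)))))))))))))))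
theorem f126579 : Led Lsl_ct (LP (LK LD1_c1 LD2_c34 LD3_c1)) = (LP (LK LD1_c3 LD2_c14 LD3_c61)) :=
  Lre_c IH (LK LD1_c1 LD2_c34 LD3_c1) (LK LD1_c3 LD2_c14 LD3_c61) Lrfl Lrfl
theorem f126578 : Led Lsl_bt (LP (LK LD1_c1 LD2_c34 LD3_c1)) = (LP (LK LD1_c3 LD2_c14 LD3_c58)) :=
  Lre_b IH (LK LD1_c1 LD2_c34 LD3_c1) (LK LD1_c3 LD2_c14 LD3_c58) Lrfl Lrfl
def v5918 : LQ := Led Lsl_gt (LP (LK LD1_c3 LD2_c14 LD3_c58))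
theorem f650061 : Led Lsl_gt (LP (LK LD1_c3 LD2_c14 LD3_c58)) = v5918 :=
  Lrfl
theorem f663158 : Led Lsl_bt (LP (LK LD1_c6 LD2_c25 LD3_c39)) = K48.v5221 :=
  Lgr Lrot127 (Lpr_bf (K48.f663157 IH) (Lpn K48.v5221))
theorem f708701 : v5918 = K48.v5221 :=
  (Llr Lrot164 (Lpe (f650061 IH) (Lpe (f126578 IH) (Lpr_ct (f126579 IH) (Lpe (f126586 IH) (Lpe (f708699 IH) (Lpr_gf (f708693 IH) (Lpe (K5.f112014 IH) (Lpr_ct (f112054 IH) (Lpr_gf (f440074 IH) (Lpe (f708678 IH) (Lpr_bt (f663158 IH) (Lpn K48.v5221))))))))))))).symm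
def v5919 : LQ := Led Lsl_gf (LP (LK LD1_c3 LD2_c14 LD3_c58))
theorem f650062 : Led Lsl_gf (LP (LK LD1_c3 LD2_c14 LD3_c58)) = v5919 :=
  Lrfl
theorem f708711 : K48.v5223 = v5919 :=
  (Llr Lrot52 (Lpe (f646606 IH) (Lpr_at (K48.f646597 IH) (Lpq (f708701 IH) (Lpe (f650061 IH) (Lpr_gf (f650062 IH) (Lpn v5919))))))).symm
theorem f507858 : Led Lsl_ct (LP (LK LD1_c3 LD2_c14 LD3_c58)) = (LP (LK LD1_c6 LD2_c33 LD3_c21)) :=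
  Lre_c IH (LK LD1_c3 LD2_c14 LD3_c58) (LK LD1_c6 LD2_c33 LD3_c21) Lrfl Lrfl
theorem f708715 : Led Lsl_gf (LP (LK LD1_c12 LD2_c28 LD3_c53)) = (LP (LK LD1_c6 LD2_c33 LD3_c21)) :=
  Lgr Lrot129 (Lpe (f67027 IH) (Lpr_bt (f674001 IH) (Lpe (f648280 IH) (Lpe (K48.f209016 IH) (Lpr_ct (K48.f130984 IH) (Lpe (f527814 IH) (Lpe (K34.f139986 IH) (Lpr_bt (f139966 IH) (Lpqs (K48.f663184 IH) (Lpqs (f708711 IH) (Lpe (f650062 IH) (Lpr_ct (f507858 IH) (Lpn (LP (LK LD1_c6 LD2_c33 LD3_c21)))))))))))))))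
theorem f708716 : Led Lsl_gt (LP (LK LD1_c6 LD2_c33 LD3_c21)) = (LP (LK LD1_c12 LD2_c28 LD3_c53)) :=
  Leop (Lpr_gf (f708715 IH) (Lpn (LP (LK LD1_c6 LD2_c33 LD3_c21))))
theorem seed_731 : LEOK LG_g (LK LD1_c6 LD2_c33 LD3_c21) :=
  Leoe_g (LK LD1_c6 LD2_c33 LD3_c21) (f708716 IH)
def v2199 : LQ := Led Lsl_gt (LP (LK LD1_c1 LD2_c37 LD3_c8))
def v8778 : LQ := Led Lsl_dt v2199
theorem f672266 : Led Lsl_dt v2199 = v8778 :=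
  Lrfl
theorem f672267 : Led Lsl_df v2199 = v8778 :=
  Lgr Lrot38 (Lpr_dt (f672266 IH) (Lpn v8778))
theorem f509574 : Led Lsl_gt (LP (LK LD1_c1 LD2_c37 LD3_c8)) = v2199 :=
  Lrfl
def v13475 : LQ := Led Lsl_gf (LP (LK LD1_c4 LD2_c44 LD3_c21))
theorem f703214 : Led Lsl_gf (LP (LK LD1_c4 LD2_c44 LD3_c21)) = v13475 :=
  Lrfl
def v6267 : LQ := Led Lsl_gf (LP (LK LD1_c3 LD2_c19 LD3_c45))
theorem f652483 : Led Lsl_gf (LP (LK LD1_c3 LD2_c19 LD3_c45)) = v6267 :=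
  Lrfl
theorem f144036 : Led Lsl_et (LP (LK LD1_c4 LD2_c44 LD3_c21)) = (LP (LK LD1_c2 LD2_c20 LD3_c9)) :=
  Lre_e IH (LK LD1_c4 LD2_c44 LD3_c21) (LK LD1_c2 LD2_c20 LD3_c9) Lrfl Lrfl
theorem f652487 : Led Lsl_dt (LP (LK LD1_c4 LD2_c44 LD3_c21)) = v6267 :=
  Lgr Lrot136 (Lpr_et (f144036 IH) (Lpe (K50.f25228 IH) (Lpe (K24.f144035 IH) (Lpr_dt (K4.f79268 IH) (Lpe (K2.f23310 IH) (Lpe (K3.f78111 IH) (Lpr_gf (K6.f144022 IH) (Lpe (f62603 IH) (Lpr_dt (K6.f62575 IH) (Lpr_gf (f652483 IH) (Lpn v6267)))))))))))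
def v2035 : LQ := Led Lsl_gt (LP (LK LD1_c1 LD2_c34 LD3_c1))
theorem f507856 : Led Lsl_gt (LP (LK LD1_c1 LD2_c34 LD3_c1)) = v2035 :=
  Lrfl
def v8433 : LQ := Led Lsl_dt v2035
theorem f671211 : Led Lsl_dt v2035 = v8433 :=
  Lrfl
theorem f671212 : Led Lsl_df v2035 = v8433 :=
  Lgr Lrot38 (Lpr_dt (f671211 IH) (Lpn v8433))
theorem f703215 : Led Lsl_et v8433 = v13475 :=
  Lgr Lrot121 (Lpe (f671212 IH) (Lpe (f507856 IH) (Lpe (K5.f126576 IH) (Lpr_et (K4.f78125 IH) (Lpr_gf (K6.f144022 IH) (Lpe (f62603 IH) (Lpr_dt (K6.f62575 IH) (Lpr_gf (f652483 IH) (Lpe (f652487 IH) (Lpr_gf (f703214 IH) (Lpn v13475)))))))))))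
theorem f503510 : Led Lsl_et (LP (LK LD1_c6 LD2_c12 LD3_c51)) = (LP (LK LD1_c3 LD2_c3 LD3_c8)) :=
  Lre_e IH (LK LD1_c6 LD2_c12 LD3_c51) (LK LD1_c3 LD2_c3 LD3_c8) Lrfl Lrfl
theorem f502985 : Led Lsl_et (LP (LK LD1_c3 LD2_c6 LD3_c4)) = K48.v1800 :=
  Lgr Lrot87 (Lpr_ef (K48.f502981 IH) (Lpn K48.v1800))
theorem f632205 : Led Lsl_ff K48.v1800 = v4249 :=
  Lgr Lrot19 (Lpe (K48.f502980 IH) (Lpr_ft (K49.f502988 IH) (Lpqs (K49.f503334 IH) (Lpr_dt (f632202 IH) (Lpn v4249)))))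
theorem f632207 : Led Lsl_ft K48.v1800 = v4249 :=
  Lgr Lrot48 (Lpr_ff (f632205 IH) (Lpn v4249))
theorem f701595 : Led Lsl_et v4249 = v13189 :=
  Lgr Lrot69 (Lpe (f632207 IH) (Lpe (f502985 IH) (Lpe (f503506 IH) (Lpe (f503510 IH) (Lpr_ff (f701594 IH) (Lpn v13189))))))
def v4247 : LQ := Led Lsl_gf (LP (LK LD1_c2 LD2_c17 LD3_c34))
theorem f632186 : Led Lsl_gf (LP (LK LD1_c2 LD2_c17 LD3_c34)) = v4247 :=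
  Lrfl
theorem f649415 : Led Lsl_ct (LP (LK LD1_c6 LD2_c52 LD3_c45)) = (LP (LK LD1_c6 LD2_c12 LD3_c20)) :=
  Lgr Lrot40 (Lpe (K46.f209001 IH) (Lpe (K48.f209012 IH) (Lpr_ff (K48.f649411 IH) (Lpn (LP (LK LD1_c6 LD2_c12 LD3_c20))))))
theorem f662714 : Led Lsl_gt (LP (LK LD1_c6 LD2_c12 LD3_c20)) = K48.v7261 :=
  Lgr Lrot5 (Lpe (K48.f649411 IH) (Lpr_at (K48.f209092 IH) (Lpr_gf (K48.f662713 IH) (Lpn K48.v7261))))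
def v7255 : LQ := Led Lsl_bt (LP (LK LD1_c3 LD2_c43 LD3_c19))
theorem f662677 : Led Lsl_bt (LP (LK LD1_c3 LD2_c43 LD3_c19)) = v7255 :=
  Lrfl
def v1290 : LQ := Led Lsl_ft (LP (LK LD1_c1 LD2_c5 LD3_c42))
theorem f494657 : Led Lsl_ft (LP (LK LD1_c1 LD2_c5 LD3_c42)) = v1290 :=
  Lrfl
theorem f494658 : Led Lsl_af (LP (LK LD1_c1 LD2_c5 LD3_c43)) = v1290 :=
  Lgr Lrot45 (Lpr_ft (K32.f494654 IH) (Lpe (K32.f494653 IH) (Lpr_ft (f494657 IH) (Lpn v1290))))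
theorem f503348 : (LP (LK LD1_c0 LD2_c40 LD3_c26)) = v1290 :=
  Lefun (Lecon (Lfl_ff (K32.f453015 IH)) (K32.f503330 IH)) (f494657 IH)
theorem f632213 : Led Lsl_bf (LP (LK LD1_c3 LD2_c2 LD3_c57)) = K48.v4252 :=
  Lgr Lrot81 (Lpr_at (K49.f453021 IH) (Lpr_bt (K49.f139961 IH) (Lpqs (f503348 IH) (Lpe (f494658 IH) (Lpr_bt (K48.f414313 IH) (Lpr_at (K48.f632211 IH) (Lpn K48.v4252)))))))
theorem f662799 : (LP (LK LD1_c3 LD2_c2 LD3_c57)) = v7255 :=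
  Lefun (Lecon (Lfl_bf (f632213 IH)) (f662783 IH)) (f662677 IH)
theorem f632197 : Led Lsl_gt (LP (LK LD1_c3 LD2_c2 LD3_c57)) = v4247 :=
  Lgr Lrot5 (Lpr_ft (K50.f632192 IH) (Lpe (f632188 IH) (Lpr_gf (f632186 IH) (Lpn v4247))))
theorem f126589 : Led Lsl_bt (LP (LK LD1_c3 LD2_c14 LD3_c58)) = (LP (LK LD1_c1 LD2_c34 LD3_c1)) :=
  Lre_b IH (LK LD1_c3 LD2_c14 LD3_c58) (LK LD1_c1 LD2_c34 LD3_c1) Lrfl Lrfl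
theorem f708717 : v4247 = (LP (LK LD1_c1 LD2_c34 LD3_c1)) :=
  (Llr Lrot164 (Lpe (f632197 IH) (Lpqs (f662799 IH) (Lpe (f662677 IH) (Lpr_ct (f209500 IH) (Lpq (f662802 IH) (Lpe (f662714 IH) (Lpe (f649415 IH) (Lpr_gf (f648280 IH) (Lpe (f674001 IH) (Lpr_ct (f67027 IH) (Lpr_gf (f708715 IH) (Lpe (f507858 IH) (Lpr_bt (f126589 IH) (Lpn (LP (LK LD1_c1 LD2_c34 LD3_c1))))))))))))))))).symm
theorem f708718 : (LP (LK LD1_c2 LD2_c17 LD3_c34)) = v2035 :=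
  Lefun (Lecon (Lfl_gf (f632186 IH)) (f708717 IH)) (f507856 IH)
theorem f708732 : v8433 = v4249 :=
  Lefun (Lecon (f671211 IH) (f708718 IH).symm) (f632202 IH)
theorem f708757 : v13475 = v13189 :=
  Lefun (Lecon (f703215 IH) (f708732 IH)) (f701595 IH)
def v13474 : LQ := Led Lsl_gt (LP (LK LD1_c4 LD2_c44 LD3_c21))
theorem f703213 : Led Lsl_gt (LP (LK LD1_c4 LD2_c44 LD3_c21)) = v13474 :=
  Lrfl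
theorem f708254 : Led Lsl_at (LP (LK LD1_c6 LD2_c12 LD3_c51)) = K50.v13456 :=
  Lgr Lrot100 (Lpr_af (f708253 IH) (Lpn K50.v13456))
theorem f708788 : v13474 = K50.v13456 :=
  (Llr Lrot46 (Lpe (f703213 IH) (Lpr_gf (f703214 IH) (Lpqs (f708757 IH) (Lpe (f701594 IH) (Lpr_at (f708254 IH) (Lpn K50.v13456))))))).symm
theorem f632976 : Led Lsl_et (LP (LK LD1_c2 LD2_c20 LD3_c9)) = (LP (LK LD1_c4 LD2_c44 LD3_c21)) :=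
  Lre_e IH (LK LD1_c2 LD2_c20 LD3_c9) (LK LD1_c4 LD2_c44 LD3_c21) Lrfl Lrfl
theorem f708791 : v8778 = (LP (LK LD1_c2 LD2_c20 LD3_c9)) :=
  (Llr Lrot168 (Lpe (f672267 IH) (Lpe (f509574 IH) (Lpr_df (K32.f509580 IH) (Lpe (K32.f509581 IH) (Lpq (f708110 IH) (Lpe (f671934 IH) (Lpe (f509194 IH) (Lpr_dt (K50.f509174 IH) (Lpr_gf (K50.f652581 IH) (Lpr_df (K50.f703083 IH) (Lpq (f708788 IH) (Lpe (f703213 IH) (Lpe (f632976 IH) (Lpn (LP (LK LD1_c2 LD2_c20 LD3_c9))))))))))))))))).symm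
theorem f25277 : Led Lsl_dt (LP (LK LD1_c4 LD2_c44 LD3_c17)) = (LP (LK LD1_c9 LD2_c21 LD3_c24)) :=
  Lre_d IH (LK LD1_c4 LD2_c44 LD3_c17) (LK LD1_c9 LD2_c21 LD3_c24) Lrfl Lrfl
theorem f509585 : Led Lsl_et K32.v1370 = K32.v2200 :=
  Lgr Lrot87 (Lpr_ef (K32.f509581 IH) (Lpn K32.v2200))
theorem f653373 : Led Lsl_at K32.v2200 = v6429 :=
  Lgr Lrot80 (Lpe (f509585 IH) (Lpr_af (f653166 IH) (Lpr_ef (f653372 IH) (Lpn v6429))))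
theorem f653383 : Led Lsl_gt v2199 = v6429 :=
  Lgr Lrot46 (Lpe (f509574 IH) (Lpr_ft (K32.f509586 IH) (Lpr_at (f653373 IH) (Lpn v6429))))
theorem f653371 : Led Lsl_df (LP (LK LD1_c3 LD2_c21 LD3_c41)) = v6429 :=
  Lgr Lrot38 (Lpr_dt (f653368 IH) (Lpn v6429))
theorem f708798 : Led Lsl_gt (LP (LK LD1_c9 LD2_c21 LD3_c24)) = (LP (LK LD1_c12 LD2_c56 LD3_c59)) :=
  Lgr Lrot49 (Lpe (f25277 IH) (Lpe (f25276 IH) (Lpe (f25214 IH) (Lpr_gt (K50.f25228 IH) (Lpq (f708791 IH) (Lpe (f672267 IH) (Lpr_gt (f653383 IH) (Lpe (f653371 IH) (Lpe (K32.f454619 IH) (Lpe (K32.f454627 IH) (Lpn (LP (LK LD1_c12 LD2_c56 LD3_c59)))))))))))))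
theorem f437820 : Led Lsl_dt (LP (LK LD1_c9 LD2_c21 LD3_c24)) = (LP (LK LD1_c4 LD2_c44 LD3_c17)) :=
  Lre_d IH (LK LD1_c9 LD2_c21 LD3_c24) (LK LD1_c4 LD2_c44 LD3_c17) Lrfl Lrfl
def v13447 : LQ := Led Lsl_ft (LP (LK LD1_c4 LD2_c44 LD3_c6))
theorem f703026 : Led Lsl_ft (LP (LK LD1_c4 LD2_c44 LD3_c6)) = v13447 :=
  Lrfl
theorem f703030 : Led Lsl_ff (LP (LK LD1_c4 LD2_c44 LD3_c6)) = v13447 :=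
  Lgr Lrot3 (Lpr_ft (f703026 IH) (Lpn v13447))
theorem f25313 : Led Lsl_at (LP (LK LD1_c4 LD2_c44 LD3_c6)) = (LP (LK LD1_c2 LD2_c20 LD3_c8)) :=
  Lre_a IH (LK LD1_c4 LD2_c44 LD3_c6) (LK LD1_c2 LD2_c20 LD3_c8) Lrfl Lrfl
def v4368 : LQ := Led Lsl_ft (LP (LK LD1_c2 LD2_c20 LD3_c8))
theorem f632959 : Led Lsl_ft (LP (LK LD1_c2 LD2_c20 LD3_c8)) = v4368 :=
  Lrfl
theorem f703031 : Led Lsl_at v4368 = v13447 :=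
  Lgr Lrot66 (Lpe (f632959 IH) (Lpe (f25313 IH) (Lpr_ff (f703030 IH) (Lpn v13447))))
theorem f703037 : Led Lsl_gt (LP (LK LD1_c4 LD2_c44 LD3_c17)) = v13447 :=
  Lgr Lrot46 (Lpe (f25276 IH) (Lpr_ft (f632959 IH) (Lpr_at (f703031 IH) (Lpn v13447))))
theorem f703028 : Led Lsl_cf v4363 = v13447 :=
  Lgr Lrot108 (Lpe (f632932 IH) (Lpr_ct (K46.f144100 IH) (Lpr_ft (f703026 IH) (Lpn v13447))))
theorem f144058 : Led Lsl_ct (LP (LK LD1_c2 LD2_c20 LD3_c10)) = (LP (LK LD1_c4 LD2_c44 LD3_c22)) :=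
  Lre_c IH (LK LD1_c2 LD2_c20 LD3_c10) (LK LD1_c4 LD2_c44 LD3_c22) Lrfl Lrfl
theorem f632939 : Led Lsl_dt (LP (LK LD1_c4 LD2_c44 LD3_c22)) = (LP (LK LD1_c9 LD2_c21 LD3_c34)) :=
  Lre_d IH (LK LD1_c4 LD2_c44 LD3_c22) (LK LD1_c9 LD2_c21 LD3_c34) Lrfl Lrfl
theorem f632940 : Led Lsl_ct (LP (LK LD1_c17 LD2_c17 LD3_c46)) = (LP (LK LD1_c9 LD2_c21 LD3_c34)) :=
  Lre_c IH (LK LD1_c17 LD2_c17 LD3_c46) (LK LD1_c9 LD2_c21 LD3_c34) Lrfl Lrfl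
theorem f509604 : Led Lsl_ct (LP (LK LD1_c12 LD2_c56 LD3_c59)) = (LP (LK LD1_c22 LD2_c6 LD3_c39)) :=
  Lre_c IH (LK LD1_c12 LD2_c56 LD3_c59) (LK LD1_c22 LD2_c6 LD3_c39) Lrfl Lrfl
theorem f708800 : Led Lsl_gf (LP (LK LD1_c17 LD2_c17 LD3_c46)) = (LP (LK LD1_c22 LD2_c6 LD3_c39)) :=
  Lgr Lrot104 (Lpr_ct (f632940 IH) (Lpe (f632939 IH) (Lpe (f144058 IH) (Lpr_gf (f632938 IH) (Lpr_cf (f703028 IH) (Lpe (f703037 IH) (Lpe (f437820 IH) (Lpr_gt (f708798 IH) (Lpr_ct (f509604 IH) (Lpn (LP (LK LD1_c22 LD2_c6 LD3_c39))))))))))))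
theorem f708801 : Led Lsl_gt (LP (LK LD1_c22 LD2_c6 LD3_c39)) = (LP (LK LD1_c17 LD2_c17 LD3_c46)) :=
  Leop (Lpr_gf (f708800 IH) (Lpn (LP (LK LD1_c22 LD2_c6 LD3_c39))))
theorem seed_732 : LEOK LG_g (LK LD1_c22 LD2_c6 LD3_c39) :=
  Leoe_g (LK LD1_c22 LD2_c6 LD3_c39) (f708801 IH)
def v5294 : LQ := Led Lsl_gf (LP (LK LD1_c3 LD2_c3 LD3_c8))
theorem f646927 : Led Lsl_gf (LP (LK LD1_c3 LD2_c3 LD3_c8)) = v5294 :=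
  Lrfl
theorem f647093 : Led Lsl_gf v5294 = K48.v5325 :=
  Lgr Lrot47 (Lpe (f646927 IH) (Lpr_af (f646929 IH) (Lpr_ff (f647090 IH) (Lpn K48.v5325))))
theorem f127201 : Led Lsl_af (LP (LK LD1_c4 LD2_c44 LD3_c14)) = (LP (LK LD1_c3 LD2_c14 LD3_c56)) :=
  Lgr Lrot0 (Lpr_at (K5.f127192 IH) (Lpn (LP (LK LD1_c3 LD2_c14 LD3_c56))))
theorem f440267 : Led Lsl_ft (LP (LK LD1_c1 LD2_c33 LD3_c60)) = (LP (LK LD1_c3 LD2_c14 LD3_c56)) :=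
  Lre_f IH (LK LD1_c1 LD2_c33 LD3_c60) (LK LD1_c3 LD2_c14 LD3_c56) Lrfl Lrfl
theorem f112970 : Led Lsl_gt (LP (LK LD1_c1 LD2_c33 LD3_c60)) = (LP (LK LD1_c3 LD2_c14 LD3_c54)) :=
  Lre_g IH (LK LD1_c1 LD2_c33 LD3_c60) (LK LD1_c3 LD2_c14 LD3_c54) Lrfl Lrfl
theorem f440268 : Led Lsl_gf (LP (LK LD1_c4 LD2_c44 LD3_c14)) = (LP (LK LD1_c3 LD2_c14 LD3_c54)) :=
  Lgr Lrot76 (Lpr_af (f127201 IH) (Lpe (f440267 IH) (Lpr_gt (f112970 IH) (Lpn (LP (LK LD1_c3 LD2_c14 LD3_c54))))))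
def v5911 : LQ := Led Lsl_et (LP (LK LD1_c3 LD2_c14 LD3_c54))
theorem f650033 : Led Lsl_et (LP (LK LD1_c3 LD2_c14 LD3_c54)) = v5911 :=
  Lrfl
theorem f650034 : Led Lsl_ef (LP (LK LD1_c3 LD2_c14 LD3_c54)) = v5911 :=
  Lgr Lrot88 (Lpr_et (f650033 IH) (Lpn v5911))
def v2036 : LQ := Led Lsl_gf (LP (LK LD1_c1 LD2_c34 LD3_c1))
theorem f507859 : Led Lsl_gf (LP (LK LD1_c1 LD2_c34 LD3_c1)) = v2036 :=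
  Lrfl
theorem f650035 : Led Lsl_df v2036 = v5911 :=
  Lgr Lrot170 (Lpe (f507859 IH) (Lpe (K5.f126576 IH) (Lpr_et (K4.f78125 IH) (Lpr_gt (K2.f78109 IH) (Lpe (K4.f113128 IH) (Lpr_gt (K4.f5833 IH) (Lpe (K5.f112960 IH) (Lpr_et (K5.f112962 IH) (Lpr_gt (f112970 IH) (Lpr_ef (f650034 IH) (Lpn v5911)))))))))))
theorem f650036 : Led Lsl_dt v2036 = v5911 :=
  Lgr Lrot42 (Lpr_df (f650035 IH) (Lpn v5911))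
theorem f708720 : (LP (LK LD1_c3 LD2_c2 LD3_c57)) = v2036 :=
  Lefun (Lecon (Lfl_gt (f632197 IH)) (f708717 IH)) (f507859 IH)
theorem f708737 : v5911 = K48.v5279 :=
  Lefun (Lecon (f650036 IH) (f708720 IH).symm) (K48.f646885 IH)
theorem f708759 : (LP (LK LD1_c3 LD2_c14 LD3_c54)) = K48.v5325 :=
  Lefun (Lecon (Lfl_ef (f650034 IH)) (f708737 IH)) (K48.f647095 IH)
theorem f708763 : v5294 = (LP (LK LD1_c4 LD2_c44 LD3_c14)) :=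
  Lefun (Lecon (Lfl_gf (f647093 IH)) (f708759 IH).symm) (Lfl_gf (f440268 IH))
theorem f440266 : Led Lsl_ft (LP (LK LD1_c4 LD2_c44 LD3_c14)) = (LP (LK LD1_c2 LD2_c20 LD3_c5)) :=
  Lre_f IH (LK LD1_c4 LD2_c44 LD3_c14) (LK LD1_c2 LD2_c20 LD3_c5) Lrfl Lrfl
theorem f507863 : Led Lsl_ef (LP (LK LD1_c4 LD2_c44 LD3_c14)) = v2037 :=
  Lgr Lrot21 (Lpr_ft (f440266 IH) (Lpr_et (K5.f127127 IH) (Lpe (K5.f127117 IH) (Lpr_et (K5.f126568 IH) (Lpr_ft (f507862 IH) (Lpn v2037))))))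
theorem f708815 : Led Lsl_gf v8650 = v13822 :=
  Lgr Lrot145 (Lpe (f671901 IH) (Lpq (f708264 IH) (Lpe (f672249 IH) (Lpr_gt (f653174 IH) (Lpe (f653168 IH) (Lpe (K46.f495169 IH) (Lpqs (K50.f674269 IH) (Lpe (K50.f646877 IH) (Lpq (K49.f674264 IH) (Lpq (f708039 IH) (Lpe (f507863 IH) (Lpq (f708763 IH) (Lpe (f646927 IH) (Lpe (f503510 IH) (Lpr_dt (f705072 IH) (Lpn v13822))))))))))))))))
theorem f652585 : Led Lsl_dt K50.v2137 = K50.v6288 :=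
  Lgr Lrot42 (Lpr_df (K50.f652584 IH) (Lpn K50.v6288))
def v8653 : LQ := Led Lsl_gf K50.v2137
theorem f671910 : Led Lsl_gf K50.v2137 = v8653 :=
  Lrfl
theorem f144002 : Led Lsl_at (LP (LK LD1_c0 LD2_c44 LD3_c39)) = (LP (LK LD1_c1 LD2_c36 LD3_c16)) :=
  Lre_a IH (LK LD1_c0 LD2_c44 LD3_c39) (LK LD1_c1 LD2_c36 LD3_c16) Lrfl Lrfl
theorem f155967 : Led Lsl_ft (LP (LK LD1_c1 LD2_c36 LD3_c23)) = (LP (LK LD1_c0 LD2_c44 LD3_c39)) :=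
  Lre_f IH (LK LD1_c1 LD2_c36 LD3_c23) (LK LD1_c0 LD2_c44 LD3_c39) Lrfl Lrfl
theorem f509164 : Led Lsl_gt (LP (LK LD1_c1 LD2_c36 LD3_c23)) = v2135 :=
  Lgr Lrot5 (Lpr_ft (f155967 IH) (Lpr_at (f144002 IH) (Lpr_gf (f509163 IH) (Lpn v2135))))
theorem f671911 : Led Lsl_gt v2140 = v8653 :=
  Lgr Lrot5 (Lpe (f509199 IH) (Lpr_at (K50.f509187 IH) (Lpr_gf (f671910 IH) (Lpn v8653))))
theorem f509169 : Led Lsl_af (LP (LK LD1_c1 LD2_c36 LD3_c23)) = K50.v2136 :=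
  Lgr Lrot45 (Lpr_ft (f155967 IH) (Lpr_at (f144002 IH) (Lpr_ft (K50.f509168 IH) (Lpn K50.v2136))))
theorem f509171 : Led Lsl_gt v2134 = (LP (LK LD1_c1 LD2_c36 LD3_c23)) :=
  Lgr Lrot46 (Lpe (f509161 IH) (Lpr_ft (K50.f509168 IH) (Lpe (f509169 IH) (Lpn (LP (LK LD1_c1 LD2_c36 LD3_c23))))))
theorem f708284 : v8653 = (LP (LK LD1_c1 LD2_c36 LD3_c23)) :=
  Lefun (Lecon (f671911 IH) (f708283 IH)) (f509171 IH)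
theorem f708291 : K50.v2137 = v2135 :=
  Lefun (Lecon (Lfl_gf (f671910 IH)) (f708284 IH)) (f509164 IH)
theorem f708295 : K50.v6288 = v8650 :=
  Lefun (Lecon (f652585 IH) (f708291 IH)) (f671901 IH)
def v8651 : LQ := Led Lsl_et v2135
theorem f671906 : Led Lsl_et v2135 = v8651 :=
  Lrfl
theorem f708265 : v2197 = v8651 :=
  Lefun (Lecon (Lfl_ef (f672249 IH)) (f708264 IH)) (f671906 IH)
theorem f62382 : Led Lsl_et (LP (LK LD1_c0 LD2_c44 LD3_c39)) = (LP (LK LD1_c0 LD2_c19 LD3_c51)) :=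
  Lre_e IH (LK LD1_c0 LD2_c44 LD3_c39) (LK LD1_c0 LD2_c19 LD3_c51) Lrfl Lrfl
theorem f57235 : Led Lsl_gt (LP (LK LD1_c3 LD2_c19 LD3_c58)) = (LP (LK LD1_c1 LD2_c36 LD3_c22)) :=
  Lre_g IH (LK LD1_c3 LD2_c19 LD3_c58) (LK LD1_c1 LD2_c36 LD3_c22) Lrfl Lrfl
theorem f104301 : Led Lsl_dt (LP (LK LD1_c6 LD2_c43 LD3_c45)) = (LP (LK LD1_c3 LD2_c19 LD3_c58)) :=
  Lre_d IH (LK LD1_c6 LD2_c43 LD3_c45) (LK LD1_c3 LD2_c19 LD3_c58) Lrfl Lrfl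
theorem f632921 : Led Lsl_et (LP (LK LD1_c6 LD2_c43 LD3_c45)) = v4361 :=
  Lgr Lrot122 (Lpr_dt (f104301 IH) (Lpr_gt (f57235 IH) (Lpe (K5.f62343 IH) (Lpr_et (f62382 IH) (Lpe (K3.f104287 IH) (Lpr_dt (K4.f26165 IH) (Lpr_gt (K7.f156500 IH) (Lpe (K7.f144105 IH) (Lpr_et (f144103 IH) (Lpr_gt (f632920 IH) (Lpn v4361)))))))))))
theorem f632924 : Led Lsl_ef (LP (LK LD1_c6 LD2_c43 LD3_c45)) = v4361 :=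
  Lgr Lrot88 (Lpr_et (f632921 IH) (Lpn v4361))
theorem f708816 : Led Lsl_gt (LP (LK LD1_c6 LD2_c43 LD3_c45)) = (LP (LK LD1_c6 LD2_c12 LD3_c51)) :=
  Lgr Lrot137 (Lpr_ef (f632924 IH) (Lpr_dt (f708008 IH) (Lpe (f653365 IH) (Lpr_df (f653371 IH) (Lpe (f653372 IH) (Lpe (f653174 IH) (Lpqs (f708265 IH) (Lpe (f671906 IH) (Lpq (f708291 IH) (Lpr_dt (f652585 IH) (Lpqs (f708295 IH) (Lpr_gf (f708815 IH) (Lpe (f705072 IH) (Lpn (LP (LK LD1_c6 LD2_c12 LD3_c51))))))))))))))))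
theorem f708817 : Led Lsl_gt (LP (LK LD1_c6 LD2_c43 LD3_c45)) = (LP (LK LD1_c6 LD2_c12 LD3_c51)) :=
  Leop (Lpe (f708816 IH) (Lpn (LP (LK LD1_c6 LD2_c43 LD3_c45))))
theorem seed_733 : LEOK LG_g (LK LD1_c6 LD2_c43 LD3_c45) :=
  Leoe_g (LK LD1_c6 LD2_c43 LD3_c45) (f708817 IH)
def v5765 : LQ := Led Lsl_bt (LP (LK LD1_c3 LD2_c13 LD3_c5))
theorem f649266 : Led Lsl_bt (LP (LK LD1_c3 LD2_c13 LD3_c5)) = v5765 :=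
  Lrfl
def v8121 : LQ := Led Lsl_dt v1847
theorem f670086 : Led Lsl_dt v1847 = v8121 :=
  Lrfl
theorem f670087 : Led Lsl_df v1847 = v8121 :=
  Lgr Lrot38 (Lpr_dt (f670086 IH) (Lpn v8121))
theorem f91450 : Led Lsl_et (LP (LK LD1_c0 LD2_c41 LD3_c37)) = (LP (LK LD1_c1 LD2_c30 LD3_c2)) :=
  Lre_e IH (LK LD1_c0 LD2_c41 LD3_c37) (LK LD1_c1 LD2_c30 LD3_c2) Lrfl Lrfl
theorem f91453 : Led Lsl_df (LP (LK LD1_c6 LD2_c29 LD3_c13)) = (LP (LK LD1_c6 LD2_c20 LD3_c6)) :=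
  Lgr Lrot132 (Lpe (f91449 IH) (Lpe (f82671 IH) (Lpe (K46.f82670 IH) (Lpe (K11.f82379 IH) (Lpr_dt (K11.f26080 IH) (Lpe (K3.f26088 IH) (Lpr_df (K3.f91439 IH) (Lpr_et (f91450 IH) (Lpe (f91451 IH) (Lpe (f91452 IH) (Lpn (LP (LK LD1_c6 LD2_c20 LD3_c6)))))))))))))
def v5735 : LQ := Led Lsl_gf (LP (LK LD1_c3 LD2_c12 LD3_c34))
theorem f649120 : Led Lsl_gf (LP (LK LD1_c3 LD2_c12 LD3_c34)) = v5735 :=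
  Lrfl
theorem f670088 : Led Lsl_ef v5735 = v8121 :=
  Lgr Lrot114 (Lpe (f649120 IH) (Lpe (f91461 IH) (Lpr_dt (f82671 IH) (Lpr_gt (f91449 IH) (Lpr_df (f91453 IH) (Lpr_et (f91452 IH) (Lpr_gt (f91451 IH) (Lpe (f131449 IH) (Lpr_gt (f504551 IH) (Lpr_df (f670087 IH) (Lpn v8121)))))))))))
theorem f639573 : Led Lsl_ff (LP (LK LD1_c9 LD2_c13 LD3_c9)) = (LP (LK LD1_c6 LD2_c2 LD3_c2)) :=
  Lgr Lrot3 (Lpr_ft (K50.f639567 IH) (Lpn (LP (LK LD1_c6 LD2_c2 LD3_c2))))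
theorem f69107 : Led Lsl_dt (LP (LK LD1_c1 LD2_c24 LD3_c19)) = (LP (LK LD1_c2 LD2_c57 LD3_c8)) :=
  Lre_d IH (LK LD1_c1 LD2_c24 LD3_c19) (LK LD1_c2 LD2_c57 LD3_c8) Lrfl Lrfl
theorem f507540 : Led Lsl_gf (LP (LK LD1_c6 LD2_c2 LD3_c3)) = (LP (LK LD1_c2 LD2_c57 LD3_c8)) :=
  Lgr Lrot145 (Lpr_df (K50.f507533 IH) (Lpe (K32.f506739 IH) (Lpr_gt (K24.f416726 IH) (Lpr_dt (K24.f140054 IH) (Lpr_gt (K24.f140053 IH) (Lpe (K24.f140048 IH) (Lpr_et (K35.f140050 IH) (Lpe (K24.f416537 IH) (Lpe (K16.f415423 IH) (Lpr_dt (f69107 IH) (Lpn (LP (LK LD1_c2 LD2_c57 LD3_c8)))))))))))))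
theorem f639577 : Led Lsl_at (LP (LK LD1_c9 LD2_c13 LD3_c9)) = (LP (LK LD1_c6 LD2_c2 LD3_c3)) :=
  Lgr Lrot26 (Lpr_ff (f639573 IH) (Lpr_gt (K50.f444240 IH) (Lpe (f507540 IH) (Lpn (LP (LK LD1_c6 LD2_c2 LD3_c3))))))
theorem f639579 : Led Lsl_af (LP (LK LD1_c5 LD2_c57 LD3_c18)) = (LP (LK LD1_c9 LD2_c9 LD3_c9)) :=
  Lgr Lrot117 (Lpr_dt (K46.f507518 IH) (Lpr_at (f639577 IH) (Lpr_dt (K50.f507536 IH) (Lpn (LP (LK LD1_c9 LD2_c9 LD3_c9))))))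
theorem f639587 : Led Lsl_at (LP (LK LD1_c3 LD2_c21 LD3_c2)) = (LP (LK LD1_c4 LD2_c49 LD3_c31)) :=
  Lgr Lrot80 (Lpe (K50.f442906 IH) (Lpr_af (f639579 IH) (Lpe (K50.f506744 IH) (Lpn (LP (LK LD1_c4 LD2_c49 LD3_c31))))))
theorem f639513 : Led Lsl_at (LP (LK LD1_c3 LD2_c0 LD3_c48)) = (LP (LK LD1_c4 LD2_c40 LD3_c5)) :=
  Lgr Lrot100 (Lpr_af (K50.f639511 IH) (Lpn (LP (LK LD1_c4 LD2_c40 LD3_c5))))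
theorem f639590 : Led Lsl_ff (LP (LK LD1_c3 LD2_c21 LD3_c2)) = (LP (LK LD1_c4 LD2_c40 LD3_c5)) :=
  Lgr Lrot30 (Lpr_at (f639587 IH) (Lpe (K50.f639535 IH) (Lpr_at (f639513 IH) (Lpn (LP (LK LD1_c4 LD2_c40 LD3_c5))))))
theorem f639594 : Led Lsl_ft (LP (LK LD1_c3 LD2_c6 LD3_c60)) = (LP (LK LD1_c3 LD2_c12 LD3_c44)) :=
  Lgr Lrot4 (Lpr_cf (K24.f414595 IH) (Lpr_ff (f639590 IH) (Lpr_cf (K32.f140008 IH) (Lpn (LP (LK LD1_c3 LD2_c12 LD3_c44))))))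
theorem f639598 : Led Lsl_ff (LP (LK LD1_c3 LD2_c13 LD3_c5)) = (LP (LK LD1_c3 LD2_c6 LD3_c44)) :=
  Lgr Lrot72 (Lpe (K32.f79828 IH) (Lpr_ft (f639594 IH) (Lpr_et (K9.f79708 IH) (Lpr_ft (K48.f506759 IH) (Lpqs (K48.f639389 IH) (Lpr_et (K32.f61691 IH) (Lpn (LP (LK LD1_c3 LD2_c6 LD3_c44)))))))))
theorem f61686 : Led Lsl_bt (LP (LK LD1_c6 LD2_c18 LD3_c51)) = (LP (LK LD1_c3 LD2_c6 LD3_c44)) :=
  Lre_b IH (LK LD1_c6 LD2_c18 LD3_c51) (LK LD1_c3 LD2_c6 LD3_c44) Lrfl Lrfl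
theorem f649269 : Led Lsl_ff (LP (LK LD1_c6 LD2_c18 LD3_c51)) = v5765 :=
  Lgr Lrot25 (Lpr_bt (f61686 IH) (Lpe (f639598 IH) (Lpr_bt (f649266 IH) (Lpn v5765))))
theorem f640058 : Led Lsl_et (LP (LK LD1_c6 LD2_c18 LD3_c51)) = (LP (LK LD1_c3 LD2_c6 LD3_c42)) :=
  Lre_e IH (LK LD1_c6 LD2_c18 LD3_c51) (LK LD1_c3 LD2_c6 LD3_c42) Lrfl Lrfl
def v5376 : LQ := Led Lsl_dt (LP (LK LD1_c3 LD2_c6 LD3_c59))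
theorem f647292 : Led Lsl_dt (LP (LK LD1_c3 LD2_c6 LD3_c59)) = v5376 :=
  Lrfl
theorem f647293 : Led Lsl_bf (LP (LK LD1_c3 LD2_c6 LD3_c60)) = v5376 :=
  Lgr Lrot93 (Lpr_dt (K11.f66979 IH) (Lpr_bt (f140037 IH) (Lpr_dt (f647292 IH) (Lpn v5376))))
theorem f649176 : Led Lsl_ff v5376 = v5746 :=
  Lgr Lrot25 (Lpe (f647293 IH) (Lpr_ft (f639594 IH) (Lpr_bt (f649172 IH) (Lpn v5746))))
theorem f649270 : Led Lsl_et v5376 = v5765 :=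
  Lgr Lrot69 (Lpr_ff (f649176 IH) (Lpe (f649179 IH) (Lpe (K48.f640057 IH) (Lpe (f640058 IH) (Lpr_ff (f649269 IH) (Lpn v5765))))))
theorem f707591 : v8121 = v5376 :=
  Lefun (Lecon (f670086 IH) (f707569 IH).symm) (f647292 IH)
theorem f707603 : v5735 = v5765 :=
  Lefun (Lecon (Lfl_ef (f670088 IH)) (f707591 IH)) (f649270 IH)
theorem f649116 : Led Lsl_bt (LP (LK LD1_c6 LD2_c29 LD3_c9)) = (LP (LK LD1_c3 LD2_c12 LD3_c34)) :=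
  Lre_b IH (LK LD1_c6 LD2_c29 LD3_c9) (LK LD1_c3 LD2_c12 LD3_c34) Lrfl Lrfl
theorem f649118 : Led Lsl_ct (LP (LK LD1_c6 LD2_c29 LD3_c9)) = (LP (LK LD1_c12 LD2_c28 LD3_c36)) :=
  Lre_c IH (LK LD1_c6 LD2_c29 LD3_c9) (LK LD1_c12 LD2_c28 LD3_c36) Lrfl Lrfl
theorem f708819 : Led Lsl_gf (LP (LK LD1_c12 LD2_c4 LD3_c47)) = (LP (LK LD1_c12 LD2_c28 LD3_c36)) :=
  Lgr Lrot126 (Lpe (f415354 IH) (Lpr_bt (f23285 IH) (Lpr_gt (K32.f415351 IH) (Lpr_ct (K32.f415435 IH) (Lpe (K46.f507516 IH) (Lpr_cf (K48.f442896 IH) (Lpr_bt (f649266 IH) (Lpq (f707603 IH) (Lpe (f649120 IH) (Lpe (f649116 IH) (Lpr_ct (f649118 IH) (Lpn (LP (LK LD1_c12 LD2_c28 LD3_c36))))))))))))))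
theorem f708820 : Led Lsl_gt (LP (LK LD1_c12 LD2_c28 LD3_c36)) = (LP (LK LD1_c12 LD2_c4 LD3_c47)) :=
  Leop (Lpr_gf (f708819 IH) (Lpn (LP (LK LD1_c12 LD2_c28 LD3_c36))))
theorem seed_734 : LEOK LG_g (LK LD1_c12 LD2_c28 LD3_c36) :=
  Leoe_g (LK LD1_c12 LD2_c28 LD3_c36) (f708820 IH)
theorem f127196 : Led Lsl_ct (LP (LK LD1_c4 LD2_c44 LD3_c11)) = (LP (LK LD1_c2 LD2_c20 LD3_c5)) :=
  Lre_c IH (LK LD1_c4 LD2_c44 LD3_c11) (LK LD1_c2 LD2_c20 LD3_c5) Lrfl Lrfl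
theorem f127303 : Led Lsl_bt (LP (LK LD1_c4 LD2_c44 LD3_c11)) = (LP (LK LD1_c9 LD2_c21 LD3_c12)) :=
  Lre_b IH (LK LD1_c4 LD2_c44 LD3_c11) (LK LD1_c9 LD2_c21 LD3_c12) Lrfl Lrfl
theorem f127221 : Led Lsl_gt (LP (LK LD1_c9 LD2_c21 LD3_c12)) = (LP (LK LD1_c17 LD2_c17 LD3_c10)) :=
  Lre_g IH (LK LD1_c9 LD2_c21 LD3_c12) (LK LD1_c17 LD2_c17 LD3_c10) Lrfl Lrfl
theorem f127227 : Led Lsl_bt (LP (LK LD1_c27 LD2_c6 LD3_c32)) = (LP (LK LD1_c17 LD2_c17 LD3_c10)) :=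
  Lre_b IH (LK LD1_c27 LD2_c6 LD3_c32) (LK LD1_c17 LD2_c17 LD3_c10) Lrfl Lrfl
theorem f111926 : Led Lsl_gt (LP (LK LD1_c6 LD2_c33 LD3_c31)) = (LP (LK LD1_c7 LD2_c38 LD3_c4)) :=
  Lgr Lrot5 (Lpr_ft (K5.f111923 IH) (Lpr_at (K5.f111913 IH) (Lpe (K50.f64315 IH) (Lpn (LP (LK LD1_c7 LD2_c38 LD3_c4))))))
theorem f111930 : Led Lsl_bt (LP (LK LD1_c12 LD2_c34 LD3_c4)) = (LP (LK LD1_c6 LD2_c33 LD3_c31)) :=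
  Lre_b IH (LK LD1_c12 LD2_c34 LD3_c4) (LK LD1_c6 LD2_c33 LD3_c31) Lrfl Lrfl
theorem f128656 : Led Lsl_at (LP (LK LD1_c23 LD2_c55 LD3_c22)) = (LP (LK LD1_c17 LD2_c18 LD3_c24)) :=
  Lgr Lrot107 (Lpe (K5.f87753 IH) (Lpe (K5.f111934 IH) (Lpr_cf (K5.f128652 IH) (Lpn (LP (LK LD1_c17 LD2_c18 LD3_c24))))))
theorem f440088 : Led Lsl_gt (LP (LK LD1_c14 LD2_c17 LD3_c43)) = (LP (LK LD1_c23 LD2_c55 LD3_c21)) :=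
  Lre_g IH (LK LD1_c14 LD2_c17 LD3_c43) (LK LD1_c23 LD2_c55 LD3_c21) Lrfl Lrfl
theorem f440089 : Led Lsl_gt (LP (LK LD1_c23 LD2_c55 LD3_c21)) = (LP (LK LD1_c17 LD2_c18 LD3_c24)) :=
  Lgr Lrot46 (Lpe (f440088 IH) (Lpr_ft (K5.f87904 IH) (Lpr_at (f128656 IH) (Lpn (LP (LK LD1_c17 LD2_c18 LD3_c24))))))
theorem f703097 : Led Lsl_ct (LP (LK LD1_c27 LD2_c6 LD3_c32)) = (LP (LK LD1_c23 LD2_c55 LD3_c21)) :=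
  Lgr Lrot64 (Lpr_bt (f127227 IH) (Lpe (f127221 IH) (Lpe (f127303 IH) (Lpr_ct (f127196 IH) (Lpe (K50.f127132 IH) (Lpr_cf (K50.f703080 IH) (Lpq (K50.f703089 IH) (Lpe (f111926 IH) (Lpe (f111930 IH) (Lpr_ct (K5.f128661 IH) (Lpe (f440089 IH) (Lpn (LP (LK LD1_c23 LD2_c55 LD3_c21))))))))))))))
theorem f127222 : Led Lsl_gt (LP (LK LD1_c17 LD2_c17 LD3_c10)) = (LP (LK LD1_c14 LD2_c32 LD3_c18)) :=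
  Lgr Lrot46 (Lpe (f127221 IH) (Lpr_ft (K5.f127218 IH) (Lpr_at (K5.f127209 IH) (Lpn (LP (LK LD1_c14 LD2_c32 LD3_c18))))))
theorem f97776 : Led Lsl_ct (LP (LK LD1_c14 LD2_c32 LD3_c18)) = (LP (LK LD1_c24 LD2_c14 LD3_c25)) :=
  Lre_c IH (LK LD1_c14 LD2_c32 LD3_c18) (LK LD1_c24 LD2_c14 LD3_c25) Lrfl Lrfl
theorem f93882 : Led Lsl_ct (LP (LK LD1_c7 LD2_c34 LD3_c53)) = (LP (LK LD1_c14 LD2_c17 LD3_c43)) :=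
  Lre_c IH (LK LD1_c7 LD2_c34 LD3_c53) (LK LD1_c14 LD2_c17 LD3_c43) Lrfl Lrfl
theorem f93908 : Led Lsl_bt (LP (LK LD1_c7 LD2_c34 LD3_c53)) = (LP (LK LD1_c3 LD2_c47 LD3_c3)) :=
  Lre_b IH (LK LD1_c7 LD2_c34 LD3_c53) (LK LD1_c3 LD2_c47 LD3_c3) Lrfl Lrfl
theorem f87775 : Led Lsl_gt (LP (LK LD1_c7 LD2_c34 LD3_c58)) = (LP (LK LD1_c3 LD2_c47 LD3_c3)) :=
  Lre_g IH (LK LD1_c7 LD2_c34 LD3_c58) (LK LD1_c3 LD2_c47 LD3_c3) Lrfl Lrfl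
theorem f87781 : Led Lsl_bt (LP (LK LD1_c14 LD2_c17 LD3_c52)) = (LP (LK LD1_c7 LD2_c34 LD3_c58)) :=
  Lre_b IH (LK LD1_c14 LD2_c17 LD3_c52) (LK LD1_c7 LD2_c34 LD3_c58) Lrfl Lrfl
theorem f87782 : Led Lsl_ct (LP (LK LD1_c14 LD2_c17 LD3_c52)) = (LP (LK LD1_c23 LD2_c55 LD3_c35)) :=
  Lre_c IH (LK LD1_c14 LD2_c17 LD3_c52) (LK LD1_c23 LD2_c55 LD3_c35) Lrfl Lrfl
theorem f703102 : Led Lsl_gt (LP (LK LD1_c24 LD2_c14 LD3_c25)) = (LP (LK LD1_c23 LD2_c55 LD3_c35)) :=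
  Lgr Lrot149 (Lpe (f97776 IH) (Lpe (f127222 IH) (Lpe (f127227 IH) (Lpr_ct (f703097 IH) (Lpe (f440088 IH) (Lpe (f93882 IH) (Lpr_bt (f93908 IH) (Lpe (f87775 IH) (Lpe (f87781 IH) (Lpr_ct (f87782 IH) (Lpn (LP (LK LD1_c23 LD2_c55 LD3_c35)))))))))))))
theorem f97790 : Led Lsl_ft (LP (LK LD1_c24 LD2_c14 LD3_c25)) = (LP (LK LD1_c14 LD2_c32 LD3_c14)) :=
  Lre_f IH (LK LD1_c24 LD2_c14 LD3_c25) (LK LD1_c14 LD2_c32 LD3_c14) Lrfl Lrfl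
theorem f127460 : Led Lsl_af (LP (LK LD1_c7 LD2_c42 LD3_c43)) = (LP (LK LD1_c9 LD2_c21 LD3_c8)) :=
  Lgr Lrot45 (Lpe (K5.f97754 IH) (Lpe (K5.f127360 IH) (Lpr_ft (K5.f127458 IH) (Lpn (LP (LK LD1_c9 LD2_c21 LD3_c8))))))
theorem f97785 : Led Lsl_et (LP (LK LD1_c7 LD2_c42 LD3_c43)) = (LP (LK LD1_c14 LD2_c32 LD3_c14)) :=
  Lre_e IH (LK LD1_c7 LD2_c42 LD3_c43) (LK LD1_c14 LD2_c32 LD3_c14) Lrfl Lrfl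
theorem f111884 : Led Lsl_et (LP (LK LD1_c17 LD2_c17 LD3_c9)) = (LP (LK LD1_c9 LD2_c21 LD3_c8)) :=
  Lre_e IH (LK LD1_c17 LD2_c17 LD3_c9) (LK LD1_c9 LD2_c21 LD3_c8) Lrfl Lrfl
theorem f440226 : Led Lsl_at (LP (LK LD1_c14 LD2_c32 LD3_c14)) = (LP (LK LD1_c17 LD2_c17 LD3_c9)) :=
  Lgr Lrot80 (Lpe (f97785 IH) (Lpr_af (f127460 IH) (Lpe (f111884 IH) (Lpn (LP (LK LD1_c17 LD2_c17 LD3_c9))))))
theorem f703104 : Led Lsl_gf (LP (LK LD1_c17 LD2_c17 LD3_c9)) = (LP (LK LD1_c23 LD2_c55 LD3_c35)) :=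
  Lgr Lrot76 (Lpe (f440226 IH) (Lpe (f97790 IH) (Lpr_gt (f703102 IH) (Lpn (LP (LK LD1_c23 LD2_c55 LD3_c35))))))
theorem f127232 : Led Lsl_ct (LP (LK LD1_c9 LD2_c21 LD3_c12)) = (LP (LK LD1_c17 LD2_c17 LD3_c9)) :=
  Lre_c IH (LK LD1_c9 LD2_c21 LD3_c12) (LK LD1_c17 LD2_c17 LD3_c9) Lrfl Lrfl
theorem f127231 : Led Lsl_bt (LP (LK LD1_c9 LD2_c21 LD3_c12)) = (LP (LK LD1_c4 LD2_c44 LD3_c11)) :=
  Lre_b IH (LK LD1_c9 LD2_c21 LD3_c12) (LK LD1_c4 LD2_c44 LD3_c11) Lrfl Lrfl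
def v13452 : LQ := Led Lsl_gt (LP (LK LD1_c4 LD2_c44 LD3_c11))
theorem f703071 : Led Lsl_gt (LP (LK LD1_c4 LD2_c44 LD3_c11)) = v13452 :=
  Lrfl
theorem f87776 : Led Lsl_gf (LP (LK LD1_c7 LD2_c34 LD3_c58)) = (LP (LK LD1_c3 LD2_c48 LD3_c45)) :=
  Lgr Lrot47 (Lpr_gt (f87775 IH) (Lpr_af (K2.f87758 IH) (Lpe (K2.f64886 IH) (Lpn (LP (LK LD1_c3 LD2_c48 LD3_c45))))))
theorem f64875 : Led Lsl_bt (LP (LK LD1_c7 LD2_c38 LD3_c6)) = (LP (LK LD1_c3 LD2_c48 LD3_c45)) :=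
  Lre_b IH (LK LD1_c7 LD2_c38 LD3_c6) (LK LD1_c3 LD2_c48 LD3_c45) Lrfl Lrfl
theorem f126541 : Led Lsl_gt (LP (LK LD1_c3 LD2_c45 LD3_c12)) = (LP (LK LD1_c7 LD2_c31 LD3_c10)) :=
  Lre_g IH (LK LD1_c3 LD2_c45 LD3_c12) (LK LD1_c7 LD2_c31 LD3_c10) Lrfl Lrfl
theorem f126542 : Led Lsl_gf (LP (LK LD1_c6 LD2_c19 LD3_c12)) = (LP (LK LD1_c7 LD2_c31 LD3_c10)) :=
  Lgr Lrot76 (Lpr_af (K5.f126527 IH) (Lpe (K5.f126536 IH) (Lpr_gt (f126541 IH) (Lpn (LP (LK LD1_c7 LD2_c31 LD3_c10))))))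
theorem f703110 : Led Lsl_ct v13452 = (LP (LK LD1_c7 LD2_c31 LD3_c10)) :=
  Lgr Lrot91 (Lpe (f703071 IH) (Lpe (f127231 IH) (Lpr_ct (f127232 IH) (Lpr_gf (f703104 IH) (Lpe (f87782 IH) (Lpr_bt (f87781 IH) (Lpr_gf (f87776 IH) (Lpe (f64875 IH) (Lpe (K4.f89421 IH) (Lpr_gf (f126542 IH) (Lpn (LP (LK LD1_c7 LD2_c31 LD3_c10)))))))))))))
theorem f703111 : Led Lsl_cf v13452 = (LP (LK LD1_c7 LD2_c31 LD3_c10)) :=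
  Lgr Lrot11 (Lpr_ct (f703110 IH) (Lpn (LP (LK LD1_c7 LD2_c31 LD3_c10))))
theorem f127185 : Led Lsl_ct (LP (LK LD1_c2 LD2_c20 LD3_c5)) = (LP (LK LD1_c4 LD2_c44 LD3_c11)) :=
  Lre_c IH (LK LD1_c2 LD2_c20 LD3_c5) (LK LD1_c4 LD2_c44 LD3_c11) Lrfl Lrfl
theorem f127184 : Led Lsl_bt (LP (LK LD1_c2 LD2_c20 LD3_c5)) = (LP (LK LD1_c4 LD2_c44 LD3_c9)) :=
  Lre_b IH (LK LD1_c2 LD2_c20 LD3_c5) (LK LD1_c4 LD2_c44 LD3_c9) Lrfl Lrfl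
theorem f209762 : Led Lsl_gt (LP (LK LD1_c9 LD2_c21 LD3_c11)) = (LP (LK LD1_c4 LD2_c44 LD3_c9)) :=
  Lre_g IH (LK LD1_c9 LD2_c21 LD3_c11) (LK LD1_c4 LD2_c44 LD3_c9) Lrfl Lrfl
def v7348 : LQ := Led Lsl_bt (LP (LK LD1_c3 LD2_c45 LD3_c25))
theorem f664682 : Led Lsl_bt (LP (LK LD1_c3 LD2_c45 LD3_c25)) = v7348 :=
  Lrfl
theorem f708879 : v7348 = (LP (LK LD1_c7 LD2_c31 LD3_c10)) :=
  (Llr Lrot130 (Lpe (f664682 IH) (Lpr_ct (K48.f664663 IH) (Lpe (K48.f113032 IH) (Lpe (K49.f416066 IH) (Lpr_bt (K1.f58366 IH) (Lpe (K32.f20961 IH) (Lpe (f140017 IH) (Lpr_ct (f140018 IH) (Lpqs (f708239 IH) (Lpe (f650083 IH) (Lpe (K4.f89411 IH) (Lpr_gf (f126542 IH) (Lpn (LP (LK LD1_c7 LD2_c31 LD3_c10)))))))))))))))).symm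
theorem f664683 : Led Lsl_bf (LP (LK LD1_c3 LD2_c45 LD3_c25)) = v7348 :=
  Lgr Lrot24 (Lpr_bt (f664682 IH) (Lpn v7348))
theorem f209234 : Led Lsl_gt (LP (LK LD1_c3 LD2_c45 LD3_c25)) = (LP (LK LD1_c6 LD2_c58 LD3_c60)) :=
  Lgr Lrot46 (Lpe (K48.f126263 IH) (Lpr_ft (K48.f209233 IH) (Lpr_at (K34.f209228 IH) (Lpn (LP (LK LD1_c6 LD2_c58 LD3_c60))))))
theorem f708882 : Led Lsl_bf (LP (LK LD1_c9 LD2_c21 LD3_c11)) = (LP (LK LD1_c6 LD2_c9 LD3_c51)) :=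
  Lgr Lrot156 (Lpr_gt (f209762 IH) (Lpe (f127184 IH) (Lpr_ct (f127185 IH) (Lpr_gt (f703071 IH) (Lpr_cf (f703111 IH) (Lpq (f708879 IH) (Lpe (f664683 IH) (Lpr_gt (f209234 IH) (Lpe (K34.f108718 IH) (Lpe (K50.f209280 IH) (Lpe (K50.f649394 IH) (Lpn (LP (LK LD1_c6 LD2_c9 LD3_c51))))))))))))))
theorem f708883 : Led Lsl_bt (LP (LK LD1_c6 LD2_c9 LD3_c51)) = (LP (LK LD1_c9 LD2_c21 LD3_c11)) :=
  Leop (Lpr_bf (f708882 IH) (Lpn (LP (LK LD1_c6 LD2_c9 LD3_c51))))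
theorem seed_735 : LEOK LG_b (LK LD1_c6 LD2_c9 LD3_c51) :=
  Leoe_b (LK LD1_c6 LD2_c9 LD3_c51) (f708883 IH)
def v5240 : LQ := Led Lsl_bt (LP (LK LD1_c3 LD2_c2 LD3_c23))
theorem f646750 : Led Lsl_bt (LP (LK LD1_c3 LD2_c2 LD3_c23)) = v5240 :=
  Lrfl
theorem f646751 : Led Lsl_bf (LP (LK LD1_c3 LD2_c2 LD3_c23)) = v5240 :=
  Lgr Lrot24 (Lpr_bt (f646750 IH) (Lpn v5240))
theorem f708896 : Led Lsl_ft (LP (LK LD1_c9 LD2_c21 LD3_c11)) = v5240 :=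
  Lgr Lrot75 (Lpr_bf (f708882 IH) (Lpq (K50.f663373 IH) (Lpe (K50.f646752 IH) (Lpr_bf (f646751 IH) (Lpn v5240)))))
def v13449 : LQ := Led Lsl_gt (LP (LK LD1_c4 LD2_c44 LD3_c9))
theorem f703051 : Led Lsl_gt (LP (LK LD1_c4 LD2_c44 LD3_c9)) = v13449 :=
  Lrfl
theorem f708915 : Led Lsl_af v13449 = v5240 :=
  Lgr Lrot31 (Lpe (f703051 IH) (Lpe (f209762 IH) (Lpr_ft (f708896 IH) (Lpn v5240))))
theorem f140019 : Led Lsl_bt (LP (LK LD1_c6 LD2_c11 LD3_c39)) = (LP (LK LD1_c3 LD2_c2 LD3_c24)) :=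
  Lre_b IH (LK LD1_c6 LD2_c11 LD3_c39) (LK LD1_c3 LD2_c2 LD3_c24) Lrfl Lrfl
theorem f663356 : Led Lsl_ff (LP (LK LD1_c6 LD2_c11 LD3_c39)) = (LP (LK LD1_c6 LD2_c25 LD3_c41)) :=
  Lgr Lrot25 (Lpr_bt (f140019 IH) (Lpr_ft (K50.f646743 IH) (Lpqs (K48.f663351 IH) (Lpr_bt (K48.f663041 IH) (Lpn (LP (LK LD1_c6 LD2_c25 LD3_c41)))))))
theorem f663474 : Led Lsl_ft (LP (LK LD1_c6 LD2_c11 LD3_c39)) = (LP (LK LD1_c6 LD2_c25 LD3_c41)) :=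
  Lgr Lrot48 (Lpr_ff (f663356 IH) (Lpn (LP (LK LD1_c6 LD2_c25 LD3_c41))))
def v5975 : LQ := Led Lsl_gt (LP (LK LD1_c3 LD2_c15 LD3_c45))
theorem f650328 : Led Lsl_gt (LP (LK LD1_c3 LD2_c15 LD3_c45)) = v5975 :=
  Lrfl
theorem f702892 : Led Lsl_at (LP (LK LD1_c6 LD2_c25 LD3_c41)) = v5975 :=
  Lgr Lrot26 (Lpe (f663474 IH) (Lpqs (K50.f702889 IH) (Lpe (K50.f650330 IH) (Lpr_gt (f650328 IH) (Lpn v5975)))))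
theorem f702893 : Led Lsl_af (LP (LK LD1_c6 LD2_c25 LD3_c41)) = v5975 :=
  Lgr Lrot0 (Lpr_at (f702892 IH) (Lpn v5975))
theorem f708917 : Led Lsl_bt v13449 = v5975 :=
  Lgr Lrot62 (Lpr_af (f708915 IH) (Lpe (f646750 IH) (Lpr_af (K48.f646742 IH) (Lpqs (K48.f663351 IH) (Lpr_bf (f663043 IH) (Lpr_af (f702893 IH) (Lpn v5975)))))))
theorem f708918 : Led Lsl_bf v13449 = v5975 :=
  Lgr Lrot24 (Lpr_bt (f708917 IH) (Lpn v5975))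
theorem f127298 : Led Lsl_gt (LP (LK LD1_c9 LD2_c21 LD3_c13)) = (LP (LK LD1_c4 LD2_c44 LD3_c11)) :=
  Lre_g IH (LK LD1_c9 LD2_c21 LD3_c13) (LK LD1_c4 LD2_c44 LD3_c11) Lrfl Lrfl
def v13451 : LQ := Led Lsl_ft (LP (LK LD1_c4 LD2_c44 LD3_c9))
theorem f703060 : Led Lsl_ft (LP (LK LD1_c4 LD2_c44 LD3_c9)) = v13451 :=
  Lrfl
def v530 : LQ := Led Lsl_gf (LP (LK LD1_c0 LD2_c43 LD3_c50))
def v3144 : LQ := Led Lsl_et v530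
theorem f624021 : Led Lsl_et v530 = v3144 :=
  Lrfl
theorem f453801 : Led Lsl_gf (LP (LK LD1_c0 LD2_c43 LD3_c50)) = v530 :=
  Lrfl
theorem f453803 : Led Lsl_df (LP (LK LD1_c1 LD2_c29 LD3_c43)) = v530 :=
  Lgr Lrot155 (Lpr_gt (K4.f114466 IH) (Lpe (K4.f114472 IH) (Lpr_gt (K4.f61225 IH) (Lpe (K2.f61211 IH) (Lpr_dt (K2.f61002 IH) (Lpe (K2.f61202 IH) (Lpe (K3.f65394 IH) (Lpe (K3.f23562 IH) (Lpr_gf (f453801 IH) (Lpn v530))))))))))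
theorem f127496 : Led Lsl_at (LP (LK LD1_c1 LD2_c29 LD3_c43)) = (LP (LK LD1_c1 LD2_c26 LD3_c33)) :=
  Lgr Lrot100 (Lpr_af (K5.f127494 IH) (Lpn (LP (LK LD1_c1 LD2_c26 LD3_c33))))
theorem f453804 : Led Lsl_at (LP (LK LD1_c2 LD2_c20 LD3_c3)) = v530 :=
  Lgr Lrot51 (Lpr_df (K5.f127121 IH) (Lpe (f127496 IH) (Lpr_df (f453803 IH) (Lpn v530))))
theorem f127485 : Led Lsl_et (LP (LK LD1_c4 LD2_c44 LD3_c9)) = (LP (LK LD1_c2 LD2_c20 LD3_c3)) :=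
  Lre_e IH (LK LD1_c4 LD2_c44 LD3_c9) (LK LD1_c2 LD2_c20 LD3_c3) Lrfl Lrfl
theorem f624022 : Led Lsl_af (LP (LK LD1_c4 LD2_c44 LD3_c9)) = v3144 :=
  Lgr Lrot50 (Lpr_et (f127485 IH) (Lpr_at (f453804 IH) (Lpr_et (f624021 IH) (Lpn v3144))))
def v10003 : LQ := Led Lsl_ft v3144
theorem f678328 : Led Lsl_ft v3144 = v10003 :=
  Lrfl
theorem f678330 : Led Lsl_ff v3144 = v10003 :=
  Lgr Lrot3 (Lpr_ft (f678328 IH) (Lpn v10003))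
theorem f703061 : Led Lsl_af v10003 = v13451 :=
  Lgr Lrot45 (Lpe (f678330 IH) (Lpe (f624022 IH) (Lpr_ft (f703060 IH) (Lpn v13451))))
theorem f703065 : Led Lsl_gt v13449 = v10003 :=
  Lgr Lrot46 (Lpe (f703051 IH) (Lpr_ft (f703060 IH) (Lpe (f703061 IH) (Lpn v10003))))
def v468 : LQ := Led Lsl_dt (LP (LK LD1_c0 LD2_c41 LD3_c28))
theorem f453502 : Led Lsl_dt (LP (LK LD1_c0 LD2_c41 LD3_c28)) = v468 :=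
  Lrfl
theorem f453805 : Led Lsl_bt v468 = v530 :=
  Lgr Lrot95 (Lpe (f453502 IH) (Lpe (K2.f25021 IH) (Lpr_df (f453803 IH) (Lpn v530))))
def v3049 : LQ := Led Lsl_et v468
theorem f622646 : Led Lsl_et v468 = v3049 :=
  Lrfl
theorem f622648 : Led Lsl_ef v468 = v3049 :=
  Lgr Lrot88 (Lpr_et (f622646 IH) (Lpn v3049))
theorem f624023 : Led Lsl_bf v3049 = v3144 :=
  Lgr Lrot96 (Lpe (f622648 IH) (Lpr_bt (f453805 IH) (Lpr_et (f624021 IH) (Lpn v3144))))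
def v9718 : LQ := Led Lsl_ft v3049
theorem f677314 : Led Lsl_ft v3049 = v9718 :=
  Lrfl
theorem f678331 : Led Lsl_bt v9718 = v10003 :=
  Lgr Lrot35 (Lpe (f677314 IH) (Lpr_bf (f624023 IH) (Lpr_ff (f678330 IH) (Lpn v10003))))
def v126 : LQ := Led Lsl_ct (LP (LK LD1_c0 LD2_c19 LD3_c13))
def v956 : LQ := Led Lsl_gt v126
def v3577 : LQ := Led Lsl_et v956
def v11002 : LQ := Led Lsl_ft v3577
theorem f682816 : Led Lsl_ft v3577 = v11002 :=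
  Lrfl
theorem f682818 : Led Lsl_ff v3577 = v11002 :=
  Lgr Lrot3 (Lpr_ft (f682816 IH) (Lpn v11002))
theorem f626333 : Led Lsl_et v956 = v3577 :=
  Lrfl
theorem f490730 : Led Lsl_gt v126 = v956 :=
  Lrfl
theorem f450606 : Led Lsl_ct (LP (LK LD1_c0 LD2_c19 LD3_c13)) = v126 :=
  Lrfl
theorem f490732 : Led Lsl_ct v468 = v956 :=
  Lgr Lrot63 (Lpr_bt (f453805 IH) (Lpe (f453801 IH) (Lpe (K35.f65572 IH) (Lpr_ct (K2.f7159 IH) (Lpr_gt (K3.f65389 IH) (Lpr_cf (K3.f65391 IH) (Lpr_bt (K3.f23456 IH) (Lpr_gt (K3.f23446 IH) (Lpr_ct (f450606 IH) (Lpr_gt (f490730 IH) (Lpn v956)))))))))))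
theorem f626334 : Led Lsl_cf v3049 = v3577 :=
  Lgr Lrot39 (Lpe (f622648 IH) (Lpr_ct (f490732 IH) (Lpr_et (f626333 IH) (Lpn v3577))))
theorem f682819 : Led Lsl_ct v9718 = v11002 :=
  Lgr Lrot40 (Lpe (f677314 IH) (Lpr_cf (f626334 IH) (Lpr_ff (f682818 IH) (Lpn v11002))))
theorem f678332 : Led Lsl_gf (LP (LK LD1_c9 LD2_c21 LD3_c11)) = v10003 :=
  Lgr Lrot47 (Lpr_gt (f209762 IH) (Lpr_af (f624022 IH) (Lpr_ff (f678330 IH) (Lpn v10003))))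
def v5352 : LQ := Led Lsl_ct (LP (LK LD1_c3 LD2_c6 LD3_c39))
theorem f647225 : Led Lsl_ct (LP (LK LD1_c3 LD2_c6 LD3_c39)) = v5352 :=
  Lrfl
theorem f708897 : Led Lsl_gf v11002 = v5352 :=
  Lgr Lrot129 (Lpe (f682819 IH) (Lpr_bt (f678331 IH) (Lpe (f678332 IH) (Lpr_bf (f708882 IH) (Lpr_ct (K50.f649394 IH) (Lpr_gt (K50.f96199 IH) (Lpe (K48.f209213 IH) (Lpe (K48.f209258 IH) (Lpr_gt (K46.f506403 IH) (Lpq (K46.f649374 IH) (Lpr_ct (f647225 IH) (Lpn v5352))))))))))))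
def v5756 : LQ := Led Lsl_ct (LP (LK LD1_c3 LD2_c12 LD3_c54))
theorem f649217 : Led Lsl_ct (LP (LK LD1_c3 LD2_c12 LD3_c54)) = v5756 :=
  Lrfl
theorem f647227 : Led Lsl_cf (LP (LK LD1_c3 LD2_c6 LD3_c39)) = v5352 :=
  Lgr Lrot11 (Lpr_ct (f647225 IH) (Lpn v5352))
theorem f649220 : Led Lsl_ff v5352 = v5756 :=
  Lgr Lrot23 (Lpe (f647227 IH) (Lpe (K48.f639967 IH) (Lpr_ct (f649217 IH) (Lpn v5756))))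
theorem f649222 : Led Lsl_ft v5352 = v5756 :=
  Lgr Lrot48 (Lpr_ff (f649220 IH) (Lpn v5756))
theorem f649219 : Led Lsl_cf (LP (LK LD1_c3 LD2_c12 LD3_c54)) = v5756 :=
  Lgr Lrot11 (Lpr_ct (f649217 IH) (Lpn v5756))
theorem f209267 : Led Lsl_ct (LP (LK LD1_c3 LD2_c10 LD3_c38)) = (LP (LK LD1_c6 LD2_c25 LD3_c44)) :=
  Lre_c IH (LK LD1_c3 LD2_c10 LD3_c38) (LK LD1_c6 LD2_c25 LD3_c44) Lrfl Lrfl
theorem f649388 : Led Lsl_af v5756 = (LP (LK LD1_c6 LD2_c25 LD3_c44)) :=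
  Lgr Lrot68 (Lpe (f649219 IH) (Lpr_at (K48.f649208 IH) (Lpqs (K48.f649376 IH) (Lpr_ct (f209267 IH) (Lpn (LP (LK LD1_c6 LD2_c25 LD3_c44)))))))
theorem f649389 : Led Lsl_at v5756 = (LP (LK LD1_c6 LD2_c25 LD3_c44)) :=
  Lgr Lrot100 (Lpr_af (f649388 IH) (Lpn (LP (LK LD1_c6 LD2_c25 LD3_c44))))
theorem f708898 : Led Lsl_gt v11002 = (LP (LK LD1_c6 LD2_c25 LD3_c44)) :=
  Lgr Lrot46 (Lpr_gf (f708897 IH) (Lpr_ft (f649222 IH) (Lpr_at (f649389 IH) (Lpn (LP (LK LD1_c6 LD2_c25 LD3_c44))))))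
def v5573 : LQ := Led Lsl_bt (LP (LK LD1_c3 LD2_c10 LD3_c38))
theorem f648314 : Led Lsl_bt (LP (LK LD1_c3 LD2_c10 LD3_c38)) = v5573 :=
  Lrfl
theorem f649383 : K48.v5357 = v5573 :=
  Lefun (Lecon (Lfl_bf (K48.f649210 IH)) (K48.f649376 IH)) (f648314 IH)
theorem f208146 : Led Lsl_ct (LP (LK LD1_c1 LD2_c32 LD3_c39)) = (LP (LK LD1_c3 LD2_c12 LD3_c19)) :=
  Lre_c IH (LK LD1_c1 LD2_c32 LD3_c39) (LK LD1_c3 LD2_c12 LD3_c19) Lrfl Lrfl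
theorem f208153 : Led Lsl_gt (LP (LK LD1_c3 LD2_c12 LD3_c19)) = (LP (LK LD1_c6 LD2_c28 LD3_c43)) :=
  Lre_g IH (LK LD1_c3 LD2_c12 LD3_c19) (LK LD1_c6 LD2_c28 LD3_c43) Lrfl Lrfl
theorem f708921 : Led Lsl_cf (LP (LK LD1_c6 LD2_c28 LD3_c43)) = v5975 :=
  Lgr Lrot163 (Lpe (f208153 IH) (Lpe (f208146 IH) (Lpe (f128437 IH) (Lpq (f707593 IH) (Lpqs (f649383 IH) (Lpe (f648314 IH) (Lpr_ct (f209267 IH) (Lpe (f708898 IH) (Lpe (f682819 IH) (Lpr_bt (f678331 IH) (Lpe (f703065 IH) (Lpr_bf (f708918 IH) (Lpn v5975)))))))))))))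
theorem f208154 : Led Lsl_gt (LP (LK LD1_c6 LD2_c28 LD3_c43)) = (LP (LK LD1_c6 LD2_c19 LD3_c22)) :=
  Lgr Lrot46 (Lpe (f208153 IH) (Lpr_ft (f128480 IH) (Lpr_at (f208141 IH) (Lpn (LP (LK LD1_c6 LD2_c19 LD3_c22))))))
def v7331 : LQ := Led Lsl_gf (LP (LK LD1_c3 LD2_c45 LD3_c12))
theorem f664604 : Led Lsl_gf (LP (LK LD1_c3 LD2_c45 LD3_c12)) = v7331 :=
  Lrfl
theorem f126513 : Led Lsl_at (LP (LK LD1_c3 LD2_c7 LD3_c0)) = (LP (LK LD1_c3 LD2_c45 LD3_c12)) :=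
  Lgr Lrot100 (Lpr_af (K5.f126511 IH) (Lpn (LP (LK LD1_c3 LD2_c45 LD3_c12))))
theorem f664605 : Led Lsl_gt (LP (LK LD1_c6 LD2_c19 LD3_c12)) = v7331 :=
  Lgr Lrot5 (Lpr_ft (K4.f89427 IH) (Lpr_at (f126513 IH) (Lpr_gf (f664604 IH) (Lpn v7331))))
theorem f708922 : Led Lsl_cf (LP (LK LD1_c9 LD2_c21 LD3_c13)) = v7331 :=
  Lgr Lrot125 (Lpr_gt (f127298 IH) (Lpe (f127185 IH) (Lpr_bt (f127184 IH) (Lpr_gt (f703051 IH) (Lpr_bf (f708918 IH) (Lpe (f708921 IH) (Lpr_gt (f208154 IH) (Lpe (K4.f89424 IH) (Lpr_bt (K4.f89417 IH) (Lpr_gt (f664605 IH) (Lpn v7331)))))))))))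
theorem f112990 : Led Lsl_ft (LP (LK LD1_c6 LD2_c33 LD3_c15)) = (LP (LK LD1_c3 LD2_c14 LD3_c53)) :=
  Lre_f IH (LK LD1_c6 LD2_c33 LD3_c15) (LK LD1_c3 LD2_c14 LD3_c53) Lrfl Lrfl
theorem f127307 : Led Lsl_gf (LP (LK LD1_c9 LD2_c21 LD3_c13)) = (LP (LK LD1_c6 LD2_c33 LD3_c15)) :=
  Lgr Lrot47 (Lpr_gt (f127298 IH) (Lpr_af (K5.f127301 IH) (Lpe (f112990 IH) (Lpn (LP (LK LD1_c6 LD2_c33 LD3_c15))))))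
def v4367 : LQ := Led Lsl_gt (LP (LK LD1_c2 LD2_c20 LD3_c5))
theorem f632957 : Led Lsl_gt (LP (LK LD1_c2 LD2_c20 LD3_c5)) = v4367 :=
  Lrfl
theorem f632958 : Led Lsl_gf (LP (LK LD1_c3 LD2_c14 LD3_c56)) = v4367 :=
  Lgr Lrot76 (Lpe (K5.f127192 IH) (Lpe (K5.f127190 IH) (Lpr_gt (f632957 IH) (Lpn v4367))))
theorem f708144 : (LP (LK LD1_c3 LD2_c6 LD3_c4)) = v4367 :=
  Lefun (Lecon (Lfl_gt (f647083 IH)) (f708129 IH)) (f632958 IH)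
theorem f66747 : Led Lsl_gt (LP (LK LD1_c3 LD2_c12 LD3_c51)) = (LP (LK LD1_c1 LD2_c32 LD3_c53)) :=
  Lre_g IH (LK LD1_c3 LD2_c12 LD3_c51) (LK LD1_c1 LD2_c32 LD3_c53) Lrfl Lrfl
theorem f68242 : Led Lsl_bt (LP (LK LD1_c6 LD2_c29 LD3_c46)) = (LP (LK LD1_c3 LD2_c12 LD3_c51)) :=
  Lre_b IH (LK LD1_c6 LD2_c29 LD3_c46) (LK LD1_c3 LD2_c12 LD3_c51) Lrfl Lrfl
theorem f708925 : (LP (LK LD1_c6 LD2_c29 LD3_c46)) = v7331 :=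
  (Llr Lrot156 (Lpr_bt (f68242 IH) (Lpr_gt (f66747 IH) (Lpe (K2.f68230 IH) (Lpr_ct (K8.f73514 IH) (Lpr_gt (K16.f59432 IH) (Lpr_cf (K32.f443952 IH) (Lpr_bt (K48.f444280 IH) (Lpqs (f708144 IH) (Lpe (f632958 IH) (Lpr_ct (K5.f112988 IH) (Lpe (f127307 IH) (Lpr_cf (f708922 IH) (Lpn v7331)))))))))))))).symm
theorem f708926 : Led Lsl_gt (LP (LK LD1_c6 LD2_c29 LD3_c46)) = (LP (LK LD1_c3 LD2_c45 LD3_c12)) :=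
  Leop (Lpr_gf (f664604 IH) (Lpq (f708925 IH) (Lpn (LP (LK LD1_c6 LD2_c29 LD3_c46)))))
theorem seed_736 : LEOK LG_g (LK LD1_c6 LD2_c29 LD3_c46) :=
  Leoe_g (LK LD1_c6 LD2_c29 LD3_c46) (f708926 IH)
theorem f649188 : Led Lsl_bt (LP (LK LD1_c3 LD2_c12 LD3_c51)) = (LP (LK LD1_c6 LD2_c29 LD3_c46)) :=
  Lre_b IH (LK LD1_c3 LD2_c12 LD3_c51) (LK LD1_c6 LD2_c29 LD3_c46) Lrfl Lrfl
theorem f68201 : Led Lsl_ct (LP (LK LD1_c3 LD2_c12 LD3_c51)) = (LP (LK LD1_c6 LD2_c29 LD3_c47)) :=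
  Lre_c IH (LK LD1_c3 LD2_c12 LD3_c51) (LK LD1_c6 LD2_c29 LD3_c47) Lrfl Lrfl
def v5837 : LQ := Led Lsl_at (LP (LK LD1_c3 LD2_c13 LD3_c59))
theorem f649742 : Led Lsl_at (LP (LK LD1_c3 LD2_c13 LD3_c59)) = v5837 :=
  Lrfl
theorem f209512 : Led Lsl_bt (LP (LK LD1_c1 LD2_c33 LD3_c35)) = (LP (LK LD1_c3 LD2_c13 LD3_c59)) :=
  Lre_b IH (LK LD1_c1 LD2_c33 LD3_c35) (LK LD1_c3 LD2_c13 LD3_c59) Lrfl Lrfl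
theorem f208811 : Led Lsl_at (LP (LK LD1_c3 LD2_c15 LD3_c45)) = (LP (LK LD1_c3 LD2_c10 LD3_c36)) :=
  Lgr Lrot100 (Lpr_af (K48.f208100 IH) (Lpn (LP (LK LD1_c3 LD2_c10 LD3_c36))))
theorem f649744 : Led Lsl_bf (LP (LK LD1_c3 LD2_c15 LD3_c45)) = v5837 :=
  Lgr Lrot81 (Lpr_at (f208811 IH) (Lpe (K48.f208767 IH) (Lpe (K48.f209406 IH) (Lpr_bt (f209512 IH) (Lpr_at (f649742 IH) (Lpn v5837))))))
theorem f494954 : Led Lsl_ct (LP (LK LD1_c6 LD2_c31 LD3_c31)) = (LP (LK LD1_c3 LD2_c13 LD3_c59)) :=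
  Lre_c IH (LK LD1_c6 LD2_c31 LD3_c31) (LK LD1_c3 LD2_c13 LD3_c59) Lrfl Lrfl
theorem f494940 : Led Lsl_at (LP (LK LD1_c3 LD2_c22 LD3_c54)) = (LP (LK LD1_c3 LD2_c13 LD3_c58)) :=
  Lgr Lrot26 (Lpr_ff (K30.f494932 IH) (Lpr_gt (K11.f209550 IH) (Lpe (K2.f68338 IH) (Lpn (LP (LK LD1_c3 LD2_c13 LD3_c58))))))
theorem f95699 : Led Lsl_et (LP (LK LD1_c6 LD2_c49 LD3_c20)) = (LP (LK LD1_c3 LD2_c22 LD3_c54)) :=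
  Lre_e IH (LK LD1_c6 LD2_c49 LD3_c20) (LK LD1_c3 LD2_c22 LD3_c54) Lrfl Lrfl
theorem f494945 : Led Lsl_et (LP (LK LD1_c3 LD2_c13 LD3_c58)) = (LP (LK LD1_c6 LD2_c31 LD3_c31)) :=
  Lre_e IH (LK LD1_c3 LD2_c13 LD3_c58) (LK LD1_c6 LD2_c31 LD3_c31) Lrfl Lrfl
theorem f494946 : Led Lsl_af (LP (LK LD1_c6 LD2_c49 LD3_c20)) = (LP (LK LD1_c6 LD2_c31 LD3_c31)) :=
  Lgr Lrot50 (Lpr_et (f95699 IH) (Lpr_at (f494940 IH) (Lpr_et (f494945 IH) (Lpn (LP (LK LD1_c6 LD2_c31 LD3_c31))))))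
theorem f494948 : Led Lsl_at (LP (LK LD1_c6 LD2_c49 LD3_c20)) = (LP (LK LD1_c6 LD2_c31 LD3_c31)) :=
  Lgr Lrot100 (Lpr_af (f494946 IH) (Lpn (LP (LK LD1_c6 LD2_c31 LD3_c31))))
theorem f649745 : Led Lsl_cf (LP (LK LD1_c6 LD2_c49 LD3_c20)) = v5837 :=
  Lgr Lrot1 (Lpr_at (f494948 IH) (Lpr_ct (f494954 IH) (Lpr_at (f649742 IH) (Lpn v5837))))
theorem f708945 : Led Lsl_gt (LP (LK LD1_c6 LD2_c29 LD3_c47)) = (LP (LK LD1_c6 LD2_c49 LD3_c20)) :=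
  Lgr Lrot65 (Lpe (f68201 IH) (Lpr_bt (f649188 IH) (Lpqs (f708925 IH) (Lpe (f664605 IH) (Lpe (K4.f89417 IH) (Lpr_ct (K4.f89424 IH) (Lpe (f208154 IH) (Lpr_cf (f708921 IH) (Lpe (f650328 IH) (Lpr_bf (f649744 IH) (Lpe (f649745 IH) (Lpn (LP (LK LD1_c6 LD2_c49 LD3_c20))))))))))))))
theorem f708946 : Led Lsl_gt (LP (LK LD1_c6 LD2_c29 LD3_c47)) = (LP (LK LD1_c6 LD2_c49 LD3_c20)) :=
  Leop (Lpe (f708945 IH) (Lpn (LP (LK LD1_c6 LD2_c29 LD3_c47))))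
theorem seed_737 : LEOK LG_g (LK LD1_c6 LD2_c29 LD3_c47) :=
  Leoe_g (LK LD1_c6 LD2_c29 LD3_c47) (f708946 IH)
theorem f76226 : Led Lsl_gt (LP (LK LD1_c12 LD2_c11 LD3_c12)) = (LP (LK LD1_c6 LD2_c17 LD3_c29)) :=
  Lre_g IH (LK LD1_c12 LD2_c11 LD3_c12) (LK LD1_c6 LD2_c17 LD3_c29) Lrfl Lrfl
theorem f76660 : Led Lsl_bt (LP (LK LD1_c0 LD2_c41 LD3_c20)) = (LP (LK LD1_c1 LD2_c29 LD3_c22)) :=
  Lre_b IH (LK LD1_c0 LD2_c41 LD3_c20) (LK LD1_c1 LD2_c29 LD3_c22) Lrfl Lrfl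
theorem f76669 : Led Lsl_gt (LP (LK LD1_c1 LD2_c29 LD3_c22)) = (LP (LK LD1_c3 LD2_c6 LD3_c30)) :=
  Lre_g IH (LK LD1_c1 LD2_c29 LD3_c22) (LK LD1_c3 LD2_c6 LD3_c30) Lrfl Lrfl
theorem f76651 : Led Lsl_bt (LP (LK LD1_c6 LD2_c18 LD3_c31)) = (LP (LK LD1_c3 LD2_c6 LD3_c30)) :=
  Lre_b IH (LK LD1_c6 LD2_c18 LD3_c31) (LK LD1_c3 LD2_c6 LD3_c30) Lrfl Lrfl
theorem f438621 : Led Lsl_cf (LP (LK LD1_c12 LD2_c11 LD3_c12)) = (LP (LK LD1_c6 LD2_c18 LD3_c31)) :=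
  Lgr Lrot160 (Lpr_gt (f76226 IH) (Lpe (K1.f58572 IH) (Lpr_bt (K29.f58346 IH) (Lpe (K32.f437962 IH) (Lpr_ct (K32.f438589 IH) (Lpr_gt (K32.f73619 IH) (Lpe (K2.f61810 IH) (Lpr_bt (f76660 IH) (Lpr_gt (f76669 IH) (Lpe (f76651 IH) (Lpn (LP (LK LD1_c6 LD2_c18 LD3_c31)))))))))))))
theorem f708877 : Led Lsl_gf (LP (LK LD1_c6 LD2_c18 LD3_c31)) = (LP (LK LD1_c6 LD2_c28 LD3_c31)) :=
  Lgr Lrot181 (Lpe (f438621 IH) (Lpr_gt (f76226 IH) (Lpe (K1.f58572 IH) (Lpr_bt (K29.f58346 IH) (Lpe (K32.f437962 IH) (Lpe (f140017 IH) (Lpr_ct (f140018 IH) (Lpqs (f708239 IH) (Lpe (f650082 IH) (Lpr_cf (K5.f126538 IH) (Lpr_bt (f128603 IH) (Lpn (LP (LK LD1_c6 LD2_c28 LD3_c31))))))))))))))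
theorem f438626 : Led Lsl_bt (LP (LK LD1_c3 LD2_c6 LD3_c30)) = (LP (LK LD1_c6 LD2_c18 LD3_c31)) :=
  Lre_b IH (LK LD1_c3 LD2_c6 LD3_c30) (LK LD1_c6 LD2_c18 LD3_c31) Lrfl Lrfl
theorem f438623 : Led Lsl_ct (LP (LK LD1_c3 LD2_c6 LD3_c30)) = (LP (LK LD1_c6 LD2_c18 LD3_c32)) :=
  Lre_c IH (LK LD1_c3 LD2_c6 LD3_c30) (LK LD1_c6 LD2_c18 LD3_c32) Lrfl Lrfl
theorem f438624 : Led Lsl_gt (LP (LK LD1_c6 LD2_c18 LD3_c32)) = (LP (LK LD1_c12 LD2_c13 LD3_c0)) :=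
  Lre_g IH (LK LD1_c6 LD2_c18 LD3_c32) (LK LD1_c12 LD2_c13 LD3_c0) Lrfl Lrfl
theorem f703062 : Led Lsl_bf (LP (LK LD1_c4 LD2_c44 LD3_c14)) = v13451 :=
  Lgr Lrot61 (Lpr_ft (f440266 IH) (Lpr_bt (f127184 IH) (Lpr_ft (f703060 IH) (Lpn v13451))))
theorem f709024 : Led Lsl_cf (LP (LK LD1_c12 LD2_c13 LD3_c0)) = v13451 :=
  Lgr Lrot58 (Lpe (f438624 IH) (Lpe (f438623 IH) (Lpr_bt (f438626 IH) (Lpr_gf (f708877 IH) (Lpe (f128603 IH) (Lpe (K5.f126538 IH) (Lpr_gf (f650082 IH) (Lpq (f708239 IH) (Lpe (f140018 IH) (Lpr_gf (f646927 IH) (Lpqs (f708763 IH) (Lpr_bf (f703062 IH) (Lpn v13451)))))))))))))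
theorem f709025 : Led Lsl_bt (LP (LK LD1_c12 LD2_c13 LD3_c0)) = (LP (LK LD1_c21 LD2_c18 LD3_c53)) :=
  Lre_b IH (LK LD1_c12 LD2_c13 LD3_c0) (LK LD1_c21 LD2_c18 LD3_c53) Lrfl Lrfl
theorem f703064 : Led Lsl_ff (LP (LK LD1_c4 LD2_c44 LD3_c9)) = v13451 :=
  Lgr Lrot3 (Lpr_ft (f703060 IH) (Lpn v13451))
theorem f440274 : Led Lsl_bt (LP (LK LD1_c4 LD2_c44 LD3_c9)) = (LP (LK LD1_c2 LD2_c20 LD3_c5)) :=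
  Lre_b IH (LK LD1_c4 LD2_c44 LD3_c9) (LK LD1_c2 LD2_c20 LD3_c5) Lrfl Lrfl
theorem f703067 : Led Lsl_bt (LP (LK LD1_c4 LD2_c44 LD3_c14)) = v13451 :=
  Lgr Lrot35 (Lpe (K5.f127190 IH) (Lpe (f440274 IH) (Lpr_ff (f703064 IH) (Lpn v13451))))
theorem f127215 : Led Lsl_bt (LP (LK LD1_c17 LD2_c17 LD3_c13)) = (LP (LK LD1_c9 LD2_c21 LD3_c15)) :=
  Lre_b IH (LK LD1_c17 LD2_c17 LD3_c13) (LK LD1_c9 LD2_c21 LD3_c15) Lrfl Lrfl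
theorem f709026 : Led Lsl_ct (LP (LK LD1_c21 LD2_c18 LD3_c53)) = (LP (LK LD1_c17 LD2_c17 LD3_c13)) :=
  Lgr Lrot83 (Lpe (f709025 IH) (Lpr_cf (f709024 IH) (Lpe (f703067 IH) (Lpe (K5.f127203 IH) (Lpe (f127215 IH) (Lpn (LP (LK LD1_c17 LD2_c17 LD3_c13))))))))
theorem f709027 : Led Lsl_ct (LP (LK LD1_c21 LD2_c18 LD3_c53)) = (LP (LK LD1_c17 LD2_c17 LD3_c13)) :=
  Leop (Lpe (f709026 IH) (Lpn (LP (LK LD1_c21 LD2_c18 LD3_c53))))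
theorem seed_738 : LEOK LG_c (LK LD1_c21 LD2_c18 LD3_c53) :=
  Leoe_c (LK LD1_c21 LD2_c18 LD3_c53) (f709027 IH)
theorem f624027 : Led Lsl_ct (LP (LK LD1_c9 LD2_c21 LD3_c10)) = (LP (LK LD1_c4 LD2_c44 LD3_c9)) :=
  Lre_c IH (LK LD1_c9 LD2_c21 LD3_c10) (LK LD1_c4 LD2_c44 LD3_c9) Lrfl Lrfl
theorem f709031 : Led Lsl_ft (LP (LK LD1_c12 LD2_c13 LD3_c0)) = (LP (LK LD1_c9 LD2_c21 LD3_c10)) :=
  Lgr Lrot4 (Lpr_cf (f709024 IH) (Lpe (f703060 IH) (Lpe (f624027 IH) (Lpn (LP (LK LD1_c9 LD2_c21 LD3_c10))))))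
def v3143 : LQ := Led Lsl_ct v530
def v9999 : LQ := Led Lsl_et v3143
theorem f678314 : Led Lsl_et v3143 = v9999 :=
  Lrfl
theorem f678317 : Led Lsl_ef v3143 = v9999 :=
  Lgr Lrot88 (Lpr_et (f678314 IH) (Lpn v9999))
theorem f624015 : Led Lsl_ct v530 = v3143 :=
  Lrfl
theorem f624016 : Led Lsl_af (LP (LK LD1_c4 LD2_c44 LD3_c8)) = v3143 :=
  Lgr Lrot68 (Lpr_ct (K36.f79968 IH) (Lpr_at (f453804 IH) (Lpr_ct (f624015 IH) (Lpn v3143))))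
theorem f209761 : Led Lsl_et (LP (LK LD1_c4 LD2_c44 LD3_c8)) = (LP (LK LD1_c9 LD2_c21 LD3_c10)) :=
  Lre_e IH (LK LD1_c4 LD2_c44 LD3_c8) (LK LD1_c9 LD2_c21 LD3_c10) Lrfl Lrfl
theorem f678318 : Led Lsl_at (LP (LK LD1_c9 LD2_c21 LD3_c10)) = v9999 :=
  Lgr Lrot80 (Lpe (f209761 IH) (Lpr_af (f624016 IH) (Lpr_ef (f678317 IH) (Lpn v9999))))
def v5917 : LQ := Led Lsl_bt (LP (LK LD1_c3 LD2_c14 LD3_c56))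
theorem f650057 : Led Lsl_bt (LP (LK LD1_c3 LD2_c14 LD3_c56)) = v5917 :=
  Lrfl
def v9716 : LQ := Led Lsl_gt v3049
theorem f677311 : Led Lsl_gt v3049 = v9716 :=
  Lrfl
def v514 : LQ := Led Lsl_bt (LP (LK LD1_c0 LD2_c43 LD3_c36))
theorem f453724 : Led Lsl_bt (LP (LK LD1_c0 LD2_c43 LD3_c36)) = v514 :=
  Lrfl
theorem f127099 : Led Lsl_ff (LP (LK LD1_c0 LD2_c43 LD3_c36)) = (LP (LK LD1_c1 LD2_c7 LD3_c17)) :=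
  Lgr Lrot19 (Lpr_dt (K5.f112960 IH) (Lpr_ft (K5.f127097 IH) (Lpe (K5.f127084 IH) (Lpn (LP (LK LD1_c1 LD2_c7 LD3_c17))))))
def v469 : LQ := Led Lsl_dt (LP (LK LD1_c0 LD2_c41 LD3_c32))
theorem f453505 : Led Lsl_dt (LP (LK LD1_c0 LD2_c41 LD3_c32)) = v469 :=
  Lrfl
theorem f453506 : Led Lsl_bf (LP (LK LD1_c1 LD2_c7 LD3_c17)) = v469 :=
  Lgr Lrot93 (Lpe (K5.f127071 IH) (Lpe (K3.f57585 IH) (Lpr_dt (f453505 IH) (Lpn v469))))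
theorem f453727 : Led Lsl_ff v469 = v514 :=
  Lgr Lrot25 (Lpe (f453506 IH) (Lpe (f127099 IH) (Lpr_bt (f453724 IH) (Lpn v514))))
theorem f453729 : Led Lsl_ft v469 = v514 :=
  Lgr Lrot48 (Lpr_ff (f453727 IH) (Lpn v514))
def v353 : LQ := Led Lsl_dt (LP (LK LD1_c0 LD2_c31 LD3_c1))
theorem f452372 : Led Lsl_dt (LP (LK LD1_c0 LD2_c31 LD3_c1)) = v353 :=
  Lrfl
theorem f452374 : Led Lsl_df (LP (LK LD1_c0 LD2_c31 LD3_c1)) = v353 :=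
  Lgr Lrot38 (Lpr_dt (f452372 IH) (Lpn v353))
theorem f453508 : Led Lsl_gf v353 = v469 :=
  Lgr Lrot143 (Lpe (f452374 IH) (Lpe (K3.f79291 IH) (Lpe (f79286 IH) (Lpe (K30.f128363 IH) (Lpe (K5.f82400 IH) (Lpe (K5.f124821 IH) (Lpe (K1.f25016 IH) (Lpe (K3.f66650 IH) (Lpr_dt (f453505 IH) (Lpn v469))))))))))
theorem f453504 : Led Lsl_gt v353 = v468 :=
  Lgr Lrot139 (Lpe (f452372 IH) (Lpe (K3.f104154 IH) (Lpe (K5.f120045 IH) (Lpr_dt (K5.f120051 IH) (Lpr_gf (K7.f430168 IH) (Lpr_df (K7.f155153 IH) (Lpe (K7.f155151 IH) (Lpe (K5.f62644 IH) (Lpe (K5.f113379 IH) (Lpr_dt (f453502 IH) (Lpn v468)))))))))))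
theorem f453730 : Led Lsl_af v468 = v514 :=
  Lgr Lrot31 (Lpe (f453504 IH) (Lpr_gf (f453508 IH) (Lpr_ft (f453729 IH) (Lpn v514))))
theorem f453731 : Led Lsl_at v468 = v514 :=
  Lgr Lrot100 (Lpr_af (f453730 IH) (Lpn v514))
def v2034 : LQ := Led Lsl_bt (LP (LK LD1_c1 LD2_c33 LD3_c60))
theorem f507850 : Led Lsl_bt (LP (LK LD1_c1 LD2_c33 LD3_c60)) = v2034 :=
  Lrfl
theorem f453725 : Led Lsl_bf (LP (LK LD1_c0 LD2_c43 LD3_c36)) = v514 :=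
  Lgr Lrot24 (Lpr_bt (f453724 IH) (Lpn v514))
theorem f507852 : Led Lsl_ef v514 = v2034 :=
  Lgr Lrot29 (Lpe (f453725 IH) (Lpr_et (K5.f112962 IH) (Lpr_bt (f507850 IH) (Lpn v2034))))
theorem f507853 : Led Lsl_et v514 = v2034 :=
  Lgr Lrot87 (Lpr_ef (f507852 IH) (Lpn v2034))
theorem f622649 : Led Lsl_at v2034 = v3049 :=
  Lgr Lrot80 (Lpe (f507853 IH) (Lpe (f453731 IH) (Lpr_ef (f622648 IH) (Lpn v3049))))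
theorem f507851 : Led Lsl_bf (LP (LK LD1_c1 LD2_c33 LD3_c60)) = v2034 :=
  Lgr Lrot24 (Lpr_bt (f507850 IH) (Lpn v2034))
theorem f650059 : Led Lsl_ff v2034 = v5917 :=
  Lgr Lrot25 (Lpe (f507851 IH) (Lpr_ft (f440267 IH) (Lpr_bt (f650057 IH) (Lpn v5917))))
theorem f677315 : Led Lsl_af v5917 = v9718 :=
  Lgr Lrot45 (Lpe (f650059 IH) (Lpr_at (f622649 IH) (Lpr_ft (f677314 IH) (Lpn v9718))))
theorem f677317 : Led Lsl_gt v9716 = v5917 :=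
  Lgr Lrot46 (Lpe (f677311 IH) (Lpr_ft (f677314 IH) (Lpe (f677315 IH) (Lpn v5917))))
theorem f73589 : Led Lsl_ct (LP (LK LD1_c1 LD2_c32 LD3_c53)) = (LP (LK LD1_c3 LD2_c12 LD3_c49)) :=
  Lre_c IH (LK LD1_c1 LD2_c32 LD3_c53) (LK LD1_c3 LD2_c12 LD3_c49) Lrfl Lrfl
theorem f73535 : Led Lsl_gt (LP (LK LD1_c3 LD2_c12 LD3_c49)) = (LP (LK LD1_c6 LD2_c29 LD3_c40)) :=
  Lre_g IH (LK LD1_c3 LD2_c12 LD3_c49) (LK LD1_c6 LD2_c29 LD3_c40) Lrfl Lrfl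
theorem f20127 : Led Lsl_bt (LP (LK LD1_c1 LD2_c27 LD3_c28)) = (LP (LK LD1_c3 LD2_c3 LD3_c6)) :=
  Lre_b IH (LK LD1_c1 LD2_c27 LD3_c28) (LK LD1_c3 LD2_c3 LD3_c6) Lrfl Lrfl
theorem f416057 : Led Lsl_ct (LP (LK LD1_c1 LD2_c27 LD3_c28)) = (LP (LK LD1_c2 LD2_c52 LD3_c2)) :=
  Lgr Lrot59 (Lpr_cf (K32.f416055 IH) (Lpn (LP (LK LD1_c2 LD2_c52 LD3_c2))))
theorem f76667 : Led Lsl_gt (LP (LK LD1_c3 LD2_c6 LD3_c31)) = (LP (LK LD1_c1 LD2_c29 LD3_c22)) :=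
  Lre_g IH (LK LD1_c3 LD2_c6 LD3_c31) (LK LD1_c1 LD2_c29 LD3_c22) Lrfl Lrfl
theorem f76652 : Led Lsl_bt (LP (LK LD1_c6 LD2_c18 LD3_c34)) = (LP (LK LD1_c3 LD2_c6 LD3_c31)) :=
  Lre_b IH (LK LD1_c6 LD2_c18 LD3_c34) (LK LD1_c3 LD2_c6 LD3_c31) Lrfl Lrfl
theorem f209403 : Led Lsl_af (LP (LK LD1_c3 LD2_c14 LD3_c0)) = (LP (LK LD1_c3 LD2_c43 LD3_c12)) :=
  Lgr Lrot0 (Lpr_at (K46.f209398 IH) (Lpn (LP (LK LD1_c3 LD2_c43 LD3_c12))))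
theorem f147563 : Led Lsl_gt (LP (LK LD1_c6 LD2_c31 LD3_c38)) = (LP (LK LD1_c3 LD2_c14 LD3_c0)) :=
  Lre_g IH (LK LD1_c6 LD2_c31 LD3_c38) (LK LD1_c3 LD2_c14 LD3_c0) Lrfl Lrfl
theorem f209509 : Led Lsl_ft (LP (LK LD1_c7 LD2_c27 LD3_c3)) = (LP (LK LD1_c3 LD2_c43 LD3_c12)) :=
  Lre_f IH (LK LD1_c7 LD2_c27 LD3_c3) (LK LD1_c3 LD2_c43 LD3_c12) Lrfl Lrfl
theorem f209526 : Led Lsl_gf (LP (LK LD1_c6 LD2_c31 LD3_c38)) = (LP (LK LD1_c7 LD2_c27 LD3_c3)) :=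
  Lgr Lrot47 (Lpr_gt (f147563 IH) (Lpr_af (f209403 IH) (Lpe (f209509 IH) (Lpn (LP (LK LD1_c7 LD2_c27 LD3_c3))))))
theorem f663528 : Led Lsl_ct (LP (LK LD1_c6 LD2_c18 LD3_c34)) = (LP (LK LD1_c6 LD2_c31 LD3_c38)) :=
  Lgr Lrot63 (Lpr_bt (f76652 IH) (Lpr_gt (f76667 IH) (Lpe (f76660 IH) (Lpr_ct (K2.f61810 IH) (Lpr_gt (K31.f73607 IH) (Lpe (f416057 IH) (Lpr_bt (f20127 IH) (Lpr_gt (K48.f646914 IH) (Lpqs (K48.f649441 IH) (Lpq (K48.f662830 IH) (Lpr_ct (K46.f208784 IH) (Lpe (f209526 IH) (Lpn (LP (LK LD1_c6 LD2_c31 LD3_c38)))))))))))))))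
theorem f76639 : Led Lsl_gt (LP (LK LD1_c6 LD2_c18 LD3_c19)) = (LP (LK LD1_c3 LD2_c6 LD3_c31)) :=
  Lre_g IH (LK LD1_c6 LD2_c18 LD3_c19) (LK LD1_c3 LD2_c6 LD3_c31) Lrfl Lrfl
theorem f74434 : Led Lsl_ct (LP (LK LD1_c5 LD2_c51 LD3_c38)) = (LP (LK LD1_c11 LD2_c30 LD3_c36)) :=
  Lre_c IH (LK LD1_c5 LD2_c51 LD3_c38) (LK LD1_c11 LD2_c30 LD3_c36) Lrfl Lrfl
theorem f74435 : Led Lsl_ef (LP (LK LD1_c11 LD2_c24 LD3_c22)) = (LP (LK LD1_c11 LD2_c30 LD3_c36)) :=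
  Lgr Lrot28 (Lpr_ct (K2.f61487 IH) (Lpr_et (K2.f74427 IH) (Lpr_ct (f74434 IH) (Lpn (LP (LK LD1_c11 LD2_c30 LD3_c36))))))
theorem f61471 : Led Lsl_bt (LP (LK LD1_c3 LD2_c12 LD3_c41)) = (LP (LK LD1_c1 LD2_c32 LD3_c50)) :=
  Lre_b IH (LK LD1_c3 LD2_c12 LD3_c41) (LK LD1_c1 LD2_c32 LD3_c50) Lrfl Lrfl
theorem f61472 : Led Lsl_ct (LP (LK LD1_c6 LD2_c29 LD3_c27)) = (LP (LK LD1_c3 LD2_c12 LD3_c41)) :=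
  Lre_c IH (LK LD1_c6 LD2_c29 LD3_c27) (LK LD1_c3 LD2_c12 LD3_c41) Lrfl Lrfl
theorem f61473 : Led Lsl_bt (LP (LK LD1_c2 LD2_c49 LD3_c30)) = (LP (LK LD1_c5 LD2_c47 LD3_c8)) :=
  Lre_b IH (LK LD1_c2 LD2_c49 LD3_c30) (LK LD1_c5 LD2_c47 LD3_c8) Lrfl Lrfl
theorem f61475 : Led Lsl_bf (LP (LK LD1_c6 LD2_c29 LD3_c27)) = (LP (LK LD1_c11 LD2_c24 LD3_c22)) :=
  Lgr Lrot90 (Lpr_ct (f61472 IH) (Lpr_bt (f61471 IH) (Lpr_ct (K2.f61432 IH) (Lpr_bt (f61473 IH) (Lpr_ct (K50.f61474 IH) (Lpn (LP (LK LD1_c11 LD2_c24 LD3_c22))))))))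
theorem f76613 : Led Lsl_et (LP (LK LD1_c6 LD2_c29 LD3_c27)) = (LP (LK LD1_c6 LD2_c18 LD3_c30)) :=
  Lgr Lrot74 (Lpr_bf (f61475 IH) (Lpr_ef (f74435 IH) (Lpr_bf (K32.f76605 IH) (Lpn (LP (LK LD1_c6 LD2_c18 LD3_c30))))))
theorem f76616 : Led Lsl_ct (LP (LK LD1_c6 LD2_c18 LD3_c30)) = (LP (LK LD1_c3 LD2_c6 LD3_c33)) :=
  Lre_c IH (LK LD1_c6 LD2_c18 LD3_c30) (LK LD1_c3 LD2_c6 LD3_c33) Lrfl Lrfl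
theorem f76620 : Led Lsl_ef (LP (LK LD1_c3 LD2_c12 LD3_c41)) = (LP (LK LD1_c3 LD2_c6 LD3_c33)) :=
  Lgr Lrot28 (Lpr_ct (K2.f61485 IH) (Lpr_et (f76613 IH) (Lpr_ct (f76616 IH) (Lpn (LP (LK LD1_c3 LD2_c6 LD3_c33))))))
theorem f76628 : Led Lsl_at (LP (LK LD1_c6 LD2_c18 LD3_c19)) = (LP (LK LD1_c3 LD2_c6 LD3_c33)) :=
  Lre_a IH (LK LD1_c6 LD2_c18 LD3_c19) (LK LD1_c3 LD2_c6 LD3_c33) Lrfl Lrfl
theorem f76629 : Led Lsl_et (LP (LK LD1_c6 LD2_c29 LD3_c20)) = (LP (LK LD1_c6 LD2_c18 LD3_c19)) :=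
  Lgr Lrot123 (Lpe (K2.f66973 IH) (Lpr_ef (f76620 IH) (Lpe (f76628 IH) (Lpn (LP (LK LD1_c6 LD2_c18 LD3_c19))))))
theorem f76635 : Led Lsl_ef (LP (LK LD1_c6 LD2_c29 LD3_c20)) = (LP (LK LD1_c6 LD2_c18 LD3_c19)) :=
  Lgr Lrot88 (Lpr_et (f76629 IH) (Lpn (LP (LK LD1_c6 LD2_c18 LD3_c19))))
theorem f76642 : Led Lsl_bt (LP (LK LD1_c6 LD2_c29 LD3_c38)) = (LP (LK LD1_c6 LD2_c18 LD3_c19)) :=
  Lgr Lrot119 (Lpe (K1.f66904 IH) (Lpr_bf (K2.f66974 IH) (Lpr_ef (f76635 IH) (Lpn (LP (LK LD1_c6 LD2_c18 LD3_c19))))))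
theorem f66910 : Led Lsl_ct (LP (LK LD1_c6 LD2_c29 LD3_c38)) = (LP (LK LD1_c12 LD2_c29 LD3_c12)) :=
  Lre_c IH (LK LD1_c6 LD2_c29 LD3_c38) (LK LD1_c12 LD2_c29 LD3_c12) Lrfl Lrfl
theorem f68204 : Led Lsl_gt (LP (LK LD1_c6 LD2_c29 LD3_c40)) = (LP (LK LD1_c12 LD2_c29 LD3_c12)) :=
  Lre_g IH (LK LD1_c6 LD2_c29 LD3_c40) (LK LD1_c12 LD2_c29 LD3_c12) Lrfl Lrfl
def v5836 : LQ := Led Lsl_gt (LP (LK LD1_c3 LD2_c13 LD3_c59))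
theorem f649741 : Led Lsl_gt (LP (LK LD1_c3 LD2_c13 LD3_c59)) = v5836 :=
  Lrfl
theorem f663532 : Led Lsl_cf (LP (LK LD1_c6 LD2_c29 LD3_c40)) = v5836 :=
  Lgr Lrot125 (Lpr_gt (f68204 IH) (Lpe (f66910 IH) (Lpr_bt (f76642 IH) (Lpr_gt (f76639 IH) (Lpe (f76652 IH) (Lpr_ct (f663528 IH) (Lpr_gt (f147563 IH) (Lpe (K48.f209405 IH) (Lpr_bt (f209512 IH) (Lpr_gt (f649741 IH) (Lpn v5836)))))))))))
theorem f708941 : Led Lsl_bf v9716 = v5836 :=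
  Lgr Lrot156 (Lpr_gt (f677317 IH) (Lpe (f650057 IH) (Lpr_ct (K5.f112988 IH) (Lpe (f127307 IH) (Lpr_cf (f708922 IH) (Lpq (f708925 IH) (Lpr_bt (f68242 IH) (Lpr_gt (f66747 IH) (Lpr_ct (f73589 IH) (Lpr_gt (f73535 IH) (Lpr_cf (f663532 IH) (Lpn v5836))))))))))))
theorem f624017 : Led Lsl_cf v530 = v3143 :=
  Lgr Lrot11 (Lpr_ct (f624015 IH) (Lpn v3143))
theorem f678319 : Led Lsl_ct v3144 = v9999 :=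
  Lgr Lrot15 (Lpe (f624021 IH) (Lpr_cf (f624017 IH) (Lpr_ef (f678317 IH) (Lpn v9999))))
theorem f76653 : Led Lsl_ct (LP (LK LD1_c3 LD2_c6 LD3_c31)) = (LP (LK LD1_c6 LD2_c18 LD3_c35)) :=
  Lre_c IH (LK LD1_c3 LD2_c6 LD3_c31) (LK LD1_c6 LD2_c18 LD3_c35) Lrfl Lrfl
theorem f708943 : Led Lsl_gf v9999 = (LP (LK LD1_c6 LD2_c18 LD3_c35)) :=
  Lgr Lrot129 (Lpe (f678319 IH) (Lpe (f624023 IH) (Lpr_gt (f677311 IH) (Lpr_bf (f708941 IH) (Lpe (f663532 IH) (Lpr_gt (f68204 IH) (Lpe (f66910 IH) (Lpr_bt (f76642 IH) (Lpr_gt (f76639 IH) (Lpr_ct (f76653 IH) (Lpn (LP (LK LD1_c6 LD2_c18 LD3_c35)))))))))))))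
theorem f709037 : Led Lsl_gt (LP (LK LD1_c12 LD2_c13 LD3_c0)) = (LP (LK LD1_c6 LD2_c18 LD3_c35)) :=
  Lgr Lrot5 (Lpr_ft (f709031 IH) (Lpr_at (f678318 IH) (Lpr_gf (f708943 IH) (Lpn (LP (LK LD1_c6 LD2_c18 LD3_c35))))))
theorem f709038 : Led Lsl_gt (LP (LK LD1_c12 LD2_c13 LD3_c0)) = (LP (LK LD1_c6 LD2_c18 LD3_c35)) :=
  Leop (Lpe (f709037 IH) (Lpn (LP (LK LD1_c12 LD2_c13 LD3_c0))))
theorem seed_739 : LEOK LG_g (LK LD1_c12 LD2_c13 LD3_c0) :=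
  Leoe_g (LK LD1_c12 LD2_c13 LD3_c0) (f709038 IH)
def v5910 : LQ := Led Lsl_bt (LP (LK LD1_c3 LD2_c14 LD3_c54))
theorem f650030 : Led Lsl_bt (LP (LK LD1_c3 LD2_c14 LD3_c54)) = v5910 :=
  Lrfl
theorem f650031 : Led Lsl_bf (LP (LK LD1_c3 LD2_c14 LD3_c54)) = v5910 :=
  Lgr Lrot24 (Lpr_bt (f650030 IH) (Lpn v5910))
theorem f708768 : K48.v5291 = v5910 :=
  Lefun (Lecon (Lfl_bf (K48.f647088 IH)) (f708759 IH).symm) (f650030 IH)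
theorem f208777 : Led Lsl_ct (LP (LK LD1_c3 LD2_c43 LD3_c13)) = (LP (LK LD1_c7 LD2_c27 LD3_c4)) :=
  Lre_c IH (LK LD1_c3 LD2_c43 LD3_c13) (LK LD1_c7 LD2_c27 LD3_c4) Lrfl Lrfl
theorem f662987 : K48.v7259 = (LP (LK LD1_c7 LD2_c27 LD3_c4)) :=
  Lefun (Lecon (K48.f662706 IH) (K48.f662980 IH)) (f208777 IH)
theorem f148064 : Led Lsl_et (LP (LK LD1_c3 LD2_c43 LD3_c22)) = (LP (LK LD1_c1 LD2_c48 LD3_c44)) :=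
  Lre_e IH (LK LD1_c3 LD2_c43 LD3_c22) (LK LD1_c1 LD2_c48 LD3_c44) Lrfl Lrfl
theorem f148065 : Led Lsl_ct (LP (LK LD1_c3 LD2_c25 LD3_c0)) = (LP (LK LD1_c3 LD2_c43 LD3_c22)) :=
  Lgr Lrot15 (Lpe (K48.f109363 IH) (Lpr_cf (K7.f148056 IH) (Lpe (f148064 IH) (Lpn (LP (LK LD1_c3 LD2_c43 LD3_c22))))))
def v6649 : LQ := Led Lsl_gf (LP (LK LD1_c3 LD2_c25 LD3_c0))
theorem f657464 : Led Lsl_gf (LP (LK LD1_c3 LD2_c25 LD3_c0)) = v6649 :=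
  Lrfl
theorem f647184 : Led Lsl_bt (LP (LK LD1_c3 LD2_c6 LD3_c31)) = (LP (LK LD1_c6 LD2_c18 LD3_c34)) :=
  Lre_b IH (LK LD1_c3 LD2_c6 LD3_c31) (LK LD1_c6 LD2_c18 LD3_c34) Lrfl Lrfl
theorem f709040 : v6649 = (LP (LK LD1_c6 LD2_c18 LD3_c34)) :=
  (Llr Lrot181 (Lpe (f657464 IH) (Lpr_ct (f148065 IH) (Lpr_gt (K48.f662701 IH) (Lpqs (f662987 IH) (Lpe (f208777 IH) (Lpq (K48.f662980 IH) (Lpqs (f708768 IH) (Lpe (f650031 IH) (Lpe (f440268 IH) (Lpr_bf (f703062 IH) (Lpe (f709024 IH) (Lpr_gt (f709037 IH) (Lpe (f76653 IH) (Lpr_bt (f647184 IH) (Lpn (LP (LK LD1_c6 LD2_c18 LD3_c34)))))))))))))))))).symm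
theorem f709041 : Led Lsl_gt (LP (LK LD1_c6 LD2_c18 LD3_c34)) = (LP (LK LD1_c3 LD2_c25 LD3_c0)) :=
  Leop (Lpr_gf (f657464 IH) (Lpqs (f709040 IH) (Lpn (LP (LK LD1_c6 LD2_c18 LD3_c34)))))
theorem seed_740 : LEOK LG_g (LK LD1_c6 LD2_c18 LD3_c34) :=
  Leoe_g (LK LD1_c6 LD2_c18 LD3_c34) (f709041 IH)
theorem f708914 : Led Lsl_ff (LP (LK LD1_c9 LD2_c21 LD3_c11)) = v5240 :=
  Lgr Lrot3 (Lpr_ft (f708896 IH) (Lpn v5240))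
theorem f624024 : Led Lsl_ef v530 = v3144 :=
  Lgr Lrot88 (Lpr_et (f624021 IH) (Lpn v3144))
theorem f127188 : Led Lsl_at (LP (LK LD1_c1 LD2_c7 LD3_c18)) = (LP (LK LD1_c0 LD2_c43 LD3_c36)) :=
  Lgr Lrot80 (Lpe (K5.f127127 IH) (Lpr_af (K5.f127180 IH) (Lpe (K5.f112962 IH) (Lpn (LP (LK LD1_c0 LD2_c43 LD3_c36))))))
theorem f453806 : Led Lsl_af (LP (LK LD1_c2 LD2_c20 LD3_c3)) = v530 :=
  Lgr Lrot36 (Lpr_bt (K5.f25211 IH) (Lpr_at (f127188 IH) (Lpr_bt (f453724 IH) (Lpe (f453730 IH) (Lpr_bt (f453805 IH) (Lpn v530))))))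
theorem f127477 : Led Lsl_et (LP (LK LD1_c2 LD2_c20 LD3_c3)) = (LP (LK LD1_c4 LD2_c44 LD3_c9)) :=
  Lre_e IH (LK LD1_c2 LD2_c20 LD3_c3) (LK LD1_c4 LD2_c44 LD3_c9) Lrfl Lrfl
theorem f624025 : Led Lsl_at (LP (LK LD1_c4 LD2_c44 LD3_c9)) = v3144 :=
  Lgr Lrot80 (Lpe (f127477 IH) (Lpr_af (f453806 IH) (Lpr_ef (f624024 IH) (Lpn v3144))))
theorem f703066 : Led Lsl_at v10003 = v13451 :=
  Lgr Lrot66 (Lpe (f678328 IH) (Lpe (f624025 IH) (Lpr_ff (f703064 IH) (Lpn v13451))))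
def v10000 : LQ := Led Lsl_gt v3144
theorem f678320 : Led Lsl_gt v3144 = v10000 :=
  Lrfl
theorem f703070 : Led Lsl_gt v10000 = v13451 :=
  Lgr Lrot46 (Lpe (f678320 IH) (Lpr_ft (f678328 IH) (Lpr_at (f703066 IH) (Lpn v13451))))
theorem f109370 : Led Lsl_bf (LP (LK LD1_c3 LD2_c25 LD3_c0)) = (LP (LK LD1_c3 LD2_c28 LD3_c32)) :=
  Lgr Lrot24 (Lpr_bt (K48.f109368 IH) (Lpn (LP (LK LD1_c3 LD2_c28 LD3_c32))))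
theorem f709045 : v10000 = v5240 :=
  (Llr Lrot181 (Lpr_gt (f703070 IH) (Lpe (f709024 IH) (Lpr_gt (f709037 IH) (Lpe (f76653 IH) (Lpr_bt (f647184 IH) (Lpq (f709040 IH) (Lpe (f657464 IH) (Lpr_bf (f109370 IH) (Lpe (K34.f108694 IH) (Lpr_gt (K48.f650215 IH) (Lpq (K48.f670898 IH) (Lpe (K48.f445921 IH) (Lpr_bt (f646750 IH) (Lpn v5240))))))))))))))).symm
def v10001 : LQ := Led Lsl_gf v3144
theorem f678321 : Led Lsl_gf v3144 = v10001 :=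
  Lrfl
theorem f703069 : Led Lsl_gf v10001 = v13451 :=
  Lgr Lrot47 (Lpe (f678321 IH) (Lpe (f624025 IH) (Lpr_ff (f703064 IH) (Lpn v13451))))
theorem f709046 : Led Lsl_at (LP (LK LD1_c9 LD2_c21 LD3_c11)) = v10001 :=
  Lgr Lrot26 (Lpr_ff (f708914 IH) (Lpq (f709045 IH) (Lpr_gt (f703070 IH) (Lpe (f703069 IH) (Lpn v10001)))))
theorem f708916 : Led Lsl_at v13449 = v5240 :=
  Lgr Lrot100 (Lpr_af (f708915 IH) (Lpn v5240))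
theorem f709049 : Led Lsl_ff v13449 = v10001 :=
  Lgr Lrot30 (Lpr_at (f708916 IH) (Lpe (f708914 IH) (Lpr_at (f709046 IH) (Lpn v10001))))
theorem f208824 : Led Lsl_ft (LP (LK LD1_c6 LD2_c34 LD3_c49)) = (LP (LK LD1_c3 LD2_c15 LD3_c45)) :=
  Lre_f IH (LK LD1_c6 LD2_c34 LD3_c49) (LK LD1_c3 LD2_c15 LD3_c45) Lrfl Lrfl
theorem f115520 : Led Lsl_gt (LP (LK LD1_c6 LD2_c25 LD3_c42)) = (LP (LK LD1_c3 LD2_c10 LD3_c36)) :=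
  Lre_g IH (LK LD1_c6 LD2_c25 LD3_c42) (LK LD1_c3 LD2_c10 LD3_c36) Lrfl Lrfl
theorem f208833 : Led Lsl_gt (LP (LK LD1_c6 LD2_c34 LD3_c49)) = (LP (LK LD1_c6 LD2_c25 LD3_c42)) :=
  Lgr Lrot5 (Lpr_ft (f208824 IH) (Lpr_at (f208811 IH) (Lpe (f115520 IH) (Lpn (LP (LK LD1_c6 LD2_c25 LD3_c42))))))
theorem f663476 : Led Lsl_at (LP (LK LD1_c6 LD2_c11 LD3_c39)) = (LP (LK LD1_c6 LD2_c25 LD3_c42)) :=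
  Lgr Lrot26 (Lpr_ff (f663356 IH) (Lpe (K48.f208831 IH) (Lpr_gt (f208833 IH) (Lpn (LP (LK LD1_c6 LD2_c25 LD3_c42))))))
theorem f663478 : Led Lsl_af (LP (LK LD1_c6 LD2_c11 LD3_c39)) = (LP (LK LD1_c6 LD2_c25 LD3_c42)) :=
  Lgr Lrot0 (Lpr_at (f663476 IH) (Lpn (LP (LK LD1_c6 LD2_c25 LD3_c42))))
theorem f702894 : Led Lsl_ff (LP (LK LD1_c6 LD2_c25 LD3_c42)) = v5975 :=
  Lgr Lrot30 (Lpe (f663478 IH) (Lpr_ft (f663474 IH) (Lpr_at (f702892 IH) (Lpn v5975))))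
theorem f709050 : Led Lsl_bt (LP (LK LD1_c6 LD2_c25 LD3_c42)) = v10001 :=
  Lgr Lrot35 (Lpr_ff (f702894 IH) (Lpe (f708917 IH) (Lpr_ff (f709049 IH) (Lpn v10001))))
theorem f708951 : Led Lsl_ct (LP (LK LD1_c6 LD2_c28 LD3_c43)) = v5975 :=
  Lgr Lrot59 (Lpr_cf (f708921 IH) (Lpn v5975))
theorem f708952 : Led Lsl_af (LP (LK LD1_c6 LD2_c28 LD3_c43)) = (LP (LK LD1_c6 LD2_c19 LD3_c19)) :=
  Lgr Lrot68 (Lpr_ct (f708951 IH) (Lpe (f702893 IH) (Lpe (f708163 IH) (Lpn (LP (LK LD1_c6 LD2_c19 LD3_c19))))))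
theorem f208143 : Led Lsl_gt (LP (LK LD1_c6 LD2_c28 LD3_c44)) = (LP (LK LD1_c3 LD2_c12 LD3_c19)) :=
  Lre_g IH (LK LD1_c6 LD2_c28 LD3_c44) (LK LD1_c3 LD2_c12 LD3_c19) Lrfl Lrfl
theorem f708955 : Led Lsl_ft (LP (LK LD1_c6 LD2_c28 LD3_c44)) = (LP (LK LD1_c6 LD2_c19 LD3_c19)) :=
  Lgr Lrot2 (Lpr_gt (f208143 IH) (Lpr_gt (f208153 IH) (Lpr_af (f708952 IH) (Lpn (LP (LK LD1_c6 LD2_c19 LD3_c19))))))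
theorem f708959 : Led Lsl_ff (LP (LK LD1_c6 LD2_c28 LD3_c44)) = (LP (LK LD1_c6 LD2_c19 LD3_c19)) :=
  Lgr Lrot3 (Lpr_ft (f708955 IH) (Lpn (LP (LK LD1_c6 LD2_c19 LD3_c19))))
theorem f208130 : Led Lsl_at (LP (LK LD1_c3 LD2_c12 LD3_c19)) = (LP (LK LD1_c3 LD2_c7 LD3_c7)) :=
  Lgr Lrot100 (Lpr_af (f208128 IH) (Lpn (LP (LK LD1_c3 LD2_c7 LD3_c7))))
theorem f128490 : Led Lsl_ft (LP (LK LD1_c6 LD2_c28 LD3_c46)) = (LP (LK LD1_c3 LD2_c12 LD3_c19)) :=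
  Lre_f IH (LK LD1_c6 LD2_c28 LD3_c46) (LK LD1_c3 LD2_c12 LD3_c19) Lrfl Lrfl
theorem f89445 : Led Lsl_gt (LP (LK LD1_c6 LD2_c19 LD3_c20)) = (LP (LK LD1_c3 LD2_c7 LD3_c7)) :=
  Lre_g IH (LK LD1_c6 LD2_c19 LD3_c20) (LK LD1_c3 LD2_c7 LD3_c7) Lrfl Lrfl
theorem f208250 : Led Lsl_gt (LP (LK LD1_c6 LD2_c28 LD3_c46)) = (LP (LK LD1_c6 LD2_c19 LD3_c20)) :=
  Lgr Lrot5 (Lpr_ft (f128490 IH) (Lpr_at (f208130 IH) (Lpe (f89445 IH) (Lpn (LP (LK LD1_c6 LD2_c19 LD3_c20))))))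
theorem f708967 : Led Lsl_at (LP (LK LD1_c6 LD2_c28 LD3_c44)) = (LP (LK LD1_c6 LD2_c19 LD3_c20)) :=
  Lgr Lrot26 (Lpr_ff (f708959 IH) (Lpe (f208224 IH) (Lpr_gt (f208250 IH) (Lpn (LP (LK LD1_c6 LD2_c19 LD3_c20))))))
theorem f708166 : Led Lsl_ct (LP (LK LD1_c6 LD2_c19 LD3_c19)) = (LP (LK LD1_c6 LD2_c25 LD3_c41)) :=
  Lgr Lrot59 (Lpr_cf (f708163 IH) (Lpn (LP (LK LD1_c6 LD2_c25 LD3_c41))))
theorem f708948 : Led Lsl_at (LP (LK LD1_c6 LD2_c28 LD3_c43)) = (LP (LK LD1_c6 LD2_c19 LD3_c19)) :=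
  Lgr Lrot107 (Lpr_cf (f708921 IH) (Lpe (f702892 IH) (Lpe (f708166 IH) (Lpn (LP (LK LD1_c6 LD2_c19 LD3_c19))))))
theorem f708981 : Led Lsl_ff (LP (LK LD1_c6 LD2_c28 LD3_c43)) = (LP (LK LD1_c6 LD2_c19 LD3_c20)) :=
  Lgr Lrot30 (Lpr_at (f708948 IH) (Lpe (f708959 IH) (Lpr_at (f708967 IH) (Lpn (LP (LK LD1_c6 LD2_c19 LD3_c20))))))
theorem f708985 : Led Lsl_ct (LP (LK LD1_c6 LD2_c25 LD3_c42)) = (LP (LK LD1_c6 LD2_c19 LD3_c20)) :=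
  Lgr Lrot40 (Lpr_ff (f702894 IH) (Lpe (f708951 IH) (Lpr_ff (f708981 IH) (Lpn (LP (LK LD1_c6 LD2_c19 LD3_c20))))))
theorem f89436 : Led Lsl_bt (LP (LK LD1_c1 LD2_c29 LD3_c46)) = (LP (LK LD1_c3 LD2_c7 LD3_c0)) :=
  Lre_b IH (LK LD1_c1 LD2_c29 LD3_c46) (LK LD1_c3 LD2_c7 LD3_c0) Lrfl Lrfl
theorem f25038 : Led Lsl_gt (LP (LK LD1_c3 LD2_c7 LD3_c0)) = (LP (LK LD1_c6 LD2_c19 LD3_c9)) :=
  Lre_g IH (LK LD1_c3 LD2_c7 LD3_c0) (LK LD1_c6 LD2_c19 LD3_c9) Lrfl Lrfl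
theorem f127214 : Led Lsl_ct (LP (LK LD1_c4 LD2_c44 LD3_c14)) = (LP (LK LD1_c9 LD2_c21 LD3_c15)) :=
  Lre_c IH (LK LD1_c4 LD2_c44 LD3_c14) (LK LD1_c9 LD2_c21 LD3_c15) Lrfl Lrfl
theorem f112981 : Led Lsl_gt (LP (LK LD1_c3 LD2_c14 LD3_c53)) = (LP (LK LD1_c6 LD2_c33 LD3_c12)) :=
  Lre_g IH (LK LD1_c3 LD2_c14 LD3_c53) (LK LD1_c6 LD2_c33 LD3_c12) Lrfl Lrfl
theorem f127212 : Led Lsl_gf (LP (LK LD1_c9 LD2_c21 LD3_c15)) = (LP (LK LD1_c6 LD2_c33 LD3_c12)) :=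
  Lgr Lrot76 (Lpr_af (K5.f127204 IH) (Lpe (K5.f112978 IH) (Lpr_gt (f112981 IH) (Lpn (LP (LK LD1_c6 LD2_c33 LD3_c12))))))
theorem f709052 : Led Lsl_ct (LP (LK LD1_c6 LD2_c19 LD3_c9)) = (LP (LK LD1_c6 LD2_c33 LD3_c12)) :=
  Lgr Lrot91 (Lpe (f25038 IH) (Lpe (f89436 IH) (Lpr_ct (f89401 IH) (Lpe (f89445 IH) (Lpe (f708985 IH) (Lpr_bt (f709050 IH) (Lpr_gf (f703069 IH) (Lpe (f703067 IH) (Lpr_ct (f127214 IH) (Lpr_gf (f127212 IH) (Lpn (LP (LK LD1_c6 LD2_c33 LD3_c12)))))))))))))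
theorem f709053 : Led Lsl_ct (LP (LK LD1_c6 LD2_c19 LD3_c9)) = (LP (LK LD1_c6 LD2_c33 LD3_c12)) :=
  Leop (Lpe (f709052 IH) (Lpn (LP (LK LD1_c6 LD2_c19 LD3_c9))))
theorem seed_741 : LEOK LG_c (LK LD1_c6 LD2_c19 LD3_c9) :=
  Leoe_c (LK LD1_c6 LD2_c19 LD3_c9) (f709053 IH)
theorem f120066 : Led Lsl_et (LP (LK LD1_c2 LD2_c19 LD3_c57)) = (LP (LK LD1_c4 LD2_c44 LD3_c0)) :=
  Lre_e IH (LK LD1_c2 LD2_c19 LD3_c57) (LK LD1_c4 LD2_c44 LD3_c0) Lrfl Lrfl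
theorem f62351 : Led Lsl_at (LP (LK LD1_c3 LD2_c19 LD3_c45)) = (LP (LK LD1_c1 LD2_c36 LD3_c22)) :=
  Lre_a IH (LK LD1_c3 LD2_c19 LD3_c45) (LK LD1_c1 LD2_c36 LD3_c22) Lrfl Lrfl
theorem f62352 : Led Lsl_at (LP (LK LD1_c1 LD2_c26 LD3_c37)) = (LP (LK LD1_c3 LD2_c1 LD3_c15)) :=
  Lre_a IH (LK LD1_c1 LD2_c26 LD3_c37) (LK LD1_c3 LD2_c1 LD3_c15) Lrfl Lrfl
theorem f62353 : Led Lsl_ef (LP (LK LD1_c3 LD2_c19 LD3_c45)) = (LP (LK LD1_c3 LD2_c1 LD3_c15)) :=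
  Lgr Lrot20 (Lpr_at (f62351 IH) (Lpr_et (K5.f62346 IH) (Lpr_at (f62352 IH) (Lpn (LP (LK LD1_c3 LD2_c1 LD3_c15))))))
theorem f62606 : Led Lsl_dt (LP (LK LD1_c6 LD2_c43 LD3_c17)) = (LP (LK LD1_c12 LD2_c51 LD3_c26)) :=
  Lre_d IH (LK LD1_c6 LD2_c43 LD3_c17) (LK LD1_c12 LD2_c51 LD3_c26) Lrfl Lrfl
def v13440 : LQ := Led Lsl_gf (LP (LK LD1_c4 LD2_c44 LD3_c0))
theorem f702975 : Led Lsl_gf (LP (LK LD1_c4 LD2_c44 LD3_c0)) = v13440 :=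
  Lrfl
theorem f109980 : Led Lsl_dt (LP (LK LD1_c2 LD2_c19 LD3_c56)) = (LP (LK LD1_c4 LD2_c44 LD3_c0)) :=
  Lre_d IH (LK LD1_c2 LD2_c19 LD3_c56) (LK LD1_c4 LD2_c44 LD3_c0) Lrfl Lrfl
theorem f23484 : Led Lsl_et (LP (LK LD1_c2 LD2_c19 LD3_c56)) = (LP (LK LD1_c1 LD2_c7 LD3_c12)) :=
  Lre_e IH (LK LD1_c2 LD2_c19 LD3_c56) (LK LD1_c1 LD2_c7 LD3_c12) Lrfl Lrfl
theorem f144030 : Led Lsl_gf (LP (LK LD1_c0 LD2_c45 LD3_c14)) = (LP (LK LD1_c0 LD2_c40 LD3_c4)) :=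
  Lgr Lrot147 (Lpr_ct (K5.f77840 IH) (Lpr_gt (K4.f113116 IH) (Lpr_ct (K2.f17666 IH) (Lpe (K3.f17664 IH) (Lpe (K4.f62284 IH) (Lpe (K4.f111009 IH) (Lpe (K3.f78114 IH) (Lpr_gf (K6.f144022 IH) (Lpr_df (K6.f62579 IH) (Lpn (LP (LK LD1_c0 LD2_c40 LD3_c4))))))))))))
def v8434 : LQ := Led Lsl_et v2035
theorem f671213 : Led Lsl_et v2035 = v8434 :=
  Lrfl
theorem f671214 : Led Lsl_ef v2035 = v8434 :=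
  Lgr Lrot88 (Lpr_et (f671213 IH) (Lpn v8434))
theorem f702977 : Led Lsl_dt v8434 = v13440 :=
  Lgr Lrot136 (Lpe (f671214 IH) (Lpe (f507856 IH) (Lpe (K5.f126568 IH) (Lpe (K5.f126566 IH) (Lpr_gf (f144030 IH) (Lpe (f62340 IH) (Lpe (K7.f144024 IH) (Lpe (f23484 IH) (Lpr_dt (f109980 IH) (Lpr_gf (f702975 IH) (Lpn v13440)))))))))))
theorem f708733 : v8434 = (LP (LK LD1_c4 LD2_c41 LD3_c3)) :=
  Lefun (Lecon (f671213 IH) (f708718 IH).symm) (f446125 IH)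
theorem f708758 : v13440 = (LP (LK LD1_c3 LD2_c22 LD3_c7)) :=
  Lefun (Lecon (f702977 IH) (f708733 IH)) (f446121 IH)
theorem f709270 : Led Lsl_gt (LP (LK LD1_c12 LD2_c51 LD3_c26)) = v13189 :=
  Lgr Lrot139 (Lpe (f62606 IH) (Lpe (K46.f62605 IH) (Lpr_ef (f62353 IH) (Lpr_dt (K6.f62577 IH) (Lpe (K6.f144037 IH) (Lpe (K5.f23549 IH) (Lpr_et (f120066 IH) (Lpr_gf (f702975 IH) (Lpqs (f708758 IH) (Lpr_ef (f652623 IH) (Lpr_dt (f701597 IH) (Lpn v13189))))))))))))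
def v13476 : LQ := Led Lsl_at (LP (LK LD1_c4 LD2_c44 LD3_c21))
theorem f703217 : Led Lsl_at (LP (LK LD1_c4 LD2_c44 LD3_c21)) = v13476 :=
  Lrfl
theorem f703218 : Led Lsl_af (LP (LK LD1_c4 LD2_c44 LD3_c21)) = v13476 :=
  Lgr Lrot0 (Lpr_at (f703217 IH) (Lpn v13476))
theorem f709271 : Led Lsl_ft (LP (LK LD1_c12 LD2_c51 LD3_c26)) = v13476 :=
  Lgr Lrot2 (Lpr_gt (f709270 IH) (Lpq (f708757 IH) (Lpe (f703214 IH) (Lpr_af (f703218 IH) (Lpn v13476)))))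
theorem f709274 : Led Lsl_ff (LP (LK LD1_c12 LD2_c51 LD3_c26)) = v13476 :=
  Lgr Lrot3 (Lpr_ft (f709271 IH) (Lpn v13476))
def v4369 : LQ := Led Lsl_at (LP (LK LD1_c2 LD2_c20 LD3_c9))
theorem f632974 : Led Lsl_at (LP (LK LD1_c2 LD2_c20 LD3_c9)) = v4369 :=
  Lrfl
theorem f632975 : Led Lsl_af (LP (LK LD1_c2 LD2_c20 LD3_c9)) = v4369 :=
  Lgr Lrot0 (Lpr_at (f632974 IH) (Lpn v4369))
theorem f703219 : Led Lsl_ef v4369 = v13476 :=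
  Lgr Lrot20 (Lpe (f632975 IH) (Lpr_et (f632976 IH) (Lpr_at (f703217 IH) (Lpn v13476))))
theorem f703220 : Led Lsl_et v4369 = v13476 :=
  Lgr Lrot87 (Lpr_ef (f703219 IH) (Lpn v13476))
theorem f632977 : Led Lsl_ft (LP (LK LD1_c2 LD2_c20 LD3_c10)) = v4369 :=
  Lgr Lrot2 (Lpr_gt (f25260 IH) (Lpr_gt (K50.f25228 IH) (Lpr_af (f632975 IH) (Lpn v4369))))
def v13484 : LQ := Led Lsl_ft (LP (LK LD1_c4 LD2_c44 LD3_c23))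
theorem f703245 : Led Lsl_ft (LP (LK LD1_c4 LD2_c44 LD3_c23)) = v13484 :=
  Lrfl
theorem f703246 : Led Lsl_ff (LP (LK LD1_c4 LD2_c44 LD3_c23)) = v13484 :=
  Lgr Lrot3 (Lpr_ft (f703245 IH) (Lpn v13484))
theorem f709277 : Led Lsl_et (LP (LK LD1_c12 LD2_c51 LD3_c26)) = v13484 :=
  Lgr Lrot69 (Lpr_ff (f709274 IH) (Lpe (f703220 IH) (Lpe (f632977 IH) (Lpe (f144059 IH) (Lpr_ff (f703246 IH) (Lpn v13484))))))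
theorem f437843 : Led Lsl_dt (LP (LK LD1_c12 LD2_c51 LD3_c26)) = (LP (LK LD1_c6 LD2_c43 LD3_c17)) :=
  Lre_d IH (LK LD1_c12 LD2_c51 LD3_c26) (LK LD1_c6 LD2_c43 LD3_c17) Lrfl Lrfl
theorem f671907 : Led Lsl_ef v2135 = v8651 :=
  Lgr Lrot88 (Lpr_et (f671906 IH) (Lpn v8651))
theorem f446000 : Led Lsl_gt (LP (LK LD1_c9 LD2_c17 LD3_c36)) = (LP (LK LD1_c4 LD2_c41 LD3_c3)) :=
  Lre_g IH (LK LD1_c9 LD2_c17 LD3_c36) (LK LD1_c4 LD2_c41 LD3_c3) Lrfl Lrfl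
theorem f709278 : (LP (LK LD1_c9 LD2_c17 LD3_c36)) = v13484 :=
  (Llr Lrot141 (Lpr_gt (f446000 IH) (Lpe (f446125 IH) (Lpr_dt (f632202 IH) (Lpr_gt (f708260 IH) (Lpe (f672246 IH) (Lpqs (f708265 IH) (Lpe (f671907 IH) (Lpe (f509163 IH) (Lpr_dt (K6.f62575 IH) (Lpr_gt (K46.f62605 IH) (Lpe (f437843 IH) (Lpr_et (f709277 IH) (Lpn v13484)))))))))))))).symm
theorem f709281 : Led Lsl_ft (LP (LK LD1_c9 LD2_c17 LD3_c36)) = (LP (LK LD1_c4 LD2_c44 LD3_c23)) :=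
  Leop (Lpr_ff (f703246 IH) (Lpq (f709278 IH) (Lpn (LP (LK LD1_c9 LD2_c17 LD3_c36)))))
theorem seed_742 : LEOK LG_f (LK LD1_c9 LD2_c17 LD3_c36) :=
  Leoe_f (LK LD1_c9 LD2_c17 LD3_c36) (f709281 IH)
def v13743 : LQ := Led Lsl_at (LP (LK LD1_c4 LD2_c47 LD3_c45))
theorem f704614 : Led Lsl_at (LP (LK LD1_c4 LD2_c47 LD3_c45)) = v13743 :=
  Lrfl
def v6438 : LQ := Led Lsl_at (LP (LK LD1_c3 LD2_c21 LD3_c47))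
theorem f653422 : Led Lsl_at (LP (LK LD1_c3 LD2_c21 LD3_c47)) = v6438 :=
  Lrfl
theorem f653423 : Led Lsl_af (LP (LK LD1_c3 LD2_c21 LD3_c47)) = v6438 :=
  Lgr Lrot0 (Lpr_at (f653422 IH) (Lpn v6438))
theorem f708314 : Led Lsl_ef v6438 = v13743 :=
  Lgr Lrot20 (Lpe (f653423 IH) (Lpq (f708307 IH) (Lpe (f632998 IH) (Lpr_at (f704614 IH) (Lpn v13743)))))
theorem f708334 : Led Lsl_et v6438 = v13743 :=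
  Lgr Lrot87 (Lpr_ef (f708314 IH) (Lpn v13743))
def v4456 : LQ := Led Lsl_et (LP (LK LD1_c2 LD2_c21 LD3_c50))
theorem f633496 : Led Lsl_et (LP (LK LD1_c2 LD2_c21 LD3_c50)) = v4456 :=
  Lrfl
theorem f633497 : Led Lsl_ef (LP (LK LD1_c2 LD2_c21 LD3_c50)) = v4456 :=
  Lgr Lrot88 (Lpr_et (f633496 IH) (Lpn v4456))
theorem f653424 : Led Lsl_ft v2199 = v6438 :=
  Lgr Lrot2 (Lpr_gt (f653383 IH) (Lpe (f653379 IH) (Lpr_af (f653423 IH) (Lpn v6438))))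
theorem f653425 : Led Lsl_ff v2199 = v6438 :=
  Lgr Lrot3 (Lpr_ft (f653424 IH) (Lpn v6438))
def v4372 : LQ := Led Lsl_ft (LP (LK LD1_c2 LD2_c20 LD3_c9))
theorem f632988 : Led Lsl_ft (LP (LK LD1_c2 LD2_c20 LD3_c9)) = v4372 :=
  Lrfl
theorem f708793 : Led Lsl_df v6438 = v4372 :=
  Lgr Lrot78 (Lpe (f653425 IH) (Lpr_dt (f672266 IH) (Lpqs (f708791 IH) (Lpr_ft (f632988 IH) (Lpn v4372)))))
theorem f92144 : Led Lsl_gt (LP (LK LD1_c1 LD2_c8 LD3_c5)) = (LP (LK LD1_c2 LD2_c21 LD3_c50)) :=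
  Lre_g IH (LK LD1_c1 LD2_c8 LD3_c5) (LK LD1_c2 LD2_c21 LD3_c50) Lrfl Lrfl
theorem f156504 : Led Lsl_gf (LP (LK LD1_c0 LD2_c43 LD3_c37)) = (LP (LK LD1_c1 LD2_c7 LD3_c16)) :=
  Lgr Lrot143 (Lpe (K5.f126566 IH) (Lpr_cf (K4.f77836 IH) (Lpe (K5.f113062 IH) (Lpe (K4.f62869 IH) (Lpe (K2.f24340 IH) (Lpr_gf (K3.f93193 IH) (Lpe (K3.f24311 IH) (Lpr_gt (K7.f156500 IH) (Lpr_dt (K48.f144104 IH) (Lpn (LP (LK LD1_c1 LD2_c7 LD3_c16))))))))))))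
def v4362 : LQ := Led Lsl_gf (LP (LK LD1_c2 LD2_c20 LD3_c0))
theorem f632926 : Led Lsl_gf (LP (LK LD1_c2 LD2_c20 LD3_c0)) = v4362 :=
  Lrfl
theorem f633498 : Led Lsl_df v4362 = v4456 :=
  Lgr Lrot170 (Lpe (f632926 IH) (Lpe (f144053 IH) (Lpr_et (f144106 IH) (Lpe (f156504 IH) (Lpe (K5.f126566 IH) (Lpr_gt (K4.f20085 IH) (Lpr_df (K4.f113128 IH) (Lpr_et (K6.f113131 IH) (Lpr_gt (f92144 IH) (Lpr_ef (f633497 IH) (Lpn v4456)))))))))))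
theorem f633499 : Led Lsl_dt v4362 = v4456 :=
  Lgr Lrot42 (Lpr_df (f633498 IH) (Lpn v4456))
def v13481 : LQ := Led Lsl_at (LP (LK LD1_c4 LD2_c44 LD3_c23))
theorem f703233 : Led Lsl_at (LP (LK LD1_c4 LD2_c44 LD3_c23)) = v13481 :=
  Lrfl
theorem f632981 : Led Lsl_et (LP (LK LD1_c2 LD2_c20 LD3_c10)) = (LP (LK LD1_c4 LD2_c44 LD3_c23)) :=
  Lre_e IH (LK LD1_c2 LD2_c20 LD3_c10) (LK LD1_c4 LD2_c44 LD3_c23) Lrfl Lrfl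
theorem f632989 : Led Lsl_af (LP (LK LD1_c2 LD2_c20 LD3_c10)) = v4372 :=
  Lgr Lrot45 (Lpr_ft (f632977 IH) (Lpe (f632975 IH) (Lpr_ft (f632988 IH) (Lpn v4372))))
theorem f703235 : Led Lsl_ef v4372 = v13481 :=
  Lgr Lrot20 (Lpe (f632989 IH) (Lpr_et (f632981 IH) (Lpr_at (f703233 IH) (Lpn v13481))))
def v13457 : LQ := Led Lsl_ft (LP (LK LD1_c4 LD2_c44 LD3_c12))
theorem f703112 : Led Lsl_ft (LP (LK LD1_c4 LD2_c44 LD3_c12)) = v13457 :=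
  Lrfl
theorem f703114 : Led Lsl_ff (LP (LK LD1_c4 LD2_c44 LD3_c12)) = v13457 :=
  Lgr Lrot3 (Lpr_ft (f703112 IH) (Lpn v13457))
theorem f708154 : K48.v5325 = v13457 :=
  Lefun (Lecon (f647092 IH) (f708143 IH)) (f703112 IH)
theorem f126668 : Led Lsl_dt (LP (LK LD1_c6 LD2_c33 LD3_c17)) = (LP (LK LD1_c3 LD2_c14 LD3_c54)) :=
  Lre_d IH (LK LD1_c6 LD2_c33 LD3_c17) (LK LD1_c3 LD2_c14 LD3_c54) Lrfl Lrfl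
theorem f127198 : Led Lsl_dt (LP (LK LD1_c4 LD2_c44 LD3_c12)) = (LP (LK LD1_c9 LD2_c21 LD3_c16)) :=
  Lre_d IH (LK LD1_c4 LD2_c44 LD3_c12) (LK LD1_c9 LD2_c21 LD3_c16) Lrfl Lrfl
theorem f709140 : Led Lsl_ff (LP (LK LD1_c6 LD2_c33 LD3_c17)) = (LP (LK LD1_c9 LD2_c21 LD3_c16)) :=
  Lgr Lrot19 (Lpr_dt (f126668 IH) (Lpqs (f708759 IH) (Lpqs (f708154 IH) (Lpe (f703114 IH) (Lpr_dt (f127198 IH) (Lpn (LP (LK LD1_c9 LD2_c21 LD3_c16))))))))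
theorem f709148 : Led Lsl_ft (LP (LK LD1_c6 LD2_c33 LD3_c17)) = (LP (LK LD1_c9 LD2_c21 LD3_c16)) :=
  Lgr Lrot48 (Lpr_ff (f709140 IH) (Lpn (LP (LK LD1_c9 LD2_c21 LD3_c16))))
theorem f154250 : Led Lsl_et (LP (LK LD1_c9 LD2_c32 LD3_c44)) = (LP (LK LD1_c4 LD2_c50 LD3_c10)) :=
  Lre_e IH (LK LD1_c9 LD2_c32 LD3_c44) (LK LD1_c4 LD2_c50 LD3_c10) Lrfl Lrfl
theorem f154223 : Led Lsl_bt (LP (LK LD1_c6 LD2_c24 LD3_c19)) = (LP (LK LD1_c3 LD2_c9 LD3_c47)) :=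
  Lre_b IH (LK LD1_c6 LD2_c24 LD3_c19) (LK LD1_c3 LD2_c9 LD3_c47) Lrfl Lrfl
theorem f154244 : Led Lsl_bt (LP (LK LD1_c4 LD2_c50 LD3_c12)) = (LP (LK LD1_c9 LD2_c32 LD3_c44)) :=
  Lre_b IH (LK LD1_c4 LD2_c50 LD3_c12) (LK LD1_c9 LD2_c32 LD3_c44) Lrfl Lrfl
theorem f154245 : Led Lsl_df (LP (LK LD1_c6 LD2_c24 LD3_c19)) = (LP (LK LD1_c9 LD2_c32 LD3_c44)) :=
  Lgr Lrot12 (Lpr_bt (f154223 IH) (Lpr_dt (K32.f154234 IH) (Lpr_bt (f154244 IH) (Lpn (LP (LK LD1_c9 LD2_c32 LD3_c44))))))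
theorem f416089 : Led Lsl_bt (LP (LK LD1_c2 LD2_c22 LD3_c54)) = (LP (LK LD1_c4 LD2_c50 LD3_c10)) :=
  Lre_b IH (LK LD1_c2 LD2_c22 LD3_c54) (LK LD1_c4 LD2_c50 LD3_c10) Lrfl Lrfl
theorem f503299 : Led Lsl_ft (LP (LK LD1_c4 LD2_c50 LD3_c10)) = (LP (LK LD1_c3 LD2_c22 LD3_c7)) :=
  Lgr Lrot75 (Lpe (f416089 IH) (Lpr_ff (K32.f503297 IH) (Lpe (f140124 IH) (Lpn (LP (LK LD1_c3 LD2_c22 LD3_c7))))))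
def v5905 : LQ := Led Lsl_ft (LP (LK LD1_c3 LD2_c14 LD3_c45))
theorem f650004 : Led Lsl_ft (LP (LK LD1_c3 LD2_c14 LD3_c45)) = v5905 :=
  Lrfl
theorem f702987 : Led Lsl_at v5905 = v13441 :=
  Lgr Lrot66 (Lpe (f650004 IH) (Lpr_af (f107424 IH) (Lpr_ff (f702983 IH) (Lpn v13441))))
def v5904 : LQ := Led Lsl_gt (LP (LK LD1_c3 LD2_c14 LD3_c45))
theorem f650001 : Led Lsl_gt (LP (LK LD1_c3 LD2_c14 LD3_c45)) = v5904 :=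
  Lrfl
theorem f702992 : Led Lsl_gt v5904 = v13441 :=
  Lgr Lrot46 (Lpe (f650001 IH) (Lpr_ft (f650004 IH) (Lpr_at (f702987 IH) (Lpn v13441))))
theorem f708355 : (LP (LK LD1_c4 LD2_c50 LD3_c10)) = v5904 :=
  (Llr Lrot52 (Lpr_ft (f503299 IH) (Lpr_at (f653534 IH) (Lpq (f708341 IH) (Lpr_gf (f702990 IH) (Lpe (f702992 IH) (Lpn v5904))))))).symm
theorem f209586 : Led Lsl_et (LP (LK LD1_c3 LD2_c1 LD3_c18)) = (LP (LK LD1_c6 LD2_c9 LD3_c38)) :=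
  Lre_e IH (LK LD1_c3 LD2_c1 LD3_c18) (LK LD1_c6 LD2_c9 LD3_c38) Lrfl Lrfl
theorem f209587 : Led Lsl_df (LP (LK LD1_c6 LD2_c9 LD3_c38)) = (LP (LK LD1_c6 LD2_c9 LD3_c38)) :=
  Lgr Lrot70 (Lpr_et (K46.f62370 IH) (Lpr_dt (K11.f209582 IH) (Lpe (K11.f209580 IH) (Lpe (K11.f209578 IH) (Lpr_et (f209586 IH) (Lpn (LP (LK LD1_c6 LD2_c9 LD3_c38))))))))
theorem f708357 : Led Lsl_gt (LP (LK LD1_c6 LD2_c24 LD3_c19)) = (LP (LK LD1_c6 LD2_c9 LD3_c38)) :=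
  Lgr Lrot112 (Lpr_df (f154245 IH) (Lpr_et (f154250 IH) (Lpqs (f708355 IH) (Lpe (f650001 IH) (Lpe (K3.f107431 IH) (Lpr_dt (K3.f24354 IH) (Lpe (K5.f24360 IH) (Lpe (K5.f24361 IH) (Lpe (K11.f209589 IH) (Lpe (K46.f62370 IH) (Lpe (f209587 IH) (Lpn (LP (LK LD1_c6 LD2_c9 LD3_c38))))))))))))))
def v13297 : LQ := Led Lsl_bt (LP (LK LD1_c4 LD2_c42 LD3_c32))
theorem f702213 : Led Lsl_bt (LP (LK LD1_c4 LD2_c42 LD3_c32)) = v13297 :=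
  Lrfl
theorem f702216 : Led Lsl_ff (LP (LK LD1_c6 LD2_c24 LD3_c19)) = v13297 :=
  Lgr Lrot25 (Lpr_bt (f154223 IH) (Lpr_ft (K32.f503267 IH) (Lpr_bt (f702213 IH) (Lpn v13297))))
theorem f702217 : Led Lsl_ft (LP (LK LD1_c6 LD2_c24 LD3_c19)) = v13297 :=
  Lgr Lrot48 (Lpr_ff (f702216 IH) (Lpn v13297))
theorem f209591 : Led Lsl_gt (LP (LK LD1_c6 LD2_c9 LD3_c38)) = (LP (LK LD1_c12 LD2_c0 LD3_c16)) :=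
  Lre_g IH (LK LD1_c6 LD2_c9 LD3_c38) (LK LD1_c12 LD2_c0 LD3_c16) Lrfl Lrfl
theorem f708359 : Led Lsl_at v13297 = (LP (LK LD1_c12 LD2_c0 LD3_c16)) :=
  Lgr Lrot26 (Lpe (f702217 IH) (Lpr_gt (f708357 IH) (Lpr_gt (f209591 IH) (Lpn (LP (LK LD1_c12 LD2_c0 LD3_c16))))))
theorem f702215 : Led Lsl_ef (LP (LK LD1_c6 LD2_c12 LD3_c50)) = v13297 :=
  Lgr Lrot29 (Lpr_bt (f146111 IH) (Lpr_et (K32.f437956 IH) (Lpr_bt (f702213 IH) (Lpn v13297))))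
theorem f702218 : Led Lsl_et (LP (LK LD1_c6 LD2_c12 LD3_c50)) = v13297 :=
  Lgr Lrot87 (Lpr_ef (f702215 IH) (Lpn v13297))
theorem f127138 : Led Lsl_et (LP (LK LD1_c4 LD2_c44 LD3_c13)) = (LP (LK LD1_c3 LD2_c1 LD3_c14)) :=
  Lgr Lrot87 (Lpr_ef (K5.f127129 IH) (Lpn (LP (LK LD1_c3 LD2_c1 LD3_c14))))
theorem f127144 : Led Lsl_dt (LP (LK LD1_c9 LD2_c21 LD3_c16)) = (LP (LK LD1_c4 LD2_c44 LD3_c12)) :=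
  Lre_d IH (LK LD1_c9 LD2_c21 LD3_c16) (LK LD1_c4 LD2_c44 LD3_c12) Lrfl Lrfl
theorem f430390 : Led Lsl_ef (LP (LK LD1_c12 LD2_c0 LD3_c16)) = (LP (LK LD1_c9 LD2_c21 LD3_c16)) :=
  Lgr Lrot17 (Lpe (f209591 IH) (Lpe (f209586 IH) (Lpr_dt (K11.f209582 IH) (Lpr_gf (K11.f430180 IH) (Lpe (K49.f430383 IH) (Lpe (K6.f134059 IH) (Lpe (f127138 IH) (Lpr_dt (K5.f127128 IH) (Lpe (K50.f127132 IH) (Lpe (f127144 IH) (Lpn (LP (LK LD1_c9 LD2_c21 LD3_c16)))))))))))))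
theorem f430394 : Led Lsl_et (LP (LK LD1_c12 LD2_c0 LD3_c16)) = (LP (LK LD1_c9 LD2_c21 LD3_c16)) :=
  Lgr Lrot87 (Lpr_ef (f430390 IH) (Lpn (LP (LK LD1_c9 LD2_c21 LD3_c16))))
theorem f708363 : Led Lsl_af (LP (LK LD1_c6 LD2_c12 LD3_c50)) = (LP (LK LD1_c9 LD2_c21 LD3_c16)) :=
  Lgr Lrot50 (Lpr_et (f702218 IH) (Lpr_at (f708359 IH) (Lpr_et (f430394 IH) (Lpn (LP (LK LD1_c9 LD2_c21 LD3_c16))))))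
theorem f662899 : Led Lsl_at (LP (LK LD1_c6 LD2_c17 LD3_c50)) = (LP (LK LD1_c6 LD2_c31 LD3_c41)) :=
  Lgr Lrot100 (Lpr_af (K48.f662897 IH) (Lpn (LP (LK LD1_c6 LD2_c31 LD3_c41))))
theorem f708367 : Led Lsl_bt (LP (LK LD1_c6 LD2_c31 LD3_c41)) = (LP (LK LD1_c9 LD2_c21 LD3_c16)) :=
  Lgr Lrot62 (Lpe (f662899 IH) (Lpe (K48.f416576 IH) (Lpr_af (K35.f503247 IH) (Lpe (f146111 IH) (Lpr_af (f708363 IH) (Lpn (LP (LK LD1_c9 LD2_c21 LD3_c16))))))))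
theorem f708373 : Led Lsl_bf (LP (LK LD1_c6 LD2_c31 LD3_c41)) = (LP (LK LD1_c9 LD2_c21 LD3_c16)) :=
  Lgr Lrot24 (Lpr_bt (f708367 IH) (Lpn (LP (LK LD1_c9 LD2_c21 LD3_c16))))
theorem f146157 : Led Lsl_bt (LP (LK LD1_c6 LD2_c17 LD3_c50)) = (LP (LK LD1_c3 LD2_c6 LD3_c7)) :=
  Lre_b IH (LK LD1_c6 LD2_c17 LD3_c50) (LK LD1_c3 LD2_c6 LD3_c7) Lrfl Lrfl
theorem f503390 : Led Lsl_ft (LP (LK LD1_c6 LD2_c12 LD3_c47)) = (LP (LK LD1_c6 LD2_c17 LD3_c50)) :=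
  Lgr Lrot75 (Lpe (K48.f20147 IH) (Lpr_ff (K32.f503388 IH) (Lpe (f146157 IH) (Lpn (LP (LK LD1_c6 LD2_c17 LD3_c50))))))
theorem f662978 : Led Lsl_ft (LP (LK LD1_c6 LD2_c31 LD3_c41)) = (LP (LK LD1_c7 LD2_c27 LD3_c5)) :=
  Lgr Lrot101 (Lpe (f662899 IH) (Lpe (f503390 IH) (Lpr_af (K48.f662974 IH) (Lpn (LP (LK LD1_c7 LD2_c27 LD3_c5))))))
theorem f709152 : Led Lsl_bf (LP (LK LD1_c6 LD2_c33 LD3_c17)) = (LP (LK LD1_c7 LD2_c27 LD3_c5)) :=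
  Lgr Lrot61 (Lpr_ft (f709148 IH) (Lpe (f708373 IH) (Lpr_ft (f662978 IH) (Lpn (LP (LK LD1_c7 LD2_c27 LD3_c5))))))
def v13766 : LQ := Led Lsl_gt (LP (LK LD1_c4 LD2_c47 LD3_c55))
theorem f704744 : Led Lsl_gt (LP (LK LD1_c4 LD2_c47 LD3_c55)) = v13766 :=
  Lrfl
theorem f92145 : Led Lsl_dt (LP (LK LD1_c2 LD2_c21 LD3_c50)) = (LP (LK LD1_c4 LD2_c47 LD3_c55)) :=
  Lre_d IH (LK LD1_c2 LD2_c21 LD3_c50) (LK LD1_c4 LD2_c47 LD3_c55) Lrfl Lrfl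
def v8438 : LQ := Led Lsl_et v2036
theorem f671223 : Led Lsl_et v2036 = v8438 :=
  Lrfl
theorem f671224 : Led Lsl_ef v2036 = v8438 :=
  Lgr Lrot88 (Lpr_et (f671223 IH) (Lpn v8438))
theorem f704748 : Led Lsl_dt v8438 = v13766 :=
  Lgr Lrot56 (Lpe (f671224 IH) (Lpe (f507859 IH) (Lpe (K5.f126568 IH) (Lpe (K5.f126566 IH) (Lpr_gt (K4.f20085 IH) (Lpr_df (K4.f113128 IH) (Lpr_et (K6.f113131 IH) (Lpr_gt (f92144 IH) (Lpr_dt (f92145 IH) (Lpr_gt (f704744 IH) (Lpn v13766)))))))))))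
theorem f704750 : Led Lsl_ef (LP (LK LD1_c6 LD2_c33 LD3_c17)) = v13766 :=
  Lgr Lrot73 (Lpr_dt (f126668 IH) (Lpr_et (f650033 IH) (Lpe (f650035 IH) (Lpr_et (f671223 IH) (Lpr_dt (f704748 IH) (Lpn v13766))))))
theorem f704751 : Led Lsl_et (LP (LK LD1_c6 LD2_c33 LD3_c17)) = v13766 :=
  Lgr Lrot87 (Lpr_ef (f704750 IH) (Lpn v13766))
theorem f709163 : Led Lsl_bt v13766 = (LP (LK LD1_c6 LD2_c42 LD3_c30)) :=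
  Lgr Lrot119 (Lpe (f704751 IH) (Lpr_bf (f709152 IH) (Lpe (K48.f652191 IH) (Lpn (LP (LK LD1_c6 LD2_c42 LD3_c30))))))
theorem f662969 : Led Lsl_af (LP (LK LD1_c9 LD2_c17 LD3_c43)) = (LP (LK LD1_c6 LD2_c42 LD3_c30)) :=
  Lgr Lrot0 (Lpr_at (K48.f662967 IH) (Lpn (LP (LK LD1_c6 LD2_c42 LD3_c30))))
theorem f443993 : Led Lsl_bt (LP (LK LD1_c3 LD2_c3 LD3_c3)) = (LP (LK LD1_c6 LD2_c12 LD3_c39)) :=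
  Lre_b IH (LK LD1_c3 LD2_c3 LD3_c3) (LK LD1_c6 LD2_c12 LD3_c39) Lrfl Lrfl
theorem f709164 : Led Lsl_af v13766 = (LP (LK LD1_c6 LD2_c12 LD3_c39)) :=
  Lgr Lrot36 (Lpr_bt (f709163 IH) (Lpe (f662969 IH) (Lpr_bt (K48.f20146 IH) (Lpr_at (K32.f503529 IH) (Lpr_bt (f443993 IH) (Lpn (LP (LK LD1_c6 LD2_c12 LD3_c39))))))))
def v13767 : LQ := Led Lsl_gf (LP (LK LD1_c4 LD2_c47 LD3_c55))
theorem f704753 : Led Lsl_gf (LP (LK LD1_c4 LD2_c47 LD3_c55)) = v13767 :=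
  Lrfl
def v13791 : LQ := Led Lsl_bt (LP (LK LD1_c4 LD2_c48 LD3_c3))
theorem f704862 : Led Lsl_bt (LP (LK LD1_c4 LD2_c48 LD3_c3)) = v13791 :=
  Lrfl
theorem f704866 : Led Lsl_ff (LP (LK LD1_c6 LD2_c12 LD3_c39)) = v13791 :=
  Lgr Lrot25 (Lpr_bt (K48.f24651 IH) (Lpe (K32.f503541 IH) (Lpr_bt (f704862 IH) (Lpn v13791))))
theorem f709167 : v13767 = v13791 :=
  (Llr Lrot47 (Lpe (f704753 IH) (Lpr_gt (f704744 IH) (Lpr_af (f709164 IH) (Lpr_ff (f704866 IH) (Lpn v13791)))))).symm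
def v5284 : LQ := Led Lsl_ft (LP (LK LD1_c3 LD2_c2 LD3_c59))
theorem f646899 : Led Lsl_ft (LP (LK LD1_c3 LD2_c2 LD3_c59)) = v5284 :=
  Lrfl
theorem f704867 : Led Lsl_dt v5284 = v13791 :=
  Lgr Lrot60 (Lpe (f646899 IH) (Lpe (K48.f444187 IH) (Lpr_ff (f704866 IH) (Lpn v13791))))
def v13184 : LQ := Led Lsl_ft (LP (LK LD1_c4 LD2_c41 LD3_c3))
theorem f701562 : Led Lsl_ft (LP (LK LD1_c4 LD2_c41 LD3_c3)) = v13184 :=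
  Lrfl
theorem f701566 : Led Lsl_ff (LP (LK LD1_c4 LD2_c41 LD3_c3)) = v13184 :=
  Lgr Lrot3 (Lpr_ft (f701562 IH) (Lpn v13184))
theorem f446131 : Led Lsl_et (LP (LK LD1_c4 LD2_c41 LD3_c3)) = (LP (LK LD1_c2 LD2_c17 LD3_c34)) :=
  Lre_e IH (LK LD1_c4 LD2_c41 LD3_c3) (LK LD1_c2 LD2_c17 LD3_c34) Lrfl Lrfl
theorem f444185 : Led Lsl_et (LP (LK LD1_c1 LD2_c27 LD3_c23)) = (LP (LK LD1_c3 LD2_c2 LD3_c59)) :=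
  Lre_e IH (LK LD1_c1 LD2_c27 LD3_c23) (LK LD1_c3 LD2_c2 LD3_c59) Lrfl Lrfl
theorem f701569 : Led Lsl_et v5284 = v13184 :=
  Lgr Lrot69 (Lpe (f646899 IH) (Lpe (f444185 IH) (Lpr_ff (K49.f502990 IH) (Lpqs (K49.f503334 IH) (Lpe (f446131 IH) (Lpr_ff (f701566 IH) (Lpn v13184)))))))
theorem f701564 : Led Lsl_df (LP (LK LD1_c4 LD2_c50 LD3_c10)) = v13184 :=
  Lgr Lrot78 (Lpr_ft (f503299 IH) (Lpe (f23229 IH) (Lpr_ft (f701562 IH) (Lpn v13184))))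
def v4356 : LQ := Led Lsl_ft (LP (LK LD1_c2 LD2_c19 LD3_c56))
theorem f632889 : Led Lsl_ft (LP (LK LD1_c2 LD2_c19 LD3_c56)) = v4356 :=
  Lrfl
theorem f702988 : Led Lsl_dt v4356 = v13441 :=
  Lgr Lrot60 (Lpe (f632889 IH) (Lpe (K3.f91929 IH) (Lpr_ff (f702983 IH) (Lpn v13441))))
theorem f23487 : Led Lsl_et (LP (LK LD1_c1 LD2_c7 LD3_c12)) = (LP (LK LD1_c2 LD2_c19 LD3_c56)) :=
  Lre_e IH (LK LD1_c1 LD2_c7 LD3_c12) (LK LD1_c2 LD2_c19 LD3_c56) Lrfl Lrfl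
theorem f26161 : Led Lsl_et (LP (LK LD1_c1 LD2_c33 LD3_c51)) = (LP (LK LD1_c0 LD2_c43 LD3_c30)) :=
  Lre_e IH (LK LD1_c1 LD2_c33 LD3_c51) (LK LD1_c0 LD2_c43 LD3_c30) Lrfl Lrfl
theorem f632891 : Led Lsl_ef v2028 = v4356 :=
  Lgr Lrot21 (Lpe (f507829 IH) (Lpr_et (f26161 IH) (Lpr_ft (K8.f107466 IH) (Lpr_et (f23487 IH) (Lpr_ft (f632889 IH) (Lpn v4356))))))
theorem f708035 : K46.v2190 = v2028 :=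
  Lefun (Lecon (K46.f509543 IH) (f708019 IH).symm) (f507828 IH)
theorem f454429 : Led Lsl_et (LP (LK LD1_c3 LD2_c21 LD3_c41)) = (LP (LK LD1_c1 LD2_c37 LD3_c5)) :=
  Lre_e IH (LK LD1_c3 LD2_c21 LD3_c41) (LK LD1_c1 LD2_c37 LD3_c5) Lrfl Lrfl
def v6440 : LQ := Led Lsl_dt (LP (LK LD1_c3 LD2_c21 LD3_c47))
theorem f653429 : Led Lsl_dt (LP (LK LD1_c3 LD2_c21 LD3_c47)) = v6440 :=
  Lrfl
theorem f653430 : Led Lsl_df (LP (LK LD1_c3 LD2_c21 LD3_c47)) = v6440 :=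
  Lgr Lrot38 (Lpr_dt (f653429 IH) (Lpn v6440))
theorem f708308 : (LP (LK LD1_c2 LD2_c20 LD3_c10)) = v6440 :=
  Lefun (Lecon (Lfl_df (f632996 IH)) (f708307 IH)) (f653429 IH)
def v13479 : LQ := Led Lsl_gt (LP (LK LD1_c4 LD2_c44 LD3_c23))
theorem f703227 : Led Lsl_gt (LP (LK LD1_c4 LD2_c44 LD3_c23)) = v13479 :=
  Lrfl
theorem f708378 : v13184 = v13479 :=
  (Llr Lrot135 (Lpe (f701564 IH) (Lpqs (f708355 IH) (Lpr_gt (f702992 IH) (Lpe (f702988 IH) (Lpe (f632891 IH) (Lpq (f708035 IH) (Lpqs (K49.f678937 IH) (Lpr_gt (f454426 IH) (Lpe (f454429 IH) (Lpr_dt (f653368 IH) (Lpe (f653379 IH) (Lpr_df (f653430 IH) (Lpq (f708308 IH) (Lpr_et (f632981 IH) (Lpr_gt (f703227 IH) (Lpn v13479))))))))))))))))).symm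
def v6428 : LQ := Led Lsl_gf (LP (LK LD1_c3 LD2_c21 LD3_c41))
theorem f653366 : Led Lsl_gf (LP (LK LD1_c3 LD2_c21 LD3_c41)) = v6428 :=
  Lrfl
theorem f709168 : v6428 = v4456 :=
  (Llr Lrot138 (Lpe (f653366 IH) (Lpr_dt (f653368 IH) (Lpe (f653379 IH) (Lpq (f708307 IH) (Lpe (f632995 IH) (Lpr_et (f632981 IH) (Lpr_gt (f703227 IH) (Lpq (f708378 IH) (Lpe (f701569 IH) (Lpr_dt (f704867 IH) (Lpq (f709167 IH) (Lpe (f704753 IH) (Lpe (f92145 IH) (Lpr_et (f633496 IH) (Lpn v4456)))))))))))))))).symm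
def v967 : LQ := Led Lsl_gt v131
def v3611 : LQ := Led Lsl_dt v967
def v11117 : LQ := Led Lsl_ft v3611
theorem f683178 : Led Lsl_ft v3611 = v11117 :=
  Lrfl
def v11113 : LQ := Led Lsl_gt v3611
theorem f683169 : Led Lsl_gt v3611 = v11113 :=
  Lrfl
def v3608 : LQ := Led Lsl_at v967
def v11099 : LQ := Led Lsl_dt v3608
theorem f683125 : Led Lsl_dt v3608 = v11099 :=
  Lrfl
theorem f626424 : Led Lsl_at v967 = v3608 :=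
  Lrfl
theorem f626432 : Led Lsl_dt v967 = v3611 :=
  Lrfl
theorem f626433 : Led Lsl_df v967 = v3611 :=
  Lgr Lrot38 (Lpr_dt (f626432 IH) (Lpn v3611))
theorem f683126 : Led Lsl_af v3611 = v11099 :=
  Lgr Lrot117 (Lpe (f626433 IH) (Lpr_at (f626424 IH) (Lpr_dt (f683125 IH) (Lpn v11099))))
theorem f626425 : Led Lsl_af v967 = v3608 :=
  Lgr Lrot0 (Lpr_at (f626424 IH) (Lpn v3608))
theorem f490776 : Led Lsl_gt v131 = v967 :=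
  Lrfl
theorem f626426 : Led Lsl_ft v968 = v3608 :=
  Lgr Lrot2 (Lpe (f490777 IH) (Lpr_gt (f490776 IH) (Lpr_af (f626425 IH) (Lpn v3608))))
theorem f683128 : Led Lsl_ff v3616 = v11099 :=
  Lgr Lrot19 (Lpe (f626445 IH) (Lpr_ft (f626426 IH) (Lpr_dt (f683125 IH) (Lpn v11099))))
theorem f683129 : Led Lsl_ft v3616 = v11099 :=
  Lgr Lrot48 (Lpr_ff (f683128 IH) (Lpn v11099))
theorem f683179 : Led Lsl_af v3616 = v11117 :=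
  Lgr Lrot45 (Lpr_ft (f683129 IH) (Lpe (f683126 IH) (Lpr_ft (f683178 IH) (Lpn v11117))))
theorem f683182 : Led Lsl_gt v11113 = v3616 :=
  Lgr Lrot46 (Lpe (f683169 IH) (Lpr_ft (f683178 IH) (Lpe (f683179 IH) (Lpn v3616))))
theorem f120388 : Led Lsl_et (LP (LK LD1_c0 LD2_c43 LD3_c32)) = (LP (LK LD1_c1 LD2_c33 LD3_c55)) :=
  Lre_e IH (LK LD1_c0 LD2_c43 LD3_c32) (LK LD1_c1 LD2_c33 LD3_c55) Lrfl Lrfl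
def v2030 : LQ := Led Lsl_gf (LP (LK LD1_c1 LD2_c33 LD3_c55))
theorem f507836 : Led Lsl_gf (LP (LK LD1_c1 LD2_c33 LD3_c55)) = v2030 :=
  Lrfl
def v8419 : LQ := Led Lsl_et v2030
theorem f671175 : Led Lsl_et v2030 = v8419 :=
  Lrfl
theorem f671176 : Led Lsl_ef v2030 = v8419 :=
  Lgr Lrot88 (Lpr_et (f671175 IH) (Lpn v8419))
theorem f683170 : Led Lsl_dt v8419 = v11113 :=
  Lgr Lrot56 (Lpe (f671176 IH) (Lpe (f507836 IH) (Lpe (f120388 IH) (Lpr_dt (K4.f24313 IH) (Lpr_gt (K3.f24141 IH) (Lpe (K5.f24307 IH) (Lpr_et (f450633 IH) (Lpr_gt (f490776 IH) (Lpr_dt (f626432 IH) (Lpr_gt (f683169 IH) (Lpn v11113)))))))))))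
theorem f632892 : Led Lsl_ff (LP (LK LD1_c2 LD2_c19 LD3_c56)) = v4356 :=
  Lgr Lrot3 (Lpr_ft (f632889 IH) (Lpn v4356))
theorem f632896 : Led Lsl_gf v2030 = v4356 :=
  Lgr Lrot47 (Lpe (f507836 IH) (Lpr_af (K3.f107408 IH) (Lpr_ff (f632892 IH) (Lpn v4356))))
theorem f632895 : Led Lsl_et v2028 = v4356 :=
  Lgr Lrot69 (Lpe (f507828 IH) (Lpe (K4.f26167 IH) (Lpr_ff (K7.f107368 IH) (Lpe (f23484 IH) (Lpr_ff (f632892 IH) (Lpn v4356))))))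
theorem f632950 : Led Lsl_ff (LP (LK LD1_c2 LD2_c20 LD3_c2)) = v4366 :=
  Lgr Lrot3 (Lpr_ft (f632946 IH) (Lpn v4366))
theorem f632953 : Led Lsl_dt v2028 = v4366 :=
  Lgr Lrot60 (Lpe (f507828 IH) (Lpe (f129972 IH) (Lpr_ff (f632950 IH) (Lpn v4366))))
theorem f127115 : Led Lsl_af (LP (LK LD1_c1 LD2_c34 LD3_c1)) = (LP (LK LD1_c2 LD2_c20 LD3_c2)) :=
  Lgr Lrot50 (Lpr_et (K5.f126575 IH) (Lpr_at (K5.f127109 IH) (Lpr_et (f127087 IH) (Lpn (LP (LK LD1_c2 LD2_c20 LD3_c2))))))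
theorem f632952 : Led Lsl_at v2037 = v4366 :=
  Lgr Lrot66 (Lpe (f507862 IH) (Lpr_af (f127115 IH) (Lpr_ff (f632950 IH) (Lpn v4366))))
theorem f632956 : Led Lsl_gt v2035 = v4366 :=
  Lgr Lrot46 (Lpe (f507856 IH) (Lpr_ft (f507862 IH) (Lpr_at (f632952 IH) (Lpn v4366))))
theorem f683183 : Led Lsl_gf v8433 = v3617 :=
  Lgr Lrot138 (Lpe (f671212 IH) (Lpr_gt (f632956 IH) (Lpe (f632953 IH) (Lpr_et (f632895 IH) (Lpe (f632896 IH) (Lpr_ef (f671176 IH) (Lpr_dt (f683170 IH) (Lpr_gt (f683182 IH) (Lpe (f626444 IH) (Lpr_et (f626446 IH) (Lpn v3617)))))))))))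
def v13182 : LQ := Led Lsl_gt (LP (LK LD1_c4 LD2_c41 LD3_c3))
theorem f701553 : Led Lsl_gt (LP (LK LD1_c4 LD2_c41 LD3_c3)) = v13182 :=
  Lrfl
theorem f709169 : Led Lsl_et v4362 = v13182 :=
  Lgr Lrot122 (Lpr_dt (f633499 IH) (Lpq (f709168 IH) (Lpe (f653366 IH) (Lpr_df (f653371 IH) (Lpe (f653372 IH) (Lpe (f653173 IH) (Lpr_dt (f672258 IH) (Lpq (f708132 IH) (Lpe (f683183 IH) (Lpqs (f708732 IH) (Lpe (f632202 IH) (Lpr_et (f446125 IH) (Lpr_gt (f701553 IH) (Lpn v13182))))))))))))))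
theorem f709171 : Led Lsl_ef v4362 = v13182 :=
  Lgr Lrot88 (Lpr_et (f709169 IH) (Lpn v13182))
theorem f709297 : v13481 = v13182 :=
  (Llr Lrot26 (Lpe (f703233 IH) (Lpr_ff (f703246 IH) (Lpq (f709278 IH) (Lpr_gt (f446000 IH) (Lpr_gt (f701553 IH) (Lpn v13182))))))).symm
theorem f709298 : v4372 = v4362 :=
  Lefun (Lecon (Lfl_ef (f703235 IH)) (f709297 IH)) (Lfl_ef (f709171 IH))
theorem f709299 : v6438 = v4456 :=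
  Lefun (Lecon (Lfl_df (f708793 IH)) (f709298 IH)) (f633499 IH)
theorem f709300 : v13743 = (LP (LK LD1_c2 LD2_c21 LD3_c50)) :=
  Lefun (Lecon (f708334 IH) (f709299 IH)) (Lfl_ef (f633497 IH))
theorem f709302 : Led Lsl_at (LP (LK LD1_c4 LD2_c47 LD3_c45)) = (LP (LK LD1_c2 LD2_c21 LD3_c50)) :=
  Leop (Lpq (f709300 IH) (Lpe (f704614 IH) (Lpn (LP (LK LD1_c4 LD2_c47 LD3_c45)))))
theorem seed_743 : LEOK LG_a (LK LD1_c4 LD2_c47 LD3_c45) :=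
  Leoe_a (LK LD1_c4 LD2_c47 LD3_c45) (f709302 IH)
def v6442 : LQ := Led Lsl_ft (LP (LK LD1_c3 LD2_c21 LD3_c47))
theorem f653433 : Led Lsl_ft (LP (LK LD1_c3 LD2_c21 LD3_c47)) = v6442 :=
  Lrfl
theorem f653435 : Led Lsl_ff (LP (LK LD1_c3 LD2_c21 LD3_c47)) = v6442 :=
  Lgr Lrot3 (Lpr_ft (f653433 IH) (Lpn v6442))
theorem f653436 : Led Lsl_at v2199 = v6442 :=
  Lgr Lrot66 (Lpr_ff (f653425 IH) (Lpe (f653422 IH) (Lpr_ff (f653435 IH) (Lpn v6442))))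
theorem f708796 : Led Lsl_df v4369 = v6442 :=
  Lgr Lrot18 (Lpe (f632975 IH) (Lpq (f708791 IH) (Lpe (f672267 IH) (Lpr_at (f653436 IH) (Lpn v6442)))))
theorem f708016 : Led Lsl_df v4361 = v6427 :=
  Lgr Lrot38 (Lpr_dt (f708008 IH) (Lpn v6427))
theorem f709362 : v6442 = v6427 :=
  (Llr Lrot26 (Lpe (f653436 IH) (Lpr_ff (f653425 IH) (Lpqs (f709299 IH) (Lpq (f709168 IH) (Lpe (f653366 IH) (Lpr_gt (f653365 IH) (Lpn v6427)))))))).symm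
theorem f709363 : v4369 = v4361 :=
  Lefun (Lecon (Lfl_df (f708796 IH)) (f709362 IH)) (Lfl_df (f708016 IH))
theorem f709364 : v13476 = (LP (LK LD1_c6 LD2_c43 LD3_c45)) :=
  Lefun (Lecon (f703220 IH) (f709363 IH)) (Lfl_ef (f632924 IH))
theorem f709365 : Led Lsl_at (LP (LK LD1_c6 LD2_c43 LD3_c45)) = (LP (LK LD1_c4 LD2_c44 LD3_c21)) :=
  Leop (Lpr_af (f703218 IH) (Lpqs (f709364 IH) (Lpn (LP (LK LD1_c6 LD2_c43 LD3_c45)))))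
theorem seed_744 : LEOK LG_a (LK LD1_c6 LD2_c43 LD3_c45) :=
  Leoe_a (LK LD1_c6 LD2_c43 LD3_c45) (f709365 IH)
theorem f709367 : Led Lsl_ft (LP (LK LD1_c6 LD2_c43 LD3_c45)) = (LP (LK LD1_c12 LD2_c51 LD3_c26)) :=
  Leop (Lpr_ff (f709274 IH) (Lpqs (f709364 IH) (Lpn (LP (LK LD1_c6 LD2_c43 LD3_c45)))))
theorem seed_745 : LEOK LG_f (LK LD1_c6 LD2_c43 LD3_c45) :=
  Leoe_f (LK LD1_c6 LD2_c43 LD3_c45) (f709367 IH)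
theorem f502993 : Led Lsl_dt (LP (LK LD1_c12 LD2_c4 LD3_c30)) = (LP (LK LD1_c6 LD2_c12 LD3_c34)) :=
  Lre_d IH (LK LD1_c12 LD2_c4 LD3_c30) (LK LD1_c6 LD2_c12 LD3_c34) Lrfl Lrfl
theorem f78126 : Led Lsl_et (LP (LK LD1_c1 LD2_c8 LD3_c5)) = (LP (LK LD1_c0 LD2_c31 LD3_c12)) :=
  Lre_e IH (LK LD1_c1 LD2_c8 LD3_c5) (LK LD1_c0 LD2_c31 LD3_c12) Lrfl Lrfl
theorem f708263 : Led Lsl_gt v8769 = v5911 :=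
  Lgr Lrot137 (Lpr_ef (f708261 IH) (Lpe (f704817 IH) (Lpe (f78128 IH) (Lpe (K6.f78127 IH) (Lpr_et (f78126 IH) (Lpe (K2.f78109 IH) (Lpe (K4.f78125 IH) (Lpr_dt (K5.f126576 IH) (Lpr_gf (f507859 IH) (Lpr_df (f650035 IH) (Lpn v5911)))))))))))
theorem f414545 : Led Lsl_gt (LP (LK LD1_c3 LD2_c21 LD3_c46)) = (LP (LK LD1_c6 LD2_c47 LD3_c13)) :=
  Lre_g IH (LK LD1_c3 LD2_c21 LD3_c46) (LK LD1_c6 LD2_c47 LD3_c13) Lrfl Lrfl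
theorem f416197 : Led Lsl_dt (LP (LK LD1_c6 LD2_c47 LD3_c13)) = (LP (LK LD1_c12 LD2_c57 LD3_c29)) :=
  Lre_d IH (LK LD1_c6 LD2_c47 LD3_c13) (LK LD1_c12 LD2_c57 LD3_c29) Lrfl Lrfl
theorem f709460 : Led Lsl_gf (LP (LK LD1_c12 LD2_c4 LD3_c30)) = (LP (LK LD1_c12 LD2_c57 LD3_c29)) :=
  Lgr Lrot143 (Lpr_dt (f502993 IH) (Lpe (f504150 IH) (Lpr_df (K49.f646887 IH) (Lpq (f708737 IH) (Lpe (f708263 IH) (Lpe (f672246 IH) (Lpe (f509572 IH) (Lpe (K24.f416182 IH) (Lpr_gt (f414545 IH) (Lpr_dt (f416197 IH) (Lpn (LP (LK LD1_c12 LD2_c57 LD3_c29)))))))))))))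
theorem f709461 : Led Lsl_gt (LP (LK LD1_c12 LD2_c57 LD3_c29)) = (LP (LK LD1_c12 LD2_c4 LD3_c30)) :=
  Leop (Lpr_gf (f709460 IH) (Lpn (LP (LK LD1_c12 LD2_c57 LD3_c29))))
theorem seed_746 : LEOK LG_g (LK LD1_c12 LD2_c57 LD3_c29) :=
  Leoe_g (LK LD1_c12 LD2_c57 LD3_c29) (f709461 IH)
def v3105 : LQ := Led Lsl_gt v512
def v9885 : LQ := Led Lsl_et v3105
theorem f677939 : Led Lsl_et v3105 = v9885 :=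
  Lrfl
theorem f677940 : Led Lsl_ef v3105 = v9885 :=
  Lgr Lrot88 (Lpr_et (f677939 IH) (Lpn v9885))
theorem f623888 : Led Lsl_gt v512 = v3105 :=
  Lrfl
theorem f92231 : Led Lsl_gt (LP (LK LD1_c4 LD2_c47 LD3_c60)) = (LP (LK LD1_c2 LD2_c21 LD3_c52)) :=
  Lre_g IH (LK LD1_c4 LD2_c47 LD3_c60) (LK LD1_c2 LD2_c21 LD3_c52) Lrfl Lrfl
theorem f677941 : Led Lsl_df (LP (LK LD1_c4 LD2_c47 LD3_c60)) = v9885 :=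
  Lgr Lrot170 (Lpr_gt (f92231 IH) (Lpe (K6.f78127 IH) (Lpr_et (f78126 IH) (Lpr_gt (K3.f109972 IH) (Lpr_dt (K4.f23486 IH) (Lpe (K7.f156454 IH) (Lpe (f24304 IH) (Lpr_et (f453715 IH) (Lpr_gt (f623888 IH) (Lpr_ef (f677940 IH) (Lpn v9885)))))))))))
theorem f677944 : Led Lsl_dt (LP (LK LD1_c4 LD2_c47 LD3_c60)) = v9885 :=
  Lgr Lrot42 (Lpr_df (f677941 IH) (Lpn v9885))
def v13783 : LQ := Led Lsl_ft (LP (LK LD1_c4 LD2_c47 LD3_c59))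
theorem f704819 : Led Lsl_ft (LP (LK LD1_c4 LD2_c47 LD3_c59)) = v13783 :=
  Lrfl
def v13780 : LQ := Led Lsl_at (LP (LK LD1_c4 LD2_c47 LD3_c59))
theorem f704807 : Led Lsl_at (LP (LK LD1_c4 LD2_c47 LD3_c59)) = v13780 :=
  Lrfl
theorem f704808 : Led Lsl_af (LP (LK LD1_c4 LD2_c47 LD3_c59)) = v13780 :=
  Lgr Lrot0 (Lpr_at (f704807 IH) (Lpn v13780))
theorem f704809 : Led Lsl_ft (LP (LK LD1_c4 LD2_c47 LD3_c60)) = v13780 :=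
  Lgr Lrot2 (Lpr_gt (f92231 IH) (Lpr_gt (f78128 IH) (Lpr_af (f704808 IH) (Lpn v13780))))
theorem f704820 : Led Lsl_af (LP (LK LD1_c4 LD2_c47 LD3_c60)) = v13783 :=
  Lgr Lrot45 (Lpr_ft (f704809 IH) (Lpe (f704808 IH) (Lpr_ft (f704819 IH) (Lpn v13783))))
def v11100 : LQ := Led Lsl_et v3608
theorem f683131 : Led Lsl_et v3608 = v11100 :=
  Lrfl
def v11096 : LQ := Led Lsl_gf v3608
theorem f683113 : Led Lsl_gf v3608 = v11096 :=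
  Lrfl
def v3613 : LQ := Led Lsl_ft v967
theorem f626436 : Led Lsl_ft v967 = v3613 :=
  Lrfl
theorem f626438 : Led Lsl_ff v967 = v3613 :=
  Lgr Lrot3 (Lpr_ft (f626436 IH) (Lpn v3613))
theorem f683114 : Led Lsl_gt v3613 = v11096 :=
  Lgr Lrot5 (Lpe (f626438 IH) (Lpr_at (f626424 IH) (Lpr_gf (f683113 IH) (Lpn v11096))))
def v11122 : LQ := Led Lsl_et v3613
theorem f683195 : Led Lsl_et v3613 = v11122 :=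
  Lrfl
theorem f683197 : Led Lsl_ef v3613 = v11122 :=
  Lgr Lrot88 (Lpr_et (f683195 IH) (Lpn v11122))
def v9890 : LQ := Led Lsl_et v3106
theorem f677962 : Led Lsl_et v3106 = v9890 :=
  Lrfl
theorem f677963 : Led Lsl_ef v3106 = v9890 :=
  Lgr Lrot88 (Lpr_et (f677962 IH) (Lpn v9890))
def v11135 : LQ := Led Lsl_ft v3617
theorem f683227 : Led Lsl_ft v3617 = v11135 :=
  Lrfl
theorem f709487 : Led Lsl_at v11135 = v8769 :=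
  Lgr Lrot26 (Lpe (f683227 IH) (Lpe (f683183 IH) (Lpqs (f708732 IH) (Lpr_gt (f708260 IH) (Lpn v8769)))))
theorem f626427 : Led Lsl_ff v968 = v3608 :=
  Lgr Lrot3 (Lpr_ft (f626426 IH) (Lpn v3608))
theorem f626439 : Led Lsl_at v968 = v3613 :=
  Lgr Lrot66 (Lpr_ff (f626427 IH) (Lpe (f626424 IH) (Lpr_ff (f626438 IH) (Lpn v3613))))
theorem f683196 : Led Lsl_af v3617 = v11122 :=
  Lgr Lrot50 (Lpe (f626447 IH) (Lpr_at (f626439 IH) (Lpr_et (f683195 IH) (Lpn v11122))))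
theorem f709489 : Led Lsl_ff v11122 = v8769 :=
  Lgr Lrot30 (Lpe (f683196 IH) (Lpr_ft (f683227 IH) (Lpr_at (f709487 IH) (Lpn v8769))))
theorem f677961 : Led Lsl_et v3618 = v9889 :=
  Lgr Lrot87 (Lpr_ef (f677960 IH) (Lpn v9889))
theorem f708304 : Led Lsl_dt v9890 = v7923 :=
  Lgr Lrot77 (Lpe (f677962 IH) (Lpr_df (f677959 IH) (Lpe (f677961 IH) (Lpr_df (f683238 IH) (Lpqs (f708281 IH) (Lpr_ef (f708302 IH) (Lpn v7923)))))))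
theorem f709491 : v11122 = v9890 :=
  (Llr Lrot54 (Lpr_ff (f709489 IH) (Lpe (f672246 IH) (Lpr_ff (f672252 IH) (Lpq (f708301 IH) (Lpe (f708304 IH) (Lpn v9890))))))).symm
theorem f709494 : v3613 = v3106 :=
  Lefun (Lecon (Lfl_ef (f683197 IH)) (f709491 IH)) (Lfl_ef (f677963 IH))
theorem f709495 : v11096 = v512 :=
  Lefun (Lecon (f683114 IH) (f709494 IH)) (Lfl_gf (f623889 IH))
theorem f709502 : v3608 = v3105 :=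
  Lefun (Lecon (Lfl_gf (f683113 IH)) (f709495 IH)) (f623888 IH)
theorem f709506 : v11100 = v9885 :=
  Lefun (Lecon (f683131 IH) (f709502 IH)) (f677939 IH)
def v3612 : LQ := Led Lsl_et v967
theorem f626434 : Led Lsl_et v967 = v3612 :=
  Lrfl
theorem f626435 : Led Lsl_ef v967 = v3612 :=
  Lgr Lrot88 (Lpr_et (f626434 IH) (Lpn v3612))
theorem f683132 : Led Lsl_af v3612 = v11100 :=
  Lgr Lrot50 (Lpe (f626435 IH) (Lpr_at (f626424 IH) (Lpr_et (f683131 IH) (Lpn v11100))))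
def v11120 : LQ := Led Lsl_dt v3612
theorem f683188 : Led Lsl_dt v3612 = v11120 :=
  Lrfl
theorem f709507 : v13783 = v11120 :=
  (Llr Lrot117 (Lpe (f704820 IH) (Lpr_dt (f677944 IH) (Lpq (f709506 IH) (Lpe (f683132 IH) (Lpr_dt (f683188 IH) (Lpn v11120))))))).symm
theorem f704821 : Led Lsl_ff (LP (LK LD1_c4 LD2_c47 LD3_c59)) = v13783 :=
  Lgr Lrot3 (Lpr_ft (f704819 IH) (Lpn v13783))
theorem f111023 : Led Lsl_ff (LP (LK LD1_c1 LD2_c7 LD3_c15)) = (LP (LK LD1_c0 LD2_c43 LD3_c32)) :=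
  Lgr Lrot23 (Lpr_ct (K3.f78114 IH) (Lpr_ft (K4.f111011 IH) (Lpr_ct (K5.f24342 IH) (Lpn (LP (LK LD1_c0 LD2_c43 LD3_c32))))))
theorem f120386 : Led Lsl_af (LP (LK LD1_c0 LD2_c43 LD3_c32)) = (LP (LK LD1_c1 LD2_c7 LD3_c12)) :=
  Lgr Lrot45 (Lpe (f111023 IH) (Lpr_at (K4.f120380 IH) (Lpr_ft (K8.f107466 IH) (Lpn (LP (LK LD1_c1 LD2_c7 LD3_c12))))))
theorem f135801 : Led Lsl_gt (LP (LK LD1_c1 LD2_c8 LD3_c3)) = (LP (LK LD1_c0 LD2_c43 LD3_c32)) :=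
  Lgr Lrot46 (Lpr_gf (K6.f135796 IH) (Lpr_ft (K8.f107466 IH) (Lpe (f120386 IH) (Lpn (LP (LK LD1_c0 LD2_c43 LD3_c32))))))
theorem f683191 : Led Lsl_gf (LP (LK LD1_c4 LD2_c47 LD3_c46)) = v11120 :=
  Lgr Lrot145 (Lpe (K6.f113291 IH) (Lpr_et (K6.f113308 IH) (Lpr_gt (f135801 IH) (Lpr_dt (K4.f24313 IH) (Lpr_gt (K3.f24141 IH) (Lpe (K5.f24307 IH) (Lpr_et (f450633 IH) (Lpr_gt (f490776 IH) (Lpr_ef (f626435 IH) (Lpr_dt (f683188 IH) (Lpn v11120)))))))))))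
theorem f709508 : v13780 = (LP (LK LD1_c6 LD2_c43 LD3_c40)) :=
  (Llr Lrot26 (Lpe (f704807 IH) (Lpr_ff (f704821 IH) (Lpqs (f709507 IH) (Lpe (f683191 IH) (Lpe (K50.f209592 IH) (Lpn (LP (LK LD1_c6 LD2_c43 LD3_c40))))))))).symm
theorem f709509 : Led Lsl_at (LP (LK LD1_c6 LD2_c43 LD3_c40)) = (LP (LK LD1_c4 LD2_c47 LD3_c59)) :=
  Leop (Lpr_af (f704808 IH) (Lpqs (f709508 IH) (Lpn (LP (LK LD1_c6 LD2_c43 LD3_c40)))))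
theorem seed_747 : LEOK LG_a (LK LD1_c6 LD2_c43 LD3_c40) :=
  Leoe_a (LK LD1_c6 LD2_c43 LD3_c40) (f709509 IH)
def v5750 : LQ := Led Lsl_et (LP (LK LD1_c3 LD2_c12 LD3_c50))
theorem f649191 : Led Lsl_et (LP (LK LD1_c3 LD2_c12 LD3_c50)) = v5750 :=
  Lrfl
theorem f649192 : Led Lsl_ef (LP (LK LD1_c3 LD2_c12 LD3_c50)) = v5750 :=
  Lgr Lrot88 (Lpr_et (f649191 IH) (Lpn v5750))
theorem f66911 : Led Lsl_gt (LP (LK LD1_c3 LD2_c12 LD3_c50)) = (LP (LK LD1_c6 LD2_c29 LD3_c38)) :=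
  Lre_g IH (LK LD1_c3 LD2_c12 LD3_c50) (LK LD1_c6 LD2_c29 LD3_c38) Lrfl Lrfl
def v5363 : LQ := Led Lsl_gf (LP (LK LD1_c3 LD2_c6 LD3_c53))
theorem f647259 : Led Lsl_gf (LP (LK LD1_c3 LD2_c6 LD3_c53)) = v5363 :=
  Lrfl
theorem f647260 : Led Lsl_gt (LP (LK LD1_c3 LD2_c6 LD3_c58)) = v5363 :=
  Lgr Lrot5 (Lpr_ft (K2.f66921 IH) (Lpr_at (K2.f66962 IH) (Lpr_gf (f647259 IH) (Lpn v5363))))
theorem f649193 : Led Lsl_df v5363 = v5750 :=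
  Lgr Lrot132 (Lpe (f647260 IH) (Lpe (K2.f76838 IH) (Lpe (K2.f76863 IH) (Lpe (K2.f76884 IH) (Lpr_dt (K2.f76845 IH) (Lpe (K2.f76825 IH) (Lpr_df (K2.f76815 IH) (Lpr_et (K1.f66904 IH) (Lpe (f66911 IH) (Lpr_ef (f649192 IH) (Lpn v5750)))))))))))
theorem f664656 : Led Lsl_bf (LP (LK LD1_c3 LD2_c45 LD3_c21)) = v7343 :=
  Lgr Lrot24 (Lpr_bt (f664654 IH) (Lpn v7343))
theorem f129978 : Led Lsl_gt (LP (LK LD1_c9 LD2_c21 LD3_c6)) = (LP (LK LD1_c4 LD2_c44 LD3_c7)) :=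
  Lre_g IH (LK LD1_c9 LD2_c21 LD3_c6) (LK LD1_c4 LD2_c44 LD3_c7) Lrfl Lrfl
theorem f650079 : Led Lsl_gf (LP (LK LD1_c9 LD2_c21 LD3_c6)) = v5922 :=
  Lgr Lrot47 (Lpr_gt (f129978 IH) (Lpr_af (f129963 IH) (Lpr_ff (f650076 IH) (Lpn v5922))))
theorem f709555 : Led Lsl_ct v7343 = (LP (LK LD1_c9 LD2_c21 LD3_c6)) :=
  Lgr Lrot63 (Lpe (f664656 IH) (Lpr_gt (K46.f93354 IH) (Lpr_bf (K34.f208999 IH) (Lpe (K48.f209089 IH) (Lpr_gt (K48.f646836 IH) (Lpe (K48.f646832 IH) (Lpr_bt (K49.f632199 IH) (Lpe (K49.f632193 IH) (Lpr_ct (f502982 IH) (Lpq (f708095 IH) (Lpe (f650079 IH) (Lpn (LP (LK LD1_c9 LD2_c21 LD3_c6))))))))))))))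
theorem f709558 : Led Lsl_cf v7343 = (LP (LK LD1_c9 LD2_c21 LD3_c6)) :=
  Lgr Lrot11 (Lpr_ct (f709555 IH) (Lpn (LP (LK LD1_c9 LD2_c21 LD3_c6))))
theorem f709560 : Led Lsl_at (LP (LK LD1_c6 LD2_c33 LD3_c27)) = (LP (LK LD1_c9 LD2_c21 LD3_c6)) :=
  Lgr Lrot107 (Lpe (f708699 IH) (Lpr_af (f664655 IH) (Lpr_cf (f709558 IH) (Lpn (LP (LK LD1_c9 LD2_c21 LD3_c6))))))
theorem f709571 : Led Lsl_ff (LP (LK LD1_c6 LD2_c33 LD3_c27)) = (LP (LK LD1_c9 LD2_c21 LD3_c5)) :=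
  Lgr Lrot52 (Lpr_at (f709560 IH) (Lpr_gf (f650079 IH) (Lpe (f703044 IH) (Lpn (LP (LK LD1_c9 LD2_c21 LD3_c5))))))
theorem f709573 : Led Lsl_ft (LP (LK LD1_c6 LD2_c33 LD3_c27)) = (LP (LK LD1_c9 LD2_c21 LD3_c5)) :=
  Lgr Lrot48 (Lpr_ff (f709571 IH) (Lpn (LP (LK LD1_c9 LD2_c21 LD3_c5))))
theorem f439940 : Led Lsl_gt (LP (LK LD1_c3 LD2_c14 LD3_c61)) = (LP (LK LD1_c6 LD2_c33 LD3_c26)) :=
  Lre_g IH (LK LD1_c3 LD2_c14 LD3_c61) (LK LD1_c6 LD2_c33 LD3_c26) Lrfl Lrfl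
theorem f709576 : Led Lsl_af (LP (LK LD1_c6 LD2_c33 LD3_c26)) = (LP (LK LD1_c9 LD2_c21 LD3_c5)) :=
  Lgr Lrot31 (Lpe (f439940 IH) (Lpe (f126586 IH) (Lpr_ft (f709573 IH) (Lpn (LP (LK LD1_c9 LD2_c21 LD3_c5))))))
theorem f709569 : Led Lsl_af (LP (LK LD1_c6 LD2_c33 LD3_c27)) = (LP (LK LD1_c9 LD2_c21 LD3_c6)) :=
  Lgr Lrot0 (Lpr_at (f709560 IH) (Lpn (LP (LK LD1_c9 LD2_c21 LD3_c6))))
theorem f709580 : Led Lsl_ft (LP (LK LD1_c6 LD2_c33 LD3_c26)) = (LP (LK LD1_c9 LD2_c21 LD3_c6)) :=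
  Lgr Lrot101 (Lpr_af (f709576 IH) (Lpe (f709573 IH) (Lpr_af (f709569 IH) (Lpn (LP (LK LD1_c9 LD2_c21 LD3_c6))))))
theorem f709584 : Led Lsl_ff (LP (LK LD1_c6 LD2_c33 LD3_c26)) = (LP (LK LD1_c9 LD2_c21 LD3_c6)) :=
  Lgr Lrot3 (Lpr_ft (f709580 IH) (Lpn (LP (LK LD1_c9 LD2_c21 LD3_c6))))
theorem f708695 : Led Lsl_ff v7343 = (LP (LK LD1_c12 LD2_c0 LD3_c3)) :=
  Lgr Lrot52 (Lpe (f664655 IH) (Lpr_gf (f708693 IH) (Lpr_gf (f440104 IH) (Lpn (LP (LK LD1_c12 LD2_c0 LD3_c3))))))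
theorem f709586 : Led Lsl_ct (LP (LK LD1_c6 LD2_c33 LD3_c26)) = (LP (LK LD1_c12 LD2_c0 LD3_c3)) :=
  Lgr Lrot40 (Lpr_ff (f709584 IH) (Lpe (f709555 IH) (Lpr_ff (f708695 IH) (Lpn (LP (LK LD1_c12 LD2_c0 LD3_c3))))))
theorem f709588 : Led Lsl_af (LP (LK LD1_c6 LD2_c28 LD3_c17)) = (LP (LK LD1_c12 LD2_c0 LD3_c3)) :=
  Lgr Lrot68 (Lpe (f708461 IH) (Lpe (f709576 IH) (Lpr_ct (f709586 IH) (Lpn (LP (LK LD1_c12 LD2_c0 LD3_c3))))))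
theorem f708658 : Led Lsl_bt (LP (LK LD1_c12 LD2_c0 LD3_c3)) = (LP (LK LD1_c6 LD2_c11 LD3_c7)) :=
  Lgr Lrot127 (Lpr_bf (f708656 IH) (Lpn (LP (LK LD1_c6 LD2_c11 LD3_c7))))
theorem f708713 : Led Lsl_ct (LP (LK LD1_c12 LD2_c0 LD3_c3)) = (LP (LK LD1_c6 LD2_c33 LD3_c26)) :=
  Lgr Lrot10 (Lpr_bt (f708658 IH) (Lpqs (K46.f649454 IH) (Lpr_gt (K46.f649363 IH) (Lpr_ct (K48.f130984 IH) (Lpe (f527814 IH) (Lpe (K34.f139986 IH) (Lpr_bt (f139966 IH) (Lpqs (K48.f663184 IH) (Lpqs (f708711 IH) (Lpe (f650062 IH) (Lpe (f126578 IH) (Lpr_ct (f126579 IH) (Lpr_gt (f439940 IH) (Lpn (LP (LK LD1_c6 LD2_c33 LD3_c26))))))))))))))))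
theorem f709582 : Led Lsl_ff (LP (LK LD1_c12 LD2_c0 LD3_c3)) = v7343 :=
  Lgr Lrot23 (Lpr_ct (f708713 IH) (Lpr_ft (f709580 IH) (Lpe (f709558 IH) (Lpn v7343))))
theorem f664638 : Led Lsl_ff (LP (LK LD1_c3 LD2_c45 LD3_c21)) = v7339 :=
  Lgr Lrot3 (Lpr_ft (f664637 IH) (Lpn v7339))
theorem f664652 : Led Lsl_at (LP (LK LD1_c3 LD2_c45 LD3_c21)) = v7342 :=
  Lgr Lrot66 (Lpr_ff (f664638 IH) (Lpe (f664635 IH) (Lpr_ff (f664651 IH) (Lpn v7342))))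
theorem f646450 : Led Lsl_bt (LP (LK LD1_c3 LD2_c6 LD3_c56)) = (LP (LK LD1_c3 LD2_c45 LD3_c20)) :=
  Lgr Lrot127 (Lpr_bf (K46.f646446 IH) (Lpn (LP (LK LD1_c3 LD2_c45 LD3_c20))))
theorem f664650 : Led Lsl_bf v5371 = v7342 :=
  Lgr Lrot61 (Lpe (f647284 IH) (Lpr_bt (f646450 IH) (Lpr_ft (f664648 IH) (Lpn v7342))))
theorem f647283 : Led Lsl_af (LP (LK LD1_c3 LD2_c6 LD3_c57)) = v5371 :=
  Lgr Lrot45 (Lpr_ft (f647277 IH) (Lpe (f647276 IH) (Lpr_ft (f647282 IH) (Lpn v5371))))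
theorem f664657 : Led Lsl_at (LP (LK LD1_c6 LD2_c19 LD3_c4)) = v7343 :=
  Lgr Lrot67 (Lpe (f647279 IH) (Lpr_af (f647283 IH) (Lpr_bf (f664650 IH) (Lpe (f664652 IH) (Lpr_bf (f664656 IH) (Lpn v7343))))))
theorem f709633 : Led Lsl_ft (LP (LK LD1_c6 LD2_c28 LD3_c17)) = (LP (LK LD1_c6 LD2_c19 LD3_c4)) :=
  Lgr Lrot101 (Lpr_af (f709588 IH) (Lpr_ff (f709582 IH) (Lpe (f664657 IH) (Lpn (LP (LK LD1_c6 LD2_c19 LD3_c4))))))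
def v5362 : LQ := Led Lsl_gt (LP (LK LD1_c3 LD2_c6 LD3_c53))
theorem f647257 : Led Lsl_gt (LP (LK LD1_c3 LD2_c6 LD3_c53)) = v5362 :=
  Lrfl
theorem f647258 : Led Lsl_gf (LP (LK LD1_c3 LD2_c6 LD3_c58)) = v5362 :=
  Lgr Lrot76 (Lpe (K2.f66924 IH) (Lpe (K1.f66902 IH) (Lpr_gt (f647257 IH) (Lpn v5362))))
theorem f709482 : Led Lsl_bf v5362 = (LP (LK LD1_c6 LD2_c28 LD3_c17)) :=
  Lgr Lrot156 (Lpe (f647258 IH) (Lpe (K1.f66926 IH) (Lpr_ct (K16.f73653 IH) (Lpe (K16.f139922 IH) (Lpe (K9.f59839 IH) (Lpr_bt (K48.f139943 IH) (Lpr_gt (f502972 IH) (Lpq (f674274 IH) (Lpqs (f708033 IH) (Lpr_ct (f129967 IH) (Lpr_gt (f129912 IH) (Lpr_cf (f708461 IH) (Lpn (LP (LK LD1_c6 LD2_c28 LD3_c17)))))))))))))))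
theorem f709485 : Led Lsl_bt v5362 = (LP (LK LD1_c6 LD2_c28 LD3_c17)) :=
  Lgr Lrot127 (Lpr_bf (f709482 IH) (Lpn (LP (LK LD1_c6 LD2_c28 LD3_c17))))
theorem f709639 : v5362 = v5369 :=
  (Llr Lrot61 (Lpr_bt (f709485 IH) (Lpr_ft (f709633 IH) (Lpr_bt (f66994 IH) (Lpr_ft (f647277 IH) (Lpn v5369)))))).symm
theorem f709640 : v5371 = v5363 :=
  (Llr Lrot26 (Lpe (f647285 IH) (Lpr_ff (f647278 IH) (Lpq (f709639 IH) (Lpe (f647258 IH) (Lpr_gt (f647260 IH) (Lpn v5363))))))).symm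
theorem f66991 : Led Lsl_dt (LP (LK LD1_c3 LD2_c6 LD3_c57)) = (LP (LK LD1_c6 LD2_c19 LD3_c5)) :=
  Lre_d IH (LK LD1_c3 LD2_c6 LD3_c57) (LK LD1_c6 LD2_c19 LD3_c5) Lrfl Lrfl
theorem f709665 : Led Lsl_af v5750 = (LP (LK LD1_c6 LD2_c19 LD3_c5)) :=
  Lgr Lrot117 (Lpe (f649193 IH) (Lpq (f709640 IH) (Lpe (f647283 IH) (Lpr_dt (f66991 IH) (Lpn (LP (LK LD1_c6 LD2_c19 LD3_c5)))))))
def v5748 : LQ := Led Lsl_at (LP (LK LD1_c3 LD2_c12 LD3_c50))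
theorem f649184 : Led Lsl_at (LP (LK LD1_c3 LD2_c12 LD3_c50)) = v5748 :=
  Lrfl
theorem f90586 : Led Lsl_ef (LP (LK LD1_c6 LD2_c19 LD3_c5)) = (LP (LK LD1_c6 LD2_c29 LD3_c36)) :=
  Lgr Lrot88 (Lpr_et (K2.f90584 IH) (Lpn (LP (LK LD1_c6 LD2_c29 LD3_c36))))
theorem f709667 : v5748 = (LP (LK LD1_c6 LD2_c29 LD3_c36)) :=
  (Llr Lrot80 (Lpe (f649184 IH) (Lpr_ef (f649192 IH) (Lpr_af (f709665 IH) (Lpr_ef (f90586 IH) (Lpn (LP (LK LD1_c6 LD2_c29 LD3_c36)))))))).symm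
theorem f649185 : Led Lsl_af (LP (LK LD1_c3 LD2_c12 LD3_c50)) = v5748 :=
  Lgr Lrot0 (Lpr_at (f649184 IH) (Lpn v5748))
theorem f709668 : Led Lsl_at (LP (LK LD1_c6 LD2_c29 LD3_c36)) = (LP (LK LD1_c3 LD2_c12 LD3_c50)) :=
  Leop (Lpr_af (f649185 IH) (Lpqs (f709667 IH) (Lpn (LP (LK LD1_c6 LD2_c29 LD3_c36)))))
theorem seed_748 : LEOK LG_a (LK LD1_c6 LD2_c29 LD3_c36) :=
  Leoe_a (LK LD1_c6 LD2_c29 LD3_c36) (f709668 IH)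
theorem f78499 : Led Lsl_dt (LP (LK LD1_c0 LD2_c31 LD3_c9)) = (LP (LK LD1_c1 LD2_c5 LD3_c39)) :=
  Lre_d IH (LK LD1_c0 LD2_c31 LD3_c9) (LK LD1_c1 LD2_c5 LD3_c39) Lrfl Lrfl
theorem f22878 : Led Lsl_dt (LP (LK LD1_c2 LD2_c17 LD3_c25)) = (LP (LK LD1_c4 LD2_c40 LD3_c47)) :=
  Lre_d IH (LK LD1_c2 LD2_c17 LD3_c25) (LK LD1_c4 LD2_c40 LD3_c47) Lrfl Lrfl
theorem f633371 : Led Lsl_ct (LP (LK LD1_c9 LD2_c16 LD3_c60)) = (LP (LK LD1_c4 LD2_c40 LD3_c47)) :=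
  Lre_c IH (LK LD1_c9 LD2_c16 LD3_c60) (LK LD1_c4 LD2_c40 LD3_c47) Lrfl Lrfl
theorem f633370 : Led Lsl_dt (LP (LK LD1_c17 LD2_c12 LD3_c4)) = (LP (LK LD1_c9 LD2_c16 LD3_c60)) :=
  Lre_d IH (LK LD1_c17 LD2_c12 LD3_c4) (LK LD1_c9 LD2_c16 LD3_c60) Lrfl Lrfl
theorem f708645 : Led Lsl_gf (LP (LK LD1_c17 LD2_c12 LD3_c4)) = (LP (LK LD1_c9 LD2_c23 LD3_c55)) :=
  Lgr Lrot154 (Lpr_dt (f633370 IH) (Lpr_ct (f633371 IH) (Lpe (f22878 IH) (Lpe (K50.f22877 IH) (Lpe (f78499 IH) (Lpe (K35.f140007 IH) (Lpr_ct (K35.f495052 IH) (Lpr_gt (f633369 IH) (Lpqs (f708582 IH) (Lpr_dt (K4.f103013 IH) (Lpn (LP (LK LD1_c9 LD2_c23 LD3_c55)))))))))))))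
def v13573 : LQ := Led Lsl_gt (LP (LK LD1_c4 LD2_c45 LD3_c37))
theorem f703729 : Led Lsl_gt (LP (LK LD1_c4 LD2_c45 LD3_c37)) = v13573 :=
  Lrfl
theorem f708583 : (LP (LK LD1_c2 LD2_c21 LD3_c30)) = v13573 :=
  Lefun (Lecon (Lfl_gf (f633354 IH)) (f708582 IH)) (f703729 IH)
theorem f495046 : Led Lsl_ct (LP (LK LD1_c2 LD2_c21 LD3_c30)) = (LP (LK LD1_c1 LD2_c7 LD3_c58)) :=
  Lre_c IH (LK LD1_c2 LD2_c21 LD3_c30) (LK LD1_c1 LD2_c7 LD3_c58) Lrfl Lrfl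
theorem f58322 : Led Lsl_gt (LP (LK LD1_c1 LD2_c7 LD3_c58)) = (LP (LK LD1_c2 LD2_c20 LD3_c50)) :=
  Lre_g IH (LK LD1_c1 LD2_c7 LD3_c58) (LK LD1_c2 LD2_c20 LD3_c50) Lrfl Lrfl
theorem f624491 : Led Lsl_dt (LP (LK LD1_c9 LD2_c23 LD3_c38)) = (LP (LK LD1_c4 LD2_c45 LD3_c25)) :=
  Lre_d IH (LK LD1_c9 LD2_c23 LD3_c38) (LK LD1_c4 LD2_c45 LD3_c25) Lrfl Lrfl
theorem f633355 : Led Lsl_ct (LP (LK LD1_c17 LD2_c11 LD3_c60)) = (LP (LK LD1_c9 LD2_c23 LD3_c38)) :=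
  Lre_c IH (LK LD1_c17 LD2_c11 LD3_c60) (LK LD1_c9 LD2_c23 LD3_c38) Lrfl Lrfl
theorem f633356 : Led Lsl_gt (LP (LK LD1_c9 LD2_c27 LD3_c18)) = (LP (LK LD1_c17 LD2_c11 LD3_c60)) :=
  Lre_g IH (LK LD1_c9 LD2_c27 LD3_c18) (LK LD1_c17 LD2_c11 LD3_c60) Lrfl Lrfl
theorem f709809 : Led Lsl_ct (LP (LK LD1_c17 LD2_c12 LD3_c4)) = (LP (LK LD1_c9 LD2_c27 LD3_c18)) :=
  Lgr Lrot152 (Lpr_gf (f708645 IH) (Lpe (K4.f103013 IH) (Lpr_gt (f703729 IH) (Lpq (f708583 IH) (Lpr_ct (f495046 IH) (Lpr_gt (f58322 IH) (Lpr_ct (K49.f66042 IH) (Lpe (f624491 IH) (Lpe (f633355 IH) (Lpe (f633356 IH) (Lpn (LP (LK LD1_c9 LD2_c27 LD3_c18)))))))))))))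
theorem f632154 : Led Lsl_dt (LP (LK LD1_c9 LD2_c16 LD3_c60)) = (LP (LK LD1_c17 LD2_c12 LD3_c4)) :=
  Lre_d IH (LK LD1_c9 LD2_c16 LD3_c60) (LK LD1_c17 LD2_c12 LD3_c4) Lrfl Lrfl
theorem f22879 : Led Lsl_ct (LP (LK LD1_c4 LD2_c40 LD3_c47)) = (LP (LK LD1_c9 LD2_c16 LD3_c60)) :=
  Lre_c IH (LK LD1_c4 LD2_c40 LD3_c47) (LK LD1_c9 LD2_c16 LD3_c60) Lrfl Lrfl
def v4241 : LQ := Led Lsl_ft (LP (LK LD1_c2 LD2_c17 LD3_c25))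
theorem f632150 : Led Lsl_ft (LP (LK LD1_c2 LD2_c17 LD3_c25)) = v4241 :=
  Lrfl
theorem f632151 : Led Lsl_af (LP (LK LD1_c2 LD2_c17 LD3_c26)) = v4241 :=
  Lgr Lrot45 (Lpr_ft (K50.f632146 IH) (Lpe (K50.f632142 IH) (Lpr_ft (f632150 IH) (Lpn v4241))))
theorem f495057 : Led Lsl_ct (LP (LK LD1_c4 LD2_c40 LD3_c49)) = (LP (LK LD1_c2 LD2_c17 LD3_c26)) :=
  Lre_c IH (LK LD1_c4 LD2_c40 LD3_c49) (LK LD1_c2 LD2_c17 LD3_c26) Lrfl Lrfl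
theorem f632155 : Led Lsl_dt (LP (LK LD1_c9 LD2_c17 LD3_c3)) = (LP (LK LD1_c4 LD2_c40 LD3_c49)) :=
  Lre_d IH (LK LD1_c9 LD2_c17 LD3_c3) (LK LD1_c4 LD2_c40 LD3_c49) Lrfl Lrfl
theorem f632156 : Led Lsl_ct (LP (LK LD1_c17 LD2_c12 LD3_c8)) = (LP (LK LD1_c9 LD2_c17 LD3_c3)) :=
  Lre_c IH (LK LD1_c17 LD2_c12 LD3_c8) (LK LD1_c9 LD2_c17 LD3_c3) Lrfl Lrfl
theorem f709816 : Led Lsl_df (LP (LK LD1_c17 LD2_c12 LD3_c8)) = (LP (LK LD1_c9 LD2_c27 LD3_c18)) :=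
  Lgr Lrot13 (Lpr_ct (f632156 IH) (Lpr_dt (f632155 IH) (Lpr_ct (f495057 IH) (Lpr_af (f632151 IH) (Lpe (f632150 IH) (Lpr_dt (f22878 IH) (Lpr_ct (f22879 IH) (Lpr_dt (f632154 IH) (Lpr_ct (f709809 IH) (Lpn (LP (LK LD1_c9 LD2_c27 LD3_c18))))))))))))
theorem f709817 : Led Lsl_dt (LP (LK LD1_c9 LD2_c27 LD3_c18)) = (LP (LK LD1_c17 LD2_c12 LD3_c8)) :=
  Leop (Lpr_df (f709816 IH) (Lpn (LP (LK LD1_c9 LD2_c27 LD3_c18))))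
theorem seed_749 : LEOK LG_d (LK LD1_c9 LD2_c27 LD3_c18) :=
  Leoe_d (LK LD1_c9 LD2_c27 LD3_c18) (f709817 IH)
theorem f136253 : Led Lsl_et (LP (LK LD1_c1 LD2_c21 LD3_c8)) = (LP (LK LD1_c2 LD2_c50 LD3_c10)) :=
  Lre_e IH (LK LD1_c1 LD2_c21 LD3_c8) (LK LD1_c2 LD2_c50 LD3_c10) Lrfl Lrfl
theorem f22296 : Led Lsl_gt (LP (LK LD1_c2 LD2_c51 LD3_c60)) = (LP (LK LD1_c1 LD2_c22 LD3_c0)) :=
  Lre_g IH (LK LD1_c2 LD2_c51 LD3_c60) (LK LD1_c1 LD2_c22 LD3_c0) Lrfl Lrfl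
theorem f22313 : Led Lsl_et (LP (LK LD1_c5 LD2_c51 LD3_c32)) = (LP (LK LD1_c2 LD2_c51 LD3_c60)) :=
  Lre_e IH (LK LD1_c5 LD2_c51 LD3_c32) (LK LD1_c2 LD2_c51 LD3_c60) Lrfl Lrfl
def v4828 : LQ := Led Lsl_gt (LP (LK LD1_c2 LD2_c50 LD3_c10))
theorem f640496 : Led Lsl_gt (LP (LK LD1_c2 LD2_c50 LD3_c10)) = v4828 :=
  Lrfl
theorem f707379 : (LP (LK LD1_c4 LD2_c49 LD3_c49)) = v4828 :=
  Lefun (Lecon (Lfl_gf (f509645 IH)) (f707378 IH)) (f640496 IH)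
def v13909 : LQ := Led Lsl_dt (LP (LK LD1_c4 LD2_c49 LD3_c49))
theorem f705834 : Led Lsl_dt (LP (LK LD1_c4 LD2_c49 LD3_c49)) = v13909 :=
  Lrfl
theorem f416198 : Led Lsl_at (LP (LK LD1_c4 LD2_c49 LD3_c44)) = (LP (LK LD1_c9 LD2_c32 LD3_c3)) :=
  Lre_a IH (LK LD1_c4 LD2_c49 LD3_c44) (LK LD1_c9 LD2_c32 LD3_c3) Lrfl Lrfl
theorem f454337 : Led Lsl_at (LP (LK LD1_c6 LD2_c47 LD3_c3)) = (LP (LK LD1_c3 LD2_c21 LD3_c43)) :=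
  Lre_a IH (LK LD1_c6 LD2_c47 LD3_c3) (LK LD1_c3 LD2_c21 LD3_c43) Lrfl Lrfl
theorem f454338 : Led Lsl_ft (LP (LK LD1_c9 LD2_c32 LD3_c3)) = (LP (LK LD1_c6 LD2_c47 LD3_c3)) :=
  Lgr Lrot101 (Lpe (f416198 IH) (Lpr_ff (K32.f454322 IH) (Lpe (f454337 IH) (Lpn (LP (LK LD1_c6 LD2_c47 LD3_c3))))))
theorem f416228 : Led Lsl_ct (LP (LK LD1_c4 LD2_c49 LD3_c49)) = (LP (LK LD1_c9 LD2_c32 LD3_c3)) :=
  Lre_c IH (LK LD1_c4 LD2_c49 LD3_c49) (LK LD1_c9 LD2_c32 LD3_c3) Lrfl Lrfl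
theorem f454331 : Led Lsl_ct (LP (LK LD1_c6 LD2_c47 LD3_c3)) = (LP (LK LD1_c3 LD2_c21 LD3_c49)) :=
  Lre_c IH (LK LD1_c6 LD2_c47 LD3_c3) (LK LD1_c3 LD2_c21 LD3_c49) Lrfl Lrfl
theorem f454430 : Led Lsl_ff (LP (LK LD1_c4 LD2_c49 LD3_c49)) = (LP (LK LD1_c3 LD2_c21 LD3_c49)) :=
  Lgr Lrot23 (Lpr_ct (f416228 IH) (Lpr_ft (f454338 IH) (Lpr_ct (f454331 IH) (Lpn (LP (LK LD1_c3 LD2_c21 LD3_c49))))))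
def v6447 : LQ := Led Lsl_dt (LP (LK LD1_c3 LD2_c21 LD3_c49))
theorem f653450 : Led Lsl_dt (LP (LK LD1_c3 LD2_c21 LD3_c49)) = v6447 :=
  Lrfl
theorem f653452 : Led Lsl_df (LP (LK LD1_c3 LD2_c21 LD3_c49)) = v6447 :=
  Lgr Lrot38 (Lpr_dt (f653450 IH) (Lpn v6447))
theorem f705838 : Led Lsl_ff v6447 = v13909 :=
  Lgr Lrot19 (Lpe (f653452 IH) (Lpe (f454430 IH) (Lpr_dt (f705834 IH) (Lpn v13909))))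
theorem f454023 : Led Lsl_at (LP (LK LD1_c1 LD2_c37 LD3_c9)) = (LP (LK LD1_c3 LD2_c21 LD3_c49)) :=
  Lre_a IH (LK LD1_c1 LD2_c37 LD3_c9) (LK LD1_c3 LD2_c21 LD3_c49) Lrfl Lrfl
theorem f653451 : Led Lsl_af (LP (LK LD1_c3 LD2_c21 LD3_c50)) = v6447 :=
  Lgr Lrot117 (Lpr_dt (K24.f454298 IH) (Lpr_at (f454023 IH) (Lpr_dt (f653450 IH) (Lpn v6447))))
theorem f417141 : Led Lsl_gt (LP (LK LD1_c6 LD2_c47 LD3_c21)) = (LP (LK LD1_c3 LD2_c21 LD3_c50)) :=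
  Lre_g IH (LK LD1_c6 LD2_c47 LD3_c21) (LK LD1_c3 LD2_c21 LD3_c50) Lrfl Lrfl
theorem f705841 : Led Lsl_gf (LP (LK LD1_c6 LD2_c47 LD3_c21)) = v13909 :=
  Lgr Lrot47 (Lpr_gt (f417141 IH) (Lpr_af (f653451 IH) (Lpr_ff (f705838 IH) (Lpn v13909))))
theorem f710234 : Led Lsl_dt (LP (LK LD1_c5 LD2_c51 LD3_c32)) = (LP (LK LD1_c6 LD2_c47 LD3_c21)) :=
  Lgr Lrot56 (Lpr_et (f22313 IH) (Lpr_gt (f22296 IH) (Lpe (K50.f22292 IH) (Lpr_dt (K7.f8351 IH) (Lpr_gt (K6.f8320 IH) (Lpe (K7.f136251 IH) (Lpr_et (f136253 IH) (Lpr_gt (f640496 IH) (Lpq (f707379 IH) (Lpr_dt (f705834 IH) (Lpe (f705841 IH) (Lpn (LP (LK LD1_c6 LD2_c47 LD3_c21))))))))))))))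
theorem f710242 : Led Lsl_df (LP (LK LD1_c5 LD2_c51 LD3_c32)) = (LP (LK LD1_c6 LD2_c47 LD3_c21)) :=
  Lgr Lrot38 (Lpr_dt (f710234 IH) (Lpn (LP (LK LD1_c6 LD2_c47 LD3_c21))))
theorem f710279 : Led Lsl_ct (LP (LK LD1_c5 LD2_c51 LD3_c32)) = (LP (LK LD1_c11 LD2_c30 LD3_c29)) :=
  Lre_c IH (LK LD1_c5 LD2_c51 LD3_c32) (LK LD1_c11 LD2_c30 LD3_c29) Lrfl Lrfl
theorem f710241 : Led Lsl_dt (LP (LK LD1_c20 LD2_c27 LD3_c34)) = (LP (LK LD1_c11 LD2_c30 LD3_c29)) :=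
  Lre_d IH (LK LD1_c20 LD2_c27 LD3_c34) (LK LD1_c11 LD2_c30 LD3_c29) Lrfl Lrfl
theorem f65973 : Led Lsl_et (LP (LK LD1_c1 LD2_c52 LD3_c30)) = (LP (LK LD1_c3 LD2_c51 LD3_c22)) :=
  Lre_e IH (LK LD1_c1 LD2_c52 LD3_c30) (LK LD1_c3 LD2_c51 LD3_c22) Lrfl Lrfl
theorem f136240 : Led Lsl_cf (LP (LK LD1_c2 LD2_c50 LD3_c10)) = (LP (LK LD1_c3 LD2_c51 LD3_c22)) :=
  Lgr Lrot39 (Lpr_et (f136239 IH) (Lpr_ct (K6.f135966 IH) (Lpr_et (f65973 IH) (Lpn (LP (LK LD1_c3 LD2_c51 LD3_c22))))))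
theorem f65740 : Led Lsl_gt (LP (LK LD1_c3 LD2_c51 LD3_c22)) = (LP (LK LD1_c7 LD2_c44 LD3_c10)) :=
  Lre_g IH (LK LD1_c3 LD2_c51 LD3_c22) (LK LD1_c7 LD2_c44 LD3_c10) Lrfl Lrfl
theorem f65741 : Led Lsl_dt (LP (LK LD1_c7 LD2_c44 LD3_c10)) = (LP (LK LD1_c14 LD2_c35 LD3_c25)) :=
  Lre_d IH (LK LD1_c7 LD2_c44 LD3_c10) (LK LD1_c14 LD2_c35 LD3_c25) Lrfl Lrfl
theorem f710281 : Led Lsl_gf (LP (LK LD1_c20 LD2_c27 LD3_c34)) = (LP (LK LD1_c14 LD2_c35 LD3_c25)) :=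
  Lgr Lrot143 (Lpr_dt (f710241 IH) (Lpe (f710279 IH) (Lpr_df (f710242 IH) (Lpr_gf (f705841 IH) (Lpe (f705834 IH) (Lpr_gf (f509645 IH) (Lpqs (f707378 IH) (Lpr_cf (f136240 IH) (Lpr_gt (f65740 IH) (Lpr_dt (f65741 IH) (Lpn (LP (LK LD1_c14 LD2_c35 LD3_c25)))))))))))))
theorem f710282 : Led Lsl_gt (LP (LK LD1_c14 LD2_c35 LD3_c25)) = (LP (LK LD1_c20 LD2_c27 LD3_c34)) :=
  Leop (Lpr_gf (f710281 IH) (Lpn (LP (LK LD1_c14 LD2_c35 LD3_c25))))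
theorem seed_750 : LEOK LG_g (LK LD1_c14 LD2_c35 LD3_c25) :=
  Leoe_g (LK LD1_c14 LD2_c35 LD3_c25) (f710282 IH)
def v12887 : LQ := Led Lsl_ft (LP (LK LD1_c4 LD2_c33 LD3_c60))
theorem f698832 : Led Lsl_ft (LP (LK LD1_c4 LD2_c33 LD3_c60)) = v12887 :=
  Lrfl
def v12885 : LQ := Led Lsl_gt (LP (LK LD1_c4 LD2_c33 LD3_c60))
theorem f698829 : Led Lsl_gt (LP (LK LD1_c4 LD2_c33 LD3_c60)) = v12885 :=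
  Lrfl
def v4871 : LQ := Led Lsl_ft (LP (LK LD1_c2 LD2_c51 LD3_c17))
theorem f640652 : Led Lsl_ft (LP (LK LD1_c2 LD2_c51 LD3_c17)) = v4871 :=
  Lrfl
theorem f640653 : Led Lsl_ff (LP (LK LD1_c2 LD2_c51 LD3_c17)) = v4871 :=
  Lgr Lrot3 (Lpr_ft (f640652 IH) (Lpn v4871))
theorem f698833 : Led Lsl_af v4871 = v12887 :=
  Lgr Lrot45 (Lpe (f640653 IH) (Lpe (K50.f203180 IH) (Lpr_ft (f698832 IH) (Lpn v12887))))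
theorem f698836 : Led Lsl_gt v12885 = v4871 :=
  Lgr Lrot46 (Lpe (f698829 IH) (Lpr_ft (f698832 IH) (Lpe (f698833 IH) (Lpn v4871))))
theorem f415658 : Led Lsl_gt (LP (LK LD1_c2 LD2_c27 LD3_c50)) = (LP (LK LD1_c5 LD2_c0 LD3_c8)) :=
  Lre_g IH (LK LD1_c2 LD2_c27 LD3_c50) (LK LD1_c5 LD2_c0 LD3_c8) Lrfl Lrfl
def v4553 : LQ := Led Lsl_gf (LP (LK LD1_c2 LD2_c27 LD3_c50))
theorem f636097 : Led Lsl_gf (LP (LK LD1_c2 LD2_c27 LD3_c50)) = v4553 :=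
  Lrfl
theorem f415694 : Led Lsl_gt (LP (LK LD1_c9 LD2_c46 LD3_c37)) = (LP (LK LD1_c17 LD2_c56 LD3_c43)) :=
  Lre_g IH (LK LD1_c9 LD2_c46 LD3_c37) (LK LD1_c17 LD2_c56 LD3_c43) Lrfl Lrfl
theorem f74658 : Led Lsl_et (LP (LK LD1_c17 LD2_c12 LD3_c15)) = (LP (LK LD1_c9 LD2_c17 LD3_c8)) :=
  Lre_e IH (LK LD1_c17 LD2_c12 LD3_c15) (LK LD1_c9 LD2_c17 LD3_c8) Lrfl Lrfl
theorem f74599 : Led Lsl_gt (LP (LK LD1_c4 LD2_c40 LD3_c51)) = (LP (LK LD1_c9 LD2_c17 LD3_c7)) :=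
  Lre_g IH (LK LD1_c4 LD2_c40 LD3_c51) (LK LD1_c9 LD2_c17 LD3_c7) Lrfl Lrfl
theorem f74600 : Led Lsl_et (LP (LK LD1_c9 LD2_c17 LD3_c10)) = (LP (LK LD1_c4 LD2_c40 LD3_c51)) :=
  Lre_e IH (LK LD1_c9 LD2_c17 LD3_c10) (LK LD1_c4 LD2_c40 LD3_c51) Lrfl Lrfl
theorem f74602 : Led Lsl_et (LP (LK LD1_c1 LD2_c24 LD3_c11)) = (LP (LK LD1_c2 LD2_c22 LD3_c25)) :=
  Lre_e IH (LK LD1_c1 LD2_c24 LD3_c11) (LK LD1_c2 LD2_c22 LD3_c25) Lrfl Lrfl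
theorem f74603 : Led Lsl_dt (LP (LK LD1_c1 LD2_c24 LD3_c11)) = (LP (LK LD1_c2 LD2_c48 LD3_c17)) :=
  Lre_d IH (LK LD1_c1 LD2_c24 LD3_c11) (LK LD1_c2 LD2_c48 LD3_c17) Lrfl Lrfl
theorem f74604 : Led Lsl_gt (LP (LK LD1_c2 LD2_c48 LD3_c17)) = (LP (LK LD1_c5 LD2_c44 LD3_c8)) :=
  Lre_g IH (LK LD1_c2 LD2_c48 LD3_c17) (LK LD1_c5 LD2_c44 LD3_c8) Lrfl Lrfl
theorem f74605 : Led Lsl_dt (LP (LK LD1_c9 LD2_c17 LD3_c10)) = (LP (LK LD1_c5 LD2_c44 LD3_c8)) :=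
  Lgr Lrot37 (Lpr_et (f74600 IH) (Lpr_gt (f74599 IH) (Lpr_dt (K2.f74598 IH) (Lpr_gt (K2.f74597 IH) (Lpr_df (K2.f74571 IH) (Lpr_et (K2.f74570 IH) (Lpr_gt (K2.f74601 IH) (Lpe (f74602 IH) (Lpr_dt (f74603 IH) (Lpr_gt (f74604 IH) (Lpn (LP (LK LD1_c5 LD2_c44 LD3_c8)))))))))))))
theorem f74616 : Led Lsl_df (LP (LK LD1_c9 LD2_c17 LD3_c10)) = (LP (LK LD1_c5 LD2_c44 LD3_c8)) :=
  Lgr Lrot38 (Lpr_dt (f74605 IH) (Lpn (LP (LK LD1_c5 LD2_c44 LD3_c8))))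
theorem f74639 : Led Lsl_bt (LP (LK LD1_c9 LD2_c17 LD3_c10)) = (LP (LK LD1_c17 LD2_c12 LD3_c15)) :=
  Lre_b IH (LK LD1_c9 LD2_c17 LD3_c10) (LK LD1_c17 LD2_c12 LD3_c15) Lrfl Lrfl
theorem f74640 : Led Lsl_bt (LP (LK LD1_c11 LD2_c18 LD3_c23)) = (LP (LK LD1_c5 LD2_c44 LD3_c8)) :=
  Lre_b IH (LK LD1_c11 LD2_c18 LD3_c23) (LK LD1_c5 LD2_c44 LD3_c8) Lrfl Lrfl
theorem f74641 : Led Lsl_dt (LP (LK LD1_c17 LD2_c12 LD3_c15)) = (LP (LK LD1_c11 LD2_c18 LD3_c23)) :=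
  Lgr Lrot79 (Lpe (f74639 IH) (Lpr_df (f74616 IH) (Lpe (f74640 IH) (Lpn (LP (LK LD1_c11 LD2_c18 LD3_c23))))))
def v1777 : LQ := Led Lsl_ft (LP (LK LD1_c1 LD2_c26 LD3_c7))
theorem f502827 : Led Lsl_ft (LP (LK LD1_c1 LD2_c26 LD3_c7)) = v1777 :=
  Lrfl
theorem f502829 : Led Lsl_ff (LP (LK LD1_c1 LD2_c26 LD3_c7)) = v1777 :=
  Lgr Lrot3 (Lpr_ft (f502827 IH) (Lpn v1777))
theorem f502801 : Led Lsl_ef (LP (LK LD1_c1 LD2_c26 LD3_c4)) = K37.v1773 :=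
  Lgr Lrot88 (Lpr_et (K37.f502799 IH) (Lpn K37.v1773))
theorem f75535 : Led Lsl_at (LP (LK LD1_c1 LD2_c26 LD3_c4)) = (LP (LK LD1_c0 LD2_c39 LD3_c45)) :=
  Lre_a IH (LK LD1_c1 LD2_c26 LD3_c4) (LK LD1_c0 LD2_c39 LD3_c45) Lrfl Lrfl
theorem f502804 : Led Lsl_at (LP (LK LD1_c1 LD2_c26 LD3_c7)) = K37.v1773 :=
  Lgr Lrot80 (Lpe (K36.f75044 IH) (Lpe (f75535 IH) (Lpr_ef (f502801 IH) (Lpn K37.v1773))))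
theorem f502831 : Led Lsl_gf (LP (LK LD1_c2 LD2_c14 LD3_c20)) = v1777 :=
  Lgr Lrot47 (Lpr_gt (K37.f502802 IH) (Lpe (f502804 IH) (Lpr_ff (f502829 IH) (Lpn v1777))))
theorem f499974 : Led Lsl_gt (LP (LK LD1_c1 LD2_c26 LD3_c2)) = K36.v1563 :=
  Lgr Lrot149 (Lpe (K36.f21187 IH) (Lpe (K4.f20241 IH) (Lpe (K6.f20558 IH) (Lpr_ct (K4.f7103 IH) (Lpe (K0.f21001 IH) (Lpe (K0.f20274 IH) (Lpr_bt (K11.f16657 IH) (Lpe (K11.f21185 IH) (Lpe (K31.f21186 IH) (Lpr_ct (K36.f499967 IH) (Lpn K36.v1563)))))))))))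
theorem f537841 : (LP (LK LD1_c1 LD2_c26 LD3_c2)) = v1777 :=
  Lefun (Lecon (Lfl_gt (f499974 IH)) (K37.f537618 IH).symm) (f502831 IH)
theorem f72601 : Led Lsl_et (LP (LK LD1_c5 LD2_c57 LD3_c52)) = (LP (LK LD1_c2 LD2_c55 LD3_c16)) :=
  Lre_e IH (LK LD1_c5 LD2_c57 LD3_c52) (LK LD1_c2 LD2_c55 LD3_c16) Lrfl Lrfl
theorem f424613 : Led Lsl_et (LP (LK LD1_c5 LD2_c57 LD3_c36)) = (LP (LK LD1_c2 LD2_c55 LD3_c7)) :=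
  Lre_e IH (LK LD1_c5 LD2_c57 LD3_c36) (LK LD1_c2 LD2_c55 LD3_c7) Lrfl Lrfl
theorem f549445 : Led Lsl_et (LP (LK LD1_c5 LD2_c41 LD3_c0)) = (LP (LK LD1_c11 LD2_c12 LD3_c35)) :=
  Lre_e IH (LK LD1_c5 LD2_c41 LD3_c0) (LK LD1_c11 LD2_c12 LD3_c35) Lrfl Lrfl
theorem f549446 : Led Lsl_df (LP (LK LD1_c5 LD2_c57 LD3_c36)) = (LP (LK LD1_c11 LD2_c12 LD3_c35)) :=
  Lgr Lrot70 (Lpr_et (f424613 IH) (Lpr_dt (K28.f137615 IH) (Lpr_et (K39.f500622 IH) (Lpq (K39.f549439 IH) (Lpr_dt (K39.f549438 IH) (Lpr_et (f549445 IH) (Lpn (LP (LK LD1_c11 LD2_c12 LD3_c35)))))))))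
theorem f163166 : Led Lsl_at (LP (LK LD1_c2 LD2_c54 LD3_c9)) = (LP (LK LD1_c2 LD2_c55 LD3_c14)) :=
  Lgr Lrot100 (Lpr_af (K8.f163164 IH) (Lpn (LP (LK LD1_c2 LD2_c55 LD3_c14))))
theorem f163152 : Led Lsl_ff (LP (LK LD1_c2 LD2_c54 LD3_c9)) = (LP (LK LD1_c2 LD2_c55 LD3_c16)) :=
  Lgr Lrot19 (Lpr_dt (K6.f81951 IH) (Lpr_ft (K8.f163148 IH) (Lpr_dt (K7.f72600 IH) (Lpn (LP (LK LD1_c2 LD2_c55 LD3_c16))))))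
theorem f424618 : Led Lsl_af (LP (LK LD1_c2 LD2_c55 LD3_c16)) = (LP (LK LD1_c2 LD2_c55 LD3_c7)) :=
  Lgr Lrot45 (Lpe (f163152 IH) (Lpr_at (f163166 IH) (Lpr_ft (K28.f424616 IH) (Lpn (LP (LK LD1_c2 LD2_c55 LD3_c7))))))
theorem f101636 : Led Lsl_et (LP (LK LD1_c2 LD2_c55 LD3_c16)) = (LP (LK LD1_c5 LD2_c57 LD3_c52)) :=
  Lre_e IH (LK LD1_c2 LD2_c55 LD3_c16) (LK LD1_c5 LD2_c57 LD3_c52) Lrfl Lrfl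
theorem f424760 : Led Lsl_at (LP (LK LD1_c5 LD2_c57 LD3_c52)) = (LP (LK LD1_c5 LD2_c57 LD3_c36)) :=
  Lgr Lrot80 (Lpe (f101636 IH) (Lpr_af (f424618 IH) (Lpe (f424613 IH) (Lpn (LP (LK LD1_c5 LD2_c57 LD3_c36))))))
theorem f424762 : Led Lsl_af (LP (LK LD1_c5 LD2_c57 LD3_c52)) = (LP (LK LD1_c5 LD2_c57 LD3_c36)) :=
  Lgr Lrot0 (Lpr_at (f424760 IH) (Lpn (LP (LK LD1_c5 LD2_c57 LD3_c36))))
theorem f549448 : Led Lsl_dt (LP (LK LD1_c5 LD2_c57 LD3_c52)) = (LP (LK LD1_c11 LD2_c16 LD3_c47)) :=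
  Lgr Lrot44 (Lpr_af (f424762 IH) (Lpr_df (f549446 IH) (Lpr_af (K39.f549431 IH) (Lpn (LP (LK LD1_c11 LD2_c16 LD3_c47))))))
theorem f706016 : Led Lsl_gt (LP (LK LD1_c11 LD2_c18 LD3_c23)) = (LP (LK LD1_c11 LD2_c16 LD3_c47)) :=
  Lgr Lrot112 (Lpe (f74641 IH) (Lpr_et (f74658 IH) (Lpr_gf (f706002 IH) (Lpe (K50.f425902 IH) (Lpr_dt (K36.f499973 IH) (Lpq (K37.f537618 IH) (Lpr_gf (f502831 IH) (Lpq (f537841 IH) (Lpr_df (K36.f501361 IH) (Lpr_gf (K40.f502638 IH) (Lpe (f72601 IH) (Lpr_dt (f549448 IH) (Lpn (LP (LK LD1_c11 LD2_c16 LD3_c47)))))))))))))))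
theorem f68634 : Led Lsl_bt (LP (LK LD1_c5 LD2_c41 LD3_c1)) = (LP (LK LD1_c11 LD2_c12 LD3_c35)) :=
  Lre_b IH (LK LD1_c5 LD2_c41 LD3_c1) (LK LD1_c11 LD2_c12 LD3_c35) Lrfl Lrfl
theorem f424022 : Led Lsl_bt (LP (LK LD1_c11 LD2_c16 LD3_c47)) = (LP (LK LD1_c9 LD2_c2 LD3_c0)) :=
  Lgr Lrot127 (Lpr_bf (K39.f424020 IH) (Lpn (LP (LK LD1_c9 LD2_c2 LD3_c0))))
theorem f549427 : Led Lsl_at (LP (LK LD1_c11 LD2_c12 LD3_c35)) = (LP (LK LD1_c11 LD2_c16 LD3_c47)) :=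
  Lgr Lrot67 (Lpe (f68634 IH) (Lpr_af (K40.f450578 IH) (Lpr_bf (K39.f549425 IH) (Lpr_af (K39.f549267 IH) (Lpe (f424022 IH) (Lpn (LP (LK LD1_c11 LD2_c16 LD3_c47))))))))
theorem f549454 : Led Lsl_ft (LP (LK LD1_c20 LD2_c7 LD3_c11)) = (LP (LK LD1_c11 LD2_c12 LD3_c35)) :=
  Lre_f IH (LK LD1_c20 LD2_c7 LD3_c11) (LK LD1_c11 LD2_c12 LD3_c35) Lrfl Lrfl
theorem f706018 : Led Lsl_gf (LP (LK LD1_c11 LD2_c18 LD3_c23)) = (LP (LK LD1_c20 LD2_c7 LD3_c11)) :=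
  Lgr Lrot47 (Lpr_gt (f706016 IH) (Lpe (f549427 IH) (Lpe (f549454 IH) (Lpn (LP (LK LD1_c20 LD2_c7 LD3_c11))))))
theorem f74652 : Led Lsl_bt (LP (LK LD1_c1 LD2_c20 LD3_c31)) = (LP (LK LD1_c2 LD2_c48 LD3_c17)) :=
  Lre_b IH (LK LD1_c1 LD2_c20 LD3_c31) (LK LD1_c2 LD2_c48 LD3_c17) Lrfl Lrfl
theorem f40936 : Led Lsl_bt (LP (LK LD1_c2 LD2_c26 LD3_c41)) = (LP (LK LD1_c1 LD2_c10 LD3_c39)) :=
  Lre_b IH (LK LD1_c2 LD2_c26 LD3_c41) (LK LD1_c1 LD2_c10 LD3_c39) Lrfl Lrfl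
theorem f140603 : Led Lsl_ct (LP (LK LD1_c2 LD2_c26 LD3_c41)) = (LP (LK LD1_c4 LD2_c57 LD3_c37)) :=
  Lre_c IH (LK LD1_c2 LD2_c26 LD3_c41) (LK LD1_c4 LD2_c57 LD3_c37) Lrfl Lrfl
theorem f383866 : Led Lsl_gt (LP (LK LD1_c9 LD2_c46 LD3_c6)) = (LP (LK LD1_c4 LD2_c57 LD3_c37)) :=
  Lre_g IH (LK LD1_c9 LD2_c46 LD3_c6) (LK LD1_c4 LD2_c57 LD3_c37) Lrfl Lrfl
theorem f415675 : Led Lsl_ct (LP (LK LD1_c11 LD2_c18 LD3_c23)) = (LP (LK LD1_c9 LD2_c46 LD3_c6)) :=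
  Lgr Lrot64 (Lpr_bt (f74640 IH) (Lpe (f74604 IH) (Lpe (f74652 IH) (Lpr_ct (K32.f140280 IH) (Lpe (K32.f415653 IH) (Lpr_cf (K32.f415654 IH) (Lpe (K32.f58953 IH) (Lpe (f40936 IH) (Lpr_ct (f140603 IH) (Lpe (f383866 IH) (Lpn (LP (LK LD1_c9 LD2_c46 LD3_c6)))))))))))))
theorem f549460 : Led Lsl_bt (LP (LK LD1_c11 LD2_c12 LD3_c36)) = (LP (LK LD1_c20 LD2_c7 LD3_c11)) :=
  Lre_b IH (LK LD1_c11 LD2_c12 LD3_c36) (LK LD1_c20 LD2_c7 LD3_c11) Lrfl Lrfl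
theorem f706022 : Led Lsl_cf (LP (LK LD1_c17 LD2_c56 LD3_c43)) = (LP (LK LD1_c11 LD2_c12 LD3_c36)) :=
  Lgr Lrot58 (Lpe (f415694 IH) (Lpe (f415693 IH) (Lpr_bt (f415663 IH) (Lpe (K32.f58953 IH) (Lpe (f40936 IH) (Lpr_ct (f140603 IH) (Lpe (f383866 IH) (Lpe (f415675 IH) (Lpr_gf (f706018 IH) (Lpe (f549460 IH) (Lpn (LP (LK LD1_c11 LD2_c12 LD3_c36)))))))))))))
theorem f74610 : Led Lsl_bt (LP (LK LD1_c5 LD2_c44 LD3_c8)) = (LP (LK LD1_c11 LD2_c18 LD3_c23)) :=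
  Lre_b IH (LK LD1_c5 LD2_c44 LD3_c8) (LK LD1_c11 LD2_c18 LD3_c23) Lrfl Lrfl
theorem f74614 : Led Lsl_ct (LP (LK LD1_c5 LD2_c44 LD3_c8)) = (LP (LK LD1_c11 LD2_c18 LD3_c24)) :=
  Lre_c IH (LK LD1_c5 LD2_c44 LD3_c8) (LK LD1_c11 LD2_c18 LD3_c24) Lrfl Lrfl
theorem f495882 : Led Lsl_et (LP (LK LD1_c4 LD2_c31 LD3_c7)) = (LP (LK LD1_c9 LD2_c0 LD3_c15)) :=
  Lre_e IH (LK LD1_c4 LD2_c31 LD3_c7) (LK LD1_c9 LD2_c0 LD3_c15) Lrfl Lrfl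
theorem f701634 : Led Lsl_gt (LP (LK LD1_c9 LD2_c0 LD3_c15)) = v13198 :=
  Lgr Lrot131 (Lpe (f495882 IH) (Lpe (K39.f495880 IH) (Lpqs (K39.f537396 IH) (Lpe (K39.f495230 IH) (Lpe (K24.f313671 IH) (Lpr_gf (K24.f380110 IH) (Lpr_ef (K24.f73849 IH) (Lpr_dt (K2.f73672 IH) (Lpr_gf (K17.f414276 IH) (Lpe (K24.f414305 IH) (Lpr_et (f701631 IH) (Lpn v13198))))))))))))
theorem f382433 : Led Lsl_bt (LP (LK LD1_c16 LD2_c49 LD3_c39)) = (LP (LK LD1_c9 LD2_c0 LD3_c15)) :=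
  Lre_b IH (LK LD1_c16 LD2_c49 LD3_c39) (LK LD1_c9 LD2_c0 LD3_c15) Lrfl Lrfl
theorem f381989 : Led Lsl_et (LP (LK LD1_c11 LD2_c17 LD3_c55)) = (LP (LK LD1_c20 LD2_c14 LD3_c3)) :=
  Lre_e IH (LK LD1_c11 LD2_c17 LD3_c55) (LK LD1_c20 LD2_c14 LD3_c3) Lrfl Lrfl
theorem f382430 : Led Lsl_ct (LP (LK LD1_c20 LD2_c14 LD3_c3)) = (LP (LK LD1_c16 LD2_c49 LD3_c39)) :=
  Lgr Lrot15 (Lpe (f381989 IH) (Lpr_cf (K30.f382422 IH) (Lpe (K50.f382429 IH) (Lpn (LP (LK LD1_c16 LD2_c49 LD3_c39))))))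
theorem f382436 : Led Lsl_cf (LP (LK LD1_c20 LD2_c14 LD3_c3)) = (LP (LK LD1_c16 LD2_c49 LD3_c39)) :=
  Lgr Lrot11 (Lpr_ct (f382430 IH) (Lpn (LP (LK LD1_c16 LD2_c49 LD3_c39))))
theorem f707121 : Led Lsl_gt (LP (LK LD1_c11 LD2_c18 LD3_c24)) = (LP (LK LD1_c20 LD2_c14 LD3_c3)) :=
  Lgr Lrot65 (Lpe (f74614 IH) (Lpr_bt (f74610 IH) (Lpr_gf (f706018 IH) (Lpe (f549460 IH) (Lpe (f706022 IH) (Lpe (f415694 IH) (Lpe (f415693 IH) (Lpq (f706122 IH) (Lpe (f701634 IH) (Lpe (f382433 IH) (Lpe (f382436 IH) (Lpn (LP (LK LD1_c20 LD2_c14 LD3_c3))))))))))))))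
theorem f415656 : Led Lsl_ct (LP (LK LD1_c2 LD2_c56 LD3_c6)) = (LP (LK LD1_c5 LD2_c59 LD3_c32)) :=
  Lre_c IH (LK LD1_c2 LD2_c56 LD3_c6) (LK LD1_c5 LD2_c59 LD3_c32) Lrfl Lrfl
theorem f58870 : Led Lsl_et (LP (LK LD1_c9 LD2_c5 LD3_c28)) = (LP (LK LD1_c4 LD2_c33 LD3_c59)) :=
  Lre_e IH (LK LD1_c9 LD2_c5 LD3_c28) (LK LD1_c4 LD2_c33 LD3_c59) Lrfl Lrfl
theorem f58871 : Led Lsl_et (LP (LK LD1_c4 LD2_c48 LD3_c43)) = (LP (LK LD1_c9 LD2_c29 LD3_c58)) :=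
  Lre_e IH (LK LD1_c4 LD2_c48 LD3_c43) (LK LD1_c9 LD2_c29 LD3_c58) Lrfl Lrfl
theorem f58872 : Led Lsl_cf (LP (LK LD1_c9 LD2_c5 LD3_c28)) = (LP (LK LD1_c9 LD2_c29 LD3_c58)) :=
  Lgr Lrot39 (Lpr_et (f58870 IH) (Lpr_ct (K28.f58864 IH) (Lpr_et (f58871 IH) (Lpn (LP (LK LD1_c9 LD2_c29 LD3_c58))))))
theorem f707125 : Led Lsl_gt (LP (LK LD1_c5 LD2_c59 LD3_c32)) = (LP (LK LD1_c9 LD2_c29 LD3_c58)) :=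
  Lgr Lrot150 (Lpe (f415656 IH) (Lpe (K32.f384008 IH) (Lpe (f384009 IH) (Lpr_gt (f74604 IH) (Lpr_ct (f74614 IH) (Lpr_gt (f707121 IH) (Lpr_ct (f382430 IH) (Lpe (K50.f555976 IH) (Lpr_cf (f58872 IH) (Lpn (LP (LK LD1_c9 LD2_c29 LD3_c58))))))))))))
theorem f415657 : Led Lsl_bt (LP (LK LD1_c1 LD2_c11 LD3_c2)) = (LP (LK LD1_c2 LD2_c27 LD3_c50)) :=
  Lre_b IH (LK LD1_c1 LD2_c11 LD3_c2) (LK LD1_c2 LD2_c27 LD3_c50) Lrfl Lrfl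
theorem f58878 : Led Lsl_ct (LP (LK LD1_c9 LD2_c5 LD3_c28)) = (LP (LK LD1_c9 LD2_c29 LD3_c58)) :=
  Lgr Lrot59 (Lpr_cf (f58872 IH) (Lpn (LP (LK LD1_c9 LD2_c29 LD3_c58))))
theorem f707129 : v4553 = (LP (LK LD1_c4 LD2_c33 LD3_c60)) :=
  (Llr Lrot124 (Lpe (f636097 IH) (Lpe (f415657 IH) (Lpe (K32.f415642 IH) (Lpr_gt (K0.f23255 IH) (Lpe (K32.f140109 IH) (Lpr_bt (K32.f140875 IH) (Lpr_gt (K32.f384008 IH) (Lpr_ct (f415656 IH) (Lpr_gt (f707125 IH) (Lpe (f58878 IH) (Lpr_bt (K50.f58876 IH) (Lpn (LP (LK LD1_c4 LD2_c33 LD3_c60))))))))))))))).symm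
theorem f707130 : (LP (LK LD1_c2 LD2_c27 LD3_c50)) = v12885 :=
  Lefun (Lecon (Lfl_gf (f636097 IH)) (f707129 IH)) (f698829 IH)
theorem f707134 : v4871 = (LP (LK LD1_c5 LD2_c0 LD3_c8)) :=
  Lefun (Lecon (f698836 IH) (f707130 IH).symm) (f415658 IH)
theorem f139914 : Led Lsl_ft (LP (LK LD1_c6 LD2_c12 LD3_c43)) = (LP (LK LD1_c12 LD2_c4 LD3_c39)) :=
  Lre_f IH (LK LD1_c6 LD2_c12 LD3_c43) (LK LD1_c12 LD2_c4 LD3_c39) Lrfl Lrfl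
theorem f706128 : Led Lsl_af (LP (LK LD1_c7 LD2_c59 LD3_c49)) = (LP (LK LD1_c12 LD2_c4 LD3_c39)) :=
  Lgr Lrot45 (Lpe (f504194 IH) (Lpq (f706122 IH) (Lpe (f701632 IH) (Lpr_ft (f139914 IH) (Lpn (LP (LK LD1_c12 LD2_c4 LD3_c39)))))))
theorem f413489 : Led Lsl_bt (LP (LK LD1_c6 LD2_c12 LD3_c29)) = (LP (LK LD1_c3 LD2_c2 LD3_c50)) :=
  Lre_b IH (LK LD1_c6 LD2_c12 LD3_c29) (LK LD1_c3 LD2_c2 LD3_c50) Lrfl Lrfl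
theorem f413491 : Led Lsl_df (LP (LK LD1_c6 LD2_c12 LD3_c29)) = (LP (LK LD1_c7 LD2_c59 LD3_c49)) :=
  Lgr Lrot12 (Lpr_bt (f413489 IH) (Lpr_dt (K16.f413487 IH) (Lpr_bt (f413490 IH) (Lpn (LP (LK LD1_c7 LD2_c59 LD3_c49))))))
theorem f640807 : Led Lsl_et (LP (LK LD1_c5 LD2_c52 LD3_c9)) = (LP (LK LD1_c11 LD2_c31 LD3_c14)) :=
  Lre_e IH (LK LD1_c5 LD2_c52 LD3_c9) (LK LD1_c11 LD2_c31 LD3_c14) Lrfl Lrfl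
theorem f640808 : Led Lsl_ff (LP (LK LD1_c11 LD2_c28 LD3_c61)) = (LP (LK LD1_c11 LD2_c31 LD3_c14)) :=
  Lgr Lrot72 (Lpr_et (f139904 IH) (Lpe (K35.f504383 IH) (Lpr_et (K41.f615357 IH) (Lpr_ft (K50.f640801 IH) (Lpr_et (f640807 IH) (Lpn (LP (LK LD1_c11 LD2_c31 LD3_c14))))))))
theorem f640814 : Led Lsl_dt (LP (LK LD1_c12 LD2_c4 LD3_c39)) = (LP (LK LD1_c11 LD2_c31 LD3_c14)) :=
  Lgr Lrot60 (Lpe (f139914 IH) (Lpr_df (f139911 IH) (Lpr_ff (f640808 IH) (Lpn (LP (LK LD1_c11 LD2_c31 LD3_c14))))))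
theorem f640816 : Led Lsl_df (LP (LK LD1_c12 LD2_c4 LD3_c39)) = (LP (LK LD1_c11 LD2_c31 LD3_c14)) :=
  Lgr Lrot38 (Lpr_dt (f640814 IH) (Lpn (LP (LK LD1_c11 LD2_c31 LD3_c14))))
theorem f706134 : Led Lsl_at (LP (LK LD1_c6 LD2_c12 LD3_c29)) = (LP (LK LD1_c11 LD2_c31 LD3_c14)) :=
  Lgr Lrot51 (Lpr_df (f413491 IH) (Lpr_af (f706128 IH) (Lpr_df (f640816 IH) (Lpn (LP (LK LD1_c11 LD2_c31 LD3_c14))))))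
theorem f503735 : Led Lsl_bt (LP (LK LD1_c4 LD2_c57 LD3_c53)) = (LP (LK LD1_c9 LD2_c46 LD3_c38)) :=
  Lre_b IH (LK LD1_c4 LD2_c57 LD3_c53) (LK LD1_c9 LD2_c46 LD3_c38) Lrfl Lrfl
theorem f503747 : Led Lsl_ft (LP (LK LD1_c9 LD2_c46 LD3_c38)) = (LP (LK LD1_c6 LD2_c12 LD3_c29)) :=
  Lgr Lrot75 (Lpe (f503735 IH) (Lpr_ff (K32.f503745 IH) (Lpe (f413489 IH) (Lpn (LP (LK LD1_c6 LD2_c12 LD3_c29))))))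
theorem f706138 : Led Lsl_af (LP (LK LD1_c9 LD2_c46 LD3_c38)) = (LP (LK LD1_c11 LD2_c28 LD3_c61)) :=
  Lgr Lrot45 (Lpr_ft (f503747 IH) (Lpr_at (f706134 IH) (Lpe (f640808 IH) (Lpn (LP (LK LD1_c11 LD2_c28 LD3_c61))))))
theorem f139909 : Led Lsl_et (LP (LK LD1_c5 LD2_c50 LD3_c32)) = (LP (LK LD1_c11 LD2_c28 LD3_c61)) :=
  Lre_e IH (LK LD1_c5 LD2_c50 LD3_c32) (LK LD1_c11 LD2_c28 LD3_c61) Lrfl Lrfl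
theorem f706142 : Led Lsl_et (LP (LK LD1_c9 LD2_c46 LD3_c38)) = (LP (LK LD1_c6 LD2_c21 LD3_c40)) :=
  Lgr Lrot123 (Lpr_af (f706138 IH) (Lpe (f139909 IH) (Lpe (K35.f504371 IH) (Lpn (LP (LK LD1_c6 LD2_c21 LD3_c40))))))
theorem f415726 : Led Lsl_dt (LP (LK LD1_c9 LD2_c46 LD3_c38)) = (LP (LK LD1_c4 LD2_c57 LD3_c52)) :=
  Lre_d IH (LK LD1_c9 LD2_c46 LD3_c38) (LK LD1_c4 LD2_c57 LD3_c52) Lrfl Lrfl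
theorem f415682 : Led Lsl_gt (LP (LK LD1_c4 LD2_c57 LD3_c52)) = (LP (LK LD1_c9 LD2_c46 LD3_c36)) :=
  Lre_g IH (LK LD1_c4 LD2_c57 LD3_c52) (LK LD1_c9 LD2_c46 LD3_c36) Lrfl Lrfl
theorem f163561 : Led Lsl_ft (LP (LK LD1_c2 LD2_c13 LD3_c52)) = (LP (LK LD1_c1 LD2_c21 LD3_c42)) :=
  Lgr Lrot48 (Lpr_ff (K8.f163554 IH) (Lpn (LP (LK LD1_c1 LD2_c21 LD3_c42))))
theorem f653314 : Led Lsl_et v4871 = K50.v2181 :=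
  Lgr Lrot69 (Lpe (f640652 IH) (Lpe (K50.f163563 IH) (Lpe (f163561 IH) (Lpr_ef (K50.f631717 IH) (Lpr_ff (K50.f653313 IH) (Lpn K50.v2181))))))
theorem f706147 : Led Lsl_df (LP (LK LD1_c9 LD2_c46 LD3_c36)) = v4871 :=
  Lgr Lrot168 (Lpe (f415682 IH) (Lpe (f415726 IH) (Lpr_et (f706142 IH) (Lpe (K32.f438471 IH) (Lpr_ef (K50.f647910 IH) (Lpe (K50.f647909 IH) (Lpqs (K50.f699746 IH) (Lpr_gf (K50.f705916 IH) (Lpe (K50.f705908 IH) (Lpr_gf (K50.f509500 IH) (Lpe (f653314 IH) (Lpn v4871))))))))))))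
theorem f452213 : Led Lsl_et (LP (LK LD1_c11 LD2_c31 LD3_c14)) = (LP (LK LD1_c5 LD2_c52 LD3_c9)) :=
  Lre_e IH (LK LD1_c11 LD2_c31 LD3_c14) (LK LD1_c5 LD2_c52 LD3_c9) Lrfl Lrfl
theorem f706151 : Led Lsl_gt (LP (LK LD1_c9 LD2_c46 LD3_c36)) = (LP (LK LD1_c12 LD2_c4 LD3_c39)) :=
  Lgr Lrot112 (Lpr_df (f706147 IH) (Lpr_et (f653314 IH) (Lpe (K50.f509499 IH) (Lpe (K46.f454220 IH) (Lpr_dt (K46.f653262 IH) (Lpqs (K46.f653287 IH) (Lpr_gf (f319508 IH) (Lpr_df (K41.f615375 IH) (Lpr_gf (K41.f496490 IH) (Lpe (f452213 IH) (Lpe (f640816 IH) (Lpn (LP (LK LD1_c12 LD2_c4 LD3_c39))))))))))))))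
theorem f615387 : Led Lsl_df (LP (LK LD1_c5 LD2_c14 LD3_c42)) = (LP (LK LD1_c5 LD2_c52 LD3_c14)) :=
  Lgr Lrot38 (Lpr_dt (K41.f615381 IH) (Lpn (LP (LK LD1_c5 LD2_c52 LD3_c14))))
theorem f165765 : Led Lsl_gt (LP (LK LD1_c5 LD2_c8 LD3_c15)) = (LP (LK LD1_c2 LD2_c31 LD3_c20)) :=
  Lre_g IH (LK LD1_c5 LD2_c8 LD3_c15) (LK LD1_c2 LD2_c31 LD3_c20) Lrfl Lrfl
theorem f408438 : Led Lsl_gt (LP (LK LD1_c5 LD2_c14 LD3_c42)) = (LP (LK LD1_c5 LD2_c8 LD3_c15)) :=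
  Lgr Lrot5 (Lpr_ft (K17.f180712 IH) (Lpr_at (K41.f288223 IH) (Lpe (f165765 IH) (Lpn (LP (LK LD1_c5 LD2_c8 LD3_c15))))))
theorem f633893 : Led Lsl_et (LP (LK LD1_c5 LD2_c0 LD3_c12)) = (LP (LK LD1_c2 LD2_c27 LD3_c50)) :=
  Lre_e IH (LK LD1_c5 LD2_c0 LD3_c12) (LK LD1_c2 LD2_c27 LD3_c50) Lrfl Lrfl
def v12342 : LQ := Led Lsl_bt (LP (LK LD1_c4 LD2_c6 LD3_c5))
theorem f691622 : Led Lsl_bt (LP (LK LD1_c4 LD2_c6 LD3_c5)) = v12342 :=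
  Lrfl
theorem f73213 : Led Lsl_bt (LP (LK LD1_c5 LD2_c0 LD3_c12)) = (LP (LK LD1_c2 LD2_c27 LD3_c52)) :=
  Lre_b IH (LK LD1_c5 LD2_c0 LD3_c12) (LK LD1_c2 LD2_c27 LD3_c52) Lrfl Lrfl
theorem f691624 : Led Lsl_df (LP (LK LD1_c5 LD2_c0 LD3_c12)) = v12342 :=
  Lgr Lrot12 (Lpr_bt (f73213 IH) (Lpe (K32.f73211 IH) (Lpr_bt (f691622 IH) (Lpn v12342))))
theorem f691625 : Led Lsl_dt (LP (LK LD1_c5 LD2_c0 LD3_c12)) = v12342 :=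
  Lgr Lrot42 (Lpr_df (f691624 IH) (Lpn v12342))
theorem f707151 : (LP (LK LD1_c5 LD2_c8 LD3_c15)) = v12342 :=
  (Llr Lrot112 (Lpe (f408438 IH) (Lpr_df (f615387 IH) (Lpr_et (K41.f496463 IH) (Lpr_gf (K41.f496490 IH) (Lpe (f452213 IH) (Lpe (f640816 IH) (Lpe (f706151 IH) (Lpr_df (f706147 IH) (Lpqs (f707134 IH) (Lpe (f415658 IH) (Lpe (f633893 IH) (Lpr_dt (f691625 IH) (Lpn v12342)))))))))))))).symm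
theorem f140285 : Led Lsl_gt (LP (LK LD1_c4 LD2_c33 LD3_c44)) = (LP (LK LD1_c9 LD2_c4 LD3_c60)) :=
  Lre_g IH (LK LD1_c4 LD2_c33 LD3_c44) (LK LD1_c9 LD2_c4 LD3_c60) Lrfl Lrfl
theorem f640150 : Led Lsl_gf (LP (LK LD1_c5 LD2_c46 LD3_c2)) = (LP (LK LD1_c9 LD2_c4 LD3_c60)) :=
  Lgr Lrot76 (Lpe (f495949 IH) (Lpr_ff (f640131 IH) (Lpr_gt (f140285 IH) (Lpn (LP (LK LD1_c9 LD2_c4 LD3_c60))))))
theorem f707054 : Led Lsl_ff (LP (LK LD1_c5 LD2_c42 LD3_c29)) = (LP (LK LD1_c9 LD2_c4 LD3_c60)) :=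
  Lgr Lrot52 (Lpr_at (K39.f549269 IH) (Lpqs (f706241 IH) (Lpe (f698726 IH) (Lpr_gf (f640150 IH) (Lpn (LP (LK LD1_c9 LD2_c4 LD3_c60)))))))
theorem f707059 : Led Lsl_ft (LP (LK LD1_c5 LD2_c42 LD3_c29)) = (LP (LK LD1_c9 LD2_c4 LD3_c60)) :=
  Lgr Lrot48 (Lpr_ff (f707054 IH) (Lpn (LP (LK LD1_c9 LD2_c4 LD3_c60))))
theorem f495948 : Led Lsl_at (LP (LK LD1_c5 LD2_c46 LD3_c2)) = (LP (LK LD1_c2 LD2_c48 LD3_c46)) :=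
  Lre_a IH (LK LD1_c5 LD2_c46 LD3_c2) (LK LD1_c2 LD2_c48 LD3_c46) Lrfl Lrfl
theorem f140618 : Led Lsl_gt (LP (LK LD1_c5 LD2_c46 LD3_c1)) = (LP (LK LD1_c2 LD2_c48 LD3_c46)) :=
  Lre_g IH (LK LD1_c5 LD2_c46 LD3_c1) (LK LD1_c2 LD2_c48 LD3_c46) Lrfl Lrfl
theorem f640240 : Led Lsl_gf (LP (LK LD1_c5 LD2_c46 LD3_c1)) = (LP (LK LD1_c9 LD2_c4 LD3_c61)) :=
  Lgr Lrot47 (Lpr_gt (f140618 IH) (Lpe (f495948 IH) (Lpr_ff (f640238 IH) (Lpn (LP (LK LD1_c9 LD2_c4 LD3_c61))))))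
theorem f707064 : Led Lsl_af (LP (LK LD1_c5 LD2_c46 LD3_c1)) = (LP (LK LD1_c9 LD2_c4 LD3_c60)) :=
  Lgr Lrot31 (Lpr_gf (f640240 IH) (Lpr_gf (f640467 IH) (Lpq (f706195 IH) (Lpr_ft (f707059 IH) (Lpn (LP (LK LD1_c9 LD2_c4 LD3_c60)))))))
theorem f707071 : Led Lsl_ft (LP (LK LD1_c5 LD2_c46 LD3_c1)) = (LP (LK LD1_c9 LD2_c2 LD3_c0)) :=
  Lgr Lrot101 (Lpr_af (f707064 IH) (Lpe (f707059 IH) (Lpr_af (K39.f549267 IH) (Lpn (LP (LK LD1_c9 LD2_c2 LD3_c0))))))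
theorem f549452 : Led Lsl_dt (LP (LK LD1_c5 LD2_c57 LD3_c36)) = (LP (LK LD1_c11 LD2_c12 LD3_c35)) :=
  Lgr Lrot42 (Lpr_df (f549446 IH) (Lpn (LP (LK LD1_c11 LD2_c12 LD3_c35))))
theorem f68635 : Led Lsl_dt (LP (LK LD1_c5 LD2_c41 LD3_c1)) = (LP (LK LD1_c3 LD2_c10 LD3_c20)) :=
  Lgr Lrot42 (Lpr_df (K32.f68631 IH) (Lpn (LP (LK LD1_c3 LD2_c10 LD3_c20))))
theorem f549461 : Led Lsl_bf (LP (LK LD1_c5 LD2_c57 LD3_c36)) = (LP (LK LD1_c3 LD2_c10 LD3_c20)) :=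
  Lgr Lrot93 (Lpr_dt (f549452 IH) (Lpr_bt (K39.f68643 IH) (Lpr_dt (f68635 IH) (Lpn (LP (LK LD1_c3 LD2_c10 LD3_c20))))))
theorem f101624 : Led Lsl_et (LP (LK LD1_c2 LD2_c14 LD3_c52)) = (LP (LK LD1_c4 LD2_c35 LD3_c20)) :=
  Lre_e IH (LK LD1_c2 LD2_c14 LD3_c52) (LK LD1_c4 LD2_c35 LD3_c20) Lrfl Lrfl
theorem f101625 : Led Lsl_bt (LP (LK LD1_c4 LD2_c35 LD3_c20)) = (LP (LK LD1_c5 LD2_c57 LD3_c52)) :=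
  Lgr Lrot119 (Lpe (f101624 IH) (Lpr_bf (K7.f101614 IH) (Lpe (f72601 IH) (Lpn (LP (LK LD1_c5 LD2_c57 LD3_c52))))))
theorem f101627 : Led Lsl_bf (LP (LK LD1_c4 LD2_c35 LD3_c20)) = (LP (LK LD1_c5 LD2_c57 LD3_c52)) :=
  Lgr Lrot24 (Lpr_bt (f101625 IH) (Lpn (LP (LK LD1_c5 LD2_c57 LD3_c52))))
theorem f163138 : Led Lsl_ff (LP (LK LD1_c1 LD2_c23 LD3_c2)) = (LP (LK LD1_c2 LD2_c14 LD3_c50)) :=
  Lgr Lrot19 (Lpr_dt (K8.f161073 IH) (Lpr_ft (K8.f163132 IH) (Lpr_dt (K8.f35229 IH) (Lpn (LP (LK LD1_c2 LD2_c14 LD3_c50))))))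
theorem f424767 : Led Lsl_at (LP (LK LD1_c1 LD2_c23 LD3_c2)) = (LP (LK LD1_c2 LD2_c14 LD3_c52)) :=
  Lgr Lrot66 (Lpr_ff (f163138 IH) (Lpe (K8.f163107 IH) (Lpr_ff (K8.f163098 IH) (Lpn (LP (LK LD1_c2 LD2_c14 LD3_c52))))))
theorem f161924 : Led Lsl_et (LP (LK LD1_c2 LD2_c54 LD3_c8)) = (LP (LK LD1_c1 LD2_c23 LD3_c2)) :=
  Lre_e IH (LK LD1_c2 LD2_c54 LD3_c8) (LK LD1_c1 LD2_c23 LD3_c2) Lrfl Lrfl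
theorem f424769 : Led Lsl_af (LP (LK LD1_c2 LD2_c54 LD3_c8)) = (LP (LK LD1_c4 LD2_c35 LD3_c20)) :=
  Lgr Lrot50 (Lpr_et (f161924 IH) (Lpr_at (f424767 IH) (Lpr_et (f101624 IH) (Lpn (LP (LK LD1_c4 LD2_c35 LD3_c20))))))
theorem f549468 : Led Lsl_bt (LP (LK LD1_c2 LD2_c54 LD3_c8)) = (LP (LK LD1_c4 LD2_c42 LD3_c59)) :=
  Lgr Lrot62 (Lpr_af (f424769 IH) (Lpr_bf (f101627 IH) (Lpr_af (f424762 IH) (Lpr_bf (f549461 IH) (Lpr_af (K39.f449224 IH) (Lpn (LP (LK LD1_c4 LD2_c42 LD3_c59))))))))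
theorem f621110 : Led Lsl_df (LP (LK LD1_c2 LD2_c54 LD3_c8)) = (LP (LK LD1_c5 LD2_c42 LD3_c29)) :=
  Lgr Lrot12 (Lpr_bt (f549468 IH) (Lpe (K35.f177080 IH) (Lpr_bt (K39.f549429 IH) (Lpn (LP (LK LD1_c5 LD2_c42 LD3_c29))))))
theorem f621114 : Led Lsl_dt (LP (LK LD1_c2 LD2_c54 LD3_c8)) = (LP (LK LD1_c5 LD2_c42 LD3_c29)) :=
  Lgr Lrot42 (Lpr_df (f621110 IH) (Lpn (LP (LK LD1_c5 LD2_c42 LD3_c29))))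
theorem f621116 : Led Lsl_df (LP (LK LD1_c4 LD2_c35 LD3_c20)) = (LP (LK LD1_c9 LD2_c2 LD3_c0)) :=
  Lgr Lrot18 (Lpe (f424769 IH) (Lpr_dt (f621114 IH) (Lpr_at (K39.f549269 IH) (Lpn (LP (LK LD1_c9 LD2_c2 LD3_c0))))))
def v12957 : LQ := Led Lsl_ft (LP (LK LD1_c4 LD2_c35 LD3_c20))
theorem f699853 : Led Lsl_ft (LP (LK LD1_c4 LD2_c35 LD3_c20)) = v12957 :=
  Lrfl
theorem f707075 : Led Lsl_df (LP (LK LD1_c5 LD2_c46 LD3_c1)) = v12957 :=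
  Lgr Lrot78 (Lpr_ft (f707071 IH) (Lpe (f621116 IH) (Lpr_ft (f699853 IH) (Lpn v12957))))
theorem f699856 : Led Lsl_ff (LP (LK LD1_c4 LD2_c35 LD3_c20)) = v12957 :=
  Lgr Lrot3 (Lpr_ft (f699853 IH) (Lpn v12957))
def v4964 : LQ := Led Lsl_gf (LP (LK LD1_c2 LD2_c54 LD3_c8))
theorem f641091 : Led Lsl_gf (LP (LK LD1_c2 LD2_c54 LD3_c8)) = v4964 :=
  Lrfl
theorem f699860 : Led Lsl_gf v4964 = v12957 :=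
  Lgr Lrot47 (Lpe (f641091 IH) (Lpr_af (f424769 IH) (Lpr_ff (f699856 IH) (Lpn v12957))))
theorem f82012 : Led Lsl_et (LP (LK LD1_c6 LD2_c2 LD3_c18)) = (LP (LK LD1_c2 LD2_c57 LD3_c14)) :=
  Lre_e IH (LK LD1_c6 LD2_c2 LD3_c18) (LK LD1_c2 LD2_c57 LD3_c14) Lrfl Lrfl
theorem f82013 : Led Lsl_et (LP (LK LD1_c5 LD2_c56 LD3_c0)) = (LP (LK LD1_c11 LD2_c37 LD3_c12)) :=
  Lre_e IH (LK LD1_c5 LD2_c56 LD3_c0) (LK LD1_c11 LD2_c37 LD3_c12) Lrfl Lrfl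
theorem f82014 : Led Lsl_cf (LP (LK LD1_c6 LD2_c2 LD3_c18)) = (LP (LK LD1_c11 LD2_c37 LD3_c12)) :=
  Lgr Lrot39 (Lpr_et (f82012 IH) (Lpr_ct (K6.f82000 IH) (Lpr_et (f82013 IH) (Lpn (LP (LK LD1_c11 LD2_c37 LD3_c12))))))
theorem f82021 : Led Lsl_ct (LP (LK LD1_c6 LD2_c2 LD3_c18)) = (LP (LK LD1_c11 LD2_c37 LD3_c12)) :=
  Lgr Lrot59 (Lpr_cf (f82014 IH) (Lpn (LP (LK LD1_c11 LD2_c37 LD3_c12))))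
theorem f82026 : Led Lsl_et (LP (LK LD1_c11 LD2_c37 LD3_c12)) = (LP (LK LD1_c5 LD2_c56 LD3_c0)) :=
  Lre_e IH (LK LD1_c11 LD2_c37 LD3_c12) (LK LD1_c5 LD2_c56 LD3_c0) Lrfl Lrfl
theorem f172481 : Led Lsl_et (LP (LK LD1_c11 LD2_c15 LD3_c29)) = (LP (LK LD1_c20 LD2_c10 LD3_c37)) :=
  Lre_e IH (LK LD1_c11 LD2_c15 LD3_c29) (LK LD1_c20 LD2_c10 LD3_c37) Lrfl Lrfl
theorem f573001 : Led Lsl_df (LP (LK LD1_c11 LD2_c37 LD3_c12)) = (LP (LK LD1_c20 LD2_c10 LD3_c37)) :=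
  Lgr Lrot70 (Lpr_et (f82026 IH) (Lpr_dt (K6.f81999 IH) (Lpr_et (K43.f572997 IH) (Lpr_dt (K31.f172489 IH) (Lpr_et (f172481 IH) (Lpn (LP (LK LD1_c20 LD2_c10 LD3_c37))))))))
theorem f612921 : Led Lsl_dt (LP (LK LD1_c11 LD2_c37 LD3_c12)) = (LP (LK LD1_c20 LD2_c10 LD3_c37)) :=
  Lgr Lrot42 (Lpr_df (f573001 IH) (Lpn (LP (LK LD1_c20 LD2_c10 LD3_c37))))
theorem f172487 : Led Lsl_et (LP (LK LD1_c20 LD2_c10 LD3_c37)) = (LP (LK LD1_c11 LD2_c15 LD3_c29)) :=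
  Lre_e IH (LK LD1_c20 LD2_c10 LD3_c37) (LK LD1_c11 LD2_c15 LD3_c29) Lrfl Lrfl
theorem f422944 : Led Lsl_et (LP (LK LD1_c5 LD2_c45 LD3_c24)) = (LP (LK LD1_c11 LD2_c21 LD3_c17)) :=
  Lre_e IH (LK LD1_c5 LD2_c45 LD3_c24) (LK LD1_c11 LD2_c21 LD3_c17) Lrfl Lrfl
theorem f423753 : Led Lsl_cf (LP (LK LD1_c20 LD2_c10 LD3_c37)) = (LP (LK LD1_c11 LD2_c21 LD3_c17)) :=
  Lgr Lrot39 (Lpr_et (f172487 IH) (Lpr_ct (K31.f423741 IH) (Lpr_et (f422944 IH) (Lpn (LP (LK LD1_c11 LD2_c21 LD3_c17))))))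
theorem f633848 : Led Lsl_dt (LP (LK LD1_c9 LD2_c50 LD3_c61)) = (LP (LK LD1_c5 LD2_c0 LD3_c18)) :=
  Lre_d IH (LK LD1_c9 LD2_c50 LD3_c61) (LK LD1_c5 LD2_c0 LD3_c18) Lrfl Lrfl
def v12301 : LQ := Led Lsl_gf (LP (LK LD1_c3 LD2_c59 LD3_c53))
theorem f689255 : Led Lsl_gf (LP (LK LD1_c3 LD2_c59 LD3_c53)) = v12301 :=
  Lrfl
theorem f629269 : Led Lsl_at (LP (LK LD1_c8 LD2_c0 LD3_c52)) = (LP (LK LD1_c3 LD2_c59 LD3_c53)) :=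
  Lre_a IH (LK LD1_c8 LD2_c0 LD3_c52) (LK LD1_c3 LD2_c59 LD3_c53) Lrfl Lrfl
theorem f416069 : Led Lsl_ct (LP (LK LD1_c6 LD2_c12 LD3_c54)) = (LP (LK LD1_c3 LD2_c3 LD3_c11)) :=
  Lre_c IH (LK LD1_c6 LD2_c12 LD3_c54) (LK LD1_c3 LD2_c3 LD3_c11) Lrfl Lrfl
theorem f416061 : Led Lsl_ct (LP (LK LD1_c3 LD2_c3 LD3_c11)) = (LP (LK LD1_c6 LD2_c12 LD3_c54)) :=
  Lre_c IH (LK LD1_c3 LD2_c3 LD3_c11) (LK LD1_c6 LD2_c12 LD3_c54) Lrfl Lrfl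
theorem f416062 : Led Lsl_gt (LP (LK LD1_c6 LD2_c12 LD3_c54)) = (LP (LK LD1_c6 LD2_c27 LD3_c49)) :=
  Lgr Lrot150 (Lpe (f416061 IH) (Lpe (K32.f23291 IH) (Lpe (K0.f23290 IH) (Lpr_gt (K24.f20095 IH) (Lpr_ct (f416057 IH) (Lpr_gt (K32.f73608 IH) (Lpe (K2.f73510 IH) (Lpr_df (K2.f68273 IH) (Lpe (K2.f67450 IH) (Lpn (LP (LK LD1_c6 LD2_c27 LD3_c49))))))))))))
theorem f67466 : Led Lsl_at (LP (LK LD1_c6 LD2_c18 LD3_c55)) = (LP (LK LD1_c6 LD2_c27 LD3_c49)) :=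
  Lgr Lrot100 (Lpr_af (K2.f67462 IH) (Lpn (LP (LK LD1_c6 LD2_c27 LD3_c49))))
theorem f416067 : Led Lsl_gf (LP (LK LD1_c6 LD2_c12 LD3_c54)) = (LP (LK LD1_c3 LD2_c6 LD3_c46)) :=
  Lgr Lrot47 (Lpr_gt (f416062 IH) (Lpe (f67466 IH) (Lpe (K2.f67512 IH) (Lpn (LP (LK LD1_c3 LD2_c6 LD3_c46))))))
theorem f506236 : Led Lsl_gt (LP (LK LD1_c3 LD2_c24 LD3_c16)) = K32.v1885 :=
  Lgr Lrot46 (Lpr_gf (K46.f506235 IH) (Lpe (K46.f504822 IH) (Lpr_at (K32.f504814 IH) (Lpn K32.v1885))))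
def v3204 : LQ := Led Lsl_gf K35.v567
theorem f624606 : Led Lsl_gf K35.v567 = v3204 :=
  Lrfl
theorem f624607 : Led Lsl_gt K35.v568 = v3204 :=
  Lgr Lrot5 (Lpe (K35.f454805 IH) (Lpr_at (K35.f454799 IH) (Lpr_gf (f624606 IH) (Lpn v3204))))
theorem f633557 : v3204 = (LP (LK LD1_c0 LD2_c31 LD3_c21)) :=
  Lefun (Lecon (f624607 IH) (K35.f633556 IH)) (K32.f135597 IH)
theorem f633576 : K35.v567 = (LP (LK LD1_c1 LD2_c8 LD3_c32)) :=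
  Lefun (Lecon (Lfl_gf (f624606 IH)) (f633557 IH)) (K29.f23819 IH)
theorem f633598 : K35.v2209 = (LP (LK LD1_c2 LD2_c22 LD3_c51)) :=
  Lefun (Lecon (K35.f509687 IH) (f633576 IH)) (K0.f23796 IH)
theorem f633549 : Led Lsl_ff K35.v2209 = K35.v4463 :=
  Lgr Lrot3 (Lpr_ft (K35.f633548 IH) (Lpn K35.v4463))
theorem f633534 : Led Lsl_dt (LP (LK LD1_c3 LD2_c6 LD3_c9)) = K35.v4463 :=
  Lgr Lrot42 (Lpr_df (K35.f633531 IH) (Lpn K35.v4463))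
theorem f633603 : Led Lsl_ff (LP (LK LD1_c3 LD2_c6 LD3_c9)) = (LP (LK LD1_c3 LD2_c3 LD3_c12)) :=
  Lgr Lrot19 (Lpr_dt (f633534 IH) (Lpe (f633549 IH) (Lpqs (f633598 IH) (Lpe (K0.f23802 IH) (Lpn (LP (LK LD1_c3 LD2_c3 LD3_c12)))))))
theorem f633609 : Led Lsl_at (LP (LK LD1_c3 LD2_c6 LD3_c9)) = (LP (LK LD1_c3 LD2_c3 LD3_c11)) :=
  Lgr Lrot26 (Lpr_ff (f633603 IH) (Lpr_gt (K0.f20170 IH) (Lpr_gt (K32.f23291 IH) (Lpn (LP (LK LD1_c3 LD2_c3 LD3_c11))))))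
theorem f633529 : Led Lsl_at K35.v2210 = K35.v4463 :=
  Lgr Lrot26 (Lpe (K35.f509688 IH) (Lpe (K32.f135509 IH) (Lpr_gt (K35.f633528 IH) (Lpn K35.v4463))))
theorem f633615 : K35.v2210 = (LP (LK LD1_c3 LD2_c19 LD3_c31)) :=
  (Llr Lrot117 (Lpr_at (f633529 IH) (Lpe (K35.f633531 IH) (Lpr_at (f633609 IH) (Lpe (K32.f446078 IH) (Lpn (LP (LK LD1_c3 LD2_c19 LD3_c31)))))))).symm
theorem f509691 : Led Lsl_ct (LP (LK LD1_c5 LD2_c0 LD3_c16)) = K35.v2210 :=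
  Lgr Lrot40 (Lpe (K35.f73219 IH) (Lpe (K32.f415650 IH) (Lpr_ff (K35.f509690 IH) (Lpn K35.v2210))))
theorem f633708 : Led Lsl_gt (LP (LK LD1_c2 LD2_c51 LD3_c30)) = (LP (LK LD1_c5 LD2_c0 LD3_c16)) :=
  Lgr Lrot187 (Lpr_cf (K32.f500036 IH) (Lpq (K32.f504901 IH) (Lpe (f506236 IH) (Lpe (K9.f61772 IH) (Lpr_gt (K9.f61771 IH) (Lpr_ct (K2.f61782 IH) (Lpe (f416067 IH) (Lpr_ct (f416069 IH) (Lpe (K32.f446078 IH) (Lpq (f633615 IH) (Lpe (f509691 IH) (Lpn (LP (LK LD1_c5 LD2_c0 LD3_c16))))))))))))))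
theorem f500033 : Led Lsl_et (LP (LK LD1_c1 LD2_c21 LD3_c47)) = (LP (LK LD1_c2 LD2_c51 LD3_c30)) :=
  Lre_e IH (LK LD1_c1 LD2_c21 LD3_c47) (LK LD1_c2 LD2_c51 LD3_c30) Lrfl Lrfl
theorem f139890 : Led Lsl_dt (LP (LK LD1_c1 LD2_c21 LD3_c47)) = (LP (LK LD1_c2 LD2_c51 LD3_c29)) :=
  Lre_d IH (LK LD1_c1 LD2_c21 LD3_c47) (LK LD1_c2 LD2_c51 LD3_c29) Lrfl Lrfl
theorem f55708 : Led Lsl_af (LP (LK LD1_c4 LD2_c6 LD3_c6)) = (LP (LK LD1_c4 LD2_c7 LD3_c27)) :=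
  Lgr Lrot0 (Lpr_at (K9.f55701 IH) (Lpn (LP (LK LD1_c4 LD2_c7 LD3_c27))))
theorem f55787 : Led Lsl_ft (LP (LK LD1_c2 LD2_c1 LD3_c3)) = (LP (LK LD1_c4 LD2_c7 LD3_c27)) :=
  Lre_f IH (LK LD1_c2 LD2_c1 LD3_c3) (LK LD1_c4 LD2_c7 LD3_c27) Lrfl Lrfl
theorem f55788 : Led Lsl_gt (LP (LK LD1_c2 LD2_c1 LD3_c3)) = (LP (LK LD1_c4 LD2_c7 LD3_c25)) :=
  Lre_g IH (LK LD1_c2 LD2_c1 LD3_c3) (LK LD1_c4 LD2_c7 LD3_c25) Lrfl Lrfl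
theorem f55789 : Led Lsl_gf (LP (LK LD1_c4 LD2_c6 LD3_c6)) = (LP (LK LD1_c4 LD2_c7 LD3_c25)) :=
  Lgr Lrot76 (Lpr_af (f55708 IH) (Lpe (f55787 IH) (Lpr_gt (f55788 IH) (Lpn (LP (LK LD1_c4 LD2_c7 LD3_c25))))))
theorem f633711 : Led Lsl_df (LP (LK LD1_c4 LD2_c7 LD3_c25)) = (LP (LK LD1_c5 LD2_c0 LD3_c16)) :=
  Lgr Lrot135 (Lpe (f55789 IH) (Lpr_df (K2.f73226 IH) (Lpr_et (K2.f73787 IH) (Lpe (K16.f139922 IH) (Lpe (K9.f139902 IH) (Lpr_dt (K9.f139900 IH) (Lpr_gt (K35.f506174 IH) (Lpe (f139890 IH) (Lpr_et (f500033 IH) (Lpr_gt (f633708 IH) (Lpn (LP (LK LD1_c5 LD2_c0 LD3_c16)))))))))))))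
theorem f633715 : Led Lsl_ft (LP (LK LD1_c4 LD2_c7 LD3_c25)) = (LP (LK LD1_c4 LD2_c6 LD3_c5)) :=
  Lgr Lrot54 (Lpr_df (f633711 IH) (Lpe (K35.f73219 IH) (Lpe (K32.f73214 IH) (Lpn (LP (LK LD1_c4 LD2_c6 LD3_c5))))))
theorem f633719 : Led Lsl_af (LP (LK LD1_c4 LD2_c7 LD3_c26)) = (LP (LK LD1_c4 LD2_c6 LD3_c5)) :=
  Lgr Lrot31 (Lpe (K32.f55799 IH) (Lpr_gf (f55789 IH) (Lpr_ft (f633715 IH) (Lpn (LP (LK LD1_c4 LD2_c6 LD3_c5))))))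
theorem f633723 : Led Lsl_at (LP (LK LD1_c3 LD2_c59 LD3_c55)) = (LP (LK LD1_c2 LD2_c27 LD3_c52)) :=
  Lgr Lrot51 (Lpe (K32.f79894 IH) (Lpr_af (f633719 IH) (Lpr_df (K32.f73211 IH) (Lpn (LP (LK LD1_c2 LD2_c27 LD3_c52))))))
theorem f633730 : Led Lsl_ff (LP (LK LD1_c3 LD2_c59 LD3_c55)) = (LP (LK LD1_c6 LD2_c22 LD3_c5)) :=
  Lgr Lrot30 (Lpr_at (f633723 IH) (Lpr_ft (K35.f73219 IH) (Lpe (K35.f438608 IH) (Lpn (LP (LK LD1_c6 LD2_c22 LD3_c5))))))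
theorem f504805 : Led Lsl_dt (LP (LK LD1_c4 LD2_c6 LD3_c4)) = (LP (LK LD1_c6 LD2_c22 LD3_c5)) :=
  Lgr Lrot42 (Lpr_df (K32.f504799 IH) (Lpn (LP (LK LD1_c6 LD2_c22 LD3_c5))))
theorem f633734 : Led Lsl_ft (LP (LK LD1_c4 LD2_c7 LD3_c26)) = (LP (LK LD1_c4 LD2_c6 LD3_c4)) :=
  Lgr Lrot54 (Lpr_df (K32.f79888 IH) (Lpr_ff (f633730 IH) (Lpe (f504805 IH) (Lpn (LP (LK LD1_c4 LD2_c6 LD3_c4))))))
theorem f633736 : Led Lsl_af (LP (LK LD1_c4 LD2_c7 LD3_c25)) = (LP (LK LD1_c4 LD2_c6 LD3_c4)) :=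
  Lgr Lrot45 (Lpr_ft (f633715 IH) (Lpe (f633719 IH) (Lpr_ft (f633734 IH) (Lpn (LP (LK LD1_c4 LD2_c6 LD3_c4))))))
theorem f194077 : Led Lsl_et (LP (LK LD1_c4 LD2_c7 LD3_c25)) = (LP (LK LD1_c8 LD2_c14 LD3_c58)) :=
  Lre_e IH (LK LD1_c4 LD2_c7 LD3_c25) (LK LD1_c8 LD2_c14 LD3_c58) Lrfl Lrfl
theorem f55718 : Led Lsl_et (LP (LK LD1_c8 LD2_c12 LD3_c54)) = (LP (LK LD1_c4 LD2_c6 LD3_c4)) :=
  Lre_e IH (LK LD1_c8 LD2_c12 LD3_c54) (LK LD1_c4 LD2_c6 LD3_c4) Lrfl Lrfl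
theorem f633747 : Led Lsl_at (LP (LK LD1_c8 LD2_c14 LD3_c58)) = (LP (LK LD1_c8 LD2_c12 LD3_c54)) :=
  Lgr Lrot80 (Lpe (f194077 IH) (Lpr_af (f633736 IH) (Lpe (f55718 IH) (Lpn (LP (LK LD1_c8 LD2_c12 LD3_c54))))))
theorem f172053 : Led Lsl_et (LP (LK LD1_c5 LD2_c7 LD3_c28)) = (LP (LK LD1_c2 LD2_c31 LD3_c1)) :=
  Lre_e IH (LK LD1_c5 LD2_c7 LD3_c28) (LK LD1_c2 LD2_c31 LD3_c1) Lrfl Lrfl
theorem f172054 : Led Lsl_dt (LP (LK LD1_c5 LD2_c7 LD3_c28)) = (LP (LK LD1_c2 LD2_c31 LD3_c0)) :=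
  Lre_d IH (LK LD1_c5 LD2_c7 LD3_c28) (LK LD1_c2 LD2_c31 LD3_c0) Lrfl Lrfl
theorem f194070 : Led Lsl_gt (LP (LK LD1_c5 LD2_c7 LD3_c27)) = (LP (LK LD1_c2 LD2_c31 LD3_c0)) :=
  Lre_g IH (LK LD1_c5 LD2_c7 LD3_c27) (LK LD1_c2 LD2_c31 LD3_c0) Lrfl Lrfl
theorem f55698 : Led Lsl_et (LP (LK LD1_c0 LD2_c57 LD3_c34)) = (LP (LK LD1_c2 LD2_c1 LD3_c3)) :=
  Lre_e IH (LK LD1_c0 LD2_c57 LD3_c34) (LK LD1_c2 LD2_c1 LD3_c3) Lrfl Lrfl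
theorem f55792 : Led Lsl_et (LP (LK LD1_c8 LD2_c14 LD3_c58)) = (LP (LK LD1_c4 LD2_c7 LD3_c25)) :=
  Lre_e IH (LK LD1_c8 LD2_c14 LD3_c58) (LK LD1_c4 LD2_c7 LD3_c25) Lrfl Lrfl
theorem f194071 : Led Lsl_df (LP (LK LD1_c5 LD2_c7 LD3_c27)) = (LP (LK LD1_c8 LD2_c14 LD3_c58)) :=
  Lgr Lrot170 (Lpr_gt (f194070 IH) (Lpe (f172054 IH) (Lpr_et (f172053 IH) (Lpr_gt (K43.f194059 IH) (Lpr_dt (K22.f21264 IH) (Lpe (K9.f177817 IH) (Lpe (K10.f55579 IH) (Lpr_et (f55698 IH) (Lpr_gt (f55788 IH) (Lpe (f55792 IH) (Lpn (LP (LK LD1_c8 LD2_c14 LD3_c58)))))))))))))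
theorem f194075 : Led Lsl_dt (LP (LK LD1_c5 LD2_c7 LD3_c27)) = (LP (LK LD1_c8 LD2_c14 LD3_c58)) :=
  Lgr Lrot42 (Lpr_df (f194071 IH) (Lpn (LP (LK LD1_c8 LD2_c14 LD3_c58))))
theorem f193922 : Led Lsl_gt (LP (LK LD1_c1 LD2_c5 LD3_c22)) = (LP (LK LD1_c1 LD2_c13 LD3_c60)) :=
  Lgr Lrot9 (Lpr_df (K9.f172060 IH) (Lpr_gt (K9.f55458 IH) (Lpr_ct (K1.f55432 IH) (Lpr_gt (K10.f183432 IH) (Lpe (K11.f183426 IH) (Lpr_df (K9.f181136 IH) (Lpe (K10.f28354 IH) (Lpe (K10.f28403 IH) (Lpr_cf (K37.f193919 IH) (Lpn (LP (LK LD1_c1 LD2_c13 LD3_c60))))))))))))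
theorem f193926 : Led Lsl_gf (LP (LK LD1_c1 LD2_c25 LD3_c43)) = (LP (LK LD1_c2 LD2_c34 LD3_c1)) :=
  Lgr Lrot143 (Lpr_dt (K11.f20674 IH) (Lpe (K9.f20660 IH) (Lpe (K9.f20653 IH) (Lpe (K9.f20672 IH) (Lpr_df (K10.f20702 IH) (Lpr_gf (K10.f178989 IH) (Lpe (K22.f22386 IH) (Lpr_gt (f193922 IH) (Lpr_dt (K18.f56666 IH) (Lpn (LP (LK LD1_c2 LD2_c34 LD3_c1))))))))))))
theorem f55796 : Led Lsl_et (LP (LK LD1_c0 LD2_c57 LD3_c7)) = (LP (LK LD1_c2 LD2_c0 LD3_c19)) :=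
  Lre_e IH (LK LD1_c0 LD2_c57 LD3_c7) (LK LD1_c2 LD2_c0 LD3_c19) Lrfl Lrfl
theorem f193931 : Led Lsl_dt (LP (LK LD1_c8 LD2_c12 LD3_c54)) = (LP (LK LD1_c5 LD2_c14 LD3_c19)) :=
  Lgr Lrot136 (Lpr_et (f55718 IH) (Lpe (K32.f55714 IH) (Lpe (f55796 IH) (Lpr_dt (K1.f55381 IH) (Lpr_gf (K9.f177381 IH) (Lpe (K11.f20674 IH) (Lpr_gf (f193926 IH) (Lpe (K18.f169129 IH) (Lpr_dt (K18.f169130 IH) (Lpe (K48.f193930 IH) (Lpn (LP (LK LD1_c5 LD2_c14 LD3_c19)))))))))))))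
theorem f633751 : Led Lsl_af (LP (LK LD1_c5 LD2_c7 LD3_c27)) = (LP (LK LD1_c5 LD2_c14 LD3_c19)) :=
  Lgr Lrot117 (Lpr_dt (f194075 IH) (Lpr_at (f633747 IH) (Lpr_dt (f193931 IH) (Lpn (LP (LK LD1_c5 LD2_c14 LD3_c19))))))
theorem f301833 : Led Lsl_gt (LP (LK LD1_c5 LD2_c14 LD3_c21)) = (LP (LK LD1_c5 LD2_c7 LD3_c27)) :=
  Lgr Lrot5 (Lpr_ft (K18.f301819 IH) (Lpr_at (K18.f301820 IH) (Lpe (f194070 IH) (Lpn (LP (LK LD1_c5 LD2_c7 LD3_c27))))))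
theorem f164096 : Led Lsl_gt (LP (LK LD1_c2 LD2_c31 LD3_c0)) = (LP (LK LD1_c5 LD2_c7 LD3_c26)) :=
  Lre_g IH (LK LD1_c2 LD2_c31 LD3_c0) (LK LD1_c5 LD2_c7 LD3_c26) Lrfl Lrfl
theorem f301822 : Led Lsl_gf (LP (LK LD1_c5 LD2_c14 LD3_c21)) = (LP (LK LD1_c5 LD2_c7 LD3_c26)) :=
  Lgr Lrot76 (Lpr_af (K18.f301810 IH) (Lpe (K18.f301816 IH) (Lpr_gt (f164096 IH) (Lpn (LP (LK LD1_c5 LD2_c7 LD3_c26))))))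
theorem f633755 : Led Lsl_ft (LP (LK LD1_c5 LD2_c7 LD3_c26)) = (LP (LK LD1_c5 LD2_c14 LD3_c19)) :=
  Lgr Lrot2 (Lpe (f301822 IH) (Lpr_gt (f301833 IH) (Lpr_af (f633751 IH) (Lpn (LP (LK LD1_c5 LD2_c14 LD3_c19))))))
theorem f633759 : Led Lsl_ff (LP (LK LD1_c5 LD2_c7 LD3_c26)) = (LP (LK LD1_c5 LD2_c14 LD3_c19)) :=
  Lgr Lrot3 (Lpr_ft (f633755 IH) (Lpn (LP (LK LD1_c5 LD2_c14 LD3_c19))))
theorem f169131 : Led Lsl_gt (LP (LK LD1_c2 LD2_c34 LD3_c0)) = (LP (LK LD1_c5 LD2_c14 LD3_c18)) :=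
  Lre_g IH (LK LD1_c2 LD2_c34 LD3_c0) (LK LD1_c5 LD2_c14 LD3_c18) Lrfl Lrfl
theorem f633764 : Led Lsl_at (LP (LK LD1_c5 LD2_c7 LD3_c26)) = (LP (LK LD1_c5 LD2_c14 LD3_c18)) :=
  Lgr Lrot26 (Lpr_ff (f633759 IH) (Lpr_gt (K48.f193930 IH) (Lpr_gt (f169131 IH) (Lpn (LP (LK LD1_c5 LD2_c14 LD3_c18))))))
theorem f164097 : Led Lsl_et (LP (LK LD1_c10 LD2_c5 LD3_c17)) = (LP (LK LD1_c5 LD2_c7 LD3_c26)) :=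
  Lre_e IH (LK LD1_c10 LD2_c5 LD3_c17) (LK LD1_c5 LD2_c7 LD3_c26) Lrfl Lrfl
theorem f225478 : Led Lsl_et (LP (LK LD1_c5 LD2_c14 LD3_c18)) = (LP (LK LD1_c10 LD2_c18 LD3_c21)) :=
  Lre_e IH (LK LD1_c5 LD2_c14 LD3_c18) (LK LD1_c10 LD2_c18 LD3_c21) Lrfl Lrfl
theorem f633770 : Led Lsl_af (LP (LK LD1_c10 LD2_c5 LD3_c17)) = (LP (LK LD1_c10 LD2_c18 LD3_c21)) :=
  Lgr Lrot50 (Lpr_et (f164097 IH) (Lpr_at (f633764 IH) (Lpr_et (f225478 IH) (Lpn (LP (LK LD1_c10 LD2_c18 LD3_c21))))))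
theorem f165094 : Led Lsl_gt (LP (LK LD1_c5 LD2_c37 LD3_c34)) = (LP (LK LD1_c2 LD2_c44 LD3_c44)) :=
  Lre_g IH (LK LD1_c5 LD2_c37 LD3_c34) (LK LD1_c2 LD2_c44 LD3_c44) Lrfl Lrfl
theorem f164095 : Led Lsl_et (LP (LK LD1_c1 LD2_c12 LD3_c31)) = (LP (LK LD1_c2 LD2_c31 LD3_c0)) :=
  Lre_e IH (LK LD1_c1 LD2_c12 LD3_c31) (LK LD1_c2 LD2_c31 LD3_c0) Lrfl Lrfl
theorem f165095 : Led Lsl_df (LP (LK LD1_c5 LD2_c37 LD3_c34)) = (LP (LK LD1_c10 LD2_c5 LD3_c17)) :=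
  Lgr Lrot170 (Lpr_gt (f165094 IH) (Lpr_df (K17.f165079 IH) (Lpr_et (K17.f22381 IH) (Lpr_gt (K9.f164091 IH) (Lpr_dt (K8.f163702 IH) (Lpe (K9.f163639 IH) (Lpe (K10.f53188 IH) (Lpr_et (f164095 IH) (Lpr_gt (f164096 IH) (Lpe (f164097 IH) (Lpn (LP (LK LD1_c10 LD2_c5 LD3_c17)))))))))))))
theorem f186687 : Led Lsl_et (LP (LK LD1_c10 LD2_c18 LD3_c21)) = (LP (LK LD1_c5 LD2_c14 LD3_c18)) :=
  Lre_e IH (LK LD1_c10 LD2_c18 LD3_c21) (LK LD1_c5 LD2_c14 LD3_c18) Lrfl Lrfl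
theorem f225456 : Led Lsl_gt (LP (LK LD1_c5 LD2_c40 LD3_c44)) = (LP (LK LD1_c2 LD2_c46 LD3_c17)) :=
  Lre_g IH (LK LD1_c5 LD2_c40 LD3_c44) (LK LD1_c2 LD2_c46 LD3_c17) Lrfl Lrfl
theorem f225473 : Led Lsl_dt (LP (LK LD1_c10 LD2_c18 LD3_c21)) = (LP (LK LD1_c5 LD2_c40 LD3_c44)) :=
  Lgr Lrot136 (Lpr_et (f186687 IH) (Lpe (f169131 IH) (Lpe (K18.f186686 IH) (Lpr_dt (K10.f163769 IH) (Lpe (K10.f186664 IH) (Lpe (K8.f3165 IH) (Lpr_gf (K9.f165455 IH) (Lpe (K17.f164395 IH) (Lpr_dt (K12.f225453 IH) (Lpe (f225456 IH) (Lpn (LP (LK LD1_c5 LD2_c40 LD3_c44)))))))))))))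
theorem f225476 : Led Lsl_df (LP (LK LD1_c10 LD2_c18 LD3_c21)) = (LP (LK LD1_c5 LD2_c40 LD3_c44)) :=
  Lgr Lrot38 (Lpr_dt (f225473 IH) (Lpn (LP (LK LD1_c5 LD2_c40 LD3_c44))))
theorem f633782 : Led Lsl_at (LP (LK LD1_c5 LD2_c37 LD3_c34)) = (LP (LK LD1_c5 LD2_c40 LD3_c44)) :=
  Lgr Lrot51 (Lpr_df (f165095 IH) (Lpr_af (f633770 IH) (Lpr_df (f225476 IH) (Lpn (LP (LK LD1_c5 LD2_c40 LD3_c44))))))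
theorem f288201 : Led Lsl_af (LP (LK LD1_c5 LD2_c14 LD3_c42)) = (LP (LK LD1_c5 LD2_c8 LD3_c16)) :=
  Lgr Lrot0 (Lpr_at (K17.f288135 IH) (Lpn (LP (LK LD1_c5 LD2_c8 LD3_c16))))
theorem f165759 : Led Lsl_gt (LP (LK LD1_c2 LD2_c31 LD3_c20)) = (LP (LK LD1_c5 LD2_c8 LD3_c14)) :=
  Lre_g IH (LK LD1_c2 LD2_c31 LD3_c20) (LK LD1_c5 LD2_c8 LD3_c14) Lrfl Lrfl
theorem f408440 : Led Lsl_gf (LP (LK LD1_c5 LD2_c14 LD3_c42)) = (LP (LK LD1_c5 LD2_c8 LD3_c14)) :=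
  Lgr Lrot76 (Lpr_af (f288201 IH) (Lpe (K17.f165755 IH) (Lpr_gt (f165759 IH) (Lpn (LP (LK LD1_c5 LD2_c8 LD3_c14))))))
theorem f177208 : Led Lsl_et (LP (LK LD1_c10 LD2_c7 LD3_c0)) = (LP (LK LD1_c5 LD2_c8 LD3_c14)) :=
  Lre_e IH (LK LD1_c10 LD2_c7 LD3_c0) (LK LD1_c5 LD2_c8 LD3_c14) Lrfl Lrfl
theorem f186667 : Led Lsl_et (LP (LK LD1_c2 LD2_c34 LD3_c0)) = (LP (LK LD1_c1 LD2_c13 LD3_c59)) :=
  Lre_e IH (LK LD1_c2 LD2_c34 LD3_c0) (LK LD1_c1 LD2_c13 LD3_c59) Lrfl Lrfl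
theorem f186668 : Led Lsl_dt (LP (LK LD1_c2 LD2_c34 LD3_c0)) = (LP (LK LD1_c5 LD2_c14 LD3_c20)) :=
  Lre_d IH (LK LD1_c2 LD2_c34 LD3_c0) (LK LD1_c5 LD2_c14 LD3_c20) Lrfl Lrfl
theorem f186669 : Led Lsl_gt (LP (LK LD1_c10 LD2_c18 LD3_c23)) = (LP (LK LD1_c5 LD2_c14 LD3_c20)) :=
  Lre_g IH (LK LD1_c10 LD2_c18 LD3_c23) (LK LD1_c5 LD2_c14 LD3_c20) Lrfl Lrfl
theorem f186670 : Led Lsl_dt (LP (LK LD1_c10 LD2_c7 LD3_c0)) = (LP (LK LD1_c10 LD2_c18 LD3_c23)) :=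
  Lgr Lrot136 (Lpr_et (f177208 IH) (Lpe (f165759 IH) (Lpe (K17.f165776 IH) (Lpe (K9.f177199 IH) (Lpr_gf (K9.f164125 IH) (Lpe (K9.f164161 IH) (Lpr_gf (K10.f186658 IH) (Lpe (f186667 IH) (Lpr_dt (f186668 IH) (Lpe (f186669 IH) (Lpn (LP (LK LD1_c10 LD2_c18 LD3_c23)))))))))))))
theorem f301841 : Led Lsl_ft (LP (LK LD1_c10 LD2_c5 LD3_c20)) = (LP (LK LD1_c5 LD2_c7 LD3_c28)) :=
  Lre_f IH (LK LD1_c10 LD2_c5 LD3_c20) (LK LD1_c5 LD2_c7 LD3_c28) Lrfl Lrfl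
theorem f301842 : Led Lsl_gf (LP (LK LD1_c10 LD2_c18 LD3_c23)) = (LP (LK LD1_c10 LD2_c5 LD3_c20)) :=
  Lgr Lrot47 (Lpr_gt (f186669 IH) (Lpr_af (K18.f301831 IH) (Lpe (f301841 IH) (Lpn (LP (LK LD1_c10 LD2_c5 LD3_c20))))))
theorem f301812 : Led Lsl_dt (LP (LK LD1_c5 LD2_c7 LD3_c29)) = (LP (LK LD1_c10 LD2_c5 LD3_c20)) :=
  Lre_d IH (LK LD1_c5 LD2_c7 LD3_c29) (LK LD1_c10 LD2_c5 LD3_c20) Lrfl Lrfl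
theorem f301817 : Led Lsl_at (LP (LK LD1_c5 LD2_c14 LD3_c21)) = (LP (LK LD1_c5 LD2_c7 LD3_c29)) :=
  Lgr Lrot100 (Lpr_af (K18.f301810 IH) (Lpn (LP (LK LD1_c5 LD2_c7 LD3_c29))))
theorem f406586 : Led Lsl_gt (LP (LK LD1_c5 LD2_c14 LD3_c18)) = (LP (LK LD1_c5 LD2_c7 LD3_c29)) :=
  Lgr Lrot46 (Lpe (f169131 IH) (Lpr_ft (K18.f250209 IH) (Lpr_at (f301817 IH) (Lpn (LP (LK LD1_c5 LD2_c7 LD3_c29))))))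
theorem f408442 : Led Lsl_gt (LP (LK LD1_c5 LD2_c37 LD3_c35)) = (LP (LK LD1_c5 LD2_c40 LD3_c44)) :=
  Lgr Lrot112 (Lpr_df (K17.f165104 IH) (Lpe (K17.f288091 IH) (Lpr_gf (f408440 IH) (Lpe (f177208 IH) (Lpr_dt (f186670 IH) (Lpr_gf (f301842 IH) (Lpe (f301812 IH) (Lpe (f406586 IH) (Lpe (f186687 IH) (Lpr_dt (f225473 IH) (Lpn (LP (LK LD1_c5 LD2_c40 LD3_c44)))))))))))))
theorem f168861 : Led Lsl_et (LP (LK LD1_c1 LD2_c10 LD3_c39)) = (LP (LK LD1_c0 LD2_c32 LD3_c43)) :=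
  Lre_e IH (LK LD1_c1 LD2_c10 LD3_c39) (LK LD1_c0 LD2_c32 LD3_c43) Lrfl Lrfl
theorem f40964 : Led Lsl_et (LP (LK LD1_c2 LD2_c27 LD3_c54)) = (LP (LK LD1_c5 LD2_c0 LD3_c21)) :=
  Lre_e IH (LK LD1_c2 LD2_c27 LD3_c54) (LK LD1_c5 LD2_c0 LD3_c21) Lrfl Lrfl
theorem f225457 : Led Lsl_gf (LP (LK LD1_c5 LD2_c0 LD3_c21)) = (LP (LK LD1_c2 LD2_c46 LD3_c17)) :=
  Lgr Lrot141 (Lpe (f40964 IH) (Lpr_dt (K46.f40963 IH) (Lpr_gt (K32.f40955 IH) (Lpe (K2.f67063 IH) (Lpr_et (f168861 IH) (Lpr_gt (K12.f174913 IH) (Lpr_dt (K12.f174912 IH) (Lpr_gt (K12.f211771 IH) (Lpr_df (K12.f225425 IH) (Lpr_et (K20.f225455 IH) (Lpn (LP (LK LD1_c2 LD2_c46 LD3_c17)))))))))))))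
theorem f408447 : Led Lsl_gt (LP (LK LD1_c5 LD2_c0 LD3_c21)) = (LP (LK LD1_c5 LD2_c37 LD3_c35)) :=
  Lgr Lrot46 (Lpr_gf (f225457 IH) (Lpr_ft (K17.f225459 IH) (Lpr_at (K20.f288054 IH) (Lpn (LP (LK LD1_c5 LD2_c37 LD3_c35))))))
theorem f633786 : Led Lsl_ff (LP (LK LD1_c5 LD2_c37 LD3_c34)) = (LP (LK LD1_c5 LD2_c0 LD3_c21)) :=
  Lgr Lrot52 (Lpr_at (f633782 IH) (Lpe (f408442 IH) (Lpe (f408447 IH) (Lpn (LP (LK LD1_c5 LD2_c0 LD3_c21))))))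
theorem f633788 : Led Lsl_ft (LP (LK LD1_c5 LD2_c37 LD3_c34)) = (LP (LK LD1_c5 LD2_c0 LD3_c21)) :=
  Lgr Lrot48 (Lpr_ff (f633786 IH) (Lpn (LP (LK LD1_c5 LD2_c0 LD3_c21))))
theorem f633791 : Led Lsl_af (LP (LK LD1_c5 LD2_c37 LD3_c33)) = (LP (LK LD1_c5 LD2_c0 LD3_c21)) :=
  Lgr Lrot31 (Lpe (K48.f165091 IH) (Lpe (f165094 IH) (Lpr_ft (f633788 IH) (Lpn (LP (LK LD1_c5 LD2_c0 LD3_c21))))))
theorem f171828 : Led Lsl_et (LP (LK LD1_c5 LD2_c37 LD3_c33)) = (LP (LK LD1_c3 LD2_c59 LD3_c57)) :=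
  Lgr Lrot87 (Lpr_ef (K48.f171820 IH) (Lpn (LP (LK LD1_c3 LD2_c59 LD3_c57))))
theorem f633795 : Led Lsl_at (LP (LK LD1_c3 LD2_c59 LD3_c57)) = (LP (LK LD1_c2 LD2_c27 LD3_c54)) :=
  Lgr Lrot80 (Lpe (f171828 IH) (Lpr_af (f633791 IH) (Lpe (f40964 IH) (Lpn (LP (LK LD1_c2 LD2_c27 LD3_c54))))))
theorem f633818 : Led Lsl_ff (LP (LK LD1_c3 LD2_c59 LD3_c57)) = (LP (LK LD1_c2 LD2_c27 LD3_c51)) :=
  Lgr Lrot52 (Lpr_at (f633795 IH) (Lpr_gf (K46.f454869 IH) (Lpe (K24.f77407 IH) (Lpn (LP (LK LD1_c2 LD2_c27 LD3_c51))))))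
theorem f633822 : Led Lsl_ft (LP (LK LD1_c3 LD2_c59 LD3_c57)) = (LP (LK LD1_c2 LD2_c27 LD3_c51)) :=
  Lgr Lrot48 (Lpr_ff (f633818 IH) (Lpn (LP (LK LD1_c2 LD2_c27 LD3_c51))))
theorem f633827 : Led Lsl_af (LP (LK LD1_c3 LD2_c59 LD3_c54)) = (LP (LK LD1_c2 LD2_c27 LD3_c51)) :=
  Lgr Lrot31 (Lpe (K46.f77391 IH) (Lpr_gf (K48.f505654 IH) (Lpr_ft (f633822 IH) (Lpn (LP (LK LD1_c2 LD2_c27 LD3_c51))))))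
theorem f633811 : Led Lsl_af (LP (LK LD1_c3 LD2_c59 LD3_c57)) = (LP (LK LD1_c2 LD2_c27 LD3_c54)) :=
  Lgr Lrot0 (Lpr_at (f633795 IH) (Lpn (LP (LK LD1_c2 LD2_c27 LD3_c54))))
theorem f633833 : Led Lsl_ft (LP (LK LD1_c3 LD2_c59 LD3_c54)) = (LP (LK LD1_c2 LD2_c27 LD3_c54)) :=
  Lgr Lrot101 (Lpr_af (f633827 IH) (Lpe (f633822 IH) (Lpr_af (f633811 IH) (Lpn (LP (LK LD1_c2 LD2_c27 LD3_c54))))))
theorem f633837 : Led Lsl_ff (LP (LK LD1_c3 LD2_c59 LD3_c54)) = (LP (LK LD1_c2 LD2_c27 LD3_c54)) :=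
  Lgr Lrot3 (Lpr_ft (f633833 IH) (Lpn (LP (LK LD1_c2 LD2_c27 LD3_c54))))
theorem f454875 : Led Lsl_bt (LP (LK LD1_c5 LD2_c0 LD3_c19)) = (LP (LK LD1_c2 LD2_c27 LD3_c54)) :=
  Lre_b IH (LK LD1_c5 LD2_c0 LD3_c19) (LK LD1_c2 LD2_c27 LD3_c54) Lrfl Lrfl
theorem f633839 : Led Lsl_ft (LP (LK LD1_c8 LD2_c0 LD3_c54)) = (LP (LK LD1_c5 LD2_c0 LD3_c19)) :=
  Lgr Lrot75 (Lpe (K49.f633831 IH) (Lpr_ff (f633837 IH) (Lpe (f454875 IH) (Lpn (LP (LK LD1_c5 LD2_c0 LD3_c19))))))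
theorem f79910 : Led Lsl_dt (LP (LK LD1_c3 LD2_c59 LD3_c53)) = (LP (LK LD1_c8 LD2_c0 LD3_c54)) :=
  Lre_d IH (LK LD1_c3 LD2_c59 LD3_c53) (LK LD1_c8 LD2_c0 LD3_c54) Lrfl Lrfl
theorem f633841 : Led Lsl_dt (LP (LK LD1_c5 LD2_c0 LD3_c19)) = (LP (LK LD1_c2 LD2_c27 LD3_c53)) :=
  Lre_d IH (LK LD1_c5 LD2_c0 LD3_c19) (LK LD1_c2 LD2_c27 LD3_c53) Lrfl Lrfl
theorem f633842 : Led Lsl_ff (LP (LK LD1_c3 LD2_c59 LD3_c53)) = (LP (LK LD1_c2 LD2_c27 LD3_c53)) :=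
  Lgr Lrot19 (Lpr_dt (f79910 IH) (Lpr_ft (f633839 IH) (Lpr_dt (f633841 IH) (Lpn (LP (LK LD1_c2 LD2_c27 LD3_c53))))))
theorem f633852 : Led Lsl_ft (LP (LK LD1_c3 LD2_c59 LD3_c53)) = (LP (LK LD1_c2 LD2_c27 LD3_c53)) :=
  Lgr Lrot48 (Lpr_ff (f633842 IH) (Lpn (LP (LK LD1_c2 LD2_c27 LD3_c53))))
theorem f495309 : Led Lsl_at (LP (LK LD1_c2 LD2_c27 LD3_c53)) = (LP (LK LD1_c5 LD2_c0 LD3_c18)) :=
  Lre_a IH (LK LD1_c2 LD2_c27 LD3_c53) (LK LD1_c5 LD2_c0 LD3_c18) Lrfl Lrfl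
theorem f633859 : Led Lsl_ff (LP (LK LD1_c8 LD2_c0 LD3_c52)) = (LP (LK LD1_c5 LD2_c0 LD3_c18)) :=
  Lgr Lrot30 (Lpr_at (f629269 IH) (Lpr_ft (f633852 IH) (Lpr_at (f495309 IH) (Lpn (LP (LK LD1_c5 LD2_c0 LD3_c18))))))
theorem f689256 : Led Lsl_gt (LP (LK LD1_c5 LD2_c0 LD3_c18)) = v12301 :=
  Lgr Lrot5 (Lpe (f633859 IH) (Lpr_at (f629269 IH) (Lpr_gf (f689255 IH) (Lpn v12301))))
def v4832 : LQ := Led Lsl_gt (LP (LK LD1_c2 LD2_c50 LD3_c13))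
theorem f640508 : Led Lsl_gt (LP (LK LD1_c2 LD2_c50 LD3_c13)) = v4832 :=
  Lrfl
theorem f428763 : Led Lsl_et (LP (LK LD1_c11 LD2_c25 LD3_c23)) = (LP (LK LD1_c5 LD2_c47 LD3_c49)) :=
  Lre_e IH (LK LD1_c11 LD2_c25 LD3_c23) (LK LD1_c5 LD2_c47 LD3_c49) Lrfl Lrfl
def v13187 : LQ := Led Lsl_at (LP (LK LD1_c4 LD2_c41 LD3_c4))
theorem f701573 : Led Lsl_at (LP (LK LD1_c4 LD2_c41 LD3_c4)) = v13187 :=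
  Lrfl
def v5285 : LQ := Led Lsl_gt (LP (LK LD1_c3 LD2_c2 LD3_c60))
theorem f646904 : Led Lsl_gt (LP (LK LD1_c3 LD2_c2 LD3_c60)) = v5285 :=
  Lrfl
theorem f701577 : Led Lsl_gt v5285 = v13187 :=
  Lgr Lrot46 (Lpe (f646904 IH) (Lpr_ft (K50.f504097 IH) (Lpr_at (f701573 IH) (Lpn v13187))))
theorem f66293 : Led Lsl_gt (LP (LK LD1_c2 LD2_c49 LD3_c56)) = (LP (LK LD1_c5 LD2_c47 LD3_c49)) :=
  Lre_g IH (LK LD1_c2 LD2_c49 LD3_c56) (LK LD1_c5 LD2_c47 LD3_c49) Lrfl Lrfl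
def v4826 : LQ := Led Lsl_gf (LP (LK LD1_c2 LD2_c49 LD3_c56))
theorem f640492 : Led Lsl_gf (LP (LK LD1_c2 LD2_c49 LD3_c56)) = v4826 :=
  Lrfl
theorem f157940 : Led Lsl_et (LP (LK LD1_c1 LD2_c21 LD3_c60)) = (LP (LK LD1_c2 LD2_c51 LD3_c55)) :=
  Lre_e IH (LK LD1_c1 LD2_c21 LD3_c60) (LK LD1_c2 LD2_c51 LD3_c55) Lrfl Lrfl
theorem f161481 : Led Lsl_ft (LP (LK LD1_c2 LD2_c50 LD3_c9)) = (LP (LK LD1_c4 LD2_c34 LD3_c27)) :=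
  Lgr Lrot48 (Lpr_ff (K8.f161473 IH) (Lpn (LP (LK LD1_c4 LD2_c34 LD3_c27))))
theorem f161623 : Led Lsl_af (LP (LK LD1_c5 LD2_c56 LD3_c0)) = (LP (LK LD1_c4 LD2_c34 LD3_c27)) :=
  Lgr Lrot31 (Lpr_gf (K8.f161621 IH) (Lpe (K8.f160870 IH) (Lpr_ft (f161481 IH) (Lpn (LP (LK LD1_c4 LD2_c34 LD3_c27))))))
theorem f109949 : Led Lsl_et (LP (LK LD1_c9 LD2_c5 LD3_c53)) = (LP (LK LD1_c4 LD2_c34 LD3_c27)) :=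
  Lre_e IH (LK LD1_c9 LD2_c5 LD3_c53) (LK LD1_c4 LD2_c34 LD3_c27) Lrfl Lrfl
theorem f425802 : Led Lsl_at (LP (LK LD1_c11 LD2_c37 LD3_c12)) = (LP (LK LD1_c9 LD2_c5 LD3_c53)) :=
  Lgr Lrot80 (Lpe (f82013 IH) (Lpr_af (f161623 IH) (Lpe (f109949 IH) (Lpn (LP (LK LD1_c9 LD2_c5 LD3_c53))))))
theorem f425804 : Led Lsl_af (LP (LK LD1_c11 LD2_c37 LD3_c12)) = (LP (LK LD1_c9 LD2_c5 LD3_c53)) :=
  Lgr Lrot0 (Lpr_at (f425802 IH) (Lpn (LP (LK LD1_c9 LD2_c5 LD3_c53))))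
theorem f423649 : Led Lsl_et (LP (LK LD1_c11 LD2_c7 LD3_c40)) = (LP (LK LD1_c5 LD2_c38 LD3_c11)) :=
  Lre_e IH (LK LD1_c11 LD2_c7 LD3_c40) (LK LD1_c5 LD2_c38 LD3_c11) Lrfl Lrfl
theorem f172486 : Led Lsl_et (LP (LK LD1_c9 LD2_c45 LD3_c14)) = (LP (LK LD1_c17 LD2_c54 LD3_c53)) :=
  Lre_e IH (LK LD1_c9 LD2_c45 LD3_c14) (LK LD1_c17 LD2_c54 LD3_c53) Lrfl Lrfl
theorem f424180 : Led Lsl_af (LP (LK LD1_c11 LD2_c7 LD3_c40)) = (LP (LK LD1_c17 LD2_c54 LD3_c53)) :=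
  Lgr Lrot50 (Lpr_et (f423649 IH) (Lpr_at (K39.f424172 IH) (Lpr_et (f172486 IH) (Lpn (LP (LK LD1_c17 LD2_c54 LD3_c53))))))
theorem f423134 : Led Lsl_bt (LP (LK LD1_c11 LD2_c7 LD3_c40)) = (LP (LK LD1_c5 LD2_c38 LD3_c13)) :=
  Lre_b IH (LK LD1_c11 LD2_c7 LD3_c40) (LK LD1_c5 LD2_c38 LD3_c13) Lrfl Lrfl
theorem f423120 : Led Lsl_et (LP (LK LD1_c16 LD2_c51 LD3_c22)) = (LP (LK LD1_c9 LD2_c1 LD3_c23)) :=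
  Lre_e IH (LK LD1_c16 LD2_c51 LD3_c22) (LK LD1_c9 LD2_c1 LD3_c23) Lrfl Lrfl
theorem f423106 : Led Lsl_et (LP (LK LD1_c5 LD2_c38 LD3_c12)) = (LP (LK LD1_c11 LD2_c7 LD3_c43)) :=
  Lre_e IH (LK LD1_c5 LD2_c38 LD3_c12) (LK LD1_c11 LD2_c7 LD3_c43) Lrfl Lrfl
theorem f423121 : Led Lsl_af (LP (LK LD1_c16 LD2_c51 LD3_c22)) = (LP (LK LD1_c11 LD2_c7 LD3_c43)) :=
  Lgr Lrot50 (Lpr_et (f423120 IH) (Lpr_at (K31.f423074 IH) (Lpr_et (f423106 IH) (Lpn (LP (LK LD1_c11 LD2_c7 LD3_c43))))))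
theorem f174869 : Led Lsl_ct (LP (LK LD1_c16 LD2_c51 LD3_c22)) = (LP (LK LD1_c9 LD2_c1 LD3_c24)) :=
  Lre_c IH (LK LD1_c16 LD2_c51 LD3_c22) (LK LD1_c9 LD2_c1 LD3_c24) Lrfl Lrfl
theorem f423127 : Led Lsl_ct (LP (LK LD1_c5 LD2_c38 LD3_c13)) = (LP (LK LD1_c11 LD2_c7 LD3_c43)) :=
  Lre_c IH (LK LD1_c5 LD2_c38 LD3_c13) (LK LD1_c11 LD2_c7 LD3_c43) Lrfl Lrfl
theorem f423128 : Led Lsl_at (LP (LK LD1_c9 LD2_c1 LD3_c24)) = (LP (LK LD1_c5 LD2_c38 LD3_c13)) :=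
  Lgr Lrot107 (Lpe (f174869 IH) (Lpr_af (f423121 IH) (Lpe (f423127 IH) (Lpn (LP (LK LD1_c5 LD2_c38 LD3_c13))))))
theorem f423130 : Led Lsl_af (LP (LK LD1_c9 LD2_c1 LD3_c24)) = (LP (LK LD1_c5 LD2_c38 LD3_c13)) :=
  Lgr Lrot0 (Lpr_at (f423128 IH) (Lpn (LP (LK LD1_c5 LD2_c38 LD3_c13))))
theorem f174868 : Led Lsl_bt (LP (LK LD1_c9 LD2_c1 LD3_c24)) = (LP (LK LD1_c16 LD2_c51 LD3_c19)) :=
  Lre_b IH (LK LD1_c9 LD2_c1 LD3_c24) (LK LD1_c16 LD2_c51 LD3_c19) Lrfl Lrfl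
theorem f172480 : Led Lsl_et (LP (LK LD1_c17 LD2_c54 LD3_c53)) = (LP (LK LD1_c9 LD2_c45 LD3_c14)) :=
  Lre_e IH (LK LD1_c17 LD2_c54 LD3_c53) (LK LD1_c9 LD2_c45 LD3_c14) Lrfl Lrfl
theorem f172482 : Led Lsl_bf (LP (LK LD1_c17 LD2_c54 LD3_c53)) = (LP (LK LD1_c20 LD2_c10 LD3_c37)) :=
  Lgr Lrot96 (Lpr_et (f172480 IH) (Lpr_bt (K39.f172473 IH) (Lpr_et (f172481 IH) (Lpn (LP (LK LD1_c20 LD2_c10 LD3_c37))))))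
theorem f424184 : Led Lsl_at (LP (LK LD1_c16 LD2_c51 LD3_c19)) = (LP (LK LD1_c20 LD2_c10 LD3_c37)) :=
  Lgr Lrot67 (Lpe (f174868 IH) (Lpr_af (f423130 IH) (Lpe (f423134 IH) (Lpr_af (f424180 IH) (Lpr_bf (f172482 IH) (Lpn (LP (LK LD1_c20 LD2_c10 LD3_c37))))))))
theorem f424189 : Led Lsl_af (LP (LK LD1_c16 LD2_c51 LD3_c19)) = (LP (LK LD1_c20 LD2_c10 LD3_c37)) :=
  Lgr Lrot0 (Lpr_at (f424184 IH) (Lpn (LP (LK LD1_c20 LD2_c10 LD3_c37))))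
theorem f612923 : Led Lsl_df (LP (LK LD1_c9 LD2_c5 LD3_c53)) = (LP (LK LD1_c16 LD2_c51 LD3_c19)) :=
  Lgr Lrot18 (Lpe (f425804 IH) (Lpr_dt (f612921 IH) (Lpe (f424189 IH) (Lpn (LP (LK LD1_c16 LD2_c51 LD3_c19))))))
theorem f109958 : Led Lsl_bt (LP (LK LD1_c9 LD2_c5 LD3_c53)) = (LP (LK LD1_c4 LD2_c34 LD3_c28)) :=
  Lre_b IH (LK LD1_c9 LD2_c5 LD3_c53) (LK LD1_c4 LD2_c34 LD3_c28) Lrfl Lrfl
theorem f612925 : Led Lsl_dt (LP (LK LD1_c4 LD2_c34 LD3_c28)) = (LP (LK LD1_c9 LD2_c1 LD3_c24)) :=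
  Lgr Lrot79 (Lpe (f109958 IH) (Lpr_df (f612923 IH) (Lpe (f174868 IH) (Lpn (LP (LK LD1_c9 LD2_c1 LD3_c24))))))
def v4882 : LQ := Led Lsl_gt (LP (LK LD1_c2 LD2_c51 LD3_c55))
theorem f640698 : Led Lsl_gt (LP (LK LD1_c2 LD2_c51 LD3_c55)) = v4882 :=
  Lrfl
def v13185 : LQ := Led Lsl_gt (LP (LK LD1_c4 LD2_c41 LD3_c4))
theorem f701570 : Led Lsl_gt (LP (LK LD1_c4 LD2_c41 LD3_c4)) = v13185 :=
  Lrfl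
theorem f428752 : Led Lsl_ft (LP (LK LD1_c2 LD2_c51 LD3_c55)) = (LP (LK LD1_c5 LD2_c51 LD3_c19)) :=
  Lre_f IH (LK LD1_c2 LD2_c51 LD3_c55) (LK LD1_c5 LD2_c51 LD3_c19) Lrfl Lrfl
theorem f117511 : Led Lsl_et (LP (LK LD1_c5 LD2_c51 LD3_c7)) = (LP (LK LD1_c11 LD2_c29 LD3_c42)) :=
  Lre_e IH (LK LD1_c5 LD2_c51 LD3_c7) (LK LD1_c11 LD2_c29 LD3_c42) Lrfl Lrfl
theorem f132440 : Led Lsl_et (LP (LK LD1_c11 LD2_c25 LD3_c25)) = (LP (LK LD1_c5 LD2_c47 LD3_c52)) :=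
  Lre_e IH (LK LD1_c11 LD2_c25 LD3_c25) (LK LD1_c5 LD2_c47 LD3_c52) Lrfl Lrfl
theorem f132441 : Led Lsl_bt (LP (LK LD1_c11 LD2_c29 LD3_c42)) = (LP (LK LD1_c11 LD2_c25 LD3_c25)) :=
  Lgr Lrot119 (Lpe (f117511 IH) (Lpr_bf (K8.f132434 IH) (Lpe (f132440 IH) (Lpn (LP (LK LD1_c11 LD2_c25 LD3_c25))))))
theorem f100315 : Led Lsl_ft (LP (LK LD1_c11 LD2_c25 LD3_c25)) = (LP (LK LD1_c20 LD2_c22 LD3_c51)) :=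
  Lre_f IH (LK LD1_c11 LD2_c25 LD3_c25) (LK LD1_c20 LD2_c22 LD3_c51) Lrfl Lrfl
theorem f132447 : Led Lsl_bf (LP (LK LD1_c20 LD2_c26 LD3_c47)) = (LP (LK LD1_c20 LD2_c22 LD3_c51)) :=
  Lgr Lrot61 (Lpr_ft (K4.f24096 IH) (Lpr_bt (f132441 IH) (Lpr_ft (f100315 IH) (Lpn (LP (LK LD1_c20 LD2_c22 LD3_c51))))))
theorem f24113 : Led Lsl_bt (LP (LK LD1_c11 LD2_c29 LD3_c45)) = (LP (LK LD1_c5 LD2_c51 LD3_c13)) :=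
  Lre_b IH (LK LD1_c11 LD2_c29 LD3_c45) (LK LD1_c5 LD2_c51 LD3_c13) Lrfl Lrfl
theorem f100308 : Led Lsl_at (LP (LK LD1_c11 LD2_c25 LD3_c31)) = (LP (LK LD1_c20 LD2_c22 LD3_c51)) :=
  Lre_a IH (LK LD1_c11 LD2_c25 LD3_c31) (LK LD1_c20 LD2_c22 LD3_c51) Lrfl Lrfl
theorem f100319 : Led Lsl_bt (LP (LK LD1_c5 LD2_c48 LD3_c4)) = (LP (LK LD1_c11 LD2_c25 LD3_c31)) :=
  Lre_b IH (LK LD1_c5 LD2_c48 LD3_c4) (LK LD1_c11 LD2_c25 LD3_c31) Lrfl Lrfl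
theorem f132450 : Led Lsl_at (LP (LK LD1_c5 LD2_c51 LD3_c13)) = (LP (LK LD1_c5 LD2_c48 LD3_c4)) :=
  Lgr Lrot67 (Lpe (f24113 IH) (Lpe (K4.f24105 IH) (Lpr_bf (f132447 IH) (Lpe (f100308 IH) (Lpe (f100319 IH) (Lpn (LP (LK LD1_c5 LD2_c48 LD3_c4))))))))
theorem f117829 : Led Lsl_ft (LP (LK LD1_c1 LD2_c21 LD3_c59)) = (LP (LK LD1_c1 LD2_c21 LD3_c1)) :=
  Lgr Lrot54 (Lpr_df (K4.f112111 IH) (Lpr_ff (K5.f117825 IH) (Lpe (K6.f66374 IH) (Lpn (LP (LK LD1_c1 LD2_c21 LD3_c1))))))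
theorem f117831 : Led Lsl_ft (LP (LK LD1_c5 LD2_c51 LD3_c13)) = (LP (LK LD1_c2 LD2_c51 LD3_c52)) :=
  Lre_f IH (LK LD1_c5 LD2_c51 LD3_c13) (LK LD1_c2 LD2_c51 LD3_c52) Lrfl Lrfl
theorem f66390 : Led Lsl_ft (LP (LK LD1_c2 LD2_c49 LD3_c56)) = (LP (LK LD1_c5 LD2_c47 LD3_c50)) :=
  Lre_f IH (LK LD1_c2 LD2_c49 LD3_c56) (LK LD1_c5 LD2_c47 LD3_c50) Lrfl Lrfl
theorem f117832 : Led Lsl_ef (LP (LK LD1_c5 LD2_c51 LD3_c13)) = (LP (LK LD1_c5 LD2_c47 LD3_c50)) :=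
  Lgr Lrot21 (Lpr_ft (f117831 IH) (Lpr_et (K38.f22312 IH) (Lpr_ft (f117829 IH) (Lpr_et (K6.f66319 IH) (Lpr_ft (f66390 IH) (Lpn (LP (LK LD1_c5 LD2_c47 LD3_c50))))))))
theorem f157915 : Led Lsl_at (LP (LK LD1_c5 LD2_c51 LD3_c19)) = (LP (LK LD1_c5 LD2_c47 LD3_c50)) :=
  Lgr Lrot80 (Lpr_ef (K8.f157911 IH) (Lpe (f132450 IH) (Lpr_ef (f117832 IH) (Lpn (LP (LK LD1_c5 LD2_c47 LD3_c50))))))
theorem f640699 : Led Lsl_gf (LP (LK LD1_c5 LD2_c47 LD3_c50)) = v4882 :=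
  Lgr Lrot76 (Lpe (f157915 IH) (Lpe (f428752 IH) (Lpr_gt (f640698 IH) (Lpn v4882))))
theorem f587749 : Led Lsl_cf (LP (LK LD1_c13 LD2_c29 LD3_c25)) = (LP (LK LD1_c10 LD2_c41 LD3_c34)) :=
  Lgr Lrot11 (Lpr_ct (K45.f587745 IH) (Lpn (LP (LK LD1_c10 LD2_c41 LD3_c34))))
theorem f384845 : Led Lsl_bt (LP (LK LD1_c19 LD2_c21 LD3_c23)) = (LP (LK LD1_c10 LD2_c41 LD3_c38)) :=
  Lre_b IH (LK LD1_c19 LD2_c21 LD3_c23) (LK LD1_c10 LD2_c41 LD3_c38) Lrfl Lrfl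
theorem f589057 : Led Lsl_ct (LP (LK LD1_c17 LD2_c15 LD3_c43)) = (LP (LK LD1_c19 LD2_c21 LD3_c23)) :=
  Lgr Lrot83 (Lpr_bf (K45.f589053 IH) (Lpr_cf (f587749 IH) (Lpe (K41.f384847 IH) (Lpe (K30.f226245 IH) (Lpe (f384845 IH) (Lpn (LP (LK LD1_c19 LD2_c21 LD3_c23))))))))
theorem f589069 : Led Lsl_gt (LP (LK LD1_c19 LD2_c21 LD3_c23)) = (LP (LK LD1_c11 LD2_c13 LD3_c42)) :=
  Lgr Lrot149 (Lpe (f589057 IH) (Lpe (K45.f133052 IH) (Lpr_bf (K45.f589061 IH) (Lpr_ct (K40.f181490 IH) (Lpe (K45.f559568 IH) (Lpe (K45.f60880 IH) (Lpr_bt (K45.f60767 IH) (Lpe (K10.f80554 IH) (Lpe (K16.f181584 IH) (Lpr_ct (K45.f181613 IH) (Lpn (LP (LK LD1_c11 LD2_c13 LD3_c42)))))))))))))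
theorem f557058 : Led Lsl_ft (LP (LK LD1_c14 LD2_c58 LD3_c41)) = (LP (LK LD1_c16 LD2_c53 LD3_c42)) :=
  Lgr Lrot4 (Lpe (K41.f551568 IH) (Lpr_ff (K39.f557056 IH) (Lpe (K45.f382095 IH) (Lpn (LP (LK LD1_c16 LD2_c53 LD3_c42))))))
theorem f566429 : Led Lsl_at (LP (LK LD1_c16 LD2_c53 LD3_c42)) = (LP (LK LD1_c11 LD2_c13 LD3_c42)) :=
  Lgr Lrot66 (Lpe (f557058 IH) (Lpr_af (K41.f566423 IH) (Lpe (K45.f566402 IH) (Lpn (LP (LK LD1_c11 LD2_c13 LD3_c42))))))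
theorem f589071 : Led Lsl_gf (LP (LK LD1_c19 LD2_c21 LD3_c23)) = (LP (LK LD1_c14 LD2_c58 LD3_c41)) :=
  Lgr Lrot47 (Lpr_gt (f589069 IH) (Lpe (f566429 IH) (Lpe (f557058 IH) (Lpn (LP (LK LD1_c14 LD2_c58 LD3_c41))))))
theorem f132851 : Led Lsl_dt (LP (LK LD1_c17 LD2_c15 LD3_c43)) = (LP (LK LD1_c9 LD2_c19 LD3_c49)) :=
  Lre_d IH (LK LD1_c17 LD2_c15 LD3_c43) (LK LD1_c9 LD2_c19 LD3_c49) Lrfl Lrfl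
theorem f589077 : Led Lsl_ct (LP (LK LD1_c19 LD2_c21 LD3_c23)) = (LP (LK LD1_c17 LD2_c15 LD3_c43)) :=
  Lgr Lrot110 (Lpr_gf (f589071 IH) (Lpe (K41.f551568 IH) (Lpr_gf (K39.f551937 IH) (Lpe (K39.f117775 IH) (Lpr_gt (K39.f112406 IH) (Lpr_ct (K43.f557172 IH) (Lpr_gt (K39.f133045 IH) (Lpr_ct (K39.f132850 IH) (Lpe (f132851 IH) (Lpn (LP (LK LD1_c17 LD2_c15 LD3_c43))))))))))))
theorem f589079 : Led Lsl_ff (LP (LK LD1_c19 LD2_c21 LD3_c23)) = (LP (LK LD1_c17 LD2_c15 LD3_c42)) :=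
  Lgr Lrot23 (Lpr_ct (f589077 IH) (Lpr_ft (K45.f133050 IH) (Lpr_ct (K45.f132923 IH) (Lpn (LP (LK LD1_c17 LD2_c15 LD3_c42))))))
theorem f226279 : Led Lsl_ft (LP (LK LD1_c10 LD2_c41 LD3_c38)) = (LP (LK LD1_c19 LD2_c20 LD3_c45)) :=
  Lre_f IH (LK LD1_c10 LD2_c41 LD3_c38) (LK LD1_c19 LD2_c20 LD3_c45) Lrfl Lrfl
theorem f589083 : Led Lsl_bt (LP (LK LD1_c19 LD2_c20 LD3_c45)) = (LP (LK LD1_c17 LD2_c15 LD3_c42)) :=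
  Lgr Lrot35 (Lpe (f226279 IH) (Lpe (f384845 IH) (Lpr_ff (f589079 IH) (Lpn (LP (LK LD1_c17 LD2_c15 LD3_c42))))))
theorem f332286 : Led Lsl_at (LP (LK LD1_c10 LD2_c41 LD3_c25)) = (LP (LK LD1_c19 LD2_c20 LD3_c45)) :=
  Lre_a IH (LK LD1_c10 LD2_c41 LD3_c25) (LK LD1_c19 LD2_c20 LD3_c45) Lrfl Lrfl
theorem f417757 : Led Lsl_bt (LP (LK LD1_c19 LD2_c21 LD3_c7)) = (LP (LK LD1_c10 LD2_c41 LD3_c25)) :=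
  Lre_b IH (LK LD1_c19 LD2_c21 LD3_c7) (LK LD1_c10 LD2_c41 LD3_c25) Lrfl Lrfl
theorem f132922 : Led Lsl_ct (LP (LK LD1_c12 LD2_c9 LD3_c16)) = (LP (LK LD1_c6 LD2_c15 LD3_c43)) :=
  Lre_c IH (LK LD1_c12 LD2_c9 LD3_c16) (LK LD1_c6 LD2_c15 LD3_c43) Lrfl Lrfl
theorem f132924 : Led Lsl_af (LP (LK LD1_c12 LD2_c9 LD3_c16)) = (LP (LK LD1_c17 LD2_c15 LD3_c42)) :=
  Lgr Lrot68 (Lpr_ct (f132922 IH) (Lpr_at (K6.f132913 IH) (Lpr_ct (K45.f132923 IH) (Lpn (LP (LK LD1_c17 LD2_c15 LD3_c42))))))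
theorem f133056 : Led Lsl_bt (LP (LK LD1_c12 LD2_c9 LD3_c16)) = (LP (LK LD1_c21 LD2_c15 LD3_c32)) :=
  Lre_b IH (LK LD1_c12 LD2_c9 LD3_c16) (LK LD1_c21 LD2_c15 LD3_c32) Lrfl Lrfl
theorem f589090 : Led Lsl_af (LP (LK LD1_c19 LD2_c21 LD3_c7)) = (LP (LK LD1_c21 LD2_c15 LD3_c32)) :=
  Lgr Lrot36 (Lpr_bt (f417757 IH) (Lpr_at (f332286 IH) (Lpr_bt (f589083 IH) (Lpe (f132924 IH) (Lpr_bt (f133056 IH) (Lpn (LP (LK LD1_c21 LD2_c15 LD3_c32))))))))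
theorem f589093 : Led Lsl_at (LP (LK LD1_c19 LD2_c21 LD3_c7)) = (LP (LK LD1_c21 LD2_c15 LD3_c32)) :=
  Lgr Lrot100 (Lpr_af (f589090 IH) (Lpn (LP (LK LD1_c21 LD2_c15 LD3_c32))))
theorem f332140 : Led Lsl_ct (LP (LK LD1_c28 LD2_c45 LD3_c42)) = (LP (LK LD1_c19 LD2_c21 LD3_c7)) :=
  Lre_c IH (LK LD1_c28 LD2_c45 LD3_c42) (LK LD1_c19 LD2_c21 LD3_c7) Lrfl Lrfl
theorem f132953 : Led Lsl_ct (LP (LK LD1_c6 LD2_c15 LD3_c43)) = (LP (LK LD1_c12 LD2_c9 LD3_c16)) :=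
  Lre_c IH (LK LD1_c6 LD2_c15 LD3_c43) (LK LD1_c12 LD2_c9 LD3_c16) Lrfl Lrfl
theorem f280491 : Led Lsl_ct (LP (LK LD1_c11 LD2_c15 LD3_c37)) = (LP (LK LD1_c5 LD2_c42 LD3_c43)) :=
  Lre_c IH (LK LD1_c11 LD2_c15 LD3_c37) (LK LD1_c5 LD2_c42 LD3_c43) Lrfl Lrfl
theorem f424351 : Led Lsl_bt (LP (LK LD1_c20 LD2_c10 LD3_c58)) = (LP (LK LD1_c11 LD2_c15 LD3_c37)) :=
  Lre_b IH (LK LD1_c20 LD2_c10 LD3_c58) (LK LD1_c11 LD2_c15 LD3_c37) Lrfl Lrfl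
theorem f589037 : Led Lsl_ct (LP (LK LD1_c21 LD2_c15 LD3_c32)) = (LP (LK LD1_c20 LD2_c10 LD3_c58)) :=
  Lgr Lrot83 (Lpe (f133056 IH) (Lpe (f132953 IH) (Lpr_bf (K45.f589033 IH) (Lpe (f280491 IH) (Lpe (f424351 IH) (Lpn (LP (LK LD1_c20 LD2_c10 LD3_c58))))))))
theorem f589095 : Led Lsl_af (LP (LK LD1_c28 LD2_c45 LD3_c42)) = (LP (LK LD1_c20 LD2_c10 LD3_c58)) :=
  Lgr Lrot68 (Lpr_ct (f332140 IH) (Lpr_at (f589093 IH) (Lpr_ct (f589037 IH) (Lpn (LP (LK LD1_c20 LD2_c10 LD3_c58))))))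
theorem f589097 : Led Lsl_at (LP (LK LD1_c28 LD2_c45 LD3_c42)) = (LP (LK LD1_c20 LD2_c10 LD3_c58)) :=
  Lgr Lrot100 (Lpr_af (f589095 IH) (Lpn (LP (LK LD1_c20 LD2_c10 LD3_c58))))
theorem f389268 : Led Lsl_bt (LP (LK LD1_c19 LD2_c20 LD3_c51)) = (LP (LK LD1_c28 LD2_c45 LD3_c42)) :=
  Lre_b IH (LK LD1_c19 LD2_c20 LD3_c51) (LK LD1_c28 LD2_c45 LD3_c42) Lrfl Lrfl
theorem f552688 : Led Lsl_df (LP (LK LD1_c20 LD2_c19 LD3_c3)) = (LP (LK LD1_c16 LD2_c20 LD3_c36)) :=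
  Lgr Lrot38 (Lpr_dt (K39.f552685 IH) (Lpn (LP (LK LD1_c16 LD2_c20 LD3_c36))))
theorem f587056 : Led Lsl_af (LP (LK LD1_c16 LD2_c20 LD3_c36)) = (LP (LK LD1_c11 LD2_c15 LD3_c37)) :=
  Lgr Lrot117 (Lpe (f552688 IH) (Lpr_at (K45.f587054 IH) (Lpr_dt (K45.f280490 IH) (Lpn (LP (LK LD1_c11 LD2_c15 LD3_c37))))))
theorem f418026 : Led Lsl_bt (LP (LK LD1_c16 LD2_c20 LD3_c36)) = (LP (LK LD1_c26 LD2_c18 LD3_c29)) :=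
  Lre_b IH (LK LD1_c16 LD2_c20 LD3_c36) (LK LD1_c26 LD2_c18 LD3_c29) Lrfl Lrfl
theorem f589100 : Led Lsl_af (LP (LK LD1_c19 LD2_c20 LD3_c51)) = (LP (LK LD1_c26 LD2_c18 LD3_c29)) :=
  Lgr Lrot36 (Lpr_bt (f389268 IH) (Lpr_at (f589097 IH) (Lpr_bt (f424351 IH) (Lpe (f587056 IH) (Lpr_bt (f418026 IH) (Lpn (LP (LK LD1_c26 LD2_c18 LD3_c29))))))))
theorem f589105 : Led Lsl_at (LP (LK LD1_c19 LD2_c20 LD3_c51)) = (LP (LK LD1_c26 LD2_c18 LD3_c29)) :=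
  Lgr Lrot100 (Lpr_af (f589100 IH) (Lpn (LP (LK LD1_c26 LD2_c18 LD3_c29))))
theorem f218365 : Led Lsl_ct (LP (LK LD1_c10 LD2_c41 LD3_c16)) = (LP (LK LD1_c19 LD2_c20 LD3_c51)) :=
  Lre_c IH (LK LD1_c10 LD2_c41 LD3_c16) (LK LD1_c19 LD2_c20 LD3_c51) Lrfl Lrfl
theorem f589109 : Led Lsl_cf (LP (LK LD1_c19 LD2_c20 LD3_c48)) = (LP (LK LD1_c26 LD2_c18 LD3_c29)) :=
  Lgr Lrot1 (Lpr_at (K41.f393886 IH) (Lpr_ct (f218365 IH) (Lpr_at (f589105 IH) (Lpn (LP (LK LD1_c26 LD2_c18 LD3_c29))))))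
theorem f569757 : Led Lsl_bt (LP (LK LD1_c20 LD2_c10 LD3_c52)) = (LP (LK LD1_c11 LD2_c15 LD3_c35)) :=
  Lre_b IH (LK LD1_c20 LD2_c10 LD3_c52) (LK LD1_c11 LD2_c15 LD3_c35) Lrfl Lrfl
theorem f569758 : Led Lsl_ct (LP (LK LD1_c25 LD2_c50 LD3_c58)) = (LP (LK LD1_c20 LD2_c10 LD3_c52)) :=
  Lgr Lrot83 (Lpr_bf (K41.f393897 IH) (Lpr_cf (K42.f569755 IH) (Lpe (K42.f549591 IH) (Lpe (K41.f269680 IH) (Lpe (f569757 IH) (Lpn (LP (LK LD1_c20 LD2_c10 LD3_c52))))))))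
theorem f589123 : Led Lsl_ft (LP (LK LD1_c20 LD2_c10 LD3_c52)) = (LP (LK LD1_c26 LD2_c18 LD3_c29)) :=
  Lgr Lrot4 (Lpe (f569758 IH) (Lpr_ff (K41.f393891 IH) (Lpr_cf (f589109 IH) (Lpn (LP (LK LD1_c26 LD2_c18 LD3_c29))))))
theorem f269681 : Led Lsl_bt (LP (LK LD1_c11 LD2_c15 LD3_c35)) = (LP (LK LD1_c20 LD2_c10 LD3_c52)) :=
  Lre_b IH (LK LD1_c11 LD2_c15 LD3_c35) (LK LD1_c20 LD2_c10 LD3_c52) Lrfl Lrfl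
theorem f571026 : Led Lsl_bt (LP (LK LD1_c26 LD2_c18 LD3_c29)) = (LP (LK LD1_c16 LD2_c20 LD3_c36)) :=
  Lre_b IH (LK LD1_c26 LD2_c18 LD3_c29) (LK LD1_c16 LD2_c20 LD3_c36) Lrfl Lrfl
theorem f589127 : Led Lsl_ff (LP (LK LD1_c11 LD2_c15 LD3_c35)) = (LP (LK LD1_c16 LD2_c20 LD3_c36)) :=
  Lgr Lrot25 (Lpr_bt (f269681 IH) (Lpr_ft (f589123 IH) (Lpr_bt (f571026 IH) (Lpn (LP (LK LD1_c16 LD2_c20 LD3_c36))))))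
theorem f589140 : Led Lsl_at (LP (LK LD1_c11 LD2_c15 LD3_c35)) = (LP (LK LD1_c16 LD2_c20 LD3_c38)) :=
  Lgr Lrot26 (Lpr_ff (f589127 IH) (Lpe (K43.f566695 IH) (Lpe (K45.f574023 IH) (Lpn (LP (LK LD1_c16 LD2_c20 LD3_c38))))))
theorem f589151 : Led Lsl_ff (LP (LK LD1_c11 LD2_c15 LD3_c37)) = (LP (LK LD1_c16 LD2_c20 LD3_c38)) :=
  Lgr Lrot30 (Lpe (f587056 IH) (Lpe (f589127 IH) (Lpr_at (f589140 IH) (Lpn (LP (LK LD1_c16 LD2_c20 LD3_c38))))))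
theorem f178964 : Led Lsl_at (LP (LK LD1_c9 LD2_c1 LD3_c19)) = (LP (LK LD1_c4 LD2_c31 LD3_c40)) :=
  Lre_a IH (LK LD1_c9 LD2_c1 LD3_c19) (LK LD1_c4 LD2_c31 LD3_c40) Lrfl Lrfl
theorem f566646 : Led Lsl_ft (LP (LK LD1_c5 LD2_c37 LD3_c51)) = (LP (LK LD1_c9 LD2_c1 LD3_c19)) :=
  Lgr Lrot2 (Lpr_gt (K41.f566640 IH) (Lpr_gt (K39.f178959 IH) (Lpe (f178964 IH) (Lpn (LP (LK LD1_c9 LD2_c1 LD3_c19))))))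
theorem f574397 : Led Lsl_cf (LP (LK LD1_c4 LD2_c56 LD3_c51)) = (LP (LK LD1_c9 LD2_c1 LD3_c19)) :=
  Lgr Lrot108 (Lpr_ft (K43.f574393 IH) (Lpe (K41.f566624 IH) (Lpr_ft (f566646 IH) (Lpn (LP (LK LD1_c9 LD2_c1 LD3_c19))))))
theorem f418683 : Led Lsl_at (LP (LK LD1_c5 LD2_c40 LD3_c23)) = (LP (LK LD1_c11 LD2_c11 LD3_c25)) :=
  Lre_a IH (LK LD1_c5 LD2_c40 LD3_c23) (LK LD1_c11 LD2_c11 LD3_c25) Lrfl Lrfl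
theorem f552646 : Led Lsl_df (LP (LK LD1_c9 LD2_c1 LD3_c19)) = (LP (LK LD1_c11 LD2_c11 LD3_c25)) :=
  Lgr Lrot18 (Lpr_at (f178964 IH) (Lpr_dt (K39.f552611 IH) (Lpr_at (f418683 IH) (Lpn (LP (LK LD1_c11 LD2_c11 LD3_c25))))))
theorem f588736 : Led Lsl_dt (LP (LK LD1_c11 LD2_c21 LD3_c20)) = (LP (LK LD1_c9 LD2_c2 LD3_c5)) :=
  Lgr Lrot42 (Lpr_df (K45.f588729 IH) (Lpn (LP (LK LD1_c9 LD2_c2 LD3_c5))))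
theorem f589161 : Led Lsl_cf (LP (LK LD1_c11 LD2_c11 LD3_c25)) = (LP (LK LD1_c9 LD2_c2 LD3_c5)) :=
  Lgr Lrot116 (Lpe (f552646 IH) (Lpe (f574397 IH) (Lpr_dt (K39.f552690 IH) (Lpr_ct (K39.f236583 IH) (Lpr_af (f587056 IH) (Lpr_ff (f589151 IH) (Lpe (K43.f579283 IH) (Lpr_ct (K43.f385842 IH) (Lpr_dt (f588736 IH) (Lpn (LP (LK LD1_c9 LD2_c2 LD3_c5))))))))))))
theorem f556761 : Led Lsl_bt (LP (LK LD1_c6 LD2_c15 LD3_c44)) = (LP (LK LD1_c4 LD2_c56 LD3_c52)) :=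
  Lgr Lrot128 (Lpe (K6.f132949 IH) (Lpr_bf (K39.f556755 IH) (Lpe (K43.f211936 IH) (Lpe (K39.f211849 IH) (Lpr_cf (K43.f211889 IH) (Lpn (LP (LK LD1_c4 LD2_c56 LD3_c52))))))))
theorem f569607 : Led Lsl_ct (LP (LK LD1_c8 LD2_c2 LD3_c6)) = (LP (LK LD1_c8 LD2_c1 LD3_c41)) :=
  Lgr Lrot91 (Lpr_gf (K42.f569603 IH) (Lpe (K41.f556775 IH) (Lpr_ct (K39.f556880 IH) (Lpe (K39.f132966 IH) (Lpe (K40.f132934 IH) (Lpr_bt (f556761 IH) (Lpe (K39.f385386 IH) (Lpr_bf (K38.f385882 IH) (Lpe (K42.f331812 IH) (Lpe (K42.f406898 IH) (Lpn (LP (LK LD1_c8 LD2_c1 LD3_c41)))))))))))))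
theorem f575821 : Led Lsl_bf (LP (LK LD1_c15 LD2_c13 LD3_c17)) = (LP (LK LD1_c10 LD2_c16 LD3_c12)) :=
  Lgr Lrot96 (Lpr_et (K45.f556847 IH) (Lpr_bt (K45.f575815 IH) (Lpr_et (K41.f567240 IH) (Lpn (LP (LK LD1_c10 LD2_c16 LD3_c12))))))
theorem f579797 : Led Lsl_cf (LP (LK LD1_c5 LD2_c37 LD3_c38)) = (LP (LK LD1_c10 LD2_c16 LD3_c12)) :=
  Lgr Lrot163 (Lpr_gf (K43.f579791 IH) (Lpr_cf (K43.f211889 IH) (Lpe (K39.f385386 IH) (Lpr_bf (K38.f385882 IH) (Lpe (K42.f331812 IH) (Lpe (K42.f406898 IH) (Lpe (f569607 IH) (Lpr_bt (K42.f502420 IH) (Lpr_gf (K42.f570983 IH) (Lpr_bf (f575821 IH) (Lpn (LP (LK LD1_c10 LD2_c16 LD3_c12)))))))))))))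
theorem f60697 : Led Lsl_at (LP (LK LD1_c2 LD2_c48 LD3_c59)) = (LP (LK LD1_c5 LD2_c46 LD3_c25)) :=
  Lre_a IH (LK LD1_c2 LD2_c48 LD3_c59) (LK LD1_c5 LD2_c46 LD3_c25) Lrfl Lrfl
theorem f567243 : Led Lsl_gf (LP (LK LD1_c10 LD2_c16 LD3_c12)) = (LP (LK LD1_c5 LD2_c46 LD3_c31)) :=
  Lgr Lrot47 (Lpr_gt (K41.f567241 IH) (Lpe (f60697 IH) (Lpe (K1.f60258 IH) (Lpn (LP (LK LD1_c5 LD2_c46 LD3_c31))))))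
theorem f579799 : Led Lsl_df (LP (LK LD1_c5 LD2_c37 LD3_c38)) = (LP (LK LD1_c7 LD2_c59 LD3_c36)) :=
  Lgr Lrot162 (Lpr_cf (f579797 IH) (Lpr_gf (f567243 IH) (Lpe (K40.f60134 IH) (Lpe (K40.f547817 IH) (Lpr_dt (K18.f174593 IH) (Lpe (K31.f407062 IH) (Lpr_ct (K31.f173370 IH) (Lpr_gt (K39.f407066 IH) (Lpr_ct (K40.f407069 IH) (Lpn (LP (LK LD1_c7 LD2_c59 LD3_c36))))))))))))
theorem f132516 : Led Lsl_et (LP (LK LD1_c1 LD2_c21 LD3_c2)) = (LP (LK LD1_c2 LD2_c49 LD3_c61)) :=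
  Lre_e IH (LK LD1_c1 LD2_c21 LD3_c2) (LK LD1_c2 LD2_c49 LD3_c61) Lrfl Lrfl
theorem f574517 : Led Lsl_ft (LP (LK LD1_c2 LD2_c44 LD3_c51)) = (LP (LK LD1_c4 LD2_c31 LD3_c40)) :=
  Lgr Lrot86 (Lpe (K44.f211892 IH) (Lpr_ff (K43.f574512 IH) (Lpe (f132516 IH) (Lpe (K5.f132491 IH) (Lpr_ef (K39.f544931 IH) (Lpn (LP (LK LD1_c4 LD2_c31 LD3_c40))))))))
theorem f178969 : Led Lsl_at (LP (LK LD1_c4 LD2_c31 LD3_c40)) = (LP (LK LD1_c9 LD2_c1 LD3_c19)) :=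
  Lre_a IH (LK LD1_c4 LD2_c31 LD3_c40) (LK LD1_c9 LD2_c1 LD3_c19) Lrfl Lrfl
theorem f579793 : Led Lsl_gt (LP (LK LD1_c5 LD2_c37 LD3_c38)) = (LP (LK LD1_c9 LD2_c1 LD3_c19)) :=
  Lgr Lrot46 (Lpr_gf (K43.f579791 IH) (Lpr_ft (f574517 IH) (Lpr_at (f178969 IH) (Lpn (LP (LK LD1_c9 LD2_c1 LD3_c19))))))
theorem f589175 : Led Lsl_df (LP (LK LD1_c11 LD2_c11 LD3_c25)) = (LP (LK LD1_c9 LD2_c1 LD3_c19)) :=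
  Lgr Lrot84 (Lpr_cf (f589161 IH) (Lpe (f588736 IH) (Lpe (K43.f385839 IH) (Lpe (K38.f168260 IH) (Lpe (K30.f168269 IH) (Lpe (K30.f172338 IH) (Lpr_gt (K39.f549307 IH) (Lpe (f579799 IH) (Lpr_gt (f579793 IH) (Lpn (LP (LK LD1_c9 LD2_c1 LD3_c19))))))))))))
theorem f589173 : Led Lsl_gt (LP (LK LD1_c11 LD2_c11 LD3_c25)) = (LP (LK LD1_c11 LD2_c7 LD3_c5)) :=
  Lgr Lrot94 (Lpr_cf (f589161 IH) (Lpe (K45.f281964 IH) (Lpr_dt (K16.f280398 IH) (Lpr_gt (K31.f280406 IH) (Lpe (K31.f398523 IH) (Lpe (K31.f174752 IH) (Lpr_df (K31.f407074 IH) (Lpe (K42.f566689 IH) (Lpr_df (K41.f566710 IH) (Lpn (LP (LK LD1_c11 LD2_c7 LD3_c5))))))))))))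
theorem f589193 : Led Lsl_ef (LP (LK LD1_c4 LD2_c34 LD3_c24)) = (LP (LK LD1_c9 LD2_c1 LD3_c19)) :=
  Lgr Lrot17 (Lpe (K8.f142081 IH) (Lpe (K41.f142041 IH) (Lpr_dt (K41.f142072 IH) (Lpe (K41.f557391 IH) (Lpe (K41.f567559 IH) (Lpr_gf (K41.f567563 IH) (Lpe (K41.f566687 IH) (Lpr_dt (K41.f566685 IH) (Lpe (f589173 IH) (Lpr_df (f589175 IH) (Lpn (LP (LK LD1_c9 LD2_c1 LD3_c19)))))))))))))
theorem f589199 : Led Lsl_et (LP (LK LD1_c4 LD2_c34 LD3_c24)) = (LP (LK LD1_c9 LD2_c1 LD3_c19)) :=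
  Lgr Lrot87 (Lpr_ef (f589193 IH) (Lpn (LP (LK LD1_c9 LD2_c1 LD3_c19))))
theorem f148952 : Led Lsl_et (LP (LK LD1_c9 LD2_c47 LD3_c25)) = (LP (LK LD1_c4 LD2_c58 LD3_c22)) :=
  Lre_e IH (LK LD1_c9 LD2_c47 LD3_c25) (LK LD1_c4 LD2_c58 LD3_c22) Lrfl Lrfl
theorem f157125 : Led Lsl_dt (LP (LK LD1_c17 LD2_c57 LD3_c46)) = (LP (LK LD1_c9 LD2_c47 LD3_c25)) :=
  Lre_d IH (LK LD1_c17 LD2_c57 LD3_c46) (LK LD1_c9 LD2_c47 LD3_c25) Lrfl Lrfl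
theorem f589201 : Led Lsl_ef (LP (LK LD1_c17 LD2_c57 LD3_c46)) = (LP (LK LD1_c11 LD2_c11 LD3_c25)) :=
  Lgr Lrot73 (Lpr_dt (f157125 IH) (Lpr_et (f148952 IH) (Lpr_dt (K8.f157013 IH) (Lpr_et (f589199 IH) (Lpe (f589175 IH) (Lpn (LP (LK LD1_c11 LD2_c11 LD3_c25))))))))
theorem f418628 : Led Lsl_et (LP (LK LD1_c11 LD2_c11 LD3_c26)) = (LP (LK LD1_c5 LD2_c40 LD3_c23)) :=
  Lre_e IH (LK LD1_c11 LD2_c11 LD3_c26) (LK LD1_c5 LD2_c40 LD3_c23) Lrfl Lrfl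
theorem f589203 : Led Lsl_at (LP (LK LD1_c17 LD2_c57 LD3_c46)) = (LP (LK LD1_c11 LD2_c11 LD3_c26)) :=
  Lgr Lrot80 (Lpr_ef (f589201 IH) (Lpe (f418683 IH) (Lpe (f418628 IH) (Lpn (LP (LK LD1_c11 LD2_c11 LD3_c26))))))
theorem f589209 : Led Lsl_ft (LP (LK LD1_c27 LD2_c42 LD3_c15)) = (LP (LK LD1_c17 LD2_c57 LD3_c46)) :=
  Lre_f IH (LK LD1_c27 LD2_c42 LD3_c15) (LK LD1_c17 LD2_c57 LD3_c46) Lrfl Lrfl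
theorem f418641 : Led Lsl_ft (LP (LK LD1_c11 LD2_c11 LD3_c26)) = (LP (LK LD1_c20 LD2_c5 LD3_c60)) :=
  Lre_f IH (LK LD1_c11 LD2_c11 LD3_c26) (LK LD1_c20 LD2_c5 LD3_c60) Lrfl Lrfl
theorem f589210 : Led Lsl_af (LP (LK LD1_c27 LD2_c42 LD3_c15)) = (LP (LK LD1_c20 LD2_c5 LD3_c60)) :=
  Lgr Lrot45 (Lpr_ft (f589209 IH) (Lpr_at (f589203 IH) (Lpr_ft (f418641 IH) (Lpn (LP (LK LD1_c20 LD2_c5 LD3_c60))))))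
theorem f157134 : Led Lsl_dt (LP (LK LD1_c27 LD2_c42 LD3_c15)) = (LP (LK LD1_c17 LD2_c57 LD3_c47)) :=
  Lre_d IH (LK LD1_c27 LD2_c42 LD3_c15) (LK LD1_c17 LD2_c57 LD3_c47) Lrfl Lrfl
theorem f157126 : Led Lsl_ft (LP (LK LD1_c17 LD2_c57 LD3_c47)) = (LP (LK LD1_c9 LD2_c47 LD3_c25)) :=
  Lre_f IH (LK LD1_c17 LD2_c57 LD3_c47) (LK LD1_c9 LD2_c47 LD3_c25) Lrfl Lrfl
theorem f157127 : Led Lsl_bf (LP (LK LD1_c17 LD2_c57 LD3_c47)) = (LP (LK LD1_c20 LD2_c22 LD3_c43)) :=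
  Lgr Lrot61 (Lpr_ft (f157126 IH) (Lpr_bt (K8.f157043 IH) (Lpr_ft (K4.f66302 IH) (Lpn (LP (LK LD1_c20 LD2_c22 LD3_c43))))))
theorem f117536 : Led Lsl_ef (LP (LK LD1_c20 LD2_c22 LD3_c43)) = (LP (LK LD1_c20 LD2_c26 LD3_c47)) :=
  Lgr Lrot21 (Lpr_ft (K4.f66393 IH) (Lpr_et (K8.f117535 IH) (Lpr_ft (K4.f117526 IH) (Lpr_et (f117511 IH) (Lpr_ft (K4.f24118 IH) (Lpn (LP (LK LD1_c20 LD2_c26 LD3_c47))))))))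
theorem f157132 : Led Lsl_et (LP (LK LD1_c17 LD2_c57 LD3_c47)) = (LP (LK LD1_c20 LD2_c22 LD3_c51)) :=
  Lgr Lrot74 (Lpr_bf (f157127 IH) (Lpr_ef (f117536 IH) (Lpr_bf (f132447 IH) (Lpn (LP (LK LD1_c20 LD2_c22 LD3_c51))))))
theorem f157135 : Led Lsl_ef (LP (LK LD1_c17 LD2_c57 LD3_c47)) = (LP (LK LD1_c20 LD2_c22 LD3_c51)) :=
  Lgr Lrot88 (Lpr_et (f157132 IH) (Lpn (LP (LK LD1_c20 LD2_c22 LD3_c51))))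
theorem f157908 : Led Lsl_af (LP (LK LD1_c11 LD2_c29 LD3_c59)) = (LP (LK LD1_c17 LD2_c57 LD3_c47)) :=
  Lgr Lrot50 (Lpr_et (K8.f157906 IH) (Lpr_at (f100308 IH) (Lpe (f157135 IH) (Lpn (LP (LK LD1_c17 LD2_c57 LD3_c47))))))
theorem f589216 : Led Lsl_dt (LP (LK LD1_c11 LD2_c29 LD3_c59)) = (LP (LK LD1_c20 LD2_c5 LD3_c60)) :=
  Lgr Lrot44 (Lpr_af (f157908 IH) (Lpe (f157134 IH) (Lpr_af (f589210 IH) (Lpn (LP (LK LD1_c20 LD2_c5 LD3_c60))))))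
theorem f418651 : Led Lsl_bt (LP (LK LD1_c20 LD2_c5 LD3_c60)) = (LP (LK LD1_c11 LD2_c11 LD3_c32)) :=
  Lre_b IH (LK LD1_c20 LD2_c5 LD3_c60) (LK LD1_c11 LD2_c11 LD3_c32) Lrfl Lrfl
theorem f589220 : Led Lsl_df (LP (LK LD1_c5 LD2_c51 LD3_c19)) = (LP (LK LD1_c11 LD2_c11 LD3_c32)) :=
  Lgr Lrot12 (Lpr_bt (K8.f157910 IH) (Lpr_dt (f589216 IH) (Lpr_bt (f418651 IH) (Lpn (LP (LK LD1_c11 LD2_c11 LD3_c32))))))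
theorem f589229 : Led Lsl_ft (LP (LK LD1_c5 LD2_c40 LD3_c25)) = (LP (LK LD1_c11 LD2_c11 LD3_c32)) :=
  Lre_f IH (LK LD1_c5 LD2_c40 LD3_c25) (LK LD1_c11 LD2_c11 LD3_c32) Lrfl Lrfl
theorem f589230 : Led Lsl_dt (LP (LK LD1_c2 LD2_c51 LD3_c55)) = (LP (LK LD1_c5 LD2_c40 LD3_c25)) :=
  Lgr Lrot60 (Lpe (K8.f157920 IH) (Lpr_df (f589220 IH) (Lpe (f589229 IH) (Lpn (LP (LK LD1_c5 LD2_c40 LD3_c25))))))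
theorem f418661 : Led Lsl_gt (LP (LK LD1_c11 LD2_c11 LD3_c31)) = (LP (LK LD1_c5 LD2_c40 LD3_c25)) :=
  Lre_g IH (LK LD1_c11 LD2_c11 LD3_c31) (LK LD1_c5 LD2_c40 LD3_c25) Lrfl Lrfl
theorem f710232 : Led Lsl_df (LP (LK LD1_c11 LD2_c11 LD3_c31)) = (LP (LK LD1_c6 LD2_c47 LD3_c34)) :=
  Lgr Lrot170 (Lpr_gt (f418661 IH) (Lpe (f589230 IH) (Lpr_et (K8.f22314 IH) (Lpr_gt (K8.f8360 IH) (Lpr_dt (K7.f8351 IH) (Lpr_gt (K6.f8320 IH) (Lpe (K7.f136251 IH) (Lpr_et (f136253 IH) (Lpr_gt (f640496 IH) (Lpq (f707379 IH) (Lpr_ef (K24.f416224 IH) (Lpn (LP (LK LD1_c6 LD2_c47 LD3_c34))))))))))))))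
theorem f640791 : Led Lsl_bt (LP (LK LD1_c5 LD2_c37 LD3_c47)) = (LP (LK LD1_c11 LD2_c6 LD3_c61)) :=
  Lre_b IH (LK LD1_c5 LD2_c37 LD3_c47) (LK LD1_c11 LD2_c6 LD3_c61) Lrfl Lrfl
theorem f643232 : Led Lsl_df (LP (LK LD1_c9 LD2_c32 LD3_c27)) = (LP (LK LD1_c11 LD2_c6 LD3_c61)) :=
  Lgr Lrot12 (Lpr_bt (K24.f454242 IH) (Lpr_dt (K46.f643230 IH) (Lpr_bt (f640791 IH) (Lpn (LP (LK LD1_c11 LD2_c6 LD3_c61))))))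
theorem f710300 : Led Lsl_ft (LP (LK LD1_c11 LD2_c11 LD3_c31)) = (LP (LK LD1_c11 LD2_c6 LD3_c61)) :=
  Lgr Lrot54 (Lpr_df (f710232 IH) (Lpe (K24.f454525 IH) (Lpr_df (f643232 IH) (Lpn (LP (LK LD1_c11 LD2_c6 LD3_c61))))))
theorem f319501 : Led Lsl_bt (LP (LK LD1_c11 LD2_c6 LD3_c61)) = (LP (LK LD1_c5 LD2_c37 LD3_c47)) :=
  Lre_b IH (LK LD1_c11 LD2_c6 LD3_c61) (LK LD1_c5 LD2_c37 LD3_c47) Lrfl Lrfl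
theorem f643236 : Led Lsl_dt (LP (LK LD1_c9 LD2_c32 LD3_c27)) = (LP (LK LD1_c11 LD2_c6 LD3_c61)) :=
  Lgr Lrot79 (Lpr_bf (K24.f454240 IH) (Lpr_df (K46.f643234 IH) (Lpe (f319501 IH) (Lpn (LP (LK LD1_c11 LD2_c6 LD3_c61))))))
theorem f454244 : Led Lsl_at (LP (LK LD1_c4 LD2_c49 LD3_c55)) = (LP (LK LD1_c9 LD2_c32 LD3_c27)) :=
  Lre_a IH (LK LD1_c4 LD2_c49 LD3_c55) (LK LD1_c9 LD2_c32 LD3_c27) Lrfl Lrfl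
theorem f454672 : Led Lsl_dt (LP (LK LD1_c9 LD2_c32 LD3_c28)) = (LP (LK LD1_c4 LD2_c49 LD3_c55)) :=
  Lre_d IH (LK LD1_c9 LD2_c32 LD3_c28) (LK LD1_c4 LD2_c49 LD3_c55) Lrfl Lrfl
theorem f643242 : Led Lsl_af (LP (LK LD1_c9 LD2_c32 LD3_c28)) = (LP (LK LD1_c11 LD2_c6 LD3_c61)) :=
  Lgr Lrot117 (Lpr_dt (f454672 IH) (Lpr_at (f454244 IH) (Lpr_dt (f643236 IH) (Lpn (LP (LK LD1_c11 LD2_c6 LD3_c61))))))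
theorem f710312 : Led Lsl_gt (LP (LK LD1_c5 LD2_c40 LD3_c25)) = (LP (LK LD1_c9 LD2_c32 LD3_c28)) :=
  Lgr Lrot46 (Lpe (f418661 IH) (Lpr_ft (f710300 IH) (Lpe (f643242 IH) (Lpn (LP (LK LD1_c9 LD2_c32 LD3_c28))))))
theorem f557310 : Led Lsl_dt (LP (LK LD1_c11 LD2_c7 LD3_c17)) = (LP (LK LD1_c5 LD2_c37 LD3_c61)) :=
  Lre_d IH (LK LD1_c11 LD2_c7 LD3_c17) (LK LD1_c5 LD2_c37 LD3_c61) Lrfl Lrfl
theorem f557311 : Led Lsl_ff (LP (LK LD1_c9 LD2_c1 LD3_c20)) = (LP (LK LD1_c5 LD2_c37 LD3_c61)) :=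
  Lgr Lrot19 (Lpr_dt (K41.f551833 IH) (Lpr_ft (K39.f557220 IH) (Lpr_dt (f557310 IH) (Lpn (LP (LK LD1_c5 LD2_c37 LD3_c61))))))
theorem f586761 : Led Lsl_et (LP (LK LD1_c2 LD2_c49 LD3_c50)) = (LP (LK LD1_c5 LD2_c37 LD3_c61)) :=
  Lgr Lrot69 (Lpr_ff (K4.f117533 IH) (Lpe (K8.f117510 IH) (Lpr_ff (K45.f586757 IH) (Lpe (K45.f582501 IH) (Lpr_ff (f557311 IH) (Lpn (LP (LK LD1_c5 LD2_c37 LD3_c61))))))))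
theorem f589195 : Led Lsl_bt (LP (LK LD1_c5 LD2_c37 LD3_c61)) = (LP (LK LD1_c9 LD2_c1 LD3_c19)) :=
  Lgr Lrot119 (Lpe (f586761 IH) (Lpe (K35.f132536 IH) (Lpr_ef (f589193 IH) (Lpn (LP (LK LD1_c9 LD2_c1 LD3_c19))))))
theorem f589165 : Led Lsl_ct (LP (LK LD1_c11 LD2_c11 LD3_c25)) = (LP (LK LD1_c9 LD2_c2 LD3_c5)) :=
  Lgr Lrot59 (Lpr_cf (f589161 IH) (Lpn (LP (LK LD1_c9 LD2_c2 LD3_c5))))
theorem f579287 : Led Lsl_dt (LP (LK LD1_c20 LD2_c19 LD3_c1)) = (LP (LK LD1_c16 LD2_c20 LD3_c38)) :=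
  Lgr Lrot42 (Lpr_df (K43.f579283 IH) (Lpn (LP (LK LD1_c16 LD2_c20 LD3_c38))))
theorem f211886 : Led Lsl_at (LP (LK LD1_c5 LD2_c37 LD3_c51)) = (LP (LK LD1_c2 LD2_c44 LD3_c51)) :=
  Lre_a IH (LK LD1_c5 LD2_c37 LD3_c51) (LK LD1_c2 LD2_c44 LD3_c51) Lrfl Lrfl
theorem f589189 : Led Lsl_ff (LP (LK LD1_c5 LD2_c37 LD3_c51)) = (LP (LK LD1_c9 LD2_c1 LD3_c19)) :=
  Lgr Lrot103 (Lpr_at (f211886 IH) (Lpr_cf (K43.f211889 IH) (Lpr_df (K39.f552677 IH) (Lpe (K45.f280476 IH) (Lpe (f579287 IH) (Lpe (K45.f385843 IH) (Lpr_df (K45.f588729 IH) (Lpe (f589165 IH) (Lpr_df (f589175 IH) (Lpn (LP (LK LD1_c9 LD2_c1 LD3_c19))))))))))))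
theorem f566634 : Led Lsl_bt (LP (LK LD1_c5 LD2_c37 LD3_c51)) = (LP (LK LD1_c9 LD2_c1 LD3_c20)) :=
  Lgr Lrot128 (Lpr_cf (K41.f566624 IH) (Lpe (K38.f237411 IH) (Lpe (K38.f237456 IH) (Lpe (K39.f237437 IH) (Lpe (K39.f547747 IH) (Lpn (LP (LK LD1_c9 LD2_c1 LD3_c20))))))))
theorem f589243 : Led Lsl_ff (LP (LK LD1_c5 LD2_c37 LD3_c61)) = (LP (LK LD1_c9 LD2_c1 LD3_c20)) :=
  Lgr Lrot25 (Lpr_bt (f589195 IH) (Lpe (f589189 IH) (Lpr_bt (f566634 IH) (Lpn (LP (LK LD1_c9 LD2_c1 LD3_c20))))))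
theorem f582493 : Led Lsl_ef (LP (LK LD1_c9 LD2_c1 LD3_c20)) = (LP (LK LD1_c11 LD2_c57 LD3_c34)) :=
  Lgr Lrot20 (Lpr_at (K39.f544912 IH) (Lpr_et (K44.f582491 IH) (Lpr_at (K43.f548393 IH) (Lpn (LP (LK LD1_c11 LD2_c57 LD3_c34))))))
theorem f589252 : Led Lsl_et (LP (LK LD1_c5 LD2_c37 LD3_c61)) = (LP (LK LD1_c2 LD2_c49 LD3_c50)) :=
  Lgr Lrot69 (Lpr_ff (f589243 IH) (Lpr_ef (f582493 IH) (Lpe (K45.f586763 IH) (Lpe (K42.f117512 IH) (Lpe (K11.f117521 IH) (Lpn (LP (LK LD1_c2 LD2_c49 LD3_c50))))))))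
theorem f589254 : Led Lsl_et (LP (LK LD1_c20 LD2_c0 LD3_c37)) = (LP (LK LD1_c11 LD2_c7 LD3_c17)) :=
  Lre_e IH (LK LD1_c20 LD2_c0 LD3_c37) (LK LD1_c11 LD2_c7 LD3_c17) Lrfl Lrfl
theorem f589255 : Led Lsl_df (LP (LK LD1_c20 LD2_c0 LD3_c37)) = (LP (LK LD1_c11 LD2_c25 LD3_c13)) :=
  Lgr Lrot70 (Lpr_et (f589254 IH) (Lpr_dt (f557310 IH) (Lpr_et (f589252 IH) (Lpr_dt (K4.f117532 IH) (Lpr_et (K4.f117523 IH) (Lpn (LP (LK LD1_c11 LD2_c25 LD3_c13))))))))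
theorem f589404 : Led Lsl_dt (LP (LK LD1_c20 LD2_c0 LD3_c37)) = (LP (LK LD1_c11 LD2_c25 LD3_c13)) :=
  Lgr Lrot42 (Lpr_df (f589255 IH) (Lpn (LP (LK LD1_c11 LD2_c25 LD3_c13))))
theorem f148953 : Led Lsl_dt (LP (LK LD1_c9 LD2_c47 LD3_c25)) = (LP (LK LD1_c17 LD2_c57 LD3_c46)) :=
  Lre_d IH (LK LD1_c9 LD2_c47 LD3_c25) (LK LD1_c17 LD2_c57 LD3_c46) Lrfl Lrfl
theorem f589409 : Led Lsl_bf (LP (LK LD1_c20 LD2_c0 LD3_c37)) = (LP (LK LD1_c17 LD2_c57 LD3_c46)) :=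
  Lgr Lrot93 (Lpr_dt (f589404 IH) (Lpe (K8.f157123 IH) (Lpr_dt (f148953 IH) (Lpn (LP (LK LD1_c17 LD2_c57 LD3_c46))))))
theorem f589399 : Led Lsl_at (LP (LK LD1_c20 LD2_c0 LD3_c37)) = (LP (LK LD1_c11 LD2_c7 LD3_c18)) :=
  Lre_a IH (LK LD1_c20 LD2_c0 LD3_c37) (LK LD1_c11 LD2_c7 LD3_c18) Lrfl Lrfl
theorem f589411 : Led Lsl_bt (LP (LK LD1_c11 LD2_c7 LD3_c18)) = (LP (LK LD1_c5 LD2_c38 LD3_c3)) :=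
  Lre_b IH (LK LD1_c11 LD2_c7 LD3_c18) (LK LD1_c5 LD2_c38 LD3_c3) Lrfl Lrfl
theorem f589205 : Led Lsl_af (LP (LK LD1_c17 LD2_c57 LD3_c46)) = (LP (LK LD1_c11 LD2_c11 LD3_c26)) :=
  Lgr Lrot0 (Lpr_at (f589203 IH) (Lpn (LP (LK LD1_c11 LD2_c11 LD3_c26))))
theorem f418655 : Led Lsl_bt (LP (LK LD1_c5 LD2_c40 LD3_c25)) = (LP (LK LD1_c11 LD2_c11 LD3_c26)) :=
  Lre_b IH (LK LD1_c5 LD2_c40 LD3_c25) (LK LD1_c11 LD2_c11 LD3_c26) Lrfl Lrfl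
theorem f589412 : Led Lsl_at (LP (LK LD1_c5 LD2_c38 LD3_c3)) = (LP (LK LD1_c5 LD2_c40 LD3_c25)) :=
  Lgr Lrot67 (Lpe (f589411 IH) (Lpe (f589399 IH) (Lpr_bf (f589409 IH) (Lpr_af (f589205 IH) (Lpe (f418655 IH) (Lpn (LP (LK LD1_c5 LD2_c40 LD3_c25))))))))
theorem f557246 : Led Lsl_ft (LP (LK LD1_c11 LD2_c7 LD3_c23)) = (LP (LK LD1_c5 LD2_c38 LD3_c3)) :=
  Lre_f IH (LK LD1_c11 LD2_c7 LD3_c23) (LK LD1_c5 LD2_c38 LD3_c3) Lrfl Lrfl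
theorem f589485 : Led Lsl_af (LP (LK LD1_c11 LD2_c7 LD3_c23)) = (LP (LK LD1_c11 LD2_c11 LD3_c32)) :=
  Lgr Lrot45 (Lpr_ft (f557246 IH) (Lpr_at (f589412 IH) (Lpr_ft (f589229 IH) (Lpn (LP (LK LD1_c11 LD2_c11 LD3_c32))))))
theorem f710314 : Led Lsl_gf (LP (LK LD1_c11 LD2_c7 LD3_c23)) = (LP (LK LD1_c9 LD2_c32 LD3_c28)) :=
  Lgr Lrot76 (Lpr_af (f589485 IH) (Lpe (f589229 IH) (Lpr_gt (f710312 IH) (Lpn (LP (LK LD1_c9 LD2_c32 LD3_c28))))))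
theorem f414335 : Led Lsl_bt (LP (LK LD1_c4 LD2_c49 LD3_c56)) = (LP (LK LD1_c9 LD2_c32 LD3_c28)) :=
  Lre_b IH (LK LD1_c4 LD2_c49 LD3_c56) (LK LD1_c9 LD2_c32 LD3_c28) Lrfl Lrfl
theorem f22884 : Led Lsl_ct (LP (LK LD1_c6 LD2_c45 LD3_c23)) = (LP (LK LD1_c12 LD2_c55 LD3_c1)) :=
  Lre_c IH (LK LD1_c6 LD2_c45 LD3_c23) (LK LD1_c12 LD2_c55 LD3_c1) Lrfl Lrfl
theorem f22885 : Led Lsl_gt (LP (LK LD1_c22 LD2_c4 LD3_c47)) = (LP (LK LD1_c12 LD2_c55 LD3_c1)) :=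
  Lre_g IH (LK LD1_c22 LD2_c4 LD3_c47) (LK LD1_c12 LD2_c55 LD3_c1) Lrfl Lrfl
theorem f710336 : Led Lsl_ct (LP (LK LD1_c20 LD2_c0 LD3_c40)) = (LP (LK LD1_c22 LD2_c4 LD3_c47)) :=
  Lgr Lrot64 (Lpr_bt (K43.f557228 IH) (Lpr_gf (f710314 IH) (Lpe (f414335 IH) (Lpe (K24.f414320 IH) (Lpe (K24.f22870 IH) (Lpe (K24.f22869 IH) (Lpr_gf (K0.f22850 IH) (Lpe (f22882 IH) (Lpr_ct (f22884 IH) (Lpe (f22885 IH) (Lpn (LP (LK LD1_c22 LD2_c4 LD3_c47)))))))))))))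
theorem f589487 : Led Lsl_gt (LP (LK LD1_c11 LD2_c7 LD3_c23)) = (LP (LK LD1_c11 LD2_c11 LD3_c31)) :=
  Lgr Lrot5 (Lpr_ft (f557246 IH) (Lpr_at (f589412 IH) (Lpe (f418661 IH) (Lpn (LP (LK LD1_c11 LD2_c11 LD3_c31))))))
theorem f705940 : Led Lsl_ft (LP (LK LD1_c5 LD2_c37 LD3_c47)) = (LP (LK LD1_c5 LD2_c40 LD3_c39)) :=
  Lgr Lrot48 (Lpr_ff (K50.f705936 IH) (Lpn (LP (LK LD1_c5 LD2_c40 LD3_c39))))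
theorem f710308 : Led Lsl_bf (LP (LK LD1_c11 LD2_c11 LD3_c31)) = (LP (LK LD1_c5 LD2_c40 LD3_c39)) :=
  Lgr Lrot61 (Lpr_ft (f710300 IH) (Lpr_bt (f319501 IH) (Lpr_ft (f705940 IH) (Lpn (LP (LK LD1_c5 LD2_c40 LD3_c39))))))
theorem f705977 : Led Lsl_cf (LP (LK LD1_c10 LD2_c58 LD3_c34)) = (LP (LK LD1_c5 LD2_c40 LD3_c39)) :=
  Lgr Lrot108 (Lpr_ft (K50.f705973 IH) (Lpr_ct (K41.f640786 IH) (Lpr_ft (f705940 IH) (Lpn (LP (LK LD1_c5 LD2_c40 LD3_c39))))))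
theorem f381347 : Led Lsl_gt (LP (LK LD1_c5 LD2_c42 LD3_c3)) = (LP (LK LD1_c11 LD2_c14 LD3_c24)) :=
  Lre_g IH (LK LD1_c5 LD2_c42 LD3_c3) (LK LD1_c11 LD2_c14 LD3_c24) Lrfl Lrfl
theorem f381348 : Led Lsl_ct (LP (LK LD1_c11 LD2_c14 LD3_c24)) = (LP (LK LD1_c20 LD2_c9 LD3_c25)) :=
  Lre_c IH (LK LD1_c11 LD2_c14 LD3_c24) (LK LD1_c20 LD2_c9 LD3_c25) Lrfl Lrfl
theorem f710342 : Led Lsl_gt (LP (LK LD1_c20 LD2_c9 LD3_c25)) = (LP (LK LD1_c22 LD2_c4 LD3_c47)) :=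
  Lgr Lrot149 (Lpe (f381348 IH) (Lpe (f381347 IH) (Lpe (f381346 IH) (Lpr_ct (f381329 IH) (Lpe (K50.f225363 IH) (Lpr_cf (f705977 IH) (Lpe (f710308 IH) (Lpe (f589487 IH) (Lpe (K43.f557228 IH) (Lpr_ct (f710336 IH) (Lpn (LP (LK LD1_c22 LD2_c4 LD3_c47)))))))))))))
theorem f496820 : Led Lsl_ct (LP (LK LD1_c5 LD2_c56 LD3_c32)) = (LP (LK LD1_c11 LD2_c38 LD3_c23)) :=
  Lre_c IH (LK LD1_c5 LD2_c56 LD3_c32) (LK LD1_c11 LD2_c38 LD3_c23) Lrfl Lrfl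
theorem f710338 : Led Lsl_cf (LP (LK LD1_c20 LD2_c0 LD3_c40)) = (LP (LK LD1_c22 LD2_c4 LD3_c47)) :=
  Lgr Lrot11 (Lpr_ct (f710336 IH) (Lpn (LP (LK LD1_c22 LD2_c4 LD3_c47))))
theorem f557245 : Led Lsl_ft (LP (LK LD1_c5 LD2_c40 LD3_c28)) = (LP (LK LD1_c11 LD2_c11 LD3_c39)) :=
  Lre_f IH (LK LD1_c5 LD2_c40 LD3_c28) (LK LD1_c11 LD2_c11 LD3_c39) Lrfl Lrfl
theorem f579214 : Led Lsl_ft (LP (LK LD1_c11 LD2_c7 LD3_c15)) = (LP (LK LD1_c5 LD2_c37 LD3_c59)) :=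
  Lre_f IH (LK LD1_c11 LD2_c7 LD3_c15) (LK LD1_c5 LD2_c37 LD3_c59) Lrfl Lrfl
theorem f579215 : Led Lsl_at (LP (LK LD1_c11 LD2_c11 LD3_c39)) = (LP (LK LD1_c11 LD2_c7 LD3_c15)) :=
  Lgr Lrot66 (Lpe (f557245 IH) (Lpr_af (K43.f579196 IH) (Lpe (f579214 IH) (Lpn (LP (LK LD1_c11 LD2_c7 LD3_c15))))))
theorem f589497 : Led Lsl_et (LP (LK LD1_c11 LD2_c7 LD3_c15)) = (LP (LK LD1_c11 LD2_c11 LD3_c32)) :=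
  Lgr Lrot123 (Lpe (f579215 IH) (Lpr_ef (K43.f557229 IH) (Lpr_af (f589485 IH) (Lpn (LP (LK LD1_c11 LD2_c11 LD3_c32))))))
theorem f589501 : Led Lsl_ef (LP (LK LD1_c11 LD2_c7 LD3_c15)) = (LP (LK LD1_c11 LD2_c11 LD3_c32)) :=
  Lgr Lrot88 (Lpr_et (f589497 IH) (Lpn (LP (LK LD1_c11 LD2_c11 LD3_c32))))
theorem f579224 : Led Lsl_bt (LP (LK LD1_c11 LD2_c7 LD3_c15)) = (LP (LK LD1_c20 LD2_c0 LD3_c25)) :=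
  Lre_b IH (LK LD1_c11 LD2_c7 LD3_c15) (LK LD1_c20 LD2_c0 LD3_c25) Lrfl Lrfl
theorem f589503 : Led Lsl_et (LP (LK LD1_c20 LD2_c0 LD3_c25)) = (LP (LK LD1_c20 LD2_c5 LD3_c60)) :=
  Lgr Lrot74 (Lpe (f579224 IH) (Lpr_ef (f589501 IH) (Lpe (f418651 IH) (Lpn (LP (LK LD1_c20 LD2_c5 LD3_c60))))))
theorem f589222 : Led Lsl_df (LP (LK LD1_c11 LD2_c29 LD3_c59)) = (LP (LK LD1_c20 LD2_c5 LD3_c60)) :=
  Lgr Lrot38 (Lpr_dt (f589216 IH) (Lpn (LP (LK LD1_c20 LD2_c5 LD3_c60))))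
theorem f100313 : Led Lsl_dt (LP (LK LD1_c11 LD2_c25 LD3_c31)) = (LP (LK LD1_c20 LD2_c22 LD3_c58)) :=
  Lre_d IH (LK LD1_c11 LD2_c25 LD3_c31) (LK LD1_c20 LD2_c22 LD3_c58) Lrfl Lrfl
theorem f100303 : Led Lsl_ft (LP (LK LD1_c11 LD2_c25 LD3_c30)) = (LP (LK LD1_c20 LD2_c22 LD3_c58)) :=
  Lre_f IH (LK LD1_c11 LD2_c25 LD3_c30) (LK LD1_c20 LD2_c22 LD3_c58) Lrfl Lrfl
theorem f574497 : Led Lsl_et (LP (LK LD1_c10 LD2_c6 LD3_c3)) = (LP (LK LD1_c5 LD2_c7 LD3_c52)) :=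
  Lre_e IH (LK LD1_c10 LD2_c6 LD3_c3) (LK LD1_c5 LD2_c7 LD3_c52) Lrfl Lrfl
theorem f574498 : Led Lsl_ft (LP (LK LD1_c18 LD2_c24 LD3_c58)) = (LP (LK LD1_c10 LD2_c6 LD3_c3)) :=
  Lre_f IH (LK LD1_c18 LD2_c24 LD3_c58) (LK LD1_c10 LD2_c6 LD3_c3) Lrfl Lrfl
theorem f574499 : Led Lsl_et (LP (LK LD1_c20 LD2_c22 LD3_c58)) = (LP (LK LD1_c18 LD2_c24 LD3_c58)) :=
  Lgr Lrot69 (Lpe (f100303 IH) (Lpe (K43.f547984 IH) (Lpr_ff (K43.f574487 IH) (Lpe (f574497 IH) (Lpe (f574498 IH) (Lpn (LP (LK LD1_c18 LD2_c24 LD3_c58))))))))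
theorem f589505 : Led Lsl_df (LP (LK LD1_c20 LD2_c0 LD3_c25)) = (LP (LK LD1_c18 LD2_c24 LD3_c58)) :=
  Lgr Lrot70 (Lpr_et (f589503 IH) (Lpe (f589222 IH) (Lpr_et (K8.f157906 IH) (Lpr_dt (f100313 IH) (Lpr_et (f574499 IH) (Lpn (LP (LK LD1_c18 LD2_c24 LD3_c58))))))))
theorem f589509 : Led Lsl_dt (LP (LK LD1_c20 LD2_c0 LD3_c25)) = (LP (LK LD1_c18 LD2_c24 LD3_c58)) :=
  Lgr Lrot42 (Lpr_df (f589505 IH) (Lpn (LP (LK LD1_c18 LD2_c24 LD3_c58))))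
theorem f579221 : Led Lsl_bt (LP (LK LD1_c20 LD2_c0 LD3_c25)) = (LP (LK LD1_c11 LD2_c7 LD3_c15)) :=
  Lre_b IH (LK LD1_c20 LD2_c0 LD3_c25) (LK LD1_c11 LD2_c7 LD3_c15) Lrfl Lrfl
theorem f418647 : Led Lsl_bt (LP (LK LD1_c11 LD2_c11 LD3_c32)) = (LP (LK LD1_c20 LD2_c5 LD3_c60)) :=
  Lre_b IH (LK LD1_c11 LD2_c11 LD3_c32) (LK LD1_c20 LD2_c5 LD3_c60) Lrfl Lrfl
theorem f589499 : Led Lsl_ef (LP (LK LD1_c20 LD2_c0 LD3_c25)) = (LP (LK LD1_c20 LD2_c5 LD3_c60)) :=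
  Lgr Lrot29 (Lpr_bt (f579221 IH) (Lpr_et (f589497 IH) (Lpr_bt (f418647 IH) (Lpn (LP (LK LD1_c20 LD2_c5 LD3_c60))))))
theorem f100318 : Led Lsl_dt (LP (LK LD1_c20 LD2_c22 LD3_c58)) = (LP (LK LD1_c11 LD2_c25 LD3_c31)) :=
  Lre_d IH (LK LD1_c20 LD2_c22 LD3_c58) (LK LD1_c11 LD2_c25 LD3_c31) Lrfl Lrfl
theorem f589514 : Led Lsl_ef (LP (LK LD1_c20 LD2_c22 LD3_c58)) = (LP (LK LD1_c18 LD2_c24 LD3_c58)) :=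
  Lgr Lrot73 (Lpr_dt (f100318 IH) (Lpe (K8.f157899 IH) (Lpr_dt (f589216 IH) (Lpe (f589499 IH) (Lpr_dt (f589509 IH) (Lpn (LP (LK LD1_c18 LD2_c24 LD3_c58))))))))
theorem f545097 : Led Lsl_bt (LP (LK LD1_c20 LD2_c22 LD3_c58)) = (LP (LK LD1_c11 LD2_c25 LD3_c45)) :=
  Lre_b IH (LK LD1_c20 LD2_c22 LD3_c58) (LK LD1_c11 LD2_c25 LD3_c45) Lrfl Lrfl
theorem f579176 : Led Lsl_bt (LP (LK LD1_c10 LD2_c6 LD3_c11)) = (LP (LK LD1_c18 LD2_c24 LD3_c58)) :=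
  Lre_b IH (LK LD1_c10 LD2_c6 LD3_c11) (LK LD1_c18 LD2_c24 LD3_c58) Lrfl Lrfl
theorem f589516 : Led Lsl_et (LP (LK LD1_c11 LD2_c25 LD3_c45)) = (LP (LK LD1_c10 LD2_c6 LD3_c11)) :=
  Lgr Lrot74 (Lpe (f545097 IH) (Lpr_ef (f589514 IH) (Lpe (f579176 IH) (Lpn (LP (LK LD1_c10 LD2_c6 LD3_c11))))))
theorem f589520 : Led Lsl_ef (LP (LK LD1_c11 LD2_c25 LD3_c45)) = (LP (LK LD1_c10 LD2_c6 LD3_c11)) :=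
  Lgr Lrot88 (Lpr_et (f589516 IH) (Lpn (LP (LK LD1_c10 LD2_c6 LD3_c11))))
theorem f117257 : Led Lsl_dt (LP (LK LD1_c5 LD2_c48 LD3_c4)) = (LP (LK LD1_c11 LD2_c25 LD3_c45)) :=
  Lre_d IH (LK LD1_c5 LD2_c48 LD3_c4) (LK LD1_c11 LD2_c25 LD3_c45) Lrfl Lrfl
theorem f545028 : Led Lsl_at (LP (LK LD1_c11 LD2_c25 LD3_c45)) = (LP (LK LD1_c10 LD2_c6 LD3_c17)) :=
  Lgr Lrot51 (Lpe (f117257 IH) (Lpe (f132450 IH) (Lpr_df (K38.f545026 IH) (Lpn (LP (LK LD1_c10 LD2_c6 LD3_c17))))))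
theorem f557569 : Led Lsl_ft (LP (LK LD1_c10 LD2_c5 LD3_c54)) = (LP (LK LD1_c18 LD2_c24 LD3_c41)) :=
  Lre_f IH (LK LD1_c10 LD2_c5 LD3_c54) (LK LD1_c18 LD2_c24 LD3_c41) Lrfl Lrfl
theorem f579171 : Led Lsl_ft (LP (LK LD1_c10 LD2_c6 LD3_c11)) = (LP (LK LD1_c5 LD2_c7 LD3_c54)) :=
  Lre_f IH (LK LD1_c10 LD2_c6 LD3_c11) (LK LD1_c5 LD2_c7 LD3_c54) Lrfl Lrfl
theorem f579172 : Led Lsl_at (LP (LK LD1_c18 LD2_c24 LD3_c41)) = (LP (LK LD1_c10 LD2_c6 LD3_c11)) :=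
  Lgr Lrot66 (Lpe (f557569 IH) (Lpr_af (K43.f579162 IH) (Lpe (f579171 IH) (Lpn (LP (LK LD1_c10 LD2_c6 LD3_c11))))))
theorem f589522 : Led Lsl_et (LP (LK LD1_c10 LD2_c6 LD3_c17)) = (LP (LK LD1_c18 LD2_c24 LD3_c41)) :=
  Lgr Lrot123 (Lpe (f545028 IH) (Lpr_ef (f589520 IH) (Lpe (f579172 IH) (Lpn (LP (LK LD1_c18 LD2_c24 LD3_c41))))))
theorem f157903 : Led Lsl_bt (LP (LK LD1_c11 LD2_c29 LD3_c59)) = (LP (LK LD1_c5 LD2_c51 LD3_c19)) :=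
  Lre_b IH (LK LD1_c11 LD2_c29 LD3_c59) (LK LD1_c5 LD2_c51 LD3_c19) Lrfl Lrfl
theorem f589224 : Led Lsl_dt (LP (LK LD1_c5 LD2_c51 LD3_c19)) = (LP (LK LD1_c11 LD2_c11 LD3_c32)) :=
  Lgr Lrot79 (Lpe (f157903 IH) (Lpr_df (f589222 IH) (Lpe (f418647 IH) (Lpn (LP (LK LD1_c11 LD2_c11 LD3_c32))))))
theorem f157917 : Led Lsl_ct (LP (LK LD1_c5 LD2_c51 LD3_c19)) = (LP (LK LD1_c11 LD2_c30 LD3_c2)) :=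
  Lre_c IH (LK LD1_c5 LD2_c51 LD3_c19) (LK LD1_c11 LD2_c30 LD3_c2) Lrfl Lrfl
theorem f158093 : Led Lsl_at (LP (LK LD1_c5 LD2_c47 LD3_c50)) = (LP (LK LD1_c5 LD2_c51 LD3_c19)) :=
  Lgr Lrot107 (Lpe (K6.f66305 IH) (Lpr_af (K8.f158085 IH) (Lpe (f157917 IH) (Lpn (LP (LK LD1_c5 LD2_c51 LD3_c19))))))
theorem f589495 : Led Lsl_dt (LP (LK LD1_c11 LD2_c7 LD3_c23)) = (LP (LK LD1_c5 LD2_c47 LD3_c50)) :=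
  Lgr Lrot44 (Lpr_af (f589485 IH) (Lpe (f589224 IH) (Lpe (f158093 IH) (Lpn (LP (LK LD1_c5 LD2_c47 LD3_c50))))))
theorem f589524 : Led Lsl_df (LP (LK LD1_c11 LD2_c11 LD3_c39)) = (LP (LK LD1_c18 LD2_c24 LD3_c41)) :=
  Lgr Lrot70 (Lpr_et (K43.f557235 IH) (Lpr_dt (f589495 IH) (Lpe (f117832 IH) (Lpr_dt (K38.f545006 IH) (Lpr_et (f589522 IH) (Lpn (LP (LK LD1_c18 LD2_c24 LD3_c41))))))))
theorem f589528 : Led Lsl_dt (LP (LK LD1_c11 LD2_c11 LD3_c39)) = (LP (LK LD1_c18 LD2_c24 LD3_c41)) :=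
  Lgr Lrot42 (Lpr_df (f589524 IH) (Lpn (LP (LK LD1_c18 LD2_c24 LD3_c41))))
theorem f100320 : Led Lsl_ct (LP (LK LD1_c11 LD2_c25 LD3_c40)) = (LP (LK LD1_c5 LD2_c48 LD3_c4)) :=
  Lre_c IH (LK LD1_c11 LD2_c25 LD3_c40) (LK LD1_c5 LD2_c48 LD3_c4) Lrfl Lrfl
theorem f24115 : Led Lsl_ct (LP (LK LD1_c5 LD2_c51 LD3_c13)) = (LP (LK LD1_c11 LD2_c29 LD3_c50)) :=
  Lre_c IH (LK LD1_c5 LD2_c51 LD3_c13) (LK LD1_c11 LD2_c29 LD3_c50) Lrfl Lrfl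
theorem f117251 : Led Lsl_at (LP (LK LD1_c5 LD2_c48 LD3_c4)) = (LP (LK LD1_c5 LD2_c51 LD3_c13)) :=
  Lgr Lrot107 (Lpe (f100320 IH) (Lpr_af (K4.f117240 IH) (Lpe (f24115 IH) (Lpn (LP (LK LD1_c5 LD2_c51 LD3_c13))))))
theorem f117193 : Led Lsl_dt (LP (LK LD1_c11 LD2_c25 LD3_c45)) = (LP (LK LD1_c5 LD2_c48 LD3_c4)) :=
  Lre_d IH (LK LD1_c11 LD2_c25 LD3_c45) (LK LD1_c5 LD2_c48 LD3_c4) Lrfl Lrfl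
theorem f545021 : Led Lsl_af (LP (LK LD1_c11 LD2_c25 LD3_c45)) = (LP (LK LD1_c10 LD2_c6 LD3_c17)) :=
  Lgr Lrot117 (Lpr_dt (f117193 IH) (Lpr_at (f117251 IH) (Lpr_dt (K38.f545006 IH) (Lpn (LP (LK LD1_c10 LD2_c6 LD3_c17))))))
theorem f579174 : Led Lsl_af (LP (LK LD1_c18 LD2_c24 LD3_c41)) = (LP (LK LD1_c10 LD2_c6 LD3_c11)) :=
  Lgr Lrot0 (Lpr_at (f579172 IH) (Lpn (LP (LK LD1_c10 LD2_c6 LD3_c11))))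
theorem f589518 : Led Lsl_ef (LP (LK LD1_c10 LD2_c6 LD3_c17)) = (LP (LK LD1_c18 LD2_c24 LD3_c41)) :=
  Lgr Lrot20 (Lpe (f545021 IH) (Lpr_et (f589516 IH) (Lpe (f579174 IH) (Lpn (LP (LK LD1_c18 LD2_c24 LD3_c41))))))
theorem f117834 : Led Lsl_ff (LP (LK LD1_c1 LD2_c21 LD3_c59)) = (LP (LK LD1_c1 LD2_c21 LD3_c1)) :=
  Lgr Lrot3 (Lpr_ft (f117829 IH) (Lpn (LP (LK LD1_c1 LD2_c21 LD3_c1))))
theorem f112931 : Led Lsl_et (LP (LK LD1_c1 LD2_c21 LD3_c59)) = (LP (LK LD1_c2 LD2_c51 LD3_c52)) :=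
  Lre_e IH (LK LD1_c1 LD2_c21 LD3_c59) (LK LD1_c2 LD2_c51 LD3_c52) Lrfl Lrfl
theorem f66396 : Led Lsl_et (LP (LK LD1_c2 LD2_c49 LD3_c56)) = (LP (LK LD1_c1 LD2_c21 LD3_c1)) :=
  Lre_e IH (LK LD1_c2 LD2_c49 LD3_c56) (LK LD1_c1 LD2_c21 LD3_c1) Lrfl Lrfl
theorem f117837 : Led Lsl_et (LP (LK LD1_c5 LD2_c51 LD3_c13)) = (LP (LK LD1_c5 LD2_c47 LD3_c50)) :=
  Lgr Lrot69 (Lpe (K38.f117836 IH) (Lpe (f112931 IH) (Lpr_ff (f117834 IH) (Lpe (f66396 IH) (Lpe (K6.f66312 IH) (Lpn (LP (LK LD1_c5 LD2_c47 LD3_c50))))))))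
theorem f589532 : Led Lsl_df (LP (LK LD1_c11 LD2_c7 LD3_c23)) = (LP (LK LD1_c5 LD2_c47 LD3_c50)) :=
  Lgr Lrot70 (Lpe (K43.f557229 IH) (Lpr_dt (f589528 IH) (Lpe (f589518 IH) (Lpe (K38.f545026 IH) (Lpr_et (f117837 IH) (Lpn (LP (LK LD1_c5 LD2_c47 LD3_c50))))))))
theorem f557240 : Led Lsl_bt (LP (LK LD1_c11 LD2_c7 LD3_c23)) = (LP (LK LD1_c20 LD2_c0 LD3_c40)) :=
  Lre_b IH (LK LD1_c11 LD2_c7 LD3_c23) (LK LD1_c20 LD2_c0 LD3_c40) Lrfl Lrfl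
theorem f66296 : Led Lsl_bt (LP (LK LD1_c11 LD2_c25 LD3_c17)) = (LP (LK LD1_c5 LD2_c47 LD3_c50)) :=
  Lre_b IH (LK LD1_c11 LD2_c25 LD3_c17) (LK LD1_c5 LD2_c47 LD3_c50) Lrfl Lrfl
theorem f589540 : Led Lsl_dt (LP (LK LD1_c20 LD2_c0 LD3_c40)) = (LP (LK LD1_c11 LD2_c25 LD3_c17)) :=
  Lgr Lrot79 (Lpe (f557240 IH) (Lpr_df (f589532 IH) (Lpe (f66296 IH) (Lpn (LP (LK LD1_c11 LD2_c25 LD3_c17))))))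
theorem f589545 : Led Lsl_df (LP (LK LD1_c20 LD2_c0 LD3_c40)) = (LP (LK LD1_c11 LD2_c25 LD3_c17)) :=
  Lgr Lrot38 (Lpr_dt (f589540 IH) (Lpn (LP (LK LD1_c11 LD2_c25 LD3_c17))))
theorem f710346 : Led Lsl_gt (LP (LK LD1_c11 LD2_c38 LD3_c23)) = (LP (LK LD1_c12 LD2_c39 LD3_c23)) :=
  Lgr Lrot150 (Lpe (f496820 IH) (Lpe (K50.f141816 IH) (Lpr_df (f618058 IH) (Lpr_gt (f381347 IH) (Lpr_ct (f381348 IH) (Lpr_gt (f710342 IH) (Lpe (f710338 IH) (Lpr_df (f589545 IH) (Lpe (K6.f66286 IH) (Lpn (LP (LK LD1_c12 LD2_c39 LD3_c23))))))))))))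
theorem f406402 : Led Lsl_dt (LP (LK LD1_c2 LD2_c47 LD3_c1)) = (LP (LK LD1_c2 LD2_c51 LD3_c39)) :=
  Lgr Lrot44 (Lpe (f289241 IH) (Lpe (K17.f242665 IH) (Lpr_af (K50.f406400 IH) (Lpn (LP (LK LD1_c2 LD2_c51 LD3_c39))))))
theorem f618115 : Led Lsl_bf (LP (LK LD1_c2 LD2_c54 LD3_c35)) = (LP (LK LD1_c2 LD2_c51 LD3_c39)) :=
  Lgr Lrot93 (Lpr_dt (f618113 IH) (Lpr_bt (f289243 IH) (Lpr_dt (f406402 IH) (Lpn (LP (LK LD1_c2 LD2_c51 LD3_c39))))))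
theorem f406418 : Led Lsl_ct (LP (LK LD1_c2 LD2_c51 LD3_c39)) = (LP (LK LD1_c5 LD2_c50 LD3_c54)) :=
  Lre_c IH (LK LD1_c2 LD2_c51 LD3_c39) (LK LD1_c5 LD2_c50 LD3_c54) Lrfl Lrfl
theorem f179218 : Led Lsl_dt (LP (LK LD1_c10 LD2_c48 LD3_c10)) = (LP (LK LD1_c5 LD2_c28 LD3_c31)) :=
  Lre_d IH (LK LD1_c10 LD2_c48 LD3_c10) (LK LD1_c5 LD2_c28 LD3_c31) Lrfl Lrfl
theorem f225368 : Led Lsl_dt (LP (LK LD1_c5 LD2_c33 LD3_c17)) = (LP (LK LD1_c10 LD2_c58 LD3_c35)) :=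
  Lre_d IH (LK LD1_c5 LD2_c33 LD3_c17) (LK LD1_c10 LD2_c58 LD3_c35) Lrfl Lrfl
theorem f289175 : Led Lsl_at (LP (LK LD1_c5 LD2_c28 LD3_c31)) = (LP (LK LD1_c5 LD2_c33 LD3_c17)) :=
  Lgr Lrot51 (Lpe (f179218 IH) (Lpr_af (K17.f289171 IH) (Lpe (f225368 IH) (Lpn (LP (LK LD1_c5 LD2_c33 LD3_c17))))))
theorem f289244 : Led Lsl_ct (LP (LK LD1_c5 LD2_c33 LD3_c17)) = (LP (LK LD1_c2 LD2_c47 LD3_c1)) :=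
  Lgr Lrot111 (Lpe (f289175 IH) (Lpe (K50.f226689 IH) (Lpr_af (K17.f289239 IH) (Lpn (LP (LK LD1_c2 LD2_c47 LD3_c1))))))
theorem f381337 : Led Lsl_ct (LP (LK LD1_c5 LD2_c50 LD3_c54)) = (LP (LK LD1_c2 LD2_c51 LD3_c39)) :=
  Lre_c IH (LK LD1_c5 LD2_c50 LD3_c54) (LK LD1_c2 LD2_c51 LD3_c39) Lrfl Lrfl
theorem f499963 : Led Lsl_ct (LP (LK LD1_c5 LD2_c50 LD3_c8)) = (LP (LK LD1_c11 LD2_c28 LD3_c41)) :=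
  Lre_c IH (LK LD1_c5 LD2_c50 LD3_c8) (LK LD1_c11 LD2_c28 LD3_c41) Lrfl Lrfl
theorem f706065 : Led Lsl_gf (LP (LK LD1_c5 LD2_c50 LD3_c54)) = (LP (LK LD1_c11 LD2_c28 LD3_c41)) :=
  Lgr Lrot172 (Lpr_ct (f381337 IH) (Lpr_dt (K35.f226014 IH) (Lpe (f289244 IH) (Lpe (K50.f225363 IH) (Lpr_cf (f705977 IH) (Lpe (K50.f402557 IH) (Lpr_dt (K50.f615365 IH) (Lpr_gt (K50.f499961 IH) (Lpr_ct (f499963 IH) (Lpn (LP (LK LD1_c11 LD2_c28 LD3_c41))))))))))))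
def v13195 : LQ := Led Lsl_at (LP (LK LD1_c4 LD2_c41 LD3_c13))
theorem f701612 : Led Lsl_at (LP (LK LD1_c4 LD2_c41 LD3_c13)) = v13195 :=
  Lrfl
theorem f706043 : (LP (LK LD1_c5 LD2_c50 LD3_c8)) = v13195 :=
  Lefun (Lecon (Lfl_af (K50.f640778 IH)) (f706038 IH).symm) (f701612 IH)
theorem f502953 : Led Lsl_at (LP (LK LD1_c1 LD2_c27 LD3_c24)) = K48.v1795 :=
  Lgr Lrot66 (Lpr_ff (K41.f502948 IH) (Lpe (K41.f502943 IH) (Lpr_ff (K48.f502952 IH) (Lpn K48.v1795))))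
theorem f139935 : Led Lsl_bt (LP (LK LD1_c3 LD2_c2 LD3_c60)) = (LP (LK LD1_c1 LD2_c27 LD3_c24)) :=
  Lre_b IH (LK LD1_c3 LD2_c2 LD3_c60) (LK LD1_c1 LD2_c27 LD3_c24) Lrfl Lrfl
def v5287 : LQ := Led Lsl_at (LP (LK LD1_c3 LD2_c2 LD3_c60))
theorem f646906 : Led Lsl_at (LP (LK LD1_c3 LD2_c2 LD3_c60)) = v5287 :=
  Lrfl
theorem f646907 : Led Lsl_af (LP (LK LD1_c3 LD2_c2 LD3_c60)) = v5287 :=
  Lgr Lrot0 (Lpr_at (f646906 IH) (Lpn v5287))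
theorem f701614 : Led Lsl_bf v5287 = v13195 :=
  Lgr Lrot81 (Lpe (f646907 IH) (Lpr_bt (f139935 IH) (Lpr_at (f502953 IH) (Lpqs (K48.f503360 IH) (Lpr_bt (K48.f416685 IH) (Lpr_at (f701612 IH) (Lpn v13195)))))))
theorem f701571 : Led Lsl_gf v5287 = v13185 :=
  Lgr Lrot76 (Lpe (f646906 IH) (Lpr_ff (K50.f504104 IH) (Lpr_gt (f701570 IH) (Lpn v13185))))
theorem f710352 : v13185 = (LP (LK LD1_c5 LD2_c47 LD3_c50)) :=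
  (Llr Lrot124 (Lpe (f701571 IH) (Lpr_bf (f701614 IH) (Lpq (f706043 IH) (Lpr_ct (f499963 IH) (Lpe (f706065 IH) (Lpe (f406418 IH) (Lpe (f618115 IH) (Lpr_gt (K50.f141816 IH) (Lpr_ct (f496820 IH) (Lpr_gt (f710346 IH) (Lpr_cf (K6.f66299 IH) (Lpr_bt (f66296 IH) (Lpn (LP (LK LD1_c5 LD2_c47 LD3_c50)))))))))))))))).symm
theorem f710359 : (LP (LK LD1_c4 LD2_c41 LD3_c4)) = v4882 :=
  Lefun (Lecon (Lfl_gt (f701570 IH)) (f710352 IH)) (f640699 IH)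
theorem f416337 : Led Lsl_et (LP (LK LD1_c9 LD2_c17 LD3_c38)) = (LP (LK LD1_c4 LD2_c41 LD3_c4)) :=
  Lre_e IH (LK LD1_c9 LD2_c17 LD3_c38) (LK LD1_c4 LD2_c41 LD3_c4) Lrfl Lrfl
theorem f180334 : Led Lsl_dt (LP (LK LD1_c4 LD2_c41 LD3_c5)) = (LP (LK LD1_c2 LD2_c17 LD3_c35)) :=
  Lre_d IH (LK LD1_c4 LD2_c41 LD3_c5) (LK LD1_c2 LD2_c17 LD3_c35) Lrfl Lrfl
theorem f416261 : Led Lsl_et (LP (LK LD1_c9 LD2_c17 LD3_c40)) = (LP (LK LD1_c4 LD2_c41 LD3_c5)) :=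
  Lre_e IH (LK LD1_c9 LD2_c17 LD3_c40) (LK LD1_c4 LD2_c41 LD3_c5) Lrfl Lrfl
theorem f416262 : Led Lsl_et (LP (LK LD1_c2 LD2_c26 LD3_c47)) = (LP (LK LD1_c4 LD2_c57 LD3_c56)) :=
  Lre_e IH (LK LD1_c2 LD2_c26 LD3_c47) (LK LD1_c4 LD2_c57 LD3_c56) Lrfl Lrfl
theorem f416263 : Led Lsl_df (LP (LK LD1_c9 LD2_c17 LD3_c40)) = (LP (LK LD1_c4 LD2_c57 LD3_c56)) :=
  Lgr Lrot70 (Lpr_et (f416261 IH) (Lpr_dt (f180334 IH) (Lpr_et (K46.f416260 IH) (Lpr_dt (K32.f416252 IH) (Lpr_et (f416262 IH) (Lpn (LP (LK LD1_c4 LD2_c57 LD3_c56))))))))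
theorem f416309 : Led Lsl_dt (LP (LK LD1_c9 LD2_c17 LD3_c40)) = (LP (LK LD1_c4 LD2_c57 LD3_c56)) :=
  Lgr Lrot42 (Lpr_df (f416263 IH) (Lpn (LP (LK LD1_c4 LD2_c57 LD3_c56))))
theorem f416317 : Led Lsl_bt (LP (LK LD1_c17 LD2_c12 LD3_c43)) = (LP (LK LD1_c9 LD2_c17 LD3_c40)) :=
  Lre_b IH (LK LD1_c17 LD2_c12 LD3_c43) (LK LD1_c9 LD2_c17 LD3_c40) Lrfl Lrfl
theorem f416319 : Led Lsl_bt (LP (LK LD1_c4 LD2_c57 LD3_c56)) = (LP (LK LD1_c9 LD2_c46 LD3_c43)) :=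
  Lre_b IH (LK LD1_c4 LD2_c57 LD3_c56) (LK LD1_c9 LD2_c46 LD3_c43) Lrfl Lrfl
theorem f416320 : Led Lsl_df (LP (LK LD1_c17 LD2_c12 LD3_c43)) = (LP (LK LD1_c9 LD2_c46 LD3_c43)) :=
  Lgr Lrot12 (Lpr_bt (f416317 IH) (Lpr_dt (f416309 IH) (Lpr_bt (f416319 IH) (Lpn (LP (LK LD1_c9 LD2_c46 LD3_c43))))))
theorem f416325 : Led Lsl_et (LP (LK LD1_c17 LD2_c12 LD3_c43)) = (LP (LK LD1_c9 LD2_c17 LD3_c37)) :=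
  Lre_e IH (LK LD1_c17 LD2_c12 LD3_c43) (LK LD1_c9 LD2_c17 LD3_c37) Lrfl Lrfl
theorem f416326 : Led Lsl_dt (LP (LK LD1_c9 LD2_c17 LD3_c37)) = (LP (LK LD1_c4 LD2_c41 LD3_c4)) :=
  Lre_d IH (LK LD1_c9 LD2_c17 LD3_c37) (LK LD1_c4 LD2_c41 LD3_c4) Lrfl Lrfl
theorem f416327 : Led Lsl_et (LP (LK LD1_c4 LD2_c41 LD3_c4)) = (LP (LK LD1_c9 LD2_c17 LD3_c38)) :=
  Lre_e IH (LK LD1_c4 LD2_c41 LD3_c4) (LK LD1_c9 LD2_c17 LD3_c38) Lrfl Lrfl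
theorem f416328 : Led Lsl_et (LP (LK LD1_c4 LD2_c57 LD3_c55)) = (LP (LK LD1_c9 LD2_c46 LD3_c43)) :=
  Lre_e IH (LK LD1_c4 LD2_c57 LD3_c55) (LK LD1_c9 LD2_c46 LD3_c43) Lrfl Lrfl
theorem f416329 : Led Lsl_dt (LP (LK LD1_c9 LD2_c17 LD3_c38)) = (LP (LK LD1_c4 LD2_c57 LD3_c55)) :=
  Lgr Lrot77 (Lpe (f416327 IH) (Lpe (f416326 IH) (Lpe (f416325 IH) (Lpr_df (f416320 IH) (Lpe (f416328 IH) (Lpn (LP (LK LD1_c4 LD2_c57 LD3_c55))))))))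
theorem f710363 : Led Lsl_gf (LP (LK LD1_c9 LD2_c1 LD3_c24)) = (LP (LK LD1_c4 LD2_c57 LD3_c55)) :=
  Lgr Lrot145 (Lpe (f612925 IH) (Lpr_et (K6.f109931 IH) (Lpr_gt (K6.f146462 IH) (Lpr_dt (K6.f135911 IH) (Lpr_gt (K11.f206003 IH) (Lpe (K8.f157928 IH) (Lpr_et (f157940 IH) (Lpr_gt (f640698 IH) (Lpq (f710359 IH) (Lpe (f416337 IH) (Lpr_dt (f416329 IH) (Lpn (LP (LK LD1_c4 LD2_c57 LD3_c55))))))))))))))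
theorem f40925 : Led Lsl_bt (LP (LK LD1_c7 LD2_c59 LD3_c47)) = (LP (LK LD1_c3 LD2_c59 LD3_c13)) :=
  Lre_b IH (LK LD1_c7 LD2_c59 LD3_c47) (LK LD1_c3 LD2_c59 LD3_c13) Lrfl Lrfl
theorem f416255 : Led Lsl_bt (LP (LK LD1_c2 LD2_c26 LD3_c47)) = (LP (LK LD1_c4 LD2_c57 LD3_c55)) :=
  Lre_b IH (LK LD1_c2 LD2_c26 LD3_c47) (LK LD1_c4 LD2_c57 LD3_c55) Lrfl Lrfl
theorem f503813 : Led Lsl_ff (LP (LK LD1_c7 LD2_c59 LD3_c47)) = (LP (LK LD1_c4 LD2_c57 LD3_c55)) :=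
  Lgr Lrot25 (Lpr_bt (f40925 IH) (Lpr_ft (K50.f503809 IH) (Lpr_bt (f416255 IH) (Lpn (LP (LK LD1_c4 LD2_c57 LD3_c55))))))
theorem f415669 : Led Lsl_dt (LP (LK LD1_c4 LD2_c33 LD3_c40)) = (LP (LK LD1_c9 LD2_c4 LD3_c57)) :=
  Lre_d IH (LK LD1_c4 LD2_c33 LD3_c40) (LK LD1_c9 LD2_c4 LD3_c57) Lrfl Lrfl
theorem f503825 : Led Lsl_af (LP (LK LD1_c5 LD2_c45 LD3_c44)) = (LP (LK LD1_c9 LD2_c4 LD3_c57)) :=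
  Lgr Lrot117 (Lpr_dt (K35.f415991 IH) (Lpr_at (K50.f503819 IH) (Lpr_dt (f415669 IH) (Lpn (LP (LK LD1_c9 LD2_c4 LD3_c57))))))
theorem f444608 : Led Lsl_dt (LP (LK LD1_c5 LD2_c45 LD3_c47)) = (LP (LK LD1_c2 LD2_c48 LD3_c39)) :=
  Lre_d IH (LK LD1_c5 LD2_c45 LD3_c47) (LK LD1_c2 LD2_c48 LD3_c39) Lrfl Lrfl
theorem f503842 : Led Lsl_ft (LP (LK LD1_c5 LD2_c45 LD3_c47)) = (LP (LK LD1_c9 LD2_c4 LD3_c57)) :=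
  Lgr Lrot142 (Lpr_dt (f444608 IH) (Lpe (K35.f444605 IH) (Lpe (K24.f413494 IH) (Lpr_ct (K32.f413502 IH) (Lpe (K16.f415309 IH) (Lpr_ct (K32.f415315 IH) (Lpr_dt (K35.f415316 IH) (Lpe (K35.f503787 IH) (Lpr_af (f503825 IH) (Lpn (LP (LK LD1_c9 LD2_c4 LD3_c57))))))))))))
theorem f503849 : Led Lsl_ff (LP (LK LD1_c5 LD2_c45 LD3_c47)) = (LP (LK LD1_c9 LD2_c4 LD3_c57)) :=
  Lgr Lrot3 (Lpr_ft (f503842 IH) (Lpn (LP (LK LD1_c9 LD2_c4 LD3_c57))))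
theorem f503863 : Led Lsl_ft (LP (LK LD1_c2 LD2_c48 LD3_c39)) = (LP (LK LD1_c4 LD2_c33 LD3_c40)) :=
  Lgr Lrot54 (Lpe (f444608 IH) (Lpr_ff (f503849 IH) (Lpe (f415669 IH) (Lpn (LP (LK LD1_c4 LD2_c33 LD3_c40))))))
theorem f503761 : Led Lsl_at (LP (LK LD1_c4 LD2_c33 LD3_c40)) = (LP (LK LD1_c2 LD2_c48 LD3_c38)) :=
  Lgr Lrot107 (Lpr_cf (K32.f415654 IH) (Lpr_af (K32.f503757 IH) (Lpe (K35.f415985 IH) (Lpn (LP (LK LD1_c2 LD2_c48 LD3_c38))))))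
theorem f503817 : Led Lsl_ft (LP (LK LD1_c2 LD2_c48 LD3_c38)) = (LP (LK LD1_c4 LD2_c33 LD3_c41)) :=
  Lgr Lrot48 (Lpr_ff (K50.f503815 IH) (Lpn (LP (LK LD1_c4 LD2_c33 LD3_c41))))
theorem f503865 : Led Lsl_af (LP (LK LD1_c2 LD2_c48 LD3_c39)) = (LP (LK LD1_c4 LD2_c33 LD3_c41)) :=
  Lgr Lrot45 (Lpr_ft (f503863 IH) (Lpr_at (f503761 IH) (Lpr_ft (f503817 IH) (Lpn (LP (LK LD1_c4 LD2_c33 LD3_c41))))))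
theorem f503895 : Led Lsl_at (LP (LK LD1_c3 LD2_c59 LD3_c14)) = (LP (LK LD1_c2 LD2_c26 LD3_c47)) :=
  Lgr Lrot107 (Lpr_cf (K35.f444605 IH) (Lpr_af (f503865 IH) (Lpr_cf (K32.f416267 IH) (Lpn (LP (LK LD1_c2 LD2_c26 LD3_c47))))))
theorem f416334 : Led Lsl_at (LP (LK LD1_c4 LD2_c57 LD3_c55)) = (LP (LK LD1_c9 LD2_c46 LD3_c41)) :=
  Lre_a IH (LK LD1_c4 LD2_c57 LD3_c55) (LK LD1_c9 LD2_c46 LD3_c41) Lrfl Lrfl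
theorem f706132 : Led Lsl_bt (LP (LK LD1_c9 LD2_c46 LD3_c41)) = (LP (LK LD1_c12 LD2_c4 LD3_c39)) :=
  Lgr Lrot62 (Lpe (f416334 IH) (Lpe (f416255 IH) (Lpe (f503895 IH) (Lpe (f40475 IH) (Lpr_af (f706128 IH) (Lpn (LP (LK LD1_c12 LD2_c4 LD3_c39))))))))
theorem f139913 : Led Lsl_ft (LP (LK LD1_c12 LD2_c4 LD3_c39)) = (LP (LK LD1_c6 LD2_c12 LD3_c43)) :=
  Lre_f IH (LK LD1_c12 LD2_c4 LD3_c39) (LK LD1_c6 LD2_c12 LD3_c43) Lrfl Lrfl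
theorem f139916 : Led Lsl_bt (LP (LK LD1_c6 LD2_c12 LD3_c43)) = (LP (LK LD1_c12 LD2_c4 LD3_c38)) :=
  Lre_b IH (LK LD1_c6 LD2_c12 LD3_c43) (LK LD1_c12 LD2_c4 LD3_c38) Lrfl Lrfl

end

end K51

end

end Cfsg.Agent.Helper28.S1692
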