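import Cfsg.Agent.Lib.Helper28.S1692.Seeds51

set_option autoImplicit false
set_option maxRecDepth 100000
set_option linter.all false

namespace Cfsg.Agent.Helper28.S1692

open Cfsg.Agent.Helper28
open Cfsg.Spor.ON (Gen)

noncomputable section

namespace K52
abbrev LD1_c0 := D1.c0
abbrev LD1_c1 := D1.c1
abbrev LD1_c2 := D1.c2
abbrev LD1_c3 := D1.c3
abbrev LD1_c4 := D1.c4
abbrev LD1_c5 := D1.c5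
abbrev LD1_c6 := D1.c6
abbrev LD1_c7 := D1.c7
abbrev LD1_c8 := D1.c8
abbrev LD1_c9 := D1.c9
abbrev LD1_c10 := D1.c10
abbrev LD1_c11 := D1.c11
abbrev LD1_c12 := D1.c12
abbrev LD1_c13 := D1.c13
abbrev LD1_c14 := D1.c14
abbrev LD1_c15 := D1.c15
abbrev LD1_c16 := D1.c16
abbrev LD1_c17 := D1.c17
abbrev LD1_c18 := D1.c18
abbrev LD1_c19 := D1.c19
abbrev LD1_c20 := D1.c20
abbrev LD1_c21 := D1.c21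
abbrev LD1_c22 := D1.c22
abbrev LD1_c23 := D1.c23
abbrev LD1_c24 := D1.c24
abbrev LD1_c25 := D1.c25
abbrev LD1_c26 := D1.c26
abbrev LD1_c27 := D1.c27
abbrev LD1_c28 := D1.c28
abbrev LD1_c29 := D1.c29
abbrev LD1_c30 := D1.c30
abbrev LD1_c31 := D1.c31
abbrev LD1_c32 := D1.c32
abbrev LD2_c0 := D2.c0
abbrev LD2_c1 := D2.c1
abbrev LD2_c2 := D2.c2
abbrev LD2_c3 := D2.c3
abbrev LD2_c4 := D2.c4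
abbrev LD2_c5 := D2.c5
abbrev LD2_c6 := D2.c6
abbrev LD2_c7 := D2.c7
abbrev LD2_c8 := D2.c8
abbrev LD2_c9 := D2.c9
abbrev LD2_c10 := D2.c10
abbrev LD2_c11 := D2.c11
abbrev LD2_c12 := D2.c12
abbrev LD2_c13 := D2.c13
abbrev LD2_c14 := D2.c14
abbrev LD2_c15 := D2.c15
abbrev LD2_c16 := D2.c16
abbrev LD2_c17 := D2.c17
abbrev LD2_c18 := D2.c18
abbrev LD2_c19 := D2.c19
abbrev LD2_c20 := D2.c20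
abbrev LD2_c21 := D2.c21
abbrev LD2_c22 := D2.c22
abbrev LD2_c23 := D2.c23
abbrev LD2_c24 := D2.c24
abbrev LD2_c25 := D2.c25
abbrev LD2_c26 := D2.c26
abbrev LD2_c27 := D2.c27
abbrev LD2_c28 := D2.c28
abbrev LD2_c29 := D2.c29
abbrev LD2_c30 := D2.c30
abbrev LD2_c31 := D2.c31
abbrev LD2_c32 := D2.c32
abbrev LD2_c33 := D2.c33
abbrev LD2_c34 := D2.c34
abbrev LD2_c35 := D2.c35
abbrev LD2_c36 := D2.c36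
abbrev LD2_c37 := D2.c37
abbrev LD2_c38 := D2.c38
abbrev LD2_c39 := D2.c39
abbrev LD2_c40 := D2.c40
abbrev LD2_c41 := D2.c41
abbrev LD2_c42 := D2.c42
abbrev LD2_c43 := D2.c43
abbrev LD2_c44 := D2.c44
abbrev LD2_c45 := D2.c45
abbrev LD2_c46 := D2.c46
abbrev LD2_c47 := D2.c47
abbrev LD2_c48 := D2.c48
abbrev LD2_c49 := D2.c49
abbrev LD2_c50 := D2.c50
abbrev LD2_c51 := D2.c51
abbrev LD2_c52 := D2.c52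
abbrev LD2_c53 := D2.c53
abbrev LD2_c54 := D2.c54
abbrev LD2_c55 := D2.c55
abbrev LD2_c56 := D2.c56
abbrev LD2_c57 := D2.c57
abbrev LD2_c58 := D2.c58
abbrev LD2_c59 := D2.c59
abbrev LD3_c0 := D3.c0
abbrev LD3_c1 := D3.c1
abbrev LD3_c2 := D3.c2
abbrev LD3_c3 := D3.c3
abbrev LD3_c4 := D3.c4
abbrev LD3_c5 := D3.c5
abbrev LD3_c6 := D3.c6
abbrev LD3_c7 := D3.c7
abbrev LD3_c8 := D3.c8
abbrev LD3_c9 := D3.c9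
abbrev LD3_c10 := D3.c10
abbrev LD3_c11 := D3.c11
abbrev LD3_c12 := D3.c12
abbrev LD3_c13 := D3.c13
abbrev LD3_c14 := D3.c14
abbrev LD3_c15 := D3.c15
abbrev LD3_c16 := D3.c16
abbrev LD3_c17 := D3.c17
abbrev LD3_c18 := D3.c18
abbrev LD3_c19 := D3.c19
abbrev LD3_c20 := D3.c20
abbrev LD3_c21 := D3.c21
abbrev LD3_c22 := D3.c22
abbrev LD3_c23 := D3.c23
abbrev LD3_c24 := D3.c24
abbrev LD3_c25 := D3.c25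
abbrev LD3_c26 := D3.c26
abbrev LD3_c27 := D3.c27
abbrev LD3_c28 := D3.c28
abbrev LD3_c29 := D3.c29
abbrev LD3_c30 := D3.c30
abbrev LD3_c31 := D3.c31
abbrev LD3_c32 := D3.c32
abbrev LD3_c33 := D3.c33
abbrev LD3_c34 := D3.c34
abbrev LD3_c35 := D3.c35
abbrev LD3_c36 := D3.c36
abbrev LD3_c37 := D3.c37
abbrev LD3_c38 := D3.c38
abbrev LD3_c39 := D3.c39
abbrev LD3_c40 := D3.c40
abbrev LD3_c41 := D3.c41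
abbrev LD3_c42 := D3.c42
abbrev LD3_c43 := D3.c43
abbrev LD3_c44 := D3.c44
abbrev LD3_c45 := D3.c45
abbrev LD3_c46 := D3.c46
abbrev LD3_c47 := D3.c47
abbrev LD3_c48 := D3.c48
abbrev LD3_c49 := D3.c49
abbrev LD3_c50 := D3.c50
abbrev LD3_c51 := D3.c51
abbrev LD3_c52 := D3.c52
abbrev LD3_c53 := D3.c53
abbrev LD3_c54 := D3.c54
abbrev LD3_c55 := D3.c55
abbrev LD3_c56 := D3.c56
abbrev LD3_c57 := D3.c57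
abbrev LD3_c58 := D3.c58
abbrev LD3_c59 := D3.c59
abbrev LD3_c60 := D3.c60
abbrev LD3_c61 := D3.c61
abbrev LG_g := Gen.g
abbrev Lsl_gt : Gen × Bool := sl_gt
alias Lfl_gt := fl_gt
alias Lpr_gt := pr_gt
abbrev Lsl_gf : Gen × Bool := sl_gf
alias Lfl_gf := fl_gf
alias Lpr_gf := pr_gf
alias Lre_g := re_g
alias Leoe_g := eoe_g
abbrev LG_a := Gen.a
abbrev Lsl_at : Gen × Bool := sl_at
alias Lfl_at := fl_at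
alias Lpr_at := pr_at
abbrev Lsl_af : Gen × Bool := sl_af
alias Lfl_af := fl_af
alias Lpr_af := pr_af
alias Lre_a := re_a
alias Leoe_a := eoe_a
abbrev LG_b := Gen.b
abbrev Lsl_bt : Gen × Bool := sl_bt
alias Lfl_bt := fl_bt
alias Lpr_bt := pr_bt
abbrev Lsl_bf : Gen × Bool := sl_bf
alias Lfl_bf := fl_bf
alias Lpr_bf := pr_bf
alias Lre_b := re_b
alias Leoe_b := eoe_b
abbrev LG_c := Gen.c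
abbrev Lsl_ct : Gen × Bool := sl_ct
alias Lfl_ct := fl_ct
alias Lpr_ct := pr_ct
abbrev Lsl_cf : Gen × Bool := sl_cf
alias Lfl_cf := fl_cf
alias Lpr_cf := pr_cf
alias Lre_c := re_c
alias Leoe_c := eoe_c
abbrev LG_d := Gen.d
abbrev Lsl_dt : Gen × Bool := sl_dt
alias Lfl_dt := fl_dt
alias Lpr_dt := pr_dt
abbrev Lsl_df : Gen × Bool := sl_df
alias Lfl_df := fl_df
alias Lpr_df := pr_df
alias Lre_d := re_d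
alias Leoe_d := eoe_d
abbrev LG_e := Gen.e
abbrev Lsl_et : Gen × Bool := sl_et
alias Lfl_et := fl_et
alias Lpr_et := pr_et
abbrev Lsl_ef : Gen × Bool := sl_ef
alias Lfl_ef := fl_ef
alias Lpr_ef := pr_ef
alias Lre_e := re_e
alias Leoe_e := eoe_e
abbrev LG_f := Gen.f
abbrev Lsl_ft : Gen × Bool := sl_ft
alias Lfl_ft := fl_ft
alias Lpr_ft := pr_ft
abbrev Lsl_ff : Gen × Bool := sl_ff
alias Lfl_ff := fl_ff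
alias Lpr_ff := pr_ff
alias Lre_f := re_f
alias Leoe_f := eoe_f
abbrev LK := Pt.mk
abbrev LQ : Type := Qt rels S
abbrev LP (p : Pt) : LQ := P p
abbrev Led (l : Gen × Bool) (c : LQ) : LQ := ed l c
abbrev LEOK (x : Gen) (p : Pt) : Prop := EntryOK rels S fwd inv o plet idx x p
alias Lpe := pe
alias Lpn := pn
alias Lgr := gr
alias Lpq := pq
alias Lpqs := pqs
alias Llr := lr
alias Leop := eop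
alias Lefun := efun
alias Lecon := econ
theorem Lrfl {α : Sort _} {a : α} : a = a := rfl
alias Lrot0 := rot0
alias Lrot1 := rot1
alias Lrot2 := rot2
alias Lrot3 := rot3
alias Lrot4 := rot4
alias Lrot5 := rot5
alias Lrot6 := rot6
alias Lrot7 := rot7
alias Lrot8 := rot8
alias Lrot9 := rot9
alias Lrot10 := rot10
alias Lrot11 := rot11
alias Lrot12 := rot12
alias Lrot13 := rot13
alias Lrot14 := rot14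
alias Lrot15 := rot15
alias Lrot17 := rot17
alias Lrot18 := rot18
alias Lrot19 := rot19
alias Lrot20 := rot20
alias Lrot21 := rot21
alias Lrot22 := rot22
alias Lrot23 := rot23
alias Lrot24 := rot24
alias Lrot25 := rot25
alias Lrot26 := rot26
alias Lrot27 := rot27
alias Lrot28 := rot28
alias Lrot29 := rot29
alias Lrot30 := rot30
alias Lrot31 := rot31
alias Lrot33 := rot33
alias Lrot34 := rot34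
alias Lrot35 := rot35
alias Lrot36 := rot36
alias Lrot37 := rot37
alias Lrot38 := rot38
alias Lrot39 := rot39
alias Lrot40 := rot40
alias Lrot42 := rot42
alias Lrot43 := rot43
alias Lrot44 := rot44
alias Lrot45 := rot45
alias Lrot46 := rot46
alias Lrot47 := rot47
alias Lrot48 := rot48
alias Lrot49 := rot49
alias Lrot50 := rot50
alias Lrot51 := rot51
alias Lrot52 := rot52
alias Lrot53 := rot53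
alias Lrot54 := rot54
alias Lrot55 := rot55
alias Lrot56 := rot56
alias Lrot57 := rot57
alias Lrot58 := rot58
alias Lrot59 := rot59
alias Lrot60 := rot60
alias Lrot61 := rot61
alias Lrot62 := rot62
alias Lrot63 := rot63
alias Lrot64 := rot64
alias Lrot65 := rot65
alias Lrot66 := rot66
alias Lrot67 := rot67
alias Lrot68 := rot68
alias Lrot69 := rot69
alias Lrot70 := rot70
alias Lrot72 := rot72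
alias Lrot73 := rot73
alias Lrot74 := rot74
alias Lrot75 := rot75
alias Lrot76 := rot76
alias Lrot77 := rot77
alias Lrot78 := rot78
alias Lrot79 := rot79
alias Lrot80 := rot80
alias Lrot81 := rot81
alias Lrot82 := rot82
alias Lrot83 := rot83
alias Lrot84 := rot84
alias Lrot85 := rot85
alias Lrot86 := rot86
alias Lrot87 := rot87
alias Lrot88 := rot88
alias Lrot89 := rot89
alias Lrot90 := rot90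
alias Lrot91 := rot91
alias Lrot92 := rot92
alias Lrot93 := rot93
alias Lrot94 := rot94
alias Lrot95 := rot95
alias Lrot96 := rot96
alias Lrot97 := rot97
alias Lrot99 := rot99
alias Lrot100 := rot100
alias Lrot101 := rot101
alias Lrot103 := rot103
alias Lrot104 := rot104
alias Lrot105 := rot105
alias Lrot106 := rot106
alias Lrot107 := rot107
alias Lrot108 := rot108
alias Lrot109 := rot109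
alias Lrot110 := rot110
alias Lrot111 := rot111
alias Lrot112 := rot112
alias Lrot117 := rot117
alias Lrot118 := rot118
alias Lrot119 := rot119
alias Lrot120 := rot120
alias Lrot121 := rot121
alias Lrot122 := rot122
alias Lrot123 := rot123
alias Lrot124 := rot124
alias Lrot125 := rot125
alias Lrot126 := rot126
alias Lrot127 := rot127
alias Lrot128 := rot128
alias Lrot129 := rot129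
alias Lrot131 := rot131
alias Lrot132 := rot132
alias Lrot134 := rot134
alias Lrot135 := rot135
alias Lrot136 := rot136
alias Lrot137 := rot137
alias Lrot138 := rot138
alias Lrot139 := rot139
alias Lrot140 := rot140
alias Lrot141 := rot141
alias Lrot142 := rot142
alias Lrot143 := rot143
alias Lrot144 := rot144
alias Lrot145 := rot145
alias Lrot146 := rot146
alias Lrot147 := rot147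
alias Lrot148 := rot148
alias Lrot149 := rot149
alias Lrot150 := rot150
alias Lrot152 := rot152
alias Lrot153 := rot153
alias Lrot155 := rot155
alias Lrot156 := rot156
alias Lrot157 := rot157
alias Lrot158 := rot158
alias Lrot159 := rot159
alias Lrot160 := rot160
alias Lrot161 := rot161
alias Lrot162 := rot162
alias Lrot163 := rot163
alias Lrot164 := rot164
alias Lrot165 := rot165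
alias Lrot166 := rot166
alias Lrot167 := rot167
alias Lrot168 := rot168
alias Lrot169 := rot169
alias Lrot170 := rot170
alias Lrot172 := rot172
alias Lrot173 := rot173
alias Lrot174 := rot174
alias Lrot176 := rot176
alias Lrot178 := rot178
alias Lrot180 := rot180
alias Lrot181 := rot181
alias Lrot183 := rot183
alias Lrot185 := rot185
alias Lrot187 := rot187
alias Lrot189 := rot189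
alias Lrot191 := rot191

section
variable (IH : IHT)
include IH

theorem f706164 : Led Lsl_ff (LP (LK LD1_c9 LD2_c46 LD3_c41)) = (LP (LK LD1_c12 LD2_c4 LD3_c38)) :=
  Lgr Lrot25 (Lpr_bt (K51.f706132 IH) (Lpr_ft (K51.f139913 IH) (Lpr_bt (K51.f139916 IH) (Lpn (LP (LK LD1_c12 LD2_c4 LD3_c38))))))
theorem f416341 : Led Lsl_at (LP (LK LD1_c9 LD2_c46 LD3_c41)) = (LP (LK LD1_c4 LD2_c57 LD3_c55)) :=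
  Lre_a IH (LK LD1_c9 LD2_c46 LD3_c41) (LK LD1_c4 LD2_c57 LD3_c55) Lrfl Lrfl
theorem f706166 : Led Lsl_at (LP (LK LD1_c7 LD2_c59 LD3_c47)) = (LP (LK LD1_c12 LD2_c4 LD3_c38)) :=
  Lgr Lrot66 (Lpr_ff (K51.f503813 IH) (Lpe (f416341 IH) (Lpr_ff (f706164 IH) (Lpn (LP (LK LD1_c12 LD2_c4 LD3_c38))))))
theorem f710367 : Led Lsl_gt (LP (LK LD1_c9 LD2_c1 LD3_c24)) = (LP (LK LD1_c12 LD2_c4 LD3_c38)) :=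
  Lgr Lrot46 (Lpr_gf (K51.f710363 IH) (Lpe (K51.f503813 IH) (Lpr_at (f706166 IH) (Lpn (LP (LK LD1_c12 LD2_c4 LD3_c38))))))
theorem f407082 : Led Lsl_et (LP (LK LD1_c4 LD2_c31 LD3_c44)) = (LP (LK LD1_c9 LD2_c1 LD3_c24)) :=
  Lre_e IH (LK LD1_c4 LD2_c31 LD3_c44) (LK LD1_c9 LD2_c1 LD3_c24) Lrfl Lrfl
theorem f242671 : Led Lsl_bt (LP (LK LD1_c1 LD2_c3 LD3_c35)) = (LP (LK LD1_c2 LD2_c13 LD3_c1)) :=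
  Lre_b IH (LK LD1_c1 LD2_c3 LD3_c35) (LK LD1_c2 LD2_c13 LD3_c1) Lrfl Lrfl
theorem f177896 : Led Lsl_ct (LP (LK LD1_c2 LD2_c13 LD3_c27)) = (LP (LK LD1_c4 LD2_c32 LD3_c58)) :=
  Lre_c IH (LK LD1_c2 LD2_c13 LD3_c27) (LK LD1_c4 LD2_c32 LD3_c58) Lrfl Lrfl
theorem f561161 : Led Lsl_gt (LP (LK LD1_c4 LD2_c32 LD3_c58)) = (LP (LK LD1_c9 LD2_c3 LD3_c8)) :=
  Lre_g IH (LK LD1_c4 LD2_c32 LD3_c58) (LK LD1_c9 LD2_c3 LD3_c8) Lrfl Lrfl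
theorem f424145 : Led Lsl_dt (LP (LK LD1_c4 LD2_c57 LD3_c5)) = (LP (LK LD1_c2 LD2_c26 LD3_c29)) :=
  Lre_d IH (LK LD1_c4 LD2_c57 LD3_c5) (LK LD1_c2 LD2_c26 LD3_c29) Lrfl Lrfl
theorem f424147 : Led Lsl_ct (LP (LK LD1_c4 LD2_c33 LD3_c2)) = (LP (LK LD1_c2 LD2_c13 LD3_c30)) :=
  Lre_c IH (LK LD1_c4 LD2_c33 LD3_c2) (LK LD1_c2 LD2_c13 LD3_c30) Lrfl Lrfl
theorem f424148 : Led Lsl_gt (LP (LK LD1_c9 LD2_c3 LD3_c8)) = (LP (LK LD1_c4 LD2_c33 LD3_c2)) :=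
  Lre_g IH (LK LD1_c9 LD2_c3 LD3_c8) (LK LD1_c4 LD2_c33 LD3_c2) Lrfl Lrfl
theorem f557320 : Led Lsl_cf (LP (LK LD1_c9 LD2_c3 LD3_c8)) = (LP (LK LD1_c5 LD2_c38 LD3_c0)) :=
  Lgr Lrot169 (Lpr_gt (f424148 IH) (Lpr_ct (f424147 IH) (Lpe (K37.f422832 IH) (Lpe (K10.f181561 IH) (Lpe (K10.f181554 IH) (Lpe (K43.f174844 IH) (Lpe (K31.f424143 IH) (Lpe (f424145 IH) (Lpr_gt (K39.f557316 IH) (Lpn (LP (LK LD1_c5 LD2_c38 LD3_c0))))))))))))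
theorem f547784 : Led Lsl_bt (LP (LK LD1_c5 LD2_c38 LD3_c0)) = (LP (LK LD1_c2 LD2_c44 LD3_c57)) :=
  Lre_b IH (LK LD1_c5 LD2_c38 LD3_c0) (LK LD1_c2 LD2_c44 LD3_c57) Lrfl Lrfl
theorem f561165 : Led Lsl_gf (LP (LK LD1_c2 LD2_c13 LD3_c1)) = (LP (LK LD1_c2 LD2_c44 LD3_c57)) :=
  Lgr Lrot124 (Lpe (f242671 IH) (Lpr_ct (K15.f225170 IH) (Lpr_gt (K20.f180403 IH) (Lpe (K15.f180282 IH) (Lpr_bt (K37.f180393 IH) (Lpr_gt (K40.f561157 IH) (Lpr_ct (f177896 IH) (Lpr_gt (f561161 IH) (Lpr_cf (f557320 IH) (Lpr_bt (f547784 IH) (Lpn (LP (LK LD1_c2 LD2_c44 LD3_c57)))))))))))))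
theorem f495652 : Led Lsl_et (LP (LK LD1_c5 LD2_c38 LD3_c3)) = (LP (LK LD1_c2 LD2_c44 LD3_c57)) :=
  Lre_e IH (LK LD1_c5 LD2_c38 LD3_c3) (LK LD1_c2 LD2_c44 LD3_c57) Lrfl Lrfl
theorem f589542 : Led Lsl_dt (LP (LK LD1_c5 LD2_c38 LD3_c3)) = (LP (LK LD1_c2 LD2_c49 LD3_c56)) :=
  Lgr Lrot60 (Lpe (K51.f557246 IH) (Lpr_df (K51.f589532 IH) (Lpe (K51.f66390 IH) (Lpn (LP (LK LD1_c2 LD2_c49 LD3_c56))))))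
theorem f504099 : Led Lsl_et (LP (LK LD1_c6 LD2_c12 LD3_c40)) = (LP (LK LD1_c12 LD2_c4 LD3_c38)) :=
  Lre_e IH (LK LD1_c6 LD2_c12 LD3_c40) (LK LD1_c12 LD2_c4 LD3_c38) Lrfl Lrfl
theorem f710385 : K51.v4826 = (LP (LK LD1_c3 LD2_c2 LD3_c60)) :=
  (Llr Lrot145 (Lpe (K51.f640492 IH) (Lpe (f589542 IH) (Lpr_et (f495652 IH) (Lpe (f561165 IH) (Lpr_dt (K30.f174837 IH) (Lpr_gt (K31.f20648 IH) (Lpe (K31.f407077 IH) (Lpr_et (f407082 IH) (Lpr_gt (f710367 IH) (Lpe (f504099 IH) (Lpr_dt (K50.f504096 IH) (Lpn (LP (LK LD1_c3 LD2_c2 LD3_c60))))))))))))))).symm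
theorem f710386 : (LP (LK LD1_c2 LD2_c49 LD3_c56)) = K51.v5285 :=
  Lefun (Lecon (Lfl_gf (K51.f640492 IH)) (f710385 IH)) (K51.f646904 IH)
theorem f710390 : K51.v13187 = (LP (LK LD1_c5 LD2_c47 LD3_c49)) :=
  Lefun (Lecon (K51.f701577 IH) (f710386 IH).symm) (K51.f66293 IH)
theorem f180338 : Led Lsl_bt (LP (LK LD1_c2 LD2_c17 LD3_c35)) = (LP (LK LD1_c4 LD2_c41 LD3_c4)) :=
  Lre_b IH (LK LD1_c2 LD2_c17 LD3_c35) (LK LD1_c4 LD2_c41 LD3_c4) Lrfl Lrfl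
def v5270 : LQ := Led Lsl_at (LP (LK LD1_c3 LD2_c2 LD3_c48))
theorem f646856 : Led Lsl_at (LP (LK LD1_c3 LD2_c2 LD3_c48)) = v5270 :=
  Lrfl
theorem f646857 : Led Lsl_af (LP (LK LD1_c3 LD2_c2 LD3_c48)) = v5270 :=
  Lgr Lrot0 (Lpr_at (f646856 IH) (Lpn v5270))
theorem f701575 : Led Lsl_bf v5270 = K51.v13187 :=
  Lgr Lrot81 (Lpe (f646857 IH) (Lpr_bt (K48.f413476 IH) (Lpr_at (K41.f502943 IH) (Lpqs (K41.f503338 IH) (Lpr_bt (f180338 IH) (Lpr_at (K51.f701573 IH) (Lpn K51.v13187)))))))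
theorem f701615 : Led Lsl_ff v5270 = K51.v13195 :=
  Lgr Lrot30 (Lpe (f646857 IH) (Lpr_ft (K48.f504391 IH) (Lpr_at (K51.f701612 IH) (Lpn K51.v13195))))
theorem f701618 : Led Lsl_ft v5270 = K51.v13195 :=
  Lgr Lrot48 (Lpr_ff (f701615 IH) (Lpn K51.v13195))
theorem f701613 : Led Lsl_af (LP (LK LD1_c4 LD2_c41 LD3_c13)) = K51.v13195 :=
  Lgr Lrot0 (Lpr_at (K51.f701612 IH) (Lpn K51.v13195))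
theorem f701620 : Led Lsl_gt v5270 = K50.v13194 :=
  Lgr Lrot5 (Lpr_ft (f701618 IH) (Lpe (f701613 IH) (Lpr_gf (K50.f701611 IH) (Lpn K50.v13194))))
theorem f706040 : v5270 = (LP (LK LD1_c5 LD2_c52 LD3_c9)) :=
  Lefun (Lecon (Lfl_gt (f701620 IH)) (K51.f706037 IH)) (K41.f496490 IH)
theorem f710409 : Led Lsl_bf (LP (LK LD1_c11 LD2_c25 LD3_c23)) = (LP (LK LD1_c11 LD2_c31 LD3_c14)) :=
  Lgr Lrot96 (Lpr_et (K51.f428763 IH) (Lpq (f710390 IH) (Lpe (f701575 IH) (Lpqs (f706040 IH) (Lpr_et (K51.f640807 IH) (Lpn (LP (LK LD1_c11 LD2_c31 LD3_c14))))))))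
theorem f710415 : Led Lsl_dt (LP (LK LD1_c11 LD2_c25 LD3_c23)) = (LP (LK LD1_c9 LD2_c46 LD3_c41)) :=
  Lgr Lrot79 (Lpr_bf (f710409 IH) (Lpe (K51.f640814 IH) (Lpe (K51.f706132 IH) (Lpn (LP (LK LD1_c9 LD2_c46 LD3_c41))))))
theorem f612929 : Led Lsl_df (LP (LK LD1_c4 LD2_c34 LD3_c28)) = (LP (LK LD1_c9 LD2_c1 LD3_c24)) :=
  Lgr Lrot38 (Lpr_dt (K51.f612925 IH) (Lpn (LP (LK LD1_c9 LD2_c1 LD3_c24))))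
theorem f612931 : Led Lsl_dt (LP (LK LD1_c2 LD2_c50 LD3_c13)) = (LP (LK LD1_c5 LD2_c38 LD3_c13)) :=
  Lgr Lrot44 (Lpr_af (K6.f146617 IH) (Lpr_df (f612929 IH) (Lpr_af (K51.f423130 IH) (Lpn (LP (LK LD1_c5 LD2_c38 LD3_c13))))))
theorem f710420 : Led Lsl_gf (LP (LK LD1_c5 LD2_c38 LD3_c13)) = (LP (LK LD1_c9 LD2_c46 LD3_c41)) :=
  Lgr Lrot145 (Lpe (f612931 IH) (Lpr_et (K6.f135927 IH) (Lpr_gt (K6.f56755 IH) (Lpr_dt (K6.f56833 IH) (Lpr_gt (K4.f13446 IH) (Lpe (K6.f66374 IH) (Lpr_et (K6.f66319 IH) (Lpr_gt (K51.f66293 IH) (Lpe (K51.f428763 IH) (Lpr_dt (f710415 IH) (Lpn (LP (LK LD1_c9 LD2_c46 LD3_c41)))))))))))))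
theorem f706171 : Led Lsl_ft (LP (LK LD1_c9 LD2_c46 LD3_c41)) = (LP (LK LD1_c12 LD2_c4 LD3_c38)) :=
  Lgr Lrot48 (Lpr_ff (f706164 IH) (Lpn (LP (LK LD1_c12 LD2_c4 LD3_c38))))
theorem f503907 : Led Lsl_ft (LP (LK LD1_c7 LD2_c59 LD3_c47)) = (LP (LK LD1_c4 LD2_c57 LD3_c55)) :=
  Lgr Lrot48 (Lpr_ff (K51.f503813 IH) (Lpn (LP (LK LD1_c4 LD2_c57 LD3_c55))))
theorem f706175 : Led Lsl_af (LP (LK LD1_c7 LD2_c59 LD3_c47)) = (LP (LK LD1_c12 LD2_c4 LD3_c38)) :=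
  Lgr Lrot45 (Lpr_ft (f503907 IH) (Lpr_at (K51.f416334 IH) (Lpr_ft (f706171 IH) (Lpn (LP (LK LD1_c12 LD2_c4 LD3_c38))))))
theorem f710424 : Led Lsl_gt (LP (LK LD1_c5 LD2_c38 LD3_c13)) = (LP (LK LD1_c7 LD2_c59 LD3_c47)) :=
  Lgr Lrot46 (Lpr_gf (f710420 IH) (Lpr_ft (f706171 IH) (Lpe (f706175 IH) (Lpn (LP (LK LD1_c7 LD2_c59 LD3_c47))))))
theorem f424186 : Led Lsl_ct (LP (LK LD1_c11 LD2_c7 LD3_c40)) = (LP (LK LD1_c20 LD2_c1 LD3_c9)) :=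
  Lre_c IH (LK LD1_c11 LD2_c7 LD3_c40) (LK LD1_c20 LD2_c1 LD3_c9) Lrfl Lrfl
theorem f415996 : Led Lsl_bt (LP (LK LD1_c3 LD2_c59 LD3_c13)) = (LP (LK LD1_c7 LD2_c59 LD3_c47)) :=
  Lre_b IH (LK LD1_c3 LD2_c59 LD3_c13) (LK LD1_c7 LD2_c59 LD3_c47) Lrfl Lrfl
theorem f116963 : Led Lsl_bt (LP (LK LD1_c2 LD2_c13 LD3_c47)) = (LP (LK LD1_c4 LD2_c33 LD3_c23)) :=
  Lre_b IH (LK LD1_c2 LD2_c13 LD3_c47) (LK LD1_c4 LD2_c33 LD3_c23) Lrfl Lrfl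
theorem f116930 : Led Lsl_ct (LP (LK LD1_c9 LD2_c3 LD3_c36)) = (LP (LK LD1_c16 LD2_c54 LD3_c44)) :=
  Lre_c IH (LK LD1_c9 LD2_c3 LD3_c36) (LK LD1_c16 LD2_c54 LD3_c44) Lrfl Lrfl
theorem f710426 : Led Lsl_gf (LP (LK LD1_c20 LD2_c1 LD3_c9)) = (LP (LK LD1_c16 LD2_c54 LD3_c44)) :=
  Lgr Lrot129 (Lpe (f424186 IH) (Lpr_bt (K51.f423134 IH) (Lpr_gt (f710424 IH) (Lpe (f415996 IH) (Lpe (K35.f415556 IH) (Lpr_gt (K35.f408244 IH) (Lpe (K35.f140578 IH) (Lpr_bt (f116963 IH) (Lpr_gt (K36.f100277 IH) (Lpr_ct (f116930 IH) (Lpn (LP (LK LD1_c16 LD2_c54 LD3_c44)))))))))))))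
theorem f424187 : Led Lsl_ct (LP (LK LD1_c20 LD2_c1 LD3_c9)) = (LP (LK LD1_c11 LD2_c7 LD3_c40)) :=
  Lre_c IH (LK LD1_c20 LD2_c1 LD3_c9) (LK LD1_c11 LD2_c7 LD3_c40) Lrfl Lrfl
theorem f56816 : Led Lsl_bt (LP (LK LD1_c5 LD2_c48 LD3_c16)) = (LP (LK LD1_c2 LD2_c50 LD3_c13)) :=
  Lre_b IH (LK LD1_c5 LD2_c48 LD3_c16) (LK LD1_c2 LD2_c50 LD3_c13) Lrfl Lrfl
theorem f423132 : Led Lsl_bt (LP (LK LD1_c5 LD2_c38 LD3_c13)) = (LP (LK LD1_c11 LD2_c7 LD3_c40)) :=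
  Lre_b IH (LK LD1_c5 LD2_c38 LD3_c13) (LK LD1_c11 LD2_c7 LD3_c40) Lrfl Lrfl
theorem f612933 : Led Lsl_df (LP (LK LD1_c5 LD2_c48 LD3_c16)) = (LP (LK LD1_c11 LD2_c7 LD3_c40)) :=
  Lgr Lrot12 (Lpr_bt (f56816 IH) (Lpr_dt (f612931 IH) (Lpr_bt (f423132 IH) (Lpn (LP (LK LD1_c11 LD2_c7 LD3_c40))))))
theorem f56808 : Led Lsl_et (LP (LK LD1_c3 LD2_c20 LD3_c18)) = (LP (LK LD1_c6 LD2_c44 LD3_c20)) :=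
  Lre_e IH (LK LD1_c3 LD2_c20 LD3_c18) (LK LD1_c6 LD2_c44 LD3_c20) Lrfl Lrfl
theorem f56809 : Led Lsl_et (LP (LK LD1_c5 LD2_c48 LD3_c16)) = (LP (LK LD1_c2 LD2_c50 LD3_c11)) :=
  Lre_e IH (LK LD1_c5 LD2_c48 LD3_c16) (LK LD1_c2 LD2_c50 LD3_c11) Lrfl Lrfl
theorem f56810 : Led Lsl_ct (LP (LK LD1_c6 LD2_c44 LD3_c20)) = (LP (LK LD1_c5 LD2_c48 LD3_c16)) :=
  Lgr Lrot15 (Lpe (f56808 IH) (Lpr_cf (K6.f56757 IH) (Lpe (f56809 IH) (Lpn (LP (LK LD1_c5 LD2_c48 LD3_c16))))))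
theorem f415563 : Led Lsl_ct (LP (LK LD1_c4 LD2_c37 LD3_c44)) = (LP (LK LD1_c9 LD2_c11 LD3_c6)) :=
  Lre_c IH (LK LD1_c4 LD2_c37 LD3_c44) (LK LD1_c9 LD2_c11 LD3_c6) Lrfl Lrfl
theorem f710494 : Led Lsl_gf (LP (LK LD1_c6 LD2_c44 LD3_c20)) = (LP (LK LD1_c9 LD2_c11 LD3_c6)) :=
  Lgr Lrot104 (Lpr_ct (f56810 IH) (Lpr_df (f612933 IH) (Lpe (f424187 IH) (Lpr_gf (f710426 IH) (Lpe (f116930 IH) (Lpe (K36.f100277 IH) (Lpe (K36.f100276 IH) (Lpr_gt (K24.f415559 IH) (Lpr_ct (f415563 IH) (Lpn (LP (LK LD1_c9 LD2_c11 LD3_c6))))))))))))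
theorem f56818 : Led Lsl_cf (LP (LK LD1_c6 LD2_c44 LD3_c20)) = (LP (LK LD1_c5 LD2_c48 LD3_c16)) :=
  Lgr Lrot11 (Lpr_ct (f56810 IH) (Lpn (LP (LK LD1_c5 LD2_c48 LD3_c16))))
theorem f415564 : Led Lsl_bt (LP (LK LD1_c1 LD2_c56 LD3_c35)) = (LP (LK LD1_c3 LD2_c59 LD3_c53)) :=
  Lre_b IH (LK LD1_c1 LD2_c56 LD3_c35) (LK LD1_c3 LD2_c59 LD3_c53) Lrfl Lrfl
theorem f710497 : K51.v4832 = (LP (LK LD1_c3 LD2_c59 LD3_c53)) :=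
  (Llr Lrot164 (Lpe (K51.f640508 IH) (Lpe (f56816 IH) (Lpe (f56818 IH) (Lpr_gf (f710494 IH) (Lpe (f415563 IH) (Lpe (K24.f415559 IH) (Lpe (K24.f415558 IH) (Lpr_ct (K24.f140706 IH) (Lpe (K24.f20139 IH) (Lpr_cf (K24.f415547 IH) (Lpr_bt (f415564 IH) (Lpn (LP (LK LD1_c3 LD2_c59 LD3_c53))))))))))))))).symm
theorem f710504 : (LP (LK LD1_c2 LD2_c50 LD3_c13)) = K51.v12301 :=
  Lefun (Lecon (Lfl_gt (K51.f640508 IH)) (f710497 IH)) (K51.f689255 IH)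
theorem f146619 : Led Lsl_at (LP (LK LD1_c2 LD2_c50 LD3_c13)) = (LP (LK LD1_c4 LD2_c34 LD3_c28)) :=
  Lgr Lrot100 (Lpr_af (K6.f146617 IH) (Lpn (LP (LK LD1_c4 LD2_c34 LD3_c28))))
theorem f612927 : Led Lsl_df (LP (LK LD1_c2 LD2_c50 LD3_c13)) = (LP (LK LD1_c5 LD2_c38 LD3_c13)) :=
  Lgr Lrot18 (Lpr_at (f146619 IH) (Lpr_dt (K51.f612925 IH) (Lpr_at (K51.f423128 IH) (Lpn (LP (LK LD1_c5 LD2_c38 LD3_c13))))))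
theorem f380431 : Led Lsl_et (LP (LK LD1_c5 LD2_c38 LD3_c13)) = (LP (LK LD1_c2 LD2_c44 LD3_c61)) :=
  Lre_e IH (LK LD1_c5 LD2_c38 LD3_c13) (LK LD1_c2 LD2_c44 LD3_c61) Lrfl Lrfl
theorem f380300 : Led Lsl_et (LP (LK LD1_c2 LD2_c44 LD3_c53)) = (LP (LK LD1_c5 LD2_c37 LD3_c59)) :=
  Lre_e IH (LK LD1_c2 LD2_c44 LD3_c53) (LK LD1_c5 LD2_c37 LD3_c59) Lrfl Lrfl
theorem f561350 : Led Lsl_gt (LP (LK LD1_c5 LD2_c37 LD3_c59)) = (LP (LK LD1_c11 LD2_c7 LD3_c14)) :=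
  Lre_g IH (LK LD1_c5 LD2_c37 LD3_c59) (LK LD1_c11 LD2_c7 LD3_c14) Lrfl Lrfl
theorem f710508 : Led Lsl_et (LP (LK LD1_c9 LD2_c50 LD3_c61)) = (LP (LK LD1_c11 LD2_c7 LD3_c14)) :=
  Lgr Lrot122 (Lpr_dt (K51.f633848 IH) (Lpr_gt (K51.f689256 IH) (Lpq (f710504 IH) (Lpr_df (f612927 IH) (Lpr_et (f380431 IH) (Lpr_gt (K31.f172345 IH) (Lpr_dt (K31.f289594 IH) (Lpr_gt (K38.f211848 IH) (Lpe (K41.f380297 IH) (Lpr_et (f380300 IH) (Lpr_gt (f561350 IH) (Lpn (LP (LK LD1_c11 LD2_c7 LD3_c14))))))))))))))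
theorem f79907 : Led Lsl_gt (LP (LK LD1_c3 LD2_c59 LD3_c53)) = (LP (LK LD1_c8 LD2_c0 LD3_c51)) :=
  Lre_g IH (LK LD1_c3 LD2_c59 LD3_c53) (LK LD1_c8 LD2_c0 LD3_c51) Lrfl Lrfl
theorem f633861 : Led Lsl_gt (LP (LK LD1_c8 LD2_c0 LD3_c51)) = (LP (LK LD1_c5 LD2_c0 LD3_c18)) :=
  Lgr Lrot46 (Lpe (f79907 IH) (Lpr_ft (K51.f633852 IH) (Lpr_at (K51.f495309 IH) (Lpn (LP (LK LD1_c5 LD2_c0 LD3_c18))))))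
theorem f579222 : Led Lsl_af (LP (LK LD1_c11 LD2_c11 LD3_c39)) = (LP (LK LD1_c11 LD2_c7 LD3_c15)) :=
  Lgr Lrot0 (Lpr_at (K51.f579215 IH) (Lpn (LP (LK LD1_c11 LD2_c7 LD3_c15))))
theorem f579225 : Led Lsl_ft (LP (LK LD1_c5 LD2_c37 LD3_c59)) = (LP (LK LD1_c11 LD2_c7 LD3_c15)) :=
  Lre_f IH (LK LD1_c5 LD2_c37 LD3_c59) (LK LD1_c11 LD2_c7 LD3_c15) Lrfl Lrfl
theorem f579226 : Led Lsl_gf (LP (LK LD1_c11 LD2_c11 LD3_c39)) = (LP (LK LD1_c11 LD2_c7 LD3_c14)) :=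
  Lgr Lrot76 (Lpr_af (f579222 IH) (Lpe (f579225 IH) (Lpr_gt (f561350 IH) (Lpn (LP (LK LD1_c11 LD2_c7 LD3_c14))))))
theorem f158114 : Led Lsl_at (LP (LK LD1_c2 LD2_c49 LD3_c56)) = (LP (LK LD1_c2 LD2_c51 LD3_c55)) :=
  Lgr Lrot100 (Lpr_af (K8.f158104 IH) (Lpn (LP (LK LD1_c2 LD2_c51 LD3_c55))))
theorem f157944 : Led Lsl_gt (LP (LK LD1_c5 LD2_c51 LD3_c18)) = (LP (LK LD1_c2 LD2_c51 LD3_c55)) :=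
  Lre_g IH (LK LD1_c5 LD2_c51 LD3_c18) (LK LD1_c2 LD2_c51 LD3_c55) Lrfl Lrfl
theorem f428753 : Led Lsl_gt (LP (LK LD1_c5 LD2_c47 LD3_c50)) = (LP (LK LD1_c5 LD2_c51 LD3_c18)) :=
  Lgr Lrot5 (Lpr_ft (K6.f66312 IH) (Lpr_at (f158114 IH) (Lpe (f157944 IH) (Lpn (LP (LK LD1_c5 LD2_c51 LD3_c18))))))
theorem f428759 : Led Lsl_dt (LP (LK LD1_c11 LD2_c30 LD3_c4)) = (LP (LK LD1_c5 LD2_c51 LD3_c18)) :=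
  Lre_d IH (LK LD1_c11 LD2_c30 LD3_c4) (LK LD1_c5 LD2_c51 LD3_c18) Lrfl Lrfl
theorem f423073 : Led Lsl_et (LP (LK LD1_c2 LD2_c44 LD3_c61)) = (LP (LK LD1_c5 LD2_c38 LD3_c13)) :=
  Lre_e IH (LK LD1_c2 LD2_c44 LD3_c61) (LK LD1_c5 LD2_c38 LD3_c13) Lrfl Lrfl
theorem f380254 : Led Lsl_et (LP (LK LD1_c5 LD2_c40 LD3_c25)) = (LP (LK LD1_c2 LD2_c46 LD3_c10)) :=
  Lre_e IH (LK LD1_c5 LD2_c40 LD3_c25) (LK LD1_c2 LD2_c46 LD3_c10) Lrfl Lrfl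
theorem f561472 : Led Lsl_et (LP (LK LD1_c2 LD2_c46 LD3_c10)) = (LP (LK LD1_c5 LD2_c40 LD3_c25)) :=
  Lre_e IH (LK LD1_c2 LD2_c46 LD3_c10) (LK LD1_c5 LD2_c40 LD3_c25) Lrfl Lrfl
theorem f561473 : Led Lsl_dt (LP (LK LD1_c5 LD2_c40 LD3_c25)) = (LP (LK LD1_c2 LD2_c51 LD3_c55)) :=
  Lgr Lrot77 (Lpe (f561472 IH) (Lpr_df (K40.f561467 IH) (Lpqs (K38.f544926 IH) (Lpq (K38.f544926 IH) (Lpe (K38.f494263 IH) (Lpe (K8.f157928 IH) (Lpe (K8.f22314 IH) (Lpn (LP (LK LD1_c2 LD2_c51 LD3_c55))))))))))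
theorem f710428 : Led Lsl_et (LP (LK LD1_c11 LD2_c30 LD3_c4)) = (LP (LK LD1_c7 LD2_c59 LD3_c47)) :=
  Lgr Lrot122 (Lpr_dt (f428759 IH) (Lpr_gt (f157944 IH) (Lpe (f561473 IH) (Lpr_et (f380254 IH) (Lpr_gt (K31.f380165 IH) (Lpr_dt (K30.f181699 IH) (Lpe (K30.f380248 IH) (Lpr_df (K31.f423196 IH) (Lpr_et (f423073 IH) (Lpr_gt (f710424 IH) (Lpn (LP (LK LD1_c7 LD2_c59 LD3_c47)))))))))))))
theorem f416000 : Led Lsl_gt (LP (LK LD1_c7 LD2_c59 LD3_c47)) = (LP (LK LD1_c15 LD2_c4 LD3_c33)) :=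
  Lre_g IH (LK LD1_c7 LD2_c59 LD3_c47) (LK LD1_c15 LD2_c4 LD3_c33) Lrfl Lrfl
theorem f710516 : Led Lsl_df (LP (LK LD1_c8 LD2_c0 LD3_c51)) = (LP (LK LD1_c15 LD2_c4 LD3_c33)) :=
  Lgr Lrot135 (Lpr_gt (f633861 IH) (Lpe (K51.f633848 IH) (Lpr_et (f710508 IH) (Lpe (f579226 IH) (Lpr_ef (K43.f557229 IH) (Lpr_dt (K51.f589495 IH) (Lpr_gt (f428753 IH) (Lpe (f428759 IH) (Lpr_et (f710428 IH) (Lpr_gt (f416000 IH) (Lpn (LP (LK LD1_c15 LD2_c4 LD3_c33)))))))))))))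
def v12912 : LQ := Led Lsl_ft (LP (LK LD1_c4 LD2_c34 LD3_c28))
theorem f699545 : Led Lsl_ft (LP (LK LD1_c4 LD2_c34 LD3_c28)) = v12912 :=
  Lrfl
theorem f699548 : Led Lsl_ff (LP (LK LD1_c4 LD2_c34 LD3_c28)) = v12912 :=
  Lgr Lrot3 (Lpr_ft (f699545 IH) (Lpn v12912))
def v4834 : LQ := Led Lsl_ft (LP (LK LD1_c2 LD2_c50 LD3_c13))
theorem f640510 : Led Lsl_ft (LP (LK LD1_c2 LD2_c50 LD3_c13)) = v4834 :=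
  Lrfl
theorem f699550 : Led Lsl_at v4834 = v12912 :=
  Lgr Lrot66 (Lpe (f640510 IH) (Lpr_af (K6.f146617 IH) (Lpr_ff (f699548 IH) (Lpn v12912))))
theorem f699553 : Led Lsl_gt K51.v4832 = v12912 :=
  Lgr Lrot46 (Lpe (K51.f640508 IH) (Lpr_ft (f640510 IH) (Lpr_at (f699550 IH) (Lpn v12912))))
theorem f710498 : v12912 = (LP (LK LD1_c8 LD2_c0 LD3_c51)) :=
  Lefun (Lecon (f699553 IH) (f710497 IH)) (f79907 IH)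
theorem f710520 : Led Lsl_ft (LP (LK LD1_c9 LD2_c1 LD3_c24)) = (LP (LK LD1_c15 LD2_c4 LD3_c33)) :=
  Lgr Lrot54 (Lpe (K51.f612925 IH) (Lpr_ff (f699548 IH) (Lpqs (f710498 IH) (Lpr_df (f710516 IH) (Lpn (LP (LK LD1_c15 LD2_c4 LD3_c33)))))))
theorem f422991 : Led Lsl_ff (LP (LK LD1_c4 LD2_c31 LD3_c44)) = (LP (LK LD1_c2 LD2_c44 LD3_c60)) :=
  Lgr Lrot3 (Lpr_ft (K31.f422985 IH) (Lpn (LP (LK LD1_c2 LD2_c44 LD3_c60))))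
theorem f423055 : Led Lsl_ft (LP (LK LD1_c11 LD2_c7 LD3_c38)) = (LP (LK LD1_c5 LD2_c38 LD3_c10)) :=
  Lre_f IH (LK LD1_c11 LD2_c7 LD3_c38) (LK LD1_c5 LD2_c38 LD3_c10) Lrfl Lrfl
theorem f710526 : Led Lsl_ef (LP (LK LD1_c11 LD2_c7 LD3_c38)) = (LP (LK LD1_c15 LD2_c4 LD3_c33)) :=
  Lgr Lrot21 (Lpr_ft (f423055 IH) (Lpr_et (K31.f402635 IH) (Lpe (f422991 IH) (Lpr_et (f407082 IH) (Lpr_ft (f710520 IH) (Lpn (LP (LK LD1_c15 LD2_c4 LD3_c33))))))))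
theorem f710530 : Led Lsl_et (LP (LK LD1_c11 LD2_c7 LD3_c38)) = (LP (LK LD1_c15 LD2_c4 LD3_c33)) :=
  Lgr Lrot87 (Lpr_ef (f710526 IH) (Lpn (LP (LK LD1_c15 LD2_c4 LD3_c33))))
theorem f422892 : Led Lsl_bt (LP (LK LD1_c20 LD2_c0 LD3_c58)) = (LP (LK LD1_c11 LD2_c7 LD3_c38)) :=
  Lre_b IH (LK LD1_c20 LD2_c0 LD3_c58) (LK LD1_c11 LD2_c7 LD3_c38) Lrfl Lrfl
theorem f415878 : Led Lsl_bt (LP (LK LD1_c2 LD2_c48 LD3_c46)) = (LP (LK LD1_c1 LD2_c20 LD3_c30)) :=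
  Lre_b IH (LK LD1_c2 LD2_c48 LD3_c46) (LK LD1_c1 LD2_c20 LD3_c30) Lrfl Lrfl
theorem f415998 : Led Lsl_gt (LP (LK LD1_c11 LD2_c22 LD3_c25)) = (LP (LK LD1_c5 LD2_c46 LD3_c3)) :=
  Lre_g IH (LK LD1_c11 LD2_c22 LD3_c25) (LK LD1_c5 LD2_c46 LD3_c3) Lrfl Lrfl
theorem f415999 : Led Lsl_ct (LP (LK LD1_c20 LD2_c20 LD3_c6)) = (LP (LK LD1_c11 LD2_c22 LD3_c25)) :=
  Lre_c IH (LK LD1_c20 LD2_c20 LD3_c6) (LK LD1_c11 LD2_c22 LD3_c25) Lrfl Lrfl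
theorem f416001 : Led Lsl_bt (LP (LK LD1_c20 LD2_c20 LD3_c6)) = (LP (LK LD1_c15 LD2_c4 LD3_c33)) :=
  Lgr Lrot92 (Lpr_ct (f415999 IH) (Lpr_gt (f415998 IH) (Lpe (K51.f415879 IH) (Lpr_bt (f415878 IH) (Lpr_gt (K1.f59814 IH) (Lpr_ct (K35.f415887 IH) (Lpr_gt (K35.f415997 IH) (Lpr_cf (K35.f415556 IH) (Lpr_bt (f415996 IH) (Lpr_gt (f416000 IH) (Lpn (LP (LK LD1_c15 LD2_c4 LD3_c33)))))))))))))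
theorem f416006 : Led Lsl_bf (LP (LK LD1_c20 LD2_c20 LD3_c6)) = (LP (LK LD1_c15 LD2_c4 LD3_c33)) :=
  Lgr Lrot24 (Lpr_bt (f416001 IH) (Lpn (LP (LK LD1_c15 LD2_c4 LD3_c33))))
theorem f710532 : Led Lsl_ef (LP (LK LD1_c20 LD2_c0 LD3_c58)) = (LP (LK LD1_c20 LD2_c20 LD3_c6)) :=
  Lgr Lrot29 (Lpr_bt (f422892 IH) (Lpr_et (f710530 IH) (Lpe (f416006 IH) (Lpn (LP (LK LD1_c20 LD2_c20 LD3_c6))))))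
theorem f422895 : Led Lsl_ft (LP (LK LD1_c20 LD2_c0 LD3_c58)) = (LP (LK LD1_c11 LD2_c7 LD3_c32)) :=
  Lre_f IH (LK LD1_c20 LD2_c0 LD3_c58) (LK LD1_c11 LD2_c7 LD3_c32) Lrfl Lrfl
theorem f211905 : Led Lsl_et (LP (LK LD1_c11 LD2_c7 LD3_c32)) = (LP (LK LD1_c5 LD2_c38 LD3_c8)) :=
  Lre_e IH (LK LD1_c11 LD2_c7 LD3_c32) (LK LD1_c5 LD2_c38 LD3_c8) Lrfl Lrfl
theorem f174871 : Led Lsl_et (LP (LK LD1_c9 LD2_c1 LD3_c22)) = (LP (LK LD1_c16 LD2_c51 LD3_c19)) :=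
  Lre_e IH (LK LD1_c9 LD2_c1 LD3_c22) (LK LD1_c16 LD2_c51 LD3_c19) Lrfl Lrfl
theorem f710536 : Led Lsl_ft (LP (LK LD1_c16 LD2_c51 LD3_c19)) = (LP (LK LD1_c20 LD2_c20 LD3_c6)) :=
  Lgr Lrot86 (Lpe (f174871 IH) (Lpr_ff (K31.f422983 IH) (Lpe (f211905 IH) (Lpe (f422895 IH) (Lpr_ef (f710532 IH) (Lpn (LP (LK LD1_c20 LD2_c20 LD3_c6))))))))
theorem f174855 : Led Lsl_et (LP (LK LD1_c16 LD2_c51 LD3_c19)) = (LP (LK LD1_c9 LD2_c1 LD3_c22)) :=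
  Lre_e IH (LK LD1_c16 LD2_c51 LD3_c19) (LK LD1_c9 LD2_c1 LD3_c22) Lrfl Lrfl
theorem f174856 : Led Lsl_et (LP (LK LD1_c9 LD2_c4 LD3_c28)) = (LP (LK LD1_c16 LD2_c56 LD3_c8)) :=
  Lre_e IH (LK LD1_c9 LD2_c4 LD3_c28) (LK LD1_c16 LD2_c56 LD3_c8) Lrfl Lrfl
theorem f174857 : Led Lsl_cf (LP (LK LD1_c16 LD2_c51 LD3_c19)) = (LP (LK LD1_c16 LD2_c56 LD3_c8)) :=
  Lgr Lrot39 (Lpr_et (f174855 IH) (Lpr_ct (K31.f174752 IH) (Lpr_et (f174856 IH) (Lpn (LP (LK LD1_c16 LD2_c56 LD3_c8))))))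
theorem f710538 : Led Lsl_ff (LP (LK LD1_c16 LD2_c56 LD3_c8)) = (LP (LK LD1_c11 LD2_c22 LD3_c25)) :=
  Lgr Lrot23 (Lpe (f174857 IH) (Lpr_ft (f710536 IH) (Lpr_ct (f415999 IH) (Lpn (LP (LK LD1_c11 LD2_c22 LD3_c25))))))
theorem f407094 : Led Lsl_et (LP (LK LD1_c11 LD2_c21 LD3_c17)) = (LP (LK LD1_c5 LD2_c45 LD3_c24)) :=
  Lre_e IH (LK LD1_c11 LD2_c21 LD3_c17) (LK LD1_c5 LD2_c45 LD3_c24) Lrfl Lrfl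
theorem f422950 : Led Lsl_at (LP (LK LD1_c16 LD2_c56 LD3_c8)) = (LP (LK LD1_c11 LD2_c21 LD3_c17)) :=
  Lgr Lrot80 (Lpe (f174856 IH) (Lpr_af (K39.f422948 IH) (Lpe (f407094 IH) (Lpn (LP (LK LD1_c11 LD2_c21 LD3_c17))))))
theorem f710548 : Led Lsl_gf (LP (LK LD1_c11 LD2_c21 LD3_c17)) = (LP (LK LD1_c5 LD2_c46 LD3_c3)) :=
  Lgr Lrot76 (Lpe (f422950 IH) (Lpr_ff (f710538 IH) (Lpr_gt (f415998 IH) (Lpn (LP (LK LD1_c5 LD2_c46 LD3_c3))))))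
def v4965 : LQ := Led Lsl_ft (LP (LK LD1_c2 LD2_c54 LD3_c8))
theorem f641092 : Led Lsl_ft (LP (LK LD1_c2 LD2_c54 LD3_c8)) = v4965 :=
  Lrfl
theorem f707058 : Led Lsl_dt v4965 = (LP (LK LD1_c9 LD2_c4 LD3_c60)) :=
  Lgr Lrot60 (Lpe (f641092 IH) (Lpr_df (K51.f621110 IH) (Lpr_ff (K51.f707054 IH) (Lpn (LP (LK LD1_c9 LD2_c4 LD3_c60))))))
theorem f424771 : Led Lsl_at (LP (LK LD1_c2 LD2_c54 LD3_c8)) = (LP (LK LD1_c4 LD2_c35 LD3_c20)) :=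
  Lgr Lrot100 (Lpr_af (K51.f424769 IH) (Lpn (LP (LK LD1_c4 LD2_c35 LD3_c20))))
theorem f641093 : Led Lsl_ff (LP (LK LD1_c2 LD2_c54 LD3_c8)) = v4965 :=
  Lgr Lrot3 (Lpr_ft (f641092 IH) (Lpn v4965))
theorem f699854 : Led Lsl_af v4965 = K51.v12957 :=
  Lgr Lrot45 (Lpe (f641093 IH) (Lpr_at (f424771 IH) (Lpr_ft (K51.f699853 IH) (Lpn K51.v12957))))
theorem f707070 : Led Lsl_dt (LP (LK LD1_c5 LD2_c46 LD3_c1)) = K51.v12957 :=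
  Lgr Lrot44 (Lpr_af (K51.f707064 IH) (Lpe (f707058 IH) (Lpr_af (f699854 IH) (Lpn K51.v12957))))
theorem f422952 : Led Lsl_af (LP (LK LD1_c16 LD2_c56 LD3_c8)) = (LP (LK LD1_c11 LD2_c21 LD3_c17)) :=
  Lgr Lrot0 (Lpr_at (f422950 IH) (Lpn (LP (LK LD1_c11 LD2_c21 LD3_c17))))
theorem f424191 : Led Lsl_cf (LP (LK LD1_c11 LD2_c21 LD3_c17)) = (LP (LK LD1_c20 LD2_c10 LD3_c37)) :=
  Lgr Lrot1 (Lpe (f422952 IH) (Lpe (f174857 IH) (Lpr_at (K51.f424184 IH) (Lpn (LP (LK LD1_c20 LD2_c10 LD3_c37))))))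
theorem f140701 : Led Lsl_bt (LP (LK LD1_c4 LD2_c33 LD3_c23)) = (LP (LK LD1_c2 LD2_c13 LD3_c47)) :=
  Lre_b IH (LK LD1_c4 LD2_c33 LD3_c23) (LK LD1_c2 LD2_c13 LD3_c47) Lrfl Lrfl
theorem f116957 : Led Lsl_ct (LP (LK LD1_c4 LD2_c33 LD3_c23)) = (LP (LK LD1_c9 LD2_c4 LD3_c9)) :=
  Lre_c IH (LK LD1_c4 LD2_c33 LD3_c23) (LK LD1_c9 LD2_c4 LD3_c9) Lrfl Lrfl
theorem f415834 : Led Lsl_gt (LP (LK LD1_c16 LD2_c54 LD3_c37)) = (LP (LK LD1_c9 LD2_c4 LD3_c9)) :=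
  Lre_g IH (LK LD1_c16 LD2_c54 LD3_c37) (LK LD1_c9 LD2_c4 LD3_c9) Lrfl Lrfl
theorem f40265 : Led Lsl_bt (LP (LK LD1_c1 LD2_c10 LD3_c39)) = (LP (LK LD1_c2 LD2_c26 LD3_c41)) :=
  Lre_b IH (LK LD1_c1 LD2_c10 LD3_c39) (LK LD1_c2 LD2_c26 LD3_c41) Lrfl Lrfl
theorem f415864 : Led Lsl_gt (LP (LK LD1_c2 LD2_c26 LD3_c41)) = (LP (LK LD1_c4 LD2_c57 LD3_c39)) :=
  Lre_g IH (LK LD1_c2 LD2_c26 LD3_c41) (LK LD1_c4 LD2_c57 LD3_c39) Lrfl Lrfl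
theorem f40258 : Led Lsl_bt (LP (LK LD1_c9 LD2_c46 LD3_c10)) = (LP (LK LD1_c4 LD2_c57 LD3_c39)) :=
  Lre_b IH (LK LD1_c9 LD2_c46 LD3_c10) (LK LD1_c4 LD2_c57 LD3_c39) Lrfl Lrfl
theorem f415865 : Led Lsl_cf (LP (LK LD1_c16 LD2_c54 LD3_c37)) = (LP (LK LD1_c9 LD2_c46 LD3_c10)) :=
  Lgr Lrot160 (Lpr_gt (f415834 IH) (Lpe (f116957 IH) (Lpr_bt (f140701 IH) (Lpr_gt (K1.f27144 IH) (Lpr_ct (K51.f140609 IH) (Lpr_gt (K51.f415846 IH) (Lpe (K2.f40976 IH) (Lpr_bt (f40265 IH) (Lpr_gt (f415864 IH) (Lpe (f40258 IH) (Lpn (LP (LK LD1_c9 LD2_c46 LD3_c10)))))))))))))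
theorem f710552 : Led Lsl_gt (LP (LK LD1_c17 LD2_c54 LD3_c53)) = (LP (LK LD1_c9 LD2_c46 LD3_c10)) :=
  Lgr Lrot82 (Lpr_bf (K51.f172482 IH) (Lpe (f424191 IH) (Lpr_gf (f710548 IH) (Lpe (K51.f415879 IH) (Lpr_bt (f415878 IH) (Lpe (K1.f27144 IH) (Lpe (f140701 IH) (Lpr_ct (f116957 IH) (Lpe (f415834 IH) (Lpr_cf (f415865 IH) (Lpn (LP (LK LD1_c9 LD2_c46 LD3_c10)))))))))))))
theorem f82043 : Led Lsl_et (LP (LK LD1_c9 LD2_c47 LD3_c24)) = (LP (LK LD1_c4 LD2_c58 LD3_c21)) :=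
  Lre_e IH (LK LD1_c9 LD2_c47 LD3_c24) (LK LD1_c4 LD2_c58 LD3_c21) Lrfl Lrfl
theorem f557328 : Led Lsl_dt (LP (LK LD1_c17 LD2_c54 LD3_c53)) = (LP (LK LD1_c9 LD2_c47 LD3_c24)) :=
  Lgr Lrot77 (Lpe (K51.f172486 IH) (Lpe (K39.f172471 IH) (Lpr_ef (K39.f557324 IH) (Lpe (K7.f82049 IH) (Lpe (f82043 IH) (Lpn (LP (LK LD1_c9 LD2_c47 LD3_c24))))))))
theorem f116961 : Led Lsl_ct (LP (LK LD1_c9 LD2_c4 LD3_c9)) = (LP (LK LD1_c4 LD2_c33 LD3_c23)) :=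
  Lre_c IH (LK LD1_c9 LD2_c4 LD3_c9) (LK LD1_c4 LD2_c33 LD3_c23) Lrfl Lrfl
theorem f710556 : Led Lsl_gt (LP (LK LD1_c9 LD2_c47 LD3_c24)) = (LP (LK LD1_c4 LD2_c59 LD3_c54)) :=
  Lgr Lrot9 (Lpe (f557328 IH) (Lpr_gt (f710552 IH) (Lpe (f415865 IH) (Lpr_gt (f415834 IH) (Lpr_ct (f116961 IH) (Lpe (K36.f100276 IH) (Lpe (K51.f415833 IH) (Lpe (K31.f116887 IH) (Lpr_cf (K31.f415601 IH) (Lpn (LP (LK LD1_c4 LD2_c59 LD3_c54))))))))))))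
theorem f82044 : Led Lsl_bf (LP (LK LD1_c9 LD2_c47 LD3_c24)) = (LP (LK LD1_c11 LD2_c37 LD3_c12)) :=
  Lgr Lrot96 (Lpr_et (f82043 IH) (Lpr_bt (K7.f82036 IH) (Lpr_et (K51.f82013 IH) (Lpn (LP (LK LD1_c11 LD2_c37 LD3_c12))))))
theorem f415565 : Led Lsl_bt (LP (LK LD1_c1 LD2_c24 LD3_c33)) = (LP (LK LD1_c0 LD2_c38 LD3_c58)) :=
  Lre_b IH (LK LD1_c1 LD2_c24 LD3_c33) (LK LD1_c0 LD2_c38 LD3_c58) Lrfl Lrfl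
theorem f415566 : Led Lsl_ct (LP (LK LD1_c1 LD2_c24 LD3_c33)) = (LP (LK LD1_c2 LD2_c57 LD3_c43)) :=
  Lre_c IH (LK LD1_c1 LD2_c24 LD3_c33) (LK LD1_c2 LD2_c57 LD3_c43) Lrfl Lrfl
def v5109 : LQ := Led Lsl_gt (LP (LK LD1_c2 LD2_c57 LD3_c43))
theorem f645973 : Led Lsl_gt (LP (LK LD1_c2 LD2_c57 LD3_c43)) = v5109 :=
  Lrfl
theorem f710560 : (LP (LK LD1_c6 LD2_c2 LD3_c18)) = v5109 :=
  (Llr Lrot10 (Lpr_cf (K51.f82014 IH) (Lpe (f82044 IH) (Lpr_gt (f710556 IH) (Lpe (K31.f415601 IH) (Lpr_gt (K31.f116887 IH) (Lpe (K31.f415836 IH) (Lpr_bt (K31.f415837 IH) (Lpr_gt (K17.f180314 IH) (Lpe (f415565 IH) (Lpr_ct (f415566 IH) (Lpr_gt (f645973 IH) (Lpn v5109))))))))))))).symm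
theorem f710593 : K51.v4964 = (LP (LK LD1_c1 LD2_c24 LD3_c33)) :=
  (Llr Lrot9 (Lpr_gf (K51.f699860 IH) (Lpe (f707070 IH) (Lpr_gt (K51.f140618 IH) (Lpr_ct (K51.f415879 IH) (Lpe (f710548 IH) (Lpe (K51.f423753 IH) (Lpe (K51.f612921 IH) (Lpe (K51.f82021 IH) (Lpqs (f710560 IH) (Lpe (f645973 IH) (Lpe (f415566 IH) (Lpn (LP (LK LD1_c1 LD2_c24 LD3_c33))))))))))))))).symm
theorem f710596 : K51.v12957 = (LP (LK LD1_c2 LD2_c57 LD3_c41)) :=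
  Lefun (Lecon (K51.f699860 IH) (f710593 IH)) (Lfl_gt (K46.f415849 IH))
theorem f632042 : Led Lsl_bt (LP (LK LD1_c2 LD2_c16 LD3_c32)) = (LP (LK LD1_c4 LD2_c39 LD3_c2)) :=
  Lre_b IH (LK LD1_c2 LD2_c16 LD3_c32) (LK LD1_c4 LD2_c39 LD3_c2) Lrfl Lrfl
theorem f645478 : Led Lsl_ff (LP (LK LD1_c2 LD2_c57 LD3_c44)) = (LP (LK LD1_c4 LD2_c39 LD3_c2)) :=
  Lgr Lrot25 (Lpr_bt (K41.f501053 IH) (Lpq (K50.f645317 IH) (Lpe (K50.f632052 IH) (Lpr_bt (f632042 IH) (Lpn (LP (LK LD1_c4 LD2_c39 LD3_c2)))))))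
theorem f645491 : Led Lsl_ft (LP (LK LD1_c2 LD2_c57 LD3_c44)) = (LP (LK LD1_c4 LD2_c39 LD3_c2)) :=
  Lgr Lrot48 (Lpr_ff (f645478 IH) (Lpn (LP (LK LD1_c4 LD2_c39 LD3_c2))))
theorem f501151 : Led Lsl_dt (LP (LK LD1_c2 LD2_c57 LD3_c44)) = (LP (LK LD1_c1 LD2_c24 LD3_c33)) :=
  Lre_d IH (LK LD1_c2 LD2_c57 LD3_c44) (LK LD1_c1 LD2_c24 LD3_c33) Lrfl Lrfl
theorem f645512 : Led Lsl_dt (LP (LK LD1_c2 LD2_c57 LD3_c43)) = (LP (LK LD1_c6 LD2_c3 LD3_c12)) :=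
  Lre_d IH (LK LD1_c2 LD2_c57 LD3_c43) (LK LD1_c6 LD2_c3 LD3_c12) Lrfl Lrfl
theorem f645513 : Led Lsl_ct (LP (LK LD1_c6 LD2_c3 LD3_c12)) = (LP (LK LD1_c11 LD2_c50 LD3_c10)) :=
  Lre_c IH (LK LD1_c6 LD2_c3 LD3_c12) (LK LD1_c11 LD2_c50 LD3_c10) Lrfl Lrfl
theorem f645514 : Led Lsl_dt (LP (LK LD1_c11 LD2_c50 LD3_c10)) = (LP (LK LD1_c20 LD2_c52 LD3_c22)) :=
  Lre_d IH (LK LD1_c11 LD2_c50 LD3_c10) (LK LD1_c20 LD2_c52 LD3_c22) Lrfl Lrfl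
theorem f632043 : Led Lsl_at (LP (LK LD1_c4 LD2_c39 LD3_c2)) = (LP (LK LD1_c9 LD2_c13 LD3_c47)) :=
  Lre_a IH (LK LD1_c4 LD2_c39 LD3_c2) (LK LD1_c9 LD2_c13 LD3_c47) Lrfl Lrfl
theorem f645471 : Led Lsl_ct (LP (LK LD1_c17 LD2_c8 LD3_c5)) = (LP (LK LD1_c9 LD2_c13 LD3_c47)) :=
  Lre_c IH (LK LD1_c17 LD2_c8 LD3_c5) (LK LD1_c9 LD2_c13 LD3_c47) Lrfl Lrfl
theorem f645474 : Led Lsl_dt (LP (LK LD1_c27 LD2_c0 LD3_c54)) = (LP (LK LD1_c17 LD2_c8 LD3_c5)) :=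
  Lre_d IH (LK LD1_c27 LD2_c0 LD3_c54) (LK LD1_c17 LD2_c8 LD3_c5) Lrfl Lrfl
theorem f645515 : Led Lsl_ct (LP (LK LD1_c20 LD2_c52 LD3_c22)) = (LP (LK LD1_c27 LD2_c0 LD3_c54)) :=
  Lgr Lrot53 (Lpe (f645514 IH) (Lpe (f645513 IH) (Lpe (f645512 IH) (Lpe (f415566 IH) (Lpe (f501151 IH) (Lpr_ft (f645491 IH) (Lpr_at (f632043 IH) (Lpe (f645471 IH) (Lpe (f645474 IH) (Lpn (LP (LK LD1_c27 LD2_c0 LD3_c54))))))))))))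
theorem f645463 : Led Lsl_dt (LP (LK LD1_c9 LD2_c13 LD3_c47)) = (LP (LK LD1_c4 LD2_c39 LD3_c0)) :=
  Lre_d IH (LK LD1_c9 LD2_c13 LD3_c47) (LK LD1_c4 LD2_c39 LD3_c0) Lrfl Lrfl
theorem f645467 : Led Lsl_ct (LP (LK LD1_c4 LD2_c39 LD3_c0)) = (LP (LK LD1_c9 LD2_c13 LD3_c46)) :=
  Lre_c IH (LK LD1_c4 LD2_c39 LD3_c0) (LK LD1_c9 LD2_c13 LD3_c46) Lrfl Lrfl
theorem f140943 : Led Lsl_at (LP (LK LD1_c4 LD2_c39 LD3_c1)) = (LP (LK LD1_c9 LD2_c13 LD3_c46)) :=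
  Lre_a IH (LK LD1_c4 LD2_c39 LD3_c1) (LK LD1_c9 LD2_c13 LD3_c46) Lrfl Lrfl
theorem f645531 : Led Lsl_ft (LP (LK LD1_c2 LD2_c57 LD3_c43)) = (LP (LK LD1_c4 LD2_c39 LD3_c1)) :=
  Lgr Lrot142 (Lpr_dt (f645512 IH) (Lpr_ct (f645513 IH) (Lpr_dt (f645514 IH) (Lpr_ct (f645515 IH) (Lpr_dt (f645474 IH) (Lpr_ct (f645471 IH) (Lpr_dt (f645463 IH) (Lpr_ct (f645467 IH) (Lpe (f140943 IH) (Lpn (LP (LK LD1_c4 LD2_c39 LD3_c1))))))))))))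
theorem f645543 : Led Lsl_ff (LP (LK LD1_c2 LD2_c57 LD3_c43)) = (LP (LK LD1_c4 LD2_c39 LD3_c1)) :=
  Lgr Lrot3 (Lpr_ft (f645531 IH) (Lpn (LP (LK LD1_c4 LD2_c39 LD3_c1))))
theorem f645545 : Led Lsl_at (LP (LK LD1_c2 LD2_c57 LD3_c43)) = (LP (LK LD1_c6 LD2_c3 LD3_c9)) :=
  Lre_a IH (LK LD1_c2 LD2_c57 LD3_c43) (LK LD1_c6 LD2_c3 LD3_c9) Lrfl Lrfl
theorem f140964 : Led Lsl_at (LP (LK LD1_c9 LD2_c13 LD3_c46)) = (LP (LK LD1_c4 LD2_c39 LD3_c1)) :=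
  Lre_a IH (LK LD1_c9 LD2_c13 LD3_c46) (LK LD1_c4 LD2_c39 LD3_c1) Lrfl Lrfl
theorem f645546 : Led Lsl_ft (LP (LK LD1_c6 LD2_c3 LD3_c9)) = (LP (LK LD1_c9 LD2_c13 LD3_c46)) :=
  Lgr Lrot101 (Lpe (f645545 IH) (Lpr_ff (f645543 IH) (Lpe (f140964 IH) (Lpn (LP (LK LD1_c9 LD2_c13 LD3_c46))))))
theorem f645499 : Led Lsl_ct (LP (LK LD1_c2 LD2_c57 LD3_c42)) = (LP (LK LD1_c6 LD2_c3 LD3_c9)) :=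
  Lre_c IH (LK LD1_c2 LD2_c57 LD3_c42) (LK LD1_c6 LD2_c3 LD3_c9) Lrfl Lrfl
theorem f632031 : Led Lsl_ct (LP (LK LD1_c9 LD2_c13 LD3_c46)) = (LP (LK LD1_c4 LD2_c39 LD3_c0)) :=
  Lre_c IH (LK LD1_c9 LD2_c13 LD3_c46) (LK LD1_c4 LD2_c39 LD3_c0) Lrfl Lrfl
theorem f645599 : Led Lsl_ff (LP (LK LD1_c2 LD2_c57 LD3_c42)) = (LP (LK LD1_c4 LD2_c39 LD3_c0)) :=
  Lgr Lrot23 (Lpr_ct (f645499 IH) (Lpr_ft (f645546 IH) (Lpr_ct (f632031 IH) (Lpn (LP (LK LD1_c4 LD2_c39 LD3_c0))))))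
theorem f452900 : Led Lsl_at (LP (LK LD1_c2 LD2_c57 LD3_c42)) = (LP (LK LD1_c1 LD2_c24 LD3_c33)) :=
  Lre_a IH (LK LD1_c2 LD2_c57 LD3_c42) (LK LD1_c1 LD2_c24 LD3_c33) Lrfl Lrfl
theorem f645603 : Led Lsl_gf (LP (LK LD1_c2 LD2_c57 LD3_c41)) = (LP (LK LD1_c4 LD2_c39 LD3_c0)) :=
  Lgr Lrot47 (Lpr_gt (K46.f415849 IH) (Lpe (f452900 IH) (Lpr_ff (f645599 IH) (Lpn (LP (LK LD1_c4 LD2_c39 LD3_c0))))))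
theorem f645457 : Led Lsl_et (LP (LK LD1_c9 LD2_c13 LD3_c48)) = (LP (LK LD1_c4 LD2_c39 LD3_c0)) :=
  Lre_e IH (LK LD1_c9 LD2_c13 LD3_c48) (LK LD1_c4 LD2_c39 LD3_c0) Lrfl Lrfl
def v5249 : LQ := Led Lsl_gt (LP (LK LD1_c3 LD2_c2 LD3_c34))
theorem f646794 : Led Lsl_gt (LP (LK LD1_c3 LD2_c2 LD3_c34)) = v5249 :=
  Lrfl
def v13173 : LQ := Led Lsl_at (LP (LK LD1_c4 LD2_c40 LD3_c57))
theorem f701511 : Led Lsl_at (LP (LK LD1_c4 LD2_c40 LD3_c57)) = v13173 :=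
  Lrfl
theorem f639706 : Led Lsl_ft (LP (LK LD1_c3 LD2_c2 LD3_c34)) = (LP (LK LD1_c4 LD2_c40 LD3_c57)) :=
  Lgr Lrot48 (Lpr_ff (K50.f639701 IH) (Lpn (LP (LK LD1_c4 LD2_c40 LD3_c57))))
theorem f701515 : Led Lsl_gt v5249 = v13173 :=
  Lgr Lrot46 (Lpe (f646794 IH) (Lpr_ft (f639706 IH) (Lpr_at (f701511 IH) (Lpn v13173))))
theorem f69218 : Led Lsl_gt (LP (LK LD1_c6 LD2_c25 LD3_c18)) = (LP (LK LD1_c3 LD2_c10 LD3_c18)) :=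
  Lre_g IH (LK LD1_c6 LD2_c25 LD3_c18) (LK LD1_c3 LD2_c10 LD3_c18) Lrfl Lrfl
theorem f499881 : Led Lsl_gf (LP (LK LD1_c6 LD2_c25 LD3_c18)) = (LP (LK LD1_c5 LD2_c56 LD3_c33)) :=
  Lgr Lrot47 (Lpr_gt (f69218 IH) (Lpr_af (K51.f499875 IH) (Lpe (K32.f496768 IH) (Lpn (LP (LK LD1_c5 LD2_c56 LD3_c33))))))
theorem f546047 : Led Lsl_et (LP (LK LD1_c9 LD2_c4 LD3_c14)) = (LP (LK LD1_c4 LD2_c33 LD3_c21)) :=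
  Lre_e IH (LK LD1_c9 LD2_c4 LD3_c14) (LK LD1_c4 LD2_c33 LD3_c21) Lrfl Lrfl
theorem f706304 : Led Lsl_ef (LP (LK LD1_c11 LD2_c38 LD3_c24)) = (LP (LK LD1_c20 LD2_c20 LD3_c4)) :=
  Lgr Lrot88 (Lpr_et (K51.f706300 IH) (Lpn (LP (LK LD1_c20 LD2_c20 LD3_c4))))
theorem f706360 : Led Lsl_ff (LP (LK LD1_c9 LD2_c4 LD3_c14)) = (LP (LK LD1_c11 LD2_c38 LD3_c24)) :=
  Lgr Lrot72 (Lpr_et (f546047 IH) (Lpr_ft (K51.f698557 IH) (Lpqs (K51.f706349 IH) (Lpr_et (K51.f116933 IH) (Lpr_ft (K51.f706285 IH) (Lpe (f706304 IH) (Lpn (LP (LK LD1_c11 LD2_c38 LD3_c24)))))))))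
theorem f150315 : Led Lsl_dt (LP (LK LD1_c6 LD2_c25 LD3_c19)) = (LP (LK LD1_c3 LD2_c10 LD3_c18)) :=
  Lre_d IH (LK LD1_c6 LD2_c25 LD3_c19) (LK LD1_c3 LD2_c10 LD3_c18) Lrfl Lrfl
theorem f494182 : Led Lsl_et (LP (LK LD1_c1 LD2_c3 LD3_c48)) = (LP (LK LD1_c2 LD2_c13 LD3_c36)) :=
  Lre_e IH (LK LD1_c1 LD2_c3 LD3_c48) (LK LD1_c2 LD2_c13 LD3_c36) Lrfl Lrfl
theorem f559989 : Led Lsl_df (LP (LK LD1_c6 LD2_c25 LD3_c18)) = (LP (LK LD1_c9 LD2_c4 LD3_c14)) :=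
  Lgr Lrot170 (Lpr_gt (f69218 IH) (Lpe (f150315 IH) (Lpr_et (K42.f499907 IH) (Lpr_gt (K41.f559983 IH) (Lpr_dt (K37.f424146 IH) (Lpr_gt (K10.f80213 IH) (Lpe (K31.f174816 IH) (Lpr_et (f494182 IH) (Lpr_gt (K51.f416270 IH) (Lpe (f546047 IH) (Lpn (LP (LK LD1_c9 LD2_c4 LD3_c14)))))))))))))
theorem f646800 : Led Lsl_af (LP (LK LD1_c3 LD2_c2 LD3_c34)) = K50.v5251 :=
  Lgr Lrot0 (Lpr_at (K50.f646799 IH) (Lpn K50.v5251))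
theorem f701514 : Led Lsl_ff K50.v5251 = v13173 :=
  Lgr Lrot30 (Lpe (f646800 IH) (Lpr_ft (f639706 IH) (Lpr_at (f701511 IH) (Lpn v13173))))
theorem f706369 : (LP (LK LD1_c6 LD2_c25 LD3_c18)) = v13173 :=
  (Llr Lrot60 (Lpr_df (f559989 IH) (Lpr_ff (f706360 IH) (Lpe (K51.f141860 IH) (Lpqs (K51.f706306 IH) (Lpr_ff (f701514 IH) (Lpn v13173))))))).symm
theorem f706375 : v5249 = (LP (LK LD1_c5 LD2_c56 LD3_c33)) :=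
  Lefun (Lecon (Lfl_gt (f701515 IH)) (f706369 IH).symm) (f499881 IH)
theorem f496791 : Led Lsl_at (LP (LK LD1_c2 LD2_c54 LD3_c38)) = (LP (LK LD1_c3 LD2_c10 LD3_c14)) :=
  Lgr Lrot100 (Lpr_af (K32.f496789 IH) (Lpn (LP (LK LD1_c3 LD2_c10 LD3_c14))))
theorem f560097 : Led Lsl_af (LP (LK LD1_c5 LD2_c56 LD3_c39)) = (LP (LK LD1_c5 LD2_c13 LD3_c29)) :=
  Lgr Lrot117 (Lpr_dt (K49.f161050 IH) (Lpr_at (f496791 IH) (Lpr_dt (K50.f560094 IH) (Lpn (LP (LK LD1_c5 LD2_c13 LD3_c29))))))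
theorem f161058 : Led Lsl_gt (LP (LK LD1_c11 LD2_c38 LD3_c38)) = (LP (LK LD1_c5 LD2_c56 LD3_c39)) :=
  Lre_g IH (LK LD1_c11 LD2_c38 LD3_c38) (LK LD1_c5 LD2_c56 LD3_c39) Lrfl Lrfl
theorem f618150 : Led Lsl_gf (LP (LK LD1_c11 LD2_c38 LD3_c38)) = (LP (LK LD1_c10 LD2_c17 LD3_c15)) :=
  Lgr Lrot47 (Lpr_gt (f161058 IH) (Lpr_af (f560097 IH) (Lpe (K50.f302394 IH) (Lpn (LP (LK LD1_c10 LD2_c17 LD3_c15))))))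
theorem f710713 : Led Lsl_dt (LP (LK LD1_c9 LD2_c13 LD3_c48)) = (LP (LK LD1_c11 LD2_c38 LD3_c38)) :=
  Lgr Lrot37 (Lpr_et (f645457 IH) (Lpe (f645603 IH) (Lpq (f710596 IH) (Lpe (K51.f707075 IH) (Lpr_gt (K51.f140618 IH) (Lpe (K51.f140653 IH) (Lpr_et (K38.f140640 IH) (Lpr_gt (f646794 IH) (Lpqs (f706375 IH) (Lpe (K32.f496769 IH) (Lpr_dt (K50.f560082 IH) (Lpe (f618150 IH) (Lpn (LP (LK LD1_c11 LD2_c38 LD3_c38)))))))))))))))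
theorem f710719 : Led Lsl_df (LP (LK LD1_c9 LD2_c13 LD3_c48)) = (LP (LK LD1_c11 LD2_c38 LD3_c38)) :=
  Lgr Lrot38 (Lpr_dt (f710713 IH) (Lpn (LP (LK LD1_c11 LD2_c38 LD3_c38))))
theorem f23055 : Led Lsl_at (LP (LK LD1_c9 LD2_c13 LD3_c48)) = (LP (LK LD1_c4 LD2_c39 LD3_c3)) :=
  Lre_a IH (LK LD1_c9 LD2_c13 LD3_c48) (LK LD1_c4 LD2_c39 LD3_c3) Lrfl Lrfl
theorem f23046 : Led Lsl_bt (LP (LK LD1_c6 LD2_c8 LD3_c28)) = (LP (LK LD1_c3 LD2_c0 LD3_c26)) :=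
  Lre_b IH (LK LD1_c6 LD2_c8 LD3_c28) (LK LD1_c3 LD2_c0 LD3_c26) Lrfl Lrfl
theorem f23047 : Led Lsl_bt (LP (LK LD1_c2 LD2_c16 LD3_c33)) = (LP (LK LD1_c4 LD2_c39 LD3_c3)) :=
  Lre_b IH (LK LD1_c2 LD2_c16 LD3_c33) (LK LD1_c4 LD2_c39 LD3_c3) Lrfl Lrfl
theorem f23048 : Led Lsl_df (LP (LK LD1_c6 LD2_c8 LD3_c28)) = (LP (LK LD1_c4 LD2_c39 LD3_c3)) :=
  Lgr Lrot12 (Lpr_bt (f23046 IH) (Lpr_dt (K9.f22985 IH) (Lpr_bt (f23047 IH) (Lpn (LP (LK LD1_c4 LD2_c39 LD3_c3))))))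
theorem f710721 : Led Lsl_at (LP (LK LD1_c6 LD2_c8 LD3_c28)) = (LP (LK LD1_c11 LD2_c38 LD3_c38)) :=
  Lgr Lrot51 (Lpr_df (f23048 IH) (Lpe (f23055 IH) (Lpr_df (f710719 IH) (Lpn (LP (LK LD1_c11 LD2_c38 LD3_c38))))))
theorem f23881 : Led Lsl_dt (LP (LK LD1_c2 LD2_c57 LD3_c40)) = (LP (LK LD1_c1 LD2_c24 LD3_c32)) :=
  Lre_d IH (LK LD1_c2 LD2_c57 LD3_c40) (LK LD1_c1 LD2_c24 LD3_c32) Lrfl Lrfl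
theorem f645361 : Led Lsl_ft (LP (LK LD1_c3 LD2_c0 LD3_c25)) = (LP (LK LD1_c2 LD2_c57 LD3_c40)) :=
  Lgr Lrot54 (Lpr_df (K46.f645356 IH) (Lpe (K46.f501148 IH) (Lpe (f23881 IH) (Lpn (LP (LK LD1_c2 LD2_c57 LD3_c40))))))
theorem f645369 : Led Lsl_af (LP (LK LD1_c3 LD2_c0 LD3_c26)) = (LP (LK LD1_c2 LD2_c57 LD3_c40)) :=
  Lgr Lrot31 (Lpe (K0.f22966 IH) (Lpe (K46.f25582 IH) (Lpr_ft (f645361 IH) (Lpn (LP (LK LD1_c2 LD2_c57 LD3_c40))))))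
theorem f645391 : Led Lsl_ft (LP (LK LD1_c3 LD2_c0 LD3_c26)) = (LP (LK LD1_c4 LD2_c39 LD3_c53)) :=
  Lgr Lrot101 (Lpr_af (f645369 IH) (Lpe (f645361 IH) (Lpr_af (K46.f645378 IH) (Lpn (LP (LK LD1_c4 LD2_c39 LD3_c53))))))
theorem f645289 : Led Lsl_bt (LP (LK LD1_c4 LD2_c39 LD3_c53)) = (LP (LK LD1_c9 LD2_c15 LD3_c17)) :=
  Lre_b IH (LK LD1_c4 LD2_c39 LD3_c53) (LK LD1_c9 LD2_c15 LD3_c17) Lrfl Lrfl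
theorem f645393 : Led Lsl_ff (LP (LK LD1_c6 LD2_c8 LD3_c28)) = (LP (LK LD1_c9 LD2_c15 LD3_c17)) :=
  Lgr Lrot25 (Lpr_bt (f23046 IH) (Lpr_ft (f645391 IH) (Lpr_bt (f645289 IH) (Lpn (LP (LK LD1_c9 LD2_c15 LD3_c17))))))
theorem f710725 : Led Lsl_gt (LP (LK LD1_c9 LD2_c15 LD3_c17)) = (LP (LK LD1_c10 LD2_c17 LD3_c15)) :=
  Lgr Lrot5 (Lpe (f645393 IH) (Lpr_at (f710721 IH) (Lpr_gf (f618150 IH) (Lpn (LP (LK LD1_c10 LD2_c17 LD3_c15))))))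
def v12340 : LQ := Led Lsl_gt (LP (LK LD1_c4 LD2_c6 LD3_c3))
theorem f691607 : Led Lsl_gt (LP (LK LD1_c4 LD2_c6 LD3_c3)) = v12340 :=
  Lrfl
theorem f645287 : Led Lsl_ct K32.v1883 = K46.v5085 :=
  Lgr Lrot59 (Lpr_cf (K46.f645284 IH) (Lpn K46.v5085))
theorem f691609 : Led Lsl_cf (LP (LK LD1_c4 LD2_c39 LD3_c53)) = v12340 :=
  Lgr Lrot99 (Lpr_df (K46.f645283 IH) (Lpe (f645287 IH) (Lpe (K32.f504792 IH) (Lpe (K32.f79844 IH) (Lpr_gf (K35.f438597 IH) (Lpe (K32.f73214 IH) (Lpr_gt (K32.f55703 IH) (Lpr_ct (K2.f55650 IH) (Lpr_gt (f691607 IH) (Lpn v12340))))))))))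
theorem f691610 : Led Lsl_ct (LP (LK LD1_c4 LD2_c39 LD3_c53)) = v12340 :=
  Lgr Lrot59 (Lpr_cf (f691609 IH) (Lpn v12340))
theorem f691623 : Led Lsl_bf (LP (LK LD1_c4 LD2_c6 LD3_c5)) = K51.v12342 :=
  Lgr Lrot24 (Lpr_bt (K51.f691622 IH) (Lpn K51.v12342))
theorem f185714 : Led Lsl_cf (LP (LK LD1_c10 LD2_c14 LD3_c24)) = (LP (LK LD1_c5 LD2_c13 LD3_c32)) :=
  Lgr Lrot11 (Lpr_ct (K18.f185703 IH) (Lpn (LP (LK LD1_c5 LD2_c13 LD3_c32))))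
theorem f185725 : Led Lsl_et (LP (LK LD1_c2 LD2_c32 LD3_c46)) = (LP (LK LD1_c5 LD2_c11 LD3_c46)) :=
  Lre_e IH (LK LD1_c2 LD2_c32 LD3_c46) (LK LD1_c5 LD2_c11 LD3_c46) Lrfl Lrfl
theorem f21424 : Led Lsl_et (LP (LK LD1_c5 LD2_c4 LD3_c38)) = (LP (LK LD1_c2 LD2_c29 LD3_c40)) :=
  Lre_e IH (LK LD1_c5 LD2_c4 LD3_c38) (LK LD1_c2 LD2_c29 LD3_c40) Lrfl Lrfl
theorem f302324 : Led Lsl_at (LP (LK LD1_c5 LD2_c11 LD3_c46)) = (LP (LK LD1_c5 LD2_c4 LD3_c38)) :=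
  Lgr Lrot80 (Lpe (f185725 IH) (Lpr_af (K18.f302317 IH) (Lpe (f21424 IH) (Lpn (LP (LK LD1_c5 LD2_c4 LD3_c38))))))
theorem f169738 : Led Lsl_gt (LP (LK LD1_c10 LD2_c0 LD3_c24)) = (LP (LK LD1_c5 LD2_c4 LD3_c38)) :=
  Lre_g IH (LK LD1_c10 LD2_c0 LD3_c24) (LK LD1_c5 LD2_c4 LD3_c38) Lrfl Lrfl
theorem f406501 : Led Lsl_gt (LP (LK LD1_c10 LD2_c14 LD3_c24)) = (LP (LK LD1_c10 LD2_c0 LD3_c24)) :=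
  Lgr Lrot5 (Lpr_ft (K18.f185719 IH) (Lpr_at (f302324 IH) (Lpe (f169738 IH) (Lpn (LP (LK LD1_c10 LD2_c0 LD3_c24))))))
theorem f710729 : Led Lsl_ct K51.v12342 = (LP (LK LD1_c10 LD2_c0 LD3_c24)) :=
  Lgr Lrot10 (Lpe (f691623 IH) (Lpr_gt (K32.f55703 IH) (Lpr_ct (K2.f55650 IH) (Lpr_gt (f691607 IH) (Lpe (f691610 IH) (Lpr_bt (f645289 IH) (Lpr_gt (f710725 IH) (Lpe (K18.f185712 IH) (Lpe (f185714 IH) (Lpr_gt (f406501 IH) (Lpn (LP (LK LD1_c10 LD2_c0 LD3_c24)))))))))))))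
theorem f710730 : Led Lsl_ct (LP (LK LD1_c5 LD2_c8 LD3_c15)) = (LP (LK LD1_c10 LD2_c0 LD3_c24)) :=
  Leop (Lpe (f710729 IH) (Lpq (K51.f707151 IH) (Lpn (LP (LK LD1_c5 LD2_c8 LD3_c15)))))
theorem seed_751 : LEOK LG_c (LK LD1_c5 LD2_c8 LD3_c15) :=
  Leoe_c (LK LD1_c5 LD2_c8 LD3_c15) (f710730 IH)
theorem f505685 : Led Lsl_et (LP (LK LD1_c12 LD2_c30 LD3_c4)) = (LP (LK LD1_c6 LD2_c30 LD3_c21)) :=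
  Lre_e IH (LK LD1_c12 LD2_c30 LD3_c4) (LK LD1_c6 LD2_c30 LD3_c21) Lrfl Lrfl
def v4908 : LQ := Led Lsl_gf (LP (LK LD1_c2 LD2_c52 LD3_c37))
theorem f640861 : Led Lsl_gf (LP (LK LD1_c2 LD2_c52 LD3_c37)) = v4908 :=
  Lrfl
theorem f500315 : Led Lsl_at (LP (LK LD1_c5 LD2_c52 LD3_c43)) = (LP (LK LD1_c2 LD2_c52 LD3_c37)) :=
  Lre_a IH (LK LD1_c5 LD2_c52 LD3_c43) (LK LD1_c2 LD2_c52 LD3_c37) Lrfl Lrfl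
theorem f505666 : Led Lsl_ft (LP (LK LD1_c2 LD2_c52 LD3_c37)) = (LP (LK LD1_c3 LD2_c13 LD3_c12)) :=
  Lgr Lrot48 (Lpr_ff (K41.f505659 IH) (Lpn (LP (LK LD1_c3 LD2_c13 LD3_c12))))
theorem f505669 : Led Lsl_at (LP (LK LD1_c3 LD2_c13 LD3_c12)) = (LP (LK LD1_c6 LD2_c30 LD3_c21)) :=
  Lre_a IH (LK LD1_c3 LD2_c13 LD3_c12) (LK LD1_c6 LD2_c30 LD3_c21) Lrfl Lrfl
theorem f505670 : Led Lsl_ff (LP (LK LD1_c5 LD2_c52 LD3_c43)) = (LP (LK LD1_c6 LD2_c30 LD3_c21)) :=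
  Lgr Lrot30 (Lpr_at (f500315 IH) (Lpr_ft (f505666 IH) (Lpr_at (f505669 IH) (Lpn (LP (LK LD1_c6 LD2_c30 LD3_c21))))))
theorem f640862 : Led Lsl_gt (LP (LK LD1_c6 LD2_c30 LD3_c21)) = v4908 :=
  Lgr Lrot5 (Lpe (f505670 IH) (Lpr_at (f500315 IH) (Lpr_gf (f640861 IH) (Lpn v4908))))
theorem f161077 : Led Lsl_et (LP (LK LD1_c1 LD2_c23 LD3_c2)) = (LP (LK LD1_c2 LD2_c54 LD3_c8)) :=
  Lre_e IH (LK LD1_c1 LD2_c23 LD3_c2) (LK LD1_c2 LD2_c54 LD3_c8) Lrfl Lrfl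
def v4963 : LQ := Led Lsl_gt (LP (LK LD1_c2 LD2_c54 LD3_c8))
theorem f641090 : Led Lsl_gt (LP (LK LD1_c2 LD2_c54 LD3_c8)) = v4963 :=
  Lrfl
def v4221 : LQ := Led Lsl_ft (LP (LK LD1_c2 LD2_c16 LD3_c31))
theorem f632027 : Led Lsl_ft (LP (LK LD1_c2 LD2_c16 LD3_c31)) = v4221 :=
  Lrfl
theorem f632029 : Led Lsl_ff (LP (LK LD1_c2 LD2_c16 LD3_c31)) = v4221 :=
  Lgr Lrot3 (Lpr_ft (f632027 IH) (Lpn v4221))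
theorem f140136 : Led Lsl_bt (LP (LK LD1_c2 LD2_c16 LD3_c31)) = (LP (LK LD1_c1 LD2_c5 LD3_c8)) :=
  Lre_b IH (LK LD1_c2 LD2_c16 LD3_c31) (LK LD1_c1 LD2_c5 LD3_c8) Lrfl Lrfl
theorem f632030 : Led Lsl_bt K49.v1279 = v4221 :=
  Lgr Lrot35 (Lpe (K49.f494510 IH) (Lpe (f140136 IH) (Lpr_ff (f632029 IH) (Lpn v4221))))
theorem f645315 : v4221 = (LP (LK LD1_c1 LD2_c24 LD3_c33)) :=
  Lefun (Lecon (f632030 IH) (K49.f645301 IH).symm) (K46.f415848 IH)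
def v1726 : LQ := Led Lsl_gt (LP (LK LD1_c1 LD2_c24 LD3_c33))
theorem f501150 : Led Lsl_gt (LP (LK LD1_c1 LD2_c24 LD3_c33)) = v1726 :=
  Lrfl
theorem f494507 : Led Lsl_at (LP (LK LD1_c2 LD2_c16 LD3_c31)) = (LP (LK LD1_c4 LD2_c39 LD3_c0)) :=
  Lre_a IH (LK LD1_c2 LD2_c16 LD3_c31) (LK LD1_c4 LD2_c39 LD3_c0) Lrfl Lrfl
theorem f645701 : Led Lsl_gt v1726 = (LP (LK LD1_c4 LD2_c39 LD3_c0)) :=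
  Lgr Lrot46 (Lpe (f501150 IH) (Lpq (f645315 IH) (Lpe (f632029 IH) (Lpr_at (f494507 IH) (Lpn (LP (LK LD1_c4 LD2_c39 LD3_c0)))))))
theorem f710594 : (LP (LK LD1_c2 LD2_c54 LD3_c8)) = v1726 :=
  Lefun (Lecon (Lfl_gf (K51.f641091 IH)) (f710593 IH)) (f501150 IH)
theorem f710597 : (LP (LK LD1_c4 LD2_c39 LD3_c0)) = v4963 :=
  Lefun (Lecon (f645701 IH) (f710594 IH).symm) (f641090 IH)
theorem f645472 : Led Lsl_dt (LP (LK LD1_c4 LD2_c39 LD3_c0)) = (LP (LK LD1_c9 LD2_c13 LD3_c47)) :=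
  Lre_d IH (LK LD1_c4 LD2_c39 LD3_c0) (LK LD1_c9 LD2_c13 LD3_c47) Lrfl Lrfl
theorem f501139 : Led Lsl_at (LP (LK LD1_c6 LD2_c3 LD3_c10)) = (LP (LK LD1_c2 LD2_c57 LD3_c44)) :=
  Lre_a IH (LK LD1_c6 LD2_c3 LD3_c10) (LK LD1_c2 LD2_c57 LD3_c44) Lrfl Lrfl
theorem f645505 : Led Lsl_ff (LP (LK LD1_c6 LD2_c3 LD3_c10)) = (LP (LK LD1_c9 LD2_c13 LD3_c47)) :=
  Lgr Lrot30 (Lpr_at (f501139 IH) (Lpr_ft (f645491 IH) (Lpr_at (f632043 IH) (Lpn (LP (LK LD1_c9 LD2_c13 LD3_c47))))))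
theorem f501152 : Led Lsl_gt (LP (LK LD1_c6 LD2_c3 LD3_c14)) = (LP (LK LD1_c2 LD2_c57 LD3_c44)) :=
  Lre_g IH (LK LD1_c6 LD2_c3 LD3_c14) (LK LD1_c2 LD2_c57 LD3_c44) Lrfl Lrfl
theorem f645656 : Led Lsl_gf (LP (LK LD1_c6 LD2_c3 LD3_c14)) = (LP (LK LD1_c9 LD2_c13 LD3_c47)) :=
  Lgr Lrot47 (Lpr_gt (f501152 IH) (Lpe (f501139 IH) (Lpr_ff (f645505 IH) (Lpn (LP (LK LD1_c9 LD2_c13 LD3_c47))))))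
theorem f82942 : Led Lsl_gt (LP (LK LD1_c2 LD2_c54 LD3_c44)) = (LP (LK LD1_c1 LD2_c23 LD3_c17)) :=
  Lre_g IH (LK LD1_c2 LD2_c54 LD3_c44) (LK LD1_c1 LD2_c23 LD3_c17) Lrfl Lrfl
theorem f442459 : Led Lsl_et (LP (LK LD1_c5 LD2_c56 LD3_c56)) = (LP (LK LD1_c2 LD2_c54 LD3_c44)) :=
  Lre_e IH (LK LD1_c5 LD2_c56 LD3_c56) (LK LD1_c2 LD2_c54 LD3_c44) Lrfl Lrfl
theorem f710940 : Led Lsl_df (LP (LK LD1_c6 LD2_c3 LD3_c14)) = (LP (LK LD1_c5 LD2_c56 LD3_c56)) :=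
  Lgr Lrot132 (Lpr_gf (f645656 IH) (Lpe (f645472 IH) (Lpqs (f710597 IH) (Lpe (f641090 IH) (Lpe (f161077 IH) (Lpr_dt (K8.f161073 IH) (Lpe (K6.f37936 IH) (Lpe (K2.f24081 IH) (Lpr_et (K45.f425725 IH) (Lpe (f82942 IH) (Lpe (f442459 IH) (Lpn (LP (LK LD1_c5 LD2_c56 LD3_c56))))))))))))))
theorem f710943 : Led Lsl_dt (LP (LK LD1_c6 LD2_c3 LD3_c14)) = (LP (LK LD1_c5 LD2_c56 LD3_c56)) :=
  Lgr Lrot42 (Lpr_df (f710940 IH) (Lpn (LP (LK LD1_c5 LD2_c56 LD3_c56))))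
theorem f209916 : Led Lsl_ct (LP (LK LD1_c2 LD2_c54 LD3_c8)) = (LP (LK LD1_c5 LD2_c55 LD3_c37)) :=
  Lre_c IH (LK LD1_c2 LD2_c54 LD3_c8) (LK LD1_c5 LD2_c55 LD3_c37) Lrfl Lrfl
theorem f161239 : Led Lsl_gt (LP (LK LD1_c5 LD2_c55 LD3_c37)) = (LP (LK LD1_c11 LD2_c36 LD3_c29)) :=
  Lre_g IH (LK LD1_c5 LD2_c55 LD3_c37) (LK LD1_c11 LD2_c36 LD3_c29) Lrfl Lrfl
theorem f161255 : Led Lsl_dt (LP (LK LD1_c11 LD2_c36 LD3_c29)) = (LP (LK LD1_c20 LD2_c34 LD3_c40)) :=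
  Lre_d IH (LK LD1_c11 LD2_c36 LD3_c29) (LK LD1_c20 LD2_c34 LD3_c40) Lrfl Lrfl
theorem f642337 : Led Lsl_ct (LP (LK LD1_c11 LD2_c39 LD3_c6)) = (LP (LK LD1_c5 LD2_c56 LD3_c56)) :=
  Lre_c IH (LK LD1_c11 LD2_c39 LD3_c6) (LK LD1_c5 LD2_c56 LD3_c56) Lrfl Lrfl
theorem f710942 : Led Lsl_dt (LP (LK LD1_c20 LD2_c38 LD3_c30)) = (LP (LK LD1_c11 LD2_c39 LD3_c6)) :=
  Lre_d IH (LK LD1_c20 LD2_c38 LD3_c30) (LK LD1_c11 LD2_c39 LD3_c6) Lrfl Lrfl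
theorem f710966 : Led Lsl_gt (LP (LK LD1_c20 LD2_c34 LD3_c40)) = (LP (LK LD1_c20 LD2_c38 LD3_c30)) :=
  Lgr Lrot49 (Lpe (f161255 IH) (Lpe (f161239 IH) (Lpe (f209916 IH) (Lpqs (f710594 IH) (Lpr_gt (f645701 IH) (Lpr_dt (f645472 IH) (Lpe (f645656 IH) (Lpr_dt (f710943 IH) (Lpe (f642337 IH) (Lpe (f710942 IH) (Lpn (LP (LK LD1_c20 LD2_c38 LD3_c30)))))))))))))
theorem f161238 : Led Lsl_et (LP (LK LD1_c2 LD2_c54 LD3_c7)) = (LP (LK LD1_c5 LD2_c55 LD3_c37)) :=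
  Lre_e IH (LK LD1_c2 LD2_c54 LD3_c7) (LK LD1_c5 LD2_c55 LD3_c37) Lrfl Lrfl
theorem f160895 : Led Lsl_et (LP (LK LD1_c5 LD2_c56 LD3_c30)) = (LP (LK LD1_c11 LD2_c38 LD3_c19)) :=
  Lre_e IH (LK LD1_c5 LD2_c56 LD3_c30) (LK LD1_c11 LD2_c38 LD3_c19) Lrfl Lrfl
theorem f710965 : Led Lsl_dt (LP (LK LD1_c11 LD2_c39 LD3_c6)) = (LP (LK LD1_c20 LD2_c38 LD3_c30)) :=
  Lre_d IH (LK LD1_c11 LD2_c39 LD3_c6) (LK LD1_c20 LD2_c38 LD3_c30) Lrfl Lrfl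
theorem f710970 : Led Lsl_et (LP (LK LD1_c11 LD2_c39 LD3_c6)) = (LP (LK LD1_c5 LD2_c56 LD3_c54)) :=
  Lre_e IH (LK LD1_c11 LD2_c39 LD3_c6) (LK LD1_c5 LD2_c56 LD3_c54) Lrfl Lrfl
theorem f710971 : Led Lsl_gf (LP (LK LD1_c11 LD2_c38 LD3_c19)) = (LP (LK LD1_c5 LD2_c56 LD3_c54)) :=
  Lgr Lrot141 (Lpe (f160895 IH) (Lpe (K8.f160893 IH) (Lpr_gt (K8.f161229 IH) (Lpe (K8.f161237 IH) (Lpr_et (f161238 IH) (Lpr_gt (f161239 IH) (Lpr_dt (f161255 IH) (Lpr_gt (f710966 IH) (Lpe (f710965 IH) (Lpr_et (f710970 IH) (Lpn (LP (LK LD1_c5 LD2_c56 LD3_c54)))))))))))))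
theorem f160904 : Led Lsl_at (LP (LK LD1_c8 LD2_c0 LD3_c7)) = (LP (LK LD1_c11 LD2_c25 LD3_c14)) :=
  Lgr Lrot100 (Lpr_af (K8.f160902 IH) (Lpn (LP (LK LD1_c11 LD2_c25 LD3_c14))))
theorem f112499 : Led Lsl_et (LP (LK LD1_c3 LD2_c59 LD3_c29)) = (LP (LK LD1_c8 LD2_c0 LD3_c7)) :=
  Lre_e IH (LK LD1_c3 LD2_c59 LD3_c29) (LK LD1_c8 LD2_c0 LD3_c7) Lrfl Lrfl
theorem f112500 : Led Lsl_et (LP (LK LD1_c12 LD2_c23 LD3_c17)) = (LP (LK LD1_c6 LD2_c25 LD3_c7)) :=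
  Lre_e IH (LK LD1_c12 LD2_c23 LD3_c17) (LK LD1_c6 LD2_c25 LD3_c7) Lrfl Lrfl
theorem f112501 : Led Lsl_ct (LP (LK LD1_c8 LD2_c0 LD3_c7)) = (LP (LK LD1_c12 LD2_c23 LD3_c17)) :=
  Lgr Lrot15 (Lpe (f112499 IH) (Lpr_cf (K5.f112488 IH) (Lpe (f112500 IH) (Lpn (LP (LK LD1_c12 LD2_c23 LD3_c17))))))
theorem f112506 : Led Lsl_cf (LP (LK LD1_c8 LD2_c0 LD3_c7)) = (LP (LK LD1_c12 LD2_c23 LD3_c17)) :=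
  Lgr Lrot11 (Lpr_ct (f112501 IH) (Lpn (LP (LK LD1_c12 LD2_c23 LD3_c17))))
theorem f141781 : Led Lsl_et (LP (LK LD1_c11 LD2_c38 LD3_c19)) = (LP (LK LD1_c5 LD2_c56 LD3_c30)) :=
  Lre_e IH (LK LD1_c11 LD2_c38 LD3_c19) (LK LD1_c5 LD2_c56 LD3_c30) Lrfl Lrfl
theorem f160885 : Led Lsl_ct (LP (LK LD1_c11 LD2_c25 LD3_c14)) = (LP (LK LD1_c11 LD2_c38 LD3_c19)) :=
  Lgr Lrot15 (Lpe (K8.f139273 IH) (Lpr_cf (K8.f160881 IH) (Lpe (f141781 IH) (Lpn (LP (LK LD1_c11 LD2_c38 LD3_c19))))))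
theorem f428378 : Led Lsl_af (LP (LK LD1_c12 LD2_c23 LD3_c17)) = (LP (LK LD1_c11 LD2_c38 LD3_c19)) :=
  Lgr Lrot68 (Lpe (f112506 IH) (Lpr_at (f160904 IH) (Lpr_ct (f160885 IH) (Lpn (LP (LK LD1_c11 LD2_c38 LD3_c19))))))
theorem f428380 : Led Lsl_at (LP (LK LD1_c12 LD2_c23 LD3_c17)) = (LP (LK LD1_c11 LD2_c38 LD3_c19)) :=
  Lgr Lrot100 (Lpr_af (f428378 IH) (Lpn (LP (LK LD1_c11 LD2_c38 LD3_c19))))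
theorem f112510 : Led Lsl_bt (LP (LK LD1_c8 LD2_c0 LD3_c7)) = (LP (LK LD1_c3 LD2_c59 LD3_c35)) :=
  Lre_b IH (LK LD1_c8 LD2_c0 LD3_c7) (LK LD1_c3 LD2_c59 LD3_c35) Lrfl Lrfl
theorem f139274 : Led Lsl_bf (LP (LK LD1_c9 LD2_c47 LD3_c40)) = (LP (LK LD1_c11 LD2_c25 LD3_c14)) :=
  Lgr Lrot96 (Lpr_et (K44.f139268 IH) (Lpr_bt (K8.f139269 IH) (Lpr_et (K8.f139273 IH) (Lpn (LP (LK LD1_c11 LD2_c25 LD3_c14))))))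
theorem f139289 : Led Lsl_bt (LP (LK LD1_c9 LD2_c47 LD3_c40)) = (LP (LK LD1_c11 LD2_c25 LD3_c14)) :=
  Lgr Lrot127 (Lpr_bf (f139274 IH) (Lpn (LP (LK LD1_c11 LD2_c25 LD3_c14))))
theorem f74972 : Led Lsl_at (LP (LK LD1_c4 LD2_c58 LD3_c60)) = (LP (LK LD1_c9 LD2_c47 LD3_c40)) :=
  Lre_a IH (LK LD1_c4 LD2_c58 LD3_c60) (LK LD1_c9 LD2_c47 LD3_c40) Lrfl Lrfl
theorem f160906 : Led Lsl_at (LP (LK LD1_c3 LD2_c59 LD3_c35)) = (LP (LK LD1_c5 LD2_c47 LD3_c27)) :=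
  Lgr Lrot67 (Lpe (f112510 IH) (Lpr_af (K8.f160902 IH) (Lpe (f139289 IH) (Lpe (f74972 IH) (Lpr_bf (K4.f74970 IH) (Lpn (LP (LK LD1_c5 LD2_c47 LD3_c27))))))))
theorem f82928 : Led Lsl_gt (LP (LK LD1_c6 LD2_c30 LD3_c20)) = (LP (LK LD1_c3 LD2_c13 LD3_c12)) :=
  Lre_g IH (LK LD1_c6 LD2_c30 LD3_c20) (LK LD1_c3 LD2_c13 LD3_c12) Lrfl Lrfl
theorem f641797 : Led Lsl_ff (LP (LK LD1_c3 LD2_c59 LD3_c35)) = (LP (LK LD1_c6 LD2_c30 LD3_c20)) :=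
  Lgr Lrot52 (Lpr_at (f160906 IH) (Lpr_gf (K41.f641779 IH) (Lpe (f82928 IH) (Lpn (LP (LK LD1_c6 LD2_c30 LD3_c20))))))
theorem f641809 : Led Lsl_ft (LP (LK LD1_c3 LD2_c59 LD3_c35)) = (LP (LK LD1_c6 LD2_c30 LD3_c20)) :=
  Lgr Lrot48 (Lpr_ff (f641797 IH) (Lpn (LP (LK LD1_c6 LD2_c30 LD3_c20))))
theorem f82961 : Led Lsl_bt (LP (LK LD1_c6 LD2_c30 LD3_c20)) = (LP (LK LD1_c12 LD2_c30 LD3_c1)) :=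
  Lre_b IH (LK LD1_c6 LD2_c30 LD3_c20) (LK LD1_c12 LD2_c30 LD3_c1) Lrfl Lrfl
theorem f641811 : Led Lsl_ff (LP (LK LD1_c8 LD2_c0 LD3_c7)) = (LP (LK LD1_c12 LD2_c30 LD3_c1)) :=
  Lgr Lrot25 (Lpr_bt (f112510 IH) (Lpr_ft (f641809 IH) (Lpr_bt (f82961 IH) (Lpn (LP (LK LD1_c12 LD2_c30 LD3_c1))))))
theorem f72028 : Led Lsl_bt (LP (LK LD1_c0 LD2_c38 LD3_c33)) = (LP (LK LD1_c1 LD2_c23 LD3_c17)) :=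
  Lre_b IH (LK LD1_c0 LD2_c38 LD3_c33) (LK LD1_c1 LD2_c23 LD3_c17) Lrfl Lrfl
theorem f82925 : Led Lsl_ct (LP (LK LD1_c2 LD2_c54 LD3_c43)) = (LP (LK LD1_c5 LD2_c56 LD3_c50)) :=
  Lre_c IH (LK LD1_c2 LD2_c54 LD3_c43) (LK LD1_c5 LD2_c56 LD3_c50) Lrfl Lrfl
theorem f82926 : Led Lsl_gt (LP (LK LD1_c5 LD2_c56 LD3_c50)) = (LP (LK LD1_c11 LD2_c38 LD3_c55)) :=
  Lre_g IH (LK LD1_c5 LD2_c56 LD3_c50) (LK LD1_c11 LD2_c38 LD3_c55) Lrfl Lrfl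
theorem f82929 : Led Lsl_bt (LP (LK LD1_c12 LD2_c30 LD3_c1)) = (LP (LK LD1_c6 LD2_c30 LD3_c20)) :=
  Lre_b IH (LK LD1_c12 LD2_c30 LD3_c1) (LK LD1_c6 LD2_c30 LD3_c20) Lrfl Lrfl
theorem f82930 : Led Lsl_cf (LP (LK LD1_c11 LD2_c38 LD3_c55)) = (LP (LK LD1_c12 LD2_c30 LD3_c1)) :=
  Lgr Lrot163 (Lpe (f82926 IH) (Lpe (f82925 IH) (Lpe (K51.f82899 IH) (Lpe (f72028 IH) (Lpr_ct (K4.f82893 IH) (Lpe (K11.f82680 IH) (Lpe (K24.f82682 IH) (Lpr_bt (K41.f82927 IH) (Lpe (f82928 IH) (Lpe (f82929 IH) (Lpn (LP (LK LD1_c12 LD2_c30 LD3_c1)))))))))))))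
theorem f82963 : Led Lsl_ct (LP (LK LD1_c11 LD2_c38 LD3_c55)) = (LP (LK LD1_c12 LD2_c30 LD3_c1)) :=
  Lgr Lrot59 (Lpr_cf (f82930 IH) (Lpn (LP (LK LD1_c12 LD2_c30 LD3_c1))))
theorem f641818 : Led Lsl_ft (LP (LK LD1_c12 LD2_c23 LD3_c17)) = (LP (LK LD1_c11 LD2_c38 LD3_c55)) :=
  Lgr Lrot4 (Lpe (f112501 IH) (Lpr_ff (f641811 IH) (Lpe (f82963 IH) (Lpn (LP (LK LD1_c11 LD2_c38 LD3_c55))))))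
theorem f641822 : Led Lsl_ff (LP (LK LD1_c12 LD2_c23 LD3_c17)) = (LP (LK LD1_c11 LD2_c38 LD3_c55)) :=
  Lgr Lrot3 (Lpr_ft (f641818 IH) (Lpn (LP (LK LD1_c11 LD2_c38 LD3_c55))))
theorem f710973 : Led Lsl_gt (LP (LK LD1_c11 LD2_c38 LD3_c55)) = (LP (LK LD1_c5 LD2_c56 LD3_c54)) :=
  Lgr Lrot5 (Lpe (f641822 IH) (Lpr_at (f428380 IH) (Lpr_gf (f710971 IH) (Lpn (LP (LK LD1_c5 LD2_c56 LD3_c54))))))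
theorem f505662 : Led Lsl_ft (LP (LK LD1_c5 LD2_c52 LD3_c43)) = (LP (LK LD1_c6 LD2_c30 LD3_c21)) :=
  Lgr Lrot101 (Lpe (K41.f500320 IH) (Lpr_ff (K41.f505659 IH) (Lpe (K41.f505661 IH) (Lpn (LP (LK LD1_c6 LD2_c30 LD3_c21))))))
theorem f505706 : Led Lsl_gt (LP (LK LD1_c5 LD2_c52 LD3_c43)) = (LP (LK LD1_c6 LD2_c30 LD3_c20)) :=
  Lgr Lrot5 (Lpr_ft (f505662 IH) (Lpr_at (K41.f505661 IH) (Lpe (f82928 IH) (Lpn (LP (LK LD1_c6 LD2_c30 LD3_c20))))))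
theorem f641136 : Led Lsl_ct (LP (LK LD1_c2 LD2_c54 LD3_c44)) = (LP (LK LD1_c5 LD2_c56 LD3_c54)) :=
  Lre_c IH (LK LD1_c2 LD2_c54 LD3_c44) (LK LD1_c5 LD2_c56 LD3_c54) Lrfl Lrfl
theorem f641135 : Led Lsl_bt (LP (LK LD1_c2 LD2_c54 LD3_c44)) = (LP (LK LD1_c5 LD2_c56 LD3_c53)) :=
  Lre_b IH (LK LD1_c2 LD2_c54 LD3_c44) (LK LD1_c5 LD2_c56 LD3_c53) Lrfl Lrfl
theorem f710979 : Led Lsl_gf (LP (LK LD1_c5 LD2_c58 LD3_c1)) = (LP (LK LD1_c5 LD2_c56 LD3_c53)) :=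
  Lgr Lrot181 (Lpr_ct (K42.f427036 IH) (Lpr_gt (K45.f642526 IH) (Lpe (K41.f505246 IH) (Lpe (K41.f505237 IH) (Lpr_gt (f505706 IH) (Lpe (f82929 IH) (Lpe (f82930 IH) (Lpr_gt (f710973 IH) (Lpe (f641136 IH) (Lpr_bt (f641135 IH) (Lpn (LP (LK LD1_c5 LD2_c56 LD3_c53)))))))))))))
theorem f426143 : Led Lsl_ft (LP (LK LD1_c5 LD2_c58 LD3_c56)) = (LP (LK LD1_c2 LD2_c55 LD3_c52)) :=
  Lre_f IH (LK LD1_c5 LD2_c58 LD3_c56) (LK LD1_c2 LD2_c55 LD3_c52) Lrfl Lrfl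
theorem f710981 : Led Lsl_gt (LP (LK LD1_c5 LD2_c58 LD3_c56)) = (LP (LK LD1_c5 LD2_c56 LD3_c53)) :=
  Lgr Lrot5 (Lpr_ft (f426143 IH) (Lpr_at (K42.f426006 IH) (Lpr_gf (f710979 IH) (Lpn (LP (LK LD1_c5 LD2_c56 LD3_c53))))))
theorem f139040 : Led Lsl_ct (LP (LK LD1_c9 LD2_c47 LD3_c57)) = (LP (LK LD1_c4 LD2_c58 LD3_c46)) :=
  Lre_c IH (LK LD1_c9 LD2_c47 LD3_c57) (LK LD1_c4 LD2_c58 LD3_c46) Lrfl Lrfl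
theorem f82944 : Led Lsl_ct (LP (LK LD1_c6 LD2_c30 LD3_c2)) = (LP (LK LD1_c12 LD2_c29 LD3_c42)) :=
  Lre_c IH (LK LD1_c6 LD2_c30 LD3_c2) (LK LD1_c12 LD2_c29 LD3_c42) Lrfl Lrfl
theorem f642256 : Led Lsl_ff (LP (LK LD1_c9 LD2_c47 LD3_c57)) = (LP (LK LD1_c12 LD2_c29 LD3_c42)) :=
  Lgr Lrot23 (Lpr_ct (f139040 IH) (Lpr_ft (K45.f642250 IH) (Lpr_ct (f82944 IH) (Lpn (LP (LK LD1_c12 LD2_c29 LD3_c42))))))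
theorem f163055 : Led Lsl_at (LP (LK LD1_c9 LD2_c47 LD3_c57)) = (LP (LK LD1_c4 LD2_c59 LD3_c2)) :=
  Lre_a IH (LK LD1_c9 LD2_c47 LD3_c57) (LK LD1_c4 LD2_c59 LD3_c2) Lrfl Lrfl
theorem f75376 : Led Lsl_gt (LP (LK LD1_c9 LD2_c48 LD3_c31)) = (LP (LK LD1_c4 LD2_c59 LD3_c2)) :=
  Lre_g IH (LK LD1_c9 LD2_c48 LD3_c31) (LK LD1_c4 LD2_c59 LD3_c2) Lrfl Lrfl
theorem f642310 : Led Lsl_gf (LP (LK LD1_c9 LD2_c48 LD3_c31)) = (LP (LK LD1_c12 LD2_c29 LD3_c42)) :=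
  Lgr Lrot47 (Lpr_gt (f75376 IH) (Lpe (f163055 IH) (Lpr_ff (f642256 IH) (Lpn (LP (LK LD1_c12 LD2_c29 LD3_c42))))))
theorem f82943 : Led Lsl_bt (LP (LK LD1_c5 LD2_c56 LD3_c53)) = (LP (LK LD1_c2 LD2_c54 LD3_c44)) :=
  Lre_b IH (LK LD1_c5 LD2_c56 LD3_c53) (LK LD1_c2 LD2_c54 LD3_c44) Lrfl Lrfl
theorem f642314 : Led Lsl_cf (LP (LK LD1_c9 LD2_c48 LD3_c31)) = (LP (LK LD1_c5 LD2_c56 LD3_c53)) :=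
  Lgr Lrot163 (Lpr_gf (f642310 IH) (Lpe (f82944 IH) (Lpe (K45.f82938 IH) (Lpe (K45.f82937 IH) (Lpr_ct (K41.f82936 IH) (Lpe (K11.f13558 IH) (Lpe (K4.f82893 IH) (Lpr_bt (f72028 IH) (Lpe (f82942 IH) (Lpe (f82943 IH) (Lpn (LP (LK LD1_c5 LD2_c56 LD3_c53)))))))))))))
theorem f636068 : Led Lsl_ct (LP (LK LD1_c4 LD2_c59 LD3_c2)) = (LP (LK LD1_c2 LD2_c27 LD3_c25)) :=
  Lre_c IH (LK LD1_c4 LD2_c59 LD3_c2) (LK LD1_c2 LD2_c27 LD3_c25) Lrfl Lrfl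
theorem f616243 : Led Lsl_dt (LP (LK LD1_c4 LD2_c59 LD3_c4)) = (LP (LK LD1_c2 LD2_c27 LD3_c25)) :=
  Lre_d IH (LK LD1_c4 LD2_c59 LD3_c4) (LK LD1_c2 LD2_c27 LD3_c25) Lrfl Lrfl
theorem f642290 : Led Lsl_ct (LP (LK LD1_c9 LD2_c48 LD3_c38)) = (LP (LK LD1_c4 LD2_c59 LD3_c4)) :=
  Lre_c IH (LK LD1_c9 LD2_c48 LD3_c38) (LK LD1_c4 LD2_c59 LD3_c4) Lrfl Lrfl
theorem f710995 : Led Lsl_gt (LP (LK LD1_c11 LD2_c42 LD3_c18)) = (LP (LK LD1_c11 LD2_c39 LD3_c11)) :=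
  Lgr Lrot9 (Lpe (K40.f426138 IH) (Lpr_gt (f710981 IH) (Lpe (f642314 IH) (Lpr_gt (f75376 IH) (Lpr_ct (f636068 IH) (Lpe (f616243 IH) (Lpe (f642290 IH) (Lpe (K48.f618546 IH) (Lpr_cf (K48.f669691 IH) (Lpn (LP (LK LD1_c11 LD2_c39 LD3_c11))))))))))))
theorem f72599 : Led Lsl_gt (LP (LK LD1_c2 LD2_c55 LD3_c21)) = (LP (LK LD1_c5 LD2_c57 LD3_c59)) :=
  Lre_g IH (LK LD1_c2 LD2_c55 LD3_c21) (LK LD1_c5 LD2_c57 LD3_c59) Lrfl Lrfl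
theorem f426150 : Led Lsl_gt (LP (LK LD1_c5 LD2_c57 LD3_c59)) = (LP (LK LD1_c5 LD2_c57 LD3_c44)) :=
  Lgr Lrot46 (Lpe (f72599 IH) (Lpr_ft (K24.f426147 IH) (Lpr_at (K24.f426140 IH) (Lpn (LP (LK LD1_c5 LD2_c57 LD3_c44))))))
theorem f72598 : Led Lsl_et (LP (LK LD1_c1 LD2_c23 LD3_c37)) = (LP (LK LD1_c2 LD2_c55 LD3_c21)) :=
  Lre_e IH (LK LD1_c1 LD2_c23 LD3_c37) (LK LD1_c2 LD2_c55 LD3_c21) Lrfl Lrfl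
theorem f643143 : Led Lsl_et (LP (LK LD1_c9 LD2_c13 LD3_c36)) = (LP (LK LD1_c5 LD2_c57 LD3_c59)) :=
  Lgr Lrot122 (Lpr_dt (K45.f507816 IH) (Lpqs (K42.f643138 IH) (Lpe (K42.f634115 IH) (Lpe (K42.f559440 IH) (Lpr_et (K28.f56876 IH) (Lpe (K6.f72576 IH) (Lpr_dt (K6.f72575 IH) (Lpr_gt (K6.f72574 IH) (Lpe (K2.f72473 IH) (Lpr_et (f72598 IH) (Lpr_gt (f72599 IH) (Lpn (LP (LK LD1_c5 LD2_c57 LD3_c59))))))))))))))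
theorem f559438 : Led Lsl_gt (LP (LK LD1_c9 LD2_c29 LD3_c54)) = (LP (LK LD1_c6 LD2_c0 LD3_c26)) :=
  Lgr Lrot46 (Lpe (K46.f56916 IH) (Lpr_ft (K42.f56912 IH) (Lpr_at (K42.f559428 IH) (Lpn (LP (LK LD1_c6 LD2_c0 LD3_c26))))))
theorem f76125 : Led Lsl_et (LP (LK LD1_c17 LD2_c31 LD3_c7)) = (LP (LK LD1_c9 LD2_c29 LD3_c54)) :=
  Lre_e IH (LK LD1_c17 LD2_c31 LD3_c7) (LK LD1_c9 LD2_c29 LD3_c54) Lrfl Lrfl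
theorem f710999 : Led Lsl_dt (LP (LK LD1_c17 LD2_c31 LD3_c7)) = (LP (LK LD1_c11 LD2_c39 LD3_c11)) :=
  Lgr Lrot37 (Lpr_et (f76125 IH) (Lpr_gt (f559438 IH) (Lpr_dt (K42.f501947 IH) (Lpr_gt (K50.f634116 IH) (Lpq (K42.f643138 IH) (Lpe (K45.f507816 IH) (Lpr_et (f643143 IH) (Lpr_gt (f426150 IH) (Lpe (K24.f426130 IH) (Lpr_dt (K40.f426138 IH) (Lpr_gt (f710995 IH) (Lpn (LP (LK LD1_c11 LD2_c39 LD3_c11))))))))))))))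
theorem f428291 : Led Lsl_ft (LP (LK LD1_c11 LD2_c42 LD3_c18)) = (LP (LK LD1_c5 LD2_c58 LD3_c55)) :=
  Lre_f IH (LK LD1_c11 LD2_c42 LD3_c18) (LK LD1_c5 LD2_c58 LD3_c55) Lrfl Lrfl
theorem f539449 : Led Lsl_at (LP (LK LD1_c5 LD2_c58 LD3_c55)) = (LP (LK LD1_c6 LD2_c1 LD3_c30)) :=
  Lgr Lrot100 (Lpr_af (K40.f539447 IH) (Lpn (LP (LK LD1_c6 LD2_c1 LD3_c30))))
theorem f710997 : Led Lsl_gf (LP (LK LD1_c6 LD2_c1 LD3_c30)) = (LP (LK LD1_c11 LD2_c39 LD3_c11)) :=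
  Lgr Lrot76 (Lpe (f539449 IH) (Lpe (f428291 IH) (Lpr_gt (f710995 IH) (Lpn (LP (LK LD1_c11 LD2_c39 LD3_c11))))))
theorem f539456 : Led Lsl_dt (LP (LK LD1_c5 LD2_c58 LD3_c1)) = (LP (LK LD1_c6 LD2_c1 LD3_c30)) :=
  Lgr Lrot44 (Lpe (K42.f426006 IH) (Lpe (K50.f427043 IH) (Lpr_af (K40.f539447 IH) (Lpn (LP (LK LD1_c6 LD2_c1 LD3_c30))))))
theorem f161314 : Led Lsl_et (LP (LK LD1_c5 LD2_c57 LD3_c37)) = (LP (LK LD1_c2 LD2_c55 LD3_c8)) :=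
  Lre_e IH (LK LD1_c5 LD2_c57 LD3_c37) (LK LD1_c2 LD2_c55 LD3_c8) Lrfl Lrfl
theorem f414336 : Led Lsl_bt (LP (LK LD1_c2 LD2_c17 LD3_c32)) = (LP (LK LD1_c4 LD2_c40 LD3_c53)) :=
  Lre_b IH (LK LD1_c2 LD2_c17 LD3_c32) (LK LD1_c4 LD2_c40 LD3_c53) Lrfl Lrfl
theorem f414418 : Led Lsl_gt (LP (LK LD1_c4 LD2_c40 LD3_c53)) = (LP (LK LD1_c9 LD2_c17 LD3_c14)) :=
  Lre_g IH (LK LD1_c4 LD2_c40 LD3_c53) (LK LD1_c9 LD2_c17 LD3_c14) Lrfl Lrfl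
theorem f706004 : Led Lsl_bf (LP (LK LD1_c9 LD2_c17 LD3_c14)) = (LP (LK LD1_c11 LD2_c6 LD3_c30)) :=
  Lgr Lrot34 (Lpe (f414418 IH) (Lpe (f414336 IH) (Lpr_ct (K24.f22869 IH) (Lpe (K17.f414360 IH) (Lpe (K17.f413643 IH) (Lpr_gf (K16.f413636 IH) (Lpe (K50.f73661 IH) (Lpe (K50.f562081 IH) (Lpr_gf (K50.f706000 IH) (Lpe (K50.f381354 IH) (Lpn (LP (LK LD1_c11 LD2_c6 LD3_c30)))))))))))))
theorem f454602 : Led Lsl_ct (LP (LK LD1_c21 LD2_c38 LD3_c48)) = (LP (LK LD1_c12 LD2_c32 LD3_c45)) :=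
  Lre_c IH (LK LD1_c21 LD2_c38 LD3_c48) (LK LD1_c12 LD2_c32 LD3_c45) Lrfl Lrfl
theorem f105144 : Led Lsl_gf (LP (LK LD1_c4 LD2_c48 LD3_c46)) = (LP (LK LD1_c5 LD2_c58 LD3_c14)) :=
  Lgr Lrot147 (Lpr_ct (K37.f105092 IH) (Lpe (K4.f104909 IH) (Lpr_ct (K2.f74791 IH) (Lpe (K32.f74803 IH) (Lpe (K2.f74713 IH) (Lpe (K2.f74552 IH) (Lpe (K4.f72531 IH) (Lpe (K32.f26531 IH) (Lpe (K32.f74279 IH) (Lpn (LP (LK LD1_c5 LD2_c58 LD3_c14))))))))))))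
theorem f105111 : Led Lsl_et (LP (LK LD1_c2 LD2_c22 LD3_c16)) = (LP (LK LD1_c4 LD2_c48 LD3_c47)) :=
  Lre_e IH (LK LD1_c2 LD2_c22 LD3_c16) (LK LD1_c4 LD2_c48 LD3_c47) Lrfl Lrfl
theorem f105151 : Led Lsl_et (LP (LK LD1_c17 LD2_c31 LD3_c24)) = (LP (LK LD1_c9 LD2_c30 LD3_c3)) :=
  Lre_e IH (LK LD1_c17 LD2_c31 LD3_c24) (LK LD1_c9 LD2_c30 LD3_c3) Lrfl Lrfl
theorem f105152 : Led Lsl_et (LP (LK LD1_c2 LD2_c55 LD3_c56)) = (LP (LK LD1_c1 LD2_c23 LD3_c54)) :=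
  Lre_e IH (LK LD1_c2 LD2_c55 LD3_c56) (LK LD1_c1 LD2_c23 LD3_c54) Lrfl Lrfl
theorem f105153 : Led Lsl_dt (LP (LK LD1_c2 LD2_c55 LD3_c56)) = (LP (LK LD1_c5 LD2_c59 LD3_c3)) :=
  Lre_d IH (LK LD1_c2 LD2_c55 LD3_c56) (LK LD1_c5 LD2_c59 LD3_c3) Lrfl Lrfl
theorem f105154 : Led Lsl_gt (LP (LK LD1_c11 LD2_c42 LD3_c38)) = (LP (LK LD1_c5 LD2_c59 LD3_c3)) :=
  Lre_g IH (LK LD1_c11 LD2_c42 LD3_c38) (LK LD1_c5 LD2_c59 LD3_c3) Lrfl Lrfl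
theorem f105155 : Led Lsl_dt (LP (LK LD1_c17 LD2_c31 LD3_c24)) = (LP (LK LD1_c11 LD2_c42 LD3_c38)) :=
  Lgr Lrot136 (Lpr_et (f105151 IH) (Lpe (K42.f56950 IH) (Lpe (f105111 IH) (Lpr_dt (K8.f58888 IH) (Lpr_gf (f105144 IH) (Lpe (K32.f72616 IH) (Lpe (K32.f72615 IH) (Lpe (f105152 IH) (Lpr_dt (f105153 IH) (Lpe (f105154 IH) (Lpn (LP (LK LD1_c11 LD2_c42 LD3_c38)))))))))))))
theorem f105164 : Led Lsl_dt (LP (LK LD1_c5 LD2_c59 LD3_c3)) = (LP (LK LD1_c2 LD2_c55 LD3_c56)) :=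
  Lre_d IH (LK LD1_c5 LD2_c59 LD3_c3) (LK LD1_c2 LD2_c55 LD3_c56) Lrfl Lrfl
theorem f105165 : Led Lsl_ct (LP (LK LD1_c1 LD2_c23 LD3_c55)) = (LP (LK LD1_c2 LD2_c55 LD3_c56)) :=
  Lre_c IH (LK LD1_c1 LD2_c23 LD3_c55) (LK LD1_c2 LD2_c55 LD3_c56) Lrfl Lrfl
theorem f643222 : Led Lsl_gt (LP (LK LD1_c12 LD2_c32 LD3_c45)) = (LP (LK LD1_c9 LD2_c30 LD3_c8)) :=
  Lgr Lrot94 (Lpe (f454602 IH) (Lpr_gt (K46.f643220 IH) (Lpr_dt (f105155 IH) (Lpr_gt (f105154 IH) (Lpr_dt (f105164 IH) (Lpe (f105165 IH) (Lpe (K41.f105166 IH) (Lpe (K24.f105167 IH) (Lpe (K24.f452973 IH) (Lpn (LP (LK LD1_c9 LD2_c30 LD3_c8))))))))))))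
theorem f705301 : Led Lsl_df (LP (LK LD1_c9 LD2_c17 LD3_c14)) = (LP (LK LD1_c9 LD2_c30 LD3_c49)) :=
  Lgr Lrot168 (Lpe (f414418 IH) (Lpe (K2.f74565 IH) (Lpr_et (K2.f74564 IH) (Lpe (K2.f72460 IH) (Lpe (K24.f442631 IH) (Lpr_dt (K24.f76297 IH) (Lpe (K24.f105167 IH) (Lpe (K24.f452973 IH) (Lpe (f643222 IH) (Lpr_ef (K50.f705294 IH) (Lpn (LP (LK LD1_c9 LD2_c30 LD3_c49)))))))))))))
theorem f705305 : Led Lsl_dt (LP (LK LD1_c9 LD2_c17 LD3_c14)) = (LP (LK LD1_c9 LD2_c30 LD3_c49)) :=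
  Lgr Lrot42 (Lpr_df (f705301 IH) (Lpn (LP (LK LD1_c9 LD2_c30 LD3_c49))))
theorem f705384 : Led Lsl_bt (LP (LK LD1_c9 LD2_c30 LD3_c49)) = (LP (LK LD1_c17 LD2_c32 LD3_c0)) :=
  Lre_b IH (LK LD1_c9 LD2_c30 LD3_c49) (LK LD1_c17 LD2_c32 LD3_c0) Lrfl Lrfl
theorem f706008 : Led Lsl_dt (LP (LK LD1_c17 LD2_c32 LD3_c0)) = (LP (LK LD1_c11 LD2_c6 LD3_c30)) :=
  Lgr Lrot79 (Lpe (f705384 IH) (Lpe (f705305 IH) (Lpr_bf (f706004 IH) (Lpn (LP (LK LD1_c11 LD2_c6 LD3_c30))))))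
theorem f500745 : Led Lsl_et (LP (LK LD1_c9 LD2_c30 LD3_c32)) = (LP (LK LD1_c4 LD2_c48 LD3_c60)) :=
  Lre_e IH (LK LD1_c9 LD2_c30 LD3_c32) (LK LD1_c4 LD2_c48 LD3_c60) Lrfl Lrfl
def v13837 : LQ := Led Lsl_at (LP (LK LD1_c4 LD2_c48 LD3_c59))
theorem f705170 : Led Lsl_at (LP (LK LD1_c4 LD2_c48 LD3_c59)) = v13837 :=
  Lrfl
theorem f705171 : Led Lsl_af (LP (LK LD1_c4 LD2_c48 LD3_c59)) = v13837 :=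
  Lgr Lrot0 (Lpr_at (f705170 IH) (Lpn v13837))
theorem f705173 : Led Lsl_ft (LP (LK LD1_c4 LD2_c48 LD3_c60)) = v13837 :=
  Lgr Lrot2 (Lpr_gt (K17.f77002 IH) (Lpr_gt (K2.f74569 IH) (Lpr_af (f705171 IH) (Lpn v13837))))
theorem f705174 : Led Lsl_ff (LP (LK LD1_c4 LD2_c48 LD3_c60)) = v13837 :=
  Lgr Lrot3 (Lpr_ft (f705173 IH) (Lpn v13837))
def v13850 : LQ := Led Lsl_at (LP (LK LD1_c4 LD2_c49 LD3_c4))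
theorem f705269 : Led Lsl_at (LP (LK LD1_c4 LD2_c49 LD3_c4)) = v13850 :=
  Lrfl
theorem f705272 : Led Lsl_ef K50.v4483 = v13850 :=
  Lgr Lrot20 (Lpe (K50.f634122 IH) (Lpr_et (K50.f634127 IH) (Lpr_at (f705269 IH) (Lpn v13850))))
theorem f75902 : Led Lsl_dt (LP (LK LD1_c9 LD2_c30 LD3_c48)) = (LP (LK LD1_c4 LD2_c49 LD3_c4)) :=
  Lre_d IH (LK LD1_c9 LD2_c30 LD3_c48) (LK LD1_c4 LD2_c49 LD3_c4) Lrfl Lrfl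
theorem f705307 : Led Lsl_ft (LP (LK LD1_c9 LD2_c17 LD3_c14)) = (LP (LK LD1_c9 LD2_c30 LD3_c48)) :=
  Lgr Lrot54 (Lpr_df (f705301 IH) (Lpe (K50.f634150 IH) (Lpe (f75902 IH) (Lpn (LP (LK LD1_c9 LD2_c30 LD3_c48))))))
theorem f76188 : Led Lsl_gt (LP (LK LD1_c9 LD2_c17 LD3_c14)) = (LP (LK LD1_c17 LD2_c12 LD3_c13)) :=
  Lre_g IH (LK LD1_c9 LD2_c17 LD3_c14) (LK LD1_c17 LD2_c12 LD3_c13) Lrfl Lrfl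
theorem f705313 : Led Lsl_af (LP (LK LD1_c9 LD2_c17 LD3_c15)) = (LP (LK LD1_c9 LD2_c30 LD3_c48)) :=
  Lgr Lrot31 (Lpe (K2.f74597 IH) (Lpe (f76188 IH) (Lpr_ft (f705307 IH) (Lpn (LP (LK LD1_c9 LD2_c30 LD3_c48))))))
theorem f74583 : Led Lsl_dt (LP (LK LD1_c9 LD2_c17 LD3_c15)) = (LP (LK LD1_c9 LD2_c30 LD3_c28)) :=
  Lgr Lrot42 (Lpr_df (K2.f74571 IH) (Lpn (LP (LK LD1_c9 LD2_c30 LD3_c28))))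
theorem f75894 : Led Lsl_dt (LP (LK LD1_c4 LD2_c49 LD3_c4)) = (LP (LK LD1_c9 LD2_c30 LD3_c48)) :=
  Lre_d IH (LK LD1_c4 LD2_c49 LD3_c4) (LK LD1_c9 LD2_c30 LD3_c48) Lrfl Lrfl
theorem f705270 : Led Lsl_af (LP (LK LD1_c4 LD2_c49 LD3_c4)) = v13850 :=
  Lgr Lrot0 (Lpr_at (f705269 IH) (Lpn v13850))
theorem f705319 : (LP (LK LD1_c9 LD2_c30 LD3_c28)) = v13850 :=
  (Llr Lrot44 (Lpe (f74583 IH) (Lpr_af (f705313 IH) (Lpe (f75894 IH) (Lpr_af (f705270 IH) (Lpn v13850)))))).symm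
theorem f705322 : K50.v4483 = (LP (LK LD1_c4 LD2_c48 LD3_c59)) :=
  Lefun (Lecon (Lfl_ef (f705272 IH)) (f705319 IH).symm) (K2.f74570 IH)
theorem f705323 : (LP (LK LD1_c2 LD2_c22 LD3_c22)) = v13837 :=
  Lefun (Lecon (Lfl_af (K50.f634122 IH)) (f705322 IH)) (f705170 IH)
theorem f705342 : (LP (LK LD1_c4 LD2_c48 LD3_c60)) = K50.v4484 :=
  Lefun (Lecon (Lfl_ff (f705174 IH)) (f705323 IH).symm) (K50.f634141 IH)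
theorem f705361 : K50.v13853 = (LP (LK LD1_c9 LD2_c30 LD3_c32)) :=
  Lefun (Lecon (K50.f705291 IH) (f705342 IH).symm) (Lfl_et (f500745 IH))
theorem f446155 : Led Lsl_bt (LP (LK LD1_c21 LD2_c38 LD3_c47)) = (LP (LK LD1_c12 LD2_c32 LD3_c45)) :=
  Lre_b IH (LK LD1_c21 LD2_c38 LD3_c47) (LK LD1_c12 LD2_c32 LD3_c45) Lrfl Lrfl
theorem f415115 : Led Lsl_bt (LP (LK LD1_c9 LD2_c30 LD3_c32)) = (LP (LK LD1_c17 LD2_c31 LD3_c51)) :=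
  Lre_b IH (LK LD1_c9 LD2_c30 LD3_c32) (LK LD1_c17 LD2_c31 LD3_c51) Lrfl Lrfl
theorem f705366 : Led Lsl_ff (LP (LK LD1_c21 LD2_c38 LD3_c47)) = (LP (LK LD1_c17 LD2_c31 LD3_c51)) :=
  Lgr Lrot25 (Lpr_bt (f446155 IH) (Lpr_ft (K50.f705293 IH) (Lpqs (f705361 IH) (Lpr_bt (f415115 IH) (Lpn (LP (LK LD1_c17 LD2_c31 LD3_c51)))))))
theorem f705378 : Led Lsl_ft (LP (LK LD1_c21 LD2_c38 LD3_c47)) = (LP (LK LD1_c17 LD2_c31 LD3_c51)) :=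
  Lgr Lrot48 (Lpr_ff (f705366 IH) (Lpn (LP (LK LD1_c17 LD2_c31 LD3_c51))))
theorem f414220 : Led Lsl_et (LP (LK LD1_c17 LD2_c31 LD3_c51)) = (LP (LK LD1_c9 LD2_c30 LD3_c29)) :=
  Lre_e IH (LK LD1_c17 LD2_c31 LD3_c51) (LK LD1_c9 LD2_c30 LD3_c29) Lrfl Lrfl
def v13841 : LQ := Led Lsl_ft (LP (LK LD1_c4 LD2_c49 LD3_c1))
theorem f705194 : Led Lsl_ft (LP (LK LD1_c4 LD2_c49 LD3_c1)) = v13841 :=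
  Lrfl
theorem f705197 : Led Lsl_ff (LP (LK LD1_c4 LD2_c49 LD3_c1)) = v13841 :=
  Lgr Lrot3 (Lpr_ft (f705194 IH) (Lpn v13841))
theorem f705198 : Led Lsl_bt K50.v4484 = v13841 :=
  Lgr Lrot35 (Lpe (K50.f634141 IH) (Lpe (K17.f413589 IH) (Lpr_ff (f705197 IH) (Lpn v13841))))
theorem f414211 : Led Lsl_bt (LP (LK LD1_c4 LD2_c48 LD3_c60)) = (LP (LK LD1_c9 LD2_c30 LD3_c29)) :=
  Lre_b IH (LK LD1_c4 LD2_c48 LD3_c60) (LK LD1_c9 LD2_c30 LD3_c29) Lrfl Lrfl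
theorem f705347 : v13841 = (LP (LK LD1_c9 LD2_c30 LD3_c29)) :=
  Lefun (Lecon (f705198 IH) (f705342 IH).symm) (f414211 IH)
theorem f705188 : Led Lsl_et (LP (LK LD1_c4 LD2_c49 LD3_c1)) = (LP (LK LD1_c9 LD2_c30 LD3_c40)) :=
  Lre_e IH (LK LD1_c4 LD2_c49 LD3_c1) (LK LD1_c9 LD2_c30 LD3_c40) Lrfl Lrfl
theorem f705199 : Led Lsl_ft (LP (LK LD1_c9 LD2_c30 LD3_c40)) = (LP (LK LD1_c17 LD2_c32 LD3_c0)) :=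
  Lre_f IH (LK LD1_c9 LD2_c30 LD3_c40) (LK LD1_c17 LD2_c32 LD3_c0) Lrfl Lrfl
theorem f705382 : Led Lsl_ef (LP (LK LD1_c21 LD2_c38 LD3_c47)) = (LP (LK LD1_c17 LD2_c32 LD3_c0)) :=
  Lgr Lrot21 (Lpr_ft (f705378 IH) (Lpr_et (f414220 IH) (Lpq (f705347 IH) (Lpe (f705197 IH) (Lpr_et (f705188 IH) (Lpr_ft (f705199 IH) (Lpn (LP (LK LD1_c17 LD2_c32 LD3_c0)))))))))
theorem f711007 : Led Lsl_gf (LP (LK LD1_c17 LD2_c31 LD3_c7)) = (LP (LK LD1_c21 LD2_c38 LD3_c47)) :=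
  Lgr Lrot138 (Lpr_dt (f710999 IH) (Lpe (f710997 IH) (Lpe (f539456 IH) (Lpr_et (K24.f426021 IH) (Lpr_gt (K36.f426112 IH) (Lpe (f161314 IH) (Lpr_dt (K50.f560131 IH) (Lpr_gt (K50.f381326 IH) (Lpe (f706008 IH) (Lpe (f705382 IH) (Lpn (LP (LK LD1_c21 LD2_c38 LD3_c47)))))))))))))
theorem f643490 : Led Lsl_et (LP (LK LD1_c9 LD2_c29 LD3_c54)) = (LP (LK LD1_c17 LD2_c31 LD3_c7)) :=
  Lre_e IH (LK LD1_c9 LD2_c29 LD3_c54) (LK LD1_c17 LD2_c31 LD3_c7) Lrfl Lrfl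
theorem f643491 : Led Lsl_at (LP (LK LD1_c17 LD2_c31 LD3_c7)) = (LP (LK LD1_c11 LD2_c45 LD3_c12)) :=
  Lgr Lrot80 (Lpe (f643490 IH) (Lpr_af (K46.f643482 IH) (Lpe (K50.f76133 IH) (Lpn (LP (LK LD1_c11 LD2_c45 LD3_c12))))))
theorem f643986 : Led Lsl_ft (LP (LK LD1_c20 LD2_c42 LD3_c30)) = (LP (LK LD1_c17 LD2_c31 LD3_c7)) :=
  Lgr Lrot2 (Lpr_gt (K50.f643984 IH) (Lpr_gt (K50.f618467 IH) (Lpe (f643491 IH) (Lpn (LP (LK LD1_c17 LD2_c31 LD3_c7))))))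
theorem f618466 : Led Lsl_ft (LP (LK LD1_c11 LD2_c45 LD3_c12)) = (LP (LK LD1_c20 LD2_c46 LD3_c28)) :=
  Lre_f IH (LK LD1_c11 LD2_c45 LD3_c12) (LK LD1_c20 LD2_c46 LD3_c28) Lrfl Lrfl
theorem f644097 : Led Lsl_af (LP (LK LD1_c20 LD2_c42 LD3_c30)) = (LP (LK LD1_c20 LD2_c46 LD3_c28)) :=
  Lgr Lrot45 (Lpr_ft (f643986 IH) (Lpr_at (f643491 IH) (Lpr_ft (f618466 IH) (Lpn (LP (LK LD1_c20 LD2_c46 LD3_c28))))))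
theorem f644101 : Led Lsl_at (LP (LK LD1_c20 LD2_c42 LD3_c30)) = (LP (LK LD1_c20 LD2_c46 LD3_c28)) :=
  Lgr Lrot100 (Lpr_af (f644097 IH) (Lpn (LP (LK LD1_c20 LD2_c46 LD3_c28))))
theorem f644099 : Led Lsl_ff (LP (LK LD1_c20 LD2_c42 LD3_c30)) = (LP (LK LD1_c17 LD2_c31 LD3_c7)) :=
  Lgr Lrot3 (Lpr_ft (f643986 IH) (Lpn (LP (LK LD1_c17 LD2_c31 LD3_c7))))
theorem f618465 : Led Lsl_ft (LP (LK LD1_c20 LD2_c46 LD3_c28)) = (LP (LK LD1_c11 LD2_c45 LD3_c12)) :=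
  Lre_f IH (LK LD1_c20 LD2_c46 LD3_c28) (LK LD1_c11 LD2_c45 LD3_c12) Lrfl Lrfl
theorem f644103 : Led Lsl_af (LP (LK LD1_c17 LD2_c31 LD3_c7)) = (LP (LK LD1_c11 LD2_c45 LD3_c12)) :=
  Lgr Lrot45 (Lpe (f644099 IH) (Lpr_at (f644101 IH) (Lpr_ft (f618465 IH) (Lpn (LP (LK LD1_c11 LD2_c45 LD3_c12))))))
theorem f711009 : Led Lsl_gt (LP (LK LD1_c20 LD2_c46 LD3_c28)) = (LP (LK LD1_c21 LD2_c38 LD3_c47)) :=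
  Lgr Lrot5 (Lpr_ft (f618465 IH) (Lpe (f644103 IH) (Lpr_gf (f711007 IH) (Lpn (LP (LK LD1_c21 LD2_c38 LD3_c47))))))
theorem f438656 : Led Lsl_ct (LP (LK LD1_c6 LD2_c21 LD3_c39)) = (LP (LK LD1_c12 LD2_c16 LD3_c52)) :=
  Lre_c IH (LK LD1_c6 LD2_c21 LD3_c39) (LK LD1_c12 LD2_c16 LD3_c52) Lrfl Lrfl
theorem f438660 : Led Lsl_gt (LP (LK LD1_c21 LD2_c22 LD3_c8)) = (LP (LK LD1_c12 LD2_c16 LD3_c52)) :=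
  Lre_g IH (LK LD1_c21 LD2_c22 LD3_c8) (LK LD1_c12 LD2_c16 LD3_c52) Lrfl Lrfl
theorem f454599 : Led Lsl_cf (LP (LK LD1_c21 LD2_c22 LD3_c8)) = (LP (LK LD1_c21 LD2_c38 LD3_c47)) :=
  Lgr Lrot160 (Lpr_gt (f438660 IH) (Lpe (f438656 IH) (Lpr_bt (K32.f438461 IH) (Lpr_gt (K32.f454595 IH) (Lpr_ct (K24.f446136 IH) (Lpr_gt (K24.f446151 IH) (Lpe (K0.f23786 IH) (Lpr_bt (K46.f23840 IH) (Lpr_gt (K46.f446107 IH) (Lpe (f446155 IH) (Lpn (LP (LK LD1_c21 LD2_c38 LD3_c47)))))))))))))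
theorem f22534 : Led Lsl_ct (LP (LK LD1_c11 LD2_c32 LD3_c0)) = (LP (LK LD1_c5 LD2_c52 LD3_c53)) :=
  Lre_c IH (LK LD1_c11 LD2_c32 LD3_c0) (LK LD1_c5 LD2_c52 LD3_c53) Lrfl Lrfl
theorem f539468 : Led Lsl_af (LP (LK LD1_c11 LD2_c42 LD3_c18)) = (LP (LK LD1_c11 LD2_c47 LD3_c37)) :=
  Lgr Lrot0 (Lpr_at (K40.f539459 IH) (Lpn (LP (LK LD1_c11 LD2_c47 LD3_c37))))
theorem f539483 : Led Lsl_ft (LP (LK LD1_c6 LD2_c1 LD3_c30)) = (LP (LK LD1_c11 LD2_c47 LD3_c37)) :=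
  Lre_f IH (LK LD1_c6 LD2_c1 LD3_c30) (LK LD1_c11 LD2_c47 LD3_c37) Lrfl Lrfl
theorem f539490 : Led Lsl_gt (LP (LK LD1_c6 LD2_c1 LD3_c30)) = (LP (LK LD1_c11 LD2_c47 LD3_c36)) :=
  Lre_g IH (LK LD1_c6 LD2_c1 LD3_c30) (LK LD1_c11 LD2_c47 LD3_c36) Lrfl Lrfl
theorem f539563 : Led Lsl_gf (LP (LK LD1_c11 LD2_c42 LD3_c18)) = (LP (LK LD1_c11 LD2_c47 LD3_c36)) :=
  Lgr Lrot76 (Lpr_af (f539468 IH) (Lpe (f539483 IH) (Lpr_gt (f539490 IH) (Lpn (LP (LK LD1_c11 LD2_c47 LD3_c36))))))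
theorem f711013 : Led Lsl_df (LP (LK LD1_c20 LD2_c46 LD3_c28)) = (LP (LK LD1_c11 LD2_c47 LD3_c36)) :=
  Lgr Lrot155 (Lpr_gt (f711009 IH) (Lpe (f454599 IH) (Lpr_gt (f438660 IH) (Lpr_ct (K32.f438659 IH) (Lpr_dt (K45.f438455 IH) (Lpe (f22534 IH) (Lpe (K42.f438661 IH) (Lpe (K42.f642906 IH) (Lpr_gf (f539563 IH) (Lpn (LP (LK LD1_c11 LD2_c47 LD3_c36))))))))))))
theorem f711019 : Led Lsl_ft (LP (LK LD1_c11 LD2_c42 LD3_c16)) = (LP (LK LD1_c11 LD2_c47 LD3_c36)) :=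
  Lgr Lrot54 (Lpr_df (K50.f618460 IH) (Lpe (f618465 IH) (Lpr_df (f711013 IH) (Lpn (LP (LK LD1_c11 LD2_c47 LD3_c36))))))
theorem f711025 : Led Lsl_af (LP (LK LD1_c11 LD2_c42 LD3_c15)) = (LP (LK LD1_c11 LD2_c47 LD3_c36)) :=
  Lgr Lrot31 (Lpe (K50.f428337 IH) (Lpe (K50.f150372 IH) (Lpr_ft (f711019 IH) (Lpn (LP (LK LD1_c11 LD2_c47 LD3_c36))))))
theorem f711001 : Led Lsl_af (LP (LK LD1_c11 LD2_c42 LD3_c16)) = (LP (LK LD1_c11 LD2_c39 LD3_c11)) :=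
  Lgr Lrot117 (Lpr_dt (K50.f618462 IH) (Lpe (f644103 IH) (Lpr_dt (f710999 IH) (Lpn (LP (LK LD1_c11 LD2_c39 LD3_c11))))))
theorem f711027 : Led Lsl_ft (LP (LK LD1_c11 LD2_c42 LD3_c15)) = (LP (LK LD1_c11 LD2_c39 LD3_c11)) :=
  Lgr Lrot101 (Lpr_af (f711025 IH) (Lpe (f711019 IH) (Lpr_af (f711001 IH) (Lpn (LP (LK LD1_c11 LD2_c39 LD3_c11))))))
theorem f539476 : Led Lsl_ct (LP (LK LD1_c20 LD2_c42 LD3_c29)) = (LP (LK LD1_c11 LD2_c42 LD3_c15)) :=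
  Lre_c IH (LK LD1_c20 LD2_c42 LD3_c29) (LK LD1_c11 LD2_c42 LD3_c15) Lrfl Lrfl
theorem f711029 : Led Lsl_ff (LP (LK LD1_c20 LD2_c42 LD3_c29)) = (LP (LK LD1_c17 LD2_c58 LD3_c53)) :=
  Lgr Lrot23 (Lpr_ct (f539476 IH) (Lpr_ft (f711027 IH) (Lpe (K48.f669691 IH) (Lpn (LP (LK LD1_c17 LD2_c58 LD3_c53))))))
theorem f562420 : Led Lsl_gt (LP (LK LD1_c9 LD2_c48 LD3_c38)) = (LP (LK LD1_c17 LD2_c58 LD3_c52)) :=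
  Lre_g IH (LK LD1_c9 LD2_c48 LD3_c38) (LK LD1_c17 LD2_c58 LD3_c52) Lrfl Lrfl
theorem f711033 : Led Lsl_at (LP (LK LD1_c20 LD2_c42 LD3_c29)) = (LP (LK LD1_c17 LD2_c58 LD3_c52)) :=
  Lgr Lrot26 (Lpr_ff (f711029 IH) (Lpr_gt (K48.f618546 IH) (Lpr_gt (f562420 IH) (Lpn (LP (LK LD1_c17 LD2_c58 LD3_c52))))))
theorem f428339 : Led Lsl_ct (LP (LK LD1_c11 LD2_c42 LD3_c15)) = (LP (LK LD1_c20 LD2_c42 LD3_c29)) :=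
  Lre_c IH (LK LD1_c11 LD2_c42 LD3_c15) (LK LD1_c20 LD2_c42 LD3_c29) Lrfl Lrfl
theorem f711039 : Led Lsl_cf (LP (LK LD1_c11 LD2_c47 LD3_c36)) = (LP (LK LD1_c17 LD2_c58 LD3_c52)) :=
  Lgr Lrot1 (Lpe (f711025 IH) (Lpr_ct (f428339 IH) (Lpr_at (f711033 IH) (Lpn (LP (LK LD1_c17 LD2_c58 LD3_c52))))))
theorem f711023 : Led Lsl_ff (LP (LK LD1_c11 LD2_c42 LD3_c16)) = (LP (LK LD1_c11 LD2_c47 LD3_c36)) :=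
  Lgr Lrot3 (Lpr_ft (f711019 IH) (Lpn (LP (LK LD1_c11 LD2_c47 LD3_c36))))
theorem f539465 : Led Lsl_ct (LP (LK LD1_c11 LD2_c42 LD3_c16)) = (LP (LK LD1_c20 LD2_c42 LD3_c31)) :=
  Lre_c IH (LK LD1_c11 LD2_c42 LD3_c16) (LK LD1_c20 LD2_c42 LD3_c31) Lrfl Lrfl
theorem f711045 : Led Lsl_ft (LP (LK LD1_c20 LD2_c42 LD3_c31)) = (LP (LK LD1_c17 LD2_c58 LD3_c52)) :=
  Lgr Lrot4 (Lpe (f539465 IH) (Lpr_ff (f711023 IH) (Lpr_cf (f711039 IH) (Lpn (LP (LK LD1_c17 LD2_c58 LD3_c52))))))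
theorem f498221 : Led Lsl_ft (LP (LK LD1_c4 LD2_c38 LD3_c2)) = (LP (LK LD1_c9 LD2_c11 LD3_c46)) :=
  Lre_f IH (LK LD1_c4 LD2_c38 LD3_c2) (LK LD1_c9 LD2_c11 LD3_c46) Lrfl Lrfl
theorem f700256 : Led Lsl_gt (LP (LK LD1_c4 LD2_c38 LD3_c2)) = (LP (LK LD1_c9 LD2_c11 LD3_c21)) :=
  Lgr Lrot5 (Lpr_ft (f498221 IH) (Lpr_at (K32.f498213 IH) (Lpr_gf (K50.f700254 IH) (Lpn (LP (LK LD1_c9 LD2_c11 LD3_c21))))))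
theorem f499286 : Led Lsl_ct (LP (LK LD1_c9 LD2_c11 LD3_c43)) = (LP (LK LD1_c4 LD2_c38 LD3_c2)) :=
  Lre_c IH (LK LD1_c9 LD2_c11 LD3_c43) (LK LD1_c4 LD2_c38 LD3_c2) Lrfl Lrfl
theorem f501929 : Led Lsl_gt (LP (LK LD1_c2 LD2_c56 LD3_c16)) = (LP (LK LD1_c4 LD2_c48 LD3_c58)) :=
  Lgr Lrot46 (Lpe (K51.f75820 IH) (Lpr_ft (K36.f452881 IH) (Lpr_at (K37.f501917 IH) (Lpn (LP (LK LD1_c4 LD2_c48 LD3_c58))))))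
theorem f502528 : Led Lsl_ft (LP (LK LD1_c9 LD2_c30 LD3_c15)) = (LP (LK LD1_c4 LD2_c48 LD3_c52)) :=
  Lre_f IH (LK LD1_c9 LD2_c30 LD3_c15) (LK LD1_c4 LD2_c48 LD3_c52) Lrfl Lrfl
theorem f502524 : Led Lsl_ct (LP (LK LD1_c4 LD2_c48 LD3_c52)) = (LP (LK LD1_c9 LD2_c30 LD3_c11)) :=
  Lre_c IH (LK LD1_c4 LD2_c48 LD3_c52) (LK LD1_c9 LD2_c30 LD3_c11) Lrfl Lrfl
theorem f669195 : Led Lsl_ff (LP (LK LD1_c11 LD2_c26 LD3_c22)) = (LP (LK LD1_c9 LD2_c30 LD3_c11)) :=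
  Lgr Lrot23 (Lpr_ct (K48.f669186 IH) (Lpr_ft (f502528 IH) (Lpr_ct (f502524 IH) (Lpn (LP (LK LD1_c9 LD2_c30 LD3_c11))))))
theorem f669207 : Led Lsl_ft (LP (LK LD1_c11 LD2_c26 LD3_c22)) = (LP (LK LD1_c9 LD2_c30 LD3_c11)) :=
  Lgr Lrot48 (Lpr_ff (f669195 IH) (Lpn (LP (LK LD1_c9 LD2_c30 LD3_c11))))
theorem f501737 : Led Lsl_af (LP (LK LD1_c7 LD2_c41 LD3_c56)) = (LP (LK LD1_c9 LD2_c30 LD3_c11)) :=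
  Lgr Lrot50 (Lpr_et (K41.f66386 IH) (Lpr_at (K36.f501731 IH) (Lpr_et (K8.f109403 IH) (Lpn (LP (LK LD1_c9 LD2_c30 LD3_c11))))))
theorem f66191 : Led Lsl_gt (LP (LK LD1_c3 LD2_c50 LD3_c34)) = (LP (LK LD1_c7 LD2_c42 LD3_c10)) :=
  Lre_g IH (LK LD1_c3 LD2_c50 LD3_c34) (LK LD1_c7 LD2_c42 LD3_c10) Lrfl Lrfl
theorem f66192 : Led Lsl_dt (LP (LK LD1_c7 LD2_c42 LD3_c10)) = (LP (LK LD1_c14 LD2_c31 LD3_c0)) :=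
  Lre_d IH (LK LD1_c7 LD2_c42 LD3_c10) (LK LD1_c14 LD2_c31 LD3_c0) Lrfl Lrfl
theorem f66322 : Led Lsl_dt (LP (LK LD1_c5 LD2_c47 LD3_c49)) = (LP (LK LD1_c11 LD2_c25 LD3_c22)) :=
  Lre_d IH (LK LD1_c5 LD2_c47 LD3_c49) (LK LD1_c11 LD2_c25 LD3_c22) Lrfl Lrfl
theorem f66323 : Led Lsl_gt (LP (LK LD1_c11 LD2_c25 LD3_c22)) = (LP (LK LD1_c11 LD2_c26 LD3_c36)) :=
  Lre_g IH (LK LD1_c11 LD2_c25 LD3_c22) (LK LD1_c11 LD2_c26 LD3_c36) Lrfl Lrfl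
theorem f66324 : Led Lsl_dt (LP (LK LD1_c11 LD2_c26 LD3_c36)) = (LP (LK LD1_c5 LD2_c48 LD3_c33)) :=
  Lre_d IH (LK LD1_c11 LD2_c26 LD3_c36) (LK LD1_c5 LD2_c48 LD3_c33) Lrfl Lrfl
theorem f66325 : Led Lsl_ct (LP (LK LD1_c11 LD2_c26 LD3_c33)) = (LP (LK LD1_c5 LD2_c48 LD3_c33)) :=
  Lre_c IH (LK LD1_c11 LD2_c26 LD3_c33) (LK LD1_c5 LD2_c48 LD3_c33) Lrfl Lrfl
theorem f66326 : Led Lsl_dt (LP (LK LD1_c20 LD2_c24 LD3_c21)) = (LP (LK LD1_c11 LD2_c26 LD3_c33)) :=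
  Lre_d IH (LK LD1_c20 LD2_c24 LD3_c21) (LK LD1_c11 LD2_c26 LD3_c33) Lrfl Lrfl
theorem f66327 : Led Lsl_gt (LP (LK LD1_c14 LD2_c31 LD3_c0)) = (LP (LK LD1_c20 LD2_c24 LD3_c21)) :=
  Lgr Lrot49 (Lpe (f66192 IH) (Lpe (f66191 IH) (Lpr_cf (K6.f66313 IH) (Lpr_gt (K51.f66293 IH) (Lpr_dt (f66322 IH) (Lpr_gt (f66323 IH) (Lpr_dt (f66324 IH) (Lpe (f66325 IH) (Lpe (f66326 IH) (Lpn (LP (LK LD1_c20 LD2_c24 LD3_c21))))))))))))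
theorem f66340 : Led Lsl_et (LP (LK LD1_c1 LD2_c52 LD3_c10)) = (LP (LK LD1_c3 LD2_c50 LD3_c34)) :=
  Lre_e IH (LK LD1_c1 LD2_c52 LD3_c10) (LK LD1_c3 LD2_c50 LD3_c34) Lrfl Lrfl
theorem f66341 : Led Lsl_et (LP (LK LD1_c3 LD2_c50 LD3_c25)) = (LP (LK LD1_c7 LD2_c41 LD3_c56)) :=
  Lre_e IH (LK LD1_c3 LD2_c50 LD3_c25) (LK LD1_c7 LD2_c41 LD3_c56) Lrfl Lrfl
theorem f66342 : Led Lsl_dt (LP (LK LD1_c11 LD2_c26 LD3_c33)) = (LP (LK LD1_c20 LD2_c24 LD3_c21)) :=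
  Lre_d IH (LK LD1_c11 LD2_c26 LD3_c33) (LK LD1_c20 LD2_c24 LD3_c21) Lrfl Lrfl
theorem f66343 : Led Lsl_et (LP (LK LD1_c11 LD2_c26 LD3_c33)) = (LP (LK LD1_c5 LD2_c48 LD3_c31)) :=
  Lre_e IH (LK LD1_c11 LD2_c26 LD3_c33) (LK LD1_c5 LD2_c48 LD3_c31) Lrfl Lrfl
theorem f66344 : Led Lsl_gf (LP (LK LD1_c7 LD2_c41 LD3_c56)) = (LP (LK LD1_c5 LD2_c48 LD3_c31)) :=
  Lgr Lrot141 (Lpe (f66341 IH) (Lpr_dt (K36.f64344 IH) (Lpr_gt (K6.f12298 IH) (Lpe (K5.f12294 IH) (Lpr_et (f66340 IH) (Lpr_gt (f66191 IH) (Lpr_dt (f66192 IH) (Lpr_gt (f66327 IH) (Lpe (f66342 IH) (Lpr_et (f66343 IH) (Lpn (LP (LK LD1_c5 LD2_c48 LD3_c31)))))))))))))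
theorem f669211 : Led Lsl_gt (LP (LK LD1_c11 LD2_c26 LD3_c22)) = (LP (LK LD1_c5 LD2_c48 LD3_c31)) :=
  Lgr Lrot5 (Lpr_ft (f669207 IH) (Lpe (f501737 IH) (Lpr_gf (f66344 IH) (Lpn (LP (LK LD1_c5 LD2_c48 LD3_c31))))))
theorem f66351 : Led Lsl_ct (LP (LK LD1_c2 LD2_c50 LD3_c19)) = (LP (LK LD1_c5 LD2_c48 LD3_c31)) :=
  Lre_c IH (LK LD1_c2 LD2_c50 LD3_c19) (LK LD1_c5 LD2_c48 LD3_c31) Lrfl Lrfl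
theorem f66368 : Led Lsl_bt (LP (LK LD1_c2 LD2_c50 LD3_c19)) = (LP (LK LD1_c5 LD2_c48 LD3_c30)) :=
  Lre_b IH (LK LD1_c2 LD2_c50 LD3_c19) (LK LD1_c5 LD2_c48 LD3_c30) Lrfl Lrfl
theorem f700480 : Led Lsl_gf (LP (LK LD1_c9 LD2_c11 LD3_c43)) = (LP (LK LD1_c5 LD2_c48 LD3_c30)) :=
  Lgr Lrot181 (Lpr_ct (f499286 IH) (Lpr_gt (f700256 IH) (Lpe (K51.f40635 IH) (Lpq (K51.f700261 IH) (Lpe (K51.f641419 IH) (Lpr_gt (f501929 IH) (Lpe (K37.f501905 IH) (Lpe (K48.f669191 IH) (Lpr_gt (f669211 IH) (Lpe (f66351 IH) (Lpr_bt (f66368 IH) (Lpn (LP (LK LD1_c5 LD2_c48 LD3_c30))))))))))))))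
theorem f498233 : Led Lsl_af (LP (LK LD1_c9 LD2_c11 LD3_c43)) = (LP (LK LD1_c4 LD2_c59 LD3_c21)) :=
  Lgr Lrot0 (Lpr_at (K32.f498228 IH) (Lpn (LP (LK LD1_c4 LD2_c59 LD3_c21))))
theorem f57046 : Led Lsl_ft (LP (LK LD1_c9 LD2_c49 LD3_c6)) = (LP (LK LD1_c4 LD2_c59 LD3_c21)) :=
  Lre_f IH (LK LD1_c9 LD2_c49 LD3_c6) (LK LD1_c4 LD2_c59 LD3_c21) Lrfl Lrfl
theorem f700482 : Led Lsl_gt (LP (LK LD1_c9 LD2_c49 LD3_c6)) = (LP (LK LD1_c5 LD2_c48 LD3_c30)) :=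
  Lgr Lrot5 (Lpr_ft (f57046 IH) (Lpe (f498233 IH) (Lpr_gf (f700480 IH) (Lpn (LP (LK LD1_c5 LD2_c48 LD3_c30))))))
theorem f57044 : Led Lsl_dt (LP (LK LD1_c9 LD2_c49 LD3_c6)) = (LP (LK LD1_c17 LD2_c59 LD3_c33)) :=
  Lre_d IH (LK LD1_c9 LD2_c49 LD3_c6) (LK LD1_c17 LD2_c59 LD3_c33) Lrfl Lrfl
theorem f152550 : Led Lsl_ct (LP (LK LD1_c4 LD2_c37 LD3_c54)) = (LP (LK LD1_c9 LD2_c11 LD3_c20)) :=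
  Lre_c IH (LK LD1_c4 LD2_c37 LD3_c54) (LK LD1_c9 LD2_c11 LD3_c20) Lrfl Lrfl
theorem f80195 : Led Lsl_dt (LP (LK LD1_c9 LD2_c11 LD3_c26)) = (LP (LK LD1_c17 LD2_c5 LD3_c0)) :=
  Lre_d IH (LK LD1_c9 LD2_c11 LD3_c26) (LK LD1_c17 LD2_c5 LD3_c0) Lrfl Lrfl
theorem f207176 : Led Lsl_dt (LP (LK LD1_c12 LD2_c53 LD3_c56)) = (LP (LK LD1_c6 LD2_c44 LD3_c43)) :=
  Lre_d IH (LK LD1_c12 LD2_c53 LD3_c56) (LK LD1_c6 LD2_c44 LD3_c43) Lrfl Lrfl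
theorem f207177 : Led Lsl_at (LP (LK LD1_c17 LD2_c5 LD3_c0)) = (LP (LK LD1_c12 LD2_c53 LD3_c56)) :=
  Lgr Lrot51 (Lpe (f80195 IH) (Lpr_af (K35.f207168 IH) (Lpe (f207176 IH) (Lpn (LP (LK LD1_c12 LD2_c53 LD3_c56))))))
theorem f207185 : Led Lsl_ft (LP (LK LD1_c26 LD2_c59 LD3_c3)) = (LP (LK LD1_c17 LD2_c5 LD3_c0)) :=
  Lre_f IH (LK LD1_c26 LD2_c59 LD3_c3) (LK LD1_c17 LD2_c5 LD3_c0) Lrfl Lrfl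
theorem f207166 : Led Lsl_dt (LP (LK LD1_c26 LD2_c59 LD3_c3)) = (LP (LK LD1_c17 LD2_c5 LD3_c1)) :=
  Lre_d IH (LK LD1_c26 LD2_c59 LD3_c3) (LK LD1_c17 LD2_c5 LD3_c1) Lrfl Lrfl
theorem f152553 : Led Lsl_dt (LP (LK LD1_c9 LD2_c11 LD3_c27)) = (LP (LK LD1_c4 LD2_c37 LD3_c54)) :=
  Lre_d IH (LK LD1_c9 LD2_c11 LD3_c27) (LK LD1_c4 LD2_c37 LD3_c54) Lrfl Lrfl
theorem f152556 : Led Lsl_dt (LP (LK LD1_c9 LD2_c11 LD3_c20)) = (LP (LK LD1_c17 LD2_c4 LD3_c54)) :=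
  Lre_d IH (LK LD1_c9 LD2_c11 LD3_c20) (LK LD1_c17 LD2_c4 LD3_c54) Lrfl Lrfl
theorem f207189 : Led Lsl_ct (LP (LK LD1_c17 LD2_c4 LD3_c54)) = (LP (LK LD1_c26 LD2_c58 LD3_c58)) :=
  Lre_c IH (LK LD1_c17 LD2_c4 LD3_c54) (LK LD1_c26 LD2_c58 LD3_c58) Lrfl Lrfl
theorem f207190 : Led Lsl_ct (LP (LK LD1_c22 LD2_c3 LD3_c41)) = (LP (LK LD1_c12 LD2_c53 LD3_c56)) :=
  Lre_c IH (LK LD1_c22 LD2_c3 LD3_c41) (LK LD1_c12 LD2_c53 LD3_c56) Lrfl Lrfl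
theorem f207191 : Led Lsl_dt (LP (LK LD1_c26 LD2_c58 LD3_c58)) = (LP (LK LD1_c22 LD2_c3 LD3_c41)) :=
  Lgr Lrot120 (Lpe (f207189 IH) (Lpe (f152556 IH) (Lpe (f152550 IH) (Lpe (f152553 IH) (Lpe (K35.f207144 IH) (Lpe (f207166 IH) (Lpr_ft (f207185 IH) (Lpr_at (f207177 IH) (Lpe (f207190 IH) (Lpn (LP (LK LD1_c22 LD2_c3 LD3_c41))))))))))))
theorem f152557 : Led Lsl_ft (LP (LK LD1_c9 LD2_c11 LD3_c20)) = (LP (LK LD1_c4 LD2_c37 LD3_c50)) :=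
  Lre_f IH (LK LD1_c9 LD2_c11 LD3_c20) (LK LD1_c4 LD2_c37 LD3_c50) Lrfl Lrfl
theorem f207122 : Led Lsl_ct (LP (LK LD1_c1 LD2_c36 LD3_c36)) = (LP (LK LD1_c3 LD2_c20 LD3_c26)) :=
  Lre_c IH (LK LD1_c1 LD2_c36 LD3_c36) (LK LD1_c3 LD2_c20 LD3_c26) Lrfl Lrfl
theorem f207196 : Led Lsl_at (LP (LK LD1_c4 LD2_c37 LD3_c50)) = (LP (LK LD1_c3 LD2_c20 LD3_c26)) :=
  Lgr Lrot33 (Lpe (f152557 IH) (Lpr_dt (f152556 IH) (Lpr_ct (f207189 IH) (Lpr_dt (f207191 IH) (Lpr_ct (f207190 IH) (Lpr_dt (f207176 IH) (Lpr_ct (K35.f207193 IH) (Lpr_dt (K46.f116897 IH) (Lpr_ct (f207122 IH) (Lpn (LP (LK LD1_c3 LD2_c20 LD3_c26))))))))))))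
theorem f207204 : Led Lsl_gt (LP (LK LD1_c6 LD2_c44 LD3_c37)) = (LP (LK LD1_c3 LD2_c20 LD3_c26)) :=
  Lre_g IH (LK LD1_c6 LD2_c44 LD3_c37) (LK LD1_c3 LD2_c20 LD3_c26) Lrfl Lrfl
theorem f207205 : Led Lsl_gt (LP (LK LD1_c9 LD2_c11 LD3_c20)) = (LP (LK LD1_c6 LD2_c44 LD3_c37)) :=
  Lgr Lrot5 (Lpr_ft (f152557 IH) (Lpr_at (f207196 IH) (Lpe (f207204 IH) (Lpn (LP (LK LD1_c6 LD2_c44 LD3_c37))))))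
def v8690 : LQ := Led Lsl_bt K46.v2151
theorem f672013 : Led Lsl_bt K46.v2151 = v8690 :=
  Lrfl
theorem f672014 : Led Lsl_bf K46.v2151 = v8690 :=
  Lgr Lrot24 (Lpr_bt (f672013 IH) (Lpn v8690))
theorem f435299 : Led Lsl_bt (LP (LK LD1_c1 LD2_c24 LD3_c18)) = (LP (LK LD1_c2 LD2_c57 LD3_c6)) :=
  Lre_b IH (LK LD1_c1 LD2_c24 LD3_c18) (LK LD1_c2 LD2_c57 LD3_c6) Lrfl Lrfl
theorem f26819 : Led Lsl_ct (LP (LK LD1_c9 LD2_c18 LD3_c4)) = (LP (LK LD1_c4 LD2_c41 LD3_c38)) :=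
  Lre_c IH (LK LD1_c9 LD2_c18 LD3_c4) (LK LD1_c4 LD2_c41 LD3_c38) Lrfl Lrfl
theorem f204473 : Led Lsl_dt (LP (LK LD1_c4 LD2_c41 LD3_c38)) = (LP (LK LD1_c3 LD2_c10 LD3_c23)) :=
  Lgr Lrot77 (Lpe (K11.f26809 IH) (Lpe (K11.f25964 IH) (Lpr_ef (K11.f204453 IH) (Lpe (K30.f25962 IH) (Lpe (K11.f68938 IH) (Lpn (LP (LK LD1_c3 LD2_c10 LD3_c23))))))))
theorem f210180 : Led Lsl_gt (LP (LK LD1_c12 LD2_c10 LD3_c50)) = (LP (LK LD1_c6 LD2_c16 LD3_c56)) :=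
  Lre_g IH (LK LD1_c12 LD2_c10 LD3_c50) (LK LD1_c6 LD2_c16 LD3_c56) Lrfl Lrfl
theorem f143144 : Led Lsl_gt (LP (LK LD1_c4 LD2_c34 LD3_c4)) = (LP (LK LD1_c9 LD2_c5 LD3_c26)) :=
  Lre_g IH (LK LD1_c4 LD2_c34 LD3_c4) (LK LD1_c9 LD2_c5 LD3_c26) Lrfl Lrfl
theorem f698897 : Led Lsl_cf (LP (LK LD1_c12 LD2_c10 LD3_c50)) = (LP (LK LD1_c9 LD2_c5 LD3_c26)) :=
  Lgr Lrot169 (Lpr_gt (f210180 IH) (Lpe (K11.f210168 IH) (Lpe (f204473 IH) (Lpe (f26819 IH) (Lpr_gf (K50.f698895 IH) (Lpe (K50.f567725 IH) (Lpe (K45.f567722 IH) (Lpe (K45.f143136 IH) (Lpr_gt (f143144 IH) (Lpn (LP (LK LD1_c9 LD2_c5 LD3_c26))))))))))))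
theorem f210181 : Led Lsl_ct (LP (LK LD1_c3 LD2_c10 LD3_c23)) = (LP (LK LD1_c6 LD2_c16 LD3_c56)) :=
  Lgr Lrot59 (Lpr_cf (K11.f210168 IH) (Lpn (LP (LK LD1_c6 LD2_c16 LD3_c56))))
def v2152 : LQ := Led Lsl_bt (LP (LK LD1_c1 LD2_c36 LD3_c36))
theorem f509249 : Led Lsl_bt (LP (LK LD1_c1 LD2_c36 LD3_c36)) = v2152 :=
  Lrfl
theorem f509251 : Led Lsl_ef K37.v557 = v2152 :=
  Lgr Lrot29 (Lpe (K37.f453973 IH) (Lpr_et (K51.f116899 IH) (Lpr_bt (f509249 IH) (Lpn v2152))))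
theorem f509253 : Led Lsl_et K37.v557 = v2152 :=
  Lgr Lrot87 (Lpr_ef (f509251 IH) (Lpn v2152))
theorem f537884 : v2152 = (LP (LK LD1_c3 LD2_c10 LD3_c23)) :=
  Lefun (Lecon (f509253 IH) (K37.f537696 IH)) (K11.f68926 IH)
theorem f509250 : Led Lsl_bf (LP (LK LD1_c1 LD2_c36 LD3_c36)) = v2152 :=
  Lgr Lrot24 (Lpr_bt (f509249 IH) (Lpn v2152))
theorem f143146 : Led Lsl_bt (LP (LK LD1_c2 LD2_c13 LD3_c58)) = (LP (LK LD1_c4 LD2_c34 LD3_c4)) :=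
  Lre_b IH (LK LD1_c2 LD2_c13 LD3_c58) (LK LD1_c4 LD2_c34 LD3_c4) Lrfl Lrfl
theorem f698901 : v8690 = (LP (LK LD1_c1 LD2_c24 LD3_c18)) :=
  (Llr Lrot34 (Lpe (f672014 IH) (Lpe (K46.f509247 IH) (Lpr_bf (f509250 IH) (Lpqs (f537884 IH) (Lpr_ct (f210181 IH) (Lpe (f210180 IH) (Lpr_cf (f698897 IH) (Lpe (f143144 IH) (Lpe (f143146 IH) (Lpr_ct (K24.f146072 IH) (Lpe (K24.f437546 IH) (Lpr_cf (K32.f435300 IH) (Lpn (LP (LK LD1_c1 LD2_c24 LD3_c18)))))))))))))))).symm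
theorem f698902 : K46.v2151 = (LP (LK LD1_c2 LD2_c57 LD3_c6)) :=
  Lefun (Lecon (Lfl_bf (f672014 IH)) (f698901 IH)) (f435299 IH)
theorem f57509 : Led Lsl_gt (LP (LK LD1_c2 LD2_c50 LD3_c19)) = (LP (LK LD1_c1 LD2_c21 LD3_c11)) :=
  Lre_g IH (LK LD1_c2 LD2_c50 LD3_c19) (LK LD1_c1 LD2_c21 LD3_c11) Lrfl Lrfl
theorem f57510 : Led Lsl_bt (LP (LK LD1_c5 LD2_c48 LD3_c30)) = (LP (LK LD1_c2 LD2_c50 LD3_c19)) :=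
  Lre_b IH (LK LD1_c5 LD2_c48 LD3_c30) (LK LD1_c2 LD2_c50 LD3_c19) Lrfl Lrfl
theorem f699139 : Led Lsl_cf (LP (LK LD1_c6 LD2_c44 LD3_c37)) = (LP (LK LD1_c5 LD2_c48 LD3_c30)) :=
  Lgr Lrot163 (Lpe (f207205 IH) (Lpe (f152550 IH) (Lpr_gf (K46.f509248 IH) (Lpqs (f698902 IH) (Lpe (f435299 IH) (Lpe (K32.f435300 IH) (Lpe (K24.f57129 IH) (Lpr_cf (K32.f57118 IH) (Lpr_bt (K48.f57114 IH) (Lpe (f57509 IH) (Lpe (f57510 IH) (Lpn (LP (LK LD1_c5 LD2_c48 LD3_c30))))))))))))))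
theorem f700526 : Led Lsl_gt (LP (LK LD1_c17 LD2_c59 LD3_c33)) = (LP (LK LD1_c11 LD2_c26 LD3_c41)) :=
  Lgr Lrot9 (Lpe (f57044 IH) (Lpr_gt (f700482 IH) (Lpe (f699139 IH) (Lpr_gt (f207204 IH) (Lpr_ct (K35.f207109 IH) (Lpe (K46.f116897 IH) (Lpe (K35.f207193 IH) (Lpe (K46.f207198 IH) (Lpe (K46.f645230 IH) (Lpn (LP (LK LD1_c11 LD2_c26 LD3_c41))))))))))))
theorem f57035 : Led Lsl_ft (LP (LK LD1_c17 LD2_c59 LD3_c33)) = (LP (LK LD1_c9 LD2_c49 LD3_c5)) :=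
  Lre_f IH (LK LD1_c17 LD2_c59 LD3_c33) (LK LD1_c9 LD2_c49 LD3_c5) Lrfl Lrfl
theorem f142071 : Led Lsl_dt (LP (LK LD1_c17 LD2_c5 LD3_c23)) = (LP (LK LD1_c9 LD2_c11 LD3_c43)) :=
  Lre_d IH (LK LD1_c17 LD2_c5 LD3_c23) (LK LD1_c9 LD2_c11 LD3_c43) Lrfl Lrfl
theorem f56998 : Led Lsl_dt (LP (LK LD1_c4 LD2_c59 LD3_c21)) = (LP (LK LD1_c9 LD2_c49 LD3_c5)) :=
  Lre_d IH (LK LD1_c4 LD2_c59 LD3_c21) (LK LD1_c9 LD2_c49 LD3_c5) Lrfl Lrfl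
theorem f498236 : Led Lsl_af (LP (LK LD1_c17 LD2_c5 LD3_c23)) = (LP (LK LD1_c9 LD2_c49 LD3_c5)) :=
  Lgr Lrot117 (Lpr_dt (f142071 IH) (Lpr_at (K32.f498228 IH) (Lpr_dt (f56998 IH) (Lpn (LP (LK LD1_c9 LD2_c49 LD3_c5))))))
theorem f700528 : Led Lsl_gf (LP (LK LD1_c17 LD2_c5 LD3_c23)) = (LP (LK LD1_c11 LD2_c26 LD3_c41)) :=
  Lgr Lrot76 (Lpr_af (f498236 IH) (Lpe (f57035 IH) (Lpr_gt (f700526 IH) (Lpn (LP (LK LD1_c11 LD2_c26 LD3_c41))))))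
theorem f135965 : Led Lsl_dt (LP (LK LD1_c9 LD2_c11 LD3_c43)) = (LP (LK LD1_c17 LD2_c5 LD3_c23)) :=
  Lre_d IH (LK LD1_c9 LD2_c11 LD3_c43) (LK LD1_c17 LD2_c5 LD3_c23) Lrfl Lrfl
theorem f135964 : Led Lsl_et (LP (LK LD1_c9 LD2_c11 LD3_c43)) = (LP (LK LD1_c4 LD2_c38 LD3_c0)) :=
  Lre_e IH (LK LD1_c9 LD2_c11 LD3_c43) (LK LD1_c4 LD2_c38 LD3_c0) Lrfl Lrfl
theorem f99982 : Led Lsl_gt (LP (LK LD1_c8 LD2_c49 LD3_c20)) = (LP (LK LD1_c16 LD2_c29 LD3_c56)) :=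
  Lre_g IH (LK LD1_c8 LD2_c49 LD3_c20) (LK LD1_c16 LD2_c29 LD3_c56) Lrfl Lrfl
theorem f645239 : Led Lsl_dt (LP (LK LD1_c20 LD2_c24 LD3_c36)) = (LP (LK LD1_c11 LD2_c26 LD3_c41)) :=
  Lre_d IH (LK LD1_c20 LD2_c24 LD3_c36) (LK LD1_c11 LD2_c26 LD3_c41) Lrfl Lrfl
theorem f700530 : Led Lsl_ef (LP (LK LD1_c16 LD2_c29 LD3_c56)) = (LP (LK LD1_c20 LD2_c24 LD3_c36)) :=
  Lgr Lrot17 (Lpe (f99982 IH) (Lpe (K8.f99970 IH) (Lpr_dt (K6.f99825 IH) (Lpe (K6.f35239 IH) (Lpr_df (K6.f141735 IH) (Lpe (K6.f141733 IH) (Lpe (f135964 IH) (Lpr_dt (f135965 IH) (Lpr_gf (f700528 IH) (Lpe (f645239 IH) (Lpn (LP (LK LD1_c20 LD2_c24 LD3_c36)))))))))))))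
theorem f700534 : Led Lsl_et (LP (LK LD1_c16 LD2_c29 LD3_c56)) = (LP (LK LD1_c20 LD2_c24 LD3_c36)) :=
  Lgr Lrot87 (Lpr_ef (f700530 IH) (Lpn (LP (LK LD1_c20 LD2_c24 LD3_c36))))
theorem f151719 : Led Lsl_bt (LP (LK LD1_c20 LD2_c24 LD3_c36)) = (LP (LK LD1_c11 LD2_c26 LD3_c43)) :=
  Lre_b IH (LK LD1_c20 LD2_c24 LD3_c36) (LK LD1_c11 LD2_c26 LD3_c43) Lrfl Lrfl
theorem f700536 : Led Lsl_bf (LP (LK LD1_c16 LD2_c29 LD3_c56)) = (LP (LK LD1_c9 LD2_c6 LD3_c17)) :=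
  Lgr Lrot96 (Lpr_et (f700534 IH) (Lpr_bt (f151719 IH) (Lpe (K7.f151717 IH) (Lpn (LP (LK LD1_c9 LD2_c6 LD3_c17))))))
theorem f643551 : Led Lsl_ff (LP (LK LD1_c9 LD2_c48 LD3_c37)) = (LP (LK LD1_c16 LD2_c59 LD3_c3)) :=
  Lgr Lrot3 (Lpr_ft (K46.f643541 IH) (Lpn (LP (LK LD1_c16 LD2_c59 LD3_c3))))
theorem f539082 : Led Lsl_gt (LP (LK LD1_c11 LD2_c47 LD3_c35)) = (LP (LK LD1_c20 LD2_c49 LD3_c45)) :=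
  Lre_g IH (LK LD1_c11 LD2_c47 LD3_c35) (LK LD1_c20 LD2_c49 LD3_c45) Lrfl Lrfl
theorem f140782 : Led Lsl_ct (LP (LK LD1_c16 LD2_c59 LD3_c4)) = (LP (LK LD1_c9 LD2_c6 LD3_c52)) :=
  Lre_c IH (LK LD1_c16 LD2_c59 LD3_c4) (LK LD1_c9 LD2_c6 LD3_c52) Lrfl Lrfl
theorem f504944 : Led Lsl_ff (LP (LK LD1_c16 LD2_c59 LD3_c4)) = (LP (LK LD1_c11 LD2_c32 LD3_c0)) :=
  Lgr Lrot23 (Lpr_ct (f140782 IH) (Lpr_ft (K32.f504942 IH) (Lpr_ct (K42.f436284 IH) (Lpn (LP (LK LD1_c11 LD2_c32 LD3_c0))))))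
theorem f642544 : Led Lsl_af (LP (LK LD1_c20 LD2_c49 LD3_c45)) = (LP (LK LD1_c16 LD2_c59 LD3_c4)) :=
  Lgr Lrot31 (Lpe (f539082 IH) (Lpr_gf (K42.f642540 IH) (Lpe (f504944 IH) (Lpn (LP (LK LD1_c16 LD2_c59 LD3_c4))))))
theorem f140792 : Led Lsl_ct (LP (LK LD1_c9 LD2_c6 LD3_c52)) = (LP (LK LD1_c16 LD2_c59 LD3_c4)) :=
  Lre_c IH (LK LD1_c9 LD2_c6 LD3_c52) (LK LD1_c16 LD2_c59 LD3_c4) Lrfl Lrfl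
theorem f642900 : Led Lsl_ct (LP (LK LD1_c20 LD2_c49 LD3_c45)) = (LP (LK LD1_c16 LD2_c59 LD3_c3)) :=
  Lgr Lrot111 (Lpr_af (f642544 IH) (Lpe (f140792 IH) (Lpe (K46.f140778 IH) (Lpn (LP (LK LD1_c16 LD2_c59 LD3_c3))))))
theorem f643576 : Led Lsl_ft (LP (LK LD1_c17 LD2_c58 LD3_c51)) = (LP (LK LD1_c20 LD2_c49 LD3_c45)) :=
  Lgr Lrot4 (Lpe (K50.f636067 IH) (Lpr_ff (f643551 IH) (Lpe (f642900 IH) (Lpn (LP (LK LD1_c20 LD2_c49 LD3_c45))))))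
theorem f642897 : Led Lsl_at (LP (LK LD1_c20 LD2_c49 LD3_c45)) = (LP (LK LD1_c16 LD2_c59 LD3_c4)) :=
  Lgr Lrot100 (Lpr_af (f642544 IH) (Lpn (LP (LK LD1_c16 LD2_c59 LD3_c4))))
theorem f643580 : Led Lsl_gt (LP (LK LD1_c11 LD2_c42 LD3_c17)) = (LP (LK LD1_c16 LD2_c59 LD3_c4)) :=
  Lgr Lrot46 (Lpe (K50.f642291 IH) (Lpr_ft (f643576 IH) (Lpr_at (f642897 IH) (Lpn (LP (LK LD1_c16 LD2_c59 LD3_c4))))))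
theorem f151886 : Led Lsl_bt (LP (LK LD1_c5 LD2_c52 LD3_c34)) = (LP (LK LD1_c2 LD2_c52 LD3_c43)) :=
  Lre_b IH (LK LD1_c5 LD2_c52 LD3_c34) (LK LD1_c2 LD2_c52 LD3_c43) Lrfl Lrfl
theorem f151887 : Led Lsl_ct (LP (LK LD1_c5 LD2_c52 LD3_c34)) = (LP (LK LD1_c11 LD2_c31 LD3_c38)) :=
  Lre_c IH (LK LD1_c5 LD2_c52 LD3_c34) (LK LD1_c11 LD2_c31 LD3_c38) Lrfl Lrfl
theorem f563065 : Led Lsl_et (LP (LK LD1_c2 LD2_c52 LD3_c36)) = (LP (LK LD1_c5 LD2_c52 LD3_c33)) :=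
  Lre_e IH (LK LD1_c2 LD2_c52 LD3_c36) (LK LD1_c5 LD2_c52 LD3_c33) Lrfl Lrfl
theorem f177708 : Led Lsl_et (LP (LK LD1_c9 LD2_c14 LD3_c43)) = (LP (LK LD1_c4 LD2_c39 LD3_c32)) :=
  Lre_e IH (LK LD1_c9 LD2_c14 LD3_c43) (LK LD1_c4 LD2_c39 LD3_c32) Lrfl Lrfl
theorem f563066 : Led Lsl_at (LP (LK LD1_c5 LD2_c52 LD3_c33)) = (LP (LK LD1_c9 LD2_c14 LD3_c43)) :=
  Lgr Lrot80 (Lpe (f563065 IH) (Lpr_af (K40.f563060 IH) (Lpe (f177708 IH) (Lpn (LP (LK LD1_c9 LD2_c14 LD3_c43))))))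
theorem f563073 : Led Lsl_ft (LP (LK LD1_c11 LD2_c31 LD3_c38)) = (LP (LK LD1_c5 LD2_c52 LD3_c33)) :=
  Lre_f IH (LK LD1_c11 LD2_c31 LD3_c38) (LK LD1_c5 LD2_c52 LD3_c33) Lrfl Lrfl
theorem f268368 : Led Lsl_ct (LP (LK LD1_c17 LD2_c8 LD3_c37)) = (LP (LK LD1_c9 LD2_c14 LD3_c17)) :=
  Lre_c IH (LK LD1_c17 LD2_c8 LD3_c37) (LK LD1_c9 LD2_c14 LD3_c17) Lrfl Lrfl
theorem f494586 : Led Lsl_et (LP (LK LD1_c9 LD2_c31 LD3_c23)) = (LP (LK LD1_c17 LD2_c8 LD3_c37)) :=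
  Lgr Lrot158 (Lpe (K24.f414416 IH) (Lpr_ef (K35.f494584 IH) (Lpe (f268368 IH) (Lpn (LP (LK LD1_c17 LD2_c8 LD3_c37))))))
theorem f177711 : Led Lsl_et (LP (LK LD1_c4 LD2_c39 LD3_c32)) = (LP (LK LD1_c9 LD2_c14 LD3_c43)) :=
  Lre_e IH (LK LD1_c4 LD2_c39 LD3_c32) (LK LD1_c9 LD2_c14 LD3_c43) Lrfl Lrfl
theorem f494592 : Led Lsl_gf (LP (LK LD1_c9 LD2_c14 LD3_c43)) = (LP (LK LD1_c17 LD2_c8 LD3_c37)) :=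
  Lgr Lrot141 (Lpe (f177711 IH) (Lpe (K10.f177701 IH) (Lpr_gt (K10.f176450 IH) (Lpe (K10.f9341 IH) (Lpr_et (K0.f9181 IH) (Lpr_gt (K16.f22963 IH) (Lpr_dt (K16.f413439 IH) (Lpr_gt (K24.f414742 IH) (Lpe (K35.f416776 IH) (Lpr_et (f494586 IH) (Lpn (LP (LK LD1_c17 LD2_c8 LD3_c37)))))))))))))
theorem f616336 : Led Lsl_gt (LP (LK LD1_c11 LD2_c31 LD3_c38)) = (LP (LK LD1_c17 LD2_c8 LD3_c37)) :=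
  Lgr Lrot5 (Lpr_ft (f563073 IH) (Lpr_at (f563066 IH) (Lpr_gf (f494592 IH) (Lpn (LP (LK LD1_c17 LD2_c8 LD3_c37))))))
theorem f268367 : Led Lsl_ct (LP (LK LD1_c9 LD2_c14 LD3_c17)) = (LP (LK LD1_c17 LD2_c8 LD3_c37)) :=
  Lre_c IH (LK LD1_c9 LD2_c14 LD3_c17) (LK LD1_c17 LD2_c8 LD3_c37) Lrfl Lrfl
theorem f643584 : Led Lsl_bf (LP (LK LD1_c11 LD2_c42 LD3_c16)) = (LP (LK LD1_c9 LD2_c14 LD3_c17)) :=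
  Lgr Lrot165 (Lpr_gt (K50.f150372 IH) (Lpr_ct (K42.f428292 IH) (Lpr_gt (f643580 IH) (Lpe (f140792 IH) (Lpr_bt (K32.f140752 IH) (Lpr_gt (K35.f151884 IH) (Lpe (f151886 IH) (Lpr_ct (f151887 IH) (Lpr_gt (f616336 IH) (Lpe (f268367 IH) (Lpn (LP (LK LD1_c9 LD2_c14 LD3_c17)))))))))))))
theorem f426780 : Led Lsl_ct (LP (LK LD1_c20 LD2_c41 LD3_c41)) = (LP (LK LD1_c29 LD2_c35 LD3_c33)) :=
  Lre_c IH (LK LD1_c20 LD2_c41 LD3_c41) (LK LD1_c29 LD2_c35 LD3_c33) Lrfl Lrfl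
theorem f426774 : Led Lsl_gt (LP (LK LD1_c20 LD2_c42 LD3_c1)) = (LP (LK LD1_c29 LD2_c35 LD3_c33)) :=
  Lre_g IH (LK LD1_c20 LD2_c42 LD3_c1) (LK LD1_c29 LD2_c35 LD3_c33) Lrfl Lrfl
theorem f157955 : Led Lsl_bt (LP (LK LD1_c16 LD2_c58 LD3_c4)) = (LP (LK LD1_c26 LD2_c53 LD3_c34)) :=
  Lre_b IH (LK LD1_c16 LD2_c58 LD3_c4) (LK LD1_c26 LD2_c53 LD3_c34) Lrfl Lrfl
theorem f157948 : Led Lsl_ct (LP (LK LD1_c9 LD2_c6 LD3_c19)) = (LP (LK LD1_c16 LD2_c58 LD3_c4)) :=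
  Lre_c IH (LK LD1_c9 LD2_c6 LD3_c19) (LK LD1_c16 LD2_c58 LD3_c4) Lrfl Lrfl
theorem f494596 : Led Lsl_bt (LP (LK LD1_c17 LD2_c9 LD3_c3)) = (LP (LK LD1_c9 LD2_c14 LD3_c43)) :=
  Lre_b IH (LK LD1_c17 LD2_c9 LD3_c3) (LK LD1_c9 LD2_c14 LD3_c43) Lrfl Lrfl
theorem f494594 : Led Lsl_ct (LP (LK LD1_c9 LD2_c14 LD3_c43)) = (LP (LK LD1_c4 LD2_c39 LD3_c33)) :=
  Lre_c IH (LK LD1_c9 LD2_c14 LD3_c43) (LK LD1_c4 LD2_c39 LD3_c33) Lrfl Lrfl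
theorem f599749 : Led Lsl_bf (LP (LK LD1_c9 LD2_c6 LD3_c19)) = (LP (LK LD1_c4 LD2_c39 LD3_c33)) :=
  Lgr Lrot90 (Lpr_ct (f157948 IH) (Lpr_bt (f157955 IH) (Lpr_ct (K45.f599747 IH) (Lpr_bt (f494596 IH) (Lpr_ct (f494594 IH) (Lpn (LP (LK LD1_c4 LD2_c39 LD3_c33))))))))
theorem f157947 : Led Lsl_gt (LP (LK LD1_c9 LD2_c6 LD3_c19)) = (LP (LK LD1_c16 LD2_c58 LD3_c3)) :=
  Lre_g IH (LK LD1_c9 LD2_c6 LD3_c19) (LK LD1_c16 LD2_c58 LD3_c3) Lrfl Lrfl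
theorem f643592 : Led Lsl_cf (LP (LK LD1_c20 LD2_c42 LD3_c1)) = (LP (LK LD1_c16 LD2_c58 LD3_c3)) :=
  Lgr Lrot125 (Lpr_gt (f426774 IH) (Lpe (f426780 IH) (Lpr_bt (K40.f539479 IH) (Lpe (K50.f539461 IH) (Lpr_bf (f643584 IH) (Lpr_ct (f268367 IH) (Lpe (f494592 IH) (Lpe (K45.f494595 IH) (Lpe (f599749 IH) (Lpr_gt (f157947 IH) (Lpn (LP (LK LD1_c16 LD2_c58 LD3_c3)))))))))))))
theorem f426773 : Led Lsl_ct (LP (LK LD1_c29 LD2_c35 LD3_c33)) = (LP (LK LD1_c20 LD2_c41 LD3_c41)) :=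
  Lre_c IH (LK LD1_c29 LD2_c35 LD3_c33) (LK LD1_c20 LD2_c41 LD3_c41) Lrfl Lrfl
theorem f425974 : Led Lsl_dt (LP (LK LD1_c20 LD2_c41 LD3_c41)) = (LP (LK LD1_c11 LD2_c41 LD3_c41)) :=
  Lre_d IH (LK LD1_c20 LD2_c41 LD3_c41) (LK LD1_c11 LD2_c41 LD3_c41) Lrfl Lrfl
theorem f151643 : Led Lsl_ft (LP (LK LD1_c14 LD2_c30 LD3_c59)) = (LP (LK LD1_c24 LD2_c12 LD3_c30)) :=
  Lre_f IH (LK LD1_c14 LD2_c30 LD3_c59) (LK LD1_c24 LD2_c12 LD3_c30) Lrfl Lrfl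
theorem f426742 : Led Lsl_ft (LP (LK LD1_c20 LD2_c41 LD3_c58)) = (LP (LK LD1_c11 LD2_c41 LD3_c50)) :=
  Lre_f IH (LK LD1_c20 LD2_c41 LD3_c58) (LK LD1_c11 LD2_c41 LD3_c50) Lrfl Lrfl
theorem f426743 : Led Lsl_at (LP (LK LD1_c24 LD2_c12 LD3_c30)) = (LP (LK LD1_c20 LD2_c41 LD3_c58)) :=
  Lgr Lrot66 (Lpe (f151643 IH) (Lpr_af (K36.f426733 IH) (Lpe (f426742 IH) (Lpn (LP (LK LD1_c20 LD2_c41 LD3_c58))))))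
theorem f426753 : Led Lsl_dt (LP (LK LD1_c14 LD2_c30 LD3_c60)) = (LP (LK LD1_c24 LD2_c12 LD3_c30)) :=
  Lre_d IH (LK LD1_c14 LD2_c30 LD3_c60) (LK LD1_c24 LD2_c12 LD3_c30) Lrfl Lrfl
theorem f426745 : Led Lsl_dt (LP (LK LD1_c20 LD2_c41 LD3_c58)) = (LP (LK LD1_c11 LD2_c41 LD3_c51)) :=
  Lre_d IH (LK LD1_c20 LD2_c41 LD3_c58) (LK LD1_c11 LD2_c41 LD3_c51) Lrfl Lrfl
theorem f426754 : Led Lsl_af (LP (LK LD1_c14 LD2_c30 LD3_c60)) = (LP (LK LD1_c11 LD2_c41 LD3_c51)) :=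
  Lgr Lrot117 (Lpr_dt (f426753 IH) (Lpr_at (f426743 IH) (Lpr_dt (f426745 IH) (Lpn (LP (LK LD1_c11 LD2_c41 LD3_c51))))))
theorem f426762 : Led Lsl_ct (LP (LK LD1_c5 LD2_c58 LD3_c45)) = (LP (LK LD1_c11 LD2_c41 LD3_c51)) :=
  Lre_c IH (LK LD1_c5 LD2_c58 LD3_c45) (LK LD1_c11 LD2_c41 LD3_c51) Lrfl Lrfl
theorem f426763 : Led Lsl_ct (LP (LK LD1_c14 LD2_c30 LD3_c60)) = (LP (LK LD1_c11 LD2_c41 LD3_c41)) :=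
  Lgr Lrot111 (Lpr_af (f426754 IH) (Lpe (f426762 IH) (Lpe (K45.f425980 IH) (Lpn (LP (LK LD1_c11 LD2_c41 LD3_c41))))))
theorem f426766 : Led Lsl_ft (LP (LK LD1_c5 LD2_c58 LD3_c41)) = (LP (LK LD1_c11 LD2_c41 LD3_c51)) :=
  Lre_f IH (LK LD1_c5 LD2_c58 LD3_c41) (LK LD1_c11 LD2_c41 LD3_c51) Lrfl Lrfl
theorem f137176 : Led Lsl_gt (LP (LK LD1_c5 LD2_c58 LD3_c41)) = (LP (LK LD1_c11 LD2_c41 LD3_c48)) :=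
  Lre_g IH (LK LD1_c5 LD2_c58 LD3_c41) (LK LD1_c11 LD2_c41 LD3_c48) Lrfl Lrfl
theorem f426767 : Led Lsl_gf (LP (LK LD1_c14 LD2_c30 LD3_c60)) = (LP (LK LD1_c11 LD2_c41 LD3_c48)) :=
  Lgr Lrot76 (Lpr_af (f426754 IH) (Lpe (f426766 IH) (Lpr_gt (f137176 IH) (Lpn (LP (LK LD1_c11 LD2_c41 LD3_c48))))))
theorem f643598 : Led Lsl_cf (LP (LK LD1_c11 LD2_c41 LD3_c48)) = (LP (LK LD1_c9 LD2_c6 LD3_c17)) :=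
  Lgr Lrot169 (Lpe (f426767 IH) (Lpr_ct (f426763 IH) (Lpe (f425974 IH) (Lpe (f426773 IH) (Lpe (f426774 IH) (Lpr_cf (f643592 IH) (Lpe (f157947 IH) (Lpe (K45.f157941 IH) (Lpr_gt (K7.f151715 IH) (Lpn (LP (LK LD1_c9 LD2_c6 LD3_c17))))))))))))
theorem f426778 : Led Lsl_cf (LP (LK LD1_c14 LD2_c30 LD3_c60)) = (LP (LK LD1_c11 LD2_c41 LD3_c41)) :=
  Lgr Lrot11 (Lpr_ct (f426763 IH) (Lpn (LP (LK LD1_c11 LD2_c41 LD3_c41))))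
theorem f425998 : Led Lsl_gt (LP (LK LD1_c11 LD2_c40 LD3_c46)) = (LP (LK LD1_c5 LD2_c58 LD3_c54)) :=
  Lre_g IH (LK LD1_c11 LD2_c40 LD3_c46) (LK LD1_c5 LD2_c58 LD3_c54) Lrfl Lrfl
theorem f426002 : Led Lsl_ct (LP (LK LD1_c5 LD2_c58 LD3_c54)) = (LP (LK LD1_c11 LD2_c42 LD3_c12)) :=
  Lre_c IH (LK LD1_c5 LD2_c58 LD3_c54) (LK LD1_c11 LD2_c42 LD3_c12) Lrfl Lrfl
theorem f700538 : Led Lsl_gf (LP (LK LD1_c9 LD2_c47 LD3_c57)) = (LP (LK LD1_c11 LD2_c42 LD3_c12)) :=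
  Lgr Lrot129 (Lpe (K8.f138986 IH) (Lpe (K11.f138984 IH) (Lpr_gt (f99982 IH) (Lpr_bf (f700536 IH) (Lpe (f643598 IH) (Lpe (f426767 IH) (Lpr_cf (f426778 IH) (Lpr_bt (K24.f425983 IH) (Lpr_gt (f425998 IH) (Lpr_ct (f426002 IH) (Lpn (LP (LK LD1_c11 LD2_c42 LD3_c12)))))))))))))
theorem f138997 : Led Lsl_ct (LP (LK LD1_c17 LD2_c58 LD3_c13)) = (LP (LK LD1_c9 LD2_c48 LD3_c0)) :=
  Lre_c IH (LK LD1_c17 LD2_c58 LD3_c13) (LK LD1_c9 LD2_c48 LD3_c0) Lrfl Lrfl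
theorem f700542 : Led Lsl_gf (LP (LK LD1_c17 LD2_c58 LD3_c13)) = (LP (LK LD1_c20 LD2_c42 LD3_c31)) :=
  Lgr Lrot104 (Lpr_ct (f138997 IH) (Lpe (K39.f138990 IH) (Lpe (f139040 IH) (Lpr_gf (f700538 IH) (Lpe (f426002 IH) (Lpe (f425998 IH) (Lpr_df (K40.f539470 IH) (Lpe (K50.f539461 IH) (Lpr_ct (f539465 IH) (Lpn (LP (LK LD1_c20 LD2_c42 LD3_c31))))))))))))
theorem f711035 : Led Lsl_af (LP (LK LD1_c20 LD2_c42 LD3_c29)) = (LP (LK LD1_c17 LD2_c58 LD3_c52)) :=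
  Lgr Lrot0 (Lpr_at (f711033 IH) (Lpn (LP (LK LD1_c17 LD2_c58 LD3_c52))))
theorem f711051 : Led Lsl_gt (LP (LK LD1_c17 LD2_c58 LD3_c13)) = (LP (LK LD1_c20 LD2_c42 LD3_c29)) :=
  Lgr Lrot46 (Lpr_gf (f700542 IH) (Lpr_ft (f711045 IH) (Lpe (f711035 IH) (Lpn (LP (LK LD1_c20 LD2_c42 LD3_c29))))))
theorem f117011 : Led Lsl_bt (LP (LK LD1_c2 LD2_c54 LD3_c60)) = (LP (LK LD1_c5 LD2_c56 LD3_c60)) :=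
  Lre_b IH (LK LD1_c2 LD2_c54 LD3_c60) (LK LD1_c5 LD2_c56 LD3_c60) Lrfl Lrfl
theorem f442428 : Led Lsl_gt (LP (LK LD1_c11 LD2_c37 LD3_c0)) = (LP (LK LD1_c5 LD2_c56 LD3_c60)) :=
  Lre_g IH (LK LD1_c11 LD2_c37 LD3_c0) (LK LD1_c5 LD2_c56 LD3_c60) Lrfl Lrfl
theorem f711053 : Led Lsl_bf (LP (LK LD1_c11 LD2_c37 LD3_c0)) = (LP (LK LD1_c11 LD2_c42 LD3_c15)) :=
  Lgr Lrot156 (Lpr_gt (f442428 IH) (Lpe (f117011 IH) (Lpr_ct (K48.f641202 IH) (Lpe (K48.f641206 IH) (Lpe (K41.f640901 IH) (Lpr_bt (K32.f438462 IH) (Lpr_gt (K45.f615211 IH) (Lpr_ct (K48.f139002 IH) (Lpr_gt (f711051 IH) (Lpe (f428339 IH) (Lpn (LP (LK LD1_c11 LD2_c42 LD3_c15)))))))))))))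
theorem f711055 : Led Lsl_bt (LP (LK LD1_c11 LD2_c37 LD3_c0)) = (LP (LK LD1_c11 LD2_c42 LD3_c15)) :=
  Lgr Lrot127 (Lpr_bf (f711053 IH) (Lpn (LP (LK LD1_c11 LD2_c42 LD3_c15))))
theorem f72023 : Led Lsl_ct (LP (LK LD1_c11 LD2_c37 LD3_c0)) = (LP (LK LD1_c20 LD2_c35 LD3_c24)) :=
  Lre_c IH (LK LD1_c11 LD2_c37 LD3_c0) (LK LD1_c20 LD2_c35 LD3_c24) Lrfl Lrfl
theorem f539496 : Led Lsl_gt (LP (LK LD1_c29 LD2_c35 LD3_c33)) = (LP (LK LD1_c20 LD2_c42 LD3_c2)) :=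
  Lre_g IH (LK LD1_c29 LD2_c35 LD3_c33) (LK LD1_c20 LD2_c42 LD3_c2) Lrfl Lrfl
theorem f669579 : Led Lsl_bt (LP (LK LD1_c16 LD2_c57 LD3_c50)) = (LP (LK LD1_c20 LD2_c38 LD3_c42)) :=
  Lgr Lrot127 (Lpr_bf (K48.f669559 IH) (Lpn (LP (LK LD1_c20 LD2_c38 LD3_c42))))
theorem f669591 : Led Lsl_et (LP (LK LD1_c16 LD2_c57 LD3_c48)) = (LP (LK LD1_c9 LD2_c5 LD3_c60)) :=
  Lre_e IH (LK LD1_c16 LD2_c57 LD3_c48) (LK LD1_c9 LD2_c5 LD3_c60) Lrfl Lrfl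
theorem f157953 : Led Lsl_dt (LP (LK LD1_c16 LD2_c57 LD3_c50)) = (LP (LK LD1_c9 LD2_c6 LD3_c0)) :=
  Lre_d IH (LK LD1_c16 LD2_c57 LD3_c50) (LK LD1_c9 LD2_c6 LD3_c0) Lrfl Lrfl
theorem f669582 : Led Lsl_bt (LP (LK LD1_c9 LD2_c6 LD3_c0)) = (LP (LK LD1_c16 LD2_c57 LD3_c48)) :=
  Lre_b IH (LK LD1_c9 LD2_c6 LD3_c0) (LK LD1_c16 LD2_c57 LD3_c48) Lrfl Lrfl
theorem f669583 : Led Lsl_dt (LP (LK LD1_c16 LD2_c57 LD3_c48)) = (LP (LK LD1_c20 LD2_c38 LD3_c42)) :=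
  Lgr Lrot79 (Lpe (f669582 IH) (Lpe (f157953 IH) (Lpr_bf (K48.f669559 IH) (Lpn (LP (LK LD1_c20 LD2_c38 LD3_c42))))))
theorem f700919 : Led Lsl_gt (LP (LK LD1_c20 LD2_c38 LD3_c42)) = (LP (LK LD1_c15 LD2_c4 LD3_c48)) :=
  Lgr Lrot112 (Lpe (f669583 IH) (Lpr_et (f669591 IH) (Lpr_gf (K50.f700915 IH) (Lpe (K42.f428385 IH) (Lpr_dt (K32.f498290 IH) (Lpe (K11.f119887 IH) (Lpe (K4.f117520 IH) (Lpr_gf (K8.f158429 IH) (Lpe (K8.f112514 IH) (Lpr_dt (K8.f112512 IH) (Lpn (LP (LK LD1_c15 LD2_c4 LD3_c48)))))))))))))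
theorem f112513 : Led Lsl_ct (LP (LK LD1_c15 LD2_c4 LD3_c48)) = (LP (LK LD1_c24 LD2_c53 LD3_c24)) :=
  Lre_c IH (LK LD1_c15 LD2_c4 LD3_c48) (LK LD1_c24 LD2_c53 LD3_c24) Lrfl Lrfl
theorem f711172 : Led Lsl_gf (LP (LK LD1_c20 LD2_c35 LD3_c24)) = (LP (LK LD1_c24 LD2_c53 LD3_c24)) :=
  Lgr Lrot129 (Lpe (f72023 IH) (Lpr_bt (f711055 IH) (Lpr_gt (K50.f539472 IH) (Lpe (K40.f539479 IH) (Lpr_ct (f426780 IH) (Lpr_gt (f539496 IH) (Lpr_cf (K48.f645096 IH) (Lpr_bt (f669579 IH) (Lpr_gt (f700919 IH) (Lpr_ct (f112513 IH) (Lpn (LP (LK LD1_c24 LD2_c53 LD3_c24)))))))))))))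
theorem f711005 : Led Lsl_ff (LP (LK LD1_c11 LD2_c42 LD3_c15)) = (LP (LK LD1_c11 LD2_c39 LD3_c11)) :=
  Lgr Lrot19 (Lpr_dt (K50.f428338 IH) (Lpr_ft (f643986 IH) (Lpr_dt (f710999 IH) (Lpn (LP (LK LD1_c11 LD2_c39 LD3_c11))))))
theorem f669693 : Led Lsl_bt (LP (LK LD1_c5 LD2_c56 LD3_c58)) = (LP (LK LD1_c11 LD2_c39 LD3_c11)) :=
  Lre_b IH (LK LD1_c5 LD2_c56 LD3_c58) (LK LD1_c11 LD2_c39 LD3_c11) Lrfl Lrfl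
theorem f711057 : Led Lsl_ft (LP (LK LD1_c11 LD2_c37 LD3_c0)) = (LP (LK LD1_c5 LD2_c56 LD3_c58)) :=
  Lgr Lrot75 (Lpr_bf (f711053 IH) (Lpr_ff (f711005 IH) (Lpe (f669693 IH) (Lpn (LP (LK LD1_c5 LD2_c56 LD3_c58))))))
theorem f711064 : Led Lsl_af (LP (LK LD1_c11 LD2_c37 LD3_c1)) = (LP (LK LD1_c5 LD2_c56 LD3_c58)) :=
  Lgr Lrot31 (Lpe (K45.f117001 IH) (Lpe (f442428 IH) (Lpr_ft (f711057 IH) (Lpn (LP (LK LD1_c5 LD2_c56 LD3_c58))))))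
theorem f711066 : Led Lsl_at (LP (LK LD1_c11 LD2_c37 LD3_c1)) = (LP (LK LD1_c5 LD2_c56 LD3_c58)) :=
  Lgr Lrot100 (Lpr_af (f711064 IH) (Lpn (LP (LK LD1_c5 LD2_c56 LD3_c58))))
theorem f425740 : Led Lsl_gt (LP (LK LD1_c11 LD2_c37 LD3_c3)) = (LP (LK LD1_c5 LD2_c56 LD3_c58)) :=
  Lre_g IH (LK LD1_c11 LD2_c37 LD3_c3) (LK LD1_c5 LD2_c56 LD3_c58) Lrfl Lrfl
theorem f711080 : Led Lsl_ff (LP (LK LD1_c11 LD2_c37 LD3_c1)) = (LP (LK LD1_c5 LD2_c56 LD3_c57)) :=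
  Lgr Lrot52 (Lpr_at (f711066 IH) (Lpe (f425740 IH) (Lpe (K51.f442683 IH) (Lpn (LP (LK LD1_c5 LD2_c56 LD3_c57))))))
theorem f711090 : Led Lsl_ft (LP (LK LD1_c11 LD2_c37 LD3_c1)) = (LP (LK LD1_c5 LD2_c56 LD3_c57)) :=
  Lgr Lrot48 (Lpr_ff (f711080 IH) (Lpn (LP (LK LD1_c5 LD2_c56 LD3_c57))))
theorem f116998 : Led Lsl_ct (LP (LK LD1_c20 LD2_c35 LD3_c25)) = (LP (LK LD1_c11 LD2_c37 LD3_c1)) :=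
  Lre_c IH (LK LD1_c20 LD2_c35 LD3_c25) (LK LD1_c11 LD2_c37 LD3_c1) Lrfl Lrfl
theorem f82972 : Led Lsl_ct (LP (LK LD1_c5 LD2_c56 LD3_c57)) = (LP (LK LD1_c11 LD2_c39 LD3_c9)) :=
  Lre_c IH (LK LD1_c5 LD2_c56 LD3_c57) (LK LD1_c11 LD2_c39 LD3_c9) Lrfl Lrfl
theorem f711096 : Led Lsl_ff (LP (LK LD1_c20 LD2_c35 LD3_c25)) = (LP (LK LD1_c11 LD2_c39 LD3_c9)) :=
  Lgr Lrot23 (Lpr_ct (f116998 IH) (Lpr_ft (f711090 IH) (Lpr_ct (f82972 IH) (Lpn (LP (LK LD1_c11 LD2_c39 LD3_c9))))))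
theorem f116993 : Led Lsl_ct (LP (LK LD1_c11 LD2_c37 LD3_c1)) = (LP (LK LD1_c20 LD2_c35 LD3_c25)) :=
  Lre_c IH (LK LD1_c11 LD2_c37 LD3_c1) (LK LD1_c20 LD2_c35 LD3_c25) Lrfl Lrfl
theorem f669694 : Led Lsl_ct (LP (LK LD1_c11 LD2_c39 LD3_c12)) = (LP (LK LD1_c5 LD2_c56 LD3_c58)) :=
  Lre_c IH (LK LD1_c11 LD2_c39 LD3_c12) (LK LD1_c5 LD2_c56 LD3_c58) Lrfl Lrfl
theorem f711070 : Led Lsl_at (LP (LK LD1_c20 LD2_c35 LD3_c25)) = (LP (LK LD1_c11 LD2_c39 LD3_c12)) :=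
  Lgr Lrot107 (Lpe (f116993 IH) (Lpr_af (f711064 IH) (Lpe (f669694 IH) (Lpn (LP (LK LD1_c11 LD2_c39 LD3_c12))))))
theorem f711059 : Led Lsl_ct (LP (LK LD1_c20 LD2_c35 LD3_c24)) = (LP (LK LD1_c11 LD2_c37 LD3_c0)) :=
  Lre_c IH (LK LD1_c20 LD2_c35 LD3_c24) (LK LD1_c11 LD2_c37 LD3_c0) Lrfl Lrfl
theorem f669699 : Led Lsl_ct (LP (LK LD1_c5 LD2_c56 LD3_c58)) = (LP (LK LD1_c11 LD2_c39 LD3_c12)) :=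
  Lre_c IH (LK LD1_c5 LD2_c56 LD3_c58) (LK LD1_c11 LD2_c39 LD3_c12) Lrfl Lrfl
theorem f711060 : Led Lsl_ff (LP (LK LD1_c20 LD2_c35 LD3_c24)) = (LP (LK LD1_c11 LD2_c39 LD3_c12)) :=
  Lgr Lrot23 (Lpr_ct (f711059 IH) (Lpr_ft (f711057 IH) (Lpr_ct (f669699 IH) (Lpn (LP (LK LD1_c11 LD2_c39 LD3_c12))))))
theorem f711104 : Led Lsl_at (LP (LK LD1_c20 LD2_c35 LD3_c24)) = (LP (LK LD1_c11 LD2_c39 LD3_c9)) :=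
  Lgr Lrot66 (Lpr_ff (f711060 IH) (Lpe (f711070 IH) (Lpr_ff (f711096 IH) (Lpn (LP (LK LD1_c11 LD2_c39 LD3_c9))))))
theorem f711112 : Led Lsl_af (LP (LK LD1_c20 LD2_c35 LD3_c24)) = (LP (LK LD1_c11 LD2_c39 LD3_c9)) :=
  Lgr Lrot0 (Lpr_at (f711104 IH) (Lpn (LP (LK LD1_c11 LD2_c39 LD3_c9))))
theorem f707304 : Led Lsl_ct (LP (LK LD1_c11 LD2_c39 LD3_c9)) = (LP (LK LD1_c5 LD2_c56 LD3_c57)) :=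
  Lre_c IH (LK LD1_c11 LD2_c39 LD3_c9) (LK LD1_c5 LD2_c56 LD3_c57) Lrfl Lrfl
theorem f711086 : Led Lsl_ft (LP (LK LD1_c20 LD2_c35 LD3_c25)) = (LP (LK LD1_c11 LD2_c39 LD3_c9)) :=
  Lgr Lrot4 (Lpe (f116993 IH) (Lpr_ff (f711080 IH) (Lpe (f707304 IH) (Lpn (LP (LK LD1_c11 LD2_c39 LD3_c9))))))
theorem f711174 : Led Lsl_gt (LP (LK LD1_c20 LD2_c35 LD3_c25)) = (LP (LK LD1_c24 LD2_c53 LD3_c24)) :=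
  Lgr Lrot5 (Lpr_ft (f711086 IH) (Lpe (f711112 IH) (Lpr_gf (f711172 IH) (Lpn (LP (LK LD1_c24 LD2_c53 LD3_c24))))))
theorem f442424 : Led Lsl_dt (LP (LK LD1_c5 LD2_c56 LD3_c60)) = (LP (LK LD1_c2 LD2_c54 LD3_c46)) :=
  Lre_d IH (LK LD1_c5 LD2_c56 LD3_c60) (LK LD1_c2 LD2_c54 LD3_c46) Lrfl Lrfl
theorem f82909 : Led Lsl_gt (LP (LK LD1_c2 LD2_c54 LD3_c46)) = (LP (LK LD1_c5 LD2_c55 LD3_c55)) :=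
  Lre_g IH (LK LD1_c2 LD2_c54 LD3_c46) (LK LD1_c5 LD2_c55 LD3_c55) Lrfl Lrfl
theorem f82910 : Led Lsl_ct (LP (LK LD1_c5 LD2_c55 LD3_c55)) = (LP (LK LD1_c11 LD2_c36 LD3_c60)) :=
  Lre_c IH (LK LD1_c5 LD2_c55 LD3_c55) (LK LD1_c11 LD2_c36 LD3_c60) Lrfl Lrfl
theorem f112509 : Led Lsl_ct (LP (LK LD1_c24 LD2_c53 LD3_c24)) = (LP (LK LD1_c15 LD2_c4 LD3_c48)) :=
  Lre_c IH (LK LD1_c24 LD2_c53 LD3_c24) (LK LD1_c15 LD2_c4 LD3_c48) Lrfl Lrfl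
theorem f711176 : Led Lsl_gt (LP (LK LD1_c11 LD2_c36 LD3_c60)) = (LP (LK LD1_c12 LD2_c23 LD3_c17)) :=
  Lgr Lrot150 (Lpe (f82910 IH) (Lpe (f82909 IH) (Lpe (f442424 IH) (Lpr_gt (K45.f117001 IH) (Lpr_ct (f116993 IH) (Lpr_gt (f711174 IH) (Lpr_ct (f112509 IH) (Lpe (K8.f112512 IH) (Lpr_cf (f112506 IH) (Lpn (LP (LK LD1_c12 LD2_c23 LD3_c17))))))))))))
theorem f71356 : Led Lsl_bt (LP (LK LD1_c1 LD2_c23 LD3_c24)) = (LP (LK LD1_c2 LD2_c54 LD3_c46)) :=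
  Lre_b IH (LK LD1_c1 LD2_c23 LD3_c24) (LK LD1_c2 LD2_c54 LD3_c46) Lrfl Lrfl
theorem f438448 : Led Lsl_bt (LP (LK LD1_c1 LD2_c22 LD3_c21)) = (LP (LK LD1_c2 LD2_c52 LD3_c37)) :=
  Lre_b IH (LK LD1_c1 LD2_c22 LD3_c21) (LK LD1_c2 LD2_c52 LD3_c37) Lrfl Lrfl
theorem f711180 : v4908 = (LP (LK LD1_c3 LD2_c59 LD3_c35)) :=
  (Llr Lrot124 (Lpe (f640861 IH) (Lpe (f438448 IH) (Lpe (K24.f438449 IH) (Lpe (K24.f435564 IH) (Lpe (K24.f82895 IH) (Lpr_bt (f71356 IH) (Lpr_gt (f82909 IH) (Lpr_ct (f82910 IH) (Lpr_gt (f711176 IH) (Lpe (f112501 IH) (Lpr_bt (f112510 IH) (Lpn (LP (LK LD1_c3 LD2_c59 LD3_c35))))))))))))))).symm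
theorem f101609 : Led Lsl_et (LP (LK LD1_c1 LD2_c56 LD3_c28)) = (LP (LK LD1_c3 LD2_c59 LD3_c35)) :=
  Lre_e IH (LK LD1_c1 LD2_c56 LD3_c28) (LK LD1_c3 LD2_c59 LD3_c35) Lrfl Lrfl
theorem f112570 : Led Lsl_et (LP (LK LD1_c0 LD2_c55 LD3_c2)) = (LP (LK LD1_c1 LD2_c56 LD3_c34)) :=
  Lre_e IH (LK LD1_c0 LD2_c55 LD3_c2) (LK LD1_c1 LD2_c56 LD3_c34) Lrfl Lrfl
theorem f83930 : Led Lsl_dt (LP (LK LD1_c3 LD2_c59 LD3_c50)) = (LP (LK LD1_c8 LD2_c0 LD3_c46)) :=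
  Lre_d IH (LK LD1_c3 LD2_c59 LD3_c50) (LK LD1_c8 LD2_c0 LD3_c46) Lrfl Lrfl
theorem f415979 : Led Lsl_gt (LP (LK LD1_c8 LD2_c0 LD3_c46)) = (LP (LK LD1_c15 LD2_c5 LD3_c27)) :=
  Lre_g IH (LK LD1_c8 LD2_c0 LD3_c46) (LK LD1_c15 LD2_c5 LD3_c27) Lrfl Lrfl
theorem f711185 : Led Lsl_dt (LP (LK LD1_c12 LD2_c30 LD3_c4)) = (LP (LK LD1_c15 LD2_c5 LD3_c27)) :=
  Lgr Lrot56 (Lpr_et (f505685 IH) (Lpr_gt (f640862 IH) (Lpqs (f711180 IH) (Lpe (f101609 IH) (Lpr_dt (K8.f37072 IH) (Lpr_gt (K5.f37042 IH) (Lpe (K1.f37454 IH) (Lpr_et (f112570 IH) (Lpr_gt (K24.f40479 IH) (Lpr_dt (f83930 IH) (Lpr_gt (f415979 IH) (Lpn (LP (LK LD1_c15 LD2_c5 LD3_c27))))))))))))))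
theorem f711191 : Led Lsl_df (LP (LK LD1_c12 LD2_c30 LD3_c4)) = (LP (LK LD1_c15 LD2_c5 LD3_c27)) :=
  Lgr Lrot38 (Lpr_dt (f711185 IH) (Lpn (LP (LK LD1_c15 LD2_c5 LD3_c27))))
theorem f140798 : Led Lsl_at (LP (LK LD1_c12 LD2_c30 LD3_c4)) = (LP (LK LD1_c6 LD2_c30 LD3_c23)) :=
  Lre_a IH (LK LD1_c12 LD2_c30 LD3_c4) (LK LD1_c6 LD2_c30 LD3_c23) Lrfl Lrfl
theorem f140725 : Led Lsl_bt (LP (LK LD1_c9 LD2_c50 LD3_c59)) = (LP (LK LD1_c5 LD2_c0 LD3_c13)) :=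
  Lre_b IH (LK LD1_c9 LD2_c50 LD3_c59) (LK LD1_c5 LD2_c0 LD3_c13) Lrfl Lrfl
theorem f140726 : Led Lsl_df (LP (LK LD1_c9 LD2_c50 LD3_c59)) = (LP (LK LD1_c6 LD2_c30 LD3_c23)) :=
  Lgr Lrot12 (Lpr_bt (f140725 IH) (Lpr_dt (K24.f140723 IH) (Lpr_bt (K41.f83707 IH) (Lpn (LP (LK LD1_c6 LD2_c30 LD3_c23))))))
theorem f711193 : Led Lsl_at (LP (LK LD1_c9 LD2_c50 LD3_c59)) = (LP (LK LD1_c15 LD2_c5 LD3_c27)) :=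
  Lgr Lrot51 (Lpr_df (f140726 IH) (Lpe (f140798 IH) (Lpr_df (f711191 IH) (Lpn (LP (LK LD1_c15 LD2_c5 LD3_c27))))))
theorem f711199 : Led Lsl_gt (LP (LK LD1_c15 LD2_c5 LD3_c28)) = (LP (LK LD1_c8 LD2_c0 LD3_c46)) :=
  Lre_g IH (LK LD1_c15 LD2_c5 LD3_c28) (LK LD1_c8 LD2_c0 LD3_c46) Lrfl Lrfl
theorem f711200 : Led Lsl_ff (LP (LK LD1_c9 LD2_c50 LD3_c59)) = (LP (LK LD1_c15 LD2_c5 LD3_c28)) :=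
  Lgr Lrot52 (Lpr_at (f711193 IH) (Lpe (f415979 IH) (Lpe (f711199 IH) (Lpn (LP (LK LD1_c15 LD2_c5 LD3_c28))))))
theorem f711202 : Led Lsl_bt (LP (LK LD1_c8 LD2_c0 LD3_c56)) = (LP (LK LD1_c15 LD2_c5 LD3_c28)) :=
  Lgr Lrot35 (Lpr_ff (K46.f505542 IH) (Lpe (f140725 IH) (Lpr_ff (f711200 IH) (Lpn (LP (LK LD1_c15 LD2_c5 LD3_c28))))))
def v13089 : LQ := Led Lsl_gt (LP (LK LD1_c4 LD2_c39 LD3_c11))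
theorem f701020 : Led Lsl_gt (LP (LK LD1_c4 LD2_c39 LD3_c11)) = v13089 :=
  Lrfl
theorem f140935 : Led Lsl_ct (LP (LK LD1_c2 LD2_c16 LD3_c35)) = (LP (LK LD1_c4 LD2_c39 LD3_c11)) :=
  Lre_c IH (LK LD1_c2 LD2_c16 LD3_c35) (LK LD1_c4 LD2_c39 LD3_c11) Lrfl Lrfl
theorem f7524 : Led Lsl_gt (LP (LK LD1_c2 LD2_c22 LD3_c56)) = (LP (LK LD1_c4 LD2_c50 LD3_c15)) :=
  Lre_g IH (LK LD1_c2 LD2_c22 LD3_c56) (LK LD1_c4 LD2_c50 LD3_c15) Lrfl Lrfl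
theorem f135602 : Led Lsl_ct (LP (LK LD1_c1 LD2_c8 LD3_c34)) = (LP (LK LD1_c2 LD2_c22 LD3_c56)) :=
  Lre_c IH (LK LD1_c1 LD2_c8 LD3_c34) (LK LD1_c2 LD2_c22 LD3_c56) Lrfl Lrfl
theorem f445984 : Led Lsl_ct (LP (LK LD1_c2 LD2_c48 LD3_c44)) = (LP (LK LD1_c4 LD2_c43 LD3_c52)) :=
  Lgr Lrot7 (Lpe (K38.f140579 IH) (Lpe (K9.f140245 IH) (Lpe (K1.f59813 IH) (Lpe (K17.f172564 IH) (Lpe (K31.f415843 IH) (Lpr_gt (K31.f415839 IH) (Lpr_dt (K2.f58925 IH) (Lpr_gt (K35.f77738 IH) (Lpr_dt (K35.f445979 IH) (Lpn (LP (LK LD1_c4 LD2_c43 LD3_c52))))))))))))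
theorem f445988 : Led Lsl_gt (LP (LK LD1_c4 LD2_c36 LD3_c32)) = (LP (LK LD1_c2 LD2_c48 LD3_c44)) :=
  Lgr Lrot187 (Lpe (K35.f144076 IH) (Lpr_gf (K32.f438816 IH) (Lpe (K16.f415309 IH) (Lpr_gt (K16.f62600 IH) (Lpr_ct (f135602 IH) (Lpr_gt (f7524 IH) (Lpr_ct (K48.f140812 IH) (Lpr_dt (K35.f445979 IH) (Lpe (f445984 IH) (Lpn (LP (LK LD1_c2 LD2_c48 LD3_c44))))))))))))
theorem f140879 : Led Lsl_gt (LP (LK LD1_c3 LD2_c22 LD3_c8)) = (LP (LK LD1_c3 LD2_c8 LD3_c22)) :=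
  Lgr Lrot150 (Lpe (K32.f23232 IH) (Lpe (K0.f23221 IH) (Lpe (K0.f23220 IH) (Lpr_gt (K46.f25607 IH) (Lpr_ct (K46.f140864 IH) (Lpr_gt (K32.f40955 IH) (Lpr_ct (K2.f58908 IH) (Lpe (K32.f67062 IH) (Lpe (K24.f77403 IH) (Lpn (LP (LK LD1_c3 LD2_c8 LD3_c22))))))))))))
theorem f140908 : Led Lsl_gf (LP (LK LD1_c3 LD2_c22 LD3_c8)) = (LP (LK LD1_c6 LD2_c23 LD3_c23)) :=
  Lgr Lrot47 (Lpr_gt (f140879 IH) (Lpr_af (K2.f83307 IH) (Lpe (K2.f83228 IH) (Lpn (LP (LK LD1_c6 LD2_c23 LD3_c23))))))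
theorem f505504 : Led Lsl_ct (LP (LK LD1_c3 LD2_c13 LD3_c17)) = (LP (LK LD1_c6 LD2_c30 LD3_c25)) :=
  Lre_c IH (LK LD1_c3 LD2_c13 LD3_c17) (LK LD1_c6 LD2_c30 LD3_c25) Lrfl Lrfl
theorem f505507 : Led Lsl_gt (LP (LK LD1_c4 LD2_c43 LD3_c52)) = (LP (LK LD1_c3 LD2_c13 LD3_c17)) :=
  Lgr Lrot9 (Lpe (K35.f445979 IH) (Lpr_gt (K35.f83919 IH) (Lpr_ct (K2.f83246 IH) (Lpe (f140908 IH) (Lpr_ct (K32.f23246 IH) (Lpe (K0.f23222 IH) (Lpe (K32.f23231 IH) (Lpr_gf (K46.f505498 IH) (Lpe (f505504 IH) (Lpn (LP (LK LD1_c3 LD2_c13 LD3_c17))))))))))))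
theorem f701022 : Led Lsl_cf (LP (LK LD1_c8 LD2_c0 LD3_c56)) = v13089 :=
  Lgr Lrot99 (Lpr_df (K48.f505540 IH) (Lpe (f505504 IH) (Lpe (f505507 IH) (Lpe (f445984 IH) (Lpe (f445988 IH) (Lpe (K32.f144075 IH) (Lpr_gt (K49.f507720 IH) (Lpr_ct (f140935 IH) (Lpr_gt (f701020 IH) (Lpn v13089))))))))))
theorem f701024 : Led Lsl_ct (LP (LK LD1_c8 LD2_c0 LD3_c56)) = v13089 :=
  Lgr Lrot59 (Lpr_cf (f701022 IH) (Lpn v13089))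
theorem f711198 : Led Lsl_bt (LP (LK LD1_c15 LD2_c5 LD3_c22)) = (LP (LK LD1_c8 LD2_c0 LD3_c46)) :=
  Lre_b IH (LK LD1_c15 LD2_c5 LD3_c22) (LK LD1_c8 LD2_c0 LD3_c46) Lrfl Lrfl
theorem f415800 : Led Lsl_ct (LP (LK LD1_c15 LD2_c5 LD3_c22)) = (LP (LK LD1_c24 LD2_c53 LD3_c37)) :=
  Lre_c IH (LK LD1_c15 LD2_c5 LD3_c22) (LK LD1_c24 LD2_c53 LD3_c37) Lrfl Lrfl
theorem f711216 : Led Lsl_gf (LP (LK LD1_c17 LD2_c8 LD3_c20)) = (LP (LK LD1_c24 LD2_c53 LD3_c37)) :=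
  Lgr Lrot126 (Lpe (K41.f140906 IH) (Lpr_bt (K45.f140905 IH) (Lpr_gt (K49.f507720 IH) (Lpr_ct (f140935 IH) (Lpr_gt (f701020 IH) (Lpe (f701024 IH) (Lpr_bt (f711202 IH) (Lpr_gt (f711199 IH) (Lpe (f711198 IH) (Lpr_ct (f415800 IH) (Lpn (LP (LK LD1_c24 LD2_c53 LD3_c37)))))))))))))
theorem f711217 : Led Lsl_gt (LP (LK LD1_c24 LD2_c53 LD3_c37)) = (LP (LK LD1_c17 LD2_c8 LD3_c20)) :=
  Leop (Lpr_gf (f711216 IH) (Lpn (LP (LK LD1_c24 LD2_c53 LD3_c37))))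
theorem seed_752 : LEOK LG_g (LK LD1_c24 LD2_c53 LD3_c37) :=
  Leoe_g (LK LD1_c24 LD2_c53 LD3_c37) (f711217 IH)
def v13056 : LQ := Led Lsl_ct (LP (LK LD1_c4 LD2_c38 LD3_c38))
theorem f700762 : Led Lsl_ct (LP (LK LD1_c4 LD2_c38 LD3_c38)) = v13056 :=
  Lrfl
theorem f416349 : Led Lsl_ct (LP (LK LD1_c6 LD2_c26 LD3_c48)) = (LP (LK LD1_c3 LD2_c11 LD3_c20)) :=
  Lre_c IH (LK LD1_c6 LD2_c26 LD3_c48) (LK LD1_c3 LD2_c11 LD3_c20) Lrfl Lrfl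
def v5661 : LQ := Led Lsl_gt (LP (LK LD1_c3 LD2_c11 LD3_c20))
theorem f648737 : Led Lsl_gt (LP (LK LD1_c3 LD2_c11 LD3_c20)) = v5661 :=
  Lrfl
theorem f419072 : Led Lsl_ct (LP (LK LD1_c2 LD2_c57 LD3_c6)) = (LP (LK LD1_c6 LD2_c2 LD3_c0)) :=
  Lre_c IH (LK LD1_c2 LD2_c57 LD3_c6) (LK LD1_c6 LD2_c2 LD3_c0) Lrfl Lrfl
theorem f69115 : Led Lsl_bt (LP (LK LD1_c1 LD2_c32 LD3_c3)) = (LP (LK LD1_c3 LD2_c11 LD3_c20)) :=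
  Lre_b IH (LK LD1_c1 LD2_c32 LD3_c3) (LK LD1_c3 LD2_c11 LD3_c20) Lrfl Lrfl
theorem f698908 : K46.v6103 = (LP (LK LD1_c6 LD2_c2 LD3_c0)) :=
  Lefun (Lecon (K46.f651073 IH) (f698902 IH)) (f419072 IH)
theorem f56993 : Led Lsl_cf (LP (LK LD1_c3 LD2_c17 LD3_c47)) = (LP (LK LD1_c4 LD2_c59 LD3_c21)) :=
  Lgr Lrot11 (Lpr_ct (K4.f56855 IH) (Lpn (LP (LK LD1_c4 LD2_c59 LD3_c21))))
theorem f56988 : Led Lsl_bt (LP (LK LD1_c4 LD2_c59 LD3_c21)) = (LP (LK LD1_c2 LD2_c27 LD3_c35)) :=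
  Lre_b IH (LK LD1_c4 LD2_c59 LD3_c21) (LK LD1_c2 LD2_c27 LD3_c35) Lrfl Lrfl
theorem f698948 : v5661 = (LP (LK LD1_c2 LD2_c27 LD3_c35)) :=
  (Llr Lrot164 (Lpe (f648737 IH) (Lpe (f69115 IH) (Lpr_ct (K32.f69073 IH) (Lpr_gf (K32.f435519 IH) (Lpe (K32.f150499 IH) (Lpe (K32.f419065 IH) (Lpe (K51.f419068 IH) (Lpr_ct (f419072 IH) (Lpq (f698908 IH) (Lpe (K46.f651071 IH) (Lpr_cf (f56993 IH) (Lpr_bt (f56988 IH) (Lpn (LP (LK LD1_c2 LD2_c27 LD3_c35)))))))))))))))).symm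
theorem f75490 : Led Lsl_dt (LP (LK LD1_c2 LD2_c27 LD3_c35)) = (LP (LK LD1_c4 LD2_c59 LD3_c28)) :=
  Lre_d IH (LK LD1_c2 LD2_c27 LD3_c35) (LK LD1_c4 LD2_c59 LD3_c28) Lrfl Lrfl
theorem f75482 : Led Lsl_gt (LP (LK LD1_c4 LD2_c59 LD3_c28)) = (LP (LK LD1_c9 LD2_c49 LD3_c22)) :=
  Lre_g IH (LK LD1_c4 LD2_c59 LD3_c28) (LK LD1_c9 LD2_c49 LD3_c22) Lrfl Lrfl
theorem f75483 : Led Lsl_dt (LP (LK LD1_c9 LD2_c49 LD3_c22)) = (LP (LK LD1_c17 LD2_c59 LD3_c51)) :=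
  Lre_d IH (LK LD1_c9 LD2_c49 LD3_c22) (LK LD1_c17 LD2_c59 LD3_c51) Lrfl Lrfl
theorem f636076 : Led Lsl_ct (LP (LK LD1_c17 LD2_c59 LD3_c51)) = (LP (LK LD1_c27 LD2_c42 LD3_c61)) :=
  Lre_c IH (LK LD1_c17 LD2_c59 LD3_c51) (LK LD1_c27 LD2_c42 LD3_c61) Lrfl Lrfl
theorem f74633 : Led Lsl_et (LP (LK LD1_c1 LD2_c23 LD3_c60)) = (LP (LK LD1_c0 LD2_c38 LD3_c47)) :=
  Lre_e IH (LK LD1_c1 LD2_c23 LD3_c60) (LK LD1_c0 LD2_c38 LD3_c47) Lrfl Lrfl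
theorem f74632 : Led Lsl_dt (LP (LK LD1_c1 LD2_c23 LD3_c60)) = (LP (LK LD1_c2 LD2_c48 LD3_c2)) :=
  Lre_d IH (LK LD1_c1 LD2_c23 LD3_c60) (LK LD1_c2 LD2_c48 LD3_c2) Lrfl Lrfl
theorem f74620 : Led Lsl_gt (LP (LK LD1_c5 LD2_c44 LD3_c8)) = (LP (LK LD1_c2 LD2_c48 LD3_c2)) :=
  Lre_g IH (LK LD1_c5 LD2_c44 LD3_c8) (LK LD1_c2 LD2_c48 LD3_c2) Lrfl Lrfl
theorem f644911 : Led Lsl_gt (LP (LK LD1_c11 LD2_c46 LD3_c61)) = (LP (LK LD1_c9 LD2_c17 LD3_c10)) :=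
  Lgr Lrot137 (Lpe (K41.f642120 IH) (Lpr_dt (K41.f507156 IH) (Lpr_gf (K50.f644905 IH) (Lpe (K40.f74636 IH) (Lpr_et (K41.f74635 IH) (Lpe (K3.f74634 IH) (Lpe (f74633 IH) (Lpr_dt (f74632 IH) (Lpe (f74620 IH) (Lpe (K51.f74605 IH) (Lpn (LP (LK LD1_c9 LD2_c17 LD3_c10)))))))))))))
theorem f641708 : Led Lsl_bt (LP (LK LD1_c6 LD2_c3 LD3_c3)) = (LP (LK LD1_c11 LD2_c46 LD3_c61)) :=
  Lgr Lrot95 (Lpe (K32.f501057 IH) (Lpr_bf (K41.f641702 IH) (Lpe (K41.f641664 IH) (Lpn (LP (LK LD1_c11 LD2_c46 LD3_c61))))))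
theorem f445981 : Led Lsl_gf (LP (LK LD1_c4 LD2_c57 LD3_c53)) = (LP (LK LD1_c2 LD2_c52 LD3_c40)) :=
  Lgr Lrot144 (Lpr_dt (K51.f58954 IH) (Lpe (K51.f444689 IH) (Lpr_dt (K9.f40493 IH) (Lpr_cf (K2.f40467 IH) (Lpr_df (K2.f83255 IH) (Lpe (K35.f83919 IH) (Lpr_df (K35.f445977 IH) (Lpe (K35.f82606 IH) (Lpe (K46.f445596 IH) (Lpn (LP (LK LD1_c2 LD2_c52 LD3_c40))))))))))))
theorem f74609 : Led Lsl_bt (LP (LK LD1_c17 LD2_c12 LD3_c15)) = (LP (LK LD1_c9 LD2_c17 LD3_c10)) :=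
  Lre_b IH (LK LD1_c17 LD2_c12 LD3_c15) (LK LD1_c9 LD2_c17 LD3_c10) Lrfl Lrfl
theorem f61594 : Led Lsl_at (LP (LK LD1_c20 LD2_c22 LD3_c0)) = (LP (LK LD1_c11 LD2_c24 LD3_c22)) :=
  Lre_a IH (LK LD1_c20 LD2_c22 LD3_c0) (LK LD1_c11 LD2_c24 LD3_c22) Lrfl Lrfl
theorem f74289 : Led Lsl_ft (LP (LK LD1_c11 LD2_c24 LD3_c13)) = (LP (LK LD1_c20 LD2_c22 LD3_c0)) :=
  Lre_f IH (LK LD1_c11 LD2_c24 LD3_c13) (LK LD1_c20 LD2_c22 LD3_c0) Lrfl Lrfl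
theorem f414367 : Led Lsl_gt (LP (LK LD1_c11 LD2_c24 LD3_c13)) = (LP (LK LD1_c17 LD2_c12 LD3_c14)) :=
  Lgr Lrot5 (Lpr_ft (f74289 IH) (Lpr_at (f61594 IH) (Lpr_gf (K51.f414365 IH) (Lpn (LP (LK LD1_c17 LD2_c12 LD3_c14))))))
theorem f72897 : Led Lsl_et (LP (LK LD1_c5 LD2_c47 LD3_c0)) = (LP (LK LD1_c11 LD2_c24 LD3_c13)) :=
  Lre_e IH (LK LD1_c5 LD2_c47 LD3_c0) (LK LD1_c11 LD2_c24 LD3_c13) Lrfl Lrfl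
theorem f75402 : Led Lsl_et (LP (LK LD1_c2 LD2_c27 LD3_c42)) = (LP (LK LD1_c1 LD2_c10 LD3_c60)) :=
  Lre_e IH (LK LD1_c2 LD2_c27 LD3_c42) (LK LD1_c1 LD2_c10 LD3_c60) Lrfl Lrfl
theorem f75403 : Led Lsl_dt (LP (LK LD1_c2 LD2_c27 LD3_c42)) = (LP (LK LD1_c4 LD2_c59 LD3_c51)) :=
  Lre_d IH (LK LD1_c2 LD2_c27 LD3_c42) (LK LD1_c4 LD2_c59 LD3_c51) Lrfl Lrfl
theorem f75404 : Led Lsl_gt (LP (LK LD1_c9 LD2_c50 LD3_c9)) = (LP (LK LD1_c4 LD2_c59 LD3_c51)) :=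
  Lre_g IH (LK LD1_c9 LD2_c50 LD3_c9) (LK LD1_c4 LD2_c59 LD3_c51) Lrfl Lrfl
theorem f75405 : Led Lsl_dt (LP (LK LD1_c18 LD2_c1 LD3_c4)) = (LP (LK LD1_c9 LD2_c50 LD3_c9)) :=
  Lre_d IH (LK LD1_c18 LD2_c1 LD3_c4) (LK LD1_c9 LD2_c50 LD3_c9) Lrfl Lrfl
theorem f414373 : Led Lsl_et (LP (LK LD1_c18 LD2_c1 LD3_c4)) = (LP (LK LD1_c17 LD2_c12 LD3_c14)) :=
  Lgr Lrot122 (Lpr_dt (f75405 IH) (Lpr_gt (f75404 IH) (Lpe (f75403 IH) (Lpr_et (f75402 IH) (Lpr_gt (K4.f58947 IH) (Lpr_dt (K4.f72653 IH) (Lpr_gt (K4.f75389 IH) (Lpr_df (K2.f72893 IH) (Lpr_et (f72897 IH) (Lpr_gt (f414367 IH) (Lpn (LP (LK LD1_c17 LD2_c12 LD3_c14)))))))))))))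
theorem f414369 : Led Lsl_ct (LP (LK LD1_c17 LD2_c12 LD3_c14)) = (LP (LK LD1_c9 LD2_c17 LD3_c8)) :=
  Lre_c IH (LK LD1_c17 LD2_c12 LD3_c14) (LK LD1_c9 LD2_c17 LD3_c8) Lrfl Lrfl
theorem f74657 : Led Lsl_et (LP (LK LD1_c9 LD2_c17 LD3_c8)) = (LP (LK LD1_c17 LD2_c12 LD3_c15)) :=
  Lre_e IH (LK LD1_c9 LD2_c17 LD3_c8) (LK LD1_c17 LD2_c12 LD3_c15) Lrfl Lrfl
theorem f414379 : Led Lsl_cf (LP (LK LD1_c18 LD2_c1 LD3_c4)) = (LP (LK LD1_c17 LD2_c12 LD3_c15)) :=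
  Lgr Lrot39 (Lpr_et (f414373 IH) (Lpr_ct (f414369 IH) (Lpr_et (f74657 IH) (Lpn (LP (LK LD1_c17 LD2_c12 LD3_c15))))))
theorem f644916 : Led Lsl_gf (LP (LK LD1_c11 LD2_c31 LD3_c57)) = (LP (LK LD1_c18 LD2_c1 LD3_c4)) :=
  Lgr Lrot126 (Lpe (K41.f445603 IH) (Lpr_bt (K41.f445674 IH) (Lpe (f445981 IH) (Lpr_ct (K32.f503736 IH) (Lpe (K35.f503673 IH) (Lpr_cf (K32.f501060 IH) (Lpr_bt (f641708 IH) (Lpr_gt (f644911 IH) (Lpe (f74609 IH) (Lpe (f414379 IH) (Lpn (LP (LK LD1_c18 LD2_c1 LD3_c4)))))))))))))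
theorem f642506 : Led Lsl_at (LP (LK LD1_c17 LD2_c58 LD3_c49)) = (LP (LK LD1_c11 LD2_c31 LD3_c57)) :=
  Lgr Lrot100 (Lpr_af (K41.f642470 IH) (Lpn (LP (LK LD1_c11 LD2_c31 LD3_c57))))
theorem f642653 : Led Lsl_at (LP (LK LD1_c5 LD2_c57 LD3_c22)) = (LP (LK LD1_c9 LD2_c10 LD3_c46)) :=
  Lgr Lrot100 (Lpr_af (K45.f642588 IH) (Lpn (LP (LK LD1_c9 LD2_c10 LD3_c46))))
theorem f644692 : Led Lsl_gf (LP (LK LD1_c9 LD2_c10 LD3_c46)) = (LP (LK LD1_c6 LD2_c11 LD3_c54)) :=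
  Lgr Lrot76 (Lpe (f642653 IH) (Lpe (K45.f507089 IH) (Lpr_gt (K51.f644690 IH) (Lpn (LP (LK LD1_c6 LD2_c11 LD3_c54))))))
theorem f116937 : Led Lsl_ct (LP (LK LD1_c4 LD2_c33 LD3_c9)) = (LP (LK LD1_c9 LD2_c3 LD3_c34)) :=
  Lre_c IH (LK LD1_c4 LD2_c33 LD3_c9) (LK LD1_c9 LD2_c3 LD3_c34) Lrfl Lrfl
theorem f116938 : Led Lsl_gt (LP (LK LD1_c9 LD2_c3 LD3_c34)) = (LP (LK LD1_c16 LD2_c54 LD3_c37)) :=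
  Lre_g IH (LK LD1_c9 LD2_c3 LD3_c34) (LK LD1_c16 LD2_c54 LD3_c37) Lrfl Lrfl
theorem f415873 : Led Lsl_ct (LP (LK LD1_c16 LD2_c54 LD3_c37)) = (LP (LK LD1_c9 LD2_c46 LD3_c10)) :=
  Lgr Lrot59 (Lpr_cf (f415865 IH) (Lpn (LP (LK LD1_c9 LD2_c46 LD3_c10))))
theorem f415875 : Led Lsl_dt (LP (LK LD1_c17 LD2_c56 LD3_c0)) = (LP (LK LD1_c9 LD2_c46 LD3_c10)) :=
  Lre_d IH (LK LD1_c17 LD2_c56 LD3_c0) (LK LD1_c9 LD2_c46 LD3_c10) Lrfl Lrfl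
theorem f644698 : Led Lsl_ct (LP (LK LD1_c26 LD2_c58 LD3_c26)) = (LP (LK LD1_c17 LD2_c56 LD3_c0)) :=
  Lgr Lrot110 (Lpe (K51.f642649 IH) (Lpe (K45.f642592 IH) (Lpr_gf (f644692 IH) (Lpe (K51.f116931 IH) (Lpr_gt (K36.f116885 IH) (Lpr_ct (f116937 IH) (Lpr_gt (f116938 IH) (Lpr_ct (f415873 IH) (Lpe (f415875 IH) (Lpn (LP (LK LD1_c17 LD2_c56 LD3_c0))))))))))))
theorem f644703 : Led Lsl_cf (LP (LK LD1_c26 LD2_c58 LD3_c26)) = (LP (LK LD1_c17 LD2_c56 LD3_c0)) :=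
  Lgr Lrot11 (Lpr_ct (f644698 IH) (Lpn (LP (LK LD1_c17 LD2_c56 LD3_c0))))
theorem f644414 : Led Lsl_at (LP (LK LD1_c26 LD2_c52 LD3_c10)) = (LP (LK LD1_c20 LD2_c19 LD3_c60)) :=
  Lgr Lrot66 (Lpr_ff (K45.f644412 IH) (Lpe (K45.f642582 IH) (Lpr_ff (K45.f507566 IH) (Lpn (LP (LK LD1_c20 LD2_c19 LD3_c60))))))
theorem f644420 : Led Lsl_gf (LP (LK LD1_c20 LD2_c19 LD3_c60)) = (LP (LK LD1_c26 LD2_c58 LD3_c26)) :=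
  Lgr Lrot76 (Lpe (f644414 IH) (Lpr_ff (K45.f644412 IH) (Lpr_gt (K51.f642649 IH) (Lpn (LP (LK LD1_c26 LD2_c58 LD3_c26))))))
theorem f445602 : Led Lsl_bt (LP (LK LD1_c2 LD2_c52 LD3_c40)) = (LP (LK LD1_c5 LD2_c52 LD3_c49)) :=
  Lre_b IH (LK LD1_c2 LD2_c52 LD3_c40) (LK LD1_c5 LD2_c52 LD3_c49) Lrfl Lrfl
theorem f644700 : Led Lsl_bt (LP (LK LD1_c17 LD2_c56 LD3_c0)) = (LP (LK LD1_c9 LD2_c46 LD3_c12)) :=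
  Lre_b IH (LK LD1_c17 LD2_c56 LD3_c0) (LK LD1_c9 LD2_c46 LD3_c12) Lrfl Lrfl
theorem f644713 : Led Lsl_gt (LP (LK LD1_c5 LD2_c52 LD3_c49)) = (LP (LK LD1_c9 LD2_c46 LD3_c12)) :=
  Lgr Lrot164 (Lpe (f445602 IH) (Lpr_ct (K46.f445596 IH) (Lpe (K49.f444133 IH) (Lpe (K31.f140238 IH) (Lpr_gf (K35.f444638 IH) (Lpe (K45.f444632 IH) (Lpr_ct (K45.f444643 IH) (Lpr_gf (f644420 IH) (Lpr_cf (f644703 IH) (Lpr_bt (f644700 IH) (Lpn (LP (LK LD1_c9 LD2_c46 LD3_c12)))))))))))))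
theorem f644707 : Led Lsl_gt (LP (LK LD1_c9 LD2_c46 LD3_c12)) = (LP (LK LD1_c17 LD2_c56 LD3_c4)) :=
  Lre_g IH (LK LD1_c9 LD2_c46 LD3_c12) (LK LD1_c17 LD2_c56 LD3_c4) Lrfl Lrfl
theorem f644716 : Led Lsl_at (LP (LK LD1_c11 LD2_c31 LD3_c59)) = (LP (LK LD1_c17 LD2_c56 LD3_c4)) :=
  Lgr Lrot26 (Lpe (K41.f505761 IH) (Lpr_gt (f644713 IH) (Lpr_gt (f644707 IH) (Lpn (LP (LK LD1_c17 LD2_c56 LD3_c4))))))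
theorem f644737 : Led Lsl_ff (LP (LK LD1_c9 LD2_c48 LD3_c36)) = (LP (LK LD1_c17 LD2_c56 LD3_c4)) :=
  Lgr Lrot30 (Lpr_at (K41.f642462 IH) (Lpr_ft (K41.f505761 IH) (Lpr_at (f644716 IH) (Lpn (LP (LK LD1_c17 LD2_c56 LD3_c4))))))
theorem f644742 : Led Lsl_ft (LP (LK LD1_c9 LD2_c48 LD3_c36)) = (LP (LK LD1_c17 LD2_c56 LD3_c4)) :=
  Lgr Lrot48 (Lpr_ff (f644737 IH) (Lpn (LP (LK LD1_c17 LD2_c56 LD3_c4))))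
theorem f644715 : Led Lsl_ct (LP (LK LD1_c17 LD2_c56 LD3_c4)) = (LP (LK LD1_c27 LD2_c41 LD3_c4)) :=
  Lre_c IH (LK LD1_c17 LD2_c56 LD3_c4) (LK LD1_c27 LD2_c41 LD3_c4) Lrfl Lrfl
theorem f644744 : Led Lsl_ff (LP (LK LD1_c17 LD2_c58 LD3_c49)) = (LP (LK LD1_c27 LD2_c41 LD3_c4)) :=
  Lgr Lrot23 (Lpr_ct (K41.f642458 IH) (Lpr_ft (f644742 IH) (Lpr_ct (f644715 IH) (Lpn (LP (LK LD1_c27 LD2_c41 LD3_c4))))))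
theorem f644918 : Led Lsl_gt (LP (LK LD1_c27 LD2_c41 LD3_c4)) = (LP (LK LD1_c18 LD2_c1 LD3_c4)) :=
  Lgr Lrot5 (Lpe (f644744 IH) (Lpr_at (f642506 IH) (Lpr_gf (f644916 IH) (Lpn (LP (LK LD1_c18 LD2_c1 LD3_c4))))))
theorem f644739 : Led Lsl_ct (LP (LK LD1_c27 LD2_c41 LD3_c4)) = (LP (LK LD1_c17 LD2_c56 LD3_c4)) :=
  Lre_c IH (LK LD1_c27 LD2_c41 LD3_c4) (LK LD1_c17 LD2_c56 LD3_c4) Lrfl Lrfl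
theorem f77417 : Led Lsl_dt (LP (LK LD1_c4 LD2_c59 LD3_c51)) = (LP (LK LD1_c2 LD2_c27 LD3_c42)) :=
  Lre_d IH (LK LD1_c4 LD2_c59 LD3_c51) (LK LD1_c2 LD2_c27 LD3_c42) Lrfl Lrfl
theorem f77422 : Led Lsl_dt (LP (LK LD1_c2 LD2_c26 LD3_c41)) = (LP (LK LD1_c1 LD2_c10 LD3_c61)) :=
  Lre_d IH (LK LD1_c2 LD2_c26 LD3_c41) (LK LD1_c1 LD2_c10 LD3_c61) Lrfl Lrfl
theorem f75453 : Led Lsl_gt (LP (LK LD1_c4 LD2_c57 LD3_c40)) = (LP (LK LD1_c2 LD2_c26 LD3_c41)) :=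
  Lre_g IH (LK LD1_c4 LD2_c57 LD3_c40) (LK LD1_c2 LD2_c26 LD3_c41) Lrfl Lrfl
theorem f75454 : Led Lsl_dt (LP (LK LD1_c9 LD2_c46 LD3_c15)) = (LP (LK LD1_c4 LD2_c57 LD3_c40)) :=
  Lre_d IH (LK LD1_c9 LD2_c46 LD3_c15) (LK LD1_c4 LD2_c57 LD3_c40) Lrfl Lrfl
theorem f644920 : Led Lsl_gt (LP (LK LD1_c17 LD2_c56 LD3_c4)) = (LP (LK LD1_c9 LD2_c46 LD3_c15)) :=
  Lgr Lrot94 (Lpe (f644739 IH) (Lpr_gt (f644918 IH) (Lpr_dt (f75405 IH) (Lpr_gt (f75404 IH) (Lpr_dt (f77417 IH) (Lpe (K32.f77400 IH) (Lpe (f77422 IH) (Lpe (f75453 IH) (Lpe (f75454 IH) (Lpn (LP (LK LD1_c9 LD2_c46 LD3_c15))))))))))))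
theorem f75452 : Led Lsl_dt (LP (LK LD1_c1 LD2_c10 LD3_c61)) = (LP (LK LD1_c2 LD2_c26 LD3_c41)) :=
  Lre_d IH (LK LD1_c1 LD2_c10 LD3_c61) (LK LD1_c2 LD2_c26 LD3_c41) Lrfl Lrfl
theorem f563833 : Led Lsl_dt (LP (LK LD1_c17 LD2_c59 LD3_c51)) = (LP (LK LD1_c9 LD2_c49 LD3_c22)) :=
  Lre_d IH (LK LD1_c17 LD2_c59 LD3_c51) (LK LD1_c9 LD2_c49 LD3_c22) Lrfl Lrfl
theorem f644927 : Led Lsl_ef (LP (LK LD1_c17 LD2_c56 LD3_c4)) = (LP (LK LD1_c17 LD2_c59 LD3_c51)) :=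
  Lgr Lrot167 (Lpr_gt (f644920 IH) (Lpr_dt (f75454 IH) (Lpr_gt (f75453 IH) (Lpe (f75452 IH) (Lpr_et (K17.f75451 IH) (Lpr_gt (K4.f56864 IH) (Lpe (K8.f75443 IH) (Lpr_dt (f75490 IH) (Lpr_gt (f75482 IH) (Lpe (f563833 IH) (Lpn (LP (LK LD1_c17 LD2_c59 LD3_c51)))))))))))))
theorem f505250 : Led Lsl_et (LP (LK LD1_c6 LD2_c30 LD3_c3)) = (LP (LK LD1_c12 LD2_c29 LD3_c44)) :=
  Lre_e IH (LK LD1_c6 LD2_c30 LD3_c3) (LK LD1_c12 LD2_c29 LD3_c44) Lrfl Lrfl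
theorem f644936 : Led Lsl_ft (LP (LK LD1_c12 LD2_c29 LD3_c44)) = (LP (LK LD1_c17 LD2_c59 LD3_c51)) :=
  Lgr Lrot86 (Lpe (f505250 IH) (Lpr_ff (K41.f640882 IH) (Lpqs (K41.f642213 IH) (Lpe (K41.f642224 IH) (Lpr_ff (f644737 IH) (Lpr_ef (f644927 IH) (Lpn (LP (LK LD1_c17 LD2_c59 LD3_c51)))))))))
theorem f644944 : Led Lsl_ff (LP (LK LD1_c12 LD2_c29 LD3_c44)) = (LP (LK LD1_c17 LD2_c59 LD3_c51)) :=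
  Lgr Lrot3 (Lpr_ft (f644936 IH) (Lpn (LP (LK LD1_c17 LD2_c59 LD3_c51))))
theorem f505235 : Led Lsl_ct (LP (LK LD1_c12 LD2_c29 LD3_c44)) = (LP (LK LD1_c21 LD2_c36 LD3_c10)) :=
  Lre_c IH (LK LD1_c12 LD2_c29 LD3_c44) (LK LD1_c21 LD2_c36 LD3_c10) Lrfl Lrfl
theorem f636077 : Led Lsl_ct (LP (LK LD1_c27 LD2_c42 LD3_c61)) = (LP (LK LD1_c17 LD2_c59 LD3_c51)) :=
  Lre_c IH (LK LD1_c27 LD2_c42 LD3_c61) (LK LD1_c17 LD2_c59 LD3_c51) Lrfl Lrfl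
theorem f644948 : Led Lsl_ft (LP (LK LD1_c21 LD2_c36 LD3_c10)) = (LP (LK LD1_c27 LD2_c42 LD3_c61)) :=
  Lgr Lrot4 (Lpe (f505235 IH) (Lpr_ff (f644944 IH) (Lpe (f636077 IH) (Lpn (LP (LK LD1_c27 LD2_c42 LD3_c61))))))
theorem f502543 : Led Lsl_gt (LP (LK LD1_c9 LD2_c49 LD3_c47)) = (LP (LK LD1_c18 LD2_c0 LD3_c25)) :=
  Lre_g IH (LK LD1_c9 LD2_c49 LD3_c47) (LK LD1_c18 LD2_c0 LD3_c25) Lrfl Lrfl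
theorem f644367 : Led Lsl_at (LP (LK LD1_c20 LD2_c45 LD3_c2)) = (LP (LK LD1_c18 LD2_c0 LD3_c25)) :=
  Lgr Lrot26 (Lpr_ff (K51.f644361 IH) (Lpr_gt (K45.f502518 IH) (Lpr_gt (f502543 IH) (Lpn (LP (LK LD1_c18 LD2_c0 LD3_c25))))))
theorem f505746 : Led Lsl_at (LP (LK LD1_c12 LD2_c29 LD3_c32)) = (LP (LK LD1_c21 LD2_c36 LD3_c10)) :=
  Lre_a IH (LK LD1_c12 LD2_c29 LD3_c32) (LK LD1_c21 LD2_c36 LD3_c10) Lrfl Lrfl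
theorem f644349 : Led Lsl_at (LP (LK LD1_c20 LD2_c45 LD3_c3)) = (LP (LK LD1_c18 LD2_c0 LD3_c26)) :=
  Lgr Lrot51 (Lpr_df (K45.f644347 IH) (Lpe (f505746 IH) (Lpr_df (K45.f642186 IH) (Lpn (LP (LK LD1_c18 LD2_c0 LD3_c26))))))
theorem f644371 : Led Lsl_ff (LP (LK LD1_c20 LD2_c45 LD3_c3)) = (LP (LK LD1_c18 LD2_c0 LD3_c25)) :=
  Lgr Lrot30 (Lpr_at (f644349 IH) (Lpe (K51.f644361 IH) (Lpr_at (f644367 IH) (Lpn (LP (LK LD1_c18 LD2_c0 LD3_c25))))))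
theorem f644954 : Led Lsl_df (LP (LK LD1_c18 LD2_c0 LD3_c25)) = (LP (LK LD1_c27 LD2_c42 LD3_c61)) :=
  Lgr Lrot78 (Lpe (f644371 IH) (Lpr_dt (K45.f644351 IH) (Lpr_ft (f644948 IH) (Lpn (LP (LK LD1_c27 LD2_c42 LD3_c61))))))
theorem f644963 : Led Lsl_dt (LP (LK LD1_c18 LD2_c0 LD3_c25)) = (LP (LK LD1_c27 LD2_c42 LD3_c61)) :=
  Lgr Lrot42 (Lpr_df (f644954 IH) (Lpn (LP (LK LD1_c27 LD2_c42 LD3_c61))))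
theorem f698967 : Led Lsl_gt (LP (LK LD1_c6 LD2_c26 LD3_c48)) = (LP (LK LD1_c4 LD2_c59 LD3_c41)) :=
  Lgr Lrot180 (Lpr_ct (f416349 IH) (Lpr_gt (f648737 IH) (Lpqs (f698948 IH) (Lpr_dt (f75490 IH) (Lpr_gt (f75482 IH) (Lpr_dt (f75483 IH) (Lpr_ct (f636076 IH) (Lpe (f644963 IH) (Lpe (f502543 IH) (Lpe (K45.f502476 IH) (Lpn (LP (LK LD1_c4 LD2_c59 LD3_c41)))))))))))))
theorem f502477 : Led Lsl_dt (LP (LK LD1_c11 LD2_c43 LD3_c51)) = (LP (LK LD1_c5 LD2_c59 LD3_c38)) :=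
  Lre_d IH (LK LD1_c11 LD2_c43 LD3_c51) (LK LD1_c5 LD2_c59 LD3_c38) Lrfl Lrfl
theorem f502478 : Led Lsl_af (LP (LK LD1_c4 LD2_c59 LD3_c41)) = (LP (LK LD1_c5 LD2_c59 LD3_c38)) :=
  Lgr Lrot117 (Lpr_dt (K45.f502476 IH) (Lpr_at (K42.f502466 IH) (Lpr_dt (f502477 IH) (Lpn (LP (LK LD1_c5 LD2_c59 LD3_c38))))))
theorem f502461 : Led Lsl_ft (LP (LK LD1_c11 LD2_c43 LD3_c52)) = (LP (LK LD1_c5 LD2_c59 LD3_c38)) :=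
  Lre_f IH (LK LD1_c11 LD2_c43 LD3_c52) (LK LD1_c5 LD2_c59 LD3_c38) Lrfl Lrfl
theorem f698969 : Led Lsl_gf (LP (LK LD1_c6 LD2_c26 LD3_c48)) = (LP (LK LD1_c11 LD2_c43 LD3_c52)) :=
  Lgr Lrot47 (Lpr_gt (f698967 IH) (Lpr_af (f502478 IH) (Lpe (f502461 IH) (Lpn (LP (LK LD1_c11 LD2_c43 LD3_c52))))))
theorem f416352 : Led Lsl_ct (LP (LK LD1_c3 LD2_c11 LD3_c20)) = (LP (LK LD1_c6 LD2_c26 LD3_c48)) :=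
  Lre_c IH (LK LD1_c3 LD2_c11 LD3_c20) (LK LD1_c6 LD2_c26 LD3_c48) Lrfl Lrfl
theorem f416348 : Led Lsl_bt (LP (LK LD1_c3 LD2_c11 LD3_c20)) = (LP (LK LD1_c1 LD2_c32 LD3_c3)) :=
  Lre_b IH (LK LD1_c3 LD2_c11 LD3_c20) (LK LD1_c1 LD2_c32 LD3_c3) Lrfl Lrfl
theorem f502455 : Led Lsl_ct (LP (LK LD1_c5 LD2_c59 LD3_c42)) = (LP (LK LD1_c11 LD2_c43 LD3_c52)) :=
  Lre_c IH (LK LD1_c5 LD2_c59 LD3_c42) (LK LD1_c11 LD2_c43 LD3_c52) Lrfl Lrfl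
def v4482 : LQ := Led Lsl_gt (LP (LK LD1_c2 LD2_c22 LD3_c20))
theorem f634117 : Led Lsl_gt (LP (LK LD1_c2 LD2_c22 LD3_c20)) = v4482 :=
  Lrfl
theorem f634118 : Led Lsl_gf (LP (LK LD1_c2 LD2_c56 LD3_c19)) = v4482 :=
  Lgr Lrot76 (Lpr_af (K37.f501906 IH) (Lpe (K40.f495134 IH) (Lpr_gt (f634117 IH) (Lpn v4482))))
theorem f698974 : (LP (LK LD1_c4 LD2_c38 LD3_c38)) = v4482 :=
  (Llr Lrot22 (Lpe (K51.f435486 IH) (Lpe (K32.f435487 IH) (Lpe (K29.f23280 IH) (Lpe (K32.f437345 IH) (Lpe (K17.f416250 IH) (Lpe (f416348 IH) (Lpr_ct (f416352 IH) (Lpr_gf (f698969 IH) (Lpe (f502455 IH) (Lpr_bt (K37.f501437 IH) (Lpr_gf (f634118 IH) (Lpn v4482))))))))))))).symm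
theorem f502609 : Led Lsl_gt (LP (LK LD1_c6 LD2_c0 LD3_c0)) = (LP (LK LD1_c9 LD2_c30 LD3_c23)) :=
  Lgr Lrot5 (Lpr_ft (K40.f75818 IH) (Lpr_at (K40.f502603 IH) (Lpe (K41.f427466 IH) (Lpn (LP (LK LD1_c9 LD2_c30 LD3_c23))))))
theorem f642142 : Led Lsl_df (LP (LK LD1_c11 LD2_c39 LD3_c51)) = (LP (LK LD1_c9 LD2_c30 LD3_c23)) :=
  Lgr Lrot38 (Lpr_dt (K41.f642139 IH) (Lpn (LP (LK LD1_c9 LD2_c30 LD3_c23))))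
theorem f507159 : Led Lsl_ct (LP (LK LD1_c20 LD2_c39 LD3_c51)) = (LP (LK LD1_c11 LD2_c39 LD3_c51)) :=
  Lre_c IH (LK LD1_c20 LD2_c39 LD3_c51) (LK LD1_c11 LD2_c39 LD3_c51) Lrfl Lrfl
theorem f56724 : Led Lsl_et (LP (LK LD1_c5 LD2_c52 LD3_c45)) = (LP (LK LD1_c2 LD2_c52 LD3_c37)) :=
  Lre_e IH (LK LD1_c5 LD2_c52 LD3_c45) (LK LD1_c2 LD2_c52 LD3_c37) Lrfl Lrfl
theorem f56703 : Led Lsl_dt (LP (LK LD1_c5 LD2_c52 LD3_c45)) = (LP (LK LD1_c5 LD2_c49 LD3_c0)) :=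
  Lgr Lrot79 (Lpe (K41.f56701 IH) (Lpr_df (K24.f56695 IH) (Lpe (K45.f56702 IH) (Lpn (LP (LK LD1_c5 LD2_c49 LD3_c0))))))
theorem f150006 : Led Lsl_et (LP (LK LD1_c3 LD2_c59 LD3_c43)) = (LP (LK LD1_c1 LD2_c56 LD3_c31)) :=
  Lre_e IH (LK LD1_c3 LD2_c59 LD3_c43) (LK LD1_c1 LD2_c56 LD3_c31) Lrfl Lrfl
theorem f711271 : Led Lsl_gt (LP (LK LD1_c5 LD2_c49 LD3_c0)) = (LP (LK LD1_c8 LD2_c0 LD3_c29)) :=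
  Lgr Lrot112 (Lpe (f56703 IH) (Lpr_et (f56724 IH) (Lpr_gf (f640861 IH) (Lpqs (f711180 IH) (Lpe (f101609 IH) (Lpr_dt (K8.f37072 IH) (Lpr_gf (K5.f101598 IH) (Lpe (K7.f99547 IH) (Lpr_gf (K7.f156751 IH) (Lpe (f150006 IH) (Lpr_dt (K32.f149989 IH) (Lpn (LP (LK LD1_c8 LD2_c0 LD3_c29))))))))))))))
theorem f56692 : Led Lsl_bt (LP (LK LD1_c2 LD2_c50 LD3_c33)) = (LP (LK LD1_c5 LD2_c49 LD3_c0)) :=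
  Lre_b IH (LK LD1_c2 LD2_c50 LD3_c33) (LK LD1_c5 LD2_c49 LD3_c0) Lrfl Lrfl
def v4846 : LQ := Led Lsl_ct (LP (LK LD1_c2 LD2_c50 LD3_c33))
theorem f640571 : Led Lsl_ct (LP (LK LD1_c2 LD2_c50 LD3_c33)) = v4846 :=
  Lrfl
def v5082 : LQ := Led Lsl_ct (LP (LK LD1_c2 LD2_c57 LD3_c11))
theorem f645270 : Led Lsl_ct (LP (LK LD1_c2 LD2_c57 LD3_c11)) = v5082 :=
  Lrfl
theorem f505479 : Led Lsl_cf (LP (LK LD1_c4 LD2_c43 LD3_c50)) = (LP (LK LD1_c9 LD2_c9 LD3_c9)) :=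
  Lgr Lrot11 (Lpr_ct (K32.f505477 IH) (Lpn (LP (LK LD1_c9 LD2_c9 LD3_c9))))
theorem f640572 : Led Lsl_cf (LP (LK LD1_c2 LD2_c50 LD3_c33)) = v4846 :=
  Lgr Lrot11 (Lpr_ct (f640571 IH) (Lpn v4846))
theorem f645273 : Led Lsl_gf v4846 = v5082 :=
  Lgr Lrot104 (Lpe (f640572 IH) (Lpe (K24.f56684 IH) (Lpe (K32.f438438 IH) (Lpe (K32.f26274 IH) (Lpr_cf (f505479 IH) (Lpe (K50.f507531 IH) (Lpr_df (K41.f507150 IH) (Lpr_gt (K41.f210147 IH) (Lpr_ct (f645270 IH) (Lpn v5082))))))))))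
theorem f450476 : Led Lsl_et (LP (LK LD1_c6 LD2_c17 LD3_c7)) = (LP (LK LD1_c12 LD2_c10 LD3_c60)) :=
  Lre_e IH (LK LD1_c6 LD2_c17 LD3_c7) (LK LD1_c12 LD2_c10 LD3_c60) Lrfl Lrfl
theorem f558859 : Led Lsl_bf (LP (LK LD1_c8 LD2_c0 LD3_c29)) = (LP (LK LD1_c12 LD2_c10 LD3_c60)) :=
  Lgr Lrot96 (Lpe (K32.f149990 IH) (Lpr_bt (K40.f558853 IH) (Lpr_et (f450476 IH) (Lpn (LP (LK LD1_c12 LD2_c10 LD3_c60))))))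
theorem f568360 : Led Lsl_bf (LP (LK LD1_c8 LD2_c46 LD3_c19)) = (LP (LK LD1_c11 LD2_c24 LD3_c41)) :=
  Lgr Lrot156 (Lpr_gt (K40.f419577 IH) (Lpe (K37.f74700 IH) (Lpe (K37.f419538 IH) (Lpe (K50.f567505 IH) (Lpr_cf (K50.f558806 IH) (Lpe (K50.f558804 IH) (Lpr_gt (K42.f568354 IH) (Lpr_ct (K42.f61377 IH) (Lpr_gt (K38.f421283 IH) (Lpe (K40.f150002 IH) (Lpn (LP (LK LD1_c11 LD2_c24 LD3_c41)))))))))))))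
theorem f70510 : Led Lsl_et (LP (LK LD1_c8 LD2_c46 LD3_c19)) = (LP (LK LD1_c16 LD2_c24 LD3_c40)) :=
  Lre_e IH (LK LD1_c8 LD2_c46 LD3_c19) (LK LD1_c16 LD2_c24 LD3_c40) Lrfl Lrfl
theorem f149999 : Led Lsl_et (LP (LK LD1_c5 LD2_c47 LD3_c17)) = (LP (LK LD1_c8 LD2_c0 LD3_c29)) :=
  Lgr Lrot87 (Lpr_ef (K32.f149990 IH) (Lpn (LP (LK LD1_c8 LD2_c0 LD3_c29))))
theorem f150003 : Led Lsl_ct (LP (LK LD1_c8 LD2_c0 LD3_c29)) = (LP (LK LD1_c15 LD2_c5 LD3_c10)) :=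
  Lre_c IH (LK LD1_c8 LD2_c0 LD3_c29) (LK LD1_c15 LD2_c5 LD3_c10) Lrfl Lrfl
theorem f150004 : Led Lsl_ef (LP (LK LD1_c11 LD2_c24 LD3_c41)) = (LP (LK LD1_c15 LD2_c5 LD3_c10)) :=
  Lgr Lrot28 (Lpr_ct (K40.f150002 IH) (Lpr_et (f149999 IH) (Lpr_ct (f150003 IH) (Lpn (LP (LK LD1_c15 LD2_c5 LD3_c10))))))
theorem f568367 : Led Lsl_bt (LP (LK LD1_c16 LD2_c24 LD3_c40)) = (LP (LK LD1_c15 LD2_c5 LD3_c10)) :=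
  Lgr Lrot119 (Lpe (f70510 IH) (Lpr_bf (f568360 IH) (Lpr_ef (f150004 IH) (Lpn (LP (LK LD1_c15 LD2_c5 LD3_c10))))))
theorem f568371 : Led Lsl_bf (LP (LK LD1_c16 LD2_c24 LD3_c40)) = (LP (LK LD1_c15 LD2_c5 LD3_c10)) :=
  Lgr Lrot24 (Lpr_bt (f568367 IH) (Lpn (LP (LK LD1_c15 LD2_c5 LD3_c10))))
theorem f38552 : Led Lsl_et (LP (LK LD1_c8 LD2_c48 LD3_c1)) = (LP (LK LD1_c16 LD2_c28 LD3_c9)) :=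
  Lre_e IH (LK LD1_c8 LD2_c48 LD3_c1) (LK LD1_c16 LD2_c28 LD3_c9) Lrfl Lrfl
theorem f70505 : Led Lsl_et (LP (LK LD1_c16 LD2_c24 LD3_c40)) = (LP (LK LD1_c8 LD2_c46 LD3_c19)) :=
  Lre_e IH (LK LD1_c16 LD2_c24 LD3_c40) (LK LD1_c8 LD2_c46 LD3_c19) Lrfl Lrfl
theorem f70506 : Led Lsl_ct (LP (LK LD1_c16 LD2_c28 LD3_c9)) = (LP (LK LD1_c16 LD2_c24 LD3_c40)) :=
  Lgr Lrot15 (Lpe (f38552 IH) (Lpr_cf (K6.f70497 IH) (Lpe (f70505 IH) (Lpn (LP (LK LD1_c16 LD2_c24 LD3_c40))))))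
theorem f70508 : Led Lsl_cf (LP (LK LD1_c16 LD2_c28 LD3_c9)) = (LP (LK LD1_c16 LD2_c24 LD3_c40)) :=
  Lgr Lrot11 (Lpr_ct (f70506 IH) (Lpn (LP (LK LD1_c16 LD2_c24 LD3_c40))))
theorem f38553 : Led Lsl_et (LP (LK LD1_c16 LD2_c29 LD3_c17)) = (LP (LK LD1_c8 LD2_c48 LD3_c57)) :=
  Lre_e IH (LK LD1_c16 LD2_c29 LD3_c17) (LK LD1_c8 LD2_c48 LD3_c57) Lrfl Lrfl
theorem f38554 : Led Lsl_bt (LP (LK LD1_c16 LD2_c28 LD3_c9)) = (LP (LK LD1_c16 LD2_c29 LD3_c17)) :=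
  Lgr Lrot119 (Lpe (f38552 IH) (Lpr_bf (K40.f38546 IH) (Lpe (f38553 IH) (Lpn (LP (LK LD1_c16 LD2_c29 LD3_c17))))))
theorem f568375 : Led Lsl_ct (LP (LK LD1_c16 LD2_c29 LD3_c17)) = (LP (LK LD1_c12 LD2_c10 LD3_c60)) :=
  Lgr Lrot83 (Lpe (f38554 IH) (Lpr_cf (f70508 IH) (Lpr_bf (f568371 IH) (Lpe (f150003 IH) (Lpr_bf (f558859 IH) (Lpn (LP (LK LD1_c12 LD2_c10 LD3_c60))))))))
theorem f568377 : Led Lsl_cf (LP (LK LD1_c16 LD2_c29 LD3_c17)) = (LP (LK LD1_c12 LD2_c10 LD3_c60)) :=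
  Lgr Lrot11 (Lpr_ct (f568375 IH) (Lpn (LP (LK LD1_c12 LD2_c10 LD3_c60))))
theorem f711277 : Led Lsl_gf (LP (LK LD1_c8 LD2_c50 LD3_c10)) = (LP (LK LD1_c16 LD2_c29 LD3_c17)) :=
  Lgr Lrot126 (Lpe (K50.f645033 IH) (Lpr_bt (K41.f210149 IH) (Lpr_gt (K41.f210147 IH) (Lpr_ct (f645270 IH) (Lpe (f645273 IH) (Lpe (f640571 IH) (Lpr_bt (f56692 IH) (Lpr_gt (f711271 IH) (Lpr_bf (f558859 IH) (Lpe (f568377 IH) (Lpn (LP (LK LD1_c16 LD2_c29 LD3_c17)))))))))))))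
theorem f502635 : Led Lsl_ct (LP (LK LD1_c5 LD2_c59 LD3_c61)) = (LP (LK LD1_c11 LD2_c44 LD3_c29)) :=
  Lre_c IH (LK LD1_c5 LD2_c59 LD3_c61) (LK LD1_c11 LD2_c44 LD3_c29) Lrfl Lrfl
theorem f645030 : Led Lsl_at (LP (LK LD1_c11 LD2_c44 LD3_c29)) = (LP (LK LD1_c8 LD2_c50 LD3_c10)) :=
  Lgr Lrot107 (Lpe (f502635 IH) (Lpr_af (K41.f641944 IH) (Lpr_cf (K50.f644909 IH) (Lpn (LP (LK LD1_c8 LD2_c50 LD3_c10))))))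
theorem f644681 : Led Lsl_ft (LP (LK LD1_c5 LD2_c59 LD3_c61)) = (LP (LK LD1_c9 LD2_c30 LD3_c23)) :=
  Lgr Lrot75 (Lpe (K46.f644667 IH) (Lpr_ff (K46.f644679 IH) (Lpr_bf (K46.f642408 IH) (Lpn (LP (LK LD1_c9 LD2_c30 LD3_c23))))))
theorem f502637 : Led Lsl_ct (LP (LK LD1_c11 LD2_c44 LD3_c29)) = (LP (LK LD1_c5 LD2_c59 LD3_c61)) :=
  Lre_c IH (LK LD1_c11 LD2_c44 LD3_c29) (LK LD1_c5 LD2_c59 LD3_c61) Lrfl Lrfl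
theorem f502611 : Led Lsl_ct (LP (LK LD1_c9 LD2_c30 LD3_c23)) = (LP (LK LD1_c17 LD2_c31 LD3_c45)) :=
  Lre_c IH (LK LD1_c9 LD2_c30 LD3_c23) (LK LD1_c17 LD2_c31 LD3_c45) Lrfl Lrfl
theorem f644765 : Led Lsl_ff (LP (LK LD1_c11 LD2_c44 LD3_c29)) = (LP (LK LD1_c17 LD2_c31 LD3_c45)) :=
  Lgr Lrot23 (Lpr_ct (f502637 IH) (Lpr_ft (f644681 IH) (Lpr_ct (f502611 IH) (Lpn (LP (LK LD1_c17 LD2_c31 LD3_c45))))))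
theorem f711279 : Led Lsl_gt (LP (LK LD1_c17 LD2_c31 LD3_c45)) = (LP (LK LD1_c16 LD2_c29 LD3_c17)) :=
  Lgr Lrot5 (Lpe (f644765 IH) (Lpr_at (f645030 IH) (Lpr_gf (f711277 IH) (Lpn (LP (LK LD1_c16 LD2_c29 LD3_c17))))))
theorem f452877 : Led Lsl_ft (LP (LK LD1_c2 LD2_c56 LD3_c19)) = (LP (LK LD1_c1 LD2_c24 LD3_c1)) :=
  Lre_f IH (LK LD1_c2 LD2_c56 LD3_c19) (LK LD1_c1 LD2_c24 LD3_c1) Lrfl Lrfl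
theorem f452962 : Led Lsl_gt (LP (LK LD1_c4 LD2_c48 LD3_c56)) = (LP (LK LD1_c2 LD2_c22 LD3_c20)) :=
  Lre_g IH (LK LD1_c4 LD2_c48 LD3_c56) (LK LD1_c2 LD2_c22 LD3_c20) Lrfl Lrfl
theorem f502760 : Led Lsl_gt (LP (LK LD1_c2 LD2_c56 LD3_c19)) = (LP (LK LD1_c4 LD2_c48 LD3_c56)) :=
  Lgr Lrot5 (Lpr_ft (f452877 IH) (Lpr_at (K40.f500801 IH) (Lpqs (K40.f501396 IH) (Lpe (f452962 IH) (Lpn (LP (LK LD1_c4 LD2_c48 LD3_c56)))))))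
def v13836 : LQ := Led Lsl_ct (LP (LK LD1_c4 LD2_c48 LD3_c56))
theorem f705164 : Led Lsl_ct (LP (LK LD1_c4 LD2_c48 LD3_c56)) = v13836 :=
  Lrfl
theorem f38556 : Led Lsl_bf (LP (LK LD1_c16 LD2_c28 LD3_c9)) = (LP (LK LD1_c16 LD2_c29 LD3_c17)) :=
  Lgr Lrot24 (Lpr_bt (f38554 IH) (Lpn (LP (LK LD1_c16 LD2_c29 LD3_c17))))
theorem f149996 : Led Lsl_ct (LP (LK LD1_c15 LD2_c5 LD3_c10)) = (LP (LK LD1_c8 LD2_c0 LD3_c29)) :=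
  Lre_c IH (LK LD1_c15 LD2_c5 LD3_c10) (LK LD1_c8 LD2_c0 LD3_c29) Lrfl Lrfl
theorem f568379 : Led Lsl_bt (LP (LK LD1_c8 LD2_c0 LD3_c29)) = (LP (LK LD1_c12 LD2_c10 LD3_c60)) :=
  Lgr Lrot128 (Lpe (f149996 IH) (Lpe (f568367 IH) (Lpe (f70506 IH) (Lpr_bf (f38556 IH) (Lpr_cf (f568377 IH) (Lpn (LP (LK LD1_c12 LD2_c10 LD3_c60))))))))
theorem f150019 : Led Lsl_bt (LP (LK LD1_c8 LD2_c0 LD3_c25)) = (LP (LK LD1_c3 LD2_c59 LD3_c43)) :=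
  Lre_b IH (LK LD1_c8 LD2_c0 LD3_c25) (LK LD1_c3 LD2_c59 LD3_c43) Lrfl Lrfl
theorem f568383 : Led Lsl_df (LP (LK LD1_c8 LD2_c0 LD3_c25)) = (LP (LK LD1_c12 LD2_c10 LD3_c60)) :=
  Lgr Lrot12 (Lpr_bt (f150019 IH) (Lpr_dt (K32.f149989 IH) (Lpr_bt (f568379 IH) (Lpn (LP (LK LD1_c12 LD2_c10 LD3_c60))))))
theorem f568387 : Led Lsl_dt (LP (LK LD1_c8 LD2_c0 LD3_c25)) = (LP (LK LD1_c12 LD2_c10 LD3_c60)) :=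
  Lgr Lrot42 (Lpr_df (f568383 IH) (Lpn (LP (LK LD1_c12 LD2_c10 LD3_c60))))
theorem f105045 : Led Lsl_et (LP (LK LD1_c2 LD2_c21 LD3_c15)) = (LP (LK LD1_c4 LD2_c46 LD3_c39)) :=
  Lre_e IH (LK LD1_c2 LD2_c21 LD3_c15) (LK LD1_c4 LD2_c46 LD3_c39) Lrfl Lrfl
theorem f156779 : Led Lsl_et (LP (LK LD1_c8 LD2_c0 LD3_c25)) = (LP (LK LD1_c3 LD2_c59 LD3_c41)) :=
  Lre_e IH (LK LD1_c8 LD2_c0 LD3_c25) (LK LD1_c3 LD2_c59 LD3_c41) Lrfl Lrfl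
theorem f156780 : Led Lsl_ct (LP (LK LD1_c4 LD2_c46 LD3_c39)) = (LP (LK LD1_c8 LD2_c0 LD3_c25)) :=
  Lgr Lrot15 (Lpe (f105045 IH) (Lpr_cf (K7.f156754 IH) (Lpe (f156779 IH) (Lpn (LP (LK LD1_c8 LD2_c0 LD3_c25))))))
def v13661 : LQ := Led Lsl_gf (LP (LK LD1_c4 LD2_c46 LD3_c39))
theorem f704114 : Led Lsl_gf (LP (LK LD1_c4 LD2_c46 LD3_c39)) = v13661 :=
  Lrfl
theorem f711288 : v13836 = v13661 :=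
  (Llr Lrot152 (Lpe (f705164 IH) (Lpe (f502760 IH) (Lpe (K40.f501443 IH) (Lpr_gt (f502609 IH) (Lpr_ct (f502611 IH) (Lpr_gt (f711279 IH) (Lpr_ct (f568375 IH) (Lpe (f568387 IH) (Lpe (f156780 IH) (Lpr_gf (f704114 IH) (Lpn v13661)))))))))))).symm
def v5033 : LQ := Led Lsl_ft (LP (LK LD1_c2 LD2_c56 LD3_c16))
theorem f641426 : Led Lsl_ft (LP (LK LD1_c2 LD2_c56 LD3_c16)) = v5033 :=
  Lrfl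
theorem f641428 : Led Lsl_ff (LP (LK LD1_c2 LD2_c56 LD3_c16)) = v5033 :=
  Lgr Lrot3 (Lpr_ft (f641426 IH) (Lpn v5033))
theorem f641417 : Led Lsl_ff (LP (LK LD1_c2 LD2_c56 LD3_c17)) = K51.v5029 :=
  Lgr Lrot3 (Lpr_ft (K51.f641416 IH) (Lpn K51.v5029))
theorem f641429 : Led Lsl_at (LP (LK LD1_c2 LD2_c56 LD3_c17)) = v5033 :=
  Lgr Lrot66 (Lpr_ff (f641417 IH) (Lpe (K51.f641414 IH) (Lpr_ff (f641428 IH) (Lpn v5033))))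
theorem f698977 : v5033 = (LP (LK LD1_c4 LD2_c48 LD3_c56)) :=
  (Llr Lrot26 (Lpe (f641429 IH) (Lpq (K48.f669222 IH) (Lpr_ff (K51.f508014 IH) (Lpqs (f698974 IH) (Lpe (f634118 IH) (Lpr_gt (f502760 IH) (Lpn (LP (LK LD1_c4 LD2_c48 LD3_c56)))))))))).symm
def v5031 : LQ := Led Lsl_ct (LP (LK LD1_c2 LD2_c56 LD3_c16))
theorem f641420 : Led Lsl_ct (LP (LK LD1_c2 LD2_c56 LD3_c16)) = v5031 :=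
  Lrfl
theorem f641421 : Led Lsl_cf (LP (LK LD1_c2 LD2_c56 LD3_c16)) = v5031 :=
  Lgr Lrot11 (Lpr_ct (f641420 IH) (Lpn v5031))
theorem f705167 : Led Lsl_ff v5031 = v13836 :=
  Lgr Lrot23 (Lpe (f641421 IH) (Lpr_ft (f641426 IH) (Lpqs (f698977 IH) (Lpr_ct (f705164 IH) (Lpn v13836)))))
theorem f700765 : Led Lsl_cf (LP (LK LD1_c4 LD2_c38 LD3_c38)) = v13056 :=
  Lgr Lrot11 (Lpr_ct (f700762 IH) (Lpn v13056))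
theorem f700769 : Led Lsl_at v5031 = v13056 :=
  Lgr Lrot107 (Lpe (f641420 IH) (Lpr_af (K51.f641415 IH) (Lpq (K51.f669240 IH) (Lpr_cf (f700765 IH) (Lpn v13056)))))
def v13660 : LQ := Led Lsl_gt (LP (LK LD1_c4 LD2_c46 LD3_c39))
theorem f704113 : Led Lsl_gt (LP (LK LD1_c4 LD2_c46 LD3_c39)) = v13660 :=
  Lrfl
theorem f711289 : v13056 = v13660 :=
  (Llr Lrot26 (Lpe (f700769 IH) (Lpr_ff (f705167 IH) (Lpqs (f711288 IH) (Lpe (f704114 IH) (Lpr_gt (f704113 IH) (Lpn v13660))))))).symm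
def v13662 : LQ := Led Lsl_ft (LP (LK LD1_c4 LD2_c46 LD3_c39))
theorem f704116 : Led Lsl_ft (LP (LK LD1_c4 LD2_c46 LD3_c39)) = v13662 :=
  Lrfl
theorem f105079 : Led Lsl_et (LP (LK LD1_c4 LD2_c46 LD3_c39)) = (LP (LK LD1_c2 LD2_c21 LD3_c15)) :=
  Lre_e IH (LK LD1_c4 LD2_c46 LD3_c39) (LK LD1_c2 LD2_c21 LD3_c15) Lrfl Lrfl
theorem f75147 : Led Lsl_et (LP (LK LD1_c1 LD2_c24 LD3_c5)) = (LP (LK LD1_c2 LD2_c56 LD3_c33)) :=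
  Lre_e IH (LK LD1_c1 LD2_c24 LD3_c5) (LK LD1_c2 LD2_c56 LD3_c33) Lrfl Lrfl
theorem f497113 : Led Lsl_af (LP (LK LD1_c4 LD2_c46 LD3_c39)) = (LP (LK LD1_c2 LD2_c56 LD3_c33)) :=
  Lgr Lrot50 (Lpr_et (f105079 IH) (Lpr_at (K32.f497102 IH) (Lpr_et (f75147 IH) (Lpn (LP (LK LD1_c2 LD2_c56 LD3_c33))))))
theorem f497123 : Led Lsl_ft (LP (LK LD1_c6 LD2_c0 LD3_c36)) = (LP (LK LD1_c2 LD2_c56 LD3_c33)) :=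
  Lre_f IH (LK LD1_c6 LD2_c0 LD3_c36) (LK LD1_c2 LD2_c56 LD3_c33) Lrfl Lrfl
theorem f704117 : Led Lsl_af (LP (LK LD1_c6 LD2_c0 LD3_c36)) = v13662 :=
  Lgr Lrot45 (Lpr_ft (f497123 IH) (Lpe (f497113 IH) (Lpr_ft (f704116 IH) (Lpn v13662))))
theorem f704120 : Led Lsl_gt v13660 = (LP (LK LD1_c6 LD2_c0 LD3_c36)) :=
  Lgr Lrot46 (Lpe (f704113 IH) (Lpr_ft (f704116 IH) (Lpe (f704117 IH) (Lpn (LP (LK LD1_c6 LD2_c0 LD3_c36))))))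
theorem f497138 : Led Lsl_dt (LP (LK LD1_c6 LD2_c0 LD3_c36)) = (LP (LK LD1_c11 LD2_c45 LD3_c34)) :=
  Lre_d IH (LK LD1_c6 LD2_c0 LD3_c36) (LK LD1_c11 LD2_c45 LD3_c34) Lrfl Lrfl
theorem f425759 : Led Lsl_bt (LP (LK LD1_c6 LD2_c51 LD3_c0)) = (LP (LK LD1_c3 LD2_c24 LD3_c2)) :=
  Lre_b IH (LK LD1_c6 LD2_c51 LD3_c0) (LK LD1_c3 LD2_c24 LD3_c2) Lrfl Lrfl
theorem f497210 : Led Lsl_af (LP (LK LD1_c3 LD2_c59 LD3_c43)) = (LP (LK LD1_c3 LD2_c24 LD3_c2)) :=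
  Lgr Lrot50 (Lpr_et (f150006 IH) (Lpr_at (K32.f497202 IH) (Lpr_et (K8.f149217 IH) (Lpn (LP (LK LD1_c3 LD2_c24 LD3_c2))))))
theorem f150016 : Led Lsl_bt (LP (LK LD1_c3 LD2_c59 LD3_c43)) = (LP (LK LD1_c8 LD2_c0 LD3_c25)) :=
  Lre_b IH (LK LD1_c3 LD2_c59 LD3_c43) (LK LD1_c8 LD2_c0 LD3_c25) Lrfl Lrfl
theorem f498360 : Led Lsl_at (LP (LK LD1_c8 LD2_c0 LD3_c25)) = (LP (LK LD1_c6 LD2_c0 LD3_c32)) :=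
  Lgr Lrot67 (Lpe (f150016 IH) (Lpr_af (f497210 IH) (Lpe (f425759 IH) (Lpr_af (K36.f498356 IH) (Lpe (K38.f119856 IH) (Lpn (LP (LK LD1_c6 LD2_c0 LD3_c32))))))))
theorem f498362 : Led Lsl_af (LP (LK LD1_c8 LD2_c0 LD3_c25)) = (LP (LK LD1_c6 LD2_c0 LD3_c32)) :=
  Lgr Lrot0 (Lpr_at (f498360 IH) (Lpn (LP (LK LD1_c6 LD2_c0 LD3_c32))))
theorem f150021 : Led Lsl_et (LP (LK LD1_c11 LD2_c35 LD3_c4)) = (LP (LK LD1_c5 LD2_c54 LD3_c44)) :=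
  Lre_e IH (LK LD1_c11 LD2_c35 LD3_c4) (LK LD1_c5 LD2_c54 LD3_c44) Lrfl Lrfl
theorem f156813 : Led Lsl_cf (LP (LK LD1_c11 LD2_c35 LD3_c4)) = (LP (LK LD1_c9 LD2_c25 LD3_c56)) :=
  Lgr Lrot39 (Lpr_et (f150021 IH) (Lpr_ct (K32.f156811 IH) (Lpr_et (K32.f138300 IH) (Lpn (LP (LK LD1_c9 LD2_c25 LD3_c56))))))
theorem f71164 : Led Lsl_et (LP (LK LD1_c5 LD2_c54 LD3_c44)) = (LP (LK LD1_c11 LD2_c35 LD3_c4)) :=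
  Lre_e IH (LK LD1_c5 LD2_c54 LD3_c44) (LK LD1_c11 LD2_c35 LD3_c4) Lrfl Lrfl
theorem f149980 : Led Lsl_bt (LP (LK LD1_c11 LD2_c35 LD3_c4)) = (LP (LK LD1_c8 LD2_c0 LD3_c28)) :=
  Lgr Lrot119 (Lpe (f71164 IH) (Lpr_bf (K7.f149973 IH) (Lpe (K32.f149979 IH) (Lpn (LP (LK LD1_c8 LD2_c0 LD3_c28))))))
theorem f156815 : Led Lsl_bt (LP (LK LD1_c4 LD2_c46 LD3_c39)) = (LP (LK LD1_c9 LD2_c25 LD3_c56)) :=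
  Lre_b IH (LK LD1_c4 LD2_c46 LD3_c39) (LK LD1_c9 LD2_c25 LD3_c56) Lrfl Lrfl
theorem f156816 : Led Lsl_ct (LP (LK LD1_c8 LD2_c0 LD3_c25)) = (LP (LK LD1_c4 LD2_c46 LD3_c39)) :=
  Lgr Lrot83 (Lpe (f150016 IH) (Lpe (K32.f150015 IH) (Lpe (f149980 IH) (Lpr_cf (f156813 IH) (Lpe (f156815 IH) (Lpn (LP (LK LD1_c4 LD2_c46 LD3_c39))))))))
theorem f119860 : Led Lsl_ct (LP (LK LD1_c2 LD2_c56 LD3_c33)) = (LP (LK LD1_c6 LD2_c0 LD3_c32)) :=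
  Lre_c IH (LK LD1_c2 LD2_c56 LD3_c33) (LK LD1_c6 LD2_c0 LD3_c32) Lrfl Lrfl
theorem f498366 : Led Lsl_at (LP (LK LD1_c4 LD2_c46 LD3_c39)) = (LP (LK LD1_c2 LD2_c56 LD3_c33)) :=
  Lgr Lrot107 (Lpe (f156816 IH) (Lpr_af (f498362 IH) (Lpe (f119860 IH) (Lpn (LP (LK LD1_c2 LD2_c56 LD3_c33))))))
theorem f156823 : Led Lsl_dt (LP (LK LD1_c9 LD2_c25 LD3_c59)) = (LP (LK LD1_c4 LD2_c46 LD3_c39)) :=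
  Lre_d IH (LK LD1_c9 LD2_c25 LD3_c59) (LK LD1_c4 LD2_c46 LD3_c39) Lrfl Lrfl
theorem f76287 : Led Lsl_dt (LP (LK LD1_c2 LD2_c56 LD3_c33)) = (LP (LK LD1_c6 LD2_c0 LD3_c35)) :=
  Lre_d IH (LK LD1_c2 LD2_c56 LD3_c33) (LK LD1_c6 LD2_c0 LD3_c35) Lrfl Lrfl
theorem f498368 : Led Lsl_af (LP (LK LD1_c9 LD2_c25 LD3_c59)) = (LP (LK LD1_c6 LD2_c0 LD3_c35)) :=
  Lgr Lrot117 (Lpr_dt (f156823 IH) (Lpr_at (f498366 IH) (Lpr_dt (f76287 IH) (Lpn (LP (LK LD1_c6 LD2_c0 LD3_c35))))))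
theorem f139231 : Led Lsl_gt (LP (LK LD1_c17 LD2_c23 LD3_c30)) = (LP (LK LD1_c9 LD2_c25 LD3_c59)) :=
  Lre_g IH (LK LD1_c17 LD2_c23 LD3_c30) (LK LD1_c9 LD2_c25 LD3_c59) Lrfl Lrfl
theorem f498374 : Led Lsl_ft (LP (LK LD1_c11 LD2_c45 LD3_c34)) = (LP (LK LD1_c6 LD2_c0 LD3_c35)) :=
  Lre_f IH (LK LD1_c11 LD2_c45 LD3_c34) (LK LD1_c6 LD2_c0 LD3_c35) Lrfl Lrfl
theorem f498375 : Led Lsl_gf (LP (LK LD1_c17 LD2_c23 LD3_c30)) = (LP (LK LD1_c11 LD2_c45 LD3_c34)) :=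
  Lgr Lrot47 (Lpr_gt (f139231 IH) (Lpr_af (f498368 IH) (Lpe (f498374 IH) (Lpn (LP (LK LD1_c11 LD2_c45 LD3_c34))))))
theorem f711290 : Led Lsl_df (LP (LK LD1_c20 LD2_c39 LD3_c51)) = (LP (LK LD1_c17 LD2_c23 LD3_c30)) :=
  Lgr Lrot174 (Lpr_ct (f507159 IH) (Lpr_df (f642142 IH) (Lpe (f502609 IH) (Lpe (K49.f500806 IH) (Lpr_gf (f634118 IH) (Lpq (f698974 IH) (Lpr_ct (f700762 IH) (Lpqs (f711289 IH) (Lpr_gt (f704120 IH) (Lpr_dt (f497138 IH) (Lpe (f498375 IH) (Lpn (LP (LK LD1_c17 LD2_c23 LD3_c30))))))))))))))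
theorem f711291 : Led Lsl_dt (LP (LK LD1_c17 LD2_c23 LD3_c30)) = (LP (LK LD1_c20 LD2_c39 LD3_c51)) :=
  Leop (Lpr_df (f711290 IH) (Lpn (LP (LK LD1_c17 LD2_c23 LD3_c30))))
theorem seed_753 : LEOK LG_d (LK LD1_c17 LD2_c23 LD3_c30) :=
  Leoe_d (LK LD1_c17 LD2_c23 LD3_c30) (f711291 IH)
theorem f645038 : Led Lsl_gt (LP (LK LD1_c8 LD2_c50 LD3_c10)) = (LP (LK LD1_c16 LD2_c30 LD3_c53)) :=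
  Lre_g IH (LK LD1_c8 LD2_c50 LD3_c10) (LK LD1_c16 LD2_c30 LD3_c53) Lrfl Lrfl
theorem f119871 : Led Lsl_ct (LP (LK LD1_c6 LD2_c0 LD3_c36)) = (LP (LK LD1_c11 LD2_c45 LD3_c25)) :=
  Lre_c IH (LK LD1_c6 LD2_c0 LD3_c36) (LK LD1_c11 LD2_c45 LD3_c25) Lrfl Lrfl
theorem f210040 : Led Lsl_et (LP (LK LD1_c4 LD2_c46 LD3_c34)) = (LP (LK LD1_c9 LD2_c25 LD3_c48)) :=
  Lre_e IH (LK LD1_c4 LD2_c46 LD3_c34) (LK LD1_c9 LD2_c25 LD3_c48) Lrfl Lrfl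
theorem f497130 : Led Lsl_ff (LP (LK LD1_c4 LD2_c46 LD3_c34)) = (LP (LK LD1_c2 LD2_c56 LD3_c31)) :=
  Lgr Lrot23 (Lpr_ct (K8.f104950 IH) (Lpr_ft (K32.f497126 IH) (Lpr_ct (K4.f74517 IH) (Lpn (LP (LK LD1_c2 LD2_c56 LD3_c31))))))
theorem f75077 : Led Lsl_et (LP (LK LD1_c6 LD2_c0 LD3_c32)) = (LP (LK LD1_c2 LD2_c56 LD3_c31)) :=
  Lre_e IH (LK LD1_c6 LD2_c0 LD3_c32) (LK LD1_c2 LD2_c56 LD3_c31) Lrfl Lrfl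
theorem f119862 : Led Lsl_ft (LP (LK LD1_c11 LD2_c45 LD3_c25)) = (LP (LK LD1_c6 LD2_c0 LD3_c32)) :=
  Lre_f IH (LK LD1_c11 LD2_c45 LD3_c25) (LK LD1_c6 LD2_c0 LD3_c32) Lrfl Lrfl
theorem f615254 : Led Lsl_et (LP (LK LD1_c12 LD2_c17 LD3_c4)) = (LP (LK LD1_c11 LD2_c45 LD3_c25)) :=
  Lgr Lrot69 (Lpr_ff (K45.f615250 IH) (Lpe (f210040 IH) (Lpr_ff (f497130 IH) (Lpe (f75077 IH) (Lpe (f119862 IH) (Lpn (LP (LK LD1_c11 LD2_c45 LD3_c25))))))))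
theorem f615258 : Led Lsl_ef (LP (LK LD1_c12 LD2_c17 LD3_c4)) = (LP (LK LD1_c11 LD2_c45 LD3_c25)) :=
  Lgr Lrot88 (Lpr_et (f615254 IH) (Lpn (LP (LK LD1_c11 LD2_c45 LD3_c25))))
theorem f615177 : Led Lsl_dt (LP (LK LD1_c12 LD2_c17 LD3_c4)) = (LP (LK LD1_c6 LD2_c21 LD3_c36)) :=
  Lre_d IH (LK LD1_c12 LD2_c17 LD3_c4) (LK LD1_c6 LD2_c21 LD3_c36) Lrfl Lrfl
theorem f499359 : Led Lsl_dt (LP (LK LD1_c4 LD2_c59 LD3_c29)) = (LP (LK LD1_c9 LD2_c49 LD3_c24)) :=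
  Lre_d IH (LK LD1_c4 LD2_c59 LD3_c29) (LK LD1_c9 LD2_c49 LD3_c24) Lrfl Lrfl
theorem f75481 : Led Lsl_et (LP (LK LD1_c9 LD2_c49 LD3_c24)) = (LP (LK LD1_c17 LD2_c59 LD3_c56)) :=
  Lre_e IH (LK LD1_c9 LD2_c49 LD3_c24) (LK LD1_c17 LD2_c59 LD3_c56) Lrfl Lrfl
theorem f615261 : Led Lsl_dt (LP (LK LD1_c17 LD2_c59 LD3_c56)) = (LP (LK LD1_c11 LD2_c45 LD3_c25)) :=
  Lgr Lrot77 (Lpe (f75481 IH) (Lpe (f499359 IH) (Lpe (K42.f615173 IH) (Lpe (f615177 IH) (Lpr_ef (f615258 IH) (Lpn (LP (LK LD1_c11 LD2_c45 LD3_c25))))))))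
theorem f711292 : Led Lsl_ct (LP (LK LD1_c16 LD2_c30 LD3_c53)) = (LP (LK LD1_c17 LD2_c59 LD3_c56)) :=
  Lgr Lrot110 (Lpe (f645038 IH) (Lpe (K50.f645033 IH) (Lpr_gf (K50.f644905 IH) (Lpe (K40.f74636 IH) (Lpr_gt (f634117 IH) (Lpq (f698974 IH) (Lpr_ct (f700762 IH) (Lpqs (f711289 IH) (Lpr_gt (f704120 IH) (Lpr_ct (f119871 IH) (Lpe (f615261 IH) (Lpn (LP (LK LD1_c17 LD2_c59 LD3_c56))))))))))))))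
theorem f711293 : Led Lsl_ct (LP (LK LD1_c16 LD2_c30 LD3_c53)) = (LP (LK LD1_c17 LD2_c59 LD3_c56)) :=
  Leop (Lpe (f711292 IH) (Lpn (LP (LK LD1_c16 LD2_c30 LD3_c53))))
theorem seed_754 : LEOK LG_c (LK LD1_c16 LD2_c30 LD3_c53) :=
  Leoe_c (LK LD1_c16 LD2_c30 LD3_c53) (f711293 IH)
theorem f435370 : Led Lsl_bt (LP (LK LD1_c4 LD2_c38 LD3_c38)) = (LP (LK LD1_c2 LD2_c16 LD3_c20)) :=
  Lre_b IH (LK LD1_c4 LD2_c38 LD3_c38) (LK LD1_c2 LD2_c16 LD3_c20) Lrfl Lrfl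
theorem f149736 : Led Lsl_ct (LP (LK LD1_c2 LD2_c16 LD3_c19)) = (LP (LK LD1_c4 LD2_c38 LD3_c33)) :=
  Lre_c IH (LK LD1_c2 LD2_c16 LD3_c19) (LK LD1_c4 LD2_c38 LD3_c33) Lrfl Lrfl
theorem f150482 : Led Lsl_gt (LP (LK LD1_c9 LD2_c12 LD3_c59)) = (LP (LK LD1_c4 LD2_c38 LD3_c33)) :=
  Lre_g IH (LK LD1_c9 LD2_c12 LD3_c59) (LK LD1_c4 LD2_c38 LD3_c33) Lrfl Lrfl
theorem f57186 : Led Lsl_gt (LP (LK LD1_c2 LD2_c50 LD3_c21)) = (LP (LK LD1_c5 LD2_c48 LD3_c9)) :=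
  Lre_g IH (LK LD1_c2 LD2_c50 LD3_c21) (LK LD1_c5 LD2_c48 LD3_c9) Lrfl Lrfl
theorem f57187 : Led Lsl_bt (LP (LK LD1_c11 LD2_c25 LD3_c55)) = (LP (LK LD1_c5 LD2_c48 LD3_c9)) :=
  Lre_b IH (LK LD1_c11 LD2_c25 LD3_c55) (LK LD1_c5 LD2_c48 LD3_c9) Lrfl Lrfl
theorem f438798 : Led Lsl_ct (LP (LK LD1_c11 LD2_c25 LD3_c55)) = (LP (LK LD1_c9 LD2_c12 LD3_c59)) :=
  Lgr Lrot64 (Lpr_bt (f57187 IH) (Lpe (f57186 IH) (Lpe (K1.f57184 IH) (Lpe (K1.f57125 IH) (Lpr_gf (K29.f438792 IH) (Lpr_cf (K32.f435487 IH) (Lpe (K11.f26813 IH) (Lpe (K11.f150463 IH) (Lpr_ct (f149736 IH) (Lpe (f150482 IH) (Lpn (LP (LK LD1_c9 LD2_c12 LD3_c59)))))))))))))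
theorem f119870 : Led Lsl_ct (LP (LK LD1_c11 LD2_c45 LD3_c25)) = (LP (LK LD1_c6 LD2_c0 LD3_c36)) :=
  Lre_c IH (LK LD1_c11 LD2_c45 LD3_c25) (LK LD1_c6 LD2_c0 LD3_c36) Lrfl Lrfl
theorem f119863 : Led Lsl_ft (LP (LK LD1_c11 LD2_c25 LD3_c10)) = (LP (LK LD1_c20 LD2_c22 LD3_c41)) :=
  Lre_f IH (LK LD1_c11 LD2_c25 LD3_c10) (LK LD1_c20 LD2_c22 LD3_c41) Lrfl Lrfl
theorem f119864 : Led Lsl_bf (LP (LK LD1_c11 LD2_c45 LD3_c25)) = (LP (LK LD1_c20 LD2_c22 LD3_c41)) :=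
  Lgr Lrot61 (Lpr_ft (f119862 IH) (Lpr_bt (K38.f119856 IH) (Lpr_ft (f119863 IH) (Lpn (LP (LK LD1_c20 LD2_c22 LD3_c41))))))
theorem f119868 : Led Lsl_bt (LP (LK LD1_c11 LD2_c45 LD3_c25)) = (LP (LK LD1_c20 LD2_c22 LD3_c41)) :=
  Lgr Lrot127 (Lpr_bf (f119864 IH) (Lpn (LP (LK LD1_c20 LD2_c22 LD3_c41))))
theorem f711294 : Led Lsl_gf (LP (LK LD1_c11 LD2_c25 LD3_c55)) = (LP (LK LD1_c20 LD2_c22 LD3_c41)) :=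
  Lgr Lrot181 (Lpr_ct (f438798 IH) (Lpr_gt (f150482 IH) (Lpe (f149736 IH) (Lpr_bt (K11.f150463 IH) (Lpr_gt (K11.f26813 IH) (Lpe (f435370 IH) (Lpr_ct (f700762 IH) (Lpqs (f711289 IH) (Lpr_gt (f704120 IH) (Lpe (f119870 IH) (Lpr_bt (f119868 IH) (Lpn (LP (LK LD1_c20 LD2_c22 LD3_c41))))))))))))))
theorem f711295 : Led Lsl_gt (LP (LK LD1_c20 LD2_c22 LD3_c41)) = (LP (LK LD1_c11 LD2_c25 LD3_c55)) :=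
  Leop (Lpr_gf (f711294 IH) (Lpn (LP (LK LD1_c20 LD2_c22 LD3_c41))))
theorem seed_755 : LEOK LG_g (LK LD1_c20 LD2_c22 LD3_c41) :=
  Leoe_g (LK LD1_c20 LD2_c22 LD3_c41) (f711295 IH)
theorem f705166 : Led Lsl_cf (LP (LK LD1_c4 LD2_c48 LD3_c56)) = v13836 :=
  Lgr Lrot11 (Lpr_ct (f705164 IH) (Lpn v13836))
theorem f427467 : Led Lsl_ct (LP (LK LD1_c2 LD2_c22 LD3_c20)) = (LP (LK LD1_c4 LD2_c48 LD3_c55)) :=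
  Lre_c IH (LK LD1_c2 LD2_c22 LD3_c20) (LK LD1_c4 LD2_c48 LD3_c55) Lrfl Lrfl
theorem f158500 : Led Lsl_dt (LP (LK LD1_c4 LD2_c48 LD3_c55)) = (LP (LK LD1_c9 LD2_c30 LD3_c20)) :=
  Lre_d IH (LK LD1_c4 LD2_c48 LD3_c55) (LK LD1_c9 LD2_c30 LD3_c20) Lrfl Lrfl
theorem f704115 : Led Lsl_gt (LP (LK LD1_c6 LD2_c0 LD3_c36)) = v13661 :=
  Lgr Lrot5 (Lpr_ft (f497123 IH) (Lpe (f497113 IH) (Lpr_gf (f704114 IH) (Lpn v13661))))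
theorem f119874 : Led Lsl_dt (LP (LK LD1_c11 LD2_c45 LD3_c34)) = (LP (LK LD1_c6 LD2_c0 LD3_c36)) :=
  Lre_d IH (LK LD1_c11 LD2_c45 LD3_c34) (LK LD1_c6 LD2_c0 LD3_c36) Lrfl Lrfl
theorem f498379 : Led Lsl_ct (LP (LK LD1_c17 LD2_c23 LD3_c30)) = (LP (LK LD1_c27 LD2_c12 LD3_c30)) :=
  Lre_c IH (LK LD1_c17 LD2_c23 LD3_c30) (LK LD1_c27 LD2_c12 LD3_c30) Lrfl Lrfl
theorem f711437 : Led Lsl_gf (LP (LK LD1_c17 LD2_c31 LD3_c44)) = (LP (LK LD1_c27 LD2_c12 LD3_c30)) :=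
  Lgr Lrot104 (Lpr_ct (K50.f502202 IH) (Lpe (f158500 IH) (Lpe (f427467 IH) (Lpe (f452962 IH) (Lpr_cf (f705166 IH) (Lpqs (f711288 IH) (Lpe (f704115 IH) (Lpe (f119874 IH) (Lpe (f498375 IH) (Lpr_ct (f498379 IH) (Lpn (LP (LK LD1_c27 LD2_c12 LD3_c30)))))))))))))
theorem f711438 : Led Lsl_gt (LP (LK LD1_c27 LD2_c12 LD3_c30)) = (LP (LK LD1_c17 LD2_c31 LD3_c44)) :=
  Leop (Lpr_gf (f711437 IH) (Lpn (LP (LK LD1_c27 LD2_c12 LD3_c30))))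
theorem seed_756 : LEOK LG_g (LK LD1_c27 LD2_c12 LD3_c30) :=
  Leoe_g (LK LD1_c27 LD2_c12 LD3_c30) (f711438 IH)
theorem f711049 : Led Lsl_ff (LP (LK LD1_c20 LD2_c42 LD3_c31)) = (LP (LK LD1_c17 LD2_c58 LD3_c52)) :=
  Lgr Lrot3 (Lpr_ft (f711045 IH) (Lpn (LP (LK LD1_c17 LD2_c58 LD3_c52))))
theorem f711463 : Led Lsl_at (LP (LK LD1_c20 LD2_c42 LD3_c31)) = (LP (LK LD1_c17 LD2_c58 LD3_c53)) :=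
  Lgr Lrot66 (Lpr_ff (f711049 IH) (Lpe (f711033 IH) (Lpr_ff (f711029 IH) (Lpn (LP (LK LD1_c17 LD2_c58 LD3_c53))))))
theorem f711465 : Led Lsl_gf (LP (LK LD1_c21 LD2_c36 LD3_c31)) = (LP (LK LD1_c17 LD2_c58 LD3_c52)) :=
  Lgr Lrot47 (Lpe (K48.f642302 IH) (Lpe (f711463 IH) (Lpr_ff (f711049 IH) (Lpn (LP (LK LD1_c17 LD2_c58 LD3_c52))))))
theorem f642304 : Led Lsl_bt (LP (LK LD1_c12 LD2_c29 LD3_c43)) = (LP (LK LD1_c21 LD2_c36 LD3_c30)) :=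
  Lre_b IH (LK LD1_c12 LD2_c29 LD3_c43) (LK LD1_c21 LD2_c36 LD3_c30) Lrfl Lrfl
theorem f56784 : Led Lsl_at (LP (LK LD1_c5 LD2_c48 LD3_c15)) = (LP (LK LD1_c11 LD2_c26 LD3_c0)) :=
  Lre_a IH (LK LD1_c5 LD2_c48 LD3_c15) (LK LD1_c11 LD2_c26 LD3_c0) Lrfl Lrfl
theorem f436645 : Led Lsl_cf (LP (LK LD1_c9 LD2_c12 LD3_c54)) = (LP (LK LD1_c11 LD2_c26 LD3_c0)) :=
  Lgr Lrot1 (Lpr_at (K51.f436639 IH) (Lpr_ct (K51.f56775 IH) (Lpr_at (f56784 IH) (Lpn (LP (LK LD1_c11 LD2_c26 LD3_c0))))))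
theorem f149708 : Led Lsl_ct (LP (LK LD1_c9 LD2_c12 LD3_c54)) = (LP (LK LD1_c11 LD2_c26 LD3_c0)) :=
  Lgr Lrot15 (Lpe (K51.f149707 IH) (Lpr_cf (K7.f149703 IH) (Lpe (K51.f149695 IH) (Lpn (LP (LK LD1_c11 LD2_c26 LD3_c0))))))
theorem f118859 : Led Lsl_et (LP (LK LD1_c12 LD2_c36 LD3_c31)) = (LP (LK LD1_c6 LD2_c35 LD3_c13)) :=
  Lre_e IH (LK LD1_c12 LD2_c36 LD3_c31) (LK LD1_c6 LD2_c35 LD3_c13) Lrfl Lrfl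
theorem f141724 : Led Lsl_bf (LP (LK LD1_c12 LD2_c36 LD3_c31)) = (LP (LK LD1_c6 LD2_c44 LD3_c22)) :=
  Lgr Lrot96 (Lpr_et (f118859 IH) (Lpr_bt (K6.f141720 IH) (Lpr_et (K6.f139704 IH) (Lpn (LP (LK LD1_c6 LD2_c44 LD3_c22))))))
theorem f436681 : Led Lsl_bf (LP (LK LD1_c12 LD2_c53 LD3_c19)) = (LP (LK LD1_c11 LD2_c26 LD3_c0)) :=
  Lgr Lrot90 (Lpr_ct (K6.f141728 IH) (Lpe (f141724 IH) (Lpr_ct (K6.f124531 IH) (Lpr_bt (K51.f124533 IH) (Lpr_ct (f149708 IH) (Lpn (LP (LK LD1_c11 LD2_c26 LD3_c0))))))))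
theorem f495078 : Led Lsl_ct (LP (LK LD1_c4 LD2_c45 LD3_c25)) = (LP (LK LD1_c2 LD2_c20 LD3_c50)) :=
  Lre_c IH (LK LD1_c4 LD2_c45 LD3_c25) (LK LD1_c2 LD2_c20 LD3_c50) Lrfl Lrfl
theorem f633357 : Led Lsl_bt (LP (LK LD1_c4 LD2_c45 LD3_c25)) = (LP (LK LD1_c9 LD2_c23 LD3_c27)) :=
  Lre_b IH (LK LD1_c4 LD2_c45 LD3_c25) (LK LD1_c9 LD2_c23 LD3_c27) Lrfl Lrfl
theorem f633358 : Led Lsl_gt (LP (LK LD1_c9 LD2_c23 LD3_c27)) = (LP (LK LD1_c17 LD2_c19 LD3_c52)) :=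
  Lre_g IH (LK LD1_c9 LD2_c23 LD3_c27) (LK LD1_c17 LD2_c19 LD3_c52) Lrfl Lrfl
theorem f120617 : Led Lsl_bt (LP (LK LD1_c9 LD2_c23 LD3_c54)) = (LP (LK LD1_c4 LD2_c45 LD3_c37)) :=
  Lre_b IH (LK LD1_c9 LD2_c23 LD3_c54) (LK LD1_c4 LD2_c45 LD3_c37) Lrfl Lrfl
theorem f103555 : Led Lsl_gt (LP (LK LD1_c12 LD2_c51 LD3_c36)) = (LP (LK LD1_c6 LD2_c43 LD3_c21)) :=
  Lre_g IH (LK LD1_c12 LD2_c51 LD3_c36) (LK LD1_c6 LD2_c43 LD3_c21) Lrfl Lrfl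
theorem f120246 : Led Lsl_ct (LP (LK LD1_c22 LD2_c0 LD3_c29)) = (LP (LK LD1_c12 LD2_c51 LD3_c36)) :=
  Lre_c IH (LK LD1_c22 LD2_c0 LD3_c29) (LK LD1_c12 LD2_c51 LD3_c36) Lrfl Lrfl
theorem f709840 : Led Lsl_bf (LP (LK LD1_c17 LD2_c19 LD3_c52)) = (LP (LK LD1_c22 LD2_c0 LD3_c29)) :=
  Lgr Lrot34 (Lpe (f633358 IH) (Lpe (f633357 IH) (Lpr_ct (f495078 IH) (Lpe (K51.f58322 IH) (Lpe (K51.f495046 IH) (Lpr_gf (K51.f633354 IH) (Lpqs (K51.f708582 IH) (Lpe (f120617 IH) (Lpe (K4.f120656 IH) (Lpe (f103555 IH) (Lpe (f120246 IH) (Lpn (LP (LK LD1_c22 LD2_c0 LD3_c29))))))))))))))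
theorem f77022 : Led Lsl_gt (LP (LK LD1_c17 LD2_c19 LD3_c52)) = (LP (LK LD1_c9 LD2_c23 LD3_c20)) :=
  Lre_g IH (LK LD1_c17 LD2_c19 LD3_c52) (LK LD1_c9 LD2_c23 LD3_c20) Lrfl Lrfl
theorem f704129 : Led Lsl_bt (LP (LK LD1_c4 LD2_c46 LD3_c41)) = (LP (LK LD1_c9 LD2_c23 LD3_c20)) :=
  Lre_b IH (LK LD1_c4 LD2_c46 LD3_c41) (LK LD1_c9 LD2_c23 LD3_c20) Lrfl Lrfl
theorem f75024 : Led Lsl_ct (LP (LK LD1_c4 LD2_c46 LD3_c41)) = (LP (LK LD1_c2 LD2_c22 LD3_c21)) :=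
  Lre_c IH (LK LD1_c4 LD2_c46 LD3_c41) (LK LD1_c2 LD2_c22 LD3_c21) Lrfl Lrfl
theorem f76163 : Led Lsl_ct (LP (LK LD1_c9 LD2_c30 LD3_c26)) = (LP (LK LD1_c4 LD2_c48 LD3_c59)) :=
  Lre_c IH (LK LD1_c9 LD2_c30 LD3_c26) (LK LD1_c4 LD2_c48 LD3_c59) Lrfl Lrfl
theorem f527854 : Led Lsl_bt (LP (LK LD1_c4 LD2_c46 LD3_c49)) = (LP (LK LD1_c2 LD2_c21 LD3_c27)) :=
  Lre_b IH (LK LD1_c4 LD2_c46 LD3_c49) (LK LD1_c2 LD2_c21 LD3_c27) Lrfl Lrfl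
theorem f414488 : Led Lsl_ct (LP (LK LD1_c4 LD2_c46 LD3_c49)) = (LP (LK LD1_c2 LD2_c22 LD3_c25)) :=
  Lre_c IH (LK LD1_c4 LD2_c46 LD3_c49) (LK LD1_c2 LD2_c22 LD3_c25) Lrfl Lrfl
theorem f103048 : Led Lsl_gt (LP (LK LD1_c9 LD2_c23 LD3_c54)) = (LP (LK LD1_c17 LD2_c20 LD3_c49)) :=
  Lre_g IH (LK LD1_c9 LD2_c23 LD3_c54) (LK LD1_c17 LD2_c20 LD3_c49) Lrfl Lrfl
theorem f708580 : Led Lsl_bt (LP (LK LD1_c9 LD2_c30 LD3_c26)) = (LP (LK LD1_c17 LD2_c20 LD3_c49)) :=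
  Lgr Lrot92 (Lpr_ct (f76163 IH) (Lpr_gt (K2.f74601 IH) (Lpe (f414488 IH) (Lpr_bt (f527854 IH) (Lpr_gt (K49.f98987 IH) (Lpe (K50.f527848 IH) (Lpr_gt (K51.f708551 IH) (Lpr_cf (K51.f107515 IH) (Lpr_bt (K4.f120676 IH) (Lpr_gt (f103048 IH) (Lpn (LP (LK LD1_c17 LD2_c20 LD3_c49)))))))))))))
theorem f120239 : Led Lsl_gt (LP (LK LD1_c7 LD2_c34 LD3_c12)) = (LP (LK LD1_c12 LD2_c51 LD3_c36)) :=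
  Lgr Lrot5 (Lpr_ft (K3.f109889 IH) (Lpr_at (K4.f120226 IH) (Lpe (f103555 IH) (Lpn (LP (LK LD1_c12 LD2_c51 LD3_c36))))))
theorem f120244 : Led Lsl_ct (LP (LK LD1_c14 LD2_c16 LD3_c14)) = (LP (LK LD1_c7 LD2_c34 LD3_c12)) :=
  Lre_c IH (LK LD1_c14 LD2_c16 LD3_c14) (LK LD1_c7 LD2_c34 LD3_c12) Lrfl Lrfl
theorem f709846 : Led Lsl_gt (LP (LK LD1_c17 LD2_c20 LD3_c49)) = (LP (LK LD1_c14 LD2_c16 LD3_c14)) :=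
  Lgr Lrot82 (Lpe (f708580 IH) (Lpr_ct (f76163 IH) (Lpe (K2.f74569 IH) (Lpe (f75024 IH) (Lpr_bt (f704129 IH) (Lpe (f77022 IH) (Lpr_bf (f709840 IH) (Lpr_ct (f120246 IH) (Lpe (f120239 IH) (Lpe (f120244 IH) (Lpn (LP (LK LD1_c14 LD2_c16 LD3_c14)))))))))))))
theorem f109885 : Led Lsl_ct (LP (LK LD1_c7 LD2_c34 LD3_c12)) = (LP (LK LD1_c14 LD2_c16 LD3_c14)) :=
  Lre_c IH (LK LD1_c7 LD2_c34 LD3_c12) (LK LD1_c14 LD2_c16 LD3_c14) Lrfl Lrfl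
theorem f105546 : Led Lsl_at (LP (LK LD1_c1 LD2_c50 LD3_c29)) = (LP (LK LD1_c3 LD2_c29 LD3_c27)) :=
  Lgr Lrot100 (Lpr_af (K3.f105343 IH) (Lpn (LP (LK LD1_c3 LD2_c29 LD3_c27))))
theorem f87862 : Led Lsl_gt (LP (LK LD1_c7 LD2_c0 LD3_c32)) = (LP (LK LD1_c3 LD2_c29 LD3_c27)) :=
  Lre_g IH (LK LD1_c7 LD2_c0 LD3_c32) (LK LD1_c3 LD2_c29 LD3_c27) Lrfl Lrfl
theorem f441862 : Led Lsl_gt (LP (LK LD1_c3 LD2_c46 LD3_c48)) = (LP (LK LD1_c7 LD2_c0 LD3_c32)) :=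
  Lgr Lrot5 (Lpr_ft (K3.f109868 IH) (Lpr_at (f105546 IH) (Lpe (f87862 IH) (Lpn (LP (LK LD1_c7 LD2_c0 LD3_c32))))))
theorem f111594 : Led Lsl_cf (LP (LK LD1_c6 LD2_c34 LD3_c16)) = (LP (LK LD1_c3 LD2_c48 LD3_c39)) :=
  Lgr Lrot108 (Lpr_ft (K51.f111569 IH) (Lpr_ct (K51.f111589 IH) (Lpr_ft (K4.f111577 IH) (Lpn (LP (LK LD1_c3 LD2_c48 LD3_c39))))))
theorem f111608 : Led Lsl_gt (LP (LK LD1_c6 LD2_c34 LD3_c16)) = (LP (LK LD1_c12 LD2_c35 LD3_c4)) :=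
  Lre_g IH (LK LD1_c6 LD2_c34 LD3_c16) (LK LD1_c12 LD2_c35 LD3_c4) Lrfl Lrfl
theorem f111609 : Led Lsl_dt (LP (LK LD1_c12 LD2_c35 LD3_c4)) = (LP (LK LD1_c21 LD2_c41 LD3_c30)) :=
  Lre_d IH (LK LD1_c12 LD2_c35 LD3_c4) (LK LD1_c21 LD2_c41 LD3_c30) Lrfl Lrfl
theorem f111610 : Led Lsl_gt (LP (LK LD1_c21 LD2_c41 LD3_c30)) = (LP (LK LD1_c21 LD2_c41 LD3_c59)) :=
  Lre_g IH (LK LD1_c21 LD2_c41 LD3_c30) (LK LD1_c21 LD2_c41 LD3_c59) Lrfl Lrfl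
theorem f111611 : Led Lsl_dt (LP (LK LD1_c21 LD2_c41 LD3_c59)) = (LP (LK LD1_c12 LD2_c35 LD3_c32)) :=
  Lre_d IH (LK LD1_c21 LD2_c41 LD3_c59) (LK LD1_c12 LD2_c35 LD3_c32) Lrfl Lrfl
theorem f89332 : Led Lsl_gt (LP (LK LD1_c3 LD2_c48 LD3_c39)) = (LP (LK LD1_c7 LD2_c38 LD3_c18)) :=
  Lre_g IH (LK LD1_c3 LD2_c48 LD3_c39) (LK LD1_c7 LD2_c38 LD3_c18) Lrfl Lrfl
theorem f89336 : Led Lsl_dt (LP (LK LD1_c7 LD2_c38 LD3_c18)) = (LP (LK LD1_c14 LD2_c23 LD3_c35)) :=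
  Lre_d IH (LK LD1_c7 LD2_c38 LD3_c18) (LK LD1_c14 LD2_c23 LD3_c35) Lrfl Lrfl
theorem f89334 : Led Lsl_et (LP (LK LD1_c13 LD2_c17 LD3_c53)) = (LP (LK LD1_c7 LD2_c0 LD3_c32)) :=
  Lre_e IH (LK LD1_c13 LD2_c17 LD3_c53) (LK LD1_c7 LD2_c0 LD3_c32) Lrfl Lrfl
theorem f89335 : Led Lsl_dt (LP (LK LD1_c13 LD2_c17 LD3_c53)) = (LP (LK LD1_c22 LD2_c33 LD3_c39)) :=
  Lre_d IH (LK LD1_c13 LD2_c17 LD3_c53) (LK LD1_c22 LD2_c33 LD3_c39) Lrfl Lrfl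
theorem f89327 : Led Lsl_et (LP (LK LD1_c1 LD2_c51 LD3_c20)) = (LP (LK LD1_c3 LD2_c48 LD3_c39)) :=
  Lre_e IH (LK LD1_c1 LD2_c51 LD3_c20) (LK LD1_c3 LD2_c48 LD3_c39) Lrfl Lrfl
theorem f89337 : Led Lsl_gf (LP (LK LD1_c22 LD2_c33 LD3_c39)) = (LP (LK LD1_c14 LD2_c23 LD3_c35)) :=
  Lgr Lrot134 (Lpe (f89335 IH) (Lpr_et (f89334 IH) (Lpr_gt (f87862 IH) (Lpe (K3.f64831 IH) (Lpr_dt (K3.f17797 IH) (Lpr_gt (K0.f11439 IH) (Lpr_df (K3.f89301 IH) (Lpr_et (f89327 IH) (Lpr_gt (f89332 IH) (Lpr_dt (f89336 IH) (Lpn (LP (LK LD1_c14 LD2_c23 LD3_c35)))))))))))))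
theorem f89339 : Led Lsl_dt (LP (LK LD1_c22 LD2_c33 LD3_c39)) = (LP (LK LD1_c13 LD2_c17 LD3_c53)) :=
  Lre_d IH (LK LD1_c22 LD2_c33 LD3_c39) (LK LD1_c13 LD2_c17 LD3_c53) Lrfl Lrfl
theorem f111612 : Led Lsl_ct (LP (LK LD1_c12 LD2_c35 LD3_c32)) = (LP (LK LD1_c13 LD2_c17 LD3_c53)) :=
  Lgr Lrot7 (Lpe (f111611 IH) (Lpe (f111610 IH) (Lpe (f111609 IH) (Lpe (f111608 IH) (Lpr_cf (f111594 IH) (Lpr_gt (f89332 IH) (Lpr_dt (f89336 IH) (Lpe (f89337 IH) (Lpr_dt (f89339 IH) (Lpn (LP (LK LD1_c13 LD2_c17 LD3_c53))))))))))))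
theorem f111620 : Led Lsl_et (LP (LK LD1_c6 LD2_c34 LD3_c33)) = (LP (LK LD1_c12 LD2_c35 LD3_c32)) :=
  Lre_e IH (LK LD1_c6 LD2_c34 LD3_c33) (LK LD1_c12 LD2_c35 LD3_c32) Lrfl Lrfl
theorem f111621 : Led Lsl_cf (LP (LK LD1_c6 LD2_c34 LD3_c33)) = (LP (LK LD1_c7 LD2_c0 LD3_c32)) :=
  Lgr Lrot39 (Lpr_et (f111620 IH) (Lpr_ct (f111612 IH) (Lpr_et (f89334 IH) (Lpn (LP (LK LD1_c7 LD2_c0 LD3_c32))))))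
theorem f65737 : Led Lsl_gt (LP (LK LD1_c6 LD2_c34 LD3_c33)) = (LP (LK LD1_c3 LD2_c15 LD3_c38)) :=
  Lre_g IH (LK LD1_c6 LD2_c34 LD3_c33) (LK LD1_c3 LD2_c15 LD3_c38) Lrfl Lrfl
theorem f65715 : Led Lsl_bt (LP (LK LD1_c1 LD2_c52 LD3_c31)) = (LP (LK LD1_c3 LD2_c51 LD3_c22)) :=
  Lre_b IH (LK LD1_c1 LD2_c52 LD3_c31) (LK LD1_c3 LD2_c51 LD3_c22) Lrfl Lrfl
theorem f65770 : Led Lsl_bt (LP (LK LD1_c14 LD2_c35 LD3_c24)) = (LP (LK LD1_c7 LD2_c44 LD3_c10)) :=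
  Lre_b IH (LK LD1_c14 LD2_c35 LD3_c24) (LK LD1_c7 LD2_c44 LD3_c10) Lrfl Lrfl
theorem f709848 : Led Lsl_cf (LP (LK LD1_c17 LD2_c20 LD3_c49)) = (LP (LK LD1_c14 LD2_c35 LD3_c24)) :=
  Lgr Lrot160 (Lpr_gt (f709846 IH) (Lpe (f109885 IH) (Lpr_bt (K3.f109879 IH) (Lpr_gt (f441862 IH) (Lpe (f111621 IH) (Lpr_gt (f65737 IH) (Lpr_cf (K51.f65716 IH) (Lpr_bt (f65715 IH) (Lpr_gt (K51.f65740 IH) (Lpe (f65770 IH) (Lpn (LP (LK LD1_c14 LD2_c35 LD3_c24)))))))))))))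
theorem f709851 : Led Lsl_ct (LP (LK LD1_c17 LD2_c20 LD3_c49)) = (LP (LK LD1_c14 LD2_c35 LD3_c24)) :=
  Lgr Lrot59 (Lpr_cf (f709848 IH) (Lpn (LP (LK LD1_c14 LD2_c35 LD3_c24))))
theorem f76164 : Led Lsl_ct (LP (LK LD1_c4 LD2_c48 LD3_c59)) = (LP (LK LD1_c9 LD2_c30 LD3_c26)) :=
  Lre_c IH (LK LD1_c4 LD2_c48 LD3_c59) (LK LD1_c9 LD2_c30 LD3_c26) Lrfl Lrfl
theorem f454777 : Led Lsl_bt (LP (LK LD1_c9 LD2_c30 LD3_c25)) = (LP (LK LD1_c4 LD2_c48 LD3_c59)) :=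
  Lre_b IH (LK LD1_c9 LD2_c30 LD3_c25) (LK LD1_c4 LD2_c48 LD3_c59) Lrfl Lrfl
theorem f709857 : Led Lsl_cf (LP (LK LD1_c9 LD2_c30 LD3_c25)) = (LP (LK LD1_c7 LD2_c44 LD3_c10)) :=
  Lgr Lrot97 (Lpr_bt (f454777 IH) (Lpr_ct (f76164 IH) (Lpr_bt (f708580 IH) (Lpr_ct (f709851 IH) (Lpr_bt (f65770 IH) (Lpn (LP (LK LD1_c7 LD2_c44 LD3_c10))))))))
theorem f709859 : Led Lsl_ct (LP (LK LD1_c9 LD2_c30 LD3_c25)) = (LP (LK LD1_c7 LD2_c44 LD3_c10)) :=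
  Lgr Lrot59 (Lpr_cf (f709857 IH) (Lpn (LP (LK LD1_c7 LD2_c44 LD3_c10))))
theorem f509269 : Led Lsl_ct (LP (LK LD1_c12 LD2_c43 LD3_c59)) = (LP (LK LD1_c6 LD2_c39 LD3_c8)) :=
  Lre_c IH (LK LD1_c12 LD2_c43 LD3_c59) (LK LD1_c6 LD2_c39 LD3_c8) Lrfl Lrfl
theorem f103539 : Led Lsl_bt (LP (LK LD1_c3 LD2_c19 LD3_c47)) = (LP (LK LD1_c6 LD2_c43 LD3_c21)) :=
  Lre_b IH (LK LD1_c3 LD2_c19 LD3_c47) (LK LD1_c6 LD2_c43 LD3_c21) Lrfl Lrfl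
theorem f120618 : Led Lsl_ct (LP (LK LD1_c6 LD2_c43 LD3_c21)) = (LP (LK LD1_c9 LD2_c23 LD3_c54)) :=
  Lgr Lrot83 (Lpe (f103539 IH) (Lpe (K4.f103532 IH) (Lpr_bf (K4.f120613 IH) (Lpr_cf (K51.f107515 IH) (Lpe (f120617 IH) (Lpn (LP (LK LD1_c9 LD2_c23 LD3_c54))))))))
theorem f454462 : Led Lsl_ct (LP (LK LD1_c6 LD2_c47 LD3_c18)) = (LP (LK LD1_c3 LD2_c21 LD3_c48)) :=
  Lre_c IH (LK LD1_c6 LD2_c47 LD3_c18) (LK LD1_c3 LD2_c21 LD3_c48) Lrfl Lrfl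
theorem f709853 : Led Lsl_gf (LP (LK LD1_c6 LD2_c47 LD3_c18)) = (LP (LK LD1_c7 LD2_c44 LD3_c10)) :=
  Lgr Lrot181 (Lpr_ct (f454462 IH) (Lpr_gt (K51.f454455 IH) (Lpe (K32.f141109 IH) (Lpr_bt (K51.f454316 IH) (Lpq (K51.f707520 IH) (Lpe (K51.f652516 IH) (Lpe (K4.f103551 IH) (Lpr_ct (f120618 IH) (Lpr_gt (f103048 IH) (Lpr_cf (f709848 IH) (Lpr_bt (f65770 IH) (Lpn (LP (LK LD1_c7 LD2_c44 LD3_c10))))))))))))))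
theorem f652824 : Led Lsl_bt (LP (LK LD1_c3 LD2_c21 LD3_c48)) = (LP (LK LD1_c6 LD2_c47 LD3_c17)) :=
  Lre_b IH (LK LD1_c3 LD2_c21 LD3_c48) (LK LD1_c6 LD2_c47 LD3_c17) Lrfl Lrfl
theorem f709980 : Led Lsl_gf (LP (LK LD1_c12 LD2_c43 LD3_c59)) = (LP (LK LD1_c6 LD2_c47 LD3_c17)) :=
  Lgr Lrot181 (Lpr_ct (f509269 IH) (Lpr_gt (K51.f100008 IH) (Lpe (K17.f77000 IH) (Lpr_bt (K17.f77001 IH) (Lpr_gt (K2.f74569 IH) (Lpe (f454777 IH) (Lpr_ct (f709859 IH) (Lpe (f709853 IH) (Lpe (K51.f454458 IH) (Lpr_bt (f652824 IH) (Lpn (LP (LK LD1_c6 LD2_c47 LD3_c17)))))))))))))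
theorem f707392 : Led Lsl_ff (LP (LK LD1_c9 LD2_c5 LD3_c54)) = (LP (LK LD1_c6 LD2_c47 LD3_c17)) :=
  Lgr Lrot25 (Lpr_bt (K5.f130575 IH) (Lpq (K51.f707383 IH) (Lpe (K51.f653448 IH) (Lpr_bt (f652824 IH) (Lpn (LP (LK LD1_c6 LD2_c47 LD3_c17)))))))
theorem f709982 : Led Lsl_gt (LP (LK LD1_c12 LD2_c43 LD3_c59)) = (LP (LK LD1_c12 LD2_c53 LD3_c19)) :=
  Lgr Lrot46 (Lpr_gf (f709980 IH) (Lpe (f707392 IH) (Lpr_at (K6.f141913 IH) (Lpn (LP (LK LD1_c12 LD2_c53 LD3_c19))))))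
theorem f624405 : Led Lsl_ct (LP (LK LD1_c6 LD2_c39 LD3_c8)) = (LP (LK LD1_c12 LD2_c43 LD3_c59)) :=
  Lre_c IH (LK LD1_c6 LD2_c39 LD3_c8) (LK LD1_c12 LD2_c43 LD3_c59) Lrfl Lrfl
theorem f508823 : Led Lsl_bt (LP (LK LD1_c1 LD2_c35 LD3_c37)) = (LP (LK LD1_c3 LD2_c17 LD3_c57)) :=
  Lre_b IH (LK LD1_c1 LD2_c35 LD3_c37) (LK LD1_c3 LD2_c17 LD3_c57) Lrfl Lrfl
theorem f62131 : Led Lsl_bt (LP (LK LD1_c3 LD2_c16 LD3_c24)) = (LP (LK LD1_c6 LD2_c36 LD3_c10)) :=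
  Lre_b IH (LK LD1_c3 LD2_c16 LD3_c24) (LK LD1_c6 LD2_c36 LD3_c10) Lrfl Lrfl
theorem f141729 : Led Lsl_ct (LP (LK LD1_c6 LD2_c44 LD3_c22)) = (LP (LK LD1_c12 LD2_c53 LD3_c19)) :=
  Lre_c IH (LK LD1_c6 LD2_c44 LD3_c22) (LK LD1_c12 LD2_c53 LD3_c19) Lrfl Lrfl
theorem f709986 : Led Lsl_gf (LP (LK LD1_c6 LD2_c36 LD3_c10)) = (LP (LK LD1_c12 LD2_c36 LD3_c31)) :=
  Lgr Lrot124 (Lpe (f62131 IH) (Lpr_ct (K49.f62120 IH) (Lpr_gt (K32.f62086 IH) (Lpe (K46.f414289 IH) (Lpr_bt (f508823 IH) (Lpr_gt (K51.f510411 IH) (Lpr_ct (f624405 IH) (Lpr_gt (f709982 IH) (Lpe (f141729 IH) (Lpe (f141724 IH) (Lpn (LP (LK LD1_c12 LD2_c36 LD3_c31)))))))))))))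
theorem f62148 : Led Lsl_at (LP (LK LD1_c12 LD2_c38 LD3_c27)) = (LP (LK LD1_c6 LD2_c36 LD3_c10)) :=
  Lre_a IH (LK LD1_c12 LD2_c38 LD3_c27) (LK LD1_c6 LD2_c36 LD3_c10) Lrfl Lrfl
theorem f624176 : Led Lsl_bt (LP (LK LD1_c12 LD2_c38 LD3_c31)) = (LP (LK LD1_c6 LD2_c36 LD3_c12)) :=
  Lre_b IH (LK LD1_c12 LD2_c38 LD3_c31) (LK LD1_c6 LD2_c36 LD3_c12) Lrfl Lrfl
theorem f62157 : Led Lsl_bt (LP (LK LD1_c3 LD2_c18 LD3_c38)) = (LP (LK LD1_c6 LD2_c41 LD3_c11)) :=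
  Lre_b IH (LK LD1_c3 LD2_c18 LD3_c38) (LK LD1_c6 LD2_c41 LD3_c11) Lrfl Lrfl
theorem f624177 : Led Lsl_ff (LP (LK LD1_c12 LD2_c38 LD3_c31)) = (LP (LK LD1_c6 LD2_c41 LD3_c11)) :=
  Lgr Lrot25 (Lpr_bt (f624176 IH) (Lpr_ft (K49.f624174 IH) (Lpr_bt (f62157 IH) (Lpn (LP (LK LD1_c6 LD2_c41 LD3_c11))))))
theorem f624169 : Led Lsl_bt (LP (LK LD1_c6 LD2_c36 LD3_c12)) = (LP (LK LD1_c12 LD2_c38 LD3_c31)) :=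
  Lre_b IH (LK LD1_c6 LD2_c36 LD3_c12) (LK LD1_c12 LD2_c38 LD3_c31) Lrfl Lrfl
theorem f509046 : Led Lsl_bt (LP (LK LD1_c12 LD2_c47 LD3_c35)) = (LP (LK LD1_c6 LD2_c41 LD3_c10)) :=
  Lre_b IH (LK LD1_c12 LD2_c47 LD3_c35) (LK LD1_c6 LD2_c41 LD3_c10) Lrfl Lrfl
theorem f624170 : Led Lsl_et (LP (LK LD1_c12 LD2_c38 LD3_c31)) = (LP (LK LD1_c12 LD2_c47 LD3_c35)) :=
  Lgr Lrot74 (Lpe (f624169 IH) (Lpr_ef (K46.f624165 IH) (Lpe (f509046 IH) (Lpn (LP (LK LD1_c12 LD2_c47 LD3_c35))))))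
theorem f624185 : Led Lsl_ft (LP (LK LD1_c12 LD2_c47 LD3_c35)) = (LP (LK LD1_c6 LD2_c41 LD3_c5)) :=
  Lre_f IH (LK LD1_c12 LD2_c47 LD3_c35) (LK LD1_c6 LD2_c41 LD3_c5) Lrfl Lrfl
theorem f624186 : Led Lsl_et (LP (LK LD1_c6 LD2_c41 LD3_c5)) = (LP (LK LD1_c3 LD2_c18 LD3_c35)) :=
  Lre_e IH (LK LD1_c6 LD2_c41 LD3_c5) (LK LD1_c3 LD2_c18 LD3_c35) Lrfl Lrfl
theorem f62130 : Led Lsl_bt (LP (LK LD1_c6 LD2_c41 LD3_c11)) = (LP (LK LD1_c3 LD2_c18 LD3_c38)) :=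
  Lre_b IH (LK LD1_c6 LD2_c41 LD3_c11) (LK LD1_c3 LD2_c18 LD3_c38) Lrfl Lrfl
theorem f62132 : Led Lsl_ef (LP (LK LD1_c6 LD2_c41 LD3_c11)) = (LP (LK LD1_c6 LD2_c36 LD3_c10)) :=
  Lgr Lrot29 (Lpr_bt (f62130 IH) (Lpr_et (K49.f62121 IH) (Lpr_bt (f62131 IH) (Lpn (LP (LK LD1_c6 LD2_c36 LD3_c10))))))
theorem f624187 : Led Lsl_ft (LP (LK LD1_c3 LD2_c18 LD3_c35)) = (LP (LK LD1_c6 LD2_c36 LD3_c10)) :=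
  Lgr Lrot86 (Lpe (f624186 IH) (Lpe (f624185 IH) (Lpe (f624170 IH) (Lpr_ff (f624177 IH) (Lpr_ef (f62132 IH) (Lpn (LP (LK LD1_c6 LD2_c36 LD3_c10))))))))
theorem f624194 : Led Lsl_ff (LP (LK LD1_c3 LD2_c18 LD3_c35)) = (LP (LK LD1_c6 LD2_c36 LD3_c10)) :=
  Lgr Lrot3 (Lpr_ft (f624187 IH) (Lpn (LP (LK LD1_c6 LD2_c36 LD3_c10))))
theorem f508979 : Led Lsl_at (LP (LK LD1_c3 LD2_c18 LD3_c35)) = (LP (LK LD1_c6 LD2_c41 LD3_c3)) :=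
  Lre_a IH (LK LD1_c3 LD2_c18 LD3_c35) (LK LD1_c6 LD2_c41 LD3_c3) Lrfl Lrfl
theorem f624198 : Led Lsl_ft (LP (LK LD1_c6 LD2_c41 LD3_c3)) = (LP (LK LD1_c12 LD2_c38 LD3_c27)) :=
  Lgr Lrot101 (Lpe (f508979 IH) (Lpr_ff (f624194 IH) (Lpe (f62148 IH) (Lpn (LP (LK LD1_c12 LD2_c38 LD3_c27))))))
theorem f709988 : Led Lsl_gt (LP (LK LD1_c6 LD2_c41 LD3_c3)) = (LP (LK LD1_c12 LD2_c36 LD3_c31)) :=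
  Lgr Lrot5 (Lpr_ft (f624198 IH) (Lpr_at (f62148 IH) (Lpr_gf (f709986 IH) (Lpn (LP (LK LD1_c12 LD2_c36 LD3_c31))))))
theorem f624208 : Led Lsl_ct (LP (LK LD1_c12 LD2_c47 LD3_c21)) = (LP (LK LD1_c6 LD2_c41 LD3_c3)) :=
  Lre_c IH (LK LD1_c12 LD2_c47 LD3_c21) (LK LD1_c6 LD2_c41 LD3_c3) Lrfl Lrfl
def v5779 : LQ := Led Lsl_gt (LP (LK LD1_c3 LD2_c13 LD3_c18))
theorem f649329 : Led Lsl_gt (LP (LK LD1_c3 LD2_c13 LD3_c18)) = v5779 :=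
  Lrfl
theorem f112022 : Led Lsl_ct (LP (LK LD1_c6 LD2_c28 LD3_c27)) = (LP (LK LD1_c3 LD2_c12 LD3_c13)) :=
  Lre_c IH (LK LD1_c6 LD2_c28 LD3_c27) (LK LD1_c3 LD2_c12 LD3_c13) Lrfl Lrfl
theorem f140075 : Led Lsl_ct (LP (LK LD1_c6 LD2_c40 LD3_c60)) = (LP (LK LD1_c3 LD2_c24 LD3_c10)) :=
  Lgr Lrot59 (Lpr_cf (K46.f140071 IH) (Lpn (LP (LK LD1_c3 LD2_c24 LD3_c10))))
def v13319 : LQ := Led Lsl_ft (LP (LK LD1_c4 LD2_c43 LD3_c6))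
theorem f702313 : Led Lsl_ft (LP (LK LD1_c4 LD2_c43 LD3_c6)) = v13319 :=
  Lrfl
theorem f702318 : Led Lsl_ff (LP (LK LD1_c4 LD2_c43 LD3_c6)) = v13319 :=
  Lgr Lrot3 (Lpr_ft (f702313 IH) (Lpn v13319))
theorem f702322 : Led Lsl_ct K51.v4310 = v13319 :=
  Lgr Lrot40 (Lpe (K51.f632584 IH) (Lpe (K4.f120136 IH) (Lpr_ff (f702318 IH) (Lpn v13319))))
theorem f707505 : v13319 = (LP (LK LD1_c6 LD2_c40 LD3_c60)) :=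
  Lefun (Lecon (f702322 IH) (K51.f707496 IH)) (Lfl_cf (K46.f140071 IH))
theorem f120142 : Led Lsl_at (LP (LK LD1_c4 LD2_c43 LD3_c6)) = (LP (LK LD1_c3 LD2_c7 LD3_c36)) :=
  Lgr Lrot100 (Lpr_af (K4.f120138 IH) (Lpn (LP (LK LD1_c3 LD2_c7 LD3_c36))))
theorem f136225 : Led Lsl_ft (LP (LK LD1_c3 LD2_c7 LD3_c36)) = (LP (LK LD1_c6 LD2_c20 LD3_c4)) :=
  Lre_f IH (LK LD1_c3 LD2_c7 LD3_c36) (LK LD1_c6 LD2_c20 LD3_c4) Lrfl Lrfl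
theorem f702320 : Led Lsl_at (LP (LK LD1_c6 LD2_c20 LD3_c4)) = v13319 :=
  Lgr Lrot66 (Lpe (f136225 IH) (Lpe (f120142 IH) (Lpr_ff (f702318 IH) (Lpn v13319))))
theorem f149846 : Led Lsl_gt (LP (LK LD1_c3 LD2_c7 LD3_c36)) = (LP (LK LD1_c6 LD2_c20 LD3_c2)) :=
  Lre_g IH (LK LD1_c3 LD2_c7 LD3_c36) (LK LD1_c6 LD2_c20 LD3_c2) Lrfl Lrfl
theorem f702325 : Led Lsl_gt (LP (LK LD1_c6 LD2_c20 LD3_c2)) = v13319 :=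
  Lgr Lrot46 (Lpe (f149846 IH) (Lpr_ft (f136225 IH) (Lpr_at (f702320 IH) (Lpn v13319))))
theorem f708692 : Led Lsl_ct v5779 = (LP (LK LD1_c6 LD2_c20 LD3_c2)) :=
  Lgr Lrot152 (Lpe (f649329 IH) (Lpr_df (K49.f207463 IH) (Lpr_gt (K48.f124831 IH) (Lpr_ct (K51.f708678 IH) (Lpe (K51.f440074 IH) (Lpr_ct (f112022 IH) (Lpr_df (K51.f632586 IH) (Lpqs (K51.f707496 IH) (Lpe (f140075 IH) (Lpq (f707505 IH) (Lpe (f702325 IH) (Lpn (LP (LK LD1_c6 LD2_c20 LD3_c2))))))))))))))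
theorem f709765 : Led Lsl_cf v5779 = (LP (LK LD1_c6 LD2_c20 LD3_c2)) :=
  Lgr Lrot11 (Lpr_ct (f708692 IH) (Lpn (LP (LK LD1_c6 LD2_c20 LD3_c2))))
theorem f76968 : Led Lsl_ct (LP (LK LD1_c4 LD2_c49 LD3_c23)) = (LP (LK LD1_c2 LD2_c22 LD3_c29)) :=
  Lre_c IH (LK LD1_c4 LD2_c49 LD3_c23) (LK LD1_c2 LD2_c22 LD3_c29) Lrfl Lrfl
theorem f76981 : Led Lsl_gt (LP (LK LD1_c4 LD2_c49 LD3_c21)) = (LP (LK LD1_c2 LD2_c22 LD3_c29)) :=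
  Lre_g IH (LK LD1_c4 LD2_c49 LD3_c21) (LK LD1_c2 LD2_c22 LD3_c29) Lrfl Lrfl
theorem f77073 : Led Lsl_ct (LP (LK LD1_c9 LD2_c31 LD3_c29)) = (LP (LK LD1_c4 LD2_c49 LD3_c21)) :=
  Lre_c IH (LK LD1_c9 LD2_c31 LD3_c29) (LK LD1_c4 LD2_c49 LD3_c21) Lrfl Lrfl
theorem f77074 : Led Lsl_bt (LP (LK LD1_c9 LD2_c31 LD3_c29)) = (LP (LK LD1_c17 LD2_c33 LD3_c19)) :=
  Lre_b IH (LK LD1_c9 LD2_c31 LD3_c29) (LK LD1_c17 LD2_c33 LD3_c19) Lrfl Lrfl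
theorem f709764 : Led Lsl_bt (LP (LK LD1_c6 LD2_c20 LD3_c2)) = (LP (LK LD1_c12 LD2_c14 LD3_c50)) :=
  Lre_b IH (LK LD1_c6 LD2_c20 LD3_c2) (LK LD1_c12 LD2_c14 LD3_c50) Lrfl Lrfl
theorem f709775 : Led Lsl_gf (LP (LK LD1_c17 LD2_c33 LD3_c19)) = (LP (LK LD1_c12 LD2_c14 LD3_c50)) :=
  Lgr Lrot124 (Lpe (f77074 IH) (Lpr_ct (f77073 IH) (Lpr_gt (f76981 IH) (Lpe (f76968 IH) (Lpe (K49.f76932 IH) (Lpr_gt (K49.f663080 IH) (Lpe (K49.f124552 IH) (Lpr_gt (f649329 IH) (Lpr_cf (f709765 IH) (Lpr_bt (f709764 IH) (Lpn (LP (LK LD1_c12 LD2_c14 LD3_c50)))))))))))))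
theorem f641101 : Led Lsl_ff (LP (LK LD1_c2 LD2_c54 LD3_c13)) = K51.v4968 :=
  Lgr Lrot3 (Lpr_ft (K51.f641100 IH) (Lpn K51.v4968))
def v13870 : LQ := Led Lsl_et (LP (LK LD1_c4 LD2_c49 LD3_c21))
theorem f705609 : Led Lsl_et (LP (LK LD1_c4 LD2_c49 LD3_c21)) = v13870 :=
  Lrfl
theorem f705610 : Led Lsl_ef (LP (LK LD1_c4 LD2_c49 LD3_c21)) = v13870 :=
  Lgr Lrot88 (Lpr_et (f705609 IH) (Lpn v13870))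
theorem f163090 : Led Lsl_ft (LP (LK LD1_c1 LD2_c23 LD3_c5)) = (LP (LK LD1_c2 LD2_c14 LD3_c52)) :=
  Lgr Lrot4 (Lpe (K6.f69450 IH) (Lpr_ff (K8.f163086 IH) (Lpe (K7.f101619 IH) (Lpn (LP (LK LD1_c2 LD2_c14 LD3_c52))))))
theorem f699855 : Led Lsl_ef K51.v4968 = K51.v12957 :=
  Lgr Lrot21 (Lpe (f641101 IH) (Lpr_et (K51.f82005 IH) (Lpr_ft (f163090 IH) (Lpr_et (K51.f101624 IH) (Lpr_ft (K51.f699853 IH) (Lpn K51.v12957))))))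
theorem f495155 : Led Lsl_at (LP (LK LD1_c4 LD2_c49 LD3_c22)) = (LP (LK LD1_c2 LD2_c22 LD3_c29)) :=
  Lre_a IH (LK LD1_c4 LD2_c49 LD3_c22) (LK LD1_c2 LD2_c22 LD3_c29) Lrfl Lrfl
theorem f510254 : Led Lsl_gt (LP (LK LD1_c3 LD2_c20 LD3_c43)) = (LP (LK LD1_c4 LD2_c49 LD3_c21)) :=
  Lgr Lrot5 (Lpr_ft (K51.f510233 IH) (Lpr_at (f495155 IH) (Lpe (f76981 IH) (Lpn (LP (LK LD1_c4 LD2_c49 LD3_c21))))))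
theorem f289343 : Led Lsl_ft (LP (LK LD1_c5 LD2_c42 LD3_c3)) = (LP (LK LD1_c11 LD2_c14 LD3_c25)) :=
  Lre_f IH (LK LD1_c5 LD2_c42 LD3_c3) (LK LD1_c11 LD2_c14 LD3_c25) Lrfl Lrfl
theorem f618060 : Led Lsl_af (LP (LK LD1_c12 LD2_c23 LD3_c34)) = (LP (LK LD1_c11 LD2_c14 LD3_c25)) :=
  Lgr Lrot45 (Lpr_ft (K42.f559980 IH) (Lpr_at (K51.f618053 IH) (Lpr_ft (f289343 IH) (Lpn (LP (LK LD1_c11 LD2_c14 LD3_c25))))))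
theorem f496812 : Led Lsl_at (LP (LK LD1_c6 LD2_c25 LD3_c20)) = (LP (LK LD1_c5 LD2_c56 LD3_c33)) :=
  Lgr Lrot100 (Lpr_af (K32.f496810 IH) (Lpn (LP (LK LD1_c5 LD2_c56 LD3_c33))))
theorem f618064 : Led Lsl_dt (LP (LK LD1_c5 LD2_c56 LD3_c33)) = (LP (LK LD1_c11 LD2_c14 LD3_c25)) :=
  Lgr Lrot44 (Lpe (f496812 IH) (Lpe (K42.f150331 IH) (Lpr_af (f618060 IH) (Lpn (LP (LK LD1_c11 LD2_c14 LD3_c25))))))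
def v5561 : LQ := Led Lsl_gt (LP (LK LD1_c3 LD2_c10 LD3_c18))
theorem f648264 : Led Lsl_gt (LP (LK LD1_c3 LD2_c10 LD3_c18)) = v5561 :=
  Lrfl
theorem f648265 : Led Lsl_gf (LP (LK LD1_c5 LD2_c56 LD3_c33)) = v5561 :=
  Lgr Lrot76 (Lpe (f496812 IH) (Lpe (K32.f150332 IH) (Lpr_gt (f648264 IH) (Lpn v5561))))
def v5250 : LQ := Led Lsl_gf (LP (LK LD1_c3 LD2_c2 LD3_c34))
theorem f646798 : Led Lsl_gf (LP (LK LD1_c3 LD2_c2 LD3_c34)) = v5250 :=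
  Lrfl
theorem f701518 : Led Lsl_gf v5250 = v13173 :=
  Lgr Lrot47 (Lpe (f646798 IH) (Lpr_af (f646800 IH) (Lpr_ff (f701514 IH) (Lpn v13173))))
theorem f706374 : v5250 = (LP (LK LD1_c3 LD2_c10 LD3_c18)) :=
  Lefun (Lecon (Lfl_gf (f701518 IH)) (f706369 IH).symm) (f69218 IH)
theorem f706376 : (LP (LK LD1_c3 LD2_c2 LD3_c34)) = v5561 :=
  Lefun (Lecon (Lfl_gf (f646798 IH)) (f706374 IH)) (f648264 IH)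
theorem f707252 : v13870 = K51.v12957 :=
  (Llr Lrot17 (Lpe (f705610 IH) (Lpe (f510254 IH) (Lpe (K51.f510250 IH) (Lpr_dt (K51.f707250 IH) (Lpr_gf (K51.f618130 IH) (Lpe (f618064 IH) (Lpr_gf (f648265 IH) (Lpq (f706376 IH) (Lpe (K38.f140640 IH) (Lpr_dt (K51.f140653 IH) (Lpe (K51.f140618 IH) (Lpr_df (K51.f707075 IH) (Lpn K51.v12957)))))))))))))).symm
theorem f707254 : (LP (LK LD1_c4 LD2_c49 LD3_c21)) = K51.v4968 :=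
  Lefun (Lecon (Lfl_ef (f705610 IH)) (f707252 IH)) (Lfl_ef (f699855 IH))
theorem f707264 : Led Lsl_ff (LP (LK LD1_c9 LD2_c31 LD3_c29)) = (LP (LK LD1_c5 LD2_c55 LD3_c44)) :=
  Lgr Lrot23 (Lpr_ct (f77073 IH) (Lpqs (f707254 IH) (Lpe (f641101 IH) (Lpr_ct (K8.f81978 IH) (Lpn (LP (LK LD1_c5 LD2_c55 LD3_c44)))))))
theorem f81971 : Led Lsl_bt (LP (LK LD1_c11 LD2_c36 LD3_c38)) = (LP (LK LD1_c5 LD2_c55 LD3_c44)) :=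
  Lre_b IH (LK LD1_c11 LD2_c36 LD3_c38) (LK LD1_c5 LD2_c55 LD3_c44) Lrfl Lrfl
theorem f707268 : Led Lsl_ft (LP (LK LD1_c17 LD2_c33 LD3_c19)) = (LP (LK LD1_c11 LD2_c36 LD3_c38)) :=
  Lgr Lrot75 (Lpe (f77074 IH) (Lpr_ff (f707264 IH) (Lpe (f81971 IH) (Lpn (LP (LK LD1_c11 LD2_c36 LD3_c38))))))
theorem f206763 : Led Lsl_bf (LP (LK LD1_c3 LD2_c17 LD3_c51)) = (LP (LK LD1_c2 LD2_c54 LD3_c7)) :=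
  Lgr Lrot61 (Lpr_ft (K11.f206761 IH) (Lpr_bt (K8.f161446 IH) (Lpe (K8.f163072 IH) (Lpn (LP (LK LD1_c2 LD2_c54 LD3_c7))))))
theorem f209901 : Led Lsl_at (LP (LK LD1_c9 LD2_c11 LD3_c55)) = (LP (LK LD1_c9 LD2_c7 LD3_c12)) :=
  Lgr Lrot67 (Lpe (K7.f100345 IH) (Lpe (K45.f206753 IH) (Lpr_bf (f206763 IH) (Lpr_af (K36.f163080 IH) (Lpe (K8.f101643 IH) (Lpn (LP (LK LD1_c9 LD2_c7 LD3_c12))))))))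
theorem f209920 : Led Lsl_af (LP (LK LD1_c17 LD2_c5 LD3_c43)) = (LP (LK LD1_c11 LD2_c40 LD3_c28)) :=
  Lgr Lrot68 (Lpr_ct (K6.f75058 IH) (Lpr_at (f209901 IH) (Lpr_ct (K7.f101622 IH) (Lpn (LP (LK LD1_c11 LD2_c40 LD3_c28))))))
theorem f209922 : Led Lsl_at (LP (LK LD1_c17 LD2_c5 LD3_c43)) = (LP (LK LD1_c11 LD2_c40 LD3_c28)) :=
  Lgr Lrot100 (Lpr_af (f209920 IH) (Lpn (LP (LK LD1_c11 LD2_c40 LD3_c28))))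
theorem f141528 : Led Lsl_ft (LP (LK LD1_c20 LD2_c40 LD3_c25)) = (LP (LK LD1_c17 LD2_c59 LD3_c34)) :=
  Lgr Lrot101 (Lpr_af (K6.f130481 IH) (Lpr_ff (K6.f141524 IH) (Lpe (K6.f141445 IH) (Lpn (LP (LK LD1_c17 LD2_c59 LD3_c34))))))
theorem f150198 : Led Lsl_gt (LP (LK LD1_c12 LD2_c44 LD3_c4)) = (LP (LK LD1_c12 LD2_c35 LD3_c20)) :=
  Lgr Lrot46 (Lpr_gf (K7.f150194 IH) (Lpr_ft (f141528 IH) (Lpr_at (K6.f141445 IH) (Lpn (LP (LK LD1_c12 LD2_c35 LD3_c20))))))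
theorem f209928 : Led Lsl_ff (LP (LK LD1_c17 LD2_c5 LD3_c43)) = (LP (LK LD1_c12 LD2_c44 LD3_c4)) :=
  Lgr Lrot52 (Lpr_at (f209922 IH) (Lpr_gf (K8.f141532 IH) (Lpe (f150198 IH) (Lpn (LP (LK LD1_c12 LD2_c44 LD3_c4))))))
theorem f163182 : Led Lsl_ff (LP (LK LD1_c9 LD2_c49 LD3_c7)) = (LP (LK LD1_c11 LD2_c40 LD3_c28)) :=
  Lgr Lrot25 (Lpr_bt (K6.f57075 IH) (Lpr_ft (K8.f163180 IH) (Lpr_bt (K6.f72594 IH) (Lpn (LP (LK LD1_c11 LD2_c40 LD3_c28))))))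
theorem f209930 : Led Lsl_at (LP (LK LD1_c9 LD2_c49 LD3_c7)) = (LP (LK LD1_c12 LD2_c44 LD3_c4)) :=
  Lgr Lrot66 (Lpr_ff (f163182 IH) (Lpe (f209922 IH) (Lpr_ff (f209928 IH) (Lpn (LP (LK LD1_c12 LD2_c44 LD3_c4))))))
theorem f209936 : Led Lsl_af (LP (LK LD1_c5 LD2_c55 LD3_c42)) = (LP (LK LD1_c6 LD2_c39 LD3_c11)) :=
  Lgr Lrot68 (Lpe (K6.f81958 IH) (Lpr_at (f209930 IH) (Lpr_ct (K7.f150193 IH) (Lpn (LP (LK LD1_c6 LD2_c39 LD3_c11))))))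
theorem f150196 : Led Lsl_et (LP (LK LD1_c12 LD2_c44 LD3_c5)) = (LP (LK LD1_c6 LD2_c39 LD3_c11)) :=
  Lre_e IH (LK LD1_c12 LD2_c44 LD3_c5) (LK LD1_c6 LD2_c39 LD3_c11) Lrfl Lrfl
theorem f209938 : Led Lsl_at (LP (LK LD1_c11 LD2_c36 LD3_c38)) = (LP (LK LD1_c12 LD2_c44 LD3_c5)) :=
  Lgr Lrot80 (Lpe (K8.f81985 IH) (Lpr_af (f209936 IH) (Lpe (f150196 IH) (Lpn (LP (LK LD1_c12 LD2_c44 LD3_c5))))))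
theorem f209943 : Led Lsl_gt (LP (LK LD1_c21 LD2_c51 LD3_c19)) = (LP (LK LD1_c12 LD2_c44 LD3_c5)) :=
  Lre_g IH (LK LD1_c21 LD2_c51 LD3_c19) (LK LD1_c12 LD2_c44 LD3_c5) Lrfl Lrfl
theorem f707280 : Led Lsl_gt (LP (LK LD1_c17 LD2_c33 LD3_c19)) = (LP (LK LD1_c21 LD2_c51 LD3_c19)) :=
  Lgr Lrot5 (Lpr_ft (f707268 IH) (Lpr_at (f209938 IH) (Lpe (f209943 IH) (Lpn (LP (LK LD1_c21 LD2_c51 LD3_c19))))))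
theorem f124558 : Led Lsl_ft (LP (LK LD1_c3 LD2_c13 LD3_c18)) = (LP (LK LD1_c6 LD2_c30 LD3_c27)) :=
  Lre_f IH (LK LD1_c3 LD2_c13 LD3_c18) (LK LD1_c6 LD2_c30 LD3_c27) Lrfl Lrfl
theorem f662577 : Led Lsl_at (LP (LK LD1_c6 LD2_c30 LD3_c27)) = K48.v7231 :=
  Lgr Lrot66 (Lpe (f124558 IH) (Lpe (K48.f139724 IH) (Lpr_ff (K49.f662575 IH) (Lpn K48.v7231))))
theorem f662585 : Led Lsl_gt v5779 = K48.v7231 :=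
  Lgr Lrot46 (Lpe (f649329 IH) (Lpr_ft (f124558 IH) (Lpr_at (f662577 IH) (Lpn K48.v7231))))
theorem f662855 : v5779 = K46.v6016 :=
  Lefun (Lecon (Lfl_gt (f662585 IH)) ((K49.f662838 IH).trans (K48.f651564 IH).symm)) (K46.f650554 IH)
theorem f650553 : Led Lsl_ft (LP (LK LD1_c3 LD2_c18 LD3_c31)) = K46.v6016 :=
  Lgr Lrot48 (Lpr_ff (K46.f650550 IH) (Lpn K46.v6016))
theorem f509025 : Led Lsl_ct (LP (LK LD1_c6 LD2_c40 LD3_c58)) = (LP (LK LD1_c3 LD2_c18 LD3_c31)) :=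
  Lre_c IH (LK LD1_c6 LD2_c40 LD3_c58) (LK LD1_c3 LD2_c18 LD3_c31) Lrfl Lrfl
theorem f709766 : Led Lsl_ff (LP (LK LD1_c6 LD2_c40 LD3_c58)) = (LP (LK LD1_c6 LD2_c20 LD3_c2)) :=
  Lgr Lrot23 (Lpr_ct (f509025 IH) (Lpr_ft (f650553 IH) (Lpq (f662855 IH) (Lpr_ct (f708692 IH) (Lpn (LP (LK LD1_c6 LD2_c20 LD3_c2)))))))
theorem f709771 : Led Lsl_ft (LP (LK LD1_c6 LD2_c40 LD3_c58)) = (LP (LK LD1_c6 LD2_c20 LD3_c2)) :=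
  Lgr Lrot48 (Lpr_ff (f709766 IH) (Lpn (LP (LK LD1_c6 LD2_c20 LD3_c2))))
theorem f651581 : Led Lsl_bt (LP (LK LD1_c12 LD2_c47 LD3_c19)) = (LP (LK LD1_c6 LD2_c40 LD3_c58)) :=
  Lre_b IH (LK LD1_c12 LD2_c47 LD3_c19) (LK LD1_c6 LD2_c40 LD3_c58) Lrfl Lrfl
theorem f709773 : Led Lsl_ff (LP (LK LD1_c12 LD2_c47 LD3_c19)) = (LP (LK LD1_c12 LD2_c14 LD3_c50)) :=
  Lgr Lrot25 (Lpr_bt (f651581 IH) (Lpr_ft (f709771 IH) (Lpr_bt (f709764 IH) (Lpn (LP (LK LD1_c12 LD2_c14 LD3_c50))))))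
theorem f709777 : Led Lsl_af (LP (LK LD1_c21 LD2_c51 LD3_c19)) = (LP (LK LD1_c12 LD2_c47 LD3_c19)) :=
  Lgr Lrot31 (Lpe (f707280 IH) (Lpr_gf (f709775 IH) (Lpe (f709773 IH) (Lpn (LP (LK LD1_c12 LD2_c47 LD3_c19))))))
theorem f650544 : Led Lsl_bt (LP (LK LD1_c6 LD2_c40 LD3_c58)) = (LP (LK LD1_c12 LD2_c47 LD3_c19)) :=
  Lre_b IH (LK LD1_c6 LD2_c40 LD3_c58) (LK LD1_c12 LD2_c47 LD3_c19) Lrfl Lrfl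
theorem f650560 : Led Lsl_at (LP (LK LD1_c3 LD2_c18 LD3_c32)) = (LP (LK LD1_c6 LD2_c40 LD3_c58)) :=
  Lre_a IH (LK LD1_c3 LD2_c18 LD3_c32) (LK LD1_c6 LD2_c40 LD3_c58) Lrfl Lrfl
theorem f624498 : Led Lsl_bt (LP (LK LD1_c6 LD2_c40 LD3_c61)) = (LP (LK LD1_c3 LD2_c18 LD3_c32)) :=
  Lre_b IH (LK LD1_c6 LD2_c40 LD3_c61) (LK LD1_c3 LD2_c18 LD3_c32) Lrfl Lrfl
theorem f709781 : Led Lsl_at (LP (LK LD1_c12 LD2_c47 LD3_c21)) = (LP (LK LD1_c6 LD2_c40 LD3_c61)) :=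
  Lre_a IH (LK LD1_c12 LD2_c47 LD3_c21) (LK LD1_c6 LD2_c40 LD3_c61) Lrfl Lrfl
theorem f709782 : Led Lsl_bt (LP (LK LD1_c21 LD2_c51 LD3_c19)) = (LP (LK LD1_c12 LD2_c47 LD3_c21)) :=
  Lgr Lrot62 (Lpr_af (f709777 IH) (Lpe (f650544 IH) (Lpe (f650560 IH) (Lpe (f624498 IH) (Lpe (f709781 IH) (Lpn (LP (LK LD1_c12 LD2_c47 LD3_c21))))))))
theorem f709784 : Led Lsl_bf (LP (LK LD1_c21 LD2_c51 LD3_c19)) = (LP (LK LD1_c12 LD2_c47 LD3_c21)) :=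
  Lgr Lrot24 (Lpr_bt (f709782 IH) (Lpn (LP (LK LD1_c12 LD2_c47 LD3_c21))))
def v13873 : LQ := Led Lsl_gt (LP (LK LD1_c4 LD2_c49 LD3_c23))
theorem f705627 : Led Lsl_gt (LP (LK LD1_c4 LD2_c49 LD3_c23)) = v13873 :=
  Lrfl
theorem f705628 : Led Lsl_gf (LP (LK LD1_c6 LD2_c45 LD3_c13)) = v13873 :=
  Lgr Lrot76 (Lpe (K49.f140992 IH) (Lpr_ff (K49.f510206 IH) (Lpr_gt (f705627 IH) (Lpn v13873))))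
theorem f709994 : v13873 = (LP (LK LD1_c9 LD2_c12 LD3_c54)) :=
  (Llr Lrot181 (Lpe (f705628 IH) (Lpr_ct (K51.f509389 IH) (Lpr_gt (f510254 IH) (Lpe (f77073 IH) (Lpr_bt (f77074 IH) (Lpr_gt (f707280 IH) (Lpr_bf (f709784 IH) (Lpr_ct (f624208 IH) (Lpr_gt (f709988 IH) (Lpr_cf (K6.f124534 IH) (Lpr_bt (K51.f124533 IH) (Lpn (LP (LK LD1_c9 LD2_c12 LD3_c54))))))))))))))).symm
theorem f76967 : Led Lsl_bt (LP (LK LD1_c2 LD2_c22 LD3_c29)) = (LP (LK LD1_c1 LD2_c8 LD3_c22)) :=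
  Lre_b IH (LK LD1_c2 LD2_c22 LD3_c29) (LK LD1_c1 LD2_c8 LD3_c22) Lrfl Lrfl
theorem f709999 : Led Lsl_gt (LP (LK LD1_c12 LD2_c53 LD3_c19)) = (LP (LK LD1_c9 LD2_c50 LD3_c32)) :=
  Lgr Lrot82 (Lpr_bf (f436681 IH) (Lpe (f436645 IH) (Lpq (f709994 IH) (Lpe (f705627 IH) (Lpe (K49.f76931 IH) (Lpr_bt (f76967 IH) (Lpe (K17.f76942 IH) (Lpe (K17.f76976 IH) (Lpr_ct (K17.f76977 IH) (Lpe (K17.f76978 IH) (Lpe (K17.f76979 IH) (Lpn (LP (LK LD1_c9 LD2_c50 LD3_c32))))))))))))))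
theorem f589226 : Led Lsl_dt (LP (LK LD1_c5 LD2_c51 LD3_c15)) = (LP (LK LD1_c11 LD2_c11 LD3_c26)) :=
  Lgr Lrot60 (Lpe (K8.f157898 IH) (Lpr_df (K51.f589222 IH) (Lpe (K51.f418641 IH) (Lpn (LP (LK LD1_c11 LD2_c11 LD3_c26))))))
theorem f418646 : Led Lsl_gt (LP (LK LD1_c20 LD2_c5 LD3_c59)) = (LP (LK LD1_c11 LD2_c11 LD3_c26)) :=
  Lre_g IH (LK LD1_c20 LD2_c5 LD3_c59) (LK LD1_c11 LD2_c11 LD3_c26) Lrfl Lrfl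
theorem f76989 : Led Lsl_et (LP (LK LD1_c18 LD2_c1 LD3_c38)) = (LP (LK LD1_c9 LD2_c50 LD3_c32)) :=
  Lre_e IH (LK LD1_c18 LD2_c1 LD3_c38) (LK LD1_c9 LD2_c50 LD3_c32) Lrfl Lrfl
theorem f710002 : Led Lsl_df (LP (LK LD1_c20 LD2_c5 LD3_c59)) = (LP (LK LD1_c18 LD2_c1 LD3_c38)) :=
  Lgr Lrot170 (Lpr_gt (f418646 IH) (Lpe (f589226 IH) (Lpr_et (K8.f157204 IH) (Lpe (K8.f157190 IH) (Lpr_dt (K6.f99661 IH) (Lpr_gt (K6.f38522 IH) (Lpr_df (K6.f141735 IH) (Lpr_et (K6.f141754 IH) (Lpr_gt (f709999 IH) (Lpe (f76989 IH) (Lpn (LP (LK LD1_c18 LD2_c1 LD3_c38)))))))))))))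
theorem f77009 : Led Lsl_bt (LP (LK LD1_c9 LD2_c50 LD3_c34)) = (LP (LK LD1_c18 LD2_c1 LD3_c38)) :=
  Lre_b IH (LK LD1_c9 LD2_c50 LD3_c34) (LK LD1_c18 LD2_c1 LD3_c38) Lrfl Lrfl
theorem f139352 : Led Lsl_dt (LP (LK LD1_c18 LD2_c1 LD3_c40)) = (LP (LK LD1_c9 LD2_c50 LD3_c34)) :=
  Lre_d IH (LK LD1_c18 LD2_c1 LD3_c40) (LK LD1_c9 LD2_c50 LD3_c34) Lrfl Lrfl
theorem f710004 : Led Lsl_bt (LP (LK LD1_c20 LD2_c5 LD3_c59)) = (LP (LK LD1_c18 LD2_c1 LD3_c40)) :=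
  Lgr Lrot95 (Lpr_df (f710002 IH) (Lpe (f77009 IH) (Lpe (f139352 IH) (Lpn (LP (LK LD1_c18 LD2_c1 LD3_c40))))))
theorem f74429 : Led Lsl_et (LP (LK LD1_c5 LD2_c47 LD3_c1)) = (LP (LK LD1_c2 LD2_c49 LD3_c22)) :=
  Lre_e IH (LK LD1_c5 LD2_c47 LD3_c1) (LK LD1_c2 LD2_c49 LD3_c22) Lrfl Lrfl
theorem f74169 : Led Lsl_dt (LP (LK LD1_c5 LD2_c47 LD3_c1)) = (LP (LK LD1_c11 LD2_c24 LD3_c16)) :=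
  Lre_d IH (LK LD1_c5 LD2_c47 LD3_c1) (LK LD1_c11 LD2_c24 LD3_c16) Lrfl Lrfl
theorem f139342 : Led Lsl_et (LP (LK LD1_c9 LD2_c50 LD3_c34)) = (LP (LK LD1_c5 LD2_c0 LD3_c0)) :=
  Lre_e IH (LK LD1_c9 LD2_c50 LD3_c34) (LK LD1_c5 LD2_c0 LD3_c0) Lrfl Lrfl
theorem f139343 : Led Lsl_dt (LP (LK LD1_c9 LD2_c50 LD3_c34)) = (LP (LK LD1_c18 LD2_c1 LD3_c40)) :=
  Lre_d IH (LK LD1_c9 LD2_c50 LD3_c34) (LK LD1_c18 LD2_c1 LD3_c40) Lrfl Lrfl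
theorem f139344 : Led Lsl_gf (LP (LK LD1_c11 LD2_c24 LD3_c16)) = (LP (LK LD1_c18 LD2_c1 LD3_c40)) :=
  Lgr Lrot145 (Lpe (f74169 IH) (Lpr_et (f74429 IH) (Lpr_gt (K6.f139337 IH) (Lpr_dt (K6.f139178 IH) (Lpe (K6.f139339 IH) (Lpe (K7.f26451 IH) (Lpr_et (K17.f139341 IH) (Lpr_gt (K17.f73773 IH) (Lpe (f139342 IH) (Lpr_dt (f139343 IH) (Lpn (LP (LK LD1_c18 LD2_c1 LD3_c40)))))))))))))
theorem f139349 : Led Lsl_ft (LP (LK LD1_c11 LD2_c24 LD3_c33)) = (LP (LK LD1_c5 LD2_c47 LD3_c7)) :=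
  Lre_f IH (LK LD1_c11 LD2_c24 LD3_c33) (LK LD1_c5 LD2_c47 LD3_c7) Lrfl Lrfl
theorem f139350 : Led Lsl_gt (LP (LK LD1_c11 LD2_c24 LD3_c33)) = (LP (LK LD1_c18 LD2_c1 LD3_c40)) :=
  Lgr Lrot5 (Lpr_ft (f139349 IH) (Lpr_at (K50.f74168 IH) (Lpr_gf (f139344 IH) (Lpn (LP (LK LD1_c18 LD2_c1 LD3_c40))))))
theorem f73665 : Led Lsl_bt (LP (LK LD1_c5 LD2_c47 LD3_c13)) = (LP (LK LD1_c11 LD2_c24 LD3_c33)) :=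
  Lre_b IH (LK LD1_c5 LD2_c47 LD3_c13) (LK LD1_c11 LD2_c24 LD3_c33) Lrfl Lrfl
theorem f73035 : Led Lsl_bt (LP (LK LD1_c3 LD2_c2 LD3_c32)) = (LP (LK LD1_c1 LD2_c27 LD3_c17)) :=
  Lre_b IH (LK LD1_c3 LD2_c2 LD3_c32) (LK LD1_c1 LD2_c27 LD3_c17) Lrfl Lrfl
theorem f73037 : Led Lsl_ct (LP (LK LD1_c3 LD2_c2 LD3_c32)) = (LP (LK LD1_c6 LD2_c11 LD3_c61)) :=
  Lre_c IH (LK LD1_c3 LD2_c2 LD3_c32) (LK LD1_c6 LD2_c11 LD3_c61) Lrfl Lrfl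
theorem f73065 : Led Lsl_gt (LP (LK LD1_c12 LD2_c3 LD3_c43)) = (LP (LK LD1_c6 LD2_c11 LD3_c61)) :=
  Lre_g IH (LK LD1_c12 LD2_c3 LD3_c43) (LK LD1_c6 LD2_c11 LD3_c61) Lrfl Lrfl
theorem f710023 : Led Lsl_ct (LP (LK LD1_c20 LD2_c5 LD3_c59)) = (LP (LK LD1_c12 LD2_c3 LD3_c43)) :=
  Lgr Lrot64 (Lpr_bt (f710004 IH) (Lpe (f139350 IH) (Lpe (f73665 IH) (Lpr_ct (K2.f73683 IH) (Lpe (K17.f141010 IH) (Lpe (K17.f141009 IH) (Lpe (K17.f23044 IH) (Lpe (f73035 IH) (Lpr_ct (f73037 IH) (Lpe (f73065 IH) (Lpn (LP (LK LD1_c12 LD2_c3 LD3_c43)))))))))))))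
theorem f589212 : Led Lsl_gt (LP (LK LD1_c27 LD2_c42 LD3_c15)) = (LP (LK LD1_c20 LD2_c5 LD3_c59)) :=
  Lgr Lrot5 (Lpr_ft (K51.f589209 IH) (Lpr_at (K51.f589203 IH) (Lpe (f418646 IH) (Lpn (LP (LK LD1_c20 LD2_c5 LD3_c59))))))
theorem f157212 : Led Lsl_gt (LP (LK LD1_c11 LD2_c29 LD3_c58)) = (LP (LK LD1_c5 LD2_c51 LD3_c15)) :=
  Lre_g IH (LK LD1_c11 LD2_c29 LD3_c58) (LK LD1_c5 LD2_c51 LD3_c15) Lrfl Lrfl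
theorem f158123 : Led Lsl_gt (LP (LK LD1_c17 LD2_c57 LD3_c47)) = (LP (LK LD1_c11 LD2_c29 LD3_c58)) :=
  Lgr Lrot5 (Lpr_ft (K51.f157126 IH) (Lpr_at (K8.f158117 IH) (Lpe (f157212 IH) (Lpn (LP (LK LD1_c11 LD2_c29 LD3_c58))))))
theorem f73048 : Led Lsl_ct (LP (LK LD1_c6 LD2_c11 LD3_c61)) = (LP (LK LD1_c3 LD2_c2 LD3_c32)) :=
  Lre_c IH (LK LD1_c6 LD2_c11 LD3_c61) (LK LD1_c3 LD2_c2 LD3_c32) Lrfl Lrfl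
theorem f100272 : Led Lsl_ct (LP (LK LD1_c3 LD2_c2 LD3_c7)) = (LP (LK LD1_c1 LD2_c27 LD3_c14)) :=
  Lre_c IH (LK LD1_c3 LD2_c2 LD3_c7) (LK LD1_c1 LD2_c27 LD3_c14) Lrfl Lrfl
theorem f141014 : Led Lsl_gt (LP (LK LD1_c6 LD2_c10 LD3_c60)) = (LP (LK LD1_c3 LD2_c2 LD3_c7)) :=
  Lre_g IH (LK LD1_c6 LD2_c10 LD3_c60) (LK LD1_c3 LD2_c2 LD3_c7) Lrfl Lrfl
theorem f710033 : Led Lsl_ct (LP (LK LD1_c11 LD2_c29 LD3_c58)) = (LP (LK LD1_c6 LD2_c10 LD3_c60)) :=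
  Lgr Lrot152 (Lpe (f158123 IH) (Lpe (K51.f157134 IH) (Lpr_gt (f589212 IH) (Lpr_ct (f710023 IH) (Lpr_gt (f73065 IH) (Lpr_ct (f73048 IH) (Lpe (K40.f73052 IH) (Lpe (f100272 IH) (Lpe (f141014 IH) (Lpn (LP (LK LD1_c6 LD2_c10 LD3_c60))))))))))))
theorem f119925 : Led Lsl_cf (LP (LK LD1_c11 LD2_c38 LD3_c43)) = (LP (LK LD1_c20 LD2_c22 LD3_c43)) :=
  Lgr Lrot39 (Lpr_et (K4.f119921 IH) (Lpr_ct (K4.f117488 IH) (Lpe (K51.f117536 IH) (Lpn (LP (LK LD1_c20 LD2_c22 LD3_c43))))))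
theorem f100268 : Led Lsl_ct (LP (LK LD1_c1 LD2_c27 LD3_c14)) = (LP (LK LD1_c3 LD2_c2 LD3_c7)) :=
  Lre_c IH (LK LD1_c1 LD2_c27 LD3_c14) (LK LD1_c3 LD2_c2 LD3_c7) Lrfl Lrfl
theorem f141013 : Led Lsl_bt (LP (LK LD1_c1 LD2_c27 LD3_c14)) = (LP (LK LD1_c0 LD2_c40 LD3_c24)) :=
  Lre_b IH (LK LD1_c1 LD2_c27 LD3_c14) (LK LD1_c0 LD2_c40 LD3_c24) Lrfl Lrfl
theorem f710043 : Led Lsl_gf (LP (LK LD1_c11 LD2_c38 LD3_c43)) = (LP (LK LD1_c6 LD2_c12 LD3_c1)) :=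
  Lgr Lrot126 (Lpr_cf (f119925 IH) (Lpe (K51.f157127 IH) (Lpr_gt (f158123 IH) (Lpr_ct (f710033 IH) (Lpr_gt (f141014 IH) (Lpe (f100268 IH) (Lpr_bt (f141013 IH) (Lpr_gt (K1.f59815 IH) (Lpe (K38.f140646 IH) (Lpr_ct (K38.f140027 IH) (Lpn (LP (LK LD1_c6 LD2_c12 LD3_c1)))))))))))))
theorem f61042 : Led Lsl_ct (LP (LK LD1_c9 LD2_c17 LD3_c21)) = (LP (LK LD1_c4 LD2_c40 LD3_c57)) :=
  Lre_c IH (LK LD1_c9 LD2_c17 LD3_c21) (LK LD1_c4 LD2_c40 LD3_c57) Lrfl Lrfl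
theorem f639703 : Led Lsl_ft (LP (LK LD1_c6 LD2_c12 LD3_c1)) = (LP (LK LD1_c9 LD2_c17 LD3_c21)) :=
  Lgr Lrot4 (Lpe (K38.f140027 IH) (Lpr_ff (K50.f639701 IH) (Lpe (f61042 IH) (Lpn (LP (LK LD1_c9 LD2_c17 LD3_c21))))))
theorem f701517 : Led Lsl_ft K50.v5251 = v13173 :=
  Lgr Lrot48 (Lpr_ff (f701514 IH) (Lpn v13173))
theorem f141817 : Led Lsl_ct (LP (LK LD1_c11 LD2_c38 LD3_c23)) = (LP (LK LD1_c5 LD2_c56 LD3_c32)) :=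
  Lre_c IH (LK LD1_c11 LD2_c38 LD3_c23) (LK LD1_c5 LD2_c56 LD3_c32) Lrfl Lrfl
theorem f499883 : Led Lsl_ct (LP (LK LD1_c6 LD2_c25 LD3_c18)) = (LP (LK LD1_c12 LD2_c23 LD3_c31)) :=
  Lre_c IH (LK LD1_c6 LD2_c25 LD3_c18) (LK LD1_c12 LD2_c23 LD3_c31) Lrfl Lrfl
theorem f706450 : Led Lsl_ff (LP (LK LD1_c11 LD2_c38 LD3_c23)) = (LP (LK LD1_c12 LD2_c23 LD3_c31)) :=
  Lgr Lrot23 (Lpr_ct (f141817 IH) (Lpqs (K51.f706306 IH) (Lpr_ft (f701517 IH) (Lpq (f706369 IH) (Lpr_ct (f499883 IH) (Lpn (LP (LK LD1_c12 LD2_c23 LD3_c31))))))))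
theorem f706430 : Led Lsl_af (LP (LK LD1_c6 LD2_c12 LD3_c1)) = (LP (LK LD1_c11 LD2_c38 LD3_c23)) :=
  Lgr Lrot68 (Lpr_ct (K51.f59869 IH) (Lpr_at (K50.f646799 IH) (Lpq (K51.f706306 IH) (Lpr_ct (K51.f496820 IH) (Lpn (LP (LK LD1_c11 LD2_c38 LD3_c23)))))))
theorem f706452 : Led Lsl_at (LP (LK LD1_c9 LD2_c17 LD3_c21)) = (LP (LK LD1_c12 LD2_c23 LD3_c31)) :=
  Lgr Lrot66 (Lpe (f639703 IH) (Lpr_af (f706430 IH) (Lpr_ff (f706450 IH) (Lpn (LP (LK LD1_c12 LD2_c23 LD3_c31))))))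
theorem f710047 : Led Lsl_gt (LP (LK LD1_c11 LD2_c38 LD3_c43)) = (LP (LK LD1_c12 LD2_c23 LD3_c31)) :=
  Lgr Lrot46 (Lpr_gf (f710043 IH) (Lpr_ft (f639703 IH) (Lpr_at (f706452 IH) (Lpn (LP (LK LD1_c12 LD2_c23 LD3_c31))))))
theorem f119935 : Led Lsl_ft (LP (LK LD1_c11 LD2_c38 LD3_c43)) = (LP (LK LD1_c5 LD2_c56 LD3_c42)) :=
  Lre_f IH (LK LD1_c11 LD2_c38 LD3_c43) (LK LD1_c5 LD2_c56 LD3_c42) Lrfl Lrfl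
theorem f66281 : Led Lsl_ct (LP (LK LD1_c6 LD2_c36 LD3_c47)) = (LP (LK LD1_c5 LD2_c47 LD3_c46)) :=
  Lgr Lrot59 (Lpr_cf (K4.f66267 IH) (Lpn (LP (LK LD1_c5 LD2_c47 LD3_c46))))
theorem f119939 : Led Lsl_at (LP (LK LD1_c5 LD2_c56 LD3_c42)) = (LP (LK LD1_c6 LD2_c36 LD3_c47)) :=
  Lgr Lrot107 (Lpr_cf (K4.f119936 IH) (Lpe (K8.f66391 IH) (Lpe (f66281 IH) (Lpn (LP (LK LD1_c6 LD2_c36 LD3_c47))))))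
theorem f710049 : Led Lsl_gf (LP (LK LD1_c6 LD2_c36 LD3_c47)) = (LP (LK LD1_c12 LD2_c23 LD3_c31)) :=
  Lgr Lrot76 (Lpe (f119939 IH) (Lpe (f119935 IH) (Lpr_gt (f710047 IH) (Lpn (LP (LK LD1_c12 LD2_c23 LD3_c31))))))
theorem f589406 : Led Lsl_at (LP (LK LD1_c11 LD2_c7 LD3_c18)) = (LP (LK LD1_c20 LD2_c0 LD3_c37)) :=
  Lre_a IH (LK LD1_c11 LD2_c7 LD3_c18) (LK LD1_c20 LD2_c0 LD3_c37) Lrfl Lrfl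
theorem f589407 : Led Lsl_df (LP (LK LD1_c11 LD2_c7 LD3_c18)) = (LP (LK LD1_c5 LD2_c47 LD3_c46)) :=
  Lgr Lrot18 (Lpr_at (f589406 IH) (Lpr_dt (K51.f589404 IH) (Lpr_at (K4.f66277 IH) (Lpn (LP (LK LD1_c5 LD2_c47 LD3_c46))))))
theorem f589414 : Led Lsl_bt (LP (LK LD1_c11 LD2_c7 LD3_c17)) = (LP (LK LD1_c11 LD2_c11 LD3_c25)) :=
  Lgr Lrot119 (Lpe (K51.f589254 IH) (Lpr_bf (K51.f589409 IH) (Lpr_ef (K51.f589201 IH) (Lpn (LP (LK LD1_c11 LD2_c11 LD3_c25))))))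
theorem f175934 : Led Lsl_gt (LP (LK LD1_c9 LD2_c2 LD3_c13)) = (LP (LK LD1_c16 LD2_c52 LD3_c29)) :=
  Lre_g IH (LK LD1_c9 LD2_c2 LD3_c13) (LK LD1_c16 LD2_c52 LD3_c29) Lrfl Lrfl
theorem f589416 : Led Lsl_ct (LP (LK LD1_c11 LD2_c7 LD3_c17)) = (LP (LK LD1_c16 LD2_c52 LD3_c29)) :=
  Lgr Lrot63 (Lpr_bt (f589414 IH) (Lpr_gt (K51.f589173 IH) (Lpr_bf (K40.f561369 IH) (Lpr_ct (K39.f552449 IH) (Lpr_gt (K39.f386625 IH) (Lpe (K36.f302419 IH) (Lpr_bt (K27.f289311 IH) (Lpe (K39.f552445 IH) (Lpr_ct (K41.f26954 IH) (Lpr_gt (f175934 IH) (Lpn (LP (LK LD1_c16 LD2_c52 LD3_c29)))))))))))))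
theorem f589422 : Led Lsl_ff (LP (LK LD1_c9 LD2_c3 LD3_c9)) = (LP (LK LD1_c16 LD2_c52 LD3_c29)) :=
  Lgr Lrot23 (Lpe (K41.f566557 IH) (Lpr_ft (K39.f557220 IH) (Lpr_ct (f589416 IH) (Lpn (LP (LK LD1_c16 LD2_c52 LD3_c29))))))
theorem f589432 : Led Lsl_ft (LP (LK LD1_c9 LD2_c3 LD3_c9)) = (LP (LK LD1_c16 LD2_c52 LD3_c29)) :=
  Lgr Lrot48 (Lpr_ff (f589422 IH) (Lpn (LP (LK LD1_c16 LD2_c52 LD3_c29))))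
theorem f566573 : Led Lsl_at (LP (LK LD1_c11 LD2_c11 LD3_c33)) = (LP (LK LD1_c9 LD2_c3 LD3_c9)) :=
  Lgr Lrot100 (Lpr_af (K41.f566571 IH) (Lpn (LP (LK LD1_c9 LD2_c3 LD3_c9))))
theorem f557208 : Led Lsl_at (LP (LK LD1_c5 LD2_c38 LD3_c0)) = (LP (LK LD1_c11 LD2_c7 LD3_c17)) :=
  Lre_a IH (LK LD1_c5 LD2_c38 LD3_c0) (LK LD1_c11 LD2_c7 LD3_c17) Lrfl Lrfl
theorem f164802 : Led Lsl_dt (LP (LK LD1_c2 LD2_c44 LD3_c33)) = (LP (LK LD1_c1 LD2_c18 LD3_c37)) :=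
  Lre_d IH (LK LD1_c2 LD2_c44 LD3_c33) (LK LD1_c1 LD2_c18 LD3_c37) Lrfl Lrfl
theorem f561162 : Led Lsl_cf (LP (LK LD1_c5 LD2_c38 LD3_c0)) = (LP (LK LD1_c9 LD2_c3 LD3_c8)) :=
  Lgr Lrot99 (Lpe (K39.f547773 IH) (Lpq (K39.f547765 IH) (Lpe (K38.f496034 IH) (Lpr_gf (K39.f551821 IH) (Lpe (K39.f547368 IH) (Lpe (K38.f164847 IH) (Lpe (f164802 IH) (Lpr_gt (K40.f561157 IH) (Lpr_ct (f177896 IH) (Lpr_gt (f561161 IH) (Lpn (LP (LK LD1_c9 LD2_c3 LD3_c8)))))))))))))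
theorem f589418 : Led Lsl_af (LP (LK LD1_c9 LD2_c3 LD3_c8)) = (LP (LK LD1_c16 LD2_c52 LD3_c29)) :=
  Lgr Lrot68 (Lpe (f561162 IH) (Lpr_at (f557208 IH) (Lpr_ct (f589416 IH) (Lpn (LP (LK LD1_c16 LD2_c52 LD3_c29))))))
theorem f589434 : Led Lsl_ff (LP (LK LD1_c11 LD2_c11 LD3_c33)) = (LP (LK LD1_c9 LD2_c3 LD3_c8)) :=
  Lgr Lrot30 (Lpr_at (f566573 IH) (Lpr_ft (f589432 IH) (Lpe (f589418 IH) (Lpn (LP (LK LD1_c9 LD2_c3 LD3_c8))))))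
theorem f589439 : Led Lsl_ft (LP (LK LD1_c11 LD2_c11 LD3_c33)) = (LP (LK LD1_c9 LD2_c3 LD3_c8)) :=
  Lgr Lrot48 (Lpr_ff (f589434 IH) (Lpn (LP (LK LD1_c9 LD2_c3 LD3_c8))))
theorem f582485 : Led Lsl_bt (LP (LK LD1_c20 LD2_c6 LD3_c11)) = (LP (LK LD1_c11 LD2_c11 LD3_c33)) :=
  Lre_b IH (LK LD1_c20 LD2_c6 LD3_c11) (LK LD1_c11 LD2_c11 LD3_c33) Lrfl Lrfl
theorem f589443 : Led Lsl_bt (LP (LK LD1_c9 LD2_c3 LD3_c8)) = (LP (LK LD1_c16 LD2_c53 LD3_c50)) :=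
  Lre_b IH (LK LD1_c9 LD2_c3 LD3_c8) (LK LD1_c16 LD2_c53 LD3_c50) Lrfl Lrfl
theorem f589444 : Led Lsl_ff (LP (LK LD1_c20 LD2_c6 LD3_c11)) = (LP (LK LD1_c16 LD2_c53 LD3_c50)) :=
  Lgr Lrot25 (Lpr_bt (f582485 IH) (Lpr_ft (f589439 IH) (Lpr_bt (f589443 IH) (Lpn (LP (LK LD1_c16 LD2_c53 LD3_c50))))))
theorem f557289 : Led Lsl_ct (LP (LK LD1_c20 LD2_c6 LD3_c11)) = (LP (LK LD1_c11 LD2_c11 LD3_c35)) :=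
  Lre_c IH (LK LD1_c20 LD2_c6 LD3_c11) (LK LD1_c11 LD2_c11 LD3_c35) Lrfl Lrfl
theorem f557257 : Led Lsl_ff (LP (LK LD1_c5 LD2_c40 LD3_c27)) = (LP (LK LD1_c5 LD2_c38 LD3_c2)) :=
  Lgr Lrot3 (Lpr_ft (K43.f557251 IH) (Lpn (LP (LK LD1_c5 LD2_c38 LD3_c2))))
theorem f380597 : Led Lsl_bt (LP (LK LD1_c5 LD2_c40 LD3_c27)) = (LP (LK LD1_c11 LD2_c11 LD3_c35)) :=
  Lre_b IH (LK LD1_c5 LD2_c40 LD3_c27) (LK LD1_c11 LD2_c11 LD3_c35) Lrfl Lrfl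
theorem f557259 : Led Lsl_bt (LP (LK LD1_c11 LD2_c7 LD3_c20)) = (LP (LK LD1_c5 LD2_c38 LD3_c2)) :=
  Lre_b IH (LK LD1_c11 LD2_c7 LD3_c20) (LK LD1_c5 LD2_c38 LD3_c2) Lrfl Lrfl
theorem f557260 : Led Lsl_ft (LP (LK LD1_c11 LD2_c11 LD3_c35)) = (LP (LK LD1_c11 LD2_c7 LD3_c20)) :=
  Lgr Lrot75 (Lpe (f380597 IH) (Lpr_ff (f557257 IH) (Lpe (f557259 IH) (Lpn (LP (LK LD1_c11 LD2_c7 LD3_c20))))))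
theorem f589448 : Led Lsl_ct (LP (LK LD1_c11 LD2_c7 LD3_c20)) = (LP (LK LD1_c16 LD2_c53 LD3_c50)) :=
  Lgr Lrot40 (Lpe (f557260 IH) (Lpe (f557289 IH) (Lpr_ff (f589444 IH) (Lpn (LP (LK LD1_c16 LD2_c53 LD3_c50))))))
theorem f557307 : Led Lsl_et (LP (LK LD1_c20 LD2_c0 LD3_c46)) = (LP (LK LD1_c11 LD2_c7 LD3_c20)) :=
  Lre_e IH (LK LD1_c20 LD2_c0 LD3_c46) (LK LD1_c11 LD2_c7 LD3_c20) Lrfl Lrfl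
theorem f589456 : Led Lsl_et (LP (LK LD1_c16 LD2_c53 LD3_c50)) = (LP (LK LD1_c26 LD2_c50 LD3_c15)) :=
  Lre_e IH (LK LD1_c16 LD2_c53 LD3_c50) (LK LD1_c26 LD2_c50 LD3_c15) Lrfl Lrfl
theorem f589457 : Led Lsl_cf (LP (LK LD1_c20 LD2_c0 LD3_c46)) = (LP (LK LD1_c26 LD2_c50 LD3_c15)) :=
  Lgr Lrot39 (Lpr_et (f557307 IH) (Lpr_ct (f589448 IH) (Lpr_et (f589456 IH) (Lpn (LP (LK LD1_c26 LD2_c50 LD3_c15))))))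
theorem f589465 : Led Lsl_ct (LP (LK LD1_c20 LD2_c0 LD3_c46)) = (LP (LK LD1_c26 LD2_c50 LD3_c15)) :=
  Lgr Lrot59 (Lpr_cf (f589457 IH) (Lpn (LP (LK LD1_c26 LD2_c50 LD3_c15))))
theorem f589470 : Led Lsl_bt (LP (LK LD1_c11 LD2_c7 LD3_c22)) = (LP (LK LD1_c20 LD2_c0 LD3_c46)) :=
  Lre_b IH (LK LD1_c11 LD2_c7 LD3_c22) (LK LD1_c20 LD2_c0 LD3_c46) Lrfl Lrfl
theorem f589471 : Led Lsl_ct (LP (LK LD1_c5 LD2_c38 LD3_c3)) = (LP (LK LD1_c11 LD2_c7 LD3_c22)) :=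
  Lre_c IH (LK LD1_c5 LD2_c38 LD3_c3) (LK LD1_c11 LD2_c7 LD3_c22) Lrfl Lrfl
theorem f589468 : Led Lsl_bt (LP (LK LD1_c26 LD2_c50 LD3_c15)) = (LP (LK LD1_c16 LD2_c53 LD3_c51)) :=
  Lre_b IH (LK LD1_c26 LD2_c50 LD3_c15) (LK LD1_c16 LD2_c53 LD3_c51) Lrfl Lrfl
theorem f589472 : Led Lsl_cf (LP (LK LD1_c11 LD2_c7 LD3_c18)) = (LP (LK LD1_c16 LD2_c53 LD3_c51)) :=
  Lgr Lrot97 (Lpr_bt (K51.f589411 IH) (Lpr_ct (f589471 IH) (Lpr_bt (f589470 IH) (Lpr_ct (f589465 IH) (Lpr_bt (f589468 IH) (Lpn (LP (LK LD1_c16 LD2_c53 LD3_c51))))))))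
theorem f112484 : Led Lsl_et (LP (LK LD1_c3 LD2_c10 LD3_c14)) = (LP (LK LD1_c1 LD2_c31 LD3_c16)) :=
  Lre_e IH (LK LD1_c3 LD2_c10 LD3_c14) (LK LD1_c1 LD2_c31 LD3_c16) Lrfl Lrfl
theorem f496776 : Led Lsl_ft (LP (LK LD1_c2 LD2_c54 LD3_c35)) = (LP (LK LD1_c5 LD2_c56 LD3_c33)) :=
  Lre_f IH (LK LD1_c2 LD2_c54 LD3_c35) (LK LD1_c5 LD2_c56 LD3_c33) Lrfl Lrfl
theorem f496777 : Led Lsl_ef (LP (LK LD1_c6 LD2_c25 LD3_c11)) = (LP (LK LD1_c5 LD2_c56 LD3_c33)) :=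
  Lgr Lrot21 (Lpr_ft (K32.f496775 IH) (Lpr_et (f112484 IH) (Lpr_ft (K32.f496771 IH) (Lpr_et (K51.f141854 IH) (Lpr_ft (f496776 IH) (Lpn (LP (LK LD1_c5 LD2_c56 LD3_c33))))))))
theorem f164772 : Led Lsl_bt (LP (LK LD1_c11 LD2_c6 LD3_c24)) = (LP (LK LD1_c5 LD2_c37 LD3_c17)) :=
  Lre_b IH (LK LD1_c11 LD2_c6 LD3_c24) (LK LD1_c5 LD2_c37 LD3_c17) Lrfl Lrfl
theorem f164773 : Led Lsl_bt (LP (LK LD1_c5 LD2_c6 LD3_c2)) = (LP (LK LD1_c10 LD2_c2 LD3_c60)) :=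
  Lre_b IH (LK LD1_c5 LD2_c6 LD3_c2) (LK LD1_c10 LD2_c2 LD3_c60) Lrfl Lrfl
theorem f164774 : Led Lsl_df (LP (LK LD1_c11 LD2_c6 LD3_c24)) = (LP (LK LD1_c10 LD2_c2 LD3_c60)) :=
  Lgr Lrot12 (Lpr_bt (f164772 IH) (Lpr_dt (K50.f164760 IH) (Lpr_bt (f164773 IH) (Lpn (LP (LK LD1_c10 LD2_c2 LD3_c60))))))
theorem f289253 : Led Lsl_bt (LP (LK LD1_c11 LD2_c14 LD3_c25)) = (LP (LK LD1_c5 LD2_c42 LD3_c6)) :=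
  Lre_b IH (LK LD1_c11 LD2_c14 LD3_c25) (LK LD1_c5 LD2_c42 LD3_c6) Lrfl Lrfl
theorem f164779 : Led Lsl_bt (LP (LK LD1_c5 LD2_c37 LD3_c17)) = (LP (LK LD1_c11 LD2_c6 LD3_c24)) :=
  Lre_b IH (LK LD1_c5 LD2_c37 LD3_c17) (LK LD1_c11 LD2_c6 LD3_c24) Lrfl Lrfl
theorem f289333 : Led Lsl_ef (LP (LK LD1_c11 LD2_c14 LD3_c25)) = (LP (LK LD1_c11 LD2_c6 LD3_c24)) :=
  Lgr Lrot29 (Lpr_bt (f289253 IH) (Lpr_et (K17.f289329 IH) (Lpr_bt (f164779 IH) (Lpn (LP (LK LD1_c11 LD2_c6 LD3_c24))))))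
theorem f560088 : Led Lsl_df (LP (LK LD1_c5 LD2_c56 LD3_c33)) = (LP (LK LD1_c11 LD2_c14 LD3_c25)) :=
  Lgr Lrot70 (Lpe (f496777 IH) (Lpr_dt (K50.f560082 IH) (Lpr_et (K18.f302374 IH) (Lpe (f164774 IH) (Lpe (f289333 IH) (Lpn (LP (LK LD1_c11 LD2_c14 LD3_c25))))))))
theorem f618132 : Led Lsl_ct (LP (LK LD1_c12 LD2_c23 LD3_c32)) = (LP (LK LD1_c21 LD2_c30 LD3_c32)) :=
  Lre_c IH (LK LD1_c12 LD2_c23 LD3_c32) (LK LD1_c21 LD2_c30 LD3_c32) Lrfl Lrfl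
theorem f710051 : Led Lsl_gf (LP (LK LD1_c16 LD2_c53 LD3_c51)) = (LP (LK LD1_c21 LD2_c30 LD3_c32)) :=
  Lgr Lrot104 (Lpe (f589472 IH) (Lpr_df (f589407 IH) (Lpe (f66281 IH) (Lpr_gf (f710049 IH) (Lpe (f499883 IH) (Lpr_gf (f499881 IH) (Lpr_df (f560088 IH) (Lpe (K51.f618130 IH) (Lpr_ct (f618132 IH) (Lpn (LP (LK LD1_c21 LD2_c30 LD3_c32))))))))))))
theorem f589459 : Led Lsl_bt (LP (LK LD1_c20 LD2_c0 LD3_c46)) = (LP (LK LD1_c11 LD2_c7 LD3_c22)) :=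
  Lre_b IH (LK LD1_c20 LD2_c0 LD3_c46) (LK LD1_c11 LD2_c7 LD3_c22) Lrfl Lrfl
theorem f589460 : Led Lsl_ct (LP (LK LD1_c11 LD2_c7 LD3_c22)) = (LP (LK LD1_c5 LD2_c38 LD3_c3)) :=
  Lre_c IH (LK LD1_c11 LD2_c7 LD3_c22) (LK LD1_c5 LD2_c38 LD3_c3) Lrfl Lrfl
theorem f589461 : Led Lsl_bt (LP (LK LD1_c5 LD2_c38 LD3_c3)) = (LP (LK LD1_c11 LD2_c7 LD3_c18)) :=
  Lre_b IH (LK LD1_c5 LD2_c38 LD3_c3) (LK LD1_c11 LD2_c7 LD3_c18) Lrfl Lrfl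
theorem f589462 : Led Lsl_bt (LP (LK LD1_c16 LD2_c53 LD3_c51)) = (LP (LK LD1_c26 LD2_c50 LD3_c15)) :=
  Lre_b IH (LK LD1_c16 LD2_c53 LD3_c51) (LK LD1_c26 LD2_c50 LD3_c15) Lrfl Lrfl
theorem f589463 : Led Lsl_ct (LP (LK LD1_c11 LD2_c7 LD3_c18)) = (LP (LK LD1_c16 LD2_c53 LD3_c51)) :=
  Lgr Lrot83 (Lpe (f589461 IH) (Lpe (f589460 IH) (Lpe (f589459 IH) (Lpr_cf (f589457 IH) (Lpe (f589462 IH) (Lpn (LP (LK LD1_c16 LD2_c53 LD3_c51))))))))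
theorem f710053 : Led Lsl_gt (LP (LK LD1_c5 LD2_c38 LD3_c3)) = (LP (LK LD1_c11 LD2_c6 LD3_c61)) :=
  Lgr Lrot164 (Lpe (K51.f589411 IH) (Lpr_ct (f589463 IH) (Lpr_gf (f710051 IH) (Lpe (f618132 IH) (Lpr_gf (K51.f618130 IH) (Lpe (K51.f289258 IH) (Lpr_ct (K51.f381338 IH) (Lpe (K41.f289200 IH) (Lpr_cf (K50.f640788 IH) (Lpr_bt (K51.f640791 IH) (Lpn (LP (LK LD1_c11 LD2_c6 LD3_c61)))))))))))))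
theorem f589483 : Led Lsl_df (LP (LK LD1_c5 LD2_c38 LD3_c3)) = (LP (LK LD1_c2 LD2_c49 LD3_c56)) :=
  Lgr Lrot18 (Lpr_at (K51.f589412 IH) (Lpr_dt (f561473 IH) (Lpe (K8.f158104 IH) (Lpn (LP (LK LD1_c2 LD2_c49 LD3_c56))))))
theorem f100341 : Led Lsl_et (LP (LK LD1_c2 LD2_c14 LD3_c33)) = (LP (LK LD1_c1 LD2_c4 LD3_c23)) :=
  Lre_e IH (LK LD1_c2 LD2_c14 LD3_c33) (LK LD1_c1 LD2_c4 LD3_c23) Lrfl Lrfl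
theorem f100342 : Led Lsl_dt (LP (LK LD1_c2 LD2_c14 LD3_c33)) = (LP (LK LD1_c4 LD2_c34 LD3_c56)) :=
  Lre_d IH (LK LD1_c2 LD2_c14 LD3_c33) (LK LD1_c4 LD2_c34 LD3_c56) Lrfl Lrfl
theorem f25280 : Led Lsl_gt (LP (LK LD1_c9 LD2_c6 LD3_c36)) = (LP (LK LD1_c4 LD2_c34 LD3_c56)) :=
  Lre_g IH (LK LD1_c9 LD2_c6 LD3_c36) (LK LD1_c4 LD2_c34 LD3_c56) Lrfl Lrfl
theorem f454438 : Led Lsl_et (LP (LK LD1_c6 LD2_c47 LD3_c19)) = (LP (LK LD1_c3 LD2_c21 LD3_c49)) :=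
  Lre_e IH (LK LD1_c6 LD2_c47 LD3_c19) (LK LD1_c3 LD2_c21 LD3_c49) Lrfl Lrfl
theorem f454523 : Led Lsl_et (LP (LK LD1_c9 LD2_c32 LD3_c27)) = (LP (LK LD1_c12 LD2_c57 LD3_c41)) :=
  Lgr Lrot69 (Lpr_ff (K24.f454519 IH) (Lpe (K24.f416219 IH) (Lpr_ff (K51.f454430 IH) (Lpe (f454438 IH) (Lpe (K24.f454439 IH) (Lpn (LP (LK LD1_c12 LD2_c57 LD3_c41))))))))
theorem f454553 : Led Lsl_gt (LP (LK LD1_c12 LD2_c57 LD3_c41)) = (LP (LK LD1_c6 LD2_c47 LD3_c25)) :=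
  Lre_g IH (LK LD1_c12 LD2_c57 LD3_c41) (LK LD1_c6 LD2_c47 LD3_c25) Lrfl Lrfl
theorem f710059 : Led Lsl_df (LP (LK LD1_c9 LD2_c6 LD3_c36)) = (LP (LK LD1_c6 LD2_c47 LD3_c25)) :=
  Lgr Lrot135 (Lpr_gt (f25280 IH) (Lpe (f100342 IH) (Lpr_et (f100341 IH) (Lpe (K6.f116724 IH) (Lpe (K51.f66396 IH) (Lpe (f589483 IH) (Lpr_gt (f710053 IH) (Lpe (K51.f643236 IH) (Lpr_et (f454523 IH) (Lpr_gt (f454553 IH) (Lpn (LP (LK LD1_c6 LD2_c47 LD3_c25)))))))))))))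
theorem f710066 : Led Lsl_dt (LP (LK LD1_c9 LD2_c6 LD3_c36)) = (LP (LK LD1_c6 LD2_c47 LD3_c25)) :=
  Lgr Lrot42 (Lpr_df (f710059 IH) (Lpn (LP (LK LD1_c6 LD2_c47 LD3_c25))))
theorem f25281 : Led Lsl_bt (LP (LK LD1_c16 LD2_c58 LD3_c35)) = (LP (LK LD1_c9 LD2_c6 LD3_c36)) :=
  Lre_b IH (LK LD1_c16 LD2_c58 LD3_c35) (LK LD1_c9 LD2_c6 LD3_c36) Lrfl Lrfl
theorem f710075 : Led Lsl_bt (LP (LK LD1_c6 LD2_c47 LD3_c25)) = (LP (LK LD1_c12 LD2_c57 LD3_c55)) :=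
  Lre_b IH (LK LD1_c6 LD2_c47 LD3_c25) (LK LD1_c12 LD2_c57 LD3_c55) Lrfl Lrfl
theorem f710087 : Led Lsl_df (LP (LK LD1_c16 LD2_c58 LD3_c35)) = (LP (LK LD1_c12 LD2_c57 LD3_c55)) :=
  Lgr Lrot12 (Lpr_bt (f25281 IH) (Lpr_dt (f710066 IH) (Lpr_bt (f710075 IH) (Lpn (LP (LK LD1_c12 LD2_c57 LD3_c55))))))
theorem f135903 : Led Lsl_et (LP (LK LD1_c2 LD2_c14 LD3_c11)) = (LP (LK LD1_c4 LD2_c34 LD3_c26)) :=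
  Lre_e IH (LK LD1_c2 LD2_c14 LD3_c11) (LK LD1_c4 LD2_c34 LD3_c26) Lrfl Lrfl
theorem f438269 : Led Lsl_gt (LP (LK LD1_c4 LD2_c34 LD3_c26)) = (LP (LK LD1_c9 LD2_c5 LD3_c51)) :=
  Lre_g IH (LK LD1_c4 LD2_c34 LD3_c26) (LK LD1_c9 LD2_c5 LD3_c51) Lrfl Lrfl
theorem f710069 : Led Lsl_ef (LP (LK LD1_c9 LD2_c5 LD3_c51)) = (LP (LK LD1_c6 LD2_c47 LD3_c25)) :=
  Lgr Lrot17 (Lpe (f438269 IH) (Lpe (f135903 IH) (Lpr_dt (K6.f135867 IH) (Lpr_gf (K6.f135899 IH) (Lpe (K6.f66374 IH) (Lpr_gf (K6.f116724 IH) (Lpe (f100341 IH) (Lpr_dt (f100342 IH) (Lpe (f25280 IH) (Lpr_df (f710059 IH) (Lpn (LP (LK LD1_c6 LD2_c47 LD3_c25)))))))))))))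
theorem f710073 : Led Lsl_et (LP (LK LD1_c9 LD2_c5 LD3_c51)) = (LP (LK LD1_c6 LD2_c47 LD3_c25)) :=
  Lgr Lrot87 (Lpr_ef (f710069 IH) (Lpn (LP (LK LD1_c6 LD2_c47 LD3_c25))))
theorem f92115 : Led Lsl_gt (LP (LK LD1_c9 LD2_c5 LD3_c51)) = (LP (LK LD1_c4 LD2_c34 LD3_c35)) :=
  Lre_g IH (LK LD1_c9 LD2_c5 LD3_c51) (LK LD1_c4 LD2_c34 LD3_c35) Lrfl Lrfl
theorem f157776 : Led Lsl_ct (LP (LK LD1_c1 LD2_c36 LD3_c34)) = (LP (LK LD1_c3 LD2_c20 LD3_c21)) :=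
  Lre_c IH (LK LD1_c1 LD2_c36 LD3_c34) (LK LD1_c3 LD2_c20 LD3_c21) Lrfl Lrfl
theorem f207392 : Led Lsl_gt (LP (LK LD1_c3 LD2_c20 LD3_c21)) = (LP (LK LD1_c6 LD2_c44 LD3_c26)) :=
  Lre_g IH (LK LD1_c3 LD2_c20 LD3_c21) (LK LD1_c6 LD2_c44 LD3_c26) Lrfl Lrfl
theorem f207395 : Led Lsl_ct (LP (LK LD1_c12 LD2_c53 LD3_c26)) = (LP (LK LD1_c6 LD2_c44 LD3_c26)) :=
  Lre_c IH (LK LD1_c12 LD2_c53 LD3_c26) (LK LD1_c6 LD2_c44 LD3_c26) Lrfl Lrfl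
theorem f615338 : Led Lsl_bf (LP (LK LD1_c9 LD2_c5 LD3_c51)) = (LP (LK LD1_c12 LD2_c53 LD3_c26)) :=
  Lgr Lrot156 (Lpr_gt (f92115 IH) (Lpe (K6.f92107 IH) (Lpr_ct (K24.f92116 IH) (Lpe (K32.f416954 IH) (Lpr_cf (K32.f444001 IH) (Lpr_bt (K42.f444000 IH) (Lpqs (K42.f615000 IH) (Lpe (K42.f509240 IH) (Lpr_ct (f157776 IH) (Lpr_gt (f207392 IH) (Lpe (f207395 IH) (Lpn (LP (LK LD1_c12 LD2_c53 LD3_c26))))))))))))))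
theorem f710076 : Led Lsl_ef (LP (LK LD1_c12 LD2_c53 LD3_c26)) = (LP (LK LD1_c12 LD2_c57 LD3_c55)) :=
  Lgr Lrot29 (Lpe (f615338 IH) (Lpr_et (f710073 IH) (Lpr_bt (f710075 IH) (Lpn (LP (LK LD1_c12 LD2_c57 LD3_c55))))))
theorem f538060 : Led Lsl_bt (LP (LK LD1_c4 LD2_c37 LD3_c60)) = (LP (LK LD1_c2 LD2_c57 LD3_c29)) :=
  Lgr Lrot95 (Lpr_df (K35.f538056 IH) (Lpe (K11.f204222 IH) (Lpe (K11.f204259 IH) (Lpn (LP (LK LD1_c2 LD2_c57 LD3_c29))))))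
theorem f207318 : Led Lsl_ct (LP (LK LD1_c4 LD2_c37 LD3_c60)) = (LP (LK LD1_c9 LD2_c11 LD3_c33)) :=
  Lre_c IH (LK LD1_c4 LD2_c37 LD3_c60) (LK LD1_c9 LD2_c11 LD3_c33) Lrfl Lrfl
theorem f207323 : Led Lsl_af (LP (LK LD1_c9 LD2_c11 LD3_c33)) = (LP (LK LD1_c6 LD2_c44 LD3_c29)) :=
  Lgr Lrot68 (Lpr_ct (K35.f207307 IH) (Lpr_at (K35.f207316 IH) (Lpr_ct (K50.f207322 IH) (Lpn (LP (LK LD1_c6 LD2_c44 LD3_c29))))))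
theorem f207363 : Led Lsl_ft (LP (LK LD1_c3 LD2_c20 LD3_c21)) = (LP (LK LD1_c6 LD2_c44 LD3_c29)) :=
  Lre_f IH (LK LD1_c3 LD2_c20 LD3_c21) (LK LD1_c6 LD2_c44 LD3_c29) Lrfl Lrfl
theorem f207393 : Led Lsl_gf (LP (LK LD1_c9 LD2_c11 LD3_c33)) = (LP (LK LD1_c6 LD2_c44 LD3_c26)) :=
  Lgr Lrot76 (Lpr_af (f207323 IH) (Lpe (f207363 IH) (Lpr_gt (f207392 IH) (Lpn (LP (LK LD1_c6 LD2_c44 LD3_c26))))))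
theorem f643955 : Led Lsl_gf (LP (LK LD1_c12 LD2_c53 LD3_c26)) = (LP (LK LD1_c9 LD2_c11 LD3_c51)) :=
  Lgr Lrot181 (Lpr_ct (f207395 IH) (Lpe (f207393 IH) (Lpe (f207318 IH) (Lpr_bt (f538060 IH) (Lpr_gt (K32.f419087 IH) (Lpe (K46.f419092 IH) (Lpr_ct (K46.f419093 IH) (Lpe (K50.f643525 IH) (Lpe (K42.f112884 IH) (Lpe (K42.f26393 IH) (Lpn (LP (LK LD1_c9 LD2_c11 LD3_c51)))))))))))))
theorem f80027 : Led Lsl_et (LP (LK LD1_c4 LD2_c38 LD3_c4)) = (LP (LK LD1_c9 LD2_c11 LD3_c51)) :=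
  Lre_e IH (LK LD1_c4 LD2_c38 LD3_c4) (LK LD1_c9 LD2_c11 LD3_c51) Lrfl Lrfl
theorem f710101 : Led Lsl_gt (LP (LK LD1_c16 LD2_c58 LD3_c35)) = (LP (LK LD1_c20 LD2_c22 LD3_c52)) :=
  Lgr Lrot112 (Lpr_df (f710087 IH) (Lpe (f710076 IH) (Lpr_gf (f643955 IH) (Lpe (f80027 IH) (Lpe (K4.f80025 IH) (Lpe (K6.f132544 IH) (Lpe (K8.f157013 IH) (Lpr_gf (K8.f158129 IH) (Lpe (K11.f142094 IH) (Lpr_dt (K42.f142100 IH) (Lpn (LP (LK LD1_c20 LD2_c22 LD3_c52)))))))))))))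
theorem f206721 : Led Lsl_at (LP (LK LD1_c20 LD2_c22 LD3_c52)) = (LP (LK LD1_c16 LD2_c29 LD3_c58)) :=
  Lgr Lrot51 (Lpe (K42.f142100 IH) (Lpr_af (K11.f206717 IH) (Lpe (K39.f99980 IH) (Lpn (LP (LK LD1_c16 LD2_c29 LD3_c58))))))
theorem f209981 : Led Lsl_af (LP (LK LD1_c20 LD2_c22 LD3_c52)) = (LP (LK LD1_c16 LD2_c29 LD3_c58)) :=
  Lgr Lrot0 (Lpr_at (f206721 IH) (Lpn (LP (LK LD1_c16 LD2_c29 LD3_c58))))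
theorem f642282 : Led Lsl_bt (LP (LK LD1_c21 LD2_c36 LD3_c30)) = (LP (LK LD1_c12 LD2_c29 LD3_c43)) :=
  Lre_b IH (LK LD1_c21 LD2_c36 LD3_c30) (LK LD1_c12 LD2_c29 LD3_c43) Lrfl Lrfl
theorem f642283 : Led Lsl_ft (LP (LK LD1_c16 LD2_c29 LD3_c58)) = (LP (LK LD1_c21 LD2_c36 LD3_c30)) :=
  Lgr Lrot75 (Lpr_bf (K39.f138991 IH) (Lpr_ff (K48.f642258 IH) (Lpe (f642282 IH) (Lpn (LP (LK LD1_c21 LD2_c36 LD3_c30))))))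
theorem f642305 : Led Lsl_ff (LP (LK LD1_c16 LD2_c29 LD3_c58)) = (LP (LK LD1_c21 LD2_c36 LD3_c30)) :=
  Lgr Lrot3 (Lpr_ft (f642283 IH) (Lpn (LP (LK LD1_c21 LD2_c36 LD3_c30))))
theorem f710103 : Led Lsl_gf (LP (LK LD1_c16 LD2_c58 LD3_c35)) = (LP (LK LD1_c21 LD2_c36 LD3_c30)) :=
  Lgr Lrot47 (Lpr_gt (f710101 IH) (Lpr_af (f209981 IH) (Lpr_ff (f642305 IH) (Lpn (LP (LK LD1_c21 LD2_c36 LD3_c30))))))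
theorem f642971 : Led Lsl_bt (LP (LK LD1_c9 LD2_c6 LD3_c36)) = (LP (LK LD1_c16 LD2_c58 LD3_c35)) :=
  Lre_b IH (LK LD1_c9 LD2_c6 LD3_c36) (LK LD1_c16 LD2_c58 LD3_c35) Lrfl Lrfl
theorem f621162 : Led Lsl_ct (LP (LK LD1_c9 LD2_c6 LD3_c36)) = (LP (LK LD1_c16 LD2_c58 LD3_c36)) :=
  Lre_c IH (LK LD1_c9 LD2_c6 LD3_c36) (LK LD1_c16 LD2_c58 LD3_c36) Lrfl Lrfl
theorem f711042 : Led Lsl_ct (LP (LK LD1_c11 LD2_c47 LD3_c36)) = (LP (LK LD1_c17 LD2_c58 LD3_c52)) :=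
  Lgr Lrot59 (Lpr_cf (f711039 IH) (Lpn (LP (LK LD1_c17 LD2_c58 LD3_c52))))
theorem f428281 : Led Lsl_bt (LP (LK LD1_c2 LD2_c55 LD3_c58)) = (LP (LK LD1_c5 LD2_c58 LD3_c44)) :=
  Lre_b IH (LK LD1_c2 LD2_c55 LD3_c58) (LK LD1_c5 LD2_c58 LD3_c44) Lrfl Lrfl
theorem f428282 : Led Lsl_at (LP (LK LD1_c5 LD2_c58 LD3_c44)) = (LP (LK LD1_c11 LD2_c41 LD3_c40)) :=
  Lre_a IH (LK LD1_c5 LD2_c58 LD3_c44) (LK LD1_c11 LD2_c41 LD3_c40) Lrfl Lrfl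
theorem f539451 : Led Lsl_bt (LP (LK LD1_c11 LD2_c41 LD3_c40)) = (LP (LK LD1_c6 LD2_c1 LD3_c30)) :=
  Lgr Lrot62 (Lpe (f428282 IH) (Lpe (f428281 IH) (Lpe (K42.f428280 IH) (Lpr_bf (K40.f428272 IH) (Lpr_af (K40.f539447 IH) (Lpn (LP (LK LD1_c6 LD2_c1 LD3_c30))))))))
theorem f426757 : Led Lsl_ct (LP (LK LD1_c11 LD2_c41 LD3_c40)) = (LP (LK LD1_c20 LD2_c41 LD3_c40)) :=
  Lre_c IH (LK LD1_c11 LD2_c41 LD3_c40) (LK LD1_c20 LD2_c41 LD3_c40) Lrfl Lrfl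
theorem f711469 : Led Lsl_gt (LP (LK LD1_c16 LD2_c58 LD3_c36)) = (LP (LK LD1_c20 LD2_c41 LD3_c40)) :=
  Lgr Lrot65 (Lpe (f621162 IH) (Lpr_bt (f642971 IH) (Lpr_gf (f710103 IH) (Lpe (f642304 IH) (Lpr_ct (K48.f506252 IH) (Lpr_gf (f711465 IH) (Lpe (f711042 IH) (Lpe (f539490 IH) (Lpe (f539451 IH) (Lpr_ct (f426757 IH) (Lpn (LP (LK LD1_c20 LD2_c41 LD3_c40)))))))))))))
theorem f146516 : Led Lsl_gt (LP (LK LD1_c16 LD2_c58 LD3_c5)) = (LP (LK LD1_c9 LD2_c6 LD3_c36)) :=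
  Lre_g IH (LK LD1_c16 LD2_c58 LD3_c5) (LK LD1_c9 LD2_c6 LD3_c36) Lrfl Lrfl
theorem f436229 : Led Lsl_dt (LP (LK LD1_c16 LD2_c58 LD3_c5)) = (LP (LK LD1_c9 LD2_c6 LD3_c20)) :=
  Lre_d IH (LK LD1_c16 LD2_c58 LD3_c5) (LK LD1_c9 LD2_c6 LD3_c20) Lrfl Lrfl
theorem f151963 : Led Lsl_gt (LP (LK LD1_c9 LD2_c6 LD3_c20)) = (LP (LK LD1_c4 LD2_c34 LD3_c55)) :=
  Lre_g IH (LK LD1_c9 LD2_c6 LD3_c20) (LK LD1_c4 LD2_c34 LD3_c55) Lrfl Lrfl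
theorem f151966 : Led Lsl_ct (LP (LK LD1_c4 LD2_c34 LD3_c55)) = (LP (LK LD1_c9 LD2_c6 LD3_c32)) :=
  Lre_c IH (LK LD1_c4 LD2_c34 LD3_c55) (LK LD1_c9 LD2_c6 LD3_c32) Lrfl Lrfl
theorem f426792 : Led Lsl_ct (LP (LK LD1_c20 LD2_c41 LD3_c40)) = (LP (LK LD1_c11 LD2_c41 LD3_c40)) :=
  Lre_c IH (LK LD1_c20 LD2_c41 LD3_c40) (LK LD1_c11 LD2_c41 LD3_c40) Lrfl Lrfl
theorem f426106 : Led Lsl_cf (LP (LK LD1_c5 LD2_c58 LD3_c37)) = (LP (LK LD1_c7 LD2_c42 LD3_c9)) :=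
  Lgr Lrot39 (Lpr_et (K45.f425986 IH) (Lpr_ct (K24.f426099 IH) (Lpr_et (K36.f151607 IH) (Lpn (LP (LK LD1_c7 LD2_c42 LD3_c9))))))
theorem f711476 : Led Lsl_gt (LP (LK LD1_c9 LD2_c6 LD3_c32)) = (LP (LK LD1_c7 LD2_c42 LD3_c9)) :=
  Lgr Lrot150 (Lpe (f151966 IH) (Lpe (f151963 IH) (Lpe (f436229 IH) (Lpr_gt (f146516 IH) (Lpr_ct (f621162 IH) (Lpr_gt (f711469 IH) (Lpr_ct (f426792 IH) (Lpe (K42.f426011 IH) (Lpr_cf (f426106 IH) (Lpn (LP (LK LD1_c7 LD2_c42 LD3_c9))))))))))))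
theorem f25282 : Led Lsl_ct (LP (LK LD1_c9 LD2_c6 LD3_c32)) = (LP (LK LD1_c4 LD2_c34 LD3_c55)) :=
  Lre_c IH (LK LD1_c9 LD2_c6 LD3_c32) (LK LD1_c4 LD2_c34 LD3_c55) Lrfl Lrfl
theorem f25230 : Led Lsl_gt (LP (LK LD1_c4 LD2_c34 LD3_c55)) = (LP (LK LD1_c2 LD2_c14 LD3_c33)) :=
  Lre_g IH (LK LD1_c4 LD2_c34 LD3_c55) (LK LD1_c2 LD2_c14 LD3_c33) Lrfl Lrfl
theorem f100343 : Led Lsl_gt (LP (LK LD1_c4 LD2_c34 LD3_c56)) = (LP (LK LD1_c9 LD2_c6 LD3_c35)) :=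
  Lre_g IH (LK LD1_c4 LD2_c34 LD3_c56) (LK LD1_c9 LD2_c6 LD3_c35) Lrfl Lrfl
theorem f22349 : Led Lsl_gt (LP (LK LD1_c5 LD2_c51 LD3_c6)) = (LP (LK LD1_c2 LD2_c51 LD3_c60)) :=
  Lre_g IH (LK LD1_c5 LD2_c51 LD3_c6) (LK LD1_c2 LD2_c51 LD3_c60) Lrfl Lrfl
theorem f151658 : Led Lsl_ft (LP (LK LD1_c4 LD2_c34 LD3_c50)) = (LP (LK LD1_c9 LD2_c6 LD3_c20)) :=
  Lre_f IH (LK LD1_c4 LD2_c34 LD3_c50) (LK LD1_c9 LD2_c6 LD3_c20) Lrfl Lrfl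
theorem f151659 : Led Lsl_et (LP (LK LD1_c9 LD2_c6 LD3_c20)) = (LP (LK LD1_c5 LD2_c51 LD3_c6)) :=
  Lgr Lrot69 (Lpe (f151658 IH) (Lpe (K7.f151657 IH) (Lpr_ff (K7.f151573 IH) (Lpe (K7.f22317 IH) (Lpe (K32.f22340 IH) (Lpn (LP (LK LD1_c5 LD2_c51 LD3_c6))))))))
theorem f146515 : Led Lsl_dt (LP (LK LD1_c9 LD2_c6 LD3_c20)) = (LP (LK LD1_c16 LD2_c58 LD3_c5)) :=
  Lre_d IH (LK LD1_c9 LD2_c6 LD3_c20) (LK LD1_c16 LD2_c58 LD3_c5) Lrfl Lrfl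
theorem f436309 : Led Lsl_gt (LP (LK LD1_c9 LD2_c6 LD3_c35)) = (LP (LK LD1_c16 LD2_c58 LD3_c5)) :=
  Lre_g IH (LK LD1_c9 LD2_c6 LD3_c35) (LK LD1_c16 LD2_c58 LD3_c5) Lrfl Lrfl
theorem f454292 : Led Lsl_dt (LP (LK LD1_c1 LD2_c37 LD3_c9)) = (LP (LK LD1_c3 LD2_c21 LD3_c50)) :=
  Lre_d IH (LK LD1_c1 LD2_c37 LD3_c9) (LK LD1_c3 LD2_c21 LD3_c50) Lrfl Lrfl
theorem f454494 : Led Lsl_et (LP (LK LD1_c1 LD2_c37 LD3_c9)) = (LP (LK LD1_c3 LD2_c21 LD3_c51)) :=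
  Lre_e IH (LK LD1_c1 LD2_c37 LD3_c9) (LK LD1_c3 LD2_c21 LD3_c51) Lrfl Lrfl
theorem f446238 : Led Lsl_gt (LP (LK LD1_c3 LD2_c21 LD3_c51)) = (LP (LK LD1_c6 LD2_c47 LD3_c24)) :=
  Lre_g IH (LK LD1_c3 LD2_c21 LD3_c51) (LK LD1_c6 LD2_c47 LD3_c24) Lrfl Lrfl
theorem f710244 : Led Lsl_df (LP (LK LD1_c9 LD2_c6 LD3_c35)) = (LP (LK LD1_c6 LD2_c47 LD3_c24)) :=
  Lgr Lrot135 (Lpr_gt (f436309 IH) (Lpe (f146515 IH) (Lpr_et (f151659 IH) (Lpr_gt (f22349 IH) (Lpe (K51.f22313 IH) (Lpr_dt (K51.f710234 IH) (Lpr_gt (K51.f417141 IH) (Lpe (f454292 IH) (Lpr_et (f454494 IH) (Lpr_gt (f446238 IH) (Lpn (LP (LK LD1_c6 LD2_c47 LD3_c24)))))))))))))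
theorem f710250 : Led Lsl_dt (LP (LK LD1_c9 LD2_c6 LD3_c35)) = (LP (LK LD1_c6 LD2_c47 LD3_c24)) :=
  Lgr Lrot42 (Lpr_df (f710244 IH) (Lpn (LP (LK LD1_c6 LD2_c47 LD3_c24))))
theorem f446241 : Led Lsl_ct (LP (LK LD1_c6 LD2_c47 LD3_c24)) = (LP (LK LD1_c12 LD2_c57 LD3_c53)) :=
  Lre_c IH (LK LD1_c6 LD2_c47 LD3_c24) (LK LD1_c12 LD2_c57 LD3_c53) Lrfl Lrfl
theorem f710249 : Led Lsl_dt (LP (LK LD1_c22 LD2_c7 LD3_c46)) = (LP (LK LD1_c12 LD2_c57 LD3_c53)) :=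
  Lre_d IH (LK LD1_c22 LD2_c7 LD3_c46) (LK LD1_c12 LD2_c57 LD3_c53) Lrfl Lrfl
theorem f711480 : Led Lsl_gf (LP (LK LD1_c22 LD2_c7 LD3_c46)) = (LP (LK LD1_c14 LD2_c30 LD3_c59)) :=
  Lgr Lrot143 (Lpr_dt (f710249 IH) (Lpe (f446241 IH) (Lpe (f710250 IH) (Lpe (f100343 IH) (Lpe (f100342 IH) (Lpe (f25230 IH) (Lpe (f25282 IH) (Lpr_gt (f711476 IH) (Lpr_dt (K36.f136939 IH) (Lpn (LP (LK LD1_c14 LD2_c30 LD3_c59))))))))))))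
theorem f25233 : Led Lsl_gt (LP (LK LD1_c2 LD2_c14 LD3_c33)) = (LP (LK LD1_c4 LD2_c34 LD3_c54)) :=
  Lre_g IH (LK LD1_c2 LD2_c14 LD3_c33) (LK LD1_c4 LD2_c34 LD3_c54) Lrfl Lrfl
theorem f25235 : Led Lsl_ct (LP (LK LD1_c4 LD2_c34 LD3_c54)) = (LP (LK LD1_c9 LD2_c6 LD3_c28)) :=
  Lre_c IH (LK LD1_c4 LD2_c34 LD3_c54) (LK LD1_c9 LD2_c6 LD3_c28) Lrfl Lrfl
theorem f428365 : Led Lsl_bt (LP (LK LD1_c5 LD2_c58 LD3_c45)) = (LP (LK LD1_c2 LD2_c55 LD3_c59)) :=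
  Lre_b IH (LK LD1_c5 LD2_c58 LD3_c45) (LK LD1_c2 LD2_c55 LD3_c59) Lrfl Lrfl
theorem f642175 : Led Lsl_gt (LP (LK LD1_c9 LD2_c6 LD3_c28)) = (LP (LK LD1_c11 LD2_c41 LD3_c51)) :=
  Lgr Lrot149 (Lpe (f25235 IH) (Lpe (f25233 IH) (Lpe (K8.f25229 IH) (Lpe (K7.f25200 IH) (Lpe (K32.f25232 IH) (Lpr_cf (K41.f144093 IH) (Lpr_bt (K41.f144092 IH) (Lpqs (K41.f641739 IH) (Lpqs (K41.f642149 IH) (Lpe (K41.f641334 IH) (Lpe (f428365 IH) (Lpr_ct (f426762 IH) (Lpn (LP (LK LD1_c11 LD2_c41 LD3_c51)))))))))))))))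
theorem f426760 : Led Lsl_at (LP (LK LD1_c14 LD2_c30 LD3_c60)) = (LP (LK LD1_c11 LD2_c41 LD3_c51)) :=
  Lgr Lrot100 (Lpr_af (f426754 IH) (Lpn (LP (LK LD1_c11 LD2_c41 LD3_c51))))
theorem f426781 : Led Lsl_ft (LP (LK LD1_c7 LD2_c42 LD3_c9)) = (LP (LK LD1_c14 LD2_c30 LD3_c60)) :=
  Lre_f IH (LK LD1_c7 LD2_c42 LD3_c9) (LK LD1_c14 LD2_c30 LD3_c60) Lrfl Lrfl
theorem f644864 : Led Lsl_gf (LP (LK LD1_c9 LD2_c6 LD3_c28)) = (LP (LK LD1_c7 LD2_c42 LD3_c9)) :=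
  Lgr Lrot47 (Lpr_gt (f642175 IH) (Lpe (f426760 IH) (Lpe (f426781 IH) (Lpn (LP (LK LD1_c7 LD2_c42 LD3_c9))))))
theorem f25286 : Led Lsl_ct (LP (LK LD1_c9 LD2_c6 LD3_c28)) = (LP (LK LD1_c4 LD2_c34 LD3_c54)) :=
  Lre_c IH (LK LD1_c9 LD2_c6 LD3_c28) (LK LD1_c4 LD2_c34 LD3_c54) Lrfl Lrfl
theorem f146514 : Led Lsl_gt (LP (LK LD1_c4 LD2_c34 LD3_c54)) = (LP (LK LD1_c9 LD2_c6 LD3_c20)) :=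
  Lre_g IH (LK LD1_c4 LD2_c34 LD3_c54) (LK LD1_c9 LD2_c6 LD3_c20) Lrfl Lrfl
theorem f151958 : Led Lsl_ct (LP (LK LD1_c9 LD2_c6 LD3_c20)) = (LP (LK LD1_c16 LD2_c58 LD3_c1)) :=
  Lre_c IH (LK LD1_c9 LD2_c6 LD3_c20) (LK LD1_c16 LD2_c58 LD3_c1) Lrfl Lrfl
theorem f436230 : Led Lsl_dt (LP (LK LD1_c26 LD2_c53 LD3_c31)) = (LP (LK LD1_c16 LD2_c58 LD3_c1)) :=
  Lre_d IH (LK LD1_c26 LD2_c53 LD3_c31) (LK LD1_c16 LD2_c58 LD3_c1) Lrfl Lrfl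
theorem f644899 : Led Lsl_ct (LP (LK LD1_c32 LD2_c17 LD3_c24)) = (LP (LK LD1_c26 LD2_c53 LD3_c31)) :=
  Lre_c IH (LK LD1_c32 LD2_c17 LD3_c24) (LK LD1_c26 LD2_c53 LD3_c31) Lrfl Lrfl
theorem f644900 : Led Lsl_gt (LP (LK LD1_c26 LD2_c53 LD3_c50)) = (LP (LK LD1_c32 LD2_c17 LD3_c24)) :=
  Lre_g IH (LK LD1_c26 LD2_c53 LD3_c50) (LK LD1_c32 LD2_c17 LD3_c24) Lrfl Lrfl
theorem f711549 : Led Lsl_ct (LP (LK LD1_c22 LD2_c7 LD3_c46)) = (LP (LK LD1_c26 LD2_c53 LD3_c50)) :=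
  Lgr Lrot152 (Lpr_gf (f711480 IH) (Lpe (K36.f136939 IH) (Lpe (f644864 IH) (Lpr_ct (f25286 IH) (Lpr_gt (f146514 IH) (Lpr_ct (f151958 IH) (Lpe (f436230 IH) (Lpe (f644899 IH) (Lpe (f644900 IH) (Lpn (LP (LK LD1_c26 LD2_c53 LD3_c50))))))))))))
theorem f711552 : Led Lsl_cf (LP (LK LD1_c22 LD2_c7 LD3_c46)) = (LP (LK LD1_c26 LD2_c53 LD3_c50)) :=
  Lgr Lrot11 (Lpr_ct (f711549 IH) (Lpn (LP (LK LD1_c26 LD2_c53 LD3_c50))))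
theorem f710273 : Led Lsl_dt (LP (LK LD1_c12 LD2_c57 LD3_c53)) = (LP (LK LD1_c22 LD2_c7 LD3_c46)) :=
  Lre_d IH (LK LD1_c12 LD2_c57 LD3_c53) (LK LD1_c22 LD2_c7 LD3_c46) Lrfl Lrfl
theorem f414563 : Led Lsl_ct (LP (LK LD1_c6 LD2_c47 LD3_c5)) = (LP (LK LD1_c3 LD2_c21 LD3_c51)) :=
  Lre_c IH (LK LD1_c6 LD2_c47 LD3_c5) (LK LD1_c3 LD2_c21 LD3_c51) Lrfl Lrfl
theorem f414567 : Led Lsl_gt (LP (LK LD1_c12 LD2_c57 LD3_c8)) = (LP (LK LD1_c6 LD2_c47 LD3_c5)) :=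
  Lre_g IH (LK LD1_c12 LD2_c57 LD3_c8) (LK LD1_c6 LD2_c47 LD3_c5) Lrfl Lrfl
theorem f25348 : Led Lsl_gt (LP (LK LD1_c16 LD2_c58 LD3_c19)) = (LP (LK LD1_c26 LD2_c53 LD3_c50)) :=
  Lre_g IH (LK LD1_c16 LD2_c58 LD3_c19) (LK LD1_c26 LD2_c53 LD3_c50) Lrfl Lrfl
theorem f25343 : Led Lsl_ct (LP (LK LD1_c9 LD2_c6 LD3_c25)) = (LP (LK LD1_c16 LD2_c58 LD3_c19)) :=
  Lre_c IH (LK LD1_c9 LD2_c6 LD3_c25) (LK LD1_c16 LD2_c58 LD3_c19) Lrfl Lrfl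
theorem f25378 : Led Lsl_gt (LP (LK LD1_c16 LD2_c58 LD3_c18)) = (LP (LK LD1_c9 LD2_c6 LD3_c25)) :=
  Lre_g IH (LK LD1_c16 LD2_c58 LD3_c18) (LK LD1_c9 LD2_c6 LD3_c25) Lrfl Lrfl
theorem f711559 : Led Lsl_df (LP (LK LD1_c12 LD2_c57 LD3_c8)) = (LP (LK LD1_c16 LD2_c58 LD3_c18)) :=
  Lgr Lrot155 (Lpr_gt (f414567 IH) (Lpr_ct (f414563 IH) (Lpr_gt (f446238 IH) (Lpr_ct (f446241 IH) (Lpr_dt (f710273 IH) (Lpr_cf (f711552 IH) (Lpe (f25348 IH) (Lpe (f25343 IH) (Lpe (f25378 IH) (Lpn (LP (LK LD1_c16 LD2_c58 LD3_c18))))))))))))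
theorem f146603 : Led Lsl_gt (LP (LK LD1_c26 LD2_c53 LD3_c31)) = (LP (LK LD1_c16 LD2_c58 LD3_c18)) :=
  Lre_g IH (LK LD1_c26 LD2_c53 LD3_c31) (LK LD1_c16 LD2_c58 LD3_c18) Lrfl Lrfl
theorem f146602 : Led Lsl_dt (LP (LK LD1_c16 LD2_c58 LD3_c1)) = (LP (LK LD1_c26 LD2_c53 LD3_c31)) :=
  Lre_d IH (LK LD1_c16 LD2_c58 LD3_c1) (LK LD1_c26 LD2_c53 LD3_c31) Lrfl Lrfl
theorem f146601 : Led Lsl_gt (LP (LK LD1_c9 LD2_c6 LD3_c23)) = (LP (LK LD1_c16 LD2_c58 LD3_c1)) :=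
  Lre_g IH (LK LD1_c9 LD2_c6 LD3_c23) (LK LD1_c16 LD2_c58 LD3_c1) Lrfl Lrfl
theorem f334655 : Led Lsl_bt (LP (LK LD1_c6 LD2_c4 LD3_c8)) = (LP (LK LD1_c11 LD2_c51 LD3_c48)) :=
  Lre_b IH (LK LD1_c6 LD2_c4 LD3_c8) (LK LD1_c11 LD2_c51 LD3_c48) Lrfl Lrfl
theorem f334918 : Led Lsl_et (LP (LK LD1_c9 LD2_c14 LD3_c46)) = (LP (LK LD1_c6 LD2_c4 LD3_c8)) :=
  Lgr Lrot87 (Lpr_ef (K49.f334916 IH) (Lpn (LP (LK LD1_c6 LD2_c4 LD3_c8))))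
theorem f548596 : Led Lsl_bt (LP (LK LD1_c16 LD2_c58 LD3_c5)) = (LP (LK LD1_c9 LD2_c14 LD3_c46)) :=
  Lgr Lrot119 (Lpr_ef (K38.f548589 IH) (Lpe (f334655 IH) (Lpe (f334918 IH) (Lpn (LP (LK LD1_c9 LD2_c14 LD3_c46))))))
theorem f548598 : Led Lsl_ct (LP (LK LD1_c16 LD2_c58 LD3_c5)) = (LP (LK LD1_c26 LD2_c53 LD3_c36)) :=
  Lre_c IH (LK LD1_c16 LD2_c58 LD3_c5) (LK LD1_c26 LD2_c53 LD3_c36) Lrfl Lrfl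
theorem f599825 : Led Lsl_gt (LP (LK LD1_c16 LD2_c58 LD3_c37)) = (LP (LK LD1_c26 LD2_c53 LD3_c36)) :=
  Lre_g IH (LK LD1_c16 LD2_c58 LD3_c37) (LK LD1_c26 LD2_c53 LD3_c36) Lrfl Lrfl
theorem f452983 : Led Lsl_ct (LP (LK LD1_c2 LD2_c55 LD3_c58)) = (LP (LK LD1_c5 LD2_c59 LD3_c9)) :=
  Lre_c IH (LK LD1_c2 LD2_c55 LD3_c58) (LK LD1_c5 LD2_c59 LD3_c9) Lrfl Lrfl
theorem f428855 : Led Lsl_gt (LP (LK LD1_c5 LD2_c58 LD3_c44)) = (LP (LK LD1_c11 LD2_c41 LD3_c57)) :=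
  Lre_g IH (LK LD1_c5 LD2_c58 LD3_c44) (LK LD1_c11 LD2_c41 LD3_c57) Lrfl Lrfl
theorem f642956 : Led Lsl_cf (LP (LK LD1_c16 LD2_c58 LD3_c37)) = (LP (LK LD1_c11 LD2_c41 LD3_c57)) :=
  Lgr Lrot125 (Lpr_gt (f599825 IH) (Lpe (f548598 IH) (Lpr_bt (f548596 IH) (Lpe (K45.f599820 IH) (Lpe (K45.f22600 IH) (Lpr_ct (K46.f642947 IH) (Lpr_gt (K46.f598723 IH) (Lpe (f452983 IH) (Lpr_bt (f428281 IH) (Lpr_gt (f428855 IH) (Lpn (LP (LK LD1_c11 LD2_c41 LD3_c57)))))))))))))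
theorem f548606 : Led Lsl_ct (LP (LK LD1_c26 LD2_c53 LD3_c36)) = (LP (LK LD1_c16 LD2_c58 LD3_c5)) :=
  Lre_c IH (LK LD1_c26 LD2_c53 LD3_c36) (LK LD1_c16 LD2_c58 LD3_c5) Lrfl Lrfl
theorem f436228 : Led Lsl_ct (LP (LK LD1_c16 LD2_c58 LD3_c1)) = (LP (LK LD1_c9 LD2_c6 LD3_c20)) :=
  Lre_c IH (LK LD1_c16 LD2_c58 LD3_c1) (LK LD1_c9 LD2_c6 LD3_c20) Lrfl Lrfl
theorem f428853 : Led Lsl_gt (LP (LK LD1_c2 LD2_c55 LD3_c47)) = (LP (LK LD1_c5 LD2_c58 LD3_c42)) :=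
  Lre_g IH (LK LD1_c2 LD2_c55 LD3_c47) (LK LD1_c5 LD2_c58 LD3_c42) Lrfl Lrfl
theorem f642964 : Led Lsl_cf (LP (LK LD1_c9 LD2_c6 LD3_c23)) = (LP (LK LD1_c5 LD2_c58 LD3_c42)) :=
  Lgr Lrot169 (Lpr_gt (f146601 IH) (Lpr_ct (f436228 IH) (Lpe (f436229 IH) (Lpe (f548606 IH) (Lpe (f599825 IH) (Lpr_cf (f642956 IH) (Lpe (f428855 IH) (Lpe (K48.f157623 IH) (Lpr_gt (f428853 IH) (Lpn (LP (LK LD1_c5 LD2_c58 LD3_c42))))))))))))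
theorem f642981 : Led Lsl_ct (LP (LK LD1_c9 LD2_c6 LD3_c23)) = (LP (LK LD1_c5 LD2_c58 LD3_c42)) :=
  Lgr Lrot59 (Lpr_cf (f642964 IH) (Lpn (LP (LK LD1_c5 LD2_c58 LD3_c42))))
theorem f425990 : Led Lsl_gt (LP (LK LD1_c5 LD2_c58 LD3_c42)) = (LP (LK LD1_c11 LD2_c41 LD3_c41)) :=
  Lre_g IH (LK LD1_c5 LD2_c58 LD3_c42) (LK LD1_c11 LD2_c41 LD3_c41) Lrfl Lrfl
theorem f425978 : Led Lsl_gt (LP (LK LD1_c20 LD2_c41 LD3_c41)) = (LP (LK LD1_c11 LD2_c41 LD3_c58)) :=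
  Lre_g IH (LK LD1_c20 LD2_c41 LD3_c41) (LK LD1_c11 LD2_c41 LD3_c58) Lrfl Lrfl
theorem f644130 : Led Lsl_et (LP (LK LD1_c17 LD2_c7 LD3_c50)) = (LP (LK LD1_c9 LD2_c13 LD3_c25)) :=
  Lre_e IH (LK LD1_c17 LD2_c7 LD3_c50) (LK LD1_c9 LD2_c13 LD3_c25) Lrfl Lrfl
theorem f501858 : Led Lsl_df (LP (LK LD1_c2 LD2_c49 LD3_c52)) = (LP (LK LD1_c2 LD2_c56 LD3_c20)) :=
  Lgr Lrot43 (Lpr_ct (K8.f136244 IH) (Lpr_dt (K8.f75040 IH) (Lpr_ct (K6.f56768 IH) (Lpe (K6.f136924 IH) (Lpr_ct (K6.f136336 IH) (Lpe (K3.f109396 IH) (Lpr_ct (K3.f26573 IH) (Lpr_dt (K32.f136275 IH) (Lpe (K36.f425864 IH) (Lpr_dt (K36.f501854 IH) (Lpe (K36.f501735 IH) (Lpr_dt (K36.f64344 IH) (Lpr_ct (K6.f136444 IH) (Lpe (K43.f501747 IH) (Lpr_ct (K40.f137178 IH) (Lpn (LP (LK LD1_c2 LD2_c56 LD3_c20))))))))))))))))))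
theorem f157622 : Led Lsl_et (LP (LK LD1_c2 LD2_c55 LD3_c47)) = (LP (LK LD1_c1 LD2_c23 LD3_c50)) :=
  Lre_e IH (LK LD1_c2 LD2_c55 LD3_c47) (LK LD1_c1 LD2_c23 LD3_c50) Lrfl Lrfl
theorem f157624 : Led Lsl_gt (LP (LK LD1_c11 LD2_c41 LD3_c58)) = (LP (LK LD1_c5 LD2_c58 LD3_c44)) :=
  Lre_g IH (LK LD1_c11 LD2_c41 LD3_c58) (LK LD1_c5 LD2_c58 LD3_c44) Lrfl Lrfl
theorem f644131 : Led Lsl_dt (LP (LK LD1_c17 LD2_c7 LD3_c50)) = (LP (LK LD1_c11 LD2_c41 LD3_c58)) :=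
  Lgr Lrot136 (Lpr_et (f644130 IH) (Lpr_gf (K50.f644124 IH) (Lpe (K42.f501959 IH) (Lpe (f501858 IH) (Lpe (K8.f20562 IH) (Lpe (K5.f117851 IH) (Lpr_gf (K8.f157603 IH) (Lpe (f157622 IH) (Lpr_dt (K48.f157623 IH) (Lpe (f157624 IH) (Lpn (LP (LK LD1_c11 LD2_c41 LD3_c58)))))))))))))
theorem f644134 : Led Lsl_df (LP (LK LD1_c17 LD2_c7 LD3_c50)) = (LP (LK LD1_c11 LD2_c41 LD3_c58)) :=
  Lgr Lrot38 (Lpr_dt (f644131 IH) (Lpn (LP (LK LD1_c11 LD2_c41 LD3_c58))))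
theorem f711567 : Led Lsl_cf (LP (LK LD1_c12 LD2_c57 LD3_c8)) = (LP (LK LD1_c17 LD2_c7 LD3_c50)) :=
  Lgr Lrot14 (Lpr_df (f711559 IH) (Lpe (f146603 IH) (Lpe (f146602 IH) (Lpe (f146601 IH) (Lpr_ct (f642981 IH) (Lpr_gt (f425990 IH) (Lpr_dt (K40.f425977 IH) (Lpr_gt (f425978 IH) (Lpe (f644134 IH) (Lpn (LP (LK LD1_c17 LD2_c7 LD3_c50))))))))))))
theorem f414566 : Led Lsl_ct (LP (LK LD1_c3 LD2_c21 LD3_c51)) = (LP (LK LD1_c6 LD2_c47 LD3_c5)) :=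
  Lre_c IH (LK LD1_c3 LD2_c21 LD3_c51) (LK LD1_c6 LD2_c47 LD3_c5) Lrfl Lrfl
theorem f510146 : Led Lsl_ct (LP (LK LD1_c3 LD2_c20 LD3_c61)) = (LP (LK LD1_c3 LD2_c13 LD3_c1)) :=
  Lgr Lrot59 (Lpr_cf (K50.f510144 IH) (Lpn (LP (LK LD1_c3 LD2_c13 LD3_c1))))
def v6365 : LQ := Led Lsl_ft (LP (LK LD1_c3 LD2_c20 LD3_c57))
theorem f653004 : Led Lsl_ft (LP (LK LD1_c3 LD2_c20 LD3_c57)) = v6365 :=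
  Lrfl
theorem f653006 : Led Lsl_ff (LP (LK LD1_c3 LD2_c20 LD3_c57)) = v6365 :=
  Lgr Lrot3 (Lpr_ft (f653004 IH) (Lpn v6365))
theorem f414610 : Led Lsl_bt (LP (LK LD1_c3 LD2_c20 LD3_c57)) = (LP (LK LD1_c1 LD2_c36 LD3_c47)) :=
  Lre_b IH (LK LD1_c3 LD2_c20 LD3_c57) (LK LD1_c1 LD2_c36 LD3_c47) Lrfl Lrfl
theorem f653007 : Led Lsl_bt (LP (LK LD1_c3 LD2_c20 LD3_c61)) = v6365 :=
  Lgr Lrot35 (Lpe (K50.f414607 IH) (Lpe (f414610 IH) (Lpr_ff (f653006 IH) (Lpn v6365))))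
theorem f644138 : Led Lsl_bt (LP (LK LD1_c17 LD2_c7 LD3_c50)) = (LP (LK LD1_c9 LD2_c13 LD3_c28)) :=
  Lre_b IH (LK LD1_c17 LD2_c7 LD3_c50) (LK LD1_c9 LD2_c13 LD3_c28) Lrfl Lrfl
theorem f711574 : Led Lsl_gt v6365 = (LP (LK LD1_c9 LD2_c13 LD3_c28)) :=
  Lgr Lrot164 (Lpe (f653007 IH) (Lpr_ct (f510146 IH) (Lpe (K11.f13564 IH) (Lpe (K32.f13575 IH) (Lpe (K35.f414556 IH) (Lpe (K24.f414562 IH) (Lpr_ct (f414566 IH) (Lpe (f414567 IH) (Lpr_cf (f711567 IH) (Lpr_bt (f644138 IH) (Lpn (LP (LK LD1_c9 LD2_c13 LD3_c28)))))))))))))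
theorem f509443 : Led Lsl_at (LP (LK LD1_c3 LD2_c20 LD3_c57)) = (LP (LK LD1_c6 LD2_c45 LD3_c43)) :=
  Lre_a IH (LK LD1_c3 LD2_c20 LD3_c57) (LK LD1_c6 LD2_c45 LD3_c43) Lrfl Lrfl
theorem f711575 : Led Lsl_gf (LP (LK LD1_c6 LD2_c45 LD3_c43)) = (LP (LK LD1_c9 LD2_c13 LD3_c28)) :=
  Lgr Lrot76 (Lpe (f509443 IH) (Lpr_ff (f653006 IH) (Lpr_gt (f711574 IH) (Lpn (LP (LK LD1_c9 LD2_c13 LD3_c28))))))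
theorem f711576 : Led Lsl_gt (LP (LK LD1_c9 LD2_c13 LD3_c28)) = (LP (LK LD1_c6 LD2_c45 LD3_c43)) :=
  Leop (Lpr_gf (f711575 IH) (Lpn (LP (LK LD1_c9 LD2_c13 LD3_c28))))
theorem seed_757 : LEOK LG_g (LK LD1_c9 LD2_c13 LD3_c28) :=
  Leoe_g (LK LD1_c9 LD2_c13 LD3_c28) (f711576 IH)
theorem f645537 : Led Lsl_at (LP (LK LD1_c6 LD2_c3 LD3_c9)) = (LP (LK LD1_c2 LD2_c57 LD3_c43)) :=
  Lre_a IH (LK LD1_c6 LD2_c3 LD3_c9) (LK LD1_c2 LD2_c57 LD3_c43) Lrfl Lrfl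
theorem f645538 : Led Lsl_ff (LP (LK LD1_c6 LD2_c3 LD3_c9)) = (LP (LK LD1_c9 LD2_c13 LD3_c46)) :=
  Lgr Lrot30 (Lpr_at (f645537 IH) (Lpr_ft (f645531 IH) (Lpr_at (f140943 IH) (Lpn (LP (LK LD1_c9 LD2_c13 LD3_c46))))))
theorem f415567 : Led Lsl_gt (LP (LK LD1_c6 LD2_c3 LD3_c11)) = (LP (LK LD1_c2 LD2_c57 LD3_c43)) :=
  Lre_g IH (LK LD1_c6 LD2_c3 LD3_c11) (LK LD1_c2 LD2_c57 LD3_c43) Lrfl Lrfl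
theorem f645616 : Led Lsl_gf (LP (LK LD1_c6 LD2_c3 LD3_c11)) = (LP (LK LD1_c9 LD2_c13 LD3_c46)) :=
  Lgr Lrot47 (Lpr_gt (f415567 IH) (Lpe (f645537 IH) (Lpr_ff (f645538 IH) (Lpn (LP (LK LD1_c9 LD2_c13 LD3_c46))))))
theorem f415576 : Led Lsl_ct (LP (LK LD1_c6 LD2_c3 LD3_c11)) = (LP (LK LD1_c11 LD2_c50 LD3_c6)) :=
  Lre_c IH (LK LD1_c6 LD2_c3 LD3_c11) (LK LD1_c11 LD2_c50 LD3_c6) Lrfl Lrfl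
theorem f640141 : Led Lsl_ct (LP (LK LD1_c9 LD2_c4 LD3_c61)) = (LP (LK LD1_c16 LD2_c56 LD3_c55)) :=
  Lre_c IH (LK LD1_c9 LD2_c4 LD3_c61) (LK LD1_c16 LD2_c56 LD3_c55) Lrfl Lrfl
theorem f640156 : Led Lsl_at (LP (LK LD1_c11 LD2_c22 LD3_c22)) = (LP (LK LD1_c5 LD2_c46 LD3_c3)) :=
  Lre_a IH (LK LD1_c11 LD2_c22 LD3_c22) (LK LD1_c5 LD2_c46 LD3_c3) Lrfl Lrfl
theorem f640157 : Led Lsl_at (LP (LK LD1_c9 LD2_c5 LD3_c0)) = (LP (LK LD1_c16 LD2_c56 LD3_c55)) :=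
  Lre_a IH (LK LD1_c9 LD2_c5 LD3_c0) (LK LD1_c16 LD2_c56 LD3_c55) Lrfl Lrfl
theorem f640158 : Led Lsl_ff (LP (LK LD1_c11 LD2_c22 LD3_c22)) = (LP (LK LD1_c16 LD2_c56 LD3_c55)) :=
  Lgr Lrot30 (Lpr_at (f640156 IH) (Lpr_ft (K51.f640147 IH) (Lpr_at (f640157 IH) (Lpn (LP (LK LD1_c16 LD2_c56 LD3_c55))))))
theorem f640255 : Led Lsl_gf (LP (LK LD1_c11 LD2_c22 LD3_c25)) = (LP (LK LD1_c16 LD2_c56 LD3_c55)) :=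
  Lgr Lrot47 (Lpr_gt (f415998 IH) (Lpe (f640156 IH) (Lpr_ff (f640158 IH) (Lpn (LP (LK LD1_c16 LD2_c56 LD3_c55))))))
theorem f416008 : Led Lsl_ct (LP (LK LD1_c11 LD2_c22 LD3_c25)) = (LP (LK LD1_c20 LD2_c20 LD3_c6)) :=
  Lre_c IH (LK LD1_c11 LD2_c22 LD3_c25) (LK LD1_c20 LD2_c20 LD3_c6) Lrfl Lrfl
theorem f711608 : Led Lsl_df (LP (LK LD1_c11 LD2_c50 LD3_c6)) = (LP (LK LD1_c20 LD2_c20 LD3_c6)) :=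
  Lgr Lrot162 (Lpe (f415576 IH) (Lpr_gf (f645616 IH) (Lpe (f645467 IH) (Lpqs (f710597 IH) (Lpe (f641090 IH) (Lpr_dt (K51.f621114 IH) (Lpqs (K51.f706195 IH) (Lpe (K51.f640467 IH) (Lpr_ct (f640141 IH) (Lpe (f640255 IH) (Lpr_ct (f416008 IH) (Lpn (LP (LK LD1_c20 LD2_c20 LD3_c6))))))))))))))
theorem f612917 : Led Lsl_dt (LP (LK LD1_c9 LD2_c5 LD3_c53)) = (LP (LK LD1_c16 LD2_c51 LD3_c19)) :=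
  Lgr Lrot44 (Lpe (K51.f425802 IH) (Lpr_df (K51.f573001 IH) (Lpe (K51.f424184 IH) (Lpn (LP (LK LD1_c16 LD2_c51 LD3_c19))))))
theorem f711610 : Led Lsl_ft (LP (LK LD1_c11 LD2_c50 LD3_c6)) = (LP (LK LD1_c9 LD2_c5 LD3_c53)) :=
  Lgr Lrot54 (Lpr_df (f711608 IH) (Lpe (f710536 IH) (Lpe (f612917 IH) (Lpn (LP (LK LD1_c9 LD2_c5 LD3_c53))))))
theorem f711617 : Led Lsl_ff (LP (LK LD1_c11 LD2_c50 LD3_c6)) = (LP (LK LD1_c9 LD2_c5 LD3_c53)) :=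
  Lgr Lrot3 (Lpr_ft (f711610 IH) (Lpn (LP (LK LD1_c9 LD2_c5 LD3_c53))))
theorem f109948 : Led Lsl_et (LP (LK LD1_c4 LD2_c34 LD3_c27)) = (LP (LK LD1_c9 LD2_c5 LD3_c53)) :=
  Lre_e IH (LK LD1_c4 LD2_c34 LD3_c27) (LK LD1_c9 LD2_c5 LD3_c53) Lrfl Lrfl
def v4831 : LQ := Led Lsl_ft (LP (LK LD1_c2 LD2_c50 LD3_c10))
theorem f640502 : Led Lsl_ft (LP (LK LD1_c2 LD2_c50 LD3_c10)) = v4831 :=
  Lrfl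
theorem f640504 : Led Lsl_ff (LP (LK LD1_c2 LD2_c50 LD3_c10)) = v4831 :=
  Lgr Lrot3 (Lpr_ft (f640502 IH) (Lpn v4831))
def v12916 : LQ := Led Lsl_ft (LP (LK LD1_c4 LD2_c34 LD3_c30))
theorem f699563 : Led Lsl_ft (LP (LK LD1_c4 LD2_c34 LD3_c30)) = v12916 :=
  Lrfl
def v12913 : LQ := Led Lsl_gt (LP (LK LD1_c4 LD2_c34 LD3_c30))
theorem f699554 : Led Lsl_gt (LP (LK LD1_c4 LD2_c34 LD3_c30)) = v12913 :=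
  Lrfl
theorem f699564 : Led Lsl_af v4831 = v12916 :=
  Lgr Lrot45 (Lpe (f640504 IH) (Lpe (K51.f436683 IH) (Lpr_ft (f699563 IH) (Lpn v12916))))
theorem f699567 : Led Lsl_gt v12913 = v4831 :=
  Lgr Lrot46 (Lpe (f699554 IH) (Lpr_ft (f699563 IH) (Lpe (f699564 IH) (Lpn v4831))))
theorem f416235 : Led Lsl_gt (LP (LK LD1_c2 LD2_c22 LD3_c39)) = (LP (LK LD1_c4 LD2_c49 LD3_c48)) :=
  Lre_g IH (LK LD1_c2 LD2_c22 LD3_c39) (LK LD1_c4 LD2_c49 LD3_c48) Lrfl Lrfl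
theorem f643244 : Led Lsl_at (LP (LK LD1_c9 LD2_c32 LD3_c28)) = (LP (LK LD1_c11 LD2_c6 LD3_c61)) :=
  Lgr Lrot100 (Lpr_af (K51.f643242 IH) (Lpn (LP (LK LD1_c11 LD2_c6 LD3_c61))))
theorem f414322 : Led Lsl_bt (LP (LK LD1_c9 LD2_c32 LD3_c28)) = (LP (LK LD1_c4 LD2_c49 LD3_c56)) :=
  Lre_b IH (LK LD1_c9 LD2_c32 LD3_c28) (LK LD1_c4 LD2_c49 LD3_c56) Lrfl Lrfl
theorem f416475 : Led Lsl_bt (LP (LK LD1_c3 LD2_c21 LD3_c57)) = (LP (LK LD1_c6 LD2_c47 LD3_c35)) :=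
  Lre_b IH (LK LD1_c3 LD2_c21 LD3_c57) (LK LD1_c6 LD2_c47 LD3_c35) Lrfl Lrfl
theorem f454142 : Led Lsl_ff (LP (LK LD1_c9 LD2_c32 LD3_c28)) = (LP (LK LD1_c6 LD2_c47 LD3_c35)) :=
  Lgr Lrot25 (Lpr_bt (f414322 IH) (Lpr_ft (K24.f454140 IH) (Lpr_bt (f416475 IH) (Lpn (LP (LK LD1_c6 LD2_c47 LD3_c35))))))
theorem f710055 : Led Lsl_gf (LP (LK LD1_c5 LD2_c38 LD3_c3)) = (LP (LK LD1_c6 LD2_c47 LD3_c35)) :=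
  Lgr Lrot47 (Lpr_gt (f710053 IH) (Lpe (f643244 IH) (Lpr_ff (f454142 IH) (Lpn (LP (LK LD1_c6 LD2_c47 LD3_c35))))))
theorem f132436 : Led Lsl_at (LP (LK LD1_c1 LD2_c21 LD3_c59)) = (LP (LK LD1_c1 LD2_c21 LD3_c4)) :=
  Lgr Lrot67 (Lpe (K4.f24056 IH) (Lpe (K4.f24061 IH) (Lpr_bf (K8.f132434 IH) (Lpe (K8.f100278 IH) (Lpe (K36.f100331 IH) (Lpn (LP (LK LD1_c1 LD2_c21 LD3_c4))))))))
theorem f151571 : Led Lsl_gt (LP (LK LD1_c1 LD2_c21 LD3_c1)) = (LP (LK LD1_c1 LD2_c21 LD3_c58)) :=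
  Lgr Lrot5 (Lpe (K51.f117834 IH) (Lpr_at (f132436 IH) (Lpr_gf (K7.f151569 IH) (Lpn (LP (LK LD1_c1 LD2_c21 LD3_c58))))))
theorem f151798 : Led Lsl_gf (LP (LK LD1_c1 LD2_c4 LD3_c21)) = (LP (LK LD1_c0 LD2_c37 LD3_c56)) :=
  Lgr Lrot104 (Lpr_ct (K5.f72259 IH) (Lpe (K32.f72395 IH) (Lpr_cf (K8.f95231 IH) (Lpr_gf (K7.f146482 IH) (Lpe (K6.f135845 IH) (Lpe (K6.f146462 IH) (Lpr_df (K8.f109935 IH) (Lpr_gt (K8.f151796 IH) (Lpe (K8.f8349 IH) (Lpn (LP (LK LD1_c0 LD2_c37 LD3_c56))))))))))))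
theorem f414591 : Led Lsl_dt (LP (LK LD1_c3 LD2_c21 LD3_c56)) = (LP (LK LD1_c6 LD2_c47 LD3_c35)) :=
  Lre_d IH (LK LD1_c3 LD2_c21 LD3_c56) (LK LD1_c6 LD2_c47 LD3_c35) Lrfl Lrfl
theorem f413687 : Led Lsl_bt (LP (LK LD1_c2 LD2_c22 LD3_c39)) = (LP (LK LD1_c1 LD2_c8 LD3_c26)) :=
  Lre_b IH (LK LD1_c2 LD2_c22 LD3_c39) (LK LD1_c1 LD2_c8 LD3_c26) Lrfl Lrfl
theorem f414534 : Led Lsl_bt (LP (LK LD1_c1 LD2_c37 LD3_c12)) = (LP (LK LD1_c3 LD2_c21 LD3_c56)) :=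
  Lre_b IH (LK LD1_c1 LD2_c37 LD3_c12) (LK LD1_c3 LD2_c21 LD3_c56) Lrfl Lrfl
theorem f415249 : Led Lsl_ef (LP (LK LD1_c2 LD2_c22 LD3_c39)) = (LP (LK LD1_c3 LD2_c21 LD3_c56)) :=
  Lgr Lrot29 (Lpr_bt (f413687 IH) (Lpr_et (K16.f415242 IH) (Lpr_bt (f414534 IH) (Lpn (LP (LK LD1_c3 LD2_c21 LD3_c56))))))
theorem f710128 : v12913 = (LP (LK LD1_c2 LD2_c22 LD3_c39)) :=
  (Llr Lrot131 (Lpe (f699554 IH) (Lpe (K5.f130543 IH) (Lpr_dt (K5.f130546 IH) (Lpr_gf (f151798 IH) (Lpe (K8.f8375 IH) (Lpe (f151571 IH) (Lpe (K51.f66396 IH) (Lpe (f589483 IH) (Lpr_gf (f710055 IH) (Lpe (f414591 IH) (Lpe (f415249 IH) (Lpn (LP (LK LD1_c2 LD2_c22 LD3_c39))))))))))))))).symm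
theorem f710129 : v4831 = (LP (LK LD1_c4 LD2_c49 LD3_c48)) :=
  Lefun (Lecon (f699567 IH) (f710128 IH)) (f416235 IH)
theorem f454498 : Led Lsl_bt (LP (LK LD1_c9 LD2_c32 LD3_c13)) = (LP (LK LD1_c4 LD2_c49 LD3_c48)) :=
  Lre_b IH (LK LD1_c9 LD2_c32 LD3_c13) (LK LD1_c4 LD2_c49 LD3_c48) Lrfl Lrfl
theorem f56796 : Led Lsl_bt (LP (LK LD1_c2 LD2_c50 LD3_c10)) = (LP (LK LD1_c5 LD2_c48 LD3_c15)) :=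
  Lre_b IH (LK LD1_c2 LD2_c50 LD3_c10) (LK LD1_c5 LD2_c48 LD3_c15) Lrfl Lrfl
theorem f710145 : Led Lsl_ff (LP (LK LD1_c9 LD2_c32 LD3_c13)) = (LP (LK LD1_c5 LD2_c48 LD3_c15)) :=
  Lgr Lrot25 (Lpr_bt (f454498 IH) (Lpq (f710129 IH) (Lpe (f640504 IH) (Lpr_bt (f56796 IH) (Lpn (LP (LK LD1_c5 LD2_c48 LD3_c15)))))))
theorem f710153 : Led Lsl_ft (LP (LK LD1_c9 LD2_c32 LD3_c13)) = (LP (LK LD1_c5 LD2_c48 LD3_c15)) :=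
  Lgr Lrot48 (Lpr_ff (f710145 IH) (Lpn (LP (LK LD1_c5 LD2_c48 LD3_c15))))
theorem f711621 : Led Lsl_et (LP (LK LD1_c11 LD2_c50 LD3_c6)) = (LP (LK LD1_c9 LD2_c32 LD3_c13)) :=
  Lgr Lrot69 (Lpr_ff (f711617 IH) (Lpe (f109948 IH) (Lpe (K51.f161481 IH) (Lpe (K51.f56774 IH) (Lpe (f710153 IH) (Lpn (LP (LK LD1_c9 LD2_c32 LD3_c13))))))))
theorem f414981 : Led Lsl_ct (LP (LK LD1_c9 LD2_c32 LD3_c13)) = (LP (LK LD1_c9 LD2_c31 LD3_c32)) :=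
  Lre_c IH (LK LD1_c9 LD2_c32 LD3_c13) (LK LD1_c9 LD2_c31 LD3_c32) Lrfl Lrfl
theorem f711623 : Led Lsl_ef (LP (LK LD1_c6 LD2_c3 LD3_c11)) = (LP (LK LD1_c9 LD2_c31 LD3_c32)) :=
  Lgr Lrot28 (Lpr_ct (f415576 IH) (Lpr_et (f711621 IH) (Lpr_ct (f414981 IH) (Lpn (LP (LK LD1_c9 LD2_c31 LD3_c32))))))
theorem f711627 : Led Lsl_et (LP (LK LD1_c6 LD2_c3 LD3_c11)) = (LP (LK LD1_c9 LD2_c31 LD3_c32)) :=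
  Lgr Lrot87 (Lpr_ef (f711623 IH) (Lpn (LP (LK LD1_c9 LD2_c31 LD3_c32))))
theorem f415577 : Led Lsl_bt (LP (LK LD1_c11 LD2_c50 LD3_c5)) = (LP (LK LD1_c6 LD2_c3 LD3_c11)) :=
  Lre_b IH (LK LD1_c11 LD2_c50 LD3_c5) (LK LD1_c6 LD2_c3 LD3_c11) Lrfl Lrfl
theorem f454499 : Led Lsl_ct (LP (LK LD1_c9 LD2_c31 LD3_c32)) = (LP (LK LD1_c9 LD2_c32 LD3_c13)) :=
  Lre_c IH (LK LD1_c9 LD2_c31 LD3_c32) (LK LD1_c9 LD2_c32 LD3_c13) Lrfl Lrfl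
theorem f56786 : Led Lsl_cf (LP (LK LD1_c6 LD2_c2 LD3_c19)) = (LP (LK LD1_c5 LD2_c48 LD3_c15)) :=
  Lgr Lrot11 (Lpr_ct (K51.f56775 IH) (Lpn (LP (LK LD1_c5 LD2_c48 LD3_c15))))
theorem f710155 : Led Lsl_ff (LP (LK LD1_c9 LD2_c31 LD3_c32)) = (LP (LK LD1_c6 LD2_c2 LD3_c19)) :=
  Lgr Lrot23 (Lpr_ct (f454499 IH) (Lpr_ft (f710153 IH) (Lpe (f56786 IH) (Lpn (LP (LK LD1_c6 LD2_c2 LD3_c19))))))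
theorem f710157 : Led Lsl_bt (LP (LK LD1_c9 LD2_c31 LD3_c32)) = (LP (LK LD1_c6 LD2_c34 LD3_c35)) :=
  Lgr Lrot35 (Lpr_ff (f710155 IH) (Lpe (K51.f436647 IH) (Lpe (K51.f65720 IH) (Lpn (LP (LK LD1_c6 LD2_c34 LD3_c35))))))
theorem f711629 : Led Lsl_ef (LP (LK LD1_c11 LD2_c50 LD3_c5)) = (LP (LK LD1_c6 LD2_c34 LD3_c35)) :=
  Lgr Lrot29 (Lpr_bt (f415577 IH) (Lpr_et (f711627 IH) (Lpr_bt (f710157 IH) (Lpn (LP (LK LD1_c6 LD2_c34 LD3_c35))))))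
theorem f65722 : Led Lsl_cf (LP (LK LD1_c6 LD2_c34 LD3_c35)) = (LP (LK LD1_c3 LD2_c51 LD3_c26)) :=
  Lgr Lrot108 (Lpr_ft (K51.f65720 IH) (Lpr_ct (K51.f65711 IH) (Lpr_ft (K5.f65721 IH) (Lpn (LP (LK LD1_c3 LD2_c51 LD3_c26))))))
theorem f130662 : Led Lsl_et (LP (LK LD1_c7 LD2_c1 LD3_c44)) = (LP (LK LD1_c3 LD2_c51 LD3_c26)) :=
  Lgr Lrot87 (Lpr_ef (K5.f130657 IH) (Lpn (LP (LK LD1_c3 LD2_c51 LD3_c26))))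
theorem f711633 : Led Lsl_ct (LP (LK LD1_c11 LD2_c50 LD3_c5)) = (LP (LK LD1_c7 LD2_c1 LD3_c44)) :=
  Lgr Lrot15 (Lpr_ef (f711629 IH) (Lpr_cf (f65722 IH) (Lpe (f130662 IH) (Lpn (LP (LK LD1_c7 LD2_c1 LD3_c44))))))
def v5110 : LQ := Led Lsl_bt (LP (LK LD1_c2 LD2_c57 LD3_c43))
theorem f645975 : Led Lsl_bt (LP (LK LD1_c2 LD2_c57 LD3_c43)) = v5110 :=
  Lrfl
theorem f645976 : Led Lsl_bf (LP (LK LD1_c2 LD2_c57 LD3_c43)) = v5110 :=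
  Lgr Lrot24 (Lpr_bt (f645975 IH) (Lpn v5110))
theorem f645977 : Led Lsl_cf K51.v1728 = v5110 :=
  Lgr Lrot97 (Lpe (K51.f501174 IH) (Lpr_ct (K31.f415843 IH) (Lpr_bt (K46.f415848 IH) (Lpr_ct (f415566 IH) (Lpr_bt (f645975 IH) (Lpn v5110))))))
def v8062 : LQ := Led Lsl_gt K51.v1728
theorem f669816 : Led Lsl_gt K51.v1728 = v8062 :=
  Lrfl
theorem f707753 : (LP (LK LD1_c1 LD2_c29 LD3_c61)) = v8062 :=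
  Lefun (Lecon (Lfl_gf (K51.f504571 IH)) (K51.f707752 IH)) (f669816 IH)
theorem f104241 : Led Lsl_bf (LP (LK LD1_c3 LD2_c17 LD3_c60)) = (LP (LK LD1_c3 LD2_c7 LD3_c29)) :=
  Lgr Lrot24 (Lpr_bt (K51.f104238 IH) (Lpn (LP (LK LD1_c3 LD2_c7 LD3_c29))))
theorem f65198 : Led Lsl_gt (LP (LK LD1_c1 LD2_c52 LD3_c29)) = (LP (LK LD1_c3 LD2_c51 LD3_c17)) :=
  Lre_g IH (LK LD1_c1 LD2_c52 LD3_c29) (LK LD1_c3 LD2_c51 LD3_c17) Lrfl Lrfl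
theorem f115675 : Led Lsl_gt (LP (LK LD1_c3 LD2_c51 LD3_c17)) = (LP (LK LD1_c7 LD2_c1 LD3_c44)) :=
  Lgr Lrot46 (Lpe (f65198 IH) (Lpr_ft (K4.f65291 IH) (Lpr_at (K5.f115659 IH) (Lpn (LP (LK LD1_c7 LD2_c1 LD3_c44))))))
def v7554 : LQ := Led Lsl_ct (LP (LK LD1_c3 LD2_c51 LD3_c17))
theorem f666713 : Led Lsl_ct (LP (LK LD1_c3 LD2_c51 LD3_c17)) = v7554 :=
  Lrfl
theorem f666714 : Led Lsl_cf (LP (LK LD1_c3 LD2_c51 LD3_c17)) = v7554 :=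
  Lgr Lrot11 (Lpr_ct (f666713 IH) (Lpn v7554))
theorem f711714 : (LP (LK LD1_c6 LD2_c39 LD3_c40)) = v7554 :=
  (Llr Lrot82 (Lpe (K4.f66409 IH) (Lpr_bf (f104241 IH) (Lpr_ct (K51.f61925 IH) (Lpqs (f707753 IH) (Lpe (f669816 IH) (Lpr_cf (f645977 IH) (Lpe (f645976 IH) (Lpe (f415567 IH) (Lpe (f415577 IH) (Lpr_ct (f711633 IH) (Lpe (f115675 IH) (Lpr_cf (f666714 IH) (Lpn v7554)))))))))))))).symm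
theorem f65212 : Led Lsl_et (LP (LK LD1_c3 LD2_c51 LD3_c17)) = (LP (LK LD1_c7 LD2_c44 LD3_c3)) :=
  Lre_e IH (LK LD1_c3 LD2_c51 LD3_c17) (LK LD1_c7 LD2_c44 LD3_c3) Lrfl Lrfl
theorem f711720 : Led Lsl_cf (LP (LK LD1_c12 LD2_c45 LD3_c12)) = (LP (LK LD1_c7 LD2_c44 LD3_c3)) :=
  Lgr Lrot39 (Lpr_et (K4.f66430 IH) (Lpqs (f711714 IH) (Lpe (f666714 IH) (Lpr_et (f65212 IH) (Lpn (LP (LK LD1_c7 LD2_c44 LD3_c3)))))))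
theorem f93533 : Led Lsl_df (LP (LK LD1_c12 LD2_c45 LD3_c12)) = (LP (LK LD1_c21 LD2_c43 LD3_c45)) :=
  Lgr Lrot38 (Lpr_dt (K4.f93526 IH) (Lpn (LP (LK LD1_c21 LD2_c43 LD3_c45))))
theorem f93850 : Led Lsl_ft (LP (LK LD1_c6 LD2_c35 LD3_c40)) = (LP (LK LD1_c12 LD2_c37 LD3_c23)) :=
  Lre_f IH (LK LD1_c6 LD2_c35 LD3_c40) (LK LD1_c12 LD2_c37 LD3_c23) Lrfl Lrfl
theorem f93874 : Led Lsl_gt (LP (LK LD1_c6 LD2_c35 LD3_c40)) = (LP (LK LD1_c12 LD2_c37 LD3_c20)) :=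
  Lre_g IH (LK LD1_c6 LD2_c35 LD3_c40) (LK LD1_c12 LD2_c37 LD3_c20) Lrfl Lrfl
theorem f93875 : Led Lsl_gf (LP (LK LD1_c6 LD2_c38 LD3_c46)) = (LP (LK LD1_c12 LD2_c37 LD3_c20)) :=
  Lgr Lrot76 (Lpr_af (K51.f93764 IH) (Lpe (f93850 IH) (Lpr_gt (f93874 IH) (Lpn (LP (LK LD1_c12 LD2_c37 LD3_c20))))))
theorem f65203 : Led Lsl_et (LP (LK LD1_c7 LD2_c44 LD3_c3)) = (LP (LK LD1_c3 LD2_c51 LD3_c17)) :=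
  Lre_e IH (LK LD1_c7 LD2_c44 LD3_c3) (LK LD1_c3 LD2_c51 LD3_c17) Lrfl Lrfl
theorem f93480 : Led Lsl_dt (LP (LK LD1_c3 LD2_c47 LD3_c19)) = (LP (LK LD1_c7 LD2_c35 LD3_c31)) :=
  Lre_d IH (LK LD1_c3 LD2_c47 LD3_c19) (LK LD1_c7 LD2_c35 LD3_c31) Lrfl Lrfl
theorem f93482 : Led Lsl_gt (LP (LK LD1_c14 LD2_c18 LD3_c50)) = (LP (LK LD1_c7 LD2_c35 LD3_c31)) :=
  Lre_g IH (LK LD1_c14 LD2_c18 LD3_c50) (LK LD1_c7 LD2_c35 LD3_c31) Lrfl Lrfl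
theorem f93483 : Led Lsl_dt (LP (LK LD1_c7 LD2_c44 LD3_c3)) = (LP (LK LD1_c14 LD2_c18 LD3_c50)) :=
  Lgr Lrot136 (Lpr_et (f65203 IH) (Lpe (f65198 IH) (Lpe (K4.f65197 IH) (Lpr_dt (K1.f65175 IH) (Lpe (K1.f62818 IH) (Lpe (K4.f11406 IH) (Lpr_gf (K3.f93476 IH) (Lpe (K4.f93479 IH) (Lpr_dt (f93480 IH) (Lpe (f93482 IH) (Lpn (LP (LK LD1_c14 LD2_c18 LD3_c50)))))))))))))
theorem f93492 : Led Lsl_df (LP (LK LD1_c7 LD2_c44 LD3_c3)) = (LP (LK LD1_c14 LD2_c18 LD3_c50)) :=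
  Lgr Lrot38 (Lpr_dt (f93483 IH) (Lpn (LP (LK LD1_c14 LD2_c18 LD3_c50))))
theorem f130612 : Led Lsl_at (LP (LK LD1_c13 LD2_c19 LD3_c15)) = (LP (LK LD1_c22 LD2_c35 LD3_c32)) :=
  Lre_a IH (LK LD1_c13 LD2_c19 LD3_c15) (LK LD1_c22 LD2_c35 LD3_c32) Lrfl Lrfl
theorem f130613 : Led Lsl_bt (LP (LK LD1_c7 LD2_c1 LD3_c29)) = (LP (LK LD1_c13 LD2_c19 LD3_c15)) :=
  Lre_b IH (LK LD1_c7 LD2_c1 LD3_c29) (LK LD1_c13 LD2_c19 LD3_c15) Lrfl Lrfl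
theorem f130614 : Led Lsl_at (LP (LK LD1_c14 LD2_c35 LD3_c23)) = (LP (LK LD1_c7 LD2_c44 LD3_c12)) :=
  Lre_a IH (LK LD1_c14 LD2_c35 LD3_c23) (LK LD1_c7 LD2_c44 LD3_c12) Lrfl Lrfl
theorem f130615 : Led Lsl_bt (LP (LK LD1_c7 LD2_c44 LD3_c12)) = (LP (LK LD1_c3 LD2_c51 LD3_c25)) :=
  Lre_b IH (LK LD1_c7 LD2_c44 LD3_c12) (LK LD1_c3 LD2_c51 LD3_c25) Lrfl Lrfl
theorem f130616 : Led Lsl_af (LP (LK LD1_c7 LD2_c1 LD3_c29)) = (LP (LK LD1_c3 LD2_c51 LD3_c25)) :=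
  Lgr Lrot36 (Lpr_bt (f130613 IH) (Lpr_at (f130612 IH) (Lpr_bt (K5.f130610 IH) (Lpr_at (f130614 IH) (Lpr_bt (f130615 IH) (Lpn (LP (LK LD1_c3 LD2_c51 LD3_c25))))))))
theorem f65019 : Led Lsl_gt (LP (LK LD1_c13 LD2_c19 LD3_c31)) = (LP (LK LD1_c7 LD2_c1 LD3_c29)) :=
  Lre_g IH (LK LD1_c13 LD2_c19 LD3_c31) (LK LD1_c7 LD2_c1 LD3_c29) Lrfl Lrfl
theorem f65750 : Led Lsl_ft (LP (LK LD1_c7 LD2_c44 LD3_c20)) = (LP (LK LD1_c3 LD2_c51 LD3_c25)) :=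
  Lre_f IH (LK LD1_c7 LD2_c44 LD3_c20) (LK LD1_c3 LD2_c51 LD3_c25) Lrfl Lrfl
theorem f439917 : Led Lsl_gf (LP (LK LD1_c13 LD2_c19 LD3_c31)) = (LP (LK LD1_c7 LD2_c44 LD3_c20)) :=
  Lgr Lrot47 (Lpr_gt (f65019 IH) (Lpr_af (f130616 IH) (Lpe (f65750 IH) (Lpn (LP (LK LD1_c7 LD2_c44 LD3_c20))))))
theorem f65016 : Led Lsl_gt (LP (LK LD1_c3 LD2_c47 LD3_c19)) = (LP (LK LD1_c7 LD2_c35 LD3_c29)) :=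
  Lre_g IH (LK LD1_c3 LD2_c47 LD3_c19) (LK LD1_c7 LD2_c35 LD3_c29) Lrfl Lrfl
theorem f65017 : Led Lsl_et (LP (LK LD1_c14 LD2_c18 LD3_c45)) = (LP (LK LD1_c7 LD2_c35 LD3_c29)) :=
  Lre_e IH (LK LD1_c14 LD2_c18 LD3_c45) (LK LD1_c7 LD2_c35 LD3_c29) Lrfl Lrfl
theorem f63174 : Led Lsl_dt (LP (LK LD1_c3 LD2_c29 LD3_c55)) = (LP (LK LD1_c7 LD2_c1 LD3_c29)) :=
  Lre_d IH (LK LD1_c3 LD2_c29 LD3_c55) (LK LD1_c7 LD2_c1 LD3_c29) Lrfl Lrfl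
theorem f65020 : Led Lsl_dt (LP (LK LD1_c14 LD2_c18 LD3_c45)) = (LP (LK LD1_c13 LD2_c19 LD3_c31)) :=
  Lgr Lrot136 (Lpr_et (f65017 IH) (Lpe (f65016 IH) (Lpe (K4.f65015 IH) (Lpr_dt (K3.f15089 IH) (Lpe (K3.f11980 IH) (Lpe (K3.f15271 IH) (Lpr_gf (K1.f65003 IH) (Lpe (K4.f65018 IH) (Lpr_dt (f63174 IH) (Lpe (f65019 IH) (Lpn (LP (LK LD1_c13 LD2_c19 LD3_c31)))))))))))))
theorem f117395 : Led Lsl_gf (LP (LK LD1_c3 LD2_c50 LD3_c18)) = (LP (LK LD1_c7 LD2_c35 LD3_c29)) :=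
  Lgr Lrot76 (Lpr_af (K4.f117384 IH) (Lpe (K4.f96705 IH) (Lpr_gt (f65016 IH) (Lpn (LP (LK LD1_c7 LD2_c35 LD3_c29))))))
theorem f439919 : Led Lsl_gt (LP (LK LD1_c7 LD2_c41 LD3_c43)) = (LP (LK LD1_c14 LD2_c18 LD3_c50)) :=
  Lgr Lrot139 (Lpe (K4.f87446 IH) (Lpr_gf (f117395 IH) (Lpe (f65017 IH) (Lpr_dt (f65020 IH) (Lpr_gf (f439917 IH) (Lpe (K5.f65754 IH) (Lpe (K5.f130657 IH) (Lpe (f115675 IH) (Lpe (f65203 IH) (Lpr_dt (f93483 IH) (Lpn (LP (LK LD1_c14 LD2_c18 LD3_c50)))))))))))))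
theorem f711724 : Led Lsl_ct (LP (LK LD1_c12 LD2_c37 LD3_c20)) = (LP (LK LD1_c7 LD2_c35 LD3_c29)) :=
  Lgr Lrot8 (Lpe (f93875 IH) (Lpr_dt (K4.f64879 IH) (Lpr_gt (K4.f93890 IH) (Lpe (f93533 IH) (Lpr_cf (f711720 IH) (Lpr_df (f93492 IH) (Lpe (f439919 IH) (Lpe (K4.f87446 IH) (Lpr_gf (f117395 IH) (Lpn (LP (LK LD1_c7 LD2_c35 LD3_c29))))))))))))
theorem f711726 : Led Lsl_cf (LP (LK LD1_c12 LD2_c37 LD3_c20)) = (LP (LK LD1_c7 LD2_c35 LD3_c29)) :=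
  Lgr Lrot11 (Lpr_ct (f711724 IH) (Lpn (LP (LK LD1_c7 LD2_c35 LD3_c29))))
theorem f112237 : Led Lsl_bt (LP (LK LD1_c5 LD2_c51 LD3_c10)) = (LP (LK LD1_c3 LD2_c47 LD3_c19)) :=
  Lgr Lrot95 (Lpe (K4.f112203 IH) (Lpr_bf (K4.f112227 IH) (Lpe (f93480 IH) (Lpn (LP (LK LD1_c3 LD2_c47 LD3_c19))))))
theorem f24121 : Led Lsl_ct (LP (LK LD1_c5 LD2_c51 LD3_c10)) = (LP (LK LD1_c2 LD2_c51 LD3_c52)) :=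
  Lre_c IH (LK LD1_c5 LD2_c51 LD3_c10) (LK LD1_c2 LD2_c51 LD3_c52) Lrfl Lrfl
theorem f24129 : Led Lsl_gt (LP (LK LD1_c5 LD2_c51 LD3_c12)) = (LP (LK LD1_c2 LD2_c51 LD3_c52)) :=
  Lre_g IH (LK LD1_c5 LD2_c51 LD3_c12) (LK LD1_c2 LD2_c51 LD3_c52) Lrfl Lrfl
theorem f112302 : Led Lsl_ct (LP (LK LD1_c11 LD2_c29 LD3_c53)) = (LP (LK LD1_c5 LD2_c51 LD3_c12)) :=
  Lre_c IH (LK LD1_c11 LD2_c29 LD3_c53) (LK LD1_c5 LD2_c51 LD3_c12) Lrfl Lrfl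
theorem f711729 : Led Lsl_bf K51.v5924 = (LP (LK LD1_c11 LD2_c29 LD3_c53)) :=
  Lgr Lrot34 (Lpe (K51.f650083 IH) (Lpe (K4.f64884 IH) (Lpr_ct (K4.f64847 IH) (Lpr_gf (f93875 IH) (Lpr_cf (f711726 IH) (Lpe (f65016 IH) (Lpe (f112237 IH) (Lpr_ct (f24121 IH) (Lpe (f24129 IH) (Lpe (f112302 IH) (Lpn (LP (LK LD1_c11 LD2_c29 LD3_c53)))))))))))))
theorem f89404 : Led Lsl_ct (LP (LK LD1_c3 LD2_c7 LD3_c0)) = (LP (LK LD1_c3 LD2_c48 LD3_c33)) :=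
  Lgr Lrot59 (Lpr_cf (K4.f89397 IH) (Lpn (LP (LK LD1_c3 LD2_c48 LD3_c33))))
theorem f126515 : Led Lsl_ct (LP (LK LD1_c3 LD2_c15 LD3_c1)) = (LP (LK LD1_c3 LD2_c45 LD3_c12)) :=
  Lgr Lrot111 (Lpr_af (K51.f111915 IH) (Lpe (f89404 IH) (Lpr_af (K5.f126511 IH) (Lpn (LP (LK LD1_c3 LD2_c45 LD3_c12))))))
theorem f24084 : Led Lsl_at (LP (LK LD1_c5 LD2_c51 LD3_c8)) = (LP (LK LD1_c11 LD2_c29 LD3_c42)) :=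
  Lre_a IH (LK LD1_c5 LD2_c51 LD3_c8) (LK LD1_c11 LD2_c29 LD3_c42) Lrfl Lrfl
theorem f24120 : Led Lsl_bt (LP (LK LD1_c2 LD2_c51 LD3_c52)) = (LP (LK LD1_c5 LD2_c51 LD3_c8)) :=
  Lre_b IH (LK LD1_c2 LD2_c51 LD3_c52) (LK LD1_c5 LD2_c51 LD3_c8) Lrfl Lrfl
theorem f100293 : Led Lsl_at (LP (LK LD1_c11 LD2_c25 LD3_c25)) = (LP (LK LD1_c5 LD2_c47 LD3_c56)) :=
  Lre_a IH (LK LD1_c11 LD2_c25 LD3_c25) (LK LD1_c5 LD2_c47 LD3_c56) Lrfl Lrfl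
theorem f100307 : Led Lsl_bt (LP (LK LD1_c5 LD2_c47 LD3_c56)) = (LP (LK LD1_c2 LD2_c50 LD3_c3)) :=
  Lre_b IH (LK LD1_c5 LD2_c47 LD3_c56) (LK LD1_c2 LD2_c50 LD3_c3) Lrfl Lrfl
theorem f132443 : Led Lsl_af (LP (LK LD1_c2 LD2_c51 LD3_c52)) = (LP (LK LD1_c2 LD2_c50 LD3_c3)) :=
  Lgr Lrot36 (Lpr_bt (f24120 IH) (Lpr_at (f24084 IH) (Lpr_bt (K51.f132441 IH) (Lpr_at (f100293 IH) (Lpr_bt (f100307 IH) (Lpn (LP (LK LD1_c2 LD2_c50 LD3_c3))))))))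
theorem f132457 : Led Lsl_ft (LP (LK LD1_c5 LD2_c48 LD3_c4)) = (LP (LK LD1_c2 LD2_c50 LD3_c3)) :=
  Lre_f IH (LK LD1_c5 LD2_c48 LD3_c4) (LK LD1_c2 LD2_c50 LD3_c3) Lrfl Lrfl
theorem f132465 : Led Lsl_gf (LP (LK LD1_c5 LD2_c51 LD3_c12)) = (LP (LK LD1_c5 LD2_c48 LD3_c4)) :=
  Lgr Lrot47 (Lpr_gt (f24129 IH) (Lpr_af (f132443 IH) (Lpe (f132457 IH) (Lpn (LP (LK LD1_c5 LD2_c48 LD3_c4))))))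
theorem f117170 : Led Lsl_et (LP (LK LD1_c5 LD2_c48 LD3_c1)) = (LP (LK LD1_c2 LD2_c50 LD3_c2)) :=
  Lre_e IH (LK LD1_c5 LD2_c48 LD3_c1) (LK LD1_c2 LD2_c50 LD3_c2) Lrfl Lrfl
theorem f117171 : Led Lsl_et (LP (LK LD1_c3 LD2_c50 LD3_c0)) = (LP (LK LD1_c7 LD2_c40 LD3_c59)) :=
  Lre_e IH (LK LD1_c3 LD2_c50 LD3_c0) (LK LD1_c7 LD2_c40 LD3_c59) Lrfl Lrfl
theorem f117172 : Led Lsl_bf (LP (LK LD1_c5 LD2_c48 LD3_c1)) = (LP (LK LD1_c7 LD2_c40 LD3_c59)) :=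
  Lgr Lrot96 (Lpr_et (f117170 IH) (Lpr_bt (K4.f117162 IH) (Lpr_et (f117171 IH) (Lpn (LP (LK LD1_c7 LD2_c40 LD3_c59))))))
theorem f117181 : Led Lsl_ft (LP (LK LD1_c5 LD2_c48 LD3_c1)) = (LP (LK LD1_c11 LD2_c25 LD3_c40)) :=
  Lre_f IH (LK LD1_c5 LD2_c48 LD3_c1) (LK LD1_c11 LD2_c25 LD3_c40) Lrfl Lrfl
theorem f117182 : Led Lsl_ft (LP (LK LD1_c14 LD2_c28 LD3_c59)) = (LP (LK LD1_c7 LD2_c40 LD3_c59)) :=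
  Lre_f IH (LK LD1_c14 LD2_c28 LD3_c59) (LK LD1_c7 LD2_c40 LD3_c59) Lrfl Lrfl
theorem f117183 : Led Lsl_bt (LP (LK LD1_c11 LD2_c25 LD3_c40)) = (LP (LK LD1_c14 LD2_c28 LD3_c59)) :=
  Lgr Lrot35 (Lpe (f117181 IH) (Lpr_bf (f117172 IH) (Lpe (f117182 IH) (Lpn (LP (LK LD1_c14 LD2_c28 LD3_c59))))))
theorem f117196 : Led Lsl_gt (LP (LK LD1_c7 LD2_c41 LD3_c12)) = (LP (LK LD1_c14 LD2_c28 LD3_c59)) :=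
  Lre_g IH (LK LD1_c7 LD2_c41 LD3_c12) (LK LD1_c14 LD2_c28 LD3_c59) Lrfl Lrfl
theorem f711765 : Led Lsl_bt K51.v13452 = (LP (LK LD1_c7 LD2_c41 LD3_c12)) :=
  Lgr Lrot22 (Lpr_ct (K51.f703110 IH) (Lpe (K51.f126541 IH) (Lpe (f126515 IH) (Lpr_gf (K51.f650082 IH) (Lpr_bf (f711729 IH) (Lpr_ct (f112302 IH) (Lpr_gf (f132465 IH) (Lpe (K51.f100320 IH) (Lpr_bt (f117183 IH) (Lpe (f117196 IH) (Lpn (LP (LK LD1_c7 LD2_c41 LD3_c12)))))))))))))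
theorem f664665 : Led Lsl_et (LP (LK LD1_c3 LD2_c45 LD3_c25)) = K48.v7344 :=
  Lgr Lrot87 (Lpr_ef (K48.f664662 IH) (Lpn K48.v7344))
theorem f664661 : Led Lsl_cf (LP (LK LD1_c12 LD2_c2 LD3_c46)) = K48.v7344 :=
  Lgr Lrot14 (Lpe (K48.f113038 IH) (Lpe (K48.f113048 IH) (Lpe (K48.f113049 IH) (Lpe (K46.f113050 IH) (Lpe (K46.f414284 IH) (Lpr_gt (K46.f651186 IH) (Lpr_dt (K48.f649367 IH) (Lpe (K46.f649369 IH) (Lpr_dt (K48.f664658 IH) (Lpn K48.v7344))))))))))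
theorem f664666 : Led Lsl_cf (LP (LK LD1_c3 LD2_c45 LD3_c25)) = (LP (LK LD1_c6 LD2_c11 LD3_c13)) :=
  Lgr Lrot39 (Lpr_et (f664665 IH) (Lpe (f664661 IH) (Lpr_et (K48.f113033 IH) (Lpn (LP (LK LD1_c6 LD2_c11 LD3_c13))))))
theorem f58444 : Led Lsl_bt (LP (LK LD1_c12 LD2_c2 LD3_c44)) = (LP (LK LD1_c6 LD2_c11 LD3_c13)) :=
  Lre_b IH (LK LD1_c12 LD2_c2 LD3_c44) (LK LD1_c6 LD2_c11 LD3_c13) Lrfl Lrfl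
theorem f711876 : Led Lsl_cf (LP (LK LD1_c12 LD2_c2 LD3_c44)) = (LP (LK LD1_c7 LD2_c41 LD3_c12)) :=
  Lgr Lrot97 (Lpr_bt (f58444 IH) (Lpe (f664666 IH) (Lpr_bt (K51.f664682 IH) (Lpqs (K51.f708879 IH) (Lpe (K51.f703111 IH) (Lpr_bt (f711765 IH) (Lpn (LP (LK LD1_c7 LD2_c41 LD3_c12)))))))))
theorem f711877 : Led Lsl_ct (LP (LK LD1_c7 LD2_c41 LD3_c12)) = (LP (LK LD1_c12 LD2_c2 LD3_c44)) :=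
  Leop (Lpr_cf (f711876 IH) (Lpn (LP (LK LD1_c7 LD2_c41 LD3_c12))))
theorem seed_758 : LEOK LG_c (LK LD1_c7 LD2_c41 LD3_c12) :=
  Leoe_c (LK LD1_c7 LD2_c41 LD3_c12) (f711877 IH)
theorem f66745 : Led Lsl_gt (LP (LK LD1_c1 LD2_c32 LD3_c53)) = (LP (LK LD1_c3 LD2_c12 LD3_c50)) :=
  Lre_g IH (LK LD1_c1 LD2_c32 LD3_c53) (LK LD1_c3 LD2_c12 LD3_c50) Lrfl Lrfl
theorem f649186 : Led Lsl_ft (LP (LK LD1_c3 LD2_c12 LD3_c51)) = K51.v5748 :=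
  Lgr Lrot2 (Lpr_gt (K51.f66747 IH) (Lpr_gt (f66745 IH) (Lpr_af (K51.f649185 IH) (Lpn K51.v5748))))
theorem f113007 : Led Lsl_ct (LP (LK LD1_c1 LD2_c33 LD3_c60)) = (LP (LK LD1_c3 LD2_c14 LD3_c53)) :=
  Lre_c IH (LK LD1_c1 LD2_c33 LD3_c60) (LK LD1_c3 LD2_c14 LD3_c53) Lrfl Lrfl
def v2033 : LQ := Led Lsl_gf (LP (LK LD1_c1 LD2_c33 LD3_c60))
theorem f507848 : Led Lsl_gf (LP (LK LD1_c1 LD2_c33 LD3_c60)) = v2033 :=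
  Lrfl
theorem f127182 : Led Lsl_at (LP (LK LD1_c2 LD2_c20 LD3_c5)) = (LP (LK LD1_c1 LD2_c33 LD3_c60)) :=
  Lgr Lrot100 (Lpr_af (K5.f127180 IH) (Lpn (LP (LK LD1_c1 LD2_c33 LD3_c60))))
theorem f507849 : Led Lsl_gt (LP (LK LD1_c4 LD2_c44 LD3_c14)) = v2033 :=
  Lgr Lrot5 (Lpr_ft (K51.f440266 IH) (Lpr_at (f127182 IH) (Lpr_gf (f507848 IH) (Lpn v2033))))
theorem f708781 : (LP (LK LD1_c3 LD2_c3 LD3_c8)) = v2033 :=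
  Lefun (Lecon (Lfl_gf (K51.f646927 IH)) (K51.f708763 IH)) (f507849 IH)
theorem f438601 : Led Lsl_bt (LP (LK LD1_c1 LD2_c27 LD3_c29)) = (LP (LK LD1_c3 LD2_c3 LD3_c8)) :=
  Lre_b IH (LK LD1_c1 LD2_c27 LD3_c29) (LK LD1_c3 LD2_c3 LD3_c8) Lrfl Lrfl
theorem f709063 : Led Lsl_bt (LP (LK LD1_c6 LD2_c19 LD3_c9)) = (LP (LK LD1_c6 LD2_c29 LD3_c36)) :=
  Lgr Lrot22 (Lpr_ct (K51.f709052 IH) (Lpe (K51.f112981 IH) (Lpe (f113007 IH) (Lpr_gf (f507848 IH) (Lpq (f708781 IH) (Lpe (f438601 IH) (Lpr_ct (K32.f438589 IH) (Lpr_gf (K32.f73620 IH) (Lpe (K2.f73512 IH) (Lpr_bt (K2.f66915 IH) (Lpe (K2.f66934 IH) (Lpn (LP (LK LD1_c6 LD2_c29 LD3_c36))))))))))))))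
theorem f709065 : Led Lsl_bf (LP (LK LD1_c6 LD2_c19 LD3_c9)) = (LP (LK LD1_c6 LD2_c29 LD3_c36)) :=
  Lgr Lrot24 (Lpr_bt (f709063 IH) (Lpn (LP (LK LD1_c6 LD2_c29 LD3_c36))))
theorem f709672 : Led Lsl_ff (LP (LK LD1_c6 LD2_c29 LD3_c46)) = (LP (LK LD1_c6 LD2_c19 LD3_c9)) :=
  Lgr Lrot25 (Lpr_bt (K51.f68242 IH) (Lpr_ft (f649186 IH) (Lpqs (K51.f709667 IH) (Lpe (f709065 IH) (Lpn (LP (LK LD1_c6 LD2_c19 LD3_c9)))))))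
theorem f126531 : Led Lsl_gt (LP (LK LD1_c6 LD2_c19 LD3_c9)) = (LP (LK LD1_c7 LD2_c31 LD3_c12)) :=
  Lgr Lrot46 (Lpe (K51.f25038 IH) (Lpr_ft (K4.f89409 IH) (Lpr_at (K5.f126521 IH) (Lpn (LP (LK LD1_c7 LD2_c31 LD3_c12))))))
theorem f89416 : Led Lsl_gt (LP (LK LD1_c6 LD2_c19 LD3_c10)) = (LP (LK LD1_c3 LD2_c7 LD3_c0)) :=
  Lre_g IH (LK LD1_c6 LD2_c19 LD3_c10) (LK LD1_c3 LD2_c7 LD3_c0) Lrfl Lrfl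
theorem f126523 : Led Lsl_gf (LP (LK LD1_c6 LD2_c19 LD3_c10)) = (LP (LK LD1_c7 LD2_c31 LD3_c12)) :=
  Lgr Lrot47 (Lpr_gt (f89416 IH) (Lpr_af (K5.f126511 IH) (Lpe (K5.f126520 IH) (Lpn (LP (LK LD1_c7 LD2_c31 LD3_c12))))))
theorem f709683 : Led Lsl_at (LP (LK LD1_c6 LD2_c29 LD3_c46)) = (LP (LK LD1_c6 LD2_c19 LD3_c10)) :=
  Lgr Lrot26 (Lpr_ff (f709672 IH) (Lpr_gt (f126531 IH) (Lpe (f126523 IH) (Lpn (LP (LK LD1_c6 LD2_c19 LD3_c10))))))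
theorem f708924 : Led Lsl_ct (LP (LK LD1_c9 LD2_c21 LD3_c13)) = K51.v7331 :=
  Lgr Lrot59 (Lpr_cf (K51.f708922 IH) (Lpn K51.v7331))
theorem f113009 : Led Lsl_ct (LP (LK LD1_c6 LD2_c33 LD3_c16)) = (LP (LK LD1_c3 LD2_c14 LD3_c54)) :=
  Lre_c IH (LK LD1_c6 LD2_c33 LD3_c16) (LK LD1_c3 LD2_c14 LD3_c54) Lrfl Lrfl
theorem f127229 : Led Lsl_at (LP (LK LD1_c9 LD2_c21 LD3_c12)) = (LP (LK LD1_c7 LD2_c42 LD3_c44)) :=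
  Lgr Lrot100 (Lpr_af (K5.f127219 IH) (Lpn (LP (LK LD1_c7 LD2_c42 LD3_c44))))
theorem f440242 : Led Lsl_ft (LP (LK LD1_c17 LD2_c17 LD3_c13)) = (LP (LK LD1_c9 LD2_c21 LD3_c12)) :=
  Lre_f IH (LK LD1_c17 LD2_c17 LD3_c13) (LK LD1_c9 LD2_c21 LD3_c12) Lrfl Lrfl
theorem f136446 : Led Lsl_gt (LP (LK LD1_c14 LD2_c32 LD3_c16)) = (LP (LK LD1_c7 LD2_c42 LD3_c44)) :=
  Lre_g IH (LK LD1_c14 LD2_c32 LD3_c16) (LK LD1_c7 LD2_c42 LD3_c44) Lrfl Lrfl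
theorem f440253 : Led Lsl_gt (LP (LK LD1_c17 LD2_c17 LD3_c13)) = (LP (LK LD1_c14 LD2_c32 LD3_c16)) :=
  Lgr Lrot5 (Lpr_ft (f440242 IH) (Lpr_at (f127229 IH) (Lpe (f136446 IH) (Lpn (LP (LK LD1_c14 LD2_c32 LD3_c16))))))
theorem f440258 : Led Lsl_bt (LP (LK LD1_c24 LD2_c14 LD3_c27)) = (LP (LK LD1_c14 LD2_c32 LD3_c16)) :=
  Lre_b IH (LK LD1_c24 LD2_c14 LD3_c27) (LK LD1_c14 LD2_c32 LD3_c16) Lrfl Lrfl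
theorem f440270 : Led Lsl_ct (LP (LK LD1_c3 LD2_c14 LD3_c54)) = (LP (LK LD1_c6 LD2_c33 LD3_c16)) :=
  Lre_c IH (LK LD1_c3 LD2_c14 LD3_c54) (LK LD1_c6 LD2_c33 LD3_c16) Lrfl Lrfl
theorem f708771 : K51.v5923 = (LP (LK LD1_c6 LD2_c33 LD3_c16)) :=
  Lefun (Lecon (Lfl_cf (K51.f708155 IH)) (K51.f708759 IH).symm) (f440270 IH)
theorem f111917 : Led Lsl_bt (LP (LK LD1_c6 LD2_c33 LD3_c29)) = (LP (LK LD1_c3 LD2_c15 LD3_c1)) :=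
  Lre_b IH (LK LD1_c6 LD2_c33 LD3_c29) (LK LD1_c3 LD2_c15 LD3_c1) Lrfl Lrfl
theorem f110569 : Led Lsl_gt (LP (LK LD1_c17 LD2_c18 LD3_c22)) = (LP (LK LD1_c9 LD2_c22 LD3_c7)) :=
  Lre_g IH (LK LD1_c17 LD2_c18 LD3_c22) (LK LD1_c9 LD2_c22 LD3_c7) Lrfl Lrfl
theorem f709194 : Led Lsl_ct (LP (LK LD1_c24 LD2_c14 LD3_c27)) = (LP (LK LD1_c17 LD2_c18 LD3_c22)) :=
  Lgr Lrot64 (Lpr_bt (f440258 IH) (Lpe (f440253 IH) (Lpe (K5.f127208 IH) (Lpr_ct (K5.f127203 IH) (Lpr_gf (K51.f440268 IH) (Lpe (f113009 IH) (Lpq (f708771 IH) (Lpe (K51.f650080 IH) (Lpe (f111917 IH) (Lpr_ct (K5.f128640 IH) (Lpe (f110569 IH) (Lpn (LP (LK LD1_c17 LD2_c18 LD3_c22))))))))))))))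
theorem f440229 : Led Lsl_ct (LP (LK LD1_c7 LD2_c42 LD3_c44)) = (LP (LK LD1_c14 LD2_c32 LD3_c14)) :=
  Lre_c IH (LK LD1_c7 LD2_c42 LD3_c44) (LK LD1_c14 LD2_c32 LD3_c14) Lrfl Lrfl
theorem f128692 : Led Lsl_gt (LP (LK LD1_c23 LD2_c55 LD3_c22)) = (LP (LK LD1_c17 LD2_c18 LD3_c22)) :=
  Lgr Lrot5 (Lpr_ft (K5.f87913 IH) (Lpr_at (K5.f128688 IH) (Lpe (f110569 IH) (Lpn (LP (LK LD1_c17 LD2_c18 LD3_c22))))))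
theorem f64850 : Led Lsl_gt (LP (LK LD1_c1 LD2_c51 LD3_c22)) = (LP (LK LD1_c3 LD2_c48 LD3_c42)) :=
  Lre_g IH (LK LD1_c1 LD2_c51 LD3_c22) (LK LD1_c3 LD2_c48 LD3_c42) Lrfl Lrfl
theorem f87742 : Led Lsl_gf (LP (LK LD1_c7 LD2_c34 LD3_c60)) = (LP (LK LD1_c3 LD2_c48 LD3_c42)) :=
  Lgr Lrot76 (Lpr_af (K2.f87732 IH) (Lpe (K4.f64845 IH) (Lpr_gt (f64850 IH) (Lpn (LP (LK LD1_c3 LD2_c48 LD3_c42))))))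
theorem f87749 : Led Lsl_bt (LP (LK LD1_c7 LD2_c38 LD3_c26)) = (LP (LK LD1_c3 LD2_c48 LD3_c42)) :=
  Lre_b IH (LK LD1_c7 LD2_c38 LD3_c26) (LK LD1_c3 LD2_c48 LD3_c42) Lrfl Lrfl
theorem f87751 : Led Lsl_ct (LP (LK LD1_c7 LD2_c38 LD3_c26)) = (LP (LK LD1_c14 LD2_c23 LD3_c51)) :=
  Lre_c IH (LK LD1_c7 LD2_c38 LD3_c26) (LK LD1_c14 LD2_c23 LD3_c51) Lrfl Lrfl
theorem f709200 : Led Lsl_gt (LP (LK LD1_c14 LD2_c32 LD3_c14)) = (LP (LK LD1_c14 LD2_c23 LD3_c51)) :=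
  Lgr Lrot149 (Lpe (f440229 IH) (Lpe (f136446 IH) (Lpe (f440258 IH) (Lpr_ct (f709194 IH) (Lpe (f128692 IH) (Lpe (K5.f87753 IH) (Lpr_bt (K5.f87752 IH) (Lpr_gf (f87742 IH) (Lpe (f87749 IH) (Lpr_ct (f87751 IH) (Lpn (LP (LK LD1_c14 LD2_c23 LD3_c51)))))))))))))
theorem f97786 : Led Lsl_ft (LP (LK LD1_c14 LD2_c32 LD3_c14)) = (LP (LK LD1_c24 LD2_c14 LD3_c25)) :=
  Lre_f IH (LK LD1_c14 LD2_c32 LD3_c14) (LK LD1_c24 LD2_c14 LD3_c25) Lrfl Lrfl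
theorem f709035 : Led Lsl_ff (LP (LK LD1_c12 LD2_c13 LD3_c0)) = (LP (LK LD1_c9 LD2_c21 LD3_c10)) :=
  Lgr Lrot3 (Lpr_ft (K51.f709031 IH) (Lpn (LP (LK LD1_c9 LD2_c21 LD3_c10))))
theorem f126603 : Led Lsl_et (LP (LK LD1_c1 LD2_c33 LD3_c61)) = (LP (LK LD1_c3 LD2_c14 LD3_c58)) :=
  Lre_e IH (LK LD1_c1 LD2_c33 LD3_c61) (LK LD1_c3 LD2_c14 LD3_c58) Lrfl Lrfl
def v5921 : LQ := Led Lsl_ft (LP (LK LD1_c3 LD2_c14 LD3_c58))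
theorem f650069 : Led Lsl_ft (LP (LK LD1_c3 LD2_c14 LD3_c58)) = v5921 :=
  Lrfl
theorem f703068 : Led Lsl_et v5921 = K51.v13451 :=
  Lgr Lrot69 (Lpe (f650069 IH) (Lpe (f126603 IH) (Lpr_ff (K5.f127478 IH) (Lpe (K51.f127485 IH) (Lpr_ff (K51.f703064 IH) (Lpn K51.v13451))))))
theorem f650071 : Led Lsl_ff (LP (LK LD1_c3 LD2_c14 LD3_c58)) = v5921 :=
  Lgr Lrot3 (Lpr_ft (f650069 IH) (Lpn v5921))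
theorem f650072 : Led Lsl_bt K51.v2037 = v5921 :=
  Lgr Lrot35 (Lpe (K51.f507862 IH) (Lpe (K51.f126589 IH) (Lpr_ff (f650071 IH) (Lpn v5921))))
theorem f708092 : v5921 = K49.v5275 :=
  Lefun (Lecon (f650072 IH) ((K51.f708039 IH).trans (K49.f674264 IH))) (K49.f646874 IH)
theorem f709029 : Led Lsl_et (LP (LK LD1_c12 LD2_c13 LD3_c0)) = (LP (LK LD1_c12 LD2_c2 LD3_c50)) :=
  Lgr Lrot158 (Lpr_cf (K51.f709024 IH) (Lpe (f703068 IH) (Lpqs (f708092 IH) (Lpq (K49.f674250 IH) (Lpe (K49.f414649 IH) (Lpn (LP (LK LD1_c12 LD2_c2 LD3_c50))))))))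
theorem f127456 : Led Lsl_ft (LP (LK LD1_c3 LD2_c14 LD3_c57)) = (LP (LK LD1_c4 LD2_c44 LD3_c8)) :=
  Lgr Lrot75 (Lpe (K42.f127366 IH) (Lpr_ff (K5.f127442 IH) (Lpe (K36.f111883 IH) (Lpn (LP (LK LD1_c4 LD2_c44 LD3_c8))))))
theorem f128588 : Led Lsl_et (LP (LK LD1_c6 LD2_c33 LD3_c21)) = (LP (LK LD1_c3 LD2_c14 LD3_c57)) :=
  Lre_e IH (LK LD1_c6 LD2_c33 LD3_c21) (LK LD1_c3 LD2_c14 LD3_c57) Lrfl Lrfl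
theorem f709071 : Led Lsl_ft (LP (LK LD1_c12 LD2_c2 LD3_c50)) = (LP (LK LD1_c6 LD2_c33 LD3_c21)) :=
  Lgr Lrot86 (Lpe (f709029 IH) (Lpr_ff (f709035 IH) (Lpe (K51.f209761 IH) (Lpe (f127456 IH) (Lpe (f128588 IH) (Lpn (LP (LK LD1_c6 LD2_c33 LD3_c21))))))))
theorem f709075 : Led Lsl_ff (LP (LK LD1_c12 LD2_c2 LD3_c50)) = (LP (LK LD1_c6 LD2_c33 LD3_c21)) :=
  Lgr Lrot3 (Lpr_ft (f709071 IH) (Lpn (LP (LK LD1_c6 LD2_c33 LD3_c21))))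
theorem f127470 : Led Lsl_et (LP (LK LD1_c3 LD2_c14 LD3_c57)) = (LP (LK LD1_c6 LD2_c33 LD3_c21)) :=
  Lre_e IH (LK LD1_c3 LD2_c14 LD3_c57) (LK LD1_c6 LD2_c33 LD3_c21) Lrfl Lrfl
theorem f127471 : Led Lsl_et (LP (LK LD1_c9 LD2_c21 LD3_c10)) = (LP (LK LD1_c4 LD2_c44 LD3_c8)) :=
  Lre_e IH (LK LD1_c9 LD2_c21 LD3_c10) (LK LD1_c4 LD2_c44 LD3_c8) Lrfl Lrfl
theorem f709079 : Led Lsl_et (LP (LK LD1_c12 LD2_c2 LD3_c50)) = (LP (LK LD1_c12 LD2_c13 LD3_c0)) :=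
  Lgr Lrot69 (Lpr_ff (f709075 IH) (Lpe (f127470 IH) (Lpr_ff (K5.f127462 IH) (Lpe (f127471 IH) (Lpe (K51.f709031 IH) (Lpn (LP (LK LD1_c12 LD2_c13 LD3_c0))))))))
theorem f674253 : Led Lsl_bt (LP (LK LD1_c21 LD2_c8 LD3_c6)) = (LP (LK LD1_c12 LD2_c2 LD3_c50)) :=
  Lre_b IH (LK LD1_c21 LD2_c8 LD3_c6) (LK LD1_c12 LD2_c2 LD3_c50) Lrfl Lrfl
theorem f709081 : Led Lsl_ef (LP (LK LD1_c21 LD2_c8 LD3_c6)) = (LP (LK LD1_c21 LD2_c18 LD3_c53)) :=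
  Lgr Lrot29 (Lpr_bt (f674253 IH) (Lpr_et (f709079 IH) (Lpr_bt (K51.f709025 IH) (Lpn (LP (LK LD1_c21 LD2_c18 LD3_c53))))))
theorem f709083 : Led Lsl_et (LP (LK LD1_c21 LD2_c8 LD3_c6)) = (LP (LK LD1_c21 LD2_c18 LD3_c53)) :=
  Lgr Lrot87 (Lpr_ef (f709081 IH) (Lpn (LP (LK LD1_c21 LD2_c18 LD3_c53))))
theorem f632196 : Led Lsl_bt (LP (LK LD1_c6 LD2_c12 LD3_c33)) = (LP (LK LD1_c12 LD2_c4 LD3_c27)) :=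
  Lre_b IH (LK LD1_c6 LD2_c12 LD3_c33) (LK LD1_c12 LD2_c4 LD3_c27) Lrfl Lrfl
theorem f674254 : Led Lsl_cf (LP (LK LD1_c21 LD2_c8 LD3_c6)) = (LP (LK LD1_c12 LD2_c4 LD3_c27)) :=
  Lgr Lrot97 (Lpr_bt (f674253 IH) (Lpr_ct (K49.f414649 IH) (Lpqs (K49.f674250 IH) (Lpe (K49.f646875 IH) (Lpr_ct (K51.f502982 IH) (Lpr_bt (f632196 IH) (Lpn (LP (LK LD1_c12 LD2_c4 LD3_c27)))))))))
theorem f709085 : Led Lsl_ef (LP (LK LD1_c12 LD2_c4 LD3_c27)) = (LP (LK LD1_c17 LD2_c17 LD3_c13)) :=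
  Lgr Lrot28 (Lpe (f674254 IH) (Lpr_et (f709083 IH) (Lpr_ct (K51.f709026 IH) (Lpn (LP (LK LD1_c17 LD2_c17 LD3_c13))))))
theorem f709091 : Led Lsl_ft (LP (LK LD1_c12 LD2_c4 LD3_c27)) = (LP (LK LD1_c6 LD2_c33 LD3_c24)) :=
  Lgr Lrot86 (Lpr_ef (f709085 IH) (Lpe (K5.f127218 IH) (Lpe (K5.f127259 IH) (Lpe (K5.f127425 IH) (Lpe (K37.f127386 IH) (Lpn (LP (LK LD1_c6 LD2_c33 LD3_c24))))))))
theorem f127380 : Led Lsl_at (LP (LK LD1_c6 LD2_c33 LD3_c24)) = (LP (LK LD1_c6 LD2_c56 LD3_c0)) :=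
  Lgr Lrot100 (Lpr_af (K5.f127376 IH) (Lpn (LP (LK LD1_c6 LD2_c56 LD3_c0))))
theorem f709093 : Led Lsl_af (LP (LK LD1_c12 LD2_c4 LD3_c27)) = (LP (LK LD1_c13 LD2_c10 LD3_c2)) :=
  Lgr Lrot45 (Lpr_ft (f709091 IH) (Lpr_at (f127380 IH) (Lpr_ft (K3.f97768 IH) (Lpn (LP (LK LD1_c13 LD2_c10 LD3_c2))))))
theorem f89966 : Led Lsl_ct (LP (LK LD1_c22 LD2_c22 LD3_c28)) = (LP (LK LD1_c13 LD2_c10 LD3_c2)) :=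
  Lre_c IH (LK LD1_c22 LD2_c22 LD3_c28) (LK LD1_c13 LD2_c10 LD3_c2) Lrfl Lrfl
theorem f709119 : Led Lsl_at (LP (LK LD1_c21 LD2_c8 LD3_c6)) = (LP (LK LD1_c22 LD2_c22 LD3_c28)) :=
  Lgr Lrot107 (Lpr_cf (f674254 IH) (Lpr_af (f709093 IH) (Lpe (f89966 IH) (Lpn (LP (LK LD1_c22 LD2_c22 LD3_c28))))))
theorem f97777 : Led Lsl_ef (LP (LK LD1_c22 LD2_c22 LD3_c28)) = (LP (LK LD1_c24 LD2_c14 LD3_c25)) :=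
  Lgr Lrot28 (Lpr_ct (f89966 IH) (Lpr_et (K3.f97771 IH) (Lpr_ct (K51.f97776 IH) (Lpn (LP (LK LD1_c24 LD2_c14 LD3_c25))))))
theorem f97782 : Led Lsl_et (LP (LK LD1_c22 LD2_c22 LD3_c28)) = (LP (LK LD1_c24 LD2_c14 LD3_c25)) :=
  Lgr Lrot87 (Lpr_ef (f97777 IH) (Lpn (LP (LK LD1_c24 LD2_c14 LD3_c25))))
theorem f709130 : Led Lsl_af (LP (LK LD1_c21 LD2_c18 LD3_c53)) = (LP (LK LD1_c24 LD2_c14 LD3_c25)) :=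
  Lgr Lrot50 (Lpe (f709081 IH) (Lpr_at (f709119 IH) (Lpr_et (f97782 IH) (Lpn (LP (LK LD1_c24 LD2_c14 LD3_c25))))))
theorem f709205 : Led Lsl_gf (LP (LK LD1_c21 LD2_c18 LD3_c53)) = (LP (LK LD1_c14 LD2_c23 LD3_c51)) :=
  Lgr Lrot76 (Lpr_af (f709130 IH) (Lpe (f97786 IH) (Lpr_gt (f709200 IH) (Lpn (LP (LK LD1_c14 LD2_c23 LD3_c51))))))
theorem f709132 : Led Lsl_at (LP (LK LD1_c21 LD2_c18 LD3_c53)) = (LP (LK LD1_c24 LD2_c14 LD3_c25)) :=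
  Lgr Lrot100 (Lpr_af (f709130 IH) (Lpn (LP (LK LD1_c24 LD2_c14 LD3_c25))))
theorem f97787 : Led Lsl_ct (LP (LK LD1_c24 LD2_c14 LD3_c25)) = (LP (LK LD1_c14 LD2_c32 LD3_c18)) :=
  Lre_c IH (LK LD1_c24 LD2_c14 LD3_c25) (LK LD1_c14 LD2_c32 LD3_c18) Lrfl Lrfl
theorem f127216 : Led Lsl_af (LP (LK LD1_c17 LD2_c17 LD3_c13)) = (LP (LK LD1_c14 LD2_c32 LD3_c18)) :=
  Lgr Lrot0 (Lpr_at (K5.f127209 IH) (Lpn (LP (LK LD1_c14 LD2_c32 LD3_c18))))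
theorem f709134 : Led Lsl_cf (LP (LK LD1_c21 LD2_c18 LD3_c53)) = (LP (LK LD1_c17 LD2_c17 LD3_c13)) :=
  Lgr Lrot1 (Lpr_at (f709132 IH) (Lpr_ct (f97787 IH) (Lpe (f127216 IH) (Lpn (LP (LK LD1_c17 LD2_c17 LD3_c13))))))
theorem f112975 : Led Lsl_ct (LP (LK LD1_c3 LD2_c14 LD3_c53)) = (LP (LK LD1_c1 LD2_c33 LD3_c60)) :=
  Lre_c IH (LK LD1_c3 LD2_c14 LD3_c53) (LK LD1_c1 LD2_c33 LD3_c60) Lrfl Lrfl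
theorem f127186 : Led Lsl_at (LP (LK LD1_c4 LD2_c44 LD3_c11)) = (LP (LK LD1_c3 LD2_c14 LD3_c53)) :=
  Lgr Lrot107 (Lpe (K51.f127185 IH) (Lpr_af (K5.f127180 IH) (Lpe (f112975 IH) (Lpn (LP (LK LD1_c3 LD2_c14 LD3_c53))))))
theorem f127211 : Led Lsl_ft (LP (LK LD1_c9 LD2_c21 LD3_c15)) = (LP (LK LD1_c4 LD2_c44 LD3_c11)) :=
  Lre_f IH (LK LD1_c9 LD2_c21 LD3_c15) (LK LD1_c4 LD2_c44 LD3_c11) Lrfl Lrfl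
theorem f112984 : Led Lsl_gt (LP (LK LD1_c6 LD2_c33 LD3_c13)) = (LP (LK LD1_c3 LD2_c14 LD3_c53)) :=
  Lre_g IH (LK LD1_c6 LD2_c33 LD3_c13) (LK LD1_c3 LD2_c14 LD3_c53) Lrfl Lrfl
theorem f440271 : Led Lsl_gt (LP (LK LD1_c9 LD2_c21 LD3_c15)) = (LP (LK LD1_c6 LD2_c33 LD3_c13)) :=
  Lgr Lrot5 (Lpr_ft (f127211 IH) (Lpr_at (f127186 IH) (Lpe (f112984 IH) (Lpn (LP (LK LD1_c6 LD2_c33 LD3_c13))))))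
theorem f64889 : Led Lsl_bt (LP (LK LD1_c3 LD2_c48 LD3_c33)) = (LP (LK LD1_c1 LD2_c51 LD3_c22)) :=
  Lre_b IH (LK LD1_c3 LD2_c48 LD3_c33) (LK LD1_c1 LD2_c51 LD3_c22) Lrfl Lrfl
theorem f709209 : Led Lsl_ct (LP (LK LD1_c6 LD2_c33 LD3_c13)) = (LP (LK LD1_c6 LD2_c19 LD3_c10)) :=
  Lgr Lrot91 (Lpe (f440271 IH) (Lpe (K51.f127215 IH) (Lpe (f709134 IH) (Lpr_gf (f709205 IH) (Lpe (f87751 IH) (Lpr_bt (f87749 IH) (Lpe (f64850 IH) (Lpe (f64889 IH) (Lpe (K4.f89397 IH) (Lpe (f89416 IH) (Lpn (LP (LK LD1_c6 LD2_c19 LD3_c10)))))))))))))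
theorem f709211 : Led Lsl_cf (LP (LK LD1_c6 LD2_c33 LD3_c13)) = (LP (LK LD1_c6 LD2_c19 LD3_c10)) :=
  Lgr Lrot11 (Lpr_ct (f709209 IH) (Lpn (LP (LK LD1_c6 LD2_c19 LD3_c10))))
theorem f709687 : Led Lsl_af (LP (LK LD1_c9 LD2_c21 LD3_c13)) = (LP (LK LD1_c6 LD2_c33 LD3_c13)) :=
  Lgr Lrot68 (Lpr_ct (f708924 IH) (Lpq (K51.f708925 IH) (Lpr_at (f709683 IH) (Lpe (f709211 IH) (Lpn (LP (LK LD1_c6 LD2_c33 LD3_c13)))))))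
theorem f127306 : Led Lsl_ft (LP (LK LD1_c4 LD2_c44 LD3_c11)) = (LP (LK LD1_c9 LD2_c21 LD3_c15)) :=
  Lre_f IH (LK LD1_c4 LD2_c44 LD3_c11) (LK LD1_c9 LD2_c21 LD3_c15) Lrfl Lrfl
theorem f127206 : Led Lsl_at (LP (LK LD1_c9 LD2_c21 LD3_c15)) = (LP (LK LD1_c6 LD2_c33 LD3_c15)) :=
  Lgr Lrot100 (Lpr_af (K5.f127204 IH) (Lpn (LP (LK LD1_c6 LD2_c33 LD3_c15))))
theorem f703072 : Led Lsl_gf (LP (LK LD1_c6 LD2_c33 LD3_c15)) = K51.v13452 :=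
  Lgr Lrot76 (Lpe (f127206 IH) (Lpe (f127306 IH) (Lpr_gt (K51.f703071 IH) (Lpn K51.v13452))))
theorem f709693 : Led Lsl_ft K51.v13452 = (LP (LK LD1_c6 LD2_c33 LD3_c13)) :=
  Lgr Lrot2 (Lpe (f703072 IH) (Lpe (K51.f127307 IH) (Lpr_af (f709687 IH) (Lpn (LP (LK LD1_c6 LD2_c33 LD3_c13))))))
theorem f709697 : Led Lsl_ff K51.v13452 = (LP (LK LD1_c6 LD2_c33 LD3_c13)) :=
  Lgr Lrot3 (Lpr_ft (f709693 IH) (Lpn (LP (LK LD1_c6 LD2_c33 LD3_c13))))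
theorem f112985 : Led Lsl_bt (LP (LK LD1_c12 LD2_c33 LD3_c45)) = (LP (LK LD1_c6 LD2_c33 LD3_c13)) :=
  Lre_b IH (LK LD1_c12 LD2_c33 LD3_c45) (LK LD1_c6 LD2_c33 LD3_c13) Lrfl Lrfl
theorem f711878 : Led Lsl_ff (LP (LK LD1_c12 LD2_c33 LD3_c45)) = (LP (LK LD1_c7 LD2_c41 LD3_c12)) :=
  Lgr Lrot25 (Lpr_bt (f112985 IH) (Lpe (f709697 IH) (Lpr_bt (f711765 IH) (Lpn (LP (LK LD1_c7 LD2_c41 LD3_c12))))))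
theorem f711879 : Led Lsl_ft (LP (LK LD1_c7 LD2_c41 LD3_c12)) = (LP (LK LD1_c12 LD2_c33 LD3_c45)) :=
  Leop (Lpr_ff (f711878 IH) (Lpn (LP (LK LD1_c7 LD2_c41 LD3_c12))))
theorem seed_759 : LEOK LG_f (LK LD1_c7 LD2_c41 LD3_c12) :=
  Leoe_f (LK LD1_c7 LD2_c41 LD3_c12) (f711879 IH)
theorem f87427 : Led Lsl_gt (LP (LK LD1_c3 LD2_c50 LD3_c6)) = (LP (LK LD1_c7 LD2_c41 LD3_c12)) :=
  Lre_g IH (LK LD1_c3 LD2_c50 LD3_c6) (LK LD1_c7 LD2_c41 LD3_c12) Lrfl Lrfl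
theorem f87424 : Led Lsl_bt (LP (LK LD1_c1 LD2_c52 LD3_c3)) = (LP (LK LD1_c3 LD2_c50 LD3_c6)) :=
  Lre_b IH (LK LD1_c1 LD2_c52 LD3_c3) (LK LD1_c3 LD2_c50 LD3_c6) Lrfl Lrfl
theorem f66098 : Led Lsl_gt (LP (LK LD1_c6 LD2_c37 LD3_c48)) = (LP (LK LD1_c3 LD2_c17 LD3_c13)) :=
  Lre_g IH (LK LD1_c6 LD2_c37 LD3_c48) (LK LD1_c3 LD2_c17 LD3_c13) Lrfl Lrfl
theorem f711880 : Led Lsl_ct (LP (LK LD1_c7 LD2_c34 LD3_c58)) = (LP (LK LD1_c6 LD2_c37 LD3_c48)) :=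
  Lgr Lrot91 (Lpr_gf (K51.f87776 IH) (Lpe (K51.f64875 IH) (Lpe (K4.f89421 IH) (Lpr_gf (K51.f126542 IH) (Lpe (K51.f703110 IH) (Lpr_bt (f711765 IH) (Lpe (f87427 IH) (Lpe (f87424 IH) (Lpe (K48.f87387 IH) (Lpe (f66098 IH) (Lpn (LP (LK LD1_c6 LD2_c37 LD3_c48)))))))))))))
theorem f711881 : Led Lsl_ct (LP (LK LD1_c7 LD2_c34 LD3_c58)) = (LP (LK LD1_c6 LD2_c37 LD3_c48)) :=
  Leop (Lpe (f711880 IH) (Lpn (LP (LK LD1_c7 LD2_c34 LD3_c58))))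
theorem seed_760 : LEOK LG_c (LK LD1_c7 LD2_c34 LD3_c58) :=
  Leoe_c (LK LD1_c7 LD2_c34 LD3_c58) (f711881 IH)
theorem f172484 : Led Lsl_bt (LP (LK LD1_c17 LD2_c54 LD3_c53)) = (LP (LK LD1_c20 LD2_c10 LD3_c37)) :=
  Lgr Lrot127 (Lpr_bf (K51.f172482 IH) (Lpn (LP (LK LD1_c20 LD2_c10 LD3_c37))))
theorem f612919 : Led Lsl_dt (LP (LK LD1_c9 LD2_c47 LD3_c24)) = (LP (LK LD1_c17 LD2_c54 LD3_c53)) :=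
  Lgr Lrot79 (Lpr_bf (f82044 IH) (Lpr_df (K51.f573001 IH) (Lpe (f172484 IH) (Lpn (LP (LK LD1_c17 LD2_c54 LD3_c53))))))
theorem f415881 : Led Lsl_dt (LP (LK LD1_c9 LD2_c46 LD3_c10)) = (LP (LK LD1_c17 LD2_c56 LD3_c0)) :=
  Lre_d IH (LK LD1_c9 LD2_c46 LD3_c10) (LK LD1_c17 LD2_c56 LD3_c0) Lrfl Lrfl
theorem f642872 : Led Lsl_dt (LP (LK LD1_c17 LD2_c4 LD3_c26)) = (LP (LK LD1_c26 LD2_c58 LD3_c26)) :=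
  Lgr Lrot42 (Lpr_df (K51.f642870 IH) (Lpn (LP (LK LD1_c26 LD2_c58 LD3_c26))))
theorem f415967 : Led Lsl_gt (LP (LK LD1_c9 LD2_c10 LD3_c61)) = (LP (LK LD1_c17 LD2_c4 LD3_c26)) :=
  Lre_g IH (LK LD1_c9 LD2_c10 LD3_c61) (LK LD1_c17 LD2_c4 LD3_c26) Lrfl Lrfl
theorem f116869 : Led Lsl_dt (LP (LK LD1_c4 LD2_c37 LD3_c42)) = (LP (LK LD1_c9 LD2_c10 LD3_c61)) :=
  Lre_d IH (LK LD1_c4 LD2_c37 LD3_c42) (LK LD1_c9 LD2_c10 LD3_c61) Lrfl Lrfl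
theorem f157163 : Led Lsl_gt (LP (LK LD1_c9 LD2_c10 LD3_c60)) = (LP (LK LD1_c4 LD2_c37 LD3_c42)) :=
  Lre_g IH (LK LD1_c9 LD2_c10 LD3_c60) (LK LD1_c4 LD2_c37 LD3_c42) Lrfl Lrfl
theorem f501011 : Led Lsl_ct (LP (LK LD1_c17 LD2_c4 LD3_c24)) = (LP (LK LD1_c9 LD2_c10 LD3_c60)) :=
  Lre_c IH (LK LD1_c17 LD2_c4 LD3_c24) (LK LD1_c9 LD2_c10 LD3_c60) Lrfl Lrfl
theorem f710554 : Led Lsl_gf (LP (LK LD1_c9 LD2_c47 LD3_c24)) = (LP (LK LD1_c17 LD2_c4 LD3_c24)) :=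
  Lgr Lrot144 (Lpr_dt (f612919 IH) (Lpr_gt (f710552 IH) (Lpr_dt (f415881 IH) (Lpe (f644698 IH) (Lpe (f642872 IH) (Lpe (f415967 IH) (Lpe (f116869 IH) (Lpe (f157163 IH) (Lpe (f501011 IH) (Lpn (LP (LK LD1_c17 LD2_c4 LD3_c24))))))))))))
theorem f202379 : Led Lsl_cf (LP (LK LD1_c4 LD2_c38 LD3_c31)) = (LP (LK LD1_c4 LD2_c34 LD3_c27)) :=
  Lgr Lrot58 (Lpe (K8.f161863 IH) (Lpe (K11.f69260 IH) (Lpr_bt (K11.f202367 IH) (Lpe (K32.f202064 IH) (Lpe (K32.f61841 IH) (Lpr_ct (K5.f94980 IH) (Lpr_gf (K7.f146482 IH) (Lpe (K6.f135845 IH) (Lpe (K6.f146462 IH) (Lpe (K8.f109928 IH) (Lpn (LP (LK LD1_c4 LD2_c34 LD3_c27)))))))))))))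
theorem f161461 : Led Lsl_et (LP (LK LD1_c4 LD2_c38 LD3_c31)) = (LP (LK LD1_c9 LD2_c12 LD3_c55)) :=
  Lre_e IH (LK LD1_c4 LD2_c38 LD3_c31) (LK LD1_c9 LD2_c12 LD3_c55) Lrfl Lrfl
theorem f420485 : Led Lsl_ct (LP (LK LD1_c9 LD2_c12 LD3_c55)) = (LP (LK LD1_c9 LD2_c5 LD3_c53)) :=
  Lgr Lrot15 (Lpe (f161461 IH) (Lpr_cf (f202379 IH) (Lpe (K51.f109949 IH) (Lpn (LP (LK LD1_c9 LD2_c5 LD3_c53))))))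
theorem f420489 : Led Lsl_cf (LP (LK LD1_c9 LD2_c12 LD3_c55)) = (LP (LK LD1_c9 LD2_c5 LD3_c53)) :=
  Lgr Lrot11 (Lpr_ct (f420485 IH) (Lpn (LP (LK LD1_c9 LD2_c5 LD3_c53))))
theorem f425808 : Led Lsl_af (LP (LK LD1_c6 LD2_c2 LD3_c18)) = (LP (LK LD1_c9 LD2_c12 LD3_c55)) :=
  Lgr Lrot68 (Lpr_ct (K51.f82021 IH) (Lpr_at (K51.f425802 IH) (Lpe (f420489 IH) (Lpn (LP (LK LD1_c9 LD2_c12 LD3_c55))))))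
theorem f82020 : Led Lsl_bt (LP (LK LD1_c6 LD2_c2 LD3_c18)) = (LP (LK LD1_c11 LD2_c48 LD3_c58)) :=
  Lre_b IH (LK LD1_c6 LD2_c2 LD3_c18) (LK LD1_c11 LD2_c48 LD3_c58) Lrfl Lrfl
theorem f109952 : Led Lsl_ct (LP (LK LD1_c4 LD2_c34 LD3_c28)) = (LP (LK LD1_c7 LD2_c1 LD3_c36)) :=
  Lgr Lrot59 (Lpr_cf (K6.f109933 IH) (Lpn (LP (LK LD1_c7 LD2_c1 LD3_c36))))
theorem f109955 : Led Lsl_bt (LP (LK LD1_c7 LD2_c1 LD3_c36)) = (LP (LK LD1_c3 LD2_c30 LD3_c0)) :=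
  Lre_b IH (LK LD1_c7 LD2_c1 LD3_c36) (LK LD1_c3 LD2_c30 LD3_c0) Lrfl Lrfl
theorem f130764 : Led Lsl_af (LP (LK LD1_c3 LD2_c1 LD3_c50)) = (LP (LK LD1_c1 LD2_c34 LD3_c42)) :=
  Lgr Lrot117 (Lpr_dt (K3.f96045 IH) (Lpr_at (K7.f130759 IH) (Lpr_dt (K3.f62946 IH) (Lpn (LP (LK LD1_c1 LD2_c34 LD3_c42))))))
theorem f96054 : Led Lsl_et (LP (LK LD1_c3 LD2_c1 LD3_c50)) = (LP (LK LD1_c6 LD2_c10 LD3_c25)) :=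
  Lre_e IH (LK LD1_c3 LD2_c1 LD3_c50) (LK LD1_c6 LD2_c10 LD3_c25) Lrfl Lrfl
theorem f65339 : Led Lsl_et (LP (LK LD1_c3 LD2_c15 LD3_c55)) = (LP (LK LD1_c1 LD2_c34 LD3_c42)) :=
  Lre_e IH (LK LD1_c3 LD2_c15 LD3_c55) (LK LD1_c1 LD2_c34 LD3_c42) Lrfl Lrfl
theorem f130766 : Led Lsl_at (LP (LK LD1_c6 LD2_c10 LD3_c25)) = (LP (LK LD1_c3 LD2_c15 LD3_c55)) :=
  Lgr Lrot80 (Lpe (f96054 IH) (Lpr_af (f130764 IH) (Lpe (f65339 IH) (Lpn (LP (LK LD1_c3 LD2_c15 LD3_c55))))))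
theorem f115651 : Led Lsl_at (LP (LK LD1_c1 LD2_c52 LD3_c29)) = (LP (LK LD1_c3 LD2_c30 LD3_c0)) :=
  Lgr Lrot100 (Lpr_af (K4.f115649 IH) (Lpn (LP (LK LD1_c3 LD2_c30 LD3_c0))))
theorem f130768 : Led Lsl_cf (LP (LK LD1_c6 LD2_c10 LD3_c25)) = (LP (LK LD1_c3 LD2_c30 LD3_c0)) :=
  Lgr Lrot1 (Lpr_at (f130766 IH) (Lpe (K4.f65273 IH) (Lpr_at (f115651 IH) (Lpn (LP (LK LD1_c3 LD2_c30 LD3_c0))))))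
theorem f420487 : Led Lsl_bf (LP (LK LD1_c9 LD2_c12 LD3_c55)) = (LP (LK LD1_c6 LD2_c10 LD3_c25)) :=
  Lgr Lrot90 (Lpr_ct (f420485 IH) (Lpr_bt (K51.f109958 IH) (Lpr_ct (f109952 IH) (Lpr_bt (f109955 IH) (Lpe (f130768 IH) (Lpn (LP (LK LD1_c6 LD2_c10 LD3_c25))))))))
theorem f96055 : Led Lsl_ct (LP (LK LD1_c6 LD2_c10 LD3_c25)) = (LP (LK LD1_c3 LD2_c30 LD3_c0)) :=
  Lgr Lrot15 (Lpe (f96054 IH) (Lpr_cf (K3.f96043 IH) (Lpe (K5.f63813 IH) (Lpn (LP (LK LD1_c3 LD2_c30 LD3_c0))))))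
theorem f115654 : Led Lsl_at (LP (LK LD1_c3 LD2_c15 LD3_c55)) = (LP (LK LD1_c6 LD2_c10 LD3_c25)) :=
  Lgr Lrot107 (Lpe (K6.f65285 IH) (Lpr_af (K4.f115649 IH) (Lpe (f96055 IH) (Lpn (LP (LK LD1_c6 LD2_c10 LD3_c25))))))
theorem f65281 : Led Lsl_bt (LP (LK LD1_c6 LD2_c35 LD3_c3)) = (LP (LK LD1_c3 LD2_c15 LD3_c55)) :=
  Lre_b IH (LK LD1_c6 LD2_c35 LD3_c3) (LK LD1_c3 LD2_c15 LD3_c55) Lrfl Lrfl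
theorem f425812 : Led Lsl_at (LP (LK LD1_c11 LD2_c48 LD3_c58)) = (LP (LK LD1_c6 LD2_c35 LD3_c3)) :=
  Lgr Lrot67 (Lpe (f82020 IH) (Lpr_af (f425808 IH) (Lpr_bf (f420487 IH) (Lpe (f115654 IH) (Lpe (f65281 IH) (Lpn (LP (LK LD1_c6 LD2_c35 LD3_c3))))))))
theorem f65375 : Led Lsl_et (LP (LK LD1_c12 LD2_c36 LD3_c12)) = (LP (LK LD1_c6 LD2_c35 LD3_c2)) :=
  Lre_e IH (LK LD1_c12 LD2_c36 LD3_c12) (LK LD1_c6 LD2_c35 LD3_c2) Lrfl Lrfl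
theorem f141578 : Led Lsl_et (LP (LK LD1_c3 LD2_c17 LD3_c9)) = (LP (LK LD1_c6 LD2_c37 LD3_c37)) :=
  Lre_e IH (LK LD1_c3 LD2_c17 LD3_c9) (LK LD1_c6 LD2_c37 LD3_c37) Lrfl Lrfl
theorem f141579 : Led Lsl_af (LP (LK LD1_c12 LD2_c36 LD3_c12)) = (LP (LK LD1_c6 LD2_c37 LD3_c37)) :=
  Lgr Lrot50 (Lpr_et (f65375 IH) (Lpr_at (K7.f141574 IH) (Lpr_et (f141578 IH) (Lpn (LP (LK LD1_c6 LD2_c37 LD3_c37))))))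
theorem f141581 : Led Lsl_at (LP (LK LD1_c12 LD2_c36 LD3_c12)) = (LP (LK LD1_c6 LD2_c37 LD3_c37)) :=
  Lgr Lrot100 (Lpr_af (f141579 IH) (Lpn (LP (LK LD1_c6 LD2_c37 LD3_c37))))
theorem f425816 : Led Lsl_cf (LP (LK LD1_c11 LD2_c48 LD3_c58)) = (LP (LK LD1_c6 LD2_c37 LD3_c37)) :=
  Lgr Lrot1 (Lpr_at (f425812 IH) (Lpr_ct (K6.f65334 IH) (Lpr_at (f141581 IH) (Lpn (LP (LK LD1_c6 LD2_c37 LD3_c37))))))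
theorem f82024 : Led Lsl_bt (LP (LK LD1_c11 LD2_c48 LD3_c58)) = (LP (LK LD1_c6 LD2_c2 LD3_c18)) :=
  Lre_b IH (LK LD1_c11 LD2_c48 LD3_c58) (LK LD1_c6 LD2_c2 LD3_c18) Lrfl Lrfl
theorem f148855 : Led Lsl_et (LP (LK LD1_c4 LD2_c37 LD3_c49)) = (LP (LK LD1_c9 LD2_c11 LD3_c16)) :=
  Lre_e IH (LK LD1_c4 LD2_c37 LD3_c49) (LK LD1_c9 LD2_c11 LD3_c16) Lrfl Lrfl
theorem f117085 : Led Lsl_et (LP (LK LD1_c6 LD2_c37 LD3_c37)) = (LP (LK LD1_c3 LD2_c17 LD3_c9)) :=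
  Lre_e IH (LK LD1_c6 LD2_c37 LD3_c37) (LK LD1_c3 LD2_c17 LD3_c9) Lrfl Lrfl
theorem f148866 : Led Lsl_bt (LP (LK LD1_c9 LD2_c11 LD3_c16)) = (LP (LK LD1_c6 LD2_c37 LD3_c37)) :=
  Lgr Lrot119 (Lpe (f148855 IH) (Lpr_bf (K7.f148858 IH) (Lpe (f117085 IH) (Lpn (LP (LK LD1_c6 LD2_c37 LD3_c37))))))
theorem f425818 : Led Lsl_ct (LP (LK LD1_c9 LD2_c47 LD3_c24)) = (LP (LK LD1_c9 LD2_c11 LD3_c16)) :=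
  Lgr Lrot83 (Lpr_bf (f82044 IH) (Lpe (K51.f82021 IH) (Lpe (f82024 IH) (Lpr_cf (f425816 IH) (Lpe (f148866 IH) (Lpn (LP (LK LD1_c9 LD2_c11 LD3_c16))))))))
theorem f425820 : Led Lsl_cf (LP (LK LD1_c9 LD2_c47 LD3_c24)) = (LP (LK LD1_c9 LD2_c11 LD3_c16)) :=
  Lgr Lrot11 (Lpr_ct (f425818 IH) (Lpn (LP (LK LD1_c9 LD2_c11 LD3_c16))))
theorem f642382 : Led Lsl_ct (LP (LK LD1_c9 LD2_c10 LD3_c60)) = (LP (LK LD1_c17 LD2_c4 LD3_c24)) :=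
  Lre_c IH (LK LD1_c9 LD2_c10 LD3_c60) (LK LD1_c17 LD2_c4 LD3_c24) Lrfl Lrfl
theorem f501010 : Led Lsl_gt (LP (LK LD1_c4 LD2_c38 LD3_c14)) = (LP (LK LD1_c9 LD2_c10 LD3_c60)) :=
  Lre_g IH (LK LD1_c4 LD2_c38 LD3_c14) (LK LD1_c9 LD2_c10 LD3_c60) Lrfl Lrfl
theorem f415974 : Led Lsl_bt (LP (LK LD1_c3 LD2_c18 LD3_c18)) = (LP (LK LD1_c4 LD2_c38 LD3_c14)) :=
  Lre_b IH (LK LD1_c3 LD2_c18 LD3_c18) (LK LD1_c4 LD2_c38 LD3_c14) Lrfl Lrfl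
theorem f415975 : Led Lsl_ct (LP (LK LD1_c3 LD2_c18 LD3_c18)) = (LP (LK LD1_c1 LD2_c35 LD3_c46)) :=
  Lre_c IH (LK LD1_c3 LD2_c18 LD3_c18) (LK LD1_c1 LD2_c35 LD3_c46) Lrfl Lrfl
theorem f62065 : Led Lsl_gt (LP (LK LD1_c3 LD2_c15 LD3_c9)) = (LP (LK LD1_c1 LD2_c35 LD3_c46)) :=
  Lre_g IH (LK LD1_c3 LD2_c15 LD3_c9) (LK LD1_c1 LD2_c35 LD3_c46) Lrfl Lrfl
theorem f62066 : Led Lsl_ct (LP (LK LD1_c6 LD2_c33 LD3_c44)) = (LP (LK LD1_c3 LD2_c15 LD3_c9)) :=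
  Lre_c IH (LK LD1_c6 LD2_c33 LD3_c44) (LK LD1_c3 LD2_c15 LD3_c9) Lrfl Lrfl
theorem f650127 : Led Lsl_bt (LP (LK LD1_c6 LD2_c33 LD3_c44)) = (LP (LK LD1_c12 LD2_c34 LD3_c25)) :=
  Lre_b IH (LK LD1_c6 LD2_c33 LD3_c44) (LK LD1_c12 LD2_c34 LD3_c25) Lrfl Lrfl
theorem f712635 : Led Lsl_gt (LP (LK LD1_c6 LD2_c37 LD3_c37)) = (LP (LK LD1_c12 LD2_c34 LD3_c25)) :=
  Lgr Lrot164 (Lpe (f148866 IH) (Lpe (f425820 IH) (Lpr_gf (f710554 IH) (Lpe (f642382 IH) (Lpe (f501010 IH) (Lpe (f415974 IH) (Lpr_ct (f415975 IH) (Lpe (f62065 IH) (Lpe (f62066 IH) (Lpr_bt (f650127 IH) (Lpn (LP (LK LD1_c12 LD2_c34 LD3_c25)))))))))))))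
theorem f149743 : Led Lsl_et (LP (LK LD1_c6 LD2_c2 LD3_c17)) = (LP (LK LD1_c11 LD2_c48 LD3_c58)) :=
  Lre_e IH (LK LD1_c6 LD2_c2 LD3_c17) (LK LD1_c11 LD2_c48 LD3_c58) Lrfl Lrfl
theorem f149756 : Led Lsl_ct (LP (LK LD1_c11 LD2_c48 LD3_c58)) = (LP (LK LD1_c6 LD2_c37 LD3_c37)) :=
  Lgr Lrot15 (Lpe (f149743 IH) (Lpr_cf (K7.f149752 IH) (Lpe (f117085 IH) (Lpn (LP (LK LD1_c6 LD2_c37 LD3_c37))))))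
def v8063 : LQ := Led Lsl_gf K51.v1728
theorem f669818 : Led Lsl_gf K51.v1728 = v8063 :=
  Lrfl
theorem f707754 : K51.v4313 = v8063 :=
  Lefun (Lecon (K51.f632606 IH) (K51.f707752 IH)) (f669818 IH)
def v13326 : LQ := Led Lsl_ft (LP (LK LD1_c4 LD2_c43 LD3_c9))
theorem f702348 : Led Lsl_ft (LP (LK LD1_c4 LD2_c43 LD3_c9)) = v13326 :=
  Lrfl
theorem f126978 : Led Lsl_ct (LP (LK LD1_c2 LD2_c19 LD3_c15)) = (LP (LK LD1_c4 LD2_c43 LD3_c9)) :=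
  Lre_c IH (LK LD1_c2 LD2_c19 LD3_c15) (LK LD1_c4 LD2_c43 LD3_c9) Lrfl Lrfl
theorem f702350 : Led Lsl_cf K51.v4313 = v13326 :=
  Lgr Lrot108 (Lpe (K51.f632602 IH) (Lpr_ct (f126978 IH) (Lpr_ft (f702348 IH) (Lpn v13326))))
theorem f702352 : Led Lsl_ff (LP (LK LD1_c4 LD2_c43 LD3_c9)) = v13326 :=
  Lgr Lrot3 (Lpr_ft (f702348 IH) (Lpn v13326))
theorem f136070 : Led Lsl_af (LP (LK LD1_c3 LD2_c7 LD3_c29)) = (LP (LK LD1_c4 LD2_c43 LD3_c9)) :=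
  Lgr Lrot0 (Lpr_at (K51.f136068 IH) (Lpn (LP (LK LD1_c4 LD2_c43 LD3_c9))))
theorem f702354 : Led Lsl_at K51.v5407 = v13326 :=
  Lgr Lrot66 (Lpe (K51.f647502 IH) (Lpr_af (f136070 IH) (Lpr_ff (f702352 IH) (Lpn v13326))))
theorem f104246 : Led Lsl_gt (LP (LK LD1_c3 LD2_c7 LD3_c29)) = (LP (LK LD1_c6 LD2_c19 LD3_c52)) :=
  Lre_g IH (LK LD1_c3 LD2_c7 LD3_c29) (LK LD1_c6 LD2_c19 LD3_c52) Lrfl Lrfl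
theorem f702358 : Led Lsl_gt (LP (LK LD1_c6 LD2_c19 LD3_c52)) = v13326 :=
  Lgr Lrot46 (Lpe (f104246 IH) (Lpr_ft (K51.f647502 IH) (Lpr_at (f702354 IH) (Lpn v13326))))
theorem f104248 : Led Lsl_bt (LP (LK LD1_c12 LD2_c14 LD3_c34)) = (LP (LK LD1_c6 LD2_c19 LD3_c52)) :=
  Lre_b IH (LK LD1_c12 LD2_c14 LD3_c34) (LK LD1_c6 LD2_c19 LD3_c52) Lrfl Lrfl
theorem f712644 : Led Lsl_ct (LP (LK LD1_c12 LD2_c14 LD3_c34)) = (LP (LK LD1_c12 LD2_c34 LD3_c25)) :=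
  Lgr Lrot10 (Lpr_bt (f104248 IH) (Lpr_gt (f702358 IH) (Lpe (f702350 IH) (Lpqs (f707754 IH) (Lpe (f669818 IH) (Lpr_cf (f645977 IH) (Lpe (f645976 IH) (Lpr_gt (f645973 IH) (Lpq (f710560 IH) (Lpe (f82024 IH) (Lpr_ct (f149756 IH) (Lpr_gt (f712635 IH) (Lpn (LP (LK LD1_c12 LD2_c34 LD3_c25)))))))))))))))
theorem f712645 : Led Lsl_ct (LP (LK LD1_c12 LD2_c14 LD3_c34)) = (LP (LK LD1_c12 LD2_c34 LD3_c25)) :=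
  Leop (Lpe (f712644 IH) (Lpn (LP (LK LD1_c12 LD2_c14 LD3_c34))))
theorem seed_761 : LEOK LG_c (LK LD1_c12 LD2_c14 LD3_c34) :=
  Leoe_c (LK LD1_c12 LD2_c14 LD3_c34) (f712645 IH)
theorem f136309 : Led Lsl_et (LP (LK LD1_c1 LD2_c21 LD3_c9)) = (LP (LK LD1_c2 LD2_c50 LD3_c13)) :=
  Lre_e IH (LK LD1_c1 LD2_c21 LD3_c9) (LK LD1_c2 LD2_c50 LD3_c13) Lrfl Lrfl
theorem f436238 : Led Lsl_gt (LP (LK LD1_c9 LD2_c6 LD3_c18)) = (LP (LK LD1_c4 LD2_c34 LD3_c50)) :=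
  Lre_g IH (LK LD1_c9 LD2_c6 LD3_c18) (LK LD1_c4 LD2_c34 LD3_c50) Lrfl Lrfl
theorem f151741 : Led Lsl_et (LP (LK LD1_c16 LD2_c58 LD3_c2)) = (LP (LK LD1_c9 LD2_c6 LD3_c18)) :=
  Lre_e IH (LK LD1_c16 LD2_c58 LD3_c2) (LK LD1_c9 LD2_c6 LD3_c18) Lrfl Lrfl
theorem f713010 : Led Lsl_dt (LP (LK LD1_c16 LD2_c58 LD3_c2)) = (LP (LK LD1_c15 LD2_c5 LD3_c38)) :=
  Lgr Lrot56 (Lpr_et (f151741 IH) (Lpr_gt (f436238 IH) (Lpe (K7.f151657 IH) (Lpr_dt (K7.f20374 IH) (Lpr_gt (K7.f151713 IH) (Lpr_df (K50.f135920 IH) (Lpr_et (f136309 IH) (Lpr_gt (K51.f640508 IH) (Lpqs (f710497 IH) (Lpr_dt (K51.f79910 IH) (Lpr_gt (K49.f415585 IH) (Lpn (LP (LK LD1_c15 LD2_c5 LD3_c38))))))))))))))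
theorem f713014 : Led Lsl_df (LP (LK LD1_c16 LD2_c58 LD3_c2)) = (LP (LK LD1_c15 LD2_c5 LD3_c38)) :=
  Lgr Lrot38 (Lpr_dt (f713010 IH) (Lpn (LP (LK LD1_c15 LD2_c5 LD3_c38))))
theorem f82890 : Led Lsl_ct (LP (LK LD1_c1 LD2_c23 LD3_c17)) = (LP (LK LD1_c2 LD2_c54 LD3_c42)) :=
  Lre_c IH (LK LD1_c1 LD2_c23 LD3_c17) (LK LD1_c2 LD2_c54 LD3_c42) Lrfl Lrfl
theorem f82989 : Led Lsl_gt (LP (LK LD1_c5 LD2_c56 LD3_c47)) = (LP (LK LD1_c2 LD2_c54 LD3_c42)) :=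
  Lre_g IH (LK LD1_c5 LD2_c56 LD3_c47) (LK LD1_c2 LD2_c54 LD3_c42) Lrfl Lrfl
theorem f443019 : Led Lsl_ct (LP (LK LD1_c11 LD2_c38 LD3_c51)) = (LP (LK LD1_c5 LD2_c56 LD3_c47)) :=
  Lre_c IH (LK LD1_c11 LD2_c38 LD3_c51) (LK LD1_c5 LD2_c56 LD3_c47) Lrfl Lrfl
theorem f443020 : Led Lsl_bt (LP (LK LD1_c11 LD2_c38 LD3_c51)) = (LP (LK LD1_c9 LD2_c6 LD3_c18)) :=
  Lgr Lrot92 (Lpr_ct (f443019 IH) (Lpr_gt (f82989 IH) (Lpe (f82890 IH) (Lpr_bt (K4.f71332 IH) (Lpr_gt (K32.f82898 IH) (Lpr_ct (K35.f442869 IH) (Lpe (K24.f151942 IH) (Lpr_cf (K48.f25238 IH) (Lpr_bt (K24.f25236 IH) (Lpr_gt (K48.f25242 IH) (Lpn (LP (LK LD1_c9 LD2_c6 LD3_c18)))))))))))))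
theorem f443026 : Led Lsl_et (LP (LK LD1_c20 LD2_c38 LD3_c8)) = (LP (LK LD1_c11 LD2_c38 LD3_c51)) :=
  Lre_e IH (LK LD1_c20 LD2_c38 LD3_c8) (LK LD1_c11 LD2_c38 LD3_c51) Lrfl Lrfl
theorem f443027 : Led Lsl_et (LP (LK LD1_c9 LD2_c6 LD3_c18)) = (LP (LK LD1_c16 LD2_c58 LD3_c2)) :=
  Lre_e IH (LK LD1_c9 LD2_c6 LD3_c18) (LK LD1_c16 LD2_c58 LD3_c2) Lrfl Lrfl
theorem f443028 : Led Lsl_bf (LP (LK LD1_c20 LD2_c38 LD3_c8)) = (LP (LK LD1_c16 LD2_c58 LD3_c2)) :=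
  Lgr Lrot96 (Lpr_et (f443026 IH) (Lpr_bt (f443020 IH) (Lpr_et (f443027 IH) (Lpn (LP (LK LD1_c16 LD2_c58 LD3_c2))))))
theorem f713016 : Led Lsl_dt (LP (LK LD1_c20 LD2_c38 LD3_c8)) = (LP (LK LD1_c20 LD2_c52 LD3_c32)) :=
  Lgr Lrot79 (Lpr_bf (f443028 IH) (Lpr_df (f713014 IH) (Lpe (K49.f689265 IH) (Lpn (LP (LK LD1_c20 LD2_c52 LD3_c32))))))
theorem f642910 : Led Lsl_ft (LP (LK LD1_c11 LD2_c42 LD3_c17)) = (LP (LK LD1_c20 LD2_c28 LD3_c39)) :=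
  Lgr Lrot48 (Lpr_ff (K42.f642542 IH) (Lpn (LP (LK LD1_c20 LD2_c28 LD3_c39))))
theorem f642912 : Led Lsl_af (LP (LK LD1_c20 LD2_c49 LD3_c47)) = (LP (LK LD1_c20 LD2_c28 LD3_c39)) :=
  Lgr Lrot45 (Lpr_ft (K50.f539559 IH) (Lpe (K50.f539557 IH) (Lpr_ft (f642910 IH) (Lpn (LP (LK LD1_c20 LD2_c28 LD3_c39))))))
theorem f643582 : Led Lsl_gf (LP (LK LD1_c20 LD2_c49 LD3_c47)) = (LP (LK LD1_c16 LD2_c59 LD3_c4)) :=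
  Lgr Lrot76 (Lpr_af (f642912 IH) (Lpe (f642910 IH) (Lpr_gt (f643580 IH) (Lpn (LP (LK LD1_c16 LD2_c59 LD3_c4))))))
theorem f539484 : Led Lsl_bf (LP (LK LD1_c20 LD2_c41 LD3_c41)) = (LP (LK LD1_c11 LD2_c47 LD3_c37)) :=
  Lgr Lrot93 (Lpr_dt (f425974 IH) (Lpr_bt (K24.f425983 IH) (Lpr_dt (K45.f539481 IH) (Lpn (LP (LK LD1_c11 LD2_c47 LD3_c37))))))
theorem f140758 : Led Lsl_bt (LP (LK LD1_c4 LD2_c34 LD3_c56)) = (LP (LK LD1_c2 LD2_c14 LD3_c37)) :=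
  Lre_b IH (LK LD1_c4 LD2_c34 LD3_c56) (LK LD1_c2 LD2_c14 LD3_c37) Lrfl Lrfl
theorem f631778 : Led Lsl_ct (LP (LK LD1_c4 LD2_c34 LD3_c56)) = (LP (LK LD1_c9 LD2_c6 LD3_c37)) :=
  Lre_c IH (LK LD1_c4 LD2_c34 LD3_c56) (LK LD1_c9 LD2_c6 LD3_c37) Lrfl Lrfl
theorem f599863 : Led Lsl_gt (LP (LK LD1_c16 LD2_c58 LD3_c38)) = (LP (LK LD1_c9 LD2_c6 LD3_c37)) :=
  Lre_g IH (LK LD1_c16 LD2_c58 LD3_c38) (LK LD1_c9 LD2_c6 LD3_c37) Lrfl Lrfl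
theorem f643686 : Led Lsl_ct (LP (LK LD1_c11 LD2_c41 LD3_c58)) = (LP (LK LD1_c16 LD2_c58 LD3_c38)) :=
  Lgr Lrot91 (Lpe (f425978 IH) (Lpr_bf (f539484 IH) (Lpr_ct (K50.f539464 IH) (Lpr_gf (f643582 IH) (Lpe (f140792 IH) (Lpr_bt (K32.f140752 IH) (Lpe (K32.f73208 IH) (Lpe (f140758 IH) (Lpr_ct (f631778 IH) (Lpe (f599863 IH) (Lpn (LP (LK LD1_c16 LD2_c58 LD3_c38)))))))))))))
theorem f425987 : Led Lsl_gt (LP (LK LD1_c11 LD2_c41 LD3_c41)) = (LP (LK LD1_c5 LD2_c58 LD3_c43)) :=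
  Lre_g IH (LK LD1_c11 LD2_c41 LD3_c41) (LK LD1_c5 LD2_c58 LD3_c43) Lrfl Lrfl
theorem f140759 : Led Lsl_ct (LP (LK LD1_c9 LD2_c6 LD3_c37)) = (LP (LK LD1_c4 LD2_c34 LD3_c56)) :=
  Lre_c IH (LK LD1_c9 LD2_c6 LD3_c37) (LK LD1_c4 LD2_c34 LD3_c56) Lrfl Lrfl
theorem f25216 : Led Lsl_ct (LP (LK LD1_c4 LD2_c34 LD3_c53)) = (LP (LK LD1_c2 LD2_c14 LD3_c33)) :=
  Lre_c IH (LK LD1_c4 LD2_c34 LD3_c53) (LK LD1_c2 LD2_c14 LD3_c33) Lrfl Lrfl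
theorem f25388 : Led Lsl_gt (LP (LK LD1_c9 LD2_c6 LD3_c24)) = (LP (LK LD1_c4 LD2_c34 LD3_c53)) :=
  Lre_g IH (LK LD1_c9 LD2_c6 LD3_c24) (LK LD1_c4 LD2_c34 LD3_c53) Lrfl Lrfl
theorem f643691 : Led Lsl_ct (LP (LK LD1_c5 LD2_c58 LD3_c43)) = (LP (LK LD1_c9 LD2_c6 LD3_c24)) :=
  Lgr Lrot152 (Lpe (f425987 IH) (Lpe (f425974 IH) (Lpr_gt (f425978 IH) (Lpr_ct (f643686 IH) (Lpr_gt (f599863 IH) (Lpr_ct (f140759 IH) (Lpe (f100342 IH) (Lpe (f25216 IH) (Lpe (f25388 IH) (Lpn (LP (LK LD1_c9 LD2_c6 LD3_c24))))))))))))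
theorem f446248 : Led Lsl_gt (LP (LK LD1_c6 LD2_c29 LD3_c54)) = (LP (LK LD1_c12 LD2_c29 LD3_c29)) :=
  Lre_g IH (LK LD1_c6 LD2_c29 LD3_c54) (LK LD1_c12 LD2_c29 LD3_c29) Lrfl Lrfl
theorem f643705 : Led Lsl_ct (LP (LK LD1_c11 LD2_c40 LD3_c46)) = (LP (LK LD1_c12 LD2_c29 LD3_c29)) :=
  Lgr Lrot10 (Lpe (K40.f425972 IH) (Lpr_gt (f425987 IH) (Lpr_ct (f643691 IH) (Lpr_gt (f25388 IH) (Lpe (K8.f25251 IH) (Lpr_bt (K45.f25215 IH) (Lpr_gt (K41.f446235 IH) (Lpe (K41.f446246 IH) (Lpr_ct (K41.f446247 IH) (Lpr_gt (f446248 IH) (Lpn (LP (LK LD1_c12 LD2_c29 LD3_c29)))))))))))))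
theorem f643709 : Led Lsl_ff (LP (LK LD1_c11 LD2_c30 LD3_c31)) = (LP (LK LD1_c12 LD2_c29 LD3_c29)) :=
  Lgr Lrot23 (Lpe (K45.f427051 IH) (Lpr_ft (K45.f426024 IH) (Lpr_ct (f643705 IH) (Lpn (LP (LK LD1_c12 LD2_c29 LD3_c29))))))
theorem f643715 : Led Lsl_gf (LP (LK LD1_c9 LD2_c48 LD3_c34)) = (LP (LK LD1_c12 LD2_c29 LD3_c29)) :=
  Lgr Lrot47 (Lpr_gt (K41.f427041 IH) (Lpr_af (K42.f426926 IH) (Lpr_ff (f643709 IH) (Lpn (LP (LK LD1_c12 LD2_c29 LD3_c29))))))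
theorem f426809 : Led Lsl_bt (LP (LK LD1_c11 LD2_c41 LD3_c52)) = (LP (LK LD1_c5 LD2_c58 LD3_c42)) :=
  Lre_b IH (LK LD1_c11 LD2_c41 LD3_c52) (LK LD1_c5 LD2_c58 LD3_c42) Lrfl Lrfl
theorem f112511 : Led Lsl_ct (LP (LK LD1_c3 LD2_c59 LD3_c35)) = (LP (LK LD1_c8 LD2_c0 LD3_c16)) :=
  Lre_c IH (LK LD1_c3 LD2_c59 LD3_c35) (LK LD1_c8 LD2_c0 LD3_c16) Lrfl Lrfl
theorem f208407 : Led Lsl_gt (LP (LK LD1_c8 LD2_c0 LD3_c16)) = (LP (LK LD1_c15 LD2_c4 LD3_c56)) :=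
  Lre_g IH (LK LD1_c8 LD2_c0 LD3_c16) (LK LD1_c15 LD2_c4 LD3_c56) Lrfl Lrfl
theorem f711235 : Led Lsl_ct (LP (LK LD1_c11 LD2_c41 LD3_c52)) = (LP (LK LD1_c15 LD2_c4 LD3_c56)) :=
  Lgr Lrot63 (Lpr_bt (f426809 IH) (Lpr_gt (f425990 IH) (Lpr_bf (K40.f425972 IH) (Lpr_ct (f643705 IH) (Lpe (f643715 IH) (Lpe (K41.f428360 IH) (Lpq (K41.f642213 IH) (Lpe (K41.f640881 IH) (Lpr_gt (f640862 IH) (Lpqs (f711180 IH) (Lpr_ct (f112511 IH) (Lpr_gt (f208407 IH) (Lpn (LP (LK LD1_c15 LD2_c4 LD3_c56)))))))))))))))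
theorem f426765 : Led Lsl_ft (LP (LK LD1_c14 LD2_c30 LD3_c60)) = (LP (LK LD1_c7 LD2_c42 LD3_c9)) :=
  Lre_f IH (LK LD1_c14 LD2_c30 LD3_c60) (LK LD1_c7 LD2_c42 LD3_c9) Lrfl Lrfl
theorem f426827 : Led Lsl_gt (LP (LK LD1_c14 LD2_c30 LD3_c60)) = (LP (LK LD1_c11 LD2_c41 LD3_c49)) :=
  Lgr Lrot5 (Lpr_ft (f426765 IH) (Lpr_at (K36.f426740 IH) (Lpe (K48.f426826 IH) (Lpn (LP (LK LD1_c11 LD2_c41 LD3_c49))))))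
theorem f443022 : Led Lsl_bf (LP (LK LD1_c11 LD2_c38 LD3_c51)) = (LP (LK LD1_c9 LD2_c6 LD3_c18)) :=
  Lgr Lrot24 (Lpr_bt (f443020 IH) (Lpn (LP (LK LD1_c9 LD2_c6 LD3_c18))))
theorem f112504 : Led Lsl_bt (LP (LK LD1_c3 LD2_c59 LD3_c35)) = (LP (LK LD1_c8 LD2_c0 LD3_c7)) :=
  Lre_b IH (LK LD1_c3 LD2_c59 LD3_c35) (LK LD1_c8 LD2_c0 LD3_c7) Lrfl Lrfl
theorem f711239 : Led Lsl_gt (LP (LK LD1_c11 LD2_c38 LD3_c51)) = (LP (LK LD1_c8 LD2_c0 LD3_c7)) :=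
  Lgr Lrot164 (Lpr_bf (f443022 IH) (Lpe (K48.f645089 IH) (Lpe (f426827 IH) (Lpr_cf (f426778 IH) (Lpe (f425990 IH) (Lpe (f426809 IH) (Lpr_ct (f711235 IH) (Lpe (f208407 IH) (Lpe (f112511 IH) (Lpr_bt (f112504 IH) (Lpn (LP (LK LD1_c8 LD2_c0 LD3_c7)))))))))))))
theorem f645873 : Led Lsl_dt (LP (LK LD1_c11 LD2_c46 LD3_c14)) = (LP (LK LD1_c20 LD2_c47 LD3_c59)) :=
  Lre_d IH (LK LD1_c11 LD2_c46 LD3_c14) (LK LD1_c20 LD2_c47 LD3_c59) Lrfl Lrfl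
theorem f713018 : Led Lsl_gt (LP (LK LD1_c11 LD2_c37 LD3_c12)) = (LP (LK LD1_c11 LD2_c46 LD3_c14)) :=
  Lgr Lrot137 (Lpe (K51.f82013 IH) (Lpr_dt (K6.f81999 IH) (Lpr_gf (K8.f158435 IH) (Lpe (K8.f37761 IH) (Lpr_et (f112499 IH) (Lpe (f711239 IH) (Lpe (f443026 IH) (Lpr_dt (f713016 IH) (Lpe (K41.f501070 IH) (Lpe (f645873 IH) (Lpn (LP (LK LD1_c11 LD2_c46 LD3_c14)))))))))))))
theorem f82046 : Led Lsl_bt (LP (LK LD1_c9 LD2_c47 LD3_c24)) = (LP (LK LD1_c11 LD2_c37 LD3_c12)) :=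
  Lgr Lrot127 (Lpr_bf (f82044 IH) (Lpn (LP (LK LD1_c11 LD2_c37 LD3_c12))))
theorem f415587 : Led Lsl_bt (LP (LK LD1_c6 LD2_c0 LD3_c53)) = (LP (LK LD1_c11 LD2_c46 LD3_c14)) :=
  Lre_b IH (LK LD1_c6 LD2_c0 LD3_c53) (LK LD1_c11 LD2_c46 LD3_c14) Lrfl Lrfl
theorem f75296 : Led Lsl_gt (LP (LK LD1_c2 LD2_c56 LD3_c42)) = (LP (LK LD1_c5 LD2_c59 LD3_c26)) :=
  Lre_g IH (LK LD1_c2 LD2_c56 LD3_c42) (LK LD1_c5 LD2_c59 LD3_c26) Lrfl Lrfl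
theorem f140233 : Led Lsl_bt (LP (LK LD1_c2 LD2_c56 LD3_c7)) = (LP (LK LD1_c4 LD2_c37 LD3_c45)) :=
  Lre_b IH (LK LD1_c2 LD2_c56 LD3_c7) (LK LD1_c4 LD2_c37 LD3_c45) Lrfl Lrfl
def v13035 : LQ := Led Lsl_gf (LP (LK LD1_c4 LD2_c38 LD3_c16))
theorem f700639 : Led Lsl_gf (LP (LK LD1_c4 LD2_c38 LD3_c16)) = v13035 :=
  Lrfl
theorem f700654 : Led Lsl_gt (LP (LK LD1_c4 LD2_c38 LD3_c20)) = v13035 :=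
  Lgr Lrot5 (Lpr_ft (K50.f700649 IH) (Lpe (K50.f700646 IH) (Lpr_gf (f700639 IH) (Lpn v13035))))
theorem f713020 : (LP (LK LD1_c9 LD2_c11 LD3_c16)) = v13035 :=
  (Llr Lrot63 (Lpe (f425818 IH) (Lpr_bt (f82046 IH) (Lpr_gt (f713018 IH) (Lpe (f415587 IH) (Lpr_ct (K41.f414691 IH) (Lpr_gt (f75296 IH) (Lpe (K9.f140184 IH) (Lpr_bt (f140233 IH) (Lpr_gt (K45.f552465 IH) (Lpr_ct (K50.f631952 IH) (Lpr_gt (f700654 IH) (Lpn v13035))))))))))))).symm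
theorem f713021 : Led Lsl_gt (LP (LK LD1_c9 LD2_c11 LD3_c16)) = (LP (LK LD1_c4 LD2_c38 LD3_c16)) :=
  Leop (Lpr_gf (f700639 IH) (Lpq (f713020 IH) (Lpn (LP (LK LD1_c9 LD2_c11 LD3_c16)))))
theorem seed_762 : LEOK LG_g (LK LD1_c9 LD2_c11 LD3_c16) :=
  Leoe_g (LK LD1_c9 LD2_c11 LD3_c16) (f713021 IH)
theorem f545003 : Led Lsl_dt (LP (LK LD1_c2 LD2_c51 LD3_c52)) = (LP (LK LD1_c5 LD2_c7 LD3_c57)) :=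
  Lgr Lrot42 (Lpr_df (K38.f544993 IH) (Lpn (LP (LK LD1_c5 LD2_c7 LD3_c57))))
theorem f79906 : Led Lsl_et (LP (LK LD1_c8 LD2_c0 LD3_c55)) = (LP (LK LD1_c3 LD2_c59 LD3_c53)) :=
  Lre_e IH (LK LD1_c8 LD2_c0 LD3_c55) (LK LD1_c3 LD2_c59 LD3_c53) Lrfl Lrfl
theorem f55803 : Led Lsl_bt (LP (LK LD1_c8 LD2_c14 LD3_c59)) = (LP (LK LD1_c4 LD2_c7 LD3_c26)) :=
  Lre_b IH (LK LD1_c8 LD2_c14 LD3_c59) (LK LD1_c4 LD2_c7 LD3_c26) Lrfl Lrfl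
theorem f79897 : Led Lsl_bt (LP (LK LD1_c3 LD2_c59 LD3_c55)) = (LP (LK LD1_c8 LD2_c0 LD3_c55)) :=
  Lre_b IH (LK LD1_c3 LD2_c59 LD3_c55) (LK LD1_c8 LD2_c0 LD3_c55) Lrfl Lrfl
theorem f79898 : Led Lsl_df (LP (LK LD1_c8 LD2_c14 LD3_c59)) = (LP (LK LD1_c8 LD2_c0 LD3_c55)) :=
  Lgr Lrot12 (Lpr_bt (f55803 IH) (Lpr_dt (K32.f79894 IH) (Lpr_bt (f79897 IH) (Lpn (LP (LK LD1_c8 LD2_c0 LD3_c55))))))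
theorem f713008 : Led Lsl_gf (LP (LK LD1_c5 LD2_c7 LD3_c57)) = (LP (LK LD1_c8 LD2_c14 LD3_c59)) :=
  Lgr Lrot145 (Lpe (f545003 IH) (Lpr_et (K38.f22312 IH) (Lpr_gt (K11.f206001 IH) (Lpr_dt (K7.f20374 IH) (Lpr_gt (K7.f151713 IH) (Lpr_df (K50.f135920 IH) (Lpr_et (f136309 IH) (Lpr_gt (K51.f640508 IH) (Lpqs (f710497 IH) (Lpe (f79906 IH) (Lpe (f79898 IH) (Lpn (LP (LK LD1_c8 LD2_c14 LD3_c59))))))))))))))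
theorem f544997 : Led Lsl_bt (LP (LK LD1_c10 LD2_c6 LD3_c13)) = (LP (LK LD1_c5 LD2_c7 LD3_c57)) :=
  Lre_b IH (LK LD1_c10 LD2_c6 LD3_c13) (LK LD1_c5 LD2_c7 LD3_c57) Lrfl Lrfl
theorem f545103 : Led Lsl_ct (LP (LK LD1_c10 LD2_c6 LD3_c13)) = (LP (LK LD1_c18 LD2_c25 LD3_c13)) :=
  Lre_c IH (LK LD1_c10 LD2_c6 LD3_c13) (LK LD1_c18 LD2_c25 LD3_c13) Lrfl Lrfl
theorem f79890 : Led Lsl_bt (LP (LK LD1_c4 LD2_c7 LD3_c26)) = (LP (LK LD1_c8 LD2_c14 LD3_c59)) :=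
  Lre_b IH (LK LD1_c4 LD2_c7 LD3_c26) (LK LD1_c8 LD2_c14 LD3_c59) Lrfl Lrfl
def v12378 : LQ := Led Lsl_ct (LP (LK LD1_c4 LD2_c7 LD3_c26))
theorem f691801 : Led Lsl_ct (LP (LK LD1_c4 LD2_c7 LD3_c26)) = v12378 :=
  Lrfl
theorem f438599 : Led Lsl_cf (LP (LK LD1_c1 LD2_c27 LD3_c29)) = (LP (LK LD1_c2 LD2_c52 LD3_c3)) :=
  Lgr Lrot14 (Lpe (K32.f23289 IH) (Lpe (K32.f146100 IH) (Lpe (K32.f20103 IH) (Lpr_gf (K32.f135509 IH) (Lpr_ct (K32.f415650 IH) (Lpe (K35.f438597 IH) (Lpr_dt (K31.f79846 IH) (Lpr_gt (K35.f438595 IH) (Lpr_dt (K32.f73625 IH) (Lpn (LP (LK LD1_c2 LD2_c52 LD3_c3))))))))))))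
theorem f691805 : Led Lsl_gf (LP (LK LD1_c4 LD2_c39 LD3_c52)) = v12378 :=
  Lgr Lrot104 (Lpr_ct (K1.f23890 IH) (Lpe (K0.f22477 IH) (Lpe (K35.f20112 IH) (Lpe (K32.f20961 IH) (Lpr_cf (f438599 IH) (Lpr_gf (K32.f73620 IH) (Lpe (K2.f73205 IH) (Lpr_gt (K32.f55799 IH) (Lpr_ct (f691801 IH) (Lpn v12378))))))))))
theorem f646329 : Led Lsl_at (LP (LK LD1_c3 LD2_c0 LD3_c24)) = (LP (LK LD1_c4 LD2_c39 LD3_c52)) :=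
  Lre_a IH (LK LD1_c3 LD2_c0 LD3_c24) (LK LD1_c4 LD2_c39 LD3_c52) Lrfl Lrfl
theorem f691806 : Led Lsl_gt (LP (LK LD1_c6 LD2_c8 LD3_c25)) = v12378 :=
  Lgr Lrot5 (Lpr_ft (K0.f9058 IH) (Lpr_at (f646329 IH) (Lpr_gf (f691805 IH) (Lpn v12378))))
theorem f58582 : Led Lsl_bt (LP (LK LD1_c9 LD2_c15 LD3_c17)) = (LP (LK LD1_c4 LD2_c39 LD3_c53)) :=
  Lre_b IH (LK LD1_c9 LD2_c15 LD3_c17) (LK LD1_c4 LD2_c39 LD3_c53) Lrfl Lrfl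
theorem f645399 : Led Lsl_ct (LP (LK LD1_c9 LD2_c15 LD3_c17)) = (LP (LK LD1_c17 LD2_c9 LD3_c49)) :=
  Lre_c IH (LK LD1_c9 LD2_c15 LD3_c17) (LK LD1_c17 LD2_c9 LD3_c49) Lrfl Lrfl
theorem f713686 : Led Lsl_gt (LP (LK LD1_c18 LD2_c25 LD3_c13)) = (LP (LK LD1_c17 LD2_c9 LD3_c49)) :=
  Lgr Lrot65 (Lpe (f545103 IH) (Lpr_bt (f544997 IH) (Lpr_gf (f713008 IH) (Lpe (f79890 IH) (Lpr_ct (f691801 IH) (Lpe (f691806 IH) (Lpe (K0.f9122 IH) (Lpe (K46.f58581 IH) (Lpe (f58582 IH) (Lpr_ct (f645399 IH) (Lpn (LP (LK LD1_c17 LD2_c9 LD3_c49)))))))))))))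
theorem f713687 : Led Lsl_gt (LP (LK LD1_c18 LD2_c25 LD3_c13)) = (LP (LK LD1_c17 LD2_c9 LD3_c49)) :=
  Leop (Lpe (f713686 IH) (Lpn (LP (LK LD1_c18 LD2_c25 LD3_c13))))
theorem seed_763 : LEOK LG_g (LK LD1_c18 LD2_c25 LD3_c13) :=
  Leoe_g (LK LD1_c18 LD2_c25 LD3_c13) (f713687 IH)
theorem f706456 : Led Lsl_ft (LP (LK LD1_c11 LD2_c38 LD3_c23)) = (LP (LK LD1_c12 LD2_c23 LD3_c31)) :=
  Lgr Lrot48 (Lpr_ff (f706450 IH) (Lpn (LP (LK LD1_c12 LD2_c23 LD3_c31))))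
theorem f706432 : Led Lsl_at (LP (LK LD1_c6 LD2_c12 LD3_c1)) = (LP (LK LD1_c11 LD2_c38 LD3_c23)) :=
  Lgr Lrot100 (Lpr_af (f706430 IH) (Lpn (LP (LK LD1_c11 LD2_c38 LD3_c23))))
theorem f61051 : Led Lsl_ct (LP (LK LD1_c4 LD2_c40 LD3_c57)) = (LP (LK LD1_c9 LD2_c17 LD3_c21)) :=
  Lre_c IH (LK LD1_c4 LD2_c40 LD3_c57) (LK LD1_c9 LD2_c17 LD3_c21) Lrfl Lrfl
theorem f639709 : Led Lsl_ff (LP (LK LD1_c6 LD2_c12 LD3_c1)) = (LP (LK LD1_c9 LD2_c17 LD3_c21)) :=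
  Lgr Lrot23 (Lpr_ct (K51.f59869 IH) (Lpr_ft (f639706 IH) (Lpr_ct (f61051 IH) (Lpn (LP (LK LD1_c9 LD2_c17 LD3_c21))))))
theorem f706458 : Led Lsl_af (LP (LK LD1_c9 LD2_c17 LD3_c21)) = (LP (LK LD1_c12 LD2_c23 LD3_c31)) :=
  Lgr Lrot45 (Lpe (f639709 IH) (Lpr_at (f706432 IH) (Lpr_ft (f706456 IH) (Lpn (LP (LK LD1_c12 LD2_c23 LD3_c31))))))
theorem f710350 : Led Lsl_gf (LP (LK LD1_c9 LD2_c17 LD3_c21)) = (LP (LK LD1_c12 LD2_c39 LD3_c23)) :=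
  Lgr Lrot76 (Lpr_af (f706458 IH) (Lpe (f706456 IH) (Lpr_gt (K51.f710346 IH) (Lpn (LP (LK LD1_c12 LD2_c39 LD3_c23))))))
theorem f663137 : Led Lsl_ct K51.v5716 = K51.v5375 :=
  Lgr Lrot59 (Lpr_cf (K51.f663135 IH) (Lpn K51.v5375))
theorem f663138 : Led Lsl_af K51.v5716 = (LP (LK LD1_c6 LD2_c19 LD3_c7)) :=
  Lgr Lrot68 (Lpr_ct (f663137 IH) (Lpe (K51.f647291 IH) (Lpr_ct (K51.f66984 IH) (Lpn (LP (LK LD1_c6 LD2_c19 LD3_c7))))))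
theorem f663139 : Led Lsl_ft K48.v5717 = (LP (LK LD1_c6 LD2_c19 LD3_c7)) :=
  Lgr Lrot2 (Lpe (K48.f649030 IH) (Lpr_gt (K51.f649028 IH) (Lpr_af (f663138 IH) (Lpn (LP (LK LD1_c6 LD2_c19 LD3_c7))))))
theorem f663141 : Led Lsl_ff K48.v5717 = (LP (LK LD1_c6 LD2_c19 LD3_c7)) :=
  Lgr Lrot3 (Lpr_ft (f663139 IH) (Lpn (LP (LK LD1_c6 LD2_c19 LD3_c7))))
theorem f663142 : Led Lsl_bt K48.v5717 = (LP (LK LD1_c9 LD2_c17 LD3_c21)) :=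
  Lgr Lrot35 (Lpr_ff (f663141 IH) (Lpe (K38.f140028 IH) (Lpr_ff (f639709 IH) (Lpn (LP (LK LD1_c9 LD2_c17 LD3_c21))))))
theorem f131522 : Led Lsl_ct (LP (LK LD1_c3 LD2_c12 LD3_c12)) = (LP (LK LD1_c6 LD2_c28 LD3_c30)) :=
  Lre_c IH (LK LD1_c3 LD2_c12 LD3_c12) (LK LD1_c6 LD2_c28 LD3_c30) Lrfl Lrfl
theorem f707653 : K48.v5717 = (LP (LK LD1_c6 LD2_c28 LD3_c30)) :=
  Lefun (Lecon (Lfl_cf (K48.f663134 IH)) (K51.f707643 IH)) (f131522 IH)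
theorem f131521 : Led Lsl_ct (LP (LK LD1_c6 LD2_c28 LD3_c30)) = (LP (LK LD1_c3 LD2_c12 LD3_c12)) :=
  Lre_c IH (LK LD1_c6 LD2_c28 LD3_c30) (LK LD1_c3 LD2_c12 LD3_c12) Lrfl Lrfl
theorem f62907 : Led Lsl_bt (LP (LK LD1_c3 LD2_c12 LD3_c10)) = (LP (LK LD1_c6 LD2_c28 LD3_c21)) :=
  Lre_b IH (LK LD1_c3 LD2_c12 LD3_c10) (LK LD1_c6 LD2_c28 LD3_c21) Lrfl Lrfl
theorem f131516 : Led Lsl_gt (LP (LK LD1_c6 LD2_c28 LD3_c21)) = (LP (LK LD1_c12 LD2_c27 LD3_c51)) :=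
  Lre_g IH (LK LD1_c6 LD2_c28 LD3_c21) (LK LD1_c12 LD2_c27 LD3_c51) Lrfl Lrfl
theorem f66232 : Led Lsl_bt (LP (LK LD1_c6 LD2_c36 LD3_c59)) = (LP (LK LD1_c12 LD2_c39 LD3_c23)) :=
  Lre_b IH (LK LD1_c6 LD2_c36 LD3_c59) (LK LD1_c12 LD2_c39 LD3_c23) Lrfl Lrfl
theorem f130653 : Led Lsl_af (LP (LK LD1_c7 LD2_c1 LD3_c30)) = (LP (LK LD1_c3 LD2_c51 LD3_c26)) :=
  Lgr Lrot0 (Lpr_at (K5.f130648 IH) (Lpn (LP (LK LD1_c3 LD2_c51 LD3_c26))))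
theorem f65729 : Led Lsl_gt (LP (LK LD1_c1 LD2_c52 LD3_c31)) = (LP (LK LD1_c3 LD2_c51 LD3_c23)) :=
  Lre_g IH (LK LD1_c1 LD2_c52 LD3_c31) (LK LD1_c3 LD2_c51 LD3_c23) Lrfl Lrfl
theorem f439888 : Led Lsl_gf (LP (LK LD1_c7 LD2_c1 LD3_c30)) = (LP (LK LD1_c3 LD2_c51 LD3_c23)) :=
  Lgr Lrot76 (Lpr_af (f130653 IH) (Lpe (K5.f65721 IH) (Lpr_gt (f65729 IH) (Lpn (LP (LK LD1_c3 LD2_c51 LD3_c23))))))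
theorem f65327 : Led Lsl_dt (LP (LK LD1_c3 LD2_c51 LD3_c20)) = (LP (LK LD1_c7 LD2_c44 LD3_c8)) :=
  Lre_d IH (LK LD1_c3 LD2_c51 LD3_c20) (LK LD1_c7 LD2_c44 LD3_c8) Lrfl Lrfl
theorem f65321 : Led Lsl_ft (LP (LK LD1_c7 LD2_c44 LD3_c8)) = (LP (LK LD1_c3 LD2_c51 LD3_c19)) :=
  Lre_f IH (LK LD1_c7 LD2_c44 LD3_c8) (LK LD1_c3 LD2_c51 LD3_c19) Lrfl Lrfl
theorem f63864 : Led Lsl_gt (LP (LK LD1_c13 LD2_c19 LD3_c56)) = (LP (LK LD1_c7 LD2_c1 LD3_c43)) :=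
  Lre_g IH (LK LD1_c13 LD2_c19 LD3_c56) (LK LD1_c7 LD2_c1 LD3_c43) Lrfl Lrfl
theorem f115754 : Led Lsl_gt (LP (LK LD1_c7 LD2_c44 LD3_c8)) = (LP (LK LD1_c13 LD2_c19 LD3_c56)) :=
  Lgr Lrot5 (Lpr_ft (f65321 IH) (Lpr_at (K4.f115656 IH) (Lpe (f63864 IH) (Lpn (LP (LK LD1_c13 LD2_c19 LD3_c56))))))
theorem f63814 : Led Lsl_dt (LP (LK LD1_c3 LD2_c30 LD3_c0)) = (LP (LK LD1_c7 LD2_c1 LD3_c43)) :=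
  Lre_d IH (LK LD1_c3 LD2_c30 LD3_c0) (LK LD1_c7 LD2_c1 LD3_c43) Lrfl Lrfl
theorem f63865 : Led Lsl_et (LP (LK LD1_c1 LD2_c50 LD3_c49)) = (LP (LK LD1_c3 LD2_c47 LD3_c27)) :=
  Lre_e IH (LK LD1_c1 LD2_c50 LD3_c49) (LK LD1_c3 LD2_c47 LD3_c27) Lrfl Lrfl
theorem f63866 : Led Lsl_gt (LP (LK LD1_c3 LD2_c47 LD3_c27)) = (LP (LK LD1_c7 LD2_c35 LD3_c45)) :=
  Lre_g IH (LK LD1_c3 LD2_c47 LD3_c27) (LK LD1_c7 LD2_c35 LD3_c45) Lrfl Lrfl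
theorem f63867 : Led Lsl_et (LP (LK LD1_c14 LD2_c19 LD3_c13)) = (LP (LK LD1_c7 LD2_c35 LD3_c45)) :=
  Lre_e IH (LK LD1_c14 LD2_c19 LD3_c13) (LK LD1_c7 LD2_c35 LD3_c45) Lrfl Lrfl
theorem f63868 : Led Lsl_df (LP (LK LD1_c13 LD2_c19 LD3_c56)) = (LP (LK LD1_c14 LD2_c19 LD3_c13)) :=
  Lgr Lrot170 (Lpr_gt (f63864 IH) (Lpe (f63814 IH) (Lpr_et (K5.f63813 IH) (Lpr_gt (K3.f63802 IH) (Lpr_dt (K8.f11263 IH) (Lpr_gt (K3.f15627 IH) (Lpe (K3.f63721 IH) (Lpr_et (f63865 IH) (Lpr_gt (f63866 IH) (Lpe (f63867 IH) (Lpn (LP (LK LD1_c14 LD2_c19 LD3_c13)))))))))))))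
theorem f65792 : Led Lsl_et (LP (LK LD1_c7 LD2_c44 LD3_c15)) = (LP (LK LD1_c3 LD2_c51 LD3_c23)) :=
  Lre_e IH (LK LD1_c7 LD2_c44 LD3_c15) (LK LD1_c3 LD2_c51 LD3_c23) Lrfl Lrfl
theorem f63727 : Led Lsl_dt (LP (LK LD1_c3 LD2_c47 LD3_c27)) = (LP (LK LD1_c7 LD2_c35 LD3_c47)) :=
  Lre_d IH (LK LD1_c3 LD2_c47 LD3_c27) (LK LD1_c7 LD2_c35 LD3_c47) Lrfl Lrfl
theorem f63728 : Led Lsl_gt (LP (LK LD1_c14 LD2_c19 LD3_c16)) = (LP (LK LD1_c7 LD2_c35 LD3_c47)) :=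
  Lre_g IH (LK LD1_c14 LD2_c19 LD3_c16) (LK LD1_c7 LD2_c35 LD3_c47) Lrfl Lrfl
theorem f65793 : Led Lsl_dt (LP (LK LD1_c7 LD2_c44 LD3_c15)) = (LP (LK LD1_c14 LD2_c19 LD3_c16)) :=
  Lgr Lrot136 (Lpr_et (f65792 IH) (Lpe (f65729 IH) (Lpe (K5.f65762 IH) (Lpe (K3.f65774 IH) (Lpr_gf (K2.f65776 IH) (Lpe (K1.f62806 IH) (Lpr_gf (K3.f63714 IH) (Lpe (K3.f63726 IH) (Lpr_dt (f63727 IH) (Lpe (f63728 IH) (Lpn (LP (LK LD1_c14 LD2_c19 LD3_c16)))))))))))))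
theorem f110135 : Led Lsl_gf (LP (LK LD1_c14 LD2_c19 LD3_c16)) = (LP (LK LD1_c7 LD2_c42 LD3_c31)) :=
  Lgr Lrot47 (Lpr_gt (f63728 IH) (Lpr_af (K3.f110123 IH) (Lpe (K3.f66239 IH) (Lpn (LP (LK LD1_c7 LD2_c42 LD3_c31))))))
theorem f66243 : Led Lsl_dt (LP (LK LD1_c3 LD2_c50 LD3_c42)) = (LP (LK LD1_c7 LD2_c42 LD3_c31)) :=
  Lre_d IH (LK LD1_c3 LD2_c50 LD3_c42) (LK LD1_c7 LD2_c42 LD3_c31) Lrfl Lrfl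
theorem f439894 : Led Lsl_gt (LP (LK LD1_c7 LD2_c35 LD3_c45)) = (LP (LK LD1_c3 LD2_c50 LD3_c42)) :=
  Lgr Lrot137 (Lpe (f63867 IH) (Lpe (f63868 IH) (Lpe (f115754 IH) (Lpe (f65327 IH) (Lpr_et (K4.f115628 IH) (Lpr_gf (f439888 IH) (Lpe (f65792 IH) (Lpr_dt (f65793 IH) (Lpr_gf (f110135 IH) (Lpe (f66243 IH) (Lpn (LP (LK LD1_c3 LD2_c50 LD3_c42)))))))))))))
theorem f713794 : Led Lsl_ct (LP (LK LD1_c12 LD2_c27 LD3_c51)) = (LP (LK LD1_c7 LD2_c35 LD3_c45)) :=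
  Lgr Lrot91 (Lpe (f131516 IH) (Lpe (f62907 IH) (Lpr_ct (K51.f62917 IH) (Lpe (K51.f62924 IH) (Lpe (f131521 IH) (Lpq (f707653 IH) (Lpr_bt (f663142 IH) (Lpr_gf (f710350 IH) (Lpe (f66232 IH) (Lpr_ct (K3.f66234 IH) (Lpe (f439894 IH) (Lpn (LP (LK LD1_c7 LD2_c35 LD3_c45))))))))))))))
theorem f441218 : Led Lsl_et (LP (LK LD1_c21 LD2_c35 LD3_c4)) = (LP (LK LD1_c12 LD2_c27 LD3_c51)) :=
  Lre_e IH (LK LD1_c21 LD2_c35 LD3_c4) (LK LD1_c12 LD2_c27 LD3_c51) Lrfl Lrfl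
theorem f63904 : Led Lsl_et (LP (LK LD1_c7 LD2_c35 LD3_c45)) = (LP (LK LD1_c14 LD2_c19 LD3_c13)) :=
  Lre_e IH (LK LD1_c7 LD2_c35 LD3_c45) (LK LD1_c14 LD2_c19 LD3_c13) Lrfl Lrfl
theorem f713799 : Led Lsl_cf (LP (LK LD1_c21 LD2_c35 LD3_c4)) = (LP (LK LD1_c14 LD2_c19 LD3_c13)) :=
  Lgr Lrot39 (Lpr_et (f441218 IH) (Lpr_ct (f713794 IH) (Lpr_et (f63904 IH) (Lpn (LP (LK LD1_c14 LD2_c19 LD3_c13))))))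
theorem f63852 : Led Lsl_gt (LP (LK LD1_c21 LD2_c7 LD3_c22)) = (LP (LK LD1_c12 LD2_c1 LD3_c60)) :=
  Lre_g IH (LK LD1_c21 LD2_c7 LD3_c22) (LK LD1_c12 LD2_c1 LD3_c60) Lrfl Lrfl
theorem f441219 : Led Lsl_dt (LP (LK LD1_c21 LD2_c35 LD3_c4)) = (LP (LK LD1_c21 LD2_c7 LD3_c22)) :=
  Lgr Lrot136 (Lpr_et (f441218 IH) (Lpe (f131516 IH) (Lpe (K4.f112075 IH) (Lpr_dt (K28.f112084 IH) (Lpe (K3.f63841 IH) (Lpe (K3.f63840 IH) (Lpe (K3.f63818 IH) (Lpe (K3.f63834 IH) (Lpr_dt (K3.f63835 IH) (Lpe (f63852 IH) (Lpn (LP (LK LD1_c21 LD2_c7 LD3_c22)))))))))))))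
theorem f441223 : Led Lsl_df (LP (LK LD1_c21 LD2_c35 LD3_c4)) = (LP (LK LD1_c21 LD2_c7 LD3_c22)) :=
  Lgr Lrot38 (Lpr_dt (f441219 IH) (Lpn (LP (LK LD1_c21 LD2_c7 LD3_c22))))
theorem f105271 : Led Lsl_at (LP (LK LD1_c6 LD2_c39 LD3_c42)) = (LP (LK LD1_c12 LD2_c1 LD3_c60)) :=
  Lgr Lrot100 (Lpr_af (K3.f105269 IH) (Lpn (LP (LK LD1_c12 LD2_c1 LD3_c60))))
theorem f66405 : Led Lsl_ft (LP (LK LD1_c12 LD2_c45 LD3_c17)) = (LP (LK LD1_c6 LD2_c39 LD3_c42)) :=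
  Lre_f IH (LK LD1_c12 LD2_c45 LD3_c17) (LK LD1_c6 LD2_c39 LD3_c42) Lrfl Lrfl
theorem f441880 : Led Lsl_gt (LP (LK LD1_c12 LD2_c45 LD3_c17)) = (LP (LK LD1_c21 LD2_c7 LD3_c22)) :=
  Lgr Lrot5 (Lpr_ft (f66405 IH) (Lpr_at (f105271 IH) (Lpe (f63852 IH) (Lpn (LP (LK LD1_c21 LD2_c7 LD3_c22))))))
theorem f65068 : Led Lsl_gt (LP (LK LD1_c6 LD2_c10 LD3_c45)) = (LP (LK LD1_c12 LD2_c1 LD3_c58)) :=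
  Lre_g IH (LK LD1_c6 LD2_c10 LD3_c45) (LK LD1_c12 LD2_c1 LD3_c58) Lrfl Lrfl
theorem f105291 : Led Lsl_gf (LP (LK LD1_c6 LD2_c39 LD3_c43)) = (LP (LK LD1_c12 LD2_c1 LD3_c58)) :=
  Lgr Lrot76 (Lpr_af (K3.f105285 IH) (Lpe (K3.f65063 IH) (Lpr_gt (f65068 IH) (Lpn (LP (LK LD1_c12 LD2_c1 LD3_c58))))))
theorem f63902 : Led Lsl_dt (LP (LK LD1_c13 LD2_c19 LD3_c56)) = (LP (LK LD1_c14 LD2_c19 LD3_c13)) :=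
  Lgr Lrot42 (Lpr_df (f63868 IH) (Lpn (LP (LK LD1_c14 LD2_c19 LD3_c13))))
theorem f115744 : Led Lsl_ft (LP (LK LD1_c3 LD2_c30 LD3_c0)) = (LP (LK LD1_c7 LD2_c1 LD3_c44)) :=
  Lre_f IH (LK LD1_c3 LD2_c30 LD3_c0) (LK LD1_c7 LD2_c1 LD3_c44) Lrfl Lrfl
theorem f63143 : Led Lsl_gt (LP (LK LD1_c3 LD2_c30 LD3_c0)) = (LP (LK LD1_c7 LD2_c1 LD3_c41)) :=
  Lre_g IH (LK LD1_c3 LD2_c30 LD3_c0) (LK LD1_c7 LD2_c1 LD3_c41) Lrfl Lrfl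
theorem f115745 : Led Lsl_gf (LP (LK LD1_c3 LD2_c51 LD3_c20)) = (LP (LK LD1_c7 LD2_c1 LD3_c41)) :=
  Lgr Lrot76 (Lpr_af (K5.f115670 IH) (Lpe (f115744 IH) (Lpr_gt (f63143 IH) (Lpn (LP (LK LD1_c7 LD2_c1 LD3_c41))))))
theorem f713803 : Led Lsl_ct (LP (LK LD1_c12 LD2_c1 LD3_c58)) = (LP (LK LD1_c7 LD2_c1 LD3_c41)) :=
  Lgr Lrot8 (Lpe (f105291 IH) (Lpr_dt (K3.f105284 IH) (Lpr_gt (f441880 IH) (Lpe (f441223 IH) (Lpr_cf (f713799 IH) (Lpe (f63902 IH) (Lpe (f115754 IH) (Lpe (f65327 IH) (Lpr_gf (f115745 IH) (Lpn (LP (LK LD1_c7 LD2_c1 LD3_c41))))))))))))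
theorem f713805 : Led Lsl_cf (LP (LK LD1_c12 LD2_c1 LD3_c58)) = (LP (LK LD1_c7 LD2_c1 LD3_c41)) :=
  Lgr Lrot11 (Lpr_ct (f713803 IH) (Lpn (LP (LK LD1_c7 LD2_c1 LD3_c41))))
theorem f65091 : Led Lsl_ft (LP (LK LD1_c13 LD2_c18 LD3_c37)) = (LP (LK LD1_c7 LD2_c0 LD3_c60)) :=
  Lre_f IH (LK LD1_c13 LD2_c18 LD3_c37) (LK LD1_c7 LD2_c0 LD3_c60) Lrfl Lrfl
theorem f92653 : Led Lsl_gt (LP (LK LD1_c7 LD2_c33 LD3_c4)) = (LP (LK LD1_c3 LD2_c46 LD3_c3)) :=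
  Lre_g IH (LK LD1_c7 LD2_c33 LD3_c4) (LK LD1_c3 LD2_c46 LD3_c3) Lrfl Lrfl
theorem f109709 : Led Lsl_gt (LP (LK LD1_c13 LD2_c18 LD3_c37)) = (LP (LK LD1_c7 LD2_c33 LD3_c4)) :=
  Lgr Lrot5 (Lpr_ft (f65091 IH) (Lpr_at (K3.f109695 IH) (Lpe (f92653 IH) (Lpn (LP (LK LD1_c7 LD2_c33 LD3_c4))))))
theorem f65084 : Led Lsl_dt (LP (LK LD1_c7 LD2_c0 LD3_c61)) = (LP (LK LD1_c13 LD2_c18 LD3_c37)) :=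
  Lre_d IH (LK LD1_c7 LD2_c0 LD3_c61) (LK LD1_c13 LD2_c18 LD3_c37) Lrfl Lrfl
theorem f92651 : Led Lsl_et (LP (LK LD1_c1 LD2_c50 LD3_c6)) = (LP (LK LD1_c0 LD2_c51 LD3_c54)) :=
  Lre_e IH (LK LD1_c1 LD2_c50 LD3_c6) (LK LD1_c0 LD2_c51 LD3_c54) Lrfl Lrfl
theorem f92652 : Led Lsl_dt (LP (LK LD1_c1 LD2_c50 LD3_c6)) = (LP (LK LD1_c3 LD2_c46 LD3_c3)) :=
  Lre_d IH (LK LD1_c1 LD2_c50 LD3_c6) (LK LD1_c3 LD2_c46 LD3_c3) Lrfl Lrfl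
theorem f87216 : Led Lsl_gt (LP (LK LD1_c1 LD2_c51 LD3_c46)) = (LP (LK LD1_c3 LD2_c49 LD3_c30)) :=
  Lre_g IH (LK LD1_c1 LD2_c51 LD3_c46) (LK LD1_c3 LD2_c49 LD3_c30) Lrfl Lrfl
theorem f89282 : Led Lsl_et (LP (LK LD1_c7 LD2_c39 LD3_c56)) = (LP (LK LD1_c3 LD2_c49 LD3_c30)) :=
  Lre_e IH (LK LD1_c7 LD2_c39 LD3_c56) (LK LD1_c3 LD2_c49 LD3_c30) Lrfl Lrfl
theorem f92654 : Led Lsl_df (LP (LK LD1_c7 LD2_c33 LD3_c4)) = (LP (LK LD1_c7 LD2_c39 LD3_c56)) :=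
  Lgr Lrot170 (Lpr_gt (f92653 IH) (Lpe (f92652 IH) (Lpr_et (f92651 IH) (Lpr_gt (K3.f87187 IH) (Lpe (K3.f92646 IH) (Lpr_gt (K3.f92644 IH) (Lpe (K2.f63502 IH) (Lpr_et (K5.f87331 IH) (Lpr_gt (f87216 IH) (Lpe (f89282 IH) (Lpn (LP (LK LD1_c7 LD2_c39 LD3_c56)))))))))))))
theorem f89274 : Led Lsl_gf (LP (LK LD1_c7 LD2_c35 LD3_c13)) = (LP (LK LD1_c3 LD2_c49 LD3_c30)) :=
  Lgr Lrot76 (Lpr_af (K2.f89259 IH) (Lpe (K4.f87208 IH) (Lpr_gt (f87216 IH) (Lpn (LP (LK LD1_c3 LD2_c49 LD3_c30))))))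
theorem f89284 : Led Lsl_ef (LP (LK LD1_c7 LD2_c35 LD3_c13)) = (LP (LK LD1_c3 LD2_c48 LD3_c45)) :=
  Lgr Lrot88 (Lpr_et (K2.f89271 IH) (Lpn (LP (LK LD1_c3 LD2_c48 LD3_c45))))
theorem f64885 : Led Lsl_dt (LP (LK LD1_c3 LD2_c48 LD3_c45)) = (LP (LK LD1_c7 LD2_c38 LD3_c37)) :=
  Lre_d IH (LK LD1_c3 LD2_c48 LD3_c45) (LK LD1_c7 LD2_c38 LD3_c37) Lrfl Lrfl
theorem f92696 : Led Lsl_gt (LP (LK LD1_c1 LD2_c50 LD3_c6)) = (LP (LK LD1_c3 LD2_c46 LD3_c1)) :=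
  Lre_g IH (LK LD1_c1 LD2_c50 LD3_c6) (LK LD1_c3 LD2_c46 LD3_c1) Lrfl Lrfl
theorem f93599 : Led Lsl_et (LP (LK LD1_c7 LD2_c32 LD3_c60)) = (LP (LK LD1_c3 LD2_c46 LD3_c1)) :=
  Lre_e IH (LK LD1_c7 LD2_c32 LD3_c60) (LK LD1_c3 LD2_c46 LD3_c1) Lrfl Lrfl
theorem f93600 : Led Lsl_dt (LP (LK LD1_c7 LD2_c32 LD3_c60)) = (LP (LK LD1_c14 LD2_c14 LD3_c12)) :=
  Lre_d IH (LK LD1_c7 LD2_c32 LD3_c60) (LK LD1_c14 LD2_c14 LD3_c12) Lrfl Lrfl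
theorem f87763 : Led Lsl_dt (LP (LK LD1_c3 LD2_c47 LD3_c3)) = (LP (LK LD1_c7 LD2_c34 LD3_c59)) :=
  Lre_d IH (LK LD1_c3 LD2_c47 LD3_c3) (LK LD1_c7 LD2_c34 LD3_c59) Lrfl Lrfl
theorem f93601 : Led Lsl_gt (LP (LK LD1_c14 LD2_c14 LD3_c12)) = (LP (LK LD1_c7 LD2_c34 LD3_c59)) :=
  Lgr Lrot112 (Lpe (f93600 IH) (Lpr_et (f93599 IH) (Lpe (f92696 IH) (Lpe (K3.f93598 IH) (Lpr_dt (K2.f65244 IH) (Lpe (K3.f65699 IH) (Lpe (K3.f65700 IH) (Lpr_gf (K3.f93515 IH) (Lpe (K2.f87772 IH) (Lpr_dt (f87763 IH) (Lpn (LP (LK LD1_c7 LD2_c34 LD3_c59)))))))))))))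
theorem f93608 : Led Lsl_gf (LP (LK LD1_c14 LD2_c14 LD3_c12)) = (LP (LK LD1_c7 LD2_c38 LD3_c37)) :=
  Lgr Lrot47 (Lpr_gt (f93601 IH) (Lpr_af (K2.f87710 IH) (Lpe (K2.f64881 IH) (Lpn (LP (LK LD1_c7 LD2_c38 LD3_c37))))))
theorem f109714 : Led Lsl_gf (LP (LK LD1_c7 LD2_c0 LD3_c61)) = (LP (LK LD1_c3 LD2_c46 LD3_c1)) :=
  Lgr Lrot138 (Lpr_dt (f65084 IH) (Lpr_gt (f109709 IH) (Lpr_df (f92654 IH) (Lpr_et (f89282 IH) (Lpe (f89274 IH) (Lpr_ef (f89284 IH) (Lpr_dt (f64885 IH) (Lpe (f93608 IH) (Lpe (f93600 IH) (Lpr_et (f93599 IH) (Lpn (LP (LK LD1_c3 LD2_c46 LD3_c1)))))))))))))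
theorem f109716 : Led Lsl_ft (LP (LK LD1_c1 LD2_c50 LD3_c6)) = (LP (LK LD1_c3 LD2_c46 LD3_c4)) :=
  Lre_f IH (LK LD1_c1 LD2_c50 LD3_c6) (LK LD1_c3 LD2_c46 LD3_c4) Lrfl Lrfl
theorem f109717 : Led Lsl_af (LP (LK LD1_c7 LD2_c0 LD3_c61)) = (LP (LK LD1_c3 LD2_c46 LD3_c4)) :=
  Lgr Lrot31 (Lpr_gf (f109714 IH) (Lpe (f92696 IH) (Lpr_ft (f109716 IH) (Lpn (LP (LK LD1_c3 LD2_c46 LD3_c4))))))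
theorem f65064 : Led Lsl_ft (LP (LK LD1_c7 LD2_c0 LD3_c61)) = (LP (LK LD1_c3 LD2_c29 LD3_c42)) :=
  Lre_f IH (LK LD1_c7 LD2_c0 LD3_c61) (LK LD1_c3 LD2_c29 LD3_c42) Lrfl Lrfl
theorem f109736 : Led Lsl_at (LP (LK LD1_c3 LD2_c29 LD3_c42)) = (LP (LK LD1_c1 LD2_c50 LD3_c6)) :=
  Lgr Lrot66 (Lpe (f65064 IH) (Lpr_af (f109717 IH) (Lpe (f109716 IH) (Lpn (LP (LK LD1_c1 LD2_c50 LD3_c6))))))
theorem f65054 : Led Lsl_cf (LP (LK LD1_c6 LD2_c10 LD3_c45)) = (LP (LK LD1_c3 LD2_c29 LD3_c42)) :=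
  Lgr Lrot39 (Lpr_et (K3.f63834 IH) (Lpr_ct (K3.f65009 IH) (Lpr_et (K3.f64797 IH) (Lpn (LP (LK LD1_c3 LD2_c29 LD3_c42))))))
theorem f65059 : Led Lsl_ct (LP (LK LD1_c6 LD2_c10 LD3_c45)) = (LP (LK LD1_c3 LD2_c29 LD3_c42)) :=
  Lgr Lrot59 (Lpr_cf (f65054 IH) (Lpn (LP (LK LD1_c3 LD2_c29 LD3_c42))))
theorem f109739 : Led Lsl_cf (LP (LK LD1_c3 LD2_c17 LD3_c60)) = (LP (LK LD1_c1 LD2_c50 LD3_c6)) :=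
  Lgr Lrot1 (Lpr_at (K3.f105273 IH) (Lpr_ct (f65059 IH) (Lpr_at (f109736 IH) (Lpn (LP (LK LD1_c1 LD2_c50 LD3_c6))))))
theorem f109759 : Led Lsl_ct (LP (LK LD1_c3 LD2_c17 LD3_c60)) = (LP (LK LD1_c1 LD2_c50 LD3_c6)) :=
  Lgr Lrot59 (Lpr_cf (f109739 IH) (Lpn (LP (LK LD1_c1 LD2_c50 LD3_c6))))
theorem f104245 : Led Lsl_ft (LP (LK LD1_c6 LD2_c39 LD3_c43)) = (LP (LK LD1_c3 LD2_c17 LD3_c60)) :=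
  Lre_f IH (LK LD1_c6 LD2_c39 LD3_c43) (LK LD1_c3 LD2_c17 LD3_c60) Lrfl Lrfl
theorem f109804 : Led Lsl_cf (LP (LK LD1_c6 LD2_c39 LD3_c43)) = (LP (LK LD1_c3 LD2_c46 LD3_c4)) :=
  Lgr Lrot108 (Lpr_ft (f104245 IH) (Lpr_ct (f109759 IH) (Lpr_ft (f109716 IH) (Lpn (LP (LK LD1_c3 LD2_c46 LD3_c4))))))
theorem f104282 : Led Lsl_bf (LP (LK LD1_c1 LD2_c50 LD3_c6)) = (LP (LK LD1_c3 LD2_c19 LD3_c48)) :=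
  Lgr Lrot96 (Lpr_et (f92651 IH) (Lpr_bt (K3.f104234 IH) (Lpr_et (K51.f61911 IH) (Lpn (LP (LK LD1_c3 LD2_c19 LD3_c48))))))
theorem f652527 : Led Lsl_bt (LP (LK LD1_c3 LD2_c46 LD3_c4)) = K51.v6274 :=
  Lgr Lrot35 (Lpe (f109716 IH) (Lpr_bf (f104282 IH) (Lpr_ff (K51.f652526 IH) (Lpn K51.v6274))))
def v4557 : LQ := Led Lsl_ct (LP (LK LD1_c2 LD2_c27 LD3_c53))
theorem f636113 : Led Lsl_ct (LP (LK LD1_c2 LD2_c27 LD3_c53)) = v4557 :=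
  Lrfl
theorem f140873 : Led Lsl_bt (LP (LK LD1_c1 LD2_c11 LD3_c3)) = (LP (LK LD1_c2 LD2_c27 LD3_c53)) :=
  Lre_b IH (LK LD1_c1 LD2_c11 LD3_c3) (LK LD1_c2 LD2_c27 LD3_c53) Lrfl Lrfl
theorem f624621 : Led Lsl_cf K51.v569 = K51.v3210 :=
  Lgr Lrot11 (Lpr_ct (K51.f624620 IH) (Lpn K51.v3210))
theorem f636114 : Led Lsl_bf K51.v3210 = v4557 :=
  Lgr Lrot90 (Lpe (f624621 IH) (Lpe (K51.f454808 IH) (Lpr_ct (K46.f140864 IH) (Lpr_bt (f140873 IH) (Lpr_ct (f636113 IH) (Lpn v4557))))))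
theorem f636115 : Led Lsl_cf (LP (LK LD1_c2 LD2_c27 LD3_c53)) = v4557 :=
  Lgr Lrot11 (Lpr_ct (f636113 IH) (Lpn v4557))
def v4556 : LQ := Led Lsl_gt (LP (LK LD1_c2 LD2_c27 LD3_c53))
theorem f636107 : Led Lsl_gt (LP (LK LD1_c2 LD2_c27 LD3_c53)) = v4556 :=
  Lrfl
theorem f713808 : v4556 = (LP (LK LD1_c4 LD2_c34 LD3_c28)) :=
  (Llr Lrot65 (Lpe (f636107 IH) (Lpr_cf (f636115 IH) (Lpe (f636114 IH) (Lpr_gf (K51.f679020 IH) (Lpqs (K51.f707741 IH) (Lpe (f652527 IH) (Lpe (f109804 IH) (Lpr_gf (f105291 IH) (Lpr_cf (f713805 IH) (Lpe (f63143 IH) (Lpe (f109955 IH) (Lpe (K6.f109933 IH) (Lpn (LP (LK LD1_c4 LD2_c34 LD3_c28)))))))))))))))).symm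
theorem f629274 : Led Lsl_at (LP (LK LD1_c3 LD2_c59 LD3_c53)) = (LP (LK LD1_c8 LD2_c0 LD3_c52)) :=
  Lre_a IH (LK LD1_c3 LD2_c59 LD3_c53) (LK LD1_c8 LD2_c0 LD3_c52) Lrfl Lrfl
theorem f636108 : Led Lsl_gf (LP (LK LD1_c8 LD2_c0 LD3_c52)) = v4556 :=
  Lgr Lrot76 (Lpe (f629274 IH) (Lpr_ff (K51.f633842 IH) (Lpr_gt (f636107 IH) (Lpn v4556))))
theorem f713810 : Led Lsl_gt (LP (LK LD1_c4 LD2_c34 LD3_c28)) = (LP (LK LD1_c8 LD2_c0 LD3_c52)) :=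
  Leop (Lpr_gf (f636108 IH) (Lpqs (f713808 IH) (Lpn (LP (LK LD1_c4 LD2_c34 LD3_c28)))))
theorem seed_764 : LEOK LG_g (LK LD1_c4 LD2_c34 LD3_c28) :=
  Leoe_g (LK LD1_c4 LD2_c34 LD3_c28) (f713810 IH)
theorem f140179 : Led Lsl_gt (LP (LK LD1_c2 LD2_c56 LD3_c46)) = (LP (LK LD1_c6 LD2_c1 LD3_c0)) :=
  Lre_g IH (LK LD1_c2 LD2_c56 LD3_c46) (LK LD1_c6 LD2_c1 LD3_c0) Lrfl Lrfl
def v5053 : LQ := Led Lsl_ft (LP (LK LD1_c2 LD2_c56 LD3_c46))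
theorem f641517 : Led Lsl_ft (LP (LK LD1_c2 LD2_c56 LD3_c46)) = v5053 :=
  Lrfl
theorem f424621 : Led Lsl_ft (LP (LK LD1_c5 LD2_c57 LD3_c36)) = (LP (LK LD1_c11 LD2_c40 LD3_c11)) :=
  Lre_f IH (LK LD1_c5 LD2_c57 LD3_c36) (LK LD1_c11 LD2_c40 LD3_c11) Lrfl Lrfl
def v13868 : LQ := Led Lsl_bt (LP (LK LD1_c4 LD2_c49 LD3_c21))
theorem f705604 : Led Lsl_bt (LP (LK LD1_c4 LD2_c49 LD3_c21)) = v13868 :=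
  Lrfl
theorem f710678 : Led Lsl_ef K46.v5104 = v13868 :=
  Lgr Lrot29 (Lpe (K46.f645948 IH) (Lpq (f710596 IH) (Lpq (f707252 IH) (Lpe (f705610 IH) (Lpr_bt (f705604 IH) (Lpn v13868))))))
theorem f705605 : Led Lsl_bf (LP (LK LD1_c4 LD2_c49 LD3_c21)) = v13868 :=
  Lgr Lrot24 (Lpr_bt (f705604 IH) (Lpn v13868))
theorem f81969 : Led Lsl_bt (LP (LK LD1_c2 LD2_c54 LD3_c13)) = (LP (LK LD1_c5 LD2_c55 LD3_c38)) :=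
  Lre_b IH (LK LD1_c2 LD2_c54 LD3_c13) (LK LD1_c5 LD2_c55 LD3_c38) Lrfl Lrfl
theorem f707263 : Led Lsl_ff v13868 = (LP (LK LD1_c5 LD2_c55 LD3_c38)) :=
  Lgr Lrot25 (Lpe (f705605 IH) (Lpqs (f707254 IH) (Lpe (f641101 IH) (Lpr_bt (f81969 IH) (Lpn (LP (LK LD1_c5 LD2_c55 LD3_c38)))))))
theorem f710694 : Led Lsl_ft K46.v5104 = (LP (LK LD1_c5 LD2_c57 LD3_c52)) :=
  Lgr Lrot86 (Lpr_ef (f710678 IH) (Lpr_ff (f707263 IH) (Lpe (K8.f81963 IH) (Lpr_ff (K51.f163152 IH) (Lpe (K51.f72601 IH) (Lpn (LP (LK LD1_c5 LD2_c57 LD3_c52))))))))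
theorem f710695 : Led Lsl_af K46.v5104 = (LP (LK LD1_c11 LD2_c40 LD3_c11)) :=
  Lgr Lrot45 (Lpr_ft (f710694 IH) (Lpr_at (K51.f424760 IH) (Lpr_ft (f424621 IH) (Lpn (LP (LK LD1_c11 LD2_c40 LD3_c11))))))
def v6352 : LQ := Led Lsl_et (LP (LK LD1_c3 LD2_c20 LD3_c42))
theorem f652951 : Led Lsl_et (LP (LK LD1_c3 LD2_c20 LD3_c42)) = v6352 :=
  Lrfl
theorem f652952 : Led Lsl_ef (LP (LK LD1_c3 LD2_c20 LD3_c42)) = v6352 :=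
  Lgr Lrot88 (Lpr_et (f652951 IH) (Lpn v6352))
theorem f163074 : Led Lsl_ft (LP (LK LD1_c1 LD2_c23 LD3_c2)) = (LP (LK LD1_c2 LD2_c14 LD3_c50)) :=
  Lgr Lrot4 (Lpe (K8.f161083 IH) (Lpr_ff (K8.f163072 IH) (Lpe (K8.f117014 IH) (Lpn (LP (LK LD1_c2 LD2_c14 LD3_c50))))))
theorem f699842 : Led Lsl_ef v4965 = K51.v12954 :=
  Lgr Lrot21 (Lpe (f641093 IH) (Lpr_et (K51.f161924 IH) (Lpr_ft (f163074 IH) (Lpr_et (K51.f117017 IH) (Lpr_ft (K51.f699839 IH) (Lpn K51.v12954))))))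
theorem f707338 : v4965 = v6352 :=
  Lefun (Lecon (Lfl_ef (f699842 IH)) (K51.f707329 IH)) (f652951 IH)
def v12956 : LQ := Led Lsl_gf (LP (LK LD1_c4 LD2_c35 LD3_c20))
theorem f699851 : Led Lsl_gf (LP (LK LD1_c4 LD2_c35 LD3_c20)) = v12956 :=
  Lrfl
theorem f699852 : Led Lsl_gt v4965 = v12956 :=
  Lgr Lrot5 (Lpe (f641093 IH) (Lpr_at (f424771 IH) (Lpr_gf (f699851 IH) (Lpn v12956))))
theorem f452901 : Led Lsl_at (LP (LK LD1_c1 LD2_c24 LD3_c33)) = (LP (LK LD1_c2 LD2_c57 LD3_c42)) :=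
  Lre_a IH (LK LD1_c1 LD2_c24 LD3_c33) (LK LD1_c2 LD2_c57 LD3_c42) Lrfl Lrfl
theorem f23068 : Led Lsl_gt (LP (LK LD1_c2 LD2_c16 LD3_c31)) = (LP (LK LD1_c4 LD2_c38 LD3_c61)) :=
  Lre_g IH (LK LD1_c2 LD2_c16 LD3_c31) (LK LD1_c4 LD2_c38 LD3_c61) Lrfl Lrfl
theorem f645702 : Led Lsl_gf (LP (LK LD1_c2 LD2_c57 LD3_c42)) = (LP (LK LD1_c4 LD2_c38 LD3_c61)) :=
  Lgr Lrot76 (Lpe (f452901 IH) (Lpq (f645315 IH) (Lpe (f632027 IH) (Lpr_gt (f23068 IH) (Lpn (LP (LK LD1_c4 LD2_c38 LD3_c61)))))))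
theorem f174861 : Led Lsl_bt (LP (LK LD1_c16 LD2_c51 LD3_c19)) = (LP (LK LD1_c9 LD2_c1 LD3_c24)) :=
  Lre_b IH (LK LD1_c16 LD2_c51 LD3_c19) (LK LD1_c9 LD2_c1 LD3_c24) Lrfl Lrfl
theorem f174864 : Led Lsl_ct (LP (LK LD1_c16 LD2_c51 LD3_c19)) = (LP (LK LD1_c16 LD2_c56 LD3_c8)) :=
  Lgr Lrot59 (Lpr_cf (f174857 IH) (Lpn (LP (LK LD1_c16 LD2_c56 LD3_c8))))
theorem f416282 : Led Lsl_bt (LP (LK LD1_c4 LD2_c33 LD3_c44)) = (LP (LK LD1_c2 LD2_c13 LD3_c45)) :=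
  Lre_b IH (LK LD1_c4 LD2_c33 LD3_c44) (LK LD1_c2 LD2_c13 LD3_c45) Lrfl Lrfl
theorem f416283 : Led Lsl_ct (LP (LK LD1_c4 LD2_c33 LD3_c44)) = (LP (LK LD1_c9 LD2_c5 LD3_c0)) :=
  Lre_c IH (LK LD1_c4 LD2_c33 LD3_c44) (LK LD1_c9 LD2_c5 LD3_c0) Lrfl Lrfl
theorem f710371 : Led Lsl_gt (LP (LK LD1_c16 LD2_c56 LD3_c8)) = (LP (LK LD1_c9 LD2_c5 LD3_c0)) :=
  Lgr Lrot65 (Lpe (f174864 IH) (Lpr_bt (f174861 IH) (Lpr_gf (K51.f710363 IH) (Lpe (K51.f416255 IH) (Lpe (K32.f416267 IH) (Lpe (K32.f416281 IH) (Lpe (K32.f140280 IH) (Lpe (K32.f140279 IH) (Lpe (f416282 IH) (Lpr_ct (f416283 IH) (Lpn (LP (LK LD1_c9 LD2_c5 LD3_c0)))))))))))))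
theorem f710373 : Led Lsl_gf (LP (LK LD1_c16 LD2_c56 LD3_c8)) = (LP (LK LD1_c11 LD2_c22 LD3_c22)) :=
  Lgr Lrot47 (Lpr_gt (f710371 IH) (Lpe (K51.f640170 IH) (Lpe (K51.f640171 IH) (Lpn (LP (LK LD1_c11 LD2_c22 LD3_c22))))))
theorem f707063 : Led Lsl_df v4965 = (LP (LK LD1_c9 LD2_c4 LD3_c60)) :=
  Lgr Lrot78 (Lpe (f641093 IH) (Lpr_dt (K51.f621114 IH) (Lpr_ft (K51.f707059 IH) (Lpn (LP (LK LD1_c9 LD2_c4 LD3_c60))))))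
theorem f140103 : Led Lsl_ct (LP (LK LD1_c2 LD2_c16 LD3_c31)) = (LP (LK LD1_c4 LD2_c39 LD3_c1)) :=
  Lre_c IH (LK LD1_c2 LD2_c16 LD3_c31) (LK LD1_c4 LD2_c39 LD3_c1) Lrfl Lrfl
def v13079 : LQ := Led Lsl_gf (LP (LK LD1_c4 LD2_c39 LD3_c1))
theorem f700977 : Led Lsl_gf (LP (LK LD1_c4 LD2_c39 LD3_c1)) = v13079 :=
  Lrfl
theorem f713883 : v13079 = (LP (LK LD1_c9 LD2_c12 LD3_c55)) :=
  (Llr Lrot126 (Lpe (f700977 IH) (Lpe (f140103 IH) (Lpr_bt (f140136 IH) (Lpr_gt (K0.f22968 IH) (Lpr_ct (K32.f140109 IH) (Lpr_gt (K46.f25607 IH) (Lpr_cf (K32.f140862 IH) (Lpr_bt (f140873 IH) (Lpr_gt (f636107 IH) (Lpqs (f713808 IH) (Lpe (K51.f109958 IH) (Lpe (f420489 IH) (Lpn (LP (LK LD1_c9 LD2_c12 LD3_c55)))))))))))))))).symm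
theorem f700978 : Led Lsl_gt (LP (LK LD1_c6 LD2_c3 LD3_c9)) = v13079 :=
  Lgr Lrot5 (Lpr_ft (f645546 IH) (Lpr_at (f140964 IH) (Lpr_gf (f700977 IH) (Lpn v13079))))
theorem f713932 : v12956 = (LP (LK LD1_c2 LD2_c57 LD3_c42)) :=
  (Llr Lrot9 (Lpe (f699852 IH) (Lpr_df (f707063 IH) (Lpe (K51.f640150 IH) (Lpr_ct (K51.f639798 IH) (Lpe (f710373 IH) (Lpe (f174857 IH) (Lpe (f612917 IH) (Lpe (f420485 IH) (Lpq (f713883 IH) (Lpe (f700978 IH) (Lpe (f645499 IH) (Lpn (LP (LK LD1_c2 LD2_c57 LD3_c42))))))))))))))).symm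
theorem f713935 : v4965 = (LP (LK LD1_c4 LD2_c38 LD3_c61)) :=
  Lefun (Lecon (Lfl_gt (f699852 IH)) (f713932 IH)) (f645702 IH)
theorem f140967 : Led Lsl_ct (LP (LK LD1_c9 LD2_c13 LD3_c45)) = (LP (LK LD1_c4 LD2_c38 LD3_c61)) :=
  Lre_c IH (LK LD1_c9 LD2_c13 LD3_c45) (LK LD1_c4 LD2_c38 LD3_c61) Lrfl Lrfl
theorem f140982 : Led Lsl_ct (LP (LK LD1_c3 LD2_c20 LD3_c42)) = (LP (LK LD1_c6 LD2_c45 LD3_c12)) :=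
  Lre_c IH (LK LD1_c3 LD2_c20 LD3_c42) (LK LD1_c6 LD2_c45 LD3_c12) Lrfl Lrfl
theorem f713951 : Led Lsl_ef (LP (LK LD1_c9 LD2_c13 LD3_c45)) = (LP (LK LD1_c6 LD2_c45 LD3_c12)) :=
  Lgr Lrot28 (Lpr_ct (f140967 IH) (Lpq (f713935 IH) (Lpqs (f707338 IH) (Lpe (f652952 IH) (Lpr_ct (f140982 IH) (Lpn (LP (LK LD1_c6 LD2_c45 LD3_c12))))))))
def v13871 : LQ := Led Lsl_ft (LP (LK LD1_c4 LD2_c49 LD3_c21))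
theorem f705611 : Led Lsl_ft (LP (LK LD1_c4 LD2_c49 LD3_c21)) = v13871 :=
  Lrfl
theorem f705613 : Led Lsl_ff (LP (LK LD1_c4 LD2_c49 LD3_c21)) = v13871 :=
  Lgr Lrot3 (Lpr_ft (f705611 IH) (Lpn v13871))
def v13867 : LQ := Led Lsl_at (LP (LK LD1_c4 LD2_c49 LD3_c21))
theorem f705600 : Led Lsl_at (LP (LK LD1_c4 LD2_c49 LD3_c21)) = v13867 :=
  Lrfl
theorem f705601 : Led Lsl_af (LP (LK LD1_c4 LD2_c49 LD3_c21)) = v13867 :=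
  Lgr Lrot0 (Lpr_at (f705600 IH) (Lpn v13867))
theorem f705602 : Led Lsl_ft K51.v4488 = v13867 :=
  Lgr Lrot2 (Lpe (K51.f634200 IH) (Lpr_gt (f510254 IH) (Lpr_af (f705601 IH) (Lpn v13867))))
theorem f705603 : Led Lsl_ff K51.v4488 = v13867 :=
  Lgr Lrot3 (Lpr_ft (f705602 IH) (Lpn v13867))
theorem f705614 : Led Lsl_at K51.v4488 = v13871 :=
  Lgr Lrot66 (Lpr_ff (f705603 IH) (Lpe (f705600 IH) (Lpr_ff (f705613 IH) (Lpn v13871))))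
theorem f707259 : v13871 = (LP (LK LD1_c2 LD2_c54 LD3_c13)) :=
  Lefun (Lecon (f705614 IH) (K51.f707253 IH)) (Lfl_af (K51.f163113 IH))
theorem f82006 : Led Lsl_dt (LP (LK LD1_c2 LD2_c54 LD3_c13)) = (LP (LK LD1_c5 LD2_c55 LD3_c45)) :=
  Lre_d IH (LK LD1_c2 LD2_c54 LD3_c13) (LK LD1_c5 LD2_c55 LD3_c45) Lrfl Lrfl
theorem f641098 : Led Lsl_ct (LP (LK LD1_c5 LD2_c55 LD3_c45)) = (LP (LK LD1_c11 LD2_c36 LD3_c43)) :=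
  Lre_c IH (LK LD1_c5 LD2_c55 LD3_c45) (LK LD1_c11 LD2_c36 LD3_c43) Lrfl Lrfl
theorem f559662 : Led Lsl_dt (LP (LK LD1_c11 LD2_c36 LD3_c43)) = (LP (LK LD1_c20 LD2_c34 LD3_c58)) :=
  Lre_d IH (LK LD1_c11 LD2_c36 LD3_c43) (LK LD1_c20 LD2_c34 LD3_c58) Lrfl Lrfl
theorem f641102 : Led Lsl_ct (LP (LK LD1_c20 LD2_c34 LD3_c58)) = (LP (LK LD1_c29 LD2_c31 LD3_c3)) :=
  Lre_c IH (LK LD1_c20 LD2_c34 LD3_c58) (LK LD1_c29 LD2_c31 LD3_c3) Lrfl Lrfl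
theorem f707262 : v13867 = K51.v12954 :=
  Lefun (Lecon (f705602 IH) (K51.f707253 IH)) (K51.f699839 IH)
theorem f141007 : Led Lsl_ct (LP (LK LD1_c6 LD2_c45 LD3_c12)) = (LP (LK LD1_c3 LD2_c20 LD3_c42)) :=
  Lre_c IH (LK LD1_c6 LD2_c45 LD3_c12) (LK LD1_c3 LD2_c20 LD3_c42) Lrfl Lrfl
theorem f652939 : Led Lsl_dt (LP (LK LD1_c12 LD2_c54 LD3_c44)) = (LP (LK LD1_c6 LD2_c45 LD3_c12)) :=
  Lre_d IH (LK LD1_c12 LD2_c54 LD3_c44) (LK LD1_c6 LD2_c45 LD3_c12) Lrfl Lrfl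
theorem f652940 : Led Lsl_ct (LP (LK LD1_c22 LD2_c4 LD3_c25)) = (LP (LK LD1_c12 LD2_c54 LD3_c44)) :=
  Lre_c IH (LK LD1_c22 LD2_c4 LD3_c25) (LK LD1_c12 LD2_c54 LD3_c44) Lrfl Lrfl
theorem f710613 : Led Lsl_dt (LP (LK LD1_c29 LD2_c31 LD3_c3)) = (LP (LK LD1_c22 LD2_c4 LD3_c25)) :=
  Lgr Lrot140 (Lpe (f641102 IH) (Lpe (f559662 IH) (Lpe (f641098 IH) (Lpe (f82006 IH) (Lpq (f707259 IH) (Lpe (f705613 IH) (Lpr_at (f705600 IH) (Lpqs (f707262 IH) (Lpqs (K51.f707329 IH) (Lpe (f141007 IH) (Lpe (f652939 IH) (Lpe (f652940 IH) (Lpn (LP (LK LD1_c22 LD2_c4 LD3_c25)))))))))))))))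
theorem f81970 : Led Lsl_ct (LP (LK LD1_c5 LD2_c55 LD3_c44)) = (LP (LK LD1_c2 LD2_c54 LD3_c13)) :=
  Lre_c IH (LK LD1_c5 LD2_c55 LD3_c44) (LK LD1_c2 LD2_c54 LD3_c13) Lrfl Lrfl
theorem f163120 : Led Lsl_dt (LP (LK LD1_c11 LD2_c36 LD3_c42)) = (LP (LK LD1_c5 LD2_c55 LD3_c44)) :=
  Lre_d IH (LK LD1_c11 LD2_c36 LD3_c42) (LK LD1_c5 LD2_c55 LD3_c44) Lrfl Lrfl
theorem f707272 : Led Lsl_ft (LP (LK LD1_c9 LD2_c31 LD3_c29)) = (LP (LK LD1_c5 LD2_c55 LD3_c44)) :=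
  Lgr Lrot48 (Lpr_ff (f707264 IH) (Lpn (LP (LK LD1_c5 LD2_c55 LD3_c44))))
theorem f510259 : Led Lsl_dt (LP (LK LD1_c17 LD2_c33 LD3_c20)) = (LP (LK LD1_c9 LD2_c31 LD3_c29)) :=
  Lre_d IH (LK LD1_c17 LD2_c33 LD3_c20) (LK LD1_c9 LD2_c31 LD3_c29) Lrfl Lrfl
theorem f161854 : Led Lsl_dt (LP (LK LD1_c5 LD2_c55 LD3_c44)) = (LP (LK LD1_c11 LD2_c36 LD3_c42)) :=
  Lre_d IH (LK LD1_c5 LD2_c55 LD3_c44) (LK LD1_c11 LD2_c36 LD3_c42) Lrfl Lrfl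
theorem f707276 : Led Lsl_ff (LP (LK LD1_c17 LD2_c33 LD3_c20)) = (LP (LK LD1_c11 LD2_c36 LD3_c42)) :=
  Lgr Lrot19 (Lpr_dt (f510259 IH) (Lpr_ft (f707272 IH) (Lpr_dt (f161854 IH) (Lpn (LP (LK LD1_c11 LD2_c36 LD3_c42))))))
theorem f710617 : Led Lsl_at (LP (LK LD1_c17 LD2_c33 LD3_c20)) = (LP (LK LD1_c12 LD2_c54 LD3_c44)) :=
  Lgr Lrot33 (Lpr_ff (f707276 IH) (Lpr_dt (f163120 IH) (Lpr_ct (f81970 IH) (Lpr_dt (f82006 IH) (Lpr_ct (f641098 IH) (Lpr_dt (f559662 IH) (Lpr_ct (f641102 IH) (Lpr_dt (f710613 IH) (Lpr_ct (f652940 IH) (Lpn (LP (LK LD1_c12 LD2_c54 LD3_c44))))))))))))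
theorem f163117 : Led Lsl_ct (LP (LK LD1_c9 LD2_c7 LD3_c10)) = (LP (LK LD1_c4 LD2_c35 LD3_c17)) :=
  Lre_c IH (LK LD1_c9 LD2_c7 LD3_c10) (LK LD1_c4 LD2_c35 LD3_c17) Lrfl Lrfl
theorem f163118 : Led Lsl_at (LP (LK LD1_c5 LD2_c55 LD3_c44)) = (LP (LK LD1_c9 LD2_c7 LD3_c10)) :=
  Lgr Lrot107 (Lpe (K8.f81978 IH) (Lpr_af (K51.f163113 IH) (Lpe (f163117 IH) (Lpn (LP (LK LD1_c9 LD2_c7 LD3_c10))))))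
theorem f161663 : Led Lsl_dt (LP (LK LD1_c9 LD2_c7 LD3_c10)) = (LP (LK LD1_c16 LD2_c59 LD3_c27)) :=
  Lre_d IH (LK LD1_c9 LD2_c7 LD3_c10) (LK LD1_c16 LD2_c59 LD3_c27) Lrfl Lrfl
theorem f163123 : Led Lsl_af (LP (LK LD1_c11 LD2_c36 LD3_c42)) = (LP (LK LD1_c16 LD2_c59 LD3_c27)) :=
  Lgr Lrot117 (Lpr_dt (f163120 IH) (Lpr_at (f163118 IH) (Lpr_dt (f161663 IH) (Lpn (LP (LK LD1_c16 LD2_c59 LD3_c27))))))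
theorem f710624 : Led Lsl_ff (LP (LK LD1_c16 LD2_c59 LD3_c27)) = (LP (LK LD1_c12 LD2_c54 LD3_c44)) :=
  Lgr Lrot30 (Lpe (f163123 IH) (Lpe (f707276 IH) (Lpr_at (f710617 IH) (Lpn (LP (LK LD1_c12 LD2_c54 LD3_c44))))))
theorem f161631 : Led Lsl_dt (LP (LK LD1_c16 LD2_c59 LD3_c27)) = (LP (LK LD1_c9 LD2_c7 LD3_c10)) :=
  Lre_d IH (LK LD1_c16 LD2_c59 LD3_c27) (LK LD1_c9 LD2_c7 LD3_c10) Lrfl Lrfl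
theorem f652948 : Led Lsl_dt (LP (LK LD1_c6 LD2_c45 LD3_c12)) = (LP (LK LD1_c12 LD2_c54 LD3_c44)) :=
  Lre_d IH (LK LD1_c6 LD2_c45 LD3_c12) (LK LD1_c12 LD2_c54 LD3_c44) Lrfl Lrfl
theorem f710626 : Led Lsl_ft (LP (LK LD1_c9 LD2_c7 LD3_c10)) = (LP (LK LD1_c6 LD2_c45 LD3_c12)) :=
  Lgr Lrot54 (Lpe (f161631 IH) (Lpr_ff (f710624 IH) (Lpe (f652948 IH) (Lpn (LP (LK LD1_c6 LD2_c45 LD3_c12))))))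
theorem f161638 : Led Lsl_et (LP (LK LD1_c4 LD2_c35 LD3_c16)) = (LP (LK LD1_c9 LD2_c7 LD3_c10)) :=
  Lre_e IH (LK LD1_c4 LD2_c35 LD3_c16) (LK LD1_c9 LD2_c7 LD3_c10) Lrfl Lrfl
theorem f163076 : Led Lsl_ft (LP (LK LD1_c2 LD2_c54 LD3_c7)) = (LP (LK LD1_c4 LD2_c35 LD3_c16)) :=
  Lgr Lrot48 (Lpr_ff (K8.f163072 IH) (Lpn (LP (LK LD1_c4 LD2_c35 LD3_c16))))
theorem f161867 : Led Lsl_et (LP (LK LD1_c5 LD2_c55 LD3_c37)) = (LP (LK LD1_c2 LD2_c54 LD3_c7)) :=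
  Lre_e IH (LK LD1_c5 LD2_c55 LD3_c37) (LK LD1_c2 LD2_c54 LD3_c7) Lrfl Lrfl
theorem f713957 : Led Lsl_ft (LP (LK LD1_c9 LD2_c13 LD3_c45)) = (LP (LK LD1_c5 LD2_c55 LD3_c37)) :=
  Lgr Lrot86 (Lpr_ef (f713951 IH) (Lpe (f710626 IH) (Lpe (f161638 IH) (Lpe (f163076 IH) (Lpe (f161867 IH) (Lpn (LP (LK LD1_c5 LD2_c55 LD3_c37))))))))
theorem f713963 : Led Lsl_ff (LP (LK LD1_c9 LD2_c13 LD3_c45)) = (LP (LK LD1_c5 LD2_c55 LD3_c37)) :=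
  Lgr Lrot3 (Lpr_ft (f713957 IH) (Lpn (LP (LK LD1_c5 LD2_c55 LD3_c37))))
theorem f710629 : Led Lsl_ft (LP (LK LD1_c16 LD2_c59 LD3_c27)) = (LP (LK LD1_c12 LD2_c54 LD3_c44)) :=
  Lgr Lrot48 (Lpr_ff (f710624 IH) (Lpn (LP (LK LD1_c12 LD2_c54 LD3_c44))))
theorem f710631 : Led Lsl_ff (LP (LK LD1_c9 LD2_c7 LD3_c10)) = (LP (LK LD1_c6 LD2_c45 LD3_c12)) :=
  Lgr Lrot19 (Lpr_dt (f161663 IH) (Lpr_ft (f710629 IH) (Lpr_dt (f652939 IH) (Lpn (LP (LK LD1_c6 LD2_c45 LD3_c12))))))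
theorem f163121 : Led Lsl_af (LP (LK LD1_c5 LD2_c55 LD3_c44)) = (LP (LK LD1_c9 LD2_c7 LD3_c10)) :=
  Lgr Lrot0 (Lpr_at (f163118 IH) (Lpn (LP (LK LD1_c9 LD2_c7 LD3_c10))))
theorem f710633 : Led Lsl_at (LP (LK LD1_c9 LD2_c31 LD3_c29)) = (LP (LK LD1_c6 LD2_c45 LD3_c12)) :=
  Lgr Lrot66 (Lpr_ff (f707264 IH) (Lpr_af (f163121 IH) (Lpr_ff (f710631 IH) (Lpn (LP (LK LD1_c6 LD2_c45 LD3_c12))))))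
theorem f510258 : Led Lsl_ct (LP (LK LD1_c4 LD2_c49 LD3_c21)) = (LP (LK LD1_c9 LD2_c31 LD3_c29)) :=
  Lre_c IH (LK LD1_c4 LD2_c49 LD3_c21) (LK LD1_c9 LD2_c31 LD3_c29) Lrfl Lrfl
theorem f710679 : Led Lsl_ef (LP (LK LD1_c6 LD2_c3 LD3_c8)) = (LP (LK LD1_c9 LD2_c31 LD3_c29)) :=
  Lgr Lrot28 (Lpr_ct (K46.f645608 IH) (Lpq (f710596 IH) (Lpq (f707252 IH) (Lpe (f705610 IH) (Lpr_ct (f510258 IH) (Lpn (LP (LK LD1_c9 LD2_c31 LD3_c29))))))))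
theorem f710684 : Led Lsl_et (LP (LK LD1_c6 LD2_c3 LD3_c8)) = (LP (LK LD1_c9 LD2_c31 LD3_c29)) :=
  Lgr Lrot87 (Lpr_ef (f710679 IH) (Lpn (LP (LK LD1_c9 LD2_c31 LD3_c29))))
theorem f713953 : Led Lsl_at (LP (LK LD1_c9 LD2_c13 LD3_c45)) = (LP (LK LD1_c6 LD2_c3 LD3_c8)) :=
  Lgr Lrot80 (Lpr_ef (f713951 IH) (Lpe (f710633 IH) (Lpe (f710684 IH) (Lpn (LP (LK LD1_c6 LD2_c3 LD3_c8))))))
theorem f713967 : Led Lsl_gf (LP (LK LD1_c6 LD2_c3 LD3_c8)) = (LP (LK LD1_c11 LD2_c36 LD3_c29)) :=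
  Lgr Lrot76 (Lpe (f713953 IH) (Lpr_ff (f713963 IH) (Lpr_gt (f161239 IH) (Lpn (LP (LK LD1_c11 LD2_c36 LD3_c29))))))
theorem f645605 : Led Lsl_ct (LP (LK LD1_c2 LD2_c57 LD3_c41)) = (LP (LK LD1_c6 LD2_c3 LD3_c8)) :=
  Lre_c IH (LK LD1_c2 LD2_c57 LD3_c41) (LK LD1_c6 LD2_c3 LD3_c8) Lrfl Lrfl
theorem f424766 : Led Lsl_gt (LP (LK LD1_c11 LD2_c40 LD3_c10)) = (LP (LK LD1_c5 LD2_c57 LD3_c36)) :=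
  Lre_g IH (LK LD1_c11 LD2_c40 LD3_c10) (LK LD1_c5 LD2_c57 LD3_c36) Lrfl Lrfl
theorem f710699 : Led Lsl_gt K46.v5104 = (LP (LK LD1_c11 LD2_c40 LD3_c10)) :=
  Lgr Lrot5 (Lpr_ft (f710694 IH) (Lpr_at (K51.f424760 IH) (Lpe (f424766 IH) (Lpn (LP (LK LD1_c11 LD2_c40 LD3_c10))))))
theorem f40507 : Led Lsl_gt (LP (LK LD1_c8 LD2_c0 LD3_c22)) = (LP (LK LD1_c3 LD2_c59 LD3_c52)) :=
  Lre_g IH (LK LD1_c8 LD2_c0 LD3_c22) (LK LD1_c3 LD2_c59 LD3_c52) Lrfl Lrfl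
theorem f40508 : Led Lsl_bt (LP (LK LD1_c15 LD2_c5 LD3_c2)) = (LP (LK LD1_c8 LD2_c0 LD3_c22)) :=
  Lre_b IH (LK LD1_c15 LD2_c5 LD3_c2) (LK LD1_c8 LD2_c0 LD3_c22) Lrfl Lrfl
theorem f712629 : Led Lsl_ct (LP (LK LD1_c15 LD2_c5 LD3_c2)) = (LP (LK LD1_c11 LD2_c36 LD3_c29)) :=
  Lgr Lrot63 (Lpr_bt (f40508 IH) (Lpr_gt (f40507 IH) (Lpe (K9.f40486 IH) (Lpr_ct (K9.f40489 IH) (Lpe (K31.f415841 IH) (Lpe (K31.f415838 IH) (Lpr_bt (K46.f415848 IH) (Lpq (f710593 IH) (Lpe (K51.f641091 IH) (Lpr_ct (f209916 IH) (Lpr_gt (f161239 IH) (Lpn (LP (LK LD1_c11 LD2_c36 LD3_c29))))))))))))))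
theorem f99585 : Led Lsl_gt (LP (LK LD1_c3 LD2_c59 LD3_c40)) = (LP (LK LD1_c8 LD2_c0 LD3_c22)) :=
  Lre_g IH (LK LD1_c3 LD2_c59 LD3_c40) (LK LD1_c8 LD2_c0 LD3_c22) Lrfl Lrfl
theorem f137622 : Led Lsl_gt (LP (LK LD1_c9 LD2_c48 LD3_c58)) = (LP (LK LD1_c4 LD2_c59 LD3_c17)) :=
  Lre_g IH (LK LD1_c9 LD2_c48 LD3_c58) (LK LD1_c4 LD2_c59 LD3_c17) Lrfl Lrfl
theorem f713971 : Led Lsl_ct (LP (LK LD1_c11 LD2_c40 LD3_c10)) = (LP (LK LD1_c9 LD2_c48 LD3_c58)) :=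
  Lgr Lrot91 (Lpe (f710699 IH) (Lpe (K46.f645947 IH) (Lpr_ct (f645605 IH) (Lpr_gf (f713967 IH) (Lpe (f712629 IH) (Lpr_bt (f40508 IH) (Lpe (f99585 IH) (Lpr_bf (K9.f40289 IH) (Lpr_ct (K9.f40293 IH) (Lpe (f137622 IH) (Lpn (LP (LK LD1_c9 LD2_c48 LD3_c58)))))))))))))
theorem f140180 : Led Lsl_gt (LP (LK LD1_c9 LD2_c48 LD3_c59)) = (LP (LK LD1_c17 LD2_c59 LD3_c20)) :=
  Lre_g IH (LK LD1_c9 LD2_c48 LD3_c59) (LK LD1_c17 LD2_c59 LD3_c20) Lrfl Lrfl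
theorem f642466 : Led Lsl_ct (LP (LK LD1_c9 LD2_c48 LD3_c36)) = (LP (LK LD1_c17 LD2_c58 LD3_c49)) :=
  Lre_c IH (LK LD1_c9 LD2_c48 LD3_c36) (LK LD1_c17 LD2_c58 LD3_c49) Lrfl Lrfl
theorem f644740 : Led Lsl_ft (LP (LK LD1_c17 LD2_c58 LD3_c49)) = (LP (LK LD1_c27 LD2_c41 LD3_c4)) :=
  Lgr Lrot4 (Lpe (f642466 IH) (Lpr_ff (f644737 IH) (Lpe (f644739 IH) (Lpn (LP (LK LD1_c27 LD2_c41 LD3_c4))))))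
theorem f445610 : Led Lsl_ct (LP (LK LD1_c20 LD2_c28 LD3_c34)) = (LP (LK LD1_c11 LD2_c31 LD3_c59)) :=
  Lre_c IH (LK LD1_c20 LD2_c28 LD3_c34) (LK LD1_c11 LD2_c31 LD3_c59) Lrfl Lrfl
theorem f644735 : Led Lsl_af (LP (LK LD1_c20 LD2_c28 LD3_c34)) = (LP (LK LD1_c27 LD2_c41 LD3_c4)) :=
  Lgr Lrot68 (Lpr_ct (f445610 IH) (Lpr_at (f644716 IH) (Lpr_ct (f644715 IH) (Lpn (LP (LK LD1_c27 LD2_c41 LD3_c4))))))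
theorem f642126 : Led Lsl_bt (LP (LK LD1_c11 LD2_c19 LD3_c58)) = (LP (LK LD1_c5 LD2_c44 LD3_c54)) :=
  Lre_b IH (LK LD1_c11 LD2_c19 LD3_c58) (LK LD1_c5 LD2_c44 LD3_c54) Lrfl Lrfl
theorem f642127 : Led Lsl_ct (LP (LK LD1_c11 LD2_c19 LD3_c58)) = (LP (LK LD1_c20 LD2_c17 LD3_c4)) :=
  Lre_c IH (LK LD1_c11 LD2_c19 LD3_c58) (LK LD1_c20 LD2_c17 LD3_c4) Lrfl Lrfl
theorem f144081 : Led Lsl_bt (LP (LK LD1_c4 LD2_c36 LD3_c32)) = (LP (LK LD1_c9 LD2_c9 LD3_c11)) :=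
  Lre_b IH (LK LD1_c4 LD2_c36 LD3_c32) (LK LD1_c9 LD2_c9 LD3_c11) Lrfl Lrfl
theorem f445609 : Led Lsl_bt (LP (LK LD1_c11 LD2_c31 LD3_c59)) = (LP (LK LD1_c5 LD2_c52 LD3_c51)) :=
  Lre_b IH (LK LD1_c11 LD2_c31 LD3_c59) (LK LD1_c5 LD2_c52 LD3_c51) Lrfl Lrfl
theorem f642128 : Led Lsl_gt (LP (LK LD1_c20 LD2_c17 LD3_c4)) = (LP (LK LD1_c20 LD2_c28 LD3_c34)) :=
  Lgr Lrot65 (Lpe (f642127 IH) (Lpr_bt (f642126 IH) (Lpr_gf (K50.f642122 IH) (Lpe (f144081 IH) (Lpe (K32.f144078 IH) (Lpr_gf (K32.f438816 IH) (Lpe (K32.f413502 IH) (Lpe (K32.f505109 IH) (Lpe (f445609 IH) (Lpr_ct (K45.f445615 IH) (Lpn (LP (LK LD1_c20 LD2_c28 LD3_c34)))))))))))))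
theorem f644754 : Led Lsl_gt (LP (LK LD1_c17 LD2_c58 LD3_c49)) = (LP (LK LD1_c20 LD2_c17 LD3_c4)) :=
  Lgr Lrot5 (Lpr_ft (f644740 IH) (Lpe (f644735 IH) (Lpe (f642128 IH) (Lpn (LP (LK LD1_c20 LD2_c17 LD3_c4))))))
theorem f644733 : Led Lsl_af (LP (LK LD1_c11 LD2_c31 LD3_c59)) = (LP (LK LD1_c17 LD2_c56 LD3_c4)) :=
  Lgr Lrot0 (Lpr_at (f644716 IH) (Lpn (LP (LK LD1_c17 LD2_c56 LD3_c4))))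
theorem f171786 : Led Lsl_gt (LP (LK LD1_c2 LD2_c46 LD3_c37)) = (LP (LK LD1_c1 LD2_c19 LD3_c43)) :=
  Lre_g IH (LK LD1_c2 LD2_c46 LD3_c37) (LK LD1_c1 LD2_c19 LD3_c43) Lrfl Lrfl
theorem f186067 : Led Lsl_dt (LP (LK LD1_c5 LD2_c41 LD3_c11)) = (LP (LK LD1_c2 LD2_c46 LD3_c37)) :=
  Lre_d IH (LK LD1_c5 LD2_c41 LD3_c11) (LK LD1_c2 LD2_c46 LD3_c37) Lrfl Lrfl
theorem f186068 : Led Lsl_ef (LP (LK LD1_c2 LD2_c50 LD3_c32)) = (LP (LK LD1_c5 LD2_c41 LD3_c11)) :=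
  Lgr Lrot17 (Lpe (K32.f146425 IH) (Lpe (K37.f186064 IH) (Lpr_dt (K46.f61310 IH) (Lpe (K10.f56687 IH) (Lpe (K37.f176640 IH) (Lpr_gf (K37.f186059 IH) (Lpe (K40.f186065 IH) (Lpr_dt (K50.f186066 IH) (Lpe (f171786 IH) (Lpe (f186067 IH) (Lpn (LP (LK LD1_c5 LD2_c41 LD3_c11)))))))))))))
theorem f186076 : Led Lsl_et (LP (LK LD1_c2 LD2_c50 LD3_c32)) = (LP (LK LD1_c5 LD2_c41 LD3_c11)) :=
  Lgr Lrot87 (Lpr_ef (f186068 IH) (Lpn (LP (LK LD1_c5 LD2_c41 LD3_c11))))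
theorem f186078 : Led Lsl_bt (LP (LK LD1_c5 LD2_c41 LD3_c11)) = (LP (LK LD1_c11 LD2_c12 LD3_c47)) :=
  Lre_b IH (LK LD1_c5 LD2_c41 LD3_c11) (LK LD1_c11 LD2_c12 LD3_c47) Lrfl Lrfl
theorem f186079 : Led Lsl_ef (LP (LK LD1_c5 LD2_c48 LD3_c60)) = (LP (LK LD1_c11 LD2_c12 LD3_c47)) :=
  Lgr Lrot29 (Lpr_bt (K48.f146431 IH) (Lpr_et (f186076 IH) (Lpr_bt (f186078 IH) (Lpn (LP (LK LD1_c11 LD2_c12 LD3_c47))))))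
theorem f186086 : Led Lsl_dt (LP (LK LD1_c11 LD2_c12 LD3_c47)) = (LP (LK LD1_c5 LD2_c41 LD3_c9)) :=
  Lre_d IH (LK LD1_c11 LD2_c12 LD3_c47) (LK LD1_c5 LD2_c41 LD3_c9) Lrfl Lrfl
theorem f644388 : Led Lsl_gf (LP (LK LD1_c9 LD2_c45 LD3_c30)) = (LP (LK LD1_c5 LD2_c41 LD3_c9)) :=
  Lgr Lrot145 (Lpe (K44.f582456 IH) (Lpr_et (K44.f450127 IH) (Lpe (K40.f450123 IH) (Lpr_dt (K40.f421064 IH) (Lpr_gt (K38.f496164 IH) (Lpqs (K38.f548703 IH) (Lpe (K44.f104889 IH) (Lpr_et (K51.f104901 IH) (Lpr_gt (K48.f644386 IH) (Lpr_ef (f186079 IH) (Lpr_dt (f186086 IH) (Lpn (LP (LK LD1_c5 LD2_c41 LD3_c9))))))))))))))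
theorem f582463 : Led Lsl_et (LP (LK LD1_c4 LD2_c57 LD3_c13)) = (LP (LK LD1_c9 LD2_c45 LD3_c30)) :=
  Lre_e IH (LK LD1_c4 LD2_c57 LD3_c13) (LK LD1_c9 LD2_c45 LD3_c30) Lrfl Lrfl
theorem f40277 : Led Lsl_et (LP (LK LD1_c2 LD2_c26 LD3_c37)) = (LP (LK LD1_c4 LD2_c57 LD3_c29)) :=
  Lre_e IH (LK LD1_c2 LD2_c26 LD3_c37) (LK LD1_c4 LD2_c57 LD3_c29) Lrfl Lrfl
theorem f140554 : Led Lsl_gt (LP (LK LD1_c4 LD2_c57 LD3_c29)) = (LP (LK LD1_c9 LD2_c45 LD3_c49)) :=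
  Lre_g IH (LK LD1_c4 LD2_c57 LD3_c29) (LK LD1_c9 LD2_c45 LD3_c49) Lrfl Lrfl
theorem f140555 : Led Lsl_dt (LP (LK LD1_c9 LD2_c45 LD3_c49)) = (LP (LK LD1_c17 LD2_c55 LD3_c30)) :=
  Lre_d IH (LK LD1_c9 LD2_c45 LD3_c49) (LK LD1_c17 LD2_c55 LD3_c30) Lrfl Lrfl
theorem f642460 : Led Lsl_dt (LP (LK LD1_c9 LD2_c50 LD3_c22)) = (LP (LK LD1_c9 LD2_c48 LD3_c36)) :=
  Lre_d IH (LK LD1_c9 LD2_c50 LD3_c22) (LK LD1_c9 LD2_c48 LD3_c36) Lrfl Lrfl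
theorem f640876 : Led Lsl_dt (LP (LK LD1_c5 LD2_c52 LD3_c49)) = (LP (LK LD1_c11 LD2_c31 LD3_c58)) :=
  Lre_d IH (LK LD1_c5 LD2_c52 LD3_c49) (LK LD1_c11 LD2_c31 LD3_c58) Lrfl Lrfl
theorem f642472 : Led Lsl_af (LP (LK LD1_c9 LD2_c50 LD3_c22)) = (LP (LK LD1_c11 LD2_c31 LD3_c58)) :=
  Lgr Lrot117 (Lpr_dt (f642460 IH) (Lpr_at (K41.f642462 IH) (Lpr_dt (f640876 IH) (Lpn (LP (LK LD1_c11 LD2_c31 LD3_c58))))))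
theorem f642477 : Led Lsl_gt (LP (LK LD1_c9 LD2_c50 LD3_c23)) = (LP (LK LD1_c4 LD2_c59 LD3_c56)) :=
  Lre_g IH (LK LD1_c9 LD2_c50 LD3_c23) (LK LD1_c4 LD2_c59 LD3_c56) Lrfl Lrfl
theorem f642478 : Led Lsl_ft (LP (LK LD1_c9 LD2_c50 LD3_c23)) = (LP (LK LD1_c11 LD2_c31 LD3_c58)) :=
  Lgr Lrot2 (Lpr_gt (f642477 IH) (Lpr_gt (K46.f415775 IH) (Lpr_af (f642472 IH) (Lpn (LP (LK LD1_c11 LD2_c31 LD3_c58))))))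
theorem f642484 : Led Lsl_ff (LP (LK LD1_c9 LD2_c50 LD3_c23)) = (LP (LK LD1_c11 LD2_c31 LD3_c58)) :=
  Lgr Lrot3 (Lpr_ft (f642478 IH) (Lpn (LP (LK LD1_c11 LD2_c31 LD3_c58))))
theorem f642488 : Led Lsl_dt (LP (LK LD1_c9 LD2_c50 LD3_c23)) = (LP (LK LD1_c11 LD2_c31 LD3_c59)) :=
  Lgr Lrot60 (Lpr_ff (f642484 IH) (Lpe (f640876 IH) (Lpe (K45.f505772 IH) (Lpn (LP (LK LD1_c11 LD2_c31 LD3_c59))))))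
theorem f186071 : Led Lsl_bt (LP (LK LD1_c2 LD2_c50 LD3_c32)) = (LP (LK LD1_c5 LD2_c48 LD3_c60)) :=
  Lre_b IH (LK LD1_c2 LD2_c50 LD3_c32) (LK LD1_c5 LD2_c48 LD3_c60) Lrfl Lrfl
theorem f186072 : Led Lsl_bt (LP (LK LD1_c11 LD2_c12 LD3_c47)) = (LP (LK LD1_c5 LD2_c41 LD3_c11)) :=
  Lre_b IH (LK LD1_c11 LD2_c12 LD3_c47) (LK LD1_c5 LD2_c41 LD3_c11) Lrfl Lrfl
theorem f186073 : Led Lsl_et (LP (LK LD1_c5 LD2_c48 LD3_c60)) = (LP (LK LD1_c11 LD2_c12 LD3_c47)) :=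
  Lgr Lrot74 (Lpe (f186071 IH) (Lpr_ef (f186068 IH) (Lpe (f186072 IH) (Lpn (LP (LK LD1_c11 LD2_c12 LD3_c47))))))
theorem f642490 : Led Lsl_ef (LP (LK LD1_c9 LD2_c50 LD3_c23)) = (LP (LK LD1_c5 LD2_c41 LD3_c9)) :=
  Lgr Lrot73 (Lpr_dt (f642488 IH) (Lpr_et (K41.f505124 IH) (Lpr_dt (K48.f186093 IH) (Lpr_et (f186073 IH) (Lpr_dt (f186086 IH) (Lpn (LP (LK LD1_c5 LD2_c41 LD3_c9))))))))
theorem f642492 : Led Lsl_et (LP (LK LD1_c9 LD2_c50 LD3_c23)) = (LP (LK LD1_c5 LD2_c41 LD3_c9)) :=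
  Lgr Lrot87 (Lpr_ef (f642490 IH) (Lpn (LP (LK LD1_c5 LD2_c41 LD3_c9))))
theorem f644395 : Led Lsl_gt (LP (LK LD1_c17 LD2_c55 LD3_c30)) = (LP (LK LD1_c11 LD2_c31 LD3_c59)) :=
  Lgr Lrot139 (Lpe (f140555 IH) (Lpe (f140554 IH) (Lpe (f40277 IH) (Lpr_dt (K9.f40147 IH) (Lpr_gf (K30.f495253 IH) (Lpqs (K41.f558330 IH) (Lpe (K43.f558314 IH) (Lpr_et (f582463 IH) (Lpr_gf (f644388 IH) (Lpe (f642492 IH) (Lpr_dt (f642488 IH) (Lpn (LP (LK LD1_c11 LD2_c31 LD3_c59))))))))))))))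
theorem f644746 : Led Lsl_gt (LP (LK LD1_c9 LD2_c48 LD3_c36)) = (LP (LK LD1_c17 LD2_c55 LD3_c30)) :=
  Lgr Lrot5 (Lpr_ft (f644742 IH) (Lpe (f644733 IH) (Lpe (f644395 IH) (Lpn (LP (LK LD1_c17 LD2_c55 LD3_c30))))))
theorem f415220 : Led Lsl_dt (LP (LK LD1_c17 LD2_c55 LD3_c30)) = (LP (LK LD1_c9 LD2_c45 LD3_c49)) :=
  Lre_d IH (LK LD1_c17 LD2_c55 LD3_c30) (LK LD1_c9 LD2_c45 LD3_c49) Lrfl Lrfl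
theorem f384155 : Led Lsl_gt (LP (LK LD1_c9 LD2_c45 LD3_c49)) = (LP (LK LD1_c4 LD2_c57 LD3_c41)) :=
  Lre_g IH (LK LD1_c9 LD2_c45 LD3_c49) (LK LD1_c4 LD2_c57 LD3_c41) Lrfl Lrfl
theorem f140840 : Led Lsl_dt (LP (LK LD1_c4 LD2_c57 LD3_c41)) = (LP (LK LD1_c2 LD2_c27 LD3_c46)) :=
  Lre_d IH (LK LD1_c4 LD2_c57 LD3_c41) (LK LD1_c2 LD2_c27 LD3_c46) Lrfl Lrfl
theorem f140850 : Led Lsl_dt (LP (LK LD1_c9 LD2_c50 LD3_c11)) = (LP (LK LD1_c4 LD2_c59 LD3_c52)) :=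
  Lre_d IH (LK LD1_c9 LD2_c50 LD3_c11) (LK LD1_c4 LD2_c59 LD3_c52) Lrfl Lrfl
theorem f415221 : Led Lsl_gt (LP (LK LD1_c17 LD2_c59 LD3_c20)) = (LP (LK LD1_c9 LD2_c50 LD3_c11)) :=
  Lre_g IH (LK LD1_c17 LD2_c59 LD3_c20) (LK LD1_c9 LD2_c50 LD3_c11) Lrfl Lrfl
theorem f644756 : Led Lsl_df (LP (LK LD1_c17 LD2_c59 LD3_c20)) = (LP (LK LD1_c20 LD2_c17 LD3_c4)) :=
  Lgr Lrot153 (Lpr_gt (f415221 IH) (Lpr_dt (f140850 IH) (Lpe (K32.f77373 IH) (Lpe (f140840 IH) (Lpe (f384155 IH) (Lpe (f415220 IH) (Lpe (f644746 IH) (Lpe (K41.f642458 IH) (Lpr_gt (f644754 IH) (Lpn (LP (LK LD1_c20 LD2_c17 LD3_c4))))))))))))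
theorem f644759 : Led Lsl_dt (LP (LK LD1_c17 LD2_c59 LD3_c20)) = (LP (LK LD1_c20 LD2_c17 LD3_c4)) :=
  Lgr Lrot42 (Lpr_df (f644756 IH) (Lpn (LP (LK LD1_c20 LD2_c17 LD3_c4))))
theorem f140559 : Led Lsl_ct (LP (LK LD1_c20 LD2_c17 LD3_c4)) = (LP (LK LD1_c11 LD2_c19 LD3_c58)) :=
  Lre_c IH (LK LD1_c20 LD2_c17 LD3_c4) (LK LD1_c11 LD2_c19 LD3_c58) Lrfl Lrfl
theorem f140558 : Led Lsl_dt (LP (LK LD1_c5 LD2_c44 LD3_c52)) = (LP (LK LD1_c11 LD2_c19 LD3_c58)) :=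
  Lre_d IH (LK LD1_c5 LD2_c44 LD3_c52) (LK LD1_c11 LD2_c19 LD3_c58) Lrfl Lrfl
theorem f713975 : Led Lsl_gt (LP (LK LD1_c11 LD2_c12 LD3_c35)) = (LP (LK LD1_c5 LD2_c44 LD3_c52)) :=
  Lgr Lrot189 (Lpe (K51.f549452 IH) (Lpe (f424766 IH) (Lpr_ct (f713971 IH) (Lpr_gt (f137622 IH) (Lpr_dt (K45.f26432 IH) (Lpr_gt (f140180 IH) (Lpr_dt (f644759 IH) (Lpr_ct (f140559 IH) (Lpe (f140558 IH) (Lpn (LP (LK LD1_c5 LD2_c44 LD3_c52))))))))))))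
theorem f140499 : Led Lsl_ct (LP (LK LD1_c5 LD2_c44 LD3_c52)) = (LP (LK LD1_c11 LD2_c19 LD3_c57)) :=
  Lre_c IH (LK LD1_c5 LD2_c44 LD3_c52) (LK LD1_c11 LD2_c19 LD3_c57) Lrfl Lrfl
theorem f40929 : Led Lsl_ct (LP (LK LD1_c4 LD2_c57 LD3_c41)) = (LP (LK LD1_c9 LD2_c46 LD3_c8)) :=
  Lre_c IH (LK LD1_c4 LD2_c57 LD3_c41) (LK LD1_c9 LD2_c46 LD3_c8) Lrfl Lrfl
theorem f416003 : Led Lsl_bt (LP (LK LD1_c0 LD2_c37 LD3_c11)) = (LP (LK LD1_c1 LD2_c20 LD3_c20)) :=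
  Lre_b IH (LK LD1_c0 LD2_c37 LD3_c11) (LK LD1_c1 LD2_c20 LD3_c20) Lrfl Lrfl
theorem f140498 : Led Lsl_bt (LP (LK LD1_c5 LD2_c44 LD3_c52)) = (LP (LK LD1_c2 LD2_c48 LD3_c15)) :=
  Lre_b IH (LK LD1_c5 LD2_c44 LD3_c52) (LK LD1_c2 LD2_c48 LD3_c15) Lrfl Lrfl
theorem f444614 : Led Lsl_gf (LP (LK LD1_c9 LD2_c46 LD3_c8)) = (LP (LK LD1_c11 LD2_c19 LD3_c57)) :=
  Lgr Lrot126 (Lpe (f40929 IH) (Lpr_bt (K51.f40241 IH) (Lpe (K16.f40945 IH) (Lpr_ct (K35.f444592 IH) (Lpr_gt (K35.f444591 IH) (Lpe (K35.f415887 IH) (Lpr_bt (f416003 IH) (Lpr_gt (K41.f444613 IH) (Lpe (f140498 IH) (Lpr_ct (f140499 IH) (Lpn (LP (LK LD1_c11 LD2_c19 LD3_c57)))))))))))))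
theorem f40947 : Led Lsl_ct (LP (LK LD1_c9 LD2_c46 LD3_c8)) = (LP (LK LD1_c4 LD2_c57 LD3_c41)) :=
  Lre_c IH (LK LD1_c9 LD2_c46 LD3_c8) (LK LD1_c4 LD2_c57 LD3_c41) Lrfl Lrfl
theorem f77383 : Led Lsl_ct (LP (LK LD1_c4 LD2_c59 LD3_c52)) = (LP (LK LD1_c2 LD2_c27 LD3_c46)) :=
  Lre_c IH (LK LD1_c4 LD2_c59 LD3_c52) (LK LD1_c2 LD2_c27 LD3_c46) Lrfl Lrfl
def v5052 : LQ := Led Lsl_gf (LP (LK LD1_c2 LD2_c56 LD3_c46))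
theorem f641512 : Led Lsl_gf (LP (LK LD1_c2 LD2_c56 LD3_c46)) = v5052 :=
  Lrfl
theorem f713988 : (LP (LK LD1_c5 LD2_c57 LD3_c36)) = v5052 :=
  (Llr Lrot6 (Lpr_df (K51.f549446 IH) (Lpr_gt (f713975 IH) (Lpr_ct (f140499 IH) (Lpe (f444614 IH) (Lpr_ct (f40947 IH) (Lpe (K17.f104925 IH) (Lpe (f77383 IH) (Lpe (K32.f140173 IH) (Lpe (K9.f140168 IH) (Lpr_gf (f641512 IH) (Lpn v5052)))))))))))).symm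
theorem f713990 : K46.v5104 = (LP (LK LD1_c6 LD2_c1 LD3_c0)) :=
  (Llr Lrot26 (Lpr_af (f710695 IH) (Lpe (f424621 IH) (Lpqs (f713988 IH) (Lpe (f641512 IH) (Lpr_gt (f140179 IH) (Lpn (LP (LK LD1_c6 LD2_c1 LD3_c0))))))))).symm
theorem f714030 : Led Lsl_at v5053 = (LP (LK LD1_c11 LD2_c40 LD3_c10)) :=
  Lgr Lrot26 (Lpe (f641517 IH) (Lpr_gt (f140179 IH) (Lpq (f713990 IH) (Lpr_gt (f710699 IH) (Lpn (LP (LK LD1_c11 LD2_c40 LD3_c10)))))))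
theorem f641520 : Led Lsl_ff (LP (LK LD1_c2 LD2_c56 LD3_c46)) = v5053 :=
  Lgr Lrot3 (Lpr_ft (f641517 IH) (Lpn v5053))
def v1694 : LQ := Led Lsl_ft (LP (LK LD1_c1 LD2_c24 LD3_c9))
theorem f500861 : Led Lsl_ft (LP (LK LD1_c1 LD2_c24 LD3_c9)) = v1694 :=
  Lrfl
theorem f641521 : Led Lsl_bt v1694 = v5053 :=
  Lgr Lrot35 (Lpe (f500861 IH) (Lpe (K9.f140167 IH) (Lpr_ff (f641520 IH) (Lpn v5053))))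
theorem f500864 : Led Lsl_ff (LP (LK LD1_c1 LD2_c24 LD3_c9)) = v1694 :=
  Lgr Lrot3 (Lpr_ft (f500861 IH) (Lpn v1694))
theorem f500869 : Led Lsl_at (LP (LK LD1_c1 LD2_c24 LD3_c10)) = v1694 :=
  Lgr Lrot66 (Lpr_ff (K41.f500856 IH) (Lpe (K41.f500838 IH) (Lpr_ff (f500864 IH) (Lpn v1694))))
theorem f415571 : Led Lsl_bt (LP (LK LD1_c2 LD2_c56 LD3_c50)) = (LP (LK LD1_c1 LD2_c24 LD3_c10)) :=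
  Lre_b IH (LK LD1_c2 LD2_c56 LD3_c50) (LK LD1_c1 LD2_c24 LD3_c10) Lrfl Lrfl
theorem f500871 : Led Lsl_at (LP (LK LD1_c6 LD2_c1 LD3_c17)) = (LP (LK LD1_c2 LD2_c56 LD3_c50)) :=
  Lre_a IH (LK LD1_c6 LD2_c1 LD3_c17) (LK LD1_c2 LD2_c56 LD3_c50) Lrfl Lrfl
theorem f714032 : Led Lsl_bf (LP (LK LD1_c6 LD2_c1 LD3_c17)) = (LP (LK LD1_c11 LD2_c40 LD3_c10)) :=
  Lgr Lrot81 (Lpr_at (f500871 IH) (Lpr_bt (f415571 IH) (Lpr_at (f500869 IH) (Lpr_bt (f641521 IH) (Lpr_at (f714030 IH) (Lpn (LP (LK LD1_c11 LD2_c40 LD3_c10))))))))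
theorem f714033 : Led Lsl_bt (LP (LK LD1_c11 LD2_c40 LD3_c10)) = (LP (LK LD1_c6 LD2_c1 LD3_c17)) :=
  Leop (Lpr_bf (f714032 IH) (Lpn (LP (LK LD1_c11 LD2_c40 LD3_c10))))
theorem seed_765 : LEOK LG_b (LK LD1_c11 LD2_c40 LD3_c10) :=
  Leoe_b (LK LD1_c11 LD2_c40 LD3_c10) (f714033 IH)
theorem f444253 : Led Lsl_dt (LP (LK LD1_c6 LD2_c8 LD3_c59)) = (LP (LK LD1_c3 LD2_c0 LD3_c49)) :=
  Lre_d IH (LK LD1_c6 LD2_c8 LD3_c59) (LK LD1_c3 LD2_c0 LD3_c49) Lrfl Lrfl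
def v5179 : LQ := Led Lsl_gt (LP (LK LD1_c3 LD2_c0 LD3_c49))
theorem f646372 : Led Lsl_gt (LP (LK LD1_c3 LD2_c0 LD3_c49)) = v5179 :=
  Lrfl
def v13112 : LQ := Led Lsl_at (LP (LK LD1_c4 LD2_c40 LD3_c3))
theorem f701164 : Led Lsl_at (LP (LK LD1_c4 LD2_c40 LD3_c3)) = v13112 :=
  Lrfl
theorem f639415 : Led Lsl_ff (LP (LK LD1_c4 LD2_c40 LD3_c7)) = (LP (LK LD1_c3 LD2_c0 LD3_c47)) :=
  Lgr Lrot19 (Lpr_dt (K16.f193909 IH) (Lpq (K50.f639397 IH) (Lpe (K50.f502839 IH) (Lpr_dt (K29.f23079 IH) (Lpn (LP (LK LD1_c3 LD2_c0 LD3_c47)))))))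
theorem f639424 : Led Lsl_at (LP (LK LD1_c4 LD2_c40 LD3_c7)) = (LP (LK LD1_c3 LD2_c0 LD3_c50)) :=
  Lgr Lrot26 (Lpr_ff (f639415 IH) (Lpr_gt (K29.f443717 IH) (Lpr_gt (K32.f411192 IH) (Lpn (LP (LK LD1_c3 LD2_c0 LD3_c50))))))
theorem f639426 : Led Lsl_af (LP (LK LD1_c4 LD2_c40 LD3_c7)) = (LP (LK LD1_c3 LD2_c0 LD3_c50)) :=
  Lgr Lrot0 (Lpr_at (f639424 IH) (Lpn (LP (LK LD1_c3 LD2_c0 LD3_c50))))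
theorem f639456 : Led Lsl_ft (LP (LK LD1_c4 LD2_c40 LD3_c4)) = (LP (LK LD1_c3 LD2_c0 LD3_c50)) :=
  Lgr Lrot2 (Lpe (K35.f27067 IH) (Lpr_gt (K16.f421000 IH) (Lpr_af (f639426 IH) (Lpn (LP (LK LD1_c3 LD2_c0 LD3_c50))))))
theorem f639462 : Led Lsl_ff (LP (LK LD1_c4 LD2_c40 LD3_c4)) = (LP (LK LD1_c3 LD2_c0 LD3_c50)) :=
  Lgr Lrot3 (Lpr_ft (f639456 IH) (Lpn (LP (LK LD1_c3 LD2_c0 LD3_c50))))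
theorem f639466 : Led Lsl_bt (LP (LK LD1_c4 LD2_c40 LD3_c4)) = (LP (LK LD1_c9 LD2_c15 LD3_c38)) :=
  Lre_b IH (LK LD1_c4 LD2_c40 LD3_c4) (LK LD1_c9 LD2_c15 LD3_c38) Lrfl Lrfl
theorem f411200 : Led Lsl_bt (LP (LK LD1_c6 LD2_c8 LD3_c59)) = (LP (LK LD1_c3 LD2_c0 LD3_c50)) :=
  Lre_b IH (LK LD1_c6 LD2_c8 LD3_c59) (LK LD1_c3 LD2_c0 LD3_c50) Lrfl Lrfl
theorem f639467 : Led Lsl_ft (LP (LK LD1_c9 LD2_c15 LD3_c38)) = (LP (LK LD1_c6 LD2_c8 LD3_c59)) :=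
  Lgr Lrot75 (Lpe (f639466 IH) (Lpr_ff (f639462 IH) (Lpe (f411200 IH) (Lpn (LP (LK LD1_c6 LD2_c8 LD3_c59))))))
theorem f445891 : Led Lsl_dt (LP (LK LD1_c4 LD2_c40 LD3_c3)) = (LP (LK LD1_c9 LD2_c15 LD3_c38)) :=
  Lre_d IH (LK LD1_c4 LD2_c40 LD3_c3) (LK LD1_c9 LD2_c15 LD3_c38) Lrfl Lrfl
theorem f639471 : Led Lsl_ff (LP (LK LD1_c4 LD2_c40 LD3_c3)) = (LP (LK LD1_c3 LD2_c0 LD3_c49)) :=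
  Lgr Lrot19 (Lpr_dt (f445891 IH) (Lpr_ft (f639467 IH) (Lpr_dt (f444253 IH) (Lpn (LP (LK LD1_c3 LD2_c0 LD3_c49))))))
theorem f701168 : Led Lsl_gt v5179 = v13112 :=
  Lgr Lrot46 (Lpe (f646372 IH) (Lpe (f639471 IH) (Lpr_at (f701164 IH) (Lpn v13112))))
theorem f69222 : Led Lsl_gt (LP (LK LD1_c3 LD2_c10 LD3_c14)) = (LP (LK LD1_c6 LD2_c25 LD3_c10)) :=
  Lre_g IH (LK LD1_c3 LD2_c10 LD3_c14) (LK LD1_c6 LD2_c25 LD3_c10) Lrfl Lrfl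
theorem f23067 : Led Lsl_et (LP (LK LD1_c4 LD2_c39 LD3_c3)) = (LP (LK LD1_c2 LD2_c16 LD3_c31)) :=
  Lre_e IH (LK LD1_c4 LD2_c39 LD3_c3) (LK LD1_c2 LD2_c16 LD3_c31) Lrfl Lrfl
theorem f639805 : Led Lsl_dt (LP (LK LD1_c11 LD2_c22 LD3_c23)) = (LP (LK LD1_c5 LD2_c46 LD3_c2)) :=
  Lre_d IH (LK LD1_c11 LD2_c22 LD3_c23) (LK LD1_c5 LD2_c46 LD3_c2) Lrfl Lrfl
theorem f496816 : Led Lsl_gf (LP (LK LD1_c6 LD2_c25 LD3_c20)) = (LP (LK LD1_c5 LD2_c56 LD3_c32)) :=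
  Lgr Lrot76 (Lpr_af (K32.f496810 IH) (Lpe (f496776 IH) (Lpr_gt (K50.f141816 IH) (Lpn (LP (LK LD1_c5 LD2_c56 LD3_c32))))))
theorem f157097 : Led Lsl_bt (LP (LK LD1_c11 LD2_c38 LD3_c27)) = (LP (LK LD1_c5 LD2_c56 LD3_c40)) :=
  Lre_b IH (LK LD1_c11 LD2_c38 LD3_c27) (LK LD1_c5 LD2_c56 LD3_c40) Lrfl Lrfl
theorem f496730 : Led Lsl_ef (LP (LK LD1_c6 LD2_c25 LD3_c20)) = (LP (LK LD1_c5 LD2_c56 LD3_c40)) :=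
  Lgr Lrot29 (Lpr_bt (K51.f150326 IH) (Lpr_et (K32.f496706 IH) (Lpr_bt (f157097 IH) (Lpn (LP (LK LD1_c5 LD2_c56 LD3_c40))))))
theorem f714122 : Led Lsl_gf (LP (LK LD1_c6 LD2_c8 LD3_c28)) = (LP (LK LD1_c11 LD2_c38 LD3_c40)) :=
  Lgr Lrot145 (Lpr_df (f23048 IH) (Lpr_et (f23067 IH) (Lpr_gt (f23068 IH) (Lpq (f713935 IH) (Lpr_dt (f707058 IH) (Lpe (K51.f640150 IH) (Lpe (f639805 IH) (Lpr_et (K51.f646802 IH) (Lpq (K51.f706306 IH) (Lpe (f496816 IH) (Lpr_ef (f496730 IH) (Lpr_dt (K42.f496738 IH) (Lpn (LP (LK LD1_c11 LD2_c38 LD3_c40)))))))))))))))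
theorem f22981 : Led Lsl_bt (LP (LK LD1_c3 LD2_c0 LD3_c26)) = (LP (LK LD1_c6 LD2_c8 LD3_c28)) :=
  Lre_b IH (LK LD1_c3 LD2_c0 LD3_c26) (LK LD1_c6 LD2_c8 LD3_c28) Lrfl Lrfl
theorem f22982 : Led Lsl_bt (LP (LK LD1_c4 LD2_c39 LD3_c3)) = (LP (LK LD1_c2 LD2_c16 LD3_c33)) :=
  Lre_b IH (LK LD1_c4 LD2_c39 LD3_c3) (LK LD1_c2 LD2_c16 LD3_c33) Lrfl Lrfl
theorem f22983 : Led Lsl_dt (LP (LK LD1_c6 LD2_c8 LD3_c28)) = (LP (LK LD1_c4 LD2_c39 LD3_c3)) :=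
  Lgr Lrot79 (Lpe (f22981 IH) (Lpr_df (K0.f22970 IH) (Lpe (f22982 IH) (Lpn (LP (LK LD1_c4 LD2_c39 LD3_c3))))))
theorem f23070 : Led Lsl_ct (LP (LK LD1_c4 LD2_c39 LD3_c3)) = (LP (LK LD1_c9 LD2_c13 LD3_c51)) :=
  Lre_c IH (LK LD1_c4 LD2_c39 LD3_c3) (LK LD1_c9 LD2_c13 LD3_c51) Lrfl Lrfl
theorem f23057 : Led Lsl_dt (LP (LK LD1_c17 LD2_c8 LD3_c14)) = (LP (LK LD1_c9 LD2_c13 LD3_c51)) :=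
  Lre_d IH (LK LD1_c17 LD2_c8 LD3_c14) (LK LD1_c9 LD2_c13 LD3_c51) Lrfl Lrfl
theorem f83017 : Led Lsl_dt (LP (LK LD1_c2 LD2_c54 LD3_c17)) = (LP (LK LD1_c5 LD2_c55 LD3_c52)) :=
  Lre_d IH (LK LD1_c2 LD2_c54 LD3_c17) (LK LD1_c5 LD2_c55 LD3_c52) Lrfl Lrfl
theorem f140965 : Led Lsl_et (LP (LK LD1_c9 LD2_c13 LD3_c51)) = (LP (LK LD1_c4 LD2_c39 LD3_c1)) :=
  Lre_e IH (LK LD1_c9 LD2_c13 LD3_c51) (LK LD1_c4 LD2_c39 LD3_c1) Lrfl Lrfl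
theorem f23071 : Led Lsl_dt (LP (LK LD1_c9 LD2_c13 LD3_c51)) = (LP (LK LD1_c17 LD2_c8 LD3_c14)) :=
  Lre_d IH (LK LD1_c9 LD2_c13 LD3_c51) (LK LD1_c17 LD2_c8 LD3_c14) Lrfl Lrfl
theorem f713928 : Led Lsl_gf (LP (LK LD1_c16 LD2_c59 LD3_c36)) = (LP (LK LD1_c17 LD2_c8 LD3_c14)) :=
  Lgr Lrot145 (Lpe (K4.f83019 IH) (Lpr_et (K4.f83018 IH) (Lpe (K6.f83015 IH) (Lpr_dt (f83017 IH) (Lpe (K6.f139073 IH) (Lpr_df (K36.f161459 IH) (Lpr_et (f161461 IH) (Lpq (f713883 IH) (Lpe (f700977 IH) (Lpe (f140965 IH) (Lpr_dt (f23071 IH) (Lpn (LP (LK LD1_c17 LD2_c8 LD3_c14))))))))))))))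
theorem f24122 : Led Lsl_dt (LP (LK LD1_c5 LD2_c56 LD3_c43)) = (LP (LK LD1_c11 LD2_c38 LD3_c44)) :=
  Lre_d IH (LK LD1_c5 LD2_c56 LD3_c43) (LK LD1_c11 LD2_c38 LD3_c44) Lrfl Lrfl
theorem f117478 : Led Lsl_af (LP (LK LD1_c16 LD2_c59 LD3_c36)) = (LP (LK LD1_c11 LD2_c38 LD3_c44)) :=
  Lgr Lrot117 (Lpr_dt (K4.f117477 IH) (Lpr_at (K4.f117468 IH) (Lpr_dt (f24122 IH) (Lpn (LP (LK LD1_c11 LD2_c38 LD3_c44))))))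
theorem f24119 : Led Lsl_ft (LP (LK LD1_c20 LD2_c37 LD3_c56)) = (LP (LK LD1_c11 LD2_c38 LD3_c44)) :=
  Lre_f IH (LK LD1_c20 LD2_c37 LD3_c56) (LK LD1_c11 LD2_c38 LD3_c44) Lrfl Lrfl
theorem f713930 : Led Lsl_gt (LP (LK LD1_c20 LD2_c37 LD3_c56)) = (LP (LK LD1_c17 LD2_c8 LD3_c14)) :=
  Lgr Lrot5 (Lpr_ft (f24119 IH) (Lpe (f117478 IH) (Lpr_gf (f713928 IH) (Lpn (LP (LK LD1_c17 LD2_c8 LD3_c14))))))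
theorem f24110 : Led Lsl_dt (LP (LK LD1_c11 LD2_c38 LD3_c45)) = (LP (LK LD1_c20 LD2_c37 LD3_c56)) :=
  Lre_d IH (LK LD1_c11 LD2_c38 LD3_c45) (LK LD1_c20 LD2_c37 LD3_c56) Lrfl Lrfl
theorem f496805 : Led Lsl_af (LP (LK LD1_c5 LD2_c56 LD3_c40)) = (LP (LK LD1_c6 LD2_c25 LD3_c11)) :=
  Lgr Lrot0 (Lpr_at (K32.f496796 IH) (Lpn (LP (LK LD1_c6 LD2_c25 LD3_c11))))
theorem f499893 : Led Lsl_gf (LP (LK LD1_c5 LD2_c56 LD3_c40)) = (LP (LK LD1_c6 LD2_c25 LD3_c10)) :=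
  Lgr Lrot76 (Lpr_af (f496805 IH) (Lpe (K32.f496767 IH) (Lpr_gt (f69222 IH) (Lpn (LP (LK LD1_c6 LD2_c25 LD3_c10))))))
theorem f116849 : Led Lsl_ct (LP (LK LD1_c12 LD2_c23 LD3_c22)) = (LP (LK LD1_c6 LD2_c25 LD3_c10)) :=
  Lre_c IH (LK LD1_c12 LD2_c23 LD3_c22) (LK LD1_c6 LD2_c25 LD3_c10) Lrfl Lrfl
theorem f714128 : Led Lsl_gf (LP (LK LD1_c11 LD2_c38 LD3_c45)) = (LP (LK LD1_c12 LD2_c23 LD3_c22)) :=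
  Lgr Lrot144 (Lpr_dt (f24110 IH) (Lpr_gt (f713930 IH) (Lpr_dt (f23057 IH) (Lpe (f23070 IH) (Lpe (f22983 IH) (Lpr_gf (f714122 IH) (Lpe (K42.f496738 IH) (Lpr_gf (f499893 IH) (Lpe (f116849 IH) (Lpn (LP (LK LD1_c12 LD2_c23 LD3_c22))))))))))))
theorem f100326 : Led Lsl_ct (LP (LK LD1_c2 LD2_c50 LD3_c3)) = (LP (LK LD1_c5 LD2_c48 LD3_c1)) :=
  Lre_c IH (LK LD1_c2 LD2_c50 LD3_c3) (LK LD1_c5 LD2_c48 LD3_c1) Lrfl Lrfl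
theorem f117236 : Led Lsl_af (LP (LK LD1_c2 LD2_c50 LD3_c3)) = (LP (LK LD1_c2 LD2_c51 LD3_c52)) :=
  Lgr Lrot68 (Lpr_ct (f100326 IH) (Lpr_at (K4.f117228 IH) (Lpr_ct (f24121 IH) (Lpn (LP (LK LD1_c2 LD2_c51 LD3_c52))))))
theorem f64356 : Led Lsl_gt (LP (LK LD1_c5 LD2_c48 LD3_c2)) = (LP (LK LD1_c2 LD2_c50 LD3_c3)) :=
  Lre_g IH (LK LD1_c5 LD2_c48 LD3_c2) (LK LD1_c2 LD2_c50 LD3_c3) Lrfl Lrfl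
theorem f440847 : Led Lsl_gf (LP (LK LD1_c5 LD2_c48 LD3_c2)) = (LP (LK LD1_c5 LD2_c51 LD3_c13)) :=
  Lgr Lrot47 (Lpr_gt (f64356 IH) (Lpr_af (f117236 IH) (Lpe (K51.f117831 IH) (Lpn (LP (LK LD1_c5 LD2_c51 LD3_c13))))))
theorem f64359 : Led Lsl_ct (LP (LK LD1_c5 LD2_c48 LD3_c2)) = (LP (LK LD1_c11 LD2_c25 LD3_c41)) :=
  Lre_c IH (LK LD1_c5 LD2_c48 LD3_c2) (LK LD1_c11 LD2_c25 LD3_c41) Lrfl Lrfl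
theorem f57516 : Led Lsl_et (LP (LK LD1_c1 LD2_c21 LD3_c10)) = (LP (LK LD1_c2 LD2_c50 LD3_c17)) :=
  Lre_e IH (LK LD1_c1 LD2_c21 LD3_c10) (LK LD1_c2 LD2_c50 LD3_c17) Lrfl Lrfl
theorem f57236 : Led Lsl_gt (LP (LK LD1_c2 LD2_c50 LD3_c17)) = (LP (LK LD1_c5 LD2_c48 LD3_c22)) :=
  Lre_g IH (LK LD1_c2 LD2_c50 LD3_c17) (LK LD1_c5 LD2_c48 LD3_c22) Lrfl Lrfl
theorem f57237 : Led Lsl_dt (LP (LK LD1_c5 LD2_c48 LD3_c22)) = (LP (LK LD1_c11 LD2_c26 LD3_c11)) :=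
  Lre_d IH (LK LD1_c5 LD2_c48 LD3_c22) (LK LD1_c11 LD2_c26 LD3_c11) Lrfl Lrfl
theorem f64350 : Led Lsl_gt (LP (LK LD1_c11 LD2_c26 LD3_c11)) = (LP (LK LD1_c20 LD2_c23 LD3_c44)) :=
  Lre_g IH (LK LD1_c11 LD2_c26 LD3_c11) (LK LD1_c20 LD2_c23 LD3_c44) Lrfl Lrfl
theorem f64351 : Led Lsl_dt (LP (LK LD1_c20 LD2_c23 LD3_c11)) = (LP (LK LD1_c20 LD2_c23 LD3_c44)) :=
  Lre_d IH (LK LD1_c20 LD2_c23 LD3_c11) (LK LD1_c20 LD2_c23 LD3_c44) Lrfl Lrfl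
theorem f64352 : Led Lsl_et (LP (LK LD1_c20 LD2_c23 LD3_c11)) = (LP (LK LD1_c11 LD2_c25 LD3_c41)) :=
  Lre_e IH (LK LD1_c20 LD2_c23 LD3_c11) (LK LD1_c11 LD2_c25 LD3_c41) Lrfl Lrfl
theorem f12287 : Led Lsl_et (LP (LK LD1_c3 LD2_c50 LD3_c30)) = (LP (LK LD1_c7 LD2_c42 LD3_c4)) :=
  Lre_e IH (LK LD1_c3 LD2_c50 LD3_c30) (LK LD1_c7 LD2_c42 LD3_c4) Lrfl Lrfl
theorem f64353 : Led Lsl_gt (LP (LK LD1_c11 LD2_c25 LD3_c41)) = (LP (LK LD1_c7 LD2_c42 LD3_c4)) :=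
  Lgr Lrot131 (Lpe (f64352 IH) (Lpr_dt (f64351 IH) (Lpe (f64350 IH) (Lpe (f57237 IH) (Lpe (f57236 IH) (Lpe (f57516 IH) (Lpr_dt (K6.f57466 IH) (Lpr_gf (K1.f64341 IH) (Lpe (K5.f12284 IH) (Lpr_et (f12287 IH) (Lpn (LP (LK LD1_c7 LD2_c42 LD3_c4)))))))))))))
theorem f132319 : Led Lsl_cf (LP (LK LD1_c7 LD2_c42 LD3_c4)) = (LP (LK LD1_c5 LD2_c47 LD3_c60)) :=
  Lgr Lrot39 (Lpr_et (K5.f12267 IH) (Lpr_ct (K5.f132314 IH) (Lpr_et (K5.f132318 IH) (Lpn (LP (LK LD1_c5 LD2_c47 LD3_c60))))))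
theorem f138413 : Led Lsl_gt (LP (LK LD1_c2 LD2_c53 LD3_c38)) = (LP (LK LD1_c5 LD2_c54 LD3_c29)) :=
  Lre_g IH (LK LD1_c2 LD2_c53 LD3_c38) (LK LD1_c5 LD2_c54 LD3_c29) Lrfl Lrfl
def v13115 : LQ := Led Lsl_gt (LP (LK LD1_c4 LD2_c40 LD3_c6))
theorem f701185 : Led Lsl_gt (LP (LK LD1_c4 LD2_c40 LD3_c6)) = v13115 :=
  Lrfl
theorem f639422 : Led Lsl_ft (LP (LK LD1_c4 LD2_c40 LD3_c7)) = (LP (LK LD1_c3 LD2_c0 LD3_c47)) :=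
  Lgr Lrot48 (Lpr_ff (f639415 IH) (Lpn (LP (LK LD1_c3 LD2_c0 LD3_c47))))
theorem f421005 : Led Lsl_bt (LP (LK LD1_c9 LD2_c15 LD3_c41)) = (LP (LK LD1_c4 LD2_c40 LD3_c7)) :=
  Lre_b IH (LK LD1_c9 LD2_c15 LD3_c41) (LK LD1_c4 LD2_c40 LD3_c7) Lrfl Lrfl
theorem f639499 : Led Lsl_bt (LP (LK LD1_c3 LD2_c0 LD3_c47)) = (LP (LK LD1_c6 LD2_c8 LD3_c55)) :=
  Lre_b IH (LK LD1_c3 LD2_c0 LD3_c47) (LK LD1_c6 LD2_c8 LD3_c55) Lrfl Lrfl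
theorem f639501 : Led Lsl_ff (LP (LK LD1_c9 LD2_c15 LD3_c41)) = (LP (LK LD1_c6 LD2_c8 LD3_c55)) :=
  Lgr Lrot25 (Lpr_bt (f421005 IH) (Lpr_ft (f639422 IH) (Lpr_bt (f639499 IH) (Lpn (LP (LK LD1_c6 LD2_c8 LD3_c55))))))
theorem f446042 : Led Lsl_dt (LP (LK LD1_c9 LD2_c15 LD3_c41)) = (LP (LK LD1_c4 LD2_c40 LD3_c6)) :=
  Lre_d IH (LK LD1_c9 LD2_c15 LD3_c41) (LK LD1_c4 LD2_c40 LD3_c6) Lrfl Lrfl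
theorem f23104 : Led Lsl_dt (LP (LK LD1_c3 LD2_c0 LD3_c46)) = (LP (LK LD1_c6 LD2_c8 LD3_c55)) :=
  Lre_d IH (LK LD1_c3 LD2_c0 LD3_c46) (LK LD1_c6 LD2_c8 LD3_c55) Lrfl Lrfl
theorem f639505 : Led Lsl_ft (LP (LK LD1_c4 LD2_c40 LD3_c6)) = (LP (LK LD1_c3 LD2_c0 LD3_c46)) :=
  Lgr Lrot54 (Lpe (f446042 IH) (Lpr_ff (f639501 IH) (Lpe (f23104 IH) (Lpn (LP (LK LD1_c3 LD2_c0 LD3_c46))))))
def v5177 : LQ := Led Lsl_at (LP (LK LD1_c3 LD2_c0 LD3_c46))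
theorem f646366 : Led Lsl_at (LP (LK LD1_c3 LD2_c0 LD3_c46)) = v5177 :=
  Lrfl
theorem f701186 : Led Lsl_gf v5177 = v13115 :=
  Lgr Lrot76 (Lpe (f646366 IH) (Lpe (f639505 IH) (Lpr_gt (f701185 IH) (Lpn v13115))))
def v4887 : LQ := Led Lsl_bt (LP (LK LD1_c2 LD2_c52 LD3_c3))
theorem f640725 : Led Lsl_bt (LP (LK LD1_c2 LD2_c52 LD3_c3)) = v4887 :=
  Lrfl
theorem f79883 : Led Lsl_bt (LP (LK LD1_c5 LD2_c47 LD3_c37)) = (LP (LK LD1_c2 LD2_c49 LD3_c46)) :=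
  Lre_b IH (LK LD1_c5 LD2_c47 LD3_c37) (LK LD1_c2 LD2_c49 LD3_c46) Lrfl Lrfl
theorem f640727 : Led Lsl_ff (LP (LK LD1_c5 LD2_c47 LD3_c37)) = v4887 :=
  Lgr Lrot25 (Lpr_bt (f79883 IH) (Lpr_ft (K32.f503417 IH) (Lpr_bt (f640725 IH) (Lpn v4887))))
theorem f640728 : Led Lsl_ft (LP (LK LD1_c5 LD2_c47 LD3_c37)) = v4887 :=
  Lgr Lrot48 (Lpr_ff (f640727 IH) (Lpn v4887))
theorem f712022 : Led Lsl_ct (LP (LK LD1_c12 LD2_c2 LD3_c44)) = (LP (LK LD1_c7 LD2_c41 LD3_c12)) :=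
  Lgr Lrot59 (Lpr_cf (f711876 IH) (Lpn (LP (LK LD1_c7 LD2_c41 LD3_c12))))
theorem f58363 : Led Lsl_gt (LP (LK LD1_c6 LD2_c11 LD3_c13)) = (LP (LK LD1_c12 LD2_c0 LD3_c41)) :=
  Lre_g IH (LK LD1_c6 LD2_c11 LD3_c13) (LK LD1_c12 LD2_c0 LD3_c41) Lrfl Lrfl
theorem f434182 : Led Lsl_gt (LP (LK LD1_c6 LD2_c9 LD3_c53)) = (LP (LK LD1_c3 LD2_c2 LD3_c24)) :=
  Lre_g IH (LK LD1_c6 LD2_c9 LD3_c53) (LK LD1_c3 LD2_c2 LD3_c24) Lrfl Lrfl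
theorem f663360 : Led Lsl_bt (LP (LK LD1_c6 LD2_c11 LD3_c40)) = (LP (LK LD1_c12 LD2_c3 LD3_c12)) :=
  Lre_b IH (LK LD1_c6 LD2_c11 LD3_c40) (LK LD1_c12 LD2_c3 LD3_c12) Lrfl Lrfl
def v7522 : LQ := Led Lsl_et (LP (LK LD1_c3 LD2_c50 LD3_c5))
theorem f666297 : Led Lsl_et (LP (LK LD1_c3 LD2_c50 LD3_c5)) = v7522 :=
  Lrfl
theorem f115832 : Led Lsl_et (LP (LK LD1_c3 LD2_c50 LD3_c6)) = (LP (LK LD1_c1 LD2_c51 LD3_c61)) :=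
  Lre_e IH (LK LD1_c3 LD2_c50 LD3_c6) (LK LD1_c1 LD2_c51 LD3_c61) Lrfl Lrfl
theorem f666299 : Led Lsl_cf (LP (LK LD1_c3 LD2_c50 LD3_c6)) = v7522 :=
  Lgr Lrot39 (Lpr_et (f115832 IH) (Lpr_ct (K4.f63507 IH) (Lpr_et (f666297 IH) (Lpn v7522))))
theorem f666298 : Led Lsl_bf (LP (LK LD1_c6 LD2_c34 LD3_c58)) = v7522 :=
  Lgr Lrot96 (Lpr_et (K6.f115601 IH) (Lpr_bt (K36.f117136 IH) (Lpr_et (f666297 IH) (Lpn v7522))))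
theorem f712025 : Led Lsl_gt (LP (LK LD1_c12 LD2_c3 LD3_c12)) = (LP (LK LD1_c6 LD2_c34 LD3_c58)) :=
  Lgr Lrot164 (Lpe (f663360 IH) (Lpr_ct (K50.f646746 IH) (Lpe (f434182 IH) (Lpe (K6.f58349 IH) (Lpe (f58363 IH) (Lpe (f58444 IH) (Lpr_ct (f712022 IH) (Lpe (f87427 IH) (Lpr_cf (f666299 IH) (Lpe (f666298 IH) (Lpn (LP (LK LD1_c6 LD2_c34 LD3_c58)))))))))))))
theorem f115521 : Led Lsl_et (LP (LK LD1_c12 LD2_c23 LD3_c55)) = (LP (LK LD1_c6 LD2_c25 LD3_c42)) :=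
  Lre_e IH (LK LD1_c12 LD2_c23 LD3_c55) (LK LD1_c6 LD2_c25 LD3_c42) Lrfl Lrfl
theorem f708978 : Led Lsl_et (LP (LK LD1_c6 LD2_c19 LD3_c20)) = (LP (LK LD1_c12 LD2_c14 LD3_c3)) :=
  Lre_e IH (LK LD1_c6 LD2_c19 LD3_c20) (LK LD1_c12 LD2_c14 LD3_c3) Lrfl Lrfl
theorem f708993 : Led Lsl_cf (LP (LK LD1_c12 LD2_c23 LD3_c55)) = (LP (LK LD1_c12 LD2_c14 LD3_c3)) :=
  Lgr Lrot39 (Lpr_et (f115521 IH) (Lpr_ct (K51.f708985 IH) (Lpr_et (f708978 IH) (Lpn (LP (LK LD1_c12 LD2_c14 LD3_c3))))))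
theorem f708996 : Led Lsl_ct (LP (LK LD1_c12 LD2_c23 LD3_c55)) = (LP (LK LD1_c12 LD2_c14 LD3_c3)) :=
  Lgr Lrot59 (Lpr_cf (f708993 IH) (Lpn (LP (LK LD1_c12 LD2_c14 LD3_c3))))
theorem f663480 : Led Lsl_et (LP (LK LD1_c12 LD2_c3 LD3_c11)) = (LP (LK LD1_c6 LD2_c11 LD3_c39)) :=
  Lre_e IH (LK LD1_c12 LD2_c3 LD3_c11) (LK LD1_c6 LD2_c11 LD3_c39) Lrfl Lrfl
theorem f663481 : Led Lsl_et (LP (LK LD1_c6 LD2_c25 LD3_c42)) = (LP (LK LD1_c12 LD2_c23 LD3_c55)) :=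
  Lre_e IH (LK LD1_c6 LD2_c25 LD3_c42) (LK LD1_c12 LD2_c23 LD3_c55) Lrfl Lrfl
theorem f663482 : Led Lsl_af (LP (LK LD1_c12 LD2_c3 LD3_c11)) = (LP (LK LD1_c12 LD2_c23 LD3_c55)) :=
  Lgr Lrot50 (Lpr_et (f663480 IH) (Lpr_at (K51.f663476 IH) (Lpr_et (f663481 IH) (Lpn (LP (LK LD1_c12 LD2_c23 LD3_c55))))))
theorem f663484 : Led Lsl_at (LP (LK LD1_c12 LD2_c3 LD3_c11)) = (LP (LK LD1_c12 LD2_c23 LD3_c55)) :=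
  Lgr Lrot100 (Lpr_af (f663482 IH) (Lpn (LP (LK LD1_c12 LD2_c23 LD3_c55))))
theorem f208148 : Led Lsl_et (LP (LK LD1_c12 LD2_c28 LD3_c13)) = (LP (LK LD1_c6 LD2_c28 LD3_c44)) :=
  Lre_e IH (LK LD1_c12 LD2_c28 LD3_c13) (LK LD1_c6 LD2_c28 LD3_c44) Lrfl Lrfl
theorem f708979 : Led Lsl_af (LP (LK LD1_c12 LD2_c28 LD3_c13)) = (LP (LK LD1_c12 LD2_c14 LD3_c3)) :=
  Lgr Lrot50 (Lpr_et (f208148 IH) (Lpr_at (K51.f708967 IH) (Lpr_et (f708978 IH) (Lpn (LP (LK LD1_c12 LD2_c14 LD3_c3))))))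
theorem f708999 : Led Lsl_cf (LP (LK LD1_c12 LD2_c3 LD3_c11)) = (LP (LK LD1_c12 LD2_c28 LD3_c13)) :=
  Lgr Lrot1 (Lpr_at (f663484 IH) (Lpr_ct (f708996 IH) (Lpe (f708979 IH) (Lpn (LP (LK LD1_c12 LD2_c28 LD3_c13))))))
theorem f709004 : Led Lsl_ct (LP (LK LD1_c12 LD2_c3 LD3_c11)) = (LP (LK LD1_c12 LD2_c28 LD3_c13)) :=
  Lgr Lrot59 (Lpr_cf (f708999 IH) (Lpn (LP (LK LD1_c12 LD2_c28 LD3_c13))))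
theorem f663487 : Led Lsl_bt (LP (LK LD1_c6 LD2_c11 LD3_c42)) = (LP (LK LD1_c12 LD2_c3 LD3_c11)) :=
  Lre_b IH (LK LD1_c6 LD2_c11 LD3_c42) (LK LD1_c12 LD2_c3 LD3_c11) Lrfl Lrfl
theorem f663470 : Led Lsl_ct (LP (LK LD1_c12 LD2_c3 LD3_c14)) = (LP (LK LD1_c6 LD2_c11 LD3_c42)) :=
  Lre_c IH (LK LD1_c12 LD2_c3 LD3_c14) (LK LD1_c6 LD2_c11 LD3_c42) Lrfl Lrfl
theorem f663472 : Led Lsl_bt (LP (LK LD1_c21 LD2_c8 LD3_c27)) = (LP (LK LD1_c12 LD2_c3 LD3_c14)) :=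
  Lre_b IH (LK LD1_c21 LD2_c8 LD3_c27) (LK LD1_c12 LD2_c3 LD3_c14) Lrfl Lrfl
theorem f709006 : Led Lsl_bt (LP (LK LD1_c12 LD2_c28 LD3_c13)) = (LP (LK LD1_c21 LD2_c35 LD3_c14)) :=
  Lre_b IH (LK LD1_c12 LD2_c28 LD3_c13) (LK LD1_c21 LD2_c35 LD3_c14) Lrfl Lrfl
theorem f709009 : Led Lsl_cf (LP (LK LD1_c21 LD2_c8 LD3_c27)) = (LP (LK LD1_c21 LD2_c35 LD3_c14)) :=
  Lgr Lrot97 (Lpr_bt (f663472 IH) (Lpr_ct (f663470 IH) (Lpr_bt (f663487 IH) (Lpr_ct (f709004 IH) (Lpr_bt (f709006 IH) (Lpn (LP (LK LD1_c21 LD2_c35 LD3_c14))))))))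
theorem f670934 : Led Lsl_et (LP (LK LD1_c21 LD2_c8 LD3_c27)) = (LP (LK LD1_c12 LD2_c3 LD3_c12)) :=
  Lre_e IH (LK LD1_c21 LD2_c8 LD3_c27) (LK LD1_c12 LD2_c3 LD3_c12) Lrfl Lrfl
theorem f709011 : Led Lsl_et (LP (LK LD1_c12 LD2_c28 LD3_c12)) = (LP (LK LD1_c21 LD2_c35 LD3_c14)) :=
  Lre_e IH (LK LD1_c12 LD2_c28 LD3_c12) (LK LD1_c21 LD2_c35 LD3_c14) Lrfl Lrfl
theorem f709012 : Led Lsl_ct (LP (LK LD1_c12 LD2_c3 LD3_c12)) = (LP (LK LD1_c12 LD2_c28 LD3_c12)) :=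
  Lgr Lrot15 (Lpe (f670934 IH) (Lpr_cf (f709009 IH) (Lpe (f709011 IH) (Lpn (LP (LK LD1_c12 LD2_c28 LD3_c12))))))
theorem f709015 : Led Lsl_cf (LP (LK LD1_c12 LD2_c3 LD3_c12)) = (LP (LK LD1_c12 LD2_c28 LD3_c12)) :=
  Lgr Lrot11 (Lpr_ct (f709012 IH) (Lpn (LP (LK LD1_c12 LD2_c28 LD3_c12))))
theorem f208147 : Led Lsl_bt (LP (LK LD1_c12 LD2_c28 LD3_c12)) = (LP (LK LD1_c6 LD2_c28 LD3_c44)) :=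
  Lre_b IH (LK LD1_c12 LD2_c28 LD3_c12) (LK LD1_c6 LD2_c28 LD3_c44) Lrfl Lrfl
theorem f208144 : Led Lsl_gf (LP (LK LD1_c6 LD2_c28 LD3_c44)) = (LP (LK LD1_c6 LD2_c19 LD3_c22)) :=
  Lgr Lrot47 (Lpr_gt (K51.f208143 IH) (Lpr_af (K51.f208128 IH) (Lpe (K4.f89499 IH) (Lpn (LP (LK LD1_c6 LD2_c19 LD3_c22))))))
theorem f89418 : Led Lsl_ct (LP (LK LD1_c6 LD2_c19 LD3_c22)) = (LP (LK LD1_c3 LD2_c7 LD3_c10)) :=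
  Lre_c IH (LK LD1_c6 LD2_c19 LD3_c22) (LK LD1_c3 LD2_c7 LD3_c10) Lrfl Lrfl
theorem f89419 : Led Lsl_bf (LP (LK LD1_c6 LD2_c19 LD3_c22)) = (LP (LK LD1_c6 LD2_c38 LD3_c46)) :=
  Lgr Lrot90 (Lpr_ct (f89418 IH) (Lpr_bt (K4.f89417 IH) (Lpr_ct (K4.f89411 IH) (Lpr_bt (K51.f64875 IH) (Lpr_ct (K4.f64847 IH) (Lpn (LP (LK LD1_c6 LD2_c38 LD3_c46))))))))
theorem f87760 : Led Lsl_gt (LP (LK LD1_c3 LD2_c47 LD3_c3)) = (LP (LK LD1_c7 LD2_c34 LD3_c57)) :=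
  Lre_g IH (LK LD1_c3 LD2_c47 LD3_c3) (LK LD1_c7 LD2_c34 LD3_c57) Lrfl Lrfl
theorem f87761 : Led Lsl_gt (LP (LK LD1_c7 LD2_c34 LD3_c57)) = (LP (LK LD1_c3 LD2_c48 LD3_c45)) :=
  Lgr Lrot46 (Lpe (f87760 IH) (Lpr_ft (K2.f87757 IH) (Lpr_at (K2.f87738 IH) (Lpn (LP (LK LD1_c3 LD2_c48 LD3_c45))))))
theorem f712027 : Led Lsl_cf (LP (LK LD1_c7 LD2_c34 LD3_c57)) = (LP (LK LD1_c6 LD2_c37 LD3_c47)) :=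
  Lgr Lrot125 (Lpr_gt (f87761 IH) (Lpr_cf (K4.f64876 IH) (Lpe (f89419 IH) (Lpe (f208144 IH) (Lpe (f208147 IH) (Lpe (f709015 IH) (Lpr_gt (f712025 IH) (Lpe (K6.f117110 IH) (Lpr_bt (K4.f87462 IH) (Lpr_gt (K48.f66079 IH) (Lpn (LP (LK LD1_c6 LD2_c37 LD3_c47)))))))))))))
theorem f712030 : Led Lsl_ct (LP (LK LD1_c7 LD2_c34 LD3_c57)) = (LP (LK LD1_c6 LD2_c37 LD3_c47)) :=
  Lgr Lrot59 (Lpr_cf (f712027 IH) (Lpn (LP (LK LD1_c6 LD2_c37 LD3_c47))))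
theorem f128634 : Led Lsl_gt (LP (LK LD1_c6 LD2_c28 LD3_c34)) = (LP (LK LD1_c12 LD2_c27 LD3_c61)) :=
  Lre_g IH (LK LD1_c6 LD2_c28 LD3_c34) (LK LD1_c12 LD2_c27 LD3_c61) Lrfl Lrfl
def v13454 : LQ := Led Lsl_bt (LP (LK LD1_c4 LD2_c44 LD3_c12))
theorem f703077 : Led Lsl_bt (LP (LK LD1_c4 LD2_c44 LD3_c12)) = v13454 :=
  Lrfl
theorem f647096 : Led Lsl_bt K48.v5291 = K48.v5325 :=
  Lgr Lrot127 (Lpr_bf (K48.f647088 IH) (Lpn K48.v5325))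
theorem f647106 : Led Lsl_bt K51.v5295 = K48.v5328 :=
  Lgr Lrot35 (Lpr_ff (K51.f647090 IH) (Lpe (f647096 IH) (Lpr_ff (K48.f647104 IH) (Lpn K48.v5328))))
theorem f708151 : K48.v5328 = v13454 :=
  Lefun (Lecon (f647106 IH) (K51.f708143 IH)) (f703077 IH)
theorem f147458 : Led Lsl_gt (LP (LK LD1_c3 LD2_c14 LD3_c0)) = (LP (LK LD1_c6 LD2_c31 LD3_c37)) :=
  Lre_g IH (LK LD1_c3 LD2_c14 LD3_c0) (LK LD1_c6 LD2_c31 LD3_c37) Lrfl Lrfl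
def v6648 : LQ := Led Lsl_gt (LP (LK LD1_c3 LD2_c25 LD3_c0))
theorem f657462 : Led Lsl_gt (LP (LK LD1_c3 LD2_c25 LD3_c0)) = v6648 :=
  Lrfl
theorem f650331 : Led Lsl_gt (LP (LK LD1_c6 LD2_c25 LD3_c43)) = K50.v5976 :=
  Lgr Lrot5 (Lpr_ft (K48.f208766 IH) (Lpe (K48.f208100 IH) (Lpr_gf (K50.f650330 IH) (Lpn K50.v5976))))
theorem f209414 : Led Lsl_at (LP (LK LD1_c6 LD2_c31 LD3_c39)) = (LP (LK LD1_c7 LD2_c27 LD3_c3)) :=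
  Lgr Lrot100 (Lpr_af (K46.f209408 IH) (Lpn (LP (LK LD1_c7 LD2_c27 LD3_c3))))
theorem f209510 : Led Lsl_gt (LP (LK LD1_c6 LD2_c31 LD3_c37)) = (LP (LK LD1_c7 LD2_c27 LD3_c3)) :=
  Lgr Lrot46 (Lpe (f147458 IH) (Lpr_ft (K49.f209355 IH) (Lpr_at (f209414 IH) (Lpn (LP (LK LD1_c7 LD2_c27 LD3_c3))))))
theorem f702896 : Led Lsl_ct v6648 = (LP (LK LD1_c6 LD2_c31 LD3_c37)) :=
  Lgr Lrot91 (Lpe (f657462 IH) (Lpr_bf (K51.f109370 IH) (Lpe (K34.f108694 IH) (Lpr_gf (K50.f650217 IH) (Lpq (K50.f670930 IH) (Lpe (K50.f444306 IH) (Lpr_bt (K50.f646748 IH) (Lpqs (K50.f702889 IH) (Lpe (f650331 IH) (Lpe (K50.f208775 IH) (Lpr_ct (K46.f208784 IH) (Lpe (f209510 IH) (Lpn (LP (LK LD1_c6 LD2_c31 LD3_c37)))))))))))))))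
theorem f709180 : Led Lsl_bf (LP (LK LD1_c6 LD2_c28 LD3_c34)) = v6648 :=
  Lgr Lrot156 (Lpr_gt (f128634 IH) (Lpe (K5.f128622 IH) (Lpe (K5.f126529 IH) (Lpr_gt (K51.f111926 IH) (Lpqs (K50.f703089 IH) (Lpe (K50.f703079 IH) (Lpr_bt (f703077 IH) (Lpq (f708151 IH) (Lpqs (K48.f662849 IH) (Lpr_gt (K48.f209513 IH) (Lpr_ct (K48.f209405 IH) (Lpr_gt (f147458 IH) (Lpe (f702896 IH) (Lpn v6648))))))))))))))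
theorem f709181 : Led Lsl_bt (LP (LK LD1_c6 LD2_c28 LD3_c34)) = v6648 :=
  Lgr Lrot127 (Lpr_bf (f709180 IH) (Lpn v6648))
theorem f58310 : Led Lsl_et (LP (LK LD1_c6 LD2_c9 LD3_c53)) = (LP (LK LD1_c3 LD2_c1 LD3_c47)) :=
  Lre_e IH (LK LD1_c6 LD2_c9 LD3_c53) (LK LD1_c3 LD2_c1 LD3_c47) Lrfl Lrfl
theorem f58311 : Led Lsl_bf (LP (LK LD1_c6 LD2_c9 LD3_c53)) = (LP (LK LD1_c6 LD2_c17 LD3_c23)) :=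
  Lgr Lrot96 (Lpr_et (f58310 IH) (Lpr_bt (K46.f58309 IH) (Lpr_et (K1.f58291 IH) (Lpn (LP (LK LD1_c6 LD2_c17 LD3_c23))))))
theorem f100189 : Led Lsl_gt (LP (LK LD1_c6 LD2_c17 LD3_c26)) = (LP (LK LD1_c12 LD2_c11 LD3_c15)) :=
  Lre_g IH (LK LD1_c6 LD2_c17 LD3_c26) (LK LD1_c12 LD2_c11 LD3_c15) Lrfl Lrfl
theorem f709182 : Led Lsl_ct (LP (LK LD1_c6 LD2_c28 LD3_c34)) = (LP (LK LD1_c6 LD2_c17 LD3_c26)) :=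
  Lgr Lrot64 (Lpr_bt (f709181 IH) (Lpe (f657462 IH) (Lpr_bf (K51.f109370 IH) (Lpe (K34.f108694 IH) (Lpr_gf (K50.f650217 IH) (Lpq (K50.f670930 IH) (Lpe (K50.f444306 IH) (Lpe (f434182 IH) (Lpr_bf (f58311 IH) (Lpr_ct (K1.f58290 IH) (Lpe (f100189 IH) (Lpn (LP (LK LD1_c6 LD2_c17 LD3_c26))))))))))))))
theorem f709184 : Led Lsl_cf (LP (LK LD1_c6 LD2_c28 LD3_c34)) = (LP (LK LD1_c6 LD2_c17 LD3_c26)) :=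
  Lgr Lrot11 (Lpr_ct (f709182 IH) (Lpn (LP (LK LD1_c6 LD2_c17 LD3_c26))))
theorem f128663 : Led Lsl_bt (LP (LK LD1_c17 LD2_c18 LD3_c24)) = (LP (LK LD1_c9 LD2_c22 LD3_c10)) :=
  Lre_b IH (LK LD1_c17 LD2_c18 LD3_c24) (LK LD1_c9 LD2_c22 LD3_c10) Lrfl Lrfl
theorem f128666 : Led Lsl_cf (LP (LK LD1_c12 LD2_c27 LD3_c61)) = (LP (LK LD1_c9 LD2_c22 LD3_c10)) :=
  Lgr Lrot97 (Lpe (K5.f128617 IH) (Lpe (K5.f126529 IH) (Lpr_bt (K5.f111933 IH) (Lpr_ct (K5.f128661 IH) (Lpr_bt (f128663 IH) (Lpn (LP (LK LD1_c9 LD2_c22 LD3_c10))))))))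
theorem f128658 : Led Lsl_bt (LP (LK LD1_c9 LD2_c22 LD3_c10)) = (LP (LK LD1_c17 LD2_c18 LD3_c24)) :=
  Lre_b IH (LK LD1_c9 LD2_c22 LD3_c10) (LK LD1_c17 LD2_c18 LD3_c24) Lrfl Lrfl
theorem f58617 : Led Lsl_gt (LP (LK LD1_c3 LD2_c5 LD3_c57)) = (LP (LK LD1_c6 LD2_c17 LD3_c26)) :=
  Lre_g IH (LK LD1_c3 LD2_c5 LD3_c57) (LK LD1_c6 LD2_c17 LD3_c26) Lrfl Lrfl
theorem f58476 : Led Lsl_ct (LP (LK LD1_c3 LD2_c0 LD3_c39)) = (LP (LK LD1_c1 LD2_c26 LD3_c9)) :=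
  Lre_c IH (LK LD1_c3 LD2_c0 LD3_c39) (LK LD1_c1 LD2_c26 LD3_c9) Lrfl Lrfl
theorem f58504 : Led Lsl_gt (LP (LK LD1_c3 LD2_c0 LD3_c41)) = (LP (LK LD1_c1 LD2_c26 LD3_c9)) :=
  Lre_g IH (LK LD1_c3 LD2_c0 LD3_c41) (LK LD1_c1 LD2_c26 LD3_c9) Lrfl Lrfl
theorem f58625 : Led Lsl_ct (LP (LK LD1_c6 LD2_c8 LD3_c48)) = (LP (LK LD1_c3 LD2_c0 LD3_c41)) :=
  Lre_c IH (LK LD1_c6 LD2_c8 LD3_c48) (LK LD1_c3 LD2_c0 LD3_c41) Lrfl Lrfl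
theorem f58626 : Led Lsl_bt (LP (LK LD1_c6 LD2_c8 LD3_c48)) = (LP (LK LD1_c11 LD2_c59 LD3_c1)) :=
  Lre_b IH (LK LD1_c6 LD2_c8 LD3_c48) (LK LD1_c11 LD2_c59 LD3_c1) Lrfl Lrfl
theorem f709187 : Led Lsl_gt (LP (LK LD1_c17 LD2_c18 LD3_c24)) = (LP (LK LD1_c11 LD2_c59 LD3_c1)) :=
  Lgr Lrot164 (Lpe (f128658 IH) (Lpe (f128666 IH) (Lpe (f128634 IH) (Lpr_cf (f709184 IH) (Lpe (f58617 IH) (Lpe (K1.f58601 IH) (Lpr_ct (f58476 IH) (Lpe (f58504 IH) (Lpe (f58625 IH) (Lpr_bt (f58626 IH) (Lpn (LP (LK LD1_c11 LD2_c59 LD3_c1)))))))))))))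
theorem f128668 : Led Lsl_ft (LP (LK LD1_c17 LD2_c18 LD3_c24)) = (LP (LK LD1_c9 LD2_c22 LD3_c7)) :=
  Lre_f IH (LK LD1_c17 LD2_c18 LD3_c24) (LK LD1_c9 LD2_c22 LD3_c7) Lrfl Lrfl
theorem f87771 : Led Lsl_bt (LP (LK LD1_c3 LD2_c47 LD3_c3)) = (LP (LK LD1_c7 LD2_c34 LD3_c53)) :=
  Lre_b IH (LK LD1_c3 LD2_c47 LD3_c3) (LK LD1_c7 LD2_c34 LD3_c53) Lrfl Lrfl
theorem f111918 : Led Lsl_af (LP (LK LD1_c6 LD2_c33 LD3_c29)) = (LP (LK LD1_c7 LD2_c34 LD3_c53)) :=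
  Lgr Lrot36 (Lpr_bt (f111917 IH) (Lpr_at (K5.f111913 IH) (Lpr_bt (f64889 IH) (Lpe (K2.f87758 IH) (Lpr_bt (f87771 IH) (Lpn (LP (LK LD1_c7 LD2_c34 LD3_c53))))))))
theorem f93909 : Led Lsl_ct (LP (LK LD1_c14 LD2_c17 LD3_c43)) = (LP (LK LD1_c7 LD2_c34 LD3_c53)) :=
  Lre_c IH (LK LD1_c14 LD2_c17 LD3_c43) (LK LD1_c7 LD2_c34 LD3_c53) Lrfl Lrfl
theorem f128644 : Led Lsl_af (LP (LK LD1_c14 LD2_c17 LD3_c43)) = (LP (LK LD1_c9 LD2_c22 LD3_c7)) :=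
  Lgr Lrot68 (Lpr_ct (f93909 IH) (Lpe (f111918 IH) (Lpr_ct (K5.f128640 IH) (Lpn (LP (LK LD1_c9 LD2_c22 LD3_c7))))))
theorem f709189 : Led Lsl_gf (LP (LK LD1_c14 LD2_c17 LD3_c43)) = (LP (LK LD1_c11 LD2_c59 LD3_c1)) :=
  Lgr Lrot76 (Lpr_af (f128644 IH) (Lpe (f128668 IH) (Lpr_gt (f709187 IH) (Lpn (LP (LK LD1_c11 LD2_c59 LD3_c1))))))
theorem f87400 : Led Lsl_ft (LP (LK LD1_c3 LD2_c17 LD3_c13)) = (LP (LK LD1_c6 LD2_c37 LD3_c50)) :=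
  Lre_f IH (LK LD1_c3 LD2_c17 LD3_c13) (LK LD1_c6 LD2_c37 LD3_c50) Lrfl Lrfl
theorem f87402 : Led Lsl_ct (LP (LK LD1_c6 LD2_c37 LD3_c50)) = (LP (LK LD1_c3 LD2_c50 LD3_c18)) :=
  Lgr Lrot40 (Lpe (f87400 IH) (Lpr_cf (K48.f87387 IH) (Lpe (K4.f87401 IH) (Lpn (LP (LK LD1_c3 LD2_c50 LD3_c18))))))
theorem f87442 : Led Lsl_cf (LP (LK LD1_c6 LD2_c37 LD3_c50)) = (LP (LK LD1_c3 LD2_c50 LD3_c18)) :=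
  Lgr Lrot11 (Lpr_ct (f87402 IH) (Lpn (LP (LK LD1_c3 LD2_c50 LD3_c18))))
theorem f117391 : Led Lsl_at (LP (LK LD1_c6 LD2_c37 LD3_c50)) = (LP (LK LD1_c12 LD2_c36 LD3_c59)) :=
  Lgr Lrot107 (Lpr_cf (f87442 IH) (Lpr_af (K4.f117384 IH) (Lpr_cf (K4.f96684 IH) (Lpn (LP (LK LD1_c12 LD2_c36 LD3_c59))))))
theorem f440792 : Led Lsl_gt (LP (LK LD1_c6 LD2_c37 LD3_c47)) = (LP (LK LD1_c12 LD2_c36 LD3_c59)) :=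
  Lgr Lrot46 (Lpe (K48.f66079 IH) (Lpr_ft (f87400 IH) (Lpr_at (f117391 IH) (Lpn (LP (LK LD1_c12 LD2_c36 LD3_c59))))))
theorem f117232 : Led Lsl_af (LP (LK LD1_c5 LD2_c48 LD3_c1)) = (LP (LK LD1_c5 LD2_c51 LD3_c10)) :=
  Lgr Lrot0 (Lpr_at (K4.f117228 IH) (Lpn (LP (LK LD1_c5 LD2_c51 LD3_c10))))
theorem f117187 : Led Lsl_gt (LP (LK LD1_c11 LD2_c25 LD3_c38)) = (LP (LK LD1_c5 LD2_c48 LD3_c1)) :=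
  Lre_g IH (LK LD1_c11 LD2_c25 LD3_c38) (LK LD1_c5 LD2_c48 LD3_c1) Lrfl Lrfl
theorem f112250 : Led Lsl_ft (LP (LK LD1_c11 LD2_c29 LD3_c50)) = (LP (LK LD1_c5 LD2_c51 LD3_c10)) :=
  Lre_f IH (LK LD1_c11 LD2_c29 LD3_c50) (LK LD1_c5 LD2_c51 LD3_c10) Lrfl Lrfl
theorem f440859 : Led Lsl_gf (LP (LK LD1_c11 LD2_c25 LD3_c38)) = (LP (LK LD1_c11 LD2_c29 LD3_c50)) :=
  Lgr Lrot47 (Lpr_gt (f117187 IH) (Lpr_af (f117232 IH) (Lpe (f112250 IH) (Lpn (LP (LK LD1_c11 LD2_c29 LD3_c50))))))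
theorem f117188 : Led Lsl_bt (LP (LK LD1_c20 LD2_c23 LD3_c3)) = (LP (LK LD1_c11 LD2_c25 LD3_c38)) :=
  Lre_b IH (LK LD1_c20 LD2_c23 LD3_c3) (LK LD1_c11 LD2_c25 LD3_c38) Lrfl Lrfl
theorem f712138 : Led Lsl_cf (LP (LK LD1_c11 LD2_c59 LD3_c1)) = (LP (LK LD1_c20 LD2_c23 LD3_c3)) :=
  Lgr Lrot160 (Lpe (f709189 IH) (Lpe (K51.f93882 IH) (Lpr_bt (K51.f93908 IH) (Lpr_gt (f87760 IH) (Lpr_ct (f712030 IH) (Lpr_gt (f440792 IH) (Lpe (K4.f96696 IH) (Lpe (K4.f112244 IH) (Lpe (f440859 IH) (Lpe (f117188 IH) (Lpn (LP (LK LD1_c20 LD2_c23 LD3_c3)))))))))))))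
def v7459 : LQ := Led Lsl_gt (LP (LK LD1_c3 LD2_c48 LD3_c33))
theorem f665703 : Led Lsl_gt (LP (LK LD1_c3 LD2_c48 LD3_c33)) = v7459 :=
  Lrfl
theorem f665704 : Led Lsl_gf (LP (LK LD1_c6 LD2_c33 LD3_c31)) = v7459 :=
  Lgr Lrot76 (Lpr_af (K5.f111924 IH) (Lpe (K5.f89428 IH) (Lpr_gt (f665703 IH) (Lpn v7459))))
theorem f438618 : Led Lsl_ct (LP (LK LD1_c6 LD2_c12 LD3_c49)) = (LP (LK LD1_c3 LD2_c3 LD3_c8)) :=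
  Lre_c IH (LK LD1_c6 LD2_c12 LD3_c49) (LK LD1_c3 LD2_c3 LD3_c8) Lrfl Lrfl
theorem f443957 : Led Lsl_ct (LP (LK LD1_c3 LD2_c6 LD3_c4)) = (LP (LK LD1_c6 LD2_c17 LD3_c46)) :=
  Lre_c IH (LK LD1_c3 LD2_c6 LD3_c4) (LK LD1_c6 LD2_c17 LD3_c46) Lrfl Lrfl
theorem f503508 : Led Lsl_ff (LP (LK LD1_c6 LD2_c12 LD3_c49)) = (LP (LK LD1_c6 LD2_c17 LD3_c46)) :=
  Lgr Lrot23 (Lpr_ct (f438618 IH) (Lpr_ft (K51.f503506 IH) (Lpr_ct (f443957 IH) (Lpn (LP (LK LD1_c6 LD2_c17 LD3_c46))))))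
theorem f708245 : Led Lsl_at (LP (LK LD1_c6 LD2_c12 LD3_c49)) = (LP (LK LD1_c7 LD2_c38 LD3_c4)) :=
  Lgr Lrot100 (Lpr_af (K51.f708243 IH) (Lpq (K50.f703089 IH) (Lpn (LP (LK LD1_c7 LD2_c38 LD3_c4)))))
theorem f708825 : (LP (LK LD1_c6 LD2_c17 LD3_c46)) = v7459 :=
  (Llr Lrot52 (Lpe (f503508 IH) (Lpr_at (f708245 IH) (Lpe (K51.f111926 IH) (Lpr_gf (f665704 IH) (Lpn v7459)))))).symm
theorem f413631 : Led Lsl_bt (LP (LK LD1_c2 LD2_c49 LD3_c46)) = (LP (LK LD1_c5 LD2_c47 LD3_c37)) :=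
  Lre_b IH (LK LD1_c2 LD2_c49 LD3_c46) (LK LD1_c5 LD2_c47 LD3_c37) Lrfl Lrfl
theorem f79886 : Led Lsl_ct (LP (LK LD1_c5 LD2_c47 LD3_c37)) = (LP (LK LD1_c11 LD2_c25 LD3_c7)) :=
  Lre_c IH (LK LD1_c5 LD2_c47 LD3_c37) (LK LD1_c11 LD2_c25 LD3_c7) Lrfl Lrfl
theorem f444281 : Led Lsl_bt (LP (LK LD1_c11 LD2_c25 LD3_c7)) = (LP (LK LD1_c6 LD2_c17 LD3_c46)) :=
  Lgr Lrot128 (Lpe (f79886 IH) (Lpe (f413631 IH) (Lpr_cf (K32.f443952 IH) (Lpe (K49.f443954 IH) (Lpe (K51.f443955 IH) (Lpn (LP (LK LD1_c6 LD2_c17 LD3_c46))))))))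
theorem f79884 : Led Lsl_ct (LP (LK LD1_c11 LD2_c25 LD3_c7)) = (LP (LK LD1_c5 LD2_c47 LD3_c37)) :=
  Lre_c IH (LK LD1_c11 LD2_c25 LD3_c7) (LK LD1_c5 LD2_c47 LD3_c37) Lrfl Lrfl
theorem f100295 : Led Lsl_ct (LP (LK LD1_c5 LD2_c48 LD3_c1)) = (LP (LK LD1_c2 LD2_c50 LD3_c3)) :=
  Lre_c IH (LK LD1_c5 LD2_c48 LD3_c1) (LK LD1_c2 LD2_c50 LD3_c3) Lrfl Lrfl
def v4827 : LQ := Led Lsl_gt (LP (LK LD1_c2 LD2_c50 LD3_c3))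
theorem f640494 : Led Lsl_gt (LP (LK LD1_c2 LD2_c50 LD3_c3)) = v4827 :=
  Lrfl
theorem f712151 : (LP (LK LD1_c5 LD2_c47 LD3_c37)) = v4827 :=
  (Llr Lrot63 (Lpe (f79884 IH) (Lpr_bt (f444281 IH) (Lpqs (f708825 IH) (Lpe (f665704 IH) (Lpe (K51.f111930 IH) (Lpr_ct (K5.f128661 IH) (Lpr_gt (f709187 IH) (Lpr_cf (f712138 IH) (Lpr_bt (f117188 IH) (Lpr_gt (f117187 IH) (Lpr_ct (f100295 IH) (Lpr_gt (f640494 IH) (Lpn v4827)))))))))))))).symm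
theorem f640495 : Led Lsl_gf (LP (LK LD1_c5 LD2_c51 LD3_c13)) = v4827 :=
  Lgr Lrot76 (Lpe (K51.f117251 IH) (Lpe (K8.f157921 IH) (Lpr_gt (f640494 IH) (Lpn v4827))))
theorem f712154 : Led Lsl_at v4887 = (LP (LK LD1_c5 LD2_c48 LD3_c2)) :=
  Lgr Lrot26 (Lpe (f640728 IH) (Lpqs (f712151 IH) (Lpe (f640495 IH) (Lpe (f440847 IH) (Lpn (LP (LK LD1_c5 LD2_c48 LD3_c2)))))))
theorem f132468 : Led Lsl_ct (LP (LK LD1_c5 LD2_c51 LD3_c12)) = (LP (LK LD1_c11 LD2_c29 LD3_c53)) :=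
  Lre_c IH (LK LD1_c5 LD2_c51 LD3_c12) (LK LD1_c11 LD2_c29 LD3_c53) Lrfl Lrfl
theorem f711766 : v4887 = (LP (LK LD1_c5 LD2_c51 LD3_c12)) :=
  (Llr Lrot128 (Lpe (f640725 IH) (Lpe (K32.f438589 IH) (Lpe (K51.f140017 IH) (Lpe (f438618 IH) (Lpqs (K51.f708239 IH) (Lpr_bf (f711729 IH) (Lpe (f132468 IH) (Lpn (LP (LK LD1_c5 LD2_c51 LD3_c12))))))))))).symm
theorem f24101 : Led Lsl_gt (LP (LK LD1_c2 LD2_c51 LD3_c52)) = (LP (LK LD1_c5 LD2_c51 LD3_c11)) :=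
  Lre_g IH (LK LD1_c2 LD2_c51 LD3_c52) (LK LD1_c5 LD2_c51 LD3_c11) Lrfl Lrfl
theorem f711813 : Led Lsl_at (LP (LK LD1_c5 LD2_c47 LD3_c37)) = (LP (LK LD1_c5 LD2_c51 LD3_c11)) :=
  Lgr Lrot26 (Lpr_ff (f640727 IH) (Lpqs (f711766 IH) (Lpr_gt (f24129 IH) (Lpr_gt (f24101 IH) (Lpn (LP (LK LD1_c5 LD2_c51 LD3_c11)))))))
theorem f711817 : Led Lsl_af (LP (LK LD1_c5 LD2_c47 LD3_c37)) = (LP (LK LD1_c5 LD2_c51 LD3_c11)) :=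
  Lgr Lrot0 (Lpr_at (f711813 IH) (Lpn (LP (LK LD1_c5 LD2_c51 LD3_c11))))
theorem f712165 : Led Lsl_ff (LP (LK LD1_c5 LD2_c51 LD3_c11)) = (LP (LK LD1_c5 LD2_c48 LD3_c2)) :=
  Lgr Lrot30 (Lpe (f711817 IH) (Lpr_ft (f640728 IH) (Lpr_at (f712154 IH) (Lpn (LP (LK LD1_c5 LD2_c48 LD3_c2))))))
theorem f712171 : Led Lsl_ft (LP (LK LD1_c5 LD2_c51 LD3_c11)) = (LP (LK LD1_c5 LD2_c48 LD3_c2)) :=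
  Lgr Lrot48 (Lpr_ff (f712165 IH) (Lpn (LP (LK LD1_c5 LD2_c48 LD3_c2))))
theorem f112301 : Led Lsl_ct (LP (LK LD1_c11 LD2_c29 LD3_c51)) = (LP (LK LD1_c5 LD2_c51 LD3_c11)) :=
  Lre_c IH (LK LD1_c11 LD2_c29 LD3_c51) (LK LD1_c5 LD2_c51 LD3_c11) Lrfl Lrfl
theorem f712173 : Led Lsl_ff (LP (LK LD1_c11 LD2_c29 LD3_c51)) = (LP (LK LD1_c11 LD2_c25 LD3_c41)) :=
  Lgr Lrot23 (Lpr_ct (f112301 IH) (Lpr_ft (f712171 IH) (Lpr_ct (f64359 IH) (Lpn (LP (LK LD1_c11 LD2_c25 LD3_c41))))))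
theorem f24128 : Led Lsl_ct (LP (LK LD1_c5 LD2_c51 LD3_c11)) = (LP (LK LD1_c11 LD2_c29 LD3_c51)) :=
  Lre_c IH (LK LD1_c5 LD2_c51 LD3_c11) (LK LD1_c11 LD2_c29 LD3_c51) Lrfl Lrfl
theorem f711819 : Led Lsl_af (LP (LK LD1_c11 LD2_c25 LD3_c7)) = (LP (LK LD1_c11 LD2_c29 LD3_c51)) :=
  Lgr Lrot68 (Lpr_ct (f79884 IH) (Lpr_at (f711813 IH) (Lpr_ct (f24128 IH) (Lpn (LP (LK LD1_c11 LD2_c29 LD3_c51))))))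
theorem f712193 : Led Lsl_gf (LP (LK LD1_c11 LD2_c25 LD3_c7)) = (LP (LK LD1_c7 LD2_c42 LD3_c4)) :=
  Lgr Lrot76 (Lpr_af (f711819 IH) (Lpr_ff (f712173 IH) (Lpr_gt (f64353 IH) (Lpn (LP (LK LD1_c7 LD2_c42 LD3_c4))))))
theorem f445915 : Led Lsl_bt (LP (LK LD1_c2 LD2_c17 LD3_c5)) = (LP (LK LD1_c4 LD2_c40 LD3_c6)) :=
  Lre_b IH (LK LD1_c2 LD2_c17 LD3_c5) (LK LD1_c4 LD2_c40 LD3_c6) Lrfl Lrfl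
theorem f712197 : v13115 = (LP (LK LD1_c2 LD2_c53 LD3_c38)) :=
  (Llr Lrot164 (Lpe (f701185 IH) (Lpe (f445915 IH) (Lpe (K51.f445916 IH) (Lpr_gf (K29.f438348 IH) (Lpe (K32.f76611 IH) (Lpr_gf (K16.f79881 IH) (Lpe (f79883 IH) (Lpr_ct (f79886 IH) (Lpr_gf (f712193 IH) (Lpr_cf (f132319 IH) (Lpr_bt (K8.f138409 IH) (Lpn (LP (LK LD1_c2 LD2_c53 LD3_c38))))))))))))))).symm
theorem f712198 : v5177 = (LP (LK LD1_c5 LD2_c54 LD3_c29)) :=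
  Lefun (Lecon (Lfl_gf (f701186 IH)) (f712197 IH)) (f138413 IH)
theorem f140013 : Led Lsl_bt (LP (LK LD1_c2 LD2_c17 LD3_c4)) = (LP (LK LD1_c4 LD2_c40 LD3_c3)) :=
  Lre_b IH (LK LD1_c2 LD2_c17 LD3_c4) (LK LD1_c4 LD2_c40 LD3_c3) Lrfl Lrfl
def v4231 : LQ := Led Lsl_at (LP (LK LD1_c2 LD2_c17 LD3_c4))
theorem f632082 : Led Lsl_at (LP (LK LD1_c2 LD2_c17 LD3_c4)) = v4231 :=
  Lrfl
theorem f632083 : Led Lsl_af (LP (LK LD1_c2 LD2_c17 LD3_c4)) = v4231 :=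
  Lgr Lrot0 (Lpr_at (f632082 IH) (Lpn v4231))
theorem f632084 : Led Lsl_cf K48.v1983 = v4231 :=
  Lgr Lrot1 (Lpe (K48.f506754 IH) (Lpe (K46.f140010 IH) (Lpr_at (f632082 IH) (Lpn v4231))))
theorem f632086 : Led Lsl_ft (LP (LK LD1_c2 LD2_c17 LD3_c5)) = v4231 :=
  Lgr Lrot4 (Lpe (K29.f445910 IH) (Lpr_ff (K48.f506756 IH) (Lpr_cf (f632084 IH) (Lpn v4231))))
theorem f639408 : (LP (LK LD1_c1 LD2_c26 LD3_c11)) = v4231 :=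
  Lefun (Lecon (Lfl_ff (K50.f502839 IH)) (K50.f639397 IH)) (f632086 IH)
theorem f100124 : Led Lsl_bt (LP (LK LD1_c3 LD2_c0 LD3_c46)) = (LP (LK LD1_c1 LD2_c26 LD3_c11)) :=
  Lre_b IH (LK LD1_c3 LD2_c0 LD3_c46) (LK LD1_c1 LD2_c26 LD3_c11) Lrfl Lrfl
theorem f646367 : Led Lsl_af (LP (LK LD1_c3 LD2_c0 LD3_c46)) = v5177 :=
  Lgr Lrot0 (Lpr_at (f646366 IH) (Lpn v5177))
theorem f701166 : Led Lsl_bf v5177 = v13112 :=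
  Lgr Lrot81 (Lpe (f646367 IH) (Lpr_bt (f100124 IH) (Lpqs (f639408 IH) (Lpe (f632083 IH) (Lpr_bt (f140013 IH) (Lpr_at (f701164 IH) (Lpn v13112)))))))
theorem f499895 : Led Lsl_ct (LP (LK LD1_c6 LD2_c25 LD3_c10)) = (LP (LK LD1_c12 LD2_c23 LD3_c22)) :=
  Lre_c IH (LK LD1_c6 LD2_c25 LD3_c10) (LK LD1_c12 LD2_c23 LD3_c22) Lrfl Lrfl
theorem f714134 : v13112 = (LP (LK LD1_c6 LD2_c25 LD3_c10)) :=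
  (Llr Lrot34 (Lpe (f701166 IH) (Lpqs (f712198 IH) (Lpe (f138413 IH) (Lpe (K8.f138409 IH) (Lpe (f132319 IH) (Lpe (f64353 IH) (Lpe (f64359 IH) (Lpr_gf (f440847 IH) (Lpe (K51.f24113 IH) (Lpr_ct (K4.f24093 IH) (Lpr_gf (f714128 IH) (Lpe (f499895 IH) (Lpn (LP (LK LD1_c6 LD2_c25 LD3_c10)))))))))))))))).symm
theorem f714140 : v5179 = (LP (LK LD1_c3 LD2_c10 LD3_c14)) :=
  Lefun (Lecon (Lfl_gt (f701168 IH)) (f714134 IH)) (Lfl_gt (f69222 IH))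
theorem f302393 : Led Lsl_et (LP (LK LD1_c5 LD2_c13 LD3_c29)) = (LP (LK LD1_c2 LD2_c33 LD3_c36)) :=
  Lre_e IH (LK LD1_c5 LD2_c13 LD3_c29) (LK LD1_c2 LD2_c33 LD3_c36) Lrfl Lrfl
theorem f538384 : Led Lsl_at (LP (LK LD1_c4 LD2_c5 LD3_c36)) = (LP (LK LD1_c2 LD2_c15 LD3_c50)) :=
  Lgr Lrot100 (Lpr_af (K35.f538382 IH) (Lpn (LP (LK LD1_c2 LD2_c15 LD3_c50))))
theorem f555874 : Led Lsl_gf (LP (LK LD1_c2 LD2_c15 LD3_c50)) = (LP (LK LD1_c2 LD2_c33 LD3_c36)) :=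
  Lgr Lrot76 (Lpe (f538384 IH) (Lpe (K35.f272034 IH) (Lpr_gt (K39.f555872 IH) (Lpn (LP (LK LD1_c2 LD2_c33 LD3_c36))))))
theorem f538389 : Led Lsl_et (LP (LK LD1_c4 LD2_c37 LD3_c15)) = (LP (LK LD1_c2 LD2_c15 LD3_c50)) :=
  Lre_e IH (LK LD1_c4 LD2_c37 LD3_c15) (LK LD1_c2 LD2_c15 LD3_c50) Lrfl Lrfl
theorem f546430 : Led Lsl_dt (LP (LK LD1_c4 LD2_c37 LD3_c15)) = (LP (LK LD1_c2 LD2_c15 LD3_c47)) :=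
  Lre_d IH (LK LD1_c4 LD2_c37 LD3_c15) (LK LD1_c2 LD2_c15 LD3_c47) Lrfl Lrfl
theorem f700173 : Led Lsl_df (LP (LK LD1_c4 LD2_c37 LD3_c14)) = K50.v13010 :=
  Lgr Lrot38 (Lpr_dt (K50.f700170 IH) (Lpn K50.v13010))
theorem f714146 : Led Lsl_gf (LP (LK LD1_c6 LD2_c8 LD3_c59)) = (LP (LK LD1_c11 LD2_c49 LD3_c21)) :=
  Lgr Lrot138 (Lpr_dt (f444253 IH) (Lpr_gt (f646372 IH) (Lpqs (f714140 IH) (Lpr_df (K50.f560090 IH) (Lpr_et (f302393 IH) (Lpe (f555874 IH) (Lpe (f538389 IH) (Lpr_dt (f546430 IH) (Lpr_gt (K45.f560096 IH) (Lpr_df (f700173 IH) (Lpe (K50.f700174 IH) (Lpn (LP (LK LD1_c11 LD2_c49 LD3_c21))))))))))))))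
theorem f714147 : Led Lsl_gt (LP (LK LD1_c11 LD2_c49 LD3_c21)) = (LP (LK LD1_c6 LD2_c8 LD3_c59)) :=
  Leop (Lpr_gf (f714146 IH) (Lpn (LP (LK LD1_c11 LD2_c49 LD3_c21))))
theorem seed_766 : LEOK LG_g (LK LD1_c11 LD2_c49 LD3_c21) :=
  Leoe_g (LK LD1_c11 LD2_c49 LD3_c21) (f714147 IH)
theorem f444262 : Led Lsl_ct (LP (LK LD1_c6 LD2_c8 LD3_c58)) = (LP (LK LD1_c3 LD2_c0 LD3_c49)) :=
  Lre_c IH (LK LD1_c6 LD2_c8 LD3_c58) (LK LD1_c3 LD2_c0 LD3_c49) Lrfl Lrfl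
theorem f444201 : Led Lsl_bt (LP (LK LD1_c1 LD2_c26 LD3_c12)) = (LP (LK LD1_c3 LD2_c0 LD3_c49)) :=
  Lre_b IH (LK LD1_c1 LD2_c26 LD3_c12) (LK LD1_c3 LD2_c0 LD3_c49) Lrfl Lrfl
theorem f58503 : Led Lsl_ct (LP (LK LD1_c3 LD2_c0 LD3_c49)) = (LP (LK LD1_c6 LD2_c8 LD3_c58)) :=
  Lre_c IH (LK LD1_c3 LD2_c0 LD3_c49) (LK LD1_c6 LD2_c8 LD3_c58) Lrfl Lrfl
theorem f444202 : Led Lsl_bf (LP (LK LD1_c6 LD2_c18 LD3_c50)) = (LP (LK LD1_c6 LD2_c8 LD3_c58)) :=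
  Lgr Lrot90 (Lpr_ct (K48.f444200 IH) (Lpr_bt (K48.f416064 IH) (Lpr_ct (K32.f444198 IH) (Lpr_bt (f444201 IH) (Lpr_ct (f58503 IH) (Lpn (LP (LK LD1_c6 LD2_c8 LD3_c58))))))))
theorem f663526 : Led Lsl_gf (LP (LK LD1_c6 LD2_c18 LD3_c50)) = (LP (LK LD1_c6 LD2_c29 LD3_c2)) :=
  Lgr Lrot126 (Lpe (K48.f416065 IH) (Lpr_bt (K48.f416064 IH) (Lpr_gt (K17.f61680 IH) (Lpr_ct (K2.f61810 IH) (Lpr_gt (K31.f73607 IH) (Lpe (K51.f416057 IH) (Lpr_bt (K51.f20127 IH) (Lpr_gt (K48.f646914 IH) (Lpqs (K48.f649441 IH) (Lpq (K48.f662830 IH) (Lpr_bf (K50.f208778 IH) (Lpe (K48.f208800 IH) (Lpn (LP (LK LD1_c6 LD2_c29 LD3_c2)))))))))))))))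
theorem f208081 : Led Lsl_af (LP (LK LD1_c4 LD2_c43 LD3_c55)) = (LP (LK LD1_c3 LD2_c12 LD3_c29)) :=
  Lgr Lrot0 (Lpr_at (K48.f208079 IH) (Lpn (LP (LK LD1_c3 LD2_c12 LD3_c29))))
theorem f663536 : Led Lsl_gt (LP (LK LD1_c6 LD2_c18 LD3_c50)) = (LP (LK LD1_c4 LD2_c43 LD3_c55)) :=
  Lgr Lrot46 (Lpr_gf (f663526 IH) (Lpr_ft (K48.f207430 IH) (Lpe (f208081 IH) (Lpn (LP (LK LD1_c4 LD2_c43 LD3_c55))))))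
theorem f208829 : Led Lsl_cf (LP (LK LD1_c3 LD2_c15 LD3_c45)) = (LP (LK LD1_c4 LD2_c43 LD3_c55)) :=
  Lgr Lrot108 (Lpr_ft (K48.f208813 IH) (Lpr_ct (K48.f208820 IH) (Lpr_ft (K48.f208086 IH) (Lpn (LP (LK LD1_c4 LD2_c43 LD3_c55))))))
theorem f708950 : Led Lsl_bt (LP (LK LD1_c6 LD2_c28 LD3_c43)) = (LP (LK LD1_c12 LD2_c28 LD3_c11)) :=
  Lre_b IH (LK LD1_c6 LD2_c28 LD3_c43) (LK LD1_c12 LD2_c28 LD3_c11) Lrfl Lrfl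
def v5180 : LQ := Led Lsl_gf (LP (LK LD1_c3 LD2_c0 LD3_c49))
theorem f646374 : Led Lsl_gf (LP (LK LD1_c3 LD2_c0 LD3_c49)) = v5180 :=
  Lrfl
def v5181 : LQ := Led Lsl_at (LP (LK LD1_c3 LD2_c0 LD3_c49))
theorem f646375 : Led Lsl_at (LP (LK LD1_c3 LD2_c0 LD3_c49)) = v5181 :=
  Lrfl
theorem f646376 : Led Lsl_af (LP (LK LD1_c3 LD2_c0 LD3_c49)) = v5181 :=
  Lgr Lrot0 (Lpr_at (f646375 IH) (Lpn v5181))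
theorem f701167 : Led Lsl_ff v5181 = v13112 :=
  Lgr Lrot30 (Lpe (f646376 IH) (Lpe (f639471 IH) (Lpr_at (f701164 IH) (Lpn v13112))))
theorem f701170 : Led Lsl_gf v5180 = v13112 :=
  Lgr Lrot47 (Lpe (f646374 IH) (Lpr_af (f646376 IH) (Lpr_ff (f701167 IH) (Lpn v13112))))
theorem f714139 : v5180 = (LP (LK LD1_c5 LD2_c56 LD3_c40)) :=
  Lefun (Lecon (Lfl_gf (f701170 IH)) (f714134 IH)) (Lfl_gf (f499893 IH))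
theorem f157093 : Led Lsl_ct (LP (LK LD1_c11 LD2_c38 LD3_c34)) = (LP (LK LD1_c5 LD2_c56 LD3_c40)) :=
  Lre_c IH (LK LD1_c11 LD2_c38 LD3_c34) (LK LD1_c5 LD2_c56 LD3_c40) Lrfl Lrfl
theorem f157099 : Led Lsl_bt (LP (LK LD1_c11 LD2_c38 LD3_c34)) = (LP (LK LD1_c20 LD2_c37 LD3_c37)) :=
  Lre_b IH (LK LD1_c11 LD2_c38 LD3_c34) (LK LD1_c20 LD2_c37 LD3_c37) Lrfl Lrfl
theorem f714152 : Led Lsl_gt (LP (LK LD1_c12 LD2_c28 LD3_c11)) = (LP (LK LD1_c20 LD2_c37 LD3_c37)) :=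
  Lgr Lrot164 (Lpe (f708950 IH) (Lpr_ct (K51.f708951 IH) (Lpe (K51.f650328 IH) (Lpr_cf (f208829 IH) (Lpe (f663536 IH) (Lpr_bf (f444202 IH) (Lpr_ct (f444262 IH) (Lpr_gf (f646374 IH) (Lpqs (f714139 IH) (Lpe (f157093 IH) (Lpr_bt (f157099 IH) (Lpn (LP (LK LD1_c20 LD2_c37 LD3_c37))))))))))))))
theorem f714153 : Led Lsl_gt (LP (LK LD1_c12 LD2_c28 LD3_c11)) = (LP (LK LD1_c20 LD2_c37 LD3_c37)) :=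
  Leop (Lpe (f714152 IH) (Lpn (LP (LK LD1_c12 LD2_c28 LD3_c11))))
theorem seed_767 : LEOK LG_g (LK LD1_c12 LD2_c28 LD3_c11) :=
  Leoe_g (LK LD1_c12 LD2_c28 LD3_c11) (f714153 IH)
theorem f72022 : Led Lsl_gt (LP (LK LD1_c5 LD2_c55 LD3_c56)) = (LP (LK LD1_c11 LD2_c37 LD3_c0)) :=
  Lre_g IH (LK LD1_c5 LD2_c55 LD3_c56) (LK LD1_c11 LD2_c37 LD3_c0) Lrfl Lrfl
theorem f161049 : Led Lsl_ft (LP (LK LD1_c11 LD2_c38 LD3_c40)) = (LP (LK LD1_c5 LD2_c56 LD3_c39)) :=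
  Lre_f IH (LK LD1_c11 LD2_c38 LD3_c40) (LK LD1_c5 LD2_c56 LD3_c39) Lrfl Lrfl
theorem f161043 : Led Lsl_ct (LP (LK LD1_c11 LD2_c38 LD3_c39)) = (LP (LK LD1_c5 LD2_c56 LD3_c39)) :=
  Lre_c IH (LK LD1_c11 LD2_c38 LD3_c39) (LK LD1_c5 LD2_c56 LD3_c39) Lrfl Lrfl
theorem f185722 : Led Lsl_ct (LP (LK LD1_c5 LD2_c13 LD3_c29)) = (LP (LK LD1_c10 LD2_c17 LD3_c13)) :=
  Lre_c IH (LK LD1_c5 LD2_c13 LD3_c29) (LK LD1_c10 LD2_c17 LD3_c13) Lrfl Lrfl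
theorem f560068 : Led Lsl_at (LP (LK LD1_c5 LD2_c56 LD3_c39)) = (LP (LK LD1_c5 LD2_c13 LD3_c29)) :=
  Lgr Lrot107 (Lpe (f161043 IH) (Lpr_af (K50.f560064 IH) (Lpe (f185722 IH) (Lpn (LP (LK LD1_c5 LD2_c13 LD3_c29))))))
theorem f714126 : Led Lsl_gt (LP (LK LD1_c6 LD2_c8 LD3_c28)) = (LP (LK LD1_c5 LD2_c13 LD3_c29)) :=
  Lgr Lrot46 (Lpr_gf (f714122 IH) (Lpr_ft (f161049 IH) (Lpr_at (f560068 IH) (Lpn (LP (LK LD1_c5 LD2_c13 LD3_c29))))))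
theorem f23063 : Led Lsl_gt (LP (LK LD1_c9 LD2_c13 LD3_c56)) = (LP (LK LD1_c4 LD2_c39 LD3_c3)) :=
  Lre_g IH (LK LD1_c9 LD2_c13 LD3_c56) (LK LD1_c4 LD2_c39 LD3_c3) Lrfl Lrfl
theorem f23066 : Led Lsl_et (LP (LK LD1_c17 LD2_c8 LD3_c19)) = (LP (LK LD1_c9 LD2_c13 LD3_c56)) :=
  Lre_e IH (LK LD1_c17 LD2_c8 LD3_c19) (LK LD1_c9 LD2_c13 LD3_c56) Lrfl Lrfl
theorem f714161 : Led Lsl_df (LP (LK LD1_c11 LD2_c37 LD3_c0)) = (LP (LK LD1_c17 LD2_c8 LD3_c19)) :=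
  Lgr Lrot168 (Lpe (f72022 IH) (Lpe (K45.f72045 IH) (Lpr_et (K45.f112485 IH) (Lpr_gf (K4.f112473 IH) (Lpe (f112484 IH) (Lpr_dt (K50.f560094 IH) (Lpe (f714126 IH) (Lpr_df (f23048 IH) (Lpe (f23063 IH) (Lpe (f23066 IH) (Lpn (LP (LK LD1_c17 LD2_c8 LD3_c19)))))))))))))
theorem f714167 : Led Lsl_dt (LP (LK LD1_c11 LD2_c37 LD3_c0)) = (LP (LK LD1_c17 LD2_c8 LD3_c19)) :=
  Lgr Lrot42 (Lpr_df (f714161 IH) (Lpn (LP (LK LD1_c17 LD2_c8 LD3_c19))))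
theorem f711092 : Led Lsl_af (LP (LK LD1_c11 LD2_c37 LD3_c0)) = (LP (LK LD1_c5 LD2_c56 LD3_c57)) :=
  Lgr Lrot45 (Lpr_ft (f711057 IH) (Lpe (f711064 IH) (Lpr_ft (f711090 IH) (Lpn (LP (LK LD1_c5 LD2_c56 LD3_c57))))))
theorem f714170 : Led Lsl_af (LP (LK LD1_c9 LD2_c31 LD3_c36)) = (LP (LK LD1_c17 LD2_c8 LD3_c19)) :=
  Lgr Lrot117 (Lpr_dt (K51.f707299 IH) (Lpe (f711092 IH) (Lpr_dt (f714167 IH) (Lpn (LP (LK LD1_c17 LD2_c8 LD3_c19))))))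
theorem f446016 : Led Lsl_gt (LP (LK LD1_c9 LD2_c31 LD3_c37)) = (LP (LK LD1_c4 LD2_c49 LD3_c25)) :=
  Lre_g IH (LK LD1_c9 LD2_c31 LD3_c37) (LK LD1_c4 LD2_c49 LD3_c25) Lrfl Lrfl
theorem f714174 : Led Lsl_ft (LP (LK LD1_c9 LD2_c31 LD3_c37)) = (LP (LK LD1_c17 LD2_c8 LD3_c19)) :=
  Lgr Lrot2 (Lpr_gt (f446016 IH) (Lpr_gt (K51.f446011 IH) (Lpr_af (f714170 IH) (Lpn (LP (LK LD1_c17 LD2_c8 LD3_c19))))))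
theorem f714182 : Led Lsl_ff (LP (LK LD1_c9 LD2_c31 LD3_c37)) = (LP (LK LD1_c17 LD2_c8 LD3_c19)) :=
  Lgr Lrot3 (Lpr_ft (f714174 IH) (Lpn (LP (LK LD1_c17 LD2_c8 LD3_c19))))
theorem f711062 : Led Lsl_ff (LP (LK LD1_c11 LD2_c37 LD3_c0)) = (LP (LK LD1_c5 LD2_c56 LD3_c58)) :=
  Lgr Lrot3 (Lpr_ft (f711057 IH) (Lpn (LP (LK LD1_c5 LD2_c56 LD3_c58))))
theorem f714188 : Led Lsl_dt (LP (LK LD1_c9 LD2_c31 LD3_c37)) = (LP (LK LD1_c5 LD2_c56 LD3_c58)) :=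
  Lgr Lrot60 (Lpr_ff (f714182 IH) (Lpe (f714167 IH) (Lpr_ff (f711062 IH) (Lpn (LP (LK LD1_c5 LD2_c56 LD3_c58))))))
theorem f442682 : Led Lsl_gt (LP (LK LD1_c4 LD2_c35 LD3_c29)) = (LP (LK LD1_c9 LD2_c7 LD3_c19)) :=
  Lre_g IH (LK LD1_c4 LD2_c35 LD3_c29) (LK LD1_c9 LD2_c7 LD3_c19) Lrfl Lrfl
theorem f160865 : Led Lsl_gt (LP (LK LD1_c2 LD2_c14 LD3_c56)) = (LP (LK LD1_c4 LD2_c35 LD3_c29)) :=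
  Lre_g IH (LK LD1_c2 LD2_c14 LD3_c56) (LK LD1_c4 LD2_c35 LD3_c29) Lrfl Lrfl
theorem f615301 : Led Lsl_et (LP (LK LD1_c6 LD2_c2 LD3_c36)) = (LP (LK LD1_c4 LD2_c35 LD3_c29)) :=
  Lgr Lrot122 (Lpr_dt (K51.f614675 IH) (Lpqs (K42.f615000 IH) (Lpe (K42.f509240 IH) (Lpr_df (K45.f509243 IH) (Lpqs (K45.f557974 IH) (Lpr_et (K45.f69251 IH) (Lpe (K8.f160854 IH) (Lpr_dt (K7.f35234 IH) (Lpr_gt (K7.f26594 IH) (Lpe (K2.f35222 IH) (Lpr_et (K51.f160864 IH) (Lpr_gt (f160865 IH) (Lpn (LP (LK LD1_c4 LD2_c35 LD3_c29)))))))))))))))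
theorem f714193 : Led Lsl_et (LP (LK LD1_c9 LD2_c31 LD3_c37)) = (LP (LK LD1_c6 LD2_c2 LD3_c14)) :=
  Lgr Lrot121 (Lpr_dt (f714188 IH) (Lpe (f425740 IH) (Lpe (K51.f425739 IH) (Lpr_et (K51.f71852 IH) (Lpe (f442682 IH) (Lpe (f615301 IH) (Lpr_dt (K51.f614675 IH) (Lpqs (K42.f615000 IH) (Lpe (K42.f509241 IH) (Lpr_df (K35.f538056 IH) (Lpe (K51.f204611 IH) (Lpn (LP (LK LD1_c6 LD2_c2 LD3_c14))))))))))))))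
theorem f714169 : Led Lsl_et (LP (LK LD1_c9 LD2_c13 LD3_c56)) = (LP (LK LD1_c17 LD2_c8 LD3_c19)) :=
  Lre_e IH (LK LD1_c9 LD2_c13 LD3_c56) (LK LD1_c17 LD2_c8 LD3_c19) Lrfl Lrfl
theorem f614924 : Led Lsl_et (LP (LK LD1_c2 LD2_c57 LD3_c19)) = (LP (LK LD1_c6 LD2_c2 LD3_c32)) :=
  Lre_e IH (LK LD1_c2 LD2_c57 LD3_c19) (LK LD1_c6 LD2_c2 LD3_c32) Lrfl Lrfl
theorem f714197 : Led Lsl_ff (LP (LK LD1_c9 LD2_c13 LD3_c56)) = (LP (LK LD1_c6 LD2_c2 LD3_c32)) :=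
  Lgr Lrot72 (Lpr_et (f714169 IH) (Lpe (f714182 IH) (Lpr_et (f714193 IH) (Lpr_ft (K45.f614918 IH) (Lpr_et (f614924 IH) (Lpn (LP (LK LD1_c6 LD2_c2 LD3_c32))))))))
theorem f714199 : Led Lsl_ft (LP (LK LD1_c9 LD2_c13 LD3_c56)) = (LP (LK LD1_c6 LD2_c2 LD3_c32)) :=
  Lgr Lrot48 (Lpr_ff (f714197 IH) (Lpn (LP (LK LD1_c6 LD2_c2 LD3_c32))))
theorem f23064 : Led Lsl_gt (LP (LK LD1_c4 LD2_c39 LD3_c3)) = (LP (LK LD1_c9 LD2_c13 LD3_c55)) :=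
  Lre_g IH (LK LD1_c4 LD2_c39 LD3_c3) (LK LD1_c9 LD2_c13 LD3_c55) Lrfl Lrfl
theorem f714201 : Led Lsl_af (LP (LK LD1_c9 LD2_c13 LD3_c55)) = (LP (LK LD1_c6 LD2_c2 LD3_c32)) :=
  Lgr Lrot31 (Lpe (f23064 IH) (Lpe (f23063 IH) (Lpr_ft (f714199 IH) (Lpn (LP (LK LD1_c6 LD2_c2 LD3_c32))))))
theorem f714207 : Led Lsl_et (LP (LK LD1_c9 LD2_c13 LD3_c55)) = (LP (LK LD1_c6 LD2_c2 LD3_c15)) :=
  Lgr Lrot123 (Lpr_af (f714201 IH) (Lpe (f614924 IH) (Lpe (K46.f614914 IH) (Lpn (LP (LK LD1_c6 LD2_c2 LD3_c15))))))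
theorem f714213 : Led Lsl_ef (LP (LK LD1_c9 LD2_c13 LD3_c55)) = (LP (LK LD1_c6 LD2_c2 LD3_c15)) :=
  Lgr Lrot88 (Lpr_et (f714207 IH) (Lpn (LP (LK LD1_c6 LD2_c2 LD3_c15))))
theorem f23059 : Led Lsl_et (LP (LK LD1_c2 LD2_c16 LD3_c31)) = (LP (LK LD1_c4 LD2_c39 LD3_c3)) :=
  Lre_e IH (LK LD1_c2 LD2_c16 LD3_c31) (LK LD1_c4 LD2_c39 LD3_c3) Lrfl Lrfl
theorem f23073 : Led Lsl_dt (LP (LK LD1_c2 LD2_c16 LD3_c31)) = (LP (LK LD1_c4 LD2_c39 LD3_c2)) :=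
  Lre_d IH (LK LD1_c2 LD2_c16 LD3_c31) (LK LD1_c4 LD2_c39 LD3_c2) Lrfl Lrfl
theorem f140966 : Led Lsl_gt (LP (LK LD1_c9 LD2_c13 LD3_c53)) = (LP (LK LD1_c4 LD2_c39 LD3_c2)) :=
  Lre_g IH (LK LD1_c9 LD2_c13 LD3_c53) (LK LD1_c4 LD2_c39 LD3_c2) Lrfl Lrfl
theorem f204648 : Led Lsl_dt (LP (LK LD1_c2 LD2_c53 LD3_c58)) = (LP (LK LD1_c2 LD2_c57 LD3_c27)) :=
  Lre_d IH (LK LD1_c2 LD2_c53 LD3_c58) (LK LD1_c2 LD2_c57 LD3_c27) Lrfl Lrfl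
theorem f614888 : Led Lsl_dt (LP (LK LD1_c6 LD2_c2 LD3_c15)) = (LP (LK LD1_c5 LD2_c55 LD3_c13)) :=
  Lgr Lrot79 (Lpr_bf (K45.f614884 IH) (Lpe (f204648 IH) (Lpe (K45.f435583 IH) (Lpn (LP (LK LD1_c5 LD2_c55 LD3_c13))))))
theorem f640126 : Led Lsl_at (LP (LK LD1_c9 LD2_c5 LD3_c1)) = (LP (LK LD1_c16 LD2_c56 LD3_c56)) :=
  Lre_a IH (LK LD1_c9 LD2_c5 LD3_c1) (LK LD1_c16 LD2_c56 LD3_c56) Lrfl Lrfl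
theorem f640127 : Led Lsl_ff (LP (LK LD1_c11 LD2_c22 LD3_c23)) = (LP (LK LD1_c16 LD2_c56 LD3_c56)) :=
  Lgr Lrot30 (Lpr_at (K51.f140645 IH) (Lpr_ft (K51.f640122 IH) (Lpr_at (f640126 IH) (Lpn (LP (LK LD1_c16 LD2_c56 LD3_c56))))))
theorem f140621 : Led Lsl_gt (LP (LK LD1_c11 LD2_c22 LD3_c30)) = (LP (LK LD1_c5 LD2_c46 LD3_c4)) :=
  Lre_g IH (LK LD1_c11 LD2_c22 LD3_c30) (LK LD1_c5 LD2_c46 LD3_c4) Lrfl Lrfl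
theorem f640266 : Led Lsl_gf (LP (LK LD1_c11 LD2_c22 LD3_c30)) = (LP (LK LD1_c16 LD2_c56 LD3_c56)) :=
  Lgr Lrot47 (Lpr_gt (f140621 IH) (Lpe (K51.f140645 IH) (Lpr_ff (f640127 IH) (Lpn (LP (LK LD1_c16 LD2_c56 LD3_c56))))))
theorem f714217 : Led Lsl_df (LP (LK LD1_c9 LD2_c13 LD3_c53)) = (LP (LK LD1_c11 LD2_c22 LD3_c30)) :=
  Lgr Lrot135 (Lpr_gt (f140966 IH) (Lpe (f23073 IH) (Lpr_et (f23059 IH) (Lpr_gt (f23064 IH) (Lpr_ef (f714213 IH) (Lpr_dt (f614888 IH) (Lpr_gt (K51.f435595 IH) (Lpe (K51.f700302 IH) (Lpr_et (K51.f706212 IH) (Lpe (f640266 IH) (Lpn (LP (LK LD1_c11 LD2_c22 LD3_c30)))))))))))))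
theorem f714219 : Led Lsl_dt (LP (LK LD1_c9 LD2_c13 LD3_c53)) = (LP (LK LD1_c11 LD2_c22 LD3_c30)) :=
  Lgr Lrot42 (Lpr_df (f714217 IH) (Lpn (LP (LK LD1_c11 LD2_c22 LD3_c30))))
theorem f501140 : Led Lsl_at (LP (LK LD1_c2 LD2_c57 LD3_c44)) = (LP (LK LD1_c6 LD2_c3 LD3_c10)) :=
  Lre_a IH (LK LD1_c2 LD2_c57 LD3_c44) (LK LD1_c6 LD2_c3 LD3_c10) Lrfl Lrfl
theorem f632036 : Led Lsl_at (LP (LK LD1_c9 LD2_c13 LD3_c47)) = (LP (LK LD1_c4 LD2_c39 LD3_c2)) :=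
  Lre_a IH (LK LD1_c9 LD2_c13 LD3_c47) (LK LD1_c4 LD2_c39 LD3_c2) Lrfl Lrfl
theorem f645487 : Led Lsl_ft (LP (LK LD1_c6 LD2_c3 LD3_c10)) = (LP (LK LD1_c9 LD2_c13 LD3_c47)) :=
  Lgr Lrot101 (Lpe (f501140 IH) (Lpr_ff (f645478 IH) (Lpe (f632036 IH) (Lpn (LP (LK LD1_c9 LD2_c13 LD3_c47))))))
theorem f645666 : Led Lsl_gt (LP (LK LD1_c6 LD2_c3 LD3_c10)) = (LP (LK LD1_c9 LD2_c13 LD3_c53)) :=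
  Lgr Lrot5 (Lpr_ft (f645487 IH) (Lpr_at (f632036 IH) (Lpe (f140966 IH) (Lpn (LP (LK LD1_c9 LD2_c13 LD3_c53))))))
theorem f645500 : Led Lsl_ct (LP (LK LD1_c6 LD2_c3 LD3_c10)) = (LP (LK LD1_c11 LD2_c50 LD3_c4)) :=
  Lre_c IH (LK LD1_c6 LD2_c3 LD3_c10) (LK LD1_c11 LD2_c50 LD3_c4) Lrfl Lrfl
theorem f501063 : Led Lsl_ct (LP (LK LD1_c6 LD2_c3 LD3_c15)) = (LP (LK LD1_c2 LD2_c57 LD3_c44)) :=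
  Lre_c IH (LK LD1_c6 LD2_c3 LD3_c15) (LK LD1_c2 LD2_c57 LD3_c44) Lrfl Lrfl
theorem f501064 : Led Lsl_dt (LP (LK LD1_c11 LD2_c50 LD3_c19)) = (LP (LK LD1_c6 LD2_c3 LD3_c15)) :=
  Lre_d IH (LK LD1_c11 LD2_c50 LD3_c19) (LK LD1_c6 LD2_c3 LD3_c15) Lrfl Lrfl
theorem f645525 : Led Lsl_at (LP (LK LD1_c17 LD2_c8 LD3_c18)) = (LP (LK LD1_c27 LD2_c0 LD3_c54)) :=
  Lre_a IH (LK LD1_c17 LD2_c8 LD3_c18) (LK LD1_c27 LD2_c0 LD3_c54) Lrfl Lrfl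
theorem f645526 : Led Lsl_ft (LP (LK LD1_c11 LD2_c50 LD3_c19)) = (LP (LK LD1_c17 LD2_c8 LD3_c18)) :=
  Lgr Lrot142 (Lpr_dt (f501064 IH) (Lpr_ct (f501063 IH) (Lpr_dt (f501151 IH) (Lpr_ct (f415566 IH) (Lpr_dt (f645512 IH) (Lpr_ct (f645513 IH) (Lpr_dt (f645514 IH) (Lpr_ct (f645515 IH) (Lpe (f645525 IH) (Lpn (LP (LK LD1_c17 LD2_c8 LD3_c18))))))))))))
theorem f645629 : Led Lsl_ff (LP (LK LD1_c11 LD2_c50 LD3_c19)) = (LP (LK LD1_c17 LD2_c8 LD3_c18)) :=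
  Lgr Lrot3 (Lpr_ft (f645526 IH) (Lpn (LP (LK LD1_c17 LD2_c8 LD3_c18))))
theorem f645631 : Led Lsl_at (LP (LK LD1_c11 LD2_c50 LD3_c19)) = (LP (LK LD1_c20 LD2_c52 LD3_c13)) :=
  Lre_a IH (LK LD1_c11 LD2_c50 LD3_c19) (LK LD1_c20 LD2_c52 LD3_c13) Lrfl Lrfl
theorem f645517 : Led Lsl_at (LP (LK LD1_c27 LD2_c0 LD3_c54)) = (LP (LK LD1_c17 LD2_c8 LD3_c18)) :=
  Lre_a IH (LK LD1_c27 LD2_c0 LD3_c54) (LK LD1_c17 LD2_c8 LD3_c18) Lrfl Lrfl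
theorem f645632 : Led Lsl_ft (LP (LK LD1_c20 LD2_c52 LD3_c13)) = (LP (LK LD1_c27 LD2_c0 LD3_c54)) :=
  Lgr Lrot101 (Lpe (f645631 IH) (Lpr_ff (f645629 IH) (Lpe (f645517 IH) (Lpn (LP (LK LD1_c27 LD2_c0 LD3_c54))))))
theorem f645501 : Led Lsl_dt (LP (LK LD1_c11 LD2_c50 LD3_c4)) = (LP (LK LD1_c20 LD2_c52 LD3_c13)) :=
  Lre_d IH (LK LD1_c11 LD2_c50 LD3_c4) (LK LD1_c20 LD2_c52 LD3_c13) Lrfl Lrfl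
theorem f645635 : Led Lsl_ff (LP (LK LD1_c11 LD2_c50 LD3_c4)) = (LP (LK LD1_c17 LD2_c8 LD3_c5)) :=
  Lgr Lrot19 (Lpr_dt (f645501 IH) (Lpr_ft (f645632 IH) (Lpr_dt (f645474 IH) (Lpn (LP (LK LD1_c17 LD2_c8 LD3_c5))))))
theorem f645639 : Led Lsl_ft (LP (LK LD1_c11 LD2_c50 LD3_c4)) = (LP (LK LD1_c17 LD2_c8 LD3_c5)) :=
  Lgr Lrot48 (Lpr_ff (f645635 IH) (Lpn (LP (LK LD1_c17 LD2_c8 LD3_c5))))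
theorem f645649 : Led Lsl_at (LP (LK LD1_c17 LD2_c8 LD3_c5)) = (LP (LK LD1_c9 LD2_c13 LD3_c54)) :=
  Lre_a IH (LK LD1_c17 LD2_c8 LD3_c5) (LK LD1_c9 LD2_c13 LD3_c54) Lrfl Lrfl
theorem f140890 : Led Lsl_gt (LP (LK LD1_c17 LD2_c8 LD3_c17)) = (LP (LK LD1_c9 LD2_c13 LD3_c54)) :=
  Lre_g IH (LK LD1_c17 LD2_c8 LD3_c17) (LK LD1_c9 LD2_c13 LD3_c54) Lrfl Lrfl
theorem f645651 : Led Lsl_gt (LP (LK LD1_c11 LD2_c50 LD3_c4)) = (LP (LK LD1_c17 LD2_c8 LD3_c17)) :=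
  Lgr Lrot5 (Lpr_ft (f645639 IH) (Lpr_at (f645649 IH) (Lpe (f140890 IH) (Lpn (LP (LK LD1_c17 LD2_c8 LD3_c17))))))
theorem f634021 : Led Lsl_ct (LP (LK LD1_c5 LD2_c46 LD3_c3)) = (LP (LK LD1_c2 LD2_c48 LD3_c46)) :=
  Lre_c IH (LK LD1_c5 LD2_c46 LD3_c3) (LK LD1_c2 LD2_c48 LD3_c46) Lrfl Lrfl
theorem f634022 : Led Lsl_dt (LP (LK LD1_c11 LD2_c22 LD3_c27)) = (LP (LK LD1_c5 LD2_c46 LD3_c3)) :=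
  Lre_d IH (LK LD1_c11 LD2_c22 LD3_c27) (LK LD1_c5 LD2_c46 LD3_c3) Lrfl Lrfl
theorem f634023 : Led Lsl_gt (LP (LK LD1_c20 LD2_c20 LD3_c10)) = (LP (LK LD1_c11 LD2_c22 LD3_c27)) :=
  Lre_g IH (LK LD1_c20 LD2_c20 LD3_c10) (LK LD1_c11 LD2_c22 LD3_c27) Lrfl Lrfl
theorem f714232 : Led Lsl_dt (LP (LK LD1_c17 LD2_c8 LD3_c17)) = (LP (LK LD1_c20 LD2_c20 LD3_c10)) :=
  Lgr Lrot57 (Lpe (f645651 IH) (Lpe (f645500 IH) (Lpr_gt (f645666 IH) (Lpr_dt (f714219 IH) (Lpr_gt (f140621 IH) (Lpr_dt (K51.f140653 IH) (Lpe (f634021 IH) (Lpe (f634022 IH) (Lpe (f634023 IH) (Lpn (LP (LK LD1_c20 LD2_c20 LD3_c10))))))))))))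
theorem f714246 : Led Lsl_df (LP (LK LD1_c17 LD2_c8 LD3_c17)) = (LP (LK LD1_c20 LD2_c20 LD3_c10)) :=
  Lgr Lrot38 (Lpr_dt (f714232 IH) (Lpn (LP (LK LD1_c20 LD2_c20 LD3_c10))))
theorem f40959 : Led Lsl_ct (LP (LK LD1_c5 LD2_c0 LD3_c20)) = (LP (LK LD1_c2 LD2_c27 LD3_c54)) :=
  Lre_c IH (LK LD1_c5 LD2_c0 LD3_c20) (LK LD1_c2 LD2_c27 LD3_c54) Lrfl Lrfl
theorem f140883 : Led Lsl_gt (LP (LK LD1_c9 LD2_c13 LD3_c59)) = (LP (LK LD1_c5 LD2_c0 LD3_c20)) :=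
  Lgr Lrot150 (Lpe (K49.f140882 IH) (Lpe (K32.f140881 IH) (Lpe (K32.f23050 IH) (Lpr_gt (K0.f22968 IH) (Lpr_ct (K32.f140109 IH) (Lpr_gt (K46.f25607 IH) (Lpr_ct (K46.f140864 IH) (Lpe (K46.f40963 IH) (Lpe (f40959 IH) (Lpn (LP (LK LD1_c5 LD2_c0 LD3_c20))))))))))))
theorem f140888 : Led Lsl_bt (LP (LK LD1_c4 LD2_c39 LD3_c2)) = (LP (LK LD1_c2 LD2_c16 LD3_c32)) :=
  Lre_b IH (LK LD1_c4 LD2_c39 LD3_c2) (LK LD1_c2 LD2_c16 LD3_c32) Lrfl Lrfl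
theorem f140889 : Led Lsl_ct (LP (LK LD1_c4 LD2_c39 LD3_c2)) = (LP (LK LD1_c9 LD2_c13 LD3_c54)) :=
  Lre_c IH (LK LD1_c4 LD2_c39 LD3_c2) (LK LD1_c9 LD2_c13 LD3_c54) Lrfl Lrfl
theorem f40960 : Led Lsl_ct (LP (LK LD1_c2 LD2_c27 LD3_c54)) = (LP (LK LD1_c5 LD2_c0 LD3_c20)) :=
  Lre_c IH (LK LD1_c2 LD2_c27 LD3_c54) (LK LD1_c5 LD2_c0 LD3_c20) Lrfl Lrfl
theorem f140891 : Led Lsl_bt (LP (LK LD1_c2 LD2_c27 LD3_c54)) = (LP (LK LD1_c5 LD2_c0 LD3_c19)) :=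
  Lre_b IH (LK LD1_c2 LD2_c27 LD3_c54) (LK LD1_c5 LD2_c0 LD3_c19) Lrfl Lrfl
theorem f140892 : Led Lsl_gt (LP (LK LD1_c5 LD2_c0 LD3_c19)) = (LP (LK LD1_c9 LD2_c51 LD3_c0)) :=
  Lre_g IH (LK LD1_c5 LD2_c0 LD3_c19) (LK LD1_c9 LD2_c51 LD3_c0) Lrfl Lrfl
theorem f140893 : Led Lsl_bt (LP (LK LD1_c18 LD2_c2 LD3_c9)) = (LP (LK LD1_c9 LD2_c51 LD3_c0)) :=
  Lre_b IH (LK LD1_c18 LD2_c2 LD3_c9) (LK LD1_c9 LD2_c51 LD3_c0) Lrfl Lrfl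
theorem f140894 : Led Lsl_cf (LP (LK LD1_c17 LD2_c8 LD3_c17)) = (LP (LK LD1_c18 LD2_c2 LD3_c9)) :=
  Lgr Lrot160 (Lpr_gt (f140890 IH) (Lpe (f140889 IH) (Lpr_bt (f140888 IH) (Lpr_gt (K32.f140881 IH) (Lpr_ct (K49.f140882 IH) (Lpr_gt (f140883 IH) (Lpe (f40960 IH) (Lpr_bt (f140891 IH) (Lpr_gt (f140892 IH) (Lpe (f140893 IH) (Lpn (LP (LK LD1_c18 LD2_c2 LD3_c9)))))))))))))
theorem f140900 : Led Lsl_ct (LP (LK LD1_c17 LD2_c8 LD3_c17)) = (LP (LK LD1_c18 LD2_c2 LD3_c9)) :=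
  Lgr Lrot59 (Lpr_cf (f140894 IH) (Lpn (LP (LK LD1_c18 LD2_c2 LD3_c9))))
theorem f140902 : Led Lsl_dt (LP (LK LD1_c27 LD2_c44 LD3_c12)) = (LP (LK LD1_c18 LD2_c2 LD3_c9)) :=
  Lre_d IH (LK LD1_c27 LD2_c44 LD3_c12) (LK LD1_c18 LD2_c2 LD3_c9) Lrfl Lrfl
theorem f640135 : Led Lsl_dt (LP (LK LD1_c5 LD2_c46 LD3_c3)) = (LP (LK LD1_c11 LD2_c22 LD3_c27)) :=
  Lre_d IH (LK LD1_c5 LD2_c46 LD3_c3) (LK LD1_c11 LD2_c22 LD3_c27) Lrfl Lrfl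
theorem f633052 : Led Lsl_dt (LP (LK LD1_c16 LD2_c56 LD3_c59)) = (LP (LK LD1_c9 LD2_c5 LD3_c0)) :=
  Lre_d IH (LK LD1_c16 LD2_c56 LD3_c59) (LK LD1_c9 LD2_c5 LD3_c0) Lrfl Lrfl
theorem f640177 : Led Lsl_ft (LP (LK LD1_c11 LD2_c22 LD3_c27)) = (LP (LK LD1_c16 LD2_c56 LD3_c59)) :=
  Lgr Lrot54 (Lpe (f640135 IH) (Lpr_ff (K51.f640167 IH) (Lpe (f633052 IH) (Lpn (LP (LK LD1_c16 LD2_c56 LD3_c59))))))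
theorem f640184 : Led Lsl_at (LP (LK LD1_c20 LD2_c20 LD3_c1)) = (LP (LK LD1_c11 LD2_c22 LD3_c27)) :=
  Lre_a IH (LK LD1_c20 LD2_c20 LD3_c1) (LK LD1_c11 LD2_c22 LD3_c27) Lrfl Lrfl
theorem f640185 : Led Lsl_at (LP (LK LD1_c16 LD2_c56 LD3_c59)) = (LP (LK LD1_c26 LD2_c53 LD3_c5)) :=
  Lre_a IH (LK LD1_c16 LD2_c56 LD3_c59) (LK LD1_c26 LD2_c53 LD3_c5) Lrfl Lrfl
theorem f640186 : Led Lsl_ff (LP (LK LD1_c20 LD2_c20 LD3_c1)) = (LP (LK LD1_c26 LD2_c53 LD3_c5)) :=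
  Lgr Lrot30 (Lpr_at (f640184 IH) (Lpr_ft (f640177 IH) (Lpr_at (f640185 IH) (Lpn (LP (LK LD1_c26 LD2_c53 LD3_c5))))))
theorem f640207 : Led Lsl_gf (LP (LK LD1_c20 LD2_c20 LD3_c10)) = (LP (LK LD1_c26 LD2_c53 LD3_c5)) :=
  Lgr Lrot47 (Lpr_gt (f634023 IH) (Lpe (f640184 IH) (Lpr_ff (f640186 IH) (Lpn (LP (LK LD1_c26 LD2_c53 LD3_c5))))))
theorem f640204 : Led Lsl_dt (LP (LK LD1_c16 LD2_c56 LD3_c55)) = (LP (LK LD1_c26 LD2_c53 LD3_c5)) :=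
  Lre_d IH (LK LD1_c16 LD2_c56 LD3_c55) (LK LD1_c26 LD2_c53 LD3_c5) Lrfl Lrfl
theorem f710550 : Led Lsl_gt (LP (LK LD1_c11 LD2_c21 LD3_c17)) = (LP (LK LD1_c16 LD2_c56 LD3_c55)) :=
  Lgr Lrot46 (Lpr_gf (f710548 IH) (Lpr_ft (K51.f640147 IH) (Lpr_at (f640157 IH) (Lpn (LP (LK LD1_c16 LD2_c56 LD3_c55))))))
theorem f549326 : Led Lsl_et (LP (LK LD1_c9 LD2_c3 LD3_c41)) = (LP (LK LD1_c16 LD2_c54 LD3_c50)) :=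
  Lre_e IH (LK LD1_c9 LD2_c3 LD3_c41) (LK LD1_c16 LD2_c54 LD3_c50) Lrfl Lrfl
theorem f549327 : Led Lsl_cf (LP (LK LD1_c17 LD2_c54 LD3_c53)) = (LP (LK LD1_c16 LD2_c54 LD3_c50)) :=
  Lgr Lrot39 (Lpr_et (K51.f172480 IH) (Lpr_ct (K39.f549319 IH) (Lpr_et (f549326 IH) (Lpn (LP (LK LD1_c16 LD2_c54 LD3_c50))))))
theorem f546014 : Led Lsl_dt (LP (LK LD1_c9 LD2_c3 LD3_c37)) = (LP (LK LD1_c4 LD2_c37 LD3_c45)) :=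
  Lre_d IH (LK LD1_c9 LD2_c3 LD3_c37) (LK LD1_c4 LD2_c37 LD3_c45) Lrfl Lrfl
theorem f79986 : Led Lsl_gt (LP (LK LD1_c9 LD2_c3 LD3_c37)) = (LP (LK LD1_c4 LD2_c33 LD3_c22)) :=
  Lre_g IH (LK LD1_c9 LD2_c3 LD3_c37) (LK LD1_c4 LD2_c33 LD3_c22) Lrfl Lrfl
theorem f140550 : Led Lsl_ct (LP (LK LD1_c4 LD2_c33 LD3_c22)) = (LP (LK LD1_c9 LD2_c4 LD3_c16)) :=
  Lre_c IH (LK LD1_c4 LD2_c33 LD3_c22) (LK LD1_c9 LD2_c4 LD3_c16) Lrfl Lrfl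
theorem f713035 : Led Lsl_gf (LP (LK LD1_c16 LD2_c54 LD3_c50)) = (LP (LK LD1_c9 LD2_c4 LD3_c16)) :=
  Lgr Lrot104 (Lpe (f549327 IH) (Lpe (f612919 IH) (Lpr_cf (f425820 IH) (Lpqs (f713020 IH) (Lpe (f700654 IH) (Lpe (K50.f631952 IH) (Lpe (K45.f552465 IH) (Lpe (f546014 IH) (Lpr_gt (f79986 IH) (Lpr_ct (f140550 IH) (Lpn (LP (LK LD1_c9 LD2_c4 LD3_c16)))))))))))))
theorem f172353 : Led Lsl_ct (LP (LK LD1_c11 LD2_c7 LD3_c39)) = (LP (LK LD1_c5 LD2_c38 LD3_c11)) :=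
  Lre_c IH (LK LD1_c11 LD2_c7 LD3_c39) (LK LD1_c5 LD2_c38 LD3_c11) Lrfl Lrfl
theorem f424373 : Led Lsl_ft (LP (LK LD1_c9 LD2_c3 LD3_c40)) = (LP (LK LD1_c11 LD2_c7 LD3_c39)) :=
  Lgr Lrot4 (Lpe (K31.f174757 IH) (Lpr_ff (K39.f423069 IH) (Lpe (f172353 IH) (Lpn (LP (LK LD1_c11 LD2_c7 LD3_c39))))))
theorem f553536 : Led Lsl_at (LP (LK LD1_c11 LD2_c7 LD3_c39)) = (LP (LK LD1_c9 LD2_c3 LD3_c41)) :=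
  Lgr Lrot26 (Lpe (f424373 IH) (Lpr_gt (K39.f553526 IH) (Lpr_gt (K39.f549329 IH) (Lpn (LP (LK LD1_c9 LD2_c3 LD3_c41))))))
theorem f172359 : Led Lsl_et (LP (LK LD1_c20 LD2_c1 LD3_c9)) = (LP (LK LD1_c11 LD2_c7 LD3_c39)) :=
  Lre_e IH (LK LD1_c20 LD2_c1 LD3_c9) (LK LD1_c11 LD2_c7 LD3_c39) Lrfl Lrfl
theorem f619129 : Led Lsl_af (LP (LK LD1_c20 LD2_c1 LD3_c9)) = (LP (LK LD1_c16 LD2_c54 LD3_c50)) :=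
  Lgr Lrot50 (Lpr_et (f172359 IH) (Lpr_at (f553536 IH) (Lpr_et (f549326 IH) (Lpn (LP (LK LD1_c16 LD2_c54 LD3_c50))))))
theorem f424182 : Led Lsl_at (LP (LK LD1_c11 LD2_c7 LD3_c40)) = (LP (LK LD1_c17 LD2_c54 LD3_c53)) :=
  Lgr Lrot100 (Lpr_af (K51.f424180 IH) (Lpn (LP (LK LD1_c17 LD2_c54 LD3_c53))))
theorem f619133 : Led Lsl_ct (LP (LK LD1_c17 LD2_c54 LD3_c53)) = (LP (LK LD1_c16 LD2_c54 LD3_c50)) :=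
  Lgr Lrot111 (Lpe (f424182 IH) (Lpe (f424187 IH) (Lpr_af (f619129 IH) (Lpn (LP (LK LD1_c16 LD2_c54 LD3_c50))))))
theorem f564048 : Led Lsl_gt (LP (LK LD1_c5 LD2_c44 LD3_c47)) = (LP (LK LD1_c11 LD2_c18 LD3_c18)) :=
  Lre_g IH (LK LD1_c5 LD2_c44 LD3_c47) (LK LD1_c11 LD2_c18 LD3_c18) Lrfl Lrfl
theorem f416014 : Led Lsl_ct (LP (LK LD1_c11 LD2_c19 LD3_c40)) = (LP (LK LD1_c5 LD2_c44 LD3_c47)) :=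
  Lre_c IH (LK LD1_c11 LD2_c19 LD3_c40) (LK LD1_c5 LD2_c44 LD3_c47) Lrfl Lrfl
theorem f416013 : Led Lsl_bt (LP (LK LD1_c11 LD2_c19 LD3_c40)) = (LP (LK LD1_c20 LD2_c16 LD3_c36)) :=
  Lre_b IH (LK LD1_c11 LD2_c19 LD3_c40) (LK LD1_c20 LD2_c16 LD3_c36) Lrfl Lrfl
theorem f713043 : Led Lsl_gt (LP (LK LD1_c20 LD2_c10 LD3_c37)) = (LP (LK LD1_c20 LD2_c16 LD3_c36)) :=
  Lgr Lrot164 (Lpe (f172484 IH) (Lpr_ct (f619133 IH) (Lpr_gf (f713035 IH) (Lpe (f140550 IH) (Lpe (f79986 IH) (Lpe (K45.f140502 IH) (Lpr_ct (K45.f140496 IH) (Lpe (f564048 IH) (Lpe (f416014 IH) (Lpr_bt (f416013 IH) (Lpn (LP (LK LD1_c20 LD2_c16 LD3_c36)))))))))))))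
theorem f713046 : Led Lsl_dt (LP (LK LD1_c20 LD2_c16 LD3_c36)) = (LP (LK LD1_c29 LD2_c23 LD3_c7)) :=
  Lre_d IH (LK LD1_c20 LD2_c16 LD3_c36) (LK LD1_c29 LD2_c23 LD3_c7) Lrfl Lrfl
theorem f714265 : Led Lsl_gf (LP (LK LD1_c27 LD2_c44 LD3_c12)) = (LP (LK LD1_c29 LD2_c23 LD3_c7)) :=
  Lgr Lrot143 (Lpr_dt (f140902 IH) (Lpe (f140900 IH) (Lpr_df (f714246 IH) (Lpr_gf (f640207 IH) (Lpe (f640204 IH) (Lpe (f710550 IH) (Lpr_cf (f424191 IH) (Lpr_gt (f713043 IH) (Lpr_dt (f713046 IH) (Lpn (LP (LK LD1_c29 LD2_c23 LD3_c7))))))))))))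
theorem f416012 : Led Lsl_gt (LP (LK LD1_c20 LD2_c16 LD3_c36)) = (LP (LK LD1_c20 LD2_c20 LD3_c6)) :=
  Lre_g IH (LK LD1_c20 LD2_c16 LD3_c36) (LK LD1_c20 LD2_c20 LD3_c6) Lrfl Lrfl
theorem f140632 : Led Lsl_gt (LP (LK LD1_c20 LD2_c20 LD3_c20)) = (LP (LK LD1_c11 LD2_c22 LD3_c31)) :=
  Lre_g IH (LK LD1_c20 LD2_c20 LD3_c20) (LK LD1_c11 LD2_c22 LD3_c31) Lrfl Lrfl
theorem f714267 : Led Lsl_ct (LP (LK LD1_c27 LD2_c44 LD3_c12)) = (LP (LK LD1_c20 LD2_c20 LD3_c20)) :=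
  Lgr Lrot152 (Lpr_gf (f714265 IH) (Lpe (f713046 IH) (Lpr_gt (f416012 IH) (Lpr_ct (f415999 IH) (Lpr_gt (f415998 IH) (Lpr_ct (f634021 IH) (Lpe (K51.f140653 IH) (Lpe (K38.f140619 IH) (Lpe (f140632 IH) (Lpn (LP (LK LD1_c20 LD2_c20 LD3_c20))))))))))))
theorem f714274 : Led Lsl_bt (LP (LK LD1_c27 LD2_c44 LD3_c12)) = (LP (LK LD1_c18 LD2_c2 LD3_c10)) :=
  Lre_b IH (LK LD1_c27 LD2_c44 LD3_c12) (LK LD1_c18 LD2_c2 LD3_c10) Lrfl Lrfl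
theorem f454669 : Led Lsl_bt (LP (LK LD1_c6 LD2_c30 LD3_c24)) = (LP (LK LD1_c12 LD2_c30 LD3_c11)) :=
  Lre_b IH (LK LD1_c6 LD2_c30 LD3_c24) (LK LD1_c12 LD2_c30 LD3_c11) Lrfl Lrfl
theorem f714275 : Led Lsl_gf (LP (LK LD1_c18 LD2_c2 LD3_c10)) = (LP (LK LD1_c12 LD2_c30 LD3_c11)) :=
  Lgr Lrot124 (Lpe (f714274 IH) (Lpr_ct (f714267 IH) (Lpr_gt (f140632 IH) (Lpe (K38.f140605 IH) (Lpr_bt (K51.f140625 IH) (Lpr_gt (K35.f503797 IH) (Lpe (K32.f144078 IH) (Lpe (K32.f503653 IH) (Lpr_cf (K35.f503755 IH) (Lpr_bt (f454669 IH) (Lpn (LP (LK LD1_c12 LD2_c30 LD3_c11)))))))))))))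
theorem f698714 : Led Lsl_dt (LP (LK LD1_c9 LD2_c51 LD3_c0)) = (LP (LK LD1_c18 LD2_c2 LD3_c10)) :=
  Lre_d IH (LK LD1_c9 LD2_c51 LD3_c0) (LK LD1_c18 LD2_c2 LD3_c10) Lrfl Lrfl
theorem f454664 : Led Lsl_bt (LP (LK LD1_c12 LD2_c30 LD3_c11)) = (LP (LK LD1_c6 LD2_c30 LD3_c24)) :=
  Lre_b IH (LK LD1_c12 LD2_c30 LD3_c11) (LK LD1_c6 LD2_c30 LD3_c24) Lrfl Lrfl
theorem f454665 : Led Lsl_df (LP (LK LD1_c12 LD2_c30 LD3_c11)) = (LP (LK LD1_c7 LD2_c59 LD3_c47)) :=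
  Lgr Lrot12 (Lpr_bt (f454664 IH) (Lpr_dt (K32.f454661 IH) (Lpr_bt (f415996 IH) (Lpn (LP (LK LD1_c7 LD2_c59 LD3_c47))))))
theorem f380253 : Led Lsl_gt (LP (LK LD1_c16 LD2_c51 LD3_c37)) = (LP (LK LD1_c9 LD2_c1 LD3_c42)) :=
  Lre_g IH (LK LD1_c16 LD2_c51 LD3_c37) (LK LD1_c9 LD2_c1 LD3_c42) Lrfl Lrfl
theorem f714281 : Led Lsl_et (LP (LK LD1_c9 LD2_c51 LD3_c0)) = (LP (LK LD1_c16 LD2_c51 LD3_c37)) :=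
  Lgr Lrot185 (Lpr_dt (f698714 IH) (Lpr_gf (f714275 IH) (Lpr_df (f454665 IH) (Lpe (f710424 IH) (Lpe (f423073 IH) (Lpe (K31.f423196 IH) (Lpr_gf (K30.f380248 IH) (Lpe (K30.f181699 IH) (Lpr_et (K50.f380238 IH) (Lpe (f380253 IH) (Lpn (LP (LK LD1_c16 LD2_c51 LD3_c37)))))))))))))
theorem f714285 : Led Lsl_ef (LP (LK LD1_c9 LD2_c51 LD3_c0)) = (LP (LK LD1_c16 LD2_c51 LD3_c37)) :=
  Lgr Lrot88 (Lpr_et (f714281 IH) (Lpn (LP (LK LD1_c16 LD2_c51 LD3_c37))))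
theorem f140899 : Led Lsl_bt (LP (LK LD1_c9 LD2_c51 LD3_c0)) = (LP (LK LD1_c18 LD2_c2 LD3_c9)) :=
  Lre_b IH (LK LD1_c9 LD2_c51 LD3_c0) (LK LD1_c18 LD2_c2 LD3_c9) Lrfl Lrfl
theorem f281555 : Led Lsl_et (LP (LK LD1_c2 LD2_c47 LD3_c25)) = (LP (LK LD1_c5 LD2_c42 LD3_c56)) :=
  Lre_e IH (LK LD1_c2 LD2_c47 LD3_c25) (LK LD1_c5 LD2_c42 LD3_c56) Lrfl Lrfl
theorem f280916 : Led Lsl_gt (LP (LK LD1_c11 LD2_c16 LD3_c7)) = (LP (LK LD1_c5 LD2_c42 LD3_c56)) :=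
  Lre_g IH (LK LD1_c11 LD2_c16 LD3_c7) (LK LD1_c5 LD2_c42 LD3_c56) Lrfl Lrfl
theorem f714252 : Led Lsl_et (LP (LK LD1_c17 LD2_c8 LD3_c17)) = (LP (LK LD1_c11 LD2_c16 LD3_c7)) :=
  Lgr Lrot185 (Lpr_dt (f714232 IH) (Lpr_gf (f640207 IH) (Lpe (f640204 IH) (Lpe (f710550 IH) (Lpe (K51.f422944 IH) (Lpe (K31.f422918 IH) (Lpe (K31.f280881 IH) (Lpe (K16.f280362 IH) (Lpr_et (f281555 IH) (Lpe (f280916 IH) (Lpn (LP (LK LD1_c11 LD2_c16 LD3_c7)))))))))))))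
theorem f714258 : Led Lsl_ef (LP (LK LD1_c17 LD2_c8 LD3_c17)) = (LP (LK LD1_c11 LD2_c16 LD3_c7)) :=
  Lgr Lrot88 (Lpr_et (f714252 IH) (Lpn (LP (LK LD1_c11 LD2_c16 LD3_c7))))
theorem f638929 : Led Lsl_ct (LP (LK LD1_c20 LD2_c12 LD3_c4)) = (LP (LK LD1_c11 LD2_c16 LD3_c7)) :=
  Lre_c IH (LK LD1_c20 LD2_c12 LD3_c4) (LK LD1_c11 LD2_c16 LD3_c7) Lrfl Lrfl
theorem f714260 : Led Lsl_et (LP (LK LD1_c18 LD2_c2 LD3_c9)) = (LP (LK LD1_c20 LD2_c12 LD3_c4)) :=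
  Lgr Lrot158 (Lpe (f140900 IH) (Lpr_ef (f714258 IH) (Lpe (f638929 IH) (Lpn (LP (LK LD1_c20 LD2_c12 LD3_c4))))))
theorem f714290 : Led Lsl_bt (LP (LK LD1_c20 LD2_c12 LD3_c4)) = (LP (LK LD1_c16 LD2_c51 LD3_c37)) :=
  Lgr Lrot119 (Lpe (f714260 IH) (Lpe (f140899 IH) (Lpr_ef (f714285 IH) (Lpn (LP (LK LD1_c16 LD2_c51 LD3_c37))))))
theorem f280943 : Led Lsl_ct (LP (LK LD1_c2 LD2_c47 LD3_c26)) = (LP (LK LD1_c5 LD2_c42 LD3_c56)) :=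
  Lre_c IH (LK LD1_c2 LD2_c47 LD3_c26) (LK LD1_c5 LD2_c42 LD3_c56) Lrfl Lrfl
def v4775 : LQ := Led Lsl_ct (LP (LK LD1_c2 LD2_c47 LD3_c29))
theorem f638926 : Led Lsl_ct (LP (LK LD1_c2 LD2_c47 LD3_c29)) = v4775 :=
  Lrfl
theorem f380014 : Led Lsl_gt (LP (LK LD1_c9 LD2_c1 LD3_c50)) = (LP (LK LD1_c16 LD2_c51 LD3_c37)) :=
  Lre_g IH (LK LD1_c9 LD2_c1 LD3_c50) (LK LD1_c16 LD2_c51 LD3_c37) Lrfl Lrfl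
theorem f380009 : Led Lsl_ct (LP (LK LD1_c4 LD2_c32 LD3_c6)) = (LP (LK LD1_c8 LD2_c58 LD3_c30)) :=
  Lgr Lrot59 (Lpr_cf (K40.f380000 IH) (Lpn (LP (LK LD1_c8 LD2_c58 LD3_c30))))
theorem f225775 : Led Lsl_ft (LP (LK LD1_c2 LD2_c42 LD3_c48)) = (LP (LK LD1_c5 LD2_c33 LD3_c20)) :=
  Lre_f IH (LK LD1_c2 LD2_c42 LD3_c48) (LK LD1_c5 LD2_c33 LD3_c20) Lrfl Lrfl
theorem f225740 : Led Lsl_gt (LP (LK LD1_c2 LD2_c42 LD3_c48)) = (LP (LK LD1_c5 LD2_c33 LD3_c18)) :=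
  Lre_g IH (LK LD1_c2 LD2_c42 LD3_c48) (LK LD1_c5 LD2_c33 LD3_c18) Lrfl Lrfl
theorem f319892 : Led Lsl_gf (LP (LK LD1_c8 LD2_c58 LD3_c30)) = (LP (LK LD1_c5 LD2_c33 LD3_c18)) :=
  Lgr Lrot76 (Lpr_af (K40.f319883 IH) (Lpe (f225775 IH) (Lpr_gt (f225740 IH) (Lpn (LP (LK LD1_c5 LD2_c33 LD3_c18))))))
theorem f714311 : v4775 = (LP (LK LD1_c5 LD2_c33 LD3_c18)) :=
  (Llr Lrot91 (Lpe (f638926 IH) (Lpe (K51.f179932 IH) (Lpe (K51.f268805 IH) (Lpr_ct (f280943 IH) (Lpe (f280916 IH) (Lpe (f638929 IH) (Lpr_bt (f714290 IH) (Lpe (f380014 IH) (Lpe (K30.f380008 IH) (Lpr_ct (f380009 IH) (Lpr_gf (f319892 IH) (Lpn (LP (LK LD1_c5 LD2_c33 LD3_c18))))))))))))))).symm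
def v12833 : LQ := Led Lsl_ct (LP (LK LD1_c4 LD2_c32 LD3_c44))
theorem f698461 : Led Lsl_ct (LP (LK LD1_c4 LD2_c32 LD3_c44)) = v12833 :=
  Lrfl
theorem f638927 : Led Lsl_cf (LP (LK LD1_c2 LD2_c47 LD3_c29)) = v4775 :=
  Lgr Lrot11 (Lpr_ct (f638926 IH) (Lpn v4775))
theorem f698465 : Led Lsl_ff v4775 = v12833 :=
  Lgr Lrot23 (Lpe (f638927 IH) (Lpe (K51.f507663 IH) (Lpr_ct (f698461 IH) (Lpn v12833))))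
theorem f698467 : Led Lsl_ft v4775 = v12833 :=
  Lgr Lrot48 (Lpr_ff (f698465 IH) (Lpn v12833))
def v4778 : LQ := Led Lsl_ct (LP (LK LD1_c2 LD2_c47 LD3_c30))
theorem f638934 : Led Lsl_ct (LP (LK LD1_c2 LD2_c47 LD3_c30)) = v4778 :=
  Lrfl
theorem f638935 : Led Lsl_cf (LP (LK LD1_c2 LD2_c47 LD3_c30)) = v4778 :=
  Lgr Lrot11 (Lpr_ct (f638934 IH) (Lpn v4778))
theorem f698462 : Led Lsl_af v4778 = v12833 :=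
  Lgr Lrot68 (Lpe (f638935 IH) (Lpe (K51.f507655 IH) (Lpr_ct (f698461 IH) (Lpn v12833))))
theorem f319869 : Led Lsl_at (LP (LK LD1_c4 LD2_c30 LD3_c9)) = (LP (LK LD1_c2 LD2_c42 LD3_c48)) :=
  Lgr Lrot100 (Lpr_af (K20.f319867 IH) (Lpn (LP (LK LD1_c2 LD2_c42 LD3_c48))))
theorem f319891 : Led Lsl_ft (LP (LK LD1_c8 LD2_c58 LD3_c30)) = (LP (LK LD1_c4 LD2_c30 LD3_c9)) :=
  Lre_f IH (LK LD1_c8 LD2_c58 LD3_c30) (LK LD1_c4 LD2_c30 LD3_c9) Lrfl Lrfl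
theorem f225741 : Led Lsl_gt (LP (LK LD1_c5 LD2_c33 LD3_c19)) = (LP (LK LD1_c2 LD2_c42 LD3_c48)) :=
  Lre_g IH (LK LD1_c5 LD2_c33 LD3_c19) (LK LD1_c2 LD2_c42 LD3_c48) Lrfl Lrfl
theorem f402544 : Led Lsl_gt (LP (LK LD1_c8 LD2_c58 LD3_c30)) = (LP (LK LD1_c5 LD2_c33 LD3_c19)) :=
  Lgr Lrot5 (Lpr_ft (f319891 IH) (Lpr_at (f319869 IH) (Lpe (f225741 IH) (Lpn (LP (LK LD1_c5 LD2_c33 LD3_c19))))))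
theorem f714314 : v4778 = (LP (LK LD1_c5 LD2_c33 LD3_c19)) :=
  (Llr Lrot26 (Lpr_af (f698462 IH) (Lpe (f698467 IH) (Lpqs (f714311 IH) (Lpe (f319892 IH) (Lpr_gt (f402544 IH) (Lpn (LP (LK LD1_c5 LD2_c33 LD3_c19))))))))).symm
theorem f714315 : Led Lsl_ct (LP (LK LD1_c5 LD2_c33 LD3_c19)) = (LP (LK LD1_c2 LD2_c47 LD3_c30)) :=
  Leop (Lpr_cf (f638935 IH) (Lpqs (f714314 IH) (Lpn (LP (LK LD1_c5 LD2_c33 LD3_c19)))))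
theorem seed_768 : LEOK LG_c (LK LD1_c5 LD2_c33 LD3_c19) :=
  Leoe_c (LK LD1_c5 LD2_c33 LD3_c19) (f714315 IH)
theorem f507627 : Led Lsl_ct (LP (LK LD1_c9 LD2_c13 LD3_c60)) = (LP (LK LD1_c4 LD2_c39 LD3_c5)) :=
  Lre_c IH (LK LD1_c9 LD2_c13 LD3_c60) (LK LD1_c4 LD2_c39 LD3_c5) Lrfl Lrfl
theorem f638936 : Led Lsl_ef (LP (LK LD1_c9 LD2_c13 LD3_c60)) = v4778 :=
  Lgr Lrot28 (Lpr_ct (f507627 IH) (Lpr_et (K51.f507647 IH) (Lpr_ct (f638934 IH) (Lpn v4778))))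
def v4554 : LQ := Led Lsl_ct (LP (LK LD1_c2 LD2_c27 LD3_c51))
theorem f636099 : Led Lsl_ct (LP (LK LD1_c2 LD2_c27 LD3_c51)) = v4554 :=
  Lrfl
theorem f415992 : Led Lsl_gt (LP (LK LD1_c11 LD2_c21 LD3_c56)) = (LP (LK LD1_c5 LD2_c45 LD3_c44)) :=
  Lre_g IH (LK LD1_c11 LD2_c21 LD3_c56) (LK LD1_c5 LD2_c45 LD3_c44) Lrfl Lrfl
theorem f503851 : Led Lsl_gt (LP (LK LD1_c5 LD2_c45 LD3_c47)) = (LP (LK LD1_c11 LD2_c21 LD3_c56)) :=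
  Lgr Lrot5 (Lpr_ft (K51.f503842 IH) (Lpe (K51.f503825 IH) (Lpe (f415992 IH) (Lpn (LP (LK LD1_c11 LD2_c21 LD3_c56))))))
theorem f444607 : Led Lsl_dt (LP (LK LD1_c2 LD2_c48 LD3_c39)) = (LP (LK LD1_c5 LD2_c45 LD3_c47)) :=
  Lre_d IH (LK LD1_c2 LD2_c48 LD3_c39) (LK LD1_c5 LD2_c45 LD3_c47) Lrfl Lrfl
theorem f503853 : Led Lsl_df (LP (LK LD1_c9 LD2_c13 LD3_c59)) = (LP (LK LD1_c11 LD2_c21 LD3_c56)) :=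
  Lgr Lrot84 (Lpe (K49.f140882 IH) (Lpe (K35.f71353 IH) (Lpe (K35.f503797 IH) (Lpe (K31.f140237 IH) (Lpe (K1.f27144 IH) (Lpe (K35.f116964 IH) (Lpr_gt (K35.f444609 IH) (Lpr_dt (f444607 IH) (Lpr_gt (f503851 IH) (Lpn (LP (LK LD1_c11 LD2_c21 LD3_c56))))))))))))
theorem f503858 : Led Lsl_dt (LP (LK LD1_c9 LD2_c13 LD3_c59)) = (LP (LK LD1_c11 LD2_c21 LD3_c56)) :=
  Lgr Lrot42 (Lpr_df (f503853 IH) (Lpn (LP (LK LD1_c11 LD2_c21 LD3_c56))))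
theorem f636102 : Led Lsl_gf (LP (LK LD1_c9 LD2_c13 LD3_c59)) = v4554 :=
  Lgr Lrot148 (Lpr_dt (f503858 IH) (Lpr_gt (f415992 IH) (Lpr_dt (K35.f415991 IH) (Lpr_ct (K35.f415985 IH) (Lpe (K32.f454661 IH) (Lpe (K32.f83705 IH) (Lpe (K24.f140723 IH) (Lpe (K24.f77407 IH) (Lpr_ct (f636099 IH) (Lpn v4554))))))))))
theorem f507636 : Led Lsl_ct (LP (LK LD1_c4 LD2_c39 LD3_c5)) = (LP (LK LD1_c9 LD2_c13 LD3_c60)) :=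
  Lre_c IH (LK LD1_c4 LD2_c39 LD3_c5) (LK LD1_c9 LD2_c13 LD3_c60) Lrfl Lrfl
theorem f507637 : Led Lsl_ft (LP (LK LD1_c9 LD2_c13 LD3_c60)) = (LP (LK LD1_c6 LD2_c3 LD3_c1)) :=
  Lgr Lrot4 (Lpe (f507636 IH) (Lpr_ff (K46.f507632 IH) (Lpe (K49.f416150 IH) (Lpn (LP (LK LD1_c6 LD2_c3 LD3_c1))))))
theorem f636103 : Led Lsl_gt (LP (LK LD1_c9 LD2_c13 LD3_c60)) = v4554 :=
  Lgr Lrot5 (Lpr_ft (f507637 IH) (Lpe (K49.f507619 IH) (Lpr_gf (f636102 IH) (Lpn v4554))))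
def v12869 : LQ := Led Lsl_gt (LP (LK LD1_c4 LD2_c33 LD3_c42))
theorem f698689 : Led Lsl_gt (LP (LK LD1_c4 LD2_c33 LD3_c42)) = v12869 :=
  Lrfl
theorem f454859 : Led Lsl_ct (LP (LK LD1_c9 LD2_c4 LD3_c59)) = (LP (LK LD1_c4 LD2_c33 LD3_c42)) :=
  Lre_c IH (LK LD1_c9 LD2_c4 LD3_c59) (LK LD1_c4 LD2_c33 LD3_c42) Lrfl Lrfl
theorem f58542 : Led Lsl_gt (LP (LK LD1_c6 LD2_c48 LD3_c1)) = (LP (LK LD1_c9 LD2_c4 LD3_c59)) :=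
  Lre_g IH (LK LD1_c6 LD2_c48 LD3_c1) (LK LD1_c9 LD2_c4 LD3_c59) Lrfl Lrfl
theorem f58560 : Led Lsl_gt (LP (LK LD1_c3 LD2_c22 LD3_c12)) = (LP (LK LD1_c6 LD2_c48 LD3_c1)) :=
  Lre_g IH (LK LD1_c3 LD2_c22 LD3_c12) (LK LD1_c6 LD2_c48 LD3_c1) Lrfl Lrfl
theorem f82611 : Led Lsl_ct (LP (LK LD1_c6 LD2_c51 LD3_c22)) = (LP (LK LD1_c3 LD2_c24 LD3_c15)) :=
  Lre_c IH (LK LD1_c6 LD2_c51 LD3_c22) (LK LD1_c3 LD2_c24 LD3_c15) Lrfl Lrfl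
theorem f454904 : Led Lsl_dt (LP (LK LD1_c6 LD2_c48 LD3_c1)) = (LP (LK LD1_c6 LD2_c51 LD3_c22)) :=
  Lgr Lrot105 (Lpe (f58560 IH) (Lpe (K49.f25695 IH) (Lpe (K24.f152665 IH) (Lpr_cf (K24.f454897 IH) (Lpr_gt (K24.f83694 IH) (Lpe (K35.f83199 IH) (Lpr_gt (K9.f26062 IH) (Lpr_dt (K24.f26067 IH) (Lpe (f82611 IH) (Lpn (LP (LK LD1_c6 LD2_c51 LD3_c22))))))))))))
theorem f505505 : Led Lsl_gf (LP (LK LD1_c3 LD2_c6 LD3_c61)) = (LP (LK LD1_c3 LD2_c13 LD3_c17)) :=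
  Lgr Lrot144 (Lpr_dt (K31.f67056 IH) (Lpr_gt (K31.f67055 IH) (Lpr_dt (K32.f67062 IH) (Lpe (K2.f58908 IH) (Lpe (K2.f67063 IH) (Lpe (K32.f67064 IH) (Lpe (K32.f416252 IH) (Lpr_gf (K46.f505498 IH) (Lpe (f505504 IH) (Lpn (LP (LK LD1_c3 LD2_c13 LD3_c17))))))))))))
def v5778 : LQ := Led Lsl_ft (LP (LK LD1_c3 LD2_c13 LD3_c16))
theorem f649317 : Led Lsl_ft (LP (LK LD1_c3 LD2_c13 LD3_c16)) = v5778 :=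
  Lrfl
theorem f649321 : Led Lsl_ff (LP (LK LD1_c3 LD2_c13 LD3_c16)) = v5778 :=
  Lgr Lrot3 (Lpr_ft (f649317 IH) (Lpn v5778))
theorem f649323 : Led Lsl_dt (LP (LK LD1_c3 LD2_c13 LD3_c17)) = v5778 :=
  Lgr Lrot60 (Lpe (K41.f453642 IH) (Lpe (K24.f82698 IH) (Lpr_ff (f649321 IH) (Lpn v5778))))
theorem f505093 : Led Lsl_af (LP (LK LD1_c3 LD2_c8 LD3_c35)) = (LP (LK LD1_c3 LD2_c13 LD3_c16)) :=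
  Lgr Lrot0 (Lpr_at (K32.f505091 IH) (Lpn (LP (LK LD1_c3 LD2_c13 LD3_c16))))
theorem f649325 : Led Lsl_gf (LP (LK LD1_c3 LD2_c24 LD3_c15)) = v5778 :=
  Lgr Lrot47 (Lpe (K24.f82609 IH) (Lpr_af (f505093 IH) (Lpr_ff (f649321 IH) (Lpn v5778))))
theorem f82612 : Led Lsl_ct (LP (LK LD1_c3 LD2_c24 LD3_c15)) = (LP (LK LD1_c6 LD2_c51 LD3_c22)) :=
  Lre_c IH (LK LD1_c3 LD2_c24 LD3_c15) (LK LD1_c6 LD2_c51 LD3_c22) Lrfl Lrfl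
theorem f652314 : Led Lsl_gt (LP (LK LD1_c6 LD2_c51 LD3_c22)) = K49.v6253 :=
  Lgr Lrot150 (Lpe (f82612 IH) (Lpr_gf (f649325 IH) (Lpe (f649323 IH) (Lpe (f505505 IH) (Lpe (K38.f140242 IH) (Lpr_gt (K35.f503797 IH) (Lpe (K32.f144078 IH) (Lpe (K32.f144071 IH) (Lpr_cf (K49.f652308 IH) (Lpn K49.v6253))))))))))
theorem f25444 : Led Lsl_ct (LP (LK LD1_c1 LD2_c37 LD3_c19)) = (LP (LK LD1_c3 LD2_c22 LD3_c3)) :=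
  Lre_c IH (LK LD1_c1 LD2_c37 LD3_c19) (LK LD1_c3 LD2_c22 LD3_c3) Lrfl Lrfl
def v6462 : LQ := Led Lsl_dt (LP (LK LD1_c3 LD2_c22 LD3_c3))
theorem f653505 : Led Lsl_dt (LP (LK LD1_c3 LD2_c22 LD3_c3)) = v6462 :=
  Lrfl
theorem f698691 : Led Lsl_cf v6462 = v12869 :=
  Lgr Lrot99 (Lpe (f653505 IH) (Lpe (f25444 IH) (Lpe (K46.f25438 IH) (Lpr_cf (K49.f652308 IH) (Lpe (f652314 IH) (Lpe (f454904 IH) (Lpr_gt (f58542 IH) (Lpr_ct (f454859 IH) (Lpr_gt (f698689 IH) (Lpn v12869))))))))))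
theorem f653506 : Led Lsl_df (LP (LK LD1_c3 LD2_c22 LD3_c3)) = v6462 :=
  Lgr Lrot38 (Lpr_dt (f653505 IH) (Lpn v6462))
theorem f25449 : Led Lsl_ct (LP (LK LD1_c3 LD2_c22 LD3_c3)) = (LP (LK LD1_c1 LD2_c37 LD3_c19)) :=
  Lre_c IH (LK LD1_c3 LD2_c22 LD3_c3) (LK LD1_c1 LD2_c37 LD3_c19) Lrfl Lrfl
def v2208 : LQ := Led Lsl_ft (LP (LK LD1_c1 LD2_c37 LD3_c17))
theorem f509678 : Led Lsl_ft (LP (LK LD1_c1 LD2_c37 LD3_c17)) = v2208 :=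
  Lrfl
def v2207 : LQ := Led Lsl_at (LP (LK LD1_c1 LD2_c37 LD3_c17))
theorem f509672 : Led Lsl_at (LP (LK LD1_c1 LD2_c37 LD3_c17)) = v2207 :=
  Lrfl
theorem f509673 : Led Lsl_af (LP (LK LD1_c1 LD2_c37 LD3_c17)) = v2207 :=
  Lgr Lrot0 (Lpr_at (f509672 IH) (Lpn v2207))
theorem f509674 : Led Lsl_df K35.v567 = v2207 :=
  Lgr Lrot18 (Lpe (K35.f454800 IH) (Lpr_dt (K32.f135513 IH) (Lpr_at (f509672 IH) (Lpn v2207))))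
theorem f509676 : Led Lsl_ft (LP (LK LD1_c1 LD2_c37 LD3_c19)) = v2207 :=
  Lgr Lrot54 (Lpe (K46.f25452 IH) (Lpr_ff (K35.f454802 IH) (Lpr_df (f509674 IH) (Lpn v2207))))
theorem f509679 : Led Lsl_af (LP (LK LD1_c1 LD2_c37 LD3_c19)) = v2208 :=
  Lgr Lrot45 (Lpr_ft (f509676 IH) (Lpe (f509673 IH) (Lpr_ft (f509678 IH) (Lpn v2208))))
theorem f698699 : Led Lsl_dt v4554 = v12869 :=
  Lgr Lrot140 (Lpe (f636099 IH) (Lpe (K24.f73222 IH) (Lpe (K48.f415648 IH) (Lpe (K29.f25517 IH) (Lpr_ft (f509678 IH) (Lpe (f509679 IH) (Lpe (f25449 IH) (Lpr_df (f653506 IH) (Lpr_cf (f698691 IH) (Lpn v12869))))))))))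
theorem f140867 : Led Lsl_gf (LP (LK LD1_c3 LD2_c22 LD3_c3)) = (LP (LK LD1_c6 LD2_c30 LD3_c26)) :=
  Lgr Lrot104 (Lpr_ct (f25449 IH) (Lpe (K46.f25452 IH) (Lpr_cf (K32.f140862 IH) (Lpe (K32.f40956 IH) (Lpr_cf (K2.f40467 IH) (Lpe (K9.f140231 IH) (Lpe (K32.f140240 IH) (Lpr_gt (K24.f140721 IH) (Lpr_ct (K32.f82730 IH) (Lpn (LP (LK LD1_c6 LD2_c30 LD3_c26))))))))))))
theorem f653508 : Led Lsl_gf (LP (LK LD1_c6 LD2_c21 LD3_c20)) = v6462 :=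
  Lgr Lrot143 (Lpr_dt (K2.f77404 IH) (Lpe (K2.f67065 IH) (Lpe (K2.f58925 IH) (Lpe (K31.f415839 IH) (Lpe (K32.f415844 IH) (Lpr_gf (K32.f415852 IH) (Lpe (K32.f82716 IH) (Lpe (f140867 IH) (Lpr_dt (f653505 IH) (Lpn v6462))))))))))
theorem f415751 : Led Lsl_gt (LP (LK LD1_c3 LD2_c22 LD3_c5)) = (LP (LK LD1_c6 LD2_c23 LD3_c23)) :=
  Lgr Lrot150 (Lpe (K32.f415750 IH) (Lpe (K32.f140866 IH) (Lpe (K0.f23257 IH) (Lpr_gt (K0.f25407 IH) (Lpr_ct (K48.f415648 IH) (Lpr_gt (K46.f415150 IH) (Lpr_ct (K9.f40489 IH) (Lpr_df (K2.f83255 IH) (Lpe (K2.f83236 IH) (Lpn (LP (LK LD1_c6 LD2_c23 LD3_c23))))))))))))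
theorem f83241 : Led Lsl_at (LP (LK LD1_c6 LD2_c21 LD3_c21)) = (LP (LK LD1_c6 LD2_c23 LD3_c23)) :=
  Lgr Lrot80 (Lpr_ef (K2.f77717 IH) (Lpr_af (K2.f67462 IH) (Lpr_ef (K2.f83239 IH) (Lpn (LP (LK LD1_c6 LD2_c23 LD3_c23))))))
theorem f77742 : Led Lsl_ft (LP (LK LD1_c3 LD2_c8 LD3_c22)) = (LP (LK LD1_c6 LD2_c21 LD3_c21)) :=
  Lre_f IH (LK LD1_c3 LD2_c8 LD3_c22) (LK LD1_c6 LD2_c21 LD3_c21) Lrfl Lrfl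
theorem f415755 : Led Lsl_gf (LP (LK LD1_c3 LD2_c22 LD3_c5)) = (LP (LK LD1_c3 LD2_c8 LD3_c22)) :=
  Lgr Lrot47 (Lpr_gt (f415751 IH) (Lpe (f83241 IH) (Lpe (f77742 IH) (Lpn (LP (LK LD1_c3 LD2_c8 LD3_c22))))))
def v6467 : LQ := Led Lsl_dt (LP (LK LD1_c3 LD2_c22 LD3_c5))
theorem f653527 : Led Lsl_dt (LP (LK LD1_c3 LD2_c22 LD3_c5)) = v6467 :=
  Lrfl
def v12867 : LQ := Led Lsl_dt (LP (LK LD1_c4 LD2_c33 LD3_c41))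
theorem f698675 : Led Lsl_dt (LP (LK LD1_c4 LD2_c33 LD3_c41)) = v12867 :=
  Lrfl
theorem f698679 : Led Lsl_ff (LP (LK LD1_c5 LD2_c45 LD3_c44)) = v12867 :=
  Lgr Lrot19 (Lpr_dt (K35.f415991 IH) (Lpr_ft (K51.f503817 IH) (Lpr_dt (f698675 IH) (Lpn v12867))))
theorem f653529 : Led Lsl_ff (LP (LK LD1_c9 LD2_c32 LD3_c50)) = v6467 :=
  Lgr Lrot19 (Lpr_dt (K35.f415322 IH) (Lpe (K32.f503779 IH) (Lpr_dt (f653527 IH) (Lpn v6467))))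
theorem f653530 : Led Lsl_ft (LP (LK LD1_c9 LD2_c32 LD3_c50)) = v6467 :=
  Lgr Lrot48 (Lpr_ff (f653529 IH) (Lpn v6467))
theorem f698681 : Led Lsl_ct v6467 = v12867 :=
  Lgr Lrot40 (Lpe (f653530 IH) (Lpe (K35.f503789 IH) (Lpr_ff (f698679 IH) (Lpn v12867))))
def v4813 : LQ := Led Lsl_ft (LP (LK LD1_c2 LD2_c48 LD3_c40))
theorem f639111 : Led Lsl_ft (LP (LK LD1_c2 LD2_c48 LD3_c40)) = v4813 :=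
  Lrfl
theorem f179320 : Led Lsl_dt (LP (LK LD1_c1 LD2_c20 LD3_c28)) = (LP (LK LD1_c2 LD2_c48 LD3_c40)) :=
  Lre_d IH (LK LD1_c1 LD2_c20 LD3_c28) (LK LD1_c2 LD2_c48 LD3_c40) Lrfl Lrfl
theorem f639113 : Led Lsl_ft (LP (LK LD1_c2 LD2_c48 LD3_c41)) = (LP (LK LD1_c1 LD2_c20 LD3_c28)) :=
  Lre_f IH (LK LD1_c2 LD2_c48 LD3_c41) (LK LD1_c1 LD2_c20 LD3_c28) Lrfl Lrfl
theorem f639114 : Led Lsl_df (LP (LK LD1_c2 LD2_c48 LD3_c41)) = v4813 :=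
  Lgr Lrot78 (Lpr_ft (f639113 IH) (Lpr_dt (f179320 IH) (Lpr_ft (f639111 IH) (Lpn v4813))))
theorem f698700 : Led Lsl_gf v4813 = v12869 :=
  Lgr Lrot144 (Lpe (f639114 IH) (Lpr_gt (K32.f416281 IH) (Lpr_dt (f698675 IH) (Lpe (f698681 IH) (Lpe (f653527 IH) (Lpr_gf (f415755 IH) (Lpe (K2.f77404 IH) (Lpr_gf (f653508 IH) (Lpr_cf (f698691 IH) (Lpn v12869))))))))))
theorem f639115 : Led Lsl_ff (LP (LK LD1_c2 LD2_c48 LD3_c40)) = v4813 :=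
  Lgr Lrot3 (Lpr_ft (f639111 IH) (Lpn v4813))
theorem f415889 : Led Lsl_dt (LP (LK LD1_c2 LD2_c48 LD3_c40)) = (LP (LK LD1_c1 LD2_c20 LD3_c28)) :=
  Lre_d IH (LK LD1_c2 LD2_c48 LD3_c40) (LK LD1_c1 LD2_c20 LD3_c28) Lrfl Lrfl
theorem f495924 : Led Lsl_ft (LP (LK LD1_c1 LD2_c20 LD3_c28)) = (LP (LK LD1_c2 LD2_c48 LD3_c41)) :=
  Lre_f IH (LK LD1_c1 LD2_c20 LD3_c28) (LK LD1_c2 LD2_c48 LD3_c41) Lrfl Lrfl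
theorem f639117 : Led Lsl_dt (LP (LK LD1_c2 LD2_c48 LD3_c41)) = v4813 :=
  Lgr Lrot60 (Lpe (f495924 IH) (Lpe (f415889 IH) (Lpr_ff (f639115 IH) (Lpn v4813))))
theorem f446613 : Led Lsl_et (LP (LK LD1_c2 LD2_c48 LD3_c41)) = (LP (LK LD1_c4 LD2_c30 LD3_c41)) :=
  Lre_e IH (LK LD1_c2 LD2_c48 LD3_c41) (LK LD1_c4 LD2_c30 LD3_c41) Lrfl Lrfl
theorem f9261 : Led Lsl_gt (LP (LK LD1_c4 LD2_c30 LD3_c41)) = (LP (LK LD1_c2 LD2_c43 LD3_c18)) :=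
  Lre_g IH (LK LD1_c4 LD2_c30 LD3_c41) (LK LD1_c2 LD2_c43 LD3_c18) Lrfl Lrfl
theorem f638606 : Led Lsl_et (LP (LK LD1_c5 LD2_c34 LD3_c50)) = (LP (LK LD1_c2 LD2_c43 LD3_c18)) :=
  Lre_e IH (LK LD1_c5 LD2_c34 LD3_c50) (LK LD1_c2 LD2_c43 LD3_c18) Lrfl Lrfl
theorem f639120 : Led Lsl_dt (LP (LK LD1_c5 LD2_c34 LD3_c50)) = (LP (LK LD1_c11 LD2_c2 LD3_c0)) :=
  Lre_d IH (LK LD1_c5 LD2_c34 LD3_c50) (LK LD1_c11 LD2_c2 LD3_c0) Lrfl Lrfl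
theorem f225742 : Led Lsl_dt (LP (LK LD1_c5 LD2_c33 LD3_c19)) = (LP (LK LD1_c10 LD2_c58 LD3_c38)) :=
  Lre_d IH (LK LD1_c5 LD2_c33 LD3_c19) (LK LD1_c10 LD2_c58 LD3_c38) Lrfl Lrfl
theorem f714336 : Led Lsl_gt (LP (LK LD1_c11 LD2_c2 LD3_c0)) = (LP (LK LD1_c10 LD2_c58 LD3_c38)) :=
  Lgr Lrot112 (Lpe (f639120 IH) (Lpr_et (f638606 IH) (Lpe (f9261 IH) (Lpe (f446613 IH) (Lpr_dt (f639117 IH) (Lpr_gf (f698700 IH) (Lpe (f698699 IH) (Lpe (f636103 IH) (Lpr_ef (f638936 IH) (Lpqs (f714314 IH) (Lpr_dt (f225742 IH) (Lpn (LP (LK LD1_c10 LD2_c58 LD3_c38))))))))))))))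
theorem f714337 : Led Lsl_gt (LP (LK LD1_c11 LD2_c2 LD3_c0)) = (LP (LK LD1_c10 LD2_c58 LD3_c38)) :=
  Leop (Lpe (f714336 IH) (Lpn (LP (LK LD1_c11 LD2_c2 LD3_c0))))
theorem seed_769 : LEOK LG_g (LK LD1_c11 LD2_c2 LD3_c0) :=
  Leoe_g (LK LD1_c11 LD2_c2 LD3_c0) (f714337 IH)
def v5169 : LQ := Led Lsl_ct (LP (LK LD1_c3 LD2_c0 LD3_c26))
theorem f646335 : Led Lsl_ct (LP (LK LD1_c3 LD2_c0 LD3_c26)) = v5169 :=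
  Lrfl
def v12341 : LQ := Led Lsl_ft (LP (LK LD1_c4 LD2_c6 LD3_c3))
theorem f691614 : Led Lsl_ft (LP (LK LD1_c4 LD2_c6 LD3_c3)) = v12341 :=
  Lrfl
theorem f691617 : Led Lsl_ff (LP (LK LD1_c4 LD2_c6 LD3_c3)) = v12341 :=
  Lgr Lrot3 (Lpr_ft (f691614 IH) (Lpn v12341))
theorem f646338 : Led Lsl_gf (LP (LK LD1_c4 LD2_c7 LD3_c24)) = v5169 :=
  Lgr Lrot104 (Lpr_ct (K2.f55651 IH) (Lpr_df (K2.f73593 IH) (Lpe (K2.f61810 IH) (Lpe (K17.f61680 IH) (Lpr_cf (K32.f444204 IH) (Lpe (K51.f100209 IH) (Lpe (K46.f25581 IH) (Lpr_gt (K0.f22966 IH) (Lpr_ct (f646335 IH) (Lpn v5169))))))))))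
theorem f691620 : Led Lsl_gf v5169 = v12341 :=
  Lgr Lrot47 (Lpe (f646338 IH) (Lpe (K2.f55646 IH) (Lpr_ff (f691617 IH) (Lpn v12341))))
theorem f691618 : Led Lsl_ct (LP (LK LD1_c4 LD2_c6 LD3_c6)) = v12341 :=
  Lgr Lrot40 (Lpe (K2.f55699 IH) (Lpe (K2.f55706 IH) (Lpr_ff (f691617 IH) (Lpn v12341))))
def v12376 : LQ := Led Lsl_bt (LP (LK LD1_c4 LD2_c7 LD3_c25))
theorem f691787 : Led Lsl_bt (LP (LK LD1_c4 LD2_c7 LD3_c25)) = v12376 :=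
  Lrfl
theorem f691788 : Led Lsl_bf (LP (LK LD1_c4 LD2_c7 LD3_c25)) = v12376 :=
  Lgr Lrot24 (Lpr_bt (f691787 IH) (Lpn v12376))
theorem f20505 : Led Lsl_bt (LP (LK LD1_c2 LD2_c33 LD3_c37)) = (LP (LK LD1_c5 LD2_c13 LD3_c29)) :=
  Lre_b IH (LK LD1_c2 LD2_c33 LD3_c37) (LK LD1_c5 LD2_c13 LD3_c29) Lrfl Lrfl
theorem f185705 : Led Lsl_gt (LP (LK LD1_c5 LD2_c11 LD3_c46)) = (LP (LK LD1_c10 LD2_c14 LD3_c22)) :=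
  Lre_g IH (LK LD1_c5 LD2_c11 LD3_c46) (LK LD1_c10 LD2_c14 LD3_c22) Lrfl Lrfl
theorem f714424 : Led Lsl_ct v12376 = (LP (LK LD1_c10 LD2_c14 LD3_c22)) :=
  Lgr Lrot10 (Lpe (f691788 IH) (Lpe (K51.f55789 IH) (Lpr_ct (f691618 IH) (Lpe (f691620 IH) (Lpe (f646335 IH) (Lpr_bt (f22981 IH) (Lpr_gt (f714126 IH) (Lpe (f20505 IH) (Lpe (K18.f185179 IH) (Lpr_gt (f185705 IH) (Lpn (LP (LK LD1_c10 LD2_c14 LD3_c22)))))))))))))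
theorem f633717 : Led Lsl_ff (LP (LK LD1_c4 LD2_c7 LD3_c25)) = (LP (LK LD1_c4 LD2_c6 LD3_c5)) :=
  Lgr Lrot3 (Lpr_ft (K51.f633715 IH) (Lpn (LP (LK LD1_c4 LD2_c6 LD3_c5))))
theorem f691790 : Led Lsl_ff K51.v12342 = v12376 :=
  Lgr Lrot25 (Lpe (f691623 IH) (Lpe (f633717 IH) (Lpr_bt (f691787 IH) (Lpn v12376))))
theorem f691792 : Led Lsl_ft K51.v12342 = v12376 :=
  Lgr Lrot48 (Lpr_ff (f691790 IH) (Lpn v12376))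
theorem f710733 : Led Lsl_cf K51.v12342 = (LP (LK LD1_c10 LD2_c0 LD3_c24)) :=
  Lgr Lrot11 (Lpr_ct (f710729 IH) (Lpn (LP (LK LD1_c10 LD2_c0 LD3_c24))))
theorem f714428 : Led Lsl_ff (LP (LK LD1_c10 LD2_c0 LD3_c24)) = (LP (LK LD1_c10 LD2_c14 LD3_c22)) :=
  Lgr Lrot23 (Lpe (f710733 IH) (Lpr_ft (f691792 IH) (Lpr_ct (f714424 IH) (Lpn (LP (LK LD1_c10 LD2_c14 LD3_c22))))))
theorem f714429 : Led Lsl_ft (LP (LK LD1_c10 LD2_c14 LD3_c22)) = (LP (LK LD1_c10 LD2_c0 LD3_c24)) :=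
  Leop (Lpr_ff (f714428 IH) (Lpn (LP (LK LD1_c10 LD2_c14 LD3_c22))))
theorem seed_770 : LEOK LG_f (LK LD1_c10 LD2_c14 LD3_c22) :=
  Leoe_f (LK LD1_c10 LD2_c14 LD3_c22) (f714429 IH)
theorem f169680 : Led Lsl_et (LP (LK LD1_c2 LD2_c29 LD3_c40)) = (LP (LK LD1_c5 LD2_c4 LD3_c38)) :=
  Lre_e IH (LK LD1_c2 LD2_c29 LD3_c40) (LK LD1_c5 LD2_c4 LD3_c38) Lrfl Lrfl
theorem f169681 : Led Lsl_cf (LP (LK LD1_c2 LD2_c30 LD3_c35)) = (LP (LK LD1_c5 LD2_c4 LD3_c38)) :=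
  Lgr Lrot39 (Lpr_et (K11.f22144 IH) (Lpr_ct (K9.f169580 IH) (Lpr_et (f169680 IH) (Lpn (LP (LK LD1_c5 LD2_c4 LD3_c38))))))
theorem f169734 : Led Lsl_ft (LP (LK LD1_c10 LD2_c0 LD3_c25)) = (LP (LK LD1_c5 LD2_c4 LD3_c38)) :=
  Lre_f IH (LK LD1_c10 LD2_c0 LD3_c25) (LK LD1_c5 LD2_c4 LD3_c38) Lrfl Lrfl
theorem f169735 : Led Lsl_ct (LP (LK LD1_c5 LD2_c6 LD3_c38)) = (LP (LK LD1_c10 LD2_c0 LD3_c25)) :=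
  Lgr Lrot40 (Lpe (K50.f22155 IH) (Lpr_cf (f169681 IH) (Lpe (f169734 IH) (Lpn (LP (LK LD1_c10 LD2_c0 LD3_c25))))))
theorem f169742 : Led Lsl_cf (LP (LK LD1_c5 LD2_c6 LD3_c38)) = (LP (LK LD1_c10 LD2_c0 LD3_c25)) :=
  Lgr Lrot11 (Lpr_ct (f169735 IH) (Lpn (LP (LK LD1_c10 LD2_c0 LD3_c25))))
theorem f302689 : Led Lsl_at (LP (LK LD1_c10 LD2_c14 LD3_c24)) = (LP (LK LD1_c10 LD2_c0 LD3_c25)) :=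
  Lgr Lrot107 (Lpr_cf (f185714 IH) (Lpr_af (K50.f302683 IH) (Lpr_cf (f169742 IH) (Lpn (LP (LK LD1_c10 LD2_c0 LD3_c25))))))
theorem f302698 : Led Lsl_gt (LP (LK LD1_c10 LD2_c14 LD3_c22)) = (LP (LK LD1_c10 LD2_c0 LD3_c25)) :=
  Lgr Lrot46 (Lpe (f185705 IH) (Lpr_ft (K18.f185702 IH) (Lpr_at (f302689 IH) (Lpn (LP (LK LD1_c10 LD2_c0 LD3_c25))))))
theorem f185700 : Led Lsl_ct (LP (LK LD1_c5 LD2_c11 LD3_c46)) = (LP (LK LD1_c2 LD2_c33 LD3_c37)) :=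
  Lgr Lrot59 (Lpr_cf (K18.f185179 IH) (Lpn (LP (LK LD1_c2 LD2_c33 LD3_c37))))
theorem f169732 : Led Lsl_ct (LP (LK LD1_c2 LD2_c30 LD3_c35)) = (LP (LK LD1_c5 LD2_c4 LD3_c38)) :=
  Lgr Lrot59 (Lpr_cf (f169681 IH) (Lpn (LP (LK LD1_c5 LD2_c4 LD3_c38))))
theorem f302681 : Led Lsl_af (LP (LK LD1_c5 LD2_c11 LD3_c46)) = (LP (LK LD1_c5 LD2_c4 LD3_c38)) :=
  Lgr Lrot68 (Lpr_ct (f185700 IH) (Lpr_at (K50.f302677 IH) (Lpr_ct (f169732 IH) (Lpn (LP (LK LD1_c5 LD2_c4 LD3_c38))))))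
theorem f185708 : Led Lsl_gt (LP (LK LD1_c10 LD2_c14 LD3_c23)) = (LP (LK LD1_c5 LD2_c11 LD3_c46)) :=
  Lre_g IH (LK LD1_c10 LD2_c14 LD3_c23) (LK LD1_c5 LD2_c11 LD3_c46) Lrfl Lrfl
theorem f302722 : Led Lsl_gf (LP (LK LD1_c10 LD2_c14 LD3_c23)) = (LP (LK LD1_c10 LD2_c0 LD3_c25)) :=
  Lgr Lrot47 (Lpr_gt (f185708 IH) (Lpr_af (f302681 IH) (Lpe (f169734 IH) (Lpn (LP (LK LD1_c10 LD2_c0 LD3_c25))))))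
theorem f714432 : Led Lsl_at (LP (LK LD1_c10 LD2_c0 LD3_c24)) = (LP (LK LD1_c10 LD2_c14 LD3_c23)) :=
  Lgr Lrot26 (Lpr_ff (f714428 IH) (Lpr_gt (f302698 IH) (Lpe (f302722 IH) (Lpn (LP (LK LD1_c10 LD2_c14 LD3_c23))))))
theorem f714434 : Led Lsl_af (LP (LK LD1_c10 LD2_c0 LD3_c24)) = (LP (LK LD1_c10 LD2_c14 LD3_c23)) :=
  Lgr Lrot0 (Lpr_at (f714432 IH) (Lpn (LP (LK LD1_c10 LD2_c14 LD3_c23))))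
theorem f302694 : Led Lsl_af (LP (LK LD1_c10 LD2_c14 LD3_c24)) = (LP (LK LD1_c10 LD2_c0 LD3_c25)) :=
  Lgr Lrot0 (Lpr_at (f302689 IH) (Lpn (LP (LK LD1_c10 LD2_c0 LD3_c25))))
theorem f169744 : Led Lsl_ft (LP (LK LD1_c5 LD2_c4 LD3_c38)) = (LP (LK LD1_c10 LD2_c0 LD3_c25)) :=
  Lre_f IH (LK LD1_c5 LD2_c4 LD3_c38) (LK LD1_c10 LD2_c0 LD3_c25) Lrfl Lrfl
theorem f169737 : Led Lsl_gt (LP (LK LD1_c5 LD2_c4 LD3_c38)) = (LP (LK LD1_c10 LD2_c0 LD3_c23)) :=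
  Lre_g IH (LK LD1_c5 LD2_c4 LD3_c38) (LK LD1_c10 LD2_c0 LD3_c23) Lrfl Lrfl
theorem f302714 : Led Lsl_gf (LP (LK LD1_c10 LD2_c14 LD3_c24)) = (LP (LK LD1_c10 LD2_c0 LD3_c23)) :=
  Lgr Lrot76 (Lpr_af (f302694 IH) (Lpe (f169744 IH) (Lpr_gt (f169737 IH) (Lpn (LP (LK LD1_c10 LD2_c0 LD3_c23))))))
theorem f714436 : Led Lsl_ft (LP (LK LD1_c10 LD2_c0 LD3_c23)) = (LP (LK LD1_c10 LD2_c14 LD3_c23)) :=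
  Lgr Lrot2 (Lpe (f302714 IH) (Lpr_gt (f406501 IH) (Lpr_af (f714434 IH) (Lpn (LP (LK LD1_c10 LD2_c14 LD3_c23))))))
theorem f714440 : Led Lsl_ff (LP (LK LD1_c10 LD2_c0 LD3_c23)) = (LP (LK LD1_c10 LD2_c14 LD3_c23)) :=
  Lgr Lrot3 (Lpr_ft (f714436 IH) (Lpn (LP (LK LD1_c10 LD2_c14 LD3_c23))))
theorem f714442 : Led Lsl_at (LP (LK LD1_c10 LD2_c0 LD3_c23)) = (LP (LK LD1_c10 LD2_c14 LD3_c22)) :=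
  Lgr Lrot66 (Lpr_ff (f714440 IH) (Lpe (f714432 IH) (Lpr_ff (f714428 IH) (Lpn (LP (LK LD1_c10 LD2_c14 LD3_c22))))))
theorem f714426 : Led Lsl_cf v12376 = (LP (LK LD1_c10 LD2_c14 LD3_c22)) :=
  Lgr Lrot11 (Lpr_ct (f714424 IH) (Lpn (LP (LK LD1_c10 LD2_c14 LD3_c22))))
theorem f707156 : Led Lsl_at v12376 = (LP (LK LD1_c5 LD2_c8 LD3_c14)) :=
  Lgr Lrot26 (Lpe (f691792 IH) (Lpq (K51.f707151 IH) (Lpr_gt (K51.f165765 IH) (Lpr_gt (K51.f165759 IH) (Lpn (LP (LK LD1_c5 LD2_c8 LD3_c14)))))))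
theorem f714446 : Led Lsl_cf (LP (LK LD1_c10 LD2_c0 LD3_c23)) = (LP (LK LD1_c5 LD2_c8 LD3_c14)) :=
  Lgr Lrot1 (Lpr_at (f714442 IH) (Lpe (f714426 IH) (Lpr_at (f707156 IH) (Lpn (LP (LK LD1_c5 LD2_c8 LD3_c14))))))
theorem f714447 : Led Lsl_ct (LP (LK LD1_c5 LD2_c8 LD3_c14)) = (LP (LK LD1_c10 LD2_c0 LD3_c23)) :=
  Leop (Lpr_cf (f714446 IH) (Lpn (LP (LK LD1_c5 LD2_c8 LD3_c14))))
theorem seed_771 : LEOK LG_c (LK LD1_c5 LD2_c8 LD3_c14) :=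
  Leoe_c (LK LD1_c5 LD2_c8 LD3_c14) (f714447 IH)
theorem f109956 : Led Lsl_gt (LP (LK LD1_c7 LD2_c1 LD3_c42)) = (LP (LK LD1_c3 LD2_c30 LD3_c0)) :=
  Lre_g IH (LK LD1_c7 LD2_c1 LD3_c42) (LK LD1_c3 LD2_c30 LD3_c0) Lrfl Lrfl
theorem f140137 : Led Lsl_ct (LP (LK LD1_c4 LD2_c39 LD3_c1)) = (LP (LK LD1_c2 LD2_c16 LD3_c31)) :=
  Lre_c IH (LK LD1_c4 LD2_c39 LD3_c1) (LK LD1_c2 LD2_c16 LD3_c31) Lrfl Lrfl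
theorem f77371 : Led Lsl_ct (LP (LK LD1_c3 LD2_c24 LD3_c14)) = (LP (LK LD1_c6 LD2_c51 LD3_c21)) :=
  Lre_c IH (LK LD1_c3 LD2_c24 LD3_c14) (LK LD1_c6 LD2_c51 LD3_c21) Lrfl Lrfl
theorem f140138 : Led Lsl_bf (LP (LK LD1_c4 LD2_c39 LD3_c1)) = (LP (LK LD1_c6 LD2_c51 LD3_c21)) :=
  Lgr Lrot90 (Lpr_ct (f140137 IH) (Lpr_bt (f140136 IH) (Lpr_ct (K9.f140106 IH) (Lpr_bt (K51.f140114 IH) (Lpr_ct (f77371 IH) (Lpn (LP (LK LD1_c6 LD2_c51 LD3_c21))))))))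
theorem f77369 : Led Lsl_ct (LP (LK LD1_c6 LD2_c51 LD3_c21)) = (LP (LK LD1_c3 LD2_c24 LD3_c14)) :=
  Lre_c IH (LK LD1_c6 LD2_c51 LD3_c21) (LK LD1_c3 LD2_c24 LD3_c14) Lrfl Lrfl
def v6618 : LQ := Led Lsl_gt (LP (LK LD1_c3 LD2_c24 LD3_c14))
theorem f654447 : Led Lsl_gt (LP (LK LD1_c3 LD2_c24 LD3_c14)) = v6618 :=
  Lrfl
theorem f707729 : K51.v1852 = v6618 :=
  Lefun (Lecon (K51.f632603 IH) (K51.f707726 IH).symm) (f654447 IH)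
theorem f647504 : Led Lsl_cf K51.v1852 = K51.v5407 :=
  Lgr Lrot108 (Lpe (K51.f504573 IH) (Lpr_ct (K51.f61916 IH) (Lpr_ft (K51.f647502 IH) (Lpn K51.v5407))))
theorem f647503 : Led Lsl_bf (LP (LK LD1_c6 LD2_c39 LD3_c43)) = K51.v5407 :=
  Lgr Lrot61 (Lpr_ft (f104245 IH) (Lpr_bt (K51.f104238 IH) (Lpr_ft (K51.f647502 IH) (Lpn K51.v5407))))
theorem f65077 : Led Lsl_gt (LP (LK LD1_c12 LD2_c1 LD3_c59)) = (LP (LK LD1_c6 LD2_c10 LD3_c45)) :=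
  Lre_g IH (LK LD1_c12 LD2_c1 LD3_c59) (LK LD1_c6 LD2_c10 LD3_c45) Lrfl Lrfl
theorem f105307 : Led Lsl_gt (LP (LK LD1_c6 LD2_c39 LD3_c43)) = (LP (LK LD1_c12 LD2_c1 LD3_c59)) :=
  Lgr Lrot5 (Lpr_ft (f104245 IH) (Lpr_at (K3.f105273 IH) (Lpe (f65077 IH) (Lpn (LP (LK LD1_c12 LD2_c1 LD3_c59))))))
theorem f714661 : Led Lsl_cf (LP (LK LD1_c7 LD2_c1 LD3_c42)) = (LP (LK LD1_c12 LD2_c1 LD3_c59)) :=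
  Lgr Lrot125 (Lpr_gt (f109956 IH) (Lpe (f96055 IH) (Lpe (f420487 IH) (Lpq (f713883 IH) (Lpe (f700977 IH) (Lpr_bf (f140138 IH) (Lpr_ct (f77369 IH) (Lpr_gt (f654447 IH) (Lpq (f707729 IH) (Lpr_cf (f647504 IH) (Lpe (f647503 IH) (Lpr_gt (f105307 IH) (Lpn (LP (LK LD1_c12 LD2_c1 LD3_c59)))))))))))))))
theorem f714662 : Led Lsl_ct (LP (LK LD1_c12 LD2_c1 LD3_c59)) = (LP (LK LD1_c7 LD2_c1 LD3_c42)) :=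
  Leop (Lpr_cf (f714661 IH) (Lpn (LP (LK LD1_c12 LD2_c1 LD3_c59))))
theorem seed_772 : LEOK LG_c (LK LD1_c12 LD2_c1 LD3_c59) :=
  Leoe_c (LK LD1_c12 LD2_c1 LD3_c59) (f714662 IH)
def v4830 : LQ := Led Lsl_dt (LP (LK LD1_c2 LD2_c50 LD3_c10))
theorem f640498 : Led Lsl_dt (LP (LK LD1_c2 LD2_c50 LD3_c10)) = v4830 :=
  Lrfl
theorem f640499 : Led Lsl_df (LP (LK LD1_c2 LD2_c50 LD3_c10)) = v4830 :=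
  Lgr Lrot38 (Lpr_dt (f640498 IH) (Lpn v4830))
theorem f640500 : Led Lsl_ef (LP (LK LD1_c2 LD2_c51 LD3_c45)) = v4830 :=
  Lgr Lrot73 (Lpr_dt (K38.f136254 IH) (Lpr_et (K38.f22383 IH) (Lpe (K6.f136246 IH) (Lpr_et (K51.f136253 IH) (Lpr_dt (f640498 IH) (Lpn v4830))))))
theorem f592741 : Led Lsl_et (LP (LK LD1_c4 LD2_c34 LD3_c60)) = (LP (LK LD1_c9 LD2_c6 LD3_c44)) :=
  Lre_e IH (LK LD1_c4 LD2_c34 LD3_c60) (LK LD1_c9 LD2_c6 LD3_c44) Lrfl Lrfl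
def v4829 : LQ := Led Lsl_gf (LP (LK LD1_c2 LD2_c50 LD3_c10))
theorem f640497 : Led Lsl_gf (LP (LK LD1_c2 LD2_c50 LD3_c10)) = v4829 :=
  Lrfl
theorem f707381 : (LP (LK LD1_c1 LD2_c37 LD3_c9)) = v4829 :=
  Lefun (Lecon (Lfl_gt (K51.f509644 IH)) (K51.f707378 IH)) (f640497 IH)
theorem f454305 : Led Lsl_et (LP (LK LD1_c3 LD2_c21 LD3_c50)) = (LP (LK LD1_c6 LD2_c47 LD3_c23)) :=
  Lre_e IH (LK LD1_c3 LD2_c21 LD3_c50) (LK LD1_c6 LD2_c47 LD3_c23) Lrfl Lrfl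
theorem f714775 : Led Lsl_gt (LP (LK LD1_c9 LD2_c6 LD3_c44)) = (LP (LK LD1_c6 LD2_c47 LD3_c23)) :=
  Lgr Lrot131 (Lpe (f592741 IH) (Lpr_dt (K45.f592722 IH) (Lpe (K41.f380310 IH) (Lpe (K36.f380317 IH) (Lpe (K38.f544937 IH) (Lpr_ef (f640500 IH) (Lpe (f640499 IH) (Lpr_gf (f640497 IH) (Lpq (f707381 IH) (Lpe (K24.f454298 IH) (Lpr_et (f454305 IH) (Lpn (LP (LK LD1_c6 LD2_c47 LD3_c23))))))))))))))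
theorem f714776 : Led Lsl_gt (LP (LK LD1_c9 LD2_c6 LD3_c44)) = (LP (LK LD1_c6 LD2_c47 LD3_c23)) :=
  Leop (Lpe (f714775 IH) (Lpn (LP (LK LD1_c9 LD2_c6 LD3_c44))))
theorem seed_773 : LEOK LG_g (LK LD1_c9 LD2_c6 LD3_c44) :=
  Leoe_g (LK LD1_c9 LD2_c6 LD3_c44) (f714776 IH)
def v6361 : LQ := Led Lsl_ft (LP (LK LD1_c3 LD2_c20 LD3_c53))
theorem f652988 : Led Lsl_ft (LP (LK LD1_c3 LD2_c20 LD3_c53)) = v6361 :=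
  Lrfl
theorem f652990 : Led Lsl_ff (LP (LK LD1_c3 LD2_c20 LD3_c53)) = v6361 :=
  Lgr Lrot3 (Lpr_ft (f652988 IH) (Lpn v6361))
def v6358 : LQ := Led Lsl_at (LP (LK LD1_c3 LD2_c20 LD3_c53))
theorem f652979 : Led Lsl_at (LP (LK LD1_c3 LD2_c20 LD3_c53)) = v6358 :=
  Lrfl
theorem f652980 : Led Lsl_af (LP (LK LD1_c3 LD2_c20 LD3_c53)) = v6358 :=
  Lgr Lrot0 (Lpr_at (f652979 IH) (Lpn v6358))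
theorem f453988 : Led Lsl_at (LP (LK LD1_c3 LD2_c20 LD3_c54)) = (LP (LK LD1_c1 LD2_c36 LD3_c45)) :=
  Lre_a IH (LK LD1_c3 LD2_c20 LD3_c54) (LK LD1_c1 LD2_c36 LD3_c45) Lrfl Lrfl
theorem f414516 : Led Lsl_gt (LP (LK LD1_c3 LD2_c20 LD3_c53)) = (LP (LK LD1_c1 LD2_c36 LD3_c45)) :=
  Lre_g IH (LK LD1_c3 LD2_c20 LD3_c53) (LK LD1_c1 LD2_c36 LD3_c45) Lrfl Lrfl
theorem f510364 : Led Lsl_gf (LP (LK LD1_c3 LD2_c20 LD3_c53)) = (LP (LK LD1_c4 LD2_c49 LD3_c14)) :=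
  Lgr Lrot47 (Lpr_gt (f414516 IH) (Lpe (f453988 IH) (Lpr_ff (K50.f510358 IH) (Lpn (LP (LK LD1_c4 LD2_c49 LD3_c14))))))
def v2166 : LQ := Led Lsl_ft (LP (LK LD1_c1 LD2_c36 LD3_c45))
theorem f509433 : Led Lsl_ft (LP (LK LD1_c1 LD2_c36 LD3_c45)) = v2166 :=
  Lrfl
theorem f509435 : Led Lsl_ff (LP (LK LD1_c1 LD2_c36 LD3_c45)) = v2166 :=
  Lgr Lrot3 (Lpr_ft (f509433 IH) (Lpn v2166))
theorem f509436 : Led Lsl_bt K32.v558 = v2166 :=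
  Lgr Lrot35 (Lpe (K32.f453982 IH) (Lpe (K50.f414494 IH) (Lpr_ff (f509435 IH) (Lpn v2166))))
theorem f139990 : Led Lsl_bt (LP (LK LD1_c1 LD2_c8 LD3_c21)) = (LP (LK LD1_c2 LD2_c22 LD3_c26)) :=
  Lre_b IH (LK LD1_c1 LD2_c8 LD3_c21) (LK LD1_c2 LD2_c22 LD3_c26) Lrfl Lrfl
theorem f509862 : v2166 = (LP (LK LD1_c2 LD2_c22 LD3_c26)) :=
  Lefun (Lecon (f509436 IH) (K35.f509845 IH)) (f139990 IH)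
def v2165 : LQ := Led Lsl_gt (LP (LK LD1_c1 LD2_c36 LD3_c45))
theorem f509425 : Led Lsl_gt (LP (LK LD1_c1 LD2_c36 LD3_c45)) = v2165 :=
  Lrfl
theorem f495148 : Led Lsl_at (LP (LK LD1_c2 LD2_c22 LD3_c26)) = (LP (LK LD1_c4 LD2_c49 LD3_c14)) :=
  Lre_a IH (LK LD1_c2 LD2_c22 LD3_c26) (LK LD1_c4 LD2_c49 LD3_c14) Lrfl Lrfl
theorem f510402 : Led Lsl_gt v2165 = (LP (LK LD1_c4 LD2_c49 LD3_c14)) :=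
  Lgr Lrot46 (Lpe (f509425 IH) (Lpr_ft (f509433 IH) (Lpqs (f509862 IH) (Lpr_at (f495148 IH) (Lpn (LP (LK LD1_c4 LD2_c49 LD3_c14)))))))
theorem f652981 : Led Lsl_ft v2165 = v6358 :=
  Lgr Lrot2 (Lpr_gt (f510402 IH) (Lpe (f510364 IH) (Lpr_af (f652980 IH) (Lpn v6358))))
theorem f652982 : Led Lsl_ff v2165 = v6358 :=
  Lgr Lrot3 (Lpr_ft (f652981 IH) (Lpn v6358))
theorem f652992 : Led Lsl_at v2165 = v6361 :=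
  Lgr Lrot66 (Lpr_ff (f652982 IH) (Lpe (f652979 IH) (Lpr_ff (f652990 IH) (Lpn v6361))))
theorem f61863 : Led Lsl_gt (LP (LK LD1_c5 LD2_c53 LD3_c34)) = (LP (LK LD1_c2 LD2_c53 LD3_c7)) :=
  Lre_g IH (LK LD1_c5 LD2_c53 LD3_c34) (LK LD1_c2 LD2_c53 LD3_c7) Lrfl Lrfl
theorem f202131 : Led Lsl_df (LP (LK LD1_c6 LD2_c50 LD3_c19)) = (LP (LK LD1_c5 LD2_c53 LD3_c34)) :=
  Lgr Lrot155 (Lpr_gt (K11.f83794 IH) (Lpe (K5.f91320 IH) (Lpe (K6.f99135 IH) (Lpr_ct (K11.f202107 IH) (Lpr_dt (K11.f104872 IH) (Lpe (K11.f104886 IH) (Lpe (K32.f202064 IH) (Lpe (K5.f61846 IH) (Lpe (f61863 IH) (Lpn (LP (LK LD1_c5 LD2_c53 LD3_c34))))))))))))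
theorem f202115 : Led Lsl_df (LP (LK LD1_c0 LD2_c18 LD3_c20)) = (LP (LK LD1_c0 LD2_c38 LD3_c53)) :=
  Lgr Lrot43 (Lpr_ct (K8.f59803 IH) (Lpr_dt (K6.f80263 IH) (Lpr_ct (K6.f38024 IH) (Lpr_dt (K11.f75634 IH) (Lpr_ct (K11.f202107 IH) (Lpr_dt (K11.f104872 IH) (Lpr_ct (K11.f104871 IH) (Lpe (K11.f104810 IH) (Lpr_ct (K11.f104868 IH) (Lpr_dt (K11.f104869 IH) (Lpr_ct (K11.f104870 IH) (Lpe (K11.f202070 IH) (Lpr_ct (K6.f69145 IH) (Lpr_dt (K6.f37430 IH) (Lpr_ct (K6.f26505 IH) (Lpn (LP (LK LD1_c0 LD2_c38 LD3_c53))))))))))))))))))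
theorem f202133 : Led Lsl_gt (LP (LK LD1_c2 LD2_c53 LD3_c14)) = (LP (LK LD1_c5 LD2_c53 LD3_c34)) :=
  Lgr Lrot94 (Lpe (K6.f79354 IH) (Lpr_gt (K4.f68997 IH) (Lpe (f202115 IH) (Lpr_gt (K4.f58961 IH) (Lpr_dt (K4.f83762 IH) (Lpe (K6.f83766 IH) (Lpr_df (K5.f83773 IH) (Lpe (K11.f83794 IH) (Lpr_df (f202131 IH) (Lpn (LP (LK LD1_c5 LD2_c53 LD3_c34))))))))))))
theorem f149302 : Led Lsl_ft (LP (LK LD1_c2 LD2_c53 LD3_c14)) = (LP (LK LD1_c4 LD2_c35 LD3_c56)) :=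
  Lgr Lrot54 (Lpe (K6.f79360 IH) (Lpr_ff (K8.f104468 IH) (Lpr_df (K7.f149292 IH) (Lpn (LP (LK LD1_c4 LD2_c35 LD3_c56))))))
theorem f202135 : Led Lsl_at (LP (LK LD1_c4 LD2_c35 LD3_c56)) = (LP (LK LD1_c2 LD2_c53 LD3_c7)) :=
  Lgr Lrot26 (Lpe (f149302 IH) (Lpr_gt (f202133 IH) (Lpr_gt (f61863 IH) (Lpn (LP (LK LD1_c2 LD2_c53 LD3_c7))))))
theorem f149301 : Led Lsl_et (LP (LK LD1_c9 LD2_c8 LD3_c6)) = (LP (LK LD1_c4 LD2_c35 LD3_c56)) :=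
  Lre_e IH (LK LD1_c9 LD2_c8 LD3_c6) (LK LD1_c4 LD2_c35 LD3_c56) Lrfl Lrfl
theorem f61856 : Led Lsl_et (LP (LK LD1_c2 LD2_c53 LD3_c7)) = (LP (LK LD1_c5 LD2_c53 LD3_c35)) :=
  Lre_e IH (LK LD1_c2 LD2_c53 LD3_c7) (LK LD1_c5 LD2_c53 LD3_c35) Lrfl Lrfl
theorem f202137 : Led Lsl_af (LP (LK LD1_c9 LD2_c8 LD3_c6)) = (LP (LK LD1_c5 LD2_c53 LD3_c35)) :=
  Lgr Lrot50 (Lpr_et (f149301 IH) (Lpr_at (f202135 IH) (Lpr_et (f61856 IH) (Lpn (LP (LK LD1_c5 LD2_c53 LD3_c35))))))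
theorem f202141 : Led Lsl_ct (LP (LK LD1_c9 LD2_c8 LD3_c6)) = (LP (LK LD1_c4 LD2_c35 LD3_c57)) :=
  Lre_c IH (LK LD1_c9 LD2_c8 LD3_c6) (LK LD1_c4 LD2_c35 LD3_c57) Lrfl Lrfl
theorem f61854 : Led Lsl_ct (LP (LK LD1_c2 LD2_c53 LD3_c8)) = (LP (LK LD1_c5 LD2_c53 LD3_c35)) :=
  Lre_c IH (LK LD1_c2 LD2_c53 LD3_c8) (LK LD1_c5 LD2_c53 LD3_c35) Lrfl Lrfl
theorem f202142 : Led Lsl_at (LP (LK LD1_c4 LD2_c35 LD3_c57)) = (LP (LK LD1_c2 LD2_c53 LD3_c8)) :=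
  Lgr Lrot107 (Lpe (f202141 IH) (Lpr_af (f202137 IH) (Lpe (f61854 IH) (Lpn (LP (LK LD1_c2 LD2_c53 LD3_c8))))))
theorem f202145 : Led Lsl_af (LP (LK LD1_c4 LD2_c35 LD3_c57)) = (LP (LK LD1_c2 LD2_c53 LD3_c8)) :=
  Lgr Lrot0 (Lpr_at (f202142 IH) (Lpn (LP (LK LD1_c2 LD2_c53 LD3_c8))))
def v8712 : LQ := Led Lsl_bt v2165
theorem f672065 : Led Lsl_bt v2165 = v8712 :=
  Lrfl
theorem f672066 : Led Lsl_bf v2165 = v8712 :=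
  Lgr Lrot24 (Lpr_bt (f672065 IH) (Lpn v8712))
theorem f61855 : Led Lsl_bt (LP (LK LD1_c5 LD2_c53 LD3_c25)) = (LP (LK LD1_c2 LD2_c53 LD3_c8)) :=
  Lre_b IH (LK LD1_c5 LD2_c53 LD3_c25) (LK LD1_c2 LD2_c53 LD3_c8) Lrfl Lrfl
def v13900 : LQ := Led Lsl_gf (LP (LK LD1_c4 LD2_c49 LD3_c44))
theorem f705776 : Led Lsl_gf (LP (LK LD1_c4 LD2_c49 LD3_c44)) = v13900 :=
  Lrfl
theorem f705778 : Led Lsl_ct v8712 = v13900 :=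
  Lgr Lrot64 (Lpe (f672066 IH) (Lpe (f509425 IH) (Lpe (K50.f414515 IH) (Lpe (K17.f414496 IH) (Lpe (K9.f13573 IH) (Lpe (K16.f413657 IH) (Lpe (K16.f413656 IH) (Lpe (f413687 IH) (Lpr_ct (K32.f413688 IH) (Lpr_gf (f705776 IH) (Lpn v13900)))))))))))
theorem f705779 : Led Lsl_cf v8712 = v13900 :=
  Lgr Lrot11 (Lpr_ct (f705778 IH) (Lpn v13900))
theorem f61847 : Led Lsl_bt (LP (LK LD1_c5 LD2_c53 LD3_c35)) = (LP (LK LD1_c6 LD2_c50 LD3_c36)) :=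
  Lgr Lrot127 (Lpr_bf (K8.f61844 IH) (Lpn (LP (LK LD1_c6 LD2_c50 LD3_c36))))
theorem f95193 : Led Lsl_bt (LP (LK LD1_c3 LD2_c25 LD3_c46)) = (LP (LK LD1_c6 LD2_c53 LD3_c17)) :=
  Lre_b IH (LK LD1_c3 LD2_c25 LD3_c46) (LK LD1_c6 LD2_c53 LD3_c17) Lrfl Lrfl
theorem f95194 : Led Lsl_cf (LP (LK LD1_c5 LD2_c53 LD3_c25)) = (LP (LK LD1_c6 LD2_c53 LD3_c17)) :=
  Lgr Lrot97 (Lpr_bt (f61855 IH) (Lpr_ct (f61854 IH) (Lpr_bt (f61847 IH) (Lpr_ct (K8.f94983 IH) (Lpr_bt (f95193 IH) (Lpn (LP (LK LD1_c6 LD2_c53 LD3_c17))))))))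
theorem f454501 : Led Lsl_dt (LP (LK LD1_c6 LD2_c47 LD3_c19)) = (LP (LK LD1_c12 LD2_c57 LD3_c40)) :=
  Lre_d IH (LK LD1_c6 LD2_c47 LD3_c19) (LK LD1_c12 LD2_c57 LD3_c40) Lrfl Lrfl
def v4499 : LQ := Led Lsl_gf (LP (LK LD1_c2 LD2_c22 LD3_c39))
theorem f634252 : Led Lsl_gf (LP (LK LD1_c2 LD2_c22 LD3_c39)) = v4499 :=
  Lrfl
theorem f416226 : Led Lsl_at (LP (LK LD1_c4 LD2_c49 LD3_c49)) = (LP (LK LD1_c2 LD2_c22 LD3_c39)) :=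
  Lre_a IH (LK LD1_c4 LD2_c49 LD3_c49) (LK LD1_c2 LD2_c22 LD3_c39) Lrfl Lrfl
theorem f634253 : Led Lsl_gt (LP (LK LD1_c3 LD2_c21 LD3_c49)) = v4499 :=
  Lgr Lrot5 (Lpe (K51.f454430 IH) (Lpr_at (f416226 IH) (Lpr_gf (f634252 IH) (Lpn v4499))))
theorem f710130 : (LP (LK LD1_c4 LD2_c34 LD3_c30)) = v4499 :=
  Lefun (Lecon (Lfl_gt (f699554 IH)) (f710128 IH)) (f634252 IH)
theorem f109945 : Led Lsl_et (LP (LK LD1_c1 LD2_c4 LD3_c23)) = (LP (LK LD1_c2 LD2_c14 LD3_c33)) :=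
  Lre_e IH (LK LD1_c1 LD2_c4 LD3_c23) (LK LD1_c2 LD2_c14 LD3_c33) Lrfl Lrfl
theorem f25257 : Led Lsl_dt (LP (LK LD1_c4 LD2_c34 LD3_c54)) = (LP (LK LD1_c9 LD2_c6 LD3_c29)) :=
  Lre_d IH (LK LD1_c4 LD2_c34 LD3_c54) (LK LD1_c9 LD2_c6 LD3_c29) Lrfl Lrfl
theorem f714849 : Led Lsl_gf (LP (LK LD1_c12 LD2_c57 LD3_c40)) = (LP (LK LD1_c9 LD2_c6 LD3_c29)) :=
  Lgr Lrot134 (Lpe (f454501 IH) (Lpr_et (f454438 IH) (Lpr_gt (f634253 IH) (Lpq (f710130 IH) (Lpe (K5.f130543 IH) (Lpr_dt (K5.f130546 IH) (Lpr_gt (K2.f20406 IH) (Lpe (K6.f20400 IH) (Lpr_et (f109945 IH) (Lpr_gt (f25233 IH) (Lpr_dt (f25257 IH) (Lpn (LP (LK LD1_c9 LD2_c6 LD3_c29))))))))))))))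
theorem f454562 : Led Lsl_dt (LP (LK LD1_c12 LD2_c57 LD3_c40)) = (LP (LK LD1_c6 LD2_c47 LD3_c19)) :=
  Lre_d IH (LK LD1_c12 LD2_c57 LD3_c40) (LK LD1_c6 LD2_c47 LD3_c19) Lrfl Lrfl
theorem f454566 : Led Lsl_ct (LP (LK LD1_c6 LD2_c47 LD3_c19)) = (LP (LK LD1_c12 LD2_c57 LD3_c2)) :=
  Lre_c IH (LK LD1_c6 LD2_c47 LD3_c19) (LK LD1_c12 LD2_c57 LD3_c2) Lrfl Lrfl
theorem f454565 : Led Lsl_dt (LP (LK LD1_c22 LD2_c6 LD3_c43)) = (LP (LK LD1_c12 LD2_c57 LD3_c2)) :=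
  Lre_d IH (LK LD1_c22 LD2_c6 LD3_c43) (LK LD1_c12 LD2_c57 LD3_c2) Lrfl Lrfl
theorem f25383 : Led Lsl_gt (LP (LK LD1_c4 LD2_c34 LD3_c53)) = (LP (LK LD1_c9 LD2_c6 LD3_c23)) :=
  Lre_g IH (LK LD1_c4 LD2_c34 LD3_c53) (LK LD1_c9 LD2_c6 LD3_c23) Lrfl Lrfl
theorem f25384 : Led Lsl_dt (LP (LK LD1_c9 LD2_c6 LD3_c23)) = (LP (LK LD1_c16 LD2_c58 LD3_c13)) :=
  Lre_d IH (LK LD1_c9 LD2_c6 LD3_c23) (LK LD1_c16 LD2_c58 LD3_c13) Lrfl Lrfl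
theorem f714851 : Led Lsl_gf (LP (LK LD1_c22 LD2_c6 LD3_c43)) = (LP (LK LD1_c16 LD2_c58 LD3_c13)) :=
  Lgr Lrot143 (Lpr_dt (f454565 IH) (Lpe (f454566 IH) (Lpe (f454562 IH) (Lpr_gf (f714849 IH) (Lpe (f25257 IH) (Lpe (f25233 IH) (Lpe (f25216 IH) (Lpr_gt (f25383 IH) (Lpr_dt (f25384 IH) (Lpn (LP (LK LD1_c16 LD2_c58 LD3_c13))))))))))))
theorem f454336 : Led Lsl_dt (LP (LK LD1_c12 LD2_c57 LD3_c2)) = (LP (LK LD1_c22 LD2_c6 LD3_c43)) :=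
  Lre_d IH (LK LD1_c12 LD2_c57 LD3_c2) (LK LD1_c22 LD2_c6 LD3_c43) Lrfl Lrfl
theorem f454335 : Led Lsl_et (LP (LK LD1_c12 LD2_c57 LD3_c2)) = (LP (LK LD1_c6 LD2_c47 LD3_c3)) :=
  Lre_e IH (LK LD1_c12 LD2_c57 LD3_c2) (LK LD1_c6 LD2_c47 LD3_c3) Lrfl Lrfl
theorem f454313 : Led Lsl_at (LP (LK LD1_c3 LD2_c21 LD3_c43)) = (LP (LK LD1_c6 LD2_c47 LD3_c3)) :=
  Lre_a IH (LK LD1_c3 LD2_c21 LD3_c43) (LK LD1_c6 LD2_c47 LD3_c3) Lrfl Lrfl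
theorem f454314 : Led Lsl_ff (LP (LK LD1_c9 LD2_c32 LD3_c3)) = (LP (LK LD1_c6 LD2_c47 LD3_c3)) :=
  Lgr Lrot30 (Lpr_at (K24.f416208 IH) (Lpr_ft (K32.f454308 IH) (Lpr_at (f454313 IH) (Lpn (LP (LK LD1_c6 LD2_c47 LD3_c3))))))
theorem f705777 : Led Lsl_gt (LP (LK LD1_c6 LD2_c47 LD3_c3)) = v13900 :=
  Lgr Lrot5 (Lpe (f454314 IH) (Lpr_at (K24.f416208 IH) (Lpr_gf (f705776 IH) (Lpn v13900))))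
theorem f95242 : Led Lsl_et (LP (LK LD1_c3 LD2_c25 LD3_c42)) = (LP (LK LD1_c6 LD2_c53 LD3_c17)) :=
  Lre_e IH (LK LD1_c3 LD2_c25 LD3_c42) (LK LD1_c6 LD2_c53 LD3_c17) Lrfl Lrfl
theorem f714863 : v13900 = (LP (LK LD1_c6 LD2_c53 LD3_c17)) :=
  (Llr Lrot131 (Lpe (f705777 IH) (Lpe (f454335 IH) (Lpr_dt (f454336 IH) (Lpr_gf (f714851 IH) (Lpe (f25384 IH) (Lpe (f25383 IH) (Lpe (K8.f25272 IH) (Lpr_dt (K8.f146531 IH) (Lpe (K4.f20204 IH) (Lpe (K5.f95244 IH) (Lpr_et (f95242 IH) (Lpn (LP (LK LD1_c6 LD2_c53 LD3_c17))))))))))))))).symm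
theorem f714866 : v8712 = (LP (LK LD1_c5 LD2_c53 LD3_c25)) :=
  Lefun (Lecon (Lfl_cf (f705779 IH)) (f714863 IH)) (Lfl_cf (f95194 IH))
theorem f714867 : v2165 = (LP (LK LD1_c2 LD2_c53 LD3_c8)) :=
  Lefun (Lecon (Lfl_bf (f672066 IH)) (f714866 IH)) (f61855 IH)
theorem f714872 : v6361 = (LP (LK LD1_c4 LD2_c35 LD3_c57)) :=
  Lefun (Lecon (f652992 IH) (f714867 IH)) (Lfl_af (f202145 IH))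
def v12979 : LQ := Led Lsl_dt (LP (LK LD1_c4 LD2_c35 LD3_c57))
theorem f699982 : Led Lsl_dt (LP (LK LD1_c4 LD2_c35 LD3_c57)) = v12979 :=
  Lrfl
theorem f699984 : Led Lsl_df (LP (LK LD1_c4 LD2_c35 LD3_c57)) = v12979 :=
  Lgr Lrot38 (Lpr_dt (f699982 IH) (Lpn v12979))
theorem f510366 : Led Lsl_dt (LP (LK LD1_c3 LD2_c20 LD3_c53)) = (LP (LK LD1_c6 LD2_c45 LD3_c40)) :=
  Lre_d IH (LK LD1_c3 LD2_c20 LD3_c53) (LK LD1_c6 LD2_c45 LD3_c40) Lrfl Lrfl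
theorem f714884 : Led Lsl_ff v12979 = (LP (LK LD1_c6 LD2_c45 LD3_c40)) :=
  Lgr Lrot19 (Lpe (f699984 IH) (Lpq (f714872 IH) (Lpe (f652990 IH) (Lpr_dt (f510366 IH) (Lpn (LP (LK LD1_c6 LD2_c45 LD3_c40)))))))
theorem f71127 : Led Lsl_et (LP (LK LD1_c2 LD2_c15 LD3_c9)) = (LP (LK LD1_c4 LD2_c35 LD3_c57)) :=
  Lre_e IH (LK LD1_c2 LD2_c15 LD3_c9) (LK LD1_c4 LD2_c35 LD3_c57) Lrfl Lrfl
theorem f699985 : Led Lsl_ef (LP (LK LD1_c4 LD2_c35 LD3_c59)) = v12979 :=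
  Lgr Lrot73 (Lpr_dt (K40.f37857 IH) (Lpr_et (K36.f71128 IH) (Lpr_dt (K7.f37814 IH) (Lpr_et (f71127 IH) (Lpr_dt (f699982 IH) (Lpn v12979))))))
theorem f652986 : Led Lsl_et (LP (LK LD1_c12 LD2_c55 LD3_c21)) = (LP (LK LD1_c6 LD2_c45 LD3_c40)) :=
  Lre_e IH (LK LD1_c12 LD2_c55 LD3_c21) (LK LD1_c6 LD2_c45 LD3_c40) Lrfl Lrfl
theorem f714886 : Led Lsl_ft (LP (LK LD1_c16 LD2_c52 LD3_c47)) = (LP (LK LD1_c12 LD2_c55 LD3_c21)) :=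
  Lgr Lrot86 (Lpe (K38.f423358 IH) (Lpr_ff (K40.f548165 IH) (Lpr_ef (f699985 IH) (Lpr_ff (f714884 IH) (Lpe (f652986 IH) (Lpn (LP (LK LD1_c12 LD2_c55 LD3_c21))))))))
theorem f714887 : Led Lsl_ft (LP (LK LD1_c16 LD2_c52 LD3_c47)) = (LP (LK LD1_c12 LD2_c55 LD3_c21)) :=
  Leop (Lpe (f714886 IH) (Lpn (LP (LK LD1_c16 LD2_c52 LD3_c47))))
theorem seed_774 : LEOK LG_f (LK LD1_c16 LD2_c52 LD3_c47) :=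
  Leoe_f (LK LD1_c16 LD2_c52 LD3_c47) (f714887 IH)
theorem f71217 : Led Lsl_et (LP (LK LD1_c1 LD2_c22 LD3_c39)) = (LP (LK LD1_c2 LD2_c53 LD3_c8)) :=
  Lre_e IH (LK LD1_c1 LD2_c22 LD3_c39) (LK LD1_c2 LD2_c53 LD3_c8) Lrfl Lrfl
def v4938 : LQ := Led Lsl_gt (LP (LK LD1_c2 LD2_c53 LD3_c8))
theorem f640987 : Led Lsl_gt (LP (LK LD1_c2 LD2_c53 LD3_c8)) = v4938 :=
  Lrfl
theorem f714868 : (LP (LK LD1_c4 LD2_c49 LD3_c14)) = v4938 :=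
  Lefun (Lecon (f510402 IH) (f714867 IH)) (f640987 IH)
def v13863 : LQ := Led Lsl_et (LP (LK LD1_c4 LD2_c49 LD3_c14))
theorem f705582 : Led Lsl_et (LP (LK LD1_c4 LD2_c49 LD3_c14)) = v13863 :=
  Lrfl
theorem f705585 : Led Lsl_ef (LP (LK LD1_c4 LD2_c49 LD3_c14)) = v13863 :=
  Lgr Lrot88 (Lpr_et (f705582 IH) (Lpn v13863))
theorem f71144 : Led Lsl_et (LP (LK LD1_c2 LD2_c53 LD3_c41)) = (LP (LK LD1_c1 LD2_c22 LD3_c52)) :=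
  Lre_e IH (LK LD1_c2 LD2_c53 LD3_c41) (LK LD1_c1 LD2_c22 LD3_c52) Lrfl Lrfl
theorem f137395 : Led Lsl_gt (LP (LK LD1_c11 LD2_c34 LD3_c58)) = (LP (LK LD1_c5 LD2_c54 LD3_c38)) :=
  Lre_g IH (LK LD1_c11 LD2_c34 LD3_c58) (LK LD1_c5 LD2_c54 LD3_c38) Lrfl Lrfl
theorem f714915 : Led Lsl_dt v13863 = (LP (LK LD1_c11 LD2_c34 LD3_c58)) :=
  Lgr Lrot136 (Lpe (f705585 IH) (Lpqs (f714868 IH) (Lpe (f640987 IH) (Lpe (f71217 IH) (Lpr_dt (K6.f71209 IH) (Lpe (K2.f37955 IH) (Lpe (K2.f22773 IH) (Lpe (K6.f59464 IH) (Lpe (f71144 IH) (Lpr_dt (K6.f71145 IH) (Lpe (f137395 IH) (Lpn (LP (LK LD1_c11 LD2_c34 LD3_c58))))))))))))))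
theorem f495147 : Led Lsl_at (LP (LK LD1_c4 LD2_c49 LD3_c14)) = (LP (LK LD1_c2 LD2_c22 LD3_c26)) :=
  Lre_a IH (LK LD1_c4 LD2_c49 LD3_c14) (LK LD1_c2 LD2_c22 LD3_c26) Lrfl Lrfl
def v4486 : LQ := Led Lsl_et (LP (LK LD1_c2 LD2_c22 LD3_c26))
theorem f634158 : Led Lsl_et (LP (LK LD1_c2 LD2_c22 LD3_c26)) = v4486 :=
  Lrfl
theorem f705586 : Led Lsl_at v4486 = v13863 :=
  Lgr Lrot80 (Lpe (f634158 IH) (Lpe (f495147 IH) (Lpr_ef (f705585 IH) (Lpn v13863))))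
theorem f634160 : Led Lsl_ef (LP (LK LD1_c2 LD2_c22 LD3_c26)) = v4486 :=
  Lgr Lrot88 (Lpr_et (f634158 IH) (Lpn v4486))
theorem f634161 : Led Lsl_bt (LP (LK LD1_c2 LD2_c22 LD3_c28)) = v4486 :=
  Lgr Lrot119 (Lpe (K9.f27127 IH) (Lpe (K50.f141029 IH) (Lpr_ef (f634160 IH) (Lpn v4486))))
theorem f413462 : Led Lsl_bt (LP (LK LD1_c6 LD2_c12 LD3_c11)) = (LP (LK LD1_c3 LD2_c2 LD3_c40)) :=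
  Lre_b IH (LK LD1_c6 LD2_c12 LD3_c11) (LK LD1_c3 LD2_c2 LD3_c40) Lrfl Lrfl
theorem f634162 : Led Lsl_df (LP (LK LD1_c6 LD2_c12 LD3_c11)) = v4486 :=
  Lgr Lrot12 (Lpr_bt (f413462 IH) (Lpe (K9.f27125 IH) (Lpr_bt (f634161 IH) (Lpn v4486))))
theorem f634163 : Led Lsl_dt (LP (LK LD1_c6 LD2_c12 LD3_c11)) = v4486 :=
  Lgr Lrot42 (Lpr_df (f634162 IH) (Lpn v4486))
theorem f714916 : Led Lsl_af (LP (LK LD1_c6 LD2_c12 LD3_c11)) = (LP (LK LD1_c11 LD2_c34 LD3_c58)) :=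
  Lgr Lrot117 (Lpr_dt (f634163 IH) (Lpr_at (f705586 IH) (Lpr_dt (f714915 IH) (Lpn (LP (LK LD1_c11 LD2_c34 LD3_c58))))))
theorem f714917 : Led Lsl_at (LP (LK LD1_c11 LD2_c34 LD3_c58)) = (LP (LK LD1_c6 LD2_c12 LD3_c11)) :=
  Leop (Lpr_af (f714916 IH) (Lpn (LP (LK LD1_c11 LD2_c34 LD3_c58))))
theorem seed_775 : LEOK LG_a (LK LD1_c11 LD2_c34 LD3_c58) :=
  Leoe_a (LK LD1_c11 LD2_c34 LD3_c58) (f714917 IH)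
theorem f208486 : Led Lsl_bf (LP (LK LD1_c9 LD2_c9 LD3_c23)) = (LP (LK LD1_c5 LD2_c58 LD3_c36)) :=
  Lgr Lrot24 (Lpr_bt (K43.f208480 IH) (Lpn (LP (LK LD1_c5 LD2_c58 LD3_c36))))
theorem f137401 : Led Lsl_dt (LP (LK LD1_c11 LD2_c34 LD3_c57)) = (LP (LK LD1_c5 LD2_c54 LD3_c37)) :=
  Lre_d IH (LK LD1_c11 LD2_c34 LD3_c57) (LK LD1_c5 LD2_c54 LD3_c37) Lrfl Lrfl
def v13168 : LQ := Led Lsl_gt (LP (LK LD1_c4 LD2_c40 LD3_c55))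
theorem f701496 : Led Lsl_gt (LP (LK LD1_c4 LD2_c40 LD3_c55)) = v13168 :=
  Lrfl
theorem f413435 : Led Lsl_bt (LP (LK LD1_c6 LD2_c12 LD3_c5)) = (LP (LK LD1_c3 LD2_c2 LD3_c37)) :=
  Lre_b IH (LK LD1_c6 LD2_c12 LD3_c5) (LK LD1_c3 LD2_c2 LD3_c37) Lrfl Lrfl
theorem f23132 : Led Lsl_bt (LP (LK LD1_c4 LD2_c40 LD3_c56)) = (LP (LK LD1_c9 LD2_c17 LD3_c19)) :=
  Lre_b IH (LK LD1_c4 LD2_c40 LD3_c56) (LK LD1_c9 LD2_c17 LD3_c19) Lrfl Lrfl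
theorem f639922 : Led Lsl_ff (LP (LK LD1_c6 LD2_c12 LD3_c5)) = (LP (LK LD1_c9 LD2_c17 LD3_c19)) :=
  Lgr Lrot25 (Lpr_bt (f413435 IH) (Lpr_ft (K50.f639672 IH) (Lpr_bt (f23132 IH) (Lpn (LP (LK LD1_c9 LD2_c17 LD3_c19))))))
theorem f639928 : Led Lsl_ft (LP (LK LD1_c6 LD2_c12 LD3_c5)) = (LP (LK LD1_c9 LD2_c17 LD3_c19)) :=
  Lgr Lrot48 (Lpr_ff (f639922 IH) (Lpn (LP (LK LD1_c9 LD2_c17 LD3_c19))))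
theorem f443752 : Led Lsl_dt (LP (LK LD1_c3 LD2_c2 LD3_c36)) = (LP (LK LD1_c6 LD2_c12 LD3_c5)) :=
  Lre_d IH (LK LD1_c3 LD2_c2 LD3_c36) (LK LD1_c6 LD2_c12 LD3_c5) Lrfl Lrfl
theorem f23144 : Led Lsl_dt (LP (LK LD1_c9 LD2_c17 LD3_c19)) = (LP (LK LD1_c4 LD2_c40 LD3_c55)) :=
  Lre_d IH (LK LD1_c9 LD2_c17 LD3_c19) (LK LD1_c4 LD2_c40 LD3_c55) Lrfl Lrfl
theorem f639932 : Led Lsl_ff (LP (LK LD1_c3 LD2_c2 LD3_c36)) = (LP (LK LD1_c4 LD2_c40 LD3_c55)) :=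
  Lgr Lrot19 (Lpr_dt (f443752 IH) (Lpr_ft (f639928 IH) (Lpr_dt (f23144 IH) (Lpn (LP (LK LD1_c4 LD2_c40 LD3_c55))))))
def v5254 : LQ := Led Lsl_at (LP (LK LD1_c3 LD2_c2 LD3_c36))
theorem f646805 : Led Lsl_at (LP (LK LD1_c3 LD2_c2 LD3_c36)) = v5254 :=
  Lrfl
theorem f701497 : Led Lsl_gf v5254 = v13168 :=
  Lgr Lrot76 (Lpe (f646805 IH) (Lpr_ff (f639932 IH) (Lpr_gt (f701496 IH) (Lpn v13168))))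
theorem f137341 : Led Lsl_af (LP (LK LD1_c2 LD2_c53 LD3_c41)) = (LP (LK LD1_c3 LD2_c4 LD3_c60)) :=
  Lgr Lrot0 (Lpr_at (K6.f137339 IH) (Lpn (LP (LK LD1_c3 LD2_c4 LD3_c60))))
theorem f137400 : Led Lsl_gt (LP (LK LD1_c5 LD2_c54 LD3_c37)) = (LP (LK LD1_c2 LD2_c53 LD3_c41)) :=
  Lre_g IH (LK LD1_c5 LD2_c54 LD3_c37) (LK LD1_c2 LD2_c53 LD3_c41) Lrfl Lrfl
theorem f138580 : Led Lsl_ft (LP (LK LD1_c6 LD2_c15 LD3_c50)) = (LP (LK LD1_c3 LD2_c4 LD3_c60)) :=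
  Lre_f IH (LK LD1_c6 LD2_c15 LD3_c50) (LK LD1_c3 LD2_c4 LD3_c60) Lrfl Lrfl
theorem f438252 : Led Lsl_gf (LP (LK LD1_c5 LD2_c54 LD3_c37)) = (LP (LK LD1_c6 LD2_c15 LD3_c50)) :=
  Lgr Lrot47 (Lpr_gt (f137400 IH) (Lpr_af (f137341 IH) (Lpe (f138580 IH) (Lpn (LP (LK LD1_c6 LD2_c15 LD3_c50))))))
theorem f714920 : Led Lsl_df v13863 = (LP (LK LD1_c11 LD2_c34 LD3_c58)) :=
  Lgr Lrot38 (Lpr_dt (f714915 IH) (Lpn (LP (LK LD1_c11 LD2_c34 LD3_c58))))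
theorem f705583 : Led Lsl_af v4486 = v13863 :=
  Lgr Lrot50 (Lpe (f634160 IH) (Lpr_at (f495148 IH) (Lpr_et (f705582 IH) (Lpn v13863))))
theorem f714921 : Led Lsl_at (LP (LK LD1_c6 LD2_c12 LD3_c11)) = (LP (LK LD1_c11 LD2_c34 LD3_c58)) :=
  Lgr Lrot51 (Lpr_df (f634162 IH) (Lpr_af (f705583 IH) (Lpr_df (f714920 IH) (Lpn (LP (LK LD1_c11 LD2_c34 LD3_c58))))))
def v13174 : LQ := Led Lsl_bt (LP (LK LD1_c4 LD2_c40 LD3_c60))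
theorem f701520 : Led Lsl_bt (LP (LK LD1_c4 LD2_c40 LD3_c60)) = v13174 :=
  Lrfl
theorem f701522 : Led Lsl_ff (LP (LK LD1_c6 LD2_c12 LD3_c11)) = v13174 :=
  Lgr Lrot25 (Lpr_bt (f413462 IH) (Lpr_ft (K35.f510020 IH) (Lpr_bt (f701520 IH) (Lpn v13174))))
theorem f112368 : Led Lsl_dt (LP (LK LD1_c3 LD2_c4 LD3_c60)) = (LP (LK LD1_c6 LD2_c15 LD3_c49)) :=
  Lre_d IH (LK LD1_c3 LD2_c4 LD3_c60) (LK LD1_c6 LD2_c15 LD3_c49) Lrfl Lrfl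
theorem f137350 : Led Lsl_af (LP (LK LD1_c5 LD2_c54 LD3_c38)) = (LP (LK LD1_c6 LD2_c15 LD3_c49)) :=
  Lgr Lrot117 (Lpr_dt (K40.f137349 IH) (Lpr_at (K6.f137339 IH) (Lpr_dt (f112368 IH) (Lpn (LP (LK LD1_c6 LD2_c15 LD3_c49))))))
theorem f137373 : Led Lsl_ft (LP (LK LD1_c12 LD2_c9 LD3_c23)) = (LP (LK LD1_c6 LD2_c15 LD3_c49)) :=
  Lre_f IH (LK LD1_c12 LD2_c9 LD3_c23) (LK LD1_c6 LD2_c15 LD3_c49) Lrfl Lrfl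
theorem f438250 : Led Lsl_gf (LP (LK LD1_c11 LD2_c34 LD3_c58)) = (LP (LK LD1_c12 LD2_c9 LD3_c23)) :=
  Lgr Lrot47 (Lpr_gt (f137395 IH) (Lpr_af (f137350 IH) (Lpe (f137373 IH) (Lpn (LP (LK LD1_c12 LD2_c9 LD3_c23))))))
theorem f714925 : Led Lsl_gt v13174 = (LP (LK LD1_c12 LD2_c9 LD3_c23)) :=
  Lgr Lrot5 (Lpe (f701522 IH) (Lpr_at (f714921 IH) (Lpr_gf (f438250 IH) (Lpn (LP (LK LD1_c12 LD2_c9 LD3_c23))))))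
theorem f415246 : Led Lsl_bt (LP (LK LD1_c6 LD2_c47 LD3_c35)) = (LP (LK LD1_c3 LD2_c21 LD3_c57)) :=
  Lre_b IH (LK LD1_c6 LD2_c47 LD3_c35) (LK LD1_c3 LD2_c21 LD3_c57) Lrfl Lrfl
theorem f415248 : Led Lsl_ct (LP (LK LD1_c6 LD2_c47 LD3_c35)) = (LP (LK LD1_c12 LD2_c58 LD3_c6)) :=
  Lre_c IH (LK LD1_c6 LD2_c47 LD3_c35) (LK LD1_c12 LD2_c58 LD3_c6) Lrfl Lrfl
theorem f137375 : Led Lsl_bt (LP (LK LD1_c21 LD2_c15 LD3_c20)) = (LP (LK LD1_c12 LD2_c9 LD3_c23)) :=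
  Lre_b IH (LK LD1_c21 LD2_c15 LD3_c20) (LK LD1_c12 LD2_c9 LD3_c23) Lrfl Lrfl
theorem f557545 : Led Lsl_et (LP (LK LD1_c6 LD2_c7 LD3_c55)) = (LP (LK LD1_c3 LD2_c0 LD3_c10)) :=
  Lre_e IH (LK LD1_c6 LD2_c7 LD3_c55) (LK LD1_c3 LD2_c0 LD3_c10) Lrfl Lrfl
theorem f595480 : Led Lsl_gt (LP (LK LD1_c2 LD2_c47 LD3_c52)) = (LP (LK LD1_c5 LD2_c37 LD3_c56)) :=
  Lgr Lrot139 (Lpe (K31.f381832 IH) (Lpr_gf (K30.f381829 IH) (Lpe (K37.f181486 IH) (Lpr_dt (K38.f181487 IH) (Lpr_gf (K45.f595472 IH) (Lpe (K46.f595439 IH) (Lpr_et (f557545 IH) (Lpr_gf (K40.f557537 IH) (Lpe (K40.f557543 IH) (Lpr_dt (K40.f422715 IH) (Lpn (LP (LK LD1_c5 LD2_c37 LD3_c56)))))))))))))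
theorem f380159 : Led Lsl_ff (LP (LK LD1_c2 LD2_c46 LD3_c12)) = (LP (LK LD1_c4 LD2_c31 LD3_c61)) :=
  Lgr Lrot23 (Lpr_ct (K30.f289444 IH) (Lpr_ft (K30.f380149 IH) (Lpr_ct (K30.f174835 IH) (Lpn (LP (LK LD1_c4 LD2_c31 LD3_c61))))))
theorem f380228 : Led Lsl_at (LP (LK LD1_c2 LD2_c46 LD3_c12)) = (LP (LK LD1_c5 LD2_c40 LD3_c21)) :=
  Lre_a IH (LK LD1_c2 LD2_c46 LD3_c12) (LK LD1_c5 LD2_c40 LD3_c21) Lrfl Lrfl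
theorem f380052 : Led Lsl_gt (LP (LK LD1_c4 LD2_c31 LD3_c61)) = (LP (LK LD1_c9 LD2_c1 LD3_c43)) :=
  Lre_g IH (LK LD1_c4 LD2_c31 LD3_c61) (LK LD1_c9 LD2_c1 LD3_c43) Lrfl Lrfl
theorem f380620 : Led Lsl_gf (LP (LK LD1_c5 LD2_c40 LD3_c21)) = (LP (LK LD1_c9 LD2_c1 LD3_c43)) :=
  Lgr Lrot76 (Lpe (f380228 IH) (Lpr_ff (f380159 IH) (Lpr_gt (f380052 IH) (Lpn (LP (LK LD1_c9 LD2_c1 LD3_c43))))))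
theorem f595482 : Led Lsl_cf (LP (LK LD1_c9 LD2_c1 LD3_c43)) = (LP (LK LD1_c5 LD2_c37 LD3_c56)) :=
  Lgr Lrot169 (Lpe (f380620 IH) (Lpr_ct (K30.f380217 IH) (Lpe (K30.f380221 IH) (Lpe (K30.f380222 IH) (Lpr_gf (K36.f380609 IH) (Lpe (K31.f382050 IH) (Lpe (K31.f381831 IH) (Lpe (K40.f381837 IH) (Lpr_gt (f595480 IH) (Lpn (LP (LK LD1_c5 LD2_c37 LD3_c56))))))))))))
def v1473 : LQ := Led Lsl_bt (LP (LK LD1_c1 LD2_c19 LD3_c34))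
theorem f495738 : Led Lsl_bt (LP (LK LD1_c1 LD2_c19 LD3_c34)) = v1473 :=
  Lrfl
theorem f495740 : Led Lsl_df K38.v376 = v1473 :=
  Lgr Lrot12 (Lpe (K38.f452509 IH) (Lpr_dt (K9.f172152 IH) (Lpr_bt (f495738 IH) (Lpn v1473))))
theorem f495741 : Led Lsl_dt K38.v376 = v1473 :=
  Lgr Lrot42 (Lpr_df (f495740 IH) (Lpn v1473))
theorem f537954 : v1473 = (LP (LK LD1_c2 LD2_c46 LD3_c9)) :=
  Lefun (Lecon (f495741 IH) (K38.f537782 IH)) (K30.f380221 IH)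
theorem f495739 : Led Lsl_bf (LP (LK LD1_c1 LD2_c19 LD3_c34)) = v1473 :=
  Lgr Lrot24 (Lpr_bt (f495738 IH) (Lpn v1473))
theorem f68793 : Led Lsl_bt (LP (LK LD1_c2 LD2_c47 LD3_c10)) = (LP (LK LD1_c5 LD2_c42 LD3_c1)) :=
  Lre_b IH (LK LD1_c2 LD2_c47 LD3_c10) (LK LD1_c5 LD2_c42 LD3_c1) Lrfl Lrfl
theorem f595519 : Led Lsl_bf (LP (LK LD1_c6 LD2_c15 LD3_c54)) = (LP (LK LD1_c5 LD2_c37 LD3_c56)) :=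
  Lgr Lrot34 (Lpe (K42.f571383 IH) (Lpe (f68793 IH) (Lpr_ct (K16.f68780 IH) (Lpe (K39.f412338 IH) (Lpe (K17.f73150 IH) (Lpr_gf (K9.f172276 IH) (Lpr_bf (f495739 IH) (Lpqs (f537954 IH) (Lpr_ct (K30.f380220 IH) (Lpr_gf (f380620 IH) (Lpr_cf (f595482 IH) (Lpn (LP (LK LD1_c5 LD2_c37 LD3_c56))))))))))))))
theorem f132972 : Led Lsl_bt (LP (LK LD1_c3 LD2_c5 LD3_c0)) = (LP (LK LD1_c6 LD2_c15 LD3_c37)) :=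
  Lre_b IH (LK LD1_c3 LD2_c5 LD3_c0) (LK LD1_c6 LD2_c15 LD3_c37) Lrfl Lrfl
theorem f595525 : Led Lsl_ft (LP (LK LD1_c6 LD2_c15 LD3_c37)) = (LP (LK LD1_c5 LD2_c37 LD3_c56)) :=
  Lgr Lrot75 (Lpe (f132972 IH) (Lpe (K39.f132994 IH) (Lpr_bf (f595519 IH) (Lpn (LP (LK LD1_c5 LD2_c37 LD3_c56))))))
theorem f381842 : Led Lsl_at (LP (LK LD1_c2 LD2_c47 LD3_c52)) = (LP (LK LD1_c5 LD2_c43 LD3_c39)) :=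
  Lre_a IH (LK LD1_c2 LD2_c47 LD3_c52) (LK LD1_c5 LD2_c43 LD3_c39) Lrfl Lrfl
theorem f381843 : Led Lsl_ft (LP (LK LD1_c5 LD2_c43 LD3_c13)) = (LP (LK LD1_c2 LD2_c47 LD3_c52)) :=
  Lre_f IH (LK LD1_c5 LD2_c43 LD3_c13) (LK LD1_c2 LD2_c47 LD3_c52) Lrfl Lrfl
theorem f381844 : Led Lsl_af (LP (LK LD1_c5 LD2_c43 LD3_c13)) = (LP (LK LD1_c5 LD2_c43 LD3_c21)) :=
  Lgr Lrot45 (Lpr_ft (f381843 IH) (Lpr_at (f381842 IH) (Lpr_ft (K36.f381826 IH) (Lpn (LP (LK LD1_c5 LD2_c43 LD3_c21))))))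
theorem f561492 : Led Lsl_gt (LP (LK LD1_c5 LD2_c43 LD3_c39)) = (LP (LK LD1_c9 LD2_c1 LD3_c21)) :=
  Lgr Lrot5 (Lpr_ft (K36.f381826 IH) (Lpe (f381844 IH) (Lpr_gf (K43.f561489 IH) (Lpn (LP (LK LD1_c9 LD2_c1 LD3_c21))))))
theorem f595534 : Led Lsl_af (LP (LK LD1_c9 LD2_c1 LD3_c21)) = (LP (LK LD1_c5 LD2_c37 LD3_c56)) :=
  Lgr Lrot31 (Lpe (f561492 IH) (Lpr_gf (K40.f561424 IH) (Lpr_ft (f595525 IH) (Lpn (LP (LK LD1_c5 LD2_c37 LD3_c56))))))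
theorem f563738 : Led Lsl_at (LP (LK LD1_c5 LD2_c38 LD3_c1)) = (LP (LK LD1_c6 LD2_c15 LD3_c37)) :=
  Lgr Lrot67 (Lpr_bf (K40.f563735 IH) (Lpe (K40.f561587 IH) (Lpr_bf (K40.f561561 IH) (Lpe (K6.f132970 IH) (Lpe (K40.f132992 IH) (Lpn (LP (LK LD1_c6 LD2_c15 LD3_c37))))))))
theorem f595540 : Led Lsl_ft (LP (LK LD1_c9 LD2_c1 LD3_c21)) = (LP (LK LD1_c5 LD2_c38 LD3_c1)) :=
  Lgr Lrot101 (Lpr_af (f595534 IH) (Lpe (f595525 IH) (Lpe (f563738 IH) (Lpn (LP (LK LD1_c5 LD2_c38 LD3_c1))))))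
theorem f595545 : Led Lsl_ff (LP (LK LD1_c9 LD2_c1 LD3_c21)) = (LP (LK LD1_c5 LD2_c38 LD3_c1)) :=
  Lgr Lrot3 (Lpr_ft (f595540 IH) (Lpn (LP (LK LD1_c5 LD2_c38 LD3_c1))))
theorem f132978 : Led Lsl_ft (LP (LK LD1_c3 LD2_c5 LD3_c0)) = (LP (LK LD1_c6 LD2_c15 LD3_c54)) :=
  Lre_f IH (LK LD1_c3 LD2_c5 LD3_c0) (LK LD1_c6 LD2_c15 LD3_c54) Lrfl Lrfl
theorem f572307 : Led Lsl_af (LP (LK LD1_c5 LD2_c41 LD3_c49)) = (LP (LK LD1_c6 LD2_c15 LD3_c54)) :=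
  Lgr Lrot45 (Lpr_ft (K42.f572304 IH) (Lpe (K6.f132964 IH) (Lpr_ft (f132978 IH) (Lpn (LP (LK LD1_c6 LD2_c15 LD3_c54))))))
theorem f553768 : Led Lsl_bt (LP (LK LD1_c4 LD2_c32 LD3_c35)) = (LP (LK LD1_c9 LD2_c1 LD3_c21)) :=
  Lgr Lrot95 (Lpr_df (K39.f553764 IH) (Lpr_bf (K35.f380271 IH) (Lpe (K40.f380276 IH) (Lpn (LP (LK LD1_c9 LD2_c1 LD3_c21))))))
theorem f595521 : Led Lsl_at (LP (LK LD1_c9 LD2_c1 LD3_c21)) = (LP (LK LD1_c5 LD2_c37 LD3_c56)) :=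
  Lgr Lrot67 (Lpe (f553768 IH) (Lpr_af (K42.f572148 IH) (Lpe (K39.f174139 IH) (Lpr_af (f572307 IH) (Lpr_bf (f595519 IH) (Lpn (LP (LK LD1_c5 LD2_c37 LD3_c56))))))))
theorem f595532 : Led Lsl_ff (LP (LK LD1_c6 LD2_c15 LD3_c37)) = (LP (LK LD1_c5 LD2_c37 LD3_c56)) :=
  Lgr Lrot3 (Lpr_ft (f595525 IH) (Lpn (LP (LK LD1_c5 LD2_c37 LD3_c56))))
theorem f595547 : Led Lsl_at (LP (LK LD1_c6 LD2_c15 LD3_c37)) = (LP (LK LD1_c5 LD2_c38 LD3_c1)) :=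
  Lgr Lrot66 (Lpr_ff (f595532 IH) (Lpe (f595521 IH) (Lpr_ff (f595545 IH) (Lpn (LP (LK LD1_c5 LD2_c38 LD3_c1))))))
theorem f561434 : Led Lsl_et (LP (LK LD1_c12 LD2_c9 LD3_c3)) = (LP (LK LD1_c6 LD2_c15 LD3_c37)) :=
  Lre_e IH (LK LD1_c12 LD2_c9 LD3_c3) (LK LD1_c6 LD2_c15 LD3_c37) Lrfl Lrfl
theorem f556142 : Led Lsl_et (LP (LK LD1_c5 LD2_c38 LD3_c1)) = (LP (LK LD1_c11 LD2_c7 LD3_c19)) :=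
  Lre_e IH (LK LD1_c5 LD2_c38 LD3_c1) (LK LD1_c11 LD2_c7 LD3_c19) Lrfl Lrfl
theorem f595814 : Led Lsl_af (LP (LK LD1_c12 LD2_c9 LD3_c3)) = (LP (LK LD1_c11 LD2_c7 LD3_c19)) :=
  Lgr Lrot50 (Lpr_et (f561434 IH) (Lpr_at (f595547 IH) (Lpr_et (f556142 IH) (Lpn (LP (LK LD1_c11 LD2_c7 LD3_c19))))))
theorem f595515 : Led Lsl_ct (LP (LK LD1_c9 LD2_c1 LD3_c43)) = (LP (LK LD1_c5 LD2_c37 LD3_c56)) :=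
  Lgr Lrot59 (Lpr_cf (f595482 IH) (Lpn (LP (LK LD1_c5 LD2_c37 LD3_c56))))
theorem f556117 : Led Lsl_df (LP (LK LD1_c5 LD2_c37 LD3_c55)) = (LP (LK LD1_c5 LD2_c43 LD3_c58)) :=
  Lgr Lrot78 (Lpr_ft (K39.f556115 IH) (Lpr_dt (K38.f384044 IH) (Lpe (K31.f383650 IH) (Lpn (LP (LK LD1_c5 LD2_c43 LD3_c58))))))
theorem f579774 : Led Lsl_df (LP (LK LD1_c11 LD2_c12 LD3_c51)) = (LP (LK LD1_c6 LD2_c15 LD3_c36)) :=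
  Lgr Lrot12 (Lpr_bt (K31.f411992 IH) (Lpe (K40.f384171 IH) (Lpr_bt (K43.f579768 IH) (Lpn (LP (LK LD1_c6 LD2_c15 LD3_c36))))))
theorem f579782 : Led Lsl_dt (LP (LK LD1_c11 LD2_c12 LD3_c51)) = (LP (LK LD1_c6 LD2_c15 LD3_c36)) :=
  Lgr Lrot42 (Lpr_df (f579774 IH) (Lpn (LP (LK LD1_c6 LD2_c15 LD3_c36))))
theorem f579764 : Led Lsl_ct (LP (LK LD1_c5 LD2_c37 LD3_c55)) = (LP (LK LD1_c6 LD2_c15 LD3_c36)) :=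
  Lgr Lrot8 (Lpr_gt (K39.f380298 IH) (Lpr_dt (K40.f422715 IH) (Lpe (K40.f561532 IH) (Lpr_dt (K36.f181475 IH) (Lpr_cf (K27.f381970 IH) (Lpe (K43.f381952 IH) (Lpr_gf (K43.f561489 IH) (Lpe (K43.f380279 IH) (Lpr_gf (K43.f579760 IH) (Lpn (LP (LK LD1_c6 LD2_c15 LD3_c36))))))))))))
theorem f579788 : Led Lsl_gt (LP (LK LD1_c5 LD2_c40 LD3_c20)) = (LP (LK LD1_c5 LD2_c43 LD3_c58)) :=
  Lgr Lrot49 (Lpe (K31.f181292 IH) (Lpe (K31.f381957 IH) (Lpr_cf (K30.f381964 IH) (Lpr_gt (K31.f381831 IH) (Lpr_dt (K31.f381961 IH) (Lpe (K31.f423279 IH) (Lpr_dt (f579782 IH) (Lpe (f579764 IH) (Lpr_df (f556117 IH) (Lpn (LP (LK LD1_c5 LD2_c43 LD3_c58))))))))))))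
theorem f380295 : Led Lsl_dt (LP (LK LD1_c2 LD2_c45 LD3_c0)) = (LP (LK LD1_c5 LD2_c38 LD3_c16)) :=
  Lre_d IH (LK LD1_c2 LD2_c45 LD3_c0) (LK LD1_c5 LD2_c38 LD3_c16) Lrfl Lrfl
theorem f411848 : Led Lsl_gt (LP (LK LD1_c5 LD2_c38 LD3_c16)) = (LP (LK LD1_c11 LD2_c7 LD3_c49)) :=
  Lre_g IH (LK LD1_c5 LD2_c38 LD3_c16) (LK LD1_c11 LD2_c7 LD3_c49) Lrfl Lrfl
theorem f595517 : Led Lsl_df (LP (LK LD1_c9 LD2_c1 LD3_c43)) = (LP (LK LD1_c11 LD2_c7 LD3_c49)) :=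
  Lgr Lrot84 (Lpr_cf (f595482 IH) (Lpe (K40.f422715 IH) (Lpe (K39.f380298 IH) (Lpr_df (f556117 IH) (Lpe (f579788 IH) (Lpe (K31.f411842 IH) (Lpr_gt (K31.f171847 IH) (Lpr_dt (f380295 IH) (Lpr_gt (f411848 IH) (Lpn (LP (LK LD1_c11 LD2_c7 LD3_c49))))))))))))
theorem f380451 : Led Lsl_dt (LP (LK LD1_c5 LD2_c38 LD3_c1)) = (LP (LK LD1_c2 LD2_c44 LD3_c56)) :=
  Lre_d IH (LK LD1_c5 LD2_c38 LD3_c1) (LK LD1_c2 LD2_c44 LD3_c56) Lrfl Lrfl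
theorem f380446 : Led Lsl_dt (LP (LK LD1_c1 LD2_c18 LD3_c46)) = (LP (LK LD1_c2 LD2_c44 LD3_c57)) :=
  Lre_d IH (LK LD1_c1 LD2_c18 LD3_c46) (LK LD1_c2 LD2_c44 LD3_c57) Lrfl Lrfl
theorem f380449 : Led Lsl_ct (LP (LK LD1_c2 LD2_c44 LD3_c57)) = (LP (LK LD1_c5 LD2_c38 LD3_c2)) :=
  Lre_c IH (LK LD1_c2 LD2_c44 LD3_c57) (LK LD1_c5 LD2_c38 LD3_c2) Lrfl Lrfl
theorem f495643 : Led Lsl_dt (LP (LK LD1_c5 LD2_c38 LD3_c2)) = (LP (LK LD1_c11 LD2_c7 LD3_c21)) :=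
  Lre_d IH (LK LD1_c5 LD2_c38 LD3_c2) (LK LD1_c11 LD2_c7 LD3_c21) Lrfl Lrfl
theorem f595552 : Led Lsl_cf (LP (LK LD1_c11 LD2_c7 LD3_c49)) = (LP (LK LD1_c11 LD2_c7 LD3_c21)) :=
  Lgr Lrot161 (Lpe (f595517 IH) (Lpr_ct (f595515 IH) (Lpe (f595521 IH) (Lpr_ff (f595545 IH) (Lpr_dt (f380451 IH) (Lpr_ct (K39.f289412 IH) (Lpr_dt (f380446 IH) (Lpr_ct (f380449 IH) (Lpr_dt (f495643 IH) (Lpn (LP (LK LD1_c11 LD2_c7 LD3_c21))))))))))))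
theorem f595559 : Led Lsl_et (LP (LK LD1_c11 LD2_c7 LD3_c49)) = (LP (LK LD1_c20 LD2_c1 LD3_c23)) :=
  Lre_e IH (LK LD1_c11 LD2_c7 LD3_c49) (LK LD1_c20 LD2_c1 LD3_c23) Lrfl Lrfl
theorem f557304 : Led Lsl_et (LP (LK LD1_c20 LD2_c0 LD3_c47)) = (LP (LK LD1_c11 LD2_c7 LD3_c21)) :=
  Lre_e IH (LK LD1_c20 LD2_c0 LD3_c47) (LK LD1_c11 LD2_c7 LD3_c21) Lrfl Lrfl
theorem f595560 : Led Lsl_ct (LP (LK LD1_c20 LD2_c1 LD3_c23)) = (LP (LK LD1_c20 LD2_c0 LD3_c47)) :=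
  Lgr Lrot15 (Lpe (f595559 IH) (Lpr_cf (f595552 IH) (Lpe (f557304 IH) (Lpn (LP (LK LD1_c20 LD2_c0 LD3_c47))))))
theorem f595583 : Led Lsl_cf (LP (LK LD1_c20 LD2_c1 LD3_c23)) = (LP (LK LD1_c20 LD2_c0 LD3_c47)) :=
  Lgr Lrot11 (Lpr_ct (f595560 IH) (Lpn (LP (LK LD1_c20 LD2_c0 LD3_c47))))
theorem f589479 : Led Lsl_af (LP (LK LD1_c5 LD2_c38 LD3_c3)) = (LP (LK LD1_c5 LD2_c40 LD3_c25)) :=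
  Lgr Lrot0 (Lpr_at (K51.f589412 IH) (Lpn (LP (LK LD1_c5 LD2_c40 LD3_c25))))
theorem f589566 : Led Lsl_at (LP (LK LD1_c2 LD2_c44 LD3_c57)) = (LP (LK LD1_c2 LD2_c46 LD3_c10)) :=
  Lgr Lrot80 (Lpe (f495652 IH) (Lpr_af (f589479 IH) (Lpe (f561472 IH) (Lpn (LP (LK LD1_c2 LD2_c46 LD3_c10))))))
theorem f380455 : Led Lsl_dt (LP (LK LD1_c2 LD2_c44 LD3_c57)) = (LP (LK LD1_c1 LD2_c18 LD3_c46)) :=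
  Lre_d IH (LK LD1_c2 LD2_c44 LD3_c57) (LK LD1_c1 LD2_c18 LD3_c46) Lrfl Lrfl
theorem f548263 : Led Lsl_ft (LP (LK LD1_c2 LD2_c46 LD3_c11)) = (LP (LK LD1_c2 LD2_c44 LD3_c57)) :=
  Lgr Lrot54 (Lpr_df (K38.f548254 IH) (Lpqs (K38.f544920 IH) (Lpe (K38.f536142 IH) (Lpqs (K38.f547758 IH) (Lpe (f380455 IH) (Lpn (LP (LK LD1_c2 LD2_c44 LD3_c57))))))))
theorem f561475 : Led Lsl_ft (LP (LK LD1_c2 LD2_c46 LD3_c10)) = (LP (LK LD1_c2 LD2_c44 LD3_c53)) :=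
  Lgr Lrot54 (Lpr_df (K40.f561467 IH) (Lpqs (K38.f544926 IH) (Lpq (K38.f544926 IH) (Lpqs (K38.f547760 IH) (Lpe (K38.f495645 IH) (Lpe (K41.f380297 IH) (Lpn (LP (LK LD1_c2 LD2_c44 LD3_c53)))))))))
theorem f589568 : Led Lsl_af (LP (LK LD1_c2 LD2_c46 LD3_c11)) = (LP (LK LD1_c2 LD2_c44 LD3_c53)) :=
  Lgr Lrot45 (Lpr_ft (f548263 IH) (Lpr_at (f589566 IH) (Lpr_ft (f561475 IH) (Lpn (LP (LK LD1_c2 LD2_c44 LD3_c53))))))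
theorem f380596 : Led Lsl_ct (LP (LK LD1_c5 LD2_c40 LD3_c27)) = (LP (LK LD1_c2 LD2_c46 LD3_c11)) :=
  Lre_c IH (LK LD1_c5 LD2_c40 LD3_c27) (LK LD1_c2 LD2_c46 LD3_c11) Lrfl Lrfl
theorem f380628 : Led Lsl_dt (LP (LK LD1_c11 LD2_c11 LD3_c36)) = (LP (LK LD1_c5 LD2_c40 LD3_c27)) :=
  Lre_d IH (LK LD1_c11 LD2_c11 LD3_c36) (LK LD1_c5 LD2_c40 LD3_c27) Lrfl Lrfl
theorem f552648 : Led Lsl_df (LP (LK LD1_c2 LD2_c12 LD3_c49)) = (LP (LK LD1_c2 LD2_c46 LD3_c10)) :=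
  Lgr Lrot12 (Lpr_bt (K39.f178965 IH) (Lpr_dt (K39.f552611 IH) (Lpr_bt (K39.f380602 IH) (Lpn (LP (LK LD1_c2 LD2_c46 LD3_c10))))))
theorem f380201 : Led Lsl_dt (LP (LK LD1_c5 LD2_c40 LD3_c29)) = (LP (LK LD1_c11 LD2_c11 LD3_c41)) :=
  Lre_d IH (LK LD1_c5 LD2_c40 LD3_c29) (LK LD1_c11 LD2_c11 LD3_c41) Lrfl Lrfl
theorem f589570 : Led Lsl_cf (LP (LK LD1_c11 LD2_c11 LD3_c36)) = (LP (LK LD1_c11 LD2_c11 LD3_c41)) :=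
  Lgr Lrot161 (Lpr_dt (f380628 IH) (Lpr_ct (f380596 IH) (Lpr_af (f589568 IH) (Lpe (f561475 IH) (Lpe (f552648 IH) (Lpq (K38.f544926 IH) (Lpe (K45.f494265 IH) (Lpr_dt (K40.f160999 IH) (Lpr_ct (K40.f557190 IH) (Lpr_dt (f380201 IH) (Lpn (LP (LK LD1_c11 LD2_c11 LD3_c41)))))))))))))
theorem f382018 : Led Lsl_dt (LP (LK LD1_c11 LD2_c11 LD3_c29)) = (LP (LK LD1_c5 LD2_c40 LD3_c24)) :=
  Lre_d IH (LK LD1_c11 LD2_c11 LD3_c29) (LK LD1_c5 LD2_c40 LD3_c24) Lrfl Lrfl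
theorem f423085 : Led Lsl_dt (LP (LK LD1_c11 LD2_c7 LD3_c12)) = (LP (LK LD1_c5 LD2_c37 LD3_c58)) :=
  Lre_d IH (LK LD1_c11 LD2_c7 LD3_c12) (LK LD1_c5 LD2_c37 LD3_c58) Lrfl Lrfl
theorem f579253 : Led Lsl_ft (LP (LK LD1_c11 LD2_c11 LD3_c29)) = (LP (LK LD1_c11 LD2_c7 LD3_c12)) :=
  Lgr Lrot54 (Lpe (K40.f382019 IH) (Lpr_ff (K43.f579247 IH) (Lpe (f423085 IH) (Lpn (LP (LK LD1_c11 LD2_c7 LD3_c12))))))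
theorem f589574 : Led Lsl_af (LP (LK LD1_c11 LD2_c11 LD3_c36)) = (LP (LK LD1_c11 LD2_c7 LD3_c12)) :=
  Lgr Lrot109 (Lpr_cf (f589570 IH) (Lpe (f380201 IH) (Lpe (K40.f557190 IH) (Lpe (K40.f160999 IH) (Lpr_cf (K45.f494265 IH) (Lpqs (K38.f544926 IH) (Lpr_df (f552648 IH) (Lpe (K31.f380186 IH) (Lpe (f382018 IH) (Lpr_ft (f579253 IH) (Lpn (LP (LK LD1_c11 LD2_c7 LD3_c12)))))))))))))
theorem f380627 : Led Lsl_dt (LP (LK LD1_c5 LD2_c40 LD3_c27)) = (LP (LK LD1_c11 LD2_c11 LD3_c36)) :=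
  Lre_d IH (LK LD1_c5 LD2_c40 LD3_c27) (LK LD1_c11 LD2_c11 LD3_c36) Lrfl Lrfl
theorem f380448 : Led Lsl_dt (LP (LK LD1_c11 LD2_c7 LD3_c21)) = (LP (LK LD1_c5 LD2_c38 LD3_c2)) :=
  Lre_d IH (LK LD1_c11 LD2_c7 LD3_c21) (LK LD1_c5 LD2_c38 LD3_c2) Lrfl Lrfl
theorem f557262 : Led Lsl_ft (LP (LK LD1_c11 LD2_c11 LD3_c36)) = (LP (LK LD1_c11 LD2_c7 LD3_c21)) :=
  Lgr Lrot54 (Lpe (f380627 IH) (Lpr_ff (f557257 IH) (Lpe (f380448 IH) (Lpn (LP (LK LD1_c11 LD2_c7 LD3_c21))))))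
theorem f589577 : Led Lsl_at (LP (LK LD1_c11 LD2_c7 LD3_c21)) = (LP (LK LD1_c11 LD2_c11 LD3_c29)) :=
  Lgr Lrot66 (Lpe (f557262 IH) (Lpr_af (f589574 IH) (Lpe (f579253 IH) (Lpn (LP (LK LD1_c11 LD2_c11 LD3_c29))))))
theorem f382028 : Led Lsl_et (LP (LK LD1_c11 LD2_c11 LD3_c29)) = (LP (LK LD1_c20 LD2_c6 LD3_c5)) :=
  Lre_e IH (LK LD1_c11 LD2_c11 LD3_c29) (LK LD1_c20 LD2_c6 LD3_c5) Lrfl Lrfl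
theorem f589581 : Led Lsl_af (LP (LK LD1_c20 LD2_c0 LD3_c47)) = (LP (LK LD1_c20 LD2_c6 LD3_c5)) :=
  Lgr Lrot50 (Lpr_et (f557304 IH) (Lpr_at (f589577 IH) (Lpr_et (f382028 IH) (Lpn (LP (LK LD1_c20 LD2_c6 LD3_c5))))))
theorem f380603 : Led Lsl_et (LP (LK LD1_c11 LD2_c11 LD3_c44)) = (LP (LK LD1_c20 LD2_c6 LD3_c28)) :=
  Lre_e IH (LK LD1_c11 LD2_c11 LD3_c44) (LK LD1_c20 LD2_c6 LD3_c28) Lrfl Lrfl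
theorem f561503 : Led Lsl_et (LP (LK LD1_c20 LD2_c6 LD3_c5)) = (LP (LK LD1_c11 LD2_c11 LD3_c29)) :=
  Lre_e IH (LK LD1_c20 LD2_c6 LD3_c5) (LK LD1_c11 LD2_c11 LD3_c29) Lrfl Lrfl
theorem f561504 : Led Lsl_ct (LP (LK LD1_c20 LD2_c6 LD3_c28)) = (LP (LK LD1_c20 LD2_c6 LD3_c5)) :=
  Lgr Lrot15 (Lpe (f380603 IH) (Lpr_cf (K40.f561487 IH) (Lpe (f561503 IH) (Lpn (LP (LK LD1_c20 LD2_c6 LD3_c5))))))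
theorem f595590 : Led Lsl_at (LP (LK LD1_c20 LD2_c1 LD3_c23)) = (LP (LK LD1_c20 LD2_c6 LD3_c28)) :=
  Lgr Lrot107 (Lpr_cf (f595583 IH) (Lpr_af (f589581 IH) (Lpe (f561504 IH) (Lpn (LP (LK LD1_c20 LD2_c6 LD3_c28))))))
theorem f595594 : Led Lsl_et (LP (LK LD1_c20 LD2_c6 LD3_c28)) = (LP (LK LD1_c11 LD2_c11 LD3_c44)) :=
  Lre_e IH (LK LD1_c20 LD2_c6 LD3_c28) (LK LD1_c11 LD2_c11 LD3_c44) Lrfl Lrfl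
theorem f595595 : Led Lsl_af (LP (LK LD1_c11 LD2_c7 LD3_c49)) = (LP (LK LD1_c11 LD2_c11 LD3_c44)) :=
  Lgr Lrot50 (Lpr_et (f595559 IH) (Lpr_at (f595590 IH) (Lpr_et (f595594 IH) (Lpn (LP (LK LD1_c11 LD2_c11 LD3_c44))))))
theorem f171846 : Led Lsl_gt (LP (LK LD1_c11 LD2_c7 LD3_c50)) = (LP (LK LD1_c5 LD2_c38 LD3_c16)) :=
  Lre_g IH (LK LD1_c11 LD2_c7 LD3_c50) (LK LD1_c5 LD2_c38 LD3_c16) Lrfl Lrfl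
theorem f595607 : Led Lsl_ft (LP (LK LD1_c11 LD2_c7 LD3_c50)) = (LP (LK LD1_c11 LD2_c11 LD3_c44)) :=
  Lgr Lrot2 (Lpr_gt (f171846 IH) (Lpr_gt (f411848 IH) (Lpr_af (f595595 IH) (Lpn (LP (LK LD1_c11 LD2_c11 LD3_c44))))))
theorem f595614 : Led Lsl_ff (LP (LK LD1_c11 LD2_c7 LD3_c50)) = (LP (LK LD1_c11 LD2_c11 LD3_c44)) :=
  Lgr Lrot3 (Lpr_ft (f595607 IH) (Lpn (LP (LK LD1_c11 LD2_c11 LD3_c44))))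
theorem f452510 : Led Lsl_ef (LP (LK LD1_c0 LD2_c36 LD3_c41)) = K38.v376 :=
  Lgr Lrot88 (Lpr_et (K38.f452508 IH) (Lpn K38.v376))
theorem f279616 : Led Lsl_dt (LP (LK LD1_c1 LD2_c18 LD3_c45)) = (LP (LK LD1_c2 LD2_c44 LD3_c53)) :=
  Lre_d IH (LK LD1_c1 LD2_c18 LD3_c45) (LK LD1_c2 LD2_c44 LD3_c53) Lrfl Lrfl
theorem f548364 : Led Lsl_gf (LP (LK LD1_c2 LD2_c46 LD3_c9)) = (LP (LK LD1_c2 LD2_c44 LD3_c53)) :=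
  Lgr Lrot134 (Lpe (K30.f380221 IH) (Lpq (K38.f537782 IH) (Lpe (f452510 IH) (Lpr_gt (K30.f380255 IH) (Lpr_ef (K38.f495716 IH) (Lpqs (K38.f548135 IH) (Lpqs (K35.f541444 IH) (Lpr_dt (K38.f20394 IH) (Lpr_gt (K38.f548271 IH) (Lpe (K36.f422724 IH) (Lpr_et (K35.f380288 IH) (Lpr_gt (K38.f211848 IH) (Lpr_dt (f279616 IH) (Lpn (LP (LK LD1_c2 LD2_c44 LD3_c53))))))))))))))))
theorem f177656 : Led Lsl_gt (LP (LK LD1_c9 LD2_c1 LD3_c44)) = (LP (LK LD1_c4 LD2_c31 LD3_c61)) :=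
  Lre_g IH (LK LD1_c9 LD2_c1 LD3_c44) (LK LD1_c4 LD2_c31 LD3_c61) Lrfl Lrfl
theorem f380463 : Led Lsl_gt (LP (LK LD1_c5 LD2_c40 LD3_c21)) = (LP (LK LD1_c9 LD2_c1 LD3_c44)) :=
  Lgr Lrot5 (Lpr_ft (K50.f380458 IH) (Lpr_at (K43.f181467 IH) (Lpe (f177656 IH) (Lpn (LP (LK LD1_c9 LD2_c1 LD3_c44))))))
theorem f280453 : Led Lsl_gt (LP (LK LD1_c5 LD2_c42 LD3_c35)) = (LP (LK LD1_c9 LD2_c2 LD3_c6)) :=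
  Lgr Lrot5 (Lpr_ft (K20.f280417 IH) (Lpr_at (K20.f174463 IH) (Lpe (K40.f174512 IH) (Lpn (LP (LK LD1_c9 LD2_c2 LD3_c6))))))
theorem f549813 : Led Lsl_bt (LP (LK LD1_c5 LD2_c38 LD3_c1)) = (LP (LK LD1_c2 LD2_c46 LD3_c55)) :=
  Lgr Lrot95 (Lpe (K40.f380452 IH) (Lpr_bf (K43.f422719 IH) (Lpr_df (K38.f549811 IH) (Lpn (LP (LK LD1_c2 LD2_c46 LD3_c55))))))
theorem f561367 : Led Lsl_cf (LP (LK LD1_c9 LD2_c1 LD3_c44)) = (LP (LK LD1_c5 LD2_c38 LD3_c1)) :=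
  Lgr Lrot163 (Lpe (f380463 IH) (Lpe (K30.f380220 IH) (Lpr_gf (f548364 IH) (Lpe (K43.f561332 IH) (Lpr_ct (K40.f561328 IH) (Lpe (f280453 IH) (Lpe (K16.f268844 IH) (Lpr_bt (K16.f268819 IH) (Lpe (K31.f411916 IH) (Lpe (f549813 IH) (Lpn (LP (LK LD1_c5 LD2_c38 LD3_c1)))))))))))))
theorem f595542 : Led Lsl_ff (LP (LK LD1_c5 LD2_c40 LD3_c30)) = (LP (LK LD1_c9 LD2_c1 LD3_c44)) :=
  Lgr Lrot23 (Lpr_ct (K40.f561477 IH) (Lpr_ft (f595540 IH) (Lpe (f561367 IH) (Lpn (LP (LK LD1_c9 LD2_c1 LD3_c44))))))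
theorem f595620 : Led Lsl_dt (LP (LK LD1_c11 LD2_c7 LD3_c50)) = (LP (LK LD1_c9 LD2_c1 LD3_c44)) :=
  Lgr Lrot60 (Lpr_ff (f595614 IH) (Lpe (K40.f380601 IH) (Lpr_ff (f595542 IH) (Lpn (LP (LK LD1_c9 LD2_c1 LD3_c44))))))
theorem f561499 : Led Lsl_ct (LP (LK LD1_c11 LD2_c11 LD3_c44)) = (LP (LK LD1_c11 LD2_c11 LD3_c29)) :=
  Lgr Lrot59 (Lpr_cf (K40.f561487 IH) (Lpn (LP (LK LD1_c11 LD2_c11 LD3_c29))))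
theorem f595611 : Led Lsl_cf (LP (LK LD1_c11 LD2_c7 LD3_c50)) = (LP (LK LD1_c11 LD2_c7 LD3_c12)) :=
  Lgr Lrot108 (Lpr_ft (f595607 IH) (Lpr_ct (f561499 IH) (Lpr_ft (f579253 IH) (Lpn (LP (LK LD1_c11 LD2_c7 LD3_c12))))))
theorem f423089 : Led Lsl_dt (LP (LK LD1_c5 LD2_c37 LD3_c58)) = (LP (LK LD1_c11 LD2_c7 LD3_c12)) :=
  Lre_d IH (LK LD1_c5 LD2_c37 LD3_c58) (LK LD1_c11 LD2_c7 LD3_c12) Lrfl Lrfl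
theorem f595625 : Led Lsl_cf (LP (LK LD1_c5 LD2_c38 LD3_c1)) = (LP (LK LD1_c9 LD2_c1 LD3_c44)) :=
  Lgr Lrot55 (Lpr_dt (f380451 IH) (Lpr_ct (K39.f289412 IH) (Lpr_dt (f380446 IH) (Lpr_ct (f380449 IH) (Lpr_dt (f495643 IH) (Lpe (f595552 IH) (Lpe (f595517 IH) (Lpr_ct (f595515 IH) (Lpr_dt (K40.f422716 IH) (Lpr_ct (K39.f211888 IH) (Lpr_dt (f279616 IH) (Lpr_ct (K40.f279617 IH) (Lpr_dt (f423089 IH) (Lpe (f595611 IH) (Lpr_dt (f595620 IH) (Lpn (LP (LK LD1_c9 LD2_c1 LD3_c44))))))))))))))))))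
theorem f380465 : Led Lsl_et (LP (LK LD1_c16 LD2_c51 LD3_c40)) = (LP (LK LD1_c9 LD2_c1 LD3_c44)) :=
  Lre_e IH (LK LD1_c16 LD2_c51 LD3_c40) (LK LD1_c9 LD2_c1 LD3_c44) Lrfl Lrfl
theorem f595778 : Led Lsl_ct (LP (LK LD1_c11 LD2_c7 LD3_c19)) = (LP (LK LD1_c16 LD2_c51 LD3_c40)) :=
  Lgr Lrot15 (Lpe (f556142 IH) (Lpr_cf (f595625 IH) (Lpe (f380465 IH) (Lpn (LP (LK LD1_c16 LD2_c51 LD3_c40))))))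
theorem f595780 : Led Lsl_cf (LP (LK LD1_c11 LD2_c7 LD3_c19)) = (LP (LK LD1_c16 LD2_c51 LD3_c40)) :=
  Lgr Lrot11 (Lpr_ct (f595778 IH) (Lpn (LP (LK LD1_c16 LD2_c51 LD3_c40))))
theorem f380424 : Led Lsl_ct (LP (LK LD1_c11 LD2_c7 LD3_c51)) = (LP (LK LD1_c5 LD2_c38 LD3_c16)) :=
  Lre_c IH (LK LD1_c11 LD2_c7 LD3_c51) (LK LD1_c5 LD2_c38 LD3_c16) Lrfl Lrfl
theorem f595630 : Led Lsl_gf (LP (LK LD1_c11 LD2_c7 LD3_c50)) = (LP (LK LD1_c11 LD2_c7 LD3_c51)) :=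
  Lgr Lrot144 (Lpr_dt (f595620 IH) (Lpr_gt (f177656 IH) (Lpr_dt (K30.f181466 IH) (Lpe (K30.f380207 IH) (Lpe (K30.f380219 IH) (Lpr_gf (f380620 IH) (Lpr_df (f595517 IH) (Lpe (f411848 IH) (Lpe (f380424 IH) (Lpn (LP (LK LD1_c11 LD2_c7 LD3_c51))))))))))))
theorem f595562 : Led Lsl_ft (LP (LK LD1_c11 LD2_c7 LD3_c49)) = (LP (LK LD1_c11 LD2_c11 LD3_c41)) :=
  Lgr Lrot4 (Lpr_cf (f595552 IH) (Lpe (f557262 IH) (Lpr_cf (f589570 IH) (Lpn (LP (LK LD1_c11 LD2_c11 LD3_c41))))))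
theorem f595609 : Led Lsl_af (LP (LK LD1_c11 LD2_c7 LD3_c50)) = (LP (LK LD1_c11 LD2_c11 LD3_c41)) :=
  Lgr Lrot45 (Lpr_ft (f595607 IH) (Lpe (f595595 IH) (Lpr_ft (f595562 IH) (Lpn (LP (LK LD1_c11 LD2_c11 LD3_c41))))))
theorem f595682 : Led Lsl_gt (LP (LK LD1_c11 LD2_c7 LD3_c49)) = (LP (LK LD1_c11 LD2_c7 LD3_c51)) :=
  Lgr Lrot5 (Lpr_ft (f595562 IH) (Lpe (f595609 IH) (Lpr_gf (f595630 IH) (Lpn (LP (LK LD1_c11 LD2_c7 LD3_c51))))))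
theorem f595557 : Led Lsl_ct (LP (LK LD1_c11 LD2_c7 LD3_c49)) = (LP (LK LD1_c11 LD2_c7 LD3_c21)) :=
  Lgr Lrot59 (Lpr_cf (f595552 IH) (Lpn (LP (LK LD1_c11 LD2_c7 LD3_c21))))
theorem f563733 : Led Lsl_gf (LP (LK LD1_c2 LD2_c44 LD3_c57)) = (LP (LK LD1_c2 LD2_c46 LD3_c9)) :=
  Lgr Lrot143 (Lpr_dt (f380455 IH) (Lpe (K39.f289412 IH) (Lpe (f380451 IH) (Lpr_gf (K40.f563731 IH) (Lpe (K40.f181476 IH) (Lpe (K31.f382043 IH) (Lpr_cf (K31.f382046 IH) (Lpe (K36.f380609 IH) (Lpr_dt (K30.f380221 IH) (Lpn (LP (LK LD1_c2 LD2_c46 LD3_c9))))))))))))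
theorem f595750 : Led Lsl_df (LP (LK LD1_c11 LD2_c7 LD3_c49)) = (LP (LK LD1_c9 LD2_c1 LD3_c43)) :=
  Lgr Lrot155 (Lpr_gt (f595682 IH) (Lpr_ct (f380424 IH) (Lpr_gt (f411848 IH) (Lpr_ct (f595557 IH) (Lpr_dt (f380448 IH) (Lpe (f380449 IH) (Lpr_gf (f563733 IH) (Lpe (K30.f380217 IH) (Lpr_gf (f380620 IH) (Lpn (LP (LK LD1_c9 LD2_c1 LD3_c43))))))))))))
theorem f380447 : Led Lsl_ct (LP (LK LD1_c5 LD2_c38 LD3_c2)) = (LP (LK LD1_c2 LD2_c44 LD3_c57)) :=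
  Lre_c IH (LK LD1_c5 LD2_c38 LD3_c2) (LK LD1_c2 LD2_c44 LD3_c57) Lrfl Lrfl
theorem f494269 : Led Lsl_dt (LP (LK LD1_c6 LD2_c15 LD3_c37)) = (LP (LK LD1_c3 LD2_c4 LD3_c53)) :=
  Lre_d IH (LK LD1_c6 LD2_c15 LD3_c37) (LK LD1_c3 LD2_c4 LD3_c53) Lrfl Lrfl
theorem f548265 : Led Lsl_ct (LP (LK LD1_c5 LD2_c40 LD3_c29)) = (LP (LK LD1_c6 LD2_c15 LD3_c37)) :=
  Lgr Lrot110 (Lpe (K40.f380196 IH) (Lpe (K30.f226758 IH) (Lpe (K38.f380595 IH) (Lpr_df (K38.f548254 IH) (Lpr_gt (K35.f169117 IH) (Lpr_ct (K31.f380261 IH) (Lpr_gt (K38.f169115 IH) (Lpq (K38.f544926 IH) (Lpe (K45.f494265 IH) (Lpe (f494269 IH) (Lpn (LP (LK LD1_c6 LD2_c15 LD3_c37)))))))))))))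
theorem f595527 : Led Lsl_ff (LP (LK LD1_c5 LD2_c40 LD3_c29)) = (LP (LK LD1_c9 LD2_c1 LD3_c43)) :=
  Lgr Lrot23 (Lpr_ct (f548265 IH) (Lpr_ft (f595525 IH) (Lpe (f595482 IH) (Lpn (LP (LK LD1_c9 LD2_c1 LD3_c43))))))
theorem f595756 : Led Lsl_af (LP (LK LD1_c9 LD2_c1 LD3_c44)) = (LP (LK LD1_c5 LD2_c40 LD3_c29)) :=
  Lgr Lrot109 (Lpr_cf (f561367 IH) (Lpe (K40.f380452 IH) (Lpe (K39.f380450 IH) (Lpe (f380455 IH) (Lpe (f380447 IH) (Lpe (f380448 IH) (Lpe (f595557 IH) (Lpr_df (f595750 IH) (Lpe (f595527 IH) (Lpn (LP (LK LD1_c5 LD2_c40 LD3_c29))))))))))))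
theorem f595629 : Led Lsl_et (LP (LK LD1_c9 LD2_c1 LD3_c44)) = (LP (LK LD1_c16 LD2_c51 LD3_c40)) :=
  Lre_e IH (LK LD1_c9 LD2_c1 LD3_c44) (LK LD1_c16 LD2_c51 LD3_c40) Lrfl Lrfl
theorem f380203 : Led Lsl_et (LP (LK LD1_c11 LD2_c11 LD3_c42)) = (LP (LK LD1_c5 LD2_c40 LD3_c29)) :=
  Lre_e IH (LK LD1_c11 LD2_c11 LD3_c42) (LK LD1_c5 LD2_c40 LD3_c29) Lrfl Lrfl
theorem f595758 : Led Lsl_at (LP (LK LD1_c16 LD2_c51 LD3_c40)) = (LP (LK LD1_c11 LD2_c11 LD3_c42)) :=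
  Lgr Lrot80 (Lpe (f595629 IH) (Lpr_af (f595756 IH) (Lpe (f380203 IH) (Lpn (LP (LK LD1_c11 LD2_c11 LD3_c42))))))
theorem f595760 : Led Lsl_af (LP (LK LD1_c16 LD2_c51 LD3_c40)) = (LP (LK LD1_c11 LD2_c11 LD3_c42)) :=
  Lgr Lrot0 (Lpr_at (f595758 IH) (Lpn (LP (LK LD1_c11 LD2_c11 LD3_c42))))
theorem f595820 : Led Lsl_ct (LP (LK LD1_c12 LD2_c9 LD3_c3)) = (LP (LK LD1_c11 LD2_c11 LD3_c42)) :=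
  Lgr Lrot111 (Lpr_af (f595814 IH) (Lpr_cf (f595780 IH) (Lpr_af (f595760 IH) (Lpn (LP (LK LD1_c11 LD2_c11 LD3_c42))))))
theorem f112344 : Led Lsl_ft (LP (LK LD1_c21 LD2_c15 LD3_c20)) = (LP (LK LD1_c12 LD2_c9 LD3_c3)) :=
  Lre_f IH (LK LD1_c21 LD2_c15 LD3_c20) (LK LD1_c12 LD2_c9 LD3_c3) Lrfl Lrfl
theorem f595763 : Led Lsl_ft (LP (LK LD1_c11 LD2_c11 LD3_c42)) = (LP (LK LD1_c20 LD2_c6 LD3_c27)) :=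
  Lre_f IH (LK LD1_c11 LD2_c11 LD3_c42) (LK LD1_c20 LD2_c6 LD3_c27) Lrfl Lrfl
theorem f595844 : Led Lsl_cf (LP (LK LD1_c21 LD2_c15 LD3_c20)) = (LP (LK LD1_c20 LD2_c6 LD3_c27)) :=
  Lgr Lrot108 (Lpr_ft (f112344 IH) (Lpr_ct (f595820 IH) (Lpr_ft (f595763 IH) (Lpn (LP (LK LD1_c20 LD2_c6 LD3_c27))))))
theorem f595846 : Led Lsl_ct (LP (LK LD1_c21 LD2_c15 LD3_c20)) = (LP (LK LD1_c20 LD2_c6 LD3_c27)) :=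
  Lgr Lrot59 (Lpr_cf (f595844 IH) (Lpn (LP (LK LD1_c20 LD2_c6 LD3_c27))))
theorem f714927 : Led Lsl_gf (LP (LK LD1_c12 LD2_c58 LD3_c6)) = (LP (LK LD1_c20 LD2_c6 LD3_c27)) :=
  Lgr Lrot126 (Lpe (f415248 IH) (Lpr_bt (f415246 IH) (Lpe (K24.f415244 IH) (Lpr_ct (K17.f61600 IH) (Lpe (K24.f141053 IH) (Lpe (K24.f141049 IH) (Lpr_bt (f701520 IH) (Lpr_gt (f714925 IH) (Lpe (f137375 IH) (Lpr_ct (f595846 IH) (Lpn (LP (LK LD1_c20 LD2_c6 LD3_c27)))))))))))))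
theorem f595765 : Led Lsl_ft (LP (LK LD1_c20 LD2_c6 LD3_c27)) = (LP (LK LD1_c11 LD2_c11 LD3_c42)) :=
  Lre_f IH (LK LD1_c20 LD2_c6 LD3_c27) (LK LD1_c11 LD2_c11 LD3_c42) Lrfl Lrfl
theorem f714929 : Led Lsl_gt (LP (LK LD1_c12 LD2_c58 LD3_c6)) = (LP (LK LD1_c16 LD2_c51 LD3_c40)) :=
  Lgr Lrot46 (Lpr_gf (f714927 IH) (Lpr_ft (f595765 IH) (Lpe (f595760 IH) (Lpn (LP (LK LD1_c16 LD2_c51 LD3_c40))))))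
theorem f589228 : Led Lsl_ft (LP (LK LD1_c11 LD2_c11 LD3_c32)) = (LP (LK LD1_c5 LD2_c40 LD3_c25)) :=
  Lre_f IH (LK LD1_c11 LD2_c11 LD3_c32) (LK LD1_c5 LD2_c40 LD3_c25) Lrfl Lrfl
theorem f710122 : Led Lsl_gt (LP (LK LD1_c11 LD2_c11 LD3_c32)) = (LP (LK LD1_c6 LD2_c47 LD3_c35)) :=
  Lgr Lrot5 (Lpr_ft (f589228 IH) (Lpe (f589479 IH) (Lpr_gf (f710055 IH) (Lpn (LP (LK LD1_c6 LD2_c47 LD3_c35))))))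
theorem f640493 : Led Lsl_gt (LP (LK LD1_c5 LD2_c51 LD3_c19)) = K51.v4826 :=
  Lgr Lrot5 (Lpr_ft (K8.f157920 IH) (Lpe (K8.f158104 IH) (Lpr_gf (K51.f640492 IH) (Lpn K51.v4826))))
theorem f112134 : Led Lsl_dt (LP (LK LD1_c12 LD2_c9 LD3_c3)) = (LP (LK LD1_c6 LD2_c15 LD3_c35)) :=
  Lre_d IH (LK LD1_c12 LD2_c9 LD3_c3) (LK LD1_c6 LD2_c15 LD3_c35) Lrfl Lrfl
theorem f595822 : Led Lsl_dt (LP (LK LD1_c5 LD2_c47 LD3_c48)) = (LP (LK LD1_c11 LD2_c7 LD3_c19)) :=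
  Lgr Lrot44 (Lpe (K5.f117868 IH) (Lpe (f112134 IH) (Lpr_af (f595814 IH) (Lpn (LP (LK LD1_c11 LD2_c7 LD3_c19))))))
theorem f137246 : Led Lsl_et (LP (LK LD1_c9 LD2_c6 LD3_c22)) = (LP (LK LD1_c4 LD2_c34 LD3_c52)) :=
  Lre_e IH (LK LD1_c9 LD2_c6 LD3_c22) (LK LD1_c4 LD2_c34 LD3_c52) Lrfl Lrfl
theorem f137247 : Led Lsl_dt (LP (LK LD1_c16 LD2_c58 LD3_c10)) = (LP (LK LD1_c9 LD2_c6 LD3_c22)) :=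
  Lre_d IH (LK LD1_c16 LD2_c58 LD3_c10) (LK LD1_c9 LD2_c6 LD3_c22) Lrfl Lrfl
theorem f15218 : Led Lsl_dt (LP (LK LD1_c6 LD2_c54 LD3_c48)) = (LP (LK LD1_c13 LD2_c8 LD3_c3)) :=
  Lre_d IH (LK LD1_c6 LD2_c54 LD3_c48) (LK LD1_c13 LD2_c8 LD3_c3) Lrfl Lrfl
theorem f137248 : Led Lsl_ef (LP (LK LD1_c16 LD2_c58 LD3_c10)) = (LP (LK LD1_c13 LD2_c8 LD3_c3)) :=
  Lgr Lrot73 (Lpr_dt (f137247 IH) (Lpr_et (f137246 IH) (Lpr_dt (K6.f137230 IH) (Lpr_et (K6.f15210 IH) (Lpr_dt (f15218 IH) (Lpn (LP (LK LD1_c13 LD2_c8 LD3_c3))))))))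
theorem f137252 : Led Lsl_et (LP (LK LD1_c16 LD2_c58 LD3_c10)) = (LP (LK LD1_c13 LD2_c8 LD3_c3)) :=
  Lgr Lrot87 (Lpr_ef (f137248 IH) (Lpn (LP (LK LD1_c13 LD2_c8 LD3_c3))))
theorem f112169 : Led Lsl_at (LP (LK LD1_c13 LD2_c8 LD3_c3)) = (LP (LK LD1_c6 LD2_c54 LD3_c51)) :=
  Lre_a IH (LK LD1_c13 LD2_c8 LD3_c3) (LK LD1_c6 LD2_c54 LD3_c51) Lrfl Lrfl
theorem f137255 : Led Lsl_af (LP (LK LD1_c16 LD2_c58 LD3_c10)) = (LP (LK LD1_c11 LD2_c30 LD3_c9)) :=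
  Lgr Lrot50 (Lpr_et (f137252 IH) (Lpr_at (f112169 IH) (Lpe (K4.f112163 IH) (Lpn (LP (LK LD1_c11 LD2_c30 LD3_c9))))))
theorem f137258 : Led Lsl_at (LP (LK LD1_c9 LD2_c6 LD3_c22)) = (LP (LK LD1_c5 LD2_c51 LD3_c22)) :=
  Lgr Lrot51 (Lpe (f137247 IH) (Lpr_af (f137255 IH) (Lpe (K4.f103770 IH) (Lpn (LP (LK LD1_c5 LD2_c51 LD3_c22))))))
theorem f137264 : Led Lsl_ft (LP (LK LD1_c16 LD2_c58 LD3_c11)) = (LP (LK LD1_c9 LD2_c6 LD3_c22)) :=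
  Lre_f IH (LK LD1_c16 LD2_c58 LD3_c11) (LK LD1_c9 LD2_c6 LD3_c22) Lrfl Lrfl
theorem f137265 : Led Lsl_af (LP (LK LD1_c16 LD2_c58 LD3_c11)) = (LP (LK LD1_c11 LD2_c30 LD3_c10)) :=
  Lgr Lrot45 (Lpr_ft (f137264 IH) (Lpr_at (f137258 IH) (Lpr_ft (K8.f112325 IH) (Lpn (LP (LK LD1_c11 LD2_c30 LD3_c10))))))
theorem f112338 : Led Lsl_cf (LP (LK LD1_c11 LD2_c30 LD3_c10)) = (LP (LK LD1_c12 LD2_c9 LD3_c4)) :=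
  Lgr Lrot11 (Lpr_ct (K8.f112330 IH) (Lpn (LP (LK LD1_c12 LD2_c9 LD3_c4))))
theorem f137269 : Led Lsl_ct (LP (LK LD1_c16 LD2_c58 LD3_c11)) = (LP (LK LD1_c11 LD2_c25 LD3_c20)) :=
  Lgr Lrot111 (Lpr_af (f137265 IH) (Lpr_cf (f112338 IH) (Lpr_af (K5.f117872 IH) (Lpn (LP (LK LD1_c11 LD2_c25 LD3_c20))))))
theorem f137271 : Led Lsl_cf (LP (LK LD1_c16 LD2_c58 LD3_c11)) = (LP (LK LD1_c11 LD2_c25 LD3_c20)) :=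
  Lgr Lrot11 (Lpr_ct (f137269 IH) (Lpn (LP (LK LD1_c11 LD2_c25 LD3_c20))))
theorem f137274 : Led Lsl_ct (LP (LK LD1_c9 LD2_c6 LD3_c22)) = (LP (LK LD1_c5 LD2_c47 LD3_c48)) :=
  Lgr Lrot40 (Lpe (f137264 IH) (Lpr_cf (f137271 IH) (Lpe (K5.f117858 IH) (Lpn (LP (LK LD1_c5 LD2_c47 LD3_c48))))))
theorem f714931 : Led Lsl_gt (LP (LK LD1_c6 LD2_c12 LD3_c36)) = (LP (LK LD1_c9 LD2_c6 LD3_c22)) :=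
  Lgr Lrot150 (Lpe (K50.f139938 IH) (Lpq (f710385 IH) (Lpe (f640493 IH) (Lpr_df (K51.f589220 IH) (Lpr_gt (f710122 IH) (Lpr_ct (f415248 IH) (Lpr_gt (f714929 IH) (Lpe (f595780 IH) (Lpe (f595822 IH) (Lpe (f137274 IH) (Lpn (LP (LK LD1_c9 LD2_c6 LD3_c22)))))))))))))
theorem f66400 : Led Lsl_ct (LP (LK LD1_c11 LD2_c25 LD3_c21)) = (LP (LK LD1_c5 LD2_c47 LD3_c49)) :=
  Lre_c IH (LK LD1_c11 LD2_c25 LD3_c21) (LK LD1_c5 LD2_c47 LD3_c49) Lrfl Lrfl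
theorem f701574 : Led Lsl_af (LP (LK LD1_c4 LD2_c41 LD3_c4)) = K51.v13187 :=
  Lgr Lrot0 (Lpr_at (K51.f701573 IH) (Lpn K51.v13187))
theorem f413662 : Led Lsl_ct (LP (LK LD1_c4 LD2_c41 LD3_c4)) = (LP (LK LD1_c9 LD2_c17 LD3_c33)) :=
  Lre_c IH (LK LD1_c4 LD2_c41 LD3_c4) (LK LD1_c9 LD2_c17 LD3_c33) Lrfl Lrfl
theorem f713690 : Led Lsl_af (LP (LK LD1_c11 LD2_c25 LD3_c21)) = (LP (LK LD1_c9 LD2_c17 LD3_c33)) :=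
  Lgr Lrot68 (Lpr_ct (f66400 IH) (Lpq (f710390 IH) (Lpe (f701574 IH) (Lpr_ct (f413662 IH) (Lpn (LP (LK LD1_c9 LD2_c17 LD3_c33)))))))
theorem f714935 : Led Lsl_gf (LP (LK LD1_c11 LD2_c25 LD3_c21)) = (LP (LK LD1_c9 LD2_c6 LD3_c22)) :=
  Lgr Lrot76 (Lpr_af (f713690 IH) (Lpe (K50.f504107 IH) (Lpr_gt (f714931 IH) (Lpn (LP (LK LD1_c9 LD2_c6 LD3_c22))))))
theorem f137273 : Led Lsl_ft (LP (LK LD1_c9 LD2_c6 LD3_c22)) = (LP (LK LD1_c16 LD2_c58 LD3_c11)) :=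
  Lre_f IH (LK LD1_c9 LD2_c6 LD3_c22) (LK LD1_c16 LD2_c58 LD3_c11) Lrfl Lrfl
theorem f137267 : Led Lsl_at (LP (LK LD1_c16 LD2_c58 LD3_c11)) = (LP (LK LD1_c11 LD2_c30 LD3_c10)) :=
  Lgr Lrot100 (Lpr_af (f137265 IH) (Lpn (LP (LK LD1_c11 LD2_c30 LD3_c10))))
theorem f714937 : Led Lsl_gt (LP (LK LD1_c11 LD2_c25 LD3_c21)) = (LP (LK LD1_c11 LD2_c30 LD3_c10)) :=
  Lgr Lrot46 (Lpr_gf (f714935 IH) (Lpr_ft (f137273 IH) (Lpr_at (f137267 IH) (Lpn (LP (LK LD1_c11 LD2_c30 LD3_c10))))))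
theorem f66294 : Led Lsl_ct (LP (LK LD1_c5 LD2_c47 LD3_c49)) = (LP (LK LD1_c11 LD2_c25 LD3_c21)) :=
  Lre_c IH (LK LD1_c5 LD2_c47 LD3_c49) (LK LD1_c11 LD2_c25 LD3_c21) Lrfl Lrfl
theorem f66292 : Led Lsl_bt (LP (LK LD1_c5 LD2_c47 LD3_c46)) = (LP (LK LD1_c2 LD2_c49 LD3_c56)) :=
  Lre_b IH (LK LD1_c5 LD2_c47 LD3_c46) (LK LD1_c2 LD2_c49 LD3_c56) Lrfl Lrfl
theorem f61047 : Led Lsl_bt (LP (LK LD1_c2 LD2_c17 LD3_c31)) = (LP (LK LD1_c4 LD2_c40 LD3_c57)) :=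
  Lre_b IH (LK LD1_c2 LD2_c17 LD3_c31) (LK LD1_c4 LD2_c40 LD3_c57) Lrfl Lrfl
theorem f632173 : Led Lsl_af (LP (LK LD1_c2 LD2_c17 LD3_c30)) = K48.v4245 :=
  Lgr Lrot0 (Lpr_at (K48.f632172 IH) (Lpn K48.v4245))
theorem f632179 : Led Lsl_af (LP (LK LD1_c2 LD2_c17 LD3_c31)) = K48.v4246 :=
  Lgr Lrot45 (Lpr_ft (K48.f632176 IH) (Lpe (f632173 IH) (Lpr_ft (K48.f632178 IH) (Lpn K48.v4246))))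
theorem f414674 : Led Lsl_bt (LP (LK LD1_c3 LD2_c2 LD3_c36)) = (LP (LK LD1_c1 LD2_c27 LD3_c16)) :=
  Lre_b IH (LK LD1_c3 LD2_c2 LD3_c36) (LK LD1_c1 LD2_c27 LD3_c16) Lrfl Lrfl
theorem f646806 : Led Lsl_af (LP (LK LD1_c3 LD2_c2 LD3_c36)) = v5254 :=
  Lgr Lrot0 (Lpr_at (f646805 IH) (Lpn v5254))
theorem f701513 : Led Lsl_bf v5254 = v13173 :=
  Lgr Lrot81 (Lpe (f646806 IH) (Lpr_bt (f414674 IH) (Lpqs (K48.f639189 IH) (Lpe (f632179 IH) (Lpr_bt (f61047 IH) (Lpr_at (f701511 IH) (Lpn v13173)))))))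
theorem f112337 : Led Lsl_bt (LP (LK LD1_c12 LD2_c9 LD3_c4)) = (LP (LK LD1_c6 LD2_c15 LD3_c50)) :=
  Lre_b IH (LK LD1_c12 LD2_c9 LD3_c4) (LK LD1_c6 LD2_c15 LD3_c50) Lrfl Lrfl
theorem f715019 : v13168 = (LP (LK LD1_c6 LD2_c15 LD3_c50)) :=
  (Llr Lrot124 (Lpe (f701497 IH) (Lpr_bf (f701513 IH) (Lpq (f706369 IH) (Lpr_ct (f499883 IH) (Lpe (f710049 IH) (Lpr_cf (K4.f66267 IH) (Lpr_bt (f66292 IH) (Lpr_gt (K51.f66293 IH) (Lpr_ct (f66294 IH) (Lpr_gt (f714937 IH) (Lpr_cf (f112338 IH) (Lpr_bt (f112337 IH) (Lpn (LP (LK LD1_c6 LD2_c15 LD3_c50)))))))))))))))).symm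
theorem f715020 : v5254 = (LP (LK LD1_c5 LD2_c54 LD3_c37)) :=
  Lefun (Lecon (Lfl_gf (f701497 IH)) (f715019 IH)) (Lfl_gf (f438252 IH))
def v13170 : LQ := Led Lsl_at (LP (LK LD1_c4 LD2_c40 LD3_c55))
theorem f701499 : Led Lsl_at (LP (LK LD1_c4 LD2_c40 LD3_c55)) = v13170 :=
  Lrfl
theorem f23109 : Led Lsl_bt (LP (LK LD1_c2 LD2_c17 LD3_c30)) = (LP (LK LD1_c4 LD2_c40 LD3_c55)) :=
  Lre_b IH (LK LD1_c2 LD2_c17 LD3_c30) (LK LD1_c4 LD2_c40 LD3_c55) Lrfl Lrfl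
theorem f502930 : Led Lsl_ff (LP (LK LD1_c1 LD2_c27 LD3_c15)) = K48.v1791 :=
  Lgr Lrot3 (Lpr_ft (K48.f502928 IH) (Lpn K48.v1791))
theorem f639193 : (LP (LK LD1_c1 LD2_c27 LD3_c15)) = K48.v4245 :=
  Lefun (Lecon (Lfl_ff (f502930 IH)) (K48.f639188 IH)) (K48.f632176 IH)
theorem f701501 : Led Lsl_bf K50.v5251 = v13170 :=
  Lgr Lrot81 (Lpe (f646800 IH) (Lpr_bt (K38.f140646 IH) (Lpqs (f639193 IH) (Lpe (f632173 IH) (Lpr_bt (f23109 IH) (Lpr_at (f701499 IH) (Lpn v13170)))))))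
theorem f701507 : Led Lsl_bt K50.v5251 = v13170 :=
  Lgr Lrot127 (Lpr_bf (f701501 IH) (Lpn v13170))
theorem f443747 : Led Lsl_dt (LP (LK LD1_c6 LD2_c12 LD3_c5)) = (LP (LK LD1_c3 LD2_c2 LD3_c36)) :=
  Lre_d IH (LK LD1_c6 LD2_c12 LD3_c5) (LK LD1_c3 LD2_c2 LD3_c36) Lrfl Lrfl
theorem f23138 : Led Lsl_dt (LP (LK LD1_c4 LD2_c40 LD3_c55)) = (LP (LK LD1_c9 LD2_c17 LD3_c19)) :=
  Lre_d IH (LK LD1_c4 LD2_c40 LD3_c55) (LK LD1_c9 LD2_c17 LD3_c19) Lrfl Lrfl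
theorem f639926 : Led Lsl_ft (LP (LK LD1_c3 LD2_c2 LD3_c36)) = (LP (LK LD1_c4 LD2_c40 LD3_c55)) :=
  Lgr Lrot54 (Lpe (f443747 IH) (Lpr_ff (f639922 IH) (Lpe (f23138 IH) (Lpn (LP (LK LD1_c4 LD2_c40 LD3_c55))))))
theorem f701502 : Led Lsl_ff v5254 = v13170 :=
  Lgr Lrot30 (Lpe (f646806 IH) (Lpr_ft (f639926 IH) (Lpr_at (f701499 IH) (Lpn v13170))))
theorem f701516 : Led Lsl_bt v5254 = v13173 :=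
  Lgr Lrot35 (Lpr_ff (f701502 IH) (Lpe (f701507 IH) (Lpr_ff (f701514 IH) (Lpn v13173))))
theorem f559992 : Led Lsl_dt (LP (LK LD1_c6 LD2_c25 LD3_c18)) = (LP (LK LD1_c9 LD2_c4 LD3_c14)) :=
  Lgr Lrot42 (Lpr_df (f559989 IH) (Lpn (LP (LK LD1_c9 LD2_c4 LD3_c14))))
theorem f715059 : Led Lsl_bf (LP (LK LD1_c11 LD2_c34 LD3_c57)) = (LP (LK LD1_c9 LD2_c4 LD3_c14)) :=
  Lgr Lrot93 (Lpr_dt (f137401 IH) (Lpq (f715020 IH) (Lpr_bt (f701516 IH) (Lpq (f706369 IH) (Lpr_dt (f559992 IH) (Lpn (LP (LK LD1_c9 LD2_c4 LD3_c14))))))))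
theorem f559994 : Led Lsl_et (LP (LK LD1_c4 LD2_c33 LD3_c21)) = (LP (LK LD1_c9 LD2_c4 LD3_c14)) :=
  Lre_e IH (LK LD1_c4 LD2_c33 LD3_c21) (LK LD1_c9 LD2_c4 LD3_c14) Lrfl Lrfl
theorem f715065 : Led Lsl_et (LP (LK LD1_c11 LD2_c34 LD3_c57)) = (LP (LK LD1_c9 LD2_c4 LD3_c11)) :=
  Lgr Lrot74 (Lpr_bf (f715059 IH) (Lpe (f559994 IH) (Lpe (K45.f140504 IH) (Lpn (LP (LK LD1_c9 LD2_c4 LD3_c11))))))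
theorem f715069 : Led Lsl_gt (LP (LK LD1_c16 LD2_c53 LD3_c41)) = (LP (LK LD1_c9 LD2_c4 LD3_c11)) :=
  Lgr Lrot131 (Lpe (K38.f382069 IH) (Lpr_dt (K38.f174902 IH) (Lpr_gf (K39.f538890 IH) (Lpe (K39.f181596 IH) (Lpe (K39.f551649 IH) (Lpe (K6.f137393 IH) (Lpr_dt (K40.f137349 IH) (Lpe (f137400 IH) (Lpe (f137401 IH) (Lpr_et (f715065 IH) (Lpn (LP (LK LD1_c9 LD2_c4 LD3_c11)))))))))))))
theorem f569134 : Led Lsl_dt (LP (LK LD1_c9 LD2_c9 LD3_c23)) = (LP (LK LD1_c16 LD2_c53 LD3_c41)) :=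
  Lgr Lrot77 (Lpe (K43.f208426 IH) (Lpe (K8.f99566 IH) (Lpr_ef (K42.f569132 IH) (Lpe (K38.f174902 IH) (Lpe (K38.f174910 IH) (Lpn (LP (LK LD1_c16 LD2_c53 LD3_c41))))))))
theorem f614348 : Led Lsl_df (LP (LK LD1_c9 LD2_c9 LD3_c23)) = (LP (LK LD1_c16 LD2_c53 LD3_c41)) :=
  Lgr Lrot38 (Lpr_dt (f569134 IH) (Lpn (LP (LK LD1_c16 LD2_c53 LD3_c41))))
theorem f40911 : Led Lsl_bt (LP (LK LD1_c7 LD2_c59 LD3_c44)) = (LP (LK LD1_c3 LD2_c59 LD3_c15)) :=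
  Lre_b IH (LK LD1_c7 LD2_c59 LD3_c44) (LK LD1_c3 LD2_c59 LD3_c15) Lrfl Lrfl
theorem f140255 : Led Lsl_ct (LP (LK LD1_c7 LD2_c59 LD3_c44)) = (LP (LK LD1_c15 LD2_c4 LD3_c23)) :=
  Lre_c IH (LK LD1_c7 LD2_c59 LD3_c44) (LK LD1_c15 LD2_c4 LD3_c23) Lrfl Lrfl
theorem f415683 : Led Lsl_bt (LP (LK LD1_c1 LD2_c3 LD3_c53)) = (LP (LK LD1_c2 LD2_c13 LD3_c36)) :=
  Lre_b IH (LK LD1_c1 LD2_c3 LD3_c53) (LK LD1_c2 LD2_c13 LD3_c36) Lrfl Lrfl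
theorem f416271 : Led Lsl_gf (LP (LK LD1_c15 LD2_c4 LD3_c23)) = (LP (LK LD1_c16 LD2_c55 LD3_c39)) :=
  Lgr Lrot126 (Lpe (f140255 IH) (Lpr_bt (f40911 IH) (Lpr_gt (K32.f416265 IH) (Lpe (K32.f416267 IH) (Lpr_gt (K32.f140870 IH) (Lpe (K32.f415679 IH) (Lpr_bt (f415683 IH) (Lpr_gt (K51.f416270 IH) (Lpe (K45.f140504 IH) (Lpr_ct (K45.f140505 IH) (Lpn (LP (LK LD1_c16 LD2_c55 LD3_c39)))))))))))))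
theorem f140478 : Led Lsl_ct (LP (LK LD1_c15 LD2_c4 LD3_c23)) = (LP (LK LD1_c7 LD2_c59 LD3_c44)) :=
  Lre_c IH (LK LD1_c15 LD2_c4 LD3_c23) (LK LD1_c7 LD2_c59 LD3_c44) Lrfl Lrfl
theorem f40499 : Led Lsl_ct (LP (LK LD1_c8 LD2_c0 LD3_c43)) = (LP (LK LD1_c3 LD2_c59 LD3_c52)) :=
  Lre_c IH (LK LD1_c8 LD2_c0 LD3_c43) (LK LD1_c3 LD2_c59 LD3_c52) Lrfl Lrfl
def v13033 : LQ := Led Lsl_gf (LP (LK LD1_c4 LD2_c38 LD3_c15))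
theorem f700629 : Led Lsl_gf (LP (LK LD1_c4 LD2_c38 LD3_c15)) = v13033 :=
  Lrfl
theorem f715073 : (LP (LK LD1_c9 LD2_c9 LD3_c23)) = v13033 :=
  (Llr Lrot6 (Lpr_df (f614348 IH) (Lpr_gt (f715069 IH) (Lpr_ct (K45.f140505 IH) (Lpe (f416271 IH) (Lpr_ct (f140478 IH) (Lpe (K24.f140859 IH) (Lpe (f40499 IH) (Lpe (K32.f140852 IH) (Lpe (K32.f140163 IH) (Lpr_gf (f700629 IH) (Lpn v13033)))))))))))).symm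
theorem f40962 : Led Lsl_bt (LP (LK LD1_c2 LD2_c27 LD3_c53)) = (LP (LK LD1_c1 LD2_c11 LD3_c3)) :=
  Lre_b IH (LK LD1_c2 LD2_c27 LD3_c53) (LK LD1_c1 LD2_c11 LD3_c3) Lrfl Lrfl
theorem f715085 : Led Lsl_gf (LP (LK LD1_c9 LD2_c5 LD3_c55)) = v4557 :=
  Lgr Lrot126 (Lpe (K43.f160982 IH) (Lpe (f208486 IH) (Lpqs (f715073 IH) (Lpe (f700629 IH) (Lpr_ct (K32.f140163 IH) (Lpr_gt (K32.f140852 IH) (Lpe (K17.f40487 IH) (Lpr_bt (K32.f40498 IH) (Lpr_gt (K32.f40956 IH) (Lpe (f40962 IH) (Lpr_ct (f636113 IH) (Lpn v4557))))))))))))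
theorem f77393 : Led Lsl_ct (LP (LK LD1_c8 LD2_c0 LD3_c53)) = (LP (LK LD1_c3 LD2_c59 LD3_c53)) :=
  Lre_c IH (LK LD1_c8 LD2_c0 LD3_c53) (LK LD1_c3 LD2_c59 LD3_c53) Lrfl Lrfl
theorem f636117 : Led Lsl_ff (LP (LK LD1_c8 LD2_c0 LD3_c53)) = v4557 :=
  Lgr Lrot23 (Lpr_ct (f77393 IH) (Lpr_ft (K51.f633852 IH) (Lpr_ct (f636113 IH) (Lpn v4557))))
theorem f636118 : Led Lsl_at (LP (LK LD1_c8 LD2_c0 LD3_c53)) = (LP (LK LD1_c15 LD2_c5 LD3_c33)) :=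
  Lre_a IH (LK LD1_c8 LD2_c0 LD3_c53) (LK LD1_c15 LD2_c5 LD3_c33) Lrfl Lrfl
theorem f715086 : Led Lsl_gt (LP (LK LD1_c9 LD2_c5 LD3_c55)) = (LP (LK LD1_c15 LD2_c5 LD3_c33)) :=
  Lgr Lrot46 (Lpr_gf (f715085 IH) (Lpe (f636117 IH) (Lpr_at (f636118 IH) (Lpn (LP (LK LD1_c15 LD2_c5 LD3_c33))))))
theorem f715087 : Led Lsl_gt (LP (LK LD1_c9 LD2_c5 LD3_c55)) = (LP (LK LD1_c15 LD2_c5 LD3_c33)) :=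
  Leop (Lpe (f715086 IH) (Lpn (LP (LK LD1_c9 LD2_c5 LD3_c55))))
theorem seed_776 : LEOK LG_g (LK LD1_c9 LD2_c5 LD3_c55) :=
  Leoe_g (LK LD1_c9 LD2_c5 LD3_c55) (f715087 IH)
theorem f208483 : Led Lsl_gt (LP (LK LD1_c17 LD2_c2 LD3_c23)) = (LP (LK LD1_c9 LD2_c9 LD3_c23)) :=
  Lre_g IH (LK LD1_c17 LD2_c2 LD3_c23) (LK LD1_c9 LD2_c9 LD3_c23) Lrfl Lrfl
theorem f631937 : Led Lsl_at (LP (LK LD1_c9 LD2_c12 LD3_c13)) = (LP (LK LD1_c4 LD2_c38 LD3_c15)) :=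
  Lre_a IH (LK LD1_c9 LD2_c12 LD3_c13) (LK LD1_c4 LD2_c38 LD3_c15) Lrfl Lrfl
theorem f715093 : Led Lsl_ft (LP (LK LD1_c17 LD2_c2 LD3_c23)) = (LP (LK LD1_c9 LD2_c12 LD3_c13)) :=
  Lgr Lrot2 (Lpr_gt (f208483 IH) (Lpqs (f715073 IH) (Lpe (f700629 IH) (Lpe (f631937 IH) (Lpn (LP (LK LD1_c9 LD2_c12 LD3_c13)))))))
theorem f715098 : Led Lsl_ff (LP (LK LD1_c17 LD2_c2 LD3_c23)) = (LP (LK LD1_c9 LD2_c12 LD3_c13)) :=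
  Lgr Lrot3 (Lpr_ft (f715093 IH) (Lpn (LP (LK LD1_c9 LD2_c12 LD3_c13))))
theorem f631941 : Led Lsl_at (LP (LK LD1_c4 LD2_c38 LD3_c15)) = (LP (LK LD1_c9 LD2_c12 LD3_c13)) :=
  Lre_a IH (LK LD1_c4 LD2_c38 LD3_c15) (LK LD1_c9 LD2_c12 LD3_c13) Lrfl Lrfl
def v13034 : LQ := Led Lsl_ft (LP (LK LD1_c4 LD2_c38 LD3_c15))
theorem f700633 : Led Lsl_ft (LP (LK LD1_c4 LD2_c38 LD3_c15)) = v13034 :=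
  Lrfl
theorem f700636 : Led Lsl_ff (LP (LK LD1_c4 LD2_c38 LD3_c15)) = v13034 :=
  Lgr Lrot3 (Lpr_ft (f700633 IH) (Lpn v13034))
theorem f715100 : Led Lsl_at (LP (LK LD1_c17 LD2_c2 LD3_c23)) = v13034 :=
  Lgr Lrot66 (Lpr_ff (f715098 IH) (Lpe (f631941 IH) (Lpr_ff (f700636 IH) (Lpn v13034))))
theorem f631940 : Led Lsl_bt (LP (LK LD1_c2 LD2_c16 LD3_c12)) = (LP (LK LD1_c4 LD2_c38 LD3_c15)) :=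
  Lre_b IH (LK LD1_c2 LD2_c16 LD3_c12) (LK LD1_c4 LD2_c38 LD3_c15) Lrfl Lrfl
theorem f631958 : Led Lsl_ff (LP (LK LD1_c2 LD2_c16 LD3_c12)) = K45.v4215 :=
  Lgr Lrot3 (Lpr_ft (K45.f631955 IH) (Lpn K45.v4215))
theorem f700634 : Led Lsl_bf K45.v4215 = v13034 :=
  Lgr Lrot61 (Lpe (f631958 IH) (Lpr_bt (f631940 IH) (Lpr_ft (f700633 IH) (Lpn v13034))))
theorem f631951 : Led Lsl_bt (LP (LK LD1_c2 LD2_c16 LD3_c13)) = (LP (LK LD1_c4 LD2_c38 LD3_c19)) :=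
  Lre_b IH (LK LD1_c2 LD2_c16 LD3_c13) (LK LD1_c4 LD2_c38 LD3_c19) Lrfl Lrfl
theorem f631966 : Led Lsl_at (LP (LK LD1_c4 LD2_c38 LD3_c19)) = (LP (LK LD1_c9 LD2_c12 LD3_c28)) :=
  Lre_a IH (LK LD1_c4 LD2_c38 LD3_c19) (LK LD1_c9 LD2_c12 LD3_c28) Lrfl Lrfl
theorem f715103 : Led Lsl_bf (LP (LK LD1_c17 LD2_c2 LD3_c23)) = (LP (LK LD1_c9 LD2_c12 LD3_c28)) :=
  Lgr Lrot81 (Lpr_at (f715100 IH) (Lpe (f700634 IH) (Lpe (K45.f631956 IH) (Lpr_bt (f631951 IH) (Lpr_at (f631966 IH) (Lpn (LP (LK LD1_c9 LD2_c12 LD3_c28))))))))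
theorem f715104 : Led Lsl_bt (LP (LK LD1_c9 LD2_c12 LD3_c28)) = (LP (LK LD1_c17 LD2_c2 LD3_c23)) :=
  Leop (Lpr_bf (f715103 IH) (Lpn (LP (LK LD1_c9 LD2_c12 LD3_c28))))
theorem seed_777 : LEOK LG_b (LK LD1_c9 LD2_c12 LD3_c28) :=
  Leoe_b (LK LD1_c9 LD2_c12 LD3_c28) (f715104 IH)
theorem f715095 : Led Lsl_af (LP (LK LD1_c17 LD2_c2 LD3_c23)) = v13034 :=
  Lgr Lrot45 (Lpr_ft (f715093 IH) (Lpr_at (f631937 IH) (Lpr_ft (f700633 IH) (Lpn v13034))))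
theorem f140855 : Led Lsl_gt (LP (LK LD1_c4 LD2_c38 LD3_c15)) = (LP (LK LD1_c9 LD2_c12 LD3_c12)) :=
  Lre_g IH (LK LD1_c4 LD2_c38 LD3_c15) (LK LD1_c9 LD2_c12 LD3_c12) Lrfl Lrfl
theorem f715111 : Led Lsl_gf (LP (LK LD1_c17 LD2_c2 LD3_c23)) = (LP (LK LD1_c9 LD2_c12 LD3_c12)) :=
  Lgr Lrot76 (Lpr_af (f715095 IH) (Lpe (f700633 IH) (Lpr_gt (f140855 IH) (Lpn (LP (LK LD1_c9 LD2_c12 LD3_c12))))))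
theorem f715112 : Led Lsl_gt (LP (LK LD1_c9 LD2_c12 LD3_c12)) = (LP (LK LD1_c17 LD2_c2 LD3_c23)) :=
  Leop (Lpr_gf (f715111 IH) (Lpn (LP (LK LD1_c9 LD2_c12 LD3_c12))))
theorem seed_778 : LEOK LG_g (LK LD1_c9 LD2_c12 LD3_c12) :=
  Leoe_g (LK LD1_c9 LD2_c12 LD3_c12) (f715112 IH)
theorem f137372 : Led Lsl_ft (LP (LK LD1_c5 LD2_c54 LD3_c38)) = (LP (LK LD1_c11 LD2_c34 LD3_c60)) :=
  Lre_f IH (LK LD1_c5 LD2_c54 LD3_c38) (LK LD1_c11 LD2_c34 LD3_c60) Lrfl Lrfl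
theorem f714926 : Led Lsl_gf v13174 = (LP (LK LD1_c5 LD2_c54 LD3_c38)) :=
  Lgr Lrot47 (Lpr_gt (f714925 IH) (Lpe (K6.f137360 IH) (Lpe (f137372 IH) (Lpn (LP (LK LD1_c5 LD2_c54 LD3_c38))))))
theorem f73663 : Led Lsl_bt (LP (LK LD1_c5 LD2_c51 LD3_c50)) = (LP (LK LD1_c11 LD2_c30 LD3_c53)) :=
  Lre_b IH (LK LD1_c5 LD2_c51 LD3_c50) (LK LD1_c11 LD2_c30 LD3_c53) Lrfl Lrfl
theorem f101708 : Led Lsl_et (LP (LK LD1_c6 LD2_c51 LD3_c9)) = (LP (LK LD1_c3 LD2_c24 LD3_c4)) :=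
  Lre_e IH (LK LD1_c6 LD2_c51 LD3_c9) (LK LD1_c3 LD2_c24 LD3_c4) Lrfl Lrfl
theorem f101709 : Led Lsl_dt (LP (LK LD1_c6 LD2_c51 LD3_c9)) = (LP (LK LD1_c13 LD2_c2 LD3_c14)) :=
  Lre_d IH (LK LD1_c6 LD2_c51 LD3_c9) (LK LD1_c13 LD2_c2 LD3_c14) Lrfl Lrfl
theorem f138001 : Led Lsl_gt (LP (LK LD1_c13 LD2_c2 LD3_c14)) = (LP (LK LD1_c11 LD2_c30 LD3_c43)) :=
  Lgr Lrot112 (Lpe (f101709 IH) (Lpr_et (f101708 IH) (Lpe (K17.f101701 IH) (Lpe (K17.f99549 IH) (Lpr_dt (K8.f99538 IH) (Lpe (K6.f59538 IH) (Lpr_df (K6.f137979 IH) (Lpr_gf (K8.f74176 IH) (Lpe (K2.f73828 IH) (Lpr_dt (K2.f73829 IH) (Lpn (LP (LK LD1_c11 LD2_c30 LD3_c43)))))))))))))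
theorem f73845 : Led Lsl_at (LP (LK LD1_c5 LD2_c51 LD3_c47)) = (LP (LK LD1_c11 LD2_c30 LD3_c43)) :=
  Lre_a IH (LK LD1_c5 LD2_c51 LD3_c47) (LK LD1_c11 LD2_c30 LD3_c43) Lrfl Lrfl
theorem f73872 : Led Lsl_ft (LP (LK LD1_c11 LD2_c30 LD3_c53)) = (LP (LK LD1_c5 LD2_c51 LD3_c47)) :=
  Lre_f IH (LK LD1_c11 LD2_c30 LD3_c53) (LK LD1_c5 LD2_c51 LD3_c47) Lrfl Lrfl
theorem f138003 : Led Lsl_gf (LP (LK LD1_c13 LD2_c2 LD3_c14)) = (LP (LK LD1_c11 LD2_c30 LD3_c53)) :=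
  Lgr Lrot47 (Lpr_gt (f138001 IH) (Lpe (f73845 IH) (Lpe (f73872 IH) (Lpn (LP (LK LD1_c11 LD2_c30 LD3_c53))))))
theorem f138005 : Led Lsl_ct (LP (LK LD1_c13 LD2_c2 LD3_c14)) = (LP (LK LD1_c22 LD2_c11 LD3_c55)) :=
  Lre_c IH (LK LD1_c13 LD2_c2 LD3_c14) (LK LD1_c22 LD2_c11 LD3_c55) Lrfl Lrfl
theorem f561576 : Led Lsl_ct (LP (LK LD1_c9 LD2_c2 LD3_c42)) = (LP (LK LD1_c16 LD2_c53 LD3_c11)) :=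
  Lre_c IH (LK LD1_c9 LD2_c2 LD3_c42) (LK LD1_c16 LD2_c53 LD3_c11) Lrfl Lrfl
theorem f715138 : Led Lsl_gt (LP (LK LD1_c22 LD2_c11 LD3_c55)) = (LP (LK LD1_c16 LD2_c53 LD3_c11)) :=
  Lgr Lrot149 (Lpe (f138005 IH) (Lpr_gf (f138003 IH) (Lpe (f73663 IH) (Lpr_ct (K16.f73679 IH) (Lpe (K24.f141050 IH) (Lpe (K24.f141049 IH) (Lpr_bt (f701520 IH) (Lpr_gf (f714926 IH) (Lpe (K40.f561569 IH) (Lpr_ct (f561576 IH) (Lpn (LP (LK LD1_c16 LD2_c53 LD3_c11)))))))))))))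
theorem f715139 : Led Lsl_gt (LP (LK LD1_c22 LD2_c11 LD3_c55)) = (LP (LK LD1_c16 LD2_c53 LD3_c11)) :=
  Leop (Lpe (f715138 IH) (Lpn (LP (LK LD1_c22 LD2_c11 LD3_c55))))
theorem seed_779 : LEOK LG_g (LK LD1_c22 LD2_c11 LD3_c55) :=
  Leoe_g (LK LD1_c22 LD2_c11 LD3_c55) (f715139 IH)
theorem f653453 : Led Lsl_at (LP (LK LD1_c3 LD2_c21 LD3_c50)) = K51.v6447 :=
  Lgr Lrot51 (Lpe (f454292 IH) (Lpe (K24.f454022 IH) (Lpr_df (K51.f653452 IH) (Lpn K51.v6447))))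
theorem f414970 : Led Lsl_gt (LP (LK LD1_c4 LD2_c49 LD3_c50)) = (LP (LK LD1_c9 LD2_c32 LD3_c14)) :=
  Lre_g IH (LK LD1_c4 LD2_c49 LD3_c50) (LK LD1_c9 LD2_c32 LD3_c14) Lrfl Lrfl
theorem f653455 : Led Lsl_gt (LP (LK LD1_c9 LD2_c32 LD3_c14)) = K51.v6447 :=
  Lgr Lrot46 (Lpe (f414970 IH) (Lpr_ft (K24.f454296 IH) (Lpr_at (f653453 IH) (Lpn K51.v6447))))
theorem f415302 : Led Lsl_et (LP (LK LD1_c17 LD2_c34 LD3_c27)) = (LP (LK LD1_c9 LD2_c32 LD3_c14)) :=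
  Lre_e IH (LK LD1_c17 LD2_c34 LD3_c27) (LK LD1_c9 LD2_c32 LD3_c14) Lrfl Lrfl
def v12915 : LQ := Led Lsl_dt (LP (LK LD1_c4 LD2_c34 LD3_c30))
theorem f699557 : Led Lsl_dt (LP (LK LD1_c4 LD2_c34 LD3_c30)) = v12915 :=
  Lrfl
theorem f699559 : Led Lsl_df (LP (LK LD1_c4 LD2_c34 LD3_c30)) = v12915 :=
  Lgr Lrot38 (Lpr_dt (f699557 IH) (Lpn v12915))
theorem f699560 : Led Lsl_ef (LP (LK LD1_c4 LD2_c34 LD3_c48)) = v12915 :=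
  Lgr Lrot73 (Lpr_dt (K38.f72379 IH) (Lpr_et (K36.f72377 IH) (Lpe (K5.f130550 IH) (Lpr_et (K5.f130543 IH) (Lpr_dt (f699557 IH) (Lpn v12915))))))
theorem f165723 : Led Lsl_gt (LP (LK LD1_c10 LD2_c4 LD3_c56)) = (LP (LK LD1_c18 LD2_c23 LD3_c36)) :=
  Lre_g IH (LK LD1_c10 LD2_c4 LD3_c56) (LK LD1_c18 LD2_c23 LD3_c36) Lrfl Lrfl
theorem f715194 : Led Lsl_dt (LP (LK LD1_c17 LD2_c34 LD3_c27)) = (LP (LK LD1_c18 LD2_c23 LD3_c36)) :=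
  Lgr Lrot37 (Lpr_et (f415302 IH) (Lpr_gt (f653455 IH) (Lpe (K51.f653452 IH) (Lpr_gt (f634253 IH) (Lpq (f710130 IH) (Lpr_df (f699559 IH) (Lpe (f699560 IH) (Lpr_gt (K45.f595407 IH) (Lpe (K36.f334862 IH) (Lpr_dt (K36.f334845 IH) (Lpr_gt (f165723 IH) (Lpn (LP (LK LD1_c18 LD2_c23 LD3_c36))))))))))))))
theorem f715195 : Led Lsl_dt (LP (LK LD1_c17 LD2_c34 LD3_c27)) = (LP (LK LD1_c18 LD2_c23 LD3_c36)) :=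
  Leop (Lpe (f715194 IH) (Lpn (LP (LK LD1_c17 LD2_c34 LD3_c27))))
theorem seed_780 : LEOK LG_d (LK LD1_c17 LD2_c34 LD3_c27) :=
  Leoe_d (LK LD1_c17 LD2_c34 LD3_c27) (f715195 IH)
theorem f415292 : Led Lsl_dt (LP (LK LD1_c4 LD2_c49 LD3_c50)) = (LP (LK LD1_c2 LD2_c22 LD3_c39)) :=
  Lre_d IH (LK LD1_c4 LD2_c49 LD3_c50) (LK LD1_c2 LD2_c22 LD3_c39) Lrfl Lrfl
theorem f415300 : Led Lsl_et (LP (LK LD1_c4 LD2_c49 LD3_c50)) = (LP (LK LD1_c9 LD2_c32 LD3_c17)) :=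
  Lre_e IH (LK LD1_c4 LD2_c49 LD3_c50) (LK LD1_c9 LD2_c32 LD3_c17) Lrfl Lrfl
theorem f715201 : Led Lsl_gf (LP (LK LD1_c11 LD2_c7 LD3_c60)) = (LP (LK LD1_c9 LD2_c32 LD3_c17)) :=
  Lgr Lrot138 (Lpr_dt (K38.f638725 IH) (Lpr_gt (K38.f418727 IH) (Lpr_df (K38.f638722 IH) (Lpe (K35.f638723 IH) (Lpe (K38.f548358 IH) (Lpr_ef (f699560 IH) (Lpe (f699559 IH) (Lpr_gt (f699554 IH) (Lpqs (f710128 IH) (Lpe (f415292 IH) (Lpr_et (f415300 IH) (Lpn (LP (LK LD1_c9 LD2_c32 LD3_c17))))))))))))))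
theorem f715202 : Led Lsl_gt (LP (LK LD1_c9 LD2_c32 LD3_c17)) = (LP (LK LD1_c11 LD2_c7 LD3_c60)) :=
  Leop (Lpr_gf (f715201 IH) (Lpn (LP (LK LD1_c9 LD2_c32 LD3_c17))))
theorem seed_781 : LEOK LG_g (LK LD1_c9 LD2_c32 LD3_c17) :=
  Leoe_g (LK LD1_c9 LD2_c32 LD3_c17) (f715202 IH)
theorem f157213 : Led Lsl_et (LP (LK LD1_c20 LD2_c27 LD3_c6)) = (LP (LK LD1_c11 LD2_c29 LD3_c58)) :=
  Lre_e IH (LK LD1_c20 LD2_c27 LD3_c6) (LK LD1_c11 LD2_c29 LD3_c58) Lrfl Lrfl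
theorem f710038 : Led Lsl_et (LP (LK LD1_c6 LD2_c10 LD3_c60)) = (LP (LK LD1_c12 LD2_c2 LD3_c26)) :=
  Lre_e IH (LK LD1_c6 LD2_c10 LD3_c60) (LK LD1_c12 LD2_c2 LD3_c26) Lrfl Lrfl
theorem f710039 : Led Lsl_cf (LP (LK LD1_c20 LD2_c27 LD3_c6)) = (LP (LK LD1_c12 LD2_c2 LD3_c26)) :=
  Lgr Lrot39 (Lpr_et (f157213 IH) (Lpr_ct (f710033 IH) (Lpr_et (f710038 IH) (Lpn (LP (LK LD1_c12 LD2_c2 LD3_c26))))))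
theorem f715328 : Led Lsl_ct (LP (LK LD1_c20 LD2_c27 LD3_c6)) = (LP (LK LD1_c12 LD2_c2 LD3_c26)) :=
  Lgr Lrot59 (Lpr_cf (f710039 IH) (Lpn (LP (LK LD1_c12 LD2_c2 LD3_c26))))
theorem f157857 : Led Lsl_et (LP (LK LD1_c8 LD2_c0 LD3_c32)) = (LP (LK LD1_c3 LD2_c59 LD3_c44)) :=
  Lre_e IH (LK LD1_c8 LD2_c0 LD3_c32) (LK LD1_c3 LD2_c59 LD3_c44) Lrfl Lrfl
theorem f615522 : Led Lsl_bt (LP (LK LD1_c5 LD2_c51 LD3_c28)) = (LP (LK LD1_c11 LD2_c30 LD3_c17)) :=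
  Lre_b IH (LK LD1_c5 LD2_c51 LD3_c28) (LK LD1_c11 LD2_c30 LD3_c17) Lrfl Lrfl
theorem f615523 : Led Lsl_dt (LP (LK LD1_c11 LD2_c30 LD3_c17)) = (LP (LK LD1_c9 LD2_c6 LD3_c1)) :=
  Lgr Lrot79 (Lpe (f615522 IH) (Lpr_df (K50.f615501 IH) (Lpe (K50.f92152 IH) (Lpn (LP (LK LD1_c9 LD2_c6 LD3_c1))))))
theorem f615530 : Led Lsl_gt (LP (LK LD1_c20 LD2_c27 LD3_c30)) = (LP (LK LD1_c11 LD2_c30 LD3_c17)) :=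
  Lre_g IH (LK LD1_c20 LD2_c27 LD3_c30) (LK LD1_c11 LD2_c30 LD3_c17) Lrfl Lrfl
theorem f711612 : Led Lsl_dt (LP (LK LD1_c29 LD2_c23 LD3_c7)) = (LP (LK LD1_c20 LD2_c16 LD3_c36)) :=
  Lre_d IH (LK LD1_c29 LD2_c23 LD3_c7) (LK LD1_c20 LD2_c16 LD3_c36) Lrfl Lrfl
theorem f713049 : Led Lsl_ef (LP (LK LD1_c20 LD2_c27 LD3_c30)) = (LP (LK LD1_c29 LD2_c23 LD3_c7)) :=
  Lgr Lrot167 (Lpr_gt (f615530 IH) (Lpr_dt (f615523 IH) (Lpe (K50.f644273 IH) (Lpe (K42.f570768 IH) (Lpr_et (f157857 IH) (Lpe (K8.f161621 IH) (Lpe (K51.f82026 IH) (Lpr_dt (K51.f612921 IH) (Lpr_gt (f713043 IH) (Lpe (f711612 IH) (Lpn (LP (LK LD1_c29 LD2_c23 LD3_c7)))))))))))))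
theorem f713055 : Led Lsl_et (LP (LK LD1_c20 LD2_c27 LD3_c30)) = (LP (LK LD1_c29 LD2_c23 LD3_c7)) :=
  Lgr Lrot87 (Lpr_ef (f713049 IH) (Lpn (LP (LK LD1_c29 LD2_c23 LD3_c7))))
theorem f706117 : Led Lsl_bt (LP (LK LD1_c29 LD2_c23 LD3_c7)) = (LP (LK LD1_c20 LD2_c16 LD3_c37)) :=
  Lre_b IH (LK LD1_c29 LD2_c23 LD3_c7) (LK LD1_c20 LD2_c16 LD3_c37) Lrfl Lrfl
theorem f22782 : Led Lsl_ft (LP (LK LD1_c11 LD2_c35 LD3_c5)) = (LP (LK LD1_c5 LD2_c54 LD3_c45)) :=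
  Lre_f IH (LK LD1_c11 LD2_c35 LD3_c5) (LK LD1_c5 LD2_c54 LD3_c45) Lrfl Lrfl
theorem f22784 : Led Lsl_cf (LP (LK LD1_c11 LD2_c35 LD3_c5)) = (LP (LK LD1_c11 LD2_c31 LD3_c10)) :=
  Lgr Lrot108 (Lpr_ft (f22782 IH) (Lpr_ct (K32.f22768 IH) (Lpr_ft (K32.f22783 IH) (Lpn (LP (LK LD1_c11 LD2_c31 LD3_c10))))))
theorem f496484 : Led Lsl_at (LP (LK LD1_c5 LD2_c50 LD3_c9)) = (LP (LK LD1_c5 LD2_c52 LD3_c10)) :=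
  Lgr Lrot100 (Lpr_af (K32.f496482 IH) (Lpn (LP (LK LD1_c5 LD2_c52 LD3_c10))))
theorem f640649 : Led Lsl_gf (LP (LK LD1_c5 LD2_c52 LD3_c10)) = K50.v4868 :=
  Lgr Lrot76 (Lpe (f496484 IH) (Lpe (K41.f496416 IH) (Lpr_gt (K50.f640648 IH) (Lpn K50.v4868))))
theorem f446196 : Led Lsl_bt (LP (LK LD1_c1 LD2_c27 LD3_c20)) = (LP (LK LD1_c3 LD2_c2 LD3_c48)) :=
  Lre_b IH (LK LD1_c1 LD2_c27 LD3_c20) (LK LD1_c3 LD2_c2 LD3_c48) Lrfl Lrfl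
def v5255 : LQ := Led Lsl_ct (LP (LK LD1_c3 LD2_c2 LD3_c36))
theorem f646807 : Led Lsl_ct (LP (LK LD1_c3 LD2_c2 LD3_c36)) = v5255 :=
  Lrfl
theorem f706067 : Led Lsl_gt (LP (LK LD1_c11 LD2_c35 LD3_c5)) = v5255 :=
  Lgr Lrot65 (Lpr_cf (f22784 IH) (Lpr_bt (K32.f22794 IH) (Lpr_gf (f640649 IH) (Lpqs (K51.f706058 IH) (Lpe (f446196 IH) (Lpr_ct (K16.f413458 IH) (Lpe (K16.f59833 IH) (Lpe (K17.f27139 IH) (Lpe (K16.f59890 IH) (Lpe (f414674 IH) (Lpr_ct (f646807 IH) (Lpn v5255))))))))))))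
theorem f706068 : Led Lsl_gf (LP (LK LD1_c9 LD2_c8 LD3_c39)) = v5255 :=
  Lgr Lrot76 (Lpr_af (K32.f496517 IH) (Lpe (f22782 IH) (Lpr_gt (f706067 IH) (Lpn v5255))))
theorem f414677 : Led Lsl_bt (LP (LK LD1_c4 LD2_c40 LD3_c54)) = (LP (LK LD1_c2 LD2_c17 LD3_c33)) :=
  Lre_b IH (LK LD1_c4 LD2_c40 LD3_c54) (LK LD1_c2 LD2_c17 LD3_c33) Lrfl Lrfl
theorem f414678 : Led Lsl_ct (LP (LK LD1_c4 LD2_c40 LD3_c54)) = (LP (LK LD1_c9 LD2_c16 LD3_c39)) :=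
  Lre_c IH (LK LD1_c4 LD2_c40 LD3_c54) (LK LD1_c9 LD2_c16 LD3_c39) Lrfl Lrfl
theorem f75290 : Led Lsl_gt (LP (LK LD1_c17 LD2_c11 LD3_c13)) = (LP (LK LD1_c9 LD2_c16 LD3_c39)) :=
  Lre_g IH (LK LD1_c17 LD2_c11 LD3_c13) (LK LD1_c9 LD2_c16 LD3_c39) Lrfl Lrfl
theorem f73638 : Led Lsl_bt (LP (LK LD1_c1 LD2_c22 LD3_c4)) = (LP (LK LD1_c2 LD2_c52 LD3_c7)) :=
  Lre_b IH (LK LD1_c1 LD2_c22 LD3_c4) (LK LD1_c2 LD2_c52 LD3_c7) Lrfl Lrfl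
theorem f73842 : Led Lsl_gt (LP (LK LD1_c2 LD2_c52 LD3_c7)) = (LP (LK LD1_c5 LD2_c51 LD3_c45)) :=
  Lre_g IH (LK LD1_c2 LD2_c52 LD3_c7) (LK LD1_c5 LD2_c51 LD3_c45) Lrfl Lrfl
theorem f79837 : Led Lsl_bt (LP (LK LD1_c11 LD2_c30 LD3_c44)) = (LP (LK LD1_c5 LD2_c51 LD3_c45)) :=
  Lre_b IH (LK LD1_c11 LD2_c30 LD3_c44) (LK LD1_c5 LD2_c51 LD3_c45) Lrfl Lrfl
theorem f414679 : Led Lsl_ct (LP (LK LD1_c11 LD2_c30 LD3_c44)) = (LP (LK LD1_c17 LD2_c11 LD3_c13)) :=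
  Lgr Lrot64 (Lpr_bt (f79837 IH) (Lpe (f73842 IH) (Lpe (f73638 IH) (Lpe (K2.f73642 IH) (Lpe (K9.f66968 IH) (Lpr_cf (K17.f414630 IH) (Lpe (K17.f59971 IH) (Lpe (f414677 IH) (Lpr_ct (f414678 IH) (Lpe (f75290 IH) (Lpn (LP (LK LD1_c17 LD2_c11 LD3_c13)))))))))))))
theorem f706069 : Led Lsl_gt (LP (LK LD1_c11 LD2_c28 LD3_c30)) = (LP (LK LD1_c11 LD2_c30 LD3_c44)) :=
  Lgr Lrot82 (Lpr_bf (K32.f496321 IH) (Lpe (K32.f138854 IH) (Lpr_gf (f706068 IH) (Lpe (f646807 IH) (Lpr_bt (f414674 IH) (Lpe (K17.f59971 IH) (Lpe (f414677 IH) (Lpr_ct (f414678 IH) (Lpe (f75290 IH) (Lpe (f414679 IH) (Lpn (LP (LK LD1_c11 LD2_c30 LD3_c44)))))))))))))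
theorem f73822 : Led Lsl_et (LP (LK LD1_c1 LD2_c22 LD3_c3)) = (LP (LK LD1_c2 LD2_c52 LD3_c7)) :=
  Lre_e IH (LK LD1_c1 LD2_c22 LD3_c3) (LK LD1_c2 LD2_c52 LD3_c7) Lrfl Lrfl
theorem f73843 : Led Lsl_et (LP (LK LD1_c11 LD2_c30 LD3_c46)) = (LP (LK LD1_c5 LD2_c51 LD3_c45)) :=
  Lre_e IH (LK LD1_c11 LD2_c30 LD3_c46) (LK LD1_c5 LD2_c51 LD3_c45) Lrfl Lrfl
theorem f40330 : Led Lsl_et (LP (LK LD1_c3 LD2_c59 LD3_c40)) = (LP (LK LD1_c1 LD2_c56 LD3_c30)) :=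
  Lre_e IH (LK LD1_c3 LD2_c59 LD3_c40) (LK LD1_c1 LD2_c56 LD3_c30) Lrfl Lrfl
theorem f40671 : Led Lsl_dt (LP (LK LD1_c3 LD2_c59 LD3_c40)) = (LP (LK LD1_c7 LD2_c59 LD3_c32)) :=
  Lre_d IH (LK LD1_c3 LD2_c59 LD3_c40) (LK LD1_c7 LD2_c59 LD3_c32) Lrfl Lrfl
theorem f149244 : Led Lsl_dt (LP (LK LD1_c11 LD2_c30 LD3_c46)) = (LP (LK LD1_c15 LD2_c4 LD3_c11)) :=
  Lgr Lrot136 (Lpr_et (f73843 IH) (Lpe (f73842 IH) (Lpe (f73822 IH) (Lpe (K2.f73819 IH) (Lpe (K8.f60853 IH) (Lpr_df (K8.f149215 IH) (Lpe (K8.f40335 IH) (Lpe (f40330 IH) (Lpr_dt (f40671 IH) (Lpe (K45.f40282 IH) (Lpn (LP (LK LD1_c15 LD2_c4 LD3_c11)))))))))))))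
theorem f149248 : Led Lsl_df (LP (LK LD1_c11 LD2_c30 LD3_c46)) = (LP (LK LD1_c15 LD2_c4 LD3_c11)) :=
  Lgr Lrot38 (Lpr_dt (f149244 IH) (Lpn (LP (LK LD1_c15 LD2_c4 LD3_c11))))
theorem f140492 : Led Lsl_dt (LP (LK LD1_c20 LD2_c16 LD3_c46)) = (LP (LK LD1_c11 LD2_c19 LD3_c44)) :=
  Lre_d IH (LK LD1_c20 LD2_c16 LD3_c46) (LK LD1_c11 LD2_c19 LD3_c44) Lrfl Lrfl
theorem f149258 : Led Lsl_bt (LP (LK LD1_c11 LD2_c30 LD3_c46)) = (LP (LK LD1_c20 LD2_c16 LD3_c46)) :=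
  Lgr Lrot95 (Lpr_df (f149248 IH) (Lpe (K45.f140484 IH) (Lpe (f140492 IH) (Lpn (LP (LK LD1_c20 LD2_c16 LD3_c46))))))
theorem f149250 : Led Lsl_et (LP (LK LD1_c5 LD2_c51 LD3_c45)) = (LP (LK LD1_c11 LD2_c30 LD3_c46)) :=
  Lre_e IH (LK LD1_c5 LD2_c51 LD3_c45) (LK LD1_c11 LD2_c30 LD3_c46) Lrfl Lrfl
theorem f149263 : Led Lsl_ef (LP (LK LD1_c11 LD2_c30 LD3_c44)) = (LP (LK LD1_c20 LD2_c16 LD3_c46)) :=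
  Lgr Lrot29 (Lpr_bt (f79837 IH) (Lpr_et (f149250 IH) (Lpr_bt (f149258 IH) (Lpn (LP (LK LD1_c20 LD2_c16 LD3_c46))))))
theorem f706073 : Led Lsl_gf (LP (LK LD1_c16 LD2_c49 LD3_c39)) = (LP (LK LD1_c11 LD2_c19 LD3_c44)) :=
  Lgr Lrot145 (Lpe (K50.f555976 IH) (Lpr_et (K51.f58870 IH) (Lpe (K28.f150444 IH) (Lpe (K6.f75071 IH) (Lpe (K32.f496293 IH) (Lpe (K32.f496303 IH) (Lpr_et (K32.f496304 IH) (Lpr_gt (f706069 IH) (Lpr_ef (f149263 IH) (Lpr_dt (f140492 IH) (Lpn (LP (LK LD1_c11 LD2_c19 LD3_c44)))))))))))))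
theorem f140490 : Led Lsl_ct (LP (LK LD1_c5 LD2_c44 LD3_c48)) = (LP (LK LD1_c11 LD2_c19 LD3_c44)) :=
  Lre_c IH (LK LD1_c5 LD2_c44 LD3_c48) (LK LD1_c11 LD2_c19 LD3_c44) Lrfl Lrfl
theorem f383432 : Led Lsl_dt (LP (LK LD1_c2 LD2_c48 LD3_c13)) = (LP (LK LD1_c5 LD2_c44 LD3_c49)) :=
  Lre_d IH (LK LD1_c2 LD2_c48 LD3_c13) (LK LD1_c5 LD2_c44 LD3_c49) Lrfl Lrfl
theorem f641673 : Led Lsl_gt (LP (LK LD1_c5 LD2_c44 LD3_c49)) = (LP (LK LD1_c11 LD2_c19 LD3_c47)) :=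
  Lre_g IH (LK LD1_c5 LD2_c44 LD3_c49) (LK LD1_c11 LD2_c19 LD3_c47) Lrfl Lrfl
theorem f706075 : Led Lsl_gt (LP (LK LD1_c9 LD2_c5 LD3_c28)) = (LP (LK LD1_c6 LD2_c0 LD3_c53)) :=
  Lgr Lrot49 (Lpr_df (K50.f555980 IH) (Lpr_gf (f706073 IH) (Lpe (f140490 IH) (Lpr_gt (K45.f140482 IH) (Lpr_dt (f383432 IH) (Lpr_gt (f641673 IH) (Lpr_dt (K41.f641667 IH) (Lpe (K41.f641665 IH) (Lpe (K41.f641653 IH) (Lpn (LP (LK LD1_c6 LD2_c0 LD3_c53))))))))))))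
theorem f641482 : Led Lsl_ct (LP (LK LD1_c5 LD2_c59 LD3_c26)) = (LP (LK LD1_c2 LD2_c56 LD3_c7)) :=
  Lre_c IH (LK LD1_c5 LD2_c59 LD3_c26) (LK LD1_c2 LD2_c56 LD3_c7) Lrfl Lrfl
theorem f383347 : Led Lsl_dt (LP (LK LD1_c5 LD2_c44 LD3_c9)) = (LP (LK LD1_c2 LD2_c56 LD3_c7)) :=
  Lre_d IH (LK LD1_c5 LD2_c44 LD3_c9) (LK LD1_c2 LD2_c56 LD3_c7) Lrfl Lrfl
theorem f645072 : Led Lsl_ct (LP (LK LD1_c11 LD2_c18 LD3_c18)) = (LP (LK LD1_c5 LD2_c44 LD3_c9)) :=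
  Lre_c IH (LK LD1_c11 LD2_c18 LD3_c18) (LK LD1_c5 LD2_c44 LD3_c9) Lrfl Lrfl
theorem f706079 : Led Lsl_gt (LP (LK LD1_c16 LD2_c49 LD3_c39)) = (LP (LK LD1_c11 LD2_c19 LD3_c40)) :=
  Lgr Lrot9 (Lpe (K50.f555976 IH) (Lpr_gt (f706075 IH) (Lpr_ct (K41.f414691 IH) (Lpr_gt (f75296 IH) (Lpr_ct (f641482 IH) (Lpe (f383347 IH) (Lpe (f645072 IH) (Lpe (f564048 IH) (Lpe (f416014 IH) (Lpn (LP (LK LD1_c11 LD2_c19 LD3_c40))))))))))))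
theorem f382441 : Led Lsl_et (LP (LK LD1_c9 LD2_c0 LD3_c13)) = (LP (LK LD1_c16 LD2_c49 LD3_c39)) :=
  Lre_e IH (LK LD1_c9 LD2_c0 LD3_c13) (LK LD1_c16 LD2_c49 LD3_c39) Lrfl Lrfl
theorem f381239 : Led Lsl_dt (LP (LK LD1_c4 LD2_c57 LD3_c20)) = (LP (LK LD1_c2 LD2_c26 LD3_c34)) :=
  Lre_d IH (LK LD1_c4 LD2_c57 LD3_c20) (LK LD1_c2 LD2_c26 LD3_c34) Lrfl Lrfl
theorem f76107 : Led Lsl_gt (LP (LK LD1_c11 LD2_c24 LD3_c15)) = (LP (LK LD1_c5 LD2_c47 LD3_c1)) :=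
  Lre_g IH (LK LD1_c11 LD2_c24 LD3_c15) (LK LD1_c5 LD2_c47 LD3_c1) Lrfl Lrfl
theorem f706091 : Led Lsl_et (LP (LK LD1_c20 LD2_c16 LD3_c38)) = (LP (LK LD1_c11 LD2_c19 LD3_c40)) :=
  Lre_e IH (LK LD1_c20 LD2_c16 LD3_c38) (LK LD1_c11 LD2_c19 LD3_c40) Lrfl Lrfl
theorem f706092 : Led Lsl_df (LP (LK LD1_c11 LD2_c24 LD3_c15)) = (LP (LK LD1_c20 LD2_c16 LD3_c38)) :=
  Lgr Lrot170 (Lpr_gt (f76107 IH) (Lpe (K2.f73973 IH) (Lpr_et (K2.f73132 IH) (Lpr_gt (K35.f541663 IH) (Lpr_dt (f381239 IH) (Lpr_gt (K39.f552496 IH) (Lpr_df (K39.f495868 IH) (Lpr_et (f382441 IH) (Lpr_gt (f706079 IH) (Lpe (f706091 IH) (Lpn (LP (LK LD1_c20 LD2_c16 LD3_c38)))))))))))))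
theorem f623186 : Led Lsl_et (LP (LK LD1_c6 LD2_c26 LD3_c57)) = (LP (LK LD1_c12 LD2_c25 LD3_c40)) :=
  Lre_e IH (LK LD1_c6 LD2_c26 LD3_c57) (LK LD1_c12 LD2_c25 LD3_c40) Lrfl Lrfl
theorem f568289 : Led Lsl_et (LP (LK LD1_c5 LD2_c49 LD3_c5)) = (LP (LK LD1_c11 LD2_c27 LD3_c30)) :=
  Lre_e IH (LK LD1_c5 LD2_c49 LD3_c5) (LK LD1_c11 LD2_c27 LD3_c30) Lrfl Lrfl
theorem f698965 : Led Lsl_gf (LP (LK LD1_c12 LD2_c25 LD3_c40)) = (LP (LK LD1_c11 LD2_c27 LD3_c30)) :=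
  Lgr Lrot141 (Lpe (f623186 IH) (Lpr_dt (K51.f623182 IH) (Lpr_gt (f648737 IH) (Lpqs (f698948 IH) (Lpe (K8.f75444 IH) (Lpr_et (K8.f75478 IH) (Lpe (K41.f428073 IH) (Lpe (K40.f176668 IH) (Lpe (K46.f582166 IH) (Lpr_df (K40.f558185 IH) (Lpr_et (f568289 IH) (Lpn (LP (LK LD1_c11 LD2_c27 LD3_c30))))))))))))))
theorem f669401 : Led Lsl_dt (LP (LK LD1_c21 LD2_c32 LD3_c43)) = (LP (LK LD1_c12 LD2_c25 LD3_c40)) :=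
  Lre_d IH (LK LD1_c21 LD2_c32 LD3_c43) (LK LD1_c12 LD2_c25 LD3_c40) Lrfl Lrfl
theorem f623448 : Led Lsl_et (LP (LK LD1_c21 LD2_c32 LD3_c43)) = (LP (LK LD1_c12 LD2_c25 LD3_c43)) :=
  Lre_e IH (LK LD1_c21 LD2_c32 LD3_c43) (LK LD1_c12 LD2_c25 LD3_c43) Lrfl Lrfl
theorem f706099 : Led Lsl_gt (LP (LK LD1_c12 LD2_c25 LD3_c43)) = (LP (LK LD1_c20 LD2_c16 LD3_c38)) :=
  Lgr Lrot137 (Lpe (f623448 IH) (Lpr_dt (f669401 IH) (Lpr_gf (f698965 IH) (Lpr_df (K44.f580373 IH) (Lpr_et (K44.f381226 IH) (Lpe (K35.f541663 IH) (Lpe (K2.f73132 IH) (Lpr_dt (K2.f73973 IH) (Lpe (f76107 IH) (Lpr_df (f706092 IH) (Lpn (LP (LK LD1_c20 LD2_c16 LD3_c38)))))))))))))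
theorem f623445 : Led Lsl_dt (LP (LK LD1_c6 LD2_c26 LD3_c58)) = (LP (LK LD1_c12 LD2_c25 LD3_c43)) :=
  Lre_d IH (LK LD1_c6 LD2_c26 LD3_c58) (LK LD1_c12 LD2_c25 LD3_c43) Lrfl Lrfl
theorem f623203 : Led Lsl_et (LP (LK LD1_c6 LD2_c26 LD3_c58)) = (LP (LK LD1_c3 LD2_c11 LD3_c20)) :=
  Lre_e IH (LK LD1_c6 LD2_c26 LD3_c58) (LK LD1_c3 LD2_c11 LD3_c20) Lrfl Lrfl
theorem f69116 : Led Lsl_gt (LP (LK LD1_c6 LD2_c26 LD3_c55)) = (LP (LK LD1_c3 LD2_c11 LD3_c20)) :=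
  Lre_g IH (LK LD1_c6 LD2_c26 LD3_c55) (LK LD1_c3 LD2_c11 LD3_c20) Lrfl Lrfl
theorem f499353 : Led Lsl_af (LP (LK LD1_c2 LD2_c27 LD3_c35)) = (LP (LK LD1_c4 LD2_c59 LD3_c12)) :=
  Lgr Lrot0 (Lpr_at (K51.f499349 IH) (Lpn (LP (LK LD1_c4 LD2_c59 LD3_c12))))
theorem f699009 : Led Lsl_ft (LP (LK LD1_c6 LD2_c26 LD3_c55)) = (LP (LK LD1_c4 LD2_c59 LD3_c12)) :=
  Lgr Lrot2 (Lpr_gt (f69116 IH) (Lpr_gt (f648737 IH) (Lpqs (f698948 IH) (Lpr_af (f499353 IH) (Lpn (LP (LK LD1_c4 LD2_c59 LD3_c12)))))))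
theorem f495278 : Led Lsl_ff (LP (LK LD1_c1 LD2_c10 LD3_c59)) = K32.v1386 :=
  Lgr Lrot3 (Lpr_ft (K32.f495276 IH) (Lpn K32.v1386))
theorem f699013 : Led Lsl_ef (LP (LK LD1_c6 LD2_c26 LD3_c55)) = (LP (LK LD1_c4 LD2_c59 LD3_c38)) :=
  Lgr Lrot21 (Lpr_ft (f699009 IH) (Lpr_et (K48.f104908 IH) (Lpqs (K32.f497169 IH) (Lpe (f495278 IH) (Lpr_et (K42.f76099 IH) (Lpr_ft (K42.f495279 IH) (Lpn (LP (LK LD1_c4 LD2_c59 LD3_c38)))))))))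
theorem f499397 : Led Lsl_dt (LP (LK LD1_c4 LD2_c59 LD3_c38)) = (LP (LK LD1_c9 LD2_c49 LD3_c40)) :=
  Lre_d IH (LK LD1_c4 LD2_c59 LD3_c38) (LK LD1_c9 LD2_c49 LD3_c40) Lrfl Lrfl
theorem f76121 : Led Lsl_dt (LP (LK LD1_c9 LD2_c49 LD3_c27)) = (LP (LK LD1_c17 LD2_c59 LD3_c59)) :=
  Lre_d IH (LK LD1_c9 LD2_c49 LD3_c27) (LK LD1_c17 LD2_c59 LD3_c59) Lrfl Lrfl
theorem f615350 : Led Lsl_dt (LP (LK LD1_c11 LD2_c28 LD3_c47)) = (LP (LK LD1_c5 LD2_c50 LD3_c20)) :=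
  Lre_d IH (LK LD1_c11 LD2_c28 LD3_c47) (LK LD1_c5 LD2_c50 LD3_c20) Lrfl Lrfl
theorem f643792 : Led Lsl_at (LP (LK LD1_c17 LD2_c59 LD3_c59)) = (LP (LK LD1_c11 LD2_c28 LD3_c47)) :=
  Lgr Lrot51 (Lpe (f76121 IH) (Lpr_af (K50.f643788 IH) (Lpe (f615350 IH) (Lpn (LP (LK LD1_c11 LD2_c28 LD3_c47))))))
theorem f615356 : Led Lsl_bt (LP (LK LD1_c11 LD2_c28 LD3_c47)) = (LP (LK LD1_c5 LD2_c50 LD3_c22)) :=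
  Lre_b IH (LK LD1_c11 LD2_c28 LD3_c47) (LK LD1_c5 LD2_c50 LD3_c22) Lrfl Lrfl
theorem f622594 : Led Lsl_bt (LP (LK LD1_c5 LD2_c51 LD3_c57)) = (LP (LK LD1_c11 LD2_c30 LD3_c60)) :=
  Lre_b IH (LK LD1_c5 LD2_c51 LD3_c57) (LK LD1_c11 LD2_c30 LD3_c60) Lrfl Lrfl
theorem f643189 : Led Lsl_ft (LP (LK LD1_c17 LD2_c58 LD3_c12)) = (LP (LK LD1_c9 LD2_c47 LD3_c58)) :=
  Lre_f IH (LK LD1_c17 LD2_c58 LD3_c12) (LK LD1_c9 LD2_c47 LD3_c58) Lrfl Lrfl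
theorem f643190 : Led Lsl_at (LP (LK LD1_c11 LD2_c30 LD3_c60)) = (LP (LK LD1_c17 LD2_c58 LD3_c12)) :=
  Lgr Lrot66 (Lpe (K45.f622577 IH) (Lpr_af (K45.f643184 IH) (Lpe (f643189 IH) (Lpn (LP (LK LD1_c17 LD2_c58 LD3_c12))))))
theorem f643796 : Led Lsl_bf (LP (LK LD1_c17 LD2_c59 LD3_c59)) = (LP (LK LD1_c17 LD2_c58 LD3_c12)) :=
  Lgr Lrot81 (Lpr_at (f643792 IH) (Lpr_bt (f615356 IH) (Lpr_at (K35.f622590 IH) (Lpr_bt (f622594 IH) (Lpr_at (f643190 IH) (Lpn (LP (LK LD1_c17 LD2_c58 LD3_c12))))))))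
theorem f643798 : Led Lsl_bt (LP (LK LD1_c17 LD2_c59 LD3_c59)) = (LP (LK LD1_c17 LD2_c58 LD3_c12)) :=
  Lgr Lrot127 (Lpr_bf (f643796 IH) (Lpn (LP (LK LD1_c17 LD2_c58 LD3_c12))))
theorem f643804 : Led Lsl_dt (LP (LK LD1_c17 LD2_c58 LD3_c12)) = (LP (LK LD1_c11 LD2_c44 LD3_c56)) :=
  Lgr Lrot79 (Lpe (f643798 IH) (Lpe (f76121 IH) (Lpr_bf (K50.f643800 IH) (Lpn (LP (LK LD1_c11 LD2_c44 LD3_c56))))))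
theorem f535798 : Led Lsl_gt (LP (LK LD1_c5 LD2_c51 LD3_c52)) = (LP (LK LD1_c11 LD2_c30 LD3_c58)) :=
  Lre_g IH (LK LD1_c5 LD2_c51 LD3_c52) (LK LD1_c11 LD2_c30 LD3_c58) Lrfl Lrfl
theorem f643202 : Led Lsl_gt (LP (LK LD1_c11 LD2_c30 LD3_c58)) = (LP (LK LD1_c17 LD2_c58 LD3_c12)) :=
  Lgr Lrot46 (Lpe (f535798 IH) (Lpr_ft (K45.f622577 IH) (Lpr_at (f643190 IH) (Lpn (LP (LK LD1_c17 LD2_c58 LD3_c12))))))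
theorem f706095 : Led Lsl_dt (LP (LK LD1_c11 LD2_c24 LD3_c15)) = (LP (LK LD1_c20 LD2_c16 LD3_c38)) :=
  Lgr Lrot42 (Lpr_df (f706092 IH) (Lpn (LP (LK LD1_c20 LD2_c16 LD3_c38))))
theorem f706104 : Led Lsl_ef (LP (LK LD1_c11 LD2_c30 LD3_c58)) = (LP (LK LD1_c11 LD2_c24 LD3_c15)) :=
  Lgr Lrot167 (Lpr_gt (f643202 IH) (Lpr_dt (f643804 IH) (Lpe (K50.f643747 IH) (Lpe (f499397 IH) (Lpe (f699013 IH) (Lpr_gt (f69116 IH) (Lpe (f623203 IH) (Lpr_dt (f623445 IH) (Lpr_gt (f706099 IH) (Lpe (f706095 IH) (Lpn (LP (LK LD1_c11 LD2_c24 LD3_c15)))))))))))))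
theorem f706106 : Led Lsl_et (LP (LK LD1_c11 LD2_c30 LD3_c58)) = (LP (LK LD1_c11 LD2_c24 LD3_c15)) :=
  Lgr Lrot87 (Lpr_ef (f706104 IH) (Lpn (LP (LK LD1_c11 LD2_c24 LD3_c15))))
theorem f506167 : Led Lsl_gt (LP (LK LD1_c6 LD2_c21 LD3_c38)) = (LP (LK LD1_c12 LD2_c17 LD3_c7)) :=
  Lre_g IH (LK LD1_c6 LD2_c21 LD3_c38) (LK LD1_c12 LD2_c17 LD3_c7) Lrfl Lrfl
theorem f706108 : Led Lsl_dt (LP (LK LD1_c11 LD2_c30 LD3_c58)) = (LP (LK LD1_c12 LD2_c17 LD3_c7)) :=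
  Lgr Lrot56 (Lpr_et (f706106 IH) (Lpr_gt (f76107 IH) (Lpe (K2.f72850 IH) (Lpr_dt (K2.f72849 IH) (Lpe (K4.f76101 IH) (Lpr_df (K4.f76077 IH) (Lpr_et (K42.f76099 IH) (Lpe (K42.f615203 IH) (Lpr_dt (K35.f438658 IH) (Lpr_gt (f506167 IH) (Lpn (LP (LK LD1_c12 LD2_c17 LD3_c7)))))))))))))
theorem f706097 : Led Lsl_et (LP (LK LD1_c11 LD2_c19 LD3_c40)) = (LP (LK LD1_c20 LD2_c16 LD3_c38)) :=
  Lre_e IH (LK LD1_c11 LD2_c19 LD3_c40) (LK LD1_c20 LD2_c16 LD3_c38) Lrfl Lrfl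
theorem f642075 : Led Lsl_dt (LP (LK LD1_c20 LD2_c16 LD3_c37)) = (LP (LK LD1_c11 LD2_c19 LD3_c40)) :=
  Lre_d IH (LK LD1_c20 LD2_c16 LD3_c37) (LK LD1_c11 LD2_c19 LD3_c40) Lrfl Lrfl
theorem f706112 : Led Lsl_ef (LP (LK LD1_c20 LD2_c16 LD3_c37)) = (LP (LK LD1_c12 LD2_c17 LD3_c7)) :=
  Lgr Lrot73 (Lpr_dt (f642075 IH) (Lpr_et (f706097 IH) (Lpe (f706092 IH) (Lpe (f706104 IH) (Lpr_dt (f706108 IH) (Lpn (LP (LK LD1_c12 LD2_c17 LD3_c7))))))))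
theorem f706115 : Led Lsl_et (LP (LK LD1_c20 LD2_c16 LD3_c37)) = (LP (LK LD1_c12 LD2_c17 LD3_c7)) :=
  Lgr Lrot87 (Lpr_ef (f706112 IH) (Lpn (LP (LK LD1_c12 LD2_c17 LD3_c7))))
theorem f713057 : Led Lsl_bf (LP (LK LD1_c20 LD2_c27 LD3_c30)) = (LP (LK LD1_c12 LD2_c17 LD3_c7)) :=
  Lgr Lrot96 (Lpr_et (f713055 IH) (Lpr_bt (f706117 IH) (Lpr_et (f706115 IH) (Lpn (LP (LK LD1_c12 LD2_c17 LD3_c7))))))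
theorem f158119 : Led Lsl_af (LP (LK LD1_c9 LD2_c47 LD3_c25)) = (LP (LK LD1_c5 LD2_c51 LD3_c15)) :=
  Lgr Lrot0 (Lpr_at (K8.f158117 IH) (Lpn (LP (LK LD1_c5 LD2_c51 LD3_c15))))
theorem f589207 : Led Lsl_df (LP (LK LD1_c5 LD2_c51 LD3_c15)) = (LP (LK LD1_c11 LD2_c11 LD3_c26)) :=
  Lgr Lrot18 (Lpe (f158119 IH) (Lpr_dt (K51.f148953 IH) (Lpr_at (K51.f589203 IH) (Lpn (LP (LK LD1_c11 LD2_c11 LD3_c26))))))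
theorem f158126 : Led Lsl_dt (LP (LK LD1_c20 LD2_c27 LD3_c5)) = (LP (LK LD1_c11 LD2_c29 LD3_c58)) :=
  Lre_d IH (LK LD1_c20 LD2_c27 LD3_c5) (LK LD1_c11 LD2_c29 LD3_c58) Lrfl Lrfl
theorem f713047 : Led Lsl_et (LP (LK LD1_c20 LD2_c27 LD3_c5)) = (LP (LK LD1_c20 LD2_c16 LD3_c36)) :=
  Lgr Lrot122 (Lpr_dt (f158126 IH) (Lpr_gt (f157212 IH) (Lpr_df (f589207 IH) (Lpr_et (K51.f418628 IH) (Lpe (K39.f423759 IH) (Lpr_dt (K39.f382090 IH) (Lpe (K31.f411660 IH) (Lpe (K39.f172472 IH) (Lpr_et (K51.f172481 IH) (Lpr_gt (f713043 IH) (Lpn (LP (LK LD1_c20 LD2_c16 LD3_c36)))))))))))))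
theorem f158125 : Led Lsl_dt (LP (LK LD1_c11 LD2_c29 LD3_c58)) = (LP (LK LD1_c20 LD2_c27 LD3_c5)) :=
  Lre_d IH (LK LD1_c11 LD2_c29 LD3_c58) (LK LD1_c20 LD2_c27 LD3_c5) Lrfl Lrfl
theorem f713053 : Led Lsl_dt (LP (LK LD1_c20 LD2_c27 LD3_c30)) = (LP (LK LD1_c20 LD2_c27 LD3_c6)) :=
  Lgr Lrot77 (Lpr_ef (f713049 IH) (Lpe (f713046 IH) (Lpe (f713047 IH) (Lpe (f158125 IH) (Lpe (f157213 IH) (Lpn (LP (LK LD1_c20 LD2_c27 LD3_c6))))))))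
theorem f713059 : Led Lsl_bt (LP (LK LD1_c20 LD2_c27 LD3_c6)) = (LP (LK LD1_c11 LD2_c30 LD3_c58)) :=
  Lgr Lrot95 (Lpe (f713053 IH) (Lpr_bf (f713057 IH) (Lpe (f706108 IH) (Lpn (LP (LK LD1_c11 LD2_c30 LD3_c58))))))
theorem f535794 : Led Lsl_bt (LP (LK LD1_c2 LD2_c52 LD3_c12)) = (LP (LK LD1_c5 LD2_c51 LD3_c52)) :=
  Lre_b IH (LK LD1_c2 LD2_c52 LD3_c12) (LK LD1_c5 LD2_c51 LD3_c52) Lrfl Lrfl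
theorem f535795 : Led Lsl_ct (LP (LK LD1_c2 LD2_c52 LD3_c12)) = K35.v2819 :=
  Lgr Lrot59 (Lpr_cf (K35.f535793 IH) (Lpn K35.v2819))
theorem f639381 : Led Lsl_af (LP (LK LD1_c9 LD2_c19 LD3_c4)) = (LP (LK LD1_c6 LD2_c23 LD3_c6)) :=
  Lgr Lrot117 (Lpr_dt (K24.f152210 IH) (Lpr_at (K48.f639377 IH) (Lpr_dt (K17.f155836 IH) (Lpn (LP (LK LD1_c6 LD2_c23 LD3_c6))))))
theorem f640060 : Led Lsl_at (LP (LK LD1_c9 LD2_c19 LD3_c4)) = (LP (LK LD1_c6 LD2_c23 LD3_c6)) :=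
  Lgr Lrot100 (Lpr_af (f639381 IH) (Lpn (LP (LK LD1_c6 LD2_c23 LD3_c6))))
theorem f140131 : Led Lsl_et (LP (LK LD1_c3 LD2_c9 LD3_c19)) = (LP (LK LD1_c6 LD2_c23 LD3_c24)) :=
  Lre_e IH (LK LD1_c3 LD2_c9 LD3_c19) (LK LD1_c6 LD2_c23 LD3_c24) Lrfl Lrfl
theorem f639289 : Led Lsl_af (LP (LK LD1_c6 LD2_c21 LD3_c18)) = (LP (LK LD1_c6 LD2_c23 LD3_c24)) :=
  Lgr Lrot50 (Lpr_et (K35.f77739 IH) (Lpr_at (K48.f639283 IH) (Lpr_et (f140131 IH) (Lpn (LP (LK LD1_c6 LD2_c23 LD3_c24))))))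
theorem f640062 : Led Lsl_ff (LP (LK LD1_c6 LD2_c23 LD3_c24)) = (LP (LK LD1_c6 LD2_c23 LD3_c6)) :=
  Lgr Lrot30 (Lpe (f639289 IH) (Lpe (K48.f639369 IH) (Lpr_at (f640060 IH) (Lpn (LP (LK LD1_c6 LD2_c23 LD3_c6))))))
theorem f640066 : Led Lsl_ft (LP (LK LD1_c6 LD2_c23 LD3_c24)) = (LP (LK LD1_c6 LD2_c23 LD3_c6)) :=
  Lgr Lrot48 (Lpr_ff (f640062 IH) (Lpn (LP (LK LD1_c6 LD2_c23 LD3_c6))))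
theorem f83923 : Led Lsl_et (LP (LK LD1_c6 LD2_c23 LD3_c24)) = (LP (LK LD1_c3 LD2_c9 LD3_c19)) :=
  Lre_e IH (LK LD1_c6 LD2_c23 LD3_c24) (LK LD1_c3 LD2_c9 LD3_c19) Lrfl Lrfl
theorem f152258 : Led Lsl_gt (LP (LK LD1_c4 LD2_c42 LD3_c23)) = (LP (LK LD1_c2 LD2_c18 LD3_c33)) :=
  Lre_g IH (LK LD1_c4 LD2_c42 LD3_c23) (LK LD1_c2 LD2_c18 LD3_c33) Lrfl Lrfl
theorem f153973 : Led Lsl_dt (LP (LK LD1_c6 LD2_c23 LD3_c24)) = (LP (LK LD1_c4 LD2_c42 LD3_c23)) :=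
  Lgr Lrot136 (Lpr_et (f83923 IH) (Lpe (K24.f83711 IH) (Lpe (K6.f83198 IH) (Lpe (K2.f83196 IH) (Lpe (K46.f152679 IH) (Lpe (K7.f25908 IH) (Lpr_gf (K7.f153968 IH) (Lpe (K24.f152188 IH) (Lpe (K24.f152190 IH) (Lpe (f152258 IH) (Lpn (LP (LK LD1_c4 LD2_c42 LD3_c23)))))))))))))
theorem f153975 : Led Lsl_df (LP (LK LD1_c6 LD2_c23 LD3_c24)) = (LP (LK LD1_c4 LD2_c42 LD3_c23)) :=
  Lgr Lrot38 (Lpr_dt (f153973 IH) (Lpn (LP (LK LD1_c4 LD2_c42 LD3_c23))))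
theorem f640070 : Led Lsl_ff (LP (LK LD1_c4 LD2_c42 LD3_c23)) = (LP (LK LD1_c3 LD2_c9 LD3_c11)) :=
  Lgr Lrot19 (Lpe (f153975 IH) (Lpr_ft (f640066 IH) (Lpr_dt (K17.f67177 IH) (Lpn (LP (LK LD1_c3 LD2_c9 LD3_c11))))))
theorem f640076 : Led Lsl_et (LP (LK LD1_c4 LD2_c42 LD3_c23)) = (LP (LK LD1_c3 LD2_c8 LD3_c33)) :=
  Lgr Lrot69 (Lpr_ff (f640070 IH) (Lpe (K17.f155834 IH) (Lpe (K51.f639989 IH) (Lpe (K29.f79718 IH) (Lpe (K51.f640017 IH) (Lpn (LP (LK LD1_c3 LD2_c8 LD3_c33))))))))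
theorem f647922 : Led Lsl_ef (LP (LK LD1_c3 LD2_c13 LD3_c15)) = K50.v5491 :=
  Lgr Lrot73 (Lpr_dt (K24.f454657 IH) (Lpr_et (f140131 IH) (Lpr_dt (f153973 IH) (Lpr_et (f640076 IH) (Lpr_dt (K50.f647919 IH) (Lpn K50.v5491))))))
theorem f698733 : Led Lsl_cf K50.v5491 = K50.v12874 :=
  Lgr Lrot39 (Lpe (f647922 IH) (Lpe (K24.f454831 IH) (Lpr_et (K50.f698731 IH) (Lpn K50.v12874))))
theorem f614608 : Led Lsl_bt (LP (LK LD1_c6 LD2_c2 LD3_c28)) = (LP (LK LD1_c5 LD2_c55 LD3_c15)) :=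
  Lgr Lrot127 (Lpr_bf (K45.f614596 IH) (Lpn (LP (LK LD1_c5 LD2_c55 LD3_c15))))
theorem f715330 : Led Lsl_gf (LP (LK LD1_c11 LD2_c49 LD3_c18)) = (LP (LK LD1_c12 LD2_c2 LD3_c26)) :=
  Lgr Lrot126 (Lpe (K50.f419103 IH) (Lpr_bt (f614608 IH) (Lpr_gt (K50.f698736 IH) (Lpe (f698733 IH) (Lpe (K50.f647924 IH) (Lpe (f535795 IH) (Lpr_bt (f535794 IH) (Lpr_gt (f535798 IH) (Lpe (f713059 IH) (Lpr_ct (f715328 IH) (Lpn (LP (LK LD1_c12 LD2_c2 LD3_c26)))))))))))))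
theorem f715331 : Led Lsl_gt (LP (LK LD1_c12 LD2_c2 LD3_c26)) = (LP (LK LD1_c11 LD2_c49 LD3_c18)) :=
  Leop (Lpr_gf (f715330 IH) (Lpn (LP (LK LD1_c12 LD2_c2 LD3_c26))))
theorem seed_782 : LEOK LG_g (LK LD1_c12 LD2_c2 LD3_c26) :=
  Leoe_g (LK LD1_c12 LD2_c2 LD3_c26) (f715331 IH)
def v6017 : LQ := Led Lsl_ct (LP (LK LD1_c3 LD2_c16 LD3_c23))
theorem f650557 : Led Lsl_ct (LP (LK LD1_c3 LD2_c16 LD3_c23)) = v6017 :=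
  Lrfl
theorem f650558 : Led Lsl_cf (LP (LK LD1_c3 LD2_c16 LD3_c23)) = v6017 :=
  Lgr Lrot11 (Lpr_ct (f650557 IH) (Lpn v6017))
def v6157 : LQ := Led Lsl_at (LP (LK LD1_c3 LD2_c18 LD3_c30))
theorem f651554 : Led Lsl_at (LP (LK LD1_c3 LD2_c18 LD3_c30)) = v6157 :=
  Lrfl
theorem f662856 : (LP (LK LD1_c6 LD2_c30 LD3_c27)) = v6157 :=
  Lefun (Lecon (Lfl_af (K48.f662570 IH)) ((K49.f662838 IH).trans (K48.f651564 IH).symm)) (f651554 IH)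
theorem f128960 : Led Lsl_ft (LP (LK LD1_c3 LD2_c7 LD3_c44)) = (LP (LK LD1_c6 LD2_c20 LD3_c20)) :=
  Lre_f IH (LK LD1_c3 LD2_c7 LD3_c44) (LK LD1_c6 LD2_c20 LD3_c20) Lrfl Lrfl
def v5420 : LQ := Led Lsl_gt (LP (LK LD1_c3 LD2_c7 LD3_c44))
theorem f647542 : Led Lsl_gt (LP (LK LD1_c3 LD2_c7 LD3_c44)) = v5420 :=
  Lrfl
theorem f663077 : v5420 = (LP (LK LD1_c3 LD2_c24 LD3_c12)) :=
  (Llr Lrot65 (Lpe (f647542 IH) (Lpe (K49.f128951 IH) (Lpr_bt (K48.f129282 IH) (Lpr_gf (K48.f527465 IH) (Lpqs (K48.f662733 IH) (Lpe (K35.f23190 IH) (Lpr_ct (K17.f23194 IH) (Lpe (K17.f414253 IH) (Lpr_cf (K17.f413671 IH) (Lpe (K9.f73753 IH) (Lpe (K49.f73755 IH) (Lpr_ct (K49.f140973 IH) (Lpn (LP (LK LD1_c3 LD2_c24 LD3_c12)))))))))))))))).symm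
theorem f141006 : Led Lsl_gt (LP (LK LD1_c3 LD2_c24 LD3_c12)) = (LP (LK LD1_c6 LD2_c51 LD3_c20)) :=
  Lre_g IH (LK LD1_c3 LD2_c24 LD3_c12) (LK LD1_c6 LD2_c51 LD3_c20) Lrfl Lrfl
theorem f663090 : Led Lsl_at (LP (LK LD1_c6 LD2_c20 LD3_c20)) = (LP (LK LD1_c6 LD2_c51 LD3_c20)) :=
  Lgr Lrot26 (Lpe (f128960 IH) (Lpr_gt (f647542 IH) (Lpqs (f663077 IH) (Lpr_gt (f141006 IH) (Lpn (LP (LK LD1_c6 LD2_c51 LD3_c20)))))))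
theorem f651555 : Led Lsl_af (LP (LK LD1_c3 LD2_c18 LD3_c30)) = v6157 :=
  Lgr Lrot0 (Lpr_at (f651554 IH) (Lpn v6157))
theorem f663095 : Led Lsl_cf v6157 = (LP (LK LD1_c6 LD2_c51 LD3_c20)) :=
  Lgr Lrot1 (Lpe (f651555 IH) (Lpqs (K48.f651564 IH) (Lpq (K49.f662838 IH) (Lpe (K49.f662572 IH) (Lpr_at (f663090 IH) (Lpn (LP (LK LD1_c6 LD2_c51 LD3_c20))))))))
theorem f663094 : Led Lsl_bt (LP (LK LD1_c6 LD2_c51 LD3_c20)) = (LP (LK LD1_c13 LD2_c2 LD3_c31)) :=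
  Lre_b IH (LK LD1_c6 LD2_c51 LD3_c20) (LK LD1_c13 LD2_c2 LD3_c31) Lrfl Lrfl
theorem f131459 : Led Lsl_ct (LP (LK LD1_c6 LD2_c20 LD3_c4)) = (LP (LK LD1_c3 LD2_c7 LD3_c38)) :=
  Lre_c IH (LK LD1_c6 LD2_c20 LD3_c4) (LK LD1_c3 LD2_c7 LD3_c38) Lrfl Lrfl
def v13316 : LQ := Led Lsl_gt (LP (LK LD1_c4 LD2_c43 LD3_c6))
theorem f702304 : Led Lsl_gt (LP (LK LD1_c4 LD2_c43 LD3_c6)) = v13316 :=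
  Lrfl
theorem f120148 : Led Lsl_ft (LP (LK LD1_c6 LD2_c20 LD3_c4)) = (LP (LK LD1_c3 LD2_c7 LD3_c36)) :=
  Lre_f IH (LK LD1_c6 LD2_c20 LD3_c4) (LK LD1_c3 LD2_c7 LD3_c36) Lrfl Lrfl
theorem f702314 : Led Lsl_af (LP (LK LD1_c6 LD2_c20 LD3_c4)) = v13319 :=
  Lgr Lrot45 (Lpr_ft (f120148 IH) (Lpe (K4.f120138 IH) (Lpr_ft (f702313 IH) (Lpn v13319))))
theorem f702319 : Led Lsl_gt v13316 = (LP (LK LD1_c6 LD2_c20 LD3_c4)) :=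
  Lgr Lrot46 (Lpe (f702304 IH) (Lpr_ft (f702313 IH) (Lpe (f702314 IH) (Lpn (LP (LK LD1_c6 LD2_c20 LD3_c4))))))
theorem f708492 : v6017 = v13316 :=
  (Llr Lrot152 (Lpe (f650557 IH) (Lpqs (K48.f663071 IH) (Lpe (K48.f662566 IH) (Lpe (K48.f160781 IH) (Lpr_gt (K48.f649694 IH) (Lpq (K48.f663119 IH) (Lpq (K51.f663209 IH) (Lpr_ct (K51.f708479 IH) (Lpe (K51.f439737 IH) (Lpr_ct (K5.f128467 IH) (Lpr_df (K51.f131451 IH) (Lpe (f131459 IH) (Lpe (f702319 IH) (Lpn v13316))))))))))))))).symm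
theorem f120151 : Led Lsl_bf (LP (LK LD1_c4 LD2_c43 LD3_c6)) = (LP (LK LD1_c6 LD2_c10 LD3_c48)) :=
  Lgr Lrot24 (Lpr_bt (K4.f120144 IH) (Lpn (LP (LK LD1_c6 LD2_c10 LD3_c48))))
theorem f111626 : Led Lsl_ct (LP (LK LD1_c6 LD2_c34 LD3_c33)) = (LP (LK LD1_c7 LD2_c0 LD3_c32)) :=
  Lgr Lrot59 (Lpr_cf (f111621 IH) (Lpn (LP (LK LD1_c7 LD2_c0 LD3_c32))))
theorem f111625 : Led Lsl_bt (LP (LK LD1_c6 LD2_c34 LD3_c33)) = (LP (LK LD1_c12 LD2_c35 LD3_c30)) :=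
  Lre_b IH (LK LD1_c6 LD2_c34 LD3_c33) (LK LD1_c12 LD2_c35 LD3_c30) Lrfl Lrfl
theorem f715347 : Led Lsl_gt (LP (LK LD1_c13 LD2_c2 LD3_c31)) = (LP (LK LD1_c12 LD2_c35 LD3_c30)) :=
  Lgr Lrot164 (Lpe (f663094 IH) (Lpe (f663095 IH) (Lpq (f662856 IH) (Lpq (K48.f663068 IH) (Lpe (K48.f650541 IH) (Lpr_cf (f650558 IH) (Lpqs (f708492 IH) (Lpe (f702304 IH) (Lpr_bf (f120151 IH) (Lpe (K3.f87854 IH) (Lpe (f87862 IH) (Lpe (f111626 IH) (Lpr_bt (f111625 IH) (Lpn (LP (LK LD1_c12 LD2_c35 LD3_c30))))))))))))))))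
theorem f715348 : Led Lsl_gt (LP (LK LD1_c13 LD2_c2 LD3_c31)) = (LP (LK LD1_c12 LD2_c35 LD3_c30)) :=
  Leop (Lpe (f715347 IH) (Lpn (LP (LK LD1_c13 LD2_c2 LD3_c31))))
theorem seed_783 : LEOK LG_g (LK LD1_c13 LD2_c2 LD3_c31) :=
  Leoe_g (LK LD1_c13 LD2_c2 LD3_c31) (f715348 IH)
theorem f102042 : Led Lsl_gt (LP (LK LD1_c9 LD2_c16 LD3_c4)) = (LP (LK LD1_c4 LD2_c40 LD3_c19)) :=
  Lre_g IH (LK LD1_c9 LD2_c16 LD3_c4) (LK LD1_c4 LD2_c40 LD3_c19) Lrfl Lrfl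
theorem f128486 : Led Lsl_ct (LP (LK LD1_c3 LD2_c7 LD3_c16)) = (LP (LK LD1_c6 LD2_c19 LD3_c32)) :=
  Lre_c IH (LK LD1_c3 LD2_c7 LD3_c16) (LK LD1_c6 LD2_c19 LD3_c32) Lrfl Lrfl
theorem f131455 : Led Lsl_bt (LP (LK LD1_c3 LD2_c7 LD3_c16)) = (LP (LK LD1_c6 LD2_c19 LD3_c26)) :=
  Lre_b IH (LK LD1_c3 LD2_c7 LD3_c16) (LK LD1_c6 LD2_c19 LD3_c26) Lrfl Lrfl
theorem f103248 : Led Lsl_gt (LP (LK LD1_c9 LD2_c21 LD3_c58)) = (LP (LK LD1_c4 LD2_c44 LD3_c37)) :=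
  Lre_g IH (LK LD1_c9 LD2_c21 LD3_c58) (LK LD1_c4 LD2_c44 LD3_c37) Lrfl Lrfl
theorem f131483 : Led Lsl_gt (LP (LK LD1_c6 LD2_c19 LD3_c26)) = (LP (LK LD1_c9 LD2_c21 LD3_c58)) :=
  Lgr Lrot5 (Lpr_ft (K5.f110486 IH) (Lpr_at (K5.f131476 IH) (Lpe (f103248 IH) (Lpn (LP (LK LD1_c9 LD2_c21 LD3_c58))))))
theorem f708490 : Led Lsl_cf (LP (LK LD1_c9 LD2_c16 LD3_c4)) = (LP (LK LD1_c9 LD2_c21 LD3_c58)) :=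
  Lgr Lrot125 (Lpr_gt (f102042 IH) (Lpe (K9.f98974 IH) (Lpr_bt (K9.f103212 IH) (Lpr_gt (K46.f103213 IH) (Lpe (K51.f61061 IH) (Lpq (K51.f663209 IH) (Lpr_ct (K51.f708479 IH) (Lpe (K51.f439737 IH) (Lpe (f128486 IH) (Lpr_bt (f131455 IH) (Lpr_gt (f131483 IH) (Lpn (LP (LK LD1_c9 LD2_c21 LD3_c58))))))))))))))
theorem f715351 : Led Lsl_bt (LP (LK LD1_c9 LD2_c16 LD3_c4)) = (LP (LK LD1_c17 LD2_c10 LD3_c41)) :=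
  Lre_b IH (LK LD1_c9 LD2_c16 LD3_c4) (LK LD1_c17 LD2_c10 LD3_c41) Lrfl Lrfl
theorem f708489 : Led Lsl_bt K48.v5566 = (LP (LK LD1_c9 LD2_c21 LD3_c58)) :=
  Lgr Lrot92 (Lpr_ct (K48.f663116 IH) (Lpr_gt (K48.f209291 IH) (Lpe (K48.f209284 IH) (Lpr_bt (K24.f207457 IH) (Lpr_gt (K48.f649694 IH) (Lpq (K48.f663119 IH) (Lpq (K51.f663209 IH) (Lpr_ct (K51.f708479 IH) (Lpe (K51.f439737 IH) (Lpe (f128486 IH) (Lpr_bt (f131455 IH) (Lpr_gt (f131483 IH) (Lpn (LP (LK LD1_c9 LD2_c21 LD3_c58)))))))))))))))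
theorem f209292 : Led Lsl_bt (LP (LK LD1_c12 LD2_c31 LD3_c15)) = (LP (LK LD1_c6 LD2_c31 LD3_c29)) :=
  Lre_b IH (LK LD1_c12 LD2_c31 LD3_c15) (LK LD1_c6 LD2_c31 LD3_c29) Lrfl Lrfl
theorem f715352 : Led Lsl_ct (LP (LK LD1_c17 LD2_c10 LD3_c41)) = (LP (LK LD1_c12 LD2_c31 LD3_c15)) :=
  Lgr Lrot83 (Lpe (f715351 IH) (Lpr_cf (f708490 IH) (Lpe (f708489 IH) (Lpr_cf (K51.f663118 IH) (Lpe (f209292 IH) (Lpn (LP (LK LD1_c12 LD2_c31 LD3_c15))))))))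
theorem f715353 : Led Lsl_ct (LP (LK LD1_c17 LD2_c10 LD3_c41)) = (LP (LK LD1_c12 LD2_c31 LD3_c15)) :=
  Leop (Lpe (f715352 IH) (Lpn (LP (LK LD1_c17 LD2_c10 LD3_c41))))
theorem seed_784 : LEOK LG_c (LK LD1_c17 LD2_c10 LD3_c41) :=
  Leoe_c (LK LD1_c17 LD2_c10 LD3_c41) (f715353 IH)
theorem f442858 : Led Lsl_gt (LP (LK LD1_c6 LD2_c47 LD3_c11)) = (LP (LK LD1_c3 LD2_c21 LD3_c45)) :=
  Lre_g IH (LK LD1_c6 LD2_c47 LD3_c11) (LK LD1_c3 LD2_c21 LD3_c45) Lrfl Lrfl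
theorem f414558 : Led Lsl_bt (LP (LK LD1_c1 LD2_c37 LD3_c8)) = (LP (LK LD1_c0 LD2_c44 LD3_c59)) :=
  Lre_b IH (LK LD1_c1 LD2_c37 LD3_c8) (LK LD1_c0 LD2_c44 LD3_c59) Lrfl Lrfl
theorem f442849 : Led Lsl_ct (LP (LK LD1_c1 LD2_c37 LD3_c13)) = (LP (LK LD1_c3 LD2_c20 LD3_c60)) :=
  Lgr Lrot7 (Lpr_df (K24.f414552 IH) (Lpe (K24.f25227 IH) (Lpe (K24.f144055 IH) (Lpe (K32.f25232 IH) (Lpr_cf (K41.f144093 IH) (Lpr_gt (K32.f71341 IH) (Lpr_dt (K32.f23026 IH) (Lpr_gt (K24.f23027 IH) (Lpr_dt (K32.f442817 IH) (Lpn (LP (LK LD1_c3 LD2_c20 LD3_c60))))))))))))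
theorem f506669 : Led Lsl_bt (LP (LK LD1_c6 LD2_c20 LD3_c40)) = (LP (LK LD1_c3 LD2_c7 LD3_c55)) :=
  Lre_b IH (LK LD1_c6 LD2_c20 LD3_c40) (LK LD1_c3 LD2_c7 LD3_c55) Lrfl Lrfl
theorem f715724 : Led Lsl_cf (LP (LK LD1_c6 LD2_c47 LD3_c11)) = (LP (LK LD1_c6 LD2_c20 LD3_c40)) :=
  Lgr Lrot160 (Lpr_gt (f442858 IH) (Lpe (K32.f442857 IH) (Lpr_bt (f414558 IH) (Lpr_gt (K24.f414548 IH) (Lpr_ct (f442849 IH) (Lpe (K48.f509907 IH) (Lpr_cf (K48.f509828 IH) (Lpr_bt (K51.f647929 IH) (Lpq (K51.f707580 IH) (Lpe (K51.f647670 IH) (Lpe (f506669 IH) (Lpn (LP (LK LD1_c6 LD2_c20 LD3_c40))))))))))))))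
theorem f715725 : Led Lsl_ct (LP (LK LD1_c6 LD2_c20 LD3_c40)) = (LP (LK LD1_c6 LD2_c47 LD3_c11)) :=
  Leop (Lpr_cf (f715724 IH) (Lpn (LP (LK LD1_c6 LD2_c20 LD3_c40))))
theorem seed_785 : LEOK LG_c (LK LD1_c6 LD2_c20 LD3_c40) :=
  Leoe_c (LK LD1_c6 LD2_c20 LD3_c40) (f715725 IH)
theorem f647599 : Led Lsl_et (LP (LK LD1_c3 LD2_c7 LD3_c52)) = (LP (LK LD1_c6 LD2_c20 LD3_c40)) :=
  Lre_e IH (LK LD1_c3 LD2_c7 LD3_c52) (LK LD1_c6 LD2_c20 LD3_c40) Lrfl Lrfl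
theorem f444011 : Led Lsl_ct (LP (LK LD1_c6 LD2_c20 LD3_c38)) = (LP (LK LD1_c3 LD2_c7 LD3_c52)) :=
  Lre_c IH (LK LD1_c6 LD2_c20 LD3_c38) (LK LD1_c3 LD2_c7 LD3_c52) Lrfl Lrfl
theorem f715729 : Led Lsl_et (LP (LK LD1_c6 LD2_c47 LD3_c11)) = (LP (LK LD1_c6 LD2_c20 LD3_c38)) :=
  Lgr Lrot158 (Lpr_cf (f715724 IH) (Lpe (f647599 IH) (Lpe (f444011 IH) (Lpn (LP (LK LD1_c6 LD2_c20 LD3_c38))))))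
theorem f25267 : Led Lsl_dt (LP (LK LD1_c2 LD2_c20 LD3_c8)) = (LP (LK LD1_c4 LD2_c44 LD3_c19)) :=
  Lre_d IH (LK LD1_c2 LD2_c20 LD3_c8) (LK LD1_c4 LD2_c44 LD3_c19) Lrfl Lrfl
theorem f25347 : Led Lsl_gt (LP (LK LD1_c9 LD2_c21 LD3_c29)) = (LP (LK LD1_c4 LD2_c44 LD3_c19)) :=
  Lre_g IH (LK LD1_c9 LD2_c21 LD3_c29) (LK LD1_c4 LD2_c44 LD3_c19) Lrfl Lrfl
theorem f715733 : Led Lsl_dt (LP (LK LD1_c6 LD2_c47 LD3_c11)) = (LP (LK LD1_c9 LD2_c21 LD3_c29)) :=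
  Lgr Lrot136 (Lpr_et (f715729 IH) (Lpr_gf (K46.f647576 IH) (Lpe (K51.f135798 IH) (Lpr_dt (K6.f135774 IH) (Lpr_gf (K5.f89778 IH) (Lpr_df (K5.f127073 IH) (Lpe (K5.f25393 IH) (Lpe (K8.f25271 IH) (Lpr_dt (f25267 IH) (Lpe (f25347 IH) (Lpn (LP (LK LD1_c9 LD2_c21 LD3_c29)))))))))))))
theorem f670697 : Led Lsl_df (LP (LK LD1_c6 LD2_c20 LD3_c40)) = K51.v8295 :=
  Lgr Lrot12 (Lpr_bt (f506669 IH) (Lpr_dt (K51.f506668 IH) (Lpr_bt (K51.f670695 IH) (Lpn K51.v8295))))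
theorem f506713 : Led Lsl_at (LP (LK LD1_c3 LD2_c12 LD3_c31)) = (LP (LK LD1_c6 LD2_c29 LD3_c6)) :=
  Lre_a IH (LK LD1_c3 LD2_c12 LD3_c31) (LK LD1_c6 LD2_c29 LD3_c6) Lrfl Lrfl
theorem f632969 : Led Lsl_et (LP (LK LD1_c12 LD2_c28 LD3_c36)) = (LP (LK LD1_c6 LD2_c29 LD3_c7)) :=
  Lre_e IH (LK LD1_c12 LD2_c28 LD3_c36) (LK LD1_c6 LD2_c29 LD3_c7) Lrfl Lrfl
theorem f437819 : Led Lsl_et (LP (LK LD1_c4 LD2_c44 LD3_c17)) = (LP (LK LD1_c9 LD2_c21 LD3_c25)) :=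
  Lre_e IH (LK LD1_c4 LD2_c44 LD3_c17) (LK LD1_c9 LD2_c21 LD3_c25) Lrfl Lrfl
theorem f707935 : Led Lsl_af (LP (LK LD1_c12 LD2_c28 LD3_c36)) = (LP (LK LD1_c9 LD2_c21 LD3_c25)) :=
  Lgr Lrot50 (Lpr_et (f632969 IH) (Lpqs (K51.f707900 IH) (Lpe (K51.f703150 IH) (Lpr_et (f437819 IH) (Lpn (LP (LK LD1_c9 LD2_c21 LD3_c25)))))))
theorem f649117 : Led Lsl_ct (LP (LK LD1_c12 LD2_c28 LD3_c36)) = (LP (LK LD1_c6 LD2_c29 LD3_c9)) :=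
  Lre_c IH (LK LD1_c12 LD2_c28 LD3_c36) (LK LD1_c6 LD2_c29 LD3_c9) Lrfl Lrfl
theorem f649128 : Led Lsl_at (LP (LK LD1_c6 LD2_c29 LD3_c9)) = (LP (LK LD1_c12 LD2_c28 LD3_c34)) :=
  Lre_a IH (LK LD1_c6 LD2_c29 LD3_c9) (LK LD1_c12 LD2_c28 LD3_c34) Lrfl Lrfl
theorem f707939 : Led Lsl_ct (LP (LK LD1_c12 LD2_c28 LD3_c34)) = (LP (LK LD1_c9 LD2_c21 LD3_c25)) :=
  Lgr Lrot111 (Lpe (f649128 IH) (Lpe (f649117 IH) (Lpr_af (f707935 IH) (Lpn (LP (LK LD1_c9 LD2_c21 LD3_c25))))))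
theorem f707996 : Led Lsl_et (LP (LK LD1_c6 LD2_c29 LD3_c6)) = (LP (LK LD1_c12 LD2_c28 LD3_c34)) :=
  Lre_e IH (LK LD1_c6 LD2_c29 LD3_c6) (LK LD1_c12 LD2_c28 LD3_c34) Lrfl Lrfl
theorem f437813 : Led Lsl_et (LP (LK LD1_c9 LD2_c21 LD3_c25)) = (LP (LK LD1_c4 LD2_c44 LD3_c17)) :=
  Lre_e IH (LK LD1_c9 LD2_c21 LD3_c25) (LK LD1_c4 LD2_c44 LD3_c17) Lrfl Lrfl
def v13465 : LQ := Led Lsl_ct (LP (LK LD1_c4 LD2_c44 LD3_c17))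
theorem f703154 : Led Lsl_ct (LP (LK LD1_c4 LD2_c44 LD3_c17)) = v13465 :=
  Lrfl
theorem f707997 : (LP (LK LD1_c6 LD2_c29 LD3_c6)) = v13465 :=
  (Llr Lrot28 (Lpr_et (f707996 IH) (Lpr_ct (f707939 IH) (Lpr_et (f437813 IH) (Lpr_ct (f703154 IH) (Lpn v13465)))))).symm
theorem f703156 : Led Lsl_ct (LP (LK LD1_c17 LD2_c17 LD3_c28)) = (LP (LK LD1_c9 LD2_c21 LD3_c24)) :=
  Lre_c IH (LK LD1_c17 LD2_c17 LD3_c28) (LK LD1_c9 LD2_c21 LD3_c24) Lrfl Lrfl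
theorem f715735 : Led Lsl_ct (LP (LK LD1_c9 LD2_c21 LD3_c29)) = (LP (LK LD1_c17 LD2_c17 LD3_c35)) :=
  Lre_c IH (LK LD1_c9 LD2_c21 LD3_c29) (LK LD1_c17 LD2_c17 LD3_c35) Lrfl Lrfl
theorem f715741 : Led Lsl_df (LP (LK LD1_c17 LD2_c17 LD3_c28)) = (LP (LK LD1_c17 LD2_c17 LD3_c35)) :=
  Lgr Lrot13 (Lpr_ct (f703156 IH) (Lpr_dt (K51.f437820 IH) (Lpr_ct (f703154 IH) (Lpq (f707997 IH) (Lpe (f506713 IH) (Lpr_ff (K51.f649065 IH) (Lpqs (K51.f707822 IH) (Lpe (f670697 IH) (Lpe (f715724 IH) (Lpr_dt (f715733 IH) (Lpr_ct (f715735 IH) (Lpn (LP (LK LD1_c17 LD2_c17 LD3_c35))))))))))))))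
theorem f715742 : Led Lsl_dt (LP (LK LD1_c17 LD2_c17 LD3_c35)) = (LP (LK LD1_c17 LD2_c17 LD3_c28)) :=
  Leop (Lpr_df (f715741 IH) (Lpn (LP (LK LD1_c17 LD2_c17 LD3_c35))))
theorem seed_786 : LEOK LG_d (LK LD1_c17 LD2_c17 LD3_c35) :=
  Leoe_d (LK LD1_c17 LD2_c17 LD3_c35) (f715742 IH)
theorem f61917 : Led Lsl_ct (LP (LK LD1_c3 LD2_c7 LD3_c27)) = (LP (LK LD1_c3 LD2_c19 LD3_c48)) :=
  Lgr Lrot59 (Lpr_cf (K51.f61912 IH) (Lpn (LP (LK LD1_c3 LD2_c19 LD3_c48))))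
def v6272 : LQ := Led Lsl_gt (LP (LK LD1_c3 LD2_c19 LD3_c48))
theorem f652521 : Led Lsl_gt (LP (LK LD1_c3 LD2_c19 LD3_c48)) = v6272 :=
  Lrfl
def v1373 : LQ := Led Lsl_bt (LP (LK LD1_c1 LD2_c8 LD3_c32))
theorem f495192 : Led Lsl_bt (LP (LK LD1_c1 LD2_c8 LD3_c32)) = v1373 :=
  Lrfl
theorem f495193 : Led Lsl_bf (LP (LK LD1_c1 LD2_c8 LD3_c32)) = v1373 :=
  Lgr Lrot24 (Lpr_bt (f495192 IH) (Lpn v1373))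
def v7928 : LQ := Led Lsl_ct v1373
theorem f669010 : Led Lsl_ct v1373 = v7928 :=
  Lrfl
theorem f715910 : v6272 = v7928 :=
  (Llr Lrot65 (Lpe (f652521 IH) (Lpe (f61917 IH) (Lpr_bt (K51.f61915 IH) (Lpr_gf (K51.f504571 IH) (Lpqs (K51.f707752 IH) (Lpe (K51.f501173 IH) (Lpr_ct (K31.f415843 IH) (Lpe (K17.f180314 IH) (Lpe (K32.f140713 IH) (Lpe (K24.f20139 IH) (Lpr_bf (f495193 IH) (Lpr_ct (f669010 IH) (Lpn v7928)))))))))))))).symm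
theorem f416080 : Led Lsl_bt (LP (LK LD1_c1 LD2_c7 LD3_c61)) = (LP (LK LD1_c0 LD2_c31 LD3_c21)) :=
  Lre_b IH (LK LD1_c1 LD2_c7 LD3_c61) (LK LD1_c0 LD2_c31 LD3_c21) Lrfl Lrfl
theorem f99167 : Led Lsl_ct (LP (LK LD1_c1 LD2_c7 LD3_c61)) = (LP (LK LD1_c2 LD2_c21 LD3_c28)) :=
  Lre_c IH (LK LD1_c1 LD2_c7 LD3_c61) (LK LD1_c2 LD2_c21 LD3_c28) Lrfl Lrfl
theorem f110920 : Led Lsl_gt (LP (LK LD1_c4 LD2_c47 LD3_c13)) = (LP (LK LD1_c2 LD2_c21 LD3_c28)) :=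
  Lre_g IH (LK LD1_c4 LD2_c47 LD3_c13) (LK LD1_c2 LD2_c21 LD3_c28) Lrfl Lrfl
def v13695 : LQ := Led Lsl_ct (LP (LK LD1_c4 LD2_c47 LD3_c13))
theorem f704387 : Led Lsl_ct (LP (LK LD1_c4 LD2_c47 LD3_c13)) = v13695 :=
  Lrfl
theorem f704388 : Led Lsl_cf (LP (LK LD1_c4 LD2_c47 LD3_c13)) = v13695 :=
  Lgr Lrot11 (Lpr_ct (f704387 IH) (Lpn v13695))
def v13898 : LQ := Led Lsl_et (LP (LK LD1_c4 LD2_c49 LD3_c43))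
theorem f705770 : Led Lsl_et (LP (LK LD1_c4 LD2_c49 LD3_c43)) = v13898 :=
  Lrfl
theorem f705771 : Led Lsl_ef (LP (LK LD1_c4 LD2_c49 LD3_c43)) = v13898 :=
  Lgr Lrot88 (Lpr_et (f705770 IH) (Lpn v13898))
theorem f715532 : Led Lsl_ff v13898 = K51.v4453 :=
  Lgr Lrot72 (Lpe (f705771 IH) (Lpq (K51.f708439 IH) (Lpe (K51.f652519 IH) (Lpr_et (K4.f103531 IH) (Lpe (K4.f120283 IH) (Lpr_et (K51.f633480 IH) (Lpn K51.v4453)))))))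
theorem f715535 : Led Lsl_ft v13898 = K51.v4453 :=
  Lgr Lrot48 (Lpr_ff (f715532 IH) (Lpn K51.v4453))
theorem f107497 : Led Lsl_at (LP (LK LD1_c1 LD2_c36 LD3_c18)) = (LP (LK LD1_c2 LD2_c21 LD3_c46)) :=
  Lgr Lrot107 (Lpe (K2.f61881 IH) (Lpr_af (K3.f107495 IH) (Lpr_cf (K2.f78103 IH) (Lpn (LP (LK LD1_c2 LD2_c21 LD3_c46))))))
theorem f61928 : Led Lsl_et (LP (LK LD1_c3 LD2_c19 LD3_c48)) = (LP (LK LD1_c1 LD2_c36 LD3_c18)) :=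
  Lre_e IH (LK LD1_c3 LD2_c19 LD3_c48) (LK LD1_c1 LD2_c36 LD3_c18) Lrfl Lrfl
theorem f633481 : Led Lsl_af (LP (LK LD1_c3 LD2_c19 LD3_c48)) = K51.v4453 :=
  Lgr Lrot50 (Lpr_et (f61928 IH) (Lpr_at (f107497 IH) (Lpr_et (K51.f633480 IH) (Lpn K51.v4453))))
theorem f715536 : Led Lsl_af v13898 = K51.v6274 :=
  Lgr Lrot45 (Lpr_ft (f715535 IH) (Lpe (f633481 IH) (Lpr_ft (K51.f652523 IH) (Lpn K51.v6274))))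
theorem f715539 : Led Lsl_gf v13898 = v6272 :=
  Lgr Lrot76 (Lpr_af (f715536 IH) (Lpe (K51.f652523 IH) (Lpr_gt (f652521 IH) (Lpn v6272))))
theorem f633482 : Led Lsl_cf (LP (LK LD1_c4 LD2_c43 LD3_c58)) = K51.v4453 :=
  Lgr Lrot39 (Lpr_et (K2.f23533 IH) (Lpr_ct (K2.f78098 IH) (Lpr_et (K51.f633480 IH) (Lpn K51.v4453))))
theorem f715537 : Led Lsl_cf v13898 = K51.v13433 :=
  Lgr Lrot108 (Lpr_ft (f715535 IH) (Lpe (f633482 IH) (Lpr_ft (K51.f702933 IH) (Lpn K51.v13433))))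
theorem f23536 : Led Lsl_ft (LP (LK LD1_c9 LD2_c21 LD3_c57)) = (LP (LK LD1_c4 LD2_c44 LD3_c35)) :=
  Lre_f IH (LK LD1_c9 LD2_c21 LD3_c57) (LK LD1_c4 LD2_c44 LD3_c35) Lrfl Lrfl
theorem f702935 : Led Lsl_bf (LP (LK LD1_c9 LD2_c21 LD3_c57)) = K51.v13433 :=
  Lgr Lrot61 (Lpr_ft (f23536 IH) (Lpr_bt (K2.f23525 IH) (Lpr_ft (K51.f702933 IH) (Lpn K51.v13433))))
def v13321 : LQ := Led Lsl_gf (LP (LK LD1_c4 LD2_c43 LD3_c7))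
theorem f702328 : Led Lsl_gf (LP (LK LD1_c4 LD2_c43 LD3_c7)) = v13321 :=
  Lrfl
theorem f61924 : Led Lsl_bt (LP (LK LD1_c1 LD2_c29 LD3_c61)) = (LP (LK LD1_c3 LD2_c7 LD3_c27)) :=
  Lre_b IH (LK LD1_c1 LD2_c29 LD3_c61) (LK LD1_c3 LD2_c7 LD3_c27) Lrfl Lrfl
theorem f136076 : Led Lsl_at (LP (LK LD1_c4 LD2_c44 LD3_c35)) = (LP (LK LD1_c4 LD2_c43 LD3_c7)) :=
  Lgr Lrot67 (Lpr_bf (K2.f23522 IH) (Lpe (K3.f107493 IH) (Lpe (f61924 IH) (Lpr_af (K51.f136072 IH) (Lpe (K51.f126962 IH) (Lpn (LP (LK LD1_c4 LD2_c43 LD3_c7))))))))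
theorem f702329 : Led Lsl_gt (LP (LK LD1_c9 LD2_c21 LD3_c57)) = v13321 :=
  Lgr Lrot5 (Lpr_ft (f23536 IH) (Lpr_at (f136076 IH) (Lpr_gf (f702328 IH) (Lpn v13321))))
theorem f715912 : v13695 = v13321 :=
  (Llr Lrot125 (Lpe (f704388 IH) (Lpr_gt (f110920 IH) (Lpe (f99167 IH) (Lpr_bt (f416080 IH) (Lpr_gt (K29.f23819 IH) (Lpr_bf (f495193 IH) (Lpr_ct (f669010 IH) (Lpq (f715910 IH) (Lpe (f715539 IH) (Lpr_cf (f715537 IH) (Lpe (f702935 IH) (Lpr_gt (f702329 IH) (Lpn v13321)))))))))))))).symm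
theorem f99171 : Led Lsl_ct (LP (LK LD1_c2 LD2_c21 LD3_c28)) = (LP (LK LD1_c1 LD2_c7 LD3_c61)) :=
  Lre_c IH (LK LD1_c2 LD2_c21 LD3_c28) (LK LD1_c1 LD2_c7 LD3_c61) Lrfl Lrfl
theorem f99145 : Led Lsl_dt (LP (LK LD1_c1 LD2_c7 LD3_c61)) = (LP (LK LD1_c2 LD2_c21 LD3_c36)) :=
  Lre_d IH (LK LD1_c1 LD2_c7 LD3_c61) (LK LD1_c2 LD2_c21 LD3_c36) Lrfl Lrfl
theorem f495097 : Led Lsl_ct (LP (LK LD1_c4 LD2_c47 LD3_c30)) = (LP (LK LD1_c2 LD2_c21 LD3_c36)) :=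
  Lre_c IH (LK LD1_c4 LD2_c47 LD3_c30) (LK LD1_c2 LD2_c21 LD3_c36) Lrfl Lrfl
theorem f152848 : Led Lsl_gt (LP (LK LD1_c9 LD2_c28 LD3_c1)) = (LP (LK LD1_c4 LD2_c47 LD3_c30)) :=
  Lre_g IH (LK LD1_c9 LD2_c28 LD3_c1) (LK LD1_c4 LD2_c47 LD3_c30) Lrfl Lrfl
theorem f136146 : Led Lsl_dt (LP (LK LD1_c17 LD2_c18 LD3_c10)) = (LP (LK LD1_c9 LD2_c21 LD3_c57)) :=
  Lre_d IH (LK LD1_c17 LD2_c18 LD3_c10) (LK LD1_c9 LD2_c21 LD3_c57) Lrfl Lrfl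
theorem f104207 : Led Lsl_bt (LP (LK LD1_c6 LD2_c19 LD3_c49)) = (LP (LK LD1_c3 LD2_c7 LD3_c30)) :=
  Lre_b IH (LK LD1_c6 LD2_c19 LD3_c49) (LK LD1_c3 LD2_c7 LD3_c30) Lrfl Lrfl
theorem f107489 : Led Lsl_af (LP (LK LD1_c6 LD2_c19 LD3_c49)) = (LP (LK LD1_c9 LD2_c20 LD3_c48)) :=
  Lgr Lrot0 (Lpr_at (K3.f107487 IH) (Lpn (LP (LK LD1_c9 LD2_c20 LD3_c48))))
theorem f126961 : Led Lsl_bt (LP (LK LD1_c3 LD2_c8 LD3_c10)) = (LP (LK LD1_c6 LD2_c20 LD3_c60)) :=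
  Lre_b IH (LK LD1_c3 LD2_c8 LD3_c10) (LK LD1_c6 LD2_c20 LD3_c60) Lrfl Lrfl
theorem f136082 : Led Lsl_af (LP (LK LD1_c9 LD2_c21 LD3_c56)) = (LP (LK LD1_c6 LD2_c20 LD3_c60)) :=
  Lgr Lrot36 (Lpr_bt (K2.f23516 IH) (Lpe (f107489 IH) (Lpr_bt (f104207 IH) (Lpr_at (K51.f136078 IH) (Lpr_bt (f126961 IH) (Lpn (LP (LK LD1_c6 LD2_c20 LD3_c60))))))))
theorem f136086 : Led Lsl_at (LP (LK LD1_c9 LD2_c21 LD3_c56)) = (LP (LK LD1_c6 LD2_c20 LD3_c60)) :=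
  Lgr Lrot100 (Lpr_af (f136082 IH) (Lpn (LP (LK LD1_c6 LD2_c20 LD3_c60))))
theorem f23524 : Led Lsl_ft (LP (LK LD1_c17 LD2_c18 LD3_c10)) = (LP (LK LD1_c9 LD2_c21 LD3_c56)) :=
  Lre_f IH (LK LD1_c17 LD2_c18 LD3_c10) (LK LD1_c9 LD2_c21 LD3_c56) Lrfl Lrfl
theorem f126995 : Led Lsl_gt (LP (LK LD1_c12 LD2_c16 LD3_c4)) = (LP (LK LD1_c6 LD2_c20 LD3_c60)) :=
  Lre_g IH (LK LD1_c12 LD2_c16 LD3_c4) (LK LD1_c6 LD2_c20 LD3_c60) Lrfl Lrfl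
theorem f136144 : Led Lsl_gt (LP (LK LD1_c17 LD2_c18 LD3_c10)) = (LP (LK LD1_c12 LD2_c16 LD3_c4)) :=
  Lgr Lrot5 (Lpr_ft (f23524 IH) (Lpr_at (f136086 IH) (Lpe (f126995 IH) (Lpn (LP (LK LD1_c12 LD2_c16 LD3_c4))))))
theorem f715913 : Led Lsl_cf (LP (LK LD1_c9 LD2_c28 LD3_c1)) = (LP (LK LD1_c12 LD2_c16 LD3_c4)) :=
  Lgr Lrot169 (Lpr_gt (f152848 IH) (Lpr_ct (f495097 IH) (Lpe (f99145 IH) (Lpe (f99171 IH) (Lpe (f110920 IH) (Lpr_cf (f704388 IH) (Lpqs (f715912 IH) (Lpe (f702329 IH) (Lpe (f136146 IH) (Lpr_gt (f136144 IH) (Lpn (LP (LK LD1_c12 LD2_c16 LD3_c4)))))))))))))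
theorem f715914 : Led Lsl_ct (LP (LK LD1_c12 LD2_c16 LD3_c4)) = (LP (LK LD1_c9 LD2_c28 LD3_c1)) :=
  Leop (Lpr_cf (f715913 IH) (Lpn (LP (LK LD1_c12 LD2_c16 LD3_c4))))
theorem seed_787 : LEOK LG_c (LK LD1_c12 LD2_c16 LD3_c4) :=
  Leoe_c (LK LD1_c12 LD2_c16 LD3_c4) (f715914 IH)
def v3205 : LQ := Led Lsl_bt K35.v567
theorem f624608 : Led Lsl_bt K35.v567 = v3205 :=
  Lrfl
theorem f633587 : v3205 = v1373 :=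
  Lefun (Lecon (f624608 IH) (K51.f633576 IH)) (f495192 IH)
theorem f624610 : Led Lsl_ff K51.v569 = v3205 :=
  Lgr Lrot25 (Lpe (K51.f454808 IH) (Lpr_ft (K35.f454801 IH) (Lpr_bt (f624608 IH) (Lpn v3205))))
theorem f624611 : Led Lsl_ft K51.v569 = v3205 :=
  Lgr Lrot48 (Lpr_ff (f624610 IH) (Lpn v3205))
theorem f669013 : Led Lsl_ff K51.v3210 = v7928 :=
  Lgr Lrot23 (Lpe (f624621 IH) (Lpr_ft (f624611 IH) (Lpqs (f633587 IH) (Lpr_ct (f669010 IH) (Lpn v7928)))))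
theorem f636123 : Led Lsl_bt K51.v3210 = v4557 :=
  Lgr Lrot128 (Lpe (K51.f624620 IH) (Lpe (K51.f454807 IH) (Lpr_cf (K32.f140862 IH) (Lpe (f40962 IH) (Lpr_cf (f636115 IH) (Lpn v4557))))))
theorem f669014 : Led Lsl_bt (LP (LK LD1_c8 LD2_c0 LD3_c53)) = v7928 :=
  Lgr Lrot35 (Lpr_ff (f636117 IH) (Lpe (f636123 IH) (Lpr_ff (f669013 IH) (Lpn v7928))))
theorem f415572 : Led Lsl_ct (LP (LK LD1_c2 LD2_c56 LD3_c50)) = (LP (LK LD1_c6 LD2_c1 LD3_c18)) :=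
  Lre_c IH (LK LD1_c2 LD2_c56 LD3_c50) (LK LD1_c6 LD2_c1 LD3_c18) Lrfl Lrfl
theorem f415573 : Led Lsl_gt (LP (LK LD1_c11 LD2_c47 LD3_c10)) = (LP (LK LD1_c6 LD2_c1 LD3_c18)) :=
  Lre_g IH (LK LD1_c11 LD2_c47 LD3_c10) (LK LD1_c6 LD2_c1 LD3_c18) Lrfl Lrfl
theorem f415574 : Led Lsl_cf (LP (LK LD1_c11 LD2_c47 LD3_c10)) = (LP (LK LD1_c8 LD2_c0 LD3_c51)) :=
  Lgr Lrot125 (Lpr_gt (f415573 IH) (Lpe (f415572 IH) (Lpr_bt (f415571 IH) (Lpr_gt (K41.f383330 IH) (Lpe (K32.f140848 IH) (Lpr_ct (K31.f140849 IH) (Lpr_gt (K29.f23819 IH) (Lpr_cf (K24.f415547 IH) (Lpr_bt (f415564 IH) (Lpr_gt (f79907 IH) (Lpn (LP (LK LD1_c8 LD2_c0 LD3_c51)))))))))))))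
theorem f415578 : Led Lsl_ct (LP (LK LD1_c11 LD2_c47 LD3_c10)) = (LP (LK LD1_c8 LD2_c0 LD3_c51)) :=
  Lgr Lrot59 (Lpr_cf (f415574 IH) (Lpn (LP (LK LD1_c8 LD2_c0 LD3_c51))))
theorem f65755 : Led Lsl_ft (LP (LK LD1_c3 LD2_c15 LD3_c38)) = (LP (LK LD1_c6 LD2_c34 LD3_c35)) :=
  Lre_f IH (LK LD1_c3 LD2_c15 LD3_c38) (LK LD1_c6 LD2_c34 LD3_c35) Lrfl Lrfl
theorem f96066 : Led Lsl_et (LP (LK LD1_c6 LD2_c10 LD3_c25)) = (LP (LK LD1_c3 LD2_c1 LD3_c50)) :=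
  Lre_e IH (LK LD1_c6 LD2_c10 LD3_c25) (LK LD1_c3 LD2_c1 LD3_c50) Lrfl Lrfl
theorem f711636 : Led Lsl_ft (LP (LK LD1_c11 LD2_c50 LD3_c5)) = (LP (LK LD1_c6 LD2_c10 LD3_c25)) :=
  Lgr Lrot86 (Lpr_ef (f711629 IH) (Lpe (f65755 IH) (Lpe (K51.f65710 IH) (Lpe (K5.f130678 IH) (Lpe (f96066 IH) (Lpn (LP (LK LD1_c6 LD2_c10 LD3_c25))))))))
theorem f711640 : Led Lsl_cf (LP (LK LD1_c11 LD2_c50 LD3_c5)) = (LP (LK LD1_c7 LD2_c1 LD3_c44)) :=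
  Lgr Lrot108 (Lpr_ft (f711636 IH) (Lpr_ct (f96055 IH) (Lpr_ft (f115744 IH) (Lpn (LP (LK LD1_c7 LD2_c1 LD3_c44))))))
theorem f415568 : Led Lsl_ct (LP (LK LD1_c11 LD2_c50 LD3_c6)) = (LP (LK LD1_c6 LD2_c3 LD3_c11)) :=
  Lre_c IH (LK LD1_c11 LD2_c50 LD3_c6) (LK LD1_c6 LD2_c3 LD3_c11) Lrfl Lrfl
theorem f415569 : Led Lsl_bt (LP (LK LD1_c11 LD2_c50 LD3_c6)) = (LP (LK LD1_c8 LD2_c0 LD3_c51)) :=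
  Lgr Lrot92 (Lpr_ct (f415568 IH) (Lpr_gt (f415567 IH) (Lpe (f415566 IH) (Lpr_bt (f415565 IH) (Lpr_gt (K17.f172564 IH) (Lpr_ct (K31.f140849 IH) (Lpr_gt (K29.f23819 IH) (Lpr_cf (K24.f415547 IH) (Lpr_bt (f415564 IH) (Lpr_gt (f79907 IH) (Lpn (LP (LK LD1_c8 LD2_c0 LD3_c51)))))))))))))
theorem f711649 : Led Lsl_bt (LP (LK LD1_c11 LD2_c47 LD3_c10)) = (LP (LK LD1_c7 LD2_c1 LD3_c44)) :=
  Lgr Lrot128 (Lpr_cf (f415574 IH) (Lpe (f415569 IH) (Lpe (f415576 IH) (Lpe (f415577 IH) (Lpr_cf (f711640 IH) (Lpn (LP (LK LD1_c7 LD2_c1 LD3_c44))))))))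
theorem f65204 : Led Lsl_gt (LP (LK LD1_c3 LD2_c51 LD3_c18)) = (LP (LK LD1_c1 LD2_c52 LD3_c29)) :=
  Lre_g IH (LK LD1_c3 LD2_c51 LD3_c18) (LK LD1_c1 LD2_c52 LD3_c29) Lrfl Lrfl
theorem f115661 : Led Lsl_gf (LP (LK LD1_c3 LD2_c51 LD3_c18)) = (LP (LK LD1_c7 LD2_c1 LD3_c44)) :=
  Lgr Lrot47 (Lpr_gt (f65204 IH) (Lpr_af (K4.f115649 IH) (Lpe (K5.f115658 IH) (Lpn (LP (LK LD1_c7 LD2_c1 LD3_c44))))))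
def v7557 : LQ := Led Lsl_ct (LP (LK LD1_c3 LD2_c51 LD3_c18))
theorem f666723 : Led Lsl_ct (LP (LK LD1_c3 LD2_c51 LD3_c18)) = v7557 :=
  Lrfl
theorem f109802 : Led Lsl_bf (LP (LK LD1_c3 LD2_c19 LD3_c48)) = (LP (LK LD1_c1 LD2_c50 LD3_c6)) :=
  Lgr Lrot90 (Lpe (K51.f61912 IH) (Lpr_bt (K51.f61915 IH) (Lpr_ct (K51.f61916 IH) (Lpe (f104241 IH) (Lpr_ct (f109759 IH) (Lpn (LP (LK LD1_c1 LD2_c50 LD3_c6))))))))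
theorem f66407 : Led Lsl_gt (LP (LK LD1_c6 LD2_c39 LD3_c41)) = (LP (LK LD1_c3 LD2_c17 LD3_c60)) :=
  Lre_g IH (LK LD1_c6 LD2_c39 LD3_c41) (LK LD1_c3 LD2_c17 LD3_c60) Lrfl Lrfl
theorem f715926 : v7557 = (LP (LK LD1_c6 LD2_c39 LD3_c41)) :=
  (Llr Lrot91 (Lpe (f666723 IH) (Lpr_gf (f115661 IH) (Lpe (f711649 IH) (Lpr_ct (f415578 IH) (Lpe (f79907 IH) (Lpe (f77393 IH) (Lpr_bt (f669014 IH) (Lpq (f715910 IH) (Lpe (f652521 IH) (Lpr_bf (f109802 IH) (Lpe (f109739 IH) (Lpe (f66407 IH) (Lpn (LP (LK LD1_c6 LD2_c39 LD3_c41)))))))))))))))).symm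
theorem f666724 : Led Lsl_cf (LP (LK LD1_c3 LD2_c51 LD3_c18)) = v7557 :=
  Lgr Lrot11 (Lpr_ct (f666723 IH) (Lpn v7557))
theorem f715927 : Led Lsl_ct (LP (LK LD1_c6 LD2_c39 LD3_c41)) = (LP (LK LD1_c3 LD2_c51 LD3_c18)) :=
  Leop (Lpr_cf (f666724 IH) (Lpqs (f715926 IH) (Lpn (LP (LK LD1_c6 LD2_c39 LD3_c41)))))
theorem seed_788 : LEOK LG_c (LK LD1_c6 LD2_c39 LD3_c41) :=
  Leoe_c (LK LD1_c6 LD2_c39 LD3_c41) (f715927 IH)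
theorem f542689 : Led Lsl_et (LP (LK LD1_c5 LD2_c55 LD3_c45)) = (LP (LK LD1_c2 LD2_c54 LD3_c14)) :=
  Lre_e IH (LK LD1_c5 LD2_c55 LD3_c45) (LK LD1_c2 LD2_c54 LD3_c14) Lrfl Lrfl
def v12840 : LQ := Led Lsl_dt (LP (LK LD1_c4 LD2_c33 LD3_c12))
theorem f698504 : Led Lsl_dt (LP (LK LD1_c4 LD2_c33 LD3_c12)) = v12840 :=
  Lrfl
theorem f546384 : Led Lsl_et (LP (LK LD1_c2 LD2_c13 LD3_c33)) = (LP (LK LD1_c4 LD2_c33 LD3_c12)) :=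
  Lre_e IH (LK LD1_c2 LD2_c13 LD3_c33) (LK LD1_c4 LD2_c33 LD3_c12) Lrfl Lrfl
theorem f552439 : Led Lsl_dt (LP (LK LD1_c5 LD2_c53 LD3_c19)) = (LP (LK LD1_c9 LD2_c0 LD3_c7)) :=
  Lgr Lrot42 (Lpr_df (K39.f552431 IH) (Lpn (LP (LK LD1_c9 LD2_c0 LD3_c7))))
theorem f698507 : Led Lsl_ef (LP (LK LD1_c5 LD2_c53 LD3_c19)) = v12840 :=
  Lgr Lrot73 (Lpr_dt (f552439 IH) (Lpr_et (K39.f407824 IH) (Lpr_dt (K38.f546380 IH) (Lpr_et (f546384 IH) (Lpr_dt (f698504 IH) (Lpn v12840))))))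
theorem f698506 : Led Lsl_df (LP (LK LD1_c4 LD2_c33 LD3_c12)) = v12840 :=
  Lgr Lrot38 (Lpr_dt (f698504 IH) (Lpn v12840))
theorem f618163 : Led Lsl_gt (LP (LK LD1_c9 LD2_c3 LD3_c46)) = (LP (LK LD1_c4 LD2_c33 LD3_c12)) :=
  Lre_g IH (LK LD1_c9 LD2_c3 LD3_c46) (LK LD1_c4 LD2_c33 LD3_c12) Lrfl Lrfl
theorem f163128 : Led Lsl_dt (LP (LK LD1_c5 LD2_c55 LD3_c45)) = (LP (LK LD1_c2 LD2_c54 LD3_c13)) :=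
  Lre_d IH (LK LD1_c5 LD2_c55 LD3_c45) (LK LD1_c2 LD2_c54 LD3_c13) Lrfl Lrfl
theorem f141004 : Led Lsl_dt (LP (LK LD1_c3 LD2_c20 LD3_c45)) = (LP (LK LD1_c1 LD2_c36 LD3_c42)) :=
  Lre_d IH (LK LD1_c3 LD2_c20 LD3_c45) (LK LD1_c1 LD2_c36 LD3_c42) Lrfl Lrfl
theorem f509376 : Led Lsl_et (LP (LK LD1_c3 LD2_c20 LD3_c45)) = (LP (LK LD1_c6 LD2_c45 LD3_c20)) :=
  Lre_e IH (LK LD1_c3 LD2_c20 LD3_c45) (LK LD1_c6 LD2_c45 LD3_c20) Lrfl Lrfl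
theorem f509377 : Led Lsl_gt (LP (LK LD1_c6 LD2_c45 LD3_c20)) = (LP (LK LD1_c12 LD2_c54 LD3_c57)) :=
  Lre_g IH (LK LD1_c6 LD2_c45 LD3_c20) (LK LD1_c12 LD2_c54 LD3_c57) Lrfl Lrfl
theorem f716006 : Led Lsl_df (LP (LK LD1_c9 LD2_c3 LD3_c46)) = (LP (LK LD1_c12 LD2_c54 LD3_c57)) :=
  Lgr Lrot135 (Lpr_gt (f618163 IH) (Lpr_df (f698506 IH) (Lpe (f698507 IH) (Lpr_gt (K40.f552441 IH) (Lpe (f542689 IH) (Lpr_dt (f163128 IH) (Lpr_gt (K51.f641094 IH) (Lpqs (K51.f707328 IH) (Lpe (f141004 IH) (Lpr_et (f509376 IH) (Lpr_gt (f509377 IH) (Lpn (LP (LK LD1_c12 LD2_c54 LD3_c57))))))))))))))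
theorem f716007 : Led Lsl_dt (LP (LK LD1_c12 LD2_c54 LD3_c57)) = (LP (LK LD1_c9 LD2_c3 LD3_c46)) :=
  Leop (Lpr_df (f716006 IH) (Lpn (LP (LK LD1_c12 LD2_c54 LD3_c57))))
theorem seed_789 : LEOK LG_d (LK LD1_c12 LD2_c54 LD3_c57) :=
  Leoe_d (LK LD1_c12 LD2_c54 LD3_c57) (f716007 IH)
def v13937 : LQ := Led Lsl_dt (LP (LK LD1_c4 LD2_c50 LD3_c9))
theorem f716281 : Led Lsl_dt (LP (LK LD1_c4 LD2_c50 LD3_c9)) = v13937 :=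
  Lrfl
def v6987 : LQ := Led Lsl_ct (LP (LK LD1_c3 LD2_c35 LD3_c23))
theorem f659797 : Led Lsl_ct (LP (LK LD1_c3 LD2_c35 LD3_c23)) = v6987 :=
  Lrfl
theorem f435250 : Led Lsl_gt (LP (LK LD1_c1 LD2_c44 LD3_c32)) = (LP (LK LD1_c3 LD2_c35 LD3_c23)) :=
  Lre_g IH (LK LD1_c1 LD2_c44 LD3_c32) (LK LD1_c3 LD2_c35 LD3_c23) Lrfl Lrfl
theorem f435251 : Led Lsl_et (LP (LK LD1_c2 LD2_c22 LD3_c53)) = (LP (LK LD1_c3 LD2_c35 LD3_c23)) :=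
  Lgr Lrot122 (Lpr_dt (K32.f25587 IH) (Lpr_gt (K32.f135597 IH) (Lpe (K29.f135596 IH) (Lpr_et (K29.f25667 IH) (Lpe (K6.f135486 IH) (Lpr_dt (K6.f20908 IH) (Lpr_gt (K7.f154103 IH) (Lpe (K7.f10356 IH) (Lpr_et (K49.f154141 IH) (Lpr_gt (f435250 IH) (Lpn (LP (LK LD1_c3 LD2_c35 LD3_c23)))))))))))))
theorem f435253 : Led Lsl_ef (LP (LK LD1_c2 LD2_c22 LD3_c53)) = (LP (LK LD1_c3 LD2_c35 LD3_c23)) :=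
  Lgr Lrot88 (Lpr_et (f435251 IH) (Lpn (LP (LK LD1_c3 LD2_c35 LD3_c23))))
theorem f509681 : Led Lsl_ff (LP (LK LD1_c1 LD2_c37 LD3_c17)) = v2208 :=
  Lgr Lrot3 (Lpr_ft (f509678 IH) (Lpn v2208))
theorem f509683 : Led Lsl_dt K35.v568 = v2208 :=
  Lgr Lrot60 (Lpe (K35.f454803 IH) (Lpe (K29.f25517 IH) (Lpr_ff (f509681 IH) (Lpn v2208))))
theorem f633568 : v2208 = (LP (LK LD1_c2 LD2_c22 LD3_c53)) :=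
  Lefun (Lecon (f509683 IH) (K35.f633556 IH)) (K32.f135608 IH)
theorem f83165 : Led Lsl_gt (LP (LK LD1_c1 LD2_c30 LD3_c59)) = (LP (LK LD1_c3 LD2_c9 LD3_c38)) :=
  Lre_g IH (LK LD1_c1 LD2_c30 LD3_c59) (LK LD1_c3 LD2_c9 LD3_c38) Lrfl Lrfl
theorem f152313 : Led Lsl_et (LP (LK LD1_c1 LD2_c37 LD3_c19)) = (LP (LK LD1_c3 LD2_c9 LD3_c38)) :=
  Lgr Lrot122 (Lpr_dt (K46.f25437 IH) (Lpr_gt (K32.f25436 IH) (Lpe (K32.f23243 IH) (Lpr_et (K32.f25435 IH) (Lpe (K2.f25411 IH) (Lpr_dt (K5.f21037 IH) (Lpr_gt (K7.f152305 IH) (Lpe (K11.f25798 IH) (Lpr_et (K49.f83173 IH) (Lpr_gt (f83165 IH) (Lpn (LP (LK LD1_c3 LD2_c9 LD3_c38)))))))))))))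
theorem f633957 : Led Lsl_af (LP (LK LD1_c3 LD2_c35 LD3_c23)) = (LP (LK LD1_c3 LD2_c9 LD3_c38)) :=
  Lgr Lrot50 (Lpe (f435253 IH) (Lpq (f633568 IH) (Lpe (f509679 IH) (Lpr_et (f152313 IH) (Lpn (LP (LK LD1_c3 LD2_c9 LD3_c38)))))))
theorem f433628 : Led Lsl_gt (LP (LK LD1_c3 LD2_c35 LD3_c24)) = (LP (LK LD1_c1 LD2_c44 LD3_c32)) :=
  Lre_g IH (LK LD1_c3 LD2_c35 LD3_c24) (LK LD1_c1 LD2_c44 LD3_c32) Lrfl Lrfl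
theorem f633961 : Led Lsl_ft (LP (LK LD1_c3 LD2_c35 LD3_c24)) = (LP (LK LD1_c3 LD2_c9 LD3_c38)) :=
  Lgr Lrot2 (Lpr_gt (f433628 IH) (Lpr_gt (f435250 IH) (Lpr_af (f633957 IH) (Lpn (LP (LK LD1_c3 LD2_c9 LD3_c38))))))
theorem f633965 : Led Lsl_ff (LP (LK LD1_c3 LD2_c35 LD3_c24)) = (LP (LK LD1_c3 LD2_c9 LD3_c38)) :=
  Lgr Lrot3 (Lpr_ft (f633961 IH) (Lpn (LP (LK LD1_c3 LD2_c9 LD3_c38))))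
theorem f433602 : Led Lsl_ft (LP (LK LD1_c0 LD2_c41 LD3_c61)) = (LP (LK LD1_c0 LD2_c48 LD3_c54)) :=
  Lgr Lrot54 (Lpe (K7.f154178 IH) (Lpr_ff (K49.f433598 IH) (Lpe (K7.f10356 IH) (Lpn (LP (LK LD1_c0 LD2_c48 LD3_c54))))))
theorem f433606 : Led Lsl_ft (LP (LK LD1_c1 LD2_c44 LD3_c32)) = (LP (LK LD1_c3 LD2_c35 LD3_c25)) :=
  Lre_f IH (LK LD1_c1 LD2_c44 LD3_c32) (LK LD1_c3 LD2_c35 LD3_c25) Lrfl Lrfl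
theorem f433607 : Led Lsl_ef (LP (LK LD1_c3 LD2_c9 LD3_c48)) = (LP (LK LD1_c3 LD2_c35 LD3_c25)) :=
  Lgr Lrot21 (Lpr_ft (K11.f154213 IH) (Lpr_et (K11.f154203 IH) (Lpr_ft (f433602 IH) (Lpr_et (K49.f154141 IH) (Lpr_ft (f433606 IH) (Lpn (LP (LK LD1_c3 LD2_c35 LD3_c25))))))))
theorem f433609 : Led Lsl_et (LP (LK LD1_c3 LD2_c9 LD3_c48)) = (LP (LK LD1_c3 LD2_c35 LD3_c25)) :=
  Lgr Lrot87 (Lpr_ef (f433607 IH) (Lpn (LP (LK LD1_c3 LD2_c35 LD3_c25))))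
theorem f436123 : Led Lsl_gt (LP (LK LD1_c3 LD2_c9 LD3_c38)) = (LP (LK LD1_c3 LD2_c35 LD3_c25)) :=
  Lgr Lrot131 (Lpe (f152313 IH) (Lpr_dt (K46.f25437 IH) (Lpe (K46.f25607 IH) (Lpe (K29.f25604 IH) (Lpe (K32.f415758 IH) (Lpe (K32.f436030 IH) (Lpr_dt (K32.f436107 IH) (Lpr_gf (K32.f433553 IH) (Lpe (K11.f154214 IH) (Lpr_et (f433609 IH) (Lpn (LP (LK LD1_c3 LD2_c35 LD3_c25)))))))))))))
theorem f433622 : Led Lsl_af (LP (LK LD1_c1 LD2_c30 LD3_c59)) = (LP (LK LD1_c1 LD2_c44 LD3_c32)) :=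
  Lgr Lrot0 (Lpr_at (K49.f433620 IH) (Lpn (LP (LK LD1_c1 LD2_c44 LD3_c32))))
theorem f83171 : Led Lsl_gt (LP (LK LD1_c3 LD2_c9 LD3_c39)) = (LP (LK LD1_c1 LD2_c30 LD3_c59)) :=
  Lre_g IH (LK LD1_c3 LD2_c9 LD3_c39) (LK LD1_c1 LD2_c30 LD3_c59) Lrfl Lrfl
theorem f433655 : Led Lsl_gf (LP (LK LD1_c3 LD2_c9 LD3_c39)) = (LP (LK LD1_c3 LD2_c35 LD3_c25)) :=
  Lgr Lrot47 (Lpr_gt (f83171 IH) (Lpr_af (f433622 IH) (Lpe (K49.f433612 IH) (Lpn (LP (LK LD1_c3 LD2_c35 LD3_c25))))))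
theorem f633970 : Led Lsl_at (LP (LK LD1_c3 LD2_c35 LD3_c24)) = (LP (LK LD1_c3 LD2_c9 LD3_c39)) :=
  Lgr Lrot26 (Lpr_ff (f633965 IH) (Lpr_gt (f436123 IH) (Lpe (f433655 IH) (Lpn (LP (LK LD1_c3 LD2_c9 LD3_c39))))))
theorem f633959 : Led Lsl_at (LP (LK LD1_c3 LD2_c35 LD3_c23)) = (LP (LK LD1_c3 LD2_c9 LD3_c38)) :=
  Lgr Lrot100 (Lpr_af (f633957 IH) (Lpn (LP (LK LD1_c3 LD2_c9 LD3_c38))))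
theorem f633977 : Led Lsl_ff (LP (LK LD1_c3 LD2_c35 LD3_c23)) = (LP (LK LD1_c3 LD2_c9 LD3_c39)) :=
  Lgr Lrot30 (Lpr_at (f633959 IH) (Lpe (f633965 IH) (Lpr_at (f633970 IH) (Lpn (LP (LK LD1_c3 LD2_c9 LD3_c39))))))
theorem f83175 : Led Lsl_ct (LP (LK LD1_c6 LD2_c24 LD3_c1)) = (LP (LK LD1_c3 LD2_c9 LD3_c39)) :=
  Lre_c IH (LK LD1_c6 LD2_c24 LD3_c1) (LK LD1_c3 LD2_c9 LD3_c39) Lrfl Lrfl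
theorem f659801 : Led Lsl_ff (LP (LK LD1_c6 LD2_c24 LD3_c1)) = v6987 :=
  Lgr Lrot23 (Lpr_ct (f83175 IH) (Lpe (f633977 IH) (Lpr_ct (f659797 IH) (Lpn v6987))))
theorem f634000 : Led Lsl_et (LP (LK LD1_c6 LD2_c24 LD3_c1)) = (LP (LK LD1_c12 LD2_c21 LD3_c18)) :=
  Lre_e IH (LK LD1_c6 LD2_c24 LD3_c1) (LK LD1_c12 LD2_c21 LD3_c18) Lrfl Lrfl
theorem f633981 : Led Lsl_ft (LP (LK LD1_c3 LD2_c35 LD3_c23)) = (LP (LK LD1_c3 LD2_c9 LD3_c39)) :=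
  Lgr Lrot48 (Lpr_ff (f633977 IH) (Lpn (LP (LK LD1_c3 LD2_c9 LD3_c39))))
theorem f633974 : Led Lsl_et (LP (LK LD1_c3 LD2_c9 LD3_c39)) = (LP (LK LD1_c6 LD2_c24 LD3_c2)) :=
  Lre_e IH (LK LD1_c3 LD2_c9 LD3_c39) (LK LD1_c6 LD2_c24 LD3_c2) Lrfl Lrfl
theorem f633983 : Led Lsl_ff (LP (LK LD1_c3 LD2_c22 LD3_c2)) = (LP (LK LD1_c6 LD2_c24 LD3_c2)) :=
  Lgr Lrot72 (Lpr_et (K32.f25518 IH) (Lpr_ft (f509678 IH) (Lpqs (f633568 IH) (Lpr_et (f435251 IH) (Lpr_ft (f633981 IH) (Lpr_et (f633974 IH) (Lpn (LP (LK LD1_c6 LD2_c24 LD3_c2)))))))))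
theorem f633987 : Led Lsl_ct (LP (LK LD1_c12 LD2_c21 LD3_c18)) = (LP (LK LD1_c6 LD2_c24 LD3_c2)) :=
  Lre_c IH (LK LD1_c12 LD2_c21 LD3_c18) (LK LD1_c6 LD2_c24 LD3_c2) Lrfl Lrfl
theorem f633988 : Led Lsl_ft (LP (LK LD1_c6 LD2_c47 LD3_c44)) = (LP (LK LD1_c12 LD2_c21 LD3_c18)) :=
  Lgr Lrot4 (Lpe (K46.f57694 IH) (Lpr_ff (f633983 IH) (Lpe (f633987 IH) (Lpn (LP (LK LD1_c12 LD2_c21 LD3_c18))))))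
theorem f633997 : Led Lsl_ff (LP (LK LD1_c6 LD2_c47 LD3_c44)) = (LP (LK LD1_c12 LD2_c21 LD3_c18)) :=
  Lgr Lrot3 (Lpr_ft (f633988 IH) (Lpn (LP (LK LD1_c12 LD2_c21 LD3_c18))))
theorem f454874 : Led Lsl_et (LP (LK LD1_c6 LD2_c47 LD3_c44)) = (LP (LK LD1_c3 LD2_c22 LD3_c1)) :=
  Lre_e IH (LK LD1_c6 LD2_c47 LD3_c44) (LK LD1_c3 LD2_c22 LD3_c1) Lrfl Lrfl
theorem f633620 : Led Lsl_ff (LP (LK LD1_c3 LD2_c6 LD3_c10)) = (LP (LK LD1_c3 LD2_c3 LD3_c11)) :=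
  Lgr Lrot19 (Lpr_dt (K32.f25513 IH) (Lpr_ft (K35.f509688 IH) (Lpqs (K51.f633615 IH) (Lpr_dt (K32.f446076 IH) (Lpn (LP (LK LD1_c3 LD2_c3 LD3_c11)))))))
theorem f633628 : Led Lsl_ft (LP (LK LD1_c3 LD2_c6 LD3_c10)) = (LP (LK LD1_c3 LD2_c3 LD3_c11)) :=
  Lgr Lrot48 (Lpr_ff (f633620 IH) (Lpn (LP (LK LD1_c3 LD2_c3 LD3_c11))))
theorem f633634 : Led Lsl_ff (LP (LK LD1_c6 LD2_c17 LD3_c55)) = (LP (LK LD1_c6 LD2_c12 LD3_c54)) :=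
  Lgr Lrot23 (Lpr_ct (K32.f25522 IH) (Lpr_ft (f633628 IH) (Lpr_ct (K51.f416061 IH) (Lpn (LP (LK LD1_c6 LD2_c12 LD3_c54))))))
theorem f67513 : Led Lsl_ft (LP (LK LD1_c6 LD2_c27 LD3_c49)) = (LP (LK LD1_c3 LD2_c11 LD3_c45)) :=
  Lre_f IH (LK LD1_c6 LD2_c27 LD3_c49) (LK LD1_c3 LD2_c11 LD3_c45) Lrfl Lrfl
theorem f438636 : Led Lsl_gf (LP (LK LD1_c6 LD2_c12 LD3_c57)) = (LP (LK LD1_c6 LD2_c27 LD3_c49)) :=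
  Lgr Lrot47 (Lpr_gt (K32.f438619 IH) (Lpr_af (K2.f67496 IH) (Lpe (f67513 IH) (Lpn (LP (LK LD1_c6 LD2_c27 LD3_c49))))))
theorem f633639 : Led Lsl_at (LP (LK LD1_c6 LD2_c17 LD3_c55)) = (LP (LK LD1_c6 LD2_c12 LD3_c57)) :=
  Lgr Lrot26 (Lpr_ff (f633634 IH) (Lpr_gt (K51.f416062 IH) (Lpe (f438636 IH) (Lpn (LP (LK LD1_c6 LD2_c12 LD3_c57))))))
theorem f68264 : Led Lsl_et (LP (LK LD1_c12 LD2_c12 LD3_c6)) = (LP (LK LD1_c6 LD2_c17 LD3_c55)) :=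
  Lre_e IH (LK LD1_c12 LD2_c12 LD3_c6) (LK LD1_c6 LD2_c17 LD3_c55) Lrfl Lrfl
theorem f633644 : Led Lsl_et (LP (LK LD1_c6 LD2_c12 LD3_c57)) = (LP (LK LD1_c12 LD2_c4 LD3_c52)) :=
  Lre_e IH (LK LD1_c6 LD2_c12 LD3_c57) (LK LD1_c12 LD2_c4 LD3_c52) Lrfl Lrfl
theorem f633645 : Led Lsl_af (LP (LK LD1_c12 LD2_c12 LD3_c6)) = (LP (LK LD1_c12 LD2_c4 LD3_c52)) :=
  Lgr Lrot50 (Lpr_et (f68264 IH) (Lpr_at (f633639 IH) (Lpr_et (f633644 IH) (Lpn (LP (LK LD1_c12 LD2_c4 LD3_c52))))))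
theorem f437568 : Led Lsl_ct (LP (LK LD1_c12 LD2_c12 LD3_c6)) = (LP (LK LD1_c6 LD2_c17 LD3_c56)) :=
  Lre_c IH (LK LD1_c12 LD2_c12 LD3_c6) (LK LD1_c6 LD2_c17 LD3_c56) Lrfl Lrfl
theorem f23832 : Led Lsl_ct (LP (LK LD1_c6 LD2_c12 LD3_c58)) = (LP (LK LD1_c12 LD2_c4 LD3_c52)) :=
  Lre_c IH (LK LD1_c6 LD2_c12 LD3_c58) (LK LD1_c12 LD2_c4 LD3_c52) Lrfl Lrfl
theorem f633649 : Led Lsl_at (LP (LK LD1_c6 LD2_c17 LD3_c56)) = (LP (LK LD1_c6 LD2_c12 LD3_c58)) :=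
  Lgr Lrot107 (Lpe (f437568 IH) (Lpr_af (f633645 IH) (Lpe (f23832 IH) (Lpn (LP (LK LD1_c6 LD2_c12 LD3_c58))))))
theorem f437563 : Led Lsl_gt (LP (LK LD1_c6 LD2_c12 LD3_c58)) = (LP (LK LD1_c6 LD2_c48 LD3_c42)) :=
  Lgr Lrot137 (Lpe (K29.f23808 IH) (Lpr_dt (K32.f23806 IH) (Lpr_gf (K0.f23799 IH) (Lpe (K32.f23813 IH) (Lpr_et (K32.f23837 IH) (Lpr_gf (K32.f135427 IH) (Lpe (K6.f84345 IH) (Lpe (K6.f146062 IH) (Lpr_gf (K32.f437557 IH) (Lpe (K32.f146124 IH) (Lpn (LP (LK LD1_c6 LD2_c48 LD3_c42)))))))))))))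
theorem f23825 : Led Lsl_df (LP (LK LD1_c6 LD2_c12 LD3_c58)) = (LP (LK LD1_c4 LD2_c50 LD3_c6)) :=
  Lgr Lrot38 (Lpr_dt (K29.f23811 IH) (Lpn (LP (LK LD1_c4 LD2_c50 LD3_c6))))
theorem f435215 : Led Lsl_et (LP (LK LD1_c3 LD2_c22 LD3_c27)) = (LP (LK LD1_c6 LD2_c48 LD3_c43)) :=
  Lre_e IH (LK LD1_c3 LD2_c22 LD3_c27) (LK LD1_c6 LD2_c48 LD3_c43) Lrfl Lrfl
theorem f437565 : Led Lsl_gf (LP (LK LD1_c6 LD2_c17 LD3_c56)) = (LP (LK LD1_c6 LD2_c48 LD3_c43)) :=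
  Lgr Lrot141 (Lpe (K32.f25515 IH) (Lpr_dt (K32.f25513 IH) (Lpe (K32.f135509 IH) (Lpe (K32.f20107 IH) (Lpr_et (K32.f135508 IH) (Lpr_gt (K32.f135506 IH) (Lpe (f23825 IH) (Lpr_gt (f437563 IH) (Lpe (K32.f146119 IH) (Lpr_et (f435215 IH) (Lpn (LP (LK LD1_c6 LD2_c48 LD3_c43)))))))))))))
theorem f437569 : Led Lsl_df (LP (LK LD1_c6 LD2_c17 LD3_c56)) = (LP (LK LD1_c3 LD2_c22 LD3_c2)) :=
  Lgr Lrot132 (Lpr_gf (f437565 IH) (Lpe (K32.f435213 IH) (Lpe (K32.f437561 IH) (Lpr_ef (K32.f143879 IH) (Lpr_dt (K6.f92120 IH) (Lpe (K32.f146019 IH) (Lpe (K32.f24640 IH) (Lpr_et (K46.f24696 IH) (Lpr_gf (K32.f144073 IH) (Lpe (K32.f25518 IH) (Lpn (LP (LK LD1_c3 LD2_c22 LD3_c2)))))))))))))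
theorem f633653 : Led Lsl_af (LP (LK LD1_c3 LD2_c22 LD3_c2)) = (LP (LK LD1_c4 LD2_c50 LD3_c6)) :=
  Lgr Lrot117 (Lpe (f437569 IH) (Lpr_at (f633649 IH) (Lpr_dt (K29.f23811 IH) (Lpn (LP (LK LD1_c4 LD2_c50 LD3_c6))))))
theorem f23827 : Led Lsl_ct (LP (LK LD1_c9 LD2_c32 LD3_c40)) = (LP (LK LD1_c4 LD2_c50 LD3_c6)) :=
  Lre_c IH (LK LD1_c9 LD2_c32 LD3_c40) (LK LD1_c4 LD2_c50 LD3_c6) Lrfl Lrfl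
theorem f633657 : Led Lsl_at (LP (LK LD1_c6 LD2_c47 LD3_c44)) = (LP (LK LD1_c9 LD2_c32 LD3_c40)) :=
  Lgr Lrot107 (Lpe (K46.f57694 IH) (Lpr_af (f633653 IH) (Lpe (f23827 IH) (Lpn (LP (LK LD1_c9 LD2_c32 LD3_c40))))))
theorem f633661 : Led Lsl_et (LP (LK LD1_c3 LD2_c22 LD3_c1)) = (LP (LK LD1_c6 LD2_c47 LD3_c44)) :=
  Lre_e IH (LK LD1_c3 LD2_c22 LD3_c1) (LK LD1_c6 LD2_c47 LD3_c44) Lrfl Lrfl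
theorem f446002 : Led Lsl_et (LP (LK LD1_c9 LD2_c32 LD3_c40)) = (LP (LK LD1_c4 LD2_c50 LD3_c5)) :=
  Lre_e IH (LK LD1_c9 LD2_c32 LD3_c40) (LK LD1_c4 LD2_c50 LD3_c5) Lrfl Lrfl
theorem f633662 : Led Lsl_af (LP (LK LD1_c3 LD2_c22 LD3_c1)) = (LP (LK LD1_c4 LD2_c50 LD3_c5)) :=
  Lgr Lrot50 (Lpr_et (f633661 IH) (Lpr_at (f633657 IH) (Lpr_et (f446002 IH) (Lpn (LP (LK LD1_c4 LD2_c50 LD3_c5))))))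
theorem f505583 : Led Lsl_cf (LP (LK LD1_c6 LD2_c2 LD3_c60)) = (LP (LK LD1_c6 LD2_c47 LD3_c43)) :=
  Lgr Lrot11 (Lpr_ct (K46.f505579 IH) (Lpn (LP (LK LD1_c6 LD2_c47 LD3_c43))))
theorem f503799 : Led Lsl_af (LP (LK LD1_c3 LD2_c2 LD3_c50)) = (LP (LK LD1_c4 LD2_c41 LD3_c6)) :=
  Lgr Lrot45 (Lpe (K32.f503745 IH) (Lpr_at (K32.f503751 IH) (Lpr_ft (K41.f503795 IH) (Lpn (LP (LK LD1_c4 LD2_c41 LD3_c6))))))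
theorem f505116 : Led Lsl_gf (LP (LK LD1_c5 LD2_c52 LD3_c51)) = (LP (LK LD1_c6 LD2_c30 LD3_c24)) :=
  Lgr Lrot47 (Lpr_gt (K32.f505109 IH) (Lpr_af (f503799 IH) (Lpe (K41.f503795 IH) (Lpn (LP (LK LD1_c6 LD2_c30 LD3_c24))))))
theorem f505604 : Led Lsl_gt (LP (LK LD1_c3 LD2_c22 LD3_c3)) = (LP (LK LD1_c6 LD2_c47 LD3_c43)) :=
  Lgr Lrot150 (Lpe (f25444 IH) (Lpe (K46.f25438 IH) (Lpr_df (K32.f144068 IH) (Lpe (K32.f503653 IH) (Lpe (K35.f503791 IH) (Lpe (f505116 IH) (Lpr_ct (K32.f445607 IH) (Lpr_df (K46.f505103 IH) (Lpr_cf (f505583 IH) (Lpn (LP (LK LD1_c6 LD2_c47 LD3_c43))))))))))))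
theorem f633667 : Led Lsl_ft (LP (LK LD1_c3 LD2_c22 LD3_c3)) = (LP (LK LD1_c4 LD2_c50 LD3_c5)) :=
  Lgr Lrot2 (Lpr_gt (f505604 IH) (Lpr_gt (K46.f144080 IH) (Lpr_af (f633662 IH) (Lpn (LP (LK LD1_c4 LD2_c50 LD3_c5))))))
theorem f633671 : Led Lsl_ff (LP (LK LD1_c3 LD2_c22 LD3_c3)) = (LP (LK LD1_c4 LD2_c50 LD3_c5)) :=
  Lgr Lrot3 (Lpr_ft (f633667 IH) (Lpn (LP (LK LD1_c4 LD2_c50 LD3_c5))))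
theorem f415551 : Led Lsl_ct (LP (LK LD1_c2 LD2_c22 LD3_c50)) = (LP (LK LD1_c4 LD2_c50 LD3_c5)) :=
  Lre_c IH (LK LD1_c2 LD2_c22 LD3_c50) (LK LD1_c4 LD2_c50 LD3_c5) Lrfl Lrfl
theorem f445998 : Led Lsl_gt (LP (LK LD1_c4 LD2_c50 LD3_c5)) = (LP (LK LD1_c6 LD2_c21 LD3_c48)) :=
  Lgr Lrot150 (Lpe (f415551 IH) (Lpe (K32.f23834 IH) (Lpr_df (K35.f438691 IH) (Lpr_gt (K32.f23241 IH) (Lpr_ct (K32.f415652 IH) (Lpr_gt (K46.f445994 IH) (Lpr_ct (K46.f445596 IH) (Lpe (K24.f82601 IH) (Lpe (K32.f82605 IH) (Lpn (LP (LK LD1_c6 LD2_c21 LD3_c48))))))))))))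
theorem f82600 : Led Lsl_ct (LP (LK LD1_c3 LD2_c8 LD3_c35)) = (LP (LK LD1_c6 LD2_c21 LD3_c48)) :=
  Lre_c IH (LK LD1_c3 LD2_c8 LD3_c35) (LK LD1_c6 LD2_c21 LD3_c48) Lrfl Lrfl
theorem f135604 : Led Lsl_ct (LP (LK LD1_c4 LD2_c50 LD3_c9)) = (LP (LK LD1_c2 LD2_c22 LD3_c53)) :=
  Lre_c IH (LK LD1_c4 LD2_c50 LD3_c9) (LK LD1_c2 LD2_c22 LD3_c53) Lrfl Lrfl
theorem f444594 : Led Lsl_gt (LP (LK LD1_c6 LD2_c21 LD3_c48)) = (LP (LK LD1_c4 LD2_c50 LD3_c9)) :=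
  Lgr Lrot150 (Lpe (f82600 IH) (Lpr_gf (K24.f82609 IH) (Lpe (K24.f26067 IH) (Lpe (K9.f77363 IH) (Lpr_ct (K9.f77357 IH) (Lpe (K32.f444578 IH) (Lpr_ct (K32.f444581 IH) (Lpe (K32.f25587 IH) (Lpe (f135604 IH) (Lpn (LP (LK LD1_c4 LD2_c50 LD3_c9))))))))))))
theorem f633675 : Led Lsl_at (LP (LK LD1_c3 LD2_c22 LD3_c3)) = (LP (LK LD1_c4 LD2_c50 LD3_c9)) :=
  Lgr Lrot26 (Lpr_ff (f633671 IH) (Lpr_gt (f445998 IH) (Lpr_gt (f444594 IH) (Lpn (LP (LK LD1_c4 LD2_c50 LD3_c9))))))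
theorem f633664 : Led Lsl_at (LP (LK LD1_c3 LD2_c22 LD3_c1)) = (LP (LK LD1_c4 LD2_c50 LD3_c5)) :=
  Lgr Lrot100 (Lpr_af (f633662 IH) (Lpn (LP (LK LD1_c4 LD2_c50 LD3_c5))))
theorem f633680 : Led Lsl_ff (LP (LK LD1_c3 LD2_c22 LD3_c1)) = (LP (LK LD1_c4 LD2_c50 LD3_c9)) :=
  Lgr Lrot30 (Lpr_at (f633664 IH) (Lpe (f633671 IH) (Lpr_at (f633675 IH) (Lpn (LP (LK LD1_c4 LD2_c50 LD3_c9))))))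
theorem f633682 : Led Lsl_ft (LP (LK LD1_c3 LD2_c22 LD3_c1)) = (LP (LK LD1_c4 LD2_c50 LD3_c9)) :=
  Lgr Lrot48 (Lpr_ff (f633680 IH) (Lpn (LP (LK LD1_c4 LD2_c50 LD3_c9))))
theorem f659802 : Led Lsl_et (LP (LK LD1_c4 LD2_c50 LD3_c9)) = v6987 :=
  Lgr Lrot69 (Lpe (f633682 IH) (Lpe (f454874 IH) (Lpr_ff (f633997 IH) (Lpe (f634000 IH) (Lpr_ff (f659801 IH) (Lpn v6987))))))
theorem f716286 : Led Lsl_gf (LP (LK LD1_c6 LD2_c23 LD3_c22)) = v13937 :=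
  Lgr Lrot143 (Lpr_dt (K2.f83216 IH) (Lpe (K24.f83316 IH) (Lpe (K24.f83267 IH) (Lpr_gf (K24.f454827 IH) (Lpr_df (K49.f624635 IH) (Lpe (K49.f624636 IH) (Lpe (K32.f82605 IH) (Lpr_gt (f444594 IH) (Lpr_dt (f716281 IH) (Lpn v13937))))))))))
theorem f83276 : Led Lsl_dt (LP (LK LD1_c3 LD2_c9 LD3_c18)) = (LP (LK LD1_c6 LD2_c23 LD3_c22)) :=
  Lre_d IH (LK LD1_c3 LD2_c9 LD3_c18) (LK LD1_c6 LD2_c23 LD3_c22) Lrfl Lrfl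
theorem f135303 : Led Lsl_et (LP (LK LD1_c1 LD2_c30 LD3_c40)) = (LP (LK LD1_c3 LD2_c9 LD3_c2)) :=
  Lre_e IH (LK LD1_c1 LD2_c30 LD3_c40) (LK LD1_c3 LD2_c9 LD3_c2) Lrfl Lrfl
def v5522 : LQ := Led Lsl_gt (LP (LK LD1_c3 LD2_c9 LD3_c2))
theorem f648072 : Led Lsl_gt (LP (LK LD1_c3 LD2_c9 LD3_c2)) = v5522 :=
  Lrfl
theorem f716288 : v6987 = v5522 :=
  (Llr Lrot122 (Lpe (f659802 IH) (Lpr_dt (f716281 IH) (Lpe (f716286 IH) (Lpe (f83276 IH) (Lpr_et (K2.f83215 IH) (Lpr_gt (K6.f135470 IH) (Lpr_dt (K6.f135448 IH) (Lpe (K6.f135468 IH) (Lpr_df (K6.f135283 IH) (Lpr_et (f135303 IH) (Lpr_gt (f648072 IH) (Lpn v5522))))))))))))).symm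
theorem f659800 : Led Lsl_ef (LP (LK LD1_c4 LD2_c50 LD3_c9)) = v6987 :=
  Lgr Lrot28 (Lpr_ct (f135604 IH) (Lpr_et (f435251 IH) (Lpr_ct (f659797 IH) (Lpn v6987))))
theorem f633677 : Led Lsl_af (LP (LK LD1_c3 LD2_c22 LD3_c3)) = (LP (LK LD1_c4 LD2_c50 LD3_c9)) :=
  Lgr Lrot0 (Lpr_at (f633675 IH) (Lpn (LP (LK LD1_c4 LD2_c50 LD3_c9))))
def v5551 : LQ := Led Lsl_ct (LP (LK LD1_c3 LD2_c9 LD3_c38))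
theorem f648190 : Led Lsl_ct (LP (LK LD1_c3 LD2_c9 LD3_c38)) = v5551 :=
  Lrfl
theorem f648192 : Led Lsl_ef (LP (LK LD1_c3 LD2_c22 LD3_c3)) = v5551 :=
  Lgr Lrot28 (Lpr_ct (f25449 IH) (Lpr_et (f152313 IH) (Lpr_ct (f648190 IH) (Lpn v5551))))
theorem f648193 : Led Lsl_et (LP (LK LD1_c3 LD2_c22 LD3_c3)) = v5551 :=
  Lgr Lrot87 (Lpr_ef (f648192 IH) (Lpn v5551))
theorem f659808 : Led Lsl_at v5551 = v6987 :=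
  Lgr Lrot80 (Lpe (f648193 IH) (Lpr_af (f633677 IH) (Lpr_ef (f659800 IH) (Lpn v6987))))
def v6990 : LQ := Led Lsl_ct (LP (LK LD1_c3 LD2_c35 LD3_c24))
theorem f659821 : Led Lsl_ct (LP (LK LD1_c3 LD2_c35 LD3_c24)) = v6990 :=
  Lrfl
theorem f648191 : Led Lsl_cf (LP (LK LD1_c3 LD2_c9 LD3_c38)) = v5551 :=
  Lgr Lrot11 (Lpr_ct (f648190 IH) (Lpn v5551))
theorem f659824 : Led Lsl_ff v5551 = v6990 :=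
  Lgr Lrot23 (Lpe (f648191 IH) (Lpe (f633965 IH) (Lpr_ct (f659821 IH) (Lpn v6990))))
theorem f135304 : Led Lsl_gt (LP (LK LD1_c6 LD2_c22 LD3_c43)) = (LP (LK LD1_c3 LD2_c9 LD3_c2)) :=
  Lre_g IH (LK LD1_c6 LD2_c22 LD3_c43) (LK LD1_c3 LD2_c9 LD3_c2) Lrfl Lrfl
theorem f716289 : v6990 = (LP (LK LD1_c6 LD2_c22 LD3_c43)) :=
  (Llr Lrot52 (Lpe (f659824 IH) (Lpr_at (f659808 IH) (Lpqs (f716288 IH) (Lpe (f648072 IH) (Lpe (f135304 IH) (Lpn (LP (LK LD1_c6 LD2_c22 LD3_c43))))))))).symm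
theorem f633972 : Led Lsl_af (LP (LK LD1_c3 LD2_c35 LD3_c24)) = (LP (LK LD1_c3 LD2_c9 LD3_c39)) :=
  Lgr Lrot0 (Lpr_at (f633970 IH) (Lpn (LP (LK LD1_c3 LD2_c9 LD3_c39))))
theorem f659822 : Led Lsl_af (LP (LK LD1_c6 LD2_c24 LD3_c1)) = v6990 :=
  Lgr Lrot68 (Lpr_ct (f83175 IH) (Lpe (f633972 IH) (Lpr_ct (f659821 IH) (Lpn v6990))))
theorem f716290 : Led Lsl_at (LP (LK LD1_c6 LD2_c22 LD3_c43)) = (LP (LK LD1_c6 LD2_c24 LD3_c1)) :=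
  Leop (Lpr_af (f659822 IH) (Lpqs (f716289 IH) (Lpn (LP (LK LD1_c6 LD2_c22 LD3_c43)))))
theorem seed_790 : LEOK LG_a (LK LD1_c6 LD2_c22 LD3_c43) :=
  Leoe_a (LK LD1_c6 LD2_c22 LD3_c43) (f716290 IH)
def v13944 : LQ := Led Lsl_ct (LP (LK LD1_c4 LD2_c50 LD3_c21))
theorem f716387 : Led Lsl_ct (LP (LK LD1_c4 LD2_c50 LD3_c21)) = v13944 :=
  Lrfl
theorem f507440 : Led Lsl_ff (LP (LK LD1_c4 LD2_c50 LD3_c21)) = (LP (LK LD1_c3 LD2_c19 LD3_c30)) :=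
  Lgr Lrot72 (Lpr_et (K29.f415333 IH) (Lpr_ft (K49.f507436 IH) (Lpr_et (K24.f68385 IH) (Lpe (K49.f507339 IH) (Lpr_et (K32.f24698 IH) (Lpn (LP (LK LD1_c3 LD2_c19 LD3_c30))))))))
theorem f435653 : Led Lsl_ct (LP (LK LD1_c6 LD2_c23 LD3_c41)) = (LP (LK LD1_c3 LD2_c19 LD3_c30)) :=
  Lgr Lrot15 (Lpr_ef (K50.f435648 IH) (Lpe (K51.f416956 IH) (Lpe (K49.f57700 IH) (Lpn (LP (LK LD1_c3 LD2_c19 LD3_c30))))))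
theorem f716391 : Led Lsl_ff (LP (LK LD1_c6 LD2_c23 LD3_c41)) = v13944 :=
  Lgr Lrot23 (Lpr_ct (f435653 IH) (Lpe (f507440 IH) (Lpr_ct (f716387 IH) (Lpn v13944))))
theorem f704873 : Led Lsl_ef (LP (LK LD1_c4 LD2_c48 LD3_c5)) = K50.v13792 :=
  Lgr Lrot88 (Lpr_et (K50.f704870 IH) (Lpn K50.v13792))
theorem f704884 : Led Lsl_at (LP (LK LD1_c6 LD2_c23 LD3_c41)) = K50.v13792 :=
  Lgr Lrot80 (Lpr_ef (K50.f435648 IH) (Lpr_af (K51.f507337 IH) (Lpr_ef (f704873 IH) (Lpn K50.v13792))))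
def v4298 : LQ := Led Lsl_et (LP (LK LD1_c2 LD2_c18 LD3_c35))
theorem f632500 : Led Lsl_et (LP (LK LD1_c2 LD2_c18 LD3_c35)) = v4298 :=
  Lrfl
theorem f704875 : Led Lsl_gt v4298 = K50.v13792 :=
  Lgr Lrot131 (Lpe (f632500 IH) (Lpr_dt (K7.f82793 IH) (Lpr_gf (K3.f86017 IH) (Lpe (K0.f7467 IH) (Lpe (K3.f86019 IH) (Lpe (K7.f86025 IH) (Lpr_dt (K32.f86026 IH) (Lpr_gf (K50.f702086 IH) (Lpe (K50.f702089 IH) (Lpr_et (K50.f704870 IH) (Lpn K50.v13792)))))))))))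
theorem f716395 : Led Lsl_gf v4298 = v13944 :=
  Lgr Lrot47 (Lpr_gt (f704875 IH) (Lpe (f704884 IH) (Lpr_ff (f716391 IH) (Lpn v13944))))
theorem f632502 : Led Lsl_cf K46.v1311 = v4298 :=
  Lgr Lrot39 (Lpe (K46.f494756 IH) (Lpe (K7.f154069 IH) (Lpr_et (f632500 IH) (Lpn v4298))))
theorem f155815 : Led Lsl_et (LP (LK LD1_c0 LD2_c18 LD3_c43)) = (LP (LK LD1_c0 LD2_c30 LD3_c37)) :=
  Lgr Lrot74 (Lpe (K7.f104640 IH) (Lpr_ef (K50.f155811 IH) (Lpe (K49.f82470 IH) (Lpn (LP (LK LD1_c0 LD2_c30 LD3_c37))))))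
theorem f494755 : Led Lsl_df (LP (LK LD1_c1 LD2_c30 LD3_c53)) = K46.v1311 :=
  Lgr Lrot70 (Lpr_et (K46.f152780 IH) (Lpr_dt (K24.f104657 IH) (Lpr_et (f155815 IH) (Lpr_dt (K7.f104692 IH) (Lpr_et (K46.f494753 IH) (Lpn K46.v1311))))))
theorem f152771 : Led Lsl_gt (LP (LK LD1_c6 LD2_c23 LD3_c45)) = (LP (LK LD1_c3 LD2_c9 LD3_c28)) :=
  Lre_g IH (LK LD1_c6 LD2_c23 LD3_c45) (LK LD1_c3 LD2_c9 LD3_c28) Lrfl Lrfl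
theorem f716397 : Led Lsl_cf (LP (LK LD1_c6 LD2_c23 LD3_c45)) = (LP (LK LD1_c4 LD2_c50 LD3_c26)) :=
  Lgr Lrot169 (Lpr_gt (f152771 IH) (Lpr_ct (K50.f154013 IH) (Lpr_df (f494755 IH) (Lpr_cf (f632502 IH) (Lpr_gf (f716395 IH) (Lpe (f716387 IH) (Lpe (K29.f146183 IH) (Lpe (K35.f146187 IH) (Lpr_gt (K32.f437561 IH) (Lpn (LP (LK LD1_c4 LD2_c50 LD3_c26))))))))))))
theorem f716398 : Led Lsl_ct (LP (LK LD1_c4 LD2_c50 LD3_c26)) = (LP (LK LD1_c6 LD2_c23 LD3_c45)) :=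
  Leop (Lpr_cf (f716397 IH) (Lpn (LP (LK LD1_c4 LD2_c50 LD3_c26))))
theorem seed_791 : LEOK LG_c (LK LD1_c4 LD2_c50 LD3_c26) :=
  Leoe_c (LK LD1_c4 LD2_c50 LD3_c26) (f716398 IH)
def v13956 : LQ := Led Lsl_ct (LP (LK LD1_c4 LD2_c51 LD3_c55))
theorem f716448 : Led Lsl_ct (LP (LK LD1_c4 LD2_c51 LD3_c55)) = v13956 :=
  Lrfl
theorem f716449 : Led Lsl_cf (LP (LK LD1_c4 LD2_c51 LD3_c55)) = v13956 :=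
  Lgr Lrot11 (Lpr_ct (f716448 IH) (Lpn v13956))
theorem f2846 : Led Lsl_bt (LP (LK LD1_c4 LD2_c53 LD3_c41)) = (LP (LK LD1_c2 LD2_c24 LD3_c39)) :=
  Lre_b IH (LK LD1_c4 LD2_c53 LD3_c41) (LK LD1_c2 LD2_c24 LD3_c39) Lrfl Lrfl
theorem f2847 : Led Lsl_ct (LP (LK LD1_c4 LD2_c53 LD3_c41)) = (LP (LK LD1_c9 LD2_c39 LD3_c12)) :=
  Lre_c IH (LK LD1_c4 LD2_c53 LD3_c41) (LK LD1_c9 LD2_c39 LD3_c12) Lrfl Lrfl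
theorem f397778 : Led Lsl_ct (LP (LK LD1_c16 LD2_c17 LD3_c58)) = (LP (LK LD1_c8 LD2_c42 LD3_c6)) :=
  Lre_c IH (LK LD1_c16 LD2_c17 LD3_c58) (LK LD1_c8 LD2_c42 LD3_c6) Lrfl Lrfl
theorem f2857 : Led Lsl_ct (LP (LK LD1_c9 LD2_c39 LD3_c12)) = (LP (LK LD1_c4 LD2_c53 LD3_c41)) :=
  Lre_c IH (LK LD1_c9 LD2_c39 LD3_c12) (LK LD1_c4 LD2_c53 LD3_c41) Lrfl Lrfl
theorem f397764 : Led Lsl_bt (LP (LK LD1_c16 LD2_c17 LD3_c58)) = (LP (LK LD1_c9 LD2_c39 LD3_c12)) :=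
  Lgr Lrot128 (Lpe (K30.f397763 IH) (Lpr_bf (K30.f397756 IH) (Lpe (K38.f2839 IH) (Lpe (f2846 IH) (Lpe (f2857 IH) (Lpn (LP (LK LD1_c9 LD2_c39 LD3_c12))))))))
theorem f39519 : Led Lsl_ct (LP (LK LD1_c8 LD2_c40 LD3_c9)) = (LP (LK LD1_c4 LD2_c22 LD3_c10)) :=
  Lre_c IH (LK LD1_c8 LD2_c40 LD3_c9) (LK LD1_c4 LD2_c22 LD3_c10) Lrfl Lrfl
theorem f39521 : Led Lsl_bt (LP (LK LD1_c8 LD2_c40 LD3_c9)) = (LP (LK LD1_c4 LD2_c21 LD3_c16)) :=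
  Lre_b IH (LK LD1_c8 LD2_c40 LD3_c9) (LK LD1_c4 LD2_c21 LD3_c16) Lrfl Lrfl
theorem f397779 : Led Lsl_gt (LP (LK LD1_c9 LD2_c39 LD3_c12)) = (LP (LK LD1_c8 LD2_c23 LD3_c1)) :=
  Lgr Lrot82 (Lpe (f397764 IH) (Lpr_ct (f397778 IH) (Lpr_gf (K30.f397769 IH) (Lpe (f39519 IH) (Lpr_bt (f39521 IH) (Lpe (K16.f253953 IH) (Lpe (K41.f166998 IH) (Lpr_ct (K41.f53149 IH) (Lpe (K49.f167038 IH) (Lpe (K49.f178362 IH) (Lpn (LP (LK LD1_c8 LD2_c23 LD3_c1)))))))))))))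
theorem f178361 : Led Lsl_ct (LP (LK LD1_c4 LD2_c11 LD3_c43)) = (LP (LK LD1_c8 LD2_c23 LD3_c1)) :=
  Lre_c IH (LK LD1_c4 LD2_c11 LD3_c43) (LK LD1_c8 LD2_c23 LD3_c1) Lrfl Lrfl
theorem f397783 : Led Lsl_bt (LP (LK LD1_c4 LD2_c11 LD3_c43)) = (LP (LK LD1_c8 LD2_c23 LD3_c0)) :=
  Lre_b IH (LK LD1_c4 LD2_c11 LD3_c43) (LK LD1_c8 LD2_c23 LD3_c0) Lrfl Lrfl
theorem f716452 : Led Lsl_gt (LP (LK LD1_c8 LD2_c23 LD3_c0)) = v13956 :=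
  Lgr Lrot82 (Lpe (f397783 IH) (Lpr_ct (f178361 IH) (Lpe (f397779 IH) (Lpe (f2847 IH) (Lpr_bt (f2846 IH) (Lpe (K38.f2833 IH) (Lpe (K38.f2338 IH) (Lpr_ct (K0.f2327 IH) (Lpe (K13.f2347 IH) (Lpr_cf (f716449 IH) (Lpn v13956)))))))))))
theorem f178363 : Led Lsl_ct (LP (LK LD1_c15 LD2_c46 LD3_c20)) = (LP (LK LD1_c8 LD2_c23 LD3_c0)) :=
  Lre_c IH (LK LD1_c15 LD2_c46 LD3_c20) (LK LD1_c8 LD2_c23 LD3_c0) Lrfl Lrfl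
theorem f232628 : Led Lsl_bt (LP (LK LD1_c9 LD2_c35 LD3_c56)) = (LP (LK LD1_c17 LD2_c40 LD3_c18)) :=
  Lre_b IH (LK LD1_c9 LD2_c35 LD3_c56) (LK LD1_c17 LD2_c40 LD3_c18) Lrfl Lrfl
theorem f233236 : Led Lsl_bt (LP (LK LD1_c4 LD2_c51 LD3_c55)) = (LP (LK LD1_c9 LD2_c36 LD3_c2)) :=
  Lre_b IH (LK LD1_c4 LD2_c51 LD3_c55) (LK LD1_c9 LD2_c36 LD3_c2) Lrfl Lrfl
theorem f716453 : Led Lsl_gf (LP (LK LD1_c17 LD2_c40 LD3_c18)) = (LP (LK LD1_c9 LD2_c36 LD3_c2)) :=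
  Lgr Lrot124 (Lpe (f232628 IH) (Lpe (K50.f232631 IH) (Lpr_gt (K50.f620600 IH) (Lpe (K49.f397183 IH) (Lpe (K49.f620590 IH) (Lpe (K49.f620569 IH) (Lpr_ct (f178363 IH) (Lpr_gt (f716452 IH) (Lpe (f716448 IH) (Lpr_bt (f233236 IH) (Lpn (LP (LK LD1_c9 LD2_c36 LD3_c2)))))))))))))
theorem f716454 : Led Lsl_gt (LP (LK LD1_c9 LD2_c36 LD3_c2)) = (LP (LK LD1_c17 LD2_c40 LD3_c18)) :=
  Leop (Lpr_gf (f716453 IH) (Lpn (LP (LK LD1_c9 LD2_c36 LD3_c2))))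
theorem seed_792 : LEOK LG_g (LK LD1_c9 LD2_c36 LD3_c2) :=
  Leoe_g (LK LD1_c9 LD2_c36 LD3_c2) (f716454 IH)
theorem f52108 : Led Lsl_dt (LP (LK LD1_c15 LD2_c47 LD3_c4)) = (LP (LK LD1_c8 LD2_c23 LD3_c37)) :=
  Lre_d IH (LK LD1_c15 LD2_c47 LD3_c4) (LK LD1_c8 LD2_c23 LD3_c37) Lrfl Lrfl
theorem f693738 : Led Lsl_ct K50.v4133 = K50.v12600 :=
  Lgr Lrot59 (Lpr_cf (K50.f693737 IH) (Lpn K50.v12600))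
theorem f52107 : Led Lsl_ct (LP (LK LD1_c4 LD2_c11 LD3_c59)) = (LP (LK LD1_c8 LD2_c23 LD3_c37)) :=
  Lre_c IH (LK LD1_c4 LD2_c11 LD3_c59) (LK LD1_c8 LD2_c23 LD3_c37) Lrfl Lrfl
def v12478 : LQ := Led Lsl_at (LP (LK LD1_c4 LD2_c11 LD3_c58))
theorem f692367 : Led Lsl_at (LP (LK LD1_c4 LD2_c11 LD3_c58)) = v12478 :=
  Lrfl
theorem f692368 : Led Lsl_af (LP (LK LD1_c4 LD2_c11 LD3_c58)) = v12478 :=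
  Lgr Lrot0 (Lpr_at (f692367 IH) (Lpn v12478))
theorem f692369 : Led Lsl_ft (LP (LK LD1_c4 LD2_c11 LD3_c59)) = v12478 :=
  Lgr Lrot2 (Lpr_gt (K30.f1215 IH) (Lpr_gt (K38.f1212 IH) (Lpr_af (f692368 IH) (Lpn v12478))))
theorem f692370 : Led Lsl_ff (LP (LK LD1_c4 LD2_c11 LD3_c59)) = v12478 :=
  Lgr Lrot3 (Lpr_ft (f692369 IH) (Lpn v12478))
def v4134 : LQ := Led Lsl_ft (LP (LK LD1_c2 LD2_c6 LD3_c30))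
theorem f631380 : Led Lsl_ft (LP (LK LD1_c2 LD2_c6 LD3_c30)) = v4134 :=
  Lrfl
theorem f631381 : Led Lsl_af (LP (LK LD1_c2 LD2_c6 LD3_c31)) = v4134 :=
  Lgr Lrot45 (Lpr_ft (K50.f631378 IH) (Lpe (K50.f631375 IH) (Lpr_ft (f631380 IH) (Lpn v4134))))
def v12599 : LQ := Led Lsl_ft (LP (LK LD1_c4 LD2_c18 LD3_c23))
theorem f693730 : Led Lsl_ft (LP (LK LD1_c4 LD2_c18 LD3_c23)) = v12599 :=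
  Lrfl
theorem f398148 : Led Lsl_bt (LP (LK LD1_c2 LD2_c6 LD3_c30)) = (LP (LK LD1_c4 LD2_c18 LD3_c23)) :=
  Lre_b IH (LK LD1_c2 LD2_c6 LD3_c30) (LK LD1_c4 LD2_c18 LD3_c23) Lrfl Lrfl
theorem f631383 : Led Lsl_ff (LP (LK LD1_c2 LD2_c6 LD3_c30)) = v4134 :=
  Lgr Lrot3 (Lpr_ft (f631380 IH) (Lpn v4134))
theorem f693731 : Led Lsl_bf v4134 = v12599 :=
  Lgr Lrot61 (Lpe (f631383 IH) (Lpr_bt (f398148 IH) (Lpr_ft (f693730 IH) (Lpn v12599))))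
def v12479 : LQ := Led Lsl_bt (LP (LK LD1_c4 LD2_c11 LD3_c58))
theorem f692371 : Led Lsl_bt (LP (LK LD1_c4 LD2_c11 LD3_c58)) = v12479 :=
  Lrfl
theorem f692372 : Led Lsl_bf (LP (LK LD1_c4 LD2_c11 LD3_c58)) = v12479 :=
  Lgr Lrot24 (Lpr_bt (f692371 IH) (Lpn v12479))
theorem f620616 : Led Lsl_dt (LP (LK LD1_c25 LD2_c35 LD3_c53)) = (LP (LK LD1_c15 LD2_c40 LD3_c23)) :=
  Lre_d IH (LK LD1_c25 LD2_c35 LD3_c53) (LK LD1_c15 LD2_c40 LD3_c23) Lrfl Lrfl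
theorem f620733 : Led Lsl_cf (LP (LK LD1_c15 LD2_c40 LD3_c23)) = (LP (LK LD1_c16 LD2_c14 LD3_c36)) :=
  Lgr Lrot99 (Lpe (f620616 IH) (Lpr_cf (K50.f620727 IH) (Lpe (K50.f373029 IH) (Lpe (K31.f263847 IH) (Lpr_gf (K50.f620459 IH) (Lpe (K38.f366326 IH) (Lpr_gt (K30.f372616 IH) (Lpr_ct (K38.f232694 IH) (Lpe (K49.f620483 IH) (Lpn (LP (LK LD1_c16 LD2_c14 LD3_c36))))))))))))
theorem f620478 : Led Lsl_dt (LP (LK LD1_c26 LD2_c11 LD3_c44)) = (LP (LK LD1_c16 LD2_c14 LD3_c36)) :=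
  Lre_d IH (LK LD1_c26 LD2_c11 LD3_c44) (LK LD1_c16 LD2_c14 LD3_c36) Lrfl Lrfl
theorem f620737 : Led Lsl_ff (LP (LK LD1_c27 LD2_c27 LD3_c3)) = (LP (LK LD1_c26 LD2_c11 LD3_c44)) :=
  Lgr Lrot103 (Lpe (K50.f620663 IH) (Lpe (K50.f620461 IH) (Lpr_df (K50.f620719 IH) (Lpr_cf (K50.f255657 IH) (Lpe (K50.f620501 IH) (Lpe (K50.f620723 IH) (Lpe (K50.f620609 IH) (Lpr_cf (f620733 IH) (Lpe (f620478 IH) (Lpn (LP (LK LD1_c26 LD2_c11 LD3_c44))))))))))))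
theorem f620655 : Led Lsl_ft (LP (LK LD1_c17 LD2_c42 LD3_c48)) = (LP (LK LD1_c25 LD2_c35 LD3_c54)) :=
  Lgr Lrot54 (Lpe (K50.f232700 IH) (Lpr_ff (K50.f620648 IH) (Lpe (K50.f397186 IH) (Lpn (LP (LK LD1_c25 LD2_c35 LD3_c54))))))
theorem f620756 : Led Lsl_at (LP (LK LD1_c25 LD2_c35 LD3_c54)) = (LP (LK LD1_c26 LD2_c11 LD3_c44)) :=
  Lgr Lrot66 (Lpe (f620655 IH) (Lpr_af (K50.f620663 IH) (Lpr_ff (f620737 IH) (Lpn (LP (LK LD1_c26 LD2_c11 LD3_c44))))))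
theorem f620589 : Led Lsl_dt (LP (LK LD1_c9 LD2_c37 LD3_c17)) = (LP (LK LD1_c17 LD2_c42 LD3_c53)) :=
  Lre_d IH (LK LD1_c9 LD2_c37 LD3_c17) (LK LD1_c17 LD2_c42 LD3_c53) Lrfl Lrfl
theorem f620596 : Led Lsl_bt (LP (LK LD1_c17 LD2_c42 LD3_c53)) = (LP (LK LD1_c25 LD2_c35 LD3_c54)) :=
  Lgr Lrot95 (Lpe (f620589 IH) (Lpr_bf (K49.f620590 IH) (Lpe (K50.f397186 IH) (Lpn (LP (LK LD1_c25 LD2_c35 LD3_c54))))))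
theorem f620763 : Led Lsl_at (LP (LK LD1_c9 LD2_c37 LD3_c20)) = (LP (LK LD1_c17 LD2_c42 LD3_c53)) :=
  Lre_a IH (LK LD1_c9 LD2_c37 LD3_c20) (LK LD1_c17 LD2_c42 LD3_c53) Lrfl Lrfl
theorem f602087 : Led Lsl_bt (LP (LK LD1_c17 LD2_c42 LD3_c57)) = (LP (LK LD1_c9 LD2_c37 LD3_c20)) :=
  Lre_b IH (LK LD1_c17 LD2_c42 LD3_c57) (LK LD1_c9 LD2_c37 LD3_c20) Lrfl Lrfl
theorem f620764 : Led Lsl_af (LP (LK LD1_c17 LD2_c42 LD3_c57)) = (LP (LK LD1_c16 LD2_c14 LD3_c38)) :=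
  Lgr Lrot36 (Lpr_bt (f602087 IH) (Lpr_at (f620763 IH) (Lpr_bt (f620596 IH) (Lpr_at (f620756 IH) (Lpr_bt (K49.f602176 IH) (Lpn (LP (LK LD1_c16 LD2_c14 LD3_c38))))))))
theorem f620758 : Led Lsl_ft (LP (LK LD1_c26 LD2_c11 LD3_c40)) = (LP (LK LD1_c16 LD2_c14 LD3_c38)) :=
  Lre_f IH (LK LD1_c26 LD2_c11 LD3_c40) (LK LD1_c16 LD2_c14 LD3_c38) Lrfl Lrfl
theorem f620774 : Led Lsl_at (LP (LK LD1_c16 LD2_c14 LD3_c35)) = (LP (LK LD1_c26 LD2_c11 LD3_c40)) :=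
  Lre_a IH (LK LD1_c16 LD2_c14 LD3_c35) (LK LD1_c26 LD2_c11 LD3_c40) Lrfl Lrfl
theorem f620775 : Led Lsl_ft (LP (LK LD1_c17 LD2_c42 LD3_c57)) = (LP (LK LD1_c16 LD2_c14 LD3_c35)) :=
  Lgr Lrot101 (Lpr_af (f620764 IH) (Lpe (f620758 IH) (Lpe (f620774 IH) (Lpn (LP (LK LD1_c16 LD2_c14 LD3_c35))))))
theorem f620789 : Led Lsl_ff (LP (LK LD1_c17 LD2_c42 LD3_c57)) = (LP (LK LD1_c16 LD2_c14 LD3_c35)) :=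
  Lgr Lrot3 (Lpr_ft (f620775 IH) (Lpn (LP (LK LD1_c16 LD2_c14 LD3_c35))))
theorem f233226 : Led Lsl_dt (LP (LK LD1_c17 LD2_c42 LD3_c57)) = (LP (LK LD1_c9 LD2_c37 LD3_c19)) :=
  Lre_d IH (LK LD1_c17 LD2_c42 LD3_c57) (LK LD1_c9 LD2_c37 LD3_c19) Lrfl Lrfl
theorem f232474 : Led Lsl_dt (LP (LK LD1_c8 LD2_c40 LD3_c25)) = (LP (LK LD1_c16 LD2_c14 LD3_c35)) :=
  Lre_d IH (LK LD1_c8 LD2_c40 LD3_c25) (LK LD1_c16 LD2_c14 LD3_c35) Lrfl Lrfl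
theorem f620796 : Led Lsl_ft (LP (LK LD1_c9 LD2_c37 LD3_c19)) = (LP (LK LD1_c8 LD2_c40 LD3_c25)) :=
  Lgr Lrot54 (Lpe (f233226 IH) (Lpr_ff (f620789 IH) (Lpe (f232474 IH) (Lpn (LP (LK LD1_c8 LD2_c40 LD3_c25))))))
theorem f620801 : Led Lsl_gt (LP (LK LD1_c8 LD2_c40 LD3_c27)) = (LP (LK LD1_c16 LD2_c14 LD3_c34)) :=
  Lgr Lrot46 (Lpe (K13.f233218 IH) (Lpr_ft (f620796 IH) (Lpr_at (K49.f620544 IH) (Lpn (LP (LK LD1_c16 LD2_c14 LD3_c34))))))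
theorem f200100 : Led Lsl_at (LP (LK LD1_c16 LD2_c14 LD3_c33)) = (LP (LK LD1_c8 LD2_c40 LD3_c29)) :=
  Lre_a IH (LK LD1_c16 LD2_c14 LD3_c33) (LK LD1_c8 LD2_c40 LD3_c29) Lrfl Lrfl
theorem f620803 : Led Lsl_gf (LP (LK LD1_c8 LD2_c40 LD3_c29)) = (LP (LK LD1_c16 LD2_c14 LD3_c34)) :=
  Lgr Lrot76 (Lpe (f200100 IH) (Lpe (K49.f200126 IH) (Lpr_gt (f620801 IH) (Lpn (LP (LK LD1_c16 LD2_c14 LD3_c34))))))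
theorem f417203 : Led Lsl_ft (LP (LK LD1_c8 LD2_c19 LD3_c45)) = (LP (LK LD1_c15 LD2_c40 LD3_c10)) :=
  Lre_f IH (LK LD1_c8 LD2_c19 LD3_c45) (LK LD1_c15 LD2_c40 LD3_c10) Lrfl Lrfl
theorem f620607 : Led Lsl_af (LP (LK LD1_c25 LD2_c34 LD3_c30)) = (LP (LK LD1_c15 LD2_c40 LD3_c10)) :=
  Lgr Lrot45 (Lpr_ft (K50.f620603 IH) (Lpr_at (K50.f620602 IH) (Lpr_ft (f417203 IH) (Lpn (LP (LK LD1_c15 LD2_c40 LD3_c10))))))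
theorem f620640 : Led Lsl_gf (LP (LK LD1_c25 LD2_c34 LD3_c30)) = (LP (LK LD1_c15 LD2_c40 LD3_c22)) :=
  Lgr Lrot76 (Lpr_af (f620607 IH) (Lpe (f417203 IH) (Lpr_gt (K49.f397184 IH) (Lpn (LP (LK LD1_c15 LD2_c40 LD3_c22))))))
theorem f620487 : Led Lsl_bt (LP (LK LD1_c8 LD2_c40 LD3_c26)) = (LP (LK LD1_c16 LD2_c14 LD3_c36)) :=
  Lre_b IH (LK LD1_c8 LD2_c40 LD3_c26) (LK LD1_c16 LD2_c14 LD3_c36) Lrfl Lrfl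
theorem f620533 : Led Lsl_ft (LP (LK LD1_c16 LD2_c14 LD3_c34)) = (LP (LK LD1_c8 LD2_c40 LD3_c26)) :=
  Lre_f IH (LK LD1_c16 LD2_c14 LD3_c34) (LK LD1_c8 LD2_c40 LD3_c26) Lrfl Lrfl
theorem f620534 : Led Lsl_bf (LP (LK LD1_c16 LD2_c14 LD3_c34)) = (LP (LK LD1_c17 LD2_c42 LD3_c47)) :=
  Lgr Lrot61 (Lpr_ft (f620533 IH) (Lpr_bt (f620487 IH) (Lpr_ft (K49.f620489 IH) (Lpn (LP (LK LD1_c17 LD2_c42 LD3_c47))))))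
theorem f620839 : Led Lsl_cf (LP (LK LD1_c25 LD2_c34 LD3_c30)) = (LP (LK LD1_c17 LD2_c42 LD3_c47)) :=
  Lgr Lrot163 (Lpr_gf (f620640 IH) (Lpr_cf (K49.f400468 IH) (Lpe (K38.f232519 IH) (Lpe (K30.f232509 IH) (Lpe (K13.f232512 IH) (Lpr_gf (K13.f232392 IH) (Lpe (K13.f29141 IH) (Lpr_bt (K13.f186993 IH) (Lpr_gf (f620803 IH) (Lpr_bf (f620534 IH) (Lpn (LP (LK LD1_c17 LD2_c42 LD3_c47)))))))))))))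
theorem f199923 : Led Lsl_ft (LP (LK LD1_c8 LD2_c21 LD3_c12)) = (LP (LK LD1_c6 LD2_c4 LD3_c21)) :=
  Lgr Lrot75 (Lpe (K11.f199922 IH) (Lpr_ff (K11.f199919 IH) (Lpe (K11.f29077 IH) (Lpn (LP (LK LD1_c6 LD2_c4 LD3_c21))))))
theorem f199999 : Led Lsl_gt (LP (LK LD1_c8 LD2_c21 LD3_c12)) = (LP (LK LD1_c15 LD2_c43 LD3_c19)) :=
  Lre_g IH (LK LD1_c8 LD2_c21 LD3_c12) (LK LD1_c15 LD2_c43 LD3_c19) Lrfl Lrfl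
theorem f29086 : Led Lsl_at (LP (LK LD1_c6 LD2_c4 LD3_c21)) = (LP (LK LD1_c11 LD2_c52 LD3_c8)) :=
  Lre_a IH (LK LD1_c6 LD2_c4 LD3_c21) (LK LD1_c11 LD2_c52 LD3_c8) Lrfl Lrfl
theorem f200000 : Led Lsl_gt (LP (LK LD1_c15 LD2_c43 LD3_c19)) = (LP (LK LD1_c11 LD2_c52 LD3_c8)) :=
  Lgr Lrot46 (Lpe (f199999 IH) (Lpr_ft (f199923 IH) (Lpr_at (f29086 IH) (Lpn (LP (LK LD1_c11 LD2_c52 LD3_c8))))))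
theorem f200003 : Led Lsl_ct (LP (LK LD1_c25 LD2_c39 LD3_c33)) = (LP (LK LD1_c15 LD2_c43 LD3_c19)) :=
  Lre_c IH (LK LD1_c25 LD2_c39 LD3_c33) (LK LD1_c15 LD2_c43 LD3_c19) Lrfl Lrfl
theorem f620843 : Led Lsl_gt (LP (LK LD1_c17 LD2_c40 LD3_c18)) = (LP (LK LD1_c25 LD2_c39 LD3_c33)) :=
  Lgr Lrot82 (Lpe (f232628 IH) (Lpe (K50.f232631 IH) (Lpe (K50.f232624 IH) (Lpr_cf (f620839 IH) (Lpe (f620534 IH) (Lpe (f620801 IH) (Lpe (K13.f39052 IH) (Lpe (K13.f29108 IH) (Lpe (f200000 IH) (Lpe (f200003 IH) (Lpn (LP (LK LD1_c25 LD2_c39 LD3_c33)))))))))))))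
theorem f418275 : Led Lsl_ft (LP (LK LD1_c9 LD2_c36 LD3_c2)) = (LP (LK LD1_c17 LD2_c40 LD3_c38)) :=
  Lre_f IH (LK LD1_c9 LD2_c36 LD3_c2) (LK LD1_c17 LD2_c40 LD3_c38) Lrfl Lrfl
theorem f716457 : Led Lsl_af (LP (LK LD1_c25 LD2_c39 LD3_c33)) = (LP (LK LD1_c17 LD2_c40 LD3_c38)) :=
  Lgr Lrot31 (Lpe (f620843 IH) (Lpr_gf (f716453 IH) (Lpr_ft (f418275 IH) (Lpn (LP (LK LD1_c17 LD2_c40 LD3_c38))))))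
theorem f233235 : Led Lsl_at (LP (LK LD1_c17 LD2_c40 LD3_c35)) = (LP (LK LD1_c9 LD2_c36 LD3_c2)) :=
  Lre_a IH (LK LD1_c17 LD2_c40 LD3_c35) (LK LD1_c9 LD2_c36 LD3_c2) Lrfl Lrfl
theorem f716465 : Led Lsl_ft (LP (LK LD1_c25 LD2_c39 LD3_c33)) = (LP (LK LD1_c17 LD2_c40 LD3_c35)) :=
  Lgr Lrot101 (Lpr_af (f716457 IH) (Lpe (f418275 IH) (Lpe (f233235 IH) (Lpn (LP (LK LD1_c17 LD2_c40 LD3_c35))))))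
theorem f716469 : Led Lsl_ff (LP (LK LD1_c25 LD2_c39 LD3_c33)) = (LP (LK LD1_c17 LD2_c40 LD3_c35)) :=
  Lgr Lrot3 (Lpr_ft (f716465 IH) (Lpn (LP (LK LD1_c17 LD2_c40 LD3_c35))))
theorem f716461 : Led Lsl_bt (LP (LK LD1_c9 LD2_c36 LD3_c5)) = (LP (LK LD1_c17 LD2_c40 LD3_c38)) :=
  Lre_b IH (LK LD1_c9 LD2_c36 LD3_c5) (LK LD1_c17 LD2_c40 LD3_c38) Lrfl Lrfl
theorem f692374 : Led Lsl_at (LP (LK LD1_c4 LD2_c51 LD3_c56)) = (LP (LK LD1_c9 LD2_c36 LD3_c5)) :=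
  Lre_a IH (LK LD1_c4 LD2_c51 LD3_c56) (LK LD1_c9 LD2_c36 LD3_c5) Lrfl Lrfl
theorem f398042 : Led Lsl_at (LP (LK LD1_c17 LD2_c40 LD3_c43)) = (LP (LK LD1_c9 LD2_c36 LD3_c6)) :=
  Lre_a IH (LK LD1_c17 LD2_c40 LD3_c43) (LK LD1_c9 LD2_c36 LD3_c6) Lrfl Lrfl
theorem f716462 : Led Lsl_bt (LP (LK LD1_c25 LD2_c39 LD3_c33)) = (LP (LK LD1_c17 LD2_c40 LD3_c43)) :=
  Lgr Lrot62 (Lpr_af (f716457 IH) (Lpe (f716461 IH) (Lpe (f692374 IH) (Lpe (K49.f29873 IH) (Lpe (f398042 IH) (Lpn (LP (LK LD1_c17 LD2_c40 LD3_c43))))))))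
theorem f551212 : Led Lsl_af (LP (LK LD1_c16 LD2_c1 LD3_c16)) = (LP (LK LD1_c25 LD2_c53 LD3_c54)) :=
  Lgr Lrot0 (Lpr_at (K50.f551126 IH) (Lpn (LP (LK LD1_c25 LD2_c53 LD3_c54))))
theorem f551112 : Led Lsl_ft (LP (LK LD1_c16 LD2_c1 LD3_c13)) = (LP (LK LD1_c25 LD2_c53 LD3_c54)) :=
  Lgr Lrot4 (Lpe (K49.f188738 IH) (Lpr_ff (K50.f551106 IH) (Lpe (K50.f171114 IH) (Lpn (LP (LK LD1_c25 LD2_c53 LD3_c54))))))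
theorem f188739 : Led Lsl_gt (LP (LK LD1_c16 LD2_c1 LD3_c13)) = (LP (LK LD1_c25 LD2_c58 LD3_c38)) :=
  Lre_g IH (LK LD1_c16 LD2_c1 LD3_c13) (LK LD1_c25 LD2_c58 LD3_c38) Lrfl Lrfl
theorem f551240 : Led Lsl_gf (LP (LK LD1_c16 LD2_c1 LD3_c16)) = (LP (LK LD1_c25 LD2_c58 LD3_c38)) :=
  Lgr Lrot76 (Lpr_af (f551212 IH) (Lpe (f551112 IH) (Lpr_gt (f188739 IH) (Lpn (LP (LK LD1_c25 LD2_c58 LD3_c38))))))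
theorem f551242 : Led Lsl_ff (LP (LK LD1_c17 LD2_c40 LD3_c43)) = (LP (LK LD1_c25 LD2_c58 LD3_c38)) :=
  Lgr Lrot52 (Lpr_at (f398042 IH) (Lpr_gf (K49.f398057 IH) (Lpr_gf (f551240 IH) (Lpn (LP (LK LD1_c25 LD2_c58 LD3_c38))))))
theorem f551244 : Led Lsl_ft (LP (LK LD1_c17 LD2_c40 LD3_c43)) = (LP (LK LD1_c25 LD2_c58 LD3_c38)) :=
  Lgr Lrot48 (Lpr_ff (f551242 IH) (Lpn (LP (LK LD1_c25 LD2_c58 LD3_c38))))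
theorem f716478 : Led Lsl_bt (LP (LK LD1_c25 LD2_c58 LD3_c38)) = (LP (LK LD1_c17 LD2_c40 LD3_c35)) :=
  Lgr Lrot35 (Lpe (f551244 IH) (Lpe (f716462 IH) (Lpr_ff (f716469 IH) (Lpn (LP (LK LD1_c17 LD2_c40 LD3_c35))))))
theorem f716482 : Led Lsl_bf (LP (LK LD1_c25 LD2_c58 LD3_c38)) = (LP (LK LD1_c17 LD2_c40 LD3_c35)) :=
  Lgr Lrot24 (Lpr_bt (f716478 IH) (Lpn (LP (LK LD1_c17 LD2_c40 LD3_c35))))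
theorem f29096 : Led Lsl_gt (LP (LK LD1_c6 LD2_c4 LD3_c21)) = (LP (LK LD1_c11 LD2_c52 LD3_c6)) :=
  Lre_g IH (LK LD1_c6 LD2_c4 LD3_c21) (LK LD1_c11 LD2_c52 LD3_c6) Lrfl Lrfl
theorem f716486 : Led Lsl_cf (LP (LK LD1_c11 LD2_c52 LD3_c6)) = (LP (LK LD1_c17 LD2_c40 LD3_c35)) :=
  Lgr Lrot58 (Lpe (f29096 IH) (Lpr_cf (K11.f29080 IH) (Lpr_bt (K13.f29105 IH) (Lpe (K13.f184371 IH) (Lpe (K27.f170464 IH) (Lpr_ct (K30.f167281 IH) (Lpe (K30.f170134 IH) (Lpe (K30.f170479 IH) (Lpr_gf (f551240 IH) (Lpr_bf (f716482 IH) (Lpn (LP (LK LD1_c17 LD2_c40 LD3_c35)))))))))))))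
theorem f200002 : Led Lsl_ct (LP (LK LD1_c15 LD2_c43 LD3_c19)) = (LP (LK LD1_c25 LD2_c39 LD3_c33)) :=
  Lre_c IH (LK LD1_c15 LD2_c43 LD3_c19) (LK LD1_c25 LD2_c39 LD3_c33) Lrfl Lrfl
theorem f716496 : Led Lsl_ft (LP (LK LD1_c11 LD2_c52 LD3_c6)) = (LP (LK LD1_c15 LD2_c43 LD3_c19)) :=
  Lgr Lrot4 (Lpr_cf (f716486 IH) (Lpe (f716465 IH) (Lpe (f200002 IH) (Lpn (LP (LK LD1_c15 LD2_c43 LD3_c19))))))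
theorem f199961 : Led Lsl_gf (LP (LK LD1_c15 LD2_c43 LD3_c21)) = (LP (LK LD1_c11 LD2_c52 LD3_c6)) :=
  Lgr Lrot76 (Lpe (K13.f199955 IH) (Lpr_ff (K11.f199931 IH) (Lpr_gt (f29096 IH) (Lpn (LP (LK LD1_c11 LD2_c52 LD3_c6))))))
theorem f29106 : Led Lsl_gt (LP (LK LD1_c11 LD2_c52 LD3_c7)) = (LP (LK LD1_c6 LD2_c4 LD3_c21)) :=
  Lre_g IH (LK LD1_c11 LD2_c52 LD3_c7) (LK LD1_c6 LD2_c4 LD3_c21) Lrfl Lrfl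
theorem f199992 : Led Lsl_gt (LP (LK LD1_c15 LD2_c43 LD3_c21)) = (LP (LK LD1_c11 LD2_c52 LD3_c7)) :=
  Lgr Lrot5 (Lpr_ft (K13.f199956 IH) (Lpr_at (K13.f29095 IH) (Lpe (f29106 IH) (Lpn (LP (LK LD1_c11 LD2_c52 LD3_c7))))))
theorem f716505 : Led Lsl_af (LP (LK LD1_c11 LD2_c52 LD3_c7)) = (LP (LK LD1_c15 LD2_c43 LD3_c19)) :=
  Lgr Lrot31 (Lpe (f199992 IH) (Lpr_gf (f199961 IH) (Lpr_ft (f716496 IH) (Lpn (LP (LK LD1_c15 LD2_c43 LD3_c19))))))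
theorem f716509 : Led Lsl_ct (LP (LK LD1_c11 LD2_c52 LD3_c7)) = (LP (LK LD1_c17 LD2_c40 LD3_c38)) :=
  Lgr Lrot111 (Lpr_af (f716505 IH) (Lpe (f200003 IH) (Lpr_af (f716457 IH) (Lpn (LP (LK LD1_c17 LD2_c40 LD3_c38))))))
theorem f716512 : Led Lsl_cf (LP (LK LD1_c11 LD2_c52 LD3_c7)) = (LP (LK LD1_c17 LD2_c40 LD3_c38)) :=
  Lgr Lrot11 (Lpr_ct (f716509 IH) (Lpn (LP (LK LD1_c17 LD2_c40 LD3_c38))))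
theorem f200006 : Led Lsl_at (LP (LK LD1_c9 LD2_c35 LD3_c6)) = (LP (LK LD1_c17 LD2_c38 LD3_c60)) :=
  Lre_a IH (LK LD1_c9 LD2_c35 LD3_c6) (LK LD1_c17 LD2_c38 LD3_c60) Lrfl Lrfl
theorem f200007 : Led Lsl_cf (LP (LK LD1_c15 LD2_c43 LD3_c21)) = (LP (LK LD1_c17 LD2_c38 LD3_c60)) :=
  Lgr Lrot1 (Lpr_at (K13.f199994 IH) (Lpr_ct (K11.f200004 IH) (Lpr_at (f200006 IH) (Lpn (LP (LK LD1_c17 LD2_c38 LD3_c60))))))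
theorem f200040 : Led Lsl_gt (LP (LK LD1_c14 LD2_c56 LD3_c60)) = (LP (LK LD1_c17 LD2_c38 LD3_c60)) :=
  Lgr Lrot46 (Lpe (K38.f29097 IH) (Lpr_ft (K11.f200028 IH) (Lpr_at (f200006 IH) (Lpn (LP (LK LD1_c17 LD2_c38 LD3_c60))))))
theorem f716511 : Led Lsl_bt (LP (LK LD1_c17 LD2_c40 LD3_c38)) = (LP (LK LD1_c9 LD2_c36 LD3_c5)) :=
  Lre_b IH (LK LD1_c17 LD2_c40 LD3_c38) (LK LD1_c9 LD2_c36 LD3_c5) Lrfl Lrfl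
theorem f716524 : Led Lsl_gf (LP (LK LD1_c4 LD2_c51 LD3_c57)) = (LP (LK LD1_c9 LD2_c36 LD3_c5)) :=
  Lgr Lrot124 (Lpe (K50.f2253 IH) (Lpe (K50.f29817 IH) (Lpr_gt (K38.f398005 IH) (Lpe (K38.f398011 IH) (Lpr_bt (K38.f200043 IH) (Lpr_gt (f200040 IH) (Lpe (f200007 IH) (Lpr_gt (f199992 IH) (Lpr_cf (f716512 IH) (Lpr_bt (f716511 IH) (Lpn (LP (LK LD1_c9 LD2_c36 LD3_c5)))))))))))))
theorem f716443 : Led Lsl_ft (LP (LK LD1_c9 LD2_c36 LD3_c5)) = (LP (LK LD1_c4 LD2_c51 LD3_c55)) :=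
  Lre_f IH (LK LD1_c9 LD2_c36 LD3_c5) (LK LD1_c4 LD2_c51 LD3_c55) Lrfl Lrfl
def v13955 : LQ := Led Lsl_at (LP (LK LD1_c4 LD2_c51 LD3_c55))
theorem f716441 : Led Lsl_at (LP (LK LD1_c4 LD2_c51 LD3_c55)) = v13955 :=
  Lrfl
theorem f716529 : (LP (LK LD1_c8 LD2_c35 LD3_c34)) = v13955 :=
  (Llr Lrot46 (Lpr_gf (K50.f170120 IH) (Lpr_gf (f716524 IH) (Lpr_ft (f716443 IH) (Lpr_at (f716441 IH) (Lpn v13955)))))).symm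
theorem f716444 : Led Lsl_ff (LP (LK LD1_c4 LD2_c51 LD3_c56)) = v13955 :=
  Lgr Lrot30 (Lpr_at (f692374 IH) (Lpr_ft (f716443 IH) (Lpr_at (f716441 IH) (Lpn v13955))))
theorem f716447 : Led Lsl_ft (LP (LK LD1_c4 LD2_c51 LD3_c56)) = v13955 :=
  Lgr Lrot48 (Lpr_ff (f716444 IH) (Lpn v13955))
theorem f398046 : Led Lsl_bt (LP (LK LD1_c4 LD2_c51 LD3_c56)) = (LP (LK LD1_c9 LD2_c36 LD3_c6)) :=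
  Lre_b IH (LK LD1_c4 LD2_c51 LD3_c56) (LK LD1_c9 LD2_c36 LD3_c6) Lrfl Lrfl
theorem f692373 : Led Lsl_cf (LP (LK LD1_c4 LD2_c51 LD3_c56)) = v12479 :=
  Lgr Lrot97 (Lpr_bt (f398046 IH) (Lpr_ct (K49.f398034 IH) (Lpr_bt (K49.f53355 IH) (Lpr_ct (K38.f51700 IH) (Lpr_bt (f692371 IH) (Lpn v12479))))))
theorem f716538 : v12479 = v12599 :=
  (Llr Lrot108 (Lpe (f692373 IH) (Lpr_ft (f716447 IH) (Lpq (f716529 IH) (Lpr_ct (K50.f52132 IH) (Lpr_ft (f693730 IH) (Lpn v12599))))))).symm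
theorem f716539 : v4134 = (LP (LK LD1_c4 LD2_c11 LD3_c58)) :=
  Lefun (Lecon (Lfl_bf (f693731 IH)) (f716538 IH).symm) (Lfl_bf (f692372 IH))
theorem f716540 : (LP (LK LD1_c2 LD2_c6 LD3_c31)) = v12478 :=
  Lefun (Lecon (Lfl_af (f631381 IH)) (f716539 IH)) (f692367 IH)
theorem f716557 : (LP (LK LD1_c4 LD2_c11 LD3_c59)) = K50.v4133 :=
  Lefun (Lecon (Lfl_ff (f692370 IH)) (f716540 IH).symm) (K50.f631378 IH)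
theorem f716565 : K50.v12600 = (LP (LK LD1_c8 LD2_c23 LD3_c37)) :=
  Lefun (Lecon (f693738 IH) (f716557 IH).symm) (f52107 IH)
def v12601 : LQ := Led Lsl_dt (LP (LK LD1_c4 LD2_c18 LD3_c24))
theorem f693756 : Led Lsl_dt (LP (LK LD1_c4 LD2_c18 LD3_c24)) = v12601 :=
  Lrfl
theorem f717435 : Led Lsl_af (LP (LK LD1_c15 LD2_c47 LD3_c4)) = v12601 :=
  Lgr Lrot117 (Lpr_dt (f52108 IH) (Lpq (f716565 IH) (Lpe (K50.f693735 IH) (Lpr_dt (f693756 IH) (Lpn v12601)))))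
theorem f52065 : Led Lsl_dt (LP (LK LD1_c8 LD2_c35 LD3_c46)) = (LP (LK LD1_c4 LD2_c18 LD3_c28)) :=
  Lre_d IH (LK LD1_c8 LD2_c35 LD3_c46) (LK LD1_c4 LD2_c18 LD3_c28) Lrfl Lrfl
theorem f52109 : Led Lsl_dt (LP (LK LD1_c8 LD2_c23 LD3_c37)) = (LP (LK LD1_c15 LD2_c47 LD3_c4)) :=
  Lre_d IH (LK LD1_c8 LD2_c23 LD3_c37) (LK LD1_c15 LD2_c47 LD3_c4) Lrfl Lrfl
theorem f717159 : Led Lsl_ff (LP (LK LD1_c8 LD2_c35 LD3_c46)) = (LP (LK LD1_c15 LD2_c47 LD3_c4)) :=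
  Lgr Lrot19 (Lpr_dt (f52065 IH) (Lpr_ft (K50.f693739 IH) (Lpqs (f716565 IH) (Lpr_dt (f52109 IH) (Lpn (LP (LK LD1_c15 LD2_c47 LD3_c4)))))))
theorem f717163 : Led Lsl_ft (LP (LK LD1_c8 LD2_c35 LD3_c46)) = (LP (LK LD1_c15 LD2_c47 LD3_c4)) :=
  Lgr Lrot48 (Lpr_ff (f717159 IH) (Lpn (LP (LK LD1_c15 LD2_c47 LD3_c4))))
theorem f399665 : Led Lsl_bt (LP (LK LD1_c16 LD2_c7 LD3_c4)) = (LP (LK LD1_c8 LD2_c35 LD3_c46)) :=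
  Lre_b IH (LK LD1_c16 LD2_c7 LD3_c4) (LK LD1_c8 LD2_c35 LD3_c46) Lrfl Lrfl
theorem f399453 : Led Lsl_bt (LP (LK LD1_c15 LD2_c47 LD3_c4)) = (LP (LK LD1_c25 LD2_c43 LD3_c46)) :=
  Lre_b IH (LK LD1_c15 LD2_c47 LD3_c4) (LK LD1_c25 LD2_c43 LD3_c46) Lrfl Lrfl
theorem f717165 : Led Lsl_ff (LP (LK LD1_c16 LD2_c7 LD3_c4)) = (LP (LK LD1_c25 LD2_c43 LD3_c46)) :=
  Lgr Lrot25 (Lpr_bt (f399665 IH) (Lpr_ft (f717163 IH) (Lpr_bt (f399453 IH) (Lpn (LP (LK LD1_c25 LD2_c43 LD3_c46))))))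
theorem f407051 : Led Lsl_bt (LP (LK LD1_c16 LD2_c51 LD3_c57)) = (LP (LK LD1_c26 LD2_c49 LD3_c1)) :=
  Lre_b IH (LK LD1_c16 LD2_c51 LD3_c57) (LK LD1_c26 LD2_c49 LD3_c1) Lrfl Lrfl
theorem f177973 : Led Lsl_ct (LP (LK LD1_c26 LD2_c42 LD3_c52)) = (LP (LK LD1_c16 LD2_c44 LD3_c10)) :=
  Lre_c IH (LK LD1_c26 LD2_c42 LD3_c52) (LK LD1_c16 LD2_c44 LD3_c10) Lrfl Lrfl
theorem f337524 : Led Lsl_ft (LP (LK LD1_c26 LD2_c42 LD3_c50)) = (LP (LK LD1_c19 LD2_c28 LD3_c51)) :=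
  Lgr Lrot54 (Lpe (K31.f178042 IH) (Lpr_ff (K22.f337515 IH) (Lpe (K31.f235985 IH) (Lpn (LP (LK LD1_c19 LD2_c28 LD3_c51))))))
theorem f386482 : Led Lsl_at (LP (LK LD1_c16 LD2_c44 LD3_c10)) = (LP (LK LD1_c26 LD2_c42 LD3_c50)) :=
  Lre_a IH (LK LD1_c16 LD2_c44 LD3_c10) (LK LD1_c26 LD2_c42 LD3_c50) Lrfl Lrfl
theorem f324436 : Led Lsl_at (LP (LK LD1_c19 LD2_c28 LD3_c51)) = (LP (LK LD1_c10 LD2_c46 LD3_c20)) :=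
  Lre_a IH (LK LD1_c19 LD2_c28 LD3_c51) (LK LD1_c10 LD2_c46 LD3_c20) Lrfl Lrfl
theorem f395953 : Led Lsl_ff (LP (LK LD1_c16 LD2_c44 LD3_c10)) = (LP (LK LD1_c10 LD2_c46 LD3_c20)) :=
  Lgr Lrot30 (Lpr_at (f386482 IH) (Lpr_ft (f337524 IH) (Lpr_at (f324436 IH) (Lpn (LP (LK LD1_c10 LD2_c46 LD3_c20))))))
theorem f178044 : Led Lsl_ct (LP (LK LD1_c16 LD2_c44 LD3_c10)) = (LP (LK LD1_c26 LD2_c42 LD3_c52)) :=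
  Lre_c IH (LK LD1_c16 LD2_c44 LD3_c10) (LK LD1_c26 LD2_c42 LD3_c52) Lrfl Lrfl
theorem f395955 : Led Lsl_ft (LP (LK LD1_c26 LD2_c42 LD3_c52)) = (LP (LK LD1_c19 LD2_c28 LD3_c53)) :=
  Lgr Lrot4 (Lpe (f178044 IH) (Lpr_ff (f395953 IH) (Lpe (K38.f235836 IH) (Lpn (LP (LK LD1_c19 LD2_c28 LD3_c53))))))
theorem f395963 : Led Lsl_ff (LP (LK LD1_c26 LD2_c42 LD3_c52)) = (LP (LK LD1_c19 LD2_c28 LD3_c53)) :=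
  Lgr Lrot3 (Lpr_ft (f395955 IH) (Lpn (LP (LK LD1_c19 LD2_c28 LD3_c53))))
theorem f271673 : Led Lsl_ct (LP (LK LD1_c15 LD2_c59 LD3_c57)) = (LP (LK LD1_c25 LD2_c57 LD3_c14)) :=
  Lre_c IH (LK LD1_c15 LD2_c59 LD3_c57) (LK LD1_c25 LD2_c57 LD3_c14) Lrfl Lrfl
theorem f282729 : Led Lsl_bt (LP (LK LD1_c16 LD2_c44 LD3_c10)) = (LP (LK LD1_c8 LD2_c56 LD3_c27)) :=
  Lre_b IH (LK LD1_c16 LD2_c44 LD3_c10) (LK LD1_c8 LD2_c56 LD3_c27) Lrfl Lrfl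
theorem f282730 : Led Lsl_bt (LP (LK LD1_c25 LD2_c57 LD3_c14)) = (LP (LK LD1_c26 LD2_c42 LD3_c52)) :=
  Lgr Lrot128 (Lpe (f271673 IH) (Lpe (K27.f282714 IH) (Lpr_cf (K17.f282725 IH) (Lpe (f282729 IH) (Lpe (f177973 IH) (Lpn (LP (LK LD1_c26 LD2_c42 LD3_c52))))))))
theorem f395960 : Led Lsl_ff (LP (LK LD1_c25 LD2_c57 LD3_c14)) = (LP (LK LD1_c25 LD2_c55 LD3_c29)) :=
  Lgr Lrot25 (Lpr_bt (f282730 IH) (Lpr_ft (f395955 IH) (Lpe (K38.f271466 IH) (Lpn (LP (LK LD1_c25 LD2_c55 LD3_c29))))))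
theorem f395968 : Led Lsl_ft (LP (LK LD1_c25 LD2_c57 LD3_c14)) = (LP (LK LD1_c25 LD2_c55 LD3_c29)) :=
  Lgr Lrot48 (Lpr_ff (f395960 IH) (Lpn (LP (LK LD1_c25 LD2_c55 LD3_c29))))
theorem f402007 : Led Lsl_bt (LP (LK LD1_c26 LD2_c42 LD3_c52)) = (LP (LK LD1_c25 LD2_c57 LD3_c14)) :=
  Lgr Lrot35 (Lpr_ff (f395963 IH) (Lpr_bf (K51.f402003 IH) (Lpe (f395968 IH) (Lpn (LP (LK LD1_c25 LD2_c57 LD3_c14))))))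
theorem f407052 : Led Lsl_gt (LP (LK LD1_c26 LD2_c49 LD3_c1)) = (LP (LK LD1_c25 LD2_c57 LD3_c14)) :=
  Lgr Lrot164 (Lpe (f407051 IH) (Lpr_ct (K31.f407044 IH) (Lpr_gf (K31.f398603 IH) (Lpe (K16.f174484 IH) (Lpe (K31.f174487 IH) (Lpe (K31.f174488 IH) (Lpr_ct (K31.f242680 IH) (Lpe (K31.f388581 IH) (Lpe (f177973 IH) (Lpr_bt (f402007 IH) (Lpn (LP (LK LD1_c25 LD2_c57 LD3_c14)))))))))))))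
theorem f174482 : Led Lsl_bf (LP (LK LD1_c16 LD2_c47 LD3_c3)) = (LP (LK LD1_c9 LD2_c2 LD3_c7)) :=
  Lgr Lrot24 (Lpr_bt (K20.f174469 IH) (Lpn (LP (LK LD1_c9 LD2_c2 LD3_c7))))
theorem f245500 : Led Lsl_dt (LP (LK LD1_c16 LD2_c45 LD3_c9)) = (LP (LK LD1_c26 LD2_c44 LD3_c4)) :=
  Lre_d IH (LK LD1_c16 LD2_c45 LD3_c9) (LK LD1_c26 LD2_c44 LD3_c4) Lrfl Lrfl
theorem f399443 : Led Lsl_gf (LP (LK LD1_c16 LD2_c47 LD3_c3)) = (LP (LK LD1_c26 LD2_c44 LD3_c4)) :=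
  Lgr Lrot143 (Lpr_dt (K20.f174493 IH) (Lpe (K20.f174440 IH) (Lpe (K24.f174506 IH) (Lpe (K20.f174507 IH) (Lpr_df (K31.f399436 IH) (Lpe (K31.f245456 IH) (Lpe (K31.f245330 IH) (Lpr_gt (K31.f245498 IH) (Lpr_dt (f245500 IH) (Lpn (LP (LK LD1_c26 LD2_c44 LD3_c4))))))))))))
theorem f226766 : Led Lsl_cf (LP (LK LD1_c1 LD2_c0 LD3_c42)) = (LP (LK LD1_c1 LD2_c17 LD3_c1)) :=
  Lgr Lrot11 (Lpr_ct (K12.f226754 IH) (Lpn (LP (LK LD1_c1 LD2_c17 LD3_c1))))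
theorem f226774 : Led Lsl_bt (LP (LK LD1_c1 LD2_c0 LD3_c42)) = (LP (LK LD1_c2 LD2_c7 LD3_c15)) :=
  Lre_b IH (LK LD1_c1 LD2_c0 LD3_c42) (LK LD1_c2 LD2_c7 LD3_c15) Lrfl Lrfl
theorem f311717 : Led Lsl_bt (LP (LK LD1_c2 LD2_c23 LD3_c29)) = (LP (LK LD1_c2 LD2_c25 LD3_c25)) :=
  Lgr Lrot128 (Lpr_cf (K19.f311713 IH) (Lpe (K14.f171899 IH) (Lpe (K12.f171903 IH) (Lpe (K14.f171904 IH) (Lpe (K16.f171905 IH) (Lpn (LP (LK LD1_c2 LD2_c25 LD3_c25))))))))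
theorem f365471 : Led Lsl_dt (LP (LK LD1_c15 LD2_c47 LD3_c3)) = (LP (LK LD1_c25 LD2_c43 LD3_c46)) :=
  Lre_d IH (LK LD1_c15 LD2_c47 LD3_c3) (LK LD1_c25 LD2_c43 LD3_c46) Lrfl Lrfl
theorem f365472 : Led Lsl_ct (LP (LK LD1_c25 LD2_c43 LD3_c46)) = (LP (LK LD1_c31 LD2_c58 LD3_c56)) :=
  Lre_c IH (LK LD1_c25 LD2_c43 LD3_c46) (LK LD1_c31 LD2_c58 LD3_c56) Lrfl Lrfl
theorem f399448 : Led Lsl_bt (LP (LK LD1_c31 LD2_c58 LD3_c56)) = (LP (LK LD1_c26 LD2_c44 LD3_c4)) :=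
  Lgr Lrot178 (Lpe (f365472 IH) (Lpe (f365471 IH) (Lpr_gf (K30.f365464 IH) (Lpe (K30.f243565 IH) (Lpe (K14.f243556 IH) (Lpe (K11.f33445 IH) (Lpe (K14.f222165 IH) (Lpe (f311717 IH) (Lpr_cf (K19.f311713 IH) (Lpe (K14.f41972 IH) (Lpe (K16.f278157 IH) (Lpe (f226774 IH) (Lpr_cf (f226766 IH) (Lpe (K17.f165020 IH) (Lpr_gf (K17.f238315 IH) (Lpe (K20.f174455 IH) (Lpe (K20.f174456 IH) (Lpe (K20.f174493 IH) (Lpr_gf (f399443 IH) (Lpn (LP (LK LD1_c26 LD2_c44 LD3_c4))))))))))))))))))))))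
theorem f365473 : Led Lsl_ct (LP (LK LD1_c31 LD2_c58 LD3_c56)) = (LP (LK LD1_c25 LD2_c43 LD3_c46)) :=
  Lre_c IH (LK LD1_c31 LD2_c58 LD3_c56) (LK LD1_c25 LD2_c43 LD3_c46) Lrfl Lrfl
theorem f323079 : Led Lsl_ct (LP (LK LD1_c25 LD2_c57 LD3_c14)) = (LP (LK LD1_c15 LD2_c59 LD3_c57)) :=
  Lre_c IH (LK LD1_c25 LD2_c57 LD3_c14) (LK LD1_c15 LD2_c59 LD3_c57) Lrfl Lrfl
theorem f407057 : Led Lsl_gf (LP (LK LD1_c25 LD2_c43 LD3_c46)) = (LP (LK LD1_c15 LD2_c59 LD3_c57)) :=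
  Lgr Lrot129 (Lpe (f365473 IH) (Lpr_bt (f399448 IH) (Lpe (f399443 IH) (Lpr_bf (f174482 IH) (Lpr_ct (K16.f174484 IH) (Lpe (K31.f398603 IH) (Lpe (K31.f407044 IH) (Lpr_bt (f407051 IH) (Lpr_gt (f407052 IH) (Lpr_ct (f323079 IH) (Lpn (LP (LK LD1_c15 LD2_c59 LD3_c57)))))))))))))
theorem f323021 : Led Lsl_at (LP (LK LD1_c15 LD2_c58 LD3_c26)) = (LP (LK LD1_c25 LD2_c55 LD3_c26)) :=
  Lre_a IH (LK LD1_c15 LD2_c58 LD3_c26) (LK LD1_c25 LD2_c55 LD3_c26) Lrfl Lrfl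
theorem f407060 : Led Lsl_gt (LP (LK LD1_c25 LD2_c43 LD3_c46)) = (LP (LK LD1_c25 LD2_c55 LD3_c26)) :=
  Lgr Lrot46 (Lpr_gf (f407057 IH) (Lpr_ft (K27.f323031 IH) (Lpr_at (f323021 IH) (Lpn (LP (LK LD1_c25 LD2_c55 LD3_c26))))))
theorem f271549 : Led Lsl_ct (LP (LK LD1_c18 LD2_c44 LD3_c12)) = (LP (LK LD1_c28 LD2_c14 LD3_c13)) :=
  Lre_c IH (LK LD1_c18 LD2_c44 LD3_c12) (LK LD1_c28 LD2_c14 LD3_c13) Lrfl Lrfl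
theorem f374307 : Led Lsl_ff (LP (LK LD1_c25 LD2_c56 LD3_c5)) = (LP (LK LD1_c28 LD2_c14 LD3_c13)) :=
  Lgr Lrot23 (Lpr_ct (K51.f374271 IH) (Lpr_ft (K51.f374301 IH) (Lpr_ct (f271549 IH) (Lpn (LP (LK LD1_c28 LD2_c14 LD3_c13))))))
theorem f374311 : Led Lsl_ft (LP (LK LD1_c25 LD2_c56 LD3_c5)) = (LP (LK LD1_c28 LD2_c14 LD3_c13)) :=
  Lgr Lrot48 (Lpr_ff (f374307 IH) (Lpn (LP (LK LD1_c28 LD2_c14 LD3_c13))))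
theorem f271560 : Led Lsl_dt (LP (LK LD1_c28 LD2_c14 LD3_c13)) = (LP (LK LD1_c20 LD2_c10 LD3_c6)) :=
  Lgr Lrot42 (Lpr_df (K31.f271547 IH) (Lpn (LP (LK LD1_c20 LD2_c10 LD3_c6))))
theorem f417950 : Led Lsl_ft (LP (LK LD1_c20 LD2_c10 LD3_c6)) = (LP (LK LD1_c26 LD2_c48 LD3_c61)) :=
  Lgr Lrot54 (Lpe (f271560 IH) (Lpe (f374311 IH) (Lpr_df (K51.f417946 IH) (Lpn (LP (LK LD1_c26 LD2_c48 LD3_c61))))))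
theorem f417952 : Led Lsl_ff (LP (LK LD1_c20 LD2_c10 LD3_c6)) = (LP (LK LD1_c26 LD2_c48 LD3_c61)) :=
  Lgr Lrot3 (Lpr_ft (f417950 IH) (Lpn (LP (LK LD1_c26 LD2_c48 LD3_c61))))
theorem f380815 : Led Lsl_ct (LP (LK LD1_c10 LD2_c57 LD3_c40)) = (LP (LK LD1_c5 LD2_c32 LD3_c57)) :=
  Lre_c IH (LK LD1_c10 LD2_c57 LD3_c40) (LK LD1_c5 LD2_c32 LD3_c57) Lrfl Lrfl
theorem f266951 : Led Lsl_bt (LP (LK LD1_c10 LD2_c57 LD3_c40)) = (LP (LK LD1_c19 LD2_c47 LD3_c43)) :=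
  Lre_b IH (LK LD1_c10 LD2_c57 LD3_c40) (LK LD1_c19 LD2_c47 LD3_c43) Lrfl Lrfl
theorem f266952 : Led Lsl_gt (LP (LK LD1_c19 LD2_c47 LD3_c43)) = (LP (LK LD1_c29 LD2_c6 LD3_c0)) :=
  Lre_g IH (LK LD1_c19 LD2_c47 LD3_c43) (LK LD1_c29 LD2_c6 LD3_c0) Lrfl Lrfl
theorem f407055 : Led Lsl_gt (LP (LK LD1_c26 LD2_c49 LD3_c0)) = (LP (LK LD1_c16 LD2_c51 LD3_c56)) :=
  Lre_g IH (LK LD1_c26 LD2_c49 LD3_c0) (LK LD1_c16 LD2_c51 LD3_c56) Lrfl Lrfl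
theorem f562196 : Led Lsl_ct (LP (LK LD1_c29 LD2_c6 LD3_c0)) = (LP (LK LD1_c26 LD2_c49 LD3_c0)) :=
  Lgr Lrot91 (Lpe (f266952 IH) (Lpe (f266951 IH) (Lpr_ct (f380815 IH) (Lpr_gf (K31.f399804 IH) (Lpe (K30.f44743 IH) (Lpr_bt (K40.f354461 IH) (Lpe (K30.f174649 IH) (Lpe (K51.f354473 IH) (Lpr_ct (K51.f562194 IH) (Lpe (f407055 IH) (Lpn (LP (LK LD1_c26 LD2_c49 LD3_c0)))))))))))))
theorem f262683 : Led Lsl_bt (LP (LK LD1_c15 LD2_c43 LD3_c42)) = (LP (LK LD1_c8 LD2_c21 LD3_c28)) :=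
  Lre_b IH (LK LD1_c15 LD2_c43 LD3_c42) (LK LD1_c8 LD2_c21 LD3_c28) Lrfl Lrfl
theorem f262684 : Led Lsl_ct (LP (LK LD1_c25 LD2_c39 LD3_c52)) = (LP (LK LD1_c15 LD2_c43 LD3_c42)) :=
  Lre_c IH (LK LD1_c25 LD2_c39 LD3_c52) (LK LD1_c15 LD2_c43 LD3_c42) Lrfl Lrfl
theorem f205067 : Led Lsl_bt (LP (LK LD1_c1 LD2_c0 LD3_c39)) = (LP (LK LD1_c0 LD2_c27 LD3_c37)) :=
  Lre_b IH (LK LD1_c1 LD2_c0 LD3_c39) (LK LD1_c0 LD2_c27 LD3_c37) Lrfl Lrfl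
theorem f266949 : Led Lsl_dt (LP (LK LD1_c2 LD2_c42 LD3_c40)) = (LP (LK LD1_c5 LD2_c32 LD3_c57)) :=
  Lre_d IH (LK LD1_c2 LD2_c42 LD3_c40) (LK LD1_c5 LD2_c32 LD3_c57) Lrfl Lrfl
theorem f266953 : Led Lsl_df (LP (LK LD1_c25 LD2_c39 LD3_c52)) = (LP (LK LD1_c29 LD2_c6 LD3_c0)) :=
  Lgr Lrot183 (Lpr_ct (f262684 IH) (Lpr_bt (f262683 IH) (Lpr_gt (K15.f262678 IH) (Lpe (K14.f251962 IH) (Lpr_ct (K14.f230319 IH) (Lpr_bt (K12.f230946 IH) (Lpe (K14.f247414 IH) (Lpr_dt (K14.f247393 IH) (Lpr_ct (K15.f266939 IH) (Lpr_bt (f205067 IH) (Lpe (K9.f179516 IH) (Lpe (K9.f171261 IH) (Lpr_ct (K9.f178171 IH) (Lpr_bt (K24.f179525 IH) (Lpr_gt (K24.f213564 IH) (Lpr_dt (f266949 IH) (Lpr_ct (K50.f266950 IH) (Lpr_bt (f266951 IH) (Lpr_gt (f266952 IH) (Lpn (LP (LK LD1_c29 LD2_c6 LD3_c0))))))))))))))))))))))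
theorem f266957 : Led Lsl_dt (LP (LK LD1_c25 LD2_c39 LD3_c52)) = (LP (LK LD1_c29 LD2_c6 LD3_c0)) :=
  Lgr Lrot42 (Lpr_df (f266953 IH) (Lpn (LP (LK LD1_c29 LD2_c6 LD3_c0))))
theorem f262666 : Led Lsl_ct (LP (LK LD1_c15 LD2_c43 LD3_c42)) = (LP (LK LD1_c25 LD2_c39 LD3_c52)) :=
  Lre_c IH (LK LD1_c15 LD2_c43 LD3_c42) (LK LD1_c25 LD2_c39 LD3_c52) Lrfl Lrfl
theorem f290312 : Led Lsl_ft (LP (LK LD1_c16 LD2_c3 LD3_c14)) = (LP (LK LD1_c15 LD2_c43 LD3_c42)) :=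
  Lgr Lrot48 (Lpr_ff (K51.f290310 IH) (Lpn (LP (LK LD1_c15 LD2_c43 LD3_c42))))
theorem f290314 : Led Lsl_df (LP (LK LD1_c16 LD2_c3 LD3_c14)) = (LP (LK LD1_c8 LD2_c34 LD3_c18)) :=
  Lgr Lrot78 (Lpr_ft (f290312 IH) (Lpr_dt (K51.f262674 IH) (Lpe (K30.f191987 IH) (Lpn (LP (LK LD1_c8 LD2_c34 LD3_c18))))))
theorem f290316 : Led Lsl_dt (LP (LK LD1_c16 LD2_c3 LD3_c14)) = (LP (LK LD1_c8 LD2_c34 LD3_c18)) :=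
  Lgr Lrot42 (Lpr_df (f290314 IH) (Lpn (LP (LK LD1_c8 LD2_c34 LD3_c18))))
theorem f290318 : Led Lsl_df (LP (LK LD1_c15 LD2_c43 LD3_c42)) = (LP (LK LD1_c8 LD2_c22 LD3_c36)) :=
  Lgr Lrot78 (Lpe (K51.f290310 IH) (Lpr_dt (f290316 IH) (Lpr_ft (K27.f191983 IH) (Lpn (LP (LK LD1_c8 LD2_c22 LD3_c36))))))
theorem f562200 : Led Lsl_at (LP (LK LD1_c20 LD2_c10 LD3_c6)) = (LP (LK LD1_c26 LD2_c49 LD3_c0)) :=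
  Lgr Lrot33 (Lpr_ff (f417952 IH) (Lpe (K51.f417946 IH) (Lpr_ct (K51.f374271 IH) (Lpr_dt (K51.f243540 IH) (Lpe (K51.f374233 IH) (Lpe (f290318 IH) (Lpr_ct (f262666 IH) (Lpr_dt (f266957 IH) (Lpr_ct (f562196 IH) (Lpn (LP (LK LD1_c26 LD2_c49 LD3_c0))))))))))))
theorem f601816 : Led Lsl_gf (LP (LK LD1_c26 LD2_c49 LD3_c0)) = (LP (LK LD1_c20 LD2_c10 LD3_c8)) :=
  Lgr Lrot76 (Lpe (f562200 IH) (Lpr_ff (f417952 IH) (Lpr_gt (K51.f601811 IH) (Lpn (LP (LK LD1_c20 LD2_c10 LD3_c8))))))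
theorem f562180 : Led Lsl_ct (LP (LK LD1_c29 LD2_c21 LD3_c14)) = (LP (LK LD1_c28 LD2_c14 LD3_c17)) :=
  Lgr Lrot59 (Lpr_cf (K51.f562175 IH) (Lpn (LP (LK LD1_c28 LD2_c14 LD3_c17))))
theorem f562202 : Led Lsl_df (LP (LK LD1_c29 LD2_c21 LD3_c14)) = (LP (LK LD1_c26 LD2_c49 LD3_c0)) :=
  Lgr Lrot13 (Lpr_ct (f562180 IH) (Lpe (K51.f374330 IH) (Lpr_ct (K30.f374222 IH) (Lpe (K30.f191989 IH) (Lpr_ff (K30.f191987 IH) (Lpe (f290318 IH) (Lpr_ct (f262666 IH) (Lpr_dt (f266957 IH) (Lpr_ct (f562196 IH) (Lpn (LP (LK LD1_c26 LD2_c49 LD3_c0))))))))))))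
theorem f271562 : Led Lsl_at (LP (LK LD1_c28 LD2_c14 LD3_c17)) = (LP (LK LD1_c18 LD2_c44 LD3_c12)) :=
  Lre_a IH (LK LD1_c28 LD2_c14 LD3_c17) (LK LD1_c18 LD2_c44 LD3_c12) Lrfl Lrfl
theorem f374334 : Led Lsl_dt (LP (LK LD1_c25 LD2_c43 LD3_c44)) = (LP (LK LD1_c28 LD2_c14 LD3_c17)) :=
  Lgr Lrot44 (Lpr_af (K30.f374215 IH) (Lpr_df (K51.f374332 IH) (Lpe (f271562 IH) (Lpn (LP (LK LD1_c28 LD2_c14 LD3_c17))))))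
theorem f365474 : Led Lsl_dt (LP (LK LD1_c25 LD2_c43 LD3_c46)) = (LP (LK LD1_c15 LD2_c47 LD3_c3)) :=
  Lre_d IH (LK LD1_c25 LD2_c43 LD3_c46) (LK LD1_c15 LD2_c47 LD3_c3) Lrfl Lrfl
theorem f601818 : Led Lsl_dt (LP (LK LD1_c29 LD2_c19 LD3_c51)) = (LP (LK LD1_c20 LD2_c10 LD3_c8)) :=
  Lre_d IH (LK LD1_c29 LD2_c19 LD3_c51) (LK LD1_c20 LD2_c10 LD3_c8) Lrfl Lrfl
theorem f601820 : Led Lsl_gt (LP (LK LD1_c25 LD2_c57 LD3_c14)) = (LP (LK LD1_c29 LD2_c19 LD3_c51)) :=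
  Lgr Lrot94 (Lpe (f271673 IH) (Lpe (f407057 IH) (Lpr_dt (f365474 IH) (Lpr_gt (K30.f52112 IH) (Lpr_dt (f374334 IH) (Lpe (f562180 IH) (Lpr_df (f562202 IH) (Lpr_gf (f601816 IH) (Lpe (f601818 IH) (Lpn (LP (LK LD1_c29 LD2_c19 LD3_c51))))))))))))
theorem f191997 : Led Lsl_ct (LP (LK LD1_c15 LD2_c45 LD3_c42)) = (LP (LK LD1_c25 LD2_c42 LD3_c20)) :=
  Lre_c IH (LK LD1_c15 LD2_c45 LD3_c42) (LK LD1_c25 LD2_c42 LD3_c20) Lrfl Lrfl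
theorem f243588 : Led Lsl_gt (LP (LK LD1_c15 LD2_c59 LD3_c38)) = (LP (LK LD1_c8 LD2_c31 LD3_c11)) :=
  Lre_g IH (LK LD1_c15 LD2_c59 LD3_c38) (LK LD1_c8 LD2_c31 LD3_c11) Lrfl Lrfl
theorem f365475 : Led Lsl_dt (LP (LK LD1_c25 LD2_c56 LD3_c57)) = (LP (LK LD1_c15 LD2_c59 LD3_c38)) :=
  Lre_d IH (LK LD1_c25 LD2_c56 LD3_c57) (LK LD1_c15 LD2_c59 LD3_c38) Lrfl Lrfl
theorem f601824 : Led Lsl_gf (LP (LK LD1_c15 LD2_c59 LD3_c57)) = (LP (LK LD1_c25 LD2_c56 LD3_c57)) :=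
  Lgr Lrot147 (Lpr_ct (f271673 IH) (Lpr_gt (f601820 IH) (Lpe (K51.f601806 IH) (Lpe (K51.f374272 IH) (Lpe (f191997 IH) (Lpe (K51.f191981 IH) (Lpr_cf (K51.f374233 IH) (Lpe (f243588 IH) (Lpe (f365475 IH) (Lpn (LP (LK LD1_c25 LD2_c56 LD3_c57))))))))))))
theorem f323086 : Led Lsl_at (LP (LK LD1_c25 LD2_c57 LD3_c13)) = (LP (LK LD1_c15 LD2_c59 LD3_c57)) :=
  Lre_a IH (LK LD1_c25 LD2_c57 LD3_c13) (LK LD1_c15 LD2_c59 LD3_c57) Lrfl Lrfl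
theorem f323064 : Led Lsl_dt (LP (LK LD1_c15 LD2_c58 LD3_c25)) = (LP (LK LD1_c25 LD2_c55 LD3_c26)) :=
  Lre_d IH (LK LD1_c15 LD2_c58 LD3_c25) (LK LD1_c25 LD2_c55 LD3_c26) Lrfl Lrfl
theorem f323083 : Led Lsl_ft (LP (LK LD1_c25 LD2_c55 LD3_c26)) = (LP (LK LD1_c25 LD2_c57 LD3_c13)) :=
  Lgr Lrot54 (Lpe (f323064 IH) (Lpe (K40.f323069 IH) (Lpr_df (K27.f323076 IH) (Lpn (LP (LK LD1_c25 LD2_c57 LD3_c13))))))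
theorem f601827 : Led Lsl_gt (LP (LK LD1_c25 LD2_c55 LD3_c26)) = (LP (LK LD1_c25 LD2_c56 LD3_c57)) :=
  Lgr Lrot5 (Lpr_ft (f323083 IH) (Lpr_at (f323086 IH) (Lpr_gf (f601824 IH) (Lpn (LP (LK LD1_c25 LD2_c56 LD3_c57))))))
theorem f717171 : Led Lsl_at (LP (LK LD1_c16 LD2_c7 LD3_c4)) = (LP (LK LD1_c25 LD2_c56 LD3_c57)) :=
  Lgr Lrot26 (Lpr_ff (f717165 IH) (Lpr_gt (f407060 IH) (Lpr_gt (f601827 IH) (Lpn (LP (LK LD1_c25 LD2_c56 LD3_c57))))))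
theorem f271504 : Led Lsl_dt (LP (LK LD1_c8 LD2_c35 LD3_c45)) = (LP (LK LD1_c16 LD2_c7 LD3_c4)) :=
  Lre_d IH (LK LD1_c8 LD2_c35 LD3_c45) (LK LD1_c16 LD2_c7 LD3_c4) Lrfl Lrfl
theorem f717175 : Led Lsl_af (LP (LK LD1_c8 LD2_c35 LD3_c45)) = (LP (LK LD1_c15 LD2_c59 LD3_c38)) :=
  Lgr Lrot117 (Lpr_dt (f271504 IH) (Lpr_at (f717171 IH) (Lpr_dt (f365475 IH) (Lpn (LP (LK LD1_c15 LD2_c59 LD3_c38))))))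
theorem f365468 : Led Lsl_at (LP (LK LD1_c25 LD2_c43 LD3_c45)) = (LP (LK LD1_c15 LD2_c47 LD3_c3)) :=
  Lre_a IH (LK LD1_c25 LD2_c43 LD3_c45) (LK LD1_c15 LD2_c47 LD3_c3) Lrfl Lrfl
theorem f365469 : Led Lsl_ff (LP (LK LD1_c25 LD2_c43 LD3_c45)) = (LP (LK LD1_c15 LD2_c59 LD3_c38)) :=
  Lgr Lrot52 (Lpr_at (f365468 IH) (Lpr_gf (K30.f365464 IH) (Lpe (f243588 IH) (Lpn (LP (LK LD1_c15 LD2_c59 LD3_c38))))))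
theorem f365476 : Led Lsl_ft (LP (LK LD1_c25 LD2_c43 LD3_c45)) = (LP (LK LD1_c15 LD2_c59 LD3_c38)) :=
  Lgr Lrot48 (Lpr_ff (f365469 IH) (Lpn (LP (LK LD1_c15 LD2_c59 LD3_c38))))
theorem f717181 : Led Lsl_gf (LP (LK LD1_c15 LD2_c57 LD3_c7)) = (LP (LK LD1_c25 LD2_c43 LD3_c45)) :=
  Lgr Lrot47 (Lpr_gt (K41.f271494 IH) (Lpr_af (f717175 IH) (Lpe (f365476 IH) (Lpn (LP (LK LD1_c25 LD2_c43 LD3_c45))))))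
theorem f199963 : Led Lsl_bt (LP (LK LD1_c20 LD2_c54 LD3_c53)) = (LP (LK LD1_c11 LD2_c52 LD3_c6)) :=
  Lre_b IH (LK LD1_c20 LD2_c54 LD3_c53) (LK LD1_c11 LD2_c52 LD3_c6) Lrfl Lrfl
theorem f717187 : Led Lsl_ct (LP (LK LD1_c20 LD2_c54 LD3_c53)) = (LP (LK LD1_c25 LD2_c43 LD3_c45)) :=
  Lgr Lrot64 (Lpr_bt (f199963 IH) (Lpe (f29096 IH) (Lpe (K11.f29110 IH) (Lpr_ct (K9.f29051 IH) (Lpr_gf (K20.f304502 IH) (Lpe (K19.f304511 IH) (Lpe (K19.f310076 IH) (Lpe (K30.f188826 IH) (Lpe (K30.f271480 IH) (Lpr_gf (f717181 IH) (Lpn (LP (LK LD1_c25 LD2_c43 LD3_c45)))))))))))))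
theorem f271563 : Led Lsl_dt (LP (LK LD1_c20 LD2_c10 LD3_c9)) = (LP (LK LD1_c11 LD2_c15 LD3_c9)) :=
  Lre_d IH (LK LD1_c20 LD2_c10 LD3_c9) (LK LD1_c11 LD2_c15 LD3_c9) Lrfl Lrfl
theorem f271564 : Led Lsl_gt (LP (LK LD1_c29 LD2_c19 LD3_c53)) = (LP (LK LD1_c20 LD2_c10 LD3_c9)) :=
  Lre_g IH (LK LD1_c29 LD2_c19 LD3_c53) (LK LD1_c20 LD2_c10 LD3_c9) Lrfl Lrfl
theorem f73090 : Led Lsl_at (LP (LK LD1_c20 LD2_c21 LD3_c45)) = (LP (LK LD1_c11 LD2_c23 LD3_c50)) :=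
  Lre_a IH (LK LD1_c20 LD2_c21 LD3_c45) (LK LD1_c11 LD2_c23 LD3_c50) Lrfl Lrfl
theorem f561903 : Led Lsl_at (LP (LK LD1_c11 LD2_c15 LD3_c50)) = (LP (LK LD1_c20 LD2_c11 LD3_c26)) :=
  Lre_a IH (LK LD1_c11 LD2_c15 LD3_c50) (LK LD1_c20 LD2_c11 LD3_c26) Lrfl Lrfl
theorem f561904 : Led Lsl_ff (LP (LK LD1_c20 LD2_c21 LD3_c45)) = (LP (LK LD1_c20 LD2_c11 LD3_c26)) :=
  Lgr Lrot30 (Lpr_at (f73090 IH) (Lpr_ft (K40.f561901 IH) (Lpr_at (f561903 IH) (Lpn (LP (LK LD1_c20 LD2_c11 LD3_c26))))))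
theorem f73080 : Led Lsl_gt (LP (LK LD1_c20 LD2_c21 LD3_c44)) = (LP (LK LD1_c11 LD2_c23 LD3_c50)) :=
  Lre_g IH (LK LD1_c20 LD2_c21 LD3_c44) (LK LD1_c11 LD2_c23 LD3_c50) Lrfl Lrfl
theorem f616997 : Led Lsl_gf (LP (LK LD1_c20 LD2_c21 LD3_c44)) = (LP (LK LD1_c20 LD2_c11 LD3_c26)) :=
  Lgr Lrot47 (Lpr_gt (f73080 IH) (Lpe (f73090 IH) (Lpr_ff (f561904 IH) (Lpn (LP (LK LD1_c20 LD2_c11 LD3_c26))))))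
theorem f616775 : Led Lsl_dt (LP (LK LD1_c20 LD2_c21 LD3_c44)) = (LP (LK LD1_c29 LD2_c25 LD3_c24)) :=
  Lre_d IH (LK LD1_c20 LD2_c21 LD3_c44) (LK LD1_c29 LD2_c25 LD3_c24) Lrfl Lrfl
theorem f561917 : Led Lsl_dt (LP (LK LD1_c29 LD2_c21 LD3_c13)) = (LP (LK LD1_c20 LD2_c11 LD3_c26)) :=
  Lre_d IH (LK LD1_c29 LD2_c21 LD3_c13) (LK LD1_c20 LD2_c11 LD3_c26) Lrfl Lrfl
theorem f384113 : Led Lsl_bt (LP (LK LD1_c11 LD2_c18 LD3_c35)) = (LP (LK LD1_c20 LD2_c15 LD3_c4)) :=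
  Lre_b IH (LK LD1_c11 LD2_c18 LD3_c35) (LK LD1_c20 LD2_c15 LD3_c4) Lrfl Lrfl
theorem f562136 : Led Lsl_ft (LP (LK LD1_c20 LD2_c15 LD3_c4)) = (LP (LK LD1_c20 LD2_c12 LD3_c60)) :=
  Lgr Lrot75 (Lpe (f384113 IH) (Lpr_ff (K40.f562134 IH) (Lpe (K40.f383942 IH) (Lpn (LP (LK LD1_c20 LD2_c12 LD3_c60))))))
theorem f220136 : Led Lsl_gt (LP (LK LD1_c15 LD2_c35 LD3_c19)) = (LP (LK LD1_c8 LD2_c17 LD3_c26)) :=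
  Lre_g IH (LK LD1_c15 LD2_c35 LD3_c19) (LK LD1_c8 LD2_c17 LD3_c26) Lrfl Lrfl
theorem f383797 : Led Lsl_bt (LP (LK LD1_c20 LD2_c15 LD3_c4)) = (LP (LK LD1_c11 LD2_c18 LD3_c35)) :=
  Lre_b IH (LK LD1_c20 LD2_c15 LD3_c4) (LK LD1_c11 LD2_c18 LD3_c35) Lrfl Lrfl
theorem f384110 : Led Lsl_cf (LP (LK LD1_c15 LD2_c35 LD3_c19)) = (LP (LK LD1_c20 LD2_c15 LD3_c4)) :=
  Lgr Lrot160 (Lpr_gt (f220136 IH) (Lpr_cf (K21.f220128 IH) (Lpr_bt (K21.f220089 IH) (Lpr_gt (K14.f246682 IH) (Lpr_ct (K14.f211426 IH) (Lpr_gt (K19.f187077 IH) (Lpe (K19.f179748 IH) (Lpr_bt (K27.f383440 IH) (Lpr_gt (K40.f381806 IH) (Lpe (f383797 IH) (Lpn (LP (LK LD1_c20 LD2_c15 LD3_c4)))))))))))))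
theorem f384114 : Led Lsl_ct (LP (LK LD1_c15 LD2_c35 LD3_c19)) = (LP (LK LD1_c20 LD2_c15 LD3_c4)) :=
  Lgr Lrot59 (Lpr_cf (f384110 IH) (Lpn (LP (LK LD1_c20 LD2_c15 LD3_c4))))
theorem f616602 : Led Lsl_ff (LP (LK LD1_c15 LD2_c35 LD3_c19)) = (LP (LK LD1_c19 LD2_c35 LD3_c43)) :=
  Lgr Lrot23 (Lpr_ct (f384114 IH) (Lpr_ft (f562136 IH) (Lpe (K40.f383943 IH) (Lpn (LP (LK LD1_c19 LD2_c35 LD3_c43))))))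
theorem f216859 : Led Lsl_gt (LP (LK LD1_c10 LD2_c50 LD3_c21)) = (LP (LK LD1_c19 LD2_c35 LD3_c42)) :=
  Lre_g IH (LK LD1_c10 LD2_c50 LD3_c21) (LK LD1_c19 LD2_c35 LD3_c42) Lrfl Lrfl
theorem f616608 : Led Lsl_at (LP (LK LD1_c15 LD2_c35 LD3_c19)) = (LP (LK LD1_c19 LD2_c35 LD3_c42)) :=
  Lgr Lrot26 (Lpr_ff (f616602 IH) (Lpr_gt (K40.f234677 IH) (Lpr_gt (f216859 IH) (Lpn (LP (LK LD1_c19 LD2_c35 LD3_c42))))))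
theorem f616610 : Led Lsl_af (LP (LK LD1_c15 LD2_c35 LD3_c19)) = (LP (LK LD1_c19 LD2_c35 LD3_c42)) :=
  Lgr Lrot0 (Lpr_at (f616608 IH) (Lpn (LP (LK LD1_c19 LD2_c35 LD3_c42))))
theorem f220143 : Led Lsl_at (LP (LK LD1_c15 LD2_c35 LD3_c20)) = (LP (LK LD1_c8 LD2_c17 LD3_c26)) :=
  Lre_a IH (LK LD1_c15 LD2_c35 LD3_c20) (LK LD1_c8 LD2_c17 LD3_c26) Lrfl Lrfl
theorem f329320 : Led Lsl_gf (LP (LK LD1_c15 LD2_c35 LD3_c19)) = (LP (LK LD1_c19 LD2_c35 LD3_c44)) :=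
  Lgr Lrot47 (Lpr_gt (f220136 IH) (Lpe (f220143 IH) (Lpr_ff (K21.f329312 IH) (Lpn (LP (LK LD1_c19 LD2_c35 LD3_c44))))))
theorem f220086 : Led Lsl_bt (LP (LK LD1_c4 LD2_c8 LD3_c42)) = (LP (LK LD1_c8 LD2_c17 LD3_c26)) :=
  Lre_b IH (LK LD1_c4 LD2_c8 LD3_c42) (LK LD1_c8 LD2_c17 LD3_c26) Lrfl Lrfl
theorem f329230 : Led Lsl_ft (LP (LK LD1_c8 LD2_c17 LD3_c26)) = (LP (LK LD1_c10 LD2_c50 LD3_c21)) :=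
  Lgr Lrot75 (Lpe (f220086 IH) (Lpr_ff (K21.f329226 IH) (Lpe (K21.f222930 IH) (Lpn (LP (LK LD1_c10 LD2_c50 LD3_c21))))))
theorem f220100 : Led Lsl_gt (LP (LK LD1_c8 LD2_c17 LD3_c26)) = (LP (LK LD1_c15 LD2_c35 LD3_c18)) :=
  Lre_g IH (LK LD1_c8 LD2_c17 LD3_c26) (LK LD1_c15 LD2_c35 LD3_c18) Lrfl Lrfl
theorem f401559 : Led Lsl_gt (LP (LK LD1_c15 LD2_c35 LD3_c18)) = (LP (LK LD1_c19 LD2_c35 LD3_c44)) :=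
  Lgr Lrot46 (Lpe (f220100 IH) (Lpr_ft (f329230 IH) (Lpr_at (K21.f250792 IH) (Lpn (LP (LK LD1_c19 LD2_c35 LD3_c44))))))
theorem f616616 : Led Lsl_ft (LP (LK LD1_c15 LD2_c35 LD3_c18)) = (LP (LK LD1_c19 LD2_c35 LD3_c42)) :=
  Lgr Lrot2 (Lpr_gt (f401559 IH) (Lpe (f329320 IH) (Lpr_af (f616610 IH) (Lpn (LP (LK LD1_c19 LD2_c35 LD3_c42))))))
theorem f616622 : Led Lsl_ff (LP (LK LD1_c15 LD2_c35 LD3_c18)) = (LP (LK LD1_c19 LD2_c35 LD3_c42)) :=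
  Lgr Lrot3 (Lpr_ft (f616616 IH) (Lpn (LP (LK LD1_c19 LD2_c35 LD3_c42))))
theorem f400695 : Led Lsl_bt (LP (LK LD1_c15 LD2_c35 LD3_c18)) = (LP (LK LD1_c25 LD2_c29 LD3_c20)) :=
  Lre_b IH (LK LD1_c15 LD2_c35 LD3_c18) (LK LD1_c25 LD2_c29 LD3_c20) Lrfl Lrfl
theorem f283197 : Led Lsl_dt (LP (LK LD1_c16 LD2_c1 LD3_c9)) = (LP (LK LD1_c15 LD2_c56 LD3_c48)) :=
  Lgr Lrot79 (Lpe (K18.f271671 IH) (Lpr_df (K17.f283192 IH) (Lpe (K40.f283178 IH) (Lpn (LP (LK LD1_c15 LD2_c56 LD3_c48))))))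
theorem f244761 : Led Lsl_dt (LP (LK LD1_c8 LD2_c30 LD3_c11)) = (LP (LK LD1_c15 LD2_c58 LD3_c5)) :=
  Lre_d IH (LK LD1_c8 LD2_c30 LD3_c11) (LK LD1_c15 LD2_c58 LD3_c5) Lrfl Lrfl
theorem f295607 : Led Lsl_ft (LP (LK LD1_c15 LD2_c56 LD3_c48)) = (LP (LK LD1_c8 LD2_c30 LD3_c11)) :=
  Lgr Lrot54 (Lpe (f283197 IH) (Lpr_ff (K18.f295596 IH) (Lpe (f244761 IH) (Lpn (LP (LK LD1_c8 LD2_c30 LD3_c11))))))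
theorem f295611 : Led Lsl_at (LP (LK LD1_c8 LD2_c30 LD3_c11)) = (LP (LK LD1_c15 LD2_c58 LD3_c4)) :=
  Lre_a IH (LK LD1_c8 LD2_c30 LD3_c11) (LK LD1_c15 LD2_c58 LD3_c4) Lrfl Lrfl
theorem f400647 : Led Lsl_ft (LP (LK LD1_c15 LD2_c58 LD3_c4)) = (LP (LK LD1_c25 LD2_c43 LD3_c28)) :=
  Lgr Lrot101 (Lpe (f295611 IH) (Lpe (f295607 IH) (Lpr_af (K40.f400640 IH) (Lpn (LP (LK LD1_c25 LD2_c43 LD3_c28))))))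
theorem f400624 : Led Lsl_bt (LP (LK LD1_c25 LD2_c43 LD3_c28)) = (LP (LK LD1_c15 LD2_c46 LD3_c46)) :=
  Lre_b IH (LK LD1_c25 LD2_c43 LD3_c28) (LK LD1_c15 LD2_c46 LD3_c46) Lrfl Lrfl
theorem f400651 : Led Lsl_bf (LP (LK LD1_c15 LD2_c58 LD3_c4)) = (LP (LK LD1_c10 LD2_c52 LD3_c4)) :=
  Lgr Lrot61 (Lpr_ft (f400647 IH) (Lpr_bt (f400624 IH) (Lpe (K40.f400620 IH) (Lpn (LP (LK LD1_c10 LD2_c52 LD3_c4))))))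
theorem f179724 : Led Lsl_bt (LP (LK LD1_c2 LD2_c5 LD3_c51)) = (LP (LK LD1_c4 LD2_c17 LD3_c5)) :=
  Lre_b IH (LK LD1_c2 LD2_c5 LD3_c51) (LK LD1_c4 LD2_c17 LD3_c5) Lrfl Lrfl
theorem f245851 : Led Lsl_ft (LP (LK LD1_c2 LD2_c5 LD3_c49)) = (LP (LK LD1_c2 LD2_c2 LD3_c25)) :=
  Lgr Lrot4 (Lpe (K12.f53388 IH) (Lpr_ff (K13.f245849 IH) (Lpe (K9.f53442 IH) (Lpn (LP (LK LD1_c2 LD2_c2 LD3_c25))))))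
theorem f245885 : Led Lsl_af (LP (LK LD1_c2 LD2_c5 LD3_c51)) = (LP (LK LD1_c2 LD2_c2 LD3_c25)) :=
  Lgr Lrot109 (Lpe (K9.f53387 IH) (Lpr_df (K13.f245873 IH) (Lpe (K30.f245879 IH) (Lpr_df (K9.f178484 IH) (Lpr_cf (K9.f168320 IH) (Lpe (K9.f168325 IH) (Lpe (K15.f168326 IH) (Lpr_df (K15.f237794 IH) (Lpr_ft (f245851 IH) (Lpn (LP (LK LD1_c2 LD2_c2 LD3_c25))))))))))))
theorem f400597 : Led Lsl_bf (LP (LK LD1_c8 LD2_c21 LD3_c2)) = (LP (LK LD1_c8 LD2_c23 LD3_c21)) :=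
  Lgr Lrot81 (Lpr_at (K49.f220330 IH) (Lpr_bt (K15.f167078 IH) (Lpe (f245885 IH) (Lpr_bt (f179724 IH) (Lpr_at (K40.f400513 IH) (Lpn (LP (LK LD1_c8 LD2_c23 LD3_c21))))))))
theorem f260712 : Led Lsl_at (LP (LK LD1_c8 LD2_c33 LD3_c26)) = (LP (LK LD1_c4 LD2_c17 LD3_c1)) :=
  Lre_a IH (LK LD1_c8 LD2_c33 LD3_c26) (LK LD1_c4 LD2_c17 LD3_c1) Lrfl Lrfl
theorem f220324 : Led Lsl_at (LP (LK LD1_c4 LD2_c10 LD3_c23)) = (LP (LK LD1_c8 LD2_c21 LD3_c2)) :=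
  Lre_a IH (LK LD1_c4 LD2_c10 LD3_c23) (LK LD1_c8 LD2_c21 LD3_c2) Lrfl Lrfl
theorem f260713 : Led Lsl_ff (LP (LK LD1_c8 LD2_c33 LD3_c26)) = (LP (LK LD1_c8 LD2_c21 LD3_c2)) :=
  Lgr Lrot30 (Lpr_at (f260712 IH) (Lpr_ft (K15.f260710 IH) (Lpr_at (f220324 IH) (Lpn (LP (LK LD1_c8 LD2_c21 LD3_c2))))))
theorem f400618 : Led Lsl_bf (LP (LK LD1_c5 LD2_c30 LD3_c59)) = (LP (LK LD1_c8 LD2_c33 LD3_c26)) :=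
  Lgr Lrot61 (Lpr_ft (K40.f400615 IH) (Lpe (f400597 IH) (Lpe (f260713 IH) (Lpn (LP (LK LD1_c8 LD2_c33 LD3_c26))))))
theorem f260695 : Led Lsl_ct (LP (LK LD1_c16 LD2_c3 LD3_c41)) = (LP (LK LD1_c8 LD2_c33 LD3_c26)) :=
  Lre_c IH (LK LD1_c16 LD2_c3 LD3_c41) (LK LD1_c8 LD2_c33 LD3_c26) Lrfl Lrfl
theorem f260666 : Led Lsl_at (LP (LK LD1_c8 LD2_c33 LD3_c22)) = (LP (LK LD1_c16 LD2_c3 LD3_c41)) :=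
  Lre_a IH (LK LD1_c8 LD2_c33 LD3_c22) (LK LD1_c16 LD2_c3 LD3_c41) Lrfl Lrfl
theorem f216856 : Led Lsl_bt (LP (LK LD1_c8 LD2_c17 LD3_c17)) = (LP (LK LD1_c4 LD2_c8 LD3_c38)) :=
  Lre_b IH (LK LD1_c8 LD2_c17 LD3_c17) (LK LD1_c4 LD2_c8 LD3_c38) Lrfl Lrfl
theorem f260667 : Led Lsl_at (LP (LK LD1_c15 LD2_c35 LD3_c7)) = (LP (LK LD1_c8 LD2_c17 LD3_c17)) :=
  Lre_a IH (LK LD1_c15 LD2_c35 LD3_c7) (LK LD1_c8 LD2_c17 LD3_c17) Lrfl Lrfl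
theorem f260668 : Led Lsl_bt (LP (LK LD1_c16 LD2_c3 LD3_c41)) = (LP (LK LD1_c15 LD2_c35 LD3_c7)) :=
  Lgr Lrot62 (Lpe (f260666 IH) (Lpe (K49.f167751 IH) (Lpr_af (K15.f260662 IH) (Lpe (f216856 IH) (Lpe (f260667 IH) (Lpn (LP (LK LD1_c15 LD2_c35 LD3_c7))))))))
theorem f260692 : Led Lsl_bf (LP (LK LD1_c16 LD2_c3 LD3_c41)) = (LP (LK LD1_c15 LD2_c35 LD3_c7)) :=
  Lgr Lrot24 (Lpr_bt (f260668 IH) (Lpn (LP (LK LD1_c15 LD2_c35 LD3_c7))))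
theorem f400660 : Led Lsl_ct (LP (LK LD1_c15 LD2_c58 LD3_c4)) = (LP (LK LD1_c15 LD2_c35 LD3_c7)) :=
  Lgr Lrot83 (Lpr_bf (f400651 IH) (Lpe (K50.f295656 IH) (Lpr_bf (f400618 IH) (Lpe (f260695 IH) (Lpr_bf (f260692 IH) (Lpn (LP (LK LD1_c15 LD2_c35 LD3_c7))))))))
theorem f400666 : Led Lsl_cf (LP (LK LD1_c8 LD2_c30 LD3_c11)) = (LP (LK LD1_c8 LD2_c17 LD3_c17)) :=
  Lgr Lrot1 (Lpr_at (f295611 IH) (Lpr_ct (f400660 IH) (Lpr_at (f260667 IH) (Lpn (LP (LK LD1_c8 LD2_c17 LD3_c17))))))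
theorem f243384 : Led Lsl_gt (LP (LK LD1_c15 LD2_c58 LD3_c3)) = (LP (LK LD1_c8 LD2_c30 LD3_c11)) :=
  Lre_g IH (LK LD1_c15 LD2_c58 LD3_c3) (LK LD1_c8 LD2_c30 LD3_c11) Lrfl Lrfl
theorem f400659 : Led Lsl_ct (LP (LK LD1_c25 LD2_c54 LD3_c56)) = (LP (LK LD1_c15 LD2_c58 LD3_c3)) :=
  Lre_c IH (LK LD1_c25 LD2_c54 LD3_c56) (LK LD1_c15 LD2_c58 LD3_c3) Lrfl Lrfl
theorem f216858 : Led Lsl_bt (LP (LK LD1_c5 LD2_c29 LD3_c33)) = (LP (LK LD1_c10 LD2_c50 LD3_c21)) :=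
  Lre_b IH (LK LD1_c5 LD2_c29 LD3_c33) (LK LD1_c10 LD2_c50 LD3_c21) Lrfl Lrfl
theorem f400712 : Led Lsl_bt (LP (LK LD1_c25 LD2_c54 LD3_c56)) = (LP (LK LD1_c19 LD2_c35 LD3_c42)) :=
  Lgr Lrot92 (Lpr_ct (f400659 IH) (Lpr_gt (f243384 IH) (Lpr_cf (f400666 IH) (Lpr_bt (f216856 IH) (Lpe (K13.f216850 IH) (Lpr_ct (K12.f168456 IH) (Lpr_gt (K14.f168370 IH) (Lpe (K14.f216857 IH) (Lpr_bt (f216858 IH) (Lpr_gt (f216859 IH) (Lpn (LP (LK LD1_c19 LD2_c35 LD3_c42)))))))))))))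
theorem f616626 : Led Lsl_ft (LP (LK LD1_c25 LD2_c29 LD3_c20)) = (LP (LK LD1_c25 LD2_c54 LD3_c56)) :=
  Lgr Lrot75 (Lpe (f400695 IH) (Lpr_ff (f616622 IH) (Lpe (f400712 IH) (Lpn (LP (LK LD1_c25 LD2_c54 LD3_c56))))))
theorem f400888 : Led Lsl_at (LP (LK LD1_c25 LD2_c29 LD3_c49)) = (LP (LK LD1_c15 LD2_c35 LD3_c32)) :=
  Lre_a IH (LK LD1_c25 LD2_c29 LD3_c49) (LK LD1_c15 LD2_c35 LD3_c32) Lrfl Lrfl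
theorem f400668 : Led Lsl_cf (LP (LK LD1_c15 LD2_c58 LD3_c4)) = (LP (LK LD1_c15 LD2_c35 LD3_c7)) :=
  Lgr Lrot11 (Lpr_ct (f400660 IH) (Lpn (LP (LK LD1_c15 LD2_c35 LD3_c7))))
theorem f400655 : Led Lsl_at (LP (LK LD1_c15 LD2_c58 LD3_c4)) = (LP (LK LD1_c8 LD2_c30 LD3_c11)) :=
  Lre_a IH (LK LD1_c15 LD2_c58 LD3_c4) (LK LD1_c8 LD2_c30 LD3_c11) Lrfl Lrfl
theorem f260697 : Led Lsl_at (LP (LK LD1_c8 LD2_c17 LD3_c17)) = (LP (LK LD1_c15 LD2_c35 LD3_c7)) :=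
  Lre_a IH (LK LD1_c8 LD2_c17 LD3_c17) (LK LD1_c15 LD2_c35 LD3_c7) Lrfl Lrfl
theorem f400670 : Led Lsl_ct (LP (LK LD1_c8 LD2_c30 LD3_c11)) = (LP (LK LD1_c8 LD2_c17 LD3_c17)) :=
  Lgr Lrot111 (Lpe (f400655 IH) (Lpr_cf (f400668 IH) (Lpe (f260697 IH) (Lpn (LP (LK LD1_c8 LD2_c17 LD3_c17))))))
theorem f250711 : Led Lsl_bt (LP (LK LD1_c15 LD2_c33 LD3_c23)) = (LP (LK LD1_c8 LD2_c16 LD3_c26)) :=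
  Lre_b IH (LK LD1_c15 LD2_c33 LD3_c23) (LK LD1_c8 LD2_c16 LD3_c26) Lrfl Lrfl
theorem f234205 : Led Lsl_bt (LP (LK LD1_c4 LD2_c8 LD3_c38)) = (LP (LK LD1_c8 LD2_c17 LD3_c17)) :=
  Lre_b IH (LK LD1_c4 LD2_c8 LD3_c38) (LK LD1_c8 LD2_c17 LD3_c17) Lrfl Lrfl
theorem f260655 : Led Lsl_ff (LP (LK LD1_c15 LD2_c33 LD3_c23)) = (LP (LK LD1_c8 LD2_c17 LD3_c17)) :=
  Lgr Lrot25 (Lpr_bt (f250711 IH) (Lpr_ft (K15.f260652 IH) (Lpr_bt (f234205 IH) (Lpn (LP (LK LD1_c8 LD2_c17 LD3_c17))))))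
theorem f400677 : Led Lsl_cf (LP (LK LD1_c15 LD2_c56 LD3_c48)) = (LP (LK LD1_c15 LD2_c33 LD3_c23)) :=
  Lgr Lrot108 (Lpr_ft (f295607 IH) (Lpr_ct (f400670 IH) (Lpe (f260655 IH) (Lpn (LP (LK LD1_c15 LD2_c33 LD3_c23))))))
theorem f399613 : Led Lsl_gt (LP (LK LD1_c25 LD2_c53 LD3_c21)) = (LP (LK LD1_c15 LD2_c56 LD3_c48)) :=
  Lre_g IH (LK LD1_c25 LD2_c53 LD3_c21) (LK LD1_c15 LD2_c56 LD3_c48) Lrfl Lrfl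
theorem f220132 : Led Lsl_bt (LP (LK LD1_c25 LD2_c29 LD3_c20)) = (LP (LK LD1_c15 LD2_c35 LD3_c18)) :=
  Lre_b IH (LK LD1_c25 LD2_c29 LD3_c20) (LK LD1_c15 LD2_c35 LD3_c18) Lrfl Lrfl
theorem f400693 : Led Lsl_cf (LP (LK LD1_c25 LD2_c53 LD3_c21)) = (LP (LK LD1_c25 LD2_c29 LD3_c20)) :=
  Lgr Lrot160 (Lpr_gt (f399613 IH) (Lpr_cf (f400677 IH) (Lpr_bt (f250711 IH) (Lpr_gt (K14.f250687 IH) (Lpr_ct (K14.f173264 IH) (Lpe (K14.f246691 IH) (Lpe (K14.f220092 IH) (Lpr_bt (f220086 IH) (Lpr_gt (f220100 IH) (Lpe (f220132 IH) (Lpn (LP (LK LD1_c25 LD2_c29 LD3_c20)))))))))))))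
theorem f400698 : Led Lsl_gt (LP (LK LD1_c26 LD2_c16 LD3_c55)) = (LP (LK LD1_c25 LD2_c29 LD3_c20)) :=
  Lgr Lrot82 (Lpe (K38.f250713 IH) (Lpr_ct (K38.f250712 IH) (Lpe (K38.f193277 IH) (Lpe (K19.f232285 IH) (Lpr_bt (K18.f232283 IH) (Lpe (K14.f250687 IH) (Lpe (f250711 IH) (Lpe (f400677 IH) (Lpe (f399613 IH) (Lpr_cf (f400693 IH) (Lpn (LP (LK LD1_c25 LD2_c29 LD3_c20)))))))))))))
theorem f400999 : Led Lsl_gf (LP (LK LD1_c15 LD2_c35 LD3_c32)) = (LP (LK LD1_c25 LD2_c29 LD3_c20)) :=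
  Lgr Lrot76 (Lpe (f400888 IH) (Lpr_ff (K38.f400994 IH) (Lpr_gt (f400698 IH) (Lpn (LP (LK LD1_c25 LD2_c29 LD3_c20))))))
theorem f263828 : Led Lsl_gt (LP (LK LD1_c15 LD2_c35 LD3_c32)) = (LP (LK LD1_c25 LD2_c29 LD3_c48)) :=
  Lre_g IH (LK LD1_c15 LD2_c35 LD3_c32) (LK LD1_c25 LD2_c29 LD3_c48) Lrfl Lrfl
theorem f616631 : Led Lsl_af (LP (LK LD1_c25 LD2_c29 LD3_c48)) = (LP (LK LD1_c25 LD2_c54 LD3_c56)) :=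
  Lgr Lrot31 (Lpe (f263828 IH) (Lpr_gf (f400999 IH) (Lpr_ft (f616626 IH) (Lpn (LP (LK LD1_c25 LD2_c54 LD3_c56))))))
theorem f282707 : Led Lsl_gt (LP (LK LD1_c15 LD2_c56 LD3_c48)) = (LP (LK LD1_c25 LD2_c53 LD3_c20)) :=
  Lre_g IH (LK LD1_c15 LD2_c56 LD3_c48) (LK LD1_c25 LD2_c53 LD3_c20) Lrfl Lrfl
theorem f295612 : Led Lsl_gt (LP (LK LD1_c25 LD2_c53 LD3_c20)) = (LP (LK LD1_c15 LD2_c58 LD3_c4)) :=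
  Lgr Lrot46 (Lpe (f282707 IH) (Lpr_ft (f295607 IH) (Lpr_at (f295611 IH) (Lpn (LP (LK LD1_c15 LD2_c58 LD3_c4))))))
theorem f263810 : Led Lsl_bt (LP (LK LD1_c4 LD2_c53 LD3_c39)) = (LP (LK LD1_c9 LD2_c39 LD3_c5)) :=
  Lre_b IH (LK LD1_c4 LD2_c53 LD3_c39) (LK LD1_c9 LD2_c39 LD3_c5) Lrfl Lrfl
theorem f263811 : Led Lsl_bt (LP (LK LD1_c17 LD2_c45 LD3_c28)) = (LP (LK LD1_c9 LD2_c39 LD3_c11)) :=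
  Lre_b IH (LK LD1_c17 LD2_c45 LD3_c28) (LK LD1_c9 LD2_c39 LD3_c11) Lrfl Lrfl
theorem f263813 : Led Lsl_cf (LP (LK LD1_c17 LD2_c45 LD3_c28)) = (LP (LK LD1_c25 LD2_c29 LD3_c18)) :=
  Lgr Lrot97 (Lpr_bt (f263811 IH) (Lpr_ct (K27.f2853 IH) (Lpr_bt (f263810 IH) (Lpr_ct (K49.f263807 IH) (Lpr_bt (K49.f263812 IH) (Lpn (LP (LK LD1_c25 LD2_c29 LD3_c18))))))))
theorem f400672 : Led Lsl_cf (LP (LK LD1_c25 LD2_c53 LD3_c20)) = (LP (LK LD1_c25 LD2_c29 LD3_c48)) :=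
  Lgr Lrot125 (Lpr_gt (f295612 IH) (Lpr_cf (f400668 IH) (Lpe (f260692 IH) (Lpe (K49.f396948 IH) (Lpe (K49.f220334 IH) (Lpe (f263813 IH) (Lpr_gt (K27.f263804 IH) (Lpe (K27.f263826 IH) (Lpr_bt (K49.f263827 IH) (Lpr_gt (f263828 IH) (Lpn (LP (LK LD1_c25 LD2_c29 LD3_c48)))))))))))))
theorem f400658 : Led Lsl_ct (LP (LK LD1_c15 LD2_c58 LD3_c3)) = (LP (LK LD1_c25 LD2_c54 LD3_c56)) :=
  Lre_c IH (LK LD1_c15 LD2_c58 LD3_c3) (LK LD1_c25 LD2_c54 LD3_c56) Lrfl Lrfl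
theorem f616635 : Led Lsl_at (LP (LK LD1_c25 LD2_c53 LD3_c20)) = (LP (LK LD1_c15 LD2_c58 LD3_c3)) :=
  Lgr Lrot107 (Lpr_cf (f400672 IH) (Lpr_af (f616631 IH) (Lpe (f400658 IH) (Lpn (LP (LK LD1_c15 LD2_c58 LD3_c3))))))
theorem f400653 : Led Lsl_ff (LP (LK LD1_c15 LD2_c58 LD3_c4)) = (LP (LK LD1_c25 LD2_c43 LD3_c28)) :=
  Lgr Lrot3 (Lpr_ft (f400647 IH) (Lpn (LP (LK LD1_c25 LD2_c43 LD3_c28))))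
theorem f400656 : Led Lsl_gf (LP (LK LD1_c15 LD2_c58 LD3_c3)) = (LP (LK LD1_c25 LD2_c43 LD3_c28)) :=
  Lgr Lrot47 (Lpr_gt (f243384 IH) (Lpe (f400655 IH) (Lpr_ff (f400653 IH) (Lpn (LP (LK LD1_c25 LD2_c43 LD3_c28))))))
theorem f616639 : Led Lsl_ff (LP (LK LD1_c25 LD2_c53 LD3_c20)) = (LP (LK LD1_c15 LD2_c58 LD3_c2)) :=
  Lgr Lrot52 (Lpr_at (f616635 IH) (Lpr_gf (f400656 IH) (Lpe (K40.f400722 IH) (Lpn (LP (LK LD1_c15 LD2_c58 LD3_c2))))))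
theorem f616647 : Led Lsl_ft (LP (LK LD1_c25 LD2_c53 LD3_c20)) = (LP (LK LD1_c15 LD2_c58 LD3_c2)) :=
  Lgr Lrot48 (Lpr_ff (f616639 IH) (Lpn (LP (LK LD1_c15 LD2_c58 LD3_c2))))
theorem f290197 : Led Lsl_gt (LP (LK LD1_c16 LD2_c3 LD3_c2)) = (LP (LK LD1_c8 LD2_c33 LD3_c1)) :=
  Lre_g IH (LK LD1_c16 LD2_c3 LD3_c2) (LK LD1_c8 LD2_c33 LD3_c1) Lrfl Lrfl
theorem f344454 : Led Lsl_ct (LP (LK LD1_c26 LD2_c0 LD3_c30)) = (LP (LK LD1_c16 LD2_c3 LD3_c2)) :=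
  Lre_c IH (LK LD1_c26 LD2_c0 LD3_c30) (LK LD1_c16 LD2_c3 LD3_c2) Lrfl Lrfl
theorem f190849 : Led Lsl_bt (LP (LK LD1_c15 LD2_c36 LD3_c54)) = (LP (LK LD1_c8 LD2_c18 LD3_c13)) :=
  Lre_b IH (LK LD1_c15 LD2_c36 LD3_c54) (LK LD1_c8 LD2_c18 LD3_c13) Lrfl Lrfl
theorem f282703 : Led Lsl_ct (LP (LK LD1_c8 LD2_c29 LD3_c35)) = (LP (LK LD1_c4 LD2_c15 LD3_c21)) :=
  Lre_c IH (LK LD1_c8 LD2_c29 LD3_c35) (LK LD1_c4 LD2_c15 LD3_c21) Lrfl Lrfl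
theorem f282706 : Led Lsl_bt (LP (LK LD1_c8 LD2_c29 LD3_c35)) = (LP (LK LD1_c15 LD2_c56 LD3_c48)) :=
  Lre_b IH (LK LD1_c8 LD2_c29 LD3_c35) (LK LD1_c15 LD2_c56 LD3_c48) Lrfl Lrfl
theorem f407793 : Led Lsl_bt (LP (LK LD1_c26 LD2_c0 LD3_c30)) = (LP (LK LD1_c25 LD2_c53 LD3_c20)) :=
  Lgr Lrot92 (Lpr_ct (f344454 IH) (Lpr_gt (f290197 IH) (Lpr_cf (K40.f290188 IH) (Lpr_bt (f190849 IH) (Lpr_gt (K15.f190840 IH) (Lpr_ct (K13.f187240 IH) (Lpe (K17.f282708 IH) (Lpe (f282703 IH) (Lpr_bt (f282706 IH) (Lpr_gt (f282707 IH) (Lpn (LP (LK LD1_c25 LD2_c53 LD3_c20)))))))))))))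
theorem f616649 : Led Lsl_ff (LP (LK LD1_c26 LD2_c0 LD3_c30)) = (LP (LK LD1_c25 LD2_c39 LD3_c42)) :=
  Lgr Lrot25 (Lpr_bt (f407793 IH) (Lpr_ft (f616647 IH) (Lpe (K40.f400766 IH) (Lpn (LP (LK LD1_c25 LD2_c39 LD3_c42))))))
theorem f60075 : Led Lsl_ct (LP (LK LD1_c6 LD2_c9 LD3_c8)) = (LP (LK LD1_c11 LD2_c59 LD3_c6)) :=
  Lre_c IH (LK LD1_c6 LD2_c9 LD3_c8) (LK LD1_c11 LD2_c59 LD3_c6) Lrfl Lrfl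
theorem f562169 : Led Lsl_df (LP (LK LD1_c15 LD2_c43 LD3_c27)) = (LP (LK LD1_c11 LD2_c59 LD3_c6)) :=
  Lgr Lrot38 (Lpr_dt (K51.f562159 IH) (Lpn (LP (LK LD1_c11 LD2_c59 LD3_c6))))
theorem f616669 : Led Lsl_at (LP (LK LD1_c26 LD2_c0 LD3_c30)) = (LP (LK LD1_c25 LD2_c39 LD3_c39)) :=
  Lgr Lrot33 (Lpr_ff (f616649 IH) (Lpr_dt (K40.f561962 IH) (Lpr_ct (K40.f561285 IH) (Lpr_dt (K40.f418701 IH) (Lpe (K40.f561893 IH) (Lpe (K1.f60058 IH) (Lpr_ct (f60075 IH) (Lpe (f562169 IH) (Lpr_ct (K51.f252054 IH) (Lpn (LP (LK LD1_c25 LD2_c39 LD3_c39))))))))))))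
theorem f344453 : Led Lsl_ct (LP (LK LD1_c16 LD2_c3 LD3_c2)) = (LP (LK LD1_c26 LD2_c0 LD3_c30)) :=
  Lre_c IH (LK LD1_c16 LD2_c3 LD3_c2) (LK LD1_c26 LD2_c0 LD3_c30) Lrfl Lrfl
theorem f616675 : Led Lsl_af (LP (LK LD1_c16 LD2_c3 LD3_c2)) = (LP (LK LD1_c15 LD2_c43 LD3_c27)) :=
  Lgr Lrot68 (Lpr_ct (f344453 IH) (Lpr_at (f616669 IH) (Lpr_ct (K51.f344420 IH) (Lpn (LP (LK LD1_c15 LD2_c43 LD3_c27))))))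
theorem f344451 : Led Lsl_gt (LP (LK LD1_c15 LD2_c43 LD3_c29)) = (LP (LK LD1_c16 LD2_c3 LD3_c2)) :=
  Lgr Lrot5 (Lpr_ft (K40.f344424 IH) (Lpr_at (K40.f344423 IH) (Lpe (f290197 IH) (Lpn (LP (LK LD1_c16 LD2_c3 LD3_c2))))))
theorem f259261 : Led Lsl_gt (LP (LK LD1_c8 LD2_c33 LD3_c1)) = (LP (LK LD1_c16 LD2_c3 LD3_c1)) :=
  Lre_g IH (LK LD1_c8 LD2_c33 LD3_c1) (LK LD1_c16 LD2_c3 LD3_c1) Lrfl Lrfl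
theorem f344429 : Led Lsl_gf (LP (LK LD1_c15 LD2_c43 LD3_c29)) = (LP (LK LD1_c16 LD2_c3 LD3_c1)) :=
  Lgr Lrot76 (Lpe (K40.f344422 IH) (Lpr_ff (K40.f344415 IH) (Lpr_gt (f259261 IH) (Lpn (LP (LK LD1_c16 LD2_c3 LD3_c1))))))
theorem f616684 : Led Lsl_ft (LP (LK LD1_c16 LD2_c3 LD3_c1)) = (LP (LK LD1_c15 LD2_c43 LD3_c27)) :=
  Lgr Lrot2 (Lpe (f344429 IH) (Lpr_gt (f344451 IH) (Lpr_af (f616675 IH) (Lpn (LP (LK LD1_c15 LD2_c43 LD3_c27))))))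
theorem f616692 : Led Lsl_ff (LP (LK LD1_c16 LD2_c3 LD3_c1)) = (LP (LK LD1_c15 LD2_c43 LD3_c27)) :=
  Lgr Lrot3 (Lpr_ft (f616684 IH) (Lpn (LP (LK LD1_c15 LD2_c43 LD3_c27))))
theorem f616696 : Led Lsl_dt (LP (LK LD1_c16 LD2_c3 LD3_c1)) = (LP (LK LD1_c17 LD2_c55 LD3_c3)) :=
  Lgr Lrot60 (Lpr_ff (f616692 IH) (Lpr_df (f562169 IH) (Lpe (K40.f561757 IH) (Lpn (LP (LK LD1_c17 LD2_c55 LD3_c3))))))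
theorem f344410 : Led Lsl_cf (LP (LK LD1_c15 LD2_c36 LD3_c54)) = (LP (LK LD1_c8 LD2_c33 LD3_c1)) :=
  Lgr Lrot108 (Lpr_ft (K27.f323051 IH) (Lpe (K51.f295106 IH) (Lpr_ft (K40.f344404 IH) (Lpn (LP (LK LD1_c8 LD2_c33 LD3_c1))))))
theorem f190845 : Led Lsl_gt (LP (LK LD1_c15 LD2_c36 LD3_c54)) = (LP (LK LD1_c25 LD2_c31 LD3_c25)) :=
  Lre_g IH (LK LD1_c15 LD2_c36 LD3_c54) (LK LD1_c25 LD2_c31 LD3_c25) Lrfl Lrfl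
theorem f374237 : Led Lsl_cf (LP (LK LD1_c15 LD2_c45 LD3_c44)) = (LP (LK LD1_c15 LD2_c59 LD3_c39)) :=
  Lgr Lrot11 (Lpr_ct (K30.f374231 IH) (Lpn (LP (LK LD1_c15 LD2_c59 LD3_c39))))
theorem f374288 : Led Lsl_at (LP (LK LD1_c15 LD2_c58 LD3_c50)) = (LP (LK LD1_c25 LD2_c56 LD3_c4)) :=
  Lre_a IH (LK LD1_c15 LD2_c58 LD3_c50) (LK LD1_c25 LD2_c56 LD3_c4) Lrfl Lrfl
theorem f374338 : Led Lsl_df (LP (LK LD1_c15 LD2_c59 LD3_c39)) = (LP (LK LD1_c25 LD2_c56 LD3_c4)) :=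
  Lgr Lrot18 (Lpr_at (K30.f266959 IH) (Lpr_dt (K51.f374336 IH) (Lpr_at (f374288 IH) (Lpn (LP (LK LD1_c25 LD2_c56 LD3_c4))))))
theorem f188906 : Led Lsl_gt (LP (LK LD1_c18 LD2_c44 LD3_c12)) = (LP (LK LD1_c28 LD2_c14 LD3_c15)) :=
  Lre_g IH (LK LD1_c18 LD2_c44 LD3_c12) (LK LD1_c28 LD2_c14 LD3_c15) Lrfl Lrfl
theorem f374328 : Led Lsl_gf (LP (LK LD1_c25 LD2_c56 LD3_c4)) = (LP (LK LD1_c28 LD2_c14 LD3_c15)) :=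
  Lgr Lrot76 (Lpe (f374288 IH) (Lpr_ff (K51.f374295 IH) (Lpr_gt (f188906 IH) (Lpn (LP (LK LD1_c28 LD2_c14 LD3_c15))))))
theorem f616715 : Led Lsl_dt (LP (LK LD1_c25 LD2_c31 LD3_c25)) = (LP (LK LD1_c28 LD2_c14 LD3_c15)) :=
  Lgr Lrot57 (Lpe (f190845 IH) (Lpr_cf (f344410 IH) (Lpr_gt (f259261 IH) (Lpr_dt (f616696 IH) (Lpr_gt (K40.f541730 IH) (Lpe (K30.f318882 IH) (Lpr_cf (f374237 IH) (Lpr_df (f374338 IH) (Lpr_gf (f374328 IH) (Lpn (LP (LK LD1_c28 LD2_c14 LD3_c15))))))))))))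
theorem f168543 : Led Lsl_bt (LP (LK LD1_c2 LD2_c40 LD3_c50)) = (LP (LK LD1_c1 LD2_c17 LD3_c4)) :=
  Lre_b IH (LK LD1_c2 LD2_c40 LD3_c50) (LK LD1_c1 LD2_c17 LD3_c4) Lrfl Lrfl
theorem f168553 : Led Lsl_gt (LP (LK LD1_c19 LD2_c34 LD3_c30)) = (LP (LK LD1_c10 LD2_c49 LD3_c48)) :=
  Lre_g IH (LK LD1_c19 LD2_c34 LD3_c30) (LK LD1_c10 LD2_c49 LD3_c48) Lrfl Lrfl
theorem f168554 : Led Lsl_bt (LP (LK LD1_c28 LD2_c56 LD3_c24)) = (LP (LK LD1_c19 LD2_c34 LD3_c30)) :=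
  Lre_b IH (LK LD1_c28 LD2_c56 LD3_c24) (LK LD1_c19 LD2_c34 LD3_c30) Lrfl Lrfl
theorem f616719 : Led Lsl_cf (LP (LK LD1_c28 LD2_c56 LD3_c24)) = (LP (LK LD1_c28 LD2_c14 LD3_c15)) :=
  Lgr Lrot89 (Lpr_bt (f168554 IH) (Lpr_gt (f168553 IH) (Lpr_dt (K30.f168552 IH) (Lpr_ct (K30.f168551 IH) (Lpr_bt (f168543 IH) (Lpe (K9.f168539 IH) (Lpr_dt (K9.f173647 IH) (Lpe (K12.f173065 IH) (Lpr_bt (K9.f41086 IH) (Lpr_gt (K9.f41349 IH) (Lpr_dt (K18.f223908 IH) (Lpr_ct (K15.f191058 IH) (Lpe (K16.f191054 IH) (Lpr_gt (K16.f259711 IH) (Lpr_dt (K14.f190829 IH) (Lpr_ct (K15.f190839 IH) (Lpr_bt (K27.f190844 IH) (Lpr_gt (f190845 IH) (Lpr_dt (f616715 IH) (Lpn (LP (LK LD1_c28 LD2_c14 LD3_c15))))))))))))))))))))))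
theorem f616721 : Led Lsl_ct (LP (LK LD1_c28 LD2_c56 LD3_c24)) = (LP (LK LD1_c28 LD2_c14 LD3_c15)) :=
  Lgr Lrot59 (Lpr_cf (f616719 IH) (Lpn (LP (LK LD1_c28 LD2_c14 LD3_c15))))
theorem f169295 : Led Lsl_bt (LP (LK LD1_c4 LD2_c28 LD3_c60)) = (LP (LK LD1_c2 LD2_c11 LD3_c34)) :=
  Lre_b IH (LK LD1_c4 LD2_c28 LD3_c60) (LK LD1_c2 LD2_c11 LD3_c34) Lrfl Lrfl
theorem f173395 : Led Lsl_bf (LP (LK LD1_c8 LD2_c56 LD3_c20)) = (LP (LK LD1_c4 LD2_c33 LD3_c33)) :=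
  Lgr Lrot90 (Lpr_ct (K30.f169298 IH) (Lpr_bt (f169295 IH) (Lpr_ct (K9.f173382 IH) (Lpr_bt (K30.f173393 IH) (Lpr_ct (K30.f173394 IH) (Lpn (LP (LK LD1_c4 LD2_c33 LD3_c33))))))))
theorem f386177 : Led Lsl_bt (LP (LK LD1_c5 LD2_c30 LD3_c33)) = (LP (LK LD1_c2 LD2_c48 LD3_c22)) :=
  Lgr Lrot35 (Lpe (K30.f385199 IH) (Lpr_bf (f173395 IH) (Lpr_ff (K37.f385233 IH) (Lpn (LP (LK LD1_c2 LD2_c48 LD3_c22))))))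
theorem f175277 : Led Lsl_dt (LP (LK LD1_c10 LD2_c52 LD3_c44)) = (LP (LK LD1_c5 LD2_c30 LD3_c33)) :=
  Lre_d IH (LK LD1_c10 LD2_c52 LD3_c44) (LK LD1_c5 LD2_c30 LD3_c33) Lrfl Lrfl
theorem f386188 : Led Lsl_bf (LP (LK LD1_c10 LD2_c52 LD3_c44)) = (LP (LK LD1_c5 LD2_c45 LD3_c11)) :=
  Lgr Lrot93 (Lpr_dt (f175277 IH) (Lpr_bt (f386177 IH) (Lpr_dt (K30.f172686 IH) (Lpn (LP (LK LD1_c5 LD2_c45 LD3_c11))))))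
theorem f386240 : Led Lsl_bt (LP (LK LD1_c10 LD2_c52 LD3_c44)) = (LP (LK LD1_c5 LD2_c45 LD3_c11)) :=
  Lgr Lrot127 (Lpr_bf (f386188 IH) (Lpn (LP (LK LD1_c5 LD2_c45 LD3_c11))))
theorem f386265 : Led Lsl_at (LP (LK LD1_c19 LD2_c39 LD3_c48)) = (LP (LK LD1_c10 LD2_c52 LD3_c44)) :=
  Lre_a IH (LK LD1_c19 LD2_c39 LD3_c48) (LK LD1_c10 LD2_c52 LD3_c44) Lrfl Lrfl
theorem f386266 : Led Lsl_bt (LP (LK LD1_c29 LD2_c0 LD3_c38)) = (LP (LK LD1_c19 LD2_c39 LD3_c48)) :=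
  Lre_b IH (LK LD1_c29 LD2_c0 LD3_c38) (LK LD1_c19 LD2_c39 LD3_c48) Lrfl Lrfl
theorem f385571 : Led Lsl_bt (LP (LK LD1_c11 LD2_c20 LD3_c43)) = (LP (LK LD1_c20 LD2_c18 LD3_c12)) :=
  Lre_b IH (LK LD1_c11 LD2_c20 LD3_c43) (LK LD1_c20 LD2_c18 LD3_c12) Lrfl Lrfl
theorem f386267 : Led Lsl_af (LP (LK LD1_c29 LD2_c0 LD3_c38)) = (LP (LK LD1_c20 LD2_c18 LD3_c12)) :=
  Lgr Lrot36 (Lpr_bt (f386266 IH) (Lpr_at (f386265 IH) (Lpr_bt (f386240 IH) (Lpr_at (K30.f385591 IH) (Lpr_bt (f385571 IH) (Lpn (LP (LK LD1_c20 LD2_c18 LD3_c12))))))))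
theorem f386271 : Led Lsl_dt (LP (LK LD1_c29 LD2_c0 LD3_c38)) = (LP (LK LD1_c19 LD2_c39 LD3_c47)) :=
  Lre_d IH (LK LD1_c29 LD2_c0 LD3_c38) (LK LD1_c19 LD2_c39 LD3_c47) Lrfl Lrfl
theorem f245653 : Led Lsl_dt (LP (LK LD1_c11 LD2_c20 LD3_c42)) = (LP (LK LD1_c20 LD2_c18 LD3_c12)) :=
  Lre_d IH (LK LD1_c11 LD2_c20 LD3_c42) (LK LD1_c20 LD2_c18 LD3_c12) Lrfl Lrfl
theorem f386272 : Led Lsl_at (LP (LK LD1_c19 LD2_c39 LD3_c47)) = (LP (LK LD1_c11 LD2_c20 LD3_c42)) :=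
  Lgr Lrot51 (Lpe (f386271 IH) (Lpr_af (f386267 IH) (Lpe (f245653 IH) (Lpn (LP (LK LD1_c11 LD2_c20 LD3_c42))))))
theorem f245689 : Led Lsl_ct (LP (LK LD1_c10 LD2_c52 LD3_c32)) = (LP (LK LD1_c5 LD2_c30 LD3_c29)) :=
  Lre_c IH (LK LD1_c10 LD2_c52 LD3_c32) (LK LD1_c5 LD2_c30 LD3_c29) Lrfl Lrfl
theorem f245690 : Led Lsl_bt (LP (LK LD1_c19 LD2_c39 LD3_c47)) = (LP (LK LD1_c10 LD2_c52 LD3_c32)) :=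
  Lre_b IH (LK LD1_c19 LD2_c39 LD3_c47) (LK LD1_c10 LD2_c52 LD3_c32) Lrfl Lrfl
theorem f245275 : Led Lsl_bt (LP (LK LD1_c16 LD2_c45 LD3_c0)) = (LP (LK LD1_c26 LD2_c43 LD3_c58)) :=
  Lre_b IH (LK LD1_c16 LD2_c45 LD3_c0) (LK LD1_c26 LD2_c43 LD3_c58) Lrfl Lrfl
theorem f245691 : Led Lsl_cf (LP (LK LD1_c19 LD2_c39 LD3_c47)) = (LP (LK LD1_c26 LD2_c43 LD3_c58)) :=
  Lgr Lrot97 (Lpr_bt (f245690 IH) (Lpr_ct (f245689 IH) (Lpr_bt (K13.f245684 IH) (Lpr_ct (K31.f245239 IH) (Lpr_bt (f245275 IH) (Lpn (LP (LK LD1_c26 LD2_c43 LD3_c58))))))))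
theorem f245646 : Led Lsl_bt (LP (LK LD1_c11 LD2_c20 LD3_c42)) = (LP (LK LD1_c5 LD2_c45 LD3_c7)) :=
  Lre_b IH (LK LD1_c11 LD2_c20 LD3_c42) (LK LD1_c5 LD2_c45 LD3_c7) Lrfl Lrfl
theorem f245648 : Led Lsl_bt (LP (LK LD1_c9 LD2_c4 LD3_c25)) = (LP (LK LD1_c16 LD2_c55 LD3_c61)) :=
  Lre_b IH (LK LD1_c9 LD2_c4 LD3_c25) (LK LD1_c16 LD2_c55 LD3_c61) Lrfl Lrfl
theorem f245649 : Led Lsl_cf (LP (LK LD1_c11 LD2_c20 LD3_c42)) = (LP (LK LD1_c16 LD2_c55 LD3_c61)) :=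
  Lgr Lrot97 (Lpr_bt (f245646 IH) (Lpr_ct (K30.f172644 IH) (Lpr_bt (K30.f245641 IH) (Lpr_ct (K39.f245647 IH) (Lpr_bt (f245648 IH) (Lpn (LP (LK LD1_c16 LD2_c55 LD3_c61))))))))
theorem f245651 : Led Lsl_ct (LP (LK LD1_c11 LD2_c20 LD3_c42)) = (LP (LK LD1_c16 LD2_c55 LD3_c61)) :=
  Lgr Lrot59 (Lpr_cf (f245649 IH) (Lpn (LP (LK LD1_c16 LD2_c55 LD3_c61))))
theorem f386276 : Led Lsl_af (LP (LK LD1_c26 LD2_c43 LD3_c58)) = (LP (LK LD1_c16 LD2_c55 LD3_c61)) :=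
  Lgr Lrot68 (Lpe (f245691 IH) (Lpr_at (f386272 IH) (Lpr_ct (f245651 IH) (Lpn (LP (LK LD1_c16 LD2_c55 LD3_c61))))))
theorem f245476 : Led Lsl_dt (LP (LK LD1_c26 LD2_c43 LD3_c58)) = (LP (LK LD1_c32 LD2_c15 LD3_c24)) :=
  Lre_d IH (LK LD1_c26 LD2_c43 LD3_c58) (LK LD1_c32 LD2_c15 LD3_c24) Lrfl Lrfl
theorem f245655 : Led Lsl_dt (LP (LK LD1_c26 LD2_c52 LD3_c30)) = (LP (LK LD1_c16 LD2_c55 LD3_c61)) :=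
  Lre_d IH (LK LD1_c26 LD2_c52 LD3_c30) (LK LD1_c16 LD2_c55 LD3_c61) Lrfl Lrfl
theorem f386280 : Led Lsl_at (LP (LK LD1_c32 LD2_c15 LD3_c24)) = (LP (LK LD1_c26 LD2_c52 LD3_c30)) :=
  Lgr Lrot51 (Lpe (f245476 IH) (Lpr_af (f386276 IH) (Lpe (f245655 IH) (Lpn (LP (LK LD1_c26 LD2_c52 LD3_c30))))))
theorem f245358 : Led Lsl_bt (LP (LK LD1_c26 LD2_c43 LD3_c59)) = (LP (LK LD1_c32 LD2_c15 LD3_c24)) :=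
  Lre_b IH (LK LD1_c26 LD2_c43 LD3_c59) (LK LD1_c32 LD2_c15 LD3_c24) Lrfl Lrfl
theorem f385466 : Led Lsl_bt (LP (LK LD1_c26 LD2_c52 LD3_c30)) = (LP (LK LD1_c16 LD2_c56 LD3_c0)) :=
  Lre_b IH (LK LD1_c26 LD2_c52 LD3_c30) (LK LD1_c16 LD2_c56 LD3_c0) Lrfl Lrfl
theorem f385496 : Led Lsl_at (LP (LK LD1_c16 LD2_c56 LD3_c0)) = (LP (LK LD1_c9 LD2_c4 LD3_c29)) :=
  Lre_a IH (LK LD1_c16 LD2_c56 LD3_c0) (LK LD1_c9 LD2_c4 LD3_c29) Lrfl Lrfl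
theorem f386290 : Led Lsl_bf (LP (LK LD1_c16 LD2_c45 LD3_c10)) = (LP (LK LD1_c9 LD2_c4 LD3_c29)) :=
  Lgr Lrot81 (Lpr_at (K30.f245336 IH) (Lpr_bt (f245358 IH) (Lpr_at (f386280 IH) (Lpr_bt (f385466 IH) (Lpr_at (f385496 IH) (Lpn (LP (LK LD1_c9 LD2_c4 LD3_c29))))))))
theorem f386296 : Led Lsl_bt (LP (LK LD1_c10 LD2_c49 LD3_c48)) = (LP (LK LD1_c5 LD2_c45 LD3_c26)) :=
  Lgr Lrot35 (Lpr_ff (K31.f245348 IH) (Lpr_bf (f386290 IH) (Lpr_ff (K43.f385415 IH) (Lpn (LP (LK LD1_c5 LD2_c45 LD3_c26))))))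
theorem f386298 : Led Lsl_bf (LP (LK LD1_c10 LD2_c49 LD3_c48)) = (LP (LK LD1_c5 LD2_c45 LD3_c26)) :=
  Lgr Lrot24 (Lpr_bt (f386296 IH) (Lpn (LP (LK LD1_c5 LD2_c45 LD3_c26))))
theorem f561309 : Led Lsl_cf (LP (LK LD1_c20 LD2_c19 LD3_c5)) = (LP (LK LD1_c11 LD2_c23 LD3_c51)) :=
  Lgr Lrot11 (Lpr_ct (K40.f561306 IH) (Lpn (LP (LK LD1_c11 LD2_c23 LD3_c51))))
theorem f616725 : Led Lsl_gt (LP (LK LD1_c20 LD2_c21 LD3_c46)) = (LP (LK LD1_c28 LD2_c14 LD3_c13)) :=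
  Lgr Lrot82 (Lpe (K40.f561308 IH) (Lpe (f561309 IH) (Lpe (K39.f385397 IH) (Lpe (K30.f168261 IH) (Lpe (f386298 IH) (Lpe (f168553 IH) (Lpe (f168554 IH) (Lpr_ct (f616721 IH) (Lpe (f188906 IH) (Lpe (K31.f271546 IH) (Lpn (LP (LK LD1_c28 LD2_c14 LD3_c13)))))))))))))
theorem f561926 : Led Lsl_at (LP (LK LD1_c20 LD2_c11 LD3_c27)) = (LP (LK LD1_c29 LD2_c21 LD3_c13)) :=
  Lre_a IH (LK LD1_c20 LD2_c11 LD3_c27) (LK LD1_c29 LD2_c21 LD3_c13) Lrfl Lrfl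
theorem f616727 : Led Lsl_gf (LP (LK LD1_c29 LD2_c21 LD3_c13)) = (LP (LK LD1_c28 LD2_c14 LD3_c13)) :=
  Lgr Lrot76 (Lpe (f561926 IH) (Lpe (K40.f561920 IH) (Lpr_gt (f616725 IH) (Lpn (LP (LK LD1_c28 LD2_c14 LD3_c13))))))
theorem f616717 : Led Lsl_df (LP (LK LD1_c25 LD2_c31 LD3_c25)) = (LP (LK LD1_c28 LD2_c14 LD3_c15)) :=
  Lgr Lrot38 (Lpr_dt (f616715 IH) (Lpn (LP (LK LD1_c28 LD2_c14 LD3_c15))))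
theorem f323062 : Led Lsl_gt (LP (LK LD1_c25 LD2_c31 LD3_c25)) = (LP (LK LD1_c15 LD2_c58 LD3_c25)) :=
  Lgr Lrot46 (Lpe (f190845 IH) (Lpr_ft (K27.f323051 IH) (Lpr_at (K40.f323054 IH) (Lpn (LP (LK LD1_c15 LD2_c58 LD3_c25))))))
theorem f617001 : Led Lsl_cf (LP (LK LD1_c29 LD2_c25 LD3_c24)) = (LP (LK LD1_c25 LD2_c55 LD3_c26)) :=
  Lgr Lrot14 (Lpe (f616775 IH) (Lpr_gf (f616997 IH) (Lpe (f561917 IH) (Lpr_gf (f616727 IH) (Lpr_ct (K31.f271546 IH) (Lpr_gt (f188906 IH) (Lpe (f616717 IH) (Lpr_gt (f323062 IH) (Lpr_dt (f323064 IH) (Lpn (LP (LK LD1_c25 LD2_c55 LD3_c26))))))))))))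
theorem f617003 : Led Lsl_at (LP (LK LD1_c29 LD2_c25 LD3_c24)) = (LP (LK LD1_c25 LD2_c55 LD3_c29)) :=
  Lgr Lrot107 (Lpr_cf (f617001 IH) (Lpe (f323021 IH) (Lpe (K38.f271464 IH) (Lpn (LP (LK LD1_c25 LD2_c55 LD3_c29))))))
theorem f617015 : Led Lsl_ff (LP (LK LD1_c29 LD2_c25 LD3_c24)) = (LP (LK LD1_c29 LD2_c19 LD3_c53)) :=
  Lgr Lrot52 (Lpr_at (f617003 IH) (Lpr_gf (K38.f550655 IH) (Lpe (f271564 IH) (Lpn (LP (LK LD1_c29 LD2_c19 LD3_c53))))))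
theorem f344412 : Led Lsl_dt (LP (LK LD1_c15 LD2_c43 LD3_c30)) = (LP (LK LD1_c8 LD2_c21 LD3_c18)) :=
  Lre_d IH (LK LD1_c15 LD2_c43 LD3_c30) (LK LD1_c8 LD2_c21 LD3_c18) Lrfl Lrfl
theorem f310116 : Led Lsl_ct (LP (LK LD1_c25 LD2_c39 LD3_c45)) = (LP (LK LD1_c15 LD2_c43 LD3_c30)) :=
  Lre_c IH (LK LD1_c25 LD2_c39 LD3_c45) (LK LD1_c15 LD2_c43 LD3_c30) Lrfl Lrfl
theorem f390235 : Led Lsl_ct (LP (LK LD1_c4 LD2_c31 LD3_c50)) = (LP (LK LD1_c9 LD2_c1 LD3_c29)) :=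
  Lre_c IH (LK LD1_c4 LD2_c31 LD3_c50) (LK LD1_c9 LD2_c1 LD3_c29) Lrfl Lrfl
theorem f380513 : Led Lsl_ct (LP (LK LD1_c5 LD2_c40 LD3_c52)) = (LP (LK LD1_c2 LD2_c46 LD3_c20)) :=
  Lre_c IH (LK LD1_c5 LD2_c40 LD3_c52) (LK LD1_c2 LD2_c46 LD3_c20) Lrfl Lrfl
theorem f613351 : Led Lsl_at (LP (LK LD1_c9 LD2_c1 LD3_c29)) = (LP (LK LD1_c5 LD2_c40 LD3_c52)) :=
  Lgr Lrot107 (Lpe (f390235 IH) (Lpr_af (K50.f613346 IH) (Lpe (f380513 IH) (Lpn (LP (LK LD1_c5 LD2_c40 LD3_c52))))))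
theorem f380698 : Led Lsl_et (LP (LK LD1_c4 LD2_c31 LD3_c49)) = (LP (LK LD1_c9 LD2_c1 LD3_c29)) :=
  Lre_e IH (LK LD1_c4 LD2_c31 LD3_c49) (LK LD1_c9 LD2_c1 LD3_c29) Lrfl Lrfl
theorem f412146 : Led Lsl_et (LP (LK LD1_c5 LD2_c40 LD3_c52)) = (LP (LK LD1_c2 LD2_c46 LD3_c25)) :=
  Lre_e IH (LK LD1_c5 LD2_c40 LD3_c52) (LK LD1_c2 LD2_c46 LD3_c25) Lrfl Lrfl
theorem f613425 : Led Lsl_af (LP (LK LD1_c4 LD2_c31 LD3_c49)) = (LP (LK LD1_c2 LD2_c46 LD3_c25)) :=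
  Lgr Lrot50 (Lpr_et (f380698 IH) (Lpr_at (f613351 IH) (Lpr_et (f412146 IH) (Lpn (LP (LK LD1_c2 LD2_c46 LD3_c25))))))
theorem f319453 : Led Lsl_ct (LP (LK LD1_c4 LD2_c31 LD3_c49)) = (LP (LK LD1_c2 LD2_c12 LD3_c56)) :=
  Lre_c IH (LK LD1_c4 LD2_c31 LD3_c49) (LK LD1_c2 LD2_c12 LD3_c56) Lrfl Lrfl
theorem f379934 : Led Lsl_ff (LP (LK LD1_c4 LD2_c31 LD3_c49)) = (LP (LK LD1_c2 LD2_c46 LD3_c33)) :=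
  Lgr Lrot23 (Lpr_ct (f319453 IH) (Lpr_ft (K24.f379930 IH) (Lpr_ct (K30.f225345 IH) (Lpn (LP (LK LD1_c2 LD2_c46 LD3_c33))))))
theorem f380699 : Led Lsl_ft (LP (LK LD1_c4 LD2_c31 LD3_c49)) = (LP (LK LD1_c2 LD2_c46 LD3_c33)) :=
  Lgr Lrot48 (Lpr_ff (f379934 IH) (Lpn (LP (LK LD1_c2 LD2_c46 LD3_c33))))
theorem f494030 : Led Lsl_af (LP (LK LD1_c5 LD2_c40 LD3_c9)) = (LP (LK LD1_c2 LD2_c46 LD3_c33)) :=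
  Lgr Lrot117 (Lpr_dt (K51.f258922 IH) (Lpr_at (K39.f354389 IH) (Lpr_dt (K39.f494027 IH) (Lpn (LP (LK LD1_c2 LD2_c46 LD3_c33))))))
theorem f613432 : Led Lsl_ft (LP (LK LD1_c5 LD2_c40 LD3_c9)) = (LP (LK LD1_c2 LD2_c46 LD3_c25)) :=
  Lgr Lrot101 (Lpr_af (f494030 IH) (Lpe (f380699 IH) (Lpr_af (f613425 IH) (Lpn (LP (LK LD1_c2 LD2_c46 LD3_c25))))))
theorem f613434 : Led Lsl_gf (LP (LK LD1_c4 LD2_c31 LD3_c49)) = (LP (LK LD1_c5 LD2_c46 LD3_c59)) :=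
  Lgr Lrot76 (Lpr_af (f613425 IH) (Lpe (f613432 IH) (Lpe (K39.f553743 IH) (Lpn (LP (LK LD1_c5 LD2_c46 LD3_c59))))))
theorem f281169 : Led Lsl_bt (LP (LK LD1_c5 LD2_c31 LD3_c38)) = (LP (LK LD1_c8 LD2_c57 LD3_c24)) :=
  Lgr Lrot35 (Lpr_ff (K31.f280747 IH) (Lpe (K20.f280640 IH) (Lpr_ff (K20.f281155 IH) (Lpn (LP (LK LD1_c8 LD2_c57 LD3_c24))))))
theorem f380725 : Led Lsl_ct (LP (LK LD1_c8 LD2_c58 LD3_c42)) = (LP (LK LD1_c16 LD2_c47 LD3_c51)) :=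
  Lre_c IH (LK LD1_c8 LD2_c58 LD3_c42) (LK LD1_c16 LD2_c47 LD3_c51) Lrfl Lrfl
theorem f390181 : Led Lsl_gf (LP (LK LD1_c10 LD2_c58 LD3_c13)) = (LP (LK LD1_c16 LD2_c47 LD3_c51)) :=
  Lgr Lrot129 (Lpr_cf (K50.f174162 IH) (Lpr_bt (K50.f174161 IH) (Lpr_gt (K50.f281315 IH) (Lpe (f281169 IH) (Lpr_ct (K38.f280790 IH) (Lpr_gt (K38.f281572 IH) (Lpr_cf (K31.f390169 IH) (Lpr_bt (K38.f390178 IH) (Lpe (K38.f390179 IH) (Lpr_ct (f380725 IH) (Lpn (LP (LK LD1_c16 LD2_c47 LD3_c51)))))))))))))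
theorem f225811 : Led Lsl_at (LP (LK LD1_c10 LD2_c57 LD3_c51)) = (LP (LK LD1_c5 LD2_c33 LD3_c8)) :=
  Lre_a IH (LK LD1_c10 LD2_c57 LD3_c51) (LK LD1_c5 LD2_c33 LD3_c8) Lrfl Lrfl
theorem f390183 : Led Lsl_ff (LP (LK LD1_c10 LD2_c57 LD3_c51)) = (LP (LK LD1_c16 LD2_c47 LD3_c51)) :=
  Lgr Lrot52 (Lpr_at (f225811 IH) (Lpe (K50.f174160 IH) (Lpr_gf (f390181 IH) (Lpn (LP (LK LD1_c16 LD2_c47 LD3_c51))))))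
theorem f390190 : Led Lsl_ft (LP (LK LD1_c10 LD2_c57 LD3_c51)) = (LP (LK LD1_c16 LD2_c47 LD3_c51)) :=
  Lgr Lrot48 (Lpr_ff (f390183 IH) (Lpn (LP (LK LD1_c16 LD2_c47 LD3_c51))))
theorem f225792 : Led Lsl_at (LP (LK LD1_c5 LD2_c33 LD3_c8)) = (LP (LK LD1_c10 LD2_c57 LD3_c51)) :=
  Lre_a IH (LK LD1_c5 LD2_c33 LD3_c8) (LK LD1_c10 LD2_c57 LD3_c51) Lrfl Lrfl
theorem f390192 : Led Lsl_at (LP (LK LD1_c16 LD2_c47 LD3_c51)) = (LP (LK LD1_c8 LD2_c58 LD3_c48)) :=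
  Lre_a IH (LK LD1_c16 LD2_c47 LD3_c51) (LK LD1_c8 LD2_c58 LD3_c48) Lrfl Lrfl
theorem f390193 : Led Lsl_ff (LP (LK LD1_c5 LD2_c33 LD3_c8)) = (LP (LK LD1_c8 LD2_c58 LD3_c48)) :=
  Lgr Lrot30 (Lpr_at (f225792 IH) (Lpr_ft (f390190 IH) (Lpr_at (f390192 IH) (Lpn (LP (LK LD1_c8 LD2_c58 LD3_c48))))))
theorem f225722 : Led Lsl_bt (LP (LK LD1_c5 LD2_c33 LD3_c8)) = (LP (LK LD1_c2 LD2_c46 LD3_c33)) :=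
  Lgr Lrot128 (Lpe (K50.f174159 IH) (Lpe (K27.f225429 IH) (Lpr_cf (K24.f225708 IH) (Lpe (K39.f225344 IH) (Lpe (K39.f225427 IH) (Lpn (LP (LK LD1_c2 LD2_c46 LD3_c33))))))))
theorem f390206 : Led Lsl_bt (LP (LK LD1_c4 LD2_c31 LD3_c49)) = (LP (LK LD1_c8 LD2_c58 LD3_c48)) :=
  Lgr Lrot35 (Lpr_ff (f379934 IH) (Lpe (f225722 IH) (Lpr_ff (f390193 IH) (Lpn (LP (LK LD1_c8 LD2_c58 LD3_c48))))))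
theorem f390212 : Led Lsl_bf (LP (LK LD1_c4 LD2_c31 LD3_c49)) = (LP (LK LD1_c8 LD2_c58 LD3_c48)) :=
  Lgr Lrot24 (Lpr_bt (f390206 IH) (Lpn (LP (LK LD1_c8 LD2_c58 LD3_c48))))
theorem f261077 : Led Lsl_ct (LP (LK LD1_c8 LD2_c58 LD3_c48)) = (LP (LK LD1_c4 LD2_c30 LD3_c16)) :=
  Lre_c IH (LK LD1_c8 LD2_c58 LD3_c48) (LK LD1_c4 LD2_c30 LD3_c16) Lrfl Lrfl
theorem f388261 : Led Lsl_gt (LP (LK LD1_c4 LD2_c30 LD3_c16)) = (LP (LK LD1_c5 LD2_c36 LD3_c47)) :=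
  Lgr Lrot164 (Lpe (K24.f226408 IH) (Lpe (K24.f174742 IH) (Lpe (K15.f164714 IH) (Lpe (K12.f226020 IH) (Lpe (K12.f173037 IH) (Lpe (K31.f178894 IH) (Lpr_ct (K31.f226407 IH) (Lpe (K31.f225222 IH) (Lpr_cf (K31.f388253 IH) (Lpr_bt (K45.f388250 IH) (Lpn (LP (LK LD1_c5 LD2_c36 LD3_c47)))))))))))))
theorem f385074 : Led Lsl_ct (LP (LK LD1_c11 LD2_c5 LD3_c43)) = (LP (LK LD1_c5 LD2_c36 LD3_c47)) :=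
  Lre_c IH (LK LD1_c11 LD2_c5 LD3_c43) (LK LD1_c5 LD2_c36 LD3_c47) Lrfl Lrfl
theorem f178176 : Led Lsl_bt (LP (LK LD1_c11 LD2_c5 LD3_c43)) = (LP (LK LD1_c19 LD2_c59 LD3_c0)) :=
  Lre_b IH (LK LD1_c11 LD2_c5 LD3_c43) (LK LD1_c19 LD2_c59 LD3_c0) Lrfl Lrfl
theorem f280311 : Led Lsl_gt (LP (LK LD1_c20 LD2_c11 LD3_c25)) = (LP (LK LD1_c11 LD2_c15 LD3_c50)) :=
  Lre_g IH (LK LD1_c20 LD2_c11 LD3_c25) (LK LD1_c11 LD2_c15 LD3_c50) Lrfl Lrfl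
theorem f73165 : Led Lsl_bt (LP (LK LD1_c3 LD2_c4 LD3_c51)) = (LP (LK LD1_c6 LD2_c15 LD3_c34)) :=
  Lre_b IH (LK LD1_c3 LD2_c4 LD3_c51) (LK LD1_c6 LD2_c15 LD3_c34) Lrfl Lrfl
theorem f73905 : Led Lsl_gt (LP (LK LD1_c6 LD2_c15 LD3_c34)) = (LP (LK LD1_c12 LD2_c8 LD3_c60)) :=
  Lre_g IH (LK LD1_c6 LD2_c15 LD3_c34) (LK LD1_c12 LD2_c8 LD3_c60) Lrfl Lrfl
theorem f172263 : Led Lsl_bt (LP (LK LD1_c21 LD2_c15 LD3_c16)) = (LP (LK LD1_c12 LD2_c8 LD3_c60)) :=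
  Lre_b IH (LK LD1_c21 LD2_c15 LD3_c16) (LK LD1_c12 LD2_c8 LD3_c60) Lrfl Lrfl
theorem f613436 : Led Lsl_ct (LP (LK LD1_c21 LD2_c15 LD3_c16)) = (LP (LK LD1_c20 LD2_c11 LD3_c25)) :=
  Lgr Lrot64 (Lpr_bt (f172263 IH) (Lpe (f73905 IH) (Lpe (f73165 IH) (Lpr_ct (K36.f60727 IH) (Lpr_gf (K37.f495737 IH) (Lpqs (K37.f537458 IH) (Lpe (f319453 IH) (Lpr_gf (f613434 IH) (Lpe (K1.f60089 IH) (Lpr_ct (K51.f561899 IH) (Lpe (f280311 IH) (Lpn (LP (LK LD1_c20 LD2_c11 LD3_c25))))))))))))))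
theorem f613438 : Led Lsl_gt (LP (LK LD1_c19 LD2_c59 LD3_c0)) = (LP (LK LD1_c21 LD2_c15 LD3_c16)) :=
  Lgr Lrot82 (Lpe (f178176 IH) (Lpr_ct (f385074 IH) (Lpe (f388261 IH) (Lpe (f261077 IH) (Lpe (f390212 IH) (Lpr_gf (f613434 IH) (Lpe (K1.f60089 IH) (Lpr_ct (K51.f561899 IH) (Lpe (f280311 IH) (Lpe (f613436 IH) (Lpn (LP (LK LD1_c21 LD2_c15 LD3_c16)))))))))))))
theorem f178175 : Led Lsl_ct (LP (LK LD1_c5 LD2_c36 LD3_c47)) = (LP (LK LD1_c11 LD2_c5 LD3_c43)) :=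
  Lre_c IH (LK LD1_c5 LD2_c36 LD3_c47) (LK LD1_c11 LD2_c5 LD3_c43) Lrfl Lrfl
theorem f304487 : Led Lsl_bf (LP (LK LD1_c2 LD2_c6 LD3_c18)) = (LP (LK LD1_c2 LD2_c2 LD3_c57)) :=
  Lgr Lrot24 (Lpr_bt (K18.f304485 IH) (Lpn (LP (LK LD1_c2 LD2_c2 LD3_c57))))
theorem f310115 : Led Lsl_bt (LP (LK LD1_c15 LD2_c43 LD3_c30)) = (LP (LK LD1_c8 LD2_c21 LD3_c19)) :=
  Lre_b IH (LK LD1_c15 LD2_c43 LD3_c30) (LK LD1_c8 LD2_c21 LD3_c19) Lrfl Lrfl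
theorem f613440 : Led Lsl_df (LP (LK LD1_c25 LD2_c39 LD3_c45)) = (LP (LK LD1_c21 LD2_c15 LD3_c16)) :=
  Lgr Lrot183 (Lpr_ct (f310116 IH) (Lpr_bt (f310115 IH) (Lpe (K19.f310119 IH) (Lpr_dt (K19.f290102 IH) (Lpr_ct (K19.f304511 IH) (Lpe (f304487 IH) (Lpe (K18.f300782 IH) (Lpr_dt (K12.f42645 IH) (Lpr_ct (K9.f42725 IH) (Lpr_bt (K9.f41251 IH) (Lpr_gt (K9.f177856 IH) (Lpr_dt (K9.f177869 IH) (Lpr_ct (K12.f178170 IH) (Lpr_bt (K30.f178173 IH) (Lpr_gt (K30.f178047 IH) (Lpr_dt (K45.f178174 IH) (Lpr_ct (f178175 IH) (Lpr_bt (f178176 IH) (Lpr_gt (f613438 IH) (Lpn (LP (LK LD1_c21 LD2_c15 LD3_c16))))))))))))))))))))))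
theorem f613451 : Led Lsl_cf (LP (LK LD1_c21 LD2_c15 LD3_c16)) = (LP (LK LD1_c20 LD2_c11 LD3_c25)) :=
  Lgr Lrot11 (Lpr_ct (f613436 IH) (Lpn (LP (LK LD1_c20 LD2_c11 LD3_c25))))
theorem f617017 : Led Lsl_dt (LP (LK LD1_c29 LD2_c19 LD3_c53)) = (LP (LK LD1_c20 LD2_c11 LD3_c25)) :=
  Lgr Lrot159 (Lpe (f617015 IH) (Lpr_at (f617003 IH) (Lpe (K38.f262908 IH) (Lpe (K51.f323057 IH) (Lpe (K40.f344426 IH) (Lpe (f344412 IH) (Lpe (f310116 IH) (Lpr_df (f613440 IH) (Lpr_cf (f613451 IH) (Lpn (LP (LK LD1_c20 LD2_c11 LD3_c25))))))))))))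
theorem f617021 : Led Lsl_cf (LP (LK LD1_c29 LD2_c19 LD3_c53)) = (LP (LK LD1_c25 LD2_c57 LD3_c13)) :=
  Lgr Lrot118 (Lpr_dt (f617017 IH) (Lpe (f613451 IH) (Lpe (f613440 IH) (Lpr_ct (f310116 IH) (Lpr_dt (f344412 IH) (Lpr_ct (K40.f344426 IH) (Lpe (K40.f323068 IH) (Lpe (K40.f323069 IH) (Lpr_dt (K27.f323080 IH) (Lpn (LP (LK LD1_c25 LD2_c57 LD3_c13))))))))))))
theorem f617025 : Led Lsl_ct (LP (LK LD1_c29 LD2_c19 LD3_c53)) = (LP (LK LD1_c25 LD2_c57 LD3_c13)) :=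
  Lgr Lrot59 (Lpr_cf (f617021 IH) (Lpn (LP (LK LD1_c25 LD2_c57 LD3_c13))))
theorem f323087 : Led Lsl_ff (LP (LK LD1_c25 LD2_c55 LD3_c26)) = (LP (LK LD1_c25 LD2_c57 LD3_c13)) :=
  Lgr Lrot3 (Lpr_ft (f323083 IH) (Lpn (LP (LK LD1_c25 LD2_c57 LD3_c13))))
theorem f323089 : Led Lsl_at (LP (LK LD1_c25 LD2_c55 LD3_c26)) = (LP (LK LD1_c15 LD2_c58 LD3_c26)) :=
  Lre_a IH (LK LD1_c25 LD2_c55 LD3_c26) (LK LD1_c15 LD2_c58 LD3_c26) Lrfl Lrfl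
theorem f271479 : Led Lsl_gt (LP (LK LD1_c25 LD2_c55 LD3_c28)) = (LP (LK LD1_c15 LD2_c58 LD3_c26)) :=
  Lre_g IH (LK LD1_c25 LD2_c55 LD3_c28) (LK LD1_c15 LD2_c58 LD3_c26) Lrfl Lrfl
theorem f323090 : Led Lsl_gf (LP (LK LD1_c25 LD2_c55 LD3_c28)) = (LP (LK LD1_c25 LD2_c57 LD3_c13)) :=
  Lgr Lrot47 (Lpr_gt (f271479 IH) (Lpe (f323089 IH) (Lpr_ff (f323087 IH) (Lpn (LP (LK LD1_c25 LD2_c57 LD3_c13))))))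
theorem f717185 : Led Lsl_dt (LP (LK LD1_c25 LD2_c55 LD3_c28)) = (LP (LK LD1_c25 LD2_c43 LD3_c45)) :=
  Lgr Lrot57 (Lpr_gf (f323090 IH) (Lpe (f617025 IH) (Lpr_gt (f271564 IH) (Lpr_dt (f271563 IH) (Lpr_gt (K31.f172847 IH) (Lpe (K31.f271547 IH) (Lpe (f271549 IH) (Lpe (K51.f374326 IH) (Lpr_gf (f717181 IH) (Lpn (LP (LK LD1_c25 LD2_c43 LD3_c45))))))))))))
theorem f323093 : Led Lsl_ct (LP (LK LD1_c32 LD2_c1 LD3_c54)) = (LP (LK LD1_c25 LD2_c55 LD3_c28)) :=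
  Lre_c IH (LK LD1_c32 LD2_c1 LD3_c54) (LK LD1_c25 LD2_c55 LD3_c28) Lrfl Lrfl
theorem f290157 : Led Lsl_gt (LP (LK LD1_c8 LD2_c40 LD3_c26)) = (LP (LK LD1_c4 LD2_c21 LD3_c25)) :=
  Lre_g IH (LK LD1_c8 LD2_c40 LD3_c26) (LK LD1_c4 LD2_c21 LD3_c25) Lrfl Lrfl
theorem f232910 : Led Lsl_bt (LP (LK LD1_c4 LD2_c9 LD3_c15)) = (LP (LK LD1_c8 LD2_c18 LD3_c32)) :=
  Lre_b IH (LK LD1_c4 LD2_c9 LD3_c15) (LK LD1_c8 LD2_c18 LD3_c32) Lrfl Lrfl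
theorem f232911 : Led Lsl_gt (LP (LK LD1_c8 LD2_c18 LD3_c32)) = (LP (LK LD1_c15 LD2_c37 LD3_c39)) :=
  Lre_g IH (LK LD1_c8 LD2_c18 LD3_c32) (LK LD1_c15 LD2_c37 LD3_c39) Lrfl Lrfl
theorem f376517 : Led Lsl_ct (LP (LK LD1_c15 LD2_c37 LD3_c39)) = (LP (LK LD1_c25 LD2_c32 LD3_c39)) :=
  Lre_c IH (LK LD1_c15 LD2_c37 LD3_c39) (LK LD1_c25 LD2_c32 LD3_c39) Lrfl Lrfl
theorem f620741 : Led Lsl_gf (LP (LK LD1_c15 LD2_c40 LD3_c23)) = (LP (LK LD1_c25 LD2_c32 LD3_c39)) :=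
  Lgr Lrot129 (Lpr_cf (f620733 IH) (Lpr_bt (K49.f200122 IH) (Lpr_gt (f290157 IH) (Lpe (K49.f39750 IH) (Lpr_ct (K1.f29123 IH) (Lpe (K13.f228934 IH) (Lpe (K13.f167257 IH) (Lpr_bt (f232910 IH) (Lpr_gt (f232911 IH) (Lpr_ct (f376517 IH) (Lpn (LP (LK LD1_c25 LD2_c32 LD3_c39)))))))))))))
theorem f620743 : Led Lsl_gt (LP (LK LD1_c15 LD2_c40 LD3_c10)) = (LP (LK LD1_c25 LD2_c32 LD3_c39)) :=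
  Lgr Lrot5 (Lpr_ft (K50.f620613 IH) (Lpr_at (K50.f620612 IH) (Lpr_gf (f620741 IH) (Lpn (LP (LK LD1_c25 LD2_c32 LD3_c39))))))
theorem f620623 : Led Lsl_dt (LP (LK LD1_c15 LD2_c40 LD3_c10)) = (LP (LK LD1_c25 LD2_c35 LD3_c33)) :=
  Lre_d IH (LK LD1_c15 LD2_c40 LD3_c10) (LK LD1_c25 LD2_c35 LD3_c33) Lrfl Lrfl
theorem f376518 : Led Lsl_ct (LP (LK LD1_c25 LD2_c32 LD3_c39)) = (LP (LK LD1_c15 LD2_c37 LD3_c39)) :=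
  Lre_c IH (LK LD1_c25 LD2_c32 LD3_c39) (LK LD1_c15 LD2_c37 LD3_c39) Lrfl Lrfl
theorem f369559 : Led Lsl_ft (LP (LK LD1_c8 LD2_c18 LD3_c32)) = (LP (LK LD1_c4 LD2_c51 LD3_c52)) :=
  Lgr Lrot75 (Lpe (f232910 IH) (Lpr_ff (K27.f369555 IH) (Lpe (K30.f29912 IH) (Lpn (LP (LK LD1_c4 LD2_c51 LD3_c52))))))
theorem f376515 : Led Lsl_gt (LP (LK LD1_c15 LD2_c37 LD3_c39)) = (LP (LK LD1_c9 LD2_c35 LD3_c57)) :=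
  Lgr Lrot46 (Lpe (f232911 IH) (Lpr_ft (f369559 IH) (Lpr_at (K30.f232611 IH) (Lpn (LP (LK LD1_c9 LD2_c35 LD3_c57))))))
theorem f372630 : Led Lsl_ff (LP (LK LD1_c25 LD2_c33 LD3_c0)) = (LP (LK LD1_c31 LD2_c54 LD3_c13)) :=
  Lgr Lrot3 (Lpr_ft (K38.f372622 IH) (Lpn (LP (LK LD1_c31 LD2_c54 LD3_c13))))
theorem f372632 : Led Lsl_at (LP (LK LD1_c25 LD2_c33 LD3_c0)) = (LP (LK LD1_c15 LD2_c38 LD3_c1)) :=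
  Lre_a IH (LK LD1_c25 LD2_c33 LD3_c0) (LK LD1_c15 LD2_c38 LD3_c1) Lrfl Lrfl
theorem f232660 : Led Lsl_at (LP (LK LD1_c25 LD2_c27 LD3_c41)) = (LP (LK LD1_c31 LD2_c54 LD3_c13)) :=
  Lre_a IH (LK LD1_c25 LD2_c27 LD3_c41) (LK LD1_c31 LD2_c54 LD3_c13) Lrfl Lrfl
theorem f372633 : Led Lsl_ft (LP (LK LD1_c15 LD2_c38 LD3_c1)) = (LP (LK LD1_c25 LD2_c27 LD3_c41)) :=
  Lgr Lrot101 (Lpe (f372632 IH) (Lpr_ff (f372630 IH) (Lpe (f232660 IH) (Lpn (LP (LK LD1_c25 LD2_c27 LD3_c41))))))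
theorem f372638 : Led Lsl_gt (LP (LK LD1_c15 LD2_c38 LD3_c1)) = (LP (LK LD1_c25 LD2_c33 LD3_c7)) :=
  Lre_g IH (LK LD1_c15 LD2_c38 LD3_c1) (LK LD1_c25 LD2_c33 LD3_c7) Lrfl Lrfl
theorem f372639 : Led Lsl_gt (LP (LK LD1_c25 LD2_c33 LD3_c7)) = (LP (LK LD1_c31 LD2_c54 LD3_c13)) :=
  Lgr Lrot46 (Lpe (f372638 IH) (Lpr_ft (f372633 IH) (Lpr_at (f232660 IH) (Lpn (LP (LK LD1_c31 LD2_c54 LD3_c13))))))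
theorem f372642 : Led Lsl_ct (LP (LK LD1_c31 LD2_c55 LD3_c57)) = (LP (LK LD1_c25 LD2_c33 LD3_c7)) :=
  Lre_c IH (LK LD1_c31 LD2_c55 LD3_c57) (LK LD1_c25 LD2_c33 LD3_c7) Lrfl Lrfl
theorem f620745 : Led Lsl_gt (LP (LK LD1_c25 LD2_c35 LD3_c33)) = (LP (LK LD1_c31 LD2_c55 LD3_c57)) :=
  Lgr Lrot9 (Lpe (f620623 IH) (Lpr_gt (f620743 IH) (Lpr_ct (f376518 IH) (Lpr_gt (f376515 IH) (Lpe (K30.f232612 IH) (Lpe (K38.f232661 IH) (Lpe (K38.f232662 IH) (Lpe (f372639 IH) (Lpe (f372642 IH) (Lpn (LP (LK LD1_c31 LD2_c55 LD3_c57))))))))))))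
theorem f372641 : Led Lsl_ct (LP (LK LD1_c25 LD2_c33 LD3_c7)) = (LP (LK LD1_c31 LD2_c55 LD3_c57)) :=
  Lre_c IH (LK LD1_c25 LD2_c33 LD3_c7) (LK LD1_c31 LD2_c55 LD3_c57) Lrfl Lrfl
theorem f271477 : Led Lsl_bt (LP (LK LD1_c8 LD2_c30 LD3_c24)) = (LP (LK LD1_c15 LD2_c58 LD3_c26)) :=
  Lre_b IH (LK LD1_c8 LD2_c30 LD3_c24) (LK LD1_c15 LD2_c58 LD3_c26) Lrfl Lrfl
theorem f620934 : Led Lsl_bt (LP (LK LD1_c25 LD2_c33 LD3_c7)) = (LP (LK LD1_c25 LD2_c55 LD3_c28)) :=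
  Lgr Lrot22 (Lpr_ct (f372641 IH) (Lpe (f620745 IH) (Lpr_cf (K50.f620917 IH) (Lpe (K50.f218177 IH) (Lpe (K50.f218176 IH) (Lpr_ct (K17.f218172 IH) (Lpr_gf (K16.f271473 IH) (Lpe (K16.f271460 IH) (Lpr_bt (f271477 IH) (Lpe (f271479 IH) (Lpn (LP (LK LD1_c25 LD2_c55 LD3_c28)))))))))))))
theorem f620936 : Led Lsl_bf (LP (LK LD1_c25 LD2_c33 LD3_c7)) = (LP (LK LD1_c25 LD2_c55 LD3_c28)) :=
  Lgr Lrot24 (Lpr_bt (f620934 IH) (Lpn (LP (LK LD1_c25 LD2_c55 LD3_c28))))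
theorem f372624 : Led Lsl_gf (LP (LK LD1_c15 LD2_c38 LD3_c0)) = (LP (LK LD1_c25 LD2_c27 LD3_c39)) :=
  Lgr Lrot47 (Lpr_gt (K49.f167263 IH) (Lpe (K49.f366334 IH) (Lpr_ff (K38.f372613 IH) (Lpn (LP (LK LD1_c25 LD2_c27 LD3_c39))))))
theorem f369309 : Led Lsl_bt (LP (LK LD1_c16 LD2_c1 LD3_c20)) = (LP (LK LD1_c25 LD2_c54 LD3_c6)) :=
  Lgr Lrot127 (Lpr_bf (K27.f369304 IH) (Lpn (LP (LK LD1_c25 LD2_c54 LD3_c6))))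
theorem f373057 : Led Lsl_at (LP (LK LD1_c16 LD2_c0 LD3_c54)) = (LP (LK LD1_c8 LD2_c31 LD3_c55)) :=
  Lre_a IH (LK LD1_c16 LD2_c0 LD3_c54) (LK LD1_c8 LD2_c31 LD3_c55) Lrfl Lrfl
theorem f221279 : Led Lsl_gt (LP (LK LD1_c16 LD2_c0 LD3_c61)) = (LP (LK LD1_c8 LD2_c31 LD3_c55)) :=
  Lre_g IH (LK LD1_c16 LD2_c0 LD3_c61) (LK LD1_c8 LD2_c31 LD3_c55) Lrfl Lrfl
theorem f373063 : Led Lsl_gf (LP (LK LD1_c16 LD2_c0 LD3_c61)) = (LP (LK LD1_c25 LD2_c54 LD3_c6)) :=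
  Lgr Lrot47 (Lpr_gt (f221279 IH) (Lpe (f373057 IH) (Lpr_ff (K27.f373049 IH) (Lpn (LP (LK LD1_c25 LD2_c54 LD3_c6))))))
theorem f221280 : Led Lsl_bt (LP (LK LD1_c25 LD2_c58 LD3_c25)) = (LP (LK LD1_c16 LD2_c0 LD3_c61)) :=
  Lre_b IH (LK LD1_c25 LD2_c58 LD3_c25) (LK LD1_c16 LD2_c0 LD3_c61) Lrfl Lrfl
theorem f271551 : Led Lsl_bt (LP (LK LD1_c4 LD2_c15 LD3_c34)) = (LP (LK LD1_c8 LD2_c30 LD3_c5)) :=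
  Lre_b IH (LK LD1_c4 LD2_c15 LD3_c34) (LK LD1_c8 LD2_c30 LD3_c5) Lrfl Lrfl
theorem f1204 : Led Lsl_gt (LP (LK LD1_c8 LD2_c30 LD3_c5)) = (LP (LK LD1_c15 LD2_c57 LD3_c53)) :=
  Lre_g IH (LK LD1_c8 LD2_c30 LD3_c5) (LK LD1_c15 LD2_c57 LD3_c53) Lrfl Lrfl
theorem f51913 : Led Lsl_bt (LP (LK LD1_c25 LD2_c54 LD3_c37)) = (LP (LK LD1_c15 LD2_c57 LD3_c53)) :=
  Lre_b IH (LK LD1_c25 LD2_c54 LD3_c37) (LK LD1_c15 LD2_c57 LD3_c53) Lrfl Lrfl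
theorem f616731 : Led Lsl_cf (LP (LK LD1_c20 LD2_c21 LD3_c46)) = (LP (LK LD1_c25 LD2_c54 LD3_c37)) :=
  Lgr Lrot160 (Lpr_gt (f616725 IH) (Lpe (f271549 IH) (Lpr_bt (K31.f271545 IH) (Lpr_gt (K16.f271536 IH) (Lpe (K15.f245035 IH) (Lpr_gt (K16.f271456 IH) (Lpe (K31.f271550 IH) (Lpr_bt (f271551 IH) (Lpr_gt (f1204 IH) (Lpe (f51913 IH) (Lpn (LP (LK LD1_c25 LD2_c54 LD3_c37)))))))))))))
theorem f68711 : Led Lsl_ct (LP (LK LD1_c11 LD2_c23 LD3_c50)) = (LP (LK LD1_c5 LD2_c46 LD3_c58)) :=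
  Lre_c IH (LK LD1_c11 LD2_c23 LD3_c50) (LK LD1_c5 LD2_c46 LD3_c58) Lrfl Lrfl
theorem f59999 : Led Lsl_bt (LP (LK LD1_c2 LD2_c49 LD3_c15)) = (LP (LK LD1_c5 LD2_c46 LD3_c58)) :=
  Lre_b IH (LK LD1_c2 LD2_c49 LD3_c15) (LK LD1_c5 LD2_c46 LD3_c58) Lrfl Lrfl
theorem f412109 : Led Lsl_df (LP (LK LD1_c11 LD2_c12 LD3_c26)) = (LP (LK LD1_c5 LD2_c46 LD3_c58)) :=
  Lgr Lrot12 (Lpr_bt (K40.f172286 IH) (Lpr_dt (K39.f412104 IH) (Lpr_bt (f59999 IH) (Lpn (LP (LK LD1_c5 LD2_c46 LD3_c58))))))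
theorem f561764 : Led Lsl_ff (LP (LK LD1_c17 LD2_c55 LD3_c3)) = (LP (LK LD1_c11 LD2_c59 LD3_c6)) :=
  Lgr Lrot3 (Lpr_ft (K40.f561757 IH) (Lpn (LP (LK LD1_c11 LD2_c59 LD3_c6))))
theorem f616690 : Led Lsl_df (LP (LK LD1_c16 LD2_c3 LD3_c1)) = (LP (LK LD1_c17 LD2_c55 LD3_c3)) :=
  Lgr Lrot78 (Lpr_ft (f616684 IH) (Lpr_dt (K51.f562159 IH) (Lpe (f561764 IH) (Lpn (LP (LK LD1_c17 LD2_c55 LD3_c3))))))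
theorem f290195 : Led Lsl_ct (LP (LK LD1_c16 LD2_c3 LD3_c1)) = (LP (LK LD1_c26 LD2_c0 LD3_c28)) :=
  Lre_c IH (LK LD1_c16 LD2_c3 LD3_c1) (LK LD1_c26 LD2_c0 LD3_c28) Lrfl Lrfl
theorem f344417 : Led Lsl_gt (LP (LK LD1_c15 LD2_c43 LD3_c27)) = (LP (LK LD1_c16 LD2_c3 LD3_c3)) :=
  Lgr Lrot46 (Lpe (K51.f252048 IH) (Lpr_ft (K40.f344404 IH) (Lpr_at (K40.f344407 IH) (Lpn (LP (LK LD1_c16 LD2_c3 LD3_c3))))))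
theorem f616699 : Led Lsl_at (LP (LK LD1_c16 LD2_c3 LD3_c1)) = (LP (LK LD1_c15 LD2_c43 LD3_c28)) :=
  Lgr Lrot26 (Lpr_ff (f616692 IH) (Lpr_gt (f344417 IH) (Lpe (K40.f344456 IH) (Lpn (LP (LK LD1_c15 LD2_c43 LD3_c28))))))
theorem f344431 : Led Lsl_ct (LP (LK LD1_c26 LD2_c0 LD3_c28)) = (LP (LK LD1_c16 LD2_c3 LD3_c1)) :=
  Lre_c IH (LK LD1_c26 LD2_c0 LD3_c28) (LK LD1_c16 LD2_c3 LD3_c1) Lrfl Lrfl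
theorem f616701 : Led Lsl_af (LP (LK LD1_c26 LD2_c0 LD3_c28)) = (LP (LK LD1_c25 LD2_c39 LD3_c42)) :=
  Lgr Lrot68 (Lpr_ct (f344431 IH) (Lpr_at (f616699 IH) (Lpr_ct (K40.f344458 IH) (Lpn (LP (LK LD1_c25 LD2_c39 LD3_c42))))))
theorem f407795 : Led Lsl_bf (LP (LK LD1_c26 LD2_c0 LD3_c30)) = (LP (LK LD1_c25 LD2_c53 LD3_c20)) :=
  Lgr Lrot24 (Lpr_bt (f407793 IH) (Lpn (LP (LK LD1_c25 LD2_c53 LD3_c20))))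
theorem f616643 : Led Lsl_ft (LP (LK LD1_c26 LD2_c0 LD3_c30)) = (LP (LK LD1_c25 LD2_c39 LD3_c42)) :=
  Lgr Lrot75 (Lpr_bf (f407795 IH) (Lpr_ff (f616639 IH) (Lpe (K40.f400764 IH) (Lpn (LP (LK LD1_c25 LD2_c39 LD3_c42))))))
theorem f616742 : Led Lsl_dt (LP (LK LD1_c26 LD2_c0 LD3_c30)) = (LP (LK LD1_c25 LD2_c54 LD3_c37)) :=
  Lgr Lrot159 (Lpr_ft (f616643 IH) (Lpe (f616701 IH) (Lpe (f290195 IH) (Lpr_df (f616690 IH) (Lpr_cf (K40.f561760 IH) (Lpr_df (f412109 IH) (Lpe (f68711 IH) (Lpe (K51.f68709 IH) (Lpr_cf (f616731 IH) (Lpn (LP (LK LD1_c25 LD2_c54 LD3_c37))))))))))))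
theorem f616757 : Led Lsl_df (LP (LK LD1_c16 LD2_c3 LD3_c2)) = (LP (LK LD1_c21 LD2_c3 LD3_c56)) :=
  Lgr Lrot157 (Lpr_ct (f344453 IH) (Lpr_dt (f616742 IH) (Lpe (f616731 IH) (Lpr_dt (K51.f68709 IH) (Lpr_ct (f68711 IH) (Lpe (f412109 IH) (Lpe (K40.f561760 IH) (Lpe (K40.f561978 IH) (Lpr_ff (K40.f561984 IH) (Lpn (LP (LK LD1_c21 LD2_c3 LD3_c56))))))))))))
theorem f561925 : Led Lsl_at (LP (LK LD1_c29 LD2_c25 LD3_c25)) = (LP (LK LD1_c20 LD2_c21 LD3_c46)) :=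
  Lre_a IH (LK LD1_c29 LD2_c25 LD3_c25) (LK LD1_c20 LD2_c21 LD3_c46) Lrfl Lrfl
theorem f561927 : Led Lsl_ff (LP (LK LD1_c29 LD2_c25 LD3_c25)) = (LP (LK LD1_c29 LD2_c21 LD3_c13)) :=
  Lgr Lrot30 (Lpr_at (f561925 IH) (Lpr_ft (K40.f561920 IH) (Lpr_at (f561926 IH) (Lpn (LP (LK LD1_c29 LD2_c21 LD3_c13))))))
theorem f616759 : Led Lsl_cf (LP (LK LD1_c20 LD2_c21 LD3_c52)) = (LP (LK LD1_c20 LD2_c11 LD3_c26)) :=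
  Lgr Lrot118 (Lpe (K51.f60087 IH) (Lpr_ct (K40.f73104 IH) (Lpe (f616757 IH) (Lpr_ct (f344453 IH) (Lpr_dt (f616742 IH) (Lpe (f616731 IH) (Lpe (f561925 IH) (Lpr_ff (f561927 IH) (Lpr_dt (f561917 IH) (Lpn (LP (LK LD1_c20 LD2_c11 LD3_c26))))))))))))
theorem f68697 : Led Lsl_gt (LP (LK LD1_c11 LD2_c24 LD3_c4)) = (LP (LK LD1_c20 LD2_c21 LD3_c52)) :=
  Lre_g IH (LK LD1_c11 LD2_c24 LD3_c4) (LK LD1_c20 LD2_c21 LD3_c52) Lrfl Lrfl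
theorem f68699 : Led Lsl_ct (LP (LK LD1_c20 LD2_c21 LD3_c55)) = (LP (LK LD1_c11 LD2_c24 LD3_c4)) :=
  Lre_c IH (LK LD1_c20 LD2_c21 LD3_c55) (LK LD1_c11 LD2_c24 LD3_c4) Lrfl Lrfl
theorem f542274 : Led Lsl_bt (LP (LK LD1_c16 LD2_c52 LD3_c7)) = (LP (LK LD1_c9 LD2_c2 LD3_c3)) :=
  Lre_b IH (LK LD1_c16 LD2_c52 LD3_c7) (LK LD1_c9 LD2_c2 LD3_c3) Lrfl Lrfl
theorem f586895 : Led Lsl_at (LP (LK LD1_c26 LD2_c49 LD3_c11)) = (LP (LK LD1_c16 LD2_c52 LD3_c7)) :=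
  Lre_a IH (LK LD1_c26 LD2_c49 LD3_c11) (LK LD1_c16 LD2_c52 LD3_c7) Lrfl Lrfl
theorem f586896 : Led Lsl_bt (LP (LK LD1_c20 LD2_c11 LD3_c26)) = (LP (LK LD1_c26 LD2_c49 LD3_c11)) :=
  Lgr Lrot62 (Lpe (f561903 IH) (Lpe (K51.f280310 IH) (Lpr_af (K45.f586891 IH) (Lpe (f542274 IH) (Lpe (f586895 IH) (Lpn (LP (LK LD1_c26 LD2_c49 LD3_c11))))))))
theorem f73109 : Led Lsl_bt (LP (LK LD1_c5 LD2_c46 LD3_c50)) = (LP (LK LD1_c11 LD2_c23 LD3_c50)) :=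
  Lre_b IH (LK LD1_c5 LD2_c46 LD3_c50) (LK LD1_c11 LD2_c23 LD3_c50) Lrfl Lrfl
theorem f402623 : Led Lsl_bt (LP (LK LD1_c11 LD2_c15 LD3_c50)) = (LP (LK LD1_c5 LD2_c42 LD3_c48)) :=
  Lre_b IH (LK LD1_c11 LD2_c15 LD3_c50) (LK LD1_c5 LD2_c42 LD3_c48) Lrfl Lrfl
theorem f561906 : Led Lsl_ff (LP (LK LD1_c5 LD2_c46 LD3_c50)) = (LP (LK LD1_c5 LD2_c42 LD3_c48)) :=
  Lgr Lrot25 (Lpr_bt (f73109 IH) (Lpr_ft (K40.f561901 IH) (Lpr_bt (f402623 IH) (Lpn (LP (LK LD1_c5 LD2_c42 LD3_c48))))))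
theorem f586900 : Led Lsl_at (LP (LK LD1_c5 LD2_c46 LD3_c50)) = (LP (LK LD1_c5 LD2_c42 LD3_c51)) :=
  Lgr Lrot66 (Lpr_ff (f561906 IH) (Lpr_af (K45.f586891 IH) (Lpe (K45.f586883 IH) (Lpn (LP (LK LD1_c5 LD2_c42 LD3_c51))))))
theorem f68712 : Led Lsl_bt (LP (LK LD1_c11 LD2_c23 LD3_c50)) = (LP (LK LD1_c5 LD2_c46 LD3_c50)) :=
  Lre_b IH (LK LD1_c11 LD2_c23 LD3_c50) (LK LD1_c5 LD2_c46 LD3_c50) Lrfl Lrfl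
theorem f280890 : Led Lsl_bt (LP (LK LD1_c5 LD2_c42 LD3_c51)) = (LP (LK LD1_c11 LD2_c15 LD3_c55)) :=
  Lre_b IH (LK LD1_c5 LD2_c42 LD3_c51) (LK LD1_c11 LD2_c15 LD3_c55) Lrfl Lrfl
theorem f381445 : Led Lsl_at (LP (LK LD1_c11 LD2_c15 LD3_c55)) = (LP (LK LD1_c20 LD2_c11 LD3_c40)) :=
  Lre_a IH (LK LD1_c11 LD2_c15 LD3_c55) (LK LD1_c20 LD2_c11 LD3_c40) Lrfl Lrfl
theorem f586902 : Led Lsl_bf (LP (LK LD1_c20 LD2_c21 LD3_c45)) = (LP (LK LD1_c20 LD2_c11 LD3_c40)) :=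
  Lgr Lrot81 (Lpr_at (f73090 IH) (Lpr_bt (f68712 IH) (Lpr_at (f586900 IH) (Lpr_bt (f280890 IH) (Lpr_at (f381445 IH) (Lpn (LP (LK LD1_c20 LD2_c11 LD3_c40))))))))
theorem f73070 : Led Lsl_at (LP (LK LD1_c11 LD2_c23 LD3_c50)) = (LP (LK LD1_c20 LD2_c21 LD3_c45)) :=
  Lre_a IH (LK LD1_c11 LD2_c23 LD3_c50) (LK LD1_c20 LD2_c21 LD3_c45) Lrfl Lrfl
theorem f561896 : Led Lsl_at (LP (LK LD1_c20 LD2_c11 LD3_c26)) = (LP (LK LD1_c11 LD2_c15 LD3_c50)) :=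
  Lre_a IH (LK LD1_c20 LD2_c11 LD3_c26) (LK LD1_c11 LD2_c15 LD3_c50) Lrfl Lrfl
theorem f561918 : Led Lsl_ft (LP (LK LD1_c20 LD2_c21 LD3_c45)) = (LP (LK LD1_c20 LD2_c11 LD3_c26)) :=
  Lgr Lrot101 (Lpe (f73070 IH) (Lpr_ff (K40.f561912 IH) (Lpe (f561896 IH) (Lpn (LP (LK LD1_c20 LD2_c11 LD3_c26))))))
theorem f586963 : Led Lsl_ft (LP (LK LD1_c26 LD2_c49 LD3_c11)) = (LP (LK LD1_c20 LD2_c11 LD3_c40)) :=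
  Lgr Lrot75 (Lpe (f586896 IH) (Lpe (f561918 IH) (Lpr_bf (f586902 IH) (Lpn (LP (LK LD1_c20 LD2_c11 LD3_c40))))))
theorem f381438 : Led Lsl_at (LP (LK LD1_c20 LD2_c11 LD3_c40)) = (LP (LK LD1_c11 LD2_c15 LD3_c55)) :=
  Lre_a IH (LK LD1_c20 LD2_c11 LD3_c40) (LK LD1_c11 LD2_c15 LD3_c55) Lrfl Lrfl
theorem f280891 : Led Lsl_gt (LP (LK LD1_c20 LD2_c11 LD3_c39)) = (LP (LK LD1_c11 LD2_c15 LD3_c55)) :=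
  Lre_g IH (LK LD1_c20 LD2_c11 LD3_c39) (LK LD1_c11 LD2_c15 LD3_c55) Lrfl Lrfl
theorem f586970 : Led Lsl_gt (LP (LK LD1_c26 LD2_c49 LD3_c11)) = (LP (LK LD1_c20 LD2_c11 LD3_c39)) :=
  Lgr Lrot5 (Lpr_ft (f586963 IH) (Lpr_at (f381438 IH) (Lpe (f280891 IH) (Lpn (LP (LK LD1_c20 LD2_c11 LD3_c39))))))
theorem f392317 : Led Lsl_bt (LP (LK LD1_c19 LD2_c33 LD3_c41)) = (LP (LK LD1_c20 LD2_c11 LD3_c39)) :=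
  Lgr Lrot22 (Lpr_ct (K31.f392166 IH) (Lpr_gf (K31.f390837 IH) (Lpe (K31.f280888 IH) (Lpe (K31.f280886 IH) (Lpr_bf (K20.f280879 IH) (Lpr_ct (K31.f174233 IH) (Lpe (K36.f172746 IH) (Lpe (K36.f280889 IH) (Lpr_bt (f280890 IH) (Lpe (f280891 IH) (Lpn (LP (LK LD1_c20 LD2_c11 LD3_c39)))))))))))))
theorem f388255 : Led Lsl_bt (LP (LK LD1_c10 LD2_c55 LD3_c10)) = (LP (LK LD1_c19 LD2_c43 LD3_c35)) :=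
  Lre_b IH (LK LD1_c10 LD2_c55 LD3_c10) (LK LD1_c19 LD2_c43 LD3_c35) Lrfl Lrfl
theorem f616763 : Led Lsl_gf (LP (LK LD1_c20 LD2_c21 LD3_c55)) = (LP (LK LD1_c19 LD2_c43 LD3_c35)) :=
  Lgr Lrot181 (Lpr_ct (f68699 IH) (Lpr_gt (f68697 IH) (Lpr_cf (f616759 IH) (Lpr_bt (f586896 IH) (Lpr_gt (f586970 IH) (Lpe (f392317 IH) (Lpr_ct (K31.f392166 IH) (Lpr_gt (K31.f390718 IH) (Lpe (K31.f388243 IH) (Lpr_bt (f388255 IH) (Lpn (LP (LK LD1_c19 LD2_c43 LD3_c35)))))))))))))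
theorem f68701 : Led Lsl_dt (LP (LK LD1_c20 LD2_c21 LD3_c55)) = (LP (LK LD1_c29 LD2_c25 LD3_c32)) :=
  Lre_d IH (LK LD1_c20 LD2_c21 LD3_c55) (LK LD1_c29 LD2_c25 LD3_c32) Lrfl Lrfl
theorem f319280 : Led Lsl_cf (LP (LK LD1_c16 LD2_c49 LD3_c25)) = (LP (LK LD1_c11 LD2_c5 LD3_c7)) :=
  Lgr Lrot11 (Lpr_ct (K31.f319219 IH) (Lpn (LP (LK LD1_c11 LD2_c5 LD3_c7))))
theorem f54919 : Led Lsl_gt (LP (LK LD1_c7 LD2_c58 LD3_c35)) = (LP (LK LD1_c15 LD2_c2 LD3_c56)) :=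
  Lre_g IH (LK LD1_c7 LD2_c58 LD3_c35) (LK LD1_c15 LD2_c2 LD3_c56) Lrfl Lrfl
theorem f253836 : Led Lsl_dt (LP (LK LD1_c10 LD2_c48 LD3_c43)) = (LP (LK LD1_c19 LD2_c32 LD3_c52)) :=
  Lre_d IH (LK LD1_c10 LD2_c48 LD3_c43) (LK LD1_c19 LD2_c32 LD3_c52) Lrfl Lrfl
theorem f384781 : Led Lsl_dt (LP (LK LD1_c15 LD2_c2 LD3_c56)) = (LP (LK LD1_c11 LD2_c5 LD3_c7)) :=
  Lgr Lrot57 (Lpe (f54919 IH) (Lpe (K20.f173703 IH) (Lpr_gt (K30.f173894 IH) (Lpr_dt (K31.f384769 IH) (Lpr_gt (K30.f384492 IH) (Lpr_dt (K20.f319561 IH) (Lpe (K20.f319006 IH) (Lpe (f253836 IH) (Lpr_gf (K31.f253831 IH) (Lpn (LP (LK LD1_c11 LD2_c5 LD3_c7))))))))))))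
theorem f173885 : Led Lsl_bt (LP (LK LD1_c3 LD2_c58 LD3_c33)) = (LP (LK LD1_c7 LD2_c58 LD3_c35)) :=
  Lre_b IH (LK LD1_c3 LD2_c58 LD3_c33) (LK LD1_c7 LD2_c58 LD3_c35) Lrfl Lrfl
theorem f250595 : Led Lsl_dt (LP (LK LD1_c8 LD2_c31 LD3_c55)) = (LP (LK LD1_c4 LD2_c16 LD3_c21)) :=
  Lre_d IH (LK LD1_c8 LD2_c31 LD3_c55) (LK LD1_c4 LD2_c16 LD3_c21) Lrfl Lrfl
theorem f616765 : Led Lsl_ct (LP (LK LD1_c29 LD2_c25 LD3_c32)) = (LP (LK LD1_c25 LD2_c58 LD3_c25)) :=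
  Lgr Lrot191 (Lpe (f68701 IH) (Lpr_gf (f616763 IH) (Lpe (f388255 IH) (Lpr_cf (K31.f388253 IH) (Lpe (K31.f226521 IH) (Lpe (K31.f226416 IH) (Lpe (K31.f319282 IH) (Lpr_cf (f319280 IH) (Lpe (f384781 IH) (Lpe (f54919 IH) (Lpe (f173885 IH) (Lpe (K15.f41921 IH) (Lpr_df (K16.f219121 IH) (Lpe (K14.f219144 IH) (Lpe (K20.f250586 IH) (Lpe (K49.f53403 IH) (Lpe (f250595 IH) (Lpe (f221279 IH) (Lpe (f221280 IH) (Lpn (LP (LK LD1_c25 LD2_c58 LD3_c25))))))))))))))))))))))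
theorem f616769 : Led Lsl_cf (LP (LK LD1_c29 LD2_c25 LD3_c32)) = (LP (LK LD1_c25 LD2_c58 LD3_c25)) :=
  Lgr Lrot11 (Lpr_ct (f616765 IH) (Lpn (LP (LK LD1_c25 LD2_c58 LD3_c25))))
theorem f323092 : Led Lsl_ct (LP (LK LD1_c25 LD2_c55 LD3_c28)) = (LP (LK LD1_c32 LD2_c1 LD3_c54)) :=
  Lre_c IH (LK LD1_c25 LD2_c55 LD3_c28) (LK LD1_c32 LD2_c1 LD3_c54) Lrfl Lrfl
theorem f620938 : Led Lsl_gt (LP (LK LD1_c29 LD2_c25 LD3_c32)) = (LP (LK LD1_c32 LD2_c1 LD3_c54)) :=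
  Lgr Lrot65 (Lpr_cf (f616769 IH) (Lpr_bt (f221280 IH) (Lpr_gf (f373063 IH) (Lpe (f369309 IH) (Lpe (K49.f620400 IH) (Lpr_gf (f372624 IH) (Lpe (K38.f232662 IH) (Lpe (f372639 IH) (Lpr_bf (f620936 IH) (Lpr_ct (f323092 IH) (Lpn (LP (LK LD1_c32 LD2_c1 LD3_c54)))))))))))))
theorem f407056 : Led Lsl_dt (LP (LK LD1_c26 LD2_c49 LD3_c1)) = (LP (LK LD1_c16 LD2_c51 LD3_c56)) :=
  Lre_d IH (LK LD1_c26 LD2_c49 LD3_c1) (LK LD1_c16 LD2_c51 LD3_c56) Lrfl Lrfl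
theorem f617005 : Led Lsl_gt (LP (LK LD1_c29 LD2_c25 LD3_c24)) = (LP (LK LD1_c26 LD2_c49 LD3_c1)) :=
  Lgr Lrot94 (Lpr_cf (f617001 IH) (Lpr_gt (f601827 IH) (Lpr_dt (f365475 IH) (Lpr_gt (f243588 IH) (Lpr_dt (K51.f374336 IH) (Lpe (K51.f374271 IH) (Lpr_df (K51.f417946 IH) (Lpe (K51.f173372 IH) (Lpe (f407056 IH) (Lpn (LP (LK LD1_c26 LD2_c49 LD3_c1))))))))))))
theorem f616744 : Led Lsl_dt (LP (LK LD1_c29 LD2_c25 LD3_c24)) = (LP (LK LD1_c20 LD2_c21 LD3_c44)) :=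
  Lre_d IH (LK LD1_c29 LD2_c25 LD3_c24) (LK LD1_c20 LD2_c21 LD3_c44) Lrfl Lrfl
theorem f60041 : Led Lsl_gt (LP (LK LD1_c5 LD2_c46 LD3_c58)) = (LP (LK LD1_c11 LD2_c24 LD3_c4)) :=
  Lre_g IH (LK LD1_c5 LD2_c46 LD3_c58) (LK LD1_c11 LD2_c24 LD3_c4) Lrfl Lrfl
theorem f68613 : Led Lsl_ct (LP (LK LD1_c11 LD2_c24 LD3_c4)) = (LP (LK LD1_c20 LD2_c21 LD3_c55)) :=
  Lre_c IH (LK LD1_c11 LD2_c24 LD3_c4) (LK LD1_c20 LD2_c21 LD3_c55) Lrfl Lrfl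
theorem f271523 : Led Lsl_dt (LP (LK LD1_c16 LD2_c0 LD3_c50)) = (LP (LK LD1_c25 LD2_c58 LD3_c13)) :=
  Lre_d IH (LK LD1_c16 LD2_c0 LD3_c50) (LK LD1_c25 LD2_c58 LD3_c13) Lrfl Lrfl
theorem f562264 : Led Lsl_gf (LP (LK LD1_c31 LD2_c57 LD3_c58)) = (LP (LK LD1_c25 LD2_c58 LD3_c13)) :=
  Lgr Lrot143 (Lpr_dt (K51.f407359 IH) (Lpe (K51.f252054 IH) (Lpr_df (f562169 IH) (Lpr_gf (K51.f542171 IH) (Lpr_df (f290318 IH) (Lpe (K51.f192002 IH) (Lpe (K51.f192008 IH) (Lpr_gt (K51.f400009 IH) (Lpr_dt (f271523 IH) (Lpn (LP (LK LD1_c25 LD2_c58 LD3_c13))))))))))))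
theorem f562266 : Led Lsl_gt (LP (LK LD1_c31 LD2_c57 LD3_c58)) = (LP (LK LD1_c32 LD2_c6 LD3_c14)) :=
  Lgr Lrot46 (Lpr_gf (f562264 IH) (Lpe (K31.f398929 IH) (Lpr_at (K31.f398879 IH) (Lpn (LP (LK LD1_c32 LD2_c6 LD3_c14))))))
theorem f562262 : Led Lsl_ct (LP (LK LD1_c31 LD2_c57 LD3_c58)) = (LP (LK LD1_c29 LD2_c25 LD3_c25)) :=
  Lgr Lrot176 (Lpe (K51.f407358 IH) (Lpe (K51.f252054 IH) (Lpr_df (f562169 IH) (Lpe (f60075 IH) (Lpr_df (K1.f60058 IH) (Lpr_cf (K40.f561893 IH) (Lpe (K40.f418701 IH) (Lpe (K40.f561285 IH) (Lpe (K40.f561962 IH) (Lpe (K40.f344458 IH) (Lpe (K40.f344437 IH) (Lpr_cf (K40.f561970 IH) (Lpr_df (K40.f412243 IH) (Lpe (K51.f60080 IH) (Lpe (K51.f60081 IH) (Lpn (LP (LK LD1_c29 LD2_c25 LD3_c25))))))))))))))))))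
theorem f561972 : Led Lsl_at (LP (LK LD1_c29 LD2_c21 LD3_c13)) = (LP (LK LD1_c20 LD2_c11 LD3_c27)) :=
  Lre_a IH (LK LD1_c29 LD2_c21 LD3_c13) (LK LD1_c20 LD2_c11 LD3_c27) Lrfl Lrfl
theorem f561973 : Led Lsl_ft (LP (LK LD1_c29 LD2_c25 LD3_c25)) = (LP (LK LD1_c29 LD2_c21 LD3_c13)) :=
  Lgr Lrot142 (Lpr_dt (K51.f60081 IH) (Lpr_ct (K51.f60080 IH) (Lpe (K40.f412243 IH) (Lpe (K40.f561970 IH) (Lpr_dt (K40.f344437 IH) (Lpr_ct (K40.f344458 IH) (Lpr_dt (K40.f561962 IH) (Lpr_ct (K40.f561285 IH) (Lpe (f561972 IH) (Lpn (LP (LK LD1_c29 LD2_c21 LD3_c13))))))))))))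
theorem f561976 : Led Lsl_gt (LP (LK LD1_c29 LD2_c25 LD3_c25)) = (LP (LK LD1_c29 LD2_c21 LD3_c14)) :=
  Lgr Lrot5 (Lpr_ft (f561973 IH) (Lpr_at (f561972 IH) (Lpe (K51.f418702 IH) (Lpn (LP (LK LD1_c29 LD2_c21 LD3_c14))))))
theorem f562208 : Led Lsl_dt (LP (LK LD1_c29 LD2_c21 LD3_c14)) = (LP (LK LD1_c26 LD2_c49 LD3_c0)) :=
  Lgr Lrot42 (Lpr_df (f562202 IH) (Lpn (LP (LK LD1_c26 LD2_c49 LD3_c0))))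
theorem f407054 : Led Lsl_dt (LP (LK LD1_c16 LD2_c51 LD3_c56)) = (LP (LK LD1_c26 LD2_c49 LD3_c1)) :=
  Lre_d IH (LK LD1_c16 LD2_c51 LD3_c56) (LK LD1_c26 LD2_c49 LD3_c1) Lrfl Lrfl
theorem f192007 : Led Lsl_dt (LP (LK LD1_c25 LD2_c42 LD3_c22)) = (LP (LK LD1_c31 LD2_c58 LD3_c34)) :=
  Lre_d IH (LK LD1_c25 LD2_c42 LD3_c22) (LK LD1_c31 LD2_c58 LD3_c34) Lrfl Lrfl
theorem f562268 : Led Lsl_ct (LP (LK LD1_c26 LD2_c49 LD3_c1)) = (LP (LK LD1_c31 LD2_c58 LD3_c34)) :=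
  Lgr Lrot7 (Lpe (f407054 IH) (Lpe (f407055 IH) (Lpe (f562208 IH) (Lpe (f561976 IH) (Lpe (f562262 IH) (Lpr_gt (f562266 IH) (Lpr_dt (K51.f374276 IH) (Lpe (K51.f374274 IH) (Lpr_dt (f192007 IH) (Lpn (LP (LK LD1_c31 LD2_c58 LD3_c34))))))))))))
theorem f617007 : Led Lsl_gf (LP (LK LD1_c25 LD2_c58 LD3_c25)) = (LP (LK LD1_c31 LD2_c58 LD3_c34)) :=
  Lgr Lrot104 (Lpe (f616769 IH) (Lpe (f68701 IH) (Lpe (f68613 IH) (Lpe (f60041 IH) (Lpe (f68711 IH) (Lpe (f73080 IH) (Lpe (f616744 IH) (Lpr_gt (f617005 IH) (Lpr_ct (f562268 IH) (Lpn (LP (LK LD1_c31 LD2_c58 LD3_c34))))))))))))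
theorem f243328 : Led Lsl_ct (LP (LK LD1_c16 LD2_c0 LD3_c50)) = (LP (LK LD1_c25 LD2_c58 LD3_c12)) :=
  Lre_c IH (LK LD1_c16 LD2_c0 LD3_c50) (LK LD1_c25 LD2_c58 LD3_c12) Lrfl Lrfl
theorem f717191 : Led Lsl_gf (LP (LK LD1_c20 LD2_c54 LD3_c53)) = (LP (LK LD1_c25 LD2_c58 LD3_c12)) :=
  Lgr Lrot104 (Lpr_ct (f717187 IH) (Lpe (f717185 IH) (Lpe (f323093 IH) (Lpe (f620938 IH) (Lpr_cf (f616769 IH) (Lpr_gf (f617007 IH) (Lpe (f192007 IH) (Lpr_gt (K51.f400009 IH) (Lpr_ct (f243328 IH) (Lpn (LP (LK LD1_c25 LD2_c58 LD3_c12))))))))))))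
theorem f192006 : Led Lsl_dt (LP (LK LD1_c31 LD2_c58 LD3_c34)) = (LP (LK LD1_c25 LD2_c42 LD3_c22)) :=
  Lre_d IH (LK LD1_c31 LD2_c58 LD3_c34) (LK LD1_c25 LD2_c42 LD3_c22) Lrfl Lrfl
theorem f717193 : Led Lsl_df (LP (LK LD1_c25 LD2_c55 LD3_c28)) = (LP (LK LD1_c25 LD2_c43 LD3_c45)) :=
  Lgr Lrot162 (Lpe (f323093 IH) (Lpe (f620938 IH) (Lpr_cf (f616769 IH) (Lpr_gf (f617007 IH) (Lpr_dt (f192006 IH) (Lpr_gt (K51.f400009 IH) (Lpr_ct (f243328 IH) (Lpe (f717191 IH) (Lpr_ct (f717187 IH) (Lpn (LP (LK LD1_c25 LD2_c43 LD3_c45))))))))))))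
theorem f717197 : Led Lsl_ft (LP (LK LD1_c25 LD2_c55 LD3_c28)) = (LP (LK LD1_c25 LD2_c56 LD3_c57)) :=
  Lgr Lrot54 (Lpr_df (f717193 IH) (Lpr_ff (f365469 IH) (Lpe (f365475 IH) (Lpn (LP (LK LD1_c25 LD2_c56 LD3_c57))))))
theorem f717203 : Led Lsl_ff (LP (LK LD1_c25 LD2_c55 LD3_c28)) = (LP (LK LD1_c25 LD2_c56 LD3_c57)) :=
  Lgr Lrot3 (Lpr_ft (f717197 IH) (Lpn (LP (LK LD1_c25 LD2_c56 LD3_c57))))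
theorem f400472 : Led Lsl_gt (LP (LK LD1_c15 LD2_c40 LD3_c25)) = (LP (LK LD1_c25 LD2_c35 LD3_c55)) :=
  Lre_g IH (LK LD1_c15 LD2_c40 LD3_c25) (LK LD1_c25 LD2_c35 LD3_c55) Lrfl Lrfl
theorem f400471 : Led Lsl_dt (LP (LK LD1_c8 LD2_c19 LD3_c45)) = (LP (LK LD1_c15 LD2_c40 LD3_c25)) :=
  Lre_d IH (LK LD1_c8 LD2_c19 LD3_c45) (LK LD1_c15 LD2_c40 LD3_c25) Lrfl Lrfl
theorem f258625 : Led Lsl_gt (LP (LK LD1_c25 LD2_c27 LD3_c41)) = (LP (LK LD1_c31 LD2_c54 LD3_c14)) :=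
  Lre_g IH (LK LD1_c25 LD2_c27 LD3_c41) (LK LD1_c31 LD2_c54 LD3_c14) Lrfl Lrfl
theorem f372644 : Led Lsl_gf (LP (LK LD1_c25 LD2_c33 LD3_c0)) = (LP (LK LD1_c31 LD2_c54 LD3_c14)) :=
  Lgr Lrot76 (Lpe (K38.f372627 IH) (Lpr_ff (K38.f372628 IH) (Lpr_gt (f258625 IH) (Lpn (LP (LK LD1_c31 LD2_c54 LD3_c14))))))
theorem f400473 : Led Lsl_ct (LP (LK LD1_c25 LD2_c35 LD3_c55)) = (LP (LK LD1_c31 LD2_c54 LD3_c14)) :=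
  Lgr Lrot152 (Lpe (f400472 IH) (Lpe (f400471 IH) (Lpr_gt (K49.f397184 IH) (Lpr_ct (K49.f400466 IH) (Lpr_gt (K38.f373009 IH) (Lpr_ct (K30.f372580 IH) (Lpe (K38.f366336 IH) (Lpe (K38.f366325 IH) (Lpr_gf (f372644 IH) (Lpn (LP (LK LD1_c31 LD2_c54 LD3_c14))))))))))))
theorem f400485 : Led Lsl_cf (LP (LK LD1_c25 LD2_c35 LD3_c55)) = (LP (LK LD1_c31 LD2_c54 LD3_c14)) :=
  Lgr Lrot11 (Lpr_ct (f400473 IH) (Lpn (LP (LK LD1_c31 LD2_c54 LD3_c14))))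
theorem f295303 : Led Lsl_bt (LP (LK LD1_c8 LD2_c29 LD3_c59)) = (LP (LK LD1_c15 LD2_c57 LD3_c32)) :=
  Lre_b IH (LK LD1_c8 LD2_c29 LD3_c59) (LK LD1_c15 LD2_c57 LD3_c32) Lrfl Lrfl
theorem f620394 : Led Lsl_bt (LP (LK LD1_c31 LD2_c54 LD3_c14)) = (LP (LK LD1_c25 LD2_c56 LD3_c57)) :=
  Lgr Lrot22 (Lpe (f400485 IH) (Lpe (f400472 IH) (Lpe (K49.f400487 IH) (Lpr_gf (K49.f620390 IH) (Lpe (f295303 IH) (Lpe (K18.f295301 IH) (Lpe (K19.f312030 IH) (Lpe (K17.f282721 IH) (Lpr_bt (K27.f282714 IH) (Lpr_gf (f601824 IH) (Lpn (LP (LK LD1_c25 LD2_c56 LD3_c57)))))))))))))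
theorem f717205 : Led Lsl_ft (LP (LK LD1_c25 LD2_c33 LD3_c7)) = (LP (LK LD1_c31 LD2_c54 LD3_c14)) :=
  Lgr Lrot75 (Lpr_bf (f620936 IH) (Lpr_ff (f717203 IH) (Lpe (f620394 IH) (Lpn (LP (LK LD1_c31 LD2_c54 LD3_c14))))))
theorem f254762 : Led Lsl_gt (LP (LK LD1_c25 LD2_c33 LD3_c8)) = (LP (LK LD1_c15 LD2_c38 LD3_c1)) :=
  Lre_g IH (LK LD1_c25 LD2_c33 LD3_c8) (LK LD1_c15 LD2_c38 LD3_c1) Lrfl Lrfl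
theorem f372635 : Led Lsl_gf (LP (LK LD1_c25 LD2_c33 LD3_c8)) = (LP (LK LD1_c31 LD2_c54 LD3_c13)) :=
  Lgr Lrot47 (Lpr_gt (f254762 IH) (Lpe (f372632 IH) (Lpr_ff (f372630 IH) (Lpn (LP (LK LD1_c31 LD2_c54 LD3_c13))))))
theorem f717209 : Led Lsl_af (LP (LK LD1_c25 LD2_c33 LD3_c8)) = (LP (LK LD1_c31 LD2_c54 LD3_c14)) :=
  Lgr Lrot31 (Lpr_gf (f372635 IH) (Lpe (f372639 IH) (Lpr_ft (f717205 IH) (Lpn (LP (LK LD1_c31 LD2_c54 LD3_c14))))))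
theorem f2775 : Led Lsl_gt (LP (LK LD1_c4 LD2_c51 LD3_c56)) = (LP (LK LD1_c2 LD2_c23 LD3_c45)) :=
  Lre_g IH (LK LD1_c4 LD2_c51 LD3_c56) (LK LD1_c2 LD2_c23 LD3_c45) Lrfl Lrfl
theorem f398051 : Led Lsl_gt (LP (LK LD1_c17 LD2_c39 LD3_c2)) = (LP (LK LD1_c15 LD2_c47 LD3_c1)) :=
  Lgr Lrot65 (Lpe (K38.f171142 IH) (Lpr_bt (K49.f232693 IH) (Lpe (K38.f232696 IH) (Lpe (K38.f232689 IH) (Lpr_ct (K38.f2363 IH) (Lpe (K38.f2752 IH) (Lpe (K13.f2356 IH) (Lpe (f2775 IH) (Lpe (K49.f29873 IH) (Lpr_ct (K49.f398034 IH) (Lpn (LP (LK LD1_c15 LD2_c47 LD3_c1)))))))))))))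
theorem f620693 : Led Lsl_df (LP (LK LD1_c25 LD2_c33 LD3_c8)) = (LP (LK LD1_c15 LD2_c47 LD3_c1)) :=
  Lgr Lrot153 (Lpr_gt (f254762 IH) (Lpe (K38.f399207 IH) (Lpr_cf (K38.f243513 IH) (Lpr_df (K50.f620683 IH) (Lpe (K50.f372990 IH) (Lpe (K38.f372976 IH) (Lpr_gf (K30.f373005 IH) (Lpe (K38.f171148 IH) (Lpr_gt (f398051 IH) (Lpn (LP (LK LD1_c15 LD2_c47 LD3_c1))))))))))))
theorem f53350 : Led Lsl_dt (LP (LK LD1_c15 LD2_c47 LD3_c2)) = (LP (LK LD1_c8 LD2_c23 LD3_c35)) :=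
  Lre_d IH (LK LD1_c15 LD2_c47 LD3_c2) (LK LD1_c8 LD2_c23 LD3_c35) Lrfl Lrfl
theorem f620956 : Led Lsl_bt (LP (LK LD1_c25 LD2_c33 LD3_c8)) = (LP (LK LD1_c15 LD2_c47 LD3_c2)) :=
  Lgr Lrot95 (Lpr_df (f620693 IH) (Lpe (K38.f51702 IH) (Lpe (f53350 IH) (Lpn (LP (LK LD1_c15 LD2_c47 LD3_c2))))))
theorem f620396 : Led Lsl_bf (LP (LK LD1_c31 LD2_c54 LD3_c14)) = (LP (LK LD1_c25 LD2_c56 LD3_c57)) :=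
  Lgr Lrot24 (Lpr_bt (f620394 IH) (Lpn (LP (LK LD1_c25 LD2_c56 LD3_c57))))
theorem f399659 : Led Lsl_bt (LP (LK LD1_c8 LD2_c35 LD3_c46)) = (LP (LK LD1_c16 LD2_c7 LD3_c4)) :=
  Lre_b IH (LK LD1_c8 LD2_c35 LD3_c46) (LK LD1_c16 LD2_c7 LD3_c4) Lrfl Lrfl
theorem f717213 : Led Lsl_at (LP (LK LD1_c15 LD2_c47 LD3_c2)) = (LP (LK LD1_c8 LD2_c35 LD3_c46)) :=
  Lgr Lrot67 (Lpe (f620956 IH) (Lpr_af (f717209 IH) (Lpr_bf (f620396 IH) (Lpe (f717171 IH) (Lpe (f399659 IH) (Lpn (LP (LK LD1_c8 LD2_c35 LD3_c46))))))))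
theorem f717380 : Led Lsl_af (LP (LK LD1_c15 LD2_c47 LD3_c2)) = (LP (LK LD1_c8 LD2_c35 LD3_c46)) :=
  Lgr Lrot0 (Lpr_at (f717213 IH) (Lpn (LP (LK LD1_c8 LD2_c35 LD3_c46))))
theorem f717437 : Led Lsl_ft (LP (LK LD1_c15 LD2_c47 LD3_c2)) = v12601 :=
  Lgr Lrot101 (Lpr_af (f717380 IH) (Lpr_ff (f717159 IH) (Lpr_af (f717435 IH) (Lpn v12601))))
theorem f53353 : Led Lsl_gt (LP (LK LD1_c15 LD2_c47 LD3_c2)) = (LP (LK LD1_c25 LD2_c43 LD3_c41)) :=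
  Lre_g IH (LK LD1_c15 LD2_c47 LD3_c2) (LK LD1_c25 LD2_c43 LD3_c41) Lrfl Lrfl
theorem f717438 : Led Lsl_gf (LP (LK LD1_c15 LD2_c47 LD3_c4)) = (LP (LK LD1_c25 LD2_c43 LD3_c41)) :=
  Lgr Lrot76 (Lpr_af (f717435 IH) (Lpe (f717437 IH) (Lpr_gt (f53353 IH) (Lpn (LP (LK LD1_c25 LD2_c43 LD3_c41))))))
theorem f717439 : Led Lsl_gt (LP (LK LD1_c25 LD2_c43 LD3_c41)) = (LP (LK LD1_c15 LD2_c47 LD3_c4)) :=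
  Leop (Lpr_gf (f717438 IH) (Lpn (LP (LK LD1_c25 LD2_c43 LD3_c41))))
theorem seed_793 : LEOK LG_g (LK LD1_c25 LD2_c43 LD3_c41) :=
  Leoe_g (LK LD1_c25 LD2_c43 LD3_c41) (f717439 IH)
def v13970 : LQ := Led Lsl_gf (LP (LK LD1_c4 LD2_c52 LD3_c31))
theorem f717519 : Led Lsl_gf (LP (LK LD1_c4 LD2_c52 LD3_c31)) = v13970 :=
  Lrfl
theorem f620636 : Led Lsl_bt (LP (LK LD1_c8 LD2_c19 LD3_c41)) = (LP (LK LD1_c15 LD2_c40 LD3_c10)) :=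
  Lre_b IH (LK LD1_c8 LD2_c19 LD3_c41) (LK LD1_c15 LD2_c40 LD3_c10) Lrfl Lrfl
theorem f372674 : Led Lsl_gf (LP (LK LD1_c15 LD2_c33 LD3_c47)) = (LP (LK LD1_c8 LD2_c19 LD3_c6)) :=
  Lgr Lrot47 (Lpr_gt (K41.f270982 IH) (Lpe (K31.f270980 IH) (Lpr_ff (K38.f372611 IH) (Lpn (LP (LK LD1_c8 LD2_c19 LD3_c6))))))
theorem f253963 : Led Lsl_bt (LP (LK LD1_c8 LD2_c19 LD3_c5)) = (LP (LK LD1_c15 LD2_c38 LD3_c44)) :=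
  Lre_b IH (LK LD1_c8 LD2_c19 LD3_c5) (LK LD1_c15 LD2_c38 LD3_c44) Lrfl Lrfl
theorem f403540 : Led Lsl_ct (LP (LK LD1_c15 LD2_c39 LD3_c23)) = (LP (LK LD1_c15 LD2_c46 LD3_c31)) :=
  Lre_c IH (LK LD1_c15 LD2_c39 LD3_c23) (LK LD1_c15 LD2_c46 LD3_c31) Lrfl Lrfl
theorem f403541 : Led Lsl_af (LP (LK LD1_c25 LD2_c27 LD3_c26)) = (LP (LK LD1_c15 LD2_c46 LD3_c31)) :=
  Lgr Lrot68 (Lpr_ct (K41.f378547 IH) (Lpr_at (K49.f403532 IH) (Lpr_ct (f403540 IH) (Lpn (LP (LK LD1_c15 LD2_c46 LD3_c31))))))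
theorem f403604 : Led Lsl_af (LP (LK LD1_c8 LD2_c23 LD3_c15)) = (LP (LK LD1_c15 LD2_c38 LD3_c44)) :=
  Lgr Lrot36 (Lpr_bt (K49.f403569 IH) (Lpe (f403541 IH) (Lpr_bt (K41.f378546 IH) (Lpr_at (K41.f403600 IH) (Lpr_bt (f253963 IH) (Lpn (LP (LK LD1_c15 LD2_c38 LD3_c44))))))))
theorem f51791 : Led Lsl_gt (LP (LK LD1_c4 LD2_c11 LD3_c49)) = (LP (LK LD1_c8 LD2_c23 LD3_c15)) :=
  Lre_g IH (LK LD1_c4 LD2_c11 LD3_c49) (LK LD1_c8 LD2_c23 LD3_c15) Lrfl Lrfl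
theorem f400739 : Led Lsl_gt (LP (LK LD1_c8 LD2_c23 LD3_c16)) = (LP (LK LD1_c4 LD2_c11 LD3_c49)) :=
  Lre_g IH (LK LD1_c8 LD2_c23 LD3_c16) (LK LD1_c4 LD2_c11 LD3_c49) Lrfl Lrfl
theorem f403621 : Led Lsl_ft (LP (LK LD1_c8 LD2_c23 LD3_c16)) = (LP (LK LD1_c15 LD2_c38 LD3_c44)) :=
  Lgr Lrot2 (Lpr_gt (f400739 IH) (Lpr_gt (f51791 IH) (Lpr_af (f403604 IH) (Lpn (LP (LK LD1_c15 LD2_c38 LD3_c44))))))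
theorem f403625 : Led Lsl_ff (LP (LK LD1_c8 LD2_c23 LD3_c16)) = (LP (LK LD1_c15 LD2_c38 LD3_c44)) :=
  Lgr Lrot3 (Lpr_ft (f403621 IH) (Lpn (LP (LK LD1_c15 LD2_c38 LD3_c44))))
theorem f403635 : Led Lsl_bf (LP (LK LD1_c15 LD2_c33 LD3_c47)) = (LP (LK LD1_c8 LD2_c23 LD3_c16)) :=
  Lgr Lrot61 (Lpr_ft (K41.f403631 IH) (Lpr_bt (f253963 IH) (Lpe (f403625 IH) (Lpn (LP (LK LD1_c8 LD2_c23 LD3_c16))))))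
theorem f717520 : Led Lsl_ct (LP (LK LD1_c8 LD2_c23 LD3_c16)) = v13970 :=
  Lgr Lrot64 (Lpe (f403635 IH) (Lpr_gf (f372674 IH) (Lpe (K38.f361943 IH) (Lpr_ct (K50.f232652 IH) (Lpe (f376515 IH) (Lpe (f376518 IH) (Lpe (f620743 IH) (Lpe (f620636 IH) (Lpe (K50.f620964 IH) (Lpr_gf (f717519 IH) (Lpn v13970)))))))))))
theorem f51795 : Led Lsl_gt (LP (LK LD1_c4 LD2_c11 LD3_c54)) = (LP (LK LD1_c8 LD2_c23 LD3_c16)) :=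
  Lre_g IH (LK LD1_c4 LD2_c11 LD3_c54) (LK LD1_c8 LD2_c23 LD3_c16) Lrfl Lrfl
theorem f400740 : Led Lsl_dt (LP (LK LD1_c4 LD2_c11 LD3_c54)) = (LP (LK LD1_c8 LD2_c23 LD3_c30)) :=
  Lre_d IH (LK LD1_c4 LD2_c11 LD3_c54) (LK LD1_c8 LD2_c23 LD3_c30) Lrfl Lrfl
theorem f417235 : Led Lsl_gt (LP (LK LD1_c8 LD2_c23 LD3_c30)) = (LP (LK LD1_c15 LD2_c46 LD3_c41)) :=
  Lre_g IH (LK LD1_c8 LD2_c23 LD3_c30) (LK LD1_c15 LD2_c46 LD3_c41) Lrfl Lrfl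
theorem f417236 : Led Lsl_ct (LP (LK LD1_c15 LD2_c46 LD3_c41)) = (LP (LK LD1_c25 LD2_c43 LD3_c20)) :=
  Lre_c IH (LK LD1_c15 LD2_c46 LD3_c41) (LK LD1_c25 LD2_c43 LD3_c20) Lrfl Lrfl
theorem f620945 : Led Lsl_dt (LP (LK LD1_c15 LD2_c40 LD3_c11)) = (LP (LK LD1_c8 LD2_c19 LD3_c41)) :=
  Lre_d IH (LK LD1_c15 LD2_c40 LD3_c11) (LK LD1_c8 LD2_c19 LD3_c41) Lrfl Lrfl
theorem f620752 : Led Lsl_ct (LP (LK LD1_c25 LD2_c35 LD3_c35)) = (LP (LK LD1_c15 LD2_c40 LD3_c11)) :=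
  Lre_c IH (LK LD1_c25 LD2_c35 LD3_c35) (LK LD1_c15 LD2_c40 LD3_c11) Lrfl Lrfl
theorem f717522 : Led Lsl_gt (LP (LK LD1_c25 LD2_c43 LD3_c20)) = (LP (LK LD1_c25 LD2_c35 LD3_c35)) :=
  Lgr Lrot150 (Lpe (f417236 IH) (Lpe (f417235 IH) (Lpe (f400740 IH) (Lpr_gt (f51795 IH) (Lpr_ct (f717520 IH) (Lpe (f717519 IH) (Lpr_ct (K50.f620978 IH) (Lpe (f620945 IH) (Lpe (f620752 IH) (Lpn (LP (LK LD1_c25 LD2_c35 LD3_c35))))))))))))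
theorem f717523 : Led Lsl_gt (LP (LK LD1_c25 LD2_c43 LD3_c20)) = (LP (LK LD1_c25 LD2_c35 LD3_c35)) :=
  Leop (Lpe (f717522 IH) (Lpn (LP (LK LD1_c25 LD2_c43 LD3_c20))))
theorem seed_794 : LEOK LG_g (LK LD1_c25 LD2_c43 LD3_c20) :=
  Leoe_g (LK LD1_c25 LD2_c43 LD3_c20) (f717523 IH)
def v13971 : LQ := Led Lsl_dt (LP (LK LD1_c4 LD2_c52 LD3_c31))
theorem f717525 : Led Lsl_dt (LP (LK LD1_c4 LD2_c52 LD3_c31)) = v13971 :=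
  Lrfl
theorem f279250 : Led Lsl_bt (LP (LK LD1_c2 LD2_c23 LD3_c61)) = (LP (LK LD1_c4 LD2_c52 LD3_c31)) :=
  Lre_b IH (LK LD1_c2 LD2_c23 LD3_c61) (LK LD1_c4 LD2_c52 LD3_c31) Lrfl Lrfl
theorem f717526 : Led Lsl_bf (LP (LK LD1_c4 LD2_c52 LD3_c33)) = v13971 :=
  Lgr Lrot93 (Lpr_dt (K49.f2349 IH) (Lpr_bt (f279250 IH) (Lpr_dt (f717525 IH) (Lpn v13971))))
theorem f717531 : Led Lsl_cf (LP (LK LD1_c15 LD2_c58 LD3_c12)) = v13971 :=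
  Lgr Lrot160 (Lpr_gt (K50.f243497 IH) (Lpr_cf (K40.f243493 IH) (Lpr_bt (K38.f179569 IH) (Lpe (K9.f179581 IH) (Lpr_ct (K9.f171193 IH) (Lpr_gt (K9.f171190 IH) (Lpe (K9.f170075 IH) (Lpr_bt (K49.f170076 IH) (Lpr_gt (K49.f397222 IH) (Lpr_bf (f717526 IH) (Lpn v13971)))))))))))
theorem f693428 : Led Lsl_bt (LP (LK LD1_c15 LD2_c58 LD3_c12)) = (LP (LK LD1_c25 LD2_c55 LD3_c4)) :=
  Lre_b IH (LK LD1_c15 LD2_c58 LD3_c12) (LK LD1_c25 LD2_c55 LD3_c4) Lrfl Lrfl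
theorem f717527 : Led Lsl_df (LP (LK LD1_c4 LD2_c52 LD3_c31)) = v13971 :=
  Lgr Lrot38 (Lpr_dt (f717525 IH) (Lpn v13971))
theorem f717529 : Led Lsl_bt (LP (LK LD1_c4 LD2_c52 LD3_c33)) = v13971 :=
  Lgr Lrot95 (Lpe (K49.f2753 IH) (Lpe (K50.f2364 IH) (Lpr_df (f717527 IH) (Lpn v13971))))
theorem f30588 : Led Lsl_ct (LP (LK LD1_c9 LD2_c37 LD3_c18)) = (LP (LK LD1_c4 LD2_c52 LD3_c33)) :=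
  Lre_c IH (LK LD1_c9 LD2_c37 LD3_c18) (LK LD1_c4 LD2_c52 LD3_c33) Lrfl Lrfl
theorem f717530 : Led Lsl_bt (LP (LK LD1_c17 LD2_c42 LD3_c55)) = (LP (LK LD1_c9 LD2_c37 LD3_c18)) :=
  Lre_b IH (LK LD1_c17 LD2_c42 LD3_c55) (LK LD1_c9 LD2_c37 LD3_c18) Lrfl Lrfl
theorem f717532 : Led Lsl_ct (LP (LK LD1_c25 LD2_c55 LD3_c4)) = (LP (LK LD1_c17 LD2_c42 LD3_c55)) :=
  Lgr Lrot83 (Lpe (f693428 IH) (Lpr_cf (f717531 IH) (Lpe (f717529 IH) (Lpe (f30588 IH) (Lpe (f717530 IH) (Lpn (LP (LK LD1_c17 LD2_c42 LD3_c55))))))))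
theorem f717533 : Led Lsl_ct (LP (LK LD1_c25 LD2_c55 LD3_c4)) = (LP (LK LD1_c17 LD2_c42 LD3_c55)) :=
  Leop (Lpe (f717532 IH) (Lpn (LP (LK LD1_c25 LD2_c55 LD3_c4))))
theorem seed_795 : LEOK LG_c (LK LD1_c25 LD2_c55 LD3_c4) :=
  Leoe_c (LK LD1_c25 LD2_c55 LD3_c4) (f717533 IH)
def v13985 : LQ := Led Lsl_ft (LP (LK LD1_c4 LD2_c52 LD3_c48))
theorem f717595 : Led Lsl_ft (LP (LK LD1_c4 LD2_c52 LD3_c48)) = v13985 :=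
  Lrfl
theorem f717598 : Led Lsl_ff (LP (LK LD1_c4 LD2_c52 LD3_c48)) = v13985 :=
  Lgr Lrot3 (Lpr_ft (f717595 IH) (Lpn v13985))
theorem f353947 : Led Lsl_bf (LP (LK LD1_c4 LD2_c28 LD3_c52)) = (LP (LK LD1_c4 LD2_c52 LD3_c48)) :=
  Lgr Lrot24 (Lpr_bt (K25.f353945 IH) (Lpn (LP (LK LD1_c4 LD2_c52 LD3_c48))))
def v12699 : LQ := Led Lsl_ft (LP (LK LD1_c4 LD2_c28 LD3_c52))
theorem f697699 : Led Lsl_ft (LP (LK LD1_c4 LD2_c28 LD3_c52)) = v12699 :=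
  Lrfl
theorem f717600 : Led Lsl_bt v12699 = v13985 :=
  Lgr Lrot35 (Lpe (f697699 IH) (Lpr_bf (f353947 IH) (Lpr_ff (f717598 IH) (Lpn v13985))))
theorem f697701 : Led Lsl_ff (LP (LK LD1_c4 LD2_c28 LD3_c52)) = v12699 :=
  Lgr Lrot3 (Lpr_ft (f697699 IH) (Lpn v12699))
def v12698 : LQ := Led Lsl_at (LP (LK LD1_c4 LD2_c28 LD3_c52))
theorem f697695 : Led Lsl_at (LP (LK LD1_c4 LD2_c28 LD3_c52)) = v12698 :=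
  Lrfl
theorem f697696 : Led Lsl_af (LP (LK LD1_c4 LD2_c28 LD3_c52)) = v12698 :=
  Lgr Lrot0 (Lpr_at (f697695 IH) (Lpn v12698))
theorem f697697 : Led Lsl_ft (LP (LK LD1_c4 LD2_c28 LD3_c53)) = v12698 :=
  Lgr Lrot2 (Lpr_gt (K21.f197551 IH) (Lpr_gt (K22.f197518 IH) (Lpr_af (f697696 IH) (Lpn v12698))))
theorem f697698 : Led Lsl_ff (LP (LK LD1_c4 LD2_c28 LD3_c53)) = v12698 :=
  Lgr Lrot3 (Lpr_ft (f697697 IH) (Lpn v12698))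
theorem f697702 : Led Lsl_at (LP (LK LD1_c4 LD2_c28 LD3_c53)) = v12699 :=
  Lgr Lrot66 (Lpr_ff (f697698 IH) (Lpe (f697695 IH) (Lpr_ff (f697701 IH) (Lpn v12699))))
theorem f352547 : Led Lsl_bt (LP (LK LD1_c5 LD2_c22 LD3_c39)) = (LP (LK LD1_c4 LD2_c28 LD3_c53)) :=
  Lgr Lrot127 (Lpr_bf (K25.f352545 IH) (Lpn (LP (LK LD1_c4 LD2_c28 LD3_c53))))
def v13984 : LQ := Led Lsl_at (LP (LK LD1_c4 LD2_c52 LD3_c48))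
theorem f717591 : Led Lsl_at (LP (LK LD1_c4 LD2_c52 LD3_c48)) = v13984 :=
  Lrfl
theorem f717592 : Led Lsl_af (LP (LK LD1_c4 LD2_c52 LD3_c48)) = v13984 :=
  Lgr Lrot0 (Lpr_at (f717591 IH) (Lpn v13984))
theorem f717593 : Led Lsl_ft (LP (LK LD1_c4 LD2_c52 LD3_c49)) = v13984 :=
  Lgr Lrot2 (Lpr_gt (K19.f170729 IH) (Lpr_gt (K19.f170726 IH) (Lpr_af (f717592 IH) (Lpn v13984))))
theorem f717596 : Led Lsl_af (LP (LK LD1_c4 LD2_c52 LD3_c49)) = v13985 :=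
  Lgr Lrot45 (Lpr_ft (f717593 IH) (Lpe (f717592 IH) (Lpr_ft (f717595 IH) (Lpn v13985))))
theorem f717601 : Led Lsl_af (LP (LK LD1_c5 LD2_c22 LD3_c39)) = (LP (LK LD1_c5 LD2_c22 LD3_c23)) :=
  Lgr Lrot36 (Lpr_bt (f352547 IH) (Lpr_at (f697702 IH) (Lpr_bt (f717600 IH) (Lpe (f717596 IH) (Lpe (K25.f352206 IH) (Lpn (LP (LK LD1_c5 LD2_c22 LD3_c23))))))))
theorem f717602 : Led Lsl_at (LP (LK LD1_c5 LD2_c22 LD3_c23)) = (LP (LK LD1_c5 LD2_c22 LD3_c39)) :=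
  Leop (Lpr_af (f717601 IH) (Lpn (LP (LK LD1_c5 LD2_c22 LD3_c23))))
theorem seed_796 : LEOK LG_a (LK LD1_c5 LD2_c22 LD3_c23) :=
  Leoe_a (LK LD1_c5 LD2_c22 LD3_c23) (f717602 IH)
def v13989 : LQ := Led Lsl_ct (LP (LK LD1_c4 LD2_c53 LD3_c10))
theorem f718459 : Led Lsl_ct (LP (LK LD1_c4 LD2_c53 LD3_c10)) = v13989 :=
  Lrfl
theorem f605807 : Led Lsl_bt (LP (LK LD1_c4 LD2_c53 LD3_c10)) = (LP (LK LD1_c9 LD2_c38 LD3_c19)) :=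
  Lre_b IH (LK LD1_c4 LD2_c53 LD3_c10) (LK LD1_c9 LD2_c38 LD3_c19) Lrfl Lrfl
theorem f381652 : Led Lsl_gt (LP (LK LD1_c11 LD2_c16 LD3_c40)) = (LP (LK LD1_c5 LD2_c43 LD3_c33)) :=
  Lre_g IH (LK LD1_c11 LD2_c16 LD3_c40) (LK LD1_c5 LD2_c43 LD3_c33) Lrfl Lrfl
theorem f552501 : Led Lsl_cf (LP (LK LD1_c5 LD2_c47 LD3_c2)) = (LP (LK LD1_c11 LD2_c16 LD3_c40)) :=
  Lgr Lrot166 (Lpr_gt (K35.f541663 IH) (Lpr_dt (f381239 IH) (Lpr_gt (K39.f552496 IH) (Lpr_dt (K30.f495866 IH) (Lpe (K30.f382422 IH) (Lpr_df (K39.f381987 IH) (Lpe (K27.f270605 IH) (Lpe (K39.f381581 IH) (Lpe (f381652 IH) (Lpn (LP (LK LD1_c11 LD2_c16 LD3_c40))))))))))))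
theorem f383276 : Led Lsl_df (LP (LK LD1_c11 LD2_c16 LD3_c40)) = (LP (LK LD1_c11 LD2_c18 LD3_c36)) :=
  Lgr Lrot38 (Lpr_dt (K40.f383260 IH) (Lpn (LP (LK LD1_c11 LD2_c18 LD3_c36))))
theorem f383691 : Led Lsl_gf (LP (LK LD1_c11 LD2_c18 LD3_c36)) = (LP (LK LD1_c5 LD2_c44 LD3_c24)) :=
  Lgr Lrot47 (Lpr_gt (K40.f381627 IH) (Lpe (K27.f383472 IH) (Lpr_ff (K27.f383679 IH) (Lpn (LP (LK LD1_c5 LD2_c44 LD3_c24))))))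
theorem f383693 : Led Lsl_ct (LP (LK LD1_c20 LD2_c15 LD3_c32)) = (LP (LK LD1_c11 LD2_c18 LD3_c53)) :=
  Lre_c IH (LK LD1_c20 LD2_c15 LD3_c32) (LK LD1_c11 LD2_c18 LD3_c53) Lrfl Lrfl
theorem f404999 : Led Lsl_dt (LP (LK LD1_c16 LD2_c7 LD3_c40)) = (LP (LK LD1_c17 LD2_c39 LD3_c17)) :=
  Lgr Lrot42 (Lpr_df (K49.f404994 IH) (Lpn (LP (LK LD1_c17 LD2_c39 LD3_c17))))
theorem f383694 : Led Lsl_ct (LP (LK LD1_c11 LD2_c18 LD3_c53)) = (LP (LK LD1_c20 LD2_c15 LD3_c32)) :=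
  Lre_c IH (LK LD1_c11 LD2_c18 LD3_c53) (LK LD1_c20 LD2_c15 LD3_c32) Lrfl Lrfl
theorem f383760 : Led Lsl_af (LP (LK LD1_c16 LD2_c7 LD3_c40)) = (LP (LK LD1_c20 LD2_c15 LD3_c32)) :=
  Lgr Lrot68 (Lpr_ct (K49.f258335 IH) (Lpr_at (K28.f383758 IH) (Lpr_ct (f383694 IH) (Lpn (LP (LK LD1_c20 LD2_c15 LD3_c32))))))
theorem f405003 : Led Lsl_at (LP (LK LD1_c17 LD2_c39 LD3_c17)) = (LP (LK LD1_c27 LD2_c27 LD3_c12)) :=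
  Lre_a IH (LK LD1_c17 LD2_c39 LD3_c17) (LK LD1_c27 LD2_c27 LD3_c12) Lrfl Lrfl
theorem f405020 : Led Lsl_df (LP (LK LD1_c20 LD2_c15 LD3_c32)) = (LP (LK LD1_c27 LD2_c27 LD3_c12)) :=
  Lgr Lrot18 (Lpe (f383760 IH) (Lpr_dt (f404999 IH) (Lpr_at (f405003 IH) (Lpn (LP (LK LD1_c27 LD2_c27 LD3_c12))))))
theorem f579068 : Led Lsl_dt (LP (LK LD1_c9 LD2_c45 LD3_c32)) = (LP (LK LD1_c4 LD2_c57 LD3_c16)) :=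
  Lre_d IH (LK LD1_c9 LD2_c45 LD3_c32) (LK LD1_c4 LD2_c57 LD3_c16) Lrfl Lrfl
theorem f580282 : Led Lsl_cf (LP (LK LD1_c8 LD2_c1 LD3_c48)) = (LP (LK LD1_c4 LD2_c57 LD3_c16)) :=
  Lgr Lrot14 (Lpe (K45.f571105 IH) (Lpe (K45.f571106 IH) (Lpe (K39.f386171 IH) (Lpe (K39.f423616 IH) (Lpr_ct (K43.f574025 IH) (Lpr_gt (K36.f60878 IH) (Lpr_dt (K8.f60875 IH) (Lpr_gt (K44.f580274 IH) (Lpr_dt (f579068 IH) (Lpn (LP (LK LD1_c4 LD2_c57 LD3_c16))))))))))))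
theorem f30516 : Led Lsl_bt (LP (LK LD1_c8 LD2_c1 LD3_c55)) = (LP (LK LD1_c15 LD2_c7 LD3_c25)) :=
  Lre_b IH (LK LD1_c8 LD2_c1 LD3_c55) (LK LD1_c15 LD2_c7 LD3_c25) Lrfl Lrfl
theorem f30301 : Led Lsl_gt (LP (LK LD1_c15 LD2_c7 LD3_c25)) = (LP (LK LD1_c24 LD2_c56 LD3_c3)) :=
  Lre_g IH (LK LD1_c15 LD2_c7 LD3_c25) (LK LD1_c24 LD2_c56 LD3_c3) Lrfl Lrfl
theorem f30243 : Led Lsl_ff (LP (LK LD1_c9 LD2_c38 LD3_c24)) = (LP (LK LD1_c15 LD2_c7 LD3_c25)) :=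
  Lgr Lrot23 (Lpr_ct (K49.f2802 IH) (Lpr_ft (K35.f30237 IH) (Lpr_ct (K39.f30242 IH) (Lpn (LP (LK LD1_c15 LD2_c7 LD3_c25))))))
theorem f2316 : Led Lsl_at (LP (LK LD1_c9 LD2_c38 LD3_c21)) = (LP (LK LD1_c4 LD2_c53 LD3_c12)) :=
  Lre_a IH (LK LD1_c9 LD2_c38 LD3_c21) (LK LD1_c4 LD2_c53 LD3_c12) Lrfl Lrfl
theorem f2317 : Led Lsl_ct (LP (LK LD1_c4 LD2_c53 LD3_c12)) = (LP (LK LD1_c9 LD2_c38 LD3_c24)) :=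
  Lre_c IH (LK LD1_c4 LD2_c53 LD3_c12) (LK LD1_c9 LD2_c38 LD3_c24) Lrfl Lrfl
theorem f2318 : Led Lsl_af (LP (LK LD1_c17 LD2_c40 LD3_c60)) = (LP (LK LD1_c9 LD2_c38 LD3_c24)) :=
  Lgr Lrot68 (Lpr_ct (K0.f2314 IH) (Lpr_at (f2316 IH) (Lpr_ct (f2317 IH) (Lpn (LP (LK LD1_c9 LD2_c38 LD3_c24))))))
theorem f30567 : Led Lsl_gf (LP (LK LD1_c17 LD2_c40 LD3_c60)) = (LP (LK LD1_c24 LD2_c56 LD3_c3)) :=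
  Lgr Lrot76 (Lpr_af (f2318 IH) (Lpr_ff (f30243 IH) (Lpr_gt (f30301 IH) (Lpn (LP (LK LD1_c24 LD2_c56 LD3_c3))))))
theorem f2354 : Led Lsl_ct (LP (LK LD1_c9 LD2_c36 LD3_c11)) = (LP (LK LD1_c4 LD2_c51 LD3_c58)) :=
  Lre_c IH (LK LD1_c9 LD2_c36 LD3_c11) (LK LD1_c4 LD2_c51 LD3_c58) Lrfl Lrfl
theorem f30569 : Led Lsl_dt (LP (LK LD1_c9 LD2_c36 LD3_c7)) = (LP (LK LD1_c4 LD2_c51 LD3_c56)) :=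
  Lre_d IH (LK LD1_c9 LD2_c36 LD3_c7) (LK LD1_c4 LD2_c51 LD3_c56) Lrfl Lrfl
theorem f30571 : Led Lsl_ct (LP (LK LD1_c17 LD2_c40 LD3_c39)) = (LP (LK LD1_c27 LD2_c28 LD3_c10)) :=
  Lre_c IH (LK LD1_c17 LD2_c40 LD3_c39) (LK LD1_c27 LD2_c28 LD3_c10) Lrfl Lrfl
theorem f30573 : Led Lsl_dt (LP (LK LD1_c17 LD2_c42 LD3_c58)) = (LP (LK LD1_c24 LD2_c56 LD3_c3)) :=
  Lgr Lrot57 (Lpe (K49.f30572 IH) (Lpe (f30571 IH) (Lpr_gt (K49.f30570 IH) (Lpr_dt (f30569 IH) (Lpr_gt (f2775 IH) (Lpr_dt (K0.f2311 IH) (Lpe (f2354 IH) (Lpe (K35.f2353 IH) (Lpr_gf (f30567 IH) (Lpn (LP (LK LD1_c24 LD2_c56 LD3_c3))))))))))))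
theorem f30581 : Led Lsl_df (LP (LK LD1_c17 LD2_c42 LD3_c58)) = (LP (LK LD1_c24 LD2_c56 LD3_c3)) :=
  Lgr Lrot38 (Lpr_dt (f30573 IH) (Lpn (LP (LK LD1_c24 LD2_c56 LD3_c3))))
theorem f30603 : Led Lsl_ct (LP (LK LD1_c17 LD2_c42 LD3_c58)) = (LP (LK LD1_c9 LD2_c37 LD3_c20)) :=
  Lre_c IH (LK LD1_c17 LD2_c42 LD3_c58) (LK LD1_c9 LD2_c37 LD3_c20) Lrfl Lrfl
theorem f30614 : Led Lsl_bt (LP (LK LD1_c9 LD2_c37 LD3_c20)) = (LP (LK LD1_c17 LD2_c42 LD3_c57)) :=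
  Lre_b IH (LK LD1_c9 LD2_c37 LD3_c20) (LK LD1_c17 LD2_c42 LD3_c57) Lrfl Lrfl
theorem f580286 : Led Lsl_gf (LP (LK LD1_c27 LD2_c27 LD3_c12)) = (LP (LK LD1_c17 LD2_c42 LD3_c57)) :=
  Lgr Lrot85 (Lpe (f405020 IH) (Lpr_ct (f383693 IH) (Lpr_bt (K27.f383686 IH) (Lpe (f383691 IH) (Lpe (f383276 IH) (Lpe (f552501 IH) (Lpe (K2.f72960 IH) (Lpr_gt (K44.f580274 IH) (Lpr_dt (f579068 IH) (Lpe (f580282 IH) (Lpr_bt (K45.f29522 IH) (Lpr_gt (K39.f29513 IH) (Lpr_dt (K41.f29431 IH) (Lpr_ct (K39.f29430 IH) (Lpr_bt (f30516 IH) (Lpr_gt (f30301 IH) (Lpe (f30581 IH) (Lpr_ct (f30603 IH) (Lpr_bt (f30614 IH) (Lpn (LP (LK LD1_c17 LD2_c42 LD3_c57))))))))))))))))))))))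
theorem f405017 : Led Lsl_ct (LP (LK LD1_c27 LD2_c27 LD3_c12)) = (LP (LK LD1_c32 LD2_c25 LD3_c6)) :=
  Lre_c IH (LK LD1_c27 LD2_c27 LD3_c12) (LK LD1_c32 LD2_c25 LD3_c6) Lrfl Lrfl
theorem f382307 : Led Lsl_cf (LP (LK LD1_c11 LD2_c17 LD3_c37)) = (LP (LK LD1_c8 LD2_c40 LD3_c27)) :=
  Lgr Lrot11 (Lpr_ct (K49.f382301 IH) (Lpn (LP (LK LD1_c8 LD2_c40 LD3_c27))))
theorem f382317 : Led Lsl_ft (LP (LK LD1_c11 LD2_c17 LD3_c37)) = (LP (LK LD1_c17 LD2_c41 LD3_c56)) :=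
  Lgr Lrot48 (Lpr_ff (K49.f382309 IH) (Lpn (LP (LK LD1_c17 LD2_c41 LD3_c56))))
theorem f382326 : Led Lsl_gt (LP (LK LD1_c11 LD2_c17 LD3_c37)) = (LP (LK LD1_c17 LD2_c41 LD3_c55)) :=
  Lgr Lrot5 (Lpr_ft (f382317 IH) (Lpr_at (K49.f232450 IH) (Lpe (K49.f232224 IH) (Lpn (LP (LK LD1_c17 LD2_c41 LD3_c55))))))
theorem f232496 : Led Lsl_ct (LP (LK LD1_c17 LD2_c41 LD3_c55)) = (LP (LK LD1_c17 LD2_c36 LD3_c55)) :=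
  Lgr Lrot59 (Lpr_cf (K49.f232489 IH) (Lpn (LP (LK LD1_c17 LD2_c36 LD3_c55))))
theorem f232498 : Led Lsl_dt (LP (LK LD1_c27 LD2_c25 LD3_c4)) = (LP (LK LD1_c17 LD2_c36 LD3_c55)) :=
  Lre_d IH (LK LD1_c27 LD2_c25 LD3_c4) (LK LD1_c17 LD2_c36 LD3_c55) Lrfl Lrfl
theorem f232499 : Led Lsl_ct (LP (LK LD1_c32 LD2_c24 LD3_c54)) = (LP (LK LD1_c27 LD2_c25 LD3_c4)) :=
  Lre_c IH (LK LD1_c32 LD2_c24 LD3_c54) (LK LD1_c27 LD2_c25 LD3_c4) Lrfl Lrfl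
theorem f605397 : Led Lsl_gt (LP (LK LD1_c32 LD2_c25 LD3_c6)) = (LP (LK LD1_c32 LD2_c24 LD3_c54)) :=
  Lgr Lrot150 (Lpe (f405017 IH) (Lpr_gf (f580286 IH) (Lpe (K49.f233220 IH) (Lpr_gt (K13.f233218 IH) (Lpe (f382307 IH) (Lpr_gt (f382326 IH) (Lpr_ct (f232496 IH) (Lpe (f232498 IH) (Lpe (f232499 IH) (Lpn (LP (LK LD1_c32 LD2_c24 LD3_c54))))))))))))
theorem f232504 : Led Lsl_ct (LP (LK LD1_c27 LD2_c25 LD3_c4)) = (LP (LK LD1_c32 LD2_c24 LD3_c54)) :=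
  Lre_c IH (LK LD1_c27 LD2_c25 LD3_c4) (LK LD1_c32 LD2_c24 LD3_c54) Lrfl Lrfl
theorem f421910 : Led Lsl_bt (LP (LK LD1_c27 LD2_c25 LD3_c4)) = (LP (LK LD1_c17 LD2_c36 LD3_c57)) :=
  Lre_b IH (LK LD1_c27 LD2_c25 LD3_c4) (LK LD1_c17 LD2_c36 LD3_c57) Lrfl Lrfl
theorem f29829 : Led Lsl_gt (LP (LK LD1_c17 LD2_c36 LD3_c57)) = (LP (LK LD1_c27 LD2_c25 LD3_c10)) :=
  Lre_g IH (LK LD1_c17 LD2_c36 LD3_c57) (LK LD1_c27 LD2_c25 LD3_c10) Lrfl Lrfl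
theorem f30579 : Led Lsl_ct (LP (LK LD1_c9 LD2_c37 LD3_c20)) = (LP (LK LD1_c17 LD2_c42 LD3_c58)) :=
  Lre_c IH (LK LD1_c9 LD2_c37 LD3_c20) (LK LD1_c17 LD2_c42 LD3_c58) Lrfl Lrfl
theorem f605399 : Led Lsl_bf (LP (LK LD1_c27 LD2_c25 LD3_c10)) = (LP (LK LD1_c17 LD2_c40 LD3_c39)) :=
  Lgr Lrot34 (Lpe (f29829 IH) (Lpe (f421910 IH) (Lpr_ct (f232504 IH) (Lpe (f605397 IH) (Lpe (f405017 IH) (Lpr_gf (f580286 IH) (Lpe (f30614 IH) (Lpr_ct (f30579 IH) (Lpe (K49.f30572 IH) (Lpe (f30571 IH) (Lpn (LP (LK LD1_c17 LD2_c40 LD3_c39)))))))))))))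
theorem f602066 : Led Lsl_ft (LP (LK LD1_c25 LD2_c45 LD3_c20)) = (LP (LK LD1_c17 LD2_c40 LD3_c39)) :=
  Lgr Lrot4 (Lpe (K22.f337225 IH) (Lpr_ff (K49.f602062 IH) (Lpe (f30571 IH) (Lpn (LP (LK LD1_c17 LD2_c40 LD3_c39))))))
theorem f178328 : Led Lsl_dt (LP (LK LD1_c8 LD2_c24 LD3_c47)) = (LP (LK LD1_c4 LD2_c12 LD3_c35)) :=
  Lre_d IH (LK LD1_c8 LD2_c24 LD3_c47) (LK LD1_c4 LD2_c12 LD3_c35) Lrfl Lrfl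
theorem f357041 : Led Lsl_ff (LP (LK LD1_c8 LD2_c24 LD3_c47)) = (LP (LK LD1_c8 LD2_c36 LD3_c34)) :=
  Lgr Lrot19 (Lpr_dt (f178328 IH) (Lpr_ft (K38.f357035 IH) (Lpr_dt (K17.f237904 IH) (Lpn (LP (LK LD1_c8 LD2_c36 LD3_c34))))))
theorem f357048 : Led Lsl_at (LP (LK LD1_c8 LD2_c24 LD3_c47)) = (LP (LK LD1_c9 LD2_c34 LD3_c16)) :=
  Lgr Lrot26 (Lpr_ff (f357041 IH) (Lpr_gt (K13.f238000 IH) (Lpe (K13.f233941 IH) (Lpn (LP (LK LD1_c9 LD2_c34 LD3_c16))))))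
theorem f238002 : Led Lsl_bt (LP (LK LD1_c9 LD2_c34 LD3_c16)) = (LP (LK LD1_c17 LD2_c37 LD3_c24)) :=
  Lre_b IH (LK LD1_c9 LD2_c34 LD3_c16) (LK LD1_c17 LD2_c37 LD3_c24) Lrfl Lrfl
theorem f357050 : Led Lsl_at (LP (LK LD1_c17 LD2_c37 LD3_c24)) = (LP (LK LD1_c27 LD2_c25 LD3_c36)) :=
  Lre_a IH (LK LD1_c17 LD2_c37 LD3_c24) (LK LD1_c27 LD2_c25 LD3_c36) Lrfl Lrfl
theorem f357051 : Led Lsl_bf (LP (LK LD1_c25 LD2_c45 LD3_c20)) = (LP (LK LD1_c27 LD2_c25 LD3_c36)) :=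
  Lgr Lrot81 (Lpr_at (K49.f337227 IH) (Lpr_bt (K38.f235700 IH) (Lpr_at (f357048 IH) (Lpr_bt (f238002 IH) (Lpr_at (f357050 IH) (Lpn (LP (LK LD1_c27 LD2_c25 LD3_c36))))))))
theorem f605407 : Led Lsl_ft (LP (LK LD1_c27 LD2_c25 LD3_c10)) = (LP (LK LD1_c27 LD2_c25 LD3_c36)) :=
  Lgr Lrot75 (Lpr_bf (f605399 IH) (Lpe (f602066 IH) (Lpr_bf (f357051 IH) (Lpn (LP (LK LD1_c27 LD2_c25 LD3_c36))))))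
theorem f421961 : Led Lsl_gt (LP (LK LD1_c27 LD2_c25 LD3_c10)) = (LP (LK LD1_c17 LD2_c37 LD3_c0)) :=
  Lre_g IH (LK LD1_c27 LD2_c25 LD3_c10) (LK LD1_c17 LD2_c37 LD3_c0) Lrfl Lrfl
theorem f357090 : Led Lsl_at (LP (LK LD1_c27 LD2_c25 LD3_c36)) = (LP (LK LD1_c17 LD2_c37 LD3_c24)) :=
  Lre_a IH (LK LD1_c27 LD2_c25 LD3_c36) (LK LD1_c17 LD2_c37 LD3_c24) Lrfl Lrfl
theorem f605415 : Led Lsl_gt (LP (LK LD1_c17 LD2_c37 LD3_c0)) = (LP (LK LD1_c17 LD2_c37 LD3_c24)) :=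
  Lgr Lrot46 (Lpe (f421961 IH) (Lpr_ft (f605407 IH) (Lpr_at (f357090 IH) (Lpn (LP (LK LD1_c17 LD2_c37 LD3_c24))))))
theorem f1970 : Led Lsl_dt (LP (LK LD1_c9 LD2_c33 LD3_c61)) = (LP (LK LD1_c17 LD2_c37 LD3_c0)) :=
  Lre_d IH (LK LD1_c9 LD2_c33 LD3_c61) (LK LD1_c17 LD2_c37 LD3_c0) Lrfl Lrfl
theorem f1969 : Led Lsl_gt (LP (LK LD1_c17 LD2_c36 LD3_c53)) = (LP (LK LD1_c9 LD2_c33 LD3_c61)) :=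
  Lre_g IH (LK LD1_c17 LD2_c36 LD3_c53) (LK LD1_c9 LD2_c33 LD3_c61) Lrfl Lrfl
theorem f29831 : Led Lsl_dt (LP (LK LD1_c8 LD2_c1 LD3_c35)) = (LP (LK LD1_c15 LD2_c6 LD3_c55)) :=
  Lre_d IH (LK LD1_c8 LD2_c1 LD3_c35) (LK LD1_c15 LD2_c6 LD3_c55) Lrfl Lrfl
theorem f199279 : Led Lsl_dt (LP (LK LD1_c17 LD2_c37 LD3_c24)) = (LP (LK LD1_c9 LD2_c34 LD3_c15)) :=
  Lre_d IH (LK LD1_c17 LD2_c37 LD3_c24) (LK LD1_c9 LD2_c34 LD3_c15) Lrfl Lrfl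
theorem f197710 : Led Lsl_bt (LP (LK LD1_c8 LD2_c10 LD3_c21)) = (LP (LK LD1_c4 LD2_c4 LD3_c46)) :=
  Lre_b IH (LK LD1_c8 LD2_c10 LD3_c21) (LK LD1_c4 LD2_c4 LD3_c46) Lrfl Lrfl
theorem f199199 : Led Lsl_bt (LP (LK LD1_c4 LD2_c51 LD3_c8)) = (LP (LK LD1_c9 LD2_c34 LD3_c15)) :=
  Lre_b IH (LK LD1_c4 LD2_c51 LD3_c8) (LK LD1_c9 LD2_c34 LD3_c15) Lrfl Lrfl
theorem f199270 : Led Lsl_cf (LP (LK LD1_c8 LD2_c10 LD3_c21)) = (LP (LK LD1_c9 LD2_c34 LD3_c15)) :=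
  Lgr Lrot97 (Lpr_bt (f197710 IH) (Lpr_ct (K13.f196242 IH) (Lpr_bt (K15.f199258 IH) (Lpr_ct (K13.f2080 IH) (Lpr_bt (f199199 IH) (Lpn (LP (LK LD1_c9 LD2_c34 LD3_c15))))))))
theorem f199276 : Led Lsl_ct (LP (LK LD1_c8 LD2_c10 LD3_c21)) = (LP (LK LD1_c9 LD2_c34 LD3_c15)) :=
  Lgr Lrot59 (Lpr_cf (f199270 IH) (Lpn (LP (LK LD1_c9 LD2_c34 LD3_c15))))
theorem f199285 : Led Lsl_dt (LP (LK LD1_c15 LD2_c23 LD3_c29)) = (LP (LK LD1_c8 LD2_c10 LD3_c21)) :=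
  Lre_d IH (LK LD1_c15 LD2_c23 LD3_c29) (LK LD1_c8 LD2_c10 LD3_c21) Lrfl Lrfl
theorem f605417 : Led Lsl_gt (LP (LK LD1_c15 LD2_c6 LD3_c55)) = (LP (LK LD1_c15 LD2_c23 LD3_c29)) :=
  Lgr Lrot49 (Lpe (f29831 IH) (Lpe (K13.f29867 IH) (Lpr_cf (K13.f29856 IH) (Lpr_gt (f1969 IH) (Lpr_dt (f1970 IH) (Lpr_gt (f605415 IH) (Lpr_dt (f199279 IH) (Lpe (f199276 IH) (Lpe (f199285 IH) (Lpn (LP (LK LD1_c15 LD2_c23 LD3_c29))))))))))))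
theorem f605422 : Led Lsl_ft (LP (LK LD1_c15 LD2_c6 LD3_c55)) = (LP (LK LD1_c24 LD2_c54 LD3_c49)) :=
  Lre_f IH (LK LD1_c15 LD2_c6 LD3_c55) (LK LD1_c24 LD2_c54 LD3_c49) Lrfl Lrfl
theorem f605423 : Led Lsl_at (LP (LK LD1_c24 LD2_c54 LD3_c49)) = (LP (LK LD1_c15 LD2_c6 LD3_c50)) :=
  Lre_a IH (LK LD1_c24 LD2_c54 LD3_c49) (LK LD1_c15 LD2_c6 LD3_c50) Lrfl Lrfl
theorem f605424 : Led Lsl_gf (LP (LK LD1_c15 LD2_c6 LD3_c50)) = (LP (LK LD1_c15 LD2_c23 LD3_c29)) :=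
  Lgr Lrot76 (Lpe (f605423 IH) (Lpe (f605422 IH) (Lpr_gt (f605417 IH) (Lpn (LP (LK LD1_c15 LD2_c23 LD3_c29))))))
theorem f220722 : Led Lsl_ct (LP (LK LD1_c15 LD2_c6 LD3_c50)) = (LP (LK LD1_c24 LD2_c54 LD3_c55)) :=
  Lre_c IH (LK LD1_c15 LD2_c6 LD3_c50) (LK LD1_c24 LD2_c54 LD3_c55) Lrfl Lrfl
theorem f605481 : Led Lsl_gt (LP (LK LD1_c24 LD2_c54 LD3_c55)) = (LP (LK LD1_c31 LD2_c42 LD3_c38)) :=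
  Lre_g IH (LK LD1_c24 LD2_c54 LD3_c55) (LK LD1_c31 LD2_c42 LD3_c38) Lrfl Lrfl
theorem f199278 : Led Lsl_dt (LP (LK LD1_c8 LD2_c10 LD3_c21)) = (LP (LK LD1_c15 LD2_c23 LD3_c29)) :=
  Lre_d IH (LK LD1_c8 LD2_c10 LD3_c21) (LK LD1_c15 LD2_c23 LD3_c29) Lrfl Lrfl
theorem f199284 : Led Lsl_gt (LP (LK LD1_c8 LD2_c10 LD3_c21)) = (LP (LK LD1_c15 LD2_c23 LD3_c26)) :=
  Lre_g IH (LK LD1_c8 LD2_c10 LD3_c21) (LK LD1_c15 LD2_c23 LD3_c26) Lrfl Lrfl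
theorem f199288 : Led Lsl_ct (LP (LK LD1_c15 LD2_c23 LD3_c26)) = (LP (LK LD1_c25 LD2_c15 LD3_c43)) :=
  Lre_c IH (LK LD1_c15 LD2_c23 LD3_c26) (LK LD1_c25 LD2_c15 LD3_c43) Lrfl Lrfl
theorem f250753 : Led Lsl_bt (LP (LK LD1_c16 LD2_c19 LD3_c7)) = (LP (LK LD1_c8 LD2_c42 LD3_c40)) :=
  Lre_b IH (LK LD1_c16 LD2_c19 LD3_c7) (LK LD1_c8 LD2_c42 LD3_c40) Lrfl Lrfl
theorem f250762 : Led Lsl_ct (LP (LK LD1_c16 LD2_c19 LD3_c7)) = (LP (LK LD1_c26 LD2_c17 LD3_c0)) :=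
  Lre_c IH (LK LD1_c16 LD2_c19 LD3_c7) (LK LD1_c26 LD2_c17 LD3_c0) Lrfl Lrfl
theorem f199295 : Led Lsl_bt (LP (LK LD1_c4 LD2_c4 LD3_c46)) = (LP (LK LD1_c8 LD2_c10 LD3_c21)) :=
  Lre_b IH (LK LD1_c4 LD2_c4 LD3_c46) (LK LD1_c8 LD2_c10 LD3_c21) Lrfl Lrfl
theorem f421593 : Led Lsl_gf (LP (LK LD1_c26 LD2_c17 LD3_c0)) = (LP (LK LD1_c25 LD2_c15 LD3_c43)) :=
  Lgr Lrot129 (Lpe (f250762 IH) (Lpr_bt (f250753 IH) (Lpr_gt (K38.f232286 IH) (Lpe (K38.f193276 IH) (Lpr_ct (K13.f193271 IH) (Lpr_gt (K10.f193268 IH) (Lpe (K13.f196242 IH) (Lpr_bt (f199295 IH) (Lpr_gt (f199284 IH) (Lpr_ct (f199288 IH) (Lpn (LP (LK LD1_c25 LD2_c15 LD3_c43)))))))))))))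
theorem f250754 : Led Lsl_ct (LP (LK LD1_c26 LD2_c17 LD3_c0)) = (LP (LK LD1_c16 LD2_c19 LD3_c7)) :=
  Lre_c IH (LK LD1_c26 LD2_c17 LD3_c0) (LK LD1_c16 LD2_c19 LD3_c7) Lrfl Lrfl
theorem f250763 : Led Lsl_dt (LP (LK LD1_c26 LD2_c17 LD3_c1)) = (LP (LK LD1_c16 LD2_c19 LD3_c7)) :=
  Lre_d IH (LK LD1_c26 LD2_c17 LD3_c1) (LK LD1_c16 LD2_c19 LD3_c7) Lrfl Lrfl
theorem f605482 : Led Lsl_ct (LP (LK LD1_c31 LD2_c42 LD3_c38)) = (LP (LK LD1_c26 LD2_c17 LD3_c1)) :=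
  Lgr Lrot110 (Lpe (f605481 IH) (Lpe (f220722 IH) (Lpr_gf (f605424 IH) (Lpe (f199278 IH) (Lpr_gt (f199284 IH) (Lpr_ct (f199288 IH) (Lpe (f421593 IH) (Lpr_ct (f250754 IH) (Lpe (f250763 IH) (Lpn (LP (LK LD1_c26 LD2_c17 LD3_c1))))))))))))
theorem f605486 : Led Lsl_cf (LP (LK LD1_c31 LD2_c42 LD3_c38)) = (LP (LK LD1_c26 LD2_c17 LD3_c1)) :=
  Lgr Lrot11 (Lpr_ct (f605482 IH) (Lpn (LP (LK LD1_c26 LD2_c17 LD3_c1))))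
theorem f238816 : Led Lsl_bt (LP (LK LD1_c8 LD2_c10 LD3_c22)) = (LP (LK LD1_c15 LD2_c23 LD3_c29)) :=
  Lre_b IH (LK LD1_c8 LD2_c10 LD3_c22) (LK LD1_c15 LD2_c23 LD3_c29) Lrfl Lrfl
theorem f605485 : Led Lsl_bt (LP (LK LD1_c26 LD2_c17 LD3_c1)) = (LP (LK LD1_c16 LD2_c19 LD3_c9)) :=
  Lre_b IH (LK LD1_c26 LD2_c17 LD3_c1) (LK LD1_c16 LD2_c19 LD3_c9) Lrfl Lrfl
theorem f605489 : Led Lsl_gf (LP (LK LD1_c14 LD2_c57 LD3_c43)) = (LP (LK LD1_c16 LD2_c19 LD3_c9)) :=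
  Lgr Lrot124 (Lpe (K39.f238903 IH) (Lpe (K13.f238885 IH) (Lpr_gt (K13.f238822 IH) (Lpe (K13.f238803 IH) (Lpr_bt (f238816 IH) (Lpe (f605424 IH) (Lpr_ct (f220722 IH) (Lpr_gt (f605481 IH) (Lpr_cf (f605486 IH) (Lpr_bt (f605485 IH) (Lpn (LP (LK LD1_c16 LD2_c19 LD3_c9)))))))))))))
theorem f236681 : Led Lsl_dt (LP (LK LD1_c8 LD2_c19 LD3_c35)) = (LP (LK LD1_c4 LD2_c9 LD3_c44)) :=
  Lre_d IH (LK LD1_c8 LD2_c19 LD3_c35) (LK LD1_c4 LD2_c9 LD3_c44) Lrfl Lrfl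
theorem f213211 : Led Lsl_gt (LP (LK LD1_c15 LD2_c39 LD3_c56)) = (LP (LK LD1_c8 LD2_c19 LD3_c35)) :=
  Lre_g IH (LK LD1_c15 LD2_c39 LD3_c56) (LK LD1_c8 LD2_c19 LD3_c35) Lrfl Lrfl
theorem f400290 : Led Lsl_dt (LP (LK LD1_c8 LD2_c42 LD3_c40)) = (LP (LK LD1_c16 LD2_c19 LD3_c9)) :=
  Lre_d IH (LK LD1_c8 LD2_c42 LD3_c40) (LK LD1_c16 LD2_c19 LD3_c9) Lrfl Lrfl
theorem f400926 : Led Lsl_at (LP (LK LD1_c9 LD2_c44 LD3_c49)) = (LP (LK LD1_c8 LD2_c42 LD3_c40)) :=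
  Lgr Lrot100 (Lpr_af (K38.f400924 IH) (Lpn (LP (LK LD1_c8 LD2_c42 LD3_c40))))
theorem f297527 : Led Lsl_gf (LP (LK LD1_c9 LD2_c44 LD3_c51)) = (LP (LK LD1_c8 LD2_c42 LD3_c39)) :=
  Lgr Lrot76 (Lpe (K19.f168480 IH) (Lpr_ff (K18.f297504 IH) (Lpr_gt (K38.f193277 IH) (Lpn (LP (LK LD1_c8 LD2_c42 LD3_c39))))))
theorem f400954 : Led Lsl_gf (LP (LK LD1_c8 LD2_c42 LD3_c40)) = (LP (LK LD1_c9 LD2_c44 LD3_c51)) :=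
  Lgr Lrot76 (Lpe (f400926 IH) (Lpr_ff (K38.f400940 IH) (Lpe (f297527 IH) (Lpn (LP (LK LD1_c9 LD2_c44 LD3_c51))))))
theorem f238514 : Led Lsl_gt (LP (LK LD1_c16 LD2_c18 LD3_c60)) = (LP (LK LD1_c8 LD2_c42 LD3_c34)) :=
  Lre_g IH (LK LD1_c16 LD2_c18 LD3_c60) (LK LD1_c8 LD2_c42 LD3_c34) Lrfl Lrfl
theorem f406880 : Led Lsl_gt (LP (LK LD1_c10 LD2_c50 LD3_c32)) = (LP (LK LD1_c16 LD2_c18 LD3_c60)) :=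
  Lgr Lrot5 (Lpr_ft (K19.f297603 IH) (Lpr_at (K19.f296692 IH) (Lpe (f238514 IH) (Lpn (LP (LK LD1_c16 LD2_c18 LD3_c60))))))
theorem f605493 : Led Lsl_df (LP (LK LD1_c15 LD2_c39 LD3_c56)) = (LP (LK LD1_c16 LD2_c18 LD3_c60)) :=
  Lgr Lrot153 (Lpr_gt (f213211 IH) (Lpr_dt (f236681 IH) (Lpr_cf (K16.f236670 IH) (Lpe (K16.f236620 IH) (Lpr_gf (f605489 IH) (Lpe (f400290 IH) (Lpr_gf (f400954 IH) (Lpr_cf (K19.f168453 IH) (Lpr_gt (f406880 IH) (Lpn (LP (LK LD1_c16 LD2_c18 LD3_c60))))))))))))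
theorem f213220 : Led Lsl_gt (LP (LK LD1_c15 LD2_c39 LD3_c57)) = (LP (LK LD1_c25 LD2_c35 LD3_c20)) :=
  Lre_g IH (LK LD1_c15 LD2_c39 LD3_c57) (LK LD1_c25 LD2_c35 LD3_c20) Lrfl Lrfl
theorem f417204 : Led Lsl_ft (LP (LK LD1_c8 LD2_c19 LD3_c46)) = (LP (LK LD1_c15 LD2_c40 LD3_c11)) :=
  Lre_f IH (LK LD1_c8 LD2_c19 LD3_c46) (LK LD1_c15 LD2_c40 LD3_c11) Lrfl Lrfl
theorem f417205 : Led Lsl_at (LP (LK LD1_c15 LD2_c40 LD3_c11)) = (LP (LK LD1_c8 LD2_c19 LD3_c43)) :=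
  Lre_a IH (LK LD1_c15 LD2_c40 LD3_c11) (LK LD1_c8 LD2_c19 LD3_c43) Lrfl Lrfl
theorem f417206 : Led Lsl_gt (LP (LK LD1_c15 LD2_c39 LD3_c37)) = (LP (LK LD1_c8 LD2_c19 LD3_c43)) :=
  Lgr Lrot46 (Lpr_gf (K49.f417192 IH) (Lpr_ft (f417204 IH) (Lpr_at (f417205 IH) (Lpn (LP (LK LD1_c8 LD2_c19 LD3_c43))))))
theorem f1067 : Led Lsl_gt (LP (LK LD1_c8 LD2_c19 LD3_c43)) = (LP (LK LD1_c15 LD2_c40 LD3_c17)) :=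
  Lre_g IH (LK LD1_c8 LD2_c19 LD3_c43) (LK LD1_c15 LD2_c40 LD3_c17) Lrfl Lrfl
theorem f417210 : Led Lsl_at (LP (LK LD1_c15 LD2_c35 LD3_c17)) = (LP (LK LD1_c15 LD2_c40 LD3_c17)) :=
  Lgr Lrot26 (Lpe (K49.f417184 IH) (Lpr_gt (f417206 IH) (Lpr_gt (f1067 IH) (Lpn (LP (LK LD1_c15 LD2_c40 LD3_c17))))))
theorem f295121 : Led Lsl_ct (LP (LK LD1_c10 LD2_c52 LD3_c5)) = (LP (LK LD1_c19 LD2_c38 LD3_c57)) :=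
  Lre_c IH (LK LD1_c10 LD2_c52 LD3_c5) (LK LD1_c19 LD2_c38 LD3_c57) Lrfl Lrfl
theorem f417226 : Led Lsl_ct (LP (LK LD1_c25 LD2_c35 LD3_c45)) = (LP (LK LD1_c15 LD2_c40 LD3_c17)) :=
  Lre_c IH (LK LD1_c25 LD2_c35 LD3_c45) (LK LD1_c15 LD2_c40 LD3_c17) Lrfl Lrfl
theorem f417227 : Led Lsl_dt (LP (LK LD1_c19 LD2_c38 LD3_c57)) = (LP (LK LD1_c25 LD2_c35 LD3_c45)) :=
  Lgr Lrot120 (Lpe (f295121 IH) (Lpe (K38.f295646 IH) (Lpe (K38.f178835 IH) (Lpe (K50.f260744 IH) (Lpe (K15.f232291 IH) (Lpe (K49.f417190 IH) (Lpr_ft (K49.f417184 IH) (Lpr_at (f417210 IH) (Lpe (f417226 IH) (Lpn (LP (LK LD1_c25 LD2_c35 LD3_c45))))))))))))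
theorem f417231 : Led Lsl_df (LP (LK LD1_c19 LD2_c38 LD3_c57)) = (LP (LK LD1_c25 LD2_c35 LD3_c45)) :=
  Lgr Lrot38 (Lpr_dt (f417227 IH) (Lpn (LP (LK LD1_c25 LD2_c35 LD3_c45))))
theorem f295645 : Led Lsl_ct (LP (LK LD1_c19 LD2_c38 LD3_c57)) = (LP (LK LD1_c10 LD2_c52 LD3_c5)) :=
  Lre_c IH (LK LD1_c19 LD2_c38 LD3_c57) (LK LD1_c10 LD2_c52 LD3_c5) Lrfl Lrfl
theorem f201078 : Led Lsl_bf (LP (LK LD1_c1 LD2_c2 LD3_c49)) = (LP (LK LD1_c1 LD2_c58 LD3_c47)) :=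
  Lgr Lrot24 (Lpr_bt (K11.f201076 IH) (Lpn (LP (LK LD1_c1 LD2_c58 LD3_c47))))
theorem f392228 : Led Lsl_cf (LP (LK LD1_c19 LD2_c43 LD3_c33)) = (LP (LK LD1_c29 LD2_c1 LD3_c34)) :=
  Lgr Lrot11 (Lpr_ct (K31.f392226 IH) (Lpn (LP (LK LD1_c29 LD2_c1 LD3_c34))))
theorem f388322 : Led Lsl_df (LP (LK LD1_c10 LD2_c53 LD3_c51)) = (LP (LK LD1_c8 LD2_c56 LD3_c34)) :=
  Lgr Lrot38 (Lpr_dt (K31.f388316 IH) (Lpn (LP (LK LD1_c8 LD2_c56 LD3_c34))))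
theorem f226427 : Led Lsl_dt (LP (LK LD1_c11 LD2_c5 LD3_c36)) = (LP (LK LD1_c5 LD2_c36 LD3_c45)) :=
  Lre_d IH (LK LD1_c11 LD2_c5 LD3_c36) (LK LD1_c5 LD2_c36 LD3_c45) Lrfl Lrfl
theorem f280753 : Led Lsl_dt (LP (LK LD1_c19 LD2_c43 LD3_c36)) = (LP (LK LD1_c10 LD2_c55 LD3_c10)) :=
  Lre_d IH (LK LD1_c19 LD2_c43 LD3_c36) (LK LD1_c10 LD2_c55 LD3_c10) Lrfl Lrfl
theorem f392223 : Led Lsl_ct (LP (LK LD1_c29 LD2_c1 LD3_c27)) = (LP (LK LD1_c19 LD2_c43 LD3_c36)) :=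
  Lgr Lrot59 (Lpr_cf (K31.f392221 IH) (Lpn (LP (LK LD1_c19 LD2_c43 LD3_c36))))
theorem f392242 : Led Lsl_dt (LP (LK LD1_c8 LD2_c56 LD3_c33)) = (LP (LK LD1_c10 LD2_c53 LD3_c50)) :=
  Lgr Lrot173 (Lpe (K31.f177932 IH) (Lpr_df (K31.f392172 IH) (Lpe (K31.f280888 IH) (Lpe (K31.f281585 IH) (Lpr_cf (f392228 IH) (Lpe (K31.f281702 IH) (Lpe (K31.f281701 IH) (Lpr_df (f388322 IH) (Lpe (K30.f226413 IH) (Lpe (f226427 IH) (Lpe (K31.f388243 IH) (Lpe (f280753 IH) (Lpe (f392223 IH) (Lpe (K31.f388318 IH) (Lpe (K31.f271650 IH) (Lpn (LP (LK LD1_c10 LD2_c53 LD3_c50))))))))))))))))))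
theorem f400744 : Led Lsl_gt (LP (LK LD1_c15 LD2_c46 LD3_c42)) = (LP (LK LD1_c25 LD2_c35 LD3_c45)) :=
  Lre_g IH (LK LD1_c15 LD2_c46 LD3_c42) (LK LD1_c25 LD2_c35 LD3_c45) Lrfl Lrfl
theorem f417239 : Led Lsl_bt (LP (LK LD1_c19 LD2_c41 LD3_c35)) = (LP (LK LD1_c15 LD2_c46 LD3_c42)) :=
  Lgr Lrot178 (Lpe (K31.f271650 IH) (Lpe (f392242 IH) (Lpe (K31.f177931 IH) (Lpe (K30.f218084 IH) (Lpe (K13.f179771 IH) (Lpe (K13.f167756 IH) (Lpe (K10.f167754 IH) (Lpr_bf (f201078 IH) (Lpe (K12.f218077 IH) (Lpe (K13.f188701 IH) (Lpr_gf (K12.f221832 IH) (Lpe (K12.f53418 IH) (Lpe (K14.f188966 IH) (Lpe (K17.f221257 IH) (Lpr_gf (K18.f295079 IH) (Lpe (K38.f295120 IH) (Lpe (f295645 IH) (Lpr_df (f417231 IH) (Lpe (f400744 IH) (Lpn (LP (LK LD1_c15 LD2_c46 LD3_c42))))))))))))))))))))))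
theorem f271651 : Led Lsl_bt (LP (LK LD1_c19 LD2_c41 LD3_c34)) = (LP (LK LD1_c10 LD2_c53 LD3_c50)) :=
  Lre_b IH (LK LD1_c19 LD2_c41 LD3_c34) (LK LD1_c10 LD2_c53 LD3_c50) Lrfl Lrfl
theorem f400743 : Led Lsl_ct (LP (LK LD1_c15 LD2_c46 LD3_c42)) = (LP (LK LD1_c8 LD2_c23 LD3_c18)) :=
  Lre_c IH (LK LD1_c15 LD2_c46 LD3_c42) (LK LD1_c8 LD2_c23 LD3_c18) Lrfl Lrfl
theorem f417245 : Led Lsl_bt (LP (LK LD1_c8 LD2_c23 LD3_c18)) = (LP (LK LD1_c15 LD2_c46 LD3_c37)) :=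
  Lre_b IH (LK LD1_c8 LD2_c23 LD3_c18) (LK LD1_c15 LD2_c46 LD3_c37) Lrfl Lrfl
theorem f417246 : Led Lsl_cf (LP (LK LD1_c19 LD2_c41 LD3_c34)) = (LP (LK LD1_c15 LD2_c46 LD3_c37)) :=
  Lgr Lrot97 (Lpr_bt (f271651 IH) (Lpr_ct (K31.f271650 IH) (Lpr_bt (f417239 IH) (Lpr_ct (f400743 IH) (Lpr_bt (f417245 IH) (Lpn (LP (LK LD1_c15 LD2_c46 LD3_c37))))))))
theorem f236265 : Led Lsl_bt (LP (LK LD1_c16 LD2_c44 LD3_c26)) = (LP (LK LD1_c8 LD2_c56 LD3_c33)) :=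
  Lre_b IH (LK LD1_c16 LD2_c44 LD3_c26) (LK LD1_c8 LD2_c56 LD3_c33) Lrfl Lrfl
theorem f392244 : Led Lsl_bt (LP (LK LD1_c10 LD2_c53 LD3_c50)) = (LP (LK LD1_c19 LD2_c41 LD3_c34)) :=
  Lre_b IH (LK LD1_c10 LD2_c53 LD3_c50) (LK LD1_c19 LD2_c41 LD3_c34) Lrfl Lrfl
theorem f392245 : Led Lsl_df (LP (LK LD1_c16 LD2_c44 LD3_c26)) = (LP (LK LD1_c19 LD2_c41 LD3_c34)) :=
  Lgr Lrot12 (Lpr_bt (f236265 IH) (Lpr_dt (f392242 IH) (Lpr_bt (f392244 IH) (Lpn (LP (LK LD1_c19 LD2_c41 LD3_c34))))))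
theorem f244858 : Led Lsl_bt (LP (LK LD1_c4 LD2_c15 LD3_c57)) = (LP (LK LD1_c8 LD2_c30 LD3_c54)) :=
  Lre_b IH (LK LD1_c4 LD2_c15 LD3_c57) (LK LD1_c8 LD2_c30 LD3_c54) Lrfl Lrfl
theorem f282892 : Led Lsl_ct (LP (LK LD1_c8 LD2_c30 LD3_c54)) = (LP (LK LD1_c5 LD2_c29 LD3_c25)) :=
  Lgr Lrot83 (Lpe (f244858 IH) (Lpe (K13.f243608 IH) (Lpr_bf (K17.f282843 IH) (Lpe (K15.f222543 IH) (Lpe (K31.f222558 IH) (Lpn (LP (LK LD1_c5 LD2_c29 LD3_c25))))))))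
theorem f222618 : Led Lsl_gt (LP (LK LD1_c10 LD2_c50 LD3_c8)) = (LP (LK LD1_c5 LD2_c29 LD3_c25)) :=
  Lre_g IH (LK LD1_c10 LD2_c50 LD3_c8) (LK LD1_c5 LD2_c29 LD3_c25) Lrfl Lrfl
theorem f222624 : Led Lsl_ct (LP (LK LD1_c19 LD2_c35 LD3_c15)) = (LP (LK LD1_c10 LD2_c50 LD3_c8)) :=
  Lre_c IH (LK LD1_c19 LD2_c35 LD3_c15) (LK LD1_c10 LD2_c50 LD3_c8) Lrfl Lrfl
theorem f409385 : Led Lsl_bf (LP (LK LD1_c15 LD2_c51 LD3_c23)) = (LP (LK LD1_c19 LD2_c35 LD3_c15)) :=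
  Lgr Lrot34 (Lpe (K16.f188708 IH) (Lpe (K16.f188715 IH) (Lpr_ct (K15.f188561 IH) (Lpe (K13.f243638 IH) (Lpe (K13.f243637 IH) (Lpr_gf (K13.f243633 IH) (Lpe (K30.f243611 IH) (Lpr_ct (f282892 IH) (Lpe (f222618 IH) (Lpe (f222624 IH) (Lpn (LP (LK LD1_c19 LD2_c35 LD3_c15)))))))))))))
theorem f235783 : Led Lsl_bt (LP (LK LD1_c9 LD2_c41 LD3_c44)) = (LP (LK LD1_c4 LD2_c55 LD3_c6)) :=
  Lre_b IH (LK LD1_c9 LD2_c41 LD3_c44) (LK LD1_c4 LD2_c55 LD3_c6) Lrfl Lrfl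
theorem f349170 : Led Lsl_ft (LP (LK LD1_c8 LD2_c26 LD3_c35)) = (LP (LK LD1_c9 LD2_c41 LD3_c44)) :=
  Lgr Lrot75 (Lpe (K16.f188715 IH) (Lpr_ff (K26.f349166 IH) (Lpe (f235783 IH) (Lpn (LP (LK LD1_c9 LD2_c41 LD3_c44))))))
theorem f349255 : Led Lsl_at (LP (LK LD1_c9 LD2_c41 LD3_c44)) = (LP (LK LD1_c17 LD2_c50 LD3_c6)) :=
  Lre_a IH (LK LD1_c9 LD2_c41 LD3_c44) (LK LD1_c17 LD2_c50 LD3_c6) Lrfl Lrfl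
theorem f349256 : Led Lsl_gt (LP (LK LD1_c15 LD2_c51 LD3_c23)) = (LP (LK LD1_c17 LD2_c50 LD3_c6)) :=
  Lgr Lrot46 (Lpe (K16.f188708 IH) (Lpr_ft (f349170 IH) (Lpr_at (f349255 IH) (Lpn (LP (LK LD1_c17 LD2_c50 LD3_c6))))))
theorem f349192 : Led Lsl_ct (LP (LK LD1_c17 LD2_c50 LD3_c6)) = (LP (LK LD1_c9 LD2_c41 LD3_c55)) :=
  Lre_c IH (LK LD1_c17 LD2_c50 LD3_c6) (LK LD1_c9 LD2_c41 LD3_c55) Lrfl Lrfl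
theorem f188709 : Led Lsl_gt (LP (LK LD1_c17 LD2_c48 LD3_c3)) = (LP (LK LD1_c9 LD2_c40 LD3_c36)) :=
  Lre_g IH (LK LD1_c17 LD2_c48 LD3_c3) (LK LD1_c9 LD2_c40 LD3_c36) Lrfl Lrfl
theorem f349246 : Led Lsl_gf (LP (LK LD1_c17 LD2_c48 LD3_c3)) = (LP (LK LD1_c9 LD2_c41 LD3_c55)) :=
  Lgr Lrot47 (Lpr_gt (f188709 IH) (Lpe (K38.f188704 IH) (Lpr_ff (K38.f349181 IH) (Lpn (LP (LK LD1_c9 LD2_c41 LD3_c55))))))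
theorem f222569 : Led Lsl_dt (LP (LK LD1_c5 LD2_c29 LD3_c25)) = (LP (LK LD1_c10 LD2_c50 LD3_c10)) :=
  Lre_d IH (LK LD1_c5 LD2_c29 LD3_c25) (LK LD1_c10 LD2_c50 LD3_c10) Lrfl Lrfl
theorem f222570 : Led Lsl_dt (LP (LK LD1_c15 LD2_c15 LD3_c8)) = (LP (LK LD1_c8 LD2_c6 LD3_c4)) :=
  Lre_d IH (LK LD1_c15 LD2_c15 LD3_c8) (LK LD1_c8 LD2_c6 LD3_c4) Lrfl Lrfl
theorem f222571 : Led Lsl_ft (LP (LK LD1_c10 LD2_c50 LD3_c10)) = (LP (LK LD1_c15 LD2_c15 LD3_c8)) :=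
  Lgr Lrot54 (Lpe (f222569 IH) (Lpr_ff (K31.f222559 IH) (Lpe (f222570 IH) (Lpn (LP (LK LD1_c15 LD2_c15 LD3_c8))))))
theorem f222595 : Led Lsl_ff (LP (LK LD1_c10 LD2_c50 LD3_c10)) = (LP (LK LD1_c15 LD2_c15 LD3_c8)) :=
  Lgr Lrot3 (Lpr_ft (f222571 IH) (Lpn (LP (LK LD1_c15 LD2_c15 LD3_c8))))
theorem f222598 : Led Lsl_at (LP (LK LD1_c10 LD2_c50 LD3_c10)) = (LP (LK LD1_c19 LD2_c35 LD3_c18)) :=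
  Lre_a IH (LK LD1_c10 LD2_c50 LD3_c10) (LK LD1_c19 LD2_c35 LD3_c18) Lrfl Lrfl
theorem f222599 : Led Lsl_at (LP (LK LD1_c25 LD2_c4 LD3_c12)) = (LP (LK LD1_c15 LD2_c15 LD3_c8)) :=
  Lre_a IH (LK LD1_c25 LD2_c4 LD3_c12) (LK LD1_c15 LD2_c15 LD3_c8) Lrfl Lrfl
theorem f222600 : Led Lsl_ft (LP (LK LD1_c19 LD2_c35 LD3_c18)) = (LP (LK LD1_c25 LD2_c4 LD3_c12)) :=
  Lgr Lrot101 (Lpe (f222598 IH) (Lpr_ff (f222595 IH) (Lpe (f222599 IH) (Lpn (LP (LK LD1_c25 LD2_c4 LD3_c12))))))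
theorem f222577 : Led Lsl_dt (LP (LK LD1_c10 LD2_c50 LD3_c9)) = (LP (LK LD1_c19 LD2_c35 LD3_c18)) :=
  Lre_d IH (LK LD1_c10 LD2_c50 LD3_c9) (LK LD1_c19 LD2_c35 LD3_c18) Lrfl Lrfl
theorem f222612 : Led Lsl_dt (LP (LK LD1_c25 LD2_c4 LD3_c12)) = (LP (LK LD1_c15 LD2_c15 LD3_c7)) :=
  Lre_d IH (LK LD1_c25 LD2_c4 LD3_c12) (LK LD1_c15 LD2_c15 LD3_c7) Lrfl Lrfl
theorem f222613 : Led Lsl_ff (LP (LK LD1_c10 LD2_c50 LD3_c9)) = (LP (LK LD1_c15 LD2_c15 LD3_c7)) :=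
  Lgr Lrot19 (Lpr_dt (f222577 IH) (Lpr_ft (f222600 IH) (Lpr_dt (f222612 IH) (Lpn (LP (LK LD1_c15 LD2_c15 LD3_c7))))))
theorem f222615 : Led Lsl_at (LP (LK LD1_c10 LD2_c50 LD3_c9)) = (LP (LK LD1_c5 LD2_c29 LD3_c25)) :=
  Lre_a IH (LK LD1_c10 LD2_c50 LD3_c9) (LK LD1_c5 LD2_c29 LD3_c25) Lrfl Lrfl
theorem f222619 : Led Lsl_gf (LP (LK LD1_c10 LD2_c50 LD3_c8)) = (LP (LK LD1_c15 LD2_c15 LD3_c7)) :=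
  Lgr Lrot47 (Lpr_gt (f222618 IH) (Lpe (f222615 IH) (Lpr_ff (f222613 IH) (Lpn (LP (LK LD1_c15 LD2_c15 LD3_c7))))))
theorem f244988 : Led Lsl_bt (LP (LK LD1_c10 LD2_c46 LD3_c7)) = (LP (LK LD1_c5 LD2_c27 LD3_c58)) :=
  Lre_b IH (LK LD1_c10 LD2_c46 LD3_c7) (LK LD1_c5 LD2_c27 LD3_c58) Lrfl Lrfl
theorem f409391 : Led Lsl_cf (LP (LK LD1_c17 LD2_c48 LD3_c3)) = (LP (LK LD1_c16 LD2_c44 LD3_c26)) :=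
  Lgr Lrot163 (Lpr_gf (f349246 IH) (Lpe (f349192 IH) (Lpe (f349256 IH) (Lpr_bf (f409385 IH) (Lpr_ct (f222624 IH) (Lpr_gf (f222619 IH) (Lpe (K31.f386400 IH) (Lpr_bt (f244988 IH) (Lpr_gf (K31.f392233 IH) (Lpe (f236265 IH) (Lpn (LP (LK LD1_c16 LD2_c44 LD3_c26)))))))))))))
theorem f409393 : Led Lsl_ct (LP (LK LD1_c17 LD2_c48 LD3_c3)) = (LP (LK LD1_c16 LD2_c44 LD3_c26)) :=
  Lgr Lrot59 (Lpr_cf (f409391 IH) (Lpn (LP (LK LD1_c16 LD2_c44 LD3_c26))))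
theorem f170960 : Led Lsl_gt (LP (LK LD1_c25 LD2_c43 LD3_c16)) = (LP (LK LD1_c15 LD2_c46 LD3_c37)) :=
  Lre_g IH (LK LD1_c25 LD2_c43 LD3_c16) (LK LD1_c15 LD2_c46 LD3_c37) Lrfl Lrfl
theorem f417269 : Led Lsl_ct (LP (LK LD1_c25 LD2_c35 LD3_c20)) = (LP (LK LD1_c25 LD2_c43 LD3_c16)) :=
  Lgr Lrot152 (Lpe (f213220 IH) (Lpr_df (K16.f261985 IH) (Lpr_gt (f349256 IH) (Lpr_ct (f349192 IH) (Lpe (f349246 IH) (Lpr_ct (f409393 IH) (Lpr_df (f392245 IH) (Lpr_cf (f417246 IH) (Lpe (f170960 IH) (Lpn (LP (LK LD1_c25 LD2_c43 LD3_c16))))))))))))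
theorem f605499 : Led Lsl_dt (LP (LK LD1_c25 LD2_c43 LD3_c16)) = (LP (LK LD1_c16 LD2_c19 LD3_c4)) :=
  Lgr Lrot27 (Lpe (f417269 IH) (Lpe (f213220 IH) (Lpe (K16.f213176 IH) (Lpe (f213211 IH) (Lpr_df (f605493 IH) (Lpr_gt (f238514 IH) (Lpr_ct (K19.f232285 IH) (Lpr_gt (K38.f193277 IH) (Lpr_ct (K38.f232276 IH) (Lpn (LP (LK LD1_c16 LD2_c19 LD3_c4))))))))))))
theorem f218694 : Led Lsl_dt (LP (LK LD1_c9 LD2_c42 LD3_c33)) = (LP (LK LD1_c4 LD2_c55 LD3_c27)) :=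
  Lre_d IH (LK LD1_c9 LD2_c42 LD3_c33) (LK LD1_c4 LD2_c55 LD3_c27) Lrfl Lrfl
theorem f605506 : Led Lsl_df (LP (LK LD1_c25 LD2_c35 LD3_c20)) = (LP (LK LD1_c15 LD2_c51 LD3_c36)) :=
  Lgr Lrot157 (Lpr_ct (f417269 IH) (Lpr_dt (f605499 IH) (Lpr_ct (K38.f250712 IH) (Lpr_dt (K38.f193278 IH) (Lpe (K38.f263942 IH) (Lpr_dt (f218694 IH) (Lpr_ct (K18.f217453 IH) (Lpe (K27.f263953 IH) (Lpe (K27.f369180 IH) (Lpn (LP (LK LD1_c15 LD2_c51 LD3_c36))))))))))))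
theorem f403226 : Led Lsl_ft (LP (LK LD1_c25 LD2_c27 LD3_c56)) = (LP (LK LD1_c15 LD2_c39 LD3_c57)) :=
  Lgr Lrot101 (Lpr_af (K38.f403222 IH) (Lpr_ff (K38.f280074 IH) (Lpe (K38.f213215 IH) (Lpn (LP (LK LD1_c15 LD2_c39 LD3_c57))))))
theorem f403228 : Led Lsl_ff (LP (LK LD1_c25 LD2_c27 LD3_c56)) = (LP (LK LD1_c15 LD2_c39 LD3_c57)) :=
  Lgr Lrot3 (Lpr_ft (f403226 IH) (Lpn (LP (LK LD1_c15 LD2_c39 LD3_c57))))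
theorem f403232 : Led Lsl_gf (LP (LK LD1_c25 LD2_c47 LD3_c15)) = (LP (LK LD1_c25 LD2_c35 LD3_c20)) :=
  Lgr Lrot76 (Lpe (K38.f403224 IH) (Lpr_ff (f403228 IH) (Lpr_gt (f213220 IH) (Lpn (LP (LK LD1_c25 LD2_c35 LD3_c20))))))
theorem f280081 : Led Lsl_cf (LP (LK LD1_c25 LD2_c27 LD3_c55)) = (LP (LK LD1_c25 LD2_c47 LD3_c15)) :=
  Lgr Lrot108 (Lpr_ft (K16.f280076 IH) (Lpr_ct (K38.f236725 IH) (Lpe (K38.f280074 IH) (Lpn (LP (LK LD1_c25 LD2_c47 LD3_c15))))))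
theorem f261990 : Led Lsl_at (LP (LK LD1_c15 LD2_c39 LD3_c53)) = (LP (LK LD1_c8 LD2_c19 LD3_c35)) :=
  Lre_a IH (LK LD1_c15 LD2_c39 LD3_c53) (LK LD1_c8 LD2_c19 LD3_c35) Lrfl Lrfl
theorem f280085 : Led Lsl_gt (LP (LK LD1_c25 LD2_c27 LD3_c55)) = (LP (LK LD1_c15 LD2_c39 LD3_c56)) :=
  Lgr Lrot5 (Lpr_ft (K16.f280076 IH) (Lpr_at (f261990 IH) (Lpe (f213211 IH) (Lpn (LP (LK LD1_c15 LD2_c39 LD3_c56))))))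
theorem f280087 : Led Lsl_ct (LP (LK LD1_c15 LD2_c39 LD3_c56)) = (LP (LK LD1_c25 LD2_c35 LD3_c19)) :=
  Lre_c IH (LK LD1_c15 LD2_c39 LD3_c56) (LK LD1_c25 LD2_c35 LD3_c19) Lrfl Lrfl
theorem f605516 : Led Lsl_dt (LP (LK LD1_c25 LD2_c35 LD3_c19)) = (LP (LK LD1_c25 LD2_c47 LD3_c58)) :=
  Lgr Lrot27 (Lpe (f280087 IH) (Lpe (f280085 IH) (Lpr_cf (f280081 IH) (Lpr_gf (f403232 IH) (Lpr_df (f605506 IH) (Lpr_gt (K27.f369182 IH) (Lpr_ct (K27.f219061 IH) (Lpe (K31.f389599 IH) (Lpr_ct (K31.f389592 IH) (Lpn (LP (LK LD1_c25 LD2_c47 LD3_c58))))))))))))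
theorem f605523 : Led Lsl_df (LP (LK LD1_c25 LD2_c35 LD3_c19)) = (LP (LK LD1_c25 LD2_c47 LD3_c58)) :=
  Lgr Lrot38 (Lpr_dt (f605516 IH) (Lpn (LP (LK LD1_c25 LD2_c47 LD3_c58))))
theorem f389591 : Led Lsl_at (LP (LK LD1_c15 LD2_c52 LD3_c11)) = (LP (LK LD1_c25 LD2_c47 LD3_c58)) :=
  Lre_a IH (LK LD1_c15 LD2_c52 LD3_c11) (LK LD1_c25 LD2_c47 LD3_c58) Lrfl Lrfl
theorem f388190 : Led Lsl_dt (LP (LK LD1_c25 LD2_c47 LD3_c59)) = (LP (LK LD1_c15 LD2_c52 LD3_c11)) :=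
  Lre_d IH (LK LD1_c25 LD2_c47 LD3_c59) (LK LD1_c15 LD2_c52 LD3_c11) Lrfl Lrfl
theorem f605543 : Led Lsl_at (LP (LK LD1_c25 LD2_c35 LD3_c19)) = (LP (LK LD1_c25 LD2_c47 LD3_c59)) :=
  Lgr Lrot51 (Lpr_df (f605523 IH) (Lpe (f389591 IH) (Lpe (f388190 IH) (Lpn (LP (LK LD1_c25 LD2_c47 LD3_c59))))))
theorem f388182 : Led Lsl_bt (LP (LK LD1_c25 LD2_c47 LD3_c59)) = (LP (LK LD1_c15 LD2_c52 LD3_c12)) :=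
  Lre_b IH (LK LD1_c25 LD2_c47 LD3_c59) (LK LD1_c15 LD2_c52 LD3_c12) Lrfl Lrfl
theorem f168462 : Led Lsl_gt (LP (LK LD1_c5 LD2_c29 LD3_c38)) = (LP (LK LD1_c10 LD2_c50 LD3_c30)) :=
  Lre_g IH (LK LD1_c5 LD2_c29 LD3_c38) (LK LD1_c10 LD2_c50 LD3_c30) Lrfl Lrfl
theorem f168463 : Led Lsl_dt (LP (LK LD1_c10 LD2_c50 LD3_c30)) = (LP (LK LD1_c19 LD2_c35 LD3_c53)) :=
  Lre_d IH (LK LD1_c10 LD2_c50 LD3_c30) (LK LD1_c19 LD2_c35 LD3_c53) Lrfl Lrfl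
theorem f388183 : Led Lsl_cf (LP (LK LD1_c25 LD2_c47 LD3_c59)) = (LP (LK LD1_c19 LD2_c35 LD3_c53)) :=
  Lgr Lrot89 (Lpr_bt (f388182 IH) (Lpr_gt (K45.f387940 IH) (Lpr_dt (K30.f282818 IH) (Lpe (K14.f247281 IH) (Lpr_bt (K31.f200713 IH) (Lpr_gt (K12.f200704 IH) (Lpr_dt (K12.f223601 IH) (Lpr_ct (K12.f52270 IH) (Lpr_bt (K16.f217490 IH) (Lpr_gt (K16.f275475 IH) (Lpr_dt (K16.f212796 IH) (Lpe (K12.f212786 IH) (Lpr_bt (K12.f168538 IH) (Lpr_gt (K12.f168537 IH) (Lpr_dt (K12.f168526 IH) (Lpr_ct (K12.f168361 IH) (Lpr_bt (K18.f168362 IH) (Lpr_gt (f168462 IH) (Lpr_dt (f168463 IH) (Lpn (LP (LK LD1_c19 LD2_c35 LD3_c53))))))))))))))))))))))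
theorem f388188 : Led Lsl_ct (LP (LK LD1_c25 LD2_c47 LD3_c59)) = (LP (LK LD1_c19 LD2_c35 LD3_c53)) :=
  Lgr Lrot59 (Lpr_cf (f388183 IH) (Lpn (LP (LK LD1_c19 LD2_c35 LD3_c53))))
theorem f605555 : Led Lsl_af (LP (LK LD1_c15 LD2_c39 LD3_c56)) = (LP (LK LD1_c19 LD2_c35 LD3_c53)) :=
  Lgr Lrot68 (Lpr_ct (f280087 IH) (Lpr_at (f605543 IH) (Lpr_ct (f388188 IH) (Lpn (LP (LK LD1_c19 LD2_c35 LD3_c53))))))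
theorem f605497 : Led Lsl_dt (LP (LK LD1_c15 LD2_c39 LD3_c56)) = (LP (LK LD1_c16 LD2_c18 LD3_c60)) :=
  Lgr Lrot42 (Lpr_df (f605493 IH) (Lpn (LP (LK LD1_c16 LD2_c18 LD3_c60))))
theorem f605559 : Led Lsl_at (LP (LK LD1_c16 LD2_c18 LD3_c60)) = (LP (LK LD1_c10 LD2_c50 LD3_c30)) :=
  Lgr Lrot51 (Lpe (f605497 IH) (Lpr_af (f605555 IH) (Lpe (f168463 IH) (Lpn (LP (LK LD1_c10 LD2_c50 LD3_c30))))))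
theorem f168468 : Led Lsl_gt (LP (LK LD1_c10 LD2_c50 LD3_c31)) = (LP (LK LD1_c5 LD2_c29 LD3_c38)) :=
  Lre_g IH (LK LD1_c10 LD2_c50 LD3_c31) (LK LD1_c5 LD2_c29 LD3_c38) Lrfl Lrfl
theorem f605653 : Led Lsl_ff (LP (LK LD1_c16 LD2_c18 LD3_c60)) = (LP (LK LD1_c10 LD2_c50 LD3_c31)) :=
  Lgr Lrot52 (Lpr_at (f605559 IH) (Lpe (f168462 IH) (Lpe (f168468 IH) (Lpn (LP (LK LD1_c10 LD2_c50 LD3_c31))))))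
theorem f605659 : Led Lsl_ft (LP (LK LD1_c16 LD2_c18 LD3_c60)) = (LP (LK LD1_c10 LD2_c50 LD3_c31)) :=
  Lgr Lrot48 (Lpr_ff (f605653 IH) (Lpn (LP (LK LD1_c10 LD2_c50 LD3_c31))))
theorem f212503 : Led Lsl_gt (LP (LK LD1_c8 LD2_c42 LD3_c34)) = (LP (LK LD1_c16 LD2_c18 LD3_c59)) :=
  Lre_g IH (LK LD1_c8 LD2_c42 LD3_c34) (LK LD1_c16 LD2_c18 LD3_c59) Lrfl Lrfl
theorem f605666 : Led Lsl_af (LP (LK LD1_c16 LD2_c18 LD3_c59)) = (LP (LK LD1_c10 LD2_c50 LD3_c31)) :=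
  Lgr Lrot31 (Lpe (f212503 IH) (Lpe (f238514 IH) (Lpr_ft (f605659 IH) (Lpn (LP (LK LD1_c10 LD2_c50 LD3_c31))))))
theorem f605647 : Led Lsl_af (LP (LK LD1_c16 LD2_c18 LD3_c60)) = (LP (LK LD1_c10 LD2_c50 LD3_c30)) :=
  Lgr Lrot0 (Lpr_at (f605559 IH) (Lpn (LP (LK LD1_c10 LD2_c50 LD3_c30))))
theorem f605674 : Led Lsl_ft (LP (LK LD1_c16 LD2_c18 LD3_c59)) = (LP (LK LD1_c10 LD2_c50 LD3_c30)) :=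
  Lgr Lrot101 (Lpr_af (f605666 IH) (Lpe (f605659 IH) (Lpr_af (f605647 IH) (Lpn (LP (LK LD1_c10 LD2_c50 LD3_c30))))))
theorem f43119 : Led Lsl_gt (LP (LK LD1_c4 LD2_c21 LD3_c41)) = (LP (LK LD1_c8 LD2_c40 LD3_c57)) :=
  Lre_g IH (LK LD1_c4 LD2_c21 LD3_c41) (LK LD1_c8 LD2_c40 LD3_c57) Lrfl Lrfl
theorem f238515 : Led Lsl_bt (LP (LK LD1_c16 LD2_c15 LD3_c31)) = (LP (LK LD1_c8 LD2_c40 LD3_c57)) :=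
  Lre_b IH (LK LD1_c16 LD2_c15 LD3_c31) (LK LD1_c8 LD2_c40 LD3_c57) Lrfl Lrfl
theorem f238516 : Led Lsl_cf (LP (LK LD1_c16 LD2_c18 LD3_c60)) = (LP (LK LD1_c16 LD2_c15 LD3_c31)) :=
  Lgr Lrot160 (Lpr_gt (f238514 IH) (Lpe (K18.f232284 IH) (Lpr_bt (K18.f238513 IH) (Lpe (K13.f238511 IH) (Lpr_ct (K13.f227942 IH) (Lpr_gt (K13.f238506 IH) (Lpe (K12.f28933 IH) (Lpr_bt (K15.f43118 IH) (Lpr_gt (f43119 IH) (Lpe (f238515 IH) (Lpn (LP (LK LD1_c16 LD2_c15 LD3_c31)))))))))))))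
theorem f238607 : Led Lsl_dt (LP (LK LD1_c26 LD2_c12 LD3_c61)) = (LP (LK LD1_c16 LD2_c15 LD3_c31)) :=
  Lre_d IH (LK LD1_c26 LD2_c12 LD3_c61) (LK LD1_c16 LD2_c15 LD3_c31) Lrfl Lrfl
theorem f389715 : Led Lsl_at (LP (LK LD1_c25 LD2_c12 LD3_c54)) = (LP (LK LD1_c17 LD2_c48 LD3_c37)) :=
  Lgr Lrot66 (Lpr_ff (K31.f389708 IH) (Lpe (K31.f389618 IH) (Lpe (K31.f389594 IH) (Lpn (LP (LK LD1_c17 LD2_c48 LD3_c37))))))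
theorem f236745 : Led Lsl_gt (LP (LK LD1_c31 LD2_c38 LD3_c21)) = (LP (LK LD1_c24 LD2_c45 LD3_c7)) :=
  Lre_g IH (LK LD1_c31 LD2_c38 LD3_c21) (LK LD1_c24 LD2_c45 LD3_c7) Lrfl Lrfl
theorem f551528 : Led Lsl_dt (LP (LK LD1_c24 LD2_c58 LD3_c34)) = (LP (LK LD1_c31 LD2_c38 LD3_c21)) :=
  Lgr Lrot6 (Lpe (K18.f217475 IH) (Lpe (K18.f217471 IH) (Lpr_gt (K18.f217468 IH) (Lpr_ct (K27.f217466 IH) (Lpe (f218694 IH) (Lpr_cf (K38.f263942 IH) (Lpr_gf (K39.f551524 IH) (Lpe (K16.f236679 IH) (Lpe (f236745 IH) (Lpn (LP (LK LD1_c31 LD2_c38 LD3_c21))))))))))))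
theorem f605525 : Led Lsl_cf (LP (LK LD1_c26 LD2_c12 LD3_c61)) = (LP (LK LD1_c31 LD2_c38 LD3_c21)) :=
  Lgr Lrot118 (Lpr_dt (f238607 IH) (Lpe (f238516 IH) (Lpe (f605493 IH) (Lpr_ct (f280087 IH) (Lpr_dt (f605516 IH) (Lpe (K31.f389589 IH) (Lpe (f389715 IH) (Lpr_ff (K31.f389708 IH) (Lpr_dt (f551528 IH) (Lpn (LP (LK LD1_c31 LD2_c38 LD3_c21))))))))))))
theorem f280078 : Led Lsl_at (LP (LK LD1_c15 LD2_c34 LD3_c11)) = (LP (LK LD1_c25 LD2_c27 LD3_c55)) :=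
  Lre_a IH (LK LD1_c15 LD2_c34 LD3_c11) (LK LD1_c25 LD2_c27 LD3_c55) Lrfl Lrfl
theorem f280079 : Led Lsl_ff (LP (LK LD1_c15 LD2_c34 LD3_c11)) = (LP (LK LD1_c8 LD2_c19 LD3_c35)) :=
  Lgr Lrot30 (Lpr_at (f280078 IH) (Lpr_ft (K16.f280076 IH) (Lpr_at (f261990 IH) (Lpn (LP (LK LD1_c8 LD2_c19 LD3_c35))))))
theorem f213185 : Led Lsl_gt (LP (LK LD1_c8 LD2_c19 LD3_c35)) = (LP (LK LD1_c15 LD2_c39 LD3_c55)) :=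
  Lre_g IH (LK LD1_c8 LD2_c19 LD3_c35) (LK LD1_c15 LD2_c39 LD3_c55) Lrfl Lrfl
theorem f409798 : Led Lsl_gf (LP (LK LD1_c25 LD2_c27 LD3_c55)) = (LP (LK LD1_c15 LD2_c39 LD3_c55)) :=
  Lgr Lrot76 (Lpe (f280078 IH) (Lpr_ff (f280079 IH) (Lpr_gt (f213185 IH) (Lpn (LP (LK LD1_c15 LD2_c39 LD3_c55))))))
theorem f605561 : Led Lsl_ft (LP (LK LD1_c15 LD2_c39 LD3_c55)) = (LP (LK LD1_c19 LD2_c35 LD3_c53)) :=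
  Lgr Lrot2 (Lpe (f409798 IH) (Lpr_gt (f280085 IH) (Lpr_af (f605555 IH) (Lpn (LP (LK LD1_c19 LD2_c35 LD3_c53))))))
theorem f605567 : Led Lsl_ff (LP (LK LD1_c15 LD2_c39 LD3_c55)) = (LP (LK LD1_c19 LD2_c35 LD3_c53)) :=
  Lgr Lrot3 (Lpr_ft (f605561 IH) (Lpn (LP (LK LD1_c19 LD2_c35 LD3_c53))))
theorem f213214 : Led Lsl_ct (LP (LK LD1_c15 LD2_c39 LD3_c55)) = (LP (LK LD1_c25 LD2_c35 LD3_c16)) :=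
  Lre_c IH (LK LD1_c15 LD2_c39 LD3_c55) (LK LD1_c25 LD2_c35 LD3_c16) Lrfl Lrfl
theorem f605572 : Led Lsl_ft (LP (LK LD1_c25 LD2_c35 LD3_c16)) = (LP (LK LD1_c25 LD2_c47 LD3_c59)) :=
  Lgr Lrot4 (Lpe (f213214 IH) (Lpr_ff (f605567 IH) (Lpe (f388188 IH) (Lpn (LP (LK LD1_c25 LD2_c47 LD3_c59))))))
theorem f388191 : Led Lsl_dt (LP (LK LD1_c15 LD2_c52 LD3_c11)) = (LP (LK LD1_c25 LD2_c47 LD3_c59)) :=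
  Lre_d IH (LK LD1_c15 LD2_c52 LD3_c11) (LK LD1_c25 LD2_c47 LD3_c59) Lrfl Lrfl
theorem f605518 : Led Lsl_af (LP (LK LD1_c25 LD2_c35 LD3_c19)) = (LP (LK LD1_c25 LD2_c47 LD3_c59)) :=
  Lgr Lrot117 (Lpr_dt (f605516 IH) (Lpr_at (K31.f389575 IH) (Lpr_dt (f388191 IH) (Lpn (LP (LK LD1_c25 LD2_c47 LD3_c59))))))
theorem f605577 : Led Lsl_dt (LP (LK LD1_c25 LD2_c35 LD3_c16)) = (LP (LK LD1_c25 LD2_c47 LD3_c46)) :=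
  Lgr Lrot159 (Lpr_ft (f605572 IH) (Lpe (f605518 IH) (Lpe (f280087 IH) (Lpr_df (f605493 IH) (Lpr_cf (f238516 IH) (Lpe (f238607 IH) (Lpr_cf (f605525 IH) (Lpe (f551528 IH) (Lpe (K31.f390013 IH) (Lpn (LP (LK LD1_c25 LD2_c47 LD3_c46))))))))))))
theorem f605685 : Led Lsl_dt (LP (LK LD1_c16 LD2_c18 LD3_c59)) = (LP (LK LD1_c15 LD2_c39 LD3_c55)) :=
  Lgr Lrot159 (Lpr_ft (f605674 IH) (Lpe (f605647 IH) (Lpr_cf (f238516 IH) (Lpe (f238607 IH) (Lpr_cf (f605525 IH) (Lpe (f551528 IH) (Lpe (K31.f390013 IH) (Lpe (f605577 IH) (Lpe (f213214 IH) (Lpn (LP (LK LD1_c15 LD2_c39 LD3_c55))))))))))))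
theorem f168520 : Led Lsl_dt (LP (LK LD1_c19 LD2_c35 LD3_c57)) = (LP (LK LD1_c10 LD2_c50 LD3_c31)) :=
  Lre_d IH (LK LD1_c19 LD2_c35 LD3_c57) (LK LD1_c10 LD2_c50 LD3_c31) Lrfl Lrfl
theorem f605687 : Led Lsl_af (LP (LK LD1_c19 LD2_c35 LD3_c57)) = (LP (LK LD1_c15 LD2_c39 LD3_c55)) :=
  Lgr Lrot117 (Lpr_dt (f168520 IH) (Lpe (f605666 IH) (Lpr_dt (f605685 IH) (Lpn (LP (LK LD1_c15 LD2_c39 LD3_c55))))))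
theorem f297662 : Led Lsl_ct (LP (LK LD1_c19 LD2_c35 LD3_c57)) = (LP (LK LD1_c28 LD2_c57 LD3_c50)) :=
  Lre_c IH (LK LD1_c19 LD2_c35 LD3_c57) (LK LD1_c28 LD2_c57 LD3_c50) Lrfl Lrfl
theorem f213226 : Led Lsl_ct (LP (LK LD1_c25 LD2_c35 LD3_c16)) = (LP (LK LD1_c15 LD2_c39 LD3_c55)) :=
  Lre_c IH (LK LD1_c25 LD2_c35 LD3_c16) (LK LD1_c15 LD2_c39 LD3_c55) Lrfl Lrfl
theorem f605698 : Led Lsl_at (LP (LK LD1_c28 LD2_c57 LD3_c50)) = (LP (LK LD1_c25 LD2_c35 LD3_c16)) :=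
  Lgr Lrot107 (Lpe (f297662 IH) (Lpr_af (f605687 IH) (Lpe (f213226 IH) (Lpn (LP (LK LD1_c25 LD2_c35 LD3_c16))))))
theorem f605711 : Led Lsl_ff (LP (LK LD1_c28 LD2_c57 LD3_c50)) = (LP (LK LD1_c25 LD2_c35 LD3_c19)) :=
  Lgr Lrot30 (Lpr_at (f605698 IH) (Lpr_ft (f605572 IH) (Lpe (f605518 IH) (Lpn (LP (LK LD1_c25 LD2_c35 LD3_c19))))))
theorem f605715 : Led Lsl_dt (LP (LK LD1_c28 LD2_c57 LD3_c50)) = (LP (LK LD1_c19 LD2_c41 LD3_c23)) :=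
  Lgr Lrot60 (Lpr_ff (f605711 IH) (Lpr_df (f605523 IH) (Lpr_ff (K31.f390847 IH) (Lpn (LP (LK LD1_c19 LD2_c41 LD3_c23))))))
theorem f168521 : Led Lsl_dt (LP (LK LD1_c10 LD2_c50 LD3_c31)) = (LP (LK LD1_c19 LD2_c35 LD3_c57)) :=
  Lre_d IH (LK LD1_c10 LD2_c50 LD3_c31) (LK LD1_c19 LD2_c35 LD3_c57) Lrfl Lrfl
theorem f168469 : Led Lsl_ct (LP (LK LD1_c19 LD2_c35 LD3_c56)) = (LP (LK LD1_c10 LD2_c50 LD3_c31)) :=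
  Lre_c IH (LK LD1_c19 LD2_c35 LD3_c56) (LK LD1_c10 LD2_c50 LD3_c31) Lrfl Lrfl
theorem f550061 : Led Lsl_gf (LP (LK LD1_c25 LD2_c35 LD3_c12)) = (LP (LK LD1_c27 LD2_c38 LD3_c2)) :=
  Lgr Lrot76 (Lpe (K38.f213215 IH) (Lpe (f403226 IH) (Lpr_gt (K38.f550056 IH) (Lpn (LP (LK LD1_c27 LD2_c38 LD3_c2))))))
theorem f403064 : Led Lsl_dt (LP (LK LD1_c16 LD2_c17 LD3_c15)) = (LP (LK LD1_c19 LD2_c10 LD3_c34)) :=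
  Lgr Lrot79 (Lpe (K16.f237692 IH) (Lpr_df (K38.f403062 IH) (Lpe (K38.f263732 IH) (Lpn (LP (LK LD1_c19 LD2_c10 LD3_c34))))))
theorem f269705 : Led Lsl_gt (LP (LK LD1_c26 LD2_c15 LD3_c9)) = (LP (LK LD1_c16 LD2_c17 LD3_c15)) :=
  Lre_g IH (LK LD1_c26 LD2_c15 LD3_c9) (LK LD1_c16 LD2_c17 LD3_c15) Lrfl Lrfl
theorem f261744 : Led Lsl_bf (LP (LK LD1_c19 LD2_c44 LD3_c22)) = (LP (LK LD1_c15 LD2_c51 LD3_c34)) :=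
  Lgr Lrot24 (Lpr_bt (K27.f261742 IH) (Lpn (LP (LK LD1_c15 LD2_c51 LD3_c34))))
theorem f200777 : Led Lsl_ct (LP (LK LD1_c15 LD2_c52 LD3_c11)) = (LP (LK LD1_c25 LD2_c12 LD3_c54)) :=
  Lgr Lrot83 (Lpe (K31.f200774 IH) (Lpr_cf (K11.f200771 IH) (Lpe (K31.f200775 IH) (Lpe (K22.f53050 IH) (Lpe (K31.f200776 IH) (Lpn (LP (LK LD1_c25 LD2_c12 LD3_c54))))))))
theorem f261747 : Led Lsl_gf (LP (LK LD1_c25 LD2_c12 LD3_c54)) = (LP (LK LD1_c25 LD2_c47 LD3_c23)) :=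
  Lgr Lrot126 (Lpe (f200777 IH) (Lpr_bt (K31.f217371 IH) (Lpr_gt (K11.f200792 IH) (Lpr_ct (K18.f52829 IH) (Lpr_gt (K20.f196942 IH) (Lpe (K30.f52832 IH) (Lpr_bt (K30.f221230 IH) (Lpe (K30.f261740 IH) (Lpr_bf (f261744 IH) (Lpr_ct (K18.f201175 IH) (Lpn (LP (LK LD1_c25 LD2_c47 LD3_c23)))))))))))))
theorem f550063 : Led Lsl_df (LP (LK LD1_c26 LD2_c15 LD3_c9)) = (LP (LK LD1_c25 LD2_c12 LD3_c54)) :=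
  Lgr Lrot153 (Lpr_gt (f269705 IH) (Lpr_dt (f403064 IH) (Lpr_cf (K38.f263751 IH) (Lpe (K38.f403215 IH) (Lpr_gf (f550061 IH) (Lpe (K27.f369167 IH) (Lpr_gf (K31.f369201 IH) (Lpe (K19.f201176 IH) (Lpe (f261747 IH) (Lpn (LP (LK LD1_c25 LD2_c12 LD3_c54))))))))))))
theorem f269702 : Led Lsl_bt (LP (LK LD1_c4 LD2_c21 LD3_c57)) = (LP (LK LD1_c8 LD2_c41 LD3_c33)) :=
  Lre_b IH (LK LD1_c4 LD2_c21 LD3_c57) (LK LD1_c8 LD2_c41 LD3_c33) Lrfl Lrfl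
theorem f269703 : Led Lsl_gt (LP (LK LD1_c8 LD2_c41 LD3_c33)) = (LP (LK LD1_c16 LD2_c16 LD3_c47)) :=
  Lre_g IH (LK LD1_c8 LD2_c41 LD3_c33) (LK LD1_c16 LD2_c16 LD3_c47) Lrfl Lrfl
theorem f269704 : Led Lsl_bt (LP (LK LD1_c26 LD2_c14 LD3_c44)) = (LP (LK LD1_c16 LD2_c16 LD3_c47)) :=
  Lre_b IH (LK LD1_c26 LD2_c14 LD3_c44) (LK LD1_c16 LD2_c16 LD3_c47) Lrfl Lrfl
theorem f269706 : Led Lsl_ct (LP (LK LD1_c26 LD2_c14 LD3_c44)) = (LP (LK LD1_c26 LD2_c15 LD3_c9)) :=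
  Lgr Lrot64 (Lpr_bt (f269704 IH) (Lpe (f269703 IH) (Lpe (f269702 IH) (Lpr_ct (K16.f269612 IH) (Lpr_gf (K13.f236506 IH) (Lpe (K13.f211127 IH) (Lpe (K13.f238967 IH) (Lpe (K16.f237210 IH) (Lpr_ct (K16.f237211 IH) (Lpe (f269705 IH) (Lpn (LP (LK LD1_c26 LD2_c15 LD3_c9)))))))))))))
theorem f269709 : Led Lsl_cf (LP (LK LD1_c26 LD2_c14 LD3_c44)) = (LP (LK LD1_c26 LD2_c15 LD3_c9)) :=
  Lgr Lrot11 (Lpr_ct (f269706 IH) (Lpn (LP (LK LD1_c26 LD2_c15 LD3_c9))))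
theorem f605721 : Led Lsl_df (LP (LK LD1_c19 LD2_c35 LD3_c56)) = (LP (LK LD1_c26 LD2_c14 LD3_c44)) :=
  Lgr Lrot106 (Lpr_ct (f168469 IH) (Lpr_dt (f168521 IH) (Lpr_ct (f297662 IH) (Lpr_dt (f605715 IH) (Lpe (K31.f390863 IH) (Lpr_af (K31.f389620 IH) (Lpe (K31.f389717 IH) (Lpe (f550063 IH) (Lpe (f269709 IH) (Lpn (LP (LK LD1_c26 LD2_c14 LD3_c44))))))))))))
theorem f236932 : Led Lsl_ct (LP (LK LD1_c10 LD2_c50 LD3_c31)) = (LP (LK LD1_c19 LD2_c35 LD3_c56)) :=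
  Lre_c IH (LK LD1_c10 LD2_c50 LD3_c31) (LK LD1_c19 LD2_c35 LD3_c56) Lrfl Lrfl
theorem f605661 : Led Lsl_ff (LP (LK LD1_c16 LD2_c15 LD3_c31)) = (LP (LK LD1_c19 LD2_c35 LD3_c56)) :=
  Lgr Lrot23 (Lpe (f238516 IH) (Lpr_ft (f605659 IH) (Lpr_ct (f236932 IH) (Lpn (LP (LK LD1_c19 LD2_c35 LD3_c56))))))
theorem f238610 : Led Lsl_dt (LP (LK LD1_c16 LD2_c15 LD3_c31)) = (LP (LK LD1_c26 LD2_c12 LD3_c61)) :=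
  Lre_d IH (LK LD1_c16 LD2_c15 LD3_c31) (LK LD1_c26 LD2_c12 LD3_c61) Lrfl Lrfl
theorem f605786 : Led Lsl_ft (LP (LK LD1_c26 LD2_c12 LD3_c61)) = (LP (LK LD1_c26 LD2_c14 LD3_c44)) :=
  Lgr Lrot54 (Lpe (f238610 IH) (Lpr_ff (f605661 IH) (Lpr_df (f605721 IH) (Lpn (LP (LK LD1_c26 LD2_c14 LD3_c44))))))
theorem f390855 : Led Lsl_ct (LP (LK LD1_c27 LD2_c35 LD3_c42)) = (LP (LK LD1_c19 LD2_c41 LD3_c23)) :=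
  Lgr Lrot40 (Lpe (K31.f389594 IH) (Lpr_cf (K31.f389589 IH) (Lpr_ff (K31.f390847 IH) (Lpn (LP (LK LD1_c19 LD2_c41 LD3_c23))))))
theorem f605723 : Led Lsl_gf (LP (LK LD1_c19 LD2_c35 LD3_c57)) = (LP (LK LD1_c15 LD2_c39 LD3_c53)) :=
  Lgr Lrot172 (Lpr_ct (f297662 IH) (Lpr_dt (f605715 IH) (Lpe (f390855 IH) (Lpe (K31.f389725 IH) (Lpr_cf (K31.f201203 IH) (Lpr_gf (K27.f369168 IH) (Lpr_dt (K27.f369167 IH) (Lpe (f550061 IH) (Lpr_ct (K16.f236718 IH) (Lpn (LP (LK LD1_c15 LD2_c39 LD3_c53))))))))))))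
theorem f261973 : Led Lsl_at (LP (LK LD1_c25 LD2_c27 LD3_c55)) = (LP (LK LD1_c15 LD2_c34 LD3_c11)) :=
  Lre_a IH (LK LD1_c25 LD2_c27 LD3_c55) (LK LD1_c15 LD2_c34 LD3_c11) Lrfl Lrfl
theorem f605727 : Led Lsl_gt (LP (LK LD1_c19 LD2_c35 LD3_c57)) = (LP (LK LD1_c15 LD2_c34 LD3_c11)) :=
  Lgr Lrot46 (Lpr_gf (f605723 IH) (Lpe (K16.f280072 IH) (Lpr_at (f261973 IH) (Lpn (LP (LK LD1_c15 LD2_c34 LD3_c11))))))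
theorem f297598 : Led Lsl_at (LP (LK LD1_c8 LD2_c19 LD3_c56)) = (LP (LK LD1_c15 LD2_c40 LD3_c50)) :=
  Lre_a IH (LK LD1_c8 LD2_c19 LD3_c56) (LK LD1_c15 LD2_c40 LD3_c50) Lrfl Lrfl
theorem f297620 : Led Lsl_at (LP (LK LD1_c25 LD2_c28 LD3_c39)) = (LP (LK LD1_c15 LD2_c34 LD3_c37)) :=
  Lre_a IH (LK LD1_c25 LD2_c28 LD3_c39) (LK LD1_c15 LD2_c34 LD3_c37) Lrfl Lrfl
theorem f297621 : Led Lsl_ft (LP (LK LD1_c15 LD2_c40 LD3_c50)) = (LP (LK LD1_c25 LD2_c28 LD3_c39)) :=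
  Lgr Lrot101 (Lpe (f297598 IH) (Lpr_ff (K18.f297618 IH) (Lpe (f297620 IH) (Lpn (LP (LK LD1_c25 LD2_c28 LD3_c39))))))
theorem f220541 : Led Lsl_at (LP (LK LD1_c15 LD2_c40 LD3_c50)) = (LP (LK LD1_c8 LD2_c19 LD3_c56)) :=
  Lre_a IH (LK LD1_c15 LD2_c40 LD3_c50) (LK LD1_c8 LD2_c19 LD3_c56) Lrfl Lrfl
theorem f297572 : Led Lsl_df (LP (LK LD1_c15 LD2_c40 LD3_c50)) = (LP (LK LD1_c10 LD2_c50 LD3_c32)) :=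
  Lgr Lrot18 (Lpr_at (f220541 IH) (Lpr_dt (K19.f297570 IH) (Lpr_at (K19.f168452 IH) (Lpn (LP (LK LD1_c10 LD2_c50 LD3_c32))))))
theorem f297656 : Led Lsl_ft (LP (LK LD1_c16 LD2_c18 LD3_c61)) = (LP (LK LD1_c10 LD2_c50 LD3_c32)) :=
  Lgr Lrot54 (Lpr_df (K19.f297629 IH) (Lpe (f297621 IH) (Lpr_df (f297572 IH) (Lpn (LP (LK LD1_c10 LD2_c50 LD3_c32))))))
theorem f168460 : Led Lsl_at (LP (LK LD1_c10 LD2_c50 LD3_c32)) = (LP (LK LD1_c5 LD2_c29 LD3_c38)) :=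
  Lre_a IH (LK LD1_c10 LD2_c50 LD3_c32) (LK LD1_c5 LD2_c29 LD3_c38) Lrfl Lrfl
theorem f297659 : Led Lsl_gt (LP (LK LD1_c16 LD2_c18 LD3_c61)) = (LP (LK LD1_c10 LD2_c50 LD3_c31)) :=
  Lgr Lrot5 (Lpr_ft (f297656 IH) (Lpr_at (f168460 IH) (Lpe (f168468 IH) (Lpn (LP (LK LD1_c10 LD2_c50 LD3_c31))))))
theorem f297545 : Led Lsl_ct (LP (LK LD1_c16 LD2_c18 LD3_c61)) = (LP (LK LD1_c8 LD2_c42 LD3_c41)) :=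
  Lre_c IH (LK LD1_c16 LD2_c18 LD3_c61) (LK LD1_c8 LD2_c42 LD3_c41) Lrfl Lrfl
theorem f297543 : Led Lsl_gt (LP (LK LD1_c9 LD2_c44 LD3_c49)) = (LP (LK LD1_c8 LD2_c42 LD3_c41)) :=
  Lgr Lrot46 (Lpe (K38.f168461 IH) (Lpr_ft (K18.f297525 IH) (Lpr_at (K19.f297532 IH) (Lpn (LP (LK LD1_c8 LD2_c42 LD3_c41))))))
theorem f400942 : Led Lsl_gt (LP (LK LD1_c8 LD2_c42 LD3_c41)) = (LP (LK LD1_c9 LD2_c44 LD3_c50)) :=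
  Lgr Lrot46 (Lpe (f297543 IH) (Lpr_ft (K38.f400933 IH) (Lpe (K38.f400898 IH) (Lpn (LP (LK LD1_c9 LD2_c44 LD3_c50))))))
theorem f279920 : Led Lsl_dt (LP (LK LD1_c15 LD2_c34 LD3_c11)) = (LP (LK LD1_c8 LD2_c16 LD3_c48)) :=
  Lre_d IH (LK LD1_c15 LD2_c34 LD3_c11) (LK LD1_c8 LD2_c16 LD3_c48) Lrfl Lrfl
theorem f237698 : Led Lsl_gt (LP (LK LD1_c16 LD2_c17 LD3_c14)) = (LP (LK LD1_c8 LD2_c41 LD3_c48)) :=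
  Lre_g IH (LK LD1_c16 LD2_c17 LD3_c14) (LK LD1_c8 LD2_c41 LD3_c48) Lrfl Lrfl
theorem f605736 : Led Lsl_dt (LP (LK LD1_c9 LD2_c44 LD3_c50)) = (LP (LK LD1_c16 LD2_c17 LD3_c14)) :=
  Lgr Lrot57 (Lpe (f400942 IH) (Lpe (f297545 IH) (Lpr_gt (f297659 IH) (Lpr_dt (f168521 IH) (Lpr_gt (f605727 IH) (Lpr_dt (f279920 IH) (Lpe (K16.f279909 IH) (Lpe (K38.f263778 IH) (Lpe (f237698 IH) (Lpn (LP (LK LD1_c16 LD2_c17 LD3_c14))))))))))))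
theorem f400900 : Led Lsl_af (LP (LK LD1_c15 LD2_c35 LD3_c28)) = (LP (LK LD1_c16 LD2_c19 LD3_c4)) :=
  Lgr Lrot68 (Lpr_ct (K38.f220342 IH) (Lpr_at (K38.f400896 IH) (Lpr_ct (K38.f232276 IH) (Lpn (LP (LK LD1_c16 LD2_c19 LD3_c4))))))
theorem f400959 : Led Lsl_gt (LP (LK LD1_c17 LD2_c53 LD3_c59)) = (LP (LK LD1_c25 LD2_c29 LD3_c37)) :=
  Lgr Lrot5 (Lpr_ft (K38.f400951 IH) (Lpe (f400900 IH) (Lpe (K38.f220344 IH) (Lpn (LP (LK LD1_c25 LD2_c29 LD3_c37))))))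
theorem f196967 : Led Lsl_bt (LP (LK LD1_c2 LD2_c45 LD3_c39)) = (LP (LK LD1_c5 LD2_c39 LD3_c21)) :=
  Lre_b IH (LK LD1_c2 LD2_c45 LD3_c39) (LK LD1_c5 LD2_c39 LD3_c21) Lrfl Lrfl
theorem f178422 : Led Lsl_gt (LP (LK LD1_c11 LD2_c9 LD3_c44)) = (LP (LK LD1_c5 LD2_c39 LD3_c21)) :=
  Lre_g IH (LK LD1_c11 LD2_c9 LD3_c44) (LK LD1_c5 LD2_c39 LD3_c21) Lrfl Lrfl
theorem f216431 : Led Lsl_bt (LP (LK LD1_c20 LD2_c4 LD3_c12)) = (LP (LK LD1_c11 LD2_c9 LD3_c44)) :=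
  Lre_b IH (LK LD1_c20 LD2_c4 LD3_c12) (LK LD1_c11 LD2_c9 LD3_c44) Lrfl Lrfl
theorem f400963 : Led Lsl_ct (LP (LK LD1_c20 LD2_c4 LD3_c12)) = (LP (LK LD1_c25 LD2_c29 LD3_c37)) :=
  Lgr Lrot63 (Lpr_bt (f216431 IH) (Lpr_gt (f178422 IH) (Lpe (f196967 IH) (Lpr_ct (K16.f179540 IH) (Lpr_gt (K12.f216419 IH) (Lpe (K13.f168359 IH) (Lpr_bt (K19.f168455 IH) (Lpr_gt (K38.f168461 IH) (Lpr_ct (K38.f168519 IH) (Lpr_gt (f400959 IH) (Lpn (LP (LK LD1_c25 LD2_c29 LD3_c37)))))))))))))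
theorem f309272 : Led Lsl_ct (LP (LK LD1_c8 LD2_c32 LD3_c50)) = (LP (LK LD1_c7 LD2_c56 LD3_c3)) :=
  Lgr Lrot40 (Lpr_ff (K19.f309265 IH) (Lpe (K19.f309107 IH) (Lpr_ff (K17.f230397 IH) (Lpn (LP (LK LD1_c7 LD2_c56 LD3_c3))))))
theorem f167212 : Led Lsl_bt (LP (LK LD1_c4 LD2_c10 LD3_c46)) = (LP (LK LD1_c2 LD2_c2 LD3_c38)) :=
  Lre_b IH (LK LD1_c4 LD2_c10 LD3_c46) (LK LD1_c2 LD2_c2 LD3_c38) Lrfl Lrfl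
theorem f170915 : Led Lsl_ct (LP (LK LD1_c8 LD2_c21 LD3_c43)) = (LP (LK LD1_c4 LD2_c10 LD3_c54)) :=
  Lre_c IH (LK LD1_c8 LD2_c21 LD3_c43) (LK LD1_c4 LD2_c10 LD3_c54) Lrfl Lrfl
theorem f252056 : Led Lsl_bt (LP (LK LD1_c8 LD2_c21 LD3_c43)) = (LP (LK LD1_c15 LD2_c44 LD3_c12)) :=
  Lre_b IH (LK LD1_c8 LD2_c21 LD3_c43) (LK LD1_c15 LD2_c44 LD3_c12) Lrfl Lrfl
theorem f404956 : Led Lsl_gt (LP (LK LD1_c16 LD2_c2 LD3_c47)) = (LP (LK LD1_c15 LD2_c44 LD3_c12)) :=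
  Lgr Lrot164 (Lpe (K19.f309269 IH) (Lpr_ct (f309272 IH) (Lpe (K17.f287714 IH) (Lpe (K14.f252043 IH) (Lpe (K14.f170893 IH) (Lpe (f167212 IH) (Lpr_ct (K50.f167213 IH) (Lpe (K50.f167221 IH) (Lpe (f170915 IH) (Lpr_bt (f252056 IH) (Lpn (LP (LK LD1_c15 LD2_c44 LD3_c12)))))))))))))
theorem f309109 : Led Lsl_bt (LP (LK LD1_c10 LD2_c38 LD3_c30)) = (LP (LK LD1_c5 LD2_c23 LD3_c57)) :=
  Lre_b IH (LK LD1_c10 LD2_c38 LD3_c30) (LK LD1_c5 LD2_c23 LD3_c57) Lrfl Lrfl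
theorem f309270 : Led Lsl_ft (LP (LK LD1_c16 LD2_c2 LD3_c47)) = (LP (LK LD1_c10 LD2_c38 LD3_c30)) :=
  Lgr Lrot75 (Lpe (K19.f309269 IH) (Lpr_ff (K19.f309265 IH) (Lpe (f309109 IH) (Lpn (LP (LK LD1_c10 LD2_c38 LD3_c30))))))
theorem f404958 : Led Lsl_gf (LP (LK LD1_c19 LD2_c16 LD3_c46)) = (LP (LK LD1_c15 LD2_c44 LD3_c12)) :=
  Lgr Lrot76 (Lpe (K19.f309212 IH) (Lpe (f309270 IH) (Lpr_gt (f404956 IH) (Lpn (LP (LK LD1_c15 LD2_c44 LD3_c12))))))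
theorem f167233 : Led Lsl_ct (LP (LK LD1_c25 LD2_c40 LD3_c37)) = (LP (LK LD1_c15 LD2_c44 LD3_c12)) :=
  Lre_c IH (LK LD1_c25 LD2_c40 LD3_c37) (LK LD1_c15 LD2_c44 LD3_c12) Lrfl Lrfl
theorem f167232 : Led Lsl_bt (LP (LK LD1_c25 LD2_c40 LD3_c37)) = (LP (LK LD1_c15 LD2_c44 LD3_c11)) :=
  Lre_b IH (LK LD1_c25 LD2_c40 LD3_c37) (LK LD1_c15 LD2_c44 LD3_c11) Lrfl Lrfl
theorem f167222 : Led Lsl_bt (LP (LK LD1_c8 LD2_c21 LD3_c42)) = (LP (LK LD1_c4 LD2_c10 LD3_c54)) :=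
  Lre_b IH (LK LD1_c8 LD2_c21 LD3_c42) (LK LD1_c4 LD2_c10 LD3_c54) Lrfl Lrfl
theorem f167223 : Led Lsl_ct (LP (LK LD1_c8 LD2_c21 LD3_c42)) = (LP (LK LD1_c15 LD2_c44 LD3_c11)) :=
  Lre_c IH (LK LD1_c8 LD2_c21 LD3_c42) (LK LD1_c15 LD2_c44 LD3_c11) Lrfl Lrfl
theorem f167224 : Led Lsl_gt (LP (LK LD1_c15 LD2_c43 LD3_c5)) = (LP (LK LD1_c15 LD2_c44 LD3_c11)) :=
  Lgr Lrot149 (Lpe (K38.f167220 IH) (Lpe (K38.f167219 IH) (Lpe (K38.f167218 IH) (Lpr_ct (K9.f53442 IH) (Lpr_gf (K9.f167080 IH) (Lpe (K9.f53461 IH) (Lpr_bt (K49.f53462 IH) (Lpe (K50.f167221 IH) (Lpe (f167222 IH) (Lpr_ct (f167223 IH) (Lpn (LP (LK LD1_c15 LD2_c44 LD3_c11)))))))))))))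
theorem f220441 : Led Lsl_bf (LP (LK LD1_c15 LD2_c43 LD3_c5)) = (LP (LK LD1_c25 LD2_c29 LD3_c37)) :=
  Lgr Lrot24 (Lpr_bt (K38.f220345 IH) (Lpn (LP (LK LD1_c25 LD2_c29 LD3_c37))))
theorem f398440 : Led Lsl_ct (LP (LK LD1_c17 LD2_c54 LD3_c3)) = (LP (LK LD1_c17 LD2_c48 LD3_c5)) :=
  Lgr Lrot83 (Lpr_bf (K31.f398434 IH) (Lpe (K31.f218769 IH) (Lpe (K22.f218768 IH) (Lpe (K12.f218761 IH) (Lpe (K39.f218765 IH) (Lpn (LP (LK LD1_c17 LD2_c48 LD3_c5))))))))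
theorem f218776 : Led Lsl_gt (LP (LK LD1_c17 LD2_c48 LD3_c5)) = (LP (LK LD1_c27 LD2_c35 LD3_c24)) :=
  Lre_g IH (LK LD1_c17 LD2_c48 LD3_c5) (LK LD1_c27 LD2_c35 LD3_c24) Lrfl Lrfl
theorem f398442 : Led Lsl_dt (LP (LK LD1_c17 LD2_c54 LD3_c3)) = (LP (LK LD1_c14 LD2_c57 LD3_c40)) :=
  Lgr Lrot79 (Lpr_bf (K31.f398434 IH) (Lpe (K38.f397081 IH) (Lpr_bf (K30.f260565 IH) (Lpn (LP (LK LD1_c14 LD2_c57 LD3_c40))))))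
theorem f400190 : Led Lsl_af (LP (LK LD1_c17 LD2_c54 LD3_c3)) = (LP (LK LD1_c16 LD2_c17 LD3_c11)) :=
  Lgr Lrot117 (Lpr_dt (f398442 IH) (Lpr_at (K30.f397101 IH) (Lpr_dt (K38.f279922 IH) (Lpn (LP (LK LD1_c16 LD2_c17 LD3_c11))))))
theorem f168464 : Led Lsl_gt (LP (LK LD1_c17 LD2_c54 LD3_c4)) = (LP (LK LD1_c9 LD2_c44 LD3_c52)) :=
  Lre_g IH (LK LD1_c17 LD2_c54 LD3_c4) (LK LD1_c9 LD2_c44 LD3_c52) Lrfl Lrfl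
theorem f400194 : Led Lsl_ft (LP (LK LD1_c17 LD2_c54 LD3_c4)) = (LP (LK LD1_c16 LD2_c17 LD3_c11)) :=
  Lgr Lrot2 (Lpr_gt (f168464 IH) (Lpr_gt (K31.f220458 IH) (Lpr_af (f400190 IH) (Lpn (LP (LK LD1_c16 LD2_c17 LD3_c11))))))
theorem f400200 : Led Lsl_cf (LP (LK LD1_c17 LD2_c54 LD3_c4)) = (LP (LK LD1_c17 LD2_c50 LD3_c18)) :=
  Lgr Lrot108 (Lpr_ft (f400194 IH) (Lpr_ct (K38.f280101 IH) (Lpe (K38.f397127 IH) (Lpn (LP (LK LD1_c17 LD2_c50 LD3_c18))))))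
theorem f188716 : Led Lsl_dt (LP (LK LD1_c9 LD2_c40 LD3_c36)) = (LP (LK LD1_c17 LD2_c48 LD3_c5)) :=
  Lre_d IH (LK LD1_c9 LD2_c40 LD3_c36) (LK LD1_c17 LD2_c48 LD3_c5) Lrfl Lrfl
theorem f263754 : Led Lsl_dt (LP (LK LD1_c9 LD2_c41 LD3_c56)) = (LP (LK LD1_c4 LD2_c55 LD3_c11)) :=
  Lre_d IH (LK LD1_c9 LD2_c41 LD3_c56) (LK LD1_c4 LD2_c55 LD3_c11) Lrfl Lrfl
theorem f349202 : Led Lsl_ft (LP (LK LD1_c17 LD2_c48 LD3_c5)) = (LP (LK LD1_c9 LD2_c41 LD3_c56)) :=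
  Lgr Lrot54 (Lpe (f188716 IH) (Lpr_ff (K26.f349188 IH) (Lpe (f263754 IH) (Lpn (LP (LK LD1_c9 LD2_c41 LD3_c56))))))
theorem f263772 : Led Lsl_at (LP (LK LD1_c9 LD2_c41 LD3_c56)) = (LP (LK LD1_c17 LD2_c50 LD3_c18)) :=
  Lre_a IH (LK LD1_c9 LD2_c41 LD3_c56) (LK LD1_c17 LD2_c50 LD3_c18) Lrfl Lrfl
theorem f349210 : Led Lsl_gt (LP (LK LD1_c27 LD2_c35 LD3_c24)) = (LP (LK LD1_c17 LD2_c50 LD3_c18)) :=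
  Lgr Lrot46 (Lpe (f218776 IH) (Lpr_ft (f349202 IH) (Lpr_at (f263772 IH) (Lpn (LP (LK LD1_c17 LD2_c50 LD3_c18))))))
theorem f400238 : Led Lsl_dt (LP (LK LD1_c17 LD2_c48 LD3_c14)) = (LP (LK LD1_c27 LD2_c35 LD3_c24)) :=
  Lgr Lrot6 (Lpr_gt (K27.f369161 IH) (Lpr_ct (K27.f369166 IH) (Lpe (K27.f369168 IH) (Lpe (K31.f201203 IH) (Lpe (K31.f297454 IH) (Lpe (K19.f168516 IH) (Lpe (f168464 IH) (Lpr_cf (f400200 IH) (Lpe (f349210 IH) (Lpn (LP (LK LD1_c27 LD2_c35 LD3_c24))))))))))))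
theorem f2273 : Led Lsl_ft (LP (LK LD1_c4 LD2_c52 LD3_c40)) = (LP (LK LD1_c2 LD2_c24 LD3_c23)) :=
  Lgr Lrot4 (Lpe (K30.f2271 IH) (Lpr_ff (K0.f2266 IH) (Lpe (K27.f2272 IH) (Lpn (LP (LK LD1_c2 LD2_c24 LD3_c23))))))
theorem f30245 : Led Lsl_df (LP (LK LD1_c4 LD2_c52 LD3_c40)) = (LP (LK LD1_c8 LD2_c1 LD3_c59)) :=
  Lgr Lrot78 (Lpr_ft (f2273 IH) (Lpr_dt (K20.f2559 IH) (Lpr_ft (K35.f30237 IH) (Lpn (LP (LK LD1_c8 LD2_c1 LD3_c59))))))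
theorem f30280 : Led Lsl_gt (LP (LK LD1_c15 LD2_c7 LD3_c35)) = (LP (LK LD1_c8 LD2_c1 LD3_c59)) :=
  Lre_g IH (LK LD1_c15 LD2_c7 LD3_c35) (LK LD1_c8 LD2_c1 LD3_c59) Lrfl Lrfl
theorem f30427 : Led Lsl_bt (LP (LK LD1_c24 LD2_c56 LD3_c23)) = (LP (LK LD1_c15 LD2_c7 LD3_c35)) :=
  Lre_b IH (LK LD1_c24 LD2_c56 LD3_c23) (LK LD1_c15 LD2_c7 LD3_c35) Lrfl Lrfl
theorem f400242 : Led Lsl_cf (LP (LK LD1_c24 LD2_c56 LD3_c23)) = (LP (LK LD1_c27 LD2_c35 LD3_c24)) :=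
  Lgr Lrot89 (Lpr_bt (f30427 IH) (Lpr_gt (f30280 IH) (Lpe (f30245 IH) (Lpr_ct (K20.f2165 IH) (Lpr_bt (K0.f2164 IH) (Lpe (K9.f170917 IH) (Lpr_dt (K9.f170941 IH) (Lpr_ct (K9.f170610 IH) (Lpr_bt (K15.f170943 IH) (Lpr_gt (K14.f170944 IH) (Lpe (K14.f182260 IH) (Lpe (K14.f253992 IH) (Lpr_bt (K18.f254016 IH) (Lpr_gt (K20.f252103 IH) (Lpr_dt (K20.f258302 IH) (Lpr_ct (K12.f41229 IH) (Lpr_bt (K22.f201131 IH) (Lpr_gt (K27.f201173 IH) (Lpr_dt (f400238 IH) (Lpn (LP (LK LD1_c27 LD2_c35 LD3_c24))))))))))))))))))))))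
theorem f30599 : Led Lsl_ct (LP (LK LD1_c4 LD2_c52 LD3_c33)) = (LP (LK LD1_c9 LD2_c37 LD3_c18)) :=
  Lre_c IH (LK LD1_c4 LD2_c52 LD3_c33) (LK LD1_c9 LD2_c37 LD3_c18) Lrfl Lrfl
theorem f30594 : Led Lsl_dt (LP (LK LD1_c9 LD2_c37 LD3_c18)) = (LP (LK LD1_c17 LD2_c42 LD3_c56)) :=
  Lre_d IH (LK LD1_c9 LD2_c37 LD3_c18) (LK LD1_c17 LD2_c42 LD3_c56) Lrfl Lrfl
theorem f30587 : Led Lsl_dt (LP (LK LD1_c4 LD2_c52 LD3_c32)) = (LP (LK LD1_c9 LD2_c37 LD3_c15)) :=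
  Lre_d IH (LK LD1_c4 LD2_c52 LD3_c32) (LK LD1_c9 LD2_c37 LD3_c15) Lrfl Lrfl
theorem f30589 : Led Lsl_dt (LP (LK LD1_c17 LD2_c42 LD3_c56)) = (LP (LK LD1_c9 LD2_c37 LD3_c18)) :=
  Lre_d IH (LK LD1_c17 LD2_c42 LD3_c56) (LK LD1_c9 LD2_c37 LD3_c18) Lrfl Lrfl
theorem f30590 : Led Lsl_cf (LP (LK LD1_c17 LD2_c42 LD3_c56)) = (LP (LK LD1_c24 LD2_c56 LD3_c3)) :=
  Lgr Lrot118 (Lpr_dt (f30589 IH) (Lpr_ct (f30588 IH) (Lpr_dt (K49.f2349 IH) (Lpr_ct (K49.f2360 IH) (Lpr_dt (f30587 IH) (Lpr_ct (K49.f30586 IH) (Lpe (K49.f30585 IH) (Lpe (K49.f30584 IH) (Lpr_dt (f30573 IH) (Lpn (LP (LK LD1_c24 LD2_c56 LD3_c3))))))))))))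
theorem f397228 : Led Lsl_df (LP (LK LD1_c11 LD2_c9 LD3_c44)) = (LP (LK LD1_c15 LD2_c7 LD3_c35)) :=
  Lgr Lrot155 (Lpr_gt (f178422 IH) (Lpr_ct (K38.f178420 IH) (Lpr_gt (K49.f397222 IH) (Lpr_ct (f30599 IH) (Lpr_dt (f30594 IH) (Lpr_cf (f30590 IH) (Lpe (f30301 IH) (Lpe (K39.f30242 IH) (Lpe (f30280 IH) (Lpn (LP (LK LD1_c15 LD2_c7 LD3_c35))))))))))))
theorem f397234 : Led Lsl_bt (LP (LK LD1_c11 LD2_c9 LD3_c44)) = (LP (LK LD1_c20 LD2_c4 LD3_c12)) :=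
  Lre_b IH (LK LD1_c11 LD2_c9 LD3_c44) (LK LD1_c20 LD2_c4 LD3_c12) Lrfl Lrfl
theorem f397235 : Led Lsl_dt (LP (LK LD1_c20 LD2_c4 LD3_c12)) = (LP (LK LD1_c24 LD2_c56 LD3_c23)) :=
  Lgr Lrot79 (Lpe (f397234 IH) (Lpr_df (f397228 IH) (Lpe (f30427 IH) (Lpn (LP (LK LD1_c24 LD2_c56 LD3_c23))))))
theorem f397238 : Led Lsl_df (LP (LK LD1_c20 LD2_c4 LD3_c12)) = (LP (LK LD1_c24 LD2_c56 LD3_c23)) :=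
  Lgr Lrot38 (Lpr_dt (f397235 IH) (Lpn (LP (LK LD1_c24 LD2_c56 LD3_c23))))
theorem f400961 : Led Lsl_cf (LP (LK LD1_c20 LD2_c4 LD3_c12)) = (LP (LK LD1_c25 LD2_c29 LD3_c37)) :=
  Lgr Lrot99 (Lpr_df (f397238 IH) (Lpr_cf (f400242 IH) (Lpe (f218776 IH) (Lpe (f398440 IH) (Lpe (K31.f220458 IH) (Lpe (K18.f168515 IH) (Lpr_gt (K38.f168461 IH) (Lpr_ct (K38.f168519 IH) (Lpr_gt (f400959 IH) (Lpn (LP (LK LD1_c25 LD2_c29 LD3_c37))))))))))))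
theorem f238605 : Led Lsl_ct (LP (LK LD1_c16 LD2_c18 LD3_c60)) = (LP (LK LD1_c16 LD2_c15 LD3_c31)) :=
  Lgr Lrot59 (Lpr_cf (f238516 IH) (Lpn (LP (LK LD1_c16 LD2_c15 LD3_c31))))
theorem f406882 : Led Lsl_gf (LP (LK LD1_c20 LD2_c4 LD3_c12)) = (LP (LK LD1_c16 LD2_c15 LD3_c31)) :=
  Lgr Lrot129 (Lpr_cf (f400961 IH) (Lpe (f220441 IH) (Lpr_gt (f167224 IH) (Lpe (f167232 IH) (Lpr_ct (f167233 IH) (Lpe (f404958 IH) (Lpr_cf (K19.f309395 IH) (Lpr_bt (K19.f168473 IH) (Lpr_gt (f406880 IH) (Lpr_ct (f238605 IH) (Lpn (LP (LK LD1_c16 LD2_c15 LD3_c31)))))))))))))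
theorem f400240 : Led Lsl_df (LP (LK LD1_c17 LD2_c48 LD3_c14)) = (LP (LK LD1_c27 LD2_c35 LD3_c24)) :=
  Lgr Lrot155 (Lpr_gt (K27.f369161 IH) (Lpr_ct (K27.f369166 IH) (Lpe (K27.f369168 IH) (Lpe (K31.f201203 IH) (Lpe (K18.f297452 IH) (Lpe (K19.f168516 IH) (Lpe (f168464 IH) (Lpr_cf (f400200 IH) (Lpe (f349210 IH) (Lpn (LP (LK LD1_c27 LD2_c35 LD3_c24))))))))))))
theorem f369165 : Led Lsl_dt (LP (LK LD1_c9 LD2_c42 LD3_c32)) = (LP (LK LD1_c17 LD2_c51 LD3_c17)) :=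
  Lre_d IH (LK LD1_c9 LD2_c42 LD3_c32) (LK LD1_c17 LD2_c51 LD3_c17) Lrfl Lrfl
theorem f605749 : Led Lsl_ct (LP (LK LD1_c17 LD2_c51 LD3_c17)) = (LP (LK LD1_c16 LD2_c17 LD3_c14)) :=
  Lgr Lrot7 (Lpe (f369165 IH) (Lpe (K27.f369161 IH) (Lpr_df (f400240 IH) (Lpe (f218776 IH) (Lpe (f398440 IH) (Lpr_gt (K31.f297510 IH) (Lpr_dt (K19.f297550 IH) (Lpr_gt (f400942 IH) (Lpr_dt (f605736 IH) (Lpn (LP (LK LD1_c16 LD2_c17 LD3_c14))))))))))))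
theorem f238934 : Led Lsl_bt (LP (LK LD1_c5 LD2_c39 LD3_c22)) = (LP (LK LD1_c11 LD2_c9 LD3_c46)) :=
  Lre_b IH (LK LD1_c5 LD2_c39 LD3_c22) (LK LD1_c11 LD2_c9 LD3_c46) Lrfl Lrfl
theorem f550045 : Led Lsl_ct (LP (LK LD1_c16 LD2_c17 LD3_c13)) = (LP (LK LD1_c17 LD2_c48 LD3_c16)) :=
  Lgr Lrot59 (Lpr_cf (K38.f550043 IH) (Lpn (LP (LK LD1_c17 LD2_c48 LD3_c16))))
theorem f399313 : Led Lsl_bt (LP (LK LD1_c17 LD2_c44 LD3_c20)) = (LP (LK LD1_c9 LD2_c38 LD3_c20)) :=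
  Lre_b IH (LK LD1_c17 LD2_c44 LD3_c20) (LK LD1_c9 LD2_c38 LD3_c20) Lrfl Lrfl
theorem f550862 : Led Lsl_cf (LP (LK LD1_c17 LD2_c50 LD3_c16)) = (LP (LK LD1_c17 LD2_c44 LD3_c20)) :=
  Lgr Lrot163 (Lpr_gf (K38.f550051 IH) (Lpe (f550045 IH) (Lpe (K38.f237625 IH) (Lpe (K16.f237615 IH) (Lpe (K13.f237618 IH) (Lpr_gf (K13.f238944 IH) (Lpe (K13.f238938 IH) (Lpr_bt (f238934 IH) (Lpr_gf (K38.f550854 IH) (Lpe (f399313 IH) (Lpn (LP (LK LD1_c17 LD2_c44 LD3_c20)))))))))))))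
theorem f605751 : Led Lsl_gt (LP (LK LD1_c26 LD2_c12 LD3_c61)) = (LP (LK LD1_c17 LD2_c44 LD3_c20)) :=
  Lgr Lrot146 (Lpr_dt (f238607 IH) (Lpe (f406882 IH) (Lpr_ct (f400963 IH) (Lpr_gt (K38.f220344 IH) (Lpr_ct (K38.f220342 IH) (Lpr_dt (f605736 IH) (Lpe (f605749 IH) (Lpe (K38.f550053 IH) (Lpr_cf (f550862 IH) (Lpn (LP (LK LD1_c17 LD2_c44 LD3_c20))))))))))))
theorem f550867 : Led Lsl_gt (LP (LK LD1_c17 LD2_c44 LD3_c20)) = (LP (LK LD1_c27 LD2_c31 LD3_c4)) :=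
  Lre_g IH (LK LD1_c17 LD2_c44 LD3_c20) (LK LD1_c27 LD2_c31 LD3_c4) Lrfl Lrfl
theorem f605794 : Led Lsl_af (LP (LK LD1_c27 LD2_c31 LD3_c4)) = (LP (LK LD1_c26 LD2_c14 LD3_c44)) :=
  Lgr Lrot31 (Lpe (f550867 IH) (Lpe (f605751 IH) (Lpr_ft (f605786 IH) (Lpn (LP (LK LD1_c26 LD2_c14 LD3_c44))))))
theorem f605784 : Led Lsl_dt (LP (LK LD1_c19 LD2_c35 LD3_c56)) = (LP (LK LD1_c26 LD2_c14 LD3_c44)) :=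
  Lgr Lrot42 (Lpr_df (f605721 IH) (Lpn (LP (LK LD1_c26 LD2_c14 LD3_c44))))
theorem f234561 : Led Lsl_ct (LP (LK LD1_c16 LD2_c18 LD3_c59)) = (LP (LK LD1_c26 LD2_c16 LD3_c46)) :=
  Lre_c IH (LK LD1_c16 LD2_c18 LD3_c59) (LK LD1_c26 LD2_c16 LD3_c46) Lrfl Lrfl
theorem f605670 : Led Lsl_at (LP (LK LD1_c26 LD2_c16 LD3_c46)) = (LP (LK LD1_c19 LD2_c35 LD3_c56)) :=
  Lgr Lrot107 (Lpe (f234561 IH) (Lpr_af (f605666 IH) (Lpe (f168469 IH) (Lpn (LP (LK LD1_c19 LD2_c35 LD3_c56))))))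
theorem f605798 : Led Lsl_dt (LP (LK LD1_c27 LD2_c31 LD3_c4)) = (LP (LK LD1_c26 LD2_c16 LD3_c46)) :=
  Lgr Lrot44 (Lpr_af (f605794 IH) (Lpe (f605784 IH) (Lpe (f605670 IH) (Lpn (LP (LK LD1_c26 LD2_c16 LD3_c46))))))
theorem f550866 : Led Lsl_dt (LP (LK LD1_c9 LD2_c38 LD3_c19)) = (LP (LK LD1_c17 LD2_c44 LD3_c20)) :=
  Lre_d IH (LK LD1_c9 LD2_c38 LD3_c19) (LK LD1_c17 LD2_c44 LD3_c20) Lrfl Lrfl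
theorem f605680 : Led Lsl_df (LP (LK LD1_c16 LD2_c18 LD3_c59)) = (LP (LK LD1_c15 LD2_c39 LD3_c55)) :=
  Lgr Lrot78 (Lpr_ft (f605674 IH) (Lpr_dt (f168463 IH) (Lpe (f605567 IH) (Lpn (LP (LK LD1_c15 LD2_c39 LD3_c55))))))
theorem f190906 : Led Lsl_gt (LP (LK LD1_c8 LD2_c19 LD3_c33)) = (LP (LK LD1_c4 LD2_c9 LD3_c44)) :=
  Lre_g IH (LK LD1_c8 LD2_c19 LD3_c33) (LK LD1_c4 LD2_c9 LD3_c44) Lrfl Lrfl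
theorem f236685 : Led Lsl_ct (LP (LK LD1_c15 LD2_c39 LD3_c50)) = (LP (LK LD1_c8 LD2_c19 LD3_c33)) :=
  Lre_c IH (LK LD1_c15 LD2_c39 LD3_c50) (LK LD1_c8 LD2_c19 LD3_c33) Lrfl Lrfl
theorem f605802 : Led Lsl_gf (LP (LK LD1_c9 LD2_c38 LD3_c19)) = (LP (LK LD1_c15 LD2_c39 LD3_c50)) :=
  Lgr Lrot144 (Lpr_dt (f550866 IH) (Lpr_gt (f550867 IH) (Lpr_dt (f605798 IH) (Lpe (f234561 IH) (Lpr_df (f605680 IH) (Lpe (f213185 IH) (Lpe (K16.f213223 IH) (Lpe (f190906 IH) (Lpe (f236685 IH) (Lpn (LP (LK LD1_c15 LD2_c39 LD3_c50))))))))))))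
theorem f229279 : Led Lsl_gt (LP (LK LD1_c4 LD2_c53 LD3_c3)) = (LP (LK LD1_c9 LD2_c37 LD3_c61)) :=
  Lre_g IH (LK LD1_c4 LD2_c53 LD3_c3) (LK LD1_c9 LD2_c37 LD3_c61) Lrfl Lrfl
theorem f236686 : Led Lsl_bt (LP (LK LD1_c15 LD2_c39 LD3_c50)) = (LP (LK LD1_c9 LD2_c37 LD3_c61)) :=
  Lgr Lrot92 (Lpr_ct (f236685 IH) (Lpr_gt (f190906 IH) (Lpr_cf (K16.f236670 IH) (Lpr_bt (K16.f39274 IH) (Lpr_gt (K12.f39271 IH) (Lpr_ct (K12.f43103 IH) (Lpr_gt (K12.f31136 IH) (Lpr_cf (K12.f229262 IH) (Lpr_bt (K30.f229276 IH) (Lpr_gt (f229279 IH) (Lpn (LP (LK LD1_c9 LD2_c37 LD3_c61)))))))))))))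
theorem f236688 : Led Lsl_bf (LP (LK LD1_c15 LD2_c39 LD3_c50)) = (LP (LK LD1_c9 LD2_c37 LD3_c61)) :=
  Lgr Lrot24 (Lpr_bt (f236686 IH) (Lpn (LP (LK LD1_c9 LD2_c37 LD3_c61))))
theorem f229280 : Led Lsl_ct (LP (LK LD1_c9 LD2_c37 LD3_c61)) = (LP (LK LD1_c17 LD2_c43 LD3_c38)) :=
  Lre_c IH (LK LD1_c9 LD2_c37 LD3_c61) (LK LD1_c17 LD2_c43 LD3_c38) Lrfl Lrfl
theorem f1974 : Led Lsl_gt (LP (LK LD1_c9 LD2_c33 LD3_c60)) = (LP (LK LD1_c17 LD2_c36 LD3_c53)) :=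
  Lre_g IH (LK LD1_c9 LD2_c33 LD3_c60) (LK LD1_c17 LD2_c36 LD3_c53) Lrfl Lrfl
theorem f29839 : Led Lsl_bt (LP (LK LD1_c17 LD2_c36 LD3_c56)) = (LP (LK LD1_c27 LD2_c25 LD3_c6)) :=
  Lre_b IH (LK LD1_c17 LD2_c36 LD3_c56) (LK LD1_c27 LD2_c25 LD3_c6) Lrfl Lrfl
theorem f421828 : Led Lsl_bt (LP (LK LD1_c16 LD2_c6 LD3_c47)) = (LP (LK LD1_c8 LD2_c35 LD3_c21)) :=
  Lre_b IH (LK LD1_c16 LD2_c6 LD3_c47) (LK LD1_c8 LD2_c35 LD3_c21) Lrfl Lrfl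
theorem f421829 : Led Lsl_bt (LP (LK LD1_c4 LD2_c18 LD3_c16)) = (LP (LK LD1_c8 LD2_c35 LD3_c20)) :=
  Lre_b IH (LK LD1_c4 LD2_c18 LD3_c16) (LK LD1_c8 LD2_c35 LD3_c20) Lrfl Lrfl
theorem f421776 : Led Lsl_ct (LP (LK LD1_c8 LD2_c35 LD3_c20)) = (LP (LK LD1_c16 LD2_c6 LD3_c46)) :=
  Lre_c IH (LK LD1_c8 LD2_c35 LD3_c20) (LK LD1_c16 LD2_c6 LD3_c46) Lrfl Lrfl
theorem f421830 : Led Lsl_bf (LP (LK LD1_c24 LD2_c45 LD3_c27)) = (LP (LK LD1_c16 LD2_c6 LD3_c46)) :=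
  Lgr Lrot90 (Lpr_ct (K49.f421826 IH) (Lpr_bt (f421828 IH) (Lpr_ct (K49.f421819 IH) (Lpr_bt (f421829 IH) (Lpr_ct (f421776 IH) (Lpn (LP (LK LD1_c16 LD2_c6 LD3_c46))))))))
theorem f421836 : Led Lsl_ct (LP (LK LD1_c16 LD2_c6 LD3_c46)) = (LP (LK LD1_c8 LD2_c35 LD3_c20)) :=
  Lre_c IH (LK LD1_c16 LD2_c6 LD3_c46) (LK LD1_c8 LD2_c35 LD3_c20) Lrfl Lrfl
theorem f718461 : Led Lsl_gf (LP (LK LD1_c8 LD2_c35 LD3_c20)) = v13989 :=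
  Lgr Lrot129 (Lpe (f421836 IH) (Lpe (f421830 IH) (Lpr_gt (K49.f421839 IH) (Lpe (f29839 IH) (Lpr_ct (K49.f1999 IH) (Lpr_gt (f1974 IH) (Lpe (K38.f29864 IH) (Lpr_bt (K39.f29862 IH) (Lpr_gt (K38.f2710 IH) (Lpr_ct (f718459 IH) (Lpn v13989)))))))))))
theorem f1998 : Led Lsl_ct (LP (LK LD1_c9 LD2_c33 LD3_c60)) = (LP (LK LD1_c17 LD2_c36 LD3_c56)) :=
  Lre_c IH (LK LD1_c9 LD2_c33 LD3_c60) (LK LD1_c17 LD2_c36 LD3_c56) Lrfl Lrfl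
theorem f232506 : Led Lsl_cf (LP (LK LD1_c27 LD2_c29 LD3_c17)) = (LP (LK LD1_c27 LD2_c25 LD3_c6)) :=
  Lgr Lrot97 (Lpr_bt (K49.f232225 IH) (Lpr_ct (f232496 IH) (Lpr_bt (K49.f2013 IH) (Lpr_ct (f1998 IH) (Lpr_bt (f29839 IH) (Lpn (LP (LK LD1_c27 LD2_c25 LD3_c6))))))))
theorem f718462 : Led Lsl_gf (LP (LK LD1_c17 LD2_c43 LD3_c38)) = (LP (LK LD1_c27 LD2_c29 LD3_c17)) :=
  Lgr Lrot129 (Lpe (f229280 IH) (Lpe (f236688 IH) (Lpe (f605802 IH) (Lpe (f605807 IH) (Lpr_ct (f718459 IH) (Lpe (f718461 IH) (Lpe (f421836 IH) (Lpe (f421830 IH) (Lpr_gt (K49.f421839 IH) (Lpe (f232506 IH) (Lpn (LP (LK LD1_c27 LD2_c29 LD3_c17)))))))))))))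
theorem f718463 : Led Lsl_gt (LP (LK LD1_c27 LD2_c29 LD3_c17)) = (LP (LK LD1_c17 LD2_c43 LD3_c38)) :=
  Leop (Lpr_gf (f718462 IH) (Lpn (LP (LK LD1_c27 LD2_c29 LD3_c17))))
theorem seed_797 : LEOK LG_g (LK LD1_c27 LD2_c29 LD3_c17) :=
  Leoe_g (LK LD1_c27 LD2_c29 LD3_c17) (f718463 IH)
def v14005 : LQ := Led Lsl_gf (LP (LK LD1_c4 LD2_c53 LD3_c37))
theorem f718534 : Led Lsl_gf (LP (LK LD1_c4 LD2_c53 LD3_c37)) = v14005 :=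
  Lrfl
theorem f171138 : Led Lsl_bt (LP (LK LD1_c25 LD2_c53 LD3_c53)) = (LP (LK LD1_c15 LD2_c57 LD3_c29)) :=
  Lre_b IH (LK LD1_c25 LD2_c53 LD3_c53) (LK LD1_c15 LD2_c57 LD3_c29) Lrfl Lrfl
theorem f243547 : Led Lsl_bt (LP (LK LD1_c4 LD2_c16 LD3_c14)) = (LP (LK LD1_c2 LD2_c5 LD3_c29)) :=
  Lre_b IH (LK LD1_c4 LD2_c16 LD3_c14) (LK LD1_c2 LD2_c5 LD3_c29) Lrfl Lrfl
theorem f221818 : Led Lsl_ct (LP (LK LD1_c4 LD2_c16 LD3_c14)) = (LP (LK LD1_c8 LD2_c31 LD3_c30)) :=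
  Lre_c IH (LK LD1_c4 LD2_c16 LD3_c14) (LK LD1_c8 LD2_c31 LD3_c30) Lrfl Lrfl
theorem f243585 : Led Lsl_gt (LP (LK LD1_c16 LD2_c0 LD3_c8)) = (LP (LK LD1_c8 LD2_c31 LD3_c30)) :=
  Lre_g IH (LK LD1_c16 LD2_c0 LD3_c8) (LK LD1_c8 LD2_c31 LD3_c30) Lrfl Lrfl
theorem f243586 : Led Lsl_ct (LP (LK LD1_c25 LD2_c53 LD3_c53)) = (LP (LK LD1_c16 LD2_c0 LD3_c8)) :=
  Lgr Lrot64 (Lpr_bt (f171138 IH) (Lpe (K49.f171052 IH) (Lpe (K30.f171040 IH) (Lpr_ct (K27.f171045 IH) (Lpe (K11.f191970 IH) (Lpr_cf (K13.f243568 IH) (Lpe (K13.f243543 IH) (Lpe (f243547 IH) (Lpr_ct (f221818 IH) (Lpe (f243585 IH) (Lpn (LP (LK LD1_c16 LD2_c0 LD3_c8)))))))))))))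
theorem f222057 : Led Lsl_ct (LP (LK LD1_c15 LD2_c57 LD3_c11)) = (LP (LK LD1_c25 LD2_c18 LD3_c56)) :=
  Lgr Lrot59 (Lpr_cf (K30.f222048 IH) (Lpn (LP (LK LD1_c25 LD2_c18 LD3_c56))))
theorem f397454 : Led Lsl_gf (LP (LK LD1_c16 LD2_c0 LD3_c8)) = (LP (LK LD1_c25 LD2_c18 LD3_c56)) :=
  Lgr Lrot126 (Lpe (f243586 IH) (Lpr_bt (f171138 IH) (Lpr_gt (K49.f377800 IH) (Lpr_ct (K30.f369323 IH) (Lpr_gt (K30.f372974 IH) (Lpe (K30.f171112 IH) (Lpe (K30.f171144 IH) (Lpr_gt (K30.f397264 IH) (Lpe (K30.f270486 IH) (Lpr_ct (f222057 IH) (Lpn (LP (LK LD1_c25 LD2_c18 LD3_c56)))))))))))))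
theorem f250588 : Led Lsl_at (LP (LK LD1_c16 LD2_c0 LD3_c53)) = (LP (LK LD1_c8 LD2_c31 LD3_c54)) :=
  Lre_a IH (LK LD1_c16 LD2_c0 LD3_c53) (LK LD1_c8 LD2_c31 LD3_c54) Lrfl Lrfl
theorem f373118 : Led Lsl_ff (LP (LK LD1_c16 LD2_c0 LD3_c53)) = (LP (LK LD1_c19 LD2_c5 LD3_c43)) :=
  Lgr Lrot30 (Lpr_at (f250588 IH) (Lpr_ft (K49.f373115 IH) (Lpr_at (K49.f373117 IH) (Lpn (LP (LK LD1_c19 LD2_c5 LD3_c43))))))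
theorem f53404 : Led Lsl_gt (LP (LK LD1_c16 LD2_c0 LD3_c57)) = (LP (LK LD1_c8 LD2_c31 LD3_c54)) :=
  Lre_g IH (LK LD1_c16 LD2_c0 LD3_c57) (LK LD1_c8 LD2_c31 LD3_c54) Lrfl Lrfl
theorem f373167 : Led Lsl_gf (LP (LK LD1_c16 LD2_c0 LD3_c57)) = (LP (LK LD1_c19 LD2_c5 LD3_c43)) :=
  Lgr Lrot47 (Lpr_gt (f53404 IH) (Lpe (f250588 IH) (Lpr_ff (f373118 IH) (Lpn (LP (LK LD1_c19 LD2_c5 LD3_c43))))))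
theorem f53405 : Led Lsl_ct (LP (LK LD1_c16 LD2_c0 LD3_c16)) = (LP (LK LD1_c16 LD2_c0 LD3_c57)) :=
  Lre_c IH (LK LD1_c16 LD2_c0 LD3_c16) (LK LD1_c16 LD2_c0 LD3_c57) Lrfl Lrfl
theorem f373173 : Led Lsl_bt (LP (LK LD1_c16 LD2_c0 LD3_c16)) = (LP (LK LD1_c8 LD2_c31 LD3_c36)) :=
  Lre_b IH (LK LD1_c16 LD2_c0 LD3_c16) (LK LD1_c8 LD2_c31 LD3_c36) Lrfl Lrfl
theorem f397458 : Led Lsl_gt (LP (LK LD1_c8 LD2_c31 LD3_c36)) = (LP (LK LD1_c15 LD2_c57 LD3_c11)) :=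
  Lgr Lrot82 (Lpe (f373173 IH) (Lpr_ct (f53405 IH) (Lpr_gf (f373167 IH) (Lpe (K49.f373152 IH) (Lpr_bt (K27.f365403 IH) (Lpe (K49.f377800 IH) (Lpe (f171138 IH) (Lpr_ct (f243586 IH) (Lpr_gf (f397454 IH) (Lpe (f222057 IH) (Lpn (LP (LK LD1_c15 LD2_c57 LD3_c11)))))))))))))
theorem f221830 : Led Lsl_gt (LP (LK LD1_c4 LD2_c16 LD3_c14)) = (LP (LK LD1_c8 LD2_c31 LD3_c36)) :=
  Lre_g IH (LK LD1_c4 LD2_c16 LD3_c14) (LK LD1_c8 LD2_c31 LD3_c36) Lrfl Lrfl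
theorem f397460 : Led Lsl_ft (LP (LK LD1_c4 LD2_c16 LD3_c14)) = (LP (LK LD1_c8 LD2_c29 LD3_c48)) :=
  Lgr Lrot2 (Lpr_gt (f221830 IH) (Lpr_gt (f397458 IH) (Lpe (K30.f222060 IH) (Lpn (LP (LK LD1_c8 LD2_c29 LD3_c48))))))
theorem f397469 : Led Lsl_ff (LP (LK LD1_c4 LD2_c16 LD3_c14)) = (LP (LK LD1_c8 LD2_c29 LD3_c48)) :=
  Lgr Lrot3 (Lpr_ft (f397460 IH) (Lpn (LP (LK LD1_c8 LD2_c29 LD3_c48))))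
theorem f397472 : Led Lsl_at (LP (LK LD1_c4 LD2_c16 LD3_c14)) = (LP (LK LD1_c8 LD2_c31 LD3_c38)) :=
  Lre_a IH (LK LD1_c4 LD2_c16 LD3_c14) (LK LD1_c8 LD2_c31 LD3_c38) Lrfl Lrfl
theorem f222054 : Led Lsl_gt (LP (LK LD1_c8 LD2_c29 LD3_c48)) = (LP (LK LD1_c15 LD2_c57 LD3_c9)) :=
  Lre_g IH (LK LD1_c8 LD2_c29 LD3_c48) (LK LD1_c15 LD2_c57 LD3_c9) Lrfl Lrfl
theorem f397480 : Led Lsl_gf (LP (LK LD1_c8 LD2_c31 LD3_c38)) = (LP (LK LD1_c15 LD2_c57 LD3_c9)) :=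
  Lgr Lrot76 (Lpe (f397472 IH) (Lpr_ff (f397469 IH) (Lpr_gt (f222054 IH) (Lpn (LP (LK LD1_c15 LD2_c57 LD3_c9))))))
theorem f373138 : Led Lsl_bt (LP (LK LD1_c25 LD2_c53 LD3_c36)) = (LP (LK LD1_c15 LD2_c57 LD3_c9)) :=
  Lre_b IH (LK LD1_c25 LD2_c53 LD3_c36) (LK LD1_c15 LD2_c57 LD3_c9) Lrfl Lrfl
theorem f359465 : Led Lsl_gt (LP (LK LD1_c19 LD2_c5 LD3_c42)) = (LP (LK LD1_c10 LD2_c32 LD3_c35)) :=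
  Lre_g IH (LK LD1_c19 LD2_c5 LD3_c42) (LK LD1_c10 LD2_c32 LD3_c35) Lrfl Lrfl
theorem f373139 : Led Lsl_ct (LP (LK LD1_c25 LD2_c53 LD3_c36)) = (LP (LK LD1_c19 LD2_c5 LD3_c42)) :=
  Lgr Lrot64 (Lpr_bt (f373138 IH) (Lpe (f222054 IH) (Lpe (K30.f52032 IH) (Lpr_ct (K16.f52030 IH) (Lpe (K16.f807 IH) (Lpe (K16.f887 IH) (Lpe (K16.f896 IH) (Lpe (K30.f52200 IH) (Lpr_ct (K49.f373130 IH) (Lpe (f359465 IH) (Lpn (LP (LK LD1_c19 LD2_c5 LD3_c42)))))))))))))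
theorem f373128 : Led Lsl_ft (LP (LK LD1_c16 LD2_c0 LD3_c53)) = (LP (LK LD1_c19 LD2_c5 LD3_c43)) :=
  Lgr Lrot101 (Lpe (K27.f373084 IH) (Lpr_ff (K49.f373122 IH) (Lpe (K50.f373092 IH) (Lpn (LP (LK LD1_c19 LD2_c5 LD3_c43))))))
theorem f373156 : Led Lsl_gt (LP (LK LD1_c16 LD2_c0 LD3_c53)) = (LP (LK LD1_c19 LD2_c5 LD3_c42)) :=
  Lgr Lrot5 (Lpr_ft (f373128 IH) (Lpr_at (K50.f373092 IH) (Lpe (f359465 IH) (Lpn (LP (LK LD1_c19 LD2_c5 LD3_c42))))))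
theorem f397489 : Led Lsl_bf (LP (LK LD1_c8 LD2_c31 LD3_c38)) = (LP (LK LD1_c15 LD2_c57 LD3_c20)) :=
  Lgr Lrot34 (Lpr_gf (f397480 IH) (Lpe (f373138 IH) (Lpr_ct (f373139 IH) (Lpe (f373156 IH) (Lpe (K27.f373053 IH) (Lpe (K31.f377787 IH) (Lpe (K31.f374014 IH) (Lpr_ct (K30.f260556 IH) (Lpe (K31.f397448 IH) (Lpe (K31.f229768 IH) (Lpn (LP (LK LD1_c15 LD2_c57 LD3_c20)))))))))))))
theorem f397473 : Led Lsl_ft (LP (LK LD1_c8 LD2_c31 LD3_c38)) = (LP (LK LD1_c15 LD2_c57 LD3_c11)) :=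
  Lgr Lrot101 (Lpe (f397472 IH) (Lpr_ff (f397469 IH) (Lpe (K30.f222046 IH) (Lpn (LP (LK LD1_c15 LD2_c57 LD3_c11))))))
theorem f52033 : Led Lsl_gt (LP (LK LD1_c15 LD2_c57 LD3_c10)) = (LP (LK LD1_c8 LD2_c29 LD3_c48)) :=
  Lre_g IH (LK LD1_c15 LD2_c57 LD3_c10) (LK LD1_c8 LD2_c29 LD3_c48) Lrfl Lrfl
theorem f397544 : Led Lsl_gt (LP (LK LD1_c8 LD2_c31 LD3_c38)) = (LP (LK LD1_c15 LD2_c57 LD3_c10)) :=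
  Lgr Lrot5 (Lpr_ft (f397473 IH) (Lpr_at (K30.f222046 IH) (Lpe (f52033 IH) (Lpn (LP (LK LD1_c15 LD2_c57 LD3_c10))))))
theorem f243327 : Led Lsl_bt (LP (LK LD1_c16 LD2_c0 LD3_c50)) = (LP (LK LD1_c8 LD2_c31 LD3_c52)) :=
  Lre_b IH (LK LD1_c16 LD2_c0 LD3_c50) (LK LD1_c8 LD2_c31 LD3_c52) Lrfl Lrfl
theorem f271507 : Led Lsl_ct (LP (LK LD1_c8 LD2_c35 LD3_c45)) = (LP (LK LD1_c16 LD2_c7 LD3_c2)) :=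
  Lre_c IH (LK LD1_c8 LD2_c35 LD3_c45) (LK LD1_c16 LD2_c7 LD3_c2) Lrfl Lrfl
theorem f271508 : Led Lsl_gf (LP (LK LD1_c25 LD2_c58 LD3_c12)) = (LP (LK LD1_c16 LD2_c7 LD3_c2)) :=
  Lgr Lrot129 (Lpe (f243328 IH) (Lpr_bt (f243327 IH) (Lpr_gt (K31.f243326 IH) (Lpe (K20.f243325 IH) (Lpr_ct (K14.f188966 IH) (Lpe (K15.f243316 IH) (Lpe (K16.f271475 IH) (Lpr_bt (K30.f271493 IH) (Lpr_gt (K41.f271494 IH) (Lpr_ct (f271507 IH) (Lpn (LP (LK LD1_c16 LD2_c7 LD3_c2)))))))))))))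
theorem f271526 : Led Lsl_bt (LP (LK LD1_c8 LD2_c35 LD3_c45)) = (LP (LK LD1_c4 LD2_c18 LD3_c28)) :=
  Lre_b IH (LK LD1_c8 LD2_c35 LD3_c45) (LK LD1_c4 LD2_c18 LD3_c28) Lrfl Lrfl
theorem f398169 : Led Lsl_gf (LP (LK LD1_c4 LD2_c18 LD3_c28)) = (LP (LK LD1_c8 LD2_c35 LD3_c36)) :=
  Lgr Lrot124 (Lpe (f271526 IH) (Lpr_ct (f271507 IH) (Lpe (f271508 IH) (Lpe (f243328 IH) (Lpr_bt (f243327 IH) (Lpr_gt (K31.f243326 IH) (Lpr_ct (K49.f53403 IH) (Lpr_gt (K50.f250523 IH) (Lpr_cf (K50.f398155 IH) (Lpr_bt (K50.f398154 IH) (Lpn (LP (LK LD1_c8 LD2_c35 LD3_c36)))))))))))))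
theorem f359474 : Led Lsl_bt (LP (LK LD1_c15 LD2_c45 LD3_c27)) = (LP (LK LD1_c8 LD2_c22 LD3_c24)) :=
  Lre_b IH (LK LD1_c15 LD2_c45 LD3_c27) (LK LD1_c8 LD2_c22 LD3_c24) Lrfl Lrfl
theorem f404709 : Led Lsl_ff (LP (LK LD1_c15 LD2_c45 LD3_c27)) = (LP (LK LD1_c16 LD2_c0 LD3_c56)) :=
  Lgr Lrot25 (Lpr_bt (f359474 IH) (Lpr_ft (K50.f404703 IH) (Lpe (K50.f398193 IH) (Lpn (LP (LK LD1_c16 LD2_c0 LD3_c56))))))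
theorem f404715 : Led Lsl_at (LP (LK LD1_c15 LD2_c45 LD3_c27)) = (LP (LK LD1_c16 LD2_c0 LD3_c57)) :=
  Lgr Lrot26 (Lpr_ff (f404709 IH) (Lpr_gt (K50.f373124 IH) (Lpe (f373167 IH) (Lpn (LP (LK LD1_c16 LD2_c0 LD3_c57))))))
theorem f404717 : Led Lsl_af (LP (LK LD1_c15 LD2_c45 LD3_c27)) = (LP (LK LD1_c16 LD2_c0 LD3_c57)) :=
  Lgr Lrot0 (Lpr_at (f404715 IH) (Lpn (LP (LK LD1_c16 LD2_c0 LD3_c57))))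
theorem f404724 : Led Lsl_ft (LP (LK LD1_c19 LD2_c5 LD3_c42)) = (LP (LK LD1_c16 LD2_c0 LD3_c57)) :=
  Lgr Lrot2 (Lpr_gt (f359465 IH) (Lpe (K49.f359466 IH) (Lpr_af (f404717 IH) (Lpn (LP (LK LD1_c16 LD2_c0 LD3_c57))))))
theorem f404730 : Led Lsl_ff (LP (LK LD1_c19 LD2_c5 LD3_c42)) = (LP (LK LD1_c16 LD2_c0 LD3_c57)) :=
  Lgr Lrot3 (Lpr_ft (f404724 IH) (Lpn (LP (LK LD1_c16 LD2_c0 LD3_c57))))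
theorem f373148 : Led Lsl_cf (LP (LK LD1_c25 LD2_c53 LD3_c36)) = (LP (LK LD1_c19 LD2_c5 LD3_c42)) :=
  Lgr Lrot11 (Lpr_ct (f373139 IH) (Lpn (LP (LK LD1_c19 LD2_c5 LD3_c42))))
theorem f404734 : Led Lsl_ft (LP (LK LD1_c25 LD2_c53 LD3_c36)) = (LP (LK LD1_c16 LD2_c0 LD3_c16)) :=
  Lgr Lrot4 (Lpr_cf (f373148 IH) (Lpr_ff (f404730 IH) (Lpe (f53405 IH) (Lpn (LP (LK LD1_c16 LD2_c0 LD3_c16))))))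
theorem f373172 : Led Lsl_ct (LP (LK LD1_c16 LD2_c0 LD3_c57)) = (LP (LK LD1_c16 LD2_c0 LD3_c16)) :=
  Lre_c IH (LK LD1_c16 LD2_c0 LD3_c57) (LK LD1_c16 LD2_c0 LD3_c16) Lrfl Lrfl
theorem f404719 : Led Lsl_af (LP (LK LD1_c25 LD2_c42 LD3_c7)) = (LP (LK LD1_c16 LD2_c0 LD3_c16)) :=
  Lgr Lrot68 (Lpr_ct (K49.f53357 IH) (Lpr_at (f404715 IH) (Lpr_ct (f373172 IH) (Lpn (LP (LK LD1_c16 LD2_c0 LD3_c16))))))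
theorem f404711 : Led Lsl_ft (LP (LK LD1_c25 LD2_c42 LD3_c7)) = (LP (LK LD1_c16 LD2_c6 LD3_c56)) :=
  Lgr Lrot4 (Lpe (K50.f359468 IH) (Lpr_ff (f404709 IH) (Lpr_cf (K50.f398155 IH) (Lpn (LP (LK LD1_c16 LD2_c6 LD3_c56))))))
theorem f404736 : Led Lsl_af (LP (LK LD1_c25 LD2_c53 LD3_c36)) = (LP (LK LD1_c16 LD2_c6 LD3_c56)) :=
  Lgr Lrot45 (Lpr_ft (f404734 IH) (Lpe (f404719 IH) (Lpr_ft (f404711 IH) (Lpn (LP (LK LD1_c16 LD2_c6 LD3_c56))))))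
theorem f404759 : Led Lsl_at (LP (LK LD1_c25 LD2_c53 LD3_c36)) = (LP (LK LD1_c16 LD2_c6 LD3_c56)) :=
  Lgr Lrot100 (Lpr_af (f404736 IH) (Lpn (LP (LK LD1_c16 LD2_c6 LD3_c56))))
theorem f404728 : Led Lsl_ff (LP (LK LD1_c25 LD2_c53 LD3_c36)) = (LP (LK LD1_c16 LD2_c0 LD3_c16)) :=
  Lgr Lrot23 (Lpr_ct (f373139 IH) (Lpr_ft (f404724 IH) (Lpr_ct (f373172 IH) (Lpn (LP (LK LD1_c16 LD2_c0 LD3_c16))))))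
theorem f404721 : Led Lsl_at (LP (LK LD1_c25 LD2_c42 LD3_c7)) = (LP (LK LD1_c16 LD2_c0 LD3_c16)) :=
  Lgr Lrot100 (Lpr_af (f404719 IH) (Lpn (LP (LK LD1_c16 LD2_c0 LD3_c16))))
theorem f404761 : Led Lsl_ff (LP (LK LD1_c25 LD2_c42 LD3_c7)) = (LP (LK LD1_c16 LD2_c6 LD3_c56)) :=
  Lgr Lrot30 (Lpr_at (f404721 IH) (Lpe (f404728 IH) (Lpr_at (f404759 IH) (Lpn (LP (LK LD1_c16 LD2_c6 LD3_c56))))))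
theorem f398157 : Led Lsl_bt (LP (LK LD1_c8 LD2_c35 LD3_c36)) = (LP (LK LD1_c16 LD2_c6 LD3_c56)) :=
  Lre_b IH (LK LD1_c8 LD2_c35 LD3_c36) (LK LD1_c16 LD2_c6 LD3_c56) Lrfl Lrfl
theorem f404763 : Led Lsl_ft (LP (LK LD1_c15 LD2_c45 LD3_c26)) = (LP (LK LD1_c8 LD2_c35 LD3_c36)) :=
  Lgr Lrot75 (Lpe (K49.f53356 IH) (Lpr_ff (f404761 IH) (Lpe (f398157 IH) (Lpn (LP (LK LD1_c8 LD2_c35 LD3_c36))))))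
theorem f404783 : Led Lsl_ff (LP (LK LD1_c15 LD2_c45 LD3_c26)) = (LP (LK LD1_c8 LD2_c35 LD3_c36)) :=
  Lgr Lrot3 (Lpr_ft (f404763 IH) (Lpn (LP (LK LD1_c8 LD2_c35 LD3_c36))))
theorem f693743 : Led Lsl_at (LP (LK LD1_c15 LD2_c45 LD3_c26)) = (LP (LK LD1_c8 LD2_c35 LD3_c37)) :=
  Lgr Lrot26 (Lpr_ff (f404783 IH) (Lpe (f398169 IH) (Lpr_gt (K50.f693741 IH) (Lpn (LP (LK LD1_c8 LD2_c35 LD3_c37))))))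
theorem f404723 : Led Lsl_bt (LP (LK LD1_c8 LD2_c31 LD3_c36)) = (LP (LK LD1_c16 LD2_c0 LD3_c16)) :=
  Lre_b IH (LK LD1_c8 LD2_c31 LD3_c36) (LK LD1_c16 LD2_c0 LD3_c16) Lrfl Lrfl
theorem f373147 : Led Lsl_bt (LP (LK LD1_c15 LD2_c57 LD3_c9)) = (LP (LK LD1_c25 LD2_c53 LD3_c36)) :=
  Lre_b IH (LK LD1_c15 LD2_c57 LD3_c9) (LK LD1_c25 LD2_c53 LD3_c36) Lrfl Lrfl
theorem f404738 : Led Lsl_ff (LP (LK LD1_c15 LD2_c57 LD3_c9)) = (LP (LK LD1_c8 LD2_c31 LD3_c36)) :=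
  Lgr Lrot25 (Lpr_bt (f373147 IH) (Lpr_ft (f404734 IH) (Lpr_bt (f373173 IH) (Lpn (LP (LK LD1_c8 LD2_c31 LD3_c36))))))
theorem f397463 : Led Lsl_at (LP (LK LD1_c8 LD2_c31 LD3_c38)) = (LP (LK LD1_c4 LD2_c16 LD3_c14)) :=
  Lre_a IH (LK LD1_c8 LD2_c31 LD3_c38) (LK LD1_c4 LD2_c16 LD3_c14) Lrfl Lrfl
theorem f397464 : Led Lsl_ff (LP (LK LD1_c8 LD2_c31 LD3_c38)) = (LP (LK LD1_c15 LD2_c57 LD3_c11)) :=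
  Lgr Lrot30 (Lpr_at (f397463 IH) (Lpr_ft (f397460 IH) (Lpr_at (K30.f222060 IH) (Lpn (LP (LK LD1_c15 LD2_c57 LD3_c11))))))
theorem f221822 : Led Lsl_gt (LP (LK LD1_c8 LD2_c31 LD3_c37)) = (LP (LK LD1_c4 LD2_c16 LD3_c14)) :=
  Lre_g IH (LK LD1_c8 LD2_c31 LD3_c37) (LK LD1_c4 LD2_c16 LD3_c14) Lrfl Lrfl
theorem f397548 : Led Lsl_gf (LP (LK LD1_c8 LD2_c31 LD3_c37)) = (LP (LK LD1_c15 LD2_c57 LD3_c11)) :=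
  Lgr Lrot47 (Lpr_gt (f221822 IH) (Lpe (f397463 IH) (Lpr_ff (f397464 IH) (Lpn (LP (LK LD1_c15 LD2_c57 LD3_c11))))))
theorem f404742 : Led Lsl_at (LP (LK LD1_c15 LD2_c57 LD3_c9)) = (LP (LK LD1_c8 LD2_c31 LD3_c37)) :=
  Lgr Lrot26 (Lpr_ff (f404738 IH) (Lpr_gt (f397458 IH) (Lpe (f397548 IH) (Lpn (LP (LK LD1_c8 LD2_c31 LD3_c37))))))
theorem f404744 : Led Lsl_af (LP (LK LD1_c15 LD2_c57 LD3_c9)) = (LP (LK LD1_c8 LD2_c31 LD3_c37)) :=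
  Lgr Lrot0 (Lpr_at (f404742 IH) (Lpn (LP (LK LD1_c8 LD2_c31 LD3_c37))))
theorem f404751 : Led Lsl_ft (LP (LK LD1_c15 LD2_c57 LD3_c10)) = (LP (LK LD1_c8 LD2_c31 LD3_c37)) :=
  Lgr Lrot2 (Lpr_gt (f52033 IH) (Lpr_gt (f222054 IH) (Lpr_af (f404744 IH) (Lpn (LP (LK LD1_c8 LD2_c31 LD3_c37))))))
theorem f404755 : Led Lsl_ff (LP (LK LD1_c15 LD2_c57 LD3_c10)) = (LP (LK LD1_c8 LD2_c31 LD3_c37)) :=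
  Lgr Lrot3 (Lpr_ft (f404751 IH) (Lpn (LP (LK LD1_c8 LD2_c31 LD3_c37))))
theorem f404757 : Led Lsl_at (LP (LK LD1_c15 LD2_c57 LD3_c10)) = (LP (LK LD1_c8 LD2_c31 LD3_c36)) :=
  Lgr Lrot66 (Lpr_ff (f404755 IH) (Lpe (f404742 IH) (Lpr_ff (f404738 IH) (Lpn (LP (LK LD1_c8 LD2_c31 LD3_c36))))))
theorem f693747 : Led Lsl_bf (LP (LK LD1_c15 LD2_c57 LD3_c10)) = (LP (LK LD1_c8 LD2_c35 LD3_c37)) :=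
  Lgr Lrot81 (Lpr_at (f404757 IH) (Lpr_bt (f404723 IH) (Lpe (f404719 IH) (Lpr_bt (K49.f53356 IH) (Lpr_at (f693743 IH) (Lpn (LP (LK LD1_c8 LD2_c35 LD3_c37))))))))
theorem f718535 : Led Lsl_ct (LP (LK LD1_c8 LD2_c35 LD3_c37)) = v14005 :=
  Lgr Lrot64 (Lpe (f693747 IH) (Lpe (f397544 IH) (Lpr_bf (f397489 IH) (Lpr_ct (K31.f229768 IH) (Lpr_gf (K31.f270417 IH) (Lpe (K31.f270420 IH) (Lpr_gf (K31.f397926 IH) (Lpe (K30.f167050 IH) (Lpr_ct (K31.f167055 IH) (Lpr_gf (f718534 IH) (Lpn v14005)))))))))))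
theorem f271521 : Led Lsl_gt (LP (LK LD1_c26 LD2_c3 LD3_c48)) = (LP (LK LD1_c16 LD2_c7 LD3_c2)) :=
  Lre_g IH (LK LD1_c26 LD2_c3 LD3_c48) (LK LD1_c16 LD2_c7 LD3_c2) Lrfl Lrfl
theorem f718536 : Led Lsl_ct (LP (LK LD1_c26 LD2_c13 LD3_c54)) = (LP (LK LD1_c26 LD2_c3 LD3_c48)) :=
  Lgr Lrot64 (Lpr_bt (K51.f397930 IH) (Lpr_gf (K31.f397926 IH) (Lpe (K30.f167050 IH) (Lpr_ct (K31.f167055 IH) (Lpr_gf (f718534 IH) (Lpe (f718535 IH) (Lpe (K50.f693741 IH) (Lpe (f271526 IH) (Lpr_ct (f271507 IH) (Lpe (f271521 IH) (Lpn (LP (LK LD1_c26 LD2_c3 LD3_c48)))))))))))))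
theorem f718537 : Led Lsl_ct (LP (LK LD1_c26 LD2_c13 LD3_c54)) = (LP (LK LD1_c26 LD2_c3 LD3_c48)) :=
  Leop (Lpe (f718536 IH) (Lpn (LP (LK LD1_c26 LD2_c13 LD3_c54))))
theorem seed_798 : LEOK LG_c (LK LD1_c26 LD2_c13 LD3_c54) :=
  Leoe_c (LK LD1_c26 LD2_c13 LD3_c54) (f718537 IH)
def v14012 : LQ := Led Lsl_gt (LP (LK LD1_c4 LD2_c53 LD3_c41))
theorem f718567 : Led Lsl_gt (LP (LK LD1_c4 LD2_c53 LD3_c41)) = v14012 :=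
  Lrfl
def v12559 : LQ := Led Lsl_bt (LP (LK LD1_c4 LD2_c17 LD3_c47))
theorem f693533 : Led Lsl_bt (LP (LK LD1_c4 LD2_c17 LD3_c47)) = v12559 :=
  Lrfl
def v12442 : LQ := Led Lsl_bt (LP (LK LD1_c4 LD2_c11 LD3_c34))
theorem f692173 : Led Lsl_bt (LP (LK LD1_c4 LD2_c11 LD3_c34)) = v12442 :=
  Lrfl
theorem f692174 : Led Lsl_bf (LP (LK LD1_c4 LD2_c11 LD3_c34)) = v12442 :=
  Lgr Lrot24 (Lpr_bt (f692173 IH) (Lpn v12442))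
theorem f693536 : Led Lsl_ff v12442 = v12559 :=
  Lgr Lrot25 (Lpe (f692174 IH) (Lpe (K50.f392810 IH) (Lpr_bt (f693533 IH) (Lpn v12559))))
theorem f692175 : Led Lsl_cf (LP (LK LD1_c8 LD2_c23 LD3_c4)) = v12442 :=
  Lgr Lrot97 (Lpr_bt (K41.f387472 IH) (Lpe (K41.f387469 IH) (Lpr_bt (K41.f53349 IH) (Lpr_ct (K20.f270625 IH) (Lpr_bt (f692173 IH) (Lpn v12442))))))
theorem f693537 : Led Lsl_ct (LP (LK LD1_c8 LD2_c35 LD3_c30)) = v12559 :=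
  Lgr Lrot40 (Lpr_ff (K41.f403658 IH) (Lpr_cf (f692175 IH) (Lpr_ff (f693536 IH) (Lpn v12559))))
theorem f403655 : Led Lsl_bt (LP (LK LD1_c8 LD2_c35 LD3_c30)) = (LP (LK LD1_c16 LD2_c6 LD3_c53)) :=
  Lre_b IH (LK LD1_c8 LD2_c35 LD3_c30) (LK LD1_c16 LD2_c6 LD3_c53) Lrfl Lrfl
theorem f398120 : Led Lsl_af (LP (LK LD1_c16 LD2_c13 LD3_c60)) = (LP (LK LD1_c15 LD2_c6 LD3_c48)) :=
  Lgr Lrot68 (Lpr_ct (K31.f39717 IH) (Lpr_at (K38.f398102 IH) (Lpr_ct (K50.f398114 IH) (Lpn (LP (LK LD1_c15 LD2_c6 LD3_c48))))))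
theorem f397975 : Led Lsl_ft (LP (LK LD1_c8 LD2_c1 LD3_c34)) = (LP (LK LD1_c15 LD2_c6 LD3_c52)) :=
  Lre_f IH (LK LD1_c8 LD2_c1 LD3_c34) (LK LD1_c15 LD2_c6 LD3_c52) Lrfl Lrfl
theorem f397976 : Led Lsl_ft (LP (LK LD1_c16 LD2_c14 LD3_c3)) = (LP (LK LD1_c15 LD2_c6 LD3_c48)) :=
  Lgr Lrot75 (Lpr_bf (K38.f397961 IH) (Lpe (f397975 IH) (Lpe (K50.f29880 IH) (Lpn (LP (LK LD1_c15 LD2_c6 LD3_c48))))))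

end

end K52

end

end Cfsg.Agent.Helper28.S1692
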