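import Cfsg.Agent.Lib.Helper28.S1692.Seeds52

set_option autoImplicit false
set_option maxRecDepth 100000
set_option linter.all false

namespace Cfsg.Agent.Helper28.S1692

open Cfsg.Agent.Helper28
open Cfsg.Spor.ON (Gen)

noncomputable section

namespace K53
abbrev LD1_c0 := D1.c0
abbrev LD1_c1 := D1.c1
abbrev LD1_c2 := D1.c2
abbrev LD1_c3 := D1.c3
abbrev LD1_c4 := D1.c4
abbrev LD1_c5 := D1.c5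
abbrev LD1_c6 := D1.c6
abbrev LD1_c7 := D1.c7
abbrev LD1_c8 := D1.c8
abbrev LD1_c9 := D1.c9
abbrev LD1_c10 := D1.c10
abbrev LD1_c11 := D1.c11
abbrev LD1_c12 := D1.c12
abbrev LD1_c13 := D1.c13
abbrev LD1_c14 := D1.c14
abbrev LD1_c15 := D1.c15
abbrev LD1_c16 := D1.c16
abbrev LD1_c17 := D1.c17
abbrev LD1_c18 := D1.c18
abbrev LD1_c19 := D1.c19
abbrev LD1_c20 := D1.c20
abbrev LD1_c21 := D1.c21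
abbrev LD1_c22 := D1.c22
abbrev LD1_c23 := D1.c23
abbrev LD1_c24 := D1.c24
abbrev LD1_c25 := D1.c25
abbrev LD1_c26 := D1.c26
abbrev LD1_c27 := D1.c27
abbrev LD1_c28 := D1.c28
abbrev LD1_c29 := D1.c29
abbrev LD1_c30 := D1.c30
abbrev LD1_c31 := D1.c31
abbrev LD1_c32 := D1.c32
abbrev LD2_c0 := D2.c0
abbrev LD2_c1 := D2.c1
abbrev LD2_c2 := D2.c2
abbrev LD2_c3 := D2.c3
abbrev LD2_c4 := D2.c4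
abbrev LD2_c5 := D2.c5
abbrev LD2_c6 := D2.c6
abbrev LD2_c7 := D2.c7
abbrev LD2_c8 := D2.c8
abbrev LD2_c9 := D2.c9
abbrev LD2_c10 := D2.c10
abbrev LD2_c11 := D2.c11
abbrev LD2_c12 := D2.c12
abbrev LD2_c13 := D2.c13
abbrev LD2_c14 := D2.c14
abbrev LD2_c15 := D2.c15
abbrev LD2_c16 := D2.c16
abbrev LD2_c17 := D2.c17
abbrev LD2_c18 := D2.c18
abbrev LD2_c19 := D2.c19
abbrev LD2_c20 := D2.c20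
abbrev LD2_c21 := D2.c21
abbrev LD2_c22 := D2.c22
abbrev LD2_c23 := D2.c23
abbrev LD2_c24 := D2.c24
abbrev LD2_c25 := D2.c25
abbrev LD2_c26 := D2.c26
abbrev LD2_c27 := D2.c27
abbrev LD2_c28 := D2.c28
abbrev LD2_c29 := D2.c29
abbrev LD2_c30 := D2.c30
abbrev LD2_c31 := D2.c31
abbrev LD2_c32 := D2.c32
abbrev LD2_c33 := D2.c33
abbrev LD2_c34 := D2.c34
abbrev LD2_c35 := D2.c35
abbrev LD2_c36 := D2.c36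
abbrev LD2_c37 := D2.c37
abbrev LD2_c38 := D2.c38
abbrev LD2_c39 := D2.c39
abbrev LD2_c40 := D2.c40
abbrev LD2_c41 := D2.c41
abbrev LD2_c42 := D2.c42
abbrev LD2_c43 := D2.c43
abbrev LD2_c44 := D2.c44
abbrev LD2_c45 := D2.c45
abbrev LD2_c46 := D2.c46
abbrev LD2_c47 := D2.c47
abbrev LD2_c48 := D2.c48
abbrev LD2_c49 := D2.c49
abbrev LD2_c50 := D2.c50
abbrev LD2_c51 := D2.c51
abbrev LD2_c52 := D2.c52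
abbrev LD2_c53 := D2.c53
abbrev LD2_c54 := D2.c54
abbrev LD2_c55 := D2.c55
abbrev LD2_c56 := D2.c56
abbrev LD2_c57 := D2.c57
abbrev LD2_c58 := D2.c58
abbrev LD2_c59 := D2.c59
abbrev LD3_c0 := D3.c0
abbrev LD3_c1 := D3.c1
abbrev LD3_c2 := D3.c2
abbrev LD3_c3 := D3.c3
abbrev LD3_c4 := D3.c4
abbrev LD3_c5 := D3.c5
abbrev LD3_c6 := D3.c6
abbrev LD3_c7 := D3.c7
abbrev LD3_c8 := D3.c8
abbrev LD3_c9 := D3.c9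
abbrev LD3_c10 := D3.c10
abbrev LD3_c11 := D3.c11
abbrev LD3_c12 := D3.c12
abbrev LD3_c13 := D3.c13
abbrev LD3_c14 := D3.c14
abbrev LD3_c15 := D3.c15
abbrev LD3_c16 := D3.c16
abbrev LD3_c17 := D3.c17
abbrev LD3_c18 := D3.c18
abbrev LD3_c19 := D3.c19
abbrev LD3_c20 := D3.c20
abbrev LD3_c21 := D3.c21
abbrev LD3_c22 := D3.c22
abbrev LD3_c23 := D3.c23
abbrev LD3_c24 := D3.c24
abbrev LD3_c25 := D3.c25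
abbrev LD3_c26 := D3.c26
abbrev LD3_c27 := D3.c27
abbrev LD3_c28 := D3.c28
abbrev LD3_c29 := D3.c29
abbrev LD3_c30 := D3.c30
abbrev LD3_c31 := D3.c31
abbrev LD3_c32 := D3.c32
abbrev LD3_c33 := D3.c33
abbrev LD3_c34 := D3.c34
abbrev LD3_c35 := D3.c35
abbrev LD3_c36 := D3.c36
abbrev LD3_c37 := D3.c37
abbrev LD3_c38 := D3.c38
abbrev LD3_c39 := D3.c39
abbrev LD3_c40 := D3.c40
abbrev LD3_c41 := D3.c41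
abbrev LD3_c42 := D3.c42
abbrev LD3_c43 := D3.c43
abbrev LD3_c44 := D3.c44
abbrev LD3_c45 := D3.c45
abbrev LD3_c46 := D3.c46
abbrev LD3_c47 := D3.c47
abbrev LD3_c48 := D3.c48
abbrev LD3_c49 := D3.c49
abbrev LD3_c50 := D3.c50
abbrev LD3_c51 := D3.c51
abbrev LD3_c52 := D3.c52
abbrev LD3_c53 := D3.c53
abbrev LD3_c54 := D3.c54
abbrev LD3_c55 := D3.c55
abbrev LD3_c56 := D3.c56
abbrev LD3_c57 := D3.c57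
abbrev LD3_c58 := D3.c58
abbrev LD3_c59 := D3.c59
abbrev LD3_c60 := D3.c60
abbrev LD3_c61 := D3.c61
abbrev LG_g := Gen.g
abbrev Lsl_gt : Gen × Bool := sl_gt
alias Lfl_gt := fl_gt
alias Lpr_gt := pr_gt
abbrev Lsl_gf : Gen × Bool := sl_gf
alias Lfl_gf := fl_gf
alias Lpr_gf := pr_gf
alias Lre_g := re_g
alias Leoe_g := eoe_g
abbrev LG_a := Gen.a
abbrev Lsl_at : Gen × Bool := sl_at
alias Lfl_at := fl_at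
alias Lpr_at := pr_at
abbrev Lsl_af : Gen × Bool := sl_af
alias Lfl_af := fl_af
alias Lpr_af := pr_af
alias Lre_a := re_a
alias Leoe_a := eoe_a
abbrev LG_b := Gen.b
abbrev Lsl_bt : Gen × Bool := sl_bt
alias Lfl_bt := fl_bt
alias Lpr_bt := pr_bt
abbrev Lsl_bf : Gen × Bool := sl_bf
alias Lfl_bf := fl_bf
alias Lpr_bf := pr_bf
alias Lre_b := re_b
alias Leoe_b := eoe_b
abbrev LG_c := Gen.c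
abbrev Lsl_ct : Gen × Bool := sl_ct
alias Lfl_ct := fl_ct
alias Lpr_ct := pr_ct
abbrev Lsl_cf : Gen × Bool := sl_cf
alias Lfl_cf := fl_cf
alias Lpr_cf := pr_cf
alias Lre_c := re_c
alias Leoe_c := eoe_c
abbrev LG_d := Gen.d
abbrev Lsl_dt : Gen × Bool := sl_dt
alias Lfl_dt := fl_dt
alias Lpr_dt := pr_dt
abbrev Lsl_df : Gen × Bool := sl_df
alias Lfl_df := fl_df
alias Lpr_df := pr_df
alias Lre_d := re_d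
alias Leoe_d := eoe_d
abbrev LG_e := Gen.e
abbrev Lsl_et : Gen × Bool := sl_et
alias Lfl_et := fl_et
alias Lpr_et := pr_et
abbrev Lsl_ef : Gen × Bool := sl_ef
alias Lfl_ef := fl_ef
alias Lpr_ef := pr_ef
alias Lre_e := re_e
alias Leoe_e := eoe_e
abbrev LG_f := Gen.f
abbrev Lsl_ft : Gen × Bool := sl_ft
alias Lfl_ft := fl_ft
alias Lpr_ft := pr_ft
abbrev Lsl_ff : Gen × Bool := sl_ff
alias Lfl_ff := fl_ff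
alias Lpr_ff := pr_ff
alias Lre_f := re_f
alias Leoe_f := eoe_f
abbrev LK := Pt.mk
abbrev LQ : Type := Qt rels S
abbrev LP (p : Pt) : LQ := P p
abbrev Led (l : Gen × Bool) (c : LQ) : LQ := ed l c
abbrev LEOK (x : Gen) (p : Pt) : Prop := EntryOK rels S fwd inv o plet idx x p
alias Lpe := pe
alias Lpn := pn
alias Lgr := gr
alias Lpq := pq
alias Lpqs := pqs
alias Llr := lr
alias Leop := eop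
alias Lefun := efun
alias Lecon := econ
theorem Lrfl {α : Sort _} {a : α} : a = a := rfl
alias Lrot0 := rot0
alias Lrot1 := rot1
alias Lrot2 := rot2
alias Lrot3 := rot3
alias Lrot4 := rot4
alias Lrot5 := rot5
alias Lrot6 := rot6
alias Lrot7 := rot7
alias Lrot8 := rot8
alias Lrot9 := rot9
alias Lrot10 := rot10
alias Lrot11 := rot11
alias Lrot12 := rot12
alias Lrot13 := rot13
alias Lrot14 := rot14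
alias Lrot15 := rot15
alias Lrot17 := rot17
alias Lrot18 := rot18
alias Lrot19 := rot19
alias Lrot20 := rot20
alias Lrot21 := rot21
alias Lrot22 := rot22
alias Lrot23 := rot23
alias Lrot24 := rot24
alias Lrot25 := rot25
alias Lrot26 := rot26
alias Lrot27 := rot27
alias Lrot28 := rot28
alias Lrot29 := rot29
alias Lrot30 := rot30
alias Lrot31 := rot31
alias Lrot34 := rot34
alias Lrot35 := rot35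
alias Lrot36 := rot36
alias Lrot37 := rot37
alias Lrot38 := rot38
alias Lrot39 := rot39
alias Lrot40 := rot40
alias Lrot41 := rot41
alias Lrot42 := rot42
alias Lrot43 := rot43
alias Lrot44 := rot44
alias Lrot45 := rot45
alias Lrot46 := rot46
alias Lrot47 := rot47
alias Lrot48 := rot48
alias Lrot49 := rot49
alias Lrot50 := rot50
alias Lrot51 := rot51
alias Lrot52 := rot52
alias Lrot53 := rot53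
alias Lrot54 := rot54
alias Lrot55 := rot55
alias Lrot56 := rot56
alias Lrot57 := rot57
alias Lrot58 := rot58
alias Lrot59 := rot59
alias Lrot60 := rot60
alias Lrot61 := rot61
alias Lrot62 := rot62
alias Lrot63 := rot63
alias Lrot64 := rot64
alias Lrot65 := rot65
alias Lrot66 := rot66
alias Lrot67 := rot67
alias Lrot68 := rot68
alias Lrot69 := rot69
alias Lrot70 := rot70
alias Lrot71 := rot71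
alias Lrot72 := rot72
alias Lrot73 := rot73
alias Lrot74 := rot74
alias Lrot75 := rot75
alias Lrot76 := rot76
alias Lrot77 := rot77
alias Lrot78 := rot78
alias Lrot79 := rot79
alias Lrot80 := rot80
alias Lrot81 := rot81
alias Lrot82 := rot82
alias Lrot83 := rot83
alias Lrot84 := rot84
alias Lrot85 := rot85
alias Lrot86 := rot86
alias Lrot87 := rot87
alias Lrot88 := rot88
alias Lrot90 := rot90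
alias Lrot91 := rot91
alias Lrot92 := rot92
alias Lrot93 := rot93
alias Lrot94 := rot94
alias Lrot95 := rot95
alias Lrot96 := rot96
alias Lrot97 := rot97
alias Lrot99 := rot99
alias Lrot100 := rot100
alias Lrot101 := rot101
alias Lrot104 := rot104
alias Lrot105 := rot105
alias Lrot106 := rot106
alias Lrot107 := rot107
alias Lrot108 := rot108
alias Lrot109 := rot109
alias Lrot110 := rot110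
alias Lrot111 := rot111
alias Lrot112 := rot112
alias Lrot113 := rot113
alias Lrot114 := rot114
alias Lrot115 := rot115
alias Lrot117 := rot117
alias Lrot118 := rot118
alias Lrot119 := rot119
alias Lrot120 := rot120
alias Lrot121 := rot121
alias Lrot122 := rot122
alias Lrot123 := rot123
alias Lrot124 := rot124
alias Lrot125 := rot125
alias Lrot126 := rot126
alias Lrot127 := rot127
alias Lrot128 := rot128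
alias Lrot129 := rot129
alias Lrot131 := rot131
alias Lrot132 := rot132
alias Lrot134 := rot134
alias Lrot135 := rot135
alias Lrot136 := rot136
alias Lrot137 := rot137
alias Lrot138 := rot138
alias Lrot139 := rot139
alias Lrot140 := rot140
alias Lrot141 := rot141
alias Lrot142 := rot142
alias Lrot143 := rot143
alias Lrot144 := rot144
alias Lrot145 := rot145
alias Lrot146 := rot146
alias Lrot147 := rot147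
alias Lrot148 := rot148
alias Lrot149 := rot149
alias Lrot150 := rot150
alias Lrot152 := rot152
alias Lrot153 := rot153
alias Lrot155 := rot155
alias Lrot156 := rot156
alias Lrot158 := rot158
alias Lrot160 := rot160
alias Lrot161 := rot161
alias Lrot162 := rot162
alias Lrot163 := rot163
alias Lrot164 := rot164
alias Lrot165 := rot165
alias Lrot166 := rot166
alias Lrot167 := rot167
alias Lrot168 := rot168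
alias Lrot169 := rot169
alias Lrot170 := rot170
alias Lrot171 := rot171
alias Lrot172 := rot172
alias Lrot173 := rot173
alias Lrot174 := rot174
alias Lrot179 := rot179
alias Lrot181 := rot181
alias Lrot183 := rot183
alias Lrot185 := rot185
alias Lrot187 := rot187

section
variable (IH : IHT)
include IH

theorem f318951 : Led Lsl_bt (LP (LK LD1_c16 LD2_c13 LD3_c51)) = (LP (LK LD1_c26 LD2_c10 LD3_c39)) :=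
  Lre_b IH (LK LD1_c16 LD2_c13 LD3_c51) (LK LD1_c26 LD2_c10 LD3_c39) Lrfl Lrfl
theorem f292723 : Led Lsl_ct (LP (LK LD1_c16 LD2_c13 LD3_c51)) = (LP (LK LD1_c26 LD2_c10 LD3_c40)) :=
  Lre_c IH (LK LD1_c16 LD2_c13 LD3_c51) (LK LD1_c26 LD2_c10 LD3_c40) Lrfl Lrfl
theorem f318712 : Led Lsl_bt (LP (LK LD1_c15 LD2_c24 LD3_c6)) = (LP (LK LD1_c25 LD2_c16 LD3_c39)) :=
  Lre_b IH (LK LD1_c15 LD2_c24 LD3_c6) (LK LD1_c25 LD2_c16 LD3_c39) Lrfl Lrfl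
theorem f243796 : Led Lsl_bt (LP (LK LD1_c17 LD2_c55 LD3_c51)) = (LP (LK LD1_c9 LD2_c46 LD3_c3)) :=
  Lre_b IH (LK LD1_c17 LD2_c55 LD3_c51) (LK LD1_c9 LD2_c46 LD3_c3) Lrfl Lrfl
theorem f318714 : Led Lsl_ct (LP (LK LD1_c25 LD2_c16 LD3_c39)) = (LP (LK LD1_c17 LD2_c55 LD3_c51)) :=
  Lgr Lrot83 (Lpe (f318712 IH) (Lpr_cf (K20.f318707 IH) (Lpe (K50.f140444 IH) (Lpe (K39.f318713 IH) (Lpe (f243796 IH) (Lpn (LP (LK LD1_c17 LD2_c55 LD3_c51))))))))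
theorem f219579 : Led Lsl_bt (LP (LK LD1_c25 LD2_c16 LD3_c39)) = (LP (LK LD1_c15 LD2_c24 LD3_c6)) :=
  Lre_b IH (LK LD1_c25 LD2_c16 LD3_c39) (LK LD1_c15 LD2_c24 LD3_c6) Lrfl Lrfl
theorem f318943 : Led Lsl_gt (LP (LK LD1_c26 LD2_c10 LD3_c40)) = (LP (LK LD1_c17 LD2_c55 LD3_c51)) :=
  Lgr Lrot149 (Lpe (f292723 IH) (Lpe (K41.f292722 IH) (Lpe (K41.f292721 IH) (Lpr_ct (K17.f292659 IH) (Lpr_gf (K18.f276650 IH) (Lpe (K12.f53651 IH) (Lpr_bt (K30.f53894 IH) (Lpe (K20.f53935 IH) (Lpe (f219579 IH) (Lpr_ct (f318714 IH) (Lpn (LP (LK LD1_c17 LD2_c55 LD3_c51)))))))))))))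
theorem f53943 : Led Lsl_gt (LP (LK LD1_c15 LD2_c27 LD3_c17)) = (LP (LK LD1_c8 LD2_c12 LD3_c59)) :=
  Lre_g IH (LK LD1_c15 LD2_c27 LD3_c17) (LK LD1_c8 LD2_c12 LD3_c59) Lrfl Lrfl
theorem f243787 : Led Lsl_gt (LP (LK LD1_c11 LD2_c19 LD3_c24)) = (LP (LK LD1_c15 LD2_c27 LD3_c17)) :=
  Lgr Lrot5 (Lpr_ft (K20.f243778 IH) (Lpr_at (K20.f53780 IH) (Lpe (f53943 IH) (Lpn (LP (LK LD1_c15 LD2_c27 LD3_c17))))))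
theorem f243789 : Led Lsl_ft (LP (LK LD1_c5 LD2_c44 LD3_c40)) = (LP (LK LD1_c8 LD2_c59 LD3_c27)) :=
  Lre_f IH (LK LD1_c5 LD2_c44 LD3_c40) (LK LD1_c8 LD2_c59 LD3_c27) Lrfl Lrfl
theorem f243790 : Led Lsl_at (LP (LK LD1_c8 LD2_c59 LD3_c27)) = (LP (LK LD1_c15 LD2_c27 LD3_c17)) :=
  Lgr Lrot26 (Lpe (f243789 IH) (Lpr_gt (K20.f243752 IH) (Lpr_gt (f243787 IH) (Lpn (LP (LK LD1_c15 LD2_c27 LD3_c17))))))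
theorem f243795 : Led Lsl_at (LP (LK LD1_c9 LD2_c46 LD3_c3)) = (LP (LK LD1_c5 LD2_c44 LD3_c46)) :=
  Lre_a IH (LK LD1_c9 LD2_c46 LD3_c3) (LK LD1_c5 LD2_c44 LD3_c46) Lrfl Lrfl
theorem f243797 : Led Lsl_bt (LP (LK LD1_c15 LD2_c27 LD3_c17)) = (LP (LK LD1_c25 LD2_c18 LD3_c60)) :=
  Lre_b IH (LK LD1_c15 LD2_c27 LD3_c17) (LK LD1_c25 LD2_c18 LD3_c60) Lrfl Lrfl
theorem f243798 : Led Lsl_af (LP (LK LD1_c17 LD2_c55 LD3_c51)) = (LP (LK LD1_c25 LD2_c18 LD3_c60)) :=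
  Lgr Lrot36 (Lpr_bt (f243796 IH) (Lpr_at (f243795 IH) (Lpr_bt (K20.f243794 IH) (Lpr_at (f243790 IH) (Lpr_bt (f243797 IH) (Lpn (LP (LK LD1_c25 LD2_c18 LD3_c60))))))))
theorem f243800 : Led Lsl_dt (LP (LK LD1_c4 LD2_c30 LD3_c33)) = (LP (LK LD1_c8 LD2_c59 LD3_c27)) :=
  Lre_d IH (LK LD1_c4 LD2_c30 LD3_c33) (LK LD1_c8 LD2_c59 LD3_c27) Lrfl Lrfl
theorem f243801 : Led Lsl_at (LP (LK LD1_c8 LD2_c59 LD3_c19)) = (LP (LK LD1_c4 LD2_c30 LD3_c33)) :=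
  Lre_a IH (LK LD1_c8 LD2_c59 LD3_c19) (LK LD1_c4 LD2_c30 LD3_c33) Lrfl Lrfl
theorem f243802 : Led Lsl_df (LP (LK LD1_c8 LD2_c59 LD3_c19)) = (LP (LK LD1_c15 LD2_c27 LD3_c17)) :=
  Lgr Lrot18 (Lpr_at (f243801 IH) (Lpr_dt (f243800 IH) (Lpr_at (f243790 IH) (Lpn (LP (LK LD1_c15 LD2_c27 LD3_c17))))))
theorem f243812 : Led Lsl_ft (LP (LK LD1_c8 LD2_c59 LD3_c19)) = (LP (LK LD1_c5 LD2_c44 LD3_c39)) :=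
  Lre_f IH (LK LD1_c8 LD2_c59 LD3_c19) (LK LD1_c5 LD2_c44 LD3_c39) Lrfl Lrfl
theorem f243813 : Led Lsl_dt (LP (LK LD1_c5 LD2_c44 LD3_c39)) = (LP (LK LD1_c11 LD2_c19 LD3_c22)) :=
  Lre_d IH (LK LD1_c5 LD2_c44 LD3_c39) (LK LD1_c11 LD2_c19 LD3_c22) Lrfl Lrfl
theorem f243814 : Led Lsl_ft (LP (LK LD1_c11 LD2_c19 LD3_c22)) = (LP (LK LD1_c15 LD2_c27 LD3_c17)) :=
  Lgr Lrot54 (Lpe (f243813 IH) (Lpe (f243812 IH) (Lpr_df (f243802 IH) (Lpn (LP (LK LD1_c15 LD2_c27 LD3_c17))))))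
theorem f243825 : Led Lsl_bt (LP (LK LD1_c20 LD2_c14 LD3_c25)) = (LP (LK LD1_c11 LD2_c19 LD3_c22)) :=
  Lre_b IH (LK LD1_c20 LD2_c14 LD3_c25) (LK LD1_c11 LD2_c19 LD3_c22) Lrfl Lrfl
theorem f243826 : Led Lsl_ff (LP (LK LD1_c20 LD2_c14 LD3_c25)) = (LP (LK LD1_c25 LD2_c18 LD3_c60)) :=
  Lgr Lrot25 (Lpr_bt (f243825 IH) (Lpr_ft (f243814 IH) (Lpr_bt (f243797 IH) (Lpn (LP (LK LD1_c25 LD2_c18 LD3_c60))))))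
theorem f243838 : Led Lsl_ft (LP (LK LD1_c20 LD2_c14 LD3_c25)) = (LP (LK LD1_c25 LD2_c18 LD3_c60)) :=
  Lgr Lrot48 (Lpr_ff (f243826 IH) (Lpn (LP (LK LD1_c25 LD2_c18 LD3_c60))))
theorem f318945 : Led Lsl_gf (LP (LK LD1_c26 LD2_c10 LD3_c40)) = (LP (LK LD1_c20 LD2_c14 LD3_c25)) :=
  Lgr Lrot47 (Lpr_gt (f318943 IH) (Lpr_af (f243798 IH) (Lpe (f243838 IH) (Lpn (LP (LK LD1_c20 LD2_c14 LD3_c25))))))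
theorem f170256 : Led Lsl_gt (LP (LK LD1_c8 LD2_c34 LD3_c60)) = (LP (LK LD1_c4 LD2_c18 LD3_c2)) :=
  Lre_g IH (LK LD1_c8 LD2_c34 LD3_c60) (LK LD1_c4 LD2_c18 LD3_c2) Lrfl Lrfl
theorem f170403 : Led Lsl_bt (LP (LK LD1_c16 LD2_c6 LD3_c17)) = (LP (LK LD1_c8 LD2_c34 LD3_c60)) :=
  Lre_b IH (LK LD1_c16 LD2_c6 LD3_c17) (LK LD1_c8 LD2_c34 LD3_c60) Lrfl Lrfl
theorem f170116 : Led Lsl_bt (LP (LK LD1_c2 LD2_c6 LD3_c21)) = (LP (LK LD1_c1 LD2_c0 LD3_c10)) :=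
  Lre_b IH (LK LD1_c2 LD2_c6 LD3_c21) (LK LD1_c1 LD2_c0 LD3_c10) Lrfl Lrfl
theorem f170117 : Led Lsl_ct (LP (LK LD1_c2 LD2_c6 LD3_c21)) = (LP (LK LD1_c4 LD2_c18 LD3_c2)) :=
  Lre_c IH (LK LD1_c2 LD2_c6 LD3_c21) (LK LD1_c4 LD2_c18 LD3_c2) Lrfl Lrfl
theorem f167037 : Led Lsl_bt (LP (LK LD1_c8 LD2_c22 LD3_c59)) = (LP (LK LD1_c4 LD2_c11 LD3_c42)) :=
  Lre_b IH (LK LD1_c8 LD2_c22 LD3_c59) (LK LD1_c4 LD2_c11 LD3_c42) Lrfl Lrfl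
theorem f170330 : Led Lsl_cf (LP (LK LD1_c8 LD2_c34 LD3_c60)) = (LP (LK LD1_c8 LD2_c22 LD3_c59)) :=
  Lgr Lrot160 (Lpr_gt (f170256 IH) (Lpe (f170117 IH) (Lpr_bt (f170116 IH) (Lpr_gt (K9.f170109 IH) (Lpr_ct (K0.f2216 IH) (Lpr_gt (K9.f2864 IH) (Lpe (K9.f167000 IH) (Lpr_bt (K19.f166997 IH) (Lpr_gt (K41.f167005 IH) (Lpe (f167037 IH) (Lpn (LP (LK LD1_c8 LD2_c22 LD3_c59)))))))))))))
theorem f170383 : Led Lsl_bt (LP (LK LD1_c8 LD2_c34 LD3_c60)) = (LP (LK LD1_c16 LD2_c6 LD3_c17)) :=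
  Lre_b IH (LK LD1_c8 LD2_c34 LD3_c60) (LK LD1_c16 LD2_c6 LD3_c17) Lrfl Lrfl
theorem f167043 : Led Lsl_bt (LP (LK LD1_c4 LD2_c11 LD3_c42)) = (LP (LK LD1_c8 LD2_c22 LD3_c59)) :=
  Lre_b IH (LK LD1_c4 LD2_c11 LD3_c42) (LK LD1_c8 LD2_c22 LD3_c59) Lrfl Lrfl
theorem f167042 : Led Lsl_bt (LP (LK LD1_c15 LD2_c46 LD3_c19)) = (LP (LK LD1_c8 LD2_c22 LD3_c60)) :=
  Lre_b IH (LK LD1_c15 LD2_c46 LD3_c19) (LK LD1_c8 LD2_c22 LD3_c60) Lrfl Lrfl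
theorem f170384 : Led Lsl_ct (LP (LK LD1_c16 LD2_c6 LD3_c17)) = (LP (LK LD1_c15 LD2_c46 LD3_c19)) :=
  Lgr Lrot83 (Lpe (f170383 IH) (Lpr_cf (f170330 IH) (Lpe (f167043 IH) (Lpe (K41.f167041 IH) (Lpe (f167042 IH) (Lpn (LP (LK LD1_c15 LD2_c46 LD3_c19))))))))
theorem f42004 : Led Lsl_bt (LP (LK LD1_c2 LD2_c37 LD3_c11)) = (LP (LK LD1_c5 LD2_c21 LD3_c13)) :=
  Lre_b IH (LK LD1_c2 LD2_c37 LD3_c11) (LK LD1_c5 LD2_c21 LD3_c13) Lrfl Lrfl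
theorem f41994 : Led Lsl_gt (LP (LK LD1_c5 LD2_c21 LD3_c13)) = (LP (LK LD1_c10 LD2_c32 LD3_c38)) :=
  Lre_g IH (LK LD1_c5 LD2_c21 LD3_c13) (LK LD1_c10 LD2_c32 LD3_c38) Lrfl Lrfl
theorem f41997 : Led Lsl_ct (LP (LK LD1_c10 LD2_c32 LD3_c38)) = (LP (LK LD1_c19 LD2_c5 LD3_c47)) :=
  Lre_c IH (LK LD1_c10 LD2_c32 LD3_c38) (LK LD1_c19 LD2_c5 LD3_c47) Lrfl Lrfl
theorem f192372 : Led Lsl_gt (LP (LK LD1_c19 LD2_c5 LD3_c47)) = (LP (LK LD1_c15 LD2_c46 LD3_c19)) :=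
  Lgr Lrot149 (Lpe (f41997 IH) (Lpe (f41994 IH) (Lpe (f42004 IH) (Lpr_ct (K9.f41896 IH) (Lpr_gf (K13.f192368 IH) (Lpe (K50.f166437 IH) (Lpr_bt (K50.f170064 IH) (Lpe (f170256 IH) (Lpe (f170403 IH) (Lpr_ct (f170384 IH) (Lpn (LP (LK LD1_c15 LD2_c46 LD3_c19)))))))))))))
theorem f318772 : Led Lsl_bf (LP (LK LD1_c16 LD2_c41 LD3_c51)) = (LP (LK LD1_c10 LD2_c32 LD3_c38)) :=
  Lgr Lrot34 (Lpr_gf (K27.f318766 IH) (Lpe (K27.f170417 IH) (Lpr_ct (K27.f170416 IH) (Lpe (K27.f53378 IH) (Lpe (K27.f170243 IH) (Lpe (f170256 IH) (Lpe (f170403 IH) (Lpr_ct (f170384 IH) (Lpe (f192372 IH) (Lpe (f41997 IH) (Lpn (LP (LK LD1_c10 LD2_c32 LD3_c38)))))))))))))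
theorem f243851 : Led Lsl_bt (LP (LK LD1_c11 LD2_c19 LD3_c22)) = (LP (LK LD1_c20 LD2_c14 LD3_c25)) :=
  Lre_b IH (LK LD1_c11 LD2_c19 LD3_c22) (LK LD1_c20 LD2_c14 LD3_c25) Lrfl Lrfl
theorem f41999 : Led Lsl_ct (LP (LK LD1_c19 LD2_c5 LD3_c47)) = (LP (LK LD1_c10 LD2_c32 LD3_c38)) :=
  Lre_c IH (LK LD1_c19 LD2_c5 LD3_c47) (LK LD1_c10 LD2_c32 LD3_c38) Lrfl Lrfl
theorem f192384 : Led Lsl_bt (LP (LK LD1_c28 LD2_c31 LD3_c17)) = (LP (LK LD1_c19 LD2_c5 LD3_c47)) :=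
  Lre_b IH (LK LD1_c28 LD2_c31 LD3_c17) (LK LD1_c19 LD2_c5 LD3_c47) Lrfl Lrfl
theorem f318779 : Led Lsl_ct (LP (LK LD1_c20 LD2_c14 LD3_c25)) = (LP (LK LD1_c28 LD2_c31 LD3_c17)) :=
  Lgr Lrot83 (Lpe (f243851 IH) (Lpe (K27.f243828 IH) (Lpr_bf (f318772 IH) (Lpe (f41999 IH) (Lpe (f192384 IH) (Lpn (LP (LK LD1_c28 LD2_c31 LD3_c17))))))))
theorem f318811 : Led Lsl_cf (LP (LK LD1_c20 LD2_c14 LD3_c25)) = (LP (LK LD1_c28 LD2_c31 LD3_c17)) :=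
  Lgr Lrot11 (Lpr_ct (f318779 IH) (Lpn (LP (LK LD1_c28 LD2_c31 LD3_c17))))
theorem f166645 : Led Lsl_bt (LP (LK LD1_c4 LD2_c53 LD3_c29)) = (LP (LK LD1_c9 LD2_c38 LD3_c59)) :=
  Lre_b IH (LK LD1_c4 LD2_c53 LD3_c29) (LK LD1_c9 LD2_c38 LD3_c59) Lrfl Lrfl
theorem f166646 : Led Lsl_gt (LP (LK LD1_c9 LD2_c38 LD3_c59)) = (LP (LK LD1_c17 LD2_c45 LD3_c12)) :=
  Lre_g IH (LK LD1_c9 LD2_c38 LD3_c59) (LK LD1_c17 LD2_c45 LD3_c12) Lrfl Lrfl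
theorem f304553 : Led Lsl_ct (LP (LK LD1_c17 LD2_c45 LD3_c12)) = (LP (LK LD1_c27 LD2_c31 LD3_c38)) :=
  Lre_c IH (LK LD1_c17 LD2_c45 LD3_c12) (LK LD1_c27 LD2_c31 LD3_c38) Lrfl Lrfl
theorem f318815 : Led Lsl_gt (LP (LK LD1_c27 LD2_c31 LD3_c38)) = (LP (LK LD1_c28 LD2_c31 LD3_c17)) :=
  Lgr Lrot149 (Lpe (f304553 IH) (Lpe (f166646 IH) (Lpe (f166645 IH) (Lpr_ct (K18.f166644 IH) (Lpr_gf (K18.f304541 IH) (Lpe (K12.f188812 IH) (Lpr_bt (K20.f188859 IH) (Lpe (K27.f318770 IH) (Lpe (f243825 IH) (Lpr_ct (f318779 IH) (Lpn (LP (LK LD1_c28 LD2_c31 LD3_c17)))))))))))))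
theorem f326208 : Led Lsl_bt (LP (LK LD1_c9 LD2_c38 LD3_c0)) = (LP (LK LD1_c17 LD2_c43 LD3_c41)) :=
  Lre_b IH (LK LD1_c9 LD2_c38 LD3_c0) (LK LD1_c17 LD2_c43 LD3_c41) Lrfl Lrfl
theorem f326165 : Led Lsl_ct (LP (LK LD1_c17 LD2_c43 LD3_c42)) = (LP (LK LD1_c9 LD2_c38 LD3_c0)) :=
  Lre_c IH (LK LD1_c17 LD2_c43 LD3_c42) (LK LD1_c9 LD2_c38 LD3_c0) Lrfl Lrfl
theorem f326204 : Led Lsl_bf (LP (LK LD1_c17 LD2_c45 LD3_c12)) = (LP (LK LD1_c17 LD2_c43 LD3_c42)) :=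
  Lgr Lrot34 (Lpe (f166646 IH) (Lpe (f166645 IH) (Lpr_ct (K18.f166644 IH) (Lpr_gf (K18.f304541 IH) (Lpe (K12.f188812 IH) (Lpr_gf (K13.f232895 IH) (Lpr_bf (K30.f326138 IH) (Lpr_ct (K30.f30696 IH) (Lpe (K30.f229277 IH) (Lpe (f326165 IH) (Lpn (LP (LK LD1_c17 LD2_c43 LD3_c42)))))))))))))
theorem f326206 : Led Lsl_bt (LP (LK LD1_c17 LD2_c45 LD3_c12)) = (LP (LK LD1_c17 LD2_c43 LD3_c42)) :=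
  Lgr Lrot127 (Lpr_bf (f326204 IH) (Lpn (LP (LK LD1_c17 LD2_c43 LD3_c42))))
theorem f318817 : Led Lsl_ct (LP (LK LD1_c27 LD2_c31 LD3_c38)) = (LP (LK LD1_c17 LD2_c45 LD3_c12)) :=
  Lre_c IH (LK LD1_c27 LD2_c31 LD3_c38) (LK LD1_c17 LD2_c45 LD3_c12) Lrfl Lrfl
theorem f397784 : Led Lsl_bt (LP (LK LD1_c26 LD2_c15 LD3_c45)) = (LP (LK LD1_c27 LD2_c31 LD3_c38)) :=
  Lgr Lrot128 (Lpr_cf (K30.f397776 IH) (Lpe (f326208 IH) (Lpe (f326165 IH) (Lpe (f326206 IH) (Lpe (f318817 IH) (Lpn (LP (LK LD1_c27 LD2_c31 LD3_c38))))))))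
theorem f397786 : Led Lsl_ct (LP (LK LD1_c26 LD2_c15 LD3_c45)) = (LP (LK LD1_c17 LD2_c43 LD3_c41)) :=
  Lgr Lrot59 (Lpr_cf (K30.f397776 IH) (Lpn (LP (LK LD1_c17 LD2_c43 LD3_c41))))
theorem f397989 : Led Lsl_gf (LP (LK LD1_c17 LD2_c43 LD3_c41)) = (LP (LK LD1_c16 LD2_c14 LD3_c3)) :=
  Lgr Lrot126 (Lpe (f397786 IH) (Lpr_bt (f397784 IH) (Lpr_gt (f318815 IH) (Lpe (f318811 IH) (Lpe (f318945 IH) (Lpe (f292723 IH) (Lpr_bt (f318951 IH) (Lpr_gt (K41.f397986 IH) (Lpe (K41.f279949 IH) (Lpr_ct (K50.f279948 IH) (Lpn (LP (LK LD1_c16 LD2_c14 LD3_c3)))))))))))))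
theorem f398206 : Led Lsl_gf (LP (LK LD1_c16 LD2_c13 LD3_c60)) = (LP (LK LD1_c17 LD2_c43 LD3_c41)) :=
  Lgr Lrot76 (Lpr_af (K52.f398120 IH) (Lpe (K52.f397976 IH) (Lpe (f397989 IH) (Lpn (LP (LK LD1_c17 LD2_c43 LD3_c41))))))
theorem f398339 : Led Lsl_bf (LP (LK LD1_c16 LD2_c17 LD3_c58)) = (LP (LK LD1_c9 LD2_c39 LD3_c12)) :=
  Lgr Lrot24 (Lpr_bt (K52.f397764 IH) (Lpn (LP (LK LD1_c9 LD2_c39 LD3_c12))))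
theorem f693539 : Led Lsl_gf (LP (LK LD1_c4 LD2_c53 LD3_c41)) = K52.v12559 :=
  Lgr Lrot126 (Lpe (K52.f2857 IH) (Lpe (f398339 IH) (Lpr_gt (K30.f397775 IH) (Lpr_ct (f397786 IH) (Lpe (f398206 IH) (Lpe (K41.f279951 IH) (Lpr_bt (K41.f279952 IH) (Lpe (K41.f403681 IH) (Lpe (K52.f403655 IH) (Lpr_ct (K52.f693537 IH) (Lpn K52.v12559)))))))))))
theorem f718568 : Led Lsl_at K52.v12442 = K52.v14012 :=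
  Lgr Lrot26 (Lpr_ff (K52.f693536 IH) (Lpe (f693539 IH) (Lpr_gt (K52.f718567 IH) (Lpn K52.v14012))))
theorem f692178 : Led Lsl_ct (LP (LK LD1_c8 LD2_c23 LD3_c4)) = K52.v12442 :=
  Lgr Lrot59 (Lpr_cf (K52.f692175 IH) (Lpn K52.v12442))
theorem f403660 : Led Lsl_at (LP (LK LD1_c8 LD2_c35 LD3_c29)) = (LP (LK LD1_c8 LD2_c23 LD3_c4)) :=
  Lgr Lrot66 (Lpr_ff (K41.f403647 IH) (Lpe (K41.f403653 IH) (Lpr_ff (K41.f403658 IH) (Lpn (LP (LK LD1_c8 LD2_c23 LD3_c4))))))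
theorem f718570 : Led Lsl_cf (LP (LK LD1_c8 LD2_c35 LD3_c29)) = K52.v14012 :=
  Lgr Lrot1 (Lpr_at (f403660 IH) (Lpr_ct (f692178 IH) (Lpr_at (f718568 IH) (Lpn K52.v14012))))
theorem f234727 : Led Lsl_bt (LP (LK LD1_c15 LD2_c38 LD3_c44)) = (LP (LK LD1_c8 LD2_c19 LD3_c5)) :=
  Lre_b IH (LK LD1_c15 LD2_c38 LD3_c44) (LK LD1_c8 LD2_c19 LD3_c5) Lrfl Lrfl
theorem f403643 : Led Lsl_bt (LP (LK LD1_c15 LD2_c33 LD3_c47)) = (LP (LK LD1_c8 LD2_c23 LD3_c16)) :=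
  Lgr Lrot35 (Lpr_ff (K41.f403639 IH) (Lpe (f234727 IH) (Lpe (K52.f403621 IH) (Lpn (LP (LK LD1_c8 LD2_c23 LD3_c16))))))
theorem f718571 : Led Lsl_bt K52.v13970 = K52.v14012 :=
  Lgr Lrot128 (Lpe (K52.f717520 IH) (Lpe (f403643 IH) (Lpe (K41.f304859 IH) (Lpe (K41.f304862 IH) (Lpr_cf (f718570 IH) (Lpn K52.v14012))))))
theorem f717521 : Led Lsl_cf (LP (LK LD1_c8 LD2_c23 LD3_c16)) = K52.v13970 :=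
  Lgr Lrot11 (Lpr_ct (K52.f717520 IH) (Lpn K52.v13970))
theorem f51793 : Led Lsl_ct (LP (LK LD1_c2 LD2_c3 LD3_c5)) = (LP (LK LD1_c4 LD2_c11 LD3_c49)) :=
  Lre_c IH (LK LD1_c2 LD2_c3 LD3_c5) (LK LD1_c4 LD2_c11 LD3_c49) Lrfl Lrfl
theorem f406181 : Led Lsl_bt (LP (LK LD1_c2 LD2_c3 LD3_c5)) = (LP (LK LD1_c4 LD2_c11 LD3_c48)) :=
  Lre_b IH (LK LD1_c2 LD2_c3 LD3_c5) (LK LD1_c4 LD2_c11 LD3_c48) Lrfl Lrfl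
def v12463 : LQ := Led Lsl_gt (LP (LK LD1_c4 LD2_c11 LD3_c48))
theorem f692300 : Led Lsl_gt (LP (LK LD1_c4 LD2_c11 LD3_c48)) = v12463 :=
  Lrfl
theorem f397687 : Led Lsl_bt (LP (LK LD1_c2 LD2_c24 LD3_c39)) = (LP (LK LD1_c4 LD2_c53 LD3_c41)) :=
  Lre_b IH (LK LD1_c2 LD2_c24 LD3_c39) (LK LD1_c4 LD2_c53 LD3_c41) Lrfl Lrfl
theorem f397698 : Led Lsl_ff (LP (LK LD1_c9 LD2_c37 LD3_c23)) = (LP (LK LD1_c4 LD2_c53 LD3_c38)) :=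
  Lgr Lrot23 (Lpr_ct (K38.f2333 IH) (Lpr_ft (K30.f397696 IH) (Lpr_ct (K27.f2289 IH) (Lpn (LP (LK LD1_c4 LD2_c53 LD3_c38))))))
theorem f2286 : Led Lsl_gt (LP (LK LD1_c4 LD2_c53 LD3_c38)) = (LP (LK LD1_c9 LD2_c39 LD3_c6)) :=
  Lre_g IH (LK LD1_c4 LD2_c53 LD3_c38) (LK LD1_c9 LD2_c39 LD3_c6) Lrfl Lrfl
theorem f397712 : Led Lsl_gf (LP (LK LD1_c4 LD2_c53 LD3_c42)) = (LP (LK LD1_c9 LD2_c39 LD3_c6)) :=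
  Lgr Lrot76 (Lpe (K30.f397694 IH) (Lpr_ff (f397698 IH) (Lpr_gt (f2286 IH) (Lpn (LP (LK LD1_c9 LD2_c39 LD3_c6))))))
theorem f718576 : Led Lsl_ct v12463 = (LP (LK LD1_c9 LD2_c39 LD3_c6)) :=
  Lgr Lrot91 (Lpe (f692300 IH) (Lpe (f406181 IH) (Lpr_ct (f51793 IH) (Lpe (K52.f400739 IH) (Lpr_cf (f717521 IH) (Lpr_bt (f718571 IH) (Lpe (K52.f718567 IH) (Lpe (f397687 IH) (Lpr_ct (K38.f2839 IH) (Lpr_gf (f397712 IH) (Lpn (LP (LK LD1_c9 LD2_c39 LD3_c6)))))))))))))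
theorem f170966 : Led Lsl_dt (LP (LK LD1_c4 LD2_c11 LD3_c48)) = (LP (LK LD1_c8 LD2_c23 LD3_c14)) :=
  Lre_d IH (LK LD1_c4 LD2_c11 LD3_c48) (LK LD1_c8 LD2_c23 LD3_c14) Lrfl Lrfl
theorem f692468 : Led Lsl_gt (LP (LK LD1_c15 LD2_c49 LD3_c8)) = (LP (LK LD1_c9 LD2_c39 LD3_c14)) :=
  Lgr Lrot146 (Lpr_dt (K49.f692463 IH) (Lpr_gt (K49.f30595 IH) (Lpr_ct (K52.f30579 IH) (Lpe (K49.f602072 IH) (Lpr_ct (K38.f178412 IH) (Lpr_dt (K38.f166484 IH) (Lpe (K38.f166485 IH) (Lpr_gf (K38.f550858 IH) (Lpe (K39.f2836 IH) (Lpn (LP (LK LD1_c9 LD2_c39 LD3_c14))))))))))))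
theorem f718580 : Led Lsl_gt (LP (LK LD1_c8 LD2_c23 LD3_c14)) = (LP (LK LD1_c8 LD2_c25 LD3_c1)) :=
  Lgr Lrot9 (Lpe (f170966 IH) (Lpr_gt (f692300 IH) (Lpr_ct (f718576 IH) (Lpe (f397712 IH) (Lpr_ct (K30.f2845 IH) (Lpe (K39.f2848 IH) (Lpe (K39.f2836 IH) (Lpe (f692468 IH) (Lpe (K49.f263801 IH) (Lpn (LP (LK LD1_c8 LD2_c25 LD3_c1))))))))))))
theorem f718581 : Led Lsl_gt (LP (LK LD1_c8 LD2_c23 LD3_c14)) = (LP (LK LD1_c8 LD2_c25 LD3_c1)) :=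
  Leop (Lpe (f718580 IH) (Lpn (LP (LK LD1_c8 LD2_c23 LD3_c14))))
theorem seed_799 : LEOK LG_g (LK LD1_c8 LD2_c23 LD3_c14) :=
  Leoe_g (LK LD1_c8 LD2_c23 LD3_c14) (f718581 IH)
def v14038 : LQ := Led Lsl_bt (LP (LK LD1_c4 LD2_c55 LD3_c54))
theorem f718693 : Led Lsl_bt (LP (LK LD1_c4 LD2_c55 LD3_c54)) = v14038 :=
  Lrfl
theorem f718694 : Led Lsl_bf (LP (LK LD1_c4 LD2_c55 LD3_c54)) = v14038 :=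
  Lgr Lrot24 (Lpr_bt (f718693 IH) (Lpn v14038))
theorem f224555 : Led Lsl_et (LP (LK LD1_c5 LD2_c20 LD3_c46)) = (LP (LK LD1_c2 LD2_c36 LD3_c61)) :=
  Lre_e IH (LK LD1_c5 LD2_c20 LD3_c46) (LK LD1_c2 LD2_c36 LD3_c61) Lrfl Lrfl
theorem f318290 : Led Lsl_af (LP (LK LD1_c5 LD2_c20 LD3_c46)) = (LP (LK LD1_c2 LD2_c38 LD3_c40)) :=
  Lgr Lrot50 (Lpr_et (f224555 IH) (Lpr_at (K20.f318278 IH) (Lpr_et (K20.f284183 IH) (Lpn (LP (LK LD1_c2 LD2_c38 LD3_c40))))))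
theorem f258099 : Led Lsl_gt (LP (LK LD1_c10 LD2_c31 LD3_c37)) = (LP (LK LD1_c5 LD2_c20 LD3_c46)) :=
  Lre_g IH (LK LD1_c10 LD2_c31 LD3_c37) (LK LD1_c5 LD2_c20 LD3_c46) Lrfl Lrfl
theorem f318301 : Led Lsl_ft (LP (LK LD1_c5 LD2_c24 LD3_c21)) = (LP (LK LD1_c2 LD2_c38 LD3_c40)) :=
  Lre_f IH (LK LD1_c5 LD2_c24 LD3_c21) (LK LD1_c2 LD2_c38 LD3_c40) Lrfl Lrfl
theorem f402667 : Led Lsl_gf (LP (LK LD1_c10 LD2_c31 LD3_c37)) = (LP (LK LD1_c5 LD2_c24 LD3_c21)) :=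
  Lgr Lrot47 (Lpr_gt (f258099 IH) (Lpr_af (f318290 IH) (Lpe (f318301 IH) (Lpn (LP (LK LD1_c5 LD2_c24 LD3_c21))))))
theorem f718699 : Led Lsl_cf (LP (LK LD1_c10 LD2_c31 LD3_c37)) = v14038 :=
  Lgr Lrot58 (Lpr_gf (f402667 IH) (Lpe (K20.f318318 IH) (Lpr_bt (K25.f318323 IH) (Lpe (K23.f346030 IH) (Lpe (K23.f345947 IH) (Lpr_ct (K23.f246108 IH) (Lpr_gf (K23.f345938 IH) (Lpr_cf (K23.f319665 IH) (Lpe (K16.f168795 IH) (Lpr_bf (f718694 IH) (Lpn v14038)))))))))))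
theorem f718700 : Led Lsl_bt (LP (LK LD1_c10 LD2_c31 LD3_c37)) = (LP (LK LD1_c19 LD2_c4 LD3_c33)) :=
  Lre_b IH (LK LD1_c10 LD2_c31 LD3_c37) (LK LD1_c19 LD2_c4 LD3_c33) Lrfl Lrfl
theorem f274757 : Led Lsl_ct (LP (LK LD1_c9 LD2_c43 LD3_c32)) = (LP (LK LD1_c4 LD2_c55 LD3_c54)) :=
  Lre_c IH (LK LD1_c9 LD2_c43 LD3_c32) (LK LD1_c4 LD2_c55 LD3_c54) Lrfl Lrfl
theorem f358275 : Led Lsl_bt (LP (LK LD1_c17 LD2_c52 LD3_c47)) = (LP (LK LD1_c9 LD2_c43 LD3_c32)) :=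
  Lre_b IH (LK LD1_c17 LD2_c52 LD3_c47) (LK LD1_c9 LD2_c43 LD3_c32) Lrfl Lrfl
theorem f718701 : Led Lsl_ct (LP (LK LD1_c19 LD2_c4 LD3_c33)) = (LP (LK LD1_c17 LD2_c52 LD3_c47)) :=
  Lgr Lrot83 (Lpe (f718700 IH) (Lpr_cf (f718699 IH) (Lpe (f718693 IH) (Lpe (f274757 IH) (Lpe (f358275 IH) (Lpn (LP (LK LD1_c17 LD2_c52 LD3_c47))))))))
theorem f718702 : Led Lsl_ct (LP (LK LD1_c19 LD2_c4 LD3_c33)) = (LP (LK LD1_c17 LD2_c52 LD3_c47)) :=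
  Leop (Lpe (f718701 IH) (Lpn (LP (LK LD1_c19 LD2_c4 LD3_c33))))
theorem seed_800 : LEOK LG_c (LK LD1_c19 LD2_c4 LD3_c33) :=
  Leoe_c (LK LD1_c19 LD2_c4 LD3_c33) (f718702 IH)
def v14118 : LQ := Led Lsl_ft (LP (LK LD1_c4 LD2_c58 LD3_c60))
theorem f719091 : Led Lsl_ft (LP (LK LD1_c4 LD2_c58 LD3_c60)) = v14118 :=
  Lrfl
theorem f719093 : Led Lsl_ff (LP (LK LD1_c4 LD2_c58 LD3_c60)) = v14118 :=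
  Lgr Lrot3 (Lpr_ft (f719091 IH) (Lpn v14118))
theorem f56725 : Led Lsl_gt (LP (LK LD1_c2 LD2_c52 LD3_c37)) = (LP (LK LD1_c5 LD2_c52 LD3_c42)) :=
  Lre_g IH (LK LD1_c2 LD2_c52 LD3_c37) (LK LD1_c5 LD2_c52 LD3_c42) Lrfl Lrfl
theorem f505674 : Led Lsl_gt (LP (LK LD1_c5 LD2_c52 LD3_c42)) = (LP (LK LD1_c6 LD2_c30 LD3_c21)) :=
  Lgr Lrot46 (Lpe (f56725 IH) (Lpr_ft (K52.f505666 IH) (Lpr_at (K52.f505669 IH) (Lpn (LP (LK LD1_c6 LD2_c30 LD3_c21))))))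
theorem f428367 : Led Lsl_af (LP (LK LD1_c3 LD2_c59 LD3_c35)) = (LP (LK LD1_c5 LD2_c47 LD3_c27)) :=
  Lgr Lrot0 (Lpr_at (K52.f160906 IH) (Lpn (LP (LK LD1_c5 LD2_c47 LD3_c27))))
theorem f711241 : Led Lsl_ft (LP (LK LD1_c5 LD2_c52 LD3_c42)) = (LP (LK LD1_c5 LD2_c47 LD3_c27)) :=
  Lgr Lrot2 (Lpr_gt (f505674 IH) (Lpr_gt (K52.f640862 IH) (Lpqs (K52.f711180 IH) (Lpr_af (f428367 IH) (Lpn (LP (LK LD1_c5 LD2_c47 LD3_c27)))))))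
theorem f711248 : Led Lsl_ff (LP (LK LD1_c5 LD2_c52 LD3_c42)) = (LP (LK LD1_c5 LD2_c47 LD3_c27)) :=
  Lgr Lrot3 (Lpr_ft (f711241 IH) (Lpn (LP (LK LD1_c5 LD2_c47 LD3_c27))))
theorem f719094 : Led Lsl_bt (LP (LK LD1_c5 LD2_c52 LD3_c42)) = v14118 :=
  Lgr Lrot35 (Lpr_ff (f711248 IH) (Lpe (K41.f74973 IH) (Lpr_ff (f719093 IH) (Lpn v14118))))
theorem f438671 : Led Lsl_ct (LP (LK LD1_c5 LD2_c52 LD3_c42)) = (LP (LK LD1_c11 LD2_c31 LD3_c46)) :=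
  Lre_c IH (LK LD1_c5 LD2_c52 LD3_c42) (LK LD1_c11 LD2_c31 LD3_c46) Lrfl Lrfl
theorem f711253 : Led Lsl_ft (LP (LK LD1_c11 LD2_c31 LD3_c46)) = (LP (LK LD1_c11 LD2_c24 LD3_c53)) :=
  Lgr Lrot4 (Lpe (f438671 IH) (Lpr_ff (f711248 IH) (Lpe (K4.f74975 IH) (Lpn (LP (LK LD1_c11 LD2_c24 LD3_c53))))))
theorem f112505 : Led Lsl_ct (LP (LK LD1_c8 LD2_c0 LD3_c16)) = (LP (LK LD1_c3 LD2_c59 LD3_c35)) :=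
  Lre_c IH (LK LD1_c8 LD2_c0 LD3_c16) (LK LD1_c3 LD2_c59 LD3_c35) Lrfl Lrfl
theorem f74978 : Led Lsl_ct (LP (LK LD1_c5 LD2_c47 LD3_c27)) = (LP (LK LD1_c11 LD2_c24 LD3_c53)) :=
  Lre_c IH (LK LD1_c5 LD2_c47 LD3_c27) (LK LD1_c11 LD2_c24 LD3_c53) Lrfl Lrfl
theorem f428369 : Led Lsl_af (LP (LK LD1_c8 LD2_c0 LD3_c16)) = (LP (LK LD1_c11 LD2_c24 LD3_c53)) :=
  Lgr Lrot68 (Lpr_ct (f112505 IH) (Lpr_at (K52.f160906 IH) (Lpr_ct (f74978 IH) (Lpn (LP (LK LD1_c11 LD2_c24 LD3_c53))))))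
theorem f82962 : Led Lsl_ct (LP (LK LD1_c12 LD2_c30 LD3_c2)) = (LP (LK LD1_c6 LD2_c30 LD3_c20)) :=
  Lre_c IH (LK LD1_c12 LD2_c30 LD3_c2) (LK LD1_c6 LD2_c30 LD3_c20) Lrfl Lrfl
theorem f641807 : Led Lsl_ft (LP (LK LD1_c8 LD2_c0 LD3_c16)) = (LP (LK LD1_c12 LD2_c30 LD3_c2)) :=
  Lgr Lrot4 (Lpe (K52.f112511 IH) (Lpr_ff (K52.f641797 IH) (Lpe (f82962 IH) (Lpn (LP (LK LD1_c12 LD2_c30 LD3_c2))))))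
theorem f711256 : Led Lsl_af (LP (LK LD1_c11 LD2_c31 LD3_c46)) = (LP (LK LD1_c12 LD2_c30 LD3_c2)) :=
  Lgr Lrot45 (Lpr_ft (f711253 IH) (Lpe (f428369 IH) (Lpr_ft (f641807 IH) (Lpn (LP (LK LD1_c12 LD2_c30 LD3_c2))))))
theorem f711267 : Led Lsl_gf (LP (LK LD1_c11 LD2_c31 LD3_c46)) = (LP (LK LD1_c15 LD2_c4 LD3_c56)) :=
  Lgr Lrot76 (Lpr_af (f711256 IH) (Lpe (f641807 IH) (Lpr_gt (K52.f208407 IH) (Lpn (LP (LK LD1_c15 LD2_c4 LD3_c56))))))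
theorem f151956 : Led Lsl_bt (LP (LK LD1_c9 LD2_c6 LD3_c20)) = (LP (LK LD1_c5 LD2_c52 LD3_c5)) :=
  Lgr Lrot127 (Lpr_bf (K7.f151954 IH) (Lpn (LP (LK LD1_c5 LD2_c52 LD3_c5))))
theorem f436226 : Led Lsl_gt (LP (LK LD1_c5 LD2_c52 LD3_c5)) = (LP (LK LD1_c2 LD2_c52 LD3_c31)) :=
  Lre_g IH (LK LD1_c5 LD2_c52 LD3_c5) (LK LD1_c2 LD2_c52 LD3_c31) Lrfl Lrfl
theorem f436235 : Led Lsl_ct (LP (LK LD1_c2 LD2_c52 LD3_c31)) = (LP (LK LD1_c5 LD2_c52 LD3_c28)) :=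
  Lre_c IH (LK LD1_c2 LD2_c52 LD3_c31) (LK LD1_c5 LD2_c52 LD3_c28) Lrfl Lrfl
theorem f416606 : Led Lsl_df (LP (LK LD1_c12 LD2_c3 LD3_c53)) = (LP (LK LD1_c6 LD2_c46 LD3_c39)) :=
  Lgr Lrot38 (Lpr_dt (K35.f416603 IH) (Lpn (LP (LK LD1_c6 LD2_c46 LD3_c39))))
theorem f176079 : Led Lsl_et (LP (LK LD1_c4 LD2_c39 LD3_c18)) = (LP (LK LD1_c9 LD2_c14 LD3_c15)) :=
  Lre_e IH (LK LD1_c4 LD2_c39 LD3_c18) (LK LD1_c9 LD2_c14 LD3_c15) Lrfl Lrfl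
theorem f622547 : Led Lsl_gf (LP (LK LD1_c9 LD2_c14 LD3_c15)) = (LP (LK LD1_c11 LD2_c31 LD3_c35)) :=
  Lgr Lrot141 (Lpe (f176079 IH) (Lpr_dt (K10.f176077 IH) (Lpr_gt (K9.f176055 IH) (Lpe (K9.f100691 IH) (Lpe (K9.f100720 IH) (Lpr_gt (K17.f414710 IH) (Lpe (K17.f414716 IH) (Lpe (K35.f416608 IH) (Lpr_df (f416606 IH) (Lpr_et (K49.f622543 IH) (Lpn (LP (LK LD1_c11 LD2_c31 LD3_c35)))))))))))))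
theorem f406396 : Led Lsl_et (LP (LK LD1_c2 LD2_c51 LD3_c32)) = (LP (LK LD1_c5 LD2_c50 LD3_c43)) :=
  Lre_e IH (LK LD1_c2 LD2_c51 LD3_c32) (LK LD1_c5 LD2_c50 LD3_c43) Lrfl Lrfl
theorem f494546 : Led Lsl_et (LP (LK LD1_c11 LD2_c16 LD3_c31)) = (LP (LK LD1_c5 LD2_c43 LD3_c8)) :=
  Lre_e IH (LK LD1_c11 LD2_c16 LD3_c31) (LK LD1_c5 LD2_c43 LD3_c8) Lrfl Lrfl
theorem f494547 : Led Lsl_ct (LP (LK LD1_c5 LD2_c50 LD3_c43)) = (LP (LK LD1_c11 LD2_c16 LD3_c31)) :=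
  Lgr Lrot15 (Lpe (f406396 IH) (Lpr_cf (K30.f494541 IH) (Lpe (f494546 IH) (Lpn (LP (LK LD1_c11 LD2_c16 LD3_c31))))))
theorem f494550 : Led Lsl_cf (LP (LK LD1_c5 LD2_c50 LD3_c43)) = (LP (LK LD1_c11 LD2_c16 LD3_c31)) :=
  Lgr Lrot11 (Lpr_ct (f494547 IH) (Lpn (LP (LK LD1_c11 LD2_c16 LD3_c31))))
theorem f622551 : Led Lsl_gf (LP (LK LD1_c11 LD2_c16 LD3_c31)) = (LP (LK LD1_c5 LD2_c52 LD3_c28)) :=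
  Lgr Lrot104 (Lpe (f494550 IH) (Lpr_df (K30.f494539 IH) (Lpe (K49.f268336 IH) (Lpr_gf (f622547 IH) (Lpe (K49.f599822 IH) (Lpr_gf (K45.f599820 IH) (Lpe (K45.f599767 IH) (Lpr_gt (f436226 IH) (Lpr_ct (f436235 IH) (Lpn (LP (LK LD1_c5 LD2_c52 LD3_c28))))))))))))
theorem f642990 : Led Lsl_bt (LP (LK LD1_c5 LD2_c58 LD3_c42)) = (LP (LK LD1_c11 LD2_c41 LD3_c52)) :=
  Lre_b IH (LK LD1_c5 LD2_c58 LD3_c42) (LK LD1_c11 LD2_c41 LD3_c52) Lrfl Lrfl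
theorem f642991 : Led Lsl_gt (LP (LK LD1_c11 LD2_c29 LD3_c9)) = (LP (LK LD1_c11 LD2_c41 LD3_c52)) :=
  Lgr Lrot164 (Lpe (K36.f494552 IH) (Lpr_ct (f494547 IH) (Lpr_gf (f622551 IH) (Lpe (f436235 IH) (Lpe (f436226 IH) (Lpe (f151956 IH) (Lpr_ct (K52.f151958 IH) (Lpe (K52.f146601 IH) (Lpr_cf (K52.f642964 IH) (Lpr_bt (f642990 IH) (Lpn (LP (LK LD1_c11 LD2_c41 LD3_c52)))))))))))))
theorem f622555 : Led Lsl_bt (LP (LK LD1_c2 LD2_c52 LD3_c31)) = (LP (LK LD1_c5 LD2_c52 LD3_c27)) :=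
  Lre_b IH (LK LD1_c2 LD2_c52 LD3_c31) (LK LD1_c5 LD2_c52 LD3_c27) Lrfl Lrfl
theorem f719095 : Led Lsl_gf (LP (LK LD1_c5 LD2_c52 LD3_c27)) = v14118 :=
  Lgr Lrot124 (Lpe (f622555 IH) (Lpr_ct (f436235 IH) (Lpe (f622551 IH) (Lpe (f494547 IH) (Lpr_bt (K36.f494552 IH) (Lpr_gt (f642991 IH) (Lpr_ct (K52.f711235 IH) (Lpe (f711267 IH) (Lpe (f438671 IH) (Lpr_bt (f719094 IH) (Lpn v14118)))))))))))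
theorem f719096 : Led Lsl_gt (LP (LK LD1_c5 LD2_c52 LD3_c27)) = (LP (LK LD1_c9 LD2_c47 LD3_c40)) :=
  Lgr Lrot46 (Lpr_gf (f719095 IH) (Lpe (f719093 IH) (Lpr_at (K52.f74972 IH) (Lpn (LP (LK LD1_c9 LD2_c47 LD3_c40))))))
theorem f719097 : Led Lsl_gt (LP (LK LD1_c5 LD2_c52 LD3_c27)) = (LP (LK LD1_c9 LD2_c47 LD3_c40)) :=
  Leop (Lpe (f719096 IH) (Lpn (LP (LK LD1_c5 LD2_c52 LD3_c27))))
theorem seed_801 : LEOK LG_g (LK LD1_c5 LD2_c52 LD3_c27) :=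
  Leoe_g (LK LD1_c5 LD2_c52 LD3_c27) (f719097 IH)
def v14125 : LQ := Led Lsl_et (LP (LK LD1_c4 LD2_c59 LD3_c19))
theorem f719133 : Led Lsl_et (LP (LK LD1_c4 LD2_c59 LD3_c19)) = v14125 :=
  Lrfl
theorem f719134 : Led Lsl_ef (LP (LK LD1_c4 LD2_c59 LD3_c19)) = v14125 :=
  Lgr Lrot88 (Lpr_et (f719133 IH) (Lpn v14125))
theorem f535816 : Led Lsl_gt (LP (LK LD1_c11 LD2_c30 LD3_c59)) = (LP (LK LD1_c5 LD2_c51 LD3_c52)) :=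
  Lre_g IH (LK LD1_c11 LD2_c30 LD3_c59) (LK LD1_c5 LD2_c51 LD3_c52) Lrfl Lrfl
theorem f643093 : Led Lsl_et (LP (LK LD1_c17 LD2_c55 LD3_c30)) = (LP (LK LD1_c11 LD2_c30 LD3_c59)) :=
  Lgr Lrot121 (Lpr_dt (K52.f415220 IH) (Lpe (K52.f140554 IH) (Lpe (K1.f40273 IH) (Lpr_et (K1.f40298 IH) (Lpe (K0.f26396 IH) (Lpe (K42.f80044 IH) (Lpe (K50.f570764 IH) (Lpr_gf (K50.f643087 IH) (Lpe (K45.f622574 IH) (Lpe (f535816 IH) (Lpn (LP (LK LD1_c11 LD2_c30 LD3_c59)))))))))))))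
theorem f535792 : Led Lsl_et (LP (LK LD1_c2 LD2_c52 LD3_c10)) = (LP (LK LD1_c5 LD2_c51 LD3_c52)) :=
  Lre_e IH (LK LD1_c2 LD2_c52 LD3_c10) (LK LD1_c5 LD2_c51 LD3_c52) Lrfl Lrfl
theorem f535820 : Led Lsl_dt (LP (LK LD1_c2 LD2_c52 LD3_c10)) = (LP (LK LD1_c5 LD2_c51 LD3_c51)) :=
  Lre_d IH (LK LD1_c2 LD2_c52 LD3_c10) (LK LD1_c5 LD2_c51 LD3_c51) Lrfl Lrfl
theorem f640758 : Led Lsl_gt (LP (LK LD1_c5 LD2_c51 LD3_c51)) = (LP (LK LD1_c11 LD2_c30 LD3_c55)) :=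
  Lre_g IH (LK LD1_c5 LD2_c51 LD3_c51) (LK LD1_c11 LD2_c30 LD3_c55) Lrfl Lrfl
theorem f719135 : Led Lsl_df (LP (LK LD1_c11 LD2_c30 LD3_c55)) = v14125 :=
  Lgr Lrot168 (Lpe (f640758 IH) (Lpe (f535820 IH) (Lpr_et (f535792 IH) (Lpe (f535816 IH) (Lpe (f643093 IH) (Lpr_dt (K52.f415220 IH) (Lpe (K52.f140554 IH) (Lpe (K1.f40273 IH) (Lpe (K9.f40306 IH) (Lpr_ef (f719134 IH) (Lpn v14125)))))))))))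
theorem f140182 : Led Lsl_dt (LP (LK LD1_c9 LD2_c49 LD3_c2)) = (LP (LK LD1_c4 LD2_c59 LD3_c19)) :=
  Lre_d IH (LK LD1_c9 LD2_c49 LD3_c2) (LK LD1_c4 LD2_c59 LD3_c19) Lrfl Lrfl
theorem f165127 : Led Lsl_gt (LP (LK LD1_c5 LD2_c37 LD3_c32)) = (LP (LK LD1_c11 LD2_c6 LD3_c40)) :=
  Lre_g IH (LK LD1_c5 LD2_c37 LD3_c32) (LK LD1_c11 LD2_c6 LD3_c40) Lrfl Lrfl
theorem f174703 : Led Lsl_et (LP (LK LD1_c4 LD2_c57 LD3_c29)) = (LP (LK LD1_c2 LD2_c26 LD3_c37)) :=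
  Lre_e IH (LK LD1_c4 LD2_c57 LD3_c29) (LK LD1_c2 LD2_c26 LD3_c37) Lrfl Lrfl
theorem f384147 : Led Lsl_ef (LP (LK LD1_c11 LD2_c6 LD3_c40)) = (LP (LK LD1_c9 LD2_c49 LD3_c2)) :=
  Lgr Lrot17 (Lpe (f165127 IH) (Lpe (K41.f165139 IH) (Lpr_dt (K20.f165124 IH) (Lpe (K35.f165148 IH) (Lpr_df (K38.f384140 IH) (Lpe (K38.f161282 IH) (Lpe (f174703 IH) (Lpr_dt (K45.f104921 IH) (Lpe (K9.f40306 IH) (Lpe (f140182 IH) (Lpn (LP (LK LD1_c9 LD2_c49 LD3_c2)))))))))))))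
theorem f384153 : Led Lsl_et (LP (LK LD1_c11 LD2_c6 LD3_c40)) = (LP (LK LD1_c9 LD2_c49 LD3_c2)) :=
  Lgr Lrot87 (Lpr_ef (f384147 IH) (Lpn (LP (LK LD1_c9 LD2_c49 LD3_c2))))
theorem f165135 : Led Lsl_dt (LP (LK LD1_c20 LD2_c0 LD3_c3)) = (LP (LK LD1_c11 LD2_c6 LD3_c40)) :=
  Lre_d IH (LK LD1_c20 LD2_c0 LD3_c3) (LK LD1_c11 LD2_c6 LD3_c40) Lrfl Lrfl
theorem f719137 : Led Lsl_et (LP (LK LD1_c11 LD2_c30 LD3_c55)) = (LP (LK LD1_c20 LD2_c0 LD3_c3)) :=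
  Lgr Lrot71 (Lpr_df (f719135 IH) (Lpe (f719133 IH) (Lpe (f140182 IH) (Lpe (f384153 IH) (Lpe (f165135 IH) (Lpn (LP (LK LD1_c20 LD2_c0 LD3_c3))))))))
theorem f719138 : Led Lsl_et (LP (LK LD1_c11 LD2_c30 LD3_c55)) = (LP (LK LD1_c20 LD2_c0 LD3_c3)) :=
  Leop (Lpe (f719137 IH) (Lpn (LP (LK LD1_c11 LD2_c30 LD3_c55))))
theorem seed_802 : LEOK LG_e (LK LD1_c11 LD2_c30 LD3_c55) :=
  Leoe_e (LK LD1_c11 LD2_c30 LD3_c55) (f719138 IH)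
def v14126 : LQ := Led Lsl_et (LP (LK LD1_c4 LD2_c59 LD3_c27))
theorem f719141 : Led Lsl_et (LP (LK LD1_c4 LD2_c59 LD3_c27)) = v14126 :=
  Lrfl
theorem f719143 : Led Lsl_ef (LP (LK LD1_c4 LD2_c59 LD3_c27)) = v14126 :=
  Lgr Lrot88 (Lpr_et (f719141 IH) (Lpn v14126))
theorem f648738 : Led Lsl_gf K51.v4839 = K52.v5661 :=
  Lgr Lrot76 (Lpe (K51.f640534 IH) (Lpe (K51.f623184 IH) (Lpr_gt (K52.f648737 IH) (Lpn K52.v5661))))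
theorem f57017 : Led Lsl_gt (LP (LK LD1_c2 LD2_c27 LD3_c35)) = (LP (LK LD1_c4 LD2_c59 LD3_c27)) :=
  Lre_g IH (LK LD1_c2 LD2_c27 LD3_c35) (LK LD1_c4 LD2_c59 LD3_c27) Lrfl Lrfl
theorem f698949 : K51.v4839 = (LP (LK LD1_c4 LD2_c59 LD3_c27)) :=
  Lefun (Lecon (Lfl_gf (f648738 IH)) (K52.f698948 IH)) (f57017 IH)
theorem f719144 : Led Lsl_at K48.v4840 = v14126 :=
  Lgr Lrot80 (Lpe (K48.f640542 IH) (Lpr_af (K51.f640535 IH) (Lpqs (f698949 IH) (Lpr_ef (f719143 IH) (Lpn v14126)))))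
theorem f640547 : Led Lsl_dt (LP (LK LD1_c5 LD2_c14 LD3_c49)) = K48.v4840 :=
  Lgr Lrot42 (Lpr_df (K48.f640546 IH) (Lpn K48.v4840))
theorem f623746 : Led Lsl_at (LP (LK LD1_c10 LD2_c19 LD3_c3)) = (LP (LK LD1_c5 LD2_c14 LD3_c49)) :=
  Lre_a IH (LK LD1_c10 LD2_c19 LD3_c3) (LK LD1_c5 LD2_c14 LD3_c49) Lrfl Lrfl
theorem f719145 : Led Lsl_df (LP (LK LD1_c10 LD2_c19 LD3_c3)) = v14126 :=
  Lgr Lrot18 (Lpr_at (f623746 IH) (Lpr_dt (f640547 IH) (Lpr_at (f719144 IH) (Lpn v14126))))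
theorem f75450 : Led Lsl_et (LP (LK LD1_c1 LD2_c10 LD3_c58)) = (LP (LK LD1_c2 LD2_c27 LD3_c35)) :=
  Lre_e IH (LK LD1_c1 LD2_c10 LD3_c58) (LK LD1_c2 LD2_c27 LD3_c35) Lrfl Lrfl
theorem f139347 : Led Lsl_et (LP (LK LD1_c4 LD2_c58 LD3_c19)) = (LP (LK LD1_c2 LD2_c26 LD3_c61)) :=
  Lre_e IH (LK LD1_c4 LD2_c58 LD3_c19) (LK LD1_c2 LD2_c26 LD3_c61) Lrfl Lrfl
theorem f139348 : Led Lsl_dt (LP (LK LD1_c4 LD2_c58 LD3_c19)) = (LP (LK LD1_c9 LD2_c47 LD3_c22)) :=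
  Lre_d IH (LK LD1_c4 LD2_c58 LD3_c19) (LK LD1_c9 LD2_c47 LD3_c22) Lrfl Lrfl
theorem f719147 : Led Lsl_gt (LP (LK LD1_c10 LD2_c19 LD3_c3)) = (LP (LK LD1_c9 LD2_c47 LD3_c22)) :=
  Lgr Lrot112 (Lpr_df (f719145 IH) (Lpe (f719143 IH) (Lpe (f57017 IH) (Lpe (f75450 IH) (Lpr_dt (K4.f75398 IH) (Lpe (K4.f56023 IH) (Lpr_df (K2.f74445 IH) (Lpr_gf (K8.f139065 IH) (Lpe (f139347 IH) (Lpr_dt (f139348 IH) (Lpn (LP (LK LD1_c9 LD2_c47 LD3_c22)))))))))))))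
theorem f719148 : Led Lsl_gt (LP (LK LD1_c10 LD2_c19 LD3_c3)) = (LP (LK LD1_c9 LD2_c47 LD3_c22)) :=
  Leop (Lpe (f719147 IH) (Lpn (LP (LK LD1_c10 LD2_c19 LD3_c3))))
theorem seed_803 : LEOK LG_g (LK LD1_c10 LD2_c19 LD3_c3) :=
  Leoe_g (LK LD1_c10 LD2_c19 LD3_c3) (f719148 IH)
def v14128 : LQ := Led Lsl_dt (LP (LK LD1_c4 LD2_c59 LD3_c36))
theorem f719164 : Led Lsl_dt (LP (LK LD1_c4 LD2_c59 LD3_c36)) = v14128 :=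
  Lrfl
theorem f505059 : Led Lsl_dt (LP (LK LD1_c12 LD2_c17 LD3_c5)) = (LP (LK LD1_c6 LD2_c21 LD3_c37)) :=
  Lre_d IH (LK LD1_c12 LD2_c17 LD3_c5) (LK LD1_c6 LD2_c21 LD3_c37) Lrfl Lrfl
theorem f719167 : Led Lsl_ff (LP (LK LD1_c12 LD2_c17 LD3_c5)) = v14128 :=
  Lgr Lrot19 (Lpr_dt (f505059 IH) (Lpr_ft (K42.f615223 IH) (Lpr_dt (f719164 IH) (Lpn v14128))))
theorem f719169 : Led Lsl_ft (LP (LK LD1_c12 LD2_c17 LD3_c5)) = v14128 :=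
  Lgr Lrot48 (Lpr_ff (f719167 IH) (Lpn v14128))
theorem f615218 : Led Lsl_at (LP (LK LD1_c2 LD2_c51 LD3_c28)) = (LP (LK LD1_c4 LD2_c59 LD3_c36)) :=
  Lgr Lrot66 (Lpe (K35.f506157 IH) (Lpe (K42.f504668 IH) (Lpr_ff (K42.f615205 IH) (Lpn (LP (LK LD1_c4 LD2_c59 LD3_c36))))))
theorem f719165 : Led Lsl_af (LP (LK LD1_c5 LD2_c50 LD3_c35)) = v14128 :=
  Lgr Lrot117 (Lpr_dt (K35.f500046 IH) (Lpr_at (f615218 IH) (Lpr_dt (f719164 IH) (Lpn v14128))))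
theorem f500120 : Led Lsl_gt (LP (LK LD1_c11 LD2_c29 LD3_c3)) = (LP (LK LD1_c5 LD2_c50 LD3_c35)) :=
  Lre_g IH (LK LD1_c11 LD2_c29 LD3_c3) (LK LD1_c5 LD2_c50 LD3_c35) Lrfl Lrfl
theorem f719171 : Led Lsl_gt (LP (LK LD1_c12 LD2_c17 LD3_c5)) = (LP (LK LD1_c11 LD2_c29 LD3_c3)) :=
  Lgr Lrot5 (Lpr_ft (f719169 IH) (Lpe (f719165 IH) (Lpe (f500120 IH) (Lpn (LP (LK LD1_c11 LD2_c29 LD3_c3))))))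
theorem f719172 : Led Lsl_gt (LP (LK LD1_c12 LD2_c17 LD3_c5)) = (LP (LK LD1_c11 LD2_c29 LD3_c3)) :=
  Leop (Lpe (f719171 IH) (Lpn (LP (LK LD1_c12 LD2_c17 LD3_c5))))
theorem seed_804 : LEOK LG_g (LK LD1_c12 LD2_c17 LD3_c5) :=
  Leoe_g (LK LD1_c12 LD2_c17 LD3_c5) (f719172 IH)
def v14129 : LQ := Led Lsl_et (LP (LK LD1_c4 LD2_c59 LD3_c36))
theorem f719180 : Led Lsl_et (LP (LK LD1_c4 LD2_c59 LD3_c36)) = v14129 :=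
  Lrfl
theorem f719183 : Led Lsl_ef (LP (LK LD1_c4 LD2_c59 LD3_c36)) = v14129 :=
  Lgr Lrot88 (Lpr_et (f719180 IH) (Lpn v14129))
theorem f500035 : Led Lsl_et (LP (LK LD1_c2 LD2_c51 LD3_c28)) = (LP (LK LD1_c5 LD2_c50 LD3_c36)) :=
  Lre_e IH (LK LD1_c2 LD2_c51 LD3_c28) (LK LD1_c5 LD2_c50 LD3_c36) Lrfl Lrfl
theorem f719184 : Led Lsl_at (LP (LK LD1_c5 LD2_c50 LD3_c36)) = v14129 :=
  Lgr Lrot80 (Lpe (f500035 IH) (Lpr_af (K42.f615225 IH) (Lpr_ef (f719183 IH) (Lpn v14129))))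
theorem f719186 : Led Lsl_gt (LP (LK LD1_c4 LD2_c59 LD3_c57)) = v14129 :=
  Lgr Lrot46 (Lpe (K46.f415953 IH) (Lpr_ft (K46.f643565 IH) (Lpr_at (f719184 IH) (Lpn v14129))))
theorem f640891 : Led Lsl_dt (LP (LK LD1_c11 LD2_c31 LD3_c58)) = (LP (LK LD1_c5 LD2_c52 LD3_c49)) :=
  Lre_d IH (LK LD1_c11 LD2_c31 LD3_c58) (LK LD1_c5 LD2_c52 LD3_c49) Lrfl Lrfl
theorem f642482 : Led Lsl_df (LP (LK LD1_c9 LD2_c50 LD3_c23)) = (LP (LK LD1_c11 LD2_c31 LD3_c59)) :=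
  Lgr Lrot78 (Lpr_ft (K52.f642478 IH) (Lpr_dt (f640891 IH) (Lpr_ft (K41.f505761 IH) (Lpn (LP (LK LD1_c11 LD2_c31 LD3_c59))))))
theorem f643105 : Led Lsl_ef (LP (LK LD1_c17 LD2_c55 LD3_c30)) = (LP (LK LD1_c11 LD2_c30 LD3_c59)) :=
  Lgr Lrot88 (Lpr_et (f643093 IH) (Lpn (LP (LK LD1_c11 LD2_c30 LD3_c59))))
theorem f615260 : Led Lsl_gt (LP (LK LD1_c12 LD2_c17 LD3_c8)) = (LP (LK LD1_c6 LD2_c21 LD3_c38)) :=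
  Lre_g IH (LK LD1_c12 LD2_c17 LD3_c8) (LK LD1_c6 LD2_c21 LD3_c38) Lrfl Lrfl
theorem f719170 : Led Lsl_gf (LP (LK LD1_c12 LD2_c17 LD3_c8)) = v14128 :=
  Lgr Lrot47 (Lpr_gt (f615260 IH) (Lpe (K35.f505055 IH) (Lpr_ff (f719167 IH) (Lpn v14128))))
theorem f719187 : Led Lsl_dt (LP (LK LD1_c11 LD2_c30 LD3_c59)) = (LP (LK LD1_c12 LD2_c17 LD3_c8)) :=
  Lgr Lrot37 (Lpe (f643105 IH) (Lpr_gt (K52.f644395 IH) (Lpe (f642482 IH) (Lpr_gt (K52.f642477 IH) (Lpe (K46.f77409 IH) (Lpr_et (K46.f636080 IH) (Lpr_gt (f719186 IH) (Lpe (f719180 IH) (Lpr_dt (f719164 IH) (Lpe (f719170 IH) (Lpn (LP (LK LD1_c12 LD2_c17 LD3_c8)))))))))))))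
theorem f719188 : Led Lsl_dt (LP (LK LD1_c11 LD2_c30 LD3_c59)) = (LP (LK LD1_c12 LD2_c17 LD3_c8)) :=
  Leop (Lpe (f719187 IH) (Lpn (LP (LK LD1_c11 LD2_c30 LD3_c59))))
theorem seed_805 : LEOK LG_d (LK LD1_c11 LD2_c30 LD3_c59) :=
  Leoe_d (LK LD1_c11 LD2_c30 LD3_c59) (f719188 IH)
theorem f615220 : Led Lsl_bt (LP (LK LD1_c6 LD2_c22 LD3_c2)) = (LP (LK LD1_c4 LD2_c59 LD3_c36)) :=
  Lgr Lrot35 (Lpe (K45.f506191 IH) (Lpr_bf (K45.f505038 IH) (Lpr_ff (K42.f615205 IH) (Lpn (LP (LK LD1_c4 LD2_c59 LD3_c36))))))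
theorem f499241 : Led Lsl_af (LP (LK LD1_c9 LD2_c11 LD3_c54)) = (LP (LK LD1_c6 LD2_c38 LD3_c61)) :=
  Lgr Lrot0 (Lpr_at (K49.f499239 IH) (Lpn (LP (LK LD1_c6 LD2_c38 LD3_c61))))
theorem f499112 : Led Lsl_ft (LP (LK LD1_c3 LD2_c17 LD3_c44)) = (LP (LK LD1_c6 LD2_c38 LD3_c61)) :=
  Lre_f IH (LK LD1_c3 LD2_c17 LD3_c44) (LK LD1_c6 LD2_c38 LD3_c61) Lrfl Lrfl
theorem f499251 : Led Lsl_gf (LP (LK LD1_c9 LD2_c11 LD3_c54)) = (LP (LK LD1_c6 LD2_c38 LD3_c59)) :=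
  Lgr Lrot76 (Lpr_af (f499241 IH) (Lpe (f499112 IH) (Lpr_gt (K49.f103913 IH) (Lpn (LP (LK LD1_c6 LD2_c38 LD3_c59))))))
theorem f615244 : Led Lsl_gt (LP (LK LD1_c6 LD2_c21 LD3_c36)) = (LP (LK LD1_c4 LD2_c59 LD3_c36)) :=
  Lgr Lrot164 (Lpe (K42.f443699 IH) (Lpr_ct (K42.f615142 IH) (Lpr_gf (f499251 IH) (Lpe (K50.f615128 IH) (Lpe (K42.f206813 IH) (Lpe (K42.f157775 IH) (Lpr_ct (K40.f157778 IH) (Lpe (K42.f614995 IH) (Lpe (K42.f506207 IH) (Lpr_bt (f615220 IH) (Lpn (LP (LK LD1_c4 LD2_c59 LD3_c36)))))))))))))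
theorem f719191 : Led Lsl_gt (LP (LK LD1_c5 LD2_c48 LD3_c60)) = (LP (LK LD1_c9 LD2_c49 LD3_c24)) :=
  Lgr Lrot112 (Lpe (K48.f186093 IH) (Lpr_et (K45.f505773 IH) (Lpe (K52.f644395 IH) (Lpr_ef (f643105 IH) (Lpr_dt (f719187 IH) (Lpr_gf (f719170 IH) (Lpe (f719164 IH) (Lpe (f615244 IH) (Lpr_ef (K42.f615178 IH) (Lpr_dt (K52.f499359 IH) (Lpn (LP (LK LD1_c9 LD2_c49 LD3_c24)))))))))))))
theorem f719192 : Led Lsl_gt (LP (LK LD1_c5 LD2_c48 LD3_c60)) = (LP (LK LD1_c9 LD2_c49 LD3_c24)) :=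
  Leop (Lpe (f719191 IH) (Lpn (LP (LK LD1_c5 LD2_c48 LD3_c60))))
theorem seed_806 : LEOK LG_g (LK LD1_c5 LD2_c48 LD3_c60) :=
  Leoe_g (LK LD1_c5 LD2_c48 LD3_c60) (f719192 IH)
theorem f146432 : Led Lsl_ct (LP (LK LD1_c11 LD2_c27 LD3_c21)) = (LP (LK LD1_c5 LD2_c48 LD3_c60)) :=
  Lre_c IH (LK LD1_c11 LD2_c27 LD3_c21) (LK LD1_c5 LD2_c48 LD3_c60) Lrfl Lrfl
theorem f502487 : Led Lsl_ct (LP (LK LD1_c20 LD2_c45 LD3_c4)) = (LP (LK LD1_c11 LD2_c43 LD3_c51)) :=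
  Lre_c IH (LK LD1_c20 LD2_c45 LD3_c4) (LK LD1_c11 LD2_c43 LD3_c51) Lrfl Lrfl
theorem f502488 : Led Lsl_dt (LP (LK LD1_c29 LD2_c38 LD3_c21)) = (LP (LK LD1_c20 LD2_c45 LD3_c4)) :=
  Lre_d IH (LK LD1_c29 LD2_c38 LD3_c21) (LK LD1_c20 LD2_c45 LD3_c4) Lrfl Lrfl
theorem f558641 : Led Lsl_et (LP (LK LD1_c11 LD2_c43 LD3_c58)) = (LP (LK LD1_c6 LD2_c0 LD3_c0)) :=
  Lgr Lrot87 (Lpr_ef (K40.f558634 IH) (Lpn (LP (LK LD1_c6 LD2_c0 LD3_c0))))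
theorem f618491 : Led Lsl_cf (LP (LK LD1_c11 LD2_c43 LD3_c58)) = (LP (LK LD1_c15 LD2_c8 LD3_c18)) :=
  Lgr Lrot39 (Lpr_et (f558641 IH) (Lpe (K50.f558591 IH) (Lpr_et (K40.f30730 IH) (Lpn (LP (LK LD1_c15 LD2_c8 LD3_c18))))))
theorem f559304 : Led Lsl_af (LP (LK LD1_c11 LD2_c28 LD3_c13)) = (LP (LK LD1_c5 LD2_c59 LD3_c41)) :=
  Lgr Lrot0 (Lpr_at (K42.f559302 IH) (Lpn (LP (LK LD1_c5 LD2_c59 LD3_c41))))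
theorem f559318 : Led Lsl_af (LP (LK LD1_c11 LD2_c43 LD3_c58)) = (LP (LK LD1_c17 LD2_c31 LD3_c46)) :=
  Lgr Lrot45 (Lpr_ft (K40.f75843 IH) (Lpe (f559304 IH) (Lpr_ft (K42.f559316 IH) (Lpn (LP (LK LD1_c17 LD2_c31 LD3_c46))))))
theorem f502449 : Led Lsl_ft (LP (LK LD1_c9 LD2_c49 LD3_c48)) = (LP (LK LD1_c4 LD2_c59 LD3_c41)) :=
  Lre_f IH (LK LD1_c9 LD2_c49 LD3_c48) (LK LD1_c4 LD2_c59 LD3_c41) Lrfl Lrfl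
theorem f502508 : Led Lsl_ct (LP (LK LD1_c4 LD2_c59 LD3_c41)) = (LP (LK LD1_c5 LD2_c59 LD3_c35)) :=
  Lgr Lrot40 (Lpe (f502449 IH) (Lpr_cf (K48.f502500 IH) (Lpe (K37.f501898 IH) (Lpn (LP (LK LD1_c5 LD2_c59 LD3_c35))))))
theorem f502512 : Led Lsl_cf (LP (LK LD1_c4 LD2_c59 LD3_c41)) = (LP (LK LD1_c5 LD2_c59 LD3_c35)) :=
  Lgr Lrot11 (Lpr_ct (f502508 IH) (Lpn (LP (LK LD1_c5 LD2_c59 LD3_c35))))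
theorem f502502 : Led Lsl_ct (LP (LK LD1_c9 LD2_c49 LD3_c47)) = (LP (LK LD1_c18 LD2_c0 LD3_c27)) :=
  Lre_c IH (LK LD1_c9 LD2_c49 LD3_c47) (LK LD1_c18 LD2_c0 LD3_c27) Lrfl Lrfl
theorem f502503 : Led Lsl_dt (LP (LK LD1_c18 LD2_c0 LD3_c27)) = (LP (LK LD1_c27 LD2_c43 LD3_c10)) :=
  Lre_d IH (LK LD1_c18 LD2_c0 LD3_c27) (LK LD1_c27 LD2_c43 LD3_c10) Lrfl Lrfl
theorem f30784 : Led Lsl_dt (LP (LK LD1_c24 LD2_c57 LD3_c6)) = (LP (LK LD1_c15 LD2_c8 LD3_c18)) :=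
  Lre_d IH (LK LD1_c24 LD2_c57 LD3_c6) (LK LD1_c15 LD2_c8 LD3_c18) Lrfl Lrfl
theorem f618495 : Led Lsl_ct (LP (LK LD1_c27 LD2_c43 LD3_c10)) = (LP (LK LD1_c24 LD2_c57 LD3_c6)) :=
  Lgr Lrot53 (Lpe (f502503 IH) (Lpe (f502502 IH) (Lpe (K45.f502476 IH) (Lpr_cf (f502512 IH) (Lpr_df (K48.f557435 IH) (Lpr_ft (K42.f559316 IH) (Lpe (f559318 IH) (Lpr_cf (f618491 IH) (Lpe (f30784 IH) (Lpn (LP (LK LD1_c24 LD2_c57 LD3_c6))))))))))))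
theorem f502472 : Led Lsl_ct (LP (LK LD1_c18 LD2_c0 LD3_c27)) = (LP (LK LD1_c9 LD2_c49 LD3_c47)) :=
  Lre_c IH (LK LD1_c18 LD2_c0 LD3_c27) (LK LD1_c9 LD2_c49 LD3_c47) Lrfl Lrfl
theorem f502473 : Led Lsl_ct (LP (LK LD1_c11 LD2_c43 LD3_c51)) = (LP (LK LD1_c20 LD2_c45 LD3_c4)) :=
  Lre_c IH (LK LD1_c11 LD2_c43 LD3_c51) (LK LD1_c20 LD2_c45 LD3_c4) Lrfl Lrfl
theorem f502474 : Led Lsl_af (LP (LK LD1_c18 LD2_c0 LD3_c27)) = (LP (LK LD1_c20 LD2_c45 LD3_c4)) :=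
  Lgr Lrot68 (Lpr_ct (f502472 IH) (Lpr_at (K42.f502466 IH) (Lpr_ct (f502473 IH) (Lpn (LP (LK LD1_c20 LD2_c45 LD3_c4))))))
theorem f502551 : Led Lsl_at (LP (LK LD1_c27 LD2_c43 LD3_c10)) = (LP (LK LD1_c29 LD2_c38 LD3_c21)) :=
  Lgr Lrot51 (Lpe (f502503 IH) (Lpr_af (f502474 IH) (Lpe (f502488 IH) (Lpn (LP (LK LD1_c29 LD2_c38 LD3_c21))))))
theorem f502553 : Led Lsl_af (LP (LK LD1_c27 LD2_c43 LD3_c10)) = (LP (LK LD1_c29 LD2_c38 LD3_c21)) :=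
  Lgr Lrot0 (Lpr_at (f502551 IH) (Lpn (LP (LK LD1_c29 LD2_c38 LD3_c21))))
theorem f36789 : Led Lsl_ft (LP (LK LD1_c6 LD2_c13 LD3_c36)) = (LP (LK LD1_c12 LD2_c6 LD3_c1)) :=
  Lre_f IH (LK LD1_c6 LD2_c13 LD3_c36) (LK LD1_c12 LD2_c6 LD3_c1) Lrfl Lrfl
theorem f36790 : Led Lsl_at (LP (LK LD1_c12 LD2_c6 LD3_c1)) = (LP (LK LD1_c15 LD2_c8 LD3_c27)) :=
  Lgr Lrot66 (Lpe (f36789 IH) (Lpr_af (K1.f36777 IH) (Lpe (K1.f30738 IH) (Lpn (LP (LK LD1_c15 LD2_c8 LD3_c27))))))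
theorem f30744 : Led Lsl_et (LP (LK LD1_c15 LD2_c8 LD3_c20)) = (LP (LK LD1_c8 LD2_c2 LD3_c31)) :=
  Lre_e IH (LK LD1_c15 LD2_c8 LD3_c20) (LK LD1_c8 LD2_c2 LD3_c31) Lrfl Lrfl
theorem f30745 : Led Lsl_bf (LP (LK LD1_c15 LD2_c8 LD3_c20)) = (LP (LK LD1_c8 LD2_c2 LD3_c32)) :=
  Lgr Lrot96 (Lpr_et (f30744 IH) (Lpr_bt (K42.f30743 IH) (Lpr_et (K1.f30741 IH) (Lpn (LP (LK LD1_c8 LD2_c2 LD3_c32))))))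
theorem f30773 : Led Lsl_ft (LP (LK LD1_c15 LD2_c8 LD3_c20)) = (LP (LK LD1_c24 LD2_c57 LD3_c6)) :=
  Lre_f IH (LK LD1_c15 LD2_c8 LD3_c20) (LK LD1_c24 LD2_c57 LD3_c6) Lrfl Lrfl
theorem f30774 : Led Lsl_bt (LP (LK LD1_c24 LD2_c57 LD3_c6)) = (LP (LK LD1_c15 LD2_c8 LD3_c27)) :=
  Lgr Lrot35 (Lpe (f30773 IH) (Lpr_bf (f30745 IH) (Lpe (K1.f30738 IH) (Lpn (LP (LK LD1_c15 LD2_c8 LD3_c27))))))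
theorem f30777 : Led Lsl_bf (LP (LK LD1_c24 LD2_c57 LD3_c6)) = (LP (LK LD1_c15 LD2_c8 LD3_c27)) :=
  Lgr Lrot24 (Lpr_bt (f30774 IH) (Lpn (LP (LK LD1_c15 LD2_c8 LD3_c27))))
theorem f272958 : Led Lsl_ft (LP (LK LD1_c8 LD2_c47 LD3_c30)) = (LP (LK LD1_c16 LD2_c27 LD3_c10)) :=
  Lre_f IH (LK LD1_c8 LD2_c47 LD3_c30) (LK LD1_c16 LD2_c27 LD3_c10) Lrfl Lrfl
theorem f453335 : Led Lsl_at (LP (LK LD1_c16 LD2_c27 LD3_c10)) = (LP (LK LD1_c17 LD2_c57 LD3_c27)) :=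
  Lgr Lrot66 (Lpe (f272958 IH) (Lpr_af (K38.f453237 IH) (Lpe (K38.f453244 IH) (Lpn (LP (LK LD1_c17 LD2_c57 LD3_c27))))))
theorem f272970 : Led Lsl_ft (LP (LK LD1_c16 LD2_c27 LD3_c10)) = (LP (LK LD1_c8 LD2_c47 LD3_c30)) :=
  Lre_f IH (LK LD1_c16 LD2_c27 LD3_c10) (LK LD1_c8 LD2_c47 LD3_c30) Lrfl Lrfl
theorem f453217 : Led Lsl_ft (LP (LK LD1_c9 LD2_c47 LD3_c6)) = (LP (LK LD1_c17 LD2_c57 LD3_c23)) :=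
  Lre_f IH (LK LD1_c9 LD2_c47 LD3_c6) (LK LD1_c17 LD2_c57 LD3_c23) Lrfl Lrfl
theorem f453218 : Led Lsl_ef (LP (LK LD1_c16 LD2_c27 LD3_c10)) = (LP (LK LD1_c17 LD2_c57 LD3_c23)) :=
  Lgr Lrot21 (Lpr_ft (f272970 IH) (Lpr_et (K38.f272517 IH) (Lpr_ft (K31.f453207 IH) (Lpr_et (K32.f70410 IH) (Lpr_ft (f453217 IH) (Lpn (LP (LK LD1_c17 LD2_c57 LD3_c23))))))))
theorem f453341 : Led Lsl_af (LP (LK LD1_c17 LD2_c57 LD3_c23)) = (LP (LK LD1_c16 LD2_c27 LD3_c3)) :=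
  Lgr Lrot50 (Lpe (f453218 IH) (Lpr_at (f453335 IH) (Lpe (K38.f453247 IH) (Lpn (LP (LK LD1_c16 LD2_c27 LD3_c3))))))
theorem f453345 : Led Lsl_at (LP (LK LD1_c17 LD2_c57 LD3_c23)) = (LP (LK LD1_c16 LD2_c27 LD3_c3)) :=
  Lgr Lrot100 (Lpr_af (f453341 IH) (Lpn (LP (LK LD1_c16 LD2_c27 LD3_c3))))
theorem f453354 : Led Lsl_bt (LP (LK LD1_c27 LD2_c41 LD3_c58)) = (LP (LK LD1_c17 LD2_c57 LD3_c23)) :=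
  Lre_b IH (LK LD1_c27 LD2_c41 LD3_c58) (LK LD1_c17 LD2_c57 LD3_c23) Lrfl Lrfl
theorem f549121 : Led Lsl_at (LP (LK LD1_c24 LD2_c57 LD3_c6)) = (LP (LK LD1_c27 LD2_c41 LD3_c58)) :=
  Lgr Lrot67 (Lpr_bf (f30777 IH) (Lpe (f36790 IH) (Lpr_bf (K38.f549119 IH) (Lpe (f453345 IH) (Lpe (f453354 IH) (Lpn (LP (LK LD1_c27 LD2_c41 LD3_c58))))))))
theorem f618497 : Led Lsl_cf (LP (LK LD1_c29 LD2_c38 LD3_c21)) = (LP (LK LD1_c27 LD2_c41 LD3_c58)) :=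
  Lgr Lrot1 (Lpe (f502553 IH) (Lpr_ct (f618495 IH) (Lpr_at (f549121 IH) (Lpn (LP (LK LD1_c27 LD2_c41 LD3_c58))))))
theorem f669317 : Led Lsl_dt (LP (LK LD1_c20 LD2_c25 LD3_c19)) = (LP (LK LD1_c27 LD2_c41 LD3_c58)) :=
  Lgr Lrot140 (Lpr_cf (K48.f669307 IH) (Lpe (K48.f559314 IH) (Lpe (K48.f502506 IH) (Lpe (K42.f502486 IH) (Lpr_ft (K42.f502480 IH) (Lpr_at (K42.f502466 IH) (Lpe (f502487 IH) (Lpe (f502488 IH) (Lpr_cf (f618497 IH) (Lpn (LP (LK LD1_c27 LD2_c41 LD3_c58))))))))))))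
theorem f30785 : Led Lsl_ft (LP (LK LD1_c24 LD2_c57 LD3_c6)) = (LP (LK LD1_c15 LD2_c8 LD3_c20)) :=
  Lre_f IH (LK LD1_c24 LD2_c57 LD3_c6) (LK LD1_c15 LD2_c8 LD3_c20) Lrfl Lrfl
theorem f30769 : Led Lsl_ct (LP (LK LD1_c15 LD2_c8 LD3_c20)) = (LP (LK LD1_c24 LD2_c57 LD3_c8)) :=
  Lre_c IH (LK LD1_c15 LD2_c8 LD3_c20) (LK LD1_c24 LD2_c57 LD3_c8) Lrfl Lrfl
theorem f618501 : Led Lsl_ff (LP (LK LD1_c27 LD2_c43 LD3_c10)) = (LP (LK LD1_c24 LD2_c57 LD3_c8)) :=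
  Lgr Lrot23 (Lpr_ct (f618495 IH) (Lpr_ft (f30785 IH) (Lpr_ct (f30769 IH) (Lpn (LP (LK LD1_c24 LD2_c57 LD3_c8))))))
theorem f618505 : Led Lsl_ft (LP (LK LD1_c27 LD2_c43 LD3_c10)) = (LP (LK LD1_c24 LD2_c57 LD3_c8)) :=
  Lgr Lrot48 (Lpr_ff (f618501 IH) (Lpn (LP (LK LD1_c24 LD2_c57 LD3_c8))))
theorem f502515 : Led Lsl_dt (LP (LK LD1_c27 LD2_c43 LD3_c10)) = (LP (LK LD1_c18 LD2_c0 LD3_c27)) :=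
  Lre_d IH (LK LD1_c27 LD2_c43 LD3_c10) (LK LD1_c18 LD2_c0 LD3_c27) Lrfl Lrfl
theorem f502514 : Led Lsl_dt (LP (LK LD1_c9 LD2_c49 LD3_c47)) = (LP (LK LD1_c4 LD2_c59 LD3_c41)) :=
  Lre_d IH (LK LD1_c9 LD2_c49 LD3_c47) (LK LD1_c4 LD2_c59 LD3_c41) Lrfl Lrfl
theorem f272440 : Led Lsl_ct (LP (LK LD1_c16 LD2_c27 LD3_c4)) = (LP (LK LD1_c8 LD2_c47 LD3_c28)) :=
  Lre_c IH (LK LD1_c16 LD2_c27 LD3_c4) (LK LD1_c8 LD2_c47 LD3_c28) Lrfl Lrfl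
theorem f272441 : Led Lsl_dt (LP (LK LD1_c26 LD2_c24 LD3_c17)) = (LP (LK LD1_c16 LD2_c27 LD3_c4)) :=
  Lre_d IH (LK LD1_c26 LD2_c24 LD3_c17) (LK LD1_c16 LD2_c27 LD3_c4) Lrfl Lrfl
theorem f29541 : Led Lsl_dt (LP (LK LD1_c15 LD2_c8 LD3_c23)) = (LP (LK LD1_c24 LD2_c57 LD3_c15)) :=
  Lre_d IH (LK LD1_c15 LD2_c8 LD3_c23) (LK LD1_c24 LD2_c57 LD3_c15) Lrfl Lrfl
theorem f556543 : Led Lsl_cf (LP (LK LD1_c26 LD2_c24 LD3_c17)) = (LP (LK LD1_c24 LD2_c57 LD3_c15)) :=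
  Lgr Lrot161 (Lpr_dt (f272441 IH) (Lpr_ct (f272440 IH) (Lpr_af (K39.f556528 IH) (Lpe (K39.f29544 IH) (Lpr_dt (K39.f29536 IH) (Lpr_ct (K42.f29339 IH) (Lpr_dt (K39.f29539 IH) (Lpr_ct (K42.f29540 IH) (Lpr_dt (f29541 IH) (Lpn (LP (LK LD1_c24 LD2_c57 LD3_c15))))))))))))
theorem f272395 : Led Lsl_bt (LP (LK LD1_c2 LD2_c9 LD3_c56)) = (LP (LK LD1_c4 LD2_c24 LD3_c59)) :=
  Lre_b IH (LK LD1_c2 LD2_c9 LD3_c56) (LK LD1_c4 LD2_c24 LD3_c59) Lrfl Lrfl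
theorem f272444 : Led Lsl_ct (LP (LK LD1_c4 LD2_c24 LD3_c59)) = (LP (LK LD1_c4 LD2_c24 LD3_c59)) :=
  Lgr Lrot83 (Lpe (f272395 IH) (Lpr_cf (K18.f272432 IH) (Lpr_bf (K31.f272442 IH) (Lpe (K18.f272396 IH) (Lpe (K39.f272414 IH) (Lpn (LP (LK LD1_c4 LD2_c24 LD3_c59))))))))
theorem f272505 : Led Lsl_ct (LP (LK LD1_c8 LD2_c47 LD3_c28)) = (LP (LK LD1_c16 LD2_c27 LD3_c4)) :=
  Lre_c IH (LK LD1_c8 LD2_c47 LD3_c28) (LK LD1_c16 LD2_c27 LD3_c4) Lrfl Lrfl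
theorem f556548 : Led Lsl_ft (LP (LK LD1_c15 LD2_c8 LD3_c23)) = (LP (LK LD1_c24 LD2_c56 LD3_c19)) :=
  Lre_f IH (LK LD1_c15 LD2_c8 LD3_c23) (LK LD1_c24 LD2_c56 LD3_c19) Lrfl Lrfl
theorem f556549 : Led Lsl_af (LP (LK LD1_c16 LD2_c27 LD3_c4)) = (LP (LK LD1_c24 LD2_c56 LD3_c19)) :=
  Lgr Lrot109 (Lpe (f272505 IH) (Lpe (K39.f272504 IH) (Lpe (f272444 IH) (Lpe (K39.f272503 IH) (Lpe (f272440 IH) (Lpe (f272441 IH) (Lpr_cf (f556543 IH) (Lpe (f29541 IH) (Lpr_ft (f556548 IH) (Lpn (LP (LK LD1_c24 LD2_c56 LD3_c19))))))))))))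
theorem f453224 : Led Lsl_ft (LP (LK LD1_c8 LD2_c47 LD3_c29)) = (LP (LK LD1_c9 LD2_c47 LD3_c5)) :=
  Lgr Lrot4 (Lpe (K18.f272408 IH) (Lpr_ff (K31.f453220 IH) (Lpe (K18.f211627 IH) (Lpn (LP (LK LD1_c9 LD2_c47 LD3_c5))))))
theorem f272425 : Led Lsl_bt (LP (LK LD1_c16 LD2_c27 LD3_c6)) = (LP (LK LD1_c8 LD2_c47 LD3_c29)) :=
  Lre_b IH (LK LD1_c16 LD2_c27 LD3_c6) (LK LD1_c8 LD2_c47 LD3_c29) Lrfl Lrfl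
theorem f82177 : Led Lsl_bt (LP (LK LD1_c9 LD2_c47 LD3_c5)) = (LP (LK LD1_c17 LD2_c57 LD3_c20)) :=
  Lre_b IH (LK LD1_c9 LD2_c47 LD3_c5) (LK LD1_c17 LD2_c57 LD3_c20) Lrfl Lrfl
theorem f453378 : Led Lsl_ff (LP (LK LD1_c16 LD2_c27 LD3_c6)) = (LP (LK LD1_c17 LD2_c57 LD3_c20)) :=
  Lgr Lrot25 (Lpr_bt (f272425 IH) (Lpr_ft (f453224 IH) (Lpr_bt (f82177 IH) (Lpn (LP (LK LD1_c17 LD2_c57 LD3_c20))))))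
theorem f453386 : Led Lsl_ft (LP (LK LD1_c16 LD2_c27 LD3_c6)) = (LP (LK LD1_c17 LD2_c57 LD3_c20)) :=
  Lgr Lrot48 (Lpr_ff (f453378 IH) (Lpn (LP (LK LD1_c17 LD2_c57 LD3_c20))))
theorem f272775 : Led Lsl_ct (LP (LK LD1_c26 LD2_c24 LD3_c16)) = (LP (LK LD1_c16 LD2_c27 LD3_c6)) :=
  Lre_c IH (LK LD1_c26 LD2_c24 LD3_c16) (LK LD1_c16 LD2_c27 LD3_c6) Lrfl Lrfl
theorem f272574 : Led Lsl_ct (LP (LK LD1_c17 LD2_c57 LD3_c20)) = (LP (LK LD1_c27 LD2_c41 LD3_c54)) :=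
  Lre_c IH (LK LD1_c17 LD2_c57 LD3_c20) (LK LD1_c27 LD2_c41 LD3_c54) Lrfl Lrfl
theorem f453391 : Led Lsl_ff (LP (LK LD1_c26 LD2_c24 LD3_c16)) = (LP (LK LD1_c27 LD2_c41 LD3_c54)) :=
  Lgr Lrot23 (Lpr_ct (f272775 IH) (Lpr_ft (f453386 IH) (Lpr_ct (f272574 IH) (Lpn (LP (LK LD1_c27 LD2_c41 LD3_c54))))))
theorem f272935 : Led Lsl_bt (LP (LK LD1_c26 LD2_c24 LD3_c16)) = (LP (LK LD1_c16 LD2_c27 LD3_c4)) :=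
  Lre_b IH (LK LD1_c26 LD2_c24 LD3_c16) (LK LD1_c16 LD2_c27 LD3_c4) Lrfl Lrfl
theorem f453396 : Led Lsl_bt (LP (LK LD1_c17 LD2_c57 LD3_c18)) = (LP (LK LD1_c27 LD2_c41 LD3_c54)) :=
  Lre_b IH (LK LD1_c17 LD2_c57 LD3_c18) (LK LD1_c27 LD2_c41 LD3_c54) Lrfl Lrfl
theorem f453397 : Led Lsl_ft (LP (LK LD1_c16 LD2_c27 LD3_c4)) = (LP (LK LD1_c17 LD2_c57 LD3_c18)) :=
  Lgr Lrot75 (Lpe (f272935 IH) (Lpr_ff (f453391 IH) (Lpe (f453396 IH) (Lpn (LP (LK LD1_c17 LD2_c57 LD3_c18))))))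
theorem f556553 : Led Lsl_at (LP (LK LD1_c17 LD2_c57 LD3_c18)) = (LP (LK LD1_c15 LD2_c8 LD3_c23)) :=
  Lgr Lrot66 (Lpe (f453397 IH) (Lpr_af (f556549 IH) (Lpe (f556548 IH) (Lpn (LP (LK LD1_c15 LD2_c8 LD3_c23))))))
theorem f453408 : Led Lsl_et (LP (LK LD1_c27 LD2_c41 LD3_c56)) = (LP (LK LD1_c17 LD2_c57 LD3_c18)) :=
  Lre_e IH (LK LD1_c27 LD2_c41 LD3_c56) (LK LD1_c17 LD2_c57 LD3_c18) Lrfl Lrfl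
theorem f556562 : Led Lsl_et (LP (LK LD1_c15 LD2_c8 LD3_c23)) = (LP (LK LD1_c24 LD2_c57 LD3_c8)) :=
  Lre_e IH (LK LD1_c15 LD2_c8 LD3_c23) (LK LD1_c24 LD2_c57 LD3_c8) Lrfl Lrfl
theorem f556563 : Led Lsl_af (LP (LK LD1_c27 LD2_c41 LD3_c56)) = (LP (LK LD1_c24 LD2_c57 LD3_c8)) :=
  Lgr Lrot50 (Lpr_et (f453408 IH) (Lpr_at (f556553 IH) (Lpr_et (f556562 IH) (Lpn (LP (LK LD1_c24 LD2_c57 LD3_c8))))))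
theorem f553994 : Led Lsl_ct (LP (LK LD1_c17 LD2_c57 LD3_c19)) = (LP (LK LD1_c27 LD2_c41 LD3_c56)) :=
  Lre_c IH (LK LD1_c17 LD2_c57 LD3_c19) (LK LD1_c27 LD2_c41 LD3_c56) Lrfl Lrfl
theorem f618509 : Led Lsl_ct (LP (LK LD1_c11 LD2_c28 LD3_c13)) = (LP (LK LD1_c15 LD2_c7 LD3_c52)) :=
  Lgr Lrot53 (Lpr_df (K42.f559308 IH) (Lpe (f502508 IH) (Lpe (f502514 IH) (Lpe (f502472 IH) (Lpe (f502515 IH) (Lpr_ft (f618505 IH) (Lpe (f556563 IH) (Lpe (f553994 IH) (Lpe (K39.f553987 IH) (Lpn (LP (LK LD1_c15 LD2_c7 LD3_c52))))))))))))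
theorem f618513 : Led Lsl_cf (LP (LK LD1_c11 LD2_c28 LD3_c13)) = (LP (LK LD1_c15 LD2_c7 LD3_c52)) :=
  Lgr Lrot11 (Lpr_ct (f618509 IH) (Lpn (LP (LK LD1_c15 LD2_c7 LD3_c52))))
theorem f453369 : Led Lsl_ft (LP (LK LD1_c17 LD2_c57 LD3_c19)) = (LP (LK LD1_c27 LD2_c41 LD3_c58)) :=
  Lre_f IH (LK LD1_c17 LD2_c57 LD3_c19) (LK LD1_c27 LD2_c41 LD3_c58) Lrfl Lrfl
theorem f618515 : Led Lsl_af (LP (LK LD1_c24 LD2_c57 LD3_c6)) = (LP (LK LD1_c27 LD2_c41 LD3_c58)) :=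
  Lgr Lrot109 (Lpe (f618495 IH) (Lpe (f502503 IH) (Lpe (f502502 IH) (Lpe (K45.f502476 IH) (Lpr_cf (f502512 IH) (Lpr_df (K48.f557435 IH) (Lpr_cf (f618513 IH) (Lpr_df (K39.f553980 IH) (Lpr_ft (f453369 IH) (Lpn (LP (LK LD1_c27 LD2_c41 LD3_c58))))))))))))
theorem f669319 : Led Lsl_af (LP (LK LD1_c20 LD2_c25 LD3_c19)) = (LP (LK LD1_c15 LD2_c8 LD3_c18)) :=
  Lgr Lrot117 (Lpr_dt (f669317 IH) (Lpe (f618515 IH) (Lpr_dt (f30784 IH) (Lpn (LP (LK LD1_c15 LD2_c8 LD3_c18))))))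
theorem f30793 : Led Lsl_ft (LP (LK LD1_c8 LD2_c2 LD3_c30)) = (LP (LK LD1_c15 LD2_c8 LD3_c18)) :=
  Lre_f IH (LK LD1_c8 LD2_c2 LD3_c30) (LK LD1_c15 LD2_c8 LD3_c18) Lrfl Lrfl
theorem f669332 : Led Lsl_gf (LP (LK LD1_c11 LD2_c27 LD3_c21)) = (LP (LK LD1_c8 LD2_c2 LD3_c30)) :=
  Lgr Lrot47 (Lpr_gt (K48.f186092 IH) (Lpr_af (f669319 IH) (Lpe (f30793 IH) (Lpn (LP (LK LD1_c8 LD2_c2 LD3_c30))))))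
theorem f30770 : Led Lsl_dt (LP (LK LD1_c15 LD2_c8 LD3_c20)) = (LP (LK LD1_c8 LD2_c2 LD3_c30)) :=
  Lre_d IH (LK LD1_c15 LD2_c8 LD3_c20) (LK LD1_c8 LD2_c2 LD3_c30) Lrfl Lrfl
theorem f30771 : Led Lsl_bt (LP (LK LD1_c8 LD2_c2 LD3_c30)) = (LP (LK LD1_c4 LD2_c0 LD3_c54)) :=
  Lgr Lrot95 (Lpe (f30770 IH) (Lpr_bf (f30745 IH) (Lpe (K4.f30070 IH) (Lpn (LP (LK LD1_c4 LD2_c0 LD3_c54))))))
theorem f30787 : Led Lsl_bf (LP (LK LD1_c8 LD2_c2 LD3_c30)) = (LP (LK LD1_c4 LD2_c0 LD3_c54)) :=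
  Lgr Lrot24 (Lpr_bt (f30771 IH) (Lpn (LP (LK LD1_c4 LD2_c0 LD3_c54))))
theorem f35706 : Led Lsl_bt (LP (LK LD1_c4 LD2_c26 LD3_c53)) = (LP (LK LD1_c8 LD2_c51 LD3_c30)) :=
  Lre_b IH (LK LD1_c4 LD2_c26 LD3_c53) (LK LD1_c8 LD2_c51 LD3_c30) Lrfl Lrfl
theorem f613973 : Led Lsl_ct (LP (LK LD1_c17 LD2_c59 LD3_c55)) = (LP (LK LD1_c9 LD2_c49 LD3_c24)) :=
  Lre_c IH (LK LD1_c17 LD2_c59 LD3_c55) (LK LD1_c9 LD2_c49 LD3_c24) Lrfl Lrfl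
theorem f569692 : Led Lsl_bf (LP (LK LD1_c13 LD2_c41 LD3_c42)) = (LP (LK LD1_c13 LD2_c30 LD3_c38)) :=
  Lgr Lrot93 (Lpr_dt (K42.f93100 IH) (Lpr_bt (K42.f569686 IH) (Lpr_dt (K41.f98101 IH) (Lpn (LP (LK LD1_c13 LD2_c30 LD3_c38))))))
theorem f571075 : Led Lsl_at (LP (LK LD1_c8 LD2_c44 LD3_c7)) = (LP (LK LD1_c13 LD2_c30 LD3_c38)) :=
  Lgr Lrot67 (Lpe (K45.f400047 IH) (Lpr_af (K42.f571073 IH) (Lpe (K41.f480675 IH) (Lpr_af (K42.f571039 IH) (Lpr_bf (f569692 IH) (Lpn (LP (LK LD1_c13 LD2_c30 LD3_c38))))))))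
theorem f400050 : Led Lsl_et (LP (LK LD1_c16 LD2_c21 LD3_c26)) = (LP (LK LD1_c8 LD2_c44 LD3_c7)) :=
  Lre_e IH (LK LD1_c16 LD2_c21 LD3_c26) (LK LD1_c8 LD2_c44 LD3_c7) Lrfl Lrfl
theorem f613894 : Led Lsl_af (LP (LK LD1_c16 LD2_c21 LD3_c26)) = (LP (LK LD1_c22 LD2_c51 LD3_c28)) :=
  Lgr Lrot50 (Lpr_et (f400050 IH) (Lpr_at (f571075 IH) (Lpr_et (K42.f565012 IH) (Lpn (LP (LK LD1_c22 LD2_c51 LD3_c28))))))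
theorem f564880 : Led Lsl_et (LP (LK LD1_c8 LD2_c44 LD3_c7)) = (LP (LK LD1_c16 LD2_c21 LD3_c26)) :=
  Lre_e IH (LK LD1_c8 LD2_c44 LD3_c7) (LK LD1_c16 LD2_c21 LD3_c26) Lrfl Lrfl
theorem f470705 : Led Lsl_et (LP (LK LD1_c3 LD2_c37 LD3_c13)) = (LP (LK LD1_c7 LD2_c14 LD3_c57)) :=
  Lre_e IH (LK LD1_c3 LD2_c37 LD3_c13) (LK LD1_c7 LD2_c14 LD3_c57) Lrfl Lrfl
theorem f10550 : Led Lsl_dt (LP (LK LD1_c7 LD2_c14 LD3_c57)) = (LP (LK LD1_c13 LD2_c42 LD3_c58)) :=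
  Lre_d IH (LK LD1_c7 LD2_c14 LD3_c57) (LK LD1_c13 LD2_c42 LD3_c58) Lrfl Lrfl
theorem f526283 : Led Lsl_et (LP (LK LD1_c13 LD2_c42 LD3_c58)) = (LP (LK LD1_c7 LD2_c53 LD3_c52)) :=
  Lgr Lrot71 (Lpe (f10550 IH) (Lpe (f470705 IH) (Lpe (K33.f10665 IH) (Lpe (K45.f470686 IH) (Lpr_df (K46.f526223 IH) (Lpn (LP (LK LD1_c7 LD2_c53 LD3_c52))))))))
theorem f526289 : Led Lsl_ef (LP (LK LD1_c13 LD2_c42 LD3_c58)) = (LP (LK LD1_c7 LD2_c53 LD3_c52)) :=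
  Lgr Lrot88 (Lpr_et (f526283 IH) (Lpn (LP (LK LD1_c7 LD2_c53 LD3_c52))))
theorem f564881 : Led Lsl_gf (LP (LK LD1_c16 LD2_c21 LD3_c26)) = (LP (LK LD1_c13 LD2_c42 LD3_c58)) :=
  Lgr Lrot141 (Lpe (f564880 IH) (Lpr_dt (K41.f400040 IH) (Lpr_gt (K41.f29634 IH) (Lpe (K38.f388759 IH) (Lpr_et (K41.f564870 IH) (Lpr_gt (K30.f10488 IH) (Lpe (K30.f481564 IH) (Lpe (K33.f511117 IH) (Lpr_df (K46.f526223 IH) (Lpe (f526289 IH) (Lpn (LP (LK LD1_c13 LD2_c42 LD3_c58)))))))))))))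
theorem f10551 : Led Lsl_gt (LP (LK LD1_c23 LD2_c9 LD3_c9)) = (LP (LK LD1_c13 LD2_c42 LD3_c58)) :=
  Lre_g IH (LK LD1_c23 LD2_c9 LD3_c9) (LK LD1_c13 LD2_c42 LD3_c58) Lrfl Lrfl
theorem f613898 : Led Lsl_ft (LP (LK LD1_c23 LD2_c9 LD3_c9)) = (LP (LK LD1_c22 LD2_c51 LD3_c28)) :=
  Lgr Lrot2 (Lpr_gt (f10551 IH) (Lpe (f564881 IH) (Lpr_af (f613894 IH) (Lpn (LP (LK LD1_c22 LD2_c51 LD3_c28))))))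
theorem f613904 : Led Lsl_ff (LP (LK LD1_c23 LD2_c9 LD3_c9)) = (LP (LK LD1_c22 LD2_c51 LD3_c28)) :=
  Lgr Lrot3 (Lpr_ft (f613898 IH) (Lpn (LP (LK LD1_c22 LD2_c51 LD3_c28))))
theorem f529314 : Led Lsl_gt (LP (LK LD1_c22 LD2_c28 LD3_c57)) = (LP (LK LD1_c13 LD2_c14 LD3_c11)) :=
  Lre_g IH (LK LD1_c22 LD2_c28 LD3_c57) (LK LD1_c13 LD2_c14 LD3_c11) Lrfl Lrfl
theorem f571047 : Led Lsl_ff (LP (LK LD1_c22 LD2_c29 LD3_c26)) = (LP (LK LD1_c22 LD2_c28 LD3_c57)) :=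
  Lgr Lrot52 (Lpr_at (K42.f571041 IH) (Lpe (K42.f529215 IH) (Lpe (f529314 IH) (Lpn (LP (LK LD1_c22 LD2_c28 LD3_c57))))))
theorem f571049 : Led Lsl_ft (LP (LK LD1_c22 LD2_c29 LD3_c26)) = (LP (LK LD1_c22 LD2_c28 LD3_c57)) :=
  Lgr Lrot48 (Lpr_ff (f571047 IH) (Lpn (LP (LK LD1_c22 LD2_c28 LD3_c57))))
theorem f529287 : Led Lsl_af (LP (LK LD1_c13 LD2_c14 LD3_c36)) = (LP (LK LD1_c13 LD2_c14 LD3_c11)) :=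
  Lgr Lrot50 (Lpr_et (K29.f455301 IH) (Lpr_at (K47.f529263 IH) (Lpr_et (K42.f529214 IH) (Lpn (LP (LK LD1_c13 LD2_c14 LD3_c11))))))
theorem f479508 : Led Lsl_ft (LP (LK LD1_c13 LD2_c14 LD3_c36)) = (LP (LK LD1_c22 LD2_c29 LD3_c28)) :=
  Lre_f IH (LK LD1_c13 LD2_c14 LD3_c36) (LK LD1_c22 LD2_c29 LD3_c28) Lrfl Lrfl
theorem f529228 : Led Lsl_ft (LP (LK LD1_c22 LD2_c28 LD3_c58)) = (LP (LK LD1_c13 LD2_c14 LD3_c11)) :=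
  Lre_f IH (LK LD1_c22 LD2_c28 LD3_c58) (LK LD1_c13 LD2_c14 LD3_c11) Lrfl Lrfl
theorem f529294 : Led Lsl_at (LP (LK LD1_c22 LD2_c29 LD3_c28)) = (LP (LK LD1_c22 LD2_c28 LD3_c58)) :=
  Lgr Lrot66 (Lpe (f479508 IH) (Lpr_af (f529287 IH) (Lpe (f529228 IH) (Lpn (LP (LK LD1_c22 LD2_c28 LD3_c58))))))
theorem f529300 : Led Lsl_gt (LP (LK LD1_c22 LD2_c29 LD3_c26)) = (LP (LK LD1_c22 LD2_c28 LD3_c58)) :=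
  Lgr Lrot46 (Lpe (K42.f479515 IH) (Lpr_ft (f479508 IH) (Lpr_at (f529294 IH) (Lpn (LP (LK LD1_c22 LD2_c28 LD3_c58))))))
theorem f479489 : Led Lsl_gt (LP (LK LD1_c22 LD2_c29 LD3_c27)) = (LP (LK LD1_c13 LD2_c14 LD3_c36)) :=
  Lre_g IH (LK LD1_c22 LD2_c29 LD3_c27) (LK LD1_c13 LD2_c14 LD3_c36) Lrfl Lrfl
theorem f529296 : Led Lsl_gf (LP (LK LD1_c22 LD2_c29 LD3_c27)) = (LP (LK LD1_c22 LD2_c28 LD3_c58)) :=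
  Lgr Lrot47 (Lpr_gt (f479489 IH) (Lpr_af (f529287 IH) (Lpe (f529228 IH) (Lpn (LP (LK LD1_c22 LD2_c28 LD3_c58))))))
theorem f571051 : Led Lsl_af (LP (LK LD1_c22 LD2_c29 LD3_c27)) = (LP (LK LD1_c22 LD2_c28 LD3_c57)) :=
  Lgr Lrot31 (Lpr_gf (f529296 IH) (Lpe (f529300 IH) (Lpr_ft (f571049 IH) (Lpn (LP (LK LD1_c22 LD2_c28 LD3_c57))))))
theorem f571043 : Led Lsl_af (LP (LK LD1_c22 LD2_c29 LD3_c26)) = (LP (LK LD1_c22 LD2_c28 LD3_c56)) :=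
  Lgr Lrot0 (Lpr_at (K42.f571041 IH) (Lpn (LP (LK LD1_c22 LD2_c28 LD3_c56))))
theorem f571055 : Led Lsl_ft (LP (LK LD1_c22 LD2_c29 LD3_c27)) = (LP (LK LD1_c22 LD2_c28 LD3_c56)) :=
  Lgr Lrot101 (Lpr_af (f571051 IH) (Lpe (f571049 IH) (Lpr_af (f571043 IH) (Lpn (LP (LK LD1_c22 LD2_c28 LD3_c56))))))
theorem f613906 : Led Lsl_bt (LP (LK LD1_c23 LD2_c9 LD3_c9)) = (LP (LK LD1_c22 LD2_c29 LD3_c27)) :=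
  Lgr Lrot35 (Lpr_ff (f613904 IH) (Lpr_bf (K42.f571063 IH) (Lpe (f571055 IH) (Lpn (LP (LK LD1_c22 LD2_c29 LD3_c27))))))
theorem f10552 : Led Lsl_dt (LP (LK LD1_c23 LD2_c8 LD3_c52)) = (LP (LK LD1_c23 LD2_c9 LD3_c9)) :=
  Lre_d IH (LK LD1_c23 LD2_c8 LD3_c52) (LK LD1_c23 LD2_c9 LD3_c9) Lrfl Lrfl
theorem f479523 : Led Lsl_et (LP (LK LD1_c3 LD2_c33 LD3_c55)) = (LP (LK LD1_c7 LD2_c8 LD3_c52)) :=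
  Lre_e IH (LK LD1_c3 LD2_c33 LD3_c55) (LK LD1_c7 LD2_c8 LD3_c52) Lrfl Lrfl
theorem f479524 : Led Lsl_gt (LP (LK LD1_c7 LD2_c8 LD3_c52)) = (LP (LK LD1_c13 LD2_c32 LD3_c14)) :=
  Lre_g IH (LK LD1_c7 LD2_c8 LD3_c52) (LK LD1_c13 LD2_c32 LD3_c14) Lrfl Lrfl
theorem f479525 : Led Lsl_et (LP (LK LD1_c22 LD2_c54 LD3_c1)) = (LP (LK LD1_c13 LD2_c32 LD3_c14)) :=
  Lre_e IH (LK LD1_c22 LD2_c54 LD3_c1) (LK LD1_c13 LD2_c32 LD3_c14) Lrfl Lrfl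
theorem f479526 : Led Lsl_df (LP (LK LD1_c22 LD2_c29 LD3_c27)) = (LP (LK LD1_c22 LD2_c54 LD3_c1)) :=
  Lgr Lrot170 (Lpr_gt (f479489 IH) (Lpr_df (K29.f479499 IH) (Lpr_et (K29.f10571 IH) (Lpr_gt (K47.f10523 IH) (Lpr_dt (K3.f10513 IH) (Lpr_gt (K24.f10648 IH) (Lpe (K34.f456039 IH) (Lpr_et (f479523 IH) (Lpr_gt (f479524 IH) (Lpe (f479525 IH) (Lpn (LP (LK LD1_c22 LD2_c54 LD3_c1)))))))))))))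
theorem f479528 : Led Lsl_dt (LP (LK LD1_c22 LD2_c29 LD3_c27)) = (LP (LK LD1_c22 LD2_c54 LD3_c1)) :=
  Lgr Lrot42 (Lpr_df (f479526 IH) (Lpn (LP (LK LD1_c22 LD2_c54 LD3_c1))))
theorem f613918 : Led Lsl_bf (LP (LK LD1_c23 LD2_c8 LD3_c52)) = (LP (LK LD1_c22 LD2_c54 LD3_c1)) :=
  Lgr Lrot93 (Lpr_dt (f10552 IH) (Lpr_bt (f613906 IH) (Lpr_dt (f479528 IH) (Lpn (LP (LK LD1_c22 LD2_c54 LD3_c1))))))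
theorem f526336 : Led Lsl_et (LP (LK LD1_c23 LD2_c8 LD3_c52)) = (LP (LK LD1_c13 LD2_c42 LD3_c45)) :=
  Lre_e IH (LK LD1_c23 LD2_c8 LD3_c52) (LK LD1_c13 LD2_c42 LD3_c45) Lrfl Lrfl
theorem f479530 : Led Lsl_et (LP (LK LD1_c13 LD2_c32 LD3_c14)) = (LP (LK LD1_c22 LD2_c54 LD3_c1)) :=
  Lre_e IH (LK LD1_c13 LD2_c32 LD3_c14) (LK LD1_c22 LD2_c54 LD3_c1) Lrfl Lrfl
theorem f613922 : Led Lsl_bt (LP (LK LD1_c13 LD2_c42 LD3_c45)) = (LP (LK LD1_c13 LD2_c32 LD3_c14)) :=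
  Lgr Lrot119 (Lpe (f526336 IH) (Lpr_bf (f613918 IH) (Lpe (f479530 IH) (Lpn (LP (LK LD1_c13 LD2_c32 LD3_c14))))))
theorem f273085 : Led Lsl_bt (LP (LK LD1_c24 LD2_c57 LD3_c44)) = (LP (LK LD1_c15 LD2_c8 LD3_c50)) :=
  Lre_b IH (LK LD1_c24 LD2_c57 LD3_c44) (LK LD1_c15 LD2_c8 LD3_c50) Lrfl Lrfl
theorem f273076 : Led Lsl_bt (LP (LK LD1_c10 LD2_c16 LD3_c9)) = (LP (LK LD1_c18 LD2_c40 LD3_c39)) :=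
  Lre_b IH (LK LD1_c10 LD2_c16 LD3_c9) (LK LD1_c18 LD2_c40 LD3_c39) Lrfl Lrfl
theorem f273102 : Led Lsl_df (LP (LK LD1_c24 LD2_c57 LD3_c44)) = (LP (LK LD1_c18 LD2_c40 LD3_c39)) :=
  Lgr Lrot12 (Lpr_bt (f273085 IH) (Lpr_dt (K40.f273100 IH) (Lpr_bt (f273076 IH) (Lpn (LP (LK LD1_c18 LD2_c40 LD3_c39))))))
theorem f273112 : Led Lsl_et (LP (LK LD1_c24 LD2_c57 LD3_c44)) = (LP (LK LD1_c15 LD2_c8 LD3_c49)) :=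
  Lre_e IH (LK LD1_c24 LD2_c57 LD3_c44) (LK LD1_c15 LD2_c8 LD3_c49) Lrfl Lrfl
theorem f273022 : Led Lsl_et (LP (LK LD1_c10 LD2_c16 LD3_c7)) = (LP (LK LD1_c18 LD2_c40 LD3_c39)) :=
  Lre_e IH (LK LD1_c10 LD2_c16 LD3_c7) (LK LD1_c18 LD2_c40 LD3_c39) Lrfl Lrfl
theorem f273114 : Led Lsl_dt (LP (LK LD1_c15 LD2_c8 LD3_c49)) = (LP (LK LD1_c10 LD2_c16 LD3_c8)) :=
  Lgr Lrot77 (Lpe (f273112 IH) (Lpr_df (f273102 IH) (Lpe (f273022 IH) (Lpe (K42.f273019 IH) (Lpe (K43.f273113 IH) (Lpn (LP (LK LD1_c10 LD2_c16 LD3_c8))))))))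
theorem f36766 : Led Lsl_ct (LP (LK LD1_c24 LD2_c57 LD3_c43)) = (LP (LK LD1_c15 LD2_c8 LD3_c49)) :=
  Lre_c IH (LK LD1_c24 LD2_c57 LD3_c43) (LK LD1_c15 LD2_c8 LD3_c49) Lrfl Lrfl
theorem f577199 : Led Lsl_gt (LP (LK LD1_c16 LD2_c28 LD3_c36)) = (LP (LK LD1_c24 LD2_c57 LD3_c43)) :=
  Lgr Lrot150 (Lpe (K50.f419039 IH) (Lpr_gf (K43.f577197 IH) (Lpe (K43.f98188 IH) (Lpr_gt (K41.f6145 IH) (Lpr_ct (K42.f6131 IH) (Lpr_gt (K42.f6557 IH) (Lpr_ct (K43.f571184 IH) (Lpe (f273114 IH) (Lpe (f36766 IH) (Lpn (LP (LK LD1_c24 LD2_c57 LD3_c43))))))))))))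
theorem f577211 : Led Lsl_bf (LP (LK LD1_c13 LD2_c42 LD3_c5)) = (LP (LK LD1_c8 LD2_c48 LD3_c26)) :=
  Lgr Lrot34 (Lpr_gf (K42.f569955 IH) (Lpr_bf (K43.f577203 IH) (Lpr_ct (K12.f101063 IH) (Lpr_gf (K12.f198090 IH) (Lpe (K1.f36736 IH) (Lpr_gf (K13.f36763 IH) (Lpe (K42.f36765 IH) (Lpr_ct (K42.f36767 IH) (Lpe (f577199 IH) (Lpe (K50.f419039 IH) (Lpn (LP (LK LD1_c8 LD2_c48 LD3_c26)))))))))))))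
theorem f38228 : Led Lsl_et (LP (LK LD1_c12 LD2_c6 LD3_c17)) = (LP (LK LD1_c6 LD2_c13 LD3_c49)) :=
  Lre_e IH (LK LD1_c12 LD2_c6 LD3_c17) (LK LD1_c6 LD2_c13 LD3_c49) Lrfl Lrfl
theorem f203373 : Led Lsl_dt (LP (LK LD1_c21 LD2_c12 LD3_c21)) = (LP (LK LD1_c12 LD2_c6 LD3_c17)) :=
  Lre_d IH (LK LD1_c21 LD2_c12 LD3_c21) (LK LD1_c12 LD2_c6 LD3_c17) Lrfl Lrfl
theorem f569947 : Led Lsl_et (LP (LK LD1_c13 LD2_c42 LD3_c5)) = (LP (LK LD1_c21 LD2_c12 LD3_c21)) :=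
  Lgr Lrot71 (Lpr_df (K42.f569929 IH) (Lpe (K42.f38537 IH) (Lpr_df (K28.f202057 IH) (Lpe (f38228 IH) (Lpe (f203373 IH) (Lpn (LP (LK LD1_c21 LD2_c12 LD3_c21))))))))
theorem f570567 : Led Lsl_et (LP (LK LD1_c16 LD2_c28 LD3_c37)) = (LP (LK LD1_c8 LD2_c48 LD3_c26)) :=
  Lre_e IH (LK LD1_c16 LD2_c28 LD3_c37) (LK LD1_c8 LD2_c48 LD3_c26) Lrfl Lrfl
theorem f607291 : Led Lsl_bt (LP (LK LD1_c21 LD2_c12 LD3_c21)) = (LP (LK LD1_c16 LD2_c28 LD3_c37)) :=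
  Lgr Lrot119 (Lpe (f569947 IH) (Lpr_bf (f577211 IH) (Lpe (f570567 IH) (Lpn (LP (LK LD1_c16 LD2_c28 LD3_c37))))))
theorem f607293 : Led Lsl_bf (LP (LK LD1_c21 LD2_c12 LD3_c21)) = (LP (LK LD1_c16 LD2_c28 LD3_c37)) :=
  Lgr Lrot24 (Lpr_bt (f607291 IH) (Lpn (LP (LK LD1_c16 LD2_c28 LD3_c37))))
theorem f569897 : Led Lsl_et (LP (LK LD1_c8 LD2_c48 LD3_c26)) = (LP (LK LD1_c16 LD2_c28 LD3_c37)) :=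
  Lre_e IH (LK LD1_c8 LD2_c48 LD3_c26) (LK LD1_c16 LD2_c28 LD3_c37) Lrfl Lrfl
theorem f607297 : Led Lsl_et (LP (LK LD1_c21 LD2_c12 LD3_c21)) = (LP (LK LD1_c13 LD2_c42 LD3_c5)) :=
  Lgr Lrot74 (Lpr_bf (f607293 IH) (Lpe (f569897 IH) (Lpe (K43.f569943 IH) (Lpn (LP (LK LD1_c13 LD2_c42 LD3_c5))))))
theorem f203374 : Led Lsl_ct (LP (LK LD1_c29 LD2_c54 LD3_c2)) = (LP (LK LD1_c21 LD2_c12 LD3_c21)) :=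
  Lre_c IH (LK LD1_c29 LD2_c54 LD3_c2) (LK LD1_c21 LD2_c12 LD3_c21) Lrfl Lrfl
theorem f607299 : Led Lsl_ef (LP (LK LD1_c29 LD2_c54 LD3_c2)) = (LP (LK LD1_c23 LD2_c7 LD3_c42)) :=
  Lgr Lrot28 (Lpr_ct (f203374 IH) (Lpr_et (f607297 IH) (Lpr_ct (K43.f98429 IH) (Lpn (LP (LK LD1_c23 LD2_c7 LD3_c42))))))
theorem f607305 : Led Lsl_et (LP (LK LD1_c29 LD2_c54 LD3_c2)) = (LP (LK LD1_c23 LD2_c7 LD3_c42)) :=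
  Lgr Lrot87 (Lpr_ef (f607299 IH) (Lpn (LP (LK LD1_c23 LD2_c7 LD3_c42))))
theorem f596861 : Led Lsl_at (LP (LK LD1_c23 LD2_c7 LD3_c42)) = (LP (LK LD1_c16 LD2_c28 LD3_c15)) :=
  Lgr Lrot100 (Lpr_af (K50.f596859 IH) (Lpn (LP (LK LD1_c16 LD2_c28 LD3_c15))))
theorem f528637 : Led Lsl_ct (LP (LK LD1_c23 LD2_c8 LD3_c53)) = (LP (LK LD1_c13 LD2_c42 LD3_c46)) :=
  Lre_c IH (LK LD1_c23 LD2_c8 LD3_c53) (LK LD1_c13 LD2_c42 LD3_c46) Lrfl Lrfl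
theorem f565861 : Led Lsl_ef (LP (LK LD1_c23 LD2_c8 LD3_c53)) = (LP (LK LD1_c16 LD2_c28 LD3_c15)) :=
  Lgr Lrot28 (Lpr_ct (f528637 IH) (Lpr_et (K41.f565859 IH) (Lpr_ct (K42.f565606 IH) (Lpn (LP (LK LD1_c16 LD2_c28 LD3_c15))))))
theorem f607307 : Led Lsl_af (LP (LK LD1_c29 LD2_c54 LD3_c2)) = (LP (LK LD1_c23 LD2_c8 LD3_c53)) :=
  Lgr Lrot50 (Lpr_et (f607305 IH) (Lpr_at (f596861 IH) (Lpe (f565861 IH) (Lpn (LP (LK LD1_c23 LD2_c8 LD3_c53))))))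
theorem f528634 : Led Lsl_ct (LP (LK LD1_c13 LD2_c42 LD3_c46)) = (LP (LK LD1_c23 LD2_c8 LD3_c53)) :=
  Lre_c IH (LK LD1_c13 LD2_c42 LD3_c46) (LK LD1_c23 LD2_c8 LD3_c53) Lrfl Lrfl
theorem f607328 : Led Lsl_at (LP (LK LD1_c21 LD2_c12 LD3_c21)) = (LP (LK LD1_c13 LD2_c42 LD3_c46)) :=
  Lgr Lrot107 (Lpe (f203374 IH) (Lpr_af (f607307 IH) (Lpe (f528634 IH) (Lpn (LP (LK LD1_c13 LD2_c42 LD3_c46))))))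
theorem f528502 : Led Lsl_ct (LP (LK LD1_c13 LD2_c42 LD3_c44)) = (LP (LK LD1_c7 LD2_c14 LD3_c52)) :=
  Lre_c IH (LK LD1_c13 LD2_c42 LD3_c44) (LK LD1_c7 LD2_c14 LD3_c52) Lrfl Lrfl
theorem f528503 : Led Lsl_ct (LP (LK LD1_c13 LD2_c39 LD3_c45)) = (LP (LK LD1_c23 LD2_c5 LD3_c2)) :=
  Lre_c IH (LK LD1_c13 LD2_c39 LD3_c45) (LK LD1_c23 LD2_c5 LD3_c2) Lrfl Lrfl
theorem f528504 : Led Lsl_at (LP (LK LD1_c7 LD2_c14 LD3_c52)) = (LP (LK LD1_c13 LD2_c39 LD3_c45)) :=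
  Lgr Lrot107 (Lpe (f528502 IH) (Lpr_af (K47.f528494 IH) (Lpe (f528503 IH) (Lpn (LP (LK LD1_c13 LD2_c39 LD3_c45))))))
theorem f528628 : Led Lsl_af (LP (LK LD1_c7 LD2_c14 LD3_c52)) = (LP (LK LD1_c13 LD2_c39 LD3_c45)) :=
  Lgr Lrot0 (Lpr_at (f528504 IH) (Lpn (LP (LK LD1_c13 LD2_c39 LD3_c45))))
theorem f528452 : Led Lsl_ft (LP (LK LD1_c23 LD2_c5 LD3_c4)) = (LP (LK LD1_c13 LD2_c39 LD3_c45)) :=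
  Lre_f IH (LK LD1_c23 LD2_c5 LD3_c4) (LK LD1_c13 LD2_c39 LD3_c45) Lrfl Lrfl
theorem f528631 : Led Lsl_gf (LP (LK LD1_c13 LD2_c42 LD3_c46)) = (LP (LK LD1_c23 LD2_c5 LD3_c4)) :=
  Lgr Lrot47 (Lpr_gt (K41.f489553 IH) (Lpr_af (f528628 IH) (Lpe (f528452 IH) (Lpn (LP (LK LD1_c23 LD2_c5 LD3_c4))))))
theorem f528335 : Led Lsl_at (LP (LK LD1_c13 LD2_c42 LD3_c34)) = (LP (LK LD1_c23 LD2_c5 LD3_c0)) :=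
  Lgr Lrot100 (Lpr_af (K47.f528333 IH) (Lpn (LP (LK LD1_c23 LD2_c5 LD3_c0))))
theorem f528477 : Led Lsl_at (LP (LK LD1_c13 LD2_c42 LD3_c48)) = (LP (LK LD1_c23 LD2_c5 LD3_c4)) :=
  Lgr Lrot80 (Lpr_ef (K47.f528312 IH) (Lpe (f528335 IH) (Lpr_ef (K47.f528467 IH) (Lpn (LP (LK LD1_c23 LD2_c5 LD3_c4))))))
theorem f528299 : Led Lsl_ft (LP (LK LD1_c7 LD2_c14 LD3_c52)) = (LP (LK LD1_c13 LD2_c42 LD3_c48)) :=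
  Lre_f IH (LK LD1_c7 LD2_c14 LD3_c52) (LK LD1_c13 LD2_c42 LD3_c48) Lrfl Lrfl
theorem f470701 : Led Lsl_gt (LP (LK LD1_c7 LD2_c14 LD3_c52)) = (LP (LK LD1_c13 LD2_c42 LD3_c45)) :=
  Lre_g IH (LK LD1_c7 LD2_c14 LD3_c52) (LK LD1_c13 LD2_c42 LD3_c45) Lrfl Lrfl
theorem f528642 : Led Lsl_gt (LP (LK LD1_c13 LD2_c42 LD3_c45)) = (LP (LK LD1_c23 LD2_c5 LD3_c4)) :=
  Lgr Lrot46 (Lpe (f470701 IH) (Lpr_ft (f528299 IH) (Lpr_at (f528477 IH) (Lpn (LP (LK LD1_c23 LD2_c5 LD3_c4))))))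
theorem f607330 : Led Lsl_ff (LP (LK LD1_c21 LD2_c12 LD3_c21)) = (LP (LK LD1_c13 LD2_c42 LD3_c45)) :=
  Lgr Lrot52 (Lpr_at (f607328 IH) (Lpr_gf (f528631 IH) (Lpe (f528642 IH) (Lpn (LP (LK LD1_c13 LD2_c42 LD3_c45))))))
theorem f607334 : Led Lsl_ft (LP (LK LD1_c21 LD2_c12 LD3_c21)) = (LP (LK LD1_c13 LD2_c42 LD3_c45)) :=
  Lgr Lrot48 (Lpr_ff (f607330 IH) (Lpn (LP (LK LD1_c13 LD2_c42 LD3_c45))))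
theorem f613926 : Led Lsl_ff (LP (LK LD1_c16 LD2_c28 LD3_c37)) = (LP (LK LD1_c13 LD2_c32 LD3_c14)) :=
  Lgr Lrot25 (Lpe (f607293 IH) (Lpr_ft (f607334 IH) (Lpr_bt (f613922 IH) (Lpn (LP (LK LD1_c13 LD2_c32 LD3_c14))))))
theorem f524025 : Led Lsl_ft (LP (LK LD1_c7 LD2_c8 LD3_c52)) = (LP (LK LD1_c13 LD2_c32 LD3_c16)) :=
  Lre_f IH (LK LD1_c7 LD2_c8 LD3_c52) (LK LD1_c13 LD2_c32 LD3_c16) Lrfl Lrfl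
theorem f482746 : Led Lsl_ft (LP (LK LD1_c22 LD2_c47 LD3_c54)) = (LP (LK LD1_c13 LD2_c28 LD3_c17)) :=
  Lre_f IH (LK LD1_c22 LD2_c47 LD3_c54) (LK LD1_c13 LD2_c28 LD3_c17) Lrfl Lrfl
theorem f524026 : Led Lsl_et (LP (LK LD1_c13 LD2_c32 LD3_c16)) = (LP (LK LD1_c22 LD2_c47 LD3_c54)) :=
  Lgr Lrot69 (Lpe (f524025 IH) (Lpe (f479523 IH) (Lpr_ff (K34.f524017 IH) (Lpe (K35.f482704 IH) (Lpe (f482746 IH) (Lpn (LP (LK LD1_c22 LD2_c47 LD3_c54))))))))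
theorem f524558 : Led Lsl_ft (LP (LK LD1_c7 LD2_c8 LD3_c42)) = (LP (LK LD1_c13 LD2_c31 LD3_c58)) :=
  Lre_f IH (LK LD1_c7 LD2_c8 LD3_c42) (LK LD1_c13 LD2_c31 LD3_c58) Lrfl Lrfl
theorem f489708 : Led Lsl_et (LP (LK LD1_c13 LD2_c28 LD3_c23)) = (LP (LK LD1_c7 LD2_c6 LD3_c37)) :=
  Lre_e IH (LK LD1_c13 LD2_c28 LD3_c23) (LK LD1_c7 LD2_c6 LD3_c37) Lrfl Lrfl
theorem f524559 : Led Lsl_ft (LP (LK LD1_c22 LD2_c48 LD3_c2)) = (LP (LK LD1_c13 LD2_c28 LD3_c23)) :=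
  Lre_f IH (LK LD1_c22 LD2_c48 LD3_c2) (LK LD1_c13 LD2_c28 LD3_c23) Lrfl Lrfl
theorem f524560 : Led Lsl_et (LP (LK LD1_c13 LD2_c31 LD3_c58)) = (LP (LK LD1_c22 LD2_c48 LD3_c2)) :=
  Lgr Lrot69 (Lpe (f524558 IH) (Lpe (K35.f524557 IH) (Lpr_ff (K35.f524550 IH) (Lpe (f489708 IH) (Lpe (f524559 IH) (Lpn (LP (LK LD1_c22 LD2_c48 LD3_c2))))))))
theorem f525209 : Led Lsl_af (LP (LK LD1_c13 LD2_c32 LD3_c16)) = (LP (LK LD1_c22 LD2_c48 LD3_c2)) :=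
  Lgr Lrot50 (Lpr_et (f524026 IH) (Lpr_at (K35.f525195 IH) (Lpr_et (f524560 IH) (Lpn (LP (LK LD1_c22 LD2_c48 LD3_c2))))))
theorem f525216 : Led Lsl_at (LP (LK LD1_c13 LD2_c32 LD3_c16)) = (LP (LK LD1_c22 LD2_c48 LD3_c2)) :=
  Lgr Lrot100 (Lpr_af (f525209 IH) (Lpn (LP (LK LD1_c22 LD2_c48 LD3_c2))))
theorem f525223 : Led Lsl_gt (LP (LK LD1_c13 LD2_c32 LD3_c14)) = (LP (LK LD1_c22 LD2_c48 LD3_c2)) :=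
  Lgr Lrot46 (Lpe (f479524 IH) (Lpr_ft (f524025 IH) (Lpr_at (f525216 IH) (Lpn (LP (LK LD1_c22 LD2_c48 LD3_c2))))))
theorem f525221 : Led Lsl_af (LP (LK LD1_c7 LD2_c8 LD3_c52)) = (LP (LK LD1_c13 LD2_c28 LD3_c23)) :=
  Lgr Lrot45 (Lpr_ft (f524025 IH) (Lpr_at (f525216 IH) (Lpr_ft (f524559 IH) (Lpn (LP (LK LD1_c13 LD2_c28 LD3_c23))))))
theorem f525234 : Led Lsl_gt (LP (LK LD1_c13 LD2_c32 LD3_c15)) = (LP (LK LD1_c7 LD2_c8 LD3_c52)) :=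
  Lre_g IH (LK LD1_c13 LD2_c32 LD3_c15) (LK LD1_c7 LD2_c8 LD3_c52) Lrfl Lrfl
theorem f525235 : Led Lsl_gf (LP (LK LD1_c13 LD2_c32 LD3_c15)) = (LP (LK LD1_c22 LD2_c48 LD3_c2)) :=
  Lgr Lrot47 (Lpr_gt (f525234 IH) (Lpr_af (f525221 IH) (Lpe (f524559 IH) (Lpn (LP (LK LD1_c22 LD2_c48 LD3_c2))))))
theorem f613932 : Led Lsl_at (LP (LK LD1_c16 LD2_c28 LD3_c37)) = (LP (LK LD1_c13 LD2_c32 LD3_c15)) :=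
  Lgr Lrot26 (Lpr_ff (f613926 IH) (Lpr_gt (f525223 IH) (Lpe (f525235 IH) (Lpn (LP (LK LD1_c13 LD2_c32 LD3_c15))))))
theorem f570558 : Led Lsl_af (LP (LK LD1_c8 LD2_c48 LD3_c26)) = (LP (LK LD1_c16 LD2_c28 LD3_c20)) :=
  Lgr Lrot0 (Lpr_at (K42.f570549 IH) (Lpn (LP (LK LD1_c16 LD2_c28 LD3_c20))))
theorem f613939 : Led Lsl_ef (LP (LK LD1_c16 LD2_c28 LD3_c20)) = (LP (LK LD1_c13 LD2_c32 LD3_c15)) :=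
  Lgr Lrot20 (Lpe (f570558 IH) (Lpr_et (f569897 IH) (Lpr_at (f613932 IH) (Lpn (LP (LK LD1_c13 LD2_c32 LD3_c15))))))
theorem f613945 : Led Lsl_et (LP (LK LD1_c16 LD2_c28 LD3_c20)) = (LP (LK LD1_c13 LD2_c32 LD3_c15)) :=
  Lgr Lrot87 (Lpr_ef (f613939 IH) (Lpn (LP (LK LD1_c13 LD2_c32 LD3_c15))))
theorem f570589 : Led Lsl_bf (LP (LK LD1_c16 LD2_c28 LD3_c20)) = (LP (LK LD1_c24 LD2_c56 LD3_c45)) :=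
  Lgr Lrot61 (Lpe (K42.f570568 IH) (Lpr_bt (K42.f570570 IH) (Lpr_ft (K42.f570587 IH) (Lpn (LP (LK LD1_c24 LD2_c56 LD3_c45))))))
theorem f613936 : Led Lsl_bt (LP (LK LD1_c13 LD2_c32 LD3_c15)) = (LP (LK LD1_c22 LD2_c54 LD3_c2)) :=
  Lre_b IH (LK LD1_c13 LD2_c32 LD3_c15) (LK LD1_c22 LD2_c54 LD3_c2) Lrfl Lrfl
theorem f613947 : Led Lsl_ef (LP (LK LD1_c24 LD2_c56 LD3_c45)) = (LP (LK LD1_c22 LD2_c54 LD3_c2)) :=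
  Lgr Lrot29 (Lpe (f570589 IH) (Lpr_et (f613945 IH) (Lpr_bt (f613936 IH) (Lpn (LP (LK LD1_c22 LD2_c54 LD3_c2))))))
theorem f104898 : Led Lsl_ct (LP (LK LD1_c17 LD2_c59 LD3_c10)) = (LP (LK LD1_c9 LD2_c48 LD3_c52)) :=
  Lre_c IH (LK LD1_c17 LD2_c59 LD3_c10) (LK LD1_c9 LD2_c48 LD3_c52) Lrfl Lrfl
theorem f104899 : Led Lsl_et (LP (LK LD1_c11 LD2_c24 LD3_c11)) = (LP (LK LD1_c17 LD2_c59 LD3_c10)) :=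
  Lgr Lrot158 (Lpe (K38.f104897 IH) (Lpr_ef (K51.f104892 IH) (Lpe (f104898 IH) (Lpn (LP (LK LD1_c17 LD2_c59 LD3_c10))))))
theorem f613959 : Led Lsl_dt (LP (LK LD1_c17 LD2_c59 LD3_c10)) = (LP (LK LD1_c22 LD2_c54 LD3_c2)) :=
  Lgr Lrot77 (Lpe (f104899 IH) (Lpr_df (K43.f548803 IH) (Lpe (K42.f138771 IH) (Lpe (K42.f138762 IH) (Lpr_ef (f613947 IH) (Lpn (LP (LK LD1_c22 LD2_c54 LD3_c2))))))))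
theorem f613963 : Led Lsl_df (LP (LK LD1_c17 LD2_c59 LD3_c10)) = (LP (LK LD1_c22 LD2_c54 LD3_c2)) :=
  Lgr Lrot38 (Lpr_dt (f613959 IH) (Lpn (LP (LK LD1_c22 LD2_c54 LD3_c2))))
theorem f75477 : Led Lsl_ct (LP (LK LD1_c4 LD2_c59 LD3_c28)) = (LP (LK LD1_c9 LD2_c49 LD3_c23)) :=
  Lre_c IH (LK LD1_c4 LD2_c59 LD3_c28) (LK LD1_c9 LD2_c49 LD3_c23) Lrfl Lrfl
theorem f499347 : Led Lsl_at (LP (LK LD1_c9 LD2_c49 LD3_c23)) = (LP (LK LD1_c17 LD2_c59 LD3_c10)) :=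
  Lgr Lrot107 (Lpe (f75477 IH) (Lpr_af (K51.f499343 IH) (Lpe (f104898 IH) (Lpn (LP (LK LD1_c17 LD2_c59 LD3_c10))))))
theorem f499382 : Led Lsl_af (LP (LK LD1_c9 LD2_c49 LD3_c23)) = (LP (LK LD1_c17 LD2_c59 LD3_c10)) :=
  Lgr Lrot0 (Lpr_at (f499347 IH) (Lpn (LP (LK LD1_c17 LD2_c59 LD3_c10))))
theorem f499385 : Led Lsl_dt (LP (LK LD1_c9 LD2_c49 LD3_c23)) = (LP (LK LD1_c17 LD2_c59 LD3_c54)) :=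
  Lre_d IH (LK LD1_c9 LD2_c49 LD3_c23) (LK LD1_c17 LD2_c59 LD3_c54) Lrfl Lrfl
theorem f613965 : Led Lsl_at (LP (LK LD1_c17 LD2_c59 LD3_c54)) = (LP (LK LD1_c22 LD2_c54 LD3_c2)) :=
  Lgr Lrot51 (Lpe (f499385 IH) (Lpr_af (f499382 IH) (Lpr_df (f613963 IH) (Lpn (LP (LK LD1_c22 LD2_c54 LD3_c2))))))
theorem f613969 : Led Lsl_ef (LP (LK LD1_c17 LD2_c59 LD3_c54)) = (LP (LK LD1_c16 LD2_c28 LD3_c10)) :=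
  Lgr Lrot20 (Lpr_at (f613965 IH) (Lpe (f613947 IH) (Lpr_at (K42.f426406 IH) (Lpn (LP (LK LD1_c16 LD2_c28 LD3_c10))))))
theorem f613981 : Led Lsl_et (LP (LK LD1_c17 LD2_c59 LD3_c54)) = (LP (LK LD1_c16 LD2_c28 LD3_c10)) :=
  Lgr Lrot87 (Lpr_ef (f613969 IH) (Lpn (LP (LK LD1_c16 LD2_c28 LD3_c10))))
theorem f613990 : Led Lsl_ef (LP (LK LD1_c9 LD2_c49 LD3_c23)) = (LP (LK LD1_c8 LD2_c48 LD3_c4)) :=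
  Lgr Lrot73 (Lpr_dt (f499385 IH) (Lpr_et (f613981 IH) (Lpr_dt (K42.f138766 IH) (Lpr_et (K41.f138756 IH) (Lpr_dt (K38.f138775 IH) (Lpn (LP (LK LD1_c8 LD2_c48 LD3_c4))))))))
theorem f426428 : Led Lsl_bt (LP (LK LD1_c4 LD2_c25 LD3_c18)) = (LP (LK LD1_c8 LD2_c48 LD3_c4)) :=
  Lre_b IH (LK LD1_c4 LD2_c25 LD3_c18) (LK LD1_c8 LD2_c48 LD3_c4) Lrfl Lrfl
theorem f613993 : Led Lsl_bt (LP (LK LD1_c9 LD2_c49 LD3_c23)) = (LP (LK LD1_c8 LD2_c48 LD3_c8)) :=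
  Lgr Lrot119 (Lpr_ef (f613990 IH) (Lpe (f426428 IH) (Lpe (K41.f80769 IH) (Lpn (LP (LK LD1_c8 LD2_c48 LD3_c8))))))
theorem f499384 : Led Lsl_ft (LP (LK LD1_c17 LD2_c59 LD3_c55)) = (LP (LK LD1_c9 LD2_c49 LD3_c23)) :=
  Lre_f IH (LK LD1_c17 LD2_c59 LD3_c55) (LK LD1_c9 LD2_c49 LD3_c23) Lrfl Lrfl
theorem f426431 : Led Lsl_ft (LP (LK LD1_c8 LD2_c48 LD3_c8)) = (LP (LK LD1_c16 LD2_c28 LD3_c14)) :=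
  Lre_f IH (LK LD1_c8 LD2_c48 LD3_c8) (LK LD1_c16 LD2_c28 LD3_c14) Lrfl Lrfl
theorem f614000 : Led Lsl_bf (LP (LK LD1_c17 LD2_c59 LD3_c55)) = (LP (LK LD1_c16 LD2_c28 LD3_c14)) :=
  Lgr Lrot61 (Lpr_ft (f499384 IH) (Lpr_bt (f613993 IH) (Lpr_ft (f426431 IH) (Lpn (LP (LK LD1_c16 LD2_c28 LD3_c14))))))
theorem f614002 : Led Lsl_bt (LP (LK LD1_c17 LD2_c59 LD3_c55)) = (LP (LK LD1_c16 LD2_c28 LD3_c14)) :=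
  Lgr Lrot127 (Lpr_bf (f614000 IH) (Lpn (LP (LK LD1_c16 LD2_c28 LD3_c14))))
theorem f719195 : Led Lsl_gf (LP (LK LD1_c8 LD2_c51 LD3_c30)) = (LP (LK LD1_c16 LD2_c28 LD3_c14)) :=
  Lgr Lrot124 (Lpe (f35706 IH) (Lpr_ct (K37.f35710 IH) (Lpr_gt (K37.f30053 IH) (Lpe (K1.f30056 IH) (Lpe (f30787 IH) (Lpe (f669332 IH) (Lpr_ct (f146432 IH) (Lpr_gt (f719191 IH) (Lpe (f613973 IH) (Lpr_bt (f614002 IH) (Lpn (LP (LK LD1_c16 LD2_c28 LD3_c14)))))))))))))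
theorem f35733 : Led Lsl_dt (LP (LK LD1_c16 LD2_c33 LD3_c40)) = (LP (LK LD1_c8 LD2_c51 LD3_c30)) :=
  Lre_d IH (LK LD1_c16 LD2_c33 LD3_c40) (LK LD1_c8 LD2_c51 LD3_c30) Lrfl Lrfl
theorem f98130 : Led Lsl_et (LP (LK LD1_c3 LD2_c36 LD3_c21)) = (LP (LK LD1_c7 LD2_c8 LD3_c19)) :=
  Lgr Lrot87 (Lpr_ef (K36.f98119 IH) (Lpn (LP (LK LD1_c7 LD2_c8 LD3_c19))))
theorem f98453 : Led Lsl_dt (LP (LK LD1_c7 LD2_c13 LD3_c3)) = (LP (LK LD1_c3 LD2_c36 LD3_c20)) :=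
  Lre_d IH (LK LD1_c7 LD2_c13 LD3_c3) (LK LD1_c3 LD2_c36 LD3_c20) Lrfl Lrfl
theorem f614180 : Led Lsl_gf (LP (LK LD1_c13 LD2_c39 LD3_c45)) = (LP (LK LD1_c21 LD2_c12 LD3_c21)) :=
  Lgr Lrot141 (Lpe (K47.f98454 IH) (Lpr_dt (f98453 IH) (Lpr_gt (K29.f10664 IH) (Lpe (K33.f10692 IH) (Lpr_et (f98130 IH) (Lpr_gt (K41.f540973 IH) (Lpr_dt (K41.f198226 IH) (Lpr_gt (K42.f558232 IH) (Lpe (K44.f569945 IH) (Lpr_et (f569947 IH) (Lpn (LP (LK LD1_c21 LD2_c12 LD3_c21)))))))))))))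
theorem f526326 : Led Lsl_gt (LP (LK LD1_c13 LD2_c39 LD3_c45)) = (LP (LK LD1_c23 LD2_c5 LD3_c3)) :=
  Lre_g IH (LK LD1_c13 LD2_c39 LD3_c45) (LK LD1_c23 LD2_c5 LD3_c3) Lrfl Lrfl
theorem f614184 : Led Lsl_af (LP (LK LD1_c23 LD2_c5 LD3_c3)) = (LP (LK LD1_c13 LD2_c42 LD3_c45)) :=
  Lgr Lrot31 (Lpe (f526326 IH) (Lpr_gf (f614180 IH) (Lpr_ft (f607334 IH) (Lpn (LP (LK LD1_c13 LD2_c42 LD3_c45))))))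
theorem f202955 : Led Lsl_et (LP (LK LD1_c6 LD2_c13 LD3_c49)) = (LP (LK LD1_c12 LD2_c6 LD3_c17)) :=
  Lre_e IH (LK LD1_c6 LD2_c13 LD3_c49) (LK LD1_c12 LD2_c6 LD3_c17) Lrfl Lrfl
theorem f426440 : Led Lsl_at (LP (LK LD1_c12 LD2_c6 LD3_c17)) = (LP (LK LD1_c8 LD2_c48 LD3_c8)) :=
  Lgr Lrot80 (Lpe (f202955 IH) (Lpr_af (K28.f426434 IH) (Lpe (K41.f80769 IH) (Lpn (LP (LK LD1_c8 LD2_c48 LD3_c8))))))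
theorem f565866 : Led Lsl_at (LP (LK LD1_c13 LD2_c42 LD3_c46)) = (LP (LK LD1_c21 LD2_c12 LD3_c21)) :=
  Lgr Lrot51 (Lpr_df (K41.f565863 IH) (Lpe (f426440 IH) (Lpe (f203373 IH) (Lpn (LP (LK LD1_c21 LD2_c12 LD3_c21))))))
theorem f614188 : Led Lsl_ft (LP (LK LD1_c23 LD2_c5 LD3_c3)) = (LP (LK LD1_c13 LD2_c42 LD3_c46)) :=
  Lgr Lrot101 (Lpr_af (f614184 IH) (Lpe (f607334 IH) (Lpe (f565866 IH) (Lpn (LP (LK LD1_c13 LD2_c42 LD3_c46))))))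
theorem f614194 : Led Lsl_ff (LP (LK LD1_c23 LD2_c5 LD3_c3)) = (LP (LK LD1_c13 LD2_c42 LD3_c46)) :=
  Lgr Lrot3 (Lpr_ft (f614188 IH) (Lpn (LP (LK LD1_c13 LD2_c42 LD3_c46))))
theorem f427424 : Led Lsl_ft (LP (LK LD1_c16 LD2_c28 LD3_c14)) = (LP (LK LD1_c8 LD2_c48 LD3_c8)) :=
  Lre_f IH (LK LD1_c16 LD2_c28 LD3_c14) (LK LD1_c8 LD2_c48 LD3_c8) Lrfl Lrfl
theorem f614198 : Led Lsl_dt (LP (LK LD1_c23 LD2_c5 LD3_c3)) = (LP (LK LD1_c16 LD2_c28 LD3_c14)) :=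
  Lgr Lrot60 (Lpr_ff (f614194 IH) (Lpr_df (K41.f565863 IH) (Lpe (f427424 IH) (Lpn (LP (LK LD1_c16 LD2_c28 LD3_c14))))))
theorem f6201 : Led Lsl_et (LP (LK LD1_c3 LD2_c37 LD3_c16)) = (LP (LK LD1_c7 LD2_c15 LD3_c5)) :=
  Lre_e IH (LK LD1_c3 LD2_c37 LD3_c16) (LK LD1_c7 LD2_c15 LD3_c5) Lrfl Lrfl
theorem f6505 : Led Lsl_gt (LP (LK LD1_c13 LD2_c43 LD3_c24)) = (LP (LK LD1_c7 LD2_c15 LD3_c5)) :=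
  Lre_g IH (LK LD1_c13 LD2_c43 LD3_c24) (LK LD1_c7 LD2_c15 LD3_c5) Lrfl Lrfl
theorem f719201 : Led Lsl_et (LP (LK LD1_c16 LD2_c33 LD3_c40)) = (LP (LK LD1_c13 LD2_c43 LD3_c24)) :=
  Lgr Lrot185 (Lpr_dt (f35733 IH) (Lpr_gf (f719195 IH) (Lpe (f614198 IH) (Lpe (f526326 IH) (Lpe (K47.f98454 IH) (Lpr_dt (f98453 IH) (Lpe (K29.f6623 IH) (Lpe (K33.f5978 IH) (Lpr_et (f6201 IH) (Lpe (f6505 IH) (Lpn (LP (LK LD1_c13 LD2_c43 LD3_c24)))))))))))))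
theorem f719209 : Led Lsl_ef (LP (LK LD1_c16 LD2_c33 LD3_c40)) = (LP (LK LD1_c13 LD2_c43 LD3_c24)) :=
  Lgr Lrot88 (Lpr_et (f719201 IH) (Lpn (LP (LK LD1_c13 LD2_c43 LD3_c24))))
theorem f35734 : Led Lsl_gt (LP (LK LD1_c26 LD2_c30 LD3_c28)) = (LP (LK LD1_c16 LD2_c33 LD3_c40)) :=
  Lre_g IH (LK LD1_c26 LD2_c30 LD3_c28) (LK LD1_c16 LD2_c33 LD3_c40) Lrfl Lrfl
theorem f98158 : Led Lsl_dt (LP (LK LD1_c13 LD2_c43 LD3_c24)) = (LP (LK LD1_c23 LD2_c9 LD3_c57)) :=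
  Lre_d IH (LK LD1_c13 LD2_c43 LD3_c24) (LK LD1_c23 LD2_c9 LD3_c57) Lrfl Lrfl
theorem f92636 : Led Lsl_et (LP (LK LD1_c7 LD2_c14 LD3_c31)) = (LP (LK LD1_c13 LD2_c42 LD3_c7)) :=
  Lre_e IH (LK LD1_c7 LD2_c14 LD3_c31) (LK LD1_c13 LD2_c42 LD3_c7) Lrfl Lrfl
theorem f17625 : Led Lsl_gt (LP (LK LD1_c23 LD2_c7 LD3_c46)) = (LP (LK LD1_c13 LD2_c42 LD3_c7)) :=
  Lre_g IH (LK LD1_c23 LD2_c7 LD3_c46) (LK LD1_c13 LD2_c42 LD3_c7) Lrfl Lrfl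
theorem f10557 : Led Lsl_gt (LP (LK LD1_c13 LD2_c43 LD3_c7)) = (LP (LK LD1_c23 LD2_c9 LD3_c31)) :=
  Lre_g IH (LK LD1_c13 LD2_c43 LD3_c7) (LK LD1_c23 LD2_c9 LD3_c31) Lrfl Lrfl
theorem f92622 : Led Lsl_df (LP (LK LD1_c23 LD2_c7 LD3_c46)) = (LP (LK LD1_c23 LD2_c9 LD3_c31)) :=
  Lgr Lrot135 (Lpr_gt (f17625 IH) (Lpe (K47.f17624 IH) (Lpr_et (K47.f17623 IH) (Lpr_gt (K41.f17614 IH) (Lpe (K43.f17626 IH) (Lpr_dt (K2.f4057 IH) (Lpr_gt (K28.f5274 IH) (Lpe (K34.f4097 IH) (Lpr_et (K35.f92540 IH) (Lpr_gt (f10557 IH) (Lpn (LP (LK LD1_c23 LD2_c9 LD3_c31)))))))))))))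
theorem f92558 : Led Lsl_et (LP (LK LD1_c13 LD2_c31 LD3_c57)) = (LP (LK LD1_c7 LD2_c8 LD3_c43)) :=
  Lre_e IH (LK LD1_c13 LD2_c31 LD3_c57) (LK LD1_c7 LD2_c8 LD3_c43) Lrfl Lrfl
theorem f92559 : Led Lsl_dt (LP (LK LD1_c13 LD2_c31 LD3_c57)) = (LP (LK LD1_c7 LD2_c8 LD3_c42)) :=
  Lre_d IH (LK LD1_c13 LD2_c31 LD3_c57) (LK LD1_c7 LD2_c8 LD3_c42) Lrfl Lrfl
theorem f92565 : Led Lsl_gt (LP (LK LD1_c13 LD2_c31 LD3_c56)) = (LP (LK LD1_c7 LD2_c8 LD3_c42)) :=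
  Lre_g IH (LK LD1_c13 LD2_c31 LD3_c56) (LK LD1_c7 LD2_c8 LD3_c42) Lrfl Lrfl
theorem f92566 : Led Lsl_dt (LP (LK LD1_c22 LD2_c53 LD3_c41)) = (LP (LK LD1_c13 LD2_c31 LD3_c56)) :=
  Lre_d IH (LK LD1_c22 LD2_c53 LD3_c41) (LK LD1_c13 LD2_c31 LD3_c56) Lrfl Lrfl
theorem f92567 : Led Lsl_ef (LP (LK LD1_c23 LD2_c9 LD3_c31)) = (LP (LK LD1_c22 LD2_c53 LD3_c41)) :=
  Lgr Lrot17 (Lpe (f10557 IH) (Lpe (K35.f92540 IH) (Lpr_dt (K34.f4097 IH) (Lpe (K28.f5274 IH) (Lpe (K2.f4057 IH) (Lpr_gf (K34.f92546 IH) (Lpe (f92558 IH) (Lpr_dt (f92559 IH) (Lpe (f92565 IH) (Lpe (f92566 IH) (Lpn (LP (LK LD1_c22 LD2_c53 LD3_c41)))))))))))))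
theorem f92571 : Led Lsl_dt (LP (LK LD1_c13 LD2_c31 LD3_c56)) = (LP (LK LD1_c22 LD2_c53 LD3_c41)) :=
  Lre_d IH (LK LD1_c13 LD2_c31 LD3_c56) (LK LD1_c22 LD2_c53 LD3_c41) Lrfl Lrfl
theorem f92572 : Led Lsl_et (LP (LK LD1_c22 LD2_c53 LD3_c42)) = (LP (LK LD1_c13 LD2_c31 LD3_c56)) :=
  Lre_e IH (LK LD1_c22 LD2_c53 LD3_c42) (LK LD1_c13 LD2_c31 LD3_c56) Lrfl Lrfl
theorem f92573 : Led Lsl_dt (LP (LK LD1_c30 LD2_c46 LD3_c61)) = (LP (LK LD1_c22 LD2_c53 LD3_c42)) :=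
  Lre_d IH (LK LD1_c30 LD2_c46 LD3_c61) (LK LD1_c22 LD2_c53 LD3_c42) Lrfl Lrfl
theorem f92626 : Led Lsl_et (LP (LK LD1_c23 LD2_c7 LD3_c46)) = (LP (LK LD1_c30 LD2_c46 LD3_c61)) :=
  Lgr Lrot71 (Lpr_df (f92622 IH) (Lpr_ef (f92567 IH) (Lpe (f92571 IH) (Lpe (f92572 IH) (Lpe (f92573 IH) (Lpn (LP (LK LD1_c30 LD2_c46 LD3_c61))))))))
theorem f92634 : Led Lsl_ef (LP (LK LD1_c23 LD2_c7 LD3_c46)) = (LP (LK LD1_c30 LD2_c46 LD3_c61)) :=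
  Lgr Lrot88 (Lpr_et (f92626 IH) (Lpn (LP (LK LD1_c30 LD2_c46 LD3_c61))))
theorem f98154 : Led Lsl_et (LP (LK LD1_c13 LD2_c31 LD3_c15)) = (LP (LK LD1_c22 LD2_c52 LD3_c18)) :=
  Lre_e IH (LK LD1_c13 LD2_c31 LD3_c15) (LK LD1_c22 LD2_c52 LD3_c18) Lrfl Lrfl
theorem f98155 : Led Lsl_gf (LP (LK LD1_c13 LD2_c43 LD3_c24)) = (LP (LK LD1_c22 LD2_c52 LD3_c18)) :=
  Lgr Lrot47 (Lpr_gt (f6505 IH) (Lpe (K3.f6191 IH) (Lpr_ff (K36.f98143 IH) (Lpn (LP (LK LD1_c22 LD2_c52 LD3_c18))))))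
theorem f98434 : Led Lsl_gf (LP (LK LD1_c22 LD2_c53 LD3_c42)) = (LP (LK LD1_c23 LD2_c9 LD3_c57)) :=
  Lgr Lrot134 (Lpe (f92573 IH) (Lpe (f92634 IH) (Lpr_gt (f17625 IH) (Lpe (f92636 IH) (Lpr_dt (K43.f92637 IH) (Lpr_gt (K41.f98426 IH) (Lpe (K36.f6159 IH) (Lpr_et (f98154 IH) (Lpe (f98155 IH) (Lpr_dt (f98158 IH) (Lpn (LP (LK LD1_c23 LD2_c9 LD3_c57)))))))))))))
theorem f719218 : Led Lsl_ef (LP (LK LD1_c26 LD2_c30 LD3_c28)) = (LP (LK LD1_c23 LD2_c5 LD3_c13)) :=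
  Lgr Lrot114 (Lpr_gt (f35734 IH) (Lpr_ef (f719209 IH) (Lpr_dt (f98158 IH) (Lpe (f98434 IH) (Lpe (f92573 IH) (Lpe (f92634 IH) (Lpr_gt (f17625 IH) (Lpr_dt (K47.f92629 IH) (Lpe (K47.f573776 IH) (Lpe (K47.f442059 IH) (Lpn (LP (LK LD1_c23 LD2_c5 LD3_c13)))))))))))))
theorem f719220 : Led Lsl_et (LP (LK LD1_c26 LD2_c30 LD3_c28)) = (LP (LK LD1_c23 LD2_c5 LD3_c13)) :=
  Lgr Lrot87 (Lpr_ef (f719218 IH) (Lpn (LP (LK LD1_c23 LD2_c5 LD3_c13))))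
theorem f481307 : Led Lsl_dt (LP (LK LD1_c7 LD2_c14 LD3_c52)) = (LP (LK LD1_c13 LD2_c42 LD3_c47)) :=
  Lre_d IH (LK LD1_c7 LD2_c14 LD3_c52) (LK LD1_c13 LD2_c42 LD3_c47) Lrfl Lrfl
theorem f481308 : Led Lsl_gt (LP (LK LD1_c23 LD2_c8 LD3_c55)) = (LP (LK LD1_c13 LD2_c42 LD3_c47)) :=
  Lre_g IH (LK LD1_c23 LD2_c8 LD3_c55) (LK LD1_c13 LD2_c42 LD3_c47) Lrfl Lrfl
theorem f719222 : Led Lsl_dt (LP (LK LD1_c26 LD2_c30 LD3_c28)) = (LP (LK LD1_c23 LD2_c8 LD3_c55)) :=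
  Lgr Lrot136 (Lpr_et (f719220 IH) (Lpe (K47.f442033 IH) (Lpe (K45.f442008 IH) (Lpe (K29.f442004 IH) (Lpr_gf (K47.f660873 IH) (Lpe (K47.f660877 IH) (Lpr_gf (K47.f481295 IH) (Lpe (K47.f481306 IH) (Lpr_dt (f481307 IH) (Lpe (f481308 IH) (Lpn (LP (LK LD1_c23 LD2_c8 LD3_c55)))))))))))))
theorem f719223 : Led Lsl_dt (LP (LK LD1_c26 LD2_c30 LD3_c28)) = (LP (LK LD1_c23 LD2_c8 LD3_c55)) :=
  Leop (Lpe (f719222 IH) (Lpn (LP (LK LD1_c26 LD2_c30 LD3_c28))))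
theorem seed_807 : LEOK LG_d (LK LD1_c26 LD2_c30 LD3_c28) :=
  Leoe_d (LK LD1_c26 LD2_c30 LD3_c28) (f719223 IH)
def v14135 : LQ := Led Lsl_ft (LP (LK LD1_c4 LD2_c59 LD3_c54))
theorem f719324 : Led Lsl_ft (LP (LK LD1_c4 LD2_c59 LD3_c54)) = v14135 :=
  Lrfl
theorem f415827 : Led Lsl_gt (LP (LK LD1_c4 LD2_c59 LD3_c54)) = (LP (LK LD1_c9 LD2_c50 LD3_c15)) :=
  Lre_g IH (LK LD1_c4 LD2_c59 LD3_c54) (LK LD1_c9 LD2_c50 LD3_c15) Lrfl Lrfl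
def v14134 : LQ := Led Lsl_at (LP (LK LD1_c4 LD2_c59 LD3_c54))
theorem f719320 : Led Lsl_at (LP (LK LD1_c4 LD2_c59 LD3_c54)) = v14134 :=
  Lrfl
theorem f719321 : Led Lsl_af (LP (LK LD1_c4 LD2_c59 LD3_c54)) = v14134 :=
  Lgr Lrot0 (Lpr_at (f719320 IH) (Lpn v14134))
theorem f719322 : Led Lsl_ft (LP (LK LD1_c17 LD2_c4 LD3_c24)) = v14134 :=
  Lgr Lrot2 (Lpe (K52.f710554 IH) (Lpr_gt (K52.f710556 IH) (Lpr_af (f719321 IH) (Lpn v14134))))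
theorem f719325 : Led Lsl_af (LP (LK LD1_c17 LD2_c4 LD3_c24)) = v14135 :=
  Lgr Lrot45 (Lpr_ft (f719322 IH) (Lpe (f719321 IH) (Lpr_ft (f719324 IH) (Lpn v14135))))
theorem f719328 : Led Lsl_gt (LP (LK LD1_c9 LD2_c50 LD3_c15)) = (LP (LK LD1_c17 LD2_c4 LD3_c24)) :=
  Lgr Lrot46 (Lpe (f415827 IH) (Lpr_ft (f719324 IH) (Lpe (f719325 IH) (Lpn (LP (LK LD1_c17 LD2_c4 LD3_c24))))))
theorem f719329 : Led Lsl_gt (LP (LK LD1_c9 LD2_c50 LD3_c15)) = (LP (LK LD1_c17 LD2_c4 LD3_c24)) :=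
  Leop (Lpe (f719328 IH) (Lpn (LP (LK LD1_c9 LD2_c50 LD3_c15))))
theorem seed_808 : LEOK LG_g (LK LD1_c9 LD2_c50 LD3_c15) :=
  Leoe_g (LK LD1_c9 LD2_c50 LD3_c15) (f719329 IH)
theorem f719327 : Led Lsl_ff (LP (LK LD1_c4 LD2_c59 LD3_c54)) = v14135 :=
  Lgr Lrot3 (Lpr_ft (f719324 IH) (Lpn v14135))
def v4552 : LQ := Led Lsl_ft (LP (LK LD1_c2 LD2_c27 LD3_c44))
theorem f636087 : Led Lsl_ft (LP (LK LD1_c2 LD2_c27 LD3_c44)) = v4552 :=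
  Lrfl
theorem f719431 : Led Lsl_bt v4552 = v14135 :=
  Lgr Lrot35 (Lpe (f636087 IH) (Lpe (K31.f415088 IH) (Lpr_ff (f719327 IH) (Lpn v14135))))
theorem f636090 : Led Lsl_ff (LP (LK LD1_c2 LD2_c27 LD3_c44)) = v4552 :=
  Lgr Lrot3 (Lpr_ft (f636087 IH) (Lpn v4552))
def v4551 : LQ := Led Lsl_at (LP (LK LD1_c2 LD2_c27 LD3_c44))
theorem f636078 : Led Lsl_at (LP (LK LD1_c2 LD2_c27 LD3_c44)) = v4551 :=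
  Lrfl
theorem f636079 : Led Lsl_af (LP (LK LD1_c2 LD2_c27 LD3_c44)) = v4551 :=
  Lgr Lrot0 (Lpr_at (f636078 IH) (Lpn v4551))
theorem f77425 : Led Lsl_gt (LP (LK LD1_c2 LD2_c27 LD3_c45)) = (LP (LK LD1_c1 LD2_c10 LD3_c61)) :=
  Lre_g IH (LK LD1_c2 LD2_c27 LD3_c45) (LK LD1_c1 LD2_c10 LD3_c61) Lrfl Lrfl
theorem f636081 : Led Lsl_ft (LP (LK LD1_c2 LD2_c27 LD3_c45)) = v4551 :=
  Lgr Lrot2 (Lpr_gt (f77425 IH) (Lpr_gt (K31.f77408 IH) (Lpr_af (f636079 IH) (Lpn v4551))))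
theorem f636084 : Led Lsl_ff (LP (LK LD1_c2 LD2_c27 LD3_c45)) = v4551 :=
  Lgr Lrot3 (Lpr_ft (f636081 IH) (Lpn v4551))
theorem f636093 : Led Lsl_at (LP (LK LD1_c2 LD2_c27 LD3_c45)) = v4552 :=
  Lgr Lrot66 (Lpr_ff (f636084 IH) (Lpe (f636078 IH) (Lpr_ff (f636090 IH) (Lpn v4552))))
theorem f140717 : Led Lsl_bt (LP (LK LD1_c4 LD2_c59 LD3_c58)) = (LP (LK LD1_c2 LD2_c27 LD3_c45)) :=
  Lre_b IH (LK LD1_c4 LD2_c59 LD3_c58) (LK LD1_c2 LD2_c27 LD3_c45) Lrfl Lrfl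
theorem f636095 : Led Lsl_at (LP (LK LD1_c9 LD2_c50 LD3_c26)) = (LP (LK LD1_c4 LD2_c59 LD3_c58)) :=
  Lre_a IH (LK LD1_c9 LD2_c50 LD3_c26) (LK LD1_c4 LD2_c59 LD3_c58) Lrfl Lrfl
theorem f719432 : Led Lsl_bf (LP (LK LD1_c9 LD2_c50 LD3_c26)) = (LP (LK LD1_c17 LD2_c4 LD3_c24)) :=
  Lgr Lrot81 (Lpr_at (f636095 IH) (Lpr_bt (f140717 IH) (Lpr_at (f636093 IH) (Lpr_bt (f719431 IH) (Lpe (f719325 IH) (Lpn (LP (LK LD1_c17 LD2_c4 LD3_c24))))))))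
theorem f719433 : Led Lsl_bt (LP (LK LD1_c17 LD2_c4 LD3_c24)) = (LP (LK LD1_c9 LD2_c50 LD3_c26)) :=
  Leop (Lpr_bf (f719432 IH) (Lpn (LP (LK LD1_c17 LD2_c4 LD3_c24))))
theorem seed_809 : LEOK LG_b (LK LD1_c17 LD2_c4 LD3_c24) :=
  Leoe_b (LK LD1_c17 LD2_c4 LD3_c24) (f719433 IH)
def v14138 : LQ := Led Lsl_ft (LP (LK LD1_c4 LD2_c59 LD3_c55))
theorem f719464 : Led Lsl_ft (LP (LK LD1_c4 LD2_c59 LD3_c55)) = v14138 :=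
  Lrfl
def v14137 : LQ := Led Lsl_at (LP (LK LD1_c4 LD2_c59 LD3_c55))
theorem f719452 : Led Lsl_at (LP (LK LD1_c4 LD2_c59 LD3_c55)) = v14137 :=
  Lrfl
theorem f719453 : Led Lsl_af (LP (LK LD1_c4 LD2_c59 LD3_c55)) = v14137 :=
  Lgr Lrot0 (Lpr_at (f719452 IH) (Lpn v14137))
theorem f719454 : Led Lsl_cf v4551 = v14137 :=
  Lgr Lrot1 (Lpe (f636079 IH) (Lpr_ct (K46.f415850 IH) (Lpr_at (f719452 IH) (Lpn v14137))))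
theorem f415089 : Led Lsl_ct (LP (LK LD1_c2 LD2_c27 LD3_c45)) = (LP (LK LD1_c4 LD2_c59 LD3_c59)) :=
  Lre_c IH (LK LD1_c2 LD2_c27 LD3_c45) (LK LD1_c4 LD2_c59 LD3_c59) Lrfl Lrfl
theorem f719456 : Led Lsl_ft (LP (LK LD1_c4 LD2_c59 LD3_c59)) = v14137 :=
  Lgr Lrot4 (Lpe (f415089 IH) (Lpr_ff (f636084 IH) (Lpr_cf (f719454 IH) (Lpn v14137))))
theorem f719465 : Led Lsl_af (LP (LK LD1_c4 LD2_c59 LD3_c59)) = v14138 :=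
  Lgr Lrot45 (Lpr_ft (f719456 IH) (Lpe (f719453 IH) (Lpr_ft (f719464 IH) (Lpn v14138))))
theorem f719468 : Led Lsl_gt (LP (LK LD1_c9 LD2_c50 LD3_c18)) = (LP (LK LD1_c4 LD2_c59 LD3_c59)) :=
  Lgr Lrot46 (Lpe (K46.f415851 IH) (Lpr_ft (f719464 IH) (Lpe (f719465 IH) (Lpn (LP (LK LD1_c4 LD2_c59 LD3_c59))))))
theorem f719469 : Led Lsl_gt (LP (LK LD1_c9 LD2_c50 LD3_c18)) = (LP (LK LD1_c4 LD2_c59 LD3_c59)) :=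
  Leop (Lpe (f719468 IH) (Lpn (LP (LK LD1_c9 LD2_c50 LD3_c18))))
theorem seed_810 : LEOK LG_g (LK LD1_c9 LD2_c50 LD3_c18) :=
  Leoe_g (LK LD1_c9 LD2_c50 LD3_c18) (f719469 IH)
theorem f710698 : Led Lsl_ff K46.v5104 = (LP (LK LD1_c5 LD2_c57 LD3_c52)) :=
  Lgr Lrot3 (Lpr_ft (K52.f710694 IH) (Lpn (LP (LK LD1_c5 LD2_c57 LD3_c52))))
theorem f101633 : Led Lsl_ct (LP (LK LD1_c11 LD2_c40 LD3_c30)) = (LP (LK LD1_c5 LD2_c57 LD3_c52)) :=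
  Lre_c IH (LK LD1_c11 LD2_c40 LD3_c30) (LK LD1_c5 LD2_c57 LD3_c52) Lrfl Lrfl
theorem f710701 : Led Lsl_ft (LP (LK LD1_c9 LD2_c50 LD3_c18)) = (LP (LK LD1_c11 LD2_c40 LD3_c30)) :=
  Lgr Lrot4 (Lpr_cf (K46.f645950 IH) (Lpr_ff (f710698 IH) (Lpe (f101633 IH) (Lpn (LP (LK LD1_c11 LD2_c40 LD3_c30))))))
theorem f74390 : Led Lsl_et (LP (LK LD1_c4 LD2_c59 LD3_c23)) = (LP (LK LD1_c9 LD2_c49 LD3_c10)) :=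
  Lre_e IH (LK LD1_c4 LD2_c59 LD3_c23) (LK LD1_c9 LD2_c49 LD3_c10) Lrfl Lrfl
theorem f150220 : Led Lsl_et (LP (LK LD1_c11 LD2_c40 LD3_c30)) = (LP (LK LD1_c5 LD2_c57 LD3_c51)) :=
  Lre_e IH (LK LD1_c11 LD2_c40 LD3_c30) (LK LD1_c5 LD2_c57 LD3_c51) Lrfl Lrfl
theorem f163192 : Led Lsl_at (LP (LK LD1_c9 LD2_c49 LD3_c10)) = (LP (LK LD1_c11 LD2_c40 LD3_c30)) :=
  Lgr Lrot80 (Lpe (f74390 IH) (Lpr_af (K8.f163186 IH) (Lpe (f150220 IH) (Lpn (LP (LK LD1_c11 LD2_c40 LD3_c30))))))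
theorem f424596 : Led Lsl_af (LP (LK LD1_c9 LD2_c49 LD3_c10)) = (LP (LK LD1_c11 LD2_c40 LD3_c30)) :=
  Lgr Lrot0 (Lpr_at (f163192 IH) (Lpn (LP (LK LD1_c11 LD2_c40 LD3_c30))))
def v14136 : LQ := Led Lsl_gf (LP (LK LD1_c4 LD2_c59 LD3_c55))
theorem f719446 : Led Lsl_gf (LP (LK LD1_c4 LD2_c59 LD3_c55)) = v14136 :=
  Lrfl
theorem f719458 : Led Lsl_gt (LP (LK LD1_c4 LD2_c59 LD3_c59)) = v14136 :=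
  Lgr Lrot5 (Lpr_ft (f719456 IH) (Lpe (f719453 IH) (Lpr_gf (f719446 IH) (Lpn v14136))))
theorem f719471 : (LP (LK LD1_c9 LD2_c49 LD3_c10)) = v14136 :=
  (Llr Lrot26 (Lpr_af (f424596 IH) (Lpe (f710701 IH) (Lpr_gt (f719468 IH) (Lpr_gt (f719458 IH) (Lpn v14136)))))).symm
theorem f719472 : Led Lsl_gt (LP (LK LD1_c9 LD2_c49 LD3_c10)) = (LP (LK LD1_c4 LD2_c59 LD3_c55)) :=
  Leop (Lpr_gf (f719446 IH) (Lpq (f719471 IH) (Lpn (LP (LK LD1_c9 LD2_c49 LD3_c10)))))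
theorem seed_811 : LEOK LG_g (LK LD1_c9 LD2_c49 LD3_c10) :=
  Leoe_g (LK LD1_c9 LD2_c49 LD3_c10) (f719472 IH)
def v13303 : LQ := Led Lsl_ft (LP (LK LD1_c4 LD2_c42 LD3_c59))
theorem f702242 : Led Lsl_ft (LP (LK LD1_c4 LD2_c42 LD3_c59)) = v13303 :=
  Lrfl
theorem f702246 : Led Lsl_ff (LP (LK LD1_c4 LD2_c42 LD3_c59)) = v13303 :=
  Lgr Lrot3 (Lpr_ft (f702242 IH) (Lpn v13303))
def v5562 : LQ := Led Lsl_gf (LP (LK LD1_c3 LD2_c10 LD3_c20))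
theorem f648266 : Led Lsl_gf (LP (LK LD1_c3 LD2_c10 LD3_c20)) = v5562 :=
  Lrfl
theorem f702250 : Led Lsl_gf v5562 = v13303 :=
  Lgr Lrot47 (Lpe (f648266 IH) (Lpr_af (K39.f449224 IH) (Lpr_ff (f702246 IH) (Lpn v13303))))
def v13042 : LQ := Led Lsl_gf (LP (LK LD1_c4 LD2_c38 LD3_c19))
theorem f700702 : Led Lsl_gf (LP (LK LD1_c4 LD2_c38 LD3_c19)) = v13042 :=
  Lrfl
theorem f424764 : Led Lsl_cf (LP (LK LD1_c9 LD2_c49 LD3_c10)) = (LP (LK LD1_c5 LD2_c57 LD3_c36)) :=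
  Lgr Lrot1 (Lpr_at (f163192 IH) (Lpr_ct (f101633 IH) (Lpr_at (K51.f424760 IH) (Lpn (LP (LK LD1_c5 LD2_c57 LD3_c36))))))
theorem f549450 : Led Lsl_bt (LP (LK LD1_c5 LD2_c57 LD3_c36)) = (LP (LK LD1_c3 LD2_c10 LD3_c20)) :=
  Lgr Lrot95 (Lpr_df (K51.f549446 IH) (Lpe (K51.f68634 IH) (Lpr_df (K32.f68631 IH) (Lpn (LP (LK LD1_c3 LD2_c10 LD3_c20))))))
theorem f415813 : Led Lsl_bt (LP (LK LD1_c2 LD2_c27 LD3_c44)) = (LP (LK LD1_c4 LD2_c59 LD3_c54)) :=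
  Lre_b IH (LK LD1_c2 LD2_c27 LD3_c44) (LK LD1_c4 LD2_c59 LD3_c54) Lrfl Lrfl
theorem f415641 : Led Lsl_bt (LP (LK LD1_c2 LD2_c16 LD3_c2)) = (LP (LK LD1_c1 LD2_c23 LD3_c60)) :=
  Lre_b IH (LK LD1_c2 LD2_c16 LD3_c2) (LK LD1_c1 LD2_c23 LD3_c60) Lrfl Lrfl
theorem f75996 : Led Lsl_gt (LP (LK LD1_c1 LD2_c23 LD3_c60)) = (LP (LK LD1_c2 LD2_c56 LD3_c5)) :=
  Lre_g IH (LK LD1_c1 LD2_c23 LD3_c60) (LK LD1_c2 LD2_c56 LD3_c5) Lrfl Lrfl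
theorem f140876 : Led Lsl_bt (LP (LK LD1_c5 LD2_c59 LD3_c27)) = (LP (LK LD1_c2 LD2_c56 LD3_c5)) :=
  Lre_b IH (LK LD1_c5 LD2_c59 LD3_c27) (LK LD1_c2 LD2_c56 LD3_c5) Lrfl Lrfl
theorem f140877 : Led Lsl_ct (LP (LK LD1_c5 LD2_c59 LD3_c27)) = (LP (LK LD1_c11 LD2_c43 LD3_c31)) :=
  Lre_c IH (LK LD1_c5 LD2_c59 LD3_c27) (LK LD1_c11 LD2_c43 LD3_c31) Lrfl Lrfl
theorem f74630 : Led Lsl_gt (LP (LK LD1_c2 LD2_c56 LD3_c5)) = (LP (LK LD1_c1 LD2_c24 LD3_c11)) :=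
  Lre_g IH (LK LD1_c2 LD2_c56 LD3_c5) (LK LD1_c1 LD2_c24 LD3_c11) Lrfl Lrfl
theorem f713881 : Led Lsl_gf (LP (LK LD1_c11 LD2_c43 LD3_c31)) = (LP (LK LD1_c7 LD2_c1 LD3_c36)) :=
  Lgr Lrot129 (Lpe (f140877 IH) (Lpr_bt (f140876 IH) (Lpr_gt (f74630 IH) (Lpe (K32.f140875 IH) (Lpr_ct (K32.f140109 IH) (Lpr_gt (K46.f25607 IH) (Lpr_cf (K32.f140862 IH) (Lpr_bt (K52.f140873 IH) (Lpr_gt (K52.f636107 IH) (Lpqs (K52.f713808 IH) (Lpr_ct (K52.f109952 IH) (Lpn (LP (LK LD1_c7 LD2_c1 LD3_c36))))))))))))))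
theorem f109951 : Led Lsl_bt (LP (LK LD1_c3 LD2_c30 LD3_c0)) = (LP (LK LD1_c7 LD2_c1 LD3_c36)) :=
  Lre_b IH (LK LD1_c3 LD2_c30 LD3_c0) (LK LD1_c7 LD2_c1 LD3_c36) Lrfl Lrfl
theorem f711655 : Led Lsl_ff (LP (LK LD1_c11 LD2_c47 LD3_c10)) = (LP (LK LD1_c7 LD2_c1 LD3_c36)) :=
  Lgr Lrot25 (Lpr_bt (K52.f711649 IH) (Lpr_ft (K5.f115658 IH) (Lpr_bt (f109951 IH) (Lpn (LP (LK LD1_c7 LD2_c1 LD3_c36))))))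
def v12910 : LQ := Led Lsl_gt (LP (LK LD1_c4 LD2_c34 LD3_c28))
theorem f699542 : Led Lsl_gt (LP (LK LD1_c4 LD2_c34 LD3_c28)) = v12910 :=
  Lrfl
theorem f640511 : Led Lsl_ff (LP (LK LD1_c2 LD2_c50 LD3_c13)) = K52.v4834 :=
  Lgr Lrot3 (Lpr_ft (K52.f640510 IH) (Lpn K52.v4834))
theorem f699546 : Led Lsl_af K52.v4834 = K52.v12912 :=
  Lgr Lrot45 (Lpe (f640511 IH) (Lpr_at (K52.f146619 IH) (Lpr_ft (K52.f699545 IH) (Lpn K52.v12912))))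
theorem f699549 : Led Lsl_gt v12910 = K52.v4834 :=
  Lgr Lrot46 (Lpe (f699542 IH) (Lpr_ft (K52.f699545 IH) (Lpe (f699546 IH) (Lpn K52.v4834))))
theorem f495308 : Led Lsl_at (LP (LK LD1_c5 LD2_c0 LD3_c18)) = (LP (LK LD1_c2 LD2_c27 LD3_c53)) :=
  Lre_a IH (LK LD1_c5 LD2_c0 LD3_c18) (LK LD1_c2 LD2_c27 LD3_c53) Lrfl Lrfl
theorem f633850 : Led Lsl_ft (LP (LK LD1_c8 LD2_c0 LD3_c52)) = (LP (LK LD1_c5 LD2_c0 LD3_c18)) :=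
  Lgr Lrot101 (Lpe (K52.f629274 IH) (Lpr_ff (K51.f633842 IH) (Lpe (f495308 IH) (Lpn (LP (LK LD1_c5 LD2_c0 LD3_c18))))))
theorem f140874 : Led Lsl_gt (LP (LK LD1_c5 LD2_c0 LD3_c17)) = (LP (LK LD1_c2 LD2_c27 LD3_c53)) :=
  Lre_g IH (LK LD1_c5 LD2_c0 LD3_c17) (LK LD1_c2 LD2_c27 LD3_c53) Lrfl Lrfl
theorem f633866 : Led Lsl_gt (LP (LK LD1_c8 LD2_c0 LD3_c52)) = (LP (LK LD1_c5 LD2_c0 LD3_c17)) :=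
  Lgr Lrot5 (Lpr_ft (f633850 IH) (Lpr_at (f495308 IH) (Lpe (f140874 IH) (Lpn (LP (LK LD1_c5 LD2_c0 LD3_c17))))))
theorem f713809 : (LP (LK LD1_c8 LD2_c0 LD3_c52)) = v12910 :=
  Lefun (Lecon (Lfl_gf (K52.f636108 IH)) (K52.f713808 IH)) (f699542 IH)
theorem f713813 : K52.v4834 = (LP (LK LD1_c5 LD2_c0 LD3_c17)) :=
  Lefun (Lecon (f699549 IH) (f713809 IH).symm) (f633866 IH)
theorem f56823 : Led Lsl_ct (LP (LK LD1_c5 LD2_c48 LD3_c17)) = (LP (LK LD1_c2 LD2_c50 LD3_c13)) :=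
  Lre_c IH (LK LD1_c5 LD2_c48 LD3_c17) (LK LD1_c2 LD2_c50 LD3_c13) Lrfl Lrfl
theorem f633868 : Led Lsl_ct (LP (LK LD1_c5 LD2_c0 LD3_c17)) = (LP (LK LD1_c9 LD2_c50 LD3_c60)) :=
  Lre_c IH (LK LD1_c5 LD2_c0 LD3_c17) (LK LD1_c9 LD2_c50 LD3_c60) Lrfl Lrfl
theorem f713822 : Led Lsl_ff (LP (LK LD1_c5 LD2_c48 LD3_c17)) = (LP (LK LD1_c9 LD2_c50 LD3_c60)) :=
  Lgr Lrot23 (Lpr_ct (f56823 IH) (Lpr_ft (K52.f640510 IH) (Lpqs (f713813 IH) (Lpr_ct (f633868 IH) (Lpn (LP (LK LD1_c9 LD2_c50 LD3_c60)))))))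
theorem f713824 : Led Lsl_at (LP (LK LD1_c11 LD2_c47 LD3_c10)) = (LP (LK LD1_c9 LD2_c50 LD3_c60)) :=
  Lgr Lrot66 (Lpr_ff (f711655 IH) (Lpe (K6.f146621 IH) (Lpr_ff (f713822 IH) (Lpn (LP (LK LD1_c9 LD2_c50 LD3_c60))))))
theorem f714666 : Led Lsl_gt (LP (LK LD1_c11 LD2_c43 LD3_c31)) = (LP (LK LD1_c9 LD2_c50 LD3_c60)) :=
  Lgr Lrot46 (Lpr_gf (f713881 IH) (Lpe (f711655 IH) (Lpr_at (f713824 IH) (Lpn (LP (LK LD1_c9 LD2_c50 LD3_c60))))))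
theorem f719332 : Led Lsl_bf (LP (LK LD1_c9 LD2_c50 LD3_c15)) = (LP (LK LD1_c5 LD2_c0 LD3_c17)) :=
  Lgr Lrot165 (Lpr_gt (f719328 IH) (Lpr_ct (K52.f501011 IH) (Lpr_gt (K52.f157163 IH) (Lpe (K31.f116886 IH) (Lpr_bt (f415641 IH) (Lpr_gt (f75996 IH) (Lpe (f140876 IH) (Lpr_ct (f140877 IH) (Lpr_gt (f714666 IH) (Lpe (f633868 IH) (Lpn (LP (LK LD1_c5 LD2_c0 LD3_c17)))))))))))))
theorem f633871 : Led Lsl_ct (LP (LK LD1_c9 LD2_c50 LD3_c60)) = (LP (LK LD1_c5 LD2_c0 LD3_c17)) :=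
  Lre_c IH (LK LD1_c9 LD2_c50 LD3_c60) (LK LD1_c5 LD2_c0 LD3_c17) Lrfl Lrfl
theorem f146719 : Led Lsl_et (LP (LK LD1_c12 LD2_c53 LD3_c17)) = (LP (LK LD1_c6 LD2_c44 LD3_c19)) :=
  Lre_e IH (LK LD1_c12 LD2_c53 LD3_c17) (LK LD1_c6 LD2_c44 LD3_c19) Lrfl Lrfl
theorem f146720 : Led Lsl_cf (LP (LK LD1_c12 LD2_c53 LD3_c17)) = (LP (LK LD1_c7 LD2_c43 LD3_c54)) :=
  Lgr Lrot39 (Lpr_et (f146719 IH) (Lpr_ct (K6.f146715 IH) (Lpr_et (K7.f146651 IH) (Lpn (LP (LK LD1_c7 LD2_c43 LD3_c54))))))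
theorem f56815 : Led Lsl_bt (LP (LK LD1_c12 LD2_c53 LD3_c17)) = (LP (LK LD1_c6 LD2_c44 LD3_c20)) :=
  Lre_b IH (LK LD1_c12 LD2_c53 LD3_c17) (LK LD1_c6 LD2_c44 LD3_c20) Lrfl Lrfl
theorem f437124 : Led Lsl_bt (LP (LK LD1_c5 LD2_c48 LD3_c17)) = (LP (LK LD1_c7 LD2_c43 LD3_c54)) :=
  Lgr Lrot128 (Lpe (K6.f56817 IH) (Lpe (K52.f56816 IH) (Lpe (K52.f56810 IH) (Lpe (f56815 IH) (Lpr_cf (f146720 IH) (Lpn (LP (LK LD1_c7 LD2_c43 LD3_c54))))))))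
theorem f146672 : Led Lsl_ft (LP (LK LD1_c7 LD2_c43 LD3_c54)) = (LP (LK LD1_c14 LD2_c34 LD3_c49)) :=
  Lre_f IH (LK LD1_c7 LD2_c43 LD3_c54) (LK LD1_c14 LD2_c34 LD3_c49) Lrfl Lrfl
theorem f713826 : Led Lsl_bt (LP (LK LD1_c14 LD2_c34 LD3_c49)) = (LP (LK LD1_c9 LD2_c50 LD3_c60)) :=
  Lgr Lrot35 (Lpe (f146672 IH) (Lpe (f437124 IH) (Lpr_ff (f713822 IH) (Lpn (LP (LK LD1_c9 LD2_c50 LD3_c60))))))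
theorem f148848 : Led Lsl_et (LP (LK LD1_c9 LD2_c11 LD3_c16)) = (LP (LK LD1_c4 LD2_c37 LD3_c49)) :=
  Lre_e IH (LK LD1_c9 LD2_c11 LD3_c16) (LK LD1_c4 LD2_c37 LD3_c49) Lrfl Lrfl
theorem f148849 : Led Lsl_af (LP (LK LD1_c9 LD2_c11 LD3_c16)) = (LP (LK LD1_c6 LD2_c44 LD3_c20)) :=
  Lgr Lrot50 (Lpr_et (f148848 IH) (Lpr_at (K7.f148833 IH) (Lpr_et (K52.f56808 IH) (Lpn (LP (LK LD1_c6 LD2_c44 LD3_c20))))))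
theorem f713613 : Led Lsl_ff (LP (LK LD1_c6 LD2_c44 LD3_c20)) = (LP (LK LD1_c9 LD2_c12 LD3_c17)) :=
  Lgr Lrot52 (Lpe (f148849 IH) (Lpqs (K52.f713020 IH) (Lpe (K52.f700654 IH) (Lpe (K50.f700664 IH) (Lpn (LP (LK LD1_c9 LD2_c12 LD3_c17)))))))
theorem f713621 : Led Lsl_ft (LP (LK LD1_c6 LD2_c44 LD3_c20)) = (LP (LK LD1_c9 LD2_c12 LD3_c17)) :=
  Lgr Lrot48 (Lpr_ff (f713613 IH) (Lpn (LP (LK LD1_c9 LD2_c12 LD3_c17))))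
theorem f141930 : Led Lsl_ft (LP (LK LD1_c4 LD2_c37 LD3_c48)) = (LP (LK LD1_c3 LD2_c20 LD3_c18)) :=
  Lgr Lrot4 (Lpe (K5.f130562 IH) (Lpr_ff (K6.f141925 IH) (Lpe (K7.f56806 IH) (Lpn (LP (LK LD1_c3 LD2_c20 LD3_c18))))))
theorem f141909 : Led Lsl_at (LP (LK LD1_c9 LD2_c11 LD3_c15)) = (LP (LK LD1_c6 LD2_c44 LD3_c22)) :=
  Lgr Lrot100 (Lpr_af (K6.f141907 IH) (Lpn (LP (LK LD1_c6 LD2_c44 LD3_c22))))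
theorem f140996 : Led Lsl_gt (LP (LK LD1_c3 LD2_c20 LD3_c44)) = (LP (LK LD1_c6 LD2_c45 LD3_c16)) :=
  Lre_g IH (LK LD1_c3 LD2_c20 LD3_c44) (LK LD1_c6 LD2_c45 LD3_c16) Lrfl Lrfl
theorem f710161 : Led Lsl_at (LP (LK LD1_c9 LD2_c31 LD3_c32)) = (LP (LK LD1_c6 LD2_c45 LD3_c16)) :=
  Lgr Lrot26 (Lpr_ff (K52.f710155 IH) (Lpq (K51.f707374 IH) (Lpe (K51.f652957 IH) (Lpr_gt (f140996 IH) (Lpn (LP (LK LD1_c6 LD2_c45 LD3_c16)))))))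
theorem f710169 : Led Lsl_ff (LP (LK LD1_c9 LD2_c12 LD3_c54)) = (LP (LK LD1_c6 LD2_c45 LD3_c16)) :=
  Lgr Lrot30 (Lpr_at (K51.f436639 IH) (Lpe (K52.f710155 IH) (Lpr_at (f710161 IH) (Lpn (LP (LK LD1_c6 LD2_c45 LD3_c16))))))
theorem f509375 : Led Lsl_ct (LP (LK LD1_c12 LD2_c54 LD3_c49)) = (LP (LK LD1_c6 LD2_c45 LD3_c16)) :=
  Lre_c IH (LK LD1_c12 LD2_c54 LD3_c49) (LK LD1_c6 LD2_c45 LD3_c16) Lrfl Lrfl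
theorem f710171 : Led Lsl_ft (LP (LK LD1_c11 LD2_c26 LD3_c0)) = (LP (LK LD1_c12 LD2_c54 LD3_c49)) :=
  Lgr Lrot4 (Lpe (K52.f149708 IH) (Lpr_ff (f710169 IH) (Lpe (f509375 IH) (Lpn (LP (LK LD1_c12 LD2_c54 LD3_c49))))))
theorem f140999 : Led Lsl_ct (LP (LK LD1_c6 LD2_c45 LD3_c16)) = (LP (LK LD1_c12 LD2_c54 LD3_c49)) :=
  Lre_c IH (LK LD1_c6 LD2_c45 LD3_c16) (LK LD1_c12 LD2_c54 LD3_c49) Lrfl Lrfl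
theorem f710165 : Led Lsl_af (LP (LK LD1_c9 LD2_c32 LD3_c13)) = (LP (LK LD1_c12 LD2_c54 LD3_c49)) :=
  Lgr Lrot68 (Lpr_ct (K52.f414981 IH) (Lpr_at (f710161 IH) (Lpr_ct (f140999 IH) (Lpn (LP (LK LD1_c12 LD2_c54 LD3_c49))))))
theorem f414982 : Led Lsl_gt (LP (LK LD1_c17 LD2_c23 LD3_c60)) = (LP (LK LD1_c9 LD2_c32 LD3_c13)) :=
  Lre_g IH (LK LD1_c17 LD2_c23 LD3_c60) (LK LD1_c9 LD2_c32 LD3_c13) Lrfl Lrfl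
theorem f710186 : Led Lsl_gt (LP (LK LD1_c11 LD2_c26 LD3_c0)) = (LP (LK LD1_c17 LD2_c23 LD3_c60)) :=
  Lgr Lrot5 (Lpr_ft (f710171 IH) (Lpe (f710165 IH) (Lpe (f414982 IH) (Lpn (LP (LK LD1_c17 LD2_c23 LD3_c60))))))
theorem f510306 : Led Lsl_bt (LP (LK LD1_c9 LD2_c26 LD3_c13)) = (LP (LK LD1_c17 LD2_c23 LD3_c60)) :=
  Lre_b IH (LK LD1_c9 LD2_c26 LD3_c13) (LK LD1_c17 LD2_c23 LD3_c60) Lrfl Lrfl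
theorem f510307 : Led Lsl_ct (LP (LK LD1_c9 LD2_c26 LD3_c13)) = (LP (LK LD1_c4 LD2_c46 LD3_c46)) :=
  Lre_c IH (LK LD1_c9 LD2_c26 LD3_c13) (LK LD1_c4 LD2_c46 LD3_c46) Lrfl Lrfl
theorem f75295 : Led Lsl_gt (LP (LK LD1_c4 LD2_c46 LD3_c46)) = (LP (LK LD1_c9 LD2_c26 LD3_c2)) :=
  Lre_g IH (LK LD1_c4 LD2_c46 LD3_c46) (LK LD1_c9 LD2_c26 LD3_c2) Lrfl Lrfl
theorem f413587 : Led Lsl_bt (LP (LK LD1_c4 LD2_c49 LD3_c0)) = (LP (LK LD1_c3 LD2_c20 LD3_c32)) :=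
  Lre_b IH (LK LD1_c4 LD2_c49 LD3_c0) (LK LD1_c3 LD2_c20 LD3_c32) Lrfl Lrfl
def v6328 : LQ := Led Lsl_gf (LP (LK LD1_c3 LD2_c20 LD3_c34))
theorem f652780 : Led Lsl_gf (LP (LK LD1_c3 LD2_c20 LD3_c34)) = v6328 :=
  Lrfl
theorem f652795 : Led Lsl_gt (LP (LK LD1_c3 LD2_c20 LD3_c38)) = v6328 :=
  Lgr Lrot5 (Lpr_ft (K46.f652790 IH) (Lpe (K46.f652787 IH) (Lpr_gf (f652780 IH) (Lpn v6328))))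
theorem f710188 : (LP (LK LD1_c6 LD2_c44 LD3_c22)) = v6328 :=
  (Llr Lrot63 (Lpe (K6.f141728 IH) (Lpr_bt (K51.f149701 IH) (Lpr_gt (f710186 IH) (Lpe (f510306 IH) (Lpr_ct (f510307 IH) (Lpr_gt (f75295 IH) (Lpe (K17.f413586 IH) (Lpr_bt (f413587 IH) (Lpr_gt (K51.f509318 IH) (Lpr_ct (K46.f509311 IH) (Lpr_gt (f652795 IH) (Lpn v6328))))))))))))).symm
theorem f710191 : Led Lsl_ff (LP (LK LD1_c9 LD2_c11 LD3_c15)) = (LP (LK LD1_c6 LD2_c44 LD3_c54)) :=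
  Lgr Lrot52 (Lpr_at (f141909 IH) (Lpqs (f710188 IH) (Lpe (f652795 IH) (Lpe (K46.f652816 IH) (Lpn (LP (LK LD1_c6 LD2_c44 LD3_c54)))))))
theorem f713628 : Led Lsl_ef (LP (LK LD1_c6 LD2_c44 LD3_c54)) = (LP (LK LD1_c9 LD2_c12 LD3_c17)) :=
  Lgr Lrot21 (Lpe (f710191 IH) (Lpr_et (K5.f130564 IH) (Lpr_ft (f141930 IH) (Lpr_et (K52.f56808 IH) (Lpr_ft (f713621 IH) (Lpn (LP (LK LD1_c9 LD2_c12 LD3_c17))))))))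
theorem f652823 : Led Lsl_bt (LP (LK LD1_c6 LD2_c44 LD3_c54)) = (LP (LK LD1_c12 LD2_c54 LD3_c4)) :=
  Lre_b IH (LK LD1_c6 LD2_c44 LD3_c54) (LK LD1_c12 LD2_c54 LD3_c4) Lrfl Lrfl
theorem f700668 : Led Lsl_bt (LP (LK LD1_c17 LD2_c6 LD3_c22)) = (LP (LK LD1_c9 LD2_c12 LD3_c17)) :=
  Lre_b IH (LK LD1_c17 LD2_c6 LD3_c22) (LK LD1_c9 LD2_c12 LD3_c17) Lrfl Lrfl
theorem f713630 : Led Lsl_et (LP (LK LD1_c12 LD2_c54 LD3_c4)) = (LP (LK LD1_c17 LD2_c6 LD3_c22)) :=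
  Lgr Lrot74 (Lpe (f652823 IH) (Lpr_ef (f713628 IH) (Lpe (f700668 IH) (Lpn (LP (LK LD1_c17 LD2_c6 LD3_c22))))))
theorem f65313 : Led Lsl_bt (LP (LK LD1_c7 LD2_c44 LD3_c0)) = (LP (LK LD1_c3 LD2_c51 LD3_c20)) :=
  Lre_b IH (LK LD1_c7 LD2_c44 LD3_c0) (LK LD1_c3 LD2_c51 LD3_c20) Lrfl Lrfl
theorem f96270 : Led Lsl_bt (LP (LK LD1_c7 LD2_c1 LD3_c30)) = (LP (LK LD1_c13 LD2_c19 LD3_c16)) :=
  Lre_b IH (LK LD1_c7 LD2_c1 LD3_c30) (LK LD1_c13 LD2_c19 LD3_c16) Lrfl Lrfl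
theorem f115631 : Led Lsl_ef (LP (LK LD1_c7 LD2_c44 LD3_c0)) = (LP (LK LD1_c13 LD2_c19 LD3_c16)) :=
  Lgr Lrot29 (Lpr_bt (f65313 IH) (Lpr_et (K4.f115628 IH) (Lpr_bt (f96270 IH) (Lpn (LP (LK LD1_c13 LD2_c19 LD3_c16))))))
theorem f115743 : Led Lsl_at (LP (LK LD1_c7 LD2_c44 LD3_c0)) = (LP (LK LD1_c14 LD2_c34 LD3_c49)) :=
  Lre_a IH (LK LD1_c7 LD2_c44 LD3_c0) (LK LD1_c14 LD2_c34 LD3_c49) Lrfl Lrfl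
theorem f707451 : Led Lsl_et (LP (LK LD1_c14 LD2_c34 LD3_c49)) = (LP (LK LD1_c12 LD2_c46 LD3_c2)) :=
  Lgr Lrot123 (Lpe (f115743 IH) (Lpr_ef (f115631 IH) (Lpr_af (K51.f707444 IH) (Lpn (LP (LK LD1_c12 LD2_c46 LD3_c2))))))
theorem f713634 : Led Lsl_cf (LP (LK LD1_c14 LD2_c34 LD3_c49)) = (LP (LK LD1_c17 LD2_c6 LD3_c22)) :=
  Lgr Lrot39 (Lpr_et (f707451 IH) (Lpe (K51.f652827 IH) (Lpr_et (f713630 IH) (Lpn (LP (LK LD1_c17 LD2_c6 LD3_c22))))))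
theorem f713623 : Led Lsl_bt (LP (LK LD1_c9 LD2_c12 LD3_c17)) = (LP (LK LD1_c17 LD2_c6 LD3_c22)) :=
  Lre_b IH (LK LD1_c9 LD2_c12 LD3_c17) (LK LD1_c17 LD2_c6 LD3_c22) Lrfl Lrfl
theorem f719336 : Led Lsl_ct (LP (LK LD1_c9 LD2_c50 LD3_c15)) = (LP (LK LD1_c9 LD2_c12 LD3_c17)) :=
  Lgr Lrot83 (Lpr_bf (f719332 IH) (Lpe (f633871 IH) (Lpe (f713826 IH) (Lpr_cf (f713634 IH) (Lpe (f713623 IH) (Lpn (LP (LK LD1_c9 LD2_c12 LD3_c17))))))))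
theorem f719496 : v5562 = (LP (LK LD1_c4 LD2_c38 LD3_c19)) :=
  (Llr Lrot124 (Lpe (f648266 IH) (Lpe (f549450 IH) (Lpe (f424764 IH) (Lpqs (f719471 IH) (Lpe (f719446 IH) (Lpe (K46.f415850 IH) (Lpr_bt (f415813 IH) (Lpr_gt (f415827 IH) (Lpr_ct (f719336 IH) (Lpr_gt (K50.f700664 IH) (Lpe (K50.f631952 IH) (Lpr_bt (K52.f631951 IH) (Lpn (LP (LK LD1_c4 LD2_c38 LD3_c19)))))))))))))))).symm
theorem f719499 : v13303 = v13042 :=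
  Lefun (Lecon (f702250 IH) (f719496 IH)) (f700702 IH)
def v5563 : LQ := Led Lsl_ft (LP (LK LD1_c3 LD2_c10 LD3_c20))
theorem f648267 : Led Lsl_ft (LP (LK LD1_c3 LD2_c10 LD3_c20)) = v5563 :=
  Lrfl
theorem f702247 : Led Lsl_at v5563 = v13303 :=
  Lgr Lrot66 (Lpe (f648267 IH) (Lpr_af (K39.f449224 IH) (Lpr_ff (f702246 IH) (Lpn v13303))))
theorem f702251 : Led Lsl_gt (LP (LK LD1_c6 LD2_c25 LD3_c22)) = v13303 :=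
  Lgr Lrot46 (Lpe (K35.f68638 IH) (Lpr_ft (f648267 IH) (Lpr_at (f702247 IH) (Lpn v13303))))
theorem f631965 : Led Lsl_at (LP (LK LD1_c9 LD2_c12 LD3_c28)) = (LP (LK LD1_c4 LD2_c38 LD3_c19)) :=
  Lre_a IH (LK LD1_c9 LD2_c12 LD3_c28) (LK LD1_c4 LD2_c38 LD3_c19) Lrfl Lrfl
theorem f719500 : Led Lsl_ft (LP (LK LD1_c6 LD2_c25 LD3_c22)) = (LP (LK LD1_c9 LD2_c12 LD3_c28)) :=
  Lgr Lrot2 (Lpr_gt (f702251 IH) (Lpqs (f719499 IH) (Lpe (f700702 IH) (Lpe (f631965 IH) (Lpn (LP (LK LD1_c9 LD2_c12 LD3_c28)))))))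
theorem f719501 : Led Lsl_ft (LP (LK LD1_c6 LD2_c25 LD3_c22)) = (LP (LK LD1_c9 LD2_c12 LD3_c28)) :=
  Leop (Lpe (f719500 IH) (Lpn (LP (LK LD1_c6 LD2_c25 LD3_c22))))
theorem seed_812 : LEOK LG_f (LK LD1_c6 LD2_c25 LD3_c22) :=
  Leoe_f (LK LD1_c6 LD2_c25 LD3_c22) (f719501 IH)
theorem f641565 : Led Lsl_ff (LP (LK LD1_c2 LD2_c56 LD3_c47)) = K41.v5056 :=
  Lgr Lrot3 (Lpr_ft (K41.f641562 IH) (Lpn K41.v5056))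
theorem f500841 : Led Lsl_ct (LP (LK LD1_c2 LD2_c56 LD3_c47)) = (LP (LK LD1_c1 LD2_c24 LD3_c9)) :=
  Lre_c IH (LK LD1_c2 LD2_c56 LD3_c47) (LK LD1_c1 LD2_c24 LD3_c9) Lrfl Lrfl
theorem f641640 : Led Lsl_ct K52.v1694 = K41.v5056 :=
  Lgr Lrot40 (Lpe (K52.f500861 IH) (Lpe (f500841 IH) (Lpr_ff (f641565 IH) (Lpn K41.v5056))))
def v8037 : LQ := Led Lsl_gt K41.v1693
theorem f669740 : Led Lsl_gt K41.v1693 = v8037 :=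
  Lrfl
theorem f669741 : Led Lsl_gf K52.v1694 = v8037 :=
  Lgr Lrot76 (Lpe (K52.f500869 IH) (Lpr_ff (K41.f500856 IH) (Lpr_gt (f669740 IH) (Lpn v8037))))
def v5061 : LQ := Led Lsl_ft (LP (LK LD1_c2 LD2_c56 LD3_c50))
theorem f645134 : Led Lsl_ft (LP (LK LD1_c2 LD2_c56 LD3_c50)) = v5061 :=
  Lrfl
theorem f500857 : Led Lsl_bt (LP (LK LD1_c1 LD2_c24 LD3_c10)) = (LP (LK LD1_c2 LD2_c56 LD3_c50)) :=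
  Lre_b IH (LK LD1_c1 LD2_c24 LD3_c10) (LK LD1_c2 LD2_c56 LD3_c50) Lrfl Lrfl
theorem f645135 : Led Lsl_bf K41.v1693 = v5061 :=
  Lgr Lrot61 (Lpe (K41.f500856 IH) (Lpr_bt (f500857 IH) (Lpr_ft (f645134 IH) (Lpn v5061))))
theorem f714038 : Led Lsl_bt (LP (LK LD1_c6 LD2_c1 LD3_c17)) = (LP (LK LD1_c11 LD2_c40 LD3_c10)) :=
  Lgr Lrot127 (Lpr_bf (K52.f714032 IH) (Lpn (LP (LK LD1_c11 LD2_c40 LD3_c10))))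
theorem f713853 : Led Lsl_ct (LP (LK LD1_c6 LD2_c1 LD3_c17)) = (LP (LK LD1_c11 LD2_c47 LD3_c7)) :=
  Lre_c IH (LK LD1_c6 LD2_c1 LD3_c17) (LK LD1_c11 LD2_c47 LD3_c7) Lrfl Lrfl
theorem f719494 : Led Lsl_gf (LP (LK LD1_c11 LD2_c47 LD3_c7)) = (LP (LK LD1_c9 LD2_c50 LD3_c60)) :=
  Lgr Lrot126 (Lpe (f713853 IH) (Lpr_bt (f714038 IH) (Lpr_gt (K52.f424766 IH) (Lpe (f424764 IH) (Lpqs (f719471 IH) (Lpe (f719446 IH) (Lpe (K46.f415850 IH) (Lpr_bt (f415813 IH) (Lpr_gt (f415827 IH) (Lpr_bf (f719332 IH) (Lpr_ct (f633868 IH) (Lpn (LP (LK LD1_c9 LD2_c50 LD3_c60))))))))))))))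
theorem f719855 : Led Lsl_gt (LP (LK LD1_c11 LD2_c47 LD3_c7)) = (LP (LK LD1_c7 LD2_c1 LD3_c36)) :=
  Lgr Lrot46 (Lpr_gf (f719494 IH) (Lpe (f713822 IH) (Lpr_at (K6.f146621 IH) (Lpn (LP (LK LD1_c7 LD2_c1 LD3_c36))))))
theorem f713832 : Led Lsl_ft (LP (LK LD1_c5 LD2_c48 LD3_c17)) = (LP (LK LD1_c9 LD2_c50 LD3_c60)) :=
  Lgr Lrot48 (Lpr_ff (f713822 IH) (Lpn (LP (LK LD1_c9 LD2_c50 LD3_c60))))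
theorem f135940 : Led Lsl_gt (LP (LK LD1_c5 LD2_c48 LD3_c17)) = (LP (LK LD1_c11 LD2_c26 LD3_c3)) :=
  Lre_g IH (LK LD1_c5 LD2_c48 LD3_c17) (LK LD1_c11 LD2_c26 LD3_c3) Lrfl Lrfl
theorem f146623 : Led Lsl_af (LP (LK LD1_c5 LD2_c48 LD3_c17)) = (LP (LK LD1_c7 LD2_c1 LD3_c36)) :=
  Lgr Lrot0 (Lpr_at (K6.f146621 IH) (Lpn (LP (LK LD1_c7 LD2_c1 LD3_c36))))
theorem f711659 : Led Lsl_ft (LP (LK LD1_c11 LD2_c47 LD3_c10)) = (LP (LK LD1_c7 LD2_c1 LD3_c36)) :=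
  Lgr Lrot48 (Lpr_ff (f711655 IH) (Lpn (LP (LK LD1_c7 LD2_c1 LD3_c36))))
theorem f713834 : Led Lsl_af (LP (LK LD1_c11 LD2_c47 LD3_c10)) = (LP (LK LD1_c9 LD2_c50 LD3_c60)) :=
  Lgr Lrot45 (Lpr_ft (f711659 IH) (Lpe (f146623 IH) (Lpr_ft (f713832 IH) (Lpn (LP (LK LD1_c9 LD2_c50 LD3_c60))))))
theorem f713842 : Led Lsl_gt (LP (LK LD1_c11 LD2_c26 LD3_c3)) = (LP (LK LD1_c11 LD2_c47 LD3_c10)) :=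
  Lgr Lrot46 (Lpe (f135940 IH) (Lpr_ft (f713832 IH) (Lpe (f713834 IH) (Lpn (LP (LK LD1_c11 LD2_c47 LD3_c10))))))
theorem f713844 : Led Lsl_at (LP (LK LD1_c11 LD2_c47 LD3_c7)) = (LP (LK LD1_c6 LD2_c1 LD3_c18)) :=
  Lre_a IH (LK LD1_c11 LD2_c47 LD3_c7) (LK LD1_c6 LD2_c1 LD3_c18) Lrfl Lrfl
theorem f713845 : Led Lsl_ft (LP (LK LD1_c11 LD2_c26 LD3_c3)) = (LP (LK LD1_c11 LD2_c47 LD3_c7)) :=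
  Lgr Lrot2 (Lpr_gt (f713842 IH) (Lpr_gt (K52.f415573 IH) (Lpe (f713844 IH) (Lpn (LP (LK LD1_c11 LD2_c47 LD3_c7))))))
theorem f713850 : Led Lsl_ff (LP (LK LD1_c11 LD2_c26 LD3_c3)) = (LP (LK LD1_c11 LD2_c47 LD3_c7)) :=
  Lgr Lrot3 (Lpr_ft (f713845 IH) (Lpn (LP (LK LD1_c11 LD2_c47 LD3_c7))))
theorem f719857 : Led Lsl_at (LP (LK LD1_c11 LD2_c26 LD3_c3)) = (LP (LK LD1_c11 LD2_c43 LD3_c31)) :=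
  Lgr Lrot26 (Lpr_ff (f713850 IH) (Lpr_gt (f719855 IH) (Lpe (f713881 IH) (Lpn (LP (LK LD1_c11 LD2_c43 LD3_c31))))))
theorem f146636 : Led Lsl_dt (LP (LK LD1_c20 LD2_c23 LD3_c36)) = (LP (LK LD1_c11 LD2_c26 LD3_c3)) :=
  Lre_d IH (LK LD1_c20 LD2_c23 LD3_c36) (LK LD1_c11 LD2_c26 LD3_c3) Lrfl Lrfl
theorem f714668 : Led Lsl_dt (LP (LK LD1_c11 LD2_c43 LD3_c31)) = (LP (LK LD1_c20 LD2_c44 LD3_c38)) :=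
  Lre_d IH (LK LD1_c11 LD2_c43 LD3_c31) (LK LD1_c20 LD2_c44 LD3_c38) Lrfl Lrfl
theorem f719878 : Led Lsl_af (LP (LK LD1_c20 LD2_c23 LD3_c36)) = (LP (LK LD1_c20 LD2_c44 LD3_c38)) :=
  Lgr Lrot117 (Lpr_dt (f146636 IH) (Lpr_at (f719857 IH) (Lpr_dt (f714668 IH) (Lpn (LP (LK LD1_c20 LD2_c44 LD3_c38))))))
theorem f135941 : Led Lsl_dt (LP (LK LD1_c11 LD2_c26 LD3_c3)) = (LP (LK LD1_c20 LD2_c23 LD3_c36)) :=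
  Lre_d IH (LK LD1_c11 LD2_c26 LD3_c3) (LK LD1_c20 LD2_c23 LD3_c36) Lrfl Lrfl
theorem f645141 : Led Lsl_dt (LP (LK LD1_c20 LD2_c49 LD3_c13)) = (LP (LK LD1_c11 LD2_c47 LD3_c7)) :=
  Lre_d IH (LK LD1_c20 LD2_c49 LD3_c13) (LK LD1_c11 LD2_c47 LD3_c7) Lrfl Lrfl
theorem f713854 : Led Lsl_ft (LP (LK LD1_c20 LD2_c23 LD3_c36)) = (LP (LK LD1_c20 LD2_c49 LD3_c13)) :=
  Lgr Lrot54 (Lpe (f135941 IH) (Lpr_ff (f713850 IH) (Lpe (f645141 IH) (Lpn (LP (LK LD1_c20 LD2_c49 LD3_c13))))))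
theorem f713856 : Led Lsl_at (LP (LK LD1_c20 LD2_c49 LD3_c13)) = (LP (LK LD1_c11 LD2_c47 LD3_c12)) :=
  Lre_a IH (LK LD1_c20 LD2_c49 LD3_c13) (LK LD1_c11 LD2_c47 LD3_c12) Lrfl Lrfl
theorem f719882 : Led Lsl_ft (LP (LK LD1_c11 LD2_c47 LD3_c12)) = (LP (LK LD1_c20 LD2_c44 LD3_c38)) :=
  Lgr Lrot101 (Lpe (f713856 IH) (Lpe (f713854 IH) (Lpr_af (f719878 IH) (Lpn (LP (LK LD1_c20 LD2_c44 LD3_c38))))))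
theorem f719887 : Led Lsl_ff (LP (LK LD1_c11 LD2_c47 LD3_c12)) = (LP (LK LD1_c20 LD2_c44 LD3_c38)) :=
  Lgr Lrot3 (Lpr_ft (f719882 IH) (Lpn (LP (LK LD1_c20 LD2_c44 LD3_c38))))
theorem f711663 : Led Lsl_dt (LP (LK LD1_c11 LD2_c47 LD3_c12)) = (LP (LK LD1_c6 LD2_c1 LD3_c18)) :=
  Lre_d IH (LK LD1_c11 LD2_c47 LD3_c12) (LK LD1_c6 LD2_c1 LD3_c18) Lrfl Lrfl
theorem f719890 : Led Lsl_ft (LP (LK LD1_c6 LD2_c1 LD3_c18)) = (LP (LK LD1_c11 LD2_c43 LD3_c31)) :=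
  Lgr Lrot54 (Lpe (f711663 IH) (Lpr_ff (f719887 IH) (Lpe (f714668 IH) (Lpn (LP (LK LD1_c11 LD2_c43 LD3_c31))))))
theorem f645137 : Led Lsl_ff (LP (LK LD1_c2 LD2_c56 LD3_c50)) = v5061 :=
  Lgr Lrot3 (Lpr_ft (f645134 IH) (Lpn v5061))
theorem f714669 : Led Lsl_ct (LP (LK LD1_c11 LD2_c43 LD3_c31)) = (LP (LK LD1_c5 LD2_c59 LD3_c27)) :=
  Lre_c IH (LK LD1_c11 LD2_c43 LD3_c31) (LK LD1_c5 LD2_c59 LD3_c27) Lrfl Lrfl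
theorem f719896 : v5061 = (LP (LK LD1_c5 LD2_c59 LD3_c27)) :=
  (Llr Lrot23 (Lpe (f645137 IH) (Lpr_ct (K52.f415572 IH) (Lpr_ft (f719890 IH) (Lpr_ct (f714669 IH) (Lpn (LP (LK LD1_c5 LD2_c59 LD3_c27)))))))).symm
theorem f719899 : K41.v1693 = (LP (LK LD1_c2 LD2_c56 LD3_c5)) :=
  Lefun (Lecon (Lfl_bf (f645135 IH)) (f719896 IH)) (f140876 IH)
theorem f719900 : v8037 = (LP (LK LD1_c1 LD2_c24 LD3_c11)) :=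
  Lefun (Lecon (f669740 IH) (f719899 IH)) (f74630 IH)
theorem f719923 : K52.v1694 = (LP (LK LD1_c2 LD2_c56 LD3_c6)) :=
  Lefun (Lecon (Lfl_gf (f669741 IH)) (f719900 IH)) (K32.f384008 IH)
theorem f719933 : K41.v5056 = (LP (LK LD1_c5 LD2_c59 LD3_c32)) :=
  Lefun (Lecon (f641640 IH) (f719923 IH)) (K51.f415656 IH)
theorem f500848 : Led Lsl_dt (LP (LK LD1_c6 LD2_c1 LD3_c7)) = (LP (LK LD1_c2 LD2_c56 LD3_c47)) :=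
  Lre_d IH (LK LD1_c6 LD2_c1 LD3_c7) (LK LD1_c2 LD2_c56 LD3_c47) Lrfl Lrfl
theorem f707128 : Led Lsl_dt (LP (LK LD1_c5 LD2_c59 LD3_c32)) = (LP (LK LD1_c11 LD2_c43 LD3_c42)) :=
  Lre_d IH (LK LD1_c5 LD2_c59 LD3_c32) (LK LD1_c11 LD2_c43 LD3_c42) Lrfl Lrfl
theorem f720003 : Led Lsl_ff (LP (LK LD1_c6 LD2_c1 LD3_c7)) = (LP (LK LD1_c11 LD2_c43 LD3_c42)) :=
  Lgr Lrot19 (Lpr_dt (f500848 IH) (Lpr_ft (K41.f641562 IH) (Lpqs (f719933 IH) (Lpr_dt (f707128 IH) (Lpn (LP (LK LD1_c11 LD2_c43 LD3_c42)))))))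
theorem f720008 : Led Lsl_ft (LP (LK LD1_c6 LD2_c1 LD3_c7)) = (LP (LK LD1_c11 LD2_c43 LD3_c42)) :=
  Lgr Lrot48 (Lpr_ff (f720003 IH) (Lpn (LP (LK LD1_c11 LD2_c43 LD3_c42))))
theorem f500865 : Led Lsl_ct (LP (LK LD1_c2 LD2_c56 LD3_c48)) = (LP (LK LD1_c6 LD2_c1 LD3_c11)) :=
  Lre_c IH (LK LD1_c2 LD2_c56 LD3_c48) (LK LD1_c6 LD2_c1 LD3_c11) Lrfl Lrfl
theorem f500866 : Led Lsl_dt (LP (LK LD1_c6 LD2_c1 LD3_c11)) = (LP (LK LD1_c11 LD2_c47 LD3_c3)) :=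
  Lre_d IH (LK LD1_c6 LD2_c1 LD3_c11) (LK LD1_c11 LD2_c47 LD3_c3) Lrfl Lrfl
theorem f641994 : Led Lsl_at (LP (LK LD1_c20 LD2_c13 LD3_c55)) = (LP (LK LD1_c11 LD2_c46 LD3_c60)) :=
  Lgr Lrot100 (Lpr_af (K41.f641985 IH) (Lpn (LP (LK LD1_c11 LD2_c46 LD3_c60))))
theorem f641974 : Led Lsl_ct (LP (LK LD1_c20 LD2_c13 LD3_c55)) = (LP (LK LD1_c11 LD2_c17 LD3_c46)) :=
  Lre_c IH (LK LD1_c20 LD2_c13 LD3_c55) (LK LD1_c11 LD2_c17 LD3_c46) Lrfl Lrfl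
theorem f641975 : Led Lsl_ff (LP (LK LD1_c20 LD2_c13 LD3_c55)) = (LP (LK LD1_c11 LD2_c46 LD3_c58)) :=
  Lgr Lrot23 (Lpr_ct (f641974 IH) (Lpr_ft (K41.f641970 IH) (Lpr_ct (K41.f564024 IH) (Lpn (LP (LK LD1_c11 LD2_c46 LD3_c58))))))
theorem f446004 : Led Lsl_dt (LP (LK LD1_c5 LD2_c44 LD3_c49)) = (LP (LK LD1_c2 LD2_c48 LD3_c13)) :=
  Lre_d IH (LK LD1_c5 LD2_c44 LD3_c49) (LK LD1_c2 LD2_c48 LD3_c13) Lrfl Lrfl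
theorem f383433 : Led Lsl_gt (LP (LK LD1_c11 LD2_c19 LD3_c48)) = (LP (LK LD1_c5 LD2_c44 LD3_c49)) :=
  Lre_g IH (LK LD1_c11 LD2_c19 LD3_c48) (LK LD1_c5 LD2_c44 LD3_c49) Lrfl Lrfl
theorem f383434 : Led Lsl_dt (LP (LK LD1_c20 LD2_c16 LD3_c54)) = (LP (LK LD1_c11 LD2_c19 LD3_c48)) :=
  Lre_d IH (LK LD1_c20 LD2_c16 LD3_c54) (LK LD1_c11 LD2_c19 LD3_c48) Lrfl Lrfl
theorem f564022 : Led Lsl_gf (LP (LK LD1_c20 LD2_c16 LD3_c54)) = (LP (LK LD1_c11 LD2_c46 LD3_c58)) :=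
  Lgr Lrot144 (Lpr_dt (f383434 IH) (Lpr_gt (f383433 IH) (Lpr_dt (f446004 IH) (Lpe (K45.f140481 IH) (Lpe (K5.f75864 IH) (Lpe (K41.f383330 IH) (Lpe (K41.f383331 IH) (Lpr_gf (K41.f564019 IH) (Lpe (K41.f564021 IH) (Lpn (LP (LK LD1_c11 LD2_c46 LD3_c58))))))))))))
theorem f642078 : Led Lsl_gt (LP (LK LD1_c20 LD2_c16 LD3_c54)) = (LP (LK LD1_c11 LD2_c46 LD3_c60)) :=
  Lgr Lrot46 (Lpr_gf (f564022 IH) (Lpe (f641975 IH) (Lpr_at (f641994 IH) (Lpn (LP (LK LD1_c11 LD2_c46 LD3_c60))))))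
theorem f642020 : Led Lsl_ct (LP (LK LD1_c5 LD2_c44 LD3_c49)) = (LP (LK LD1_c11 LD2_c19 LD3_c49)) :=
  Lre_c IH (LK LD1_c5 LD2_c44 LD3_c49) (LK LD1_c11 LD2_c19 LD3_c49) Lrfl Lrfl
theorem f641634 : Led Lsl_gt (LP (LK LD1_c11 LD2_c19 LD3_c49)) = (LP (LK LD1_c20 LD2_c16 LD3_c55)) :=
  Lre_g IH (LK LD1_c11 LD2_c19 LD3_c49) (LK LD1_c20 LD2_c16 LD3_c55) Lrfl Lrfl
theorem f641550 : Led Lsl_dt (LP (LK LD1_c11 LD2_c47 LD3_c3)) = (LP (LK LD1_c6 LD2_c1 LD3_c11)) :=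
  Lre_d IH (LK LD1_c11 LD2_c47 LD3_c3) (LK LD1_c6 LD2_c1 LD3_c11) Lrfl Lrfl
theorem f642080 : Led Lsl_ct (LP (LK LD1_c20 LD2_c16 LD3_c55)) = (LP (LK LD1_c11 LD2_c47 LD3_c3)) :=
  Lgr Lrot110 (Lpe (f641634 IH) (Lpe (f642020 IH) (Lpe (f383433 IH) (Lpe (f383434 IH) (Lpr_gt (f642078 IH) (Lpr_ct (K41.f641660 IH) (Lpr_gt (K41.f641643 IH) (Lpr_ct (f500865 IH) (Lpe (f641550 IH) (Lpn (LP (LK LD1_c11 LD2_c47 LD3_c3))))))))))))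
theorem f642087 : Led Lsl_cf (LP (LK LD1_c20 LD2_c16 LD3_c55)) = (LP (LK LD1_c11 LD2_c47 LD3_c3)) :=
  Lgr Lrot11 (Lpr_ct (f642080 IH) (Lpn (LP (LK LD1_c11 LD2_c47 LD3_c3))))
theorem f641529 : Led Lsl_ct (LP (LK LD1_c6 LD2_c1 LD3_c11)) = (LP (LK LD1_c2 LD2_c56 LD3_c48)) :=
  Lre_c IH (LK LD1_c6 LD2_c1 LD3_c11) (LK LD1_c2 LD2_c56 LD3_c48) Lrfl Lrfl
theorem f500842 : Led Lsl_dt (LP (LK LD1_c2 LD2_c56 LD3_c48)) = (LP (LK LD1_c1 LD2_c24 LD3_c9)) :=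
  Lre_d IH (LK LD1_c2 LD2_c56 LD3_c48) (LK LD1_c1 LD2_c24 LD3_c9) Lrfl Lrfl
theorem f641548 : Led Lsl_dt (LP (LK LD1_c2 LD2_c56 LD3_c51)) = (LP (LK LD1_c6 LD2_c1 LD3_c22)) :=
  Lre_d IH (LK LD1_c2 LD2_c56 LD3_c51) (LK LD1_c6 LD2_c1 LD3_c22) Lrfl Lrfl
theorem f641549 : Led Lsl_ct (LP (LK LD1_c6 LD2_c1 LD3_c22)) = (LP (LK LD1_c11 LD2_c47 LD3_c22)) :=
  Lre_c IH (LK LD1_c6 LD2_c1 LD3_c22) (LK LD1_c11 LD2_c47 LD3_c22) Lrfl Lrfl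
theorem f642089 : Led Lsl_df (LP (LK LD1_c20 LD2_c16 LD3_c55)) = (LP (LK LD1_c11 LD2_c47 LD3_c22)) :=
  Lgr Lrot43 (Lpr_ct (f642080 IH) (Lpr_dt (f641550 IH) (Lpr_ct (f641529 IH) (Lpr_dt (f500842 IH) (Lpr_ct (K41.f444599 IH) (Lpr_dt (K41.f641524 IH) (Lpr_ct (K41.f641526 IH) (Lpr_dt (K41.f642030 IH) (Lpe (K41.f642022 IH) (Lpr_dt (K41.f564025 IH) (Lpr_ct (K41.f564027 IH) (Lpr_dt (K41.f383331 IH) (Lpr_ct (K41.f500858 IH) (Lpr_dt (f641548 IH) (Lpr_ct (f641549 IH) (Lpn (LP (LK LD1_c11 LD2_c47 LD3_c22))))))))))))))))))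
theorem f642106 : Led Lsl_dt (LP (LK LD1_c20 LD2_c16 LD3_c55)) = (LP (LK LD1_c11 LD2_c47 LD3_c22)) :=
  Lgr Lrot42 (Lpr_df (f642089 IH) (Lpn (LP (LK LD1_c11 LD2_c47 LD3_c22))))
theorem f500868 : Led Lsl_ct (LP (LK LD1_c11 LD2_c47 LD3_c22)) = (LP (LK LD1_c6 LD2_c1 LD3_c22)) :=
  Lre_c IH (LK LD1_c11 LD2_c47 LD3_c22) (LK LD1_c6 LD2_c1 LD3_c22) Lrfl Lrfl
theorem f720013 : Led Lsl_af (LP (LK LD1_c6 LD2_c1 LD3_c22)) = (LP (LK LD1_c11 LD2_c43 LD3_c42)) :=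
  Lgr Lrot109 (Lpe (f500868 IH) (Lpe (f642106 IH) (Lpr_cf (f642087 IH) (Lpe (f500866 IH) (Lpe (f500865 IH) (Lpe (K41.f500845 IH) (Lpe (f500841 IH) (Lpe (f500848 IH) (Lpr_ft (f720008 IH) (Lpn (LP (LK LD1_c11 LD2_c43 LD3_c42))))))))))))
theorem f641525 : Led Lsl_gt (LP (LK LD1_c6 LD2_c1 LD3_c7)) = (LP (LK LD1_c11 LD2_c46 LD3_c52)) :=
  Lre_g IH (LK LD1_c6 LD2_c1 LD3_c7) (LK LD1_c11 LD2_c46 LD3_c52) Lrfl Lrfl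
theorem f720017 : Led Lsl_gf (LP (LK LD1_c6 LD2_c1 LD3_c22)) = (LP (LK LD1_c11 LD2_c46 LD3_c52)) :=
  Lgr Lrot76 (Lpr_af (f720013 IH) (Lpe (f720008 IH) (Lpr_gt (f641525 IH) (Lpn (LP (LK LD1_c11 LD2_c46 LD3_c52))))))
theorem f500867 : Led Lsl_dt (LP (LK LD1_c6 LD2_c1 LD3_c22)) = (LP (LK LD1_c2 LD2_c56 LD3_c51)) :=
  Lre_d IH (LK LD1_c6 LD2_c1 LD3_c22) (LK LD1_c2 LD2_c56 LD3_c51) Lrfl Lrfl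
theorem f641719 : Led Lsl_ff (LP (LK LD1_c9 LD2_c9 LD3_c11)) = (LP (LK LD1_c11 LD2_c46 LD3_c61)) :=
  Lgr Lrot19 (Lpr_dt (K41.f641718 IH) (Lpr_ft (K41.f641712 IH) (Lpr_dt (K41.f641652 IH) (Lpn (LP (LK LD1_c11 LD2_c46 LD3_c61))))))
theorem f641736 : Led Lsl_at (LP (LK LD1_c9 LD2_c9 LD3_c11)) = (LP (LK LD1_c5 LD2_c59 LD3_c7)) :=
  Lgr Lrot100 (Lpr_af (K41.f641734 IH) (Lpn (LP (LK LD1_c5 LD2_c59 LD3_c7))))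
theorem f644913 : Led Lsl_gf (LP (LK LD1_c5 LD2_c59 LD3_c7)) = (LP (LK LD1_c9 LD2_c17 LD3_c10)) :=
  Lgr Lrot76 (Lpe (f641736 IH) (Lpr_ff (f641719 IH) (Lpr_gt (K52.f644911 IH) (Lpn (LP (LK LD1_c9 LD2_c17 LD3_c10))))))
theorem f74643 : Led Lsl_ct (LP (LK LD1_c9 LD2_c17 LD3_c10)) = (LP (LK LD1_c17 LD2_c12 LD3_c18)) :=
  Lre_c IH (LK LD1_c9 LD2_c17 LD3_c10) (LK LD1_c17 LD2_c12 LD3_c18) Lrfl Lrfl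
theorem f150418 : Led Lsl_et (LP (LK LD1_c2 LD2_c56 LD3_c12)) = (LP (LK LD1_c5 LD2_c59 LD3_c45)) :=
  Lre_e IH (LK LD1_c2 LD2_c56 LD3_c12) (LK LD1_c5 LD2_c59 LD3_c45) Lrfl Lrfl
theorem f500734 : Led Lsl_et (LP (LK LD1_c1 LD2_c23 LD3_c54)) = (LP (LK LD1_c2 LD2_c55 LD3_c56)) :=
  Lre_e IH (LK LD1_c1 LD2_c23 LD3_c54) (LK LD1_c2 LD2_c55 LD3_c56) Lrfl Lrfl
theorem f500740 : Led Lsl_gt (LP (LK LD1_c5 LD2_c59 LD3_c2)) = (LP (LK LD1_c2 LD2_c55 LD3_c56)) :=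
  Lre_g IH (LK LD1_c5 LD2_c59 LD3_c2) (LK LD1_c2 LD2_c55 LD3_c56) Lrfl Lrfl
theorem f643014 : Led Lsl_et (LP (LK LD1_c11 LD2_c42 LD3_c36)) = (LP (LK LD1_c5 LD2_c59 LD3_c2)) :=
  Lre_e IH (LK LD1_c11 LD2_c42 LD3_c36) (LK LD1_c5 LD2_c59 LD3_c2) Lrfl Lrfl
theorem f715357 : Led Lsl_bt (LP (LK LD1_c17 LD2_c10 LD3_c41)) = (LP (LK LD1_c9 LD2_c16 LD3_c4)) :=
  Lre_b IH (LK LD1_c17 LD2_c10 LD3_c41) (LK LD1_c9 LD2_c16 LD3_c4) Lrfl Lrfl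
theorem f103223 : Led Lsl_gt (LP (LK LD1_c4 LD2_c40 LD3_c44)) = (LP (LK LD1_c9 LD2_c16 LD3_c4)) :=
  Lre_g IH (LK LD1_c4 LD2_c40 LD3_c44) (LK LD1_c9 LD2_c16 LD3_c4) Lrfl Lrfl
theorem f58598 : Led Lsl_bt (LP (LK LD1_c9 LD2_c16 LD3_c39)) = (LP (LK LD1_c4 LD2_c40 LD3_c44)) :=
  Lre_b IH (LK LD1_c9 LD2_c16 LD3_c39) (LK LD1_c4 LD2_c40 LD3_c44) Lrfl Lrfl
theorem f141107 : Led Lsl_ct (LP (LK LD1_c9 LD2_c16 LD3_c39)) = (LP (LK LD1_c4 LD2_c40 LD3_c54)) :=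
  Lre_c IH (LK LD1_c9 LD2_c16 LD3_c39) (LK LD1_c4 LD2_c40 LD3_c54) Lrfl Lrfl
theorem f75903 : Led Lsl_ct (LP (LK LD1_c17 LD2_c12 LD3_c10)) = (LP (LK LD1_c9 LD2_c17 LD3_c4)) :=
  Lre_c IH (LK LD1_c17 LD2_c12 LD3_c10) (LK LD1_c9 LD2_c17 LD3_c4) Lrfl Lrfl
theorem f707179 : Led Lsl_ct (LP (LK LD1_c20 LD2_c25 LD3_c59)) = (LP (LK LD1_c11 LD2_c28 LD3_c38)) :=
  Lre_c IH (LK LD1_c20 LD2_c25 LD3_c59) (LK LD1_c11 LD2_c28 LD3_c38) Lrfl Lrfl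
theorem f499966 : Led Lsl_bt (LP (LK LD1_c20 LD2_c25 LD3_c59)) = (LP (LK LD1_c11 LD2_c28 LD3_c32)) :=
  Lre_b IH (LK LD1_c20 LD2_c25 LD3_c59) (LK LD1_c11 LD2_c28 LD3_c32) Lrfl Lrfl
theorem f715398 : Led Lsl_gf (LP (LK LD1_c17 LD2_c12 LD3_c10)) = (LP (LK LD1_c11 LD2_c28 LD3_c32)) :=
  Lgr Lrot181 (Lpr_ct (f75903 IH) (Lpr_gt (K5.f75887 IH) (Lpe (f141107 IH) (Lpr_bt (f58598 IH) (Lpr_gt (f103223 IH) (Lpe (f715357 IH) (Lpr_ct (K52.f715352 IH) (Lpe (K51.f707180 IH) (Lpe (f707179 IH) (Lpr_bt (f499966 IH) (Lpn (LP (LK LD1_c11 LD2_c28 LD3_c32)))))))))))))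
theorem f75880 : Led Lsl_ef (LP (LK LD1_c5 LD2_c44 LD3_c58)) = (LP (LK LD1_c9 LD2_c17 LD3_c4)) :=
  Lgr Lrot88 (Lpr_et (K5.f75868 IH) (Lpn (LP (LK LD1_c9 LD2_c17 LD3_c4))))
theorem f76019 : Led Lsl_et (LP (LK LD1_c11 LD2_c20 LD3_c16)) = (LP (LK LD1_c17 LD2_c12 LD3_c10)) :=
  Lgr Lrot158 (Lpe (K41.f76018 IH) (Lpr_ef (f75880 IH) (Lpe (f75903 IH) (Lpn (LP (LK LD1_c17 LD2_c12 LD3_c10))))))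
theorem f496383 : Led Lsl_et (LP (LK LD1_c5 LD2_c50 LD3_c4)) = (LP (LK LD1_c11 LD2_c28 LD3_c32)) :=
  Lre_e IH (LK LD1_c5 LD2_c50 LD3_c4) (LK LD1_c11 LD2_c28 LD3_c32) Lrfl Lrfl
theorem f496620 : Led Lsl_dt (LP (LK LD1_c5 LD2_c50 LD3_c4)) = (LP (LK LD1_c5 LD2_c59 LD3_c51)) :=
  Lgr Lrot27 (Lpe (K32.f496374 IH) (Lpr_gf (K32.f496611 IH) (Lpe (K4.f74532 IH) (Lpr_gf (K4.f74957 IH) (Lpe (K2.f74790 IH) (Lpe (K4.f105026 IH) (Lpr_ct (K6.f105032 IH) (Lpr_gt (K32.f427437 IH) (Lpr_ct (K32.f161288 IH) (Lpn (LP (LK LD1_c5 LD2_c59 LD3_c51))))))))))))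
theorem f150379 : Led Lsl_et (LP (LK LD1_c5 LD2_c59 LD3_c45)) = (LP (LK LD1_c2 LD2_c56 LD3_c12)) :=
  Lre_e IH (LK LD1_c5 LD2_c59 LD3_c45) (LK LD1_c2 LD2_c56 LD3_c12) Lrfl Lrfl
theorem f150404 : Led Lsl_dt (LP (LK LD1_c5 LD2_c59 LD3_c45)) = (LP (LK LD1_c11 LD2_c44 LD3_c0)) :=
  Lre_d IH (LK LD1_c5 LD2_c59 LD3_c45) (LK LD1_c11 LD2_c44 LD3_c0) Lrfl Lrfl
theorem f715402 : Led Lsl_gt (LP (LK LD1_c20 LD2_c17 LD3_c35)) = (LP (LK LD1_c11 LD2_c44 LD3_c0)) :=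
  Lgr Lrot112 (Lpe (K41.f76025 IH) (Lpr_et (f76019 IH) (Lpr_gf (f715398 IH) (Lpe (f496383 IH) (Lpr_dt (f496620 IH) (Lpe (K8.f26537 IH) (Lpe (K2.f26536 IH) (Lpe (K2.f72641 IH) (Lpe (f150379 IH) (Lpr_dt (f150404 IH) (Lpn (LP (LK LD1_c11 LD2_c44 LD3_c0)))))))))))))
theorem f641582 : Led Lsl_dt (LP (LK LD1_c6 LD2_c0 LD3_c60)) = (LP (LK LD1_c11 LD2_c46 LD3_c36)) :=
  Lre_d IH (LK LD1_c6 LD2_c0 LD3_c60) (LK LD1_c11 LD2_c46 LD3_c36) Lrfl Lrfl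
theorem f642039 : Led Lsl_df (LP (LK LD1_c11 LD2_c46 LD3_c54)) = (LP (LK LD1_c20 LD2_c16 LD3_c56)) :=
  Lgr Lrot38 (Lpr_dt (K41.f642030 IH) (Lpn (LP (LK LD1_c20 LD2_c16 LD3_c56))))
theorem f500849 : Led Lsl_ct (LP (LK LD1_c11 LD2_c46 LD3_c54)) = (LP (LK LD1_c6 LD2_c1 LD3_c7)) :=
  Lre_c IH (LK LD1_c11 LD2_c46 LD3_c54) (LK LD1_c6 LD2_c1 LD3_c7) Lrfl Lrfl
def v5054 : LQ := Led Lsl_gf (LP (LK LD1_c2 LD2_c56 LD3_c47))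
theorem f641523 : Led Lsl_gf (LP (LK LD1_c2 LD2_c56 LD3_c47)) = v5054 :=
  Lrfl
theorem f150416 : Led Lsl_dt (LP (LK LD1_c11 LD2_c44 LD3_c0)) = (LP (LK LD1_c5 LD2_c59 LD3_c45)) :=
  Lre_d IH (LK LD1_c11 LD2_c44 LD3_c0) (LK LD1_c5 LD2_c59 LD3_c45) Lrfl Lrfl
theorem f715407 : v5054 = (LP (LK LD1_c5 LD2_c59 LD3_c45)) :=
  (Llr Lrot143 (Lpe (f641523 IH) (Lpr_dt (K41.f641524 IH) (Lpe (f500849 IH) (Lpr_df (f642039 IH) (Lpe (K41.f641583 IH) (Lpe (f641582 IH) (Lpe (K41.f641570 IH) (Lpe (K41.f641571 IH) (Lpr_gt (f715402 IH) (Lpr_dt (f150416 IH) (Lpn (LP (LK LD1_c5 LD2_c59 LD3_c45)))))))))))))).symm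
theorem f715412 : Led Lsl_dt (LP (LK LD1_c11 LD2_c42 LD3_c36)) = (LP (LK LD1_c11 LD2_c46 LD3_c52)) :=
  Lgr Lrot56 (Lpr_et (f643014 IH) (Lpr_gt (f500740 IH) (Lpe (f500734 IH) (Lpr_dt (K2.f72552 IH) (Lpr_gt (K2.f72639 IH) (Lpe (K28.f137229 IH) (Lpr_et (f150418 IH) (Lpq (f715407 IH) (Lpe (f641523 IH) (Lpr_dt (K41.f641524 IH) (Lpr_gt (f641525 IH) (Lpn (LP (LK LD1_c11 LD2_c46 LD3_c52))))))))))))))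
theorem f720019 : Led Lsl_gt (LP (LK LD1_c17 LD2_c12 LD3_c18)) = (LP (LK LD1_c11 LD2_c42 LD3_c36)) :=
  Lgr Lrot94 (Lpe (f74643 IH) (Lpe (f644913 IH) (Lpr_dt (K41.f564013 IH) (Lpe (K41.f564019 IH) (Lpr_dt (K41.f383331 IH) (Lpe (K41.f500853 IH) (Lpe (f500867 IH) (Lpr_gf (f720017 IH) (Lpe (f715412 IH) (Lpn (LP (LK LD1_c11 LD2_c42 LD3_c36))))))))))))
theorem f22541 : Led Lsl_bt (LP (LK LD1_c5 LD2_c52 LD3_c27)) = (LP (LK LD1_c2 LD2_c52 LD3_c31)) :=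
  Lre_b IH (LK LD1_c5 LD2_c52 LD3_c27) (LK LD1_c2 LD2_c52 LD3_c31) Lrfl Lrfl
theorem f642988 : Led Lsl_ct (LP (LK LD1_c5 LD2_c52 LD3_c27)) = (LP (LK LD1_c5 LD2_c59 LD3_c2)) :=
  Lgr Lrot64 (Lpr_bt (f22541 IH) (Lpe (f436226 IH) (Lpe (f151956 IH) (Lpr_ct (K52.f151958 IH) (Lpe (K52.f146601 IH) (Lpr_cf (K52.f642964 IH) (Lpe (K52.f428853 IH) (Lpe (K41.f426015 IH) (Lpr_ct (K52.f105165 IH) (Lpe (f500740 IH) (Lpn (LP (LK LD1_c5 LD2_c59 LD3_c2)))))))))))))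
theorem f643000 : Led Lsl_et (LP (LK LD1_c11 LD2_c31 LD3_c26)) = (LP (LK LD1_c5 LD2_c52 LD3_c27)) :=
  Lre_e IH (LK LD1_c11 LD2_c31 LD3_c26) (LK LD1_c5 LD2_c52 LD3_c27) Lrfl Lrfl
theorem f643001 : Led Lsl_et (LP (LK LD1_c5 LD2_c59 LD3_c2)) = (LP (LK LD1_c11 LD2_c42 LD3_c36)) :=
  Lre_e IH (LK LD1_c5 LD2_c59 LD3_c2) (LK LD1_c11 LD2_c42 LD3_c36) Lrfl Lrfl
theorem f643002 : Led Lsl_cf (LP (LK LD1_c11 LD2_c31 LD3_c26)) = (LP (LK LD1_c11 LD2_c42 LD3_c36)) :=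
  Lgr Lrot39 (Lpr_et (f643000 IH) (Lpr_ct (f642988 IH) (Lpr_et (f643001 IH) (Lpn (LP (LK LD1_c11 LD2_c42 LD3_c36))))))
theorem f643008 : Led Lsl_ct (LP (LK LD1_c11 LD2_c31 LD3_c26)) = (LP (LK LD1_c11 LD2_c42 LD3_c36)) :=
  Lgr Lrot59 (Lpr_cf (f643002 IH) (Lpn (LP (LK LD1_c11 LD2_c42 LD3_c36))))
theorem f643006 : Led Lsl_bt (LP (LK LD1_c11 LD2_c31 LD3_c26)) = (LP (LK LD1_c5 LD2_c52 LD3_c30)) :=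
  Lre_b IH (LK LD1_c11 LD2_c31 LD3_c26) (LK LD1_c5 LD2_c52 LD3_c30) Lrfl Lrfl
theorem f720023 : Led Lsl_gf (LP (LK LD1_c9 LD2_c46 LD3_c38)) = (LP (LK LD1_c5 LD2_c52 LD3_c30)) :=
  Lgr Lrot124 (Lpe (K51.f503735 IH) (Lpr_ct (K32.f503736 IH) (Lpe (K35.f503673 IH) (Lpr_cf (K32.f501060 IH) (Lpr_bt (K52.f641708 IH) (Lpr_gt (K52.f644911 IH) (Lpr_ct (f74643 IH) (Lpr_gt (f720019 IH) (Lpe (f643008 IH) (Lpr_bt (f643006 IH) (Lpn (LP (LK LD1_c5 LD2_c52 LD3_c30)))))))))))))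
theorem f504196 : Led Lsl_dt (LP (LK LD1_c4 LD2_c57 LD3_c52)) = (LP (LK LD1_c9 LD2_c46 LD3_c38)) :=
  Lre_d IH (LK LD1_c4 LD2_c57 LD3_c52) (LK LD1_c9 LD2_c46 LD3_c38) Lrfl Lrfl
theorem f701633 : Led Lsl_ef (LP (LK LD1_c4 LD2_c41 LD3_c14)) = K51.v13198 :=
  Lgr Lrot88 (Lpr_et (K51.f701631 IH) (Lpn K51.v13198))
def v2187 : LQ := Led Lsl_gt (LP (LK LD1_c1 LD2_c37 LD3_c1))
def v8742 : LQ := Led Lsl_dt v2187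
theorem f672154 : Led Lsl_dt v2187 = v8742 :=
  Lrfl
theorem f622780 : Led Lsl_dt K35.v1121 = K35.v3084 :=
  Lgr Lrot42 (Lpr_df (K35.f622779 IH) (Lpn K35.v3084))
theorem f636366 : Led Lsl_cf K35.v3084 = K48.v4603 :=
  Lgr Lrot14 (Lpe (f622780 IH) (Lpe (K35.f491593 IH) (Lpe (K35.f451467 IH) (Lpr_gf (K32.f451466 IH) (Lpr_ct (K35.f491587 IH) (Lpq (K35.f623411 IH) (Lpqs (K49.f623415 IH) (Lpe (K49.f494348 IH) (Lpr_dt (K10.f164373 IH) (Lpr_gt (K48.f164384 IH) (Lpr_dt (K48.f636361 IH) (Lpn K48.v4603))))))))))))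
theorem f622776 : Led Lsl_ef K35.v2237 = K35.v3084 :=
  Lgr Lrot21 (Lpe (K35.f510417 IH) (Lpe (K35.f506605 IH) (Lpe (K35.f453625 IH) (Lpr_et (K35.f453621 IH) (Lpr_ft (K35.f622775 IH) (Lpn K35.v3084))))))
theorem f509524 : Led Lsl_gt (LP (LK LD1_c1 LD2_c37 LD3_c1)) = v2187 :=
  Lrfl
theorem f509525 : Led Lsl_gf (LP (LK LD1_c1 LD2_c37 LD3_c12)) = v2187 :=
  Lgr Lrot76 (Lpe (K24.f454138 IH) (Lpr_ff (K24.f454176 IH) (Lpr_gt (f509524 IH) (Lpn v2187))))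
theorem f510419 : Led Lsl_cf v2187 = K35.v2237 :=
  Lgr Lrot166 (Lpe (f509525 IH) (Lpr_dt (K16.f413550 IH) (Lpe (K24.f415244 IH) (Lpr_dt (K17.f61428 IH) (Lpe (K2.f61278 IH) (Lpr_df (K9.f73763 IH) (Lpe (K9.f73775 IH) (Lpe (K9.f73776 IH) (Lpr_gf (K35.f510415 IH) (Lpn K35.v2237))))))))))
theorem f636368 : Led Lsl_et v2187 = K48.v4603 :=
  Lgr Lrot158 (Lpr_cf (f510419 IH) (Lpr_ef (f622776 IH) (Lpr_cf (f636366 IH) (Lpn K48.v4603))))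
theorem f669020 : Led Lsl_df K48.v1391 = K48.v7929 :=
  Lgr Lrot38 (Lpr_dt (K48.f669018 IH) (Lpn K48.v7929))
theorem f669028 : Led Lsl_df (LP (LK LD1_c5 LD2_c51 LD3_c54)) = K48.v7930 :=
  Lgr Lrot78 (Lpr_ft (K48.f669024 IH) (Lpe (f669020 IH) (Lpr_ft (K48.f669026 IH) (Lpn K48.v7930))))
theorem f22375 : Led Lsl_dt (LP (LK LD1_c1 LD2_c22 LD3_c5)) = (LP (LK LD1_c2 LD2_c52 LD3_c11)) :=
  Lre_d IH (LK LD1_c1 LD2_c22 LD3_c5) (LK LD1_c2 LD2_c52 LD3_c11) Lrfl Lrfl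
theorem f500207 : Led Lsl_et (LP (LK LD1_c1 LD2_c22 LD3_c5)) = (LP (LK LD1_c2 LD2_c52 LD3_c12)) :=
  Lre_e IH (LK LD1_c1 LD2_c22 LD3_c5) (LK LD1_c2 LD2_c52 LD3_c12) Lrfl Lrfl
theorem f672162 : Led Lsl_gt (LP (LK LD1_c4 LD2_c41 LD3_c14)) = v8742 :=
  Lgr Lrot112 (Lpe (K24.f414308 IH) (Lpr_et (K35.f416372 IH) (Lpe (K35.f535796 IH) (Lpe (f500207 IH) (Lpr_dt (f22375 IH) (Lpe (K35.f163613 IH) (Lpr_df (f669028 IH) (Lpe (K48.f669035 IH) (Lpe (f636368 IH) (Lpr_dt (f672154 IH) (Lpn v8742)))))))))))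
theorem f672157 : Led Lsl_df v2187 = v8742 :=
  Lgr Lrot38 (Lpr_dt (f672154 IH) (Lpn v8742))
theorem f415267 : Led Lsl_gt (LP (LK LD1_c6 LD2_c47 LD3_c36)) = (LP (LK LD1_c12 LD2_c58 LD3_c8)) :=
  Lre_g IH (LK LD1_c6 LD2_c47 LD3_c36) (LK LD1_c12 LD2_c58 LD3_c8) Lrfl Lrfl
theorem f622523 : Led Lsl_dt (LP (LK LD1_c11 LD2_c31 LD3_c29)) = (LP (LK LD1_c5 LD2_c52 LD3_c30)) :=
  Lre_d IH (LK LD1_c11 LD2_c31 LD3_c29) (LK LD1_c5 LD2_c52 LD3_c30) Lrfl Lrfl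
theorem f720027 : Led Lsl_ef (LP (LK LD1_c12 LD2_c58 LD3_c8)) = (LP (LK LD1_c11 LD2_c31 LD3_c29)) :=
  Lgr Lrot17 (Lpe (f415267 IH) (Lpe (K24.f414849 IH) (Lpr_dt (K16.f413536 IH) (Lpr_gf (f509525 IH) (Lpr_df (f672157 IH) (Lpe (f672162 IH) (Lpr_ef (f701633 IH) (Lpqs (K51.f706122 IH) (Lpr_dt (f504196 IH) (Lpr_gf (f720023 IH) (Lpe (f622523 IH) (Lpn (LP (LK LD1_c11 LD2_c31 LD3_c29))))))))))))))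
theorem f720028 : Led Lsl_et (LP (LK LD1_c11 LD2_c31 LD3_c29)) = (LP (LK LD1_c12 LD2_c58 LD3_c8)) :=
  Leop (Lpr_ef (f720027 IH) (Lpn (LP (LK LD1_c11 LD2_c31 LD3_c29))))
theorem seed_813 : LEOK LG_e (LK LD1_c11 LD2_c31 LD3_c29) :=
  Leoe_e (LK LD1_c11 LD2_c31 LD3_c29) (f720028 IH)
theorem f75994 : Led Lsl_ft (LP (LK LD1_c11 LD2_c43 LD3_c38)) = (LP (LK LD1_c5 LD2_c59 LD3_c30)) :=
  Lre_f IH (LK LD1_c11 LD2_c43 LD3_c38) (LK LD1_c5 LD2_c59 LD3_c30) Lrfl Lrfl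
def v5059 : LQ := Led Lsl_at (LP (LK LD1_c2 LD2_c56 LD3_c49))
theorem f645121 : Led Lsl_at (LP (LK LD1_c2 LD2_c56 LD3_c49)) = v5059 :=
  Lrfl
theorem f500846 : Led Lsl_et (LP (LK LD1_c1 LD2_c24 LD3_c9)) = (LP (LK LD1_c2 LD2_c56 LD3_c49)) :=
  Lre_e IH (LK LD1_c1 LD2_c24 LD3_c9) (LK LD1_c2 LD2_c56 LD3_c49) Lrfl Lrfl
theorem f645123 : Led Lsl_ef K41.v1693 = v5059 :=
  Lgr Lrot20 (Lpe (K41.f500839 IH) (Lpr_et (f500846 IH) (Lpr_at (f645121 IH) (Lpn v5059))))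
theorem f645124 : Led Lsl_et K41.v1693 = v5059 :=
  Lgr Lrot87 (Lpr_ef (f645123 IH) (Lpn v5059))
theorem f75992 : Led Lsl_et (LP (LK LD1_c2 LD2_c56 LD3_c5)) = (LP (LK LD1_c5 LD2_c59 LD3_c30)) :=
  Lre_e IH (LK LD1_c2 LD2_c56 LD3_c5) (LK LD1_c5 LD2_c59 LD3_c30) Lrfl Lrfl
theorem f719917 : v5059 = (LP (LK LD1_c5 LD2_c59 LD3_c30)) :=
  Lefun (Lecon (f645124 IH) (f719899 IH)) (f75992 IH)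
theorem f645122 : Led Lsl_af (LP (LK LD1_c2 LD2_c56 LD3_c49)) = v5059 :=
  Lgr Lrot0 (Lpr_at (f645121 IH) (Lpn v5059))
theorem f500870 : Led Lsl_ft (LP (LK LD1_c2 LD2_c56 LD3_c49)) = (LP (LK LD1_c6 LD2_c1 LD3_c15)) :=
  Lre_f IH (LK LD1_c2 LD2_c56 LD3_c49) (LK LD1_c6 LD2_c1 LD3_c15) Lrfl Lrfl
theorem f720240 : Led Lsl_af (LP (LK LD1_c11 LD2_c43 LD3_c38)) = (LP (LK LD1_c6 LD2_c1 LD3_c15)) :=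
  Lgr Lrot45 (Lpr_ft (f75994 IH) (Lpq (f719917 IH) (Lpe (f645122 IH) (Lpr_ft (f500870 IH) (Lpn (LP (LK LD1_c6 LD2_c1 LD3_c15)))))))
theorem f720244 : Led Lsl_at (LP (LK LD1_c11 LD2_c43 LD3_c38)) = (LP (LK LD1_c6 LD2_c1 LD3_c15)) :=
  Lgr Lrot100 (Lpr_af (f720240 IH) (Lpn (LP (LK LD1_c6 LD2_c1 LD3_c15))))
theorem f75995 : Led Lsl_ft (LP (LK LD1_c5 LD2_c59 LD3_c30)) = (LP (LK LD1_c11 LD2_c43 LD3_c38)) :=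
  Lre_f IH (LK LD1_c5 LD2_c59 LD3_c30) (LK LD1_c11 LD2_c43 LD3_c38) Lrfl Lrfl
def v13071 : LQ := Led Lsl_et (LP (LK LD1_c4 LD2_c38 LD3_c54))
theorem f700940 : Led Lsl_et (LP (LK LD1_c4 LD2_c38 LD3_c54)) = v13071 :=
  Lrfl
theorem f426073 : Led Lsl_gt (LP (LK LD1_c0 LD2_c38 LD3_c42)) = (LP (LK LD1_c0 LD2_c17 LD3_c13)) :=
  Lgr Lrot149 (Lpe (K24.f426058 IH) (Lpr_gf (K24.f426059 IH) (Lpe (K8.f69454 IH) (Lpr_ct (K6.f69453 IH) (Lpr_gf (K8.f69441 IH) (Lpr_cf (K6.f59540 IH) (Lpr_bt (K6.f59539 IH) (Lpe (K6.f101681 IH) (Lpr_bf (K1.f40697 IH) (Lpr_ct (K8.f26398 IH) (Lpn (LP (LK LD1_c0 LD2_c17 LD3_c13)))))))))))))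
theorem f40708 : Led Lsl_dt (LP (LK LD1_c0 LD2_c38 LD3_c47)) = (LP (LK LD1_c0 LD2_c17 LD3_c13)) :=
  Lre_d IH (LK LD1_c0 LD2_c38 LD3_c47) (LK LD1_c0 LD2_c17 LD3_c13) Lrfl Lrfl
theorem f75997 : Led Lsl_et (LP (LK LD1_c0 LD2_c38 LD3_c47)) = (LP (LK LD1_c1 LD2_c23 LD3_c60)) :=
  Lre_e IH (LK LD1_c0 LD2_c38 LD3_c47) (LK LD1_c1 LD2_c23 LD3_c60) Lrfl Lrfl
theorem f76003 : Led Lsl_dt (LP (LK LD1_c2 LD2_c56 LD3_c5)) = (LP (LK LD1_c5 LD2_c59 LD3_c29)) :=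
  Lre_d IH (LK LD1_c2 LD2_c56 LD3_c5) (LK LD1_c5 LD2_c59 LD3_c29) Lrfl Lrfl
theorem f642152 : Led Lsl_gf (LP (LK LD1_c9 LD2_c13 LD3_c58)) = (LP (LK LD1_c5 LD2_c59 LD3_c29)) :=
  Lgr Lrot134 (Lpe (K41.f641718 IH) (Lpr_et (K41.f507053 IH) (Lpqs (K41.f641739 IH) (Lpqs (K41.f642149 IH) (Lpe (K41.f641333 IH) (Lpe (K41.f427774 IH) (Lpr_dt (K24.f426057 IH) (Lpr_gt (f426073 IH) (Lpe (f40708 IH) (Lpr_et (f75997 IH) (Lpr_gt (f75996 IH) (Lpr_dt (f76003 IH) (Lpn (LP (LK LD1_c5 LD2_c59 LD3_c29)))))))))))))))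
theorem f642154 : Led Lsl_gt (LP (LK LD1_c11 LD2_c17 LD3_c46)) = (LP (LK LD1_c5 LD2_c59 LD3_c29)) :=
  Lgr Lrot5 (Lpr_ft (K41.f641970 IH) (Lpe (K46.f641730 IH) (Lpr_gf (f642152 IH) (Lpn (LP (LK LD1_c5 LD2_c59 LD3_c29))))))
theorem f700945 : Led Lsl_gt (LP (LK LD1_c5 LD2_c59 LD3_c30)) = v13071 :=
  Lgr Lrot131 (Lpe (f75992 IH) (Lpr_dt (f76003 IH) (Lpe (f642154 IH) (Lpe (K41.f616268 IH) (Lpe (K50.f414694 IH) (Lpe (K50.f616285 IH) (Lpe (K50.f643155 IH) (Lpe (K50.f643142 IH) (Lpe (K45.f507818 IH) (Lpr_et (f700940 IH) (Lpn v13071)))))))))))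
theorem f720250 : Led Lsl_gt v13071 = (LP (LK LD1_c6 LD2_c1 LD3_c15)) :=
  Lgr Lrot46 (Lpe (f700945 IH) (Lpr_ft (f75995 IH) (Lpr_at (f720244 IH) (Lpn (LP (LK LD1_c6 LD2_c1 LD3_c15))))))
theorem f643141 : Led Lsl_gt (LP (LK LD1_c17 LD2_c7 LD3_c58)) = (LP (LK LD1_c9 LD2_c13 LD3_c36)) :=
  Lre_g IH (LK LD1_c17 LD2_c7 LD3_c58) (LK LD1_c9 LD2_c13 LD3_c36) Lrfl Lrfl
theorem f643340 : Led Lsl_gf (LP (LK LD1_c17 LD2_c7 LD3_c58)) = (LP (LK LD1_c9 LD2_c30 LD3_c7)) :=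
  Lgr Lrot47 (Lpr_gt (f643141 IH) (Lpr_af (K45.f643330 IH) (Lpe (K45.f643338 IH) (Lpn (LP (LK LD1_c9 LD2_c30 LD3_c7))))))
theorem f74638 : Led Lsl_et (LP (LK LD1_c1 LD2_c5 LD3_c40)) = (LP (LK LD1_c2 LD2_c17 LD3_c29)) :=
  Lre_e IH (LK LD1_c1 LD2_c5 LD3_c40) (LK LD1_c2 LD2_c17 LD3_c29) Lrfl Lrfl
theorem f452971 : Led Lsl_gt (LP (LK LD1_c4 LD2_c40 LD3_c52)) = (LP (LK LD1_c2 LD2_c17 LD3_c29)) :=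
  Lre_g IH (LK LD1_c4 LD2_c40 LD3_c52) (LK LD1_c2 LD2_c17 LD3_c29) Lrfl Lrfl
theorem f74999 : Led Lsl_et (LP (LK LD1_c9 LD2_c17 LD3_c13)) = (LP (LK LD1_c4 LD2_c40 LD3_c52)) :=
  Lre_e IH (LK LD1_c9 LD2_c17 LD3_c13) (LK LD1_c4 LD2_c40 LD3_c52) Lrfl Lrfl
theorem f643342 : Led Lsl_df (LP (LK LD1_c17 LD2_c7 LD3_c58)) = (LP (LK LD1_c9 LD2_c17 LD3_c13)) :=
  Lgr Lrot132 (Lpr_gf (f643340 IH) (Lpe (K50.f56919 IH) (Lpe (K24.f56918 IH) (Lpe (K24.f452969 IH) (Lpr_dt (K24.f452966 IH) (Lpq (K37.f501380 IH) (Lpr_gf (K37.f501346 IH) (Lpq (K36.f501366 IH) (Lpe (K2.f72459 IH) (Lpr_et (f74638 IH) (Lpe (f452971 IH) (Lpe (f74999 IH) (Lpn (LP (LK LD1_c9 LD2_c17 LD3_c13)))))))))))))))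
theorem f74998 : Led Lsl_gt (LP (LK LD1_c9 LD2_c17 LD3_c7)) = (LP (LK LD1_c4 LD2_c40 LD3_c52)) :=
  Lre_g IH (LK LD1_c9 LD2_c17 LD3_c7) (LK LD1_c4 LD2_c40 LD3_c52) Lrfl Lrfl
theorem f74920 : Led Lsl_dt (LP (LK LD1_c5 LD2_c58 LD3_c10)) = (LP (LK LD1_c11 LD2_c40 LD3_c61)) :=
  Lre_d IH (LK LD1_c5 LD2_c58 LD3_c10) (LK LD1_c11 LD2_c40 LD3_c61) Lrfl Lrfl
theorem f75947 : Led Lsl_at (LP (LK LD1_c5 LD2_c58 LD3_c9)) = (LP (LK LD1_c3 LD2_c0 LD3_c16)) :=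
  Lgr Lrot100 (Lpr_af (K5.f75933 IH) (Lpn (LP (LK LD1_c3 LD2_c0 LD3_c16))))
theorem f75963 : Led Lsl_ft (LP (LK LD1_c11 LD2_c40 LD3_c61)) = (LP (LK LD1_c5 LD2_c58 LD3_c9)) :=
  Lre_f IH (LK LD1_c11 LD2_c40 LD3_c61) (LK LD1_c5 LD2_c58 LD3_c9) Lrfl Lrfl
theorem f75977 : Led Lsl_ft (LP (LK LD1_c3 LD2_c0 LD3_c16)) = (LP (LK LD1_c6 LD2_c8 LD3_c9)) :=
  Lre_f IH (LK LD1_c3 LD2_c0 LD3_c16) (LK LD1_c6 LD2_c8 LD3_c9) Lrfl Lrfl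
theorem f75978 : Led Lsl_af (LP (LK LD1_c11 LD2_c40 LD3_c61)) = (LP (LK LD1_c6 LD2_c8 LD3_c9)) :=
  Lgr Lrot45 (Lpr_ft (f75963 IH) (Lpr_at (f75947 IH) (Lpr_ft (f75977 IH) (Lpn (LP (LK LD1_c6 LD2_c8 LD3_c9))))))
theorem f76014 : Led Lsl_gt (LP (LK LD1_c3 LD2_c0 LD3_c16)) = (LP (LK LD1_c6 LD2_c8 LD3_c7)) :=
  Lre_g IH (LK LD1_c3 LD2_c0 LD3_c16) (LK LD1_c6 LD2_c8 LD3_c7) Lrfl Lrfl
theorem f76015 : Led Lsl_gf (LP (LK LD1_c11 LD2_c40 LD3_c61)) = (LP (LK LD1_c6 LD2_c8 LD3_c7)) :=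
  Lgr Lrot76 (Lpr_af (f75978 IH) (Lpe (f75977 IH) (Lpr_gt (f76014 IH) (Lpn (LP (LK LD1_c6 LD2_c8 LD3_c7))))))
theorem f720251 : Led Lsl_df (LP (LK LD1_c6 LD2_c8 LD3_c7)) = (LP (LK LD1_c6 LD2_c1 LD3_c15)) :=
  Lgr Lrot135 (Lpe (f76015 IH) (Lpe (f74920 IH) (Lpe (K2.f74990 IH) (Lpr_gt (f74998 IH) (Lpe (f74999 IH) (Lpe (f643342 IH) (Lpr_gt (f643141 IH) (Lpe (K45.f507818 IH) (Lpr_et (f700940 IH) (Lpr_gt (f720250 IH) (Lpn (LP (LK LD1_c6 LD2_c1 LD3_c15)))))))))))))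
theorem f75935 : Led Lsl_dt (LP (LK LD1_c6 LD2_c1 LD3_c14)) = (LP (LK LD1_c2 LD2_c56 LD3_c49)) :=
  Lre_d IH (LK LD1_c6 LD2_c1 LD3_c14) (LK LD1_c2 LD2_c56 LD3_c49) Lrfl Lrfl
theorem f720255 : Led Lsl_ft (LP (LK LD1_c6 LD2_c8 LD3_c7)) = (LP (LK LD1_c6 LD2_c1 LD3_c14)) :=
  Lgr Lrot54 (Lpr_df (f720251 IH) (Lpe (f500870 IH) (Lpe (f75935 IH) (Lpn (LP (LK LD1_c6 LD2_c1 LD3_c14))))))
theorem f58615 : Led Lsl_gt (LP (LK LD1_c6 LD2_c8 LD3_c8)) = (LP (LK LD1_c3 LD2_c0 LD3_c16)) :=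
  Lre_g IH (LK LD1_c6 LD2_c8 LD3_c8) (LK LD1_c3 LD2_c0 LD3_c16) Lrfl Lrfl
theorem f75980 : Led Lsl_gt (LP (LK LD1_c11 LD2_c40 LD3_c61)) = (LP (LK LD1_c6 LD2_c8 LD3_c8)) :=
  Lgr Lrot5 (Lpr_ft (f75963 IH) (Lpr_at (f75947 IH) (Lpe (f58615 IH) (Lpn (LP (LK LD1_c6 LD2_c8 LD3_c8))))))
theorem f720259 : Led Lsl_af (LP (LK LD1_c6 LD2_c8 LD3_c8)) = (LP (LK LD1_c6 LD2_c1 LD3_c14)) :=
  Lgr Lrot31 (Lpe (f75980 IH) (Lpr_gf (f76015 IH) (Lpr_ft (f720255 IH) (Lpn (LP (LK LD1_c6 LD2_c1 LD3_c14))))))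
theorem f720261 : Led Lsl_at (LP (LK LD1_c6 LD2_c8 LD3_c8)) = (LP (LK LD1_c6 LD2_c1 LD3_c14)) :=
  Lgr Lrot100 (Lpr_af (f720259 IH) (Lpn (LP (LK LD1_c6 LD2_c1 LD3_c14))))
theorem f75001 : Led Lsl_dt (LP (LK LD1_c6 LD2_c8 LD3_c9)) = (LP (LK LD1_c3 LD2_c0 LD3_c42)) :=
  Lre_d IH (LK LD1_c6 LD2_c8 LD3_c9) (LK LD1_c3 LD2_c0 LD3_c42) Lrfl Lrfl
theorem f75002 : Led Lsl_af (LP (LK LD1_c6 LD2_c8 LD3_c9)) = (LP (LK LD1_c11 LD2_c40 LD3_c61)) :=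
  Lgr Lrot117 (Lpr_dt (f75001 IH) (Lpr_at (K2.f74994 IH) (Lpr_dt (f74920 IH) (Lpn (LP (LK LD1_c11 LD2_c40 LD3_c61))))))
theorem f75956 : Led Lsl_ft (LP (LK LD1_c5 LD2_c58 LD3_c9)) = (LP (LK LD1_c11 LD2_c40 LD3_c61)) :=
  Lre_f IH (LK LD1_c5 LD2_c58 LD3_c9) (LK LD1_c11 LD2_c40 LD3_c61) Lrfl Lrfl
theorem f75971 : Led Lsl_gt (LP (LK LD1_c5 LD2_c58 LD3_c9)) = (LP (LK LD1_c11 LD2_c40 LD3_c60)) :=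
  Lre_g IH (LK LD1_c5 LD2_c58 LD3_c9) (LK LD1_c11 LD2_c40 LD3_c60) Lrfl Lrfl
theorem f76174 : Led Lsl_gf (LP (LK LD1_c6 LD2_c8 LD3_c9)) = (LP (LK LD1_c11 LD2_c40 LD3_c60)) :=
  Lgr Lrot76 (Lpr_af (f75002 IH) (Lpe (f75956 IH) (Lpr_gt (f75971 IH) (Lpn (LP (LK LD1_c11 LD2_c40 LD3_c60))))))
theorem f720263 : Led Lsl_ff (LP (LK LD1_c6 LD2_c8 LD3_c8)) = (LP (LK LD1_c11 LD2_c40 LD3_c60)) :=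
  Lgr Lrot52 (Lpr_at (f720261 IH) (Lpr_gf (K5.f75889 IH) (Lpr_gf (f76174 IH) (Lpn (LP (LK LD1_c11 LD2_c40 LD3_c60))))))
theorem f75028 : Led Lsl_et (LP (LK LD1_c2 LD2_c22 LD3_c25)) = (LP (LK LD1_c1 LD2_c24 LD3_c11)) :=
  Lre_e IH (LK LD1_c2 LD2_c22 LD3_c25) (LK LD1_c1 LD2_c24 LD3_c11) Lrfl Lrfl
theorem f74631 : Led Lsl_et (LP (LK LD1_c5 LD2_c59 LD3_c30)) = (LP (LK LD1_c2 LD2_c56 LD3_c5)) :=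
  Lre_e IH (LK LD1_c5 LD2_c59 LD3_c30) (LK LD1_c2 LD2_c56 LD3_c5) Lrfl Lrfl
theorem f75982 : Led Lsl_dt (LP (LK LD1_c5 LD2_c59 LD3_c30)) = (LP (LK LD1_c6 LD2_c8 LD3_c8)) :=
  Lgr Lrot56 (Lpr_et (f74631 IH) (Lpr_gt (f74630 IH) (Lpe (f75028 IH) (Lpr_dt (K2.f74607 IH) (Lpr_gt (K2.f74608 IH) (Lpe (K2.f75017 IH) (Lpr_et (K2.f75016 IH) (Lpr_gt (K2.f75006 IH) (Lpr_dt (f74920 IH) (Lpr_gt (f75980 IH) (Lpn (LP (LK LD1_c6 LD2_c8 LD3_c8)))))))))))))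
theorem f75990 : Led Lsl_df (LP (LK LD1_c5 LD2_c59 LD3_c30)) = (LP (LK LD1_c6 LD2_c8 LD3_c8)) :=
  Lgr Lrot38 (Lpr_dt (f75982 IH) (Lpn (LP (LK LD1_c6 LD2_c8 LD3_c8))))
theorem f720267 : Led Lsl_dt (LP (LK LD1_c11 LD2_c43 LD3_c38)) = (LP (LK LD1_c11 LD2_c40 LD3_c60)) :=
  Lgr Lrot60 (Lpe (f75995 IH) (Lpr_df (f75990 IH) (Lpr_ff (f720263 IH) (Lpn (LP (LK LD1_c11 LD2_c40 LD3_c60))))))
theorem f500859 : Led Lsl_et (LP (LK LD1_c1 LD2_c24 LD3_c10)) = (LP (LK LD1_c2 LD2_c56 LD3_c53)) :=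
  Lre_e IH (LK LD1_c1 LD2_c24 LD3_c10) (LK LD1_c2 LD2_c56 LD3_c53) Lrfl Lrfl
theorem f500860 : Led Lsl_ft (LP (LK LD1_c2 LD2_c56 LD3_c53)) = (LP (LK LD1_c6 LD2_c1 LD3_c25)) :=
  Lre_f IH (LK LD1_c2 LD2_c56 LD3_c53) (LK LD1_c6 LD2_c1 LD3_c25) Lrfl Lrfl
theorem f720227 : Led Lsl_ef (LP (LK LD1_c11 LD2_c43 LD3_c38)) = (LP (LK LD1_c6 LD2_c1 LD3_c25)) :=
  Lgr Lrot21 (Lpr_ft (f75994 IH) (Lpr_et (f74631 IH) (Lpq (f719899 IH) (Lpe (K41.f500856 IH) (Lpr_et (f500859 IH) (Lpr_ft (f500860 IH) (Lpn (LP (LK LD1_c6 LD2_c1 LD3_c25)))))))))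
theorem f720233 : Led Lsl_et (LP (LK LD1_c11 LD2_c43 LD3_c38)) = (LP (LK LD1_c6 LD2_c1 LD3_c25)) :=
  Lgr Lrot87 (Lpr_ef (f720227 IH) (Lpn (LP (LK LD1_c6 LD2_c1 LD3_c25))))
theorem f75970 : Led Lsl_et (LP (LK LD1_c2 LD2_c55 LD3_c27)) = (LP (LK LD1_c1 LD2_c23 LD3_c40)) :=
  Lre_e IH (LK LD1_c2 LD2_c55 LD3_c27) (LK LD1_c1 LD2_c23 LD3_c40) Lrfl Lrfl
theorem f74575 : Led Lsl_et (LP (LK LD1_c1 LD2_c23 LD3_c42)) = (LP (LK LD1_c0 LD2_c38 LD3_c40)) :=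
  Lre_e IH (LK LD1_c1 LD2_c23 LD3_c42) (LK LD1_c0 LD2_c38 LD3_c40) Lrfl Lrfl
theorem f74576 : Led Lsl_dt (LP (LK LD1_c1 LD2_c23 LD3_c42)) = (LP (LK LD1_c2 LD2_c55 LD3_c35)) :=
  Lre_d IH (LK LD1_c1 LD2_c23 LD3_c42) (LK LD1_c2 LD2_c55 LD3_c35) Lrfl Lrfl
def v5010 : LQ := Led Lsl_gf (LP (LK LD1_c2 LD2_c55 LD3_c35))
theorem f641303 : Led Lsl_gf (LP (LK LD1_c2 LD2_c55 LD3_c35)) = v5010 :=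
  Lrfl
def v13057 : LQ := Led Lsl_et (LP (LK LD1_c4 LD2_c38 LD3_c38))
theorem f700770 : Led Lsl_et (LP (LK LD1_c4 LD2_c38 LD3_c38)) = v13057 :=
  Lrfl
theorem f75870 : Led Lsl_et (LP (LK LD1_c5 LD2_c59 LD3_c60)) = (LP (LK LD1_c2 LD2_c56 LD3_c17)) :=
  Lre_e IH (LK LD1_c5 LD2_c59 LD3_c60) (LK LD1_c2 LD2_c56 LD3_c17) Lrfl Lrfl
def v5080 : LQ := Led Lsl_bt (LP (LK LD1_c2 LD2_c57 LD3_c9))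
theorem f645219 : Led Lsl_bt (LP (LK LD1_c2 LD2_c57 LD3_c9)) = v5080 :=
  Lrfl
theorem f645221 : Led Lsl_ef K48.v1707 = v5080 :=
  Lgr Lrot29 (Lpe (K51.f500961 IH) (Lpr_et (K16.f415423 IH) (Lpr_bt (f645219 IH) (Lpn v5080))))
theorem f645224 : Led Lsl_et K48.v1707 = v5080 :=
  Lgr Lrot87 (Lpr_ef (f645221 IH) (Lpn v5080))
theorem f618454 : Led Lsl_et (LP (LK LD1_c2 LD2_c56 LD3_c17)) = (LP (LK LD1_c5 LD2_c59 LD3_c60)) :=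
  Lre_e IH (LK LD1_c2 LD2_c56 LD3_c17) (LK LD1_c5 LD2_c59 LD3_c60) Lrfl Lrfl
theorem f669234 : v5080 = (LP (LK LD1_c5 LD2_c59 LD3_c60)) :=
  Lefun (Lecon (f645224 IH) (K48.f669222 IH)) (f618454 IH)
theorem f414526 : Led Lsl_bt (LP (LK LD1_c6 LD2_c46 LD3_c47)) = (LP (LK LD1_c3 LD2_c21 LD3_c33)) :=
  Lre_b IH (LK LD1_c6 LD2_c46 LD3_c47) (LK LD1_c3 LD2_c21 LD3_c33) Lrfl Lrfl
theorem f645222 : Led Lsl_ff (LP (LK LD1_c6 LD2_c46 LD3_c47)) = v5080 :=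
  Lgr Lrot25 (Lpr_bt (f414526 IH) (Lpe (K32.f508065 IH) (Lpr_bt (f645219 IH) (Lpn v5080))))
theorem f645223 : Led Lsl_ft (LP (LK LD1_c6 LD2_c46 LD3_c47)) = v5080 :=
  Lgr Lrot48 (Lpr_ff (f645222 IH) (Lpn v5080))
def v8066 : LQ := Led Lsl_bt K35.v1730
theorem f669830 : Led Lsl_bt K35.v1730 = v8066 :=
  Lrfl
theorem f669832 : Led Lsl_ef (LP (LK LD1_c6 LD2_c46 LD3_c47)) = v8066 :=
  Lgr Lrot29 (Lpr_bt (f414526 IH) (Lpr_et (K35.f501187 IH) (Lpr_bt (f669830 IH) (Lpn v8066))))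
theorem f700774 : Led Lsl_ff v8066 = v13057 :=
  Lgr Lrot72 (Lpe (f669832 IH) (Lpr_ft (f645223 IH) (Lpqs (f669234 IH) (Lpr_et (f75870 IH) (Lpq (K48.f669222 IH) (Lpr_ft (K51.f508514 IH) (Lpr_et (f700770 IH) (Lpn v13057))))))))
theorem f669831 : Led Lsl_bf K35.v1730 = v8066 :=
  Lgr Lrot24 (Lpr_bt (f669830 IH) (Lpn v8066))
theorem f631976 : Led Lsl_ft K35.v1730 = K35.v4216 :=
  Lgr Lrot48 (Lpr_ff (K35.f631973 IH) (Lpn K35.v4216))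
theorem f700775 : Led Lsl_bt K35.v4216 = v13057 :=
  Lgr Lrot35 (Lpe (f631976 IH) (Lpr_bf (f669831 IH) (Lpr_ff (f700774 IH) (Lpn v13057))))
def v4959 : LQ := Led Lsl_bt (LP (LK LD1_c2 LD2_c54 LD3_c1))
theorem f641065 : Led Lsl_bt (LP (LK LD1_c2 LD2_c54 LD3_c1)) = v4959 :=
  Lrfl
theorem f641066 : Led Lsl_bf (LP (LK LD1_c2 LD2_c54 LD3_c1)) = v4959 :=
  Lgr Lrot24 (Lpr_bt (f641065 IH) (Lpn v4959))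
theorem f700777 : Led Lsl_df v4959 = v13057 :=
  Lgr Lrot12 (Lpe (f641066 IH) (Lpr_dt (K35.f631977 IH) (Lpr_bt (f700775 IH) (Lpn v13057))))
theorem f700773 : Led Lsl_ef (LP (LK LD1_c4 LD2_c38 LD3_c38)) = v13057 :=
  Lgr Lrot88 (Lpr_et (f700770 IH) (Lpn v13057))
theorem f452960 : Led Lsl_dt (LP (LK LD1_c1 LD2_c8 LD3_c18)) = K36.v457 :=
  Lgr Lrot79 (Lpe (K3.f26572 IH) (Lpr_df (K40.f136273 IH) (Lpr_bf (K40.f452959 IH) (Lpn K36.v457))))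
def v1766 : LQ := Led Lsl_gf (LP (LK LD1_c1 LD2_c26 LD3_c0))
theorem f501347 : Led Lsl_gf (LP (LK LD1_c1 LD2_c26 LD3_c0)) = v1766 :=
  Lrfl
theorem f501368 : (LP (LK LD1_c0 LD2_c39 LD3_c46)) = v1766 :=
  Lefun (Lecon (Lfl_gt (K36.f452953 IH)) (K36.f501363 IH).symm) (f501347 IH)
theorem f74452 : Led Lsl_at (LP (LK LD1_c0 LD2_c39 LD3_c46)) = (LP (LK LD1_c0 LD2_c17 LD3_c49)) :=
  Lre_a IH (LK LD1_c0 LD2_c39 LD3_c46) (LK LD1_c0 LD2_c17 LD3_c49) Lrfl Lrfl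
theorem f74781 : Led Lsl_df (LP (LK LD1_c0 LD2_c39 LD3_c46)) = (LP (LK LD1_c1 LD2_c23 LD3_c40)) :=
  Lgr Lrot18 (Lpr_at (f74452 IH) (Lpr_dt (K2.f72876 IH) (Lpr_at (K2.f74553 IH) (Lpn (LP (LK LD1_c1 LD2_c23 LD3_c40))))))
theorem f700779 : v4959 = v5010 :=
  (Llr Lrot136 (Lpr_df (f700777 IH) (Lpe (f700773 IH) (Lpqs (K52.f698974 IH) (Lpe (K52.f634117 IH) (Lpe (K40.f452961 IH) (Lpr_dt (f452960 IH) (Lpq (K36.f501363 IH) (Lpr_gf (f501347 IH) (Lpq (f501368 IH) (Lpr_df (f74781 IH) (Lpe (K2.f74552 IH) (Lpe (f74575 IH) (Lpr_dt (f74576 IH) (Lpr_gf (f641303 IH) (Lpn v5010)))))))))))))))).symm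
theorem f720281 : Led Lsl_gt (LP (LK LD1_c6 LD2_c1 LD3_c25)) = v13057 :=
  Lgr Lrot137 (Lpe (f720233 IH) (Lpr_dt (f720267 IH) (Lpe (f75971 IH) (Lpe (K5.f75957 IH) (Lpr_et (f75970 IH) (Lpe (K2.f74552 IH) (Lpe (f74575 IH) (Lpr_dt (f74576 IH) (Lpr_gf (f641303 IH) (Lpq (f700779 IH) (Lpr_df (f700777 IH) (Lpn v13057))))))))))))
theorem f500855 : Led Lsl_ft (LP (LK LD1_c6 LD2_c1 LD3_c25)) = (LP (LK LD1_c2 LD2_c56 LD3_c53)) :=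
  Lre_f IH (LK LD1_c6 LD2_c1 LD3_c25) (LK LD1_c2 LD2_c56 LD3_c53) Lrfl Lrfl
def v5065 : LQ := Led Lsl_at (LP (LK LD1_c2 LD2_c56 LD3_c53))
theorem f645152 : Led Lsl_at (LP (LK LD1_c2 LD2_c56 LD3_c53)) = v5065 :=
  Lrfl
theorem f720282 : Led Lsl_gf v5065 = v13057 :=
  Lgr Lrot76 (Lpe (f645152 IH) (Lpe (f500855 IH) (Lpr_gt (f720281 IH) (Lpn v13057))))
theorem f500862 : Led Lsl_af (LP (LK LD1_c1 LD2_c24 LD3_c10)) = K52.v1694 :=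
  Lgr Lrot45 (Lpr_ft (K41.f500847 IH) (Lpe (K41.f500839 IH) (Lpr_ft (K52.f500861 IH) (Lpn K52.v1694))))
theorem f645155 : Led Lsl_ef K52.v1694 = v5065 :=
  Lgr Lrot20 (Lpe (f500862 IH) (Lpr_et (f500859 IH) (Lpr_at (f645152 IH) (Lpn v5065))))
theorem f645156 : Led Lsl_et K52.v1694 = v5065 :=
  Lgr Lrot87 (Lpr_ef (f645155 IH) (Lpn v5065))
theorem f384016 : Led Lsl_et (LP (LK LD1_c2 LD2_c56 LD3_c6)) = (LP (LK LD1_c5 LD2_c59 LD3_c34)) :=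
  Lre_e IH (LK LD1_c2 LD2_c56 LD3_c6) (LK LD1_c5 LD2_c59 LD3_c34) Lrfl Lrfl
theorem f719943 : v5065 = (LP (LK LD1_c5 LD2_c59 LD3_c34)) :=
  Lefun (Lecon (f645156 IH) (f719923 IH)) (f384016 IH)
theorem f384004 : Led Lsl_dt (LP (LK LD1_c2 LD2_c56 LD3_c6)) = (LP (LK LD1_c5 LD2_c59 LD3_c33)) :=
  Lre_d IH (LK LD1_c2 LD2_c56 LD3_c6) (LK LD1_c5 LD2_c59 LD3_c33) Lrfl Lrfl
theorem f711218 : Led Lsl_gt (LP (LK LD1_c20 LD2_c13 LD3_c55)) = (LP (LK LD1_c24 LD2_c53 LD3_c37)) :=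
  Lgr Lrot5 (Lpr_ft (K41.f641982 IH) (Lpe (K41.f641732 IH) (Lpr_gf (K52.f711216 IH) (Lpn (LP (LK LD1_c24 LD2_c53 LD3_c37))))))
theorem f415616 : Led Lsl_ct (LP (LK LD1_c24 LD2_c53 LD3_c37)) = (LP (LK LD1_c15 LD2_c5 LD3_c22)) :=
  Lre_c IH (LK LD1_c24 LD2_c53 LD3_c37) (LK LD1_c15 LD2_c5 LD3_c22) Lrfl Lrfl
theorem f415799 : Led Lsl_dt (LP (LK LD1_c8 LD2_c0 LD3_c44)) = (LP (LK LD1_c15 LD2_c5 LD3_c22)) :=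
  Lre_d IH (LK LD1_c8 LD2_c0 LD3_c44) (LK LD1_c15 LD2_c5 LD3_c22) Lrfl Lrfl
theorem f415612 : Led Lsl_ct (LP (LK LD1_c5 LD2_c59 LD3_c24)) = (LP (LK LD1_c8 LD2_c0 LD3_c44)) :=
  Lgr Lrot59 (Lpr_cf (K24.f415604 IH) (Lpn (LP (LK LD1_c8 LD2_c0 LD3_c44))))
theorem f711222 : Led Lsl_gf (LP (LK LD1_c11 LD2_c17 LD3_c46)) = (LP (LK LD1_c5 LD2_c59 LD3_c33)) :=
  Lgr Lrot147 (Lpr_ct (K41.f641981 IH) (Lpr_gt (f711218 IH) (Lpr_ct (f415616 IH) (Lpe (f415799 IH) (Lpe (f415612 IH) (Lpe (K24.f139233 IH) (Lpe (K24.f74627 IH) (Lpe (K32.f383995 IH) (Lpe (K51.f383996 IH) (Lpn (LP (LK LD1_c5 LD2_c59 LD3_c33))))))))))))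
theorem f507530 : Led Lsl_at (LP (LK LD1_c11 LD2_c39 LD3_c51)) = (LP (LK LD1_c5 LD2_c57 LD3_c17)) :=
  Lre_a IH (LK LD1_c11 LD2_c39 LD3_c51) (LK LD1_c5 LD2_c57 LD3_c17) Lrfl Lrfl
theorem f442902 : Led Lsl_gt (LP (LK LD1_c11 LD2_c39 LD3_c55)) = (LP (LK LD1_c5 LD2_c57 LD3_c17)) :=
  Lre_g IH (LK LD1_c11 LD2_c39 LD3_c55) (LK LD1_c5 LD2_c57 LD3_c17) Lrfl Lrfl
theorem f641966 : Led Lsl_gt (LP (LK LD1_c11 LD2_c44 LD3_c30)) = (LP (LK LD1_c11 LD2_c39 LD3_c55)) :=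
  Lgr Lrot5 (Lpr_ft (K41.f641960 IH) (Lpr_at (f507530 IH) (Lpe (f442902 IH) (Lpn (LP (LK LD1_c11 LD2_c39 LD3_c55))))))
theorem f508515 : Led Lsl_dt (LP (LK LD1_c4 LD2_c38 LD3_c38)) = (LP (LK LD1_c9 LD2_c13 LD3_c7)) :=
  Lre_d IH (LK LD1_c4 LD2_c38 LD3_c38) (LK LD1_c9 LD2_c13 LD3_c7) Lrfl Lrfl
theorem f669247 : Led Lsl_gt (LP (LK LD1_c17 LD2_c7 LD3_c40)) = (LP (LK LD1_c9 LD2_c13 LD3_c7)) :=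
  Lre_g IH (LK LD1_c17 LD2_c7 LD3_c40) (LK LD1_c9 LD2_c13 LD3_c7) Lrfl Lrfl
theorem f720283 : Led Lsl_dt (LP (LK LD1_c11 LD2_c39 LD3_c55)) = (LP (LK LD1_c17 LD2_c7 LD3_c40)) :=
  Lgr Lrot171 (Lpe (f641966 IH) (Lpr_ef (K41.f616278 IH) (Lpr_dt (K41.f616268 IH) (Lpr_gf (f711222 IH) (Lpe (f384004 IH) (Lpr_et (f384016 IH) (Lpq (f719943 IH) (Lpr_gf (f720282 IH) (Lpe (f700770 IH) (Lpr_dt (f508515 IH) (Lpe (f669247 IH) (Lpn (LP (LK LD1_c17 LD2_c7 LD3_c40))))))))))))))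
theorem f720284 : Led Lsl_dt (LP (LK LD1_c11 LD2_c39 LD3_c55)) = (LP (LK LD1_c17 LD2_c7 LD3_c40)) :=
  Leop (Lpe (f720283 IH) (Lpn (LP (LK LD1_c11 LD2_c39 LD3_c55))))
theorem seed_814 : LEOK LG_d (LK LD1_c11 LD2_c39 LD3_c55) :=
  Leoe_d (LK LD1_c11 LD2_c39 LD3_c55) (f720284 IH)
def v14139 : LQ := Led Lsl_at (LP (LK LD1_c4 LD2_c59 LD3_c56))
theorem f720472 : Led Lsl_at (LP (LK LD1_c4 LD2_c59 LD3_c56)) = v14139 :=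
  Lrfl
theorem f720474 : Led Lsl_df v4551 = v14139 :=
  Lgr Lrot18 (Lpe (f636079 IH) (Lpr_dt (K46.f77409 IH) (Lpr_at (f720472 IH) (Lpn v14139))))
theorem f415087 : Led Lsl_dt (LP (LK LD1_c2 LD2_c27 LD3_c45)) = (LP (LK LD1_c4 LD2_c59 LD3_c60)) :=
  Lre_d IH (LK LD1_c2 LD2_c27 LD3_c45) (LK LD1_c4 LD2_c59 LD3_c60) Lrfl Lrfl
theorem f720476 : Led Lsl_ft (LP (LK LD1_c4 LD2_c59 LD3_c60)) = v14139 :=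
  Lgr Lrot54 (Lpe (f415087 IH) (Lpr_ff (f636084 IH) (Lpr_df (f720474 IH) (Lpn v14139))))
theorem f720473 : Led Lsl_af (LP (LK LD1_c4 LD2_c59 LD3_c56)) = v14139 :=
  Lgr Lrot0 (Lpr_at (f720472 IH) (Lpn v14139))
theorem f720479 : Led Lsl_gt (LP (LK LD1_c4 LD2_c59 LD3_c60)) = (LP (LK LD1_c9 LD2_c50 LD3_c23)) :=
  Lgr Lrot5 (Lpr_ft (f720476 IH) (Lpe (f720473 IH) (Lpe (K52.f642477 IH) (Lpn (LP (LK LD1_c9 LD2_c50 LD3_c23))))))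
theorem f720480 : Led Lsl_gt (LP (LK LD1_c4 LD2_c59 LD3_c60)) = (LP (LK LD1_c9 LD2_c50 LD3_c23)) :=
  Leop (Lpe (f720479 IH) (Lpn (LP (LK LD1_c4 LD2_c59 LD3_c60))))
theorem seed_815 : LEOK LG_g (LK LD1_c4 LD2_c59 LD3_c60) :=
  Leoe_g (LK LD1_c4 LD2_c59 LD3_c60) (f720480 IH)
def v14142 : LQ := Led Lsl_ft (LP (LK LD1_c4 LD2_c59 LD3_c56))
theorem f720489 : Led Lsl_ft (LP (LK LD1_c4 LD2_c59 LD3_c56)) = v14142 :=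
  Lrfl
theorem f720490 : Led Lsl_af (LP (LK LD1_c4 LD2_c59 LD3_c60)) = v14142 :=
  Lgr Lrot45 (Lpr_ft (f720476 IH) (Lpe (f720473 IH) (Lpr_ft (f720489 IH) (Lpn v14142))))
theorem f720493 : Led Lsl_gt (LP (LK LD1_c9 LD2_c50 LD3_c22)) = (LP (LK LD1_c4 LD2_c59 LD3_c60)) :=
  Lgr Lrot46 (Lpe (K46.f415775 IH) (Lpr_ft (f720489 IH) (Lpe (f720490 IH) (Lpn (LP (LK LD1_c4 LD2_c59 LD3_c60))))))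
theorem f720494 : Led Lsl_gt (LP (LK LD1_c9 LD2_c50 LD3_c22)) = (LP (LK LD1_c4 LD2_c59 LD3_c60)) :=
  Leop (Lpe (f720493 IH) (Lpn (LP (LK LD1_c9 LD2_c50 LD3_c22))))
theorem seed_816 : LEOK LG_g (LK LD1_c9 LD2_c50 LD3_c22) :=
  Leoe_g (LK LD1_c9 LD2_c50 LD3_c22) (f720494 IH)
def v14152 : LQ := Led Lsl_gt (LP (LK LD1_c4 LD2_c59 LD3_c61))
theorem f720530 : Led Lsl_gt (LP (LK LD1_c4 LD2_c59 LD3_c61)) = v14152 :=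
  Lrfl
theorem f636086 : Led Lsl_et (LP (LK LD1_c2 LD2_c27 LD3_c45)) = (LP (LK LD1_c4 LD2_c59 LD3_c61)) :=
  Lre_e IH (LK LD1_c2 LD2_c27 LD3_c45) (LK LD1_c4 LD2_c59 LD3_c61) Lrfl Lrfl
theorem f640880 : Led Lsl_af (LP (LK LD1_c2 LD2_c52 LD3_c39)) = K41.v4912 :=
  Lgr Lrot0 (Lpr_at (K41.f640879 IH) (Lpn K41.v4912))
theorem f642454 : Led Lsl_af (LP (LK LD1_c9 LD2_c48 LD3_c36)) = (LP (LK LD1_c5 LD2_c52 LD3_c49)) :=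
  Lgr Lrot50 (Lpr_et (K41.f642224 IH) (Lpq (K41.f642213 IH) (Lpe (f640880 IH) (Lpr_et (K41.f505762 IH) (Lpn (LP (LK LD1_c5 LD2_c52 LD3_c49)))))))
theorem f644382 : Led Lsl_gt (LP (LK LD1_c11 LD2_c24 LD3_c26)) = (LP (LK LD1_c9 LD2_c48 LD3_c36)) :=
  Lgr Lrot46 (Lpr_gf (K45.f644380 IH) (Lpr_ft (K45.f505772 IH) (Lpe (f642454 IH) (Lpn (LP (LK LD1_c9 LD2_c48 LD3_c36))))))
theorem f104918 : Led Lsl_et (LP (LK LD1_c5 LD2_c47 LD3_c5)) = (LP (LK LD1_c11 LD2_c24 LD3_c26)) :=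
  Lre_e IH (LK LD1_c5 LD2_c47 LD3_c5) (LK LD1_c11 LD2_c24 LD3_c26) Lrfl Lrfl
theorem f61603 : Led Lsl_dt (LP (LK LD1_c5 LD2_c47 LD3_c5)) = (LP (LK LD1_c11 LD2_c24 LD3_c25)) :=
  Lre_d IH (LK LD1_c5 LD2_c47 LD3_c5) (LK LD1_c11 LD2_c24 LD3_c25) Lrfl Lrfl
theorem f104914 : Led Lsl_gt (LP (LK LD1_c11 LD2_c24 LD3_c25)) = (LP (LK LD1_c20 LD2_c22 LD3_c14)) :=
  Lre_g IH (LK LD1_c11 LD2_c24 LD3_c25) (LK LD1_c20 LD2_c22 LD3_c14) Lrfl Lrfl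
theorem f623257 : Led Lsl_et (LP (LK LD1_c12 LD2_c25 LD3_c36)) = (LP (LK LD1_c6 LD2_c26 LD3_c56)) :=
  Lre_e IH (LK LD1_c12 LD2_c25 LD3_c36) (LK LD1_c6 LD2_c26 LD3_c56) Lrfl Lrfl
theorem f669347 : Led Lsl_df (LP (LK LD1_c20 LD2_c22 LD3_c14)) = (LP (LK LD1_c12 LD2_c25 LD3_c36)) :=
  Lgr Lrot132 (Lpe (f104914 IH) (Lpe (f61603 IH) (Lpe (K45.f61439 IH) (Lpe (K2.f74438 IH) (Lpr_dt (K2.f72454 IH) (Lpe (K4.f60937 IH) (Lpr_df (K4.f104801 IH) (Lpr_et (K48.f104890 IH) (Lpqs (K48.f669344 IH) (Lpe (K51.f640541 IH) (Lpe (f623257 IH) (Lpn (LP (LK LD1_c12 LD2_c25 LD3_c36))))))))))))))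
theorem f623404 : Led Lsl_ft (LP (LK LD1_c3 LD2_c11 LD3_c22)) = (LP (LK LD1_c3 LD2_c21 LD3_c31)) :=
  Lgr Lrot48 (Lpr_ff (K35.f623398 IH) (Lpn (LP (LK LD1_c3 LD2_c21 LD3_c31))))
theorem f414844 : Led Lsl_bt (LP (LK LD1_c6 LD2_c26 LD3_c58)) = (LP (LK LD1_c3 LD2_c11 LD3_c22)) :=
  Lre_b IH (LK LD1_c6 LD2_c26 LD3_c58) (LK LD1_c3 LD2_c11 LD3_c22) Lrfl Lrfl
theorem f416785 : Led Lsl_bt (LP (LK LD1_c3 LD2_c21 LD3_c31)) = (LP (LK LD1_c6 LD2_c46 LD3_c45)) :=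
  Lre_b IH (LK LD1_c3 LD2_c21 LD3_c31) (LK LD1_c6 LD2_c46 LD3_c45) Lrfl Lrfl
theorem f623440 : Led Lsl_ff (LP (LK LD1_c6 LD2_c26 LD3_c58)) = (LP (LK LD1_c6 LD2_c46 LD3_c45)) :=
  Lgr Lrot25 (Lpr_bt (f414844 IH) (Lpr_ft (f623404 IH) (Lpr_bt (f416785 IH) (Lpn (LP (LK LD1_c6 LD2_c46 LD3_c45))))))
theorem f623442 : Led Lsl_at (LP (LK LD1_c6 LD2_c26 LD3_c58)) = (LP (LK LD1_c12 LD2_c25 LD3_c36)) :=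
  Lre_a IH (LK LD1_c6 LD2_c26 LD3_c58) (LK LD1_c12 LD2_c25 LD3_c36) Lrfl Lrfl
theorem f417023 : Led Lsl_at (LP (LK LD1_c12 LD2_c56 LD3_c47)) = (LP (LK LD1_c6 LD2_c46 LD3_c45)) :=
  Lre_a IH (LK LD1_c12 LD2_c56 LD3_c47) (LK LD1_c6 LD2_c46 LD3_c45) Lrfl Lrfl
theorem f623443 : Led Lsl_ft (LP (LK LD1_c12 LD2_c25 LD3_c36)) = (LP (LK LD1_c12 LD2_c56 LD3_c47)) :=
  Lgr Lrot101 (Lpe (f623442 IH) (Lpr_ff (f623440 IH) (Lpe (f417023 IH) (Lpn (LP (LK LD1_c12 LD2_c56 LD3_c47))))))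
theorem f623453 : Led Lsl_ff (LP (LK LD1_c12 LD2_c25 LD3_c36)) = (LP (LK LD1_c12 LD2_c56 LD3_c47)) :=
  Lgr Lrot3 (Lpr_ft (f623443 IH) (Lpn (LP (LK LD1_c12 LD2_c56 LD3_c47))))
theorem f416797 : Led Lsl_bt (LP (LK LD1_c6 LD2_c46 LD3_c45)) = (LP (LK LD1_c3 LD2_c21 LD3_c31)) :=
  Lre_b IH (LK LD1_c6 LD2_c46 LD3_c45) (LK LD1_c3 LD2_c21 LD3_c31) Lrfl Lrfl
theorem f413976 : Led Lsl_bt (LP (LK LD1_c6 LD2_c12 LD3_c30)) = (LP (LK LD1_c12 LD2_c4 LD3_c24)) :=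
  Lre_b IH (LK LD1_c6 LD2_c12 LD3_c30) (LK LD1_c12 LD2_c4 LD3_c24) Lrfl Lrfl
theorem f417012 : Led Lsl_df (LP (LK LD1_c6 LD2_c46 LD3_c45)) = (LP (LK LD1_c12 LD2_c4 LD3_c24)) :=
  Lgr Lrot12 (Lpr_bt (f416797 IH) (Lpr_dt (K50.f416788 IH) (Lpr_bt (f413976 IH) (Lpn (LP (LK LD1_c12 LD2_c4 LD3_c24))))))
theorem f417016 : Led Lsl_at (LP (LK LD1_c6 LD2_c46 LD3_c45)) = (LP (LK LD1_c12 LD2_c56 LD3_c47)) :=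
  Lre_a IH (LK LD1_c6 LD2_c46 LD3_c45) (LK LD1_c12 LD2_c56 LD3_c47) Lrfl Lrfl
theorem f417017 : Led Lsl_at (LP (LK LD1_c21 LD2_c9 LD3_c49)) = (LP (LK LD1_c12 LD2_c4 LD3_c24)) :=
  Lre_a IH (LK LD1_c21 LD2_c9 LD3_c49) (LK LD1_c12 LD2_c4 LD3_c24) Lrfl Lrfl
theorem f417018 : Led Lsl_dt (LP (LK LD1_c12 LD2_c56 LD3_c47)) = (LP (LK LD1_c21 LD2_c9 LD3_c49)) :=
  Lgr Lrot44 (Lpe (f417016 IH) (Lpr_df (f417012 IH) (Lpe (f417017 IH) (Lpn (LP (LK LD1_c21 LD2_c9 LD3_c49))))))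
theorem f417021 : Led Lsl_df (LP (LK LD1_c12 LD2_c56 LD3_c47)) = (LP (LK LD1_c21 LD2_c9 LD3_c49)) :=
  Lgr Lrot38 (Lpr_dt (f417018 IH) (Lpn (LP (LK LD1_c21 LD2_c9 LD3_c49))))
theorem f669380 : Led Lsl_ft (LP (LK LD1_c20 LD2_c22 LD3_c14)) = (LP (LK LD1_c21 LD2_c9 LD3_c49)) :=
  Lgr Lrot54 (Lpr_df (f669347 IH) (Lpr_ff (f623453 IH) (Lpr_df (f417021 IH) (Lpn (LP (LK LD1_c21 LD2_c9 LD3_c49))))))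
theorem f623446 : Led Lsl_ft (LP (LK LD1_c12 LD2_c25 LD3_c43)) = (LP (LK LD1_c12 LD2_c4 LD3_c24)) :=
  Lgr Lrot54 (Lpe (K52.f623445 IH) (Lpr_ff (f623440 IH) (Lpr_df (f417012 IH) (Lpn (LP (LK LD1_c12 LD2_c4 LD3_c24))))))
theorem f623449 : Led Lsl_ff (LP (LK LD1_c12 LD2_c25 LD3_c43)) = (LP (LK LD1_c12 LD2_c4 LD3_c24)) :=
  Lgr Lrot3 (Lpr_ft (f623446 IH) (Lpn (LP (LK LD1_c12 LD2_c4 LD3_c24))))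
theorem f669382 : Led Lsl_af (LP (LK LD1_c20 LD2_c22 LD3_c14)) = (LP (LK LD1_c12 LD2_c25 LD3_c43)) :=
  Lgr Lrot45 (Lpr_ft (f669380 IH) (Lpr_at (f417017 IH) (Lpe (f623449 IH) (Lpn (LP (LK LD1_c12 LD2_c25 LD3_c43))))))
theorem f669386 : Led Lsl_gf (LP (LK LD1_c11 LD2_c24 LD3_c25)) = (LP (LK LD1_c12 LD2_c4 LD3_c24)) :=
  Lgr Lrot47 (Lpr_gt (f104914 IH) (Lpr_af (f669382 IH) (Lpr_ff (f623449 IH) (Lpn (LP (LK LD1_c12 LD2_c4 LD3_c24))))))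
theorem f413978 : Led Lsl_bt (LP (LK LD1_c12 LD2_c4 LD3_c24)) = (LP (LK LD1_c6 LD2_c12 LD3_c30)) :=
  Lre_b IH (LK LD1_c12 LD2_c4 LD3_c24) (LK LD1_c6 LD2_c12 LD3_c30) Lrfl Lrfl
theorem f416786 : Led Lsl_dt (LP (LK LD1_c6 LD2_c46 LD3_c45)) = (LP (LK LD1_c12 LD2_c4 LD3_c24)) :=
  Lgr Lrot79 (Lpe (f416785 IH) (Lpr_df (K24.f416783 IH) (Lpe (f413978 IH) (Lpn (LP (LK LD1_c12 LD2_c4 LD3_c24))))))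
theorem f720532 : Led Lsl_et (LP (LK LD1_c6 LD2_c46 LD3_c45)) = v14152 :=
  Lgr Lrot122 (Lpr_dt (f416786 IH) (Lpe (f669386 IH) (Lpe (f61603 IH) (Lpr_et (f104918 IH) (Lpr_gt (f644382 IH) (Lpr_dt (K46.f642448 IH) (Lpr_gt (f720493 IH) (Lpe (f415087 IH) (Lpr_et (f636086 IH) (Lpr_gt (f720530 IH) (Lpn v14152)))))))))))
theorem f720535 : Led Lsl_ef (LP (LK LD1_c6 LD2_c46 LD3_c45)) = v14152 :=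
  Lgr Lrot88 (Lpr_et (f720532 IH) (Lpn v14152))
theorem f139224 : Led Lsl_ft (LP (LK LD1_c2 LD2_c27 LD3_c12)) = (LP (LK LD1_c1 LD2_c10 LD3_c50)) :=
  Lre_f IH (LK LD1_c2 LD2_c27 LD3_c12) (LK LD1_c1 LD2_c10 LD3_c50) Lrfl Lrfl
theorem f415199 : Led Lsl_et (LP (LK LD1_c1 LD2_c10 LD3_c50)) = (LP (LK LD1_c2 LD2_c27 LD3_c11)) :=
  Lre_e IH (LK LD1_c1 LD2_c10 LD3_c50) (LK LD1_c2 LD2_c27 LD3_c11) Lrfl Lrfl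
theorem f636063 : Led Lsl_ft (LP (LK LD1_c2 LD2_c27 LD3_c11)) = (LP (LK LD1_c4 LD2_c58 LD3_c45)) :=
  Lre_f IH (LK LD1_c2 LD2_c27 LD3_c11) (LK LD1_c4 LD2_c58 LD3_c45) Lrfl Lrfl
theorem f642248 : Led Lsl_et (LP (LK LD1_c4 LD2_c58 LD3_c45)) = (LP (LK LD1_c6 LD2_c30 LD3_c2)) :=
  Lgr Lrot69 (Lpe (f636063 IH) (Lpe (f415199 IH) (Lpe (f139224 IH) (Lpe (K8.f138977 IH) (Lpr_ff (K45.f642239 IH) (Lpn (LP (LK LD1_c6 LD2_c30 LD3_c2))))))))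
theorem f642270 : Led Lsl_dt (LP (LK LD1_c4 LD2_c58 LD3_c45)) = (LP (LK LD1_c9 LD2_c47 LD3_c61)) :=
  Lre_d IH (LK LD1_c4 LD2_c58 LD3_c45) (LK LD1_c9 LD2_c47 LD3_c61) Lrfl Lrfl
theorem f640540 : Led Lsl_gf (LP (LK LD1_c6 LD2_c26 LD3_c55)) = K51.v4839 :=
  Lgr Lrot47 (Lpr_gt (K52.f69116 IH) (Lpe (K51.f506564 IH) (Lpr_ff (K51.f640537 IH) (Lpn K51.v4839))))
def v4891 : LQ := Led Lsl_gt (LP (LK LD1_c2 LD2_c52 LD3_c10))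
theorem f640756 : Led Lsl_gt (LP (LK LD1_c2 LD2_c52 LD3_c10)) = v4891 :=
  Lrfl
theorem f139049 : Led Lsl_et (LP (LK LD1_c2 LD2_c27 LD3_c12)) = (LP (LK LD1_c4 LD2_c58 LD3_c46)) :=
  Lre_e IH (LK LD1_c2 LD2_c27 LD3_c12) (LK LD1_c4 LD2_c58 LD3_c46) Lrfl Lrfl
theorem f642260 : Led Lsl_ft (LP (LK LD1_c4 LD2_c58 LD3_c45)) = (LP (LK LD1_c2 LD2_c27 LD3_c11)) :=
  Lre_f IH (LK LD1_c4 LD2_c58 LD3_c45) (LK LD1_c2 LD2_c27 LD3_c11) Lrfl Lrfl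
theorem f642261 : Led Lsl_ef (LP (LK LD1_c4 LD2_c58 LD3_c45)) = (LP (LK LD1_c6 LD2_c30 LD3_c2)) :=
  Lgr Lrot21 (Lpr_ft (f642260 IH) (Lpr_et (K48.f79700 IH) (Lpr_ft (K6.f74514 IH) (Lpr_et (f139049 IH) (Lpr_ft (K45.f642250 IH) (Lpn (LP (LK LD1_c6 LD2_c30 LD3_c2))))))))
theorem f643543 : (LP (LK LD1_c4 LD2_c58 LD3_c45)) = v4891 :=
  (Llr Lrot122 (Lpr_ef (f642261 IH) (Lpr_dt (K48.f506251 IH) (Lpe (K50.f642288 IH) (Lpr_df (K46.f643535 IH) (Lpr_et (K46.f505002 IH) (Lpr_gt (K46.f640676 IH) (Lpq (K46.f643529 IH) (Lpr_dt (K52.f499397 IH) (Lpr_gt (K50.f643089 IH) (Lpe (K45.f622574 IH) (Lpr_et (K45.f535817 IH) (Lpr_gt (f640756 IH) (Lpn v4891)))))))))))))).symm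
theorem f719149 : Led Lsl_gf (LP (LK LD1_c10 LD2_c19 LD3_c3)) = (LP (LK LD1_c9 LD2_c47 LD3_c61)) :=
  Lgr Lrot134 (Lpr_df (f719145 IH) (Lpe (f719143 IH) (Lpq (f698949 IH) (Lpe (f640540 IH) (Lpr_ef (K52.f699013 IH) (Lpr_dt (K52.f499397 IH) (Lpr_gt (K50.f643089 IH) (Lpe (K45.f622574 IH) (Lpr_et (K45.f535817 IH) (Lpr_gt (f640756 IH) (Lpq (f643543 IH) (Lpr_dt (f642270 IH) (Lpn (LP (LK LD1_c9 LD2_c47 LD3_c61)))))))))))))))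
theorem f623720 : Led Lsl_at (LP (LK LD1_c5 LD2_c14 LD3_c49)) = (LP (LK LD1_c10 LD2_c19 LD3_c3)) :=
  Lre_a IH (LK LD1_c5 LD2_c14 LD3_c49) (LK LD1_c10 LD2_c19 LD3_c3) Lrfl Lrfl
theorem f623730 : Led Lsl_af (LP (LK LD1_c2 LD2_c31 LD3_c23)) = (LP (LK LD1_c2 LD2_c34 LD3_c12)) :=
  Lgr Lrot31 (Lpe (K50.f22242 IH) (Lpe (K35.f22249 IH) (Lpr_ft (K48.f623726 IH) (Lpn (LP (LK LD1_c2 LD2_c34 LD3_c12))))))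
theorem f623718 : Led Lsl_af (LP (LK LD1_c2 LD2_c31 LD3_c24)) = (LP (LK LD1_c2 LD2_c34 LD3_c13)) :=
  Lgr Lrot0 (Lpr_at (K35.f623716 IH) (Lpn (LP (LK LD1_c2 LD2_c34 LD3_c13))))
theorem f623737 : Led Lsl_ft (LP (LK LD1_c2 LD2_c31 LD3_c23)) = (LP (LK LD1_c2 LD2_c34 LD3_c13)) :=
  Lgr Lrot101 (Lpr_af (f623730 IH) (Lpe (K48.f623726 IH) (Lpr_af (f623718 IH) (Lpn (LP (LK LD1_c2 LD2_c34 LD3_c13))))))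
theorem f623741 : Led Lsl_ff (LP (LK LD1_c2 LD2_c31 LD3_c23)) = (LP (LK LD1_c2 LD2_c34 LD3_c13)) :=
  Lgr Lrot3 (Lpr_ft (f623737 IH) (Lpn (LP (LK LD1_c2 LD2_c34 LD3_c13))))
theorem f623734 : Led Lsl_bt (LP (LK LD1_c2 LD2_c31 LD3_c23)) = (LP (LK LD1_c5 LD2_c8 LD3_c21)) :=
  Lre_b IH (LK LD1_c2 LD2_c31 LD3_c23) (LK LD1_c5 LD2_c8 LD3_c21) Lrfl Lrfl
theorem f623743 : Led Lsl_ft (LP (LK LD1_c5 LD2_c8 LD3_c21)) = (LP (LK LD1_c5 LD2_c14 LD3_c49)) :=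
  Lgr Lrot75 (Lpe (f623734 IH) (Lpr_ff (f623741 IH) (Lpe (K48.f164392 IH) (Lpn (LP (LK LD1_c5 LD2_c14 LD3_c49))))))
theorem f719151 : Led Lsl_gt (LP (LK LD1_c5 LD2_c8 LD3_c21)) = (LP (LK LD1_c9 LD2_c47 LD3_c61)) :=
  Lgr Lrot5 (Lpr_ft (f623743 IH) (Lpr_at (f623720 IH) (Lpr_gf (f719149 IH) (Lpn (LP (LK LD1_c9 LD2_c47 LD3_c61))))))
theorem f720531 : Led Lsl_df (LP (LK LD1_c5 LD2_c8 LD3_c21)) = v14152 :=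
  Lgr Lrot135 (Lpr_gt (f719151 IH) (Lpe (f642270 IH) (Lpr_et (f642248 IH) (Lpr_gt (K50.f640883 IH) (Lpqs (K41.f642213 IH) (Lpe (K41.f642224 IH) (Lpr_dt (K46.f642448 IH) (Lpr_gt (f720493 IH) (Lpe (f415087 IH) (Lpr_et (f636086 IH) (Lpr_gt (f720530 IH) (Lpn v14152))))))))))))
theorem f387101 : Led Lsl_gt (LP (LK LD1_c4 LD2_c58 LD3_c44)) = (LP (LK LD1_c9 LD2_c47 LD3_c59)) :=
  Lre_g IH (LK LD1_c4 LD2_c58 LD3_c44) (LK LD1_c9 LD2_c47 LD3_c59) Lrfl Lrfl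
theorem f164650 : Led Lsl_bt (LP (LK LD1_c5 LD2_c8 LD3_c21)) = (LP (LK LD1_c2 LD2_c31 LD3_c23)) :=
  Lre_b IH (LK LD1_c5 LD2_c8 LD3_c21) (LK LD1_c2 LD2_c31 LD3_c23) Lrfl Lrfl
theorem f496141 : Led Lsl_bt (LP (LK LD1_c2 LD2_c34 LD3_c13)) = (LP (LK LD1_c5 LD2_c14 LD3_c49)) :=
  Lre_b IH (LK LD1_c2 LD2_c34 LD3_c13) (LK LD1_c5 LD2_c14 LD3_c49) Lrfl Lrfl
theorem f623739 : Led Lsl_ff (LP (LK LD1_c5 LD2_c8 LD3_c21)) = (LP (LK LD1_c5 LD2_c14 LD3_c49)) :=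
  Lgr Lrot25 (Lpr_bt (f164650 IH) (Lpr_ft (f623737 IH) (Lpr_bt (f496141 IH) (Lpn (LP (LK LD1_c5 LD2_c14 LD3_c49))))))
theorem f669353 : Led Lsl_af (LP (LK LD1_c9 LD2_c47 LD3_c59)) = (LP (LK LD1_c5 LD2_c8 LD3_c21)) :=
  Lgr Lrot31 (Lpe (f387101 IH) (Lpr_gf (K48.f669349 IH) (Lpe (f623739 IH) (Lpn (LP (LK LD1_c5 LD2_c8 LD3_c21))))))
theorem f669358 : Led Lsl_ft (LP (LK LD1_c9 LD2_c47 LD3_c59)) = (LP (LK LD1_c10 LD2_c19 LD3_c3)) :=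
  Lgr Lrot101 (Lpr_af (f669353 IH) (Lpr_ff (f623739 IH) (Lpe (f623746 IH) (Lpn (LP (LK LD1_c10 LD2_c19 LD3_c3))))))
theorem f636379 : Led Lsl_gt (LP (LK LD1_c10 LD2_c19 LD3_c2)) = (LP (LK LD1_c5 LD2_c14 LD3_c49)) :=
  Lre_g IH (LK LD1_c10 LD2_c19 LD3_c2) (LK LD1_c5 LD2_c14 LD3_c49) Lrfl Lrfl
theorem f669363 : Led Lsl_gt (LP (LK LD1_c9 LD2_c47 LD3_c59)) = (LP (LK LD1_c10 LD2_c19 LD3_c2)) :=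
  Lgr Lrot5 (Lpr_ft (f669358 IH) (Lpr_at (f623746 IH) (Lpe (f636379 IH) (Lpn (LP (LK LD1_c10 LD2_c19 LD3_c2))))))
theorem f643546 : Led Lsl_ft (LP (LK LD1_c4 LD2_c58 LD3_c44)) = (LP (LK LD1_c9 LD2_c47 LD3_c61)) :=
  Lre_f IH (LK LD1_c4 LD2_c58 LD3_c44) (LK LD1_c9 LD2_c47 LD3_c61) Lrfl Lrfl
theorem f669365 : Led Lsl_at (LP (LK LD1_c9 LD2_c47 LD3_c61)) = (LP (LK LD1_c10 LD2_c19 LD3_c2)) :=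
  Lgr Lrot26 (Lpe (f643546 IH) (Lpr_gt (f387101 IH) (Lpr_gt (f669363 IH) (Lpn (LP (LK LD1_c10 LD2_c19 LD3_c2))))))
theorem f669367 : Led Lsl_af (LP (LK LD1_c9 LD2_c47 LD3_c61)) = (LP (LK LD1_c10 LD2_c19 LD3_c2)) :=
  Lgr Lrot0 (Lpr_at (f669365 IH) (Lpn (LP (LK LD1_c10 LD2_c19 LD3_c2))))
theorem f643545 : Led Lsl_ft (LP (LK LD1_c9 LD2_c47 LD3_c61)) = (LP (LK LD1_c4 LD2_c58 LD3_c44)) :=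
  Lre_f IH (LK LD1_c9 LD2_c47 LD3_c61) (LK LD1_c4 LD2_c58 LD3_c44) Lrfl Lrfl
theorem f643097 : Led Lsl_at (LP (LK LD1_c4 LD2_c58 LD3_c44)) = (LP (LK LD1_c9 LD2_c47 LD3_c22)) :=
  Lre_a IH (LK LD1_c4 LD2_c58 LD3_c44) (LK LD1_c9 LD2_c47 LD3_c22) Lrfl Lrfl
theorem f669369 : Led Lsl_ft (LP (LK LD1_c9 LD2_c47 LD3_c22)) = (LP (LK LD1_c10 LD2_c19 LD3_c2)) :=
  Lgr Lrot101 (Lpe (f643097 IH) (Lpe (f643545 IH) (Lpr_af (f669367 IH) (Lpn (LP (LK LD1_c10 LD2_c19 LD3_c2))))))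
theorem f719153 : Led Lsl_gf (LP (LK LD1_c5 LD2_c8 LD3_c21)) = (LP (LK LD1_c9 LD2_c47 LD3_c22)) :=
  Lgr Lrot47 (Lpr_gt (f719151 IH) (Lpr_af (f669367 IH) (Lpe (f669369 IH) (Lpn (LP (LK LD1_c9 LD2_c47 LD3_c22))))))
theorem f720540 : Led Lsl_gt (LP (LK LD1_c6 LD2_c46 LD3_c45)) = (LP (LK LD1_c9 LD2_c50 LD3_c34)) :=
  Lgr Lrot137 (Lpr_ef (f720535 IH) (Lpe (f720531 IH) (Lpr_gf (f719153 IH) (Lpe (f139348 IH) (Lpr_et (f139347 IH) (Lpe (K6.f139337 IH) (Lpe (K52.f74429 IH) (Lpr_dt (K52.f74169 IH) (Lpr_gf (K52.f139344 IH) (Lpe (K52.f139343 IH) (Lpn (LP (LK LD1_c9 LD2_c50 LD3_c34)))))))))))))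
theorem f720541 : Led Lsl_gt (LP (LK LD1_c6 LD2_c46 LD3_c45)) = (LP (LK LD1_c9 LD2_c50 LD3_c34)) :=
  Leop (Lpe (f720540 IH) (Lpn (LP (LK LD1_c6 LD2_c46 LD3_c45))))
theorem seed_817 : LEOK LG_g (LK LD1_c6 LD2_c46 LD3_c45) :=
  Leoe_g (LK LD1_c6 LD2_c46 LD3_c45) (f720541 IH)
def v14168 : LQ := Led Lsl_et (LP (LK LD1_c5 LD2_c0 LD3_c13))
theorem f720605 : Led Lsl_et (LP (LK LD1_c5 LD2_c0 LD3_c13)) = v14168 :=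
  Lrfl
theorem f720607 : Led Lsl_ef (LP (LK LD1_c5 LD2_c0 LD3_c13)) = v14168 :=
  Lgr Lrot88 (Lpr_et (f720605 IH) (Lpn v14168))
def v4555 : LQ := Led Lsl_et (LP (LK LD1_c2 LD2_c27 LD3_c51))
theorem f636105 : Led Lsl_et (LP (LK LD1_c2 LD2_c27 LD3_c51)) = v4555 :=
  Lrfl
theorem f636106 : Led Lsl_ef (LP (LK LD1_c2 LD2_c27 LD3_c51)) = v4555 :=
  Lgr Lrot88 (Lpr_et (f636105 IH) (Lpn v4555))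
def v12343 : LQ := Led Lsl_et (LP (LK LD1_c4 LD2_c6 LD3_c5))
theorem f691627 : Led Lsl_et (LP (LK LD1_c4 LD2_c6 LD3_c5)) = v12343 :=
  Lrfl
theorem f691629 : Led Lsl_ef (LP (LK LD1_c4 LD2_c6 LD3_c5)) = v12343 :=
  Lgr Lrot88 (Lpr_et (f691627 IH) (Lpn v12343))
theorem f691630 : Led Lsl_dt v4555 = v12343 :=
  Lgr Lrot77 (Lpe (f636105 IH) (Lpe (K24.f73222 IH) (Lpe (K32.f73210 IH) (Lpe (K32.f73214 IH) (Lpr_ef (f691629 IH) (Lpn v12343))))))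
theorem f140740 : Led Lsl_et (LP (LK LD1_c1 LD2_c33 LD3_c0)) = (LP (LK LD1_c3 LD2_c13 LD3_c14)) :=
  Lre_e IH (LK LD1_c1 LD2_c33 LD3_c0) (LK LD1_c3 LD2_c13 LD3_c14) Lrfl Lrfl
theorem f140741 : Led Lsl_dt (LP (LK LD1_c3 LD2_c13 LD3_c13)) = (LP (LK LD1_c1 LD2_c33 LD3_c0)) :=
  Lre_d IH (LK LD1_c3 LD2_c13 LD3_c13) (LK LD1_c1 LD2_c33 LD3_c0) Lrfl Lrfl
def v5776 : LQ := Led Lsl_et (LP (LK LD1_c3 LD2_c13 LD3_c13))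
theorem f649308 : Led Lsl_et (LP (LK LD1_c3 LD2_c13 LD3_c13)) = v5776 :=
  Lrfl
theorem f649309 : Led Lsl_ef (LP (LK LD1_c3 LD2_c13 LD3_c13)) = v5776 :=
  Lgr Lrot88 (Lpr_et (f649308 IH) (Lpn v5776))
theorem f720606 : Led Lsl_df v5776 = v14168 :=
  Lgr Lrot70 (Lpe (f649309 IH) (Lpr_dt (f140741 IH) (Lpr_et (f140740 IH) (Lpe (K24.f140728 IH) (Lpr_et (f720605 IH) (Lpn v14168))))))
def v12802 : LQ := Led Lsl_dt (LP (LK LD1_c4 LD2_c31 LD3_c12))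
theorem f698276 : Led Lsl_dt (LP (LK LD1_c4 LD2_c31 LD3_c12)) = v12802 :=
  Lrfl
def v4173 : LQ := Led Lsl_dt (LP (LK LD1_c2 LD2_c12 LD3_c32))
theorem f631623 : Led Lsl_dt (LP (LK LD1_c2 LD2_c12 LD3_c32)) = v4173 :=
  Lrfl
theorem f631626 : Led Lsl_df (LP (LK LD1_c2 LD2_c12 LD3_c32)) = v4173 :=
  Lgr Lrot38 (Lpr_dt (f631623 IH) (Lpn v4173))
theorem f698279 : Led Lsl_ff v4173 = v12802 :=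
  Lgr Lrot19 (Lpe (f631626 IH) (Lpr_ft (K39.f319340 IH) (Lpr_dt (f698276 IH) (Lpn v12802))))
theorem f698282 : Led Lsl_ft v4173 = v12802 :=
  Lgr Lrot48 (Lpr_ff (f698279 IH) (Lpn v12802))
theorem f140751 : Led Lsl_et (LP (LK LD1_c2 LD2_c14 LD3_c37)) = (LP (LK LD1_c1 LD2_c4 LD3_c28)) :=
  Lre_e IH (LK LD1_c2 LD2_c14 LD3_c37) (LK LD1_c1 LD2_c4 LD3_c28) Lrfl Lrfl
theorem f631627 : Led Lsl_ef (LP (LK LD1_c2 LD2_c12 LD3_c34)) = v4173 :=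
  Lgr Lrot73 (Lpr_dt (K12.f20723 IH) (Lpr_et (K12.f211770 IH) (Lpr_dt (K12.f174924 IH) (Lpr_et (K20.f211783 IH) (Lpr_dt (f631623 IH) (Lpn v4173))))))
theorem f631630 : Led Lsl_et (LP (LK LD1_c2 LD2_c12 LD3_c34)) = v4173 :=
  Lgr Lrot87 (Lpr_ef (f631627 IH) (Lpn v4173))
theorem f649310 : Led Lsl_gt v4173 = v5776 :=
  Lgr Lrot131 (Lpe (f631630 IH) (Lpr_dt (K12.f20723 IH) (Lpe (K12.f20727 IH) (Lpe (K40.f227459 IH) (Lpe (K40.f69331 IH) (Lpe (f140751 IH) (Lpr_dt (K7.f25221 IH) (Lpr_gf (K24.f140743 IH) (Lpe (f140741 IH) (Lpr_et (f649308 IH) (Lpn v5776)))))))))))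
theorem f319341 : Led Lsl_ft (LP (LK LD1_c2 LD2_c45 LD3_c8)) = (LP (LK LD1_c1 LD2_c18 LD3_c50)) :=
  Lre_f IH (LK LD1_c2 LD2_c45 LD3_c8) (LK LD1_c1 LD2_c18 LD3_c50) Lrfl Lrfl
theorem f319342 : Led Lsl_at (LP (LK LD1_c4 LD2_c31 LD3_c12)) = (LP (LK LD1_c2 LD2_c45 LD3_c8)) :=
  Lgr Lrot66 (Lpe (K39.f319340 IH) (Lpr_af (K20.f319327 IH) (Lpe (f319341 IH) (Lpn (LP (LK LD1_c2 LD2_c45 LD3_c8))))))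
theorem f319350 : Led Lsl_af (LP (LK LD1_c4 LD2_c31 LD3_c12)) = (LP (LK LD1_c2 LD2_c45 LD3_c8)) :=
  Lgr Lrot0 (Lpr_at (f319342 IH) (Lpn (LP (LK LD1_c2 LD2_c45 LD3_c8))))
def v4738 : LQ := Led Lsl_dt (LP (LK LD1_c2 LD2_c45 LD3_c8))
theorem f638772 : Led Lsl_dt (LP (LK LD1_c2 LD2_c45 LD3_c8)) = v4738 :=
  Lrfl
theorem f638773 : Led Lsl_df (LP (LK LD1_c2 LD2_c45 LD3_c8)) = v4738 :=
  Lgr Lrot38 (Lpr_dt (f638772 IH) (Lpn v4738))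
theorem f698277 : Led Lsl_af v4738 = v12802 :=
  Lgr Lrot117 (Lpe (f638773 IH) (Lpe (f319350 IH) (Lpr_dt (f698276 IH) (Lpn v12802))))
theorem f698283 : Led Lsl_gt v5776 = v4738 :=
  Lgr Lrot46 (Lpe (f649310 IH) (Lpr_ft (f698282 IH) (Lpe (f698277 IH) (Lpn v4738))))
def v4178 : LQ := Led Lsl_ft (LP (LK LD1_c2 LD2_c12 LD3_c53))
theorem f631650 : Led Lsl_ft (LP (LK LD1_c2 LD2_c12 LD3_c53)) = v4178 :=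
  Lrfl
theorem f631653 : Led Lsl_ff (LP (LK LD1_c2 LD2_c12 LD3_c53)) = v4178 :=
  Lgr Lrot3 (Lpr_ft (f631650 IH) (Lpn v4178))
theorem f168852 : Led Lsl_et (LP (LK LD1_c2 LD2_c12 LD3_c53)) = (LP (LK LD1_c1 LD2_c3 LD3_c26)) :=
  Lre_e IH (LK LD1_c2 LD2_c12 LD3_c53) (LK LD1_c1 LD2_c3 LD3_c26) Lrfl Lrfl
theorem f319339 : Led Lsl_et (LP (LK LD1_c0 LD2_c36 LD3_c19)) = (LP (LK LD1_c1 LD2_c18 LD3_c50)) :=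
  Lre_e IH (LK LD1_c0 LD2_c36 LD3_c19) (LK LD1_c1 LD2_c18 LD3_c50) Lrfl Lrfl
theorem f319358 : Led Lsl_ft (LP (LK LD1_c1 LD2_c18 LD3_c50)) = (LP (LK LD1_c2 LD2_c45 LD3_c8)) :=
  Lre_f IH (LK LD1_c1 LD2_c18 LD3_c50) (LK LD1_c2 LD2_c45 LD3_c8) Lrfl Lrfl
theorem f631656 : Led Lsl_et (LP (LK LD1_c2 LD2_c45 LD3_c8)) = v4178 :=
  Lgr Lrot69 (Lpe (f319358 IH) (Lpe (f319339 IH) (Lpe (K20.f319378 IH) (Lpe (f168852 IH) (Lpr_ff (f631653 IH) (Lpn v4178))))))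
theorem f172039 : Led Lsl_et (LP (LK LD1_c0 LD2_c36 LD3_c39)) = (LP (LK LD1_c1 LD2_c19 LD3_c23)) :=
  Lre_e IH (LK LD1_c0 LD2_c36 LD3_c39) (LK LD1_c1 LD2_c19 LD3_c23) Lrfl Lrfl
theorem f354430 : Led Lsl_at (LP (LK LD1_c1 LD2_c19 LD3_c23)) = (LP (LK LD1_c2 LD2_c12 LD3_c53)) :=
  Lgr Lrot80 (Lpe (f172039 IH) (Lpr_af (K38.f354360 IH) (Lpe (f168852 IH) (Lpn (LP (LK LD1_c2 LD2_c12 LD3_c53))))))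
theorem f354432 : Led Lsl_af (LP (LK LD1_c1 LD2_c19 LD3_c23)) = (LP (LK LD1_c2 LD2_c12 LD3_c53)) :=
  Lgr Lrot0 (Lpr_at (f354430 IH) (Lpn (LP (LK LD1_c2 LD2_c12 LD3_c53))))
theorem f172050 : Led Lsl_gt (LP (LK LD1_c2 LD2_c46 LD3_c2)) = (LP (LK LD1_c1 LD2_c19 LD3_c23)) :=
  Lre_g IH (LK LD1_c2 LD2_c46 LD3_c2) (LK LD1_c1 LD2_c19 LD3_c23) Lrfl Lrfl
theorem f631657 : Led Lsl_gf (LP (LK LD1_c2 LD2_c46 LD3_c2)) = v4178 :=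
  Lgr Lrot47 (Lpr_gt (f172050 IH) (Lpr_af (f354432 IH) (Lpr_ff (f631653 IH) (Lpn v4178))))
def v4755 : LQ := Led Lsl_dt (LP (LK LD1_c2 LD2_c46 LD3_c2))
theorem f638848 : Led Lsl_dt (LP (LK LD1_c2 LD2_c46 LD3_c2)) = v4755 :=
  Lrfl
theorem f720611 : Led Lsl_gf v12343 = v4755 :=
  Lgr Lrot134 (Lpe (f691630 IH) (Lpe (f636106 IH) (Lpr_gt (K24.f77407 IH) (Lpr_ef (f720607 IH) (Lpe (f720606 IH) (Lpr_gt (f698283 IH) (Lpe (f638772 IH) (Lpr_et (f631656 IH) (Lpe (f631657 IH) (Lpr_dt (f638848 IH) (Lpn v4755)))))))))))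
theorem f638835 : Led Lsl_et (LP (LK LD1_c2 LD2_c46 LD3_c2)) = (LP (LK LD1_c5 LD2_c40 LD3_c16)) :=
  Lre_e IH (LK LD1_c2 LD2_c46 LD3_c2) (LK LD1_c5 LD2_c40 LD3_c16) Lrfl Lrfl
theorem f720612 : Led Lsl_gt (LP (LK LD1_c7 LD2_c59 LD3_c48)) = (LP (LK LD1_c5 LD2_c40 LD3_c16)) :=
  Lgr Lrot131 (Lpe (K41.f416039 IH) (Lpe (K35.f454667 IH) (Lpe (K32.f83705 IH) (Lpe (K24.f140723 IH) (Lpe (K24.f77407 IH) (Lpr_ef (f636106 IH) (Lpr_dt (f691630 IH) (Lpr_gf (f720611 IH) (Lpe (f638848 IH) (Lpr_et (f638835 IH) (Lpn (LP (LK LD1_c5 LD2_c40 LD3_c16)))))))))))))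
theorem f720613 : Led Lsl_gt (LP (LK LD1_c7 LD2_c59 LD3_c48)) = (LP (LK LD1_c5 LD2_c40 LD3_c16)) :=
  Leop (Lpe (f720612 IH) (Lpn (LP (LK LD1_c7 LD2_c59 LD3_c48))))
theorem seed_818 : LEOK LG_g (LK LD1_c7 LD2_c59 LD3_c48) :=
  Leoe_g (LK LD1_c7 LD2_c59 LD3_c48) (f720613 IH)
def v14170 : LQ := Led Lsl_ct (LP (LK LD1_c5 LD2_c0 LD3_c18))
theorem f720625 : Led Lsl_ct (LP (LK LD1_c5 LD2_c0 LD3_c18)) = v14170 :=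
  Lrfl
def v4226 : LQ := Led Lsl_at (LP (LK LD1_c2 LD2_c16 LD3_c33))
theorem f632057 : Led Lsl_at (LP (LK LD1_c2 LD2_c16 LD3_c33)) = v4226 :=
  Lrfl
theorem f632059 : Led Lsl_ef K49.v1278 = v4226 :=
  Lgr Lrot20 (Lpe (K49.f494505 IH) (Lpr_et (K9.f22987 IH) (Lpr_at (f632057 IH) (Lpn v4226))))
theorem f632060 : Led Lsl_et K49.v1278 = v4226 :=
  Lgr Lrot87 (Lpr_ef (f632059 IH) (Lpn v4226))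
theorem f645307 : (LP (LK LD1_c0 LD2_c38 LD3_c57)) = K49.v1278 :=
  Lefun (Lecon (Lfl_ff (K46.f452898 IH)) (K46.f645298 IH)) (K49.f494508 IH)
theorem f645327 : v4226 = (LP (LK LD1_c1 LD2_c24 LD3_c32)) :=
  Lefun (Lecon (f632060 IH) (f645307 IH).symm) (K0.f23860 IH)
theorem f501036 : Led Lsl_bt (LP (LK LD1_c1 LD2_c24 LD3_c32)) = (LP (LK LD1_c2 LD2_c57 LD3_c33)) :=
  Lre_b IH (LK LD1_c1 LD2_c24 LD3_c32) (LK LD1_c2 LD2_c57 LD3_c33) Lrfl Lrfl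
theorem f501147 : Led Lsl_at (LP (LK LD1_c2 LD2_c57 LD3_c33)) = (LP (LK LD1_c6 LD2_c2 LD3_c52)) :=
  Lre_a IH (LK LD1_c2 LD2_c57 LD3_c33) (LK LD1_c6 LD2_c2 LD3_c52) Lrfl Lrfl
theorem f645450 : Led Lsl_bf (LP (LK LD1_c9 LD2_c13 LD3_c48)) = (LP (LK LD1_c6 LD2_c2 LD3_c52)) :=
  Lgr Lrot81 (Lpr_at (K52.f23055 IH) (Lpr_bt (K52.f22982 IH) (Lpr_at (f632057 IH) (Lpqs (f645327 IH) (Lpr_bt (f501036 IH) (Lpr_at (f501147 IH) (Lpn (LP (LK LD1_c6 LD2_c2 LD3_c52)))))))))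
theorem f645458 : Led Lsl_et (LP (LK LD1_c2 LD2_c57 LD3_c31)) = (LP (LK LD1_c6 LD2_c2 LD3_c52)) :=
  Lre_e IH (LK LD1_c2 LD2_c57 LD3_c31) (LK LD1_c6 LD2_c2 LD3_c52) Lrfl Lrfl
theorem f645459 : Led Lsl_bt (LP (LK LD1_c4 LD2_c39 LD3_c0)) = (LP (LK LD1_c2 LD2_c57 LD3_c31)) :=
  Lgr Lrot119 (Lpe (K52.f645457 IH) (Lpr_bf (f645450 IH) (Lpe (f645458 IH) (Lpn (LP (LK LD1_c2 LD2_c57 LD3_c31))))))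
def v1716 : LQ := Led Lsl_ft (LP (LK LD1_c1 LD2_c24 LD3_c29))
theorem f501015 : Led Lsl_ft (LP (LK LD1_c1 LD2_c24 LD3_c29)) = v1716 :=
  Lrfl
theorem f501017 : Led Lsl_ff (LP (LK LD1_c1 LD2_c24 LD3_c29)) = v1716 :=
  Lgr Lrot3 (Lpr_ft (f501015 IH) (Lpn v1716))
theorem f444598 : Led Lsl_bt (LP (LK LD1_c1 LD2_c24 LD3_c29)) = (LP (LK LD1_c0 LD2_c38 LD3_c57)) :=
  Lre_b IH (LK LD1_c1 LD2_c24 LD3_c29) (LK LD1_c0 LD2_c38 LD3_c57) Lrfl Lrfl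
theorem f501018 : Led Lsl_bt K46.v447 = v1716 :=
  Lgr Lrot35 (Lpe (K46.f452896 IH) (Lpe (f444598 IH) (Lpr_ff (f501017 IH) (Lpn v1716))))
theorem f454835 : Led Lsl_bt (LP (LK LD1_c1 LD2_c5 LD3_c9)) = (LP (LK LD1_c2 LD2_c16 LD3_c34)) :=
  Lre_b IH (LK LD1_c1 LD2_c5 LD3_c9) (LK LD1_c2 LD2_c16 LD3_c34) Lrfl Lrfl
theorem f645304 : v1716 = (LP (LK LD1_c2 LD2_c16 LD3_c34)) :=
  Lefun (Lecon (f501018 IH) (K46.f645298 IH)) (f454835 IH)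
def v4227 : LQ := Led Lsl_gt (LP (LK LD1_c2 LD2_c16 LD3_c34))
theorem f632061 : Led Lsl_gt (LP (LK LD1_c2 LD2_c16 LD3_c34)) = v4227 :=
  Lrfl
theorem f452891 : Led Lsl_at (LP (LK LD1_c1 LD2_c24 LD3_c29)) = (LP (LK LD1_c2 LD2_c57 LD3_c31)) :=
  Lre_a IH (LK LD1_c1 LD2_c24 LD3_c29) (LK LD1_c2 LD2_c57 LD3_c31) Lrfl Lrfl
theorem f645804 : Led Lsl_gt v4227 = (LP (LK LD1_c2 LD2_c57 LD3_c31)) :=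
  Lgr Lrot46 (Lpe (f632061 IH) (Lpq (f645304 IH) (Lpe (f501017 IH) (Lpr_at (f452891 IH) (Lpn (LP (LK LD1_c2 LD2_c57 LD3_c31)))))))
theorem f699551 : Led Lsl_et K52.v4831 = K52.v12912 :=
  Lgr Lrot69 (Lpe (K52.f640502 IH) (Lpe (K51.f136253 IH) (Lpr_ff (K6.f136242 IH) (Lpe (K6.f109931 IH) (Lpr_ff (K52.f699548 IH) (Lpn K52.v12912))))))
def v13907 : LQ := Led Lsl_et (LP (LK LD1_c4 LD2_c49 LD3_c48))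
theorem f705828 : Led Lsl_et (LP (LK LD1_c4 LD2_c49 LD3_c48)) = v13907 :=
  Lrfl
theorem f710141 : K52.v12912 = v13907 :=
  Lefun (Lecon (f699551 IH) (K52.f710129 IH)) (f705828 IH)
theorem f428760 : Led Lsl_gt (LP (LK LD1_c5 LD2_c47 LD3_c49)) = (LP (LK LD1_c5 LD2_c51 LD3_c19)) :=
  Lgr Lrot46 (Lpe (K51.f66293 IH) (Lpr_ft (K51.f66390 IH) (Lpr_at (K51.f158093 IH) (Lpn (LP (LK LD1_c5 LD2_c51 LD3_c19))))))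
theorem f705829 : Led Lsl_ef (LP (LK LD1_c4 LD2_c49 LD3_c48)) = v13907 :=
  Lgr Lrot88 (Lpr_et (f705828 IH) (Lpn v13907))
theorem f503911 : Led Lsl_gt (LP (LK LD1_c15 LD2_c4 LD3_c33)) = (LP (LK LD1_c9 LD2_c46 LD3_c41)) :=
  Lgr Lrot46 (Lpe (K52.f416000 IH) (Lpr_ft (K52.f503907 IH) (Lpr_at (K51.f416334 IH) (Lpn (LP (LK LD1_c9 LD2_c46 LD3_c41))))))
theorem f710419 : Led Lsl_dt v13907 = (LP (LK LD1_c15 LD2_c4 LD3_c33)) :=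
  Lgr Lrot136 (Lpe (f705829 IH) (Lpe (K52.f416235 IH) (Lpr_ef (K52.f415249 IH) (Lpr_dt (K52.f414591 IH) (Lpe (K52.f710122 IH) (Lpe (K51.f589224 IH) (Lpe (f428760 IH) (Lpe (K51.f428763 IH) (Lpr_dt (K52.f710415 IH) (Lpe (f503911 IH) (Lpn (LP (LK LD1_c15 LD2_c4 LD3_c33)))))))))))))
theorem f503914 : Led Lsl_ct (LP (LK LD1_c9 LD2_c46 LD3_c41)) = (LP (LK LD1_c17 LD2_c56 LD3_c45)) :=
  Lre_c IH (LK LD1_c9 LD2_c46 LD3_c41) (LK LD1_c17 LD2_c56 LD3_c45) Lrfl Lrfl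
theorem f411845 : Led Lsl_et (LP (LK LD1_c5 LD2_c38 LD3_c15)) = (LP (LK LD1_c11 LD2_c7 LD3_c48)) :=
  Lre_e IH (LK LD1_c5 LD2_c38 LD3_c15) (LK LD1_c11 LD2_c7 LD3_c48) Lrfl Lrfl
theorem f181290 : Led Lsl_et (LP (LK LD1_c11 LD2_c11 LD3_c19)) = (LP (LK LD1_c5 LD2_c40 LD3_c20)) :=
  Lre_e IH (LK LD1_c11 LD2_c11 LD3_c19) (LK LD1_c5 LD2_c40 LD3_c20) Lrfl Lrfl
theorem f411846 : Led Lsl_ct (LP (LK LD1_c11 LD2_c7 LD3_c48)) = (LP (LK LD1_c11 LD2_c11 LD3_c19)) :=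
  Lgr Lrot15 (Lpe (f411845 IH) (Lpr_cf (K31.f411840 IH) (Lpe (f181290 IH) (Lpn (LP (LK LD1_c11 LD2_c11 LD3_c19))))))
theorem f411850 : Led Lsl_cf (LP (LK LD1_c11 LD2_c7 LD3_c48)) = (LP (LK LD1_c11 LD2_c11 LD3_c19)) :=
  Lgr Lrot11 (Lpr_ct (f411846 IH) (Lpn (LP (LK LD1_c11 LD2_c11 LD3_c19))))
theorem f104784 : Led Lsl_et (LP (LK LD1_c4 LD2_c35 LD3_c50)) = (LP (LK LD1_c2 LD2_c15 LD3_c6)) :=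
  Lre_e IH (LK LD1_c4 LD2_c35 LD3_c50) (LK LD1_c2 LD2_c15 LD3_c6) Lrfl Lrfl
theorem f614352 : Led Lsl_dt (LP (LK LD1_c5 LD2_c58 LD3_c36)) = (LP (LK LD1_c11 LD2_c17 LD3_c17)) :=
  Lgr Lrot79 (Lpe (K43.f208480 IH) (Lpr_df (K52.f614348 IH) (Lpe (K38.f382063 IH) (Lpn (LP (LK LD1_c11 LD2_c17 LD3_c17))))))
theorem f149135 : Led Lsl_bt (LP (LK LD1_c5 LD2_c53 LD3_c43)) = (LP (LK LD1_c2 LD2_c53 LD3_c15)) :=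
  Lre_b IH (LK LD1_c5 LD2_c53 LD3_c43) (LK LD1_c2 LD2_c53 LD3_c15) Lrfl Lrfl
theorem f149112 : Led Lsl_af (LP (LK LD1_c4 LD2_c35 LD3_c50)) = (LP (LK LD1_c2 LD2_c53 LD3_c15)) :=
  Lgr Lrot0 (Lpr_at (K7.f149110 IH) (Lpn (LP (LK LD1_c2 LD2_c53 LD3_c15))))
theorem f149137 : Led Lsl_bt (LP (LK LD1_c2 LD2_c15 LD3_c6)) = (LP (LK LD1_c2 LD2_c51 LD3_c47)) :=
  Lgr Lrot35 (Lpr_ff (K36.f149095 IH) (Lpe (K32.f61841 IH) (Lpr_ff (K6.f136320 IH) (Lpn (LP (LK LD1_c2 LD2_c51 LD3_c47))))))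
theorem f136317 : Led Lsl_et (LP (LK LD1_c2 LD2_c51 LD3_c47)) = (LP (LK LD1_c5 LD2_c51 LD3_c2)) :=
  Lre_e IH (LK LD1_c2 LD2_c51 LD3_c47) (LK LD1_c5 LD2_c51 LD3_c2) Lrfl Lrfl
theorem f149139 : Led Lsl_bf (LP (LK LD1_c4 LD2_c35 LD3_c50)) = (LP (LK LD1_c5 LD2_c51 LD3_c2)) :=
  Lgr Lrot96 (Lpr_et (f104784 IH) (Lpr_bt (f149137 IH) (Lpr_et (f136317 IH) (Lpn (LP (LK LD1_c5 LD2_c51 LD3_c2))))))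
theorem f149141 : Led Lsl_bt (LP (LK LD1_c4 LD2_c35 LD3_c50)) = (LP (LK LD1_c5 LD2_c51 LD3_c2)) :=
  Lgr Lrot127 (Lpr_bf (f149139 IH) (Lpn (LP (LK LD1_c5 LD2_c51 LD3_c2))))
theorem f208493 : Led Lsl_at (LP (LK LD1_c5 LD2_c51 LD3_c2)) = (LP (LK LD1_c5 LD2_c58 LD3_c36)) :=
  Lgr Lrot67 (Lpe (f149141 IH) (Lpr_af (f149112 IH) (Lpe (f149135 IH) (Lpe (K43.f208474 IH) (Lpr_bf (K52.f208486 IH) (Lpn (LP (LK LD1_c5 LD2_c58 LD3_c36))))))))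
theorem f614354 : Led Lsl_df (LP (LK LD1_c5 LD2_c51 LD3_c2)) = (LP (LK LD1_c11 LD2_c11 LD3_c19)) :=
  Lgr Lrot18 (Lpr_at (f208493 IH) (Lpr_dt (f614352 IH) (Lpr_at (K38.f423324 IH) (Lpn (LP (LK LD1_c11 LD2_c11 LD3_c19))))))
theorem f181285 : Led Lsl_bt (LP (LK LD1_c9 LD2_c2 LD3_c25)) = (LP (LK LD1_c11 LD2_c11 LD3_c19)) :=
  Lgr Lrot127 (Lpr_bf (K38.f181280 IH) (Lpn (LP (LK LD1_c11 LD2_c11 LD3_c19))))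
theorem f614360 : Led Lsl_dt (LP (LK LD1_c4 LD2_c35 LD3_c50)) = (LP (LK LD1_c9 LD2_c2 LD3_c25)) :=
  Lgr Lrot79 (Lpr_bf (f149139 IH) (Lpr_df (f614354 IH) (Lpe (f181285 IH) (Lpn (LP (LK LD1_c9 LD2_c2 LD3_c25))))))
def v4948 : LQ := Led Lsl_gt (LP (LK LD1_c2 LD2_c53 LD3_c41))
theorem f641022 : Led Lsl_gt (LP (LK LD1_c2 LD2_c53 LD3_c41)) = v4948 :=
  Lrfl
theorem f641023 : Led Lsl_gf (LP (LK LD1_c6 LD2_c15 LD3_c50)) = v4948 :=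
  Lgr Lrot76 (Lpe (K8.f137357 IH) (Lpe (K8.f138475 IH) (Lpr_gt (f641022 IH) (Lpn v4948))))
theorem f715025 : (LP (LK LD1_c4 LD2_c40 LD3_c55)) = v4948 :=
  Lefun (Lecon (Lfl_gt (K52.f701496 IH)) (K52.f715019 IH)) (f641023 IH)
theorem f23124 : Led Lsl_bt (LP (LK LD1_c4 LD2_c40 LD3_c55)) = (LP (LK LD1_c2 LD2_c17 LD3_c30)) :=
  Lre_b IH (LK LD1_c4 LD2_c40 LD3_c55) (LK LD1_c2 LD2_c17 LD3_c30) Lrfl Lrfl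
theorem f23125 : Led Lsl_bt (LP (LK LD1_c4 LD2_c33 LD3_c50)) = (LP (LK LD1_c9 LD2_c5 LD3_c10)) :=
  Lre_b IH (LK LD1_c4 LD2_c33 LD3_c50) (LK LD1_c9 LD2_c5 LD3_c10) Lrfl Lrfl
theorem f23126 : Led Lsl_ef (LP (LK LD1_c4 LD2_c40 LD3_c55)) = (LP (LK LD1_c9 LD2_c5 LD3_c10)) :=
  Lgr Lrot29 (Lpr_bt (f23124 IH) (Lpr_et (K32.f23118 IH) (Lpr_bt (f23125 IH) (Lpn (LP (LK LD1_c9 LD2_c5 LD3_c10))))))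
theorem f23148 : Led Lsl_dt (LP (LK LD1_c9 LD2_c5 LD3_c10)) = (LP (LK LD1_c4 LD2_c33 LD3_c48)) :=
  Lre_d IH (LK LD1_c9 LD2_c5 LD3_c10) (LK LD1_c4 LD2_c33 LD3_c48) Lrfl Lrfl
def v12876 : LQ := Led Lsl_gt (LP (LK LD1_c4 LD2_c33 LD3_c48))
theorem f698753 : Led Lsl_gt (LP (LK LD1_c4 LD2_c33 LD3_c48)) = v12876 :=
  Lrfl
theorem f715029 : (LP (LK LD1_c9 LD2_c2 LD3_c25)) = v12876 :=
  (Llr Lrot37 (Lpe (f614360 IH) (Lpr_et (f104784 IH) (Lpr_gt (K41.f202247 IH) (Lpr_dt (K11.f202214 IH) (Lpe (K11.f202241 IH) (Lpe (K6.f137336 IH) (Lpr_et (K6.f137338 IH) (Lpr_gt (f641022 IH) (Lpq (f715025 IH) (Lpr_ef (f23126 IH) (Lpr_dt (f23148 IH) (Lpr_gt (f698753 IH) (Lpn v12876)))))))))))))).symm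
def v4815 : LQ := Led Lsl_ft (LP (LK LD1_c2 LD2_c48 LD3_c42))
theorem f639131 : Led Lsl_ft (LP (LK LD1_c2 LD2_c48 LD3_c42)) = v4815 :=
  Lrfl
theorem f639134 : Led Lsl_ff (LP (LK LD1_c2 LD2_c48 LD3_c42)) = v4815 :=
  Lgr Lrot3 (Lpr_ft (f639131 IH) (Lpn v4815))
theorem f444611 : Led Lsl_bt (LP (LK LD1_c2 LD2_c48 LD3_c42)) = (LP (LK LD1_c1 LD2_c20 LD3_c29)) :=
  Lre_b IH (LK LD1_c2 LD2_c48 LD3_c42) (LK LD1_c1 LD2_c20 LD3_c29) Lrfl Lrfl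
theorem f639135 : Led Lsl_bt K48.v1505 = v4815 :=
  Lgr Lrot35 (Lpe (K48.f495942 IH) (Lpe (f444611 IH) (Lpr_ff (f639134 IH) (Lpn v4815))))
theorem f454844 : Led Lsl_bt (LP (LK LD1_c2 LD2_c13 LD3_c46)) = (LP (LK LD1_c4 LD2_c33 LD3_c48)) :=
  Lre_b IH (LK LD1_c2 LD2_c13 LD3_c46) (LK LD1_c4 LD2_c33 LD3_c48) Lrfl Lrfl
theorem f639221 : v4815 = (LP (LK LD1_c4 LD2_c33 LD3_c48)) :=
  Lefun (Lecon (f639135 IH) (K48.f639217 IH)) (f454844 IH)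
theorem f495928 : Led Lsl_at (LP (LK LD1_c2 LD2_c48 LD3_c42)) = (LP (LK LD1_c5 LD2_c45 LD3_c50)) :=
  Lre_a IH (LK LD1_c2 LD2_c48 LD3_c42) (LK LD1_c5 LD2_c45 LD3_c50) Lrfl Lrfl
theorem f698754 : Led Lsl_gf (LP (LK LD1_c5 LD2_c45 LD3_c50)) = v12876 :=
  Lgr Lrot76 (Lpe (f495928 IH) (Lpr_ff (f639134 IH) (Lpqs (f639221 IH) (Lpr_gt (f698753 IH) (Lpn v12876)))))
theorem f454878 : Led Lsl_bt (LP (LK LD1_c9 LD2_c5 LD3_c1)) = (LP (LK LD1_c4 LD2_c33 LD3_c46)) :=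
  Lre_b IH (LK LD1_c9 LD2_c5 LD3_c1) (LK LD1_c4 LD2_c33 LD3_c46) Lrfl Lrfl
theorem f639156 : Led Lsl_af (LP (LK LD1_c2 LD2_c48 LD3_c44)) = K38.v4818 :=
  Lgr Lrot0 (Lpr_at (K38.f639155 IH) (Lpn K38.v4818))
theorem f445990 : Led Lsl_bt (LP (LK LD1_c2 LD2_c48 LD3_c44)) = (LP (LK LD1_c5 LD2_c45 LD3_c52)) :=
  Lre_b IH (LK LD1_c2 LD2_c48 LD3_c44) (LK LD1_c5 LD2_c45 LD3_c52) Lrfl Lrfl
theorem f639162 : Led Lsl_at (LP (LK LD1_c5 LD2_c45 LD3_c52)) = (LP (LK LD1_c11 LD2_c22 LD3_c3)) :=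
  Lre_a IH (LK LD1_c5 LD2_c45 LD3_c52) (LK LD1_c11 LD2_c22 LD3_c3) Lrfl Lrfl
theorem f640272 : Led Lsl_bf (LP (LK LD1_c16 LD2_c56 LD3_c56)) = (LP (LK LD1_c11 LD2_c22 LD3_c3)) :=
  Lgr Lrot81 (Lpr_at (K51.f640115 IH) (Lpr_bt (f454878 IH) (Lpq (K48.f639244 IH) (Lpe (f639156 IH) (Lpr_bt (f445990 IH) (Lpr_at (f639162 IH) (Lpn (LP (LK LD1_c11 LD2_c22 LD3_c3)))))))))
theorem f640276 : Led Lsl_dt (LP (LK LD1_c5 LD2_c45 LD3_c50)) = (LP (LK LD1_c11 LD2_c22 LD3_c3)) :=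
  Lre_d IH (LK LD1_c5 LD2_c45 LD3_c50) (LK LD1_c11 LD2_c22 LD3_c3) Lrfl Lrfl
theorem f640277 : Led Lsl_bt (LP (LK LD1_c9 LD2_c4 LD3_c61)) = (LP (LK LD1_c5 LD2_c45 LD3_c50)) :=
  Lgr Lrot95 (Lpe (K51.f640138 IH) (Lpr_bf (f640272 IH) (Lpe (f640276 IH) (Lpn (LP (LK LD1_c5 LD2_c45 LD3_c50))))))
theorem f715034 : Led Lsl_gf (LP (LK LD1_c11 LD2_c7 LD3_c48)) = (LP (LK LD1_c17 LD2_c56 LD3_c45)) :=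
  Lgr Lrot129 (Lpr_cf (f411850 IH) (Lpe (K38.f181280 IH) (Lpqs (f715029 IH) (Lpe (f698754 IH) (Lpe (f640277 IH) (Lpr_ct (K52.f640141 IH) (Lpe (K52.f640255 IH) (Lpe (K52.f415999 IH) (Lpr_bt (K52.f416001 IH) (Lpr_gt (f503911 IH) (Lpr_ct (f503914 IH) (Lpn (LP (LK LD1_c17 LD2_c56 LD3_c45))))))))))))))
theorem f130195 : Led Lsl_et (LP (LK LD1_c5 LD2_c48 LD3_c20)) = (LP (LK LD1_c2 LD2_c50 LD3_c15)) :=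
  Lre_e IH (LK LD1_c5 LD2_c48 LD3_c20) (LK LD1_c2 LD2_c50 LD3_c15) Lrfl Lrfl
theorem f136318 : Led Lsl_cf (LP (LK LD1_c5 LD2_c48 LD3_c20)) = (LP (LK LD1_c5 LD2_c51 LD3_c2)) :=
  Lgr Lrot39 (Lpr_et (f130195 IH) (Lpr_ct (K6.f136307 IH) (Lpr_et (f136317 IH) (Lpn (LP (LK LD1_c5 LD2_c51 LD3_c2))))))
theorem f130511 : Led Lsl_bf (LP (LK LD1_c9 LD2_c5 LD3_c55)) = (LP (LK LD1_c13 LD2_c6 LD3_c40)) :=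
  Lgr Lrot24 (Lpr_bt (K43.f130226 IH) (Lpn (LP (LK LD1_c13 LD2_c6 LD3_c40))))
theorem f130212 : Led Lsl_at (LP (LK LD1_c9 LD2_c5 LD3_c55)) = (LP (LK LD1_c5 LD2_c48 LD3_c20)) :=
  Lgr Lrot80 (Lpe (K43.f130211 IH) (Lpr_af (K5.f130203 IH) (Lpe (f130195 IH) (Lpn (LP (LK LD1_c5 LD2_c48 LD3_c20))))))
theorem f94759 : Led Lsl_bt (LP (LK LD1_c3 LD2_c26 LD3_c6)) = (LP (LK LD1_c6 LD2_c54 LD3_c1)) :=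
  Lre_b IH (LK LD1_c3 LD2_c26 LD3_c6) (LK LD1_c6 LD2_c54 LD3_c1) Lrfl Lrfl
theorem f130513 : Led Lsl_bt (LP (LK LD1_c5 LD2_c48 LD3_c20)) = (LP (LK LD1_c6 LD2_c51 LD3_c43)) :=
  Lgr Lrot62 (Lpe (f130212 IH) (Lpr_bf (f130511 IH) (Lpe (K43.f102482 IH) (Lpe (f94759 IH) (Lpr_af (K4.f102406 IH) (Lpn (LP (LK LD1_c6 LD2_c51 LD3_c43))))))))
theorem f149143 : Led Lsl_bf (LP (LK LD1_c9 LD2_c8 LD3_c2)) = (LP (LK LD1_c7 LD2_c43 LD3_c8)) :=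
  Lgr Lrot90 (Lpr_ct (K7.f149115 IH) (Lpr_bt (f149141 IH) (Lpe (f136318 IH) (Lpr_bt (f130513 IH) (Lpr_ct (K4.f91857 IH) (Lpn (LP (LK LD1_c7 LD2_c43 LD3_c8))))))))
theorem f149146 : Led Lsl_bt (LP (LK LD1_c9 LD2_c8 LD3_c2)) = (LP (LK LD1_c7 LD2_c43 LD3_c8)) :=
  Lgr Lrot127 (Lpr_bf (f149143 IH) (Lpn (LP (LK LD1_c7 LD2_c43 LD3_c8))))
theorem f149122 : Led Lsl_ct (LP (LK LD1_c4 LD2_c35 LD3_c50)) = (LP (LK LD1_c9 LD2_c8 LD3_c2)) :=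
  Lre_c IH (LK LD1_c4 LD2_c35 LD3_c50) (LK LD1_c9 LD2_c8 LD3_c2) Lrfl Lrfl
theorem f91859 : Led Lsl_cf (LP (LK LD1_c6 LD2_c51 LD3_c43)) = (LP (LK LD1_c7 LD2_c43 LD3_c8)) :=
  Lgr Lrot11 (Lpr_ct (K4.f91857 IH) (Lpn (LP (LK LD1_c7 LD2_c43 LD3_c8))))
theorem f130515 : Led Lsl_bf (LP (LK LD1_c5 LD2_c48 LD3_c20)) = (LP (LK LD1_c6 LD2_c51 LD3_c43)) :=
  Lgr Lrot24 (Lpr_bt (f130513 IH) (Lpn (LP (LK LD1_c6 LD2_c51 LD3_c43))))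
theorem f149159 : Led Lsl_cf (LP (LK LD1_c5 LD2_c51 LD3_c2)) = (LP (LK LD1_c5 LD2_c48 LD3_c20)) :=
  Lgr Lrot97 (Lpe (f149139 IH) (Lpr_ct (f149122 IH) (Lpr_bt (f149146 IH) (Lpe (f91859 IH) (Lpe (f130515 IH) (Lpn (LP (LK LD1_c5 LD2_c48 LD3_c20))))))))
theorem f720629 : Led Lsl_gf (LP (LK LD1_c5 LD2_c48 LD3_c20)) = v14170 :=
  Lgr Lrot104 (Lpe (f149159 IH) (Lpr_df (f614354 IH) (Lpe (f411846 IH) (Lpr_gf (f715034 IH) (Lpe (f503914 IH) (Lpe (f503911 IH) (Lpe (f710419 IH) (Lpq (f710141 IH) (Lpqs (K52.f710498 IH) (Lpr_gt (K52.f633861 IH) (Lpr_ct (f720625 IH) (Lpn v14170))))))))))))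
theorem f720630 : v4227 = (LP (LK LD1_c4 LD2_c35 LD3_c50)) :=
  (Llr Lrot124 (Lpr_gt (f645804 IH) (Lpe (f645459 IH) (Lpr_ct (K52.f645467 IH) (Lpe (K52.f645616 IH) (Lpe (K52.f415568 IH) (Lpr_bt (K52.f415569 IH) (Lpr_gt (K52.f633861 IH) (Lpr_ct (f720625 IH) (Lpe (f720629 IH) (Lpr_cf (f136318 IH) (Lpe (f149139 IH) (Lpn (LP (LK LD1_c4 LD2_c35 LD3_c50))))))))))))))).symm
theorem f720632 : Led Lsl_gt (LP (LK LD1_c4 LD2_c35 LD3_c50)) = (LP (LK LD1_c2 LD2_c57 LD3_c31)) :=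
  Leop (Lpe (f645804 IH) (Lpqs (f720630 IH) (Lpn (LP (LK LD1_c4 LD2_c35 LD3_c50)))))
theorem seed_819 : LEOK LG_g (LK LD1_c4 LD2_c35 LD3_c50) :=
  Leoe_g (LK LD1_c4 LD2_c35 LD3_c50) (f720632 IH)
theorem f208476 : Led Lsl_af (LP (LK LD1_c9 LD2_c9 LD3_c23)) = (LP (LK LD1_c5 LD2_c53 LD3_c43)) :=
  Lgr Lrot0 (Lpr_at (K43.f208474 IH) (Lpn (LP (LK LD1_c5 LD2_c53 LD3_c43))))
theorem f715113 : Led Lsl_ff (LP (LK LD1_c5 LD2_c53 LD3_c43)) = (LP (LK LD1_c9 LD2_c12 LD3_c12)) :=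
  Lgr Lrot52 (Lpe (f208476 IH) (Lpe (K52.f208483 IH) (Lpr_gf (K52.f715111 IH) (Lpn (LP (LK LD1_c9 LD2_c12 LD3_c12))))))
def v4943 : LQ := Led Lsl_ft (LP (LK LD1_c2 LD2_c53 LD3_c15))
theorem f640994 : Led Lsl_ft (LP (LK LD1_c2 LD2_c53 LD3_c15)) = v4943 :=
  Lrfl
theorem f715115 : Led Lsl_bt v4943 = (LP (LK LD1_c9 LD2_c12 LD3_c12)) :=
  Lgr Lrot35 (Lpe (f640994 IH) (Lpe (f149135 IH) (Lpr_ff (f715113 IH) (Lpn (LP (LK LD1_c9 LD2_c12 LD3_c12))))))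
def v13083 : LQ := Led Lsl_bt (LP (LK LD1_c4 LD2_c39 LD3_c8))
theorem f700993 : Led Lsl_bt (LP (LK LD1_c4 LD2_c39 LD3_c8)) = v13083 :=
  Lrfl
def v12974 : LQ := Led Lsl_ft (LP (LK LD1_c4 LD2_c35 LD3_c50))
theorem f699954 : Led Lsl_ft (LP (LK LD1_c4 LD2_c35 LD3_c50)) = v12974 :=
  Lrfl
def v12972 : LQ := Led Lsl_gt (LP (LK LD1_c4 LD2_c35 LD3_c50))
theorem f699950 : Led Lsl_gt (LP (LK LD1_c4 LD2_c35 LD3_c50)) = v12972 :=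
  Lrfl
theorem f640995 : Led Lsl_ff (LP (LK LD1_c2 LD2_c53 LD3_c15)) = v4943 :=
  Lgr Lrot3 (Lpr_ft (f640994 IH) (Lpn v4943))
theorem f699955 : Led Lsl_af v4943 = v12974 :=
  Lgr Lrot45 (Lpe (f640995 IH) (Lpe (f149112 IH) (Lpr_ft (f699954 IH) (Lpn v12974))))
theorem f699958 : Led Lsl_gt v12972 = v4943 :=
  Lgr Lrot46 (Lpe (f699950 IH) (Lpr_ft (f699954 IH) (Lpe (f699955 IH) (Lpn v4943))))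
theorem f507645 : Led Lsl_bt (LP (LK LD1_c4 LD2_c39 LD3_c10)) = (LP (LK LD1_c2 LD2_c16 LD3_c35)) :=
  Lre_b IH (LK LD1_c4 LD2_c39 LD3_c10) (LK LD1_c2 LD2_c16 LD3_c35) Lrfl Lrfl
theorem f501107 : Led Lsl_bt (LP (LK LD1_c1 LD2_c24 LD3_c31)) = (LP (LK LD1_c2 LD2_c57 LD3_c32)) :=
  Lre_b IH (LK LD1_c1 LD2_c24 LD3_c31) (LK LD1_c2 LD2_c57 LD3_c32) Lrfl Lrfl
theorem f645706 : Led Lsl_ff (LP (LK LD1_c4 LD2_c39 LD3_c10)) = (LP (LK LD1_c2 LD2_c57 LD3_c32)) :=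
  Lgr Lrot25 (Lpr_bt (f507645 IH) (Lpq (K50.f645306 IH) (Lpe (K50.f501123 IH) (Lpr_bt (f501107 IH) (Lpn (LP (LK LD1_c2 LD2_c57 LD3_c32)))))))
theorem f645750 : Led Lsl_ft (LP (LK LD1_c4 LD2_c39 LD3_c10)) = (LP (LK LD1_c2 LD2_c57 LD3_c32)) :=
  Lgr Lrot48 (Lpr_ff (f645706 IH) (Lpn (LP (LK LD1_c2 LD2_c57 LD3_c32))))
theorem f632055 : Led Lsl_at (LP (LK LD1_c9 LD2_c14 LD3_c1)) = (LP (LK LD1_c4 LD2_c39 LD3_c10)) :=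
  Lre_a IH (LK LD1_c9 LD2_c14 LD3_c1) (LK LD1_c4 LD2_c39 LD3_c10) Lrfl Lrfl
theorem f501118 : Led Lsl_at (LP (LK LD1_c2 LD2_c57 LD3_c32)) = (LP (LK LD1_c6 LD2_c2 LD3_c51)) :=
  Lre_a IH (LK LD1_c2 LD2_c57 LD3_c32) (LK LD1_c6 LD2_c2 LD3_c51) Lrfl Lrfl
theorem f645758 : Led Lsl_ff (LP (LK LD1_c9 LD2_c14 LD3_c1)) = (LP (LK LD1_c6 LD2_c2 LD3_c51)) :=
  Lgr Lrot30 (Lpr_at (f632055 IH) (Lpr_ft (f645750 IH) (Lpr_at (f501118 IH) (Lpn (LP (LK LD1_c6 LD2_c2 LD3_c51))))))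
theorem f645755 : Led Lsl_dt (LP (LK LD1_c9 LD2_c14 LD3_c1)) = (LP (LK LD1_c4 LD2_c39 LD3_c9)) :=
  Lre_d IH (LK LD1_c9 LD2_c14 LD3_c1) (LK LD1_c4 LD2_c39 LD3_c9) Lrfl Lrfl
theorem f645464 : Led Lsl_dt (LP (LK LD1_c2 LD2_c57 LD3_c31)) = (LP (LK LD1_c6 LD2_c2 LD3_c51)) :=
  Lre_d IH (LK LD1_c2 LD2_c57 LD3_c31) (LK LD1_c6 LD2_c2 LD3_c51) Lrfl Lrfl
theorem f645775 : Led Lsl_ft (LP (LK LD1_c4 LD2_c39 LD3_c9)) = (LP (LK LD1_c2 LD2_c57 LD3_c31)) :=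
  Lgr Lrot54 (Lpe (f645755 IH) (Lpr_ff (f645758 IH) (Lpe (f645464 IH) (Lpn (LP (LK LD1_c2 LD2_c57 LD3_c31))))))
theorem f645781 : Led Lsl_ff (LP (LK LD1_c4 LD2_c39 LD3_c9)) = (LP (LK LD1_c2 LD2_c57 LD3_c31)) :=
  Lgr Lrot3 (Lpr_ft (f645775 IH) (Lpn (LP (LK LD1_c2 LD2_c57 LD3_c31))))
theorem f494514 : Led Lsl_at (LP (LK LD1_c4 LD2_c39 LD3_c9)) = (LP (LK LD1_c2 LD2_c16 LD3_c34)) :=
  Lre_a IH (LK LD1_c4 LD2_c39 LD3_c9) (LK LD1_c2 LD2_c16 LD3_c34) Lrfl Lrfl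
theorem f454836 : Led Lsl_gt (LP (LK LD1_c4 LD2_c39 LD3_c8)) = (LP (LK LD1_c2 LD2_c16 LD3_c34)) :=
  Lre_g IH (LK LD1_c4 LD2_c39 LD3_c8) (LK LD1_c2 LD2_c16 LD3_c34) Lrfl Lrfl
theorem f645786 : Led Lsl_gf (LP (LK LD1_c4 LD2_c39 LD3_c8)) = (LP (LK LD1_c2 LD2_c57 LD3_c31)) :=
  Lgr Lrot47 (Lpr_gt (f454836 IH) (Lpe (f494514 IH) (Lpr_ff (f645781 IH) (Lpn (LP (LK LD1_c2 LD2_c57 LD3_c31))))))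
theorem f720631 : (LP (LK LD1_c2 LD2_c57 LD3_c31)) = v12972 :=
  Lefun (Lecon (f645804 IH) (f720630 IH)) (f699950 IH)
theorem f720637 : v4943 = (LP (LK LD1_c4 LD2_c39 LD3_c8)) :=
  Lefun (Lecon (f699958 IH) (f720631 IH).symm) (Lfl_gf (f645786 IH))
theorem f720640 : (LP (LK LD1_c9 LD2_c12 LD3_c12)) = v13083 :=
  Lefun (Lecon (f715115 IH) (f720637 IH)) (f700993 IH)
theorem f700994 : Led Lsl_bf (LP (LK LD1_c4 LD2_c39 LD3_c8)) = v13083 :=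
  Lgr Lrot24 (Lpr_bt (f700993 IH) (Lpn v13083))
theorem f40480 : Led Lsl_ct (LP (LK LD1_c3 LD2_c59 LD3_c50)) = (LP (LK LD1_c8 LD2_c0 LD3_c45)) :=
  Lre_c IH (LK LD1_c3 LD2_c59 LD3_c50) (LK LD1_c8 LD2_c0 LD3_c45) Lrfl Lrfl
theorem f40481 : Led Lsl_gt (LP (LK LD1_c8 LD2_c0 LD3_c45)) = (LP (LK LD1_c15 LD2_c5 LD3_c23)) :=
  Lre_g IH (LK LD1_c8 LD2_c0 LD3_c45) (LK LD1_c15 LD2_c5 LD3_c23) Lrfl Lrfl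
theorem f700995 : Led Lsl_cf (LP (LK LD1_c15 LD2_c5 LD3_c23)) = v13083 :=
  Lgr Lrot163 (Lpe (f40481 IH) (Lpe (f40480 IH) (Lpe (K24.f40479 IH) (Lpe (K24.f40284 IH) (Lpr_ct (K2.f40436 IH) (Lpr_gf (K24.f454827 IH) (Lpe (K24.f454829 IH) (Lpr_bt (f454835 IH) (Lpe (f454836 IH) (Lpr_bf (f700994 IH) (Lpn v13083)))))))))))
theorem f720641 : Led Lsl_ct (LP (LK LD1_c9 LD2_c12 LD3_c12)) = (LP (LK LD1_c15 LD2_c5 LD3_c23)) :=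
  Leop (Lpr_cf (f700995 IH) (Lpq (f720640 IH) (Lpn (LP (LK LD1_c9 LD2_c12 LD3_c12)))))
theorem seed_820 : LEOK LG_c (LK LD1_c9 LD2_c12 LD3_c12) :=
  Leoe_c (LK LD1_c9 LD2_c12 LD3_c12) (f720641 IH)
theorem f77392 : Led Lsl_bt (LP (LK LD1_c3 LD2_c59 LD3_c53)) = (LP (LK LD1_c1 LD2_c56 LD3_c35)) :=
  Lre_b IH (LK LD1_c3 LD2_c59 LD3_c53) (LK LD1_c1 LD2_c56 LD3_c35) Lrfl Lrfl
theorem f77396 : Led Lsl_ct (LP (LK LD1_c3 LD2_c59 LD3_c53)) = (LP (LK LD1_c8 LD2_c0 LD3_c53)) :=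
  Lre_c IH (LK LD1_c3 LD2_c59 LD3_c53) (LK LD1_c8 LD2_c0 LD3_c53) Lrfl Lrfl
theorem f720671 : Led Lsl_gf (LP (LK LD1_c8 LD2_c0 LD3_c53)) = (LP (LK LD1_c5 LD2_c48 LD3_c20)) :=
  Lgr Lrot126 (Lpe (f77396 IH) (Lpr_bt (f77392 IH) (Lpr_gt (K24.f77388 IH) (Lpe (K9.f77374 IH) (Lpr_gt (K24.f454828 IH) (Lpe (K24.f454829 IH) (Lpr_bt (f454835 IH) (Lpr_gt (f632061 IH) (Lpqs (f720630 IH) (Lpr_bf (f149139 IH) (Lpe (f136318 IH) (Lpn (LP (LK LD1_c5 LD2_c48 LD3_c20))))))))))))))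
theorem f720672 : Led Lsl_gt (LP (LK LD1_c5 LD2_c48 LD3_c20)) = (LP (LK LD1_c8 LD2_c0 LD3_c53)) :=
  Leop (Lpr_gf (f720671 IH) (Lpn (LP (LK LD1_c5 LD2_c48 LD3_c20))))
theorem seed_821 : LEOK LG_g (LK LD1_c5 LD2_c48 LD3_c20) :=
  Leoe_g (LK LD1_c5 LD2_c48 LD3_c20) (f720672 IH)
theorem f633854 : Led Lsl_ct (LP (LK LD1_c15 LD2_c5 LD3_c33)) = (LP (LK LD1_c8 LD2_c0 LD3_c52)) :=
  Lre_c IH (LK LD1_c15 LD2_c5 LD3_c33) (LK LD1_c8 LD2_c0 LD3_c52) Lrfl Lrfl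
theorem f720628 : Led Lsl_ff (LP (LK LD1_c15 LD2_c5 LD3_c33)) = v14170 :=
  Lgr Lrot23 (Lpr_ct (f633854 IH) (Lpr_ft (f633850 IH) (Lpr_ct (f720625 IH) (Lpn v14170))))
theorem f636121 : Led Lsl_at (LP (LK LD1_c15 LD2_c5 LD3_c33)) = (LP (LK LD1_c8 LD2_c0 LD3_c53)) :=
  Lre_a IH (LK LD1_c15 LD2_c5 LD3_c33) (LK LD1_c8 LD2_c0 LD3_c53) Lrfl Lrfl
theorem f636120 : Led Lsl_ft (LP (LK LD1_c8 LD2_c0 LD3_c53)) = K52.v4557 :=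
  Lgr Lrot48 (Lpr_ff (K52.f636117 IH) (Lpn K52.v4557))
theorem f720700 : Led Lsl_at K52.v4557 = v14170 :=
  Lgr Lrot66 (Lpe (f636120 IH) (Lpe (f636121 IH) (Lpr_ff (f720628 IH) (Lpn v14170))))
theorem f415606 : Led Lsl_gt (LP (LK LD1_c8 LD2_c0 LD3_c53)) = (LP (LK LD1_c15 LD2_c5 LD3_c35)) :=
  Lre_g IH (LK LD1_c8 LD2_c0 LD3_c53) (LK LD1_c15 LD2_c5 LD3_c35) Lrfl Lrfl
theorem f720702 : Led Lsl_gt (LP (LK LD1_c15 LD2_c5 LD3_c35)) = v14170 :=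
  Lgr Lrot46 (Lpe (f415606 IH) (Lpr_ft (f636120 IH) (Lpr_at (f720700 IH) (Lpn v14170))))
theorem f720703 : Led Lsl_ft (LP (LK LD1_c15 LD2_c5 LD3_c35)) = (LP (LK LD1_c9 LD2_c5 LD3_c55)) :=
  Lgr Lrot2 (Lpr_gt (f720702 IH) (Lpe (f720629 IH) (Lpe (f130212 IH) (Lpn (LP (LK LD1_c9 LD2_c5 LD3_c55))))))
theorem f720704 : Led Lsl_ft (LP (LK LD1_c15 LD2_c5 LD3_c35)) = (LP (LK LD1_c9 LD2_c5 LD3_c55)) :=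
  Leop (Lpe (f720703 IH) (Lpn (LP (LK LD1_c15 LD2_c5 LD3_c35))))
theorem seed_822 : LEOK LG_f (LK LD1_c15 LD2_c5 LD3_c35) :=
  Leoe_f (LK LD1_c15 LD2_c5 LD3_c35) (f720704 IH)
def v14171 : LQ := Led Lsl_et (LP (LK LD1_c5 LD2_c0 LD3_c18))
theorem f720771 : Led Lsl_et (LP (LK LD1_c5 LD2_c0 LD3_c18)) = v14171 :=
  Lrfl
theorem f720774 : Led Lsl_ef (LP (LK LD1_c5 LD2_c0 LD3_c18)) = v14171 :=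
  Lgr Lrot88 (Lpr_et (f720771 IH) (Lpn v14171))
theorem f633849 : Led Lsl_dt (LP (LK LD1_c5 LD2_c0 LD3_c18)) = (LP (LK LD1_c9 LD2_c50 LD3_c61)) :=
  Lre_d IH (LK LD1_c5 LD2_c0 LD3_c18) (LK LD1_c9 LD2_c50 LD3_c61) Lrfl Lrfl
theorem f560080 : Led Lsl_at (LP (LK LD1_c11 LD2_c38 LD3_c40)) = (LP (LK LD1_c10 LD2_c17 LD3_c15)) :=
  Lgr Lrot100 (Lpr_af (K50.f560076 IH) (Lpn (LP (LK LD1_c10 LD2_c17 LD3_c15))))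
theorem f710727 : Led Lsl_gf (LP (LK LD1_c9 LD2_c15 LD3_c17)) = (LP (LK LD1_c5 LD2_c56 LD3_c39)) :=
  Lgr Lrot47 (Lpr_gt (K52.f710725 IH) (Lpe (f560080 IH) (Lpe (K42.f161057 IH) (Lpn (LP (LK LD1_c5 LD2_c56 LD3_c39))))))
theorem f193917 : Led Lsl_et (LP (LK LD1_c17 LD2_c9 LD3_c50)) = (LP (LK LD1_c9 LD2_c15 LD3_c17)) :=
  Lre_e IH (LK LD1_c17 LD2_c9 LD3_c50) (LK LD1_c9 LD2_c15 LD3_c17) Lrfl Lrfl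
theorem f193906 : Led Lsl_df (LP (LK LD1_c9 LD2_c15 LD3_c18)) = (LP (LK LD1_c5 LD2_c6 LD3_c61)) :=
  Lgr Lrot38 (Lpr_dt (K46.f193900 IH) (Lpn (LP (LK LD1_c5 LD2_c6 LD3_c61))))
theorem f193911 : Led Lsl_bt (LP (LK LD1_c9 LD2_c15 LD3_c18)) = (LP (LK LD1_c17 LD2_c9 LD3_c50)) :=
  Lre_b IH (LK LD1_c9 LD2_c15 LD3_c18) (LK LD1_c17 LD2_c9 LD3_c50) Lrfl Lrfl
theorem f166282 : Led Lsl_bt (LP (LK LD1_c10 LD2_c4 LD3_c39)) = (LP (LK LD1_c5 LD2_c6 LD3_c61)) :=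
  Lre_b IH (LK LD1_c10 LD2_c4 LD3_c39) (LK LD1_c5 LD2_c6 LD3_c61) Lrfl Lrfl
theorem f193912 : Led Lsl_dt (LP (LK LD1_c17 LD2_c9 LD3_c50)) = (LP (LK LD1_c10 LD2_c4 LD3_c39)) :=
  Lgr Lrot79 (Lpe (f193911 IH) (Lpr_df (f193906 IH) (Lpe (f166282 IH) (Lpn (LP (LK LD1_c10 LD2_c4 LD3_c39))))))
theorem f405192 : Led Lsl_et (LP (LK LD1_c5 LD2_c13 LD3_c47)) = (LP (LK LD1_c2 LD2_c33 LD3_c47)) :=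
  Lre_e IH (LK LD1_c5 LD2_c13 LD3_c47) (LK LD1_c2 LD2_c33 LD3_c47) Lrfl Lrfl
theorem f542410 : Led Lsl_dt (LP (LK LD1_c5 LD2_c13 LD3_c47)) = (LP (LK LD1_c10 LD2_c17 LD3_c46)) :=
  Lre_d IH (LK LD1_c5 LD2_c13 LD3_c47) (LK LD1_c10 LD2_c17 LD3_c46) Lrfl Lrfl
theorem f710748 : Led Lsl_gt (LP (LK LD1_c10 LD2_c4 LD3_c39)) = (LP (LK LD1_c10 LD2_c17 LD3_c46)) :=
  Lgr Lrot112 (Lpe (f193912 IH) (Lpr_et (f193917 IH) (Lpr_gf (f710727 IH) (Lpr_ef (K42.f161047 IH) (Lpr_dt (K38.f59229 IH) (Lpqs (K37.f537888 IH) (Lpe (K37.f495424 IH) (Lpe (K38.f495426 IH) (Lpr_gf (K42.f572620 IH) (Lpe (f405192 IH) (Lpr_dt (f542410 IH) (Lpn (LP (LK LD1_c10 LD2_c17 LD3_c46))))))))))))))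
theorem f405232 : Led Lsl_bt (LP (LK LD1_c10 LD2_c17 LD3_c49)) = (LP (LK LD1_c5 LD2_c13 LD3_c49)) :=
  Lre_b IH (LK LD1_c10 LD2_c17 LD3_c49) (LK LD1_c5 LD2_c13 LD3_c49) Lrfl Lrfl
theorem f193903 : Led Lsl_bt (LP (LK LD1_c5 LD2_c6 LD3_c61)) = (LP (LK LD1_c10 LD2_c4 LD3_c39)) :=
  Lre_b IH (LK LD1_c5 LD2_c6 LD3_c61) (LK LD1_c10 LD2_c4 LD3_c39) Lrfl Lrfl
theorem f645409 : Led Lsl_ff (LP (LK LD1_c10 LD2_c17 LD3_c49)) = (LP (LK LD1_c10 LD2_c4 LD3_c39)) :=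
  Lgr Lrot25 (Lpr_bt (f405232 IH) (Lpr_ft (K46.f645407 IH) (Lpr_bt (f193903 IH) (Lpn (LP (LK LD1_c10 LD2_c4 LD3_c39))))))
theorem f699230 : Led Lsl_cf (LP (LK LD1_c18 LD2_c23 LD3_c30)) = (LP (LK LD1_c23 LD2_c3 LD3_c46)) :=
  Lgr Lrot118 (Lpr_dt (K50.f387269 IH) (Lpr_ct (K50.f165675 IH) (Lpr_dt (K50.f699227 IH) (Lpe (K50.f699222 IH) (Lpr_dt (K50.f570650 IH) (Lpr_ct (K50.f426685 IH) (Lpr_af (K28.f426678 IH) (Lpr_ff (K43.f575159 IH) (Lpr_dt (K43.f470730 IH) (Lpn (LP (LK LD1_c23 LD2_c3 LD3_c46))))))))))))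
theorem f699234 : Led Lsl_ct (LP (LK LD1_c18 LD2_c23 LD3_c30)) = (LP (LK LD1_c23 LD2_c3 LD3_c46)) :=
  Lgr Lrot59 (Lpr_cf (f699230 IH) (Lpn (LP (LK LD1_c23 LD2_c3 LD3_c46))))
theorem f94475 : Led Lsl_dt (LP (LK LD1_c13 LD2_c46 LD3_c26)) = (LP (LK LD1_c7 LD2_c16 LD3_c46)) :=
  Lre_d IH (LK LD1_c13 LD2_c46 LD3_c26) (LK LD1_c7 LD2_c16 LD3_c46) Lrfl Lrfl
theorem f575169 : Led Lsl_ff (LP (LK LD1_c13 LD2_c46 LD3_c26)) = (LP (LK LD1_c23 LD2_c3 LD3_c46)) :=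
  Lgr Lrot19 (Lpr_dt (f94475 IH) (Lpr_ft (K43.f575165 IH) (Lpr_dt (K43.f470730 IH) (Lpn (LP (LK LD1_c23 LD2_c3 LD3_c46))))))
theorem f699238 : Led Lsl_ff (LP (LK LD1_c18 LD2_c23 LD3_c30)) = (LP (LK LD1_c11 LD2_c58 LD3_c40)) :=
  Lgr Lrot23 (Lpr_ct (f699234 IH) (Lpe (f575169 IH) (Lpr_ct (K50.f604825 IH) (Lpn (LP (LK LD1_c11 LD2_c58 LD3_c40))))))
theorem f75825 : Led Lsl_et (LP (LK LD1_c11 LD2_c58 LD3_c40)) = (LP (LK LD1_c6 LD2_c8 LD3_c34)) :=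
  Lre_e IH (LK LD1_c11 LD2_c58 LD3_c40) (LK LD1_c6 LD2_c8 LD3_c34) Lrfl Lrfl
theorem f539635 : Led Lsl_dt (LP (LK LD1_c11 LD2_c40 LD3_c24)) = (LP (LK LD1_c11 LD2_c58 LD3_c40)) :=
  Lgr Lrot77 (Lpe (K36.f426218 IH) (Lpe (K36.f426217 IH) (Lpr_ef (K36.f539629 IH) (Lpr_df (K36.f428102 IH) (Lpe (f75825 IH) (Lpn (LP (LK LD1_c11 LD2_c58 LD3_c40))))))))
theorem f699242 : Led Lsl_ft (LP (LK LD1_c10 LD2_c4 LD3_c49)) = (LP (LK LD1_c11 LD2_c40 LD3_c24)) :=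
  Lgr Lrot54 (Lpe (K50.f387269 IH) (Lpr_ff (f699238 IH) (Lpe (f539635 IH) (Lpn (LP (LK LD1_c11 LD2_c40 LD3_c24))))))
theorem f699250 : Led Lsl_ff (LP (LK LD1_c10 LD2_c4 LD3_c49)) = (LP (LK LD1_c11 LD2_c40 LD3_c24)) :=
  Lgr Lrot3 (Lpr_ft (f699242 IH) (Lpn (LP (LK LD1_c11 LD2_c40 LD3_c24))))
theorem f165746 : Led Lsl_et (LP (LK LD1_c10 LD2_c4 LD3_c49)) = (LP (LK LD1_c5 LD2_c7 LD3_c5)) :=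
  Lre_e IH (LK LD1_c10 LD2_c4 LD3_c49) (LK LD1_c5 LD2_c7 LD3_c5) Lrfl Lrfl
theorem f165692 : Led Lsl_ct (LP (LK LD1_c5 LD2_c7 LD3_c5)) = (LP (LK LD1_c2 LD2_c30 LD3_c52)) :=
  Lre_c IH (LK LD1_c5 LD2_c7 LD3_c5) (LK LD1_c2 LD2_c30 LD3_c52) Lrfl Lrfl
theorem f186662 : Led Lsl_ct (LP (LK LD1_c2 LD2_c33 LD3_c60)) = (LP (LK LD1_c5 LD2_c14 LD3_c16)) :=
  Lre_c IH (LK LD1_c2 LD2_c33 LD3_c60) (LK LD1_c5 LD2_c14 LD3_c16) Lrfl Lrfl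
theorem f387290 : Led Lsl_ff (LP (LK LD1_c5 LD2_c7 LD3_c5)) = (LP (LK LD1_c5 LD2_c14 LD3_c16)) :=
  Lgr Lrot23 (Lpr_ct (f165692 IH) (Lpr_ft (K39.f387285 IH) (Lpr_ct (f186662 IH) (Lpn (LP (LK LD1_c5 LD2_c14 LD3_c16))))))
theorem f387296 : Led Lsl_ft (LP (LK LD1_c5 LD2_c7 LD3_c5)) = (LP (LK LD1_c5 LD2_c14 LD3_c16)) :=
  Lgr Lrot48 (Lpr_ff (f387290 IH) (Lpn (LP (LK LD1_c5 LD2_c14 LD3_c16))))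
theorem f699258 : Led Lsl_et (LP (LK LD1_c5 LD2_c14 LD3_c16)) = (LP (LK LD1_c5 LD2_c58 LD3_c2)) :=
  Lgr Lrot69 (Lpe (f387296 IH) (Lpe (f165746 IH) (Lpr_ff (f699250 IH) (Lpe (K36.f426218 IH) (Lpr_ff (K40.f539701 IH) (Lpn (LP (LK LD1_c5 LD2_c58 LD3_c2))))))))
theorem f417511 : Led Lsl_et (LP (LK LD1_c5 LD2_c14 LD3_c17)) = (LP (LK LD1_c2 LD2_c33 LD3_c60)) :=
  Lre_e IH (LK LD1_c5 LD2_c14 LD3_c17) (LK LD1_c2 LD2_c33 LD3_c60) Lrfl Lrfl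
theorem f699264 : Led Lsl_cf (LP (LK LD1_c5 LD2_c14 LD3_c17)) = (LP (LK LD1_c5 LD2_c58 LD3_c2)) :=
  Lgr Lrot39 (Lpr_et (f417511 IH) (Lpr_ct (f186662 IH) (Lpr_et (f699258 IH) (Lpn (LP (LK LD1_c5 LD2_c58 LD3_c2))))))
theorem f699268 : Led Lsl_ct (LP (LK LD1_c5 LD2_c14 LD3_c17)) = (LP (LK LD1_c5 LD2_c58 LD3_c2)) :=
  Lgr Lrot59 (Lpr_cf (f699264 IH) (Lpn (LP (LK LD1_c5 LD2_c58 LD3_c2))))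
theorem f406570 : Led Lsl_bt (LP (LK LD1_c2 LD2_c34 LD3_c0)) = (LP (LK LD1_c5 LD2_c14 LD3_c17)) :=
  Lre_b IH (LK LD1_c2 LD2_c34 LD3_c0) (LK LD1_c5 LD2_c14 LD3_c17) Lrfl Lrfl
theorem f301827 : Led Lsl_af (LP (LK LD1_c2 LD2_c34 LD3_c0)) = (LP (LK LD1_c2 LD2_c31 LD3_c0)) :=
  Lgr Lrot0 (Lpr_at (K18.f301820 IH) (Lpn (LP (LK LD1_c2 LD2_c31 LD3_c0))))
theorem f165823 : Led Lsl_et (LP (LK LD1_c2 LD2_c29 LD3_c15)) = (LP (LK LD1_c5 LD2_c3 LD3_c31)) :=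
  Lre_e IH (LK LD1_c2 LD2_c29 LD3_c15) (LK LD1_c5 LD2_c3 LD3_c31) Lrfl Lrfl
theorem f249923 : Led Lsl_cf (LP (LK LD1_c2 LD2_c31 LD3_c0)) = (LP (LK LD1_c5 LD2_c3 LD3_c31)) :=
  Lgr Lrot39 (Lpr_et (K18.f194049 IH) (Lpr_ct (K14.f249915 IH) (Lpr_et (f165823 IH) (Lpn (LP (LK LD1_c5 LD2_c3 LD3_c31))))))
theorem f406572 : Led Lsl_ct (LP (LK LD1_c2 LD2_c34 LD3_c0)) = (LP (LK LD1_c5 LD2_c10 LD3_c42)) :=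
  Lgr Lrot111 (Lpr_af (f301827 IH) (Lpr_cf (f249923 IH) (Lpr_af (K14.f248823 IH) (Lpn (LP (LK LD1_c5 LD2_c10 LD3_c42))))))
theorem f406576 : Led Lsl_cf (LP (LK LD1_c2 LD2_c34 LD3_c0)) = (LP (LK LD1_c5 LD2_c10 LD3_c42)) :=
  Lgr Lrot11 (Lpr_ct (f406572 IH) (Lpn (LP (LK LD1_c5 LD2_c10 LD3_c42))))
theorem f562728 : Led Lsl_bt (LP (LK LD1_c5 LD2_c58 LD3_c2)) = (LP (LK LD1_c4 LD2_c35 LD3_c36)) :=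
  Lgr Lrot127 (Lpr_bf (K40.f562717 IH) (Lpn (LP (LK LD1_c4 LD2_c35 LD3_c36))))
theorem f442797 : Led Lsl_ct (LP (LK LD1_c4 LD2_c35 LD3_c36)) = (LP (LK LD1_c9 LD2_c7 LD3_c40)) :=
  Lre_c IH (LK LD1_c4 LD2_c35 LD3_c36) (LK LD1_c9 LD2_c7 LD3_c40) Lrfl Lrfl
theorem f699272 : Led Lsl_bf (LP (LK LD1_c5 LD2_c10 LD3_c42)) = (LP (LK LD1_c9 LD2_c7 LD3_c40)) :=
  Lgr Lrot90 (Lpe (f406576 IH) (Lpr_bt (f406570 IH) (Lpr_ct (f699268 IH) (Lpr_bt (f562728 IH) (Lpr_ct (f442797 IH) (Lpn (LP (LK LD1_c9 LD2_c7 LD3_c40))))))))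
theorem f248853 : Led Lsl_et (LP (LK LD1_c5 LD2_c10 LD3_c42)) = (LP (LK LD1_c2 LD2_c32 LD3_c22)) :=
  Lre_e IH (LK LD1_c5 LD2_c10 LD3_c42) (LK LD1_c2 LD2_c32 LD3_c22) Lrfl Lrfl
theorem f699274 : Led Lsl_et (LP (LK LD1_c5 LD2_c10 LD3_c40)) = (LP (LK LD1_c9 LD2_c7 LD3_c40)) :=
  Lgr Lrot74 (Lpe (K14.f248835 IH) (Lpe (f248853 IH) (Lpr_bf (f699272 IH) (Lpn (LP (LK LD1_c9 LD2_c7 LD3_c40))))))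
theorem f699281 : Led Lsl_ef (LP (LK LD1_c5 LD2_c10 LD3_c40)) = (LP (LK LD1_c9 LD2_c7 LD3_c40)) :=
  Lgr Lrot88 (Lpr_et (f699274 IH) (Lpn (LP (LK LD1_c9 LD2_c7 LD3_c40))))
theorem f551792 : Led Lsl_et (LP (LK LD1_c9 LD2_c7 LD3_c41)) = (LP (LK LD1_c4 LD2_c35 LD3_c36)) :=
  Lre_e IH (LK LD1_c9 LD2_c7 LD3_c41) (LK LD1_c4 LD2_c35 LD3_c36) Lrfl Lrfl
theorem f699285 : Led Lsl_ct (LP (LK LD1_c5 LD2_c10 LD3_c40)) = (LP (LK LD1_c9 LD2_c7 LD3_c41)) :=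
  Lgr Lrot15 (Lpr_ef (f699281 IH) (Lpe (f442797 IH) (Lpe (f551792 IH) (Lpn (LP (LK LD1_c9 LD2_c7 LD3_c41))))))
theorem f165658 : Led Lsl_ct (LP (LK LD1_c9 LD2_c58 LD3_c46)) = (LP (LK LD1_c5 LD2_c3 LD3_c54)) :=
  Lre_c IH (LK LD1_c9 LD2_c58 LD3_c46) (LK LD1_c5 LD2_c3 LD3_c54) Lrfl Lrfl
theorem f699290 : Led Lsl_ff (LP (LK LD1_c9 LD2_c58 LD3_c46)) = (LP (LK LD1_c9 LD2_c7 LD3_c41)) :=
  Lgr Lrot23 (Lpr_ct (f165658 IH) (Lpr_ft (K14.f249879 IH) (Lpr_ct (f699285 IH) (Lpn (LP (LK LD1_c9 LD2_c7 LD3_c41))))))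
theorem f699324 : Led Lsl_ft (LP (LK LD1_c9 LD2_c58 LD3_c46)) = (LP (LK LD1_c9 LD2_c7 LD3_c41)) :=
  Lgr Lrot48 (Lpr_ff (f699290 IH) (Lpn (LP (LK LD1_c9 LD2_c7 LD3_c41))))
theorem f165735 : Led Lsl_at (LP (LK LD1_c18 LD2_c15 LD3_c11)) = (LP (LK LD1_c9 LD2_c58 LD3_c46)) :=
  Lre_a IH (LK LD1_c18 LD2_c15 LD3_c11) (LK LD1_c9 LD2_c58 LD3_c46) Lrfl Lrfl
theorem f542409 : Led Lsl_et (LP (LK LD1_c10 LD2_c17 LD3_c46)) = (LP (LK LD1_c5 LD2_c13 LD3_c48)) :=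
  Lre_e IH (LK LD1_c10 LD2_c17 LD3_c46) (LK LD1_c5 LD2_c13 LD3_c48) Lrfl Lrfl
theorem f551781 : Led Lsl_et (LP (LK LD1_c4 LD2_c35 LD3_c36)) = (LP (LK LD1_c9 LD2_c7 LD3_c41)) :=
  Lre_e IH (LK LD1_c4 LD2_c35 LD3_c36) (LK LD1_c9 LD2_c7 LD3_c41) Lrfl Lrfl
theorem f562721 : Led Lsl_af (LP (LK LD1_c10 LD2_c17 LD3_c46)) = (LP (LK LD1_c9 LD2_c7 LD3_c41)) :=
  Lgr Lrot50 (Lpr_et (f542409 IH) (Lpr_at (K40.f562711 IH) (Lpr_et (f551781 IH) (Lpn (LP (LK LD1_c9 LD2_c7 LD3_c41))))))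
theorem f699326 : Led Lsl_ff (LP (LK LD1_c18 LD2_c15 LD3_c11)) = (LP (LK LD1_c10 LD2_c17 LD3_c46)) :=
  Lgr Lrot30 (Lpr_at (f165735 IH) (Lpr_ft (f699324 IH) (Lpe (f562721 IH) (Lpn (LP (LK LD1_c10 LD2_c17 LD3_c46))))))
theorem f165747 : Led Lsl_gt (LP (LK LD1_c18 LD2_c15 LD3_c14)) = (LP (LK LD1_c9 LD2_c58 LD3_c46)) :=
  Lre_g IH (LK LD1_c18 LD2_c15 LD3_c14) (LK LD1_c9 LD2_c58 LD3_c46) Lrfl Lrfl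
theorem f699336 : Led Lsl_gf (LP (LK LD1_c18 LD2_c15 LD3_c14)) = (LP (LK LD1_c10 LD2_c17 LD3_c46)) :=
  Lgr Lrot47 (Lpr_gt (f165747 IH) (Lpe (f165735 IH) (Lpr_ff (f699326 IH) (Lpn (LP (LK LD1_c10 LD2_c17 LD3_c46))))))
theorem f710752 : Led Lsl_at (LP (LK LD1_c10 LD2_c17 LD3_c49)) = (LP (LK LD1_c18 LD2_c15 LD3_c14)) :=
  Lgr Lrot26 (Lpr_ff (f645409 IH) (Lpr_gt (f710748 IH) (Lpe (f699336 IH) (Lpn (LP (LK LD1_c18 LD2_c15 LD3_c14))))))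
theorem f186532 : Led Lsl_et (LP (LK LD1_c18 LD2_c42 LD3_c57)) = (LP (LK LD1_c10 LD2_c17 LD3_c49)) :=
  Lre_e IH (LK LD1_c18 LD2_c42 LD3_c57) (LK LD1_c10 LD2_c17 LD3_c49) Lrfl Lrfl
theorem f542411 : Led Lsl_et (LP (LK LD1_c5 LD2_c13 LD3_c48)) = (LP (LK LD1_c10 LD2_c17 LD3_c46)) :=
  Lre_e IH (LK LD1_c5 LD2_c13 LD3_c48) (LK LD1_c10 LD2_c17 LD3_c46) Lrfl Lrfl
theorem f602438 : Led Lsl_gt (LP (LK LD1_c16 LD2_c52 LD3_c10)) = (LP (LK LD1_c9 LD2_c2 LD3_c4)) :=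
  Lre_g IH (LK LD1_c16 LD2_c52 LD3_c10) (LK LD1_c9 LD2_c2 LD3_c4) Lrfl Lrfl
theorem f602472 : Led Lsl_dt (LP (LK LD1_c26 LD2_c49 LD3_c15)) = (LP (LK LD1_c16 LD2_c52 LD3_c10)) :=
  Lre_d IH (LK LD1_c26 LD2_c49 LD3_c15) (LK LD1_c16 LD2_c52 LD3_c10) Lrfl Lrfl
theorem f699366 : Led Lsl_ef (LP (LK LD1_c18 LD2_c15 LD3_c14)) = (LP (LK LD1_c26 LD2_c49 LD3_c15)) :=
  Lgr Lrot17 (Lpr_gf (f699336 IH) (Lpe (f542411 IH) (Lpr_dt (K40.f417958 IH) (Lpr_gf (K37.f542369 IH) (Lpe (K38.f34936 IH) (Lpe (K38.f34937 IH) (Lpe (K45.f549660 IH) (Lpr_dt (K45.f586849 IH) (Lpe (f602438 IH) (Lpe (f602472 IH) (Lpn (LP (LK LD1_c26 LD2_c49 LD3_c15)))))))))))))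
theorem f699368 : Led Lsl_et (LP (LK LD1_c18 LD2_c15 LD3_c14)) = (LP (LK LD1_c26 LD2_c49 LD3_c15)) :=
  Lgr Lrot87 (Lpr_ef (f699366 IH) (Lpn (LP (LK LD1_c26 LD2_c49 LD3_c15))))
theorem f710763 : Led Lsl_af (LP (LK LD1_c18 LD2_c42 LD3_c57)) = (LP (LK LD1_c26 LD2_c49 LD3_c15)) :=
  Lgr Lrot50 (Lpr_et (f186532 IH) (Lpr_at (f710752 IH) (Lpr_et (f699368 IH) (Lpn (LP (LK LD1_c26 LD2_c49 LD3_c15))))))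
theorem f186515 : Led Lsl_et (LP (LK LD1_c10 LD2_c17 LD3_c50)) = (LP (LK LD1_c5 LD2_c13 LD3_c49)) :=
  Lre_e IH (LK LD1_c10 LD2_c17 LD3_c50) (LK LD1_c5 LD2_c13 LD3_c49) Lrfl Lrfl
theorem f185117 : Led Lsl_et (LP (LK LD1_c2 LD2_c33 LD3_c8)) = (LP (LK LD1_c1 LD2_c13 LD3_c31)) :=
  Lre_e IH (LK LD1_c2 LD2_c33 LD3_c8) (LK LD1_c1 LD2_c13 LD3_c31) Lrfl Lrfl
theorem f174250 : Led Lsl_gt (LP (LK LD1_c5 LD2_c42 LD3_c10)) = (LP (LK LD1_c2 LD2_c47 LD3_c3)) :=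
  Lre_g IH (LK LD1_c5 LD2_c42 LD3_c10) (LK LD1_c2 LD2_c47 LD3_c3) Lrfl Lrfl
theorem f186516 : Led Lsl_dt (LP (LK LD1_c10 LD2_c17 LD3_c50)) = (LP (LK LD1_c5 LD2_c42 LD3_c10)) :=
  Lgr Lrot136 (Lpr_et (f186515 IH) (Lpe (K46.f185113 IH) (Lpe (K19.f185102 IH) (Lpr_dt (K11.f164695 IH) (Lpr_gf (K10.f185082 IH) (Lpe (K10.f71296 IH) (Lpr_gf (K10.f186502 IH) (Lpe (f185117 IH) (Lpr_dt (K50.f185126 IH) (Lpe (f174250 IH) (Lpn (LP (LK LD1_c5 LD2_c42 LD3_c10)))))))))))))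
theorem f186522 : Led Lsl_df (LP (LK LD1_c10 LD2_c17 LD3_c50)) = (LP (LK LD1_c5 LD2_c42 LD3_c10)) :=
  Lgr Lrot38 (Lpr_dt (f186516 IH) (Lpn (LP (LK LD1_c5 LD2_c42 LD3_c10))))
theorem f186525 : Led Lsl_bt (LP (LK LD1_c10 LD2_c17 LD3_c50)) = (LP (LK LD1_c18 LD2_c42 LD3_c57)) :=
  Lre_b IH (LK LD1_c10 LD2_c17 LD3_c50) (LK LD1_c18 LD2_c42 LD3_c57) Lrfl Lrfl
theorem f174251 : Led Lsl_bt (LP (LK LD1_c11 LD2_c14 LD3_c36)) = (LP (LK LD1_c5 LD2_c42 LD3_c10)) :=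
  Lre_b IH (LK LD1_c11 LD2_c14 LD3_c36) (LK LD1_c5 LD2_c42 LD3_c10) Lrfl Lrfl
theorem f186526 : Led Lsl_dt (LP (LK LD1_c18 LD2_c42 LD3_c57)) = (LP (LK LD1_c11 LD2_c14 LD3_c36)) :=
  Lgr Lrot79 (Lpe (f186525 IH) (Lpr_df (f186522 IH) (Lpe (f174251 IH) (Lpn (LP (LK LD1_c11 LD2_c14 LD3_c36))))))
theorem f602470 : Led Lsl_dt (LP (LK LD1_c16 LD2_c52 LD3_c10)) = (LP (LK LD1_c26 LD2_c49 LD3_c15)) :=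
  Lre_d IH (LK LD1_c16 LD2_c52 LD3_c10) (LK LD1_c26 LD2_c49 LD3_c15) Lrfl Lrfl
theorem f710767 : Led Lsl_at (LP (LK LD1_c11 LD2_c14 LD3_c36)) = (LP (LK LD1_c16 LD2_c52 LD3_c10)) :=
  Lgr Lrot51 (Lpe (f186526 IH) (Lpr_af (f710763 IH) (Lpe (f602470 IH) (Lpn (LP (LK LD1_c16 LD2_c52 LD3_c10))))))
theorem f180346 : Led Lsl_et (LP (LK LD1_c2 LD2_c57 LD3_c48)) = (LP (LK LD1_c1 LD2_c24 LD3_c35)) :=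
  Lre_e IH (LK LD1_c2 LD2_c57 LD3_c48) (LK LD1_c1 LD2_c24 LD3_c35) Lrfl Lrfl
theorem f501054 : Led Lsl_ff (LP (LK LD1_c1 LD2_c24 LD3_c35)) = K32.v1721 :=
  Lgr Lrot3 (Lpr_ft (K32.f501052 IH) (Lpn K32.v1721))
theorem f501137 : Led Lsl_at (LP (LK LD1_c1 LD2_c24 LD3_c35)) = K32.v1722 :=
  Lgr Lrot66 (Lpr_ff (f501054 IH) (Lpe (K32.f501047 IH) (Lpr_ff (K50.f501123 IH) (Lpn K32.v1722))))
theorem f645810 : Led Lsl_af (LP (LK LD1_c2 LD2_c57 LD3_c48)) = (LP (LK LD1_c4 LD2_c39 LD3_c12)) :=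
  Lgr Lrot50 (Lpr_et (f180346 IH) (Lpr_at (f501137 IH) (Lpqs (K50.f645306 IH) (Lpr_et (K50.f174607 IH) (Lpn (LP (LK LD1_c4 LD2_c39 LD3_c12)))))))
theorem f164771 : Led Lsl_gt (LP (LK LD1_c5 LD2_c37 LD3_c16)) = (LP (LK LD1_c2 LD2_c44 LD3_c34)) :=
  Lre_g IH (LK LD1_c5 LD2_c37 LD3_c16) (LK LD1_c2 LD2_c44 LD3_c34) Lrfl Lrfl
theorem f645815 : Led Lsl_ft (LP (LK LD1_c5 LD2_c37 LD3_c16)) = (LP (LK LD1_c4 LD2_c39 LD3_c12)) :=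
  Lgr Lrot2 (Lpr_gt (f164771 IH) (Lpr_gt (K17.f180290 IH) (Lpr_af (f645810 IH) (Lpn (LP (LK LD1_c4 LD2_c39 LD3_c12))))))
theorem f645820 : Led Lsl_ff (LP (LK LD1_c5 LD2_c37 LD3_c16)) = (LP (LK LD1_c4 LD2_c39 LD3_c12)) :=
  Lgr Lrot3 (Lpr_ft (f645815 IH) (Lpn (LP (LK LD1_c4 LD2_c39 LD3_c12))))
theorem f405213 : Led Lsl_dt (LP (LK LD1_c5 LD2_c7 LD3_c1)) = (LP (LK LD1_c10 LD2_c4 LD3_c43)) :=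
  Lre_d IH (LK LD1_c5 LD2_c7 LD3_c1) (LK LD1_c10 LD2_c4 LD3_c43) Lrfl Lrfl
theorem f186552 : Led Lsl_gt (LP (LK LD1_c10 LD2_c17 LD3_c52)) = (LP (LK LD1_c5 LD2_c13 LD3_c50)) :=
  Lre_g IH (LK LD1_c10 LD2_c17 LD3_c52) (LK LD1_c5 LD2_c13 LD3_c50) Lrfl Lrfl
theorem f405216 : Led Lsl_gf (LP (LK LD1_c10 LD2_c17 LD3_c52)) = (LP (LK LD1_c10 LD2_c4 LD3_c43)) :=
  Lgr Lrot47 (Lpr_gt (f186552 IH) (Lpr_af (K40.f405209 IH) (Lpe (K40.f405208 IH) (Lpn (LP (LK LD1_c10 LD2_c4 LD3_c43))))))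
theorem f22182 : Led Lsl_et (LP (LK LD1_c1 LD2_c12 LD3_c17)) = (LP (LK LD1_c2 LD2_c30 LD3_c35)) :=
  Lre_e IH (LK LD1_c1 LD2_c12 LD3_c17) (LK LD1_c2 LD2_c30 LD3_c35) Lrfl Lrfl
theorem f177773 : Led Lsl_et (LP (LK LD1_c10 LD2_c3 LD3_c60)) = (LP (LK LD1_c5 LD2_c6 LD3_c36)) :=
  Lre_e IH (LK LD1_c10 LD2_c3 LD3_c60) (LK LD1_c5 LD2_c6 LD3_c36) Lrfl Lrfl
theorem f186557 : Led Lsl_dt (LP (LK LD1_c2 LD2_c33 LD3_c49)) = (LP (LK LD1_c5 LD2_c13 LD3_c50)) :=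
  Lre_d IH (LK LD1_c2 LD2_c33 LD3_c49) (LK LD1_c5 LD2_c13 LD3_c50) Lrfl Lrfl
theorem f198583 : Led Lsl_dt (LP (LK LD1_c10 LD2_c3 LD3_c60)) = (LP (LK LD1_c10 LD2_c17 LD3_c52)) :=
  Lgr Lrot136 (Lpr_et (f177773 IH) (Lpe (K50.f22160 IH) (Lpe (f22182 IH) (Lpr_dt (K9.f22143 IH) (Lpe (K9.f177757 IH) (Lpe (K11.f166187 IH) (Lpr_gf (K11.f198577 IH) (Lpe (K46.f186558 IH) (Lpr_dt (f186557 IH) (Lpe (f186552 IH) (Lpn (LP (LK LD1_c10 LD2_c17 LD3_c52)))))))))))))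
theorem f164776 : Led Lsl_df (LP (LK LD1_c5 LD2_c37 LD3_c17)) = (LP (LK LD1_c5 LD2_c6 LD3_c2)) :=
  Lgr Lrot38 (Lpr_dt (K50.f164760 IH) (Lpn (LP (LK LD1_c5 LD2_c6 LD3_c2))))
theorem f405235 : Led Lsl_gf (LP (LK LD1_c5 LD2_c42 LD3_c10)) = (LP (LK LD1_c5 LD2_c37 LD3_c17)) :=
  Lgr Lrot145 (Lpe (f186516 IH) (Lpr_et (f186515 IH) (Lpr_gt (K46.f405230 IH) (Lpr_dt (f405213 IH) (Lpe (f405216 IH) (Lpe (f198583 IH) (Lpr_et (f177773 IH) (Lpe (K50.f302691 IH) (Lpr_ef (K18.f302372 IH) (Lpe (f164776 IH) (Lpn (LP (LK LD1_c5 LD2_c37 LD3_c17)))))))))))))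
theorem f645825 : Led Lsl_at (LP (LK LD1_c5 LD2_c37 LD3_c16)) = (LP (LK LD1_c5 LD2_c42 LD3_c10)) :=
  Lgr Lrot26 (Lpr_ff (f645820 IH) (Lpr_gt (K50.f408198 IH) (Lpe (f405235 IH) (Lpn (LP (LK LD1_c5 LD2_c42 LD3_c10))))))
theorem f645812 : Led Lsl_at (LP (LK LD1_c2 LD2_c57 LD3_c48)) = (LP (LK LD1_c4 LD2_c39 LD3_c12)) :=
  Lgr Lrot100 (Lpr_af (f645810 IH) (Lpn (LP (LK LD1_c4 LD2_c39 LD3_c12))))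
theorem f645829 : Led Lsl_ff (LP (LK LD1_c2 LD2_c57 LD3_c48)) = (LP (LK LD1_c5 LD2_c42 LD3_c10)) :=
  Lgr Lrot30 (Lpr_at (f645812 IH) (Lpe (f645820 IH) (Lpr_at (f645825 IH) (Lpn (LP (LK LD1_c5 LD2_c42 LD3_c10))))))
theorem f645814 : Led Lsl_bt (LP (LK LD1_c2 LD2_c57 LD3_c48)) = (LP (LK LD1_c6 LD2_c3 LD3_c16)) :=
  Lre_b IH (LK LD1_c2 LD2_c57 LD3_c48) (LK LD1_c6 LD2_c3 LD3_c16) Lrfl Lrfl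
theorem f645831 : Led Lsl_ft (LP (LK LD1_c6 LD2_c3 LD3_c16)) = (LP (LK LD1_c11 LD2_c14 LD3_c36)) :=
  Lgr Lrot75 (Lpe (f645814 IH) (Lpr_ff (f645829 IH) (Lpe (f174251 IH) (Lpn (LP (LK LD1_c11 LD2_c14 LD3_c36))))))
theorem f586852 : Led Lsl_at (LP (LK LD1_c5 LD2_c42 LD3_c49)) = (LP (LK LD1_c9 LD2_c2 LD3_c4)) :=
  Lgr Lrot100 (Lpr_af (K45.f586850 IH) (Lpn (LP (LK LD1_c9 LD2_c2 LD3_c4))))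
theorem f602468 : Led Lsl_gt (LP (LK LD1_c11 LD2_c15 LD3_c54)) = (LP (LK LD1_c16 LD2_c52 LD3_c10)) :=
  Lgr Lrot5 (Lpr_ft (K40.f561836 IH) (Lpr_at (f586852 IH) (Lpe (f602438 IH) (Lpn (LP (LK LD1_c16 LD2_c52 LD3_c10))))))
theorem f710771 : Led Lsl_gt (LP (LK LD1_c6 LD2_c3 LD3_c16)) = (LP (LK LD1_c11 LD2_c15 LD3_c54)) :=
  Lgr Lrot5 (Lpr_ft (f645831 IH) (Lpr_at (f710767 IH) (Lpe (f602468 IH) (Lpn (LP (LK LD1_c11 LD2_c15 LD3_c54))))))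
theorem f180293 : Led Lsl_ct (LP (LK LD1_c2 LD2_c57 LD3_c48)) = (LP (LK LD1_c6 LD2_c3 LD3_c22)) :=
  Lre_c IH (LK LD1_c2 LD2_c57 LD3_c48) (LK LD1_c6 LD2_c3 LD3_c22) Lrfl Lrfl
theorem f225692 : Led Lsl_cf (LP (LK LD1_c5 LD2_c29 LD3_c0)) = (LP (LK LD1_c2 LD2_c46 LD3_c17)) :=
  Lgr Lrot11 (Lpr_ct (K17.f225335 IH) (Lpn (LP (LK LD1_c2 LD2_c46 LD3_c17))))
theorem f225479 : Led Lsl_bt (LP (LK LD1_c11 LD2_c12 LD3_c4)) = (LP (LK LD1_c5 LD2_c40 LD3_c44)) :=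
  Lre_b IH (LK LD1_c11 LD2_c12 LD3_c4) (LK LD1_c5 LD2_c40 LD3_c44) Lrfl Lrfl
theorem f68892 : Led Lsl_gt (LP (LK LD1_c9 LD2_c31 LD3_c59)) = (LP (LK LD1_c17 LD2_c34 LD3_c4)) :=
  Lre_g IH (LK LD1_c9 LD2_c31 LD3_c59) (LK LD1_c17 LD2_c34 LD3_c4) Lrfl Lrfl
theorem f710776 : Led Lsl_ct (LP (LK LD1_c11 LD2_c12 LD3_c4)) = (LP (LK LD1_c17 LD2_c34 LD3_c4)) :=
  Lgr Lrot10 (Lpr_bt (f225479 IH) (Lpr_gt (K51.f225456 IH) (Lpe (f225692 IH) (Lpe (K46.f646007 IH) (Lpe (f180293 IH) (Lpr_bt (f645814 IH) (Lpr_gt (f710771 IH) (Lpr_bf (K40.f561846 IH) (Lpr_ct (K40.f59957 IH) (Lpr_gt (f68892 IH) (Lpn (LP (LK LD1_c17 LD2_c34 LD3_c4)))))))))))))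
theorem f706148 : Led Lsl_dt (LP (LK LD1_c9 LD2_c46 LD3_c36)) = K51.v4871 :=
  Lgr Lrot42 (Lpr_df (K51.f706147 IH) (Lpn K51.v4871))
theorem f40857 : Led Lsl_ct (LP (LK LD1_c3 LD2_c59 LD3_c16)) = (LP (LK LD1_c2 LD2_c25 LD3_c60)) :=
  Lgr Lrot15 (Lpe (K1.f40855 IH) (Lpr_cf (K1.f40844 IH) (Lpe (K9.f40856 IH) (Lpn (LP (LK LD1_c2 LD2_c25 LD3_c60))))))
theorem f55632 : Led Lsl_et (LP (LK LD1_c4 LD2_c7 LD3_c28)) = (LP (LK LD1_c2 LD2_c1 LD3_c4)) :=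
  Lre_e IH (LK LD1_c4 LD2_c7 LD3_c28) (LK LD1_c2 LD2_c1 LD3_c4) Lrfl Lrfl
theorem f55633 : Led Lsl_cf (LP (LK LD1_c4 LD2_c7 LD3_c28)) = (LP (LK LD1_c4 LD2_c5 LD3_c33)) :=
  Lgr Lrot39 (Lpr_et (f55632 IH) (Lpr_ct (K2.f55626 IH) (Lpr_et (K9.f55336 IH) (Lpn (LP (LK LD1_c4 LD2_c5 LD3_c33))))))
theorem f553604 : Led Lsl_ct (LP (LK LD1_c5 LD2_c39 LD3_c60)) = (LP (LK LD1_c11 LD2_c10 LD3_c52)) :=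
  Lre_c IH (LK LD1_c5 LD2_c39 LD3_c60) (LK LD1_c11 LD2_c10 LD3_c52) Lrfl Lrfl
theorem f553614 : Led Lsl_dt (LP (LK LD1_c4 LD2_c7 LD3_c28)) = (LP (LK LD1_c5 LD2_c39 LD3_c60)) :=
  Lgr Lrot173 (Lpr_cf (f55633 IH) (Lpr_df (K17.f55353 IH) (Lpe (f40857 IH) (Lpe (K9.f100922 IH) (Lpe (K17.f100624 IH) (Lpe (K9.f73936 IH) (Lpr_cf (K17.f172200 IH) (Lpe (K17.f172209 IH) (Lpe (K9.f55553 IH) (Lpe (K17.f54839 IH) (Lpe (K17.f140469 IH) (Lpe (K17.f413753 IH) (Lpr_cf (K40.f414793 IH) (Lpr_df (K40.f553610 IH) (Lpe (f553604 IH) (Lpn (LP (LK LD1_c5 LD2_c39 LD3_c60))))))))))))))))))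
theorem f553624 : Led Lsl_ft (LP (LK LD1_c5 LD2_c39 LD3_c60)) = (LP (LK LD1_c11 LD2_c10 LD3_c54)) :=
  Lre_f IH (LK LD1_c5 LD2_c39 LD3_c60) (LK LD1_c11 LD2_c10 LD3_c54) Lrfl Lrfl
theorem f553625 : Led Lsl_df (LP (LK LD1_c8 LD2_c14 LD3_c60)) = (LP (LK LD1_c11 LD2_c10 LD3_c54)) :=
  Lgr Lrot78 (Lpr_ft (K9.f55744 IH) (Lpr_dt (f553614 IH) (Lpr_ft (f553624 IH) (Lpn (LP (LK LD1_c11 LD2_c10 LD3_c54))))))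
theorem f55707 : Led Lsl_et (LP (LK LD1_c8 LD2_c14 LD3_c60)) = (LP (LK LD1_c4 LD2_c7 LD3_c27)) :=
  Lre_e IH (LK LD1_c8 LD2_c14 LD3_c60) (LK LD1_c4 LD2_c7 LD3_c27) Lrfl Lrfl
theorem f553635 : Led Lsl_et (LP (LK LD1_c5 LD2_c47 LD3_c13)) = (LP (LK LD1_c11 LD2_c10 LD3_c54)) :=
  Lgr Lrot71 (Lpe (K2.f61479 IH) (Lpe (K35.f73797 IH) (Lpr_df (K32.f73603 IH) (Lpe (f55707 IH) (Lpr_df (f553625 IH) (Lpn (LP (LK LD1_c11 LD2_c10 LD3_c54))))))))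
theorem f553631 : Led Lsl_at (LP (LK LD1_c11 LD2_c12 LD3_c25)) = (LP (LK LD1_c11 LD2_c10 LD3_c54)) :=
  Lgr Lrot51 (Lpe (K17.f172209 IH) (Lpr_af (K9.f55712 IH) (Lpr_df (f553625 IH) (Lpn (LP (LK LD1_c11 LD2_c10 LD3_c54))))))
theorem f172220 : Led Lsl_gt (LP (LK LD1_c5 LD2_c40 LD3_c56)) = (LP (LK LD1_c11 LD2_c12 LD3_c24)) :=
  Lre_g IH (LK LD1_c5 LD2_c40 LD3_c56) (LK LD1_c11 LD2_c12 LD3_c24) Lrfl Lrfl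
theorem f553654 : Led Lsl_gt (LP (LK LD1_c11 LD2_c12 LD3_c24)) = (LP (LK LD1_c11 LD2_c10 LD3_c54)) :=
  Lgr Lrot46 (Lpe (f172220 IH) (Lpr_ft (K37.f172213 IH) (Lpr_at (f553631 IH) (Lpn (LP (LK LD1_c11 LD2_c10 LD3_c54))))))
theorem f171824 : Led Lsl_bt (LP (LK LD1_c8 LD2_c0 LD3_c58)) = (LP (LK LD1_c3 LD2_c59 LD3_c57)) :=
  Lre_b IH (LK LD1_c8 LD2_c0 LD3_c58) (LK LD1_c3 LD2_c59 LD3_c57) Lrfl Lrfl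
theorem f633824 : Led Lsl_bt (LP (LK LD1_c2 LD2_c27 LD3_c51)) = (LP (LK LD1_c5 LD2_c0 LD3_c11)) :=
  Lre_b IH (LK LD1_c2 LD2_c27 LD3_c51) (LK LD1_c5 LD2_c0 LD3_c11) Lrfl Lrfl
theorem f633825 : Led Lsl_ff (LP (LK LD1_c8 LD2_c0 LD3_c58)) = (LP (LK LD1_c5 LD2_c0 LD3_c11)) :=
  Lgr Lrot25 (Lpr_bt (f171824 IH) (Lpr_ft (K51.f633822 IH) (Lpr_bt (f633824 IH) (Lpn (LP (LK LD1_c5 LD2_c0 LD3_c11))))))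
theorem f171841 : Led Lsl_dt (LP (LK LD1_c8 LD2_c0 LD3_c58)) = (LP (LK LD1_c3 LD2_c59 LD3_c56)) :=
  Lre_d IH (LK LD1_c8 LD2_c0 LD3_c58) (LK LD1_c3 LD2_c59 LD3_c56) Lrfl Lrfl
theorem f633877 : Led Lsl_dt (LP (LK LD1_c2 LD2_c27 LD3_c50)) = (LP (LK LD1_c5 LD2_c0 LD3_c11)) :=
  Lre_d IH (LK LD1_c2 LD2_c27 LD3_c50) (LK LD1_c5 LD2_c0 LD3_c11) Lrfl Lrfl
theorem f633878 : Led Lsl_ft (LP (LK LD1_c3 LD2_c59 LD3_c56)) = (LP (LK LD1_c2 LD2_c27 LD3_c50)) :=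
  Lgr Lrot54 (Lpe (f171841 IH) (Lpr_ff (f633825 IH) (Lpe (f633877 IH) (Lpn (LP (LK LD1_c2 LD2_c27 LD3_c50))))))
theorem f633889 : Led Lsl_ff (LP (LK LD1_c3 LD2_c59 LD3_c56)) = (LP (LK LD1_c2 LD2_c27 LD3_c50)) :=
  Lgr Lrot3 (Lpr_ft (f633878 IH) (Lpn (LP (LK LD1_c2 LD2_c27 LD3_c50))))
theorem f629282 : Led Lsl_at (LP (LK LD1_c3 LD2_c59 LD3_c56)) = (LP (LK LD1_c8 LD2_c0 LD3_c57)) :=
  Lre_a IH (LK LD1_c3 LD2_c59 LD3_c56) (LK LD1_c8 LD2_c0 LD3_c57) Lrfl Lrfl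
theorem f633895 : Led Lsl_gf (LP (LK LD1_c8 LD2_c0 LD3_c57)) = (LP (LK LD1_c5 LD2_c0 LD3_c8)) :=
  Lgr Lrot76 (Lpe (f629282 IH) (Lpr_ff (f633889 IH) (Lpr_gt (K51.f415658 IH) (Lpn (LP (LK LD1_c5 LD2_c0 LD3_c8))))))
theorem f633883 : Led Lsl_dt (LP (LK LD1_c15 LD2_c5 LD3_c41)) = (LP (LK LD1_c8 LD2_c0 LD3_c57)) :=
  Lre_d IH (LK LD1_c15 LD2_c5 LD3_c41) (LK LD1_c8 LD2_c0 LD3_c57) Lrfl Lrfl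
theorem f707139 : Led Lsl_ef (LP (LK LD1_c11 LD2_c12 LD3_c24)) = (LP (LK LD1_c15 LD2_c5 LD3_c41)) :=
  Lgr Lrot114 (Lpr_gt (f553654 IH) (Lpe (f553635 IH) (Lpr_dt (K17.f61480 IH) (Lpr_gt (K17.f414299 IH) (Lpe (K24.f414305 IH) (Lpr_et (K51.f701631 IH) (Lpqs (K51.f706122 IH) (Lpr_gt (K51.f415682 IH) (Lpr_dt (f706148 IH) (Lpqs (K51.f707134 IH) (Lpe (f633895 IH) (Lpe (f633883 IH) (Lpn (LP (LK LD1_c15 LD2_c5 LD3_c41)))))))))))))))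
theorem f707143 : Led Lsl_et (LP (LK LD1_c11 LD2_c12 LD3_c24)) = (LP (LK LD1_c15 LD2_c5 LD3_c41)) :=
  Lgr Lrot87 (Lpr_ef (f707139 IH) (Lpn (LP (LK LD1_c15 LD2_c5 LD3_c41))))
theorem f171839 : Led Lsl_at (LP (LK LD1_c15 LD2_c5 LD3_c41)) = (LP (LK LD1_c8 LD2_c0 LD3_c58)) :=
  Lre_a IH (LK LD1_c15 LD2_c5 LD3_c41) (LK LD1_c8 LD2_c0 LD3_c58) Lrfl Lrfl
theorem f171830 : Led Lsl_bt (LP (LK LD1_c11 LD2_c6 LD3_c42)) = (LP (LK LD1_c5 LD2_c37 LD3_c33)) :=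
  Lre_b IH (LK LD1_c11 LD2_c6 LD3_c42) (LK LD1_c5 LD2_c37 LD3_c33) Lrfl Lrfl
theorem f171831 : Led Lsl_bt (LP (LK LD1_c3 LD2_c59 LD3_c57)) = (LP (LK LD1_c8 LD2_c0 LD3_c58)) :=
  Lre_b IH (LK LD1_c3 LD2_c59 LD3_c57) (LK LD1_c8 LD2_c0 LD3_c58) Lrfl Lrfl
theorem f171832 : Led Lsl_ef (LP (LK LD1_c11 LD2_c6 LD3_c42)) = (LP (LK LD1_c8 LD2_c0 LD3_c58)) :=
  Lgr Lrot29 (Lpr_bt (f171830 IH) (Lpr_et (K51.f171828 IH) (Lpr_bt (f171831 IH) (Lpn (LP (LK LD1_c8 LD2_c0 LD3_c58))))))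
theorem f707145 : Led Lsl_af (LP (LK LD1_c11 LD2_c12 LD3_c24)) = (LP (LK LD1_c11 LD2_c6 LD3_c42)) :=
  Lgr Lrot50 (Lpr_et (f707143 IH) (Lpr_at (f171839 IH) (Lpe (f171832 IH) (Lpn (LP (LK LD1_c11 LD2_c6 LD3_c42))))))
theorem f633784 : Led Lsl_af (LP (LK LD1_c5 LD2_c37 LD3_c34)) = (LP (LK LD1_c5 LD2_c40 LD3_c44)) :=
  Lgr Lrot0 (Lpr_at (K51.f633782 IH) (Lpn (LP (LK LD1_c5 LD2_c40 LD3_c44))))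
theorem f633797 : Led Lsl_ft (LP (LK LD1_c5 LD2_c37 LD3_c33)) = (LP (LK LD1_c5 LD2_c40 LD3_c44)) :=
  Lgr Lrot101 (Lpr_af (K51.f633791 IH) (Lpe (K51.f633788 IH) (Lpr_af (f633784 IH) (Lpn (LP (LK LD1_c5 LD2_c40 LD3_c44))))))
theorem f225475 : Led Lsl_bt (LP (LK LD1_c5 LD2_c40 LD3_c44)) = (LP (LK LD1_c11 LD2_c12 LD3_c4)) :=
  Lre_b IH (LK LD1_c5 LD2_c40 LD3_c44) (LK LD1_c11 LD2_c12 LD3_c4) Lrfl Lrfl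
theorem f633799 : Led Lsl_ff (LP (LK LD1_c11 LD2_c6 LD3_c42)) = (LP (LK LD1_c11 LD2_c12 LD3_c4)) :=
  Lgr Lrot25 (Lpr_bt (f171830 IH) (Lpr_ft (f633797 IH) (Lpr_bt (f225475 IH) (Lpn (LP (LK LD1_c11 LD2_c12 LD3_c4))))))
theorem f707147 : Led Lsl_gf (LP (LK LD1_c5 LD2_c40 LD3_c56)) = (LP (LK LD1_c11 LD2_c12 LD3_c4)) :=
  Lgr Lrot47 (Lpr_gt (f172220 IH) (Lpr_af (f707145 IH) (Lpr_ff (f633799 IH) (Lpn (LP (LK LD1_c11 LD2_c12 LD3_c4))))))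
theorem f60827 : Led Lsl_et (LP (LK LD1_c0 LD2_c57 LD3_c8)) = (LP (LK LD1_c1 LD2_c28 LD3_c29)) :=
  Lgr Lrot74 (Lpe (K39.f55844 IH) (Lpr_ef (K2.f60821 IH) (Lpe (K39.f60723 IH) (Lpn (LP (LK LD1_c1 LD2_c28 LD3_c29))))))
theorem f55574 : Led Lsl_et (LP (LK LD1_c4 LD2_c6 LD3_c7)) = (LP (LK LD1_c2 LD2_c0 LD3_c20)) :=
  Lre_e IH (LK LD1_c4 LD2_c6 LD3_c7) (LK LD1_c2 LD2_c0 LD3_c20) Lrfl Lrfl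
theorem f172161 : Led Lsl_et (LP (LK LD1_c2 LD2_c46 LD3_c24)) = (LP (LK LD1_c5 LD2_c40 LD3_c56)) :=
  Lre_e IH (LK LD1_c2 LD2_c46 LD3_c24) (LK LD1_c5 LD2_c40 LD3_c56) Lrfl Lrfl
theorem f172162 : Led Lsl_df (LP (LK LD1_c4 LD2_c6 LD3_c7)) = (LP (LK LD1_c5 LD2_c40 LD3_c56)) :=
  Lgr Lrot70 (Lpr_et (f55574 IH) (Lpr_dt (K1.f55583 IH) (Lpr_et (f60827 IH) (Lpr_dt (K9.f172153 IH) (Lpr_et (f172161 IH) (Lpn (LP (LK LD1_c5 LD2_c40 LD3_c56))))))))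
theorem f553617 : Led Lsl_af (LP (LK LD1_c5 LD2_c40 LD3_c56)) = (LP (LK LD1_c5 LD2_c39 LD3_c60)) :=
  Lgr Lrot117 (Lpe (f172162 IH) (Lpr_at (K9.f55722 IH) (Lpr_dt (f553614 IH) (Lpn (LP (LK LD1_c5 LD2_c39 LD3_c60))))))
theorem f553605 : Led Lsl_ft (LP (LK LD1_c11 LD2_c10 LD3_c54)) = (LP (LK LD1_c5 LD2_c39 LD3_c60)) :=
  Lre_f IH (LK LD1_c11 LD2_c10 LD3_c54) (LK LD1_c5 LD2_c39 LD3_c60) Lrfl Lrfl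
theorem f707149 : Led Lsl_gt (LP (LK LD1_c11 LD2_c10 LD3_c54)) = (LP (LK LD1_c11 LD2_c12 LD3_c4)) :=
  Lgr Lrot5 (Lpr_ft (f553605 IH) (Lpe (f553617 IH) (Lpr_gf (f707147 IH) (Lpn (LP (LK LD1_c11 LD2_c12 LD3_c4))))))
theorem f55729 : Led Lsl_af (LP (LK LD1_c4 LD2_c6 LD3_c7)) = (LP (LK LD1_c4 LD2_c7 LD3_c28)) :=
  Lgr Lrot0 (Lpr_at (K9.f55722 IH) (Lpn (LP (LK LD1_c4 LD2_c7 LD3_c28))))
theorem f55557 : Led Lsl_gt (LP (LK LD1_c8 LD2_c12 LD3_c57)) = (LP (LK LD1_c4 LD2_c6 LD3_c7)) :=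
  Lre_g IH (LK LD1_c8 LD2_c12 LD3_c57) (LK LD1_c4 LD2_c6 LD3_c7) Lrfl Lrfl
theorem f55780 : Led Lsl_gf (LP (LK LD1_c8 LD2_c12 LD3_c57)) = (LP (LK LD1_c8 LD2_c14 LD3_c60)) :=
  Lgr Lrot47 (Lpr_gt (f55557 IH) (Lpr_af (f55729 IH) (Lpe (K9.f55744 IH) (Lpn (LP (LK LD1_c8 LD2_c14 LD3_c60))))))
theorem f59946 : Led Lsl_ct (LP (LK LD1_c11 LD2_c24 LD3_c8)) = (LP (LK LD1_c5 LD2_c46 LD3_c60)) :=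
  Lre_c IH (LK LD1_c11 LD2_c24 LD3_c8) (LK LD1_c5 LD2_c46 LD3_c60) Lrfl Lrfl
theorem f59958 : Led Lsl_ft (LP (LK LD1_c9 LD2_c31 LD3_c59)) = (LP (LK LD1_c11 LD2_c24 LD3_c8)) :=
  Lgr Lrot4 (Lpe (K40.f59957 IH) (Lpr_ff (K1.f59942 IH) (Lpe (f59946 IH) (Lpn (LP (LK LD1_c11 LD2_c24 LD3_c8))))))
theorem f412124 : Led Lsl_af (LP (LK LD1_c11 LD2_c12 LD3_c27)) = (LP (LK LD1_c11 LD2_c24 LD3_c8)) :=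
  Lgr Lrot45 (Lpr_ft (K40.f412121 IH) (Lpr_at (K40.f412123 IH) (Lpr_ft (f59958 IH) (Lpn (LP (LK LD1_c11 LD2_c24 LD3_c8))))))
theorem f412280 : Led Lsl_gf (LP (LK LD1_c11 LD2_c12 LD3_c27)) = (LP (LK LD1_c17 LD2_c34 LD3_c4)) :=
  Lgr Lrot76 (Lpr_af (f412124 IH) (Lpe (f59958 IH) (Lpr_gt (f68892 IH) (Lpn (LP (LK LD1_c17 LD2_c34 LD3_c4))))))
theorem f68803 : Led Lsl_et (LP (LK LD1_c5 LD2_c42 LD3_c22)) = (LP (LK LD1_c2 LD2_c47 LD3_c8)) :=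
  Lre_e IH (LK LD1_c5 LD2_c42 LD3_c22) (LK LD1_c2 LD2_c47 LD3_c8) Lrfl Lrfl
theorem f412100 : Led Lsl_ct (LP (LK LD1_c11 LD2_c12 LD3_c27)) = (LP (LK LD1_c5 LD2_c42 LD3_c22)) :=
  Lgr Lrot15 (Lpe (K40.f412099 IH) (Lpr_cf (K37.f412092 IH) (Lpe (f68803 IH) (Lpn (LP (LK LD1_c5 LD2_c42 LD3_c22))))))
theorem f9161 : Led Lsl_dt (LP (LK LD1_c9 LD2_c17 LD3_c30)) = (LP (LK LD1_c6 LD2_c8 LD3_c29)) :=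
  Lre_d IH (LK LD1_c9 LD2_c17 LD3_c30) (LK LD1_c6 LD2_c8 LD3_c29) Lrfl Lrfl
theorem f68825 : Led Lsl_df (LP (LK LD1_c5 LD2_c42 LD3_c22)) = (LP (LK LD1_c3 LD2_c0 LD3_c28)) :=
  Lgr Lrot78 (Lpr_ft (K36.f68820 IH) (Lpr_dt (f9161 IH) (Lpr_ft (K0.f9144 IH) (Lpn (LP (LK LD1_c3 LD2_c0 LD3_c28))))))
theorem f9162 : Led Lsl_ct (LP (LK LD1_c6 LD2_c46 LD3_c13)) = (LP (LK LD1_c9 LD2_c17 LD3_c30)) :=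
  Lre_c IH (LK LD1_c6 LD2_c46 LD3_c13) (LK LD1_c9 LD2_c17 LD3_c30) Lrfl Lrfl
theorem f68804 : Led Lsl_ft (LP (LK LD1_c2 LD2_c17 LD3_c32)) = (LP (LK LD1_c4 LD2_c41 LD3_c0)) :=
  Lre_f IH (LK LD1_c2 LD2_c17 LD3_c32) (LK LD1_c4 LD2_c41 LD3_c0) Lrfl Lrfl
theorem f59969 : Led Lsl_et (LP (LK LD1_c4 LD2_c41 LD3_c0)) = (LP (LK LD1_c9 LD2_c17 LD3_c30)) :=
  Lre_e IH (LK LD1_c4 LD2_c41 LD3_c0) (LK LD1_c9 LD2_c17 LD3_c30) Lrfl Lrfl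
theorem f68805 : Led Lsl_ff (LP (LK LD1_c5 LD2_c42 LD3_c22)) = (LP (LK LD1_c9 LD2_c17 LD3_c30)) :=
  Lgr Lrot72 (Lpr_et (f68803 IH) (Lpr_ft (K10.f68589 IH) (Lpr_et (K35.f22899 IH) (Lpr_ft (f68804 IH) (Lpr_et (f59969 IH) (Lpn (LP (LK LD1_c9 LD2_c17 LD3_c30))))))))
theorem f412129 : Led Lsl_cf (LP (LK LD1_c11 LD2_c12 LD3_c27)) = (LP (LK LD1_c5 LD2_c42 LD3_c22)) :=
  Lgr Lrot108 (Lpr_ft (K40.f412121 IH) (Lpr_ct (f9162 IH) (Lpe (f68805 IH) (Lpn (LP (LK LD1_c5 LD2_c42 LD3_c22))))))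
theorem f9280 : Led Lsl_dt (LP (LK LD1_c9 LD2_c31 LD3_c59)) = (LP (LK LD1_c6 LD2_c4 LD3_c1)) :=
  Lre_d IH (LK LD1_c9 LD2_c31 LD3_c59) (LK LD1_c6 LD2_c4 LD3_c1) Lrfl Lrfl
theorem f9309 : Led Lsl_ct (LP (LK LD1_c3 LD2_c21 LD3_c12)) = (LP (LK LD1_c6 LD2_c46 LD3_c14)) :=
  Lre_c IH (LK LD1_c3 LD2_c21 LD3_c12) (LK LD1_c6 LD2_c46 LD3_c14) Lrfl Lrfl
theorem f9311 : Led Lsl_cf (LP (LK LD1_c4 LD2_c33 LD3_c55)) = (LP (LK LD1_c6 LD2_c4 LD3_c1)) :=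
  Lgr Lrot108 (Lpr_ft (K46.f9310 IH) (Lpr_ct (f9309 IH) (Lpr_ft (K0.f9287 IH) (Lpn (LP (LK LD1_c6 LD2_c4 LD3_c1))))))
theorem f175405 : Led Lsl_dt (LP (LK LD1_c4 LD2_c33 LD3_c55)) = (LP (LK LD1_c2 LD2_c13 LD3_c48)) :=
  Lre_d IH (LK LD1_c4 LD2_c33 LD3_c55) (LK LD1_c2 LD2_c13 LD3_c48) Lrfl Lrfl
theorem f211870 : Led Lsl_ct (LP (LK LD1_c2 LD2_c13 LD3_c48)) = (LP (LK LD1_c1 LD2_c18 LD3_c5)) :=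
  Lre_c IH (LK LD1_c2 LD2_c13 LD3_c48) (LK LD1_c1 LD2_c18 LD3_c5) Lrfl Lrfl
theorem f68843 : Led Lsl_dt (LP (LK LD1_c1 LD2_c18 LD3_c5)) = (LP (LK LD1_c2 LD2_c40 LD3_c2)) :=
  Lre_d IH (LK LD1_c1 LD2_c18 LD3_c5) (LK LD1_c2 LD2_c40 LD3_c2) Lrfl Lrfl
theorem f412140 : Led Lsl_cf (LP (LK LD1_c3 LD2_c0 LD3_c28)) = (LP (LK LD1_c2 LD2_c40 LD3_c2)) :=
  Lgr Lrot55 (Lpe (f68825 IH) (Lpe (f412129 IH) (Lpr_dt (K40.f412135 IH) (Lpr_ct (K40.f9292 IH) (Lpr_dt (K40.f9259 IH) (Lpr_ct (K40.f9264 IH) (Lpr_dt (K40.f9247 IH) (Lpr_ct (K40.f68891 IH) (Lpr_dt (K40.f23054 IH) (Lpr_ct (K40.f59957 IH) (Lpr_dt (f9280 IH) (Lpe (f9311 IH) (Lpr_dt (f175405 IH) (Lpr_ct (f211870 IH) (Lpr_dt (f68843 IH) (Lpn (LP (LK LD1_c2 LD2_c40 LD3_c2))))))))))))))))))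
theorem f211869 : Led Lsl_gt (LP (LK LD1_c5 LD2_c27 LD3_c22)) = (LP (LK LD1_c2 LD2_c40 LD3_c2)) :=
  Lre_g IH (LK LD1_c5 LD2_c27 LD3_c22) (LK LD1_c2 LD2_c40 LD3_c2) Lrfl Lrfl
theorem f710825 : Led Lsl_ct (LP (LK LD1_c8 LD2_c12 LD3_c57)) = (LP (LK LD1_c5 LD2_c27 LD3_c22)) :=
  Lgr Lrot152 (Lpr_gf (f55780 IH) (Lpr_df (f553625 IH) (Lpr_gt (f707149 IH) (Lpr_ct (f710776 IH) (Lpe (f412280 IH) (Lpr_ct (f412100 IH) (Lpr_df (f68825 IH) (Lpr_cf (f412140 IH) (Lpe (f211869 IH) (Lpn (LP (LK LD1_c5 LD2_c27 LD3_c22))))))))))))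
theorem f174228 : Led Lsl_gt (LP (LK LD1_c1 LD2_c18 LD3_c5)) = (LP (LK LD1_c2 LD2_c43 LD3_c17)) :=
  Lre_g IH (LK LD1_c1 LD2_c18 LD3_c5) (LK LD1_c2 LD2_c43 LD3_c17) Lrfl Lrfl
theorem f638520 : Led Lsl_dt (LP (LK LD1_c2 LD2_c43 LD3_c17)) = (LP (LK LD1_c5 LD2_c34 LD3_c46)) :=
  Lre_d IH (LK LD1_c2 LD2_c43 LD3_c17) (LK LD1_c5 LD2_c34 LD3_c46) Lrfl Lrfl
theorem f638616 : Led Lsl_ct (LP (LK LD1_c5 LD2_c34 LD3_c46)) = (LP (LK LD1_c11 LD2_c1 LD3_c51)) :=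
  Lre_c IH (LK LD1_c5 LD2_c34 LD3_c46) (LK LD1_c11 LD2_c1 LD3_c51) Lrfl Lrfl
theorem f710831 : Led Lsl_dt (LP (LK LD1_c11 LD2_c12 LD3_c24)) = (LP (LK LD1_c11 LD2_c1 LD3_c51)) :=
  Lgr Lrot113 (Lpe (f172220 IH) (Lpe (K37.f172214 IH) (Lpe (f55557 IH) (Lpr_ct (f710825 IH) (Lpr_gt (f211869 IH) (Lpr_dt (K36.f9207 IH) (Lpr_gt (f174228 IH) (Lpr_dt (f638520 IH) (Lpr_ct (f638616 IH) (Lpn (LP (LK LD1_c11 LD2_c1 LD3_c51))))))))))))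
theorem f633813 : Led Lsl_at (LP (LK LD1_c5 LD2_c0 LD3_c19)) = (LP (LK LD1_c9 LD2_c50 LD3_c61)) :=
  Lre_a IH (LK LD1_c5 LD2_c0 LD3_c19) (LK LD1_c9 LD2_c50 LD3_c61) Lrfl Lrfl
theorem f633814 : Led Lsl_bf (LP (LK LD1_c15 LD2_c5 LD3_c41)) = (LP (LK LD1_c9 LD2_c50 LD3_c61)) :=
  Lgr Lrot81 (Lpr_at (f171839 IH) (Lpr_bt (f171824 IH) (Lpr_at (K51.f633795 IH) (Lpr_bt (K52.f140891 IH) (Lpr_at (f633813 IH) (Lpn (LP (LK LD1_c9 LD2_c50 LD3_c61))))))))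
theorem f633907 : Led Lsl_bt (LP (LK LD1_c15 LD2_c5 LD3_c41)) = (LP (LK LD1_c9 LD2_c50 LD3_c61)) :=
  Lgr Lrot127 (Lpr_bf (f633814 IH) (Lpn (LP (LK LD1_c9 LD2_c50 LD3_c61))))
theorem f710512 : Led Lsl_bf (LP (LK LD1_c11 LD2_c12 LD3_c24)) = (LP (LK LD1_c11 LD2_c7 LD3_c14)) :=
  Lgr Lrot96 (Lpr_et (f707143 IH) (Lpr_bt (f633907 IH) (Lpr_et (K52.f710508 IH) (Lpn (LP (LK LD1_c11 LD2_c7 LD3_c14))))))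
theorem f710833 : Led Lsl_bt (LP (LK LD1_c11 LD2_c1 LD3_c51)) = (LP (LK LD1_c19 LD2_c53 LD3_c8)) :=
  Lre_b IH (LK LD1_c11 LD2_c1 LD3_c51) (LK LD1_c19 LD2_c53 LD3_c8) Lrfl Lrfl
theorem f710834 : Led Lsl_df (LP (LK LD1_c11 LD2_c7 LD3_c14)) = (LP (LK LD1_c19 LD2_c53 LD3_c8)) :=
  Lgr Lrot12 (Lpe (f710512 IH) (Lpr_dt (f710831 IH) (Lpr_bt (f710833 IH) (Lpn (LP (LK LD1_c19 LD2_c53 LD3_c8))))))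
theorem f710839 : Led Lsl_dt (LP (LK LD1_c11 LD2_c7 LD3_c14)) = (LP (LK LD1_c19 LD2_c53 LD3_c8)) :=
  Lgr Lrot42 (Lpr_df (f710834 IH) (Lpn (LP (LK LD1_c19 LD2_c53 LD3_c8))))
theorem f22281 : Led Lsl_dt (LP (LK LD1_c11 LD2_c29 LD3_c41)) = (LP (LK LD1_c5 LD2_c51 LD3_c5)) :=
  Lre_d IH (LK LD1_c11 LD2_c29 LD3_c41) (LK LD1_c5 LD2_c51 LD3_c5) Lrfl Lrfl
theorem f713063 : Led Lsl_et (LP (LK LD1_c11 LD2_c29 LD3_c58)) = (LP (LK LD1_c20 LD2_c27 LD3_c6)) :=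
  Lre_e IH (LK LD1_c11 LD2_c29 LD3_c58) (LK LD1_c20 LD2_c27 LD3_c6) Lrfl Lrfl
theorem f713064 : Led Lsl_bf (LP (LK LD1_c11 LD2_c29 LD3_c58)) = (LP (LK LD1_c11 LD2_c24 LD3_c15)) :=
  Lgr Lrot96 (Lpr_et (f713063 IH) (Lpr_bt (K52.f713059 IH) (Lpr_et (K52.f706106 IH) (Lpn (LP (LK LD1_c11 LD2_c24 LD3_c15))))))
theorem f713066 : Led Lsl_bt (LP (LK LD1_c20 LD2_c27 LD3_c5)) = (LP (LK LD1_c20 LD2_c16 LD3_c38)) :=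
  Lgr Lrot95 (Lpe (K52.f158125 IH) (Lpr_bf (f713064 IH) (Lpr_df (K52.f706092 IH) (Lpn (LP (LK LD1_c20 LD2_c16 LD3_c38))))))
theorem f713070 : Led Lsl_ef (LP (LK LD1_c20 LD2_c27 LD3_c5)) = (LP (LK LD1_c20 LD2_c16 LD3_c36)) :=
  Lgr Lrot29 (Lpr_bt (f713066 IH) (Lpr_et (K52.f706091 IH) (Lpr_bt (K52.f416013 IH) (Lpn (LP (LK LD1_c20 LD2_c16 LD3_c36))))))
theorem f713072 : Led Lsl_dt (LP (LK LD1_c20 LD2_c27 LD3_c6)) = (LP (LK LD1_c20 LD2_c27 LD3_c30)) :=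
  Lgr Lrot77 (Lpe (f713063 IH) (Lpe (K52.f158126 IH) (Lpr_ef (f713070 IH) (Lpe (K52.f711612 IH) (Lpe (K52.f713055 IH) (Lpn (LP (LK LD1_c20 LD2_c27 LD3_c30))))))))
theorem f157211 : Led Lsl_et (LP (LK LD1_c2 LD2_c51 LD3_c53)) = (LP (LK LD1_c5 LD2_c51 LD3_c15)) :=
  Lre_e IH (LK LD1_c2 LD2_c51 LD3_c53) (LK LD1_c5 LD2_c51 LD3_c15) Lrfl Lrfl
theorem f132530 : Led Lsl_et (LP (LK LD1_c3 LD2_c17 LD3_c42)) = (LP (LK LD1_c6 LD2_c38 LD3_c55)) :=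
  Lre_e IH (LK LD1_c3 LD2_c17 LD3_c42) (LK LD1_c6 LD2_c38 LD3_c55) Lrfl Lrfl
theorem f132533 : Led Lsl_dt (LP (LK LD1_c12 LD2_c43 LD3_c29)) = (LP (LK LD1_c21 LD2_c50 LD3_c43)) :=
  Lre_d IH (LK LD1_c12 LD2_c43 LD3_c29) (LK LD1_c21 LD2_c50 LD3_c43) Lrfl Lrfl
theorem f713074 : Led Lsl_gt (LP (LK LD1_c21 LD2_c50 LD3_c43)) = (LP (LK LD1_c20 LD2_c27 LD3_c30)) :=
  Lgr Lrot139 (Lpe (f132533 IH) (Lpe (K50.f132531 IH) (Lpe (f132530 IH) (Lpe (K42.f132525 IH) (Lpe (K8.f132497 IH) (Lpr_df (K8.f157194 IH) (Lpr_et (f157211 IH) (Lpe (K52.f157212 IH) (Lpe (K52.f157213 IH) (Lpr_dt (f713072 IH) (Lpn (LP (LK LD1_c20 LD2_c27 LD3_c30)))))))))))))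
theorem f615526 : Led Lsl_at (LP (LK LD1_c20 LD2_c27 LD3_c28)) = (LP (LK LD1_c11 LD2_c30 LD3_c17)) :=
  Lre_a IH (LK LD1_c20 LD2_c27 LD3_c28) (LK LD1_c11 LD2_c30 LD3_c17) Lrfl Lrfl
theorem f713076 : Led Lsl_ft (LP (LK LD1_c21 LD2_c50 LD3_c43)) = (LP (LK LD1_c20 LD2_c27 LD3_c28)) :=
  Lgr Lrot2 (Lpr_gt (f713074 IH) (Lpr_gt (K52.f615530 IH) (Lpe (f615526 IH) (Lpn (LP (LK LD1_c20 LD2_c27 LD3_c28))))))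
theorem f713081 : Led Lsl_ff (LP (LK LD1_c21 LD2_c50 LD3_c43)) = (LP (LK LD1_c20 LD2_c27 LD3_c28)) :=
  Lgr Lrot3 (Lpr_ft (f713076 IH) (Lpn (LP (LK LD1_c20 LD2_c27 LD3_c28))))
theorem f615534 : Led Lsl_at (LP (LK LD1_c11 LD2_c30 LD3_c17)) = (LP (LK LD1_c20 LD2_c27 LD3_c28)) :=
  Lre_a IH (LK LD1_c11 LD2_c30 LD3_c17) (LK LD1_c20 LD2_c27 LD3_c28) Lrfl Lrfl
theorem f615528 : Led Lsl_ft (LP (LK LD1_c20 LD2_c27 LD3_c31)) = (LP (LK LD1_c11 LD2_c30 LD3_c17)) :=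
  Lre_f IH (LK LD1_c20 LD2_c27 LD3_c31) (LK LD1_c11 LD2_c30 LD3_c17) Lrfl Lrfl
theorem f713083 : Led Lsl_at (LP (LK LD1_c21 LD2_c50 LD3_c43)) = (LP (LK LD1_c20 LD2_c27 LD3_c31)) :=
  Lgr Lrot66 (Lpr_ff (f713081 IH) (Lpe (f615534 IH) (Lpe (f615528 IH) (Lpn (LP (LK LD1_c20 LD2_c27 LD3_c31))))))
theorem f614932 : Led Lsl_dt (LP (LK LD1_c20 LD2_c51 LD3_c39)) = (LP (LK LD1_c11 LD2_c49 LD3_c7)) :=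
  Lre_d IH (LK LD1_c20 LD2_c51 LD3_c39) (LK LD1_c11 LD2_c49 LD3_c7) Lrfl Lrfl
theorem f615282 : Led Lsl_bf (LP (LK LD1_c20 LD2_c51 LD3_c39)) = (LP (LK LD1_c21 LD2_c50 LD3_c43)) :=
  Lgr Lrot93 (Lpr_dt (f614932 IH) (Lpr_bt (K50.f615278 IH) (Lpr_dt (f132533 IH) (Lpn (LP (LK LD1_c21 LD2_c50 LD3_c43))))))
theorem f615298 : Led Lsl_bt (LP (LK LD1_c20 LD2_c51 LD3_c39)) = (LP (LK LD1_c21 LD2_c50 LD3_c43)) :=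
  Lgr Lrot127 (Lpr_bf (f615282 IH) (Lpn (LP (LK LD1_c21 LD2_c50 LD3_c43))))
theorem f699582 : Led Lsl_bt (LP (LK LD1_c20 LD2_c27 LD3_c31)) = (LP (LK LD1_c11 LD2_c30 LD3_c24)) :=
  Lre_b IH (LK LD1_c20 LD2_c27 LD3_c31) (LK LD1_c11 LD2_c30 LD3_c24) Lrfl Lrfl
theorem f699583 : Led Lsl_at (LP (LK LD1_c11 LD2_c30 LD3_c24)) = (LP (LK LD1_c9 LD2_c5 LD3_c61)) :=
  Lgr Lrot100 (Lpr_af (K50.f699580 IH) (Lpn (LP (LK LD1_c9 LD2_c5 LD3_c61))))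
theorem f699587 : Led Lsl_bt (LP (LK LD1_c9 LD2_c5 LD3_c61)) = (LP (LK LD1_c16 LD2_c57 LD3_c47)) :=
  Lre_b IH (LK LD1_c9 LD2_c5 LD3_c61) (LK LD1_c16 LD2_c57 LD3_c47) Lrfl Lrfl
theorem f713086 : Led Lsl_af (LP (LK LD1_c20 LD2_c51 LD3_c39)) = (LP (LK LD1_c16 LD2_c57 LD3_c47)) :=
  Lgr Lrot36 (Lpr_bt (f615298 IH) (Lpr_at (f713083 IH) (Lpr_bt (f699582 IH) (Lpr_at (f699583 IH) (Lpr_bt (f699587 IH) (Lpn (LP (LK LD1_c16 LD2_c57 LD3_c47))))))))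
theorem f669593 : Led Lsl_dt (LP (LK LD1_c9 LD2_c5 LD3_c60)) = (LP (LK LD1_c16 LD2_c57 LD3_c47)) :=
  Lre_d IH (LK LD1_c9 LD2_c5 LD3_c60) (LK LD1_c16 LD2_c57 LD3_c47) Lrfl Lrfl
theorem f713090 : Led Lsl_at (LP (LK LD1_c11 LD2_c49 LD3_c7)) = (LP (LK LD1_c9 LD2_c5 LD3_c60)) :=
  Lgr Lrot51 (Lpe (f614932 IH) (Lpr_af (f713086 IH) (Lpe (f669593 IH) (Lpn (LP (LK LD1_c9 LD2_c5 LD3_c60))))))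
theorem f713092 : Led Lsl_af (LP (LK LD1_c11 LD2_c49 LD3_c7)) = (LP (LK LD1_c9 LD2_c5 LD3_c60)) :=
  Lgr Lrot0 (Lpr_at (f713090 IH) (Lpn (LP (LK LD1_c9 LD2_c5 LD3_c60))))
theorem f207330 : Led Lsl_ct (LP (LK LD1_c6 LD2_c44 LD3_c29)) = (LP (LK LD1_c3 LD2_c20 LD3_c23)) :=
  Lre_c IH (LK LD1_c6 LD2_c44 LD3_c29) (LK LD1_c3 LD2_c20 LD3_c23) Lrfl Lrfl
theorem f204226 : Led Lsl_ct (LP (LK LD1_c11 LD2_c48 LD3_c53)) = (LP (LK LD1_c6 LD2_c2 LD3_c16)) :=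
  Lre_c IH (LK LD1_c11 LD2_c48 LD3_c53) (LK LD1_c6 LD2_c2 LD3_c16) Lrfl Lrfl
theorem f644161 : Led Lsl_gt (LP (LK LD1_c8 LD2_c0 LD3_c32)) = (LP (LK LD1_c11 LD2_c49 LD3_c7)) :=
  Lgr Lrot9 (Lpr_df (K50.f570762 IH) (Lpr_gt (K50.f132531 IH) (Lpr_ct (K50.f644151 IH) (Lpr_gt (K50.f207386 IH) (Lpr_ct (f207330 IH) (Lpe (K45.f557977 IH) (Lpe (f204226 IH) (Lpe (K50.f204238 IH) (Lpe (K50.f204239 IH) (Lpn (LP (LK LD1_c11 LD2_c49 LD3_c7))))))))))))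
theorem f713103 : Led Lsl_ft (LP (LK LD1_c11 LD2_c49 LD3_c9)) = (LP (LK LD1_c9 LD2_c5 LD3_c60)) :=
  Lgr Lrot2 (Lpr_gt (K50.f644217 IH) (Lpr_gt (f644161 IH) (Lpr_af (f713092 IH) (Lpn (LP (LK LD1_c9 LD2_c5 LD3_c60))))))
theorem f699531 : Led Lsl_bf (LP (LK LD1_c11 LD2_c29 LD3_c39)) = (LP (LK LD1_c17 LD2_c57 LD3_c48)) :=
  Lgr Lrot24 (Lpr_bt (K50.f699529 IH) (Lpn (LP (LK LD1_c17 LD2_c57 LD3_c48))))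
theorem f644227 : Led Lsl_dt (LP (LK LD1_c11 LD2_c49 LD3_c9)) = (LP (LK LD1_c17 LD2_c57 LD3_c48)) :=
  Lgr Lrot42 (Lpr_df (K50.f644225 IH) (Lpn (LP (LK LD1_c17 LD2_c57 LD3_c48))))
theorem f699541 : Led Lsl_bt K50.v12909 = (LP (LK LD1_c11 LD2_c49 LD3_c9)) :=
  Lgr Lrot95 (Lpe (K50.f699526 IH) (Lpr_bf (f699531 IH) (Lpe (f644227 IH) (Lpn (LP (LK LD1_c11 LD2_c49 LD3_c9))))))
theorem f92150 : Led Lsl_bt (LP (LK LD1_c9 LD2_c5 LD3_c60)) = (LP (LK LD1_c4 LD2_c34 LD3_c33)) :=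
  Lre_b IH (LK LD1_c9 LD2_c5 LD3_c60) (LK LD1_c4 LD2_c34 LD3_c33) Lrfl Lrfl
def v12919 : LQ := Led Lsl_ft (LP (LK LD1_c4 LD2_c34 LD3_c33))
theorem f699591 : Led Lsl_ft (LP (LK LD1_c4 LD2_c34 LD3_c33)) = v12919 :=
  Lrfl
theorem f713109 : K50.v12909 = v12919 :=
  (Llr Lrot61 (Lpr_bt (f699541 IH) (Lpr_ft (f713103 IH) (Lpr_bt (f92150 IH) (Lpr_ft (f699591 IH) (Lpn v12919)))))).symm
theorem f615490 : Led Lsl_dt (LP (LK LD1_c9 LD2_c5 LD3_c61)) = (LP (LK LD1_c4 LD2_c34 LD3_c33)) :=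
  Lre_d IH (LK LD1_c9 LD2_c5 LD3_c61) (LK LD1_c4 LD2_c34 LD3_c33) Lrfl Lrfl
theorem f713110 : Led Lsl_ff (LP (LK LD1_c9 LD2_c5 LD3_c61)) = (LP (LK LD1_c11 LD2_c29 LD3_c39)) :=
  Lgr Lrot19 (Lpr_dt (f615490 IH) (Lpr_ft (f699591 IH) (Lpq (f713109 IH) (Lpe (K50.f699527 IH) (Lpn (LP (LK LD1_c11 LD2_c29 LD3_c39)))))))
theorem f713114 : Led Lsl_ft (LP (LK LD1_c9 LD2_c5 LD3_c61)) = (LP (LK LD1_c11 LD2_c29 LD3_c39)) :=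
  Lgr Lrot48 (Lpr_ff (f713110 IH) (Lpn (LP (LK LD1_c11 LD2_c29 LD3_c39))))
theorem f713116 : Led Lsl_af (LP (LK LD1_c5 LD2_c51 LD3_c28)) = (LP (LK LD1_c11 LD2_c29 LD3_c39)) :=
  Lgr Lrot45 (Lpr_ft (K50.f615509 IH) (Lpr_at (f699583 IH) (Lpr_ft (f713114 IH) (Lpn (LP (LK LD1_c11 LD2_c29 LD3_c39))))))
def v4883 : LQ := Led Lsl_at (LP (LK LD1_c2 LD2_c51 LD3_c59))
theorem f640700 : Led Lsl_at (LP (LK LD1_c2 LD2_c51 LD3_c59)) = v4883 :=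
  Lrfl
theorem f699528 : Led Lsl_et (LP (LK LD1_c5 LD2_c51 LD3_c4)) = (LP (LK LD1_c11 LD2_c29 LD3_c39)) :=
  Lre_e IH (LK LD1_c5 LD2_c51 LD3_c4) (LK LD1_c11 LD2_c29 LD3_c39) Lrfl Lrfl
theorem f713120 : v4883 = (LP (LK LD1_c5 LD2_c51 LD3_c4)) :=
  (Llr Lrot80 (Lpe (f640700 IH) (Lpe (K50.f22363 IH) (Lpr_af (f713116 IH) (Lpe (f699528 IH) (Lpn (LP (LK LD1_c5 LD2_c51 LD3_c4)))))))).symm
theorem f640701 : Led Lsl_af (LP (LK LD1_c2 LD2_c51 LD3_c59)) = v4883 :=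
  Lgr Lrot0 (Lpr_at (f640700 IH) (Lpn v4883))
theorem f640705 : Led Lsl_ft (LP (LK LD1_c2 LD2_c51 LD3_c60)) = v4883 :=
  Lgr Lrot2 (Lpr_gt (K51.f22296 IH) (Lpr_gt (K50.f22303 IH) (Lpr_af (f640701 IH) (Lpn v4883))))
theorem f640706 : Led Lsl_ff (LP (LK LD1_c2 LD2_c51 LD3_c60)) = v4883 :=
  Lgr Lrot3 (Lpr_ft (f640705 IH) (Lpn v4883))
def v4884 : LQ := Led Lsl_ft (LP (LK LD1_c2 LD2_c51 LD3_c59))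
theorem f640708 : Led Lsl_ft (LP (LK LD1_c2 LD2_c51 LD3_c59)) = v4884 :=
  Lrfl
theorem f640710 : Led Lsl_ff (LP (LK LD1_c2 LD2_c51 LD3_c59)) = v4884 :=
  Lgr Lrot3 (Lpr_ft (f640708 IH) (Lpn v4884))
theorem f640712 : Led Lsl_at (LP (LK LD1_c2 LD2_c51 LD3_c60)) = v4884 :=
  Lgr Lrot66 (Lpr_ff (f640706 IH) (Lpe (f640700 IH) (Lpr_ff (f640710 IH) (Lpn v4884))))
theorem f22283 : Led Lsl_gt (LP (LK LD1_c5 LD2_c51 LD3_c4)) = (LP (LK LD1_c2 LD2_c51 LD3_c61)) :=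
  Lre_g IH (LK LD1_c5 LD2_c51 LD3_c4) (LK LD1_c2 LD2_c51 LD3_c61) Lrfl Lrfl
theorem f22278 : Led Lsl_gt (LP (LK LD1_c2 LD2_c51 LD3_c61)) = (LP (LK LD1_c5 LD2_c51 LD3_c5)) :=
  Lre_g IH (LK LD1_c2 LD2_c51 LD3_c61) (LK LD1_c5 LD2_c51 LD3_c5) Lrfl Lrfl
theorem f713147 : v4884 = (LP (LK LD1_c5 LD2_c51 LD3_c5)) :=
  (Llr Lrot26 (Lpe (f640712 IH) (Lpr_ff (f640706 IH) (Lpqs (f713120 IH) (Lpr_gt (f22283 IH) (Lpr_gt (f22278 IH) (Lpn (LP (LK LD1_c5 LD2_c51 LD3_c5))))))))).symm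
theorem f640709 : Led Lsl_af (LP (LK LD1_c2 LD2_c51 LD3_c60)) = v4884 :=
  Lgr Lrot45 (Lpr_ft (f640705 IH) (Lpe (f640701 IH) (Lpr_ft (f640708 IH) (Lpn v4884))))
theorem f22350 : Led Lsl_dt (LP (LK LD1_c2 LD2_c51 LD3_c60)) = (LP (LK LD1_c5 LD2_c51 LD3_c31)) :=
  Lre_d IH (LK LD1_c2 LD2_c51 LD3_c60) (LK LD1_c5 LD2_c51 LD3_c31) Lrfl Lrfl
theorem f713160 : Led Lsl_af (LP (LK LD1_c11 LD2_c29 LD3_c41)) = (LP (LK LD1_c5 LD2_c51 LD3_c31)) :=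
  Lgr Lrot117 (Lpr_dt (f22281 IH) (Lpq (f713147 IH) (Lpe (f640709 IH) (Lpr_dt (f22350 IH) (Lpn (LP (LK LD1_c5 LD2_c51 LD3_c31)))))))
theorem f713162 : Led Lsl_at (LP (LK LD1_c11 LD2_c29 LD3_c41)) = (LP (LK LD1_c5 LD2_c51 LD3_c31)) :=
  Lgr Lrot100 (Lpr_af (f713160 IH) (Lpn (LP (LK LD1_c5 LD2_c51 LD3_c31))))
theorem f22356 : Led Lsl_dt (LP (LK LD1_c5 LD2_c51 LD3_c27)) = (LP (LK LD1_c2 LD2_c51 LD3_c59)) :=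
  Lre_d IH (LK LD1_c5 LD2_c51 LD3_c27) (LK LD1_c2 LD2_c51 LD3_c59) Lrfl Lrfl
theorem f22279 : Led Lsl_dt (LP (LK LD1_c5 LD2_c51 LD3_c5)) = (LP (LK LD1_c11 LD2_c29 LD3_c41)) :=
  Lre_d IH (LK LD1_c5 LD2_c51 LD3_c5) (LK LD1_c11 LD2_c29 LD3_c41) Lrfl Lrfl
theorem f713154 : Led Lsl_ff (LP (LK LD1_c5 LD2_c51 LD3_c27)) = (LP (LK LD1_c11 LD2_c29 LD3_c41)) :=
  Lgr Lrot19 (Lpr_dt (f22356 IH) (Lpr_ft (f640708 IH) (Lpqs (f713147 IH) (Lpr_dt (f22279 IH) (Lpn (LP (LK LD1_c11 LD2_c29 LD3_c41)))))))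
theorem f713156 : Led Lsl_ft (LP (LK LD1_c5 LD2_c51 LD3_c27)) = (LP (LK LD1_c11 LD2_c29 LD3_c41)) :=
  Lgr Lrot48 (Lpr_ff (f713154 IH) (Lpn (LP (LK LD1_c11 LD2_c29 LD3_c41))))
theorem f438265 : Led Lsl_gt (LP (LK LD1_c5 LD2_c51 LD3_c27)) = (LP (LK LD1_c11 LD2_c30 LD3_c20)) :=
  Lre_g IH (LK LD1_c5 LD2_c51 LD3_c27) (LK LD1_c11 LD2_c30 LD3_c20) Lrfl Lrfl
theorem f713209 : Led Lsl_gt (LP (LK LD1_c11 LD2_c30 LD3_c20)) = (LP (LK LD1_c5 LD2_c51 LD3_c31)) :=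
  Lgr Lrot46 (Lpe (f438265 IH) (Lpr_ft (f713156 IH) (Lpr_at (f713162 IH) (Lpn (LP (LK LD1_c5 LD2_c51 LD3_c31))))))
theorem f22299 : Led Lsl_dt (LP (LK LD1_c5 LD2_c51 LD3_c31)) = (LP (LK LD1_c2 LD2_c51 LD3_c60)) :=
  Lre_d IH (LK LD1_c5 LD2_c51 LD3_c31) (LK LD1_c2 LD2_c51 LD3_c60) Lrfl Lrfl
theorem f22233 : Led Lsl_bt (LP (LK LD1_c1 LD2_c12 LD3_c41)) = (LP (LK LD1_c2 LD2_c31 LD3_c15)) :=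
  Lre_b IH (LK LD1_c1 LD2_c12 LD3_c41) (LK LD1_c2 LD2_c31 LD3_c15) Lrfl Lrfl
theorem f22234 : Led Lsl_df (LP (LK LD1_c1 LD2_c22 LD3_c0)) = (LP (LK LD1_c2 LD2_c31 LD3_c15)) :=
  Lgr Lrot12 (Lpr_bt (K8.f22232 IH) (Lpr_dt (K7.f22228 IH) (Lpr_bt (f22233 IH) (Lpn (LP (LK LD1_c2 LD2_c31 LD3_c15))))))
theorem f22293 : Led Lsl_et (LP (LK LD1_c2 LD2_c31 LD3_c15)) = (LP (LK LD1_c1 LD2_c12 LD3_c36)) :=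
  Lre_e IH (LK LD1_c2 LD2_c31 LD3_c15) (LK LD1_c1 LD2_c12 LD3_c36) Lrfl Lrfl
theorem f22372 : Led Lsl_et (LP (LK LD1_c5 LD2_c7 LD3_c54)) = (LP (LK LD1_c2 LD2_c31 LD3_c12)) :=
  Lre_e IH (LK LD1_c5 LD2_c7 LD3_c54) (LK LD1_c2 LD2_c31 LD3_c12) Lrfl Lrfl
theorem f713211 : Led Lsl_ef (LP (LK LD1_c11 LD2_c30 LD3_c20)) = (LP (LK LD1_c19 LD2_c53 LD3_c8)) :=
  Lgr Lrot167 (Lpr_gt (f713209 IH) (Lpr_dt (f22299 IH) (Lpr_gt (K51.f22296 IH) (Lpr_df (f22234 IH) (Lpr_et (f22293 IH) (Lpr_gt (K27.f22371 IH) (Lpe (f22372 IH) (Lpe (K43.f548378 IH) (Lpr_gt (K52.f561350 IH) (Lpr_df (f710834 IH) (Lpn (LP (LK LD1_c19 LD2_c53 LD3_c8)))))))))))))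
theorem f720776 : Led Lsl_dt (LP (LK LD1_c11 LD2_c30 LD3_c20)) = v14171 :=
  Lgr Lrot77 (Lpr_ef (f713211 IH) (Lpe (f710839 IH) (Lpe (K52.f710508 IH) (Lpe (f633849 IH) (Lpr_ef (f720774 IH) (Lpn v14171))))))
theorem f713213 : Led Lsl_et (LP (LK LD1_c11 LD2_c30 LD3_c20)) = (LP (LK LD1_c19 LD2_c53 LD3_c8)) :=
  Lgr Lrot87 (Lpr_ef (f713211 IH) (Lpn (LP (LK LD1_c19 LD2_c53 LD3_c8))))
theorem f621241 : Led Lsl_et (LP (LK LD1_c11 LD2_c7 LD3_c61)) = (LP (LK LD1_c5 LD2_c38 LD3_c19)) :=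
  Lre_e IH (LK LD1_c11 LD2_c7 LD3_c61) (LK LD1_c5 LD2_c38 LD3_c19) Lrfl Lrfl
theorem f621242 : Led Lsl_dt (LP (LK LD1_c11 LD2_c7 LD3_c61)) = (LP (LK LD1_c20 LD2_c1 LD3_c39)) :=
  Lre_d IH (LK LD1_c11 LD2_c7 LD3_c61) (LK LD1_c20 LD2_c1 LD3_c39) Lrfl Lrfl
theorem f710843 : Led Lsl_gf (LP (LK LD1_c20 LD2_c1 LD3_c39)) = (LP (LK LD1_c19 LD2_c53 LD3_c8)) :=
  Lgr Lrot134 (Lpe (f621242 IH) (Lpr_et (f621241 IH) (Lpr_gt (K38.f418727 IH) (Lpe (K35.f380399 IH) (Lpr_dt (K31.f289594 IH) (Lpr_gt (K38.f211848 IH) (Lpe (K41.f380297 IH) (Lpr_et (K52.f380300 IH) (Lpr_gt (K52.f561350 IH) (Lpr_dt (f710839 IH) (Lpn (LP (LK LD1_c19 LD2_c53 LD3_c8)))))))))))))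
theorem f172118 : Led Lsl_dt (LP (LK LD1_c11 LD2_c51 LD3_c46)) = (LP (LK LD1_c20 LD2_c54 LD3_c23)) :=
  Lre_d IH (LK LD1_c11 LD2_c51 LD3_c46) (LK LD1_c20 LD2_c54 LD3_c23) Lrfl Lrfl
theorem f638737 : Led Lsl_dt (LP (LK LD1_c5 LD2_c38 LD3_c19)) = (LP (LK LD1_c11 LD2_c7 LD3_c60)) :=
  Lre_d IH (LK LD1_c5 LD2_c38 LD3_c19) (LK LD1_c11 LD2_c7 LD3_c60) Lrfl Lrfl
theorem f638738 : Led Lsl_dt (LP (LK LD1_c20 LD2_c1 LD3_c39)) = (LP (LK LD1_c11 LD2_c7 LD3_c61)) :=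
  Lre_d IH (LK LD1_c20 LD2_c1 LD3_c39) (LK LD1_c11 LD2_c7 LD3_c61) Lrfl Lrfl
theorem f638739 : Led Lsl_et (LP (LK LD1_c20 LD2_c54 LD3_c23)) = (LP (LK LD1_c20 LD2_c1 LD3_c39)) :=
  Lgr Lrot71 (Lpe (f172118 IH) (Lpr_ef (K38.f638731 IH) (Lpe (f638737 IH) (Lpe (f621241 IH) (Lpe (f638738 IH) (Lpn (LP (LK LD1_c20 LD2_c1 LD3_c39))))))))
theorem f172120 : Led Lsl_dt (LP (LK LD1_c20 LD2_c54 LD3_c23)) = (LP (LK LD1_c11 LD2_c51 LD3_c46)) :=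
  Lre_d IH (LK LD1_c20 LD2_c54 LD3_c23) (LK LD1_c11 LD2_c51 LD3_c46) Lrfl Lrfl
theorem f548583 : Led Lsl_af (LP (LK LD1_c16 LD2_c58 LD3_c41)) = (LP (LK LD1_c11 LD2_c51 LD3_c48)) :=
  Lgr Lrot0 (Lpr_at (K38.f548577 IH) (Lpn (LP (LK LD1_c11 LD2_c51 LD3_c48))))
theorem f172099 : Led Lsl_ft (LP (LK LD1_c6 LD2_c4 LD3_c3)) = (LP (LK LD1_c11 LD2_c51 LD3_c48)) :=
  Lre_f IH (LK LD1_c6 LD2_c4 LD3_c3) (LK LD1_c11 LD2_c51 LD3_c48) Lrfl Lrfl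
theorem f621172 : Led Lsl_gf (LP (LK LD1_c16 LD2_c58 LD3_c41)) = (LP (LK LD1_c11 LD2_c51 LD3_c46)) :=
  Lgr Lrot76 (Lpr_af (f548583 IH) (Lpe (f172099 IH) (Lpr_gt (K38.f172108 IH) (Lpn (LP (LK LD1_c11 LD2_c51 LD3_c46))))))
theorem f22269 : Led Lsl_et (LP (LK LD1_c10 LD2_c6 LD3_c42)) = (LP (LK LD1_c5 LD2_c8 LD3_c4)) :=
  Lre_e IH (LK LD1_c10 LD2_c6 LD3_c42) (LK LD1_c5 LD2_c8 LD3_c4) Lrfl Lrfl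
theorem f151581 : Led Lsl_df (LP (LK LD1_c5 LD2_c48 LD3_c29)) = (LP (LK LD1_c10 LD2_c5 LD3_c61)) :=
  Lgr Lrot38 (Lpr_dt (K7.f151578 IH) (Lpn (LP (LK LD1_c10 LD2_c5 LD3_c61))))
theorem f720777 : Led Lsl_gt (LP (LK LD1_c5 LD2_c48 LD3_c29)) = v14171 :=
  Lgr Lrot139 (Lpr_df (f151581 IH) (Lpe (K7.f22280 IH) (Lpe (f22269 IH) (Lpe (K7.f151747 IH) (Lpr_gf (f621172 IH) (Lpe (f172120 IH) (Lpr_et (f638739 IH) (Lpr_gf (f710843 IH) (Lpe (f713213 IH) (Lpr_dt (f720776 IH) (Lpn v14171)))))))))))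
theorem f151583 : Led Lsl_et (LP (LK LD1_c2 LD2_c50 LD3_c18)) = (LP (LK LD1_c5 LD2_c48 LD3_c29)) :=
  Lre_e IH (LK LD1_c2 LD2_c50 LD3_c18) (LK LD1_c5 LD2_c48 LD3_c29) Lrfl Lrfl
theorem f57148 : Led Lsl_dt (LP (LK LD1_c2 LD2_c50 LD3_c18)) = (LP (LK LD1_c5 LD2_c48 LD3_c28)) :=
  Lre_d IH (LK LD1_c2 LD2_c50 LD3_c18) (LK LD1_c5 LD2_c48 LD3_c28) Lrfl Lrfl
theorem f151601 : Led Lsl_gt (LP (LK LD1_c11 LD2_c26 LD3_c26)) = (LP (LK LD1_c5 LD2_c48 LD3_c28)) :=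
  Lre_g IH (LK LD1_c11 LD2_c26 LD3_c26) (LK LD1_c5 LD2_c48 LD3_c28) Lrfl Lrfl
theorem f444294 : Led Lsl_bf (LP (LK LD1_c11 LD2_c25 LD3_c7)) = (LP (LK LD1_c6 LD2_c17 LD3_c46)) :=
  Lgr Lrot24 (Lpr_bt (K52.f444281 IH) (Lpn (LP (LK LD1_c6 LD2_c17 LD3_c46))))
theorem f711763 : Led Lsl_ft (LP (LK LD1_c11 LD2_c25 LD3_c7)) = (LP (LK LD1_c11 LD2_c29 LD3_c53)) :=
  Lgr Lrot75 (Lpr_bf (f444294 IH) (Lpe (K51.f503514 IH) (Lpqs (K51.f708239 IH) (Lpr_bf (K52.f711729 IH) (Lpn (LP (LK LD1_c11 LD2_c29 LD3_c53)))))))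
theorem f712189 : Led Lsl_at (LP (LK LD1_c11 LD2_c29 LD3_c53)) = (LP (LK LD1_c11 LD2_c25 LD3_c41)) :=
  Lgr Lrot66 (Lpe (f711763 IH) (Lpr_af (K52.f711819 IH) (Lpr_ff (K52.f712173 IH) (Lpn (LP (LK LD1_c11 LD2_c25 LD3_c41))))))
theorem f711760 : Led Lsl_et (LP (LK LD1_c20 LD2_c27 LD3_c2)) = (LP (LK LD1_c11 LD2_c29 LD3_c53)) :=
  Lre_e IH (LK LD1_c20 LD2_c27 LD3_c2) (LK LD1_c11 LD2_c29 LD3_c53) Lrfl Lrfl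
theorem f712248 : Led Lsl_et (LP (LK LD1_c11 LD2_c25 LD3_c41)) = (LP (LK LD1_c20 LD2_c23 LD3_c11)) :=
  Lre_e IH (LK LD1_c11 LD2_c25 LD3_c41) (LK LD1_c20 LD2_c23 LD3_c11) Lrfl Lrfl
theorem f712249 : Led Lsl_af (LP (LK LD1_c20 LD2_c27 LD3_c2)) = (LP (LK LD1_c20 LD2_c23 LD3_c11)) :=
  Lgr Lrot50 (Lpr_et (f711760 IH) (Lpr_at (f712189 IH) (Lpr_et (f712248 IH) (Lpn (LP (LK LD1_c20 LD2_c23 LD3_c11))))))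
theorem f615519 : Led Lsl_ct (LP (LK LD1_c20 LD2_c27 LD3_c2)) = (LP (LK LD1_c11 LD2_c29 LD3_c55)) :=
  Lre_c IH (LK LD1_c20 LD2_c27 LD3_c2) (LK LD1_c11 LD2_c29 LD3_c55) Lrfl Lrfl
theorem f712253 : Led Lsl_ct (LP (LK LD1_c11 LD2_c25 LD3_c43)) = (LP (LK LD1_c20 LD2_c23 LD3_c11)) :=
  Lre_c IH (LK LD1_c11 LD2_c25 LD3_c43) (LK LD1_c20 LD2_c23 LD3_c11) Lrfl Lrfl
theorem f712254 : Led Lsl_at (LP (LK LD1_c11 LD2_c29 LD3_c55)) = (LP (LK LD1_c11 LD2_c25 LD3_c43)) :=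
  Lgr Lrot107 (Lpe (f615519 IH) (Lpr_af (f712249 IH) (Lpe (f712253 IH) (Lpn (LP (LK LD1_c11 LD2_c25 LD3_c43))))))
theorem f413634 : Led Lsl_ef (LP (LK LD1_c3 LD2_c3 LD3_c1)) = (LP (LK LD1_c2 LD2_c49 LD3_c46)) :=
  Lgr Lrot88 (Lpr_et (K16.f413629 IH) (Lpn (LP (LK LD1_c2 LD2_c49 LD3_c46))))
theorem f413624 : Led Lsl_bt (LP (LK LD1_c3 LD2_c3 LD3_c1)) = (LP (LK LD1_c6 LD2_c12 LD3_c44)) :=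
  Lre_b IH (LK LD1_c3 LD2_c3 LD3_c1) (LK LD1_c6 LD2_c12 LD3_c44) Lrfl Lrfl
theorem f416402 : Led Lsl_et (LP (LK LD1_c6 LD2_c12 LD3_c44)) = (LP (LK LD1_c5 LD2_c47 LD3_c37)) :=
  Lgr Lrot74 (Lpe (f413624 IH) (Lpr_ef (f413634 IH) (Lpe (K52.f79883 IH) (Lpn (LP (LK LD1_c5 LD2_c47 LD3_c37))))))
def v13188 : LQ := Led Lsl_bt (LP (LK LD1_c4 LD2_c41 LD3_c7))
theorem f701582 : Led Lsl_bt (LP (LK LD1_c4 LD2_c41 LD3_c7)) = v13188 :=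
  Lrfl
theorem f413628 : Led Lsl_bt (LP (LK LD1_c6 LD2_c12 LD3_c44)) = (LP (LK LD1_c3 LD2_c3 LD3_c1)) :=
  Lre_b IH (LK LD1_c6 LD2_c12 LD3_c44) (LK LD1_c3 LD2_c3 LD3_c1) Lrfl Lrfl
theorem f701586 : Led Lsl_ff (LP (LK LD1_c6 LD2_c12 LD3_c44)) = v13188 :=
  Lgr Lrot25 (Lpr_bt (f413628 IH) (Lpr_ft (K50.f504026 IH) (Lpr_bt (f701582 IH) (Lpn v13188))))
theorem f445963 : Led Lsl_bt (LP (LK LD1_c12 LD2_c29 LD3_c47)) = (LP (LK LD1_c6 LD2_c30 LD3_c5)) :=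
  Lre_b IH (LK LD1_c12 LD2_c29 LD3_c47) (LK LD1_c6 LD2_c30 LD3_c5) Lrfl Lrfl
theorem f701585 : Led Lsl_ef (LP (LK LD1_c12 LD2_c29 LD3_c47)) = v13188 :=
  Lgr Lrot29 (Lpr_bt (f445963 IH) (Lpr_et (K35.f504018 IH) (Lpr_bt (f701582 IH) (Lpn v13188))))
theorem f701588 : Led Lsl_et (LP (LK LD1_c12 LD2_c29 LD3_c47)) = v13188 :=
  Lgr Lrot87 (Lpr_ef (f701585 IH) (Lpn v13188))
theorem f545019 : Led Lsl_et (LP (LK LD1_c5 LD2_c51 LD3_c12)) = (LP (LK LD1_c11 LD2_c29 LD3_c55)) :=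
  Lre_e IH (LK LD1_c5 LD2_c51 LD3_c12) (LK LD1_c11 LD2_c29 LD3_c55) Lrfl Lrfl
theorem f711775 : Led Lsl_ff (LP (LK LD1_c12 LD2_c29 LD3_c47)) = (LP (LK LD1_c11 LD2_c29 LD3_c55)) :=
  Lgr Lrot72 (Lpr_et (f701588 IH) (Lpe (f701586 IH) (Lpr_et (f416402 IH) (Lpr_ft (K52.f640728 IH) (Lpqs (K52.f711766 IH) (Lpr_et (f545019 IH) (Lpn (LP (LK LD1_c11 LD2_c29 LD3_c55)))))))))
theorem f711781 : Led Lsl_ft (LP (LK LD1_c12 LD2_c29 LD3_c47)) = (LP (LK LD1_c11 LD2_c29 LD3_c55)) :=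
  Lgr Lrot48 (Lpr_ff (f711775 IH) (Lpn (LP (LK LD1_c11 LD2_c29 LD3_c55))))
theorem f503449 : Led Lsl_bt (LP (LK LD1_c6 LD2_c30 LD3_c5)) = (LP (LK LD1_c12 LD2_c29 LD3_c47)) :=
  Lre_b IH (LK LD1_c6 LD2_c30 LD3_c5) (LK LD1_c12 LD2_c29 LD3_c47) Lrfl Lrfl
theorem f711783 : Led Lsl_bf (LP (LK LD1_c5 LD2_c51 LD3_c41)) = (LP (LK LD1_c11 LD2_c29 LD3_c55)) :=
  Lgr Lrot61 (Lpe (K35.f503445 IH) (Lpr_bt (f503449 IH) (Lpr_ft (f711781 IH) (Lpn (LP (LK LD1_c11 LD2_c29 LD3_c55))))))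
theorem f438567 : Led Lsl_bt (LP (LK LD1_c6 LD2_c26 LD3_c36)) = (LP (LK LD1_c12 LD2_c25 LD3_c7)) :=
  Lre_b IH (LK LD1_c6 LD2_c26 LD3_c36) (LK LD1_c12 LD2_c25 LD3_c7) Lrfl Lrfl
theorem f711788 : Led Lsl_dt (LP (LK LD1_c12 LD2_c25 LD3_c7)) = (LP (LK LD1_c11 LD2_c29 LD3_c55)) :=
  Lgr Lrot79 (Lpe (f438567 IH) (Lpr_df (K32.f438565 IH) (Lpr_bf (f711783 IH) (Lpn (LP (LK LD1_c11 LD2_c29 LD3_c55))))))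
theorem f440851 : Led Lsl_dt (LP (LK LD1_c11 LD2_c25 LD3_c43)) = (LP (LK LD1_c11 LD2_c26 LD3_c25)) :=
  Lre_d IH (LK LD1_c11 LD2_c25 LD3_c43) (LK LD1_c11 LD2_c26 LD3_c25) Lrfl Lrfl
theorem f712257 : Led Lsl_af (LP (LK LD1_c12 LD2_c25 LD3_c7)) = (LP (LK LD1_c11 LD2_c26 LD3_c25)) :=
  Lgr Lrot117 (Lpr_dt (f711788 IH) (Lpr_at (f712254 IH) (Lpr_dt (f440851 IH) (Lpn (LP (LK LD1_c11 LD2_c26 LD3_c25))))))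
theorem f712261 : Led Lsl_at (LP (LK LD1_c12 LD2_c25 LD3_c7)) = (LP (LK LD1_c11 LD2_c26 LD3_c25)) :=
  Lgr Lrot100 (Lpr_af (f712257 IH) (Lpn (LP (LK LD1_c11 LD2_c26 LD3_c25))))
theorem f151598 : Led Lsl_gt (LP (LK LD1_c5 LD2_c48 LD3_c28)) = (LP (LK LD1_c11 LD2_c26 LD3_c25)) :=
  Lre_g IH (LK LD1_c5 LD2_c48 LD3_c28) (LK LD1_c11 LD2_c26 LD3_c25) Lrfl Lrfl
theorem f712268 : Led Lsl_ff (LP (LK LD1_c12 LD2_c25 LD3_c7)) = (LP (LK LD1_c11 LD2_c26 LD3_c26)) :=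
  Lgr Lrot52 (Lpr_at (f712261 IH) (Lpe (f151598 IH) (Lpe (f151601 IH) (Lpn (LP (LK LD1_c11 LD2_c26 LD3_c26))))))
theorem f712274 : Led Lsl_dt (LP (LK LD1_c12 LD2_c29 LD3_c47)) = (LP (LK LD1_c11 LD2_c26 LD3_c26)) :=
  Lgr Lrot60 (Lpr_ff (f711775 IH) (Lpe (f711788 IH) (Lpr_ff (f712268 IH) (Lpn (LP (LK LD1_c11 LD2_c26 LD3_c26))))))
theorem f710514 : Led Lsl_ef (LP (LK LD1_c9 LD2_c50 LD3_c61)) = (LP (LK LD1_c11 LD2_c7 LD3_c14)) :=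
  Lgr Lrot88 (Lpr_et (K52.f710508 IH) (Lpn (LP (LK LD1_c11 LD2_c7 LD3_c14))))
theorem f720773 : Led Lsl_df (LP (LK LD1_c11 LD2_c30 LD3_c20)) = v14171 :=
  Lgr Lrot70 (Lpr_et (f713213 IH) (Lpe (f710834 IH) (Lpe (f710514 IH) (Lpr_dt (K51.f633848 IH) (Lpr_et (f720771 IH) (Lpn v14171))))))
theorem f621198 : Led Lsl_et (LP (LK LD1_c2 LD2_c51 LD3_c60)) = (LP (LK LD1_c5 LD2_c51 LD3_c32)) :=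
  Lre_e IH (LK LD1_c2 LD2_c51 LD3_c60) (LK LD1_c5 LD2_c51 LD3_c32) Lrfl Lrfl
theorem f720778 : Led Lsl_gf v13188 = (LP (LK LD1_c5 LD2_c51 LD3_c32)) :=
  Lgr Lrot141 (Lpe (f701588 IH) (Lpr_dt (f712274 IH) (Lpr_gt (f151601 IH) (Lpe (f57148 IH) (Lpr_et (f151583 IH) (Lpr_gt (f720777 IH) (Lpe (f720773 IH) (Lpr_gt (f713209 IH) (Lpe (f22350 IH) (Lpr_et (f621198 IH) (Lpn (LP (LK LD1_c5 LD2_c51 LD3_c32)))))))))))))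
def v6600 : LQ := Led Lsl_bt (LP (LK LD1_c3 LD2_c24 LD3_c7))
theorem f654376 : Led Lsl_bt (LP (LK LD1_c3 LD2_c24 LD3_c7)) = v6600 :=
  Lrfl
theorem f654377 : Led Lsl_bf (LP (LK LD1_c3 LD2_c24 LD3_c7)) = v6600 :=
  Lgr Lrot24 (Lpr_bt (f654376 IH) (Lpn v6600))
theorem f701584 : Led Lsl_df v6600 = v13188 :=
  Lgr Lrot12 (Lpe (f654377 IH) (Lpr_dt (K17.f414273 IH) (Lpr_bt (f701582 IH) (Lpn v13188))))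
def v13906 : LQ := Led Lsl_dt (LP (LK LD1_c4 LD2_c49 LD3_c48))
theorem f705826 : Led Lsl_dt (LP (LK LD1_c4 LD2_c49 LD3_c48)) = v13906 :=
  Lrfl
theorem f720779 : Led Lsl_gt v6600 = v13906 :=
  Lgr Lrot139 (Lpr_df (f701584 IH) (Lpr_gf (f720778 IH) (Lpe (f621198 IH) (Lpr_dt (f22350 IH) (Lpe (f713209 IH) (Lpr_df (f720773 IH) (Lpe (f720774 IH) (Lpe (K52.f633861 IH) (Lpq (K52.f710498 IH) (Lpe (f699551 IH) (Lpqs (K52.f710129 IH) (Lpr_dt (f705826 IH) (Lpn v13906)))))))))))))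
theorem f710285 : Led Lsl_gt (LP (LK LD1_c11 LD2_c30 LD3_c29)) = (LP (LK LD1_c20 LD2_c27 LD3_c33)) :=
  Lre_g IH (LK LD1_c11 LD2_c30 LD3_c29) (LK LD1_c20 LD2_c27 LD3_c33) Lrfl Lrfl
theorem f705827 : Led Lsl_df (LP (LK LD1_c4 LD2_c49 LD3_c48)) = v13906 :=
  Lgr Lrot38 (Lpr_dt (f705826 IH) (Lpn v13906))
def v13905 : LQ := Led Lsl_ct (LP (LK LD1_c4 LD2_c49 LD3_c48))
theorem f705822 : Led Lsl_ct (LP (LK LD1_c4 LD2_c49 LD3_c48)) = v13905 :=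
  Lrfl
theorem f705823 : Led Lsl_cf (LP (LK LD1_c4 LD2_c49 LD3_c48)) = v13905 :=
  Lgr Lrot11 (Lpr_ct (f705822 IH) (Lpn v13905))
theorem f438261 : Led Lsl_ft (LP (LK LD1_c7 LD2_c44 LD3_c13)) = (LP (LK LD1_c3 LD2_c51 LD3_c22)) :=
  Lre_f IH (LK LD1_c7 LD2_c44 LD3_c13) (LK LD1_c3 LD2_c51 LD3_c22) Lrfl Lrfl
theorem f640503 : Led Lsl_cf (LP (LK LD1_c7 LD2_c44 LD3_c13)) = K52.v4831 :=
  Lgr Lrot108 (Lpr_ft (f438261 IH) (Lpe (K51.f136240 IH) (Lpr_ft (K52.f640502 IH) (Lpn K52.v4831))))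
theorem f710137 : (LP (LK LD1_c7 LD2_c44 LD3_c13)) = v13905 :=
  Lefun (Lecon (Lfl_cf (f640503 IH)) (K52.f710129 IH)) (f705822 IH)
theorem f640506 : Led Lsl_dt (LP (LK LD1_c14 LD2_c35 LD3_c33)) = (LP (LK LD1_c7 LD2_c44 LD3_c13)) :=
  Lre_d IH (LK LD1_c14 LD2_c35 LD3_c33) (LK LD1_c7 LD2_c44 LD3_c13) Lrfl Lrfl
theorem f130646 : Led Lsl_bt (LP (LK LD1_c13 LD2_c19 LD3_c32)) = (LP (LK LD1_c22 LD2_c35 LD3_c44)) :=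
  Lre_b IH (LK LD1_c13 LD2_c19 LD3_c32) (LK LD1_c22 LD2_c35 LD3_c44) Lrfl Lrfl
theorem f130647 : Led Lsl_bt (LP (LK LD1_c14 LD2_c35 LD3_c33)) = (LP (LK LD1_c7 LD2_c44 LD3_c20)) :=
  Lre_b IH (LK LD1_c14 LD2_c35 LD3_c33) (LK LD1_c7 LD2_c44 LD3_c20) Lrfl Lrfl
theorem f707442 : Led Lsl_af (LP (LK LD1_c14 LD2_c35 LD3_c33)) = (LP (LK LD1_c12 LD2_c57 LD3_c38)) :=
  Lgr Lrot36 (Lpr_bt (f130647 IH) (Lpe (K5.f130633 IH) (Lpr_bt (f130646 IH) (Lpr_at (K51.f707437 IH) (Lpe (K51.f652834 IH) (Lpn (LP (LK LD1_c12 LD2_c57 LD3_c38))))))))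
theorem f65984 : Led Lsl_dt (LP (LK LD1_c7 LD2_c44 LD3_c9)) = (LP (LK LD1_c14 LD2_c35 LD3_c23)) :=
  Lre_d IH (LK LD1_c7 LD2_c44 LD3_c9) (LK LD1_c14 LD2_c35 LD3_c23) Lrfl Lrfl
theorem f707402 : Led Lsl_ft (LP (LK LD1_c14 LD2_c35 LD3_c23)) = (LP (LK LD1_c12 LD2_c57 LD3_c38)) :=
  Lgr Lrot54 (Lpe (f65984 IH) (Lpr_ff (K51.f707394 IH) (Lpe (K51.f454459 IH) (Lpn (LP (LK LD1_c12 LD2_c57 LD3_c38))))))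
theorem f130539 : Led Lsl_gt (LP (LK LD1_c14 LD2_c35 LD3_c23)) = (LP (LK LD1_c24 LD2_c18 LD3_c34)) :=
  Lre_g IH (LK LD1_c14 LD2_c35 LD3_c23) (LK LD1_c24 LD2_c18 LD3_c34) Lrfl Lrfl
theorem f715999 : Led Lsl_gf (LP (LK LD1_c14 LD2_c35 LD3_c33)) = (LP (LK LD1_c24 LD2_c18 LD3_c34)) :=
  Lgr Lrot76 (Lpr_af (f707442 IH) (Lpe (f707402 IH) (Lpr_gt (f130539 IH) (Lpn (LP (LK LD1_c24 LD2_c18 LD3_c34))))))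
theorem f720781 : Led Lsl_dt (LP (LK LD1_c20 LD2_c27 LD3_c33)) = (LP (LK LD1_c24 LD2_c18 LD3_c34)) :=
  Lgr Lrot57 (Lpe (f710285 IH) (Lpe (K51.f710279 IH) (Lpe (f720778 IH) (Lpe (f701584 IH) (Lpr_gt (f720779 IH) (Lpe (f705827 IH) (Lpr_cf (f705823 IH) (Lpq (f710137 IH) (Lpe (f640506 IH) (Lpr_gf (f715999 IH) (Lpn (LP (LK LD1_c24 LD2_c18 LD3_c34)))))))))))))
theorem f720782 : Led Lsl_dt (LP (LK LD1_c20 LD2_c27 LD3_c33)) = (LP (LK LD1_c24 LD2_c18 LD3_c34)) :=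
  Leop (Lpe (f720781 IH) (Lpn (LP (LK LD1_c20 LD2_c27 LD3_c33))))
theorem seed_823 : LEOK LG_d (LK LD1_c20 LD2_c27 LD3_c33) :=
  Leoe_d (LK LD1_c20 LD2_c27 LD3_c33) (f720782 IH)
theorem f710147 : Led Lsl_ff v13906 = K52.v4830 :=
  Lgr Lrot19 (Lpe (f705827 IH) (Lpq (K52.f710129 IH) (Lpe (K52.f640504 IH) (Lpr_dt (K52.f640498 IH) (Lpn K52.v4830)))))
theorem f710149 : Led Lsl_ft v13906 = K52.v4830 :=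
  Lgr Lrot48 (Lpr_ff (f710147 IH) (Lpn K52.v4830))
theorem f640501 : Led Lsl_et (LP (LK LD1_c2 LD2_c51 LD3_c45)) = K52.v4830 :=
  Lgr Lrot87 (Lpr_ef (K52.f640500 IH) (Lpn K52.v4830))
theorem f699561 : Led Lsl_at K52.v4830 = K52.v12915 :=
  Lgr Lrot80 (Lpe (f640501 IH) (Lpr_af (K38.f208542 IH) (Lpr_ef (K52.f699560 IH) (Lpn K52.v12915))))
def v6444 : LQ := Led Lsl_dt (LP (LK LD1_c3 LD2_c21 LD3_c48))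
theorem f653441 : Led Lsl_dt (LP (LK LD1_c3 LD2_c21 LD3_c48)) = v6444 :=
  Lrfl
theorem f707396 : Led Lsl_ff K52.v12915 = v6444 :=
  Lgr Lrot19 (Lpe (K52.f699559 IH) (Lpq (K51.f707383 IH) (Lpe (K51.f653448 IH) (Lpr_dt (f653441 IH) (Lpn v6444)))))
theorem f707397 : Led Lsl_ft K52.v12915 = v6444 :=
  Lgr Lrot48 (Lpr_ff (f707396 IH) (Lpn v6444))
theorem f710150 : Led Lsl_af v13906 = v6444 :=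
  Lgr Lrot45 (Lpr_ft (f710149 IH) (Lpr_at (f699561 IH) (Lpr_ft (f707397 IH) (Lpn v6444))))
theorem f720780 : Led Lsl_gf v6600 = K52.v12915 :=
  Lgr Lrot47 (Lpr_gt (f720779 IH) (Lpr_af (f710150 IH) (Lpe (f707397 IH) (Lpn K52.v12915))))
theorem f112940 : Led Lsl_et (LP (LK LD1_c4 LD2_c34 LD3_c30)) = (LP (LK LD1_c2 LD2_c14 LD3_c13)) :=
  Lre_e IH (LK LD1_c4 LD2_c34 LD3_c30) (LK LD1_c2 LD2_c14 LD3_c13) Lrfl Lrfl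
theorem f146493 : Led Lsl_dt (LP (LK LD1_c2 LD2_c50 LD3_c6)) = (LP (LK LD1_c5 LD2_c48 LD3_c10)) :=
  Lre_d IH (LK LD1_c2 LD2_c50 LD3_c6) (LK LD1_c5 LD2_c48 LD3_c10) Lrfl Lrfl
theorem f146494 : Led Lsl_gt (LP (LK LD1_c11 LD2_c25 LD3_c58)) = (LP (LK LD1_c5 LD2_c48 LD3_c10)) :=
  Lre_g IH (LK LD1_c11 LD2_c25 LD3_c58) (LK LD1_c5 LD2_c48 LD3_c10) Lrfl Lrfl
theorem f130552 : Led Lsl_et (LP (LK LD1_c9 LD2_c6 LD3_c30)) = (LP (LK LD1_c4 LD2_c34 LD3_c54)) :=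
  Lre_e IH (LK LD1_c9 LD2_c6 LD3_c30) (LK LD1_c4 LD2_c34 LD3_c54) Lrfl Lrfl
theorem f146495 : Led Lsl_dt (LP (LK LD1_c9 LD2_c6 LD3_c30)) = (LP (LK LD1_c11 LD2_c25 LD3_c58)) :=
  Lgr Lrot136 (Lpr_et (f130552 IH) (Lpe (K52.f25233 IH) (Lpe (K52.f109945 IH) (Lpr_dt (K6.f20400 IH) (Lpe (K2.f20406 IH) (Lpe (K5.f130546 IH) (Lpr_gf (K6.f146484 IH) (Lpe (K32.f146492 IH) (Lpr_dt (f146493 IH) (Lpe (f146494 IH) (Lpn (LP (LK LD1_c11 LD2_c25 LD3_c58)))))))))))))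
theorem f720789 : Led Lsl_gt (LP (LK LD1_c12 LD2_c29 LD3_c47)) = (LP (LK LD1_c9 LD2_c6 LD3_c30)) :=
  Lgr Lrot137 (Lpr_ef (f701585 IH) (Lpe (f701584 IH) (Lpr_gf (f720780 IH) (Lpe (K52.f699557 IH) (Lpr_et (f112940 IH) (Lpr_gf (K6.f146484 IH) (Lpe (K32.f146492 IH) (Lpr_dt (f146493 IH) (Lpe (f146494 IH) (Lpe (f146495 IH) (Lpn (LP (LK LD1_c9 LD2_c6 LD3_c30)))))))))))))
theorem f720790 : Led Lsl_gt (LP (LK LD1_c12 LD2_c29 LD3_c47)) = (LP (LK LD1_c9 LD2_c6 LD3_c30)) :=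
  Leop (Lpe (f720789 IH) (Lpn (LP (LK LD1_c12 LD2_c29 LD3_c47))))
theorem seed_824 : LEOK LG_g (LK LD1_c12 LD2_c29 LD3_c47) :=
  Leoe_g (LK LD1_c12 LD2_c29 LD3_c47) (f720790 IH)
def v14186 : LQ := Led Lsl_ct (LP (LK LD1_c5 LD2_c2 LD3_c3))
theorem f720889 : Led Lsl_ct (LP (LK LD1_c5 LD2_c2 LD3_c3)) = v14186 :=
  Lrfl
def v14185 : LQ := Led Lsl_bt (LP (LK LD1_c5 LD2_c2 LD3_c3))
theorem f720887 : Led Lsl_bt (LP (LK LD1_c5 LD2_c2 LD3_c3)) = v14185 :=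
  Lrfl
theorem f165342 : Led Lsl_bt (LP (LK LD1_c5 LD2_c0 LD3_c56)) = (LP (LK LD1_c4 LD2_c1 LD3_c57)) :=
  Lgr Lrot127 (Lpr_bf (K10.f163892 IH) (Lpn (LP (LK LD1_c4 LD2_c1 LD3_c57))))
theorem f21751 : Led Lsl_at (LP (LK LD1_c5 LD2_c2 LD3_c1)) = (LP (LK LD1_c9 LD2_c52 LD3_c16)) :=
  Lre_a IH (LK LD1_c5 LD2_c2 LD3_c1) (LK LD1_c9 LD2_c52 LD3_c16) Lrfl Lrfl
theorem f21765 : Led Lsl_gt (LP (LK LD1_c10 LD2_c9 LD3_c26)) = (LP (LK LD1_c9 LD2_c52 LD3_c16)) :=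
  Lgr Lrot46 (Lpe (K22.f21764 IH) (Lpr_ft (K10.f21742 IH) (Lpr_at (f21751 IH) (Lpn (LP (LK LD1_c9 LD2_c52 LD3_c16))))))
theorem f45844 : Led Lsl_ct (LP (LK LD1_c8 LD2_c5 LD3_c47)) = (LP (LK LD1_c15 LD2_c14 LD3_c40)) :=
  Lre_c IH (LK LD1_c8 LD2_c5 LD3_c47) (LK LD1_c15 LD2_c14 LD3_c40) Lrfl Lrfl
theorem f720891 : Led Lsl_gf (LP (LK LD1_c15 LD2_c14 LD3_c40)) = v14186 :=
  Lgr Lrot129 (Lpe (f45844 IH) (Lpr_bt (K1.f45831 IH) (Lpr_gt (K19.f43955 IH) (Lpe (K22.f339878 IH) (Lpr_ct (K22.f339872 IH) (Lpr_gt (f21765 IH) (Lpe (K10.f21769 IH) (Lpr_bt (f165342 IH) (Lpe (K22.f339815 IH) (Lpr_ct (f720889 IH) (Lpn v14186)))))))))))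
theorem f214369 : Led Lsl_ff (LP (LK LD1_c9 LD2_c56 LD3_c25)) = (LP (LK LD1_c9 LD2_c40 LD3_c34)) :=
  Lgr Lrot3 (Lpr_ft (K13.f214340 IH) (Lpn (LP (LK LD1_c9 LD2_c40 LD3_c34))))
theorem f215002 : Led Lsl_gf (LP (LK LD1_c10 LD2_c9 LD3_c39)) = (LP (LK LD1_c17 LD2_c47 LD3_c58)) :=
  Lgr Lrot76 (Lpr_af (K12.f214139 IH) (Lpr_ff (f214369 IH) (Lpr_gt (K21.f43588 IH) (Lpn (LP (LK LD1_c17 LD2_c47 LD3_c58))))))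
theorem f720892 : Led Lsl_gf v14185 = (LP (LK LD1_c9 LD2_c40 LD3_c6)) :=
  Lgr Lrot124 (Lpe (f720887 IH) (Lpr_ct (f720889 IH) (Lpe (f720891 IH) (Lpe (f45844 IH) (Lpr_bt (K1.f45831 IH) (Lpr_gt (K19.f43955 IH) (Lpe (K23.f339894 IH) (Lpe (f215002 IH) (Lpe (K13.f214120 IH) (Lpr_bt (K15.f214543 IH) (Lpn (LP (LK LD1_c9 LD2_c40 LD3_c6)))))))))))))
theorem f50050 : Led Lsl_at (LP (LK LD1_c9 LD2_c39 LD3_c28)) = (LP (LK LD1_c15 LD2_c50 LD3_c51)) :=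
  Lgr Lrot66 (Lpr_ff (K15.f44452 IH) (Lpe (K14.f43557 IH) (Lpr_ff (K9.f50048 IH) (Lpn (LP (LK LD1_c15 LD2_c50 LD3_c51))))))
theorem f720893 : Led Lsl_gt v14185 = (LP (LK LD1_c15 LD2_c50 LD3_c51)) :=
  Lgr Lrot46 (Lpr_gf (f720892 IH) (Lpe (K15.f44452 IH) (Lpr_at (f50050 IH) (Lpn (LP (LK LD1_c15 LD2_c50 LD3_c51))))))
theorem f46074 : Led Lsl_ct (LP (LK LD1_c5 LD2_c20 LD3_c14)) = (LP (LK LD1_c10 LD2_c30 LD3_c27)) :=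
  Lre_c IH (LK LD1_c5 LD2_c20 LD3_c14) (LK LD1_c10 LD2_c30 LD3_c27) Lrfl Lrfl
theorem f335249 : Led Lsl_gt (LP (LK LD1_c10 LD2_c30 LD3_c27)) = (LP (LK LD1_c10 LD2_c22 LD3_c25)) :=
  Lgr Lrot149 (Lpe (f46074 IH) (Lpr_gf (K20.f46315 IH) (Lpe (K1.f44081 IH) (Lpr_ct (K19.f190723 IH) (Lpr_gf (K23.f335243 IH) (Lpe (K23.f43375 IH) (Lpe (K22.f335210 IH) (Lpe (K14.f214978 IH) (Lpr_bf (K21.f214266 IH) (Lpe (K21.f191654 IH) (Lpn (LP (LK LD1_c10 LD2_c22 LD3_c25)))))))))))))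
theorem f335253 : Led Lsl_gf (LP (LK LD1_c10 LD2_c30 LD3_c27)) = (LP (LK LD1_c10 LD2_c22 LD3_c10)) :=
  Lgr Lrot47 (Lpr_gt (f335249 IH) (Lpr_af (K21.f191644 IH) (Lpe (K12.f191604 IH) (Lpn (LP (LK LD1_c10 LD2_c22 LD3_c10))))))
theorem f306557 : Led Lsl_bt (LP (LK LD1_c5 LD2_c20 LD3_c14)) = (LP (LK LD1_c5 LD2_c19 LD3_c42)) :=
  Lgr Lrot127 (Lpr_bf (K23.f306555 IH) (Lpn (LP (LK LD1_c5 LD2_c19 LD3_c42))))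
theorem f258136 : Led Lsl_gt (LP (LK LD1_c5 LD2_c19 LD3_c42)) = (LP (LK LD1_c4 LD2_c27 LD3_c31)) :=
  Lgr Lrot112 (Lpe (K23.f212329 IH) (Lpr_et (K23.f258131 IH) (Lpe (K23.f169874 IH) (Lpe (K14.f230800 IH) (Lpr_dt (K14.f230798 IH) (Lpe (K16.f170657 IH) (Lpr_df (K10.f178533 IH) (Lpe (K9.f182206 IH) (Lpe (K1.f44767 IH) (Lpr_dt (K1.f46068 IH) (Lpn (LP (LK LD1_c4 LD2_c27 LD3_c31)))))))))))))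
theorem f46981 : Led Lsl_bf (LP (LK LD1_c4 LD2_c27 LD3_c31)) = (LP (LK LD1_c4 LD2_c2 LD3_c32)) :=
  Lgr Lrot61 (Lpe (K1.f44754 IH) (Lpr_bt (K1.f44759 IH) (Lpr_ft (K1.f46972 IH) (Lpn (LP (LK LD1_c4 LD2_c2 LD3_c32))))))
theorem f46034 : Led Lsl_ct (LP (LK LD1_c4 LD2_c2 LD3_c32)) = (LP (LK LD1_c8 LD2_c5 LD3_c38)) :=
  Lre_c IH (LK LD1_c4 LD2_c2 LD3_c32) (LK LD1_c8 LD2_c5 LD3_c38) Lrfl Lrfl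
theorem f720894 : Led Lsl_gf v14186 = (LP (LK LD1_c8 LD2_c5 LD3_c38)) :=
  Lgr Lrot126 (Lpe (f720889 IH) (Lpr_bt (f720887 IH) (Lpr_gt (f720893 IH) (Lpe (K14.f191611 IH) (Lpe (f335253 IH) (Lpe (f46074 IH) (Lpr_bt (f306557 IH) (Lpr_gt (f258136 IH) (Lpr_bf (f46981 IH) (Lpr_ct (f46034 IH) (Lpn (LP (LK LD1_c8 LD2_c5 LD3_c38)))))))))))))
theorem f720890 : Led Lsl_cf (LP (LK LD1_c5 LD2_c2 LD3_c3)) = v14186 :=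
  Lgr Lrot11 (Lpr_ct (f720889 IH) (Lpn v14186))
theorem f33920 : Led Lsl_gt (LP (LK LD1_c27 LD2_c49 LD3_c5)) = (LP (LK LD1_c18 LD2_c8 LD3_c45)) :=
  Lre_g IH (LK LD1_c27 LD2_c49 LD3_c5) (LK LD1_c18 LD2_c8 LD3_c45) Lrfl Lrfl
theorem f46038 : Led Lsl_dt (LP (LK LD1_c15 LD2_c14 LD3_c26)) = (LP (LK LD1_c8 LD2_c5 LD3_c38)) :=
  Lre_d IH (LK LD1_c15 LD2_c14 LD3_c26) (LK LD1_c8 LD2_c5 LD3_c38) Lrfl Lrfl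
theorem f184609 : Led Lsl_gt (LP (LK LD1_c15 LD2_c14 LD3_c26)) = (LP (LK LD1_c25 LD2_c3 LD3_c32)) :=
  Lre_g IH (LK LD1_c15 LD2_c14 LD3_c26) (LK LD1_c25 LD2_c3 LD3_c32) Lrfl Lrfl
theorem f720895 : Led Lsl_cf (LP (LK LD1_c27 LD2_c49 LD3_c5)) = (LP (LK LD1_c25 LD2_c3 LD3_c32)) :=
  Lgr Lrot169 (Lpr_gt (f33920 IH) (Lpr_ct (K0.f21807 IH) (Lpe (K0.f21759 IH) (Lpe (K0.f21781 IH) (Lpe (K22.f33929 IH) (Lpr_cf (f720890 IH) (Lpr_gf (f720894 IH) (Lpe (f46038 IH) (Lpr_gt (f184609 IH) (Lpn (LP (LK LD1_c25 LD2_c3 LD3_c32))))))))))))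
theorem f720896 : Led Lsl_ct (LP (LK LD1_c25 LD2_c3 LD3_c32)) = (LP (LK LD1_c27 LD2_c49 LD3_c5)) :=
  Leop (Lpr_cf (f720895 IH) (Lpn (LP (LK LD1_c25 LD2_c3 LD3_c32))))
theorem seed_825 : LEOK LG_c (LK LD1_c25 LD2_c3 LD3_c32) :=
  Leoe_c (LK LD1_c25 LD2_c3 LD3_c32) (f720896 IH)
theorem f274695 : Led Lsl_et (LP (LK LD1_c9 LD2_c52 LD3_c33)) = (LP (LK LD1_c9 LD2_c54 LD3_c50)) :=
  Lgr Lrot87 (Lpr_ef (K22.f274688 IH) (Lpn (LP (LK LD1_c9 LD2_c54 LD3_c50))))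
theorem f274698 : Led Lsl_ct (LP (LK LD1_c9 LD2_c54 LD3_c50)) = (LP (LK LD1_c18 LD2_c8 LD3_c52)) :=
  Lre_c IH (LK LD1_c9 LD2_c54 LD3_c50) (LK LD1_c18 LD2_c8 LD3_c52) Lrfl Lrfl
theorem f274699 : Led Lsl_ef (LP (LK LD1_c18 LD2_c4 LD3_c42)) = (LP (LK LD1_c18 LD2_c8 LD3_c52)) :=
  Lgr Lrot28 (Lpr_ct (K21.f274697 IH) (Lpr_et (f274695 IH) (Lpr_ct (f274698 IH) (Lpn (LP (LK LD1_c18 LD2_c8 LD3_c52))))))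
theorem f46035 : Led Lsl_dt (LP (LK LD1_c8 LD2_c5 LD3_c38)) = (LP (LK LD1_c15 LD2_c14 LD3_c26)) :=
  Lre_d IH (LK LD1_c8 LD2_c5 LD3_c38) (LK LD1_c15 LD2_c14 LD3_c26) Lrfl Lrfl
theorem f326778 : Led Lsl_dt (LP (LK LD1_c18 LD2_c8 LD3_c52)) = (LP (LK LD1_c25 LD2_c3 LD3_c32)) :=
  Lgr Lrot37 (Lpe (f274699 IH) (Lpr_gt (K21.f326776 IH) (Lpr_dt (K21.f197190 IH) (Lpr_gt (K21.f197189 IH) (Lpe (K20.f197188 IH) (Lpr_et (K20.f197187 IH) (Lpe (K10.f197170 IH) (Lpe (K12.f46937 IH) (Lpr_dt (f46035 IH) (Lpr_gt (f184609 IH) (Lpn (LP (LK LD1_c25 LD2_c3 LD3_c32)))))))))))))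
def v14183 : LQ := Led Lsl_at (LP (LK LD1_c5 LD2_c2 LD3_c2))
theorem f720879 : Led Lsl_at (LP (LK LD1_c5 LD2_c2 LD3_c2)) = v14183 :=
  Lrfl
theorem f720880 : Led Lsl_af (LP (LK LD1_c5 LD2_c2 LD3_c2)) = v14183 :=
  Lgr Lrot0 (Lpr_at (f720879 IH) (Lpn v14183))
theorem f720881 : Led Lsl_ft (LP (LK LD1_c5 LD2_c2 LD3_c3)) = v14183 :=
  Lgr Lrot2 (Lpr_gt (K22.f33929 IH) (Lpr_gt (K13.f21965 IH) (Lpr_af (f720880 IH) (Lpn v14183))))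
theorem f33941 : Led Lsl_ct (LP (LK LD1_c9 LD2_c54 LD3_c47)) = (LP (LK LD1_c5 LD2_c2 LD3_c2)) :=
  Lre_c IH (LK LD1_c9 LD2_c54 LD3_c47) (LK LD1_c5 LD2_c2 LD3_c2) Lrfl Lrfl
theorem f309624 : Led Lsl_dt (LP (LK LD1_c18 LD2_c8 LD3_c49)) = (LP (LK LD1_c9 LD2_c54 LD3_c47)) :=
  Lre_d IH (LK LD1_c18 LD2_c8 LD3_c49) (LK LD1_c9 LD2_c54 LD3_c47) Lrfl Lrfl
theorem f339906 : Led Lsl_ct (LP (LK LD1_c27 LD2_c49 LD3_c8)) = (LP (LK LD1_c18 LD2_c8 LD3_c49)) :=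
  Lre_c IH (LK LD1_c27 LD2_c49 LD3_c8) (LK LD1_c18 LD2_c8 LD3_c49) Lrfl Lrfl
theorem f720899 : Led Lsl_dt (LP (LK LD1_c27 LD2_c49 LD3_c5)) = (LP (LK LD1_c27 LD2_c49 LD3_c8)) :=
  Lgr Lrot140 (Lpr_cf (f720895 IH) (Lpe (f326778 IH) (Lpe (f274698 IH) (Lpe (K49.f274694 IH) (Lpr_ft (f720881 IH) (Lpe (f720880 IH) (Lpe (f33941 IH) (Lpe (f309624 IH) (Lpe (f339906 IH) (Lpn (LP (LK LD1_c27 LD2_c49 LD3_c8))))))))))))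
theorem f720900 : Led Lsl_dt (LP (LK LD1_c27 LD2_c49 LD3_c5)) = (LP (LK LD1_c27 LD2_c49 LD3_c8)) :=
  Leop (Lpe (f720899 IH) (Lpn (LP (LK LD1_c27 LD2_c49 LD3_c5))))
theorem seed_826 : LEOK LG_d (LK LD1_c27 LD2_c49 LD3_c5) :=
  Leoe_d (LK LD1_c27 LD2_c49 LD3_c5) (f720900 IH)
def v14206 : LQ := Led Lsl_ct (LP (LK LD1_c5 LD2_c3 LD3_c14))
theorem f720986 : Led Lsl_ct (LP (LK LD1_c5 LD2_c3 LD3_c14)) = v14206 :=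
  Lrfl
theorem f284670 : Led Lsl_gt (LP (LK LD1_c18 LD2_c12 LD3_c33)) = (LP (LK LD1_c9 LD2_c56 LD3_c56)) :=
  Lre_g IH (LK LD1_c18 LD2_c12 LD3_c33) (LK LD1_c9 LD2_c56 LD3_c56) Lrfl Lrfl
theorem f291692 : Led Lsl_gt (LP (LK LD1_c18 LD2_c39 LD3_c45)) = (LP (LK LD1_c10 LD2_c15 LD3_c33)) :=
  Lre_g IH (LK LD1_c18 LD2_c39 LD3_c45) (LK LD1_c10 LD2_c15 LD3_c33) Lrfl Lrfl
theorem f365026 : Led Lsl_gf (LP (LK LD1_c18 LD2_c39 LD3_c45)) = (LP (LK LD1_c16 LD2_c8 LD3_c25)) :=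
  Lgr Lrot47 (Lpr_gt (f291692 IH) (Lpr_af (K26.f365016 IH) (Lpr_ff (K26.f364979 IH) (Lpn (LP (LK LD1_c16 LD2_c8 LD3_c25))))))
theorem f257623 : Led Lsl_ct (LP (LK LD1_c5 LD2_c2 LD3_c59)) = (LP (LK LD1_c2 LD2_c29 LD3_c1)) :=
  Lre_c IH (LK LD1_c5 LD2_c2 LD3_c59) (LK LD1_c2 LD2_c29 LD3_c1) Lrfl Lrfl
theorem f257612 : Led Lsl_ct (LP (LK LD1_c9 LD2_c56 LD3_c56)) = (LP (LK LD1_c5 LD2_c2 LD3_c61)) :=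
  Lre_c IH (LK LD1_c9 LD2_c56 LD3_c56) (LK LD1_c5 LD2_c2 LD3_c61) Lrfl Lrfl
theorem f365028 : Led Lsl_ct (LP (LK LD1_c18 LD2_c39 LD3_c45)) = (LP (LK LD1_c18 LD2_c12 LD3_c33)) :=
  Lgr Lrot152 (Lpr_gf (f365026 IH) (Lpr_df (K23.f342024 IH) (Lpr_gt (K22.f196827 IH) (Lpe (K19.f306408 IH) (Lpr_gt (K19.f306377 IH) (Lpr_ct (f257623 IH) (Lpe (K15.f192151 IH) (Lpe (f257612 IH) (Lpe (f284670 IH) (Lpn (LP (LK LD1_c18 LD2_c12 LD3_c33))))))))))))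
theorem f720989 : Led Lsl_gf (LP (LK LD1_c5 LD2_c30 LD3_c49)) = v14206 :=
  Lgr Lrot148 (Lpr_dt (K20.f320171 IH) (Lpr_gt (K20.f179204 IH) (Lpr_dt (K20.f213632 IH) (Lpr_ct (K20.f213628 IH) (Lpr_df (K16.f171275 IH) (Lpr_gf (K19.f306068 IH) (Lpe (K19.f305821 IH) (Lpr_gf (K21.f307043 IH) (Lpr_ct (f720986 IH) (Lpn v14206))))))))))
theorem f304423 : Led Lsl_ct (LP (LK LD1_c2 LD2_c41 LD3_c38)) = (LP (LK LD1_c5 LD2_c30 LD3_c49)) :=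
  Lre_c IH (LK LD1_c2 LD2_c41 LD3_c38) (LK LD1_c5 LD2_c30 LD3_c49) Lrfl Lrfl
theorem f304250 : Led Lsl_bt (LP (LK LD1_c8 LD2_c54 LD3_c6)) = (LP (LK LD1_c4 LD2_c29 LD3_c23)) :=
  Lgr Lrot95 (Lpe (K19.f302833 IH) (Lpe (K20.f300677 IH) (Lpr_df (K18.f304248 IH) (Lpn (LP (LK LD1_c4 LD2_c29 LD3_c23))))))
theorem f288672 : Led Lsl_bt (LP (LK LD1_c10 LD2_c31 LD3_c25)) = (LP (LK LD1_c10 LD2_c29 LD3_c38)) :=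
  Lgr Lrot35 (Lpr_ff (K17.f288668 IH) (Lpr_bf (K16.f249236 IH) (Lpe (K21.f249248 IH) (Lpn (LP (LK LD1_c10 LD2_c29 LD3_c38))))))
theorem f304429 : Led Lsl_bf (LP (LK LD1_c5 LD2_c23 LD3_c51)) = (LP (LK LD1_c2 LD2_c41 LD3_c38)) :=
  Lgr Lrot81 (Lpe (K17.f288654 IH) (Lpr_bt (f288672 IH) (Lpr_at (K19.f302814 IH) (Lpr_bt (f304250 IH) (Lpr_at (K18.f304421 IH) (Lpn (LP (LK LD1_c2 LD2_c41 LD3_c38))))))))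
theorem f336167 : Led Lsl_dt (LP (LK LD1_c10 LD2_c11 LD3_c50)) = (LP (LK LD1_c18 LD2_c34 LD3_c36)) :=
  Lre_d IH (LK LD1_c10 LD2_c11 LD3_c50) (LK LD1_c18 LD2_c34 LD3_c36) Lrfl Lrfl
theorem f336159 : Led Lsl_ct (LP (LK LD1_c28 LD2_c8 LD3_c57)) = (LP (LK LD1_c18 LD2_c34 LD3_c36)) :=
  Lre_c IH (LK LD1_c28 LD2_c8 LD3_c57) (LK LD1_c18 LD2_c34 LD3_c36) Lrfl Lrfl
theorem f258199 : Led Lsl_gt (LP (LK LD1_c18 LD2_c59 LD3_c29)) = (LP (LK LD1_c28 LD2_c26 LD3_c45)) :=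
  Lre_g IH (LK LD1_c18 LD2_c59 LD3_c29) (LK LD1_c28 LD2_c26 LD3_c45) Lrfl Lrfl
theorem f367678 : Led Lsl_df (LP (LK LD1_c28 LD2_c8 LD3_c57)) = (LP (LK LD1_c28 LD2_c26 LD3_c45)) :=
  Lgr Lrot174 (Lpr_ct (f336159 IH) (Lpe (f336167 IH) (Lpr_gf (K22.f336163 IH) (Lpr_df (K16.f274977 IH) (Lpe (K27.f367301 IH) (Lpr_ct (K27.f367668 IH) (Lpr_gt (K27.f258159 IH) (Lpr_dt (K25.f258215 IH) (Lpr_gt (f258199 IH) (Lpn (LP (LK LD1_c28 LD2_c26 LD3_c45))))))))))))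
theorem f367680 : Led Lsl_dt (LP (LK LD1_c28 LD2_c8 LD3_c57)) = (LP (LK LD1_c28 LD2_c26 LD3_c45)) :=
  Lgr Lrot42 (Lpr_df (f367678 IH) (Lpn (LP (LK LD1_c28 LD2_c26 LD3_c45))))
theorem f258267 : Led Lsl_gt (LP (LK LD1_c19 LD2_c19 LD3_c11)) = (LP (LK LD1_c10 LD2_c40 LD3_c8)) :=
  Lre_g IH (LK LD1_c19 LD2_c19 LD3_c11) (LK LD1_c10 LD2_c40 LD3_c8) Lrfl Lrfl
theorem f367682 : Led Lsl_et (LP (LK LD1_c28 LD2_c8 LD3_c57)) = (LP (LK LD1_c19 LD2_c19 LD3_c11)) :=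
  Lgr Lrot121 (Lpr_dt (f367680 IH) (Lpe (f258199 IH) (Lpe (K25.f258215 IH) (Lpr_et (K16.f258243 IH) (Lpr_gf (K12.f224819 IH) (Lpe (K23.f221765 IH) (Lpr_dt (K23.f221775 IH) (Lpe (K27.f352264 IH) (Lpe (K27.f258274 IH) (Lpe (f258267 IH) (Lpn (LP (LK LD1_c19 LD2_c19 LD3_c11)))))))))))))
theorem f361299 : Led Lsl_cf (LP (LK LD1_c17 LD2_c42 LD3_c8)) = (LP (LK LD1_c19 LD2_c19 LD3_c11)) :=
  Lgr Lrot166 (Lpr_gt (K26.f361289 IH) (Lpe (K26.f357486 IH) (Lpr_gt (K26.f357317 IH) (Lpr_dt (K19.f229583 IH) (Lpr_ct (K18.f229589 IH) (Lpe (K23.f221766 IH) (Lpe (K27.f352264 IH) (Lpe (K27.f258274 IH) (Lpe (f258267 IH) (Lpn (LP (LK LD1_c19 LD2_c19 LD3_c11))))))))))))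
theorem f361285 : Led Lsl_dt (LP (LK LD1_c17 LD2_c42 LD3_c8)) = (LP (LK LD1_c9 LD2_c36 LD3_c46)) :=
  Lre_d IH (LK LD1_c17 LD2_c42 LD3_c8) (LK LD1_c9 LD2_c36 LD3_c46) Lrfl Lrfl
theorem f289025 : Led Lsl_gt (LP (LK LD1_c8 LD2_c21 LD3_c57)) = (LP (LK LD1_c15 LD2_c44 LD3_c32)) :=
  Lre_g IH (LK LD1_c8 LD2_c21 LD3_c57) (LK LD1_c15 LD2_c44 LD3_c32) Lrfl Lrfl
theorem f316292 : Led Lsl_et (LP (LK LD1_c8 LD2_c22 LD3_c48)) = (LP (LK LD1_c15 LD2_c44 LD3_c32)) :=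
  Lgr Lrot122 (Lpr_dt (K20.f316273 IH) (Lpr_gt (K20.f167560 IH) (Lpe (K20.f178669 IH) (Lpr_et (K20.f231133 IH) (Lpr_gt (K14.f171011 IH) (Lpr_dt (K18.f171012 IH) (Lpr_gt (K18.f303342 IH) (Lpe (K17.f288809 IH) (Lpr_et (K20.f295948 IH) (Lpr_gt (f289025 IH) (Lpn (LP (LK LD1_c15 LD2_c44 LD3_c32)))))))))))))
theorem f361283 : Led Lsl_cf (LP (LK LD1_c9 LD2_c36 LD3_c46)) = (LP (LK LD1_c15 LD2_c44 LD3_c32)) :=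
  Lgr Lrot39 (Lpr_et (K26.f361281 IH) (Lpe (K26.f361259 IH) (Lpr_et (f316292 IH) (Lpn (LP (LK LD1_c15 LD2_c44 LD3_c32))))))
theorem f361306 : Led Lsl_gt (LP (LK LD1_c26 LD2_c0 LD3_c23)) = (LP (LK LD1_c19 LD2_c19 LD3_c11)) :=
  Lgr Lrot150 (Lpe (K50.f184332 IH) (Lpr_gf (K21.f299464 IH) (Lpe (K21.f289012 IH) (Lpr_gt (K18.f288801 IH) (Lpr_ct (K20.f289024 IH) (Lpr_gt (f289025 IH) (Lpe (f361283 IH) (Lpe (f361285 IH) (Lpr_cf (f361299 IH) (Lpn (LP (LK LD1_c19 LD2_c19 LD3_c11))))))))))))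
theorem f184362 : Led Lsl_ct (LP (LK LD1_c26 LD2_c0 LD3_c23)) = (LP (LK LD1_c16 LD2_c2 LD3_c55)) :=
  Lre_c IH (LK LD1_c26 LD2_c0 LD3_c23) (LK LD1_c16 LD2_c2 LD3_c55) Lrfl Lrfl
theorem f275274 : Led Lsl_et (LP (LK LD1_c19 LD2_c2 LD3_c46)) = (LP (LK LD1_c26 LD2_c0 LD3_c23)) :=
  Lgr Lrot158 (Lpe (K22.f275273 IH) (Lpr_ef (K16.f275271 IH) (Lpe (f184362 IH) (Lpn (LP (LK LD1_c26 LD2_c0 LD3_c23))))))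
theorem f258200 : Led Lsl_gt (LP (LK LD1_c28 LD2_c26 LD3_c45)) = (LP (LK LD1_c19 LD2_c7 LD3_c36)) :=
  Lgr Lrot46 (Lpe (f258199 IH) (Lpr_ft (K15.f258188 IH) (Lpr_at (K15.f258189 IH) (Lpn (LP (LK LD1_c19 LD2_c7 LD3_c36))))))
theorem f276905 : Led Lsl_dt (LP (LK LD1_c10 LD2_c35 LD3_c52)) = (LP (LK LD1_c19 LD2_c11 LD3_c31)) :=
  Lre_d IH (LK LD1_c10 LD2_c35 LD3_c52) (LK LD1_c19 LD2_c11 LD3_c31) Lrfl Lrfl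
theorem f367685 : Led Lsl_gf (LP (LK LD1_c28 LD2_c28 LD3_c61)) = (LP (LK LD1_c19 LD2_c11 LD3_c31)) :=
  Lgr Lrot134 (Lpe (K25.f275285 IH) (Lpr_et (f275274 IH) (Lpr_gt (f361306 IH) (Lpe (f367682 IH) (Lpr_dt (f367680 IH) (Lpr_gt (f258200 IH) (Lpe (K15.f258193 IH) (Lpe (K16.f276802 IH) (Lpr_gt (K19.f276903 IH) (Lpr_dt (f276905 IH) (Lpn (LP (LK LD1_c19 LD2_c11 LD3_c31)))))))))))))
theorem f275286 : Led Lsl_dt (LP (LK LD1_c28 LD2_c28 LD3_c61)) = (LP (LK LD1_c19 LD2_c2 LD3_c46)) :=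
  Lre_d IH (LK LD1_c28 LD2_c28 LD3_c61) (LK LD1_c19 LD2_c2 LD3_c46) Lrfl Lrfl
theorem f367687 : Led Lsl_df (LP (LK LD1_c8 LD2_c22 LD3_c52)) = (LP (LK LD1_c5 LD2_c22 LD3_c49)) :=
  Lgr Lrot153 (Lpr_gt (K50.f361362 IH) (Lpe (K16.f275283 IH) (Lpe (K50.f275280 IH) (Lpe (f275286 IH) (Lpr_gf (f367685 IH) (Lpe (f276905 IH) (Lpe (K19.f276903 IH) (Lpe (K16.f267671 IH) (Lpr_gt (K23.f341054 IH) (Lpn (LP (LK LD1_c5 LD2_c22 LD3_c49))))))))))))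
theorem f44620 : Led Lsl_gt (LP (LK LD1_c10 LD2_c33 LD3_c17)) = (LP (LK LD1_c5 LD2_c21 LD3_c29)) :=
  Lre_g IH (LK LD1_c10 LD2_c33 LD3_c17) (LK LD1_c5 LD2_c21 LD3_c29) Lrfl Lrfl
theorem f367689 : Led Lsl_ef (LP (LK LD1_c10 LD2_c33 LD3_c17)) = (LP (LK LD1_c5 LD2_c22 LD3_c49)) :=
  Lgr Lrot114 (Lpr_gt (f44620 IH) (Lpe (K16.f44605 IH) (Lpr_dt (K14.f44603 IH) (Lpe (K16.f254438 IH) (Lpe (K16.f254283 IH) (Lpr_et (K14.f231441 IH) (Lpr_gt (K23.f343728 IH) (Lpr_dt (K22.f281023 IH) (Lpe (K26.f361352 IH) (Lpr_df (f367687 IH) (Lpn (LP (LK LD1_c5 LD2_c22 LD3_c49)))))))))))))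
theorem f275276 : Led Lsl_dt (LP (LK LD1_c10 LD2_c30 LD3_c35)) = (LP (LK LD1_c15 LD2_c41 LD3_c34)) :=
  Lgr Lrot77 (Lpr_ef (K16.f275271 IH) (Lpe (K21.f184331 IH) (Lpr_ef (K16.f258322 IH) (Lpe (K21.f184462 IH) (Lpe (K16.f232833 IH) (Lpn (LP (LK LD1_c15 LD2_c41 LD3_c34))))))))
theorem f367693 : Led Lsl_gf (LP (LK LD1_c10 LD2_c33 LD3_c17)) = (LP (LK LD1_c5 LD2_c23 LD3_c51)) :=
  Lgr Lrot141 (Lpr_ef (f367689 IH) (Lpe (f367687 IH) (Lpr_gt (K50.f361362 IH) (Lpe (f275276 IH) (Lpr_et (K16.f275278 IH) (Lpe (K25.f316375 IH) (Lpr_dt (K20.f316351 IH) (Lpr_gt (K22.f299461 IH) (Lpr_df (K20.f288683 IH) (Lpr_et (K17.f288640 IH) (Lpn (LP (LK LD1_c5 LD2_c23 LD3_c51)))))))))))))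
theorem f720991 : Led Lsl_bt (LP (LK LD1_c18 LD2_c39 LD3_c45)) = (LP (LK LD1_c10 LD2_c33 LD3_c17)) :=
  Lgr Lrot92 (Lpr_ct (f365028 IH) (Lpr_gt (f284670 IH) (Lpe (K23.f257614 IH) (Lpr_bt (K23.f291616 IH) (Lpr_gt (K21.f169643 IH) (Lpr_ct (f720986 IH) (Lpe (f720989 IH) (Lpe (f304423 IH) (Lpe (f304429 IH) (Lpe (f367693 IH) (Lpn (LP (LK LD1_c10 LD2_c33 LD3_c17)))))))))))))
theorem f720992 : Led Lsl_bt (LP (LK LD1_c18 LD2_c39 LD3_c45)) = (LP (LK LD1_c10 LD2_c33 LD3_c17)) :=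
  Leop (Lpe (f720991 IH) (Lpn (LP (LK LD1_c18 LD2_c39 LD3_c45))))
theorem seed_827 : LEOK LG_b (LK LD1_c18 LD2_c39 LD3_c45) :=
  Leoe_b (LK LD1_c18 LD2_c39 LD3_c45) (f720992 IH)
def v14253 : LQ := Led Lsl_ft (LP (LK LD1_c5 LD2_c4 LD3_c12))
theorem f721196 : Led Lsl_ft (LP (LK LD1_c5 LD2_c4 LD3_c12)) = v14253 :=
  Lrfl
theorem f583609 : Led Lsl_dt (LP (LK LD1_c18 LD2_c15 LD3_c42)) = (LP (LK LD1_c27 LD2_c55 LD3_c42)) :=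
  Lre_d IH (LK LD1_c18 LD2_c15 LD3_c42) (LK LD1_c27 LD2_c55 LD3_c42) Lrfl Lrfl
def v14251 : LQ := Led Lsl_at (LP (LK LD1_c5 LD2_c4 LD3_c12))
theorem f721189 : Led Lsl_at (LP (LK LD1_c5 LD2_c4 LD3_c12)) = v14251 :=
  Lrfl
theorem f721190 : Led Lsl_af (LP (LK LD1_c5 LD2_c4 LD3_c12)) = v14251 :=
  Lgr Lrot0 (Lpr_at (f721189 IH) (Lpn v14251))
theorem f721191 : Led Lsl_ft (LP (LK LD1_c5 LD2_c4 LD3_c13)) = v14251 :=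
  Lgr Lrot2 (Lpr_gt (K44.f166079 IH) (Lpr_gt (K44.f165890 IH) (Lpr_af (f721190 IH) (Lpn v14251))))
theorem f721197 : Led Lsl_af (LP (LK LD1_c5 LD2_c4 LD3_c13)) = v14253 :=
  Lgr Lrot45 (Lpr_ft (f721191 IH) (Lpe (f721190 IH) (Lpr_ft (f721196 IH) (Lpn v14253))))
theorem f166089 : Led Lsl_ct (LP (LK LD1_c9 LD2_c59 LD3_c19)) = (LP (LK LD1_c5 LD2_c4 LD3_c13)) :=
  Lre_c IH (LK LD1_c9 LD2_c59 LD3_c19) (LK LD1_c5 LD2_c4 LD3_c13) Lrfl Lrfl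
theorem f294782 : Led Lsl_dt (LP (LK LD1_c18 LD2_c15 LD3_c45)) = (LP (LK LD1_c9 LD2_c59 LD3_c19)) :=
  Lre_d IH (LK LD1_c18 LD2_c15 LD3_c45) (LK LD1_c9 LD2_c59 LD3_c19) Lrfl Lrfl
theorem f585831 : Led Lsl_af (LP (LK LD1_c10 LD2_c26 LD3_c53)) = (LP (LK LD1_c18 LD2_c7 LD3_c36)) :=
  Lgr Lrot0 (Lpr_at (K44.f585829 IH) (Lpn (LP (LK LD1_c18 LD2_c7 LD3_c36))))
theorem f585847 : Led Lsl_ft (LP (LK LD1_c10 LD2_c27 LD3_c12)) = (LP (LK LD1_c18 LD2_c7 LD3_c36)) :=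
  Lgr Lrot48 (Lpr_ff (K44.f585842 IH) (Lpn (LP (LK LD1_c18 LD2_c7 LD3_c36))))
theorem f586272 : Led Lsl_gt (LP (LK LD1_c10 LD2_c27 LD3_c12)) = (LP (LK LD1_c10 LD2_c12 LD3_c36)) :=
  Lgr Lrot5 (Lpr_ft (f585847 IH) (Lpe (f585831 IH) (Lpr_gf (K45.f586270 IH) (Lpn (LP (LK LD1_c10 LD2_c12 LD3_c36))))))
theorem f406809 : Led Lsl_at (LP (LK LD1_c10 LD2_c28 LD3_c17)) = (LP (LK LD1_c18 LD2_c58 LD3_c36)) :=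
  Lre_a IH (LK LD1_c10 LD2_c28 LD3_c17) (LK LD1_c18 LD2_c58 LD3_c36) Lrfl Lrfl
theorem f584377 : Led Lsl_ct (LP (LK LD1_c18 LD2_c58 LD3_c36)) = (LP (LK LD1_c28 LD2_c16 LD3_c57)) :=
  Lgr Lrot111 (Lpe (f406809 IH) (Lpe (K44.f183994 IH) (Lpr_af (K44.f584371 IH) (Lpn (LP (LK LD1_c28 LD2_c16 LD3_c57))))))
theorem f582669 : Led Lsl_bt (LP (LK LD1_c18 LD2_c58 LD3_c36)) = (LP (LK LD1_c17 LD2_c45 LD3_c48)) :=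
  Lgr Lrot35 (Lpr_ff (K44.f299549 IH) (Lpr_bf (K44.f300568 IH) (Lpr_ff (K44.f582665 IH) (Lpn (LP (LK LD1_c17 LD2_c45 LD3_c48))))))
theorem f184854 : Led Lsl_cf (LP (LK LD1_c4 LD2_c54 LD3_c2)) = (LP (LK LD1_c2 LD2_c36 LD3_c41)) :=
  Lgr Lrot11 (Lpr_ct (K9.f184848 IH) (Lpn (LP (LK LD1_c2 LD2_c36 LD3_c41))))
theorem f184859 : Led Lsl_gt (LP (LK LD1_c5 LD2_c20 LD3_c0)) = (LP (LK LD1_c10 LD2_c29 LD3_c55)) :=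
  Lre_g IH (LK LD1_c5 LD2_c20 LD3_c0) (LK LD1_c10 LD2_c29 LD3_c55) Lrfl Lrfl
theorem f48496 : Led Lsl_bt (LP (LK LD1_c2 LD2_c34 LD3_c51)) = (LP (LK LD1_c1 LD2_c14 LD3_c25)) :=
  Lre_b IH (LK LD1_c2 LD2_c34 LD3_c51) (LK LD1_c1 LD2_c14 LD3_c25) Lrfl Lrfl
theorem f35076 : Led Lsl_ct (LP (LK LD1_c2 LD2_c34 LD3_c51)) = (LP (LK LD1_c1 LD2_c14 LD3_c31)) :=
  Lre_c IH (LK LD1_c2 LD2_c34 LD3_c51) (LK LD1_c1 LD2_c14 LD3_c31) Lrfl Lrfl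
theorem f35152 : Led Lsl_gt (LP (LK LD1_c2 LD2_c35 LD3_c4)) = (LP (LK LD1_c1 LD2_c14 LD3_c31)) :=
  Lre_g IH (LK LD1_c2 LD2_c35 LD3_c4) (LK LD1_c1 LD2_c14 LD3_c31) Lrfl Lrfl
theorem f166097 : Led Lsl_ct (LP (LK LD1_c5 LD2_c16 LD3_c42)) = (LP (LK LD1_c2 LD2_c35 LD3_c4)) :=
  Lre_c IH (LK LD1_c5 LD2_c16 LD3_c42) (LK LD1_c2 LD2_c35 LD3_c4) Lrfl Lrfl
theorem f166103 : Led Lsl_bt (LP (LK LD1_c18 LD2_c49 LD3_c53)) = (LP (LK LD1_c10 LD2_c22 LD3_c41)) :=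
  Lre_b IH (LK LD1_c18 LD2_c49 LD3_c53) (LK LD1_c10 LD2_c22 LD3_c41) Lrfl Lrfl
theorem f294764 : Led Lsl_cf (LP (LK LD1_c10 LD2_c29 LD3_c55)) = (LP (LK LD1_c18 LD2_c49 LD3_c53)) :=
  Lgr Lrot58 (Lpe (f184859 IH) (Lpr_cf (K18.f294739 IH) (Lpr_bt (K37.f32527 IH) (Lpe (K9.f47574 IH) (Lpe (f48496 IH) (Lpr_ct (f35076 IH) (Lpe (f35152 IH) (Lpe (f166097 IH) (Lpe (K44.f166093 IH) (Lpe (f166103 IH) (Lpn (LP (LK LD1_c18 LD2_c49 LD3_c53)))))))))))))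
theorem f294777 : Led Lsl_ct (LP (LK LD1_c10 LD2_c29 LD3_c55)) = (LP (LK LD1_c18 LD2_c49 LD3_c53)) :=
  Lgr Lrot59 (Lpr_cf (f294764 IH) (Lpn (LP (LK LD1_c18 LD2_c49 LD3_c53))))
theorem f585467 : Led Lsl_gt (LP (LK LD1_c18 LD2_c49 LD3_c53)) = (LP (LK LD1_c28 LD2_c16 LD3_c57)) :=
  Lgr Lrot149 (Lpe (f294777 IH) (Lpe (f184859 IH) (Lpe (K37.f184851 IH) (Lpe (f184854 IH) (Lpe (K9.f43810 IH) (Lpe (K9.f43500 IH) (Lpr_bt (K44.f43545 IH) (Lpe (K44.f51324 IH) (Lpe (f582669 IH) (Lpr_ct (f584377 IH) (Lpn (LP (LK LD1_c28 LD2_c16 LD3_c57)))))))))))))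
theorem f585469 : Led Lsl_gf (LP (LK LD1_c18 LD2_c49 LD3_c53)) = (LP (LK LD1_c19 LD2_c0 LD3_c54)) :=
  Lgr Lrot47 (Lpr_gt (f585467 IH) (Lpe (K44.f584375 IH) (Lpr_ff (K44.f299553 IH) (Lpn (LP (LK LD1_c19 LD2_c0 LD3_c54))))))
theorem f166087 : Led Lsl_bt (LP (LK LD1_c10 LD2_c22 LD3_c41)) = (LP (LK LD1_c18 LD2_c49 LD3_c53)) :=
  Lre_b IH (LK LD1_c10 LD2_c22 LD3_c41) (LK LD1_c18 LD2_c49 LD3_c53) Lrfl Lrfl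
theorem f166088 : Led Lsl_bt (LP (LK LD1_c5 LD2_c4 LD3_c13)) = (LP (LK LD1_c9 LD2_c59 LD3_c18)) :=
  Lre_b IH (LK LD1_c5 LD2_c4 LD3_c13) (LK LD1_c9 LD2_c59 LD3_c18) Lrfl Lrfl
theorem f294775 : Led Lsl_bt (LP (LK LD1_c10 LD2_c29 LD3_c55)) = (LP (LK LD1_c9 LD2_c59 LD3_c19)) :=
  Lgr Lrot128 (Lpr_cf (f294764 IH) (Lpe (f166087 IH) (Lpr_cf (K44.f166081 IH) (Lpe (f166088 IH) (Lpe (f166089 IH) (Lpn (LP (LK LD1_c9 LD2_c59 LD3_c19))))))))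
theorem f586297 : Led Lsl_gt (LP (LK LD1_c9 LD2_c59 LD3_c19)) = (LP (LK LD1_c10 LD2_c30 LD3_c14)) :=
  Lgr Lrot82 (Lpe (f294775 IH) (Lpr_ct (f294777 IH) (Lpr_gf (f585469 IH) (Lpe (K44.f249298 IH) (Lpr_bt (K18.f249342 IH) (Lpe (K14.f249207 IH) (Lpe (K45.f583807 IH) (Lpr_ct (K45.f165268 IH) (Lpe (f586272 IH) (Lpr_cf (K45.f586291 IH) (Lpn (LP (LK LD1_c10 LD2_c30 LD3_c14)))))))))))))
theorem f294784 : Led Lsl_dt (LP (LK LD1_c9 LD2_c59 LD3_c19)) = (LP (LK LD1_c18 LD2_c15 LD3_c45)) :=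
  Lre_d IH (LK LD1_c9 LD2_c59 LD3_c19) (LK LD1_c18 LD2_c15 LD3_c45) Lrfl Lrfl
theorem f586308 : Led Lsl_gt (LP (LK LD1_c18 LD2_c15 LD3_c45)) = (LP (LK LD1_c10 LD2_c30 LD3_c9)) :=
  Lgr Lrot9 (Lpe (f294784 IH) (Lpr_gt (f586297 IH) (Lpe (K45.f586291 IH) (Lpr_gt (f586272 IH) (Lpe (K44.f165263 IH) (Lpr_df (K44.f583803 IH) (Lpe (K44.f191668 IH) (Lpe (K44.f249533 IH) (Lpe (K44.f249532 IH) (Lpn (LP (LK LD1_c10 LD2_c30 LD3_c9))))))))))))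
theorem f583902 : Led Lsl_at (LP (LK LD1_c26 LD2_c32 LD3_c33)) = (LP (LK LD1_c19 LD2_c0 LD3_c21)) :=
  Lgr Lrot107 (Lpr_cf (K44.f583900 IH) (Lpe (K44.f413373 IH) (Lpe (K37.f212426 IH) (Lpn (LP (LK LD1_c19 LD2_c0 LD3_c21))))))
theorem f583910 : Led Lsl_ft (LP (LK LD1_c16 LD2_c35 LD3_c23)) = (LP (LK LD1_c26 LD2_c32 LD3_c33)) :=
  Lre_f IH (LK LD1_c16 LD2_c35 LD3_c23) (LK LD1_c26 LD2_c32 LD3_c33) Lrfl Lrfl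
theorem f583918 : Led Lsl_gt (LP (LK LD1_c16 LD2_c35 LD3_c23)) = (LP (LK LD1_c19 LD2_c1 LD3_c12)) :=
  Lgr Lrot5 (Lpr_ft (f583910 IH) (Lpr_at (f583902 IH) (Lpe (K37.f544780 IH) (Lpn (LP (LK LD1_c19 LD2_c1 LD3_c12))))))
theorem f583893 : Led Lsl_cf (LP (LK LD1_c16 LD2_c35 LD3_c23)) = (LP (LK LD1_c19 LD2_c0 LD3_c9)) :=
  Lgr Lrot11 (Lpr_ct (K44.f583888 IH) (Lpn (LP (LK LD1_c19 LD2_c0 LD3_c9))))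
theorem f230230 : Led Lsl_cf (LP (LK LD1_c18 LD2_c58 LD3_c59)) = (LP (LK LD1_c18 LD2_c44 LD3_c59)) :=
  Lgr Lrot11 (Lpr_ct (K37.f230226 IH) (Lpn (LP (LK LD1_c18 LD2_c44 LD3_c59))))
theorem f288945 : Led Lsl_ct (LP (LK LD1_c19 LD2_c1 LD3_c12)) = (LP (LK LD1_c10 LD2_c29 LD3_c42)) :=
  Lre_c IH (LK LD1_c19 LD2_c1 LD3_c12) (LK LD1_c10 LD2_c29 LD3_c42) Lrfl Lrfl
theorem f583922 : Led Lsl_df (LP (LK LD1_c18 LD2_c58 LD3_c59)) = (LP (LK LD1_c10 LD2_c29 LD3_c42)) :=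
  Lgr Lrot162 (Lpr_cf (f230230 IH) (Lpr_gf (K37.f350916 IH) (Lpe (K18.f294755 IH) (Lpe (K37.f350988 IH) (Lpr_dt (K44.f229995 IH) (Lpr_gt (K44.f583886 IH) (Lpe (f583893 IH) (Lpr_gt (f583918 IH) (Lpr_ct (f288945 IH) (Lpn (LP (LK LD1_c10 LD2_c29 LD3_c42))))))))))))
theorem f583924 : Led Lsl_dt (LP (LK LD1_c10 LD2_c28 LD3_c27)) = (LP (LK LD1_c18 LD2_c47 LD3_c42)) :=
  Lgr Lrot79 (Lpe (K37.f230225 IH) (Lpr_df (f583922 IH) (Lpr_bf (K37.f351168 IH) (Lpn (LP (LK LD1_c18 LD2_c47 LD3_c42))))))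
theorem f230229 : Led Lsl_ct (LP (LK LD1_c18 LD2_c58 LD3_c60)) = (LP (LK LD1_c10 LD2_c28 LD3_c27)) :=
  Lre_c IH (LK LD1_c18 LD2_c58 LD3_c60) (LK LD1_c10 LD2_c28 LD3_c27) Lrfl Lrfl
theorem f583912 : Led Lsl_at (LP (LK LD1_c16 LD2_c35 LD3_c23)) = (LP (LK LD1_c19 LD2_c0 LD3_c10)) :=
  Lgr Lrot66 (Lpe (K44.f583899 IH) (Lpr_af (K44.f583907 IH) (Lpr_ff (K44.f583880 IH) (Lpn (LP (LK LD1_c19 LD2_c0 LD3_c10))))))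
theorem f288954 : Led Lsl_gt (LP (LK LD1_c18 LD2_c58 LD3_c60)) = (LP (LK LD1_c19 LD2_c0 LD3_c10)) :=
  Lre_g IH (LK LD1_c18 LD2_c58 LD3_c60) (LK LD1_c19 LD2_c0 LD3_c10) Lrfl Lrfl
theorem f583915 : Led Lsl_gt (LP (LK LD1_c26 LD2_c32 LD3_c33)) = (LP (LK LD1_c18 LD2_c58 LD3_c60)) :=
  Lgr Lrot5 (Lpr_ft (K44.f583899 IH) (Lpr_at (f583912 IH) (Lpe (f288954 IH) (Lpn (LP (LK LD1_c18 LD2_c58 LD3_c60))))))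
theorem f544882 : Led Lsl_gt (LP (LK LD1_c10 LD2_c29 LD3_c0)) = (LP (LK LD1_c19 LD2_c0 LD3_c8)) :=
  Lre_g IH (LK LD1_c10 LD2_c29 LD3_c0) (LK LD1_c19 LD2_c0 LD3_c8) Lrfl Lrfl
theorem f583875 : Led Lsl_gf (LP (LK LD1_c19 LD2_c0 LD3_c20)) = (LP (LK LD1_c19 LD2_c0 LD3_c8)) :=
  Lgr Lrot76 (Lpe (K44.f413373 IH) (Lpr_ff (K44.f583849 IH) (Lpr_gt (f544882 IH) (Lpn (LP (LK LD1_c19 LD2_c0 LD3_c8))))))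
theorem f350924 : Led Lsl_ct (LP (LK LD1_c10 LD2_c21 LD3_c23)) = (LP (LK LD1_c18 LD2_c47 LD3_c42)) :=
  Lre_c IH (LK LD1_c10 LD2_c21 LD3_c23) (LK LD1_c18 LD2_c47 LD3_c42) Lrfl Lrfl
theorem f166090 : Led Lsl_ct (LP (LK LD1_c10 LD2_c22 LD3_c41)) = (LP (LK LD1_c9 LD2_c59 LD3_c18)) :=
  Lgr Lrot59 (Lpr_cf (K44.f166081 IH) (Lpn (LP (LK LD1_c9 LD2_c59 LD3_c18))))
theorem f166104 : Led Lsl_ct (LP (LK LD1_c5 LD2_c4 LD3_c13)) = (LP (LK LD1_c9 LD2_c59 LD3_c19)) :=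
  Lre_c IH (LK LD1_c5 LD2_c4 LD3_c13) (LK LD1_c9 LD2_c59 LD3_c19) Lrfl Lrfl
theorem f294779 : Led Lsl_bf (LP (LK LD1_c10 LD2_c29 LD3_c55)) = (LP (LK LD1_c9 LD2_c59 LD3_c19)) :=
  Lgr Lrot90 (Lpr_ct (f294777 IH) (Lpr_bt (f166103 IH) (Lpr_ct (f166090 IH) (Lpr_bt (K44.f166080 IH) (Lpr_ct (f166104 IH) (Lpn (LP (LK LD1_c9 LD2_c59 LD3_c19))))))))
theorem f351143 : Led Lsl_bf (LP (LK LD1_c10 LD2_c28 LD3_c54)) = (LP (LK LD1_c10 LD2_c30 LD3_c2)) :=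
  Lgr Lrot24 (Lpr_bt (K37.f351141 IH) (Lpn (LP (LK LD1_c10 LD2_c30 LD3_c2))))
theorem f351163 : Led Lsl_gt (LP (LK LD1_c10 LD2_c29 LD3_c55)) = (LP (LK LD1_c10 LD2_c28 LD3_c54)) :=
  Lgr Lrot164 (Lpr_bf (f294779 IH) (Lpr_ct (f166089 IH) (Lpe (K44.f351009 IH) (Lpe (K15.f267985 IH) (Lpr_gf (K37.f307602 IH) (Lpe (K37.f166002 IH) (Lpe (K37.f259057 IH) (Lpr_gf (K37.f351161 IH) (Lpe (K37.f321810 IH) (Lpe (f351143 IH) (Lpn (LP (LK LD1_c10 LD2_c28 LD3_c54)))))))))))))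
theorem f583930 : Led Lsl_df (LP (LK LD1_c19 LD2_c0 LD3_c8)) = (LP (LK LD1_c10 LD2_c29 LD3_c55)) :=
  Lgr Lrot155 (Lpe (f583875 IH) (Lpe (K44.f583900 IH) (Lpr_gt (f583915 IH) (Lpr_ct (f230229 IH) (Lpr_dt (f583924 IH) (Lpe (f350924 IH) (Lpe (K37.f350922 IH) (Lpe (K37.f230152 IH) (Lpe (f351163 IH) (Lpn (LP (LK LD1_c10 LD2_c29 LD3_c55))))))))))))
theorem f583933 : Led Lsl_bt (LP (LK LD1_c19 LD2_c0 LD3_c8)) = (LP (LK LD1_c18 LD2_c15 LD3_c45)) :=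
  Lgr Lrot95 (Lpr_df (f583930 IH) (Lpr_bf (f294779 IH) (Lpe (f294782 IH) (Lpn (LP (LK LD1_c18 LD2_c15 LD3_c45))))))
theorem f247436 : Led Lsl_gt (LP (LK LD1_c8 LD2_c52 LD3_c32)) = (LP (LK LD1_c16 LD2_c35 LD3_c33)) :=
  Lre_g IH (LK LD1_c8 LD2_c52 LD3_c32) (LK LD1_c16 LD2_c35 LD3_c33) Lrfl Lrfl
theorem f586312 : Led Lsl_ct (LP (LK LD1_c19 LD2_c0 LD3_c8)) = (LP (LK LD1_c16 LD2_c35 LD3_c33)) :=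
  Lgr Lrot10 (Lpr_bt (f583933 IH) (Lpr_gt (f586308 IH) (Lpr_ct (K44.f249532 IH) (Lpr_gt (K44.f249533 IH) (Lpr_cf (K44.f191569 IH) (Lpr_bt (K44.f185506 IH) (Lpe (K15.f249103 IH) (Lpe (K37.f249109 IH) (Lpr_ct (K37.f248293 IH) (Lpr_gt (f247436 IH) (Lpn (LP (LK LD1_c16 LD2_c35 LD3_c33)))))))))))))
theorem f583935 : Led Lsl_dt (LP (LK LD1_c19 LD2_c0 LD3_c8)) = (LP (LK LD1_c10 LD2_c29 LD3_c55)) :=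
  Lgr Lrot42 (Lpr_df (f583930 IH) (Lpn (LP (LK LD1_c10 LD2_c29 LD3_c55))))
theorem f583937 : Led Lsl_bf (LP (LK LD1_c19 LD2_c0 LD3_c8)) = (LP (LK LD1_c18 LD2_c15 LD3_c45)) :=
  Lgr Lrot93 (Lpr_dt (f583935 IH) (Lpr_bt (f294775 IH) (Lpr_dt (f294784 IH) (Lpn (LP (LK LD1_c18 LD2_c15 LD3_c45))))))
theorem f214638 : Led Lsl_gt (LP (LK LD1_c10 LD2_c25 LD3_c45)) = (LP (LK LD1_c5 LD2_c18 LD3_c1)) :=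
  Lre_g IH (LK LD1_c10 LD2_c25 LD3_c45) (LK LD1_c5 LD2_c18 LD3_c1) Lrfl Lrfl
theorem f215104 : Led Lsl_ct (LP (LK LD1_c18 LD2_c54 LD3_c58)) = (LP (LK LD1_c10 LD2_c25 LD3_c45)) :=
  Lre_c IH (LK LD1_c18 LD2_c54 LD3_c58) (LK LD1_c10 LD2_c25 LD3_c45) Lrfl Lrfl
theorem f247435 : Led Lsl_bt (LP (LK LD1_c4 LD2_c27 LD3_c24)) = (LP (LK LD1_c8 LD2_c52 LD3_c32)) :=
  Lre_b IH (LK LD1_c4 LD2_c27 LD3_c24) (LK LD1_c8 LD2_c52 LD3_c32) Lrfl Lrfl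
theorem f247445 : Led Lsl_bt (LP (LK LD1_c18 LD2_c54 LD3_c58)) = (LP (LK LD1_c16 LD2_c35 LD3_c33)) :=
  Lgr Lrot92 (Lpr_ct (f215104 IH) (Lpr_gt (f214638 IH) (Lpe (K20.f215040 IH) (Lpr_bt (K20.f47146 IH) (Lpr_gt (K14.f47259 IH) (Lpr_ct (K1.f46180 IH) (Lpr_gt (K14.f247437 IH) (Lpe (K15.f47404 IH) (Lpr_bt (f247435 IH) (Lpr_gt (f247436 IH) (Lpn (LP (LK LD1_c16 LD2_c35 LD3_c33)))))))))))))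
theorem f247448 : Led Lsl_bf (LP (LK LD1_c18 LD2_c54 LD3_c58)) = (LP (LK LD1_c16 LD2_c35 LD3_c33)) :=
  Lgr Lrot24 (Lpr_bt (f247445 IH) (Lpn (LP (LK LD1_c16 LD2_c35 LD3_c33))))
theorem f247451 : Led Lsl_bt (LP (LK LD1_c10 LD2_c25 LD3_c45)) = (LP (LK LD1_c18 LD2_c54 LD3_c57)) :=
  Lre_b IH (LK LD1_c10 LD2_c25 LD3_c45) (LK LD1_c18 LD2_c54 LD3_c57) Lrfl Lrfl
theorem f586314 : Led Lsl_cf (LP (LK LD1_c18 LD2_c15 LD3_c45)) = (LP (LK LD1_c18 LD2_c54 LD3_c57)) :=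
  Lgr Lrot97 (Lpe (f583937 IH) (Lpr_ct (f586312 IH) (Lpe (f247448 IH) (Lpr_ct (f215104 IH) (Lpr_bt (f247451 IH) (Lpn (LP (LK LD1_c18 LD2_c54 LD3_c57))))))))
theorem f586344 : Led Lsl_dt (LP (LK LD1_c28 LD2_c22 LD3_c52)) = (LP (LK LD1_c18 LD2_c54 LD3_c57)) :=
  Lre_d IH (LK LD1_c28 LD2_c22 LD3_c52) (LK LD1_c18 LD2_c54 LD3_c57) Lrfl Lrfl
theorem f721199 : Led Lsl_ct (LP (LK LD1_c27 LD2_c55 LD3_c42)) = (LP (LK LD1_c28 LD2_c22 LD3_c52)) :=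
  Lgr Lrot41 (Lpe (f583609 IH) (Lpe (K44.f165892 IH) (Lpe (K44.f165891 IH) (Lpr_ft (f721196 IH) (Lpe (f721197 IH) (Lpe (f166089 IH) (Lpe (f294782 IH) (Lpr_cf (f586314 IH) (Lpe (f586344 IH) (Lpn (LP (LK LD1_c28 LD2_c22 LD3_c52))))))))))))
theorem f721200 : Led Lsl_ct (LP (LK LD1_c27 LD2_c55 LD3_c42)) = (LP (LK LD1_c28 LD2_c22 LD3_c52)) :=
  Leop (Lpe (f721199 IH) (Lpn (LP (LK LD1_c27 LD2_c55 LD3_c42))))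
theorem seed_828 : LEOK LG_c (LK LD1_c27 LD2_c55 LD3_c42) :=
  Leoe_c (LK LD1_c27 LD2_c55 LD3_c42) (f721200 IH)
def v14255 : LQ := Led Lsl_dt (LP (LK LD1_c5 LD2_c4 LD3_c14))
theorem f721209 : Led Lsl_dt (LP (LK LD1_c5 LD2_c4 LD3_c14)) = v14255 :=
  Lrfl
theorem f721211 : Led Lsl_df (LP (LK LD1_c5 LD2_c4 LD3_c14)) = v14255 :=
  Lgr Lrot38 (Lpr_dt (f721209 IH) (Lpn v14255))
theorem f307590 : Led Lsl_dt (LP (LK LD1_c18 LD2_c15 LD3_c47)) = (LP (LK LD1_c9 LD2_c59 LD3_c21)) :=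
  Lre_d IH (LK LD1_c18 LD2_c15 LD3_c47) (LK LD1_c9 LD2_c59 LD3_c21) Lrfl Lrfl
theorem f307565 : Led Lsl_ft (LP (LK LD1_c10 LD2_c13 LD3_c0)) = (LP (LK LD1_c9 LD2_c59 LD3_c25)) :=
  Lgr Lrot4 (Lpe (K44.f185527 IH) (Lpr_ff (K19.f307563 IH) (Lpe (K44.f166011 IH) (Lpn (LP (LK LD1_c9 LD2_c59 LD3_c25))))))
theorem f166056 : Led Lsl_at (LP (LK LD1_c9 LD2_c59 LD3_c25)) = (LP (LK LD1_c18 LD2_c15 LD3_c47)) :=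
  Lre_a IH (LK LD1_c9 LD2_c59 LD3_c25) (LK LD1_c18 LD2_c15 LD3_c47) Lrfl Lrfl
theorem f583760 : Led Lsl_gf (LP (LK LD1_c18 LD2_c15 LD3_c47)) = (LP (LK LD1_c18 LD2_c21 LD3_c46)) :=
  Lgr Lrot76 (Lpe (f166056 IH) (Lpe (f307565 IH) (Lpr_gt (K44.f583752 IH) (Lpn (LP (LK LD1_c18 LD2_c21 LD3_c46))))))
theorem f169589 : Led Lsl_ct (LP (LK LD1_c5 LD2_c6 LD3_c10)) = (LP (LK LD1_c2 LD2_c30 LD3_c25)) :=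
  Lre_c IH (LK LD1_c5 LD2_c6 LD3_c10) (LK LD1_c2 LD2_c30 LD3_c25) Lrfl Lrfl
theorem f165876 : Led Lsl_dt (LP (LK LD1_c5 LD2_c6 LD3_c17)) = (LP (LK LD1_c10 LD2_c3 LD3_c37)) :=
  Lre_d IH (LK LD1_c5 LD2_c6 LD3_c17) (LK LD1_c10 LD2_c3 LD3_c37) Lrfl Lrfl
theorem f721213 : Led Lsl_gt (LP (LK LD1_c10 LD2_c3 LD3_c37)) = v14255 :=
  Lgr Lrot49 (Lpe (f165876 IH) (Lpe (K44.f165875 IH) (Lpe (f169589 IH) (Lpr_gt (K44.f165304 IH) (Lpe (K44.f585286 IH) (Lpe (f583760 IH) (Lpr_dt (f307590 IH) (Lpe (K44.f307576 IH) (Lpr_df (f721211 IH) (Lpn v14255))))))))))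
theorem f166109 : Led Lsl_dt (LP (LK LD1_c2 LD2_c29 LD3_c32)) = (LP (LK LD1_c5 LD2_c4 LD3_c16)) :=
  Lre_d IH (LK LD1_c2 LD2_c29 LD3_c32) (LK LD1_c5 LD2_c4 LD3_c16) Lrfl Lrfl
theorem f721212 : Led Lsl_at (LP (LK LD1_c5 LD2_c4 LD3_c16)) = v14255 :=
  Lgr Lrot51 (Lpe (f166109 IH) (Lpe (K44.f351004 IH) (Lpr_df (f721211 IH) (Lpn v14255))))
theorem f169822 : Led Lsl_bt (LP (LK LD1_c5 LD2_c4 LD3_c16)) = (LP (LK LD1_c2 LD2_c29 LD3_c33)) :=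
  Lre_b IH (LK LD1_c5 LD2_c4 LD3_c16) (LK LD1_c2 LD2_c29 LD3_c33) Lrfl Lrfl
theorem f186544 : Led Lsl_bt (LP (LK LD1_c2 LD2_c32 LD3_c36)) = (LP (LK LD1_c5 LD2_c11 LD3_c14)) :=
  Lre_b IH (LK LD1_c2 LD2_c32 LD3_c36) (LK LD1_c5 LD2_c11 LD3_c14) Lrfl Lrfl
theorem f267908 : Led Lsl_ff (LP (LK LD1_c5 LD2_c4 LD3_c16)) = (LP (LK LD1_c5 LD2_c11 LD3_c14)) :=
  Lgr Lrot25 (Lpr_bt (f169822 IH) (Lpr_ft (K15.f267906 IH) (Lpr_bt (f186544 IH) (Lpn (LP (LK LD1_c5 LD2_c11 LD3_c14))))))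
theorem f721215 : Led Lsl_gf (LP (LK LD1_c10 LD2_c3 LD3_c37)) = (LP (LK LD1_c5 LD2_c11 LD3_c14)) :=
  Lgr Lrot47 (Lpr_gt (f721213 IH) (Lpe (f721212 IH) (Lpr_ff (f267908 IH) (Lpn (LP (LK LD1_c5 LD2_c11 LD3_c14))))))
theorem f721216 : Led Lsl_gt (LP (LK LD1_c5 LD2_c11 LD3_c14)) = (LP (LK LD1_c10 LD2_c3 LD3_c37)) :=
  Leop (Lpr_gf (f721215 IH) (Lpn (LP (LK LD1_c5 LD2_c11 LD3_c14))))
theorem seed_829 : LEOK LG_g (LK LD1_c5 LD2_c11 LD3_c14) :=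
  Leoe_g (LK LD1_c5 LD2_c11 LD3_c14) (f721216 IH)
def v14339 : LQ := Led Lsl_gt (LP (LK LD1_c5 LD2_c6 LD3_c54))
theorem f722001 : Led Lsl_gt (LP (LK LD1_c5 LD2_c6 LD3_c54)) = v14339 :=
  Lrfl
theorem f414951 : Led Lsl_et (LP (LK LD1_c9 LD2_c31 LD3_c22)) = (LP (LK LD1_c4 LD2_c49 LD3_c17)) :=
  Lre_e IH (LK LD1_c9 LD2_c31 LD3_c22) (LK LD1_c4 LD2_c49 LD3_c17) Lrfl Lrfl
theorem f722006 : Led Lsl_dt (LP (LK LD1_c9 LD2_c31 LD3_c22)) = v14339 :=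
  Lgr Lrot37 (Lpr_et (f414951 IH) (Lpr_gt (K24.f414933 IH) (Lpr_dt (K24.f76940 IH) (Lpr_gt (K17.f61053 IH) (Lpe (K17.f27104 IH) (Lpr_et (K50.f175440 IH) (Lpr_gt (K10.f175573 IH) (Lpe (K39.f175801 IH) (Lpr_dt (K39.f186188 IH) (Lpr_gt (f722001 IH) (Lpn v14339)))))))))))
theorem f508183 : Led Lsl_ff (LP (LK LD1_c9 LD2_c31 LD3_c22)) = (LP (LK LD1_c17 LD2_c8 LD3_c36)) :=
  Lgr Lrot72 (Lpr_et (f414951 IH) (Lpr_ft (K35.f508113 IH) (Lpe (K35.f416731 IH) (Lpr_ft (K50.f508181 IH) (Lpr_et (K50.f422763 IH) (Lpn (LP (LK LD1_c17 LD2_c8 LD3_c36))))))))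
theorem f422761 : Led Lsl_dt (LP (LK LD1_c10 LD2_c2 LD3_c46)) = (LP (LK LD1_c17 LD2_c8 LD3_c36)) :=
  Lgr Lrot42 (Lpr_df (K50.f422758 IH) (Lpn (LP (LK LD1_c17 LD2_c8 LD3_c36))))
theorem f722009 : Led Lsl_ff (LP (LK LD1_c10 LD2_c2 LD3_c46)) = v14339 :=
  Lgr Lrot19 (Lpr_dt (f422761 IH) (Lpe (f508183 IH) (Lpr_dt (f722006 IH) (Lpn v14339))))
theorem f185169 : Led Lsl_dt (LP (LK LD1_c2 LD2_c15 LD3_c1)) = (LP (LK LD1_c1 LD2_c4 LD3_c37)) :=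
  Lre_d IH (LK LD1_c2 LD2_c15 LD3_c1) (LK LD1_c1 LD2_c4 LD3_c37) Lrfl Lrfl
def v4203 : LQ := Led Lsl_dt (LP (LK LD1_c2 LD2_c15 LD3_c0))
theorem f631852 : Led Lsl_dt (LP (LK LD1_c2 LD2_c15 LD3_c0)) = v4203 :=
  Lrfl
theorem f631854 : Led Lsl_df (LP (LK LD1_c2 LD2_c15 LD3_c0)) = v4203 :=
  Lgr Lrot38 (Lpr_dt (f631852 IH) (Lpn v4203))
theorem f722005 : Led Lsl_et v4203 = v14339 :=
  Lgr Lrot122 (Lpe (f631854 IH) (Lpr_gt (K50.f186190 IH) (Lpe (f185169 IH) (Lpr_et (K35.f71521 IH) (Lpe (K10.f185086 IH) (Lpr_dt (K10.f185085 IH) (Lpr_gt (K10.f185128 IH) (Lpr_df (K15.f186168 IH) (Lpr_et (K39.f185139 IH) (Lpr_gt (f722001 IH) (Lpn v14339)))))))))))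
theorem f631855 : Led Lsl_ff (LP (LK LD1_c2 LD2_c53 LD3_c57)) = v4203 :=
  Lgr Lrot19 (Lpr_dt (K49.f169776 IH) (Lpr_ft (K35.f500479 IH) (Lpqs (K35.f507948 IH) (Lpr_dt (f631852 IH) (Lpn v4203)))))
theorem f631857 : Led Lsl_ft (LP (LK LD1_c2 LD2_c53 LD3_c57)) = v4203 :=
  Lgr Lrot48 (Lpr_ff (f631855 IH) (Lpn v4203))
theorem f289285 : Led Lsl_et (LP (LK LD1_c5 LD2_c55 LD3_c14)) = (LP (LK LD1_c2 LD2_c53 LD3_c57)) :=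
  Lre_e IH (LK LD1_c5 LD2_c55 LD3_c14) (LK LD1_c2 LD2_c53 LD3_c57) Lrfl Lrfl
theorem f631858 : Led Lsl_ft (LP (LK LD1_c11 LD2_c35 LD3_c60)) = (LP (LK LD1_c5 LD2_c55 LD3_c14)) :=
  Lre_f IH (LK LD1_c11 LD2_c35 LD3_c60) (LK LD1_c5 LD2_c55 LD3_c14) Lrfl Lrfl
theorem f722010 : Led Lsl_et (LP (LK LD1_c10 LD2_c2 LD3_c46)) = (LP (LK LD1_c11 LD2_c35 LD3_c60)) :=
  Lgr Lrot69 (Lpr_ff (f722009 IH) (Lpe (f722005 IH) (Lpe (f631857 IH) (Lpe (f289285 IH) (Lpe (f631858 IH) (Lpn (LP (LK LD1_c11 LD2_c35 LD3_c60))))))))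
theorem f722011 : Led Lsl_et (LP (LK LD1_c10 LD2_c2 LD3_c46)) = (LP (LK LD1_c11 LD2_c35 LD3_c60)) :=
  Leop (Lpe (f722010 IH) (Lpn (LP (LK LD1_c10 LD2_c2 LD3_c46))))
theorem seed_830 : LEOK LG_e (LK LD1_c10 LD2_c2 LD3_c46) :=
  Leoe_e (LK LD1_c10 LD2_c2 LD3_c46) (f722011 IH)
theorem f722012 : Led Lsl_ft (LP (LK LD1_c10 LD2_c2 LD3_c46)) = v14339 :=
  Lgr Lrot48 (Lpr_ff (f722009 IH) (Lpn v14339))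
theorem f416531 : Led Lsl_et (LP (LK LD1_c4 LD2_c49 LD3_c17)) = (LP (LK LD1_c9 LD2_c31 LD3_c22)) :=
  Lre_e IH (LK LD1_c4 LD2_c49 LD3_c17) (LK LD1_c9 LD2_c31 LD3_c22) Lrfl Lrfl
theorem f722008 : Led Lsl_ef v4203 = v14339 :=
  Lgr Lrot73 (Lpe (f631854 IH) (Lpr_et (K35.f416530 IH) (Lpr_dt (K24.f414531 IH) (Lpr_et (f416531 IH) (Lpr_dt (f722006 IH) (Lpn v14339))))))
theorem f169777 : Led Lsl_et (LP (LK LD1_c2 LD2_c53 LD3_c57)) = (LP (LK LD1_c5 LD2_c55 LD3_c14)) :=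
  Lre_e IH (LK LD1_c2 LD2_c53 LD3_c57) (LK LD1_c5 LD2_c55 LD3_c14) Lrfl Lrfl
theorem f169791 : Led Lsl_ft (LP (LK LD1_c5 LD2_c55 LD3_c14)) = (LP (LK LD1_c11 LD2_c35 LD3_c60)) :=
  Lre_f IH (LK LD1_c5 LD2_c55 LD3_c14) (LK LD1_c11 LD2_c35 LD3_c60) Lrfl Lrfl
theorem f722013 : Led Lsl_ef (LP (LK LD1_c10 LD2_c2 LD3_c46)) = (LP (LK LD1_c11 LD2_c35 LD3_c60)) :=
  Lgr Lrot21 (Lpr_ft (f722012 IH) (Lpe (f722008 IH) (Lpe (f631855 IH) (Lpr_et (f169777 IH) (Lpr_ft (f169791 IH) (Lpn (LP (LK LD1_c11 LD2_c35 LD3_c60))))))))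
theorem f422760 : Led Lsl_bt (LP (LK LD1_c10 LD2_c2 LD3_c46)) = (LP (LK LD1_c18 LD2_c21 LD3_c5)) :=
  Lre_b IH (LK LD1_c10 LD2_c2 LD3_c46) (LK LD1_c18 LD2_c21 LD3_c5) Lrfl Lrfl
theorem f69234 : Led Lsl_dt (LP (LK LD1_c12 LD2_c23 LD3_c23)) = (LP (LK LD1_c6 LD2_c25 LD3_c10)) :=
  Lre_d IH (LK LD1_c12 LD2_c23 LD3_c23) (LK LD1_c6 LD2_c25 LD3_c10) Lrfl Lrfl
theorem f701165 : Led Lsl_af (LP (LK LD1_c4 LD2_c40 LD3_c3)) = K52.v13112 :=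
  Lgr Lrot0 (Lpr_at (K52.f701164 IH) (Lpn K52.v13112))
theorem f714384 : Led Lsl_af (LP (LK LD1_c12 LD2_c23 LD3_c23)) = (LP (LK LD1_c9 LD2_c15 LD3_c38)) :=
  Lgr Lrot117 (Lpr_dt (f69234 IH) (Lpq (K52.f714134 IH) (Lpe (f701165 IH) (Lpr_dt (K52.f445891 IH) (Lpn (LP (LK LD1_c9 LD2_c15 LD3_c38)))))))
theorem f27075 : Led Lsl_bt (LP (LK LD1_c9 LD2_c15 LD3_c38)) = (LP (LK LD1_c4 LD2_c40 LD3_c4)) :=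
  Lre_b IH (LK LD1_c9 LD2_c15 LD3_c38) (LK LD1_c4 LD2_c40 LD3_c4) Lrfl Lrfl
theorem f639428 : Led Lsl_bt (LP (LK LD1_c3 LD2_c0 LD3_c50)) = (LP (LK LD1_c6 LD2_c8 LD3_c59)) :=
  Lre_b IH (LK LD1_c3 LD2_c0 LD3_c50) (LK LD1_c6 LD2_c8 LD3_c59) Lrfl Lrfl
theorem f639460 : Led Lsl_ff (LP (LK LD1_c9 LD2_c15 LD3_c38)) = (LP (LK LD1_c6 LD2_c8 LD3_c59)) :=
  Lgr Lrot25 (Lpr_bt (f27075 IH) (Lpr_ft (K52.f639456 IH) (Lpr_bt (f639428 IH) (Lpn (LP (LK LD1_c6 LD2_c8 LD3_c59))))))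
theorem f639500 : Led Lsl_gt (LP (LK LD1_c6 LD2_c8 LD3_c59)) = (LP (LK LD1_c11 LD2_c59 LD3_c10)) :=
  Lre_g IH (LK LD1_c6 LD2_c8 LD3_c59) (LK LD1_c11 LD2_c59 LD3_c10) Lrfl Lrfl
theorem f714392 : Led Lsl_gf (LP (LK LD1_c12 LD2_c23 LD3_c23)) = (LP (LK LD1_c11 LD2_c59 LD3_c10)) :=
  Lgr Lrot76 (Lpr_af (f714384 IH) (Lpr_ff (f639460 IH) (Lpr_gt (f639500 IH) (Lpn (LP (LK LD1_c11 LD2_c59 LD3_c10))))))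
theorem f69225 : Led Lsl_dt (LP (LK LD1_c6 LD2_c2 LD3_c32)) = (LP (LK LD1_c11 LD2_c49 LD3_c21)) :=
  Lre_d IH (LK LD1_c6 LD2_c2 LD3_c32) (LK LD1_c11 LD2_c49 LD3_c21) Lrfl Lrfl
theorem f69226 : Led Lsl_dt (LP (LK LD1_c6 LD2_c25 LD3_c10)) = (LP (LK LD1_c12 LD2_c23 LD3_c23)) :=
  Lre_d IH (LK LD1_c6 LD2_c25 LD3_c10) (LK LD1_c12 LD2_c23 LD3_c23) Lrfl Lrfl
theorem f69227 : Led Lsl_gf (LP (LK LD1_c11 LD2_c49 LD3_c21)) = (LP (LK LD1_c12 LD2_c23 LD3_c23)) :=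
  Lgr Lrot134 (Lpe (f69225 IH) (Lpr_et (K50.f69224 IH) (Lpr_gt (K45.f69223 IH) (Lpe (K35.f69212 IH) (Lpr_dt (K6.f68568 IH) (Lpr_gt (K4.f68538 IH) (Lpe (K8.f69220 IH) (Lpr_et (K32.f69221 IH) (Lpr_gt (K52.f69222 IH) (Lpr_dt (f69226 IH) (Lpn (LP (LK LD1_c12 LD2_c23 LD3_c23)))))))))))))
theorem f714394 : Led Lsl_ff (LP (LK LD1_c11 LD2_c35 LD3_c57)) = (LP (LK LD1_c11 LD2_c59 LD3_c10)) :=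
  Lgr Lrot52 (Lpe (K50.f700176 IH) (Lpr_gf (f69227 IH) (Lpr_gf (f714392 IH) (Lpn (LP (LK LD1_c11 LD2_c59 LD3_c10))))))
theorem f714399 : Led Lsl_ft (LP (LK LD1_c11 LD2_c35 LD3_c57)) = (LP (LK LD1_c11 LD2_c59 LD3_c10)) :=
  Lgr Lrot48 (Lpr_ff (f714394 IH) (Lpn (LP (LK LD1_c11 LD2_c59 LD3_c10))))
theorem f691518 : Led Lsl_bt (LP (LK LD1_c5 LD2_c55 LD3_c14)) = (LP (LK LD1_c11 LD2_c35 LD3_c57)) :=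
  Lre_b IH (LK LD1_c5 LD2_c55 LD3_c14) (LK LD1_c11 LD2_c35 LD3_c57) Lrfl Lrfl
theorem f714401 : Led Lsl_bf (LP (LK LD1_c11 LD2_c35 LD3_c60)) = (LP (LK LD1_c11 LD2_c59 LD3_c10)) :=
  Lgr Lrot61 (Lpr_ft (f631858 IH) (Lpr_bt (f691518 IH) (Lpr_ft (f714399 IH) (Lpn (LP (LK LD1_c11 LD2_c59 LD3_c10))))))
theorem f722015 : Led Lsl_et (LP (LK LD1_c18 LD2_c21 LD3_c5)) = (LP (LK LD1_c11 LD2_c59 LD3_c10)) :=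
  Lgr Lrot74 (Lpe (f422760 IH) (Lpr_ef (f722013 IH) (Lpr_bf (f714401 IH) (Lpn (LP (LK LD1_c11 LD2_c59 LD3_c10))))))
theorem f614976 : Led Lsl_et (LP (LK LD1_c11 LD2_c35 LD3_c57)) = (LP (LK LD1_c5 LD2_c55 LD3_c12)) :=
  Lre_e IH (LK LD1_c11 LD2_c35 LD3_c57) (LK LD1_c5 LD2_c55 LD3_c12) Lrfl Lrfl
def v12965 : LQ := Led Lsl_dt (LP (LK LD1_c4 LD2_c35 LD3_c42))
theorem f699909 : Led Lsl_dt (LP (LK LD1_c4 LD2_c35 LD3_c42)) = v12965 :=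
  Lrfl
theorem f508537 : Led Lsl_ft (LP (LK LD1_c2 LD2_c53 LD3_c56)) = (LP (LK LD1_c4 LD2_c35 LD3_c42)) :=
  Lgr Lrot48 (Lpr_ff (K51.f508530 IH) (Lpn (LP (LK LD1_c4 LD2_c35 LD3_c42))))
theorem f699912 : Led Lsl_ff (LP (LK LD1_c5 LD2_c55 LD3_c12)) = v12965 :=
  Lgr Lrot19 (Lpr_dt (K49.f435627 IH) (Lpr_ft (f508537 IH) (Lpr_dt (f699909 IH) (Lpn v12965))))
theorem f699914 : Led Lsl_ft (LP (LK LD1_c5 LD2_c55 LD3_c12)) = v12965 :=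
  Lgr Lrot48 (Lpr_ff (f699912 IH) (Lpn v12965))
theorem f699911 : Led Lsl_df (LP (LK LD1_c4 LD2_c35 LD3_c42)) = v12965 :=
  Lgr Lrot38 (Lpr_dt (f699909 IH) (Lpn v12965))
theorem f495421 : Led Lsl_af (LP (LK LD1_c1 LD2_c13 LD3_c44)) = K37.v1412 :=
  Lgr Lrot0 (Lpr_at (K37.f495420 IH) (Lpn K37.v1412))
def v1411 : LQ := Led Lsl_gf (LP (LK LD1_c1 LD2_c13 LD3_c44))
theorem f495418 : Led Lsl_gf (LP (LK LD1_c1 LD2_c13 LD3_c44)) = v1411 :=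
  Lrfl
theorem f495431 : Led Lsl_gt (LP (LK LD1_c2 LD2_c30 LD3_c17)) = v1411 :=
  Lgr Lrot5 (Lpr_ft (K38.f495429 IH) (Lpe (f495421 IH) (Lpr_gf (f495418 IH) (Lpn v1411))))
def v1758 : LQ := Led Lsl_gt (LP (LK LD1_c1 LD2_c25 LD3_c47))
theorem f501319 : Led Lsl_gt (LP (LK LD1_c1 LD2_c25 LD3_c47)) = v1758 :=
  Lrfl
theorem f538604 : Led Lsl_et (LP (LK LD1_c2 LD2_c15 LD3_c43)) = (LP (LK LD1_c1 LD2_c4 LD3_c52)) :=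
  Lre_e IH (LK LD1_c2 LD2_c15 LD3_c43) (LK LD1_c1 LD2_c4 LD3_c52) Lrfl Lrfl
theorem f559947 : Led Lsl_gt (LP (LK LD1_c3 LD2_c0 LD3_c0)) = (LP (LK LD1_c3 LD2_c9 LD3_c53)) :=
  Lgr Lrot137 (Lpe (K30.f385367 IH) (Lpr_dt (K41.f193890 IH) (Lpr_gf (K44.f559942 IH) (Lpe (K39.f72366 IH) (Lpr_et (K39.f119049 IH) (Lpe (K5.f20415 IH) (Lpe (f538604 IH) (Lpr_dt (K42.f494454 IH) (Lpr_gf (K43.f557793 IH) (Lpe (K38.f117568 IH) (Lpn (LP (LK LD1_c3 LD2_c9 LD3_c53)))))))))))))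
theorem f494436 : Led Lsl_dt (LP (LK LD1_c2 LD2_c15 LD3_c50)) = (LP (LK LD1_c1 LD2_c4 LD3_c54)) :=
  Lre_d IH (LK LD1_c2 LD2_c15 LD3_c50) (LK LD1_c1 LD2_c4 LD3_c54) Lrfl Lrfl
theorem f559955 : v1758 = (LP (LK LD1_c1 LD2_c13 LD3_c44)) :=
  (Llr Lrot94 (Lpe (f501319 IH) (Lpe (K38.f56005 IH) (Lpr_gt (f559947 IH) (Lpr_dt (K38.f117568 IH) (Lpe (K43.f557793 IH) (Lpr_dt (K35.f494444 IH) (Lpe (K38.f494442 IH) (Lpe (f494436 IH) (Lpr_gf (K52.f555874 IH) (Lpe (K18.f185746 IH) (Lpn (LP (LK LD1_c1 LD2_c13 LD3_c44)))))))))))))).symm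
theorem f559956 : (LP (LK LD1_c1 LD2_c25 LD3_c47)) = v1411 :=
  Lefun (Lecon (Lfl_gt (f501319 IH)) (f559955 IH)) (f495418 IH)
theorem f385924 : Led Lsl_et (LP (LK LD1_c3 LD2_c0 LD3_c1)) = (LP (LK LD1_c6 LD2_c7 LD3_c44)) :=
  Lre_e IH (LK LD1_c3 LD2_c0 LD3_c1) (LK LD1_c6 LD2_c7 LD3_c44) Lrfl Lrfl
theorem f183452 : Led Lsl_gt (LP (LK LD1_c6 LD2_c7 LD3_c44)) = (LP (LK LD1_c11 LD2_c57 LD3_c51)) :=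
  Lre_g IH (LK LD1_c6 LD2_c7 LD3_c44) (LK LD1_c11 LD2_c57 LD3_c51) Lrfl Lrfl
theorem f699915 : Led Lsl_ef (LP (LK LD1_c11 LD2_c57 LD3_c51)) = v12965 :=
  Lgr Lrot17 (Lpe (f183452 IH) (Lpe (f385924 IH) (Lpr_dt (K42.f56006 IH) (Lpqs (f559956 IH) (Lpe (f495431 IH) (Lpr_df (K38.f546412 IH) (Lpe (K38.f494449 IH) (Lpe (K52.f538389 IH) (Lpr_dt (K52.f546430 IH) (Lpr_gf (K51.f622267 IH) (Lpr_df (f699911 IH) (Lpn v12965))))))))))))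
theorem f722019 : Led Lsl_ff (LP (LK LD1_c18 LD2_c21 LD3_c5)) = (LP (LK LD1_c11 LD2_c57 LD3_c51)) :=
  Lgr Lrot72 (Lpr_et (f722015 IH) (Lpe (f714394 IH) (Lpr_et (f614976 IH) (Lpr_ft (f699914 IH) (Lpe (f699915 IH) (Lpn (LP (LK LD1_c11 LD2_c57 LD3_c51))))))))
theorem f722020 : Led Lsl_ft (LP (LK LD1_c11 LD2_c57 LD3_c51)) = (LP (LK LD1_c18 LD2_c21 LD3_c5)) :=
  Leop (Lpr_ff (f722019 IH) (Lpn (LP (LK LD1_c11 LD2_c57 LD3_c51))))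
theorem seed_831 : LEOK LG_f (LK LD1_c11 LD2_c57 LD3_c51) :=
  Leoe_f (LK LD1_c11 LD2_c57 LD3_c51) (f722020 IH)
def v14347 : LQ := Led Lsl_et (LP (LK LD1_c5 LD2_c6 LD3_c59))
theorem f722068 : Led Lsl_et (LP (LK LD1_c5 LD2_c6 LD3_c59)) = v14347 :=
  Lrfl
theorem f308036 : Led Lsl_ft (LP (LK LD1_c5 LD2_c6 LD3_c39)) = (LP (LK LD1_c5 LD2_c6 LD3_c59)) :=
  Lgr Lrot48 (Lpr_ff (K36.f308033 IH) (Lpn (LP (LK LD1_c5 LD2_c6 LD3_c59))))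
theorem f308439 : Led Lsl_bf (LP (LK LD1_c5 LD2_c7 LD3_c16)) = (LP (LK LD1_c5 LD2_c14 LD3_c12)) :=
  Lgr Lrot24 (Lpr_bt (K50.f308431 IH) (Lpn (LP (LK LD1_c5 LD2_c14 LD3_c12))))
theorem f387249 : Led Lsl_bf (LP (LK LD1_c4 LD2_c58 LD3_c47)) = (LP (LK LD1_c5 LD2_c13 LD3_c59)) :=
  Lgr Lrot61 (Lpr_ft (K40.f387245 IH) (Lpe (f308439 IH) (Lpe (K36.f308525 IH) (Lpn (LP (LK LD1_c5 LD2_c13 LD3_c59))))))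
theorem f387078 : Led Lsl_et (LP (LK LD1_c4 LD2_c58 LD3_c47)) = (LP (LK LD1_c9 LD2_c48 LD3_c2)) :=
  Lre_e IH (LK LD1_c4 LD2_c58 LD3_c47) (LK LD1_c9 LD2_c48 LD3_c2) Lrfl Lrfl
theorem f61395 : Led Lsl_et (LP (LK LD1_c10 LD2_c17 LD3_c60)) = (LP (LK LD1_c5 LD2_c13 LD3_c59)) :=
  Lre_e IH (LK LD1_c10 LD2_c17 LD3_c60) (LK LD1_c5 LD2_c13 LD3_c59) Lrfl Lrfl
theorem f387256 : Led Lsl_bt (LP (LK LD1_c9 LD2_c48 LD3_c2)) = (LP (LK LD1_c10 LD2_c17 LD3_c60)) :=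
  Lgr Lrot119 (Lpe (f387078 IH) (Lpr_bf (f387249 IH) (Lpe (f61395 IH) (Lpn (LP (LK LD1_c10 LD2_c17 LD3_c60))))))
theorem f387260 : Led Lsl_bf (LP (LK LD1_c9 LD2_c48 LD3_c2)) = (LP (LK LD1_c10 LD2_c17 LD3_c60)) :=
  Lgr Lrot24 (Lpr_bt (f387256 IH) (Lpn (LP (LK LD1_c10 LD2_c17 LD3_c60))))
theorem f61342 : Led Lsl_at (LP (LK LD1_c5 LD2_c14 LD3_c4)) = (LP (LK LD1_c10 LD2_c17 LD3_c60)) :=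
  Lre_a IH (LK LD1_c5 LD2_c14 LD3_c4) (LK LD1_c10 LD2_c17 LD3_c60) Lrfl Lrfl
theorem f61319 : Led Lsl_bt (LP (LK LD1_c2 LD2_c33 LD3_c57)) = (LP (LK LD1_c5 LD2_c14 LD3_c4)) :=
  Lre_b IH (LK LD1_c2 LD2_c33 LD3_c57) (LK LD1_c5 LD2_c14 LD3_c4) Lrfl Lrfl
theorem f165674 : Led Lsl_bt (LP (LK LD1_c5 LD2_c7 LD3_c6)) = (LP (LK LD1_c2 LD2_c30 LD3_c56)) :=
  Lre_b IH (LK LD1_c5 LD2_c7 LD3_c6) (LK LD1_c2 LD2_c30 LD3_c56) Lrfl Lrfl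
theorem f387264 : Led Lsl_at (LP (LK LD1_c9 LD2_c48 LD3_c2)) = (LP (LK LD1_c5 LD2_c7 LD3_c6)) :=
  Lgr Lrot67 (Lpr_bf (f387260 IH) (Lpe (f61342 IH) (Lpe (f61319 IH) (Lpr_af (K18.f301759 IH) (Lpe (f165674 IH) (Lpn (LP (LK LD1_c5 LD2_c7 LD3_c6))))))))
theorem f387262 : Led Lsl_ct (LP (LK LD1_c17 LD2_c58 LD3_c14)) = (LP (LK LD1_c9 LD2_c48 LD3_c2)) :=
  Lre_c IH (LK LD1_c17 LD2_c58 LD3_c14) (LK LD1_c9 LD2_c48 LD3_c2) Lrfl Lrfl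
theorem f165687 : Led Lsl_ct (LP (LK LD1_c5 LD2_c7 LD3_c6)) = (LP (LK LD1_c10 LD2_c4 LD3_c49)) :=
  Lre_c IH (LK LD1_c5 LD2_c7 LD3_c6) (LK LD1_c10 LD2_c4 LD3_c49) Lrfl Lrfl
theorem f387266 : Led Lsl_af (LP (LK LD1_c17 LD2_c58 LD3_c14)) = (LP (LK LD1_c10 LD2_c4 LD3_c49)) :=
  Lgr Lrot68 (Lpr_ct (f387262 IH) (Lpr_at (f387264 IH) (Lpr_ct (f165687 IH) (Lpn (LP (LK LD1_c10 LD2_c4 LD3_c49))))))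
theorem f539647 : Led Lsl_af (LP (LK LD1_c11 LD2_c40 LD3_c24)) = (LP (LK LD1_c10 LD2_c4 LD3_c2)) :=
  Lgr Lrot0 (Lpr_at (K36.f539645 IH) (Lpn (LP (LK LD1_c10 LD2_c4 LD3_c2))))
theorem f699254 : Led Lsl_ft (LP (LK LD1_c17 LD2_c58 LD3_c14)) = (LP (LK LD1_c10 LD2_c4 LD3_c2)) :=
  Lgr Lrot101 (Lpr_af (f387266 IH) (Lpr_ff (f699250 IH) (Lpr_af (f539647 IH) (Lpn (LP (LK LD1_c10 LD2_c4 LD3_c2))))))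
theorem f387277 : Led Lsl_et (LP (LK LD1_c9 LD2_c48 LD3_c1)) = (LP (LK LD1_c17 LD2_c58 LD3_c14)) :=
  Lre_e IH (LK LD1_c9 LD2_c48 LD3_c1) (LK LD1_c17 LD2_c58 LD3_c14) Lrfl Lrfl
theorem f722074 : Led Lsl_ff (LP (LK LD1_c9 LD2_c48 LD3_c1)) = v14347 :=
  Lgr Lrot72 (Lpr_et (f387277 IH) (Lpr_ft (f699254 IH) (Lpr_et (K36.f176983 IH) (Lpr_ft (f308036 IH) (Lpr_et (f722068 IH) (Lpn v14347))))))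
theorem f387072 : Led Lsl_ct (LP (LK LD1_c9 LD2_c48 LD3_c1)) = (LP (LK LD1_c4 LD2_c58 LD3_c47)) :=
  Lre_c IH (LK LD1_c9 LD2_c48 LD3_c1) (LK LD1_c4 LD2_c58 LD3_c47) Lrfl Lrfl
theorem f722077 : Led Lsl_ct (LP (LK LD1_c5 LD2_c14 LD3_c12)) = v14347 :=
  Lgr Lrot40 (Lpe (K40.f387245 IH) (Lpe (f387072 IH) (Lpr_ff (f722074 IH) (Lpn v14347))))
theorem f308441 : Led Lsl_ct (LP (LK LD1_c10 LD2_c5 LD3_c4)) = (LP (LK LD1_c5 LD2_c7 LD3_c16)) :=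
  Lre_c IH (LK LD1_c10 LD2_c5 LD3_c4) (LK LD1_c5 LD2_c7 LD3_c16) Lrfl Lrfl
theorem f185054 : Led Lsl_bt (LP (LK LD1_c2 LD2_c30 LD3_c51)) = (LP (LK LD1_c5 LD2_c6 LD3_c59)) :=
  Lre_b IH (LK LD1_c2 LD2_c30 LD3_c51) (LK LD1_c5 LD2_c6 LD3_c59) Lrfl Lrfl
theorem f722070 : Led Lsl_bf (LP (LK LD1_c5 LD2_c7 LD3_c0)) = v14347 :=
  Lgr Lrot96 (Lpr_et (K40.f168211 IH) (Lpr_bt (f185054 IH) (Lpr_et (f722068 IH) (Lpn v14347))))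
theorem f166264 : Led Lsl_ct (LP (LK LD1_c5 LD2_c7 LD3_c0)) = (LP (LK LD1_c10 LD2_c4 LD3_c42)) :=
  Lre_c IH (LK LD1_c5 LD2_c7 LD3_c0) (LK LD1_c10 LD2_c4 LD3_c42) Lrfl Lrfl
theorem f722079 : Led Lsl_bf (LP (LK LD1_c10 LD2_c5 LD3_c4)) = (LP (LK LD1_c10 LD2_c4 LD3_c42)) :=
  Lgr Lrot90 (Lpr_ct (f308441 IH) (Lpr_bt (K50.f308431 IH) (Lpr_ct (f722077 IH) (Lpe (f722070 IH) (Lpr_ct (f166264 IH) (Lpn (LP (LK LD1_c10 LD2_c4 LD3_c42))))))))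
theorem f722080 : Led Lsl_bt (LP (LK LD1_c10 LD2_c4 LD3_c42)) = (LP (LK LD1_c10 LD2_c5 LD3_c4)) :=
  Leop (Lpr_bf (f722079 IH) (Lpn (LP (LK LD1_c10 LD2_c4 LD3_c42))))
theorem seed_832 : LEOK LG_b (LK LD1_c10 LD2_c4 LD3_c42) :=
  Leoe_b (LK LD1_c10 LD2_c4 LD3_c42) (f722080 IH)
def v14352 : LQ := Led Lsl_bt (LP (LK LD1_c5 LD2_c7 LD3_c2))
theorem f722111 : Led Lsl_bt (LP (LK LD1_c5 LD2_c7 LD3_c2)) = v14352 :=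
  Lrfl
theorem f198800 : Led Lsl_bt (LP (LK LD1_c10 LD2_c4 LD3_c3)) = (LP (LK LD1_c5 LD2_c6 LD3_c40)) :=
  Lre_b IH (LK LD1_c10 LD2_c4 LD3_c3) (LK LD1_c5 LD2_c6 LD3_c40) Lrfl Lrfl
theorem f722115 : Led Lsl_ff (LP (LK LD1_c10 LD2_c4 LD3_c3)) = v14352 :=
  Lgr Lrot25 (Lpr_bt (f198800 IH) (Lpe (K18.f302935 IH) (Lpr_bt (f722111 IH) (Lpn v14352))))
theorem f722117 : Led Lsl_ft (LP (LK LD1_c10 LD2_c4 LD3_c3)) = v14352 :=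
  Lgr Lrot48 (Lpr_ff (f722115 IH) (Lpn v14352))
theorem f198806 : Led Lsl_et (LP (LK LD1_c18 LD2_c22 LD3_c41)) = (LP (LK LD1_c10 LD2_c4 LD3_c3)) :=
  Lre_e IH (LK LD1_c18 LD2_c22 LD3_c41) (LK LD1_c10 LD2_c4 LD3_c3) Lrfl Lrfl
theorem f185081 : Led Lsl_et (LP (LK LD1_c10 LD2_c4 LD3_c42)) = (LP (LK LD1_c5 LD2_c7 LD3_c2)) :=
  Lre_e IH (LK LD1_c10 LD2_c4 LD3_c42) (LK LD1_c5 LD2_c7 LD3_c2) Lrfl Lrfl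
theorem f722081 : Led Lsl_bt (LP (LK LD1_c10 LD2_c5 LD3_c4)) = (LP (LK LD1_c10 LD2_c4 LD3_c42)) :=
  Lgr Lrot127 (Lpr_bf (f722079 IH) (Lpn (LP (LK LD1_c10 LD2_c4 LD3_c42))))
theorem f722114 : Led Lsl_ef (LP (LK LD1_c10 LD2_c5 LD3_c4)) = v14352 :=
  Lgr Lrot29 (Lpr_bt (f722081 IH) (Lpr_et (f185081 IH) (Lpr_bt (f722111 IH) (Lpn v14352))))
theorem f308613 : Led Lsl_et (LP (LK LD1_c10 LD2_c17 LD3_c59)) = (LP (LK LD1_c18 LD2_c43 LD3_c2)) :=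
  Lre_e IH (LK LD1_c10 LD2_c17 LD3_c59) (LK LD1_c18 LD2_c43 LD3_c2) Lrfl Lrfl
theorem f722118 : Led Lsl_ff (LP (LK LD1_c18 LD2_c22 LD3_c41)) = (LP (LK LD1_c18 LD2_c43 LD3_c2)) :=
  Lgr Lrot72 (Lpr_et (f198806 IH) (Lpr_ft (f722117 IH) (Lpe (f722114 IH) (Lpe (K50.f308475 IH) (Lpr_et (f308613 IH) (Lpn (LP (LK LD1_c18 LD2_c43 LD3_c2))))))))
theorem f722119 : Led Lsl_ft (LP (LK LD1_c18 LD2_c43 LD3_c2)) = (LP (LK LD1_c18 LD2_c22 LD3_c41)) :=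
  Leop (Lpr_ff (f722118 IH) (Lpn (LP (LK LD1_c18 LD2_c43 LD3_c2))))
theorem seed_833 : LEOK LG_f (LK LD1_c18 LD2_c43 LD3_c2) :=
  Leoe_f (LK LD1_c18 LD2_c43 LD3_c2) (f722119 IH)
def v14356 : LQ := Led Lsl_ft (LP (LK LD1_c5 LD2_c7 LD3_c7))
theorem f722151 : Led Lsl_ft (LP (LK LD1_c5 LD2_c7 LD3_c7)) = v14356 :=
  Lrfl
theorem f250198 : Led Lsl_gt (LP (LK LD1_c5 LD2_c7 LD3_c7)) = (LP (LK LD1_c10 LD2_c4 LD3_c53)) :=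
  Lre_g IH (LK LD1_c5 LD2_c7 LD3_c7) (LK LD1_c10 LD2_c4 LD3_c53) Lrfl Lrfl
theorem f177361 : Led Lsl_ft (LP (LK LD1_c10 LD2_c2 LD3_c45)) = (LP (LK LD1_c5 LD2_c5 LD3_c53)) :=
  Lre_f IH (LK LD1_c10 LD2_c2 LD3_c45) (LK LD1_c5 LD2_c5 LD3_c53) Lrfl Lrfl
theorem f722152 : Led Lsl_af (LP (LK LD1_c10 LD2_c2 LD3_c45)) = v14356 :=
  Lgr Lrot45 (Lpr_ft (f177361 IH) (Lpr_at (K50.f313861 IH) (Lpr_ft (f722151 IH) (Lpn v14356))))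
theorem f722157 : Led Lsl_gt (LP (LK LD1_c10 LD2_c4 LD3_c53)) = (LP (LK LD1_c10 LD2_c2 LD3_c45)) :=
  Lgr Lrot46 (Lpe (f250198 IH) (Lpr_ft (f722151 IH) (Lpe (f722152 IH) (Lpn (LP (LK LD1_c10 LD2_c2 LD3_c45))))))
theorem f722158 : Led Lsl_gt (LP (LK LD1_c10 LD2_c4 LD3_c53)) = (LP (LK LD1_c10 LD2_c2 LD3_c45)) :=
  Leop (Lpe (f722157 IH) (Lpn (LP (LK LD1_c10 LD2_c4 LD3_c53))))
theorem seed_834 : LEOK LG_g (LK LD1_c10 LD2_c4 LD3_c53) :=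
  Leoe_g (LK LD1_c10 LD2_c4 LD3_c53) (f722158 IH)
def v14361 : LQ := Led Lsl_dt (LP (LK LD1_c5 LD2_c7 LD3_c11))
theorem f722178 : Led Lsl_dt (LP (LK LD1_c5 LD2_c7 LD3_c11)) = v14361 :=
  Lrfl
theorem f165688 : Led Lsl_ft (LP (LK LD1_c2 LD2_c30 LD3_c56)) = (LP (LK LD1_c5 LD2_c7 LD3_c11)) :=
  Lre_f IH (LK LD1_c2 LD2_c30 LD3_c56) (LK LD1_c5 LD2_c7 LD3_c11) Lrfl Lrfl
def v4188 : LQ := Led Lsl_et (LP (LK LD1_c2 LD2_c13 LD3_c60))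
theorem f631744 : Led Lsl_et (LP (LK LD1_c2 LD2_c13 LD3_c60)) = v4188 :=
  Lrfl
theorem f631746 : Led Lsl_df (LP (LK LD1_c2 LD2_c30 LD3_c56)) = v4188 :=
  Lgr Lrot70 (Lpr_et (K18.f68550 IH) (Lpr_dt (K10.f68549 IH) (Lpr_et (K18.f68548 IH) (Lpe (K18.f68540 IH) (Lpr_et (f631744 IH) (Lpn v4188))))))
theorem f722181 : Led Lsl_ff v4188 = v14361 :=
  Lgr Lrot19 (Lpe (f631746 IH) (Lpr_ft (f165688 IH) (Lpr_dt (f722178 IH) (Lpn v14361))))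
theorem f631747 : Led Lsl_ef (LP (LK LD1_c2 LD2_c13 LD3_c60)) = v4188 :=
  Lgr Lrot88 (Lpr_et (f631744 IH) (Lpn v4188))
theorem f176652 : Led Lsl_et (LP (LK LD1_c1 LD2_c21 LD3_c23)) = (LP (LK LD1_c2 LD2_c50 LD3_c48)) :=
  Lre_e IH (LK LD1_c1 LD2_c21 LD3_c23) (LK LD1_c2 LD2_c50 LD3_c48) Lrfl Lrfl
theorem f210512 : Led Lsl_ft (LP (LK LD1_c2 LD2_c50 LD3_c48)) = (LP (LK LD1_c5 LD2_c49 LD3_c26)) :=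
  Lre_f IH (LK LD1_c2 LD2_c50 LD3_c48) (LK LD1_c5 LD2_c49 LD3_c26) Lrfl Lrfl
theorem f722184 : Led Lsl_et (LP (LK LD1_c5 LD2_c49 LD3_c26)) = v14361 :=
  Lgr Lrot69 (Lpe (f210512 IH) (Lpe (f176652 IH) (Lpr_ff (K36.f301873 IH) (Lpr_ef (f631747 IH) (Lpr_ff (f722181 IH) (Lpn v14361))))))
theorem f204860 : Led Lsl_cf (LP (LK LD1_c1 LD2_c25 LD3_c33)) = (LP (LK LD1_c0 LD2_c56 LD3_c58)) :=
  Lgr Lrot11 (Lpr_ct (K11.f204856 IH) (Lpn (LP (LK LD1_c0 LD2_c56 LD3_c58))))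
theorem f177821 : Led Lsl_gt (LP (LK LD1_c1 LD2_c18 LD3_c60)) = (LP (LK LD1_c2 LD2_c45 LD3_c19)) :=
  Lre_g IH (LK LD1_c1 LD2_c18 LD3_c60) (LK LD1_c2 LD2_c45 LD3_c19) Lrfl Lrfl
theorem f210483 : Led Lsl_df (LP (LK LD1_c1 LD2_c25 LD3_c33)) = (LP (LK LD1_c2 LD2_c45 LD3_c19)) :=
  Lgr Lrot84 (Lpr_cf (f204860 IH) (Lpe (K14.f204866 IH) (Lpr_gf (K14.f210481 IH) (Lpe (K11.f53172 IH) (Lpr_gf (K9.f55615 IH) (Lpe (K1.f55582 IH) (Lpr_gt (K10.f177819 IH) (Lpr_dt (K22.f168217 IH) (Lpr_gt (f177821 IH) (Lpn (LP (LK LD1_c2 LD2_c45 LD3_c19))))))))))))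
theorem f210497 : Led Lsl_et (LP (LK LD1_c5 LD2_c38 LD3_c48)) = (LP (LK LD1_c2 LD2_c45 LD3_c19)) :=
  Lre_e IH (LK LD1_c5 LD2_c38 LD3_c48) (LK LD1_c2 LD2_c45 LD3_c19) Lrfl Lrfl
theorem f210498 : Led Lsl_dt (LP (LK LD1_c2 LD2_c50 LD3_c48)) = (LP (LK LD1_c5 LD2_c38 LD3_c48)) :=
  Lgr Lrot77 (Lpe (f176652 IH) (Lpe (K11.f176647 IH) (Lpe (K18.f205206 IH) (Lpr_df (f210483 IH) (Lpe (f210497 IH) (Lpn (LP (LK LD1_c5 LD2_c38 LD3_c48))))))))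
theorem f210508 : Led Lsl_ft (LP (LK LD1_c5 LD2_c49 LD3_c26)) = (LP (LK LD1_c2 LD2_c50 LD3_c48)) :=
  Lre_f IH (LK LD1_c5 LD2_c49 LD3_c26) (LK LD1_c2 LD2_c50 LD3_c48) Lrfl Lrfl
theorem f210509 : Led Lsl_ft (LP (LK LD1_c5 LD2_c38 LD3_c48)) = (LP (LK LD1_c11 LD2_c8 LD3_c35)) :=
  Lre_f IH (LK LD1_c5 LD2_c38 LD3_c48) (LK LD1_c11 LD2_c8 LD3_c35) Lrfl Lrfl
theorem f210510 : Led Lsl_df (LP (LK LD1_c5 LD2_c49 LD3_c26)) = (LP (LK LD1_c11 LD2_c8 LD3_c35)) :=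
  Lgr Lrot78 (Lpr_ft (f210508 IH) (Lpr_dt (f210498 IH) (Lpr_ft (f210509 IH) (Lpn (LP (LK LD1_c11 LD2_c8 LD3_c35))))))
theorem f210515 : Led Lsl_dt (LP (LK LD1_c5 LD2_c49 LD3_c26)) = (LP (LK LD1_c11 LD2_c8 LD3_c35)) :=
  Lgr Lrot42 (Lpr_df (f210510 IH) (Lpn (LP (LK LD1_c11 LD2_c8 LD3_c35))))
theorem f541329 : Led Lsl_et (LP (LK LD1_c10 LD2_c18 LD3_c26)) = (LP (LK LD1_c5 LD2_c14 LD3_c25)) :=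
  Lre_e IH (LK LD1_c10 LD2_c18 LD3_c26) (LK LD1_c5 LD2_c14 LD3_c25) Lrfl Lrfl
theorem f301995 : Led Lsl_et (LP (LK LD1_c4 LD2_c34 LD3_c8)) = (LP (LK LD1_c9 LD2_c5 LD3_c42)) :=
  Lre_e IH (LK LD1_c4 LD2_c34 LD3_c8) (LK LD1_c9 LD2_c5 LD3_c42) Lrfl Lrfl
theorem f565254 : Led Lsl_df (LP (LK LD1_c10 LD2_c18 LD3_c26)) = (LP (LK LD1_c9 LD2_c5 LD3_c42)) :=
  Lgr Lrot70 (Lpr_et (f541329 IH) (Lpr_dt (K45.f421694 IH) (Lpr_et (K41.f565250 IH) (Lpe (K41.f301908 IH) (Lpr_et (f301995 IH) (Lpn (LP (LK LD1_c9 LD2_c5 LD3_c42))))))))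
theorem f616057 : Led Lsl_dt (LP (LK LD1_c10 LD2_c18 LD3_c26)) = (LP (LK LD1_c9 LD2_c5 LD3_c42)) :=
  Lgr Lrot42 (Lpr_df (f565254 IH) (Lpn (LP (LK LD1_c9 LD2_c5 LD3_c42))))
theorem f616061 : Led Lsl_bt (LP (LK LD1_c5 LD2_c14 LD3_c26)) = (LP (LK LD1_c10 LD2_c18 LD3_c26)) :=
  Lre_b IH (LK LD1_c5 LD2_c14 LD3_c26) (LK LD1_c10 LD2_c18 LD3_c26) Lrfl Lrfl
theorem f302018 : Led Lsl_bt (LP (LK LD1_c9 LD2_c5 LD3_c42)) = (LP (LK LD1_c4 LD2_c34 LD3_c9)) :=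
  Lre_b IH (LK LD1_c9 LD2_c5 LD3_c42) (LK LD1_c4 LD2_c34 LD3_c9) Lrfl Lrfl
theorem f616062 : Led Lsl_df (LP (LK LD1_c5 LD2_c14 LD3_c26)) = (LP (LK LD1_c4 LD2_c34 LD3_c9)) :=
  Lgr Lrot12 (Lpr_bt (f616061 IH) (Lpr_dt (f616057 IH) (Lpr_bt (f302018 IH) (Lpn (LP (LK LD1_c4 LD2_c34 LD3_c9))))))
theorem f301912 : Led Lsl_et (LP (LK LD1_c4 LD2_c34 LD3_c9)) = (LP (LK LD1_c2 LD2_c13 LD3_c59)) :=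
  Lre_e IH (LK LD1_c4 LD2_c34 LD3_c9) (LK LD1_c2 LD2_c13 LD3_c59) Lrfl Lrfl
theorem f301945 : Led Lsl_at (LP (LK LD1_c2 LD2_c50 LD3_c48)) = (LP (LK LD1_c4 LD2_c34 LD3_c9)) :=
  Lgr Lrot80 (Lpe (f176652 IH) (Lpr_af (K18.f301940 IH) (Lpe (f301912 IH) (Lpn (LP (LK LD1_c4 LD2_c34 LD3_c9))))))
theorem f210506 : Led Lsl_df (LP (LK LD1_c2 LD2_c50 LD3_c48)) = (LP (LK LD1_c5 LD2_c38 LD3_c48)) :=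
  Lgr Lrot38 (Lpr_dt (f210498 IH) (Lpn (LP (LK LD1_c5 LD2_c38 LD3_c48))))
theorem f616066 : Led Lsl_at (LP (LK LD1_c5 LD2_c14 LD3_c26)) = (LP (LK LD1_c5 LD2_c38 LD3_c48)) :=
  Lgr Lrot51 (Lpr_df (f616062 IH) (Lpe (f301945 IH) (Lpr_df (f210506 IH) (Lpn (LP (LK LD1_c5 LD2_c38 LD3_c48))))))
theorem f616079 : Led Lsl_ft (LP (LK LD1_c10 LD2_c18 LD3_c28)) = (LP (LK LD1_c5 LD2_c14 LD3_c26)) :=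
  Lre_f IH (LK LD1_c10 LD2_c18 LD3_c28) (LK LD1_c5 LD2_c14 LD3_c26) Lrfl Lrfl
theorem f616080 : Led Lsl_af (LP (LK LD1_c10 LD2_c18 LD3_c28)) = (LP (LK LD1_c11 LD2_c8 LD3_c35)) :=
  Lgr Lrot45 (Lpr_ft (f616079 IH) (Lpr_at (f616066 IH) (Lpr_ft (f210509 IH) (Lpn (LP (LK LD1_c11 LD2_c8 LD3_c35))))))
theorem f616085 : Led Lsl_at (LP (LK LD1_c10 LD2_c18 LD3_c28)) = (LP (LK LD1_c11 LD2_c8 LD3_c35)) :=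
  Lgr Lrot100 (Lpr_af (f616080 IH) (Lpn (LP (LK LD1_c11 LD2_c8 LD3_c35))))
theorem f616068 : Led Lsl_ft (LP (LK LD1_c5 LD2_c14 LD3_c26)) = (LP (LK LD1_c10 LD2_c18 LD3_c28)) :=
  Lre_f IH (LK LD1_c5 LD2_c14 LD3_c26) (LK LD1_c10 LD2_c18 LD3_c28) Lrfl Lrfl
theorem f495472 : Led Lsl_gt (LP (LK LD1_c5 LD2_c14 LD3_c26)) = (LP (LK LD1_c10 LD2_c18 LD3_c27)) :=
  Lre_g IH (LK LD1_c5 LD2_c14 LD3_c26) (LK LD1_c10 LD2_c18 LD3_c27) Lrfl Lrfl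
theorem f616088 : Led Lsl_gt (LP (LK LD1_c10 LD2_c18 LD3_c27)) = (LP (LK LD1_c11 LD2_c8 LD3_c35)) :=
  Lgr Lrot46 (Lpe (f495472 IH) (Lpr_ft (f616068 IH) (Lpr_at (f616085 IH) (Lpn (LP (LK LD1_c11 LD2_c8 LD3_c35))))))
theorem f438580 : Led Lsl_et (LP (LK LD1_c12 LD2_c25 LD3_c8)) = (LP (LK LD1_c6 LD2_c26 LD3_c36)) :=
  Lre_e IH (LK LD1_c12 LD2_c25 LD3_c8) (LK LD1_c6 LD2_c26 LD3_c36) Lrfl Lrfl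
theorem f616069 : Led Lsl_df (LP (LK LD1_c10 LD2_c18 LD3_c27)) = (LP (LK LD1_c12 LD2_c25 LD3_c8)) :=
  Lgr Lrot168 (Lpe (f495472 IH) (Lpr_df (f616062 IH) (Lpr_et (f301912 IH) (Lpe (K17.f37274 IH) (Lpe (K17.f301916 IH) (Lpr_dt (K17.f301917 IH) (Lpe (K17.f416250 IH) (Lpe (K17.f155862 IH) (Lpe (K32.f438572 IH) (Lpe (f438580 IH) (Lpn (LP (LK LD1_c12 LD2_c25 LD3_c8)))))))))))))
def v5648 : LQ := Led Lsl_et (LP (LK LD1_c3 LD2_c11 LD3_c11))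
theorem f648685 : Led Lsl_et (LP (LK LD1_c3 LD2_c11 LD3_c11)) = v5648 :=
  Lrfl
theorem f648688 : Led Lsl_ef (LP (LK LD1_c3 LD2_c11 LD3_c11)) = v5648 :=
  Lgr Lrot88 (Lpr_et (f648685 IH) (Lpn v5648))
theorem f506555 : Led Lsl_dt (LP (LK LD1_c2 LD2_c31 LD3_c24)) = K35.v1951 :=
  Lgr Lrot42 (Lpr_df (K35.f506553 IH) (Lpn K35.v1951))
theorem f22379 : Led Lsl_et (LP (LK LD1_c5 LD2_c8 LD3_c24)) = (LP (LK LD1_c2 LD2_c31 LD3_c24)) :=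
  Lre_e IH (LK LD1_c5 LD2_c8 LD3_c24) (LK LD1_c2 LD2_c31 LD3_c24) Lrfl Lrfl
theorem f648687 : Led Lsl_df (LP (LK LD1_c5 LD2_c8 LD3_c24)) = v5648 :=
  Lgr Lrot70 (Lpr_et (f22379 IH) (Lpr_dt (f506555 IH) (Lpe (K35.f506551 IH) (Lpr_dt (K32.f69112 IH) (Lpr_et (f648685 IH) (Lpn v5648))))))
theorem f61327 : Led Lsl_gt (LP (LK LD1_c2 LD2_c33 LD3_c57)) = (LP (LK LD1_c5 LD2_c14 LD3_c7)) :=
  Lre_g IH (LK LD1_c2 LD2_c33 LD3_c57) (LK LD1_c5 LD2_c14 LD3_c7) Lrfl Lrfl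
theorem f301772 : Led Lsl_gt (LP (LK LD1_c5 LD2_c14 LD3_c7)) = (LP (LK LD1_c5 LD2_c7 LD3_c11)) :=
  Lgr Lrot46 (Lpe (f61327 IH) (Lpr_ft (K18.f61325 IH) (Lpr_at (K18.f301763 IH) (Lpn (LP (LK LD1_c5 LD2_c7 LD3_c11))))))
theorem f301777 : Led Lsl_et (LP (LK LD1_c10 LD2_c18 LD3_c13)) = (LP (LK LD1_c5 LD2_c14 LD3_c7)) :=
  Lre_e IH (LK LD1_c10 LD2_c18 LD3_c13) (LK LD1_c5 LD2_c14 LD3_c7) Lrfl Lrfl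
theorem f74761 : Led Lsl_gt (LP (LK LD1_c5 LD2_c52 LD3_c13)) = (LP (LK LD1_c2 LD2_c52 LD3_c25)) :=
  Lre_g IH (LK LD1_c5 LD2_c52 LD3_c13) (LK LD1_c2 LD2_c52 LD3_c25) Lrfl Lrfl
theorem f615401 : Led Lsl_dt (LP (LK LD1_c10 LD2_c18 LD3_c13)) = (LP (LK LD1_c5 LD2_c52 LD3_c13)) :=
  Lgr Lrot136 (Lpr_et (f301777 IH) (Lpe (f61327 IH) (Lpe (K18.f61339 IH) (Lpr_dt (K12.f61305 IH) (Lpe (K10.f61288 IH) (Lpe (K9.f163633 IH) (Lpe (K10.f59574 IH) (Lpe (K17.f164394 IH) (Lpr_dt (K41.f615395 IH) (Lpe (f74761 IH) (Lpn (LP (LK LD1_c5 LD2_c52 LD3_c13)))))))))))))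
theorem f496501 : Led Lsl_gf (LP (LK LD1_c5 LD2_c52 LD3_c13)) = (LP (LK LD1_c5 LD2_c50 LD3_c2)) :=
  Lgr Lrot47 (Lpr_gt (f74761 IH) (Lpr_af (K41.f496497 IH) (Lpe (K41.f496452 IH) (Lpn (LP (LK LD1_c5 LD2_c50 LD3_c2))))))
theorem f319491 : Led Lsl_ft (LP (LK LD1_c5 LD2_c37 LD3_c46)) = (LP (LK LD1_c11 LD2_c6 LD3_c60)) :=
  Lre_f IH (LK LD1_c5 LD2_c37 LD3_c46) (LK LD1_c11 LD2_c6 LD3_c60) Lrfl Lrfl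
theorem f22796 : Led Lsl_ft (LP (LK LD1_c11 LD2_c31 LD3_c10)) = (LP (LK LD1_c5 LD2_c52 LD3_c6)) :=
  Lre_f IH (LK LD1_c11 LD2_c31 LD3_c10) (LK LD1_c5 LD2_c52 LD3_c6) Lrfl Lrfl
theorem f615434 : Led Lsl_dt (LP (LK LD1_c11 LD2_c6 LD3_c60)) = (LP (LK LD1_c11 LD2_c31 LD3_c10)) :=
  Lgr Lrot60 (Lpe (f319491 IH) (Lpr_df (K41.f615430 IH) (Lpe (f22796 IH) (Lpn (LP (LK LD1_c11 LD2_c31 LD3_c10))))))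
theorem f319480 : Led Lsl_bt (LP (LK LD1_c11 LD2_c6 LD3_c60)) = (LP (LK LD1_c5 LD2_c37 LD3_c49)) :=
  Lre_b IH (LK LD1_c11 LD2_c6 LD3_c60) (LK LD1_c5 LD2_c37 LD3_c49) Lrfl Lrfl
theorem f319481 : Led Lsl_ef (LP (LK LD1_c11 LD2_c6 LD3_c60)) = (LP (LK LD1_c11 LD2_c12 LD3_c3)) :=
  Lgr Lrot29 (Lpr_bt (f319480 IH) (Lpr_et (K20.f319476 IH) (Lpr_bt (K36.f225488 IH) (Lpn (LP (LK LD1_c11 LD2_c12 LD3_c3))))))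
theorem f225481 : Led Lsl_bt (LP (LK LD1_c11 LD2_c12 LD3_c3)) = (LP (LK LD1_c5 LD2_c40 LD3_c45)) :=
  Lre_b IH (LK LD1_c11 LD2_c12 LD3_c3) (LK LD1_c5 LD2_c40 LD3_c45) Lrfl Lrfl
theorem f225482 : Led Lsl_dt (LP (LK LD1_c10 LD2_c18 LD3_c40)) = (LP (LK LD1_c11 LD2_c12 LD3_c3)) :=
  Lgr Lrot79 (Lpe (K36.f225480 IH) (Lpr_df (K17.f225469 IH) (Lpe (f225481 IH) (Lpn (LP (LK LD1_c11 LD2_c12 LD3_c3))))))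
theorem f209998 : Led Lsl_et (LP (LK LD1_c5 LD2_c49 LD3_c59)) = (LP (LK LD1_c11 LD2_c28 LD3_c24)) :=
  Lre_e IH (LK LD1_c5 LD2_c49 LD3_c59) (LK LD1_c11 LD2_c28 LD3_c24) Lrfl Lrfl
theorem f209999 : Led Lsl_ft (LP (LK LD1_c11 LD2_c28 LD3_c24)) = (LP (LK LD1_c20 LD2_c25 LD3_c56)) :=
  Lre_f IH (LK LD1_c11 LD2_c28 LD3_c24) (LK LD1_c20 LD2_c25 LD3_c56) Lrfl Lrfl
theorem f210000 : Led Lsl_ef (LP (LK LD1_c17 LD2_c58 LD3_c27)) = (LP (LK LD1_c20 LD2_c25 LD3_c56)) :=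
  Lgr Lrot21 (Lpr_ft (K32.f138860 IH) (Lpr_et (K32.f138843 IH) (Lpr_ft (K31.f205784 IH) (Lpr_et (f209998 IH) (Lpr_ft (f209999 IH) (Lpn (LP (LK LD1_c20 LD2_c25 LD3_c56))))))))
theorem f210016 : Led Lsl_at (LP (LK LD1_c11 LD2_c28 LD3_c27)) = (LP (LK LD1_c20 LD2_c25 LD3_c56)) :=
  Lre_a IH (LK LD1_c11 LD2_c28 LD3_c27) (LK LD1_c20 LD2_c25 LD3_c56) Lrfl Lrfl
theorem f496506 : Led Lsl_ef (LP (LK LD1_c11 LD2_c28 LD3_c27)) = (LP (LK LD1_c11 LD2_c31 LD3_c10)) :=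
  Lgr Lrot20 (Lpr_at (f210016 IH) (Lpe (f210000 IH) (Lpr_at (K32.f496486 IH) (Lpn (LP (LK LD1_c11 LD2_c31 LD3_c10))))))
theorem f615440 : Led Lsl_df (LP (LK LD1_c10 LD2_c6 LD3_c60)) = (LP (LK LD1_c11 LD2_c28 LD3_c27)) :=
  Lgr Lrot70 (Lpe (K36.f288142 IH) (Lpr_dt (f225482 IH) (Lpe (f319481 IH) (Lpr_dt (f615434 IH) (Lpe (f496506 IH) (Lpn (LP (LK LD1_c11 LD2_c28 LD3_c27))))))))
theorem f496496 : Led Lsl_bt (LP (LK LD1_c5 LD2_c50 LD3_c2)) = (LP (LK LD1_c11 LD2_c28 LD3_c27)) :=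
  Lre_b IH (LK LD1_c5 LD2_c50 LD3_c2) (LK LD1_c11 LD2_c28 LD3_c27) Lrfl Lrfl
theorem f615444 : Led Lsl_dt (LP (LK LD1_c5 LD2_c8 LD3_c16)) = (LP (LK LD1_c5 LD2_c50 LD3_c2)) :=
  Lgr Lrot79 (Lpe (K36.f165768 IH) (Lpr_df (f615440 IH) (Lpe (f496496 IH) (Lpn (LP (LK LD1_c5 LD2_c50 LD3_c2))))))
theorem f53216 : Led Lsl_gt (LP (LK LD1_c2 LD2_c31 LD3_c18)) = (LP (LK LD1_c5 LD2_c8 LD3_c8)) :=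
  Lre_g IH (LK LD1_c2 LD2_c31 LD3_c18) (LK LD1_c5 LD2_c8 LD3_c8) Lrfl Lrfl
theorem f288069 : Led Lsl_gf (LP (LK LD1_c5 LD2_c14 LD3_c36)) = (LP (LK LD1_c5 LD2_c8 LD3_c8)) :=
  Lgr Lrot76 (Lpr_af (K17.f288060 IH) (Lpe (K17.f165089 IH) (Lpr_gt (f53216 IH) (Lpn (LP (LK LD1_c5 LD2_c8 LD3_c8))))))
theorem f53218 : Led Lsl_et (LP (LK LD1_c10 LD2_c6 LD3_c50)) = (LP (LK LD1_c5 LD2_c8 LD3_c8)) :=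
  Lre_e IH (LK LD1_c10 LD2_c6 LD3_c50) (LK LD1_c5 LD2_c8 LD3_c8) Lrfl Lrfl
theorem f61326 : Led Lsl_gt (LP (LK LD1_c5 LD2_c49 LD3_c32)) = (LP (LK LD1_c2 LD2_c50 LD3_c51)) :=
  Lre_g IH (LK LD1_c5 LD2_c49 LD3_c32) (LK LD1_c2 LD2_c50 LD3_c51) Lrfl Lrfl
theorem f250026 : Led Lsl_dt (LP (LK LD1_c10 LD2_c6 LD3_c50)) = (LP (LK LD1_c5 LD2_c49 LD3_c32)) :=
  Lgr Lrot136 (Lpr_et (f53218 IH) (Lpe (f53216 IH) (Lpe (K17.f53215 IH) (Lpr_dt (K9.f53202 IH) (Lpr_gf (K9.f164093 IH) (Lpe (K9.f164098 IH) (Lpr_gf (K14.f250016 IH) (Lpe (K36.f61306 IH) (Lpr_dt (K36.f61323 IH) (Lpe (f61326 IH) (Lpn (LP (LK LD1_c5 LD2_c49 LD3_c32)))))))))))))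
theorem f722182 : Led Lsl_gf (LP (LK LD1_c5 LD2_c49 LD3_c32)) = v14361 :=
  Lgr Lrot134 (Lpe (f250026 IH) (Lpr_et (f53218 IH) (Lpe (f288069 IH) (Lpr_ef (K17.f288133 IH) (Lpr_dt (f615444 IH) (Lpe (f496501 IH) (Lpe (f615401 IH) (Lpr_et (f301777 IH) (Lpr_gt (f301772 IH) (Lpr_dt (f722178 IH) (Lpn v14361)))))))))))
theorem f250028 : Led Lsl_df (LP (LK LD1_c10 LD2_c6 LD3_c50)) = (LP (LK LD1_c5 LD2_c49 LD3_c32)) :=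
  Lgr Lrot38 (Lpr_dt (f250026 IH) (Lpn (LP (LK LD1_c5 LD2_c49 LD3_c32))))
theorem f722187 : Led Lsl_gf (LP (LK LD1_c5 LD2_c8 LD3_c24)) = (LP (LK LD1_c10 LD2_c6 LD3_c50)) :=
  Lgr Lrot134 (Lpr_df (f648687 IH) (Lpe (f648688 IH) (Lpr_gt (K32.f438556 IH) (Lpe (f438580 IH) (Lpe (f616069 IH) (Lpr_gt (f616088 IH) (Lpe (f210515 IH) (Lpr_et (f722184 IH) (Lpe (f722182 IH) (Lpe (f250028 IH) (Lpn (LP (LK LD1_c10 LD2_c6 LD3_c50)))))))))))))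
theorem f722188 : Led Lsl_gt (LP (LK LD1_c10 LD2_c6 LD3_c50)) = (LP (LK LD1_c5 LD2_c8 LD3_c24)) :=
  Leop (Lpr_gf (f722187 IH) (Lpn (LP (LK LD1_c10 LD2_c6 LD3_c50))))
theorem seed_835 : LEOK LG_g (LK LD1_c10 LD2_c6 LD3_c50) :=
  Leoe_g (LK LD1_c10 LD2_c6 LD3_c50) (f722188 IH)
theorem f61329 : Led Lsl_et (LP (LK LD1_c2 LD2_c50 LD3_c51)) = (LP (LK LD1_c1 LD2_c21 LD3_c24)) :=
  Lre_e IH (LK LD1_c2 LD2_c50 LD3_c51) (LK LD1_c1 LD2_c21 LD3_c24) Lrfl Lrfl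
theorem f631745 : Led Lsl_af (LP (LK LD1_c2 LD2_c50 LD3_c51)) = v4188 :=
  Lgr Lrot50 (Lpr_et (f61329 IH) (Lpr_at (K36.f301959 IH) (Lpr_et (f631744 IH) (Lpn v4188))))
def v4858 : LQ := Led Lsl_ft (LP (LK LD1_c2 LD2_c50 LD3_c51))
theorem f640605 : Led Lsl_ft (LP (LK LD1_c2 LD2_c50 LD3_c51)) = v4858 :=
  Lrfl
theorem f722183 : Led Lsl_at v4858 = v14361 :=
  Lgr Lrot66 (Lpe (f640605 IH) (Lpr_af (f631745 IH) (Lpr_ff (f722181 IH) (Lpn v14361))))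
theorem f61328 : Led Lsl_gt (LP (LK LD1_c2 LD2_c50 LD3_c51)) = (LP (LK LD1_c5 LD2_c49 LD3_c31)) :=
  Lre_g IH (LK LD1_c2 LD2_c50 LD3_c51) (LK LD1_c5 LD2_c49 LD3_c31) Lrfl Lrfl
theorem f722189 : Led Lsl_gt (LP (LK LD1_c5 LD2_c49 LD3_c31)) = v14361 :=
  Lgr Lrot46 (Lpe (f61328 IH) (Lpr_ft (f640605 IH) (Lpr_at (f722183 IH) (Lpn v14361))))
theorem f301813 : Led Lsl_ef (LP (LK LD1_c5 LD2_c14 LD3_c9)) = (LP (LK LD1_c5 LD2_c7 LD3_c29)) :=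
  Lgr Lrot88 (Lpr_et (K18.f301808 IH) (Lpn (LP (LK LD1_c5 LD2_c7 LD3_c29))))
theorem f406584 : Led Lsl_ef (LP (LK LD1_c5 LD2_c14 LD3_c21)) = (LP (LK LD1_c5 LD2_c7 LD3_c11)) :=
  Lgr Lrot20 (Lpr_at (K51.f301817 IH) (Lpe (f301813 IH) (Lpr_at (K18.f301763 IH) (Lpn (LP (LK LD1_c5 LD2_c7 LD3_c11))))))
def v11816 : LQ := Led Lsl_gf K35.v3897
theorem f685995 : Led Lsl_gf K35.v3897 = v11816 :=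
  Lrfl
theorem f627781 : Led Lsl_df K35.v1113 = K35.v3897 :=
  Lgr Lrot38 (Lpr_dt (K35.f627779 IH) (Lpn K35.v3897))
theorem f496137 : Led Lsl_cf K35.v1309 = K35.v1533 :=
  Lgr Lrot39 (Lpe (K35.f494746 IH) (Lpr_ct (K24.f438428 IH) (Lpr_et (K35.f496136 IH) (Lpn K35.v1533))))
theorem f636255 : Led Lsl_ff K35.v1533 = K50.v4584 :=
  Lgr Lrot19 (Lpe (K35.f496140 IH) (Lpe (f623741 IH) (Lpr_dt (K50.f636252 IH) (Lpn K50.v4584))))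
theorem f668545 : Led Lsl_cf K50.v4584 = K49.v7814 :=
  Lgr Lrot108 (Lpe (f636255 IH) (Lpe (f496137 IH) (Lpr_ft (K49.f668543 IH) (Lpn K49.v7814))))
def v8268 : LQ := Led Lsl_gf K35.v1951
theorem f670570 : Led Lsl_gf K35.v1951 = v8268 :=
  Lrfl
theorem f670571 : Led Lsl_gt K50.v4584 = v8268 :=
  Lgr Lrot5 (Lpe (f636255 IH) (Lpe (K35.f623714 IH) (Lpr_gf (f670570 IH) (Lpn v8268))))
theorem f685998 : Led Lsl_dt v8268 = v11816 :=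
  Lgr Lrot57 (Lpe (f670571 IH) (Lpr_cf (f668545 IH) (Lpe (K49.f668553 IH) (Lpe (K49.f668447 IH) (Lpe (K49.f627802 IH) (Lpe (K49.f491573 IH) (Lpr_cf (K49.f491571 IH) (Lpr_df (f627781 IH) (Lpr_gf (f685995 IH) (Lpn v11816))))))))))
theorem f670575 : Led Lsl_et (LP (LK LD1_c5 LD2_c0 LD3_c16)) = v8268 :=
  Lgr Lrot121 (Lpe (K51.f633711 IH) (Lpe (K51.f55788 IH) (Lpr_df (K2.f73593 IH) (Lpr_et (K2.f22250 IH) (Lpe (K1.f20279 IH) (Lpe (K10.f22213 IH) (Lpr_dt (K7.f22228 IH) (Lpe (K35.f22249 IH) (Lpr_df (K35.f506553 IH) (Lpr_gf (f670570 IH) (Lpn v8268)))))))))))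
theorem f633706 : Led Lsl_dt (LP (LK LD1_c4 LD2_c7 LD3_c25)) = (LP (LK LD1_c5 LD2_c0 LD3_c16)) :=
  Lgr Lrot105 (Lpe (K51.f55788 IH) (Lpr_df (K2.f73593 IH) (Lpe (K32.f73619 IH) (Lpe (K32.f438589 IH) (Lpr_gt (K32.f20961 IH) (Lpr_dt (K0.f23290 IH) (Lpr_gt (K32.f23291 IH) (Lpe (K32.f446078 IH) (Lpq (K51.f633615 IH) (Lpe (K51.f509691 IH) (Lpn (LP (LK LD1_c5 LD2_c0 LD3_c16)))))))))))))
theorem f686001 : Led Lsl_ef (LP (LK LD1_c5 LD2_c7 LD3_c27)) = v11816 :=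
  Lgr Lrot73 (Lpr_dt (K51.f194075 IH) (Lpr_et (K51.f55792 IH) (Lpr_dt (f633706 IH) (Lpr_et (f670575 IH) (Lpr_dt (f685998 IH) (Lpn v11816))))))
theorem f686000 : Led Lsl_df v8268 = v11816 :=
  Lgr Lrot38 (Lpr_dt (f685998 IH) (Lpn v11816))
theorem f506556 : Led Lsl_et (LP (LK LD1_c2 LD2_c31 LD3_c24)) = (LP (LK LD1_c5 LD2_c8 LD3_c24)) :=
  Lre_e IH (LK LD1_c2 LD2_c31 LD3_c24) (LK LD1_c5 LD2_c8 LD3_c24) Lrfl Lrfl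
theorem f506557 : Led Lsl_gt (LP (LK LD1_c5 LD2_c8 LD3_c24)) = (LP (LK LD1_c10 LD2_c7 LD3_c14)) :=
  Lre_g IH (LK LD1_c5 LD2_c8 LD3_c24) (LK LD1_c10 LD2_c7 LD3_c14) Lrfl Lrfl
theorem f722190 : Led Lsl_df (LP (LK LD1_c5 LD2_c49 LD3_c31)) = (LP (LK LD1_c10 LD2_c7 LD3_c14)) :=
  Lgr Lrot135 (Lpr_gt (f722189 IH) (Lpe (f722178 IH) (Lpe (f406584 IH) (Lpr_gt (K51.f301833 IH) (Lpr_ef (f686001 IH) (Lpe (f686000 IH) (Lpe (f670570 IH) (Lpe (f506555 IH) (Lpr_et (f506556 IH) (Lpr_gt (f506557 IH) (Lpn (LP (LK LD1_c10 LD2_c7 LD3_c14)))))))))))))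
theorem f722191 : Led Lsl_dt (LP (LK LD1_c10 LD2_c7 LD3_c14)) = (LP (LK LD1_c5 LD2_c49 LD3_c31)) :=
  Leop (Lpr_df (f722190 IH) (Lpn (LP (LK LD1_c10 LD2_c7 LD3_c14))))
theorem seed_836 : LEOK LG_d (LK LD1_c10 LD2_c7 LD3_c14) :=
  Leoe_d (LK LD1_c10 LD2_c7 LD3_c14) (f722191 IH)
def v14428 : LQ := Led Lsl_gt (LP (LK LD1_c5 LD2_c9 LD3_c57))
theorem f722471 : Led Lsl_gt (LP (LK LD1_c5 LD2_c9 LD3_c57)) = v14428 :=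
  Lrfl
theorem f299894 : Led Lsl_at (LP (LK LD1_c5 LD2_c3 LD3_c7)) = (LP (LK LD1_c9 LD2_c57 LD3_c4)) :=
  Lre_a IH (LK LD1_c5 LD2_c3 LD3_c7) (LK LD1_c9 LD2_c57 LD3_c4) Lrfl Lrfl
theorem f288227 : Led Lsl_at (LP (LK LD1_c10 LD2_c10 LD3_c39)) = (LP (LK LD1_c5 LD2_c9 LD3_c57)) :=
  Lre_a IH (LK LD1_c10 LD2_c10 LD3_c39) (LK LD1_c5 LD2_c9 LD3_c57) Lrfl Lrfl
theorem f299895 : Led Lsl_ff (LP (LK LD1_c5 LD2_c3 LD3_c7)) = (LP (LK LD1_c5 LD2_c9 LD3_c57)) :=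
  Lgr Lrot30 (Lpr_at (f299894 IH) (Lpr_ft (K32.f299877 IH) (Lpr_at (f288227 IH) (Lpn (LP (LK LD1_c5 LD2_c9 LD3_c57))))))
theorem f722472 : Led Lsl_gf (LP (LK LD1_c9 LD2_c57 LD3_c4)) = v14428 :=
  Lgr Lrot76 (Lpe (f299894 IH) (Lpr_ff (f299895 IH) (Lpr_gt (f722471 IH) (Lpn v14428))))
theorem f299866 : Led Lsl_ct (LP (LK LD1_c9 LD2_c57 LD3_c4)) = (LP (LK LD1_c18 LD2_c12 LD3_c49)) :=
  Lre_c IH (LK LD1_c9 LD2_c57 LD3_c4) (LK LD1_c18 LD2_c12 LD3_c49) Lrfl Lrfl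
theorem f645397 : Led Lsl_ft (LP (LK LD1_c6 LD2_c8 LD3_c28)) = (LP (LK LD1_c9 LD2_c15 LD3_c17)) :=
  Lgr Lrot48 (Lpr_ff (K52.f645393 IH) (Lpn (LP (LK LD1_c9 LD2_c15 LD3_c17))))
theorem f185709 : Led Lsl_gt (LP (LK LD1_c5 LD2_c13 LD3_c29)) = (LP (LK LD1_c10 LD2_c17 LD3_c14)) :=
  Lre_g IH (LK LD1_c5 LD2_c13 LD3_c29) (LK LD1_c10 LD2_c17 LD3_c14) Lrfl Lrfl
theorem f714422 : Led Lsl_at (LP (LK LD1_c9 LD2_c15 LD3_c17)) = (LP (LK LD1_c10 LD2_c17 LD3_c14)) :=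
  Lgr Lrot26 (Lpe (f645397 IH) (Lpr_gt (K52.f714126 IH) (Lpr_gt (f185709 IH) (Lpn (LP (LK LD1_c10 LD2_c17 LD3_c14))))))
theorem f600404 : Led Lsl_et (LP (LK LD1_c10 LD2_c17 LD3_c14)) = (LP (LK LD1_c18 LD2_c42 LD3_c11)) :=
  Lre_e IH (LK LD1_c10 LD2_c17 LD3_c14) (LK LD1_c18 LD2_c42 LD3_c11) Lrfl Lrfl
theorem f714464 : Led Lsl_af (LP (LK LD1_c17 LD2_c9 LD3_c50)) = (LP (LK LD1_c18 LD2_c42 LD3_c11)) :=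
  Lgr Lrot50 (Lpr_et (f193917 IH) (Lpr_at (f714422 IH) (Lpr_et (f600404 IH) (Lpn (LP (LK LD1_c18 LD2_c42 LD3_c11))))))
theorem f594630 : Led Lsl_cf (LP (LK LD1_c15 LD2_c26 LD3_c29)) = (LP (LK LD1_c11 LD2_c57 LD3_c49)) :=
  Lgr Lrot11 (Lpr_ct (K45.f594627 IH) (Lpn (LP (LK LD1_c11 LD2_c57 LD3_c49))))
theorem f600398 : Led Lsl_gt (LP (LK LD1_c5 LD2_c13 LD3_c45)) = (LP (LK LD1_c3 LD2_c0 LD3_c1)) :=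
  Lgr Lrot9 (Lpe (K19.f308088 IH) (Lpr_gt (K38.f495339 IH) (Lpq (K38.f542384 IH) (Lpr_ct (K35.f198667 IH) (Lpr_gt (K38.f211643 IH) (Lpe (K38.f549632 IH) (Lpe (K45.f574891 IH) (Lpr_cf (f594630 IH) (Lpe (K45.f385913 IH) (Lpe (K38.f183463 IH) (Lpn (LP (LK LD1_c3 LD2_c0 LD3_c1)))))))))))))
theorem f308094 : Led Lsl_et (LP (LK LD1_c10 LD2_c17 LD3_c39)) = (LP (LK LD1_c5 LD2_c13 LD3_c45)) :=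
  Lre_e IH (LK LD1_c10 LD2_c17 LD3_c39) (LK LD1_c5 LD2_c13 LD3_c45) Lrfl Lrfl
theorem f308100 : Led Lsl_et (LP (LK LD1_c5 LD2_c13 LD3_c45)) = (LP (LK LD1_c10 LD2_c17 LD3_c39)) :=
  Lre_e IH (LK LD1_c5 LD2_c13 LD3_c45) (LK LD1_c10 LD2_c17 LD3_c39) Lrfl Lrfl
theorem f551793 : Led Lsl_df (LP (LK LD1_c9 LD2_c7 LD3_c41)) = (LP (LK LD1_c10 LD2_c17 LD3_c39)) :=
  Lgr Lrot70 (Lpr_et (f551792 IH) (Lpr_dt (K44.f34912 IH) (Lpr_et (K39.f551784 IH) (Lpr_dt (K19.f308088 IH) (Lpr_et (f308100 IH) (Lpn (LP (LK LD1_c10 LD2_c17 LD3_c39))))))))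
theorem f562725 : Led Lsl_gt (LP (LK LD1_c16 LD2_c59 LD3_c51)) = (LP (LK LD1_c9 LD2_c7 LD3_c41)) :=
  Lre_g IH (LK LD1_c16 LD2_c59 LD3_c51) (LK LD1_c9 LD2_c7 LD3_c41) Lrfl Lrfl
theorem f495419 : Led Lsl_et (LP (LK LD1_c18 LD2_c42 LD3_c11)) = (LP (LK LD1_c10 LD2_c17 LD3_c14)) :=
  Lre_e IH (LK LD1_c18 LD2_c42 LD3_c11) (LK LD1_c10 LD2_c17 LD3_c14) Lrfl Lrfl
theorem f600400 : Led Lsl_df (LP (LK LD1_c16 LD2_c59 LD3_c51)) = (LP (LK LD1_c18 LD2_c42 LD3_c11)) :=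
  Lgr Lrot170 (Lpr_gt (f562725 IH) (Lpr_df (f551793 IH) (Lpr_et (f308094 IH) (Lpr_gt (f600398 IH) (Lpr_dt (K42.f56006 IH) (Lpr_gt (f501319 IH) (Lpqs (f559955 IH) (Lpe (K38.f211533 IH) (Lpr_et (K18.f302379 IH) (Lpr_gt (f185709 IH) (Lpe (f495419 IH) (Lpn (LP (LK LD1_c18 LD2_c42 LD3_c11))))))))))))))
theorem f600402 : Led Lsl_dt (LP (LK LD1_c16 LD2_c59 LD3_c51)) = (LP (LK LD1_c18 LD2_c42 LD3_c11)) :=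
  Lgr Lrot42 (Lpr_df (f600400 IH) (Lpn (LP (LK LD1_c18 LD2_c42 LD3_c11))))
theorem f714468 : Led Lsl_at (LP (LK LD1_c10 LD2_c4 LD3_c39)) = (LP (LK LD1_c16 LD2_c59 LD3_c51)) :=
  Lgr Lrot51 (Lpe (f193912 IH) (Lpr_af (f714464 IH) (Lpe (f600402 IH) (Lpn (LP (LK LD1_c16 LD2_c59 LD3_c51))))))
theorem f645411 : Led Lsl_ff (LP (LK LD1_c5 LD2_c13 LD3_c49)) = (LP (LK LD1_c5 LD2_c6 LD3_c61)) :=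
  Lgr Lrot3 (Lpr_ft (K46.f645407 IH) (Lpn (LP (LK LD1_c5 LD2_c6 LD3_c61))))
theorem f645413 : Led Lsl_bt (LP (LK LD1_c5 LD2_c13 LD3_c49)) = (LP (LK LD1_c10 LD2_c17 LD3_c49)) :=
  Lre_b IH (LK LD1_c5 LD2_c13 LD3_c49) (LK LD1_c10 LD2_c17 LD3_c49) Lrfl Lrfl
theorem f645414 : Led Lsl_ft (LP (LK LD1_c10 LD2_c17 LD3_c49)) = (LP (LK LD1_c10 LD2_c4 LD3_c39)) :=
  Lgr Lrot75 (Lpe (f645413 IH) (Lpr_ff (f645411 IH) (Lpe (f166282 IH) (Lpn (LP (LK LD1_c10 LD2_c4 LD3_c39))))))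
theorem f165745 : Led Lsl_at (LP (LK LD1_c9 LD2_c58 LD3_c46)) = (LP (LK LD1_c18 LD2_c15 LD3_c11)) :=
  Lre_a IH (LK LD1_c9 LD2_c58 LD3_c46) (LK LD1_c18 LD2_c15 LD3_c11) Lrfl Lrfl
theorem f562723 : Led Lsl_at (LP (LK LD1_c10 LD2_c17 LD3_c46)) = (LP (LK LD1_c9 LD2_c7 LD3_c41)) :=
  Lgr Lrot100 (Lpr_af (f562721 IH) (Lpn (LP (LK LD1_c9 LD2_c7 LD3_c41))))
theorem f699320 : Led Lsl_ft (LP (LK LD1_c18 LD2_c15 LD3_c11)) = (LP (LK LD1_c10 LD2_c17 LD3_c46)) :=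
  Lgr Lrot101 (Lpe (f165745 IH) (Lpr_ff (f699290 IH) (Lpe (f562723 IH) (Lpn (LP (LK LD1_c10 LD2_c17 LD3_c46))))))
theorem f699394 : Led Lsl_gt (LP (LK LD1_c18 LD2_c15 LD3_c11)) = (LP (LK LD1_c16 LD2_c59 LD3_c51)) :=
  Lgr Lrot5 (Lpr_ft (f699320 IH) (Lpr_at (f562723 IH) (Lpe (f562725 IH) (Lpn (LP (LK LD1_c16 LD2_c59 LD3_c51))))))
theorem f714476 : Led Lsl_gt (LP (LK LD1_c10 LD2_c17 LD3_c49)) = (LP (LK LD1_c18 LD2_c15 LD3_c11)) :=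
  Lgr Lrot5 (Lpr_ft (f645414 IH) (Lpr_at (f714468 IH) (Lpe (f699394 IH) (Lpn (LP (LK LD1_c18 LD2_c15 LD3_c11))))))
theorem f405233 : Led Lsl_ct (LP (LK LD1_c18 LD2_c42 LD3_c56)) = (LP (LK LD1_c10 LD2_c17 LD3_c49)) :=
  Lre_c IH (LK LD1_c18 LD2_c42 LD3_c56) (LK LD1_c10 LD2_c17 LD3_c49) Lrfl Lrfl
theorem f249859 : Led Lsl_ct (LP (LK LD1_c18 LD2_c15 LD3_c11)) = (LP (LK LD1_c9 LD2_c58 LD3_c42)) :=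
  Lre_c IH (LK LD1_c18 LD2_c15 LD3_c11) (LK LD1_c9 LD2_c58 LD3_c42) Lrfl Lrfl
theorem f249788 : Led Lsl_dt (LP (LK LD1_c5 LD2_c3 LD3_c53)) = (LP (LK LD1_c9 LD2_c58 LD3_c42)) :=
  Lre_d IH (LK LD1_c5 LD2_c3 LD3_c53) (LK LD1_c9 LD2_c58 LD3_c42) Lrfl Lrfl
theorem f249765 : Led Lsl_ct (LP (LK LD1_c9 LD2_c58 LD3_c22)) = (LP (LK LD1_c5 LD2_c3 LD3_c53)) :=
  Lre_c IH (LK LD1_c9 LD2_c58 LD3_c22) (LK LD1_c5 LD2_c3 LD3_c53) Lrfl Lrfl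
theorem f249848 : Led Lsl_at (LP (LK LD1_c5 LD2_c3 LD3_c45)) = (LP (LK LD1_c9 LD2_c58 LD3_c22)) :=
  Lre_a IH (LK LD1_c5 LD2_c3 LD3_c45) (LK LD1_c9 LD2_c58 LD3_c22) Lrfl Lrfl
theorem f171644 : Led Lsl_gt (LP (LK LD1_c5 LD2_c10 LD3_c31)) = (LP (LK LD1_c10 LD2_c11 LD3_c40)) :=
  Lre_g IH (LK LD1_c5 LD2_c10 LD3_c31) (LK LD1_c10 LD2_c11 LD3_c40) Lrfl Lrfl
theorem f249857 : Led Lsl_gf (LP (LK LD1_c9 LD2_c58 LD3_c22)) = (LP (LK LD1_c10 LD2_c11 LD3_c40)) :=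
  Lgr Lrot76 (Lpe (f249848 IH) (Lpr_ff (K14.f249811 IH) (Lpr_gt (f171644 IH) (Lpn (LP (LK LD1_c10 LD2_c11 LD3_c40))))))
theorem f171645 : Led Lsl_ct (LP (LK LD1_c18 LD2_c34 LD3_c13)) = (LP (LK LD1_c10 LD2_c11 LD3_c40)) :=
  Lre_c IH (LK LD1_c18 LD2_c34 LD3_c13) (LK LD1_c10 LD2_c11 LD3_c40) Lrfl Lrfl
theorem f214779 : Led Lsl_bt (LP (LK LD1_c24 LD2_c48 LD3_c21)) = (LP (LK LD1_c15 LD2_c0 LD3_c48)) :=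
  Lre_b IH (LK LD1_c24 LD2_c48 LD3_c21) (LK LD1_c15 LD2_c0 LD3_c48) Lrfl Lrfl
theorem f233536 : Led Lsl_bt (LP (LK LD1_c18 LD2_c11 LD3_c14)) = (LP (LK LD1_c15 LD2_c14 LD3_c50)) :=
  Lgr Lrot127 (Lpr_bf (K14.f233534 IH) (Lpn (LP (LK LD1_c15 LD2_c14 LD3_c50))))
theorem f405516 : Led Lsl_ff (LP (LK LD1_c24 LD2_c48 LD3_c21)) = (LP (LK LD1_c15 LD2_c14 LD3_c50)) :=
  Lgr Lrot25 (Lpr_bt (f214779 IH) (Lpr_ft (K44.f405512 IH) (Lpr_bt (f233536 IH) (Lpn (LP (LK LD1_c15 LD2_c14 LD3_c50))))))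
theorem f233531 : Led Lsl_ct (LP (LK LD1_c8 LD2_c5 LD3_c55)) = (LP (LK LD1_c15 LD2_c14 LD3_c50)) :=
  Lre_c IH (LK LD1_c8 LD2_c5 LD3_c55) (LK LD1_c15 LD2_c14 LD3_c50) Lrfl Lrfl
theorem f405532 : Led Lsl_ft (LP (LK LD1_c15 LD2_c14 LD3_c45)) = (LP (LK LD1_c8 LD2_c5 LD3_c55)) :=
  Lre_f IH (LK LD1_c15 LD2_c14 LD3_c45) (LK LD1_c8 LD2_c5 LD3_c55) Lrfl Lrfl
theorem f405533 : Led Lsl_ct (LP (LK LD1_c24 LD2_c48 LD3_c21)) = (LP (LK LD1_c15 LD2_c14 LD3_c45)) :=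
  Lgr Lrot40 (Lpr_ff (f405516 IH) (Lpe (f233531 IH) (Lpe (f405532 IH) (Lpn (LP (LK LD1_c15 LD2_c14 LD3_c45))))))
theorem f405545 : Led Lsl_gf (LP (LK LD1_c8 LD2_c5 LD3_c58)) = (LP (LK LD1_c15 LD2_c14 LD3_c45)) :=
  Lgr Lrot126 (Lpr_cf (K44.f192908 IH) (Lpr_bt (K44.f233505 IH) (Lpr_gt (K15.f259978 IH) (Lpr_ct (K14.f166898 IH) (Lpr_gt (K21.f249620 IH) (Lpe (K12.f43258 IH) (Lpr_bt (K13.f43853 IH) (Lpr_gt (K44.f44432 IH) (Lpe (f214779 IH) (Lpr_ct (f405533 IH) (Lpn (LP (LK LD1_c15 LD2_c14 LD3_c45)))))))))))))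
theorem f405549 : Led Lsl_gt (LP (LK LD1_c28 LD2_c3 LD3_c34)) = (LP (LK LD1_c24 LD2_c48 LD3_c21)) :=
  Lgr Lrot82 (Lpe (K44.f260051 IH) (Lpr_ct (K44.f259993 IH) (Lpe (K44.f43477 IH) (Lpe (K44.f249637 IH) (Lpr_bt (K44.f249700 IH) (Lpe (K15.f259978 IH) (Lpe (K44.f233505 IH) (Lpe (K44.f192908 IH) (Lpr_gf (f405545 IH) (Lpe (f405533 IH) (Lpn (LP (LK LD1_c24 LD2_c48 LD3_c21)))))))))))))
theorem f405535 : Led Lsl_at (LP (LK LD1_c15 LD2_c14 LD3_c45)) = (LP (LK LD1_c8 LD2_c5 LD3_c54)) :=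
  Lre_a IH (LK LD1_c15 LD2_c14 LD3_c45) (LK LD1_c8 LD2_c5 LD3_c54) Lrfl Lrfl
theorem f45960 : Led Lsl_ct (LP (LK LD1_c8 LD2_c5 LD3_c54)) = (LP (LK LD1_c15 LD2_c14 LD3_c46)) :=
  Lre_c IH (LK LD1_c8 LD2_c5 LD3_c54) (LK LD1_c15 LD2_c14 LD3_c46) Lrfl Lrfl
theorem f405536 : Led Lsl_af (LP (LK LD1_c24 LD2_c48 LD3_c21)) = (LP (LK LD1_c15 LD2_c14 LD3_c46)) :=
  Lgr Lrot68 (Lpr_ct (f405533 IH) (Lpr_at (f405535 IH) (Lpr_ct (f45960 IH) (Lpn (LP (LK LD1_c15 LD2_c14 LD3_c46))))))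
theorem f405551 : Led Lsl_ft (LP (LK LD1_c18 LD2_c37 LD3_c19)) = (LP (LK LD1_c15 LD2_c14 LD3_c46)) :=
  Lgr Lrot2 (Lpr_gt (K44.f260004 IH) (Lpr_gt (f405549 IH) (Lpr_af (f405536 IH) (Lpn (LP (LK LD1_c15 LD2_c14 LD3_c46))))))
theorem f405560 : Led Lsl_ff (LP (LK LD1_c18 LD2_c37 LD3_c19)) = (LP (LK LD1_c15 LD2_c14 LD3_c46)) :=
  Lgr Lrot3 (Lpr_ft (f405551 IH) (Lpn (LP (LK LD1_c15 LD2_c14 LD3_c46))))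
theorem f405562 : Led Lsl_ft (LP (LK LD1_c10 LD2_c13 LD3_c56)) = (LP (LK LD1_c8 LD2_c5 LD3_c54)) :=
  Lgr Lrot4 (Lpe (K44.f233568 IH) (Lpr_ff (f405560 IH) (Lpe (f45960 IH) (Lpn (LP (LK LD1_c8 LD2_c5 LD3_c54))))))
theorem f233567 : Led Lsl_dt (LP (LK LD1_c18 LD2_c37 LD3_c28)) = (LP (LK LD1_c10 LD2_c13 LD3_c56)) :=
  Lre_d IH (LK LD1_c18 LD2_c37 LD3_c28) (LK LD1_c10 LD2_c13 LD3_c56) Lrfl Lrfl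
theorem f45935 : Led Lsl_dt (LP (LK LD1_c8 LD2_c5 LD3_c54)) = (LP (LK LD1_c15 LD2_c14 LD3_c47)) :=
  Lre_d IH (LK LD1_c8 LD2_c5 LD3_c54) (LK LD1_c15 LD2_c14 LD3_c47) Lrfl Lrfl
theorem f405573 : Led Lsl_ff (LP (LK LD1_c18 LD2_c37 LD3_c28)) = (LP (LK LD1_c15 LD2_c14 LD3_c47)) :=
  Lgr Lrot19 (Lpr_dt (f233567 IH) (Lpr_ft (f405562 IH) (Lpr_dt (f45935 IH) (Lpn (LP (LK LD1_c15 LD2_c14 LD3_c47))))))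
theorem f405584 : Led Lsl_ft (LP (LK LD1_c18 LD2_c37 LD3_c28)) = (LP (LK LD1_c15 LD2_c14 LD3_c47)) :=
  Lgr Lrot48 (Lpr_ff (f405573 IH) (Lpn (LP (LK LD1_c15 LD2_c14 LD3_c47))))
theorem f405590 : Led Lsl_bt (LP (LK LD1_c10 LD2_c13 LD3_c57)) = (LP (LK LD1_c18 LD2_c37 LD3_c28)) :=
  Lre_b IH (LK LD1_c10 LD2_c13 LD3_c57) (LK LD1_c18 LD2_c37 LD3_c28) Lrfl Lrfl
theorem f405591 : Led Lsl_ft (LP (LK LD1_c18 LD2_c36 LD3_c41)) = (LP (LK LD1_c10 LD2_c13 LD3_c57)) :=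
  Lre_f IH (LK LD1_c18 LD2_c36 LD3_c41) (LK LD1_c10 LD2_c13 LD3_c57) Lrfl Lrfl
theorem f405592 : Led Lsl_bf (LP (LK LD1_c18 LD2_c36 LD3_c41)) = (LP (LK LD1_c15 LD2_c14 LD3_c47)) :=
  Lgr Lrot61 (Lpr_ft (f405591 IH) (Lpr_bt (f405590 IH) (Lpr_ft (f405584 IH) (Lpn (LP (LK LD1_c15 LD2_c14 LD3_c47))))))
theorem f405596 : Led Lsl_dt (LP (LK LD1_c18 LD2_c36 LD3_c41)) = (LP (LK LD1_c10 LD2_c13 LD3_c28)) :=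
  Lre_d IH (LK LD1_c18 LD2_c36 LD3_c41) (LK LD1_c10 LD2_c13 LD3_c28) Lrfl Lrfl
theorem f405597 : Led Lsl_bt (LP (LK LD1_c10 LD2_c13 LD3_c28)) = (LP (LK LD1_c8 LD2_c5 LD3_c54)) :=
  Lgr Lrot95 (Lpe (f405596 IH) (Lpr_bf (f405592 IH) (Lpe (f45935 IH) (Lpn (LP (LK LD1_c8 LD2_c5 LD3_c54))))))
theorem f405609 : Led Lsl_ct (LP (LK LD1_c10 LD2_c13 LD3_c28)) = (LP (LK LD1_c5 LD2_c11 LD3_c29)) :=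
  Lre_c IH (LK LD1_c10 LD2_c13 LD3_c28) (LK LD1_c5 LD2_c11 LD3_c29) Lrfl Lrfl
theorem f45934 : Led Lsl_gt (LP (LK LD1_c4 LD2_c2 LD3_c39)) = (LP (LK LD1_c8 LD2_c5 LD3_c54)) :=
  Lre_g IH (LK LD1_c4 LD2_c2 LD3_c39) (LK LD1_c8 LD2_c5 LD3_c54) Lrfl Lrfl
theorem f45928 : Led Lsl_bt (LP (LK LD1_c1 LD2_c58 LD3_c21)) = (LP (LK LD1_c4 LD2_c2 LD3_c39)) :=
  Lre_b IH (LK LD1_c1 LD2_c58 LD3_c21) (LK LD1_c4 LD2_c2 LD3_c39) Lrfl Lrfl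
theorem f34594 : Led Lsl_ct (LP (LK LD1_c5 LD2_c9 LD3_c19)) = (LP (LK LD1_c2 LD2_c32 LD3_c45)) :=
  Lre_c IH (LK LD1_c5 LD2_c9 LD3_c19) (LK LD1_c2 LD2_c32 LD3_c45) Lrfl Lrfl
theorem f405610 : Led Lsl_gt (LP (LK LD1_c5 LD2_c11 LD3_c29)) = (LP (LK LD1_c2 LD2_c32 LD3_c45)) :=
  Lgr Lrot65 (Lpe (f405609 IH) (Lpr_bt (f405597 IH) (Lpe (f45934 IH) (Lpe (f45928 IH) (Lpr_ct (K10.f27840 IH) (Lpe (K12.f27849 IH) (Lpr_cf (K15.f229093 IH) (Lpr_gf (K13.f229086 IH) (Lpe (K2.f33806 IH) (Lpr_ct (f34594 IH) (Lpn (LP (LK LD1_c2 LD2_c32 LD3_c45)))))))))))))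
theorem f405614 : Led Lsl_ft (LP (LK LD1_c5 LD2_c11 LD3_c29)) = (LP (LK LD1_c2 LD2_c32 LD3_c42)) :=
  Lre_f IH (LK LD1_c5 LD2_c11 LD3_c29) (LK LD1_c2 LD2_c32 LD3_c42) Lrfl Lrfl
theorem f405615 : Led Lsl_at (LP (LK LD1_c2 LD2_c32 LD3_c42)) = (LP (LK LD1_c5 LD2_c11 LD3_c34)) :=
  Lre_a IH (LK LD1_c2 LD2_c32 LD3_c42) (LK LD1_c5 LD2_c11 LD3_c34) Lrfl Lrfl
theorem f405616 : Led Lsl_gf (LP (LK LD1_c5 LD2_c11 LD3_c34)) = (LP (LK LD1_c2 LD2_c32 LD3_c45)) :=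
  Lgr Lrot76 (Lpe (f405615 IH) (Lpe (f405614 IH) (Lpr_gt (f405610 IH) (Lpn (LP (LK LD1_c2 LD2_c32 LD3_c45))))))
theorem f405687 : Led Lsl_ct (LP (LK LD1_c5 LD2_c11 LD3_c34)) = (LP (LK LD1_c10 LD2_c13 LD3_c42)) :=
  Lre_c IH (LK LD1_c5 LD2_c11 LD3_c34) (LK LD1_c10 LD2_c13 LD3_c42) Lrfl Lrfl
theorem f163853 : Led Lsl_bt (LP (LK LD1_c1 LD2_c13 LD3_c19)) = (LP (LK LD1_c2 LD2_c32 LD3_c45)) :=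
  Lre_b IH (LK LD1_c1 LD2_c13 LD3_c19) (LK LD1_c2 LD2_c32 LD3_c45) Lrfl Lrfl
theorem f165434 : Led Lsl_bt (LP (LK LD1_c1 LD2_c11 LD3_c45)) = (LP (LK LD1_c2 LD2_c29 LD3_c14)) :=
  Lre_b IH (LK LD1_c1 LD2_c11 LD3_c45) (LK LD1_c2 LD2_c29 LD3_c14) Lrfl Lrfl
theorem f165436 : Led Lsl_bt (LP (LK LD1_c9 LD2_c57 LD3_c46)) = (LP (LK LD1_c5 LD2_c3 LD3_c25)) :=
  Lre_b IH (LK LD1_c9 LD2_c57 LD3_c46) (LK LD1_c5 LD2_c3 LD3_c25) Lrfl Lrfl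
theorem f165437 : Led Lsl_ct (LP (LK LD1_c9 LD2_c57 LD3_c46)) = (LP (LK LD1_c18 LD2_c13 LD3_c50)) :=
  Lre_c IH (LK LD1_c9 LD2_c57 LD3_c46) (LK LD1_c18 LD2_c13 LD3_c50) Lrfl Lrfl
theorem f405690 : Led Lsl_gt (LP (LK LD1_c10 LD2_c13 LD3_c42)) = (LP (LK LD1_c18 LD2_c13 LD3_c50)) :=
  Lgr Lrot149 (Lpe (f405687 IH) (Lpr_gf (f405616 IH) (Lpe (f163853 IH) (Lpr_ct (K9.f163651 IH) (Lpe (K9.f165426 IH) (Lpe (K9.f165429 IH) (Lpr_bt (f165434 IH) (Lpe (K37.f165435 IH) (Lpe (f165436 IH) (Lpr_ct (f165437 IH) (Lpn (LP (LK LD1_c18 LD2_c13 LD3_c50)))))))))))))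
theorem f405704 : Led Lsl_ft (LP (LK LD1_c10 LD2_c13 LD3_c42)) = (LP (LK LD1_c5 LD2_c11 LD3_c31)) :=
  Lre_f IH (LK LD1_c10 LD2_c13 LD3_c42) (LK LD1_c5 LD2_c11 LD3_c31) Lrfl Lrfl
theorem f405599 : Led Lsl_at (LP (LK LD1_c5 LD2_c11 LD3_c31)) = (LP (LK LD1_c10 LD2_c13 LD3_c28)) :=
  Lre_a IH (LK LD1_c5 LD2_c11 LD3_c31) (LK LD1_c10 LD2_c13 LD3_c28) Lrfl Lrfl
theorem f405705 : Led Lsl_gf (LP (LK LD1_c10 LD2_c13 LD3_c28)) = (LP (LK LD1_c18 LD2_c13 LD3_c50)) :=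
  Lgr Lrot76 (Lpe (f405599 IH) (Lpe (f405704 IH) (Lpr_gt (f405690 IH) (Lpn (LP (LK LD1_c18 LD2_c13 LD3_c50))))))
theorem f405603 : Led Lsl_ct (LP (LK LD1_c5 LD2_c11 LD3_c29)) = (LP (LK LD1_c10 LD2_c13 LD3_c28)) :=
  Lre_c IH (LK LD1_c5 LD2_c11 LD3_c29) (LK LD1_c10 LD2_c13 LD3_c28) Lrfl Lrfl
theorem f405403 : Led Lsl_bt (LP (LK LD1_c5 LD2_c11 LD3_c29)) = (LP (LK LD1_c10 LD2_c13 LD3_c27)) :=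
  Lre_b IH (LK LD1_c5 LD2_c11 LD3_c29) (LK LD1_c10 LD2_c13 LD3_c27) Lrfl Lrfl
theorem f405712 : Led Lsl_gt (LP (LK LD1_c10 LD2_c13 LD3_c27)) = (LP (LK LD1_c18 LD2_c34 LD3_c13)) :=
  Lgr Lrot82 (Lpe (f405403 IH) (Lpr_ct (f405603 IH) (Lpr_gf (f405705 IH) (Lpe (f165437 IH) (Lpr_bt (f165436 IH) (Lpr_gf (K37.f343344 IH) (Lpr_bf (K37.f301745 IH) (Lpr_ct (K44.f249763 IH) (Lpr_gf (f249857 IH) (Lpe (f171645 IH) (Lpn (LP (LK LD1_c18 LD2_c34 LD3_c13)))))))))))))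
theorem f405628 : Led Lsl_dt (LP (LK LD1_c18 LD2_c36 LD3_c39)) = (LP (LK LD1_c10 LD2_c13 LD3_c27)) :=
  Lre_d IH (LK LD1_c18 LD2_c36 LD3_c39) (LK LD1_c10 LD2_c13 LD3_c27) Lrfl Lrfl
theorem f714480 : Led Lsl_gf (LP (LK LD1_c18 LD2_c42 LD3_c56)) = (LP (LK LD1_c18 LD2_c36 LD3_c39)) :=
  Lgr Lrot147 (Lpr_ct (f405233 IH) (Lpr_gt (f714476 IH) (Lpr_ct (f249859 IH) (Lpe (f249788 IH) (Lpe (f249765 IH) (Lpr_gf (f249857 IH) (Lpe (f171645 IH) (Lpe (f405712 IH) (Lpe (f405628 IH) (Lpn (LP (LK LD1_c18 LD2_c36 LD3_c39))))))))))))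
theorem f405634 : Led Lsl_ft (LP (LK LD1_c18 LD2_c36 LD3_c39)) = (LP (LK LD1_c10 LD2_c13 LD3_c54)) :=
  Lre_f IH (LK LD1_c18 LD2_c36 LD3_c39) (LK LD1_c10 LD2_c13 LD3_c54) Lrfl Lrfl
theorem f405635 : Led Lsl_at (LP (LK LD1_c10 LD2_c13 LD3_c54)) = (LP (LK LD1_c18 LD2_c37 LD3_c17)) :=
  Lre_a IH (LK LD1_c10 LD2_c13 LD3_c54) (LK LD1_c18 LD2_c37 LD3_c17) Lrfl Lrfl
theorem f714483 : Led Lsl_gt (LP (LK LD1_c18 LD2_c42 LD3_c56)) = (LP (LK LD1_c18 LD2_c37 LD3_c17)) :=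
  Lgr Lrot46 (Lpr_gf (f714480 IH) (Lpr_ft (f405634 IH) (Lpr_at (f405635 IH) (Lpn (LP (LK LD1_c18 LD2_c37 LD3_c17))))))
theorem f405234 : Led Lsl_ct (LP (LK LD1_c10 LD2_c17 LD3_c49)) = (LP (LK LD1_c18 LD2_c42 LD3_c56)) :=
  Lre_c IH (LK LD1_c10 LD2_c17 LD3_c49) (LK LD1_c18 LD2_c42 LD3_c56) Lrfl Lrfl
theorem f405191 : Led Lsl_ft (LP (LK LD1_c10 LD2_c17 LD3_c47)) = (LP (LK LD1_c5 LD2_c13 LD3_c47)) :=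
  Lre_f IH (LK LD1_c10 LD2_c17 LD3_c47) (LK LD1_c5 LD2_c13 LD3_c47) Lrfl Lrfl
theorem f699332 : Led Lsl_dt (LP (LK LD1_c18 LD2_c15 LD3_c11)) = (LP (LK LD1_c10 LD2_c17 LD3_c47)) :=
  Lgr Lrot60 (Lpr_ff (f699326 IH) (Lpe (f542410 IH) (Lpe (f405191 IH) (Lpn (LP (LK LD1_c10 LD2_c17 LD3_c47))))))
theorem f405195 : Led Lsl_gt (LP (LK LD1_c10 LD2_c17 LD3_c47)) = (LP (LK LD1_c18 LD2_c42 LD3_c46)) :=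
  Lre_g IH (LK LD1_c10 LD2_c17 LD3_c47) (LK LD1_c18 LD2_c42 LD3_c46) Lrfl Lrfl
theorem f428913 : Led Lsl_gt (LP (LK LD1_c4 LD2_c39 LD3_c50)) = (LP (LK LD1_c9 LD2_c15 LD3_c11)) :=
  Lre_g IH (LK LD1_c4 LD2_c39 LD3_c50) (LK LD1_c9 LD2_c15 LD3_c11) Lrfl Lrfl
theorem f562744 : Led Lsl_et (LP (LK LD1_c17 LD2_c9 LD3_c47)) = (LP (LK LD1_c9 LD2_c15 LD3_c11)) :=
  Lre_e IH (LK LD1_c17 LD2_c9 LD3_c47) (LK LD1_c9 LD2_c15 LD3_c11) Lrfl Lrfl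
theorem f308099 : Led Lsl_dt (LP (LK LD1_c5 LD2_c13 LD3_c45)) = (LP (LK LD1_c2 LD2_c33 LD3_c46)) :=
  Lre_d IH (LK LD1_c5 LD2_c13 LD3_c45) (LK LD1_c2 LD2_c33 LD3_c46) Lrfl Lrfl
theorem f551782 : Led Lsl_dt (LP (LK LD1_c9 LD2_c7 LD3_c41)) = (LP (LK LD1_c10 LD2_c17 LD3_c39)) :=
  Lgr Lrot77 (Lpe (f551781 IH) (Lpe (K39.f34909 IH) (Lpr_ef (K39.f551773 IH) (Lpe (f308099 IH) (Lpe (f308094 IH) (Lpn (LP (LK LD1_c10 LD2_c17 LD3_c39))))))))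
theorem f495340 : Led Lsl_gt (LP (LK LD1_c18 LD2_c42 LD3_c46)) = (LP (LK LD1_c10 LD2_c17 LD3_c39)) :=
  Lre_g IH (LK LD1_c18 LD2_c42 LD3_c46) (LK LD1_c10 LD2_c17 LD3_c39) Lrfl Lrfl
theorem f562745 : Led Lsl_dt (LP (LK LD1_c17 LD2_c9 LD3_c47)) = (LP (LK LD1_c18 LD2_c42 LD3_c46)) :=
  Lgr Lrot136 (Lpr_et (f562744 IH) (Lpe (f428913 IH) (Lpe (K40.f547888 IH) (Lpr_dt (K36.f56198 IH) (Lpe (K36.f22420 IH) (Lpe (K36.f56214 IH) (Lpr_gf (K40.f562740 IH) (Lpe (f551792 IH) (Lpr_dt (f551782 IH) (Lpe (f495340 IH) (Lpn (LP (LK LD1_c18 LD2_c42 LD3_c46)))))))))))))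
theorem f562747 : Led Lsl_df (LP (LK LD1_c17 LD2_c9 LD3_c47)) = (LP (LK LD1_c18 LD2_c42 LD3_c46)) :=
  Lgr Lrot38 (Lpr_dt (f562745 IH) (Lpn (LP (LK LD1_c18 LD2_c42 LD3_c46))))
theorem f405370 : Led Lsl_dt (LP (LK LD1_c18 LD2_c37 LD3_c17)) = (LP (LK LD1_c10 LD2_c13 LD3_c52)) :=
  Lre_d IH (LK LD1_c18 LD2_c37 LD3_c17) (LK LD1_c10 LD2_c13 LD3_c52) Lrfl Lrfl
theorem f166083 : Led Lsl_bt (LP (LK LD1_c9 LD2_c59 LD3_c15)) = (LP (LK LD1_c5 LD2_c4 LD3_c12)) :=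
  Lre_b IH (LK LD1_c9 LD2_c59 LD3_c15) (LK LD1_c5 LD2_c4 LD3_c12) Lrfl Lrfl
theorem f171622 : Led Lsl_bt (LP (LK LD1_c2 LD2_c32 LD3_c21)) = (LP (LK LD1_c1 LD2_c13 LD3_c10)) :=
  Lre_b IH (LK LD1_c2 LD2_c32 LD3_c21) (LK LD1_c1 LD2_c13 LD3_c10) Lrfl Lrfl
theorem f171625 : Led Lsl_ct (LP (LK LD1_c2 LD2_c32 LD3_c21)) = (LP (LK LD1_c5 LD2_c10 LD3_c31)) :=
  Lre_c IH (LK LD1_c2 LD2_c32 LD3_c21) (LK LD1_c5 LD2_c10 LD3_c31) Lrfl Lrfl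
theorem f171626 : Led Lsl_gt (LP (LK LD1_c10 LD2_c11 LD3_c41)) = (LP (LK LD1_c5 LD2_c10 LD3_c31)) :=
  Lre_g IH (LK LD1_c10 LD2_c11 LD3_c41) (LK LD1_c5 LD2_c10 LD3_c31) Lrfl Lrfl
theorem f171627 : Led Lsl_ct (LP (LK LD1_c9 LD2_c59 LD3_c15)) = (LP (LK LD1_c10 LD2_c11 LD3_c41)) :=
  Lgr Lrot64 (Lpr_bt (f166083 IH) (Lpe (K44.f165890 IH) (Lpe (K44.f165882 IH) (Lpe (K9.f165885 IH) (Lpe (K9.f32853 IH) (Lpe (K10.f32240 IH) (Lpr_gf (K10.f171515 IH) (Lpe (f171622 IH) (Lpr_ct (f171625 IH) (Lpe (f171626 IH) (Lpn (LP (LK LD1_c10 LD2_c11 LD3_c41)))))))))))))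
theorem f412519 : Led Lsl_gf (LP (LK LD1_c10 LD2_c11 LD3_c41)) = (LP (LK LD1_c9 LD2_c58 LD3_c22)) :=
  Lgr Lrot126 (Lpe (f171627 IH) (Lpr_bt (f166083 IH) (Lpr_gt (K44.f412516 IH) (Lpr_ct (K38.f267981 IH) (Lpr_gt (K38.f405304 IH) (Lpe (K38.f405307 IH) (Lpr_bt (K38.f405308 IH) (Lpe (K38.f405309 IH) (Lpr_bf (K37.f301745 IH) (Lpr_ct (K44.f249763 IH) (Lpn (LP (LK LD1_c9 LD2_c58 LD3_c22)))))))))))))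
theorem f171636 : Led Lsl_cf (LP (LK LD1_c9 LD2_c59 LD3_c15)) = (LP (LK LD1_c10 LD2_c11 LD3_c41)) :=
  Lgr Lrot11 (Lpr_ct (f171627 IH) (Lpn (LP (LK LD1_c10 LD2_c11 LD3_c41))))
theorem f249740 : Led Lsl_bt (LP (LK LD1_c18 LD2_c14 LD3_c20)) = (LP (LK LD1_c9 LD2_c58 LD3_c22)) :=
  Lre_b IH (LK LD1_c18 LD2_c14 LD3_c20) (LK LD1_c9 LD2_c58 LD3_c22) Lrfl Lrfl
theorem f249085 : Led Lsl_ct (LP (LK LD1_c27 LD2_c32 LD3_c19)) = (LP (LK LD1_c17 LD2_c45 LD3_c61)) :=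
  Lre_c IH (LK LD1_c27 LD2_c32 LD3_c19) (LK LD1_c17 LD2_c45 LD3_c61) Lrfl Lrfl
theorem f260138 : Led Lsl_bt (LP (LK LD1_c10 LD2_c13 LD3_c39)) = (LP (LK LD1_c5 LD2_c11 LD3_c31)) :=
  Lre_b IH (LK LD1_c10 LD2_c13 LD3_c39) (LK LD1_c5 LD2_c11 LD3_c31) Lrfl Lrfl
theorem f405600 : Led Lsl_at (LP (LK LD1_c18 LD2_c36 LD3_c59)) = (LP (LK LD1_c10 LD2_c13 LD3_c39)) :=
  Lre_a IH (LK LD1_c18 LD2_c36 LD3_c59) (LK LD1_c10 LD2_c13 LD3_c39) Lrfl Lrfl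
theorem f405541 : Led Lsl_at (LP (LK LD1_c8 LD2_c5 LD3_c54)) = (LP (LK LD1_c15 LD2_c14 LD3_c45)) :=
  Lre_a IH (LK LD1_c8 LD2_c5 LD3_c54) (LK LD1_c15 LD2_c14 LD3_c45) Lrfl Lrfl
theorem f405601 : Led Lsl_bf (LP (LK LD1_c18 LD2_c36 LD3_c59)) = (LP (LK LD1_c15 LD2_c14 LD3_c45)) :=
  Lgr Lrot81 (Lpr_at (f405600 IH) (Lpr_bt (f260138 IH) (Lpr_at (f405599 IH) (Lpr_bt (f405597 IH) (Lpr_at (f405541 IH) (Lpn (LP (LK LD1_c15 LD2_c14 LD3_c45))))))))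
theorem f405724 : Led Lsl_ft (LP (LK LD1_c8 LD2_c5 LD3_c55)) = (LP (LK LD1_c15 LD2_c14 LD3_c45)) :=
  Lre_f IH (LK LD1_c8 LD2_c5 LD3_c55) (LK LD1_c15 LD2_c14 LD3_c45) Lrfl Lrfl
theorem f45949 : Led Lsl_bt (LP (LK LD1_c15 LD2_c14 LD3_c49)) = (LP (LK LD1_c8 LD2_c5 LD3_c55)) :=
  Lre_b IH (LK LD1_c15 LD2_c14 LD3_c49) (LK LD1_c8 LD2_c5 LD3_c55) Lrfl Lrfl
theorem f405725 : Led Lsl_ft (LP (LK LD1_c18 LD2_c36 LD3_c59)) = (LP (LK LD1_c15 LD2_c14 LD3_c49)) :=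
  Lgr Lrot75 (Lpr_bf (f405601 IH) (Lpe (f405724 IH) (Lpe (f45949 IH) (Lpn (LP (LK LD1_c15 LD2_c14 LD3_c49))))))
theorem f405701 : Led Lsl_at (LP (LK LD1_c10 LD2_c13 LD3_c39)) = (LP (LK LD1_c18 LD2_c36 LD3_c59)) :=
  Lre_a IH (LK LD1_c10 LD2_c13 LD3_c39) (LK LD1_c18 LD2_c36 LD3_c59) Lrfl Lrfl
theorem f405700 : Led Lsl_ft (LP (LK LD1_c18 LD2_c37 LD3_c0)) = (LP (LK LD1_c10 LD2_c13 LD3_c39)) :=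
  Lre_f IH (LK LD1_c18 LD2_c37 LD3_c0) (LK LD1_c10 LD2_c13 LD3_c39) Lrfl Lrfl
theorem f405727 : Led Lsl_af (LP (LK LD1_c18 LD2_c37 LD3_c0)) = (LP (LK LD1_c15 LD2_c14 LD3_c49)) :=
  Lgr Lrot45 (Lpr_ft (f405700 IH) (Lpr_at (f405701 IH) (Lpr_ft (f405725 IH) (Lpn (LP (LK LD1_c15 LD2_c14 LD3_c49))))))
theorem f405707 : Led Lsl_bt (LP (LK LD1_c18 LD2_c37 LD3_c0)) = (LP (LK LD1_c10 LD2_c13 LD3_c42)) :=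
  Lre_b IH (LK LD1_c18 LD2_c37 LD3_c0) (LK LD1_c10 LD2_c13 LD3_c42) Lrfl Lrfl
theorem f405739 : Led Lsl_at (LP (LK LD1_c10 LD2_c13 LD3_c42)) = (LP (LK LD1_c5 LD2_c11 LD3_c36)) :=
  Lre_a IH (LK LD1_c10 LD2_c13 LD3_c42) (LK LD1_c5 LD2_c11 LD3_c36) Lrfl Lrfl
theorem f233543 : Led Lsl_bt (LP (LK LD1_c8 LD2_c5 LD3_c55)) = (LP (LK LD1_c15 LD2_c14 LD3_c49)) :=
  Lre_b IH (LK LD1_c8 LD2_c5 LD3_c55) (LK LD1_c15 LD2_c14 LD3_c49) Lrfl Lrfl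
theorem f405740 : Led Lsl_at (LP (LK LD1_c10 LD2_c13 LD3_c56)) = (LP (LK LD1_c8 LD2_c5 LD3_c55)) :=
  Lgr Lrot67 (Lpe (K44.f34572 IH) (Lpe (f405739 IH) (Lpe (f405707 IH) (Lpr_af (f405727 IH) (Lpe (f233543 IH) (Lpn (LP (LK LD1_c8 LD2_c5 LD3_c55))))))))
theorem f233573 : Led Lsl_et (LP (LK LD1_c18 LD2_c37 LD3_c29)) = (LP (LK LD1_c10 LD2_c13 LD3_c56)) :=
  Lre_e IH (LK LD1_c18 LD2_c37 LD3_c29) (LK LD1_c10 LD2_c13 LD3_c56) Lrfl Lrfl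
theorem f405742 : Led Lsl_et (LP (LK LD1_c8 LD2_c5 LD3_c55)) = (LP (LK LD1_c15 LD2_c14 LD3_c52)) :=
  Lre_e IH (LK LD1_c8 LD2_c5 LD3_c55) (LK LD1_c15 LD2_c14 LD3_c52) Lrfl Lrfl
theorem f405743 : Led Lsl_af (LP (LK LD1_c18 LD2_c37 LD3_c29)) = (LP (LK LD1_c15 LD2_c14 LD3_c52)) :=
  Lgr Lrot50 (Lpr_et (f233573 IH) (Lpr_at (f405740 IH) (Lpr_et (f405742 IH) (Lpn (LP (LK LD1_c15 LD2_c14 LD3_c52))))))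
theorem f405749 : Led Lsl_ct (LP (LK LD1_c18 LD2_c37 LD3_c29)) = (LP (LK LD1_c28 LD2_c10 LD3_c11)) :=
  Lre_c IH (LK LD1_c18 LD2_c37 LD3_c29) (LK LD1_c28 LD2_c10 LD3_c11) Lrfl Lrfl
theorem f405750 : Led Lsl_ct (LP (LK LD1_c25 LD2_c3 LD3_c56)) = (LP (LK LD1_c15 LD2_c14 LD3_c52)) :=
  Lre_c IH (LK LD1_c25 LD2_c3 LD3_c56) (LK LD1_c15 LD2_c14 LD3_c52) Lrfl Lrfl
theorem f405751 : Led Lsl_at (LP (LK LD1_c28 LD2_c10 LD3_c11)) = (LP (LK LD1_c25 LD2_c3 LD3_c56)) :=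
  Lgr Lrot107 (Lpe (f405749 IH) (Lpr_af (f405743 IH) (Lpe (f405750 IH) (Lpn (LP (LK LD1_c25 LD2_c3 LD3_c56))))))
theorem f405754 : Led Lsl_af (LP (LK LD1_c28 LD2_c10 LD3_c11)) = (LP (LK LD1_c25 LD2_c3 LD3_c56)) :=
  Lgr Lrot0 (Lpr_at (f405751 IH) (Lpn (LP (LK LD1_c25 LD2_c3 LD3_c56))))
theorem f260021 : Led Lsl_et (LP (LK LD1_c28 LD2_c10 LD3_c11)) = (LP (LK LD1_c18 LD2_c37 LD3_c19)) :=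
  Lre_e IH (LK LD1_c28 LD2_c10 LD3_c11) (LK LD1_c18 LD2_c37 LD3_c19) Lrfl Lrfl
theorem f233544 : Led Lsl_et (LP (LK LD1_c15 LD2_c14 LD3_c50)) = (LP (LK LD1_c25 LD2_c3 LD3_c56)) :=
  Lre_e IH (LK LD1_c15 LD2_c14 LD3_c50) (LK LD1_c25 LD2_c3 LD3_c56) Lrfl Lrfl
theorem f405759 : Led Lsl_at (LP (LK LD1_c18 LD2_c37 LD3_c19)) = (LP (LK LD1_c15 LD2_c14 LD3_c50)) :=
  Lgr Lrot80 (Lpe (f260021 IH) (Lpr_af (f405754 IH) (Lpe (f233544 IH) (Lpn (LP (LK LD1_c15 LD2_c14 LD3_c50))))))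
theorem f405568 : Led Lsl_gt (LP (LK LD1_c15 LD2_c14 LD3_c46)) = (LP (LK LD1_c25 LD2_c3 LD3_c50)) :=
  Lre_g IH (LK LD1_c15 LD2_c14 LD3_c46) (LK LD1_c25 LD2_c3 LD3_c50) Lrfl Lrfl
theorem f405765 : Led Lsl_gt (LP (LK LD1_c25 LD2_c3 LD3_c50)) = (LP (LK LD1_c15 LD2_c14 LD3_c50)) :=
  Lgr Lrot46 (Lpe (f405568 IH) (Lpe (f405560 IH) (Lpr_at (f405759 IH) (Lpn (LP (LK LD1_c15 LD2_c14 LD3_c50))))))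
theorem f405770 : Led Lsl_bf (LP (LK LD1_c25 LD2_c3 LD3_c50)) = (LP (LK LD1_c27 LD2_c32 LD3_c19)) :=
  Lgr Lrot165 (Lpr_gt (f405765 IH) (Lpr_ct (K14.f45941 IH) (Lpr_gt (K14.f45937 IH) (Lpr_cf (K10.f45929 IH) (Lpr_bt (K14.f44009 IH) (Lpr_gt (K14.f249074 IH) (Lpe (K44.f249084 IH) (Lpe (K44.f248982 IH) (Lpr_gt (K37.f229936 IH) (Lpe (f249085 IH) (Lpn (LP (LK LD1_c27 LD2_c32 LD3_c19)))))))))))))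
theorem f165589 : Led Lsl_gt (LP (LK LD1_c2 LD2_c29 LD3_c23)) = (LP (LK LD1_c5 LD2_c3 LD3_c51)) :=
  Lre_g IH (LK LD1_c2 LD2_c29 LD3_c23) (LK LD1_c5 LD2_c3 LD3_c51) Lrfl Lrfl
theorem f165590 : Led Lsl_ct (LP (LK LD1_c5 LD2_c3 LD3_c51)) = (LP (LK LD1_c9 LD2_c58 LD3_c38)) :=
  Lre_c IH (LK LD1_c5 LD2_c3 LD3_c51) (LK LD1_c9 LD2_c58 LD3_c38) Lrfl Lrfl
theorem f165591 : Led Lsl_gt (LP (LK LD1_c9 LD2_c58 LD3_c38)) = (LP (LK LD1_c18 LD2_c15 LD3_c5)) :=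
  Lre_g IH (LK LD1_c9 LD2_c58 LD3_c38) (LK LD1_c18 LD2_c15 LD3_c5) Lrfl Lrfl
theorem f405619 : Led Lsl_ct (LP (LK LD1_c10 LD2_c13 LD3_c27)) = (LP (LK LD1_c18 LD2_c15 LD3_c5)) :=
  Lgr Lrot63 (Lpr_bt (K44.f405373 IH) (Lpr_gt (f405610 IH) (Lpe (f163853 IH) (Lpr_ct (K9.f163651 IH) (Lpe (K8.f165581 IH) (Lpe (K8.f163667 IH) (Lpr_bt (K37.f165588 IH) (Lpr_gt (f165589 IH) (Lpr_ct (f165590 IH) (Lpr_gt (f165591 IH) (Lpn (LP (LK LD1_c18 LD2_c15 LD3_c5)))))))))))))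
theorem f405570 : Led Lsl_ft (LP (LK LD1_c10 LD2_c13 LD3_c28)) = (LP (LK LD1_c5 LD2_c11 LD3_c36)) :=
  Lre_f IH (LK LD1_c10 LD2_c13 LD3_c28) (LK LD1_c5 LD2_c11 LD3_c36) Lrfl Lrfl
theorem f405571 : Led Lsl_bf (LP (LK LD1_c10 LD2_c13 LD3_c28)) = (LP (LK LD1_c8 LD2_c5 LD3_c54)) :=
  Lgr Lrot61 (Lpr_ft (f405570 IH) (Lpr_bt (K44.f34572 IH) (Lpr_ft (f405562 IH) (Lpn (LP (LK LD1_c8 LD2_c5 LD3_c54))))))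
theorem f45965 : Led Lsl_ct (LP (LK LD1_c15 LD2_c14 LD3_c46)) = (LP (LK LD1_c8 LD2_c5 LD3_c54)) :=
  Lre_c IH (LK LD1_c15 LD2_c14 LD3_c46) (LK LD1_c8 LD2_c5 LD3_c54) Lrfl Lrfl
theorem f405624 : Led Lsl_bf (LP (LK LD1_c15 LD2_c14 LD3_c46)) = (LP (LK LD1_c18 LD2_c15 LD3_c5)) :=
  Lgr Lrot90 (Lpr_ct (f45965 IH) (Lpe (f405571 IH) (Lpr_ct (f405609 IH) (Lpr_bt (f405403 IH) (Lpr_ct (f405619 IH) (Lpn (LP (LK LD1_c18 LD2_c15 LD3_c5))))))))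
theorem f405626 : Led Lsl_cf (LP (LK LD1_c10 LD2_c13 LD3_c27)) = (LP (LK LD1_c18 LD2_c15 LD3_c5)) :=
  Lgr Lrot11 (Lpr_ct (f405619 IH) (Lpn (LP (LK LD1_c18 LD2_c15 LD3_c5))))
theorem f412529 : Led Lsl_gt (LP (LK LD1_c9 LD2_c59 LD3_c15)) = (LP (LK LD1_c10 LD2_c13 LD3_c27)) :=
  Lgr Lrot149 (Lpr_cf (f171636 IH) (Lpr_gf (f412519 IH) (Lpe (f249740 IH) (Lpe (K44.f343505 IH) (Lpe (K37.f343348 IH) (Lpe (f249085 IH) (Lpe (f405770 IH) (Lpe (f405568 IH) (Lpr_bf (f405624 IH) (Lpe (f405626 IH) (Lpn (LP (LK LD1_c10 LD2_c13 LD3_c27)))))))))))))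
theorem f412532 : Led Lsl_gf (LP (LK LD1_c9 LD2_c59 LD3_c15)) = (LP (LK LD1_c10 LD2_c13 LD3_c52)) :=
  Lgr Lrot47 (Lpr_gt (f412529 IH) (Lpr_af (K44.f405368 IH) (Lpe (K44.f405364 IH) (Lpn (LP (LK LD1_c10 LD2_c13 LD3_c52))))))
theorem f171643 : Led Lsl_dt (LP (LK LD1_c9 LD2_c59 LD3_c15)) = (LP (LK LD1_c18 LD2_c15 LD3_c40)) :=
  Lre_d IH (LK LD1_c9 LD2_c59 LD3_c15) (LK LD1_c18 LD2_c15 LD3_c40) Lrfl Lrfl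
theorem f714493 : Led Lsl_cf (LP (LK LD1_c17 LD2_c9 LD3_c47)) = (LP (LK LD1_c18 LD2_c15 LD3_c40)) :=
  Lgr Lrot14 (Lpr_df (f562747 IH) (Lpe (f405195 IH) (Lpe (f699332 IH) (Lpe (f714476 IH) (Lpr_ct (f405234 IH) (Lpr_gt (f714483 IH) (Lpr_dt (f405370 IH) (Lpe (f412532 IH) (Lpr_dt (f171643 IH) (Lpn (LP (LK LD1_c18 LD2_c15 LD3_c40))))))))))))
theorem f583606 : Led Lsl_bt (LP (LK LD1_c18 LD2_c15 LD3_c40)) = (LP (LK LD1_c9 LD2_c59 LD3_c17)) :=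
  Lre_b IH (LK LD1_c18 LD2_c15 LD3_c40) (LK LD1_c9 LD2_c59 LD3_c17) Lrfl Lrfl
theorem f180589 : Led Lsl_ct (LP (LK LD1_c5 LD2_c9 LD3_c57)) = (LP (LK LD1_c10 LD2_c10 LD3_c42)) :=
  Lre_c IH (LK LD1_c5 LD2_c9 LD3_c57) (LK LD1_c10 LD2_c10 LD3_c42) Lrfl Lrfl
theorem f714497 : Led Lsl_gt (LP (LK LD1_c17 LD2_c9 LD3_c47)) = (LP (LK LD1_c10 LD2_c10 LD3_c42)) :=
  Lgr Lrot65 (Lpr_cf (f714493 IH) (Lpr_bt (f583606 IH) (Lpe (K44.f583604 IH) (Lpe (K44.f166204 IH) (Lpr_ct (K9.f166199 IH) (Lpe (K9.f166162 IH) (Lpe (K2.f71525 IH) (Lpr_gf (K10.f180570 IH) (Lpe (K32.f180587 IH) (Lpr_ct (f180589 IH) (Lpn (LP (LK LD1_c10 LD2_c10 LD3_c42)))))))))))))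
theorem f714499 : Led Lsl_gf (LP (LK LD1_c17 LD2_c9 LD3_c47)) = (LP (LK LD1_c18 LD2_c12 LD3_c49)) :=
  Lgr Lrot47 (Lpr_gt (f714497 IH) (Lpe (K32.f180732 IH) (Lpe (K32.f299907 IH) (Lpn (LP (LK LD1_c18 LD2_c12 LD3_c49))))))
theorem f714491 : Led Lsl_ct (LP (LK LD1_c17 LD2_c9 LD3_c47)) = (LP (LK LD1_c18 LD2_c15 LD3_c40)) :=
  Lgr Lrot7 (Lpr_df (f562747 IH) (Lpe (f405195 IH) (Lpe (f699332 IH) (Lpe (f714476 IH) (Lpe (f405233 IH) (Lpr_gt (f714483 IH) (Lpr_dt (f405370 IH) (Lpe (f412532 IH) (Lpr_dt (f171643 IH) (Lpn (LP (LK LD1_c18 LD2_c15 LD3_c40))))))))))))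
theorem f192934 : Led Lsl_gt (LP (LK LD1_c2 LD2_c32 LD3_c21)) = (LP (LK LD1_c5 LD2_c10 LD3_c37)) :=
  Lre_g IH (LK LD1_c2 LD2_c32 LD3_c21) (LK LD1_c5 LD2_c10 LD3_c37) Lrfl Lrfl
theorem f249884 : Led Lsl_gf (LP (LK LD1_c5 LD2_c3 LD3_c53)) = (LP (LK LD1_c5 LD2_c10 LD3_c37)) :=
  Lgr Lrot76 (Lpe (K37.f249874 IH) (Lpr_ff (K14.f249865 IH) (Lpr_gt (f192934 IH) (Lpn (LP (LK LD1_c5 LD2_c10 LD3_c37))))))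
theorem f722474 : Led Lsl_df (LP (LK LD1_c5 LD2_c10 LD3_c37)) = v14428 :=
  Lgr Lrot155 (Lpe (f249884 IH) (Lpr_ct (K44.f249763 IH) (Lpe (f412519 IH) (Lpe (f171636 IH) (Lpr_dt (f171643 IH) (Lpe (f714491 IH) (Lpr_gf (f714499 IH) (Lpe (f299866 IH) (Lpr_gf (f722472 IH) (Lpn v14428))))))))))
theorem f249789 : Led Lsl_ct (LP (LK LD1_c9 LD2_c58 LD3_c42)) = (LP (LK LD1_c18 LD2_c15 LD3_c11)) :=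
  Lre_c IH (LK LD1_c9 LD2_c58 LD3_c42) (LK LD1_c18 LD2_c15 LD3_c11) Lrfl Lrfl
theorem f165690 : Led Lsl_ct (LP (LK LD1_c5 LD2_c3 LD3_c54)) = (LP (LK LD1_c9 LD2_c58 LD3_c46)) :=
  Lre_c IH (LK LD1_c5 LD2_c3 LD3_c54) (LK LD1_c9 LD2_c58 LD3_c46) Lrfl Lrfl
theorem f165610 : Led Lsl_dt (LP (LK LD1_c9 LD2_c58 LD3_c23)) = (LP (LK LD1_c5 LD2_c3 LD3_c45)) :=
  Lre_d IH (LK LD1_c9 LD2_c58 LD3_c23) (LK LD1_c5 LD2_c3 LD3_c45) Lrfl Lrfl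
theorem f249801 : Led Lsl_ct (LP (LK LD1_c18 LD2_c14 LD3_c40)) = (LP (LK LD1_c9 LD2_c58 LD3_c23)) :=
  Lre_c IH (LK LD1_c18 LD2_c14 LD3_c40) (LK LD1_c9 LD2_c58 LD3_c23) Lrfl Lrfl
theorem f542412 : Led Lsl_dt (LP (LK LD1_c10 LD2_c17 LD3_c46)) = (LP (LK LD1_c5 LD2_c13 LD3_c47)) :=
  Lre_d IH (LK LD1_c10 LD2_c17 LD3_c46) (LK LD1_c5 LD2_c13 LD3_c47) Lrfl Lrfl
theorem f186556 : Led Lsl_ct (LP (LK LD1_c5 LD2_c13 LD3_c47)) = (LP (LK LD1_c10 LD2_c17 LD3_c43)) :=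
  Lre_c IH (LK LD1_c5 LD2_c13 LD3_c47) (LK LD1_c10 LD2_c17 LD3_c43) Lrfl Lrfl
theorem f699338 : Led Lsl_df (LP (LK LD1_c18 LD2_c14 LD3_c40)) = (LP (LK LD1_c10 LD2_c17 LD3_c43)) :=
  Lgr Lrot106 (Lpr_ct (f249801 IH) (Lpr_dt (f165610 IH) (Lpr_ct (K10.f165609 IH) (Lpr_dt (K14.f165737 IH) (Lpr_ct (f165690 IH) (Lpe (f165735 IH) (Lpr_ff (f699326 IH) (Lpr_dt (f542412 IH) (Lpr_ct (f186556 IH) (Lpn (LP (LK LD1_c10 LD2_c17 LD3_c43))))))))))))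
theorem f249808 : Led Lsl_ct (LP (LK LD1_c10 LD2_c11 LD3_c43)) = (LP (LK LD1_c18 LD2_c34 LD3_c18)) :=
  Lre_c IH (LK LD1_c10 LD2_c11 LD3_c43) (LK LD1_c18 LD2_c34 LD3_c18) Lrfl Lrfl
theorem f249809 : Led Lsl_ff (LP (LK LD1_c18 LD2_c14 LD3_c40)) = (LP (LK LD1_c18 LD2_c34 LD3_c18)) :=
  Lgr Lrot23 (Lpr_ct (f249801 IH) (Lpr_ft (K14.f249792 IH) (Lpr_ct (f249808 IH) (Lpn (LP (LK LD1_c18 LD2_c34 LD3_c18))))))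
theorem f417551 : Led Lsl_ft (LP (LK LD1_c18 LD2_c14 LD3_c40)) = (LP (LK LD1_c18 LD2_c34 LD3_c18)) :=
  Lgr Lrot48 (Lpr_ff (f249809 IH) (Lpn (LP (LK LD1_c18 LD2_c34 LD3_c18))))
theorem f405154 : Led Lsl_ft (LP (LK LD1_c18 LD2_c42 LD3_c52)) = (LP (LK LD1_c10 LD2_c17 LD3_c43)) :=
  Lre_f IH (LK LD1_c18 LD2_c42 LD3_c52) (LK LD1_c10 LD2_c17 LD3_c43) Lrfl Lrfl
theorem f699344 : Led Lsl_dt (LP (LK LD1_c18 LD2_c34 LD3_c18)) = (LP (LK LD1_c18 LD2_c42 LD3_c52)) :=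
  Lgr Lrot60 (Lpe (f417551 IH) (Lpr_df (f699338 IH) (Lpe (f405154 IH) (Lpn (LP (LK LD1_c18 LD2_c42 LD3_c52))))))
theorem f171639 : Led Lsl_dt (LP (LK LD1_c5 LD2_c10 LD3_c31)) = (LP (LK LD1_c10 LD2_c11 LD3_c43)) :=
  Lre_d IH (LK LD1_c5 LD2_c10 LD3_c31) (LK LD1_c10 LD2_c11 LD3_c43) Lrfl Lrfl
theorem f249764 : Led Lsl_dt (LP (LK LD1_c9 LD2_c58 LD3_c42)) = (LP (LK LD1_c5 LD2_c3 LD3_c53)) :=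
  Lre_d IH (LK LD1_c9 LD2_c58 LD3_c42) (LK LD1_c5 LD2_c3 LD3_c53) Lrfl Lrfl
theorem f302600 : Led Lsl_ct (LP (LK LD1_c18 LD2_c42 LD3_c52)) = (LP (LK LD1_c10 LD2_c17 LD3_c47)) :=
  Lre_c IH (LK LD1_c18 LD2_c42 LD3_c52) (LK LD1_c10 LD2_c17 LD3_c47) Lrfl Lrfl
theorem f699352 : Led Lsl_df (LP (LK LD1_c18 LD2_c15 LD3_c11)) = (LP (LK LD1_c10 LD2_c17 LD3_c47)) :=
  Lgr Lrot13 (Lpr_ct (f249859 IH) (Lpr_dt (f249764 IH) (Lpr_ct (K44.f249763 IH) (Lpe (f249848 IH) (Lpr_ff (K14.f249811 IH) (Lpr_dt (f171639 IH) (Lpr_ct (f249808 IH) (Lpr_dt (f699344 IH) (Lpr_ct (f302600 IH) (Lpn (LP (LK LD1_c10 LD2_c17 LD3_c47))))))))))))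
theorem f180642 : Led Lsl_gt (LP (LK LD1_c10 LD2_c10 LD3_c42)) = (LP (LK LD1_c18 LD2_c32 LD3_c35)) :=
  Lre_g IH (LK LD1_c10 LD2_c10 LD3_c42) (LK LD1_c18 LD2_c32 LD3_c35) Lrfl Lrfl
theorem f721214 : Led Lsl_bt (LP (LK LD1_c18 LD2_c22 LD3_c16)) = (LP (LK LD1_c10 LD2_c3 LD3_c37)) :=
  Lre_b IH (LK LD1_c18 LD2_c22 LD3_c16) (LK LD1_c10 LD2_c3 LD3_c37) Lrfl Lrfl
theorem f721218 : Led Lsl_ct (LP (LK LD1_c18 LD2_c22 LD3_c16)) = (LP (LK LD1_c18 LD2_c15 LD3_c14)) :=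
  Lgr Lrot64 (Lpr_bt (f721214 IH) (Lpr_gf (f721215 IH) (Lpe (f186544 IH) (Lpe (K10.f186510 IH) (Lpe (K11.f198596 IH) (Lpr_cf (K36.f198615 IH) (Lpr_gf (K42.f198617 IH) (Lpe (K14.f165657 IH) (Lpr_ct (f165690 IH) (Lpe (f165747 IH) (Lpn (LP (LK LD1_c18 LD2_c15 LD3_c14)))))))))))))
theorem f710761 : Led Lsl_af (LP (LK LD1_c10 LD2_c17 LD3_c49)) = (LP (LK LD1_c18 LD2_c15 LD3_c14)) :=
  Lgr Lrot0 (Lpr_at (f710752 IH) (Lpn (LP (LK LD1_c18 LD2_c15 LD3_c14))))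
theorem f714474 : Led Lsl_ff (LP (LK LD1_c18 LD2_c15 LD3_c14)) = (LP (LK LD1_c16 LD2_c59 LD3_c51)) :=
  Lgr Lrot30 (Lpe (f710761 IH) (Lpr_ft (f645414 IH) (Lpr_at (f714468 IH) (Lpn (LP (LK LD1_c16 LD2_c59 LD3_c51))))))
theorem f714639 : Led Lsl_ft (LP (LK LD1_c18 LD2_c15 LD3_c14)) = (LP (LK LD1_c16 LD2_c59 LD3_c51)) :=
  Lgr Lrot48 (Lpr_ff (f714474 IH) (Lpn (LP (LK LD1_c16 LD2_c59 LD3_c51))))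
theorem f248850 : Led Lsl_bt (LP (LK LD1_c5 LD2_c10 LD3_c40)) = (LP (LK LD1_c2 LD2_c32 LD3_c22)) :=
  Lre_b IH (LK LD1_c5 LD2_c10 LD3_c40) (LK LD1_c2 LD2_c32 LD3_c22) Lrfl Lrfl
theorem f255017 : Led Lsl_gf (LP (LK LD1_c5 LD2_c2 LD3_c32)) = (LP (LK LD1_c2 LD2_c32 LD3_c22)) :=
  Lgr Lrot143 (Lpr_dt (K14.f165655 IH) (Lpr_cf (K14.f250049 IH) (Lpe (K14.f185010 IH) (Lpr_gf (K14.f255013 IH) (Lpe (K14.f247621 IH) (Lpe (K9.f32806 IH) (Lpe (K44.f31689 IH) (Lpr_gt (K10.f171618 IH) (Lpr_dt (K14.f171621 IH) (Lpn (LP (LK LD1_c2 LD2_c32 LD3_c22))))))))))))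
theorem f250031 : Led Lsl_ct (LP (LK LD1_c5 LD2_c2 LD3_c32)) = (LP (LK LD1_c2 LD2_c30 LD3_c44)) :=
  Lgr Lrot8 (Lpr_gt (K14.f250021 IH) (Lpr_dt (K14.f165257 IH) (Lpe (K10.f180631 IH) (Lpr_dt (K2.f32286 IH) (Lpe (K9.f35003 IH) (Lpe (K10.f35011 IH) (Lpe (K9.f166370 IH) (Lpe (K14.f166379 IH) (Lpe (K14.f166403 IH) (Lpn (LP (LK LD1_c2 LD2_c30 LD3_c44))))))))))))
theorem f169797 : Led Lsl_bt (LP (LK LD1_c2 LD2_c29 LD3_c33)) = (LP (LK LD1_c5 LD2_c4 LD3_c16)) :=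
  Lre_b IH (LK LD1_c2 LD2_c29 LD3_c33) (LK LD1_c5 LD2_c4 LD3_c16) Lrfl Lrfl
theorem f169802 : Led Lsl_gt (LP (LK LD1_c5 LD2_c4 LD3_c16)) = (LP (LK LD1_c9 LD2_c59 LD3_c27)) :=
  Lre_g IH (LK LD1_c5 LD2_c4 LD3_c16) (LK LD1_c9 LD2_c59 LD3_c27) Lrfl Lrfl
theorem f169824 : Led Lsl_bt (LP (LK LD1_c18 LD2_c15 LD3_c60)) = (LP (LK LD1_c9 LD2_c59 LD3_c27)) :=
  Lre_b IH (LK LD1_c18 LD2_c15 LD3_c60) (LK LD1_c9 LD2_c59 LD3_c27) Lrfl Lrfl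
theorem f699292 : Led Lsl_ct (LP (LK LD1_c18 LD2_c15 LD3_c60)) = (LP (LK LD1_c16 LD2_c59 LD3_c51)) :=
  Lgr Lrot64 (Lpr_bt (f169824 IH) (Lpe (f169802 IH) (Lpe (f169797 IH) (Lpr_ct (K10.f169768 IH) (Lpe (K14.f166403 IH) (Lpe (f250031 IH) (Lpr_gf (f255017 IH) (Lpe (f248850 IH) (Lpr_ct (f699285 IH) (Lpe (f562725 IH) (Lpn (LP (LK LD1_c16 LD2_c59 LD3_c51)))))))))))))
theorem f699294 : Led Lsl_cf (LP (LK LD1_c18 LD2_c15 LD3_c60)) = (LP (LK LD1_c16 LD2_c59 LD3_c51)) :=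
  Lgr Lrot11 (Lpr_ct (f699292 IH) (Lpn (LP (LK LD1_c16 LD2_c59 LD3_c51))))
theorem f721226 : Led Lsl_ff (LP (LK LD1_c18 LD2_c22 LD3_c16)) = (LP (LK LD1_c18 LD2_c15 LD3_c60)) :=
  Lgr Lrot23 (Lpr_ct (f721218 IH) (Lpr_ft (f714639 IH) (Lpe (f699294 IH) (Lpn (LP (LK LD1_c18 LD2_c15 LD3_c60))))))
theorem f721234 : Led Lsl_ft (LP (LK LD1_c18 LD2_c22 LD3_c16)) = (LP (LK LD1_c18 LD2_c15 LD3_c60)) :=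
  Lgr Lrot48 (Lpr_ff (f721226 IH) (Lpn (LP (LK LD1_c18 LD2_c15 LD3_c60))))
theorem f180626 : Led Lsl_dt (LP (LK LD1_c10 LD2_c3 LD3_c35)) = (LP (LK LD1_c18 LD2_c22 LD3_c16)) :=
  Lre_d IH (LK LD1_c10 LD2_c3 LD3_c35) (LK LD1_c18 LD2_c22 LD3_c16) Lrfl Lrfl
theorem f584472 : Led Lsl_bf (LP (LK LD1_c10 LD2_c14 LD3_c54)) = (LP (LK LD1_c10 LD2_c3 LD3_c14)) :=
  Lgr Lrot90 (Lpr_ct (K44.f186804 IH) (Lpr_bt (K44.f185407 IH) (Lpr_ct (K44.f185402 IH) (Lpr_bt (K44.f584468 IH) (Lpe (K14.f248239 IH) (Lpn (LP (LK LD1_c10 LD2_c3 LD3_c14))))))))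
theorem f300645 : Led Lsl_bt (LP (LK LD1_c10 LD2_c15 LD3_c11)) = (LP (LK LD1_c18 LD2_c39 LD3_c14)) :=
  Lre_b IH (LK LD1_c10 LD2_c15 LD3_c11) (LK LD1_c18 LD2_c39 LD3_c14) Lrfl Lrfl
theorem f212380 : Led Lsl_bt (LP (LK LD1_c5 LD2_c19 LD3_c29)) = (LP (LK LD1_c10 LD2_c28 LD3_c47)) :=
  Lre_b IH (LK LD1_c5 LD2_c19 LD3_c29) (LK LD1_c10 LD2_c28 LD3_c47) Lrfl Lrfl
theorem f585431 : Led Lsl_gt (LP (LK LD1_c18 LD2_c39 LD3_c14)) = (LP (LK LD1_c10 LD2_c28 LD3_c47)) :=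
  Lgr Lrot164 (Lpe (f300645 IH) (Lpr_ct (K44.f300641 IH) (Lpe (K44.f185583 IH) (Lpe (K45.f186791 IH) (Lpe (K44.f186794 IH) (Lpr_bf (f584472 IH) (Lpr_ct (K15.f248237 IH) (Lpr_gf (K14.f255903 IH) (Lpr_cf (K15.f212350 IH) (Lpr_bt (f212380 IH) (Lpn (LP (LK LD1_c10 LD2_c28 LD3_c47)))))))))))))
theorem f259030 : Led Lsl_dt (LP (LK LD1_c10 LD2_c28 LD3_c47)) = (LP (LK LD1_c5 LD2_c19 LD3_c28)) :=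
  Lre_d IH (LK LD1_c10 LD2_c28 LD3_c47) (LK LD1_c5 LD2_c19 LD3_c28) Lrfl Lrfl
theorem f563646 : Led Lsl_gf (LP (LK LD1_c2 LD2_c53 LD3_c35)) = (LP (LK LD1_c4 LD2_c4 LD3_c55)) :=
  Lgr Lrot143 (Lpr_dt (K35.f166375 IH) (Lpe (K35.f166165 IH) (Lpe (K38.f186708 IH) (Lpe (K38.f186787 IH) (Lpe (K35.f538430 IH) (Lpr_gf (K42.f563642 IH) (Lpe (K39.f553795 IH) (Lpr_gt (K39.f73479 IH) (Lpr_dt (K38.f73364 IH) (Lpn (LP (LK LD1_c4 LD2_c4 LD3_c55))))))))))))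
theorem f585440 : Led Lsl_df (LP (LK LD1_c5 LD2_c12 LD3_c16)) = (LP (LK LD1_c9 LD2_c59 LD3_c27)) :=
  Lgr Lrot183 (Lpr_ct (K45.f300639 IH) (Lpr_bt (f300645 IH) (Lpr_gt (f585431 IH) (Lpr_dt (f259030 IH) (Lpr_ct (K18.f259019 IH) (Lpr_bt (K37.f192962 IH) (Lpe (K10.f192953 IH) (Lpe (K1.f46669 IH) (Lpr_ct (K1.f46691 IH) (Lpr_bt (K10.f46836 IH) (Lpe (f563646 IH) (Lpr_dt (K35.f166375 IH) (Lpr_ct (K35.f166374 IH) (Lpr_bt (K37.f71501 IH) (Lpe (K9.f166367 IH) (Lpr_dt (K10.f166372 IH) (Lpe (K15.f169770 IH) (Lpr_bt (f169797 IH) (Lpr_gt (f169802 IH) (Lpn (LP (LK LD1_c9 LD2_c59 LD3_c27))))))))))))))))))))))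
theorem f585444 : Led Lsl_dt (LP (LK LD1_c5 LD2_c12 LD3_c16)) = (LP (LK LD1_c9 LD2_c59 LD3_c27)) :=
  Lgr Lrot42 (Lpr_df (f585440 IH) (Lpn (LP (LK LD1_c9 LD2_c59 LD3_c27))))
theorem f300643 : Led Lsl_bt (LP (LK LD1_c10 LD2_c15 LD3_c10)) = (LP (LK LD1_c5 LD2_c12 LD3_c16)) :=
  Lre_b IH (LK LD1_c10 LD2_c15 LD3_c10) (LK LD1_c5 LD2_c12 LD3_c16) Lrfl Lrfl
theorem f585447 : Led Lsl_bt (LP (LK LD1_c9 LD2_c59 LD3_c27)) = (LP (LK LD1_c18 LD2_c15 LD3_c60)) :=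
  Lre_b IH (LK LD1_c9 LD2_c59 LD3_c27) (LK LD1_c18 LD2_c15 LD3_c60) Lrfl Lrfl
theorem f585448 : Led Lsl_df (LP (LK LD1_c10 LD2_c15 LD3_c10)) = (LP (LK LD1_c18 LD2_c15 LD3_c60)) :=
  Lgr Lrot12 (Lpr_bt (f300643 IH) (Lpr_dt (f585444 IH) (Lpr_bt (f585447 IH) (Lpn (LP (LK LD1_c18 LD2_c15 LD3_c60))))))
theorem f721240 : Led Lsl_ff (LP (LK LD1_c10 LD2_c3 LD3_c35)) = (LP (LK LD1_c10 LD2_c15 LD3_c10)) :=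
  Lgr Lrot19 (Lpr_dt (f180626 IH) (Lpr_ft (f721234 IH) (Lpe (f585448 IH) (Lpn (LP (LK LD1_c10 LD2_c15 LD3_c10))))))
theorem f299721 : Led Lsl_ct (LP (LK LD1_c5 LD2_c9 LD3_c56)) = (LP (LK LD1_c10 LD2_c10 LD3_c3)) :=
  Lre_c IH (LK LD1_c5 LD2_c9 LD3_c56) (LK LD1_c10 LD2_c10 LD3_c3) Lrfl Lrfl
theorem f299854 : Led Lsl_ff (LP (LK LD1_c9 LD2_c56 LD3_c45)) = (LP (LK LD1_c10 LD2_c10 LD3_c3)) :=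
  Lgr Lrot23 (Lpr_ct (K18.f299734 IH) (Lpr_ft (K18.f299851 IH) (Lpr_ct (f299721 IH) (Lpn (LP (LK LD1_c10 LD2_c10 LD3_c3))))))
theorem f406749 : Led Lsl_at (LP (LK LD1_c9 LD2_c56 LD3_c45)) = (LP (LK LD1_c5 LD2_c2 LD3_c57)) :=
  Lre_a IH (LK LD1_c9 LD2_c56 LD3_c45) (LK LD1_c5 LD2_c2 LD3_c57) Lrfl Lrfl
theorem f169974 : Led Lsl_gt (LP (LK LD1_c9 LD2_c56 LD3_c44)) = (LP (LK LD1_c5 LD2_c2 LD3_c57)) :=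
  Lre_g IH (LK LD1_c9 LD2_c56 LD3_c44) (LK LD1_c5 LD2_c2 LD3_c57) Lrfl Lrfl
theorem f406751 : Led Lsl_gf (LP (LK LD1_c9 LD2_c56 LD3_c44)) = (LP (LK LD1_c10 LD2_c10 LD3_c3)) :=
  Lgr Lrot47 (Lpr_gt (f169974 IH) (Lpe (f406749 IH) (Lpr_ff (f299854 IH) (Lpn (LP (LK LD1_c10 LD2_c10 LD3_c3))))))
theorem f249282 : Led Lsl_ct (LP (LK LD1_c8 LD2_c52 LD3_c29)) = (LP (LK LD1_c5 LD2_c19 LD3_c48)) :=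
  Lgr Lrot59 (Lpr_cf (K18.f249276 IH) (Lpn (LP (LK LD1_c5 LD2_c19 LD3_c48))))
theorem f249295 : Led Lsl_cf (LP (LK LD1_c16 LD2_c35 LD3_c32)) = (LP (LK LD1_c10 LD2_c29 LD3_c27)) :=
  Lgr Lrot1 (Lpr_at (K18.f249287 IH) (Lpr_ct (f249282 IH) (Lpr_at (K18.f249294 IH) (Lpn (LP (LK LD1_c10 LD2_c29 LD3_c27))))))
theorem f300578 : Led Lsl_bt (LP (LK LD1_c5 LD2_c13 LD3_c18)) = (LP (LK LD1_c5 LD2_c6 LD3_c19)) :=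
  Lgr Lrot128 (Lpe (K18.f300576 IH) (Lpr_bf (K18.f299509 IH) (Lpr_cf (f249295 IH) (Lpr_bf (K18.f300571 IH) (Lpe (K18.f300577 IH) (Lpn (LP (LK LD1_c5 LD2_c6 LD3_c19))))))))
theorem f408327 : Led Lsl_cf (LP (LK LD1_c9 LD2_c56 LD3_c44)) = (LP (LK LD1_c10 LD2_c15 LD3_c10)) :=
  Lgr Lrot163 (Lpr_gf (f406751 IH) (Lpe (f299721 IH) (Lpr_gf (K44.f408323 IH) (Lpe (K44.f169630 IH) (Lpr_ct (K44.f177318 IH) (Lpe (K44.f302243 IH) (Lpe (K44.f300644 IH) (Lpr_bt (f300578 IH) (Lpe (K44.f300637 IH) (Lpe (f300643 IH) (Lpn (LP (LK LD1_c10 LD2_c15 LD3_c10)))))))))))))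
theorem f408374 : Led Lsl_ct (LP (LK LD1_c9 LD2_c56 LD3_c44)) = (LP (LK LD1_c10 LD2_c15 LD3_c10)) :=
  Lgr Lrot59 (Lpr_cf (f408327 IH) (Lpn (LP (LK LD1_c10 LD2_c15 LD3_c10))))
theorem f721248 : Led Lsl_ft (LP (LK LD1_c10 LD2_c10 LD3_c2)) = (LP (LK LD1_c9 LD2_c56 LD3_c44)) :=
  Lgr Lrot4 (Lpe (K44.f180605 IH) (Lpr_ff (f721240 IH) (Lpe (f408374 IH) (Lpn (LP (LK LD1_c9 LD2_c56 LD3_c44))))))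
theorem f180577 : Led Lsl_gt (LP (LK LD1_c5 LD2_c9 LD3_c40)) = (LP (LK LD1_c10 LD2_c10 LD3_c1)) :=
  Lre_g IH (LK LD1_c5 LD2_c9 LD3_c40) (LK LD1_c10 LD2_c10 LD3_c1) Lrfl Lrfl
theorem f721254 : Led Lsl_af (LP (LK LD1_c10 LD2_c10 LD3_c1)) = (LP (LK LD1_c9 LD2_c56 LD3_c44)) :=
  Lgr Lrot31 (Lpe (f180577 IH) (Lpe (K44.f180604 IH) (Lpr_ft (f721248 IH) (Lpn (LP (LK LD1_c9 LD2_c56 LD3_c44))))))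
theorem f721260 : Led Lsl_et (LP (LK LD1_c10 LD2_c10 LD3_c1)) = (LP (LK LD1_c18 LD2_c31 LD3_c19)) :=
  Lre_e IH (LK LD1_c10 LD2_c10 LD3_c1) (LK LD1_c18 LD2_c31 LD3_c19) Lrfl Lrfl
theorem f406756 : Led Lsl_et (LP (LK LD1_c18 LD2_c12 LD3_c6)) = (LP (LK LD1_c9 LD2_c56 LD3_c44)) :=
  Lre_e IH (LK LD1_c18 LD2_c12 LD3_c6) (LK LD1_c9 LD2_c56 LD3_c44) Lrfl Lrfl
theorem f721261 : Led Lsl_at (LP (LK LD1_c18 LD2_c31 LD3_c19)) = (LP (LK LD1_c18 LD2_c12 LD3_c6)) :=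
  Lgr Lrot80 (Lpe (f721260 IH) (Lpr_af (f721254 IH) (Lpe (f406756 IH) (Lpn (LP (LK LD1_c18 LD2_c12 LD3_c6))))))
theorem f721265 : Led Lsl_ct (LP (LK LD1_c28 LD2_c5 LD3_c37)) = (LP (LK LD1_c18 LD2_c31 LD3_c19)) :=
  Lre_c IH (LK LD1_c28 LD2_c5 LD3_c37) (LK LD1_c18 LD2_c31 LD3_c19) Lrfl Lrfl
theorem f408376 : Led Lsl_et (LP (LK LD1_c9 LD2_c56 LD3_c44)) = (LP (LK LD1_c18 LD2_c12 LD3_c6)) :=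
  Lre_e IH (LK LD1_c9 LD2_c56 LD3_c44) (LK LD1_c18 LD2_c12 LD3_c6) Lrfl Lrfl
theorem f408377 : Led Lsl_et (LP (LK LD1_c18 LD2_c39 LD3_c11)) = (LP (LK LD1_c10 LD2_c15 LD3_c10)) :=
  Lre_e IH (LK LD1_c18 LD2_c39 LD3_c11) (LK LD1_c10 LD2_c15 LD3_c10) Lrfl Lrfl
theorem f408378 : Led Lsl_ct (LP (LK LD1_c18 LD2_c12 LD3_c6)) = (LP (LK LD1_c18 LD2_c39 LD3_c11)) :=
  Lgr Lrot15 (Lpe (f408376 IH) (Lpr_cf (f408327 IH) (Lpe (f408377 IH) (Lpn (LP (LK LD1_c18 LD2_c39 LD3_c11))))))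
theorem f721266 : Led Lsl_af (LP (LK LD1_c28 LD2_c5 LD3_c37)) = (LP (LK LD1_c18 LD2_c39 LD3_c11)) :=
  Lgr Lrot68 (Lpr_ct (f721265 IH) (Lpr_at (f721261 IH) (Lpr_ct (f408378 IH) (Lpn (LP (LK LD1_c18 LD2_c39 LD3_c11))))))
theorem f721271 : Led Lsl_at (LP (LK LD1_c28 LD2_c5 LD3_c37)) = (LP (LK LD1_c18 LD2_c39 LD3_c11)) :=
  Lgr Lrot100 (Lpr_af (f721266 IH) (Lpn (LP (LK LD1_c18 LD2_c39 LD3_c11))))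
theorem f721275 : Led Lsl_et (LP (LK LD1_c18 LD2_c31 LD3_c18)) = (LP (LK LD1_c28 LD2_c5 LD3_c37)) :=
  Lre_e IH (LK LD1_c18 LD2_c31 LD3_c18) (LK LD1_c28 LD2_c5 LD3_c37) Lrfl Lrfl
theorem f721276 : Led Lsl_af (LP (LK LD1_c18 LD2_c31 LD3_c18)) = (LP (LK LD1_c10 LD2_c15 LD3_c10)) :=
  Lgr Lrot50 (Lpr_et (f721275 IH) (Lpr_at (f721271 IH) (Lpr_et (f408377 IH) (Lpn (LP (LK LD1_c10 LD2_c15 LD3_c10))))))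
theorem f180619 : Led Lsl_dt (LP (LK LD1_c18 LD2_c22 LD3_c16)) = (LP (LK LD1_c10 LD2_c3 LD3_c35)) :=
  Lre_d IH (LK LD1_c18 LD2_c22 LD3_c16) (LK LD1_c10 LD2_c3 LD3_c35) Lrfl Lrfl
theorem f408370 : Led Lsl_bt (LP (LK LD1_c5 LD2_c12 LD3_c16)) = (LP (LK LD1_c10 LD2_c15 LD3_c10)) :=
  Lre_b IH (LK LD1_c5 LD2_c12 LD3_c16) (LK LD1_c10 LD2_c15 LD3_c10) Lrfl Lrfl
theorem f585442 : Led Lsl_dt (LP (LK LD1_c10 LD2_c15 LD3_c10)) = (LP (LK LD1_c18 LD2_c15 LD3_c60)) :=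
  Lgr Lrot79 (Lpe (f408370 IH) (Lpr_df (f585440 IH) (Lpe (f169824 IH) (Lpn (LP (LK LD1_c18 LD2_c15 LD3_c60))))))
theorem f721232 : Led Lsl_ft (LP (LK LD1_c10 LD2_c3 LD3_c35)) = (LP (LK LD1_c10 LD2_c15 LD3_c10)) :=
  Lgr Lrot54 (Lpe (f180619 IH) (Lpr_ff (f721226 IH) (Lpe (f585442 IH) (Lpn (LP (LK LD1_c10 LD2_c15 LD3_c10))))))
theorem f721280 : Led Lsl_gf (LP (LK LD1_c18 LD2_c31 LD3_c18)) = (LP (LK LD1_c18 LD2_c10 LD3_c6)) :=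
  Lgr Lrot76 (Lpr_af (f721276 IH) (Lpe (f721232 IH) (Lpr_gt (K44.f407807 IH) (Lpn (LP (LK LD1_c18 LD2_c10 LD3_c6))))))
theorem f180578 : Led Lsl_ct (LP (LK LD1_c18 LD2_c31 LD3_c18)) = (LP (LK LD1_c10 LD2_c10 LD3_c1)) :=
  Lre_c IH (LK LD1_c18 LD2_c31 LD3_c18) (LK LD1_c10 LD2_c10 LD3_c1) Lrfl Lrfl
theorem f265076 : Led Lsl_bt (LP (LK LD1_c5 LD2_c15 LD3_c31)) = (LP (LK LD1_c10 LD2_c20 LD3_c18)) :=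
  Lre_b IH (LK LD1_c5 LD2_c15 LD3_c31) (LK LD1_c10 LD2_c20 LD3_c18) Lrfl Lrfl
theorem f364096 : Led Lsl_ff (LP (LK LD1_c16 LD2_c34 LD3_c40)) = (LP (LK LD1_c10 LD2_c20 LD3_c18)) :=
  Lgr Lrot25 (Lpr_bt (K14.f191797 IH) (Lpr_ft (K26.f364094 IH) (Lpr_bt (f265076 IH) (Lpn (LP (LK LD1_c10 LD2_c20 LD3_c18))))))
theorem f191801 : Led Lsl_at (LP (LK LD1_c16 LD2_c34 LD3_c40)) = (LP (LK LD1_c26 LD2_c32 LD3_c7)) :=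
  Lre_a IH (LK LD1_c16 LD2_c34 LD3_c40) (LK LD1_c26 LD2_c32 LD3_c7) Lrfl Lrfl
theorem f265077 : Led Lsl_gt (LP (LK LD1_c10 LD2_c20 LD3_c18)) = (LP (LK LD1_c18 LD2_c45 LD3_c54)) :=
  Lre_g IH (LK LD1_c10 LD2_c20 LD3_c18) (LK LD1_c18 LD2_c45 LD3_c54) Lrfl Lrfl
theorem f378049 : Led Lsl_gf (LP (LK LD1_c26 LD2_c32 LD3_c7)) = (LP (LK LD1_c18 LD2_c45 LD3_c54)) :=
  Lgr Lrot76 (Lpe (f191801 IH) (Lpr_ff (f364096 IH) (Lpr_gt (f265077 IH) (Lpn (LP (LK LD1_c18 LD2_c45 LD3_c54))))))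
theorem f232051 : Led Lsl_ct (LP (LK LD1_c15 LD2_c39 LD3_c11)) = (LP (LK LD1_c25 LD2_c33 LD3_c61)) :=
  Lre_c IH (LK LD1_c15 LD2_c39 LD3_c11) (LK LD1_c25 LD2_c33 LD3_c61) Lrfl Lrfl
theorem f232046 : Led Lsl_bt (LP (LK LD1_c15 LD2_c39 LD3_c11)) = (LP (LK LD1_c8 LD2_c19 LD3_c18)) :=
  Lre_b IH (LK LD1_c15 LD2_c39 LD3_c11) (LK LD1_c8 LD2_c19 LD3_c18) Lrfl Lrfl
theorem f232047 : Led Lsl_et (LP (LK LD1_c10 LD2_c19 LD3_c30)) = (LP (LK LD1_c15 LD2_c39 LD3_c11)) :=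
  Lgr Lrot74 (Lpe (K14.f32431 IH) (Lpr_ef (K27.f232041 IH) (Lpe (f232046 IH) (Lpn (LP (LK LD1_c15 LD2_c39 LD3_c11))))))
theorem f232068 : Led Lsl_ct (LP (LK LD1_c16 LD2_c34 LD3_c40)) = (LP (LK LD1_c10 LD2_c19 LD3_c30)) :=
  Lgr Lrot15 (Lpr_ef (K14.f232063 IH) (Lpe (f232051 IH) (Lpe (f232047 IH) (Lpn (LP (LK LD1_c10 LD2_c19 LD3_c30))))))
theorem f191808 : Led Lsl_at (LP (LK LD1_c26 LD2_c32 LD3_c7)) = (LP (LK LD1_c16 LD2_c34 LD3_c40)) :=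
  Lre_a IH (LK LD1_c26 LD2_c32 LD3_c7) (LK LD1_c16 LD2_c34 LD3_c40) Lrfl Lrfl
theorem f232056 : Led Lsl_at (LP (LK LD1_c10 LD2_c19 LD3_c30)) = (LP (LK LD1_c18 LD2_c44 LD3_c41)) :=
  Lre_a IH (LK LD1_c10 LD2_c19 LD3_c30) (LK LD1_c18 LD2_c44 LD3_c41) Lrfl Lrfl
theorem f232070 : Led Lsl_cf (LP (LK LD1_c26 LD2_c32 LD3_c7)) = (LP (LK LD1_c18 LD2_c44 LD3_c41)) :=
  Lgr Lrot1 (Lpr_at (f191808 IH) (Lpr_ct (f232068 IH) (Lpr_at (f232056 IH) (Lpn (LP (LK LD1_c18 LD2_c44 LD3_c41))))))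
theorem f232072 : Led Lsl_ct (LP (LK LD1_c26 LD2_c32 LD3_c7)) = (LP (LK LD1_c18 LD2_c44 LD3_c41)) :=
  Lgr Lrot59 (Lpr_cf (f232070 IH) (Lpn (LP (LK LD1_c18 LD2_c44 LD3_c41))))
theorem f257100 : Led Lsl_bt (LP (LK LD1_c18 LD2_c44 LD3_c42)) = (LP (LK LD1_c10 LD2_c19 LD3_c31)) :=
  Lre_b IH (LK LD1_c18 LD2_c44 LD3_c42) (LK LD1_c10 LD2_c19 LD3_c31) Lrfl Lrfl
theorem f259397 : Led Lsl_bt (LP (LK LD1_c5 LD2_c15 LD3_c38)) = (LP (LK LD1_c10 LD2_c20 LD3_c33)) :=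
  Lre_b IH (LK LD1_c5 LD2_c15 LD3_c38) (LK LD1_c10 LD2_c20 LD3_c33) Lrfl Lrfl
theorem f369667 : Led Lsl_ff (LP (LK LD1_c18 LD2_c44 LD3_c42)) = (LP (LK LD1_c10 LD2_c20 LD3_c33)) :=
  Lgr Lrot25 (Lpr_bt (f257100 IH) (Lpr_ft (K27.f369665 IH) (Lpr_bt (f259397 IH) (Lpn (LP (LK LD1_c10 LD2_c20 LD3_c33))))))
theorem f232052 : Led Lsl_dt (LP (LK LD1_c18 LD2_c44 LD3_c42)) = (LP (LK LD1_c10 LD2_c19 LD3_c30)) :=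
  Lre_d IH (LK LD1_c18 LD2_c44 LD3_c42) (LK LD1_c10 LD2_c19 LD3_c30) Lrfl Lrfl
theorem f259479 : Led Lsl_dt (LP (LK LD1_c5 LD2_c15 LD3_c37)) = (LP (LK LD1_c10 LD2_c20 LD3_c33)) :=
  Lre_d IH (LK LD1_c5 LD2_c15 LD3_c37) (LK LD1_c10 LD2_c20 LD3_c33) Lrfl Lrfl
theorem f376405 : Led Lsl_ft (LP (LK LD1_c10 LD2_c19 LD3_c30)) = (LP (LK LD1_c5 LD2_c15 LD3_c37)) :=
  Lgr Lrot54 (Lpe (f232052 IH) (Lpr_ff (f369667 IH) (Lpe (f259479 IH) (Lpn (LP (LK LD1_c5 LD2_c15 LD3_c37))))))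
theorem f232050 : Led Lsl_at (LP (LK LD1_c18 LD2_c44 LD3_c41)) = (LP (LK LD1_c10 LD2_c19 LD3_c30)) :=
  Lre_a IH (LK LD1_c18 LD2_c44 LD3_c41) (LK LD1_c10 LD2_c19 LD3_c30) Lrfl Lrfl
theorem f376408 : Led Lsl_at (LP (LK LD1_c5 LD2_c15 LD3_c37)) = (LP (LK LD1_c10 LD2_c20 LD3_c32)) :=
  Lre_a IH (LK LD1_c5 LD2_c15 LD3_c37) (LK LD1_c10 LD2_c20 LD3_c32) Lrfl Lrfl
theorem f376409 : Led Lsl_ff (LP (LK LD1_c18 LD2_c44 LD3_c41)) = (LP (LK LD1_c10 LD2_c20 LD3_c32)) :=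
  Lgr Lrot30 (Lpr_at (f232050 IH) (Lpr_ft (f376405 IH) (Lpr_at (f376408 IH) (Lpn (LP (LK LD1_c10 LD2_c20 LD3_c32))))))
theorem f376424 : Led Lsl_ft (LP (LK LD1_c18 LD2_c44 LD3_c41)) = (LP (LK LD1_c10 LD2_c20 LD3_c32)) :=
  Lgr Lrot48 (Lpr_ff (f376409 IH) (Lpn (LP (LK LD1_c10 LD2_c20 LD3_c32))))
theorem f369648 : Led Lsl_at (LP (LK LD1_c10 LD2_c20 LD3_c32)) = (LP (LK LD1_c5 LD2_c15 LD3_c37)) :=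
  Lre_a IH (LK LD1_c10 LD2_c20 LD3_c32) (LK LD1_c5 LD2_c15 LD3_c37) Lrfl Lrfl
theorem f259736 : Led Lsl_gt (LP (LK LD1_c10 LD2_c20 LD3_c31)) = (LP (LK LD1_c5 LD2_c15 LD3_c37)) :=
  Lre_g IH (LK LD1_c10 LD2_c20 LD3_c31) (LK LD1_c5 LD2_c15 LD3_c37) Lrfl Lrfl
theorem f376433 : Led Lsl_gt (LP (LK LD1_c18 LD2_c44 LD3_c41)) = (LP (LK LD1_c10 LD2_c20 LD3_c31)) :=
  Lgr Lrot5 (Lpr_ft (f376424 IH) (Lpr_at (f369648 IH) (Lpe (f259736 IH) (Lpn (LP (LK LD1_c10 LD2_c20 LD3_c31))))))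
theorem f259735 : Led Lsl_bt (LP (LK LD1_c10 LD2_c20 LD3_c18)) = (LP (LK LD1_c5 LD2_c15 LD3_c31)) :=
  Lre_b IH (LK LD1_c10 LD2_c20 LD3_c18) (LK LD1_c5 LD2_c15 LD3_c31) Lrfl Lrfl
theorem f259463 : Led Lsl_ct (LP (LK LD1_c10 LD2_c20 LD3_c18)) = (LP (LK LD1_c5 LD2_c15 LD3_c37)) :=
  Lre_c IH (LK LD1_c10 LD2_c20 LD3_c18) (LK LD1_c5 LD2_c15 LD3_c37) Lrfl Lrfl
theorem f192569 : Led Lsl_bt (LP (LK LD1_c2 LD2_c31 LD3_c56)) = (LP (LK LD1_c5 LD2_c9 LD3_c40)) :=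
  Lre_b IH (LK LD1_c2 LD2_c31 LD3_c56) (LK LD1_c5 LD2_c9 LD3_c40) Lrfl Lrfl
theorem f259737 : Led Lsl_bt (LP (LK LD1_c18 LD2_c31 LD3_c17)) = (LP (LK LD1_c10 LD2_c10 LD3_c1)) :=
  Lre_b IH (LK LD1_c18 LD2_c31 LD3_c17) (LK LD1_c10 LD2_c10 LD3_c1) Lrfl Lrfl
theorem f259738 : Led Lsl_cf (LP (LK LD1_c10 LD2_c20 LD3_c31)) = (LP (LK LD1_c18 LD2_c31 LD3_c17)) :=
  Lgr Lrot160 (Lpr_gt (f259736 IH) (Lpe (f259463 IH) (Lpr_bt (f259735 IH) (Lpr_gt (K15.f259707 IH) (Lpr_ct (K15.f215582 IH) (Lpr_gt (K14.f180607 IH) (Lpe (K14.f22107 IH) (Lpr_bt (f192569 IH) (Lpr_gt (f180577 IH) (Lpe (f259737 IH) (Lpn (LP (LK LD1_c18 LD2_c31 LD3_c17)))))))))))))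
theorem f283896 : Led Lsl_bt (LP (LK LD1_c10 LD2_c9 LD3_c40)) = (LP (LK LD1_c5 LD2_c9 LD3_c29)) :=
  Lre_b IH (LK LD1_c10 LD2_c9 LD3_c40) (LK LD1_c5 LD2_c9 LD3_c29) Lrfl Lrfl
theorem f283897 : Led Lsl_ct (LP (LK LD1_c27 LD2_c32 LD3_c6)) = (LP (LK LD1_c17 LD2_c45 LD3_c52)) :=
  Lre_c IH (LK LD1_c27 LD2_c32 LD3_c6) (LK LD1_c17 LD2_c45 LD3_c52) Lrfl Lrfl
theorem f283898 : Led Lsl_bt (LP (LK LD1_c27 LD2_c32 LD3_c6)) = (LP (LK LD1_c18 LD2_c45 LD3_c54)) :=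
  Lgr Lrot92 (Lpr_ct (f283897 IH) (Lpr_gt (K44.f248049 IH) (Lpe (K44.f278602 IH) (Lpr_bt (f283896 IH) (Lpr_gt (K17.f283882 IH) (Lpe (K17.f169847 IH) (Lpe (K17.f265006 IH) (Lpe (K14.f191031 IH) (Lpr_bt (f265076 IH) (Lpr_gt (f265077 IH) (Lpn (LP (LK LD1_c18 LD2_c45 LD3_c54)))))))))))))
theorem f378051 : Led Lsl_gt (LP (LK LD1_c10 LD2_c10 LD3_c1)) = (LP (LK LD1_c9 LD2_c56 LD3_c45)) :=
  Lgr Lrot164 (Lpe (f259737 IH) (Lpe (f259738 IH) (Lpe (f376433 IH) (Lpe (f232072 IH) (Lpr_gf (f378049 IH) (Lpe (f283898 IH) (Lpr_ct (f283897 IH) (Lpr_gf (K44.f300231 IH) (Lpe (K44.f299810 IH) (Lpr_bt (K18.f299802 IH) (Lpn (LP (LK LD1_c9 LD2_c56 LD3_c45)))))))))))))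
theorem f299918 : Led Lsl_gf (LP (LK LD1_c18 LD2_c12 LD3_c49)) = (LP (LK LD1_c18 LD2_c32 LD3_c35)) :=
  Lgr Lrot76 (Lpe (K32.f177287 IH) (Lpr_ff (K32.f299912 IH) (Lpr_gt (f180642 IH) (Lpn (LP (LK LD1_c18 LD2_c32 LD3_c35))))))
theorem f586072 : Led Lsl_cf (LP (LK LD1_c10 LD2_c30 LD3_c14)) = (LP (LK LD1_c10 LD2_c27 LD3_c12)) :=
  Lgr Lrot108 (Lpr_ft (K44.f586070 IH) (Lpe (K44.f405340 IH) (Lpe (K44.f585842 IH) (Lpn (LP (LK LD1_c10 LD2_c27 LD3_c12))))))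
theorem f171634 : Led Lsl_bt (LP (LK LD1_c5 LD2_c4 LD3_c12)) = (LP (LK LD1_c9 LD2_c59 LD3_c15)) :=
  Lre_b IH (LK LD1_c5 LD2_c4 LD3_c12) (LK LD1_c9 LD2_c59 LD3_c15) Lrfl Lrfl
theorem f240076 : Led Lsl_ct (LP (LK LD1_c18 LD2_c29 LD3_c20)) = (LP (LK LD1_c18 LD2_c28 LD3_c36)) :=
  Lre_c IH (LK LD1_c18 LD2_c29 LD3_c20) (LK LD1_c18 LD2_c28 LD3_c36) Lrfl Lrfl
theorem f586289 : Led Lsl_gt (LP (LK LD1_c10 LD2_c13 LD3_c28)) = (LP (LK LD1_c18 LD2_c28 LD3_c36)) :=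
  Lgr Lrot65 (Lpe (f405603 IH) (Lpr_bt (f405403 IH) (Lpe (f412529 IH) (Lpe (f171634 IH) (Lpr_ct (K44.f166084 IH) (Lpr_gf (K44.f412521 IH) (Lpr_cf (f586072 IH) (Lpr_gf (K45.f586277 IH) (Lpe (K44.f583782 IH) (Lpr_ct (f240076 IH) (Lpn (LP (LK LD1_c18 LD2_c28 LD3_c36)))))))))))))
theorem f233527 : Led Lsl_gt (LP (LK LD1_c25 LD2_c3 LD3_c51)) = (LP (LK LD1_c15 LD2_c14 LD3_c46)) :=
  Lre_g IH (LK LD1_c25 LD2_c3 LD3_c51) (LK LD1_c15 LD2_c14 LD3_c46) Lrfl Lrfl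
theorem f321818 : Led Lsl_ct (LP (LK LD1_c18 LD2_c28 LD3_c36)) = (LP (LK LD1_c18 LD2_c29 LD3_c20)) :=
  Lre_c IH (LK LD1_c18 LD2_c28 LD3_c36) (LK LD1_c18 LD2_c29 LD3_c20) Lrfl Lrfl
theorem f34352 : Led Lsl_ct (LP (LK LD1_c5 LD2_c9 LD3_c16)) = (LP (LK LD1_c10 LD2_c9 LD3_c10)) :=
  Lre_c IH (LK LD1_c5 LD2_c9 LD3_c16) (LK LD1_c10 LD2_c9 LD3_c10) Lrfl Lrfl
theorem f351200 : Led Lsl_bt (LP (LK LD1_c5 LD2_c9 LD3_c16)) = (LP (LK LD1_c10 LD2_c9 LD3_c9)) :=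
  Lre_b IH (LK LD1_c5 LD2_c9 LD3_c16) (LK LD1_c10 LD2_c9 LD3_c9) Lrfl Lrfl
theorem f197130 : Led Lsl_gt (LP (LK LD1_c10 LD2_c9 LD3_c9)) = (LP (LK LD1_c18 LD2_c29 LD3_c31)) :=
  Lre_g IH (LK LD1_c10 LD2_c9 LD3_c9) (LK LD1_c18 LD2_c29 LD3_c31) Lrfl Lrfl
theorem f240075 : Led Lsl_bt (LP (LK LD1_c18 LD2_c28 LD3_c36)) = (LP (LK LD1_c10 LD2_c8 LD3_c40)) :=
  Lre_b IH (LK LD1_c18 LD2_c28 LD3_c36) (LK LD1_c10 LD2_c8 LD3_c40) Lrfl Lrfl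
theorem f351201 : Led Lsl_cf (LP (LK LD1_c10 LD2_c21 LD3_c31)) = (LP (LK LD1_c18 LD2_c29 LD3_c31)) :=
  Lgr Lrot125 (Lpr_gt (K37.f350929 IH) (Lpe (K18.f294828 IH) (Lpe (K37.f351196 IH) (Lpr_gt (K44.f351198 IH) (Lpe (f240075 IH) (Lpr_ct (f321818 IH) (Lpr_gt (K44.f177240 IH) (Lpe (f34352 IH) (Lpr_bt (f351200 IH) (Lpr_gt (f197130 IH) (Lpn (LP (LK LD1_c18 LD2_c29 LD3_c31)))))))))))))
theorem f180858 : Led Lsl_bt (LP (LK LD1_c25 LD2_c0 LD3_c47)) = (LP (LK LD1_c15 LD2_c11 LD3_c42)) :=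
  Lre_b IH (LK LD1_c25 LD2_c0 LD3_c47) (LK LD1_c15 LD2_c11 LD3_c42) Lrfl Lrfl
theorem f180859 : Led Lsl_ct (LP (LK LD1_c25 LD2_c0 LD3_c47)) = (LP (LK LD1_c25 LD2_c1 LD3_c1)) :=
  Lre_c IH (LK LD1_c25 LD2_c0 LD3_c47) (LK LD1_c25 LD2_c1 LD3_c1) Lrfl Lrfl
theorem f34194 : Led Lsl_gt (LP (LK LD1_c15 LD2_c12 LD3_c7)) = (LP (LK LD1_c25 LD2_c1 LD3_c1)) :=
  Lre_g IH (LK LD1_c15 LD2_c12 LD3_c7) (LK LD1_c25 LD2_c1 LD3_c1) Lrfl Lrfl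
theorem f34193 : Led Lsl_ct (LP (LK LD1_c8 LD2_c4 LD3_c27)) = (LP (LK LD1_c15 LD2_c12 LD3_c7)) :=
  Lre_c IH (LK LD1_c8 LD2_c4 LD3_c27) (LK LD1_c15 LD2_c12 LD3_c7) Lrfl Lrfl
theorem f180860 : Led Lsl_bt (LP (LK LD1_c8 LD2_c4 LD3_c27)) = (LP (LK LD1_c15 LD2_c12 LD3_c6)) :=
  Lre_b IH (LK LD1_c8 LD2_c4 LD3_c27) (LK LD1_c15 LD2_c12 LD3_c6) Lrfl Lrfl
theorem f180861 : Led Lsl_gt (LP (LK LD1_c25 LD2_c0 LD3_c61)) = (LP (LK LD1_c15 LD2_c12 LD3_c6)) :=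
  Lre_g IH (LK LD1_c25 LD2_c0 LD3_c61) (LK LD1_c15 LD2_c12 LD3_c6) Lrfl Lrfl
theorem f351208 : Led Lsl_bf (LP (LK LD1_c25 LD2_c0 LD3_c61)) = (LP (LK LD1_c18 LD2_c29 LD3_c31)) :=
  Lgr Lrot156 (Lpr_gt (f180861 IH) (Lpe (f180860 IH) (Lpr_ct (f34193 IH) (Lpr_gt (f34194 IH) (Lpe (f180859 IH) (Lpr_bt (f180858 IH) (Lpr_gt (K37.f180857 IH) (Lpe (K37.f180840 IH) (Lpr_gt (K37.f180779 IH) (Lpr_cf (f351201 IH) (Lpn (LP (LK LD1_c18 LD2_c29 LD3_c31)))))))))))))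
theorem f351210 : Led Lsl_bt (LP (LK LD1_c25 LD2_c0 LD3_c61)) = (LP (LK LD1_c18 LD2_c29 LD3_c31)) :=
  Lgr Lrot127 (Lpr_bf (f351208 IH) (Lpn (LP (LK LD1_c18 LD2_c29 LD3_c31))))
theorem f603696 : Led Lsl_cf (LP (LK LD1_c25 LD2_c3 LD3_c51)) = (LP (LK LD1_c25 LD2_c0 LD3_c61)) :=
  Lgr Lrot160 (Lpr_gt (f233527 IH) (Lpe (f45960 IH) (Lpe (f405571 IH) (Lpr_gt (f586289 IH) (Lpr_ct (f321818 IH) (Lpr_gt (K44.f177240 IH) (Lpe (f34352 IH) (Lpr_bt (f351200 IH) (Lpr_gt (f197130 IH) (Lpe (f351210 IH) (Lpn (LP (LK LD1_c25 LD2_c0 LD3_c61)))))))))))))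
theorem f405763 : Led Lsl_af (LP (LK LD1_c15 LD2_c14 LD3_c46)) = (LP (LK LD1_c24 LD2_c48 LD3_c21)) :=
  Lgr Lrot45 (Lpe (f405560 IH) (Lpr_at (f405759 IH) (Lpe (f405516 IH) (Lpn (LP (LK LD1_c24 LD2_c48 LD3_c21))))))
theorem f405784 : Led Lsl_gf (LP (LK LD1_c25 LD2_c3 LD3_c51)) = (LP (LK LD1_c15 LD2_c14 LD3_c50)) :=
  Lgr Lrot47 (Lpr_gt (f233527 IH) (Lpr_af (f405763 IH) (Lpr_ff (f405516 IH) (Lpn (LP (LK LD1_c15 LD2_c14 LD3_c50))))))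
theorem f46944 : Led Lsl_bt (LP (LK LD1_c4 LD2_c2 LD3_c31)) = (LP (LK LD1_c8 LD2_c5 LD3_c36)) :=
  Lre_b IH (LK LD1_c4 LD2_c2 LD3_c31) (LK LD1_c8 LD2_c5 LD3_c36) Lrfl Lrfl
theorem f47109 : Led Lsl_ct (LP (LK LD1_c8 LD2_c5 LD3_c36)) = (LP (LK LD1_c8 LD2_c52 LD3_c48)) :=
  Lgr Lrot83 (Lpe (f46944 IH) (Lpe (K1.f46932 IH) (Lpr_bf (K12.f47106 IH) (Lpe (K13.f46166 IH) (Lpe (K44.f46259 IH) (Lpn (LP (LK LD1_c8 LD2_c52 LD3_c48))))))))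
theorem f47111 : Led Lsl_at (LP (LK LD1_c15 LD2_c14 LD3_c12)) = (LP (LK LD1_c8 LD2_c5 LD3_c36)) :=
  Lre_a IH (LK LD1_c15 LD2_c14 LD3_c12) (LK LD1_c8 LD2_c5 LD3_c36) Lrfl Lrfl
theorem f47112 : Led Lsl_at (LP (LK LD1_c8 LD2_c52 LD3_c48)) = (LP (LK LD1_c16 LD2_c35 LD3_c53)) :=
  Lre_a IH (LK LD1_c8 LD2_c52 LD3_c48) (LK LD1_c16 LD2_c35 LD3_c53) Lrfl Lrfl
theorem f47113 : Led Lsl_cf (LP (LK LD1_c15 LD2_c14 LD3_c12)) = (LP (LK LD1_c16 LD2_c35 LD3_c53)) :=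
  Lgr Lrot1 (Lpr_at (f47111 IH) (Lpr_ct (f47109 IH) (Lpr_at (f47112 IH) (Lpn (LP (LK LD1_c16 LD2_c35 LD3_c53))))))
theorem f233523 : Led Lsl_bt (LP (LK LD1_c15 LD2_c14 LD3_c12)) = (LP (LK LD1_c15 LD2_c14 LD3_c44)) :=
  Lgr Lrot128 (Lpr_cf (f47113 IH) (Lpr_bf (K44.f47257 IH) (Lpr_cf (K14.f190714 IH) (Lpr_bf (K14.f192923 IH) (Lpr_cf (K14.f233510 IH) (Lpn (LP (LK LD1_c15 LD2_c14 LD3_c44))))))))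
theorem f47120 : Led Lsl_ft (LP (LK LD1_c4 LD2_c2 LD3_c29)) = (LP (LK LD1_c8 LD2_c5 LD3_c36)) :=
  Lre_f IH (LK LD1_c4 LD2_c2 LD3_c29) (LK LD1_c8 LD2_c5 LD3_c36) Lrfl Lrfl
theorem f44892 : Led Lsl_ft (LP (LK LD1_c8 LD2_c52 LD3_c48)) = (LP (LK LD1_c4 LD2_c27 LD3_c28)) :=
  Lre_f IH (LK LD1_c8 LD2_c52 LD3_c48) (LK LD1_c4 LD2_c27 LD3_c28) Lrfl Lrfl
theorem f47121 : Led Lsl_cf (LP (LK LD1_c4 LD2_c2 LD3_c29)) = (LP (LK LD1_c4 LD2_c27 LD3_c28)) :=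
  Lgr Lrot108 (Lpr_ft (f47120 IH) (Lpr_ct (f47109 IH) (Lpr_ft (f44892 IH) (Lpn (LP (LK LD1_c4 LD2_c27 LD3_c28))))))
theorem f47128 : Led Lsl_ct (LP (LK LD1_c4 LD2_c2 LD3_c29)) = (LP (LK LD1_c4 LD2_c27 LD3_c28)) :=
  Lgr Lrot59 (Lpr_cf (f47121 IH) (Lpn (LP (LK LD1_c4 LD2_c27 LD3_c28))))
theorem f47132 : Led Lsl_at (LP (LK LD1_c8 LD2_c5 LD3_c34)) = (LP (LK LD1_c4 LD2_c2 LD3_c29)) :=
  Lre_a IH (LK LD1_c8 LD2_c5 LD3_c34) (LK LD1_c4 LD2_c2 LD3_c29) Lrfl Lrfl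
theorem f47147 : Led Lsl_cf (LP (LK LD1_c8 LD2_c5 LD3_c34)) = (LP (LK LD1_c8 LD2_c52 LD3_c46)) :=
  Lgr Lrot1 (Lpr_at (f47132 IH) (Lpr_ct (f47128 IH) (Lpr_at (K44.f44861 IH) (Lpn (LP (LK LD1_c8 LD2_c52 LD3_c46))))))
theorem f47161 : Led Lsl_ft (LP (LK LD1_c8 LD2_c5 LD3_c34)) = (LP (LK LD1_c15 LD2_c14 LD3_c12)) :=
  Lre_f IH (LK LD1_c8 LD2_c5 LD3_c34) (LK LD1_c15 LD2_c14 LD3_c12) Lrfl Lrfl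
theorem f47162 : Led Lsl_ct (LP (LK LD1_c15 LD2_c14 LD3_c12)) = (LP (LK LD1_c16 LD2_c35 LD3_c53)) :=
  Lgr Lrot40 (Lpe (f47161 IH) (Lpr_cf (f47147 IH) (Lpe (K44.f44880 IH) (Lpn (LP (LK LD1_c16 LD2_c35 LD3_c53))))))
theorem f47173 : Led Lsl_gt (LP (LK LD1_c8 LD2_c52 LD3_c44)) = (LP (LK LD1_c16 LD2_c35 LD3_c53)) :=
  Lre_g IH (LK LD1_c8 LD2_c52 LD3_c44) (LK LD1_c16 LD2_c35 LD3_c53) Lrfl Lrfl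
theorem f47156 : Led Lsl_ct (LP (LK LD1_c16 LD2_c35 LD3_c55)) = (LP (LK LD1_c8 LD2_c52 LD3_c44)) :=
  Lre_c IH (LK LD1_c16 LD2_c35 LD3_c55) (LK LD1_c8 LD2_c52 LD3_c44) Lrfl Lrfl
theorem f47157 : Led Lsl_bt (LP (LK LD1_c16 LD2_c35 LD3_c55)) = (LP (LK LD1_c26 LD2_c32 LD3_c59)) :=
  Lre_b IH (LK LD1_c16 LD2_c35 LD3_c55) (LK LD1_c26 LD2_c32 LD3_c59) Lrfl Lrfl
theorem f603702 : Led Lsl_gf (LP (LK LD1_c26 LD2_c32 LD3_c59)) = (LP (LK LD1_c18 LD2_c29 LD3_c31)) :=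
  Lgr Lrot124 (Lpe (f47157 IH) (Lpr_ct (f47156 IH) (Lpr_gt (f47173 IH) (Lpe (f47162 IH) (Lpr_bt (f233523 IH) (Lpr_gt (K14.f233515 IH) (Lpr_ct (f233531 IH) (Lpe (f405784 IH) (Lpr_cf (f603696 IH) (Lpr_bt (f351210 IH) (Lpn (LP (LK LD1_c18 LD2_c29 LD3_c31)))))))))))))
theorem f603704 : Led Lsl_ft (LP (LK LD1_c10 LD2_c9 LD3_c9)) = (LP (LK LD1_c18 LD2_c29 LD3_c15)) :=
  Lre_f IH (LK LD1_c10 LD2_c9 LD3_c9) (LK LD1_c18 LD2_c29 LD3_c15) Lrfl Lrfl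
theorem f603705 : Led Lsl_af (LP (LK LD1_c26 LD2_c32 LD3_c59)) = (LP (LK LD1_c18 LD2_c29 LD3_c15)) :=
  Lgr Lrot31 (Lpr_gf (f603702 IH) (Lpe (f197130 IH) (Lpr_ft (f603704 IH) (Lpn (LP (LK LD1_c18 LD2_c29 LD3_c15))))))
theorem f603709 : Led Lsl_bt (LP (LK LD1_c26 LD2_c32 LD3_c59)) = (LP (LK LD1_c16 LD2_c35 LD3_c55)) :=
  Lre_b IH (LK LD1_c26 LD2_c32 LD3_c59) (LK LD1_c16 LD2_c35 LD3_c55) Lrfl Lrfl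
theorem f603710 : Led Lsl_bt (LP (LK LD1_c10 LD2_c9 LD3_c3)) = (LP (LK LD1_c18 LD2_c29 LD3_c15)) :=
  Lre_b IH (LK LD1_c10 LD2_c9 LD3_c3) (LK LD1_c18 LD2_c29 LD3_c15) Lrfl Lrfl
theorem f603711 : Led Lsl_at (LP (LK LD1_c5 LD2_c9 LD3_c15)) = (LP (LK LD1_c10 LD2_c9 LD3_c3)) :=
  Lre_a IH (LK LD1_c5 LD2_c9 LD3_c15) (LK LD1_c10 LD2_c9 LD3_c3) Lrfl Lrfl
theorem f34387 : Led Lsl_bt (LP (LK LD1_c10 LD2_c9 LD3_c4)) = (LP (LK LD1_c5 LD2_c9 LD3_c15)) :=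
  Lre_b IH (LK LD1_c10 LD2_c9 LD3_c4) (LK LD1_c5 LD2_c9 LD3_c15) Lrfl Lrfl
theorem f603712 : Led Lsl_at (LP (LK LD1_c16 LD2_c35 LD3_c55)) = (LP (LK LD1_c10 LD2_c9 LD3_c4)) :=
  Lgr Lrot67 (Lpe (f603709 IH) (Lpr_af (f603705 IH) (Lpe (f603710 IH) (Lpe (f603711 IH) (Lpe (f34387 IH) (Lpn (LP (LK LD1_c10 LD2_c9 LD3_c4))))))))
theorem f47151 : Led Lsl_ct (LP (LK LD1_c8 LD2_c52 LD3_c44)) = (LP (LK LD1_c16 LD2_c35 LD3_c55)) :=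
  Lre_c IH (LK LD1_c8 LD2_c52 LD3_c44) (LK LD1_c16 LD2_c35 LD3_c55) Lrfl Lrfl
theorem f603738 : Led Lsl_at (LP (LK LD1_c16 LD2_c35 LD3_c54)) = (LP (LK LD1_c8 LD2_c52 LD3_c44)) :=
  Lre_a IH (LK LD1_c16 LD2_c35 LD3_c54) (LK LD1_c8 LD2_c52 LD3_c44) Lrfl Lrfl
theorem f603739 : Led Lsl_cf (LP (LK LD1_c16 LD2_c35 LD3_c54)) = (LP (LK LD1_c10 LD2_c9 LD3_c4)) :=
  Lgr Lrot1 (Lpr_at (f603738 IH) (Lpr_ct (f47151 IH) (Lpr_at (f603712 IH) (Lpn (LP (LK LD1_c10 LD2_c9 LD3_c4))))))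
theorem f603757 : Led Lsl_ft (LP (LK LD1_c16 LD2_c35 LD3_c54)) = (LP (LK LD1_c8 LD2_c52 LD3_c45)) :=
  Lre_f IH (LK LD1_c16 LD2_c35 LD3_c54) (LK LD1_c8 LD2_c52 LD3_c45) Lrfl Lrfl
theorem f47170 : Led Lsl_ct (LP (LK LD1_c8 LD2_c52 LD3_c45)) = (LP (LK LD1_c16 LD2_c35 LD3_c59)) :=
  Lre_c IH (LK LD1_c8 LD2_c52 LD3_c45) (LK LD1_c16 LD2_c35 LD3_c59) Lrfl Lrfl
theorem f603758 : Led Lsl_ft (LP (LK LD1_c16 LD2_c35 LD3_c59)) = (LP (LK LD1_c10 LD2_c9 LD3_c4)) :=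
  Lgr Lrot4 (Lpe (f47170 IH) (Lpe (f603757 IH) (Lpr_cf (f603739 IH) (Lpn (LP (LK LD1_c10 LD2_c9 LD3_c4))))))
theorem f603777 : Led Lsl_ff (LP (LK LD1_c16 LD2_c35 LD3_c59)) = (LP (LK LD1_c10 LD2_c9 LD3_c4)) :=
  Lgr Lrot3 (Lpr_ft (f603758 IH) (Lpn (LP (LK LD1_c10 LD2_c9 LD3_c4))))
theorem f247949 : Led Lsl_bt (LP (LK LD1_c5 LD2_c9 LD3_c15)) = (LP (LK LD1_c10 LD2_c9 LD3_c4)) :=
  Lre_b IH (LK LD1_c5 LD2_c9 LD3_c15) (LK LD1_c10 LD2_c9 LD3_c4) Lrfl Lrfl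
theorem f603779 : Led Lsl_ft (LP (LK LD1_c10 LD2_c9 LD3_c8)) = (LP (LK LD1_c5 LD2_c9 LD3_c15)) :=
  Lre_f IH (LK LD1_c10 LD2_c9 LD3_c8) (LK LD1_c5 LD2_c9 LD3_c15) Lrfl Lrfl
theorem f603780 : Led Lsl_bt (LP (LK LD1_c16 LD2_c35 LD3_c59)) = (LP (LK LD1_c10 LD2_c9 LD3_c8)) :=
  Lgr Lrot35 (Lpr_ff (f603777 IH) (Lpe (f247949 IH) (Lpe (f603779 IH) (Lpn (LP (LK LD1_c10 LD2_c9 LD3_c8))))))
theorem f47137 : Led Lsl_ct (LP (LK LD1_c16 LD2_c35 LD3_c59)) = (LP (LK LD1_c8 LD2_c52 LD3_c45)) :=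
  Lre_c IH (LK LD1_c16 LD2_c35 LD3_c59) (LK LD1_c8 LD2_c52 LD3_c45) Lrfl Lrfl
theorem f47168 : Led Lsl_gt (LP (LK LD1_c16 LD2_c35 LD3_c53)) = (LP (LK LD1_c8 LD2_c52 LD3_c45)) :=
  Lre_g IH (LK LD1_c16 LD2_c35 LD3_c53) (LK LD1_c8 LD2_c52 LD3_c45) Lrfl Lrfl
theorem f233518 : Led Lsl_gt (LP (LK LD1_c8 LD2_c5 LD3_c54)) = (LP (LK LD1_c15 LD2_c14 LD3_c44)) :=
  Lre_g IH (LK LD1_c8 LD2_c5 LD3_c54) (LK LD1_c15 LD2_c14 LD3_c44) Lrfl Lrfl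
theorem f405612 : Led Lsl_gf (LP (LK LD1_c5 LD2_c11 LD3_c29)) = (LP (LK LD1_c2 LD2_c32 LD3_c43)) :=
  Lgr Lrot47 (Lpr_gt (f405610 IH) (Lpe (K44.f34595 IH) (Lpe (K8.f21909 IH) (Lpn (LP (LK LD1_c2 LD2_c32 LD3_c43))))))
theorem f603807 : Led Lsl_gf (LP (LK LD1_c5 LD2_c9 LD3_c17)) = (LP (LK LD1_c10 LD2_c9 LD3_c8)) :=
  Lgr Lrot181 (Lpr_ct (K0.f21595 IH) (Lpe (f405612 IH) (Lpe (f405609 IH) (Lpr_bt (f405597 IH) (Lpr_gt (f233518 IH) (Lpe (f233523 IH) (Lpr_ct (f47162 IH) (Lpr_gt (f47168 IH) (Lpe (f47137 IH) (Lpr_bt (f603780 IH) (Lpn (LP (LK LD1_c10 LD2_c9 LD3_c8)))))))))))))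
theorem f603809 : Led Lsl_gt (LP (LK LD1_c5 LD2_c9 LD3_c17)) = (LP (LK LD1_c10 LD2_c9 LD3_c3)) :=
  Lgr Lrot46 (Lpr_gf (f603807 IH) (Lpr_ft (f603779 IH) (Lpr_at (f603711 IH) (Lpn (LP (LK LD1_c10 LD2_c9 LD3_c3))))))
theorem f21593 : Led Lsl_at (LP (LK LD1_c1 LD2_c13 LD3_c17)) = (LP (LK LD1_c2 LD2_c32 LD3_c43)) :=
  Lre_a IH (LK LD1_c1 LD2_c13 LD3_c17) (LK LD1_c2 LD2_c32 LD3_c43) Lrfl Lrfl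
theorem f405684 : Led Lsl_gt (LP (LK LD1_c5 LD2_c11 LD3_c34)) = (LP (LK LD1_c2 LD2_c32 LD3_c43)) :=
  Lgr Lrot46 (Lpr_gf (f405616 IH) (Lpr_ft (K0.f21483 IH) (Lpr_at (f21593 IH) (Lpn (LP (LK LD1_c2 LD2_c32 LD3_c43))))))
theorem f405696 : Led Lsl_bt (LP (LK LD1_c10 LD2_c13 LD3_c36)) = (LP (LK LD1_c5 LD2_c11 LD3_c34)) :=
  Lre_b IH (LK LD1_c10 LD2_c13 LD3_c36) (LK LD1_c5 LD2_c11 LD3_c34) Lrfl Lrfl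
theorem f405440 : Led Lsl_ft (LP (LK LD1_c5 LD2_c11 LD3_c30)) = (LP (LK LD1_c10 LD2_c13 LD3_c36)) :=
  Lre_f IH (LK LD1_c5 LD2_c11 LD3_c30) (LK LD1_c10 LD2_c13 LD3_c36) Lrfl Lrfl
theorem f405441 : Led Lsl_ct (LP (LK LD1_c10 LD2_c13 LD3_c36)) = (LP (LK LD1_c5 LD2_c18 LD3_c8)) :=
  Lgr Lrot40 (Lpe (f405440 IH) (Lpe (K44.f164643 IH) (Lpr_ff (K44.f405434 IH) (Lpn (LP (LK LD1_c5 LD2_c18 LD3_c8))))))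
theorem f32769 : Led Lsl_gt (LP (LK LD1_c10 LD2_c25 LD3_c53)) = (LP (LK LD1_c5 LD2_c18 LD3_c8)) :=
  Lre_g IH (LK LD1_c10 LD2_c25 LD3_c53) (LK LD1_c5 LD2_c18 LD3_c8) Lrfl Lrfl
theorem f32582 : Led Lsl_at (LP (LK LD1_c2 LD2_c36 LD3_c2)) = (LP (LK LD1_c5 LD2_c18 LD3_c38)) :=
  Lre_a IH (LK LD1_c2 LD2_c36 LD3_c2) (LK LD1_c5 LD2_c18 LD3_c38) Lrfl Lrfl
theorem f32583 : Led Lsl_bt (LP (LK LD1_c2 LD2_c35 LD3_c7)) = (LP (LK LD1_c1 LD2_c14 LD3_c33)) :=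
  Lre_b IH (LK LD1_c2 LD2_c35 LD3_c7) (LK LD1_c1 LD2_c14 LD3_c33) Lrfl Lrfl
theorem f32585 : Led Lsl_bt (LP (LK LD1_c5 LD2_c18 LD3_c38)) = (LP (LK LD1_c5 LD2_c16 LD3_c34)) :=
  Lgr Lrot62 (Lpe (f32582 IH) (Lpe (K44.f32581 IH) (Lpr_af (K2.f32576 IH) (Lpe (f32583 IH) (Lpe (K44.f32584 IH) (Lpn (LP (LK LD1_c5 LD2_c16 LD3_c34))))))))
theorem f32789 : Led Lsl_gt (LP (LK LD1_c2 LD2_c35 LD3_c3)) = (LP (LK LD1_c5 LD2_c16 LD3_c34)) :=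
  Lre_g IH (LK LD1_c2 LD2_c35 LD3_c3) (LK LD1_c5 LD2_c16 LD3_c34) Lrfl Lrfl
theorem f32790 : Led Lsl_bt (LP (LK LD1_c5 LD2_c16 LD3_c36)) = (LP (LK LD1_c2 LD2_c35 LD3_c3)) :=
  Lre_b IH (LK LD1_c5 LD2_c16 LD3_c36) (LK LD1_c2 LD2_c35 LD3_c3) Lrfl Lrfl
theorem f603816 : Led Lsl_ct (LP (LK LD1_c5 LD2_c16 LD3_c36)) = (LP (LK LD1_c10 LD2_c9 LD3_c3)) :=
  Lgr Lrot63 (Lpr_bt (f32790 IH) (Lpr_gt (f32789 IH) (Lpe (f32585 IH) (Lpr_ct (K44.f32687 IH) (Lpr_gt (f32769 IH) (Lpe (f405441 IH) (Lpr_bt (f405696 IH) (Lpr_gt (f405684 IH) (Lpr_ct (K2.f21637 IH) (Lpr_gt (f603809 IH) (Lpn (LP (LK LD1_c10 LD2_c9 LD3_c3)))))))))))))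
theorem f603832 : Led Lsl_ft (LP (LK LD1_c10 LD2_c9 LD3_c3)) = (LP (LK LD1_c5 LD2_c9 LD3_c16)) :=
  Lre_f IH (LK LD1_c10 LD2_c9 LD3_c3) (LK LD1_c5 LD2_c9 LD3_c16) Lrfl Lrfl
theorem f603833 : Led Lsl_ff (LP (LK LD1_c5 LD2_c16 LD3_c36)) = (LP (LK LD1_c10 LD2_c9 LD3_c10)) :=
  Lgr Lrot23 (Lpr_ct (f603816 IH) (Lpr_ft (f603832 IH) (Lpr_ct (f34352 IH) (Lpn (LP (LK LD1_c10 LD2_c9 LD3_c10))))))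
theorem f603851 : Led Lsl_ft (LP (LK LD1_c5 LD2_c16 LD3_c36)) = (LP (LK LD1_c10 LD2_c9 LD3_c10)) :=
  Lgr Lrot48 (Lpr_ff (f603833 IH) (Lpn (LP (LK LD1_c10 LD2_c9 LD3_c10))))
theorem f260140 : Led Lsl_bt (LP (LK LD1_c10 LD2_c12 LD3_c37)) = (LP (LK LD1_c5 LD2_c10 LD3_c60)) :=
  Lre_b IH (LK LD1_c10 LD2_c12 LD3_c37) (LK LD1_c5 LD2_c10 LD3_c60) Lrfl Lrfl
theorem f233582 : Led Lsl_gt (LP (LK LD1_c5 LD2_c11 LD3_c35)) = (LP (LK LD1_c10 LD2_c13 LD3_c51)) :=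
  Lre_g IH (LK LD1_c5 LD2_c11 LD3_c35) (LK LD1_c10 LD2_c13 LD3_c51) Lrfl Lrfl
theorem f343364 : Led Lsl_cf (LP (LK LD1_c9 LD2_c58 LD3_c20)) = (LP (LK LD1_c10 LD2_c13 LD3_c51)) :=
  Lgr Lrot125 (Lpr_gt (K37.f249870 IH) (Lpe (K14.f248959 IH) (Lpe (K37.f248872 IH) (Lpr_gt (K44.f343361 IH) (Lpe (f260140 IH) (Lpr_ct (K44.f260131 IH) (Lpr_gt (K44.f196218 IH) (Lpe (K44.f164614 IH) (Lpr_bt (K44.f343363 IH) (Lpr_gt (f233582 IH) (Lpn (LP (LK LD1_c10 LD2_c13 LD3_c51)))))))))))))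
theorem f164027 : Led Lsl_gt (LP (LK LD1_c5 LD2_c4 LD3_c24)) = (LP (LK LD1_c9 LD2_c59 LD3_c45)) :=
  Lre_g IH (LK LD1_c5 LD2_c4 LD3_c24) (LK LD1_c9 LD2_c59 LD3_c45) Lrfl Lrfl
theorem f164029 : Led Lsl_ct (LP (LK LD1_c2 LD2_c29 LD3_c35)) = (LP (LK LD1_c5 LD2_c4 LD3_c24)) :=
  Lre_c IH (LK LD1_c2 LD2_c29 LD3_c35) (LK LD1_c5 LD2_c4 LD3_c24) Lrfl Lrfl
theorem f343373 : Led Lsl_bt (LP (LK LD1_c2 LD2_c29 LD3_c35)) = (LP (LK LD1_c5 LD2_c4 LD3_c23)) :=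
  Lre_b IH (LK LD1_c2 LD2_c29 LD3_c35) (LK LD1_c5 LD2_c4 LD3_c23) Lrfl Lrfl
theorem f343374 : Led Lsl_gt (LP (LK LD1_c9 LD2_c59 LD3_c39)) = (LP (LK LD1_c5 LD2_c4 LD3_c23)) :=
  Lre_g IH (LK LD1_c9 LD2_c59 LD3_c39) (LK LD1_c5 LD2_c4 LD3_c23) Lrfl Lrfl
theorem f343375 : Led Lsl_bf (LP (LK LD1_c9 LD2_c59 LD3_c39)) = (LP (LK LD1_c10 LD2_c13 LD3_c51)) :=
  Lgr Lrot156 (Lpr_gt (f343374 IH) (Lpe (f343373 IH) (Lpr_ct (f164029 IH) (Lpr_gt (f164027 IH) (Lpe (K44.f343303 IH) (Lpr_bt (K44.f165739 IH) (Lpr_gt (K10.f165738 IH) (Lpr_ct (K14.f165612 IH) (Lpr_gt (K37.f166894 IH) (Lpr_cf (f343364 IH) (Lpn (LP (LK LD1_c10 LD2_c13 LD3_c51)))))))))))))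
theorem f343367 : Led Lsl_ct (LP (LK LD1_c9 LD2_c58 LD3_c20)) = (LP (LK LD1_c10 LD2_c13 LD3_c51)) :=
  Lgr Lrot59 (Lpr_cf (f343364 IH) (Lpn (LP (LK LD1_c10 LD2_c13 LD3_c51))))
theorem f214862 : Led Lsl_ct (LP (LK LD1_c18 LD2_c44 LD3_c49)) = (LP (LK LD1_c18 LD2_c14 LD3_c33)) :=
  Lgr Lrot59 (Lpr_cf (K37.f214859 IH) (Lpn (LP (LK LD1_c18 LD2_c14 LD3_c33))))
theorem f32756 : Led Lsl_bt (LP (LK LD1_c10 LD2_c21 LD3_c39)) = (LP (LK LD1_c18 LD2_c45 LD3_c4)) :=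
  Lre_b IH (LK LD1_c10 LD2_c21 LD3_c39) (LK LD1_c18 LD2_c45 LD3_c4) Lrfl Lrfl
theorem f32690 : Led Lsl_ct (LP (LK LD1_c10 LD2_c21 LD3_c39)) = (LP (LK LD1_c5 LD2_c16 LD3_c34)) :=
  Lre_c IH (LK LD1_c10 LD2_c21 LD3_c39) (LK LD1_c5 LD2_c16 LD3_c34) Lrfl Lrfl
theorem f35081 : Led Lsl_ct (LP (LK LD1_c5 LD2_c16 LD3_c37)) = (LP (LK LD1_c2 LD2_c35 LD3_c3)) :=
  Lre_c IH (LK LD1_c5 LD2_c16 LD3_c37) (LK LD1_c2 LD2_c35 LD3_c3) Lrfl Lrfl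
theorem f214882 : Led Lsl_gt (LP (LK LD1_c10 LD2_c22 LD3_c42)) = (LP (LK LD1_c5 LD2_c16 LD3_c37)) :=
  Lre_g IH (LK LD1_c10 LD2_c22 LD3_c42) (LK LD1_c5 LD2_c16 LD3_c37) Lrfl Lrfl
theorem f214883 : Led Lsl_bf (LP (LK LD1_c10 LD2_c22 LD3_c42)) = (LP (LK LD1_c18 LD2_c44 LD3_c49)) :=
  Lgr Lrot165 (Lpr_gt (f214882 IH) (Lpr_ct (f35081 IH) (Lpr_gt (f32789 IH) (Lpe (f32690 IH) (Lpr_bt (f32756 IH) (Lpr_gt (K44.f32763 IH) (Lpe (K44.f32840 IH) (Lpr_ct (K44.f214873 IH) (Lpr_gt (K44.f214864 IH) (Lpe (f214862 IH) (Lpn (LP (LK LD1_c18 LD2_c44 LD3_c49)))))))))))))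
theorem f214885 : Led Lsl_bt (LP (LK LD1_c10 LD2_c22 LD3_c42)) = (LP (LK LD1_c18 LD2_c44 LD3_c49)) :=
  Lgr Lrot127 (Lpr_bf (f214883 IH) (Lpn (LP (LK LD1_c18 LD2_c44 LD3_c49))))
theorem f343398 : Led Lsl_ct (LP (LK LD1_c9 LD2_c59 LD3_c39)) = (LP (LK LD1_c10 LD2_c22 LD3_c42)) :=
  Lgr Lrot83 (Lpr_bf (f343375 IH) (Lpe (f343367 IH) (Lpe (K37.f214793 IH) (Lpe (f214862 IH) (Lpe (f214885 IH) (Lpn (LP (LK LD1_c10 LD2_c22 LD3_c42))))))))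
theorem f343396 : Led Lsl_bt (LP (LK LD1_c9 LD2_c59 LD3_c39)) = (LP (LK LD1_c10 LD2_c13 LD3_c51)) :=
  Lgr Lrot127 (Lpr_bf (f343375 IH) (Lpn (LP (LK LD1_c10 LD2_c13 LD3_c51))))
theorem f343420 : Led Lsl_gf (LP (LK LD1_c10 LD2_c12 LD3_c37)) = (LP (LK LD1_c5 LD2_c16 LD3_c36)) :=
  Lgr Lrot181 (Lpr_ct (K44.f260131 IH) (Lpr_gt (K44.f196218 IH) (Lpe (K44.f164614 IH) (Lpr_bt (K44.f343363 IH) (Lpr_gt (f233582 IH) (Lpe (f343396 IH) (Lpr_ct (f343398 IH) (Lpr_gt (f214882 IH) (Lpe (K44.f35083 IH) (Lpr_bt (K44.f166100 IH) (Lpn (LP (LK LD1_c5 LD2_c16 LD3_c36)))))))))))))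
theorem f603873 : Led Lsl_at (LP (LK LD1_c10 LD2_c9 LD3_c10)) = (LP (LK LD1_c18 LD2_c29 LD3_c22)) :=
  Lre_a IH (LK LD1_c10 LD2_c9 LD3_c10) (LK LD1_c18 LD2_c29 LD3_c22) Lrfl Lrfl
theorem f603882 : Led Lsl_gt (LP (LK LD1_c10 LD2_c12 LD3_c37)) = (LP (LK LD1_c18 LD2_c29 LD3_c22)) :=
  Lgr Lrot46 (Lpr_gf (f343420 IH) (Lpr_ft (f603851 IH) (Lpr_at (f603873 IH) (Lpn (LP (LK LD1_c18 LD2_c29 LD3_c22))))))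
theorem f583452 : Led Lsl_ft (LP (LK LD1_c10 LD2_c12 LD3_c37)) = (LP (LK LD1_c9 LD2_c57 LD3_c46)) :=
  Lgr Lrot75 (Lpe (K44.f260132 IH) (Lpr_ff (K44.f583450 IH) (Lpe (f165436 IH) (Lpn (LP (LK LD1_c9 LD2_c57 LD3_c46))))))
theorem f582777 : Led Lsl_bt (LP (LK LD1_c5 LD2_c3 LD3_c24)) = (LP (LK LD1_c9 LD2_c57 LD3_c43)) :=
  Lre_b IH (LK LD1_c5 LD2_c3 LD3_c24) (LK LD1_c9 LD2_c57 LD3_c43) Lrfl Lrfl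
theorem f583780 : Led Lsl_at (LP (LK LD1_c18 LD2_c29 LD3_c20)) = (LP (LK LD1_c10 LD2_c12 LD3_c37)) :=
  Lgr Lrot67 (Lpr_bf (K44.f583778 IH) (Lpe (K44.f583493 IH) (Lpe (f582777 IH) (Lpe (K44.f582872 IH) (Lpe (f260140 IH) (Lpn (LP (LK LD1_c10 LD2_c12 LD3_c37))))))))
theorem f583789 : Led Lsl_at (LP (LK LD1_c9 LD2_c57 LD3_c46)) = (LP (LK LD1_c10 LD2_c22 LD3_c38)) :=
  Lgr Lrot66 (Lpe (f583452 IH) (Lpe (f583780 IH) (Lpr_ff (K44.f583787 IH) (Lpn (LP (LK LD1_c10 LD2_c22 LD3_c38))))))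
theorem f603884 : Led Lsl_gf (LP (LK LD1_c10 LD2_c22 LD3_c38)) = (LP (LK LD1_c18 LD2_c29 LD3_c22)) :=
  Lgr Lrot76 (Lpe (f583789 IH) (Lpe (f583452 IH) (Lpr_gt (f603882 IH) (Lpn (LP (LK LD1_c18 LD2_c29 LD3_c22))))))
theorem f405278 : Led Lsl_dt (LP (LK LD1_c10 LD2_c22 LD3_c38)) = (LP (LK LD1_c18 LD2_c49 LD3_c47)) :=
  Lre_d IH (LK LD1_c10 LD2_c22 LD3_c38) (LK LD1_c18 LD2_c49 LD3_c47) Lrfl Lrfl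
theorem f603813 : Led Lsl_gf (LP (LK LD1_c5 LD2_c9 LD3_c19)) = (LP (LK LD1_c10 LD2_c9 LD3_c3)) :=
  Lgr Lrot76 (Lpe (K2.f33807 IH) (Lpe (K44.f21627 IH) (Lpr_gt (f603809 IH) (Lpn (LP (LK LD1_c10 LD2_c9 LD3_c3))))))
theorem f164114 : Led Lsl_dt (LP (LK LD1_c2 LD2_c31 LD3_c21)) = (LP (LK LD1_c2 LD2_c32 LD3_c45)) :=
  Lgr Lrot79 (Lpe (K10.f164113 IH) (Lpr_df (K8.f164111 IH) (Lpe (K44.f163755 IH) (Lpn (LP (LK LD1_c2 LD2_c32 LD3_c45))))))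
theorem f603835 : Led Lsl_gt (LP (LK LD1_c18 LD2_c49 LD3_c47)) = (LP (LK LD1_c10 LD2_c23 LD3_c4)) :=
  Lgr Lrot9 (Lpe (f405278 IH) (Lpr_gt (K44.f166101 IH) (Lpr_ct (f603816 IH) (Lpe (f603813 IH) (Lpr_ct (f34594 IH) (Lpe (f164114 IH) (Lpe (K44.f163807 IH) (Lpe (K44.f163810 IH) (Lpe (K44.f166205 IH) (Lpn (LP (LK LD1_c10 LD2_c23 LD3_c4))))))))))))
theorem f165789 : Led Lsl_ct (LP (LK LD1_c10 LD2_c27 LD3_c33)) = (LP (LK LD1_c10 LD2_c7 LD3_c1)) :=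
  Lgr Lrot59 (Lpr_cf (K44.f165784 IH) (Lpn (LP (LK LD1_c10 LD2_c7 LD3_c1))))
theorem f403039 : Led Lsl_ct (LP (LK LD1_c18 LD2_c10 LD3_c37)) = (LP (LK LD1_c18 LD2_c10 LD3_c3)) :=
  Lre_c IH (LK LD1_c18 LD2_c10 LD3_c37) (LK LD1_c18 LD2_c10 LD3_c3) Lrfl Lrfl
theorem f412923 : Led Lsl_df (LP (LK LD1_c10 LD2_c7 LD3_c1)) = (LP (LK LD1_c18 LD2_c10 LD3_c3)) :=
  Lgr Lrot162 (Lpe (f165789 IH) (Lpe (K44.f166219 IH) (Lpe (K44.f71645 IH) (Lpe (K44.f186588 IH) (Lpe (K44.f412817 IH) (Lpr_gt (K45.f412919 IH) (Lpr_ct (K45.f264216 IH) (Lpe (K45.f410263 IH) (Lpr_ct (f403039 IH) (Lpn (LP (LK LD1_c18 LD2_c10 LD3_c3))))))))))))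
theorem f412951 : Led Lsl_bt (LP (LK LD1_c9 LD2_c55 LD3_c27)) = (LP (LK LD1_c18 LD2_c10 LD3_c3)) :=
  Lre_b IH (LK LD1_c9 LD2_c55 LD3_c27) (LK LD1_c18 LD2_c10 LD3_c3) Lrfl Lrfl
theorem f412952 : Led Lsl_dt (LP (LK LD1_c5 LD2_c8 LD3_c17)) = (LP (LK LD1_c9 LD2_c55 LD3_c27)) :=
  Lgr Lrot79 (Lpe (K44.f164632 IH) (Lpr_df (f412923 IH) (Lpe (f412951 IH) (Lpn (LP (LK LD1_c9 LD2_c55 LD3_c27))))))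
theorem f166213 : Led Lsl_cf (LP (LK LD1_c10 LD2_c23 LD3_c4)) = (LP (LK LD1_c10 LD2_c6 LD3_c26)) :=
  Lgr Lrot11 (Lpr_ct (K44.f166205 IH) (Lpn (LP (LK LD1_c10 LD2_c6 LD3_c26))))
theorem f180567 : Led Lsl_cf (LP (LK LD1_c18 LD2_c20 LD3_c37)) = (LP (LK LD1_c18 LD2_c9 LD3_c58)) :=
  Lgr Lrot11 (Lpr_ct (K45.f180550 IH) (Lpn (LP (LK LD1_c18 LD2_c9 LD3_c58))))
theorem f412962 : Led Lsl_df (LP (LK LD1_c10 LD2_c23 LD3_c4)) = (LP (LK LD1_c18 LD2_c20 LD3_c37)) :=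
  Lgr Lrot162 (Lpr_cf (f166213 IH) (Lpr_gf (K44.f164590 IH) (Lpe (K44.f34322 IH) (Lpe (K44.f164628 IH) (Lpr_dt (f412952 IH) (Lpr_gt (K45.f403035 IH) (Lpr_ct (K44.f240332 IH) (Lpr_gt (K45.f342095 IH) (Lpe (f180567 IH) (Lpn (LP (LK LD1_c18 LD2_c20 LD3_c37))))))))))))
theorem f412967 : Led Lsl_dt (LP (LK LD1_c10 LD2_c23 LD3_c4)) = (LP (LK LD1_c18 LD2_c20 LD3_c37)) :=
  Lgr Lrot42 (Lpr_df (f412962 IH) (Lpn (LP (LK LD1_c18 LD2_c20 LD3_c37))))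
theorem f603801 : Led Lsl_ct (LP (LK LD1_c10 LD2_c9 LD3_c8)) = (LP (LK LD1_c18 LD2_c29 LD3_c22)) :=
  Lre_c IH (LK LD1_c10 LD2_c9 LD3_c8) (LK LD1_c18 LD2_c29 LD3_c22) Lrfl Lrfl
theorem f34362 : Led Lsl_at (LP (LK LD1_c15 LD2_c13 LD3_c54)) = (LP (LK LD1_c8 LD2_c5 LD3_c19)) :=
  Lre_a IH (LK LD1_c15 LD2_c13 LD3_c54) (LK LD1_c8 LD2_c5 LD3_c19) Lrfl Lrfl
theorem f34338 : Led Lsl_gt (LP (LK LD1_c15 LD2_c13 LD3_c53)) = (LP (LK LD1_c8 LD2_c5 LD3_c19)) :=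
  Lre_g IH (LK LD1_c15 LD2_c13 LD3_c53) (LK LD1_c8 LD2_c5 LD3_c19) Lrfl Lrfl
theorem f34366 : Led Lsl_gt (LP (LK LD1_c10 LD2_c9 LD3_c13)) = (LP (LK LD1_c15 LD2_c13 LD3_c53)) :=
  Lgr Lrot5 (Lpr_ft (K2.f34342 IH) (Lpr_at (f34362 IH) (Lpe (f34338 IH) (Lpn (LP (LK LD1_c15 LD2_c13 LD3_c53))))))
theorem f603888 : Led Lsl_df (LP (LK LD1_c18 LD2_c9 LD3_c58)) = (LP (LK LD1_c15 LD2_c13 LD3_c53)) :=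
  Lgr Lrot84 (Lpe (K45.f180550 IH) (Lpe (f412967 IH) (Lpe (f603835 IH) (Lpe (f405278 IH) (Lpr_gf (f603884 IH) (Lpe (f603801 IH) (Lpe (f603807 IH) (Lpr_dt (K2.f21619 IH) (Lpr_gt (f34366 IH) (Lpn (LP (LK LD1_c15 LD2_c13 LD3_c53))))))))))))
theorem f603892 : Led Lsl_dt (LP (LK LD1_c18 LD2_c9 LD3_c58)) = (LP (LK LD1_c15 LD2_c13 LD3_c53)) :=
  Lgr Lrot42 (Lpr_df (f603888 IH) (Lpn (LP (LK LD1_c15 LD2_c13 LD3_c53))))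
theorem f34025 : Led Lsl_dt (LP (LK LD1_c8 LD2_c5 LD3_c19)) = (LP (LK LD1_c5 LD2_c9 LD3_c19)) :=
  Lgr Lrot79 (Lpe (K12.f34024 IH) (Lpr_df (K0.f34022 IH) (Lpe (K2.f33806 IH) (Lpn (LP (LK LD1_c5 LD2_c9 LD3_c19))))))
theorem f34332 : Led Lsl_ct (LP (LK LD1_c2 LD2_c32 LD3_c45)) = (LP (LK LD1_c5 LD2_c9 LD3_c19)) :=
  Lre_c IH (LK LD1_c2 LD2_c32 LD3_c45) (LK LD1_c5 LD2_c9 LD3_c19) Lrfl Lrfl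
theorem f164455 : Led Lsl_gt (LP (LK LD1_c5 LD2_c8 LD3_c18)) = (LP (LK LD1_c2 LD2_c31 LD3_c21)) :=
  Lre_g IH (LK LD1_c5 LD2_c8 LD3_c18) (LK LD1_c2 LD2_c31 LD3_c21) Lrfl Lrfl
theorem f603895 : Led Lsl_dt (LP (LK LD1_c9 LD2_c55 LD3_c28)) = (LP (LK LD1_c5 LD2_c8 LD3_c18)) :=
  Lgr Lrot57 (Lpe (K44.f342083 IH) (Lpr_cf (K44.f240353 IH) (Lpr_gt (K45.f342095 IH) (Lpr_dt (f603892 IH) (Lpr_gt (f34338 IH) (Lpr_dt (f34025 IH) (Lpe (f34332 IH) (Lpe (f164114 IH) (Lpe (f164455 IH) (Lpn (LP (LK LD1_c5 LD2_c8 LD3_c18))))))))))))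
theorem f603897 : Led Lsl_bt (LP (LK LD1_c5 LD2_c8 LD3_c18)) = (LP (LK LD1_c10 LD2_c7 LD3_c4)) :=
  Lre_b IH (LK LD1_c5 LD2_c8 LD3_c18) (LK LD1_c10 LD2_c7 LD3_c4) Lrfl Lrfl
theorem f603898 : Led Lsl_df (LP (LK LD1_c18 LD2_c10 LD3_c6)) = (LP (LK LD1_c10 LD2_c7 LD3_c4)) :=
  Lgr Lrot12 (Lpr_bt (K44.f169636 IH) (Lpr_dt (f603895 IH) (Lpr_bt (f603897 IH) (Lpn (LP (LK LD1_c10 LD2_c7 LD3_c4))))))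
theorem f603909 : Led Lsl_gt (LP (LK LD1_c10 LD2_c7 LD3_c4)) = (LP (LK LD1_c18 LD2_c26 LD3_c13)) :=
  Lre_g IH (LK LD1_c10 LD2_c7 LD3_c4) (LK LD1_c18 LD2_c26 LD3_c13) Lrfl Lrfl
theorem f721282 : Led Lsl_cf (LP (LK LD1_c18 LD2_c32 LD3_c35)) = (LP (LK LD1_c18 LD2_c26 LD3_c13)) :=
  Lgr Lrot169 (Lpe (f299918 IH) (Lpr_ct (K32.f299897 IH) (Lpe (K32.f299848 IH) (Lpe (K18.f299734 IH) (Lpe (f378051 IH) (Lpe (f180578 IH) (Lpr_gf (f721280 IH) (Lpr_df (f603898 IH) (Lpr_gt (f603909 IH) (Lpn (LP (LK LD1_c18 LD2_c26 LD3_c13))))))))))))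
theorem f721286 : Led Lsl_ct (LP (LK LD1_c18 LD2_c32 LD3_c35)) = (LP (LK LD1_c18 LD2_c26 LD3_c13)) :=
  Lgr Lrot59 (Lpr_cf (f721282 IH) (Lpn (LP (LK LD1_c18 LD2_c26 LD3_c13))))
theorem f180697 : Led Lsl_gt (LP (LK LD1_c10 LD2_c10 LD3_c41)) = (LP (LK LD1_c5 LD2_c9 LD3_c57)) :=
  Lre_g IH (LK LD1_c10 LD2_c10 LD3_c41) (LK LD1_c5 LD2_c9 LD3_c57) Lrfl Lrfl
theorem f562713 : Led Lsl_ct (LP (LK LD1_c9 LD2_c7 LD3_c40)) = (LP (LK LD1_c4 LD2_c35 LD3_c36)) :=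
  Lre_c IH (LK LD1_c9 LD2_c7 LD3_c40) (LK LD1_c4 LD2_c35 LD3_c36) Lrfl Lrfl
theorem f699278 : Led Lsl_cf (LP (LK LD1_c5 LD2_c10 LD3_c40)) = (LP (LK LD1_c9 LD2_c7 LD3_c41)) :=
  Lgr Lrot39 (Lpr_et (f699274 IH) (Lpr_ct (f562713 IH) (Lpr_et (f551781 IH) (Lpn (LP (LK LD1_c9 LD2_c7 LD3_c41))))))
theorem f171641 : Led Lsl_dt (LP (LK LD1_c2 LD2_c32 LD3_c21)) = (LP (LK LD1_c5 LD2_c10 LD3_c40)) :=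
  Lre_d IH (LK LD1_c2 LD2_c32 LD3_c21) (LK LD1_c5 LD2_c10 LD3_c40) Lrfl Lrfl
theorem f299901 : Led Lsl_gt (LP (LK LD1_c9 LD2_c57 LD3_c4)) = (LP (LK LD1_c10 LD2_c10 LD3_c41)) :=
  Lgr Lrot5 (Lpr_ft (K32.f299877 IH) (Lpr_at (f288227 IH) (Lpe (f180697 IH) (Lpn (LP (LK LD1_c10 LD2_c10 LD3_c41))))))
theorem f714501 : Led Lsl_df (LP (LK LD1_c5 LD2_c10 LD3_c38)) = (LP (LK LD1_c10 LD2_c10 LD3_c41)) :=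
  Lgr Lrot153 (Lpr_gt (K44.f165251 IH) (Lpr_dt (f171641 IH) (Lpr_cf (f699278 IH) (Lpr_df (f551793 IH) (Lpe (f495340 IH) (Lpe (f562745 IH) (Lpr_gf (f714499 IH) (Lpe (f299866 IH) (Lpr_gt (f299901 IH) (Lpn (LP (LK LD1_c10 LD2_c10 LD3_c41))))))))))))
theorem f215251 : Led Lsl_ct (LP (LK LD1_c10 LD2_c11 LD3_c40)) = (LP (LK LD1_c18 LD2_c34 LD3_c13)) :=
  Lre_c IH (LK LD1_c10 LD2_c11 LD3_c40) (LK LD1_c18 LD2_c34 LD3_c13) Lrfl Lrfl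
theorem f721292 : Led Lsl_dt (LP (LK LD1_c18 LD2_c34 LD3_c13)) = (LP (LK LD1_c18 LD2_c26 LD3_c13)) :=
  Lgr Lrot27 (Lpe (f215251 IH) (Lpe (f171644 IH) (Lpe (f171625 IH) (Lpe (K44.f165251 IH) (Lpr_df (f714501 IH) (Lpr_gt (f180697 IH) (Lpr_ct (f180589 IH) (Lpr_gt (f180642 IH) (Lpr_ct (f721286 IH) (Lpn (LP (LK LD1_c18 LD2_c26 LD3_c13))))))))))))
theorem f166283 : Led Lsl_ct (LP (LK LD1_c10 LD2_c4 LD3_c39)) = (LP (LK LD1_c18 LD2_c23 LD3_c24)) :=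
  Lre_c IH (LK LD1_c10 LD2_c4 LD3_c39) (LK LD1_c18 LD2_c23 LD3_c24) Lrfl Lrfl
theorem f645423 : Led Lsl_ff (LP (LK LD1_c18 LD2_c42 LD3_c56)) = (LP (LK LD1_c18 LD2_c23 LD3_c24)) :=
  Lgr Lrot23 (Lpr_ct (f405233 IH) (Lpr_ft (f645414 IH) (Lpr_ct (f166283 IH) (Lpn (LP (LK LD1_c18 LD2_c23 LD3_c24))))))
theorem f645425 : Led Lsl_ft (LP (LK LD1_c18 LD2_c42 LD3_c56)) = (LP (LK LD1_c18 LD2_c23 LD3_c24)) :=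
  Lgr Lrot48 (Lpr_ff (f645423 IH) (Lpn (LP (LK LD1_c18 LD2_c23 LD3_c24))))
theorem f699296 : Led Lsl_gf (LP (LK LD1_c18 LD2_c15 LD3_c60)) = (LP (LK LD1_c18 LD2_c37 LD3_c17)) :=
  Lgr Lrot147 (Lpr_ct (f699292 IH) (Lpr_gt (f562725 IH) (Lpe (f699278 IH) (Lpe (f171641 IH) (Lpe (K14.f171623 IH) (Lpe (f171626 IH) (Lpe (f171627 IH) (Lpr_gf (f412532 IH) (Lpe (f405370 IH) (Lpn (LP (LK LD1_c18 LD2_c37 LD3_c17))))))))))))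
theorem f714489 : Led Lsl_at (LP (LK LD1_c18 LD2_c23 LD3_c24)) = (LP (LK LD1_c18 LD2_c15 LD3_c60)) :=
  Lgr Lrot26 (Lpe (f645425 IH) (Lpr_gt (f714483 IH) (Lpe (f699296 IH) (Lpn (LP (LK LD1_c18 LD2_c15 LD3_c60))))))
theorem f721228 : Led Lsl_at (LP (LK LD1_c18 LD2_c22 LD3_c16)) = (LP (LK LD1_c18 LD2_c42 LD3_c56)) :=
  Lgr Lrot66 (Lpr_ff (f721226 IH) (Lpe (f714489 IH) (Lpe (f645425 IH) (Lpn (LP (LK LD1_c18 LD2_c42 LD3_c56))))))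
theorem f721236 : Led Lsl_gf (LP (LK LD1_c18 LD2_c36 LD3_c39)) = (LP (LK LD1_c18 LD2_c15 LD3_c60)) :=
  Lgr Lrot47 (Lpe (f714480 IH) (Lpe (f721228 IH) (Lpr_ff (f721226 IH) (Lpn (LP (LK LD1_c18 LD2_c15 LD3_c60))))))
theorem f495328 : Led Lsl_gt (LP (LK LD1_c10 LD2_c17 LD3_c39)) = (LP (LK LD1_c18 LD2_c42 LD3_c45)) :=
  Lre_g IH (LK LD1_c10 LD2_c17 LD3_c39) (LK LD1_c18 LD2_c42 LD3_c45) Lrfl Lrfl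
theorem f721320 : Led Lsl_dt (LP (LK LD1_c18 LD2_c42 LD3_c45)) = (LP (LK LD1_c18 LD2_c32 LD3_c35)) :=
  Lgr Lrot105 (Lpe (f495328 IH) (Lpe (f551782 IH) (Lpe (f562725 IH) (Lpe (f699292 IH) (Lpe (f721236 IH) (Lpr_dt (f405628 IH) (Lpr_gt (f405712 IH) (Lpr_dt (f721292 IH) (Lpe (f721286 IH) (Lpn (LP (LK LD1_c18 LD2_c32 LD3_c35))))))))))))
theorem f721322 : Led Lsl_df (LP (LK LD1_c18 LD2_c42 LD3_c45)) = (LP (LK LD1_c18 LD2_c32 LD3_c35)) :=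
  Lgr Lrot38 (Lpr_dt (f721320 IH) (Lpn (LP (LK LD1_c18 LD2_c32 LD3_c35))))
theorem f722477 : Led Lsl_gf (LP (LK LD1_c10 LD2_c17 LD3_c47)) = (LP (LK LD1_c18 LD2_c42 LD3_c45)) :=
  Lgr Lrot143 (Lpe (f699352 IH) (Lpe (f249789 IH) (Lpe (f249788 IH) (Lpr_gf (f249884 IH) (Lpr_df (f722474 IH) (Lpe (f722471 IH) (Lpe (K32.f180588 IH) (Lpr_gt (f180642 IH) (Lpe (f721322 IH) (Lpn (LP (LK LD1_c18 LD2_c42 LD3_c45))))))))))))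
theorem f722478 : Led Lsl_gt (LP (LK LD1_c18 LD2_c42 LD3_c45)) = (LP (LK LD1_c10 LD2_c17 LD3_c47)) :=
  Leop (Lpr_gf (f722477 IH) (Lpn (LP (LK LD1_c18 LD2_c42 LD3_c45))))
theorem seed_837 : LEOK LG_g (LK LD1_c18 LD2_c42 LD3_c45) :=
  Leoe_g (LK LD1_c18 LD2_c42 LD3_c45) (f722478 IH)
def v14444 : LQ := Led Lsl_ct (LP (LK LD1_c5 LD2_c10 LD3_c25))
theorem f722565 : Led Lsl_ct (LP (LK LD1_c5 LD2_c10 LD3_c25)) = v14444 :=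
  Lrfl
theorem f355195 : Led Lsl_bt (LP (LK LD1_c5 LD2_c10 LD3_c25)) = (LP (LK LD1_c10 LD2_c11 LD3_c30)) :=
  Lre_b IH (LK LD1_c5 LD2_c10 LD3_c25) (LK LD1_c10 LD2_c11 LD3_c30) Lrfl Lrfl
theorem f360958 : Led Lsl_ct (LP (LK LD1_c18 LD2_c33 LD3_c54)) = (LP (LK LD1_c10 LD2_c11 LD3_c30)) :=
  Lre_c IH (LK LD1_c18 LD2_c33 LD3_c54) (LK LD1_c10 LD2_c11 LD3_c30) Lrfl Lrfl
theorem f314212 : Led Lsl_dt (LP (LK LD1_c15 LD2_c54 LD3_c0)) = (LP (LK LD1_c8 LD2_c28 LD3_c2)) :=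
  Lre_d IH (LK LD1_c15 LD2_c54 LD3_c0) (LK LD1_c8 LD2_c28 LD3_c2) Lrfl Lrfl
theorem f377448 : Led Lsl_gt (LP (LK LD1_c10 LD2_c11 LD3_c30)) = (LP (LK LD1_c5 LD2_c36 LD3_c7)) :=
  Lgr Lrot94 (Lpe (f360958 IH) (Lpr_gt (K46.f377446 IH) (Lpe (K22.f291235 IH) (Lpr_gt (K22.f339705 IH) (Lpr_dt (f314212 IH) (Lpe (K20.f314136 IH) (Lpe (K19.f314135 IH) (Lpr_gf (K19.f314208 IH) (Lpr_df (K16.f274768 IH) (Lpn (LP (LK LD1_c5 LD2_c36 LD3_c7))))))))))))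
theorem f274756 : Led Lsl_ct (LP (LK LD1_c5 LD2_c36 LD3_c7)) = (LP (LK LD1_c11 LD2_c4 LD3_c33)) :=
  Lre_c IH (LK LD1_c5 LD2_c36 LD3_c7) (LK LD1_c11 LD2_c4 LD3_c33) Lrfl Lrfl
theorem f310436 : Led Lsl_bf (LP (LK LD1_c15 LD2_c14 LD3_c10)) = (LP (LK LD1_c10 LD2_c22 LD3_c20)) :=
  Lgr Lrot96 (Lpr_et (K15.f259086 IH) (Lpr_bt (K24.f310431 IH) (Lpr_et (K20.f278571 IH) (Lpn (LP (LK LD1_c10 LD2_c22 LD3_c20))))))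
theorem f310441 : Led Lsl_bt (LP (LK LD1_c15 LD2_c22 LD3_c2)) = (LP (LK LD1_c10 LD2_c29 LD3_c35)) :=
  Lgr Lrot95 (Lpr_df (K15.f259129 IH) (Lpr_bf (f310436 IH) (Lpe (K25.f278569 IH) (Lpn (LP (LK LD1_c10 LD2_c29 LD3_c35))))))
theorem f304260 : Led Lsl_ct (LP (LK LD1_c4 LD2_c29 LD3_c23)) = (LP (LK LD1_c8 LD2_c56 LD3_c60)) :=
  Lre_c IH (LK LD1_c4 LD2_c29 LD3_c23) (LK LD1_c8 LD2_c56 LD3_c60) Lrfl Lrfl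
theorem f722571 : Led Lsl_gt (LP (LK LD1_c8 LD2_c56 LD3_c60)) = v14444 :=
  Lgr Lrot65 (Lpe (f304260 IH) (Lpe (K19.f304258 IH) (Lpe (K19.f302812 IH) (Lpe (f310441 IH) (Lpe (K27.f313153 IH) (Lpe (K26.f195967 IH) (Lpe (f274756 IH) (Lpe (f377448 IH) (Lpe (f355195 IH) (Lpr_ct (f722565 IH) (Lpn v14444)))))))))))
theorem f168788 : Led Lsl_ct (LP (LK LD1_c4 LD2_c30 LD3_c10)) = (LP (LK LD1_c8 LD2_c58 LD3_c33)) :=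
  Lre_c IH (LK LD1_c4 LD2_c30 LD3_c10) (LK LD1_c8 LD2_c58 LD3_c33) Lrfl Lrfl
theorem f722567 : Led Lsl_cf (LP (LK LD1_c5 LD2_c10 LD3_c25)) = v14444 :=
  Lgr Lrot11 (Lpr_ct (f722565 IH) (Lpn v14444))
theorem f183103 : Led Lsl_ct (LP (LK LD1_c10 LD2_c55 LD3_c34)) = (LP (LK LD1_c5 LD2_c31 LD3_c58)) :=
  Lre_c IH (LK LD1_c10 LD2_c55 LD3_c34) (LK LD1_c5 LD2_c31 LD3_c58) Lrfl Lrfl
theorem f722573 : Led Lsl_gt (LP (LK LD1_c8 LD2_c58 LD3_c33)) = (LP (LK LD1_c10 LD2_c55 LD3_c34)) :=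
  Lgr Lrot150 (Lpe (f168788 IH) (Lpe (K20.f168763 IH) (Lpr_df (K20.f304302 IH) (Lpr_gt (f722571 IH) (Lpe (f722567 IH) (Lpr_gt (K26.f183104 IH) (Lpr_ct (K17.f183096 IH) (Lpe (K19.f183099 IH) (Lpe (f183103 IH) (Lpn (LP (LK LD1_c10 LD2_c55 LD3_c34))))))))))))
theorem f722574 : Led Lsl_gt (LP (LK LD1_c8 LD2_c58 LD3_c33)) = (LP (LK LD1_c10 LD2_c55 LD3_c34)) :=
  Leop (Lpe (f722573 IH) (Lpn (LP (LK LD1_c8 LD2_c58 LD3_c33))))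
theorem seed_838 : LEOK LG_g (LK LD1_c8 LD2_c58 LD3_c33) :=
  Leoe_g (LK LD1_c8 LD2_c58 LD3_c33) (f722574 IH)
def v14524 : LQ := Led Lsl_dt (LP (LK LD1_c5 LD2_c12 LD3_c9))
theorem f723025 : Led Lsl_dt (LP (LK LD1_c5 LD2_c12 LD3_c9)) = v14524 :=
  Lrfl
theorem f723028 : Led Lsl_gf (LP (LK LD1_c5 LD2_c15 LD3_c61)) = v14524 :=
  Lgr Lrot143 (Lpr_dt (K18.f45505 IH) (Lpe (K9.f184062 IH) (Lpr_df (K15.f266299 IH) (Lpe (K15.f266311 IH) (Lpr_df (K14.f231801 IH) (Lpe (K14.f33271 IH) (Lpe (K14.f33195 IH) (Lpe (K14.f240363 IH) (Lpr_dt (f723025 IH) (Lpn v14524))))))))))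
theorem f723029 : Led Lsl_gt (LP (LK LD1_c5 LD2_c16 LD3_c2)) = v14524 :=
  Lgr Lrot5 (Lpr_ft (K18.f294870 IH) (Lpe (K37.f294844 IH) (Lpr_gf (f723028 IH) (Lpn v14524))))
theorem f285741 : Led Lsl_bt (LP (LK LD1_c10 LD2_c21 LD3_c34)) = (LP (LK LD1_c5 LD2_c16 LD3_c2)) :=
  Lre_b IH (LK LD1_c10 LD2_c21 LD3_c34) (LK LD1_c5 LD2_c16 LD3_c2) Lrfl Lrfl
theorem f180855 : Led Lsl_ct (LP (LK LD1_c18 LD2_c48 LD3_c7)) = (LP (LK LD1_c10 LD2_c21 LD3_c34)) :=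
  Lre_c IH (LK LD1_c18 LD2_c48 LD3_c7) (LK LD1_c10 LD2_c21 LD3_c34) Lrfl Lrfl
theorem f180882 : Led Lsl_dt (LP (LK LD1_c28 LD2_c17 LD3_c40)) = (LP (LK LD1_c18 LD2_c48 LD3_c7)) :=
  Lre_d IH (LK LD1_c28 LD2_c17 LD3_c40) (LK LD1_c18 LD2_c48 LD3_c7) Lrfl Lrfl
theorem f723026 : Led Lsl_df (LP (LK LD1_c5 LD2_c12 LD3_c9)) = v14524 :=
  Lgr Lrot38 (Lpr_dt (f723025 IH) (Lpn v14524))
theorem f184891 : Led Lsl_bt (LP (LK LD1_c0 LD2_c6 LD3_c59)) = (LP (LK LD1_c0 LD2_c15 LD3_c17)) :=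
  Lre_b IH (LK LD1_c0 LD2_c6 LD3_c59) (LK LD1_c0 LD2_c15 LD3_c17) Lrfl Lrfl
theorem f418924 : Led Lsl_ct (LP (LK LD1_c8 LD2_c38 LD3_c14)) = (LP (LK LD1_c16 LD2_c10 LD3_c31)) :=
  Lre_c IH (LK LD1_c8 LD2_c38 LD3_c14) (LK LD1_c16 LD2_c10 LD3_c31) Lrfl Lrfl
theorem f418925 : Led Lsl_bt (LP (LK LD1_c16 LD2_c10 LD3_c31)) = (LP (LK LD1_c26 LD2_c7 LD3_c25)) :=
  Lre_b IH (LK LD1_c16 LD2_c10 LD3_c31) (LK LD1_c26 LD2_c7 LD3_c25) Lrfl Lrfl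
theorem f723030 : Led Lsl_gf (LP (LK LD1_c28 LD2_c17 LD3_c40)) = (LP (LK LD1_c26 LD2_c7 LD3_c25)) :=
  Lgr Lrot85 (Lpr_dt (f180882 IH) (Lpr_ct (f180855 IH) (Lpr_bt (f285741 IH) (Lpr_gt (f723029 IH) (Lpe (f723026 IH) (Lpr_ct (K14.f185684 IH) (Lpr_bt (K14.f185682 IH) (Lpe (K14.f212102 IH) (Lpr_dt (K10.f165509 IH) (Lpr_ct (K9.f165515 IH) (Lpr_bt (f184891 IH) (Lpr_gt (K10.f187894 IH) (Lpr_dt (K0.f28464 IH) (Lpr_ct (K0.f31721 IH) (Lpr_bt (K36.f31750 IH) (Lpr_gt (K36.f34905 IH) (Lpr_dt (K39.f34906 IH) (Lpr_ct (f418924 IH) (Lpr_bt (f418925 IH) (Lpn (LP (LK LD1_c26 LD2_c7 LD3_c25))))))))))))))))))))))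
theorem f723031 : Led Lsl_gt (LP (LK LD1_c26 LD2_c7 LD3_c25)) = (LP (LK LD1_c28 LD2_c17 LD3_c40)) :=
  Leop (Lpr_gf (f723030 IH) (Lpn (LP (LK LD1_c26 LD2_c7 LD3_c25))))
theorem seed_839 : LEOK LG_g (LK LD1_c26 LD2_c7 LD3_c25) :=
  Leoe_g (LK LD1_c26 LD2_c7 LD3_c25) (f723031 IH)
def v14552 : LQ := Led Lsl_ft (LP (LK LD1_c5 LD2_c13 LD3_c30))
theorem f723163 : Led Lsl_ft (LP (LK LD1_c5 LD2_c13 LD3_c30)) = v14552 :=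
  Lrfl
theorem f723165 : Led Lsl_ff (LP (LK LD1_c5 LD2_c13 LD3_c30)) = v14552 :=
  Lgr Lrot3 (Lpr_ft (f723163 IH) (Lpn v14552))
def v14550 : LQ := Led Lsl_at (LP (LK LD1_c5 LD2_c13 LD3_c30))
theorem f723156 : Led Lsl_at (LP (LK LD1_c5 LD2_c13 LD3_c30)) = v14550 :=
  Lrfl
theorem f723157 : Led Lsl_af (LP (LK LD1_c5 LD2_c13 LD3_c30)) = v14550 :=
  Lgr Lrot0 (Lpr_at (f723156 IH) (Lpn v14550))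
theorem f20509 : Led Lsl_gt (LP (LK LD1_c2 LD2_c33 LD3_c37)) = (LP (LK LD1_c5 LD2_c13 LD3_c30)) :=
  Lre_g IH (LK LD1_c2 LD2_c33 LD3_c37) (LK LD1_c5 LD2_c13 LD3_c30) Lrfl Lrfl
theorem f723159 : Led Lsl_ft (LP (LK LD1_c5 LD2_c13 LD3_c31)) = v14550 :=
  Lgr Lrot2 (Lpr_gt (K35.f20513 IH) (Lpr_gt (f20509 IH) (Lpr_af (f723157 IH) (Lpn v14550))))
theorem f723160 : Led Lsl_ff (LP (LK LD1_c5 LD2_c13 LD3_c31)) = v14550 :=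
  Lgr Lrot3 (Lpr_ft (f723159 IH) (Lpn v14550))
theorem f723166 : Led Lsl_at (LP (LK LD1_c5 LD2_c13 LD3_c31)) = v14552 :=
  Lgr Lrot66 (Lpr_ff (f723160 IH) (Lpe (f723156 IH) (Lpr_ff (f723165 IH) (Lpn v14552))))
theorem f20519 : Led Lsl_bt (LP (LK LD1_c10 LD2_c17 LD3_c19)) = (LP (LK LD1_c5 LD2_c13 LD3_c31)) :=
  Lre_b IH (LK LD1_c10 LD2_c17 LD3_c19) (LK LD1_c5 LD2_c13 LD3_c31) Lrfl Lrfl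
theorem f719507 : Led Lsl_ff (LP (LK LD1_c6 LD2_c25 LD3_c22)) = (LP (LK LD1_c9 LD2_c12 LD3_c28)) :=
  Lgr Lrot3 (Lpr_ft (f719500 IH) (Lpn (LP (LK LD1_c9 LD2_c12 LD3_c28))))
theorem f715105 : Led Lsl_bt (LP (LK LD1_c17 LD2_c2 LD3_c23)) = (LP (LK LD1_c9 LD2_c12 LD3_c28)) :=
  Lgr Lrot127 (Lpr_bf (K52.f715103 IH) (Lpn (LP (LK LD1_c9 LD2_c12 LD3_c28))))
theorem f719510 : Led Lsl_bt (LP (LK LD1_c6 LD2_c25 LD3_c22)) = (LP (LK LD1_c9 LD2_c12 LD3_c13)) :=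
  Lgr Lrot35 (Lpr_ff (f719507 IH) (Lpe (f715105 IH) (Lpr_ff (K52.f715098 IH) (Lpn (LP (LK LD1_c9 LD2_c12 LD3_c13))))))
theorem f715097 : Led Lsl_et (LP (LK LD1_c9 LD2_c12 LD3_c13)) = (LP (LK LD1_c17 LD2_c6 LD3_c16)) :=
  Lre_e IH (LK LD1_c9 LD2_c12 LD3_c13) (LK LD1_c17 LD2_c6 LD3_c16) Lrfl Lrfl
theorem f719518 : Led Lsl_bf (LP (LK LD1_c10 LD2_c17 LD3_c20)) = (LP (LK LD1_c17 LD2_c6 LD3_c16)) :=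
  Lgr Lrot96 (Lpr_et (K35.f536565 IH) (Lpr_bt (f719510 IH) (Lpr_et (f715097 IH) (Lpn (LP (LK LD1_c17 LD2_c6 LD3_c16))))))
theorem f719522 : Led Lsl_bt (LP (LK LD1_c5 LD2_c13 LD3_c31)) = (LP (LK LD1_c10 LD2_c17 LD3_c19)) :=
  Lre_b IH (LK LD1_c5 LD2_c13 LD3_c31) (LK LD1_c10 LD2_c17 LD3_c19) Lrfl Lrfl
theorem f719523 : Led Lsl_dt (LP (LK LD1_c10 LD2_c17 LD3_c19)) = (LP (LK LD1_c17 LD2_c6 LD3_c16)) :=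
  Lgr Lrot79 (Lpe (f719522 IH) (Lpe (K35.f20514 IH) (Lpr_bf (f719518 IH) (Lpn (LP (LK LD1_c17 LD2_c6 LD3_c16))))))
theorem f700692 : Led Lsl_at (LP (LK LD1_c17 LD2_c6 LD3_c16)) = (LP (LK LD1_c9 LD2_c12 LD3_c16)) :=
  Lre_a IH (LK LD1_c17 LD2_c6 LD3_c16) (LK LD1_c9 LD2_c12 LD3_c16) Lrfl Lrfl
theorem f538447 : Led Lsl_dt (LP (LK LD1_c6 LD2_c15 LD3_c58)) = (LP (LK LD1_c5 LD2_c55 LD3_c5)) :=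
  Lgr Lrot42 (Lpr_df (K38.f538438 IH) (Lpn (LP (LK LD1_c5 LD2_c55 LD3_c5))))
theorem f538453 : Led Lsl_gt (LP (LK LD1_c11 LD2_c35 LD3_c39)) = (LP (LK LD1_c5 LD2_c55 LD3_c5)) :=
  Lre_g IH (LK LD1_c11 LD2_c35 LD3_c39) (LK LD1_c5 LD2_c55 LD3_c5) Lrfl Lrfl
theorem f700631 : Led Lsl_et (LP (LK LD1_c9 LD2_c12 LD3_c16)) = (LP (LK LD1_c4 LD2_c38 LD3_c15)) :=
  Lre_e IH (LK LD1_c9 LD2_c12 LD3_c16) (LK LD1_c4 LD2_c38 LD3_c15) Lrfl Lrfl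
theorem f715075 : Led Lsl_df (LP (LK LD1_c11 LD2_c35 LD3_c39)) = (LP (LK LD1_c9 LD2_c12 LD3_c16)) :=
  Lgr Lrot170 (Lpr_gt (f538453 IH) (Lpe (f538447 IH) (Lpr_et (K38.f138529 IH) (Lpr_gt (K42.f540229 IH) (Lpe (K36.f540233 IH) (Lpe (K8.f161388 IH) (Lpe (K8.f99559 IH) (Lpr_et (K43.f208426 IH) (Lpqs (K52.f715073 IH) (Lpe (K52.f700629 IH) (Lpe (f700631 IH) (Lpn (LP (LK LD1_c9 LD2_c12 LD3_c16))))))))))))))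
theorem f719525 : Led Lsl_af (LP (LK LD1_c10 LD2_c17 LD3_c19)) = (LP (LK LD1_c11 LD2_c35 LD3_c39)) :=
  Lgr Lrot117 (Lpr_dt (f719523 IH) (Lpr_at (f700692 IH) (Lpe (f715075 IH) (Lpn (LP (LK LD1_c11 LD2_c35 LD3_c39))))))
theorem f715079 : Led Lsl_dt (LP (LK LD1_c11 LD2_c35 LD3_c39)) = (LP (LK LD1_c9 LD2_c12 LD3_c16)) :=
  Lgr Lrot42 (Lpr_df (f715075 IH) (Lpn (LP (LK LD1_c9 LD2_c12 LD3_c16))))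
theorem f653043 : Led Lsl_bt (LP (LK LD1_c9 LD2_c12 LD3_c16)) = (LP (LK LD1_c4 LD2_c38 LD3_c18)) :=
  Lre_b IH (LK LD1_c9 LD2_c12 LD3_c16) (LK LD1_c4 LD2_c38 LD3_c18) Lrfl Lrfl
theorem f79998 : Led Lsl_dt (LP (LK LD1_c4 LD2_c38 LD3_c18)) = (LP (LK LD1_c9 LD2_c12 LD3_c26)) :=
  Lre_d IH (LK LD1_c4 LD2_c38 LD3_c18) (LK LD1_c9 LD2_c12 LD3_c26) Lrfl Lrfl
theorem f715083 : Led Lsl_bf (LP (LK LD1_c11 LD2_c35 LD3_c39)) = (LP (LK LD1_c9 LD2_c12 LD3_c26)) :=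
  Lgr Lrot93 (Lpr_dt (f715079 IH) (Lpr_bt (f653043 IH) (Lpr_dt (f79998 IH) (Lpn (LP (LK LD1_c9 LD2_c12 LD3_c26))))))
theorem f157182 : Led Lsl_ft (LP (LK LD1_c17 LD2_c4 LD3_c34)) = (LP (LK LD1_c9 LD2_c11 LD3_c4)) :=
  Lre_f IH (LK LD1_c17 LD2_c4 LD3_c34) (LK LD1_c9 LD2_c11 LD3_c4) Lrfl Lrfl
def v13040 : LQ := Led Lsl_at (LP (LK LD1_c4 LD2_c38 LD3_c18))
theorem f700690 : Led Lsl_at (LP (LK LD1_c4 LD2_c38 LD3_c18)) = v13040 :=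
  Lrfl
theorem f700693 : Led Lsl_ef K45.v4214 = v13040 :=
  Lgr Lrot20 (Lpe (K45.f631936 IH) (Lpr_et (K46.f615055 IH) (Lpr_at (f700690 IH) (Lpn v13040))))
theorem f700694 : Led Lsl_et K45.v4214 = v13040 :=
  Lgr Lrot87 (Lpr_ef (f700693 IH) (Lpn v13040))
theorem f157181 : Led Lsl_et (LP (LK LD1_c4 LD2_c37 LD3_c43)) = (LP (LK LD1_c9 LD2_c11 LD3_c4)) :=
  Lre_e IH (LK LD1_c4 LD2_c37 LD3_c43) (LK LD1_c9 LD2_c11 LD3_c4) Lrfl Lrfl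
def v13020 : LQ := Led Lsl_ft (LP (LK LD1_c4 LD2_c37 LD3_c43))
theorem f700220 : Led Lsl_ft (LP (LK LD1_c4 LD2_c37 LD3_c43)) = v13020 :=
  Lrfl
theorem f700222 : Led Lsl_ff (LP (LK LD1_c4 LD2_c37 LD3_c43)) = v13020 :=
  Lgr Lrot3 (Lpr_ft (f700220 IH) (Lpn v13020))
def v13019 : LQ := Led Lsl_at (LP (LK LD1_c4 LD2_c37 LD3_c43))
theorem f700215 : Led Lsl_at (LP (LK LD1_c4 LD2_c37 LD3_c43)) = v13019 :=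
  Lrfl
theorem f700216 : Led Lsl_af (LP (LK LD1_c4 LD2_c37 LD3_c43)) = v13019 :=
  Lgr Lrot0 (Lpr_at (f700215 IH) (Lpn v13019))
theorem f700218 : Led Lsl_ft (LP (LK LD1_c4 LD2_c37 LD3_c44)) = v13019 :=
  Lgr Lrot2 (Lpr_gt (K24.f142127 IH) (Lpr_gt (K36.f116949 IH) (Lpr_af (f700216 IH) (Lpn v13019))))
theorem f700219 : Led Lsl_ff (LP (LK LD1_c4 LD2_c37 LD3_c44)) = v13019 :=
  Lgr Lrot3 (Lpr_ft (f700218 IH) (Lpn v13019))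
theorem f700223 : Led Lsl_at (LP (LK LD1_c4 LD2_c37 LD3_c44)) = v13020 :=
  Lgr Lrot66 (Lpr_ff (f700219 IH) (Lpe (f700215 IH) (Lpr_ff (f700222 IH) (Lpn v13020))))
theorem f719503 : Led Lsl_bf (LP (LK LD1_c6 LD2_c25 LD3_c22)) = (LP (LK LD1_c9 LD2_c12 LD3_c13)) :=
  Lgr Lrot61 (Lpr_ft (f719500 IH) (Lpe (K52.f715103 IH) (Lpr_ft (K52.f715093 IH) (Lpn (LP (LK LD1_c9 LD2_c12 LD3_c13))))))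
theorem f415086 : Led Lsl_gt (LP (LK LD1_c4 LD2_c59 LD3_c20)) = (LP (LK LD1_c2 LD2_c27 LD3_c45)) :=
  Lre_g IH (LK LD1_c4 LD2_c59 LD3_c20) (LK LD1_c2 LD2_c27 LD3_c45) Lrfl Lrfl
theorem f414043 : Led Lsl_gt (LP (LK LD1_c8 LD2_c0 LD3_c40)) = (LP (LK LD1_c15 LD2_c5 LD3_c1)) :=
  Lre_g IH (LK LD1_c8 LD2_c0 LD3_c40) (LK LD1_c15 LD2_c5 LD3_c1) Lrfl Lrfl
theorem f719533 : Led Lsl_cf (LP (LK LD1_c8 LD2_c0 LD3_c40)) = (LP (LK LD1_c9 LD2_c12 LD3_c13)) :=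
  Lgr Lrot160 (Lpr_gt (f414043 IH) (Lpe (K24.f414024 IH) (Lpr_bt (K31.f415080 IH) (Lpr_gt (f415086 IH) (Lpr_ct (f415089 IH) (Lpr_gt (f719458 IH) (Lpq (f719471 IH) (Lpr_cf (f424764 IH) (Lpr_bt (f549450 IH) (Lpr_gt (K35.f68638 IH) (Lpr_bf (f719503 IH) (Lpn (LP (LK LD1_c9 LD2_c12 LD3_c13))))))))))))))
theorem f719538 : Led Lsl_ct (LP (LK LD1_c8 LD2_c0 LD3_c40)) = (LP (LK LD1_c9 LD2_c12 LD3_c13)) :=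
  Lgr Lrot59 (Lpr_cf (f719533 IH) (Lpn (LP (LK LD1_c9 LD2_c12 LD3_c13))))
theorem f719545 : Led Lsl_af (LP (LK LD1_c8 LD2_c0 LD3_c40)) = (LP (LK LD1_c9 LD2_c12 LD3_c14)) :=
  Lgr Lrot68 (Lpr_ct (f719538 IH) (Lpr_at (K52.f631937 IH) (Lpr_ct (K32.f140163 IH) (Lpn (LP (LK LD1_c9 LD2_c12 LD3_c14))))))
theorem f40442 : Led Lsl_gt (LP (LK LD1_c3 LD2_c59 LD3_c49)) = (LP (LK LD1_c8 LD2_c0 LD3_c40)) :=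
  Lre_g IH (LK LD1_c3 LD2_c59 LD3_c49) (LK LD1_c8 LD2_c0 LD3_c40) Lrfl Lrfl
theorem f719547 : Led Lsl_ft (LP (LK LD1_c8 LD2_c0 LD3_c41)) = (LP (LK LD1_c9 LD2_c12 LD3_c14)) :=
  Lgr Lrot2 (Lpr_gt (K24.f40447 IH) (Lpr_gt (f40442 IH) (Lpr_af (f719545 IH) (Lpn (LP (LK LD1_c9 LD2_c12 LD3_c14))))))
theorem f140854 : Led Lsl_ct (LP (LK LD1_c9 LD2_c12 LD3_c14)) = (LP (LK LD1_c4 LD2_c38 LD3_c15)) :=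
  Lre_c IH (LK LD1_c9 LD2_c12 LD3_c14) (LK LD1_c4 LD2_c38 LD3_c15) Lrfl Lrfl
theorem f719551 : (LP (LK LD1_c9 LD2_c11 LD3_c5)) = K52.v13034 :=
  (Llr Lrot108 (Lpr_ct (K24.f415561 IH) (Lpr_ft (f719547 IH) (Lpr_ct (f140854 IH) (Lpr_ft (K52.f700633 IH) (Lpn K52.v13034)))))).symm
theorem f719556 : K45.v4215 = (LP (LK LD1_c4 LD2_c37 LD3_c44)) :=
  Lefun (Lecon (Lfl_bf (K52.f700634 IH)) (f719551 IH).symm) (K24.f415560 IH)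
theorem f719557 : (LP (LK LD1_c2 LD2_c16 LD3_c13)) = v13020 :=
  Lefun (Lecon (Lfl_af (K45.f631956 IH)) (f719556 IH)) (f700223 IH)
theorem f719579 : (LP (LK LD1_c4 LD2_c37 LD3_c43)) = K45.v4214 :=
  Lefun (Lecon (Lfl_ff (f700222 IH)) (f719557 IH).symm) (K45.f631942 IH)
theorem f719602 : v13040 = (LP (LK LD1_c9 LD2_c11 LD3_c4)) :=
  Lefun (Lecon (f700694 IH) (f719579 IH).symm) (f157181 IH)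
theorem f700691 : Led Lsl_af (LP (LK LD1_c4 LD2_c38 LD3_c18)) = v13040 :=
  Lgr Lrot0 (Lpr_at (f700690 IH) (Lpn v13040))
theorem f631964 : Led Lsl_ft (LP (LK LD1_c4 LD2_c38 LD3_c18)) = (LP (LK LD1_c9 LD2_c12 LD3_c27)) :=
  Lre_f IH (LK LD1_c4 LD2_c38 LD3_c18) (LK LD1_c9 LD2_c12 LD3_c27) Lrfl Lrfl
theorem f719605 : Led Lsl_af (LP (LK LD1_c17 LD2_c4 LD3_c34)) = (LP (LK LD1_c9 LD2_c12 LD3_c27)) :=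
  Lgr Lrot45 (Lpr_ft (f157182 IH) (Lpq (f719602 IH) (Lpe (f700691 IH) (Lpr_ft (f631964 IH) (Lpn (LP (LK LD1_c9 LD2_c12 LD3_c27)))))))
theorem f719617 : Led Lsl_at (LP (LK LD1_c17 LD2_c4 LD3_c34)) = (LP (LK LD1_c9 LD2_c12 LD3_c27)) :=
  Lgr Lrot100 (Lpr_af (f719605 IH) (Lpn (LP (LK LD1_c9 LD2_c12 LD3_c27))))
theorem f157183 : Led Lsl_ft (LP (LK LD1_c9 LD2_c11 LD3_c4)) = (LP (LK LD1_c17 LD2_c4 LD3_c34)) :=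
  Lre_f IH (LK LD1_c9 LD2_c11 LD3_c4) (LK LD1_c17 LD2_c4 LD3_c34) Lrfl Lrfl
theorem f140551 : Led Lsl_dt (LP (LK LD1_c16 LD2_c55 LD3_c45)) = (LP (LK LD1_c16 LD2_c54 LD3_c13)) :=
  Lre_d IH (LK LD1_c16 LD2_c55 LD3_c45) (LK LD1_c16 LD2_c54 LD3_c13) Lrfl Lrfl
theorem f644477 : Led Lsl_gt (LP (LK LD1_c16 LD2_c54 LD3_c13)) = (LP (LK LD1_c9 LD2_c11 LD3_c3)) :=
  Lgr Lrot5 (Lpr_ft (K45.f644443 IH) (Lpe (K51.f642659 IH) (Lpe (K46.f642374 IH) (Lpn (LP (LK LD1_c9 LD2_c11 LD3_c3))))))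
theorem f505199 : Led Lsl_et (LP (LK LD1_c2 LD2_c57 LD3_c23)) = (LP (LK LD1_c6 LD2_c2 LD3_c37)) :=
  Lre_e IH (LK LD1_c2 LD2_c57 LD3_c23) (LK LD1_c6 LD2_c2 LD3_c37) Lrfl Lrfl
theorem f706528 : Led Lsl_gt (LP (LK LD1_c9 LD2_c11 LD3_c4)) = (LP (LK LD1_c6 LD2_c2 LD3_c37)) :=
  Lgr Lrot131 (Lpe (f157181 IH) (Lpr_dt (K46.f157186 IH) (Lpe (f644477 IH) (Lpe (f140551 IH) (Lpe (K45.f140534 IH) (Lpe (K51.f614952 IH) (Lpr_dt (K51.f706514 IH) (Lpe (K51.f614718 IH) (Lpe (K51.f614663 IH) (Lpr_et (f505199 IH) (Lpn (LP (LK LD1_c6 LD2_c2 LD3_c37)))))))))))))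
theorem f719625 : Led Lsl_gt (LP (LK LD1_c6 LD2_c2 LD3_c37)) = (LP (LK LD1_c9 LD2_c12 LD3_c27)) :=
  Lgr Lrot46 (Lpe (f706528 IH) (Lpr_ft (f157183 IH) (Lpr_at (f719617 IH) (Lpn (LP (LK LD1_c9 LD2_c12 LD3_c27))))))
theorem f100205 : Led Lsl_gt (LP (LK LD1_c6 LD2_c11 LD3_c52)) = (LP (LK LD1_c3 LD2_c2 LD3_c31)) :=
  Lre_g IH (LK LD1_c6 LD2_c11 LD3_c52) (LK LD1_c3 LD2_c2 LD3_c31) Lrfl Lrfl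
theorem f547916 : Led Lsl_af (LP (LK LD1_c16 LD2_c59 LD3_c58)) = (LP (LK LD1_c9 LD2_c15 LD3_c13)) :=
  Lgr Lrot45 (Lpr_ft (K36.f547915 IH) (Lpr_at (K36.f547907 IH) (Lpr_ft (K40.f547889 IH) (Lpn (LP (LK LD1_c9 LD2_c15 LD3_c13))))))
theorem f621225 : Led Lsl_gf (LP (LK LD1_c16 LD2_c59 LD3_c58)) = (LP (LK LD1_c9 LD2_c15 LD3_c11)) :=
  Lgr Lrot76 (Lpr_af (f547916 IH) (Lpe (K40.f547889 IH) (Lpr_gt (f428913 IH) (Lpn (LP (LK LD1_c9 LD2_c15 LD3_c11))))))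
theorem f719627 : Led Lsl_df (LP (LK LD1_c9 LD2_c15 LD3_c11)) = (LP (LK LD1_c9 LD2_c12 LD3_c27)) :=
  Lgr Lrot135 (Lpe (f621225 IH) (Lpr_df (K36.f547920 IH) (Lpr_et (K36.f100030 IH) (Lpr_gt (f100205 IH) (Lpe (K51.f73030 IH) (Lpe (K51.f615023 IH) (Lpr_gt (K51.f614699 IH) (Lpe (K51.f614663 IH) (Lpr_et (f505199 IH) (Lpr_gt (f719625 IH) (Lpn (LP (LK LD1_c9 LD2_c12 LD3_c27)))))))))))))
theorem f80003 : Led Lsl_dt (LP (LK LD1_c9 LD2_c12 LD3_c26)) = (LP (LK LD1_c4 LD2_c38 LD3_c18)) :=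
  Lre_d IH (LK LD1_c9 LD2_c12 LD3_c26) (LK LD1_c4 LD2_c38 LD3_c18) Lrfl Lrfl
theorem f719634 : Led Lsl_ft (LP (LK LD1_c9 LD2_c15 LD3_c11)) = (LP (LK LD1_c9 LD2_c12 LD3_c26)) :=
  Lgr Lrot54 (Lpr_df (f719627 IH) (Lpe (f631964 IH) (Lpe (f80003 IH) (Lpn (LP (LK LD1_c9 LD2_c12 LD3_c26))))))
theorem f719640 : Led Lsl_af (LP (LK LD1_c9 LD2_c15 LD3_c12)) = (LP (LK LD1_c9 LD2_c12 LD3_c26)) :=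
  Lgr Lrot31 (Lpe (K36.f547918 IH) (Lpr_gf (f621225 IH) (Lpr_ft (f719634 IH) (Lpn (LP (LK LD1_c9 LD2_c12 LD3_c26))))))
theorem f719642 : Led Lsl_at (LP (LK LD1_c9 LD2_c15 LD3_c12)) = (LP (LK LD1_c9 LD2_c12 LD3_c26)) :=
  Lgr Lrot100 (Lpr_af (f719640 IH) (Lpn (LP (LK LD1_c9 LD2_c12 LD3_c26))))
theorem f723167 : Led Lsl_bf (LP (LK LD1_c9 LD2_c15 LD3_c12)) = v14552 :=
  Lgr Lrot81 (Lpr_at (f719642 IH) (Lpe (f715083 IH) (Lpe (f719525 IH) (Lpr_bt (f20519 IH) (Lpr_at (f723166 IH) (Lpn v14552))))))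
theorem f302719 : Led Lsl_bt (LP (LK LD1_c10 LD2_c17 LD3_c16)) = (LP (LK LD1_c5 LD2_c13 LD3_c30)) :=
  Lre_b IH (LK LD1_c10 LD2_c17 LD3_c16) (LK LD1_c5 LD2_c13 LD3_c30) Lrfl Lrfl
theorem f723169 : Led Lsl_ft (LP (LK LD1_c9 LD2_c15 LD3_c12)) = (LP (LK LD1_c10 LD2_c17 LD3_c16)) :=
  Lgr Lrot75 (Lpr_bf (f723167 IH) (Lpe (f723163 IH) (Lpe (f302719 IH) (Lpn (LP (LK LD1_c10 LD2_c17 LD3_c16))))))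
theorem f723170 : Led Lsl_ft (LP (LK LD1_c9 LD2_c15 LD3_c12)) = (LP (LK LD1_c10 LD2_c17 LD3_c16)) :=
  Leop (Lpe (f723169 IH) (Lpn (LP (LK LD1_c9 LD2_c15 LD3_c12))))
theorem seed_840 : LEOK LG_f (LK LD1_c9 LD2_c15 LD3_c12) :=
  Leoe_f (LK LD1_c9 LD2_c15 LD3_c12) (f723170 IH)
theorem f723175 : Led Lsl_ff (LP (LK LD1_c9 LD2_c15 LD3_c12)) = (LP (LK LD1_c10 LD2_c17 LD3_c16)) :=
  Lgr Lrot3 (Lpr_ft (f723169 IH) (Lpn (LP (LK LD1_c10 LD2_c17 LD3_c16))))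
theorem f79994 : Led Lsl_et (LP (LK LD1_c4 LD2_c40 LD3_c2)) = (LP (LK LD1_c3 LD2_c2 LD3_c33)) :=
  Lre_e IH (LK LD1_c4 LD2_c40 LD3_c2) (LK LD1_c3 LD2_c2 LD3_c33) Lrfl Lrfl
theorem f79997 : Led Lsl_et (LP (LK LD1_c4 LD2_c38 LD3_c18)) = (LP (LK LD1_c2 LD2_c16 LD3_c12)) :=
  Lre_e IH (LK LD1_c4 LD2_c38 LD3_c18) (LK LD1_c2 LD2_c16 LD3_c12) Lrfl Lrfl
theorem f79999 : Led Lsl_gt (LP (LK LD1_c9 LD2_c15 LD3_c13)) = (LP (LK LD1_c9 LD2_c12 LD3_c26)) :=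
  Lgr Lrot112 (Lpe (K40.f79995 IH) (Lpr_et (f79994 IH) (Lpe (K51.f79985 IH) (Lpr_ef (K51.f79974 IH) (Lpr_dt (K51.f79973 IH) (Lpe (K52.f79986 IH) (Lpe (K51.f79987 IH) (Lpe (K32.f79996 IH) (Lpe (f79997 IH) (Lpr_dt (f79998 IH) (Lpn (LP (LK LD1_c9 LD2_c12 LD3_c26)))))))))))))
theorem f723181 : Led Lsl_gf (LP (LK LD1_c9 LD2_c15 LD3_c13)) = (LP (LK LD1_c10 LD2_c17 LD3_c16)) :=
  Lgr Lrot47 (Lpr_gt (f79999 IH) (Lpe (f719642 IH) (Lpr_ff (f723175 IH) (Lpn (LP (LK LD1_c10 LD2_c17 LD3_c16))))))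
theorem f76172 : Led Lsl_bt (LP (LK LD1_c4 LD2_c39 LD3_c54)) = (LP (LK LD1_c9 LD2_c15 LD3_c13)) :=
  Lre_b IH (LK LD1_c4 LD2_c39 LD3_c54) (LK LD1_c9 LD2_c15 LD3_c13) Lrfl Lrfl
def v13105 : LQ := Led Lsl_ft (LP (LK LD1_c4 LD2_c39 LD3_c52))
theorem f701134 : Led Lsl_ft (LP (LK LD1_c4 LD2_c39 LD3_c52)) = v13105 :=
  Lrfl
theorem f701139 : Led Lsl_ff (LP (LK LD1_c4 LD2_c39 LD3_c52)) = v13105 :=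
  Lgr Lrot3 (Lpr_ft (f701134 IH) (Lpn v13105))
theorem f632081 : Led Lsl_ft (LP (LK LD1_c2 LD2_c16 LD3_c59)) = (LP (LK LD1_c4 LD2_c39 LD3_c54)) :=
  Lre_f IH (LK LD1_c2 LD2_c16 LD3_c59) (LK LD1_c4 LD2_c39 LD3_c54) Lrfl Lrfl
theorem f701141 : Led Lsl_ct (LP (LK LD1_c4 LD2_c39 LD3_c54)) = v13105 :=
  Lgr Lrot40 (Lpe (f632081 IH) (Lpe (K1.f23890 IH) (Lpr_ff (f701139 IH) (Lpn v13105))))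
theorem f446101 : Led Lsl_at (LP (LK LD1_c4 LD2_c39 LD3_c52)) = (LP (LK LD1_c3 LD2_c0 LD3_c24)) :=
  Lre_a IH (LK LD1_c4 LD2_c39 LD3_c52) (LK LD1_c3 LD2_c0 LD3_c24) Lrfl Lrfl
def v5167 : LQ := Led Lsl_gf (LP (LK LD1_c3 LD2_c0 LD3_c24))
theorem f646326 : Led Lsl_gf (LP (LK LD1_c3 LD2_c0 LD3_c24)) = v5167 :=
  Lrfl
theorem f701143 : Led Lsl_gf v5167 = v13105 :=
  Lgr Lrot47 (Lpe (f646326 IH) (Lpe (f446101 IH) (Lpr_ff (f701139 IH) (Lpn v13105))))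
theorem f646327 : Led Lsl_ct (LP (LK LD1_c4 LD2_c6 LD3_c5)) = v5167 :=
  Lgr Lrot152 (Lpr_gf (K32.f55704 IH) (Lpr_df (K32.f79673 IH) (Lpr_gt (K32.f79869 IH) (Lpe (K48.f57638 IH) (Lpr_gt (K24.f25646 IH) (Lpr_ct (K29.f25168 IH) (Lpe (K1.f22994 IH) (Lpe (K1.f57651 IH) (Lpr_gf (f646326 IH) (Lpn v5167))))))))))
theorem f165758 : Led Lsl_gt (LP (LK LD1_c5 LD2_c2 LD3_c38)) = (LP (LK LD1_c9 LD2_c56 LD3_c13)) :=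
  Lre_g IH (LK LD1_c5 LD2_c2 LD3_c38) (LK LD1_c9 LD2_c56 LD3_c13) Lrfl Lrfl
theorem f723158 : Led Lsl_bt (LP (LK LD1_c5 LD2_c13 LD3_c30)) = (LP (LK LD1_c10 LD2_c17 LD3_c16)) :=
  Lre_b IH (LK LD1_c5 LD2_c13 LD3_c30) (LK LD1_c10 LD2_c17 LD3_c16) Lrfl Lrfl
def v14551 : LQ := Led Lsl_ct (LP (LK LD1_c5 LD2_c13 LD3_c30))
theorem f723161 : Led Lsl_ct (LP (LK LD1_c5 LD2_c13 LD3_c30)) = v14551 :=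
  Lrfl
theorem f723185 : (LP (LK LD1_c9 LD2_c56 LD3_c13)) = v14551 :=
  (Llr Lrot149 (Lpe (f165758 IH) (Lpr_cf (K41.f165752 IH) (Lpe (K51.f165765 IH) (Lpqs (K51.f707151 IH) (Lpe (K51.f691622 IH) (Lpr_ct (f646327 IH) (Lpr_gf (f701143 IH) (Lpe (f701141 IH) (Lpr_bt (f76172 IH) (Lpr_gf (f723181 IH) (Lpe (f723158 IH) (Lpr_ct (f723161 IH) (Lpn v14551)))))))))))))).symm
theorem f723162 : Led Lsl_cf (LP (LK LD1_c5 LD2_c13 LD3_c30)) = v14551 :=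
  Lgr Lrot11 (Lpr_ct (f723161 IH) (Lpn v14551))
theorem f723186 : Led Lsl_ct (LP (LK LD1_c9 LD2_c56 LD3_c13)) = (LP (LK LD1_c5 LD2_c13 LD3_c30)) :=
  Leop (Lpr_cf (f723162 IH) (Lpq (f723185 IH) (Lpn (LP (LK LD1_c9 LD2_c56 LD3_c13)))))
theorem seed_841 : LEOK LG_c (LK LD1_c9 LD2_c56 LD3_c13) :=
  Leoe_c (LK LD1_c9 LD2_c56 LD3_c13) (f723186 IH)
def v14455 : LQ := Led Lsl_gt (LP (LK LD1_c5 LD2_c10 LD3_c42))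
theorem f722612 : Led Lsl_gt (LP (LK LD1_c5 LD2_c10 LD3_c42)) = v14455 :=
  Lrfl
def v14562 : LQ := Led Lsl_ct (LP (LK LD1_c5 LD2_c13 LD3_c49))
theorem f723756 : Led Lsl_ct (LP (LK LD1_c5 LD2_c13 LD3_c49)) = v14562 :=
  Lrfl
def v14350 : LQ := Led Lsl_ct (LP (LK LD1_c5 LD2_c6 LD3_c61))
theorem f722099 : Led Lsl_ct (LP (LK LD1_c5 LD2_c6 LD3_c61)) = v14350 :=
  Lrfl
theorem f722100 : Led Lsl_cf (LP (LK LD1_c5 LD2_c6 LD3_c61)) = v14350 :=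
  Lgr Lrot11 (Lpr_ct (f722099 IH) (Lpn v14350))
theorem f723759 : Led Lsl_ff v14350 = v14562 :=
  Lgr Lrot23 (Lpe (f722100 IH) (Lpe (f645411 IH) (Lpr_ct (f723756 IH) (Lpn v14562))))
theorem f723760 : Led Lsl_ft v14350 = v14562 :=
  Lgr Lrot48 (Lpr_ff (f723759 IH) (Lpn v14562))
theorem f198730 : Led Lsl_bt (LP (LK LD1_c5 LD2_c13 LD3_c50)) = (LP (LK LD1_c10 LD2_c17 LD3_c46)) :=
  Lre_b IH (LK LD1_c5 LD2_c13 LD3_c50) (LK LD1_c10 LD2_c17 LD3_c46) Lrfl Lrfl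
theorem f198708 : Led Lsl_et (LP (LK LD1_c10 LD2_c3 LD3_c53)) = (LP (LK LD1_c5 LD2_c6 LD3_c28)) :=
  Lre_e IH (LK LD1_c10 LD2_c3 LD3_c53) (LK LD1_c5 LD2_c6 LD3_c28) Lrfl Lrfl
theorem f198714 : Led Lsl_cf (LP (LK LD1_c10 LD2_c3 LD3_c53)) = (LP (LK LD1_c5 LD2_c13 LD3_c50)) :=
  Lgr Lrot39 (Lpr_et (f198708 IH) (Lpr_ct (K11.f198705 IH) (Lpr_et (K40.f198574 IH) (Lpn (LP (LK LD1_c5 LD2_c13 LD3_c50))))))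
theorem f198726 : Led Lsl_et (LP (LK LD1_c5 LD2_c6 LD3_c28)) = (LP (LK LD1_c10 LD2_c3 LD3_c53)) :=
  Lre_e IH (LK LD1_c5 LD2_c6 LD3_c28) (LK LD1_c10 LD2_c3 LD3_c53) Lrfl Lrfl
theorem f9128 : Led Lsl_et (LP (LK LD1_c2 LD2_c40 LD3_c2)) = (LP (LK LD1_c1 LD2_c16 LD3_c44)) :=
  Lre_e IH (LK LD1_c2 LD2_c40 LD3_c2) (LK LD1_c1 LD2_c16 LD3_c44) Lrfl Lrfl
theorem f68844 : Led Lsl_gt (LP (LK LD1_c2 LD2_c43 LD3_c18)) = (LP (LK LD1_c1 LD2_c18 LD3_c5)) :=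
  Lre_g IH (LK LD1_c2 LD2_c43 LD3_c18) (LK LD1_c1 LD2_c18 LD3_c5) Lrfl Lrfl
theorem f9270 : Led Lsl_dt (LP (LK LD1_c5 LD2_c34 LD3_c49)) = (LP (LK LD1_c2 LD2_c43 LD3_c18)) :=
  Lre_d IH (LK LD1_c5 LD2_c34 LD3_c49) (LK LD1_c2 LD2_c43 LD3_c18) Lrfl Lrfl
theorem f9271 : Led Lsl_et (LP (LK LD1_c5 LD2_c34 LD3_c49)) = (LP (LK LD1_c11 LD2_c1 LD3_c61)) :=
  Lre_e IH (LK LD1_c5 LD2_c34 LD3_c49) (LK LD1_c11 LD2_c1 LD3_c61) Lrfl Lrfl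
theorem f198728 : Led Lsl_gt (LP (LK LD1_c10 LD2_c3 LD3_c53)) = (LP (LK LD1_c11 LD2_c1 LD3_c61)) :=
  Lgr Lrot131 (Lpe (f198726 IH) (Lpr_dt (K11.f166133 IH) (Lpr_gf (K14.f198716 IH) (Lpe (K12.f187522 IH) (Lpe (K10.f175314 IH) (Lpe (f9128 IH) (Lpr_dt (K36.f9207 IH) (Lpe (f68844 IH) (Lpe (f9270 IH) (Lpr_et (f9271 IH) (Lpn (LP (LK LD1_c11 LD2_c1 LD3_c61)))))))))))))
theorem f40893 : Led Lsl_dt (LP (LK LD1_c9 LD2_c46 LD3_c49)) = (LP (LK LD1_c4 LD2_c57 LD3_c59)) :=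
  Lre_d IH (LK LD1_c9 LD2_c46 LD3_c49) (LK LD1_c4 LD2_c57 LD3_c59) Lrfl Lrfl
theorem f40889 : Led Lsl_ct (LP (LK LD1_c17 LD2_c56 LD3_c51)) = (LP (LK LD1_c9 LD2_c46 LD3_c49)) :=
  Lre_c IH (LK LD1_c17 LD2_c56 LD3_c51) (LK LD1_c9 LD2_c46 LD3_c49) Lrfl Lrfl
theorem f710828 : Led Lsl_cf (LP (LK LD1_c8 LD2_c12 LD3_c57)) = (LP (LK LD1_c5 LD2_c27 LD3_c22)) :=
  Lgr Lrot11 (Lpr_ct (f710825 IH) (Lpn (LP (LK LD1_c5 LD2_c27 LD3_c22))))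
theorem f54808 : Led Lsl_bt (LP (LK LD1_c8 LD2_c14 LD3_c39)) = (LP (LK LD1_c4 LD2_c7 LD3_c2)) :=
  Lre_b IH (LK LD1_c8 LD2_c14 LD3_c39) (LK LD1_c4 LD2_c7 LD3_c2) Lrfl Lrfl
theorem f54809 : Led Lsl_df (LP (LK LD1_c3 LD2_c58 LD3_c48)) = (LP (LK LD1_c4 LD2_c7 LD3_c2)) :=
  Lgr Lrot12 (Lpr_bt (K9.f54807 IH) (Lpr_dt (K9.f54794 IH) (Lpr_bt (f54808 IH) (Lpn (LP (LK LD1_c4 LD2_c7 LD3_c2))))))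
theorem f40885 : Led Lsl_gt (LP (LK LD1_c4 LD2_c57 LD3_c59)) = (LP (LK LD1_c2 LD2_c26 LD3_c49)) :=
  Lre_g IH (LK LD1_c4 LD2_c57 LD3_c59) (LK LD1_c2 LD2_c26 LD3_c49) Lrfl Lrfl
theorem f9208 : Led Lsl_af (LP (LK LD1_c2 LD2_c40 LD3_c2)) = (LP (LK LD1_c2 LD2_c59 LD3_c34)) :=
  Lgr Lrot117 (Lpr_dt (K36.f9207 IH) (Lpr_at (K0.f9150 IH) (Lpr_dt (K0.f9187 IH) (Lpn (LP (LK LD1_c2 LD2_c59 LD3_c34))))))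
theorem f9258 : Led Lsl_ft (LP (LK LD1_c6 LD2_c6 LD3_c55)) = (LP (LK LD1_c2 LD2_c59 LD3_c34)) :=
  Lre_f IH (LK LD1_c6 LD2_c6 LD3_c55) (LK LD1_c2 LD2_c59 LD3_c34) Lrfl Lrfl
theorem f446624 : Led Lsl_gf (LP (LK LD1_c5 LD2_c27 LD3_c22)) = (LP (LK LD1_c6 LD2_c6 LD3_c55)) :=
  Lgr Lrot47 (Lpr_gt (f211869 IH) (Lpr_af (f9208 IH) (Lpe (f9258 IH) (Lpn (LP (LK LD1_c6 LD2_c6 LD3_c55))))))
def v4712 : LQ := Led Lsl_ct (LP (LK LD1_c2 LD2_c43 LD3_c18))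
theorem f638627 : Led Lsl_ct (LP (LK LD1_c2 LD2_c43 LD3_c18)) = v4712 :=
  Lrfl
theorem f710850 : (LP (LK LD1_c4 LD2_c57 LD3_c59)) = v4712 :=
  (Llr Lrot104 (Lpr_gt (f40885 IH) (Lpr_ct (K9.f140319 IH) (Lpr_df (f54809 IH) (Lpr_cf (K9.f55539 IH) (Lpe (f55557 IH) (Lpr_cf (f710828 IH) (Lpr_gf (f446624 IH) (Lpe (K40.f9247 IH) (Lpr_gt (K52.f9261 IH) (Lpr_ct (f638627 IH) (Lpn v4712)))))))))))).symm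
theorem f408218 : Led Lsl_dt (LP (LK LD1_c4 LD2_c33 LD3_c53)) = (LP (LK LD1_c9 LD2_c5 LD3_c16)) :=
  Lre_d IH (LK LD1_c4 LD2_c33 LD3_c53) (LK LD1_c9 LD2_c5 LD3_c16) Lrfl Lrfl
theorem f68684 : Led Lsl_gt (LP (LK LD1_c9 LD2_c5 LD3_c16)) = (LP (LK LD1_c11 LD2_c14 LD3_c47)) :=
  Lre_g IH (LK LD1_c9 LD2_c5 LD3_c16) (LK LD1_c11 LD2_c14 LD3_c47) Lrfl Lrfl
theorem f68681 : Led Lsl_ct (LP (LK LD1_c11 LD2_c14 LD3_c47)) = (LP (LK LD1_c20 LD2_c9 LD3_c48)) :=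
  Lre_c IH (LK LD1_c11 LD2_c14 LD3_c47) (LK LD1_c20 LD2_c9 LD3_c48) Lrfl Lrfl
theorem f710862 : Led Lsl_gf (LP (LK LD1_c17 LD2_c56 LD3_c51)) = (LP (LK LD1_c20 LD2_c9 LD3_c48)) :=
  Lgr Lrot172 (Lpr_ct (f40889 IH) (Lpr_dt (f40893 IH) (Lpqs (f710850 IH) (Lpe (f638627 IH) (Lpe (K52.f9261 IH) (Lpe (K40.f9264 IH) (Lpe (K50.f9266 IH) (Lpr_dt (f408218 IH) (Lpr_gt (f68684 IH) (Lpr_ct (f68681 IH) (Lpn (LP (LK LD1_c20 LD2_c9 LD3_c48)))))))))))))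
theorem f175395 : Led Lsl_et (LP (LK LD1_c2 LD2_c58 LD3_c1)) = (LP (LK LD1_c1 LD2_c24 LD3_c41)) :=
  Lre_e IH (LK LD1_c2 LD2_c58 LD3_c1) (LK LD1_c1 LD2_c24 LD3_c41) Lrfl Lrfl
theorem f175404 : Led Lsl_et (LP (LK LD1_c4 LD2_c33 LD3_c55)) = (LP (LK LD1_c2 LD2_c13 LD3_c49)) :=
  Lre_e IH (LK LD1_c4 LD2_c33 LD3_c55) (LK LD1_c2 LD2_c13 LD3_c49) Lrfl Lrfl
theorem f175406 : Led Lsl_gt (LP (LK LD1_c4 LD2_c33 LD3_c54)) = (LP (LK LD1_c2 LD2_c13 LD3_c48)) :=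
  Lre_g IH (LK LD1_c4 LD2_c33 LD3_c54) (LK LD1_c2 LD2_c13 LD3_c48) Lrfl Lrfl
theorem f175407 : Led Lsl_dt (LP (LK LD1_c9 LD2_c5 LD3_c19)) = (LP (LK LD1_c4 LD2_c33 LD3_c54)) :=
  Lre_d IH (LK LD1_c9 LD2_c5 LD3_c19) (LK LD1_c4 LD2_c33 LD3_c54) Lrfl Lrfl
theorem f68671 : Led Lsl_df (LP (LK LD1_c11 LD2_c14 LD3_c46)) = (LP (LK LD1_c9 LD2_c31 LD3_c27)) :=
  Lgr Lrot38 (Lpr_dt (K50.f68669 IH) (Lpn (LP (LK LD1_c9 LD2_c31 LD3_c27))))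
theorem f175444 : Led Lsl_gf (LP (LK LD1_c9 LD2_c5 LD3_c19)) = (LP (LK LD1_c11 LD2_c14 LD3_c47)) :=
  Lgr Lrot138 (Lpr_dt (f175407 IH) (Lpr_gt (f175406 IH) (Lpe (f175405 IH) (Lpr_et (f175404 IH) (Lpr_gt (K9.f9416 IH) (Lpe (f175395 IH) (Lpr_dt (K39.f175428 IH) (Lpe (K50.f68623 IH) (Lpr_df (f68671 IH) (Lpe (K50.f68676 IH) (Lpn (LP (LK LD1_c11 LD2_c14 LD3_c47)))))))))))))
theorem f68906 : Led Lsl_gt (LP (LK LD1_c17 LD2_c34 LD3_c5)) = (LP (LK LD1_c9 LD2_c31 LD3_c59)) :=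
  Lre_g IH (LK LD1_c17 LD2_c34 LD3_c5) (LK LD1_c9 LD2_c31 LD3_c59) Lrfl Lrfl
theorem f710864 : Led Lsl_dt (LP (LK LD1_c17 LD2_c56 LD3_c51)) = (LP (LK LD1_c17 LD2_c34 LD3_c5)) :=
  Lgr Lrot57 (Lpr_gf (f710862 IH) (Lpe (f68681 IH) (Lpe (f175444 IH) (Lpr_dt (f175407 IH) (Lpr_gt (f175406 IH) (Lpr_dt (K36.f9252 IH) (Lpr_cf (f9311 IH) (Lpe (f9280 IH) (Lpe (f68906 IH) (Lpn (LP (LK LD1_c17 LD2_c34 LD3_c5))))))))))))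
theorem f710866 : Led Lsl_df (LP (LK LD1_c17 LD2_c56 LD3_c51)) = (LP (LK LD1_c17 LD2_c34 LD3_c5)) :=
  Lgr Lrot38 (Lpr_dt (f710864 IH) (Lpn (LP (LK LD1_c17 LD2_c34 LD3_c5))))
theorem f40888 : Led Lsl_dt (LP (LK LD1_c4 LD2_c57 LD3_c59)) = (LP (LK LD1_c9 LD2_c46 LD3_c49)) :=
  Lre_d IH (LK LD1_c4 LD2_c57 LD3_c59) (LK LD1_c9 LD2_c46 LD3_c49) Lrfl Lrfl
theorem f40886 : Led Lsl_gt (LP (LK LD1_c7 LD2_c59 LD3_c50)) = (LP (LK LD1_c4 LD2_c57 LD3_c59)) :=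
  Lgr Lrot5 (Lpr_ft (K1.f40881 IH) (Lpr_at (K1.f40874 IH) (Lpe (f40885 IH) (Lpn (LP (LK LD1_c4 LD2_c57 LD3_c59))))))
theorem f40895 : Led Lsl_bt (LP (LK LD1_c7 LD2_c59 LD3_c50)) = (LP (LK LD1_c15 LD2_c4 LD3_c30)) :=
  Lre_b IH (LK LD1_c7 LD2_c59 LD3_c50) (LK LD1_c15 LD2_c4 LD3_c30) Lrfl Lrfl
theorem f413916 : Led Lsl_dt (LP (LK LD1_c6 LD2_c46 LD3_c31)) = (LP (LK LD1_c7 LD2_c59 LD3_c50)) :=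
  Lgr Lrot79 (Lpe (K24.f413915 IH) (Lpr_df (K24.f413912 IH) (Lpe (f40895 IH) (Lpn (LP (LK LD1_c7 LD2_c59 LD3_c50))))))
theorem f100515 : Led Lsl_at (LP (LK LD1_c9 LD2_c46 LD3_c20)) = (LP (LK LD1_c17 LD2_c54 LD3_c48)) :=
  Lre_a IH (LK LD1_c9 LD2_c46 LD3_c20) (LK LD1_c17 LD2_c54 LD3_c48) Lrfl Lrfl
theorem f100516 : Led Lsl_bt (LP (LK LD1_c4 LD2_c57 LD3_c60)) = (LP (LK LD1_c9 LD2_c46 LD3_c20)) :=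
  Lre_b IH (LK LD1_c4 LD2_c57 LD3_c60) (LK LD1_c9 LD2_c46 LD3_c20) Lrfl Lrfl
theorem f100517 : Led Lsl_at (LP (LK LD1_c21 LD2_c11 LD3_c10)) = (LP (LK LD1_c12 LD2_c5 LD3_c46)) :=
  Lre_a IH (LK LD1_c21 LD2_c11 LD3_c10) (LK LD1_c12 LD2_c5 LD3_c46) Lrfl Lrfl
theorem f100519 : Led Lsl_af (LP (LK LD1_c4 LD2_c57 LD3_c60)) = (LP (LK LD1_c6 LD2_c13 LD3_c30)) :=
  Lgr Lrot36 (Lpr_bt (f100516 IH) (Lpr_at (f100515 IH) (Lpr_bt (K7.f100509 IH) (Lpr_at (f100517 IH) (Lpr_bt (K9.f100518 IH) (Lpn (LP (LK LD1_c6 LD2_c13 LD3_c30))))))))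
theorem f413726 : Led Lsl_ff (LP (LK LD1_c9 LD2_c32 LD3_c12)) = (LP (LK LD1_c4 LD2_c57 LD3_c60)) :=
  Lgr Lrot72 (Lpr_et (K40.f413725 IH) (Lpr_ft (K17.f413678 IH) (Lpr_et (K17.f101468 IH) (Lpr_ft (K10.f101537 IH) (Lpr_et (K10.f100924 IH) (Lpn (LP (LK LD1_c4 LD2_c57 LD3_c60))))))))
theorem f413929 : Led Lsl_af (LP (LK LD1_c6 LD2_c46 LD3_c31)) = (LP (LK LD1_c9 LD2_c32 LD3_c12)) :=
  Lgr Lrot45 (Lpr_ft (K24.f413927 IH) (Lpe (f100519 IH) (Lpe (f413726 IH) (Lpn (LP (LK LD1_c9 LD2_c32 LD3_c12))))))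
theorem f171849 : Led Lsl_gt (LP (LK LD1_c4 LD2_c57 LD3_c60)) = (LP (LK LD1_c9 LD2_c46 LD3_c51)) :=
  Lre_g IH (LK LD1_c4 LD2_c57 LD3_c60) (LK LD1_c9 LD2_c46 LD3_c51) Lrfl Lrfl
theorem f414012 : Led Lsl_gf (LP (LK LD1_c6 LD2_c46 LD3_c31)) = (LP (LK LD1_c9 LD2_c46 LD3_c51)) :=
  Lgr Lrot76 (Lpr_af (f413929 IH) (Lpr_ff (f413726 IH) (Lpr_gt (f171849 IH) (Lpn (LP (LK LD1_c9 LD2_c46 LD3_c51))))))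
theorem f412133 : Led Lsl_gt (LP (LK LD1_c11 LD2_c12 LD3_c27)) = (LP (LK LD1_c17 LD2_c34 LD3_c5)) :=
  Lgr Lrot5 (Lpr_ft (K40.f412121 IH) (Lpr_at (K40.f412123 IH) (Lpe (f68906 IH) (Lpn (LP (LK LD1_c17 LD2_c34 LD3_c5))))))
theorem f412113 : Led Lsl_et (LP (LK LD1_c11 LD2_c12 LD3_c27)) = (LP (LK LD1_c5 LD2_c40 LD3_c57)) :=
  Lre_e IH (LK LD1_c11 LD2_c12 LD3_c27) (LK LD1_c5 LD2_c40 LD3_c57) Lrfl Lrfl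
theorem f9299 : Led Lsl_et (LP (LK LD1_c4 LD2_c49 LD3_c40)) = (LP (LK LD1_c9 LD2_c31 LD3_c60)) :=
  Lre_e IH (LK LD1_c4 LD2_c49 LD3_c40) (LK LD1_c9 LD2_c31 LD3_c60) Lrfl Lrfl
theorem f412114 : Led Lsl_df (LP (LK LD1_c11 LD2_c12 LD3_c27)) = (LP (LK LD1_c9 LD2_c31 LD3_c60)) :=
  Lgr Lrot70 (Lpr_et (f412113 IH) (Lpr_dt (K39.f412104 IH) (Lpe (K1.f60004 IH) (Lpr_dt (K24.f60006 IH) (Lpr_et (f9299 IH) (Lpn (LP (LK LD1_c9 LD2_c31 LD3_c60))))))))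
theorem f9289 : Led Lsl_gt (LP (LK LD1_c6 LD2_c4 LD3_c1)) = (LP (LK LD1_c11 LD2_c51 LD3_c41)) :=
  Lre_g IH (LK LD1_c6 LD2_c4 LD3_c1) (LK LD1_c11 LD2_c51 LD3_c41) Lrfl Lrfl
theorem f9290 : Led Lsl_gf (LP (LK LD1_c9 LD2_c31 LD3_c60)) = (LP (LK LD1_c11 LD2_c51 LD3_c41)) :=
  Lgr Lrot76 (Lpe (K0.f9255 IH) (Lpr_ff (K0.f9256 IH) (Lpr_gt (f9289 IH) (Lpn (LP (LK LD1_c11 LD2_c51 LD3_c41))))))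
theorem f710870 : Led Lsl_ct (LP (LK LD1_c9 LD2_c46 LD3_c51)) = (LP (LK LD1_c11 LD2_c51 LD3_c41)) :=
  Lgr Lrot8 (Lpe (f414012 IH) (Lpr_dt (f413916 IH) (Lpr_gt (f40886 IH) (Lpr_dt (f40888 IH) (Lpe (f40889 IH) (Lpr_df (f710866 IH) (Lpe (f412133 IH) (Lpr_df (f412114 IH) (Lpr_gf (f9290 IH) (Lpn (LP (LK LD1_c11 LD2_c51 LD3_c41))))))))))))
theorem f54848 : Led Lsl_dt (LP (LK LD1_c4 LD2_c57 LD3_c60)) = (LP (LK LD1_c2 LD2_c26 LD3_c49)) :=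
  Lre_d IH (LK LD1_c4 LD2_c57 LD3_c60) (LK LD1_c2 LD2_c26 LD3_c49) Lrfl Lrfl
theorem f40903 : Led Lsl_gt (LP (LK LD1_c2 LD2_c26 LD3_c49)) = (LP (LK LD1_c4 LD2_c57 LD3_c58)) :=
  Lre_g IH (LK LD1_c2 LD2_c26 LD3_c49) (LK LD1_c4 LD2_c57 LD3_c58) Lrfl Lrfl
theorem f9272 : Led Lsl_gt (LP (LK LD1_c2 LD2_c43 LD3_c17)) = (LP (LK LD1_c4 LD2_c30 LD3_c41)) :=
  Lre_g IH (LK LD1_c2 LD2_c43 LD3_c17) (LK LD1_c4 LD2_c30 LD3_c41) Lrfl Lrfl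
def v4710 : LQ := Led Lsl_ct (LP (LK LD1_c2 LD2_c43 LD3_c17))
theorem f638610 : Led Lsl_ct (LP (LK LD1_c2 LD2_c43 LD3_c17)) = v4710 :=
  Lrfl
theorem f638611 : Led Lsl_cf (LP (LK LD1_c2 LD2_c43 LD3_c17)) = v4710 :=
  Lgr Lrot11 (Lpr_ct (f638610 IH) (Lpn v4710))
theorem f710874 : (LP (LK LD1_c4 LD2_c57 LD3_c58)) = v4710 :=
  (Llr Lrot9 (Lpe (f40903 IH) (Lpe (f54848 IH) (Lpr_gt (f171849 IH) (Lpr_ct (f710870 IH) (Lpe (f9290 IH) (Lpr_ct (K40.f9292 IH) (Lpe (K0.f9243 IH) (Lpe (K0.f9242 IH) (Lpe (f9272 IH) (Lpr_cf (f638611 IH) (Lpn v4710)))))))))))).symm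
theorem f412150 : Led Lsl_gt (LP (LK LD1_c2 LD2_c40 LD3_c2)) = (LP (LK LD1_c5 LD2_c27 LD3_c21)) :=
  Lre_g IH (LK LD1_c2 LD2_c40 LD3_c2) (LK LD1_c5 LD2_c27 LD3_c21) Lrfl Lrfl
theorem f40904 : Led Lsl_gf (LP (LK LD1_c7 LD2_c59 LD3_c50)) = (LP (LK LD1_c4 LD2_c57 LD3_c58)) :=
  Lgr Lrot76 (Lpr_af (K1.f40883 IH) (Lpe (K1.f40882 IH) (Lpr_gt (f40903 IH) (Lpn (LP (LK LD1_c4 LD2_c57 LD3_c58))))))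
theorem f55572 : Led Lsl_ft (LP (LK LD1_c4 LD2_c6 LD3_c7)) = (LP (LK LD1_c8 LD2_c12 LD3_c55)) :=
  Lre_f IH (LK LD1_c4 LD2_c6 LD3_c7) (LK LD1_c8 LD2_c12 LD3_c55) Lrfl Lrfl
theorem f55555 : Led Lsl_gt (LP (LK LD1_c4 LD2_c6 LD3_c7)) = (LP (LK LD1_c8 LD2_c12 LD3_c56)) :=
  Lre_g IH (LK LD1_c4 LD2_c6 LD3_c7) (LK LD1_c8 LD2_c12 LD3_c56) Lrfl Lrfl
theorem f55782 : Led Lsl_gt (LP (LK LD1_c8 LD2_c12 LD3_c56)) = (LP (LK LD1_c8 LD2_c14 LD3_c60)) :=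
  Lgr Lrot46 (Lpe (f55555 IH) (Lpr_ft (f55572 IH) (Lpr_at (K9.f55719 IH) (Lpn (LP (LK LD1_c8 LD2_c14 LD3_c60))))))
theorem f710888 : Led Lsl_ct (LP (LK LD1_c5 LD2_c27 LD3_c21)) = (LP (LK LD1_c8 LD2_c12 LD3_c56)) :=
  Lgr Lrot152 (Lpe (f412150 IH) (Lpe (f68843 IH) (Lpr_gt (f174228 IH) (Lpr_ct (f638610 IH) (Lpq (f710874 IH) (Lpe (f40904 IH) (Lpr_ct (K9.f140308 IH) (Lpe (K17.f55359 IH) (Lpr_cf (K9.f55749 IH) (Lpe (f55782 IH) (Lpn (LP (LK LD1_c8 LD2_c12 LD3_c56)))))))))))))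
theorem f9221 : Led Lsl_at (LP (LK LD1_c4 LD2_c30 LD3_c41)) = (LP (LK LD1_c2 LD2_c43 LD3_c19)) :=
  Lre_a IH (LK LD1_c4 LD2_c30 LD3_c41) (LK LD1_c2 LD2_c43 LD3_c19) Lrfl Lrfl
theorem f9239 : Led Lsl_at (LP (LK LD1_c5 LD2_c27 LD3_c23)) = (LP (LK LD1_c6 LD2_c6 LD3_c55)) :=
  Lgr Lrot51 (Lpe (K0.f9111 IH) (Lpe (f9221 IH) (Lpr_df (K0.f9218 IH) (Lpn (LP (LK LD1_c6 LD2_c6 LD3_c55))))))
theorem f446617 : Led Lsl_gt (LP (LK LD1_c5 LD2_c27 LD3_c21)) = (LP (LK LD1_c6 LD2_c6 LD3_c55)) :=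
  Lgr Lrot46 (Lpe (f412150 IH) (Lpr_ft (K0.f9056 IH) (Lpr_at (f9239 IH) (Lpn (LP (LK LD1_c6 LD2_c6 LD3_c55))))))
theorem f9262 : Led Lsl_dt (LP (LK LD1_c2 LD2_c43 LD3_c18)) = (LP (LK LD1_c5 LD2_c34 LD3_c49)) :=
  Lre_d IH (LK LD1_c2 LD2_c43 LD3_c18) (LK LD1_c5 LD2_c34 LD3_c49) Lrfl Lrfl
theorem f9265 : Led Lsl_ct (LP (LK LD1_c11 LD2_c1 LD3_c60)) = (LP (LK LD1_c5 LD2_c34 LD3_c49)) :=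
  Lre_c IH (LK LD1_c11 LD2_c1 LD3_c60) (LK LD1_c5 LD2_c34 LD3_c49) Lrfl Lrfl
theorem f553633 : Led Lsl_dt (LP (LK LD1_c8 LD2_c14 LD3_c60)) = (LP (LK LD1_c11 LD2_c10 LD3_c54)) :=
  Lgr Lrot42 (Lpr_df (f553625 IH) (Lpn (LP (LK LD1_c11 LD2_c10 LD3_c54))))
theorem f710892 : Led Lsl_df (LP (LK LD1_c11 LD2_c1 LD3_c60)) = (LP (LK LD1_c11 LD2_c12 LD3_c4)) :=
  Lgr Lrot174 (Lpr_ct (f9265 IH) (Lpe (f9262 IH) (Lpe (K52.f9261 IH) (Lpr_df (K0.f9218 IH) (Lpe (f446617 IH) (Lpr_ct (f710888 IH) (Lpr_gt (f55782 IH) (Lpr_dt (f553633 IH) (Lpr_gt (f707149 IH) (Lpn (LP (LK LD1_c11 LD2_c12 LD3_c4))))))))))))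
theorem f710896 : Led Lsl_dt (LP (LK LD1_c11 LD2_c1 LD3_c60)) = (LP (LK LD1_c11 LD2_c12 LD3_c4)) :=
  Lgr Lrot42 (Lpr_df (f710892 IH) (Lpn (LP (LK LD1_c11 LD2_c12 LD3_c4))))
theorem f710909 : Led Lsl_bf (LP (LK LD1_c11 LD2_c1 LD3_c60)) = (LP (LK LD1_c10 LD2_c18 LD3_c21)) :=
  Lgr Lrot93 (Lpr_dt (f710896 IH) (Lpr_bt (f225479 IH) (Lpe (K51.f225476 IH) (Lpn (LP (LK LD1_c10 LD2_c18 LD3_c21))))))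
theorem f406588 : Led Lsl_bt (LP (LK LD1_c10 LD2_c18 LD3_c20)) = (LP (LK LD1_c5 LD2_c14 LD3_c18)) :=
  Lre_b IH (LK LD1_c10 LD2_c18 LD3_c20) (LK LD1_c5 LD2_c14 LD3_c18) Lrfl Lrfl
theorem f710911 : Led Lsl_et (LP (LK LD1_c11 LD2_c1 LD3_c60)) = (LP (LK LD1_c10 LD2_c18 LD3_c20)) :=
  Lgr Lrot74 (Lpr_bf (f710909 IH) (Lpe (K51.f225478 IH) (Lpe (f406588 IH) (Lpn (LP (LK LD1_c10 LD2_c18 LD3_c20))))))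
theorem f9263 : Led Lsl_ct (LP (LK LD1_c5 LD2_c34 LD3_c49)) = (LP (LK LD1_c11 LD2_c1 LD3_c60)) :=
  Lre_c IH (LK LD1_c5 LD2_c34 LD3_c49) (LK LD1_c11 LD2_c1 LD3_c60) Lrfl Lrfl
theorem f710913 : Led Lsl_et (LP (LK LD1_c11 LD2_c1 LD3_c61)) = (LP (LK LD1_c5 LD2_c34 LD3_c49)) :=
  Lre_e IH (LK LD1_c11 LD2_c1 LD3_c61) (LK LD1_c5 LD2_c34 LD3_c49) Lrfl Lrfl
theorem f710914 : Led Lsl_cf (LP (LK LD1_c11 LD2_c1 LD3_c61)) = (LP (LK LD1_c10 LD2_c18 LD3_c20)) :=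
  Lgr Lrot39 (Lpr_et (f710913 IH) (Lpr_ct (f9263 IH) (Lpr_et (f710911 IH) (Lpn (LP (LK LD1_c10 LD2_c18 LD3_c20))))))
def v14218 : LQ := Led Lsl_ft (LP (LK LD1_c5 LD2_c3 LD3_c31))
theorem f721049 : Led Lsl_ft (LP (LK LD1_c5 LD2_c3 LD3_c31)) = v14218 :=
  Lrfl
theorem f721052 : Led Lsl_ff (LP (LK LD1_c5 LD2_c3 LD3_c31)) = v14218 :=
  Lgr Lrot3 (Lpr_ft (f721049 IH) (Lpn v14218))
theorem f721055 : Led Lsl_ct (LP (LK LD1_c5 LD2_c7 LD3_c29)) = v14218 :=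
  Lgr Lrot40 (Lpe (K18.f301816 IH) (Lpr_cf (f249923 IH) (Lpr_ff (f721052 IH) (Lpn v14218))))
theorem f722101 : Led Lsl_gt v14218 = v14350 :=
  Lgr Lrot149 (Lpe (f721055 IH) (Lpe (K51.f406586 IH) (Lpe (f406588 IH) (Lpe (f710914 IH) (Lpe (f198728 IH) (Lpr_cf (f198714 IH) (Lpr_bt (f198730 IH) (Lpe (f710748 IH) (Lpe (f193903 IH) (Lpr_ct (f722099 IH) (Lpn v14350)))))))))))
theorem f248825 : Led Lsl_at (LP (LK LD1_c5 LD2_c3 LD3_c31)) = (LP (LK LD1_c5 LD2_c10 LD3_c42)) :=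
  Lgr Lrot100 (Lpr_af (K14.f248823 IH) (Lpn (LP (LK LD1_c5 LD2_c10 LD3_c42))))
theorem f722102 : Led Lsl_gf (LP (LK LD1_c5 LD2_c10 LD3_c42)) = v14350 :=
  Lgr Lrot76 (Lpe (f248825 IH) (Lpr_ff (f721052 IH) (Lpr_gt (f722101 IH) (Lpn v14350))))
theorem f166207 : Led Lsl_gt (LP (LK LD1_c2 LD2_c30 LD3_c50)) = (LP (LK LD1_c5 LD2_c6 LD3_c60)) :=
  Lre_g IH (LK LD1_c2 LD2_c30 LD3_c50) (LK LD1_c5 LD2_c6 LD3_c60) Lrfl Lrfl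
theorem f645416 : Led Lsl_at (LP (LK LD1_c5 LD2_c13 LD3_c49)) = (LP (LK LD1_c5 LD2_c6 LD3_c60)) :=
  Lgr Lrot26 (Lpr_ff (f645411 IH) (Lpr_gt (K46.f166168 IH) (Lpr_gt (f166207 IH) (Lpn (LP (LK LD1_c5 LD2_c6 LD3_c60))))))
theorem f645418 : Led Lsl_af (LP (LK LD1_c5 LD2_c13 LD3_c49)) = (LP (LK LD1_c5 LD2_c6 LD3_c60)) :=
  Lgr Lrot0 (Lpr_at (f645416 IH) (Lpn (LP (LK LD1_c5 LD2_c6 LD3_c60))))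
theorem f166276 : Led Lsl_ct (LP (LK LD1_c10 LD2_c4 LD3_c38)) = (LP (LK LD1_c5 LD2_c6 LD3_c60)) :=
  Lre_c IH (LK LD1_c10 LD2_c4 LD3_c38) (LK LD1_c5 LD2_c6 LD3_c60) Lrfl Lrfl
theorem f723757 : Led Lsl_af (LP (LK LD1_c10 LD2_c4 LD3_c38)) = v14562 :=
  Lgr Lrot68 (Lpr_ct (f166276 IH) (Lpe (f645418 IH) (Lpr_ct (f723756 IH) (Lpn v14562))))
theorem f723761 : v14455 = (LP (LK LD1_c10 LD2_c4 LD3_c38)) :=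
  (Llr Lrot46 (Lpe (f722612 IH) (Lpr_gf (f722102 IH) (Lpr_ft (f723760 IH) (Lpe (f723757 IH) (Lpn (LP (LK LD1_c10 LD2_c4 LD3_c38)))))))).symm
theorem f723762 : Led Lsl_gt (LP (LK LD1_c5 LD2_c10 LD3_c42)) = (LP (LK LD1_c10 LD2_c4 LD3_c38)) :=
  Leop (Lpq (f723761 IH) (Lpe (f722612 IH) (Lpn (LP (LK LD1_c5 LD2_c10 LD3_c42)))))
theorem seed_842 : LEOK LG_g (LK LD1_c5 LD2_c10 LD3_c42) :=
  Leoe_g (LK LD1_c5 LD2_c10 LD3_c42) (f723762 IH)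
def v14564 : LQ := Led Lsl_ct (LP (LK LD1_c5 LD2_c13 LD3_c54))
theorem f723771 : Led Lsl_ct (LP (LK LD1_c5 LD2_c13 LD3_c54)) = v14564 :=
  Lrfl
theorem f569450 : Led Lsl_gt (LP (LK LD1_c2 LD2_c24 LD3_c47)) = (LP (LK LD1_c4 LD2_c7 LD3_c11)) :=
  Lgr Lrot82 (Lpe (K12.f31538 IH) (Lpr_ct (K9.f31449 IH) (Lpe (K10.f180257 IH) (Lpr_cf (K14.f180261 IH) (Lpr_bt (K39.f180263 IH) (Lpe (K45.f563644 IH) (Lpe (K8.f80998 IH) (Lpr_ct (K6.f81073 IH) (Lpe (K42.f81009 IH) (Lpr_cf (K42.f569434 IH) (Lpn (LP (LK LD1_c4 LD2_c7 LD3_c11)))))))))))))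
theorem f132767 : Led Lsl_ct (LP (LK LD1_c6 LD2_c16 LD3_c11)) = (LP (LK LD1_c3 LD2_c5 LD3_c10)) :=
  Lre_c IH (LK LD1_c6 LD2_c16 LD3_c11) (LK LD1_c3 LD2_c5 LD3_c10) Lrfl Lrfl
theorem f723775 : Led Lsl_gf (LP (LK LD1_c6 LD2_c16 LD3_c11)) = v14564 :=
  Lgr Lrot104 (Lpr_ct (f132767 IH) (Lpe (K8.f132779 IH) (Lpe (K8.f80997 IH) (Lpe (K42.f81009 IH) (Lpr_cf (K42.f569434 IH) (Lpe (f569450 IH) (Lpe (K12.f181097 IH) (Lpe (K42.f541273 IH) (Lpr_ct (f723771 IH) (Lpn v14564))))))))))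
theorem f606276 : Led Lsl_dt (LP (LK LD1_c6 LD2_c16 LD3_c11)) = (LP (LK LD1_c12 LD2_c9 LD3_c52)) :=
  Lre_d IH (LK LD1_c6 LD2_c16 LD3_c11) (LK LD1_c12 LD2_c9 LD3_c52) Lrfl Lrfl
theorem f308532 : Led Lsl_ct (LP (LK LD1_c10 LD2_c5 LD3_c10)) = (LP (LK LD1_c5 LD2_c7 LD3_c21)) :=
  Lre_c IH (LK LD1_c10 LD2_c5 LD3_c10) (LK LD1_c5 LD2_c7 LD3_c21) Lrfl Lrfl
theorem f308530 : Led Lsl_dt (LP (LK LD1_c18 LD2_c23 LD3_c56)) = (LP (LK LD1_c10 LD2_c5 LD3_c10)) :=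
  Lre_d IH (LK LD1_c18 LD2_c23 LD3_c56) (LK LD1_c10 LD2_c5 LD3_c10) Lrfl Lrfl
theorem f723776 : Led Lsl_gt (LP (LK LD1_c12 LD2_c9 LD3_c52)) = (LP (LK LD1_c18 LD2_c23 LD3_c56)) :=
  Lgr Lrot49 (Lpe (f606276 IH) (Lpr_gf (f723775 IH) (Lpe (f723771 IH) (Lpr_gt (K42.f541269 IH) (Lpe (K36.f177291 IH) (Lpe (K43.f288167 IH) (Lpr_dt (K43.f569487 IH) (Lpe (f308532 IH) (Lpe (f308530 IH) (Lpn (LP (LK LD1_c18 LD2_c23 LD3_c56))))))))))))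
theorem f723777 : Led Lsl_gt (LP (LK LD1_c12 LD2_c9 LD3_c52)) = (LP (LK LD1_c18 LD2_c23 LD3_c56)) :=
  Leop (Lpe (f723776 IH) (Lpn (LP (LK LD1_c12 LD2_c9 LD3_c52))))
theorem seed_843 : LEOK LG_g (LK LD1_c12 LD2_c9 LD3_c52) :=
  Leoe_g (LK LD1_c12 LD2_c9 LD3_c52) (f723777 IH)
def v14608 : LQ := Led Lsl_dt (LP (LK LD1_c5 LD2_c14 LD3_c41))
theorem f723987 : Led Lsl_dt (LP (LK LD1_c5 LD2_c14 LD3_c41)) = v14608 :=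
  Lrfl
theorem f723973 : Led Lsl_et (LP (LK LD1_c5 LD2_c14 LD3_c41)) = (LP (LK LD1_c10 LD2_c18 LD3_c53)) :=
  Lre_e IH (LK LD1_c5 LD2_c14 LD3_c41) (LK LD1_c10 LD2_c18 LD3_c53) Lrfl Lrfl
theorem f288113 : Led Lsl_af (LP (LK LD1_c2 LD2_c34 LD3_c9)) = (LP (LK LD1_c2 LD2_c31 LD3_c20)) :=
  Lgr Lrot50 (Lpr_et (K17.f164394 IH) (Lpr_at (K17.f288103 IH) (Lpr_et (K17.f165776 IH) (Lpn (LP (LK LD1_c2 LD2_c31 LD3_c20))))))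
theorem f180664 : Led Lsl_gt (LP (LK LD1_c5 LD2_c14 LD3_c41)) = (LP (LK LD1_c2 LD2_c34 LD3_c9)) :=
  Lre_g IH (LK LD1_c5 LD2_c14 LD3_c41) (LK LD1_c2 LD2_c34 LD3_c9) Lrfl Lrfl
theorem f165773 : Led Lsl_ft (LP (LK LD1_c5 LD2_c8 LD3_c16)) = (LP (LK LD1_c2 LD2_c31 LD3_c20)) :=
  Lre_f IH (LK LD1_c5 LD2_c8 LD3_c16) (LK LD1_c2 LD2_c31 LD3_c20) Lrfl Lrfl
theorem f408444 : Led Lsl_gf (LP (LK LD1_c5 LD2_c14 LD3_c41)) = (LP (LK LD1_c5 LD2_c8 LD3_c16)) :=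
  Lgr Lrot47 (Lpr_gt (f180664 IH) (Lpr_af (f288113 IH) (Lpe (f165773 IH) (Lpn (LP (LK LD1_c5 LD2_c8 LD3_c16))))))
theorem f225471 : Led Lsl_ft (LP (LK LD1_c2 LD2_c34 LD3_c7)) = (LP (LK LD1_c5 LD2_c14 LD3_c36)) :=
  Lre_f IH (LK LD1_c2 LD2_c34 LD3_c7) (LK LD1_c5 LD2_c14 LD3_c36) Lrfl Lrfl
theorem f288123 : Led Lsl_et (LP (LK LD1_c5 LD2_c14 LD3_c36)) = (LP (LK LD1_c5 LD2_c8 LD3_c16)) :=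
  Lgr Lrot69 (Lpe (f225471 IH) (Lpe (K12.f181101 IH) (Lpr_ff (K17.f288115 IH) (Lpe (K17.f22380 IH) (Lpe (f165773 IH) (Lpn (LP (LK LD1_c5 LD2_c8 LD3_c16))))))))
theorem f500018 : Led Lsl_et (LP (LK LD1_c5 LD2_c50 LD3_c26)) = (LP (LK LD1_c2 LD2_c51 LD3_c23)) :=
  Lre_e IH (LK LD1_c5 LD2_c50 LD3_c26) (LK LD1_c2 LD2_c51 LD3_c23) Lrfl Lrfl
theorem f622564 : Led Lsl_df (LP (LK LD1_c5 LD2_c50 LD3_c26)) = (LP (LK LD1_c5 LD2_c51 LD3_c55)) :=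
  Lgr Lrot70 (Lpr_et (f500018 IH) (Lpq (K45.f537651 IH) (Lpe (K49.f536249 IH) (Lpr_et (K35.f35539 IH) (Lpr_dt (f22375 IH) (Lpr_et (K41.f22378 IH) (Lpn (LP (LK LD1_c5 LD2_c51 LD3_c55)))))))))
theorem f723989 : Led Lsl_gf (LP (LK LD1_c5 LD2_c50 LD3_c26)) = v14608 :=
  Lgr Lrot134 (Lpr_df (f622564 IH) (Lpr_et (K49.f535818 IH) (Lpr_gt (K35.f24040 IH) (Lpr_ef (K48.f627873 IH) (Lpr_dt (K48.f165093 IH) (Lpe (K50.f288058 IH) (Lpe (K36.f225484 IH) (Lpr_et (f288123 IH) (Lpe (f408444 IH) (Lpr_dt (f723987 IH) (Lpn v14608)))))))))))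
def v3916 : LQ := Led Lsl_ct K35.v1121
theorem f627893 : Led Lsl_ct K35.v1121 = v3916 :=
  Lrfl
theorem f627894 : Led Lsl_cf K35.v1121 = v3916 :=
  Lgr Lrot11 (Lpr_ct (f627893 IH) (Lpn v3916))
def v3918 : LQ := Led Lsl_ct K35.v1122
theorem f627906 : Led Lsl_ct K35.v1122 = v3918 :=
  Lrfl
theorem f206517 : Led Lsl_ct (LP (LK LD1_c1 LD2_c4 LD3_c19)) = (LP (LK LD1_c0 LD2_c30 LD3_c55)) :=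
  Lgr Lrot59 (Lpr_cf (K24.f206513 IH) (Lpn (LP (LK LD1_c0 LD2_c30 LD3_c55))))
def v2832 : LQ := Led Lsl_ct K35.v351
theorem f535870 : Led Lsl_ct K35.v351 = v2832 :=
  Lrfl
theorem f535872 : Led Lsl_cf K35.v351 = v2832 :=
  Lgr Lrot11 (Lpr_ct (f535870 IH) (Lpn v2832))
theorem f627910 : Led Lsl_gf v2832 = v3918 :=
  Lgr Lrot104 (Lpe (f535872 IH) (Lpe (K35.f452359 IH) (Lpe (f206517 IH) (Lpr_gf (K49.f494348 IH) (Lpq (K49.f623415 IH) (Lpqs (K35.f623411 IH) (Lpe (K35.f491587 IH) (Lpr_gf (K32.f452350 IH) (Lpr_df (K35.f535838 IH) (Lpe (K35.f535845 IH) (Lpr_ct (f627906 IH) (Lpn v3918))))))))))))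
theorem f623432 : Led Lsl_ft K35.v2825 = K35.v1122 :=
  Lgr Lrot48 (Lpr_ff (K49.f623431 IH) (Lpn K35.v1122))
theorem f622782 : Led Lsl_ff K35.v1121 = K35.v2826 :=
  Lgr Lrot3 (Lpr_ft (K35.f622781 IH) (Lpn K35.v2826))
def v529 : LQ := Led Lsl_et (LP (LK LD1_c0 LD2_c43 LD3_c44))
def v3141 : LQ := Led Lsl_gf v529
theorem f624010 : Led Lsl_gf v529 = v3141 :=
  Lrfl
theorem f453794 : Led Lsl_et (LP (LK LD1_c0 LD2_c43 LD3_c44)) = v529 :=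
  Lrfl
theorem f152163 : Led Lsl_ct (LP (LK LD1_c0 LD2_c19 LD3_c31)) = (LP (LK LD1_c0 LD2_c43 LD3_c44)) :=
  Lre_c IH (LK LD1_c0 LD2_c19 LD3_c31) (LK LD1_c0 LD2_c43 LD3_c44) Lrfl Lrfl
theorem f450644 : Led Lsl_ef (LP (LK LD1_c0 LD2_c19 LD3_c31)) = K35.v133 :=
  Lgr Lrot73 (Lpr_dt (K7.f24282 IH) (Lpr_et (K7.f24954 IH) (Lpr_dt (K0.f23183 IH) (Lpr_et (K32.f24051 IH) (Lpr_dt (K35.f450642 IH) (Lpn K35.v133))))))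
theorem f453795 : Led Lsl_cf K35.v133 = v529 :=
  Lgr Lrot39 (Lpe (f450644 IH) (Lpr_ct (f152163 IH) (Lpr_et (f453794 IH) (Lpn v529))))
theorem f500222 : Led Lsl_cf (LP (LK LD1_c1 LD2_c22 LD3_c6)) = K35.v1588 :=
  Lgr Lrot11 (Lpr_ct (K35.f500221 IH) (Lpn K35.v1588))
theorem f491602 : Led Lsl_dt K29.v269 = K35.v1124 :=
  Lgr Lrot60 (Lpe (K29.f451471 IH) (Lpr_df (K35.f451468 IH) (Lpr_ff (K35.f491601 IH) (Lpn K35.v1124))))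
theorem f535827 : Led Lsl_gt K35.v1124 = K35.v2826 :=
  Lgr Lrot5 (Lpe (K35.f491601 IH) (Lpr_at (K35.f452339 IH) (Lpr_gf (K35.f535826 IH) (Lpn K35.v2826))))
theorem f624011 : Led Lsl_ct K35.v2826 = v3141 :=
  Lgr Lrot152 (Lpe (f535827 IH) (Lpe (f491602 IH) (Lpr_gt (K35.f452334 IH) (Lpq (K35.f535783 IH) (Lpe (f500222 IH) (Lpr_gt (K17.f20291 IH) (Lpr_ct (K24.f24022 IH) (Lpr_df (K35.f450643 IH) (Lpr_cf (f453795 IH) (Lpr_gf (f624010 IH) (Lpn v3141)))))))))))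
theorem f624012 : Led Lsl_cf K35.v2826 = v3141 :=
  Lgr Lrot11 (Lpr_ct (f624011 IH) (Lpn v3141))
theorem f627895 : Led Lsl_ff v3141 = v3916 :=
  Lgr Lrot23 (Lpe (f624012 IH) (Lpe (f622782 IH) (Lpr_ct (f627893 IH) (Lpn v3916))))
theorem f627897 : Led Lsl_ft v3141 = v3916 :=
  Lgr Lrot48 (Lpr_ff (f627895 IH) (Lpn v3916))
def v3140 : LQ := Led Lsl_gt v529
theorem f624009 : Led Lsl_gt v529 = v3140 :=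
  Lrfl
theorem f627898 : Led Lsl_af v3140 = v3916 :=
  Lgr Lrot31 (Lpe (f624009 IH) (Lpr_gf (f624010 IH) (Lpr_ft (f627897 IH) (Lpn v3916))))
theorem f627900 : Led Lsl_ct v3140 = K35.v2825 :=
  Lgr Lrot111 (Lpr_af (f627898 IH) (Lpe (f627893 IH) (Lpe (K49.f623429 IH) (Lpn K35.v2825))))
theorem f627909 : Led Lsl_ff v3140 = v3918 :=
  Lgr Lrot23 (Lpr_ct (f627900 IH) (Lpr_ft (f623432 IH) (Lpr_ct (f627906 IH) (Lpn v3918))))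
theorem f627899 : Led Lsl_at v3140 = v3916 :=
  Lgr Lrot100 (Lpr_af (f627898 IH) (Lpn v3916))
theorem f627912 : Led Lsl_gt v2832 = v3916 :=
  Lgr Lrot46 (Lpr_gf (f627910 IH) (Lpe (f627909 IH) (Lpr_at (f627899 IH) (Lpn v3916))))
def v2831 : LQ := Led Lsl_gf K35.v351
theorem f535862 : Led Lsl_gf K35.v351 = v2831 :=
  Lrfl
theorem f453967 : Led Lsl_ef (LP (LK LD1_c0 LD2_c44 LD3_c40)) = K35.v555 :=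
  Lgr Lrot88 (Lpr_et (K35.f453966 IH) (Lpn K35.v555))
theorem f535865 : Led Lsl_dt K35.v555 = v2831 :=
  Lgr Lrot136 (Lpe (f453967 IH) (Lpe (K24.f57129 IH) (Lpe (K1.f56743 IH) (Lpr_dt (K6.f57534 IH) (Lpe (K1.f57573 IH) (Lpe (K0.f25155 IH) (Lpr_gf (K5.f57596 IH) (Lpe (K24.f57602 IH) (Lpr_dt (K35.f452359 IH) (Lpr_gf (f535862 IH) (Lpn v2831)))))))))))
theorem f535867 : Led Lsl_df K35.v555 = v2831 :=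
  Lgr Lrot38 (Lpr_dt (f535865 IH) (Lpn v2831))
theorem f507129 : Led Lsl_ef (LP (LK LD1_c3 LD2_c14 LD3_c29)) = (LP (LK LD1_c4 LD2_c41 LD3_c9)) :=
  Lgr Lrot88 (Lpr_et (K35.f507125 IH) (Lpn (LP (LK LD1_c4 LD2_c41 LD3_c9))))
theorem f507163 : Led Lsl_gf K35.v1375 = K35.v555 :=
  Lgr Lrot141 (Lpe (K35.f495198 IH) (Lpr_dt (K32.f135608 IH) (Lpe (K32.f415925 IH) (Lpr_df (K35.f438691 IH) (Lpe (f507129 IH) (Lpr_gt (K35.f507139 IH) (Lpe (K35.f438679 IH) (Lpr_gt (K32.f416856 IH) (Lpe (K24.f57130 IH) (Lpr_et (K35.f453966 IH) (Lpn K35.v555)))))))))))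
theorem f629288 : Led Lsl_ct K35.v1375 = K48.v4072 :=
  Lgr Lrot15 (Lpe (K35.f495198 IH) (Lpe (K32.f444581 IH) (Lpr_ef (K48.f629286 IH) (Lpn K48.v4072))))
theorem f636370 : Led Lsl_gt K48.v4072 = K48.v4603 :=
  Lgr Lrot150 (Lpe (f629288 IH) (Lpr_gf (f507163 IH) (Lpr_df (f535867 IH) (Lpe (f535862 IH) (Lpr_ct (f535870 IH) (Lpr_gt (f627912 IH) (Lpe (f627894 IH) (Lpr_df (K35.f622779 IH) (Lpr_cf (f636366 IH) (Lpn K48.v4603))))))))))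
theorem f623728 : Led Lsl_et (LP (LK LD1_c2 LD2_c34 LD3_c12)) = (LP (LK LD1_c5 LD2_c14 LD3_c48)) :=
  Lre_e IH (LK LD1_c2 LD2_c34 LD3_c12) (LK LD1_c5 LD2_c14 LD3_c48) Lrfl Lrfl
theorem f723990 : Led Lsl_gf (LP (LK LD1_c10 LD2_c18 LD3_c53)) = (LP (LK LD1_c5 LD2_c14 LD3_c48)) :=
  Lgr Lrot141 (Lpe (f723973 IH) (Lpr_dt (f723987 IH) (Lpe (f723989 IH) (Lpr_df (f622564 IH) (Lpr_et (K49.f535818 IH) (Lpr_gt (K35.f24040 IH) (Lpr_dt (K48.f629289 IH) (Lpr_gt (f636370 IH) (Lpe (K48.f636361 IH) (Lpr_et (f623728 IH) (Lpn (LP (LK LD1_c5 LD2_c14 LD3_c48)))))))))))))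
theorem f723991 : Led Lsl_gt (LP (LK LD1_c5 LD2_c14 LD3_c48)) = (LP (LK LD1_c10 LD2_c18 LD3_c53)) :=
  Leop (Lpr_gf (f723990 IH) (Lpn (LP (LK LD1_c5 LD2_c14 LD3_c48))))
theorem seed_844 : LEOK LG_g (LK LD1_c5 LD2_c14 LD3_c48) :=
  Leoe_g (LK LD1_c5 LD2_c14 LD3_c48) (f723991 IH)
def v14620 : LQ := Led Lsl_ft (LP (LK LD1_c5 LD2_c14 LD3_c50))
theorem f724039 : Led Lsl_ft (LP (LK LD1_c5 LD2_c14 LD3_c50)) = v14620 :=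
  Lrfl
theorem f724042 : Led Lsl_ff (LP (LK LD1_c5 LD2_c14 LD3_c50)) = v14620 :=
  Lgr Lrot3 (Lpr_ft (f724039 IH) (Lpn v14620))
theorem f496143 : Led Lsl_et (LP (LK LD1_c2 LD2_c34 LD3_c13)) = (LP (LK LD1_c5 LD2_c14 LD3_c50)) :=
  Lre_e IH (LK LD1_c2 LD2_c34 LD3_c13) (LK LD1_c5 LD2_c14 LD3_c50) Lrfl Lrfl
theorem f623721 : Led Lsl_af (LP (LK LD1_c5 LD2_c8 LD3_c24)) = (LP (LK LD1_c5 LD2_c14 LD3_c50)) :=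
  Lgr Lrot50 (Lpr_et (f22379 IH) (Lpr_at (K35.f623716 IH) (Lpr_et (f496143 IH) (Lpn (LP (LK LD1_c5 LD2_c14 LD3_c50))))))
theorem f724046 : Led Lsl_gf (LP (LK LD1_c10 LD2_c6 LD3_c50)) = v14620 :=
  Lgr Lrot47 (Lpe (f722187 IH) (Lpr_af (f623721 IH) (Lpr_ff (f724042 IH) (Lpn v14620))))
theorem f494064 : Led Lsl_gt (LP (LK LD1_c5 LD2_c40 LD3_c0)) = (LP (LK LD1_c11 LD2_c10 LD3_c56)) :=
  Lre_g IH (LK LD1_c5 LD2_c40 LD3_c0) (LK LD1_c11 LD2_c10 LD3_c56) Lrfl Lrfl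
theorem f164393 : Led Lsl_et (LP (LK LD1_c5 LD2_c14 LD3_c50)) = (LP (LK LD1_c2 LD2_c34 LD3_c13)) :=
  Lre_e IH (LK LD1_c5 LD2_c14 LD3_c50) (LK LD1_c2 LD2_c34 LD3_c13) Lrfl Lrfl
theorem f622458 : Led Lsl_et (LP (LK LD1_c2 LD2_c31 LD3_c23)) = (LP (LK LD1_c5 LD2_c8 LD3_c22)) :=
  Lre_e IH (LK LD1_c2 LD2_c31 LD3_c23) (LK LD1_c5 LD2_c8 LD3_c22) Lrfl Lrfl
theorem f622460 : Led Lsl_ft (LP (LK LD1_c5 LD2_c8 LD3_c22)) = (LP (LK LD1_c10 LD2_c7 LD3_c12)) :=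
  Lre_f IH (LK LD1_c5 LD2_c8 LD3_c22) (LK LD1_c10 LD2_c7 LD3_c12) Lrfl Lrfl
theorem f724045 : Led Lsl_et (LP (LK LD1_c10 LD2_c7 LD3_c12)) = v14620 :=
  Lgr Lrot69 (Lpe (f622460 IH) (Lpe (f622458 IH) (Lpr_ff (f623741 IH) (Lpe (f164393 IH) (Lpr_ff (f724042 IH) (Lpn v14620))))))
theorem f724047 : Led Lsl_df (LP (LK LD1_c11 LD2_c10 LD3_c56)) = (LP (LK LD1_c10 LD2_c7 LD3_c12)) :=
  Lgr Lrot168 (Lpe (f494064 IH) (Lpr_df (K50.f622426 IH) (Lpr_et (K19.f177353 IH) (Lpr_gf (K14.f250016 IH) (Lpe (K36.f61306 IH) (Lpr_dt (K36.f61323 IH) (Lpe (f61326 IH) (Lpe (f250026 IH) (Lpr_gf (f724046 IH) (Lpe (f724045 IH) (Lpn (LP (LK LD1_c10 LD2_c7 LD3_c12)))))))))))))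
theorem f724048 : Led Lsl_dt (LP (LK LD1_c10 LD2_c7 LD3_c12)) = (LP (LK LD1_c11 LD2_c10 LD3_c56)) :=
  Leop (Lpr_df (f724047 IH) (Lpn (LP (LK LD1_c10 LD2_c7 LD3_c12))))
theorem seed_845 : LEOK LG_d (LK LD1_c10 LD2_c7 LD3_c12) :=
  Leoe_d (LK LD1_c10 LD2_c7 LD3_c12) (f724048 IH)
theorem f724054 : Led Lsl_ft (LP (LK LD1_c11 LD2_c10 LD3_c56)) = (LP (LK LD1_c5 LD2_c40 LD3_c12)) :=
  Lgr Lrot54 (Lpr_df (f724047 IH) (Lpe (f622460 IH) (Lpe (K50.f622456 IH) (Lpn (LP (LK LD1_c5 LD2_c40 LD3_c12))))))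
theorem f724058 : Led Lsl_ff (LP (LK LD1_c11 LD2_c10 LD3_c56)) = (LP (LK LD1_c5 LD2_c40 LD3_c12)) :=
  Lgr Lrot3 (Lpr_ft (f724054 IH) (Lpn (LP (LK LD1_c5 LD2_c40 LD3_c12))))
theorem f495601 : Led Lsl_gt (LP (LK LD1_c2 LD2_c46 LD3_c0)) = (LP (LK LD1_c5 LD2_c40 LD3_c11)) :=
  Lre_g IH (LK LD1_c2 LD2_c46 LD3_c0) (LK LD1_c5 LD2_c40 LD3_c11) Lrfl Lrfl
theorem f724064 : Led Lsl_at (LP (LK LD1_c11 LD2_c10 LD3_c56)) = (LP (LK LD1_c5 LD2_c40 LD3_c11)) :=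
  Lgr Lrot26 (Lpr_ff (f724058 IH) (Lpr_gt (K50.f452503 IH) (Lpr_gt (f495601 IH) (Lpn (LP (LK LD1_c5 LD2_c40 LD3_c11))))))
theorem f164570 : Led Lsl_et (LP (LK LD1_c5 LD2_c14 LD3_c48)) = (LP (LK LD1_c2 LD2_c34 LD3_c12)) :=
  Lre_e IH (LK LD1_c5 LD2_c14 LD3_c48) (LK LD1_c2 LD2_c34 LD3_c12) Lrfl Lrfl
theorem f623735 : Led Lsl_at (LP (LK LD1_c5 LD2_c8 LD3_c22)) = (LP (LK LD1_c5 LD2_c14 LD3_c48)) :=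
  Lgr Lrot80 (Lpe (f622458 IH) (Lpr_af (f623730 IH) (Lpe (f164570 IH) (Lpn (LP (LK LD1_c5 LD2_c14 LD3_c48))))))
theorem f164571 : Led Lsl_dt (LP (LK LD1_c5 LD2_c14 LD3_c48)) = (LP (LK LD1_c10 LD2_c19 LD3_c0)) :=
  Lre_d IH (LK LD1_c5 LD2_c14 LD3_c48) (LK LD1_c10 LD2_c19 LD3_c0) Lrfl Lrfl
theorem f623750 : Led Lsl_af (LP (LK LD1_c5 LD2_c40 LD3_c12)) = (LP (LK LD1_c10 LD2_c19 LD3_c0)) :=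
  Lgr Lrot117 (Lpr_dt (K50.f622456 IH) (Lpr_at (f623735 IH) (Lpr_dt (f164571 IH) (Lpn (LP (LK LD1_c10 LD2_c19 LD3_c0))))))
theorem f724073 : Led Lsl_ff (LP (LK LD1_c10 LD2_c19 LD3_c0)) = (LP (LK LD1_c5 LD2_c40 LD3_c11)) :=
  Lgr Lrot30 (Lpe (f623750 IH) (Lpe (f724058 IH) (Lpr_at (f724064 IH) (Lpn (LP (LK LD1_c5 LD2_c40 LD3_c11))))))
theorem f636257 : Led Lsl_ft K35.v1533 = K50.v4584 :=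
  Lgr Lrot48 (Lpr_ff (f636255 IH) (Lpn K50.v4584))
theorem f636371 : Led Lsl_at K50.v4584 = K48.v4603 :=
  Lgr Lrot26 (Lpe (f636257 IH) (Lpr_gt (K48.f629287 IH) (Lpr_gt (f636370 IH) (Lpn K48.v4603))))
def v1534 : LQ := Led Lsl_ft (LP (LK LD1_c1 LD2_c21 LD3_c14))
theorem f496145 : Led Lsl_ft (LP (LK LD1_c1 LD2_c21 LD3_c14)) = v1534 :=
  Lrfl
theorem f506546 : Led Lsl_ft (LP (LK LD1_c1 LD2_c32 LD3_c3)) = K35.v1950 :=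
  Lgr Lrot4 (Lpe (K32.f155863 IH) (Lpr_ff (K35.f453620 IH) (Lpr_cf (K35.f506544 IH) (Lpn K35.v1950))))
theorem f506547 : Led Lsl_ff (LP (LK LD1_c1 LD2_c32 LD3_c3)) = K35.v1950 :=
  Lgr Lrot3 (Lpr_ft (f506546 IH) (Lpn K35.v1950))
theorem f622814 : (LP (LK LD1_c1 LD2_c32 LD3_c3)) = v1534 :=
  Lefun (Lecon (Lfl_ff (f506547 IH)) (K35.f622797 IH)) (f496145 IH)
theorem f636256 : Led Lsl_et (LP (LK LD1_c3 LD2_c21 LD3_c31)) = K50.v4584 :=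
  Lgr Lrot69 (Lpe (f623404 IH) (Lpe (K32.f414847 IH) (Lpqs (f622814 IH) (Lpe (f496145 IH) (Lpr_ef (K35.f496138 IH) (Lpr_ff (f636255 IH) (Lpn K50.v4584)))))))
theorem f509784 : Led Lsl_ct (LP (LK LD1_c3 LD2_c21 LD3_c31)) = K32.v2233 :=
  Lgr Lrot8 (Lpr_gt (K24.f23212 IH) (Lpr_dt (K16.f413623 IH) (Lpr_gt (K17.f413638 IH) (Lpr_dt (K2.f73672 IH) (Lpe (K9.f68324 IH) (Lpr_df (K9.f73734 IH) (Lpe (K11.f13561 IH) (Lpe (K9.f13570 IH) (Lpr_gf (K32.f509783 IH) (Lpn K32.v2233))))))))))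
theorem f510420 : Led Lsl_at K35.v1960 = K35.v2237 :=
  Lgr Lrot66 (Lpe (K35.f506608 IH) (Lpr_af (K35.f506603 IH) (Lpr_ff (K35.f510417 IH) (Lpn K35.v2237))))
theorem f623436 : Led Lsl_af (LP (LK LD1_c3 LD2_c21 LD3_c31)) = v2187 :=
  Lgr Lrot68 (Lpr_ct (f509784 IH) (Lpq (K35.f623406 IH) (Lpr_at (f510420 IH) (Lpe (f510419 IH) (Lpn v2187)))))
theorem f636372 : Led Lsl_ef v2187 = K48.v4603 :=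
  Lgr Lrot20 (Lpe (f623436 IH) (Lpr_et (f636256 IH) (Lpr_at (f636371 IH) (Lpn K48.v4603))))
theorem f622439 : Led Lsl_dt (LP (LK LD1_c10 LD2_c19 LD3_c0)) = (LP (LK LD1_c5 LD2_c14 LD3_c48)) :=
  Lre_d IH (LK LD1_c10 LD2_c19 LD3_c0) (LK LD1_c5 LD2_c14 LD3_c48) Lrfl Lrfl
theorem f672158 : Led Lsl_ef (LP (LK LD1_c10 LD2_c19 LD3_c0)) = v8742 :=
  Lgr Lrot73 (Lpr_dt (f622439 IH) (Lpr_et (f164570 IH) (Lpr_dt (K48.f636361 IH) (Lpe (f636372 IH) (Lpr_dt (f672154 IH) (Lpn v8742))))))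
theorem f672165 : Led Lsl_et (LP (LK LD1_c10 LD2_c19 LD3_c0)) = v8742 :=
  Lgr Lrot87 (Lpr_ef (f672158 IH) (Lpn v8742))
theorem f623438 : Led Lsl_ft (LP (LK LD1_c2 LD2_c50 LD3_c31)) = v2187 :=
  Lgr Lrot101 (Lpe (K35.f623147 IH) (Lpr_ff (K35.f623398 IH) (Lpr_af (f623436 IH) (Lpn v2187))))
theorem f672159 : Led Lsl_ff (LP (LK LD1_c5 LD2_c48 LD3_c59)) = v8742 :=
  Lgr Lrot19 (Lpr_dt (K24.f413514 IH) (Lpr_ft (f623438 IH) (Lpr_dt (f672154 IH) (Lpn v8742))))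
theorem f415033 : Led Lsl_et (LP (LK LD1_c5 LD2_c48 LD3_c59)) = (LP (LK LD1_c11 LD2_c27 LD3_c19)) :=
  Lre_e IH (LK LD1_c5 LD2_c48 LD3_c59) (LK LD1_c11 LD2_c27 LD3_c19) Lrfl Lrfl
theorem f622388 : Led Lsl_et (LP (LK LD1_c11 LD2_c11 LD3_c12)) = (LP (LK LD1_c5 LD2_c40 LD3_c11)) :=
  Lre_e IH (LK LD1_c11 LD2_c11 LD3_c12) (LK LD1_c5 LD2_c40 LD3_c11) Lrfl Lrfl
theorem f724079 : Led Lsl_ft (LP (LK LD1_c11 LD2_c27 LD3_c19)) = (LP (LK LD1_c11 LD2_c11 LD3_c12)) :=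
  Lgr Lrot86 (Lpe (f415033 IH) (Lpr_ff (f672159 IH) (Lpe (f672165 IH) (Lpr_ff (f724073 IH) (Lpe (f622388 IH) (Lpn (LP (LK LD1_c11 LD2_c11 LD3_c12))))))))
theorem f724080 : Led Lsl_ft (LP (LK LD1_c11 LD2_c27 LD3_c19)) = (LP (LK LD1_c11 LD2_c11 LD3_c12)) :=
  Leop (Lpe (f724079 IH) (Lpn (LP (LK LD1_c11 LD2_c27 LD3_c19))))
theorem seed_846 : LEOK LG_f (LK LD1_c11 LD2_c27 LD3_c19) :=
  Leoe_f (LK LD1_c11 LD2_c27 LD3_c19) (f724080 IH)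
def v14628 : LQ := Led Lsl_gt (LP (LK LD1_c5 LD2_c15 LD3_c1))
theorem f724123 : Led Lsl_gt (LP (LK LD1_c5 LD2_c15 LD3_c1)) = v14628 :=
  Lrfl
theorem f183943 : Led Lsl_gt (LP (LK LD1_c26 LD2_c32 LD3_c6)) = (LP (LK LD1_c16 LD2_c34 LD3_c40)) :=
  Lre_g IH (LK LD1_c26 LD2_c32 LD3_c6) (LK LD1_c16 LD2_c34 LD3_c40) Lrfl Lrfl
theorem f724126 : Led Lsl_cf (LP (LK LD1_c5 LD2_c17 LD3_c21)) = v14628 :=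
  Lgr Lrot169 (Lpr_gt (K16.f274829 IH) (Lpr_ct (K14.f183680 IH) (Lpr_df (K15.f184070 IH) (Lpr_cf (K15.f231886 IH) (Lpr_gf (K21.f257359 IH) (Lpr_cf (K13.f231973 IH) (Lpe (K15.f257095 IH) (Lpe (K15.f216159 IH) (Lpr_gt (f724123 IH) (Lpn v14628))))))))))
theorem f183816 : Led Lsl_gt (LP (LK LD1_c11 LD2_c54 LD3_c55)) = (LP (LK LD1_c20 LD2_c59 LD3_c33)) :=
  Lre_g IH (LK LD1_c11 LD2_c54 LD3_c55) (LK LD1_c20 LD2_c59 LD3_c33) Lrfl Lrfl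
theorem f274837 : Led Lsl_bt (LP (LK LD1_c29 LD2_c48 LD3_c0)) = (LP (LK LD1_c20 LD2_c59 LD3_c33)) :=
  Lre_b IH (LK LD1_c29 LD2_c48 LD3_c0) (LK LD1_c20 LD2_c59 LD3_c33) Lrfl Lrfl
theorem f724127 : Led Lsl_cf (LP (LK LD1_c26 LD2_c32 LD3_c6)) = (LP (LK LD1_c29 LD2_c48 LD3_c0)) :=
  Lgr Lrot160 (Lpr_gt (f183943 IH) (Lpr_cf (K14.f212235 IH) (Lpr_bt (K14.f232037 IH) (Lpr_gt (f724123 IH) (Lpe (f724126 IH) (Lpr_gt (K16.f274829 IH) (Lpe (K14.f183674 IH) (Lpr_bt (K42.f183815 IH) (Lpr_gt (f183816 IH) (Lpe (f274837 IH) (Lpn (LP (LK LD1_c29 LD2_c48 LD3_c0)))))))))))))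
theorem f724128 : Led Lsl_ct (LP (LK LD1_c29 LD2_c48 LD3_c0)) = (LP (LK LD1_c26 LD2_c32 LD3_c6)) :=
  Leop (Lpr_cf (f724127 IH) (Lpn (LP (LK LD1_c29 LD2_c48 LD3_c0))))
theorem seed_847 : LEOK LG_c (LK LD1_c29 LD2_c48 LD3_c0) :=
  Leoe_c (LK LD1_c29 LD2_c48 LD3_c0) (f724128 IH)
def v14639 : LQ := Led Lsl_ct (LP (LK LD1_c5 LD2_c16 LD3_c4))
theorem f724200 : Led Lsl_ct (LP (LK LD1_c5 LD2_c16 LD3_c4)) = v14639 :=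
  Lrfl
theorem f48506 : Led Lsl_gt (LP (LK LD1_c2 LD2_c34 LD3_c51)) = (LP (LK LD1_c5 LD2_c16 LD3_c4)) :=
  Lre_g IH (LK LD1_c2 LD2_c34 LD3_c51) (LK LD1_c5 LD2_c16 LD3_c4) Lrfl Lrfl
theorem f48396 : Led Lsl_bt (LP (LK LD1_c1 LD2_c14 LD3_c25)) = (LP (LK LD1_c2 LD2_c34 LD3_c51)) :=
  Lre_b IH (LK LD1_c1 LD2_c14 LD3_c25) (LK LD1_c2 LD2_c34 LD3_c51) Lrfl Lrfl
theorem f215031 : Led Lsl_gt (LP (LK LD1_c10 LD2_c21 LD3_c10)) = (LP (LK LD1_c5 LD2_c15 LD3_c54)) :=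
  Lre_g IH (LK LD1_c10 LD2_c21 LD3_c10) (LK LD1_c5 LD2_c15 LD3_c54) Lrfl Lrfl
theorem f215250 : Led Lsl_bt (LP (LK LD1_c18 LD2_c47 LD3_c15)) = (LP (LK LD1_c10 LD2_c21 LD3_c10)) :=
  Lre_b IH (LK LD1_c18 LD2_c47 LD3_c15) (LK LD1_c10 LD2_c21 LD3_c10) Lrfl Lrfl
theorem f721192 : Led Lsl_ff (LP (LK LD1_c5 LD2_c4 LD3_c13)) = v14251 :=
  Lgr Lrot3 (Lpr_ft (f721191 IH) (Lpn v14251))
def v14476 : LQ := Led Lsl_ft (LP (LK LD1_c5 LD2_c11 LD3_c10))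
theorem f722745 : Led Lsl_ft (LP (LK LD1_c5 LD2_c11 LD3_c10)) = v14476 :=
  Lrfl
def v14475 : LQ := Led Lsl_at (LP (LK LD1_c5 LD2_c11 LD3_c10))
theorem f722741 : Led Lsl_at (LP (LK LD1_c5 LD2_c11 LD3_c10)) = v14475 :=
  Lrfl
theorem f722742 : Led Lsl_af (LP (LK LD1_c5 LD2_c11 LD3_c10)) = v14475 :=
  Lgr Lrot0 (Lpr_at (f722741 IH) (Lpn v14475))
theorem f722743 : Led Lsl_ft (LP (LK LD1_c5 LD2_c11 LD3_c11)) = v14475 :=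
  Lgr Lrot2 (Lpr_gt (K37.f185202 IH) (Lpr_gt (K44.f185195 IH) (Lpr_af (f722742 IH) (Lpn v14475))))
theorem f722746 : Led Lsl_af (LP (LK LD1_c5 LD2_c11 LD3_c11)) = v14476 :=
  Lgr Lrot45 (Lpr_ft (f722743 IH) (Lpe (f722742 IH) (Lpr_ft (f722745 IH) (Lpn v14476))))
theorem f100064 : Led Lsl_af (LP (LK LD1_c9 LD2_c9 LD3_c61)) = (LP (LK LD1_c4 LD2_c40 LD3_c2)) :=
  Lgr Lrot0 (Lpr_at (K6.f100054 IH) (Lpn (LP (LK LD1_c4 LD2_c40 LD3_c2))))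
theorem f80006 : Led Lsl_dt (LP (LK LD1_c9 LD2_c15 LD3_c13)) = (LP (LK LD1_c4 LD2_c40 LD3_c2)) :=
  Lre_d IH (LK LD1_c9 LD2_c15 LD3_c13) (LK LD1_c4 LD2_c40 LD3_c2) Lrfl Lrfl
theorem f547922 : Led Lsl_at (LP (LK LD1_c16 LD2_c59 LD3_c58)) = (LP (LK LD1_c9 LD2_c15 LD3_c13)) :=
  Lgr Lrot51 (Lpr_df (K36.f547920 IH) (Lpr_af (f100064 IH) (Lpe (f80006 IH) (Lpn (LP (LK LD1_c9 LD2_c15 LD3_c13))))))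
theorem f547932 : Led Lsl_ft (LP (LK LD1_c9 LD2_c7 LD3_c45)) = (LP (LK LD1_c16 LD2_c59 LD3_c58)) :=
  Lre_f IH (LK LD1_c9 LD2_c7 LD3_c45) (LK LD1_c16 LD2_c59 LD3_c58) Lrfl Lrfl
theorem f723183 : Led Lsl_gt (LP (LK LD1_c9 LD2_c7 LD3_c45)) = (LP (LK LD1_c10 LD2_c17 LD3_c16)) :=
  Lgr Lrot5 (Lpr_ft (f547932 IH) (Lpr_at (f547922 IH) (Lpr_gf (f723181 IH) (Lpn (LP (LK LD1_c10 LD2_c17 LD3_c16))))))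
theorem f186555 : Led Lsl_gt (LP (LK LD1_c10 LD2_c17 LD3_c45)) = (LP (LK LD1_c5 LD2_c13 LD3_c47)) :=
  Lre_g IH (LK LD1_c10 LD2_c17 LD3_c45) (LK LD1_c5 LD2_c13 LD3_c47) Lrfl Lrfl
theorem f249901 : Led Lsl_at (LP (LK LD1_c5 LD2_c3 LD3_c54)) = (LP (LK LD1_c9 LD2_c58 LD3_c42)) :=
  Lre_a IH (LK LD1_c5 LD2_c3 LD3_c54) (LK LD1_c9 LD2_c58 LD3_c42) Lrfl Lrfl
theorem f249902 : Led Lsl_at (LP (LK LD1_c10 LD2_c11 LD3_c61)) = (LP (LK LD1_c5 LD2_c10 LD3_c40)) :=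
  Lre_a IH (LK LD1_c10 LD2_c11 LD3_c61) (LK LD1_c5 LD2_c10 LD3_c40) Lrfl Lrfl
theorem f249903 : Led Lsl_ft (LP (LK LD1_c9 LD2_c58 LD3_c42)) = (LP (LK LD1_c10 LD2_c11 LD3_c61)) :=
  Lgr Lrot101 (Lpe (f249901 IH) (Lpr_ff (K14.f249897 IH) (Lpe (f249902 IH) (Lpn (LP (LK LD1_c10 LD2_c11 LD3_c61))))))
theorem f699330 : Led Lsl_ct (LP (LK LD1_c10 LD2_c11 LD3_c61)) = (LP (LK LD1_c10 LD2_c17 LD3_c46)) :=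
  Lgr Lrot40 (Lpe (f249903 IH) (Lpe (f249859 IH) (Lpr_ff (f699326 IH) (Lpn (LP (LK LD1_c10 LD2_c17 LD3_c46))))))
theorem f248964 : Led Lsl_dt (LP (LK LD1_c5 LD2_c10 LD3_c39)) = (LP (LK LD1_c10 LD2_c11 LD3_c61)) :=
  Lre_d IH (LK LD1_c5 LD2_c10 LD3_c39) (LK LD1_c10 LD2_c11 LD3_c61) Lrfl Lrfl
theorem f350999 : Led Lsl_bt (LP (LK LD1_c5 LD2_c11 LD3_c21)) = (LP (LK LD1_c5 LD2_c4 LD3_c14)) :=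
  Lgr Lrot35 (Lpr_ff (K44.f307943 IH) (Lpr_bf (K15.f267978 IH) (Lpr_ff (K37.f350992 IH) (Lpn (LP (LK LD1_c5 LD2_c4 LD3_c14))))))
theorem f307964 : Led Lsl_ct (LP (LK LD1_c10 LD2_c13 LD3_c15)) = (LP (LK LD1_c5 LD2_c11 LD3_c21)) :=
  Lre_c IH (LK LD1_c10 LD2_c13 LD3_c15) (LK LD1_c5 LD2_c11 LD3_c21) Lrfl Lrfl
theorem f351093 : Led Lsl_bt (LP (LK LD1_c16 LD2_c35 LD3_c35)) = (LP (LK LD1_c10 LD2_c13 LD3_c15)) :=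
  Lgr Lrot128 (Lpr_cf (K44.f351053 IH) (Lpr_bf (K37.f307659 IH) (Lpe (K44.f307576 IH) (Lpe (f350999 IH) (Lpe (f307964 IH) (Lpn (LP (LK LD1_c10 LD2_c13 LD3_c15))))))))
theorem f351095 : Led Lsl_ff (LP (LK LD1_c9 LD2_c58 LD3_c58)) = (LP (LK LD1_c10 LD2_c13 LD3_c15)) :=
  Lgr Lrot25 (Lpr_bt (K15.f247613 IH) (Lpe (K37.f351055 IH) (Lpr_bt (f351093 IH) (Lpn (LP (LK LD1_c10 LD2_c13 LD3_c15))))))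
theorem f170055 : Led Lsl_at (LP (LK LD1_c9 LD2_c58 LD3_c58)) = (LP (LK LD1_c5 LD2_c4 LD3_c4)) :=
  Lre_a IH (LK LD1_c9 LD2_c58 LD3_c58) (LK LD1_c5 LD2_c4 LD3_c4) Lrfl Lrfl
theorem f165449 : Led Lsl_gt (LP (LK LD1_c9 LD2_c58 LD3_c61)) = (LP (LK LD1_c5 LD2_c4 LD3_c4)) :=
  Lre_g IH (LK LD1_c9 LD2_c58 LD3_c61) (LK LD1_c5 LD2_c4 LD3_c4) Lrfl Lrfl
theorem f351099 : Led Lsl_gf (LP (LK LD1_c9 LD2_c58 LD3_c61)) = (LP (LK LD1_c10 LD2_c13 LD3_c15)) :=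
  Lgr Lrot47 (Lpr_gt (f165449 IH) (Lpe (f170055 IH) (Lpr_ff (f351095 IH) (Lpn (LP (LK LD1_c10 LD2_c13 LD3_c15))))))
theorem f165593 : Led Lsl_bt (LP (LK LD1_c9 LD2_c58 LD3_c37)) = (LP (LK LD1_c5 LD2_c3 LD3_c51)) :=
  Lre_b IH (LK LD1_c9 LD2_c58 LD3_c37) (LK LD1_c5 LD2_c3 LD3_c51) Lrfl Lrfl
theorem f165448 : Led Lsl_ct (LP (LK LD1_c2 LD2_c29 LD3_c29)) = (LP (LK LD1_c5 LD2_c4 LD3_c4)) :=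
  Lre_c IH (LK LD1_c2 LD2_c29 LD3_c29) (LK LD1_c5 LD2_c4 LD3_c4) Lrfl Lrfl
theorem f165594 : Led Lsl_ct (LP (LK LD1_c9 LD2_c58 LD3_c37)) = (LP (LK LD1_c9 LD2_c58 LD3_c61)) :=
  Lgr Lrot64 (Lpr_bt (f165593 IH) (Lpe (f165589 IH) (Lpe (K37.f165588 IH) (Lpr_ct (K8.f163667 IH) (Lpr_gf (K8.f165581 IH) (Lpe (K9.f163651 IH) (Lpe (K9.f165442 IH) (Lpe (K15.f165446 IH) (Lpr_ct (f165448 IH) (Lpe (f165449 IH) (Lpn (LP (LK LD1_c9 LD2_c58 LD3_c61)))))))))))))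
theorem f405325 : Led Lsl_gf (LP (LK LD1_c5 LD2_c10 LD3_c39)) = (LP (LK LD1_c5 LD2_c3 LD3_c51)) :=
  Lgr Lrot181 (Lpr_ct (K14.f248959 IH) (Lpr_gt (K44.f405319 IH) (Lpe (K44.f185200 IH) (Lpr_bt (K44.f185199 IH) (Lpr_gt (K44.f405288 IH) (Lpe (f350999 IH) (Lpr_ct (K37.f351014 IH) (Lpe (f351099 IH) (Lpe (f165594 IH) (Lpr_bt (f165593 IH) (Lpn (LP (LK LD1_c5 LD2_c3 LD3_c51)))))))))))))
theorem f586245 : Led Lsl_dt (LP (LK LD1_c19 LD2_c1 LD3_c54)) = (LP (LK LD1_c18 LD2_c39 LD3_c12)) :=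
  Lgr Lrot42 (Lpr_df (K45.f586243 IH) (Lpn (LP (LK LD1_c18 LD2_c39 LD3_c12))))
theorem f258064 : Led Lsl_gt (LP (LK LD1_c5 LD2_c12 LD3_c17)) = (LP (LK LD1_c2 LD2_c32 LD3_c58)) :=
  Lre_g IH (LK LD1_c5 LD2_c12 LD3_c17) (LK LD1_c2 LD2_c32 LD3_c58) Lrfl Lrfl
theorem f258065 : Led Lsl_ct (LP (LK LD1_c10 LD2_c15 LD3_c14)) = (LP (LK LD1_c5 LD2_c12 LD3_c17)) :=
  Lre_c IH (LK LD1_c10 LD2_c15 LD3_c14) (LK LD1_c5 LD2_c12 LD3_c17) Lrfl Lrfl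
theorem f586268 : Led Lsl_gt (LP (LK LD1_c18 LD2_c39 LD3_c12)) = (LP (LK LD1_c10 LD2_c15 LD3_c14)) :=
  Lgr Lrot9 (Lpe (f586245 IH) (Lpr_gt (K45.f586256 IH) (Lpr_ct (K44.f214621 IH) (Lpr_gt (K44.f583748 IH) (Lpr_ct (K44.f249370 IH) (Lpe (K45.f186806 IH) (Lpe (K44.f186793 IH) (Lpe (f258064 IH) (Lpe (f258065 IH) (Lpn (LP (LK LD1_c10 LD2_c15 LD3_c14))))))))))))
theorem f604172 : Led Lsl_gf (LP (LK LD1_c18 LD2_c39 LD3_c13)) = (LP (LK LD1_c10 LD2_c15 LD3_c14)) :=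
  Lgr Lrot76 (Lpe (K45.f586192 IH) (Lpr_ff (K45.f586235 IH) (Lpr_gt (f586268 IH) (Lpn (LP (LK LD1_c10 LD2_c15 LD3_c14))))))
theorem f586165 : Led Lsl_dt (LP (LK LD1_c18 LD2_c39 LD3_c13)) = (LP (LK LD1_c19 LD2_c1 LD3_c57)) :=
  Lgr Lrot6 (Lpr_gt (K44.f300642 IH) (Lpr_ct (K44.f300641 IH) (Lpr_gt (K44.f300637 IH) (Lpr_ct (K18.f300577 IH) (Lpe (K18.f300570 IH) (Lpr_cf (K44.f582675 IH) (Lpr_gf (K44.f197111 IH) (Lpe (K44.f584295 IH) (Lpr_gf (K44.f586154 IH) (Lpn (LP (LK LD1_c19 LD2_c1 LD3_c57))))))))))))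
theorem f405299 : Led Lsl_dt (LP (LK LD1_c10 LD2_c12 LD3_c53)) = (LP (LK LD1_c5 LD2_c11 LD3_c10)) :=
  Lre_d IH (LK LD1_c10 LD2_c12 LD3_c53) (LK LD1_c5 LD2_c11 LD3_c10) Lrfl Lrfl
theorem f406492 : Led Lsl_ct (LP (LK LD1_c5 LD2_c12 LD3_c17)) = (LP (LK LD1_c10 LD2_c15 LD3_c14)) :=
  Lre_c IH (LK LD1_c5 LD2_c12 LD3_c17) (LK LD1_c10 LD2_c15 LD3_c14) Lrfl Lrfl
theorem f604174 : Led Lsl_gf (LP (LK LD1_c10 LD2_c12 LD3_c53)) = (LP (LK LD1_c5 LD2_c11 LD3_c45)) :=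
  Lgr Lrot143 (Lpr_dt (f405299 IH) (Lpe (K44.f185206 IH) (Lpe (K44.f185251 IH) (Lpr_gf (K44.f586154 IH) (Lpe (f586165 IH) (Lpr_gf (f604172 IH) (Lpe (f406492 IH) (Lpr_gt (f258064 IH) (Lpe (K44.f406485 IH) (Lpn (LP (LK LD1_c5 LD2_c11 LD3_c45))))))))))))
theorem f604178 : Led Lsl_bt (LP (LK LD1_c18 LD2_c35 LD3_c46)) = (LP (LK LD1_c10 LD2_c12 LD3_c53)) :=
  Lre_b IH (LK LD1_c18 LD2_c35 LD3_c46) (LK LD1_c10 LD2_c12 LD3_c53) Lrfl Lrfl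
theorem f185183 : Led Lsl_bt (LP (LK LD1_c2 LD2_c32 LD3_c46)) = (LP (LK LD1_c5 LD2_c11 LD3_c45)) :=
  Lre_b IH (LK LD1_c2 LD2_c32 LD3_c46) (LK LD1_c5 LD2_c11 LD3_c45) Lrfl Lrfl
theorem f177209 : Led Lsl_bt (LP (LK LD1_c5 LD2_c3 LD3_c7)) = (LP (LK LD1_c2 LD2_c29 LD3_c6)) :=
  Lre_b IH (LK LD1_c5 LD2_c3 LD3_c7) (LK LD1_c2 LD2_c29 LD3_c6) Lrfl Lrfl
theorem f177228 : Led Lsl_ct (LP (LK LD1_c5 LD2_c3 LD3_c7)) = (LP (LK LD1_c9 LD2_c57 LD3_c8)) :=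
  Lre_c IH (LK LD1_c5 LD2_c3 LD3_c7) (LK LD1_c9 LD2_c57 LD3_c8) Lrfl Lrfl
theorem f177288 : Led Lsl_gt (LP (LK LD1_c18 LD2_c12 LD3_c53)) = (LP (LK LD1_c9 LD2_c57 LD3_c8)) :=
  Lre_g IH (LK LD1_c18 LD2_c12 LD3_c53) (LK LD1_c9 LD2_c57 LD3_c8) Lrfl Lrfl
theorem f604179 : Led Lsl_ct (LP (LK LD1_c18 LD2_c35 LD3_c46)) = (LP (LK LD1_c18 LD2_c12 LD3_c53)) :=
  Lgr Lrot64 (Lpr_bt (f604178 IH) (Lpr_gf (f604174 IH) (Lpe (f185183 IH) (Lpr_ct (K10.f185165 IH) (Lpe (K10.f185158 IH) (Lpr_cf (K20.f71543 IH) (Lpe (K19.f249931 IH) (Lpe (f177209 IH) (Lpr_ct (f177228 IH) (Lpe (f177288 IH) (Lpn (LP (LK LD1_c18 LD2_c12 LD3_c53)))))))))))))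
theorem f604183 : Led Lsl_cf (LP (LK LD1_c18 LD2_c35 LD3_c46)) = (LP (LK LD1_c18 LD2_c12 LD3_c53)) :=
  Lgr Lrot11 (Lpr_ct (f604179 IH) (Lpn (LP (LK LD1_c18 LD2_c12 LD3_c53))))
theorem f185239 : Led Lsl_dt (LP (LK LD1_c10 LD2_c12 LD3_c51)) = (LP (LK LD1_c18 LD2_c35 LD3_c46)) :=
  Lre_d IH (LK LD1_c10 LD2_c12 LD3_c51) (LK LD1_c18 LD2_c35 LD3_c46) Lrfl Lrfl
theorem f177280 : Led Lsl_at (LP (LK LD1_c18 LD2_c12 LD3_c49)) = (LP (LK LD1_c9 LD2_c57 LD3_c8)) :=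
  Lre_a IH (LK LD1_c18 LD2_c12 LD3_c49) (LK LD1_c9 LD2_c57 LD3_c8) Lrfl Lrfl
theorem f299909 : Led Lsl_gf (LP (LK LD1_c18 LD2_c12 LD3_c53)) = (LP (LK LD1_c18 LD2_c32 LD3_c31)) :=
  Lgr Lrot47 (Lpr_gt (f177288 IH) (Lpe (f177280 IH) (Lpr_ff (K32.f299898 IH) (Lpn (LP (LK LD1_c18 LD2_c32 LD3_c31))))))
theorem f177210 : Led Lsl_ct (LP (LK LD1_c9 LD2_c57 LD3_c8)) = (LP (LK LD1_c5 LD2_c3 LD3_c7)) :=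
  Lre_c IH (LK LD1_c9 LD2_c57 LD3_c8) (LK LD1_c5 LD2_c3 LD3_c7) Lrfl Lrfl
theorem f299916 : Led Lsl_ft (LP (LK LD1_c5 LD2_c3 LD3_c7)) = (LP (LK LD1_c5 LD2_c9 LD3_c57)) :=
  Lgr Lrot4 (Lpe (f177210 IH) (Lpr_ff (K32.f299912 IH) (Lpe (f180589 IH) (Lpn (LP (LK LD1_c5 LD2_c9 LD3_c57))))))
theorem f169656 : Led Lsl_gt (LP (LK LD1_c5 LD2_c3 LD3_c7)) = (LP (LK LD1_c9 LD2_c57 LD3_c6)) :=
  Lre_g IH (LK LD1_c5 LD2_c3 LD3_c7) (LK LD1_c9 LD2_c57 LD3_c6) Lrfl Lrfl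
theorem f299921 : Led Lsl_at (LP (LK LD1_c5 LD2_c9 LD3_c57)) = (LP (LK LD1_c10 LD2_c10 LD3_c39)) :=
  Lre_a IH (LK LD1_c5 LD2_c9 LD3_c57) (LK LD1_c10 LD2_c10 LD3_c39) Lrfl Lrfl
theorem f299928 : Led Lsl_gt (LP (LK LD1_c9 LD2_c57 LD3_c6)) = (LP (LK LD1_c10 LD2_c10 LD3_c39)) :=
  Lgr Lrot46 (Lpe (f169656 IH) (Lpr_ft (f299916 IH) (Lpr_at (f299921 IH) (Lpn (LP (LK LD1_c10 LD2_c10 LD3_c39))))))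
theorem f604187 : Led Lsl_df (LP (LK LD1_c5 LD2_c3 LD3_c51)) = (LP (LK LD1_c9 LD2_c57 LD3_c6)) :=
  Lgr Lrot155 (Lpe (f405325 IH) (Lpr_ct (K14.f248959 IH) (Lpr_gt (K44.f405319 IH) (Lpe (K44.f185211 IH) (Lpr_dt (f185239 IH) (Lpr_cf (f604183 IH) (Lpr_gf (f299909 IH) (Lpe (K32.f299883 IH) (Lpe (f299928 IH) (Lpn (LP (LK LD1_c9 LD2_c57 LD3_c6))))))))))))
theorem f177229 : Led Lsl_gt (LP (LK LD1_c9 LD2_c57 LD3_c8)) = (LP (LK LD1_c18 LD2_c12 LD3_c52)) :=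
  Lre_g IH (LK LD1_c9 LD2_c57 LD3_c8) (LK LD1_c18 LD2_c12 LD3_c52) Lrfl Lrfl
theorem f699390 : Led Lsl_dt (LP (LK LD1_c18 LD2_c12 LD3_c52)) = (LP (LK LD1_c10 LD2_c17 LD3_c45)) :=
  Lgr Lrot115 (Lpe (f177229 IH) (Lpr_ct (f177210 IH) (Lpr_gt (f169656 IH) (Lpe (f604187 IH) (Lpe (f405325 IH) (Lpr_dt (f248964 IH) (Lpr_ct (f699330 IH) (Lpe (f542410 IH) (Lpe (f186555 IH) (Lpn (LP (LK LD1_c10 LD2_c17 LD3_c45))))))))))))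
theorem f723200 : Led Lsl_et (LP (LK LD1_c18 LD2_c12 LD3_c52)) = (LP (LK LD1_c10 LD2_c17 LD3_c16)) :=
  Lgr Lrot122 (Lpr_dt (f699390 IH) (Lpr_gt (f186555 IH) (Lpe (f542412 IH) (Lpr_et (f542409 IH) (Lpe (K42.f570262 IH) (Lpr_dt (K42.f542790 IH) (Lpe (K38.f547179 IH) (Lpe (K45.f547904 IH) (Lpr_et (K36.f547906 IH) (Lpr_gt (f723183 IH) (Lpn (LP (LK LD1_c10 LD2_c17 LD3_c16)))))))))))))
theorem f723210 : Led Lsl_ef (LP (LK LD1_c18 LD2_c12 LD3_c52)) = (LP (LK LD1_c10 LD2_c17 LD3_c16)) :=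
  Lgr Lrot88 (Lpr_et (f723200 IH) (Lpn (LP (LK LD1_c10 LD2_c17 LD3_c16))))
theorem f719638 : Led Lsl_ff (LP (LK LD1_c9 LD2_c15 LD3_c11)) = (LP (LK LD1_c9 LD2_c12 LD3_c26)) :=
  Lgr Lrot3 (Lpr_ft (f719634 IH) (Lpn (LP (LK LD1_c9 LD2_c12 LD3_c26))))
theorem f723177 : Led Lsl_at (LP (LK LD1_c9 LD2_c15 LD3_c11)) = (LP (LK LD1_c10 LD2_c17 LD3_c16)) :=
  Lgr Lrot66 (Lpr_ff (f719638 IH) (Lpe (f719642 IH) (Lpr_ff (f723175 IH) (Lpn (LP (LK LD1_c10 LD2_c17 LD3_c16))))))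
theorem f723212 : Led Lsl_at (LP (LK LD1_c18 LD2_c12 LD3_c52)) = (LP (LK LD1_c17 LD2_c9 LD3_c47)) :=
  Lgr Lrot80 (Lpr_ef (f723210 IH) (Lpe (f723177 IH) (Lpe (f562744 IH) (Lpn (LP (LK LD1_c17 LD2_c9 LD3_c47))))))
theorem f723230 : Led Lsl_ff (LP (LK LD1_c18 LD2_c12 LD3_c52)) = (LP (LK LD1_c18 LD2_c32 LD3_c35)) :=
  Lgr Lrot52 (Lpr_at (f723212 IH) (Lpr_gf (f714499 IH) (Lpr_gf (f299918 IH) (Lpn (LP (LK LD1_c18 LD2_c32 LD3_c35))))))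
theorem f723238 : Led Lsl_ft (LP (LK LD1_c18 LD2_c12 LD3_c52)) = (LP (LK LD1_c18 LD2_c32 LD3_c35)) :=
  Lgr Lrot48 (Lpr_ff (f723230 IH) (Lpn (LP (LK LD1_c18 LD2_c32 LD3_c35))))
theorem f180737 : Led Lsl_at (LP (LK LD1_c10 LD2_c10 LD3_c42)) = (LP (LK LD1_c18 LD2_c32 LD3_c31)) :=
  Lre_a IH (LK LD1_c10 LD2_c10 LD3_c42) (LK LD1_c18 LD2_c32 LD3_c31) Lrfl Lrfl
theorem f299905 : Led Lsl_ft (LP (LK LD1_c9 LD2_c57 LD3_c8)) = (LP (LK LD1_c10 LD2_c10 LD3_c42)) :=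
  Lgr Lrot101 (Lpe (f177280 IH) (Lpr_ff (K32.f299898 IH) (Lpe (f180737 IH) (Lpn (LP (LK LD1_c10 LD2_c10 LD3_c42))))))
theorem f299956 : Led Lsl_gt (LP (LK LD1_c18 LD2_c12 LD3_c52)) = (LP (LK LD1_c18 LD2_c32 LD3_c31)) :=
  Lgr Lrot46 (Lpe (f177229 IH) (Lpr_ft (f299905 IH) (Lpr_at (f180737 IH) (Lpn (LP (LK LD1_c18 LD2_c32 LD3_c31))))))
theorem f723246 : Led Lsl_af (LP (LK LD1_c18 LD2_c12 LD3_c53)) = (LP (LK LD1_c18 LD2_c32 LD3_c35)) :=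
  Lgr Lrot31 (Lpr_gf (f299909 IH) (Lpe (f299956 IH) (Lpr_ft (f723238 IH) (Lpn (LP (LK LD1_c18 LD2_c32 LD3_c35))))))
theorem f723171 : Led Lsl_af (LP (LK LD1_c9 LD2_c15 LD3_c11)) = (LP (LK LD1_c10 LD2_c17 LD3_c16)) :=
  Lgr Lrot45 (Lpr_ft (f719634 IH) (Lpe (f719640 IH) (Lpr_ft (f723169 IH) (Lpn (LP (LK LD1_c10 LD2_c17 LD3_c16))))))
theorem f562749 : Led Lsl_et (LP (LK LD1_c9 LD2_c15 LD3_c11)) = (LP (LK LD1_c17 LD2_c9 LD3_c47)) :=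
  Lre_e IH (LK LD1_c9 LD2_c15 LD3_c11) (LK LD1_c17 LD2_c9 LD3_c47) Lrfl Lrfl
theorem f723204 : Led Lsl_af (LP (LK LD1_c18 LD2_c12 LD3_c52)) = (LP (LK LD1_c17 LD2_c9 LD3_c47)) :=
  Lgr Lrot50 (Lpr_et (f723200 IH) (Lpe (f723171 IH) (Lpr_et (f562749 IH) (Lpn (LP (LK LD1_c17 LD2_c9 LD3_c47))))))
theorem f723252 : Led Lsl_ft (LP (LK LD1_c18 LD2_c12 LD3_c53)) = (LP (LK LD1_c17 LD2_c9 LD3_c47)) :=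
  Lgr Lrot101 (Lpr_af (f723246 IH) (Lpe (f723238 IH) (Lpr_af (f723204 IH) (Lpn (LP (LK LD1_c17 LD2_c9 LD3_c47))))))
theorem f723256 : Led Lsl_ff (LP (LK LD1_c18 LD2_c12 LD3_c53)) = (LP (LK LD1_c17 LD2_c9 LD3_c47)) :=
  Lgr Lrot3 (Lpr_ft (f723252 IH) (Lpn (LP (LK LD1_c17 LD2_c9 LD3_c47))))
theorem f723258 : Led Lsl_ft (LP (LK LD1_c18 LD2_c35 LD3_c46)) = (LP (LK LD1_c18 LD2_c15 LD3_c40)) :=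
  Lgr Lrot4 (Lpr_cf (f604183 IH) (Lpr_ff (f723256 IH) (Lpr_cf (f714493 IH) (Lpn (LP (LK LD1_c18 LD2_c15 LD3_c40))))))
theorem f171638 : Led Lsl_dt (LP (LK LD1_c18 LD2_c15 LD3_c40)) = (LP (LK LD1_c9 LD2_c59 LD3_c15)) :=
  Lre_d IH (LK LD1_c18 LD2_c15 LD3_c40) (LK LD1_c9 LD2_c59 LD3_c15) Lrfl Lrfl
theorem f723264 : Led Lsl_ff (LP (LK LD1_c10 LD2_c12 LD3_c51)) = (LP (LK LD1_c9 LD2_c59 LD3_c15)) :=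
  Lgr Lrot19 (Lpr_dt (f185239 IH) (Lpr_ft (f723258 IH) (Lpr_dt (f171638 IH) (Lpn (LP (LK LD1_c9 LD2_c59 LD3_c15))))))
theorem f723272 : v14476 = (LP (LK LD1_c5 LD2_c4 LD3_c12)) :=
  (Llr Lrot75 (Lpe (f722745 IH) (Lpe (K44.f185199 IH) (Lpr_ff (f723264 IH) (Lpe (f171634 IH) (Lpn (LP (LK LD1_c5 LD2_c4 LD3_c12)))))))).symm
theorem f723273 : (LP (LK LD1_c5 LD2_c11 LD3_c11)) = v14251 :=
  Lefun (Lecon (Lfl_af (f722746 IH)) (f723272 IH)) (f721189 IH)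
theorem f214625 : Led Lsl_dt (LP (LK LD1_c10 LD2_c12 LD3_c57)) = (LP (LK LD1_c5 LD2_c11 LD3_c11)) :=
  Lre_d IH (LK LD1_c10 LD2_c12 LD3_c57) (LK LD1_c5 LD2_c11 LD3_c11) Lrfl Lrfl
def v14254 : LQ := Led Lsl_dt (LP (LK LD1_c5 LD2_c4 LD3_c13))
theorem f721205 : Led Lsl_dt (LP (LK LD1_c5 LD2_c4 LD3_c13)) = v14254 :=
  Lrfl
theorem f723288 : Led Lsl_ff (LP (LK LD1_c10 LD2_c12 LD3_c57)) = v14254 :=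
  Lgr Lrot19 (Lpr_dt (f214625 IH) (Lpqs (f723273 IH) (Lpe (f721192 IH) (Lpr_dt (f721205 IH) (Lpn v14254)))))
theorem f582780 : Led Lsl_dt (LP (LK LD1_c9 LD2_c59 LD3_c24)) = (LP (LK LD1_c9 LD2_c39 LD3_c32)) :=
  Lgr Lrot42 (Lpr_df (K44.f582778 IH) (Lpn (LP (LK LD1_c9 LD2_c39 LD3_c32))))
theorem f248116 : Led Lsl_bt (LP (LK LD1_c5 LD2_c6 LD3_c11)) = (LP (LK LD1_c10 LD2_c3 LD3_c21)) :=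
  Lre_b IH (LK LD1_c5 LD2_c6 LD3_c11) (LK LD1_c10 LD2_c3 LD3_c21) Lrfl Lrfl
theorem f544774 : Led Lsl_gt (LP (LK LD1_c9 LD2_c39 LD3_c32)) = (LP (LK LD1_c10 LD2_c3 LD3_c21)) :=
  Lgr Lrot164 (Lpe (K44.f43545 IH) (Lpr_ct (K9.f43500 IH) (Lpr_gf (K12.f212308 IH) (Lpe (K20.f212318 IH) (Lpr_gf (K12.f46274 IH) (Lpr_bf (K37.f544764 IH) (Lpr_ct (K14.f46377 IH) (Lpr_gf (K14.f190634 IH) (Lpr_cf (K14.f248092 IH) (Lpr_bt (f248116 IH) (Lpn (LP (LK LD1_c10 LD2_c3 LD3_c21)))))))))))))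
theorem f169590 : Led Lsl_dt (LP (LK LD1_c10 LD2_c3 LD3_c21)) = (LP (LK LD1_c5 LD2_c6 LD3_c10)) :=
  Lre_d IH (LK LD1_c10 LD2_c3 LD3_c21) (LK LD1_c5 LD2_c6 LD3_c10) Lrfl Lrfl
theorem f721207 : Led Lsl_gf (LP (LK LD1_c5 LD2_c4 LD3_c39)) = v14254 :=
  Lgr Lrot143 (Lpe (K44.f169608 IH) (Lpe (f169589 IH) (Lpe (f169590 IH) (Lpe (f544774 IH) (Lpe (f582780 IH) (Lpe (K38.f405304 IH) (Lpe (K38.f267981 IH) (Lpr_gt (K44.f351009 IH) (Lpr_dt (f721205 IH) (Lpn v14254))))))))))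
theorem f723291 : Led Lsl_at (LP (LK LD1_c10 LD2_c12 LD3_c57)) = (LP (LK LD1_c9 LD2_c59 LD3_c17)) :=
  Lgr Lrot26 (Lpr_ff (f723288 IH) (Lpe (f721207 IH) (Lpr_gt (K44.f583604 IH) (Lpn (LP (LK LD1_c9 LD2_c59 LD3_c17))))))
theorem f583815 : Led Lsl_bt (LP (LK LD1_c18 LD2_c35 LD3_c55)) = (LP (LK LD1_c10 LD2_c12 LD3_c57)) :=
  Lre_b IH (LK LD1_c18 LD2_c35 LD3_c55) (LK LD1_c10 LD2_c12 LD3_c57) Lrfl Lrfl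
theorem f583617 : Led Lsl_bt (LP (LK LD1_c9 LD2_c59 LD3_c17)) = (LP (LK LD1_c18 LD2_c15 LD3_c40)) :=
  Lre_b IH (LK LD1_c9 LD2_c59 LD3_c17) (LK LD1_c18 LD2_c15 LD3_c40) Lrfl Lrfl
theorem f343384 : Led Lsl_dt (LP (LK LD1_c9 LD2_c59 LD3_c39)) = (LP (LK LD1_c18 LD2_c16 LD3_c13)) :=
  Lre_d IH (LK LD1_c9 LD2_c59 LD3_c39) (LK LD1_c18 LD2_c16 LD3_c13) Lrfl Lrfl
theorem f343369 : Led Lsl_dt (LP (LK LD1_c18 LD2_c37 LD3_c16)) = (LP (LK LD1_c10 LD2_c13 LD3_c51)) :=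
  Lre_d IH (LK LD1_c18 LD2_c37 LD3_c16) (LK LD1_c10 LD2_c13 LD3_c51) Lrfl Lrfl
theorem f343400 : Led Lsl_bt (LP (LK LD1_c18 LD2_c16 LD3_c13)) = (LP (LK LD1_c18 LD2_c37 LD3_c16)) :=
  Lgr Lrot95 (Lpe (f343384 IH) (Lpr_bf (f343375 IH) (Lpe (f343369 IH) (Lpn (LP (LK LD1_c18 LD2_c37 LD3_c16))))))
theorem f343402 : Led Lsl_bf (LP (LK LD1_c18 LD2_c16 LD3_c13)) = (LP (LK LD1_c18 LD2_c37 LD3_c16)) :=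
  Lgr Lrot24 (Lpr_bt (f343400 IH) (Lpn (LP (LK LD1_c18 LD2_c37 LD3_c16))))
theorem f35063 : Led Lsl_ct (LP (LK LD1_c2 LD2_c35 LD3_c7)) = (LP (LK LD1_c5 LD2_c16 LD3_c8)) :=
  Lre_c IH (LK LD1_c2 LD2_c35 LD3_c7) (LK LD1_c5 LD2_c16 LD3_c8) Lrfl Lrfl
theorem f163866 : Led Lsl_ct (LP (LK LD1_c5 LD2_c4 LD3_c23)) = (LP (LK LD1_c9 LD2_c59 LD3_c41)) :=
  Lre_c IH (LK LD1_c5 LD2_c4 LD3_c23) (LK LD1_c9 LD2_c59 LD3_c41) Lrfl Lrfl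
theorem f343377 : Led Lsl_gf (LP (LK LD1_c5 LD2_c16 LD3_c8)) = (LP (LK LD1_c9 LD2_c59 LD3_c41)) :=
  Lgr Lrot129 (Lpe (f35063 IH) (Lpr_bt (f32583 IH) (Lpe (K10.f165602 IH) (Lpe (K44.f165608 IH) (Lpr_ct (K14.f165612 IH) (Lpr_gt (K37.f166894 IH) (Lpr_cf (f343364 IH) (Lpe (f343375 IH) (Lpr_gt (f343374 IH) (Lpr_ct (f163866 IH) (Lpn (LP (LK LD1_c9 LD2_c59 LD3_c41)))))))))))))
theorem f35038 : Led Lsl_ct (LP (LK LD1_c5 LD2_c16 LD3_c8)) = (LP (LK LD1_c2 LD2_c35 LD3_c7)) :=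
  Lre_c IH (LK LD1_c5 LD2_c16 LD3_c8) (LK LD1_c2 LD2_c35 LD3_c7) Lrfl Lrfl
theorem f35052 : Led Lsl_ct (LP (LK LD1_c9 LD2_c7 LD3_c48)) = (LP (LK LD1_c4 LD2_c35 LD3_c46)) :=
  Lre_c IH (LK LD1_c9 LD2_c7 LD3_c48) (LK LD1_c4 LD2_c35 LD3_c46) Lrfl Lrfl
theorem f343381 : Led Lsl_dt (LP (LK LD1_c18 LD2_c16 LD3_c13)) = (LP (LK LD1_c9 LD2_c59 LD3_c39)) :=
  Lre_d IH (LK LD1_c18 LD2_c16 LD3_c13) (LK LD1_c9 LD2_c59 LD3_c39) Lrfl Lrfl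
theorem f343382 : Led Lsl_gf (LP (LK LD1_c10 LD2_c0 LD3_c10)) = (LP (LK LD1_c18 LD2_c16 LD3_c13)) :=
  Lgr Lrot147 (Lpe (K10.f177217 IH) (Lpr_gt (K10.f35054 IH) (Lpr_ct (f35052 IH) (Lpr_df (K44.f35031 IH) (Lpe (f35038 IH) (Lpr_gf (f343377 IH) (Lpe (f163866 IH) (Lpe (f343374 IH) (Lpe (f343381 IH) (Lpn (LP (LK LD1_c18 LD2_c16 LD3_c13))))))))))))
theorem f343404 : Led Lsl_cf (LP (LK LD1_c18 LD2_c12 LD3_c52)) = (LP (LK LD1_c18 LD2_c37 LD3_c16)) :=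
  Lgr Lrot58 (Lpe (f177229 IH) (Lpe (f177228 IH) (Lpr_bt (f177209 IH) (Lpe (K10.f165826 IH) (Lpe (K10.f35017 IH) (Lpr_ct (K10.f35036 IH) (Lpe (K10.f35054 IH) (Lpr_cf (K10.f177217 IH) (Lpr_gf (f343382 IH) (Lpr_bf (f343402 IH) (Lpn (LP (LK LD1_c18 LD2_c37 LD3_c16)))))))))))))
theorem f723226 : Led Lsl_af (LP (LK LD1_c18 LD2_c37 LD3_c16)) = (LP (LK LD1_c18 LD2_c15 LD3_c40)) :=
  Lgr Lrot68 (Lpe (f343404 IH) (Lpr_at (f723212 IH) (Lpr_ct (f714491 IH) (Lpn (LP (LK LD1_c18 LD2_c15 LD3_c40))))))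
theorem f723295 : Led Lsl_af (LP (LK LD1_c18 LD2_c35 LD3_c55)) = (LP (LK LD1_c18 LD2_c16 LD3_c13)) :=
  Lgr Lrot36 (Lpr_bt (f583815 IH) (Lpr_at (f723291 IH) (Lpr_bt (f583617 IH) (Lpe (f723226 IH) (Lpe (f343402 IH) (Lpn (LP (LK LD1_c18 LD2_c16 LD3_c13))))))))
theorem f230221 : Led Lsl_dt (LP (LK LD1_c18 LD2_c35 LD3_c55)) = (LP (LK LD1_c10 LD2_c12 LD3_c55)) :=
  Lre_d IH (LK LD1_c18 LD2_c35 LD3_c55) (LK LD1_c10 LD2_c12 LD3_c55) Lrfl Lrfl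
theorem f723311 : Led Lsl_at (LP (LK LD1_c10 LD2_c12 LD3_c55)) = (LP (LK LD1_c9 LD2_c59 LD3_c39)) :=
  Lgr Lrot51 (Lpe (f230221 IH) (Lpr_af (f723295 IH) (Lpe (f343384 IH) (Lpn (LP (LK LD1_c9 LD2_c59 LD3_c39))))))
theorem f230211 : Led Lsl_ct (LP (LK LD1_c18 LD2_c35 LD3_c54)) = (LP (LK LD1_c10 LD2_c12 LD3_c55)) :=
  Lre_c IH (LK LD1_c18 LD2_c35 LD3_c54) (LK LD1_c10 LD2_c12 LD3_c55) Lrfl Lrfl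
theorem f723317 : Led Lsl_af (LP (LK LD1_c18 LD2_c35 LD3_c54)) = (LP (LK LD1_c10 LD2_c22 LD3_c42)) :=
  Lgr Lrot68 (Lpr_ct (f230211 IH) (Lpr_at (f723311 IH) (Lpr_ct (f343398 IH) (Lpn (LP (LK LD1_c10 LD2_c22 LD3_c42))))))
theorem f603874 : Led Lsl_ft (LP (LK LD1_c5 LD2_c16 LD3_c40)) = (LP (LK LD1_c2 LD2_c35 LD3_c3)) :=
  Lre_f IH (LK LD1_c5 LD2_c16 LD3_c40) (LK LD1_c2 LD2_c35 LD3_c3) Lrfl Lrfl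
theorem f603875 : Led Lsl_bf (LP (LK LD1_c5 LD2_c16 LD3_c40)) = (LP (LK LD1_c10 LD2_c9 LD3_c10)) :=
  Lgr Lrot61 (Lpr_ft (f603874 IH) (Lpr_bt (K44.f166100 IH) (Lpr_ft (f603851 IH) (Lpn (LP (LK LD1_c10 LD2_c9 LD3_c10))))))
theorem f603938 : Led Lsl_gf (LP (LK LD1_c5 LD2_c16 LD3_c40)) = (LP (LK LD1_c2 LD2_c35 LD3_c7)) :=
  Lgr Lrot124 (Lpr_bf (f603875 IH) (Lpr_ct (K44.f163867 IH) (Lpr_gt (K44.f21925 IH) (Lpe (K44.f21880 IH) (Lpr_bt (K44.f21375 IH) (Lpr_gt (K10.f21996 IH) (Lpr_ct (K10.f185181 IH) (Lpr_gt (K10.f32886 IH) (Lpe (K2.f32796 IH) (Lpr_bt (K44.f32685 IH) (Lpn (LP (LK LD1_c2 LD2_c35 LD3_c7)))))))))))))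
theorem f603860 : Led Lsl_ct (LP (LK LD1_c5 LD2_c16 LD3_c40)) = (LP (LK LD1_c10 LD2_c22 LD3_c46)) :=
  Lre_c IH (LK LD1_c5 LD2_c16 LD3_c40) (LK LD1_c10 LD2_c22 LD3_c46) Lrfl Lrfl
theorem f185203 : Led Lsl_bt (LP (LK LD1_c10 LD2_c12 LD3_c55)) = (LP (LK LD1_c5 LD2_c11 LD3_c11)) :=
  Lre_b IH (LK LD1_c10 LD2_c12 LD3_c55) (LK LD1_c5 LD2_c11 LD3_c11) Lrfl Lrfl
theorem f185204 : Led Lsl_ct (LP (LK LD1_c10 LD2_c12 LD3_c55)) = (LP (LK LD1_c18 LD2_c35 LD3_c54)) :=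
  Lre_c IH (LK LD1_c10 LD2_c12 LD3_c55) (LK LD1_c18 LD2_c35 LD3_c54) Lrfl Lrfl
theorem f603945 : Led Lsl_gt (LP (LK LD1_c10 LD2_c22 LD3_c46)) = (LP (LK LD1_c18 LD2_c35 LD3_c54)) :=
  Lgr Lrot149 (Lpe (f603860 IH) (Lpr_gf (f603938 IH) (Lpe (K44.f32685 IH) (Lpr_ct (K2.f32796 IH) (Lpe (K10.f32886 IH) (Lpe (K10.f185181 IH) (Lpr_bt (K44.f185194 IH) (Lpe (K37.f185202 IH) (Lpe (f185203 IH) (Lpr_ct (f185204 IH) (Lpn (LP (LK LD1_c18 LD2_c35 LD3_c54)))))))))))))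
theorem f603700 : Led Lsl_ct (LP (LK LD1_c25 LD2_c3 LD3_c51)) = (LP (LK LD1_c25 LD2_c0 LD3_c61)) :=
  Lgr Lrot59 (Lpr_cf (f603696 IH) (Lpn (LP (LK LD1_c25 LD2_c0 LD3_c61))))
theorem f252524 : Led Lsl_bt (LP (LK LD1_c10 LD2_c21 LD3_c31)) = (LP (LK LD1_c18 LD2_c47 LD3_c60)) :=
  Lre_b IH (LK LD1_c10 LD2_c21 LD3_c31) (LK LD1_c18 LD2_c47 LD3_c60) Lrfl Lrfl
theorem f604119 : Led Lsl_bf (LP (LK LD1_c25 LD2_c3 LD3_c51)) = (LP (LK LD1_c24 LD2_c47 LD3_c57)) :=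
  Lgr Lrot90 (Lpr_ct (f603700 IH) (Lpr_bt (f351210 IH) (Lpe (f351201 IH) (Lpr_bt (f252524 IH) (Lpe (K37.f252522 IH) (Lpn (LP (LK LD1_c24 LD2_c47 LD3_c57))))))))
theorem f215223 : Led Lsl_bt (LP (LK LD1_c10 LD2_c11 LD3_c40)) = (LP (LK LD1_c18 LD2_c34 LD3_c12)) :=
  Lre_b IH (LK LD1_c10 LD2_c11 LD3_c40) (LK LD1_c18 LD2_c34 LD3_c12) Lrfl Lrfl
theorem f252525 : Led Lsl_ct (LP (LK LD1_c24 LD2_c47 LD3_c57)) = (LP (LK LD1_c18 LD2_c47 LD3_c60)) :=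
  Lgr Lrot59 (Lpr_cf (K37.f252522 IH) (Lpn (LP (LK LD1_c18 LD2_c47 LD3_c60))))
theorem f214923 : Led Lsl_bt (LP (LK LD1_c26 LD2_c32 LD3_c12)) = (LP (LK LD1_c16 LD2_c34 LD3_c46)) :=
  Lre_b IH (LK LD1_c26 LD2_c32 LD3_c12) (LK LD1_c16 LD2_c34 LD3_c46) Lrfl Lrfl
theorem f585685 : Led Lsl_ct (LP (LK LD1_c26 LD2_c32 LD3_c12)) = (LP (LK LD1_c28 LD2_c15 LD3_c1)) :=
  Lgr Lrot59 (Lpr_cf (K44.f585682 IH) (Lpn (LP (LK LD1_c28 LD2_c15 LD3_c1))))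
theorem f604136 : Led Lsl_gt (LP (LK LD1_c28 LD2_c15 LD3_c1)) = (LP (LK LD1_c18 LD2_c47 LD3_c60)) :=
  Lgr Lrot65 (Lpe (f585685 IH) (Lpr_bt (f214923 IH) (Lpe (K44.f582976 IH) (Lpr_bf (K14.f192923 IH) (Lpr_ct (K14.f233525 IH) (Lpe (f233518 IH) (Lpe (f45965 IH) (Lpe (f233527 IH) (Lpr_bf (f604119 IH) (Lpr_ct (f252525 IH) (Lpn (LP (LK LD1_c18 LD2_c47 LD3_c60)))))))))))))
theorem f604138 : Led Lsl_gt (LP (LK LD1_c18 LD2_c34 LD3_c12)) = (LP (LK LD1_c26 LD2_c32 LD3_c12)) :=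
  Lgr Lrot82 (Lpe (f215223 IH) (Lpr_ct (f215251 IH) (Lpe (f405712 IH) (Lpr_cf (f405626 IH) (Lpe (f405624 IH) (Lpe (f233527 IH) (Lpr_bf (f604119 IH) (Lpr_ct (f252525 IH) (Lpe (f604136 IH) (Lpe (f585685 IH) (Lpn (LP (LK LD1_c26 LD2_c32 LD3_c12)))))))))))))
theorem f604140 : Led Lsl_gf (LP (LK LD1_c18 LD2_c34 LD3_c12)) = (LP (LK LD1_c25 LD2_c26 LD3_c30)) :=
  Lgr Lrot47 (Lpr_gt (f604138 IH) (Lpr_af (K44.f585680 IH) (Lpr_ff (K44.f583706 IH) (Lpn (LP (LK LD1_c25 LD2_c26 LD3_c30))))))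
theorem f49857 : Led Lsl_ct (LP (LK LD1_c10 LD2_c21 LD3_c3)) = (LP (LK LD1_c5 LD2_c15 LD3_c54)) :=
  Lre_c IH (LK LD1_c10 LD2_c21 LD3_c3) (LK LD1_c5 LD2_c15 LD3_c54) Lrfl Lrfl
theorem f214280 : Led Lsl_bt (LP (LK LD1_c2 LD2_c32 LD3_c19)) = (LP (LK LD1_c5 LD2_c10 LD3_c31)) :=
  Lre_b IH (LK LD1_c2 LD2_c32 LD3_c19) (LK LD1_c5 LD2_c10 LD3_c31) Lrfl Lrfl
theorem f215032 : Led Lsl_bt (LP (LK LD1_c18 LD2_c34 LD3_c12)) = (LP (LK LD1_c10 LD2_c11 LD3_c40)) :=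
  Lre_b IH (LK LD1_c18 LD2_c34 LD3_c12) (LK LD1_c10 LD2_c11 LD3_c40) Lrfl Lrfl
theorem f215033 : Led Lsl_cf (LP (LK LD1_c10 LD2_c21 LD3_c10)) = (LP (LK LD1_c18 LD2_c34 LD3_c12)) :=
  Lgr Lrot160 (Lpr_gt (f215031 IH) (Lpe (f49857 IH) (Lpr_bt (K37.f214274 IH) (Lpr_gt (K14.f215023 IH) (Lpr_ct (K12.f43258 IH) (Lpr_gt (K12.f197034 IH) (Lpe (K14.f165247 IH) (Lpr_bt (f214280 IH) (Lpr_gt (f171644 IH) (Lpe (f215032 IH) (Lpn (LP (LK LD1_c18 LD2_c34 LD3_c12)))))))))))))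
theorem f215224 : Led Lsl_ct (LP (LK LD1_c10 LD2_c21 LD3_c10)) = (LP (LK LD1_c18 LD2_c34 LD3_c12)) :=
  Lgr Lrot59 (Lpr_cf (f215033 IH) (Lpn (LP (LK LD1_c18 LD2_c34 LD3_c12))))
theorem f215222 : Led Lsl_bt (LP (LK LD1_c10 LD2_c21 LD3_c10)) = (LP (LK LD1_c18 LD2_c47 LD3_c15)) :=
  Lre_b IH (LK LD1_c10 LD2_c21 LD3_c10) (LK LD1_c18 LD2_c47 LD3_c15) Lrfl Lrfl
theorem f585712 : Led Lsl_bt (LP (LK LD1_c28 LD2_c14 LD3_c57)) = (LP (LK LD1_c18 LD2_c45 LD3_c5)) :=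
  Lre_b IH (LK LD1_c28 LD2_c14 LD3_c57) (LK LD1_c18 LD2_c45 LD3_c5) Lrfl Lrfl
theorem f188468 : Led Lsl_gf (LP (LK LD1_c18 LD2_c54 LD3_c19)) = (LP (LK LD1_c15 LD2_c31 LD3_c0)) :=
  Lgr Lrot76 (Lpe (K13.f188313 IH) (Lpr_ff (K13.f188461 IH) (Lpr_gt (K44.f45042 IH) (Lpn (LP (LK LD1_c15 LD2_c31 LD3_c0))))))
theorem f214474 : Led Lsl_cf (LP (LK LD1_c18 LD2_c11 LD3_c16)) = (LP (LK LD1_c18 LD2_c54 LD3_c19)) :=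
  Lgr Lrot108 (Lpr_ft (K13.f214467 IH) (Lpr_ct (K13.f51308 IH) (Lpe (K14.f188456 IH) (Lpn (LP (LK LD1_c18 LD2_c54 LD3_c19))))))
theorem f48646 : Led Lsl_at (LP (LK LD1_c2 LD2_c35 LD3_c46)) = (LP (LK LD1_c5 LD2_c18 LD3_c9)) :=
  Lre_a IH (LK LD1_c2 LD2_c35 LD3_c46) (LK LD1_c5 LD2_c18 LD3_c9) Lrfl Lrfl
theorem f405459 : Led Lsl_gf (LP (LK LD1_c5 LD2_c18 LD3_c9)) = (LP (LK LD1_c10 LD2_c25 LD3_c57)) :=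
  Lgr Lrot76 (Lpe (f48646 IH) (Lpe (K10.f48502 IH) (Lpr_gt (K44.f405457 IH) (Lpn (LP (LK LD1_c10 LD2_c25 LD3_c57))))))
theorem f585755 : Led Lsl_gt (LP (LK LD1_c10 LD2_c19 LD3_c45)) = (LP (LK LD1_c18 LD2_c45 LD3_c5)) :=
  Lgr Lrot65 (Lpe (K44.f32732 IH) (Lpr_bt (K17.f32672 IH) (Lpr_gf (f405459 IH) (Lpe (K44.f405464 IH) (Lpe (K44.f405465 IH) (Lpe (K44.f214480 IH) (Lpr_cf (f214474 IH) (Lpr_gf (f188468 IH) (Lpe (K44.f188471 IH) (Lpr_ct (K44.f585744 IH) (Lpn (LP (LK LD1_c18 LD2_c45 LD3_c5)))))))))))))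
theorem f34347 : Led Lsl_gt (LP (LK LD1_c10 LD2_c9 LD3_c2)) = (LP (LK LD1_c5 LD2_c9 LD3_c16)) :=
  Lre_g IH (LK LD1_c10 LD2_c9 LD3_c2) (LK LD1_c5 LD2_c9 LD3_c16) Lrfl Lrfl
theorem f34350 : Led Lsl_ct (LP (LK LD1_c5 LD2_c11 LD3_c28)) = (LP (LK LD1_c10 LD2_c9 LD3_c2)) :=
  Lre_c IH (LK LD1_c5 LD2_c11 LD3_c28) (LK LD1_c10 LD2_c9 LD3_c2) Lrfl Lrfl
theorem f21899 : Led Lsl_gt (LP (LK LD1_c2 LD2_c29 LD3_c35)) = (LP (LK LD1_c5 LD2_c4 LD3_c21)) :=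
  Lre_g IH (LK LD1_c2 LD2_c29 LD3_c35) (LK LD1_c5 LD2_c4 LD3_c21) Lrfl Lrfl
theorem f163865 : Led Lsl_bt (LP (LK LD1_c5 LD2_c4 LD3_c23)) = (LP (LK LD1_c2 LD2_c29 LD3_c35)) :=
  Lre_b IH (LK LD1_c5 LD2_c4 LD3_c23) (LK LD1_c2 LD2_c29 LD3_c35) Lrfl Lrfl
theorem f35067 : Led Lsl_at (LP (LK LD1_c10 LD2_c21 LD3_c39)) = (LP (LK LD1_c5 LD2_c16 LD3_c8)) :=
  Lre_a IH (LK LD1_c10 LD2_c21 LD3_c39) (LK LD1_c5 LD2_c16 LD3_c8) Lrfl Lrfl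
theorem f35068 : Led Lsl_ft (LP (LK LD1_c5 LD2_c16 LD3_c6)) = (LP (LK LD1_c10 LD2_c21 LD3_c39)) :=
  Lre_f IH (LK LD1_c5 LD2_c16 LD3_c6) (LK LD1_c10 LD2_c21 LD3_c39) Lrfl Lrfl
theorem f343379 : Led Lsl_gt (LP (LK LD1_c5 LD2_c16 LD3_c6)) = (LP (LK LD1_c9 LD2_c59 LD3_c41)) :=
  Lgr Lrot5 (Lpr_ft (f35068 IH) (Lpr_at (f35067 IH) (Lpr_gf (f343377 IH) (Lpn (LP (LK LD1_c9 LD2_c59 LD3_c41))))))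
theorem f32674 : Led Lsl_ct (LP (LK LD1_c2 LD2_c35 LD3_c5)) = (LP (LK LD1_c5 LD2_c16 LD3_c6)) :=
  Lre_c IH (LK LD1_c2 LD2_c35 LD3_c5) (LK LD1_c5 LD2_c16 LD3_c6) Lrfl Lrfl
theorem f603936 : Led Lsl_gt (LP (LK LD1_c5 LD2_c16 LD3_c40)) = (LP (LK LD1_c2 LD2_c35 LD3_c5)) :=
  Lgr Lrot82 (Lpr_bf (f603875 IH) (Lpr_ct (K44.f163867 IH) (Lpe (f34347 IH) (Lpe (f34350 IH) (Lpe (K8.f163850 IH) (Lpe (f21899 IH) (Lpe (f163865 IH) (Lpr_ct (f163866 IH) (Lpe (f343379 IH) (Lpe (f32674 IH) (Lpn (LP (LK LD1_c2 LD2_c35 LD3_c5)))))))))))))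
theorem f603858 : Led Lsl_ct (LP (LK LD1_c10 LD2_c22 LD3_c46)) = (LP (LK LD1_c5 LD2_c16 LD3_c40)) :=
  Lre_c IH (LK LD1_c10 LD2_c22 LD3_c46) (LK LD1_c5 LD2_c16 LD3_c40) Lrfl Lrfl
theorem f604145 : Led Lsl_gt (LP (LK LD1_c18 LD2_c47 LD3_c15)) = (LP (LK LD1_c10 LD2_c22 LD3_c46)) :=
  Lgr Lrot82 (Lpe (f215222 IH) (Lpr_ct (f215224 IH) (Lpr_gf (f604140 IH) (Lpr_cf (K44.f585715 IH) (Lpr_bt (f585712 IH) (Lpe (f585755 IH) (Lpe (K17.f32673 IH) (Lpr_ct (K17.f32730 IH) (Lpe (f603936 IH) (Lpe (f603858 IH) (Lpn (LP (LK LD1_c10 LD2_c22 LD3_c46)))))))))))))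
theorem f723321 : Led Lsl_ft (LP (LK LD1_c18 LD2_c47 LD3_c15)) = (LP (LK LD1_c10 LD2_c22 LD3_c42)) :=
  Lgr Lrot2 (Lpr_gt (f604145 IH) (Lpr_gt (f603945 IH) (Lpr_af (f723317 IH) (Lpn (LP (LK LD1_c10 LD2_c22 LD3_c42))))))
theorem f723327 : Led Lsl_ff (LP (LK LD1_c18 LD2_c47 LD3_c15)) = (LP (LK LD1_c10 LD2_c22 LD3_c42)) :=
  Lgr Lrot3 (Lpr_ft (f723321 IH) (Lpn (LP (LK LD1_c10 LD2_c22 LD3_c42))))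
theorem f197103 : Led Lsl_bt (LP (LK LD1_c28 LD2_c20 LD3_c8)) = (LP (LK LD1_c18 LD2_c51 LD3_c55)) :=
  Lre_b IH (LK LD1_c28 LD2_c20 LD3_c8) (LK LD1_c18 LD2_c51 LD3_c55) Lrfl Lrfl
theorem f582677 : Led Lsl_ct (LP (LK LD1_c19 LD2_c0 LD3_c52)) = (LP (LK LD1_c28 LD2_c20 LD3_c8)) :=
  Lgr Lrot83 (Lpr_bf (K44.f300568 IH) (Lpr_cf (K44.f582675 IH) (Lpe (K44.f197108 IH) (Lpe (K44.f32776 IH) (Lpe (f197103 IH) (Lpn (LP (LK LD1_c28 LD2_c20 LD3_c8))))))))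
theorem f406810 : Led Lsl_ft (LP (LK LD1_c18 LD2_c58 LD3_c36)) = (LP (LK LD1_c19 LD2_c0 LD3_c52)) :=
  Lgr Lrot48 (Lpr_ff (K44.f299549 IH) (Lpn (LP (LK LD1_c19 LD2_c0 LD3_c52))))
theorem f584386 : Led Lsl_cf (LP (LK LD1_c18 LD2_c58 LD3_c36)) = (LP (LK LD1_c28 LD2_c16 LD3_c57)) :=
  Lgr Lrot108 (Lpr_ft (f406810 IH) (Lpr_ct (f582677 IH) (Lpr_ft (K44.f584379 IH) (Lpn (LP (LK LD1_c28 LD2_c16 LD3_c57))))))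
theorem f406647 : Led Lsl_at (LP (LK LD1_c19 LD2_c0 LD3_c52)) = (LP (LK LD1_c10 LD2_c29 LD3_c28)) :=
  Lre_a IH (LK LD1_c19 LD2_c0 LD3_c52) (LK LD1_c10 LD2_c29 LD3_c28) Lrfl Lrfl
theorem f249288 : Led Lsl_gt (LP (LK LD1_c19 LD2_c0 LD3_c53)) = (LP (LK LD1_c10 LD2_c29 LD3_c28)) :=
  Lre_g IH (LK LD1_c19 LD2_c0 LD3_c53) (LK LD1_c10 LD2_c29 LD3_c28) Lrfl Lrfl
theorem f406813 : Led Lsl_gt (LP (LK LD1_c18 LD2_c58 LD3_c36)) = (LP (LK LD1_c19 LD2_c0 LD3_c53)) :=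
  Lgr Lrot5 (Lpr_ft (f406810 IH) (Lpr_at (f406647 IH) (Lpe (f249288 IH) (Lpn (LP (LK LD1_c19 LD2_c0 LD3_c53))))))
theorem f249285 : Led Lsl_ct (LP (LK LD1_c19 LD2_c0 LD3_c54)) = (LP (LK LD1_c10 LD2_c29 LD3_c28)) :=
  Lre_c IH (LK LD1_c19 LD2_c0 LD3_c54) (LK LD1_c10 LD2_c29 LD3_c28) Lrfl Lrfl
theorem f49488 : Led Lsl_bt (LP (LK LD1_c5 LD2_c15 LD3_c6)) = (LP (LK LD1_c10 LD2_c19 LD3_c40)) :=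
  Lre_b IH (LK LD1_c5 LD2_c15 LD3_c6) (LK LD1_c10 LD2_c19 LD3_c40) Lrfl Lrfl
theorem f49494 : Led Lsl_gt (LP (LK LD1_c10 LD2_c19 LD3_c40)) = (LP (LK LD1_c18 LD2_c44 LD3_c58)) :=
  Lre_g IH (LK LD1_c10 LD2_c19 LD3_c40) (LK LD1_c18 LD2_c44 LD3_c58) Lrfl Lrfl
theorem f582728 : Led Lsl_cf (LP (LK LD1_c19 LD2_c0 LD3_c53)) = (LP (LK LD1_c18 LD2_c44 LD3_c58)) :=
  Lgr Lrot125 (Lpr_gt (f249288 IH) (Lpe (f249285 IH) (Lpe (K44.f249416 IH) (Lpr_gt (K44.f582719 IH) (Lpe (K44.f212448 IH) (Lpr_ct (K14.f212451 IH) (Lpr_gt (K10.f49480 IH) (Lpe (K14.f49489 IH) (Lpr_bt (f49488 IH) (Lpr_gt (f49494 IH) (Lpn (LP (LK LD1_c18 LD2_c44 LD3_c58)))))))))))))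
theorem f252896 : Led Lsl_at (LP (LK LD1_c5 LD2_c1 LD3_c50)) = (LP (LK LD1_c9 LD2_c54 LD3_c9)) :=
  Lre_a IH (LK LD1_c5 LD2_c1 LD3_c50) (LK LD1_c9 LD2_c54 LD3_c9) Lrfl Lrfl
theorem f180997 : Led Lsl_at (LP (LK LD1_c18 LD2_c3 LD3_c43)) = (LP (LK LD1_c9 LD2_c52 LD3_c2)) :=
  Lre_a IH (LK LD1_c18 LD2_c3 LD3_c43) (LK LD1_c9 LD2_c52 LD3_c2) Lrfl Lrfl
theorem f343065 : Led Lsl_ft (LP (LK LD1_c9 LD2_c54 LD3_c9)) = (LP (LK LD1_c18 LD2_c3 LD3_c43)) :=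
  Lgr Lrot101 (Lpe (f252896 IH) (Lpr_ff (K23.f343063 IH) (Lpe (f180997 IH) (Lpn (LP (LK LD1_c18 LD2_c3 LD3_c43))))))
theorem f180921 : Led Lsl_gt (LP (LK LD1_c18 LD2_c3 LD3_c42)) = (LP (LK LD1_c9 LD2_c52 LD3_c2)) :=
  Lre_g IH (LK LD1_c18 LD2_c3 LD3_c42) (LK LD1_c9 LD2_c52 LD3_c2) Lrfl Lrfl
theorem f395134 : Led Lsl_gt (LP (LK LD1_c9 LD2_c54 LD3_c9)) = (LP (LK LD1_c18 LD2_c3 LD3_c42)) :=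
  Lgr Lrot5 (Lpr_ft (f343065 IH) (Lpr_at (f180997 IH) (Lpe (f180921 IH) (Lpn (LP (LK LD1_c18 LD2_c3 LD3_c42))))))
theorem f350903 : Led Lsl_gt (LP (LK LD1_c18 LD2_c44 LD3_c58)) = (LP (LK LD1_c10 LD2_c21 LD3_c24)) :=
  Lgr Lrot46 (Lpe (f49494 IH) (Lpr_ft (K37.f350892 IH) (Lpr_at (K37.f294790 IH) (Lpn (LP (LK LD1_c10 LD2_c21 LD3_c24))))))
theorem f181003 : Led Lsl_ct (LP (LK LD1_c27 LD2_c45 LD3_c16)) = (LP (LK LD1_c18 LD2_c3 LD3_c42)) :=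
  Lre_c IH (LK LD1_c27 LD2_c45 LD3_c16) (LK LD1_c18 LD2_c3 LD3_c42) Lrfl Lrfl
theorem f395139 : Led Lsl_bf (LP (LK LD1_c18 LD2_c44 LD3_c58)) = (LP (LK LD1_c27 LD2_c45 LD3_c16)) :=
  Lgr Lrot156 (Lpr_gt (f350903 IH) (Lpr_bf (K18.f294829 IH) (Lpr_ct (K37.f294840 IH) (Lpe (K37.f350937 IH) (Lpe (K37.f180889 IH) (Lpr_bt (K37.f180888 IH) (Lpe (K37.f343085 IH) (Lpr_ct (K37.f252842 IH) (Lpr_gt (f395134 IH) (Lpe (f181003 IH) (Lpn (LP (LK LD1_c27 LD2_c45 LD3_c16)))))))))))))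
theorem f395141 : Led Lsl_bt (LP (LK LD1_c18 LD2_c44 LD3_c58)) = (LP (LK LD1_c27 LD2_c45 LD3_c16)) :=
  Lgr Lrot127 (Lpr_bf (f395139 IH) (Lpn (LP (LK LD1_c27 LD2_c45 LD3_c16))))
theorem f343011 : Led Lsl_ct (LP (LK LD1_c18 LD2_c16 LD3_c25)) = (LP (LK LD1_c18 LD2_c6 LD3_c52)) :=
  Lre_c IH (LK LD1_c18 LD2_c16 LD3_c25) (LK LD1_c18 LD2_c6 LD3_c52) Lrfl Lrfl
theorem f343014 : Led Lsl_bt (LP (LK LD1_c18 LD2_c16 LD3_c25)) = (LP (LK LD1_c9 LD2_c59 LD3_c45)) :=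
  Lre_b IH (LK LD1_c18 LD2_c16 LD3_c25) (LK LD1_c9 LD2_c59 LD3_c45) Lrfl Lrfl
theorem f343015 : Led Lsl_bt (LP (LK LD1_c9 LD2_c59 LD3_c47)) = (LP (LK LD1_c5 LD2_c4 LD3_c24)) :=
  Lre_b IH (LK LD1_c9 LD2_c59 LD3_c47) (LK LD1_c5 LD2_c4 LD3_c24) Lrfl Lrfl
theorem f252874 : Led Lsl_ct (LP (LK LD1_c9 LD2_c59 LD3_c47)) = (LP (LK LD1_c18 LD2_c16 LD3_c16)) :=
  Lre_c IH (LK LD1_c9 LD2_c59 LD3_c47) (LK LD1_c18 LD2_c16 LD3_c16) Lrfl Lrfl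
theorem f395136 : Led Lsl_ct (LP (LK LD1_c18 LD2_c3 LD3_c42)) = (LP (LK LD1_c27 LD2_c45 LD3_c16)) :=
  Lre_c IH (LK LD1_c18 LD2_c3 LD3_c42) (LK LD1_c27 LD2_c45 LD3_c16) Lrfl Lrfl
theorem f395137 : Led Lsl_gf (LP (LK LD1_c18 LD2_c16 LD3_c16)) = (LP (LK LD1_c27 LD2_c45 LD3_c16)) :=
  Lgr Lrot129 (Lpe (f252874 IH) (Lpr_bt (f343015 IH) (Lpr_gt (f164027 IH) (Lpe (f343014 IH) (Lpr_ct (f343011 IH) (Lpe (K37.f343009 IH) (Lpr_cf (K37.f342953 IH) (Lpe (K22.f333100 IH) (Lpr_gt (f395134 IH) (Lpr_ct (f395136 IH) (Lpn (LP (LK LD1_c27 LD2_c45 LD3_c16)))))))))))))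
theorem f343429 : Led Lsl_bt (LP (LK LD1_c9 LD2_c59 LD3_c41)) = (LP (LK LD1_c18 LD2_c16 LD3_c16)) :=
  Lre_b IH (LK LD1_c9 LD2_c59 LD3_c41) (LK LD1_c18 LD2_c16 LD3_c16) Lrfl Lrfl
theorem f164043 : Led Lsl_ct (LP (LK LD1_c9 LD2_c59 LD3_c41)) = (LP (LK LD1_c5 LD2_c4 LD3_c23)) :=
  Lre_c IH (LK LD1_c9 LD2_c59 LD3_c41) (LK LD1_c5 LD2_c4 LD3_c23) Lrfl Lrfl
theorem f585471 : Led Lsl_gf (LP (LK LD1_c9 LD2_c59 LD3_c18)) = (LP (LK LD1_c5 LD2_c4 LD3_c23)) :=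
  Lgr Lrot126 (Lpe (f166090 IH) (Lpr_bt (f166087 IH) (Lpr_gt (f585467 IH) (Lpe (f584386 IH) (Lpr_gt (f406813 IH) (Lpr_cf (f582728 IH) (Lpr_bt (f395141 IH) (Lpe (f395137 IH) (Lpe (f343429 IH) (Lpr_ct (f164043 IH) (Lpn (LP (LK LD1_c5 LD2_c4 LD3_c23)))))))))))))
theorem f166086 : Led Lsl_at (LP (LK LD1_c18 LD2_c15 LD3_c44)) = (LP (LK LD1_c9 LD2_c59 LD3_c18)) :=
  Lre_a IH (LK LD1_c18 LD2_c15 LD3_c44) (LK LD1_c9 LD2_c59 LD3_c18) Lrfl Lrfl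
theorem f585473 : Led Lsl_ff (LP (LK LD1_c18 LD2_c15 LD3_c44)) = (LP (LK LD1_c9 LD2_c59 LD3_c39)) :=
  Lgr Lrot52 (Lpr_at (f166086 IH) (Lpr_gf (f585471 IH) (Lpe (f343374 IH) (Lpn (LP (LK LD1_c9 LD2_c59 LD3_c39))))))
theorem f585527 : Led Lsl_ft (LP (LK LD1_c18 LD2_c15 LD3_c44)) = (LP (LK LD1_c9 LD2_c59 LD3_c39)) :=
  Lgr Lrot48 (Lpr_ff (f585473 IH) (Lpn (LP (LK LD1_c9 LD2_c59 LD3_c39))))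
theorem f723331 : Led Lsl_ct (LP (LK LD1_c18 LD2_c47 LD3_c15)) = (LP (LK LD1_c18 LD2_c15 LD3_c44)) :=
  Lgr Lrot40 (Lpr_ff (f723327 IH) (Lpe (f343398 IH) (Lpe (f585527 IH) (Lpn (LP (LK LD1_c18 LD2_c15 LD3_c44))))))
theorem f724206 : Led Lsl_gf (LP (LK LD1_c18 LD2_c15 LD3_c44)) = v14639 :=
  Lgr Lrot129 (Lpe (f723331 IH) (Lpr_bt (f215250 IH) (Lpr_gt (f215031 IH) (Lpe (K44.f47575 IH) (Lpr_ct (K15.f47573 IH) (Lpr_gt (K10.f45401 IH) (Lpe (K10.f45390 IH) (Lpr_bt (f48396 IH) (Lpr_gt (f48506 IH) (Lpr_ct (f724200 IH) (Lpn v14639)))))))))))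
theorem f166102 : Led Lsl_at (LP (LK LD1_c9 LD2_c59 LD3_c18)) = (LP (LK LD1_c18 LD2_c15 LD3_c44)) :=
  Lre_a IH (LK LD1_c9 LD2_c59 LD3_c18) (LK LD1_c18 LD2_c15 LD3_c44) Lrfl Lrfl
theorem f723333 : Led Lsl_at (LP (LK LD1_c18 LD2_c47 LD3_c15)) = (LP (LK LD1_c10 LD2_c22 LD3_c41)) :=
  Lgr Lrot26 (Lpr_ff (f723327 IH) (Lpr_gt (f214882 IH) (Lpr_gt (K44.f35082 IH) (Lpn (LP (LK LD1_c10 LD2_c22 LD3_c41))))))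
theorem f723319 : Led Lsl_at (LP (LK LD1_c18 LD2_c35 LD3_c54)) = (LP (LK LD1_c10 LD2_c22 LD3_c42)) :=
  Lgr Lrot100 (Lpr_af (f723317 IH) (Lpn (LP (LK LD1_c10 LD2_c22 LD3_c42))))
theorem f723337 : Led Lsl_ff (LP (LK LD1_c18 LD2_c35 LD3_c54)) = (LP (LK LD1_c10 LD2_c22 LD3_c41)) :=
  Lgr Lrot30 (Lpr_at (f723319 IH) (Lpe (f723327 IH) (Lpr_at (f723333 IH) (Lpn (LP (LK LD1_c10 LD2_c22 LD3_c41))))))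
theorem f723341 : Led Lsl_ft (LP (LK LD1_c10 LD2_c12 LD3_c55)) = (LP (LK LD1_c9 LD2_c59 LD3_c18)) :=
  Lgr Lrot4 (Lpe (f230211 IH) (Lpr_ff (f723337 IH) (Lpr_cf (K44.f166081 IH) (Lpn (LP (LK LD1_c9 LD2_c59 LD3_c18))))))
theorem f724207 : Led Lsl_gt (LP (LK LD1_c10 LD2_c12 LD3_c55)) = v14639 :=
  Lgr Lrot5 (Lpr_ft (f723341 IH) (Lpr_at (f166102 IH) (Lpr_gf (f724206 IH) (Lpn v14639))))
theorem f230212 : Led Lsl_bt (LP (LK LD1_c18 LD2_c59 LD3_c43)) = (LP (LK LD1_c18 LD2_c35 LD3_c54)) :=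
  Lgr Lrot128 (Lpe (K44.f230162 IH) (Lpr_bf (K37.f230206 IH) (Lpe (K44.f214626 IH) (Lpe (f185203 IH) (Lpe (f230211 IH) (Lpn (LP (LK LD1_c18 LD2_c35 LD3_c54))))))))
theorem f260177 : Led Lsl_cf (LP (LK LD1_c18 LD2_c28 LD3_c52)) = (LP (LK LD1_c10 LD2_c21 LD3_c32)) :=
  Lgr Lrot11 (Lpr_ct (K37.f260173 IH) (Lpn (LP (LK LD1_c10 LD2_c21 LD3_c32))))
theorem f603714 : Led Lsl_at (LP (LK LD1_c18 LD2_c29 LD3_c32)) = (LP (LK LD1_c10 LD2_c9 LD3_c9)) :=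
  Lre_a IH (LK LD1_c18 LD2_c29 LD3_c32) (LK LD1_c10 LD2_c9 LD3_c9) Lrfl Lrfl
theorem f603715 : Led Lsl_ft (LP (LK LD1_c26 LD2_c32 LD3_c59)) = (LP (LK LD1_c18 LD2_c29 LD3_c32)) :=
  Lgr Lrot101 (Lpr_af (f603705 IH) (Lpe (f603704 IH) (Lpe (f603714 IH) (Lpn (LP (LK LD1_c18 LD2_c29 LD3_c32))))))
theorem f46995 : Led Lsl_bt (LP (LK LD1_c4 LD2_c2 LD3_c29)) = (LP (LK LD1_c1 LD2_c58 LD3_c14)) :=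
  Lre_b IH (LK LD1_c4 LD2_c2 LD3_c29) (LK LD1_c1 LD2_c58 LD3_c14) Lrfl Lrfl
theorem f44873 : Led Lsl_gt (LP (LK LD1_c4 LD2_c27 LD3_c28)) = (LP (LK LD1_c8 LD2_c52 LD3_c44)) :=
  Lre_g IH (LK LD1_c4 LD2_c27 LD3_c28) (LK LD1_c8 LD2_c52 LD3_c44) Lrfl Lrfl
theorem f260181 : Led Lsl_gf (LP (LK LD1_c18 LD2_c28 LD3_c52)) = (LP (LK LD1_c26 LD2_c32 LD3_c59)) :=
  Lgr Lrot181 (Lpr_ct (K37.f260173 IH) (Lpr_gt (K37.f180862 IH) (Lpr_cf (K37.f180840 IH) (Lpr_bt (K37.f180770 IH) (Lpe (K10.f190749 IH) (Lpe (f46995 IH) (Lpr_ct (f47128 IH) (Lpr_gt (f44873 IH) (Lpe (f47156 IH) (Lpr_bt (f47157 IH) (Lpn (LP (LK LD1_c26 LD2_c32 LD3_c59)))))))))))))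
theorem f603720 : Led Lsl_gt (LP (LK LD1_c18 LD2_c28 LD3_c52)) = (LP (LK LD1_c10 LD2_c9 LD3_c9)) :=
  Lgr Lrot46 (Lpr_gf (f260181 IH) (Lpr_ft (f603715 IH) (Lpr_at (f603714 IH) (Lpn (LP (LK LD1_c10 LD2_c9 LD3_c9))))))
theorem f34290 : Led Lsl_ct (LP (LK LD1_c18 LD2_c29 LD3_c33)) = (LP (LK LD1_c10 LD2_c9 LD3_c9)) :=
  Lre_c IH (LK LD1_c18 LD2_c29 LD3_c33) (LK LD1_c10 LD2_c9 LD3_c9) Lrfl Lrfl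
theorem f603957 : Led Lsl_bf (LP (LK LD1_c10 LD2_c22 LD3_c46)) = (LP (LK LD1_c18 LD2_c29 LD3_c33)) :=
  Lgr Lrot156 (Lpr_gt (f603945 IH) (Lpe (f230212 IH) (Lpr_ct (K44.f230163 IH) (Lpr_gt (K37.f350988 IH) (Lpr_cf (K18.f294786 IH) (Lpr_bt (K37.f294834 IH) (Lpe (K37.f351110 IH) (Lpe (f260177 IH) (Lpr_gt (f603720 IH) (Lpe (f34290 IH) (Lpn (LP (LK LD1_c18 LD2_c29 LD3_c33)))))))))))))
theorem f260176 : Led Lsl_bt (LP (LK LD1_c10 LD2_c21 LD3_c32)) = (LP (LK LD1_c18 LD2_c48 LD3_c0)) :=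
  Lre_b IH (LK LD1_c10 LD2_c21 LD3_c32) (LK LD1_c18 LD2_c48 LD3_c0) Lrfl Lrfl
theorem f724198 : Led Lsl_bt (LP (LK LD1_c5 LD2_c16 LD3_c4)) = (LP (LK LD1_c10 LD2_c21 LD3_c40)) :=
  Lre_b IH (LK LD1_c5 LD2_c16 LD3_c4) (LK LD1_c10 LD2_c21 LD3_c40) Lrfl Lrfl
theorem f724208 : Led Lsl_gf (LP (LK LD1_c18 LD2_c48 LD3_c0)) = (LP (LK LD1_c10 LD2_c21 LD3_c40)) :=
  Lgr Lrot124 (Lpe (f260176 IH) (Lpe (f260177 IH) (Lpr_gt (f603720 IH) (Lpe (f34290 IH) (Lpe (f603957 IH) (Lpr_gt (f603945 IH) (Lpr_ct (f230211 IH) (Lpr_gt (f724207 IH) (Lpe (f724200 IH) (Lpr_bt (f724198 IH) (Lpn (LP (LK LD1_c10 LD2_c21 LD3_c40)))))))))))))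
theorem f724209 : Led Lsl_gt (LP (LK LD1_c10 LD2_c21 LD3_c40)) = (LP (LK LD1_c18 LD2_c48 LD3_c0)) :=
  Leop (Lpr_gf (f724208 IH) (Lpn (LP (LK LD1_c10 LD2_c21 LD3_c40))))
theorem seed_848 : LEOK LG_g (LK LD1_c10 LD2_c21 LD3_c40) :=
  Leoe_g (LK LD1_c10 LD2_c21 LD3_c40) (f724209 IH)
def v14640 : LQ := Led Lsl_ct (LP (LK LD1_c5 LD2_c16 LD3_c5))
theorem f724215 : Led Lsl_ct (LP (LK LD1_c5 LD2_c16 LD3_c5)) = v14640 :=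
  Lrfl
theorem f724192 : Led Lsl_bt (LP (LK LD1_c5 LD2_c16 LD3_c5)) = (LP (LK LD1_c10 LD2_c21 LD3_c44)) :=
  Lre_b IH (LK LD1_c5 LD2_c16 LD3_c5) (LK LD1_c10 LD2_c21 LD3_c44) Lrfl Lrfl
theorem f32707 : Led Lsl_gt (LP (LK LD1_c10 LD2_c21 LD3_c39)) = (LP (LK LD1_c5 LD2_c16 LD3_c5)) :=
  Lre_g IH (LK LD1_c10 LD2_c21 LD3_c39) (LK LD1_c5 LD2_c16 LD3_c5) Lrfl Lrfl
theorem f32689 : Led Lsl_bt (LP (LK LD1_c18 LD2_c45 LD3_c4)) = (LP (LK LD1_c10 LD2_c21 LD3_c39)) :=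
  Lre_b IH (LK LD1_c18 LD2_c45 LD3_c4) (LK LD1_c10 LD2_c21 LD3_c39) Lrfl Lrfl
theorem f32742 : Led Lsl_ft (LP (LK LD1_c18 LD2_c51 LD3_c52)) = (LP (LK LD1_c10 LD2_c23 LD3_c54)) :=
  Lre_f IH (LK LD1_c18 LD2_c51 LD3_c52) (LK LD1_c10 LD2_c23 LD3_c54) Lrfl Lrfl
theorem f32743 : Led Lsl_ft (LP (LK LD1_c10 LD2_c19 LD3_c45)) = (LP (LK LD1_c18 LD2_c45 LD3_c4)) :=
  Lre_f IH (LK LD1_c10 LD2_c19 LD3_c45) (LK LD1_c18 LD2_c45 LD3_c4) Lrfl Lrfl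
theorem f32744 : Led Lsl_cf (LP (LK LD1_c18 LD2_c51 LD3_c52)) = (LP (LK LD1_c18 LD2_c45 LD3_c4)) :=
  Lgr Lrot108 (Lpr_ft (f32742 IH) (Lpr_ct (K44.f32732 IH) (Lpr_ft (f32743 IH) (Lpn (LP (LK LD1_c18 LD2_c45 LD3_c4))))))
theorem f169669 : Led Lsl_bt (LP (LK LD1_c5 LD2_c6 LD3_c10)) = (LP (LK LD1_c2 LD2_c30 LD3_c22)) :=
  Lre_b IH (LK LD1_c5 LD2_c6 LD3_c10) (LK LD1_c2 LD2_c30 LD3_c22) Lrfl Lrfl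
theorem f300310 : Led Lsl_bf (LP (LK LD1_c10 LD2_c3 LD3_c20)) = (LP (LK LD1_c10 LD2_c29 LD3_c27)) :=
  Lgr Lrot81 (Lpr_at (K44.f169666 IH) (Lpr_bt (f169669 IH) (Lpr_at (K18.f300306 IH) (Lpr_bt (K18.f249209 IH) (Lpr_at (K18.f249294 IH) (Lpn (LP (LK LD1_c10 LD2_c29 LD3_c27))))))))
theorem f230509 : Led Lsl_bt (LP (LK LD1_c4 LD2_c27 LD3_c12)) = (LP (LK LD1_c8 LD2_c52 LD3_c5)) :=
  Lre_b IH (LK LD1_c4 LD2_c27 LD3_c12) (LK LD1_c8 LD2_c52 LD3_c5) Lrfl Lrfl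
theorem f299513 : Led Lsl_ft (LP (LK LD1_c8 LD2_c52 LD3_c5)) = (LP (LK LD1_c8 LD2_c52 LD3_c29)) :=
  Lgr Lrot75 (Lpe (f230509 IH) (Lpr_ff (K18.f299511 IH) (Lpe (K18.f249275 IH) (Lpn (LP (LK LD1_c8 LD2_c52 LD3_c29))))))
theorem f230514 : Led Lsl_gt (LP (LK LD1_c8 LD2_c52 LD3_c5)) = (LP (LK LD1_c16 LD2_c34 LD3_c48)) :=
  Lre_g IH (LK LD1_c8 LD2_c52 LD3_c5) (LK LD1_c16 LD2_c34 LD3_c48) Lrfl Lrfl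
theorem f406828 : Led Lsl_gt (LP (LK LD1_c16 LD2_c34 LD3_c48)) = (LP (LK LD1_c16 LD2_c35 LD3_c32)) :=
  Lgr Lrot46 (Lpe (f230514 IH) (Lpr_ft (f299513 IH) (Lpr_at (K18.f249278 IH) (Lpn (LP (LK LD1_c16 LD2_c35 LD3_c32))))))
theorem f266199 : Led Lsl_cf (LP (LK LD1_c9 LD2_c40 LD3_c19)) = (LP (LK LD1_c5 LD2_c19 LD3_c32)) :=
  Lgr Lrot11 (Lpr_ct (K15.f266195 IH) (Lpn (LP (LK LD1_c5 LD2_c19 LD3_c32))))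
theorem f266198 : Led Lsl_bt (LP (LK LD1_c5 LD2_c19 LD3_c32)) = (LP (LK LD1_c10 LD2_c28 LD3_c55)) :=
  Lre_b IH (LK LD1_c5 LD2_c19 LD3_c32) (LK LD1_c10 LD2_c28 LD3_c55) Lrfl Lrfl
theorem f266205 : Led Lsl_gt (LP (LK LD1_c10 LD2_c28 LD3_c55)) = (LP (LK LD1_c18 LD2_c59 LD3_c51)) :=
  Lre_g IH (LK LD1_c10 LD2_c28 LD3_c55) (LK LD1_c18 LD2_c59 LD3_c51) Lrfl Lrfl
theorem f585433 : Led Lsl_cf (LP (LK LD1_c16 LD2_c34 LD3_c48)) = (LP (LK LD1_c18 LD2_c59 LD3_c51)) :=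
  Lgr Lrot125 (Lpr_gt (f406828 IH) (Lpr_cf (f249295 IH) (Lpe (f300310 IH) (Lpe (K44.f300597 IH) (Lpr_bf (f584472 IH) (Lpr_ct (K15.f248237 IH) (Lpr_gt (K15.f255901 IH) (Lpr_cf (f266199 IH) (Lpr_bt (f266198 IH) (Lpr_gt (f266205 IH) (Lpn (LP (LK LD1_c18 LD2_c59 LD3_c51)))))))))))))
theorem f249279 : Led Lsl_at (LP (LK LD1_c10 LD2_c29 LD3_c27)) = (LP (LK LD1_c5 LD2_c19 LD3_c48)) :=
  Lre_a IH (LK LD1_c10 LD2_c29 LD3_c27) (LK LD1_c5 LD2_c19 LD3_c48) Lrfl Lrfl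
theorem f249280 : Led Lsl_ct (LP (LK LD1_c16 LD2_c35 LD3_c32)) = (LP (LK LD1_c10 LD2_c29 LD3_c27)) :=
  Lgr Lrot111 (Lpe (K18.f249278 IH) (Lpr_cf (K18.f249276 IH) (Lpe (f249279 IH) (Lpn (LP (LK LD1_c10 LD2_c29 LD3_c27))))))
theorem f584392 : Led Lsl_ct (LP (LK LD1_c28 LD2_c20 LD3_c8)) = (LP (LK LD1_c19 LD2_c0 LD3_c52)) :=
  Lgr Lrot40 (Lpr_ff (K44.f584388 IH) (Lpe (f584377 IH) (Lpr_ff (K44.f299549 IH) (Lpn (LP (LK LD1_c19 LD2_c0 LD3_c52))))))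
theorem f230155 : Led Lsl_dt (LP (LK LD1_c5 LD2_c19 LD3_c31)) = (LP (LK LD1_c10 LD2_c28 LD3_c55)) :=
  Lre_d IH (LK LD1_c5 LD2_c19 LD3_c31) (LK LD1_c10 LD2_c28 LD3_c55) Lrfl Lrfl
theorem f585438 : Led Lsl_gf (LP (LK LD1_c28 LD2_c20 LD3_c8)) = (LP (LK LD1_c18 LD2_c59 LD3_c43)) :=
  Lgr Lrot104 (Lpr_ct (f584392 IH) (Lpe (K18.f249304 IH) (Lpe (f249280 IH) (Lpe (f406828 IH) (Lpr_cf (f585433 IH) (Lpe (f266205 IH) (Lpe (f230155 IH) (Lpr_gt (K37.f229994 IH) (Lpr_ct (K44.f230162 IH) (Lpn (LP (LK LD1_c18 LD2_c59 LD3_c43))))))))))))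
theorem f230219 : Led Lsl_bf (LP (LK LD1_c18 LD2_c59 LD3_c43)) = (LP (LK LD1_c18 LD2_c35 LD3_c54)) :=
  Lgr Lrot24 (Lpr_bt (f230212 IH) (Lpn (LP (LK LD1_c18 LD2_c35 LD3_c54))))
theorem f724218 : Led Lsl_gf (LP (LK LD1_c10 LD2_c12 LD3_c55)) = v14640 :=
  Lgr Lrot129 (Lpe (f230211 IH) (Lpe (f230219 IH) (Lpe (f585438 IH) (Lpe (K44.f32778 IH) (Lpr_ct (K44.f32776 IH) (Lpr_gt (K44.f32775 IH) (Lpr_cf (f32744 IH) (Lpr_bt (f32689 IH) (Lpr_gt (f32707 IH) (Lpr_ct (f724215 IH) (Lpn v14640)))))))))))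
theorem f252907 : Led Lsl_bt (LP (LK LD1_c10 LD2_c21 LD3_c22)) = (LP (LK LD1_c18 LD2_c7 LD3_c14)) :=
  Lgr Lrot127 (Lpr_bf (K44.f252905 IH) (Lpn (LP (LK LD1_c18 LD2_c7 LD3_c14))))
theorem f724219 : Led Lsl_gf (LP (LK LD1_c10 LD2_c21 LD3_c44)) = (LP (LK LD1_c18 LD2_c7 LD3_c14)) :=
  Lgr Lrot124 (Lpe (f724192 IH) (Lpr_ct (f724215 IH) (Lpe (f724218 IH) (Lpe (f230211 IH) (Lpe (f230219 IH) (Lpe (f585438 IH) (Lpr_ct (f584392 IH) (Lpe (K44.f584299 IH) (Lpe (K44.f252909 IH) (Lpr_bt (f252907 IH) (Lpn (LP (LK LD1_c18 LD2_c7 LD3_c14)))))))))))))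
theorem f724220 : Led Lsl_gt (LP (LK LD1_c18 LD2_c7 LD3_c14)) = (LP (LK LD1_c10 LD2_c21 LD3_c44)) :=
  Leop (Lpr_gf (f724219 IH) (Lpn (LP (LK LD1_c18 LD2_c7 LD3_c14))))
theorem seed_849 : LEOK LG_g (LK LD1_c18 LD2_c7 LD3_c14) :=
  Leoe_g (LK LD1_c18 LD2_c7 LD3_c14) (f724220 IH)
theorem f723313 : Led Lsl_af (LP (LK LD1_c10 LD2_c12 LD3_c55)) = (LP (LK LD1_c9 LD2_c59 LD3_c39)) :=
  Lgr Lrot0 (Lpr_at (f723311 IH) (Lpn (LP (LK LD1_c9 LD2_c59 LD3_c39))))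
theorem f724223 : Led Lsl_gt (LP (LK LD1_c18 LD2_c15 LD3_c44)) = v14640 :=
  Lgr Lrot5 (Lpr_ft (f585527 IH) (Lpe (f723313 IH) (Lpr_gf (f724218 IH) (Lpn v14640))))
theorem f343234 : Led Lsl_ft (LP (LK LD1_c18 LD2_c44 LD3_c50)) = (LP (LK LD1_c10 LD2_c21 LD3_c11)) :=
  Lgr Lrot75 (Lpr_bf (K44.f343213 IH) (Lpe (K44.f343081 IH) (Lpe (K37.f342974 IH) (Lpn (LP (LK LD1_c10 LD2_c21 LD3_c11))))))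
theorem f343238 : Led Lsl_gt (LP (LK LD1_c18 LD2_c44 LD3_c50)) = (LP (LK LD1_c10 LD2_c21 LD3_c10)) :=
  Lgr Lrot5 (Lpr_ft (f343234 IH) (Lpr_at (K37.f328580 IH) (Lpe (f215031 IH) (Lpn (LP (LK LD1_c10 LD2_c21 LD3_c10))))))
theorem f252791 : Led Lsl_bt (LP (LK LD1_c2 LD2_c28 LD3_c35)) = (LP (LK LD1_c5 LD2_c1 LD3_c50)) :=
  Lre_b IH (LK LD1_c2 LD2_c28 LD3_c35) (LK LD1_c5 LD2_c1 LD3_c50) Lrfl Lrfl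
theorem f333111 : Led Lsl_ft (LP (LK LD1_c5 LD2_c1 LD3_c50)) = (LP (LK LD1_c9 LD2_c52 LD3_c2)) :=
  Lgr Lrot75 (Lpe (f252791 IH) (Lpr_ff (K22.f333109 IH) (Lpe (K44.f3367 IH) (Lpn (LP (LK LD1_c9 LD2_c52 LD3_c2))))))
theorem f252797 : Led Lsl_gt (LP (LK LD1_c5 LD2_c1 LD3_c50)) = (LP (LK LD1_c9 LD2_c54 LD3_c7)) :=
  Lre_g IH (LK LD1_c5 LD2_c1 LD3_c50) (LK LD1_c9 LD2_c54 LD3_c7) Lrfl Lrfl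
theorem f396686 : Led Lsl_gt (LP (LK LD1_c9 LD2_c54 LD3_c7)) = (LP (LK LD1_c18 LD2_c3 LD3_c43)) :=
  Lgr Lrot46 (Lpe (f252797 IH) (Lpr_ft (f333111 IH) (Lpr_at (K26.f180990 IH) (Lpn (LP (LK LD1_c18 LD2_c3 LD3_c43))))))
theorem f252891 : Led Lsl_ct (LP (LK LD1_c18 LD2_c7 LD3_c11)) = (LP (LK LD1_c9 LD2_c54 LD3_c7)) :=
  Lre_c IH (LK LD1_c18 LD2_c7 LD3_c11) (LK LD1_c9 LD2_c54 LD3_c7) Lrfl Lrfl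
theorem f724224 : Led Lsl_gf (LP (LK LD1_c18 LD2_c7 LD3_c11)) = (LP (LK LD1_c10 LD2_c21 LD3_c44)) :=
  Lgr Lrot181 (Lpr_ct (f252891 IH) (Lpr_gt (f396686 IH) (Lpe (K26.f181008 IH) (Lpe (K44.f343213 IH) (Lpr_gt (f343238 IH) (Lpe (f215250 IH) (Lpr_ct (f723331 IH) (Lpr_gt (f724223 IH) (Lpe (f724215 IH) (Lpr_bt (f724192 IH) (Lpn (LP (LK LD1_c10 LD2_c21 LD3_c44)))))))))))))
theorem f724225 : Led Lsl_gt (LP (LK LD1_c10 LD2_c21 LD3_c44)) = (LP (LK LD1_c18 LD2_c7 LD3_c11)) :=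
  Leop (Lpr_gf (f724224 IH) (Lpn (LP (LK LD1_c10 LD2_c21 LD3_c44))))
theorem seed_850 : LEOK LG_g (LK LD1_c10 LD2_c21 LD3_c44) :=
  Leoe_g (LK LD1_c10 LD2_c21 LD3_c44) (f724225 IH)
def v14641 : LQ := Led Lsl_gf (LP (LK LD1_c5 LD2_c16 LD3_c6))
theorem f724228 : Led Lsl_gf (LP (LK LD1_c5 LD2_c16 LD3_c6)) = v14641 :=
  Lrfl
theorem f586105 : Led Lsl_gt (LP (LK LD1_c2 LD2_c36 LD3_c0)) = (LP (LK LD1_c5 LD2_c18 LD3_c39)) :=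
  Lgr Lrot5 (Lpr_ft (K45.f32734 IH) (Lpr_at (K44.f32683 IH) (Lpr_gf (K44.f586103 IH) (Lpn (LP (LK LD1_c5 LD2_c18 LD3_c39))))))
theorem f586293 : Led Lsl_at (LP (LK LD1_c10 LD2_c27 LD3_c13)) = (LP (LK LD1_c10 LD2_c30 LD3_c14)) :=
  Lgr Lrot107 (Lpe (K44.f32704 IH) (Lpe (K44.f585841 IH) (Lpr_cf (K45.f586291 IH) (Lpn (LP (LK LD1_c10 LD2_c30 LD3_c14))))))
theorem f185244 : Led Lsl_ct (LP (LK LD1_c10 LD2_c27 LD3_c13)) = (LP (LK LD1_c5 LD2_c18 LD3_c45)) :=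
  Lre_c IH (LK LD1_c10 LD2_c27 LD3_c13) (LK LD1_c5 LD2_c18 LD3_c45) Lrfl Lrfl
theorem f586099 : Led Lsl_ft (LP (LK LD1_c18 LD2_c15 LD3_c41)) = (LP (LK LD1_c10 LD2_c27 LD3_c13)) :=
  Lgr Lrot4 (Lpr_cf (K44.f586096 IH) (Lpe (K44.f585828 IH) (Lpe (f185244 IH) (Lpn (LP (LK LD1_c10 LD2_c27 LD3_c13))))))
theorem f586304 : Led Lsl_gf (LP (LK LD1_c9 LD2_c59 LD3_c19)) = (LP (LK LD1_c18 LD2_c15 LD3_c41)) :=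
  Lgr Lrot47 (Lpr_gt (f586297 IH) (Lpe (f586293 IH) (Lpe (f586099 IH) (Lpn (LP (LK LD1_c18 LD2_c15 LD3_c41))))))
theorem f166096 : Led Lsl_gt (LP (LK LD1_c9 LD2_c59 LD3_c18)) = (LP (LK LD1_c18 LD2_c15 LD3_c43)) :=
  Lre_g IH (LK LD1_c9 LD2_c59 LD3_c18) (LK LD1_c18 LD2_c15 LD3_c43) Lrfl Lrfl
theorem f724231 : Led Lsl_ct (LP (LK LD1_c18 LD2_c15 LD3_c43)) = v14641 :=
  Lgr Lrot91 (Lpe (f166096 IH) (Lpe (f166088 IH) (Lpr_ct (f166104 IH) (Lpr_gf (f586304 IH) (Lpr_cf (K44.f586096 IH) (Lpr_bt (K44.f586102 IH) (Lpe (f586105 IH) (Lpr_bf (K44.f32598 IH) (Lpr_ct (f32674 IH) (Lpr_gf (f724228 IH) (Lpn v14641)))))))))))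
theorem f585475 : Led Lsl_ft (LP (LK LD1_c5 LD2_c4 LD3_c23)) = (LP (LK LD1_c9 LD2_c59 LD3_c44)) :=
  Lre_f IH (LK LD1_c5 LD2_c4 LD3_c23) (LK LD1_c9 LD2_c59 LD3_c44) Lrfl Lrfl
theorem f585476 : Led Lsl_af (LP (LK LD1_c18 LD2_c15 LD3_c43)) = (LP (LK LD1_c9 LD2_c59 LD3_c44)) :=
  Lgr Lrot31 (Lpe (f166096 IH) (Lpr_gf (f585471 IH) (Lpr_ft (f585475 IH) (Lpn (LP (LK LD1_c9 LD2_c59 LD3_c44))))))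
theorem f585496 : Led Lsl_bt (LP (LK LD1_c5 LD2_c4 LD3_c27)) = (LP (LK LD1_c9 LD2_c59 LD3_c44)) :=
  Lre_b IH (LK LD1_c5 LD2_c4 LD3_c27) (LK LD1_c9 LD2_c59 LD3_c44) Lrfl Lrfl
theorem f585497 : Led Lsl_at (LP (LK LD1_c2 LD2_c29 LD3_c36)) = (LP (LK LD1_c5 LD2_c4 LD3_c27)) :=
  Lre_a IH (LK LD1_c2 LD2_c29 LD3_c36) (LK LD1_c5 LD2_c4 LD3_c27) Lrfl Lrfl
theorem f585498 : Led Lsl_at (LP (LK LD1_c9 LD2_c59 LD3_c59)) = (LP (LK LD1_c5 LD2_c4 LD3_c28)) :=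
  Lre_a IH (LK LD1_c9 LD2_c59 LD3_c59) (LK LD1_c5 LD2_c4 LD3_c28) Lrfl Lrfl
theorem f585499 : Led Lsl_bt (LP (LK LD1_c18 LD2_c15 LD3_c43)) = (LP (LK LD1_c9 LD2_c59 LD3_c59)) :=
  Lgr Lrot62 (Lpr_af (f585476 IH) (Lpe (f585496 IH) (Lpe (f585497 IH) (Lpe (K45.f163863 IH) (Lpe (f585498 IH) (Lpn (LP (LK LD1_c9 LD2_c59 LD3_c59))))))))
theorem f48492 : Led Lsl_at (LP (LK LD1_c2 LD2_c34 LD3_c51)) = (LP (LK LD1_c5 LD2_c16 LD3_c6)) :=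
  Lre_a IH (LK LD1_c2 LD2_c34 LD3_c51) (LK LD1_c5 LD2_c16 LD3_c6) Lrfl Lrfl
theorem f48853 : Led Lsl_ft (LP (LK LD1_c5 LD2_c16 LD3_c8)) = (LP (LK LD1_c2 LD2_c34 LD3_c51)) :=
  Lre_f IH (LK LD1_c5 LD2_c16 LD3_c8) (LK LD1_c2 LD2_c34 LD3_c51) Lrfl Lrfl
theorem f724229 : Led Lsl_gt (LP (LK LD1_c5 LD2_c16 LD3_c8)) = v14641 :=
  Lgr Lrot5 (Lpr_ft (f48853 IH) (Lpr_at (f48492 IH) (Lpr_gf (f724228 IH) (Lpn v14641))))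
theorem f724233 : Led Lsl_gt (LP (LK LD1_c9 LD2_c59 LD3_c59)) = (LP (LK LD1_c10 LD2_c13 LD3_c10)) :=
  Lgr Lrot82 (Lpe (f585499 IH) (Lpr_ct (f724231 IH) (Lpe (f724229 IH) (Lpe (f35063 IH) (Lpr_bt (f32583 IH) (Lpr_gf (K9.f165811 IH) (Lpe (K37.f165819 IH) (Lpr_ct (K38.f165820 IH) (Lpe (K38.f165834 IH) (Lpr_cf (K38.f186617 IH) (Lpn (LP (LK LD1_c10 LD2_c13 LD3_c10)))))))))))))
theorem f724234 : Led Lsl_gt (LP (LK LD1_c9 LD2_c59 LD3_c59)) = (LP (LK LD1_c10 LD2_c13 LD3_c10)) :=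
  Leop (Lpe (f724233 IH) (Lpn (LP (LK LD1_c9 LD2_c59 LD3_c59))))
theorem seed_851 : LEOK LG_g (LK LD1_c9 LD2_c59 LD3_c59) :=
  Leoe_g (LK LD1_c9 LD2_c59 LD3_c59) (f724234 IH)
theorem f724232 : Led Lsl_cf (LP (LK LD1_c18 LD2_c15 LD3_c43)) = v14641 :=
  Lgr Lrot11 (Lpr_ct (f724231 IH) (Lpn v14641))
theorem f32461 : Led Lsl_at (LP (LK LD1_c10 LD2_c23 LD3_c54)) = (LP (LK LD1_c5 LD2_c17 LD3_c7)) :=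
  Lre_a IH (LK LD1_c10 LD2_c23 LD3_c54) (LK LD1_c5 LD2_c17 LD3_c7) Lrfl Lrfl
theorem f32463 : Led Lsl_cf (LP (LK LD1_c10 LD2_c23 LD3_c54)) = (LP (LK LD1_c10 LD2_c19 LD3_c45)) :=
  Lgr Lrot1 (Lpr_at (f32461 IH) (Lpr_ct (K2.f32450 IH) (Lpr_at (K44.f32462 IH) (Lpn (LP (LK LD1_c10 LD2_c19 LD3_c45))))))
theorem f586107 : Led Lsl_ft (LP (LK LD1_c5 LD2_c18 LD3_c39)) = (LP (LK LD1_c2 LD2_c35 LD3_c61)) :=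
  Lre_f IH (LK LD1_c5 LD2_c18 LD3_c39) (LK LD1_c2 LD2_c35 LD3_c61) Lrfl Lrfl
theorem f586108 : Led Lsl_at (LP (LK LD1_c2 LD2_c35 LD3_c61)) = (LP (LK LD1_c5 LD2_c18 LD3_c44)) :=
  Lre_a IH (LK LD1_c2 LD2_c35 LD3_c61) (LK LD1_c5 LD2_c18 LD3_c44) Lrfl Lrfl
theorem f586109 : Led Lsl_gt (LP (LK LD1_c2 LD2_c36 LD3_c2)) = (LP (LK LD1_c5 LD2_c18 LD3_c44)) :=
  Lgr Lrot46 (Lpr_gf (K44.f586103 IH) (Lpr_ft (f586107 IH) (Lpr_at (f586108 IH) (Lpn (LP (LK LD1_c5 LD2_c18 LD3_c44))))))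
theorem f32667 : Led Lsl_at (LP (LK LD1_c1 LD2_c14 LD3_c61)) = (LP (LK LD1_c2 LD2_c36 LD3_c0)) :=
  Lre_a IH (LK LD1_c1 LD2_c14 LD3_c61) (LK LD1_c2 LD2_c36 LD3_c0) Lrfl Lrfl
theorem f604216 : Led Lsl_gf (LP (LK LD1_c2 LD2_c36 LD3_c0)) = (LP (LK LD1_c5 LD2_c18 LD3_c44)) :=
  Lgr Lrot76 (Lpe (f32667 IH) (Lpe (K10.f48562 IH) (Lpr_gt (f586109 IH) (Lpn (LP (LK LD1_c5 LD2_c18 LD3_c44))))))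
theorem f32671 : Led Lsl_ct (LP (LK LD1_c5 LD2_c18 LD3_c9)) = (LP (LK LD1_c2 LD2_c36 LD3_c0)) :=
  Lre_c IH (LK LD1_c5 LD2_c18 LD3_c9) (LK LD1_c2 LD2_c36 LD3_c0) Lrfl Lrfl
theorem f586264 : Led Lsl_ct (LP (LK LD1_c10 LD2_c27 LD3_c2)) = (LP (LK LD1_c5 LD2_c18 LD3_c44)) :=
  Lre_c IH (LK LD1_c10 LD2_c27 LD3_c2) (LK LD1_c5 LD2_c18 LD3_c44) Lrfl Lrfl
theorem f585253 : Led Lsl_at (LP (LK LD1_c10 LD2_c30 LD3_c9)) = (LP (LK LD1_c19 LD2_c1 LD3_c54)) :=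
  Lre_a IH (LK LD1_c10 LD2_c30 LD3_c9) (LK LD1_c19 LD2_c1 LD3_c54) Lrfl Lrfl
theorem f586163 : Led Lsl_gt (LP (LK LD1_c18 LD2_c35 LD3_c50)) = (LP (LK LD1_c19 LD2_c1 LD3_c54)) :=
  Lgr Lrot46 (Lpr_gf (K44.f586154 IH) (Lpr_ft (K44.f585281 IH) (Lpr_at (f585253 IH) (Lpn (LP (LK LD1_c19 LD2_c1 LD3_c54))))))
theorem f417624 : Led Lsl_bt (LP (LK LD1_c10 LD2_c25 LD3_c32)) = (LP (LK LD1_c18 LD2_c54 LD3_c41)) :=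
  Lre_b IH (LK LD1_c10 LD2_c25 LD3_c32) (LK LD1_c18 LD2_c54 LD3_c41) Lrfl Lrfl
theorem f586119 : Led Lsl_bt (LP (LK LD1_c15 LD2_c32 LD3_c12)) = (LP (LK LD1_c10 LD2_c26 LD3_c54)) :=
  Lgr Lrot127 (Lpr_bf (K44.f586114 IH) (Lpn (LP (LK LD1_c10 LD2_c26 LD3_c54))))
theorem f586258 : Led Lsl_gf (LP (LK LD1_c18 LD2_c54 LD3_c41)) = (LP (LK LD1_c10 LD2_c26 LD3_c54)) :=
  Lgr Lrot124 (Lpe (f417624 IH) (Lpe (K44.f417625 IH) (Lpe (K44.f584283 IH) (Lpe (K18.f249375 IH) (Lpe (K44.f249524 IH) (Lpr_gt (K44.f584289 IH) (Lpe (K44.f584291 IH) (Lpr_gt (f586163 IH) (Lpr_cf (K45.f586249 IH) (Lpr_bt (f586119 IH) (Lpn (LP (LK LD1_c10 LD2_c26 LD3_c54)))))))))))))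
theorem f586260 : Led Lsl_ft (LP (LK LD1_c10 LD2_c26 LD3_c54)) = (LP (LK LD1_c5 LD2_c18 LD3_c46)) :=
  Lre_f IH (LK LD1_c10 LD2_c26 LD3_c54) (LK LD1_c5 LD2_c18 LD3_c46) Lrfl Lrfl
theorem f586137 : Led Lsl_at (LP (LK LD1_c5 LD2_c18 LD3_c46)) = (LP (LK LD1_c10 LD2_c27 LD3_c2)) :=
  Lre_a IH (LK LD1_c5 LD2_c18 LD3_c46) (LK LD1_c10 LD2_c27 LD3_c2) Lrfl Lrfl
theorem f586261 : Led Lsl_gt (LP (LK LD1_c18 LD2_c54 LD3_c41)) = (LP (LK LD1_c10 LD2_c27 LD3_c2)) :=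
  Lgr Lrot46 (Lpr_gf (f586258 IH) (Lpr_ft (f586260 IH) (Lpr_at (f586137 IH) (Lpn (LP (LK LD1_c10 LD2_c27 LD3_c2))))))
theorem f584285 : Led Lsl_gt (LP (LK LD1_c27 LD2_c32 LD3_c8)) = (LP (LK LD1_c18 LD2_c13 LD3_c8)) :=
  Lgr Lrot5 (Lpr_ft (K18.f300229 IH) (Lpr_at (K18.f300236 IH) (Lpr_gf (K44.f584283 IH) (Lpn (LP (LK LD1_c18 LD2_c13 LD3_c8))))))
theorem f604248 : Led Lsl_gt (LP (LK LD1_c10 LD2_c23 LD3_c54)) = (LP (LK LD1_c18 LD2_c51 LD3_c53)) :=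
  Lgr Lrot164 (Lpe (K44.f32729 IH) (Lpr_ct (f32671 IH) (Lpr_gf (f604216 IH) (Lpe (f586264 IH) (Lpe (f586261 IH) (Lpe (f417624 IH) (Lpe (K44.f417625 IH) (Lpe (f584285 IH) (Lpe (K44.f584440 IH) (Lpr_bt (K44.f584327 IH) (Lpn (LP (LK LD1_c18 LD2_c51 LD3_c53)))))))))))))
theorem f212513 : Led Lsl_bt (LP (LK LD1_c25 LD2_c46 LD3_c47)) = (LP (LK LD1_c15 LD2_c50 LD3_c46)) :=
  Lre_b IH (LK LD1_c25 LD2_c46 LD3_c47) (LK LD1_c15 LD2_c50 LD3_c46) Lrfl Lrfl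
theorem f181004 : Led Lsl_bt (LP (LK LD1_c10 LD2_c20 LD3_c48)) = (LP (LK LD1_c5 LD2_c15 LD3_c45)) :=
  Lre_b IH (LK LD1_c10 LD2_c20 LD3_c48) (LK LD1_c5 LD2_c15 LD3_c45) Lrfl Lrfl
theorem f212459 : Led Lsl_ff (LP (LK LD1_c10 LD2_c20 LD3_c48)) = (LP (LK LD1_c8 LD2_c26 LD3_c12)) :=
  Lgr Lrot25 (Lpr_bt (f181004 IH) (Lpr_ft (K12.f212456 IH) (Lpr_bt (K13.f45018 IH) (Lpn (LP (LK LD1_c8 LD2_c26 LD3_c12))))))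
theorem f252377 : Led Lsl_at (LP (LK LD1_c10 LD2_c20 LD3_c48)) = (LP (LK LD1_c18 LD2_c46 LD3_c38)) :=
  Lre_a IH (LK LD1_c10 LD2_c20 LD3_c48) (LK LD1_c18 LD2_c46 LD3_c38) Lrfl Lrfl
theorem f418902 : Led Lsl_gf (LP (LK LD1_c18 LD2_c46 LD3_c38)) = (LP (LK LD1_c15 LD2_c50 LD3_c46)) :=
  Lgr Lrot76 (Lpe (f252377 IH) (Lpr_ff (f212459 IH) (Lpr_gt (K44.f45058 IH) (Lpn (LP (LK LD1_c15 LD2_c50 LD3_c46))))))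
theorem f252468 : Led Lsl_ct (LP (LK LD1_c18 LD2_c46 LD3_c38)) = (LP (LK LD1_c17 LD2_c47 LD3_c37)) :=
  Lgr Lrot59 (Lpr_cf (K44.f252465 IH) (Lpn (LP (LK LD1_c17 LD2_c47 LD3_c37))))
theorem f43690 : Led Lsl_gt (LP (LK LD1_c17 LD2_c47 LD3_c37)) = (LP (LK LD1_c9 LD2_c40 LD3_c25)) :=
  Lre_g IH (LK LD1_c17 LD2_c47 LD3_c37) (LK LD1_c9 LD2_c40 LD3_c25) Lrfl Lrfl
theorem f51302 : Led Lsl_ct (LP (LK LD1_c17 LD2_c47 LD3_c45)) = (LP (LK LD1_c9 LD2_c40 LD3_c25)) :=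
  Lre_c IH (LK LD1_c17 LD2_c47 LD3_c45) (LK LD1_c9 LD2_c40 LD3_c25) Lrfl Lrfl
theorem f724230 : Led Lsl_bt (LP (LK LD1_c17 LD2_c47 LD3_c45)) = v14641 :=
  Lgr Lrot22 (Lpr_ct (f51302 IH) (Lpe (f43690 IH) (Lpe (f252468 IH) (Lpr_gf (f418902 IH) (Lpe (f212513 IH) (Lpe (K44.f584438 IH) (Lpe (f604248 IH) (Lpr_cf (f32463 IH) (Lpr_bt (K44.f32731 IH) (Lpr_gf (f724228 IH) (Lpn v14641)))))))))))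
theorem f43692 : Led Lsl_ct (LP (LK LD1_c9 LD2_c40 LD3_c25)) = (LP (LK LD1_c17 LD2_c47 LD3_c45)) :=
  Lre_c IH (LK LD1_c9 LD2_c40 LD3_c25) (LK LD1_c17 LD2_c47 LD3_c45) Lrfl Lrfl
theorem f43693 : Led Lsl_bt (LP (LK LD1_c17 LD2_c47 LD3_c44)) = (LP (LK LD1_c9 LD2_c40 LD3_c25)) :=
  Lre_b IH (LK LD1_c17 LD2_c47 LD3_c44) (LK LD1_c9 LD2_c40 LD3_c25) Lrfl Lrfl
theorem f724235 : Led Lsl_ct (LP (LK LD1_c9 LD2_c59 LD3_c59)) = (LP (LK LD1_c17 LD2_c47 LD3_c44)) :=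
  Lgr Lrot83 (Lpe (f585499 IH) (Lpr_cf (f724232 IH) (Lpe (f724230 IH) (Lpe (f43692 IH) (Lpe (f43693 IH) (Lpn (LP (LK LD1_c17 LD2_c47 LD3_c44))))))))
theorem f724236 : Led Lsl_ct (LP (LK LD1_c9 LD2_c59 LD3_c59)) = (LP (LK LD1_c17 LD2_c47 LD3_c44)) :=
  Leop (Lpe (f724235 IH) (Lpn (LP (LK LD1_c9 LD2_c59 LD3_c59))))
theorem seed_852 : LEOK LG_c (LK LD1_c9 LD2_c59 LD3_c59) :=
  Leoe_c (LK LD1_c9 LD2_c59 LD3_c59) (f724236 IH)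
theorem f585517 : Led Lsl_bf (LP (LK LD1_c18 LD2_c15 LD3_c43)) = (LP (LK LD1_c9 LD2_c59 LD3_c59)) :=
  Lgr Lrot24 (Lpr_bt (f585499 IH) (Lpn (LP (LK LD1_c9 LD2_c59 LD3_c59))))
theorem f585502 : Led Lsl_at (LP (LK LD1_c9 LD2_c59 LD3_c40)) = (LP (LK LD1_c5 LD2_c4 LD3_c23)) :=
  Lre_a IH (LK LD1_c9 LD2_c59 LD3_c40) (LK LD1_c5 LD2_c4 LD3_c23) Lrfl Lrfl
theorem f585503 : Led Lsl_ft (LP (LK LD1_c18 LD2_c15 LD3_c43)) = (LP (LK LD1_c9 LD2_c59 LD3_c40)) :=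
  Lgr Lrot101 (Lpr_af (f585476 IH) (Lpe (f585475 IH) (Lpe (f585502 IH) (Lpn (LP (LK LD1_c9 LD2_c59 LD3_c40))))))
theorem f585510 : Led Lsl_gt (LP (LK LD1_c18 LD2_c15 LD3_c43)) = (LP (LK LD1_c9 LD2_c59 LD3_c39)) :=
  Lgr Lrot5 (Lpr_ft (f585503 IH) (Lpr_at (f585502 IH) (Lpe (f343374 IH) (Lpn (LP (LK LD1_c9 LD2_c59 LD3_c39))))))
theorem f260141 : Led Lsl_ct (LP (LK LD1_c5 LD2_c10 LD3_c60)) = (LP (LK LD1_c10 LD2_c12 LD3_c38)) :=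
  Lre_c IH (LK LD1_c5 LD2_c10 LD3_c60) (LK LD1_c10 LD2_c12 LD3_c38) Lrfl Lrfl
theorem f724244 : Led Lsl_gt (LP (LK LD1_c10 LD2_c12 LD3_c38)) = (LP (LK LD1_c17 LD2_c47 LD3_c44)) :=
  Lgr Lrot65 (Lpe (f260141 IH) (Lpr_bt (K44.f260132 IH) (Lpr_gf (f343420 IH) (Lpe (K44.f166100 IH) (Lpr_ct (K44.f35083 IH) (Lpe (f214882 IH) (Lpe (f343398 IH) (Lpe (f585510 IH) (Lpr_bf (f585517 IH) (Lpr_ct (f724235 IH) (Lpn (LP (LK LD1_c17 LD2_c47 LD3_c44)))))))))))))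
theorem f343577 : Led Lsl_dt (LP (LK LD1_c2 LD2_c32 LD3_c29)) = (LP (LK LD1_c5 LD2_c11 LD3_c0)) :=
  Lre_d IH (LK LD1_c2 LD2_c32 LD3_c29) (LK LD1_c5 LD2_c11 LD3_c0) Lrfl Lrfl
theorem f257097 : Led Lsl_gt (LP (LK LD1_c18 LD2_c9 LD3_c4)) = (LP (LK LD1_c9 LD2_c54 LD3_c58)) :=
  Lre_g IH (LK LD1_c18 LD2_c9 LD3_c4) (LK LD1_c9 LD2_c54 LD3_c58) Lrfl Lrfl
theorem f724250 : Led Lsl_df (LP (LK LD1_c18 LD2_c9 LD3_c4)) = (LP (LK LD1_c17 LD2_c47 LD3_c44)) :=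
  Lgr Lrot153 (Lpr_gt (f257097 IH) (Lpr_dt (K44.f583319 IH) (Lpe (K44.f169607 IH) (Lpe (K44.f300626 IH) (Lpe (K44.f583324 IH) (Lpe (f343577 IH) (Lpe (K44.f212439 IH) (Lpe (K44.f212440 IH) (Lpr_gt (f724244 IH) (Lpn (LP (LK LD1_c17 LD2_c47 LD3_c44))))))))))))
theorem f724254 : Led Lsl_dt (LP (LK LD1_c18 LD2_c9 LD3_c4)) = (LP (LK LD1_c17 LD2_c47 LD3_c44)) :=
  Lgr Lrot42 (Lpr_df (f724250 IH) (Lpn (LP (LK LD1_c17 LD2_c47 LD3_c44))))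
theorem f585523 : Led Lsl_at (LP (LK LD1_c5 LD2_c4 LD3_c28)) = (LP (LK LD1_c9 LD2_c59 LD3_c59)) :=
  Lre_a IH (LK LD1_c5 LD2_c4 LD3_c28) (LK LD1_c9 LD2_c59 LD3_c59) Lrfl Lrfl
theorem f724237 : Led Lsl_af (LP (LK LD1_c9 LD2_c59 LD3_c60)) = (LP (LK LD1_c17 LD2_c47 LD3_c44)) :=
  Lgr Lrot68 (Lpr_ct (K44.f247940 IH) (Lpr_at (f585523 IH) (Lpr_ct (f724235 IH) (Lpn (LP (LK LD1_c17 LD2_c47 LD3_c44))))))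
theorem f724256 : Led Lsl_af (LP (LK LD1_c18 LD2_c9 LD3_c4)) = (LP (LK LD1_c18 LD2_c16 LD3_c49)) :=
  Lgr Lrot117 (Lpr_dt (f724254 IH) (Lpe (f724237 IH) (Lpr_dt (K45.f247943 IH) (Lpn (LP (LK LD1_c18 LD2_c16 LD3_c49))))))
theorem f584635 : Led Lsl_gf (LP (LK LD1_c18 LD2_c9 LD3_c4)) = (LP (LK LD1_c18 LD2_c10 LD3_c50)) :=
  Lgr Lrot47 (Lpr_gt (f257097 IH) (Lpe (K44.f263385 IH) (Lpr_ff (K44.f584624 IH) (Lpn (LP (LK LD1_c18 LD2_c10 LD3_c50))))))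
theorem f252980 : Led Lsl_gt (LP (LK LD1_c9 LD2_c54 LD3_c58)) = (LP (LK LD1_c18 LD2_c9 LD3_c3)) :=
  Lre_g IH (LK LD1_c9 LD2_c54 LD3_c58) (LK LD1_c18 LD2_c9 LD3_c3) Lrfl Lrfl
theorem f584674 : Led Lsl_gt (LP (LK LD1_c18 LD2_c9 LD3_c3)) = (LP (LK LD1_c18 LD2_c10 LD3_c50)) :=
  Lgr Lrot46 (Lpe (f252980 IH) (Lpe (K44.f364369 IH) (Lpr_at (K44.f584628 IH) (Lpn (LP (LK LD1_c18 LD2_c10 LD3_c50))))))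
theorem f724263 : Led Lsl_ft (LP (LK LD1_c18 LD2_c9 LD3_c3)) = (LP (LK LD1_c18 LD2_c16 LD3_c49)) :=
  Lgr Lrot2 (Lpr_gt (f584674 IH) (Lpe (f584635 IH) (Lpr_af (f724256 IH) (Lpn (LP (LK LD1_c18 LD2_c16 LD3_c49))))))
theorem f724267 : Led Lsl_ff (LP (LK LD1_c18 LD2_c9 LD3_c3)) = (LP (LK LD1_c18 LD2_c16 LD3_c49)) :=
  Lgr Lrot3 (Lpr_ft (f724263 IH) (Lpn (LP (LK LD1_c18 LD2_c16 LD3_c49))))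
theorem f263380 : Led Lsl_at (LP (LK LD1_c27 LD2_c49 LD3_c26)) = (LP (LK LD1_c18 LD2_c9 LD3_c2)) :=
  Lre_a IH (LK LD1_c27 LD2_c49 LD3_c26) (LK LD1_c18 LD2_c9 LD3_c2) Lrfl Lrfl
theorem f376881 : Led Lsl_at (LP (LK LD1_c18 LD2_c45 LD3_c37)) = (LP (LK LD1_c10 LD2_c20 LD3_c5)) :=
  Lre_a IH (LK LD1_c18 LD2_c45 LD3_c37) (LK LD1_c10 LD2_c20 LD3_c5) Lrfl Lrfl
theorem f376882 : Led Lsl_ff (LP (LK LD1_c18 LD2_c45 LD3_c37)) = (LP (LK LD1_c27 LD2_c49 LD3_c26)) :=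
  Lgr Lrot30 (Lpr_at (f376881 IH) (Lpr_ft (K44.f376879 IH) (Lpr_at (K44.f263377 IH) (Lpn (LP (LK LD1_c27 LD2_c49 LD3_c26))))))
theorem f376886 : Led Lsl_ft (LP (LK LD1_c18 LD2_c45 LD3_c37)) = (LP (LK LD1_c27 LD2_c49 LD3_c26)) :=
  Lgr Lrot48 (Lpr_ff (f376882 IH) (Lpn (LP (LK LD1_c27 LD2_c49 LD3_c26))))
theorem f584724 : Led Lsl_gf (LP (LK LD1_c18 LD2_c35 LD3_c20)) = (LP (LK LD1_c18 LD2_c45 LD3_c37)) :=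
  Lgr Lrot47 (Lpr_gt (K44.f584712 IH) (Lpe (f263380 IH) (Lpe (f376886 IH) (Lpn (LP (LK LD1_c18 LD2_c45 LD3_c37))))))
theorem f248118 : Led Lsl_ct (LP (LK LD1_c18 LD2_c35 LD3_c20)) = (LP (LK LD1_c10 LD2_c12 LD3_c24)) :=
  Lre_c IH (LK LD1_c18 LD2_c35 LD3_c20) (LK LD1_c10 LD2_c12 LD3_c24) Lrfl Lrfl
theorem f248152 : Led Lsl_dt (LP (LK LD1_c5 LD2_c10 LD3_c53)) = (LP (LK LD1_c10 LD2_c12 LD3_c24)) :=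
  Lre_d IH (LK LD1_c5 LD2_c10 LD3_c53) (LK LD1_c10 LD2_c12 LD3_c24) Lrfl Lrfl
theorem f584622 : Led Lsl_cf (LP (LK LD1_c18 LD2_c45 LD3_c37)) = (LP (LK LD1_c18 LD2_c10 LD3_c50)) :=
  Lgr Lrot108 (Lpr_ft (f376886 IH) (Lpr_ct (K44.f263381 IH) (Lpr_ft (K44.f584612 IH) (Lpn (LP (LK LD1_c18 LD2_c10 LD3_c50))))))
theorem f584986 : Led Lsl_df (LP (LK LD1_c17 LD2_c47 LD3_c48)) = (LP (LK LD1_c18 LD2_c9 LD3_c3)) :=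
  Lgr Lrot155 (Lpe (K44.f582876 IH) (Lpr_ct (K44.f212440 IH) (Lpr_gt (K44.f212439 IH) (Lpr_ct (K44.f180744 IH) (Lpr_dt (f248152 IH) (Lpe (f248118 IH) (Lpr_gf (f584724 IH) (Lpr_cf (f584622 IH) (Lpe (f584674 IH) (Lpn (LP (LK LD1_c18 LD2_c9 LD3_c3))))))))))))
theorem f724269 : Led Lsl_ft (LP (LK LD1_c17 LD2_c47 LD3_c48)) = (LP (LK LD1_c9 LD2_c59 LD3_c60)) :=
  Lgr Lrot54 (Lpr_df (f584986 IH) (Lpr_ff (f724267 IH) (Lpe (K45.f247943 IH) (Lpn (LP (LK LD1_c9 LD2_c59 LD3_c60))))))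
theorem f724334 : Led Lsl_ff (LP (LK LD1_c25 LD2_c3 LD3_c41)) = (LP (LK LD1_c18 LD2_c16 LD3_c48)) :=
  Lgr Lrot25 (Lpr_bt (K44.f582878 IH) (Lpr_ft (f724269 IH) (Lpr_bt (K44.f343491 IH) (Lpn (LP (LK LD1_c18 LD2_c16 LD3_c48))))))
theorem f584618 : Led Lsl_af (LP (LK LD1_c10 LD2_c10 LD3_c54)) = (LP (LK LD1_c18 LD2_c10 LD3_c50)) :=
  Lgr Lrot45 (Lpr_ft (K44.f364376 IH) (Lpr_at (K45.f376952 IH) (Lpr_ft (K44.f584612 IH) (Lpn (LP (LK LD1_c18 LD2_c10 LD3_c50))))))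
theorem f376892 : Led Lsl_gt (LP (LK LD1_c18 LD2_c32 LD3_c50)) = (LP (LK LD1_c10 LD2_c10 LD3_c54)) :=
  Lre_g IH (LK LD1_c18 LD2_c32 LD3_c50) (LK LD1_c10 LD2_c10 LD3_c54) Lrfl Lrfl
theorem f584626 : Led Lsl_gt (LP (LK LD1_c18 LD2_c9 LD3_c5)) = (LP (LK LD1_c18 LD2_c32 LD3_c50)) :=
  Lgr Lrot5 (Lpr_ft (K44.f584612 IH) (Lpe (f584618 IH) (Lpe (f376892 IH) (Lpn (LP (LK LD1_c18 LD2_c32 LD3_c50))))))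
theorem f724271 : Led Lsl_at (LP (LK LD1_c18 LD2_c9 LD3_c3)) = (LP (LK LD1_c18 LD2_c32 LD3_c50)) :=
  Lgr Lrot26 (Lpr_ff (f724267 IH) (Lpr_gt (K45.f584988 IH) (Lpr_gt (f584626 IH) (Lpn (LP (LK LD1_c18 LD2_c32 LD3_c50))))))
theorem f724261 : Led Lsl_at (LP (LK LD1_c18 LD2_c9 LD3_c4)) = (LP (LK LD1_c18 LD2_c16 LD3_c49)) :=
  Lgr Lrot100 (Lpr_af (f724256 IH) (Lpn (LP (LK LD1_c18 LD2_c16 LD3_c49))))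
theorem f724277 : Led Lsl_ff (LP (LK LD1_c18 LD2_c9 LD3_c4)) = (LP (LK LD1_c18 LD2_c32 LD3_c50)) :=
  Lgr Lrot30 (Lpr_at (f724261 IH) (Lpe (f724267 IH) (Lpr_at (f724271 IH) (Lpn (LP (LK LD1_c18 LD2_c32 LD3_c50))))))
theorem f724281 : Led Lsl_ft (LP (LK LD1_c18 LD2_c9 LD3_c4)) = (LP (LK LD1_c18 LD2_c32 LD3_c50)) :=
  Lgr Lrot48 (Lpr_ff (f724277 IH) (Lpn (LP (LK LD1_c18 LD2_c32 LD3_c50))))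
theorem f405313 : Led Lsl_gt (LP (LK LD1_c18 LD2_c13 LD3_c47)) = (LP (LK LD1_c9 LD2_c57 LD3_c44)) :=
  Lre_g IH (LK LD1_c18 LD2_c13 LD3_c47) (LK LD1_c9 LD2_c57 LD3_c44) Lrfl Lrfl
theorem f544828 : Led Lsl_df (LP (LK LD1_c18 LD2_c13 LD3_c47)) = (LP (LK LD1_c18 LD2_c32 LD3_c50)) :=
  Lgr Lrot155 (Lpr_gt (f405313 IH) (Lpr_ct (K38.f184513 IH) (Lpe (K38.f405309 IH) (Lpr_ct (K37.f343347 IH) (Lpr_dt (K37.f343435 IH) (Lpr_cf (K37.f544822 IH) (Lpe (K37.f264950 IH) (Lpr_cf (K37.f264946 IH) (Lpe (f376892 IH) (Lpn (LP (LK LD1_c18 LD2_c32 LD3_c50))))))))))))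
theorem f724283 : Led Lsl_ff (LP (LK LD1_c17 LD2_c47 LD3_c44)) = (LP (LK LD1_c18 LD2_c13 LD3_c47)) :=
  Lgr Lrot19 (Lpe (f724250 IH) (Lpr_ft (f724281 IH) (Lpe (f544828 IH) (Lpn (LP (LK LD1_c18 LD2_c13 LD3_c47))))))
theorem f724287 : Led Lsl_ft (LP (LK LD1_c9 LD2_c40 LD3_c25)) = (LP (LK LD1_c17 LD2_c47 LD3_c38)) :=
  Lre_f IH (LK LD1_c9 LD2_c40 LD3_c25) (LK LD1_c17 LD2_c47 LD3_c38) Lrfl Lrfl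
theorem f724288 : Led Lsl_bt (LP (LK LD1_c17 LD2_c47 LD3_c38)) = (LP (LK LD1_c18 LD2_c13 LD3_c47)) :=
  Lgr Lrot35 (Lpe (f724287 IH) (Lpe (f43693 IH) (Lpr_ff (f724283 IH) (Lpn (LP (LK LD1_c18 LD2_c13 LD3_c47))))))
theorem f724290 : Led Lsl_at (LP (LK LD1_c9 LD2_c40 LD3_c24)) = (LP (LK LD1_c17 LD2_c47 LD3_c38)) :=
  Lre_a IH (LK LD1_c9 LD2_c40 LD3_c24) (LK LD1_c17 LD2_c47 LD3_c38) Lrfl Lrfl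
theorem f43695 : Led Lsl_bt (LP (LK LD1_c17 LD2_c47 LD3_c39)) = (LP (LK LD1_c9 LD2_c40 LD3_c24)) :=
  Lre_b IH (LK LD1_c17 LD2_c47 LD3_c39) (LK LD1_c9 LD2_c40 LD3_c24) Lrfl Lrfl
theorem f584984 : Led Lsl_dt (LP (LK LD1_c17 LD2_c47 LD3_c48)) = (LP (LK LD1_c18 LD2_c9 LD3_c3)) :=
  Lgr Lrot6 (Lpe (K44.f582876 IH) (Lpr_ct (K44.f212440 IH) (Lpr_gt (K44.f212439 IH) (Lpr_ct (K44.f180744 IH) (Lpe (K44.f180743 IH) (Lpe (f248118 IH) (Lpr_gf (f584724 IH) (Lpr_cf (f584622 IH) (Lpe (f584674 IH) (Lpn (LP (LK LD1_c18 LD2_c9 LD3_c3))))))))))))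
theorem f724275 : Led Lsl_af (LP (LK LD1_c17 LD2_c47 LD3_c48)) = (LP (LK LD1_c18 LD2_c13 LD3_c47)) :=
  Lgr Lrot117 (Lpr_dt (f584984 IH) (Lpr_at (f724271 IH) (Lpe (f544828 IH) (Lpn (LP (LK LD1_c18 LD2_c13 LD3_c47))))))
theorem f582881 : Led Lsl_bf (LP (LK LD1_c25 LD2_c3 LD3_c41)) = (LP (LK LD1_c17 LD2_c47 LD3_c48)) :=
  Lgr Lrot24 (Lpr_bt (K44.f582878 IH) (Lpn (LP (LK LD1_c17 LD2_c47 LD3_c48))))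
theorem f724291 : Led Lsl_af (LP (LK LD1_c17 LD2_c47 LD3_c39)) = (LP (LK LD1_c25 LD2_c3 LD3_c41)) :=
  Lgr Lrot36 (Lpr_bt (f43695 IH) (Lpr_at (f724290 IH) (Lpr_bt (f724288 IH) (Lpe (f724275 IH) (Lpe (f582881 IH) (Lpn (LP (LK LD1_c25 LD2_c3 LD3_c41))))))))
theorem f724312 : Led Lsl_gt (LP (LK LD1_c27 LD2_c34 LD3_c47)) = (LP (LK LD1_c17 LD2_c47 LD3_c39)) :=
  Lre_g IH (LK LD1_c27 LD2_c34 LD3_c47) (LK LD1_c17 LD2_c47 LD3_c39) Lrfl Lrfl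
theorem f724718 : Led Lsl_gf (LP (LK LD1_c27 LD2_c34 LD3_c47)) = (LP (LK LD1_c18 LD2_c16 LD3_c48)) :=
  Lgr Lrot47 (Lpr_gt (f724312 IH) (Lpr_af (f724291 IH) (Lpr_ff (f724334 IH) (Lpn (LP (LK LD1_c18 LD2_c16 LD3_c48))))))
theorem f247931 : Led Lsl_ct (LP (LK LD1_c10 LD2_c0 LD3_c1)) = (LP (LK LD1_c18 LD2_c16 LD3_c48)) :=
  Lre_c IH (LK LD1_c10 LD2_c0 LD3_c1) (LK LD1_c18 LD2_c16 LD3_c48) Lrfl Lrfl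
theorem f583276 : Led Lsl_bt (LP (LK LD1_c10 LD2_c0 LD3_c1)) = (LP (LK LD1_c5 LD2_c4 LD3_c29)) :=
  Lre_b IH (LK LD1_c10 LD2_c0 LD3_c1) (LK LD1_c5 LD2_c4 LD3_c29) Lrfl Lrfl
theorem f190544 : Led Lsl_bt (LP (LK LD1_c18 LD2_c6 LD3_c46)) = (LP (LK LD1_c9 LD2_c53 LD3_c59)) :=
  Lre_b IH (LK LD1_c18 LD2_c6 LD3_c46) (LK LD1_c9 LD2_c53 LD3_c59) Lrfl Lrfl
theorem f724720 : Led Lsl_cf (LP (LK LD1_c27 LD2_c34 LD3_c47)) = (LP (LK LD1_c18 LD2_c6 LD3_c46)) :=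
  Lgr Lrot58 (Lpr_gf (f724718 IH) (Lpe (f247931 IH) (Lpr_bt (f583276 IH) (Lpe (K44.f343304 IH) (Lpe (f343014 IH) (Lpr_ct (f343011 IH) (Lpe (K10.f190615 IH) (Lpe (K10.f165385 IH) (Lpe (K44.f190498 IH) (Lpe (f190544 IH) (Lpn (LP (LK LD1_c18 LD2_c6 LD3_c46)))))))))))))
theorem f724724 : Led Lsl_ct (LP (LK LD1_c27 LD2_c34 LD3_c47)) = (LP (LK LD1_c18 LD2_c6 LD3_c46)) :=
  Lgr Lrot59 (Lpr_cf (f724720 IH) (Lpn (LP (LK LD1_c18 LD2_c6 LD3_c46))))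
theorem f249630 : Led Lsl_ct (LP (LK LD1_c9 LD2_c53 LD3_c59)) = (LP (LK LD1_c18 LD2_c6 LD3_c47)) :=
  Lre_c IH (LK LD1_c9 LD2_c53 LD3_c59) (LK LD1_c18 LD2_c6 LD3_c47) Lrfl Lrfl
theorem f724726 : Led Lsl_bf (LP (LK LD1_c27 LD2_c34 LD3_c47)) = (LP (LK LD1_c27 LD2_c32 LD3_c50)) :=
  Lgr Lrot90 (Lpr_ct (f724724 IH) (Lpr_bt (f190544 IH) (Lpr_ct (f249630 IH) (Lpe (K44.f249626 IH) (Lpe (K44.f584279 IH) (Lpn (LP (LK LD1_c27 LD2_c32 LD3_c50))))))))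
def v14270 : LQ := Led Lsl_gf (LP (LK LD1_c5 LD2_c4 LD3_c28))
theorem f721642 : Led Lsl_gf (LP (LK LD1_c5 LD2_c4 LD3_c28)) = v14270 :=
  Lrfl
theorem f584281 : Led Lsl_ct (LP (LK LD1_c27 LD2_c32 LD3_c50)) = (LP (LK LD1_c18 LD2_c14 LD3_c18)) :=
  Lgr Lrot59 (Lpr_cf (K44.f584279 IH) (Lpn (LP (LK LD1_c18 LD2_c14 LD3_c18))))
theorem f343335 : Led Lsl_ft (LP (LK LD1_c9 LD2_c57 LD3_c26)) = (LP (LK LD1_c10 LD2_c12 LD3_c23)) :=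
  Lgr Lrot4 (Lpe (K37.f248966 IH) (Lpr_ff (K37.f343330 IH) (Lpe (K37.f343334 IH) (Lpn (LP (LK LD1_c10 LD2_c12 LD3_c23))))))
theorem f343471 : Led Lsl_at (LP (LK LD1_c10 LD2_c12 LD3_c23)) = (LP (LK LD1_c5 LD2_c10 LD3_c53)) :=
  Lre_a IH (LK LD1_c10 LD2_c12 LD3_c23) (LK LD1_c5 LD2_c10 LD3_c53) Lrfl Lrfl
theorem f180745 : Led Lsl_gt (LP (LK LD1_c10 LD2_c12 LD3_c22)) = (LP (LK LD1_c5 LD2_c10 LD3_c53)) :=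
  Lre_g IH (LK LD1_c10 LD2_c12 LD3_c22) (LK LD1_c5 LD2_c10 LD3_c53) Lrfl Lrfl
theorem f343610 : Led Lsl_gt (LP (LK LD1_c9 LD2_c57 LD3_c26)) = (LP (LK LD1_c10 LD2_c12 LD3_c22)) :=
  Lgr Lrot5 (Lpr_ft (f343335 IH) (Lpr_at (f343471 IH) (Lpe (f180745 IH) (Lpn (LP (LK LD1_c10 LD2_c12 LD3_c22))))))
theorem f724730 : Led Lsl_cf v14270 = (LP (LK LD1_c10 LD2_c12 LD3_c22)) :=
  Lgr Lrot125 (Lpe (f721642 IH) (Lpe (K44.f247940 IH) (Lpr_bt (K44.f343491 IH) (Lpe (f724718 IH) (Lpr_bf (f724726 IH) (Lpr_ct (f584281 IH) (Lpr_gt (K44.f249737 IH) (Lpe (K14.f248971 IH) (Lpe (K14.f248661 IH) (Lpr_gt (f343610 IH) (Lpn (LP (LK LD1_c10 LD2_c12 LD3_c22)))))))))))))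
theorem f343483 : Led Lsl_dt (LP (LK LD1_c5 LD2_c4 LD3_c28)) = (LP (LK LD1_c9 LD2_c59 LD3_c61)) :=
  Lre_d IH (LK LD1_c5 LD2_c4 LD3_c28) (LK LD1_c9 LD2_c59 LD3_c61) Lrfl Lrfl
theorem f343484 : Led Lsl_gt (LP (LK LD1_c9 LD2_c59 LD3_c61)) = (LP (LK LD1_c18 LD2_c16 LD3_c51)) :=
  Lre_g IH (LK LD1_c9 LD2_c59 LD3_c61) (LK LD1_c18 LD2_c16 LD3_c51) Lrfl Lrfl
theorem f299686 : Led Lsl_dt (LP (LK LD1_c18 LD2_c9 LD3_c23)) = (LP (LK LD1_c9 LD2_c55 LD3_c7)) :=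
  Lre_d IH (LK LD1_c18 LD2_c9 LD3_c23) (LK LD1_c9 LD2_c55 LD3_c7) Lrfl Lrfl
theorem f249492 : Led Lsl_ct (LP (LK LD1_c18 LD2_c9 LD3_c22)) = (LP (LK LD1_c9 LD2_c55 LD3_c7)) :=
  Lre_c IH (LK LD1_c18 LD2_c9 LD3_c22) (LK LD1_c9 LD2_c55 LD3_c7) Lrfl Lrfl
theorem f724732 : Led Lsl_dt (LP (LK LD1_c18 LD2_c16 LD3_c51)) = (LP (LK LD1_c18 LD2_c9 LD3_c22)) :=
  Lgr Lrot105 (Lpe (f343484 IH) (Lpe (f343483 IH) (Lpr_gf (f721642 IH) (Lpr_cf (f724730 IH) (Lpr_gt (f180745 IH) (Lpr_dt (f248152 IH) (Lpr_gt (K44.f583333 IH) (Lpr_dt (f299686 IH) (Lpe (f249492 IH) (Lpn (LP (LK LD1_c18 LD2_c9 LD3_c22))))))))))))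
theorem f724733 : Led Lsl_dt (LP (LK LD1_c18 LD2_c16 LD3_c51)) = (LP (LK LD1_c18 LD2_c9 LD3_c22)) :=
  Leop (Lpe (f724732 IH) (Lpn (LP (LK LD1_c18 LD2_c16 LD3_c51))))
theorem seed_853 : LEOK LG_d (LK LD1_c18 LD2_c16 LD3_c51) :=
  Leoe_d (LK LD1_c18 LD2_c16 LD3_c51) (f724733 IH)
def v14688 : LQ := Led Lsl_at (LP (LK LD1_c5 LD2_c18 LD3_c23))
theorem f724963 : Led Lsl_at (LP (LK LD1_c5 LD2_c18 LD3_c23)) = v14688 :=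
  Lrfl
theorem f724964 : Led Lsl_af (LP (LK LD1_c5 LD2_c18 LD3_c23)) = v14688 :=
  Lgr Lrot0 (Lpr_at (f724963 IH) (Lpn v14688))
theorem f185498 : Led Lsl_ct (LP (LK LD1_c10 LD2_c26 LD3_c33)) = (LP (LK LD1_c5 LD2_c18 LD3_c23)) :=
  Lre_c IH (LK LD1_c10 LD2_c26 LD3_c33) (LK LD1_c5 LD2_c18 LD3_c23) Lrfl Lrfl
theorem f325741 : Led Lsl_dt (LP (LK LD1_c18 LD2_c56 LD3_c22)) = (LP (LK LD1_c10 LD2_c26 LD3_c33)) :=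
  Lre_d IH (LK LD1_c18 LD2_c56 LD3_c22) (LK LD1_c10 LD2_c26 LD3_c33) Lrfl Lrfl
theorem f326952 : Led Lsl_ct (LP (LK LD1_c28 LD2_c24 LD3_c32)) = (LP (LK LD1_c18 LD2_c56 LD3_c22)) :=
  Lre_c IH (LK LD1_c28 LD2_c24 LD3_c32) (LK LD1_c18 LD2_c56 LD3_c22) Lrfl Lrfl
theorem f724965 : Led Lsl_ft (LP (LK LD1_c5 LD2_c18 LD3_c24)) = v14688 :=
  Lgr Lrot2 (Lpr_gt (K22.f185448 IH) (Lpr_gt (K21.f185450 IH) (Lpr_af (f724964 IH) (Lpn v14688))))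
theorem f268048 : Led Lsl_dt (LP (LK LD1_c5 LD2_c18 LD3_c24)) = (LP (LK LD1_c10 LD2_c26 LD3_c36)) :=
  Lre_d IH (LK LD1_c5 LD2_c18 LD3_c24) (LK LD1_c10 LD2_c26 LD3_c36) Lrfl Lrfl
theorem f268050 : Led Lsl_ct (LP (LK LD1_c10 LD2_c26 LD3_c36)) = (LP (LK LD1_c18 LD2_c56 LD3_c24)) :=
  Lre_c IH (LK LD1_c10 LD2_c26 LD3_c36) (LK LD1_c18 LD2_c56 LD3_c24) Lrfl Lrfl
theorem f217751 : Led Lsl_gt (LP (LK LD1_c19 LD2_c12 LD3_c32)) = (LP (LK LD1_c10 LD2_c36 LD3_c20)) :=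
  Lre_g IH (LK LD1_c19 LD2_c12 LD3_c32) (LK LD1_c10 LD2_c36 LD3_c20) Lrfl Lrfl
theorem f253438 : Led Lsl_ct (LP (LK LD1_c10 LD2_c32 LD3_c26)) = (LP (LK LD1_c5 LD2_c21 LD3_c9)) :=
  Lre_c IH (LK LD1_c10 LD2_c32 LD3_c26) (LK LD1_c5 LD2_c21 LD3_c9) Lrfl Lrfl
theorem f278552 : Led Lsl_et (LP (LK LD1_c18 LD2_c56 LD3_c24)) = (LP (LK LD1_c10 LD2_c32 LD3_c26)) :=
  Lgr Lrot158 (Lpe (f268050 IH) (Lpr_ef (K22.f278550 IH) (Lpe (f253438 IH) (Lpn (LP (LK LD1_c10 LD2_c32 LD3_c26))))))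
theorem f337926 : Led Lsl_df (LP (LK LD1_c19 LD2_c12 LD3_c32)) = (LP (LK LD1_c18 LD2_c56 LD3_c24)) :=
  Lgr Lrot170 (Lpr_gt (f217751 IH) (Lpe (K16.f217750 IH) (Lpr_et (K16.f217749 IH) (Lpr_gt (K12.f196602 IH) (Lpr_dt (K12.f196711 IH) (Lpr_gt (K12.f217674 IH) (Lpe (K12.f217725 IH) (Lpr_et (K22.f196857 IH) (Lpr_gt (K22.f337919 IH) (Lpe (f278552 IH) (Lpn (LP (LK LD1_c18 LD2_c56 LD3_c24)))))))))))))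
theorem f344278 : Led Lsl_af (LP (LK LD1_c19 LD2_c16 LD3_c21)) = (LP (LK LD1_c25 LD2_c42 LD3_c4)) :=
  Lgr Lrot0 (Lpr_at (K26.f344276 IH) (Lpn (LP (LK LD1_c25 LD2_c42 LD3_c4))))
theorem f344245 : Led Lsl_ft (LP (LK LD1_c17 LD2_c50 LD3_c13)) = (LP (LK LD1_c25 LD2_c42 LD3_c4)) :=
  Lgr Lrot54 (Lpe (K16.f224269 IH) (Lpr_ff (K23.f344237 IH) (Lpe (K26.f258405 IH) (Lpn (LP (LK LD1_c25 LD2_c42 LD3_c4))))))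
theorem f344285 : Led Lsl_gf (LP (LK LD1_c19 LD2_c16 LD3_c21)) = (LP (LK LD1_c27 LD2_c37 LD3_c23)) :=
  Lgr Lrot76 (Lpr_af (f344278 IH) (Lpe (f344245 IH) (Lpr_gt (K16.f224313 IH) (Lpn (LP (LK LD1_c27 LD2_c37 LD3_c23))))))
theorem f357837 : Led Lsl_et (LP (LK LD1_c10 LD2_c38 LD3_c17)) = (LP (LK LD1_c16 LD2_c43 LD3_c60)) :=
  Lgr Lrot121 (Lpr_dt (K23.f307805 IH) (Lpr_gf (f344285 IH) (Lpr_df (K16.f256534 IH) (Lpr_et (K16.f256536 IH) (Lpr_gf (K50.f330968 IH) (Lpr_ef (K25.f342802 IH) (Lpr_dt (K22.f215956 IH) (Lpe (K26.f352489 IH) (Lpe (K26.f42382 IH) (Lpr_gf (K26.f357827 IH) (Lpn (LP (LK LD1_c16 LD2_c43 LD3_c60)))))))))))))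
theorem f357842 : Led Lsl_ef (LP (LK LD1_c10 LD2_c38 LD3_c17)) = (LP (LK LD1_c16 LD2_c43 LD3_c60)) :=
  Lgr Lrot88 (Lpr_et (f357837 IH) (Lpn (LP (LK LD1_c16 LD2_c43 LD3_c60))))
theorem f339379 : Led Lsl_ft (LP (LK LD1_c8 LD2_c18 LD3_c5)) = (LP (LK LD1_c4 LD2_c54 LD3_c50)) :=
  Lgr Lrot75 (Lpe (K22.f221762 IH) (Lpr_ff (K22.f339356 IH) (Lpe (K16.f216307 IH) (Lpn (LP (LK LD1_c4 LD2_c54 LD3_c50))))))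
theorem f357846 : Led Lsl_ft (LP (LK LD1_c9 LD2_c41 LD3_c9)) = (LP (LK LD1_c16 LD2_c43 LD3_c60)) :=
  Lgr Lrot86 (Lpe (K22.f224068 IH) (Lpe (f339379 IH) (Lpe (K23.f221765 IH) (Lpe (K26.f326368 IH) (Lpr_ef (f357842 IH) (Lpn (LP (LK LD1_c16 LD2_c43 LD3_c60))))))))
theorem f357850 : Led Lsl_af (LP (LK LD1_c10 LD2_c36 LD3_c56)) = (LP (LK LD1_c16 LD2_c43 LD3_c60)) :=
  Lgr Lrot31 (Lpe (K25.f330467 IH) (Lpe (K35.f356302 IH) (Lpr_ft (f357846 IH) (Lpn (LP (LK LD1_c16 LD2_c43 LD3_c60))))))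
theorem f339442 : Led Lsl_at (LP (LK LD1_c15 LD2_c1 LD3_c15)) = (LP (LK LD1_c9 LD2_c41 LD3_c9)) :=
  Lgr Lrot100 (Lpr_af (K22.f339440 IH) (Lpn (LP (LK LD1_c9 LD2_c41 LD3_c9))))
theorem f357857 : Led Lsl_ft (LP (LK LD1_c10 LD2_c36 LD3_c56)) = (LP (LK LD1_c15 LD2_c1 LD3_c15)) :=
  Lgr Lrot101 (Lpr_af (f357850 IH) (Lpe (f357846 IH) (Lpe (f339442 IH) (Lpn (LP (LK LD1_c15 LD2_c1 LD3_c15))))))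
theorem f356428 : Led Lsl_dt (LP (LK LD1_c19 LD2_c13 LD3_c46)) = (LP (LK LD1_c10 LD2_c36 LD3_c56)) :=
  Lre_d IH (LK LD1_c19 LD2_c13 LD3_c46) (LK LD1_c10 LD2_c36 LD3_c56) Lrfl Lrfl
theorem f357861 : Led Lsl_ff (LP (LK LD1_c19 LD2_c13 LD3_c46)) = (LP (LK LD1_c24 LD2_c49 LD3_c9)) :=
  Lgr Lrot19 (Lpr_dt (f356428 IH) (Lpr_ft (f357857 IH) (Lpr_dt (K22.f187263 IH) (Lpn (LP (LK LD1_c24 LD2_c49 LD3_c9))))))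
theorem f357869 : Led Lsl_ft (LP (LK LD1_c19 LD2_c13 LD3_c46)) = (LP (LK LD1_c24 LD2_c49 LD3_c9)) :=
  Lgr Lrot48 (Lpr_ff (f357861 IH) (Lpn (LP (LK LD1_c24 LD2_c49 LD3_c9))))
theorem f356429 : Led Lsl_ct (LP (LK LD1_c28 LD2_c40 LD3_c2)) = (LP (LK LD1_c19 LD2_c13 LD3_c46)) :=
  Lre_c IH (LK LD1_c28 LD2_c40 LD3_c2) (LK LD1_c19 LD2_c13 LD3_c46) Lrfl Lrfl
theorem f357874 : Led Lsl_ff (LP (LK LD1_c28 LD2_c40 LD3_c2)) = (LP (LK LD1_c28 LD2_c39 LD3_c42)) :=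
  Lgr Lrot23 (Lpr_ct (f356429 IH) (Lpr_ft (f357869 IH) (Lpe (K25.f356499 IH) (Lpn (LP (LK LD1_c28 LD2_c39 LD3_c42))))))
theorem f357880 : Led Lsl_at (LP (LK LD1_c28 LD2_c40 LD3_c2)) = (LP (LK LD1_c28 LD2_c39 LD3_c41)) :=
  Lgr Lrot26 (Lpr_ff (f357874 IH) (Lpr_gt (K25.f356486 IH) (Lpr_gt (K26.f352473 IH) (Lpn (LP (LK LD1_c28 LD2_c39 LD3_c41))))))
theorem f356324 : Led Lsl_ct (LP (LK LD1_c19 LD2_c13 LD3_c46)) = (LP (LK LD1_c28 LD2_c40 LD3_c2)) :=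
  Lre_c IH (LK LD1_c19 LD2_c13 LD3_c46) (LK LD1_c28 LD2_c40 LD3_c2) Lrfl Lrfl
theorem f357811 : Led Lsl_ct (LP (LK LD1_c28 LD2_c39 LD3_c41)) = (LP (LK LD1_c26 LD2_c42 LD3_c38)) :=
  Lgr Lrot7 (Lpr_df (K26.f357809 IH) (Lpr_gf (K26.f357681 IH) (Lpe (K25.f352444 IH) (Lpe (K25.f352441 IH) (Lpe (K22.f215957 IH) (Lpr_gt (K26.f357710 IH) (Lpr_dt (K26.f264574 IH) (Lpr_gt (K26.f264581 IH) (Lpr_dt (K26.f264582 IH) (Lpn (LP (LK LD1_c26 LD2_c42 LD3_c38))))))))))))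
theorem f357885 : Led Lsl_af (LP (LK LD1_c19 LD2_c13 LD3_c46)) = (LP (LK LD1_c26 LD2_c42 LD3_c38)) :=
  Lgr Lrot68 (Lpr_ct (f356324 IH) (Lpr_at (f357880 IH) (Lpr_ct (f357811 IH) (Lpn (LP (LK LD1_c26 LD2_c42 LD3_c38))))))
theorem f357888 : Led Lsl_ft (LP (LK LD1_c17 LD2_c48 LD3_c60)) = (LP (LK LD1_c26 LD2_c42 LD3_c38)) :=
  Lgr Lrot101 (Lpe (K22.f339436 IH) (Lpe (f357869 IH) (Lpr_af (f357885 IH) (Lpn (LP (LK LD1_c26 LD2_c42 LD3_c38))))))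
theorem f357890 : Led Lsl_gf (LP (LK LD1_c19 LD2_c13 LD3_c46)) = (LP (LK LD1_c26 LD2_c36 LD3_c35)) :=
  Lgr Lrot76 (Lpr_af (f357885 IH) (Lpe (f357888 IH) (Lpr_gt (K25.f333572 IH) (Lpn (LP (LK LD1_c26 LD2_c36 LD3_c35))))))
theorem f330468 : Led Lsl_dt (LP (LK LD1_c10 LD2_c36 LD3_c56)) = (LP (LK LD1_c19 LD2_c13 LD3_c46)) :=
  Lre_d IH (LK LD1_c10 LD2_c36 LD3_c56) (LK LD1_c19 LD2_c13 LD3_c46) Lrfl Lrfl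
theorem f357855 : Led Lsl_et (LP (LK LD1_c10 LD2_c36 LD3_c56)) = (LP (LK LD1_c15 LD2_c45 LD3_c21)) :=
  Lgr Lrot123 (Lpr_af (f357850 IH) (Lpe (f357837 IH) (Lpr_af (K26.f344249 IH) (Lpn (LP (LK LD1_c15 LD2_c45 LD3_c21))))))
theorem f345521 : Led Lsl_et (LP (LK LD1_c28 LD2_c30 LD3_c49)) = (LP (LK LD1_c19 LD2_c18 LD3_c18)) :=
  Lgr Lrot158 (Lpr_cf (K24.f345517 IH) (Lpr_ef (K25.f336324 IH) (Lpe (K22.f333595 IH) (Lpn (LP (LK LD1_c19 LD2_c18 LD3_c18))))))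
theorem f357894 : Led Lsl_gt (LP (LK LD1_c19 LD2_c18 LD3_c18)) = (LP (LK LD1_c26 LD2_c36 LD3_c36)) :=
  Lgr Lrot131 (Lpe (f345521 IH) (Lpr_dt (K24.f345533 IH) (Lpe (K24.f215554 IH) (Lpe (K24.f215551 IH) (Lpe (K23.f167693 IH) (Lpe (f357855 IH) (Lpr_dt (f330468 IH) (Lpr_gf (f357890 IH) (Lpe (K25.f329666 IH) (Lpr_et (K25.f333571 IH) (Lpn (LP (LK LD1_c26 LD2_c36 LD3_c36)))))))))))))
theorem f276965 : Led Lsl_gt (LP (LK LD1_c28 LD2_c37 LD3_c55)) = (LP (LK LD1_c19 LD2_c11 LD3_c55)) :=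
  Lre_g IH (LK LD1_c28 LD2_c37 LD3_c55) (LK LD1_c19 LD2_c11 LD3_c55) Lrfl Lrfl
theorem f276966 : Led Lsl_gf (LP (LK LD1_c28 LD2_c37 LD3_c55)) = (LP (LK LD1_c28 LD2_c24 LD3_c31)) :=
  Lgr Lrot47 (Lpr_gt (f276965 IH) (Lpr_af (K16.f276953 IH) (Lpr_ff (K16.f268035 IH) (Lpn (LP (LK LD1_c28 LD2_c24 LD3_c31))))))
theorem f275257 : Led Lsl_ct (LP (LK LD1_c26 LD2_c36 LD3_c36)) = (LP (LK LD1_c16 LD2_c38 LD3_c27)) :=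
  Lre_c IH (LK LD1_c26 LD2_c36 LD3_c36) (LK LD1_c16 LD2_c38 LD3_c27) Lrfl Lrfl
theorem f333569 : Led Lsl_gf (LP (LK LD1_c10 LD2_c26 LD3_c36)) = (LP (LK LD1_c16 LD2_c38 LD3_c27)) :=
  Lgr Lrot144 (Lpr_dt (K22.f268051 IH) (Lpr_gt (K22.f185448 IH) (Lpe (K16.f276941 IH) (Lpe (K22.f224163 IH) (Lpe (K16.f224160 IH) (Lpe (K25.f224151 IH) (Lpe (K25.f224152 IH) (Lpr_gf (K25.f333459 IH) (Lpe (K25.f275261 IH) (Lpn (LP (LK LD1_c16 LD2_c38 LD3_c27))))))))))))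
theorem f337928 : Led Lsl_dt (LP (LK LD1_c19 LD2_c12 LD3_c32)) = (LP (LK LD1_c18 LD2_c56 LD3_c24)) :=
  Lgr Lrot42 (Lpr_df (f337926 IH) (Lpn (LP (LK LD1_c18 LD2_c56 LD3_c24))))
theorem f357896 : Led Lsl_ct (LP (LK LD1_c28 LD2_c37 LD3_c55)) = (LP (LK LD1_c19 LD2_c12 LD3_c32)) :=
  Lgr Lrot110 (Lpr_gf (f276966 IH) (Lpe (K15.f268029 IH) (Lpe (K22.f276995 IH) (Lpe (K22.f325739 IH) (Lpr_gt (f357894 IH) (Lpr_ct (f275257 IH) (Lpe (f333569 IH) (Lpr_ct (f268050 IH) (Lpe (f337928 IH) (Lpn (LP (LK LD1_c19 LD2_c12 LD3_c32))))))))))))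
theorem f357898 : Led Lsl_cf (LP (LK LD1_c28 LD2_c37 LD3_c55)) = (LP (LK LD1_c19 LD2_c12 LD3_c32)) :=
  Lgr Lrot11 (Lpr_ct (f357896 IH) (Lpn (LP (LK LD1_c19 LD2_c12 LD3_c32))))
theorem f724966 : Led Lsl_df (LP (LK LD1_c28 LD2_c24 LD3_c32)) = (LP (LK LD1_c28 LD2_c37 LD3_c55)) :=
  Lgr Lrot13 (Lpr_ct (f326952 IH) (Lpr_dt (f325741 IH) (Lpr_ct (f185498 IH) (Lpr_af (f724964 IH) (Lpe (f724965 IH) (Lpr_dt (f268048 IH) (Lpr_ct (f268050 IH) (Lpe (f337926 IH) (Lpe (f357898 IH) (Lpn (LP (LK LD1_c28 LD2_c37 LD3_c55))))))))))))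
theorem f724967 : Led Lsl_dt (LP (LK LD1_c28 LD2_c37 LD3_c55)) = (LP (LK LD1_c28 LD2_c24 LD3_c32)) :=
  Leop (Lpr_df (f724966 IH) (Lpn (LP (LK LD1_c28 LD2_c37 LD3_c55))))
theorem seed_854 : LEOK LG_d (LK LD1_c28 LD2_c37 LD3_c55) :=
  Leoe_d (LK LD1_c28 LD2_c37 LD3_c55) (f724967 IH)
def v14705 : LQ := Led Lsl_at (LP (LK LD1_c5 LD2_c19 LD3_c24))
theorem f725065 : Led Lsl_at (LP (LK LD1_c5 LD2_c19 LD3_c24)) = v14705 :=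
  Lrfl
theorem f725066 : Led Lsl_af (LP (LK LD1_c5 LD2_c19 LD3_c24)) = v14705 :=
  Lgr Lrot0 (Lpr_at (f725065 IH) (Lpn v14705))
theorem f725069 : Led Lsl_ft (LP (LK LD1_c5 LD2_c19 LD3_c25)) = v14705 :=
  Lgr Lrot2 (Lpr_gt (K15.f230301 IH) (Lpr_gt (K20.f230292 IH) (Lpr_af (f725066 IH) (Lpn v14705))))
theorem f725071 : Led Lsl_ff (LP (LK LD1_c5 LD2_c19 LD3_c25)) = v14705 :=
  Lgr Lrot3 (Lpr_ft (f725069 IH) (Lpn v14705))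
def v14695 : LQ := Led Lsl_ft (LP (LK LD1_c5 LD2_c18 LD3_c33))
theorem f725000 : Led Lsl_ft (LP (LK LD1_c5 LD2_c18 LD3_c33)) = v14695 :=
  Lrfl
def v14692 : LQ := Led Lsl_at (LP (LK LD1_c5 LD2_c18 LD3_c33))
theorem f724985 : Led Lsl_at (LP (LK LD1_c5 LD2_c18 LD3_c33)) = v14692 :=
  Lrfl
theorem f724986 : Led Lsl_af (LP (LK LD1_c5 LD2_c18 LD3_c33)) = v14692 :=
  Lgr Lrot0 (Lpr_at (f724985 IH) (Lpn v14692))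
def v12439 : LQ := Led Lsl_at (LP (LK LD1_c4 LD2_c11 LD3_c31))
theorem f692153 : Led Lsl_at (LP (LK LD1_c4 LD2_c11 LD3_c31)) = v12439 :=
  Lrfl
theorem f692154 : Led Lsl_af (LP (LK LD1_c4 LD2_c11 LD3_c31)) = v12439 :=
  Lgr Lrot0 (Lpr_at (f692153 IH) (Lpn v12439))
theorem f724987 : Led Lsl_df v12439 = v14692 :=
  Lgr Lrot18 (Lpe (f692154 IH) (Lpe (K26.f361349 IH) (Lpr_at (f724985 IH) (Lpn v14692))))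
theorem f170635 : Led Lsl_gt (LP (LK LD1_c2 LD2_c2 LD3_c59)) = (LP (LK LD1_c4 LD2_c11 LD3_c31)) :=
  Lre_g IH (LK LD1_c2 LD2_c2 LD3_c59) (LK LD1_c4 LD2_c11 LD3_c31) Lrfl Lrfl
theorem f692155 : Led Lsl_ft (LP (LK LD1_c4 LD2_c11 LD3_c32)) = v12439 :=
  Lgr Lrot2 (Lpr_gt (K20.f170637 IH) (Lpr_gt (f170635 IH) (Lpr_af (f692154 IH) (Lpn v12439))))
theorem f692156 : Led Lsl_ff (LP (LK LD1_c4 LD2_c11 LD3_c32)) = v12439 :=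
  Lgr Lrot3 (Lpr_ft (f692155 IH) (Lpn v12439))
theorem f724989 : Led Lsl_ft (LP (LK LD1_c5 LD2_c18 LD3_c34)) = v14692 :=
  Lgr Lrot54 (Lpe (K20.f316284 IH) (Lpr_ff (f692156 IH) (Lpr_df (f724987 IH) (Lpn v14692))))
theorem f725001 : Led Lsl_af (LP (LK LD1_c5 LD2_c18 LD3_c34)) = v14695 :=
  Lgr Lrot45 (Lpr_ft (f724989 IH) (Lpe (f724986 IH) (Lpr_ft (f725000 IH) (Lpn v14695))))
theorem f725067 : Led Lsl_ef v14695 = v14705 :=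
  Lgr Lrot20 (Lpe (f725001 IH) (Lpe (K20.f316347 IH) (Lpr_at (f725065 IH) (Lpn v14705))))
theorem f725068 : Led Lsl_et v14695 = v14705 :=
  Lgr Lrot87 (Lpr_ef (f725067 IH) (Lpn v14705))
def v14694 : LQ := Led Lsl_et (LP (LK LD1_c5 LD2_c18 LD3_c33))
theorem f724994 : Led Lsl_et (LP (LK LD1_c5 LD2_c18 LD3_c33)) = v14694 :=
  Lrfl
theorem f724996 : Led Lsl_ef (LP (LK LD1_c5 LD2_c18 LD3_c33)) = v14694 :=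
  Lgr Lrot88 (Lpr_et (f724994 IH) (Lpn v14694))
theorem f725072 : Led Lsl_ft (LP (LK LD1_c10 LD2_c28 LD3_c40)) = v14694 :=
  Lgr Lrot86 (Lpe (K15.f258144 IH) (Lpr_ff (f725071 IH) (Lpe (f725068 IH) (Lpe (f725000 IH) (Lpr_ef (f724996 IH) (Lpn v14694))))))
theorem f367691 : Led Lsl_et (LP (LK LD1_c10 LD2_c33 LD3_c17)) = (LP (LK LD1_c5 LD2_c22 LD3_c49)) :=
  Lgr Lrot87 (Lpr_ef (f367689 IH) (Lpn (LP (LK LD1_c5 LD2_c22 LD3_c49))))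
theorem f724995 : Led Lsl_df (LP (LK LD1_c10 LD2_c33 LD3_c17)) = v14694 :=
  Lgr Lrot70 (Lpr_et (f367691 IH) (Lpe (f367687 IH) (Lpr_et (K23.f170636 IH) (Lpe (K26.f361349 IH) (Lpr_et (f724994 IH) (Lpn v14694))))))
theorem f725073 : Led Lsl_ff (LP (LK LD1_c10 LD2_c16 LD3_c46)) = (LP (LK LD1_c10 LD2_c33 LD3_c17)) :=
  Lgr Lrot19 (Lpe (K22.f258142 IH) (Lpr_ft (f725072 IH) (Lpe (f724995 IH) (Lpn (LP (LK LD1_c10 LD2_c33 LD3_c17))))))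
theorem f725074 : Led Lsl_ft (LP (LK LD1_c10 LD2_c33 LD3_c17)) = (LP (LK LD1_c10 LD2_c16 LD3_c46)) :=
  Leop (Lpr_ff (f725073 IH) (Lpn (LP (LK LD1_c10 LD2_c33 LD3_c17))))
theorem seed_855 : LEOK LG_f (LK LD1_c10 LD2_c33 LD3_c17) :=
  Leoe_f (LK LD1_c10 LD2_c33 LD3_c17) (f725074 IH)
def v14792 : LQ := Led Lsl_ct (LP (LK LD1_c5 LD2_c25 LD3_c18))
theorem f726617 : Led Lsl_ct (LP (LK LD1_c5 LD2_c25 LD3_c18)) = v14792 :=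
  Lrfl
theorem f393903 : Led Lsl_bt (LP (LK LD1_c5 LD2_c25 LD3_c18)) = (LP (LK LD1_c2 LD2_c39 LD3_c6)) :=
  Lre_b IH (LK LD1_c5 LD2_c25 LD3_c18) (LK LD1_c2 LD2_c39 LD3_c6) Lrfl Lrfl
theorem f267348 : Led Lsl_gt (LP (LK LD1_c8 LD2_c53 LD3_c7)) = (LP (LK LD1_c16 LD2_c36 LD3_c44)) :=
  Lre_g IH (LK LD1_c8 LD2_c53 LD3_c7) (LK LD1_c16 LD2_c36 LD3_c44) Lrfl Lrfl
theorem f267341 : Led Lsl_ct (LP (LK LD1_c16 LD2_c36 LD3_c47)) = (LP (LK LD1_c8 LD2_c53 LD3_c7)) :=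
  Lre_c IH (LK LD1_c16 LD2_c36 LD3_c47) (LK LD1_c8 LD2_c53 LD3_c7) Lrfl Lrfl
theorem f569781 : Led Lsl_df (LP (LK LD1_c19 LD2_c12 LD3_c39)) = (LP (LK LD1_c22 LD2_c50 LD3_c61)) :=
  Lgr Lrot162 (Lpe (K42.f569770 IH) (Lpr_gf (K42.f569771 IH) (Lpe (K42.f169236 IH) (Lpe (K16.f169232 IH) (Lpr_dt (K42.f218546 IH) (Lpe (K39.f400167 IH) (Lpr_ct (K18.f211125 IH) (Lpr_gt (K39.f553350 IH) (Lpr_ct (K42.f553354 IH) (Lpn (LP (LK LD1_c22 LD2_c50 LD3_c61))))))))))))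
theorem f726621 : Led Lsl_gf (LP (LK LD1_c10 LD2_c39 LD3_c8)) = v14792 :=
  Lgr Lrot148 (Lpr_dt (K42.f331758 IH) (Lpr_gt (K42.f569862 IH) (Lpe (f569781 IH) (Lpr_ct (K42.f569783 IH) (Lpr_df (K42.f569821 IH) (Lpr_gf (K31.f411725 IH) (Lpr_df (K22.f331822 IH) (Lpe (K22.f331787 IH) (Lpr_ct (f726617 IH) (Lpn v14792))))))))))
theorem f376625 : Led Lsl_bt (LP (LK LD1_c5 LD2_c24 LD3_c11)) = (LP (LK LD1_c10 LD2_c39 LD3_c7)) :=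
  Lre_b IH (LK LD1_c5 LD2_c24 LD3_c11) (LK LD1_c10 LD2_c39 LD3_c7) Lrfl Lrfl
theorem f726623 : Led Lsl_gf (LP (LK LD1_c16 LD2_c36 LD3_c47)) = (LP (LK LD1_c10 LD2_c39 LD3_c7)) :=
  Lgr Lrot181 (Lpr_ct (f267341 IH) (Lpr_gt (f267348 IH) (Lpe (K12.f218300 IH) (Lpr_bt (K12.f218299 IH) (Lpr_gt (K14.f169325 IH) (Lpe (f393903 IH) (Lpr_ct (f726617 IH) (Lpe (f726621 IH) (Lpe (K42.f331756 IH) (Lpr_bt (f376625 IH) (Lpn (LP (LK LD1_c10 LD2_c39 LD3_c7)))))))))))))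
theorem f726624 : Led Lsl_gt (LP (LK LD1_c10 LD2_c39 LD3_c7)) = (LP (LK LD1_c16 LD2_c36 LD3_c47)) :=
  Leop (Lpr_gf (f726623 IH) (Lpn (LP (LK LD1_c10 LD2_c39 LD3_c7))))
theorem seed_856 : LEOK LG_g (LK LD1_c10 LD2_c39 LD3_c7) :=
  Leoe_g (LK LD1_c10 LD2_c39 LD3_c7) (f726624 IH)
def v14830 : LQ := Led Lsl_dt (LP (LK LD1_c5 LD2_c26 LD3_c16))
theorem f726834 : Led Lsl_dt (LP (LK LD1_c5 LD2_c26 LD3_c16)) = v14830 :=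
  Lrfl
theorem f409441 : Led Lsl_ft (LP (LK LD1_c11 LD2_c54 LD3_c37)) = (LP (LK LD1_c10 LD2_c43 LD3_c38)) :=
  Lgr Lrot48 (Lpr_ff (K44.f409429 IH) (Lpn (LP (LK LD1_c10 LD2_c43 LD3_c38))))
theorem f409454 : Led Lsl_at (LP (LK LD1_c20 LD2_c59 LD3_c9)) = (LP (LK LD1_c11 LD2_c54 LD3_c37)) :=
  Lre_a IH (LK LD1_c20 LD2_c59 LD3_c9) (LK LD1_c11 LD2_c54 LD3_c37) Lrfl Lrfl
theorem f409455 : Led Lsl_at (LP (LK LD1_c10 LD2_c43 LD3_c38)) = (LP (LK LD1_c19 LD2_c24 LD3_c45)) :=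
  Lre_a IH (LK LD1_c10 LD2_c43 LD3_c38) (LK LD1_c19 LD2_c24 LD3_c45) Lrfl Lrfl
theorem f409456 : Led Lsl_ff (LP (LK LD1_c20 LD2_c59 LD3_c9)) = (LP (LK LD1_c19 LD2_c24 LD3_c45)) :=
  Lgr Lrot30 (Lpr_at (f409454 IH) (Lpr_ft (f409441 IH) (Lpr_at (f409455 IH) (Lpn (LP (LK LD1_c19 LD2_c24 LD3_c45))))))
theorem f409447 : Led Lsl_dt (LP (LK LD1_c20 LD2_c59 LD3_c9)) = (LP (LK LD1_c11 LD2_c54 LD3_c36)) :=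
  Lre_d IH (LK LD1_c20 LD2_c59 LD3_c9) (LK LD1_c11 LD2_c54 LD3_c36) Lrfl Lrfl
theorem f409465 : Led Lsl_dt (LP (LK LD1_c10 LD2_c43 LD3_c37)) = (LP (LK LD1_c19 LD2_c24 LD3_c45)) :=
  Lre_d IH (LK LD1_c10 LD2_c43 LD3_c37) (LK LD1_c19 LD2_c24 LD3_c45) Lrfl Lrfl
theorem f409466 : Led Lsl_ft (LP (LK LD1_c11 LD2_c54 LD3_c36)) = (LP (LK LD1_c10 LD2_c43 LD3_c37)) :=
  Lgr Lrot54 (Lpe (f409447 IH) (Lpr_ff (f409456 IH) (Lpe (f409465 IH) (Lpn (LP (LK LD1_c10 LD2_c43 LD3_c37))))))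
theorem f409473 : Led Lsl_ff (LP (LK LD1_c11 LD2_c54 LD3_c36)) = (LP (LK LD1_c10 LD2_c43 LD3_c37)) :=
  Lgr Lrot3 (Lpr_ft (f409466 IH) (Lpn (LP (LK LD1_c10 LD2_c43 LD3_c37))))
theorem f409449 : Led Lsl_ct (LP (LK LD1_c11 LD2_c54 LD3_c36)) = (LP (LK LD1_c6 LD2_c5 LD3_c39)) :=
  Lre_c IH (LK LD1_c11 LD2_c54 LD3_c36) (LK LD1_c6 LD2_c5 LD3_c39) Lrfl Lrfl
theorem f409478 : Led Lsl_ct (LP (LK LD1_c5 LD2_c26 LD3_c16)) = (LP (LK LD1_c10 LD2_c43 LD3_c37)) :=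
  Lre_c IH (LK LD1_c5 LD2_c26 LD3_c16) (LK LD1_c10 LD2_c43 LD3_c37) Lrfl Lrfl
theorem f409479 : Led Lsl_ft (LP (LK LD1_c6 LD2_c5 LD3_c39)) = (LP (LK LD1_c5 LD2_c26 LD3_c16)) :=
  Lgr Lrot4 (Lpe (f409449 IH) (Lpr_ff (f409473 IH) (Lpe (f409478 IH) (Lpn (LP (LK LD1_c5 LD2_c26 LD3_c16))))))
theorem f409450 : Led Lsl_dt (LP (LK LD1_c11 LD2_c54 LD3_c51)) = (LP (LK LD1_c6 LD2_c5 LD3_c39)) :=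
  Lre_d IH (LK LD1_c11 LD2_c54 LD3_c51) (LK LD1_c6 LD2_c5 LD3_c39) Lrfl Lrfl
theorem f726837 : Led Lsl_ff (LP (LK LD1_c11 LD2_c54 LD3_c51)) = v14830 :=
  Lgr Lrot19 (Lpr_dt (f409450 IH) (Lpr_ft (f409479 IH) (Lpr_dt (f726834 IH) (Lpn v14830))))
theorem f726839 : Led Lsl_ft (LP (LK LD1_c11 LD2_c54 LD3_c51)) = v14830 :=
  Lgr Lrot48 (Lpr_ff (f726837 IH) (Lpn v14830))
theorem f268168 : Led Lsl_at (LP (LK LD1_c2 LD2_c39 LD3_c33)) = (LP (LK LD1_c5 LD2_c26 LD3_c16)) :=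
  Lre_a IH (LK LD1_c2 LD2_c39 LD3_c33) (LK LD1_c5 LD2_c26 LD3_c16) Lrfl Lrfl
theorem f409475 : Led Lsl_dt (LP (LK LD1_c5 LD2_c26 LD3_c17)) = (LP (LK LD1_c2 LD2_c39 LD3_c33)) :=
  Lre_d IH (LK LD1_c5 LD2_c26 LD3_c17) (LK LD1_c2 LD2_c39 LD3_c33) Lrfl Lrfl
theorem f726835 : Led Lsl_af (LP (LK LD1_c5 LD2_c26 LD3_c17)) = v14830 :=
  Lgr Lrot117 (Lpr_dt (f409475 IH) (Lpr_at (f268168 IH) (Lpr_dt (f726834 IH) (Lpn v14830))))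
theorem f198649 : Led Lsl_gt (LP (LK LD1_c10 LD2_c43 LD3_c51)) = (LP (LK LD1_c5 LD2_c26 LD3_c17)) :=
  Lre_g IH (LK LD1_c10 LD2_c43 LD3_c51) (LK LD1_c5 LD2_c26 LD3_c17) Lrfl Lrfl
theorem f726842 : Led Lsl_gt (LP (LK LD1_c11 LD2_c54 LD3_c51)) = (LP (LK LD1_c10 LD2_c43 LD3_c51)) :=
  Lgr Lrot5 (Lpr_ft (f726839 IH) (Lpe (f726835 IH) (Lpe (f198649 IH) (Lpn (LP (LK LD1_c10 LD2_c43 LD3_c51))))))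
theorem f726843 : Led Lsl_gt (LP (LK LD1_c11 LD2_c54 LD3_c51)) = (LP (LK LD1_c10 LD2_c43 LD3_c51)) :=
  Leop (Lpe (f726842 IH) (Lpn (LP (LK LD1_c11 LD2_c54 LD3_c51))))
theorem seed_857 : LEOK LG_g (LK LD1_c11 LD2_c54 LD3_c51) :=
  Leoe_g (LK LD1_c11 LD2_c54 LD3_c51) (f726843 IH)
def v14845 : LQ := Led Lsl_bt (LP (LK LD1_c5 LD2_c26 LD3_c30))
theorem f726903 : Led Lsl_bt (LP (LK LD1_c5 LD2_c26 LD3_c30)) = v14845 :=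
  Lrfl
theorem f726904 : Led Lsl_bf (LP (LK LD1_c5 LD2_c26 LD3_c30)) = v14845 :=
  Lgr Lrot24 (Lpr_bt (f726903 IH) (Lpn v14845))
theorem f195804 : Led Lsl_gt (LP (LK LD1_c2 LD2_c39 LD3_c40)) = (LP (LK LD1_c5 LD2_c26 LD3_c30)) :=
  Lre_g IH (LK LD1_c2 LD2_c39 LD3_c40) (LK LD1_c5 LD2_c26 LD3_c30) Lrfl Lrfl
theorem f187615 : Led Lsl_gt (LP (LK LD1_c10 LD2_c45 LD3_c7)) = (LP (LK LD1_c5 LD2_c27 LD3_c1)) :=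
  Lre_g IH (LK LD1_c10 LD2_c45 LD3_c7) (LK LD1_c5 LD2_c27 LD3_c1) Lrfl Lrfl
theorem f726905 : Led Lsl_cf (LP (LK LD1_c10 LD2_c45 LD3_c7)) = v14845 :=
  Lgr Lrot160 (Lpr_gt (f187615 IH) (Lpe (K39.f187516 IH) (Lpr_bt (K45.f187575 IH) (Lpr_gt (K10.f168215 IH) (Lpr_ct (K10.f8454 IH) (Lpr_gt (K9.f7712 IH) (Lpe (K9.f8507 IH) (Lpr_bt (K17.f8519 IH) (Lpr_gt (f195804 IH) (Lpr_bf (f726904 IH) (Lpn v14845)))))))))))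
theorem f726907 : Led Lsl_ct (LP (LK LD1_c10 LD2_c45 LD3_c7)) = v14845 :=
  Lgr Lrot59 (Lpr_cf (f726905 IH) (Lpn v14845))
theorem f396408 : Led Lsl_ct (LP (LK LD1_c5 LD2_c27 LD3_c0)) = (LP (LK LD1_c10 LD2_c45 LD3_c5)) :=
  Lre_c IH (LK LD1_c5 LD2_c27 LD3_c0) (LK LD1_c10 LD2_c45 LD3_c5) Lrfl Lrfl
theorem f396417 : Led Lsl_ft (LP (LK LD1_c10 LD2_c45 LD3_c5)) = (LP (LK LD1_c11 LD2_c56 LD3_c12)) :=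
  Lgr Lrot4 (Lpe (f396408 IH) (Lpr_ff (K45.f396410 IH) (Lpe (K45.f396415 IH) (Lpn (LP (LK LD1_c11 LD2_c56 LD3_c12))))))
theorem f396422 : Led Lsl_ff (LP (LK LD1_c10 LD2_c45 LD3_c5)) = (LP (LK LD1_c11 LD2_c56 LD3_c12)) :=
  Lgr Lrot3 (Lpr_ft (f396417 IH) (Lpn (LP (LK LD1_c11 LD2_c56 LD3_c12))))
theorem f187625 : Led Lsl_at (LP (LK LD1_c10 LD2_c45 LD3_c5)) = (LP (LK LD1_c5 LD2_c27 LD3_c1)) :=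
  Lre_a IH (LK LD1_c10 LD2_c45 LD3_c5) (LK LD1_c5 LD2_c27 LD3_c1) Lrfl Lrfl
theorem f396426 : Led Lsl_gf (LP (LK LD1_c10 LD2_c45 LD3_c7)) = (LP (LK LD1_c11 LD2_c56 LD3_c12)) :=
  Lgr Lrot47 (Lpr_gt (f187615 IH) (Lpe (f187625 IH) (Lpr_ff (f396422 IH) (Lpn (LP (LK LD1_c11 LD2_c56 LD3_c12))))))
theorem f396416 : Led Lsl_ct (LP (LK LD1_c6 LD2_c6 LD3_c32)) = (LP (LK LD1_c11 LD2_c56 LD3_c12)) :=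
  Lre_c IH (LK LD1_c6 LD2_c6 LD3_c32) (LK LD1_c11 LD2_c56 LD3_c12) Lrfl Lrfl
theorem f396413 : Led Lsl_gt (LP (LK LD1_c5 LD2_c26 LD3_c60)) = (LP (LK LD1_c6 LD2_c6 LD3_c32)) :=
  Lgr Lrot46 (Lpe (K45.f187526 IH) (Lpr_ft (K45.f396403 IH) (Lpr_at (K45.f334408 IH) (Lpn (LP (LK LD1_c6 LD2_c6 LD3_c32))))))
theorem f164053 : Led Lsl_ct (LP (LK LD1_c5 LD2_c14 LD3_c44)) = (LP (LK LD1_c10 LD2_c18 LD3_c58)) :=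
  Lre_c IH (LK LD1_c5 LD2_c14 LD3_c44) (LK LD1_c10 LD2_c18 LD3_c58) Lrfl Lrfl
theorem f726909 : Led Lsl_dt (LP (LK LD1_c10 LD2_c18 LD3_c58)) = v14845 :=
  Lgr Lrot27 (Lpe (f164053 IH) (Lpe (K45.f164064 IH) (Lpe (K45.f163984 IH) (Lpr_gf (K45.f164010 IH) (Lpr_df (K45.f586526 IH) (Lpr_gt (f396413 IH) (Lpr_ct (f396416 IH) (Lpe (f396426 IH) (Lpr_ct (f726907 IH) (Lpn v14845))))))))))
theorem f163995 : Led Lsl_bt (LP (LK LD1_c5 LD2_c14 LD3_c27)) = (LP (LK LD1_c2 LD2_c34 LD3_c4)) :=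
  Lre_b IH (LK LD1_c5 LD2_c14 LD3_c27) (LK LD1_c2 LD2_c34 LD3_c4) Lrfl Lrfl
theorem f164052 : Led Lsl_ct (LP (LK LD1_c10 LD2_c18 LD3_c58)) = (LP (LK LD1_c5 LD2_c14 LD3_c44)) :=
  Lre_c IH (LK LD1_c10 LD2_c18 LD3_c58) (LK LD1_c5 LD2_c14 LD3_c44) Lrfl Lrfl
theorem f495507 : Led Lsl_ct K30.v1209 = K30.v1427 :=
  Lgr Lrot8 (Lpe (K30.f493971 IH) (Lpr_dt (K1.f55583 IH) (Lpr_gt (K10.f177819 IH) (Lpr_dt (K22.f168217 IH) (Lpr_cf (K22.f195756 IH) (Lpe (K30.f179200 IH) (Lpe (K10.f8436 IH) (Lpe (K0.f8455 IH) (Lpr_gf (K30.f495504 IH) (Lpn K30.v1427))))))))))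
theorem f186776 : Led Lsl_ct (LP (LK LD1_c1 LD2_c14 LD3_c0)) = (LP (LK LD1_c2 LD2_c34 LD3_c4)) :=
  Lre_c IH (LK LD1_c1 LD2_c14 LD3_c0) (LK LD1_c2 LD2_c34 LD3_c4) Lrfl Lrfl
theorem f20591 : Led Lsl_et (LP (LK LD1_c0 LD2_c39 LD3_c34)) = (LP (LK LD1_c0 LD2_c28 LD3_c58)) :=
  Lgr Lrot158 (Lpe (K9.f20589 IH) (Lpr_ef (K0.f20587 IH) (Lpe (K9.f20590 IH) (Lpn (LP (LK LD1_c0 LD2_c28 LD3_c58))))))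
theorem f319389 : Led Lsl_ft (LP (LK LD1_c0 LD2_c28 LD3_c58)) = (LP (LK LD1_c0 LD2_c16 LD3_c9)) :=
  Lgr Lrot48 (Lpr_ff (K20.f319382 IH) (Lpn (LP (LK LD1_c0 LD2_c16 LD3_c9))))
theorem f334475 : Led Lsl_ef (LP (LK LD1_c0 LD2_c36 LD3_c24)) = (LP (LK LD1_c1 LD2_c18 LD3_c54)) :=
  Lgr Lrot21 (Lpr_ft (K22.f334469 IH) (Lpr_et (f20591 IH) (Lpr_ft (f319389 IH) (Lpr_et (K12.f24533 IH) (Lpr_ft (K12.f211684 IH) (Lpn (LP (LK LD1_c1 LD2_c18 LD3_c54))))))))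
theorem f493973 : Led Lsl_dt K36.v341 = K30.v1209 :=
  Lgr Lrot56 (Lpr_et (K38.f452563 IH) (Lpr_gt (K38.f452804 IH) (Lpe (K35.f452800 IH) (Lpr_dt (K35.f24246 IH) (Lpr_gt (K36.f380359 IH) (Lpe (K36.f211707 IH) (Lpe (f334475 IH) (Lpe (K9.f177817 IH) (Lpr_dt (K1.f55431 IH) (Lpr_gt (K30.f493969 IH) (Lpn K30.v1209)))))))))))
theorem f537221 : K30.v1209 = (LP (LK LD1_c1 LD2_c14 LD3_c0)) :=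
  Lefun (Lecon (f493973 IH) (K37.f537077 IH).symm) (K38.f164415 IH)
theorem f537534 : K30.v1427 = (LP (LK LD1_c2 LD2_c34 LD3_c4)) :=
  Lefun (Lecon (f495507 IH) (f537221 IH)) (f186776 IH)
theorem f9053 : Led Lsl_ct (LP (LK LD1_c1 LD2_c16 LD3_c44)) = (LP (LK LD1_c1 LD2_c25 LD3_c59)) :=
  Lgr Lrot40 (Lpr_ff (K0.f9033 IH) (Lpe (K10.f9040 IH) (Lpe (K9.f9052 IH) (Lpn (LP (LK LD1_c1 LD2_c25 LD3_c59))))))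
theorem f183037 : Led Lsl_bt (LP (LK LD1_c2 LD2_c39 LD3_c25)) = (LP (LK LD1_c5 LD2_c26 LD3_c3)) :=
  Lre_b IH (LK LD1_c2 LD2_c39 LD3_c25) (LK LD1_c5 LD2_c26 LD3_c3) Lrfl Lrfl
theorem f183044 : Led Lsl_gt (LP (LK LD1_c5 LD2_c26 LD3_c3)) = (LP (LK LD1_c10 LD2_c43 LD3_c25)) :=
  Lre_g IH (LK LD1_c5 LD2_c26 LD3_c3) (LK LD1_c10 LD2_c43 LD3_c25) Lrfl Lrfl
theorem f622599 : Led Lsl_bt (LP (LK LD1_c10 LD2_c18 LD3_c58)) = (LP (LK LD1_c10 LD2_c43 LD3_c25)) :=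
  Lgr Lrot92 (Lpr_ct (f164052 IH) (Lpr_gt (K45.f164051 IH) (Lpe (K10.f163939 IH) (Lpr_bt (f163995 IH) (Lpq (f537534 IH) (Lpe (K30.f495504 IH) (Lpr_ct (f9053 IH) (Lpr_gt (K9.f175306 IH) (Lpe (K9.f183039 IH) (Lpr_bt (f183037 IH) (Lpr_gt (f183044 IH) (Lpn (LP (LK LD1_c10 LD2_c43 LD3_c25))))))))))))))
theorem f622601 : Led Lsl_bf (LP (LK LD1_c10 LD2_c18 LD3_c58)) = (LP (LK LD1_c10 LD2_c43 LD3_c25)) :=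
  Lgr Lrot24 (Lpr_bt (f622599 IH) (Lpn (LP (LK LD1_c10 LD2_c43 LD3_c25))))
theorem f726910 : Led Lsl_df (LP (LK LD1_c10 LD2_c43 LD3_c25)) = (LP (LK LD1_c5 LD2_c26 LD3_c30)) :=
  Lgr Lrot12 (Lpe (f622601 IH) (Lpr_dt (f726909 IH) (Lpe (f726904 IH) (Lpn (LP (LK LD1_c5 LD2_c26 LD3_c30))))))
theorem f726911 : Led Lsl_dt (LP (LK LD1_c5 LD2_c26 LD3_c30)) = (LP (LK LD1_c10 LD2_c43 LD3_c25)) :=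
  Leop (Lpr_df (f726910 IH) (Lpn (LP (LK LD1_c5 LD2_c26 LD3_c30))))
theorem seed_858 : LEOK LG_d (LK LD1_c5 LD2_c26 LD3_c30) :=
  Leoe_d (LK LD1_c5 LD2_c26 LD3_c30) (f726911 IH)
def v14876 : LQ := Led Lsl_ct (LP (LK LD1_c5 LD2_c26 LD3_c53))
theorem f727041 : Led Lsl_ct (LP (LK LD1_c5 LD2_c26 LD3_c53)) = v14876 :=
  Lrfl
theorem f225716 : Led Lsl_dt (LP (LK LD1_c8 LD2_c56 LD3_c10)) = (LP (LK LD1_c4 LD2_c28 LD3_c56)) :=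
  Lre_d IH (LK LD1_c8 LD2_c56 LD3_c10) (LK LD1_c4 LD2_c28 LD3_c56) Lrfl Lrfl
theorem f225712 : Led Lsl_dt (LP (LK LD1_c4 LD2_c28 LD3_c56)) = (LP (LK LD1_c8 LD2_c56 LD3_c10)) :=
  Lre_d IH (LK LD1_c4 LD2_c28 LD3_c56) (LK LD1_c8 LD2_c56 LD3_c10) Lrfl Lrfl
theorem f225713 : Led Lsl_et (LP (LK LD1_c0 LD2_c36 LD3_c0)) = (LP (LK LD1_c1 LD2_c18 LD3_c6)) :=
  Lre_e IH (LK LD1_c0 LD2_c36 LD3_c0) (LK LD1_c1 LD2_c18 LD3_c6) Lrfl Lrfl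
theorem f8681 : Led Lsl_et (LP (LK LD1_c5 LD2_c34 LD3_c53)) = (LP (LK LD1_c2 LD2_c43 LD3_c20)) :=
  Lre_e IH (LK LD1_c5 LD2_c34 LD3_c53) (LK LD1_c2 LD2_c43 LD3_c20) Lrfl Lrfl
theorem f8682 : Led Lsl_dt (LP (LK LD1_c5 LD2_c34 LD3_c53)) = (LP (LK LD1_c11 LD2_c2 LD3_c5)) :=
  Lre_d IH (LK LD1_c5 LD2_c34 LD3_c53) (LK LD1_c11 LD2_c2 LD3_c5) Lrfl Lrfl
theorem f225714 : Led Lsl_gf (LP (LK LD1_c8 LD2_c56 LD3_c10)) = (LP (LK LD1_c11 LD2_c2 LD3_c5)) :=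
  Lgr Lrot145 (Lpe (f225712 IH) (Lpr_et (K22.f225711 IH) (Lpe (K12.f225703 IH) (Lpr_dt (K12.f225241 IH) (Lpr_gt (K9.f42263 IH) (Lpe (K9.f167916 IH) (Lpr_et (f225713 IH) (Lpr_gt (K20.f8665 IH) (Lpe (f8681 IH) (Lpr_dt (f8682 IH) (Lpn (LP (LK LD1_c11 LD2_c2 LD3_c5)))))))))))))
theorem f727045 : Led Lsl_gf (LP (LK LD1_c5 LD2_c34 LD3_c53)) = v14876 :=
  Lgr Lrot148 (Lpr_dt (f8682 IH) (Lpe (f225714 IH) (Lpr_dt (f225716 IH) (Lpr_ct (K30.f225717 IH) (Lpr_df (K14.f254998 IH) (Lpe (K14.f170023 IH) (Lpr_df (K19.f309776 IH) (Lpe (K19.f309767 IH) (Lpr_ct (f727041 IH) (Lpn v14876))))))))))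
theorem f634404 : Led Lsl_ff (LP (LK LD1_c2 LD2_c24 LD3_c31)) = K35.v4530 :=
  Lgr Lrot3 (Lpr_ft (K35.f634401 IH) (Lpn K35.v4530))
theorem f634400 : Led Lsl_et K35.v4525 = K35.v4530 :=
  Lgr Lrot87 (Lpr_ef (K35.f634399 IH) (Lpn K35.v4530))
theorem f634405 : Led Lsl_ft (LP (LK LD1_c4 LD2_c53 LD3_c28)) = (LP (LK LD1_c4 LD2_c52 LD3_c27)) :=
  Lgr Lrot86 (Lpe (K22.f179978 IH) (Lpr_ff (f634404 IH) (Lpe (f634400 IH) (Lpe (K35.f634380 IH) (Lpe (K25.f355121 IH) (Lpn (LP (LK LD1_c4 LD2_c52 LD3_c27))))))))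
theorem f634411 : Led Lsl_af (LP (LK LD1_c4 LD2_c53 LD3_c35)) = (LP (LK LD1_c4 LD2_c52 LD3_c27)) :=
  Lgr Lrot31 (Lpe (K26.f355191 IH) (Lpr_gf (K26.f363381 IH) (Lpr_ft (f634405 IH) (Lpn (LP (LK LD1_c4 LD2_c52 LD3_c27))))))
theorem f634417 : (LP (LK LD1_c2 LD2_c24 LD3_c36)) = K35.v4524 :=
  (Llr Lrot123 (Lpe (K26.f166586 IH) (Lpr_af (f634411 IH) (Lpe (K25.f355123 IH) (Lpr_af (K35.f634377 IH) (Lpn K35.v4524)))))).symm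
theorem f377491 : Led Lsl_df (LP (LK LD1_c2 LD2_c29 LD3_c26)) = (LP (LK LD1_c2 LD2_c24 LD3_c36)) :=
  Lgr Lrot38 (Lpr_dt (K46.f377489 IH) (Lpn (LP (LK LD1_c2 LD2_c24 LD3_c36))))
theorem f634425 : Led Lsl_ff (LP (LK LD1_c2 LD2_c32 LD3_c33)) = (LP (LK LD1_c2 LD2_c29 LD3_c26)) :=
  Lgr Lrot19 (Lpe (K35.f378292 IH) (Lpr_ft (K35.f634378 IH) (Lpq (f634417 IH) (Lpe (f377491 IH) (Lpn (LP (LK LD1_c2 LD2_c29 LD3_c26)))))))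
theorem f634433 : Led Lsl_at (LP (LK LD1_c2 LD2_c32 LD3_c33)) = (LP (LK LD1_c2 LD2_c29 LD3_c27)) :=
  Lgr Lrot26 (Lpr_ff (f634425 IH) (Lpr_gt (K46.f377510 IH) (Lpr_gt (K25.f354719 IH) (Lpn (LP (LK LD1_c2 LD2_c29 LD3_c27))))))
theorem f354701 : Led Lsl_df (LP (LK LD1_c2 LD2_c24 LD3_c37)) = (LP (LK LD1_c2 LD2_c29 LD3_c27)) :=
  Lgr Lrot38 (Lpr_dt (K25.f354696 IH) (Lpn (LP (LK LD1_c2 LD2_c29 LD3_c27))))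
theorem f634441 : K35.v4525 = (LP (LK LD1_c2 LD2_c24 LD3_c37)) :=
  (Llr Lrot117 (Lpe (K35.f634381 IH) (Lpe (K49.f378304 IH) (Lpr_at (f634433 IH) (Lpe (f354701 IH) (Lpn (LP (LK LD1_c2 LD2_c24 LD3_c37)))))))).symm
theorem f634446 : K35.v4530 = (LP (LK LD1_c2 LD2_c23 LD3_c52)) :=
  Lefun (Lecon (f634400 IH) (f634441 IH)) (K25.f354692 IH)
theorem f634461 : Led Lsl_ff (LP (LK LD1_c4 LD2_c52 LD3_c16)) = (LP (LK LD1_c4 LD2_c53 LD3_c27)) :=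
  Lgr Lrot19 (Lpr_dt (K25.f306910 IH) (Lpq (f634446 IH) (Lpe (f634404 IH) (Lpr_dt (K13.f167024 IH) (Lpn (LP (LK LD1_c4 LD2_c53 LD3_c27)))))))
theorem f634469 : Led Lsl_at (LP (LK LD1_c4 LD2_c52 LD3_c16)) = (LP (LK LD1_c4 LD2_c53 LD3_c26)) :=
  Lgr Lrot26 (Lpr_ff (f634461 IH) (Lpr_gt (K26.f358450 IH) (Lpr_gt (K25.f355175 IH) (Lpn (LP (LK LD1_c4 LD2_c53 LD3_c26))))))
theorem f634475 : Led Lsl_af (LP (LK LD1_c5 LD2_c10 LD3_c49)) = (LP (LK LD1_c5 LD2_c3 LD3_c38)) :=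
  Lgr Lrot50 (Lpe (K25.f337985 IH) (Lpr_at (f634469 IH) (Lpe (K25.f342417 IH) (Lpn (LP (LK LD1_c5 LD2_c3 LD3_c38))))))
theorem f634481 : Led Lsl_ft (LP (LK LD1_c4 LD2_c56 LD3_c30)) = (LP (LK LD1_c5 LD2_c3 LD3_c38)) :=
  Lgr Lrot2 (Lpe (K49.f326955 IH) (Lpe (K25.f354721 IH) (Lpr_af (f634475 IH) (Lpn (LP (LK LD1_c5 LD2_c3 LD3_c38))))))
theorem f634489 : Led Lsl_ff (LP (LK LD1_c4 LD2_c56 LD3_c30)) = (LP (LK LD1_c5 LD2_c3 LD3_c38)) :=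
  Lgr Lrot3 (Lpr_ft (f634481 IH) (Lpn (LP (LK LD1_c5 LD2_c3 LD3_c38))))
theorem f634497 : Led Lsl_at (LP (LK LD1_c4 LD2_c56 LD3_c30)) = (LP (LK LD1_c5 LD2_c3 LD3_c40)) :=
  Lgr Lrot26 (Lpr_ff (f634489 IH) (Lpr_gt (K23.f342414 IH) (Lpe (K25.f342450 IH) (Lpn (LP (LK LD1_c5 LD2_c3 LD3_c40))))))
theorem f634477 : Led Lsl_at (LP (LK LD1_c5 LD2_c10 LD3_c49)) = (LP (LK LD1_c5 LD2_c3 LD3_c38)) :=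
  Lgr Lrot100 (Lpr_af (f634475 IH) (Lpn (LP (LK LD1_c5 LD2_c3 LD3_c38))))
theorem f634507 : Led Lsl_ff (LP (LK LD1_c5 LD2_c10 LD3_c49)) = (LP (LK LD1_c5 LD2_c3 LD3_c40)) :=
  Lgr Lrot30 (Lpr_at (f634477 IH) (Lpe (f634489 IH) (Lpr_at (f634497 IH) (Lpn (LP (LK LD1_c5 LD2_c3 LD3_c40))))))
theorem f634517 : Led Lsl_ft (LP (LK LD1_c5 LD2_c10 LD3_c49)) = (LP (LK LD1_c5 LD2_c3 LD3_c40)) :=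
  Lgr Lrot48 (Lpr_ff (f634507 IH) (Lpn (LP (LK LD1_c5 LD2_c3 LD3_c40))))
theorem f342435 : Led Lsl_et (LP (LK LD1_c4 LD2_c52 LD3_c16)) = (LP (LK LD1_c5 LD2_c10 LD3_c49)) :=
  Lgr Lrot121 (Lpr_dt (K25.f306910 IH) (Lpe (K20.f274520 IH) (Lpe (K19.f306896 IH) (Lpr_et (K19.f301633 IH) (Lpr_gf (K14.f226065 IH) (Lpe (K13.f22026 IH) (Lpe (K13.f22039 IH) (Lpe (K23.f22043 IH) (Lpr_df (K23.f226070 IH) (Lpr_gf (K25.f342433 IH) (Lpn (LP (LK LD1_c5 LD2_c10 LD3_c49)))))))))))))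
theorem f335767 : Led Lsl_et (LP (LK LD1_c5 LD2_c3 LD3_c40)) = (LP (LK LD1_c3 LD2_c58 LD3_c49)) :=
  Lgr Lrot87 (Lpr_ef (K25.f335763 IH) (Lpn (LP (LK LD1_c3 LD2_c58 LD3_c49))))
theorem f634525 : Led Lsl_ff (LP (LK LD1_c2 LD2_c26 LD3_c1)) = (LP (LK LD1_c3 LD2_c58 LD3_c49)) :=
  Lgr Lrot72 (Lpe (K22.f180008 IH) (Lpe (f634461 IH) (Lpr_et (f342435 IH) (Lpr_ft (f634517 IH) (Lpr_et (f335767 IH) (Lpn (LP (LK LD1_c3 LD2_c58 LD3_c49))))))))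
theorem f335775 : Led Lsl_et (LP (LK LD1_c5 LD2_c36 LD3_c59)) = (LP (LK LD1_c5 LD2_c10 LD3_c24)) :=
  Lgr Lrot71 (Lpr_df (K25.f335769 IH) (Lpe (f335767 IH) (Lpe (K19.f248728 IH) (Lpe (K19.f248744 IH) (Lpe (K49.f250236 IH) (Lpn (LP (LK LD1_c5 LD2_c10 LD3_c24))))))))
theorem f335773 : Led Lsl_dt (LP (LK LD1_c5 LD2_c36 LD3_c59)) = (LP (LK LD1_c3 LD2_c58 LD3_c49)) :=
  Lgr Lrot42 (Lpr_df (K25.f335769 IH) (Lpn (LP (LK LD1_c3 LD2_c58 LD3_c49))))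
theorem f335783 : Led Lsl_gt (LP (LK LD1_c3 LD2_c58 LD3_c49)) = (LP (LK LD1_c1 LD2_c59 LD3_c61)) :=
  Lgr Lrot112 (Lpe (f335773 IH) (Lpr_et (f335775 IH) (Lpe (K19.f185075 IH) (Lpe (K19.f185074 IH) (Lpr_dt (K11.f169065 IH) (Lpr_gf (K11.f185058 IH) (Lpe (K9.f7946 IH) (Lpe (K9.f178241 IH) (Lpe (K1.f55310 IH) (Lpr_dt (K9.f55308 IH) (Lpn (LP (LK LD1_c1 LD2_c59 LD3_c61)))))))))))))
theorem f634533 : Led Lsl_at (LP (LK LD1_c2 LD2_c26 LD3_c1)) = (LP (LK LD1_c3 LD2_c58 LD3_c50)) :=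
  Lgr Lrot26 (Lpr_ff (f634525 IH) (Lpr_gt (f335783 IH) (Lpr_gt (K19.f55301 IH) (Lpn (LP (LK LD1_c3 LD2_c58 LD3_c50))))))
theorem f634541 : Led Lsl_af (LP (LK LD1_c4 LD2_c53 LD3_c27)) = (LP (LK LD1_c4 LD2_c52 LD3_c17)) :=
  Lgr Lrot50 (Lpr_et (K13.f180003 IH) (Lpr_at (f634533 IH) (Lpr_et (K19.f306915 IH) (Lpn (LP (LK LD1_c4 LD2_c52 LD3_c17))))))
theorem f634547 : Led Lsl_ft (LP (LK LD1_c4 LD2_c53 LD3_c26)) = (LP (LK LD1_c4 LD2_c52 LD3_c17)) :=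
  Lgr Lrot101 (Lpe (f634469 IH) (Lpr_ff (f634461 IH) (Lpr_af (f634541 IH) (Lpn (LP (LK LD1_c4 LD2_c52 LD3_c17))))))
theorem f634555 : Led Lsl_ff (LP (LK LD1_c4 LD2_c53 LD3_c26)) = (LP (LK LD1_c4 LD2_c52 LD3_c17)) :=
  Lgr Lrot3 (Lpr_ft (f634547 IH) (Lpn (LP (LK LD1_c4 LD2_c52 LD3_c17))))
theorem f634561 : Led Lsl_ft (LP (LK LD1_c2 LD2_c26 LD3_c0)) = (LP (LK LD1_c3 LD2_c58 LD3_c50)) :=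
  Lgr Lrot86 (Lpe (K21.f55322 IH) (Lpr_ff (f634489 IH) (Lpr_ef (K25.f342417 IH) (Lpr_ff (f634555 IH) (Lpe (K19.f306915 IH) (Lpn (LP (LK LD1_c3 LD2_c58 LD3_c50))))))))
theorem f634567 : Led Lsl_ff (LP (LK LD1_c4 LD2_c56 LD3_c29)) = (LP (LK LD1_c5 LD2_c36 LD3_c27)) :=
  Lgr Lrot19 (Lpr_dt (K21.f55318 IH) (Lpr_ft (f634561 IH) (Lpr_dt (K25.f178461 IH) (Lpn (LP (LK LD1_c5 LD2_c36 LD3_c27))))))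
theorem f634573 : Led Lsl_at (LP (LK LD1_c4 LD2_c56 LD3_c29)) = (LP (LK LD1_c5 LD2_c36 LD3_c59)) :=
  Lgr Lrot26 (Lpr_ff (f634567 IH) (Lpe (K26.f358448 IH) (Lpr_gt (K25.f177885 IH) (Lpn (LP (LK LD1_c5 LD2_c36 LD3_c59))))))
theorem f634577 : Led Lsl_af (LP (LK LD1_c5 LD2_c3 LD3_c14)) = (LP (LK LD1_c5 LD2_c10 LD3_c24)) :=
  Lgr Lrot50 (Lpe (K21.f307049 IH) (Lpr_at (f634573 IH) (Lpr_et (f335775 IH) (Lpn (LP (LK LD1_c5 LD2_c10 LD3_c24))))))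
theorem f634583 : Led Lsl_ft (LP (LK LD1_c5 LD2_c3 LD3_c15)) = (LP (LK LD1_c5 LD2_c10 LD3_c24)) :=
  Lgr Lrot2 (Lpr_gt (K23.f169985 IH) (Lpr_gt (K21.f169643 IH) (Lpr_af (f634577 IH) (Lpn (LP (LK LD1_c5 LD2_c10 LD3_c24))))))
theorem f634589 : Led Lsl_ff (LP (LK LD1_c5 LD2_c3 LD3_c15)) = (LP (LK LD1_c5 LD2_c10 LD3_c24)) :=
  Lgr Lrot3 (Lpr_ft (f634583 IH) (Lpn (LP (LK LD1_c5 LD2_c10 LD3_c24))))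
theorem f634595 : Led Lsl_at (LP (LK LD1_c5 LD2_c3 LD3_c15)) = (LP (LK LD1_c5 LD2_c10 LD3_c25)) :=
  Lgr Lrot26 (Lpr_ff (f634589 IH) (Lpe (K19.f307007 IH) (Lpr_gt (K46.f307034 IH) (Lpn (LP (LK LD1_c5 LD2_c10 LD3_c25))))))
theorem f634579 : Led Lsl_at (LP (LK LD1_c5 LD2_c3 LD3_c14)) = (LP (LK LD1_c5 LD2_c10 LD3_c24)) :=
  Lgr Lrot100 (Lpr_af (f634577 IH) (Lpn (LP (LK LD1_c5 LD2_c10 LD3_c24))))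
theorem f634601 : Led Lsl_ff (LP (LK LD1_c5 LD2_c3 LD3_c14)) = (LP (LK LD1_c5 LD2_c10 LD3_c25)) :=
  Lgr Lrot30 (Lpr_at (f634579 IH) (Lpe (f634589 IH) (Lpr_at (f634595 IH) (Lpn (LP (LK LD1_c5 LD2_c10 LD3_c25))))))
theorem f634609 : Led Lsl_ft (LP (LK LD1_c5 LD2_c3 LD3_c14)) = (LP (LK LD1_c5 LD2_c10 LD3_c25)) :=
  Lgr Lrot48 (Lpr_ff (f634601 IH) (Lpn (LP (LK LD1_c5 LD2_c10 LD3_c25))))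
theorem f355196 : Led Lsl_et (LP (LK LD1_c5 LD2_c10 LD3_c25)) = (LP (LK LD1_c4 LD2_c19 LD3_c47)) :=
  Lgr Lrot87 (Lpr_ef (K26.f355193 IH) (Lpn (LP (LK LD1_c4 LD2_c19 LD3_c47))))
theorem f634615 : Led Lsl_ff (LP (LK LD1_c2 LD2_c44 LD3_c4)) = (LP (LK LD1_c4 LD2_c19 LD3_c47)) :=
  Lgr Lrot72 (Lpr_et (K19.f178463 IH) (Lpe (f634567 IH) (Lpr_et (K21.f307045 IH) (Lpr_ft (f634609 IH) (Lpr_et (f355196 IH) (Lpn (LP (LK LD1_c4 LD2_c19 LD3_c47))))))))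
theorem f634623 : Led Lsl_at (LP (LK LD1_c2 LD2_c44 LD3_c4)) = (LP (LK LD1_c4 LD2_c19 LD3_c46)) :=
  Lgr Lrot26 (Lpr_ff (f634615 IH) (Lpr_gt (K26.f260775 IH) (Lpr_gt (K13.f179550 IH) (Lpn (LP (LK LD1_c4 LD2_c19 LD3_c46))))))
theorem f634631 : Led Lsl_af (LP (LK LD1_c5 LD2_c36 LD3_c27)) = (LP (LK LD1_c4 LD2_c56 LD3_c32)) :=
  Lgr Lrot50 (Lpr_et (K19.f178458 IH) (Lpr_at (f634623 IH) (Lpr_et (K22.f180010 IH) (Lpn (LP (LK LD1_c4 LD2_c56 LD3_c32))))))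
theorem f634633 : Led Lsl_ft (LP (LK LD1_c5 LD2_c36 LD3_c59)) = (LP (LK LD1_c4 LD2_c56 LD3_c32)) :=
  Lgr Lrot101 (Lpe (f634573 IH) (Lpr_ff (f634567 IH) (Lpr_af (f634631 IH) (Lpn (LP (LK LD1_c4 LD2_c56 LD3_c32))))))
theorem f634637 : Led Lsl_ff (LP (LK LD1_c2 LD2_c44 LD3_c5)) = (LP (LK LD1_c4 LD2_c19 LD3_c46)) :=
  Lgr Lrot72 (Lpr_et (K25.f355094 IH) (Lpr_ft (f634583 IH) (Lpe (K49.f335779 IH) (Lpr_ft (f634633 IH) (Lpe (K13.f180006 IH) (Lpn (LP (LK LD1_c4 LD2_c19 LD3_c46))))))))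
theorem f231563 : Led Lsl_bf (LP (LK LD1_c8 LD2_c27 LD3_c48)) = (LP (LK LD1_c9 LD2_c33 LD3_c27)) :=
  Lgr Lrot24 (Lpr_bt (K20.f231559 IH) (Lpn (LP (LK LD1_c9 LD2_c33 LD3_c27))))
theorem f190016 : Led Lsl_bf (LP (LK LD1_c8 LD2_c27 LD3_c28)) = (LP (LK LD1_c8 LD2_c37 LD3_c52)) :=
  Lgr Lrot24 (Lpr_bt (K20.f190007 IH) (Lpn (LP (LK LD1_c8 LD2_c37 LD3_c52))))
theorem f315616 : Led Lsl_et (LP (LK LD1_c8 LD2_c27 LD3_c48)) = (LP (LK LD1_c8 LD2_c37 LD3_c52)) :=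
  Lgr Lrot74 (Lpr_bf (f231563 IH) (Lpr_ef (K20.f315607 IH) (Lpr_bf (f190016 IH) (Lpn (LP (LK LD1_c8 LD2_c37 LD3_c52))))))
theorem f348958 : Led Lsl_gt (LP (LK LD1_c8 LD2_c14 LD3_c22)) = (LP (LK LD1_c8 LD2_c37 LD3_c52)) :=
  Lgr Lrot131 (Lpr_ef (K19.f314583 IH) (Lpe (K19.f314581 IH) (Lpe (K21.f314576 IH) (Lpe (K24.f348947 IH) (Lpr_gf (K23.f348952 IH) (Lpe (K23.f313100 IH) (Lpr_dt (K21.f313088 IH) (Lpe (K23.f315692 IH) (Lpe (K23.f231566 IH) (Lpr_et (f315616 IH) (Lpn (LP (LK LD1_c8 LD2_c37 LD3_c52)))))))))))))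
theorem f360575 : Led Lsl_gt (LP (LK LD1_c9 LD2_c37 LD3_c50)) = (LP (LK LD1_c15 LD2_c30 LD3_c4)) :=
  Lgr Lrot137 (Lpe (K26.f360574 IH) (Lpr_dt (K26.f247151 IH) (Lpr_gf (K26.f360568 IH) (Lpe (K23.f346576 IH) (Lpr_et (K23.f346577 IH) (Lpr_gf (K25.f357304 IH) (Lpe (K22.f315070 IH) (Lpe (K20.f305057 IH) (Lpe (f348958 IH) (Lpe (K19.f314590 IH) (Lpn (LP (LK LD1_c15 LD2_c30 LD3_c4)))))))))))))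
theorem f170431 : Led Lsl_ct (LP (LK LD1_c4 LD2_c50 LD3_c57)) = (LP (LK LD1_c9 LD2_c33 LD3_c57)) :=
  Lre_c IH (LK LD1_c4 LD2_c50 LD3_c57) (LK LD1_c9 LD2_c33 LD3_c57) Lrfl Lrfl
theorem f170433 : Led Lsl_gt (LP (LK LD1_c9 LD2_c33 LD3_c57)) = (LP (LK LD1_c17 LD2_c36 LD3_c51)) :=
  Lre_g IH (LK LD1_c9 LD2_c33 LD3_c57) (LK LD1_c17 LD2_c36 LD3_c51) Lrfl Lrfl
theorem f325891 : Led Lsl_bt (LP (LK LD1_c14 LD2_c56 LD3_c58)) = (LP (LK LD1_c8 LD2_c22 LD3_c34)) :=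
  Lgr Lrot127 (Lpr_bf (K21.f325889 IH) (Lpn (LP (LK LD1_c8 LD2_c22 LD3_c34))))
theorem f351370 : Led Lsl_cf (LP (LK LD1_c17 LD2_c36 LD3_c51)) = (LP (LK LD1_c14 LD2_c56 LD3_c58)) :=
  Lgr Lrot58 (Lpe (f170433 IH) (Lpe (f170431 IH) (Lpe (K16.f167288 IH) (Lpe (K24.f170432 IH) (Lpr_bf (K26.f351229 IH) (Lpe (K22.f336291 IH) (Lpr_gf (K22.f336285 IH) (Lpe (K19.f200232 IH) (Lpe (K20.f200261 IH) (Lpe (f325891 IH) (Lpn (LP (LK LD1_c14 LD2_c56 LD3_c58)))))))))))))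
theorem f351374 : Led Lsl_et (LP (LK LD1_c17 LD2_c36 LD3_c51)) = (LP (LK LD1_c27 LD2_c25 LD3_c2)) :=
  Lre_e IH (LK LD1_c17 LD2_c36 LD3_c51) (LK LD1_c27 LD2_c25 LD3_c2) Lrfl Lrfl
theorem f351375 : Led Lsl_ct (LP (LK LD1_c27 LD2_c25 LD3_c2)) = (LP (LK LD1_c24 LD2_c44 LD3_c27)) :=
  Lgr Lrot15 (Lpe (f351374 IH) (Lpr_cf (f351370 IH) (Lpe (K21.f232703 IH) (Lpn (LP (LK LD1_c24 LD2_c44 LD3_c27))))))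
theorem f360593 : Led Lsl_gt (LP (LK LD1_c25 LD2_c23 LD3_c22)) = (LP (LK LD1_c27 LD2_c25 LD3_c2)) :=
  Lgr Lrot187 (Lpe (K23.f195476 IH) (Lpe (f360575 IH) (Lpr_dt (K26.f360583 IH) (Lpr_gt (K22.f337970 IH) (Lpr_ct (K24.f222308 IH) (Lpe (K24.f325870 IH) (Lpr_ct (K24.f325864 IH) (Lpe (K21.f325883 IH) (Lpe (f351375 IH) (Lpn (LP (LK LD1_c27 LD2_c25 LD3_c2))))))))))))
theorem f179984 : Led Lsl_et (LP (LK LD1_c4 LD2_c17 LD3_c52)) = (LP (LK LD1_c8 LD2_c34 LD3_c44)) :=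
  Lre_e IH (LK LD1_c4 LD2_c17 LD3_c52) (LK LD1_c8 LD2_c34 LD3_c44) Lrfl Lrfl
theorem f179985 : Led Lsl_ct (LP (LK LD1_c8 LD2_c34 LD3_c44)) = (LP (LK LD1_c4 LD2_c53 LD3_c28)) :=
  Lgr Lrot15 (Lpe (f179984 IH) (Lpr_cf (K25.f179968 IH) (Lpe (K13.f179971 IH) (Lpn (LP (LK LD1_c4 LD2_c53 LD3_c28))))))
theorem f179994 : Led Lsl_cf (LP (LK LD1_c8 LD2_c34 LD3_c44)) = (LP (LK LD1_c4 LD2_c53 LD3_c28)) :=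
  Lgr Lrot11 (Lpr_ct (f179985 IH) (Lpn (LP (LK LD1_c4 LD2_c53 LD3_c28))))
theorem f243075 : Led Lsl_ct (LP (LK LD1_c8 LD2_c40 LD3_c49)) = (LP (LK LD1_c4 LD2_c21 LD3_c36)) :=
  Lre_c IH (LK LD1_c8 LD2_c40 LD3_c49) (LK LD1_c4 LD2_c21 LD3_c36) Lrfl Lrfl
theorem f193244 : Led Lsl_dt (LP (LK LD1_c4 LD2_c22 LD3_c23)) = (LP (LK LD1_c8 LD2_c42 LD3_c43)) :=
  Lre_d IH (LK LD1_c4 LD2_c22 LD3_c23) (LK LD1_c8 LD2_c42 LD3_c43) Lrfl Lrfl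
theorem f238738 : Led Lsl_gt (LP (LK LD1_c8 LD2_c42 LD3_c43)) = (LP (LK LD1_c16 LD2_c19 LD3_c16)) :=
  Lre_g IH (LK LD1_c8 LD2_c42 LD3_c43) (LK LD1_c16 LD2_c19 LD3_c16) Lrfl Lrfl
theorem f351377 : Led Lsl_df (LP (LK LD1_c17 LD2_c36 LD3_c51)) = (LP (LK LD1_c16 LD2_c19 LD3_c16)) :=
  Lgr Lrot84 (Lpr_cf (f351370 IH) (Lpr_df (K21.f296363 IH) (Lpe (K21.f243063 IH) (Lpr_df (K23.f243054 IH) (Lpe (K21.f243067 IH) (Lpe (f243075 IH) (Lpe (K24.f328733 IH) (Lpr_dt (f193244 IH) (Lpr_gt (f238738 IH) (Lpn (LP (LK LD1_c16 LD2_c19 LD3_c16))))))))))))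
theorem f351379 : Led Lsl_dt (LP (LK LD1_c17 LD2_c36 LD3_c51)) = (LP (LK LD1_c16 LD2_c19 LD3_c16)) :=
  Lgr Lrot42 (Lpr_df (f351377 IH) (Lpn (LP (LK LD1_c16 LD2_c19 LD3_c16))))
theorem f238622 : Led Lsl_et (LP (LK LD1_c4 LD2_c22 LD3_c23)) = (LP (LK LD1_c2 LD2_c8 LD3_c37)) :=
  Lre_e IH (LK LD1_c4 LD2_c22 LD3_c23) (LK LD1_c2 LD2_c8 LD3_c37) Lrfl Lrfl
theorem f351381 : Led Lsl_gt (LP (LK LD1_c27 LD2_c25 LD3_c2)) = (LP (LK LD1_c17 LD2_c41 LD3_c49)) :=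
  Lgr Lrot137 (Lpe (f351374 IH) (Lpr_dt (f351379 IH) (Lpe (f238738 IH) (Lpe (f193244 IH) (Lpr_et (f238622 IH) (Lpe (K13.f238725 IH) (Lpe (K23.f238730 IH) (Lpr_dt (K16.f238731 IH) (Lpe (K25.f238732 IH) (Lpr_df (K25.f328737 IH) (Lpn (LP (LK LD1_c17 LD2_c41 LD3_c49)))))))))))))
theorem f351383 : Led Lsl_cf (LP (LK LD1_c27 LD2_c25 LD3_c2)) = (LP (LK LD1_c24 LD2_c44 LD3_c27)) :=
  Lgr Lrot166 (Lpr_gt (f351381 IH) (Lpe (K25.f328737 IH) (Lpr_gt (K25.f238732 IH) (Lpr_dt (K21.f255576 IH) (Lpr_ct (K21.f255564 IH) (Lpr_df (K14.f255565 IH) (Lpe (K14.f255577 IH) (Lpe (K19.f279523 IH) (Lpe (K23.f296367 IH) (Lpn (LP (LK LD1_c24 LD2_c44 LD3_c27))))))))))))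
theorem f322408 : Led Lsl_ct (LP (LK LD1_c4 LD2_c12 LD3_c6)) = (LP (LK LD1_c8 LD2_c23 LD3_c53)) :=
  Lre_c IH (LK LD1_c4 LD2_c12 LD3_c6) (LK LD1_c8 LD2_c23 LD3_c53) Lrfl Lrfl
theorem f360619 : Led Lsl_gf (LP (LK LD1_c8 LD2_c34 LD3_c44)) = (LP (LK LD1_c8 LD2_c23 LD3_c53)) :=
  Lgr Lrot126 (Lpr_cf (f179994 IH) (Lpe (K26.f360587 IH) (Lpr_gt (f360575 IH) (Lpr_ct (K23.f195476 IH) (Lpr_gt (f360593 IH) (Lpr_cf (f351383 IH) (Lpr_bt (K21.f325887 IH) (Lpr_gt (K21.f322487 IH) (Lpe (K50.f322483 IH) (Lpr_ct (f322408 IH) (Lpn (LP (LK LD1_c8 LD2_c23 LD3_c53)))))))))))))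
theorem f178858 : Led Lsl_ct (LP (LK LD1_c2 LD2_c2 LD3_c45)) = (LP (LK LD1_c4 LD2_c10 LD3_c60)) :=
  Lre_c IH (LK LD1_c2 LD2_c2 LD3_c45) (LK LD1_c4 LD2_c10 LD3_c60) Lrfl Lrfl
theorem f178859 : Led Lsl_gt (LP (LK LD1_c4 LD2_c10 LD3_c60)) = (LP (LK LD1_c8 LD2_c21 LD3_c47)) :=
  Lre_g IH (LK LD1_c4 LD2_c10 LD3_c60) (LK LD1_c8 LD2_c21 LD3_c47) Lrfl Lrfl
theorem f360623 : Led Lsl_cf (LP (LK LD1_c4 LD2_c19 LD3_c46)) = (LP (LK LD1_c8 LD2_c21 LD3_c47)) :=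
  Lgr Lrot99 (Lpr_df (K13.f179972 IH) (Lpe (f179985 IH) (Lpr_gf (f360619 IH) (Lpe (f322408 IH) (Lpr_gf (K20.f322394 IH) (Lpe (K23.f348196 IH) (Lpr_gt (K23.f167228 IH) (Lpr_ct (f178858 IH) (Lpr_gt (f178859 IH) (Lpn (LP (LK LD1_c8 LD2_c21 LD3_c47))))))))))))
theorem f634643 : Led Lsl_ft (LP (LK LD1_c5 LD2_c28 LD3_c33)) = (LP (LK LD1_c8 LD2_c21 LD3_c47)) :=
  Lgr Lrot4 (Lpe (K25.f355098 IH) (Lpr_ff (f634637 IH) (Lpr_cf (f360623 IH) (Lpn (LP (LK LD1_c8 LD2_c21 LD3_c47))))))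
theorem f634649 : Led Lsl_ff (LP (LK LD1_c5 LD2_c28 LD3_c33)) = (LP (LK LD1_c8 LD2_c21 LD3_c47)) :=
  Lgr Lrot3 (Lpr_ft (f634643 IH) (Lpn (LP (LK LD1_c8 LD2_c21 LD3_c47))))
theorem f355100 : Led Lsl_bt (LP (LK LD1_c5 LD2_c28 LD3_c33)) = (LP (LK LD1_c10 LD2_c48 LD3_c14)) :=
  Lre_b IH (LK LD1_c5 LD2_c28 LD3_c33) (LK LD1_c10 LD2_c48 LD3_c14) Lrfl Lrfl
theorem f360626 : Led Lsl_bt (LP (LK LD1_c15 LD2_c44 LD3_c15)) = (LP (LK LD1_c8 LD2_c21 LD3_c47)) :=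
  Lre_b IH (LK LD1_c15 LD2_c44 LD3_c15) (LK LD1_c8 LD2_c21 LD3_c47) Lrfl Lrfl
theorem f634651 : Led Lsl_ft (LP (LK LD1_c10 LD2_c48 LD3_c14)) = (LP (LK LD1_c15 LD2_c44 LD3_c15)) :=
  Lgr Lrot75 (Lpe (f355100 IH) (Lpr_ff (f634649 IH) (Lpe (f360626 IH) (Lpn (LP (LK LD1_c15 LD2_c44 LD3_c15))))))
theorem f379369 : Led Lsl_ct (LP (LK LD1_c19 LD2_c32 LD3_c25)) = (LP (LK LD1_c10 LD2_c48 LD3_c14)) :=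
  Lre_c IH (LK LD1_c19 LD2_c32 LD3_c25) (LK LD1_c10 LD2_c48 LD3_c14) Lrfl Lrfl
theorem f360636 : Led Lsl_ct (LP (LK LD1_c15 LD2_c44 LD3_c15)) = (LP (LK LD1_c25 LD2_c40 LD3_c38)) :=
  Lre_c IH (LK LD1_c15 LD2_c44 LD3_c15) (LK LD1_c25 LD2_c40 LD3_c38) Lrfl Lrfl
theorem f634655 : Led Lsl_ff (LP (LK LD1_c19 LD2_c32 LD3_c25)) = (LP (LK LD1_c25 LD2_c40 LD3_c38)) :=
  Lgr Lrot23 (Lpr_ct (f379369 IH) (Lpr_ft (f634651 IH) (Lpr_ct (f360636 IH) (Lpn (LP (LK LD1_c25 LD2_c40 LD3_c38))))))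
theorem f634660 : Led Lsl_ft (LP (LK LD1_c19 LD2_c32 LD3_c25)) = (LP (LK LD1_c25 LD2_c40 LD3_c38)) :=
  Lgr Lrot48 (Lpr_ff (f634655 IH) (Lpn (LP (LK LD1_c25 LD2_c40 LD3_c38))))
theorem f355103 : Led Lsl_cf (LP (LK LD1_c2 LD2_c44 LD3_c5)) = (LP (LK LD1_c5 LD2_c28 LD3_c33)) :=
  Lgr Lrot11 (Lpr_ct (K25.f355098 IH) (Lpn (LP (LK LD1_c5 LD2_c28 LD3_c33))))
theorem f289159 : Led Lsl_bt (LP (LK LD1_c10 LD2_c48 LD3_c14)) = (LP (LK LD1_c5 LD2_c28 LD3_c33)) :=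
  Lre_b IH (LK LD1_c10 LD2_c48 LD3_c14) (LK LD1_c5 LD2_c28 LD3_c33) Lrfl Lrfl
theorem f379370 : Led Lsl_bt (LP (LK LD1_c11 LD2_c3 LD3_c10)) = (LP (LK LD1_c19 LD2_c32 LD3_c25)) :=
  Lgr Lrot128 (Lpe (K25.f189410 IH) (Lpe (K27.f355092 IH) (Lpr_cf (f355103 IH) (Lpe (f289159 IH) (Lpe (f379369 IH) (Lpn (LP (LK LD1_c19 LD2_c32 LD3_c25))))))))
theorem f360630 : Led Lsl_ct (LP (LK LD1_c4 LD2_c19 LD3_c46)) = (LP (LK LD1_c8 LD2_c21 LD3_c47)) :=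
  Lgr Lrot59 (Lpr_cf (f360623 IH) (Lpn (LP (LK LD1_c8 LD2_c21 LD3_c47))))
theorem f180022 : Led Lsl_ct (LP (LK LD1_c16 LD2_c9 LD3_c43)) = (LP (LK LD1_c8 LD2_c37 LD3_c40)) :=
  Lre_c IH (LK LD1_c16 LD2_c9 LD3_c43) (LK LD1_c8 LD2_c37 LD3_c40) Lrfl Lrfl
theorem f360634 : Led Lsl_bt (LP (LK LD1_c8 LD2_c21 LD3_c47)) = (LP (LK LD1_c15 LD2_c44 LD3_c15)) :=
  Lre_b IH (LK LD1_c8 LD2_c21 LD3_c47) (LK LD1_c15 LD2_c44 LD3_c15) Lrfl Lrfl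
theorem f360641 : Led Lsl_bf (LP (LK LD1_c16 LD2_c9 LD3_c43)) = (LP (LK LD1_c25 LD2_c40 LD3_c38)) :=
  Lgr Lrot90 (Lpr_ct (f180022 IH) (Lpr_bt (K22.f179979 IH) (Lpr_ct (f360630 IH) (Lpr_bt (f360634 IH) (Lpr_ct (f360636 IH) (Lpn (LP (LK LD1_c25 LD2_c40 LD3_c38))))))))
theorem f634662 : Led Lsl_ff (LP (LK LD1_c11 LD2_c3 LD3_c10)) = (LP (LK LD1_c16 LD2_c9 LD3_c43)) :=
  Lgr Lrot25 (Lpr_bt (f379370 IH) (Lpr_ft (f634660 IH) (Lpe (f360641 IH) (Lpn (LP (LK LD1_c16 LD2_c9 LD3_c43))))))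
theorem f360595 : Led Lsl_gt (LP (LK LD1_c4 LD2_c31 LD3_c22)) = (LP (LK LD1_c8 LD2_c37 LD3_c40)) :=
  Lgr Lrot112 (Lpr_df (K22.f238099 IH) (Lpr_et (K15.f238081 IH) (Lpe (K14.f246786 IH) (Lpe (K18.f199228 IH) (Lpe (K15.f199197 IH) (Lpr_gf (K18.f246815 IH) (Lpe (K15.f2454 IH) (Lpe (K22.f170378 IH) (Lpe (K26.f200570 IH) (Lpr_dt (K26.f360583 IH) (Lpn (LP (LK LD1_c8 LD2_c37 LD3_c40)))))))))))))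
theorem f180015 : Led Lsl_ct (LP (LK LD1_c8 LD2_c37 LD3_c40)) = (LP (LK LD1_c16 LD2_c9 LD3_c43)) :=
  Lre_c IH (LK LD1_c8 LD2_c37 LD3_c40) (LK LD1_c16 LD2_c9 LD3_c43) Lrfl Lrfl
theorem f360597 : Led Lsl_gf (LP (LK LD1_c11 LD2_c3 LD3_c33)) = (LP (LK LD1_c16 LD2_c9 LD3_c43)) :=
  Lgr Lrot104 (Lpe (K21.f324569 IH) (Lpe (K23.f324631 IH) (Lpe (K22.f337311 IH) (Lpe (K22.f305008 IH) (Lpe (K19.f305002 IH) (Lpe (K21.f305059 IH) (Lpe (K15.f238082 IH) (Lpr_gt (f360595 IH) (Lpr_ct (f180015 IH) (Lpn (LP (LK LD1_c16 LD2_c9 LD3_c43))))))))))))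
theorem f634666 : Led Lsl_at (LP (LK LD1_c11 LD2_c3 LD3_c10)) = (LP (LK LD1_c16 LD2_c50 LD3_c14)) :=
  Lgr Lrot26 (Lpr_ff (f634662 IH) (Lpe (f360597 IH) (Lpr_gt (K24.f340491 IH) (Lpn (LP (LK LD1_c16 LD2_c50 LD3_c14))))))
theorem f355070 : Led Lsl_et (LP (LK LD1_c18 LD2_c13 LD3_c3)) = (LP (LK LD1_c11 LD2_c3 LD3_c10)) :=
  Lgr Lrot158 (Lpe (K23.f344945 IH) (Lpr_ef (K25.f355068 IH) (Lpe (K25.f189411 IH) (Lpn (LP (LK LD1_c11 LD2_c3 LD3_c10))))))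
theorem f192606 : Led Lsl_ct (LP (LK LD1_c10 LD2_c0 LD3_c51)) = (LP (LK LD1_c5 LD2_c4 LD3_c54)) :=
  Lre_c IH (LK LD1_c10 LD2_c0 LD3_c51) (LK LD1_c5 LD2_c4 LD3_c54) Lrfl Lrfl
theorem f192619 : Led Lsl_gt (LP (LK LD1_c18 LD2_c17 LD3_c59)) = (LP (LK LD1_c10 LD2_c0 LD3_c51)) :=
  Lre_g IH (LK LD1_c18 LD2_c17 LD3_c59) (LK LD1_c10 LD2_c0 LD3_c51) Lrfl Lrfl
theorem f304190 : Led Lsl_ct (LP (LK LD1_c10 LD2_c8 LD3_c10)) = (LP (LK LD1_c18 LD2_c17 LD3_c59)) :=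
  Lgr Lrot152 (Lpe (K22.f239854 IH) (Lpr_df (K22.f239828 IH) (Lpe (K13.f239820 IH) (Lpr_ct (K14.f235375 IH) (Lpr_gt (K19.f304185 IH) (Lpr_ct (K16.f171558 IH) (Lpe (K15.f192600 IH) (Lpe (f192606 IH) (Lpe (f192619 IH) (Lpn (LP (LK LD1_c18 LD2_c17 LD3_c59))))))))))))
theorem f304194 : Led Lsl_cf (LP (LK LD1_c10 LD2_c8 LD3_c10)) = (LP (LK LD1_c18 LD2_c17 LD3_c59)) :=
  Lgr Lrot11 (Lpr_ct (f304190 IH) (Lpn (LP (LK LD1_c18 LD2_c17 LD3_c59))))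
theorem f314614 : Led Lsl_ef (LP (LK LD1_c18 LD2_c17 LD3_c59)) = (LP (LK LD1_c16 LD2_c50 LD3_c14)) :=
  Lgr Lrot28 (Lpe (f304194 IH) (Lpr_et (K22.f314612 IH) (Lpr_ct (K22.f238107 IH) (Lpn (LP (LK LD1_c16 LD2_c50 LD3_c14))))))
theorem f634674 : Led Lsl_af (LP (LK LD1_c18 LD2_c13 LD3_c3)) = (LP (LK LD1_c18 LD2_c17 LD3_c59)) :=
  Lgr Lrot50 (Lpr_et (f355070 IH) (Lpr_at (f634666 IH) (Lpe (f314614 IH) (Lpn (LP (LK LD1_c18 LD2_c17 LD3_c59))))))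
theorem f345025 : Led Lsl_gf (LP (LK LD1_c18 LD2_c17 LD3_c60)) = (LP (LK LD1_c18 LD2_c39 LD3_c60)) :=
  Lgr Lrot104 (Lpr_ct (K25.f192626 IH) (Lpr_df (K16.f192611 IH) (Lpe (K23.f192623 IH) (Lpr_gf (K23.f345021 IH) (Lpe (K23.f195635 IH) (Lpe (K23.f190247 IH) (Lpe (K14.f190246 IH) (Lpr_gt (K14.f195690 IH) (Lpr_ct (K25.f341956 IH) (Lpn (LP (LK LD1_c18 LD2_c39 LD3_c60))))))))))))
theorem f634680 : Led Lsl_ft (LP (LK LD1_c18 LD2_c39 LD3_c60)) = (LP (LK LD1_c18 LD2_c17 LD3_c59)) :=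
  Lgr Lrot2 (Lpe (f345025 IH) (Lpr_gt (K23.f344946 IH) (Lpr_af (f634674 IH) (Lpn (LP (LK LD1_c18 LD2_c17 LD3_c59))))))
theorem f634684 : Led Lsl_ff (LP (LK LD1_c18 LD2_c39 LD3_c60)) = (LP (LK LD1_c18 LD2_c17 LD3_c59)) :=
  Lgr Lrot3 (Lpr_ft (f634680 IH) (Lpn (LP (LK LD1_c18 LD2_c17 LD3_c59))))
theorem f237064 : Led Lsl_gt (LP (LK LD1_c10 LD2_c0 LD3_c51)) = (LP (LK LD1_c18 LD2_c17 LD3_c58)) :=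
  Lre_g IH (LK LD1_c10 LD2_c0 LD3_c51) (LK LD1_c18 LD2_c17 LD3_c58) Lrfl Lrfl
theorem f634688 : Led Lsl_at (LP (LK LD1_c18 LD2_c39 LD3_c60)) = (LP (LK LD1_c18 LD2_c17 LD3_c58)) :=
  Lgr Lrot26 (Lpr_ff (f634684 IH) (Lpr_gt (f192619 IH) (Lpr_gt (f237064 IH) (Lpn (LP (LK LD1_c18 LD2_c17 LD3_c58))))))
theorem f634676 : Led Lsl_at (LP (LK LD1_c18 LD2_c13 LD3_c3)) = (LP (LK LD1_c18 LD2_c17 LD3_c59)) :=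
  Lgr Lrot100 (Lpr_af (f634674 IH) (Lpn (LP (LK LD1_c18 LD2_c17 LD3_c59))))
theorem f634696 : Led Lsl_ff (LP (LK LD1_c18 LD2_c13 LD3_c3)) = (LP (LK LD1_c18 LD2_c17 LD3_c58)) :=
  Lgr Lrot30 (Lpr_at (f634676 IH) (Lpe (f634684 IH) (Lpr_at (f634688 IH) (Lpn (LP (LK LD1_c18 LD2_c17 LD3_c58))))))
theorem f634700 : Led Lsl_ft (LP (LK LD1_c18 LD2_c13 LD3_c3)) = (LP (LK LD1_c18 LD2_c17 LD3_c58)) :=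
  Lgr Lrot48 (Lpr_ff (f634696 IH) (Lpn (LP (LK LD1_c18 LD2_c17 LD3_c58))))
theorem f169061 : Led Lsl_ct (LP (LK LD1_c9 LD2_c44 LD3_c32)) = (LP (LK LD1_c17 LD2_c53 LD3_c51)) :=
  Lre_c IH (LK LD1_c9 LD2_c44 LD3_c32) (LK LD1_c17 LD2_c53 LD3_c51) Lrfl Lrfl
theorem f180023 : Led Lsl_ef (LP (LK LD1_c16 LD2_c9 LD3_c43)) = (LP (LK LD1_c17 LD2_c53 LD3_c51)) :=
  Lgr Lrot28 (Lpr_ct (f180022 IH) (Lpr_et (K26.f180019 IH) (Lpr_ct (f169061 IH) (Lpn (LP (LK LD1_c17 LD2_c53 LD3_c51))))))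
theorem f338659 : Led Lsl_et (LP (LK LD1_c5 LD2_c35 LD3_c54)) = (LP (LK LD1_c11 LD2_c4 LD3_c5)) :=
  Lre_e IH (LK LD1_c5 LD2_c35 LD3_c54) (LK LD1_c11 LD2_c4 LD3_c5) Lrfl Lrfl
theorem f338660 : Led Lsl_cf (LP (LK LD1_c17 LD2_c43 LD3_c18)) = (LP (LK LD1_c11 LD2_c4 LD3_c5)) :=
  Lgr Lrot39 (Lpr_et (K23.f305507 IH) (Lpr_ct (K24.f338638 IH) (Lpr_et (f338659 IH) (Lpn (LP (LK LD1_c11 LD2_c4 LD3_c5))))))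
theorem f31233 : Led Lsl_gt (LP (LK LD1_c26 LD2_c10 LD3_c18)) = (LP (LK LD1_c16 LD2_c13 LD3_c22)) :=
  Lre_g IH (LK LD1_c26 LD2_c10 LD3_c18) (LK LD1_c16 LD2_c13 LD3_c22) Lrfl Lrfl
theorem f338796 : Led Lsl_gt (LP (LK LD1_c11 LD2_c4 LD3_c5)) = (LP (LK LD1_c19 LD2_c56 LD3_c38)) :=
  Lre_g IH (LK LD1_c11 LD2_c4 LD3_c5) (LK LD1_c19 LD2_c56 LD3_c38) Lrfl Lrfl
theorem f338797 : Led Lsl_df (LP (LK LD1_c26 LD2_c10 LD3_c18)) = (LP (LK LD1_c19 LD2_c56 LD3_c38)) :=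
  Lgr Lrot153 (Lpr_gt (f31233 IH) (Lpr_dt (K19.f31225 IH) (Lpe (K10.f31218 IH) (Lpr_df (K17.f31221 IH) (Lpe (K17.f31223 IH) (Lpe (K17.f31234 IH) (Lpr_gf (K26.f187951 IH) (Lpr_cf (f338660 IH) (Lpr_gt (f338796 IH) (Lpn (LP (LK LD1_c19 LD2_c56 LD3_c38))))))))))))
theorem f31230 : Led Lsl_dt (LP (LK LD1_c8 LD2_c39 LD3_c42)) = (LP (LK LD1_c16 LD2_c13 LD3_c22)) :=
  Lre_d IH (LK LD1_c8 LD2_c39 LD3_c42) (LK LD1_c16 LD2_c13 LD3_c22) Lrfl Lrfl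
theorem f240741 : Led Lsl_et (LP (LK LD1_c5 LD2_c4 LD3_c53)) = (LP (LK LD1_c10 LD2_c0 LD3_c51)) :=
  Lre_e IH (LK LD1_c5 LD2_c4 LD3_c53) (LK LD1_c10 LD2_c0 LD3_c51) Lrfl Lrfl
theorem f338801 : Led Lsl_ef (LP (LK LD1_c18 LD2_c17 LD3_c58)) = (LP (LK LD1_c19 LD2_c56 LD3_c38)) :=
  Lgr Lrot17 (Lpe (f237064 IH) (Lpe (f240741 IH) (Lpr_dt (K16.f192594 IH) (Lpe (K13.f240733 IH) (Lpe (K13.f32047 IH) (Lpr_gf (K13.f231541 IH) (Lpe (K10.f31265 IH) (Lpr_dt (f31230 IH) (Lpe (f31233 IH) (Lpr_df (f338797 IH) (Lpn (LP (LK LD1_c19 LD2_c56 LD3_c38)))))))))))))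
theorem f338803 : Led Lsl_et (LP (LK LD1_c18 LD2_c17 LD3_c58)) = (LP (LK LD1_c19 LD2_c56 LD3_c38)) :=
  Lgr Lrot87 (Lpr_ef (f338801 IH) (Lpn (LP (LK LD1_c19 LD2_c56 LD3_c38))))
theorem f634702 : Led Lsl_ff (LP (LK LD1_c17 LD2_c53 LD3_c51)) = (LP (LK LD1_c19 LD2_c56 LD3_c38)) :=
  Lgr Lrot72 (Lpe (f180023 IH) (Lpe (f634662 IH) (Lpe (K25.f355078 IH) (Lpr_ft (f634700 IH) (Lpr_et (f338803 IH) (Lpn (LP (LK LD1_c19 LD2_c56 LD3_c38))))))))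
theorem f259179 : Led Lsl_ct (LP (LK LD1_c18 LD2_c18 LD3_c46)) = (LP (LK LD1_c10 LD2_c1 LD3_c15)) :=
  Lre_c IH (LK LD1_c18 LD2_c18 LD3_c46) (LK LD1_c10 LD2_c1 LD3_c15) Lrfl Lrfl
theorem f213467 : Led Lsl_ct (LP (LK LD1_c29 LD2_c9 LD3_c43)) = (LP (LK LD1_c19 LD2_c54 LD3_c5)) :=
  Lre_c IH (LK LD1_c29 LD2_c9 LD3_c43) (LK LD1_c19 LD2_c54 LD3_c5) Lrfl Lrfl
theorem f275751 : Led Lsl_cf (LP (LK LD1_c8 LD2_c39 LD3_c43)) = (LP (LK LD1_c11 LD2_c2 LD3_c40)) :=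
  Lgr Lrot39 (Lpr_et (K21.f227241 IH) (Lpr_ct (K20.f227243 IH) (Lpr_et (K20.f275745 IH) (Lpn (LP (LK LD1_c11 LD2_c2 LD3_c40))))))
theorem f235266 : Led Lsl_dt (LP (LK LD1_c9 LD2_c43 LD3_c47)) = (LP (LK LD1_c17 LD2_c53 LD3_c0)) :=
  Lre_d IH (LK LD1_c9 LD2_c43 LD3_c47) (LK LD1_c17 LD2_c53 LD3_c0) Lrfl Lrfl
theorem f235359 : Led Lsl_ct (LP (LK LD1_c27 LD2_c39 LD3_c4)) = (LP (LK LD1_c17 LD2_c53 LD3_c0)) :=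
  Lre_c IH (LK LD1_c27 LD2_c39 LD3_c4) (LK LD1_c17 LD2_c53 LD3_c0) Lrfl Lrfl
theorem f31088 : Led Lsl_dt (LP (LK LD1_c16 LD2_c11 LD3_c45)) = (LP (LK LD1_c8 LD2_c38 LD3_c47)) :=
  Lre_d IH (LK LD1_c16 LD2_c11 LD3_c45) (LK LD1_c8 LD2_c38 LD3_c47) Lrfl Lrfl
theorem f213466 : Led Lsl_ct (LP (LK LD1_c19 LD2_c54 LD3_c5)) = (LP (LK LD1_c29 LD2_c9 LD3_c43)) :=
  Lre_c IH (LK LD1_c19 LD2_c54 LD3_c5) (LK LD1_c29 LD2_c9 LD3_c43) Lrfl Lrfl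
theorem f275762 : Led Lsl_gf (LP (LK LD1_c27 LD2_c39 LD3_c4)) = (LP (LK LD1_c29 LD2_c9 LD3_c43)) :=
  Lgr Lrot104 (Lpr_ct (f235359 IH) (Lpe (f235266 IH) (Lpe (K21.f235553 IH) (Lpr_gf (K17.f235617 IH) (Lpr_cf (f275751 IH) (Lpe (K20.f213752 IH) (Lpe (f31088 IH) (Lpr_gt (K26.f213464 IH) (Lpr_ct (f213466 IH) (Lpn (LP (LK LD1_c29 LD2_c9 LD3_c43))))))))))))
theorem f235221 : Led Lsl_ft (LP (LK LD1_c8 LD2_c39 LD3_c24)) = (LP (LK LD1_c9 LD2_c43 LD3_c47)) :=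
  Lgr Lrot86 (Lpe (K10.f31264 IH) (Lpe (K9.f31409 IH) (Lpe (K10.f31286 IH) (Lpr_ff (K13.f235212 IH) (Lpe (K21.f235220 IH) (Lpn (LP (LK LD1_c9 LD2_c43 LD3_c47))))))))
theorem f235445 : Led Lsl_af (LP (LK LD1_c11 LD2_c2 LD3_c34)) = (LP (LK LD1_c9 LD2_c43 LD3_c47)) :=
  Lgr Lrot45 (Lpr_ft (K16.f235257 IH) (Lpe (K10.f31219 IH) (Lpr_ft (f235221 IH) (Lpn (LP (LK LD1_c9 LD2_c43 LD3_c47))))))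
theorem f235334 : Led Lsl_dt (LP (LK LD1_c17 LD2_c53 LD3_c0)) = (LP (LK LD1_c9 LD2_c43 LD3_c47)) :=
  Lre_d IH (LK LD1_c17 LD2_c53 LD3_c0) (LK LD1_c9 LD2_c43 LD3_c47) Lrfl Lrfl
theorem f235491 : Led Lsl_at (LP (LK LD1_c19 LD2_c53 LD3_c54)) = (LP (LK LD1_c17 LD2_c53 LD3_c0)) :=
  Lgr Lrot51 (Lpe (K19.f213751 IH) (Lpr_af (f235445 IH) (Lpe (f235334 IH) (Lpn (LP (LK LD1_c17 LD2_c53 LD3_c0))))))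
theorem f235454 : Led Lsl_ff (LP (LK LD1_c19 LD2_c53 LD3_c54)) = (LP (LK LD1_c16 LD2_c13 LD3_c22)) :=
  Lgr Lrot19 (Lpr_dt (K19.f235453 IH) (Lpr_ft (K16.f235257 IH) (Lpr_dt (f31230 IH) (Lpn (LP (LK LD1_c16 LD2_c13 LD3_c22))))))
theorem f235501 : Led Lsl_dt (LP (LK LD1_c26 LD2_c10 LD3_c19)) = (LP (LK LD1_c27 LD2_c39 LD3_c4)) :=
  Lgr Lrot120 (Lpe (K19.f31231 IH) (Lpe (f31230 IH) (Lpe (K10.f31218 IH) (Lpr_df (K17.f31221 IH) (Lpe (K17.f31224 IH) (Lpe (K19.f31225 IH) (Lpe (f235454 IH) (Lpr_at (f235491 IH) (Lpe (f235359 IH) (Lpn (LP (LK LD1_c27 LD2_c39 LD3_c4))))))))))))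
theorem f235459 : Led Lsl_df (LP (LK LD1_c29 LD2_c9 LD3_c34)) = (LP (LK LD1_c26 LD2_c9 LD3_c45)) :=
  Lgr Lrot38 (Lpr_dt (K19.f235457 IH) (Lpn (LP (LK LD1_c26 LD2_c9 LD3_c45))))
theorem f235505 : Led Lsl_ff (LP (LK LD1_c26 LD2_c9 LD3_c45)) = (LP (LK LD1_c27 LD2_c39 LD3_c4)) :=
  Lgr Lrot19 (Lpe (f235459 IH) (Lpr_ft (K19.f235461 IH) (Lpr_dt (f235501 IH) (Lpn (LP (LK LD1_c27 LD2_c39 LD3_c4))))))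
theorem f31261 : Led Lsl_at (LP (LK LD1_c26 LD2_c9 LD3_c45)) = (LP (LK LD1_c26 LD2_c10 LD3_c19)) :=
  Lgr Lrot100 (Lpr_af (K19.f31259 IH) (Lpn (LP (LK LD1_c26 LD2_c10 LD3_c19))))
theorem f235507 : Led Lsl_at (LP (LK LD1_c29 LD2_c9 LD3_c34)) = (LP (LK LD1_c27 LD2_c39 LD3_c4)) :=
  Lgr Lrot66 (Lpr_ff (K19.f235463 IH) (Lpe (f31261 IH) (Lpr_ff (f235505 IH) (Lpn (LP (LK LD1_c27 LD2_c39 LD3_c4))))))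
theorem f275765 : Led Lsl_gt (LP (LK LD1_c26 LD2_c10 LD3_c19)) = (LP (LK LD1_c29 LD2_c9 LD3_c43)) :=
  Lgr Lrot5 (Lpe (K19.f235463 IH) (Lpr_at (f235507 IH) (Lpr_gf (f275762 IH) (Lpn (LP (LK LD1_c29 LD2_c9 LD3_c43))))))
theorem f338799 : Led Lsl_dt (LP (LK LD1_c26 LD2_c10 LD3_c18)) = (LP (LK LD1_c19 LD2_c56 LD3_c38)) :=
  Lgr Lrot42 (Lpr_df (f338797 IH) (Lpn (LP (LK LD1_c19 LD2_c56 LD3_c38))))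
theorem f350112 : Led Lsl_gf (LP (LK LD1_c18 LD2_c18 LD3_c46)) = (LP (LK LD1_c19 LD2_c56 LD3_c38)) :=
  Lgr Lrot179 (Lpr_ct (f259179 IH) (Lpe (K25.f259186 IH) (Lpr_ct (K26.f31237 IH) (Lpr_dt (K26.f350107 IH) (Lpe (f213467 IH) (Lpe (f275765 IH) (Lpe (K19.f31231 IH) (Lpe (f31233 IH) (Lpr_dt (f338799 IH) (Lpn (LP (LK LD1_c19 LD2_c56 LD3_c38))))))))))))
theorem f212906 : Led Lsl_ct (LP (LK LD1_c16 LD2_c10 LD3_c20)) = (LP (LK LD1_c8 LD2_c38 LD3_c1)) :=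
  Lre_c IH (LK LD1_c16 LD2_c10 LD3_c20) (LK LD1_c8 LD2_c38 LD3_c1) Lrfl Lrfl
theorem f247175 : Led Lsl_ct (LP (LK LD1_c19 LD2_c54 LD3_c49)) = (LP (LK LD1_c11 LD2_c3 LD3_c9)) :=
  Lre_c IH (LK LD1_c19 LD2_c54 LD3_c49) (LK LD1_c11 LD2_c3 LD3_c9) Lrfl Lrfl
theorem f259184 : Led Lsl_gt (LP (LK LD1_c16 LD2_c13 LD3_c24)) = (LP (LK LD1_c10 LD2_c1 LD3_c15)) :=
  Lgr Lrot139 (Lpe (K26.f187953 IH) (Lpe (K17.f235613 IH) (Lpe (K17.f235552 IH) (Lpr_dt (K13.f234042 IH) (Lpr_gf (K13.f235577 IH) (Lpe (K16.f172010 IH) (Lpr_et (K10.f194747 IH) (Lpe (K21.f201020 IH) (Lpe (K21.f201027 IH) (Lpr_dt (K25.f259180 IH) (Lpn (LP (LK LD1_c10 LD2_c1 LD3_c15)))))))))))))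
theorem f259183 : Led Lsl_ct (LP (LK LD1_c10 LD2_c1 LD3_c15)) = (LP (LK LD1_c18 LD2_c18 LD3_c46)) :=
  Lre_c IH (LK LD1_c10 LD2_c1 LD3_c15) (LK LD1_c18 LD2_c18 LD3_c46) Lrfl Lrfl
theorem f324292 : Led Lsl_gf (LP (LK LD1_c19 LD2_c54 LD3_c49)) = (LP (LK LD1_c18 LD2_c18 LD3_c46)) :=
  Lgr Lrot104 (Lpr_ct (f247175 IH) (Lpe (K21.f247165 IH) (Lpe (f212906 IH) (Lpr_gf (K21.f324278 IH) (Lpe (K10.f31218 IH) (Lpe (K17.f31223 IH) (Lpe (K17.f31234 IH) (Lpr_gt (f259184 IH) (Lpr_ct (f259183 IH) (Lpn (LP (LK LD1_c18 LD2_c18 LD3_c46))))))))))))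
theorem f634706 : Led Lsl_at (LP (LK LD1_c17 LD2_c53 LD3_c51)) = (LP (LK LD1_c19 LD2_c54 LD3_c49)) :=
  Lgr Lrot26 (Lpr_ff (f634702 IH) (Lpe (f350112 IH) (Lpe (f324292 IH) (Lpn (LP (LK LD1_c19 LD2_c54 LD3_c49))))))
theorem f169060 : Led Lsl_ct (LP (LK LD1_c17 LD2_c53 LD3_c51)) = (LP (LK LD1_c9 LD2_c44 LD3_c32)) :=
  Lre_c IH (LK LD1_c17 LD2_c53 LD3_c51) (LK LD1_c9 LD2_c44 LD3_c32) Lrfl Lrfl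
theorem f180016 : Led Lsl_et (LP (LK LD1_c16 LD2_c9 LD3_c43)) = (LP (LK LD1_c17 LD2_c53 LD3_c51)) :=
  Lgr Lrot158 (Lpe (f180015 IH) (Lpr_ef (K22.f180013 IH) (Lpe (f169060 IH) (Lpn (LP (LK LD1_c17 LD2_c53 LD3_c51))))))
theorem f337367 : Led Lsl_et (LP (LK LD1_c19 LD2_c54 LD3_c49)) = (LP (LK LD1_c11 LD2_c3 LD3_c7)) :=
  Lre_e IH (LK LD1_c19 LD2_c54 LD3_c49) (LK LD1_c11 LD2_c3 LD3_c7) Lrfl Lrfl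
theorem f634714 : Led Lsl_af (LP (LK LD1_c16 LD2_c9 LD3_c43)) = (LP (LK LD1_c11 LD2_c3 LD3_c7)) :=
  Lgr Lrot50 (Lpr_et (f180016 IH) (Lpr_at (f634706 IH) (Lpr_et (f337367 IH) (Lpn (LP (LK LD1_c11 LD2_c3 LD3_c7))))))
theorem f634722 : Led Lsl_ft (LP (LK LD1_c16 LD2_c50 LD3_c14)) = (LP (LK LD1_c11 LD2_c3 LD3_c7)) :=
  Lgr Lrot101 (Lpe (f634666 IH) (Lpr_ff (f634662 IH) (Lpr_af (f634714 IH) (Lpn (LP (LK LD1_c11 LD2_c3 LD3_c7))))))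
theorem f634732 : Led Lsl_ff (LP (LK LD1_c16 LD2_c50 LD3_c14)) = (LP (LK LD1_c11 LD2_c3 LD3_c7)) :=
  Lgr Lrot3 (Lpr_ft (f634722 IH) (Lpn (LP (LK LD1_c11 LD2_c3 LD3_c7))))
theorem f634740 : Led Lsl_ft (LP (LK LD1_c19 LD2_c54 LD3_c9)) = (LP (LK LD1_c19 LD2_c54 LD3_c49)) :=
  Lgr Lrot86 (Lpr_ef (K25.f341963 IH) (Lpr_ff (f634684 IH) (Lpr_ef (f314614 IH) (Lpr_ff (f634732 IH) (Lpe (f337367 IH) (Lpn (LP (LK LD1_c19 LD2_c54 LD3_c49))))))))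
theorem f341970 : Led Lsl_df (LP (LK LD1_c19 LD2_c54 LD3_c9)) = (LP (LK LD1_c26 LD2_c9 LD3_c44)) :=
  Lgr Lrot38 (Lpr_dt (K25.f341968 IH) (Lpn (LP (LK LD1_c26 LD2_c9 LD3_c44))))
theorem f182597 : Led Lsl_et (LP (LK LD1_c8 LD2_c14 LD3_c21)) = (LP (LK LD1_c4 LD2_c6 LD3_c54)) :=
  Lre_e IH (LK LD1_c8 LD2_c14 LD3_c21) (LK LD1_c4 LD2_c6 LD3_c54) Lrfl Lrfl
theorem f182601 : Led Lsl_gt (LP (LK LD1_c16 LD2_c13 LD3_c22)) = (LP (LK LD1_c26 LD2_c10 LD3_c17)) :=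
  Lre_g IH (LK LD1_c16 LD2_c13 LD3_c22) (LK LD1_c26 LD2_c10 LD3_c17) Lrfl Lrfl
theorem f337368 : Led Lsl_dt (LP (LK LD1_c19 LD2_c54 LD3_c49)) = (LP (LK LD1_c26 LD2_c10 LD3_c17)) :=
  Lgr Lrot37 (Lpr_et (f337367 IH) (Lpr_gt (K22.f337362 IH) (Lpe (K22.f337364 IH) (Lpr_gt (K22.f182599 IH) (Lpe (K25.f182598 IH) (Lpr_et (f182597 IH) (Lpe (K9.f182589 IH) (Lpe (K10.f31265 IH) (Lpr_dt (f31230 IH) (Lpr_gt (f182601 IH) (Lpn (LP (LK LD1_c26 LD2_c10 LD3_c17)))))))))))))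
theorem f634744 : Led Lsl_ff (LP (LK LD1_c26 LD2_c9 LD3_c44)) = (LP (LK LD1_c26 LD2_c10 LD3_c17)) :=
  Lgr Lrot19 (Lpe (f341970 IH) (Lpr_ft (f634740 IH) (Lpr_dt (f337368 IH) (Lpn (LP (LK LD1_c26 LD2_c10 LD3_c17))))))
theorem f235499 : Led Lsl_gt (LP (LK LD1_c26 LD2_c10 LD3_c17)) = (LP (LK LD1_c17 LD2_c53 LD3_c0)) :=
  Lgr Lrot46 (Lpe (f182601 IH) (Lpe (f235454 IH) (Lpr_at (f235491 IH) (Lpn (LP (LK LD1_c17 LD2_c53 LD3_c0))))))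
theorem f235497 : Led Lsl_ff (LP (LK LD1_c16 LD2_c12 LD3_c49)) = (LP (LK LD1_c17 LD2_c53 LD3_c0)) :=
  Lgr Lrot30 (Lpr_at (K19.f31253 IH) (Lpe (f235454 IH) (Lpr_at (f235491 IH) (Lpn (LP (LK LD1_c17 LD2_c53 LD3_c0))))))
theorem f235515 : Led Lsl_gf (LP (LK LD1_c26 LD2_c10 LD3_c18)) = (LP (LK LD1_c17 LD2_c53 LD3_c0)) :=
  Lgr Lrot47 (Lpr_gt (f31233 IH) (Lpe (K19.f31253 IH) (Lpr_ff (f235497 IH) (Lpn (LP (LK LD1_c17 LD2_c53 LD3_c0))))))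
theorem f634748 : Led Lsl_at (LP (LK LD1_c26 LD2_c9 LD3_c44)) = (LP (LK LD1_c26 LD2_c10 LD3_c18)) :=
  Lgr Lrot26 (Lpr_ff (f634744 IH) (Lpr_gt (f235499 IH) (Lpe (f235515 IH) (Lpn (LP (LK LD1_c26 LD2_c10 LD3_c18))))))
theorem f634750 : Led Lsl_af (LP (LK LD1_c26 LD2_c9 LD3_c44)) = (LP (LK LD1_c26 LD2_c10 LD3_c18)) :=
  Lgr Lrot0 (Lpr_at (f634748 IH) (Lpn (LP (LK LD1_c26 LD2_c10 LD3_c18))))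
theorem f634752 : Led Lsl_at (LP (LK LD1_c19 LD2_c54 LD3_c9)) = (LP (LK LD1_c19 LD2_c56 LD3_c38)) :=
  Lgr Lrot51 (Lpr_df (f341970 IH) (Lpr_af (f634750 IH) (Lpr_df (f338797 IH) (Lpn (LP (LK LD1_c19 LD2_c56 LD3_c38))))))
theorem f338807 : Led Lsl_cf (LP (LK LD1_c11 LD2_c4 LD3_c19)) = (LP (LK LD1_c19 LD2_c56 LD3_c38)) :=
  Lgr Lrot14 (Lpr_df (K23.f332917 IH) (Lpr_gf (K20.f320549 IH) (Lpe (K14.f212699 IH) (Lpe (K14.f212904 IH) (Lpr_ct (K21.f28499 IH) (Lpr_gt (K21.f324276 IH) (Lpr_dt (f235266 IH) (Lpe (f235515 IH) (Lpr_dt (f338799 IH) (Lpn (LP (LK LD1_c19 LD2_c56 LD3_c38))))))))))))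
theorem f634754 : Led Lsl_af (LP (LK LD1_c11 LD2_c2 LD3_c43)) = (LP (LK LD1_c11 LD2_c4 LD3_c19)) :=
  Lgr Lrot68 (Lpr_ct (K24.f212910 IH) (Lpr_at (f634752 IH) (Lpe (f338807 IH) (Lpn (LP (LK LD1_c11 LD2_c4 LD3_c19))))))
theorem f335752 : Led Lsl_bt (LP (LK LD1_c5 LD2_c3 LD3_c41)) = (LP (LK LD1_c9 LD2_c53 LD3_c41)) :=
  Lgr Lrot119 (Lpe (K19.f250238 IH) (Lpr_bf (K25.f335743 IH) (Lpe (K19.f311550 IH) (Lpn (LP (LK LD1_c9 LD2_c53 LD3_c41))))))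
theorem f335757 : Led Lsl_bf (LP (LK LD1_c5 LD2_c10 LD3_c24)) = (LP (LK LD1_c10 LD2_c8 LD3_c9)) :=
  Lgr Lrot93 (Lpr_dt (K49.f250236 IH) (Lpr_bt (f335752 IH) (Lpr_dt (K19.f311556 IH) (Lpn (LP (LK LD1_c10 LD2_c8 LD3_c9))))))
theorem f335759 : Led Lsl_bt (LP (LK LD1_c5 LD2_c10 LD3_c24)) = (LP (LK LD1_c10 LD2_c8 LD3_c9)) :=
  Lgr Lrot127 (Lpr_bf (f335757 IH) (Lpn (LP (LK LD1_c10 LD2_c8 LD3_c9))))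
theorem f335781 : Led Lsl_bf (LP (LK LD1_c5 LD2_c36 LD3_c59)) = (LP (LK LD1_c11 LD2_c4 LD3_c19)) :=
  Lgr Lrot96 (Lpr_et (f335775 IH) (Lpr_bt (f335759 IH) (Lpe (K23.f332923 IH) (Lpn (LP (LK LD1_c11 LD2_c4 LD3_c19))))))
theorem f634635 : Led Lsl_ff (LP (LK LD1_c11 LD2_c4 LD3_c19)) = (LP (LK LD1_c9 LD2_c44 LD3_c32)) :=
  Lgr Lrot25 (Lpe (f335781 IH) (Lpr_ft (f634633 IH) (Lpr_bt (K22.f180012 IH) (Lpn (LP (LK LD1_c9 LD2_c44 LD3_c32))))))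
theorem f634710 : Led Lsl_af (LP (LK LD1_c9 LD2_c44 LD3_c32)) = (LP (LK LD1_c11 LD2_c3 LD3_c9)) :=
  Lgr Lrot68 (Lpr_ct (f169061 IH) (Lpr_at (f634706 IH) (Lpr_ct (f247175 IH) (Lpn (LP (LK LD1_c11 LD2_c3 LD3_c9))))))
theorem f634764 : Led Lsl_ft (LP (LK LD1_c11 LD2_c2 LD3_c43)) = (LP (LK LD1_c11 LD2_c3 LD3_c9)) :=
  Lgr Lrot101 (Lpr_af (f634754 IH) (Lpr_ff (f634635 IH) (Lpr_af (f634710 IH) (Lpn (LP (LK LD1_c11 LD2_c3 LD3_c9))))))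
theorem f634768 : Led Lsl_ff (LP (LK LD1_c5 LD2_c35 LD3_c17)) = (LP (LK LD1_c8 LD2_c38 LD3_c1)) :=
  Lgr Lrot19 (Lpr_dt (K23.f212890 IH) (Lpr_ft (f634764 IH) (Lpe (K14.f247173 IH) (Lpn (LP (LK LD1_c8 LD2_c38 LD3_c1))))))
theorem f634774 : Led Lsl_ft (LP (LK LD1_c5 LD2_c35 LD3_c17)) = (LP (LK LD1_c8 LD2_c38 LD3_c1)) :=
  Lgr Lrot48 (Lpr_ff (f634768 IH) (Lpn (LP (LK LD1_c8 LD2_c38 LD3_c1))))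
theorem f634780 : Led Lsl_af (LP (LK LD1_c4 LD2_c56 LD3_c31)) = (LP (LK LD1_c8 LD2_c38 LD3_c1)) :=
  Lgr Lrot31 (Lpr_gf (K22.f337964 IH) (Lpr_gf (K14.f212884 IH) (Lpr_ft (f634774 IH) (Lpn (LP (LK LD1_c8 LD2_c38 LD3_c1))))))
theorem f634527 : Led Lsl_ft (LP (LK LD1_c4 LD2_c56 LD3_c31)) = (LP (LK LD1_c7 LD2_c59 LD3_c5)) :=
  Lgr Lrot75 (Lpe (K22.f180005 IH) (Lpr_ff (f634525 IH) (Lpe (K25.f320531 IH) (Lpn (LP (LK LD1_c7 LD2_c59 LD3_c5))))))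
theorem f634792 : Led Lsl_at (LP (LK LD1_c7 LD2_c59 LD3_c5)) = (LP (LK LD1_c5 LD2_c35 LD3_c17)) :=
  Lgr Lrot66 (Lpe (f634527 IH) (Lpr_af (f634780 IH) (Lpe (f634774 IH) (Lpn (LP (LK LD1_c5 LD2_c35 LD3_c17))))))
theorem f634796 : Led Lsl_af (LP (LK LD1_c9 LD2_c53 LD3_c40)) = (LP (LK LD1_c11 LD2_c2 LD3_c44)) :=
  Lgr Lrot50 (Lpe (K20.f320555 IH) (Lpr_at (f634792 IH) (Lpr_et (K16.f225651 IH) (Lpn (LP (LK LD1_c11 LD2_c2 LD3_c44))))))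
theorem f634806 : Led Lsl_ft (LP (LK LD1_c9 LD2_c53 LD3_c38)) = (LP (LK LD1_c11 LD2_c2 LD3_c44)) :=
  Lgr Lrot2 (Lpe (K23.f346557 IH) (Lpe (K25.f347095 IH) (Lpr_af (f634796 IH) (Lpn (LP (LK LD1_c11 LD2_c2 LD3_c44))))))
theorem f634818 : Led Lsl_ff (LP (LK LD1_c9 LD2_c53 LD3_c38)) = (LP (LK LD1_c11 LD2_c2 LD3_c44)) :=
  Lgr Lrot3 (Lpr_ft (f634806 IH) (Lpn (LP (LK LD1_c11 LD2_c2 LD3_c44))))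
theorem f634828 : Led Lsl_ft (LP (LK LD1_c9 LD2_c37 LD3_c47)) = (LP (LK LD1_c15 LD2_c6 LD3_c43)) :=
  Lgr Lrot86 (Lpe (K23.f346567 IH) (Lpr_ff (f634818 IH) (Lpe (K16.f225651 IH) (Lpr_ff (f634768 IH) (Lpr_ef (K14.f247161 IH) (Lpn (LP (LK LD1_c15 LD2_c6 LD3_c43))))))))
theorem f634836 : Led Lsl_af (LP (LK LD1_c9 LD2_c37 LD3_c49)) = (LP (LK LD1_c15 LD2_c6 LD3_c43)) :=
  Lgr Lrot31 (Lpr_gf (K26.f360568 IH) (Lpr_gf (K23.f346573 IH) (Lpr_ft (f634828 IH) (Lpn (LP (LK LD1_c15 LD2_c6 LD3_c43))))))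
theorem f634842 : Led Lsl_at (LP (LK LD1_c4 LD2_c52 LD3_c56)) = (LP (LK LD1_c8 LD2_c1 LD3_c29)) :=
  Lgr Lrot51 (Lpe (K26.f239875 IH) (Lpr_af (f634836 IH) (Lpe (K21.f247101 IH) (Lpn (LP (LK LD1_c8 LD2_c1 LD3_c29))))))
theorem f634852 : Led Lsl_ff (LP (LK LD1_c4 LD2_c52 LD3_c56)) = (LP (LK LD1_c4 LD2_c52 LD3_c15)) :=
  Lgr Lrot52 (Lpr_at (f634842 IH) (Lpe (K21.f247169 IH) (Lpe (K21.f321078 IH) (Lpn (LP (LK LD1_c4 LD2_c52 LD3_c15))))))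
theorem f634858 : Led Lsl_ft (LP (LK LD1_c9 LD2_c37 LD3_c49)) = (LP (LK LD1_c9 LD2_c36 LD3_c54)) :=
  Lgr Lrot54 (Lpe (K26.f247151 IH) (Lpr_ff (f634852 IH) (Lpe (K22.f321083 IH) (Lpn (LP (LK LD1_c9 LD2_c36 LD3_c54))))))
theorem f336055 : Led Lsl_bt (LP (LK LD1_c5 LD2_c10 LD3_c49)) = (LP (LK LD1_c10 LD2_c12 LD3_c13)) :=
  Lre_b IH (LK LD1_c5 LD2_c10 LD3_c49) (LK LD1_c10 LD2_c12 LD3_c13) Lrfl Lrfl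
theorem f634509 : Led Lsl_ft (LP (LK LD1_c10 LD2_c12 LD3_c13)) = (LP (LK LD1_c9 LD2_c53 LD3_c40)) :=
  Lgr Lrot75 (Lpe (f336055 IH) (Lpr_ff (f634507 IH) (Lpr_bf (K25.f335761 IH) (Lpn (LP (LK LD1_c9 LD2_c53 LD3_c40))))))
theorem f634864 : Led Lsl_ff (LP (LK LD1_c4 LD2_c56 LD3_c31)) = (LP (LK LD1_c7 LD2_c59 LD3_c5)) :=
  Lgr Lrot72 (Lpe (K26.f360577 IH) (Lpr_ft (f634858 IH) (Lpr_et (K22.f337982 IH) (Lpr_ft (f634509 IH) (Lpe (K20.f320555 IH) (Lpn (LP (LK LD1_c7 LD2_c59 LD3_c5))))))))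
theorem f54883 : Led Lsl_ct (LP (LK LD1_c4 LD2_c56 LD3_c31)) = (LP (LK LD1_c9 LD2_c44 LD3_c31)) :=
  Lre_c IH (LK LD1_c4 LD2_c56 LD3_c31) (LK LD1_c9 LD2_c44 LD3_c31) Lrfl Lrfl
theorem f320539 : Led Lsl_ct (LP (LK LD1_c15 LD2_c3 LD3_c46)) = (LP (LK LD1_c7 LD2_c59 LD3_c5)) :=
  Lre_c IH (LK LD1_c15 LD2_c3 LD3_c46) (LK LD1_c7 LD2_c59 LD3_c5) Lrfl Lrfl
theorem f634866 : Led Lsl_ft (LP (LK LD1_c9 LD2_c44 LD3_c31)) = (LP (LK LD1_c15 LD2_c3 LD3_c46)) :=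
  Lgr Lrot4 (Lpe (f54883 IH) (Lpr_ff (f634864 IH) (Lpe (f320539 IH) (Lpn (LP (LK LD1_c15 LD2_c3 LD3_c46))))))
theorem f275616 : Led Lsl_bt (LP (LK LD1_c5 LD2_c35 LD3_c13)) = (LP (LK LD1_c8 LD2_c20 LD3_c22)) :=
  Lgr Lrot35 (Lpr_ff (K17.f235451 IH) (Lpe (K20.f31227 IH) (Lpr_ff (K20.f275614 IH) (Lpn (LP (LK LD1_c8 LD2_c20 LD3_c22))))))
theorem f54882 : Led Lsl_bt (LP (LK LD1_c4 LD2_c56 LD3_c31)) = (LP (LK LD1_c2 LD2_c26 LD3_c1)) :=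
  Lre_b IH (LK LD1_c4 LD2_c56 LD3_c31) (LK LD1_c2 LD2_c26 LD3_c1) Lrfl Lrfl
theorem f329893 : Led Lsl_gf (LP (LK LD1_c11 LD2_c2 LD3_c34)) = (LP (LK LD1_c9 LD2_c44 LD3_c31)) :=
  Lgr Lrot126 (Lpe (K17.f235450 IH) (Lpr_bt (f275616 IH) (Lpr_gt (K22.f329884 IH) (Lpr_ct (K22.f320441 IH) (Lpr_gt (K22.f47897 IH) (Lpe (K21.f47880 IH) (Lpr_bt (K9.f47875 IH) (Lpe (K13.f54869 IH) (Lpe (f54882 IH) (Lpr_ct (f54883 IH) (Lpn (LP (LK LD1_c9 LD2_c44 LD3_c31)))))))))))))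
theorem f634874 : Led Lsl_af (LP (LK LD1_c11 LD2_c2 LD3_c42)) = (LP (LK LD1_c15 LD2_c3 LD3_c46)) :=
  Lgr Lrot31 (Lpe (K23.f329864 IH) (Lpr_gf (f329893 IH) (Lpr_ft (f634866 IH) (Lpn (LP (LK LD1_c15 LD2_c3 LD3_c46))))))
theorem f330088 : Led Lsl_et (LP (LK LD1_c11 LD2_c2 LD3_c42)) = (LP (LK LD1_c19 LD2_c54 LD3_c8)) :=
  Lre_e IH (LK LD1_c11 LD2_c2 LD3_c42) (LK LD1_c19 LD2_c54 LD3_c8) Lrfl Lrfl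
theorem f335119 : Led Lsl_ct (LP (LK LD1_c9 LD2_c53 LD3_c38)) = (LP (LK LD1_c18 LD2_c6 LD3_c19)) :=
  Lre_c IH (LK LD1_c9 LD2_c53 LD3_c38) (LK LD1_c18 LD2_c6 LD3_c19) Lrfl Lrfl
theorem f346565 : Led Lsl_et (LP (LK LD1_c18 LD2_c6 LD3_c19)) = (LP (LK LD1_c17 LD2_c43 LD3_c24)) :=
  Lgr Lrot158 (Lpe (f335119 IH) (Lpr_ef (K23.f346561 IH) (Lpe (K25.f323242 IH) (Lpn (LP (LK LD1_c17 LD2_c43 LD3_c24))))))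
theorem f212573 : Led Lsl_dt (LP (LK LD1_c9 LD2_c0 LD3_c55)) = (LP (LK LD1_c4 LD2_c31 LD3_c27)) :=
  Lre_d IH (LK LD1_c9 LD2_c0 LD3_c55) (LK LD1_c4 LD2_c31 LD3_c27) Lrfl Lrfl
theorem f212574 : Led Lsl_gt (LP (LK LD1_c16 LD2_c50 LD3_c46)) = (LP (LK LD1_c9 LD2_c0 LD3_c55)) :=
  Lre_g IH (LK LD1_c16 LD2_c50 LD3_c46) (LK LD1_c9 LD2_c0 LD3_c55) Lrfl Lrfl
theorem f378950 : Led Lsl_df (LP (LK LD1_c16 LD2_c50 LD3_c46)) = (LP (LK LD1_c25 LD2_c11 LD3_c43)) :=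
  Lgr Lrot153 (Lpr_gt (f212574 IH) (Lpr_dt (f212573 IH) (Lpe (K18.f212558 IH) (Lpe (K14.f212551 IH) (Lpe (K23.f212568 IH) (Lpe (K23.f212571 IH) (Lpr_gf (K23.f346573 IH) (Lpe (K25.f323242 IH) (Lpr_gt (K26.f359281 IH) (Lpn (LP (LK LD1_c25 LD2_c11 LD3_c43))))))))))))
theorem f316833 : Led Lsl_dt (LP (LK LD1_c9 LD2_c0 LD3_c43)) = (LP (LK LD1_c16 LD2_c50 LD3_c22)) :=
  Lre_d IH (LK LD1_c9 LD2_c0 LD3_c43) (LK LD1_c16 LD2_c50 LD3_c22) Lrfl Lrfl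
theorem f316847 : Led Lsl_gt (LP (LK LD1_c16 LD2_c50 LD3_c22)) = (LP (LK LD1_c26 LD2_c47 LD3_c48)) :=
  Lre_g IH (LK LD1_c16 LD2_c50 LD3_c22) (LK LD1_c26 LD2_c47 LD3_c48) Lrfl Lrfl
theorem f378952 : Led Lsl_dt (LP (LK LD1_c18 LD2_c6 LD3_c19)) = (LP (LK LD1_c26 LD2_c47 LD3_c48)) :=
  Lgr Lrot37 (Lpr_et (f346565 IH) (Lpr_gt (K26.f359281 IH) (Lpe (f378950 IH) (Lpr_gt (f212574 IH) (Lpe (K14.f212559 IH) (Lpr_et (K14.f235949 IH) (Lpr_gt (K19.f235348 IH) (Lpe (K23.f316832 IH) (Lpr_dt (f316833 IH) (Lpr_gt (f316847 IH) (Lpn (LP (LK LD1_c26 LD2_c47 LD3_c48)))))))))))))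
theorem f47610 : Led Lsl_dt (LP (LK LD1_c10 LD2_c21 LD3_c8)) = (LP (LK LD1_c15 LD2_c33 LD3_c18)) :=
  Lgr Lrot79 (Lpe (K25.f47608 IH) (Lpr_df (K12.f47591 IH) (Lpe (K26.f47609 IH) (Lpn (LP (LK LD1_c15 LD2_c33 LD3_c18))))))
theorem f362975 : Led Lsl_gt (LP (LK LD1_c19 LD2_c6 LD3_c28)) = (LP (LK LD1_c16 LD2_c39 LD3_c19)) :=
  Lgr Lrot139 (Lpe (K23.f318109 IH) (Lpe (K23.f340205 IH) (Lpr_ef (K26.f311439 IH) (Lpr_dt (f47610 IH) (Lpe (K26.f355924 IH) (Lpr_df (K25.f355869 IH) (Lpr_et (K25.f355871 IH) (Lpr_gf (K26.f362967 IH) (Lpe (K25.f356244 IH) (Lpe (K22.f275646 IH) (Lpn (LP (LK LD1_c16 LD2_c39 LD3_c19)))))))))))))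
theorem f340212 : Led Lsl_bt (LP (LK LD1_c15 LD2_c9 LD3_c38)) = (LP (LK LD1_c19 LD2_c6 LD3_c28)) :=
  Lgr Lrot119 (Lpe (K19.f199332 IH) (Lpe (K22.f28043 IH) (Lpr_ef (K23.f340210 IH) (Lpn (LP (LK LD1_c19 LD2_c6 LD3_c28))))))
theorem f362979 : Led Lsl_gf (LP (LK LD1_c18 LD2_c6 LD3_c19)) = (LP (LK LD1_c25 LD2_c49 LD3_c37)) :=
  Lgr Lrot126 (Lpe (f335119 IH) (Lpe (K26.f343054 IH) (Lpr_gt (K23.f346512 IH) (Lpr_ct (K23.f346499 IH) (Lpr_gt (K23.f201011 IH) (Lpr_cf (K19.f299057 IH) (Lpr_bt (f340212 IH) (Lpr_gt (f362975 IH) (Lpe (K25.f355970 IH) (Lpr_ct (K25.f293411 IH) (Lpn (LP (LK LD1_c25 LD2_c49 LD3_c37)))))))))))))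
theorem f340776 : Led Lsl_gt (LP (LK LD1_c10 LD2_c29 LD3_c15)) = (LP (LK LD1_c10 LD2_c15 LD3_c60)) :=
  Lgr Lrot112 (Lpe (K20.f242322 IH) (Lpr_et (K20.f320911 IH) (Lpr_gf (K23.f340772 IH) (Lpe (K19.f255588 IH) (Lpe (K19.f279518 IH) (Lpe (K23.f296367 IH) (Lpr_df (K21.f325883 IH) (Lpr_gf (K23.f328662 IH) (Lpe (K21.f320784 IH) (Lpr_dt (K20.f171688 IH) (Lpn (LP (LK LD1_c10 LD2_c15 LD3_c60)))))))))))))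
theorem f316691 : Led Lsl_dt (LP (LK LD1_c18 LD2_c40 LD3_c27)) = (LP (LK LD1_c10 LD2_c15 LD3_c59)) :=
  Lre_d IH (LK LD1_c18 LD2_c40 LD3_c27) (LK LD1_c10 LD2_c15 LD3_c59) Lrfl Lrfl
theorem f378956 : Led Lsl_gf (LP (LK LD1_c18 LD2_c40 LD3_c27)) = (LP (LK LD1_c26 LD2_c47 LD3_c48)) :=
  Lgr Lrot143 (Lpr_dt (f316691 IH) (Lpe (K20.f293330 IH) (Lpe (K20.f196121 IH) (Lpe (f340776 IH) (Lpe (K20.f242322 IH) (Lpr_gf (K23.f340760 IH) (Lpr_cf (K21.f293408 IH) (Lpe (f362979 IH) (Lpr_dt (f378952 IH) (Lpn (LP (LK LD1_c26 LD2_c47 LD3_c48))))))))))))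
theorem f322821 : Led Lsl_ft (LP (LK LD1_c16 LD2_c50 LD3_c22)) = (LP (LK LD1_c21 LD2_c2 LD3_c25)) :=
  Lgr Lrot54 (Lpe (f316833 IH) (Lpr_ff (K20.f322809 IH) (Lpe (K23.f322811 IH) (Lpn (LP (LK LD1_c21 LD2_c2 LD3_c25))))))
theorem f378958 : Led Lsl_af (LP (LK LD1_c18 LD2_c40 LD3_c27)) = (LP (LK LD1_c21 LD2_c2 LD3_c25)) :=
  Lgr Lrot31 (Lpr_gf (f378956 IH) (Lpe (f316847 IH) (Lpr_ft (f322821 IH) (Lpn (LP (LK LD1_c21 LD2_c2 LD3_c25))))))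
theorem f316846 : Led Lsl_dt (LP (LK LD1_c16 LD2_c50 LD3_c22)) = (LP (LK LD1_c9 LD2_c0 LD3_c43)) :=
  Lre_d IH (LK LD1_c16 LD2_c50 LD3_c22) (LK LD1_c9 LD2_c0 LD3_c43) Lrfl Lrfl
theorem f322833 : Led Lsl_ff (LP (LK LD1_c16 LD2_c50 LD3_c22)) = (LP (LK LD1_c21 LD2_c2 LD3_c25)) :=
  Lgr Lrot19 (Lpr_dt (f316846 IH) (Lpr_ft (K20.f322823 IH) (Lpr_dt (K25.f191295 IH) (Lpn (LP (LK LD1_c21 LD2_c2 LD3_c25))))))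
theorem f330092 : Led Lsl_af (LP (LK LD1_c11 LD2_c3 LD3_c40)) = (LP (LK LD1_c16 LD2_c50 LD3_c22)) :=
  Lgr Lrot31 (Lpe (K25.f277986 IH) (Lpr_gf (K25.f330090 IH) (Lpe (f322833 IH) (Lpn (LP (LK LD1_c16 LD2_c50 LD3_c22))))))
theorem f330105 : Led Lsl_at (LP (LK LD1_c11 LD2_c3 LD3_c40)) = (LP (LK LD1_c16 LD2_c50 LD3_c22)) :=
  Lgr Lrot100 (Lpr_af (f330092 IH) (Lpn (LP (LK LD1_c16 LD2_c50 LD3_c22))))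
theorem f378966 : Led Lsl_ft (LP (LK LD1_c18 LD2_c40 LD3_c27)) = (LP (LK LD1_c11 LD2_c3 LD3_c40)) :=
  Lgr Lrot101 (Lpr_af (f378958 IH) (Lpe (f322821 IH) (Lpe (f330105 IH) (Lpn (LP (LK LD1_c11 LD2_c3 LD3_c40))))))
theorem f316834 : Led Lsl_gt (LP (LK LD1_c26 LD2_c47 LD3_c49)) = (LP (LK LD1_c16 LD2_c50 LD3_c22)) :=
  Lre_g IH (LK LD1_c26 LD2_c47 LD3_c49) (LK LD1_c16 LD2_c50 LD3_c22) Lrfl Lrfl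
theorem f378972 : Led Lsl_gt (LP (LK LD1_c18 LD2_c40 LD3_c27)) = (LP (LK LD1_c26 LD2_c47 LD3_c49)) :=
  Lgr Lrot5 (Lpr_ft (f378966 IH) (Lpr_at (f330105 IH) (Lpe (f316834 IH) (Lpn (LP (LK LD1_c26 LD2_c47 LD3_c49))))))
theorem f316690 : Led Lsl_dt (LP (LK LD1_c10 LD2_c15 LD3_c59)) = (LP (LK LD1_c18 LD2_c40 LD3_c27)) :=
  Lre_d IH (LK LD1_c10 LD2_c15 LD3_c59) (LK LD1_c18 LD2_c40 LD3_c27) Lrfl Lrfl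
theorem f378974 : Led Lsl_df (LP (LK LD1_c18 LD2_c6 LD3_c21)) = (LP (LK LD1_c26 LD2_c47 LD3_c49)) :=
  Lgr Lrot84 (Lpe (K25.f320566 IH) (Lpe (K23.f311563 IH) (Lpe (K20.f320562 IH) (Lpe (K20.f246965 IH) (Lpr_gf (K20.f317267 IH) (Lpe (K20.f33173 IH) (Lpr_gt (K20.f322835 IH) (Lpr_dt (f316690 IH) (Lpr_gt (f378972 IH) (Lpn (LP (LK LD1_c26 LD2_c47 LD3_c49))))))))))))
theorem f378978 : Led Lsl_dt (LP (LK LD1_c18 LD2_c6 LD3_c21)) = (LP (LK LD1_c26 LD2_c47 LD3_c49)) :=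
  Lgr Lrot42 (Lpr_df (f378974 IH) (Lpn (LP (LK LD1_c26 LD2_c47 LD3_c49))))
theorem f320532 : Led Lsl_ct (LP (LK LD1_c7 LD2_c59 LD3_c5)) = (LP (LK LD1_c15 LD2_c3 LD3_c46)) :=
  Lre_c IH (LK LD1_c7 LD2_c59 LD3_c5) (LK LD1_c15 LD2_c3 LD3_c46) Lrfl Lrfl
theorem f320533 : Led Lsl_gt (LP (LK LD1_c15 LD2_c3 LD3_c46)) = (LP (LK LD1_c8 LD2_c39 LD3_c42)) :=
  Lgr Lrot65 (Lpe (f320532 IH) (Lpr_bt (K25.f320531 IH) (Lpe (K20.f41329 IH) (Lpe (K1.f41104 IH) (Lpr_ct (K20.f41335 IH) (Lpe (K20.f41348 IH) (Lpr_cf (K20.f320520 IH) (Lpe (K20.f316052 IH) (Lpe (K11.f31217 IH) (Lpr_ct (K10.f31218 IH) (Lpn (LP (LK LD1_c8 LD2_c39 LD3_c42)))))))))))))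
theorem f378982 : Led Lsl_et (LP (LK LD1_c18 LD2_c6 LD3_c21)) = (LP (LK LD1_c15 LD2_c3 LD3_c46)) :=
  Lgr Lrot121 (Lpr_dt (f378978 IH) (Lpe (f378972 IH) (Lpe (f316690 IH) (Lpe (K21.f324452 IH) (Lpe (K22.f337362 IH) (Lpe (f337367 IH) (Lpr_dt (f337368 IH) (Lpe (f182601 IH) (Lpe (f31230 IH) (Lpe (f320533 IH) (Lpn (LP (LK LD1_c15 LD2_c3 LD3_c46)))))))))))))
theorem f634876 : Led Lsl_at (LP (LK LD1_c19 LD2_c54 LD3_c8)) = (LP (LK LD1_c18 LD2_c6 LD3_c21)) :=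
  Lgr Lrot80 (Lpe (f330088 IH) (Lpr_af (f634874 IH) (Lpe (f378982 IH) (Lpn (LP (LK LD1_c18 LD2_c6 LD3_c21))))))
theorem f246932 : Led Lsl_ct (LP (LK LD1_c19 LD2_c54 LD3_c8)) = (LP (LK LD1_c11 LD2_c2 LD3_c44)) :=
  Lre_c IH (LK LD1_c19 LD2_c54 LD3_c8) (LK LD1_c11 LD2_c2 LD3_c44) Lrfl Lrfl
theorem f634824 : Led Lsl_ft (LP (LK LD1_c18 LD2_c6 LD3_c19)) = (LP (LK LD1_c19 LD2_c54 LD3_c8)) :=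
  Lgr Lrot4 (Lpe (f335119 IH) (Lpr_ff (f634818 IH) (Lpe (f246932 IH) (Lpn (LP (LK LD1_c19 LD2_c54 LD3_c8))))))
theorem f320437 : Led Lsl_ct (LP (LK LD1_c9 LD2_c44 LD3_c31)) = (LP (LK LD1_c4 LD2_c56 LD3_c31)) :=
  Lre_c IH (LK LD1_c9 LD2_c44 LD3_c31) (LK LD1_c4 LD2_c56 LD3_c31) Lrfl Lrfl
theorem f360581 : Led Lsl_et (LP (LK LD1_c17 LD2_c43 LD3_c27)) = (LP (LK LD1_c9 LD2_c44 LD3_c31)) :=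
  Lgr Lrot158 (Lpe (K26.f247152 IH) (Lpr_ef (K26.f360577 IH) (Lpe (f320437 IH) (Lpn (LP (LK LD1_c9 LD2_c44 LD3_c31))))))
theorem f634862 : Led Lsl_ff (LP (LK LD1_c17 LD2_c43 LD3_c27)) = (LP (LK LD1_c17 LD2_c42 LD3_c18)) :=
  Lgr Lrot23 (Lpr_ct (K26.f247153 IH) (Lpr_ft (f634858 IH) (Lpr_ct (K25.f321081 IH) (Lpn (LP (LK LD1_c17 LD2_c42 LD3_c18))))))
theorem f320557 : Led Lsl_ct (LP (LK LD1_c18 LD2_c6 LD3_c21)) = (LP (LK LD1_c9 LD2_c53 LD3_c40)) :=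
  Lre_c IH (LK LD1_c18 LD2_c6 LD3_c21) (LK LD1_c9 LD2_c53 LD3_c40) Lrfl Lrfl
theorem f320558 : Led Lsl_et (LP (LK LD1_c15 LD2_c3 LD3_c46)) = (LP (LK LD1_c18 LD2_c6 LD3_c21)) :=
  Lgr Lrot158 (Lpe (f320532 IH) (Lpr_ef (K20.f320555 IH) (Lpe (f320557 IH) (Lpn (LP (LK LD1_c18 LD2_c6 LD3_c21))))))
theorem f634870 : Led Lsl_ff (LP (LK LD1_c18 LD2_c35 LD3_c8)) = (LP (LK LD1_c18 LD2_c6 LD3_c21)) :=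
  Lgr Lrot72 (Lpe (K25.f337987 IH) (Lpe (f634862 IH) (Lpr_et (f360581 IH) (Lpr_ft (f634866 IH) (Lpr_et (f320558 IH) (Lpn (LP (LK LD1_c18 LD2_c6 LD3_c21))))))))
theorem f634882 : Led Lsl_af (LP (LK LD1_c18 LD2_c6 LD3_c19)) = (LP (LK LD1_c18 LD2_c35 LD3_c8)) :=
  Lgr Lrot45 (Lpr_ft (f634824 IH) (Lpr_at (f634876 IH) (Lpe (f634870 IH) (Lpn (LP (LK LD1_c18 LD2_c35 LD3_c8))))))
theorem f395858 : Led Lsl_et (LP (LK LD1_c17 LD2_c42 LD3_c18)) = (LP (LK LD1_c18 LD2_c35 LD3_c8)) :=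
  Lgr Lrot87 (Lpr_ef (K25.f337987 IH) (Lpn (LP (LK LD1_c18 LD2_c35 LD3_c8))))
theorem f634888 : Led Lsl_at (LP (LK LD1_c17 LD2_c43 LD3_c24)) = (LP (LK LD1_c17 LD2_c42 LD3_c18)) :=
  Lgr Lrot80 (Lpe (f346565 IH) (Lpr_af (f634882 IH) (Lpe (f395858 IH) (Lpn (LP (LK LD1_c17 LD2_c42 LD3_c18))))))
theorem f634890 : Led Lsl_af (LP (LK LD1_c17 LD2_c43 LD3_c24)) = (LP (LK LD1_c17 LD2_c42 LD3_c18)) :=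
  Lgr Lrot0 (Lpr_at (f634888 IH) (Lpn (LP (LK LD1_c17 LD2_c42 LD3_c18))))
theorem f212611 : Led Lsl_ct (LP (LK LD1_c4 LD2_c12 LD3_c36)) = (LP (LK LD1_c8 LD2_c24 LD3_c48)) :=
  Lre_c IH (LK LD1_c4 LD2_c12 LD3_c36) (LK LD1_c8 LD2_c24 LD3_c48) Lrfl Lrfl
theorem f237750 : Led Lsl_gt (LP (LK LD1_c8 LD2_c24 LD3_c48)) = (LP (LK LD1_c15 LD2_c48 LD3_c58)) :=
  Lre_g IH (LK LD1_c8 LD2_c24 LD3_c48) (LK LD1_c15 LD2_c48 LD3_c58) Lrfl Lrfl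
theorem f360396 : Led Lsl_gf (LP (LK LD1_c15 LD2_c1 LD3_c6)) = (LP (LK LD1_c7 LD2_c58 LD3_c22)) :=
  Lgr Lrot134 (Lpr_df (K26.f223979 IH) (Lpr_et (K26.f360386 IH) (Lpr_gt (K26.f359774 IH) (Lpr_ef (K23.f278265 IH) (Lpe (K15.f250412 IH) (Lpr_gt (K18.f253921 IH) (Lpe (K25.f300737 IH) (Lpr_et (K25.f217562 IH) (Lpr_gt (K24.f217563 IH) (Lpe (K25.f357553 IH) (Lpn (LP (LK LD1_c7 LD2_c58 LD3_c22)))))))))))))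
theorem f300196 : Led Lsl_ft (LP (LK LD1_c3 LD2_c58 LD3_c26)) = (LP (LK LD1_c7 LD2_c58 LD3_c17)) :=
  Lre_f IH (LK LD1_c3 LD2_c58 LD3_c26) (LK LD1_c7 LD2_c58 LD3_c17) Lrfl Lrfl
theorem f359760 : Led Lsl_dt (LP (LK LD1_c7 LD2_c58 LD3_c17)) = (LP (LK LD1_c5 LD2_c10 LD3_c12)) :=
  Lgr Lrot60 (Lpe (f300196 IH) (Lpe (K25.f266898 IH) (Lpr_ff (K26.f359754 IH) (Lpn (LP (LK LD1_c5 LD2_c10 LD3_c12))))))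
theorem f360384 : Led Lsl_ef (LP (LK LD1_c15 LD2_c1 LD3_c6)) = (LP (LK LD1_c7 LD2_c58 LD3_c17)) :=
  Lgr Lrot167 (Lpr_gt (K26.f360380 IH) (Lpr_dt (K26.f358518 IH) (Lpr_gt (K26.f217564 IH) (Lpe (K15.f217502 IH) (Lpr_et (K15.f217553 IH) (Lpe (K10.f189561 IH) (Lpe (K14.f189575 IH) (Lpr_dt (K14.f189576 IH) (Lpr_gt (K26.f189577 IH) (Lpe (f359760 IH) (Lpn (LP (LK LD1_c7 LD2_c58 LD3_c17)))))))))))))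
theorem f358502 : Led Lsl_df (LP (LK LD1_c8 LD2_c24 LD3_c14)) = (LP (LK LD1_c15 LD2_c2 LD3_c30)) :=
  Lgr Lrot70 (Lpr_et (K25.f358496 IH) (Lpe (K25.f358478 IH) (Lpr_et (K25.f300739 IH) (Lpe (K25.f357553 IH) (Lpr_et (K25.f353994 IH) (Lpn (LP (LK LD1_c15 LD2_c2 LD3_c30))))))))
theorem f360399 : Led Lsl_gt (LP (LK LD1_c8 LD2_c37 LD3_c19)) = (LP (LK LD1_c8 LD2_c24 LD3_c14)) :=
  Lgr Lrot139 (Lpe (K23.f301185 IH) (Lpe (K23.f347274 IH) (Lpe (K21.f306569 IH) (Lpr_dt (K21.f305819 IH) (Lpr_gf (K26.f359764 IH) (Lpe (f359760 IH) (Lpe (f360384 IH) (Lpr_gf (f360396 IH) (Lpe (K25.f353986 IH) (Lpe (f358502 IH) (Lpn (LP (LK LD1_c8 LD2_c24 LD3_c14)))))))))))))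
theorem f246753 : Led Lsl_ct (LP (LK LD1_c8 LD2_c24 LD3_c14)) = (LP (LK LD1_c15 LD2_c48 LD3_c7)) :=
  Lre_c IH (LK LD1_c8 LD2_c24 LD3_c14) (LK LD1_c15 LD2_c48 LD3_c7) Lrfl Lrfl
theorem f360401 : Led Lsl_gf (LP (LK LD1_c8 LD2_c24 LD3_c25)) = (LP (LK LD1_c15 LD2_c48 LD3_c7)) :=
  Lgr Lrot104 (Lpr_ct (K20.f237124 IH) (Lpe (K20.f237144 IH) (Lpe (K19.f237145 IH) (Lpe (K18.f301607 IH) (Lpe (K18.f301591 IH) (Lpr_gf (K23.f347272 IH) (Lpr_df (K23.f301294 IH) (Lpr_gt (f360399 IH) (Lpr_ct (f246753 IH) (Lpn (LP (LK LD1_c15 LD2_c48 LD3_c7))))))))))))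
theorem f284501 : Led Lsl_af (LP (LK LD1_c8 LD2_c37 LD3_c25)) = (LP (LK LD1_c8 LD2_c24 LD3_c25)) :=
  Lgr Lrot68 (Lpr_ct (K23.f260786 IH) (Lpr_at (K23.f284499 IH) (Lpe (K38.f237133 IH) (Lpn (LP (LK LD1_c8 LD2_c24 LD3_c25))))))
theorem f284505 : Led Lsl_at (LP (LK LD1_c8 LD2_c37 LD3_c25)) = (LP (LK LD1_c8 LD2_c24 LD3_c25)) :=
  Lgr Lrot100 (Lpr_af (f284501 IH) (Lpn (LP (LK LD1_c8 LD2_c24 LD3_c25))))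
theorem f260853 : Led Lsl_ft (LP (LK LD1_c16 LD2_c9 LD3_c16)) = (LP (LK LD1_c8 LD2_c37 LD3_c25)) :=
  Lre_f IH (LK LD1_c16 LD2_c9 LD3_c16) (LK LD1_c8 LD2_c37 LD3_c25) Lrfl Lrfl
theorem f360403 : Led Lsl_gt (LP (LK LD1_c16 LD2_c9 LD3_c16)) = (LP (LK LD1_c15 LD2_c48 LD3_c7)) :=
  Lgr Lrot5 (Lpr_ft (f260853 IH) (Lpr_at (f284505 IH) (Lpr_gf (f360401 IH) (Lpn (LP (LK LD1_c15 LD2_c48 LD3_c7))))))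
theorem f358490 : Led Lsl_bt (LP (LK LD1_c8 LD2_c24 LD3_c14)) = (LP (LK LD1_c4 LD2_c12 LD3_c40)) :=
  Lgr Lrot119 (Lpr_ef (K25.f358488 IH) (Lpe (K25.f358441 IH) (Lpe (K26.f358452 IH) (Lpn (LP (LK LD1_c4 LD2_c12 LD3_c40))))))
theorem f212609 : Led Lsl_bt (LP (LK LD1_c4 LD2_c12 LD3_c36)) = (LP (LK LD1_c2 LD2_c3 LD3_c32)) :=
  Lre_b IH (LK LD1_c4 LD2_c12 LD3_c36) (LK LD1_c2 LD2_c3 LD3_c32) Lrfl Lrfl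
theorem f360407 : Led Lsl_ct (LP (LK LD1_c10 LD2_c37 LD3_c32)) = (LP (LK LD1_c15 LD2_c48 LD3_c58)) :=
  Lgr Lrot10 (Lpe (K23.f328794 IH) (Lpr_gt (K23.f328811 IH) (Lpr_ct (K23.f260839 IH) (Lpr_gt (f360403 IH) (Lpe (f246753 IH) (Lpr_bt (f358490 IH) (Lpr_gt (K25.f170932 IH) (Lpe (f212609 IH) (Lpr_ct (f212611 IH) (Lpr_gt (f237750 IH) (Lpn (LP (LK LD1_c15 LD2_c48 LD3_c58)))))))))))))
theorem f360410 : Led Lsl_cf (LP (LK LD1_c10 LD2_c37 LD3_c32)) = (LP (LK LD1_c15 LD2_c48 LD3_c58)) :=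
  Lgr Lrot11 (Lpr_ct (f360407 IH) (Lpn (LP (LK LD1_c15 LD2_c48 LD3_c58))))
theorem f360572 : Led Lsl_gt (LP (LK LD1_c17 LD2_c43 LD3_c27)) = (LP (LK LD1_c26 LD2_c6 LD3_c38)) :=
  Lgr Lrot150 (Lpe (K26.f247152 IH) (Lpr_gf (K26.f360568 IH) (Lpe (K23.f346576 IH) (Lpr_gt (K23.f212568 IH) (Lpr_ct (f212611 IH) (Lpr_gt (f237750 IH) (Lpe (f360410 IH) (Lpr_df (K14.f255584 IH) (Lpe (K14.f255593 IH) (Lpn (LP (LK LD1_c26 LD2_c6 LD3_c38))))))))))))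
theorem f634894 : Led Lsl_ft (LP (LK LD1_c17 LD2_c43 LD3_c27)) = (LP (LK LD1_c17 LD2_c42 LD3_c18)) :=
  Lgr Lrot2 (Lpr_gt (f360572 IH) (Lpr_gt (K25.f326792 IH) (Lpr_af (f634890 IH) (Lpn (LP (LK LD1_c17 LD2_c42 LD3_c18))))))
theorem f360726 : Led Lsl_ef (LP (LK LD1_c17 LD2_c43 LD3_c27)) = (LP (LK LD1_c9 LD2_c44 LD3_c31)) :=
  Lgr Lrot88 (Lpr_et (f360581 IH) (Lpn (LP (LK LD1_c9 LD2_c44 LD3_c31))))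
theorem f634872 : Led Lsl_ff (LP (LK LD1_c9 LD2_c44 LD3_c31)) = (LP (LK LD1_c15 LD2_c3 LD3_c46)) :=
  Lgr Lrot3 (Lpr_ft (f634866 IH) (Lpn (LP (LK LD1_c15 LD2_c3 LD3_c46))))
theorem f634896 : Led Lsl_ff (LP (LK LD1_c18 LD2_c6 LD3_c21)) = (LP (LK LD1_c18 LD2_c35 LD3_c8)) :=
  Lgr Lrot72 (Lpr_et (f378982 IH) (Lpe (f634872 IH) (Lpe (f360726 IH) (Lpr_ft (f634894 IH) (Lpr_et (f395858 IH) (Lpn (LP (LK LD1_c18 LD2_c35 LD3_c8))))))))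
theorem f337651 : Led Lsl_dt (LP (LK LD1_c19 LD2_c56 LD3_c1)) = (LP (LK LD1_c18 LD2_c35 LD3_c8)) :=
  Lgr Lrot105 (Lpe (K25.f199536 IH) (Lpe (K25.f199535 IH) (Lpe (K19.f314529 IH) (Lpe (K19.f246954 IH) (Lpr_gt (K19.f246953 IH) (Lpr_dt (K16.f246940 IH) (Lpr_gt (K22.f337642 IH) (Lpr_dt (K25.f337649 IH) (Lpe (K25.f337650 IH) (Lpn (LP (LK LD1_c18 LD2_c35 LD3_c8))))))))))))
theorem f634900 : Led Lsl_ft (LP (LK LD1_c26 LD2_c47 LD3_c49)) = (LP (LK LD1_c19 LD2_c56 LD3_c1)) :=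
  Lgr Lrot54 (Lpe (f378978 IH) (Lpr_ff (f634896 IH) (Lpe (f337651 IH) (Lpn (LP (LK LD1_c19 LD2_c56 LD3_c1))))))
theorem f634904 : Led Lsl_ff (LP (LK LD1_c26 LD2_c47 LD3_c49)) = (LP (LK LD1_c19 LD2_c56 LD3_c1)) :=
  Lgr Lrot3 (Lpr_ft (f634900 IH) (Lpn (LP (LK LD1_c19 LD2_c56 LD3_c1))))
theorem f320545 : Led Lsl_et (LP (LK LD1_c2 LD2_c43 LD3_c20)) = (LP (LK LD1_c5 LD2_c34 LD3_c53)) :=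
  Lre_e IH (LK LD1_c2 LD2_c43 LD3_c20) (LK LD1_c5 LD2_c34 LD3_c53) Lrfl Lrfl
theorem f335797 : Led Lsl_cf (LP (LK LD1_c5 LD2_c3 LD3_c40)) = (LP (LK LD1_c5 LD2_c34 LD3_c53)) :=
  Lgr Lrot39 (Lpr_et (f335767 IH) (Lpr_ct (K20.f320535 IH) (Lpr_et (f320545 IH) (Lpn (LP (LK LD1_c5 LD2_c34 LD3_c53))))))
theorem f335799 : Led Lsl_bt (LP (LK LD1_c11 LD2_c2 LD3_c3)) = (LP (LK LD1_c5 LD2_c34 LD3_c53)) :=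
  Lre_b IH (LK LD1_c11 LD2_c2 LD3_c3) (LK LD1_c5 LD2_c34 LD3_c53) Lrfl Lrfl
theorem f335800 : Led Lsl_ct (LP (LK LD1_c19 LD2_c53 LD3_c17)) = (LP (LK LD1_c11 LD2_c2 LD3_c3)) :=
  Lre_c IH (LK LD1_c19 LD2_c53 LD3_c17) (LK LD1_c11 LD2_c2 LD3_c3) Lrfl Lrfl
theorem f335801 : Led Lsl_bt (LP (LK LD1_c18 LD2_c6 LD3_c21)) = (LP (LK LD1_c19 LD2_c53 LD3_c17)) :=
  Lgr Lrot128 (Lpe (K25.f320566 IH) (Lpe (K25.f335750 IH) (Lpr_cf (f335797 IH) (Lpe (f335799 IH) (Lpe (f335800 IH) (Lpn (LP (LK LD1_c19 LD2_c53 LD3_c17))))))))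
theorem f335804 : Led Lsl_bf (LP (LK LD1_c18 LD2_c6 LD3_c21)) = (LP (LK LD1_c19 LD2_c53 LD3_c17)) :=
  Lgr Lrot24 (Lpr_bt (f335801 IH) (Lpn (LP (LK LD1_c19 LD2_c53 LD3_c17))))
theorem f335809 : Led Lsl_dt (LP (LK LD1_c29 LD2_c9 LD3_c14)) = (LP (LK LD1_c19 LD2_c53 LD3_c17)) :=
  Lre_d IH (LK LD1_c29 LD2_c9 LD3_c14) (LK LD1_c19 LD2_c53 LD3_c17) Lrfl Lrfl
theorem f378980 : Led Lsl_bf (LP (LK LD1_c29 LD2_c9 LD3_c14)) = (LP (LK LD1_c26 LD2_c47 LD3_c49)) :=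
  Lgr Lrot93 (Lpr_dt (f335809 IH) (Lpe (f335804 IH) (Lpr_dt (f378978 IH) (Lpn (LP (LK LD1_c26 LD2_c47 LD3_c49))))))
theorem f379170 : Led Lsl_bt (LP (LK LD1_c29 LD2_c11 LD3_c60)) = (LP (LK LD1_c19 LD2_c56 LD3_c1)) :=
  Lre_b IH (LK LD1_c29 LD2_c11 LD3_c60) (LK LD1_c19 LD2_c56 LD3_c1) Lrfl Lrfl
theorem f634910 : Led Lsl_ft (LP (LK LD1_c29 LD2_c9 LD3_c14)) = (LP (LK LD1_c29 LD2_c11 LD3_c60)) :=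
  Lgr Lrot75 (Lpr_bf (f378980 IH) (Lpr_ff (f634904 IH) (Lpe (f379170 IH) (Lpn (LP (LK LD1_c29 LD2_c11 LD3_c60))))))
theorem f335806 : Led Lsl_dt (LP (LK LD1_c19 LD2_c53 LD3_c17)) = (LP (LK LD1_c29 LD2_c9 LD3_c14)) :=
  Lre_d IH (LK LD1_c19 LD2_c53 LD3_c17) (LK LD1_c29 LD2_c9 LD3_c14) Lrfl Lrfl
theorem f356904 : Led Lsl_bt (LP (LK LD1_c19 LD2_c56 LD3_c1)) = (LP (LK LD1_c29 LD2_c11 LD3_c60)) :=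
  Lre_b IH (LK LD1_c19 LD2_c56 LD3_c1) (LK LD1_c29 LD2_c11 LD3_c60) Lrfl Lrfl
theorem f336079 : Led Lsl_bt (LP (LK LD1_c28 LD2_c9 LD3_c19)) = (LP (LK LD1_c18 LD2_c35 LD3_c8)) :=
  Lre_b IH (LK LD1_c28 LD2_c9 LD3_c19) (LK LD1_c18 LD2_c35 LD3_c8) Lrfl Lrfl
theorem f356905 : Led Lsl_dt (LP (LK LD1_c29 LD2_c11 LD3_c60)) = (LP (LK LD1_c28 LD2_c9 LD3_c19)) :=
  Lgr Lrot79 (Lpe (f356904 IH) (Lpr_df (K25.f356902 IH) (Lpe (f336079 IH) (Lpn (LP (LK LD1_c28 LD2_c9 LD3_c19))))))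
theorem f634912 : Led Lsl_ff (LP (LK LD1_c19 LD2_c53 LD3_c17)) = (LP (LK LD1_c28 LD2_c9 LD3_c19)) :=
  Lgr Lrot19 (Lpr_dt (f335806 IH) (Lpr_ft (f634910 IH) (Lpr_dt (f356905 IH) (Lpn (LP (LK LD1_c28 LD2_c9 LD3_c19))))))
theorem f336057 : Led Lsl_ct (LP (LK LD1_c18 LD2_c35 LD3_c10)) = (LP (LK LD1_c28 LD2_c9 LD3_c19)) :=
  Lre_c IH (LK LD1_c18 LD2_c35 LD3_c10) (LK LD1_c28 LD2_c9 LD3_c19) Lrfl Lrfl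
theorem f634915 : Led Lsl_ft (LP (LK LD1_c11 LD2_c2 LD3_c3)) = (LP (LK LD1_c18 LD2_c35 LD3_c10)) :=
  Lgr Lrot4 (Lpe (f335800 IH) (Lpr_ff (f634912 IH) (Lpe (f336057 IH) (Lpn (LP (LK LD1_c18 LD2_c35 LD3_c10))))))
theorem f634920 : Led Lsl_ff (LP (LK LD1_c11 LD2_c2 LD3_c3)) = (LP (LK LD1_c18 LD2_c35 LD3_c10)) :=
  Lgr Lrot3 (Lpr_ft (f634915 IH) (Lpn (LP (LK LD1_c18 LD2_c35 LD3_c10))))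
theorem f634914 : Led Lsl_dt (LP (LK LD1_c11 LD2_c2 LD3_c3)) = (LP (LK LD1_c19 LD2_c53 LD3_c20)) :=
  Lre_d IH (LK LD1_c11 LD2_c2 LD3_c3) (LK LD1_c19 LD2_c53 LD3_c20) Lrfl Lrfl
theorem f183137 : Led Lsl_dt (LP (LK LD1_c10 LD2_c43 LD3_c56)) = (LP (LK LD1_c5 LD2_c26 LD3_c22)) :=
  Lre_d IH (LK LD1_c10 LD2_c43 LD3_c56) (LK LD1_c5 LD2_c26 LD3_c22) Lrfl Lrfl
theorem f226718 : Led Lsl_dt (LP (LK LD1_c6 LD2_c5 LD3_c58)) = (LP (LK LD1_c11 LD2_c55 LD3_c19)) :=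
  Lre_d IH (LK LD1_c6 LD2_c5 LD3_c58) (LK LD1_c11 LD2_c55 LD3_c19) Lrfl Lrfl
theorem f336064 : Led Lsl_af (LP (LK LD1_c10 LD2_c43 LD3_c56)) = (LP (LK LD1_c11 LD2_c55 LD3_c19)) :=
  Lgr Lrot117 (Lpr_dt (f183137 IH) (Lpr_at (K22.f336017 IH) (Lpr_dt (f226718 IH) (Lpn (LP (LK LD1_c11 LD2_c55 LD3_c19))))))
theorem f336066 : Led Lsl_at (LP (LK LD1_c10 LD2_c43 LD3_c56)) = (LP (LK LD1_c11 LD2_c55 LD3_c19)) :=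
  Lgr Lrot100 (Lpr_af (f336064 IH) (Lpn (LP (LK LD1_c11 LD2_c55 LD3_c19))))
theorem f225410 : Led Lsl_et (LP (LK LD1_c15 LD2_c44 LD3_c19)) = (LP (LK LD1_c8 LD2_c21 LD3_c54)) :=
  Lre_e IH (LK LD1_c15 LD2_c44 LD3_c19) (LK LD1_c8 LD2_c21 LD3_c54) Lrfl Lrfl
theorem f267887 : Led Lsl_ft (LP (LK LD1_c25 LD2_c40 LD3_c39)) = (LP (LK LD1_c15 LD2_c44 LD3_c19)) :=
  Lre_f IH (LK LD1_c25 LD2_c40 LD3_c39) (LK LD1_c15 LD2_c44 LD3_c19) Lrfl Lrfl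
theorem f267873 : Led Lsl_bt (LP (LK LD1_c10 LD2_c43 LD3_c55)) = (LP (LK LD1_c5 LD2_c26 LD3_c22)) :=
  Lre_b IH (LK LD1_c10 LD2_c43 LD3_c55) (LK LD1_c5 LD2_c26 LD3_c22) Lrfl Lrfl
theorem f267669 : Led Lsl_bt (LP (LK LD1_c8 LD2_c21 LD3_c51)) = (LP (LK LD1_c15 LD2_c44 LD3_c21)) :=
  Lre_b IH (LK LD1_c8 LD2_c21 LD3_c51) (LK LD1_c15 LD2_c44 LD3_c21) Lrfl Lrfl
theorem f267874 : Led Lsl_ef (LP (LK LD1_c10 LD2_c43 LD3_c55)) = (LP (LK LD1_c15 LD2_c44 LD3_c21)) :=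
  Lgr Lrot29 (Lpr_bt (f267873 IH) (Lpr_et (K22.f267870 IH) (Lpr_bt (f267669 IH) (Lpn (LP (LK LD1_c15 LD2_c44 LD3_c21))))))
theorem f267877 : Led Lsl_at (LP (LK LD1_c10 LD2_c43 LD3_c55)) = (LP (LK LD1_c19 LD2_c25 LD3_c10)) :=
  Lre_a IH (LK LD1_c10 LD2_c43 LD3_c55) (LK LD1_c19 LD2_c25 LD3_c10) Lrfl Lrfl
theorem f267878 : Led Lsl_at (LP (LK LD1_c25 LD2_c40 LD3_c39)) = (LP (LK LD1_c15 LD2_c44 LD3_c21)) :=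
  Lre_a IH (LK LD1_c25 LD2_c40 LD3_c39) (LK LD1_c15 LD2_c44 LD3_c21) Lrfl Lrfl
theorem f267879 : Led Lsl_et (LP (LK LD1_c19 LD2_c25 LD3_c10)) = (LP (LK LD1_c25 LD2_c40 LD3_c39)) :=
  Lgr Lrot123 (Lpe (f267877 IH) (Lpr_ef (f267874 IH) (Lpe (f267878 IH) (Lpn (LP (LK LD1_c25 LD2_c40 LD3_c39))))))
theorem f277182 : Led Lsl_et (LP (LK LD1_c5 LD2_c28 LD3_c41)) = (LP (LK LD1_c10 LD2_c48 LD3_c27)) :=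
  Lre_e IH (LK LD1_c5 LD2_c28 LD3_c41) (LK LD1_c10 LD2_c48 LD3_c27) Lrfl Lrfl
theorem f277194 : Led Lsl_ff (LP (LK LD1_c19 LD2_c25 LD3_c10)) = (LP (LK LD1_c10 LD2_c48 LD3_c27)) :=
  Lgr Lrot72 (Lpr_et (f267879 IH) (Lpr_ft (f267887 IH) (Lpr_et (f225410 IH) (Lpr_ft (K30.f277188 IH) (Lpr_et (f277182 IH) (Lpn (LP (LK LD1_c10 LD2_c48 LD3_c27))))))))
theorem f267891 : Led Lsl_at (LP (LK LD1_c19 LD2_c25 LD3_c10)) = (LP (LK LD1_c10 LD2_c43 LD3_c55)) :=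
  Lre_a IH (LK LD1_c19 LD2_c25 LD3_c10) (LK LD1_c10 LD2_c43 LD3_c55) Lrfl Lrfl
theorem f277130 : Led Lsl_at (LP (LK LD1_c5 LD2_c28 LD3_c43)) = (LP (LK LD1_c10 LD2_c48 LD3_c27)) :=
  Lre_a IH (LK LD1_c5 LD2_c28 LD3_c43) (LK LD1_c10 LD2_c48 LD3_c27) Lrfl Lrfl
theorem f277214 : Led Lsl_ft (LP (LK LD1_c10 LD2_c43 LD3_c55)) = (LP (LK LD1_c5 LD2_c28 LD3_c43)) :=
  Lgr Lrot101 (Lpe (f267891 IH) (Lpr_ff (f277194 IH) (Lpe (f277130 IH) (Lpn (LP (LK LD1_c5 LD2_c28 LD3_c43))))))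
theorem f277220 : Led Lsl_ff (LP (LK LD1_c10 LD2_c43 LD3_c55)) = (LP (LK LD1_c5 LD2_c28 LD3_c43)) :=
  Lgr Lrot3 (Lpr_ft (f277214 IH) (Lpn (LP (LK LD1_c5 LD2_c28 LD3_c43))))
theorem f267882 : Led Lsl_dt (LP (LK LD1_c10 LD2_c43 LD3_c55)) = (LP (LK LD1_c19 LD2_c25 LD3_c11)) :=
  Lre_d IH (LK LD1_c10 LD2_c43 LD3_c55) (LK LD1_c19 LD2_c25 LD3_c11) Lrfl Lrfl
theorem f277142 : Led Lsl_dt (LP (LK LD1_c10 LD2_c48 LD3_c32)) = (LP (LK LD1_c5 LD2_c28 LD3_c43)) :=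
  Lre_d IH (LK LD1_c10 LD2_c48 LD3_c32) (LK LD1_c5 LD2_c28 LD3_c43) Lrfl Lrfl
theorem f277224 : Led Lsl_ft (LP (LK LD1_c19 LD2_c25 LD3_c11)) = (LP (LK LD1_c10 LD2_c48 LD3_c32)) :=
  Lgr Lrot54 (Lpe (f267882 IH) (Lpr_ff (f277220 IH) (Lpe (f277142 IH) (Lpn (LP (LK LD1_c10 LD2_c48 LD3_c32))))))
theorem f277230 : Led Lsl_bt (LP (LK LD1_c10 LD2_c43 LD3_c56)) = (LP (LK LD1_c19 LD2_c25 LD3_c11)) :=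
  Lre_b IH (LK LD1_c10 LD2_c43 LD3_c56) (LK LD1_c19 LD2_c25 LD3_c11) Lrfl Lrfl
theorem f277231 : Led Lsl_bt (LP (LK LD1_c10 LD2_c48 LD3_c32)) = (LP (LK LD1_c5 LD2_c28 LD3_c46)) :=
  Lre_b IH (LK LD1_c10 LD2_c48 LD3_c32) (LK LD1_c5 LD2_c28 LD3_c46) Lrfl Lrfl
theorem f277232 : Led Lsl_ff (LP (LK LD1_c10 LD2_c43 LD3_c56)) = (LP (LK LD1_c5 LD2_c28 LD3_c46)) :=
  Lgr Lrot25 (Lpr_bt (f277230 IH) (Lpr_ft (f277224 IH) (Lpr_bt (f277231 IH) (Lpn (LP (LK LD1_c5 LD2_c28 LD3_c46))))))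
theorem f179318 : Led Lsl_gt (LP (LK LD1_c5 LD2_c28 LD3_c46)) = (LP (LK LD1_c10 LD2_c48 LD3_c35)) :=
  Lre_g IH (LK LD1_c5 LD2_c28 LD3_c46) (LK LD1_c10 LD2_c48 LD3_c35) Lrfl Lrfl
theorem f336068 : Led Lsl_gt (LP (LK LD1_c10 LD2_c48 LD3_c35)) = (LP (LK LD1_c11 LD2_c55 LD3_c19)) :=
  Lgr Lrot46 (Lpe (f179318 IH) (Lpe (f277232 IH) (Lpr_at (f336066 IH) (Lpn (LP (LK LD1_c11 LD2_c55 LD3_c19))))))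
theorem f226717 : Led Lsl_dt (LP (LK LD1_c11 LD2_c55 LD3_c19)) = (LP (LK LD1_c6 LD2_c5 LD3_c58)) :=
  Lre_d IH (LK LD1_c11 LD2_c55 LD3_c19) (LK LD1_c6 LD2_c5 LD3_c58) Lrfl Lrfl
theorem f333380 : Led Lsl_gt (LP (LK LD1_c2 LD2_c42 LD3_c15)) = (LP (LK LD1_c5 LD2_c18 LD3_c27)) :=
  Lgr Lrot112 (Lpr_df (K15.f198757 IH) (Lpe (K22.f212114 IH) (Lpe (K22.f200336 IH) (Lpe (K22.f200296 IH) (Lpr_dt (K22.f200294 IH) (Lpe (K22.f1395 IH) (Lpr_df (K10.f167622 IH) (Lpe (K22.f165951 IH) (Lpr_ef (K22.f333370 IH) (Lpr_dt (K21.f185443 IH) (Lpn (LP (LK LD1_c5 LD2_c18 LD3_c27)))))))))))))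
theorem f198756 : Led Lsl_ct (LP (LK LD1_c5 LD2_c32 LD3_c4)) = (LP (LK LD1_c2 LD2_c42 LD3_c15)) :=
  Lre_c IH (LK LD1_c5 LD2_c32 LD3_c4) (LK LD1_c2 LD2_c42 LD3_c15) Lrfl Lrfl
theorem f336025 : Led Lsl_gf (LP (LK LD1_c5 LD2_c10 LD3_c48)) = (LP (LK LD1_c2 LD2_c32 LD3_c37)) :=
  Lgr Lrot47 (Lpr_gt (K22.f336021 IH) (Lpr_af (K15.f267957 IH) (Lpe (K15.f185438 IH) (Lpn (LP (LK LD1_c2 LD2_c32 LD3_c37))))))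
theorem f336027 : Led Lsl_ct (LP (LK LD1_c5 LD2_c10 LD3_c48)) = (LP (LK LD1_c2 LD2_c32 LD3_c24)) :=
  Lre_c IH (LK LD1_c5 LD2_c10 LD3_c48) (LK LD1_c2 LD2_c32 LD3_c24) Lrfl Lrfl
theorem f326971 : Led Lsl_ct (LP (LK LD1_c10 LD2_c12 LD3_c16)) = (LP (LK LD1_c5 LD2_c10 LD3_c49)) :=
  Lre_c IH (LK LD1_c10 LD2_c12 LD3_c16) (LK LD1_c5 LD2_c10 LD3_c49) Lrfl Lrfl
theorem f198762 : Led Lsl_ct (LP (LK LD1_c2 LD2_c42 LD3_c15)) = (LP (LK LD1_c5 LD2_c32 LD3_c4)) :=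
  Lre_c IH (LK LD1_c2 LD2_c42 LD3_c15) (LK LD1_c5 LD2_c32 LD3_c4) Lrfl Lrfl
theorem f336051 : Led Lsl_gf (LP (LK LD1_c10 LD2_c12 LD3_c16)) = (LP (LK LD1_c5 LD2_c32 LD3_c4)) :=
  Lgr Lrot104 (Lpr_ct (f326971 IH) (Lpe (K25.f253530 IH) (Lpe (f336027 IH) (Lpr_gf (f336025 IH) (Lpr_cf (K15.f185190 IH) (Lpe (K22.f185444 IH) (Lpr_df (K22.f333637 IH) (Lpe (K22.f333415 IH) (Lpr_ct (f198762 IH) (Lpn (LP (LK LD1_c5 LD2_c32 LD3_c4))))))))))))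
theorem f336070 : Led Lsl_df (LP (LK LD1_c10 LD2_c48 LD3_c35)) = (LP (LK LD1_c10 LD2_c12 LD3_c16)) :=
  Lgr Lrot153 (Lpr_gt (f336068 IH) (Lpr_dt (f226717 IH) (Lpe (K22.f169478 IH) (Lpe (K22.f333366 IH) (Lpe (K22.f333432 IH) (Lpe (K21.f309718 IH) (Lpe (f333380 IH) (Lpe (f198756 IH) (Lpe (f336051 IH) (Lpn (LP (LK LD1_c10 LD2_c12 LD3_c16))))))))))))
theorem f336073 : Led Lsl_bt (LP (LK LD1_c10 LD2_c48 LD3_c35)) = (LP (LK LD1_c19 LD2_c32 LD3_c43)) :=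
  Lre_b IH (LK LD1_c10 LD2_c48 LD3_c35) (LK LD1_c19 LD2_c32 LD3_c43) Lrfl Lrfl
theorem f336056 : Led Lsl_bt (LP (LK LD1_c18 LD2_c35 LD3_c10)) = (LP (LK LD1_c10 LD2_c12 LD3_c16)) :=
  Lre_b IH (LK LD1_c18 LD2_c35 LD3_c10) (LK LD1_c10 LD2_c12 LD3_c16) Lrfl Lrfl
theorem f336074 : Led Lsl_dt (LP (LK LD1_c19 LD2_c32 LD3_c43)) = (LP (LK LD1_c18 LD2_c35 LD3_c10)) :=
  Lgr Lrot79 (Lpe (f336073 IH) (Lpr_df (f336070 IH) (Lpe (f336056 IH) (Lpn (LP (LK LD1_c18 LD2_c35 LD3_c10))))))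
theorem f634922 : Led Lsl_ft (LP (LK LD1_c19 LD2_c53 LD3_c20)) = (LP (LK LD1_c19 LD2_c32 LD3_c43)) :=
  Lgr Lrot54 (Lpe (f634914 IH) (Lpr_ff (f634920 IH) (Lpe (f336074 IH) (Lpn (LP (LK LD1_c19 LD2_c32 LD3_c43))))))
theorem f634925 : Led Lsl_bt (LP (LK LD1_c11 LD2_c2 LD3_c5)) = (LP (LK LD1_c19 LD2_c53 LD3_c20)) :=
  Lre_b IH (LK LD1_c11 LD2_c2 LD3_c5) (LK LD1_c19 LD2_c53 LD3_c20) Lrfl Lrfl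
theorem f336072 : Led Lsl_bt (LP (LK LD1_c19 LD2_c32 LD3_c43)) = (LP (LK LD1_c10 LD2_c48 LD3_c35)) :=
  Lre_b IH (LK LD1_c19 LD2_c32 LD3_c43) (LK LD1_c10 LD2_c48 LD3_c35) Lrfl Lrfl
theorem f634926 : Led Lsl_ff (LP (LK LD1_c11 LD2_c2 LD3_c5)) = (LP (LK LD1_c10 LD2_c48 LD3_c35)) :=
  Lgr Lrot25 (Lpr_bt (f634925 IH) (Lpr_ft (f634922 IH) (Lpr_bt (f336072 IH) (Lpn (LP (LK LD1_c10 LD2_c48 LD3_c35))))))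
theorem f177568 : Led Lsl_ct (LP (LK LD1_c2 LD2_c59 LD3_c49)) = (LP (LK LD1_c1 LD2_c25 LD3_c38)) :=
  Lre_c IH (LK LD1_c2 LD2_c59 LD3_c49) (LK LD1_c1 LD2_c25 LD3_c38) Lrfl Lrfl
theorem f226542 : Led Lsl_gt (LP (LK LD1_c2 LD2_c12 LD3_c18)) = (LP (LK LD1_c4 LD2_c30 LD3_c42)) :=
  Lre_g IH (LK LD1_c2 LD2_c12 LD3_c18) (LK LD1_c4 LD2_c30 LD3_c42) Lrfl Lrfl
theorem f323549 : Led Lsl_bt (LP (LK LD1_c2 LD2_c26 LD3_c0)) = (LP (LK LD1_c4 LD2_c56 LD3_c28)) :=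
  Lre_b IH (LK LD1_c2 LD2_c26 LD3_c0) (LK LD1_c4 LD2_c56 LD3_c28) Lrfl Lrfl
theorem f329936 : Led Lsl_cf (LP (LK LD1_c4 LD2_c30 LD3_c42)) = (LP (LK LD1_c2 LD2_c26 LD3_c0)) :=
  Lgr Lrot163 (Lpe (f226542 IH) (Lpe (K22.f7565 IH) (Lpe (K20.f183263 IH) (Lpe (K22.f183278 IH) (Lpr_ct (K22.f320522 IH) (Lpr_gf (K22.f329925 IH) (Lpr_cf (K21.f183792 IH) (Lpr_bt (K18.f27419 IH) (Lpr_gf (K21.f323556 IH) (Lpe (f323549 IH) (Lpn (LP (LK LD1_c2 LD2_c26 LD3_c0)))))))))))))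
theorem f226549 : Led Lsl_et (LP (LK LD1_c4 LD2_c30 LD3_c42)) = (LP (LK LD1_c8 LD2_c59 LD3_c41)) :=
  Lre_e IH (LK LD1_c4 LD2_c30 LD3_c42) (LK LD1_c8 LD2_c59 LD3_c41) Lrfl Lrfl
theorem f330038 : Led Lsl_ct (LP (LK LD1_c8 LD2_c59 LD3_c41)) = (LP (LK LD1_c4 LD2_c56 LD3_c30)) :=
  Lgr Lrot15 (Lpe (f226549 IH) (Lpr_cf (f329936 IH) (Lpe (K21.f55322 IH) (Lpn (LP (LK LD1_c4 LD2_c56 LD3_c30))))))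
theorem f330046 : Led Lsl_cf (LP (LK LD1_c8 LD2_c59 LD3_c41)) = (LP (LK LD1_c4 LD2_c56 LD3_c30)) :=
  Lgr Lrot11 (Lpr_ct (f330038 IH) (Lpn (LP (LK LD1_c4 LD2_c56 LD3_c30))))
theorem f179316 : Led Lsl_et (LP (LK LD1_c2 LD2_c40 LD3_c40)) = (LP (LK LD1_c1 LD2_c16 LD3_c61)) :=
  Lre_e IH (LK LD1_c2 LD2_c40 LD3_c40) (LK LD1_c1 LD2_c16 LD3_c61) Lrfl Lrfl
theorem f179317 : Led Lsl_dt (LP (LK LD1_c2 LD2_c40 LD3_c40)) = (LP (LK LD1_c5 LD2_c28 LD3_c46)) :=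
  Lre_d IH (LK LD1_c2 LD2_c40 LD3_c40) (LK LD1_c5 LD2_c28 LD3_c46) Lrfl Lrfl
theorem f180417 : Led Lsl_gt (LP (LK LD1_c10 LD2_c48 LD3_c36)) = (LP (LK LD1_c5 LD2_c28 LD3_c46)) :=
  Lre_g IH (LK LD1_c10 LD2_c48 LD3_c36) (LK LD1_c5 LD2_c28 LD3_c46) Lrfl Lrfl
theorem f226543 : Led Lsl_et (LP (LK LD1_c8 LD2_c59 LD3_c41)) = (LP (LK LD1_c4 LD2_c30 LD3_c42)) :=
  Lre_e IH (LK LD1_c8 LD2_c59 LD3_c41) (LK LD1_c4 LD2_c30 LD3_c42) Lrfl Lrfl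
theorem f226544 : Led Lsl_df (LP (LK LD1_c10 LD2_c48 LD3_c36)) = (LP (LK LD1_c8 LD2_c59 LD3_c41)) :=
  Lgr Lrot170 (Lpr_gt (f180417 IH) (Lpe (f179317 IH) (Lpr_et (f179316 IH) (Lpe (K20.f226533 IH) (Lpr_dt (K12.f226409 IH) (Lpr_gt (K9.f44741 IH) (Lpe (K9.f172857 IH) (Lpr_et (K22.f179205 IH) (Lpr_gt (f226542 IH) (Lpe (f226543 IH) (Lpn (LP (LK LD1_c8 LD2_c59 LD3_c41)))))))))))))
theorem f226547 : Led Lsl_dt (LP (LK LD1_c10 LD2_c48 LD3_c36)) = (LP (LK LD1_c8 LD2_c59 LD3_c41)) :=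
  Lgr Lrot42 (Lpr_df (f226544 IH) (Lpn (LP (LK LD1_c8 LD2_c59 LD3_c41))))
theorem f336019 : Led Lsl_gf (LP (LK LD1_c10 LD2_c48 LD3_c36)) = (LP (LK LD1_c11 LD2_c55 LD3_c19)) :=
  Lgr Lrot143 (Lpr_dt (f226547 IH) (Lpr_cf (f330046 IH) (Lpr_df (K49.f326903 IH) (Lpe (K21.f326957 IH) (Lpe (K21.f287844 IH) (Lpe (K17.f177462 IH) (Lpe (f177568 IH) (Lpr_gt (K22.f336015 IH) (Lpr_dt (f226718 IH) (Lpn (LP (LK LD1_c11 LD2_c55 LD3_c19))))))))))))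
theorem f634930 : Led Lsl_at (LP (LK LD1_c11 LD2_c2 LD3_c5)) = (LP (LK LD1_c10 LD2_c48 LD3_c36)) :=
  Lgr Lrot26 (Lpr_ff (f634926 IH) (Lpr_gt (f336068 IH) (Lpe (f336019 IH) (Lpn (LP (LK LD1_c10 LD2_c48 LD3_c36))))))
theorem f634934 : Led Lsl_af (LP (LK LD1_c5 LD2_c34 LD3_c53)) = (LP (LK LD1_c8 LD2_c59 LD3_c41)) :=
  Lgr Lrot117 (Lpr_dt (f8682 IH) (Lpr_at (f634930 IH) (Lpr_dt (f226547 IH) (Lpn (LP (LK LD1_c8 LD2_c59 LD3_c41))))))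
theorem f335454 : Led Lsl_ct (LP (LK LD1_c5 LD2_c3 LD3_c38)) = (LP (LK LD1_c9 LD2_c58 LD3_c9)) :=
  Lre_c IH (LK LD1_c5 LD2_c3 LD3_c38) (LK LD1_c9 LD2_c58 LD3_c9) Lrfl Lrfl
theorem f634485 : Led Lsl_ff (LP (LK LD1_c8 LD2_c59 LD3_c41)) = (LP (LK LD1_c9 LD2_c58 LD3_c9)) :=
  Lgr Lrot23 (Lpr_ct (f330038 IH) (Lpr_ft (f634481 IH) (Lpr_ct (f335454 IH) (Lpn (LP (LK LD1_c9 LD2_c58 LD3_c9))))))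
theorem f727046 : Led Lsl_gt (LP (LK LD1_c9 LD2_c58 LD3_c9)) = v14876 :=
  Lgr Lrot5 (Lpe (f634485 IH) (Lpe (f634934 IH) (Lpr_gf (f727045 IH) (Lpn v14876))))
theorem f330750 : Led Lsl_bt (LP (LK LD1_c9 LD2_c42 LD3_c22)) = (LP (LK LD1_c4 LD2_c55 LD3_c60)) :=
  Lgr Lrot119 (Lpe (K23.f330682 IH) (Lpr_bf (K25.f330742 IH) (Lpe (K18.f181886 IH) (Lpn (LP (LK LD1_c4 LD2_c55 LD3_c60))))))
theorem f258226 : Led Lsl_bt (LP (LK LD1_c10 LD2_c42 LD3_c43)) = (LP (LK LD1_c5 LD2_c25 LD3_c45)) :=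
  Lre_b IH (LK LD1_c10 LD2_c42 LD3_c43) (LK LD1_c5 LD2_c25 LD3_c45) Lrfl Lrfl
theorem f296105 : Led Lsl_ct (LP (LK LD1_c10 LD2_c42 LD3_c43)) = (LP (LK LD1_c19 LD2_c23 LD3_c26)) :=
  Lre_c IH (LK LD1_c10 LD2_c42 LD3_c43) (LK LD1_c19 LD2_c23 LD3_c26) Lrfl Lrfl
theorem f727047 : Led Lsl_gf (LP (LK LD1_c17 LD2_c51 LD3_c2)) = (LP (LK LD1_c19 LD2_c23 LD3_c26)) :=
  Lgr Lrot126 (Lpe (K23.f330752 IH) (Lpr_bt (f330750 IH) (Lpe (K25.f355132 IH) (Lpr_ct (f335454 IH) (Lpr_gt (f727046 IH) (Lpe (f727041 IH) (Lpr_bt (K27.f341823 IH) (Lpe (K25.f316524 IH) (Lpe (f258226 IH) (Lpr_ct (f296105 IH) (Lpn (LP (LK LD1_c19 LD2_c23 LD3_c26)))))))))))))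
theorem f727048 : Led Lsl_gt (LP (LK LD1_c19 LD2_c23 LD3_c26)) = (LP (LK LD1_c17 LD2_c51 LD3_c2)) :=
  Leop (Lpr_gf (f727047 IH) (Lpn (LP (LK LD1_c19 LD2_c23 LD3_c26))))
theorem seed_859 : LEOK LG_g (LK LD1_c19 LD2_c23 LD3_c26) :=
  Leoe_g (LK LD1_c19 LD2_c23 LD3_c26) (f727048 IH)
def v14878 : LQ := Led Lsl_bt (LP (LK LD1_c5 LD2_c26 LD3_c54))
theorem f727059 : Led Lsl_bt (LP (LK LD1_c5 LD2_c26 LD3_c54)) = v14878 :=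
  Lrfl
theorem f727060 : Led Lsl_bf (LP (LK LD1_c5 LD2_c26 LD3_c54)) = v14878 :=
  Lgr Lrot24 (Lpr_bt (f727059 IH) (Lpn v14878))
def v5137 : LQ := Led Lsl_at (LP (LK LD1_c2 LD2_c59 LD3_c25))
theorem f646171 : Led Lsl_at (LP (LK LD1_c2 LD2_c59 LD3_c25)) = v5137 :=
  Lrfl
theorem f195452 : Led Lsl_bt (LP (LK LD1_c1 LD2_c16 LD3_c41)) = (LP (LK LD1_c2 LD2_c39 LD3_c53)) :=
  Lre_b IH (LK LD1_c1 LD2_c16 LD3_c41) (LK LD1_c2 LD2_c39 LD3_c53) Lrfl Lrfl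
theorem f177542 : Led Lsl_bt (LP (LK LD1_c2 LD2_c59 LD3_c25)) = (LP (LK LD1_c1 LD2_c25 LD3_c24)) :=
  Lre_b IH (LK LD1_c2 LD2_c59 LD3_c25) (LK LD1_c1 LD2_c25 LD3_c24) Lrfl Lrfl
theorem f334401 : Led Lsl_ft (LP (LK LD1_c2 LD2_c39 LD3_c53)) = (LP (LK LD1_c2 LD2_c59 LD3_c25)) :=
  Lgr Lrot75 (Lpe (f195452 IH) (Lpr_ff (K22.f334399 IH) (Lpe (f177542 IH) (Lpn (LP (LK LD1_c2 LD2_c59 LD3_c25))))))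
theorem f195460 : Led Lsl_gt (LP (LK LD1_c2 LD2_c39 LD3_c53)) = (LP (LK LD1_c5 LD2_c26 LD3_c54)) :=
  Lre_g IH (LK LD1_c2 LD2_c39 LD3_c53) (LK LD1_c5 LD2_c26 LD3_c54) Lrfl Lrfl
theorem f646175 : Led Lsl_gt (LP (LK LD1_c5 LD2_c26 LD3_c54)) = v5137 :=
  Lgr Lrot46 (Lpe (f195460 IH) (Lpr_ft (f334401 IH) (Lpr_at (f646171 IH) (Lpn v5137))))
theorem f334407 : Led Lsl_at (LP (LK LD1_c5 LD2_c26 LD3_c55)) = (LP (LK LD1_c2 LD2_c39 LD3_c53)) :=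
  Lre_a IH (LK LD1_c5 LD2_c26 LD3_c55) (LK LD1_c2 LD2_c39 LD3_c53) Lrfl Lrfl
theorem f646174 : Led Lsl_ff (LP (LK LD1_c5 LD2_c26 LD3_c55)) = v5137 :=
  Lgr Lrot30 (Lpr_at (f334407 IH) (Lpr_ft (f334401 IH) (Lpr_at (f646171 IH) (Lpn v5137))))
theorem f195430 : Led Lsl_bt (LP (LK LD1_c2 LD2_c39 LD3_c53)) = (LP (LK LD1_c1 LD2_c16 LD3_c41)) :=
  Lre_b IH (LK LD1_c2 LD2_c39 LD3_c53) (LK LD1_c1 LD2_c16 LD3_c41) Lrfl Lrfl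
theorem f334409 : Led Lsl_bf (LP (LK LD1_c5 LD2_c26 LD3_c55)) = (LP (LK LD1_c6 LD2_c6 LD3_c32)) :=
  Lgr Lrot81 (Lpr_at (f334407 IH) (Lpr_bt (f195430 IH) (Lpr_at (K22.f334405 IH) (Lpr_bt (K45.f198845 IH) (Lpr_at (K45.f334408 IH) (Lpn (LP (LK LD1_c6 LD2_c6 LD3_c32))))))))
theorem f396432 : Led Lsl_bt (LP (LK LD1_c5 LD2_c26 LD3_c55)) = (LP (LK LD1_c6 LD2_c6 LD3_c32)) :=
  Lgr Lrot127 (Lpr_bf (f334409 IH) (Lpn (LP (LK LD1_c6 LD2_c6 LD3_c32))))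
theorem f646177 : Led Lsl_bt (LP (LK LD1_c5 LD2_c27 LD3_c0)) = v5137 :=
  Lgr Lrot35 (Lpr_ff (K45.f396410 IH) (Lpe (f396432 IH) (Lpr_ff (f646174 IH) (Lpn v5137))))
theorem f256179 : Led Lsl_at (LP (LK LD1_c11 LD2_c56 LD3_c12)) = (LP (LK LD1_c6 LD2_c6 LD3_c33)) :=
  Lre_a IH (LK LD1_c11 LD2_c56 LD3_c12) (LK LD1_c6 LD2_c6 LD3_c33) Lrfl Lrfl
theorem f198821 : Led Lsl_gt (LP (LK LD1_c11 LD2_c56 LD3_c14)) = (LP (LK LD1_c6 LD2_c6 LD3_c33)) :=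
  Lre_g IH (LK LD1_c11 LD2_c56 LD3_c14) (LK LD1_c6 LD2_c6 LD3_c33) Lrfl Lrfl
theorem f396424 : Led Lsl_gt (LP (LK LD1_c10 LD2_c45 LD3_c5)) = (LP (LK LD1_c11 LD2_c56 LD3_c14)) :=
  Lgr Lrot5 (Lpr_ft (f396417 IH) (Lpr_at (f256179 IH) (Lpe (f198821 IH) (Lpn (LP (LK LD1_c11 LD2_c56 LD3_c14))))))
theorem f183350 : Led Lsl_bt (LP (LK LD1_c1 LD2_c25 LD3_c21)) = (LP (LK LD1_c2 LD2_c59 LD3_c17)) :=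
  Lre_b IH (LK LD1_c1 LD2_c25 LD3_c21) (LK LD1_c2 LD2_c59 LD3_c17) Lrfl Lrfl
theorem f183351 : Led Lsl_gt (LP (LK LD1_c2 LD2_c59 LD3_c17)) = (LP (LK LD1_c6 LD2_c6 LD3_c24)) :=
  Lre_g IH (LK LD1_c2 LD2_c59 LD3_c17) (LK LD1_c6 LD2_c6 LD3_c24) Lrfl Lrfl
theorem f183359 : Led Lsl_bt (LP (LK LD1_c11 LD2_c56 LD3_c3)) = (LP (LK LD1_c6 LD2_c6 LD3_c24)) :=
  Lre_b IH (LK LD1_c11 LD2_c56 LD3_c3) (LK LD1_c6 LD2_c6 LD3_c24) Lrfl Lrfl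
theorem f198816 : Led Lsl_bt (LP (LK LD1_c2 LD2_c59 LD3_c22)) = (LP (LK LD1_c1 LD2_c25 LD3_c23)) :=
  Lre_b IH (LK LD1_c2 LD2_c59 LD3_c22) (LK LD1_c1 LD2_c25 LD3_c23) Lrfl Lrfl
theorem f198820 : Led Lsl_ct (LP (LK LD1_c2 LD2_c59 LD3_c22)) = (LP (LK LD1_c6 LD2_c6 LD3_c33)) :=
  Lre_c IH (LK LD1_c2 LD2_c59 LD3_c22) (LK LD1_c6 LD2_c6 LD3_c33) Lrfl Lrfl
theorem f198822 : Led Lsl_ct (LP (LK LD1_c11 LD2_c56 LD3_c3)) = (LP (LK LD1_c11 LD2_c56 LD3_c14)) :=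
  Lgr Lrot64 (Lpr_bt (f183359 IH) (Lpe (f183351 IH) (Lpe (f183350 IH) (Lpr_ct (K10.f183349 IH) (Lpr_gf (K9.f183352 IH) (Lpe (K9.f8494 IH) (Lpr_gf (K11.f198810 IH) (Lpe (f198816 IH) (Lpr_ct (f198820 IH) (Lpe (f198821 IH) (Lpn (LP (LK LD1_c11 LD2_c56 LD3_c14)))))))))))))
theorem f285859 : Led Lsl_at (LP (LK LD1_c2 LD2_c39 LD3_c40)) = (LP (LK LD1_c5 LD2_c26 LD3_c32)) :=
  Lre_a IH (LK LD1_c2 LD2_c39 LD3_c40) (LK LD1_c5 LD2_c26 LD3_c32) Lrfl Lrfl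
theorem f285994 : Led Lsl_gf (LP (LK LD1_c5 LD2_c26 LD3_c32)) = (LP (LK LD1_c6 LD2_c6 LD3_c24)) :=
  Lgr Lrot76 (Lpe (f285859 IH) (Lpr_ff (K17.f285977 IH) (Lpr_gt (f183351 IH) (Lpn (LP (LK LD1_c6 LD2_c6 LD3_c24))))))
theorem f285908 : Led Lsl_ct (LP (LK LD1_c5 LD2_c26 LD3_c32)) = (LP (LK LD1_c10 LD2_c43 LD3_c60)) :=
  Lre_c IH (LK LD1_c5 LD2_c26 LD3_c32) (LK LD1_c10 LD2_c43 LD3_c60) Lrfl Lrfl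
theorem f285999 : Led Lsl_at (LP (LK LD1_c10 LD2_c43 LD3_c60)) = (LP (LK LD1_c5 LD2_c26 LD3_c24)) :=
  Lre_a IH (LK LD1_c10 LD2_c43 LD3_c60) (LK LD1_c5 LD2_c26 LD3_c24) Lrfl Lrfl
theorem f286000 : Led Lsl_at (LP (LK LD1_c6 LD2_c6 LD3_c18)) = (LP (LK LD1_c11 LD2_c55 LD3_c57)) :=
  Lre_a IH (LK LD1_c6 LD2_c6 LD3_c18) (LK LD1_c11 LD2_c55 LD3_c57) Lrfl Lrfl
theorem f286001 : Led Lsl_ff (LP (LK LD1_c10 LD2_c43 LD3_c60)) = (LP (LK LD1_c11 LD2_c55 LD3_c57)) :=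
  Lgr Lrot30 (Lpr_at (f285999 IH) (Lpr_ft (K17.f285990 IH) (Lpr_at (f286000 IH) (Lpn (LP (LK LD1_c11 LD2_c55 LD3_c57))))))
theorem f409028 : Led Lsl_ft (LP (LK LD1_c10 LD2_c43 LD3_c60)) = (LP (LK LD1_c11 LD2_c55 LD3_c57)) :=
  Lgr Lrot48 (Lpr_ff (f286001 IH) (Lpn (LP (LK LD1_c11 LD2_c55 LD3_c57))))
theorem f294965 : Led Lsl_at (LP (LK LD1_c11 LD2_c55 LD3_c57)) = (LP (LK LD1_c6 LD2_c6 LD3_c18)) :=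
  Lre_a IH (LK LD1_c11 LD2_c55 LD3_c57) (LK LD1_c6 LD2_c6 LD3_c18) Lrfl Lrfl
theorem f183368 : Led Lsl_gt (LP (LK LD1_c11 LD2_c55 LD3_c56)) = (LP (LK LD1_c6 LD2_c6 LD3_c18)) :=
  Lre_g IH (LK LD1_c11 LD2_c55 LD3_c56) (LK LD1_c6 LD2_c6 LD3_c18) Lrfl Lrfl
theorem f409033 : Led Lsl_gt (LP (LK LD1_c10 LD2_c43 LD3_c60)) = (LP (LK LD1_c11 LD2_c55 LD3_c56)) :=
  Lgr Lrot5 (Lpr_ft (f409028 IH) (Lpr_at (f294965 IH) (Lpe (f183368 IH) (Lpn (LP (LK LD1_c11 LD2_c55 LD3_c56))))))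
theorem f727062 : Led Lsl_cf (LP (LK LD1_c11 LD2_c55 LD3_c56)) = v14878 :=
  Lgr Lrot163 (Lpe (f409033 IH) (Lpe (f285908 IH) (Lpr_gf (f285994 IH) (Lpe (f183359 IH) (Lpr_ct (f198822 IH) (Lpe (f396424 IH) (Lpe (f396408 IH) (Lpr_bt (f646177 IH) (Lpe (f646175 IH) (Lpr_bf (f727060 IH) (Lpn v14878)))))))))))
theorem f727063 : Led Lsl_bt (LP (LK LD1_c11 LD2_c55 LD3_c56)) = (LP (LK LD1_c21 LD2_c0 LD3_c49)) :=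
  Lre_b IH (LK LD1_c11 LD2_c55 LD3_c56) (LK LD1_c21 LD2_c0 LD3_c49) Lrfl Lrfl
theorem f195751 : Led Lsl_ct (LP (LK LD1_c10 LD2_c44 LD3_c49)) = (LP (LK LD1_c5 LD2_c26 LD3_c54)) :=
  Lre_c IH (LK LD1_c10 LD2_c44 LD3_c49) (LK LD1_c5 LD2_c26 LD3_c54) Lrfl Lrfl
theorem f727061 : Led Lsl_bt (LP (LK LD1_c19 LD2_c26 LD3_c19)) = (LP (LK LD1_c10 LD2_c44 LD3_c49)) :=
  Lre_b IH (LK LD1_c19 LD2_c26 LD3_c19) (LK LD1_c10 LD2_c44 LD3_c49) Lrfl Lrfl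
theorem f727064 : Led Lsl_ct (LP (LK LD1_c21 LD2_c0 LD3_c49)) = (LP (LK LD1_c19 LD2_c26 LD3_c19)) :=
  Lgr Lrot83 (Lpe (f727063 IH) (Lpr_cf (f727062 IH) (Lpe (f727059 IH) (Lpe (f195751 IH) (Lpe (f727061 IH) (Lpn (LP (LK LD1_c19 LD2_c26 LD3_c19))))))))
theorem f727065 : Led Lsl_ct (LP (LK LD1_c21 LD2_c0 LD3_c49)) = (LP (LK LD1_c19 LD2_c26 LD3_c19)) :=
  Leop (Lpe (f727064 IH) (Lpn (LP (LK LD1_c21 LD2_c0 LD3_c49))))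
theorem seed_860 : LEOK LG_c (LK LD1_c21 LD2_c0 LD3_c49) :=
  Leoe_c (LK LD1_c21 LD2_c0 LD3_c49) (f727065 IH)
def v14936 : LQ := Led Lsl_ft (LP (LK LD1_c5 LD2_c27 LD3_c32))
theorem f727340 : Led Lsl_ft (LP (LK LD1_c5 LD2_c27 LD3_c32)) = v14936 :=
  Lrfl
theorem f727343 : Led Lsl_ff (LP (LK LD1_c5 LD2_c27 LD3_c32)) = v14936 :=
  Lgr Lrot3 (Lpr_ft (f727340 IH) (Lpn v14936))
theorem f418233 : Led Lsl_at (LP (LK LD1_c5 LD2_c27 LD3_c32)) = (LP (LK LD1_c2 LD2_c40 LD3_c20)) :=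
  Lre_a IH (LK LD1_c5 LD2_c27 LD3_c32) (LK LD1_c2 LD2_c40 LD3_c20) Lrfl Lrfl
theorem f244686 : Led Lsl_gt (LP (LK LD1_c5 LD2_c28 LD3_c1)) = (LP (LK LD1_c2 LD2_c40 LD3_c20)) :=
  Lre_g IH (LK LD1_c5 LD2_c28 LD3_c1) (LK LD1_c2 LD2_c40 LD3_c20) Lrfl Lrfl
theorem f727346 : Led Lsl_gf (LP (LK LD1_c5 LD2_c28 LD3_c1)) = v14936 :=
  Lgr Lrot47 (Lpr_gt (f244686 IH) (Lpe (f418233 IH) (Lpr_ff (f727343 IH) (Lpn v14936))))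
theorem f375943 : Led Lsl_dt (LP (LK LD1_c5 LD2_c28 LD3_c1)) = (LP (LK LD1_c10 LD2_c47 LD3_c22)) :=
  Lre_d IH (LK LD1_c5 LD2_c28 LD3_c1) (LK LD1_c10 LD2_c47 LD3_c22) Lrfl Lrfl
theorem f727345 : Led Lsl_ct (LP (LK LD1_c5 LD2_c27 LD3_c35)) = v14936 :=
  Lgr Lrot40 (Lpe (K17.f244844 IH) (Lpe (K25.f264491 IH) (Lpr_ff (f727343 IH) (Lpn v14936))))
theorem f197563 : Led Lsl_ct (LP (LK LD1_c11 LD2_c55 LD3_c61)) = (LP (LK LD1_c6 LD2_c6 LD3_c23)) :=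
  Lre_c IH (LK LD1_c11 LD2_c55 LD3_c61) (LK LD1_c6 LD2_c6 LD3_c23) Lrfl Lrfl
theorem f197556 : Led Lsl_ct (LP (LK LD1_c6 LD2_c6 LD3_c23)) = (LP (LK LD1_c11 LD2_c55 LD3_c61)) :=
  Lre_c IH (LK LD1_c6 LD2_c6 LD3_c23) (LK LD1_c11 LD2_c55 LD3_c61) Lrfl Lrfl
theorem f409045 : Led Lsl_et (LP (LK LD1_c11 LD2_c55 LD3_c61)) = (LP (LK LD1_c10 LD2_c44 LD3_c6)) :=
  Lgr Lrot158 (Lpe (f197556 IH) (Lpr_ef (K18.f285737 IH) (Lpe (K18.f245995 IH) (Lpn (LP (LK LD1_c10 LD2_c44 LD3_c6))))))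
theorem f294894 : Led Lsl_ft (LP (LK LD1_c8 LD2_c28 LD3_c48)) = (LP (LK LD1_c15 LD2_c55 LD3_c23)) :=
  Lre_f IH (LK LD1_c8 LD2_c28 LD3_c48) (LK LD1_c15 LD2_c55 LD3_c23) Lrfl Lrfl
theorem f231614 : Led Lsl_gt (LP (LK LD1_c8 LD2_c28 LD3_c48)) = (LP (LK LD1_c15 LD2_c55 LD3_c20)) :=
  Lre_g IH (LK LD1_c8 LD2_c28 LD3_c48) (LK LD1_c15 LD2_c55 LD3_c20) Lrfl Lrfl
theorem f324197 : Led Lsl_gt (LP (LK LD1_c15 LD2_c55 LD3_c20)) = (LP (LK LD1_c10 LD2_c44 LD3_c6)) :=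
  Lgr Lrot46 (Lpe (f231614 IH) (Lpr_ft (f294894 IH) (Lpr_at (K21.f324191 IH) (Lpn (LP (LK LD1_c10 LD2_c44 LD3_c6))))))
theorem f357224 : Led Lsl_bt (LP (LK LD1_c10 LD2_c51 LD3_c53)) = (LP (LK LD1_c15 LD2_c16 LD3_c47)) :=
  Lgr Lrot95 (Lpe (K21.f236162 IH) (Lpr_bf (K25.f357218 IH) (Lpr_df (K18.f227197 IH) (Lpn (LP (LK LD1_c15 LD2_c16 LD3_c47))))))
theorem f379128 : Led Lsl_bf (LP (LK LD1_c8 LD2_c15 LD3_c20)) = (LP (LK LD1_c8 LD2_c6 LD3_c53)) :=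
  Lgr Lrot96 (Lpe (K14.f236163 IH) (Lpr_bt (f357224 IH) (Lpr_et (K18.f227196 IH) (Lpn (LP (LK LD1_c8 LD2_c6 LD3_c53))))))
theorem f237232 : Led Lsl_ct (LP (LK LD1_c15 LD2_c16 LD3_c46)) = (LP (LK LD1_c8 LD2_c6 LD3_c53)) :=
  Lre_c IH (LK LD1_c15 LD2_c16 LD3_c46) (LK LD1_c8 LD2_c6 LD3_c53) Lrfl Lrfl
theorem f315461 : Led Lsl_gf (LP (LK LD1_c15 LD2_c16 LD3_c46)) = (LP (LK LD1_c15 LD2_c52 LD3_c51)) :=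
  Lgr Lrot147 (Lpr_ct (f237232 IH) (Lpr_gt (K18.f227195 IH) (Lpr_ct (K20.f227045 IH) (Lpe (K18.f227060 IH) (Lpe (K18.f227058 IH) (Lpe (K18.f299135 IH) (Lpr_cf (K18.f262205 IH) (Lpr_gf (K18.f298011 IH) (Lpr_df (K20.f315451 IH) (Lpn (LP (LK LD1_c15 LD2_c52 LD3_c51))))))))))))
theorem f256227 : Led Lsl_bt (LP (LK LD1_c15 LD2_c26 LD3_c0)) = (LP (LK LD1_c8 LD2_c11 LD3_c53)) :=
  Lre_b IH (LK LD1_c15 LD2_c26 LD3_c0) (LK LD1_c8 LD2_c11 LD3_c53) Lrfl Lrfl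
theorem f379130 : Led Lsl_cf (LP (LK LD1_c15 LD2_c55 LD3_c20)) = (LP (LK LD1_c15 LD2_c26 LD3_c0)) :=
  Lgr Lrot58 (Lpe (f231614 IH) (Lpe (K18.f231613 IH) (Lpr_bt (K18.f231598 IH) (Lpe (K14.f231615 IH) (Lpr_bf (f379128 IH) (Lpr_ct (K18.f237230 IH) (Lpr_gf (f315461 IH) (Lpe (K20.f190019 IH) (Lpe (K21.f315463 IH) (Lpe (f256227 IH) (Lpn (LP (LK LD1_c15 LD2_c26 LD3_c0)))))))))))))
theorem f379137 : Led Lsl_et (LP (LK LD1_c15 LD2_c55 LD3_c20)) = (LP (LK LD1_c8 LD2_c57 LD3_c55)) :=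
  Lgr Lrot158 (Lpr_cf (f379130 IH) (Lpe (K23.f322432 IH) (Lpr_cf (K23.f322434 IH) (Lpn (LP (LK LD1_c8 LD2_c57 LD3_c55))))))
theorem f379145 : Led Lsl_ef (LP (LK LD1_c15 LD2_c55 LD3_c20)) = (LP (LK LD1_c8 LD2_c57 LD3_c55)) :=
  Lgr Lrot88 (Lpr_et (f379137 IH) (Lpn (LP (LK LD1_c8 LD2_c57 LD3_c55))))
theorem f264769 : Led Lsl_af (LP (LK LD1_c10 LD2_c43 LD3_c7)) = (LP (LK LD1_c15 LD2_c55 LD3_c10)) :=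
  Lgr Lrot117 (Lpr_dt (K15.f264685 IH) (Lpr_at (K15.f264757 IH) (Lpr_dt (K20.f258790 IH) (Lpn (LP (LK LD1_c15 LD2_c55 LD3_c10))))))
theorem f282604 : Led Lsl_gt (LP (LK LD1_c25 LD2_c51 LD3_c27)) = (LP (LK LD1_c16 LD2_c46 LD3_c44)) :=
  Lgr Lrot5 (Lpr_ft (K27.f258831 IH) (Lpe (f264769 IH) (Lpr_gf (K23.f282546 IH) (Lpn (LP (LK LD1_c16 LD2_c46 LD3_c44))))))
theorem f264793 : Led Lsl_dt (LP (LK LD1_c10 LD2_c43 LD3_c5)) = (LP (LK LD1_c19 LD2_c24 LD3_c4)) :=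
  Lre_d IH (LK LD1_c10 LD2_c43 LD3_c5) (LK LD1_c19 LD2_c24 LD3_c4) Lrfl Lrfl
theorem f282598 : Led Lsl_ct (LP (LK LD1_c8 LD2_c27 LD3_c4)) = (LP (LK LD1_c4 LD2_c29 LD3_c49)) :=
  Lgr Lrot40 (Lpe (K16.f221319 IH) (Lpr_cf (K23.f282548 IH) (Lpe (K27.f282441 IH) (Lpn (LP (LK LD1_c4 LD2_c29 LD3_c49))))))
theorem f271734 : Led Lsl_dt (LP (LK LD1_c15 LD2_c52 LD3_c2)) = (LP (LK LD1_c8 LD2_c27 LD3_c4)) :=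
  Lre_d IH (LK LD1_c15 LD2_c52 LD3_c2) (LK LD1_c8 LD2_c27 LD3_c4) Lrfl Lrfl
theorem f340872 : Led Lsl_gt (LP (LK LD1_c19 LD2_c24 LD3_c4)) = (LP (LK LD1_c15 LD2_c52 LD3_c2)) :=
  Lgr Lrot49 (Lpe (f264793 IH) (Lpe (K23.f264787 IH) (Lpe (K23.f264768 IH) (Lpr_gt (K25.f196390 IH) (Lpr_dt (K25.f340841 IH) (Lpr_gt (K24.f53588 IH) (Lpe (K17.f282431 IH) (Lpe (f282598 IH) (Lpe (f271734 IH) (Lpn (LP (LK LD1_c15 LD2_c52 LD3_c2))))))))))))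
theorem f244685 : Led Lsl_et (LP (LK LD1_c1 LD2_c16 LD3_c53)) = (LP (LK LD1_c2 LD2_c40 LD3_c20)) :=
  Lre_e IH (LK LD1_c1 LD2_c16 LD3_c53) (LK LD1_c2 LD2_c40 LD3_c20) Lrfl Lrfl
theorem f244706 : Led Lsl_gt (LP (LK LD1_c2 LD2_c40 LD3_c20)) = (LP (LK LD1_c5 LD2_c28 LD3_c0)) :=
  Lre_g IH (LK LD1_c2 LD2_c40 LD3_c20) (LK LD1_c5 LD2_c28 LD3_c0) Lrfl Lrfl
theorem f340876 : Led Lsl_et (LP (LK LD1_c10 LD2_c43 LD3_c5)) = (LP (LK LD1_c5 LD2_c28 LD3_c0)) :=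
  Lgr Lrot122 (Lpr_dt (f264793 IH) (Lpr_gt (f340872 IH) (Lpe (K27.f221288 IH) (Lpr_et (K27.f221287 IH) (Lpr_gt (K16.f216392 IH) (Lpr_dt (K12.f50904 IH) (Lpe (K14.f244675 IH) (Lpe (K14.f243522 IH) (Lpr_et (f244685 IH) (Lpr_gt (f244706 IH) (Lpn (LP (LK LD1_c5 LD2_c28 LD3_c0)))))))))))))
theorem f340881 : Led Lsl_ef (LP (LK LD1_c10 LD2_c43 LD3_c5)) = (LP (LK LD1_c5 LD2_c28 LD3_c0)) :=
  Lgr Lrot88 (Lpr_et (f340876 IH) (Lpn (LP (LK LD1_c5 LD2_c28 LD3_c0))))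
theorem f244707 : Led Lsl_dt (LP (LK LD1_c5 LD2_c28 LD3_c0)) = (LP (LK LD1_c10 LD2_c47 LD3_c20)) :=
  Lre_d IH (LK LD1_c5 LD2_c28 LD3_c0) (LK LD1_c10 LD2_c47 LD3_c20) Lrfl Lrfl
theorem f340888 : Led Lsl_gt (LP (LK LD1_c19 LD2_c30 LD3_c59)) = (LP (LK LD1_c10 LD2_c47 LD3_c20)) :=
  Lre_g IH (LK LD1_c19 LD2_c30 LD3_c59) (LK LD1_c10 LD2_c47 LD3_c20) Lrfl Lrfl
theorem f409049 : Led Lsl_dt (LP (LK LD1_c11 LD2_c55 LD3_c61)) = (LP (LK LD1_c19 LD2_c30 LD3_c59)) :=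
  Lgr Lrot136 (Lpr_et (f409045 IH) (Lpe (f324197 IH) (Lpr_ef (f379145 IH) (Lpr_dt (K23.f271742 IH) (Lpe (f282604 IH) (Lpe (K20.f258839 IH) (Lpe (K23.f264788 IH) (Lpr_ef (f340881 IH) (Lpr_dt (f244707 IH) (Lpe (f340888 IH) (Lpn (LP (LK LD1_c19 LD2_c30 LD3_c59)))))))))))))
theorem f409051 : Led Lsl_df (LP (LK LD1_c11 LD2_c55 LD3_c61)) = (LP (LK LD1_c19 LD2_c30 LD3_c59)) :=
  Lgr Lrot38 (Lpr_dt (f409049 IH) (Lpn (LP (LK LD1_c19 LD2_c30 LD3_c59))))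
theorem f727347 : Led Lsl_gt (LP (LK LD1_c10 LD2_c47 LD3_c22)) = (LP (LK LD1_c19 LD2_c30 LD3_c59)) :=
  Lgr Lrot49 (Lpe (f375943 IH) (Lpr_gf (f727346 IH) (Lpe (f727345 IH) (Lpr_gt (K23.f244890 IH) (Lpr_dt (K23.f244891 IH) (Lpe (K23.f301427 IH) (Lpe (K19.f197538 IH) (Lpe (f197563 IH) (Lpr_df (f409051 IH) (Lpn (LP (LK LD1_c19 LD2_c30 LD3_c59))))))))))))
theorem f727348 : Led Lsl_gt (LP (LK LD1_c10 LD2_c47 LD3_c22)) = (LP (LK LD1_c19 LD2_c30 LD3_c59)) :=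
  Leop (Lpe (f727347 IH) (Lpn (LP (LK LD1_c10 LD2_c47 LD3_c22))))
theorem seed_861 : LEOK LG_g (LK LD1_c10 LD2_c47 LD3_c22) :=
  Leoe_g (LK LD1_c10 LD2_c47 LD3_c22) (f727348 IH)
def v14953 : LQ := Led Lsl_et (LP (LK LD1_c5 LD2_c28 LD3_c32))
theorem f727420 : Led Lsl_et (LP (LK LD1_c5 LD2_c28 LD3_c32)) = v14953 :=
  Lrfl
theorem f634936 : Led Lsl_at (LP (LK LD1_c2 LD2_c43 LD3_c20)) = (LP (LK LD1_c4 LD2_c30 LD3_c42)) :=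
  Lgr Lrot80 (Lpe (f8681 IH) (Lpr_af (f634934 IH) (Lpe (f226549 IH) (Lpn (LP (LK LD1_c4 LD2_c30 LD3_c42))))))
theorem f320543 : Led Lsl_cf (LP (LK LD1_c3 LD2_c58 LD3_c49)) = (LP (LK LD1_c2 LD2_c43 LD3_c20)) :=
  Lgr Lrot11 (Lpr_ct (K20.f320535 IH) (Lpn (LP (LK LD1_c2 LD2_c43 LD3_c20))))
theorem f634529 : Led Lsl_ft (LP (LK LD1_c4 LD2_c30 LD3_c43)) = (LP (LK LD1_c2 LD2_c43 LD3_c20)) :=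
  Lgr Lrot4 (Lpr_cf (K22.f320420 IH) (Lpr_ff (f634525 IH) (Lpr_cf (f320543 IH) (Lpn (LP (LK LD1_c2 LD2_c43 LD3_c20))))))
theorem f634537 : Led Lsl_af (LP (LK LD1_c4 LD2_c30 LD3_c43)) = (LP (LK LD1_c2 LD2_c43 LD3_c21)) :=
  Lgr Lrot68 (Lpr_ct (K22.f320414 IH) (Lpr_at (f634533 IH) (Lpr_ct (K19.f309875 IH) (Lpn (LP (LK LD1_c2 LD2_c43 LD3_c21))))))
theorem f634942 : Led Lsl_ff (LP (LK LD1_c2 LD2_c43 LD3_c21)) = (LP (LK LD1_c4 LD2_c30 LD3_c42)) :=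
  Lgr Lrot30 (Lpe (f634537 IH) (Lpr_ft (f634529 IH) (Lpr_at (f634936 IH) (Lpn (LP (LK LD1_c4 LD2_c30 LD3_c42))))))
theorem f309877 : Led Lsl_bt (LP (LK LD1_c2 LD2_c43 LD3_c21)) = (LP (LK LD1_c5 LD2_c34 LD3_c54)) :=
  Lre_b IH (LK LD1_c2 LD2_c43 LD3_c21) (LK LD1_c5 LD2_c34 LD3_c54) Lrfl Lrfl
theorem f330042 : Led Lsl_bt (LP (LK LD1_c8 LD2_c59 LD3_c40)) = (LP (LK LD1_c4 LD2_c30 LD3_c42)) :=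
  Lre_b IH (LK LD1_c8 LD2_c59 LD3_c40) (LK LD1_c4 LD2_c30 LD3_c42) Lrfl Lrfl
theorem f634944 : Led Lsl_ft (LP (LK LD1_c5 LD2_c34 LD3_c54)) = (LP (LK LD1_c8 LD2_c59 LD3_c40)) :=
  Lgr Lrot75 (Lpe (f309877 IH) (Lpr_ff (f634942 IH) (Lpe (f330042 IH) (Lpn (LP (LK LD1_c8 LD2_c59 LD3_c40))))))
theorem f634949 : Led Lsl_ff (LP (LK LD1_c5 LD2_c34 LD3_c54)) = (LP (LK LD1_c8 LD2_c59 LD3_c40)) :=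
  Lgr Lrot3 (Lpr_ft (f634944 IH) (Lpn (LP (LK LD1_c8 LD2_c59 LD3_c40))))
theorem f309878 : Led Lsl_ct (LP (LK LD1_c5 LD2_c34 LD3_c54)) = (LP (LK LD1_c11 LD2_c2 LD3_c6)) :=
  Lre_c IH (LK LD1_c5 LD2_c34 LD3_c54) (LK LD1_c11 LD2_c2 LD3_c6) Lrfl Lrfl
theorem f226551 : Led Lsl_bt (LP (LK LD1_c8 LD2_c59 LD3_c41)) = (LP (LK LD1_c16 LD2_c49 LD3_c3)) :=
  Lre_b IH (LK LD1_c8 LD2_c59 LD3_c41) (LK LD1_c16 LD2_c49 LD3_c3) Lrfl Lrfl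
theorem f323773 : Led Lsl_bt (LP (LK LD1_c9 LD2_c44 LD3_c30)) = (LP (LK LD1_c4 LD2_c56 LD3_c30)) :=
  Lre_b IH (LK LD1_c9 LD2_c44 LD3_c30) (LK LD1_c4 LD2_c56 LD3_c30) Lrfl Lrfl
theorem f244377 : Led Lsl_bt (LP (LK LD1_c25 LD2_c13 LD3_c24)) = (LP (LK LD1_c15 LD2_c21 LD3_c52)) :=
  Lre_b IH (LK LD1_c25 LD2_c13 LD3_c24) (LK LD1_c15 LD2_c21 LD3_c52) Lrfl Lrfl
theorem f330048 : Led Lsl_ct (LP (LK LD1_c16 LD2_c49 LD3_c3)) = (LP (LK LD1_c25 LD2_c13 LD3_c24)) :=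
  Lgr Lrot83 (Lpe (f226551 IH) (Lpr_cf (f330046 IH) (Lpe (f323773 IH) (Lpe (K21.f323554 IH) (Lpe (f244377 IH) (Lpn (LP (LK LD1_c25 LD2_c13 LD3_c24))))))))
theorem f330050 : Led Lsl_et (LP (LK LD1_c8 LD2_c59 LD3_c40)) = (LP (LK LD1_c16 LD2_c49 LD3_c3)) :=
  Lre_e IH (LK LD1_c8 LD2_c59 LD3_c40) (LK LD1_c16 LD2_c49 LD3_c3) Lrfl Lrfl
theorem f330051 : Led Lsl_et (LP (LK LD1_c25 LD2_c13 LD3_c24)) = (LP (LK LD1_c15 LD2_c21 LD3_c50)) :=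
  Lre_e IH (LK LD1_c25 LD2_c13 LD3_c24) (LK LD1_c15 LD2_c21 LD3_c50) Lrfl Lrfl
theorem f330052 : Led Lsl_cf (LP (LK LD1_c8 LD2_c59 LD3_c40)) = (LP (LK LD1_c15 LD2_c21 LD3_c50)) :=
  Lgr Lrot39 (Lpr_et (f330050 IH) (Lpr_ct (f330048 IH) (Lpr_et (f330051 IH) (Lpn (LP (LK LD1_c15 LD2_c21 LD3_c50))))))
theorem f634952 : Led Lsl_ft (LP (LK LD1_c11 LD2_c2 LD3_c6)) = (LP (LK LD1_c15 LD2_c21 LD3_c50)) :=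
  Lgr Lrot4 (Lpe (f309878 IH) (Lpr_ff (f634949 IH) (Lpr_cf (f330052 IH) (Lpn (LP (LK LD1_c15 LD2_c21 LD3_c50))))))
theorem f341484 : Led Lsl_dt (LP (LK LD1_c19 LD2_c53 LD3_c21)) = (LP (LK LD1_c11 LD2_c2 LD3_c6)) :=
  Lre_d IH (LK LD1_c19 LD2_c53 LD3_c21) (LK LD1_c11 LD2_c2 LD3_c6) Lrfl Lrfl
theorem f330075 : Led Lsl_dt (LP (LK LD1_c15 LD2_c21 LD3_c50)) = (LP (LK LD1_c25 LD2_c13 LD3_c23)) :=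
  Lre_d IH (LK LD1_c15 LD2_c21 LD3_c50) (LK LD1_c25 LD2_c13 LD3_c23) Lrfl Lrfl
theorem f634957 : Led Lsl_ff (LP (LK LD1_c19 LD2_c53 LD3_c21)) = (LP (LK LD1_c25 LD2_c13 LD3_c23)) :=
  Lgr Lrot19 (Lpr_dt (f341484 IH) (Lpr_ft (f634952 IH) (Lpr_dt (f330075 IH) (Lpn (LP (LK LD1_c25 LD2_c13 LD3_c23))))))
theorem f634961 : Led Lsl_ft (LP (LK LD1_c19 LD2_c53 LD3_c21)) = (LP (LK LD1_c25 LD2_c13 LD3_c23)) :=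
  Lgr Lrot48 (Lpr_ff (f634957 IH) (Lpn (LP (LK LD1_c25 LD2_c13 LD3_c23))))
theorem f341481 : Led Lsl_et (LP (LK LD1_c19 LD2_c53 LD3_c22)) = (LP (LK LD1_c11 LD2_c2 LD3_c6)) :=
  Lre_e IH (LK LD1_c19 LD2_c53 LD3_c22) (LK LD1_c11 LD2_c2 LD3_c6) Lrfl Lrfl
theorem f341482 : Led Lsl_bt (LP (LK LD1_c11 LD2_c2 LD3_c6)) = (LP (LK LD1_c8 LD2_c9 LD3_c23)) :=
  Lgr Lrot119 (Lpe (f341481 IH) (Lpr_bf (K23.f341474 IH) (Lpe (K23.f339102 IH) (Lpn (LP (LK LD1_c8 LD2_c9 LD3_c23))))))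
theorem f52414 : Led Lsl_dt (LP (LK LD1_c8 LD2_c9 LD3_c23)) = (LP (LK LD1_c15 LD2_c21 LD3_c48)) :=
  Lre_d IH (LK LD1_c8 LD2_c9 LD3_c23) (LK LD1_c15 LD2_c21 LD3_c48) Lrfl Lrfl
theorem f341485 : Led Lsl_bf (LP (LK LD1_c19 LD2_c53 LD3_c21)) = (LP (LK LD1_c15 LD2_c21 LD3_c48)) :=
  Lgr Lrot93 (Lpr_dt (f341484 IH) (Lpr_bt (f341482 IH) (Lpr_dt (f52414 IH) (Lpn (LP (LK LD1_c15 LD2_c21 LD3_c48))))))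
theorem f238373 : Led Lsl_bt (LP (LK LD1_c25 LD2_c13 LD3_c23)) = (LP (LK LD1_c15 LD2_c21 LD3_c51)) :=
  Lre_b IH (LK LD1_c25 LD2_c13 LD3_c23) (LK LD1_c15 LD2_c21 LD3_c51) Lrfl Lrfl
theorem f634963 : Led Lsl_ff (LP (LK LD1_c15 LD2_c21 LD3_c48)) = (LP (LK LD1_c15 LD2_c21 LD3_c51)) :=
  Lgr Lrot25 (Lpe (f341485 IH) (Lpr_ft (f634961 IH) (Lpr_bt (f238373 IH) (Lpn (LP (LK LD1_c15 LD2_c21 LD3_c51))))))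
theorem f247185 : Led Lsl_df (LP (LK LD1_c11 LD2_c8 LD3_c38)) = (LP (LK LD1_c9 LD2_c33 LD3_c55)) :=
  Lgr Lrot38 (Lpr_dt (K14.f247183 IH) (Lpn (LP (LK LD1_c9 LD2_c33 LD3_c55))))
theorem f354817 : Led Lsl_gt (LP (LK LD1_c11 LD2_c8 LD3_c38)) = (LP (LK LD1_c15 LD2_c23 LD3_c20)) :=
  Lgr Lrot112 (Lpr_df (f247185 IH) (Lpe (K14.f247187 IH) (Lpr_gf (K25.f328104 IH) (Lpe (K22.f315404 IH) (Lpr_dt (K25.f1560 IH) (Lpe (K25.f354770 IH) (Lpr_df (K25.f171356 IH) (Lpr_gf (K25.f354792 IH) (Lpe (K20.f299321 IH) (Lpr_dt (K19.f199261 IH) (Lpn (LP (LK LD1_c15 LD2_c23 LD3_c20)))))))))))))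
theorem f354029 : Led Lsl_df (LP (LK LD1_c15 LD2_c52 LD3_c41)) = (LP (LK LD1_c8 LD2_c27 LD3_c44)) :=
  Lgr Lrot38 (Lpr_dt (K25.f354027 IH) (Lpn (LP (LK LD1_c8 LD2_c27 LD3_c44))))
theorem f354821 : Led Lsl_gf (LP (LK LD1_c11 LD2_c8 LD3_c37)) = (LP (LK LD1_c15 LD2_c52 LD3_c41)) :=
  Lgr Lrot134 (Lpe (K21.f224240 IH) (Lpr_et (K14.f238344 IH) (Lpr_gt (f354817 IH) (Lpr_ef (K19.f237944 IH) (Lpr_dt (K25.f299318 IH) (Lpe (K25.f354035 IH) (Lpe (K19.f309956 IH) (Lpr_et (K20.f312202 IH) (Lpr_gt (K25.f354033 IH) (Lpe (f354029 IH) (Lpn (LP (LK LD1_c15 LD2_c52 LD3_c41)))))))))))))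
theorem f324274 : Led Lsl_ct (LP (LK LD1_c5 LD2_c38 LD3_c52)) = (LP (LK LD1_c8 LD2_c9 LD3_c26)) :=
  Lgr Lrot91 (Lpe (K14.f224238 IH) (Lpe (K18.f27419 IH) (Lpe (K21.f183792 IH) (Lpr_gf (K21.f324272 IH) (Lpe (K21.f324006 IH) (Lpe (K23.f324065 IH) (Lpe (K14.f28095 IH) (Lpe (K9.f27983 IH) (Lpr_ct (K21.f27989 IH) (Lpe (K23.f28008 IH) (Lpn (LP (LK LD1_c8 LD2_c9 LD3_c26)))))))))))))
theorem f354823 : Led Lsl_gf (LP (LK LD1_c15 LD2_c21 LD3_c54)) = (LP (LK LD1_c25 LD2_c13 LD3_c25)) :=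
  Lgr Lrot143 (Lpr_dt (K24.f52365 IH) (Lpe (f324274 IH) (Lpe (K14.f194682 IH) (Lpr_gf (f354821 IH) (Lpr_df (f354029 IH) (Lpe (K25.f354033 IH) (Lpe (K20.f224248 IH) (Lpe (K25.f323702 IH) (Lpr_dt (K22.f238358 IH) (Lpn (LP (LK LD1_c25 LD2_c13 LD3_c25))))))))))))
theorem f634969 : Led Lsl_at (LP (LK LD1_c15 LD2_c21 LD3_c48)) = (LP (LK LD1_c15 LD2_c21 LD3_c54)) :=
  Lgr Lrot26 (Lpr_ff (f634963 IH) (Lpr_gt (K22.f53012 IH) (Lpe (f354823 IH) (Lpn (LP (LK LD1_c15 LD2_c21 LD3_c54))))))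
theorem f634975 : Led Lsl_af (LP (LK LD1_c8 LD2_c9 LD3_c23)) = (LP (LK LD1_c8 LD2_c9 LD3_c26)) :=
  Lgr Lrot117 (Lpr_dt (f52414 IH) (Lpr_at (f634969 IH) (Lpr_dt (K24.f52365 IH) (Lpn (LP (LK LD1_c8 LD2_c9 LD3_c26))))))
theorem f634997 : Led Lsl_ft (LP (LK LD1_c8 LD2_c9 LD3_c22)) = (LP (LK LD1_c8 LD2_c9 LD3_c26)) :=
  Lgr Lrot2 (Lpr_gt (K20.f52998 IH) (Lpe (K22.f52412 IH) (Lpr_af (f634975 IH) (Lpn (LP (LK LD1_c8 LD2_c9 LD3_c26))))))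
theorem f635005 : Led Lsl_ff (LP (LK LD1_c8 LD2_c9 LD3_c22)) = (LP (LK LD1_c8 LD2_c9 LD3_c26)) :=
  Lgr Lrot3 (Lpr_ft (f634997 IH) (Lpn (LP (LK LD1_c8 LD2_c9 LD3_c26))))
theorem f52608 : Led Lsl_dt (LP (LK LD1_c8 LD2_c9 LD3_c22)) = (LP (LK LD1_c15 LD2_c21 LD3_c46)) :=
  Lre_d IH (LK LD1_c8 LD2_c9 LD3_c22) (LK LD1_c15 LD2_c21 LD3_c46) Lrfl Lrfl
theorem f635011 : Led Lsl_ft (LP (LK LD1_c15 LD2_c21 LD3_c46)) = (LP (LK LD1_c15 LD2_c21 LD3_c54)) :=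
  Lgr Lrot54 (Lpe (f52608 IH) (Lpr_ff (f635005 IH) (Lpe (K24.f52365 IH) (Lpn (LP (LK LD1_c15 LD2_c21 LD3_c54))))))
theorem f312230 : Led Lsl_ct (LP (LK LD1_c25 LD2_c13 LD3_c19)) = (LP (LK LD1_c15 LD2_c21 LD3_c46)) :=
  Lre_c IH (LK LD1_c25 LD2_c13 LD3_c19) (LK LD1_c15 LD2_c21 LD3_c46) Lrfl Lrfl
theorem f52985 : Led Lsl_ct (LP (LK LD1_c15 LD2_c21 LD3_c54)) = (LP (LK LD1_c25 LD2_c13 LD3_c31)) :=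
  Lre_c IH (LK LD1_c15 LD2_c21 LD3_c54) (LK LD1_c25 LD2_c13 LD3_c31) Lrfl Lrfl
theorem f635015 : Led Lsl_ff (LP (LK LD1_c25 LD2_c13 LD3_c19)) = (LP (LK LD1_c25 LD2_c13 LD3_c31)) :=
  Lgr Lrot23 (Lpr_ct (f312230 IH) (Lpr_ft (f635011 IH) (Lpr_ct (f52985 IH) (Lpn (LP (LK LD1_c25 LD2_c13 LD3_c31))))))
theorem f635021 : Led Lsl_ft (LP (LK LD1_c25 LD2_c13 LD3_c19)) = (LP (LK LD1_c25 LD2_c13 LD3_c31)) :=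
  Lgr Lrot48 (Lpr_ff (f635015 IH) (Lpn (LP (LK LD1_c25 LD2_c13 LD3_c31))))
theorem f52416 : Led Lsl_ct (LP (LK LD1_c25 LD2_c13 LD3_c21)) = (LP (LK LD1_c15 LD2_c21 LD3_c48)) :=
  Lre_c IH (LK LD1_c25 LD2_c13 LD3_c21) (LK LD1_c15 LD2_c21 LD3_c48) Lrfl Lrfl
theorem f634973 : Led Lsl_af (LP (LK LD1_c25 LD2_c13 LD3_c21)) = (LP (LK LD1_c25 LD2_c13 LD3_c31)) :=
  Lgr Lrot68 (Lpr_ct (f52416 IH) (Lpr_at (f634969 IH) (Lpr_ct (f52985 IH) (Lpn (LP (LK LD1_c25 LD2_c13 LD3_c31))))))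
theorem f52415 : Led Lsl_ct (LP (LK LD1_c15 LD2_c21 LD3_c48)) = (LP (LK LD1_c25 LD2_c13 LD3_c21)) :=
  Lre_c IH (LK LD1_c15 LD2_c21 LD3_c48) (LK LD1_c25 LD2_c13 LD3_c21) Lrfl Lrfl
theorem f238371 : Led Lsl_ct (LP (LK LD1_c25 LD2_c13 LD3_c27)) = (LP (LK LD1_c15 LD2_c21 LD3_c51)) :=
  Lre_c IH (LK LD1_c25 LD2_c13 LD3_c27) (LK LD1_c15 LD2_c21 LD3_c51) Lrfl Lrfl
theorem f634965 : Led Lsl_ft (LP (LK LD1_c25 LD2_c13 LD3_c21)) = (LP (LK LD1_c25 LD2_c13 LD3_c27)) :=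
  Lgr Lrot4 (Lpe (f52415 IH) (Lpr_ff (f634963 IH) (Lpe (f238371 IH) (Lpn (LP (LK LD1_c25 LD2_c13 LD3_c27))))))
theorem f635023 : Led Lsl_af (LP (LK LD1_c25 LD2_c13 LD3_c19)) = (LP (LK LD1_c25 LD2_c13 LD3_c27)) :=
  Lgr Lrot45 (Lpr_ft (f635021 IH) (Lpe (f634973 IH) (Lpr_ft (f634965 IH) (Lpn (LP (LK LD1_c25 LD2_c13 LD3_c27))))))
theorem f238372 : Led Lsl_ct (LP (LK LD1_c15 LD2_c21 LD3_c51)) = (LP (LK LD1_c25 LD2_c13 LD3_c27)) :=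
  Lre_c IH (LK LD1_c15 LD2_c21 LD3_c51) (LK LD1_c25 LD2_c13 LD3_c27) Lrfl Lrfl
theorem f635027 : Led Lsl_at (LP (LK LD1_c15 LD2_c21 LD3_c46)) = (LP (LK LD1_c15 LD2_c21 LD3_c51)) :=
  Lgr Lrot107 (Lpe (f312230 IH) (Lpr_af (f635023 IH) (Lpe (f238372 IH) (Lpn (LP (LK LD1_c15 LD2_c21 LD3_c51))))))
theorem f226800 : Led Lsl_et (LP (LK LD1_c25 LD2_c13 LD3_c20)) = (LP (LK LD1_c15 LD2_c21 LD3_c46)) :=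
  Lre_e IH (LK LD1_c25 LD2_c13 LD3_c20) (LK LD1_c15 LD2_c21 LD3_c46) Lrfl Lrfl
theorem f53016 : Led Lsl_et (LP (LK LD1_c15 LD2_c21 LD3_c51)) = (LP (LK LD1_c25 LD2_c13 LD3_c28)) :=
  Lre_e IH (LK LD1_c15 LD2_c21 LD3_c51) (LK LD1_c25 LD2_c13 LD3_c28) Lrfl Lrfl
theorem f635029 : Led Lsl_af (LP (LK LD1_c25 LD2_c13 LD3_c20)) = (LP (LK LD1_c25 LD2_c13 LD3_c28)) :=
  Lgr Lrot50 (Lpr_et (f226800 IH) (Lpr_at (f635027 IH) (Lpr_et (f53016 IH) (Lpn (LP (LK LD1_c25 LD2_c13 LD3_c28))))))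
theorem f53000 : Led Lsl_dt (LP (LK LD1_c15 LD2_c21 LD3_c46)) = (LP (LK LD1_c8 LD2_c9 LD3_c22)) :=
  Lre_d IH (LK LD1_c15 LD2_c21 LD3_c46) (LK LD1_c8 LD2_c9 LD3_c22) Lrfl Lrfl
theorem f226801 : Led Lsl_et (LP (LK LD1_c25 LD2_c8 LD3_c43)) = (LP (LK LD1_c31 LD2_c47 LD3_c29)) :=
  Lre_e IH (LK LD1_c25 LD2_c8 LD3_c43) (LK LD1_c31 LD2_c47 LD3_c29) Lrfl Lrfl
theorem f226802 : Led Lsl_df (LP (LK LD1_c25 LD2_c13 LD3_c20)) = (LP (LK LD1_c31 LD2_c47 LD3_c29)) :=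
  Lgr Lrot70 (Lpr_et (f226800 IH) (Lpr_dt (f53000 IH) (Lpr_et (K22.f226799 IH) (Lpr_dt (K22.f226790 IH) (Lpr_et (f226801 IH) (Lpn (LP (LK LD1_c31 LD2_c47 LD3_c29))))))))
theorem f226806 : Led Lsl_dt (LP (LK LD1_c25 LD2_c13 LD3_c20)) = (LP (LK LD1_c31 LD2_c47 LD3_c29)) :=
  Lgr Lrot42 (Lpr_df (f226802 IH) (Lpn (LP (LK LD1_c31 LD2_c47 LD3_c29))))
theorem f244380 : Led Lsl_et (LP (LK LD1_c20 LD2_c2 LD3_c53)) = (LP (LK LD1_c29 LD2_c16 LD3_c20)) :=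
  Lre_e IH (LK LD1_c20 LD2_c2 LD3_c53) (LK LD1_c29 LD2_c16 LD3_c20) Lrfl Lrfl
theorem f53010 : Led Lsl_dt (LP (LK LD1_c15 LD2_c21 LD3_c51)) = (LP (LK LD1_c8 LD2_c9 LD3_c25)) :=
  Lre_d IH (LK LD1_c15 LD2_c21 LD3_c51) (LK LD1_c8 LD2_c9 LD3_c25) Lrfl Lrfl
theorem f238374 : Led Lsl_et (LP (LK LD1_c25 LD2_c13 LD3_c28)) = (LP (LK LD1_c15 LD2_c21 LD3_c51)) :=
  Lre_e IH (LK LD1_c25 LD2_c13 LD3_c28) (LK LD1_c15 LD2_c21 LD3_c51) Lrfl Lrfl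
theorem f244381 : Led Lsl_dt (LP (LK LD1_c29 LD2_c16 LD3_c20)) = (LP (LK LD1_c25 LD2_c13 LD3_c28)) :=
  Lgr Lrot77 (Lpe (f244380 IH) (Lpr_df (K21.f244351 IH) (Lpe (K21.f238367 IH) (Lpe (f53010 IH) (Lpe (f238374 IH) (Lpn (LP (LK LD1_c25 LD2_c13 LD3_c28))))))))
theorem f635033 : Led Lsl_at (LP (LK LD1_c31 LD2_c47 LD3_c29)) = (LP (LK LD1_c29 LD2_c16 LD3_c20)) :=
  Lgr Lrot51 (Lpe (f226806 IH) (Lpr_af (f635029 IH) (Lpe (f244381 IH) (Lpn (LP (LK LD1_c29 LD2_c16 LD3_c20))))))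
theorem f244388 : Led Lsl_et (LP (LK LD1_c29 LD2_c16 LD3_c20)) = (LP (LK LD1_c20 LD2_c2 LD3_c53)) :=
  Lre_e IH (LK LD1_c29 LD2_c16 LD3_c20) (LK LD1_c20 LD2_c2 LD3_c53) Lrfl Lrfl
theorem f635037 : Led Lsl_af (LP (LK LD1_c25 LD2_c8 LD3_c43)) = (LP (LK LD1_c20 LD2_c2 LD3_c53)) :=
  Lgr Lrot50 (Lpr_et (f226801 IH) (Lpr_at (f635033 IH) (Lpr_et (f244388 IH) (Lpn (LP (LK LD1_c20 LD2_c2 LD3_c53))))))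
theorem f635045 : Led Lsl_ft (LP (LK LD1_c25 LD2_c8 LD3_c42)) = (LP (LK LD1_c20 LD2_c2 LD3_c53)) :=
  Lgr Lrot2 (Lpr_gt (K21.f296464 IH) (Lpe (K22.f296294 IH) (Lpr_af (f635037 IH) (Lpn (LP (LK LD1_c20 LD2_c2 LD3_c53))))))
theorem f635051 : Led Lsl_ff (LP (LK LD1_c25 LD2_c8 LD3_c42)) = (LP (LK LD1_c20 LD2_c2 LD3_c53)) :=
  Lgr Lrot3 (Lpr_ft (f635045 IH) (Lpn (LP (LK LD1_c20 LD2_c2 LD3_c53))))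
theorem f635057 : Led Lsl_at (LP (LK LD1_c25 LD2_c8 LD3_c42)) = (LP (LK LD1_c20 LD2_c2 LD3_c52)) :=
  Lgr Lrot26 (Lpr_ff (f635051 IH) (Lpr_gt (K21.f243953 IH) (Lpr_gt (K21.f244324 IH) (Lpn (LP (LK LD1_c20 LD2_c2 LD3_c52))))))
theorem f635039 : Led Lsl_at (LP (LK LD1_c25 LD2_c8 LD3_c43)) = (LP (LK LD1_c20 LD2_c2 LD3_c53)) :=
  Lgr Lrot100 (Lpr_af (f635037 IH) (Lpn (LP (LK LD1_c20 LD2_c2 LD3_c53))))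
theorem f635065 : Led Lsl_ff (LP (LK LD1_c25 LD2_c8 LD3_c43)) = (LP (LK LD1_c20 LD2_c2 LD3_c52)) :=
  Lgr Lrot30 (Lpr_at (f635039 IH) (Lpe (f635051 IH) (Lpr_at (f635057 IH) (Lpn (LP (LK LD1_c20 LD2_c2 LD3_c52))))))
theorem f635071 : Led Lsl_ft (LP (LK LD1_c25 LD2_c8 LD3_c43)) = (LP (LK LD1_c20 LD2_c2 LD3_c52)) :=
  Lgr Lrot48 (Lpr_ff (f635065 IH) (Lpn (LP (LK LD1_c20 LD2_c2 LD3_c52))))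
theorem f327430 : Led Lsl_df (LP (LK LD1_c18 LD2_c28 LD3_c31)) = (LP (LK LD1_c20 LD2_c2 LD3_c52)) :=
  Lgr Lrot162 (Lpe (K21.f296845 IH) (Lpe (K21.f327426 IH) (Lpr_cf (K21.f253133 IH) (Lpr_gf (K21.f327420 IH) (Lpe (K19.f201003 IH) (Lpr_gt (K19.f201002 IH) (Lpr_ct (K17.f201016 IH) (Lpr_gt (K21.f201017 IH) (Lpe (K21.f298525 IH) (Lpn (LP (LK LD1_c20 LD2_c2 LD3_c52))))))))))))
theorem f635075 : Led Lsl_ff (LP (LK LD1_c15 LD2_c21 LD3_c47)) = (LP (LK LD1_c18 LD2_c28 LD3_c31)) :=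
  Lgr Lrot19 (Lpr_dt (K22.f226790 IH) (Lpr_ft (f635071 IH) (Lpe (f327430 IH) (Lpn (LP (LK LD1_c18 LD2_c28 LD3_c31))))))
theorem f635081 : Led Lsl_ft (LP (LK LD1_c15 LD2_c21 LD3_c55)) = (LP (LK LD1_c17 LD2_c39 LD3_c31)) :=
  Lgr Lrot86 (Lpe (K24.f228378 IH) (Lpe (f634997 IH) (Lpe (K22.f53003 IH) (Lpr_ff (f635075 IH) (Lpe (K46.f327559 IH) (Lpn (LP (LK LD1_c17 LD2_c39 LD3_c31))))))))
theorem f228374 : Led Lsl_ct (LP (LK LD1_c20 LD2_c3 LD3_c29)) = (LP (LK LD1_c29 LD2_c16 LD3_c55)) :=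
  Lre_c IH (LK LD1_c20 LD2_c3 LD3_c29) (LK LD1_c29 LD2_c16 LD3_c55) Lrfl Lrfl
theorem f224911 : Led Lsl_ct (LP (LK LD1_c25 LD2_c15 LD3_c30)) = (LP (LK LD1_c15 LD2_c23 LD3_c17)) :=
  Lre_c IH (LK LD1_c25 LD2_c15 LD3_c30) (LK LD1_c15 LD2_c23 LD3_c17) Lrfl Lrfl
theorem f365999 : Led Lsl_ff (LP (LK LD1_c25 LD2_c15 LD3_c30)) = (LP (LK LD1_c20 LD2_c3 LD3_c51)) :=
  Lgr Lrot23 (Lpr_ct (f224911 IH) (Lpr_ft (K27.f365995 IH) (Lpr_ct (K27.f329598 IH) (Lpn (LP (LK LD1_c20 LD2_c3 LD3_c51))))))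
theorem f224893 : Led Lsl_ct (LP (LK LD1_c15 LD2_c23 LD3_c17)) = (LP (LK LD1_c25 LD2_c15 LD3_c30)) :=
  Lre_c IH (LK LD1_c15 LD2_c23 LD3_c17) (LK LD1_c25 LD2_c15 LD3_c30) Lrfl Lrfl
theorem f216581 : Led Lsl_ct (LP (LK LD1_c20 LD2_c3 LD3_c56)) = (LP (LK LD1_c11 LD2_c9 LD3_c32)) :=
  Lre_c IH (LK LD1_c20 LD2_c3 LD3_c56) (LK LD1_c11 LD2_c9 LD3_c32) Lrfl Lrfl
theorem f365989 : Led Lsl_at (LP (LK LD1_c25 LD2_c15 LD3_c30)) = (LP (LK LD1_c20 LD2_c3 LD3_c56)) :=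
  Lgr Lrot107 (Lpe (f224893 IH) (Lpr_af (K27.f365983 IH) (Lpe (f216581 IH) (Lpn (LP (LK LD1_c20 LD2_c3 LD3_c56))))))
theorem f228382 : Led Lsl_ct (LP (LK LD1_c29 LD2_c16 LD3_c55)) = (LP (LK LD1_c20 LD2_c3 LD3_c29)) :=
  Lre_c IH (LK LD1_c29 LD2_c16 LD3_c55) (LK LD1_c20 LD2_c3 LD3_c29) Lrfl Lrfl
theorem f365785 : Led Lsl_gf (LP (LK LD1_c20 LD2_c3 LD3_c56)) = (LP (LK LD1_c29 LD2_c16 LD3_c55)) :=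
  Lgr Lrot144 (Lpe (K27.f365772 IH) (Lpr_gt (K27.f365780 IH) (Lpr_dt (K25.f314969 IH) (Lpe (K24.f238598 IH) (Lpe (K19.f228287 IH) (Lpe (K19.f228279 IH) (Lpe (K24.f228312 IH) (Lpr_gf (K24.f350222 IH) (Lpe (f228382 IH) (Lpn (LP (LK LD1_c29 LD2_c16 LD3_c55))))))))))))
theorem f377760 : Led Lsl_gf (LP (LK LD1_c29 LD2_c16 LD3_c55)) = (LP (LK LD1_c20 LD2_c3 LD3_c51)) :=
  Lgr Lrot47 (Lpe (f365785 IH) (Lpe (f365989 IH) (Lpr_ff (f365999 IH) (Lpn (LP (LK LD1_c20 LD2_c3 LD3_c51))))))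
theorem f365835 : Led Lsl_gf (LP (LK LD1_c9 LD2_c38 LD3_c56)) = (LP (LK LD1_c8 LD2_c18 LD3_c34)) :=
  Lgr Lrot47 (Lpr_gt (K27.f365833 IH) (Lpr_af (K25.f291178 IH) (Lpe (K27.f364874 IH) (Lpn (LP (LK LD1_c8 LD2_c18 LD3_c34))))))
theorem f355232 : Led Lsl_dt (LP (LK LD1_c9 LD2_c38 LD3_c56)) = (LP (LK LD1_c17 LD2_c45 LD3_c9)) :=
  Lre_d IH (LK LD1_c9 LD2_c38 LD3_c56) (LK LD1_c17 LD2_c45 LD3_c9) Lrfl Lrfl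
theorem f355231 : Led Lsl_ct (LP (LK LD1_c27 LD2_c31 LD3_c36)) = (LP (LK LD1_c17 LD2_c45 LD3_c9)) :=
  Lre_c IH (LK LD1_c27 LD2_c31 LD3_c36) (LK LD1_c17 LD2_c45 LD3_c9) Lrfl Lrfl
theorem f377762 : Led Lsl_dt (LP (LK LD1_c29 LD2_c16 LD3_c55)) = (LP (LK LD1_c27 LD2_c31 LD3_c36)) :=
  Lgr Lrot105 (Lpr_gf (f377760 IH) (Lpr_df (K27.f365931 IH) (Lpe (K27.f365935 IH) (Lpr_cf (K25.f314971 IH) (Lpe (K23.f346612 IH) (Lpr_dt (K23.f216618 IH) (Lpe (f365835 IH) (Lpr_dt (f355232 IH) (Lpe (f355231 IH) (Lpn (LP (LK LD1_c27 LD2_c31 LD3_c36))))))))))))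
theorem f331163 : Led Lsl_dt (LP (LK LD1_c17 LD2_c45 LD3_c9)) = (LP (LK LD1_c9 LD2_c38 LD3_c56)) :=
  Lre_d IH (LK LD1_c17 LD2_c45 LD3_c9) (LK LD1_c9 LD2_c38 LD3_c56) Lrfl Lrfl
theorem f635091 : Led Lsl_af (LP (LK LD1_c17 LD2_c45 LD3_c10)) = (LP (LK LD1_c17 LD2_c39 LD3_c31)) :=
  Lgr Lrot109 (Lpe (K27.f355204 IH) (Lpe (K25.f355225 IH) (Lpe (K27.f331162 IH) (Lpe (f331163 IH) (Lpe (f355231 IH) (Lpe (f377762 IH) (Lpe (f228374 IH) (Lpr_df (K24.f228272 IH) (Lpr_ft (f635081 IH) (Lpn (LP (LK LD1_c17 LD2_c39 LD3_c31))))))))))))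
theorem f635095 : Led Lsl_at (LP (LK LD1_c9 LD2_c38 LD3_c57)) = (LP (LK LD1_c9 LD2_c35 LD3_c21)) :=
  Lgr Lrot107 (Lpe (K26.f355222 IH) (Lpr_af (f635091 IH) (Lpe (K26.f171066 IH) (Lpn (LP (LK LD1_c9 LD2_c35 LD3_c21))))))
theorem f355203 : Led Lsl_bt (LP (LK LD1_c9 LD2_c38 LD3_c57)) = (LP (LK LD1_c4 LD2_c53 LD3_c26)) :=
  Lre_b IH (LK LD1_c9 LD2_c38 LD3_c57) (LK LD1_c4 LD2_c53 LD3_c26) Lrfl Lrfl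
theorem f634549 : Led Lsl_ff (LP (LK LD1_c9 LD2_c38 LD3_c57)) = (LP (LK LD1_c8 LD2_c28 LD3_c39)) :=
  Lgr Lrot25 (Lpr_bt (f355203 IH) (Lpr_ft (f634547 IH) (Lpr_bt (K23.f309896 IH) (Lpn (LP (LK LD1_c8 LD2_c28 LD3_c39))))))
theorem f635085 : Led Lsl_ff (LP (LK LD1_c11 LD2_c8 LD3_c38)) = (LP (LK LD1_c9 LD2_c35 LD3_c21)) :=
  Lgr Lrot23 (Lpe (K27.f328706 IH) (Lpr_ft (f635081 IH) (Lpr_ct (K25.f224913 IH) (Lpn (LP (LK LD1_c9 LD2_c35 LD3_c21))))))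
theorem f635173 : Led Lsl_af (LP (LK LD1_c8 LD2_c28 LD3_c39)) = (LP (LK LD1_c11 LD2_c8 LD3_c38)) :=
  Lgr Lrot45 (Lpe (f634549 IH) (Lpr_at (f635095 IH) (Lpe (f635085 IH) (Lpn (LP (LK LD1_c11 LD2_c8 LD3_c38))))))
theorem f635175 : Led Lsl_at (LP (LK LD1_c4 LD2_c51 LD3_c37)) = (LP (LK LD1_c9 LD2_c33 LD3_c55)) :=
  Lgr Lrot51 (Lpr_df (K19.f291026 IH) (Lpr_af (f635173 IH) (Lpr_df (f247185 IH) (Lpn (LP (LK LD1_c9 LD2_c33 LD3_c55))))))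
theorem f365854 : Led Lsl_gt (LP (LK LD1_c4 LD2_c51 LD3_c38)) = (LP (LK LD1_c9 LD2_c33 LD3_c55)) :=
  Lgr Lrot146 (Lpr_dt (K27.f365837 IH) (Lpr_gt (K26.f314961 IH) (Lpr_ct (K25.f314954 IH) (Lpr_gt (K26.f332763 IH) (Lpr_ct (K24.f228308 IH) (Lpr_dt (K15.f238549 IH) (Lpe (K26.f216628 IH) (Lpe (K21.f216611 IH) (Lpe (K21.f216612 IH) (Lpn (LP (LK LD1_c9 LD2_c33 LD3_c55))))))))))))
theorem f635181 : Led Lsl_ff (LP (LK LD1_c4 LD2_c51 LD3_c37)) = (LP (LK LD1_c4 LD2_c53 LD3_c25)) :=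
  Lgr Lrot52 (Lpr_at (f635175 IH) (Lpe (f365854 IH) (Lpr_gf (K27.f365770 IH) (Lpn (LP (LK LD1_c4 LD2_c53 LD3_c25))))))
theorem f635189 : Led Lsl_ft (LP (LK LD1_c4 LD2_c51 LD3_c37)) = (LP (LK LD1_c4 LD2_c53 LD3_c25)) :=
  Lgr Lrot48 (Lpr_ff (f635181 IH) (Lpn (LP (LK LD1_c4 LD2_c53 LD3_c25))))
theorem f635193 : Led Lsl_af (LP (LK LD1_c4 LD2_c51 LD3_c36)) = (LP (LK LD1_c4 LD2_c53 LD3_c25)) :=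
  Lgr Lrot31 (Lpe (K22.f171064 IH) (Lpe (K19.f171080 IH) (Lpr_ft (f635189 IH) (Lpn (LP (LK LD1_c4 LD2_c53 LD3_c25))))))
def v4523 : LQ := Led Lsl_ft (LP (LK LD1_c2 LD2_c23 LD3_c52))
theorem f634372 : Led Lsl_ft (LP (LK LD1_c2 LD2_c23 LD3_c52)) = v4523 :=
  Lrfl
theorem f634452 : (LP (LK LD1_c2 LD2_c24 LD3_c31)) = v4523 :=
  Lefun (Lecon (Lfl_ff (f634404 IH)) (f634446 IH)) (f634372 IH)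
theorem f634374 : Led Lsl_ff (LP (LK LD1_c2 LD2_c23 LD3_c52)) = v4523 :=
  Lgr Lrot3 (Lpr_ft (f634372 IH) (Lpn v4523))
def v4522 : LQ := Led Lsl_at (LP (LK LD1_c2 LD2_c23 LD3_c52))
theorem f634368 : Led Lsl_at (LP (LK LD1_c2 LD2_c23 LD3_c52)) = v4522 :=
  Lrfl
theorem f634369 : Led Lsl_af (LP (LK LD1_c2 LD2_c23 LD3_c52)) = v4522 :=
  Lgr Lrot0 (Lpr_at (f634368 IH) (Lpn v4522))
theorem f634370 : Led Lsl_ft (LP (LK LD1_c2 LD2_c23 LD3_c53)) = v4522 :=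
  Lgr Lrot2 (Lpr_gt (K19.f306906 IH) (Lpr_gt (K20.f274520 IH) (Lpr_af (f634369 IH) (Lpn v4522))))
theorem f634371 : Led Lsl_ff (LP (LK LD1_c2 LD2_c23 LD3_c53)) = v4522 :=
  Lgr Lrot3 (Lpr_ft (f634370 IH) (Lpn v4522))
theorem f634375 : Led Lsl_at (LP (LK LD1_c2 LD2_c23 LD3_c53)) = v4523 :=
  Lgr Lrot66 (Lpr_ff (f634371 IH) (Lpe (f634368 IH) (Lpr_ff (f634374 IH) (Lpn v4523))))
theorem f309900 : Led Lsl_bf (LP (LK LD1_c2 LD2_c23 LD3_c53)) = (LP (LK LD1_c4 LD2_c51 LD3_c37)) :=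
  Lgr Lrot24 (Lpr_bt (K19.f309898 IH) (Lpn (LP (LK LD1_c4 LD2_c51 LD3_c37))))
theorem f634846 : Led Lsl_af (LP (LK LD1_c4 LD2_c51 LD3_c37)) = (LP (LK LD1_c9 LD2_c33 LD3_c55)) :=
  Lgr Lrot36 (Lpe (f309900 IH) (Lpr_at (f634375 IH) (Lpq (f634452 IH) (Lpr_bt (K26.f335712 IH) (Lpr_at (f634842 IH) (Lpe (K30.f323360 IH) (Lpn (LP (LK LD1_c9 LD2_c33 LD3_c55)))))))))
theorem f635199 : Led Lsl_ft (LP (LK LD1_c4 LD2_c51 LD3_c36)) = (LP (LK LD1_c9 LD2_c33 LD3_c55)) :=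
  Lgr Lrot101 (Lpr_af (f635193 IH) (Lpe (f635189 IH) (Lpr_af (f634846 IH) (Lpn (LP (LK LD1_c9 LD2_c33 LD3_c55))))))
theorem f635201 : Led Lsl_ff (LP (LK LD1_c9 LD2_c35 LD3_c20)) = (LP (LK LD1_c15 LD2_c37 LD3_c45)) :=
  Lgr Lrot23 (Lpr_ct (K23.f327518 IH) (Lpr_ft (f635199 IH) (Lpr_ct (K21.f216612 IH) (Lpn (LP (LK LD1_c15 LD2_c37 LD3_c45))))))
theorem f635205 : Led Lsl_ft (LP (LK LD1_c9 LD2_c35 LD3_c20)) = (LP (LK LD1_c15 LD2_c37 LD3_c45)) :=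
  Lgr Lrot48 (Lpr_ff (f635201 IH) (Lpn (LP (LK LD1_c15 LD2_c37 LD3_c45))))
theorem f224903 : Led Lsl_ct (LP (LK LD1_c9 LD2_c35 LD3_c22)) = (LP (LK LD1_c4 LD2_c51 LD3_c37)) :=
  Lre_c IH (LK LD1_c9 LD2_c35 LD3_c22) (LK LD1_c4 LD2_c51 LD3_c37) Lrfl Lrfl
theorem f635177 : Led Lsl_af (LP (LK LD1_c9 LD2_c35 LD3_c22)) = (LP (LK LD1_c15 LD2_c37 LD3_c45)) :=
  Lgr Lrot68 (Lpr_ct (f224903 IH) (Lpr_at (f635175 IH) (Lpr_ct (K21.f216612 IH) (Lpn (LP (LK LD1_c15 LD2_c37 LD3_c45))))))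
theorem f635185 : Led Lsl_ft (LP (LK LD1_c9 LD2_c35 LD3_c22)) = (LP (LK LD1_c9 LD2_c38 LD3_c56)) :=
  Lgr Lrot4 (Lpe (K19.f224905 IH) (Lpr_ff (f635181 IH) (Lpe (K27.f331162 IH) (Lpn (LP (LK LD1_c9 LD2_c38 LD3_c56))))))
theorem f635207 : Led Lsl_af (LP (LK LD1_c9 LD2_c35 LD3_c20)) = (LP (LK LD1_c9 LD2_c38 LD3_c56)) :=
  Lgr Lrot45 (Lpr_ft (f635205 IH) (Lpe (f635177 IH) (Lpr_ft (f635185 IH) (Lpn (LP (LK LD1_c9 LD2_c38 LD3_c56))))))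
theorem f323996 : Led Lsl_bt (LP (LK LD1_c2 LD2_c24 LD3_c30)) = (LP (LK LD1_c4 LD2_c53 LD3_c25)) :=
  Lre_b IH (LK LD1_c2 LD2_c24 LD3_c30) (LK LD1_c4 LD2_c53 LD3_c25) Lrfl Lrfl
theorem f378300 : Led Lsl_et (LP (LK LD1_c4 LD2_c53 LD3_c25)) = (LP (LK LD1_c4 LD2_c52 LD3_c28)) :=
  Lgr Lrot74 (Lpe (f323996 IH) (Lpr_ef (K35.f378298 IH) (Lpe (K49.f306969 IH) (Lpn (LP (LK LD1_c4 LD2_c52 LD3_c28))))))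
theorem f378323 : Led Lsl_et (LP (LK LD1_c8 LD2_c41 LD3_c37)) = (LP (LK LD1_c9 LD2_c38 LD3_c56)) :=
  Lgr Lrot158 (Lpr_cf (K49.f378316 IH) (Lpe (f378300 IH) (Lpe (K27.f331162 IH) (Lpn (LP (LK LD1_c9 LD2_c38 LD3_c56))))))
theorem f635211 : Led Lsl_at (LP (LK LD1_c9 LD2_c37 LD3_c60)) = (LP (LK LD1_c8 LD2_c41 LD3_c37)) :=
  Lgr Lrot80 (Lpr_ef (K23.f327514 IH) (Lpr_af (f635207 IH) (Lpe (f378323 IH) (Lpn (LP (LK LD1_c8 LD2_c41 LD3_c37))))))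
theorem f307186 : Led Lsl_ct (LP (LK LD1_c2 LD2_c23 LD3_c57)) = (LP (LK LD1_c4 LD2_c52 LD3_c23)) :=
  Lre_c IH (LK LD1_c2 LD2_c23 LD3_c57) (LK LD1_c4 LD2_c52 LD3_c23) Lrfl Lrfl
theorem f278819 : Led Lsl_gt (LP (LK LD1_c4 LD2_c52 LD3_c23)) = (LP (LK LD1_c9 LD2_c37 LD3_c2)) :=
  Lre_g IH (LK LD1_c4 LD2_c52 LD3_c23) (LK LD1_c9 LD2_c37 LD3_c2) Lrfl Lrfl
theorem f341760 : Led Lsl_bf (LP (LK LD1_c4 LD2_c21 LD3_c59)) = (LP (LK LD1_c8 LD2_c19 LD3_c0)) :=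
  Lgr Lrot24 (Lpr_bt (K24.f341758 IH) (Lpn (LP (LK LD1_c8 LD2_c19 LD3_c0))))
theorem f372441 : Led Lsl_cf (LP (LK LD1_c9 LD2_c37 LD3_c2)) = (LP (LK LD1_c8 LD2_c19 LD3_c0)) :=
  Lgr Lrot163 (Lpe (f278819 IH) (Lpe (f307186 IH) (Lpe (K21.f305955 IH) (Lpe (K27.f307176 IH) (Lpr_ct (K27.f371090 IH) (Lpe (K24.f349925 IH) (Lpe (K16.f49056 IH) (Lpr_bt (K15.f229753 IH) (Lpe (K23.f330273 IH) (Lpr_bf (f341760 IH) (Lpn (LP (LK LD1_c8 LD2_c19 LD3_c0)))))))))))))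
theorem f229756 : Led Lsl_bt (LP (LK LD1_c25 LD2_c53 LD3_c47)) = (LP (LK LD1_c15 LD2_c57 LD3_c27)) :=
  Lre_b IH (LK LD1_c25 LD2_c53 LD3_c47) (LK LD1_c15 LD2_c57 LD3_c27) Lrfl Lrfl
theorem f229818 : Led Lsl_ct (LP (LK LD1_c7 LD2_c55 LD3_c50)) = (LP (LK LD1_c9 LD2_c38 LD3_c15)) :=
  Lgr Lrot83 (Lpe (K15.f229753 IH) (Lpe (K26.f49061 IH) (Lpe (f229756 IH) (Lpr_cf (K16.f229808 IH) (Lpe (K16.f229817 IH) (Lpn (LP (LK LD1_c9 LD2_c38 LD3_c15))))))))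
theorem f378325 : Led Lsl_gf (LP (LK LD1_c8 LD2_c41 LD3_c37)) = (LP (LK LD1_c9 LD2_c38 LD3_c15)) :=
  Lgr Lrot129 (Lpr_cf (K49.f378316 IH) (Lpr_bt (K49.f306969 IH) (Lpr_gt (K35.f306963 IH) (Lpe (K21.f306966 IH) (Lpr_ct (f307186 IH) (Lpr_gt (f278819 IH) (Lpr_cf (f372441 IH) (Lpe (f341760 IH) (Lpr_gt (K23.f330273 IH) (Lpr_ct (f229818 IH) (Lpn (LP (LK LD1_c9 LD2_c38 LD3_c15)))))))))))))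
theorem f635219 : Led Lsl_ff (LP (LK LD1_c9 LD2_c37 LD3_c60)) = (LP (LK LD1_c8 LD2_c41 LD3_c36)) :=
  Lgr Lrot52 (Lpr_at (f635211 IH) (Lpr_gf (f378325 IH) (Lpe (K25.f269803 IH) (Lpn (LP (LK LD1_c8 LD2_c41 LD3_c36))))))
theorem f635229 : Led Lsl_ft (LP (LK LD1_c9 LD2_c37 LD3_c60)) = (LP (LK LD1_c8 LD2_c41 LD3_c36)) :=
  Lgr Lrot48 (Lpr_ff (f635219 IH) (Lpn (LP (LK LD1_c8 LD2_c41 LD3_c36))))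
theorem f635239 : Led Lsl_af (LP (LK LD1_c9 LD2_c37 LD3_c58)) = (LP (LK LD1_c8 LD2_c41 LD3_c36)) :=
  Lgr Lrot31 (Lpr_gf (K24.f349991 IH) (Lpr_gf (K23.f327528 IH) (Lpr_ft (f635229 IH) (Lpn (LP (LK LD1_c8 LD2_c41 LD3_c36))))))
theorem f635213 : Led Lsl_af (LP (LK LD1_c9 LD2_c37 LD3_c60)) = (LP (LK LD1_c8 LD2_c41 LD3_c37)) :=
  Lgr Lrot0 (Lpr_at (f635211 IH) (Lpn (LP (LK LD1_c8 LD2_c41 LD3_c37))))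
theorem f635247 : Led Lsl_ft (LP (LK LD1_c9 LD2_c37 LD3_c58)) = (LP (LK LD1_c8 LD2_c41 LD3_c37)) :=
  Lgr Lrot101 (Lpr_af (f635239 IH) (Lpe (f635229 IH) (Lpr_af (f635213 IH) (Lpn (LP (LK LD1_c8 LD2_c41 LD3_c37))))))
theorem f378321 : Led Lsl_ct (LP (LK LD1_c8 LD2_c41 LD3_c37)) = (LP (LK LD1_c4 LD2_c52 LD3_c28)) :=
  Lgr Lrot59 (Lpr_cf (K49.f378316 IH) (Lpn (LP (LK LD1_c4 LD2_c52 LD3_c28))))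
theorem f635249 : Led Lsl_ff (LP (LK LD1_c4 LD2_c53 LD3_c0)) = (LP (LK LD1_c4 LD2_c52 LD3_c28)) :=
  Lgr Lrot23 (Lpr_ct (K24.f237545 IH) (Lpr_ft (f635247 IH) (Lpr_ct (f378321 IH) (Lpn (LP (LK LD1_c4 LD2_c52 LD3_c28))))))
theorem f224887 : Led Lsl_et (LP (LK LD1_c9 LD2_c35 LD3_c23)) = (LP (LK LD1_c4 LD2_c51 LD3_c37)) :=
  Lre_e IH (LK LD1_c9 LD2_c35 LD3_c23) (LK LD1_c4 LD2_c51 LD3_c37) Lrfl Lrfl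
theorem f635263 : Led Lsl_ft (LP (LK LD1_c9 LD2_c37 LD3_c59)) = (LP (LK LD1_c9 LD2_c35 LD3_c23)) :=
  Lgr Lrot86 (Lpe (K21.f247218 IH) (Lpr_ff (f635249 IH) (Lpe (f378300 IH) (Lpe (f635189 IH) (Lpe (f224887 IH) (Lpn (LP (LK LD1_c9 LD2_c35 LD3_c23))))))))
theorem f635265 : Led Lsl_af (LP (LK LD1_c15 LD2_c22 LD3_c18)) = (LP (LK LD1_c9 LD2_c35 LD3_c23)) :=
  Lgr Lrot31 (Lpr_gf (K25.f328104 IH) (Lpe (K21.f328090 IH) (Lpr_ft (f635263 IH) (Lpn (LP (LK LD1_c9 LD2_c35 LD3_c23))))))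
theorem f635269 : Led Lsl_at (LP (LK LD1_c8 LD2_c9 LD3_c37)) = (LP (LK LD1_c5 LD2_c36 LD3_c26)) :=
  Lgr Lrot51 (Lpe (K14.f238343 IH) (Lpr_af (f635265 IH) (Lpe (K19.f309956 IH) (Lpn (LP (LK LD1_c5 LD2_c36 LD3_c26))))))
theorem f635277 : Led Lsl_ff (LP (LK LD1_c8 LD2_c9 LD3_c37)) = (LP (LK LD1_c5 LD2_c38 LD3_c60)) :=
  Lgr Lrot52 (Lpr_at (f635269 IH) (Lpr_gf (K19.f309963 IH) (Lpe (K18.f200454 IH) (Lpn (LP (LK LD1_c5 LD2_c38 LD3_c60))))))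
theorem f635287 : Led Lsl_ft (LP (LK LD1_c8 LD2_c9 LD3_c37)) = (LP (LK LD1_c5 LD2_c38 LD3_c60)) :=
  Lgr Lrot48 (Lpr_ff (f635277 IH) (Lpn (LP (LK LD1_c5 LD2_c38 LD3_c60))))
theorem f635293 : Led Lsl_af (LP (LK LD1_c8 LD2_c9 LD3_c38)) = (LP (LK LD1_c5 LD2_c38 LD3_c60)) :=
  Lgr Lrot31 (Lpr_gf (K22.f328094 IH) (Lpr_gf (K18.f297993 IH) (Lpr_ft (f635287 IH) (Lpn (LP (LK LD1_c5 LD2_c38 LD3_c60))))))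
theorem f635271 : Led Lsl_af (LP (LK LD1_c8 LD2_c9 LD3_c37)) = (LP (LK LD1_c5 LD2_c36 LD3_c26)) :=
  Lgr Lrot0 (Lpr_at (f635269 IH) (Lpn (LP (LK LD1_c5 LD2_c36 LD3_c26))))
theorem f635303 : Led Lsl_ft (LP (LK LD1_c8 LD2_c9 LD3_c38)) = (LP (LK LD1_c5 LD2_c36 LD3_c26)) :=
  Lgr Lrot101 (Lpr_af (f635293 IH) (Lpe (f635287 IH) (Lpr_af (f635271 IH) (Lpn (LP (LK LD1_c5 LD2_c36 LD3_c26))))))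
theorem f377458 : Led Lsl_et (LP (LK LD1_c10 LD2_c11 LD3_c30)) = (LP (LK LD1_c8 LD2_c9 LD3_c38)) :=
  Lgr Lrot71 (Lpr_df (K46.f377456 IH) (Lpe (K22.f328088 IH) (Lpe (K21.f328083 IH) (Lpe (K21.f247213 IH) (Lpe (K22.f247216 IH) (Lpn (LP (LK LD1_c8 LD2_c9 LD3_c38))))))))
theorem f169137 : Led Lsl_bt (LP (LK LD1_c9 LD2_c44 LD3_c29)) = (LP (LK LD1_c4 LD2_c56 LD3_c29)) :=
  Lre_b IH (LK LD1_c9 LD2_c44 LD3_c29) (LK LD1_c4 LD2_c56 LD3_c29) Lrfl Lrfl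
theorem f323758 : Led Lsl_bf (LP (LK LD1_c9 LD2_c53 LD3_c13)) = (LP (LK LD1_c5 LD2_c3 LD3_c14)) :=
  Lgr Lrot96 (Lpr_et (K21.f323756 IH) (Lpr_bt (f169137 IH) (Lpr_et (K21.f307045 IH) (Lpn (LP (LK LD1_c5 LD2_c3 LD3_c14))))))
theorem f634603 : Led Lsl_ft (LP (LK LD1_c9 LD2_c53 LD3_c13)) = (LP (LK LD1_c10 LD2_c11 LD3_c30)) :=
  Lgr Lrot75 (Lpr_bf (f323758 IH) (Lpr_ff (f634601 IH) (Lpe (K46.f307037 IH) (Lpn (LP (LK LD1_c10 LD2_c11 LD3_c30))))))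
theorem f635307 : Led Lsl_ff (LP (LK LD1_c9 LD2_c44 LD3_c29)) = (LP (LK LD1_c8 LD2_c28 LD3_c38)) :=
  Lgr Lrot72 (Lpe (K21.f323693 IH) (Lpr_ft (f634603 IH) (Lpr_et (f377458 IH) (Lpr_ft (f635303 IH) (Lpr_et (K20.f312202 IH) (Lpn (LP (LK LD1_c8 LD2_c28 LD3_c38))))))))
theorem f635313 : Led Lsl_at (LP (LK LD1_c9 LD2_c44 LD3_c29)) = (LP (LK LD1_c8 LD2_c28 LD3_c36)) :=
  Lgr Lrot26 (Lpr_ff (f635307 IH) (Lpr_gt (K25.f354033 IH) (Lpe (K22.f189384 IH) (Lpn (LP (LK LD1_c8 LD2_c28 LD3_c36))))))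
theorem f635319 : Led Lsl_af (LP (LK LD1_c9 LD2_c53 LD3_c13)) = (LP (LK LD1_c11 LD2_c4 LD3_c34)) :=
  Lgr Lrot50 (Lpr_et (K21.f323756 IH) (Lpr_at (f635313 IH) (Lpe (K19.f189278 IH) (Lpn (LP (LK LD1_c11 LD2_c4 LD3_c34))))))
theorem f377454 : Led Lsl_ef (LP (LK LD1_c10 LD2_c11 LD3_c30)) = (LP (LK LD1_c8 LD2_c9 LD3_c38)) :=
  Lgr Lrot17 (Lpr_gf (K46.f377450 IH) (Lpe (K24.f291033 IH) (Lpr_dt (K21.f193336 IH) (Lpr_gf (K23.f327987 IH) (Lpe (K22.f224914 IH) (Lpe (K22.f327521 IH) (Lpr_ef (K18.f200473 IH) (Lpr_dt (K22.f315402 IH) (Lpe (K21.f328090 IH) (Lpe (K22.f247216 IH) (Lpn (LP (LK LD1_c8 LD2_c9 LD3_c38)))))))))))))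
theorem f635301 : Led Lsl_at (LP (LK LD1_c10 LD2_c11 LD3_c30)) = (LP (LK LD1_c9 LD2_c53 LD3_c14)) :=
  Lgr Lrot80 (Lpr_ef (f377454 IH) (Lpr_af (f635293 IH) (Lpr_ef (K21.f313260 IH) (Lpn (LP (LK LD1_c9 LD2_c53 LD3_c14))))))
theorem f635327 : Led Lsl_ft (LP (LK LD1_c9 LD2_c53 LD3_c14)) = (LP (LK LD1_c11 LD2_c4 LD3_c34)) :=
  Lgr Lrot101 (Lpe (f635301 IH) (Lpe (f634603 IH) (Lpr_af (f635319 IH) (Lpn (LP (LK LD1_c11 LD2_c4 LD3_c34))))))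
theorem f635331 : Led Lsl_ff (LP (LK LD1_c11 LD2_c8 LD3_c37)) = (LP (LK LD1_c8 LD2_c28 LD3_c36)) :=
  Lgr Lrot72 (Lpe (K14.f238338 IH) (Lpr_ft (f635287 IH) (Lpr_et (K21.f313255 IH) (Lpr_ft (f635327 IH) (Lpr_et (K19.f189284 IH) (Lpn (LP (LK LD1_c8 LD2_c28 LD3_c36))))))))
theorem f635335 : Led Lsl_ft (LP (LK LD1_c20 LD2_c2 LD3_c9)) = (LP (LK LD1_c15 LD2_c55 LD3_c0)) :=
  Lgr Lrot4 (Lpe (K26.f224242 IH) (Lpr_ff (f635331 IH) (Lpe (K22.f27473 IH) (Lpn (LP (LK LD1_c15 LD2_c55 LD3_c0))))))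
theorem f635341 : Led Lsl_ff (LP (LK LD1_c20 LD2_c2 LD3_c9)) = (LP (LK LD1_c15 LD2_c55 LD3_c0)) :=
  Lgr Lrot3 (Lpr_ft (f635335 IH) (Lpn (LP (LK LD1_c15 LD2_c55 LD3_c0))))
theorem f359987 : Led Lsl_bt (LP (LK LD1_c10 LD2_c19 LD3_c61)) = (LP (LK LD1_c8 LD2_c27 LD3_c21)) :=
  Lgr Lrot127 (Lpr_bf (K26.f359985 IH) (Lpn (LP (LK LD1_c8 LD2_c27 LD3_c21))))
theorem f189893 : Led Lsl_ct (LP (LK LD1_c4 LD2_c19 LD3_c55)) = (LP (LK LD1_c8 LD2_c37 LD3_c44)) :=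
  Lre_c IH (LK LD1_c4 LD2_c19 LD3_c55) (LK LD1_c8 LD2_c37 LD3_c44) Lrfl Lrfl
theorem f314445 : Led Lsl_ft (LP (LK LD1_c8 LD2_c37 LD3_c44)) = (LP (LK LD1_c16 LD2_c9 LD3_c48)) :=
  Lre_f IH (LK LD1_c8 LD2_c37 LD3_c44) (LK LD1_c16 LD2_c9 LD3_c48) Lrfl Lrfl
theorem f350163 : Led Lsl_gt (LP (LK LD1_c8 LD2_c37 LD3_c44)) = (LP (LK LD1_c10 LD2_c1 LD3_c12)) :=
  Lgr Lrot5 (Lpr_ft (f314445 IH) (Lpe (K23.f348703 IH) (Lpr_gf (K24.f350161 IH) (Lpn (LP (LK LD1_c10 LD2_c1 LD3_c12))))))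
theorem f350323 : Led Lsl_bf (LP (LK LD1_c5 LD2_c25 LD3_c58)) = (LP (LK LD1_c5 LD2_c5 LD3_c1)) :=
  Lgr Lrot93 (Lpr_dt (K25.f340841 IH) (Lpr_bt (K24.f350317 IH) (Lpr_dt (K22.f194452 IH) (Lpn (LP (LK LD1_c5 LD2_c5 LD3_c1))))))
theorem f378791 : Led Lsl_gf (LP (LK LD1_c10 LD2_c43 LD3_c6)) = (LP (LK LD1_c15 LD2_c55 LD3_c11)) :=
  Lgr Lrot129 (Lpe (K27.f347956 IH) (Lpr_bt (f359987 IH) (Lpr_gt (K25.f27607 IH) (Lpr_bf (K19.f189929 IH) (Lpr_ct (f189893 IH) (Lpr_gt (f350163 IH) (Lpe (K24.f194463 IH) (Lpe (f350323 IH) (Lpr_gt (K25.f340845 IH) (Lpr_ct (K20.f231744 IH) (Lpn (LP (LK LD1_c15 LD2_c55 LD3_c11)))))))))))))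
theorem f257388 : Led Lsl_et (LP (LK LD1_c19 LD2_c24 LD3_c7)) = (LP (LK LD1_c10 LD2_c43 LD3_c6)) :=
  Lre_e IH (LK LD1_c19 LD2_c24 LD3_c7) (LK LD1_c10 LD2_c43 LD3_c6) Lrfl Lrfl
theorem f317962 : Led Lsl_gf (LP (LK LD1_c19 LD2_c29 LD3_c46)) = (LP (LK LD1_c20 LD2_c59 LD3_c59)) :=
  Lgr Lrot76 (Lpr_af (K25.f317946 IH) (Lpe (K25.f169559 IH) (Lpr_gt (K27.f261487 IH) (Lpn (LP (LK LD1_c20 LD2_c59 LD3_c59))))))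
theorem f317895 : Led Lsl_dt (LP (LK LD1_c19 LD2_c29 LD3_c46)) = (LP (LK LD1_c10 LD2_c46 LD3_c45)) :=
  Lre_d IH (LK LD1_c19 LD2_c29 LD3_c46) (LK LD1_c10 LD2_c46 LD3_c45) Lrfl Lrfl
theorem f310382 : Led Lsl_ct (LP (LK LD1_c11 LD2_c2 LD3_c16)) = (LP (LK LD1_c5 LD2_c35 LD3_c0)) :=
  Lre_c IH (LK LD1_c11 LD2_c2 LD3_c16) (LK LD1_c5 LD2_c35 LD3_c0) Lrfl Lrfl
theorem f336196 : Led Lsl_gf (LP (LK LD1_c19 LD2_c41 LD3_c5)) = (LP (LK LD1_c11 LD2_c2 LD3_c16)) :=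
  Lgr Lrot144 (Lpe (K27.f261508 IH) (Lpe (f317962 IH) (Lpr_dt (f317895 IH) (Lpe (K20.f317708 IH) (Lpr_df (K26.f317868 IH) (Lpr_gf (K23.f282684 IH) (Lpr_df (K23.f263003 IH) (Lpr_gf (K25.f336194 IH) (Lpe (f310382 IH) (Lpn (LP (LK LD1_c11 LD2_c2 LD3_c16))))))))))))
theorem f336206 : Led Lsl_et (LP (LK LD1_c5 LD2_c34 LD3_c60)) = (LP (LK LD1_c11 LD2_c2 LD3_c16)) :=
  Lre_e IH (LK LD1_c5 LD2_c34 LD3_c60) (LK LD1_c11 LD2_c2 LD3_c16) Lrfl Lrfl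
theorem f310360 : Led Lsl_dt (LP (LK LD1_c5 LD2_c34 LD3_c60)) = (LP (LK LD1_c11 LD2_c2 LD3_c15)) :=
  Lre_d IH (LK LD1_c5 LD2_c34 LD3_c60) (LK LD1_c11 LD2_c2 LD3_c15) Lrfl Lrfl
theorem f309792 : Led Lsl_gt (LP (LK LD1_c19 LD2_c53 LD3_c28)) = (LP (LK LD1_c11 LD2_c2 LD3_c15)) :=
  Lre_g IH (LK LD1_c19 LD2_c53 LD3_c28) (LK LD1_c11 LD2_c2 LD3_c15) Lrfl Lrfl
theorem f378797 : Led Lsl_dt (LP (LK LD1_c19 LD2_c24 LD3_c7)) = (LP (LK LD1_c19 LD2_c53 LD3_c28)) :=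
  Lgr Lrot136 (Lpr_et (f257388 IH) (Lpr_gf (f378791 IH) (Lpe (K20.f317890 IH) (Lpr_dt (K25.f317889 IH) (Lpr_gf (f317962 IH) (Lpr_df (K27.f261508 IH) (Lpr_gf (f336196 IH) (Lpe (f336206 IH) (Lpr_dt (f310360 IH) (Lpe (f309792 IH) (Lpn (LP (LK LD1_c19 LD2_c53 LD3_c28)))))))))))))
theorem f309791 : Led Lsl_dt (LP (LK LD1_c11 LD2_c2 LD3_c15)) = (LP (LK LD1_c5 LD2_c34 LD3_c60)) :=
  Lre_d IH (LK LD1_c11 LD2_c2 LD3_c15) (LK LD1_c5 LD2_c34 LD3_c60) Lrfl Lrfl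
theorem f317724 : Led Lsl_ct (LP (LK LD1_c19 LD2_c28 LD3_c25)) = (LP (LK LD1_c10 LD2_c46 LD3_c3)) :=
  Lre_c IH (LK LD1_c19 LD2_c28 LD3_c25) (LK LD1_c10 LD2_c46 LD3_c3) Lrfl Lrfl
theorem f378801 : Led Lsl_gf (LP (LK LD1_c19 LD2_c24 LD3_c7)) = (LP (LK LD1_c19 LD2_c28 LD3_c25)) :=
  Lgr Lrot144 (Lpr_dt (f378797 IH) (Lpr_gt (f309792 IH) (Lpr_dt (f309791 IH) (Lpe (K21.f309793 IH) (Lpe (K25.f309813 IH) (Lpe (K25.f352843 IH) (Lpr_df (K25.f352837 IH) (Lpe (K25.f348004 IH) (Lpe (f317724 IH) (Lpn (LP (LK LD1_c19 LD2_c28 LD3_c25))))))))))))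
theorem f359992 : Led Lsl_bt (LP (LK LD1_c18 LD2_c45 LD3_c32)) = (LP (LK LD1_c15 LD2_c52 LD3_c41)) :=
  Lgr Lrot119 (Lpe (K27.f359991 IH) (Lpr_bf (K26.f359985 IH) (Lpe (K25.f27608 IH) (Lpn (LP (LK LD1_c15 LD2_c52 LD3_c41))))))
theorem f317719 : Led Lsl_ct (LP (LK LD1_c10 LD2_c46 LD3_c3)) = (LP (LK LD1_c19 LD2_c28 LD3_c25)) :=
  Lre_c IH (LK LD1_c10 LD2_c46 LD3_c3) (LK LD1_c19 LD2_c28 LD3_c25) Lrfl Lrfl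
theorem f324063 : Led Lsl_bf (LP (LK LD1_c15 LD2_c16 LD3_c4)) = (LP (LK LD1_c10 LD2_c46 LD3_c3)) :=
  Lgr Lrot24 (Lpr_bt (K23.f324061 IH) (Lpn (LP (LK LD1_c10 LD2_c46 LD3_c3))))
theorem f350332 : Led Lsl_bf (LP (LK LD1_c10 LD2_c47 LD3_c29)) = (LP (LK LD1_c8 LD2_c7 LD3_c39)) :=
  Lgr Lrot24 (Lpr_bt (K24.f350330 IH) (Lpn (LP (LK LD1_c8 LD2_c7 LD3_c39))))
theorem f378805 : Led Lsl_gt (LP (LK LD1_c20 LD2_c2 LD3_c9)) = (LP (LK LD1_c15 LD2_c18 LD3_c19)) :=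
  Lgr Lrot149 (Lpe (K26.f224242 IH) (Lpr_gf (f354821 IH) (Lpe (f359992 IH) (Lpe (K27.f365881 IH) (Lpr_gf (f378801 IH) (Lpe (f317719 IH) (Lpe (f324063 IH) (Lpr_gf (K23.f340824 IH) (Lpr_bf (f350332 IH) (Lpr_ct (K24.f338592 IH) (Lpn (LP (LK LD1_c15 LD2_c18 LD3_c19)))))))))))))
theorem f338581 : Led Lsl_ct (LP (LK LD1_c15 LD2_c18 LD3_c19)) = (LP (LK LD1_c8 LD2_c7 LD3_c39)) :=
  Lre_c IH (LK LD1_c15 LD2_c18 LD3_c19) (LK LD1_c8 LD2_c7 LD3_c39) Lrfl Lrfl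
theorem f338583 : Led Lsl_df (LP (LK LD1_c8 LD2_c7 LD3_c39)) = (LP (LK LD1_c15 LD2_c16 LD3_c20)) :=
  Lgr Lrot38 (Lpr_dt (K22.f338579 IH) (Lpn (LP (LK LD1_c15 LD2_c16 LD3_c20))))
theorem f350306 : Led Lsl_et (LP (LK LD1_c11 LD2_c56 LD3_c58)) = (LP (LK LD1_c21 LD2_c1 LD3_c59)) :=
  Lre_e IH (LK LD1_c11 LD2_c56 LD3_c58) (LK LD1_c21 LD2_c1 LD3_c59) Lrfl Lrfl
theorem f194464 : Led Lsl_et (LP (LK LD1_c15 LD2_c16 LD3_c20)) = (LP (LK LD1_c8 LD2_c6 LD3_c38)) :=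
  Lre_e IH (LK LD1_c15 LD2_c16 LD3_c20) (LK LD1_c8 LD2_c6 LD3_c38) Lrfl Lrfl
theorem f350307 : Led Lsl_ct (LP (LK LD1_c21 LD2_c1 LD3_c59)) = (LP (LK LD1_c15 LD2_c16 LD3_c20)) :=
  Lgr Lrot15 (Lpe (f350306 IH) (Lpr_cf (K24.f350302 IH) (Lpe (f194464 IH) (Lpn (LP (LK LD1_c15 LD2_c16 LD3_c20))))))
theorem f378843 : Led Lsl_gt (LP (LK LD1_c15 LD2_c55 LD3_c0)) = (LP (LK LD1_c21 LD2_c1 LD3_c59)) :=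
  Lgr Lrot150 (Lpe (K23.f27472 IH) (Lpr_gf (K22.f189384 IH) (Lpe (K25.f354027 IH) (Lpe (f354821 IH) (Lpr_ct (K26.f224242 IH) (Lpr_gt (f378805 IH) (Lpr_ct (f338581 IH) (Lpr_df (f338583 IH) (Lpe (f350307 IH) (Lpn (LP (LK LD1_c21 LD2_c1 LD3_c59))))))))))))
theorem f189282 : Led Lsl_et (LP (LK LD1_c19 LD2_c57 LD3_c14)) = (LP (LK LD1_c15 LD2_c55 LD3_c0)) :=
  Lgr Lrot158 (Lpe (K23.f189281 IH) (Lpr_ef (K19.f189278 IH) (Lpe (K22.f27473 IH) (Lpn (LP (LK LD1_c15 LD2_c55 LD3_c0))))))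
theorem f364812 : Led Lsl_ct (LP (LK LD1_c8 LD2_c36 LD3_c55)) = (LP (LK LD1_c11 LD2_c9 LD3_c19)) :=
  Lgr Lrot8 (Lpe (K23.f341986 IH) (Lpe (K23.f341938 IH) (Lpr_gt (K26.f341981 IH) (Lpr_dt (K21.f237023 IH) (Lpe (K25.f246105 IH) (Lpe (K26.f265687 IH) (Lpe (K26.f350546 IH) (Lpr_df (K23.f346032 IH) (Lpr_gf (K26.f364810 IH) (Lpn (LP (LK LD1_c11 LD2_c9 LD3_c19))))))))))))
theorem f348017 : Led Lsl_cf (LP (LK LD1_c8 LD2_c27 LD3_c61)) = (LP (LK LD1_c8 LD2_c2 LD3_c56)) :=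
  Lgr Lrot58 (Lpe (K46.f228354 IH) (Lpe (K22.f228345 IH) (Lpr_bt (K19.f235372 IH) (Lpe (K13.f235385 IH) (Lpe (K24.f235397 IH) (Lpr_ct (K24.f309601 IH) (Lpr_gf (K24.f261926 IH) (Lpe (K20.f213246 IH) (Lpr_gf (K23.f348015 IH) (Lpr_bf (K23.f342379 IH) (Lpn (LP (LK LD1_c8 LD2_c2 LD3_c56)))))))))))))
theorem f366440 : Led Lsl_gt (LP (LK LD1_c8 LD2_c27 LD3_c61)) = (LP (LK LD1_c8 LD2_c8 LD3_c59)) :=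
  Lgr Lrot94 (Lpr_cf (f348017 IH) (Lpr_gt (K19.f269300 IH) (Lpr_dt (K16.f247922 IH) (Lpr_gt (K23.f341990 IH) (Lpe (K23.f216338 IH) (Lpr_cf (K26.f364814 IH) (Lpr_df (K27.f228336 IH) (Lpr_gf (K27.f366438 IH) (Lpe (K21.f319706 IH) (Lpn (LP (LK LD1_c8 LD2_c8 LD3_c59))))))))))))
theorem f366442 : Led Lsl_cf (LP (LK LD1_c8 LD2_c2 LD3_c56)) = (LP (LK LD1_c8 LD2_c27 LD3_c61)) :=
  Lgr Lrot166 (Lpr_gt (K19.f269300 IH) (Lpr_dt (K16.f247922 IH) (Lpr_gt (K23.f341990 IH) (Lpe (K23.f216338 IH) (Lpr_ct (f364812 IH) (Lpr_df (K27.f228336 IH) (Lpr_gf (K27.f366438 IH) (Lpe (K21.f319706 IH) (Lpe (f366440 IH) (Lpn (LP (LK LD1_c8 LD2_c27 LD3_c61))))))))))))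
theorem f228355 : Led Lsl_dt (LP (LK LD1_c15 LD2_c53 LD3_c55)) = (LP (LK LD1_c8 LD2_c27 LD3_c61)) :=
  Lre_d IH (LK LD1_c15 LD2_c53 LD3_c55) (LK LD1_c8 LD2_c27 LD3_c61) Lrfl Lrfl
theorem f366451 : Led Lsl_gt (LP (LK LD1_c25 LD2_c49 LD3_c48)) = (LP (LK LD1_c15 LD2_c53 LD3_c55)) :=
  Lre_g IH (LK LD1_c25 LD2_c49 LD3_c48) (LK LD1_c15 LD2_c53 LD3_c55) Lrfl Lrfl
theorem f366452 : Led Lsl_dt (LP (LK LD1_c19 LD2_c57 LD3_c14)) = (LP (LK LD1_c25 LD2_c49 LD3_c48)) :=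
  Lgr Lrot57 (Lpe (K25.f339023 IH) (Lpe (K25.f291254 IH) (Lpr_gt (K19.f291257 IH) (Lpr_dt (K19.f296382 IH) (Lpe (K19.f305580 IH) (Lpr_dt (K19.f269302 IH) (Lpr_cf (f366442 IH) (Lpe (f228355 IH) (Lpe (f366451 IH) (Lpn (LP (LK LD1_c25 LD2_c49 LD3_c48))))))))))))
theorem f366457 : Led Lsl_df (LP (LK LD1_c19 LD2_c57 LD3_c14)) = (LP (LK LD1_c25 LD2_c49 LD3_c48)) :=
  Lgr Lrot38 (Lpr_dt (f366452 IH) (Lpn (LP (LK LD1_c25 LD2_c49 LD3_c48))))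
theorem f239629 : Led Lsl_dt (LP (LK LD1_c4 LD2_c14 LD3_c39)) = (LP (LK LD1_c8 LD2_c28 LD3_c5)) :=
  Lre_d IH (LK LD1_c4 LD2_c14 LD3_c39) (LK LD1_c8 LD2_c28 LD3_c5) Lrfl Lrfl
theorem f332824 : Led Lsl_gt (LP (LK LD1_c8 LD2_c28 LD3_c5)) = (LP (LK LD1_c15 LD2_c11 LD3_c37)) :=
  Lgr Lrot112 (Lpe (f239629 IH) (Lpr_et (K14.f239632 IH) (Lpr_gf (K22.f332814 IH) (Lpe (K21.f323699 IH) (Lpr_dt (K21.f323690 IH) (Lpe (K22.f323695 IH) (Lpr_df (K22.f313119 IH) (Lpe (K21.f313121 IH) (Lpe (K19.f189284 IH) (Lpr_dt (K22.f274771 IH) (Lpn (LP (LK LD1_c15 LD2_c11 LD3_c37)))))))))))))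
theorem f366465 : Led Lsl_gt (LP (LK LD1_c15 LD2_c53 LD3_c57)) = (LP (LK LD1_c25 LD2_c49 LD3_c48)) :=
  Lgr Lrot49 (Lpe (K46.f233826 IH) (Lpe (K22.f339731 IH) (Lpr_cf (K20.f319697 IH) (Lpe (K19.f314148 IH) (Lpr_dt (f239629 IH) (Lpr_gt (f332824 IH) (Lpe (K16.f274766 IH) (Lpe (K23.f189286 IH) (Lpr_df (f366457 IH) (Lpn (LP (LK LD1_c25 LD2_c49 LD3_c48))))))))))))
theorem f52310 : Led Lsl_gt (LP (LK LD1_c8 LD2_c9 LD3_c3)) = (LP (LK LD1_c15 LD2_c20 LD3_c52)) :=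
  Lre_g IH (LK LD1_c8 LD2_c9 LD3_c3) (LK LD1_c15 LD2_c20 LD3_c52) Lrfl Lrfl
theorem f314499 : Led Lsl_gf (LP (LK LD1_c15 LD2_c54 LD3_c13)) = (LP (LK LD1_c15 LD2_c20 LD3_c52)) :=
  Lgr Lrot76 (Lpr_af (K19.f314484 IH) (Lpe (K19.f200746 IH) (Lpr_gt (f52310 IH) (Lpn (LP (LK LD1_c15 LD2_c20 LD3_c52))))))
theorem f378851 : Led Lsl_df (LP (LK LD1_c15 LD2_c20 LD3_c52)) = (LP (LK LD1_c11 LD2_c56 LD3_c58)) :=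
  Lgr Lrot170 (Lpe (f314499 IH) (Lpe (K19.f220997 IH) (Lpe (K20.f319715 IH) (Lpr_gt (K22.f339731 IH) (Lpr_dt (K46.f233826 IH) (Lpr_gt (f366465 IH) (Lpe (f366452 IH) (Lpr_et (f189282 IH) (Lpr_gt (f378843 IH) (Lpe (f350306 IH) (Lpn (LP (LK LD1_c11 LD2_c56 LD3_c58)))))))))))))
theorem f312206 : Led Lsl_et (LP (LK LD1_c11 LD2_c4 LD3_c61)) = (LP (LK LD1_c15 LD2_c55 LD3_c1)) :=
  Lgr Lrot87 (Lpr_ef (K20.f312204 IH) (Lpn (LP (LK LD1_c15 LD2_c55 LD3_c1))))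
theorem f378857 : Led Lsl_gf (LP (LK LD1_c15 LD2_c55 LD3_c1)) = (LP (LK LD1_c21 LD2_c1 LD3_c59)) :=
  Lgr Lrot141 (Lpe (f312206 IH) (Lpr_dt (K21.f309967 IH) (Lpr_gt (K21.f328110 IH) (Lpe (K21.f328147 IH) (Lpe (K21.f328136 IH) (Lpr_gt (K21.f328148 IH) (Lpr_dt (K23.f52308 IH) (Lpr_gt (f52310 IH) (Lpr_df (f378851 IH) (Lpr_et (f350306 IH) (Lpn (LP (LK LD1_c21 LD2_c1 LD3_c59)))))))))))))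
theorem f635347 : Led Lsl_at (LP (LK LD1_c20 LD2_c2 LD3_c9)) = (LP (LK LD1_c15 LD2_c55 LD3_c1)) :=
  Lgr Lrot26 (Lpr_ff (f635341 IH) (Lpr_gt (f378843 IH) (Lpe (f378857 IH) (Lpn (LP (LK LD1_c15 LD2_c55 LD3_c1))))))
theorem f635349 : Led Lsl_af (LP (LK LD1_c15 LD2_c21 LD3_c57)) = (LP (LK LD1_c15 LD2_c17 LD3_c29)) :=
  Lgr Lrot117 (Lpr_dt (K21.f298395 IH) (Lpr_at (f635347 IH) (Lpe (K20.f312208 IH) (Lpn (LP (LK LD1_c15 LD2_c17 LD3_c29))))))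
theorem f635355 : Led Lsl_ft (LP (LK LD1_c15 LD2_c21 LD3_c56)) = (LP (LK LD1_c15 LD2_c17 LD3_c29)) :=
  Lgr Lrot2 (Lpe (K23.f52390 IH) (Lpr_gt (K21.f52383 IH) (Lpr_af (f635349 IH) (Lpn (LP (LK LD1_c15 LD2_c17 LD3_c29))))))
theorem f635361 : Led Lsl_ff (LP (LK LD1_c17 LD2_c53 LD3_c49)) = (LP (LK LD1_c15 LD2_c55 LD3_c1)) :=
  Lgr Lrot19 (Lpe (K23.f328712 IH) (Lpr_ft (f635355 IH) (Lpr_dt (K20.f312211 IH) (Lpn (LP (LK LD1_c15 LD2_c55 LD3_c1))))))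
theorem f635373 : Led Lsl_at (LP (LK LD1_c17 LD2_c53 LD3_c49)) = (LP (LK LD1_c15 LD2_c55 LD3_c0)) :=
  Lgr Lrot66 (Lpr_ff (f635361 IH) (Lpe (f635347 IH) (Lpr_ff (f635341 IH) (Lpn (LP (LK LD1_c15 LD2_c55 LD3_c0))))))
theorem f635375 : Led Lsl_af (LP (LK LD1_c18 LD2_c5 LD3_c37)) = (LP (LK LD1_c19 LD2_c57 LD3_c14)) :=
  Lgr Lrot50 (Lpr_et (K24.f323754 IH) (Lpr_at (f635373 IH) (Lpe (K23.f189287 IH) (Lpn (LP (LK LD1_c19 LD2_c57 LD3_c14))))))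
theorem f635377 : Led Lsl_at (LP (LK LD1_c25 LD2_c10 LD3_c47)) = (LP (LK LD1_c25 LD2_c49 LD3_c48)) :=
  Lgr Lrot51 (Lpr_df (K23.f346199 IH) (Lpr_af (f635375 IH) (Lpr_df (f366457 IH) (Lpn (LP (LK LD1_c25 LD2_c49 LD3_c48))))))
theorem f635381 : Led Lsl_ff (LP (LK LD1_c25 LD2_c10 LD3_c47)) = (LP (LK LD1_c25 LD2_c49 LD3_c47)) :=
  Lgr Lrot52 (Lpr_at (f635377 IH) (Lpe (f366465 IH) (Lpr_gf (K46.f377469 IH) (Lpn (LP (LK LD1_c25 LD2_c49 LD3_c47))))))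
theorem f635385 : Led Lsl_ft (LP (LK LD1_c25 LD2_c10 LD3_c47)) = (LP (LK LD1_c25 LD2_c49 LD3_c47)) :=
  Lgr Lrot48 (Lpr_ff (f635381 IH) (Lpn (LP (LK LD1_c25 LD2_c49 LD3_c47))))
theorem f635389 : Led Lsl_af (LP (LK LD1_c25 LD2_c10 LD3_c46)) = (LP (LK LD1_c25 LD2_c49 LD3_c47)) :=
  Lgr Lrot31 (Lpe (K23.f345943 IH) (Lpe (K23.f345941 IH) (Lpr_ft (f635385 IH) (Lpn (LP (LK LD1_c25 LD2_c49 LD3_c47))))))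
theorem f346034 : Led Lsl_dt (LP (LK LD1_c25 LD2_c10 LD3_c46)) = (LP (LK LD1_c18 LD2_c5 LD3_c38)) :=
  Lgr Lrot42 (Lpr_df (K23.f346032 IH) (Lpn (LP (LK LD1_c18 LD2_c5 LD3_c38))))
theorem f635393 : Led Lsl_at (LP (LK LD1_c18 LD2_c5 LD3_c38)) = (LP (LK LD1_c18 LD2_c33 LD3_c54)) :=
  Lgr Lrot51 (Lpe (f346034 IH) (Lpr_af (f635389 IH) (Lpe (K46.f377464 IH) (Lpn (LP (LK LD1_c18 LD2_c33 LD3_c54))))))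
theorem f635399 : Led Lsl_af (LP (LK LD1_c18 LD2_c5 LD3_c38)) = (LP (LK LD1_c18 LD2_c33 LD3_c54)) :=
  Lgr Lrot0 (Lpr_at (f635393 IH) (Lpn (LP (LK LD1_c18 LD2_c33 LD3_c54))))
theorem f299254 : Led Lsl_dt (LP (LK LD1_c15 LD2_c17 LD3_c48)) = (LP (LK LD1_c25 LD2_c8 LD3_c28)) :=
  Lre_d IH (LK LD1_c15 LD2_c17 LD3_c48) (LK LD1_c25 LD2_c8 LD3_c28) Lrfl Lrfl
theorem f228302 : Led Lsl_dt (LP (LK LD1_c25 LD2_c48 LD3_c52)) = (LP (LK LD1_c15 LD2_c52 LD3_c49)) :=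
  Lre_d IH (LK LD1_c25 LD2_c48 LD3_c52) (LK LD1_c15 LD2_c52 LD3_c49) Lrfl Lrfl
theorem f377473 : Led Lsl_gt (LP (LK LD1_c25 LD2_c8 LD3_c28)) = (LP (LK LD1_c25 LD2_c48 LD3_c52)) :=
  Lgr Lrot49 (Lpe (f299254 IH) (Lpr_gf (K46.f377471 IH) (Lpr_cf (K15.f228127 IH) (Lpe (K18.f275924 IH) (Lpr_dt (K19.f255559 IH) (Lpe (K21.f323782 IH) (Lpr_dt (K13.f236462 IH) (Lpr_cf (K21.f228282 IH) (Lpe (f228302 IH) (Lpn (LP (LK LD1_c25 LD2_c48 LD3_c52))))))))))))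
theorem f228296 : Led Lsl_dt (LP (LK LD1_c15 LD2_c52 LD3_c49)) = (LP (LK LD1_c25 LD2_c48 LD3_c52)) :=
  Lre_d IH (LK LD1_c15 LD2_c52 LD3_c49) (LK LD1_c25 LD2_c48 LD3_c52) Lrfl Lrfl
theorem f377591 : Led Lsl_et (LP (LK LD1_c15 LD2_c17 LD3_c48)) = (LP (LK LD1_c18 LD2_c33 LD3_c54)) :=
  Lgr Lrot122 (Lpr_dt (f299254 IH) (Lpr_gt (f377473 IH) (Lpe (f228296 IH) (Lpe (K19.f228297 IH) (Lpr_gt (K25.f350015 IH) (Lpr_dt (K46.f365797 IH) (Lpr_gt (K46.f291192 IH) (Lpe (K23.f227005 IH) (Lpr_et (K23.f342114 IH) (Lpr_gt (K46.f360956 IH) (Lpn (LP (LK LD1_c18 LD2_c33 LD3_c54)))))))))))))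
theorem f635403 : Led Lsl_at (LP (LK LD1_c11 LD2_c8 LD3_c56)) = (LP (LK LD1_c15 LD2_c17 LD3_c48)) :=
  Lgr Lrot80 (Lpr_ef (K23.f313258 IH) (Lpr_af (f635399 IH) (Lpe (f377591 IH) (Lpn (LP (LK LD1_c15 LD2_c17 LD3_c48))))))
theorem f635281 : Led Lsl_ft (LP (LK LD1_c15 LD2_c17 LD3_c47)) = (LP (LK LD1_c11 LD2_c8 LD3_c56)) :=
  Lgr Lrot4 (Lpr_cf (K21.f298002 IH) (Lpr_ff (f635277 IH) (Lpe (K18.f200460 IH) (Lpn (LP (LK LD1_c11 LD2_c8 LD3_c56))))))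
theorem f635273 : Led Lsl_af (LP (LK LD1_c15 LD2_c17 LD3_c47)) = (LP (LK LD1_c11 LD2_c4 LD3_c61)) :=
  Lgr Lrot68 (Lpr_ct (K18.f298000 IH) (Lpr_at (f635269 IH) (Lpr_ct (K19.f305103 IH) (Lpn (LP (LK LD1_c11 LD2_c4 LD3_c61))))))
theorem f635407 : Led Lsl_ff (LP (LK LD1_c11 LD2_c4 LD3_c61)) = (LP (LK LD1_c15 LD2_c17 LD3_c48)) :=
  Lgr Lrot30 (Lpe (f635273 IH) (Lpr_ft (f635281 IH) (Lpr_at (f635403 IH) (Lpn (LP (LK LD1_c15 LD2_c17 LD3_c48))))))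
theorem f228205 : Led Lsl_dt (LP (LK LD1_c25 LD2_c8 LD3_c28)) = (LP (LK LD1_c15 LD2_c17 LD3_c48)) :=
  Lre_d IH (LK LD1_c25 LD2_c8 LD3_c28) (LK LD1_c15 LD2_c17 LD3_c48) Lrfl Lrfl
theorem f635411 : Led Lsl_ft (LP (LK LD1_c19 LD2_c57 LD3_c46)) = (LP (LK LD1_c25 LD2_c8 LD3_c28)) :=
  Lgr Lrot54 (Lpe (K21.f309967 IH) (Lpr_ff (f635407 IH) (Lpe (f228205 IH) (Lpn (LP (LK LD1_c25 LD2_c8 LD3_c28))))))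
theorem f635416 : Led Lsl_ff (LP (LK LD1_c19 LD2_c57 LD3_c46)) = (LP (LK LD1_c25 LD2_c8 LD3_c28)) :=
  Lgr Lrot3 (Lpr_ft (f635411 IH) (Lpn (LP (LK LD1_c25 LD2_c8 LD3_c28))))
theorem f179208 : Led Lsl_dt (LP (LK LD1_c5 LD2_c26 LD3_c59)) = (LP (LK LD1_c2 LD2_c39 LD3_c55)) :=
  Lre_d IH (LK LD1_c5 LD2_c26 LD3_c59) (LK LD1_c2 LD2_c39 LD3_c55) Lrfl Lrfl
theorem f179207 : Led Lsl_gt (LP (LK LD1_c10 LD2_c45 LD3_c0)) = (LP (LK LD1_c5 LD2_c26 LD3_c59)) :=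
  Lre_g IH (LK LD1_c10 LD2_c45 LD3_c0) (LK LD1_c5 LD2_c26 LD3_c59) Lrfl Lrfl
theorem f355113 : Led Lsl_dt (LP (LK LD1_c8 LD2_c21 LD3_c51)) = (LP (LK LD1_c10 LD2_c45 LD3_c0)) :=
  Lgr Lrot57 (Lpe (K23.f289163 IH) (Lpe (K23.f325845 IH) (Lpr_gt (K19.f305098 IH) (Lpr_dt (K18.f301708 IH) (Lpr_gt (K25.f355105 IH) (Lpe (K26.f314760 IH) (Lpr_cf (K20.f195458 IH) (Lpe (f179208 IH) (Lpe (f179207 IH) (Lpn (LP (LK LD1_c10 LD2_c45 LD3_c0))))))))))))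
theorem f355115 : Led Lsl_cf (LP (LK LD1_c2 LD2_c44 LD3_c4)) = (LP (LK LD1_c5 LD2_c28 LD3_c32)) :=
  Lgr Lrot166 (Lpr_gt (K19.f305098 IH) (Lpr_dt (K18.f301708 IH) (Lpr_gt (K25.f355105 IH) (Lpe (K26.f314760 IH) (Lpr_ct (K20.f195469 IH) (Lpe (f179208 IH) (Lpe (f179207 IH) (Lpe (f355113 IH) (Lpe (K23.f289163 IH) (Lpn (LP (LK LD1_c5 LD2_c28 LD3_c32))))))))))))
theorem f289165 : Led Lsl_bt (LP (LK LD1_c10 LD2_c48 LD3_c12)) = (LP (LK LD1_c5 LD2_c28 LD3_c32)) :=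
  Lre_b IH (LK LD1_c10 LD2_c48 LD3_c12) (LK LD1_c5 LD2_c28 LD3_c32) Lrfl Lrfl
theorem f289166 : Led Lsl_ct (LP (LK LD1_c19 LD2_c32 LD3_c24)) = (LP (LK LD1_c10 LD2_c48 LD3_c12)) :=
  Lre_c IH (LK LD1_c19 LD2_c32 LD3_c24) (LK LD1_c10 LD2_c48 LD3_c12) Lrfl Lrfl
theorem f379325 : Led Lsl_bt (LP (LK LD1_c11 LD2_c4 LD3_c61)) = (LP (LK LD1_c19 LD2_c32 LD3_c24)) :=
  Lgr Lrot128 (Lpe (K19.f305103 IH) (Lpe (K19.f306920 IH) (Lpr_cf (f355115 IH) (Lpe (f289165 IH) (Lpe (f289166 IH) (Lpn (LP (LK LD1_c19 LD2_c32 LD3_c24))))))))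
theorem f305102 : Led Lsl_dt (LP (LK LD1_c19 LD2_c57 LD3_c46)) = (LP (LK LD1_c11 LD2_c4 LD3_c61)) :=
  Lre_d IH (LK LD1_c19 LD2_c57 LD3_c46) (LK LD1_c11 LD2_c4 LD3_c61) Lrfl Lrfl
theorem f379332 : Led Lsl_dt (LP (LK LD1_c19 LD2_c32 LD3_c24)) = (LP (LK LD1_c28 LD2_c54 LD3_c59)) :=
  Lre_d IH (LK LD1_c19 LD2_c32 LD3_c24) (LK LD1_c28 LD2_c54 LD3_c59) Lrfl Lrfl
theorem f379333 : Led Lsl_bf (LP (LK LD1_c19 LD2_c57 LD3_c46)) = (LP (LK LD1_c28 LD2_c54 LD3_c59)) :=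
  Lgr Lrot93 (Lpr_dt (f305102 IH) (Lpr_bt (f379325 IH) (Lpr_dt (f379332 IH) (Lpn (LP (LK LD1_c28 LD2_c54 LD3_c59))))))
theorem f379335 : Led Lsl_bt (LP (LK LD1_c19 LD2_c57 LD3_c46)) = (LP (LK LD1_c28 LD2_c54 LD3_c59)) :=
  Lgr Lrot127 (Lpr_bf (f379333 IH) (Lpn (LP (LK LD1_c28 LD2_c54 LD3_c59))))
theorem f377589 : Led Lsl_bt (LP (LK LD1_c31 LD2_c47 LD3_c14)) = (LP (LK LD1_c25 LD2_c8 LD3_c28)) :=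
  Lre_b IH (LK LD1_c31 LD2_c47 LD3_c14) (LK LD1_c25 LD2_c8 LD3_c28) Lrfl Lrfl
theorem f635418 : Led Lsl_ft (LP (LK LD1_c28 LD2_c54 LD3_c59)) = (LP (LK LD1_c31 LD2_c47 LD3_c14)) :=
  Lgr Lrot75 (Lpe (f379335 IH) (Lpr_ff (f635416 IH) (Lpe (f377589 IH) (Lpn (LP (LK LD1_c31 LD2_c47 LD3_c14))))))
theorem f377587 : Led Lsl_dt (LP (LK LD1_c31 LD2_c47 LD3_c14)) = (LP (LK LD1_c25 LD2_c8 LD3_c27)) :=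
  Lre_d IH (LK LD1_c31 LD2_c47 LD3_c14) (LK LD1_c25 LD2_c8 LD3_c27) Lrfl Lrfl
theorem f635466 : Led Lsl_ff (LP (LK LD1_c19 LD2_c32 LD3_c24)) = (LP (LK LD1_c25 LD2_c8 LD3_c27)) :=
  Lgr Lrot19 (Lpr_dt (f379332 IH) (Lpr_ft (f635418 IH) (Lpr_dt (f377587 IH) (Lpn (LP (LK LD1_c25 LD2_c8 LD3_c27))))))
theorem f278972 : Led Lsl_bt (LP (LK LD1_c2 LD2_c2 LD3_c45)) = (LP (LK LD1_c4 LD2_c10 LD3_c50)) :=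
  Lre_b IH (LK LD1_c2 LD2_c2 LD3_c45) (LK LD1_c4 LD2_c10 LD3_c50) Lrfl Lrfl
theorem f225377 : Led Lsl_gt (LP (LK LD1_c8 LD2_c21 LD3_c48)) = (LP (LK LD1_c4 LD2_c10 LD3_c60)) :=
  Lre_g IH (LK LD1_c8 LD2_c21 LD3_c48) (LK LD1_c4 LD2_c10 LD3_c60) Lrfl Lrfl
theorem f377483 : Led Lsl_cf (LP (LK LD1_c8 LD2_c21 LD3_c48)) = (LP (LK LD1_c4 LD2_c19 LD3_c47)) :=
  Lgr Lrot125 (Lpr_gt (f225377 IH) (Lpe (f178858 IH) (Lpr_bt (f278972 IH) (Lpr_gt (K18.f288874 IH) (Lpr_bf (K25.f323868 IH) (Lpr_ct (K25.f287806 IH) (Lpr_gt (K25.f261191 IH) (Lpe (K46.f228852 IH) (Lpr_bt (K17.f228848 IH) (Lpr_gt (K46.f377481 IH) (Lpn (LP (LK LD1_c4 LD2_c19 LD3_c47)))))))))))))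
theorem f377561 : Led Lsl_bt (LP (LK LD1_c8 LD2_c21 LD3_c48)) = (LP (LK LD1_c15 LD2_c44 LD3_c16)) :=
  Lre_b IH (LK LD1_c8 LD2_c21 LD3_c48) (LK LD1_c15 LD2_c44 LD3_c16) Lrfl Lrfl
theorem f328101 : Led Lsl_cf (LP (LK LD1_c8 LD2_c9 LD3_c38)) = (LP (LK LD1_c15 LD2_c17 LD3_c48)) :=
  Lgr Lrot11 (Lpr_ct (K46.f328098 IH) (Lpn (LP (LK LD1_c15 LD2_c17 LD3_c48))))
theorem f196702 : Led Lsl_bt (LP (LK LD1_c25 LD2_c8 LD3_c27)) = (LP (LK LD1_c15 LD2_c17 LD3_c48)) :=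
  Lre_b IH (LK LD1_c25 LD2_c8 LD3_c27) (LK LD1_c15 LD2_c17 LD3_c48) Lrfl Lrfl
theorem f377562 : Led Lsl_ct (LP (LK LD1_c15 LD2_c44 LD3_c16)) = (LP (LK LD1_c25 LD2_c8 LD3_c27)) :=
  Lgr Lrot83 (Lpe (f377561 IH) (Lpr_cf (f377483 IH) (Lpe (K46.f377475 IH) (Lpr_cf (f328101 IH) (Lpe (f196702 IH) (Lpn (LP (LK LD1_c25 LD2_c8 LD3_c27))))))))
theorem f635468 : Led Lsl_ft (LP (LK LD1_c10 LD2_c48 LD3_c12)) = (LP (LK LD1_c15 LD2_c44 LD3_c16)) :=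
  Lgr Lrot4 (Lpe (f289166 IH) (Lpr_ff (f635466 IH) (Lpe (f377562 IH) (Lpn (LP (LK LD1_c15 LD2_c44 LD3_c16))))))
theorem f379329 : Led Lsl_bt (LP (LK LD1_c5 LD2_c28 LD3_c32)) = (LP (LK LD1_c10 LD2_c48 LD3_c12)) :=
  Lre_b IH (LK LD1_c5 LD2_c28 LD3_c32) (LK LD1_c10 LD2_c48 LD3_c12) Lrfl Lrfl
theorem f377572 : Led Lsl_bt (LP (LK LD1_c15 LD2_c44 LD3_c16)) = (LP (LK LD1_c8 LD2_c21 LD3_c48)) :=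
  Lre_b IH (LK LD1_c15 LD2_c44 LD3_c16) (LK LD1_c8 LD2_c21 LD3_c48) Lrfl Lrfl
theorem f635470 : Led Lsl_ff (LP (LK LD1_c5 LD2_c28 LD3_c32)) = (LP (LK LD1_c8 LD2_c21 LD3_c48)) :=
  Lgr Lrot25 (Lpr_bt (f379329 IH) (Lpr_ft (f635468 IH) (Lpr_bt (f377572 IH) (Lpn (LP (LK LD1_c8 LD2_c21 LD3_c48))))))
theorem f377564 : Led Lsl_ct (LP (LK LD1_c8 LD2_c21 LD3_c48)) = (LP (LK LD1_c4 LD2_c19 LD3_c47)) :=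
  Lgr Lrot59 (Lpr_cf (f377483 IH) (Lpn (LP (LK LD1_c4 LD2_c19 LD3_c47))))
theorem f722568 : Led Lsl_ef (LP (LK LD1_c8 LD2_c21 LD3_c48)) = v14444 :=
  Lgr Lrot28 (Lpr_ct (f377564 IH) (Lpe (K26.f355193 IH) (Lpr_ct (f722565 IH) (Lpn v14444))))
theorem f720987 : Led Lsl_cf (LP (LK LD1_c5 LD2_c3 LD3_c14)) = v14206 :=
  Lgr Lrot11 (Lpr_ct (f720986 IH) (Lpn v14206))
theorem f722569 : Led Lsl_ff v14206 = v14444 :=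
  Lgr Lrot23 (Lpe (f720987 IH) (Lpr_ft (f634609 IH) (Lpr_ct (f722565 IH) (Lpn v14444))))
theorem f722576 : Led Lsl_ft v14206 = v14444 :=
  Lgr Lrot48 (Lpr_ff (f722569 IH) (Lpn v14444))
theorem f184792 : Led Lsl_ct (LP (LK LD1_c9 LD2_c52 LD3_c28)) = (LP (LK LD1_c5 LD2_c1 LD3_c2)) :=
  Lre_c IH (LK LD1_c9 LD2_c52 LD3_c28) (LK LD1_c5 LD2_c1 LD3_c2) Lrfl Lrfl
theorem f327716 : Led Lsl_bt (LP (LK LD1_c5 LD2_c1 LD3_c13)) = (LP (LK LD1_c2 LD2_c28 LD3_c55)) :=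
  Lgr Lrot95 (Lpr_df (K23.f327714 IH) (Lpe (K27.f171730 IH) (Lpr_df (K19.f171718 IH) (Lpn (LP (LK LD1_c2 LD2_c28 LD3_c55))))))
theorem f170543 : Led Lsl_ct (LP (LK LD1_c5 LD2_c1 LD3_c13)) = (LP (LK LD1_c9 LD2_c52 LD3_c55)) :=
  Lre_c IH (LK LD1_c5 LD2_c1 LD3_c13) (LK LD1_c9 LD2_c52 LD3_c55) Lrfl Lrfl
theorem f184783 : Led Lsl_ct (LP (LK LD1_c5 LD2_c1 LD3_c2)) = (LP (LK LD1_c9 LD2_c52 LD3_c28)) :=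
  Lre_c IH (LK LD1_c5 LD2_c1 LD3_c2) (LK LD1_c9 LD2_c52 LD3_c28) Lrfl Lrfl
theorem f361162 : Led Lsl_gt (LP (LK LD1_c9 LD2_c52 LD3_c55)) = (LP (LK LD1_c9 LD2_c52 LD3_c28)) :=
  Lgr Lrot65 (Lpe (f170543 IH) (Lpr_bt (f327716 IH) (Lpr_gf (K19.f300207 IH) (Lpe (K19.f288303 IH) (Lpr_ct (K27.f300108 IH) (Lpr_gf (K27.f361137 IH) (Lpe (K27.f249188 IH) (Lpr_gf (K26.f331393 IH) (Lpr_bf (K26.f190368 IH) (Lpr_ct (f184783 IH) (Lpn (LP (LK LD1_c9 LD2_c52 LD3_c28)))))))))))))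
theorem f366788 : Led Lsl_dt (LP (LK LD1_c9 LD2_c35 LD3_c45)) = (LP (LK LD1_c4 LD2_c51 LD3_c48)) :=
  Lre_d IH (LK LD1_c9 LD2_c35 LD3_c45) (LK LD1_c4 LD2_c51 LD3_c48) Lrfl Lrfl
theorem f371686 : Led Lsl_gf (LP (LK LD1_c5 LD2_c1 LD3_c13)) = (LP (LK LD1_c9 LD2_c35 LD3_c45)) :=
  Lgr Lrot147 (Lpr_ct (f170543 IH) (Lpr_gt (f361162 IH) (Lpr_ct (f184792 IH) (Lpr_df (K21.f184777 IH) (Lpe (K27.f184784 IH) (Lpr_gf (K27.f356925 IH) (Lpe (K27.f354708 IH) (Lpr_gf (K46.f371683 IH) (Lpe (f366788 IH) (Lpn (LP (LK LD1_c9 LD2_c35 LD3_c45))))))))))))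
theorem f238237 : Led Lsl_ft (LP (LK LD1_c9 LD2_c35 LD3_c45)) = (LP (LK LD1_c4 LD2_c51 LD3_c47)) :=
  Lre_f IH (LK LD1_c9 LD2_c35 LD3_c45) (LK LD1_c4 LD2_c51 LD3_c47) Lrfl Lrfl
theorem f371780 : Led Lsl_af (LP (LK LD1_c2 LD2_c28 LD3_c20)) = (LP (LK LD1_c4 LD2_c51 LD3_c47)) :=
  Lgr Lrot31 (Lpe (K23.f33973 IH) (Lpr_gf (f371686 IH) (Lpr_ft (f238237 IH) (Lpn (LP (LK LD1_c4 LD2_c51 LD3_c47))))))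
theorem f170541 : Led Lsl_ft (LP (LK LD1_c2 LD2_c28 LD3_c20)) = (LP (LK LD1_c5 LD2_c1 LD3_c14)) :=
  Lre_f IH (LK LD1_c2 LD2_c28 LD3_c20) (LK LD1_c5 LD2_c1 LD3_c14) Lrfl Lrfl
theorem f371786 : Led Lsl_at (LP (LK LD1_c5 LD2_c1 LD3_c14)) = (LP (LK LD1_c9 LD2_c35 LD3_c45)) :=
  Lgr Lrot66 (Lpe (f170541 IH) (Lpr_af (f371780 IH) (Lpe (f238237 IH) (Lpn (LP (LK LD1_c9 LD2_c35 LD3_c45))))))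
theorem f361097 : Led Lsl_bt (LP (LK LD1_c17 LD2_c39 LD3_c43)) = (LP (LK LD1_c9 LD2_c35 LD3_c45)) :=
  Lre_b IH (LK LD1_c17 LD2_c39 LD3_c43) (LK LD1_c9 LD2_c35 LD3_c45) Lrfl Lrfl
theorem f366785 : Led Lsl_bt (LP (LK LD1_c5 LD2_c1 LD3_c29)) = (LP (LK LD1_c9 LD2_c53 LD3_c0)) :=
  Lre_b IH (LK LD1_c5 LD2_c1 LD3_c29) (LK LD1_c9 LD2_c53 LD3_c0) Lrfl Lrfl
theorem f367094 : Led Lsl_et (LP (LK LD1_c9 LD2_c35 LD3_c45)) = (LP (LK LD1_c5 LD2_c1 LD3_c29)) :=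
  Lgr Lrot74 (Lpe (f361097 IH) (Lpr_ef (K27.f367092 IH) (Lpe (f366785 IH) (Lpn (LP (LK LD1_c5 LD2_c1 LD3_c29))))))
theorem f253065 : Led Lsl_ft (LP (LK LD1_c2 LD2_c28 LD3_c26)) = (LP (LK LD1_c5 LD2_c1 LD3_c29)) :=
  Lre_f IH (LK LD1_c2 LD2_c28 LD3_c26) (LK LD1_c5 LD2_c1 LD3_c29) Lrfl Lrfl
theorem f366763 : Led Lsl_at (LP (LK LD1_c5 LD2_c1 LD3_c29)) = (LP (LK LD1_c8 LD2_c28 LD3_c7)) :=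
  Lgr Lrot66 (Lpe (f253065 IH) (Lpe (K27.f366753 IH) (Lpr_ff (K27.f366761 IH) (Lpn (LP (LK LD1_c8 LD2_c28 LD3_c7))))))
theorem f371788 : Led Lsl_ef (LP (LK LD1_c5 LD2_c1 LD3_c14)) = (LP (LK LD1_c8 LD2_c28 LD3_c7)) :=
  Lgr Lrot20 (Lpr_at (f371786 IH) (Lpr_et (f367094 IH) (Lpr_at (f366763 IH) (Lpn (LP (LK LD1_c8 LD2_c28 LD3_c7))))))
theorem f354907 : Led Lsl_gt (LP (LK LD1_c16 LD2_c8 LD3_c5)) = (LP (LK LD1_c9 LD2_c34 LD3_c35)) :=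
  Lgr Lrot5 (Lpr_ft (K26.f354875 IH) (Lpr_at (K26.f354900 IH) (Lpe (K26.f233156 IH) (Lpn (LP (LK LD1_c9 LD2_c34 LD3_c35))))))
theorem f350438 : Led Lsl_ct (LP (LK LD1_c9 LD2_c34 LD3_c35)) = (LP (LK LD1_c8 LD2_c17 LD3_c6)) :=
  Lgr Lrot59 (Lpr_cf (K26.f350435 IH) (Lpn (LP (LK LD1_c8 LD2_c17 LD3_c6))))
theorem f228998 : Led Lsl_ct (LP (LK LD1_c15 LD2_c9 LD3_c49)) = (LP (LK LD1_c8 LD2_c3 LD3_c11)) :=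
  Lre_c IH (LK LD1_c15 LD2_c9 LD3_c49) (LK LD1_c8 LD2_c3 LD3_c11) Lrfl Lrfl
theorem f279376 : Led Lsl_at (LP (LK LD1_c15 LD2_c11 LD3_c10)) = (LP (LK LD1_c10 LD2_c7 LD3_c50)) :=
  Lgr Lrot107 (Lpe (K22.f279366 IH) (Lpr_af (K16.f279359 IH) (Lpe (K22.f33231 IH) (Lpn (LP (LK LD1_c10 LD2_c7 LD3_c50))))))
theorem f341745 : Led Lsl_ft (LP (LK LD1_c8 LD2_c4 LD3_c0)) = (LP (LK LD1_c15 LD2_c11 LD3_c10)) :=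
  Lre_f IH (LK LD1_c8 LD2_c4 LD3_c0) (LK LD1_c15 LD2_c11 LD3_c10) Lrfl Lrfl
theorem f341746 : Led Lsl_gt (LP (LK LD1_c8 LD2_c4 LD3_c0)) = (LP (LK LD1_c15 LD2_c9 LD3_c49)) :=
  Lgr Lrot5 (Lpr_ft (f341745 IH) (Lpr_at (f279376 IH) (Lpr_gf (K24.f341741 IH) (Lpn (LP (LK LD1_c15 LD2_c9 LD3_c49))))))
theorem f354909 : Led Lsl_gf (LP (LK LD1_c8 LD2_c36 LD3_c38)) = (LP (LK LD1_c4 LD2_c51 LD3_c15)) :=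
  Lgr Lrot147 (Lpr_ct (K26.f171393 IH) (Lpr_gt (f354907 IH) (Lpr_ct (f350438 IH) (Lpr_df (K21.f228996 IH) (Lpe (f228998 IH) (Lpe (f341746 IH) (Lpe (K23.f237543 IH) (Lpe (K22.f184661 IH) (Lpr_df (K22.f332865 IH) (Lpn (LP (LK LD1_c4 LD2_c51 LD3_c15))))))))))))
theorem f367967 : Led Lsl_gt (LP (LK LD1_c5 LD2_c1 LD3_c14)) = (LP (LK LD1_c8 LD2_c42 LD3_c46)) :=
  Lgr Lrot139 (Lpe (K22.f170529 IH) (Lpr_gf (K27.f367964 IH) (Lpe (K25.f238228 IH) (Lpe (K25.f315349 IH) (Lpr_gf (K27.f355107 IH) (Lpr_df (K15.f238103 IH) (Lpe (K25.f354867 IH) (Lpr_gf (f354909 IH) (Lpe (K22.f193303 IH) (Lpr_dt (K22.f193246 IH) (Lpn (LP (LK LD1_c8 LD2_c42 LD3_c46)))))))))))))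
theorem f367056 : Led Lsl_df (LP (LK LD1_c5 LD2_c39 LD3_c14)) = (LP (LK LD1_c8 LD2_c28 LD3_c7)) :=
  Lgr Lrot18 (Lpr_at (K27.f367049 IH) (Lpr_dt (K27.f366783 IH) (Lpr_at (f366763 IH) (Lpn (LP (LK LD1_c8 LD2_c28 LD3_c7))))))
theorem f371794 : Led Lsl_gt (LP (LK LD1_c9 LD2_c53 LD3_c13)) = (LP (LK LD1_c5 LD2_c39 LD3_c14)) :=
  Lgr Lrot112 (Lpr_df (K21.f323764 IH) (Lpr_et (K21.f287235 IH) (Lpr_gf (K21.f287226 IH) (Lpe (K22.f321732 IH) (Lpe (K18.f229542 IH) (Lpe (K22.f287110 IH) (Lpe (K22.f193249 IH) (Lpe (f367967 IH) (Lpr_ef (f371788 IH) (Lpe (f367056 IH) (Lpn (LP (LK LD1_c5 LD2_c39 LD3_c14)))))))))))))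
theorem f302901 : Led Lsl_bt (LP (LK LD1_c2 LD2_c30 LD3_c28)) = (LP (LK LD1_c5 LD2_c6 LD3_c14)) :=
  Lre_b IH (LK LD1_c2 LD2_c30 LD3_c28) (LK LD1_c5 LD2_c6 LD3_c14) Lrfl Lrfl
theorem f720990 : Led Lsl_gt (LP (LK LD1_c5 LD2_c6 LD3_c26)) = v14206 :=
  Lgr Lrot65 (Lpe (K20.f180563 IH) (Lpr_bt (f302901 IH) (Lpe (K21.f255885 IH) (Lpe (K27.f339066 IH) (Lpr_ct (K25.f339072 IH) (Lpe (K27.f366817 IH) (Lpe (K27.f329611 IH) (Lpe (f371794 IH) (Lpr_bf (f323758 IH) (Lpr_ct (f720986 IH) (Lpn v14206)))))))))))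
theorem f198707 : Led Lsl_et (LP (LK LD1_c2 LD2_c30 LD3_c30)) = (LP (LK LD1_c5 LD2_c6 LD3_c26)) :=
  Lre_e IH (LK LD1_c2 LD2_c30 LD3_c30) (LK LD1_c5 LD2_c6 LD3_c26) Lrfl Lrfl
theorem f8701 : Led Lsl_et (LP (LK LD1_c2 LD2_c40 LD3_c3)) = (LP (LK LD1_c1 LD2_c16 LD3_c45)) :=
  Lre_e IH (LK LD1_c2 LD2_c40 LD3_c3) (LK LD1_c1 LD2_c16 LD3_c45) Lrfl Lrfl
theorem f7571 : Led Lsl_dt (LP (LK LD1_c2 LD2_c40 LD3_c3)) = (LP (LK LD1_c5 LD2_c27 LD3_c24)) :=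
  Lre_d IH (LK LD1_c2 LD2_c40 LD3_c3) (LK LD1_c5 LD2_c27 LD3_c24) Lrfl Lrfl
theorem f7566 : Led Lsl_dt (LP (LK LD1_c5 LD2_c27 LD3_c24)) = (LP (LK LD1_c2 LD2_c40 LD3_c3)) :=
  Lre_d IH (LK LD1_c5 LD2_c27 LD3_c24) (LK LD1_c2 LD2_c40 LD3_c3) Lrfl Lrfl
theorem f8661 : Led Lsl_af (LP (LK LD1_c5 LD2_c27 LD3_c24)) = (LP (LK LD1_c6 LD2_c6 LD3_c56)) :=
  Lgr Lrot117 (Lpr_dt (f7566 IH) (Lpr_at (K0.f8651 IH) (Lpr_dt (K0.f8642 IH) (Lpn (LP (LK LD1_c6 LD2_c6 LD3_c56))))))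
theorem f7648 : Led Lsl_ft (LP (LK LD1_c5 LD2_c27 LD3_c24)) = (LP (LK LD1_c2 LD2_c43 LD3_c22)) :=
  Lre_f IH (LK LD1_c5 LD2_c27 LD3_c24) (LK LD1_c2 LD2_c43 LD3_c22) Lrfl Lrfl
theorem f7649 : Led Lsl_at (LP (LK LD1_c2 LD2_c43 LD3_c22)) = (LP (LK LD1_c4 LD2_c30 LD3_c44)) :=
  Lre_a IH (LK LD1_c2 LD2_c43 LD3_c22) (LK LD1_c4 LD2_c30 LD3_c44) Lrfl Lrfl
theorem f8691 : Led Lsl_ft (LP (LK LD1_c4 LD2_c30 LD3_c44)) = (LP (LK LD1_c6 LD2_c6 LD3_c56)) :=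
  Lgr Lrot101 (Lpe (f7649 IH) (Lpe (f7648 IH) (Lpr_af (f8661 IH) (Lpn (LP (LK LD1_c6 LD2_c6 LD3_c56))))))
theorem f8693 : Led Lsl_gt (LP (LK LD1_c4 LD2_c30 LD3_c44)) = (LP (LK LD1_c8 LD2_c59 LD3_c44)) :=
  Lre_g IH (LK LD1_c4 LD2_c30 LD3_c44) (LK LD1_c8 LD2_c59 LD3_c44) Lrfl Lrfl
theorem f8694 : Led Lsl_gf (LP (LK LD1_c5 LD2_c27 LD3_c24)) = (LP (LK LD1_c8 LD2_c59 LD3_c44)) :=
  Lgr Lrot76 (Lpr_af (f8661 IH) (Lpe (f8691 IH) (Lpr_gt (f8693 IH) (Lpn (LP (LK LD1_c8 LD2_c59 LD3_c44))))))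
def v14069 : LQ := Led Lsl_ct (LP (LK LD1_c4 LD2_c56 LD3_c29))
theorem f718840 : Led Lsl_ct (LP (LK LD1_c4 LD2_c56 LD3_c29)) = v14069 :=
  Lrfl
theorem f53001 : Led Lsl_gt (LP (LK LD1_c25 LD2_c13 LD3_c18)) = (LP (LK LD1_c15 LD2_c21 LD3_c46)) :=
  Lre_g IH (LK LD1_c25 LD2_c13 LD3_c18) (LK LD1_c15 LD2_c21 LD3_c46) Lrfl Lrfl
theorem f310591 : Led Lsl_ct (LP (LK LD1_c25 LD2_c13 LD3_c42)) = (LP (LK LD1_c15 LD2_c22 LD3_c0)) :=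
  Lre_c IH (LK LD1_c25 LD2_c13 LD3_c42) (LK LD1_c15 LD2_c22 LD3_c0) Lrfl Lrfl
theorem f323722 : Led Lsl_gf (LP (LK LD1_c25 LD2_c13 LD3_c42)) = (LP (LK LD1_c17 LD2_c53 LD3_c49)) :=
  Lgr Lrot104 (Lpr_ct (f310591 IH) (Lpr_df (K21.f310587 IH) (Lpe (K22.f310593 IH) (Lpr_gf (K25.f323702 IH) (Lpe (K20.f224249 IH) (Lpr_gf (K20.f235125 IH) (Lpe (K21.f313098 IH) (Lpr_gt (K22.f323695 IH) (Lpr_ct (K23.f169138 IH) (Lpn (LP (LK LD1_c17 LD2_c53 LD3_c49))))))))))))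
theorem f342149 : Led Lsl_ef (LP (LK LD1_c25 LD2_c13 LD3_c42)) = (LP (LK LD1_c15 LD2_c52 LD3_c38)) :=
  Lgr Lrot114 (Lpr_gt (K23.f328699 IH) (Lpe (K21.f298388 IH) (Lpr_dt (K22.f196696 IH) (Lpr_gt (K22.f339670 IH) (Lpe (K22.f262180 IH) (Lpe (K22.f339672 IH) (Lpr_gt (K22.f220975 IH) (Lpr_dt (K23.f220961 IH) (Lpr_gt (K23.f221009 IH) (Lpr_df (K23.f342140 IH) (Lpn (LP (LK LD1_c15 LD2_c52 LD3_c38)))))))))))))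
theorem f346342 : Led Lsl_gf (LP (LK LD1_c25 LD2_c10 LD3_c47)) = (LP (LK LD1_c15 LD2_c19 LD3_c47)) :=
  Lgr Lrot134 (Lpr_df (K23.f346199 IH) (Lpr_et (K24.f323754 IH) (Lpe (f323722 IH) (Lpr_ef (f342149 IH) (Lpe (K23.f342140 IH) (Lpr_gt (K23.f314489 IH) (Lpe (K23.f200752 IH) (Lpe (K19.f314433 IH) (Lpr_gt (K23.f342147 IH) (Lpr_dt (K26.f265690 IH) (Lpn (LP (LK LD1_c15 LD2_c19 LD3_c47)))))))))))))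
theorem f346344 : Led Lsl_df (LP (LK LD1_c25 LD2_c13 LD3_c18)) = (LP (LK LD1_c25 LD2_c13 LD3_c42)) :=
  Lgr Lrot135 (Lpr_gt (f53001 IH) (Lpe (f52608 IH) (Lpr_et (K22.f226799 IH) (Lpe (K23.f332893 IH) (Lpe (K26.f332897 IH) (Lpr_dt (K26.f265690 IH) (Lpe (f346342 IH) (Lpr_df (K23.f346199 IH) (Lpr_et (K24.f323754 IH) (Lpe (f323722 IH) (Lpn (LP (LK LD1_c25 LD2_c13 LD3_c42)))))))))))))
theorem f354031 : Led Lsl_gf (LP (LK LD1_c15 LD2_c52 LD3_c41)) = (LP (LK LD1_c9 LD2_c44 LD3_c29)) :=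
  Lgr Lrot144 (Lpr_dt (K25.f354027 IH) (Lpe (K22.f189384 IH) (Lpr_dt (K19.f27477 IH) (Lpe (K22.f312222 IH) (Lpe (f53000 IH) (Lpe (f53001 IH) (Lpr_df (f346344 IH) (Lpr_gf (f323722 IH) (Lpe (K23.f169138 IH) (Lpn (LP (LK LD1_c9 LD2_c44 LD3_c29))))))))))))
theorem f354018 : Led Lsl_dt (LP (LK LD1_c5 LD2_c35 LD3_c59)) = (LP (LK LD1_c8 LD2_c27 LD3_c21)) :=
  Lgr Lrot6 (Lpr_gt (K25.f354016 IH) (Lpr_ct (K19.f189916 IH) (Lpe (K25.f348917 IH) (Lpe (K25.f348814 IH) (Lpr_df (K19.f310518 IH) (Lpr_cf (K25.f338823 IH) (Lpe (K25.f189204 IH) (Lpe (K25.f189933 IH) (Lpe (K25.f27607 IH) (Lpn (LP (LK LD1_c8 LD2_c27 LD3_c21))))))))))))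
theorem f190235 : Led Lsl_et (LP (LK LD1_c2 LD2_c0 LD3_c41)) = (LP (LK LD1_c4 LD2_c6 LD3_c45)) :=
  Lre_e IH (LK LD1_c2 LD2_c0 LD3_c41) (LK LD1_c4 LD2_c6 LD3_c45) Lrfl Lrfl
theorem f189379 : Led Lsl_et (LP (LK LD1_c2 LD2_c43 LD3_c50)) = (LP (LK LD1_c5 LD2_c35 LD3_c59)) :=
  Lre_e IH (LK LD1_c2 LD2_c43 LD3_c50) (LK LD1_c5 LD2_c35 LD3_c59) Lrfl Lrfl
theorem f190236 : Led Lsl_gt (LP (LK LD1_c4 LD2_c6 LD3_c45)) = (LP (LK LD1_c5 LD2_c35 LD3_c59)) :=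
  Lgr Lrot131 (Lpe (f190235 IH) (Lpr_dt (K14.f190234 IH) (Lpr_gf (K10.f190222 IH) (Lpe (K13.f27885 IH) (Lpr_gf (K12.f27883 IH) (Lpe (K20.f27905 IH) (Lpr_dt (K22.f27906 IH) (Lpe (K22.f27907 IH) (Lpe (K22.f189138 IH) (Lpr_et (f189379 IH) (Lpn (LP (LK LD1_c5 LD2_c35 LD3_c59)))))))))))))
theorem f200833 : Led Lsl_gt (LP (LK LD1_c8 LD2_c8 LD3_c46)) = (LP (LK LD1_c15 LD2_c20 LD3_c18)) :=
  Lre_g IH (LK LD1_c8 LD2_c8 LD3_c46) (LK LD1_c15 LD2_c20 LD3_c18) Lrfl Lrfl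
theorem f358256 : Led Lsl_df (LP (LK LD1_c15 LD2_c16 LD3_c17)) = (LP (LK LD1_c15 LD2_c20 LD3_c18)) :=
  Lgr Lrot84 (Lpr_cf (K26.f358241 IH) (Lpe (f354018 IH) (Lpe (f190236 IH) (Lpr_df (K23.f211266 IH) (Lpe (K23.f211274 IH) (Lpe (K23.f347144 IH) (Lpr_gt (K23.f200890 IH) (Lpr_dt (K21.f200831 IH) (Lpr_gt (f200833 IH) (Lpn (LP (LK LD1_c15 LD2_c20 LD3_c18))))))))))))
theorem f358261 : Led Lsl_dt (LP (LK LD1_c15 LD2_c16 LD3_c17)) = (LP (LK LD1_c15 LD2_c20 LD3_c18)) :=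
  Lgr Lrot42 (Lpr_df (f358256 IH) (Lpn (LP (LK LD1_c15 LD2_c20 LD3_c18))))
theorem f358251 : Led Lsl_et (LP (LK LD1_c15 LD2_c16 LD3_c17)) = (LP (LK LD1_c25 LD2_c6 LD3_c16)) :=
  Lre_e IH (LK LD1_c15 LD2_c16 LD3_c17) (LK LD1_c25 LD2_c6 LD3_c16) Lrfl Lrfl
theorem f358271 : Led Lsl_gt (LP (LK LD1_c25 LD2_c6 LD3_c16)) = (LP (LK LD1_c24 LD2_c58 LD3_c46)) :=
  Lgr Lrot137 (Lpe (f358251 IH) (Lpr_dt (f358261 IH) (Lpe (f200833 IH) (Lpe (K21.f200831 IH) (Lpr_et (K17.f200830 IH) (Lpe (K11.f200804 IH) (Lpe (K19.f52664 IH) (Lpr_dt (K19.f52885 IH) (Lpe (K19.f52914 IH) (Lpr_df (K19.f299088 IH) (Lpn (LP (LK LD1_c24 LD2_c58 LD3_c46)))))))))))))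
theorem f52624 : Led Lsl_dt (LP (LK LD1_c8 LD2_c27 LD3_c34)) = (LP (LK LD1_c4 LD2_c14 LD3_c51)) :=
  Lre_d IH (LK LD1_c8 LD2_c27 LD3_c34) (LK LD1_c4 LD2_c14 LD3_c51) Lrfl Lrfl
theorem f52639 : Led Lsl_bt (LP (LK LD1_c8 LD2_c28 LD3_c30)) = (LP (LK LD1_c4 LD2_c14 LD3_c51)) :=
  Lre_b IH (LK LD1_c8 LD2_c28 LD3_c30) (LK LD1_c4 LD2_c14 LD3_c51) Lrfl Lrfl
theorem f196893 : Led Lsl_ct (LP (LK LD1_c4 LD2_c14 LD3_c51)) = (LP (LK LD1_c2 LD2_c45 LD3_c22)) :=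
  Lgr Lrot83 (Lpe (f52639 IH) (Lpr_cf (K10.f196890 IH) (Lpe (K10.f194677 IH) (Lpe (K10.f194674 IH) (Lpe (K14.f194667 IH) (Lpn (LP (LK LD1_c2 LD2_c45 LD3_c22))))))))
theorem f358276 : Led Lsl_cf (LP (LK LD1_c25 LD2_c6 LD3_c16)) = (LP (LK LD1_c15 LD2_c52 LD3_c41)) :=
  Lgr Lrot166 (Lpr_gt (f358271 IH) (Lpe (K19.f299088 IH) (Lpr_gt (K19.f52914 IH) (Lpr_dt (f52624 IH) (Lpr_ct (f196893 IH) (Lpr_df (K14.f194669 IH) (Lpe (K14.f194681 IH) (Lpe (K14.f194682 IH) (Lpr_gf (f354821 IH) (Lpn (LP (LK LD1_c15 LD2_c52 LD3_c41))))))))))))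
theorem f329968 : Led Lsl_bf (LP (LK LD1_c8 LD2_c55 LD3_c41)) = (LP (LK LD1_c15 LD2_c9 LD3_c39)) :=
  Lgr Lrot96 (Lpr_et (K22.f329966 IH) (Lpe (K21.f299013 IH) (Lpr_et (K22.f299092 IH) (Lpn (LP (LK LD1_c15 LD2_c9 LD3_c39))))))
def v12702 : LQ := Led Lsl_ct (LP (LK LD1_c4 LD2_c29 LD3_c0))
theorem f697714 : Led Lsl_ct (LP (LK LD1_c4 LD2_c29 LD3_c0)) = v12702 :=
  Lrfl
theorem f718843 : Led Lsl_gt v12702 = v14069 :=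
  Lgr Lrot65 (Lpe (f697714 IH) (Lpe (K25.f356697 IH) (Lpe (K25.f356710 IH) (Lpr_bf (f329968 IH) (Lpr_ct (K19.f28039 IH) (Lpe (f358271 IH) (Lpr_cf (f358276 IH) (Lpr_gf (f354031 IH) (Lpe (K21.f307051 IH) (Lpr_ct (f718840 IH) (Lpn v14069)))))))))))
theorem f697716 : Led Lsl_cf (LP (LK LD1_c4 LD2_c29 LD3_c0)) = v12702 :=
  Lgr Lrot11 (Lpr_ct (f697714 IH) (Lpn v12702))
theorem f7641 : Led Lsl_ct (LP (LK LD1_c1 LD2_c16 LD3_c46)) = (LP (LK LD1_c2 LD2_c40 LD3_c3)) :=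
  Lre_c IH (LK LD1_c1 LD2_c16 LD3_c46) (LK LD1_c2 LD2_c40 LD3_c3) Lrfl Lrfl
theorem f718844 : Led Lsl_df (LP (LK LD1_c8 LD2_c59 LD3_c44)) = v14069 :=
  Lgr Lrot153 (Lpe (f8694 IH) (Lpr_dt (f7566 IH) (Lpe (f7641 IH) (Lpe (K0.f7605 IH) (Lpr_gf (K18.f8621 IH) (Lpe (K18.f8624 IH) (Lpe (K22.f264567 IH) (Lpr_cf (f697716 IH) (Lpr_gt (f718843 IH) (Lpn v14069))))))))))
theorem f721003 : Led Lsl_et v14069 = v14206 :=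
  Lgr Lrot122 (Lpe (f718844 IH) (Lpe (f8694 IH) (Lpe (f7571 IH) (Lpr_et (f8701 IH) (Lpr_gt (K11.f177544 IH) (Lpr_dt (K11.f177467 IH) (Lpe (K11.f198674 IH) (Lpe (K14.f166134 IH) (Lpr_et (f198707 IH) (Lpr_gt (f720990 IH) (Lpn v14206)))))))))))
theorem f727424 : Led Lsl_ff v14069 = v14953 :=
  Lgr Lrot72 (Lpr_et (f721003 IH) (Lpr_ft (f722576 IH) (Lpe (f722568 IH) (Lpe (f635470 IH) (Lpr_et (f727420 IH) (Lpn v14953))))))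
theorem f718841 : Led Lsl_cf (LP (LK LD1_c4 LD2_c56 LD3_c29)) = v14069 :=
  Lgr Lrot11 (Lpr_ct (f718840 IH) (Lpn v14069))
theorem f634571 : Led Lsl_ft (LP (LK LD1_c4 LD2_c56 LD3_c29)) = (LP (LK LD1_c5 LD2_c36 LD3_c27)) :=
  Lgr Lrot48 (Lpr_ff (f634567 IH) (Lpn (LP (LK LD1_c5 LD2_c36 LD3_c27))))
theorem f727425 : Led Lsl_ct (LP (LK LD1_c5 LD2_c36 LD3_c27)) = v14953 :=
  Lgr Lrot40 (Lpe (f634571 IH) (Lpr_cf (f718841 IH) (Lpr_ff (f727424 IH) (Lpn v14953))))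
theorem f8645 : Led Lsl_at (LP (LK LD1_c4 LD2_c30 LD3_c44)) = (LP (LK LD1_c2 LD2_c43 LD3_c22)) :=
  Lre_a IH (LK LD1_c4 LD2_c30 LD3_c44) (LK LD1_c2 LD2_c43 LD3_c22) Lrfl Lrfl
theorem f8646 : Led Lsl_ft (LP (LK LD1_c6 LD2_c6 LD3_c56)) = (LP (LK LD1_c4 LD2_c30 LD3_c44)) :=
  Lgr Lrot142 (Lpr_dt (K0.f8641 IH) (Lpr_ct (K0.f8589 IH) (Lpr_dt (K0.f8616 IH) (Lpr_ct (K0.f8596 IH) (Lpr_dt (K0.f8642 IH) (Lpe (K0.f8643 IH) (Lpr_dt (K0.f7560 IH) (Lpr_ct (K0.f7584 IH) (Lpe (f8645 IH) (Lpn (LP (LK LD1_c4 LD2_c30 LD3_c44))))))))))))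
theorem f7609 : Led Lsl_gt (LP (LK LD1_c5 LD2_c34 LD3_c58)) = (LP (LK LD1_c2 LD2_c43 LD3_c22)) :=
  Lre_g IH (LK LD1_c5 LD2_c34 LD3_c58) (LK LD1_c2 LD2_c43 LD3_c22) Lrfl Lrfl
theorem f446706 : Led Lsl_gt (LP (LK LD1_c6 LD2_c6 LD3_c56)) = (LP (LK LD1_c5 LD2_c34 LD3_c58)) :=
  Lgr Lrot5 (Lpr_ft (f8646 IH) (Lpr_at (f8645 IH) (Lpe (f7609 IH) (Lpn (LP (LK LD1_c5 LD2_c34 LD3_c58))))))
theorem f727429 : Led Lsl_dt (LP (LK LD1_c5 LD2_c34 LD3_c58)) = v14953 :=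
  Lgr Lrot113 (Lpe (f446706 IH) (Lpe (K0.f8642 IH) (Lpe (K20.f8666 IH) (Lpe (f320543 IH) (Lpr_gt (f335783 IH) (Lpr_dt (K9.f55308 IH) (Lpr_gt (K19.f55301 IH) (Lpr_dt (K25.f178461 IH) (Lpr_ct (f727425 IH) (Lpn v14953))))))))))
theorem f634627 : Led Lsl_af (LP (LK LD1_c5 LD2_c28 LD3_c32)) = (LP (LK LD1_c8 LD2_c21 LD3_c47)) :=
  Lgr Lrot68 (Lpe (f355115 IH) (Lpr_at (f634623 IH) (Lpr_ct (f360630 IH) (Lpn (LP (LK LD1_c8 LD2_c21 LD3_c47))))))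
def v14070 : LQ := Led Lsl_ct (LP (LK LD1_c4 LD2_c56 LD3_c32))
theorem f718845 : Led Lsl_ct (LP (LK LD1_c4 LD2_c56 LD3_c32)) = v14070 :=
  Lrfl
theorem f718847 : Led Lsl_ef (LP (LK LD1_c8 LD2_c21 LD3_c47)) = v14070 :=
  Lgr Lrot28 (Lpe (f360623 IH) (Lpr_et (K22.f180010 IH) (Lpr_ct (f718845 IH) (Lpn v14070))))
theorem f727421 : Led Lsl_af v14070 = v14953 :=
  Lgr Lrot50 (Lpe (f718847 IH) (Lpe (f634627 IH) (Lpr_et (f727420 IH) (Lpn v14953))))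
theorem f330036 : Led Lsl_ct (LP (LK LD1_c4 LD2_c30 LD3_c42)) = (LP (LK LD1_c2 LD2_c26 LD3_c0)) :=
  Lgr Lrot59 (Lpr_cf (f329936 IH) (Lpn (LP (LK LD1_c2 LD2_c26 LD3_c0))))
theorem f55278 : Led Lsl_bt (LP (LK LD1_c2 LD2_c25 LD3_c43)) = (LP (LK LD1_c1 LD2_c10 LD3_c10)) :=
  Lre_b IH (LK LD1_c2 LD2_c25 LD3_c43) (LK LD1_c1 LD2_c10 LD3_c10) Lrfl Lrfl
theorem f55145 : Led Lsl_ct (LP (LK LD1_c2 LD2_c25 LD3_c43)) = (LP (LK LD1_c4 LD2_c55 LD3_c50)) :=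
  Lre_c IH (LK LD1_c2 LD2_c25 LD3_c43) (LK LD1_c4 LD2_c55 LD3_c50) Lrfl Lrfl
theorem f55288 : Led Lsl_gt (LP (LK LD1_c9 LD2_c43 LD3_c21)) = (LP (LK LD1_c4 LD2_c55 LD3_c50)) :=
  Lre_g IH (LK LD1_c9 LD2_c43 LD3_c21) (LK LD1_c4 LD2_c55 LD3_c50) Lrfl Lrfl
theorem f323851 : Led Lsl_ct (LP (LK LD1_c10 LD2_c32 LD3_c28)) = (LP (LK LD1_c9 LD2_c43 LD3_c21)) :=
  Lgr Lrot91 (Lpr_gf (K24.f323846 IH) (Lpe (K10.f30981 IH) (Lpe (K10.f52332 IH) (Lpr_gf (K21.f53008 IH) (Lpr_cf (K21.f323491 IH) (Lpr_bt (K21.f55320 IH) (Lpe (K21.f55315 IH) (Lpe (f55278 IH) (Lpr_ct (f55145 IH) (Lpe (f55288 IH) (Lpn (LP (LK LD1_c9 LD2_c43 LD3_c21)))))))))))))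
theorem f41472 : Led Lsl_bt (LP (LK LD1_c10 LD2_c32 LD3_c28)) = (LP (LK LD1_c5 LD2_c21 LD3_c10)) :=
  Lre_b IH (LK LD1_c10 LD2_c32 LD3_c28) (LK LD1_c5 LD2_c21 LD3_c10) Lrfl Lrfl
theorem f330040 : Led Lsl_gt (LP (LK LD1_c4 LD2_c30 LD3_c42)) = (LP (LK LD1_c2 LD2_c40 LD3_c3)) :=
  Lgr Lrot149 (Lpr_cf (f329936 IH) (Lpe (K21.f55315 IH) (Lpe (f55278 IH) (Lpr_ct (f55145 IH) (Lpe (f55288 IH) (Lpe (f323851 IH) (Lpr_bt (f41472 IH) (Lpe (K21.f8697 IH) (Lpe (K21.f7636 IH) (Lpr_ct (f7641 IH) (Lpn (LP (LK LD1_c2 LD2_c40 LD3_c3)))))))))))))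
theorem f8696 : Led Lsl_gt (LP (LK LD1_c5 LD2_c27 LD3_c24)) = (LP (LK LD1_c8 LD2_c59 LD3_c45)) :=
  Lre_g IH (LK LD1_c5 LD2_c27 LD3_c24) (LK LD1_c8 LD2_c59 LD3_c45) Lrfl Lrfl
theorem f718848 : Led Lsl_dt (LP (LK LD1_c8 LD2_c59 LD3_c45)) = v14070 :=
  Lgr Lrot113 (Lpe (f8696 IH) (Lpe (f7571 IH) (Lpe (f330040 IH) (Lpr_ct (f330036 IH) (Lpe (K21.f55316 IH) (Lpe (K9.f47876 IH) (Lpe (K13.f54869 IH) (Lpr_dt (K13.f54879 IH) (Lpr_ct (f718845 IH) (Lpn v14070))))))))))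
theorem f718851 : Led Lsl_df (LP (LK LD1_c8 LD2_c59 LD3_c45)) = v14070 :=
  Lgr Lrot38 (Lpr_dt (f718848 IH) (Lpn v14070))
theorem f727430 : Led Lsl_af (LP (LK LD1_c5 LD2_c34 LD3_c58)) = (LP (LK LD1_c8 LD2_c59 LD3_c45)) :=
  Lgr Lrot117 (Lpr_dt (f727429 IH) (Lpe (f727421 IH) (Lpe (f718851 IH) (Lpn (LP (LK LD1_c8 LD2_c59 LD3_c45))))))
theorem f727431 : Led Lsl_at (LP (LK LD1_c8 LD2_c59 LD3_c45)) = (LP (LK LD1_c5 LD2_c34 LD3_c58)) :=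
  Leop (Lpr_af (f727430 IH) (Lpn (LP (LK LD1_c8 LD2_c59 LD3_c45))))
theorem seed_862 : LEOK LG_a (LK LD1_c8 LD2_c59 LD3_c45) :=
  Leoe_a (LK LD1_c8 LD2_c59 LD3_c45) (f727431 IH)
def v14960 : LQ := Led Lsl_gf (LP (LK LD1_c5 LD2_c28 LD3_c44))
theorem f727485 : Led Lsl_gf (LP (LK LD1_c5 LD2_c28 LD3_c44)) = v14960 :=
  Lrfl
def v14959 : LQ := Led Lsl_gt (LP (LK LD1_c5 LD2_c28 LD3_c44))
theorem f727478 : Led Lsl_gt (LP (LK LD1_c5 LD2_c28 LD3_c44)) = v14959 :=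
  Lrfl
theorem f179313 : Led Lsl_et (LP (LK LD1_c2 LD2_c40 LD3_c39)) = (LP (LK LD1_c5 LD2_c28 LD3_c44)) :=
  Lre_e IH (LK LD1_c2 LD2_c40 LD3_c39) (LK LD1_c5 LD2_c28 LD3_c44) Lrfl Lrfl
theorem f179319 : Led Lsl_et (LP (LK LD1_c1 LD2_c20 LD3_c28)) = (LP (LK LD1_c0 LD2_c37 LD3_c10)) :=
  Lre_e IH (LK LD1_c1 LD2_c20 LD3_c28) (LK LD1_c0 LD2_c37 LD3_c10) Lrfl Lrfl
def v4812 : LQ := Led Lsl_gf (LP (LK LD1_c2 LD2_c48 LD3_c40))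
theorem f639101 : Led Lsl_gf (LP (LK LD1_c2 LD2_c48 LD3_c40)) = v4812 :=
  Lrfl
theorem f171827 : Led Lsl_ct (LP (LK LD1_c8 LD2_c0 LD3_c59)) = (LP (LK LD1_c3 LD2_c59 LD3_c57)) :=
  Lre_c IH (LK LD1_c8 LD2_c0 LD3_c59) (LK LD1_c3 LD2_c59 LD3_c57) Lrfl Lrfl
theorem f444660 : Led Lsl_gf (LP (LK LD1_c8 LD2_c0 LD3_c59)) = (LP (LK LD1_c6 LD2_c3 LD3_c1)) :=
  Lgr Lrot104 (Lpr_ct (f171827 IH) (Lpe (K48.f40473 IH) (Lpr_cf (K32.f444589 IH) (Lpe (K32.f25586 IH) (Lpe (K24.f140706 IH) (Lpe (K31.f27121 IH) (Lpe (K32.f140711 IH) (Lpr_gt (K0.f23858 IH) (Lpr_ct (K49.f444659 IH) (Lpn (LP (LK LD1_c6 LD2_c3 LD3_c1))))))))))))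
theorem f639102 : Led Lsl_dt (LP (LK LD1_c8 LD2_c0 LD3_c59)) = v4812 :=
  Lgr Lrot57 (Lpr_gf (f444660 IH) (Lpe (K49.f444659 IH) (Lpr_gt (K32.f501124 IH) (Lpr_dt (K17.f172565 IH) (Lpr_gt (K17.f172564 IH) (Lpr_dt (K1.f59813 IH) (Lpe (K35.f415890 IH) (Lpe (K52.f415889 IH) (Lpr_gf (f639101 IH) (Lpn v4812))))))))))
theorem f727479 : Led Lsl_et (LP (LK LD1_c8 LD2_c0 LD3_c59)) = v14959 :=
  Lgr Lrot122 (Lpr_dt (f639102 IH) (Lpe (f639101 IH) (Lpe (K52.f179320 IH) (Lpr_et (f179319 IH) (Lpr_gt (K9.f168230 IH) (Lpr_dt (K9.f179182 IH) (Lpe (K12.f179189 IH) (Lpe (K15.f179312 IH) (Lpr_et (f179313 IH) (Lpr_gt (f727478 IH) (Lpn v14959)))))))))))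
theorem f727482 : Led Lsl_ef (LP (LK LD1_c8 LD2_c0 LD3_c59)) = v14959 :=
  Lgr Lrot88 (Lpr_et (f727479 IH) (Lpn v14959))
theorem f633816 : Led Lsl_af (LP (LK LD1_c8 LD2_c0 LD3_c59)) = (LP (LK LD1_c5 LD2_c0 LD3_c20)) :=
  Lgr Lrot68 (Lpr_ct (f171827 IH) (Lpr_at (K51.f633795 IH) (Lpr_ct (K52.f40960 IH) (Lpn (LP (LK LD1_c5 LD2_c0 LD3_c20))))))
theorem f633905 : Led Lsl_at (LP (LK LD1_c8 LD2_c0 LD3_c59)) = (LP (LK LD1_c5 LD2_c0 LD3_c20)) :=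
  Lgr Lrot100 (Lpr_af (f633816 IH) (Lpn (LP (LK LD1_c5 LD2_c0 LD3_c20))))
def v14172 : LQ := Led Lsl_et (LP (LK LD1_c5 LD2_c0 LD3_c20))
theorem f720818 : Led Lsl_et (LP (LK LD1_c5 LD2_c0 LD3_c20)) = v14172 :=
  Lrfl
theorem f727483 : Led Lsl_at v14172 = v14959 :=
  Lgr Lrot80 (Lpe (f720818 IH) (Lpe (f633905 IH) (Lpr_ef (f727482 IH) (Lpn v14959))))
theorem f727486 : Led Lsl_ff v14172 = v14960 :=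
  Lgr Lrot52 (Lpr_at (f727483 IH) (Lpe (f727478 IH) (Lpr_gf (f727485 IH) (Lpn v14960))))
theorem f454877 : Led Lsl_et (LP (LK LD1_c5 LD2_c0 LD3_c21)) = (LP (LK LD1_c2 LD2_c27 LD3_c54)) :=
  Lre_e IH (LK LD1_c5 LD2_c0 LD3_c21) (LK LD1_c2 LD2_c27 LD3_c54) Lrfl Lrfl
theorem f720819 : Led Lsl_cf (LP (LK LD1_c5 LD2_c0 LD3_c21)) = v14172 :=
  Lgr Lrot39 (Lpr_et (f454877 IH) (Lpr_ct (K52.f40960 IH) (Lpr_et (f720818 IH) (Lpn v14172))))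
theorem f727487 : Led Lsl_ct (LP (LK LD1_c5 LD2_c37 LD3_c34)) = v14960 :=
  Lgr Lrot40 (Lpr_ff (K51.f633786 IH) (Lpr_cf (f720819 IH) (Lpr_ff (f727486 IH) (Lpn v14960))))
theorem f288052 : Led Lsl_gt (LP (LK LD1_c5 LD2_c40 LD3_c45)) = (LP (LK LD1_c5 LD2_c37 LD3_c34)) :=
  Lgr Lrot5 (Lpr_ft (K17.f225486 IH) (Lpr_at (K17.f288040 IH) (Lpe (K51.f165094 IH) (Lpn (LP (LK LD1_c5 LD2_c37 LD3_c34))))))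
theorem f53219 : Led Lsl_gt (LP (LK LD1_c5 LD2_c8 LD3_c9)) = (LP (LK LD1_c2 LD2_c31 LD3_c18)) :=
  Lre_g IH (LK LD1_c5 LD2_c8 LD3_c9) (LK LD1_c2 LD2_c31 LD3_c18) Lrfl Lrfl
theorem f288075 : Led Lsl_gt (LP (LK LD1_c5 LD2_c14 LD3_c36)) = (LP (LK LD1_c5 LD2_c8 LD3_c9)) :=
  Lgr Lrot5 (Lpr_ft (K17.f225468 IH) (Lpr_at (K17.f288067 IH) (Lpe (f53219 IH) (Lpn (LP (LK LD1_c5 LD2_c8 LD3_c9))))))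
def v14394 : LQ := Led Lsl_ct (LP (LK LD1_c5 LD2_c8 LD3_c9))
theorem f722319 : Led Lsl_ct (LP (LK LD1_c5 LD2_c8 LD3_c9)) = v14394 :=
  Lrfl
theorem f180433 : Led Lsl_cf (LP (LK LD1_c2 LD2_c44 LD3_c34)) = (LP (LK LD1_c5 LD2_c28 LD3_c44)) :=
  Lgr Lrot11 (Lpr_ct (K30.f180397 IH) (Lpn (LP (LK LD1_c5 LD2_c28 LD3_c44))))
theorem f166289 : Led Lsl_ct (LP (LK LD1_c5 LD2_c4 LD3_c40)) = (LP (LK LD1_c2 LD2_c30 LD3_c19)) :=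
  Lgr Lrot59 (Lpr_cf (K18.f166247 IH) (Lpn (LP (LK LD1_c2 LD2_c30 LD3_c19))))
theorem f166296 : Led Lsl_gt (LP (LK LD1_c10 LD2_c0 LD3_c29)) = (LP (LK LD1_c5 LD2_c4 LD3_c40)) :=
  Lre_g IH (LK LD1_c10 LD2_c0 LD3_c29) (LK LD1_c5 LD2_c4 LD3_c40) Lrfl Lrfl
theorem f727490 : v14394 = (LP (LK LD1_c10 LD2_c0 LD3_c29)) :=
  (Llr Lrot152 (Lpe (f722319 IH) (Lpe (f288075 IH) (Lpr_df (K17.f225469 IH) (Lpr_gt (f288052 IH) (Lpr_ct (f727487 IH) (Lpe (f727485 IH) (Lpe (f180433 IH) (Lpr_df (K17.f164749 IH) (Lpe (f166289 IH) (Lpe (f166296 IH) (Lpn (LP (LK LD1_c10 LD2_c0 LD3_c29)))))))))))))).symm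
theorem f722320 : Led Lsl_cf (LP (LK LD1_c5 LD2_c8 LD3_c9)) = v14394 :=
  Lgr Lrot11 (Lpr_ct (f722319 IH) (Lpn v14394))
theorem f727491 : Led Lsl_ct (LP (LK LD1_c10 LD2_c0 LD3_c29)) = (LP (LK LD1_c5 LD2_c8 LD3_c9)) :=
  Leop (Lpr_cf (f722320 IH) (Lpqs (f727490 IH) (Lpn (LP (LK LD1_c10 LD2_c0 LD3_c29)))))
theorem seed_863 : LEOK LG_c (LK LD1_c10 LD2_c0 LD3_c29) :=
  Leoe_c (LK LD1_c10 LD2_c0 LD3_c29) (f727491 IH)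
def v14961 : LQ := Led Lsl_ft (LP (LK LD1_c5 LD2_c28 LD3_c44))
theorem f727494 : Led Lsl_ft (LP (LK LD1_c5 LD2_c28 LD3_c44)) = v14961 :=
  Lrfl
theorem f727497 : Led Lsl_ff (LP (LK LD1_c5 LD2_c28 LD3_c44)) = v14961 :=
  Lgr Lrot3 (Lpr_ft (f727494 IH) (Lpn v14961))
theorem f276217 : Led Lsl_ft (LP (LK LD1_c2 LD2_c40 LD3_c39)) = (LP (LK LD1_c2 LD2_c42 LD3_c47)) :=
  Lgr Lrot54 (Lpe (K15.f179299 IH) (Lpr_ff (K16.f276211 IH) (Lpr_df (K14.f225342 IH) (Lpn (LP (LK LD1_c2 LD2_c42 LD3_c47))))))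
theorem f727499 : Led Lsl_et (LP (LK LD1_c10 LD2_c58 LD3_c36)) = v14961 :=
  Lgr Lrot69 (Lpe (K50.f289190 IH) (Lpe (K17.f225362 IH) (Lpe (f276217 IH) (Lpe (K30.f180396 IH) (Lpr_ff (f727497 IH) (Lpn v14961))))))
def v12870 : LQ := Led Lsl_gf (LP (LK LD1_c4 LD2_c33 LD3_c42))
theorem f698704 : Led Lsl_gf (LP (LK LD1_c4 LD2_c33 LD3_c42)) = v12870 :=
  Lrfl
theorem f639109 : Led Lsl_at (LP (LK LD1_c2 LD2_c48 LD3_c40)) = (LP (LK LD1_c4 LD2_c33 LD3_c42)) :=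
  Lre_a IH (LK LD1_c2 LD2_c48 LD3_c40) (LK LD1_c4 LD2_c33 LD3_c42) Lrfl Lrfl
theorem f698705 : Led Lsl_gt K52.v4813 = v12870 :=
  Lgr Lrot5 (Lpe (K52.f639115 IH) (Lpr_at (f639109 IH) (Lpr_gf (f698704 IH) (Lpn v12870))))
theorem f415713 : Led Lsl_dt (LP (LK LD1_c4 LD2_c33 LD3_c42)) = (LP (LK LD1_c2 LD2_c13 LD3_c44)) :=
  Lre_d IH (LK LD1_c4 LD2_c33 LD3_c42) (LK LD1_c2 LD2_c13 LD3_c44) Lrfl Lrfl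
theorem f698708 : Led Lsl_dt (LP (LK LD1_c5 LD2_c0 LD3_c20)) = v12870 :=
  Lgr Lrot57 (Lpe (K52.f140883 IH) (Lpe (K49.f140882 IH) (Lpr_gt (K49.f507720 IH) (Lpr_dt (K49.f174606 IH) (Lpr_gt (K24.f174605 IH) (Lpr_dt (K24.f23122 IH) (Lpe (K32.f140869 IH) (Lpe (f415713 IH) (Lpr_gf (f698704 IH) (Lpn v12870))))))))))
theorem f727500 : Led Lsl_gt v14172 = v14961 :=
  Lgr Lrot131 (Lpe (f720818 IH) (Lpr_dt (f698708 IH) (Lpe (f698705 IH) (Lpe (K52.f639117 IH) (Lpe (K32.f415653 IH) (Lpe (K41.f415707 IH) (Lpr_dt (K41.f415706 IH) (Lpr_gf (K41.f418616 IH) (Lpe (K41.f289195 IH) (Lpr_et (f727499 IH) (Lpn v14961)))))))))))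
theorem f720820 : Led Lsl_ef (LP (LK LD1_c5 LD2_c0 LD3_c20)) = v14172 :=
  Lgr Lrot88 (Lpr_et (f720818 IH) (Lpn v14172))
theorem f720822 : Led Lsl_ct (LP (LK LD1_c5 LD2_c0 LD3_c21)) = v14172 :=
  Lgr Lrot15 (Lpe (K51.f40964 IH) (Lpe (K52.f40959 IH) (Lpr_ef (f720820 IH) (Lpn v14172))))
theorem f225466 : Led Lsl_df (LP (LK LD1_c2 LD2_c34 LD3_c7)) = (LP (LK LD1_c2 LD2_c46 LD3_c17)) :=
  Lgr Lrot38 (Lpr_dt (K12.f225453 IH) (Lpn (LP (LK LD1_c2 LD2_c46 LD3_c17))))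
theorem f181107 : Led Lsl_gt (LP (LK LD1_c2 LD2_c34 LD3_c7)) = (LP (LK LD1_c5 LD2_c14 LD3_c34)) :=
  Lre_g IH (LK LD1_c2 LD2_c34 LD3_c7) (LK LD1_c5 LD2_c14 LD3_c34) Lrfl Lrfl
def v14596 : LQ := Led Lsl_ct (LP (LK LD1_c5 LD2_c14 LD3_c34))
theorem f723953 : Led Lsl_ct (LP (LK LD1_c5 LD2_c14 LD3_c34)) = v14596 :=
  Lrfl
theorem f727495 : Led Lsl_cf (LP (LK LD1_c5 LD2_c37 LD3_c17)) = v14961 :=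
  Lgr Lrot108 (Lpr_ft (K17.f164778 IH) (Lpr_ct (K30.f180397 IH) (Lpr_ft (f727494 IH) (Lpn v14961))))
theorem f21938 : Led Lsl_et (LP (LK LD1_c5 LD2_c11 LD3_c48)) = (LP (LK LD1_c2 LD2_c32 LD3_c47)) :=
  Lre_e IH (LK LD1_c5 LD2_c11 LD3_c48) (LK LD1_c2 LD2_c32 LD3_c47) Lrfl Lrfl
theorem f302330 : Led Lsl_ft (LP (LK LD1_c10 LD2_c14 LD3_c29)) = (LP (LK LD1_c5 LD2_c11 LD3_c48)) :=
  Lre_f IH (LK LD1_c10 LD2_c14 LD3_c29) (LK LD1_c5 LD2_c11 LD3_c48) Lrfl Lrfl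
theorem f302331 : Led Lsl_ef (LP (LK LD1_c10 LD2_c14 LD3_c29)) = (LP (LK LD1_c10 LD2_c0 LD3_c25)) :=
  Lgr Lrot21 (Lpr_ft (f302330 IH) (Lpr_et (f21938 IH) (Lpr_ft (K18.f302326 IH) (Lpr_et (K52.f169680 IH) (Lpr_ft (K52.f169744 IH) (Lpn (LP (LK LD1_c10 LD2_c0 LD3_c25))))))))
theorem f302696 : Led Lsl_af (LP (LK LD1_c10 LD2_c0 LD3_c30)) = (LP (LK LD1_c10 LD2_c14 LD3_c29)) :=
  Lgr Lrot50 (Lpe (K18.f302364 IH) (Lpr_at (K52.f302689 IH) (Lpe (f302331 IH) (Lpn (LP (LK LD1_c10 LD2_c14 LD3_c29))))))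
theorem f302337 : Led Lsl_ft (LP (LK LD1_c5 LD2_c11 LD3_c48)) = (LP (LK LD1_c10 LD2_c14 LD3_c29)) :=
  Lre_f IH (LK LD1_c5 LD2_c11 LD3_c48) (LK LD1_c10 LD2_c14 LD3_c29) Lrfl Lrfl
theorem f185273 : Led Lsl_gt (LP (LK LD1_c5 LD2_c11 LD3_c48)) = (LP (LK LD1_c10 LD2_c14 LD3_c26)) :=
  Lre_g IH (LK LD1_c5 LD2_c11 LD3_c48) (LK LD1_c10 LD2_c14 LD3_c26) Lrfl Lrfl
theorem f302705 : Led Lsl_gf (LP (LK LD1_c10 LD2_c0 LD3_c30)) = (LP (LK LD1_c10 LD2_c14 LD3_c26)) :=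
  Lgr Lrot76 (Lpr_af (f302696 IH) (Lpe (f302337 IH) (Lpr_gt (f185273 IH) (Lpn (LP (LK LD1_c10 LD2_c14 LD3_c26))))))
theorem f727501 : v14596 = (LP (LK LD1_c10 LD2_c14 LD3_c26)) :=
  (Llr Lrot152 (Lpe (f723953 IH) (Lpe (f181107 IH) (Lpr_df (f225466 IH) (Lpe (K51.f225457 IH) (Lpr_ct (f720822 IH) (Lpr_gt (f727500 IH) (Lpe (f727495 IH) (Lpr_df (f164776 IH) (Lpe (K18.f166292 IH) (Lpr_gf (f302705 IH) (Lpn (LP (LK LD1_c10 LD2_c14 LD3_c26)))))))))))))).symm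
theorem f723954 : Led Lsl_cf (LP (LK LD1_c5 LD2_c14 LD3_c34)) = v14596 :=
  Lgr Lrot11 (Lpr_ct (f723953 IH) (Lpn v14596))
theorem f727502 : Led Lsl_ct (LP (LK LD1_c10 LD2_c14 LD3_c26)) = (LP (LK LD1_c5 LD2_c14 LD3_c34)) :=
  Leop (Lpr_cf (f723954 IH) (Lpqs (f727501 IH) (Lpn (LP (LK LD1_c10 LD2_c14 LD3_c26)))))
theorem seed_864 : LEOK LG_c (LK LD1_c10 LD2_c14 LD3_c26) :=
  Leoe_c (LK LD1_c10 LD2_c14 LD3_c26) (f727502 IH)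
def v14964 : LQ := Led Lsl_gf (LP (LK LD1_c5 LD2_c28 LD3_c53))
theorem f727510 : Led Lsl_gf (LP (LK LD1_c5 LD2_c28 LD3_c53)) = v14964 :=
  Lrfl
theorem f727511 : Led Lsl_gt (LP (LK LD1_c10 LD2_c55 LD3_c27)) = v14964 :=
  Lgr Lrot5 (Lpr_ft (K20.f287984 IH) (Lpe (K20.f287985 IH) (Lpr_gf (f727510 IH) (Lpn v14964))))
theorem f319488 : Led Lsl_gt (LP (LK LD1_c20 LD2_c0 LD3_c6)) = (LP (LK LD1_c11 LD2_c6 LD3_c60)) :=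
  Lre_g IH (LK LD1_c20 LD2_c0 LD3_c6) (LK LD1_c11 LD2_c6 LD3_c60) Lrfl Lrfl
theorem f653285 : Led Lsl_bt (LP (LK LD1_c3 LD2_c21 LD3_c37)) = K46.v6420 :=
  Lgr Lrot35 (Lpe (K24.f454172 IH) (Lpr_bf (K46.f653263 IH) (Lpr_ff (K46.f653284 IH) (Lpn K46.v6420))))
theorem f9301 : Led Lsl_gt (LP (LK LD1_c3 LD2_c2 LD3_c41)) = (LP (LK LD1_c6 LD2_c12 LD3_c14)) :=
  Lre_g IH (LK LD1_c3 LD2_c2 LD3_c41) (LK LD1_c6 LD2_c12 LD3_c14) Lrfl Lrfl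
theorem f73047 : Led Lsl_bt (LP (LK LD1_c1 LD2_c27 LD3_c17)) = (LP (LK LD1_c3 LD2_c2 LD3_c32)) :=
  Lre_b IH (LK LD1_c1 LD2_c27 LD3_c17) (LK LD1_c3 LD2_c2 LD3_c32) Lrfl Lrfl
theorem f418627 : Led Lsl_et (LP (LK LD1_c5 LD2_c42 LD3_c54)) = (LP (LK LD1_c11 LD2_c16 LD3_c2)) :=
  Lre_e IH (LK LD1_c5 LD2_c42 LD3_c54) (LK LD1_c11 LD2_c16 LD3_c2) Lrfl Lrfl
theorem f418629 : Led Lsl_ct (LP (LK LD1_c11 LD2_c16 LD3_c2)) = (LP (LK LD1_c11 LD2_c11 LD3_c26)) :=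
  Lgr Lrot15 (Lpe (f418627 IH) (Lpr_cf (K39.f418619 IH) (Lpe (K51.f418628 IH) (Lpn (LP (LK LD1_c11 LD2_c11 LD3_c26))))))
theorem f418640 : Led Lsl_ft (LP (LK LD1_c20 LD2_c11 LD3_c57)) = (LP (LK LD1_c11 LD2_c16 LD3_c2)) :=
  Lre_f IH (LK LD1_c20 LD2_c11 LD3_c57) (LK LD1_c11 LD2_c16 LD3_c2) Lrfl Lrfl
theorem f418642 : Led Lsl_cf (LP (LK LD1_c20 LD2_c11 LD3_c57)) = (LP (LK LD1_c20 LD2_c5 LD3_c60)) :=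
  Lgr Lrot108 (Lpr_ft (f418640 IH) (Lpr_ct (f418629 IH) (Lpr_ft (K51.f418641 IH) (Lpn (LP (LK LD1_c20 LD2_c5 LD3_c60))))))
theorem f416478 : Led Lsl_ct (LP (LK LD1_c6 LD2_c11 LD3_c59)) = (LP (LK LD1_c12 LD2_c3 LD3_c39)) :=
  Lre_c IH (LK LD1_c6 LD2_c11 LD3_c59) (LK LD1_c12 LD2_c3 LD3_c39) Lrfl Lrfl
theorem f715206 : Led Lsl_gf (LP (LK LD1_c20 LD2_c11 LD3_c57)) = (LP (LK LD1_c12 LD2_c3 LD3_c39)) :=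
  Lgr Lrot129 (Lpr_cf (f418642 IH) (Lpr_bt (K51.f418651 IH) (Lpr_gt (K52.f710122 IH) (Lpe (K52.f416475 IH) (Lpr_ct (K17.f416463 IH) (Lpr_gt (K17.f60022 IH) (Lpe (K16.f27140 IH) (Lpr_bt (f73047 IH) (Lpr_gt (K51.f73045 IH) (Lpr_ct (f416478 IH) (Lpn (LP (LK LD1_c12 LD2_c3 LD3_c39)))))))))))))
theorem f706573 : Led Lsl_af (LP (LK LD1_c6 LD2_c44 LD3_c60)) = (LP (LK LD1_c6 LD2_c11 LD3_c60)) :=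
  Lgr Lrot0 (Lpr_at (K51.f706571 IH) (Lpn (LP (LK LD1_c6 LD2_c11 LD3_c60))))
theorem f79990 : Led Lsl_et (LP (LK LD1_c3 LD2_c20 LD3_c36)) = (LP (LK LD1_c1 LD2_c36 LD3_c38)) :=
  Lre_e IH (LK LD1_c3 LD2_c20 LD3_c36) (LK LD1_c1 LD2_c36 LD3_c38) Lrfl Lrfl
theorem f79992 : Led Lsl_gt (LP (LK LD1_c6 LD2_c12 LD3_c0)) = (LP (LK LD1_c6 LD2_c44 LD3_c60)) :=
  Lgr Lrot139 (Lpe (K51.f61452 IH) (Lpe (K51.f79985 IH) (Lpr_ef (K51.f79974 IH) (Lpr_dt (K51.f79973 IH) (Lpe (K52.f79986 IH) (Lpe (K51.f79987 IH) (Lpr_et (K51.f79988 IH) (Lpe (K51.f79989 IH) (Lpe (f79990 IH) (Lpr_dt (K51.f79991 IH) (Lpn (LP (LK LD1_c6 LD2_c44 LD3_c60)))))))))))))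
theorem f415031 : Led Lsl_bt (LP (LK LD1_c3 LD2_c21 LD3_c26)) = (LP (LK LD1_c1 LD2_c36 LD3_c60)) :=
  Lre_b IH (LK LD1_c3 LD2_c21 LD3_c26) (LK LD1_c1 LD2_c36 LD3_c60) Lrfl Lrfl
theorem f653265 : Led Lsl_bt (LP (LK LD1_c3 LD2_c21 LD3_c32)) = K46.v6416 :=
  Lgr Lrot95 (Lpe (K16.f413623 IH) (Lpe (f415031 IH) (Lpr_df (K46.f653264 IH) (Lpn K46.v6416))))
theorem f80011 : Led Lsl_bt (LP (LK LD1_c3 LD2_c2 LD3_c42)) = (LP (LK LD1_c6 LD2_c12 LD3_c0)) :=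
  Lre_b IH (LK LD1_c3 LD2_c2 LD3_c42) (LK LD1_c6 LD2_c12 LD3_c0) Lrfl Lrfl
theorem f173939 : Led Lsl_gt (LP (LK LD1_c5 LD2_c31 LD3_c51)) = (LP (LK LD1_c10 LD2_c55 LD3_c24)) :=
  Lre_g IH (LK LD1_c5 LD2_c31 LD3_c51) (LK LD1_c10 LD2_c55 LD3_c24) Lrfl Lrfl
theorem f287957 : Led Lsl_at (LP (LK LD1_c10 LD2_c48 LD3_c57)) = (LP (LK LD1_c10 LD2_c55 LD3_c26)) :=
  Lgr Lrot100 (Lpr_af (K17.f287952 IH) (Lpn (LP (LK LD1_c10 LD2_c55 LD3_c26))))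
theorem f287991 : Led Lsl_ft (LP (LK LD1_c19 LD2_c33 LD3_c19)) = (LP (LK LD1_c10 LD2_c48 LD3_c57)) :=
  Lre_f IH (LK LD1_c19 LD2_c33 LD3_c19) (LK LD1_c10 LD2_c48 LD3_c57) Lrfl Lrfl
theorem f408457 : Led Lsl_gt (LP (LK LD1_c19 LD2_c33 LD3_c19)) = (LP (LK LD1_c11 LD2_c22 LD3_c18)) :=
  Lgr Lrot5 (Lpr_ft (f287991 IH) (Lpr_at (f287957 IH) (Lpe (K41.f173936 IH) (Lpn (LP (LK LD1_c11 LD2_c22 LD3_c18))))))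
theorem f287978 : Led Lsl_gf (LP (LK LD1_c10 LD2_c48 LD3_c58)) = (LP (LK LD1_c10 LD2_c55 LD3_c24)) :=
  Lgr Lrot76 (Lpr_af (K20.f287971 IH) (Lpe (K20.f287977 IH) (Lpr_gt (f173939 IH) (Lpn (LP (LK LD1_c10 LD2_c55 LD3_c24))))))
theorem f173941 : Led Lsl_dt (LP (LK LD1_c11 LD2_c22 LD3_c18)) = (LP (LK LD1_c5 LD2_c45 LD3_c57)) :=
  Lre_d IH (LK LD1_c11 LD2_c22 LD3_c18) (LK LD1_c5 LD2_c45 LD3_c57) Lrfl Lrfl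
theorem f289273 : Led Lsl_ct (LP (LK LD1_c5 LD2_c45 LD3_c57)) = (LP (LK LD1_c2 LD2_c48 LD3_c45)) :=
  Lre_c IH (LK LD1_c5 LD2_c45 LD3_c57) (LK LD1_c2 LD2_c48 LD3_c45) Lrfl Lrfl
theorem f408461 : Led Lsl_cf (LP (LK LD1_c10 LD2_c55 LD3_c24)) = (LP (LK LD1_c5 LD2_c42 LD3_c4)) :=
  Lgr Lrot166 (Lpe (f287978 IH) (Lpr_dt (K20.f287970 IH) (Lpr_gt (f408457 IH) (Lpr_dt (f173941 IH) (Lpr_ct (f289273 IH) (Lpe (K50.f289272 IH) (Lpe (K17.f289268 IH) (Lpr_df (K17.f242698 IH) (Lpr_gf (K17.f289263 IH) (Lpn (LP (LK LD1_c5 LD2_c42 LD3_c4))))))))))))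
theorem f408466 : Led Lsl_bt (LP (LK LD1_c5 LD2_c42 LD3_c4)) = (LP (LK LD1_c11 LD2_c14 LD3_c26)) :=
  Lre_b IH (LK LD1_c5 LD2_c42 LD3_c4) (LK LD1_c11 LD2_c14 LD3_c26) Lrfl Lrfl
theorem f653317 : Led Lsl_gf (LP (LK LD1_c6 LD2_c12 LD3_c0)) = (LP (LK LD1_c11 LD2_c14 LD3_c26)) :=
  Lgr Lrot124 (Lpe (f80011 IH) (Lpr_ct (K24.f22912 IH) (Lpe (K17.f414410 IH) (Lpe (K17.f413643 IH) (Lpr_bt (f653265 IH) (Lpqs (K46.f653287 IH) (Lpr_gt (K46.f319507 IH) (Lpr_ct (K20.f319505 IH) (Lpr_gt (f173939 IH) (Lpr_cf (f408461 IH) (Lpr_bt (f408466 IH) (Lpn (LP (LK LD1_c11 LD2_c14 LD3_c26))))))))))))))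
theorem f706742 : Led Lsl_ft (LP (LK LD1_c11 LD2_c14 LD3_c26)) = (LP (LK LD1_c6 LD2_c11 LD3_c60)) :=
  Lgr Lrot2 (Lpe (f653317 IH) (Lpr_gt (f79992 IH) (Lpr_af (f706573 IH) (Lpn (LP (LK LD1_c6 LD2_c11 LD3_c60))))))
theorem f706748 : Led Lsl_ff (LP (LK LD1_c11 LD2_c14 LD3_c26)) = (LP (LK LD1_c6 LD2_c11 LD3_c60)) :=
  Lgr Lrot3 (Lpr_ft (f706742 IH) (Lpn (LP (LK LD1_c6 LD2_c11 LD3_c60))))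
theorem f289267 : Led Lsl_ct (LP (LK LD1_c11 LD2_c14 LD3_c26)) = (LP (LK LD1_c20 LD2_c9 LD3_c27)) :=
  Lre_c IH (LK LD1_c11 LD2_c14 LD3_c26) (LK LD1_c20 LD2_c9 LD3_c27) Lrfl Lrfl
theorem f100271 : Led Lsl_ct (LP (LK LD1_c12 LD2_c3 LD3_c41)) = (LP (LK LD1_c6 LD2_c11 LD3_c60)) :=
  Lre_c IH (LK LD1_c12 LD2_c3 LD3_c41) (LK LD1_c6 LD2_c11 LD3_c60) Lrfl Lrfl
theorem f706752 : Led Lsl_ft (LP (LK LD1_c20 LD2_c9 LD3_c27)) = (LP (LK LD1_c12 LD2_c3 LD3_c41)) :=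
  Lgr Lrot4 (Lpe (f289267 IH) (Lpr_ff (f706748 IH) (Lpe (f100271 IH) (Lpn (LP (LK LD1_c12 LD2_c3 LD3_c41))))))
theorem f80014 : Led Lsl_ct (LP (LK LD1_c12 LD2_c54 LD3_c21)) = (LP (LK LD1_c6 LD2_c44 LD3_c60)) :=
  Lre_c IH (LK LD1_c12 LD2_c54 LD3_c21) (LK LD1_c6 LD2_c44 LD3_c60) Lrfl Lrfl
theorem f100264 : Led Lsl_ct (LP (LK LD1_c6 LD2_c11 LD3_c60)) = (LP (LK LD1_c12 LD2_c3 LD3_c41)) :=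
  Lre_c IH (LK LD1_c6 LD2_c11 LD3_c60) (LK LD1_c12 LD2_c3 LD3_c41) Lrfl Lrfl
theorem f706575 : Led Lsl_af (LP (LK LD1_c12 LD2_c54 LD3_c21)) = (LP (LK LD1_c12 LD2_c3 LD3_c41)) :=
  Lgr Lrot68 (Lpr_ct (f80014 IH) (Lpr_at (K51.f706571 IH) (Lpr_ct (f100264 IH) (Lpn (LP (LK LD1_c12 LD2_c3 LD3_c41))))))
theorem f80010 : Led Lsl_ct (LP (LK LD1_c6 LD2_c44 LD3_c60)) = (LP (LK LD1_c12 LD2_c54 LD3_c21)) :=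
  Lre_c IH (LK LD1_c6 LD2_c44 LD3_c60) (LK LD1_c12 LD2_c54 LD3_c21) Lrfl Lrfl
theorem f617084 : Led Lsl_ct (LP (LK LD1_c12 LD2_c3 LD3_c39)) = (LP (LK LD1_c6 LD2_c11 LD3_c59)) :=
  Lre_c IH (LK LD1_c12 LD2_c3 LD3_c39) (LK LD1_c6 LD2_c11 LD3_c59) Lrfl Lrfl
theorem f706566 : Led Lsl_ft (LP (LK LD1_c12 LD2_c54 LD3_c21)) = (LP (LK LD1_c12 LD2_c3 LD3_c39)) :=
  Lgr Lrot4 (Lpe (f80010 IH) (Lpr_ff (K51.f706561 IH) (Lpe (f617084 IH) (Lpn (LP (LK LD1_c12 LD2_c3 LD3_c39))))))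
theorem f706754 : Led Lsl_af (LP (LK LD1_c20 LD2_c9 LD3_c27)) = (LP (LK LD1_c12 LD2_c3 LD3_c39)) :=
  Lgr Lrot45 (Lpr_ft (f706752 IH) (Lpe (f706575 IH) (Lpr_ft (f706566 IH) (Lpn (LP (LK LD1_c12 LD2_c3 LD3_c39))))))
theorem f706757 : Led Lsl_at (LP (LK LD1_c20 LD2_c9 LD3_c27)) = (LP (LK LD1_c12 LD2_c3 LD3_c39)) :=
  Lgr Lrot100 (Lpr_af (f706754 IH) (Lpn (LP (LK LD1_c12 LD2_c3 LD3_c39))))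
theorem f289266 : Led Lsl_ct (LP (LK LD1_c20 LD2_c9 LD3_c27)) = (LP (LK LD1_c11 LD2_c14 LD3_c26)) :=
  Lre_c IH (LK LD1_c20 LD2_c9 LD3_c27) (LK LD1_c11 LD2_c14 LD3_c26) Lrfl Lrfl
theorem f706746 : Led Lsl_ff (LP (LK LD1_c20 LD2_c9 LD3_c27)) = (LP (LK LD1_c12 LD2_c3 LD3_c41)) :=
  Lgr Lrot23 (Lpr_ct (f289266 IH) (Lpr_ft (f706742 IH) (Lpr_ct (f100264 IH) (Lpn (LP (LK LD1_c12 LD2_c3 LD3_c41))))))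
theorem f706739 : Led Lsl_at (LP (LK LD1_c12 LD2_c54 LD3_c21)) = (LP (LK LD1_c12 LD2_c3 LD3_c41)) :=
  Lgr Lrot100 (Lpr_af (f706575 IH) (Lpn (LP (LK LD1_c12 LD2_c3 LD3_c41))))
theorem f706774 : Led Lsl_ff (LP (LK LD1_c12 LD2_c54 LD3_c21)) = (LP (LK LD1_c12 LD2_c3 LD3_c39)) :=
  Lgr Lrot30 (Lpr_at (f706739 IH) (Lpe (f706746 IH) (Lpr_at (f706757 IH) (Lpn (LP (LK LD1_c12 LD2_c3 LD3_c39))))))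
theorem f715208 : Led Lsl_gt (LP (LK LD1_c20 LD2_c11 LD3_c57)) = (LP (LK LD1_c12 LD2_c3 LD3_c41)) :=
  Lgr Lrot46 (Lpr_gf (f715206 IH) (Lpe (f706774 IH) (Lpr_at (f706739 IH) (Lpn (LP (LK LD1_c12 LD2_c3 LD3_c41))))))
theorem f713792 : Led Lsl_gt (LP (LK LD1_c9 LD2_c17 LD3_c21)) = (LP (LK LD1_c5 LD2_c56 LD3_c42)) :=
  Lgr Lrot46 (Lpr_gf (K52.f710350 IH) (Lpr_ft (K4.f66307 IH) (Lpe (K4.f119945 IH) (Lpn (LP (LK LD1_c5 LD2_c56 LD3_c42))))))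
def v13172 : LQ := Led Lsl_gf (LP (LK LD1_c4 LD2_c40 LD3_c57))
theorem f701510 : Led Lsl_gf (LP (LK LD1_c4 LD2_c40 LD3_c57)) = v13172 :=
  Lrfl
theorem f701512 : Led Lsl_af (LP (LK LD1_c4 LD2_c40 LD3_c57)) = K52.v13173 :=
  Lgr Lrot0 (Lpr_at (K52.f701511 IH) (Lpn K52.v13173))
theorem f701519 : Led Lsl_gt K50.v5251 = v13172 :=
  Lgr Lrot5 (Lpr_ft (K52.f701517 IH) (Lpe (f701512 IH) (Lpr_gf (f701510 IH) (Lpn v13172))))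
theorem f706311 : v13172 = (LP (LK LD1_c6 LD2_c25 LD3_c20)) :=
  Lefun (Lecon (f701519 IH) (K51.f706306 IH).symm) (Lfl_gf (K52.f496816 IH))
theorem f61443 : Led Lsl_ct (LP (LK LD1_c5 LD2_c47 LD3_c5)) = (LP (LK LD1_c11 LD2_c24 LD3_c24)) :=
  Lre_c IH (LK LD1_c5 LD2_c47 LD3_c5) (LK LD1_c11 LD2_c24 LD3_c24) Lrfl Lrfl
theorem f61444 : Led Lsl_gt (LP (LK LD1_c11 LD2_c24 LD3_c24)) = (LP (LK LD1_c20 LD2_c22 LD3_c12)) :=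
  Lre_g IH (LK LD1_c11 LD2_c24 LD3_c24) (LK LD1_c20 LD2_c22 LD3_c12) Lrfl Lrfl
theorem f706954 : Led Lsl_cf (LP (LK LD1_c20 LD2_c22 LD3_c12)) = (LP (LK LD1_c11 LD2_c40 LD3_c37)) :=
  Lgr Lrot163 (Lpe (f61444 IH) (Lpe (f61443 IH) (Lpe (K45.f61439 IH) (Lpe (K45.f61436 IH) (Lpe (K2.f61278 IH) (Lpe (K8.f61017 IH) (Lpe (K17.f61039 IH) (Lpr_bt (K52.f61047 IH) (Lpr_gf (f701510 IH) (Lpqs (f706311 IH) (Lpr_bf (K32.f150321 IH) (Lpn (LP (LK LD1_c11 LD2_c40 LD3_c37))))))))))))))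
theorem f61445 : Led Lsl_bt (LP (LK LD1_c5 LD2_c47 LD3_c5)) = (LP (LK LD1_c11 LD2_c24 LD3_c23)) :=
  Lre_b IH (LK LD1_c5 LD2_c47 LD3_c5) (LK LD1_c11 LD2_c24 LD3_c23) Lrfl Lrfl
theorem f714715 : Led Lsl_gf (LP (LK LD1_c11 LD2_c24 LD3_c23)) = (LP (LK LD1_c9 LD2_c47 LD3_c25)) :=
  Lgr Lrot124 (Lpe (f61445 IH) (Lpr_ct (f61443 IH) (Lpr_gt (f61444 IH) (Lpr_cf (f706954 IH) (Lpe (K32.f150321 IH) (Lpq (f706311 IH) (Lpe (f701510 IH) (Lpr_ct (K52.f61051 IH) (Lpr_gt (f713792 IH) (Lpr_cf (K4.f119936 IH) (Lpe (K8.f157123 IH) (Lpn (LP (LK LD1_c9 LD2_c47 LD3_c25))))))))))))))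
theorem f61451 : Led Lsl_ct (LP (LK LD1_c6 LD2_c11 LD3_c0)) = (LP (LK LD1_c3 LD2_c2 LD3_c33)) :=
  Lre_c IH (LK LD1_c6 LD2_c11 LD3_c0) (LK LD1_c3 LD2_c2 LD3_c33) Lrfl Lrfl
theorem f22920 : Led Lsl_ct (LP (LK LD1_c12 LD2_c3 LD3_c46)) = (LP (LK LD1_c6 LD2_c12 LD3_c0)) :=
  Lre_c IH (LK LD1_c12 LD2_c3 LD3_c46) (LK LD1_c6 LD2_c12 LD3_c0) Lrfl Lrfl
theorem f73038 : Led Lsl_ef (LP (LK LD1_c5 LD2_c46 LD3_c50)) = (LP (LK LD1_c6 LD2_c11 LD3_c61)) :=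
  Lgr Lrot28 (Lpr_ct (K40.f73036 IH) (Lpr_et (K40.f73018 IH) (Lpr_ct (K52.f73037 IH) (Lpn (LP (LK LD1_c6 LD2_c11 LD3_c61))))))
theorem f561954 : Led Lsl_et (LP (LK LD1_c5 LD2_c42 LD3_c51)) = (LP (LK LD1_c11 LD2_c15 LD3_c57)) :=
  Lre_e IH (LK LD1_c5 LD2_c42 LD3_c51) (LK LD1_c11 LD2_c15 LD3_c57) Lrfl Lrfl
theorem f586904 : Led Lsl_af (LP (LK LD1_c6 LD2_c11 LD3_c61)) = (LP (LK LD1_c11 LD2_c15 LD3_c57)) :=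
  Lgr Lrot50 (Lpe (f73038 IH) (Lpr_at (K52.f586900 IH) (Lpr_et (f561954 IH) (Lpn (LP (LK LD1_c11 LD2_c15 LD3_c57))))))
theorem f73063 : Led Lsl_ft (LP (LK LD1_c6 LD2_c11 LD3_c61)) = (LP (LK LD1_c12 LD2_c3 LD3_c46)) :=
  Lre_f IH (LK LD1_c6 LD2_c11 LD3_c61) (LK LD1_c12 LD2_c3 LD3_c46) Lrfl Lrfl
theorem f586908 : Led Lsl_at (LP (LK LD1_c12 LD2_c3 LD3_c46)) = (LP (LK LD1_c20 LD2_c11 LD3_c46)) :=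
  Lgr Lrot66 (Lpe (f73063 IH) (Lpr_af (f586904 IH) (Lpe (K45.f586880 IH) (Lpn (LP (LK LD1_c20 LD2_c11 LD3_c46))))))
theorem f586915 : Led Lsl_af (LP (LK LD1_c12 LD2_c3 LD3_c46)) = (LP (LK LD1_c20 LD2_c11 LD3_c46)) :=
  Lgr Lrot0 (Lpr_at (f586908 IH) (Lpn (LP (LK LD1_c20 LD2_c11 LD3_c46))))
theorem f586924 : Led Lsl_ft (LP (LK LD1_c11 LD2_c15 LD3_c57)) = (LP (LK LD1_c20 LD2_c11 LD3_c46)) :=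
  Lre_f IH (LK LD1_c11 LD2_c15 LD3_c57) (LK LD1_c20 LD2_c11 LD3_c46) Lrfl Lrfl
theorem f561796 : Led Lsl_gt (LP (LK LD1_c11 LD2_c15 LD3_c57)) = (LP (LK LD1_c20 LD2_c11 LD3_c43)) :=
  Lre_g IH (LK LD1_c11 LD2_c15 LD3_c57) (LK LD1_c20 LD2_c11 LD3_c43) Lrfl Lrfl
theorem f586925 : Led Lsl_gf (LP (LK LD1_c12 LD2_c3 LD3_c46)) = (LP (LK LD1_c20 LD2_c11 LD3_c43)) :=
  Lgr Lrot76 (Lpr_af (f586915 IH) (Lpe (f586924 IH) (Lpr_gt (f561796 IH) (Lpn (LP (LK LD1_c20 LD2_c11 LD3_c43))))))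
theorem f22922 : Led Lsl_ct (LP (LK LD1_c6 LD2_c12 LD3_c0)) = (LP (LK LD1_c12 LD2_c3 LD3_c46)) :=
  Lre_c IH (LK LD1_c6 LD2_c12 LD3_c0) (LK LD1_c12 LD2_c3 LD3_c46) Lrfl Lrfl
theorem f61611 : Led Lsl_bt (LP (LK LD1_c2 LD2_c49 LD3_c29)) = (LP (LK LD1_c5 LD2_c47 LD3_c7)) :=
  Lre_b IH (LK LD1_c2 LD2_c49 LD3_c29) (LK LD1_c5 LD2_c47 LD3_c7) Lrfl Lrfl
theorem f61612 : Led Lsl_gt (LP (LK LD1_c5 LD2_c47 LD3_c7)) = (LP (LK LD1_c11 LD2_c24 LD3_c31)) :=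
  Lre_g IH (LK LD1_c5 LD2_c47 LD3_c7) (LK LD1_c11 LD2_c24 LD3_c31) Lrfl Lrfl
theorem f61613 : Led Lsl_bt (LP (LK LD1_c20 LD2_c22 LD3_c15)) = (LP (LK LD1_c11 LD2_c24 LD3_c31)) :=
  Lre_b IH (LK LD1_c20 LD2_c22 LD3_c15) (LK LD1_c11 LD2_c24 LD3_c31) Lrfl Lrfl
theorem f586927 : Led Lsl_ct (LP (LK LD1_c20 LD2_c22 LD3_c15)) = (LP (LK LD1_c20 LD2_c11 LD3_c43)) :=
  Lgr Lrot64 (Lpr_bt (f61613 IH) (Lpe (f61612 IH) (Lpe (f61611 IH) (Lpr_ct (K17.f61600 IH) (Lpe (K17.f61601 IH) (Lpe (K17.f22868 IH) (Lpe (K0.f22856 IH) (Lpe (K40.f22919 IH) (Lpr_ct (f22922 IH) (Lpr_gf (f586925 IH) (Lpn (LP (LK LD1_c20 LD2_c11 LD3_c43)))))))))))))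
theorem f714719 : Led Lsl_gf (LP (LK LD1_c20 LD2_c22 LD3_c15)) = (LP (LK LD1_c17 LD2_c57 LD3_c46)) :=
  Lgr Lrot147 (Lpr_ct (f586927 IH) (Lpe (f586925 IH) (Lpr_ct (f22920 IH) (Lpe (K51.f61452 IH) (Lpe (f61451 IH) (Lpe (K45.f61050 IH) (Lpr_cf (K45.f61441 IH) (Lpr_gf (f714715 IH) (Lpe (K51.f157125 IH) (Lpn (LP (LK LD1_c17 LD2_c57 LD3_c46))))))))))))
theorem f157145 : Led Lsl_ft (LP (LK LD1_c17 LD2_c57 LD3_c46)) = (LP (LK LD1_c27 LD2_c42 LD3_c15)) :=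
  Lre_f IH (LK LD1_c17 LD2_c57 LD3_c46) (LK LD1_c27 LD2_c42 LD3_c15) Lrfl Lrfl
theorem f589214 : Led Lsl_at (LP (LK LD1_c27 LD2_c42 LD3_c15)) = (LP (LK LD1_c20 LD2_c5 LD3_c60)) :=
  Lgr Lrot100 (Lpr_af (K51.f589210 IH) (Lpn (LP (LK LD1_c20 LD2_c5 LD3_c60))))
theorem f714732 : Led Lsl_gt (LP (LK LD1_c20 LD2_c22 LD3_c15)) = (LP (LK LD1_c20 LD2_c5 LD3_c60)) :=
  Lgr Lrot46 (Lpr_gf (f714719 IH) (Lpr_ft (f157145 IH) (Lpr_at (f589214 IH) (Lpn (LP (LK LD1_c20 LD2_c5 LD3_c60))))))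
theorem f586930 : Led Lsl_bt (LP (LK LD1_c11 LD2_c24 LD3_c31)) = (LP (LK LD1_c20 LD2_c22 LD3_c15)) :=
  Lre_b IH (LK LD1_c11 LD2_c24 LD3_c31) (LK LD1_c20 LD2_c22 LD3_c15) Lrfl Lrfl
theorem f418652 : Led Lsl_ct (LP (LK LD1_c11 LD2_c11 LD3_c32)) = (LP (LK LD1_c20 LD2_c6 LD3_c9)) :=
  Lre_c IH (LK LD1_c11 LD2_c11 LD3_c32) (LK LD1_c20 LD2_c6 LD3_c9) Lrfl Lrfl
theorem f418634 : Led Lsl_ct (LP (LK LD1_c5 LD2_c40 LD3_c25)) = (LP (LK LD1_c11 LD2_c11 LD3_c30)) :=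
  Lre_c IH (LK LD1_c5 LD2_c40 LD3_c25) (LK LD1_c11 LD2_c11 LD3_c30) Lrfl Lrfl
theorem f589481 : Led Lsl_af (LP (LK LD1_c11 LD2_c7 LD3_c22)) = (LP (LK LD1_c11 LD2_c11 LD3_c30)) :=
  Lgr Lrot68 (Lpr_ct (K52.f589460 IH) (Lpr_at (K51.f589412 IH) (Lpr_ct (f418634 IH) (Lpn (LP (LK LD1_c11 LD2_c11 LD3_c30))))))
theorem f579787 : Led Lsl_gt (LP (LK LD1_c20 LD2_c0 LD3_c49)) = (LP (LK LD1_c11 LD2_c7 LD3_c22)) :=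
  Lre_g IH (LK LD1_c20 LD2_c0 LD3_c49) (LK LD1_c11 LD2_c7 LD3_c22) Lrfl Lrfl
theorem f579246 : Led Lsl_ft (LP (LK LD1_c20 LD2_c6 LD3_c9)) = (LP (LK LD1_c11 LD2_c11 LD3_c30)) :=
  Lre_f IH (LK LD1_c20 LD2_c6 LD3_c9) (LK LD1_c11 LD2_c11 LD3_c30) Lrfl Lrfl
theorem f589564 : Led Lsl_gf (LP (LK LD1_c20 LD2_c0 LD3_c49)) = (LP (LK LD1_c20 LD2_c6 LD3_c9)) :=
  Lgr Lrot47 (Lpr_gt (f579787 IH) (Lpr_af (f589481 IH) (Lpe (f579246 IH) (Lpn (LP (LK LD1_c20 LD2_c6 LD3_c9))))))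
theorem f557238 : Led Lsl_ft (LP (LK LD1_c5 LD2_c38 LD3_c3)) = (LP (LK LD1_c11 LD2_c7 LD3_c23)) :=
  Lre_f IH (LK LD1_c5 LD2_c38 LD3_c3) (LK LD1_c11 LD2_c7 LD3_c23) Lrfl Lrfl
theorem f589491 : Led Lsl_at (LP (LK LD1_c11 LD2_c7 LD3_c23)) = (LP (LK LD1_c11 LD2_c11 LD3_c32)) :=
  Lgr Lrot100 (Lpr_af (K51.f589485 IH) (Lpn (LP (LK LD1_c11 LD2_c11 LD3_c32))))
theorem f710057 : Led Lsl_gf (LP (LK LD1_c11 LD2_c11 LD3_c32)) = (LP (LK LD1_c11 LD2_c6 LD3_c61)) :=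
  Lgr Lrot76 (Lpe (f589491 IH) (Lpe (f557238 IH) (Lpr_gt (K52.f710053 IH) (Lpn (LP (LK LD1_c11 LD2_c6 LD3_c61))))))
theorem f381328 : Led Lsl_gt (LP (LK LD1_c11 LD2_c6 LD3_c31)) = (LP (LK LD1_c5 LD2_c37 LD3_c22)) :=
  Lre_g IH (LK LD1_c11 LD2_c6 LD3_c31) (LK LD1_c5 LD2_c37 LD3_c22) Lrfl Lrfl
theorem f381358 : Led Lsl_bt (LP (LK LD1_c19 LD2_c59 LD3_c60)) = (LP (LK LD1_c11 LD2_c6 LD3_c31)) :=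
  Lre_b IH (LK LD1_c19 LD2_c59 LD3_c60) (LK LD1_c11 LD2_c6 LD3_c31) Lrfl Lrfl
theorem f710107 : Led Lsl_cf (LP (LK LD1_c20 LD2_c0 LD3_c49)) = (LP (LK LD1_c19 LD2_c59 LD3_c60)) :=
  Lgr Lrot163 (Lpr_gf (f589564 IH) (Lpe (f418652 IH) (Lpr_gf (f710057 IH) (Lpe (K51.f640791 IH) (Lpe (K50.f640788 IH) (Lpe (K41.f179219 IH) (Lpe (K50.f226689 IH) (Lpr_bt (K50.f242692 IH) (Lpe (f381328 IH) (Lpe (f381358 IH) (Lpn (LP (LK LD1_c19 LD2_c59 LD3_c60)))))))))))))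
theorem f381350 : Led Lsl_gt (LP (LK LD1_c11 LD2_c6 LD3_c29)) = (LP (LK LD1_c19 LD2_c59 LD3_c58)) :=
  Lre_g IH (LK LD1_c11 LD2_c6 LD3_c29) (LK LD1_c19 LD2_c59 LD3_c58) Lrfl Lrfl
theorem f714736 : Led Lsl_ct (LP (LK LD1_c11 LD2_c24 LD3_c31)) = (LP (LK LD1_c19 LD2_c59 LD3_c58)) :=
  Lgr Lrot63 (Lpr_bt (f586930 IH) (Lpr_gt (f714732 IH) (Lpe (K51.f418647 IH) (Lpr_ct (f418652 IH) (Lpe (f589564 IH) (Lpr_cf (f710107 IH) (Lpr_bt (f381358 IH) (Lpr_gt (f381328 IH) (Lpr_ct (K51.f381286 IH) (Lpr_gt (f381350 IH) (Lpn (LP (LK LD1_c19 LD2_c59 LD3_c58)))))))))))))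
theorem f172684 : Led Lsl_gt (LP (LK LD1_c5 LD2_c37 LD3_c24)) = (LP (LK LD1_c2 LD2_c44 LD3_c39)) :=
  Lre_g IH (LK LD1_c5 LD2_c37 LD3_c24) (LK LD1_c2 LD2_c44 LD3_c39) Lrfl Lrfl
theorem f715211 : Led Lsl_bf (LP (LK LD1_c5 LD2_c37 LD3_c24)) = (LP (LK LD1_c6 LD2_c11 LD3_c60)) :=
  Lgr Lrot156 (Lpr_gt (f172684 IH) (Lpe (K50.f242708 IH) (Lpr_ct (K51.f381286 IH) (Lpr_gt (f381350 IH) (Lpe (f714736 IH) (Lpr_bt (f586930 IH) (Lpr_gt (f714732 IH) (Lpe (f418642 IH) (Lpr_gt (f715208 IH) (Lpe (f100264 IH) (Lpn (LP (LK LD1_c6 LD2_c11 LD3_c60)))))))))))))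
theorem f715213 : Led Lsl_bt (LP (LK LD1_c5 LD2_c37 LD3_c24)) = (LP (LK LD1_c6 LD2_c11 LD3_c60)) :=
  Lgr Lrot127 (Lpr_bf (f715211 IH) (Lpn (LP (LK LD1_c6 LD2_c11 LD3_c60))))
theorem f727512 : Led Lsl_ct (LP (LK LD1_c5 LD2_c37 LD3_c24)) = v14964 :=
  Lgr Lrot63 (Lpr_bt (f715213 IH) (Lpr_gt (K40.f73044 IH) (Lpe (f73047 IH) (Lpr_ct (K16.f27140 IH) (Lpr_gt (f9301 IH) (Lpr_cf (K16.f413445 IH) (Lpr_bt (f653285 IH) (Lpq (K50.f705921 IH) (Lpe (K50.f319495 IH) (Lpr_ct (K20.f319522 IH) (Lpr_gt (f727511 IH) (Lpn v14964))))))))))))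
theorem f73067 : Led Lsl_gt (LP (LK LD1_c6 LD2_c11 LD3_c61)) = (LP (LK LD1_c12 LD2_c3 LD3_c42)) :=
  Lre_g IH (LK LD1_c6 LD2_c11 LD3_c61) (LK LD1_c12 LD2_c3 LD3_c42) Lrfl Lrfl
theorem f504415 : Led Lsl_bt (LP (LK LD1_c9 LD2_c17 LD3_c11)) = (LP (LK LD1_c4 LD2_c40 LD3_c52)) :=
  Lre_b IH (LK LD1_c9 LD2_c17 LD3_c11) (LK LD1_c4 LD2_c40 LD3_c52) Lrfl Lrfl
theorem f66233 : Led Lsl_bt (LP (LK LD1_c7 LD2_c42 LD3_c13)) = (LP (LK LD1_c3 LD2_c50 LD3_c42)) :=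
  Lre_b IH (LK LD1_c7 LD2_c42 LD3_c13) (LK LD1_c3 LD2_c50 LD3_c42) Lrfl Lrfl
theorem f66297 : Led Lsl_cf (LP (LK LD1_c7 LD2_c42 LD3_c13)) = (LP (LK LD1_c5 LD2_c47 LD3_c50)) :=
  Lgr Lrot97 (Lpr_bt (f66233 IH) (Lpe (K3.f66176 IH) (Lpr_bt (K52.f66232 IH) (Lpr_ct (K6.f66286 IH) (Lpr_bt (K51.f66296 IH) (Lpn (LP (LK LD1_c5 LD2_c47 LD3_c50))))))))
theorem f157986 : Led Lsl_gt (LP (LK LD1_c11 LD2_c30 LD3_c0)) = (LP (LK LD1_c5 LD2_c51 LD3_c17)) :=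
  Lre_g IH (LK LD1_c11 LD2_c30 LD3_c0) (LK LD1_c5 LD2_c51 LD3_c17) Lrfl Lrfl
theorem f158108 : Led Lsl_gt (LP (LK LD1_c7 LD2_c42 LD3_c13)) = (LP (LK LD1_c11 LD2_c30 LD3_c0)) :=
  Lgr Lrot5 (Lpr_ft (K8.f66389 IH) (Lpr_at (K8.f158098 IH) (Lpe (f157986 IH) (Lpn (LP (LK LD1_c11 LD2_c30 LD3_c0))))))
theorem f713743 : Led Lsl_ct (LP (LK LD1_c9 LD2_c17 LD3_c11)) = (LP (LK LD1_c11 LD2_c30 LD3_c0)) :=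
  Lgr Lrot63 (Lpr_bt (f504415 IH) (Lpr_gt (f452971 IH) (Lpe (K50.f414362 IH) (Lpr_ct (K17.f22864 IH) (Lpr_gt (K0.f23263 IH) (Lpe (K24.f180333 IH) (Lpr_bt (K52.f180338 IH) (Lpr_gt (K51.f701570 IH) (Lpqs (K51.f710352 IH) (Lpe (f66297 IH) (Lpr_gt (f158108 IH) (Lpn (LP (LK LD1_c11 LD2_c30 LD3_c0))))))))))))))
theorem f100044 : Led Lsl_gt (LP (LK LD1_c6 LD2_c10 LD3_c59)) = (LP (LK LD1_c12 LD2_c2 LD3_c16)) :=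
  Lre_g IH (LK LD1_c6 LD2_c10 LD3_c59) (LK LD1_c12 LD2_c2 LD3_c16) Lrfl Lrfl
theorem f158110 : Led Lsl_ct (LP (LK LD1_c2 LD2_c51 LD3_c55)) = (LP (LK LD1_c5 LD2_c51 LD3_c17)) :=
  Lre_c IH (LK LD1_c2 LD2_c51 LD3_c55) (LK LD1_c5 LD2_c51 LD3_c17) Lrfl Lrfl
theorem f428747 : Led Lsl_bt (LP (LK LD1_c2 LD2_c51 LD3_c55)) = (LP (LK LD1_c5 LD2_c51 LD3_c15)) :=
  Lre_b IH (LK LD1_c2 LD2_c51 LD3_c55) (LK LD1_c5 LD2_c51 LD3_c15) Lrfl Lrfl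
theorem f157214 : Led Lsl_gt (LP (LK LD1_c5 LD2_c51 LD3_c15)) = (LP (LK LD1_c11 LD2_c29 LD3_c57)) :=
  Lre_g IH (LK LD1_c5 LD2_c51 LD3_c15) (LK LD1_c11 LD2_c29 LD3_c57) Lrfl Lrfl
theorem f713752 : Led Lsl_cf (LP (LK LD1_c6 LD2_c10 LD3_c59)) = (LP (LK LD1_c11 LD2_c29 LD3_c57)) :=
  Lgr Lrot125 (Lpr_gt (f100044 IH) (Lpe (K36.f100029 IH) (Lpr_bt (K40.f76185 IH) (Lpr_gt (f74998 IH) (Lpe (f504415 IH) (Lpr_ct (f713743 IH) (Lpr_gt (f157986 IH) (Lpe (f158110 IH) (Lpr_bt (f428747 IH) (Lpr_gt (f157214 IH) (Lpn (LP (LK LD1_c11 LD2_c29 LD3_c57)))))))))))))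
theorem f100040 : Led Lsl_ct (LP (LK LD1_c12 LD2_c2 LD3_c16)) = (LP (LK LD1_c6 LD2_c11 LD3_c52)) :=
  Lre_c IH (LK LD1_c12 LD2_c2 LD3_c16) (LK LD1_c6 LD2_c11 LD3_c52) Lrfl Lrfl
theorem f586918 : Led Lsl_gt (LP (LK LD1_c12 LD2_c3 LD3_c42)) = (LP (LK LD1_c20 LD2_c11 LD3_c46)) :=
  Lgr Lrot46 (Lpe (f73067 IH) (Lpr_ft (f73063 IH) (Lpr_at (f586908 IH) (Lpn (LP (LK LD1_c20 LD2_c11 LD3_c46))))))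
theorem f418644 : Led Lsl_gt (LP (LK LD1_c11 LD2_c11 LD3_c26)) = (LP (LK LD1_c20 LD2_c5 LD3_c58)) :=
  Lre_g IH (LK LD1_c11 LD2_c11 LD3_c26) (LK LD1_c20 LD2_c5 LD3_c58) Lrfl Lrfl
theorem f713758 : Led Lsl_cf (LP (LK LD1_c12 LD2_c3 LD3_c42)) = (LP (LK LD1_c20 LD2_c5 LD3_c58)) :=
  Lgr Lrot169 (Lpr_gt (f586918 IH) (Lpr_ct (K45.f561809 IH) (Lpr_df (K40.f561810 IH) (Lpe (f100040 IH) (Lpe (f100044 IH) (Lpr_cf (f713752 IH) (Lpe (f157214 IH) (Lpr_df (K52.f589207 IH) (Lpr_gt (f418644 IH) (Lpn (LP (LK LD1_c20 LD2_c5 LD3_c58))))))))))))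
theorem f727513 : Led Lsl_bf (LP (LK LD1_c20 LD2_c0 LD3_c6)) = (LP (LK LD1_c20 LD2_c5 LD3_c58)) :=
  Lgr Lrot156 (Lpr_gt (f319488 IH) (Lpe (K36.f319490 IH) (Lpr_ct (K20.f319522 IH) (Lpr_gt (f727511 IH) (Lpe (f727512 IH) (Lpr_bt (f715213 IH) (Lpr_gt (K40.f73044 IH) (Lpr_ct (K52.f73037 IH) (Lpr_gt (f73067 IH) (Lpr_cf (f713758 IH) (Lpn (LP (LK LD1_c20 LD2_c5 LD3_c58)))))))))))))
theorem f727514 : Led Lsl_bt (LP (LK LD1_c20 LD2_c5 LD3_c58)) = (LP (LK LD1_c20 LD2_c0 LD3_c6)) :=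
  Leop (Lpr_bf (f727513 IH) (Lpn (LP (LK LD1_c20 LD2_c5 LD3_c58))))
theorem seed_865 : LEOK LG_b (LK LD1_c20 LD2_c5 LD3_c58) :=
  Leoe_b (LK LD1_c20 LD2_c5 LD3_c58) (f727514 IH)
theorem f27033 : Led Lsl_bt (LP (LK LD1_c9 LD2_c17 LD3_c23)) = (LP (LK LD1_c4 LD2_c40 LD3_c59)) :=
  Lre_b IH (LK LD1_c9 LD2_c17 LD3_c23) (LK LD1_c4 LD2_c40 LD3_c59) Lrfl Lrfl
theorem f698740 : Led Lsl_df (LP (LK LD1_c6 LD2_c2 LD3_c34)) = K50.v12874 :=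
  Lgr Lrot38 (Lpr_dt (K50.f698739 IH) (Lpn K50.v12874))
theorem f443722 : Led Lsl_df (LP (LK LD1_c3 LD2_c2 LD3_c38)) = (LP (LK LD1_c6 LD2_c2 LD3_c33)) :=
  Lgr Lrot38 (Lpr_dt (K32.f443719 IH) (Lpn (LP (LK LD1_c6 LD2_c2 LD3_c33))))
theorem f639186 : Led Lsl_af (LP (LK LD1_c6 LD2_c2 LD3_c33)) = (LP (LK LD1_c9 LD2_c13 LD3_c34)) :=
  Lgr Lrot117 (Lpe (f443722 IH) (Lpr_at (K48.f639181 IH) (Lpe (K8.f27031 IH) (Lpn (LP (LK LD1_c9 LD2_c13 LD3_c34))))))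
theorem f640451 : Led Lsl_ft (LP (LK LD1_c6 LD2_c2 LD3_c34)) = (LP (LK LD1_c9 LD2_c13 LD3_c34)) :=
  Lgr Lrot2 (Lpr_gt (K50.f419125 IH) (Lpr_gt (K32.f419101 IH) (Lpr_af (f639186 IH) (Lpn (LP (LK LD1_c9 LD2_c13 LD3_c34))))))
theorem f698742 : Led Lsl_ft (LP (LK LD1_c4 LD2_c40 LD3_c59)) = K50.v12874 :=
  Lgr Lrot54 (Lpe (K8.f27034 IH) (Lpe (f640451 IH) (Lpr_df (f698740 IH) (Lpn K50.v12874))))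
theorem f706499 : Led Lsl_bt K50.v12874 = (LP (LK LD1_c11 LD2_c49 LD3_c26)) :=
  Lgr Lrot35 (Lpe (f698742 IH) (Lpe (f27033 IH) (Lpr_ff (K51.f706497 IH) (Lpn (LP (LK LD1_c11 LD2_c49 LD3_c26))))))
theorem f615025 : Led Lsl_dt (LP (LK LD1_c11 LD2_c49 LD3_c26)) = (LP (LK LD1_c6 LD2_c11 LD3_c58)) :=
  Lgr Lrot42 (Lpr_df (K51.f615023 IH) (Lpn (LP (LK LD1_c6 LD2_c11 LD3_c58))))
theorem f706807 : Led Lsl_bf (LP (LK LD1_c6 LD2_c2 LD3_c34)) = (LP (LK LD1_c6 LD2_c11 LD3_c58)) :=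
  Lgr Lrot93 (Lpr_dt (K50.f698739 IH) (Lpr_bt (f706499 IH) (Lpr_dt (f615025 IH) (Lpn (LP (LK LD1_c6 LD2_c11 LD3_c58))))))
theorem f504424 : Led Lsl_bt (LP (LK LD1_c6 LD2_c11 LD3_c55)) = (LP (LK LD1_c3 LD2_c2 LD3_c31)) :=
  Lre_b IH (LK LD1_c6 LD2_c11 LD3_c55) (LK LD1_c3 LD2_c2 LD3_c31) Lrfl Lrfl
theorem f706813 : K50.v12875 = (LP (LK LD1_c6 LD2_c11 LD3_c55)) :=
  (Llr Lrot74 (Lpe (K50.f698750 IH) (Lpr_bf (f706807 IH) (Lpe (K51.f568470 IH) (Lpe (f504424 IH) (Lpn (LP (LK LD1_c6 LD2_c11 LD3_c55)))))))).symm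
theorem f289251 : Led Lsl_gf (LP (LK LD1_c5 LD2_c37 LD3_c24)) = (LP (LK LD1_c5 LD2_c42 LD3_c6)) :=
  Lgr Lrot47 (Lpr_gt (f172684 IH) (Lpr_af (K17.f289239 IH) (Lpe (K17.f289248 IH) (Lpn (LP (LK LD1_c5 LD2_c42 LD3_c6))))))
theorem f499953 : Led Lsl_gt (LP (LK LD1_c11 LD2_c28 LD3_c40)) = (LP (LK LD1_c5 LD2_c50 LD3_c7)) :=
  Lre_g IH (LK LD1_c11 LD2_c28 LD3_c40) (LK LD1_c5 LD2_c50 LD3_c7) Lrfl Lrfl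
theorem f727519 : Led Lsl_ct K50.v12875 = (LP (LK LD1_c11 LD2_c28 LD3_c40)) :=
  Lgr Lrot152 (Lpe (K50.f698748 IH) (Lpe (K50.f406412 IH) (Lpe (f289251 IH) (Lpr_ct (f727512 IH) (Lpe (f727510 IH) (Lpe (K20.f226748 IH) (Lpr_df (K50.f615373 IH) (Lpe (K51.f496472 IH) (Lpe (f499953 IH) (Lpn (LP (LK LD1_c11 LD2_c28 LD3_c40))))))))))))
theorem f727520 : Led Lsl_ct (LP (LK LD1_c6 LD2_c11 LD3_c55)) = (LP (LK LD1_c11 LD2_c28 LD3_c40)) :=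
  Leop (Lpe (f727519 IH) (Lpqs (f706813 IH) (Lpn (LP (LK LD1_c6 LD2_c11 LD3_c55)))))
theorem seed_866 : LEOK LG_c (LK LD1_c6 LD2_c11 LD3_c55) :=
  Leoe_c (LK LD1_c6 LD2_c11 LD3_c55) (f727520 IH)
theorem f289255 : Led Lsl_ct (LP (LK LD1_c11 LD2_c14 LD3_c25)) = (LP (LK LD1_c20 LD2_c9 LD3_c24)) :=
  Lre_c IH (LK LD1_c11 LD2_c14 LD3_c25) (LK LD1_c20 LD2_c9 LD3_c24) Lrfl Lrfl
theorem f496818 : Led Lsl_ct (LP (LK LD1_c12 LD2_c23 LD3_c34)) = (LP (LK LD1_c21 LD2_c30 LD3_c37)) :=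
  Lre_c IH (LK LD1_c12 LD2_c23 LD3_c34) (LK LD1_c21 LD2_c30 LD3_c37) Lrfl Lrfl
theorem f289254 : Led Lsl_ct (LP (LK LD1_c20 LD2_c9 LD3_c24)) = (LP (LK LD1_c11 LD2_c14 LD3_c25)) :=
  Lre_c IH (LK LD1_c20 LD2_c9 LD3_c24) (LK LD1_c11 LD2_c14 LD3_c25) Lrfl Lrfl
theorem f618062 : Led Lsl_at (LP (LK LD1_c21 LD2_c30 LD3_c37)) = (LP (LK LD1_c20 LD2_c9 LD3_c24)) :=
  Lgr Lrot107 (Lpe (f496818 IH) (Lpr_af (K52.f618060 IH) (Lpe (f289254 IH) (Lpn (LP (LK LD1_c20 LD2_c9 LD3_c24))))))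
theorem f618069 : Led Lsl_ft (LP (LK LD1_c12 LD2_c23 LD3_c33)) = (LP (LK LD1_c21 LD2_c30 LD3_c37)) :=
  Lre_f IH (LK LD1_c12 LD2_c23 LD3_c33) (LK LD1_c21 LD2_c30 LD3_c37) Lrfl Lrfl
theorem f618052 : Led Lsl_gt (LP (LK LD1_c12 LD2_c23 LD3_c33)) = (LP (LK LD1_c21 LD2_c30 LD3_c33)) :=
  Lre_g IH (LK LD1_c12 LD2_c23 LD3_c33) (LK LD1_c21 LD2_c30 LD3_c33) Lrfl Lrfl
theorem f618072 : Led Lsl_gt (LP (LK LD1_c21 LD2_c30 LD3_c33)) = (LP (LK LD1_c20 LD2_c9 LD3_c24)) :=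
  Lgr Lrot46 (Lpe (f618052 IH) (Lpr_ft (f618069 IH) (Lpr_at (f618062 IH) (Lpn (LP (LK LD1_c20 LD2_c9 LD3_c24))))))
theorem f319532 : Led Lsl_bt (LP (LK LD1_c2 LD2_c46 LD3_c15)) = (LP (LK LD1_c5 LD2_c40 LD3_c37)) :=
  Lre_b IH (LK LD1_c2 LD2_c46 LD3_c15) (LK LD1_c5 LD2_c40 LD3_c37) Lrfl Lrfl
theorem f289617 : Led Lsl_gt (LP (LK LD1_c5 LD2_c40 LD3_c37)) = (LP (LK LD1_c11 LD2_c11 LD3_c57)) :=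
  Lre_g IH (LK LD1_c5 LD2_c40 LD3_c37) (LK LD1_c11 LD2_c11 LD3_c57) Lrfl Lrfl
theorem f319533 : Led Lsl_bt (LP (LK LD1_c20 LD2_c6 LD3_c43)) = (LP (LK LD1_c11 LD2_c11 LD3_c57)) :=
  Lre_b IH (LK LD1_c20 LD2_c6 LD3_c43) (LK LD1_c11 LD2_c11 LD3_c57) Lrfl Lrfl
theorem f727521 : Led Lsl_cf (LP (LK LD1_c21 LD2_c30 LD3_c33)) = (LP (LK LD1_c20 LD2_c6 LD3_c43)) :=
  Lgr Lrot160 (Lpr_gt (f618072 IH) (Lpe (f289255 IH) (Lpr_bt (K52.f289253 IH) (Lpe (f289251 IH) (Lpr_ct (f727512 IH) (Lpe (f727510 IH) (Lpe (K20.f319526 IH) (Lpr_bt (f319532 IH) (Lpr_gt (f289617 IH) (Lpe (f319533 IH) (Lpn (LP (LK LD1_c20 LD2_c6 LD3_c43)))))))))))))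
theorem f727522 : Led Lsl_ct (LP (LK LD1_c20 LD2_c6 LD3_c43)) = (LP (LK LD1_c21 LD2_c30 LD3_c33)) :=
  Leop (Lpr_cf (f727521 IH) (Lpn (LP (LK LD1_c20 LD2_c6 LD3_c43))))
theorem seed_867 : LEOK LG_c (LK LD1_c20 LD2_c6 LD3_c43) :=
  Leoe_c (LK LD1_c20 LD2_c6 LD3_c43) (f727522 IH)
theorem f631705 : Led Lsl_ft (LP (LK LD1_c9 LD2_c5 LD3_c6)) = (LP (LK LD1_c4 LD2_c33 LD3_c47)) :=
  Lre_f IH (LK LD1_c9 LD2_c5 LD3_c6) (LK LD1_c4 LD2_c33 LD3_c47) Lrfl Lrfl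
theorem f495947 : Led Lsl_ft (LP (LK LD1_c2 LD2_c48 LD3_c45)) = (LP (LK LD1_c5 LD2_c46 LD3_c0)) :=
  Lre_f IH (LK LD1_c2 LD2_c48 LD3_c45) (LK LD1_c5 LD2_c46 LD3_c0) Lrfl Lrfl
theorem f640387 : Led Lsl_af (LP (LK LD1_c9 LD2_c5 LD3_c6)) = (LP (LK LD1_c5 LD2_c46 LD3_c0)) :=
  Lgr Lrot45 (Lpr_ft (f631705 IH) (Lpr_at (K50.f640383 IH) (Lpr_ft (f495947 IH) (Lpn (LP (LK LD1_c5 LD2_c46 LD3_c0))))))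
theorem f289246 : Led Lsl_at (LP (LK LD1_c4 LD2_c34 LD3_c42)) = (LP (LK LD1_c2 LD2_c51 LD3_c39)) :=
  Lgr Lrot51 (Lpr_df (K50.f242694 IH) (Lpr_af (K17.f289239 IH) (Lpe (K35.f226014 IH) (Lpn (LP (LK LD1_c2 LD2_c51 LD3_c39))))))
theorem f289270 : Led Lsl_gf (LP (LK LD1_c2 LD2_c51 LD3_c39)) = (LP (LK LD1_c5 LD2_c45 LD3_c61)) :=
  Lgr Lrot76 (Lpe (f289246 IH) (Lpe (K17.f242696 IH) (Lpr_gt (K17.f289268 IH) (Lpn (LP (LK LD1_c5 LD2_c45 LD3_c61))))))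
theorem f204837 : Led Lsl_gt (LP (LK LD1_c2 LD2_c51 LD3_c39)) = (LP (LK LD1_c5 LD2_c50 LD3_c55)) :=
  Lre_g IH (LK LD1_c2 LD2_c51 LD3_c39) (LK LD1_c5 LD2_c50 LD3_c55) Lrfl Lrfl
theorem f639751 : Led Lsl_af (LP (LK LD1_c5 LD2_c50 LD3_c55)) = (LP (LK LD1_c9 LD2_c6 LD3_c10)) :=
  Lgr Lrot31 (Lpe (f204837 IH) (Lpr_gf (f289270 IH) (Lpr_ft (K50.f639747 IH) (Lpn (LP (LK LD1_c9 LD2_c6 LD3_c10))))))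
theorem f639753 : Led Lsl_at (LP (LK LD1_c5 LD2_c50 LD3_c55)) = (LP (LK LD1_c9 LD2_c6 LD3_c10)) :=
  Lgr Lrot100 (Lpr_af (f639751 IH) (Lpn (LP (LK LD1_c9 LD2_c6 LD3_c10))))
theorem f640393 : Led Lsl_dt (LP (LK LD1_c9 LD2_c5 LD3_c6)) = (LP (LK LD1_c5 LD2_c50 LD3_c55)) :=
  Lgr Lrot44 (Lpr_af (f640387 IH) (Lpr_df (K50.f639749 IH) (Lpe (f639753 IH) (Lpn (LP (LK LD1_c5 LD2_c50 LD3_c55))))))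
theorem f640395 : Led Lsl_df (LP (LK LD1_c9 LD2_c5 LD3_c6)) = (LP (LK LD1_c5 LD2_c50 LD3_c55)) :=
  Lgr Lrot38 (Lpr_dt (f640393 IH) (Lpn (LP (LK LD1_c5 LD2_c50 LD3_c55))))
theorem f698747 : Led Lsl_ff (LP (LK LD1_c5 LD2_c50 LD3_c55)) = K50.v12875 :=
  Lgr Lrot19 (Lpe (f640395 IH) (Lpr_ft (f631705 IH) (Lpr_dt (K50.f698743 IH) (Lpn K50.v12875))))
theorem f698752 : Led Lsl_ft (LP (LK LD1_c5 LD2_c50 LD3_c55)) = K50.v12875 :=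
  Lgr Lrot48 (Lpr_ff (f698747 IH) (Lpn K50.v12875))
theorem f406416 : Led Lsl_ct (LP (LK LD1_c11 LD2_c29 LD3_c22)) = (LP (LK LD1_c5 LD2_c50 LD3_c55)) :=
  Lre_c IH (LK LD1_c11 LD2_c29 LD3_c22) (LK LD1_c5 LD2_c50 LD3_c55) Lrfl Lrfl
theorem f727530 : Led Lsl_ff (LP (LK LD1_c11 LD2_c29 LD3_c22)) = (LP (LK LD1_c11 LD2_c28 LD3_c40)) :=
  Lgr Lrot23 (Lpr_ct (f406416 IH) (Lpr_ft (f698752 IH) (Lpr_ct (f727519 IH) (Lpn (LP (LK LD1_c11 LD2_c28 LD3_c40))))))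
theorem f567666 : Led Lsl_gt (LP (LK LD1_c5 LD2_c50 LD3_c7)) = (LP (LK LD1_c11 LD2_c28 LD3_c39)) :=
  Lre_g IH (LK LD1_c5 LD2_c50 LD3_c7) (LK LD1_c11 LD2_c28 LD3_c39) Lrfl Lrfl
theorem f727604 : Led Lsl_at (LP (LK LD1_c11 LD2_c29 LD3_c22)) = (LP (LK LD1_c11 LD2_c28 LD3_c39)) :=
  Lgr Lrot26 (Lpr_ff (f727530 IH) (Lpr_gt (f499953 IH) (Lpr_gt (f567666 IH) (Lpn (LP (LK LD1_c11 LD2_c28 LD3_c39))))))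
theorem f406417 : Led Lsl_ct (LP (LK LD1_c5 LD2_c50 LD3_c55)) = (LP (LK LD1_c11 LD2_c29 LD3_c22)) :=
  Lre_c IH (LK LD1_c5 LD2_c50 LD3_c55) (LK LD1_c11 LD2_c29 LD3_c22) Lrfl Lrfl
theorem f727608 : Led Lsl_cf (LP (LK LD1_c9 LD2_c6 LD3_c10)) = (LP (LK LD1_c11 LD2_c28 LD3_c39)) :=
  Lgr Lrot1 (Lpe (f639751 IH) (Lpr_ct (f406417 IH) (Lpr_at (f727604 IH) (Lpn (LP (LK LD1_c11 LD2_c28 LD3_c39))))))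
theorem f639174 : Led Lsl_ff (LP (LK LD1_c6 LD2_c2 LD3_c33)) = (LP (LK LD1_c9 LD2_c13 LD3_c35)) :=
  Lgr Lrot19 (Lpe (f443722 IH) (Lpr_ft (K38.f639171 IH) (Lpe (K50.f507798 IH) (Lpn (LP (LK LD1_c9 LD2_c13 LD3_c35))))))
theorem f507806 : Led Lsl_ef (LP (LK LD1_c9 LD2_c13 LD3_c35)) = (LP (LK LD1_c5 LD2_c45 LD3_c61)) :=
  Lgr Lrot88 (Lpr_et (K50.f507802 IH) (Lpn (LP (LK LD1_c5 LD2_c45 LD3_c61))))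
theorem f639743 : Led Lsl_ff (LP (LK LD1_c5 LD2_c45 LD3_c61)) = (LP (LK LD1_c9 LD2_c6 LD3_c10)) :=
  Lgr Lrot72 (Lpe (f507806 IH) (Lpe (f639174 IH) (Lpr_et (K32.f443724 IH) (Lpr_ft (K50.f639741 IH) (Lpr_et (K50.f242650 IH) (Lpn (LP (LK LD1_c9 LD2_c6 LD3_c10))))))))
theorem f289275 : Led Lsl_ct (LP (LK LD1_c5 LD2_c45 LD3_c61)) = (LP (LK LD1_c11 LD2_c22 LD3_c20)) :=
  Lre_c IH (LK LD1_c5 LD2_c45 LD3_c61) (LK LD1_c11 LD2_c22 LD3_c20) Lrfl Lrfl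
theorem f727612 : Led Lsl_ft (LP (LK LD1_c11 LD2_c22 LD3_c20)) = (LP (LK LD1_c11 LD2_c28 LD3_c39)) :=
  Lgr Lrot4 (Lpe (f289275 IH) (Lpr_ff (f639743 IH) (Lpr_cf (f727608 IH) (Lpn (LP (LK LD1_c11 LD2_c28 LD3_c39))))))
theorem f727606 : Led Lsl_af (LP (LK LD1_c11 LD2_c29 LD3_c22)) = (LP (LK LD1_c11 LD2_c28 LD3_c39)) :=
  Lgr Lrot0 (Lpr_at (f727604 IH) (Lpn (LP (LK LD1_c11 LD2_c28 LD3_c39))))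
theorem f706824 : Led Lsl_bf (LP (LK LD1_c5 LD2_c50 LD3_c55)) = K51.v5245 :=
  Lgr Lrot61 (Lpr_ft (f698752 IH) (Lpqs (f706813 IH) (Lpr_bt (f504424 IH) (Lpr_ft (K51.f646781 IH) (Lpn K51.v5245)))))
theorem f706826 : Led Lsl_bt (LP (LK LD1_c5 LD2_c50 LD3_c55)) = (LP (LK LD1_c6 LD2_c11 LD3_c50)) :=
  Lgr Lrot127 (Lpr_bf (f706824 IH) (Lpq (K51.f706255 IH) (Lpn (LP (LK LD1_c6 LD2_c11 LD3_c50)))))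
theorem f416246 : Led Lsl_bt (LP (LK LD1_c1 LD2_c27 LD3_c18)) = (LP (LK LD1_c3 LD2_c2 LD3_c33)) :=
  Lre_b IH (LK LD1_c1 LD2_c27 LD3_c18) (LK LD1_c3 LD2_c2 LD3_c33) Lrfl Lrfl
def v13193 : LQ := Led Lsl_gt (LP (LK LD1_c4 LD2_c41 LD3_c13))
theorem f701609 : Led Lsl_gt (LP (LK LD1_c4 LD2_c41 LD3_c13)) = v13193 :=
  Lrfl
theorem f706041 : (LP (LK LD1_c2 LD2_c52 LD3_c22)) = v13193 :=
  Lefun (Lecon (Lfl_gf (K41.f640775 IH)) (K51.f706038 IH).symm) (f701609 IH)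
theorem f22779 : Led Lsl_ct (LP (LK LD1_c2 LD2_c52 LD3_c22)) = (LP (LK LD1_c5 LD2_c52 LD3_c8)) :=
  Lre_c IH (LK LD1_c2 LD2_c52 LD3_c22) (LK LD1_c5 LD2_c52 LD3_c8) Lrfl Lrfl
theorem f706948 : Led Lsl_gf (LP (LK LD1_c11 LD2_c29 LD3_c22)) = (LP (LK LD1_c5 LD2_c52 LD3_c8)) :=
  Lgr Lrot129 (Lpe (f406417 IH) (Lpr_bt (f706826 IH) (Lpr_gt (K51.f79985 IH) (Lpe (f416246 IH) (Lpr_ct (K9.f139982 IH) (Lpr_gt (K17.f20135 IH) (Lpe (K17.f414307 IH) (Lpr_bt (K48.f416685 IH) (Lpr_gt (f701609 IH) (Lpq (f706041 IH) (Lpr_ct (f22779 IH) (Lpn (LP (LK LD1_c5 LD2_c52 LD3_c8))))))))))))))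
theorem f727616 : Led Lsl_gt (LP (LK LD1_c11 LD2_c22 LD3_c20)) = (LP (LK LD1_c5 LD2_c52 LD3_c8)) :=
  Lgr Lrot5 (Lpr_ft (f727612 IH) (Lpe (f727606 IH) (Lpr_gf (f706948 IH) (Lpn (LP (LK LD1_c5 LD2_c52 LD3_c8))))))
theorem f242704 : Led Lsl_dt (LP (LK LD1_c9 LD2_c6 LD3_c11)) = (LP (LK LD1_c5 LD2_c37 LD3_c25)) :=
  Lgr Lrot42 (Lpr_df (K17.f242698 IH) (Lpn (LP (LK LD1_c5 LD2_c37 LD3_c25))))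
theorem f242706 : Led Lsl_ft (LP (LK LD1_c5 LD2_c37 LD3_c25)) = (LP (LK LD1_c2 LD2_c44 LD3_c39)) :=
  Lre_f IH (LK LD1_c5 LD2_c37 LD3_c25) (LK LD1_c2 LD2_c44 LD3_c39) Lrfl Lrfl
theorem f225946 : Led Lsl_gt (LP (LK LD1_c5 LD2_c42 LD3_c5)) = (LP (LK LD1_c2 LD2_c47 LD3_c1)) :=
  Lre_g IH (LK LD1_c5 LD2_c42 LD3_c5) (LK LD1_c2 LD2_c47 LD3_c1) Lrfl Lrfl
theorem f408235 : Led Lsl_gt (LP (LK LD1_c5 LD2_c37 LD3_c25)) = (LP (LK LD1_c5 LD2_c42 LD3_c5)) :=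
  Lgr Lrot5 (Lpr_ft (f242706 IH) (Lpr_at (K51.f289241 IH) (Lpe (f225946 IH) (Lpn (LP (LK LD1_c5 LD2_c42 LD3_c5))))))

end

end K53

end

end Cfsg.Agent.Helper28.S1692
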