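import Cfsg.Agent.Lib.Helper28.S1692.Seeds53

set_option autoImplicit false
set_option maxRecDepth 100000
set_option linter.all false

namespace Cfsg.Agent.Helper28.S1692

open Cfsg.Agent.Helper28
open Cfsg.Spor.ON (Gen)

noncomputable section

namespace K54
abbrev LD1_c0 := D1.c0
abbrev LD1_c1 := D1.c1
abbrev LD1_c2 := D1.c2
abbrev LD1_c3 := D1.c3
abbrev LD1_c4 := D1.c4
abbrev LD1_c5 := D1.c5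
abbrev LD1_c6 := D1.c6
abbrev LD1_c7 := D1.c7
abbrev LD1_c8 := D1.c8
abbrev LD1_c9 := D1.c9
abbrev LD1_c10 := D1.c10
abbrev LD1_c11 := D1.c11
abbrev LD1_c12 := D1.c12
abbrev LD1_c13 := D1.c13
abbrev LD1_c14 := D1.c14
abbrev LD1_c15 := D1.c15
abbrev LD1_c16 := D1.c16
abbrev LD1_c17 := D1.c17
abbrev LD1_c18 := D1.c18
abbrev LD1_c19 := D1.c19
abbrev LD1_c20 := D1.c20
abbrev LD1_c21 := D1.c21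
abbrev LD1_c22 := D1.c22
abbrev LD1_c23 := D1.c23
abbrev LD1_c24 := D1.c24
abbrev LD1_c25 := D1.c25
abbrev LD1_c26 := D1.c26
abbrev LD1_c27 := D1.c27
abbrev LD1_c28 := D1.c28
abbrev LD1_c29 := D1.c29
abbrev LD1_c30 := D1.c30
abbrev LD1_c31 := D1.c31
abbrev LD1_c32 := D1.c32
abbrev LD2_c0 := D2.c0
abbrev LD2_c1 := D2.c1
abbrev LD2_c2 := D2.c2
abbrev LD2_c3 := D2.c3
abbrev LD2_c4 := D2.c4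
abbrev LD2_c5 := D2.c5
abbrev LD2_c6 := D2.c6
abbrev LD2_c7 := D2.c7
abbrev LD2_c8 := D2.c8
abbrev LD2_c9 := D2.c9
abbrev LD2_c10 := D2.c10
abbrev LD2_c11 := D2.c11
abbrev LD2_c12 := D2.c12
abbrev LD2_c13 := D2.c13
abbrev LD2_c14 := D2.c14
abbrev LD2_c15 := D2.c15
abbrev LD2_c16 := D2.c16
abbrev LD2_c17 := D2.c17
abbrev LD2_c18 := D2.c18
abbrev LD2_c19 := D2.c19
abbrev LD2_c20 := D2.c20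
abbrev LD2_c21 := D2.c21
abbrev LD2_c22 := D2.c22
abbrev LD2_c23 := D2.c23
abbrev LD2_c24 := D2.c24
abbrev LD2_c25 := D2.c25
abbrev LD2_c26 := D2.c26
abbrev LD2_c27 := D2.c27
abbrev LD2_c28 := D2.c28
abbrev LD2_c29 := D2.c29
abbrev LD2_c30 := D2.c30
abbrev LD2_c31 := D2.c31
abbrev LD2_c32 := D2.c32
abbrev LD2_c33 := D2.c33
abbrev LD2_c34 := D2.c34
abbrev LD2_c35 := D2.c35
abbrev LD2_c36 := D2.c36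
abbrev LD2_c37 := D2.c37
abbrev LD2_c38 := D2.c38
abbrev LD2_c39 := D2.c39
abbrev LD2_c40 := D2.c40
abbrev LD2_c41 := D2.c41
abbrev LD2_c42 := D2.c42
abbrev LD2_c43 := D2.c43
abbrev LD2_c44 := D2.c44
abbrev LD2_c45 := D2.c45
abbrev LD2_c46 := D2.c46
abbrev LD2_c47 := D2.c47
abbrev LD2_c48 := D2.c48
abbrev LD2_c49 := D2.c49
abbrev LD2_c50 := D2.c50
abbrev LD2_c51 := D2.c51
abbrev LD2_c52 := D2.c52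
abbrev LD2_c53 := D2.c53
abbrev LD2_c54 := D2.c54
abbrev LD2_c55 := D2.c55
abbrev LD2_c56 := D2.c56
abbrev LD2_c57 := D2.c57
abbrev LD2_c58 := D2.c58
abbrev LD2_c59 := D2.c59
abbrev LD3_c0 := D3.c0
abbrev LD3_c1 := D3.c1
abbrev LD3_c2 := D3.c2
abbrev LD3_c3 := D3.c3
abbrev LD3_c4 := D3.c4
abbrev LD3_c5 := D3.c5
abbrev LD3_c6 := D3.c6
abbrev LD3_c7 := D3.c7
abbrev LD3_c8 := D3.c8
abbrev LD3_c9 := D3.c9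
abbrev LD3_c10 := D3.c10
abbrev LD3_c11 := D3.c11
abbrev LD3_c12 := D3.c12
abbrev LD3_c13 := D3.c13
abbrev LD3_c14 := D3.c14
abbrev LD3_c15 := D3.c15
abbrev LD3_c16 := D3.c16
abbrev LD3_c17 := D3.c17
abbrev LD3_c18 := D3.c18
abbrev LD3_c19 := D3.c19
abbrev LD3_c20 := D3.c20
abbrev LD3_c21 := D3.c21
abbrev LD3_c22 := D3.c22
abbrev LD3_c23 := D3.c23
abbrev LD3_c24 := D3.c24
abbrev LD3_c25 := D3.c25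
abbrev LD3_c26 := D3.c26
abbrev LD3_c27 := D3.c27
abbrev LD3_c28 := D3.c28
abbrev LD3_c29 := D3.c29
abbrev LD3_c30 := D3.c30
abbrev LD3_c31 := D3.c31
abbrev LD3_c32 := D3.c32
abbrev LD3_c33 := D3.c33
abbrev LD3_c34 := D3.c34
abbrev LD3_c35 := D3.c35
abbrev LD3_c36 := D3.c36
abbrev LD3_c37 := D3.c37
abbrev LD3_c38 := D3.c38
abbrev LD3_c39 := D3.c39
abbrev LD3_c40 := D3.c40
abbrev LD3_c41 := D3.c41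
abbrev LD3_c42 := D3.c42
abbrev LD3_c43 := D3.c43
abbrev LD3_c44 := D3.c44
abbrev LD3_c45 := D3.c45
abbrev LD3_c46 := D3.c46
abbrev LD3_c47 := D3.c47
abbrev LD3_c48 := D3.c48
abbrev LD3_c49 := D3.c49
abbrev LD3_c50 := D3.c50
abbrev LD3_c51 := D3.c51
abbrev LD3_c52 := D3.c52
abbrev LD3_c53 := D3.c53
abbrev LD3_c54 := D3.c54
abbrev LD3_c55 := D3.c55
abbrev LD3_c56 := D3.c56
abbrev LD3_c57 := D3.c57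
abbrev LD3_c58 := D3.c58
abbrev LD3_c59 := D3.c59
abbrev LD3_c60 := D3.c60
abbrev LD3_c61 := D3.c61
abbrev LG_g := Gen.g
abbrev Lsl_gt : Gen × Bool := sl_gt
alias Lfl_gt := fl_gt
alias Lpr_gt := pr_gt
abbrev Lsl_gf : Gen × Bool := sl_gf
alias Lfl_gf := fl_gf
alias Lpr_gf := pr_gf
alias Lre_g := re_g
alias Leoe_g := eoe_g
abbrev LG_a := Gen.a
abbrev Lsl_at : Gen × Bool := sl_at
alias Lfl_at := fl_at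
alias Lpr_at := pr_at
abbrev Lsl_af : Gen × Bool := sl_af
alias Lfl_af := fl_af
alias Lpr_af := pr_af
alias Lre_a := re_a
alias Leoe_a := eoe_a
abbrev LG_b := Gen.b
abbrev Lsl_bt : Gen × Bool := sl_bt
alias Lfl_bt := fl_bt
alias Lpr_bt := pr_bt
abbrev Lsl_bf : Gen × Bool := sl_bf
alias Lfl_bf := fl_bf
alias Lpr_bf := pr_bf
alias Lre_b := re_b
alias Leoe_b := eoe_b
abbrev LG_c := Gen.c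
abbrev Lsl_ct : Gen × Bool := sl_ct
alias Lfl_ct := fl_ct
alias Lpr_ct := pr_ct
abbrev Lsl_cf : Gen × Bool := sl_cf
alias Lfl_cf := fl_cf
alias Lpr_cf := pr_cf
alias Lre_c := re_c
alias Leoe_c := eoe_c
abbrev LG_d := Gen.d
abbrev Lsl_dt : Gen × Bool := sl_dt
alias Lfl_dt := fl_dt
alias Lpr_dt := pr_dt
abbrev Lsl_df : Gen × Bool := sl_df
alias Lfl_df := fl_df
alias Lpr_df := pr_df
alias Lre_d := re_d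
alias Leoe_d := eoe_d
abbrev LG_e := Gen.e
abbrev Lsl_et : Gen × Bool := sl_et
alias Lfl_et := fl_et
alias Lpr_et := pr_et
abbrev Lsl_ef : Gen × Bool := sl_ef
alias Lfl_ef := fl_ef
alias Lpr_ef := pr_ef
alias Lre_e := re_e
alias Leoe_e := eoe_e
abbrev LG_f := Gen.f
abbrev Lsl_ft : Gen × Bool := sl_ft
alias Lfl_ft := fl_ft
alias Lpr_ft := pr_ft
abbrev Lsl_ff : Gen × Bool := sl_ff
alias Lfl_ff := fl_ff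
alias Lpr_ff := pr_ff
alias Lre_f := re_f
alias Leoe_f := eoe_f
abbrev LK := Pt.mk
abbrev LQ : Type := Qt rels S
abbrev LP (p : Pt) : LQ := P p
abbrev Led (l : Gen × Bool) (c : LQ) : LQ := ed l c
abbrev LEOK (x : Gen) (p : Pt) : Prop := EntryOK rels S fwd inv o plet idx x p
alias Lpe := pe
alias Lpn := pn
alias Lgr := gr
alias Lpq := pq
alias Lpqs := pqs
alias Llr := lr
alias Leop := eop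
alias Lefun := efun
alias Lecon := econ
theorem Lrfl {α : Sort _} {a : α} : a = a := rfl
alias Lrot0 := rot0
alias Lrot1 := rot1
alias Lrot2 := rot2
alias Lrot3 := rot3
alias Lrot4 := rot4
alias Lrot5 := rot5
alias Lrot6 := rot6
alias Lrot7 := rot7
alias Lrot8 := rot8
alias Lrot9 := rot9
alias Lrot10 := rot10
alias Lrot11 := rot11
alias Lrot12 := rot12
alias Lrot14 := rot14
alias Lrot15 := rot15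
alias Lrot17 := rot17
alias Lrot18 := rot18
alias Lrot19 := rot19
alias Lrot20 := rot20
alias Lrot21 := rot21
alias Lrot22 := rot22
alias Lrot23 := rot23
alias Lrot24 := rot24
alias Lrot25 := rot25
alias Lrot26 := rot26
alias Lrot27 := rot27
alias Lrot28 := rot28
alias Lrot29 := rot29
alias Lrot30 := rot30
alias Lrot31 := rot31
alias Lrot32 := rot32
alias Lrot33 := rot33
alias Lrot34 := rot34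
alias Lrot35 := rot35
alias Lrot36 := rot36
alias Lrot37 := rot37
alias Lrot38 := rot38
alias Lrot39 := rot39
alias Lrot40 := rot40
alias Lrot41 := rot41
alias Lrot42 := rot42
alias Lrot44 := rot44
alias Lrot45 := rot45
alias Lrot46 := rot46
alias Lrot47 := rot47
alias Lrot48 := rot48
alias Lrot49 := rot49
alias Lrot50 := rot50
alias Lrot51 := rot51
alias Lrot52 := rot52
alias Lrot54 := rot54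
alias Lrot55 := rot55
alias Lrot56 := rot56
alias Lrot57 := rot57
alias Lrot58 := rot58
alias Lrot59 := rot59
alias Lrot60 := rot60
alias Lrot61 := rot61
alias Lrot62 := rot62
alias Lrot63 := rot63
alias Lrot64 := rot64
alias Lrot65 := rot65
alias Lrot66 := rot66
alias Lrot67 := rot67
alias Lrot68 := rot68
alias Lrot69 := rot69
alias Lrot70 := rot70
alias Lrot71 := rot71
alias Lrot72 := rot72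
alias Lrot73 := rot73
alias Lrot74 := rot74
alias Lrot75 := rot75
alias Lrot76 := rot76
alias Lrot77 := rot77
alias Lrot78 := rot78
alias Lrot79 := rot79
alias Lrot80 := rot80
alias Lrot81 := rot81
alias Lrot82 := rot82
alias Lrot83 := rot83
alias Lrot84 := rot84
alias Lrot85 := rot85
alias Lrot86 := rot86
alias Lrot87 := rot87
alias Lrot88 := rot88
alias Lrot90 := rot90
alias Lrot91 := rot91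
alias Lrot92 := rot92
alias Lrot93 := rot93
alias Lrot94 := rot94
alias Lrot95 := rot95
alias Lrot96 := rot96
alias Lrot97 := rot97
alias Lrot98 := rot98
alias Lrot99 := rot99
alias Lrot100 := rot100
alias Lrot101 := rot101
alias Lrot103 := rot103
alias Lrot104 := rot104
alias Lrot105 := rot105
alias Lrot106 := rot106
alias Lrot107 := rot107
alias Lrot108 := rot108
alias Lrot110 := rot110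
alias Lrot111 := rot111
alias Lrot112 := rot112
alias Lrot113 := rot113
alias Lrot115 := rot115
alias Lrot116 := rot116
alias Lrot117 := rot117
alias Lrot119 := rot119
alias Lrot120 := rot120
alias Lrot121 := rot121
alias Lrot122 := rot122
alias Lrot123 := rot123
alias Lrot124 := rot124
alias Lrot125 := rot125
alias Lrot126 := rot126
alias Lrot127 := rot127
alias Lrot128 := rot128
alias Lrot129 := rot129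
alias Lrot130 := rot130
alias Lrot131 := rot131
alias Lrot132 := rot132
alias Lrot134 := rot134
alias Lrot135 := rot135
alias Lrot136 := rot136
alias Lrot137 := rot137
alias Lrot138 := rot138
alias Lrot139 := rot139
alias Lrot140 := rot140
alias Lrot141 := rot141
alias Lrot142 := rot142
alias Lrot143 := rot143
alias Lrot144 := rot144
alias Lrot145 := rot145
alias Lrot146 := rot146
alias Lrot147 := rot147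
alias Lrot148 := rot148
alias Lrot149 := rot149
alias Lrot150 := rot150
alias Lrot151 := rot151
alias Lrot152 := rot152
alias Lrot153 := rot153
alias Lrot154 := rot154
alias Lrot155 := rot155
alias Lrot156 := rot156
alias Lrot158 := rot158
alias Lrot160 := rot160
alias Lrot162 := rot162
alias Lrot163 := rot163
alias Lrot164 := rot164
alias Lrot165 := rot165
alias Lrot166 := rot166
alias Lrot168 := rot168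
alias Lrot169 := rot169
alias Lrot170 := rot170
alias Lrot172 := rot172
alias Lrot174 := rot174
alias Lrot179 := rot179
alias Lrot180 := rot180
alias Lrot181 := rot181
alias Lrot183 := rot183
alias Lrot185 := rot185
alias Lrot187 := rot187
alias Lrot190 := rot190
alias Lrot191 := rot191

section
variable (IH : IHT)
include IH

theorem f22798 : Led Lsl_ct (LP (LK LD1_c5 LD2_c52 LD3_c8)) = (LP (LK LD1_c2 LD2_c52 LD3_c22)) :=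
  Lre_c IH (LK LD1_c5 LD2_c52 LD3_c8) (LK LD1_c2 LD2_c52 LD3_c22) Lrfl Lrfl
theorem f225929 : Led Lsl_gt (LP (LK LD1_c10 LD2_c55 LD3_c25)) = (LP (LK LD1_c5 LD2_c31 LD3_c51)) :=
  Lre_g IH (LK LD1_c10 LD2_c55 LD3_c25) (LK LD1_c5 LD2_c31 LD3_c51) Lrfl Lrfl
theorem f727618 : Led Lsl_ct (LP (LK LD1_c5 LD2_c42 LD3_c5)) = (LP (LK LD1_c10 LD2_c55 LD3_c25)) :=
  Lgr Lrot152 (Lpe (K53.f408235 IH) (Lpe (K53.f242704 IH) (Lpr_gt (K17.f289268 IH) (Lpr_ct (K53.f289275 IH) (Lpr_gt (K53.f727616 IH) (Lpr_ct (f22798 IH) (Lpe (K41.f615432 IH) (Lpr_cf (K41.f319511 IH) (Lpe (f225929 IH) (Lpn (LP (LK LD1_c10 LD2_c55 LD3_c25))))))))))))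
theorem f715215 : Led Lsl_ft (LP (LK LD1_c5 LD2_c37 LD3_c24)) = (LP (LK LD1_c5 LD2_c42 LD3_c4)) :=
  Lgr Lrot75 (Lpr_bf (K53.f715211 IH) (Lpe (K53.f706742 IH) (Lpe (K53.f408466 IH) (Lpn (LP (LK LD1_c5 LD2_c42 LD3_c4))))))
theorem f715219 : Led Lsl_af (LP (LK LD1_c5 LD2_c37 LD3_c23)) = (LP (LK LD1_c5 LD2_c42 LD3_c4)) :=
  Lgr Lrot31 (Lpe (K50.f211853 IH) (Lpe (K53.f172684 IH) (Lpr_ft (f715215 IH) (Lpn (LP (LK LD1_c5 LD2_c42 LD3_c4))))))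
theorem f715221 : Led Lsl_at (LP (LK LD1_c5 LD2_c37 LD3_c23)) = (LP (LK LD1_c5 LD2_c42 LD3_c4)) :=
  Lgr Lrot100 (Lpr_af (f715219 IH) (Lpn (LP (LK LD1_c5 LD2_c42 LD3_c4))))
theorem f715280 : Led Lsl_ff (LP (LK LD1_c5 LD2_c37 LD3_c23)) = (LP (LK LD1_c5 LD2_c42 LD3_c5)) :=
  Lgr Lrot52 (Lpr_at (f715221 IH) (Lpe (K17.f225937 IH) (Lpe (K53.f225946 IH) (Lpn (LP (LK LD1_c5 LD2_c42 LD3_c5))))))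
theorem f715217 : Led Lsl_ff (LP (LK LD1_c5 LD2_c37 LD3_c24)) = (LP (LK LD1_c5 LD2_c42 LD3_c4)) :=
  Lgr Lrot3 (Lpr_ft (f715215 IH) (Lpn (LP (LK LD1_c5 LD2_c42 LD3_c4))))
theorem f715282 : Led Lsl_at (LP (LK LD1_c5 LD2_c37 LD3_c24)) = (LP (LK LD1_c5 LD2_c42 LD3_c5)) :=
  Lgr Lrot66 (Lpr_ff (f715217 IH) (Lpe (f715221 IH) (Lpr_ff (f715280 IH) (Lpn (LP (LK LD1_c5 LD2_c42 LD3_c5))))))
theorem f727517 : Led Lsl_cf (LP (LK LD1_c5 LD2_c37 LD3_c24)) = K53.v14964 :=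
  Lgr Lrot11 (Lpr_ct (K53.f727512 IH) (Lpn K53.v14964))
theorem f727620 : Led Lsl_af K53.v14964 = (LP (LK LD1_c10 LD2_c55 LD3_c25)) :=
  Lgr Lrot68 (Lpe (f727517 IH) (Lpr_at (f715282 IH) (Lpr_ct (f727618 IH) (Lpn (LP (LK LD1_c10 LD2_c55 LD3_c25))))))
theorem f168548 : Led Lsl_gt (LP (LK LD1_c5 LD2_c28 LD3_c53)) = (LP (LK LD1_c10 LD2_c48 LD3_c56)) :=
  Lre_g IH (LK LD1_c5 LD2_c28 LD3_c53) (LK LD1_c10 LD2_c48 LD3_c56) Lrfl Lrfl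
theorem f287987 : Led Lsl_gt (LP (LK LD1_c10 LD2_c48 LD3_c56)) = (LP (LK LD1_c10 LD2_c55 LD3_c27)) :=
  Lgr Lrot46 (Lpe (f168548 IH) (Lpr_ft (K20.f287983 IH) (Lpr_at (K20.f287973 IH) (Lpn (LP (LK LD1_c10 LD2_c55 LD3_c27))))))
theorem f727626 : Led Lsl_ft (LP (LK LD1_c10 LD2_c48 LD3_c56)) = (LP (LK LD1_c10 LD2_c55 LD3_c25)) :=
  Lgr Lrot2 (Lpr_gt (f287987 IH) (Lpr_gt (K53.f727511 IH) (Lpr_af (f727620 IH) (Lpn (LP (LK LD1_c10 LD2_c55 LD3_c25))))))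
theorem f727627 : Led Lsl_ft (LP (LK LD1_c10 LD2_c48 LD3_c56)) = (LP (LK LD1_c10 LD2_c55 LD3_c25)) :=
  Leop (Lpe (f727626 IH) (Lpn (LP (LK LD1_c10 LD2_c48 LD3_c56))))
theorem seed_868 : LEOK LG_f (LK LD1_c10 LD2_c48 LD3_c56) :=
  Leoe_f (LK LD1_c10 LD2_c48 LD3_c56) (f727627 IH)
def v14976 : LQ := Led Lsl_gf (LP (LK LD1_c5 LD2_c29 LD3_c0))
theorem f727683 : Led Lsl_gf (LP (LK LD1_c5 LD2_c29 LD3_c0)) = v14976 :=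
  Lrfl
def v13092 : LQ := Led Lsl_et (LP (LK LD1_c4 LD2_c39 LD3_c11))
theorem f701049 : Led Lsl_et (LP (LK LD1_c4 LD2_c39 LD3_c11)) = v13092 :=
  Lrfl
theorem f501117 : Led Lsl_et (LP (LK LD1_c6 LD2_c3 LD3_c22)) = (LP (LK LD1_c2 LD2_c57 LD3_c47)) :=
  Lre_e IH (LK LD1_c6 LD2_c3 LD3_c22) (LK LD1_c2 LD2_c57 LD3_c47) Lrfl Lrfl
theorem f701050 : Led Lsl_af (LP (LK LD1_c6 LD2_c3 LD3_c22)) = v13092 :=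
  Lgr Lrot50 (Lpr_et (f501117 IH) (Lpe (K50.f645716 IH) (Lpr_et (f701049 IH) (Lpn v13092))))
theorem f727684 : Led Lsl_ff v13092 = v14976 :=
  Lgr Lrot52 (Lpe (f701050 IH) (Lpr_gf (K46.f646007 IH) (Lpr_gf (f727683 IH) (Lpn v14976))))
theorem f494517 : Led Lsl_et (LP (LK LD1_c4 LD2_c39 LD3_c12)) = (LP (LK LD1_c2 LD2_c16 LD3_c35)) :=
  Lre_e IH (LK LD1_c4 LD2_c39 LD3_c12) (LK LD1_c2 LD2_c16 LD3_c35) Lrfl Lrfl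
theorem f701051 : Led Lsl_cf (LP (LK LD1_c4 LD2_c39 LD3_c12)) = v13092 :=
  Lgr Lrot39 (Lpr_et (f494517 IH) (Lpr_ct (K52.f140935 IH) (Lpr_et (f701049 IH) (Lpn v13092))))
theorem f727685 : Led Lsl_ct (LP (LK LD1_c5 LD2_c37 LD3_c16)) = v14976 :=
  Lgr Lrot40 (Lpr_ff (K53.f645820 IH) (Lpr_cf (f701051 IH) (Lpr_ff (f727684 IH) (Lpn v14976))))
theorem f289305 : Led Lsl_gt (LP (LK LD1_c5 LD2_c42 LD3_c11)) = (LP (LK LD1_c5 LD2_c37 LD3_c16)) :=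
  Lgr Lrot5 (Lpr_ft (K17.f174249 IH) (Lpr_at (K17.f289292 IH) (Lpe (K53.f164771 IH) (Lpn (LP (LK LD1_c5 LD2_c37 LD3_c16))))))
theorem f302659 : Led Lsl_et (LP (LK LD1_c5 LD2_c12 LD3_c30)) = (LP (LK LD1_c2 LD2_c33 LD3_c7)) :=
  Lre_e IH (LK LD1_c5 LD2_c12 LD3_c30) (LK LD1_c2 LD2_c33 LD3_c7) Lrfl Lrfl
theorem f386697 : Led Lsl_at (LP (LK LD1_c5 LD2_c58 LD3_c31)) = (LP (LK LD1_c5 LD2_c12 LD3_c30)) :=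
  Lgr Lrot80 (Lpe (K42.f386696 IH) (Lpr_af (K27.f386668 IH) (Lpe (f302659 IH) (Lpn (LP (LK LD1_c5 LD2_c12 LD3_c30))))))
theorem f302429 : Led Lsl_at (LP (LK LD1_c5 LD2_c42 LD3_c9)) = (LP (LK LD1_c11 LD2_c14 LD3_c30)) :=
  Lre_a IH (LK LD1_c5 LD2_c42 LD3_c9) (LK LD1_c11 LD2_c14 LD3_c30) Lrfl Lrfl
theorem f387308 : Led Lsl_dt (LP (LK LD1_c5 LD2_c12 LD3_c30)) = (LP (LK LD1_c5 LD2_c42 LD3_c9)) :=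
  Lgr Lrot44 (Lpe (f386697 IH) (Lpr_df (K42.f387301 IH) (Lpe (f302429 IH) (Lpn (LP (LK LD1_c5 LD2_c42 LD3_c9))))))
theorem f302660 : Led Lsl_ft (LP (LK LD1_c10 LD2_c15 LD3_c27)) = (LP (LK LD1_c5 LD2_c12 LD3_c30)) :=
  Lre_f IH (LK LD1_c10 LD2_c15 LD3_c27) (LK LD1_c5 LD2_c12 LD3_c30) Lrfl Lrfl
theorem f387325 : Led Lsl_ft (LP (LK LD1_c5 LD2_c42 LD3_c9)) = (LP (LK LD1_c11 LD2_c14 LD3_c35)) :=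
  Lre_f IH (LK LD1_c5 LD2_c42 LD3_c9) (LK LD1_c11 LD2_c14 LD3_c35) Lrfl Lrfl
theorem f387326 : Led Lsl_df (LP (LK LD1_c10 LD2_c15 LD3_c27)) = (LP (LK LD1_c11 LD2_c14 LD3_c35)) :=
  Lgr Lrot78 (Lpr_ft (f302660 IH) (Lpr_dt (f387308 IH) (Lpr_ft (f387325 IH) (Lpn (LP (LK LD1_c11 LD2_c14 LD3_c35))))))
theorem f387338 : Led Lsl_dt (LP (LK LD1_c10 LD2_c15 LD3_c27)) = (LP (LK LD1_c11 LD2_c14 LD3_c35)) :=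
  Lgr Lrot42 (Lpr_df (f387326 IH) (Lpn (LP (LK LD1_c11 LD2_c14 LD3_c35))))
theorem f387344 : Led Lsl_bt (LP (LK LD1_c5 LD2_c12 LD3_c33)) = (LP (LK LD1_c10 LD2_c15 LD3_c27)) :=
  Lre_b IH (LK LD1_c5 LD2_c12 LD3_c33) (LK LD1_c10 LD2_c15 LD3_c27) Lrfl Lrfl
theorem f387347 : Led Lsl_df (LP (LK LD1_c5 LD2_c12 LD3_c33)) = (LP (LK LD1_c5 LD2_c42 LD3_c11)) :=
  Lgr Lrot12 (Lpr_bt (f387344 IH) (Lpr_dt (f387338 IH) (Lpr_bt (K17.f289284 IH) (Lpn (LP (LK LD1_c5 LD2_c42 LD3_c11))))))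
theorem f180476 : Led Lsl_et (LP (LK LD1_c2 LD2_c13 LD3_c47)) = (LP (LK LD1_c4 LD2_c33 LD3_c52)) :=
  Lre_e IH (LK LD1_c2 LD2_c13 LD3_c47) (LK LD1_c4 LD2_c33 LD3_c52) Lrfl Lrfl
theorem f387352 : Led Lsl_gt (LP (LK LD1_c5 LD2_c12 LD3_c33)) = (LP (LK LD1_c5 LD2_c6 LD3_c1)) :=
  Lgr Lrot139 (Lpr_df (f387347 IH) (Lpr_gf (K17.f289278 IH) (Lpe (K17.f172566 IH) (Lpr_dt (K17.f172565 IH) (Lpe (K17.f180314 IH) (Lpe (K17.f180477 IH) (Lpr_et (f180476 IH) (Lpe (K17.f180475 IH) (Lpe (K17.f180460 IH) (Lpe (K17.f180461 IH) (Lpn (LP (LK LD1_c5 LD2_c6 LD3_c1)))))))))))))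
theorem f164765 : Led Lsl_ct (LP (LK LD1_c5 LD2_c6 LD3_c1)) = (LP (LK LD1_c10 LD2_c3 LD3_c4)) :=
  Lre_c IH (LK LD1_c5 LD2_c6 LD3_c1) (LK LD1_c10 LD2_c3 LD3_c4) Lrfl Lrfl
theorem f186740 : Led Lsl_et (LP (LK LD1_c2 LD2_c32 LD3_c12)) = (LP (LK LD1_c5 LD2_c10 LD3_c21)) :=
  Lre_e IH (LK LD1_c2 LD2_c32 LD3_c12) (LK LD1_c5 LD2_c10 LD3_c21) Lrfl Lrfl
theorem f186780 : Led Lsl_cf (LP (LK LD1_c2 LD2_c34 LD3_c7)) = (LP (LK LD1_c5 LD2_c10 LD3_c21)) :=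
  Lgr Lrot39 (Lpr_et (K17.f164395 IH) (Lpr_ct (K10.f186773 IH) (Lpr_et (f186740 IH) (Lpn (LP (LK LD1_c5 LD2_c10 LD3_c21))))))
def v14440 : LQ := Led Lsl_gf (LP (LK LD1_c5 LD2_c10 LD3_c21))
theorem f722537 : Led Lsl_gf (LP (LK LD1_c5 LD2_c10 LD3_c21)) = v14440 :=
  Lrfl
theorem f727688 : (LP (LK LD1_c10 LD2_c3 LD3_c4)) = v14440 :=
  (Llr Lrot152 (Lpe (f164765 IH) (Lpe (f387352 IH) (Lpr_df (f387347 IH) (Lpr_gt (f289305 IH) (Lpr_ct (f727685 IH) (Lpe (f727683 IH) (Lpr_ct (K17.f225335 IH) (Lpe (K12.f225453 IH) (Lpr_cf (f186780 IH) (Lpr_gf (f722537 IH) (Lpn v14440)))))))))))).symm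
theorem f727689 : Led Lsl_gt (LP (LK LD1_c10 LD2_c3 LD3_c4)) = (LP (LK LD1_c5 LD2_c10 LD3_c21)) :=
  Leop (Lpr_gf (f722537 IH) (Lpq (f727688 IH) (Lpn (LP (LK LD1_c10 LD2_c3 LD3_c4)))))
theorem seed_869 : LEOK LG_g (LK LD1_c10 LD2_c3 LD3_c4) :=
  Leoe_g (LK LD1_c10 LD2_c3 LD3_c4) (f727689 IH)
def v14978 : LQ := Led Lsl_ft (LP (LK LD1_c5 LD2_c29 LD3_c2))
theorem f727701 : Led Lsl_ft (LP (LK LD1_c5 LD2_c29 LD3_c2)) = v14978 :=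
  Lrfl
theorem f172314 : Led Lsl_ct (LP (LK LD1_c2 LD2_c43 LD3_c15)) = (LP (LK LD1_c5 LD2_c34 LD3_c40)) :=
  Lre_c IH (LK LD1_c2 LD2_c43 LD3_c15) (LK LD1_c5 LD2_c34 LD3_c40) Lrfl Lrfl
theorem f179467 : Led Lsl_dt (LP (LK LD1_c11 LD2_c1 LD3_c41)) = (LP (LK LD1_c5 LD2_c34 LD3_c40)) :=
  Lre_d IH (LK LD1_c11 LD2_c1 LD3_c41) (LK LD1_c5 LD2_c34 LD3_c40) Lrfl Lrfl
theorem f179468 : Led Lsl_gt (LP (LK LD1_c19 LD2_c52 LD3_c60)) = (LP (LK LD1_c11 LD2_c1 LD3_c41)) :=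
  Lre_g IH (LK LD1_c19 LD2_c52 LD3_c60) (LK LD1_c11 LD2_c1 LD3_c41) Lrfl Lrfl
theorem f319818 : Led Lsl_df (LP (LK LD1_c19 LD2_c52 LD3_c60)) = (LP (LK LD1_c16 LD2_c47 LD3_c24)) :=
  Lgr Lrot153 (Lpr_gt (f179468 IH) (Lpr_dt (f179467 IH) (Lpe (f172314 IH) (Lpr_df (K30.f179457 IH) (Lpe (K20.f178122 IH) (Lpe (K22.f179469 IH) (Lpr_gf (K22.f319816 IH) (Lpe (K22.f238490 IH) (Lpe (K31.f319810 IH) (Lpn (LP (LK LD1_c16 LD2_c47 LD3_c24))))))))))))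
theorem f179321 : Led Lsl_at (LP (LK LD1_c10 LD2_c49 LD3_c13)) = (LP (LK LD1_c5 LD2_c29 LD3_c2)) :=
  Lre_a IH (LK LD1_c10 LD2_c49 LD3_c13) (LK LD1_c5 LD2_c29 LD3_c2) Lrfl Lrfl
theorem f388126 : Led Lsl_ft (LP (LK LD1_c11 LD2_c9 LD3_c9)) = (LP (LK LD1_c10 LD2_c49 LD3_c13)) :=
  Lgr Lrot2 (Lpr_gt (K31.f388122 IH) (Lpr_gt (K31.f179311 IH) (Lpe (f179321 IH) (Lpn (LP (LK LD1_c10 LD2_c49 LD3_c13))))))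
theorem f727702 : Led Lsl_af (LP (LK LD1_c11 LD2_c9 LD3_c9)) = v14978 :=
  Lgr Lrot45 (Lpr_ft (f388126 IH) (Lpr_at (f179321 IH) (Lpr_ft (f727701 IH) (Lpn v14978))))
theorem f174173 : Led Lsl_ct (LP (LK LD1_c10 LD2_c58 LD3_c13)) = (LP (LK LD1_c10 LD2_c57 LD3_c6)) :=
  Lgr Lrot59 (Lpr_cf (K50.f174162 IH) (Lpn (LP (LK LD1_c10 LD2_c57 LD3_c6))))
theorem f391460 : Led Lsl_ct (LP (LK LD1_c9 LD2_c0 LD3_c48)) = (LP (LK LD1_c8 LD2_c56 LD3_c11)) :=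
  Lgr Lrot151 (Lpr_gf (K50.f391457 IH) (Lpe (K50.f199477 IH) (Lpr_gf (K30.f384940 IH) (Lpr_dt (K38.f390250 IH) (Lpe (K38.f390179 IH) (Lpr_ct (K52.f380725 IH) (Lpe (K52.f390181 IH) (Lpr_ct (f174173 IH) (Lpe (K50.f391424 IH) (Lpn (LP (LK LD1_c8 LD2_c56 LD3_c11))))))))))))
theorem f384737 : Led Lsl_gf (LP (LK LD1_c11 LD2_c5 LD3_c22)) = (LP (LK LD1_c8 LD2_c56 LD3_c11)) :=
  Lgr Lrot76 (Lpe (K30.f384735 IH) (Lpr_ff (K30.f384729 IH) (Lpr_gt (K30.f225913 IH) (Lpn (LP (LK LD1_c8 LD2_c56 LD3_c11))))))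
theorem f384693 : Led Lsl_bt (LP (LK LD1_c11 LD2_c5 LD3_c38)) = (LP (LK LD1_c19 LD2_c58 LD3_c47)) :=
  Lre_b IH (LK LD1_c11 LD2_c5 LD3_c38) (LK LD1_c19 LD2_c58 LD3_c47) Lrfl Lrfl
theorem f332103 : Led Lsl_bt (LP (LK LD1_c26 LD2_c48 LD3_c21)) = (LP (LK LD1_c16 LD2_c50 LD3_c54)) :=
  Lre_b IH (LK LD1_c26 LD2_c48 LD3_c21) (LK LD1_c16 LD2_c50 LD3_c54) Lrfl Lrfl
theorem f384982 : Led Lsl_ft (LP (LK LD1_c19 LD2_c58 LD3_c47)) = (LP (LK LD1_c26 LD2_c48 LD3_c21)) :=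
  Lgr Lrot75 (Lpe (f384693 IH) (Lpr_ff (K30.f384980 IH) (Lpe (f332103 IH) (Lpn (LP (LK LD1_c26 LD2_c48 LD3_c21))))))
theorem f385069 : Led Lsl_gt (LP (LK LD1_c19 LD2_c58 LD3_c47)) = (LP (LK LD1_c25 LD2_c14 LD3_c48)) :=
  Lgr Lrot5 (Lpr_ft (f384982 IH) (Lpe (K31.f384976 IH) (Lpr_gf (K31.f332657 IH) (Lpn (LP (LK LD1_c25 LD2_c14 LD3_c48))))))
theorem f391462 : Led Lsl_gt (LP (LK LD1_c8 LD2_c10 LD3_c5)) = (LP (LK LD1_c8 LD2_c27 LD3_c38)) :=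
  Lgr Lrot65 (Lpe (K31.f244015 IH) (Lpr_bt (K31.f244037 IH) (Lpe (f385069 IH) (Lpe (f384693 IH) (Lpr_ct (K30.f178946 IH) (Lpr_gf (f384737 IH) (Lpe (f391460 IH) (Lpr_gf (K50.f391457 IH) (Lpe (K30.f199465 IH) (Lpe (K41.f332705 IH) (Lpn (LP (LK LD1_c8 LD2_c27 LD3_c38)))))))))))))
theorem f244290 : Led Lsl_dt (LP (LK LD1_c5 LD2_c39 LD3_c28)) = (LP (LK LD1_c11 LD2_c10 LD3_c3)) :=
  Lre_d IH (LK LD1_c5 LD2_c39 LD3_c28) (LK LD1_c11 LD2_c10 LD3_c3) Lrfl Lrfl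
theorem f384936 : Led Lsl_gt (LP (LK LD1_c4 LD2_c30 LD3_c57)) = (LP (LK LD1_c2 LD2_c45 LD3_c41)) :=
  Lgr Lrot94 (Lpr_cf (K30.f319138 IH) (Lpr_gt (K30.f384923 IH) (Lpr_dt (K30.f244585 IH) (Lpr_gt (K30.f199461 IH) (Lpe (K22.f332676 IH) (Lpr_cf (K20.f319633 IH) (Lpe (K20.f168815 IH) (Lpr_gf (K20.f289598 IH) (Lpe (K38.f289602 IH) (Lpn (LP (LK LD1_c2 LD2_c45 LD3_c41))))))))))))
theorem f314886 : Led Lsl_gf (LP (LK LD1_c8 LD2_c9 LD3_c47)) = (LP (LK LD1_c5 LD2_c39 LD3_c4)) :=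
  Lgr Lrot76 (Lpe (K30.f314875 IH) (Lpr_ff (K19.f314868 IH) (Lpr_gt (K31.f178141 IH) (Lpn (LP (LK LD1_c5 LD2_c39 LD3_c4))))))
theorem f391468 : Led Lsl_dt (LP (LK LD1_c8 LD2_c10 LD3_c5)) = (LP (LK LD1_c5 LD2_c39 LD3_c4)) :=
  Lgr Lrot6 (Lpr_gt (f391462 IH) (Lpr_ct (K22.f332713 IH) (Lpe (K30.f199474 IH) (Lpr_ct (K30.f332667 IH) (Lpe (f244290 IH) (Lpe (K22.f179471 IH) (Lpe (f384936 IH) (Lpr_cf (K30.f319138 IH) (Lpr_gf (f314886 IH) (Lpn (LP (LK LD1_c5 LD2_c39 LD3_c4))))))))))))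
theorem f387865 : Led Lsl_dt (LP (LK LD1_c25 LD2_c14 LD3_c49)) = (LP (LK LD1_c15 LD2_c22 LD3_c58)) :=
  Lre_d IH (LK LD1_c25 LD2_c14 LD3_c49) (LK LD1_c15 LD2_c22 LD3_c58) Lrfl Lrfl
theorem f727705 : Led Lsl_ct (LP (LK LD1_c19 LD2_c52 LD3_c60)) = (LP (LK LD1_c25 LD2_c14 LD3_c49)) :=
  Lgr Lrot41 (Lpr_df (f319818 IH) (Lpe (K31.f387735 IH) (Lpe (K31.f179404 IH) (Lpr_ft (f727701 IH) (Lpe (f727702 IH) (Lpe (K31.f289605 IH) (Lpe (f391468 IH) (Lpe (K31.f244015 IH) (Lpe (f387865 IH) (Lpn (LP (LK LD1_c25 LD2_c14 LD3_c49))))))))))))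
theorem f727706 : Led Lsl_ct (LP (LK LD1_c19 LD2_c52 LD3_c60)) = (LP (LK LD1_c25 LD2_c14 LD3_c49)) :=
  Leop (Lpe (f727705 IH) (Lpn (LP (LK LD1_c19 LD2_c52 LD3_c60))))
theorem seed_870 : LEOK LG_c (LK LD1_c19 LD2_c52 LD3_c60) :=
  Leoe_c (LK LD1_c19 LD2_c52 LD3_c60) (f727706 IH)
theorem f727704 : Led Lsl_ff (LP (LK LD1_c5 LD2_c29 LD3_c2)) = v14978 :=
  Lgr Lrot3 (Lpr_ft (f727701 IH) (Lpn v14978))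
def v4647 : LQ := Led Lsl_ft (LP (LK LD1_c2 LD2_c40 LD3_c47))
theorem f638316 : Led Lsl_ft (LP (LK LD1_c2 LD2_c40 LD3_c47)) = v4647 :=
  Lrfl
theorem f727710 : Led Lsl_bt v4647 = v14978 :=
  Lgr Lrot35 (Lpe (f638316 IH) (Lpe (K22.f179302 IH) (Lpr_ff (f727704 IH) (Lpn v14978))))
theorem f638319 : Led Lsl_ff (LP (LK LD1_c2 LD2_c40 LD3_c47)) = v4647 :=
  Lgr Lrot3 (Lpr_ft (f638316 IH) (Lpn v4647))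
def v4646 : LQ := Led Lsl_at (LP (LK LD1_c2 LD2_c40 LD3_c47))
theorem f638310 : Led Lsl_at (LP (LK LD1_c2 LD2_c40 LD3_c47)) = v4646 :=
  Lrfl
theorem f638311 : Led Lsl_af (LP (LK LD1_c2 LD2_c40 LD3_c47)) = v4646 :=
  Lgr Lrot0 (Lpr_at (f638310 IH) (Lpn v4646))
theorem f638312 : Led Lsl_ft (LP (LK LD1_c2 LD2_c40 LD3_c48)) = v4646 :=
  Lgr Lrot2 (Lpr_gt (K31.f245149 IH) (Lpr_gt (K22.f172945 IH) (Lpr_af (f638311 IH) (Lpn v4646))))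
theorem f638314 : Led Lsl_ff (LP (LK LD1_c2 LD2_c40 LD3_c48)) = v4646 :=
  Lgr Lrot3 (Lpr_ft (f638312 IH) (Lpn v4646))
theorem f638320 : Led Lsl_at (LP (LK LD1_c2 LD2_c40 LD3_c48)) = v4647 :=
  Lgr Lrot66 (Lpr_ff (f638314 IH) (Lpe (f638310 IH) (Lpr_ff (f638319 IH) (Lpn v4647))))
theorem f390681 : Led Lsl_bt (LP (LK LD1_c5 LD2_c29 LD3_c6)) = (LP (LK LD1_c2 LD2_c40 LD3_c48)) :=
  Lre_b IH (LK LD1_c5 LD2_c29 LD3_c6) (LK LD1_c2 LD2_c40 LD3_c48) Lrfl Lrfl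
theorem f392513 : Led Lsl_at (LP (LK LD1_c10 LD2_c49 LD3_c27)) = (LP (LK LD1_c5 LD2_c29 LD3_c6)) :=
  Lre_a IH (LK LD1_c10 LD2_c49 LD3_c27) (LK LD1_c5 LD2_c29 LD3_c6) Lrfl Lrfl
theorem f727711 : Led Lsl_bf (LP (LK LD1_c10 LD2_c49 LD3_c27)) = (LP (LK LD1_c11 LD2_c9 LD3_c9)) :=
  Lgr Lrot81 (Lpr_at (f392513 IH) (Lpr_bt (f390681 IH) (Lpr_at (f638320 IH) (Lpr_bt (f727710 IH) (Lpe (f727702 IH) (Lpn (LP (LK LD1_c11 LD2_c9 LD3_c9))))))))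
theorem f727712 : Led Lsl_bt (LP (LK LD1_c11 LD2_c9 LD3_c9)) = (LP (LK LD1_c10 LD2_c49 LD3_c27)) :=
  Leop (Lpr_bf (f727711 IH) (Lpn (LP (LK LD1_c11 LD2_c9 LD3_c9))))
theorem seed_871 : LEOK LG_b (LK LD1_c11 LD2_c9 LD3_c9) :=
  Leoe_b (LK LD1_c11 LD2_c9 LD3_c9) (f727712 IH)
def v15030 : LQ := Led Lsl_at (LP (LK LD1_c5 LD2_c30 LD3_c43))
theorem f729690 : Led Lsl_at (LP (LK LD1_c5 LD2_c30 LD3_c43)) = v15030 :=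
  Lrfl
theorem f306868 : Led Lsl_bt (LP (LK LD1_c5 LD2_c30 LD3_c43)) = (LP (LK LD1_c2 LD2_c41 LD3_c34)) :=
  Lre_b IH (LK LD1_c5 LD2_c30 LD3_c43) (LK LD1_c2 LD2_c41 LD3_c34) Lrfl Lrfl
theorem f245969 : Led Lsl_bt (LP (LK LD1_c2 LD2_c45 LD3_c47)) = (LP (LK LD1_c5 LD2_c39 LD3_c43)) :=
  Lre_b IH (LK LD1_c2 LD2_c45 LD3_c47) (LK LD1_c5 LD2_c39 LD3_c43) Lrfl Lrfl
theorem f306869 : Led Lsl_ff (LP (LK LD1_c5 LD2_c30 LD3_c43)) = (LP (LK LD1_c5 LD2_c39 LD3_c43)) :=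
  Lgr Lrot25 (Lpr_bt (f306868 IH) (Lpr_ft (K19.f306865 IH) (Lpr_bt (f245969 IH) (Lpn (LP (LK LD1_c5 LD2_c39 LD3_c43))))))
theorem f306864 : Led Lsl_at (LP (LK LD1_c11 LD2_c10 LD3_c36)) = (LP (LK LD1_c5 LD2_c39 LD3_c43)) :=
  Lre_a IH (LK LD1_c11 LD2_c10 LD3_c36) (LK LD1_c5 LD2_c39 LD3_c43) Lrfl Lrfl
theorem f729692 : Led Lsl_ff (LP (LK LD1_c11 LD2_c10 LD3_c36)) = v15030 :=
  Lgr Lrot30 (Lpr_at (f306864 IH) (Lpe (f306869 IH) (Lpr_at (f729690 IH) (Lpn v15030))))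
theorem f729693 : Led Lsl_ft (LP (LK LD1_c11 LD2_c10 LD3_c36)) = v15030 :=
  Lgr Lrot48 (Lpr_ff (f729692 IH) (Lpn v15030))
theorem f729691 : Led Lsl_af (LP (LK LD1_c5 LD2_c30 LD3_c43)) = v15030 :=
  Lgr Lrot0 (Lpr_at (f729690 IH) (Lpn v15030))
theorem f405897 : Led Lsl_gt (LP (LK LD1_c10 LD2_c53 LD3_c0)) = (LP (LK LD1_c5 LD2_c30 LD3_c43)) :=
  Lre_g IH (LK LD1_c10 LD2_c53 LD3_c0) (LK LD1_c5 LD2_c30 LD3_c43) Lrfl Lrfl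
theorem f729694 : Led Lsl_gt (LP (LK LD1_c11 LD2_c10 LD3_c36)) = (LP (LK LD1_c10 LD2_c53 LD3_c0)) :=
  Lgr Lrot5 (Lpr_ft (f729693 IH) (Lpe (f729691 IH) (Lpe (f405897 IH) (Lpn (LP (LK LD1_c10 LD2_c53 LD3_c0))))))
theorem f729695 : Led Lsl_gt (LP (LK LD1_c11 LD2_c10 LD3_c36)) = (LP (LK LD1_c10 LD2_c53 LD3_c0)) :=
  Leop (Lpe (f729694 IH) (Lpn (LP (LK LD1_c11 LD2_c10 LD3_c36))))
theorem seed_872 : LEOK LG_g (LK LD1_c11 LD2_c10 LD3_c36) :=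
  Leoe_g (LK LD1_c11 LD2_c10 LD3_c36) (f729695 IH)
def v15058 : LQ := Led Lsl_ft (LP (LK LD1_c5 LD2_c31 LD3_c18))
theorem f729796 : Led Lsl_ft (LP (LK LD1_c5 LD2_c31 LD3_c18)) = v15058 :=
  Lrfl
theorem f729799 : Led Lsl_ff (LP (LK LD1_c5 LD2_c31 LD3_c18)) = v15058 :=
  Lgr Lrot3 (Lpr_ft (f729796 IH) (Lpn v15058))
def v4661 : LQ := Led Lsl_ft (LP (LK LD1_c2 LD2_c41 LD3_c54))
theorem f638386 : Led Lsl_ft (LP (LK LD1_c2 LD2_c41 LD3_c54)) = v4661 :=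
  Lrfl
theorem f729801 : Led Lsl_bt v4661 = v15058 :=
  Lgr Lrot35 (Lpe (f638386 IH) (Lpe (K19.f185888 IH) (Lpr_ff (f729799 IH) (Lpn v15058))))
theorem f638388 : Led Lsl_ff (LP (LK LD1_c2 LD2_c41 LD3_c54)) = v4661 :=
  Lgr Lrot3 (Lpr_ft (f638386 IH) (Lpn v4661))
def v4660 : LQ := Led Lsl_at (LP (LK LD1_c2 LD2_c41 LD3_c54))
theorem f638382 : Led Lsl_at (LP (LK LD1_c2 LD2_c41 LD3_c54)) = v4660 :=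
  Lrfl
theorem f638383 : Led Lsl_af (LP (LK LD1_c2 LD2_c41 LD3_c54)) = v4660 :=
  Lgr Lrot0 (Lpr_at (f638382 IH) (Lpn v4660))
theorem f638384 : Led Lsl_ft (LP (LK LD1_c2 LD2_c41 LD3_c55)) = v4660 :=
  Lgr Lrot2 (Lpr_gt (K17.f212211 IH) (Lpr_gt (K18.f185887 IH) (Lpr_af (f638383 IH) (Lpn v4660))))
theorem f638385 : Led Lsl_ff (LP (LK LD1_c2 LD2_c41 LD3_c55)) = v4660 :=
  Lgr Lrot3 (Lpr_ft (f638384 IH) (Lpn v4660))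
theorem f638389 : Led Lsl_at (LP (LK LD1_c2 LD2_c41 LD3_c55)) = v4661 :=
  Lgr Lrot66 (Lpr_ff (f638385 IH) (Lpe (f638382 IH) (Lpr_ff (f638388 IH) (Lpn v4661))))
theorem f261633 : Led Lsl_bt (LP (LK LD1_c5 LD2_c31 LD3_c22)) = (LP (LK LD1_c2 LD2_c41 LD3_c55)) :=
  Lre_b IH (LK LD1_c5 LD2_c31 LD3_c22) (LK LD1_c2 LD2_c41 LD3_c55) Lrfl Lrfl
def v15057 : LQ := Led Lsl_at (LP (LK LD1_c5 LD2_c31 LD3_c18))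
theorem f729792 : Led Lsl_at (LP (LK LD1_c5 LD2_c31 LD3_c18)) = v15057 :=
  Lrfl
theorem f729793 : Led Lsl_af (LP (LK LD1_c5 LD2_c31 LD3_c18)) = v15057 :=
  Lgr Lrot0 (Lpr_at (f729792 IH) (Lpn v15057))
theorem f729794 : Led Lsl_ft (LP (LK LD1_c16 LD2_c12 LD3_c59)) = v15057 :=
  Lgr Lrot2 (Lpr_gt (K19.f213457 IH) (Lpe (K23.f342348 IH) (Lpr_af (f729793 IH) (Lpn v15057))))
theorem f729797 : Led Lsl_af (LP (LK LD1_c16 LD2_c12 LD3_c59)) = v15058 :=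
  Lgr Lrot45 (Lpr_ft (f729794 IH) (Lpe (f729793 IH) (Lpr_ft (f729796 IH) (Lpn v15058))))
theorem f729802 : Led Lsl_af (LP (LK LD1_c5 LD2_c31 LD3_c22)) = (LP (LK LD1_c8 LD2_c54 LD3_c11)) :=
  Lgr Lrot36 (Lpr_bt (f261633 IH) (Lpr_at (f638389 IH) (Lpr_bt (f729801 IH) (Lpe (f729797 IH) (Lpr_bt (K49.f339840 IH) (Lpn (LP (LK LD1_c8 LD2_c54 LD3_c11))))))))
theorem f729803 : Led Lsl_at (LP (LK LD1_c8 LD2_c54 LD3_c11)) = (LP (LK LD1_c5 LD2_c31 LD3_c22)) :=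
  Leop (Lpr_af (f729802 IH) (Lpn (LP (LK LD1_c8 LD2_c54 LD3_c11))))
theorem seed_873 : LEOK LG_a (LK LD1_c8 LD2_c54 LD3_c11) :=
  Leoe_a (LK LD1_c8 LD2_c54 LD3_c11) (f729803 IH)
def v15076 : LQ := Led Lsl_gf (LP (LK LD1_c5 LD2_c31 LD3_c49))
theorem f731544 : Led Lsl_gf (LP (LK LD1_c5 LD2_c31 LD3_c49)) = v15076 :=
  Lrfl
def v13091 : LQ := Led Lsl_dt (LP (LK LD1_c4 LD2_c39 LD3_c11))
theorem f701040 : Led Lsl_dt (LP (LK LD1_c4 LD2_c39 LD3_c11)) = v13091 :=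
  Lrfl
theorem f701035 : Led Lsl_cf (LP (LK LD1_c5 LD2_c52 LD3_c50)) = K50.v13090 :=
  Lgr Lrot11 (Lpr_ct (K50.f701033 IH) (Lpn K50.v13090))
theorem f68374 : Led Lsl_ef (LP (LK LD1_c3 LD2_c14 LD3_c34)) = (LP (LK LD1_c2 LD2_c21 LD3_c55)) :=
  Lgr Lrot73 (Lpr_dt (K24.f23835 IH) (Lpr_et (K0.f23792 IH) (Lpr_dt (K24.f22730 IH) (Lpr_et (K24.f68363 IH) (Lpr_dt (K24.f68373 IH) (Lpn (LP (LK LD1_c2 LD2_c21 LD3_c55))))))))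
theorem f135598 : Led Lsl_gt (LP (LK LD1_c3 LD2_c14 LD3_c34)) = (LP (LK LD1_c2 LD2_c22 LD3_c53)) :=
  Lgr Lrot137 (Lpr_ef (f68374 IH) (Lpr_dt (K24.f68384 IH) (Lpe (K24.f68362 IH) (Lpe (K32.f68456 IH) (Lpe (K6.f113159 IH) (Lpr_gf (K6.f135486 IH) (Lpe (K29.f25667 IH) (Lpr_dt (K29.f135596 IH) (Lpe (K32.f135597 IH) (Lpe (K32.f25587 IH) (Lpn (LP (LK LD1_c2 LD2_c22 LD3_c53)))))))))))))
theorem f445996 : Led Lsl_gf (LP (LK LD1_c3 LD2_c59 LD3_c57)) = (LP (LK LD1_c5 LD2_c52 LD3_c50)) :=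
  Lgr Lrot143 (Lpr_dt (K48.f40474 IH) (Lpr_cf (K32.f444589 IH) (Lpe (K32.f25587 IH) (Lpe (f135598 IH) (Lpe (K0.f23793 IH) (Lpr_gf (K24.f416143 IH) (Lpe (K32.f23231 IH) (Lpr_gt (K46.f445994 IH) (Lpr_dt (K24.f151910 IH) (Lpn (LP (LK LD1_c5 LD2_c52 LD3_c50))))))))))))
def v12281 : LQ := Led Lsl_dt (LP (LK LD1_c3 LD2_c59 LD3_c12))
theorem f689153 : Led Lsl_dt (LP (LK LD1_c3 LD2_c59 LD3_c12)) = v12281 :=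
  Lrfl
theorem f689155 : Led Lsl_df (LP (LK LD1_c3 LD2_c59 LD3_c12)) = v12281 :=
  Lgr Lrot38 (Lpr_dt (f689153 IH) (Lpn v12281))
theorem f701045 : Led Lsl_gf v12281 = v13091 :=
  Lgr Lrot143 (Lpe (f689155 IH) (Lpe (K1.f40937 IH) (Lpe (K16.f36236 IH) (Lpe (K32.f35538 IH) (Lpe (K48.f40474 IH) (Lpr_gf (f445996 IH) (Lpr_cf (f701035 IH) (Lpe (K50.f701030 IH) (Lpr_dt (f701040 IH) (Lpn v13091))))))))))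
theorem f178897 : Led Lsl_et (LP (LK LD1_c2 LD2_c42 LD3_c3)) = (LP (LK LD1_c5 LD2_c31 LD3_c49)) :=
  Lre_e IH (LK LD1_c2 LD2_c42 LD3_c3) (LK LD1_c5 LD2_c31 LD3_c49) Lrfl Lrfl
theorem f701053 : Led Lsl_gt (LP (LK LD1_c5 LD2_c31 LD3_c49)) = v13092 :=
  Lgr Lrot131 (Lpe (f178897 IH) (Lpe (K12.f178885 IH) (Lpr_gf (K12.f226401 IH) (Lpe (K9.f167783 IH) (Lpe (K12.f173163 IH) (Lpe (K9.f40989 IH) (Lpr_dt (f689153 IH) (Lpr_gf (f701045 IH) (Lpe (f701040 IH) (Lpr_et (f701049 IH) (Lpn v13092)))))))))))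
theorem f701052 : Led Lsl_ef (LP (LK LD1_c4 LD2_c39 LD3_c11)) = v13092 :=
  Lgr Lrot88 (Lpr_et (f701049 IH) (Lpn v13092))
theorem f645710 : Led Lsl_at (LP (LK LD1_c4 LD2_c39 LD3_c11)) = (LP (LK LD1_c2 LD2_c57 LD3_c47)) :=
  Lgr Lrot66 (Lpr_ff (K50.f645708 IH) (Lpr_af (K50.f645483 IH) (Lpe (K50.f645482 IH) (Lpn (LP (LK LD1_c2 LD2_c57 LD3_c47))))))
theorem f701054 : Led Lsl_at (LP (LK LD1_c6 LD2_c3 LD3_c22)) = v13092 :=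
  Lgr Lrot80 (Lpe (K46.f645481 IH) (Lpe (f645710 IH) (Lpr_ef (f701052 IH) (Lpn v13092))))
theorem f731546 : Led Lsl_ff (LP (LK LD1_c6 LD2_c3 LD3_c22)) = v15076 :=
  Lgr Lrot52 (Lpr_at (f701054 IH) (Lpe (f701053 IH) (Lpr_gf (f731544 IH) (Lpn v15076))))
theorem f180294 : Led Lsl_ct (LP (LK LD1_c6 LD2_c3 LD3_c22)) = (LP (LK LD1_c2 LD2_c57 LD3_c48)) :=
  Lre_c IH (LK LD1_c6 LD2_c3 LD3_c22) (LK LD1_c2 LD2_c57 LD3_c48) Lrfl Lrfl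
theorem f645835 : Led Lsl_ft (LP (LK LD1_c2 LD2_c57 LD3_c48)) = (LP (LK LD1_c5 LD2_c42 LD3_c10)) :=
  Lgr Lrot48 (Lpr_ff (K53.f645829 IH) (Lpn (LP (LK LD1_c5 LD2_c42 LD3_c10))))
theorem f731548 : Led Lsl_ct (LP (LK LD1_c5 LD2_c42 LD3_c10)) = v15076 :=
  Lgr Lrot40 (Lpe (f645835 IH) (Lpe (f180294 IH) (Lpr_ff (f731546 IH) (Lpn v15076))))
theorem f186519 : Led Lsl_bt (LP (LK LD1_c5 LD2_c42 LD3_c10)) = (LP (LK LD1_c11 LD2_c14 LD3_c36)) :=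
  Lre_b IH (LK LD1_c5 LD2_c42 LD3_c10) (LK LD1_c11 LD2_c14 LD3_c36) Lrfl Lrfl
theorem f714478 : Led Lsl_gf (LP (LK LD1_c10 LD2_c17 LD3_c49)) = (LP (LK LD1_c9 LD2_c7 LD3_c41)) :=
  Lgr Lrot47 (Lpr_gt (K53.f714476 IH) (Lpe (K53.f165745 IH) (Lpr_ff (K53.f699290 IH) (Lpn (LP (LK LD1_c9 LD2_c7 LD3_c41))))))
theorem f714527 : Led Lsl_gt (LP (LK LD1_c11 LD2_c14 LD3_c36)) = (LP (LK LD1_c5 LD2_c42 LD3_c49)) :=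
  Lgr Lrot112 (Lpe (K53.f186526 IH) (Lpr_et (K53.f186532 IH) (Lpr_gf (f714478 IH) (Lpe (K53.f551781 IH) (Lpr_dt (K44.f34912 IH) (Lpe (K38.f34971 IH) (Lpe (K38.f34974 IH) (Lpe (K36.f34975 IH) (Lpe (K40.f547886 IH) (Lpr_dt (K40.f552605 IH) (Lpn (LP (LK LD1_c5 LD2_c42 LD3_c49)))))))))))))
theorem f561886 : Led Lsl_bt (LP (LK LD1_c5 LD2_c46 LD3_c60)) = (LP (LK LD1_c5 LD2_c42 LD3_c49)) :=
  Lgr Lrot127 (Lpr_bf (K40.f561884 IH) (Lpn (LP (LK LD1_c5 LD2_c42 LD3_c49))))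
theorem f9158 : Led Lsl_at (LP (LK LD1_c9 LD2_c31 LD3_c59)) = (LP (LK LD1_c6 LD2_c46 LD3_c13)) :=
  Lre_a IH (LK LD1_c9 LD2_c31 LD3_c59) (LK LD1_c6 LD2_c46 LD3_c13) Lrfl Lrfl
theorem f9163 : Led Lsl_gt (LP (LK LD1_c12 LD2_c56 LD3_c17)) = (LP (LK LD1_c6 LD2_c46 LD3_c13)) :=
  Lre_g IH (LK LD1_c12 LD2_c56 LD3_c17) (LK LD1_c6 LD2_c46 LD3_c13) Lrfl Lrfl
theorem f59991 : Led Lsl_gf (LP (LK LD1_c12 LD2_c56 LD3_c17)) = (LP (LK LD1_c11 LD2_c24 LD3_c8)) :=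
  Lgr Lrot47 (Lpr_gt (f9163 IH) (Lpe (f9158 IH) (Lpr_ff (K1.f59975 IH) (Lpn (LP (LK LD1_c11 LD2_c24 LD3_c8))))))
def v14977 : LQ := Led Lsl_ft (LP (LK LD1_c5 LD2_c29 LD3_c0))
theorem f727695 : Led Lsl_ft (LP (LK LD1_c5 LD2_c29 LD3_c0)) = v14977 :=
  Lrfl
theorem f727698 : Led Lsl_ff (LP (LK LD1_c5 LD2_c29 LD3_c0)) = v14977 :=
  Lgr Lrot3 (Lpr_ft (f727695 IH) (Lpn v14977))
theorem f731545 : Led Lsl_gt v14977 = v15076 :=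
  Lgr Lrot5 (Lpe (f727698 IH) (Lpr_at (K17.f288034 IH) (Lpr_gf (f731544 IH) (Lpn v15076))))
theorem f727699 : Led Lsl_ct (LP (LK LD1_c5 LD2_c40 LD3_c45)) = v14977 :=
  Lgr Lrot40 (Lpe (K17.f225459 IH) (Lpe (K17.f225335 IH) (Lpr_ff (f727698 IH) (Lpn v14977))))
theorem f731552 : Led Lsl_cf (LP (LK LD1_c12 LD2_c56 LD3_c17)) = (LP (LK LD1_c11 LD2_c6 LD3_c42)) :=
  Lgr Lrot58 (Lpr_gf (f59991 IH) (Lpe (K1.f59936 IH) (Lpr_bt (f561886 IH) (Lpe (f714527 IH) (Lpe (f186519 IH) (Lpr_ct (f731548 IH) (Lpe (f731545 IH) (Lpe (f727699 IH) (Lpr_gf (K50.f288058 IH) (Lpe (K53.f171830 IH) (Lpn (LP (LK LD1_c11 LD2_c6 LD3_c42)))))))))))))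
theorem f731553 : Led Lsl_ct (LP (LK LD1_c11 LD2_c6 LD3_c42)) = (LP (LK LD1_c12 LD2_c56 LD3_c17)) :=
  Leop (Lpr_cf (f731552 IH) (Lpn (LP (LK LD1_c11 LD2_c6 LD3_c42))))
theorem seed_874 : LEOK LG_c (LK LD1_c11 LD2_c6 LD3_c42) :=
  Leoe_c (LK LD1_c11 LD2_c6 LD3_c42) (f731553 IH)
def v14534 : LQ := Led Lsl_ct (LP (LK LD1_c5 LD2_c12 LD3_c32))
theorem f723085 : Led Lsl_ct (LP (LK LD1_c5 LD2_c12 LD3_c32)) = v14534 :=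
  Lrfl
theorem f288042 : Led Lsl_af (LP (LK LD1_c2 LD2_c46 LD3_c17)) = (LP (LK LD1_c2 LD2_c44 LD3_c44)) :=
  Lgr Lrot0 (Lpr_at (K17.f288040 IH) (Lpn (LP (LK LD1_c2 LD2_c44 LD3_c44))))
theorem f408451 : Led Lsl_ct (LP (LK LD1_c5 LD2_c31 LD3_c49)) = (LP (LK LD1_c2 LD2_c44 LD3_c44)) :=
  Lgr Lrot111 (Lpe (K17.f288034 IH) (Lpr_cf (K53.f225692 IH) (Lpr_af (f288042 IH) (Lpn (LP (LK LD1_c2 LD2_c44 LD3_c44))))))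
theorem f177259 : Led Lsl_gt (LP (LK LD1_c9 LD2_c57 LD3_c14)) = (LP (LK LD1_c5 LD2_c3 LD3_c9)) :=
  Lre_g IH (LK LD1_c9 LD2_c57 LD3_c14) (LK LD1_c5 LD2_c3 LD3_c9) Lrfl Lrfl
theorem f731554 : v14534 = (LP (LK LD1_c9 LD2_c57 LD3_c14)) :=
  (Llr Lrot152 (Lpe (f723085 IH) (Lpr_gf (K50.f408191 IH) (Lpe (K50.f164760 IH) (Lpe (K53.f405235 IH) (Lpr_ct (f731548 IH) (Lpe (f731544 IH) (Lpr_ct (f408451 IH) (Lpr_df (K17.f165079 IH) (Lpe (K32.f177250 IH) (Lpe (f177259 IH) (Lpn (LP (LK LD1_c9 LD2_c57 LD3_c14)))))))))))))).symm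
theorem f723086 : Led Lsl_cf (LP (LK LD1_c5 LD2_c12 LD3_c32)) = v14534 :=
  Lgr Lrot11 (Lpr_ct (f723085 IH) (Lpn v14534))
theorem f731555 : Led Lsl_ct (LP (LK LD1_c9 LD2_c57 LD3_c14)) = (LP (LK LD1_c5 LD2_c12 LD3_c32)) :=
  Leop (Lpr_cf (f723086 IH) (Lpqs (f731554 IH) (Lpn (LP (LK LD1_c9 LD2_c57 LD3_c14)))))
theorem seed_875 : LEOK LG_c (LK LD1_c9 LD2_c57 LD3_c14) :=
  Leoe_c (LK LD1_c9 LD2_c57 LD3_c14) (f731555 IH)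
theorem f727686 : Led Lsl_ft v13092 = v14976 :=
  Lgr Lrot48 (Lpr_ff (f727684 IH) (Lpn v14976))
theorem f731547 : Led Lsl_at v14976 = v15076 :=
  Lgr Lrot66 (Lpe (f727686 IH) (Lpe (f701054 IH) (Lpr_ff (f731546 IH) (Lpn v15076))))
theorem f731576 : Led Lsl_gt v13092 = v14977 :=
  Lgr Lrot5 (Lpr_ft (f727686 IH) (Lpr_at (f731547 IH) (Lpe (f731545 IH) (Lpn v14977))))
theorem f701055 : Led Lsl_ct (LP (LK LD1_c4 LD2_c39 LD3_c12)) = v13092 :=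
  Lgr Lrot15 (Lpe (K50.f174607 IH) (Lpe (K50.f140936 IH) (Lpr_ef (f701052 IH) (Lpn v13092))))
theorem f174604 : Led Lsl_et (LP (LK LD1_c1 LD2_c3 LD3_c53)) = (LP (LK LD1_c0 LD2_c29 LD3_c7)) :=
  Lre_e IH (LK LD1_c1 LD2_c3 LD3_c53) (LK LD1_c0 LD2_c29 LD3_c7) Lrfl Lrfl
theorem f178960 : Led Lsl_gt (LP (LK LD1_c2 LD2_c47 LD3_c3)) = (LP (LK LD1_c4 LD2_c39 LD3_c12)) :=
  Lgr Lrot131 (Lpe (K17.f174150 IH) (Lpe (K9.f178876 IH) (Lpr_gf (K9.f178952 IH) (Lpr_df (K9.f174531 IH) (Lpe (K9.f174530 IH) (Lpe (f174604 IH) (Lpr_dt (K46.f23245 IH) (Lpe (K24.f174605 IH) (Lpe (K49.f174606 IH) (Lpr_et (K50.f174607 IH) (Lpn (LP (LK LD1_c4 LD2_c39 LD3_c12)))))))))))))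
theorem f185118 : Led Lsl_df (LP (LK LD1_c2 LD2_c33 LD3_c8)) = (LP (LK LD1_c2 LD2_c47 LD3_c3)) :=
  Lgr Lrot70 (Lpr_et (K53.f185117 IH) (Lpr_dt (K10.f185085 IH) (Lpr_et (K10.f185109 IH) (Lpr_dt (K9.f178883 IH) (Lpr_et (K17.f174150 IH) (Lpn (LP (LK LD1_c2 LD2_c47 LD3_c3))))))))
def v14532 : LQ := Led Lsl_ct (LP (LK LD1_c5 LD2_c12 LD3_c31))
theorem f723079 : Led Lsl_ct (LP (LK LD1_c5 LD2_c12 LD3_c31)) = v14532 :=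
  Lrfl
theorem f727696 : Led Lsl_cf (LP (LK LD1_c5 LD2_c40 LD3_c45)) = v14977 :=
  Lgr Lrot108 (Lpr_ft (K17.f225486 IH) (Lpe (K53.f225692 IH) (Lpr_ft (f727695 IH) (Lpn v14977))))
theorem f288270 : Led Lsl_af (LP (LK LD1_c2 LD2_c32 LD3_c12)) = (LP (LK LD1_c2 LD2_c29 LD3_c6)) :=
  Lgr Lrot117 (Lpr_dt (K14.f185398 IH) (Lpr_at (K17.f288260 IH) (Lpr_dt (K10.f28375 IH) (Lpn (LP (LK LD1_c2 LD2_c29 LD3_c6))))))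
theorem f408396 : Led Lsl_at (LP (LK LD1_c5 LD2_c10 LD3_c21)) = (LP (LK LD1_c5 LD2_c3 LD3_c9)) :=
  Lgr Lrot80 (Lpe (f186740 IH) (Lpr_af (f288270 IH) (Lpe (K32.f177213 IH) (Lpn (LP (LK LD1_c5 LD2_c3 LD3_c9))))))
theorem f408402 : Led Lsl_ft (LP (LK LD1_c10 LD2_c11 LD3_c27)) = (LP (LK LD1_c5 LD2_c10 LD3_c21)) :=
  Lre_f IH (LK LD1_c10 LD2_c11 LD3_c27) (LK LD1_c5 LD2_c10 LD3_c21) Lrfl Lrfl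
theorem f177253 : Led Lsl_ft (LP (LK LD1_c5 LD2_c3 LD3_c9)) = (LP (LK LD1_c9 LD2_c57 LD3_c16)) :=
  Lre_f IH (LK LD1_c5 LD2_c3 LD3_c9) (LK LD1_c9 LD2_c57 LD3_c16) Lrfl Lrfl
theorem f408403 : Led Lsl_af (LP (LK LD1_c10 LD2_c11 LD3_c27)) = (LP (LK LD1_c9 LD2_c57 LD3_c16)) :=
  Lgr Lrot45 (Lpr_ft (f408402 IH) (Lpr_at (f408396 IH) (Lpr_ft (f177253 IH) (Lpn (LP (LK LD1_c9 LD2_c57 LD3_c16))))))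
theorem f177254 : Led Lsl_ct (LP (LK LD1_c9 LD2_c57 LD3_c16)) = (LP (LK LD1_c5 LD2_c8 LD3_c10)) :=
  Lgr Lrot40 (Lpe (f177253 IH) (Lpr_cf (K32.f177214 IH) (Lpe (K17.f165086 IH) (Lpn (LP (LK LD1_c5 LD2_c8 LD3_c10))))))
theorem f177262 : Led Lsl_cf (LP (LK LD1_c9 LD2_c57 LD3_c16)) = (LP (LK LD1_c5 LD2_c8 LD3_c10)) :=
  Lgr Lrot11 (Lpr_ct (f177254 IH) (Lpn (LP (LK LD1_c5 LD2_c8 LD3_c10))))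
theorem f408409 : Led Lsl_ct (LP (LK LD1_c10 LD2_c11 LD3_c27)) = (LP (LK LD1_c5 LD2_c14 LD3_c36)) :=
  Lgr Lrot111 (Lpr_af (f408403 IH) (Lpr_cf (f177262 IH) (Lpe (K17.f288056 IH) (Lpn (LP (LK LD1_c5 LD2_c14 LD3_c36))))))
theorem f177256 : Led Lsl_gt (LP (LK LD1_c5 LD2_c3 LD3_c9)) = (LP (LK LD1_c9 LD2_c57 LD3_c13)) :=
  Lre_g IH (LK LD1_c5 LD2_c3 LD3_c9) (LK LD1_c9 LD2_c57 LD3_c13) Lrfl Lrfl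
theorem f408413 : Led Lsl_gf (LP (LK LD1_c10 LD2_c11 LD3_c27)) = (LP (LK LD1_c9 LD2_c57 LD3_c13)) :=
  Lgr Lrot76 (Lpr_af (f408403 IH) (Lpe (f177253 IH) (Lpr_gt (f177256 IH) (Lpn (LP (LK LD1_c9 LD2_c57 LD3_c13))))))
theorem f731577 : v14532 = (LP (LK LD1_c9 LD2_c57 LD3_c13)) :=
  (Llr Lrot152 (Lpe (f723079 IH) (Lpe (K50.f387381 IH) (Lpr_df (f185118 IH) (Lpr_gt (f178960 IH) (Lpr_ct (f701055 IH) (Lpr_gt (f731576 IH) (Lpe (f727696 IH) (Lpe (K36.f225484 IH) (Lpe (f408409 IH) (Lpr_gf (f408413 IH) (Lpn (LP (LK LD1_c9 LD2_c57 LD3_c13)))))))))))))).symm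
theorem f723080 : Led Lsl_cf (LP (LK LD1_c5 LD2_c12 LD3_c31)) = v14532 :=
  Lgr Lrot11 (Lpr_ct (f723079 IH) (Lpn v14532))
theorem f731578 : Led Lsl_ct (LP (LK LD1_c9 LD2_c57 LD3_c13)) = (LP (LK LD1_c5 LD2_c12 LD3_c31)) :=
  Leop (Lpr_cf (f723080 IH) (Lpqs (f731577 IH) (Lpn (LP (LK LD1_c9 LD2_c57 LD3_c13)))))
theorem seed_876 : LEOK LG_c (LK LD1_c9 LD2_c57 LD3_c13) :=
  Leoe_c (LK LD1_c9 LD2_c57 LD3_c13) (f731578 IH)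
def v15078 : LQ := Led Lsl_ft (LP (LK LD1_c5 LD2_c31 LD3_c49))
theorem f731587 : Led Lsl_ft (LP (LK LD1_c5 LD2_c31 LD3_c49)) = v15078 :=
  Lrfl
theorem f731591 : Led Lsl_ff (LP (LK LD1_c5 LD2_c31 LD3_c49)) = v15078 :=
  Lgr Lrot3 (Lpr_ft (f731587 IH) (Lpn v15078))
theorem f731595 : Led Lsl_gf v14976 = v15078 :=
  Lgr Lrot47 (Lpe (f727683 IH) (Lpr_af (K17.f288036 IH) (Lpr_ff (f731591 IH) (Lpn v15078))))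
theorem f731549 : Led Lsl_ft (LP (LK LD1_c6 LD2_c3 LD3_c22)) = v15076 :=
  Lgr Lrot48 (Lpr_ff (f731546 IH) (Lpn v15076))
theorem f731550 : Led Lsl_af v14976 = v15076 :=
  Lgr Lrot45 (Lpe (f727684 IH) (Lpe (f701050 IH) (Lpr_ft (f731549 IH) (Lpn v15076))))
theorem f731596 : Led Lsl_gt (LP (LK LD1_c6 LD2_c3 LD3_c22)) = v15078 :=
  Lgr Lrot5 (Lpr_ft (f731549 IH) (Lpe (f731550 IH) (Lpr_gf (f731595 IH) (Lpn v15078))))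
theorem f164766 : Led Lsl_gt (LP (LK LD1_c2 LD2_c30 LD3_c19)) = (LP (LK LD1_c5 LD2_c6 LD3_c0)) :=
  Lre_g IH (LK LD1_c2 LD2_c30 LD3_c19) (LK LD1_c5 LD2_c6 LD3_c0) Lrfl Lrfl
theorem f164767 : Led Lsl_ct (LP (LK LD1_c5 LD2_c6 LD3_c0)) = (LP (LK LD1_c10 LD2_c3 LD3_c0)) :=
  Lre_c IH (LK LD1_c5 LD2_c6 LD3_c0) (LK LD1_c10 LD2_c3 LD3_c0) Lrfl Lrfl
theorem f165106 : Led Lsl_ft (LP (LK LD1_c5 LD2_c37 LD3_c35)) = (LP (LK LD1_c2 LD2_c44 LD3_c44)) :=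
  Lre_f IH (LK LD1_c5 LD2_c37 LD3_c35) (LK LD1_c2 LD2_c44 LD3_c44) Lrfl Lrfl
theorem f731589 : Led Lsl_cf (LP (LK LD1_c5 LD2_c37 LD3_c35)) = v15078 :=
  Lgr Lrot108 (Lpr_ft (f165106 IH) (Lpe (K17.f226397 IH) (Lpr_ft (f731587 IH) (Lpn v15078))))
def v14439 : LQ := Led Lsl_gt (LP (LK LD1_c5 LD2_c10 LD3_c21))
theorem f722535 : Led Lsl_gt (LP (LK LD1_c5 LD2_c10 LD3_c21)) = v14439 :=
  Lrfl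
theorem f408420 : Led Lsl_ft (LP (LK LD1_c5 LD2_c10 LD3_c21)) = (LP (LK LD1_c10 LD2_c11 LD3_c27)) :=
  Lre_f IH (LK LD1_c5 LD2_c10 LD3_c21) (LK LD1_c10 LD2_c11 LD3_c27) Lrfl Lrfl
theorem f408407 : Led Lsl_at (LP (LK LD1_c10 LD2_c11 LD3_c27)) = (LP (LK LD1_c9 LD2_c57 LD3_c16)) :=
  Lgr Lrot100 (Lpr_af (f408403 IH) (Lpn (LP (LK LD1_c9 LD2_c57 LD3_c16))))
theorem f722536 : Led Lsl_gf (LP (LK LD1_c9 LD2_c57 LD3_c16)) = v14439 :=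
  Lgr Lrot76 (Lpe (f408407 IH) (Lpe (f408420 IH) (Lpr_gt (f722535 IH) (Lpn v14439))))
theorem f731597 : (LP (LK LD1_c10 LD2_c3 LD3_c0)) = v14439 :=
  (Llr Lrot152 (Lpe (f164767 IH) (Lpe (f164766 IH) (Lpe (K17.f164737 IH) (Lpr_gt (K17.f180290 IH) (Lpr_ct (K53.f180293 IH) (Lpr_gt (f731596 IH) (Lpe (f731589 IH) (Lpr_df (K17.f165104 IH) (Lpe (f177254 IH) (Lpr_gf (f722536 IH) (Lpn v14439)))))))))))).symm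
theorem f731598 : Led Lsl_gt (LP (LK LD1_c10 LD2_c3 LD3_c0)) = (LP (LK LD1_c9 LD2_c57 LD3_c16)) :=
  Leop (Lpr_gf (f722536 IH) (Lpq (f731597 IH) (Lpn (LP (LK LD1_c10 LD2_c3 LD3_c0)))))
theorem seed_877 : LEOK LG_g (LK LD1_c10 LD2_c3 LD3_c0) :=
  Leoe_g (LK LD1_c10 LD2_c3 LD3_c0) (f731598 IH)
def v15100 : LQ := Led Lsl_ft (LP (LK LD1_c5 LD2_c31 LD3_c57))
theorem f731668 : Led Lsl_ft (LP (LK LD1_c5 LD2_c31 LD3_c57)) = v15100 :=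
  Lrfl
theorem f731671 : Led Lsl_ff (LP (LK LD1_c5 LD2_c31 LD3_c57)) = v15100 :=
  Lgr Lrot3 (Lpr_ft (f731668 IH) (Lpn v15100))
def v4589 : LQ := Led Lsl_at (LP (LK LD1_c2 LD2_c32 LD3_c50))
theorem f636281 : Led Lsl_at (LP (LK LD1_c2 LD2_c32 LD3_c50)) = v4589 :=
  Lrfl
theorem f636282 : Led Lsl_af (LP (LK LD1_c2 LD2_c32 LD3_c50)) = v4589 :=
  Lgr Lrot0 (Lpr_at (f636281 IH) (Lpn v4589))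
theorem f636283 : Led Lsl_ft (LP (LK LD1_c2 LD2_c32 LD3_c50)) = v4589 :=
  Lgr Lrot2 (Lpr_gt (K19.f163898 IH) (Lpr_gt (K19.f21358 IH) (Lpr_af (f636282 IH) (Lpn v4589))))
theorem f636284 : Led Lsl_ff (LP (LK LD1_c2 LD2_c32 LD3_c50)) = v4589 :=
  Lgr Lrot3 (Lpr_ft (f636283 IH) (Lpn v4589))
def v4667 : LQ := Led Lsl_ft (LP (LK LD1_c2 LD2_c42 LD3_c6))
theorem f638412 : Led Lsl_ft (LP (LK LD1_c2 LD2_c42 LD3_c6)) = v4667 :=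
  Lrfl
theorem f638415 : Led Lsl_ff (LP (LK LD1_c2 LD2_c42 LD3_c6)) = v4667 :=
  Lgr Lrot3 (Lpr_ft (f638412 IH) (Lpn v4667))
theorem f281428 : Led Lsl_ct (LP (LK LD1_c2 LD2_c42 LD3_c6)) = (LP (LK LD1_c2 LD2_c25 LD3_c45)) :=
  Lgr Lrot59 (Lpr_cf (K21.f281417 IH) (Lpn (LP (LK LD1_c2 LD2_c25 LD3_c45))))
def v4537 : LQ := Led Lsl_ft (LP (LK LD1_c2 LD2_c25 LD3_c45))
theorem f636015 : Led Lsl_ft (LP (LK LD1_c2 LD2_c25 LD3_c45)) = v4537 :=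
  Lrfl
theorem f638417 : Led Lsl_ct v4537 = v4667 :=
  Lgr Lrot40 (Lpe (f636015 IH) (Lpe (f281428 IH) (Lpr_ff (f638415 IH) (Lpn v4667))))
theorem f226713 : Led Lsl_gt (LP (LK LD1_c4 LD2_c29 LD3_c40)) = (LP (LK LD1_c2 LD2_c11 LD3_c52)) :=
  Lre_g IH (LK LD1_c4 LD2_c29 LD3_c40) (LK LD1_c2 LD2_c11 LD3_c52) Lrfl Lrfl
theorem f306812 : Led Lsl_ct (LP (LK LD1_c3 LD2_c58 LD3_c39)) = (LP (LK LD1_c4 LD2_c29 LD3_c40)) :=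
  Lgr Lrot8 (Lpr_gt (K14.f171279 IH) (Lpr_dt (K14.f171271 IH) (Lpr_gt (K14.f250340 IH) (Lpr_dt (K21.f169642 IH) (Lpe (K17.f257646 IH) (Lpr_df (K19.f306808 IH) (Lpe (K19.f173541 IH) (Lpe (K19.f173174 IH) (Lpe (f226713 IH) (Lpn (LP (LK LD1_c4 LD2_c29 LD3_c40))))))))))))
theorem f688407 : Led Lsl_ff (LP (LK LD1_c3 LD2_c58 LD3_c39)) = K49.v12269 :=
  Lgr Lrot3 (Lpr_ft (K49.f688404 IH) (Lpn K49.v12269))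
theorem f688403 : Led Lsl_et K49.v4728 = K49.v12269 :=
  Lgr Lrot87 (Lpr_ef (K49.f688402 IH) (Lpn K49.v12269))
def v4074 : LQ := Led Lsl_gf (LP (LK LD1_c1 LD2_c59 LD3_c57))
theorem f629302 : Led Lsl_gf (LP (LK LD1_c1 LD2_c59 LD3_c57)) = v4074 :=
  Lrfl
theorem f629305 : Led Lsl_dt (LP (LK LD1_c2 LD2_c44 LD3_c23)) = v4074 :=
  Lgr Lrot136 (Lpe (K49.f370985 IH) (Lpe (K46.f171282 IH) (Lpe (K14.f171270 IH) (Lpr_dt (K14.f171268 IH) (Lpr_gf (K9.f179516 IH) (Lpe (K9.f179852 IH) (Lpr_gf (K9.f179849 IH) (Lpe (K24.f167866 IH) (Lpe (K25.f167872 IH) (Lpr_gf (f629302 IH) (Lpn v4074)))))))))))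
theorem f629307 : Led Lsl_ef (LP (LK LD1_c2 LD2_c25 LD3_c45)) = v4074 :=
  Lgr Lrot73 (Lpr_dt (K46.f168761 IH) (Lpe (K46.f355146 IH) (Lpr_dt (K46.f171287 IH) (Lpr_et (K49.f370980 IH) (Lpr_dt (f629305 IH) (Lpn v4074))))))
theorem f688408 : Led Lsl_ft (LP (LK LD1_c7 LD2_c58 LD3_c51)) = (LP (LK LD1_c5 LD2_c37 LD3_c0)) :=
  Lgr Lrot86 (Lpe (K49.f171293 IH) (Lpr_ff (f688407 IH) (Lpe (f688403 IH) (Lpe (K49.f638700 IH) (Lpe (K23.f237816 IH) (Lpn (LP (LK LD1_c5 LD2_c37 LD3_c0))))))))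
theorem f688414 : Led Lsl_af (LP (LK LD1_c8 LD2_c11 LD3_c59)) = (LP (LK LD1_c5 LD2_c37 LD3_c0)) :=
  Lgr Lrot31 (Lpr_gf (K25.f342433 IH) (Lpr_gf (K25.f354721 IH) (Lpr_ft (f688408 IH) (Lpn (LP (LK LD1_c5 LD2_c37 LD3_c0))))))
theorem f688420 : (LP (LK LD1_c4 LD2_c5 LD3_c32)) = K49.v4726 :=
  (Llr Lrot123 (Lpe (K23.f167909 IH) (Lpr_af (f688414 IH) (Lpe (K25.f237822 IH) (Lpr_af (K49.f638693 IH) (Lpn K49.v4726)))))).symm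
theorem f629306 : Led Lsl_df (LP (LK LD1_c2 LD2_c44 LD3_c23)) = v4074 :=
  Lgr Lrot38 (Lpr_dt (f629305 IH) (Lpn v4074))
theorem f342425 : Led Lsl_dt (LP (LK LD1_c4 LD2_c5 LD3_c32)) = (LP (LK LD1_c2 LD2_c44 LD3_c22)) :=
  Lgr Lrot77 (Lpe (K23.f167909 IH) (Lpe (K23.f226072 IH) (Lpr_ef (K23.f342419 IH) (Lpr_df (K23.f237817 IH) (Lpe (K25.f237822 IH) (Lpn (LP (LK LD1_c2 LD2_c44 LD3_c22))))))))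
theorem f688428 : v4074 = K49.v4728 :=
  (Llr Lrot78 (Lpe (f629306 IH) (Lpr_ft (K49.f638694 IH) (Lpq (f688420 IH) (Lpr_dt (f342425 IH) (Lpr_ft (K49.f638700 IH) (Lpn K49.v4728))))))).symm
theorem f688429 : K49.v12269 = (LP (LK LD1_c2 LD2_c25 LD3_c45)) :=
  Lefun (Lecon (f688403 IH) (f688428 IH).symm) (Lfl_ef (f629307 IH))
theorem f688435 : (LP (LK LD1_c3 LD2_c58 LD3_c39)) = v4537 :=
  Lefun (Lecon (Lfl_ff (f688407 IH)) (f688429 IH)) (f636015 IH)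
theorem f688445 : v4667 = (LP (LK LD1_c4 LD2_c29 LD3_c40)) :=
  Lefun (Lecon (f638417 IH) (f688435 IH).symm) (f306812 IH)
theorem f281419 : Led Lsl_bt (LP (LK LD1_c5 LD2_c31 LD3_c55)) = (LP (LK LD1_c2 LD2_c42 LD3_c6)) :=
  Lre_b IH (LK LD1_c5 LD2_c31 LD3_c55) (LK LD1_c2 LD2_c42 LD3_c6) Lrfl Lrfl
theorem f306821 : Led Lsl_bt (LP (LK LD1_c4 LD2_c29 LD3_c40)) = (LP (LK LD1_c8 LD2_c57 LD3_c32)) :=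
  Lre_b IH (LK LD1_c4 LD2_c29 LD3_c40) (LK LD1_c8 LD2_c57 LD3_c32) Lrfl Lrfl
theorem f688450 : Led Lsl_ff (LP (LK LD1_c5 LD2_c31 LD3_c55)) = (LP (LK LD1_c8 LD2_c57 LD3_c32)) :=
  Lgr Lrot25 (Lpr_bt (f281419 IH) (Lpr_ft (f638412 IH) (Lpqs (f688445 IH) (Lpr_bt (f306821 IH) (Lpn (LP (LK LD1_c8 LD2_c57 LD3_c32)))))))
theorem f688455 : Led Lsl_ft (LP (LK LD1_c5 LD2_c31 LD3_c55)) = (LP (LK LD1_c8 LD2_c57 LD3_c32)) :=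
  Lgr Lrot48 (Lpr_ff (f688450 IH) (Lpn (LP (LK LD1_c8 LD2_c57 LD3_c32))))
theorem f281420 : Led Lsl_ct (LP (LK LD1_c10 LD2_c55 LD3_c31)) = (LP (LK LD1_c5 LD2_c31 LD3_c55)) :=
  Lre_c IH (LK LD1_c10 LD2_c55 LD3_c31) (LK LD1_c5 LD2_c31 LD3_c55) Lrfl Lrfl
theorem f306830 : Led Lsl_ct (LP (LK LD1_c8 LD2_c57 LD3_c32)) = (LP (LK LD1_c16 LD2_c46 LD3_c21)) :=
  Lre_c IH (LK LD1_c8 LD2_c57 LD3_c32) (LK LD1_c16 LD2_c46 LD3_c21) Lrfl Lrfl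
theorem f688457 : Led Lsl_ff (LP (LK LD1_c10 LD2_c55 LD3_c31)) = (LP (LK LD1_c16 LD2_c46 LD3_c21)) :=
  Lgr Lrot23 (Lpr_ct (f281420 IH) (Lpr_ft (f688455 IH) (Lpr_ct (f306830 IH) (Lpn (LP (LK LD1_c16 LD2_c46 LD3_c21))))))
theorem f281423 : Led Lsl_bt (LP (LK LD1_c2 LD2_c42 LD3_c6)) = (LP (LK LD1_c5 LD2_c31 LD3_c55)) :=
  Lre_b IH (LK LD1_c2 LD2_c42 LD3_c6) (LK LD1_c5 LD2_c31 LD3_c55) Lrfl Lrfl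
theorem f281421 : Led Lsl_ct (LP (LK LD1_c5 LD2_c31 LD3_c55)) = (LP (LK LD1_c10 LD2_c55 LD3_c31)) :=
  Lre_c IH (LK LD1_c5 LD2_c31 LD3_c55) (LK LD1_c10 LD2_c55 LD3_c31) Lrfl Lrfl
theorem f281426 : Led Lsl_bt (LP (LK LD1_c10 LD2_c55 LD3_c31)) = (LP (LK LD1_c9 LD2_c43 LD3_c35)) :=
  Lgr Lrot128 (Lpe (f281421 IH) (Lpe (f281423 IH) (Lpr_cf (K21.f281417 IH) (Lpe (K49.f281424 IH) (Lpe (K49.f281425 IH) (Lpn (LP (LK LD1_c9 LD2_c43 LD3_c35))))))))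
theorem f171250 : Led Lsl_ct (LP (LK LD1_c2 LD2_c29 LD3_c9)) = (LP (LK LD1_c5 LD2_c3 LD3_c16)) :=
  Lre_c IH (LK LD1_c2 LD2_c29 LD3_c9) (LK LD1_c5 LD2_c3 LD3_c16) Lrfl Lrfl
theorem f306814 : Led Lsl_cf (LP (LK LD1_c3 LD2_c58 LD3_c39)) = (LP (LK LD1_c4 LD2_c29 LD3_c40)) :=
  Lgr Lrot166 (Lpr_gt (K14.f171279 IH) (Lpr_dt (K14.f171271 IH) (Lpr_gt (K14.f250340 IH) (Lpr_dt (K21.f169642 IH) (Lpr_ct (f171250 IH) (Lpr_df (K19.f306808 IH) (Lpe (K19.f173541 IH) (Lpe (K19.f173174 IH) (Lpe (f226713 IH) (Lpn (LP (LK LD1_c4 LD2_c29 LD3_c40))))))))))))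
theorem f306817 : Led Lsl_bt (LP (LK LD1_c8 LD2_c57 LD3_c32)) = (LP (LK LD1_c4 LD2_c29 LD3_c40)) :=
  Lre_b IH (LK LD1_c8 LD2_c57 LD3_c32) (LK LD1_c4 LD2_c29 LD3_c40) Lrfl Lrfl
theorem f306818 : Led Lsl_ct (LP (LK LD1_c16 LD2_c46 LD3_c21)) = (LP (LK LD1_c8 LD2_c57 LD3_c32)) :=
  Lre_c IH (LK LD1_c16 LD2_c46 LD3_c21) (LK LD1_c8 LD2_c57 LD3_c32) Lrfl Lrfl
theorem f312481 : Led Lsl_bf (LP (LK LD1_c16 LD2_c46 LD3_c21)) = (LP (LK LD1_c15 LD2_c2 LD3_c16)) :=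
  Lgr Lrot90 (Lpr_ct (f306818 IH) (Lpr_bt (f306817 IH) (Lpe (f306814 IH) (Lpr_bt (K19.f312477 IH) (Lpr_ct (K23.f300197 IH) (Lpn (LP (LK LD1_c15 LD2_c2 LD3_c16))))))))
theorem f688460 : Led Lsl_ft (LP (LK LD1_c9 LD2_c43 LD3_c35)) = (LP (LK LD1_c15 LD2_c2 LD3_c16)) :=
  Lgr Lrot75 (Lpe (f281426 IH) (Lpr_ff (f688457 IH) (Lpr_bf (f312481 IH) (Lpn (LP (LK LD1_c15 LD2_c2 LD3_c16))))))
theorem f373213 : Led Lsl_gt (LP (LK LD1_c4 LD2_c55 LD3_c57)) = (LP (LK LD1_c7 LD2_c58 LD3_c17)) :=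
  Lgr Lrot46 (Lpr_gf (K21.f330519 IH) (Lpr_ft (K44.f233864 IH) (Lpr_at (K44.f373210 IH) (Lpn (LP (LK LD1_c7 LD2_c58 LD3_c17))))))
theorem f281448 : Led Lsl_dt (LP (LK LD1_c9 LD2_c43 LD3_c36)) = (LP (LK LD1_c4 LD2_c55 LD3_c57)) :=
  Lre_d IH (LK LD1_c9 LD2_c43 LD3_c36) (LK LD1_c4 LD2_c55 LD3_c57) Lrfl Lrfl
theorem f355143 : Led Lsl_bt (LP (LK LD1_c15 LD2_c3 LD3_c25)) = (LP (LK LD1_c7 LD2_c58 LD3_c50)) :=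
  Lre_b IH (LK LD1_c15 LD2_c3 LD3_c25) (LK LD1_c7 LD2_c58 LD3_c50) Lrfl Lrfl
theorem f330536 : Led Lsl_bt (LP (LK LD1_c4 LD2_c55 LD3_c58)) = (LP (LK LD1_c9 LD2_c43 LD3_c36)) :=
  Lre_b IH (LK LD1_c4 LD2_c55 LD3_c58) (LK LD1_c9 LD2_c43 LD3_c36) Lrfl Lrfl
theorem f355144 : Led Lsl_ef (LP (LK LD1_c15 LD2_c3 LD3_c25)) = (LP (LK LD1_c9 LD2_c43 LD3_c36)) :=
  Lgr Lrot29 (Lpr_bt (f355143 IH) (Lpr_et (K46.f355141 IH) (Lpr_bt (f330536 IH) (Lpn (LP (LK LD1_c9 LD2_c43 LD3_c36))))))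
theorem f281373 : Led Lsl_bt (LP (LK LD1_c3 LD2_c58 LD3_c38)) = (LP (LK LD1_c7 LD2_c58 LD3_c49)) :=
  Lre_b IH (LK LD1_c3 LD2_c58 LD3_c38) (LK LD1_c7 LD2_c58 LD3_c49) Lrfl Lrfl
theorem f350554 : Led Lsl_bt (LP (LK LD1_c5 LD2_c37 LD3_c1)) = (LP (LK LD1_c2 LD2_c44 LD3_c23)) :=
  Lre_b IH (LK LD1_c5 LD2_c37 LD3_c1) (LK LD1_c2 LD2_c44 LD3_c23) Lrfl Lrfl
theorem f370987 : Led Lsl_et (LP (LK LD1_c7 LD2_c58 LD3_c49)) = (LP (LK LD1_c5 LD2_c37 LD3_c1)) :=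
  Lgr Lrot74 (Lpe (f281373 IH) (Lpr_ef (K49.f370985 IH) (Lpe (f350554 IH) (Lpn (LP (LK LD1_c5 LD2_c37 LD3_c1))))))
theorem f355154 : Led Lsl_dt (LP (LK LD1_c7 LD2_c58 LD3_c49)) = (LP (LK LD1_c15 LD2_c3 LD3_c25)) :=
  Lre_d IH (LK LD1_c7 LD2_c58 LD3_c49) (LK LD1_c15 LD2_c3 LD3_c25) Lrfl Lrfl
theorem f355148 : Led Lsl_bt (LP (LK LD1_c7 LD2_c58 LD3_c50)) = (LP (LK LD1_c15 LD2_c3 LD3_c25)) :=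
  Lre_b IH (LK LD1_c7 LD2_c58 LD3_c50) (LK LD1_c15 LD2_c3 LD3_c25) Lrfl Lrfl
theorem f355149 : Led Lsl_et (LP (LK LD1_c15 LD2_c3 LD3_c25)) = (LP (LK LD1_c9 LD2_c43 LD3_c36)) :=
  Lgr Lrot74 (Lpe (f355148 IH) (Lpr_ef (K46.f355146 IH) (Lpe (K49.f355140 IH) (Lpn (LP (LK LD1_c9 LD2_c43 LD3_c36))))))
theorem f355155 : Led Lsl_dt (LP (LK LD1_c15 LD2_c3 LD3_c25)) = (LP (LK LD1_c7 LD2_c58 LD3_c49)) :=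
  Lre_d IH (LK LD1_c15 LD2_c3 LD3_c25) (LK LD1_c7 LD2_c58 LD3_c49) Lrfl Lrfl
theorem f330534 : Led Lsl_gt (LP (LK LD1_c9 LD2_c43 LD3_c36)) = (LP (LK LD1_c10 LD2_c12 LD3_c33)) :=
  Lgr Lrot139 (Lpe (K49.f330522 IH) (Lpr_gf (K21.f330519 IH) (Lpe (K14.f189489 IH) (Lpe (K14.f189486 IH) (Lpr_gf (K14.f253585 IH) (Lpr_df (K14.f254012 IH) (Lpr_et (K15.f221685 IH) (Lpe (K21.f221750 IH) (Lpr_ef (K21.f307242 IH) (Lpr_dt (K21.f305764 IH) (Lpn (LP (LK LD1_c10 LD2_c12 LD3_c33)))))))))))))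
theorem f355156 : Led Lsl_gf (LP (LK LD1_c7 LD2_c58 LD3_c49)) = (LP (LK LD1_c4 LD2_c54 LD3_c35)) :=
  Lgr Lrot134 (Lpe (f355155 IH) (Lpr_et (f355149 IH) (Lpr_gt (f330534 IH) (Lpe (K21.f305766 IH) (Lpe (K21.f307240 IH) (Lpr_gt (K21.f307149 IH) (Lpe (K21.f307140 IH) (Lpr_et (K19.f300095 IH) (Lpr_gt (K18.f257603 IH) (Lpe (K15.f259607 IH) (Lpn (LP (LK LD1_c4 LD2_c54 LD3_c35)))))))))))))
theorem f252093 : Led Lsl_dt (LP (LK LD1_c2 LD2_c25 LD3_c20)) = (LP (LK LD1_c2 LD2_c3 LD3_c47)) :=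
  Lgr Lrot42 (Lpr_df (K14.f252089 IH) (Lpn (LP (LK LD1_c2 LD2_c3 LD3_c47))))
theorem f355161 : Led Lsl_gt (LP (LK LD1_c15 LD2_c3 LD3_c25)) = (LP (LK LD1_c9 LD2_c58 LD3_c34)) :=
  Lgr Lrot139 (Lpe (f355154 IH) (Lpr_gf (f355156 IH) (Lpe (K15.f201134 IH) (Lpe (K16.f265046 IH) (Lpe (K20.f252103 IH) (Lpe (f252093 IH) (Lpr_et (K19.f221747 IH) (Lpe (K26.f221702 IH) (Lpe (K26.f305894 IH) (Lpr_dt (K26.f284042 IH) (Lpn (LP (LK LD1_c9 LD2_c58 LD3_c34)))))))))))))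
theorem f370989 : Led Lsl_gt (LP (LK LD1_c8 LD2_c11 LD3_c38)) = (LP (LK LD1_c5 LD2_c37 LD3_c1)) :=
  Lgr Lrot131 (Lpe (K20.f317441 IH) (Lpe (K21.f328217 IH) (Lpe (K20.f322272 IH) (Lpe (K19.f252097 IH) (Lpe (K26.f221702 IH) (Lpe (K26.f305894 IH) (Lpr_dt (K26.f284042 IH) (Lpe (f355161 IH) (Lpe (f355154 IH) (Lpr_et (f370987 IH) (Lpn (LP (LK LD1_c5 LD2_c37 LD3_c1)))))))))))))
theorem f351763 : Led Lsl_at (LP (LK LD1_c4 LD2_c5 LD3_c22)) = (LP (LK LD1_c7 LD2_c58 LD3_c0)) :=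
  Lgr Lrot100 (Lpr_af (K25.f351605 IH) (Lpn (LP (LK LD1_c7 LD2_c58 LD3_c0))))
theorem f370991 : Led Lsl_gf (LP (LK LD1_c7 LD2_c58 LD3_c0)) = (LP (LK LD1_c5 LD2_c37 LD3_c1)) :=
  Lgr Lrot76 (Lpe (f351763 IH) (Lpe (K20.f247701 IH) (Lpr_gt (f370989 IH) (Lpn (LP (LK LD1_c5 LD2_c37 LD3_c1))))))
theorem f367349 : Led Lsl_ef (LP (LK LD1_c9 LD2_c40 LD3_c46)) = (LP (LK LD1_c4 LD2_c55 LD3_c33)) :=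
  Lgr Lrot17 (Lpe (K26.f363947 IH) (Lpe (K25.f351835 IH) (Lpr_dt (K25.f351822 IH) (Lpr_gf (K25.f325035 IH) (Lpe (K13.f213955 IH) (Lpr_gf (K25.f351922 IH) (Lpe (K27.f178225 IH) (Lpe (K25.f351894 IH) (Lpr_gf (K27.f367343 IH) (Lpe (K27.f217521 IH) (Lpn (LP (LK LD1_c4 LD2_c55 LD3_c33)))))))))))))
theorem f306478 : Led Lsl_ct (LP (LK LD1_c2 LD2_c38 LD3_c35)) = (LP (LK LD1_c5 LD2_c24 LD3_c2)) :=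
  Lre_c IH (LK LD1_c2 LD2_c38 LD3_c35) (LK LD1_c5 LD2_c24 LD3_c2) Lrfl Lrfl
theorem f306502 : Led Lsl_at (LP (LK LD1_c5 LD2_c23 LD3_c61)) = (LP (LK LD1_c2 LD2_c38 LD3_c35)) :=
  Lre_a IH (LK LD1_c5 LD2_c23 LD3_c61) (LK LD1_c2 LD2_c38 LD3_c35) Lrfl Lrfl
theorem f331560 : Led Lsl_ct (LP (LK LD1_c4 LD2_c55 LD3_c36)) = (LP (LK LD1_c5 LD2_c23 LD3_c61)) :=
  Lgr Lrot111 (Lpr_af (K22.f331551 IH) (Lpe (f306478 IH) (Lpe (f306502 IH) (Lpn (LP (LK LD1_c5 LD2_c23 LD3_c61))))))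
theorem f363945 : Led Lsl_gf (LP (LK LD1_c4 LD2_c55 LD3_c22)) = (LP (LK LD1_c9 LD2_c40 LD3_c46)) :=
  Lgr Lrot147 (Lpr_ct (K23.f284009 IH) (Lpr_gt (K23.f330757 IH) (Lpr_ct (f331560 IH) (Lpr_df (K22.f331502 IH) (Lpe (K23.f257420 IH) (Lpr_gf (K23.f288361 IH) (Lpe (K23.f257728 IH) (Lpr_gf (K26.f363941 IH) (Lpe (K26.f259611 IH) (Lpn (LP (LK LD1_c9 LD2_c40 LD3_c46))))))))))))
theorem f330696 : Led Lsl_dt (LP (LK LD1_c4 LD2_c55 LD3_c22)) = (LP (LK LD1_c9 LD2_c42 LD3_c21)) :=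
  Lre_d IH (LK LD1_c4 LD2_c55 LD3_c22) (LK LD1_c9 LD2_c42 LD3_c21) Lrfl Lrfl
theorem f55271 : Led Lsl_gt (LP (LK LD1_c9 LD2_c43 LD3_c24)) = (LP (LK LD1_c17 LD2_c52 LD3_c38)) :=
  Lre_g IH (LK LD1_c9 LD2_c43 LD3_c24) (LK LD1_c17 LD2_c52 LD3_c38) Lrfl Lrfl
theorem f360493 : Led Lsl_ff (LP (LK LD1_c11 LD2_c57 LD3_c10)) = (LP (LK LD1_c8 LD2_c11 LD3_c14)) :=
  Lgr Lrot52 (Lpr_at (K27.f169062 IH) (Lpe (K26.f169038 IH) (Lpr_gf (K26.f360489 IH) (Lpn (LP (LK LD1_c8 LD2_c11 LD3_c14))))))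
theorem f368474 : Led Lsl_dt (LP (LK LD1_c11 LD2_c57 LD3_c10)) = (LP (LK LD1_c8 LD2_c13 LD3_c25)) :=
  Lgr Lrot60 (Lpr_ff (f360493 IH) (Lpr_df (K25.f291805 IH) (Lpr_ff (K27.f368468 IH) (Lpn (LP (LK LD1_c8 LD2_c13 LD3_c25))))))
theorem f368491 : Led Lsl_ef (LP (LK LD1_c17 LD2_c52 LD3_c38)) = (LP (LK LD1_c11 LD2_c57 LD3_c10)) :=
  Lgr Lrot17 (Lpe (f55271 IH) (Lpe (K19.f247656 IH) (Lpe (K26.f257632 IH) (Lpe (K26.f330692 IH) (Lpe (f330696 IH) (Lpr_gf (f363945 IH) (Lpr_ef (f367349 IH) (Lpr_dt (K27.f217521 IH) (Lpr_gf (K27.f368480 IH) (Lpe (f368474 IH) (Lpn (LP (LK LD1_c11 LD2_c57 LD3_c10)))))))))))))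
theorem f358680 : Led Lsl_et (LP (LK LD1_c16 LD2_c49 LD3_c34)) = (LP (LK LD1_c9 LD2_c0 LD3_c4)) :=
  Lre_e IH (LK LD1_c16 LD2_c49 LD3_c34) (LK LD1_c9 LD2_c0 LD3_c4) Lrfl Lrfl
theorem f368501 : Led Lsl_ft (LP (LK LD1_c17 LD2_c52 LD3_c38)) = (LP (LK LD1_c16 LD2_c49 LD3_c34)) :=
  Lgr Lrot86 (Lpr_ef (f368491 IH) (Lpr_ff (f360493 IH) (Lpr_ef (K26.f291815 IH) (Lpr_ff (K26.f358676 IH) (Lpe (f358680 IH) (Lpn (LP (LK LD1_c16 LD2_c49 LD3_c34))))))))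
theorem f368509 : Led Lsl_ff (LP (LK LD1_c17 LD2_c52 LD3_c38)) = (LP (LK LD1_c16 LD2_c49 LD3_c34)) :=
  Lgr Lrot3 (Lpr_ft (f368501 IH) (Lpn (LP (LK LD1_c16 LD2_c49 LD3_c34))))
theorem f368493 : Led Lsl_at (LP (LK LD1_c17 LD2_c52 LD3_c38)) = (LP (LK LD1_c11 LD2_c57 LD3_c12)) :=
  Lgr Lrot80 (Lpr_ef (f368491 IH) (Lpe (K27.f169039 IH) (Lpe (K26.f169037 IH) (Lpn (LP (LK LD1_c11 LD2_c57 LD3_c12))))))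
theorem f368511 : Led Lsl_gf (LP (LK LD1_c15 LD2_c25 LD3_c61)) = (LP (LK LD1_c16 LD2_c49 LD3_c34)) :=
  Lgr Lrot47 (Lpr_gt (K27.f358612 IH) (Lpe (f368493 IH) (Lpr_ff (f368509 IH) (Lpn (LP (LK LD1_c16 LD2_c49 LD3_c34))))))
theorem f370993 : Led Lsl_gt (LP (LK LD1_c9 LD2_c57 LD3_c42)) = (LP (LK LD1_c15 LD2_c3 LD3_c25)) :=
  Lgr Lrot112 (Lpe (K27.f284052 IH) (Lpr_et (K17.f284054 IH) (Lpr_gf (f368511 IH) (Lpe (K26.f358675 IH) (Lpe (K27.f358743 IH) (Lpe (K25.f47982 IH) (Lpe (K25.f47969 IH) (Lpr_gf (f370991 IH) (Lpe (f370987 IH) (Lpr_dt (f355154 IH) (Lpn (LP (LK LD1_c15 LD2_c3 LD3_c25)))))))))))))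
theorem f359770 : Led Lsl_dt (LP (LK LD1_c11 LD2_c57 LD3_c28)) = (LP (LK LD1_c10 LD2_c9 LD3_c53)) :=
  Lgr Lrot42 (Lpr_df (K26.f359766 IH) (Lpn (LP (LK LD1_c10 LD2_c9 LD3_c53))))
theorem f360392 : Led Lsl_df (LP (LK LD1_c7 LD2_c58 LD3_c17)) = (LP (LK LD1_c5 LD2_c10 LD3_c12)) :=
  Lgr Lrot70 (Lpe (K53.f360384 IH) (Lpr_dt (K26.f223964 IH) (Lpr_et (K26.f360386 IH) (Lpr_dt (f359770 IH) (Lpr_et (K26.f359750 IH) (Lpn (LP (LK LD1_c5 LD2_c10 LD3_c12))))))))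
theorem f359619 : Led Lsl_gt (LP (LK LD1_c10 LD2_c9 LD3_c53)) = (LP (LK LD1_c9 LD2_c56 LD3_c35)) :=
  Lgr Lrot5 (Lpr_ft (K26.f256466 IH) (Lpr_at (K26.f359609 IH) (Lpe (K25.f278234 IH) (Lpn (LP (LK LD1_c9 LD2_c56 LD3_c35))))))
theorem f373220 : Led Lsl_gf (LP (LK LD1_c9 LD2_c57 LD3_c41)) = (LP (LK LD1_c18 LD2_c11 LD3_c46)) :=
  Lgr Lrot134 (Lpe (K25.f250404 IH) (Lpr_et (K17.f250410 IH) (Lpr_gt (f370993 IH) (Lpr_ef (f355144 IH) (Lpr_dt (f281448 IH) (Lpr_gt (f373213 IH) (Lpr_df (f360392 IH) (Lpe (K26.f359746 IH) (Lpr_gt (f359619 IH) (Lpr_dt (K26.f278411 IH) (Lpn (LP (LK LD1_c18 LD2_c11 LD3_c46)))))))))))))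
theorem f339952 : Led Lsl_ct (LP (LK LD1_c19 LD2_c42 LD3_c20)) = (LP (LK LD1_c29 LD2_c2 LD3_c23)) :=
  Lre_c IH (LK LD1_c19 LD2_c42 LD3_c20) (LK LD1_c29 LD2_c2 LD3_c23) Lrfl Lrfl
theorem f252608 : Led Lsl_ct (LP (LK LD1_c17 LD2_c49 LD3_c56)) = (LP (LK LD1_c27 LD2_c36 LD3_c60)) :=
  Lre_c IH (LK LD1_c17 LD2_c49 LD3_c56) (LK LD1_c27 LD2_c36 LD3_c60) Lrfl Lrfl
theorem f373222 : Led Lsl_gt (LP (LK LD1_c29 LD2_c2 LD3_c23)) = (LP (LK LD1_c27 LD2_c36 LD3_c60)) :=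
  Lgr Lrot149 (Lpe (f339952 IH) (Lpe (K25.f339949 IH) (Lpe (K25.f257175 IH) (Lpr_ct (K25.f257176 IH) (Lpr_gf (K25.f355568 IH) (Lpr_cf (K22.f324018 IH) (Lpr_bt (K22.f323597 IH) (Lpr_gf (f373220 IH) (Lpr_bf (K25.f356256 IH) (Lpr_ct (f252608 IH) (Lpn (LP (LK LD1_c27 LD2_c36 LD3_c60)))))))))))))
theorem f252601 : Led Lsl_ct (LP (LK LD1_c27 LD2_c36 LD3_c60)) = (LP (LK LD1_c17 LD2_c49 LD3_c56)) :=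
  Lre_c IH (LK LD1_c27 LD2_c36 LD3_c60) (LK LD1_c17 LD2_c49 LD3_c56) Lrfl Lrfl
theorem f248033 : Led Lsl_ct (LP (LK LD1_c18 LD2_c32 LD3_c56)) = (LP (LK LD1_c10 LD2_c10 LD3_c57)) :=
  Lre_c IH (LK LD1_c18 LD2_c32 LD3_c56) (LK LD1_c10 LD2_c10 LD3_c57) Lrfl Lrfl
theorem f373238 : Led Lsl_gt (LP (LK LD1_c18 LD2_c9 LD3_c16)) = (LP (LK LD1_c18 LD2_c32 LD3_c56)) :=
  Lgr Lrot150 (Lpe (K19.f312390 IH) (Lpr_gf (K25.f335865 IH) (Lpe (K25.f339943 IH) (Lpr_gt (K25.f339949 IH) (Lpr_ct (f339952 IH) (Lpr_gt (f373222 IH) (Lpr_ct (f252601 IH) (Lpe (K25.f252602 IH) (Lpe (f248033 IH) (Lpn (LP (LK LD1_c18 LD2_c32 LD3_c56))))))))))))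
theorem f306112 : Led Lsl_dt (LP (LK LD1_c18 LD2_c34 LD3_c31)) = (LP (LK LD1_c10 LD2_c11 LD3_c47)) :=
  Lre_d IH (LK LD1_c18 LD2_c34 LD3_c31) (LK LD1_c10 LD2_c11 LD3_c47) Lrfl Lrfl
theorem f252599 : Led Lsl_dt (LP (LK LD1_c18 LD2_c32 LD3_c56)) = (LP (LK LD1_c28 LD2_c7 LD3_c18)) :=
  Lre_d IH (LK LD1_c18 LD2_c32 LD3_c56) (LK LD1_c28 LD2_c7 LD3_c18) Lrfl Lrfl
theorem f373240 : Led Lsl_gf (LP (LK LD1_c18 LD2_c34 LD3_c31)) = (LP (LK LD1_c28 LD2_c7 LD3_c18)) :=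
  Lgr Lrot143 (Lpr_dt (f306112 IH) (Lpe (K22.f337627 IH) (Lpr_df (K22.f329895 IH) (Lpe (K25.f340127 IH) (Lpr_df (K25.f263515 IH) (Lpe (K22.f335849 IH) (Lpr_cf (K19.f312392 IH) (Lpr_gt (f373238 IH) (Lpr_dt (f252599 IH) (Lpn (LP (LK LD1_c28 LD2_c7 LD3_c18))))))))))))
theorem f249681 : Led Lsl_dt (LP (LK LD1_c10 LD2_c11 LD3_c47)) = (LP (LK LD1_c18 LD2_c34 LD3_c31)) :=
  Lre_d IH (LK LD1_c10 LD2_c11 LD3_c47) (LK LD1_c18 LD2_c34 LD3_c31) Lrfl Lrfl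
theorem f355165 : Led Lsl_dt (LP (LK LD1_c17 LD2_c52 LD3_c53)) = (LP (LK LD1_c27 LD2_c39 LD3_c0)) :=
  Lre_d IH (LK LD1_c17 LD2_c52 LD3_c53) (LK LD1_c27 LD2_c39 LD3_c0) Lrfl Lrfl
theorem f278236 : Led Lsl_ct (LP (LK LD1_c18 LD2_c11 LD3_c45)) = (LP (LK LD1_c9 LD2_c56 LD3_c35)) :=
  Lre_c IH (LK LD1_c18 LD2_c11 LD3_c45) (LK LD1_c9 LD2_c56 LD3_c35) Lrfl Lrfl
theorem f248029 : Led Lsl_ct (LP (LK LD1_c10 LD2_c10 LD3_c57)) = (LP (LK LD1_c18 LD2_c32 LD3_c56)) :=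
  Lre_c IH (LK LD1_c10 LD2_c10 LD3_c57) (LK LD1_c18 LD2_c32 LD3_c56) Lrfl Lrfl
theorem f359145 : Led Lsl_ef (LP (LK LD1_c18 LD2_c11 LD3_c45)) = (LP (LK LD1_c18 LD2_c32 LD3_c56)) :=
  Lgr Lrot28 (Lpr_ct (f278236 IH) (Lpr_et (K26.f359143 IH) (Lpr_ct (f248029 IH) (Lpn (LP (LK LD1_c18 LD2_c32 LD3_c56))))))
theorem f248285 : Led Lsl_dt (LP (LK LD1_c10 LD2_c11 LD3_c6)) = (LP (LK LD1_c18 LD2_c33 LD3_c19)) :=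
  Lre_d IH (LK LD1_c10 LD2_c11 LD3_c6) (LK LD1_c18 LD2_c33 LD3_c19) Lrfl Lrfl
theorem f373243 : Led Lsl_gt (LP (LK LD1_c27 LD2_c39 LD3_c0)) = (LP (LK LD1_c18 LD2_c33 LD3_c19)) :=
  Lgr Lrot139 (Lpe (f355165 IH) (Lpe (K49.f363058 IH) (Lpe (K25.f306111 IH) (Lpr_dt (f249681 IH) (Lpr_gf (f373240 IH) (Lpe (f252599 IH) (Lpe (f359145 IH) (Lpr_gf (K25.f307471 IH) (Lpe (K26.f304209 IH) (Lpr_dt (f248285 IH) (Lpn (LP (LK LD1_c18 LD2_c33 LD3_c19)))))))))))))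
theorem f304213 : Led Lsl_dt (LP (LK LD1_c18 LD2_c33 LD3_c19)) = (LP (LK LD1_c10 LD2_c11 LD3_c6)) :=
  Lre_d IH (LK LD1_c18 LD2_c33 LD3_c19) (LK LD1_c10 LD2_c11 LD3_c6) Lrfl Lrfl
theorem f373245 : Led Lsl_gt (LP (LK LD1_c8 LD2_c54 LD3_c10)) = (LP (LK LD1_c15 LD2_c9 LD3_c10)) :=
  Lgr Lrot49 (Lpe (K25.f275657 IH) (Lpr_gf (K25.f352071 IH) (Lpr_cf (K25.f337632 IH) (Lpr_gt (K49.f363058 IH) (Lpr_dt (f355165 IH) (Lpr_gt (f373243 IH) (Lpr_dt (f304213 IH) (Lpr_cf (K18.f304202 IH) (Lpe (K21.f304123 IH) (Lpn (LP (LK LD1_c15 LD2_c9 LD3_c10))))))))))))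
theorem f353788 : Led Lsl_bt (LP (LK LD1_c10 LD2_c35 LD3_c41)) = (LP (LK LD1_c6 LD2_c6 LD3_c22)) :=
  Lgr Lrot95 (Lpe (K25.f352090 IH) (Lpr_bf (K25.f353783 IH) (Lpr_df (K25.f348393 IH) (Lpn (LP (LK LD1_c6 LD2_c6 LD3_c22))))))
theorem f261819 : Led Lsl_ff (LP (LK LD1_c5 LD2_c13 LD3_c22)) = (LP (LK LD1_c2 LD2_c41 LD3_c56)) :=
  Lgr Lrot25 (Lpr_bt (K23.f261818 IH) (Lpr_ft (K15.f261816 IH) (Lpr_bt (K15.f212143 IH) (Lpn (LP (LK LD1_c2 LD2_c41 LD3_c56))))))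
theorem f263390 : Led Lsl_ef (LP (LK LD1_c10 LD2_c15 LD3_c7)) = (LP (LK LD1_c5 LD2_c13 LD3_c22)) :=
  Lgr Lrot21 (Lpr_ft (K12.f185659 IH) (Lpr_et (K14.f185681 IH) (Lpr_ft (K15.f263260 IH) (Lpr_et (K21.f212136 IH) (Lpe (f261819 IH) (Lpn (LP (LK LD1_c5 LD2_c13 LD3_c22))))))))
theorem f261853 : Led Lsl_gt (LP (LK LD1_c5 LD2_c31 LD3_c1)) = (LP (LK LD1_c2 LD2_c41 LD3_c57)) :=
  Lre_g IH (LK LD1_c5 LD2_c31 LD3_c1) (LK LD1_c2 LD2_c41 LD3_c57) Lrfl Lrfl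
theorem f261854 : Led Lsl_dt (LP (LK LD1_c10 LD2_c53 LD3_c36)) = (LP (LK LD1_c5 LD2_c31 LD3_c1)) :=
  Lre_d IH (LK LD1_c10 LD2_c53 LD3_c36) (LK LD1_c5 LD2_c31 LD3_c1) Lrfl Lrfl
theorem f340814 : Led Lsl_ef (LP (LK LD1_c15 LD2_c15 LD3_c22)) = (LP (LK LD1_c10 LD2_c53 LD3_c36)) :=
  Lgr Lrot17 (Lpr_gf (K23.f340808 IH) (Lpe (K14.f254493 IH) (Lpe (K23.f254491 IH) (Lpe (K23.f335504 IH) (Lpe (K23.f259344 IH) (Lpe (K22.f335482 IH) (Lpr_ef (f263390 IH) (Lpr_dt (K15.f261846 IH) (Lpe (f261853 IH) (Lpe (f261854 IH) (Lpn (LP (LK LD1_c10 LD2_c53 LD3_c36)))))))))))))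
theorem f261460 : Led Lsl_dt (LP (LK LD1_c5 LD2_c31 LD3_c1)) = (LP (LK LD1_c10 LD2_c53 LD3_c36)) :=
  Lre_d IH (LK LD1_c5 LD2_c31 LD3_c1) (LK LD1_c10 LD2_c53 LD3_c36) Lrfl Lrfl
theorem f348395 : Led Lsl_ef (LP (LK LD1_c5 LD2_c31 LD3_c1)) = (LP (LK LD1_c6 LD2_c6 LD3_c22)) :=
  Lgr Lrot73 (Lpr_dt (f261460 IH) (Lpe (f340814 IH) (Lpr_dt (K23.f261901 IH) (Lpr_et (K23.f340816 IH) (Lpr_dt (K25.f348391 IH) (Lpn (LP (LK LD1_c6 LD2_c6 LD3_c22))))))))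
theorem f353821 : Led Lsl_bf (LP (LK LD1_c8 LD2_c54 LD3_c10)) = (LP (LK LD1_c5 LD2_c31 LD3_c1)) :=
  Lgr Lrot96 (Lpr_et (K25.f352098 IH) (Lpr_bt (f353788 IH) (Lpe (f348395 IH) (Lpn (LP (LK LD1_c5 LD2_c31 LD3_c1))))))
theorem f261622 : Led Lsl_ct (LP (LK LD1_c5 LD2_c31 LD3_c1)) = (LP (LK LD1_c10 LD2_c53 LD3_c35)) :=
  Lre_c IH (LK LD1_c5 LD2_c31 LD3_c1) (LK LD1_c10 LD2_c53 LD3_c35) Lrfl Lrfl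
theorem f373252 : Led Lsl_gf (LP (LK LD1_c10 LD2_c53 LD3_c35)) = (LP (LK LD1_c8 LD2_c26 LD3_c51)) :=
  Lgr Lrot129 (Lpe (f261622 IH) (Lpe (f353821 IH) (Lpr_gt (f373245 IH) (Lpe (K24.f218984 IH) (Lpr_ct (K25.f218990 IH) (Lpr_gt (K26.f269328 IH) (Lpe (K26.f253139 IH) (Lpe (K19.f309563 IH) (Lpr_gt (K19.f201149 IH) (Lpr_ct (K27.f201139 IH) (Lpn (LP (LK LD1_c8 LD2_c26 LD3_c51)))))))))))))
theorem f201137 : Led Lsl_bt (LP (LK LD1_c4 LD2_c14 LD3_c10)) = (LP (LK LD1_c4 LD2_c54 LD3_c35)) :=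
  Lgr Lrot127 (Lpr_bf (K15.f201135 IH) (Lpn (LP (LK LD1_c4 LD2_c54 LD3_c35))))
theorem f335224 : Led Lsl_bf (LP (LK LD1_c15 LD2_c1 LD3_c1)) = (LP (LK LD1_c9 LD2_c40 LD3_c45)) :=
  Lgr Lrot93 (Lpr_dt (K14.f246183 IH) (Lpr_bt (K25.f335217 IH) (Lpe (K15.f259602 IH) (Lpn (LP (LK LD1_c9 LD2_c40 LD3_c45))))))
theorem f335226 : Led Lsl_bt (LP (LK LD1_c15 LD2_c1 LD3_c1)) = (LP (LK LD1_c9 LD2_c40 LD3_c45)) :=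
  Lgr Lrot127 (Lpr_bf (f335224 IH) (Lpn (LP (LK LD1_c9 LD2_c40 LD3_c45))))
theorem f168583 : Led Lsl_bt (LP (LK LD1_c9 LD2_c42 LD3_c5)) = (LP (LK LD1_c4 LD2_c55 LD3_c24)) :=
  Lre_b IH (LK LD1_c9 LD2_c42 LD3_c5) (LK LD1_c4 LD2_c55 LD3_c24) Lrfl Lrfl
theorem f367461 : Led Lsl_dt (LP (LK LD1_c4 LD2_c55 LD3_c24)) = (LP (LK LD1_c5 LD2_c2 LD3_c60)) :=
  Lgr Lrot27 (Lpe (K27.f168580 IH) (Lpr_gf (K27.f367457 IH) (Lpe (K26.f345957 IH) (Lpr_gf (K23.f346036 IH) (Lpr_df (K22.f331502 IH) (Lpe (K22.f291278 IH) (Lpr_ct (K22.f266174 IH) (Lpe (K22.f266171 IH) (Lpr_ct (K27.f257654 IH) (Lpn (LP (LK LD1_c5 LD2_c2 LD3_c60))))))))))))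
theorem f306483 : Led Lsl_gt (LP (LK LD1_c10 LD2_c38 LD3_c50)) = (LP (LK LD1_c5 LD2_c24 LD3_c2)) :=
  Lre_g IH (LK LD1_c10 LD2_c38 LD3_c50) (LK LD1_c5 LD2_c24 LD3_c2) Lrfl Lrfl
theorem f367468 : Led Lsl_cf (LP (LK LD1_c10 LD2_c38 LD3_c50)) = (LP (LK LD1_c9 LD2_c40 LD3_c45)) :=
  Lgr Lrot169 (Lpr_gt (f306483 IH) (Lpr_ct (K26.f306417 IH) (Lpe (K18.f223859 IH) (Lpe (K19.f306415 IH) (Lpr_gf (K19.f306379 IH) (Lpe (K19.f257694 IH) (Lpr_gf (K18.f257773 IH) (Lpe (f367461 IH) (Lpr_gt (K27.f367466 IH) (Lpn (LP (LK LD1_c9 LD2_c40 LD3_c45))))))))))))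
theorem f346044 : Led Lsl_bt (LP (LK LD1_c2 LD2_c38 LD3_c35)) = (LP (LK LD1_c1 LD2_c16 LD3_c15)) :=
  Lre_b IH (LK LD1_c2 LD2_c38 LD3_c35) (LK LD1_c1 LD2_c16 LD3_c15) Lrfl Lrfl
theorem f367470 : Led Lsl_gf (LP (LK LD1_c16 LD2_c36 LD3_c36)) = (LP (LK LD1_c8 LD2_c54 LD3_c29)) :=
  Lgr Lrot126 (Lpe (K27.f168570 IH) (Lpr_bt (f168583 IH) (Lpr_gt (K27.f367466 IH) (Lpe (f367468 IH) (Lpr_gt (f306483 IH) (Lpe (f306478 IH) (Lpr_bt (f346044 IH) (Lpr_gt (K21.f195906 IH) (Lpe (K26.f352141 IH) (Lpr_ct (K26.f345338 IH) (Lpn (LP (LK LD1_c8 LD2_c54 LD3_c29)))))))))))))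
theorem f293960 : Led Lsl_bt (LP (LK LD1_c4 LD2_c28 LD3_c5)) = (LP (LK LD1_c2 LD2_c11 LD3_c15)) :=
  Lre_b IH (LK LD1_c4 LD2_c28 LD3_c5) (LK LD1_c2 LD2_c11 LD3_c15) Lrfl Lrfl
theorem f296153 : Led Lsl_gt (LP (LK LD1_c16 LD2_c39 LD3_c15)) = (LP (LK LD1_c8 LD2_c54 LD3_c9)) :=
  Lre_g IH (LK LD1_c16 LD2_c39 LD3_c15) (LK LD1_c8 LD2_c54 LD3_c9) Lrfl Lrfl
theorem f367472 : Led Lsl_cf (LP (LK LD1_c16 LD2_c39 LD3_c15)) = (LP (LK LD1_c15 LD2_c1 LD3_c1)) :=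
  Lgr Lrot160 (Lpr_gt (f296153 IH) (Lpe (K49.f275653 IH) (Lpr_bt (f293960 IH) (Lpr_gt (K21.f294188 IH) (Lpr_ct (K26.f345338 IH) (Lpe (f367470 IH) (Lpe (K27.f168570 IH) (Lpr_bt (f168583 IH) (Lpr_gt (K27.f367466 IH) (Lpe (f335226 IH) (Lpn (LP (LK LD1_c15 LD2_c1 LD3_c1)))))))))))))
theorem f373254 : Led Lsl_gt (LP (LK LD1_c15 LD2_c2 LD3_c40)) = (LP (LK LD1_c16 LD2_c39 LD3_c15)) :=
  Lgr Lrot149 (Lpr_cf (K17.f218974 IH) (Lpe (f373245 IH) (Lpr_bf (f353821 IH) (Lpr_ct (f261622 IH) (Lpr_gf (f373252 IH) (Lpe (K27.f201139 IH) (Lpr_bt (f201137 IH) (Lpe (K15.f201161 IH) (Lpe (f335226 IH) (Lpe (f367472 IH) (Lpn (LP (LK LD1_c16 LD2_c39 LD3_c15)))))))))))))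
theorem f688468 : Led Lsl_af (LP (LK LD1_c16 LD2_c39 LD3_c15)) = (LP (LK LD1_c15 LD2_c2 LD3_c16)) :=
  Lgr Lrot31 (Lpe (f373254 IH) (Lpe (K21.f330528 IH) (Lpr_ft (f688460 IH) (Lpn (LP (LK LD1_c15 LD2_c2 LD3_c16))))))
theorem f373267 : Led Lsl_et (LP (LK LD1_c16 LD2_c39 LD3_c15)) = (LP (LK LD1_c26 LD2_c37 LD3_c44)) :=
  Lre_e IH (LK LD1_c16 LD2_c39 LD3_c15) (LK LD1_c26 LD2_c37 LD3_c44) Lrfl Lrfl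
theorem f688481 : Led Lsl_at (LP (LK LD1_c26 LD2_c37 LD3_c44)) = (LP (LK LD1_c24 LD2_c50 LD3_c49)) :=
  Lgr Lrot80 (Lpe (f373267 IH) (Lpr_af (f688468 IH) (Lpe (K23.f312464 IH) (Lpn (LP (LK LD1_c24 LD2_c50 LD3_c49))))))
theorem f249679 : Led Lsl_gt (LP (LK LD1_c18 LD2_c34 LD3_c4)) = (LP (LK LD1_c10 LD2_c11 LD3_c47)) :=
  Lre_g IH (LK LD1_c18 LD2_c34 LD3_c4) (LK LD1_c10 LD2_c11 LD3_c47) Lrfl Lrfl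
theorem f337630 : Led Lsl_cf (LP (LK LD1_c16 LD2_c34 LD3_c43)) = (LP (LK LD1_c10 LD2_c11 LD3_c47)) :=
  Lgr Lrot11 (Lpr_ct (K22.f337627 IH) (Lpn (LP (LK LD1_c10 LD2_c11 LD3_c47))))
theorem f359133 : Led Lsl_gf (LP (LK LD1_c25 LD2_c22 LD3_c41)) = (LP (LK LD1_c27 LD2_c36 LD3_c60)) :=
  Lgr Lrot104 (Lpe (K25.f320453 IH) (Lpe (K22.f329897 IH) (Lpr_cf (f337630 IH) (Lpe (f249679 IH) (Lpe (K14.f249050 IH) (Lpe (K19.f249054 IH) (Lpe (K25.f312420 IH) (Lpr_gt (K26.f359127 IH) (Lpr_ct (f252608 IH) (Lpn (LP (LK LD1_c27 LD2_c36 LD3_c60))))))))))))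
theorem f688487 : Led Lsl_ff (LP (LK LD1_c26 LD2_c37 LD3_c44)) = (LP (LK LD1_c27 LD2_c36 LD3_c60)) :=
  Lgr Lrot52 (Lpr_at (f688481 IH) (Lpr_gf (K25.f340131 IH) (Lpr_gf (f359133 IH) (Lpn (LP (LK LD1_c27 LD2_c36 LD3_c60))))))
theorem f688491 : Led Lsl_ft (LP (LK LD1_c26 LD2_c37 LD3_c44)) = (LP (LK LD1_c27 LD2_c36 LD3_c60)) :=
  Lgr Lrot48 (Lpr_ff (f688487 IH) (Lpn (LP (LK LD1_c27 LD2_c36 LD3_c60))))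
theorem f246182 : Led Lsl_ct (LP (LK LD1_c27 LD2_c35 LD3_c21)) = (LP (LK LD1_c17 LD2_c48 LD3_c1)) :=
  Lre_c IH (LK LD1_c27 LD2_c35 LD3_c21) (LK LD1_c17 LD2_c48 LD3_c1) Lrfl Lrfl
theorem f373256 : Led Lsl_cf (LP (LK LD1_c15 LD2_c1 LD3_c1)) = (LP (LK LD1_c16 LD2_c39 LD3_c15)) :=
  Lgr Lrot99 (Lpr_df (K14.f246180 IH) (Lpe (f246182 IH) (Lpr_gf (K26.f362919 IH) (Lpe (K26.f362915 IH) (Lpe (K25.f352065 IH) (Lpe (K25.f275652 IH) (Lpr_gt (f373245 IH) (Lpe (K17.f218974 IH) (Lpr_gt (f373254 IH) (Lpn (LP (LK LD1_c16 LD2_c39 LD3_c15))))))))))))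
theorem f296154 : Led Lsl_et (LP (LK LD1_c26 LD2_c37 LD3_c44)) = (LP (LK LD1_c16 LD2_c39 LD3_c15)) :=
  Lre_e IH (LK LD1_c26 LD2_c37 LD3_c44) (LK LD1_c16 LD2_c39 LD3_c15) Lrfl Lrfl
theorem f373259 : Led Lsl_ct (LP (LK LD1_c18 LD2_c9 LD3_c0)) = (LP (LK LD1_c26 LD2_c37 LD3_c44)) :=
  Lgr Lrot15 (Lpr_ef (K21.f251645 IH) (Lpr_cf (f373256 IH) (Lpe (f296154 IH) (Lpn (LP (LK LD1_c26 LD2_c37 LD3_c44))))))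
theorem f250372 : Led Lsl_ct (LP (LK LD1_c28 LD2_c18 LD3_c45)) = (LP (LK LD1_c18 LD2_c49 LD3_c21)) :=
  Lre_c IH (LK LD1_c28 LD2_c18 LD3_c45) (LK LD1_c18 LD2_c49 LD3_c21) Lrfl Lrfl
theorem f373263 : Led Lsl_gf (LP (LK LD1_c28 LD2_c18 LD3_c45)) = (LP (LK LD1_c26 LD2_c37 LD3_c44)) :=
  Lgr Lrot104 (Lpr_ct (f250372 IH) (Lpe (K22.f250376 IH) (Lpe (K22.f250369 IH) (Lpe (K23.f249022 IH) (Lpe (K23.f249029 IH) (Lpe (K14.f250374 IH) (Lpr_df (K14.f254179 IH) (Lpr_gt (K25.f307286 IH) (Lpr_ct (f373259 IH) (Lpn (LP (LK LD1_c26 LD2_c37 LD3_c44))))))))))))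
theorem f688495 : Led Lsl_af (LP (LK LD1_c19 LD2_c59 LD3_c35)) = (LP (LK LD1_c27 LD2_c36 LD3_c60)) :=
  Lgr Lrot31 (Lpe (K25.f345750 IH) (Lpr_gf (f373263 IH) (Lpr_ft (f688491 IH) (Lpn (LP (LK LD1_c27 LD2_c36 LD3_c60))))))
theorem f688483 : Led Lsl_af (LP (LK LD1_c26 LD2_c37 LD3_c44)) = (LP (LK LD1_c24 LD2_c50 LD3_c49)) :=
  Lgr Lrot0 (Lpr_at (f688481 IH) (Lpn (LP (LK LD1_c24 LD2_c50 LD3_c49))))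
theorem f688503 : Led Lsl_ft (LP (LK LD1_c19 LD2_c59 LD3_c35)) = (LP (LK LD1_c24 LD2_c50 LD3_c49)) :=
  Lgr Lrot101 (Lpr_af (f688495 IH) (Lpe (f688491 IH) (Lpr_af (f688483 IH) (Lpn (LP (LK LD1_c24 LD2_c50 LD3_c49))))))
theorem f688505 : Led Lsl_ff (LP (LK LD1_c11 LD2_c6 LD3_c7)) = (LP (LK LD1_c15 LD2_c2 LD3_c17)) :=
  Lgr Lrot23 (Lpr_ct (K23.f340139 IH) (Lpr_ft (f688503 IH) (Lpr_ct (K23.f312409 IH) (Lpn (LP (LK LD1_c15 LD2_c2 LD3_c17))))))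
theorem f688515 : Led Lsl_ft (LP (LK LD1_c9 LD2_c54 LD3_c55)) = (LP (LK LD1_c10 LD2_c10 LD3_c29)) :=
  Lgr Lrot54 (Lpr_df (K23.f342399 IH) (Lpr_ff (f688505 IH) (Lpe (K19.f312410 IH) (Lpn (LP (LK LD1_c10 LD2_c10 LD3_c29))))))
theorem f688523 : Led Lsl_af (LP (LK LD1_c9 LD2_c54 LD3_c54)) = (LP (LK LD1_c10 LD2_c10 LD3_c29)) :=
  Lgr Lrot31 (Lpe (K14.f250125 IH) (Lpe (K23.f250127 IH) (Lpr_ft (f688515 IH) (Lpn (LP (LK LD1_c10 LD2_c10 LD3_c29))))))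
theorem f688529 : Led Lsl_at (LP (LK LD1_c17 LD2_c48 LD3_c0)) = (LP (LK LD1_c10 LD2_c14 LD3_c38)) :=
  Lgr Lrot80 (Lpe (K21.f251639 IH) (Lpr_af (f688523 IH) (Lpe (K19.f312489 IH) (Lpn (LP (LK LD1_c10 LD2_c14 LD3_c38))))))
theorem f688537 : Led Lsl_ff (LP (LK LD1_c17 LD2_c48 LD3_c0)) = (LP (LK LD1_c17 LD2_c46 LD3_c50)) :=
  Lgr Lrot52 (Lpr_at (f688529 IH) (Lpr_gf (K46.f312501 IH) (Lpe (K21.f307307 IH) (Lpn (LP (LK LD1_c17 LD2_c46 LD3_c50))))))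
theorem f688543 : Led Lsl_ft (LP (LK LD1_c17 LD2_c48 LD3_c0)) = (LP (LK LD1_c17 LD2_c46 LD3_c50)) :=
  Lgr Lrot48 (Lpr_ff (f688537 IH) (Lpn (LP (LK LD1_c17 LD2_c46 LD3_c50))))
theorem f688549 : Led Lsl_af (LP (LK LD1_c10 LD2_c0 LD3_c38)) = (LP (LK LD1_c17 LD2_c46 LD3_c50)) :=
  Lgr Lrot31 (Lpe (K23.f330647 IH) (Lpr_gf (K23.f307277 IH) (Lpr_ft (f688543 IH) (Lpn (LP (LK LD1_c17 LD2_c46 LD3_c50))))))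
theorem f688531 : Led Lsl_af (LP (LK LD1_c17 LD2_c48 LD3_c0)) = (LP (LK LD1_c10 LD2_c14 LD3_c38)) :=
  Lgr Lrot0 (Lpr_at (f688529 IH) (Lpn (LP (LK LD1_c10 LD2_c14 LD3_c38))))
theorem f688561 : Led Lsl_ft (LP (LK LD1_c10 LD2_c0 LD3_c38)) = (LP (LK LD1_c10 LD2_c14 LD3_c38)) :=
  Lgr Lrot101 (Lpr_af (f688549 IH) (Lpe (f688543 IH) (Lpr_af (f688531 IH) (Lpn (LP (LK LD1_c10 LD2_c14 LD3_c38))))))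
theorem f688571 : Led Lsl_ff (LP (LK LD1_c10 LD2_c0 LD3_c38)) = (LP (LK LD1_c10 LD2_c14 LD3_c38)) :=
  Lgr Lrot3 (Lpr_ft (f688561 IH) (Lpn (LP (LK LD1_c10 LD2_c14 LD3_c38))))
theorem f312494 : Led Lsl_ef (LP (LK LD1_c10 LD2_c14 LD3_c38)) = (LP (LK LD1_c10 LD2_c10 LD3_c29)) :=
  Lgr Lrot88 (Lpr_et (K19.f312489 IH) (Lpn (LP (LK LD1_c10 LD2_c10 LD3_c29))))
theorem f688579 : Led Lsl_ft (LP (LK LD1_c9 LD2_c55 LD3_c37)) = (LP (LK LD1_c10 LD2_c9 LD3_c52)) :=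
  Lgr Lrot86 (Lpr_ef (K23.f185856 IH) (Lpr_ff (f688571 IH) (Lpr_ef (f312494 IH) (Lpe (f688515 IH) (Lpr_ef (K23.f333535 IH) (Lpn (LP (LK LD1_c10 LD2_c9 LD3_c52))))))))
theorem f688587 : Led Lsl_af (LP (LK LD1_c9 LD2_c56 LD3_c35)) = (LP (LK LD1_c10 LD2_c9 LD3_c52)) :=
  Lgr Lrot31 (Lpe (f359619 IH) (Lpr_gf (K26.f359628 IH) (Lpr_ft (f688579 IH) (Lpn (LP (LK LD1_c10 LD2_c9 LD3_c52))))))
theorem f688595 : Led Lsl_at (LP (LK LD1_c10 LD2_c10 LD3_c57)) = (LP (LK LD1_c9 LD2_c54 LD3_c55)) :=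
  Lgr Lrot80 (Lpe (K26.f359143 IH) (Lpr_af (f688587 IH) (Lpe (K23.f333539 IH) (Lpn (LP (LK LD1_c9 LD2_c54 LD3_c55))))))
theorem f688603 : Led Lsl_ff (LP (LK LD1_c10 LD2_c10 LD3_c57)) = (LP (LK LD1_c9 LD2_c54 LD3_c54)) :=
  Lgr Lrot30 (Lpr_at (f688595 IH) (Lpr_ft (f688515 IH) (Lpe (f688523 IH) (Lpn (LP (LK LD1_c9 LD2_c54 LD3_c54))))))
theorem f688609 : Led Lsl_ft (LP (LK LD1_c10 LD2_c10 LD3_c57)) = (LP (LK LD1_c9 LD2_c54 LD3_c54)) :=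
  Lgr Lrot48 (Lpr_ff (f688603 IH) (Lpn (LP (LK LD1_c9 LD2_c54 LD3_c54))))
theorem f688613 : Led Lsl_ff (LP (LK LD1_c18 LD2_c32 LD3_c56)) = (LP (LK LD1_c18 LD2_c8 LD3_c61)) :=
  Lgr Lrot23 (Lpr_ct (f248033 IH) (Lpr_ft (f688609 IH) (Lpr_ct (K25.f250128 IH) (Lpn (LP (LK LD1_c18 LD2_c8 LD3_c61))))))
theorem f337605 : Led Lsl_et (LP (LK LD1_c10 LD2_c46 LD3_c34)) = (LP (LK LD1_c11 LD2_c52 LD3_c43)) :=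
  Lgr Lrot74 (Lpr_bf (K22.f337596 IH) (Lpr_ef (K22.f335374 IH) (Lpe (K25.f42215 IH) (Lpn (LP (LK LD1_c11 LD2_c52 LD3_c43))))))
theorem f337603 : Led Lsl_dt (LP (LK LD1_c10 LD2_c46 LD3_c34)) = (LP (LK LD1_c18 LD2_c38 LD3_c39)) :=
  Lgr Lrot79 (Lpr_bf (K22.f337596 IH) (Lpe (K23.f274425 IH) (Lpe (K25.f240505 IH) (Lpn (LP (LK LD1_c18 LD2_c38 LD3_c39))))))
theorem f358424 : Led Lsl_gt (LP (LK LD1_c18 LD2_c58 LD3_c7)) = (LP (LK LD1_c18 LD2_c38 LD3_c39)) :=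
  Lgr Lrot112 (Lpe (K22.f275644 IH) (Lpr_et (K22.f275643 IH) (Lpe (K25.f355960 IH) (Lpe (K17.f293154 IH) (Lpr_dt (K11.f211343 IH) (Lpr_gf (K49.f358420 IH) (Lpe (K25.f352739 IH) (Lpr_gf (K25.f352616 IH) (Lpe (f337605 IH) (Lpr_dt (f337603 IH) (Lpn (LP (LK LD1_c18 LD2_c38 LD3_c39)))))))))))))
theorem f340142 : Led Lsl_ct (LP (LK LD1_c19 LD2_c59 LD3_c35)) = (LP (LK LD1_c11 LD2_c6 LD3_c7)) :=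
  Lre_c IH (LK LD1_c19 LD2_c59 LD3_c35) (LK LD1_c11 LD2_c6 LD3_c7) Lrfl Lrfl
theorem f253608 : Led Lsl_ct (LP (LK LD1_c18 LD2_c9 LD3_c1)) = (LP (LK LD1_c9 LD2_c54 LD3_c55)) :=
  Lre_c IH (LK LD1_c18 LD2_c9 LD3_c1) (LK LD1_c9 LD2_c54 LD3_c55) Lrfl Lrfl
theorem f358426 : Led Lsl_gf (LP (LK LD1_c18 LD2_c9 LD3_c1)) = (LP (LK LD1_c18 LD2_c33 LD3_c0)) :=
  Lgr Lrot104 (Lpr_ct (f253608 IH) (Lpr_df (K23.f342399 IH) (Lpe (f340142 IH) (Lpe (K25.f345750 IH) (Lpe (K22.f250377 IH) (Lpr_gf (K22.f335818 IH) (Lpr_df (K22.f275646 IH) (Lpr_gt (f358424 IH) (Lpr_ct (K23.f240499 IH) (Lpn (LP (LK LD1_c18 LD2_c33 LD3_c0))))))))))))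
theorem f688621 : Led Lsl_at (LP (LK LD1_c18 LD2_c32 LD3_c56)) = (LP (LK LD1_c18 LD2_c9 LD3_c1)) :=
  Lgr Lrot26 (Lpr_ff (f688613 IH) (Lpe (K25.f346134 IH) (Lpe (f358426 IH) (Lpn (LP (LK LD1_c18 LD2_c9 LD3_c1))))))
theorem f359139 : Led Lsl_et (LP (LK LD1_c18 LD2_c11 LD3_c45)) = (LP (LK LD1_c18 LD2_c32 LD3_c56)) :=
  Lgr Lrot158 (Lpe (K25.f278238 IH) (Lpr_ef (K26.f359137 IH) (Lpe (f248033 IH) (Lpn (LP (LK LD1_c18 LD2_c32 LD3_c56))))))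
theorem f253607 : Led Lsl_ct (LP (LK LD1_c9 LD2_c54 LD3_c55)) = (LP (LK LD1_c18 LD2_c9 LD3_c1)) :=
  Lre_c IH (LK LD1_c9 LD2_c54 LD3_c55) (LK LD1_c18 LD2_c9 LD3_c1) Lrfl Lrfl
theorem f256467 : Led Lsl_ct (LP (LK LD1_c18 LD2_c30 LD3_c59)) = (LP (LK LD1_c10 LD2_c9 LD3_c52)) :=
  Lre_c IH (LK LD1_c18 LD2_c30 LD3_c59) (LK LD1_c10 LD2_c9 LD3_c52) Lrfl Lrfl
theorem f333537 : Led Lsl_et (LP (LK LD1_c18 LD2_c9 LD3_c1)) = (LP (LK LD1_c18 LD2_c30 LD3_c59)) :=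
  Lgr Lrot158 (Lpe (f253607 IH) (Lpr_ef (K23.f333535 IH) (Lpe (f256467 IH) (Lpn (LP (LK LD1_c18 LD2_c30 LD3_c59))))))
theorem f688625 : Led Lsl_af (LP (LK LD1_c18 LD2_c11 LD3_c45)) = (LP (LK LD1_c18 LD2_c30 LD3_c59)) :=
  Lgr Lrot50 (Lpr_et (f359139 IH) (Lpr_at (f688621 IH) (Lpr_et (f333537 IH) (Lpn (LP (LK LD1_c18 LD2_c30 LD3_c59))))))
theorem f688629 : Led Lsl_ft (LP (LK LD1_c18 LD2_c10 LD3_c14)) = (LP (LK LD1_c18 LD2_c30 LD3_c59)) :=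
  Lgr Lrot2 (Lpe (K19.f293520 IH) (Lpe (K25.f307471 IH) (Lpr_af (f688625 IH) (Lpn (LP (LK LD1_c18 LD2_c30 LD3_c59))))))
theorem f306997 : Led Lsl_ct (LP (LK LD1_c10 LD2_c14 LD3_c38)) = (LP (LK LD1_c18 LD2_c38 LD3_c35)) :=
  Lre_c IH (LK LD1_c10 LD2_c14 LD3_c38) (LK LD1_c18 LD2_c38 LD3_c35) Lrfl Lrfl
theorem f688565 : Led Lsl_ff (LP (LK LD1_c18 LD2_c17 LD3_c36)) = (LP (LK LD1_c18 LD2_c38 LD3_c35)) :=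
  Lgr Lrot23 (Lpr_ct (K22.f185932 IH) (Lpr_ft (f688561 IH) (Lpr_ct (f306997 IH) (Lpn (LP (LK LD1_c18 LD2_c38 LD3_c35))))))
theorem f312492 : Led Lsl_ef (LP (LK LD1_c18 LD2_c38 LD3_c35)) = (LP (LK LD1_c18 LD2_c32 LD3_c9)) :=
  Lgr Lrot28 (Lpr_ct (K26.f306996 IH) (Lpr_et (K19.f312489 IH) (Lpr_ct (K19.f298641 IH) (Lpn (LP (LK LD1_c18 LD2_c32 LD3_c9))))))
theorem f333541 : Led Lsl_ef (LP (LK LD1_c18 LD2_c9 LD3_c1)) = (LP (LK LD1_c18 LD2_c30 LD3_c59)) :=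
  Lgr Lrot28 (Lpr_ct (f253608 IH) (Lpr_et (K23.f333539 IH) (Lpr_ct (K23.f256468 IH) (Lpn (LP (LK LD1_c18 LD2_c30 LD3_c59))))))
theorem f688637 : Led Lsl_ff (LP (LK LD1_c18 LD2_c32 LD3_c9)) = (LP (LK LD1_c18 LD2_c9 LD3_c1)) :=
  Lgr Lrot72 (Lpe (f312492 IH) (Lpe (f688565 IH) (Lpe (K19.f185914 IH) (Lpr_ft (f688629 IH) (Lpe (f333541 IH) (Lpn (LP (LK LD1_c18 LD2_c9 LD3_c1))))))))
theorem f335477 : Led Lsl_bt (LP (LK LD1_c10 LD2_c2 LD3_c16)) = (LP (LK LD1_c18 LD2_c20 LD3_c32)) :=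
  Lre_b IH (LK LD1_c10 LD2_c2 LD3_c16) (LK LD1_c18 LD2_c20 LD3_c32) Lrfl Lrfl
theorem f264283 : Led Lsl_ct (LP (LK LD1_c18 LD2_c20 LD3_c32)) = (LP (LK LD1_c27 LD2_c59 LD3_c13)) :=
  Lre_c IH (LK LD1_c18 LD2_c20 LD3_c32) (LK LD1_c27 LD2_c59 LD3_c13) Lrfl Lrfl
theorem f335478 : Led Lsl_bt (LP (LK LD1_c27 LD2_c59 LD3_c13)) = (LP (LK LD1_c18 LD2_c32 LD3_c9)) :=
  Lgr Lrot128 (Lpe (f264283 IH) (Lpe (f335477 IH) (Lpr_cf (K22.f335457 IH) (Lpe (K19.f298640 IH) (Lpe (K25.f312396 IH) (Lpn (LP (LK LD1_c18 LD2_c32 LD3_c9))))))))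
theorem f396148 : Led Lsl_bf (LP (LK LD1_c27 LD2_c59 LD3_c13)) = (LP (LK LD1_c18 LD2_c32 LD3_c9)) :=
  Lgr Lrot24 (Lpr_bt (f335478 IH) (Lpn (LP (LK LD1_c18 LD2_c32 LD3_c9))))
theorem f333548 : Led Lsl_bt (LP (LK LD1_c27 LD2_c49 LD3_c24)) = (LP (LK LD1_c18 LD2_c9 LD3_c1)) :=
  Lre_b IH (LK LD1_c27 LD2_c49 LD3_c24) (LK LD1_c18 LD2_c9 LD3_c1) Lrfl Lrfl
theorem f688641 : Led Lsl_ft (LP (LK LD1_c27 LD2_c59 LD3_c13)) = (LP (LK LD1_c27 LD2_c49 LD3_c24)) :=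
  Lgr Lrot75 (Lpr_bf (f396148 IH) (Lpr_ff (f688637 IH) (Lpe (f333548 IH) (Lpn (LP (LK LD1_c27 LD2_c49 LD3_c24))))))
theorem f688655 : Led Lsl_ff (LP (LK LD1_c27 LD2_c59 LD3_c13)) = (LP (LK LD1_c27 LD2_c49 LD3_c24)) :=
  Lgr Lrot3 (Lpr_ft (f688641 IH) (Lpn (LP (LK LD1_c27 LD2_c49 LD3_c24))))
theorem f264282 : Led Lsl_ct (LP (LK LD1_c27 LD2_c59 LD3_c13)) = (LP (LK LD1_c18 LD2_c20 LD3_c32)) :=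
  Lre_c IH (LK LD1_c27 LD2_c59 LD3_c13) (LK LD1_c18 LD2_c20 LD3_c32) Lrfl Lrfl
theorem f177569 : Led Lsl_ct (LP (LK LD1_c9 LD2_c55 LD3_c39)) = (LP (LK LD1_c5 LD2_c2 LD3_c23)) :=
  Lre_c IH (LK LD1_c9 LD2_c55 LD3_c39) (LK LD1_c5 LD2_c2 LD3_c23) Lrfl Lrfl
theorem f370518 : Led Lsl_bt (LP (LK LD1_c18 LD2_c10 LD3_c16)) = (LP (LK LD1_c9 LD2_c55 LD3_c39)) :=
  Lre_b IH (LK LD1_c18 LD2_c10 LD3_c16) (LK LD1_c9 LD2_c55 LD3_c39) Lrfl Lrfl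
theorem f333543 : Led Lsl_bt (LP (LK LD1_c18 LD2_c9 LD3_c1)) = (LP (LK LD1_c27 LD2_c49 LD3_c24)) :=
  Lre_b IH (LK LD1_c18 LD2_c9 LD3_c1) (LK LD1_c27 LD2_c49 LD3_c24) Lrfl Lrfl
theorem f395384 : Led Lsl_cf (LP (LK LD1_c18 LD2_c10 LD3_c16)) = (LP (LK LD1_c27 LD2_c49 LD3_c24)) :=
  Lgr Lrot97 (Lpr_bt (f370518 IH) (Lpr_ct (f177569 IH) (Lpr_bt (K44.f342462 IH) (Lpr_ct (f253607 IH) (Lpr_bt (f333543 IH) (Lpn (LP (LK LD1_c27 LD2_c49 LD3_c24))))))))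
theorem f395386 : Led Lsl_ct (LP (LK LD1_c18 LD2_c10 LD3_c16)) = (LP (LK LD1_c27 LD2_c49 LD3_c24)) :=
  Lgr Lrot59 (Lpr_cf (f395384 IH) (Lpn (LP (LK LD1_c27 LD2_c49 LD3_c24))))
theorem f688657 : Led Lsl_ft (LP (LK LD1_c18 LD2_c20 LD3_c32)) = (LP (LK LD1_c18 LD2_c10 LD3_c16)) :=
  Lgr Lrot4 (Lpe (f264282 IH) (Lpr_ff (f688655 IH) (Lpe (f395386 IH) (Lpn (LP (LK LD1_c18 LD2_c10 LD3_c16))))))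
theorem f688659 : Led Lsl_ff (LP (LK LD1_c10 LD2_c2 LD3_c16)) = (LP (LK LD1_c9 LD2_c55 LD3_c39)) :=
  Lgr Lrot25 (Lpr_bt (f335477 IH) (Lpr_ft (f688657 IH) (Lpr_bt (f370518 IH) (Lpn (LP (LK LD1_c9 LD2_c55 LD3_c39))))))
theorem f688663 : Led Lsl_at (LP (LK LD1_c10 LD2_c2 LD3_c16)) = (LP (LK LD1_c9 LD2_c55 LD3_c38)) :=
  Lgr Lrot26 (Lpr_ff (f688659 IH) (Lpe (K44.f370516 IH) (Lpe (K44.f287931 IH) (Lpn (LP (LK LD1_c9 LD2_c55 LD3_c38))))))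
theorem f688667 : Led Lsl_af (LP (LK LD1_c5 LD2_c9 LD3_c50)) = (LP (LK LD1_c5 LD2_c2 LD3_c22)) :=
  Lgr Lrot68 (Lpe (K22.f335457 IH) (Lpr_at (f688663 IH) (Lpr_ct (K19.f185858 IH) (Lpn (LP (LK LD1_c5 LD2_c2 LD3_c22))))))
theorem f688675 : Led Lsl_at (LP (LK LD1_c5 LD2_c11 LD3_c56)) = (LP (LK LD1_c5 LD2_c4 LD3_c48)) :=
  Lgr Lrot80 (Lpe (K49.f250347 IH) (Lpr_af (f688667 IH) (Lpr_ef (K18.f185843 IH) (Lpn (LP (LK LD1_c5 LD2_c4 LD3_c48))))))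
theorem f688677 : v4589 = (LP (LK LD1_c2 LD2_c29 LD3_c44)) :=
  (Llr Lrot117 (Lpe (f636282 IH) (Lpr_dt (K19.f163901 IH) (Lpr_at (f688675 IH) (Lpr_dt (K18.f165253 IH) (Lpn (LP (LK LD1_c2 LD2_c29 LD3_c44)))))))).symm
theorem f163887 : Led Lsl_ct (LP (LK LD1_c5 LD2_c4 LD3_c47)) = (LP (LK LD1_c2 LD2_c29 LD3_c44)) :=
  Lre_c IH (LK LD1_c5 LD2_c4 LD3_c47) (LK LD1_c2 LD2_c29 LD3_c44) Lrfl Lrfl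
theorem f688683 : Led Lsl_ff (LP (LK LD1_c5 LD2_c4 LD3_c47)) = (LP (LK LD1_c5 LD2_c11 LD3_c55)) :=
  Lgr Lrot23 (Lpr_ct (f163887 IH) (Lpq (f688677 IH) (Lpe (f636284 IH) (Lpr_ct (K23.f163900 IH) (Lpn (LP (LK LD1_c5 LD2_c11 LD3_c55)))))))
theorem f688687 : Led Lsl_ft (LP (LK LD1_c5 LD2_c4 LD3_c47)) = (LP (LK LD1_c5 LD2_c11 LD3_c55)) :=
  Lgr Lrot48 (Lpr_ff (f688683 IH) (Lpn (LP (LK LD1_c5 LD2_c11 LD3_c55))))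
theorem f181919 : Led Lsl_bt (LP (LK LD1_c10 LD2_c0 LD3_c39)) = (LP (LK LD1_c5 LD2_c4 LD3_c47)) :=
  Lre_b IH (LK LD1_c10 LD2_c0 LD3_c39) (LK LD1_c5 LD2_c4 LD3_c47) Lrfl Lrfl
theorem f163908 : Led Lsl_bt (LP (LK LD1_c5 LD2_c11 LD3_c55)) = (LP (LK LD1_c10 LD2_c14 LD3_c40)) :=
  Lre_b IH (LK LD1_c5 LD2_c11 LD3_c55) (LK LD1_c10 LD2_c14 LD3_c40) Lrfl Lrfl
theorem f688693 : Led Lsl_ff (LP (LK LD1_c10 LD2_c0 LD3_c39)) = (LP (LK LD1_c10 LD2_c14 LD3_c40)) :=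
  Lgr Lrot25 (Lpr_bt (f181919 IH) (Lpr_ft (f688687 IH) (Lpr_bt (f163908 IH) (Lpn (LP (LK LD1_c10 LD2_c14 LD3_c40))))))
theorem f181920 : Led Lsl_ct (LP (LK LD1_c10 LD2_c0 LD3_c39)) = (LP (LK LD1_c18 LD2_c17 LD3_c34)) :=
  Lre_c IH (LK LD1_c10 LD2_c0 LD3_c39) (LK LD1_c18 LD2_c17 LD3_c34) Lrfl Lrfl
theorem f335156 : Led Lsl_ct (LP (LK LD1_c18 LD2_c38 LD3_c32)) = (LP (LK LD1_c10 LD2_c14 LD3_c40)) :=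
  Lre_c IH (LK LD1_c18 LD2_c38 LD3_c32) (LK LD1_c10 LD2_c14 LD3_c40) Lrfl Lrfl
theorem f688695 : Led Lsl_ft (LP (LK LD1_c18 LD2_c17 LD3_c34)) = (LP (LK LD1_c18 LD2_c38 LD3_c32)) :=
  Lgr Lrot4 (Lpe (f181920 IH) (Lpr_ff (f688693 IH) (Lpe (f335156 IH) (Lpn (LP (LK LD1_c18 LD2_c38 LD3_c32))))))
theorem f688703 : Led Lsl_ff (LP (LK LD1_c18 LD2_c17 LD3_c34)) = (LP (LK LD1_c18 LD2_c38 LD3_c32)) :=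
  Lgr Lrot3 (Lpr_ft (f688695 IH) (Lpn (LP (LK LD1_c18 LD2_c38 LD3_c32))))
theorem f330735 : Led Lsl_dt (LP (LK LD1_c18 LD2_c17 LD3_c34)) = (LP (LK LD1_c27 LD2_c56 LD3_c28)) :=
  Lre_d IH (LK LD1_c18 LD2_c17 LD3_c34) (LK LD1_c27 LD2_c56 LD3_c28) Lrfl Lrfl
theorem f342514 : Led Lsl_dt (LP (LK LD1_c28 LD2_c10 LD3_c33)) = (LP (LK LD1_c18 LD2_c38 LD3_c32)) :=
  Lre_d IH (LK LD1_c28 LD2_c10 LD3_c33) (LK LD1_c18 LD2_c38 LD3_c32) Lrfl Lrfl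
theorem f688707 : Led Lsl_ft (LP (LK LD1_c27 LD2_c56 LD3_c28)) = (LP (LK LD1_c28 LD2_c10 LD3_c33)) :=
  Lgr Lrot54 (Lpe (f330735 IH) (Lpr_ff (f688703 IH) (Lpe (f342514 IH) (Lpn (LP (LK LD1_c28 LD2_c10 LD3_c33))))))
theorem f362851 : Led Lsl_bt (LP (LK LD1_c18 LD2_c17 LD3_c35)) = (LP (LK LD1_c27 LD2_c56 LD3_c28)) :=
  Lre_b IH (LK LD1_c18 LD2_c17 LD3_c35) (LK LD1_c27 LD2_c56 LD3_c28) Lrfl Lrfl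
theorem f355923 : Led Lsl_bt (LP (LK LD1_c28 LD2_c10 LD3_c33)) = (LP (LK LD1_c18 LD2_c38 LD3_c33)) :=
  Lre_b IH (LK LD1_c28 LD2_c10 LD3_c33) (LK LD1_c18 LD2_c38 LD3_c33) Lrfl Lrfl
theorem f688709 : Led Lsl_ff (LP (LK LD1_c18 LD2_c17 LD3_c35)) = (LP (LK LD1_c18 LD2_c38 LD3_c33)) :=
  Lgr Lrot25 (Lpr_bt (f362851 IH) (Lpr_ft (f688707 IH) (Lpr_bt (f355923 IH) (Lpn (LP (LK LD1_c18 LD2_c38 LD3_c33))))))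
theorem f335151 : Led Lsl_gt (LP (LK LD1_c18 LD2_c38 LD3_c33)) = (LP (LK LD1_c28 LD2_c10 LD3_c34)) :=
  Lre_g IH (LK LD1_c18 LD2_c38 LD3_c33) (LK LD1_c28 LD2_c10 LD3_c34) Lrfl Lrfl
theorem f362616 : Led Lsl_df (LP (LK LD1_c14 LD2_c57 LD3_c13)) = (LP (LK LD1_c10 LD2_c28 LD3_c5)) :=
  Lgr Lrot38 (Lpr_dt (K26.f362608 IH) (Lpn (LP (LK LD1_c10 LD2_c28 LD3_c5))))
theorem f362615 : Led Lsl_et (LP (LK LD1_c10 LD2_c28 LD3_c5)) = (LP (LK LD1_c18 LD2_c58 LD3_c23)) :=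
  Lre_e IH (LK LD1_c10 LD2_c28 LD3_c5) (LK LD1_c18 LD2_c58 LD3_c23) Lrfl Lrfl
theorem f362651 : Led Lsl_gt (LP (LK LD1_c18 LD2_c58 LD3_c23)) = (LP (LK LD1_c18 LD2_c58 LD3_c30)) :=
  Lgr Lrot137 (Lpe (f362615 IH) (Lpe (f362616 IH) (Lpr_gf (K26.f362618 IH) (Lpe (K12.f47635 IH) (Lpr_et (K19.f47653 IH) (Lpe (K12.f212473 IH) (Lpe (K1.f44262 IH) (Lpe (K1.f46119 IH) (Lpr_gf (K19.f46389 IH) (Lpe (K23.f46092 IH) (Lpn (LP (LK LD1_c18 LD2_c58 LD3_c30)))))))))))))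
theorem f362601 : Led Lsl_et (LP (LK LD1_c17 LD2_c45 LD3_c58)) = (LP (LK LD1_c27 LD2_c32 LD3_c16)) :=
  Lre_e IH (LK LD1_c17 LD2_c45 LD3_c58) (LK LD1_c27 LD2_c32 LD3_c16) Lrfl Lrfl
theorem f193084 : Led Lsl_et (LP (LK LD1_c18 LD2_c58 LD3_c23)) = (LP (LK LD1_c10 LD2_c28 LD3_c5)) :=
  Lre_e IH (LK LD1_c18 LD2_c58 LD3_c23) (LK LD1_c10 LD2_c28 LD3_c5) Lrfl Lrfl
theorem f362602 : Led Lsl_ct (LP (LK LD1_c27 LD2_c32 LD3_c16)) = (LP (LK LD1_c18 LD2_c58 LD3_c23)) :=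
  Lgr Lrot15 (Lpe (f362601 IH) (Lpr_cf (K26.f362596 IH) (Lpe (f193084 IH) (Lpn (LP (LK LD1_c18 LD2_c58 LD3_c23))))))
theorem f362653 : Led Lsl_gt (LP (LK LD1_c27 LD2_c32 LD3_c16)) = (LP (LK LD1_c27 LD2_c33 LD3_c39)) :=
  Lgr Lrot180 (Lpr_ct (f362602 IH) (Lpr_gt (f362651 IH) (Lpr_dt (K23.f46092 IH) (Lpe (K19.f46389 IH) (Lpe (K1.f46119 IH) (Lpr_ct (K19.f190723 IH) (Lpe (K19.f190658 IH) (Lpe (K27.f233612 IH) (Lpr_df (K22.f335185 IH) (Lpn (LP (LK LD1_c27 LD2_c33 LD3_c39))))))))))))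
theorem f362656 : Led Lsl_cf (LP (LK LD1_c27 LD2_c32 LD3_c16)) = (LP (LK LD1_c18 LD2_c58 LD3_c23)) :=
  Lgr Lrot166 (Lpr_gt (f362653 IH) (Lpe (K22.f335185 IH) (Lpr_gt (K27.f233612 IH) (Lpr_dt (K19.f190658 IH) (Lpe (K19.f190726 IH) (Lpr_df (K1.f46119 IH) (Lpr_gf (K19.f46389 IH) (Lpe (K23.f46092 IH) (Lpe (f362651 IH) (Lpn (LP (LK LD1_c18 LD2_c58 LD3_c23))))))))))))
theorem f214555 : Led Lsl_ct (LP (LK LD1_c17 LD2_c46 LD3_c49)) = (LP (LK LD1_c9 LD2_c40 LD3_c0)) :=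
  Lre_c IH (LK LD1_c17 LD2_c46 LD3_c49) (LK LD1_c9 LD2_c40 LD3_c0) Lrfl Lrfl
theorem f362658 : Led Lsl_gf (LP (LK LD1_c18 LD2_c58 LD3_c23)) = (LP (LK LD1_c18 LD2_c56 LD3_c4)) :=
  Lgr Lrot147 (Lpe (f362656 IH) (Lpr_gt (f362653 IH) (Lpr_ct (K22.f43372 IH) (Lpe (K21.f43371 IH) (Lpe (f214555 IH) (Lpe (K23.f335245 IH) (Lpe (K19.f233468 IH) (Lpe (K23.f339923 IH) (Lpe (K23.f330603 IH) (Lpn (LP (LK LD1_c18 LD2_c56 LD3_c4))))))))))))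
theorem f330635 : Led Lsl_dt (LP (LK LD1_c10 LD2_c26 LD3_c22)) = (LP (LK LD1_c18 LD2_c56 LD3_c4)) :=
  Lre_d IH (LK LD1_c10 LD2_c26 LD3_c22) (LK LD1_c18 LD2_c56 LD3_c4) Lrfl Lrfl
theorem f339925 : Led Lsl_gf (LP (LK LD1_c10 LD2_c26 LD3_c22)) = (LP (LK LD1_c8 LD2_c52 LD3_c4)) :=
  Lgr Lrot47 (Lpr_gt (K23.f339923 IH) (Lpe (K1.f46373 IH) (Lpr_ff (K1.f44092 IH) (Lpn (LP (LK LD1_c8 LD2_c52 LD3_c4))))))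
theorem f190381 : Led Lsl_gt (LP (LK LD1_c10 LD2_c32 LD3_c59)) = (LP (LK LD1_c5 LD2_c21 LD3_c20)) :=
  Lre_g IH (LK LD1_c10 LD2_c32 LD3_c59) (LK LD1_c5 LD2_c21 LD3_c20) Lrfl Lrfl
theorem f194164 : Led Lsl_et (LP (LK LD1_c19 LD2_c6 LD3_c24)) = (LP (LK LD1_c10 LD2_c32 LD3_c59)) :=
  Lre_e IH (LK LD1_c19 LD2_c6 LD3_c24) (LK LD1_c10 LD2_c32 LD3_c59) Lrfl Lrfl
theorem f362675 : Led Lsl_df (LP (LK LD1_c18 LD2_c58 LD3_c23)) = (LP (LK LD1_c19 LD2_c6 LD3_c24)) :=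
  Lgr Lrot132 (Lpr_gf (f362658 IH) (Lpe (f330635 IH) (Lpr_gf (f339925 IH) (Lpe (K1.f44234 IH) (Lpr_dt (K1.f46125 IH) (Lpr_gf (K10.f194156 IH) (Lpe (K14.f43962 IH) (Lpr_et (K26.f43963 IH) (Lpe (f190381 IH) (Lpe (f194164 IH) (Lpn (LP (LK LD1_c19 LD2_c6 LD3_c24)))))))))))))
theorem f357731 : Led Lsl_et (LP (LK LD1_c10 LD2_c36 LD3_c49)) = (LP (LK LD1_c19 LD2_c13 LD3_c31)) :=
  Lre_e IH (LK LD1_c10 LD2_c36 LD3_c49) (LK LD1_c19 LD2_c13 LD3_c31) Lrfl Lrfl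
theorem f357732 : Led Lsl_bt (LP (LK LD1_c19 LD2_c13 LD3_c31)) = (LP (LK LD1_c25 LD2_c29 LD3_c10)) :=
  Lgr Lrot119 (Lpe (f357731 IH) (Lpr_bf (K26.f357724 IH) (Lpe (K23.f232165 IH) (Lpn (LP (LK LD1_c25 LD2_c29 LD3_c10))))))
theorem f357734 : Led Lsl_bf (LP (LK LD1_c19 LD2_c13 LD3_c31)) = (LP (LK LD1_c25 LD2_c29 LD3_c10)) :=
  Lgr Lrot24 (Lpr_bt (f357732 IH) (Lpn (LP (LK LD1_c25 LD2_c29 LD3_c10))))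
theorem f310365 : Led Lsl_et (LP (LK LD1_c19 LD2_c28 LD3_c40)) = (LP (LK LD1_c10 LD2_c46 LD3_c11)) :=
  Lre_e IH (LK LD1_c19 LD2_c28 LD3_c40) (LK LD1_c10 LD2_c46 LD3_c11) Lrfl Lrfl
theorem f347931 : Led Lsl_ct (LP (LK LD1_c25 LD2_c29 LD3_c10)) = (LP (LK LD1_c19 LD2_c28 LD3_c40)) :=
  Lgr Lrot15 (Lpe (K23.f232172 IH) (Lpr_cf (K25.f347925 IH) (Lpe (f310365 IH) (Lpn (LP (LK LD1_c19 LD2_c28 LD3_c40))))))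
theorem f232170 : Led Lsl_dt (LP (LK LD1_c25 LD2_c48 LD3_c27)) = (LP (LK LD1_c25 LD2_c29 LD3_c10)) :=
  Lgr Lrot42 (Lpr_df (K23.f232168 IH) (Lpn (LP (LK LD1_c25 LD2_c29 LD3_c10))))
theorem f339129 : Led Lsl_gf (LP (LK LD1_c25 LD2_c29 LD3_c10)) = (LP (LK LD1_c17 LD2_c52 LD3_c40)) :=
  Lgr Lrot134 (Lpe (f232170 IH) (Lpr_et (K23.f232173 IH) (Lpr_gt (K23.f212256 IH) (Lpe (K25.f212253 IH) (Lpr_dt (K15.f212244 IH) (Lpe (K12.f212247 IH) (Lpe (K11.f27413 IH) (Lpr_et (K11.f27416 IH) (Lpr_gt (K22.f339119 IH) (Lpr_dt (K22.f339124 IH) (Lpn (LP (LK LD1_c17 LD2_c52 LD3_c40)))))))))))))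
theorem f295237 : Led Lsl_ct (LP (LK LD1_c10 LD2_c46 LD3_c2)) = (LP (LK LD1_c5 LD2_c27 LD3_c29)) :=
  Lre_c IH (LK LD1_c10 LD2_c46 LD3_c2) (LK LD1_c5 LD2_c27 LD3_c29) Lrfl Lrfl
theorem f347936 : Led Lsl_gf (LP (LK LD1_c19 LD2_c28 LD3_c25)) = (LP (LK LD1_c19 LD2_c28 LD3_c40)) :=
  Lgr Lrot104 (Lpr_ct (K53.f317724 IH) (Lpe (K25.f295263 IH) (Lpe (f295237 IH) (Lpe (K25.f324270 IH) (Lpr_cf (K22.f221177 IH) (Lpr_gf (K25.f339122 IH) (Lpe (K22.f339131 IH) (Lpe (f339129 IH) (Lpr_ct (f347931 IH) (Lpn (LP (LK LD1_c19 LD2_c28 LD3_c40))))))))))))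
theorem f322729 : Led Lsl_ct (LP (LK LD1_c19 LD2_c53 LD3_c50)) = (LP (LK LD1_c19 LD2_c36 LD3_c39)) :=
  Lgr Lrot59 (Lpr_cf (K20.f322723 IH) (Lpn (LP (LK LD1_c19 LD2_c36 LD3_c39))))
theorem f340984 : Led Lsl_bf (LP (LK LD1_c20 LD2_c2 LD3_c29)) = (LP (LK LD1_c19 LD2_c53 LD3_c50)) :=
  Lgr Lrot93 (Lpr_dt (K20.f264048 IH) (Lpr_bt (K23.f340976 IH) (Lpr_dt (K20.f213107 IH) (Lpn (LP (LK LD1_c19 LD2_c53 LD3_c50))))))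
theorem f357755 : Led Lsl_gf (LP (LK LD1_c19 LD2_c13 LD3_c31)) = (LP (LK LD1_c20 LD2_c2 LD3_c29)) :=
  Lgr Lrot124 (Lpr_bf (f357734 IH) (Lpr_ct (f347931 IH) (Lpe (f347936 IH) (Lpe (K53.f317719 IH) (Lpe (K53.f324063 IH) (Lpr_gt (K25.f323507 IH) (Lpr_ct (K26.f323487 IH) (Lpe (K23.f323485 IH) (Lpe (f322729 IH) (Lpe (f340984 IH) (Lpn (LP (LK LD1_c20 LD2_c2 LD3_c29)))))))))))))
theorem f345461 : Led Lsl_ct (LP (LK LD1_c19 LD2_c13 LD3_c31)) = (LP (LK LD1_c10 LD2_c36 LD3_c51)) :=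
  Lre_c IH (LK LD1_c19 LD2_c13 LD3_c31) (LK LD1_c10 LD2_c36 LD3_c51) Lrfl Lrfl
theorem f41504 : Led Lsl_ct (LP (LK LD1_c5 LD2_c25 LD3_c43)) = (LP (LK LD1_c2 LD2_c39 LD3_c16)) :=
  Lre_c IH (LK LD1_c5 LD2_c25 LD3_c43) (LK LD1_c2 LD2_c39 LD3_c16) Lrfl Lrfl
theorem f224565 : Led Lsl_ct (LP (LK LD1_c10 LD2_c42 LD3_c48)) = (LP (LK LD1_c5 LD2_c25 LD3_c44)) :=
  Lre_c IH (LK LD1_c10 LD2_c42 LD3_c48) (LK LD1_c5 LD2_c25 LD3_c44) Lrfl Lrfl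
theorem f357757 : Led Lsl_gt (LP (LK LD1_c10 LD2_c36 LD3_c51)) = (LP (LK LD1_c10 LD2_c42 LD3_c48)) :=
  Lgr Lrot150 (Lpe (f345461 IH) (Lpr_gf (f357755 IH) (Lpr_df (K26.f264050 IH) (Lpr_gt (K20.f224433 IH) (Lpr_ct (K20.f224540 IH) (Lpe (K25.f321676 IH) (Lpr_ct (f41504 IH) (Lpe (K15.f41503 IH) (Lpe (f224565 IH) (Lpn (LP (LK LD1_c10 LD2_c42 LD3_c48))))))))))))
theorem f357759 : Led Lsl_gt (LP (LK LD1_c10 LD2_c42 LD3_c42)) = (LP (LK LD1_c18 LD2_c17 LD3_c51)) :=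
  Lgr Lrot164 (Lpe (K25.f224570 IH) (Lpr_ct (K25.f224561 IH) (Lpe (f357757 IH) (Lpe (f345461 IH) (Lpr_gf (f357755 IH) (Lpr_bf (f340984 IH) (Lpr_ct (f322729 IH) (Lpr_gf (K23.f323485 IH) (Lpe (K26.f323487 IH) (Lpe (K25.f352557 IH) (Lpn (LP (LK LD1_c18 LD2_c17 LD3_c51)))))))))))))
theorem f357761 : Led Lsl_gf (LP (LK LD1_c18 LD2_c58 LD3_c17)) = (LP (LK LD1_c10 LD2_c38 LD3_c55)) :=
  Lgr Lrot145 (Lpe (K25.f291276 IH) (Lpr_et (K25.f340959 IH) (Lpr_gt (f357759 IH) (Lpe (K24.f231278 IH) (Lpe (K27.f231327 IH) (Lpe (K24.f196813 IH) (Lpr_et (K23.f291719 IH) (Lpe (K27.f340115 IH) (Lpe (K23.f251021 IH) (Lpr_dt (K23.f224814 IH) (Lpn (LP (LK LD1_c10 LD2_c38 LD3_c55)))))))))))))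
theorem f309867 : Led Lsl_dt (LP (LK LD1_c5 LD2_c25 LD3_c42)) = (LP (LK LD1_c10 LD2_c42 LD3_c42)) :=
  Lre_d IH (LK LD1_c5 LD2_c25 LD3_c42) (LK LD1_c10 LD2_c42 LD3_c42) Lrfl Lrfl
theorem f340945 : Led Lsl_et (LP (LK LD1_c10 LD2_c42 LD3_c43)) = (LP (LK LD1_c5 LD2_c25 LD3_c42)) :=
  Lre_e IH (LK LD1_c10 LD2_c42 LD3_c43) (LK LD1_c5 LD2_c25 LD3_c42) Lrfl Lrfl
theorem f340957 : Led Lsl_dt (LP (LK LD1_c10 LD2_c27 LD3_c60)) = (LP (LK LD1_c10 LD2_c42 LD3_c43)) :=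
  Lgr Lrot77 (Lpe (K22.f254472 IH) (Lpe (K25.f291276 IH) (Lpr_ef (K25.f340948 IH) (Lpe (f309867 IH) (Lpe (f340945 IH) (Lpn (LP (LK LD1_c10 LD2_c42 LD3_c43))))))))
theorem f211377 : Led Lsl_et (LP (LK LD1_c5 LD2_c4 LD3_c52)) = (LP (LK LD1_c2 LD2_c29 LD3_c45)) :=
  Lre_e IH (LK LD1_c5 LD2_c4 LD3_c52) (LK LD1_c2 LD2_c29 LD3_c45) Lrfl Lrfl
theorem f303631 : Led Lsl_et (LP (LK LD1_c10 LD2_c15 LD3_c40)) = (LP (LK LD1_c10 LD2_c0 LD3_c48)) :=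
  Lgr Lrot69 (Lpe (K18.f242416 IH) (Lpe (K14.f183961 IH) (Lpr_ff (K26.f303625 IH) (Lpe (f211377 IH) (Lpe (K11.f211353 IH) (Lpn (LP (LK LD1_c10 LD2_c0 LD3_c48))))))))
theorem f250095 : Led Lsl_et (LP (LK LD1_c16 LD2_c45 LD3_c55)) = (LP (LK LD1_c8 LD2_c57 LD3_c14)) :=
  Lre_e IH (LK LD1_c16 LD2_c45 LD3_c55) (LK LD1_c8 LD2_c57 LD3_c14) Lrfl Lrfl
theorem f342642 : Led Lsl_df (LP (LK LD1_c18 LD2_c19 LD3_c27)) = (LP (LK LD1_c16 LD2_c45 LD3_c55)) :=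
  Lgr Lrot170 (Lpr_gt (K25.f342640 IH) (Lpe (K19.f242402 IH) (Lpr_et (f303631 IH) (Lpe (K26.f303591 IH) (Lpr_dt (K26.f304133 IH) (Lpr_gt (K26.f340073 IH) (Lpe (K25.f42216 IH) (Lpr_et (K20.f318330 IH) (Lpr_gt (K23.f342613 IH) (Lpe (f250095 IH) (Lpn (LP (LK LD1_c16 LD2_c45 LD3_c55)))))))))))))
theorem f340954 : Led Lsl_et (LP (LK LD1_c5 LD2_c25 LD3_c42)) = (LP (LK LD1_c10 LD2_c42 LD3_c43)) :=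
  Lre_e IH (LK LD1_c5 LD2_c25 LD3_c42) (LK LD1_c10 LD2_c42 LD3_c43) Lrfl Lrfl
theorem f342644 : Led Lsl_gt (LP (LK LD1_c10 LD2_c42 LD3_c43)) = (LP (LK LD1_c16 LD2_c45 LD3_c55)) :=
  Lgr Lrot137 (Lpe (f340954 IH) (Lpr_dt (f309867 IH) (Lpe (K25.f340950 IH) (Lpe (K26.f304136 IH) (Lpr_et (K26.f188014 IH) (Lpr_gf (K26.f303591 IH) (Lpe (f303631 IH) (Lpr_dt (K19.f242402 IH) (Lpe (K25.f342640 IH) (Lpr_df (f342642 IH) (Lpn (LP (LK LD1_c16 LD2_c45 LD3_c55)))))))))))))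
theorem f342636 : Led Lsl_dt (LP (LK LD1_c18 LD2_c19 LD3_c27)) = (LP (LK LD1_c16 LD2_c45 LD3_c55)) :=
  Lgr Lrot77 (Lpr_ef (K23.f342632 IH) (Lpe (K26.f250093 IH) (Lpr_ef (K23.f250085 IH) (Lpe (K23.f250094 IH) (Lpe (f250095 IH) (Lpn (LP (LK LD1_c16 LD2_c45 LD3_c55))))))))
theorem f342638 : Led Lsl_et (LP (LK LD1_c18 LD2_c19 LD3_c27)) = (LP (LK LD1_c18 LD2_c49 LD3_c10)) :=
  Lgr Lrot87 (Lpr_ef (K23.f342632 IH) (Lpn (LP (LK LD1_c18 LD2_c49 LD3_c10))))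
theorem f362684 : Led Lsl_gt (LP (LK LD1_c18 LD2_c49 LD3_c10)) = (LP (LK LD1_c19 LD2_c6 LD3_c24)) :=
  Lgr Lrot137 (Lpe (f342638 IH) (Lpr_dt (f342636 IH) (Lpe (f342644 IH) (Lpe (f340957 IH) (Lpr_et (K25.f288392 IH) (Lpr_gf (f357761 IH) (Lpe (K23.f306494 IH) (Lpr_dt (K23.f45843 IH) (Lpe (f362651 IH) (Lpr_df (f362675 IH) (Lpn (LP (LK LD1_c19 LD2_c6 LD3_c24)))))))))))))
theorem f268078 : Led Lsl_bt (LP (LK LD1_c5 LD2_c25 LD3_c45)) = (LP (LK LD1_c10 LD2_c42 LD3_c43)) :=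
  Lre_b IH (LK LD1_c5 LD2_c25 LD3_c45) (LK LD1_c10 LD2_c42 LD3_c43) Lrfl Lrfl
theorem f336142 : Led Lsl_dt (LP (LK LD1_c10 LD2_c42 LD3_c43)) = (LP (LK LD1_c10 LD2_c27 LD3_c60)) :=
  Lgr Lrot79 (Lpe (f268078 IH) (Lpe (K19.f258232 IH) (Lpr_bf (K22.f336138 IH) (Lpn (LP (LK LD1_c10 LD2_c27 LD3_c60))))))
theorem f340946 : Led Lsl_gt (LP (LK LD1_c10 LD2_c28 LD3_c8)) = (LP (LK LD1_c10 LD2_c27 LD3_c60)) :=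
  Lgr Lrot112 (Lpr_df (K23.f277607 IH) (Lpr_et (K14.f250997 IH) (Lpr_gf (K14.f246339 IH) (Lpe (K14.f220648 IH) (Lpe (K14.f250976 IH) (Lpr_gf (K14.f196802 IH) (Lpe (K14.f50096 IH) (Lpr_gf (K25.f340943 IH) (Lpe (f340945 IH) (Lpr_dt (f336142 IH) (Lpn (LP (LK LD1_c10 LD2_c27 LD3_c60)))))))))))))
theorem f49026 : Led Lsl_gt (LP (LK LD1_c8 LD2_c29 LD3_c34)) = (LP (LK LD1_c15 LD2_c56 LD3_c45)) :=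
  Lre_g IH (LK LD1_c8 LD2_c29 LD3_c34) (LK LD1_c15 LD2_c56 LD3_c45) Lrfl Lrfl
theorem f362620 : Led Lsl_et (LP (LK LD1_c14 LD2_c57 LD3_c13)) = (LP (LK LD1_c15 LD2_c56 LD3_c45)) :=
  Lgr Lrot122 (Lpr_dt (K26.f362608 IH) (Lpr_gt (K26.f193076 IH) (Lpr_df (K16.f216743 IH) (Lpr_et (K26.f216733 IH) (Lpe (K12.f216721 IH) (Lpr_dt (K14.f29053 IH) (Lpr_gt (K14.f232312 IH) (Lpe (K14.f49019 IH) (Lpr_et (K14.f49036 IH) (Lpr_gt (f49026 IH) (Lpn (LP (LK LD1_c15 LD2_c56 LD3_c45)))))))))))))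
theorem f335717 : Led Lsl_gt (LP (LK LD1_c8 LD2_c34 LD3_c32)) = (LP (LK LD1_c15 LD2_c57 LD3_c6)) :=
  Lgr Lrot46 (Lpr_gf (K22.f335715 IH) (Lpr_ft (K16.f269887 IH) (Lpe (K16.f270518 IH) (Lpn (LP (LK LD1_c15 LD2_c57 LD3_c6))))))
theorem f362626 : Led Lsl_gf (LP (LK LD1_c14 LD2_c57 LD3_c7)) = (LP (LK LD1_c15 LD2_c56 LD3_c45)) :=
  Lgr Lrot138 (Lpe (K13.f229665 IH) (Lpe (K22.f287672 IH) (Lpr_df (K22.f294244 IH) (Lpe (K22.f335721 IH) (Lpr_gt (f335717 IH) (Lpe (K16.f271416 IH) (Lpe (K16.f254533 IH) (Lpr_gt (K26.f271400 IH) (Lpe (K26.f362608 IH) (Lpr_et (f362620 IH) (Lpn (LP (LK LD1_c15 LD2_c56 LD3_c45)))))))))))))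
theorem f362681 : Led Lsl_et (LP (LK LD1_c10 LD2_c32 LD3_c59)) = (LP (LK LD1_c19 LD2_c6 LD3_c24)) :=
  Lre_e IH (LK LD1_c10 LD2_c32 LD3_c59) (LK LD1_c19 LD2_c6 LD3_c24) Lrfl Lrfl
theorem f362688 : Led Lsl_df (LP (LK LD1_c15 LD2_c56 LD3_c45)) = (LP (LK LD1_c10 LD2_c32 LD3_c59)) :=
  Lgr Lrot170 (Lpe (f362626 IH) (Lpe (K13.f229673 IH) (Lpr_et (K18.f294240 IH) (Lpr_gt (f340946 IH) (Lpr_dt (f340957 IH) (Lpr_gt (f342644 IH) (Lpe (f342636 IH) (Lpr_et (f342638 IH) (Lpr_gt (f362684 IH) (Lpe (f362681 IH) (Lpn (LP (LK LD1_c10 LD2_c32 LD3_c59)))))))))))))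
theorem f362694 : Led Lsl_gf (LP (LK LD1_c18 LD2_c58 LD3_c18)) = (LP (LK LD1_c19 LD2_c6 LD3_c24)) :=
  Lgr Lrot141 (Lpe (K25.f356244 IH) (Lpe (K22.f275646 IH) (Lpe (K22.f335818 IH) (Lpe (K22.f250376 IH) (Lpr_et (K22.f335727 IH) (Lpr_gt (K22.f49025 IH) (Lpe (K14.f49013 IH) (Lpr_gt (f49026 IH) (Lpr_df (f362688 IH) (Lpr_et (f362681 IH) (Lpn (LP (LK LD1_c19 LD2_c6 LD3_c24)))))))))))))
theorem f171754 : Led Lsl_gt (LP (LK LD1_c18 LD2_c17 LD3_c36)) = (LP (LK LD1_c27 LD2_c56 LD3_c33)) :=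
  Lre_g IH (LK LD1_c18 LD2_c17 LD3_c36) (LK LD1_c27 LD2_c56 LD3_c33) Lrfl Lrfl
theorem f362696 : Led Lsl_ct (LP (LK LD1_c27 LD2_c56 LD3_c33)) = (LP (LK LD1_c19 LD2_c6 LD3_c24)) :=
  Lgr Lrot152 (Lpe (f171754 IH) (Lpe (K22.f185922 IH) (Lpe (K19.f306189 IH) (Lpr_ct (K19.f233491 IH) (Lpr_gt (K25.f355934 IH) (Lpr_ct (K25.f214384 IH) (Lpr_df (K25.f312453 IH) (Lpe (K25.f355945 IH) (Lpr_gf (f362694 IH) (Lpn (LP (LK LD1_c19 LD2_c6 LD3_c24))))))))))))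
theorem f362679 : Led Lsl_dt (LP (LK LD1_c18 LD2_c58 LD3_c23)) = (LP (LK LD1_c19 LD2_c6 LD3_c24)) :=
  Lgr Lrot42 (Lpr_df (f362675 IH) (Lpn (LP (LK LD1_c19 LD2_c6 LD3_c24))))
theorem f362704 : Led Lsl_df (LP (LK LD1_c27 LD2_c56 LD3_c33)) = (LP (LK LD1_c28 LD2_c10 LD3_c34)) :=
  Lgr Lrot174 (Lpr_ct (f362696 IH) (Lpe (f362679 IH) (Lpr_gf (f362658 IH) (Lpe (f330635 IH) (Lpr_gf (f339925 IH) (Lpr_ct (K19.f190723 IH) (Lpr_gt (K22.f335145 IH) (Lpr_dt (K46.f312509 IH) (Lpr_gt (f335151 IH) (Lpn (LP (LK LD1_c28 LD2_c10 LD3_c34))))))))))))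
theorem f362742 : Led Lsl_dt (LP (LK LD1_c27 LD2_c56 LD3_c33)) = (LP (LK LD1_c28 LD2_c10 LD3_c34)) :=
  Lgr Lrot42 (Lpr_df (f362704 IH) (Lpn (LP (LK LD1_c28 LD2_c10 LD3_c34))))
theorem f214560 : Led Lsl_dt (LP (LK LD1_c27 LD2_c33 LD3_c37)) = (LP (LK LD1_c17 LD2_c46 LD3_c49)) :=
  Lre_d IH (LK LD1_c27 LD2_c33 LD3_c37) (LK LD1_c17 LD2_c46 LD3_c49) Lrfl Lrfl
theorem f362744 : Led Lsl_gf (LP (LK LD1_c27 LD2_c33 LD3_c37)) = (LP (LK LD1_c28 LD2_c10 LD3_c34)) :=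
  Lgr Lrot143 (Lpr_dt (f214560 IH) (Lpe (K23.f43375 IH) (Lpe (K15.f43380 IH) (Lpe (K23.f214557 IH) (Lpr_df (K19.f304590 IH) (Lpr_gf (K21.f330786 IH) (Lpe (K22.f185932 IH) (Lpr_gt (f171754 IH) (Lpr_dt (f362742 IH) (Lpn (LP (LK LD1_c28 LD2_c10 LD3_c34))))))))))))
theorem f688719 : Led Lsl_at (LP (LK LD1_c18 LD2_c17 LD3_c35)) = (LP (LK LD1_c27 LD2_c33 LD3_c37)) :=
  Lgr Lrot26 (Lpr_ff (f688709 IH) (Lpr_gt (f335151 IH) (Lpe (f362744 IH) (Lpn (LP (LK LD1_c27 LD2_c33 LD3_c37))))))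
theorem f688723 : Led Lsl_af (LP (LK LD1_c10 LD2_c0 LD3_c37)) = (LP (LK LD1_c17 LD2_c46 LD3_c49)) :=
  Lgr Lrot117 (Lpr_dt (K26.f330708 IH) (Lpr_at (f688719 IH) (Lpr_dt (f214560 IH) (Lpn (LP (LK LD1_c17 LD2_c46 LD3_c49))))))
theorem f362971 : Led Lsl_gf (LP (LK LD1_c10 LD2_c0 LD3_c37)) = (LP (LK LD1_c10 LD2_c12 LD3_c20)) :=
  Lgr Lrot104 (Lpr_ct (K22.f165393 IH) (Lpe (K23.f185940 IH) (Lpe (K22.f185932 IH) (Lpe (K49.f355930 IH) (Lpe (K25.f355899 IH) (Lpr_gf (K26.f362967 IH) (Lpe (K25.f233656 IH) (Lpr_gt (K25.f46121 IH) (Lpe (K22.f233648 IH) (Lpn (LP (LK LD1_c10 LD2_c12 LD3_c20))))))))))))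
theorem f688736 : Led Lsl_ft (LP (LK LD1_c17 LD2_c47 LD3_c61)) = (LP (LK LD1_c17 LD2_c46 LD3_c49)) :=
  Lgr Lrot2 (Lpr_gt (K22.f330778 IH) (Lpe (f362971 IH) (Lpr_af (f688723 IH) (Lpn (LP (LK LD1_c17 LD2_c46 LD3_c49))))))
theorem f688744 : Led Lsl_ff (LP (LK LD1_c17 LD2_c47 LD3_c61)) = (LP (LK LD1_c17 LD2_c46 LD3_c49)) :=
  Lgr Lrot3 (Lpr_ft (f688736 IH) (Lpn (LP (LK LD1_c17 LD2_c46 LD3_c49))))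
theorem f688732 : Led Lsl_at (LP (LK LD1_c10 LD2_c0 LD3_c37)) = (LP (LK LD1_c17 LD2_c46 LD3_c49)) :=
  Lgr Lrot100 (Lpr_af (f688723 IH) (Lpn (LP (LK LD1_c17 LD2_c46 LD3_c49))))
theorem f330644 : Led Lsl_bt (LP (LK LD1_c10 LD2_c0 LD3_c37)) = (LP (LK LD1_c18 LD2_c17 LD3_c34)) :=
  Lre_b IH (LK LD1_c10 LD2_c0 LD3_c37) (LK LD1_c18 LD2_c17 LD3_c34) Lrfl Lrfl
theorem f335155 : Led Lsl_bt (LP (LK LD1_c18 LD2_c38 LD3_c32)) = (LP (LK LD1_c10 LD2_c14 LD3_c37)) :=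
  Lre_b IH (LK LD1_c18 LD2_c38 LD3_c32) (LK LD1_c10 LD2_c14 LD3_c37) Lrfl Lrfl
theorem f688698 : Led Lsl_ff (LP (LK LD1_c10 LD2_c0 LD3_c37)) = (LP (LK LD1_c10 LD2_c14 LD3_c37)) :=
  Lgr Lrot25 (Lpr_bt (f330644 IH) (Lpr_ft (f688695 IH) (Lpr_bt (f335155 IH) (Lpn (LP (LK LD1_c10 LD2_c14 LD3_c37))))))
theorem f688746 : Led Lsl_at (LP (LK LD1_c17 LD2_c47 LD3_c61)) = (LP (LK LD1_c10 LD2_c14 LD3_c37)) :=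
  Lgr Lrot66 (Lpr_ff (f688744 IH) (Lpe (f688732 IH) (Lpr_ff (f688698 IH) (Lpn (LP (LK LD1_c10 LD2_c14 LD3_c37))))))
theorem f377181 : Led Lsl_et (LP (LK LD1_c27 LD2_c35 LD3_c21)) = (LP (LK LD1_c17 LD2_c47 LD3_c61)) :=
  Lre_e IH (LK LD1_c27 LD2_c35 LD3_c21) (LK LD1_c17 LD2_c47 LD3_c61) Lrfl Lrfl
theorem f688760 : Led Lsl_af (LP (LK LD1_c27 LD2_c35 LD3_c21)) = (LP (LK LD1_c18 LD2_c38 LD3_c34)) :=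
  Lgr Lrot50 (Lpr_et (f377181 IH) (Lpr_at (f688746 IH) (Lpr_et (K46.f335165 IH) (Lpn (LP (LK LD1_c18 LD2_c38 LD3_c34))))))
theorem f250458 : Led Lsl_dt (LP (LK LD1_c17 LD2_c47 LD3_c6)) = (LP (LK LD1_c9 LD2_c40 LD3_c9)) :=
  Lre_d IH (LK LD1_c17 LD2_c47 LD3_c6) (LK LD1_c9 LD2_c40 LD3_c9) Lrfl Lrfl
theorem f250457 : Led Lsl_ct (LP (LK LD1_c9 LD2_c40 LD3_c9)) = (LP (LK LD1_c4 LD2_c54 LD3_c21)) :=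
  Lre_c IH (LK LD1_c9 LD2_c40 LD3_c9) (LK LD1_c4 LD2_c54 LD3_c21) Lrfl Lrfl
theorem f362911 : Led Lsl_gt (LP (LK LD1_c17 LD2_c52 LD3_c53)) = (LP (LK LD1_c18 LD2_c35 LD3_c26)) :=
  Lgr Lrot94 (Lpe (K49.f330523 IH) (Lpr_gt (f330534 IH) (Lpe (K19.f305761 IH) (Lpr_gt (K19.f305759 IH) (Lpr_dt (K19.f250460 IH) (Lpe (f250457 IH) (Lpe (f250458 IH) (Lpe (K26.f250468 IH) (Lpr_df (K26.f362907 IH) (Lpn (LP (LK LD1_c18 LD2_c35 LD3_c26))))))))))))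
theorem f688768 : Led Lsl_ft (LP (LK LD1_c17 LD2_c52 LD3_c53)) = (LP (LK LD1_c18 LD2_c38 LD3_c34)) :=
  Lgr Lrot2 (Lpr_gt (f362911 IH) (Lpe (K26.f362919 IH) (Lpr_af (f688760 IH) (Lpn (LP (LK LD1_c18 LD2_c38 LD3_c34))))))
theorem f688776 : Led Lsl_ff (LP (LK LD1_c17 LD2_c52 LD3_c53)) = (LP (LK LD1_c18 LD2_c38 LD3_c34)) :=
  Lgr Lrot3 (Lpr_ft (f688768 IH) (Lpn (LP (LK LD1_c18 LD2_c38 LD3_c34))))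
theorem f688784 : Led Lsl_at (LP (LK LD1_c17 LD2_c52 LD3_c53)) = (LP (LK LD1_c24 LD2_c50 LD3_c47)) :=
  Lgr Lrot26 (Lpr_ff (f688776 IH) (Lpr_gt (K46.f355920 IH) (Lpe (K26.f346271 IH) (Lpn (LP (LK LD1_c24 LD2_c50 LD3_c47))))))
theorem f688762 : Led Lsl_at (LP (LK LD1_c27 LD2_c35 LD3_c21)) = (LP (LK LD1_c18 LD2_c38 LD3_c34)) :=
  Lgr Lrot100 (Lpr_af (f688760 IH) (Lpn (LP (LK LD1_c18 LD2_c38 LD3_c34))))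
theorem f688794 : Led Lsl_ff (LP (LK LD1_c27 LD2_c35 LD3_c21)) = (LP (LK LD1_c24 LD2_c50 LD3_c47)) :=
  Lgr Lrot30 (Lpr_at (f688762 IH) (Lpe (f688776 IH) (Lpr_at (f688784 IH) (Lpn (LP (LK LD1_c24 LD2_c50 LD3_c47))))))
theorem f688802 : Led Lsl_ft (LP (LK LD1_c27 LD2_c35 LD3_c21)) = (LP (LK LD1_c24 LD2_c50 LD3_c47)) :=
  Lgr Lrot48 (Lpr_ff (f688794 IH) (Lpn (LP (LK LD1_c24 LD2_c50 LD3_c47))))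
theorem f335251 : Led Lsl_et (LP (LK LD1_c27 LD2_c33 LD3_c38)) = (LP (LK LD1_c17 LD2_c46 LD3_c49)) :=
  Lre_e IH (LK LD1_c27 LD2_c33 LD3_c38) (LK LD1_c17 LD2_c46 LD3_c49) Lrfl Lrfl
theorem f351855 : Led Lsl_ef (LP (LK LD1_c15 LD2_c2 LD3_c15)) = (LP (LK LD1_c9 LD2_c42 LD3_c19)) :=
  Lgr Lrot73 (Lpr_dt (K26.f300189 IH) (Lpr_et (K25.f351849 IH) (Lpe (K25.f351833 IH) (Lpr_et (K25.f351835 IH) (Lpr_dt (K26.f168575 IH) (Lpn (LP (LK LD1_c9 LD2_c42 LD3_c19))))))))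
theorem f288365 : Led Lsl_ct (LP (LK LD1_c17 LD2_c51 LD3_c1)) = (LP (LK LD1_c9 LD2_c42 LD3_c19)) :=
  Lre_c IH (LK LD1_c17 LD2_c51 LD3_c1) (LK LD1_c9 LD2_c42 LD3_c19) Lrfl Lrfl
theorem f379640 : Led Lsl_et (LP (LK LD1_c24 LD2_c50 LD3_c47)) = (LP (LK LD1_c17 LD2_c51 LD3_c1)) :=
  Lgr Lrot158 (Lpe (K26.f167974 IH) (Lpr_ef (f351855 IH) (Lpe (f288365 IH) (Lpn (LP (LK LD1_c17 LD2_c51 LD3_c1))))))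
theorem f688808 : Led Lsl_ff (LP (LK LD1_c27 LD2_c33 LD3_c38)) = (LP (LK LD1_c17 LD2_c51 LD3_c1)) :=
  Lgr Lrot72 (Lpr_et (f335251 IH) (Lpe (f688744 IH) (Lpr_et (K26.f352124 IH) (Lpr_ft (f688802 IH) (Lpr_et (f379640 IH) (Lpn (LP (LK LD1_c17 LD2_c51 LD3_c1))))))))
theorem f168576 : Led Lsl_ct (LP (LK LD1_c9 LD2_c42 LD3_c19)) = (LP (LK LD1_c17 LD2_c51 LD3_c1)) :=
  Lre_c IH (LK LD1_c9 LD2_c42 LD3_c19) (LK LD1_c17 LD2_c51 LD3_c1) Lrfl Lrfl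
theorem f688812 : Led Lsl_ft (LP (LK LD1_c17 LD2_c46 LD3_c51)) = (LP (LK LD1_c9 LD2_c42 LD3_c19)) :=
  Lgr Lrot4 (Lpe (K25.f259604 IH) (Lpr_ff (f688808 IH) (Lpe (f168576 IH) (Lpn (LP (LK LD1_c9 LD2_c42 LD3_c19))))))
theorem f688818 : Led Lsl_af (LP (LK LD1_c15 LD2_c3 LD3_c25)) = (LP (LK LD1_c9 LD2_c42 LD3_c19)) :=
  Lgr Lrot31 (Lpe (f370993 IH) (Lpr_gf (K25.f330795 IH) (Lpr_ft (f688812 IH) (Lpn (LP (LK LD1_c9 LD2_c42 LD3_c19))))))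
theorem f251334 : Led Lsl_dt (LP (LK LD1_c9 LD2_c42 LD3_c19)) = (LP (LK LD1_c4 LD2_c55 LD3_c21)) :=
  Lre_d IH (LK LD1_c9 LD2_c42 LD3_c19) (LK LD1_c4 LD2_c55 LD3_c21) Lrfl Lrfl
theorem f351847 : Led Lsl_et (LP (LK LD1_c15 LD2_c2 LD3_c15)) = (LP (LK LD1_c9 LD2_c42 LD3_c19)) :=
  Lgr Lrot71 (Lpe (K25.f167973 IH) (Lpr_ef (K25.f351841 IH) (Lpe (K25.f351822 IH) (Lpr_ef (K26.f351837 IH) (Lpe (f251334 IH) (Lpn (LP (LK LD1_c9 LD2_c42 LD3_c19))))))))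
theorem f688826 : Led Lsl_at (LP (LK LD1_c9 LD2_c43 LD3_c36)) = (LP (LK LD1_c15 LD2_c2 LD3_c15)) :=
  Lgr Lrot80 (Lpe (f355149 IH) (Lpr_af (f688818 IH) (Lpe (f351847 IH) (Lpn (LP (LK LD1_c15 LD2_c2 LD3_c15))))))
theorem f688830 : Led Lsl_af (LP (LK LD1_c4 LD2_c55 LD3_c57)) = (LP (LK LD1_c7 LD2_c58 LD3_c15)) :=
  Lgr Lrot117 (Lpr_dt (K49.f330522 IH) (Lpr_at (f688826 IH) (Lpr_dt (K26.f300189 IH) (Lpn (LP (LK LD1_c7 LD2_c58 LD3_c15))))))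
theorem f688836 : Led Lsl_ft (LP (LK LD1_c15 LD2_c1 LD3_c1)) = (LP (LK LD1_c7 LD2_c58 LD3_c15)) :=
  Lgr Lrot2 (Lpr_gt (K14.f189495 IH) (Lpe (K21.f330519 IH) (Lpr_af (f688830 IH) (Lpn (LP (LK LD1_c7 LD2_c58 LD3_c15))))))
theorem f688842 : Led Lsl_ff (LP (LK LD1_c15 LD2_c1 LD3_c1)) = (LP (LK LD1_c7 LD2_c58 LD3_c15)) :=
  Lgr Lrot3 (Lpr_ft (f688836 IH) (Lpn (LP (LK LD1_c7 LD2_c58 LD3_c15))))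
theorem f373261 : Led Lsl_cf (LP (LK LD1_c18 LD2_c9 LD3_c0)) = (LP (LK LD1_c26 LD2_c37 LD3_c44)) :=
  Lgr Lrot11 (Lpr_ct (f373259 IH) (Lpn (LP (LK LD1_c26 LD2_c37 LD3_c44))))
theorem f688489 : Led Lsl_ft (LP (LK LD1_c18 LD2_c9 LD3_c0)) = (LP (LK LD1_c17 LD2_c49 LD3_c56)) :=
  Lgr Lrot4 (Lpr_cf (f373261 IH) (Lpr_ff (f688487 IH) (Lpe (f252608 IH) (Lpn (LP (LK LD1_c17 LD2_c49 LD3_c56))))))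
theorem f688848 : Led Lsl_ft (LP (LK LD1_c9 LD2_c41 LD3_c37)) = (LP (LK LD1_c8 LD2_c13 LD3_c48)) :=
  Lgr Lrot86 (Lpe (K25.f216287 IH) (Lpe (f688489 IH) (Lpr_ef (K21.f251645 IH) (Lpr_ff (f688842 IH) (Lpr_ef (K25.f351841 IH) (Lpn (LP (LK LD1_c8 LD2_c13 LD3_c48))))))))
theorem f356264 : Led Lsl_ct (LP (LK LD1_c17 LD2_c49 LD3_c55)) = (LP (LK LD1_c9 LD2_c41 LD3_c37)) :=
  Lre_c IH (LK LD1_c17 LD2_c49 LD3_c55) (LK LD1_c9 LD2_c41 LD3_c37) Lrfl Lrfl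
theorem f688852 : Led Lsl_ff (LP (LK LD1_c17 LD2_c49 LD3_c55)) = (LP (LK LD1_c15 LD2_c28 LD3_c58)) :=
  Lgr Lrot23 (Lpr_ct (f356264 IH) (Lpr_ft (f688848 IH) (Lpr_ct (K25.f187334 IH) (Lpn (LP (LK LD1_c15 LD2_c28 LD3_c58))))))
theorem f688858 : Led Lsl_at (LP (LK LD1_c17 LD2_c49 LD3_c55)) = (LP (LK LD1_c11 LD2_c6 LD3_c6)) :=
  Lgr Lrot26 (Lpr_ff (f688852 IH) (Lpr_gt (K25.f356394 IH) (Lpr_gt (K27.f338644 IH) (Lpn (LP (LK LD1_c11 LD2_c6 LD3_c6))))))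
theorem f338647 : Led Lsl_ct (LP (LK LD1_c11 LD2_c6 LD3_c6)) = (LP (LK LD1_c5 LD2_c36 LD3_c61)) :=
  Lre_c IH (LK LD1_c11 LD2_c6 LD3_c6) (LK LD1_c5 LD2_c36 LD3_c61) Lrfl Lrfl
theorem f688860 : Led Lsl_af (LP (LK LD1_c9 LD2_c41 LD3_c37)) = (LP (LK LD1_c5 LD2_c36 LD3_c61)) :=
  Lgr Lrot68 (Lpr_ct (K25.f213973 IH) (Lpr_at (f688858 IH) (Lpr_ct (f338647 IH) (Lpn (LP (LK LD1_c5 LD2_c36 LD3_c61))))))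
theorem f688872 : Led Lsl_at (LP (LK LD1_c17 LD2_c49 LD3_c56)) = (LP (LK LD1_c11 LD2_c6 LD3_c7)) :=
  Lgr Lrot80 (Lpe (K25.f252604 IH) (Lpr_af (f688860 IH) (Lpe (K23.f342398 IH) (Lpn (LP (LK LD1_c11 LD2_c6 LD3_c7))))))
theorem f356258 : Led Lsl_bt (LP (LK LD1_c18 LD2_c11 LD3_c46)) = (LP (LK LD1_c17 LD2_c49 LD3_c56)) :=
  Lgr Lrot127 (Lpr_bf (K25.f356256 IH) (Lpn (LP (LK LD1_c17 LD2_c49 LD3_c56))))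
theorem f688874 : Led Lsl_af (LP (LK LD1_c18 LD2_c11 LD3_c46)) = (LP (LK LD1_c15 LD2_c25 LD3_c36)) :=
  Lgr Lrot36 (Lpr_bt (f356258 IH) (Lpr_at (f688872 IH) (Lpr_bt (K23.f237819 IH) (Lpe (f688414 IH) (Lpr_bt (K23.f342456 IH) (Lpn (LP (LK LD1_c15 LD2_c25 LD3_c36))))))))
theorem f342029 : Led Lsl_cf (LP (LK LD1_c18 LD2_c39 LD3_c44)) = (LP (LK LD1_c18 LD2_c12 LD3_c32)) :=
  Lgr Lrot166 (Lpe (K26.f342027 IH) (Lpr_dt (K23.f342022 IH) (Lpr_gt (K22.f196827 IH) (Lpr_dt (K18.f223859 IH) (Lpr_ct (f306478 IH) (Lpe (K26.f306418 IH) (Lpe (K26.f224754 IH) (Lpr_df (K26.f320314 IH) (Lpe (K23.f312645 IH) (Lpn (LP (LK LD1_c18 LD2_c12 LD3_c32))))))))))))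
theorem f367190 : Led Lsl_gt (LP (LK LD1_c17 LD2_c51 LD3_c0)) = (LP (LK LD1_c9 LD2_c42 LD3_c21)) :=
  Lgr Lrot9 (Lpr_df (K27.f367184 IH) (Lpr_gt (K27.f342031 IH) (Lpr_ct (K23.f257614 IH) (Lpr_gt (K23.f247673 IH) (Lpe (f342029 IH) (Lpr_df (K18.f291699 IH) (Lpe (K49.f306421 IH) (Lpe (K26.f330694 IH) (Lpe (K26.f330687 IH) (Lpn (LP (LK LD1_c9 LD2_c42 LD3_c21))))))))))))
theorem f307164 : Led Lsl_ef (LP (LK LD1_c15 LD2_c24 LD3_c44)) = (LP (LK LD1_c9 LD2_c1 LD3_c14)) :=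
  Lgr Lrot88 (Lpr_et (K19.f307142 IH) (Lpn (LP (LK LD1_c9 LD2_c1 LD3_c14))))
theorem f307155 : Led Lsl_gt (LP (LK LD1_c4 LD2_c53 LD3_c22)) = (LP (LK LD1_c9 LD2_c38 LD3_c44)) :=
  Lre_g IH (LK LD1_c4 LD2_c53 LD3_c22) (LK LD1_c9 LD2_c38 LD3_c44) Lrfl Lrfl
theorem f180037 : Led Lsl_dt (LP (LK LD1_c9 LD2_c38 LD3_c51)) = (LP (LK LD1_c4 LD2_c53 LD3_c22)) :=
  Lre_d IH (LK LD1_c9 LD2_c38 LD3_c51) (LK LD1_c4 LD2_c53 LD3_c22) Lrfl Lrfl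
theorem f359182 : Led Lsl_bt (LP (LK LD1_c9 LD2_c57 LD3_c37)) = (LP (LK LD1_c18 LD2_c13 LD3_c34)) :=
  Lre_b IH (LK LD1_c9 LD2_c57 LD3_c37) (LK LD1_c18 LD2_c13 LD3_c34) Lrfl Lrfl
theorem f359380 : Led Lsl_bt (LP (LK LD1_c17 LD2_c45 LD3_c2)) = (LP (LK LD1_c9 LD2_c38 LD3_c51)) :=
  Lre_b IH (LK LD1_c17 LD2_c45 LD3_c2) (LK LD1_c9 LD2_c38 LD3_c51) Lrfl Lrfl
theorem f359381 : Led Lsl_ef (LP (LK LD1_c9 LD2_c57 LD3_c37)) = (LP (LK LD1_c9 LD2_c38 LD3_c51)) :=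
  Lgr Lrot29 (Lpr_bt (f359182 IH) (Lpr_et (K26.f359376 IH) (Lpr_bt (f359380 IH) (Lpn (LP (LK LD1_c9 LD2_c38 LD3_c51))))))
theorem f367192 : Led Lsl_gt (LP (LK LD1_c9 LD2_c42 LD3_c22)) = (LP (LK LD1_c9 LD2_c57 LD3_c37)) :=
  Lgr Lrot131 (Lpe (K23.f330682 IH) (Lpr_dt (f330696 IH) (Lpe (f367190 IH) (Lpr_df (K27.f367184 IH) (Lpe (K27.f344962 IH) (Lpr_ef (f307164 IH) (Lpr_dt (K19.f307071 IH) (Lpe (f307155 IH) (Lpe (f180037 IH) (Lpe (f359381 IH) (Lpn (LP (LK LD1_c9 LD2_c57 LD3_c37)))))))))))))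
theorem f688876 : Led Lsl_ft (LP (LK LD1_c9 LD2_c42 LD3_c22)) = (LP (LK LD1_c15 LD2_c25 LD3_c36)) :=
  Lgr Lrot2 (Lpr_gt (f367192 IH) (Lpe (K26.f359149 IH) (Lpr_af (f688874 IH) (Lpn (LP (LK LD1_c15 LD2_c25 LD3_c36))))))
theorem f688425 : Led Lsl_ff (LP (LK LD1_c5 LD2_c37 LD3_c1)) = (LP (LK LD1_c8 LD2_c11 LD3_c36)) :=
  Lgr Lrot25 (Lpr_bt (f350554 IH) (Lpr_ft (K49.f638694 IH) (Lpq (f688420 IH) (Lpr_bt (K23.f342448 IH) (Lpn (LP (LK LD1_c8 LD2_c11 LD3_c36)))))))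
theorem f281375 : Led Lsl_bt (LP (LK LD1_c7 LD2_c58 LD3_c49)) = (LP (LK LD1_c3 LD2_c58 LD3_c38)) :=
  Lre_b IH (LK LD1_c7 LD2_c58 LD3_c49) (LK LD1_c3 LD2_c58 LD3_c38) Lrfl Lrfl
theorem f370982 : Led Lsl_bt (LP (LK LD1_c2 LD2_c44 LD3_c23)) = (LP (LK LD1_c5 LD2_c37 LD3_c1)) :=
  Lre_b IH (LK LD1_c2 LD2_c44 LD3_c23) (LK LD1_c5 LD2_c37 LD3_c1) Lrfl Lrfl
theorem f370983 : Led Lsl_ef (LP (LK LD1_c7 LD2_c58 LD3_c49)) = (LP (LK LD1_c5 LD2_c37 LD3_c1)) :=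
  Lgr Lrot29 (Lpr_bt (f281375 IH) (Lpr_et (K49.f370980 IH) (Lpr_bt (f370982 IH) (Lpn (LP (LK LD1_c5 LD2_c37 LD3_c1))))))
theorem f688880 : Led Lsl_ff (LP (LK LD1_c4 LD2_c55 LD3_c22)) = (LP (LK LD1_c7 LD2_c58 LD3_c49)) :=
  Lgr Lrot72 (Lpr_et (K23.f330682 IH) (Lpr_ft (f688876 IH) (Lpr_et (K23.f247648 IH) (Lpe (f688425 IH) (Lpe (f370983 IH) (Lpn (LP (LK LD1_c7 LD2_c58 LD3_c49))))))))
theorem f367268 : Led Lsl_et (LP (LK LD1_c5 LD2_c2 LD3_c60)) = (LP (LK LD1_c9 LD2_c54 LD3_c56)) :=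
  Lgr Lrot74 (Lpe (K18.f257678 IH) (Lpr_ef (K27.f367266 IH) (Lpr_bf (K27.f250123 IH) (Lpn (LP (LK LD1_c9 LD2_c54 LD3_c56))))))
theorem f373224 : Led Lsl_gt (LP (LK LD1_c7 LD2_c58 LD3_c49)) = (LP (LK LD1_c4 LD2_c55 LD3_c24)) :=
  Lgr Lrot139 (Lpe (f355155 IH) (Lpe (f370993 IH) (Lpe (K17.f250410 IH) (Lpr_dt (K25.f250404 IH) (Lpr_gf (f373220 IH) (Lpe (K26.f278411 IH) (Lpr_et (K26.f359143 IH) (Lpr_gf (K27.f368254 IH) (Lpe (f367268 IH) (Lpe (K27.f367463 IH) (Lpn (LP (LK LD1_c4 LD2_c55 LD3_c24)))))))))))))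
theorem f688888 : Led Lsl_at (LP (LK LD1_c4 LD2_c55 LD3_c22)) = (LP (LK LD1_c9 LD2_c40 LD3_c45)) :=
  Lgr Lrot26 (Lpr_ff (f688880 IH) (Lpr_gt (f373224 IH) (Lpr_gt (K27.f367466 IH) (Lpn (LP (LK LD1_c9 LD2_c40 LD3_c45))))))
theorem f688896 : Led Lsl_af (LP (LK LD1_c9 LD2_c42 LD3_c22)) = (LP (LK LD1_c17 LD2_c48 LD3_c20)) :=
  Lgr Lrot50 (Lpr_et (K23.f278269 IH) (Lpr_at (f688888 IH) (Lpr_et (K15.f259601 IH) (Lpn (LP (LK LD1_c17 LD2_c48 LD3_c20))))))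
theorem f335202 : Led Lsl_bt (LP (LK LD1_c18 LD2_c9 LD3_c0)) = (LP (LK LD1_c17 LD2_c48 LD3_c20)) :=
  Lgr Lrot95 (Lpe (K14.f250126 IH) (Lpr_bf (K22.f335196 IH) (Lpe (K15.f259597 IH) (Lpn (LP (LK LD1_c17 LD2_c48 LD3_c20))))))
theorem f688485 : Led Lsl_af (LP (LK LD1_c18 LD2_c9 LD3_c0)) = (LP (LK LD1_c15 LD2_c2 LD3_c17)) :=
  Lgr Lrot68 (Lpr_ct (f373259 IH) (Lpr_at (f688481 IH) (Lpr_ct (K23.f312409 IH) (Lpn (LP (LK LD1_c15 LD2_c2 LD3_c17))))))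
theorem f312407 : Led Lsl_bt (LP (LK LD1_c7 LD2_c58 LD3_c51)) = (LP (LK LD1_c15 LD2_c2 LD3_c17)) :=
  Lgr Lrot95 (Lpe (K25.f250345 IH) (Lpe (K19.f298640 IH) (Lpr_df (K19.f312405 IH) (Lpn (LP (LK LD1_c15 LD2_c2 LD3_c17))))))
theorem f688936 : Led Lsl_at (LP (LK LD1_c4 LD2_c55 LD3_c60)) = (LP (LK LD1_c7 LD2_c58 LD3_c51)) :=
  Lgr Lrot67 (Lpe (K53.f330750 IH) (Lpr_af (f688896 IH) (Lpe (f335202 IH) (Lpr_af (f688485 IH) (Lpe (f312407 IH) (Lpn (LP (LK LD1_c7 LD2_c58 LD3_c51))))))))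
theorem f185882 : Led Lsl_et (LP (LK LD1_c2 LD2_c42 LD3_c7)) = (LP (LK LD1_c5 LD2_c31 LD3_c57)) :=
  Lre_e IH (LK LD1_c2 LD2_c42 LD3_c7) (LK LD1_c5 LD2_c31 LD3_c57) Lrfl Lrfl
theorem f185883 : Led Lsl_ct (LP (LK LD1_c5 LD2_c31 LD3_c57)) = (LP (LK LD1_c4 LD2_c55 LD3_c60)) :=
  Lgr Lrot15 (Lpe (f185882 IH) (Lpr_cf (K19.f185868 IH) (Lpe (K18.f181886 IH) (Lpn (LP (LK LD1_c4 LD2_c55 LD3_c60))))))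
theorem f226714 : Led Lsl_et (LP (LK LD1_c8 LD2_c57 LD3_c33)) = (LP (LK LD1_c4 LD2_c29 LD3_c40)) :=
  Lre_e IH (LK LD1_c8 LD2_c57 LD3_c33) (LK LD1_c4 LD2_c29 LD3_c40) Lrfl Lrfl
theorem f306819 : Led Lsl_ct (LP (LK LD1_c7 LD2_c58 LD3_c51)) = (LP (LK LD1_c8 LD2_c57 LD3_c33)) :=
  Lgr Lrot15 (Lpe (K49.f171293 IH) (Lpr_cf (f306814 IH) (Lpe (f226714 IH) (Lpn (LP (LK LD1_c8 LD2_c57 LD3_c33))))))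
theorem f688938 : Led Lsl_af (LP (LK LD1_c5 LD2_c31 LD3_c57)) = (LP (LK LD1_c8 LD2_c57 LD3_c33)) :=
  Lgr Lrot68 (Lpr_ct (f185883 IH) (Lpr_at (f688936 IH) (Lpr_ct (f306819 IH) (Lpn (LP (LK LD1_c8 LD2_c57 LD3_c33))))))
theorem f688940 : Led Lsl_at (LP (LK LD1_c5 LD2_c31 LD3_c57)) = (LP (LK LD1_c8 LD2_c57 LD3_c33)) :=
  Lgr Lrot100 (Lpr_af (f688938 IH) (Lpn (LP (LK LD1_c8 LD2_c57 LD3_c33))))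
theorem f367697 : Led Lsl_ef (LP (LK LD1_c28 LD2_c8 LD3_c57)) = (LP (LK LD1_c19 LD2_c19 LD3_c11)) :=
  Lgr Lrot88 (Lpr_et (K53.f367682 IH) (Lpn (LP (LK LD1_c19 LD2_c19 LD3_c11))))
theorem f361308 : Led Lsl_df (LP (LK LD1_c19 LD2_c16 LD3_c26)) = (LP (LK LD1_c19 LD2_c19 LD3_c11)) :=
  Lgr Lrot153 (Lpr_gt (K25.f307780 IH) (Lpr_dt (K24.f288688 IH) (Lpe (K19.f241960 IH) (Lpe (K19.f307768 IH) (Lpe (K22.f299461 IH) (Lpe (K20.f316351 IH) (Lpr_gf (K25.f316375 IH) (Lpe (K53.f184362 IH) (Lpr_gt (K53.f361306 IH) (Lpn (LP (LK LD1_c19 LD2_c19 LD3_c11))))))))))))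
theorem f367699 : Led Lsl_gt (LP (LK LD1_c28 LD2_c8 LD3_c57)) = (LP (LK LD1_c19 LD2_c8 LD3_c45)) :=
  Lgr Lrot137 (Lpr_ef (f367697 IH) (Lpe (f361308 IH) (Lpe (K25.f307833 IH) (Lpe (K21.f256527 IH) (Lpe (K18.f256505 IH) (Lpe (K16.f259774 IH) (Lpe (K26.f277477 IH) (Lpr_dt (K23.f277166 IH) (Lpe (K26.f342823 IH) (Lpe (K23.f256503 IH) (Lpn (LP (LK LD1_c19 LD2_c8 LD3_c45)))))))))))))
theorem f312433 : Led Lsl_ct (LP (LK LD1_c18 LD2_c34 LD3_c36)) = (LP (LK LD1_c28 LD2_c8 LD3_c57)) :=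
  Lre_c IH (LK LD1_c18 LD2_c34 LD3_c36) (LK LD1_c28 LD2_c8 LD3_c57) Lrfl Lrfl
theorem f312432 : Led Lsl_bt (LP (LK LD1_c18 LD2_c34 LD3_c36)) = (LP (LK LD1_c10 LD2_c11 LD3_c52)) :=
  Lre_b IH (LK LD1_c18 LD2_c34 LD3_c36) (LK LD1_c10 LD2_c11 LD3_c52) Lrfl Lrfl
theorem f256502 : Led Lsl_ct (LP (LK LD1_c10 LD2_c34 LD3_c13)) = (LP (LK LD1_c19 LD2_c8 LD3_c45)) :=
  Lre_c IH (LK LD1_c10 LD2_c34 LD3_c13) (LK LD1_c19 LD2_c8 LD3_c45) Lrfl Lrfl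
theorem f341827 : Led Lsl_bf (LP (LK LD1_c5 LD2_c26 LD3_c53)) = (LP (LK LD1_c10 LD2_c34 LD3_c13)) :=
  Lgr Lrot24 (Lpr_bt (K27.f341823 IH) (Lpn (LP (LK LD1_c10 LD2_c34 LD3_c13))))
theorem f309769 : Led Lsl_ct (LP (LK LD1_c2 LD2_c43 LD3_c26)) = (LP (LK LD1_c5 LD2_c35 LD3_c2)) :=
  Lre_c IH (LK LD1_c2 LD2_c43 LD3_c26) (LK LD1_c5 LD2_c35 LD3_c2) Lrfl Lrfl
theorem f367705 : Led Lsl_gf (LP (LK LD1_c8 LD2_c57 LD3_c33)) = (LP (LK LD1_c5 LD2_c35 LD3_c2)) :=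
  Lgr Lrot129 (Lpe (f306819 IH) (Lpr_bt (f312407 IH) (Lpe (K25.f312418 IH) (Lpe (f312432 IH) (Lpr_ct (f312433 IH) (Lpr_gt (f367699 IH) (Lpe (f256502 IH) (Lpe (f341827 IH) (Lpr_gt (K19.f309767 IH) (Lpr_ct (f309769 IH) (Lpn (LP (LK LD1_c5 LD2_c35 LD3_c2)))))))))))))
theorem f731674 : Led Lsl_gf (LP (LK LD1_c5 LD2_c35 LD3_c2)) = v15100 :=
  Lgr Lrot47 (Lpe (f367705 IH) (Lpe (f688940 IH) (Lpr_ff (f731671 IH) (Lpn v15100))))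
theorem f629864 : Led Lsl_ff (LP (LK LD1_c2 LD2_c6 LD3_c16)) = K35.v4120 :=
  Lgr Lrot3 (Lpr_ft (K35.f629861 IH) (Lpn K35.v4120))
theorem f629860 : Led Lsl_et K35.v4099 = K35.v4120 :=
  Lgr Lrot87 (Lpr_ef (K35.f629859 IH) (Lpn K35.v4120))
theorem f629865 : Led Lsl_ft (LP (LK LD1_c4 LD2_c17 LD3_c59)) = (LP (LK LD1_c4 LD2_c11 LD3_c40)) :=
  Lgr Lrot86 (Lpe (K20.f178855 IH) (Lpr_ff (f629864 IH) (Lpe (f629860 IH) (Lpe (K35.f629415 IH) (Lpe (K22.f170623 IH) (Lpn (LP (LK LD1_c4 LD2_c11 LD3_c40))))))))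
theorem f629871 : Led Lsl_af (LP (LK LD1_c4 LD2_c18 LD3_c13)) = (LP (LK LD1_c4 LD2_c11 LD3_c40)) :=
  Lgr Lrot31 (Lpr_gf (K23.f348191 IH) (Lpe (K23.f348186 IH) (Lpr_ft (f629865 IH) (Lpn (LP (LK LD1_c4 LD2_c11 LD3_c40))))))
theorem f629877 : (LP (LK LD1_c2 LD2_c6 LD3_c23)) = K35.v4097 :=
  (Llr Lrot123 (Lpe (K26.f167431 IH) (Lpr_af (f629871 IH) (Lpe (K22.f304454 IH) (Lpr_af (K35.f629409 IH) (Lpn K35.v4097)))))).symm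
theorem f333687 : Led Lsl_dt (LP (LK LD1_c2 LD2_c35 LD3_c58)) = (LP (LK LD1_c2 LD2_c3 LD3_c1)) :=
  Lgr Lrot42 (Lpr_df (K22.f333682 IH) (Lpn (LP (LK LD1_c2 LD2_c3 LD3_c1))))
theorem f629884 : Led Lsl_ff (LP (LK LD1_c2 LD2_c35 LD3_c58)) = (LP (LK LD1_c2 LD2_c35 LD3_c0)) :=
  Lgr Lrot19 (Lpr_dt (f333687 IH) (Lpr_ft (K35.f629410 IH) (Lpq (f629877 IH) (Lpe (K20.f322387 IH) (Lpn (LP (LK LD1_c2 LD2_c35 LD3_c0)))))))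
theorem f629892 : Led Lsl_at (LP (LK LD1_c2 LD2_c35 LD3_c58)) = (LP (LK LD1_c2 LD2_c35 LD3_c1)) :=
  Lgr Lrot26 (Lpr_ff (f629884 IH) (Lpe (K20.f307923 IH) (Lpr_gt (K22.f307919 IH) (Lpn (LP (LK LD1_c2 LD2_c35 LD3_c1))))))
theorem f629900 : K35.v4099 = (LP (LK LD1_c2 LD2_c6 LD3_c24)) :=
  (Llr Lrot117 (Lpe (K35.f629416 IH) (Lpe (K22.f333682 IH) (Lpr_at (f629892 IH) (Lpr_dt (K22.f333368 IH) (Lpn (LP (LK LD1_c2 LD2_c6 LD3_c24)))))))).symm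
theorem f629905 : K35.v4120 = (LP (LK LD1_c2 LD2_c2 LD3_c53)) :=
  Lefun (Lecon (f629860 IH) (f629900 IH)) (K22.f333376 IH)
theorem f629919 : Led Lsl_ff (LP (LK LD1_c4 LD2_c11 LD3_c21)) = (LP (LK LD1_c4 LD2_c17 LD3_c58)) :=
  Lgr Lrot19 (Lpr_dt (K21.f195720 IH) (Lpq (f629905 IH) (Lpe (f629864 IH) (Lpr_dt (K20.f178857 IH) (Lpn (LP (LK LD1_c4 LD2_c17 LD3_c58)))))))
theorem f629927 : Led Lsl_at (LP (LK LD1_c4 LD2_c11 LD3_c21)) = (LP (LK LD1_c4 LD2_c17 LD3_c56)) :=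
  Lgr Lrot26 (Lpr_ff (f629919 IH) (Lpe (K22.f333341 IH) (Lpe (K22.f333667 IH) (Lpn (LP (LK LD1_c4 LD2_c17 LD3_c56))))))
theorem f333696 : Led Lsl_et (LP (LK LD1_c4 LD2_c17 LD3_c56)) = (LP (LK LD1_c5 LD2_c16 LD3_c24)) :=
  Lgr Lrot71 (Lpe (K22.f7923 IH) (Lpr_ef (K22.f333678 IH) (Lpe (f333687 IH) (Lpr_ef (K22.f333691 IH) (Lpe (K22.f276154 IH) (Lpn (LP (LK LD1_c5 LD2_c16 LD3_c24))))))))
theorem f629933 : Led Lsl_af (LP (LK LD1_c5 LD2_c18 LD3_c27)) = (LP (LK LD1_c5 LD2_c16 LD3_c24)) :=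
  Lgr Lrot50 (Lpr_et (K21.f309731 IH) (Lpr_at (f629927 IH) (Lpr_et (f333696 IH) (Lpn (LP (LK LD1_c5 LD2_c16 LD3_c24))))))
theorem f629939 : Led Lsl_ft (LP (LK LD1_c4 LD2_c30 LD3_c48)) = (LP (LK LD1_c5 LD2_c16 LD3_c24)) :=
  Lgr Lrot2 (Lpe (K22.f333415 IH) (Lpr_gt (K53.f333380 IH) (Lpr_af (f629933 IH) (Lpn (LP (LK LD1_c5 LD2_c16 LD3_c24))))))
theorem f629947 : Led Lsl_ff (LP (LK LD1_c4 LD2_c30 LD3_c48)) = (LP (LK LD1_c5 LD2_c16 LD3_c24)) :=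
  Lgr Lrot3 (Lpr_ft (f629939 IH) (Lpn (LP (LK LD1_c5 LD2_c16 LD3_c24))))
theorem f629955 : Led Lsl_at (LP (LK LD1_c4 LD2_c30 LD3_c48)) = (LP (LK LD1_c2 LD2_c43 LD3_c26)) :=
  Lgr Lrot26 (Lpr_ff (f629947 IH) (Lpe (K22.f309709 IH) (Lpr_gt (K19.f309767 IH) (Lpn (LP (LK LD1_c2 LD2_c43 LD3_c26))))))
def v1444 : LQ := Led Lsl_at (LP (LK LD1_c1 LD2_c18 LD3_c7))
theorem f495607 : Led Lsl_at (LP (LK LD1_c1 LD2_c18 LD3_c7)) = v1444 :=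
  Lrfl
theorem f629965 : (LP (LK LD1_c2 LD2_c12 LD3_c19)) = v1444 :=
  (Llr Lrot20 (Lpr_et (K22.f198692 IH) (Lpr_at (f629955 IH) (Lpr_et (K19.f309783 IH) (Lpr_at (f495607 IH) (Lpn v1444)))))).symm
theorem f495608 : Led Lsl_af (LP (LK LD1_c1 LD2_c18 LD3_c7)) = v1444 :=
  Lgr Lrot0 (Lpr_at (f495607 IH) (Lpn v1444))
theorem f495609 : Led Lsl_ft (LP (LK LD1_c1 LD2_c18 LD3_c8)) = v1444 :=
  Lgr Lrot2 (Lpr_gt (K15.f7610 IH) (Lpr_gt (K19.f7612 IH) (Lpr_af (f495608 IH) (Lpn v1444))))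
theorem f629976 : Led Lsl_ff (LP (LK LD1_c2 LD2_c43 LD3_c30)) = (LP (LK LD1_c4 LD2_c17 LD3_c56)) :=
  Lgr Lrot72 (Lpr_et (K19.f7629 IH) (Lpr_ft (f495609 IH) (Lpq (f629965 IH) (Lpr_et (K22.f198692 IH) (Lpr_ft (f629939 IH) (Lpe (K22.f333714 IH) (Lpn (LP (LK LD1_c4 LD2_c17 LD3_c56)))))))))
theorem f629984 : Led Lsl_ft (LP (LK LD1_c2 LD2_c43 LD3_c30)) = (LP (LK LD1_c4 LD2_c17 LD3_c56)) :=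
  Lgr Lrot48 (Lpr_ff (f629976 IH) (Lpn (LP (LK LD1_c4 LD2_c17 LD3_c56))))
theorem f181824 : Led Lsl_ct (LP (LK LD1_c5 LD2_c35 LD3_c9)) = (LP (LK LD1_c2 LD2_c43 LD3_c30)) :=
  Lre_c IH (LK LD1_c5 LD2_c35 LD3_c9) (LK LD1_c2 LD2_c43 LD3_c30) Lrfl Lrfl
theorem f333669 : Led Lsl_ct (LP (LK LD1_c4 LD2_c17 LD3_c56)) = (LP (LK LD1_c8 LD2_c34 LD3_c48)) :=
  Lre_c IH (LK LD1_c4 LD2_c17 LD3_c56) (LK LD1_c8 LD2_c34 LD3_c48) Lrfl Lrfl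
theorem f629990 : Led Lsl_ff (LP (LK LD1_c5 LD2_c35 LD3_c9)) = (LP (LK LD1_c8 LD2_c34 LD3_c48)) :=
  Lgr Lrot23 (Lpr_ct (f181824 IH) (Lpr_ft (f629984 IH) (Lpr_ct (f333669 IH) (Lpn (LP (LK LD1_c8 LD2_c34 LD3_c48))))))
theorem f347888 : Led Lsl_ct (LP (LK LD1_c9 LD2_c42 LD3_c37)) = (LP (LK LD1_c5 LD2_c32 LD3_c31)) :=
  Lgr Lrot59 (Lpr_cf (K25.f347882 IH) (Lpn (LP (LK LD1_c5 LD2_c32 LD3_c31))))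
theorem f352576 : Led Lsl_cf (LP (LK LD1_c8 LD2_c8 LD3_c38)) = (LP (LK LD1_c15 LD2_c2 LD3_c26)) :=
  Lgr Lrot11 (Lpr_ct (K25.f352572 IH) (Lpn (LP (LK LD1_c15 LD2_c2 LD3_c26))))
theorem f217546 : Led Lsl_dt (LP (LK LD1_c17 LD2_c51 LD3_c39)) = (LP (LK LD1_c9 LD2_c42 LD3_c44)) :=
  Lre_d IH (LK LD1_c17 LD2_c51 LD3_c39) (LK LD1_c9 LD2_c42 LD3_c44) Lrfl Lrfl
theorem f182689 : Led Lsl_gt (LP (LK LD1_c8 LD2_c13 LD3_c40)) = (LP (LK LD1_c15 LD2_c28 LD3_c38)) :=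
  Lre_g IH (LK LD1_c8 LD2_c13 LD3_c40) (LK LD1_c15 LD2_c28 LD3_c38) Lrfl Lrfl
theorem f348507 : Led Lsl_bf (LP (LK LD1_c8 LD2_c28 LD3_c49)) = (LP (LK LD1_c11 LD2_c53 LD3_c12)) :=
  Lgr Lrot24 (Lpr_bt (K23.f348505 IH) (Lpn (LP (LK LD1_c11 LD2_c53 LD3_c12))))
theorem f353119 : Led Lsl_cf (LP (LK LD1_c15 LD2_c28 LD3_c38)) = (LP (LK LD1_c11 LD2_c53 LD3_c12)) :=
  Lgr Lrot58 (Lpe (f182689 IH) (Lpe (K21.f182618 IH) (Lpr_bt (K21.f182667 IH) (Lpe (K21.f182635 IH) (Lpr_bf (K25.f353115 IH) (Lpr_ct (K25.f295912 IH) (Lpe (K25.f353117 IH) (Lpe (K23.f245996 IH) (Lpe (K25.f339227 IH) (Lpr_bf (f348507 IH) (Lpn (LP (LK LD1_c11 LD2_c53 LD3_c12)))))))))))))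
theorem f353126 : Led Lsl_et (LP (LK LD1_c15 LD2_c28 LD3_c38)) = (LP (LK LD1_c15 LD2_c2 LD3_c26)) :=
  Lgr Lrot158 (Lpr_cf (f353119 IH) (Lpe (K25.f352592 IH) (Lpr_cf (f352576 IH) (Lpn (LP (LK LD1_c15 LD2_c2 LD3_c26))))))
theorem f353130 : Led Lsl_ef (LP (LK LD1_c15 LD2_c28 LD3_c38)) = (LP (LK LD1_c15 LD2_c2 LD3_c26)) :=
  Lgr Lrot88 (Lpr_et (f353126 IH) (Lpn (LP (LK LD1_c15 LD2_c2 LD3_c26))))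
theorem f263506 : Led Lsl_gf (LP (LK LD1_c10 LD2_c15 LD3_c42)) = (LP (LK LD1_c8 LD2_c13 LD3_c2)) :=
  Lgr Lrot76 (Lpr_af (K21.f260379 IH) (Lpe (K16.f260295 IH) (Lpr_gt (K15.f263482 IH) (Lpn (LP (LK LD1_c8 LD2_c13 LD3_c2))))))
theorem f217550 : Led Lsl_et (LP (LK LD1_c9 LD2_c42 LD3_c44)) = (LP (LK LD1_c8 LD2_c13 LD3_c2)) :=
  Lgr Lrot158 (Lpe (K25.f217547 IH) (Lpr_ef (K15.f217544 IH) (Lpe (K15.f182532 IH) (Lpn (LP (LK LD1_c8 LD2_c13 LD3_c2))))))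
theorem f217569 : Led Lsl_dt (LP (LK LD1_c9 LD2_c42 LD3_c44)) = (LP (LK LD1_c17 LD2_c51 LD3_c39)) :=
  Lre_d IH (LK LD1_c9 LD2_c42 LD3_c44) (LK LD1_c17 LD2_c51 LD3_c39) Lrfl Lrfl
theorem f352578 : Led Lsl_dt (LP (LK LD1_c15 LD2_c2 LD3_c26)) = (LP (LK LD1_c24 LD2_c51 LD3_c6)) :=
  Lre_d IH (LK LD1_c15 LD2_c2 LD3_c26) (LK LD1_c24 LD2_c51 LD3_c6) Lrfl Lrfl
theorem f353135 : Led Lsl_gf (LP (LK LD1_c17 LD2_c51 LD3_c39)) = (LP (LK LD1_c24 LD2_c51 LD3_c6)) :=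
  Lgr Lrot145 (Lpe (f217569 IH) (Lpr_et (f217550 IH) (Lpe (f263506 IH) (Lpr_dt (K16.f274243 IH) (Lpr_gt (K16.f195952 IH) (Lpe (K16.f183593 IH) (Lpr_et (K21.f274294 IH) (Lpr_gt (f182689 IH) (Lpr_ef (f353130 IH) (Lpr_dt (f352578 IH) (Lpn (LP (LK LD1_c24 LD2_c51 LD3_c6)))))))))))))
theorem f360382 : Led Lsl_gt (LP (LK LD1_c24 LD2_c48 LD3_c51)) = (LP (LK LD1_c15 LD2_c2 LD3_c26)) :=
  Lgr Lrot94 (Lpe (K26.f223985 IH) (Lpr_gt (K26.f360380 IH) (Lpr_dt (K26.f358518 IH) (Lpr_gt (K26.f217564 IH) (Lpr_dt (K25.f217542 IH) (Lpe (K25.f217538 IH) (Lpe (f217546 IH) (Lpr_gf (f353135 IH) (Lpe (f352578 IH) (Lpn (LP (LK LD1_c15 LD2_c2 LD3_c26))))))))))))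
theorem f367413 : Led Lsl_gf (LP (LK LD1_c9 LD2_c40 LD3_c50)) = (LP (LK LD1_c4 LD2_c55 LD3_c30)) :=
  Lgr Lrot147 (Lpr_ct (K27.f187380 IH) (Lpr_gt (K27.f367411 IH) (Lpr_ct (f347888 IH) (Lpr_df (K25.f352620 IH) (Lpr_cf (f352576 IH) (Lpe (f360382 IH) (Lpe (K26.f223985 IH) (Lpr_gf (K53.f360396 IH) (Lpr_df (K25.f357553 IH) (Lpn (LP (LK LD1_c4 LD2_c55 LD3_c30))))))))))))
theorem f317934 : Led Lsl_bt (LP (LK LD1_c0 LD2_c35 LD3_c57)) = (LP (LK LD1_c1 LD2_c17 LD3_c47)) :=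
  Lre_b IH (LK LD1_c0 LD2_c35 LD3_c57) (LK LD1_c1 LD2_c17 LD3_c47) Lrfl Lrfl
theorem f264682 : Led Lsl_ct (LP (LK LD1_c0 LD2_c35 LD3_c57)) = (LP (LK LD1_c1 LD2_c17 LD3_c50)) :=
  Lre_c IH (LK LD1_c0 LD2_c35 LD3_c57) (LK LD1_c1 LD2_c17 LD3_c50) Lrfl Lrfl
theorem f226418 : Led Lsl_gt (LP (LK LD1_c1 LD2_c17 LD3_c50)) = (LP (LK LD1_c2 LD2_c42 LD3_c33)) :=
  Lre_g IH (LK LD1_c1 LD2_c17 LD3_c50) (LK LD1_c2 LD2_c42 LD3_c33) Lrfl Lrfl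
theorem f367415 : Led Lsl_ct (LP (LK LD1_c2 LD2_c25 LD3_c52)) = (LP (LK LD1_c2 LD2_c42 LD3_c33)) :=
  Lgr Lrot10 (Lpe (K25.f358466 IH) (Lpe (f367413 IH) (Lpr_ct (K27.f187380 IH) (Lpr_gt (K27.f367411 IH) (Lpr_cf (K25.f347882 IH) (Lpr_bt (K25.f282497 IH) (Lpr_gt (K20.f264715 IH) (Lpe (f317934 IH) (Lpr_ct (f264682 IH) (Lpr_gt (f226418 IH) (Lpn (LP (LK LD1_c2 LD2_c42 LD3_c33)))))))))))))
theorem f377163 : Led Lsl_et (LP (LK LD1_c2 LD2_c42 LD3_c33)) = (LP (LK LD1_c5 LD2_c32 LD3_c49)) :=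
  Lre_e IH (LK LD1_c2 LD2_c42 LD3_c33) (LK LD1_c5 LD2_c32 LD3_c49) Lrfl Lrfl
theorem f377164 : Led Lsl_cf (LP (LK LD1_c4 LD2_c56 LD3_c8)) = (LP (LK LD1_c5 LD2_c32 LD3_c49)) :=
  Lgr Lrot39 (Lpr_et (K25.f168887 IH) (Lpr_ct (f367415 IH) (Lpr_et (f377163 IH) (Lpn (LP (LK LD1_c5 LD2_c32 LD3_c49))))))
theorem f377167 : Led Lsl_ct (LP (LK LD1_c4 LD2_c56 LD3_c8)) = (LP (LK LD1_c5 LD2_c32 LD3_c49)) :=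
  Lgr Lrot59 (Lpr_cf (f377164 IH) (Lpn (LP (LK LD1_c5 LD2_c32 LD3_c49))))
theorem f358476 : Led Lsl_bf (LP (LK LD1_c9 LD2_c42 LD3_c41)) = (LP (LK LD1_c4 LD2_c56 LD3_c8)) :=
  Lgr Lrot24 (Lpr_bt (K25.f358474 IH) (Lpn (LP (LK LD1_c4 LD2_c56 LD3_c8))))
theorem f358392 : Led Lsl_gf (LP (LK LD1_c15 LD2_c25 LD3_c59)) = (LP (LK LD1_c9 LD2_c42 LD3_c41)) :=
  Lgr Lrot138 (Lpe (K21.f312576 IH) (Lpr_gt (K19.f180089 IH) (Lpe (K21.f312560 IH) (Lpr_et (K19.f312562 IH) (Lpe (K16.f278177 IH) (Lpe (K26.f223121 IH) (Lpr_dt (K25.f223092 IH) (Lpr_gt (K25.f218910 IH) (Lpr_df (K25.f357553 IH) (Lpr_et (K25.f358391 IH) (Lpn (LP (LK LD1_c9 LD2_c42 LD3_c41)))))))))))))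
theorem f377171 : Led Lsl_gt (LP (LK LD1_c8 LD2_c34 LD3_c48)) = (LP (LK LD1_c5 LD2_c32 LD3_c49)) :=
  Lgr Lrot149 (Lpe (f333669 IH) (Lpr_gf (K22.f333667 IH) (Lpe (K26.f325376 IH) (Lpr_ct (K26.f325378 IH) (Lpr_gf (K26.f360976 IH) (Lpr_cf (K26.f341014 IH) (Lpe (K23.f341012 IH) (Lpr_gf (f358392 IH) (Lpr_bf (f358476 IH) (Lpr_ct (f377167 IH) (Lpn (LP (LK LD1_c5 LD2_c32 LD3_c49)))))))))))))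
theorem f306873 : Led Lsl_dt (LP (LK LD1_c5 LD2_c30 LD3_c44)) = (LP (LK LD1_c2 LD2_c41 LD3_c34)) :=
  Lre_d IH (LK LD1_c5 LD2_c30 LD3_c44) (LK LD1_c2 LD2_c41 LD3_c34) Lrfl Lrfl
theorem f306835 : Led Lsl_ff (LP (LK LD1_c5 LD2_c30 LD3_c42)) = (LP (LK LD1_c5 LD2_c3 LD3_c16)) :=
  Lgr Lrot19 (Lpe (K19.f175253 IH) (Lpr_ft (K19.f306831 IH) (Lpe (K19.f306808 IH) (Lpn (LP (LK LD1_c5 LD2_c3 LD3_c16))))))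
theorem f291630 : Led Lsl_ff (LP (LK LD1_c2 LD2_c29 LD3_c11)) = (LP (LK LD1_c2 LD2_c39 LD3_c23)) :=
  Lgr Lrot23 (Lpr_ct (K15.f21301 IH) (Lpr_ft (K17.f291626 IH) (Lpe (K15.f183031 IH) (Lpn (LP (LK LD1_c2 LD2_c39 LD3_c23))))))
theorem f331114 : Led Lsl_ef (LP (LK LD1_c2 LD2_c39 LD3_c23)) = (LP (LK LD1_c2 LD2_c45 LD3_c50)) :=
  Lgr Lrot21 (Lpe (f291630 IH) (Lpr_et (K17.f291609 IH) (Lpe (f306835 IH) (Lpr_et (K19.f175252 IH) (Lpr_ft (K25.f331106 IH) (Lpn (LP (LK LD1_c2 LD2_c45 LD3_c50))))))))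
theorem f54857 : Led Lsl_et (LP (LK LD1_c2 LD2_c0 LD3_c53)) = (LP (LK LD1_c4 LD2_c7 LD3_c3)) :=
  Lre_e IH (LK LD1_c2 LD2_c0 LD3_c53) (LK LD1_c4 LD2_c7 LD3_c3) Lrfl Lrfl
theorem f331116 : Led Lsl_gt (LP (LK LD1_c11 LD2_c2 LD3_c29)) = (LP (LK LD1_c5 LD2_c39 LD3_c47)) :=
  Lgr Lrot112 (Lpe (K21.f181869 IH) (Lpr_et (K21.f310223 IH) (Lpr_gf (K21.f310226 IH) (Lpe (f54857 IH) (Lpe (K1.f55383 IH) (Lpe (K9.f183024 IH) (Lpe (K15.f182555 IH) (Lpe (K15.f166132 IH) (Lpr_ef (f331114 IH) (Lpr_dt (K26.f179959 IH) (Lpn (LP (LK LD1_c5 LD2_c39 LD3_c47)))))))))))))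
theorem f306874 : Led Lsl_ff (LP (LK LD1_c5 LD2_c30 LD3_c44)) = (LP (LK LD1_c5 LD2_c39 LD3_c44)) :=
  Lgr Lrot19 (Lpr_dt (f306873 IH) (Lpr_ft (K19.f306865 IH) (Lpr_dt (K21.f245962 IH) (Lpn (LP (LK LD1_c5 LD2_c39 LD3_c44))))))
theorem f331118 : Led Lsl_at (LP (LK LD1_c5 LD2_c30 LD3_c44)) = (LP (LK LD1_c5 LD2_c39 LD3_c47)) :=
  Lgr Lrot26 (Lpr_ff (f306874 IH) (Lpe (K21.f310218 IH) (Lpr_gt (f331116 IH) (Lpn (LP (LK LD1_c5 LD2_c39 LD3_c47))))))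
theorem f331120 : Led Lsl_af (LP (LK LD1_c5 LD2_c30 LD3_c44)) = (LP (LK LD1_c5 LD2_c39 LD3_c47)) :=
  Lgr Lrot0 (Lpr_at (f331118 IH) (Lpn (LP (LK LD1_c5 LD2_c39 LD3_c47))))
theorem f179964 : Led Lsl_dt (LP (LK LD1_c5 LD2_c39 LD3_c47)) = (LP (LK LD1_c2 LD2_c45 LD3_c50)) :=
  Lre_d IH (LK LD1_c5 LD2_c39 LD3_c47) (LK LD1_c2 LD2_c45 LD3_c50) Lrfl Lrfl
theorem f331102 : Led Lsl_ft (LP (LK LD1_c5 LD2_c30 LD3_c41)) = (LP (LK LD1_c5 LD2_c39 LD3_c47)) :=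
  Lgr Lrot54 (Lpe (K20.f175255 IH) (Lpr_ff (K25.f331096 IH) (Lpe (f179964 IH) (Lpn (LP (LK LD1_c5 LD2_c39 LD3_c47))))))
theorem f331125 : Led Lsl_gf (LP (LK LD1_c5 LD2_c30 LD3_c44)) = (LP (LK LD1_c10 LD2_c52 LD3_c60)) :=
  Lgr Lrot76 (Lpr_af (f331120 IH) (Lpe (f331102 IH) (Lpr_gt (K20.f175256 IH) (Lpn (LP (LK LD1_c10 LD2_c52 LD3_c60))))))
theorem f377169 : Led Lsl_gf (LP (LK LD1_c8 LD2_c34 LD3_c50)) = (LP (LK LD1_c5 LD2_c32 LD3_c49)) :=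
  Lgr Lrot144 (Lpe (K20.f320497 IH) (Lpe (f331125 IH) (Lpr_dt (f306873 IH) (Lpr_cf (K19.f306871 IH) (Lpr_df (K19.f306899 IH) (Lpe (K19.f306906 IH) (Lpe (K19.f306907 IH) (Lpe (K26.f358446 IH) (Lpr_cf (f377164 IH) (Lpn (LP (LK LD1_c5 LD2_c32 LD3_c49))))))))))))
theorem f629998 : Led Lsl_at (LP (LK LD1_c5 LD2_c35 LD3_c9)) = (LP (LK LD1_c8 LD2_c34 LD3_c50)) :=
  Lgr Lrot26 (Lpr_ff (f629990 IH) (Lpr_gt (f377171 IH) (Lpe (f377169 IH) (Lpn (LP (LK LD1_c8 LD2_c34 LD3_c50))))))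
theorem f378366 : Led Lsl_et (LP (LK LD1_c2 LD2_c43 LD3_c28)) = (LP (LK LD1_c5 LD2_c35 LD3_c9)) :=
  Lre_e IH (LK LD1_c2 LD2_c43 LD3_c28) (LK LD1_c5 LD2_c35 LD3_c9) Lrfl Lrfl
theorem f630004 : Led Lsl_af (LP (LK LD1_c2 LD2_c43 LD3_c28)) = (LP (LK LD1_c4 LD2_c30 LD3_c50)) :=
  Lgr Lrot50 (Lpr_et (f378366 IH) (Lpr_at (f629998 IH) (Lpr_et (K20.f183281 IH) (Lpn (LP (LK LD1_c4 LD2_c30 LD3_c50))))))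
theorem f7615 : Led Lsl_ct (LP (LK LD1_c2 LD2_c43 LD3_c28)) = (LP (LK LD1_c1 LD2_c18 LD3_c8)) :=
  Lre_c IH (LK LD1_c2 LD2_c43 LD3_c28) (LK LD1_c1 LD2_c18 LD3_c8) Lrfl Lrfl
def v1445 : LQ := Led Lsl_ft (LP (LK LD1_c1 LD2_c18 LD3_c7))
theorem f495611 : Led Lsl_ft (LP (LK LD1_c1 LD2_c18 LD3_c7)) = v1445 :=
  Lrfl
theorem f495613 : Led Lsl_ff (LP (LK LD1_c1 LD2_c18 LD3_c7)) = v1445 :=
  Lgr Lrot3 (Lpr_ft (f495611 IH) (Lpn v1445))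
theorem f495610 : Led Lsl_ff (LP (LK LD1_c1 LD2_c18 LD3_c8)) = v1444 :=
  Lgr Lrot3 (Lpr_ft (f495609 IH) (Lpn v1444))
theorem f495614 : Led Lsl_at (LP (LK LD1_c1 LD2_c18 LD3_c8)) = v1445 :=
  Lgr Lrot66 (Lpr_ff (f495610 IH) (Lpe (f495607 IH) (Lpr_ff (f495613 IH) (Lpn v1445))))
theorem f630010 : v1445 = (LP (LK LD1_c2 LD2_c12 LD3_c20)) :=
  (Llr Lrot107 (Lpe (f495614 IH) (Lpe (f7615 IH) (Lpr_af (f630004 IH) (Lpe (K20.f7656 IH) (Lpn (LP (LK LD1_c2 LD2_c12 LD3_c20)))))))).symm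
theorem f630021 : Led Lsl_ff (LP (LK LD1_c2 LD2_c43 LD3_c26)) = (LP (LK LD1_c5 LD2_c18 LD3_c27)) :=
  Lgr Lrot72 (Lpr_et (K19.f309783 IH) (Lpr_ft (f495611 IH) (Lpqs (f630010 IH) (Lpe (K20.f183276 IH) (Lpe (f629919 IH) (Lpe (K21.f309723 IH) (Lpn (LP (LK LD1_c5 LD2_c18 LD3_c27)))))))))
theorem f309717 : Led Lsl_ct (LP (LK LD1_c10 LD2_c26 LD3_c39)) = (LP (LK LD1_c5 LD2_c18 LD3_c27)) :=
  Lre_c IH (LK LD1_c10 LD2_c26 LD3_c39) (LK LD1_c5 LD2_c18 LD3_c27) Lrfl Lrfl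
theorem f630025 : Led Lsl_ft (LP (LK LD1_c5 LD2_c35 LD3_c2)) = (LP (LK LD1_c10 LD2_c26 LD3_c39)) :=
  Lgr Lrot4 (Lpe (f309769 IH) (Lpr_ff (f630021 IH) (Lpe (f309717 IH) (Lpn (LP (LK LD1_c10 LD2_c26 LD3_c39))))))
theorem f309716 : Led Lsl_ct (LP (LK LD1_c5 LD2_c18 LD3_c27)) = (LP (LK LD1_c10 LD2_c26 LD3_c39)) :=
  Lre_c IH (LK LD1_c5 LD2_c18 LD3_c27) (LK LD1_c10 LD2_c26 LD3_c39) Lrfl Lrfl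
theorem f276153 : Led Lsl_ct (LP (LK LD1_c10 LD2_c22 LD3_c23)) = (LP (LK LD1_c5 LD2_c16 LD3_c24)) :=
  Lre_c IH (LK LD1_c10 LD2_c22 LD3_c23) (LK LD1_c5 LD2_c16 LD3_c24) Lrfl Lrfl
theorem f629937 : Led Lsl_at (LP (LK LD1_c10 LD2_c26 LD3_c39)) = (LP (LK LD1_c10 LD2_c22 LD3_c23)) :=
  Lgr Lrot107 (Lpe (f309716 IH) (Lpr_af (f629933 IH) (Lpe (f276153 IH) (Lpn (LP (LK LD1_c10 LD2_c22 LD3_c23))))))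
theorem f333417 : Led Lsl_ct (LP (LK LD1_c8 LD2_c59 LD3_c51)) = (LP (LK LD1_c4 LD2_c30 LD3_c48)) :=
  Lre_c IH (LK LD1_c8 LD2_c59 LD3_c51) (LK LD1_c4 LD2_c30 LD3_c48) Lrfl Lrfl
theorem f276150 : Led Lsl_ct (LP (LK LD1_c5 LD2_c16 LD3_c24)) = (LP (LK LD1_c10 LD2_c22 LD3_c23)) :=
  Lre_c IH (LK LD1_c5 LD2_c16 LD3_c24) (LK LD1_c10 LD2_c22 LD3_c23) Lrfl Lrfl
theorem f629943 : Led Lsl_ff (LP (LK LD1_c8 LD2_c59 LD3_c51)) = (LP (LK LD1_c10 LD2_c22 LD3_c23)) :=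
  Lgr Lrot23 (Lpr_ct (f333417 IH) (Lpr_ft (f629939 IH) (Lpr_ct (f276150 IH) (Lpn (LP (LK LD1_c10 LD2_c22 LD3_c23))))))
theorem f631228 : Led Lsl_af (LP (LK LD1_c5 LD2_c35 LD3_c2)) = (LP (LK LD1_c8 LD2_c59 LD3_c51)) :=
  Lgr Lrot45 (Lpr_ft (f630025 IH) (Lpr_at (f629937 IH) (Lpe (f629943 IH) (Lpn (LP (LK LD1_c8 LD2_c59 LD3_c51))))))
theorem f731675 : Led Lsl_gt (LP (LK LD1_c10 LD2_c22 LD3_c23)) = v15100 :=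
  Lgr Lrot5 (Lpe (f629943 IH) (Lpe (f631228 IH) (Lpr_gf (f731674 IH) (Lpn v15100))))
theorem f48640 : Led Lsl_bt (LP (LK LD1_c5 LD2_c16 LD3_c53)) = (LP (LK LD1_c2 LD2_c35 LD3_c10)) :=
  Lre_b IH (LK LD1_c5 LD2_c16 LD3_c53) (LK LD1_c2 LD2_c35 LD3_c10) Lrfl Lrfl
theorem f48642 : Led Lsl_ct (LP (LK LD1_c5 LD2_c16 LD3_c53)) = (LP (LK LD1_c10 LD2_c23 LD3_c20)) :=
  Lre_c IH (LK LD1_c5 LD2_c16 LD3_c53) (LK LD1_c10 LD2_c23 LD3_c20) Lrfl Lrfl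
theorem f342534 : Led Lsl_gf (LP (LK LD1_c10 LD2_c23 LD3_c20)) = (LP (LK LD1_c10 LD2_c26 LD3_c42)) :=
  Lgr Lrot126 (Lpe (f48642 IH) (Lpr_bt (f48640 IH) (Lpr_gt (K10.f48638 IH) (Lpr_ct (K23.f32578 IH) (Lpr_gt (K23.f342511 IH) (Lpe (K23.f163900 IH) (Lpr_bt (K23.f312503 IH) (Lpr_gt (K19.f312497 IH) (Lpe (K15.f43360 IH) (Lpr_ct (K21.f184030 IH) (Lpn (LP (LK LD1_c10 LD2_c26 LD3_c42)))))))))))))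
theorem f395200 : Led Lsl_gt (LP (LK LD1_c10 LD2_c23 LD3_c20)) = (LP (LK LD1_c10 LD2_c26 LD3_c26)) :=
  Lgr Lrot46 (Lpr_gf (f342534 IH) (Lpe (K21.f184098 IH) (Lpr_at (K21.f191592 IH) (Lpn (LP (LK LD1_c10 LD2_c26 LD3_c26))))))
theorem f309623 : Led Lsl_bt (LP (LK LD1_c5 LD2_c2 LD3_c2)) = (LP (LK LD1_c9 LD2_c54 LD3_c46)) :=
  Lre_b IH (LK LD1_c5 LD2_c2 LD3_c2) (LK LD1_c9 LD2_c54 LD3_c46) Lrfl Lrfl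
theorem f33934 : Led Lsl_ct (LP (LK LD1_c5 LD2_c2 LD3_c2)) = (LP (LK LD1_c9 LD2_c54 LD3_c47)) :=
  Lre_c IH (LK LD1_c5 LD2_c2 LD3_c2) (LK LD1_c9 LD2_c54 LD3_c47) Lrfl Lrfl
theorem f326780 : Led Lsl_df (LP (LK LD1_c18 LD2_c8 LD3_c52)) = (LP (LK LD1_c25 LD2_c3 LD3_c32)) :=
  Lgr Lrot38 (Lpr_dt (K53.f326778 IH) (Lpn (LP (LK LD1_c25 LD2_c3 LD3_c32))))
theorem f339817 : Led Lsl_gf (LP (LK LD1_c8 LD2_c5 LD3_c38)) = (LP (LK LD1_c9 LD2_c54 LD3_c47)) :=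
  Lgr Lrot144 (Lpr_dt (K53.f46035 IH) (Lpr_gt (K53.f184609 IH) (Lpe (f326780 IH) (Lpe (K53.f274698 IH) (Lpe (K49.f274694 IH) (Lpr_gf (K22.f339815 IH) (Lpe (K0.f33613 IH) (Lpr_gf (K13.f33939 IH) (Lpe (K53.f33941 IH) (Lpn (LP (LK LD1_c9 LD2_c54 LD3_c47))))))))))))
theorem f395202 : Led Lsl_gf (LP (LK LD1_c5 LD2_c16 LD3_c53)) = (LP (LK LD1_c4 LD2_c27 LD3_c31)) :=
  Lgr Lrot181 (Lpr_ct (f48642 IH) (Lpr_gt (f395200 IH) (Lpe (K21.f191598 IH) (Lpr_bt (K14.f50035 IH) (Lpe (K24.f309619 IH) (Lpe (f309623 IH) (Lpr_ct (f33934 IH) (Lpe (f339817 IH) (Lpe (K53.f46034 IH) (Lpe (K53.f46981 IH) (Lpn (LP (LK LD1_c4 LD2_c27 LD3_c31)))))))))))))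
theorem f294169 : Led Lsl_ef (LP (LK LD1_c2 LD2_c33 LD3_c24)) = (LP (LK LD1_c4 LD2_c28 LD3_c13)) :=
  Lgr Lrot29 (Lpr_bt (K15.f165537 IH) (Lpr_et (K18.f294158 IH) (Lpr_bt (K18.f293776 IH) (Lpn (LP (LK LD1_c4 LD2_c28 LD3_c13))))))
theorem f256264 : Led Lsl_gt (LP (LK LD1_c4 LD2_c28 LD3_c12)) = (LP (LK LD1_c2 LD2_c11 LD3_c15)) :=
  Lre_g IH (LK LD1_c4 LD2_c28 LD3_c12) (LK LD1_c2 LD2_c11 LD3_c15) Lrfl Lrfl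
theorem f294187 : Led Lsl_dt (LP (LK LD1_c8 LD2_c54 LD3_c32)) = (LP (LK LD1_c4 LD2_c28 LD3_c12)) :=
  Lre_d IH (LK LD1_c8 LD2_c54 LD3_c32) (LK LD1_c4 LD2_c28 LD3_c12) Lrfl Lrfl
theorem f395212 : Led Lsl_ef (LP (LK LD1_c5 LD2_c16 LD3_c53)) = (LP (LK LD1_c8 LD2_c54 LD3_c32)) :=
  Lgr Lrot17 (Lpr_gf (f395202 IH) (Lpe (K1.f44753 IH) (Lpr_dt (K1.f46079 IH) (Lpr_gf (K10.f46163 IH) (Lpe (K14.f44269 IH) (Lpe (K14.f238279 IH) (Lpr_ef (f294169 IH) (Lpr_dt (K18.f253460 IH) (Lpe (f256264 IH) (Lpe (f294187 IH) (Lpn (LP (LK LD1_c8 LD2_c54 LD3_c32)))))))))))))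
theorem f395204 : Led Lsl_gt (LP (LK LD1_c5 LD2_c16 LD3_c53)) = (LP (LK LD1_c2 LD2_c36 LD3_c29)) :=
  Lgr Lrot46 (Lpr_gf (f395202 IH) (Lpe (K1.f44754 IH) (Lpr_at (K1.f46301 IH) (Lpn (LP (LK LD1_c2 LD2_c36 LD3_c29))))))
theorem f46117 : Led Lsl_df (LP (LK LD1_c2 LD2_c36 LD3_c29)) = (LP (LK LD1_c2 LD2_c36 LD3_c29)) :=
  Lgr Lrot12 (Lpr_bt (K1.f44080 IH) (Lpr_dt (K1.f46115 IH) (Lpr_bt (K1.f44090 IH) (Lpn (LP (LK LD1_c2 LD2_c36 LD3_c29))))))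
theorem f302850 : Led Lsl_gt (LP (LK LD1_c10 LD2_c1 LD3_c42)) = (LP (LK LD1_c10 LD2_c16 LD3_c31)) :=
  Lgr Lrot137 (Lpe (K23.f258131 IH) (Lpr_dt (K23.f212329 IH) (Lpe (K22.f44102 IH) (Lpr_df (f46117 IH) (Lpr_et (K1.f44069 IH) (Lpr_gf (K12.f212324 IH) (Lpe (K20.f212328 IH) (Lpe (K16.f276941 IH) (Lpr_gf (K24.f302845 IH) (Lpr_df (K20.f265357 IH) (Lpn (LP (LK LD1_c10 LD2_c16 LD3_c31)))))))))))))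
theorem f395224 : Led Lsl_gt (LP (LK LD1_c8 LD2_c8 LD3_c15)) = (LP (LK LD1_c4 LD2_c28 LD3_c12)) :=
  Lgr Lrot112 (Lpe (K18.f293793 IH) (Lpr_et (K25.f293806 IH) (Lpe (f302850 IH) (Lpe (K23.f258131 IH) (Lpr_dt (K23.f212329 IH) (Lpe (K22.f44102 IH) (Lpr_df (f46117 IH) (Lpe (f395204 IH) (Lpr_ef (f395212 IH) (Lpr_dt (f294187 IH) (Lpn (LP (LK LD1_c4 LD2_c28 LD3_c12)))))))))))))
theorem f395238 : Led Lsl_bt (LP (LK LD1_c2 LD2_c11 LD3_c54)) = (LP (LK LD1_c4 LD2_c28 LD3_c12)) :=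
  Lgr Lrot92 (Lpr_ct (K23.f185042 IH) (Lpe (K23.f185040 IH) (Lpe (K22.f168749 IH) (Lpr_bt (K23.f168747 IH) (Lpr_gt (K23.f168765 IH) (Lpr_ct (K23.f168793 IH) (Lpe (K23.f304348 IH) (Lpe (K16.f269295 IH) (Lpr_bt (K17.f269294 IH) (Lpr_gt (f395224 IH) (Lpn (LP (LK LD1_c4 LD2_c28 LD3_c12)))))))))))))
theorem f395246 : Led Lsl_et (LP (LK LD1_c4 LD2_c28 LD3_c12)) = (LP (LK LD1_c8 LD2_c54 LD3_c33)) :=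
  Lre_e IH (LK LD1_c4 LD2_c28 LD3_c12) (LK LD1_c8 LD2_c54 LD3_c33) Lrfl Lrfl
theorem f395247 : Led Lsl_bf (LP (LK LD1_c4 LD2_c29 LD3_c47)) = (LP (LK LD1_c8 LD2_c54 LD3_c33)) :=
  Lgr Lrot96 (Lpr_et (K10.f165049 IH) (Lpr_bt (f395238 IH) (Lpr_et (f395246 IH) (Lpn (LP (LK LD1_c8 LD2_c54 LD3_c33))))))
theorem f395271 : Led Lsl_ct (LP (LK LD1_c8 LD2_c54 LD3_c33)) = (LP (LK LD1_c16 LD2_c39 LD3_c60)) :=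
  Lre_c IH (LK LD1_c8 LD2_c54 LD3_c33) (LK LD1_c16 LD2_c39 LD3_c60) Lrfl Lrfl
theorem f330676 : Led Lsl_bf (LP (LK LD1_c9 LD2_c42 LD3_c22)) = (LP (LK LD1_c4 LD2_c55 LD3_c60)) :=
  Lgr Lrot93 (Lpr_dt (K23.f330674 IH) (Lpr_bt (K19.f185854 IH) (Lpr_dt (K19.f185850 IH) (Lpn (LP (LK LD1_c4 LD2_c55 LD3_c60))))))
theorem f688878 : Led Lsl_ff (LP (LK LD1_c4 LD2_c55 LD3_c60)) = (LP (LK LD1_c8 LD2_c11 LD3_c59)) :=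
  Lgr Lrot25 (Lpe (f330676 IH) (Lpr_ft (f688876 IH) (Lpe (K23.f342454 IH) (Lpn (LP (LK LD1_c8 LD2_c11 LD3_c59))))))
theorem f688978 : Led Lsl_ft (LP (LK LD1_c4 LD2_c55 LD3_c60)) = (LP (LK LD1_c8 LD2_c11 LD3_c59)) :=
  Lgr Lrot48 (Lpr_ff (f688878 IH) (Lpn (LP (LK LD1_c8 LD2_c11 LD3_c59))))
theorem f731672 : Led Lsl_ct (LP (LK LD1_c8 LD2_c11 LD3_c59)) = v15100 :=
  Lgr Lrot40 (Lpe (f688978 IH) (Lpe (f185883 IH) (Lpr_ff (f731671 IH) (Lpn v15100))))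
theorem f360465 : Led Lsl_gf (LP (LK LD1_c9 LD2_c43 LD3_c25)) = (LP (LK LD1_c15 LD2_c25 LD3_c36)) :=
  Lgr Lrot134 (Lpe (K26.f257640 IH) (Lpr_et (K19.f257634 IH) (Lpr_gt (K26.f351839 IH) (Lpe (f351847 IH) (Lpr_dt (K26.f300189 IH) (Lpr_gt (K26.f360457 IH) (Lpe (K26.f359736 IH) (Lpr_et (K26.f359724 IH) (Lpe (K26.f360453 IH) (Lpr_dt (K23.f291365 IH) (Lpn (LP (LK LD1_c15 LD2_c25 LD3_c36)))))))))))))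
theorem f8605 : Led Lsl_gt (LP (LK LD1_c11 LD2_c54 LD3_c24)) = (LP (LK LD1_c6 LD2_c5 LD3_c25)) :=
  Lre_g IH (LK LD1_c11 LD2_c54 LD3_c24) (LK LD1_c6 LD2_c5 LD3_c25) Lrfl Lrfl
theorem f55273 : Led Lsl_bt (LP (LK LD1_c9 LD2_c43 LD3_c22)) = (LP (LK LD1_c4 LD2_c55 LD3_c51)) :=
  Lre_b IH (LK LD1_c9 LD2_c43 LD3_c22) (LK LD1_c4 LD2_c55 LD3_c51) Lrfl Lrfl
theorem f310233 : Led Lsl_cf (LP (LK LD1_c11 LD2_c54 LD3_c24)) = (LP (LK LD1_c9 LD2_c43 LD3_c22)) :=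
  Lgr Lrot160 (Lpr_gt (f8605 IH) (Lpe (K1.f8604 IH) (Lpr_bt (K1.f8585 IH) (Lpr_gt (K15.f8594 IH) (Lpr_ct (K21.f7617 IH) (Lpr_gt (K21.f310224 IH) (Lpe (K19.f41110 IH) (Lpr_bt (K1.f41106 IH) (Lpr_gt (K19.f55265 IH) (Lpe (f55273 IH) (Lpn (LP (LK LD1_c9 LD2_c43 LD3_c22)))))))))))))
theorem f310244 : Led Lsl_et (LP (LK LD1_c11 LD2_c54 LD3_c24)) = (LP (LK LD1_c20 LD2_c58 LD3_c50)) :=
  Lre_e IH (LK LD1_c11 LD2_c54 LD3_c24) (LK LD1_c20 LD2_c58 LD3_c50) Lrfl Lrfl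
theorem f310245 : Led Lsl_ct (LP (LK LD1_c20 LD2_c58 LD3_c50)) = (LP (LK LD1_c17 LD2_c52 LD3_c34)) :=
  Lgr Lrot15 (Lpe (f310244 IH) (Lpr_cf (f310233 IH) (Lpe (K21.f247667 IH) (Lpn (LP (LK LD1_c17 LD2_c52 LD3_c34))))))
theorem f310248 : Led Lsl_cf (LP (LK LD1_c20 LD2_c58 LD3_c50)) = (LP (LK LD1_c17 LD2_c52 LD3_c34)) :=
  Lgr Lrot11 (Lpr_ct (f310245 IH) (Lpn (LP (LK LD1_c17 LD2_c52 LD3_c34))))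
theorem f731676 : Led Lsl_gf (LP (LK LD1_c16 LD2_c39 LD3_c60)) = (LP (LK LD1_c20 LD2_c58 LD3_c50)) :=
  Lgr Lrot126 (Lpe (f395271 IH) (Lpe (f395247 IH) (Lpr_gt (K22.f333700 IH) (Lpr_ct (f276150 IH) (Lpr_gt (f731675 IH) (Lpe (f731672 IH) (Lpr_bt (K23.f342456 IH) (Lpe (f360465 IH) (Lpe (K24.f257638 IH) (Lpe (f310248 IH) (Lpn (LP (LK LD1_c20 LD2_c58 LD3_c50)))))))))))))
theorem f731677 : Led Lsl_gt (LP (LK LD1_c20 LD2_c58 LD3_c50)) = (LP (LK LD1_c16 LD2_c39 LD3_c60)) :=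
  Leop (Lpr_gf (f731676 IH) (Lpn (LP (LK LD1_c20 LD2_c58 LD3_c50))))
theorem seed_878 : LEOK LG_g (LK LD1_c20 LD2_c58 LD3_c50) :=
  Leoe_g (LK LD1_c20 LD2_c58 LD3_c50) (f731677 IH)
def v15119 : LQ := Led Lsl_ft (LP (LK LD1_c5 LD2_c32 LD3_c34))
theorem f731742 : Led Lsl_ft (LP (LK LD1_c5 LD2_c32 LD3_c34)) = v15119 :=
  Lrfl
theorem f731745 : Led Lsl_ff (LP (LK LD1_c5 LD2_c32 LD3_c34)) = v15119 :=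
  Lgr Lrot3 (Lpr_ft (f731742 IH) (Lpn v15119))
def v4676 : LQ := Led Lsl_ft (LP (LK LD1_c2 LD2_c42 LD3_c27))
theorem f638443 : Led Lsl_ft (LP (LK LD1_c2 LD2_c42 LD3_c27)) = v4676 :=
  Lrfl
theorem f731747 : Led Lsl_bt v4676 = v15119 :=
  Lgr Lrot35 (Lpe (f638443 IH) (Lpe (K24.f281528 IH) (Lpr_ff (f731745 IH) (Lpn v15119))))
theorem f638445 : Led Lsl_ff (LP (LK LD1_c2 LD2_c42 LD3_c27)) = v4676 :=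
  Lgr Lrot3 (Lpr_ft (f638443 IH) (Lpn v4676))
def v4674 : LQ := Led Lsl_at (LP (LK LD1_c2 LD2_c42 LD3_c27))
theorem f638437 : Led Lsl_at (LP (LK LD1_c2 LD2_c42 LD3_c27)) = v4674 :=
  Lrfl
theorem f638438 : Led Lsl_af (LP (LK LD1_c2 LD2_c42 LD3_c27)) = v4674 :=
  Lgr Lrot0 (Lpr_at (f638437 IH) (Lpn v4674))
theorem f638439 : Led Lsl_ft (LP (LK LD1_c2 LD2_c42 LD3_c28)) = v4674 :=
  Lgr Lrot2 (Lpr_gt (K12.f174380 IH) (Lpr_gt (K24.f168169 IH) (Lpr_af (f638438 IH) (Lpn v4674))))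
theorem f638440 : Led Lsl_ff (LP (LK LD1_c2 LD2_c42 LD3_c28)) = v4674 :=
  Lgr Lrot3 (Lpr_ft (f638439 IH) (Lpn v4674))
theorem f638446 : Led Lsl_at (LP (LK LD1_c2 LD2_c42 LD3_c28)) = v4676 :=
  Lgr Lrot66 (Lpr_ff (f638440 IH) (Lpe (f638437 IH) (Lpr_ff (f638445 IH) (Lpn v4676))))
theorem f731743 : Led Lsl_af (LP (LK LD1_c10 LD2_c57 LD3_c56)) = v15119 :=
  Lgr Lrot45 (Lpr_ft (K40.f387538 IH) (Lpr_at (K40.f387537 IH) (Lpr_ft (f731742 IH) (Lpn v15119))))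
theorem f731748 : Led Lsl_af (LP (LK LD1_c5 LD2_c32 LD3_c36)) = (LP (LK LD1_c10 LD2_c41 LD3_c19)) :=
  Lgr Lrot36 (Lpr_bt (K30.f174381 IH) (Lpr_at (f638446 IH) (Lpr_bt (f731747 IH) (Lpe (f731743 IH) (Lpr_bt (K50.f218374 IH) (Lpn (LP (LK LD1_c10 LD2_c41 LD3_c19))))))))
theorem f731749 : Led Lsl_at (LP (LK LD1_c10 LD2_c41 LD3_c19)) = (LP (LK LD1_c5 LD2_c32 LD3_c36)) :=
  Leop (Lpr_af (f731748 IH) (Lpn (LP (LK LD1_c10 LD2_c41 LD3_c19))))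
theorem seed_879 : LEOK LG_a (LK LD1_c10 LD2_c41 LD3_c19) :=
  Leoe_a (LK LD1_c10 LD2_c41 LD3_c19) (f731749 IH)
def v15008 : LQ := Led Lsl_ft (LP (LK LD1_c5 LD2_c30 LD3_c31))
theorem f729587 : Led Lsl_ft (LP (LK LD1_c5 LD2_c30 LD3_c31)) = v15008 :=
  Lrfl
theorem f729591 : Led Lsl_ff (LP (LK LD1_c5 LD2_c30 LD3_c31)) = v15008 :=
  Lgr Lrot3 (Lpr_ft (f729587 IH) (Lpn v15008))
theorem f290435 : Led Lsl_bt (LP (LK LD1_c2 LD2_c42 LD3_c27)) = (LP (LK LD1_c5 LD2_c32 LD3_c34)) :=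
  Lre_b IH (LK LD1_c2 LD2_c42 LD3_c27) (LK LD1_c5 LD2_c32 LD3_c34) Lrfl Lrfl
theorem f399854 : Led Lsl_df (LP (LK LD1_c2 LD2_c42 LD3_c27)) = (LP (LK LD1_c5 LD2_c30 LD3_c31)) :=
  Lgr Lrot12 (Lpr_bt (f290435 IH) (Lpr_dt (K40.f399847 IH) (Lpr_bt (K30.f175099 IH) (Lpn (LP (LK LD1_c5 LD2_c30 LD3_c31))))))
theorem f729593 : Led Lsl_dt v4676 = v15008 :=
  Lgr Lrot60 (Lpe (f638443 IH) (Lpr_df (f399854 IH) (Lpr_ff (f729591 IH) (Lpn v15008))))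
theorem f245562 : Led Lsl_ff (LP (LK LD1_c2 LD2_c41 LD3_c30)) = (LP (LK LD1_c4 LD2_c28 LD3_c60)) :=
  Lgr Lrot25 (Lpr_bt (K30.f175076 IH) (Lpr_ft (K13.f245557 IH) (Lpr_bt (K27.f173404 IH) (Lpn (LP (LK LD1_c4 LD2_c28 LD3_c60))))))
theorem f245686 : Led Lsl_at (LP (LK LD1_c2 LD2_c41 LD3_c30)) = (LP (LK LD1_c5 LD2_c30 LD3_c29)) :=
  Lre_a IH (LK LD1_c2 LD2_c41 LD3_c30) (LK LD1_c5 LD2_c30 LD3_c29) Lrfl Lrfl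
theorem f417802 : Led Lsl_gf (LP (LK LD1_c5 LD2_c30 LD3_c29)) = (LP (LK LD1_c8 LD2_c56 LD3_c18)) :=
  Lgr Lrot76 (Lpe (f245686 IH) (Lpr_ff (f245562 IH) (Lpr_gt (K27.f173405 IH) (Lpn (LP (LK LD1_c8 LD2_c56 LD3_c18))))))
theorem f52468 : Led Lsl_gt (LP (LK LD1_c8 LD2_c9 LD3_c8)) = (LP (LK LD1_c15 LD2_c21 LD3_c3)) :=
  Lre_g IH (LK LD1_c8 LD2_c9 LD3_c8) (LK LD1_c15 LD2_c21 LD3_c3) Lrfl Lrfl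
theorem f200875 : Led Lsl_gt (LP (LK LD1_c15 LD2_c21 LD3_c4)) = (LP (LK LD1_c8 LD2_c9 LD3_c8)) :=
  Lre_g IH (LK LD1_c15 LD2_c21 LD3_c4) (LK LD1_c8 LD2_c9 LD3_c8) Lrfl Lrfl
theorem f404183 : Led Lsl_ft (LP (LK LD1_c15 LD2_c21 LD3_c4)) = (LP (LK LD1_c10 LD2_c56 LD3_c14)) :=
  Lgr Lrot2 (Lpr_gt (f200875 IH) (Lpr_gt (f52468 IH) (Lpr_af (K41.f404179 IH) (Lpn (LP (LK LD1_c10 LD2_c56 LD3_c14))))))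
theorem f404187 : Led Lsl_ff (LP (LK LD1_c15 LD2_c21 LD3_c4)) = (LP (LK LD1_c10 LD2_c56 LD3_c14)) :=
  Lgr Lrot3 (Lpr_ft (f404183 IH) (Lpn (LP (LK LD1_c10 LD2_c56 LD3_c14))))
theorem f52470 : Led Lsl_ct (LP (LK LD1_c8 LD2_c9 LD3_c18)) = (LP (LK LD1_c15 LD2_c21 LD3_c34)) :=
  Lre_c IH (LK LD1_c8 LD2_c9 LD3_c18) (LK LD1_c15 LD2_c21 LD3_c34) Lrfl Lrfl
theorem f389849 : Led Lsl_gt (LP (LK LD1_c15 LD2_c21 LD3_c34)) = (LP (LK LD1_c25 LD2_c12 LD3_c53)) :=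
  Lgr Lrot149 (Lpe (f52470 IH) (Lpr_gf (K31.f52464 IH) (Lpe (K18.f50657 IH) (Lpr_ct (K31.f50660 IH) (Lpe (K31.f389079 IH) (Lpe (K30.f388626 IH) (Lpr_bt (K31.f388623 IH) (Lpr_gf (K30.f388925 IH) (Lpe (K31.f388019 IH) (Lpr_ct (K31.f389842 IH) (Lpn (LP (LK LD1_c25 LD2_c12 LD3_c53)))))))))))))
theorem f52473 : Led Lsl_gt (LP (LK LD1_c8 LD2_c9 LD3_c13)) = (LP (LK LD1_c15 LD2_c21 LD3_c4)) :=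
  Lre_g IH (LK LD1_c8 LD2_c9 LD3_c13) (LK LD1_c15 LD2_c21 LD3_c4) Lrfl Lrfl
theorem f389845 : Led Lsl_cf (LP (LK LD1_c19 LD2_c49 LD3_c14)) = (LP (LK LD1_c25 LD2_c12 LD3_c53)) :=
  Lgr Lrot11 (Lpr_ct (K31.f389842 IH) (Lpn (LP (LK LD1_c25 LD2_c12 LD3_c53))))
theorem f220936 : Led Lsl_dt (LP (LK LD1_c10 LD2_c58 LD3_c49)) = (LP (LK LD1_c19 LD2_c49 LD3_c14)) :=
  Lre_d IH (LK LD1_c10 LD2_c58 LD3_c49) (LK LD1_c19 LD2_c49 LD3_c14) Lrfl Lrfl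
theorem f389851 : Led Lsl_ct (LP (LK LD1_c15 LD2_c21 LD3_c4)) = (LP (LK LD1_c10 LD2_c58 LD3_c49)) :=
  Lgr Lrot110 (Lpe (f52473 IH) (Lpe (K31.f52472 IH) (Lpe (K16.f52471 IH) (Lpr_df (K10.f52486 IH) (Lpe (K31.f52464 IH) (Lpr_ct (f52470 IH) (Lpr_gt (f389849 IH) (Lpe (f389845 IH) (Lpe (f220936 IH) (Lpn (LP (LK LD1_c10 LD2_c58 LD3_c49))))))))))))
theorem f388618 : Led Lsl_cf (LP (LK LD1_c19 LD2_c49 LD3_c12)) = (LP (LK LD1_c15 LD2_c15 LD3_c44)) :=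
  Lgr Lrot108 (Lpr_ft (K30.f388614 IH) (Lpr_ct (K30.f52498 IH) (Lpr_ft (K31.f296784 IH) (Lpn (LP (LK LD1_c15 LD2_c15 LD3_c44))))))
theorem f173168 : Led Lsl_ct (LP (LK LD1_c4 LD2_c29 LD3_c26)) = (LP (LK LD1_c2 LD2_c11 LD3_c50)) :=
  Lre_c IH (LK LD1_c4 LD2_c29 LD3_c26) (LK LD1_c2 LD2_c11 LD3_c50) Lrfl Lrfl
theorem f235081 : Led Lsl_ct (LP (LK LD1_c8 LD2_c57 LD3_c20)) = (LP (LK LD1_c4 LD2_c29 LD3_c33)) :=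
  Lre_c IH (LK LD1_c8 LD2_c57 LD3_c20) (LK LD1_c4 LD2_c29 LD3_c33) Lrfl Lrfl
theorem f235082 : Led Lsl_bt (LP (LK LD1_c8 LD2_c57 LD3_c20)) = (LP (LK LD1_c16 LD2_c45 LD3_c61)) :=
  Lre_b IH (LK LD1_c8 LD2_c57 LD3_c20) (LK LD1_c16 LD2_c45 LD3_c61) Lrfl Lrfl
theorem f235083 : Led Lsl_gf (LP (LK LD1_c18 LD2_c2 LD3_c56)) = (LP (LK LD1_c16 LD2_c45 LD3_c61)) :=
  Lgr Lrot181 (Lpr_ct (K30.f213431 IH) (Lpr_gt (K30.f54225 IH) (Lpr_cf (K31.f235000 IH) (Lpr_bt (K16.f218731 IH) (Lpr_gt (K13.f218730 IH) (Lpe (K31.f232133 IH) (Lpr_ct (f173168 IH) (Lpr_gt (K24.f165015 IH) (Lpe (f235081 IH) (Lpr_bt (f235082 IH) (Lpn (LP (LK LD1_c16 LD2_c45 LD3_c61)))))))))))))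
theorem f173171 : Led Lsl_gt (LP (LK LD1_c8 LD2_c57 LD3_c3)) = (LP (LK LD1_c4 LD2_c29 LD3_c26)) :=
  Lre_g IH (LK LD1_c8 LD2_c57 LD3_c3) (LK LD1_c4 LD2_c29 LD3_c26) Lrfl Lrfl
theorem f389861 : Led Lsl_bt (LP (LK LD1_c15 LD2_c21 LD3_c4)) = (LP (LK LD1_c8 LD2_c57 LD3_c3)) :=
  Lgr Lrot130 (Lpr_ct (f389851 IH) (Lpe (K30.f220933 IH) (Lpr_cf (f388618 IH) (Lpr_bt (K30.f388933 IH) (Lpr_gf (f235083 IH) (Lpe (f235082 IH) (Lpr_ct (f235081 IH) (Lpe (K24.f165015 IH) (Lpe (f173168 IH) (Lpe (f173171 IH) (Lpn (LP (LK LD1_c8 LD2_c57 LD3_c3)))))))))))))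
theorem f404189 : Led Lsl_ft (LP (LK LD1_c8 LD2_c57 LD3_c3)) = (LP (LK LD1_c5 LD2_c32 LD3_c18)) :=
  Lgr Lrot75 (Lpe (f389861 IH) (Lpr_ff (f404187 IH) (Lpe (K31.f168122 IH) (Lpn (LP (LK LD1_c5 LD2_c32 LD3_c18))))))
theorem f391335 : Led Lsl_df (LP (LK LD1_c8 LD2_c57 LD3_c22)) = (LP (LK LD1_c16 LD2_c43 LD3_c55)) :=
  Lgr Lrot162 (Lpe (K50.f391319 IH) (Lpe (K31.f387798 IH) (Lpe (K30.f387628 IH) (Lpr_gf (K31.f391324 IH) (Lpr_dt (K31.f173438 IH) (Lpr_gt (K31.f173421 IH) (Lpr_ct (K50.f173427 IH) (Lpr_gt (K50.f173428 IH) (Lpe (K50.f173433 IH) (Lpn (LP (LK LD1_c16 LD2_c43 LD3_c55))))))))))))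
theorem f173431 : Led Lsl_bt (LP (LK LD1_c8 LD2_c56 LD3_c19)) = (LP (LK LD1_c16 LD2_c43 LD3_c55)) :=
  Lre_b IH (LK LD1_c8 LD2_c56 LD3_c19) (LK LD1_c16 LD2_c43 LD3_c55) Lrfl Lrfl
theorem f391357 : Led Lsl_dt (LP (LK LD1_c4 LD2_c29 LD3_c34)) = (LP (LK LD1_c8 LD2_c56 LD3_c19)) :=
  Lgr Lrot79 (Lpe (K31.f281164 IH) (Lpr_df (f391335 IH) (Lpe (f173431 IH) (Lpn (LP (LK LD1_c8 LD2_c56 LD3_c19))))))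
theorem f281138 : Led Lsl_gt (LP (LK LD1_c5 LD2_c32 LD3_c19)) = (LP (LK LD1_c8 LD2_c57 LD3_c3)) :=
  Lgr Lrot5 (Lpr_ft (K20.f281092 IH) (Lpr_at (K20.f261934 IH) (Lpe (f173171 IH) (Lpn (LP (LK LD1_c8 LD2_c57 LD3_c3))))))
theorem f173442 : Led Lsl_dt (LP (LK LD1_c4 LD2_c28 LD3_c60)) = (LP (LK LD1_c2 LD2_c11 LD3_c33)) :=
  Lre_d IH (LK LD1_c4 LD2_c28 LD3_c60) (LK LD1_c2 LD2_c11 LD3_c33) Lrfl Lrfl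
theorem f179221 : Led Lsl_dt (LP (LK LD1_c8 LD2_c55 LD3_c57)) = (LP (LK LD1_c4 LD2_c28 LD3_c49)) :=
  Lre_d IH (LK LD1_c8 LD2_c55 LD3_c57) (LK LD1_c4 LD2_c28 LD3_c49) Lrfl Lrfl
theorem f179222 : Led Lsl_gt (LP (LK LD1_c16 LD2_c43 LD3_c13)) = (LP (LK LD1_c8 LD2_c55 LD3_c57)) :=
  Lre_g IH (LK LD1_c16 LD2_c43 LD3_c13) (LK LD1_c8 LD2_c55 LD3_c57) Lrfl Lrfl
theorem f391362 : Led Lsl_dt (LP (LK LD1_c8 LD2_c57 LD3_c3)) = (LP (LK LD1_c16 LD2_c43 LD3_c13)) :=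
  Lgr Lrot57 (Lpe (f281138 IH) (Lpe (K20.f213345 IH) (Lpr_gt (K31.f281159 IH) (Lpr_dt (f391357 IH) (Lpr_gt (K50.f173425 IH) (Lpr_dt (f173442 IH) (Lpe (K31.f179220 IH) (Lpe (f179221 IH) (Lpe (f179222 IH) (Lpn (LP (LK LD1_c16 LD2_c43 LD3_c13))))))))))))
theorem f391364 : Led Lsl_df (LP (LK LD1_c8 LD2_c57 LD3_c3)) = (LP (LK LD1_c16 LD2_c43 LD3_c13)) :=
  Lgr Lrot38 (Lpr_dt (f391362 IH) (Lpn (LP (LK LD1_c16 LD2_c43 LD3_c13))))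
theorem f175193 : Led Lsl_dt (LP (LK LD1_c5 LD2_c30 LD3_c1)) = (LP (LK LD1_c2 LD2_c41 LD3_c18)) :=
  Lre_d IH (LK LD1_c5 LD2_c30 LD3_c1) (LK LD1_c2 LD2_c41 LD3_c18) Lrfl Lrfl
theorem f175194 : Led Lsl_gt (LP (LK LD1_c10 LD2_c51 LD3_c21)) = (LP (LK LD1_c5 LD2_c30 LD3_c1)) :=
  Lre_g IH (LK LD1_c10 LD2_c51 LD3_c21) (LK LD1_c5 LD2_c30 LD3_c1) Lrfl Lrfl
theorem f281471 : Led Lsl_dt (LP (LK LD1_c5 LD2_c32 LD3_c18)) = (LP (LK LD1_c10 LD2_c51 LD3_c21)) :=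
  Lgr Lrot57 (Lpr_gf (K24.f281469 IH) (Lpe (K20.f281083 IH) (Lpe (K31.f281147 IH) (Lpr_dt (K30.f175178 IH) (Lpr_gt (K30.f175092 IH) (Lpr_dt (K27.f175119 IH) (Lpe (K30.f175192 IH) (Lpe (f175193 IH) (Lpe (f175194 IH) (Lpn (LP (LK LD1_c10 LD2_c51 LD3_c21))))))))))))
theorem f404195 : Led Lsl_ff (LP (LK LD1_c16 LD2_c43 LD3_c13)) = (LP (LK LD1_c10 LD2_c51 LD3_c21)) :=
  Lgr Lrot19 (Lpe (f391364 IH) (Lpr_ft (f404189 IH) (Lpr_dt (f281471 IH) (Lpn (LP (LK LD1_c10 LD2_c51 LD3_c21))))))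
theorem f404199 : Led Lsl_ft (LP (LK LD1_c16 LD2_c43 LD3_c13)) = (LP (LK LD1_c10 LD2_c51 LD3_c21)) :=
  Lgr Lrot48 (Lpr_ff (f404195 IH) (Lpn (LP (LK LD1_c10 LD2_c51 LD3_c21))))
theorem f179238 : Led Lsl_gt (LP (LK LD1_c8 LD2_c55 LD3_c57)) = (LP (LK LD1_c16 LD2_c43 LD3_c12)) :=
  Lre_g IH (LK LD1_c8 LD2_c55 LD3_c57) (LK LD1_c16 LD2_c43 LD3_c12) Lrfl Lrfl
theorem f404272 : Led Lsl_af (LP (LK LD1_c16 LD2_c43 LD3_c12)) = (LP (LK LD1_c10 LD2_c51 LD3_c21)) :=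
  Lgr Lrot31 (Lpe (f179238 IH) (Lpe (f179222 IH) (Lpr_ft (f404199 IH) (Lpn (LP (LK LD1_c10 LD2_c51 LD3_c21))))))
theorem f404201 : Led Lsl_at (LP (LK LD1_c16 LD2_c43 LD3_c13)) = (LP (LK LD1_c10 LD2_c51 LD3_c20)) :=
  Lgr Lrot26 (Lpr_ff (f404195 IH) (Lpr_gt (f175194 IH) (Lpr_gt (K30.f217014 IH) (Lpn (LP (LK LD1_c10 LD2_c51 LD3_c20))))))
theorem f404203 : Led Lsl_af (LP (LK LD1_c16 LD2_c43 LD3_c13)) = (LP (LK LD1_c10 LD2_c51 LD3_c20)) :=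
  Lgr Lrot0 (Lpr_at (f404201 IH) (Lpn (LP (LK LD1_c10 LD2_c51 LD3_c20))))
theorem f404279 : Led Lsl_ft (LP (LK LD1_c16 LD2_c43 LD3_c12)) = (LP (LK LD1_c10 LD2_c51 LD3_c20)) :=
  Lgr Lrot101 (Lpr_af (f404272 IH) (Lpe (f404199 IH) (Lpr_af (f404203 IH) (Lpn (LP (LK LD1_c10 LD2_c51 LD3_c20))))))
theorem f386358 : Led Lsl_dt (LP (LK LD1_c16 LD2_c43 LD3_c11)) = (LP (LK LD1_c8 LD2_c55 LD3_c56)) :=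
  Lre_d IH (LK LD1_c16 LD2_c43 LD3_c11) (LK LD1_c8 LD2_c55 LD3_c56) Lrfl Lrfl
theorem f386373 : Led Lsl_ff (LP (LK LD1_c16 LD2_c43 LD3_c11)) = (LP (LK LD1_c10 LD2_c51 LD3_c18)) :=
  Lgr Lrot19 (Lpr_dt (f386358 IH) (Lpr_ft (K30.f385163 IH) (Lpr_dt (K30.f384922 IH) (Lpn (LP (LK LD1_c10 LD2_c51 LD3_c18))))))
theorem f309468 : Led Lsl_at (LP (LK LD1_c16 LD2_c43 LD3_c11)) = (LP (LK LD1_c8 LD2_c55 LD3_c57)) :=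
  Lre_a IH (LK LD1_c16 LD2_c43 LD3_c11) (LK LD1_c8 LD2_c55 LD3_c57) Lrfl Lrfl
theorem f386390 : Led Lsl_gf (LP (LK LD1_c16 LD2_c43 LD3_c13)) = (LP (LK LD1_c10 LD2_c51 LD3_c18)) :=
  Lgr Lrot47 (Lpr_gt (f179222 IH) (Lpe (f309468 IH) (Lpr_ff (f386373 IH) (Lpn (LP (LK LD1_c10 LD2_c51 LD3_c18))))))
theorem f404287 : Led Lsl_gt (LP (LK LD1_c16 LD2_c43 LD3_c12)) = (LP (LK LD1_c10 LD2_c51 LD3_c18)) :=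
  Lgr Lrot5 (Lpr_ft (f404279 IH) (Lpe (f404203 IH) (Lpr_gf (f386390 IH) (Lpn (LP (LK LD1_c10 LD2_c51 LD3_c18))))))
theorem f403832 : Led Lsl_af (LP (LK LD1_c8 LD2_c57 LD3_c2)) = (LP (LK LD1_c5 LD2_c32 LD3_c18)) :=
  Lgr Lrot0 (Lpr_at (K41.f403830 IH) (Lpn (LP (LK LD1_c5 LD2_c32 LD3_c18))))
theorem f281635 : Led Lsl_ct (LP (LK LD1_c5 LD2_c32 LD3_c17)) = (LP (LK LD1_c8 LD2_c59 LD3_c8)) :=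
  Lgr Lrot59 (Lpr_cf (K20.f281631 IH) (Lpn (LP (LK LD1_c8 LD2_c59 LD3_c8))))
theorem f403821 : Led Lsl_ft (LP (LK LD1_c8 LD2_c57 LD3_c2)) = (LP (LK LD1_c5 LD2_c32 LD3_c17)) :=
  Lgr Lrot4 (Lpe (K41.f173540 IH) (Lpr_ff (K41.f403819 IH) (Lpe (f281635 IH) (Lpn (LP (LK LD1_c5 LD2_c32 LD3_c17))))))
theorem f404191 : Led Lsl_af (LP (LK LD1_c8 LD2_c57 LD3_c3)) = (LP (LK LD1_c5 LD2_c32 LD3_c17)) :=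
  Lgr Lrot45 (Lpr_ft (f404189 IH) (Lpe (f403832 IH) (Lpr_ft (f403821 IH) (Lpn (LP (LK LD1_c5 LD2_c32 LD3_c17))))))
theorem f404207 : Led Lsl_df (LP (LK LD1_c5 LD2_c32 LD3_c17)) = (LP (LK LD1_c10 LD2_c51 LD3_c20)) :=
  Lgr Lrot18 (Lpe (f404191 IH) (Lpr_dt (f391362 IH) (Lpr_at (f404201 IH) (Lpn (LP (LK LD1_c10 LD2_c51 LD3_c20))))))
theorem f404283 : Led Lsl_df (LP (LK LD1_c16 LD2_c43 LD3_c12)) = (LP (LK LD1_c8 LD2_c57 LD3_c2)) :=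
  Lgr Lrot78 (Lpr_ft (f404279 IH) (Lpe (f404207 IH) (Lpe (K41.f403825 IH) (Lpn (LP (LK LD1_c8 LD2_c57 LD3_c2))))))
theorem f417806 : Led Lsl_dt (LP (LK LD1_c4 LD2_c29 LD3_c33)) = (LP (LK LD1_c8 LD2_c56 LD3_c18)) :=
  Lgr Lrot57 (Lpe (K24.f165015 IH) (Lpe (f173168 IH) (Lpr_gt (K31.f173539 IH) (Lpe (f404283 IH) (Lpr_gt (f404287 IH) (Lpr_dt (K30.f384921 IH) (Lpe (K30.f222636 IH) (Lpe (K30.f222637 IH) (Lpr_gf (f417802 IH) (Lpn (LP (LK LD1_c8 LD2_c56 LD3_c18))))))))))))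
def v12720 : LQ := Led Lsl_ft (LP (LK LD1_c4 LD2_c29 LD3_c33))
theorem f697828 : Led Lsl_ft (LP (LK LD1_c4 LD2_c29 LD3_c33)) = v12720 :=
  Lrfl
theorem f697830 : Led Lsl_ff (LP (LK LD1_c4 LD2_c29 LD3_c33)) = v12720 :=
  Lgr Lrot3 (Lpr_ft (f697828 IH) (Lpn v12720))
def v12719 : LQ := Led Lsl_at (LP (LK LD1_c4 LD2_c29 LD3_c33))
theorem f697824 : Led Lsl_at (LP (LK LD1_c4 LD2_c29 LD3_c33)) = v12719 :=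
  Lrfl
theorem f697825 : Led Lsl_af (LP (LK LD1_c4 LD2_c29 LD3_c33)) = v12719 :=
  Lgr Lrot0 (Lpr_at (f697824 IH) (Lpn v12719))
theorem f697826 : Led Lsl_ft (LP (LK LD1_c4 LD2_c29 LD3_c34)) = v12719 :=
  Lgr Lrot2 (Lpr_gt (K31.f232134 IH) (Lpr_gt (K24.f165015 IH) (Lpr_af (f697825 IH) (Lpn v12719))))
theorem f697827 : Led Lsl_ff (LP (LK LD1_c4 LD2_c29 LD3_c34)) = v12719 :=
  Lgr Lrot3 (Lpr_ft (f697826 IH) (Lpn v12719))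
theorem f697831 : Led Lsl_at (LP (LK LD1_c4 LD2_c29 LD3_c34)) = v12720 :=
  Lgr Lrot66 (Lpr_ff (f697827 IH) (Lpe (f697824 IH) (Lpr_ff (f697830 IH) (Lpn v12720))))
theorem f332291 : Led Lsl_gt (LP (LK LD1_c9 LD2_c44 LD3_c2)) = (LP (LK LD1_c4 LD2_c56 LD3_c12)) :=
  Lre_g IH (LK LD1_c9 LD2_c44 LD3_c2) (LK LD1_c4 LD2_c56 LD3_c12) Lrfl Lrfl
theorem f731756 : Led Lsl_ft (LP (LK LD1_c9 LD2_c44 LD3_c2)) = (LP (LK LD1_c10 LD2_c41 LD3_c19)) :=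
  Lgr Lrot2 (Lpr_gt (f332291 IH) (Lpr_gt (K31.f387693 IH) (Lpr_af (f731748 IH) (Lpn (LP (LK LD1_c10 LD2_c41 LD3_c19))))))
theorem f731763 : Led Lsl_ff (LP (LK LD1_c9 LD2_c44 LD3_c2)) = (LP (LK LD1_c10 LD2_c41 LD3_c19)) :=
  Lgr Lrot3 (Lpr_ft (f731756 IH) (Lpn (LP (LK LD1_c10 LD2_c41 LD3_c19))))
theorem f731769 : Led Lsl_at (LP (LK LD1_c9 LD2_c44 LD3_c2)) = (LP (LK LD1_c8 LD2_c57 LD3_c22)) :=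
  Lgr Lrot26 (Lpr_ff (f731763 IH) (Lpr_gt (K22.f331785 IH) (Lpr_gt (K50.f391322 IH) (Lpn (LP (LK LD1_c8 LD2_c57 LD3_c22))))))
theorem f731758 : Led Lsl_bf (LP (LK LD1_c9 LD2_c44 LD3_c2)) = (LP (LK LD1_c10 LD2_c56 LD3_c54)) :=
  Lgr Lrot61 (Lpr_ft (f731756 IH) (Lpr_bt (K30.f218456 IH) (Lpr_ft (K40.f387538 IH) (Lpn (LP (LK LD1_c10 LD2_c56 LD3_c54))))))
theorem f387545 : Led Lsl_at (LP (LK LD1_c5 LD2_c32 LD3_c34)) = (LP (LK LD1_c10 LD2_c56 LD3_c54)) :=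
  Lre_a IH (LK LD1_c5 LD2_c32 LD3_c34) (LK LD1_c10 LD2_c56 LD3_c54) Lrfl Lrfl
theorem f731777 : v4674 = (LP (LK LD1_c4 LD2_c29 LD3_c34)) :=
  (Llr Lrot36 (Lpe (f638438 IH) (Lpr_bt (f290435 IH) (Lpr_at (f387545 IH) (Lpe (f731758 IH) (Lpr_at (f731769 IH) (Lpr_bt (K31.f281164 IH) (Lpn (LP (LK LD1_c4 LD2_c29 LD3_c34)))))))))).symm
theorem f731778 : (LP (LK LD1_c2 LD2_c42 LD3_c27)) = v12720 :=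
  Lefun (Lecon (Lfl_af (f638438 IH)) (f731777 IH)) (f697831 IH)
theorem f731789 : (LP (LK LD1_c4 LD2_c29 LD3_c33)) = v4676 :=
  Lefun (Lecon (Lfl_ff (f697830 IH)) (f731778 IH).symm) (f638443 IH)
theorem f731799 : v15008 = (LP (LK LD1_c8 LD2_c56 LD3_c18)) :=
  Lefun (Lecon (f729593 IH) (f731789 IH).symm) (f417806 IH)
theorem f173463 : Led Lsl_bt (LP (LK LD1_c8 LD2_c56 LD3_c18)) = (LP (LK LD1_c16 LD2_c43 LD3_c52)) :=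
  Lre_b IH (LK LD1_c8 LD2_c56 LD3_c18) (LK LD1_c16 LD2_c43 LD3_c52) Lrfl Lrfl
theorem f731804 : Led Lsl_ff (LP (LK LD1_c10 LD2_c52 LD3_c37)) = (LP (LK LD1_c16 LD2_c43 LD3_c52)) :=
  Lgr Lrot25 (Lpr_bt (K30.f175099 IH) (Lpr_ft (f729587 IH) (Lpqs (f731799 IH) (Lpr_bt (f173463 IH) (Lpn (LP (LK LD1_c16 LD2_c43 LD3_c52)))))))
theorem f384716 : Led Lsl_gf (LP (LK LD1_c15 LD2_c3 LD3_c41)) = (LP (LK LD1_c16 LD2_c43 LD3_c52)) :=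
  Lgr Lrot76 (Lpr_af (K30.f384698 IH) (Lpe (K30.f384704 IH) (Lpr_gt (K30.f384714 IH) (Lpn (LP (LK LD1_c16 LD2_c43 LD3_c52))))))
theorem f731821 : Led Lsl_gf (LP (LK LD1_c19 LD2_c39 LD3_c54)) = (LP (LK LD1_c15 LD2_c3 LD3_c41)) :=
  Lgr Lrot76 (Lpe (K40.f175149 IH) (Lpr_ff (f731804 IH) (Lpe (f384716 IH) (Lpn (LP (LK LD1_c15 LD2_c3 LD3_c41))))))
theorem f244287 : Led Lsl_bt (LP (LK LD1_c5 LD2_c36 LD3_c38)) = (LP (LK LD1_c11 LD2_c5 LD3_c22)) :=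
  Lre_b IH (LK LD1_c5 LD2_c36 LD3_c38) (LK LD1_c11 LD2_c5 LD3_c22) Lrfl Lrfl
theorem f384657 : Led Lsl_df (LP (LK LD1_c15 LD2_c3 LD3_c41)) = (LP (LK LD1_c11 LD2_c5 LD3_c22)) :=
  Lgr Lrot12 (Lpr_bt (K30.f140430 IH) (Lpr_dt (K30.f384650 IH) (Lpr_bt (f244287 IH) (Lpn (LP (LK LD1_c11 LD2_c5 LD3_c22))))))
theorem f267619 : Led Lsl_dt (LP (LK LD1_c4 LD2_c30 LD3_c12)) = (LP (LK LD1_c8 LD2_c58 LD3_c37)) :=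
  Lre_d IH (LK LD1_c4 LD2_c30 LD3_c12) (LK LD1_c8 LD2_c58 LD3_c37) Lrfl Lrfl
theorem f332303 : Led Lsl_ct (LP (LK LD1_c2 LD2_c12 LD3_c7)) = (LP (LK LD1_c4 LD2_c30 LD3_c15)) :=
  Lre_c IH (LK LD1_c2 LD2_c12 LD3_c7) (LK LD1_c4 LD2_c30 LD3_c15) Lrfl Lrfl
theorem f235198 : Led Lsl_gt (LP (LK LD1_c4 LD2_c30 LD3_c15)) = (LP (LK LD1_c8 LD2_c58 LD3_c44)) :=
  Lre_g IH (LK LD1_c4 LD2_c30 LD3_c15) (LK LD1_c8 LD2_c58 LD3_c44) Lrfl Lrfl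
theorem f311620 : Led Lsl_dt (LP (LK LD1_c8 LD2_c58 LD3_c44)) = (LP (LK LD1_c16 LD2_c47 LD3_c53)) :=
  Lre_d IH (LK LD1_c8 LD2_c58 LD3_c44) (LK LD1_c16 LD2_c47 LD3_c53) Lrfl Lrfl
def v12741 : LQ := Led Lsl_at (LP (LK LD1_c4 LD2_c30 LD3_c12))
theorem f697935 : Led Lsl_at (LP (LK LD1_c4 LD2_c30 LD3_c12)) = v12741 :=
  Lrfl
theorem f697936 : Led Lsl_af (LP (LK LD1_c4 LD2_c30 LD3_c12)) = v12741 :=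
  Lgr Lrot0 (Lpr_at (f697935 IH) (Lpn v12741))
theorem f697937 : Led Lsl_ft (LP (LK LD1_c4 LD2_c30 LD3_c13)) = v12741 :=
  Lgr Lrot2 (Lpr_gt (K41.f225192 IH) (Lpr_gt (K24.f225193 IH) (Lpr_af (f697936 IH) (Lpn v12741))))
theorem f697938 : Led Lsl_ff (LP (LK LD1_c4 LD2_c30 LD3_c13)) = v12741 :=
  Lgr Lrot3 (Lpr_ft (f697937 IH) (Lpn v12741))
def v4690 : LQ := Led Lsl_ft (LP (LK LD1_c2 LD2_c42 LD3_c40))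
theorem f638495 : Led Lsl_ft (LP (LK LD1_c2 LD2_c42 LD3_c40)) = v4690 :=
  Lrfl
def v4689 : LQ := Led Lsl_at (LP (LK LD1_c2 LD2_c42 LD3_c40))
theorem f638491 : Led Lsl_at (LP (LK LD1_c2 LD2_c42 LD3_c40)) = v4689 :=
  Lrfl
theorem f638492 : Led Lsl_af (LP (LK LD1_c2 LD2_c42 LD3_c40)) = v4689 :=
  Lgr Lrot0 (Lpr_at (f638491 IH) (Lpn v4689))
theorem f638493 : Led Lsl_ft (LP (LK LD1_c2 LD2_c42 LD3_c41)) = v4689 :=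
  Lgr Lrot2 (Lpr_gt (K50.f179526 IH) (Lpr_gt (K24.f213564 IH) (Lpr_af (f638492 IH) (Lpn v4689))))
theorem f638496 : Led Lsl_af (LP (LK LD1_c2 LD2_c42 LD3_c41)) = v4690 :=
  Lgr Lrot45 (Lpr_ft (f638493 IH) (Lpe (f638492 IH) (Lpr_ft (f638495 IH) (Lpn v4690))))
def v12604 : LQ := Led Lsl_at (LP (LK LD1_c4 LD2_c18 LD3_c25))
theorem f693768 : Led Lsl_at (LP (LK LD1_c4 LD2_c18 LD3_c25)) = v12604 :=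
  Lrfl
theorem f1219 : Led Lsl_dt (LP (LK LD1_c2 LD2_c6 LD3_c30)) = (LP (LK LD1_c4 LD2_c18 LD3_c25)) :=
  Lre_d IH (LK LD1_c2 LD2_c6 LD3_c30) (LK LD1_c4 LD2_c18 LD3_c25) Lrfl Lrfl
theorem f693770 : Led Lsl_df K50.v4133 = v12604 :=
  Lgr Lrot18 (Lpe (K50.f631375 IH) (Lpr_dt (f1219 IH) (Lpr_at (f693768 IH) (Lpn v12604))))
theorem f693771 : Led Lsl_dt K50.v4133 = v12604 :=
  Lgr Lrot42 (Lpr_df (f693770 IH) (Lpn v12604))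
theorem f716570 : v12604 = (LP (LK LD1_c8 LD2_c21 LD3_c1)) :=
  Lefun (Lecon (f693771 IH) (K52.f716557 IH).symm) (Lfl_df (K49.f398274 IH))
theorem f52058 : Led Lsl_dt (LP (LK LD1_c2 LD2_c6 LD3_c31)) = (LP (LK LD1_c4 LD2_c18 LD3_c29)) :=
  Lre_d IH (LK LD1_c2 LD2_c6 LD3_c31) (LK LD1_c4 LD2_c18 LD3_c29) Lrfl Lrfl
theorem f693772 : Led Lsl_ft (LP (LK LD1_c4 LD2_c18 LD3_c29)) = v12604 :=
  Lgr Lrot54 (Lpe (f52058 IH) (Lpr_ff (K50.f631379 IH) (Lpr_df (f693770 IH) (Lpn v12604))))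
theorem f52061 : Led Lsl_ct (LP (LK LD1_c8 LD2_c35 LD3_c47)) = (LP (LK LD1_c4 LD2_c18 LD3_c29)) :=
  Lre_c IH (LK LD1_c8 LD2_c35 LD3_c47) (LK LD1_c4 LD2_c18 LD3_c29) Lrfl Lrfl
theorem f260726 : Led Lsl_ct (LP (LK LD1_c8 LD2_c21 LD3_c1)) = (LP (LK LD1_c15 LD2_c43 LD3_c6)) :=
  Lre_c IH (LK LD1_c8 LD2_c21 LD3_c1) (LK LD1_c15 LD2_c43 LD3_c6) Lrfl Lrfl
theorem f716578 : Led Lsl_ff (LP (LK LD1_c8 LD2_c35 LD3_c47)) = (LP (LK LD1_c15 LD2_c43 LD3_c6)) :=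
  Lgr Lrot23 (Lpr_ct (f52061 IH) (Lpr_ft (f693772 IH) (Lpqs (f716570 IH) (Lpr_ct (f260726 IH) (Lpn (LP (LK LD1_c15 LD2_c43 LD3_c6)))))))
theorem f716582 : Led Lsl_ft (LP (LK LD1_c8 LD2_c35 LD3_c47)) = (LP (LK LD1_c15 LD2_c43 LD3_c6)) :=
  Lgr Lrot48 (Lpr_ff (f716578 IH) (Lpn (LP (LK LD1_c15 LD2_c43 LD3_c6))))
theorem f397854 : Led Lsl_bt (LP (LK LD1_c16 LD2_c1 LD3_c46)) = (LP (LK LD1_c8 LD2_c32 LD3_c14)) :=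
  Lre_b IH (LK LD1_c16 LD2_c1 LD3_c46) (LK LD1_c8 LD2_c32 LD3_c14) Lrfl Lrfl
theorem f178834 : Led Lsl_dt (LP (LK LD1_c10 LD2_c52 LD3_c5)) = (LP (LK LD1_c5 LD2_c30 LD3_c19)) :=
  Lre_d IH (LK LD1_c10 LD2_c52 LD3_c5) (LK LD1_c5 LD2_c30 LD3_c19) Lrfl Lrfl
theorem f550390 : Led Lsl_gt (LP (LK LD1_c8 LD2_c32 LD3_c14)) = (LP (LK LD1_c10 LD2_c52 LD3_c5)) :=
  Lgr Lrot190 (Lpe (f397854 IH) (Lpe (K38.f550386 IH) (Lpr_df (K38.f550380 IH) (Lpe (K38.f226949 IH) (Lpe (K22.f233912 IH) (Lpe (K12.f220732 IH) (Lpe (K13.f190824 IH) (Lpe (K13.f222224 IH) (Lpr_bf (K12.f222211 IH) (Lpe (K12.f199178 IH) (Lpe (K12.f219354 IH) (Lpr_gf (K14.f256056 IH) (Lpe (K14.f167006 IH) (Lpe (K9.f167000 IH) (Lpr_df (K9.f178325 IH) (Lpr_gf (K9.f178498 IH) (Lpe (K50.f178832 IH) (Lpe (K38.f178833 IH) (Lpe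 (f178834 IH) (Lpn (LP (LK LD1_c10 LD2_c52 LD3_c5))))))))))))))))))))))
theorem f1050 : Led Lsl_at (LP (LK LD1_c4 LD2_c16 LD3_c31)) = (LP (LK LD1_c2 LD2_c5 LD3_c33)) :=
  Lre_a IH (LK LD1_c4 LD2_c16 LD3_c31) (LK LD1_c2 LD2_c5 LD3_c33) Lrfl Lrfl
theorem f51704 : Led Lsl_ff (LP (LK LD1_c4 LD2_c16 LD3_c31)) = (LP (LK LD1_c8 LD2_c23 LD3_c33)) :=
  Lgr Lrot30 (Lpr_at (f1050 IH) (Lpr_ft (K30.f51695 IH) (Lpr_at (K30.f51703 IH) (Lpn (LP (LK LD1_c8 LD2_c23 LD3_c33))))))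
theorem f52098 : Led Lsl_gf (LP (LK LD1_c4 LD2_c16 LD3_c30)) = (LP (LK LD1_c8 LD2_c23 LD3_c33)) :=
  Lgr Lrot47 (Lpr_gt (K30.f1093 IH) (Lpe (f1050 IH) (Lpr_ff (f51704 IH) (Lpn (LP (LK LD1_c8 LD2_c23 LD3_c33))))))
theorem f51847 : Led Lsl_ct (LP (LK LD1_c8 LD2_c23 LD3_c33)) = (LP (LK LD1_c4 LD2_c11 LD3_c57)) :=
  Lre_c IH (LK LD1_c8 LD2_c23 LD3_c33) (LK LD1_c4 LD2_c11 LD3_c57) Lrfl Lrfl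
theorem f1136 : Led Lsl_ft (LP (LK LD1_c4 LD2_c11 LD3_c46)) = (LP (LK LD1_c2 LD2_c3 LD3_c7)) :=
  Lre_f IH (LK LD1_c4 LD2_c11 LD3_c46) (LK LD1_c2 LD2_c3 LD3_c7) Lrfl Lrfl
theorem f51805 : Led Lsl_ff (LP (LK LD1_c2 LD2_c6 LD3_c32)) = (LP (LK LD1_c4 LD2_c11 LD3_c57)) :=
  Lgr Lrot19 (Lpr_dt (K30.f51746 IH) (Lpr_ft (f1136 IH) (Lpr_dt (K30.f1138 IH) (Lpn (LP (LK LD1_c4 LD2_c11 LD3_c57))))))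
theorem f52056 : Led Lsl_gf (LP (LK LD1_c2 LD2_c6 LD3_c31)) = (LP (LK LD1_c4 LD2_c11 LD3_c57)) :=
  Lgr Lrot47 (Lpr_gt (K41.f1213 IH) (Lpe (K50.f1102 IH) (Lpr_ff (f51805 IH) (Lpn (LP (LK LD1_c4 LD2_c11 LD3_c57))))))
theorem f550393 : Led Lsl_gt (LP (LK LD1_c4 LD2_c18 LD3_c29)) = (LP (LK LD1_c4 LD2_c17 LD3_c1)) :=
  Lgr Lrot49 (Lpe (f52058 IH) (Lpr_gf (f52056 IH) (Lpe (f51847 IH) (Lpe (f52098 IH) (Lpr_dt (K38.f52100 IH) (Lpr_gt (f550390 IH) (Lpr_dt (f178834 IH) (Lpe (K38.f178835 IH) (Lpe (K50.f260744 IH) (Lpn (LP (LK LD1_c4 LD2_c17 LD3_c1))))))))))))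
theorem f234565 : Led Lsl_gt (LP (LK LD1_c8 LD2_c17 LD3_c29)) = (LP (LK LD1_c15 LD2_c35 LD3_c23)) :=
  Lre_g IH (LK LD1_c8 LD2_c17 LD3_c29) (LK LD1_c15 LD2_c35 LD3_c23) Lrfl Lrfl
theorem f550397 : Led Lsl_bt (LP (LK LD1_c8 LD2_c35 LD3_c47)) = (LP (LK LD1_c15 LD2_c35 LD3_c23)) :=
  Lgr Lrot92 (Lpr_ct (f52061 IH) (Lpr_gt (f550393 IH) (Lpe (K15.f232291 IH) (Lpr_bt (K15.f232290 IH) (Lpe (K15.f263163 IH) (Lpr_ct (K15.f220485 IH) (Lpr_gt (K19.f309130 IH) (Lpr_cf (K16.f234439 IH) (Lpr_bt (K21.f234562 IH) (Lpr_gt (f234565 IH) (Lpn (LP (LK LD1_c15 LD2_c35 LD3_c23)))))))))))))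
theorem f550401 : Led Lsl_bf (LP (LK LD1_c8 LD2_c35 LD3_c47)) = (LP (LK LD1_c15 LD2_c35 LD3_c23)) :=
  Lgr Lrot24 (Lpr_bt (f550397 IH) (Lpn (LP (LK LD1_c15 LD2_c35 LD3_c23))))
theorem f220410 : Led Lsl_gt (LP (LK LD1_c10 LD2_c50 LD3_c25)) = (LP (LK LD1_c19 LD2_c35 LD3_c46)) :=
  Lre_g IH (LK LD1_c10 LD2_c50 LD3_c25) (LK LD1_c19 LD2_c35 LD3_c46) Lrfl Lrfl
theorem f220333 : Led Lsl_ct (LP (LK LD1_c15 LD2_c43 LD3_c6)) = (LP (LK LD1_c8 LD2_c21 LD3_c1)) :=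
  Lre_c IH (LK LD1_c15 LD2_c43 LD3_c6) (LK LD1_c8 LD2_c21 LD3_c1) Lrfl Lrfl
theorem f220513 : Led Lsl_bf (LP (LK LD1_c19 LD2_c35 LD3_c46)) = (LP (LK LD1_c15 LD2_c43 LD3_c6)) :=
  Lgr Lrot34 (Lpe (f220410 IH) (Lpe (K21.f220407 IH) (Lpr_ct (K12.f213767 IH) (Lpr_gf (K12.f220509 IH) (Lpe (K12.f219948 IH) (Lpe (K12.f220039 IH) (Lpe (K38.f220043 IH) (Lpr_ct (K15.f220060 IH) (Lpe (K49.f220332 IH) (Lpe (f220333 IH) (Lpn (LP (LK LD1_c15 LD2_c43 LD3_c6)))))))))))))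
theorem f716584 : Led Lsl_ff (LP (LK LD1_c15 LD2_c35 LD3_c23)) = (LP (LK LD1_c19 LD2_c35 LD3_c46)) :=
  Lgr Lrot25 (Lpe (f550401 IH) (Lpr_ft (f716582 IH) (Lpe (f220513 IH) (Lpn (LP (LK LD1_c19 LD2_c35 LD3_c46))))))
theorem f400649 : Led Lsl_gf (LP (LK LD1_c25 LD2_c53 LD3_c21)) = (LP (LK LD1_c15 LD2_c58 LD3_c4)) :=
  Lgr Lrot47 (Lpr_gt (K52.f399613 IH) (Lpr_af (K40.f400640 IH) (Lpe (K52.f400647 IH) (Lpn (LP (LK LD1_c15 LD2_c58 LD3_c4))))))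
theorem f250872 : Led Lsl_bt (LP (LK LD1_c15 LD2_c39 LD3_c36)) = (LP (LK LD1_c8 LD2_c19 LD3_c27)) :=
  Lre_b IH (LK LD1_c15 LD2_c39 LD3_c36) (LK LD1_c8 LD2_c19 LD3_c27) Lrfl Lrfl
theorem f234192 : Led Lsl_bt (LP (LK LD1_c8 LD2_c17 LD3_c18)) = (LP (LK LD1_c15 LD2_c35 LD3_c8)) :=
  Lre_b IH (LK LD1_c8 LD2_c17 LD3_c18) (LK LD1_c15 LD2_c35 LD3_c8) Lrfl Lrfl
theorem f261993 : Led Lsl_ff (LP (LK LD1_c15 LD2_c39 LD3_c36)) = (LP (LK LD1_c15 LD2_c35 LD3_c8)) :=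
  Lgr Lrot25 (Lpr_bt (f250872 IH) (Lpr_ft (K15.f261983 IH) (Lpr_bt (f234192 IH) (Lpn (LP (LK LD1_c15 LD2_c35 LD3_c8))))))
theorem f250858 : Led Lsl_bt (LP (LK LD1_c8 LD2_c19 LD3_c27)) = (LP (LK LD1_c15 LD2_c39 LD3_c36)) :=
  Lre_b IH (LK LD1_c8 LD2_c19 LD3_c27) (LK LD1_c15 LD2_c39 LD3_c36) Lrfl Lrfl
theorem f250873 : Led Lsl_dt (LP (LK LD1_c15 LD2_c39 LD3_c36)) = (LP (LK LD1_c15 LD2_c33 LD3_c23)) :=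
  Lgr Lrot79 (Lpe (f250858 IH) (Lpr_df (K14.f250870 IH) (Lpe (K52.f250711 IH) (Lpn (LP (LK LD1_c15 LD2_c33 LD3_c23))))))
theorem f261995 : Led Lsl_dt (LP (LK LD1_c8 LD2_c17 LD3_c17)) = (LP (LK LD1_c15 LD2_c35 LD3_c8)) :=
  Lre_d IH (LK LD1_c8 LD2_c17 LD3_c17) (LK LD1_c15 LD2_c35 LD3_c8) Lrfl Lrfl
theorem f261996 : Led Lsl_ft (LP (LK LD1_c15 LD2_c33 LD3_c23)) = (LP (LK LD1_c8 LD2_c17 LD3_c17)) :=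
  Lgr Lrot54 (Lpe (f250873 IH) (Lpr_ff (f261993 IH) (Lpe (f261995 IH) (Lpn (LP (LK LD1_c8 LD2_c17 LD3_c17))))))
theorem f250682 : Led Lsl_gt (LP (LK LD1_c15 LD2_c33 LD3_c23)) = (LP (LK LD1_c25 LD2_c26 LD3_c56)) :=
  Lre_g IH (LK LD1_c15 LD2_c33 LD3_c23) (LK LD1_c25 LD2_c26 LD3_c56) Lrfl Lrfl
theorem f262002 : Led Lsl_gt (LP (LK LD1_c25 LD2_c26 LD3_c56)) = (LP (LK LD1_c15 LD2_c35 LD3_c7)) :=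
  Lgr Lrot46 (Lpe (f250682 IH) (Lpr_ft (f261996 IH) (Lpr_at (K52.f260697 IH) (Lpn (LP (LK LD1_c15 LD2_c35 LD3_c7))))))
theorem f250681 : Led Lsl_bt (LP (LK LD1_c8 LD2_c16 LD3_c26)) = (LP (LK LD1_c15 LD2_c33 LD3_c23)) :=
  Lre_b IH (LK LD1_c8 LD2_c16 LD3_c26) (LK LD1_c15 LD2_c33 LD3_c23) Lrfl Lrfl
theorem f220351 : Led Lsl_bt (LP (LK LD1_c10 LD2_c50 LD3_c25)) = (LP (LK LD1_c5 LD2_c29 LD3_c36)) :=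
  Lre_b IH (LK LD1_c10 LD2_c50 LD3_c25) (LK LD1_c5 LD2_c29 LD3_c36) Lrfl Lrfl
theorem f220417 : Led Lsl_gt (LP (LK LD1_c15 LD2_c42 LD3_c22)) = (LP (LK LD1_c8 LD2_c20 LD3_c40)) :=
  Lre_g IH (LK LD1_c15 LD2_c42 LD3_c22) (LK LD1_c8 LD2_c20 LD3_c40) Lrfl Lrfl
theorem f220418 : Led Lsl_ct (LP (LK LD1_c25 LD2_c38 LD3_c6)) = (LP (LK LD1_c15 LD2_c42 LD3_c22)) :=
  Lre_c IH (LK LD1_c25 LD2_c38 LD3_c6) (LK LD1_c15 LD2_c42 LD3_c22) Lrfl Lrfl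
theorem f250689 : Led Lsl_bf (LP (LK LD1_c25 LD2_c26 LD3_c56)) = (LP (LK LD1_c25 LD2_c38 LD3_c6)) :=
  Lgr Lrot34 (Lpe (f250682 IH) (Lpe (f250681 IH) (Lpr_ct (K14.f222955 IH) (Lpr_gf (K14.f250685 IH) (Lpe (K12.f222250 IH) (Lpr_gf (K12.f222972 IH) (Lpe (f220351 IH) (Lpe (K21.f220397 IH) (Lpe (f220417 IH) (Lpe (f220418 IH) (Lpn (LP (LK LD1_c25 LD2_c38 LD3_c6)))))))))))))
theorem f234573 : Led Lsl_at (LP (LK LD1_c16 LD2_c4 LD3_c32)) = (LP (LK LD1_c8 LD2_c33 LD3_c51)) :=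
  Lre_a IH (LK LD1_c16 LD2_c4 LD3_c32) (LK LD1_c8 LD2_c33 LD3_c51) Lrfl Lrfl
theorem f234575 : Led Lsl_cf (LP (LK LD1_c16 LD2_c4 LD3_c32)) = (LP (LK LD1_c15 LD2_c35 LD3_c25)) :=
  Lgr Lrot1 (Lpr_at (f234573 IH) (Lpr_ct (K16.f234556 IH) (Lpr_at (K21.f234574 IH) (Lpn (LP (LK LD1_c15 LD2_c35 LD3_c25))))))
theorem f401562 : Led Lsl_gf (LP (LK LD1_c15 LD2_c42 LD3_c22)) = (LP (LK LD1_c16 LD2_c4 LD3_c32)) :=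
  Lgr Lrot126 (Lpe (f220418 IH) (Lpe (f250689 IH) (Lpr_gt (f262002 IH) (Lpe (K52.f400668 IH) (Lpe (f400649 IH) (Lpr_cf (K52.f400693 IH) (Lpr_bt (K52.f220132 IH) (Lpr_gt (K52.f401559 IH) (Lpe (K21.f329214 IH) (Lpe (f234575 IH) (Lpn (LP (LK LD1_c16 LD2_c4 LD3_c32)))))))))))))
theorem f401566 : Led Lsl_gt (LP (LK LD1_c19 LD2_c35 LD3_c46)) = (LP (LK LD1_c15 LD2_c35 LD3_c25)) :=
  Lgr Lrot82 (Lpr_bf (f220513 IH) (Lpr_ct (f220333 IH) (Lpe (K49.f260724 IH) (Lpe (K52.f260695 IH) (Lpr_bt (K52.f260668 IH) (Lpe (f262002 IH) (Lpr_bf (f250689 IH) (Lpr_ct (f220418 IH) (Lpr_gf (f401562 IH) (Lpr_cf (f234575 IH) (Lpn (LP (LK LD1_c15 LD2_c35 LD3_c25)))))))))))))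
theorem f179832 : Led Lsl_ct (LP (LK LD1_c8 LD2_c33 LD3_c27)) = (LP (LK LD1_c16 LD2_c3 LD3_c47)) :=
  Lre_c IH (LK LD1_c8 LD2_c33 LD3_c27) (LK LD1_c16 LD2_c3 LD3_c47) Lrfl Lrfl
theorem f336993 : Led Lsl_gf (LP (LK LD1_c16 LD2_c5 LD3_c7)) = (LP (LK LD1_c25 LD2_c38 LD3_c18)) :=
  Lgr Lrot47 (Lpr_gt (K20.f296049 IH) (Lpr_af (K22.f336980 IH) (Lpe (K22.f316259 IH) (Lpn (LP (LK LD1_c25 LD2_c38 LD3_c18))))))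
theorem f316256 : Led Lsl_dt (LP (LK LD1_c15 LD2_c42 LD3_c28)) = (LP (LK LD1_c25 LD2_c38 LD3_c18)) :=
  Lre_d IH (LK LD1_c15 LD2_c42 LD3_c28) (LK LD1_c25 LD2_c38 LD3_c18) Lrfl Lrfl
theorem f343816 : Led Lsl_gt (LP (LK LD1_c16 LD2_c3 LD3_c47)) = (LP (LK LD1_c15 LD2_c42 LD3_c28)) :=
  Lgr Lrot94 (Lpe (f179832 IH) (Lpr_gt (K23.f343814 IH) (Lpe (K17.f182294 IH) (Lpe (K17.f267062 IH) (Lpr_dt (K20.f284121 IH) (Lpe (K49.f284119 IH) (Lpe (K20.f284120 IH) (Lpr_gf (f336993 IH) (Lpe (f316256 IH) (Lpn (LP (LK LD1_c15 LD2_c42 LD3_c28))))))))))))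
theorem f360980 : Led Lsl_af (LP (LK LD1_c15 LD2_c42 LD3_c28)) = (LP (LK LD1_c16 LD2_c4 LD3_c40)) :=
  Lgr Lrot31 (Lpe (f343816 IH) (Lpr_gf (K26.f360978 IH) (Lpr_ft (K22.f179660 IH) (Lpn (LP (LK LD1_c16 LD2_c4 LD3_c40))))))
theorem f220372 : Led Lsl_ft (LP (LK LD1_c15 LD2_c42 LD3_c28)) = (LP (LK LD1_c8 LD2_c20 LD3_c42)) :=
  Lre_f IH (LK LD1_c15 LD2_c42 LD3_c28) (LK LD1_c8 LD2_c20 LD3_c42) Lrfl Lrfl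
theorem f378735 : Led Lsl_at (LP (LK LD1_c8 LD2_c20 LD3_c42)) = (LP (LK LD1_c8 LD2_c33 LD3_c54)) :=
  Lgr Lrot66 (Lpe (f220372 IH) (Lpr_af (f360980 IH) (Lpe (K22.f179660 IH) (Lpn (LP (LK LD1_c8 LD2_c33 LD3_c54))))))
theorem f378747 : Led Lsl_af (LP (LK LD1_c4 LD2_c10 LD3_c15)) = (LP (LK LD1_c4 LD2_c17 LD3_c23)) :=
  Lgr Lrot50 (Lpr_et (K21.f220356 IH) (Lpr_at (f378735 IH) (Lpr_et (K20.f179670 IH) (Lpn (LP (LK LD1_c4 LD2_c17 LD3_c23))))))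
theorem f220349 : Led Lsl_bt (LP (LK LD1_c4 LD2_c10 LD3_c15)) = (LP (LK LD1_c8 LD2_c20 LD3_c40)) :=
  Lre_b IH (LK LD1_c4 LD2_c10 LD3_c15) (LK LD1_c8 LD2_c20 LD3_c40) Lrfl Lrfl
theorem f220402 : Led Lsl_at (LP (LK LD1_c8 LD2_c20 LD3_c40)) = (LP (LK LD1_c15 LD2_c42 LD3_c23)) :=
  Lre_a IH (LK LD1_c8 LD2_c20 LD3_c40) (LK LD1_c15 LD2_c42 LD3_c23) Lrfl Lrfl
theorem f378749 : Led Lsl_bt (LP (LK LD1_c15 LD2_c42 LD3_c23)) = (LP (LK LD1_c16 LD2_c4 LD3_c37)) :=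
  Lgr Lrot62 (Lpe (f220402 IH) (Lpe (f220349 IH) (Lpr_af (f378747 IH) (Lpe (K27.f179683 IH) (Lpe (K27.f179684 IH) (Lpn (LP (LK LD1_c16 LD2_c4 LD3_c37))))))))
theorem f220403 : Led Lsl_at (LP (LK LD1_c19 LD2_c35 LD3_c48)) = (LP (LK LD1_c10 LD2_c50 LD3_c25)) :=
  Lre_a IH (LK LD1_c19 LD2_c35 LD3_c48) (LK LD1_c10 LD2_c50 LD3_c25) Lrfl Lrfl
theorem f220404 : Led Lsl_ct (LP (LK LD1_c15 LD2_c42 LD3_c23)) = (LP (LK LD1_c19 LD2_c35 LD3_c48)) :=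
  Lgr Lrot111 (Lpe (f220402 IH) (Lpr_cf (K21.f220397 IH) (Lpe (f220403 IH) (Lpn (LP (LK LD1_c19 LD2_c35 LD3_c48))))))
theorem f220419 : Led Lsl_cf (LP (LK LD1_c15 LD2_c42 LD3_c23)) = (LP (LK LD1_c19 LD2_c35 LD3_c48)) :=
  Lgr Lrot11 (Lpr_ct (f220404 IH) (Lpn (LP (LK LD1_c19 LD2_c35 LD3_c48))))
theorem f378753 : Led Lsl_bf (LP (LK LD1_c15 LD2_c49 LD3_c31)) = (LP (LK LD1_c16 LD2_c7 LD3_c28)) :=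
  Lgr Lrot90 (Lpe (K21.f220147 IH) (Lpr_bt (K21.f329296 IH) (Lpe (f220419 IH) (Lpr_bt (f378749 IH) (Lpe (K27.f179680 IH) (Lpn (LP (LK LD1_c16 LD2_c7 LD3_c28))))))))
theorem f378755 : Led Lsl_bt (LP (LK LD1_c15 LD2_c49 LD3_c31)) = (LP (LK LD1_c16 LD2_c7 LD3_c28)) :=
  Lgr Lrot127 (Lpr_bf (f378753 IH) (Lpn (LP (LK LD1_c16 LD2_c7 LD3_c28))))
theorem f382707 : Led Lsl_bf (LP (LK LD1_c16 LD2_c7 LD3_c34)) = (LP (LK LD1_c11 LD2_c19 LD3_c19)) :=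
  Lgr Lrot61 (Lpe (K21.f329325 IH) (Lpr_bt (f378755 IH) (Lpr_ft (K27.f382703 IH) (Lpn (LP (LK LD1_c11 LD2_c19 LD3_c19))))))
theorem f250796 : Led Lsl_ct (LP (LK LD1_c10 LD2_c50 LD3_c21)) = (LP (LK LD1_c8 LD2_c36 LD3_c9)) :=
  Lgr Lrot59 (Lpr_cf (K21.f250770 IH) (Lpn (LP (LK LD1_c8 LD2_c36 LD3_c9))))
theorem f250805 : Led Lsl_cf (LP (LK LD1_c19 LD2_c35 LD3_c44)) = (LP (LK LD1_c16 LD2_c7 LD3_c34)) :=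
  Lgr Lrot1 (Lpr_at (K21.f250800 IH) (Lpr_ct (f250796 IH) (Lpr_at (K21.f250804 IH) (Lpn (LP (LK LD1_c16 LD2_c7 LD3_c34))))))
theorem f378751 : Led Lsl_bf (LP (LK LD1_c15 LD2_c42 LD3_c23)) = (LP (LK LD1_c16 LD2_c4 LD3_c37)) :=
  Lgr Lrot24 (Lpr_bt (f378749 IH) (Lpn (LP (LK LD1_c16 LD2_c4 LD3_c37))))
theorem f329133 : Led Lsl_ff (LP (LK LD1_c16 LD2_c4 LD3_c32)) = (LP (LK LD1_c15 LD2_c42 LD3_c23)) :=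
  Lgr Lrot30 (Lpr_at (f234573 IH) (Lpr_ft (K21.f329130 IH) (Lpr_at (f220402 IH) (Lpn (LP (LK LD1_c15 LD2_c42 LD3_c23))))))
theorem f380991 : Led Lsl_bf (LP (LK LD1_c15 LD2_c42 LD3_c31)) = (LP (LK LD1_c16 LD2_c4 LD3_c32)) :=
  Lgr Lrot61 (Lpr_ft (K27.f380982 IH) (Lpe (f378751 IH) (Lpe (f329133 IH) (Lpn (LP (LK LD1_c16 LD2_c4 LD3_c32))))))
theorem f386588 : Led Lsl_bt (LP (LK LD1_c19 LD2_c35 LD3_c44)) = (LP (LK LD1_c15 LD2_c35 LD3_c25)) :=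
  Lgr Lrot128 (Lpr_cf (f250805 IH) (Lpr_bf (f382707 IH) (Lpe (K30.f382692 IH) (Lpr_bf (f380991 IH) (Lpr_cf (f234575 IH) (Lpn (LP (LK LD1_c15 LD2_c35 LD3_c25))))))))
theorem f329310 : Led Lsl_bf (LP (LK LD1_c15 LD2_c35 LD3_c20)) = (LP (LK LD1_c19 LD2_c35 LD3_c48)) :=
  Lgr Lrot24 (Lpr_bt (K21.f329296 IH) (Lpn (LP (LK LD1_c19 LD2_c35 LD3_c48))))
theorem f386590 : Led Lsl_ff (LP (LK LD1_c19 LD2_c35 LD3_c48)) = (LP (LK LD1_c15 LD2_c35 LD3_c25)) :=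
  Lgr Lrot25 (Lpe (f329310 IH) (Lpr_ft (K21.f329318 IH) (Lpr_bt (f386588 IH) (Lpn (LP (LK LD1_c15 LD2_c35 LD3_c25))))))
theorem f220412 : Led Lsl_gt (LP (LK LD1_c19 LD2_c35 LD3_c47)) = (LP (LK LD1_c10 LD2_c50 LD3_c25)) :=
  Lre_g IH (LK LD1_c19 LD2_c35 LD3_c47) (LK LD1_c10 LD2_c50 LD3_c25) Lrfl Lrfl
theorem f386592 : Led Lsl_gf (LP (LK LD1_c19 LD2_c35 LD3_c47)) = (LP (LK LD1_c15 LD2_c35 LD3_c25)) :=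
  Lgr Lrot47 (Lpr_gt (f220412 IH) (Lpe (f220403 IH) (Lpr_ff (f386590 IH) (Lpn (LP (LK LD1_c15 LD2_c35 LD3_c25))))))
theorem f716586 : Led Lsl_at (LP (LK LD1_c15 LD2_c35 LD3_c23)) = (LP (LK LD1_c19 LD2_c35 LD3_c47)) :=
  Lgr Lrot26 (Lpr_ff (f716584 IH) (Lpr_gt (f401566 IH) (Lpe (f386592 IH) (Lpn (LP (LK LD1_c19 LD2_c35 LD3_c47))))))
theorem f716588 : Led Lsl_af (LP (LK LD1_c15 LD2_c35 LD3_c23)) = (LP (LK LD1_c19 LD2_c35 LD3_c47)) :=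
  Lgr Lrot0 (Lpr_at (f716586 IH) (Lpn (LP (LK LD1_c19 LD2_c35 LD3_c47))))
theorem f234563 : Led Lsl_gt (LP (LK LD1_c15 LD2_c35 LD3_c24)) = (LP (LK LD1_c8 LD2_c17 LD3_c29)) :=
  Lre_g IH (LK LD1_c15 LD2_c35 LD3_c24) (LK LD1_c8 LD2_c17 LD3_c29) Lrfl Lrfl
theorem f716590 : Led Lsl_ft (LP (LK LD1_c15 LD2_c35 LD3_c24)) = (LP (LK LD1_c19 LD2_c35 LD3_c47)) :=
  Lgr Lrot2 (Lpr_gt (f234563 IH) (Lpr_gt (f234565 IH) (Lpr_af (f716588 IH) (Lpn (LP (LK LD1_c19 LD2_c35 LD3_c47))))))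
theorem f716596 : Led Lsl_ff (LP (LK LD1_c15 LD2_c35 LD3_c24)) = (LP (LK LD1_c19 LD2_c35 LD3_c47)) :=
  Lgr Lrot3 (Lpr_ft (f716590 IH) (Lpn (LP (LK LD1_c19 LD2_c35 LD3_c47))))
theorem f605866 : Led Lsl_bt (LP (LK LD1_c15 LD2_c35 LD3_c24)) = (LP (LK LD1_c25 LD2_c29 LD3_c29)) :=
  Lre_b IH (LK LD1_c15 LD2_c35 LD3_c24) (LK LD1_c25 LD2_c29 LD3_c29) Lrfl Lrfl
theorem f397138 : Led Lsl_ct (LP (LK LD1_c17 LD2_c50 LD3_c21)) = (LP (LK LD1_c27 LD2_c37 LD3_c28)) :=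
  Lre_c IH (LK LD1_c17 LD2_c50 LD3_c21) (LK LD1_c27 LD2_c37 LD3_c28) Lrfl Lrfl
theorem f236691 : Led Lsl_dt (LP (LK LD1_c25 LD2_c35 LD3_c9)) = (LP (LK LD1_c15 LD2_c39 LD3_c50)) :=
  Lre_d IH (LK LD1_c25 LD2_c35 LD3_c9) (LK LD1_c15 LD2_c39 LD3_c50) Lrfl Lrfl
theorem f605805 : Led Lsl_gt (LP (LK LD1_c27 LD2_c37 LD3_c28)) = (LP (LK LD1_c25 LD2_c35 LD3_c9)) :=
  Lgr Lrot94 (Lpe (f397138 IH) (Lpr_gt (K38.f263779 IH) (Lpr_dt (K52.f263754 IH) (Lpr_gt (K38.f218576 IH) (Lpr_dt (K38.f219279 IH) (Lpr_cf (K52.f550862 IH) (Lpe (K52.f550866 IH) (Lpr_gf (K52.f605802 IH) (Lpe (f236691 IH) (Lpn (LP (LK LD1_c25 LD2_c35 LD3_c9))))))))))))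
theorem f236690 : Led Lsl_ct (LP (LK LD1_c8 LD2_c19 LD3_c33)) = (LP (LK LD1_c15 LD2_c39 LD3_c50)) :=
  Lre_c IH (LK LD1_c8 LD2_c19 LD3_c33) (LK LD1_c15 LD2_c39 LD3_c50) Lrfl Lrfl
theorem f236618 : Led Lsl_dt (LP (LK LD1_c15 LD2_c39 LD3_c51)) = (LP (LK LD1_c8 LD2_c19 LD3_c33)) :=
  Lre_d IH (LK LD1_c15 LD2_c39 LD3_c51) (LK LD1_c8 LD2_c19 LD3_c33) Lrfl Lrfl
theorem f400202 : Led Lsl_df (LP (LK LD1_c17 LD2_c54 LD3_c4)) = (LP (LK LD1_c14 LD2_c57 LD3_c41)) :=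
  Lgr Lrot78 (Lpr_ft (K52.f400194 IH) (Lpr_dt (K38.f279924 IH) (Lpe (K30.f397099 IH) (Lpn (LP (LK LD1_c14 LD2_c57 LD3_c41))))))
theorem f326151 : Led Lsl_gf (LP (LK LD1_c8 LD2_c41 LD3_c32)) = (LP (LK LD1_c9 LD2_c37 LD3_c61)) :=
  Lgr Lrot76 (Lpe (K30.f326144 IH) (Lpr_ff (K30.f326140 IH) (Lpr_gt (K52.f229279 IH) (Lpn (LP (LK LD1_c9 LD2_c37 LD3_c61))))))
theorem f270425 : Led Lsl_ct (LP (LK LD1_c16 LD2_c16 LD3_c4)) = (LP (LK LD1_c16 LD2_c17 LD3_c36)) :=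
  Lre_c IH (LK LD1_c16 LD2_c16 LD3_c4) (LK LD1_c16 LD2_c17 LD3_c36) Lrfl Lrfl
theorem f397443 : Led Lsl_gf (LP (LK LD1_c8 LD2_c41 LD3_c47)) = (LP (LK LD1_c14 LD2_c57 LD3_c40)) :=
  Lgr Lrot124 (Lpe (K17.f280205 IH) (Lpe (K17.f282017 IH) (Lpr_gt (K31.f282021 IH) (Lpe (f270425 IH) (Lpr_bt (K31.f270422 IH) (Lpe (K31.f270417 IH) (Lpe (K30.f229846 IH) (Lpr_gt (K30.f397439 IH) (Lpe (K30.f260562 IH) (Lpr_bt (K30.f260563 IH) (Lpn (LP (LK LD1_c14 LD2_c57 LD3_c40)))))))))))))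
theorem f397445 : Led Lsl_gf (LP (LK LD1_c8 LD2_c19 LD3_c33)) = (LP (LK LD1_c15 LD2_c34 LD3_c10)) :=
  Lgr Lrot129 (Lpe (K52.f236685 IH) (Lpr_bt (K52.f236686 IH) (Lpe (f326151 IH) (Lpe (K30.f326229 IH) (Lpe (K30.f229846 IH) (Lpr_gt (K30.f397439 IH) (Lpe (K30.f260562 IH) (Lpr_bt (K30.f260563 IH) (Lpe (f397443 IH) (Lpr_ct (K16.f279969 IH) (Lpn (LP (LK LD1_c15 LD2_c34 LD3_c10)))))))))))))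
theorem f236621 : Led Lsl_dt (LP (LK LD1_c8 LD2_c19 LD3_c33)) = (LP (LK LD1_c15 LD2_c39 LD3_c51)) :=
  Lre_d IH (LK LD1_c8 LD2_c19 LD3_c33) (LK LD1_c15 LD2_c39 LD3_c51) Lrfl Lrfl
theorem f400230 : Led Lsl_gf (LP (LK LD1_c8 LD2_c19 LD3_c56)) = (LP (LK LD1_c15 LD2_c39 LD3_c51)) :=
  Lgr Lrot143 (Lpr_dt (K19.f297570 IH) (Lpe (K18.f168435 IH) (Lpe (K18.f168458 IH) (Lpe (K52.f168464 IH) (Lpr_df (f400202 IH) (Lpe (K38.f280094 IH) (Lpr_cf (K16.f279914 IH) (Lpe (f397445 IH) (Lpr_dt (f236621 IH) (Lpn (LP (LK LD1_c15 LD2_c39 LD3_c51))))))))))))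
theorem f297614 : Led Lsl_ff (LP (LK LD1_c15 LD2_c40 LD3_c50)) = (LP (LK LD1_c25 LD2_c28 LD3_c39)) :=
  Lgr Lrot30 (Lpr_at (K52.f220541 IH) (Lpr_ft (K18.f297607 IH) (Lpr_at (K19.f297613 IH) (Lpn (LP (LK LD1_c25 LD2_c28 LD3_c39))))))
theorem f400232 : Led Lsl_gt (LP (LK LD1_c25 LD2_c28 LD3_c39)) = (LP (LK LD1_c15 LD2_c39 LD3_c51)) :=
  Lgr Lrot5 (Lpe (f297614 IH) (Lpr_at (K52.f220541 IH) (Lpr_gf (f400230 IH) (Lpn (LP (LK LD1_c15 LD2_c39 LD3_c51))))))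
theorem f297652 : Led Lsl_dt (LP (LK LD1_c16 LD2_c18 LD3_c61)) = (LP (LK LD1_c25 LD2_c28 LD3_c39)) :=
  Lgr Lrot42 (Lpr_df (K19.f297629 IH) (Lpn (LP (LK LD1_c25 LD2_c28 LD3_c39))))
theorem f297560 : Led Lsl_at (LP (LK LD1_c8 LD2_c42 LD3_c34)) = (LP (LK LD1_c16 LD2_c18 LD3_c61)) :=
  Lre_a IH (LK LD1_c8 LD2_c42 LD3_c34) (LK LD1_c16 LD2_c18 LD3_c61) Lrfl Lrfl
theorem f406890 : Led Lsl_gt (LP (LK LD1_c10 LD2_c50 LD3_c30)) = (LP (LK LD1_c16 LD2_c18 LD3_c61)) :=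
  Lgr Lrot46 (Lpe (K52.f168462 IH) (Lpr_ft (K19.f297519 IH) (Lpr_at (f297560 IH) (Lpn (LP (LK LD1_c16 LD2_c18 LD3_c61))))))
theorem f168472 : Led Lsl_ct (LP (LK LD1_c19 LD2_c35 LD3_c52)) = (LP (LK LD1_c10 LD2_c50 LD3_c30)) :=
  Lre_c IH (LK LD1_c19 LD2_c35 LD3_c52) (LK LD1_c10 LD2_c50 LD3_c30) Lrfl Lrfl
theorem f297578 : Led Lsl_gt (LP (LK LD1_c19 LD2_c35 LD3_c52)) = (LP (LK LD1_c28 LD2_c57 LD3_c46)) :=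
  Lre_g IH (LK LD1_c19 LD2_c35 LD3_c52) (LK LD1_c28 LD2_c57 LD3_c46) Lrfl Lrfl
theorem f605810 : Led Lsl_df (LP (LK LD1_c27 LD2_c37 LD3_c28)) = (LP (LK LD1_c28 LD2_c57 LD3_c46)) :=
  Lgr Lrot153 (Lpr_gt (f605805 IH) (Lpr_dt (f236691 IH) (Lpe (f236690 IH) (Lpe (f236618 IH) (Lpe (f400232 IH) (Lpe (f297652 IH) (Lpe (f406890 IH) (Lpe (f168472 IH) (Lpr_gt (f297578 IH) (Lpn (LP (LK LD1_c28 LD2_c57 LD3_c46))))))))))))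
theorem f400144 : Led Lsl_df (LP (LK LD1_c17 LD2_c54 LD3_c3)) = (LP (LK LD1_c14 LD2_c57 LD3_c40)) :=
  Lgr Lrot78 (Lpr_ft (K39.f398445 IH) (Lpr_dt (K38.f263784 IH) (Lpe (K30.f397077 IH) (Lpn (LP (LK LD1_c14 LD2_c57 LD3_c40))))))
theorem f168518 : Led Lsl_gt (LP (LK LD1_c27 LD2_c39 LD3_c33)) = (LP (LK LD1_c17 LD2_c54 LD3_c5)) :=
  Lre_g IH (LK LD1_c27 LD2_c39 LD3_c33) (LK LD1_c17 LD2_c54 LD3_c5) Lrfl Lrfl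
theorem f297568 : Led Lsl_gt (LP (LK LD1_c26 LD2_c16 LD3_c9)) = (LP (LK LD1_c27 LD2_c39 LD3_c33)) :=
  Lgr Lrot5 (Lpr_ft (K19.f297563 IH) (Lpr_at (K19.f168517 IH) (Lpe (f168518 IH) (Lpn (LP (LK LD1_c27 LD2_c39 LD3_c33))))))
theorem f400150 : Led Lsl_ct (LP (LK LD1_c27 LD2_c39 LD3_c33)) = (LP (LK LD1_c25 LD2_c35 LD3_c9)) :=
  Lgr Lrot110 (Lpe (f297568 IH) (Lpe (K19.f297501 IH) (Lpe (K31.f297510 IH) (Lpr_df (f400144 IH) (Lpe (f397443 IH) (Lpr_ct (K16.f279969 IH) (Lpe (f397445 IH) (Lpr_ct (f236690 IH) (Lpe (f236691 IH) (Lpn (LP (LK LD1_c25 LD2_c35 LD3_c9))))))))))))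
theorem f400152 : Led Lsl_cf (LP (LK LD1_c27 LD2_c39 LD3_c33)) = (LP (LK LD1_c25 LD2_c35 LD3_c9)) :=
  Lgr Lrot11 (Lpr_ct (f400150 IH) (Lpn (LP (LK LD1_c25 LD2_c35 LD3_c9))))
theorem f605814 : Led Lsl_gt (LP (LK LD1_c28 LD2_c57 LD3_c46)) = (LP (LK LD1_c19 LD2_c35 LD3_c56)) :=
  Lgr Lrot146 (Lpe (f605810 IH) (Lpr_gt (f605805 IH) (Lpe (f400152 IH) (Lpr_gt (f168518 IH) (Lpr_ct (K18.f168459 IH) (Lpr_dt (K18.f168458 IH) (Lpr_cf (K18.f168363 IH) (Lpe (K52.f168468 IH) (Lpe (K52.f168469 IH) (Lpn (LP (LK LD1_c19 LD2_c35 LD3_c56))))))))))))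
theorem f605816 : Led Lsl_df (LP (LK LD1_c28 LD2_c57 LD3_c46)) = (LP (LK LD1_c27 LD2_c37 LD3_c28)) :=
  Lgr Lrot155 (Lpr_gt (f605814 IH) (Lpr_ct (K52.f168469 IH) (Lpr_gt (K52.f168468 IH) (Lpe (K18.f168363 IH) (Lpr_dt (K18.f168515 IH) (Lpe (K18.f168459 IH) (Lpe (f168518 IH) (Lpr_cf (f400152 IH) (Lpe (f605805 IH) (Lpn (LP (LK LD1_c27 LD2_c37 LD3_c28))))))))))))
theorem f296693 : Led Lsl_at (LP (LK LD1_c16 LD2_c18 LD3_c26)) = (LP (LK LD1_c8 LD2_c42 LD3_c17)) :=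
  Lre_a IH (LK LD1_c16 LD2_c18 LD3_c26) (LK LD1_c8 LD2_c42 LD3_c17) Lrfl Lrfl
theorem f397299 : Led Lsl_gf (LP (LK LD1_c16 LD2_c17 LD3_c11)) = (LP (LK LD1_c17 LD2_c54 LD3_c1)) :=
  Lgr Lrot47 (Lpr_gt (K38.f397297 IH) (Lpe (f296693 IH) (Lpr_ff (K19.f297558 IH) (Lpn (LP (LK LD1_c17 LD2_c54 LD3_c1))))))
theorem f263957 : Led Lsl_gt (LP (LK LD1_c26 LD2_c16 LD3_c54)) = (LP (LK LD1_c16 LD2_c19 LD3_c4)) :=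
  Lre_g IH (LK LD1_c26 LD2_c16 LD3_c54) (LK LD1_c16 LD2_c19 LD3_c4) Lrfl Lrfl
theorem f400971 : Led Lsl_gt (LP (LK LD1_c16 LD2_c19 LD3_c8)) = (LP (LK LD1_c26 LD2_c16 LD3_c54)) :=
  Lgr Lrot5 (Lpe (K38.f400918 IH) (Lpr_at (K38.f400965 IH) (Lpe (f263957 IH) (Lpn (LP (LK LD1_c26 LD2_c16 LD3_c54))))))
theorem f605822 : Led Lsl_cf (LP (LK LD1_c28 LD2_c57 LD3_c46)) = (LP (LK LD1_c26 LD2_c16 LD3_c54)) :=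
  Lgr Lrot99 (Lpr_df (f605816 IH) (Lpe (f397138 IH) (Lpr_gf (K38.f397136 IH) (Lpe (K38.f280101 IH) (Lpr_gf (f397299 IH) (Lpe (K19.f168476 IH) (Lpe (K52.f400954 IH) (Lpr_ct (K38.f250752 IH) (Lpr_gt (f400971 IH) (Lpn (LP (LK LD1_c26 LD2_c16 LD3_c54))))))))))))
theorem f168466 : Led Lsl_ct (LP (LK LD1_c10 LD2_c50 LD3_c30)) = (LP (LK LD1_c19 LD2_c35 LD3_c52)) :=
  Lre_c IH (LK LD1_c10 LD2_c50 LD3_c30) (LK LD1_c19 LD2_c35 LD3_c52) Lrfl Lrfl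
theorem f605828 : Led Lsl_bf (LP (LK LD1_c19 LD2_c35 LD3_c47)) = (LP (LK LD1_c26 LD2_c16 LD3_c54)) :=
  Lgr Lrot156 (Lpr_gt (f220412 IH) (Lpe (K21.f220407 IH) (Lpr_ct (K12.f213767 IH) (Lpr_gt (K12.f168373 IH) (Lpe (K12.f168456 IH) (Lpr_bt (K18.f168362 IH) (Lpr_gt (K52.f168462 IH) (Lpr_ct (f168466 IH) (Lpr_gt (f297578 IH) (Lpr_cf (f605822 IH) (Lpn (LP (LK LD1_c26 LD2_c16 LD3_c54)))))))))))))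
theorem f716600 : Led Lsl_ft (LP (LK LD1_c25 LD2_c29 LD3_c29)) = (LP (LK LD1_c26 LD2_c16 LD3_c54)) :=
  Lgr Lrot75 (Lpe (f605866 IH) (Lpr_ff (f716596 IH) (Lpr_bf (f605828 IH) (Lpn (LP (LK LD1_c26 LD2_c16 LD3_c54))))))
theorem f605800 : Led Lsl_df (LP (LK LD1_c27 LD2_c31 LD3_c4)) = (LP (LK LD1_c26 LD2_c16 LD3_c46)) :=
  Lgr Lrot38 (Lpr_dt (K52.f605798 IH) (Lpn (LP (LK LD1_c26 LD2_c16 LD3_c46))))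
theorem f605796 : Led Lsl_at (LP (LK LD1_c27 LD2_c31 LD3_c4)) = (LP (LK LD1_c26 LD2_c14 LD3_c44)) :=
  Lgr Lrot100 (Lpr_af (K52.f605794 IH) (Lpn (LP (LK LD1_c26 LD2_c14 LD3_c44))))
theorem f605856 : Led Lsl_at (LP (LK LD1_c19 LD2_c35 LD3_c56)) = (LP (LK LD1_c26 LD2_c16 LD3_c46)) :=
  Lgr Lrot51 (Lpr_df (K52.f605721 IH) (Lpe (f605796 IH) (Lpr_df (f605800 IH) (Lpn (LP (LK LD1_c26 LD2_c16 LD3_c46))))))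
theorem f605655 : Led Lsl_ft (LP (LK LD1_c16 LD2_c15 LD3_c31)) = (LP (LK LD1_c19 LD2_c35 LD3_c56)) :=
  Lgr Lrot4 (Lpe (K52.f238605 IH) (Lpr_ff (K52.f605653 IH) (Lpe (K52.f168469 IH) (Lpn (LP (LK LD1_c19 LD2_c35 LD3_c56))))))
theorem f605650 : Led Lsl_af (LP (LK LD1_c16 LD2_c15 LD3_c31)) = (LP (LK LD1_c19 LD2_c35 LD3_c52)) :=
  Lgr Lrot68 (Lpe (K52.f238516 IH) (Lpr_at (K52.f605559 IH) (Lpr_ct (f168466 IH) (Lpn (LP (LK LD1_c19 LD2_c35 LD3_c52))))))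
theorem f605858 : Led Lsl_ff (LP (LK LD1_c19 LD2_c35 LD3_c52)) = (LP (LK LD1_c26 LD2_c16 LD3_c46)) :=
  Lgr Lrot30 (Lpe (f605650 IH) (Lpr_ft (f605655 IH) (Lpr_at (f605856 IH) (Lpn (LP (LK LD1_c26 LD2_c16 LD3_c46))))))
theorem f238603 : Led Lsl_gt (LP (LK LD1_c26 LD2_c12 LD3_c60)) = (LP (LK LD1_c16 LD2_c15 LD3_c31)) :=
  Lre_g IH (LK LD1_c26 LD2_c12 LD3_c60) (LK LD1_c16 LD2_c15 LD3_c31) Lrfl Lrfl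
theorem f605862 : Led Lsl_gf (LP (LK LD1_c26 LD2_c12 LD3_c60)) = (LP (LK LD1_c26 LD2_c16 LD3_c46)) :=
  Lgr Lrot47 (Lpr_gt (f238603 IH) (Lpr_af (f605650 IH) (Lpr_ff (f605858 IH) (Lpn (LP (LK LD1_c26 LD2_c16 LD3_c46))))))
theorem f212502 : Led Lsl_bt (LP (LK LD1_c4 LD2_c22 LD3_c18)) = (LP (LK LD1_c8 LD2_c42 LD3_c34)) :=
  Lre_b IH (LK LD1_c4 LD2_c22 LD3_c18) (LK LD1_c8 LD2_c42 LD3_c34) Lrfl Lrfl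
theorem f234564 : Led Lsl_bt (LP (LK LD1_c25 LD2_c29 LD3_c29)) = (LP (LK LD1_c15 LD2_c35 LD3_c24)) :=
  Lre_b IH (LK LD1_c25 LD2_c29 LD3_c29) (LK LD1_c15 LD2_c35 LD3_c24) Lrfl Lrfl
theorem f605864 : Led Lsl_cf (LP (LK LD1_c26 LD2_c12 LD3_c60)) = (LP (LK LD1_c25 LD2_c29 LD3_c29)) :=
  Lgr Lrot163 (Lpr_gf (f605862 IH) (Lpe (K52.f234561 IH) (Lpe (K52.f212503 IH) (Lpe (f212502 IH) (Lpr_ct (K14.f173264 IH) (Lpe (K14.f173263 IH) (Lpr_cf (K16.f234439 IH) (Lpr_bt (K21.f234562 IH) (Lpe (f234563 IH) (Lpe (f234564 IH) (Lpn (LP (LK LD1_c25 LD2_c29 LD3_c29)))))))))))))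
theorem f605867 : Led Lsl_ct (LP (LK LD1_c26 LD2_c12 LD3_c60)) = (LP (LK LD1_c25 LD2_c29 LD3_c29)) :=
  Lgr Lrot59 (Lpr_cf (f605864 IH) (Lpn (LP (LK LD1_c25 LD2_c29 LD3_c29))))
theorem f716602 : Led Lsl_ff (LP (LK LD1_c26 LD2_c12 LD3_c60)) = (LP (LK LD1_c28 LD2_c57 LD3_c46)) :=
  Lgr Lrot23 (Lpr_ct (f605867 IH) (Lpr_ft (f716600 IH) (Lpe (f605822 IH) (Lpn (LP (LK LD1_c28 LD2_c57 LD3_c46))))))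
theorem f550067 : Led Lsl_dt (LP (LK LD1_c26 LD2_c15 LD3_c9)) = (LP (LK LD1_c25 LD2_c12 LD3_c54)) :=
  Lgr Lrot42 (Lpr_df (K52.f550063 IH) (Lpn (LP (LK LD1_c25 LD2_c12 LD3_c54))))
theorem f388193 : Led Lsl_ft (LP (LK LD1_c15 LD2_c52 LD3_c11)) = (LP (LK LD1_c25 LD2_c47 LD3_c46)) :=
  Lre_f IH (LK LD1_c15 LD2_c52 LD3_c11) (LK LD1_c25 LD2_c47 LD3_c46) Lrfl Lrfl
theorem f390018 : Led Lsl_cf (LP (LK LD1_c15 LD2_c52 LD3_c11)) = (LP (LK LD1_c25 LD2_c12 LD3_c54)) :=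
  Lgr Lrot108 (Lpr_ft (f388193 IH) (Lpr_ct (K31.f390013 IH) (Lpe (K31.f389708 IH) (Lpn (LP (LK LD1_c25 LD2_c12 LD3_c54))))))
theorem f297582 : Led Lsl_dt (LP (LK LD1_c19 LD2_c35 LD3_c53)) = (LP (LK LD1_c10 LD2_c50 LD3_c30)) :=
  Lre_d IH (LK LD1_c19 LD2_c35 LD3_c53) (LK LD1_c10 LD2_c50 LD3_c30) Lrfl Lrfl
theorem f605997 : Led Lsl_at (LP (LK LD1_c16 LD2_c15 LD3_c31)) = (LP (LK LD1_c19 LD2_c35 LD3_c52)) :=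
  Lgr Lrot33 (Lpr_ff (K52.f605661 IH) (Lpr_dt (K52.f605784 IH) (Lpr_ct (K52.f269706 IH) (Lpr_dt (f550067 IH) (Lpe (f390018 IH) (Lpr_dt (K52.f388191 IH) (Lpr_ct (K52.f388188 IH) (Lpr_dt (f297582 IH) (Lpr_ct (f168466 IH) (Lpn (LP (LK LD1_c19 LD2_c35 LD3_c52))))))))))))
theorem f279964 : Led Lsl_cf (LP (LK LD1_c16 LD2_c16 LD3_c41)) = (LP (LK LD1_c15 LD2_c34 LD3_c9)) :=
  Lgr Lrot11 (Lpr_ct (K30.f279927 IH) (Lpn (LP (LK LD1_c15 LD2_c34 LD3_c9))))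
theorem f403546 : Led Lsl_ff (LP (LK LD1_c16 LD2_c5 LD3_c54)) = (LP (LK LD1_c15 LD2_c39 LD3_c23)) :=
  Lgr Lrot30 (Lpr_at (K41.f392817 IH) (Lpe (K41.f403526 IH) (Lpr_at (K49.f403532 IH) (Lpn (LP (LK LD1_c15 LD2_c39 LD3_c23))))))
theorem f372683 : Led Lsl_gf (LP (LK LD1_c8 LD2_c19 LD3_c34)) = (LP (LK LD1_c15 LD2_c34 LD3_c8)) :=
  Lgr Lrot181 (Lpr_ct (K16.f236677 IH) (Lpe (K30.f280099 IH) (Lpe (K38.f279923 IH) (Lpr_bt (K38.f279976 IH) (Lpe (K41.f372596 IH) (Lpr_bf (K38.f366327 IH) (Lpe (K31.f270977 IH) (Lpr_gt (K50.f372681 IH) (Lpe (K41.f222802 IH) (Lpr_bt (K41.f170381 IH) (Lpn (LP (LK LD1_c15 LD2_c34 LD3_c8)))))))))))))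
theorem f282037 : Led Lsl_ct (LP (LK LD1_c15 LD2_c34 LD3_c18)) = (LP (LK LD1_c20 LD2_c54 LD3_c44)) :=
  Lgr Lrot59 (Lpr_cf (K17.f282032 IH) (Lpn (LP (LK LD1_c20 LD2_c54 LD3_c44))))
theorem f378562 : Led Lsl_gt (LP (LK LD1_c20 LD2_c54 LD3_c44)) = (LP (LK LD1_c15 LD2_c39 LD3_c24)) :=
  Lgr Lrot65 (Lpe (f282037 IH) (Lpr_bt (K17.f282030 IH) (Lpr_gf (f372683 IH) (Lpe (K41.f170381 IH) (Lpr_ct (K41.f222802 IH) (Lpe (K50.f372681 IH) (Lpr_cf (K31.f270977 IH) (Lpr_gf (K41.f378558 IH) (Lpe (K41.f378560 IH) (Lpr_ct (K41.f52215 IH) (Lpn (LP (LK LD1_c15 LD2_c39 LD3_c24)))))))))))))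
theorem f403556 : Led Lsl_gf (LP (LK LD1_c20 LD2_c54 LD3_c44)) = (LP (LK LD1_c15 LD2_c39 LD3_c23)) :=
  Lgr Lrot47 (Lpr_gt (f378562 IH) (Lpe (K41.f392817 IH) (Lpr_ff (f403546 IH) (Lpn (LP (LK LD1_c15 LD2_c39 LD3_c23))))))
theorem f403558 : Led Lsl_bt (LP (LK LD1_c15 LD2_c46 LD3_c31)) = (LP (LK LD1_c8 LD2_c23 LD3_c15)) :=
  Lre_b IH (LK LD1_c15 LD2_c46 LD3_c31) (LK LD1_c8 LD2_c23 LD3_c15) Lrfl Lrfl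
theorem f403559 : Led Lsl_bt (LP (LK LD1_c8 LD2_c23 LD3_c17)) = (LP (LK LD1_c4 LD2_c11 LD3_c49)) :=
  Lre_b IH (LK LD1_c8 LD2_c23 LD3_c17) (LK LD1_c4 LD2_c11 LD3_c49) Lrfl Lrfl
theorem f170958 : Led Lsl_ct (LP (LK LD1_c8 LD2_c23 LD3_c17)) = (LP (LK LD1_c15 LD2_c46 LD3_c29)) :=
  Lre_c IH (LK LD1_c8 LD2_c23 LD3_c17) (LK LD1_c15 LD2_c46 LD3_c29) Lrfl Lrfl
theorem f403560 : Led Lsl_gt (LP (LK LD1_c16 LD2_c16 LD3_c41)) = (LP (LK LD1_c15 LD2_c46 LD3_c29)) :=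
  Lgr Lrot149 (Lpr_cf (f279964 IH) (Lpr_gf (K30.f280090 IH) (Lpe (K17.f282030 IH) (Lpr_ct (f282037 IH) (Lpr_gf (f403556 IH) (Lpe (K49.f403534 IH) (Lpr_bt (f403558 IH) (Lpe (K52.f51791 IH) (Lpe (f403559 IH) (Lpr_ct (f170958 IH) (Lpn (LP (LK LD1_c15 LD2_c46 LD3_c29)))))))))))))
theorem f170959 : Led Lsl_dt (LP (LK LD1_c15 LD2_c46 LD3_c37)) = (LP (LK LD1_c8 LD2_c23 LD3_c17)) :=
  Lre_d IH (LK LD1_c15 LD2_c46 LD3_c37) (LK LD1_c8 LD2_c23 LD3_c17) Lrfl Lrfl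
theorem f417265 : Led Lsl_ct (LP (LK LD1_c19 LD2_c41 LD3_c34)) = (LP (LK LD1_c15 LD2_c46 LD3_c37)) :=
  Lgr Lrot59 (Lpr_cf (K52.f417246 IH) (Lpn (LP (LK LD1_c15 LD2_c46 LD3_c37))))
theorem f605729 : Led Lsl_gt (LP (LK LD1_c28 LD2_c57 LD3_c50)) = (LP (LK LD1_c19 LD2_c41 LD3_c34)) :=
  Lgr Lrot150 (Lpe (K52.f297662 IH) (Lpr_gf (K52.f605723 IH) (Lpe (K38.f236724 IH) (Lpe (K30.f280090 IH) (Lpe (f279964 IH) (Lpr_gt (f403560 IH) (Lpr_ct (K30.f170961 IH) (Lpe (f170959 IH) (Lpe (f417265 IH) (Lpn (LP (LK LD1_c19 LD2_c41 LD3_c34))))))))))))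
theorem f605717 : Led Lsl_ft (LP (LK LD1_c28 LD2_c57 LD3_c50)) = (LP (LK LD1_c25 LD2_c35 LD3_c19)) :=
  Lgr Lrot48 (Lpr_ff (K52.f605711 IH) (Lpn (LP (LK LD1_c25 LD2_c35 LD3_c19))))
theorem f605732 : Led Lsl_gf (LP (LK LD1_c25 LD2_c47 LD3_c59)) = (LP (LK LD1_c19 LD2_c41 LD3_c34)) :=
  Lgr Lrot76 (Lpe (K52.f605543 IH) (Lpe (f605717 IH) (Lpr_gt (f605729 IH) (Lpn (LP (LK LD1_c19 LD2_c41 LD3_c34))))))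
theorem f605504 : Led Lsl_df (LP (LK LD1_c25 LD2_c43 LD3_c16)) = (LP (LK LD1_c16 LD2_c19 LD3_c4)) :=
  Lgr Lrot38 (Lpr_dt (K52.f605499 IH) (Lpn (LP (LK LD1_c16 LD2_c19 LD3_c4))))
theorem f397020 : Led Lsl_dt (LP (LK LD1_c15 LD2_c59 LD3_c40)) = (LP (LK LD1_c15 LD2_c35 LD3_c40)) :=
  Lgr Lrot42 (Lpr_df (K30.f397018 IH) (Lpn (LP (LK LD1_c15 LD2_c35 LD3_c40))))
theorem f170144 : Led Lsl_gt (LP (LK LD1_c8 LD2_c35 LD3_c38)) = (LP (LK LD1_c15 LD2_c59 LD3_c40)) :=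
  Lre_g IH (LK LD1_c8 LD2_c35 LD3_c38) (LK LD1_c15 LD2_c59 LD3_c40) Lrfl Lrfl
theorem f52135 : Led Lsl_bt (LP (LK LD1_c4 LD2_c18 LD3_c24)) = (LP (LK LD1_c8 LD2_c35 LD3_c38)) :=
  Lre_b IH (LK LD1_c4 LD2_c18 LD3_c24) (LK LD1_c8 LD2_c35 LD3_c38) Lrfl Lrfl
theorem f51756 : Led Lsl_dt (LP (LK LD1_c4 LD2_c18 LD3_c25)) = (LP (LK LD1_c2 LD2_c6 LD3_c30)) :=
  Lre_d IH (LK LD1_c4 LD2_c18 LD3_c25) (LK LD1_c2 LD2_c6 LD3_c30) Lrfl Lrfl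
theorem f222741 : Led Lsl_bt (LP (LK LD1_c8 LD2_c17 LD3_c35)) = (LP (LK LD1_c4 LD2_c8 LD3_c45)) :=
  Lre_b IH (LK LD1_c8 LD2_c17 LD3_c35) (LK LD1_c4 LD2_c8 LD3_c45) Lrfl Lrfl
theorem f400265 : Led Lsl_gf (LP (LK LD1_c4 LD2_c18 LD3_c25)) = (LP (LK LD1_c4 LD2_c17 LD3_c1)) :=
  Lgr Lrot85 (Lpr_dt (f51756 IH) (Lpr_ct (K50.f51753 IH) (Lpr_bt (f52135 IH) (Lpr_gt (f170144 IH) (Lpr_dt (f397020 IH) (Lpr_ct (K31.f222742 IH) (Lpr_bt (f222741 IH) (Lpr_gt (K14.f220130 IH) (Lpe (K14.f234420 IH) (Lpr_ct (K15.f167251 IH) (Lpr_bt (K12.f167243 IH) (Lpr_gt (K12.f167244 IH) (Lpr_dt (K15.f166618 IH) (Lpr_ct (K11.f200140 IH) (Lpr_bt (K11.f170626 IH) (Lpe (K9.f178282 IH) (Lpe (K9.f167635 IH) (Lpr_ct (K12.f53388 IH) (Lpr_bt (K15.f167649 IH) (Lpn (LP (LK LD1_c4 LD2_c17 LD3_c1))))))))))))))))))))))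
theorem f400274 : Led Lsl_bt (LP (LK LD1_c8 LD2_c35 LD3_c35)) = (LP (LK LD1_c4 LD2_c18 LD3_c25)) :=
  Lre_b IH (LK LD1_c8 LD2_c35 LD3_c35) (LK LD1_c4 LD2_c18 LD3_c25) Lrfl Lrfl
theorem f170170 : Led Lsl_gt (LP (LK LD1_c15 LD2_c49 LD3_c5)) = (LP (LK LD1_c8 LD2_c24 LD3_c58)) :=
  Lre_g IH (LK LD1_c15 LD2_c49 LD3_c5) (LK LD1_c8 LD2_c24 LD3_c58) Lrfl Lrfl
theorem f400275 : Led Lsl_ct (LP (LK LD1_c8 LD2_c35 LD3_c35)) = (LP (LK LD1_c15 LD2_c49 LD3_c5)) :=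
  Lgr Lrot64 (Lpr_bt (f400274 IH) (Lpr_gf (f400265 IH) (Lpe (K15.f167649 IH) (Lpr_ct (K13.f167648 IH) (Lpe (K9.f500 IH) (Lpe (K9.f167306 IH) (Lpe (K14.f170163 IH) (Lpe (K22.f170165 IH) (Lpr_ct (K22.f170169 IH) (Lpe (f170170 IH) (Lpn (LP (LK LD1_c15 LD2_c49 LD3_c5)))))))))))))
theorem f400279 : Led Lsl_bt (LP (LK LD1_c4 LD2_c18 LD3_c25)) = (LP (LK LD1_c8 LD2_c35 LD3_c35)) :=
  Lre_b IH (LK LD1_c4 LD2_c18 LD3_c25) (LK LD1_c8 LD2_c35 LD3_c35) Lrfl Lrfl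
theorem f51752 : Led Lsl_ct (LP (LK LD1_c8 LD2_c35 LD3_c39)) = (LP (LK LD1_c4 LD2_c18 LD3_c25)) :=
  Lre_c IH (LK LD1_c8 LD2_c35 LD3_c39) (LK LD1_c4 LD2_c18 LD3_c25) Lrfl Lrfl
theorem f400280 : Led Lsl_bt (LP (LK LD1_c16 LD2_c7 LD3_c0)) = (LP (LK LD1_c8 LD2_c35 LD3_c39)) :=
  Lre_b IH (LK LD1_c16 LD2_c7 LD3_c0) (LK LD1_c8 LD2_c35 LD3_c39) Lrfl Lrfl
theorem f400281 : Led Lsl_bt (LP (LK LD1_c15 LD2_c49 LD3_c5)) = (LP (LK LD1_c25 LD2_c45 LD3_c30)) :=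
  Lre_b IH (LK LD1_c15 LD2_c49 LD3_c5) (LK LD1_c25 LD2_c45 LD3_c30) Lrfl Lrfl
theorem f400282 : Led Lsl_cf (LP (LK LD1_c16 LD2_c7 LD3_c0)) = (LP (LK LD1_c25 LD2_c45 LD3_c30)) :=
  Lgr Lrot97 (Lpr_bt (f400280 IH) (Lpr_ct (f51752 IH) (Lpr_bt (f400279 IH) (Lpr_ct (f400275 IH) (Lpr_bt (f400281 IH) (Lpn (LP (LK LD1_c25 LD2_c45 LD3_c30))))))))
theorem f232278 : Led Lsl_bt (LP (LK LD1_c25 LD2_c45 LD3_c30)) = (LP (LK LD1_c15 LD2_c49 LD3_c5)) :=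
  Lre_b IH (LK LD1_c25 LD2_c45 LD3_c30) (LK LD1_c15 LD2_c49 LD3_c5) Lrfl Lrfl
theorem f220757 : Led Lsl_ct (LP (LK LD1_c4 LD2_c12 LD3_c42)) = (LP (LK LD1_c2 LD2_c3 LD3_c33)) :=
  Lre_c IH (LK LD1_c4 LD2_c12 LD3_c42) (LK LD1_c2 LD2_c3 LD3_c33) Lrfl Lrfl
theorem f400291 : Led Lsl_gf (LP (LK LD1_c16 LD2_c7 LD3_c0)) = (LP (LK LD1_c16 LD2_c19 LD3_c4)) :=
  Lgr Lrot129 (Lpr_cf (f400282 IH) (Lpr_bt (f232278 IH) (Lpr_gt (f170170 IH) (Lpe (K22.f232277 IH) (Lpr_ct (f220757 IH) (Lpe (K14.f232270 IH) (Lpe (K13.f193271 IH) (Lpr_bt (K38.f193276 IH) (Lpr_gt (K38.f193277 IH) (Lpr_ct (K38.f232276 IH) (Lpn (LP (LK LD1_c16 LD2_c19 LD3_c4)))))))))))))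
theorem f400284 : Led Lsl_cf (LP (LK LD1_c8 LD2_c35 LD3_c35)) = (LP (LK LD1_c15 LD2_c49 LD3_c5)) :=
  Lgr Lrot11 (Lpr_ct (f400275 IH) (Lpn (LP (LK LD1_c15 LD2_c49 LD3_c5))))
theorem f51751 : Led Lsl_ct (LP (LK LD1_c4 LD2_c18 LD3_c25)) = (LP (LK LD1_c8 LD2_c35 LD3_c39)) :=
  Lre_c IH (LK LD1_c4 LD2_c18 LD3_c25) (LK LD1_c8 LD2_c35 LD3_c39) Lrfl Lrfl
theorem f201115 : Led Lsl_bt (LP (LK LD1_c8 LD2_c35 LD3_c39)) = (LP (LK LD1_c16 LD2_c7 LD3_c0)) :=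
  Lre_b IH (LK LD1_c8 LD2_c35 LD3_c39) (LK LD1_c16 LD2_c7 LD3_c0) Lrfl Lrfl
theorem f400286 : Led Lsl_ct (LP (LK LD1_c16 LD2_c7 LD3_c0)) = (LP (LK LD1_c25 LD2_c45 LD3_c30)) :=
  Lgr Lrot83 (Lpe (f201115 IH) (Lpe (f51751 IH) (Lpe (f400274 IH) (Lpr_cf (f400284 IH) (Lpe (f232278 IH) (Lpn (LP (LK LD1_c25 LD2_c45 LD3_c30))))))))
theorem f605734 : Led Lsl_gf (LP (LK LD1_c19 LD2_c35 LD3_c52)) = (LP (LK LD1_c25 LD2_c45 LD3_c30)) :=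
  Lgr Lrot104 (Lpr_ct (f168472 IH) (Lpe (f297582 IH) (Lpe (K52.f388188 IH) (Lpr_gf (f605732 IH) (Lpr_cf (K52.f417246 IH) (Lpe (K52.f170960 IH) (Lpr_df (f605504 IH) (Lpe (f400291 IH) (Lpr_ct (f400286 IH) (Lpn (LP (LK LD1_c25 LD2_c45 LD3_c30))))))))))))
theorem f605999 : Led Lsl_gt (LP (LK LD1_c19 LD2_c35 LD3_c56)) = (LP (LK LD1_c25 LD2_c45 LD3_c30)) :=
  Lgr Lrot5 (Lpe (K52.f605661 IH) (Lpr_at (f605997 IH) (Lpr_gf (f605734 IH) (Lpn (LP (LK LD1_c25 LD2_c45 LD3_c30))))))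
theorem f716610 : Led Lsl_at (LP (LK LD1_c26 LD2_c12 LD3_c60)) = (LP (LK LD1_c25 LD2_c45 LD3_c30)) :=
  Lgr Lrot26 (Lpr_ff (f716602 IH) (Lpr_gt (f605814 IH) (Lpr_gt (f605999 IH) (Lpn (LP (LK LD1_c25 LD2_c45 LD3_c30))))))
theorem f263777 : Led Lsl_gt (LP (LK LD1_c9 LD2_c41 LD3_c56)) = (LP (LK LD1_c17 LD2_c50 LD3_c20)) :=
  Lre_g IH (LK LD1_c9 LD2_c41 LD3_c56) (LK LD1_c17 LD2_c50 LD3_c20) Lrfl Lrfl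
theorem f397130 : Led Lsl_at (LP (LK LD1_c17 LD2_c48 LD3_c5)) = (LP (LK LD1_c26 LD2_c15 LD3_c4)) :=
  Lgr Lrot66 (Lpr_ff (K39.f349185 IH) (Lpe (K38.f263775 IH) (Lpr_ff (K38.f397127 IH) (Lpn (LP (LK LD1_c26 LD2_c15 LD3_c4))))))
theorem f397139 : Led Lsl_gt (LP (LK LD1_c17 LD2_c50 LD3_c20)) = (LP (LK LD1_c26 LD2_c15 LD3_c4)) :=
  Lgr Lrot46 (Lpe (f263777 IH) (Lpe (K39.f349185 IH) (Lpr_at (f397130 IH) (Lpn (LP (LK LD1_c26 LD2_c15 LD3_c4))))))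
theorem f201166 : Led Lsl_ct (LP (LK LD1_c8 LD2_c26 LD3_c49)) = (LP (LK LD1_c9 LD2_c40 LD3_c42)) :=
  Lgr Lrot59 (Lpr_cf (K22.f201132 IH) (Lpn (LP (LK LD1_c9 LD2_c40 LD3_c42))))
theorem f201179 : Led Lsl_at (LP (LK LD1_c9 LD2_c40 LD3_c42)) = (LP (LK LD1_c17 LD2_c48 LD3_c15)) :=
  Lre_a IH (LK LD1_c9 LD2_c40 LD3_c42) (LK LD1_c17 LD2_c48 LD3_c15) Lrfl Lrfl
theorem f201180 : Led Lsl_cf (LP (LK LD1_c15 LD2_c51 LD3_c36)) = (LP (LK LD1_c17 LD2_c48 LD3_c15)) :=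
  Lgr Lrot1 (Lpr_at (K27.f201171 IH) (Lpr_ct (f201166 IH) (Lpr_at (f201179 IH) (Lpn (LP (LK LD1_c17 LD2_c48 LD3_c15))))))
theorem f338090 : Led Lsl_at (LP (LK LD1_c17 LD2_c51 LD3_c47)) = (LP (LK LD1_c9 LD2_c42 LD3_c49)) :=
  Lre_a IH (LK LD1_c17 LD2_c51 LD3_c47) (LK LD1_c9 LD2_c42 LD3_c49) Lrfl Lrfl
theorem f346057 : Led Lsl_ft (LP (LK LD1_c18 LD2_c2 LD3_c46)) = (LP (LK LD1_c17 LD2_c51 LD3_c47)) :=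
  Lgr Lrot101 (Lpe (K41.f345299 IH) (Lpr_ff (K25.f346055 IH) (Lpe (f338090 IH) (Lpn (LP (LK LD1_c17 LD2_c51 LD3_c47))))))
theorem f41155 : Led Lsl_gt (LP (LK LD1_c17 LD2_c51 LD3_c50)) = (LP (LK LD1_c9 LD2_c42 LD3_c49)) :=
  Lre_g IH (LK LD1_c17 LD2_c51 LD3_c50) (LK LD1_c9 LD2_c42 LD3_c49) Lrfl Lrfl
theorem f346116 : Led Lsl_gt (LP (LK LD1_c18 LD2_c2 LD3_c46)) = (LP (LK LD1_c17 LD2_c51 LD3_c50)) :=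
  Lgr Lrot5 (Lpr_ft (f346057 IH) (Lpr_at (f338090 IH) (Lpe (f41155 IH) (Lpn (LP (LK LD1_c17 LD2_c51 LD3_c50))))))
theorem f41156 : Led Lsl_ct (LP (LK LD1_c17 LD2_c51 LD3_c15)) = (LP (LK LD1_c17 LD2_c51 LD3_c50)) :=
  Lre_c IH (LK LD1_c17 LD2_c51 LD3_c15) (LK LD1_c17 LD2_c51 LD3_c50) Lrfl Lrfl
theorem f346119 : Led Lsl_bt (LP (LK LD1_c17 LD2_c51 LD3_c15)) = (LP (LK LD1_c9 LD2_c42 LD3_c30)) :=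
  Lre_b IH (LK LD1_c17 LD2_c51 LD3_c15) (LK LD1_c9 LD2_c42 LD3_c30) Lrfl Lrfl
theorem f374589 : Led Lsl_gf (LP (LK LD1_c17 LD2_c48 LD3_c15)) = (LP (LK LD1_c9 LD2_c42 LD3_c30)) :=
  Lgr Lrot181 (Lpe (f201180 IH) (Lpr_gt (K27.f369182 IH) (Lpr_cf (K18.f217471 IH) (Lpr_bt (K18.f217470 IH) (Lpr_gt (K45.f374587 IH) (Lpe (K22.f331583 IH) (Lpe (K41.f346097 IH) (Lpr_gt (f346116 IH) (Lpe (f41156 IH) (Lpr_bt (f346119 IH) (Lpn (LP (LK LD1_c9 LD2_c42 LD3_c30)))))))))))))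
theorem f397305 : Led Lsl_df (LP (LK LD1_c17 LD2_c50 LD3_c20)) = (LP (LK LD1_c9 LD2_c42 LD3_c30)) :=
  Lgr Lrot155 (Lpr_gt (f397139 IH) (Lpr_ct (K38.f280102 IH) (Lpr_gt (K38.f397297 IH) (Lpr_ct (K38.f39435 IH) (Lpe (K18.f296689 IH) (Lpe (K27.f219061 IH) (Lpe (K27.f369182 IH) (Lpr_cf (f201180 IH) (Lpr_gf (f374589 IH) (Lpn (LP (LK LD1_c9 LD2_c42 LD3_c30))))))))))))
theorem f295306 : Led Lsl_gt (LP (LK LD1_c4 LD2_c55 LD3_c27)) = (LP (LK LD1_c9 LD2_c42 LD3_c30)) :=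
  Lre_g IH (LK LD1_c4 LD2_c55 LD3_c27) (LK LD1_c9 LD2_c42 LD3_c30) Lrfl Lrfl
theorem f258284 : Led Lsl_df (LP (LK LD1_c1 LD2_c10 LD3_c0)) = (LP (LK LD1_c2 LD2_c3 LD3_c53)) :=
  Lgr Lrot153 (Lpr_gt (K12.f44326 IH) (Lpr_dt (K12.f167938 IH) (Lpe (K12.f167844 IH) (Lpe (K12.f167845 IH) (Lpe (K1.f42557 IH) (Lpe (K1.f41431 IH) (Lpe (K15.f258253 IH) (Lpr_cf (K15.f258255 IH) (Lpr_gt (K18.f253921 IH) (Lpn (LP (LK LD1_c2 LD2_c3 LD3_c53))))))))))))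
theorem f266937 : Led Lsl_ct (LP (LK LD1_c2 LD2_c24 LD3_c12)) = (LP (LK LD1_c4 LD2_c19 LD3_c26)) :=
  Lgr Lrot91 (Lpe (K14.f1705 IH) (Lpe (K14.f1704 IH) (Lpr_ct (K14.f265 IH) (Lpr_gf (K9.f178973 IH) (Lpe (K9.f21243 IH) (Lpr_bt (K13.f21244 IH) (Lpe (K13.f177910 IH) (Lpr_bf (K15.f266922 IH) (Lpr_ct (K15.f266915 IH) (Lpe (K15.f254174 IH) (Lpn (LP (LK LD1_c4 LD2_c19 LD3_c26)))))))))))))
theorem f2566 : Led Lsl_gt (LP (LK LD1_c9 LD2_c38 LD3_c23)) = (LP (LK LD1_c4 LD2_c53 LD3_c12)) :=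
  Lre_g IH (LK LD1_c9 LD2_c38 LD3_c23) (LK LD1_c4 LD2_c53 LD3_c12) Lrfl Lrfl
theorem f30618 : Led Lsl_bt (LP (LK LD1_c17 LD2_c44 LD3_c27)) = (LP (LK LD1_c9 LD2_c38 LD3_c23)) :=
  Lre_b IH (LK LD1_c17 LD2_c44 LD3_c27) (LK LD1_c9 LD2_c38 LD3_c23) Lrfl Lrfl
theorem f397329 : Led Lsl_ct (LP (LK LD1_c17 LD2_c50 LD3_c20)) = (LP (LK LD1_c17 LD2_c44 LD3_c27)) :=
  Lgr Lrot191 (Lpr_df (f397305 IH) (Lpe (f295306 IH) (Lpe (K27.f367379 IH) (Lpe (K12.f217450 IH) (Lpr_df (f258284 IH) (Lpe (K18.f253921 IH) (Lpr_bf (K18.f266867 IH) (Lpe (f266937 IH) (Lpr_df (K21.f300754 IH) (Lpe (K13.f7874 IH) (Lpe (K13.f166489 IH) (Lpe (K9.f7910 IH) (Lpr_df (K9.f170149 IH) (Lpr_gf (K9.f167293 IH) (Lpe (K20.f2250 IH) (Lpe (K27.f2272 IH) (Lpe (K35.f2767 IH) (Lpe (f2566 IH) (Lpe (f30618 IH) (Lpn (LP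 (LK LD1_c17 LD2_c44 LD3_c27))))))))))))))))))))))
theorem f400293 : Led Lsl_dt (LP (LK LD1_c25 LD2_c45 LD3_c30)) = (LP (LK LD1_c17 LD2_c44 LD3_c27)) :=
  Lgr Lrot27 (Lpe (f400286 IH) (Lpr_gf (f400291 IH) (Lpe (K38.f232276 IH) (Lpe (K38.f193277 IH) (Lpe (K18.f238720 IH) (Lpe (K39.f397278 IH) (Lpr_ct (K15.f263767 IH) (Lpr_gt (f263777 IH) (Lpr_ct (f397329 IH) (Lpn (LP (LK LD1_c17 LD2_c44 LD3_c27))))))))))))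
theorem f397331 : Led Lsl_at (LP (LK LD1_c17 LD2_c44 LD3_c27)) = (LP (LK LD1_c27 LD2_c31 LD3_c8)) :=
  Lre_a IH (LK LD1_c17 LD2_c44 LD3_c27) (LK LD1_c27 LD2_c31 LD3_c8) Lrfl Lrfl
theorem f716616 : Led Lsl_df (LP (LK LD1_c26 LD2_c12 LD3_c60)) = (LP (LK LD1_c27 LD2_c31 LD3_c8)) :=
  Lgr Lrot18 (Lpr_at (f716610 IH) (Lpr_dt (f400293 IH) (Lpr_at (f397331 IH) (Lpn (LP (LK LD1_c27 LD2_c31 LD3_c8))))))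
theorem f716618 : Led Lsl_gf (LP (LK LD1_c26 LD2_c13 LD3_c15)) = (LP (LK LD1_c27 LD2_c31 LD3_c8)) :=
  Lgr Lrot147 (Lpr_ct (K38.f216705 IH) (Lpr_gt (K38.f39436 IH) (Lpr_ct (K18.f39434 IH) (Lpr_df (K19.f297537 IH) (Lpe (K19.f232285 IH) (Lpe (K52.f238514 IH) (Lpr_cf (K52.f238516 IH) (Lpe (f238603 IH) (Lpr_df (f716616 IH) (Lpn (LP (LK LD1_c27 LD2_c31 LD3_c8))))))))))))
theorem f216711 : Led Lsl_cf (LP (LK LD1_c26 LD2_c13 LD3_c15)) = (LP (LK LD1_c26 LD2_c16 LD3_c12)) :=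
  Lgr Lrot11 (Lpr_ct (K38.f216705 IH) (Lpn (LP (LK LD1_c26 LD2_c16 LD3_c12))))
theorem f397280 : Led Lsl_dt (LP (LK LD1_c16 LD2_c16 LD3_c41)) = (LP (LK LD1_c26 LD2_c13 LD3_c15)) :=
  Lgr Lrot27 (Lpr_cf (f279964 IH) (Lpr_gf (K30.f280090 IH) (Lpr_cf (K16.f236715 IH) (Lpe (K30.f397260 IH) (Lpe (K38.f263784 IH) (Lpr_gt (K38.f397276 IH) (Lpr_ct (K38.f168477 IH) (Lpe (K38.f297599 IH) (Lpe (f216711 IH) (Lpn (LP (LK LD1_c26 LD2_c13 LD3_c15))))))))))))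
theorem f400204 : Led Lsl_ff (LP (LK LD1_c17 LD2_c54 LD3_c4)) = (LP (LK LD1_c16 LD2_c17 LD3_c11)) :=
  Lgr Lrot3 (Lpr_ft (K52.f400194 IH) (Lpn (LP (LK LD1_c16 LD2_c17 LD3_c11))))
theorem f400212 : Led Lsl_dt (LP (LK LD1_c17 LD2_c54 LD3_c4)) = (LP (LK LD1_c14 LD2_c57 LD3_c41)) :=
  Lgr Lrot60 (Lpr_ff (f400204 IH) (Lpe (K38.f279922 IH) (Lpe (K38.f397105 IH) (Lpn (LP (LK LD1_c14 LD2_c57 LD3_c41))))))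
theorem f400244 : Led Lsl_ct (LP (LK LD1_c24 LD2_c56 LD3_c23)) = (LP (LK LD1_c27 LD2_c35 LD3_c24)) :=
  Lgr Lrot59 (Lpr_cf (K52.f400242 IH) (Lpn (LP (LK LD1_c27 LD2_c35 LD3_c24))))
theorem f403562 : Led Lsl_gt (LP (LK LD1_c26 LD2_c13 LD3_c15)) = (LP (LK LD1_c24 LD2_c56 LD3_c23)) :=
  Lgr Lrot9 (Lpe (f397280 IH) (Lpr_gt (f403560 IH) (Lpr_ct (K30.f170961 IH) (Lpr_gt (K30.f170968 IH) (Lpr_ct (K30.f236747 IH) (Lpe (f400212 IH) (Lpr_cf (K52.f400200 IH) (Lpe (K52.f349210 IH) (Lpe (f400244 IH) (Lpn (LP (LK LD1_c24 LD2_c56 LD3_c23))))))))))))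
theorem f389746 : Led Lsl_bt (LP (LK LD1_c27 LD2_c35 LD3_c42)) = (LP (LK LD1_c17 LD2_c48 LD3_c33)) :=
  Lre_b IH (LK LD1_c27 LD2_c35 LD3_c42) (LK LD1_c17 LD2_c48 LD3_c33) Lrfl Lrfl
theorem f41137 : Led Lsl_bt (LP (LK LD1_c4 LD2_c54 LD3_c41)) = (LP (LK LD1_c9 LD2_c40 LD3_c58)) :=
  Lre_b IH (LK LD1_c4 LD2_c54 LD3_c41) (LK LD1_c9 LD2_c40 LD3_c58) Lrfl Lrfl
theorem f374591 : Led Lsl_ct (LP (LK LD1_c9 LD2_c42 LD3_c30)) = (LP (LK LD1_c17 LD2_c51 LD3_c16)) :=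
  Lre_c IH (LK LD1_c9 LD2_c42 LD3_c30) (LK LD1_c17 LD2_c51 LD3_c16) Lrfl Lrfl
theorem f391307 : Led Lsl_gt (LP (LK LD1_c17 LD2_c51 LD3_c16)) = (LP (LK LD1_c19 LD2_c41 LD3_c23)) :=
  Lgr Lrot149 (Lpe (f374591 IH) (Lpe (f295306 IH) (Lpe (K27.f367379 IH) (Lpr_ct (K12.f217443 IH) (Lpe (K12.f41411 IH) (Lpe (K14.f41235 IH) (Lpr_bt (f41137 IH) (Lpr_gf (K31.f389737 IH) (Lpe (f389746 IH) (Lpr_ct (K52.f390855 IH) (Lpn (LP (LK LD1_c19 LD2_c41 LD3_c23)))))))))))))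
theorem f390851 : Led Lsl_at (LP (LK LD1_c25 LD2_c47 LD3_c46)) = (LP (LK LD1_c19 LD2_c41 LD3_c23)) :=
  Lgr Lrot66 (Lpe (f388193 IH) (Lpe (K31.f389575 IH) (Lpr_ff (K31.f390847 IH) (Lpn (LP (LK LD1_c19 LD2_c41 LD3_c23))))))
theorem f391310 : Led Lsl_gf (LP (LK LD1_c17 LD2_c51 LD3_c16)) = (LP (LK LD1_c15 LD2_c52 LD3_c11)) :=
  Lgr Lrot47 (Lpr_gt (f391307 IH) (Lpe (f390851 IH) (Lpe (f388193 IH) (Lpn (LP (LK LD1_c15 LD2_c52 LD3_c11))))))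
theorem f295307 : Led Lsl_ct (LP (LK LD1_c17 LD2_c51 LD3_c16)) = (LP (LK LD1_c9 LD2_c42 LD3_c30)) :=
  Lre_c IH (LK LD1_c17 LD2_c51 LD3_c16) (LK LD1_c9 LD2_c42 LD3_c30) Lrfl Lrfl
theorem f397334 : Led Lsl_cf (LP (LK LD1_c17 LD2_c50 LD3_c20)) = (LP (LK LD1_c17 LD2_c44 LD3_c27)) :=
  Lgr Lrot11 (Lpr_ct (f397329 IH) (Lpn (LP (LK LD1_c17 LD2_c44 LD3_c27))))
theorem f400154 : Led Lsl_gf (LP (LK LD1_c17 LD2_c44 LD3_c27)) = (LP (LK LD1_c25 LD2_c35 LD3_c9)) :=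
  Lgr Lrot104 (Lpe (f397334 IH) (Lpr_df (f397305 IH) (Lpe (f295307 IH) (Lpr_gf (f391310 IH) (Lpr_cf (f390018 IH) (Lpr_gf (K52.f261747 IH) (Lpr_df (K19.f297496 IH) (Lpr_gt (f297568 IH) (Lpr_ct (f400150 IH) (Lpn (LP (LK LD1_c25 LD2_c35 LD3_c9))))))))))))
theorem f397337 : Led Lsl_at (LP (LK LD1_c27 LD2_c31 LD3_c8)) = (LP (LK LD1_c17 LD2_c44 LD3_c27)) :=
  Lre_a IH (LK LD1_c27 LD2_c31 LD3_c8) (LK LD1_c17 LD2_c44 LD3_c27) Lrfl Lrfl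
theorem f605808 : Led Lsl_ft (LP (LK LD1_c27 LD2_c37 LD3_c28)) = (LP (LK LD1_c27 LD2_c31 LD3_c8)) :=
  Lgr Lrot2 (Lpr_gt (f605805 IH) (Lpe (f400154 IH) (Lpe (f397337 IH) (Lpn (LP (LK LD1_c27 LD2_c31 LD3_c8))))))
theorem f605854 : Led Lsl_ff (LP (LK LD1_c27 LD2_c37 LD3_c28)) = (LP (LK LD1_c27 LD2_c31 LD3_c8)) :=
  Lgr Lrot3 (Lpr_ft (f605808 IH) (Lpn (LP (LK LD1_c27 LD2_c31 LD3_c8))))
theorem f716620 : Led Lsl_af (LP (LK LD1_c24 LD2_c56 LD3_c23)) = (LP (LK LD1_c27 LD2_c37 LD3_c28)) :=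
  Lgr Lrot31 (Lpe (f403562 IH) (Lpr_gf (f716618 IH) (Lpe (f605854 IH) (Lpn (LP (LK LD1_c27 LD2_c37 LD3_c28))))))
theorem f716628 : Led Lsl_ft (LP (LK LD1_c24 LD2_c56 LD3_c23)) = (LP (LK LD1_c17 LD2_c44 LD3_c27)) :=
  Lgr Lrot101 (Lpr_af (f716620 IH) (Lpr_ff (f605854 IH) (Lpe (f397331 IH) (Lpn (LP (LK LD1_c17 LD2_c44 LD3_c27))))))
theorem f716636 : Led Lsl_ff (LP (LK LD1_c24 LD2_c56 LD3_c23)) = (LP (LK LD1_c17 LD2_c44 LD3_c27)) :=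
  Lgr Lrot3 (Lpr_ft (f716628 IH) (Lpn (LP (LK LD1_c17 LD2_c44 LD3_c27))))
theorem f716640 : Led Lsl_ft (LP (LK LD1_c27 LD2_c35 LD3_c24)) = (LP (LK LD1_c17 LD2_c50 LD3_c20)) :=
  Lgr Lrot4 (Lpe (f400244 IH) (Lpr_ff (f716636 IH) (Lpe (f397329 IH) (Lpn (LP (LK LD1_c17 LD2_c50 LD3_c20))))))
theorem f397303 : Led Lsl_dt (LP (LK LD1_c17 LD2_c50 LD3_c20)) = (LP (LK LD1_c9 LD2_c42 LD3_c30)) :=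
  Lgr Lrot6 (Lpr_gt (f397139 IH) (Lpr_ct (K38.f280102 IH) (Lpr_gt (K38.f397297 IH) (Lpr_ct (K38.f39435 IH) (Lpe (K18.f296685 IH) (Lpe (K27.f219061 IH) (Lpe (K27.f369182 IH) (Lpr_cf (f201180 IH) (Lpr_gf (f374589 IH) (Lpn (LP (LK LD1_c9 LD2_c42 LD3_c30))))))))))))
theorem f716779 : Led Lsl_ff (LP (LK LD1_c17 LD2_c48 LD3_c14)) = (LP (LK LD1_c9 LD2_c42 LD3_c30)) :=
  Lgr Lrot19 (Lpr_dt (K52.f400238 IH) (Lpr_ft (f716640 IH) (Lpr_dt (f397303 IH) (Lpn (LP (LK LD1_c9 LD2_c42 LD3_c30))))))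
theorem f716787 : Led Lsl_at (LP (LK LD1_c17 LD2_c48 LD3_c14)) = (LP (LK LD1_c9 LD2_c42 LD3_c31)) :=
  Lgr Lrot26 (Lpr_ff (f716779 IH) (Lpe (f374589 IH) (Lpr_gt (K27.f369185 IH) (Lpn (LP (LK LD1_c9 LD2_c42 LD3_c31))))))
theorem f253197 : Led Lsl_cf (LP (LK LD1_c10 LD2_c53 LD3_c44)) = (LP (LK LD1_c9 LD2_c42 LD3_c31)) :=
  Lgr Lrot11 (Lpr_ct (K27.f253193 IH) (Lpn (LP (LK LD1_c9 LD2_c42 LD3_c31))))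
theorem f253201 : Led Lsl_at (LP (LK LD1_c10 LD2_c53 LD3_c44)) = (LP (LK LD1_c19 LD2_c41 LD3_c24)) :=
  Lre_a IH (LK LD1_c10 LD2_c53 LD3_c44) (LK LD1_c19 LD2_c41 LD3_c24) Lrfl Lrfl
theorem f716791 : Led Lsl_cf (LP (LK LD1_c17 LD2_c48 LD3_c14)) = (LP (LK LD1_c19 LD2_c41 LD3_c24)) :=
  Lgr Lrot1 (Lpr_at (f716787 IH) (Lpe (f253197 IH) (Lpr_at (f253201 IH) (Lpn (LP (LK LD1_c19 LD2_c41 LD3_c24))))))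
theorem f389612 : Led Lsl_df (LP (LK LD1_c27 LD2_c35 LD3_c47)) = (LP (LK LD1_c27 LD2_c39 LD3_c29)) :=
  Lgr Lrot78 (Lpr_ft (K31.f389610 IH) (Lpr_dt (K18.f297493 IH) (Lpr_ft (K19.f297563 IH) (Lpn (LP (LK LD1_c27 LD2_c39 LD3_c29))))))
theorem f389722 : Led Lsl_ft (LP (LK LD1_c25 LD2_c47 LD3_c46)) = (LP (LK LD1_c15 LD2_c52 LD3_c11)) :=
  Lre_f IH (LK LD1_c25 LD2_c47 LD3_c46) (LK LD1_c15 LD2_c52 LD3_c11) Lrfl Lrfl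
theorem f389723 : Led Lsl_cf (LP (LK LD1_c25 LD2_c47 LD3_c46)) = (LP (LK LD1_c24 LD2_c58 LD3_c34)) :=
  Lgr Lrot108 (Lpr_ft (f389722 IH) (Lpr_ct (K52.f200777 IH) (Lpr_ft (K31.f389717 IH) (Lpn (LP (LK LD1_c24 LD2_c58 LD3_c34))))))
theorem f716795 : Led Lsl_gt (LP (LK LD1_c25 LD2_c47 LD3_c46)) = (LP (LK LD1_c19 LD2_c41 LD3_c24)) :=
  Lgr Lrot150 (Lpr_cf (f389723 IH) (Lpe (K31.f389616 IH) (Lpr_df (f389612 IH) (Lpe (K38.f297599 IH) (Lpe (f216711 IH) (Lpr_gt (f403562 IH) (Lpr_ct (f400244 IH) (Lpe (K52.f400238 IH) (Lpr_cf (f716791 IH) (Lpn (LP (LK LD1_c19 LD2_c41 LD3_c24))))))))))))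
theorem f716799 : Led Lsl_gf (LP (LK LD1_c25 LD2_c47 LD3_c58)) = (LP (LK LD1_c19 LD2_c41 LD3_c24)) :=
  Lgr Lrot76 (Lpe (K52.f389591 IH) (Lpe (f389722 IH) (Lpr_gt (f716795 IH) (Lpn (LP (LK LD1_c19 LD2_c41 LD3_c24))))))
theorem f280757 : Led Lsl_ct (LP (LK LD1_c19 LD2_c41 LD3_c30)) = (LP (LK LD1_c10 LD2_c53 LD3_c48)) :=
  Lre_c IH (LK LD1_c19 LD2_c41 LD3_c30) (LK LD1_c10 LD2_c53 LD3_c48) Lrfl Lrfl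
theorem f386448 : Led Lsl_ct (LP (LK LD1_c10 LD2_c49 LD3_c19)) = (LP (LK LD1_c19 LD2_c33 LD3_c35)) :=
  Lre_c IH (LK LD1_c10 LD2_c49 LD3_c19) (LK LD1_c19 LD2_c33 LD3_c35) Lrfl Lrfl
theorem f390664 : Led Lsl_gf (LP (LK LD1_c19 LD2_c41 LD3_c30)) = (LP (LK LD1_c19 LD2_c33 LD3_c35)) :=
  Lgr Lrot172 (Lpr_ct (f280757 IH) (Lpr_dt (K31.f280705 IH) (Lpe (K20.f221407 IH) (Lpr_gf (K31.f280823 IH) (Lpe (K30.f217952 IH) (Lpe (K31.f390620 IH) (Lpr_dt (K31.f390651 IH) (Lpr_gt (K31.f386510 IH) (Lpr_ct (f386448 IH) (Lpn (LP (LK LD1_c19 LD2_c33 LD3_c35))))))))))))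
theorem f390666 : Led Lsl_gt (LP (LK LD1_c16 LD2_c46 LD3_c34)) = (LP (LK LD1_c19 LD2_c33 LD3_c35)) :=
  Lgr Lrot5 (Lpe (K20.f280768 IH) (Lpr_at (K20.f280766 IH) (Lpr_gf (f390664 IH) (Lpn (LP (LK LD1_c19 LD2_c33 LD3_c35))))))
theorem f387757 : Led Lsl_ct (LP (LK LD1_c19 LD2_c33 LD3_c35)) = (LP (LK LD1_c10 LD2_c49 LD3_c19)) :=
  Lre_c IH (LK LD1_c19 LD2_c33 LD3_c35) (LK LD1_c10 LD2_c49 LD3_c19) Lrfl Lrfl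
theorem f245417 : Led Lsl_dt (LP (LK LD1_c10 LD2_c47 LD3_c5)) = (LP (LK LD1_c5 LD2_c27 LD3_c57)) :=
  Lre_d IH (LK LD1_c10 LD2_c47 LD3_c5) (LK LD1_c5 LD2_c27 LD3_c57) Lrfl Lrfl
theorem f390672 : Led Lsl_gf (LP (LK LD1_c8 LD2_c57 LD3_c51)) = (LP (LK LD1_c10 LD2_c47 LD3_c5)) :=
  Lgr Lrot147 (Lpr_ct (K20.f262875 IH) (Lpr_gt (f390666 IH) (Lpr_ct (f387757 IH) (Lpe (K31.f386447 IH) (Lpe (K30.f172946 IH) (Lpe (K22.f172945 IH) (Lpe (K13.f245148 IH) (Lpe (K30.f244949 IH) (Lpe (f245417 IH) (Lpn (LP (LK LD1_c10 LD2_c47 LD3_c5))))))))))))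
theorem f281594 : Led Lsl_at (LP (LK LD1_c16 LD2_c46 LD3_c32)) = (LP (LK LD1_c8 LD2_c57 LD3_c51)) :=
  Lre_a IH (LK LD1_c16 LD2_c46 LD3_c32) (LK LD1_c8 LD2_c57 LD3_c51) Lrfl Lrfl
theorem f280724 : Led Lsl_ft (LP (LK LD1_c10 LD2_c53 LD3_c48)) = (LP (LK LD1_c16 LD2_c46 LD3_c32)) :=
  Lgr Lrot54 (Lpe (K20.f280716 IH) (Lpr_ff (K20.f280712 IH) (Lpe (K30.f280666 IH) (Lpn (LP (LK LD1_c16 LD2_c46 LD3_c32))))))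
theorem f390675 : Led Lsl_gt (LP (LK LD1_c10 LD2_c53 LD3_c48)) = (LP (LK LD1_c10 LD2_c47 LD3_c5)) :=
  Lgr Lrot5 (Lpr_ft (f280724 IH) (Lpr_at (f281594 IH) (Lpr_gf (f390672 IH) (Lpn (LP (LK LD1_c10 LD2_c47 LD3_c5))))))
theorem f390685 : Led Lsl_gt (LP (LK LD1_c5 LD2_c34 LD3_c8)) = (LP (LK LD1_c10 LD2_c57 LD3_c32)) :=
  Lgr Lrot94 (Lpr_cf (K31.f281716 IH) (Lpe (K31.f281711 IH) (Lpr_dt (K20.f280716 IH) (Lpr_gt (f390675 IH) (Lpr_dt (f245417 IH) (Lpr_cf (K30.f332037 IH) (Lpr_df (K38.f390248 IH) (Lpe (K31.f390165 IH) (Lpe (K30.f380750 IH) (Lpn (LP (LK LD1_c10 LD2_c57 LD3_c32))))))))))))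
theorem f387559 : Led Lsl_ct (LP (LK LD1_c10 LD2_c54 LD3_c49)) = (LP (LK LD1_c10 LD2_c57 LD3_c32)) :=
  Lgr Lrot40 (Lpe (K31.f387558 IH) (Lpe (K31.f387557 IH) (Lpr_ff (K30.f380792 IH) (Lpn (LP (LK LD1_c10 LD2_c57 LD3_c32))))))
theorem f390618 : Led Lsl_bt (LP (LK LD1_c10 LD2_c54 LD3_c49)) = (LP (LK LD1_c16 LD2_c44 LD3_c1)) :=
  Lgr Lrot35 (Lpe (K31.f387558 IH) (Lpr_bf (K31.f390602 IH) (Lpr_ff (K31.f390472 IH) (Lpn (LP (LK LD1_c16 LD2_c44 LD3_c1))))))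
theorem f390694 : Led Lsl_gf (LP (LK LD1_c16 LD2_c46 LD3_c29)) = (LP (LK LD1_c25 LD2_c47 LD3_c58)) :=
  Lgr Lrot124 (Lpe (K31.f281715 IH) (Lpe (K31.f281716 IH) (Lpr_gt (f390685 IH) (Lpe (f387559 IH) (Lpr_bt (f390618 IH) (Lpr_gt (K12.f189037 IH) (Lpe (K15.f218013 IH) (Lpr_gt (K12.f217980 IH) (Lpe (K31.f218021 IH) (Lpr_bt (K31.f389576 IH) (Lpn (LP (LK LD1_c25 LD2_c47 LD3_c58)))))))))))))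
theorem f253195 : Led Lsl_at (LP (LK LD1_c19 LD2_c41 LD3_c24)) = (LP (LK LD1_c10 LD2_c53 LD3_c44)) :=
  Lre_a IH (LK LD1_c19 LD2_c41 LD3_c24) (LK LD1_c10 LD2_c53 LD3_c44) Lrfl Lrfl
theorem f391312 : Led Lsl_ft (LP (LK LD1_c17 LD2_c51 LD3_c16)) = (LP (LK LD1_c19 LD2_c41 LD3_c24)) :=
  Lgr Lrot2 (Lpr_gt (f391307 IH) (Lpr_gt (K31.f253200 IH) (Lpe (f253195 IH) (Lpn (LP (LK LD1_c19 LD2_c41 LD3_c24))))))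
theorem f391316 : Led Lsl_ff (LP (LK LD1_c17 LD2_c51 LD3_c16)) = (LP (LK LD1_c19 LD2_c41 LD3_c24)) :=
  Lgr Lrot3 (Lpr_ft (f391312 IH) (Lpn (LP (LK LD1_c19 LD2_c41 LD3_c24))))
theorem f716801 : Led Lsl_af (LP (LK LD1_c16 LD2_c46 LD3_c29)) = (LP (LK LD1_c17 LD2_c51 LD3_c16)) :=
  Lgr Lrot31 (Lpr_gf (f390694 IH) (Lpr_gf (f716799 IH) (Lpe (f391316 IH) (Lpn (LP (LK LD1_c17 LD2_c51 LD3_c16))))))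
theorem f716803 : Led Lsl_at (LP (LK LD1_c16 LD2_c46 LD3_c29)) = (LP (LK LD1_c17 LD2_c51 LD3_c16)) :=
  Lgr Lrot100 (Lpr_af (f716801 IH) (Lpn (LP (LK LD1_c17 LD2_c51 LD3_c16))))
theorem f716805 : Led Lsl_ff (LP (LK LD1_c16 LD2_c46 LD3_c29)) = (LP (LK LD1_c10 LD2_c53 LD3_c44)) :=
  Lgr Lrot30 (Lpr_at (f716803 IH) (Lpr_ft (f391312 IH) (Lpr_at (f253195 IH) (Lpn (LP (LK LD1_c10 LD2_c53 LD3_c44))))))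
theorem f218136 : Led Lsl_bt (LP (LK LD1_c16 LD2_c46 LD3_c29)) = (LP (LK LD1_c8 LD2_c57 LD3_c48)) :=
  Lre_b IH (LK LD1_c16 LD2_c46 LD3_c29) (LK LD1_c8 LD2_c57 LD3_c48) Lrfl Lrfl
theorem f716807 : Led Lsl_ft (LP (LK LD1_c8 LD2_c57 LD3_c48)) = (LP (LK LD1_c5 LD2_c31 LD3_c6)) :=
  Lgr Lrot75 (Lpe (f218136 IH) (Lpr_ff (f716805 IH) (Lpe (K31.f253196 IH) (Lpn (LP (LK LD1_c5 LD2_c31 LD3_c6))))))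
theorem f716815 : Led Lsl_af (LP (LK LD1_c8 LD2_c57 LD3_c49)) = (LP (LK LD1_c5 LD2_c31 LD3_c6)) :=
  Lgr Lrot31 (Lpe (K24.f280714 IH) (Lpr_gf (K31.f281711 IH) (Lpr_ft (f716807 IH) (Lpn (LP (LK LD1_c5 LD2_c31 LD3_c6))))))
theorem f399434 : Led Lsl_dt (LP (LK LD1_c4 LD2_c29 LD3_c57)) = (LP (LK LD1_c8 LD2_c56 LD3_c52)) :=
  Lgr Lrot6 (Lpr_gt (K20.f174507 IH) (Lpr_ct (K20.f169286 IH) (Lpr_gt (K31.f169310 IH) (Lpe (K31.f281716 IH) (Lpe (K31.f281718 IH) (Lpr_cf (K31.f399420 IH) (Lpe (K31.f245325 IH) (Lpe (K30.f174635 IH) (Lpe (K31.f245455 IH) (Lpn (LP (LK LD1_c8 LD2_c56 LD3_c52))))))))))))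
theorem f226405 : Led Lsl_gt (LP (LK LD1_c16 LD2_c44 LD3_c34)) = (LP (LK LD1_c8 LD2_c56 LD3_c36)) :=
  Lre_g IH (LK LD1_c16 LD2_c44 LD3_c34) (LK LD1_c8 LD2_c56 LD3_c36) Lrfl Lrfl
theorem f399979 : Led Lsl_dt (LP (LK LD1_c8 LD2_c57 LD3_c49)) = (LP (LK LD1_c16 LD2_c44 LD3_c34)) :=
  Lgr Lrot57 (Lpe (K24.f280714 IH) (Lpe (K20.f221407 IH) (Lpr_gt (K20.f281621 IH) (Lpr_dt (f399434 IH) (Lpr_gt (K31.f245455 IH) (Lpr_dt (K13.f226434 IH) (Lpe (K30.f226403 IH) (Lpe (K31.f226404 IH) (Lpe (f226405 IH) (Lpn (LP (LK LD1_c16 LD2_c44 LD3_c34))))))))))))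
theorem f224499 : Led Lsl_dt (LP (LK LD1_c5 LD2_c31 LD3_c37)) = (LP (LK LD1_c10 LD2_c54 LD3_c58)) :=
  Lre_d IH (LK LD1_c5 LD2_c31 LD3_c37) (LK LD1_c10 LD2_c54 LD3_c58) Lrfl Lrfl
theorem f399707 : Led Lsl_df (LP (LK LD1_c5 LD2_c31 LD3_c6)) = (LP (LK LD1_c10 LD2_c47 LD3_c9)) :=
  Lgr Lrot155 (Lpr_gt (K27.f281694 IH) (Lpr_ct (K31.f280661 IH) (Lpe (K31.f281706 IH) (Lpr_ct (K27.f224507 IH) (Lpr_dt (f224499 IH) (Lpr_cf (K31.f399696 IH) (Lpr_gf (K31.f245381 IH) (Lpe (K30.f245252 IH) (Lpe (K31.f245224 IH) (Lpn (LP (LK LD1_c10 LD2_c47 LD3_c9))))))))))))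
theorem f716823 : Led Lsl_at (LP (LK LD1_c16 LD2_c44 LD3_c34)) = (LP (LK LD1_c10 LD2_c47 LD3_c9)) :=
  Lgr Lrot51 (Lpe (f399979 IH) (Lpr_af (f716815 IH) (Lpr_df (f399707 IH) (Lpn (LP (LK LD1_c10 LD2_c47 LD3_c9))))))
theorem f716835 : Led Lsl_ff (LP (LK LD1_c16 LD2_c44 LD3_c34)) = (LP (LK LD1_c10 LD2_c47 LD3_c10)) :=
  Lgr Lrot52 (Lpr_at (f716823 IH) (Lpe (K31.f244830 IH) (Lpe (K31.f244953 IH) (Lpn (LP (LK LD1_c10 LD2_c47 LD3_c10))))))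
theorem f716846 : Led Lsl_ft (LP (LK LD1_c16 LD2_c44 LD3_c34)) = (LP (LK LD1_c10 LD2_c47 LD3_c10)) :=
  Lgr Lrot48 (Lpr_ff (f716835 IH) (Lpn (LP (LK LD1_c10 LD2_c47 LD3_c10))))
theorem f716855 : Led Lsl_af (LP (LK LD1_c16 LD2_c44 LD3_c33)) = (LP (LK LD1_c10 LD2_c47 LD3_c10)) :=
  Lgr Lrot31 (Lpe (K31.f226433 IH) (Lpe (f226405 IH) (Lpr_ft (f716846 IH) (Lpn (LP (LK LD1_c10 LD2_c47 LD3_c10))))))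
theorem f716859 : Led Lsl_at (LP (LK LD1_c8 LD2_c57 LD3_c48)) = (LP (LK LD1_c5 LD2_c31 LD3_c7)) :=
  Lgr Lrot51 (Lpr_df (K31.f399410 IH) (Lpr_af (f716855 IH) (Lpe (K31.f399513 IH) (Lpn (LP (LK LD1_c5 LD2_c31 LD3_c7))))))
theorem f716873 : Led Lsl_af (LP (LK LD1_c5 LD2_c34 LD3_c8)) = (LP (LK LD1_c8 LD2_c58 LD3_c35)) :=
  Lgr Lrot68 (Lpr_ct (K31.f281713 IH) (Lpr_at (f716859 IH) (Lpr_ct (K31.f225219 IH) (Lpn (LP (LK LD1_c8 LD2_c58 LD3_c35))))))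
theorem f716877 : Led Lsl_ft (LP (LK LD1_c5 LD2_c32 LD3_c55)) = (LP (LK LD1_c8 LD2_c58 LD3_c35)) :=
  Lgr Lrot2 (Lpe (K27.f380789 IH) (Lpr_gt (K31.f224497 IH) (Lpr_af (f716873 IH) (Lpn (LP (LK LD1_c8 LD2_c58 LD3_c35))))))
theorem f638497 : Led Lsl_ff (LP (LK LD1_c2 LD2_c42 LD3_c40)) = v4690 :=
  Lgr Lrot3 (Lpr_ft (f638495 IH) (Lpn v4690))
theorem f716881 : v4690 = (LP (LK LD1_c4 LD2_c30 LD3_c12)) :=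
  (Llr Lrot25 (Lpe (f638497 IH) (Lpr_bt (K27.f380737 IH) (Lpr_ft (f716877 IH) (Lpr_bt (K24.f225194 IH) (Lpn (LP (LK LD1_c4 LD2_c30 LD3_c12)))))))).symm
theorem f716882 : (LP (LK LD1_c2 LD2_c42 LD3_c41)) = v12741 :=
  Lefun (Lecon (Lfl_af (f638496 IH)) (f716881 IH)) (f697935 IH)
theorem f346076 : Led Lsl_dt (LP (LK LD1_c5 LD2_c32 LD3_c60)) = (LP (LK LD1_c2 LD2_c42 LD3_c41)) :=
  Lre_d IH (LK LD1_c5 LD2_c32 LD3_c60) (LK LD1_c2 LD2_c42 LD3_c41) Lrfl Lrfl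
theorem f389427 : Led Lsl_dt (LP (LK LD1_c4 LD2_c30 LD3_c13)) = (LP (LK LD1_c8 LD2_c58 LD3_c39)) :=
  Lre_d IH (LK LD1_c4 LD2_c30 LD3_c13) (LK LD1_c8 LD2_c58 LD3_c39) Lrfl Lrfl
theorem f716896 : Led Lsl_ff (LP (LK LD1_c5 LD2_c32 LD3_c60)) = (LP (LK LD1_c8 LD2_c58 LD3_c39)) :=
  Lgr Lrot19 (Lpr_dt (f346076 IH) (Lpqs (f716882 IH) (Lpe (f697938 IH) (Lpr_dt (f389427 IH) (Lpn (LP (LK LD1_c8 LD2_c58 LD3_c39)))))))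
theorem f388280 : Led Lsl_ct (LP (LK LD1_c4 LD2_c30 LD3_c13)) = (LP (LK LD1_c8 LD2_c58 LD3_c38)) :=
  Lre_c IH (LK LD1_c4 LD2_c30 LD3_c13) (LK LD1_c8 LD2_c58 LD3_c38) Lrfl Lrfl
theorem f716894 : Led Lsl_ff (LP (LK LD1_c5 LD2_c32 LD3_c59)) = (LP (LK LD1_c8 LD2_c58 LD3_c38)) :=
  Lgr Lrot23 (Lpr_ct (K50.f213747 IH) (Lpqs (f716882 IH) (Lpe (f697938 IH) (Lpr_ct (f388280 IH) (Lpn (LP (LK LD1_c8 LD2_c58 LD3_c38)))))))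
theorem f396749 : Led Lsl_dt (LP (LK LD1_c2 LD2_c41 LD3_c27)) = (LP (LK LD1_c5 LD2_c30 LD3_c23)) :=
  Lre_d IH (LK LD1_c2 LD2_c41 LD3_c27) (LK LD1_c5 LD2_c30 LD3_c23) Lrfl Lrfl
theorem f225269 : Led Lsl_cf (LP (LK LD1_c8 LD2_c59 LD3_c58)) = (LP (LK LD1_c5 LD2_c29 LD3_c61)) :=
  Lgr Lrot11 (Lpr_ct (K30.f225256 IH) (Lpn (LP (LK LD1_c5 LD2_c29 LD3_c61))))
theorem f226724 : Led Lsl_bt (LP (LK LD1_c5 LD2_c33 LD3_c38)) = (LP (LK LD1_c10 LD2_c59 LD3_c12)) :=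
  Lre_b IH (LK LD1_c5 LD2_c33 LD3_c38) (LK LD1_c10 LD2_c59 LD3_c12) Lrfl Lrfl
theorem f388356 : Led Lsl_dt (LP (LK LD1_c10 LD2_c59 LD3_c12)) = (LP (LK LD1_c8 LD2_c59 LD3_c58)) :=
  Lgr Lrot79 (Lpe (f226724 IH) (Lpr_df (K41.f388354 IH) (Lpe (K30.f173999 IH) (Lpn (LP (LK LD1_c8 LD2_c59 LD3_c58))))))
theorem f226726 : Led Lsl_cf (LP (LK LD1_c10 LD2_c59 LD3_c12)) = (LP (LK LD1_c16 LD2_c46 LD3_c10)) :=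
  Lgr Lrot11 (Lpr_ct (K22.f226710 IH) (Lpn (LP (LK LD1_c16 LD2_c46 LD3_c10))))
theorem f396750 : Led Lsl_gt (LP (LK LD1_c5 LD2_c30 LD3_c23)) = (LP (LK LD1_c5 LD2_c32 LD3_c39)) :=
  Lgr Lrot9 (Lpe (f396749 IH) (Lpr_gt (K30.f396744 IH) (Lpr_ct (K30.f385162 IH) (Lpr_gt (K30.f386377 IH) (Lpe (f225269 IH) (Lpe (f388356 IH) (Lpr_cf (f226726 IH) (Lpe (K22.f281183 IH) (Lpe (K20.f280653 IH) (Lpn (LP (LK LD1_c5 LD2_c32 LD3_c39))))))))))))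
theorem f396766 : Led Lsl_bt (LP (LK LD1_c10 LD2_c52 LD3_c9)) = (LP (LK LD1_c5 LD2_c30 LD3_c23)) :=
  Lre_b IH (LK LD1_c10 LD2_c52 LD3_c9) (LK LD1_c5 LD2_c30 LD3_c23) Lrfl Lrfl
theorem f319860 : Led Lsl_at (LP (LK LD1_c2 LD2_c42 LD3_c44)) = (LP (LK LD1_c5 LD2_c33 LD3_c0)) :=
  Lre_a IH (LK LD1_c2 LD2_c42 LD3_c44) (LK LD1_c5 LD2_c33 LD3_c0) Lrfl Lrfl
theorem f319861 : Led Lsl_bf (LP (LK LD1_c8 LD2_c58 LD3_c21)) = (LP (LK LD1_c5 LD2_c33 LD3_c0)) :=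
  Lgr Lrot81 (Lpr_at (K22.f289600 IH) (Lpr_bt (K31.f180405 IH) (Lpr_at (K20.f319856 IH) (Lpr_bt (K27.f225429 IH) (Lpr_at (f319860 IH) (Lpn (LP (LK LD1_c5 LD2_c33 LD3_c0))))))))
theorem f319909 : Led Lsl_ct (LP (LK LD1_c5 LD2_c33 LD3_c0)) = (LP (LK LD1_c10 LD2_c57 LD3_c51)) :=
  Lre_c IH (LK LD1_c5 LD2_c33 LD3_c0) (LK LD1_c10 LD2_c57 LD3_c51) Lrfl Lrfl
theorem f226695 : Led Lsl_gt (LP (LK LD1_c16 LD2_c47 LD3_c58)) = (LP (LK LD1_c8 LD2_c58 LD3_c48)) :=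
  Lre_g IH (LK LD1_c16 LD2_c47 LD3_c58) (LK LD1_c8 LD2_c58 LD3_c48) Lrfl Lrfl
theorem f390198 : Led Lsl_gt (LP (LK LD1_c10 LD2_c57 LD3_c51)) = (LP (LK LD1_c16 LD2_c47 LD3_c58)) :=
  Lgr Lrot5 (Lpr_ft (K52.f390190 IH) (Lpr_at (K52.f390192 IH) (Lpe (f226695 IH) (Lpn (LP (LK LD1_c16 LD2_c47 LD3_c58))))))
theorem f396767 : Led Lsl_ct (LP (LK LD1_c10 LD2_c52 LD3_c9)) = (LP (LK LD1_c16 LD2_c47 LD3_c58)) :=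
  Lgr Lrot10 (Lpr_bt (f396766 IH) (Lpr_gt (f396750 IH) (Lpr_ct (K20.f280653 IH) (Lpr_gt (K22.f281183 IH) (Lpe (K22.f226710 IH) (Lpr_bt (K22.f225696 IH) (Lpe (K22.f319786 IH) (Lpr_bf (f319861 IH) (Lpr_ct (f319909 IH) (Lpr_gt (f390198 IH) (Lpn (LP (LK LD1_c16 LD2_c47 LD3_c58)))))))))))))
theorem f226579 : Led Lsl_gt (LP (LK LD1_c19 LD2_c39 LD3_c4)) = (LP (LK LD1_c10 LD2_c52 LD3_c9)) :=
  Lre_g IH (LK LD1_c19 LD2_c39 LD3_c4) (LK LD1_c10 LD2_c52 LD3_c9) Lrfl Lrfl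
theorem f180424 : Led Lsl_ct (LP (LK LD1_c4 LD2_c30 LD3_c16)) = (LP (LK LD1_c8 LD2_c58 LD3_c48)) :=
  Lre_c IH (LK LD1_c4 LD2_c30 LD3_c16) (LK LD1_c8 LD2_c58 LD3_c48) Lrfl Lrfl
theorem f180423 : Led Lsl_bt (LP (LK LD1_c4 LD2_c30 LD3_c16)) = (LP (LK LD1_c2 LD2_c12 LD3_c8)) :=
  Lre_b IH (LK LD1_c4 LD2_c30 LD3_c16) (LK LD1_c2 LD2_c12 LD3_c8) Lrfl Lrfl
theorem f396801 : Led Lsl_bf (LP (LK LD1_c19 LD2_c39 LD3_c4)) = (LP (LK LD1_c16 LD2_c41 LD3_c20)) :=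
  Lgr Lrot165 (Lpr_gt (f226579 IH) (Lpr_ct (f396767 IH) (Lpr_gt (f226695 IH) (Lpe (f180424 IH) (Lpr_bt (f180423 IH) (Lpe (K15.f181792 IH) (Lpe (K27.f226685 IH) (Lpr_ct (K27.f179152 IH) (Lpr_gt (K27.f381310 IH) (Lpr_cf (K27.f382636 IH) (Lpn (LP (LK LD1_c16 LD2_c41 LD3_c20)))))))))))))
theorem f382520 : Led Lsl_gt (LP (LK LD1_c10 LD2_c49 LD3_c29)) = (LP (LK LD1_c19 LD2_c33 LD3_c56)) :=
  Lre_g IH (LK LD1_c10 LD2_c49 LD3_c29) (LK LD1_c19 LD2_c33 LD3_c56) Lrfl Lrfl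
theorem f392460 : Led Lsl_cf (LP (LK LD1_c19 LD2_c48 LD3_c56)) = (LP (LK LD1_c19 LD2_c33 LD3_c56)) :=
  Lgr Lrot169 (Lpr_gt (K27.f381315 IH) (Lpr_ct (K27.f341265 IH) (Lpe (K30.f341268 IH) (Lpe (K17.f279103 IH) (Lpe (K30.f341263 IH) (Lpr_cf (K31.f392456 IH) (Lpe (K31.f392433 IH) (Lpe (K31.f382495 IH) (Lpr_gt (f382520 IH) (Lpn (LP (LK LD1_c19 LD2_c33 LD3_c56))))))))))))
theorem f392501 : Led Lsl_bf (LP (LK LD1_c19 LD2_c46 LD3_c32)) = (LP (LK LD1_c19 LD2_c33 LD3_c56)) :=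
  Lgr Lrot165 (Lpr_gt (K50.f174188 IH) (Lpe (K50.f174162 IH) (Lpr_gt (K50.f174160 IH) (Lpe (K50.f174159 IH) (Lpr_bt (K24.f174158 IH) (Lpr_gt (K9.f174127 IH) (Lpe (K27.f174142 IH) (Lpr_ct (K27.f174192 IH) (Lpr_gt (K27.f174193 IH) (Lpr_cf (f392460 IH) (Lpn (LP (LK LD1_c19 LD2_c33 LD3_c56)))))))))))))
theorem f392503 : Led Lsl_bt (LP (LK LD1_c19 LD2_c46 LD3_c32)) = (LP (LK LD1_c19 LD2_c33 LD3_c56)) :=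
  Lgr Lrot127 (Lpr_bf (f392501 IH) (Lpn (LP (LK LD1_c19 LD2_c33 LD3_c56))))
theorem f392507 : Led Lsl_df (LP (LK LD1_c16 LD2_c41 LD3_c22)) = (LP (LK LD1_c19 LD2_c33 LD3_c56)) :=
  Lgr Lrot12 (Lpr_bt (K30.f290430 IH) (Lpr_dt (K50.f174187 IH) (Lpr_bt (f392503 IH) (Lpn (LP (LK LD1_c19 LD2_c33 LD3_c56))))))
theorem f382471 : Led Lsl_et (LP (LK LD1_c19 LD2_c32 LD3_c16)) = (LP (LK LD1_c28 LD2_c54 LD3_c56)) :=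
  Lre_e IH (LK LD1_c19 LD2_c32 LD3_c16) (LK LD1_c28 LD2_c54 LD3_c56) Lrfl Lrfl
theorem f382644 : Led Lsl_et (LP (LK LD1_c26 LD2_c39 LD3_c60)) = (LP (LK LD1_c16 LD2_c41 LD3_c20)) :=
  Lre_e IH (LK LD1_c26 LD2_c39 LD3_c60) (LK LD1_c16 LD2_c41 LD3_c20) Lrfl Lrfl
theorem f382645 : Led Lsl_ct (LP (LK LD1_c28 LD2_c54 LD3_c56)) = (LP (LK LD1_c26 LD2_c39 LD3_c60)) :=
  Lgr Lrot15 (Lpe (f382471 IH) (Lpr_cf (K27.f382636 IH) (Lpe (f382644 IH) (Lpn (LP (LK LD1_c26 LD2_c39 LD3_c60))))))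
theorem f382649 : Led Lsl_cf (LP (LK LD1_c28 LD2_c54 LD3_c56)) = (LP (LK LD1_c26 LD2_c39 LD3_c60)) :=
  Lgr Lrot11 (Lpr_ct (f382645 IH) (Lpn (LP (LK LD1_c26 LD2_c39 LD3_c60))))
theorem f382472 : Led Lsl_af (LP (LK LD1_c25 LD2_c18 LD3_c61)) = (LP (LK LD1_c28 LD2_c54 LD3_c56)) :=
  Lgr Lrot50 (Lpr_et (K17.f53923 IH) (Lpr_at (K27.f382463 IH) (Lpr_et (f382471 IH) (Lpn (LP (LK LD1_c28 LD2_c54 LD3_c56))))))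
theorem f53797 : Led Lsl_bt (LP (LK LD1_c15 LD2_c27 LD3_c21)) = (LP (LK LD1_c25 LD2_c18 LD3_c61)) :=
  Lre_b IH (LK LD1_c15 LD2_c27 LD3_c21) (LK LD1_c25 LD2_c18 LD3_c61) Lrfl Lrfl
theorem f200583 : Led Lsl_bt (LP (LK LD1_c24 LD2_c52 LD3_c45)) = (LP (LK LD1_c15 LD2_c43 LD3_c44)) :=
  Lgr Lrot127 (Lpr_bf (K17.f200579 IH) (Lpn (LP (LK LD1_c15 LD2_c43 LD3_c44))))
theorem f200596 : Led Lsl_ct (LP (LK LD1_c15 LD2_c3 LD3_c33)) = (LP (LK LD1_c24 LD2_c52 LD3_c45)) :=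
  Lre_c IH (LK LD1_c15 LD2_c3 LD3_c33) (LK LD1_c24 LD2_c52 LD3_c45) Lrfl Lrfl
theorem f200597 : Led Lsl_bt (LP (LK LD1_c24 LD2_c52 LD3_c35)) = (LP (LK LD1_c15 LD2_c3 LD3_c33)) :=
  Lre_b IH (LK LD1_c24 LD2_c52 LD3_c35) (LK LD1_c15 LD2_c3 LD3_c33) Lrfl Lrfl
theorem f290324 : Led Lsl_ct (LP (LK LD1_c25 LD2_c18 LD3_c61)) = (LP (LK LD1_c24 LD2_c52 LD3_c35)) :=
  Lgr Lrot83 (Lpe (f53797 IH) (Lpr_cf (K17.f290322 IH) (Lpe (f200583 IH) (Lpe (f200596 IH) (Lpe (f200597 IH) (Lpn (LP (LK LD1_c24 LD2_c52 LD3_c35))))))))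
theorem f382651 : Led Lsl_at (LP (LK LD1_c24 LD2_c52 LD3_c35)) = (LP (LK LD1_c26 LD2_c39 LD3_c60)) :=
  Lgr Lrot107 (Lpe (f290324 IH) (Lpr_af (f382472 IH) (Lpr_cf (f382649 IH) (Lpn (LP (LK LD1_c26 LD2_c39 LD3_c60))))))
theorem f382653 : Led Lsl_af (LP (LK LD1_c15 LD2_c3 LD3_c27)) = (LP (LK LD1_c16 LD2_c41 LD3_c20)) :=
  Lgr Lrot50 (Lpr_et (K17.f290332 IH) (Lpr_at (f382651 IH) (Lpr_et (f382644 IH) (Lpn (LP (LK LD1_c16 LD2_c41 LD3_c20))))))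
theorem f392509 : Led Lsl_ff (LP (LK LD1_c16 LD2_c41 LD3_c20)) = (LP (LK LD1_c19 LD2_c33 LD3_c56)) :=
  Lgr Lrot103 (Lpe (f382653 IH) (Lpe (K17.f290333 IH) (Lpe (K27.f53934 IH) (Lpe (K27.f221982 IH) (Lpr_df (K30.f290499 IH) (Lpe (K17.f290427 IH) (Lpe (K17.f290396 IH) (Lpe (K30.f290429 IH) (Lpr_df (f392507 IH) (Lpn (LP (LK LD1_c19 LD2_c33 LD3_c56))))))))))))
theorem f396807 : Led Lsl_ft (LP (LK LD1_c19 LD2_c39 LD3_c4)) = (LP (LK LD1_c19 LD2_c46 LD3_c32)) :=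
  Lgr Lrot75 (Lpr_bf (f396801 IH) (Lpr_ff (f392509 IH) (Lpe (f392503 IH) (Lpn (LP (LK LD1_c19 LD2_c46 LD3_c32))))))
theorem f396817 : Led Lsl_ff (LP (LK LD1_c19 LD2_c39 LD3_c4)) = (LP (LK LD1_c19 LD2_c46 LD3_c32)) :=
  Lgr Lrot3 (Lpr_ft (f396807 IH) (Lpn (LP (LK LD1_c19 LD2_c46 LD3_c32))))
theorem f382638 : Led Lsl_at (LP (LK LD1_c15 LD2_c3 LD3_c27)) = (LP (LK LD1_c16 LD2_c41 LD3_c20)) :=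
  Lgr Lrot107 (Lpe (K17.f290333 IH) (Lpr_af (K27.f382465 IH) (Lpr_cf (K27.f382636 IH) (Lpn (LP (LK LD1_c16 LD2_c41 LD3_c20))))))
theorem f318461 : Led Lsl_bt (LP (LK LD1_c19 LD2_c42 LD3_c33)) = (LP (LK LD1_c10 LD2_c54 LD3_c34)) :=
  Lre_b IH (LK LD1_c19 LD2_c42 LD3_c33) (LK LD1_c10 LD2_c54 LD3_c34) Lrfl Lrfl
theorem f396803 : Led Lsl_at (LP (LK LD1_c19 LD2_c39 LD3_c4)) = (LP (LK LD1_c19 LD2_c42 LD3_c33)) :=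
  Lgr Lrot67 (Lpr_bf (f396801 IH) (Lpe (f382638 IH) (Lpe (K20.f200603 IH) (Lpe (K20.f318455 IH) (Lpe (f318461 IH) (Lpn (LP (LK LD1_c19 LD2_c42 LD3_c33))))))))
theorem f396824 : Led Lsl_gf (LP (LK LD1_c19 LD2_c42 LD3_c33)) = (LP (LK LD1_c10 LD2_c57 LD3_c6)) :=
  Lgr Lrot76 (Lpe (f396803 IH) (Lpr_ff (f396817 IH) (Lpr_gt (K50.f174188 IH) (Lpn (LP (LK LD1_c10 LD2_c57 LD3_c6))))))
theorem f225204 : Led Lsl_dt (LP (LK LD1_c19 LD2_c42 LD3_c33)) = (LP (LK LD1_c10 LD2_c54 LD3_c32)) :=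
  Lre_d IH (LK LD1_c19 LD2_c42 LD3_c33) (LK LD1_c10 LD2_c54 LD3_c32) Lrfl Lrfl
theorem f390252 : Led Lsl_df (LP (LK LD1_c4 LD2_c31 LD3_c31)) = (LP (LK LD1_c5 LD2_c33 LD3_c6)) :=
  Lgr Lrot38 (Lpr_dt (K38.f390250 IH) (Lpn (LP (LK LD1_c5 LD2_c33 LD3_c6))))
theorem f391516 : Led Lsl_df (LP (LK LD1_c10 LD2_c57 LD3_c6)) = (LP (LK LD1_c8 LD2_c56 LD3_c11)) :=
  Lgr Lrot162 (Lpe (f174173 IH) (Lpr_gf (K52.f390181 IH) (Lpe (K52.f380725 IH) (Lpr_gf (K38.f390179 IH) (Lpe (f390252 IH) (Lpe (K30.f384940 IH) (Lpr_ct (K50.f199477 IH) (Lpe (K50.f391457 IH) (Lpr_ct (f391460 IH) (Lpn (LP (LK LD1_c8 LD2_c56 LD3_c11))))))))))))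
theorem f385072 : Led Lsl_dt (LP (LK LD1_c5 LD2_c36 LD3_c46)) = (LP (LK LD1_c11 LD2_c5 LD3_c41)) :=
  Lre_d IH (LK LD1_c5 LD2_c36 LD3_c46) (LK LD1_c11 LD2_c5 LD3_c41) Lrfl Lrfl
theorem f385073 : Led Lsl_gt (LP (LK LD1_c11 LD2_c5 LD3_c41)) = (LP (LK LD1_c19 LD2_c58 LD3_c52)) :=
  Lre_g IH (LK LD1_c11 LD2_c5 LD3_c41) (LK LD1_c19 LD2_c58 LD3_c52) Lrfl Lrfl
theorem f396826 : Led Lsl_df (LP (LK LD1_c16 LD2_c47 LD3_c38)) = (LP (LK LD1_c19 LD2_c58 LD3_c52)) :=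
  Lgr Lrot84 (Lpe (K27.f225199 IH) (Lpe (f225204 IH) (Lpr_gf (f396824 IH) (Lpr_df (f391516 IH) (Lpe (K30.f225913 IH) (Lpe (K50.f384969 IH) (Lpr_gt (K30.f226500 IH) (Lpr_dt (f385072 IH) (Lpr_gt (f385073 IH) (Lpn (LP (LK LD1_c19 LD2_c58 LD3_c52))))))))))))
theorem f380729 : Led Lsl_dt (LP (LK LD1_c10 LD2_c57 LD3_c36)) = (LP (LK LD1_c19 LD2_c47 LD3_c30)) :=
  Lre_d IH (LK LD1_c10 LD2_c57 LD3_c36) (LK LD1_c19 LD2_c47 LD3_c30) Lrfl Lrfl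
theorem f396834 : Led Lsl_at (LP (LK LD1_c19 LD2_c47 LD3_c30)) = (LP (LK LD1_c19 LD2_c58 LD3_c52)) :=
  Lgr Lrot51 (Lpe (f380729 IH) (Lpe (K27.f380820 IH) (Lpr_df (f396826 IH) (Lpn (LP (LK LD1_c19 LD2_c58 LD3_c52))))))
theorem f388282 : Led Lsl_gt (LP (LK LD1_c19 LD2_c58 LD3_c53)) = (LP (LK LD1_c11 LD2_c5 LD3_c41)) :=
  Lre_g IH (LK LD1_c19 LD2_c58 LD3_c53) (LK LD1_c11 LD2_c5 LD3_c41) Lrfl Lrfl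
theorem f396846 : Led Lsl_ff (LP (LK LD1_c19 LD2_c47 LD3_c30)) = (LP (LK LD1_c19 LD2_c58 LD3_c53)) :=
  Lgr Lrot52 (Lpr_at (f396834 IH) (Lpe (f385073 IH) (Lpe (f388282 IH) (Lpn (LP (LK LD1_c19 LD2_c58 LD3_c53))))))
theorem f380728 : Led Lsl_dt (LP (LK LD1_c19 LD2_c47 LD3_c30)) = (LP (LK LD1_c10 LD2_c57 LD3_c36)) :=
  Lre_d IH (LK LD1_c19 LD2_c47 LD3_c30) (LK LD1_c10 LD2_c57 LD3_c36) Lrfl Lrfl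
theorem f396848 : Led Lsl_dt (LP (LK LD1_c16 LD2_c47 LD3_c39)) = (LP (LK LD1_c19 LD2_c58 LD3_c53)) :=
  Lgr Lrot60 (Lpr_ff (K27.f380831 IH) (Lpe (f380728 IH) (Lpr_ff (f396846 IH) (Lpn (LP (LK LD1_c19 LD2_c58 LD3_c53))))))
theorem f388281 : Led Lsl_dt (LP (LK LD1_c11 LD2_c5 LD3_c41)) = (LP (LK LD1_c5 LD2_c36 LD3_c46)) :=
  Lre_d IH (LK LD1_c11 LD2_c5 LD3_c41) (LK LD1_c5 LD2_c36 LD3_c46) Lrfl Lrfl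
theorem f178066 : Led Lsl_dt (LP (LK LD1_c5 LD2_c36 LD3_c47)) = (LP (LK LD1_c2 LD2_c44 LD3_c14)) :=
  Lre_d IH (LK LD1_c5 LD2_c36 LD3_c47) (LK LD1_c2 LD2_c44 LD3_c14) Lrfl Lrfl
theorem f396862 : Led Lsl_gf (LP (LK LD1_c16 LD2_c47 LD3_c39)) = (LP (LK LD1_c8 LD2_c58 LD3_c38)) :=
  Lgr Lrot144 (Lpr_dt (f396848 IH) (Lpr_gt (f388282 IH) (Lpr_dt (f388281 IH) (Lpe (K31.f178065 IH) (Lpe (f178066 IH) (Lpe (K52.f388261 IH) (Lpe (K24.f225212 IH) (Lpe (K41.f225192 IH) (Lpe (K41.f388283 IH) (Lpn (LP (LK LD1_c8 LD2_c58 LD3_c38))))))))))))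
theorem f716933 : Led Lsl_at (LP (LK LD1_c5 LD2_c32 LD3_c59)) = (LP (LK LD1_c8 LD2_c58 LD3_c36)) :=
  Lgr Lrot26 (Lpr_ff (f716894 IH) (Lpe (f396862 IH) (Lpr_gt (K27.f225234 IH) (Lpn (LP (LK LD1_c8 LD2_c58 LD3_c36))))))
theorem f387510 : Led Lsl_dt (LP (LK LD1_c10 LD2_c57 LD3_c45)) = (LP (LK LD1_c5 LD2_c32 LD3_c59)) :=
  Lre_d IH (LK LD1_c10 LD2_c57 LD3_c45) (LK LD1_c5 LD2_c32 LD3_c59) Lrfl Lrfl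
theorem f225213 : Led Lsl_dt (LP (LK LD1_c8 LD2_c58 LD3_c36)) = (LP (LK LD1_c16 LD2_c47 LD3_c41)) :=
  Lre_d IH (LK LD1_c8 LD2_c58 LD3_c36) (LK LD1_c16 LD2_c47 LD3_c41) Lrfl Lrfl
theorem f716937 : Led Lsl_af (LP (LK LD1_c10 LD2_c57 LD3_c45)) = (LP (LK LD1_c16 LD2_c47 LD3_c41)) :=
  Lgr Lrot117 (Lpr_dt (f387510 IH) (Lpr_at (f716933 IH) (Lpr_dt (f225213 IH) (Lpn (LP (LK LD1_c16 LD2_c47 LD3_c41))))))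
theorem f417813 : Led Lsl_df (LP (LK LD1_c4 LD2_c29 LD3_c33)) = (LP (LK LD1_c8 LD2_c56 LD3_c18)) :=
  Lgr Lrot38 (Lpr_dt (f417806 IH) (Lpn (LP (LK LD1_c8 LD2_c56 LD3_c18))))
theorem f402653 : Led Lsl_bt (LP (LK LD1_c4 LD2_c29 LD3_c33)) = (LP (LK LD1_c8 LD2_c57 LD3_c19)) :=
  Lre_b IH (LK LD1_c4 LD2_c29 LD3_c33) (LK LD1_c8 LD2_c57 LD3_c19) Lrfl Lrfl
theorem f417817 : Led Lsl_dt (LP (LK LD1_c8 LD2_c57 LD3_c19)) = (LP (LK LD1_c16 LD2_c43 LD3_c52)) :=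
  Lgr Lrot79 (Lpe (f402653 IH) (Lpr_df (f417813 IH) (Lpe (K30.f173413 IH) (Lpn (LP (LK LD1_c16 LD2_c43 LD3_c52))))))
theorem f290486 : Led Lsl_gt (LP (LK LD1_c16 LD2_c41 LD3_c19)) = (LP (LK LD1_c8 LD2_c57 LD3_c19)) :=
  Lre_g IH (LK LD1_c16 LD2_c41 LD3_c19) (LK LD1_c8 LD2_c57 LD3_c19) Lrfl Lrfl
theorem f380813 : Led Lsl_dt (LP (LK LD1_c5 LD2_c32 LD3_c56)) = (LP (LK LD1_c10 LD2_c57 LD3_c38)) :=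
  Lre_d IH (LK LD1_c5 LD2_c32 LD3_c56) (LK LD1_c10 LD2_c57 LD3_c38) Lrfl Lrfl
theorem f380814 : Led Lsl_gt (LP (LK LD1_c10 LD2_c57 LD3_c38)) = (LP (LK LD1_c19 LD2_c47 LD3_c35)) :=
  Lre_g IH (LK LD1_c10 LD2_c57 LD3_c38) (LK LD1_c19 LD2_c47 LD3_c35) Lrfl Lrfl
theorem f417819 : Led Lsl_dt (LP (LK LD1_c19 LD2_c47 LD3_c35)) = (LP (LK LD1_c11 LD2_c5 LD3_c38)) :=
  Lgr Lrot105 (Lpe (f380814 IH) (Lpe (f380813 IH) (Lpe (K27.f380727 IH) (Lpe (K27.f380797 IH) (Lpr_gt (f290486 IH) (Lpr_dt (f417817 IH) (Lpe (f384716 IH) (Lpr_dt (K30.f384689 IH) (Lpe (K30.f178946 IH) (Lpn (LP (LK LD1_c11 LD2_c5 LD3_c38))))))))))))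
theorem f226601 : Led Lsl_ct (LP (LK LD1_c11 LD2_c3 LD3_c48)) = (LP (LK LD1_c5 LD2_c35 LD3_c47)) :=
  Lre_c IH (LK LD1_c11 LD2_c3 LD3_c48) (LK LD1_c5 LD2_c35 LD3_c47) Lrfl Lrfl
theorem f346075 : Led Lsl_ct (LP (LK LD1_c2 LD2_c42 LD3_c41)) = (LP (LK LD1_c5 LD2_c32 LD3_c59)) :=
  Lre_c IH (LK LD1_c2 LD2_c42 LD3_c41) (LK LD1_c5 LD2_c32 LD3_c59) Lrfl Lrfl
theorem f387504 : Led Lsl_dt (LP (LK LD1_c5 LD2_c32 LD3_c59)) = (LP (LK LD1_c10 LD2_c57 LD3_c45)) :=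
  Lre_d IH (LK LD1_c5 LD2_c32 LD3_c59) (LK LD1_c10 LD2_c57 LD3_c45) Lrfl Lrfl
theorem f387506 : Led Lsl_ct (LP (LK LD1_c19 LD2_c47 LD3_c49)) = (LP (LK LD1_c10 LD2_c57 LD3_c45)) :=
  Lre_c IH (LK LD1_c19 LD2_c47 LD3_c49) (LK LD1_c10 LD2_c57 LD3_c45) Lrfl Lrfl
theorem f399957 : Led Lsl_gf (LP (LK LD1_c19 LD2_c47 LD3_c49)) = (LP (LK LD1_c20 LD2_c6 LD3_c30)) :=
  Lgr Lrot104 (Lpr_ct (f387506 IH) (Lpe (f387504 IH) (Lpe (f346075 IH) (Lpe (K50.f394048 IH) (Lpe (K38.f379824 IH) (Lpr_gf (K50.f387831 IH) (Lpe (K40.f387547 IH) (Lpr_gt (K40.f399895 IH) (Lpe (K40.f380552 IH) (Lpn (LP (LK LD1_c20 LD2_c6 LD3_c30))))))))))))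
theorem f399960 : Led Lsl_gt (LP (LK LD1_c19 LD2_c47 LD3_c49)) = (LP (LK LD1_c11 LD2_c3 LD3_c48)) :=
  Lgr Lrot46 (Lpr_gf (f399957 IH) (Lpr_ft (K40.f380548 IH) (Lpr_at (K40.f313053 IH) (Lpn (LP (LK LD1_c11 LD2_c3 LD3_c48))))))
theorem f387505 : Led Lsl_ct (LP (LK LD1_c10 LD2_c57 LD3_c45)) = (LP (LK LD1_c19 LD2_c47 LD3_c49)) :=
  Lre_c IH (LK LD1_c10 LD2_c57 LD3_c45) (LK LD1_c19 LD2_c47 LD3_c49) Lrfl Lrfl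
theorem f417830 : Led Lsl_gt (LP (LK LD1_c19 LD2_c47 LD3_c35)) = (LP (LK LD1_c10 LD2_c57 LD3_c45)) :=
  Lgr Lrot146 (Lpr_dt (f417819 IH) (Lpr_gt (K40.f385053 IH) (Lpr_ct (K40.f226606 IH) (Lpr_gt (K40.f226604 IH) (Lpr_ct (K30.f226560 IH) (Lpr_dt (K40.f226577 IH) (Lpe (f226601 IH) (Lpe (f399960 IH) (Lpe (f387505 IH) (Lpn (LP (LK LD1_c10 LD2_c57 LD3_c45))))))))))))
theorem f716943 : Led Lsl_ft (LP (LK LD1_c10 LD2_c57 LD3_c38)) = (LP (LK LD1_c16 LD2_c47 LD3_c41)) :=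
  Lgr Lrot2 (Lpr_gt (f380814 IH) (Lpr_gt (f417830 IH) (Lpr_af (f716937 IH) (Lpn (LP (LK LD1_c16 LD2_c47 LD3_c41))))))
theorem f716949 : Led Lsl_ff (LP (LK LD1_c10 LD2_c57 LD3_c38)) = (LP (LK LD1_c16 LD2_c47 LD3_c41)) :=
  Lgr Lrot3 (Lpr_ft (f716943 IH) (Lpn (LP (LK LD1_c16 LD2_c47 LD3_c41))))
theorem f716951 : Led Lsl_ft (LP (LK LD1_c5 LD2_c32 LD3_c56)) = (LP (LK LD1_c8 LD2_c58 LD3_c36)) :=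
  Lgr Lrot54 (Lpe (K40.f380795 IH) (Lpr_ff (f716949 IH) (Lpe (f225213 IH) (Lpn (LP (LK LD1_c8 LD2_c58 LD3_c36))))))
theorem f716935 : Led Lsl_af (LP (LK LD1_c5 LD2_c32 LD3_c59)) = (LP (LK LD1_c8 LD2_c58 LD3_c36)) :=
  Lgr Lrot0 (Lpr_at (f716933 IH) (Lpn (LP (LK LD1_c8 LD2_c58 LD3_c36))))
theorem f716931 : Led Lsl_ft (LP (LK LD1_c5 LD2_c32 LD3_c59)) = (LP (LK LD1_c8 LD2_c58 LD3_c38)) :=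
  Lgr Lrot48 (Lpr_ff (f716894 IH) (Lpn (LP (LK LD1_c8 LD2_c58 LD3_c38))))
theorem f716953 : Led Lsl_af (LP (LK LD1_c5 LD2_c32 LD3_c56)) = (LP (LK LD1_c8 LD2_c58 LD3_c38)) :=
  Lgr Lrot45 (Lpr_ft (f716951 IH) (Lpe (f716935 IH) (Lpr_ft (f716931 IH) (Lpn (LP (LK LD1_c8 LD2_c58 LD3_c38))))))
theorem f389430 : Led Lsl_dt (LP (LK LD1_c16 LD2_c47 LD3_c45)) = (LP (LK LD1_c8 LD2_c58 LD3_c38)) :=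
  Lre_d IH (LK LD1_c16 LD2_c47 LD3_c45) (LK LD1_c8 LD2_c58 LD3_c38) Lrfl Lrfl
theorem f717049 : Led Lsl_at (LP (LK LD1_c10 LD2_c57 LD3_c38)) = (LP (LK LD1_c16 LD2_c47 LD3_c45)) :=
  Lgr Lrot51 (Lpe (f380813 IH) (Lpr_af (f716953 IH) (Lpe (f389430 IH) (Lpn (LP (LK LD1_c16 LD2_c47 LD3_c45))))))
theorem f225211 : Led Lsl_gt (LP (LK LD1_c16 LD2_c47 LD3_c41)) = (LP (LK LD1_c26 LD2_c45 LD3_c54)) :=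
  Lre_g IH (LK LD1_c16 LD2_c47 LD3_c41) (LK LD1_c26 LD2_c45 LD3_c54) Lrfl Lrfl
theorem f717057 : Led Lsl_gt (LP (LK LD1_c26 LD2_c45 LD3_c54)) = (LP (LK LD1_c16 LD2_c47 LD3_c45)) :=
  Lgr Lrot46 (Lpe (f225211 IH) (Lpe (f716949 IH) (Lpr_at (f717049 IH) (Lpn (LP (LK LD1_c16 LD2_c47 LD3_c45))))))
theorem f384712 : Led Lsl_gf (LP (LK LD1_c9 LD2_c46 LD3_c28)) = (LP (LK LD1_c10 LD2_c52 LD3_c37)) :=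
  Lgr Lrot76 (Lpe (K30.f384249 IH) (Lpr_ff (K50.f384708 IH) (Lpe (K30.f226582 IH) (Lpn (LP (LK LD1_c10 LD2_c52 LD3_c37))))))
theorem f399856 : Led Lsl_dt (LP (LK LD1_c26 LD2_c45 LD3_c54)) = (LP (LK LD1_c16 LD2_c50 LD3_c54)) :=
  Lgr Lrot105 (Lpe (f225211 IH) (Lpe (f225213 IH) (Lpe (K27.f225234 IH) (Lpr_cf (K30.f380829 IH) (Lpr_gt (K30.f174186 IH) (Lpr_dt (K40.f399847 IH) (Lpe (f384712 IH) (Lpe (K30.f384236 IH) (Lpr_cf (K30.f384978 IH) (Lpn (LP (LK LD1_c16 LD2_c50 LD3_c54))))))))))))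
theorem f399860 : Led Lsl_df (LP (LK LD1_c26 LD2_c45 LD3_c54)) = (LP (LK LD1_c16 LD2_c50 LD3_c54)) :=
  Lgr Lrot38 (Lpr_dt (f399856 IH) (Lpn (LP (LK LD1_c16 LD2_c50 LD3_c54))))
theorem f698124 : Led Lsl_ft (LP (LK LD1_c5 LD2_c34 LD3_c37)) = K50.v12774 :=
  Lgr Lrot48 (Lpr_ff (K50.f698120 IH) (Lpn K50.v12774))
theorem f698117 : Led Lsl_af (LP (LK LD1_c4 LD2_c30 LD3_c37)) = K50.v12774 :=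
  Lgr Lrot0 (Lpr_at (K50.f698116 IH) (Lpn K50.v12774))
def v12773 : LQ := Led Lsl_gf (LP (LK LD1_c4 LD2_c30 LD3_c37))
theorem f698115 : Led Lsl_gf (LP (LK LD1_c4 LD2_c30 LD3_c37)) = v12773 :=
  Lrfl
theorem f698130 : Led Lsl_gt (LP (LK LD1_c5 LD2_c34 LD3_c37)) = v12773 :=
  Lgr Lrot5 (Lpr_ft (f698124 IH) (Lpe (f698117 IH) (Lpr_gf (f698115 IH) (Lpn v12773))))
theorem f389424 : Led Lsl_dt (LP (LK LD1_c8 LD2_c58 LD3_c39)) = (LP (LK LD1_c4 LD2_c30 LD3_c13)) :=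
  Lre_d IH (LK LD1_c8 LD2_c58 LD3_c39) (LK LD1_c4 LD2_c30 LD3_c13) Lrfl Lrfl
theorem f717063 : v12773 = (LP (LK LD1_c8 LD2_c58 LD3_c39)) :=
  (Llr Lrot49 (Lpe (f698130 IH) (Lpr_df (K30.f226615 IH) (Lpr_gf (K30.f384940 IH) (Lpe (K30.f235846 IH) (Lpr_gt (K30.f332048 IH) (Lpe (f399860 IH) (Lpr_gt (f717057 IH) (Lpr_dt (f389430 IH) (Lpe (f388280 IH) (Lpe (f389424 IH) (Lpn (LP (LK LD1_c8 LD2_c58 LD3_c39)))))))))))))).symm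
def v12772 : LQ := Led Lsl_gt (LP (LK LD1_c4 LD2_c30 LD3_c37))
theorem f698113 : Led Lsl_gt (LP (LK LD1_c4 LD2_c30 LD3_c37)) = v12772 :=
  Lrfl
theorem f717066 : Led Lsl_at (LP (LK LD1_c5 LD2_c32 LD3_c60)) = v12772 :=
  Lgr Lrot26 (Lpr_ff (f716896 IH) (Lpq (f717063 IH) (Lpe (f698115 IH) (Lpr_gt (f698113 IH) (Lpn v12772)))))
theorem f379806 : Led Lsl_dt (LP (LK LD1_c8 LD2_c58 LD3_c37)) = (LP (LK LD1_c4 LD2_c30 LD3_c12)) :=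
  Lre_d IH (LK LD1_c8 LD2_c58 LD3_c37) (LK LD1_c4 LD2_c30 LD3_c12) Lrfl Lrfl
theorem f717069 : (LP (LK LD1_c8 LD2_c58 LD3_c37)) = v12772 :=
  (Llr Lrot18 (Lpr_dt (f379806 IH) (Lpq (f716881 IH) (Lpe (f638496 IH) (Lpr_dt (K50.f387507 IH) (Lpr_at (f717066 IH) (Lpn v12772))))))).symm
theorem f225178 : Led Lsl_bt (LP (LK LD1_c2 LD2_c12 LD3_c16)) = (LP (LK LD1_c4 LD2_c30 LD3_c37)) :=
  Lre_b IH (LK LD1_c2 LD2_c12 LD3_c16) (LK LD1_c4 LD2_c30 LD3_c37) Lrfl Lrfl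
theorem f354350 : Led Lsl_ff (LP (LK LD1_c2 LD2_c43 LD3_c14)) = (LP (LK LD1_c4 LD2_c30 LD3_c37)) :=
  Lgr Lrot25 (Lpr_bt (K30.f44742 IH) (Lpr_ft (K30.f354347 IH) (Lpr_bt (f225178 IH) (Lpn (LP (LK LD1_c4 LD2_c30 LD3_c37))))))
theorem f698114 : Led Lsl_gf (LP (LK LD1_c5 LD2_c34 LD3_c37)) = v12772 :=
  Lgr Lrot76 (Lpe (K30.f226597 IH) (Lpr_ff (f354350 IH) (Lpr_gt (f698113 IH) (Lpn v12772))))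
theorem f226619 : Led Lsl_dt (LP (LK LD1_c11 LD2_c3 LD3_c47)) = (LP (LK LD1_c5 LD2_c35 LD3_c46)) :=
  Lre_d IH (LK LD1_c11 LD2_c3 LD3_c47) (LK LD1_c5 LD2_c35 LD3_c46) Lrfl Lrfl
theorem f717107 : Led Lsl_gt (LP (LK LD1_c16 LD2_c47 LD3_c53)) = (LP (LK LD1_c11 LD2_c3 LD3_c47)) :=
  Lgr Lrot49 (Lpe (f311620 IH) (Lpe (f235198 IH) (Lpe (f332303 IH) (Lpr_gt (K24.f225193 IH) (Lpr_dt (f267619 IH) (Lpqs (f717069 IH) (Lpe (f698114 IH) (Lpr_dt (K30.f226599 IH) (Lpe (K19.f199440 IH) (Lpe (f226619 IH) (Lpn (LP (LK LD1_c11 LD2_c3 LD3_c47)))))))))))))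
theorem f717111 : Led Lsl_gf (LP (LK LD1_c16 LD2_c47 LD3_c53)) = (LP (LK LD1_c9 LD2_c0 LD3_c50)) :=
  Lgr Lrot47 (Lpr_gt (f717107 IH) (Lpe (K40.f313042 IH) (Lpr_ff (K19.f313028 IH) (Lpn (LP (LK LD1_c9 LD2_c0 LD3_c50))))))
theorem f393927 : Led Lsl_dt (LP (LK LD1_c16 LD2_c47 LD3_c53)) = (LP (LK LD1_c8 LD2_c58 LD3_c44)) :=
  Lre_d IH (LK LD1_c16 LD2_c47 LD3_c53) (LK LD1_c8 LD2_c58 LD3_c44) Lrfl Lrfl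
theorem f731827 : Led Lsl_cf (LP (LK LD1_c10 LD2_c56 LD3_c54)) = (LP (LK LD1_c8 LD2_c58 LD3_c44)) :=
  Lgr Lrot14 (Lpr_df (K40.f399852 IH) (Lpr_gf (f731821 IH) (Lpr_df (f384657 IH) (Lpr_gf (f384737 IH) (Lpr_ct (K30.f276227 IH) (Lpr_gt (K30.f235855 IH) (Lpr_dt (K19.f313019 IH) (Lpe (f717111 IH) (Lpr_dt (f393927 IH) (Lpn (LP (LK LD1_c8 LD2_c58 LD3_c44))))))))))))
theorem f731857 : Led Lsl_ft (LP (LK LD1_c5 LD2_c33 LD3_c2)) = (LP (LK LD1_c8 LD2_c58 LD3_c44)) :=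
  Lgr Lrot4 (Lpe (K40.f218375 IH) (Lpr_ff (K40.f387543 IH) (Lpr_cf (f731827 IH) (Lpn (LP (LK LD1_c8 LD2_c58 LD3_c44))))))
theorem f731869 : Led Lsl_af (LP (LK LD1_c5 LD2_c33 LD3_c3)) = (LP (LK LD1_c8 LD2_c58 LD3_c44)) :=
  Lgr Lrot31 (Lpe (K24.f379845 IH) (Lpr_gf (K50.f387831 IH) (Lpr_ft (f731857 IH) (Lpn (LP (LK LD1_c8 LD2_c58 LD3_c44))))))
theorem f731871 : Led Lsl_at (LP (LK LD1_c10 LD2_c57 LD3_c60)) = (LP (LK LD1_c16 LD2_c47 LD3_c53)) :=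
  Lgr Lrot51 (Lpe (K40.f379847 IH) (Lpr_af (f731869 IH) (Lpe (f393927 IH) (Lpn (LP (LK LD1_c16 LD2_c47 LD3_c53))))))
theorem f731873 : Led Lsl_af (LP (LK LD1_c10 LD2_c57 LD3_c60)) = (LP (LK LD1_c16 LD2_c47 LD3_c53)) :=
  Lgr Lrot0 (Lpr_at (f731871 IH) (Lpn (LP (LK LD1_c16 LD2_c47 LD3_c53))))
theorem f731881 : Led Lsl_ft (LP (LK LD1_c10 LD2_c57 LD3_c57)) = (LP (LK LD1_c16 LD2_c47 LD3_c53)) :=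
  Lgr Lrot2 (Lpr_gt (K40.f399895 IH) (Lpe (K40.f399834 IH) (Lpr_af (f731873 IH) (Lpn (LP (LK LD1_c16 LD2_c47 LD3_c53))))))
theorem f399897 : Led Lsl_bt (LP (LK LD1_c19 LD2_c18 LD3_c43)) = (LP (LK LD1_c10 LD2_c57 LD3_c57)) :=
  Lre_b IH (LK LD1_c19 LD2_c18 LD3_c43) (LK LD1_c10 LD2_c57 LD3_c57) Lrfl Lrfl
theorem f731875 : Led Lsl_bt (LP (LK LD1_c16 LD2_c47 LD3_c53)) = (LP (LK LD1_c26 LD2_c46 LD3_c1)) :=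
  Lre_b IH (LK LD1_c16 LD2_c47 LD3_c53) (LK LD1_c26 LD2_c46 LD3_c1) Lrfl Lrfl
theorem f731883 : Led Lsl_ff (LP (LK LD1_c19 LD2_c18 LD3_c43)) = (LP (LK LD1_c26 LD2_c46 LD3_c1)) :=
  Lgr Lrot25 (Lpr_bt (f399897 IH) (Lpr_ft (f731881 IH) (Lpr_bt (f731875 IH) (Lpn (LP (LK LD1_c26 LD2_c46 LD3_c1))))))
theorem f218444 : Led Lsl_dt (LP (LK LD1_c19 LD2_c18 LD3_c43)) = (LP (LK LD1_c10 LD2_c39 LD3_c53)) :=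
  Lre_d IH (LK LD1_c19 LD2_c18 LD3_c43) (LK LD1_c10 LD2_c39 LD3_c53) Lrfl Lrfl
theorem f235207 : Led Lsl_dt (LP (LK LD1_c16 LD2_c47 LD3_c52)) = (LP (LK LD1_c26 LD2_c46 LD3_c1)) :=
  Lre_d IH (LK LD1_c16 LD2_c47 LD3_c52) (LK LD1_c26 LD2_c46 LD3_c1) Lrfl Lrfl
theorem f731885 : Led Lsl_ft (LP (LK LD1_c10 LD2_c39 LD3_c53)) = (LP (LK LD1_c16 LD2_c47 LD3_c52)) :=
  Lgr Lrot54 (Lpe (f218444 IH) (Lpr_ff (f731883 IH) (Lpe (f235207 IH) (Lpn (LP (LK LD1_c16 LD2_c47 LD3_c52))))))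
theorem f218436 : Led Lsl_ct (LP (LK LD1_c5 LD2_c24 LD3_c37)) = (LP (LK LD1_c10 LD2_c39 LD3_c53)) :=
  Lre_c IH (LK LD1_c5 LD2_c24 LD3_c37) (LK LD1_c10 LD2_c39 LD3_c53) Lrfl Lrfl
def v14762 : LQ := Led Lsl_at (LP (LK LD1_c5 LD2_c24 LD3_c36))
theorem f726503 : Led Lsl_at (LP (LK LD1_c5 LD2_c24 LD3_c36)) = v14762 :=
  Lrfl
theorem f726504 : Led Lsl_af (LP (LK LD1_c5 LD2_c24 LD3_c36)) = v14762 :=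
  Lgr Lrot0 (Lpr_at (f726503 IH) (Lpn v14762))
theorem f213027 : Led Lsl_gt (LP (LK LD1_c2 LD2_c38 LD3_c51)) = (LP (LK LD1_c5 LD2_c24 LD3_c36)) :=
  Lre_g IH (LK LD1_c2 LD2_c38 LD3_c51) (LK LD1_c5 LD2_c24 LD3_c36) Lrfl Lrfl
theorem f726508 : Led Lsl_ft (LP (LK LD1_c5 LD2_c24 LD3_c37)) = v14762 :=
  Lgr Lrot2 (Lpr_gt (K20.f213004 IH) (Lpr_gt (f213027 IH) (Lpr_af (f726504 IH) (Lpn v14762))))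
theorem f726509 : Led Lsl_ff (LP (LK LD1_c5 LD2_c24 LD3_c37)) = v14762 :=
  Lgr Lrot3 (Lpr_ft (f726508 IH) (Lpn v14762))
theorem f225179 : Led Lsl_bt (LP (LK LD1_c2 LD2_c12 LD3_c7)) = (LP (LK LD1_c1 LD2_c2 LD3_c61)) :=
  Lre_b IH (LK LD1_c2 LD2_c12 LD3_c7) (LK LD1_c1 LD2_c2 LD3_c61) Lrfl Lrfl
theorem f225181 : Led Lsl_bt (LP (LK LD1_c2 LD2_c25 LD3_c50)) = (LP (LK LD1_c4 LD2_c30 LD3_c15)) :=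
  Lgr Lrot128 (Lpe (K13.f41083 IH) (Lpe (K13.f168965 IH) (Lpr_cf (K12.f225172 IH) (Lpe (f225179 IH) (Lpe (K38.f225180 IH) (Lpn (LP (LK LD1_c4 LD2_c30 LD3_c15))))))))
theorem f235199 : Led Lsl_bt (LP (LK LD1_c16 LD2_c47 LD3_c52)) = (LP (LK LD1_c8 LD2_c58 LD3_c44)) :=
  Lre_b IH (LK LD1_c16 LD2_c47 LD3_c52) (LK LD1_c8 LD2_c58 LD3_c44) Lrfl Lrfl
theorem f224793 : Led Lsl_gt (LP (LK LD1_c10 LD2_c31 LD3_c32)) = (LP (LK LD1_c5 LD2_c20 LD3_c44)) :=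
  Lre_g IH (LK LD1_c10 LD2_c31 LD3_c32) (LK LD1_c5 LD2_c20 LD3_c44) Lrfl Lrfl
theorem f235200 : Led Lsl_ct (LP (LK LD1_c16 LD2_c47 LD3_c52)) = (LP (LK LD1_c10 LD2_c31 LD3_c32)) :=
  Lgr Lrot64 (Lpr_bt (f235199 IH) (Lpe (f235198 IH) (Lpe (f225181 IH) (Lpr_ct (K19.f168967 IH) (Lpe (K13.f235107 IH) (Lpe (K13.f212662 IH) (Lpe (K17.f212937 IH) (Lpe (K22.f212940 IH) (Lpr_ct (K22.f235133 IH) (Lpe (f224793 IH) (Lpn (LP (LK LD1_c10 LD2_c31 LD3_c32)))))))))))))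
theorem f731889 : v14762 = (LP (LK LD1_c10 LD2_c31 LD3_c32)) :=
  (Llr Lrot23 (Lpe (f726509 IH) (Lpr_ct (f218436 IH) (Lpr_ft (f731885 IH) (Lpr_ct (f235200 IH) (Lpn (LP (LK LD1_c10 LD2_c31 LD3_c32)))))))).symm
theorem f218431 : Led Lsl_bt (LP (LK LD1_c5 LD2_c24 LD3_c37)) = (LP (LK LD1_c10 LD2_c39 LD3_c52)) :=
  Lre_b IH (LK LD1_c5 LD2_c24 LD3_c37) (LK LD1_c10 LD2_c39 LD3_c52) Lrfl Lrfl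
theorem f218432 : Led Lsl_dt (LP (LK LD1_c10 LD2_c37 LD3_c58)) = (LP (LK LD1_c5 LD2_c24 LD3_c37)) :=
  Lgr Lrot79 (Lpe (K31.f218409 IH) (Lpr_df (K31.f218423 IH) (Lpe (f218431 IH) (Lpn (LP (LK LD1_c5 LD2_c24 LD3_c37))))))
theorem f384842 : Led Lsl_dt (LP (LK LD1_c28 LD2_c45 LD3_c48)) = (LP (LK LD1_c19 LD2_c21 LD3_c6)) :=
  Lre_d IH (LK LD1_c28 LD2_c45 LD3_c48) (LK LD1_c19 LD2_c21 LD3_c6) Lrfl Lrfl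
theorem f391717 : Led Lsl_gt (LP (LK LD1_c26 LD2_c51 LD3_c21)) = (LP (LK LD1_c28 LD2_c45 LD3_c48)) :=
  Lgr Lrot94 (Lpe (K42.f391716 IH) (Lpr_gt (K42.f391710 IH) (Lpr_dt (K30.f226338 IH) (Lpr_gt (K22.f226334 IH) (Lpr_dt (K30.f226240 IH) (Lpe (K31.f226272 IH) (Lpe (K31.f226271 IH) (Lpe (K31.f384843 IH) (Lpe (f384842 IH) (Lpn (LP (LK LD1_c28 LD2_c45 LD3_c48))))))))))))
theorem f277335 : Led Lsl_ct (LP (LK LD1_c19 LD2_c50 LD3_c47)) = (LP (LK LD1_c10 LD2_c59 LD3_c57)) :=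
  Lre_c IH (LK LD1_c19 LD2_c50 LD3_c47) (LK LD1_c10 LD2_c59 LD3_c57) Lrfl Lrfl
theorem f391820 : Led Lsl_gf (LP (LK LD1_c19 LD2_c21 LD3_c29)) = (LP (LK LD1_c19 LD2_c50 LD3_c47)) :=
  Lgr Lrot144 (Lpr_dt (K42.f391817 IH) (Lpr_gt (f391717 IH) (Lpr_dt (f384842 IH) (Lpr_cf (K31.f384840 IH) (Lpe (K31.f277334 IH) (Lpe (K31.f267737 IH) (Lpr_df (K30.f277319 IH) (Lpe (K30.f226383 IH) (Lpe (f277335 IH) (Lpn (LP (LK LD1_c19 LD2_c50 LD3_c47))))))))))))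
theorem f392038 : Led Lsl_gf (LP (LK LD1_c19 LD2_c50 LD3_c47)) = (LP (LK LD1_c19 LD2_c21 LD3_c32)) :=
  Lgr Lrot47 (Lpe (f391820 IH) (Lpe (K42.f391853 IH) (Lpr_ff (K42.f392025 IH) (Lpn (LP (LK LD1_c19 LD2_c21 LD3_c32))))))
theorem f226355 : Led Lsl_dt (LP (LK LD1_c10 LD2_c59 LD3_c57)) = (LP (LK LD1_c5 LD2_c33 LD3_c57)) :=
  Lre_d IH (LK LD1_c10 LD2_c59 LD3_c57) (LK LD1_c5 LD2_c33 LD3_c57) Lrfl Lrfl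
theorem f386545 : Led Lsl_dt (LP (LK LD1_c11 LD2_c0 LD3_c1)) = (LP (LK LD1_c16 LD2_c43 LD3_c48)) :=
  Lgr Lrot42 (Lpr_df (K31.f386541 IH) (Lpn (LP (LK LD1_c16 LD2_c43 LD3_c48))))
theorem f226354 : Led Lsl_gt (LP (LK LD1_c5 LD2_c33 LD3_c57)) = (LP (LK LD1_c2 LD2_c43 LD3_c0)) :=
  Lre_g IH (LK LD1_c5 LD2_c33 LD3_c57) (LK LD1_c2 LD2_c43 LD3_c0) Lrfl Lrfl
theorem f387689 : Led Lsl_ct (LP (LK LD1_c9 LD2_c44 LD3_c2)) = (LP (LK LD1_c5 LD2_c33 LD3_c57)) :=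
  Lgr Lrot8 (Lpr_gt (f332291 IH) (Lpr_dt (K31.f332346 IH) (Lpr_gt (K31.f387685 IH) (Lpe (K30.f226207 IH) (Lpe (K30.f225401 IH) (Lpe (f386545 IH) (Lpe (K31.f246529 IH) (Lpe (K30.f226304 IH) (Lpe (f226354 IH) (Lpn (LP (LK LD1_c5 LD2_c33 LD3_c57))))))))))))
theorem f332301 : Led Lsl_dt (LP (LK LD1_c2 LD2_c39 LD3_c9)) = (LP (LK LD1_c5 LD2_c25 LD3_c27)) :=
  Lre_d IH (LK LD1_c2 LD2_c39 LD3_c9) (LK LD1_c5 LD2_c25 LD3_c27) Lrfl Lrfl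
theorem f392040 : Led Lsl_gf (LP (LK LD1_c9 LD2_c44 LD3_c2)) = (LP (LK LD1_c10 LD2_c41 LD3_c23)) :=
  Lgr Lrot104 (Lpr_ct (f387689 IH) (Lpe (f226355 IH) (Lpe (f277335 IH) (Lpr_gf (f392038 IH) (Lpe (K42.f224670 IH) (Lpe (K42.f224664 IH) (Lpe (f332301 IH) (Lpe (K31.f332299 IH) (Lpr_ct (K31.f332321 IH) (Lpn (LP (LK LD1_c10 LD2_c41 LD3_c23))))))))))))
theorem f387691 : Led Lsl_cf (LP (LK LD1_c9 LD2_c44 LD3_c2)) = (LP (LK LD1_c5 LD2_c33 LD3_c57)) :=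
  Lgr Lrot166 (Lpr_gt (f332291 IH) (Lpr_dt (K31.f332346 IH) (Lpr_gt (K31.f387685 IH) (Lpe (K30.f226207 IH) (Lpr_ct (K30.f183321 IH) (Lpe (f386545 IH) (Lpe (K31.f246529 IH) (Lpe (K30.f226304 IH) (Lpe (f226354 IH) (Lpn (LP (LK LD1_c5 LD2_c33 LD3_c57))))))))))))
theorem f172014 : Led Lsl_bt (LP (LK LD1_c1 LD2_c16 LD3_c24)) = (LP (LK LD1_c2 LD2_c39 LD3_c9)) :=
  Lre_b IH (LK LD1_c1 LD2_c16 LD3_c24) (LK LD1_c2 LD2_c39 LD3_c9) Lrfl Lrfl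
theorem f392051 : Led Lsl_bt (LP (LK LD1_c5 LD2_c33 LD3_c57)) = (LP (LK LD1_c10 LD2_c31 LD3_c32)) :=
  Lgr Lrot22 (Lpe (f387691 IH) (Lpr_gf (f392040 IH) (Lpe (K31.f332321 IH) (Lpr_gf (K31.f332299 IH) (Lpe (f172014 IH) (Lpr_ct (K12.f42259 IH) (Lpe (K12.f171870 IH) (Lpe (K12.f223848 IH) (Lpr_bt (K22.f235164 IH) (Lpe (f224793 IH) (Lpn (LP (LK LD1_c10 LD2_c31 LD3_c32)))))))))))))
theorem f277336 : Led Lsl_ct (LP (LK LD1_c10 LD2_c59 LD3_c57)) = (LP (LK LD1_c19 LD2_c50 LD3_c47)) :=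
  Lre_c IH (LK LD1_c10 LD2_c59 LD3_c57) (LK LD1_c19 LD2_c50 LD3_c47) Lrfl Lrfl
theorem f224658 : Led Lsl_bt (LP (LK LD1_c5 LD2_c20 LD3_c31)) = (LP (LK LD1_c10 LD2_c31 LD3_c2)) :=
  Lre_b IH (LK LD1_c5 LD2_c20 LD3_c31) (LK LD1_c10 LD2_c31 LD3_c2) Lrfl Lrfl
theorem f224669 : Led Lsl_gt (LP (LK LD1_c19 LD2_c3 LD3_c43)) = (LP (LK LD1_c10 LD2_c31 LD3_c2)) :=
  Lre_g IH (LK LD1_c19 LD2_c3 LD3_c43) (LK LD1_c10 LD2_c31 LD3_c2) Lrfl Lrfl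
theorem f392042 : Led Lsl_bt (LP (LK LD1_c10 LD2_c59 LD3_c57)) = (LP (LK LD1_c19 LD2_c3 LD3_c43)) :=
  Lgr Lrot22 (Lpr_ct (f277336 IH) (Lpr_gf (f392038 IH) (Lpe (K42.f224670 IH) (Lpe (K42.f224664 IH) (Lpe (K42.f224663 IH) (Lpr_ct (K12.f168017 IH) (Lpe (K12.f173118 IH) (Lpe (K12.f224646 IH) (Lpr_bt (f224658 IH) (Lpe (f224669 IH) (Lpn (LP (LK LD1_c19 LD2_c3 LD3_c43)))))))))))))
theorem f392044 : Led Lsl_bf (LP (LK LD1_c10 LD2_c59 LD3_c57)) = (LP (LK LD1_c19 LD2_c3 LD3_c43)) :=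
  Lgr Lrot24 (Lpr_bt (f392042 IH) (Lpn (LP (LK LD1_c19 LD2_c3 LD3_c43))))
theorem f392055 : Led Lsl_df (LP (LK LD1_c19 LD2_c3 LD3_c43)) = (LP (LK LD1_c10 LD2_c31 LD3_c32)) :=
  Lgr Lrot12 (Lpe (f392044 IH) (Lpr_dt (f226355 IH) (Lpr_bt (f392051 IH) (Lpn (LP (LK LD1_c10 LD2_c31 LD3_c32))))))
theorem f731894 : Led Lsl_ff (LP (LK LD1_c10 LD2_c37 LD3_c58)) = (LP (LK LD1_c19 LD2_c3 LD3_c43)) :=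
  Lgr Lrot19 (Lpr_dt (f218432 IH) (Lpr_ft (f726508 IH) (Lpqs (f731889 IH) (Lpe (f392055 IH) (Lpn (LP (LK LD1_c19 LD2_c3 LD3_c43)))))))
theorem f731898 : Led Lsl_ft (LP (LK LD1_c10 LD2_c37 LD3_c58)) = (LP (LK LD1_c19 LD2_c3 LD3_c43)) :=
  Lgr Lrot48 (Lpr_ff (f731894 IH) (Lpn (LP (LK LD1_c19 LD2_c3 LD3_c43))))
theorem f731929 : Led Lsl_ff (LP (LK LD1_c19 LD2_c15 LD3_c29)) = (LP (LK LD1_c10 LD2_c59 LD3_c57)) :=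
  Lgr Lrot25 (Lpr_bt (K31.f218409 IH) (Lpr_ft (f731898 IH) (Lpe (f392044 IH) (Lpn (LP (LK LD1_c10 LD2_c59 LD3_c57))))))
theorem f226283 : Led Lsl_ct (LP (LK LD1_c5 LD2_c34 LD3_c29)) = (LP (LK LD1_c11 LD2_c1 LD3_c11)) :=
  Lre_c IH (LK LD1_c5 LD2_c34 LD3_c29) (LK LD1_c11 LD2_c1 LD3_c11) Lrfl Lrfl
theorem f226370 : Led Lsl_gt (LP (LK LD1_c11 LD2_c1 LD3_c11)) = (LP (LK LD1_c19 LD2_c21 LD3_c58)) :=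
  Lgr Lrot150 (Lpe (f226283 IH) (Lpe (K31.f189443 IH) (Lpe (K30.f226240 IH) (Lpr_gt (K22.f226368 IH) (Lpr_ct (K30.f213415 IH) (Lpe (K20.f226144 IH) (Lpr_ct (K20.f220436 IH) (Lpe (K30.f226174 IH) (Lpe (K30.f226173 IH) (Lpn (LP (LK LD1_c19 LD2_c21 LD3_c58))))))))))))
theorem f226322 : Led Lsl_dt (LP (LK LD1_c19 LD2_c20 LD3_c40)) = (LP (LK LD1_c11 LD2_c1 LD3_c11)) :=
  Lre_d IH (LK LD1_c19 LD2_c20 LD3_c40) (LK LD1_c11 LD2_c1 LD3_c11) Lrfl Lrfl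
theorem f226375 : Led Lsl_gt (LP (LK LD1_c10 LD2_c41 LD3_c53)) = (LP (LK LD1_c19 LD2_c20 LD3_c40)) :=
  Lre_g IH (LK LD1_c10 LD2_c41 LD3_c53) (LK LD1_c19 LD2_c20 LD3_c40) Lrfl Lrfl
theorem f226342 : Led Lsl_dt (LP (LK LD1_c19 LD2_c21 LD3_c58)) = (LP (LK LD1_c11 LD2_c0 LD3_c40)) :=
  Lre_d IH (LK LD1_c19 LD2_c21 LD3_c58) (LK LD1_c11 LD2_c0 LD3_c40) Lrfl Lrfl
theorem f174383 : Led Lsl_dt (LP (LK LD1_c10 LD2_c59 LD3_c55)) = (LP (LK LD1_c5 LD2_c33 LD3_c56)) :=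
  Lre_d IH (LK LD1_c10 LD2_c59 LD3_c55) (LK LD1_c5 LD2_c33 LD3_c56) Lrfl Lrfl
theorem f226376 : Led Lsl_gt (LP (LK LD1_c19 LD2_c21 LD3_c53)) = (LP (LK LD1_c10 LD2_c59 LD3_c55)) :=
  Lgr Lrot94 (Lpe (K30.f226329 IH) (Lpr_gt (f226375 IH) (Lpr_dt (f226322 IH) (Lpr_gt (f226370 IH) (Lpr_dt (f226342 IH) (Lpe (K30.f226306 IH) (Lpe (K30.f226307 IH) (Lpe (K31.f226195 IH) (Lpe (f174383 IH) (Lpn (LP (LK LD1_c10 LD2_c59 LD3_c55))))))))))))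
theorem f731933 : Led Lsl_at (LP (LK LD1_c19 LD2_c15 LD3_c29)) = (LP (LK LD1_c10 LD2_c59 LD3_c55)) :=
  Lgr Lrot26 (Lpr_ff (f731929 IH) (Lpr_gt (K30.f226383 IH) (Lpr_gt (f226376 IH) (Lpn (LP (LK LD1_c10 LD2_c59 LD3_c55))))))
theorem f175181 : Led Lsl_ct (LP (LK LD1_c10 LD2_c59 LD3_c55)) = (LP (LK LD1_c19 LD2_c50 LD3_c45)) :=
  Lre_c IH (LK LD1_c10 LD2_c59 LD3_c55) (LK LD1_c19 LD2_c50 LD3_c45) Lrfl Lrfl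
theorem f731937 : Led Lsl_af (LP (LK LD1_c19 LD2_c21 LD3_c39)) = (LP (LK LD1_c19 LD2_c50 LD3_c45)) :=
  Lgr Lrot68 (Lpe (K31.f218415 IH) (Lpr_at (f731933 IH) (Lpr_ct (f175181 IH) (Lpn (LP (LK LD1_c19 LD2_c50 LD3_c45))))))
theorem f277378 : Led Lsl_gt (LP (LK LD1_c19 LD2_c21 LD3_c40)) = (LP (LK LD1_c10 LD2_c41 LD3_c48)) :=
  Lre_g IH (LK LD1_c19 LD2_c21 LD3_c40) (LK LD1_c10 LD2_c41 LD3_c48) Lrfl Lrfl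
theorem f731942 : Led Lsl_ft (LP (LK LD1_c19 LD2_c21 LD3_c40)) = (LP (LK LD1_c19 LD2_c50 LD3_c45)) :=
  Lgr Lrot2 (Lpr_gt (f277378 IH) (Lpr_gt (K31.f218411 IH) (Lpr_af (f731937 IH) (Lpn (LP (LK LD1_c19 LD2_c50 LD3_c45))))))
theorem f731948 : Led Lsl_ff (LP (LK LD1_c19 LD2_c21 LD3_c40)) = (LP (LK LD1_c19 LD2_c50 LD3_c45)) :=
  Lgr Lrot3 (Lpr_ft (f731942 IH) (Lpn (LP (LK LD1_c19 LD2_c50 LD3_c45))))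
theorem f332345 : Led Lsl_ct (LP (LK LD1_c19 LD2_c21 LD3_c32)) = (LP (LK LD1_c10 LD2_c41 LD3_c44)) :=
  Lre_c IH (LK LD1_c19 LD2_c21 LD3_c32) (LK LD1_c10 LD2_c41 LD3_c44) Lrfl Lrfl
theorem f391761 : Led Lsl_gf (LP (LK LD1_c19 LD2_c21 LD3_c32)) = (LP (LK LD1_c19 LD2_c50 LD3_c45)) :=
  Lgr Lrot104 (Lpr_ct (f332345 IH) (Lpr_df (K42.f391743 IH) (Lpr_cf (K30.f384850 IH) (Lpe (K30.f277338 IH) (Lpe (K30.f277337 IH) (Lpe (K31.f267737 IH) (Lpr_df (K30.f277319 IH) (Lpr_gt (f226376 IH) (Lpr_ct (f175181 IH) (Lpn (LP (LK LD1_c19 LD2_c50 LD3_c45))))))))))))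
theorem f731952 : Led Lsl_at (LP (LK LD1_c19 LD2_c21 LD3_c40)) = (LP (LK LD1_c19 LD2_c50 LD3_c47)) :=
  Lgr Lrot26 (Lpr_ff (f731948 IH) (Lpe (f391761 IH) (Lpe (f392038 IH) (Lpn (LP (LK LD1_c19 LD2_c50 LD3_c47))))))
theorem f332318 : Led Lsl_ct (LP (LK LD1_c19 LD2_c21 LD3_c29)) = (LP (LK LD1_c10 LD2_c41 LD3_c43)) :=
  Lre_c IH (LK LD1_c19 LD2_c21 LD3_c29) (LK LD1_c10 LD2_c41 LD3_c43) Lrfl Lrfl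
theorem f277305 : Led Lsl_ct (LP (LK LD1_c5 LD2_c25 LD3_c24)) = (LP (LK LD1_c10 LD2_c41 LD3_c51)) :=
  Lre_c IH (LK LD1_c5 LD2_c25 LD3_c24) (LK LD1_c10 LD2_c41 LD3_c51) Lrfl Lrfl
theorem f391822 : Led Lsl_ff (LP (LK LD1_c19 LD2_c21 LD3_c29)) = (LP (LK LD1_c10 LD2_c41 LD3_c51)) :=
  Lgr Lrot23 (Lpr_ct (f332318 IH) (Lpr_ft (K42.f391803 IH) (Lpr_ct (f277305 IH) (Lpn (LP (LK LD1_c10 LD2_c41 LD3_c51))))))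
theorem f392122 : Led Lsl_gf (LP (LK LD1_c19 LD2_c21 LD3_c40)) = (LP (LK LD1_c10 LD2_c41 LD3_c51)) :=
  Lgr Lrot47 (Lpr_gt (f277378 IH) (Lpr_af (K42.f391834 IH) (Lpr_ff (f391822 IH) (Lpn (LP (LK LD1_c10 LD2_c41 LD3_c51))))))
theorem f172996 : Led Lsl_ct (LP (LK LD1_c2 LD2_c43 LD3_c0)) = (LP (LK LD1_c1 LD2_c17 LD3_c60)) :=
  Lre_c IH (LK LD1_c2 LD2_c43 LD3_c0) (LK LD1_c1 LD2_c17 LD3_c60) Lrfl Lrfl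
theorem f220435 : Led Lsl_dt (LP (LK LD1_c1 LD2_c17 LD3_c60)) = (LP (LK LD1_c2 LD2_c43 LD3_c1)) :=
  Lre_d IH (LK LD1_c1 LD2_c17 LD3_c60) (LK LD1_c2 LD2_c43 LD3_c1) Lrfl Lrfl
theorem f246564 : Led Lsl_gt (LP (LK LD1_c11 LD2_c0 LD3_c14)) = (LP (LK LD1_c5 LD2_c34 LD3_c1)) :=
  Lre_g IH (LK LD1_c11 LD2_c0 LD3_c14) (LK LD1_c5 LD2_c34 LD3_c1) Lrfl Lrfl
theorem f332289 : Led Lsl_gt (LP (LK LD1_c17 LD2_c53 LD3_c19)) = (LP (LK LD1_c9 LD2_c44 LD3_c3)) :=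
  Lre_g IH (LK LD1_c17 LD2_c53 LD3_c19) (LK LD1_c9 LD2_c44 LD3_c3) Lrfl Lrfl
theorem f332398 : Led Lsl_gt (LP (LK LD1_c19 LD2_c21 LD3_c0)) = (LP (LK LD1_c17 LD2_c53 LD3_c19)) :=
  Lgr Lrot5 (Lpr_ft (K22.f332396 IH) (Lpr_at (K22.f332386 IH) (Lpe (f332289 IH) (Lpn (LP (LK LD1_c17 LD2_c53 LD3_c19))))))
theorem f392049 : Led Lsl_cf (LP (LK LD1_c11 LD2_c0 LD3_c14)) = (LP (LK LD1_c17 LD2_c53 LD3_c19)) :=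
  Lgr Lrot169 (Lpr_gt (f246564 IH) (Lpr_ct (K30.f226178 IH) (Lpe (f220435 IH) (Lpe (f172996 IH) (Lpe (f226354 IH) (Lpe (f387689 IH) (Lpr_gf (f392040 IH) (Lpe (K31.f332323 IH) (Lpr_gt (f332398 IH) (Lpn (LP (LK LD1_c17 LD2_c53 LD3_c19))))))))))))
theorem f226148 : Led Lsl_dt (LP (LK LD1_c11 LD2_c0 LD3_c14)) = (LP (LK LD1_c19 LD2_c51 LD3_c20)) :=
  Lre_d IH (LK LD1_c11 LD2_c0 LD3_c14) (LK LD1_c19 LD2_c51 LD3_c20) Lrfl Lrfl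
theorem f387687 : Led Lsl_gt (LP (LK LD1_c19 LD2_c32 LD3_c34)) = (LP (LK LD1_c11 LD2_c1 LD3_c6)) :=
  Lgr Lrot49 (Lpe (K42.f173027 IH) (Lpe (K31.f387663 IH) (Lpe (K22.f332368 IH) (Lpr_gt (K31.f387685 IH) (Lpe (K30.f226207 IH) (Lpr_gt (K31.f226214 IH) (Lpr_dt (K31.f382890 IH) (Lpe (K31.f172979 IH) (Lpe (K42.f382895 IH) (Lpn (LP (LK LD1_c11 LD2_c1 LD3_c6))))))))))))
theorem f392064 : Led Lsl_cf (LP (LK LD1_c19 LD2_c51 LD3_c20)) = (LP (LK LD1_c28 LD2_c46 LD3_c12)) :=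
  Lgr Lrot99 (Lpe (f226148 IH) (Lpr_cf (f392049 IH) (Lpe (f332398 IH) (Lpr_cf (K31.f387673 IH) (Lpe (K31.f173017 IH) (Lpe (K42.f173001 IH) (Lpr_gt (f387687 IH) (Lpr_ct (K31.f389290 IH) (Lpr_gt (K31.f391686 IH) (Lpn (LP (LK LD1_c28 LD2_c46 LD3_c12))))))))))))
theorem f173439 : Led Lsl_dt (LP (LK LD1_c16 LD2_c56 LD3_c34)) = (LP (LK LD1_c9 LD2_c4 LD3_c48)) :=
  Lre_d IH (LK LD1_c16 LD2_c56 LD3_c34) (LK LD1_c9 LD2_c4 LD3_c48) Lrfl Lrfl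
theorem f226147 : Led Lsl_gt (LP (LK LD1_c5 LD2_c34 LD3_c16)) = (LP (LK LD1_c11 LD2_c0 LD3_c14)) :=
  Lre_g IH (LK LD1_c5 LD2_c34 LD3_c16) (LK LD1_c11 LD2_c0 LD3_c14) Lrfl Lrfl
theorem f391741 : Led Lsl_gf (LP (LK LD1_c16 LD2_c56 LD3_c34)) = (LP (LK LD1_c19 LD2_c51 LD3_c20)) :=
  Lgr Lrot143 (Lpr_dt (f173439 IH) (Lpe (K50.f173427 IH) (Lpr_df (K31.f391705 IH) (Lpe (K30.f183316 IH) (Lpr_df (K14.f225388 IH) (Lpe (K14.f226029 IH) (Lpe (K30.f226150 IH) (Lpr_gt (f226147 IH) (Lpr_dt (f226148 IH) (Lpn (LP (LK LD1_c19 LD2_c51 LD3_c20))))))))))))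
theorem f391740 : Led Lsl_ct (LP (LK LD1_c16 LD2_c56 LD3_c34)) = (LP (LK LD1_c26 LD2_c52 LD3_c54)) :=
  Lre_c IH (LK LD1_c16 LD2_c56 LD3_c34) (LK LD1_c26 LD2_c52 LD3_c54) Lrfl Lrfl
theorem f218422 : Led Lsl_gt (LP (LK LD1_c19 LD2_c21 LD3_c42)) = (LP (LK LD1_c28 LD2_c46 LD3_c11)) :=
  Lre_g IH (LK LD1_c19 LD2_c21 LD3_c42) (LK LD1_c28 LD2_c46 LD3_c11) Lrfl Lrfl
theorem f384451 : Led Lsl_df (LP (LK LD1_c19 LD2_c52 LD3_c8)) = (LP (LK LD1_c19 LD2_c48 LD3_c58)) :=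
  Lgr Lrot38 (Lpr_dt (K31.f384444 IH) (Lpn (LP (LK LD1_c19 LD2_c48 LD3_c58))))
theorem f226153 : Led Lsl_dt (LP (LK LD1_c19 LD2_c51 LD3_c18)) = (LP (LK LD1_c11 LD2_c0 LD3_c13)) :=
  Lre_d IH (LK LD1_c19 LD2_c51 LD3_c18) (LK LD1_c11 LD2_c0 LD3_c13) Lrfl Lrfl
theorem f391902 : Led Lsl_ct (LP (LK LD1_c28 LD2_c46 LD3_c11)) = (LP (LK LD1_c19 LD2_c51 LD3_c18)) :=
  Lgr Lrot110 (Lpe (f218422 IH) (Lpr_cf (K42.f391884 IH) (Lpe (K42.f384464 IH) (Lpr_df (f384451 IH) (Lpe (K31.f387667 IH) (Lpr_ct (K31.f332279 IH) (Lpr_gt (K31.f387685 IH) (Lpe (K20.f226176 IH) (Lpe (f226153 IH) (Lpn (LP (LK LD1_c19 LD2_c51 LD3_c18))))))))))))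
theorem f391906 : Led Lsl_cf (LP (LK LD1_c28 LD2_c46 LD3_c11)) = (LP (LK LD1_c19 LD2_c51 LD3_c18)) :=
  Lgr Lrot11 (Lpr_ct (f391902 IH) (Lpn (LP (LK LD1_c19 LD2_c51 LD3_c18))))
theorem f387703 : Led Lsl_gt (LP (LK LD1_c5 LD2_c34 LD3_c14)) = (LP (LK LD1_c11 LD2_c0 LD3_c2)) :=
  Lre_g IH (LK LD1_c5 LD2_c34 LD3_c14) (LK LD1_c11 LD2_c0 LD3_c2) Lrfl Lrfl
theorem f387713 : Led Lsl_ct (LP (LK LD1_c11 LD2_c0 LD3_c2)) = (LP (LK LD1_c19 LD2_c50 LD3_c59)) :=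
  Lre_c IH (LK LD1_c11 LD2_c0 LD3_c2) (LK LD1_c19 LD2_c50 LD3_c59) Lrfl Lrfl
theorem f387714 : Led Lsl_gf (LP (LK LD1_c19 LD2_c20 LD3_c45)) = (LP (LK LD1_c19 LD2_c50 LD3_c59)) :=
  Lgr Lrot104 (Lpr_ct (K31.f332290 IH) (Lpe (K31.f332276 IH) (Lpr_cf (K22.f332267 IH) (Lpe (f332291 IH) (Lpr_cf (f387691 IH) (Lpe (K30.f277331 IH) (Lpe (K31.f226344 IH) (Lpr_gt (f387703 IH) (Lpr_ct (f387713 IH) (Lpn (LP (LK LD1_c19 LD2_c50 LD3_c59))))))))))))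
theorem f391890 : Led Lsl_dt (LP (LK LD1_c28 LD2_c46 LD3_c11)) = (LP (LK LD1_c19 LD2_c50 LD3_c59)) :=
  Lgr Lrot115 (Lpe (f218422 IH) (Lpr_ct (K42.f391879 IH) (Lpe (K42.f173005 IH) (Lpr_dt (K42.f173001 IH) (Lpr_gt (K31.f173017 IH) (Lpe (K31.f390783 IH) (Lpr_ct (K31.f391591 IH) (Lpr_df (K31.f391608 IH) (Lpr_gf (f387714 IH) (Lpn (LP (LK LD1_c19 LD2_c50 LD3_c59))))))))))))
theorem f384460 : Led Lsl_ct (LP (LK LD1_c19 LD2_c52 LD3_c8)) = (LP (LK LD1_c28 LD2_c37 LD3_c33)) :=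
  Lgr Lrot59 (Lpr_cf (K42.f384455 IH) (Lpn (LP (LK LD1_c28 LD2_c37 LD3_c33))))
theorem f391894 : Led Lsl_gt (LP (LK LD1_c28 LD2_c46 LD3_c11)) = (LP (LK LD1_c19 LD2_c21 LD3_c49)) :=
  Lgr Lrot146 (Lpr_dt (f391890 IH) (Lpe (f387714 IH) (Lpr_ct (K31.f332290 IH) (Lpr_gt (K31.f389257 IH) (Lpr_ct (K31.f277032 IH) (Lpr_dt (K42.f277081 IH) (Lpe (f384460 IH) (Lpe (K31.f277348 IH) (Lpr_cf (K42.f389293 IH) (Lpn (LP (LK LD1_c19 LD2_c21 LD3_c49))))))))))))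
theorem f173441 : Led Lsl_dt (LP (LK LD1_c9 LD2_c4 LD3_c48)) = (LP (LK LD1_c16 LD2_c56 LD3_c34)) :=
  Lre_d IH (LK LD1_c9 LD2_c4 LD3_c48) (LK LD1_c16 LD2_c56 LD3_c34) Lrfl Lrfl
theorem f391911 : Led Lsl_gt (LP (LK LD1_c16 LD2_c56 LD3_c34)) = (LP (LK LD1_c19 LD2_c51 LD3_c18)) :=
  Lgr Lrot9 (Lpe (f173441 IH) (Lpr_gt (K50.f173428 IH) (Lpe (K50.f173433 IH) (Lpe (K50.f391372 IH) (Lpr_ct (K31.f172934 IH) (Lpe (K42.f382895 IH) (Lpr_cf (K42.f389293 IH) (Lpe (f391894 IH) (Lpr_cf (f391906 IH) (Lpn (LP (LK LD1_c19 LD2_c51 LD3_c18))))))))))))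
theorem f391913 : Led Lsl_gt (LP (LK LD1_c26 LD2_c52 LD3_c54)) = (LP (LK LD1_c28 LD2_c45 LD3_c5)) :=
  Lgr Lrot94 (Lpe (f391740 IH) (Lpr_gt (f391911 IH) (Lpr_dt (f226153 IH) (Lpr_gt (K31.f226151 IH) (Lpr_dt (K30.f226194 IH) (Lpe (K30.f226309 IH) (Lpr_df (K30.f226299 IH) (Lpr_gf (K14.f246522 IH) (Lpe (K30.f213040 IH) (Lpn (LP (LK LD1_c28 LD2_c45 LD3_c5))))))))))))
theorem f391800 : Led Lsl_dt (LP (LK LD1_c10 LD2_c41 LD3_c43)) = (LP (LK LD1_c15 LD2_c44 LD3_c8)) :=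
  Lgr Lrot42 (Lpr_df (K42.f391796 IH) (Lpn (LP (LK LD1_c15 LD2_c44 LD3_c8))))
theorem f332331 : Led Lsl_gt (LP (LK LD1_c5 LD2_c25 LD3_c22)) = (LP (LK LD1_c10 LD2_c41 LD3_c43)) :=
  Lre_g IH (LK LD1_c5 LD2_c25 LD3_c22) (LK LD1_c10 LD2_c41 LD3_c43) Lrfl Lrfl
theorem f332332 : Led Lsl_ct (LP (LK LD1_c10 LD2_c41 LD3_c45)) = (LP (LK LD1_c5 LD2_c25 LD3_c22)) :=
  Lre_c IH (LK LD1_c10 LD2_c41 LD3_c45) (LK LD1_c5 LD2_c25 LD3_c22) Lrfl Lrfl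
theorem f391918 : Led Lsl_df (LP (LK LD1_c26 LD2_c52 LD3_c54)) = (LP (LK LD1_c19 LD2_c21 LD3_c34)) :=
  Lgr Lrot153 (Lpr_gt (f391913 IH) (Lpr_dt (K30.f213040 IH) (Lpe (K14.f246497 IH) (Lpe (K14.f246553 IH) (Lpe (K30.f225402 IH) (Lpe (f391800 IH) (Lpe (f332331 IH) (Lpe (f332332 IH) (Lpr_gt (K42.f391758 IH) (Lpn (LP (LK LD1_c19 LD2_c21 LD3_c34))))))))))))
theorem f392124 : Led Lsl_ct (LP (LK LD1_c19 LD2_c21 LD3_c40)) = (LP (LK LD1_c19 LD2_c50 LD3_c16)) :=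
  Lgr Lrot152 (Lpr_gf (f392122 IH) (Lpe (K31.f277306 IH) (Lpr_gt (K31.f391686 IH) (Lpe (f392064 IH) (Lpe (f391741 IH) (Lpr_ct (f391740 IH) (Lpr_df (f391918 IH) (Lpr_cf (K42.f391770 IH) (Lpe (K42.f391774 IH) (Lpn (LP (LK LD1_c19 LD2_c50 LD3_c16))))))))))))
theorem f392126 : Led Lsl_cf (LP (LK LD1_c19 LD2_c21 LD3_c40)) = (LP (LK LD1_c19 LD2_c50 LD3_c16)) :=
  Lgr Lrot11 (Lpr_ct (f392124 IH) (Lpn (LP (LK LD1_c19 LD2_c50 LD3_c16))))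
theorem f731954 : Led Lsl_af (LP (LK LD1_c19 LD2_c50 LD3_c16)) = (LP (LK LD1_c10 LD2_c59 LD3_c57)) :=
  Lgr Lrot68 (Lpe (f392126 IH) (Lpr_at (f731952 IH) (Lpr_ct (f277335 IH) (Lpn (LP (LK LD1_c10 LD2_c59 LD3_c57))))))
theorem f224659 : Led Lsl_gt (LP (LK LD1_c10 LD2_c31 LD3_c2)) = (LP (LK LD1_c19 LD2_c3 LD3_c42)) :=
  Lre_g IH (LK LD1_c10 LD2_c31 LD3_c2) (LK LD1_c19 LD2_c3 LD3_c42) Lrfl Lrfl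
theorem f731900 : Led Lsl_at (LP (LK LD1_c10 LD2_c37 LD3_c58)) = (LP (LK LD1_c19 LD2_c3 LD3_c42)) :=
  Lgr Lrot26 (Lpr_ff (f731894 IH) (Lpr_gt (f224669 IH) (Lpr_gt (f224659 IH) (Lpn (LP (LK LD1_c19 LD2_c3 LD3_c42))))))
theorem f218438 : Led Lsl_df (LP (LK LD1_c10 LD2_c37 LD3_c58)) = (LP (LK LD1_c5 LD2_c24 LD3_c37)) :=
  Lgr Lrot38 (Lpr_dt (f218432 IH) (Lpn (LP (LK LD1_c5 LD2_c24 LD3_c37))))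
def v14765 : LQ := Led Lsl_ft (LP (LK LD1_c5 LD2_c24 LD3_c36))
theorem f726514 : Led Lsl_ft (LP (LK LD1_c5 LD2_c24 LD3_c36)) = v14765 :=
  Lrfl
theorem f726515 : Led Lsl_af (LP (LK LD1_c5 LD2_c24 LD3_c37)) = v14765 :=
  Lgr Lrot45 (Lpr_ft (f726508 IH) (Lpe (f726504 IH) (Lpr_ft (f726514 IH) (Lpn v14765))))
theorem f731904 : Led Lsl_df v14765 = (LP (LK LD1_c19 LD2_c3 LD3_c42)) :=
  Lgr Lrot18 (Lpe (f726515 IH) (Lpe (f218438 IH) (Lpr_at (f731900 IH) (Lpn (LP (LK LD1_c19 LD2_c3 LD3_c42))))))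
theorem f726516 : Led Lsl_ff (LP (LK LD1_c5 LD2_c24 LD3_c36)) = v14765 :=
  Lgr Lrot3 (Lpr_ft (f726514 IH) (Lpn v14765))
def v14763 : LQ := Led Lsl_dt (LP (LK LD1_c5 LD2_c24 LD3_c36))
theorem f726510 : Led Lsl_dt (LP (LK LD1_c5 LD2_c24 LD3_c36)) = v14763 :=
  Lrfl
theorem f731906 : Led Lsl_ft v14763 = (LP (LK LD1_c19 LD2_c3 LD3_c42)) :=
  Lgr Lrot54 (Lpe (f726510 IH) (Lpr_ff (f726516 IH) (Lpr_df (f731904 IH) (Lpn (LP (LK LD1_c19 LD2_c3 LD3_c42))))))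
theorem f731902 : Led Lsl_af (LP (LK LD1_c10 LD2_c37 LD3_c58)) = (LP (LK LD1_c19 LD2_c3 LD3_c42)) :=
  Lgr Lrot0 (Lpr_at (f731900 IH) (Lpn (LP (LK LD1_c19 LD2_c3 LD3_c42))))
theorem f218451 : Led Lsl_dt (LP (LK LD1_c2 LD2_c38 LD3_c24)) = (LP (LK LD1_c5 LD2_c23 LD3_c43)) :=
  Lre_d IH (LK LD1_c2 LD2_c38 LD3_c24) (LK LD1_c5 LD2_c23 LD3_c43) Lrfl Lrfl
theorem f218594 : Led Lsl_at (LP (LK LD1_c19 LD2_c15 LD3_c23)) = (LP (LK LD1_c10 LD2_c37 LD3_c59)) :=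
  Lre_a IH (LK LD1_c19 LD2_c15 LD3_c23) (LK LD1_c10 LD2_c37 LD3_c59) Lrfl Lrfl
theorem f312789 : Led Lsl_ff (LP (LK LD1_c19 LD2_c15 LD3_c23)) = (LP (LK LD1_c28 LD2_c29 LD3_c53)) :=
  Lgr Lrot103 (Lpr_at (f218594 IH) (Lpe (K19.f217764 IH) (Lpe (f218451 IH) (Lpe (K22.f218450 IH) (Lpe (K22.f218448 IH) (Lpe (K22.f234010 IH) (Lpe (K22.f234011 IH) (Lpr_cf (K22.f312778 IH) (Lpe (K22.f312781 IH) (Lpn (LP (LK LD1_c28 LD2_c29 LD3_c53))))))))))))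
theorem f312754 : Led Lsl_ct (LP (LK LD1_c19 LD2_c15 LD3_c23)) = (LP (LK LD1_c10 LD2_c37 LD3_c55)) :=
  Lre_c IH (LK LD1_c19 LD2_c15 LD3_c23) (LK LD1_c10 LD2_c37 LD3_c55) Lrfl Lrfl
theorem f312791 : Led Lsl_ft (LP (LK LD1_c10 LD2_c37 LD3_c55)) = (LP (LK LD1_c19 LD2_c3 LD3_c41)) :=
  Lgr Lrot4 (Lpe (f312754 IH) (Lpr_ff (f312789 IH) (Lpe (K22.f312782 IH) (Lpn (LP (LK LD1_c19 LD2_c3 LD3_c41))))))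
theorem f312835 : Led Lsl_ff (LP (LK LD1_c10 LD2_c37 LD3_c55)) = (LP (LK LD1_c19 LD2_c3 LD3_c41)) :=
  Lgr Lrot3 (Lpr_ft (f312791 IH) (Lpn (LP (LK LD1_c19 LD2_c3 LD3_c41))))
theorem f312841 : Led Lsl_at (LP (LK LD1_c10 LD2_c37 LD3_c55)) = (LP (LK LD1_c5 LD2_c23 LD3_c43)) :=
  Lre_a IH (LK LD1_c10 LD2_c37 LD3_c55) (LK LD1_c5 LD2_c23 LD3_c43) Lrfl Lrfl
theorem f312843 : Led Lsl_gf (LP (LK LD1_c10 LD2_c37 LD3_c58)) = (LP (LK LD1_c19 LD2_c3 LD3_c41)) :=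
  Lgr Lrot47 (Lpr_gt (K31.f218408 IH) (Lpe (f312841 IH) (Lpr_ff (f312835 IH) (Lpn (LP (LK LD1_c19 LD2_c3 LD3_c41))))))
theorem f303213 : Led Lsl_ft (LP (LK LD1_c5 LD2_c23 LD3_c43)) = (LP (LK LD1_c10 LD2_c31 LD3_c2)) :=
  Lgr Lrot75 (Lpe (K19.f218394 IH) (Lpr_ff (K18.f303211 IH) (Lpe (K19.f223799 IH) (Lpn (LP (LK LD1_c10 LD2_c31 LD3_c2))))))
theorem f218395 : Led Lsl_gt (LP (LK LD1_c5 LD2_c23 LD3_c43)) = (LP (LK LD1_c10 LD2_c37 LD3_c57)) :=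
  Lre_g IH (LK LD1_c5 LD2_c23 LD3_c43) (LK LD1_c10 LD2_c37 LD3_c57) Lrfl Lrfl
theorem f303202 : Led Lsl_at (LP (LK LD1_c10 LD2_c31 LD3_c2)) = (LP (LK LD1_c19 LD2_c3 LD3_c41)) :=
  Lre_a IH (LK LD1_c10 LD2_c31 LD3_c2) (LK LD1_c19 LD2_c3 LD3_c41) Lrfl Lrfl
theorem f406310 : Led Lsl_gt (LP (LK LD1_c10 LD2_c37 LD3_c57)) = (LP (LK LD1_c19 LD2_c3 LD3_c41)) :=
  Lgr Lrot46 (Lpe (f218395 IH) (Lpr_ft (f303213 IH) (Lpr_at (f303202 IH) (Lpn (LP (LK LD1_c19 LD2_c3 LD3_c41))))))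
theorem f731909 : v14763 = (LP (LK LD1_c10 LD2_c37 LD3_c57)) :=
  (Llr Lrot52 (Lpr_ft (f731906 IH) (Lpe (f731902 IH) (Lpr_gf (f312843 IH) (Lpe (f406310 IH) (Lpn (LP (LK LD1_c10 LD2_c37 LD3_c57)))))))).symm
theorem f731908 : Led Lsl_ff v14763 = (LP (LK LD1_c19 LD2_c3 LD3_c42)) :=
  Lgr Lrot3 (Lpr_ft (f731906 IH) (Lpn (LP (LK LD1_c19 LD2_c3 LD3_c42))))
theorem f731916 : Led Lsl_af (LP (LK LD1_c19 LD2_c3 LD3_c43)) = (LP (LK LD1_c10 LD2_c37 LD3_c57)) :=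
  Lgr Lrot45 (Lpe (f731894 IH) (Lpr_at (f731900 IH) (Lpe (f731908 IH) (Lpqs (f731909 IH) (Lpn (LP (LK LD1_c10 LD2_c37 LD3_c57)))))))
theorem f218397 : Led Lsl_bt (LP (LK LD1_c19 LD2_c15 LD3_c27)) = (LP (LK LD1_c10 LD2_c37 LD3_c57)) :=
  Lre_b IH (LK LD1_c19 LD2_c15 LD3_c27) (LK LD1_c10 LD2_c37 LD3_c57) Lrfl Lrfl
theorem f218472 : Led Lsl_at (LP (LK LD1_c28 LD2_c41 LD3_c40)) = (LP (LK LD1_c19 LD2_c15 LD3_c27)) :=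
  Lre_a IH (LK LD1_c28 LD2_c41 LD3_c40) (LK LD1_c19 LD2_c15 LD3_c27) Lrfl Lrfl
theorem f731960 : Led Lsl_bt (LP (LK LD1_c19 LD2_c50 LD3_c16)) = (LP (LK LD1_c28 LD2_c41 LD3_c40)) :=
  Lgr Lrot62 (Lpr_af (f731954 IH) (Lpr_bf (f392044 IH) (Lpr_af (f731916 IH) (Lpe (f218397 IH) (Lpe (f218472 IH) (Lpn (LP (LK LD1_c28 LD2_c41 LD3_c40))))))))
theorem f277311 : Led Lsl_bt (LP (LK LD1_c5 LD2_c25 LD3_c24)) = (LP (LK LD1_c10 LD2_c41 LD3_c50)) :=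
  Lre_b IH (LK LD1_c5 LD2_c25 LD3_c24) (LK LD1_c10 LD2_c41 LD3_c50) Lrfl Lrfl
theorem f424255 : Led Lsl_ff (LP (LK LD1_c16 LD2_c22 LD3_c42)) = (LP (LK LD1_c20 LD2_c10 LD3_c35)) :=
  Lgr Lrot3 (Lpr_ft (K42.f424250 IH) (Lpn (LP (LK LD1_c20 LD2_c10 LD3_c35))))
theorem f392099 : Led Lsl_af (LP (LK LD1_c25 LD2_c50 LD3_c28)) = (LP (LK LD1_c19 LD2_c21 LD3_c31)) :=
  Lgr Lrot45 (Lpr_ft (K42.f388091 IH) (Lpr_at (K42.f218466 IH) (Lpr_ft (K42.f392097 IH) (Lpn (LP (LK LD1_c19 LD2_c21 LD3_c31))))))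
theorem f217688 : Led Lsl_bt (LP (LK LD1_c10 LD2_c41 LD3_c50)) = (LP (LK LD1_c5 LD2_c25 LD3_c24)) :=
  Lre_b IH (LK LD1_c10 LD2_c41 LD3_c50) (LK LD1_c5 LD2_c25 LD3_c24) Lrfl Lrfl
theorem f400029 : Led Lsl_at (LP (LK LD1_c16 LD2_c22 LD3_c42)) = (LP (LK LD1_c10 LD2_c41 LD3_c50)) :=
  Lgr Lrot67 (Lpr_bf (K31.f400027 IH) (Lpr_af (f392099 IH) (Lpe (K42.f391750 IH) (Lpr_af (K42.f391826 IH) (Lpe (f217688 IH) (Lpn (LP (LK LD1_c10 LD2_c41 LD3_c50))))))))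
theorem f424257 : Led Lsl_gf (LP (LK LD1_c10 LD2_c41 LD3_c50)) = (LP (LK LD1_c14 LD2_c58 LD3_c60)) :=
  Lgr Lrot76 (Lpe (f400029 IH) (Lpr_ff (f424255 IH) (Lpr_gt (K31.f411723 IH) (Lpn (LP (LK LD1_c14 LD2_c58 LD3_c60))))))
theorem f250567 : Led Lsl_ct (LP (LK LD1_c27 LD2_c30 LD3_c49)) = (LP (LK LD1_c17 LD2_c44 LD3_c0)) :=
  Lre_c IH (LK LD1_c27 LD2_c30 LD3_c49) (LK LD1_c17 LD2_c44 LD3_c0) Lrfl Lrfl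
theorem f731968 : Led Lsl_gf (LP (LK LD1_c27 LD2_c30 LD3_c49)) = (LP (LK LD1_c28 LD2_c41 LD3_c40)) :=
  Lgr Lrot181 (Lpr_ct (f250567 IH) (Lpr_gt (K30.f397411 IH) (Lpr_cf (K18.f246598 IH) (Lpe (K18.f246617 IH) (Lpe (f424257 IH) (Lpe (f277311 IH) (Lpr_ct (f277305 IH) (Lpe (f392122 IH) (Lpr_cf (f392126 IH) (Lpr_bt (f731960 IH) (Lpn (LP (LK LD1_c28 LD2_c41 LD3_c40)))))))))))))
theorem f398790 : Led Lsl_af (LP (LK LD1_c27 LD2_c30 LD3_c49)) = (LP (LK LD1_c26 LD2_c12 LD3_c42)) :=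
  Lgr Lrot68 (Lpr_ct (f250567 IH) (Lpr_at (K31.f398752 IH) (Lpr_ct (K31.f373765 IH) (Lpn (LP (LK LD1_c26 LD2_c12 LD3_c42))))))
theorem f397423 : Led Lsl_bt (LP (LK LD1_c25 LD2_c46 LD3_c5)) = (LP (LK LD1_c27 LD2_c30 LD3_c46)) :=
  Lgr Lrot127 (Lpr_bf (K31.f397420 IH) (Lpn (LP (LK LD1_c27 LD2_c30 LD3_c46))))
theorem f398428 : Led Lsl_ff (LP (LK LD1_c26 LD2_c12 LD3_c42)) = (LP (LK LD1_c27 LD2_c30 LD3_c46)) :=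
  Lgr Lrot25 (Lpr_bt (K31.f398421 IH) (Lpe (K31.f391184 IH) (Lpr_bt (f397423 IH) (Lpn (LP (LK LD1_c27 LD2_c30 LD3_c46))))))
theorem f731970 : Led Lsl_gt (LP (LK LD1_c27 LD2_c30 LD3_c46)) = (LP (LK LD1_c28 LD2_c41 LD3_c40)) :=
  Lgr Lrot5 (Lpe (f398428 IH) (Lpe (f398790 IH) (Lpr_gf (f731968 IH) (Lpn (LP (LK LD1_c28 LD2_c41 LD3_c40))))))
theorem f39518 : Led Lsl_gt (LP (LK LD1_c14 LD2_c59 LD3_c9)) = (LP (LK LD1_c7 LD2_c56 LD3_c34)) :=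
  Lre_g IH (LK LD1_c14 LD2_c59 LD3_c9) (LK LD1_c7 LD2_c56 LD3_c34) Lrfl Lrfl
theorem f39520 : Led Lsl_bt (LP (LK LD1_c24 LD2_c46 LD3_c39)) = (LP (LK LD1_c14 LD2_c59 LD3_c9)) :=
  Lre_b IH (LK LD1_c24 LD2_c46 LD3_c39) (LK LD1_c14 LD2_c59 LD3_c9) Lrfl Lrfl
theorem f731976 : Led Lsl_ct (LP (LK LD1_c24 LD2_c46 LD3_c39)) = (LP (LK LD1_c28 LD2_c41 LD3_c40)) :=
  Lgr Lrot63 (Lpr_bt (f39520 IH) (Lpr_gt (f39518 IH) (Lpe (K9.f39425 IH) (Lpr_ct (K12.f39257 IH) (Lpr_gt (K12.f37779 IH) (Lpr_cf (K12.f197738 IH) (Lpr_bt (K30.f197737 IH) (Lpe (K31.f396923 IH) (Lpr_ct (K31.f229720 IH) (Lpr_gt (f731970 IH) (Lpn (LP (LK LD1_c28 LD2_c41 LD3_c40)))))))))))))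
theorem f731985 : Led Lsl_gf (LP (LK LD1_c24 LD2_c46 LD3_c39)) = (LP (LK LD1_c19 LD2_c5 LD3_c20)) :=
  Lgr Lrot147 (Lpr_ct (f731976 IH) (Lpe (f731968 IH) (Lpr_ct (f250567 IH) (Lpe (K30.f229784 IH) (Lpe (K20.f250533 IH) (Lpr_gf (K31.f398261 IH) (Lpe (K31.f397630 IH) (Lpr_gf (K38.f397793 IH) (Lpr_df (K31.f397079 IH) (Lpn (LP (LK LD1_c19 LD2_c5 LD3_c20))))))))))))
theorem f218400 : Led Lsl_gt (LP (LK LD1_c19 LD2_c22 LD3_c24)) = (LP (LK LD1_c10 LD2_c42 LD3_c4)) :=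
  Lre_g IH (LK LD1_c19 LD2_c22 LD3_c24) (LK LD1_c10 LD2_c42 LD3_c4) Lrfl Lrfl
theorem f218401 : Led Lsl_ct (LP (LK LD1_c19 LD2_c15 LD3_c27)) = (LP (LK LD1_c19 LD2_c22 LD3_c24)) :=
  Lgr Lrot64 (Lpr_bt (f218397 IH) (Lpe (f218395 IH) (Lpe (K19.f218394 IH) (Lpr_ct (K13.f218232 IH) (Lpe (K13.f55195 IH) (Lpe (K14.f196716 IH) (Lpe (K13.f217449 IH) (Lpe (K15.f218398 IH) (Lpr_ct (K15.f218399 IH) (Lpe (f218400 IH) (Lpn (LP (LK LD1_c19 LD2_c22 LD3_c24)))))))))))))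
theorem f731978 : Led Lsl_af (LP (LK LD1_c24 LD2_c46 LD3_c39)) = (LP (LK LD1_c19 LD2_c22 LD3_c24)) :=
  Lgr Lrot68 (Lpr_ct (f731976 IH) (Lpr_at (f218472 IH) (Lpr_ct (f218401 IH) (Lpn (LP (LK LD1_c19 LD2_c22 LD3_c24))))))
theorem f38976 : Led Lsl_gt (LP (LK LD1_c8 LD2_c42 LD3_c13)) = (LP (LK LD1_c4 LD2_c22 LD3_c9)) :=
  Lre_g IH (LK LD1_c8 LD2_c42 LD3_c13) (LK LD1_c4 LD2_c22 LD3_c9) Lrfl Lrfl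
theorem f39809 : Led Lsl_ct (LP (LK LD1_c16 LD2_c18 LD3_c15)) = (LP (LK LD1_c8 LD2_c42 LD3_c13)) :=
  Lre_c IH (LK LD1_c16 LD2_c18 LD3_c15) (LK LD1_c8 LD2_c42 LD3_c13) Lrfl Lrfl
theorem f331878 : Led Lsl_bt (LP (LK LD1_c10 LD2_c41 LD3_c11)) = (LP (LK LD1_c5 LD2_c25 LD3_c12)) :=
  Lre_b IH (LK LD1_c10 LD2_c41 LD3_c11) (LK LD1_c5 LD2_c25 LD3_c12) Lrfl Lrfl
theorem f168738 : Led Lsl_ct (LP (LK LD1_c2 LD2_c25 LD3_c55)) = (LP (LK LD1_c4 LD2_c56 LD3_c13)) :=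
  Lre_c IH (LK LD1_c2 LD2_c25 LD3_c55) (LK LD1_c4 LD2_c56 LD3_c13) Lrfl Lrfl
theorem f332240 : Led Lsl_ct (LP (LK LD1_c5 LD2_c25 LD3_c12)) = (LP (LK LD1_c4 LD2_c56 LD3_c12)) :=
  Lgr Lrot83 (Lpe (f331878 IH) (Lpr_cf (K22.f332238 IH) (Lpe (K47.f168734 IH) (Lpe (f168738 IH) (Lpe (K31.f173918 IH) (Lpn (LP (LK LD1_c4 LD2_c56 LD3_c12))))))))
theorem f332330 : Led Lsl_dt (LP (LK LD1_c2 LD2_c39 LD3_c7)) = (LP (LK LD1_c5 LD2_c25 LD3_c22)) :=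
  Lre_d IH (LK LD1_c2 LD2_c39 LD3_c7) (LK LD1_c5 LD2_c25 LD3_c22) Lrfl Lrfl
theorem f175225 : Led Lsl_ct (LP (LK LD1_c19 LD2_c50 LD3_c45)) = (LP (LK LD1_c10 LD2_c59 LD3_c55)) :=
  Lre_c IH (LK LD1_c19 LD2_c50 LD3_c45) (LK LD1_c10 LD2_c59 LD3_c55) Lrfl Lrfl
theorem f387697 : Led Lsl_gt (LP (LK LD1_c19 LD2_c21 LD3_c29)) = (LP (LK LD1_c19 LD2_c50 LD3_c45)) :=
  Lgr Lrot150 (Lpe (K42.f332320 IH) (Lpe (f332331 IH) (Lpe (f332330 IH) (Lpe (K31.f332296 IH) (Lpr_ct (f332240 IH) (Lpr_gt (K31.f387693 IH) (Lpr_ct (K31.f175180 IH) (Lpe (f174383 IH) (Lpe (f175225 IH) (Lpn (LP (LK LD1_c19 LD2_c50 LD3_c45))))))))))))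
theorem f559588 : Led Lsl_bt (LP (LK LD1_c16 LD2_c18 LD3_c15)) = (LP (LK LD1_c19 LD2_c50 LD3_c45)) :=
  Lgr Lrot92 (Lpr_ct (f39809 IH) (Lpr_gt (f38976 IH) (Lpe (K9.f38935 IH) (Lpe (K9.f39766 IH) (Lpr_gt (K39.f39806 IH) (Lpe (K39.f541314 IH) (Lpr_gt (K40.f559584 IH) (Lpe (K42.f423533 IH) (Lpe (K42.f424290 IH) (Lpr_gt (f387697 IH) (Lpn (LP (LK LD1_c19 LD2_c50 LD3_c45)))))))))))))
theorem f39871 : Led Lsl_ct (LP (LK LD1_c8 LD2_c42 LD3_c13)) = (LP (LK LD1_c16 LD2_c18 LD3_c15)) :=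
  Lre_c IH (LK LD1_c8 LD2_c42 LD3_c13) (LK LD1_c16 LD2_c18 LD3_c15) Lrfl Lrfl
theorem f38977 : Led Lsl_bt (LP (LK LD1_c16 LD2_c18 LD3_c14)) = (LP (LK LD1_c8 LD2_c42 LD3_c13)) :=
  Lre_b IH (LK LD1_c16 LD2_c18 LD3_c14) (LK LD1_c8 LD2_c42 LD3_c13) Lrfl Lrfl
theorem f387700 : Led Lsl_bt (LP (LK LD1_c10 LD2_c59 LD3_c55)) = (LP (LK LD1_c19 LD2_c50 LD3_c44)) :=
  Lre_b IH (LK LD1_c10 LD2_c59 LD3_c55) (LK LD1_c19 LD2_c50 LD3_c44) Lrfl Lrfl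
theorem f618378 : Led Lsl_cf (LP (LK LD1_c16 LD2_c18 LD3_c14)) = (LP (LK LD1_c19 LD2_c50 LD3_c44)) :=
  Lgr Lrot97 (Lpr_bt (f38977 IH) (Lpr_ct (f39871 IH) (Lpr_bt (f559588 IH) (Lpr_ct (f175225 IH) (Lpr_bt (f387700 IH) (Lpn (LP (LK LD1_c19 LD2_c50 LD3_c44))))))))
theorem f618382 : Led Lsl_ct (LP (LK LD1_c16 LD2_c18 LD3_c14)) = (LP (LK LD1_c19 LD2_c50 LD3_c44)) :=
  Lgr Lrot59 (Lpr_cf (f618378 IH) (Lpn (LP (LK LD1_c19 LD2_c50 LD3_c44))))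
theorem f254810 : Led Lsl_dt (LP (LK LD1_c10 LD2_c59 LD3_c54)) = (LP (LK LD1_c19 LD2_c50 LD3_c44)) :=
  Lre_d IH (LK LD1_c10 LD2_c59 LD3_c54) (LK LD1_c19 LD2_c50 LD3_c44) Lrfl Lrfl
theorem f216931 : Led Lsl_ct (LP (LK LD1_c10 LD2_c40 LD3_c29)) = (LP (LK LD1_c10 LD2_c59 LD3_c54)) :=
  Lre_c IH (LK LD1_c10 LD2_c40 LD3_c29) (LK LD1_c10 LD2_c59 LD3_c54) Lrfl Lrfl
theorem f263972 : Led Lsl_ct (LP (LK LD1_c2 LD2_c38 LD3_c59)) = (LP (LK LD1_c5 LD2_c24 LD3_c54)) :=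
  Lre_c IH (LK LD1_c2 LD2_c38 LD3_c59) (LK LD1_c5 LD2_c24 LD3_c54) Lrfl Lrfl
theorem f263978 : Led Lsl_dt (LP (LK LD1_c10 LD2_c40 LD3_c25)) = (LP (LK LD1_c5 LD2_c24 LD3_c52)) :=
  Lre_d IH (LK LD1_c10 LD2_c40 LD3_c25) (LK LD1_c5 LD2_c24 LD3_c52) Lrfl Lrfl
theorem f618386 : Led Lsl_gf (LP (LK LD1_c16 LD2_c18 LD3_c14)) = (LP (LK LD1_c10 LD2_c42 LD3_c4)) :=
  Lgr Lrot104 (Lpr_ct (f618382 IH) (Lpe (f254810 IH) (Lpe (f216931 IH) (Lpe (K12.f216929 IH) (Lpe (f263972 IH) (Lpe (K12.f224258 IH) (Lpe (f263978 IH) (Lpe (K30.f397268 IH) (Lpr_ct (K15.f218399 IH) (Lpn (LP (LK LD1_c10 LD2_c42 LD3_c4))))))))))))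
theorem f618384 : Led Lsl_at (LP (LK LD1_c26 LD2_c16 LD3_c0)) = (LP (LK LD1_c16 LD2_c18 LD3_c14)) :=
  Lre_a IH (LK LD1_c26 LD2_c16 LD3_c0) (LK LD1_c16 LD2_c18 LD3_c14) Lrfl Lrfl
theorem f618422 : Led Lsl_ff (LP (LK LD1_c26 LD2_c16 LD3_c0)) = (LP (LK LD1_c19 LD2_c22 LD3_c24)) :=
  Lgr Lrot52 (Lpr_at (f618384 IH) (Lpr_gf (f618386 IH) (Lpe (f218400 IH) (Lpn (LP (LK LD1_c19 LD2_c22 LD3_c24))))))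
theorem f618424 : Led Lsl_ft (LP (LK LD1_c26 LD2_c16 LD3_c0)) = (LP (LK LD1_c19 LD2_c22 LD3_c24)) :=
  Lgr Lrot48 (Lpr_ff (f618422 IH) (Lpn (LP (LK LD1_c19 LD2_c22 LD3_c24))))
theorem f731987 : Led Lsl_gt (LP (LK LD1_c26 LD2_c16 LD3_c0)) = (LP (LK LD1_c19 LD2_c5 LD3_c20)) :=
  Lgr Lrot5 (Lpr_ft (f618424 IH) (Lpe (f731978 IH) (Lpr_gf (f731985 IH) (Lpn (LP (LK LD1_c19 LD2_c5 LD3_c20))))))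
theorem f243198 : Led Lsl_dt (LP (LK LD1_c4 LD2_c21 LD3_c32)) = (LP (LK LD1_c8 LD2_c40 LD3_c41)) :=
  Lre_d IH (LK LD1_c4 LD2_c21 LD3_c32) (LK LD1_c8 LD2_c40 LD3_c41) Lrfl Lrfl
theorem f178423 : Led Lsl_bt (LP (LK LD1_c5 LD2_c39 LD3_c21)) = (LP (LK LD1_c2 LD2_c45 LD3_c39)) :=
  Lre_b IH (LK LD1_c5 LD2_c39 LD3_c21) (LK LD1_c2 LD2_c45 LD3_c39) Lrfl Lrfl
theorem f179841 : Led Lsl_bt (LP (LK LD1_c9 LD2_c37 LD3_c18)) = (LP (LK LD1_c17 LD2_c42 LD3_c55)) :=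
  Lre_b IH (LK LD1_c9 LD2_c37 LD3_c18) (LK LD1_c17 LD2_c42 LD3_c55) Lrfl Lrfl
theorem f397230 : Led Lsl_gf (LP (LK LD1_c15 LD2_c58 LD3_c35)) = (LP (LK LD1_c17 LD2_c42 LD3_c55)) :=
  Lgr Lrot181 (Lpr_ct (K38.f243207 IH) (Lpr_gt (K31.f243204 IH) (Lpr_cf (K27.f243194 IH) (Lpr_bt (K13.f243191 IH) (Lpe (K13.f238917 IH) (Lpe (f178423 IH) (Lpr_ct (K38.f178420 IH) (Lpr_gt (K49.f397222 IH) (Lpe (K52.f30588 IH) (Lpr_bt (f179841 IH) (Lpn (LP (LK LD1_c17 LD2_c42 LD3_c55)))))))))))))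
theorem f731995 : Led Lsl_dt (LP (LK LD1_c26 LD2_c16 LD3_c0)) = (LP (LK LD1_c17 LD2_c42 LD3_c55)) :=
  Lgr Lrot6 (Lpr_gt (f731987 IH) (Lpr_ct (K31.f218807 IH) (Lpe (K31.f398430 IH) (Lpr_ct (K31.f243208 IH) (Lpe (f243198 IH) (Lpe (K13.f243173 IH) (Lpe (K31.f243204 IH) (Lpe (K38.f243207 IH) (Lpr_gf (f397230 IH) (Lpn (LP (LK LD1_c17 LD2_c42 LD3_c55))))))))))))
theorem f618381 : Led Lsl_at (LP (LK LD1_c16 LD2_c18 LD3_c14)) = (LP (LK LD1_c26 LD2_c16 LD3_c0)) :=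
  Lre_a IH (LK LD1_c16 LD2_c18 LD3_c14) (LK LD1_c26 LD2_c16 LD3_c0) Lrfl Lrfl
theorem f216697 : Led Lsl_cf (LP (LK LD1_c2 LD2_c9 LD3_c12)) = (LP (LK LD1_c4 LD2_c21 LD3_c33)) :=
  Lgr Lrot55 (Lpr_dt (K13.f201465 IH) (Lpr_ct (K13.f28942 IH) (Lpr_dt (K9.f28938 IH) (Lpe (K9.f28931 IH) (Lpr_dt (K12.f28903 IH) (Lpr_ct (K13.f28945 IH) (Lpr_dt (K12.f28946 IH) (Lpr_ct (K12.f216646 IH) (Lpe (K13.f182342 IH) (Lpr_ct (K13.f179872 IH) (Lpr_dt (K11.f182324 IH) (Lpr_ct (K12.f181958 IH) (Lpr_dt (K13.f180221 IH) (Lpr_ct (K13.f216695 IH) (Lpr_dt (K13.f216696 IH) (Lpn (LP (LK LD1_c4 LD2_c21 LD3_c33))))))))))))))))))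
theorem f225671 : Led Lsl_bt (LP (LK LD1_c4 LD2_c21 LD3_c33)) = (LP (LK LD1_c8 LD2_c40 LD3_c41)) :=
  Lre_b IH (LK LD1_c4 LD2_c21 LD3_c33) (LK LD1_c8 LD2_c40 LD3_c41) Lrfl Lrfl
theorem f618388 : Led Lsl_gt (LP (LK LD1_c26 LD2_c12 LD3_c42)) = (LP (LK LD1_c19 LD2_c50 LD3_c44)) :=
  Lgr Lrot149 (Lpe (K31.f373765 IH) (Lpe (K31.f225672 IH) (Lpe (f225671 IH) (Lpe (f216697 IH) (Lpr_gf (K13.f201470 IH) (Lpr_cf (K1.f38931 IH) (Lpr_bt (K50.f38975 IH) (Lpe (f38976 IH) (Lpe (f38977 IH) (Lpr_ct (f618382 IH) (Lpn (LP (LK LD1_c19 LD2_c50 LD3_c44)))))))))))))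
theorem f412615 : Led Lsl_gt (LP (LK LD1_c16 LD2_c15 LD3_c1)) = (LP (LK LD1_c26 LD2_c12 LD3_c31)) :=
  Lre_g IH (LK LD1_c16 LD2_c15 LD3_c1) (LK LD1_c26 LD2_c12 LD3_c31) Lrfl Lrfl
theorem f418171 : Led Lsl_ct (LP (LK LD1_c26 LD2_c12 LD3_c31)) = (LP (LK LD1_c26 LD2_c12 LD3_c15)) :=
  Lre_c IH (LK LD1_c26 LD2_c12 LD3_c31) (LK LD1_c26 LD2_c12 LD3_c15) Lrfl Lrfl
theorem f618394 : Led Lsl_dt (LP (LK LD1_c26 LD2_c12 LD3_c15)) = (LP (LK LD1_c16 LD2_c18 LD3_c14)) :=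
  Lgr Lrot27 (Lpe (f418171 IH) (Lpe (f412615 IH) (Lpe (K40.f243206 IH) (Lpe (K38.f223584 IH) (Lpe (K27.f243202 IH) (Lpr_gt (K31.f225672 IH) (Lpr_ct (K31.f373765 IH) (Lpr_gt (f618388 IH) (Lpe (f618378 IH) (Lpn (LP (LK LD1_c16 LD2_c18 LD3_c14))))))))))))
theorem f732001 : Led Lsl_af (LP (LK LD1_c26 LD2_c12 LD3_c15)) = (LP (LK LD1_c17 LD2_c42 LD3_c55)) :=
  Lgr Lrot117 (Lpr_dt (f618394 IH) (Lpr_at (f618381 IH) (Lpr_dt (f731995 IH) (Lpn (LP (LK LD1_c17 LD2_c42 LD3_c55))))))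
theorem f411597 : Led Lsl_ct (LP (LK LD1_c26 LD2_c12 LD3_c15)) = (LP (LK LD1_c26 LD2_c12 LD3_c31)) :=
  Lre_c IH (LK LD1_c26 LD2_c12 LD3_c15) (LK LD1_c26 LD2_c12 LD3_c31) Lrfl Lrfl
theorem f732005 : Led Lsl_at (LP (LK LD1_c26 LD2_c12 LD3_c31)) = (LP (LK LD1_c25 LD2_c55 LD3_c4)) :=
  Lgr Lrot107 (Lpe (f411597 IH) (Lpr_af (f732001 IH) (Lpe (K52.f717532 IH) (Lpn (LP (LK LD1_c25 LD2_c55 LD3_c4))))))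
theorem f693416 : Led Lsl_dt (LP (LK LD1_c8 LD2_c32 LD3_c17)) = (LP (LK LD1_c15 LD2_c58 LD3_c12)) :=
  Lgr Lrot42 (Lpr_df (K50.f693412 IH) (Lpn (LP (LK LD1_c15 LD2_c58 LD3_c12))))
theorem f51851 : Led Lsl_bt (LP (LK LD1_c16 LD2_c1 LD3_c50)) = (LP (LK LD1_c8 LD2_c32 LD3_c17)) :=
  Lre_b IH (LK LD1_c16 LD2_c1 LD3_c50) (LK LD1_c8 LD2_c32 LD3_c17) Lrfl Lrfl
theorem f693429 : Led Lsl_df (LP (LK LD1_c16 LD2_c1 LD3_c50)) = (LP (LK LD1_c25 LD2_c55 LD3_c4)) :=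
  Lgr Lrot12 (Lpr_bt (f51851 IH) (Lpr_dt (f693416 IH) (Lpr_bt (K52.f693428 IH) (Lpn (LP (LK LD1_c25 LD2_c55 LD3_c4))))))
theorem f399123 : Led Lsl_at (LP (LK LD1_c16 LD2_c1 LD3_c50)) = (LP (LK LD1_c25 LD2_c59 LD3_c17)) :=
  Lre_a IH (LK LD1_c16 LD2_c1 LD3_c50) (LK LD1_c25 LD2_c59 LD3_c17) Lrfl Lrfl
theorem f732009 : Led Lsl_df (LP (LK LD1_c26 LD2_c12 LD3_c31)) = (LP (LK LD1_c25 LD2_c59 LD3_c17)) :=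
  Lgr Lrot18 (Lpr_at (f732005 IH) (Lpe (f693429 IH) (Lpr_at (f399123 IH) (Lpn (LP (LK LD1_c25 LD2_c59 LD3_c17))))))
theorem f618396 : Led Lsl_df (LP (LK LD1_c26 LD2_c12 LD3_c15)) = (LP (LK LD1_c16 LD2_c18 LD3_c14)) :=
  Lgr Lrot162 (Lpe (f418171 IH) (Lpe (f412615 IH) (Lpe (K40.f243206 IH) (Lpe (K38.f223584 IH) (Lpr_dt (f243198 IH) (Lpr_gt (K31.f225672 IH) (Lpr_ct (K31.f373765 IH) (Lpr_gt (f618388 IH) (Lpe (f618378 IH) (Lpn (LP (LK LD1_c16 LD2_c18 LD3_c14))))))))))))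
theorem f732015 : Led Lsl_gt (LP (LK LD1_c26 LD2_c13 LD3_c55)) = (LP (LK LD1_c25 LD2_c59 LD3_c17)) :=
  Lgr Lrot49 (Lpe (K31.f397929 IH) (Lpr_gf (K31.f397926 IH) (Lpr_cf (K31.f167058 IH) (Lpr_gt (K27.f229793 IH) (Lpr_dt (K27.f263790 IH) (Lpe (f618386 IH) (Lpe (f618396 IH) (Lpe (f418171 IH) (Lpr_df (f732009 IH) (Lpn (LP (LK LD1_c25 LD2_c59 LD3_c17))))))))))))
theorem f398944 : Led Lsl_at (LP (LK LD1_c25 LD2_c59 LD3_c10)) = (LP (LK LD1_c26 LD2_c13 LD3_c58)) :=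
  Lgr Lrot100 (Lpr_af (K31.f398942 IH) (Lpn (LP (LK LD1_c26 LD2_c13 LD3_c58))))
theorem f732019 : Led Lsl_gf (LP (LK LD1_c26 LD2_c13 LD3_c58)) = (LP (LK LD1_c25 LD2_c59 LD3_c17)) :=
  Lgr Lrot76 (Lpe (f398944 IH) (Lpr_ff (K31.f398773 IH) (Lpr_gt (f732015 IH) (Lpn (LP (LK LD1_c25 LD2_c59 LD3_c17))))))
theorem f243214 : Led Lsl_gt (LP (LK LD1_c8 LD2_c40 LD3_c39)) = (LP (LK LD1_c4 LD2_c21 LD3_c32)) :=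
  Lre_g IH (LK LD1_c8 LD2_c40 LD3_c39) (LK LD1_c4 LD2_c21 LD3_c32) Lrfl Lrfl
theorem f243215 : Led Lsl_ct (LP (LK LD1_c16 LD2_c15 LD3_c5)) = (LP (LK LD1_c8 LD2_c40 LD3_c39)) :=
  Lre_c IH (LK LD1_c16 LD2_c15 LD3_c5) (LK LD1_c8 LD2_c40 LD3_c39) Lrfl Lrfl
theorem f732011 : Led Lsl_dt (LP (LK LD1_c26 LD2_c12 LD3_c31)) = (LP (LK LD1_c25 LD2_c59 LD3_c17)) :=
  Lgr Lrot42 (Lpr_df (f732009 IH) (Lpn (LP (LK LD1_c25 LD2_c59 LD3_c17))))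
theorem f732021 : Led Lsl_gf (LP (LK LD1_c16 LD2_c15 LD3_c5)) = (LP (LK LD1_c26 LD2_c12 LD3_c31)) :=
  Lgr Lrot147 (Lpr_ct (f243215 IH) (Lpr_gt (f243214 IH) (Lpe (K27.f243194 IH) (Lpe (K38.f243196 IH) (Lpe (K30.f243197 IH) (Lpe (K31.f243228 IH) (Lpr_cf (K31.f398394 IH) (Lpr_gf (f732019 IH) (Lpe (f732011 IH) (Lpn (LP (LK LD1_c26 LD2_c12 LD3_c31))))))))))))
theorem f178836 : Led Lsl_gt (LP (LK LD1_c10 LD2_c52 LD3_c3)) = (LP (LK LD1_c5 LD2_c30 LD3_c19)) :=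
  Lre_g IH (LK LD1_c10 LD2_c52 LD3_c3) (LK LD1_c5 LD2_c30 LD3_c19) Lrfl Lrfl
theorem f400625 : Led Lsl_gf (LP (LK LD1_c10 LD2_c52 LD3_c3)) = (LP (LK LD1_c15 LD2_c46 LD3_c46)) :=
  Lgr Lrot47 (Lpr_gt (f178836 IH) (Lpe (K40.f295657 IH) (Lpr_ff (K40.f400620 IH) (Lpn (LP (LK LD1_c15 LD2_c46 LD3_c46))))))
theorem f51816 : Led Lsl_dt (LP (LK LD1_c4 LD2_c11 LD3_c55)) = (LP (LK LD1_c2 LD2_c3 LD3_c6)) :=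
  Lre_d IH (LK LD1_c4 LD2_c11 LD3_c55) (LK LD1_c2 LD2_c3 LD3_c6) Lrfl Lrfl
theorem f1117 : Led Lsl_gt (LP (LK LD1_c2 LD2_c3 LD3_c6)) = (LP (LK LD1_c0 LD2_c58 LD3_c27)) :=
  Lre_g IH (LK LD1_c2 LD2_c3 LD3_c6) (LK LD1_c0 LD2_c58 LD3_c27) Lrfl Lrfl
theorem f1109 : Led Lsl_dt (LP (LK LD1_c0 LD2_c58 LD3_c27)) = (LP (LK LD1_c2 LD2_c3 LD3_c8)) :=
  Lre_d IH (LK LD1_c0 LD2_c58 LD3_c27) (LK LD1_c2 LD2_c3 LD3_c8) Lrfl Lrfl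
theorem f400627 : Led Lsl_dt (LP (LK LD1_c10 LD2_c52 LD3_c3)) = (LP (LK LD1_c15 LD2_c47 LD3_c10)) :=
  Lgr Lrot57 (Lpr_gf (f400625 IH) (Lpe (K40.f400534 IH) (Lpr_gt (K40.f400617 IH) (Lpr_dt (f51816 IH) (Lpr_gt (f1117 IH) (Lpr_dt (f1109 IH) (Lpe (K30.f51694 IH) (Lpe (K30.f51804 IH) (Lpe (K30.f51826 IH) (Lpn (LP (LK LD1_c15 LD2_c47 LD3_c10))))))))))))
theorem f400631 : Led Lsl_df (LP (LK LD1_c10 LD2_c52 LD3_c3)) = (LP (LK LD1_c15 LD2_c47 LD3_c10)) :=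
  Lgr Lrot38 (Lpr_dt (f400627 IH) (Lpn (LP (LK LD1_c15 LD2_c47 LD3_c10))))
theorem f400633 : Led Lsl_bt (LP (LK LD1_c10 LD2_c52 LD3_c3)) = (LP (LK LD1_c19 LD2_c38 LD3_c55)) :=
  Lre_b IH (LK LD1_c10 LD2_c52 LD3_c3) (LK LD1_c19 LD2_c38 LD3_c55) Lrfl Lrfl
theorem f400634 : Led Lsl_dt (LP (LK LD1_c19 LD2_c38 LD3_c55)) = (LP (LK LD1_c25 LD2_c43 LD3_c56)) :=
  Lgr Lrot79 (Lpe (f400633 IH) (Lpr_df (f400631 IH) (Lpe (K30.f51832 IH) (Lpn (LP (LK LD1_c25 LD2_c43 LD3_c56))))))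
theorem f400637 : Led Lsl_gf (LP (LK LD1_c19 LD2_c38 LD3_c55)) = (LP (LK LD1_c16 LD2_c15 LD3_c5)) :=
  Lgr Lrot144 (Lpr_dt (f400634 IH) (Lpe (K38.f398956 IH) (Lpr_dt (K31.f397928 IH) (Lpe (K31.f270421 IH) (Lpe (K31.f398414 IH) (Lpe (K31.f225672 IH) (Lpe (f243198 IH) (Lpe (f243214 IH) (Lpe (f243215 IH) (Lpn (LP (LK LD1_c16 LD2_c15 LD3_c5))))))))))))
theorem f400636 : Led Lsl_at (LP (LK LD1_c29 LD2_c0 LD3_c18)) = (LP (LK LD1_c19 LD2_c38 LD3_c55)) :=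
  Lre_a IH (LK LD1_c29 LD2_c0 LD3_c18) (LK LD1_c19 LD2_c38 LD3_c55) Lrfl Lrfl
theorem f732023 : Led Lsl_ff (LP (LK LD1_c29 LD2_c0 LD3_c18)) = (LP (LK LD1_c26 LD2_c12 LD3_c31)) :=
  Lgr Lrot52 (Lpr_at (f400636 IH) (Lpr_gf (f400637 IH) (Lpr_gf (f732021 IH) (Lpn (LP (LK LD1_c26 LD2_c12 LD3_c31))))))
theorem f732035 : Led Lsl_ft (LP (LK LD1_c29 LD2_c0 LD3_c18)) = (LP (LK LD1_c26 LD2_c12 LD3_c31)) :=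
  Lgr Lrot48 (Lpr_ff (f732023 IH) (Lpn (LP (LK LD1_c26 LD2_c12 LD3_c31))))
theorem f51927 : Led Lsl_bt (LP (LK LD1_c2 LD2_c5 LD3_c34)) = (LP (LK LD1_c4 LD2_c16 LD3_c32)) :=
  Lre_b IH (LK LD1_c2 LD2_c5 LD3_c34) (LK LD1_c4 LD2_c16 LD3_c32) Lrfl Lrfl
theorem f399113 : Led Lsl_cf (LP (LK LD1_c25 LD2_c4 LD3_c55)) = (LP (LK LD1_c16 LD2_c1 LD3_c50)) :=
  Lgr Lrot163 (Lpr_gf (K31.f399109 IH) (Lpe (K31.f398407 IH) (Lpe (K31.f243526 IH) (Lpe (K31.f243519 IH) (Lpr_ct (K13.f243520 IH) (Lpe (K13.f52087 IH) (Lpe (K12.f221069 IH) (Lpr_bt (f51927 IH) (Lpe (K50.f1069 IH) (Lpe (f51851 IH) (Lpn (LP (LK LD1_c16 LD2_c1 LD3_c50)))))))))))))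
theorem f399119 : Led Lsl_gt (LP (LK LD1_c25 LD2_c58 LD3_c5)) = (LP (LK LD1_c16 LD2_c1 LD3_c50)) :=
  Lgr Lrot9 (Lpe (K31.f250582 IH) (Lpr_gt (K38.f398263 IH) (Lpr_ct (K31.f52104 IH) (Lpe (K38.f397814 IH) (Lpr_ct (K30.f260562 IH) (Lpe (K38.f399085 IH) (Lpe (K31.f373753 IH) (Lpe (K31.f374649 IH) (Lpr_cf (f399113 IH) (Lpn (LP (LK LD1_c16 LD2_c1 LD3_c50))))))))))))
theorem f399115 : Led Lsl_at (LP (LK LD1_c25 LD2_c59 LD3_c17)) = (LP (LK LD1_c16 LD2_c1 LD3_c50)) :=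
  Lre_a IH (LK LD1_c25 LD2_c59 LD3_c17) (LK LD1_c16 LD2_c1 LD3_c50) Lrfl Lrfl
theorem f399158 : Led Lsl_ft (LP (LK LD1_c31 LD2_c45 LD3_c39)) = (LP (LK LD1_c25 LD2_c59 LD3_c17)) :=
  Lgr Lrot2 (Lpr_gt (K38.f399156 IH) (Lpr_gt (f399119 IH) (Lpe (f399115 IH) (Lpn (LP (LK LD1_c25 LD2_c59 LD3_c17))))))
theorem f399160 : Led Lsl_ff (LP (LK LD1_c31 LD2_c45 LD3_c39)) = (LP (LK LD1_c25 LD2_c59 LD3_c17)) :=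
  Lgr Lrot3 (Lpr_ft (f399158 IH) (Lpn (LP (LK LD1_c25 LD2_c59 LD3_c17))))
theorem f732039 : Led Lsl_df (LP (LK LD1_c29 LD2_c0 LD3_c18)) = (LP (LK LD1_c31 LD2_c45 LD3_c39)) :=
  Lgr Lrot78 (Lpr_ft (f732035 IH) (Lpr_dt (f732011 IH) (Lpe (f399160 IH) (Lpn (LP (LK LD1_c31 LD2_c45 LD3_c39))))))
theorem f732043 : Led Lsl_at (LP (LK LD1_c25 LD2_c43 LD3_c56)) = (LP (LK LD1_c31 LD2_c45 LD3_c39)) :=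
  Lgr Lrot51 (Lpe (f400634 IH) (Lpe (f400636 IH) (Lpr_df (f732039 IH) (Lpn (LP (LK LD1_c31 LD2_c45 LD3_c39))))))
theorem f732047 : Led Lsl_ff (LP (LK LD1_c25 LD2_c43 LD3_c56)) = (LP (LK LD1_c16 LD2_c1 LD3_c50)) :=
  Lgr Lrot30 (Lpr_at (f732043 IH) (Lpr_ft (f399158 IH) (Lpr_at (f399115 IH) (Lpn (LP (LK LD1_c16 LD2_c1 LD3_c50))))))
theorem f399116 : Led Lsl_bt (LP (LK LD1_c8 LD2_c32 LD3_c17)) = (LP (LK LD1_c16 LD2_c1 LD3_c50)) :=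
  Lre_b IH (LK LD1_c8 LD2_c32 LD3_c17) (LK LD1_c16 LD2_c1 LD3_c50) Lrfl Lrfl
theorem f732049 : Led Lsl_ft (LP (LK LD1_c15 LD2_c47 LD3_c10)) = (LP (LK LD1_c8 LD2_c32 LD3_c17)) :=
  Lgr Lrot75 (Lpe (K30.f51832 IH) (Lpr_ff (f732047 IH) (Lpe (f399116 IH) (Lpn (LP (LK LD1_c8 LD2_c32 LD3_c17))))))
theorem f52015 : Led Lsl_gt (LP (LK LD1_c8 LD2_c23 LD3_c41)) = (LP (LK LD1_c15 LD2_c47 LD3_c9)) :=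
  Lre_g IH (LK LD1_c8 LD2_c23 LD3_c41) (LK LD1_c15 LD2_c47 LD3_c9) Lrfl Lrfl
theorem f732179 : Led Lsl_af (LP (LK LD1_c15 LD2_c47 LD3_c9)) = (LP (LK LD1_c8 LD2_c32 LD3_c17)) :=
  Lgr Lrot31 (Lpe (f52015 IH) (Lpe (K30.f51826 IH) (Lpr_ft (f732049 IH) (Lpn (LP (LK LD1_c8 LD2_c32 LD3_c17))))))
theorem f732181 : Led Lsl_at (LP (LK LD1_c15 LD2_c47 LD3_c9)) = (LP (LK LD1_c8 LD2_c32 LD3_c17)) :=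
  Lgr Lrot100 (Lpr_af (f732179 IH) (Lpn (LP (LK LD1_c8 LD2_c32 LD3_c17))))
theorem f51833 : Led Lsl_at (LP (LK LD1_c8 LD2_c32 LD3_c15)) = (LP (LK LD1_c4 LD2_c16 LD3_c32)) :=
  Lre_a IH (LK LD1_c8 LD2_c32 LD3_c15) (LK LD1_c4 LD2_c16 LD3_c32) Lrfl Lrfl
theorem f51844 : Led Lsl_gf (LP (LK LD1_c8 LD2_c32 LD3_c17)) = (LP (LK LD1_c15 LD2_c46 LD3_c61)) :=
  Lgr Lrot47 (Lpr_gt (K50.f1069 IH) (Lpe (f51833 IH) (Lpr_ff (K30.f51824 IH) (Lpn (LP (LK LD1_c15 LD2_c46 LD3_c61))))))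
theorem f51834 : Led Lsl_at (LP (LK LD1_c8 LD2_c23 LD3_c41)) = (LP (LK LD1_c15 LD2_c46 LD3_c61)) :=
  Lre_a IH (LK LD1_c8 LD2_c23 LD3_c41) (LK LD1_c15 LD2_c46 LD3_c61) Lrfl Lrfl
theorem f51835 : Led Lsl_ft (LP (LK LD1_c4 LD2_c16 LD3_c32)) = (LP (LK LD1_c8 LD2_c23 LD3_c41)) :=
  Lgr Lrot101 (Lpe (f51833 IH) (Lpr_ff (K30.f51824 IH) (Lpe (f51834 IH) (Lpn (LP (LK LD1_c8 LD2_c23 LD3_c41))))))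
theorem f1074 : Led Lsl_gt (LP (LK LD1_c4 LD2_c16 LD3_c32)) = (LP (LK LD1_c8 LD2_c32 LD3_c16)) :=
  Lre_g IH (LK LD1_c4 LD2_c16 LD3_c32) (LK LD1_c8 LD2_c32 LD3_c16) Lrfl Lrfl
theorem f52037 : Led Lsl_gt (LP (LK LD1_c8 LD2_c32 LD3_c16)) = (LP (LK LD1_c15 LD2_c46 LD3_c61)) :=
  Lgr Lrot46 (Lpe (f1074 IH) (Lpr_ft (f51835 IH) (Lpr_at (f51834 IH) (Lpn (LP (LK LD1_c15 LD2_c46 LD3_c61))))))
theorem f732199 : Led Lsl_ff (LP (LK LD1_c15 LD2_c47 LD3_c9)) = (LP (LK LD1_c8 LD2_c32 LD3_c16)) :=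
  Lgr Lrot52 (Lpr_at (f732181 IH) (Lpr_gf (f51844 IH) (Lpe (f52037 IH) (Lpn (LP (LK LD1_c8 LD2_c32 LD3_c16))))))
theorem f732177 : Led Lsl_ff (LP (LK LD1_c15 LD2_c47 LD3_c10)) = (LP (LK LD1_c8 LD2_c32 LD3_c17)) :=
  Lgr Lrot3 (Lpr_ft (f732049 IH) (Lpn (LP (LK LD1_c8 LD2_c32 LD3_c17))))
theorem f732201 : Led Lsl_at (LP (LK LD1_c15 LD2_c47 LD3_c10)) = (LP (LK LD1_c8 LD2_c32 LD3_c16)) :=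
  Lgr Lrot66 (Lpr_ff (f732177 IH) (Lpe (f732181 IH) (Lpr_ff (f732199 IH) (Lpn (LP (LK LD1_c8 LD2_c32 LD3_c16))))))
theorem f717534 : Led Lsl_ct (LP (LK LD1_c15 LD2_c58 LD3_c12)) = K52.v13971 :=
  Lgr Lrot59 (Lpr_cf (K52.f717531 IH) (Lpn K52.v13971))
theorem f620753 : Led Lsl_ct (LP (LK LD1_c15 LD2_c40 LD3_c11)) = (LP (LK LD1_c25 LD2_c35 LD3_c35)) :=
  Lre_c IH (LK LD1_c15 LD2_c40 LD3_c11) (LK LD1_c25 LD2_c35 LD3_c35) Lrfl Lrfl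
theorem f52042 : Led Lsl_ct (LP (LK LD1_c16 LD2_c1 LD3_c49)) = (LP (LK LD1_c8 LD2_c32 LD3_c16)) :=
  Lre_c IH (LK LD1_c16 LD2_c1 LD3_c49) (LK LD1_c8 LD2_c32 LD3_c16) Lrfl Lrfl
theorem f732218 : Led Lsl_dt (LP (LK LD1_c25 LD2_c35 LD3_c35)) = (LP (LK LD1_c16 LD2_c1 LD3_c49)) :=
  Lgr Lrot120 (Lpe (f620753 IH) (Lpe (K50.f620944 IH) (Lpe (K50.f620978 IH) (Lpr_df (K52.f717527 IH) (Lpe (f717534 IH) (Lpe (f693416 IH) (Lpe (f732177 IH) (Lpr_at (f732201 IH) (Lpe (f52042 IH) (Lpn (LP (LK LD1_c16 LD2_c1 LD3_c49))))))))))))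
theorem f732219 : Led Lsl_dt (LP (LK LD1_c25 LD2_c35 LD3_c35)) = (LP (LK LD1_c16 LD2_c1 LD3_c49)) :=
  Leop (Lpe (f732218 IH) (Lpn (LP (LK LD1_c25 LD2_c35 LD3_c35))))
theorem seed_880 : LEOK LG_d (LK LD1_c25 LD2_c35 LD3_c35) :=
  Leoe_d (LK LD1_c25 LD2_c35 LD3_c35) (f732219 IH)
def v15124 : LQ := Led Lsl_ft (LP (LK LD1_c5 LD2_c32 LD3_c40))
theorem f732441 : Led Lsl_ft (LP (LK LD1_c5 LD2_c32 LD3_c40)) = v15124 :=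
  Lrfl
theorem f280687 : Led Lsl_gt (LP (LK LD1_c5 LD2_c32 LD3_c40)) = (LP (LK LD1_c10 LD2_c57 LD3_c4)) :=
  Lre_g IH (LK LD1_c5 LD2_c32 LD3_c40) (LK LD1_c10 LD2_c57 LD3_c4) Lrfl Lrfl
theorem f280668 : Led Lsl_at (LP (LK LD1_c2 LD2_c42 LD3_c31)) = (LP (LK LD1_c5 LD2_c32 LD3_c40)) :=
  Lre_a IH (LK LD1_c2 LD2_c42 LD3_c31) (LK LD1_c5 LD2_c32 LD3_c40) Lrfl Lrfl
theorem f281045 : Led Lsl_ft (LP (LK LD1_c5 LD2_c32 LD3_c47)) = (LP (LK LD1_c2 LD2_c42 LD3_c31)) :=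
  Lre_f IH (LK LD1_c5 LD2_c32 LD3_c47) (LK LD1_c2 LD2_c42 LD3_c31) Lrfl Lrfl
theorem f732442 : Led Lsl_af (LP (LK LD1_c5 LD2_c32 LD3_c47)) = v15124 :=
  Lgr Lrot45 (Lpr_ft (f281045 IH) (Lpr_at (f280668 IH) (Lpr_ft (f732441 IH) (Lpn v15124))))
theorem f732445 : Led Lsl_gt (LP (LK LD1_c10 LD2_c57 LD3_c4)) = (LP (LK LD1_c5 LD2_c32 LD3_c47)) :=
  Lgr Lrot46 (Lpe (f280687 IH) (Lpr_ft (f732441 IH) (Lpe (f732442 IH) (Lpn (LP (LK LD1_c5 LD2_c32 LD3_c47))))))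
theorem f732446 : Led Lsl_gt (LP (LK LD1_c10 LD2_c57 LD3_c4)) = (LP (LK LD1_c5 LD2_c32 LD3_c47)) :=
  Leop (Lpe (f732445 IH) (Lpn (LP (LK LD1_c10 LD2_c57 LD3_c4))))
theorem seed_881 : LEOK LG_g (LK LD1_c10 LD2_c57 LD3_c4) :=
  Leoe_g (LK LD1_c10 LD2_c57 LD3_c4) (f732446 IH)
def v15137 : LQ := Led Lsl_at (LP (LK LD1_c5 LD2_c32 LD3_c49))
theorem f732512 : Led Lsl_at (LP (LK LD1_c5 LD2_c32 LD3_c49)) = v15137 :=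
  Lrfl
def v12271 : LQ := Led Lsl_ft (LP (LK LD1_c3 LD2_c58 LD3_c41))
theorem f689098 : Led Lsl_ft (LP (LK LD1_c3 LD2_c58 LD3_c41)) = v12271 :=
  Lrfl
def v12270 : LQ := Led Lsl_at (LP (LK LD1_c3 LD2_c58 LD3_c41))
theorem f689092 : Led Lsl_at (LP (LK LD1_c3 LD2_c58 LD3_c41)) = v12270 :=
  Lrfl
theorem f689093 : Led Lsl_af (LP (LK LD1_c3 LD2_c58 LD3_c41)) = v12270 :=
  Lgr Lrot0 (Lpr_at (f689092 IH) (Lpn v12270))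
theorem f689094 : Led Lsl_df K49.v4538 = v12270 :=
  Lgr Lrot18 (Lpe (K49.f636020 IH) (Lpe (K25.f358434 IH) (Lpr_at (f689092 IH) (Lpn v12270))))
theorem f636022 : Led Lsl_ff (LP (LK LD1_c2 LD2_c25 LD3_c53)) = K49.v4538 :=
  Lgr Lrot3 (Lpr_ft (K49.f636021 IH) (Lpn K49.v4538))
theorem f363405 : Led Lsl_dt (LP (LK LD1_c2 LD2_c25 LD3_c53)) = (LP (LK LD1_c3 LD2_c58 LD3_c42)) :=
  Lgr Lrot42 (Lpr_df (K26.f363400 IH) (Lpn (LP (LK LD1_c3 LD2_c58 LD3_c42))))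
theorem f689096 : Led Lsl_ft (LP (LK LD1_c3 LD2_c58 LD3_c42)) = v12270 :=
  Lgr Lrot54 (Lpe (f363405 IH) (Lpr_ff (f636022 IH) (Lpr_df (f689094 IH) (Lpn v12270))))
theorem f689099 : Led Lsl_af (LP (LK LD1_c3 LD2_c58 LD3_c42)) = v12271 :=
  Lgr Lrot45 (Lpr_ft (f689096 IH) (Lpe (f689093 IH) (Lpr_ft (f689098 IH) (Lpn v12271))))
theorem f636026 : Led Lsl_at (LP (LK LD1_c2 LD2_c25 LD3_c53)) = K49.v4539 :=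
  Lgr Lrot66 (Lpr_ff (f636022 IH) (Lpe (K49.f636019 IH) (Lpr_ff (K49.f636025 IH) (Lpn K49.v4539))))
def v4529 : LQ := Led Lsl_at (LP (LK LD1_c2 LD2_c24 LD3_c6))
theorem f634393 : Led Lsl_at (LP (LK LD1_c2 LD2_c24 LD3_c6)) = v4529 :=
  Lrfl
theorem f634394 : Led Lsl_af (LP (LK LD1_c2 LD2_c24 LD3_c6)) = v4529 :=
  Lgr Lrot0 (Lpr_at (f634393 IH) (Lpn v4529))
theorem f634395 : Led Lsl_ft (LP (LK LD1_c2 LD2_c24 LD3_c6)) = v4529 :=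
  Lgr Lrot2 (Lpr_gt (K21.f2784 IH) (Lpr_gt (K21.f1536 IH) (Lpr_af (f634394 IH) (Lpn v4529))))
theorem f634396 : Led Lsl_ff (LP (LK LD1_c2 LD2_c24 LD3_c6)) = v4529 :=
  Lgr Lrot3 (Lpr_ft (f634395 IH) (Lpn v4529))
theorem f690960 : Led Lsl_ff (LP (LK LD1_c4 LD2_c5 LD3_c30)) = K49.v12325 :=
  Lgr Lrot3 (Lpr_ft (K49.f690957 IH) (Lpn K49.v12325))
theorem f690956 : Led Lsl_et K49.v4539 = K49.v12325 :=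
  Lgr Lrot87 (Lpr_ef (K49.f690955 IH) (Lpn K49.v12325))
theorem f690961 : Led Lsl_ft (LP (LK LD1_c8 LD2_c11 LD3_c58)) = (LP (LK LD1_c4 LD2_c56 LD3_c8)) :=
  Lgr Lrot86 (Lpe (K25.f237991 IH) (Lpr_ff (f690960 IH) (Lpe (f690956 IH) (Lpe (K49.f636023 IH) (Lpe (K25.f168887 IH) (Lpn (LP (LK LD1_c4 LD2_c56 LD3_c8))))))))
theorem f378302 : Led Lsl_et (LP (LK LD1_c2 LD2_c24 LD3_c30)) = (LP (LK LD1_c2 LD2_c23 LD3_c59)) :=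
  Lgr Lrot87 (Lpr_ef (K35.f378298 IH) (Lpn (LP (LK LD1_c2 LD2_c23 LD3_c59))))
theorem f212625 : Led Lsl_gt (LP (LK LD1_c2 LD2_c3 LD3_c32)) = (LP (LK LD1_c4 LD2_c12 LD3_c39)) :=
  Lre_g IH (LK LD1_c2 LD2_c3 LD3_c32) (LK LD1_c4 LD2_c12 LD3_c39) Lrfl Lrfl
theorem f378331 : Led Lsl_df (LP (LK LD1_c8 LD2_c11 LD3_c58)) = (LP (LK LD1_c4 LD2_c12 LD3_c39)) :=
  Lgr Lrot135 (Lpr_gt (K25.f355175 IH) (Lpe (K35.f167014 IH) (Lpr_et (f378302 IH) (Lpr_gt (K35.f306963 IH) (Lpe (K25.f304948 IH) (Lpe (K14.f180237 IH) (Lpr_gt (K14.f181945 IH) (Lpe (K9.f166990 IH) (Lpr_et (K26.f179026 IH) (Lpr_gt (f212625 IH) (Lpn (LP (LK LD1_c4 LD2_c12 LD3_c39)))))))))))))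
def v4747 : LQ := Led Lsl_at (LP (LK LD1_c2 LD2_c45 LD3_c51))
theorem f638822 : Led Lsl_at (LP (LK LD1_c2 LD2_c45 LD3_c51)) = v4747 :=
  Lrfl
theorem f638823 : Led Lsl_af (LP (LK LD1_c2 LD2_c45 LD3_c51)) = v4747 :=
  Lgr Lrot0 (Lpr_at (f638822 IH) (Lpn v4747))
theorem f638824 : Led Lsl_ft (LP (LK LD1_c2 LD2_c45 LD3_c52)) = v4747 :=
  Lgr Lrot2 (Lpr_gt (K25.f178128 IH) (Lpr_gt (K21.f170081 IH) (Lpr_af (f638823 IH) (Lpn v4747))))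
theorem f690969 : (LP (LK LD1_c4 LD2_c12 LD3_c39)) = v4747 :=
  (Llr Lrot78 (Lpe (f378331 IH) (Lpr_ft (f690961 IH) (Lpr_dt (K25.f358439 IH) (Lpr_ft (f638824 IH) (Lpn v4747)))))).symm
theorem f358445 : Led Lsl_ct (LP (LK LD1_c5 LD2_c39 LD3_c52)) = (LP (LK LD1_c2 LD2_c45 LD3_c52)) :=
  Lre_c IH (LK LD1_c5 LD2_c39 LD3_c52) (LK LD1_c2 LD2_c45 LD3_c52) Lrfl Lrfl
theorem f378333 : Led Lsl_et (LP (LK LD1_c4 LD2_c12 LD3_c39)) = (LP (LK LD1_c4 LD2_c53 LD3_c45)) :=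
  Lgr Lrot122 (Lpe (f378331 IH) (Lpr_gt (K25.f355175 IH) (Lpe (K35.f167014 IH) (Lpr_et (f378302 IH) (Lpr_gt (K35.f306963 IH) (Lpr_dt (K19.f306960 IH) (Lpr_gt (K25.f21329 IH) (Lpr_df (K25.f166728 IH) (Lpr_et (K26.f166730 IH) (Lpe (K26.f306973 IH) (Lpn (LP (LK LD1_c4 LD2_c53 LD3_c45)))))))))))))
theorem f378339 : Led Lsl_ef (LP (LK LD1_c4 LD2_c12 LD3_c39)) = (LP (LK LD1_c4 LD2_c53 LD3_c45)) :=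
  Lgr Lrot88 (Lpr_et (f378333 IH) (Lpn (LP (LK LD1_c4 LD2_c53 LD3_c45))))
theorem f378341 : Led Lsl_bt (LP (LK LD1_c4 LD2_c12 LD3_c39)) = (LP (LK LD1_c8 LD2_c24 LD3_c57)) :=
  Lre_b IH (LK LD1_c4 LD2_c12 LD3_c39) (LK LD1_c8 LD2_c24 LD3_c57) Lrfl Lrfl
theorem f171365 : Led Lsl_bt (LP (LK LD1_c9 LD2_c39 LD3_c16)) = (LP (LK LD1_c4 LD2_c53 LD3_c45)) :=
  Lre_b IH (LK LD1_c9 LD2_c39 LD3_c16) (LK LD1_c4 LD2_c53 LD3_c45) Lrfl Lrfl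
theorem f378342 : Led Lsl_et (LP (LK LD1_c8 LD2_c24 LD3_c57)) = (LP (LK LD1_c9 LD2_c39 LD3_c16)) :=
  Lgr Lrot74 (Lpe (f378341 IH) (Lpr_ef (f378339 IH) (Lpe (f171365 IH) (Lpn (LP (LK LD1_c9 LD2_c39 LD3_c16))))))
theorem f328200 : Led Lsl_dt (LP (LK LD1_c9 LD2_c39 LD3_c16)) = (LP (LK LD1_c4 LD2_c53 LD3_c44)) :=
  Lre_d IH (LK LD1_c9 LD2_c39 LD3_c16) (LK LD1_c4 LD2_c53 LD3_c44) Lrfl Lrfl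
theorem f328199 : Led Lsl_et (LP (LK LD1_c4 LD2_c53 LD3_c44)) = (LP (LK LD1_c9 LD2_c39 LD3_c17)) :=
  Lre_e IH (LK LD1_c4 LD2_c53 LD3_c44) (LK LD1_c9 LD2_c39 LD3_c17) Lrfl Lrfl
theorem f328196 : Led Lsl_et (LP (LK LD1_c8 LD2_c11 LD3_c30)) = (LP (LK LD1_c15 LD2_c25 LD3_c26)) :=
  Lre_e IH (LK LD1_c8 LD2_c11 LD3_c30) (LK LD1_c15 LD2_c25 LD3_c26) Lrfl Lrfl
theorem f378346 : Led Lsl_df (LP (LK LD1_c8 LD2_c24 LD3_c57)) = (LP (LK LD1_c15 LD2_c25 LD3_c26)) :=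
  Lgr Lrot70 (Lpr_et (f378342 IH) (Lpr_dt (f328200 IH) (Lpr_et (f328199 IH) (Lpr_dt (K21.f328190 IH) (Lpr_et (f328196 IH) (Lpn (LP (LK LD1_c15 LD2_c25 LD3_c26))))))))
theorem f368499 : Led Lsl_et (LP (LK LD1_c17 LD2_c52 LD3_c38)) = (LP (LK LD1_c11 LD2_c57 LD3_c10)) :=
  Lgr Lrot87 (Lpr_ef (f368491 IH) (Lpn (LP (LK LD1_c11 LD2_c57 LD3_c10))))
theorem f368464 : Led Lsl_df (LP (LK LD1_c11 LD2_c57 LD3_c10)) = (LP (LK LD1_c8 LD2_c13 LD3_c25)) :=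
  Lgr Lrot18 (Lpr_at (K27.f169062 IH) (Lpr_dt (K26.f169014 IH) (Lpr_at (K27.f368458 IH) (Lpn (LP (LK LD1_c8 LD2_c13 LD3_c25))))))
theorem f368497 : Led Lsl_dt (LP (LK LD1_c17 LD2_c52 LD3_c38)) = (LP (LK LD1_c16 LD2_c49 LD3_c34)) :=
  Lgr Lrot77 (Lpr_ef (f368491 IH) (Lpr_df (f368464 IH) (Lpe (K27.f368476 IH) (Lpr_df (K27.f358743 IH) (Lpe (f358680 IH) (Lpn (LP (LK LD1_c16 LD2_c49 LD3_c34))))))))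
theorem f368397 : Led Lsl_gf (LP (LK LD1_c7 LD2_c58 LD3_c24)) = (LP (LK LD1_c11 LD2_c57 LD3_c10)) :=
  Lgr Lrot76 (Lpr_af (K26.f359818 IH) (Lpe (K26.f223963 IH) (Lpr_gt (K27.f368395 IH) (Lpn (LP (LK LD1_c11 LD2_c57 LD3_c10))))))
theorem f368515 : Led Lsl_gf (LP (LK LD1_c16 LD2_c49 LD3_c34)) = (LP (LK LD1_c11 LD2_c4 LD3_c49)) :=
  Lgr Lrot134 (Lpe (f368497 IH) (Lpr_et (f368499 IH) (Lpe (f368397 IH) (Lpr_ef (K25.f223116 IH) (Lpr_dt (K10.f47970 IH) (Lpr_gt (K10.f47205 IH) (Lpe (K10.f47099 IH) (Lpr_et (K17.f47426 IH) (Lpr_gt (K21.f173585 IH) (Lpe (K26.f312590 IH) (Lpn (LP (LK LD1_c11 LD2_c4 LD3_c49)))))))))))))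
theorem f178232 : Led Lsl_at (LP (LK LD1_c5 LD2_c36 LD3_c56)) = (LP (LK LD1_c2 LD2_c44 LD3_c20)) :=
  Lre_a IH (LK LD1_c5 LD2_c36 LD3_c56) (LK LD1_c2 LD2_c44 LD3_c20) Lrfl Lrfl
theorem f356368 : Led Lsl_gt (LP (LK LD1_c7 LD2_c57 LD3_c61)) = (LP (LK LD1_c5 LD2_c36 LD3_c55)) :=
  Lgr Lrot5 (Lpr_ft (K26.f356360 IH) (Lpr_at (f178232 IH) (Lpe (K25.f178231 IH) (Lpn (LP (LK LD1_c5 LD2_c36 LD3_c55))))))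
theorem f328197 : Led Lsl_df (LP (LK LD1_c9 LD2_c39 LD3_c17)) = (LP (LK LD1_c8 LD2_c11 LD3_c30)) :=
  Lgr Lrot38 (Lpr_dt (K21.f328190 IH) (Lpn (LP (LK LD1_c8 LD2_c11 LD3_c30))))
theorem f368519 : Led Lsl_gt (LP (LK LD1_c9 LD2_c39 LD3_c17)) = (LP (LK LD1_c11 LD2_c4 LD3_c48)) :=
  Lgr Lrot139 (Lpr_df (f328197 IH) (Lpr_gf (K21.f328213 IH) (Lpr_ef (K26.f317435 IH) (Lpr_dt (K26.f353943 IH) (Lpe (f356368 IH) (Lpr_df (K27.f358743 IH) (Lpr_et (K26.f358675 IH) (Lpr_gf (f368515 IH) (Lpe (K21.f312581 IH) (Lpr_dt (K26.f181258 IH) (Lpn (LP (LK LD1_c11 LD2_c4 LD3_c48)))))))))))))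
theorem f368350 : Led Lsl_at (LP (LK LD1_c7 LD2_c57 LD3_c61)) = (LP (LK LD1_c4 LD2_c30 LD3_c59)) :=
  Lgr Lrot26 (Lpr_ff (K27.f356346 IH) (Lpr_gt (K27.f368348 IH) (Lpr_gt (K26.f358566 IH) (Lpn (LP (LK LD1_c4 LD2_c30 LD3_c59))))))
theorem f368466 : Led Lsl_ef (LP (LK LD1_c7 LD2_c57 LD3_c61)) = (LP (LK LD1_c8 LD2_c13 LD3_c25)) :=
  Lgr Lrot20 (Lpr_at (f368350 IH) (Lpr_et (K26.f169023 IH) (Lpr_at (K27.f368458 IH) (Lpn (LP (LK LD1_c8 LD2_c13 LD3_c25))))))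
theorem f368513 : Led Lsl_df (LP (LK LD1_c17 LD2_c52 LD3_c38)) = (LP (LK LD1_c16 LD2_c49 LD3_c34)) :=
  Lgr Lrot70 (Lpr_et (f368499 IH) (Lpr_dt (f368474 IH) (Lpe (f368466 IH) (Lpe (K27.f358739 IH) (Lpr_et (K26.f358675 IH) (Lpn (LP (LK LD1_c16 LD2_c49 LD3_c34))))))))
theorem f368503 : Led Lsl_gt (LP (LK LD1_c17 LD2_c52 LD3_c38)) = (LP (LK LD1_c9 LD2_c43 LD3_c28)) :=
  Lgr Lrot137 (Lpr_ef (f368491 IH) (Lpr_dt (f368474 IH) (Lpe (K27.f54978 IH) (Lpe (K12.f187351 IH) (Lpr_et (K25.f55094 IH) (Lpe (K9.f55290 IH) (Lpe (K26.f55281 IH) (Lpr_dt (K26.f55261 IH) (Lpe (K19.f55282 IH) (Lpe (K19.f55285 IH) (Lpn (LP (LK LD1_c9 LD2_c43 LD3_c28)))))))))))))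
theorem f307399 : Led Lsl_et (LP (LK LD1_c4 LD2_c55 LD3_c52)) = (LP (LK LD1_c9 LD2_c38 LD3_c54)) :=
  Lgr Lrot87 (Lpr_ef (K19.f307171 IH) (Lpn (LP (LK LD1_c9 LD2_c38 LD3_c54))))
theorem f368523 : Led Lsl_gf (LP (LK LD1_c15 LD2_c25 LD3_c26)) = (LP (LK LD1_c9 LD2_c38 LD3_c54)) :=
  Lgr Lrot141 (Lpe (f328196 IH) (Lpe (f328197 IH) (Lpr_gt (f368519 IH) (Lpe (K26.f181258 IH) (Lpr_et (K21.f312581 IH) (Lpe (f368515 IH) (Lpe (f368513 IH) (Lpr_gt (f368503 IH) (Lpe (K19.f307396 IH) (Lpr_et (f307399 IH) (Lpn (LP (LK LD1_c9 LD2_c38 LD3_c54)))))))))))))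
theorem f378350 : Led Lsl_gt (LP (LK LD1_c8 LD2_c24 LD3_c57)) = (LP (LK LD1_c8 LD2_c36 LD3_c8)) :=
  Lgr Lrot139 (Lpr_df (f378346 IH) (Lpr_gf (f368523 IH) (Lpe (f307399 IH) (Lpr_dt (K19.f307396 IH) (Lpe (f368503 IH) (Lpr_df (f368513 IH) (Lpr_et (f358680 IH) (Lpr_gf (K27.f368335 IH) (Lpr_ef (K27.f331023 IH) (Lpr_dt (K26.f329447 IH) (Lpn (LP (LK LD1_c8 LD2_c36 LD3_c8)))))))))))))
theorem f245915 : Led Lsl_bt (LP (LK LD1_c2 LD2_c41 LD3_c23)) = (LP (LK LD1_c1 LD2_c17 LD3_c30)) :=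
  Lre_b IH (LK LD1_c2 LD2_c41 LD3_c23) (LK LD1_c1 LD2_c17 LD3_c30) Lrfl Lrfl
theorem f301155 : Led Lsl_ct (LP (LK LD1_c5 LD2_c30 LD3_c54)) = (LP (LK LD1_c10 LD2_c53 LD3_c20)) :=
  Lre_c IH (LK LD1_c5 LD2_c30 LD3_c54) (LK LD1_c10 LD2_c53 LD3_c20) Lrfl Lrfl
theorem f348166 : Led Lsl_gf (LP (LK LD1_c10 LD2_c53 LD3_c20)) = (LP (LK LD1_c16 LD2_c4 LD3_c40)) :=
  Lgr Lrot129 (Lpe (f301155 IH) (Lpr_bt (K23.f301154 IH) (Lpr_gt (K21.f179119 IH) (Lpe (f245915 IH) (Lpr_ct (K20.f236214 IH) (Lpr_gt (K23.f295732 IH) (Lpr_cf (K23.f301133 IH) (Lpr_bt (K23.f348156 IH) (Lpr_gt (K23.f329537 IH) (Lpr_ct (K26.f179644 IH) (Lpn (LP (LK LD1_c16 LD2_c4 LD3_c40)))))))))))))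
theorem f245913 : Led Lsl_gt (LP (LK LD1_c2 LD2_c41 LD3_c43)) = (LP (LK LD1_c5 LD2_c30 LD3_c56)) :=
  Lre_g IH (LK LD1_c2 LD2_c41 LD3_c43) (LK LD1_c5 LD2_c30 LD3_c56) Lrfl Lrfl
theorem f378354 : Led Lsl_ct (LP (LK LD1_c4 LD2_c12 LD3_c39)) = (LP (LK LD1_c5 LD2_c30 LD3_c56)) :=
  Lgr Lrot63 (Lpr_bt (f378341 IH) (Lpr_gt (f378350 IH) (Lpe (K26.f179657 IH) (Lpr_ct (K26.f179644 IH) (Lpe (f348166 IH) (Lpe (f301155 IH) (Lpr_bt (K23.f301154 IH) (Lpr_gt (K21.f179119 IH) (Lpr_ct (K25.f245792 IH) (Lpr_gt (f245913 IH) (Lpn (LP (LK LD1_c5 LD2_c30 LD3_c56)))))))))))))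
theorem f690976 : Led Lsl_ff (LP (LK LD1_c5 LD2_c39 LD3_c52)) = (LP (LK LD1_c5 LD2_c30 LD3_c56)) :=
  Lgr Lrot23 (Lpr_ct (f358445 IH) (Lpr_ft (f638824 IH) (Lpq (f690969 IH) (Lpr_ct (f378354 IH) (Lpn (LP (LK LD1_c5 LD2_c30 LD3_c56)))))))
theorem f690978 : Led Lsl_ft (LP (LK LD1_c5 LD2_c39 LD3_c52)) = (LP (LK LD1_c5 LD2_c30 LD3_c56)) :=
  Lgr Lrot48 (Lpr_ff (f690976 IH) (Lpn (LP (LK LD1_c5 LD2_c30 LD3_c56))))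
def v4113 : LQ := Led Lsl_et (LP (LK LD1_c2 LD2_c5 LD3_c49))
theorem f629478 : Led Lsl_et (LP (LK LD1_c2 LD2_c5 LD3_c49)) = v4113 :=
  Lrfl
theorem f1122 : Led Lsl_et (LP (LK LD1_c2 LD2_c3 LD3_c10)) = (LP (LK LD1_c0 LD2_c58 LD3_c28)) :=
  Lre_e IH (LK LD1_c2 LD2_c3 LD3_c10) (LK LD1_c0 LD2_c58 LD3_c28) Lrfl Lrfl
theorem f51636 : Led Lsl_dt (LP (LK LD1_c8 LD2_c23 LD3_c47)) = (LP (LK LD1_c4 LD2_c12 LD3_c2)) :=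
  Lre_d IH (LK LD1_c8 LD2_c23 LD3_c47) (LK LD1_c4 LD2_c12 LD3_c2) Lrfl Lrfl
theorem f167556 : Led Lsl_ct (LP (LK LD1_c2 LD2_c2 LD3_c29)) = (LP (LK LD1_c0 LD2_c58 LD3_c8)) :=
  Lre_c IH (LK LD1_c2 LD2_c2 LD3_c29) (LK LD1_c0 LD2_c58 LD3_c8) Lrfl Lrfl
theorem f170986 : Led Lsl_gt (LP (LK LD1_c4 LD2_c10 LD3_c32)) = (LP (LK LD1_c2 LD2_c2 LD3_c29)) :=
  Lre_g IH (LK LD1_c4 LD2_c10 LD3_c32) (LK LD1_c2 LD2_c2 LD3_c29) Lrfl Lrfl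
theorem f378289 : Led Lsl_ct (LP (LK LD1_c2 LD2_c6 LD3_c51)) = (LP (LK LD1_c4 LD2_c10 LD3_c32)) :=
  Lgr Lrot152 (Lpr_gf (K19.f304983 IH) (Lpe (K10.f166811 IH) (Lpr_gt (K35.f378285 IH) (Lpr_ct (K35.f171336 IH) (Lpe (K35.f378280 IH) (Lpe (K19.f215144 IH) (Lpe (K22.f178546 IH) (Lpe (f167556 IH) (Lpe (f170986 IH) (Lpn (LP (LK LD1_c4 LD2_c10 LD3_c32))))))))))))
theorem f378381 : Led Lsl_et (LP (LK LD1_c4 LD2_c10 LD3_c32)) = (LP (LK LD1_c8 LD2_c21 LD3_c9)) :=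
  Lre_e IH (LK LD1_c4 LD2_c10 LD3_c32) (LK LD1_c8 LD2_c21 LD3_c9) Lrfl Lrfl
theorem f378382 : Led Lsl_cf (LP (LK LD1_c4 LD2_c19 LD3_c3)) = (LP (LK LD1_c8 LD2_c21 LD3_c9)) :=
  Lgr Lrot39 (Lpr_et (K25.f171362 IH) (Lpr_ct (f378289 IH) (Lpr_et (f378381 IH) (Lpn (LP (LK LD1_c8 LD2_c21 LD3_c9))))))
theorem f378384 : Led Lsl_ct (LP (LK LD1_c4 LD2_c19 LD3_c3)) = (LP (LK LD1_c8 LD2_c21 LD3_c9)) :=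
  Lgr Lrot59 (Lpr_cf (f378382 IH) (Lpn (LP (LK LD1_c8 LD2_c21 LD3_c9))))
theorem f39574 : Led Lsl_gt (LP (LK LD1_c26 LD2_c16 LD3_c42)) = (LP (LK LD1_c16 LD2_c18 LD3_c51)) :=
  Lre_g IH (LK LD1_c26 LD2_c16 LD3_c42) (LK LD1_c16 LD2_c18 LD3_c51) Lrfl Lrfl
theorem f1549 : Led Lsl_dt (LP (LK LD1_c9 LD2_c36 LD3_c25)) = (LP (LK LD1_c4 LD2_c52 LD3_c3)) :=
  Lre_d IH (LK LD1_c9 LD2_c36 LD3_c25) (LK LD1_c4 LD2_c52 LD3_c3) Lrfl Lrfl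
theorem f308749 : Led Lsl_cf (LP (LK LD1_c26 LD2_c16 LD3_c42)) = (LP (LK LD1_c17 LD2_c41 LD3_c36)) :=
  Lgr Lrot169 (Lpr_gt (f39574 IH) (Lpr_ct (K9.f39149 IH) (Lpe (K13.f39560 IH) (Lpe (K13.f39136 IH) (Lpe (K13.f39145 IH) (Lpe (K25.f39155 IH) (Lpr_gf (K19.f308743 IH) (Lpe (f1549 IH) (Lpr_gt (K23.f2776 IH) (Lpn (LP (LK LD1_c17 LD2_c41 LD3_c36))))))))))))
theorem f308752 : Led Lsl_ct (LP (LK LD1_c26 LD2_c16 LD3_c42)) = (LP (LK LD1_c17 LD2_c41 LD3_c36)) :=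
  Lgr Lrot59 (Lpr_cf (f308749 IH) (Lpn (LP (LK LD1_c17 LD2_c41 LD3_c36))))
theorem f42938 : Led Lsl_gf (LP (LK LD1_c26 LD2_c16 LD3_c42)) = (LP (LK LD1_c26 LD2_c16 LD3_c43)) :=
  Lgr Lrot47 (Lpr_gt (f39574 IH) (Lpe (K9.f39594 IH) (Lpr_ff (K9.f42932 IH) (Lpn (LP (LK LD1_c26 LD2_c16 LD3_c43))))))
theorem f322582 : Led Lsl_ct (LP (LK LD1_c26 LD2_c0 LD3_c59)) = (LP (LK LD1_c16 LD2_c3 LD3_c36)) :=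
  Lre_c IH (LK LD1_c26 LD2_c0 LD3_c59) (LK LD1_c16 LD2_c3 LD3_c36) Lrfl Lrfl
theorem f341519 : Led Lsl_gt (LP (LK LD1_c17 LD2_c44 LD3_c56)) = (LP (LK LD1_c26 LD2_c0 LD3_c59)) :=
  Lgr Lrot9 (Lpe (K19.f308764 IH) (Lpr_gt (K19.f200094 IH) (Lpr_ct (K13.f200066 IH) (Lpe (f42938 IH) (Lpr_ct (f308752 IH) (Lpr_df (K23.f341515 IH) (Lpe (K23.f39153 IH) (Lpr_gf (K21.f325928 IH) (Lpe (f322582 IH) (Lpn (LP (LK LD1_c26 LD2_c0 LD3_c59))))))))))))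
theorem f232403 : Led Lsl_ct (LP (LK LD1_c24 LD2_c44 LD3_c44)) = (LP (LK LD1_c14 LD2_c57 LD3_c16)) :=
  Lre_c IH (LK LD1_c24 LD2_c44 LD3_c44) (LK LD1_c14 LD2_c57 LD3_c16) Lrfl Lrfl
theorem f354802 : Led Lsl_gt (LP (LK LD1_c17 LD2_c41 LD3_c44)) = (LP (LK LD1_c24 LD2_c44 LD3_c44)) :=
  Lgr Lrot150 (Lpe (K25.f1561 IH) (Lpe (K25.f354770 IH) (Lpr_df (K25.f171356 IH) (Lpr_gt (K25.f354800 IH) (Lpr_ct (K19.f2420 IH) (Lpr_gt (f341519 IH) (Lpr_ct (f322582 IH) (Lpe (K21.f325925 IH) (Lpe (f232403 IH) (Lpn (LP (LK LD1_c24 LD2_c44 LD3_c44))))))))))))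
theorem f178733 : Led Lsl_ct (LP (LK LD1_c4 LD2_c10 LD3_c21)) = (LP (LK LD1_c8 LD2_c20 LD3_c60)) :=
  Lre_c IH (LK LD1_c4 LD2_c10 LD3_c21) (LK LD1_c8 LD2_c20 LD3_c60) Lrfl Lrfl
theorem f361445 : Led Lsl_bf (LP (LK LD1_c7 LD2_c55 LD3_c36)) = (LP (LK LD1_c4 LD2_c10 LD3_c21)) :=
  Lgr Lrot156 (Lpr_gt (K21.f229491 IH) (Lpe (K17.f229657 IH) (Lpr_ct (K26.f229661 IH) (Lpe (K26.f332975 IH) (Lpe (K26.f171455 IH) (Lpr_bt (K26.f304585 IH) (Lpr_gt (K21.f304636 IH) (Lpe (K27.f355926 IH) (Lpr_gt (K27.f361431 IH) (Lpe (f178733 IH) (Lpn (LP (LK LD1_c4 LD2_c10 LD3_c21)))))))))))))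
theorem f361449 : Led Lsl_bt (LP (LK LD1_c14 LD2_c57 LD3_c16)) = (LP (LK LD1_c8 LD2_c20 LD3_c61)) :=
  Lgr Lrot119 (Lpe (K21.f229699 IH) (Lpr_bf (f361445 IH) (Lpe (K21.f178737 IH) (Lpn (LP (LK LD1_c8 LD2_c20 LD3_c61))))))
theorem f27329 : Led Lsl_ct (LP (LK LD1_c4 LD2_c12 LD3_c5)) = (LP (LK LD1_c8 LD2_c23 LD3_c54)) :=
  Lre_c IH (LK LD1_c4 LD2_c12 LD3_c5) (LK LD1_c8 LD2_c23 LD3_c54) Lrfl Lrfl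
theorem f378388 : Led Lsl_gt (LP (LK LD1_c8 LD2_c23 LD3_c54)) = (LP (LK LD1_c8 LD2_c21 LD3_c9)) :=
  Lgr Lrot65 (Lpe (f27329 IH) (Lpr_bt (K22.f322463 IH) (Lpe (K21.f322500 IH) (Lpe (f361449 IH) (Lpr_ct (K22.f232402 IH) (Lpe (f354802 IH) (Lpe (K25.f1561 IH) (Lpe (K25.f354770 IH) (Lpe (K25.f171369 IH) (Lpr_ct (f378384 IH) (Lpn (LP (LK LD1_c8 LD2_c21 LD3_c9)))))))))))))
theorem f178396 : Led Lsl_et (LP (LK LD1_c1 LD2_c19 LD3_c19)) = (LP (LK LD1_c2 LD2_c45 LD3_c53)) :=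
  Lre_e IH (LK LD1_c1 LD2_c19 LD3_c19) (LK LD1_c2 LD2_c45 LD3_c53) Lrfl Lrfl
theorem f2228 : Led Lsl_et (LP (LK LD1_c2 LD2_c24 LD3_c5)) = (LP (LK LD1_c1 LD2_c9 LD3_c3)) :=
  Lre_e IH (LK LD1_c2 LD2_c24 LD3_c5) (LK LD1_c1 LD2_c9 LD3_c3) Lrfl Lrfl
theorem f2668 : Led Lsl_dt (LP (LK LD1_c2 LD2_c24 LD3_c4)) = (LP (LK LD1_c2 LD2_c24 LD3_c5)) :=
  Lgr Lrot79 (Lpe (K0.f2370 IH) (Lpr_df (K20.f2663 IH) (Lpe (K0.f1538 IH) (Lpn (LP (LK LD1_c2 LD2_c24 LD3_c5))))))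
theorem f2684 : Led Lsl_ct (LP (LK LD1_c2 LD2_c24 LD3_c4)) = (LP (LK LD1_c1 LD2_c9 LD3_c27)) :=
  Lgr Lrot98 (Lpr_df (K20.f2678 IH) (Lpe (K20.f1535 IH) (Lpe (K0.f1524 IH) (Lpe (K0.f1534 IH) (Lpe (f2668 IH) (Lpr_cf (K0.f2175 IH) (Lpr_df (K0.f2392 IH) (Lpe (K26.f2467 IH) (Lpr_at (K0.f2386 IH) (Lpn (LP (LK LD1_c1 LD2_c9 LD3_c27))))))))))))
theorem f2373 : Led Lsl_bf (LP (LK LD1_c9 LD2_c37 LD3_c10)) = (LP (LK LD1_c9 LD2_c37 LD3_c22)) :=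
  Lgr Lrot24 (Lpr_bt (K0.f2366 IH) (Lpn (LP (LK LD1_c9 LD2_c37 LD3_c22))))
theorem f2378 : Led Lsl_at (LP (LK LD1_c9 LD2_c37 LD3_c10)) = (LP (LK LD1_c4 LD2_c52 LD3_c42)) :=
  Lre_a IH (LK LD1_c9 LD2_c37 LD3_c10) (LK LD1_c4 LD2_c52 LD3_c42) Lrfl Lrfl
theorem f2380 : Led Lsl_at (LP (LK LD1_c4 LD2_c52 LD3_c41)) = (LP (LK LD1_c9 LD2_c37 LD3_c22)) :=
  Lre_a IH (LK LD1_c4 LD2_c52 LD3_c41) (LK LD1_c9 LD2_c37 LD3_c22) Lrfl Lrfl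
theorem f2382 : Led Lsl_at (LP (LK LD1_c2 LD2_c24 LD3_c5)) = (LP (LK LD1_c2 LD2_c24 LD3_c4)) :=
  Lgr Lrot67 (Lpe (K20.f2379 IH) (Lpe (f2378 IH) (Lpr_bf (f2373 IH) (Lpe (f2380 IH) (Lpe (K20.f2381 IH) (Lpn (LP (LK LD1_c2 LD2_c24 LD3_c4))))))))
theorem f2686 : Led Lsl_ff (LP (LK LD1_c2 LD2_c24 LD3_c5)) = (LP (LK LD1_c2 LD2_c24 LD3_c4)) :=
  Lgr Lrot103 (Lpr_at (f2382 IH) (Lpr_cf (K0.f2175 IH) (Lpr_df (K0.f2392 IH) (Lpe (f2684 IH) (Lpr_df (K20.f2678 IH) (Lpe (K20.f1535 IH) (Lpe (K0.f1524 IH) (Lpe (K0.f1534 IH) (Lpe (f2668 IH) (Lpn (LP (LK LD1_c2 LD2_c24 LD3_c4))))))))))))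
theorem f322563 : Led Lsl_gf (LP (LK LD1_c2 LD2_c24 LD3_c4)) = (LP (LK LD1_c4 LD2_c18 LD3_c32)) :=
  Lgr Lrot76 (Lpe (f2382 IH) (Lpr_ff (f2686 IH) (Lpr_gt (K20.f322558 IH) (Lpn (LP (LK LD1_c4 LD2_c18 LD3_c32))))))
theorem f322466 : Led Lsl_ef (LP (LK LD1_c5 LD2_c30 LD3_c53)) = (LP (LK LD1_c8 LD2_c23 LD3_c54)) :=
  Lgr Lrot28 (Lpr_ct (K26.f245910 IH) (Lpr_et (K20.f322404 IH) (Lpr_ct (f27329 IH) (Lpn (LP (LK LD1_c8 LD2_c23 LD3_c54))))))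
theorem f357532 : Led Lsl_df (LP (LK LD1_c4 LD2_c18 LD3_c32)) = (LP (LK LD1_c8 LD2_c23 LD3_c54)) :=
  Lgr Lrot170 (Lpe (f322563 IH) (Lpr_df (K20.f2678 IH) (Lpr_et (f2228 IH) (Lpe (K9.f170069 IH) (Lpr_dt (K9.f170111 IH) (Lpe (K9.f178323 IH) (Lpr_df (K9.f178394 IH) (Lpr_et (f178396 IH) (Lpr_gt (K26.f357522 IH) (Lpr_ef (f322466 IH) (Lpn (LP (LK LD1_c8 LD2_c23 LD3_c54)))))))))))))
theorem f51627 : Led Lsl_dt (LP (LK LD1_c4 LD2_c12 LD3_c2)) = (LP (LK LD1_c8 LD2_c23 LD3_c47)) :=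
  Lre_d IH (LK LD1_c4 LD2_c12 LD3_c2) (LK LD1_c8 LD2_c23 LD3_c47) Lrfl Lrfl
theorem f378392 : Led Lsl_cf (LP (LK LD1_c8 LD2_c23 LD3_c47)) = (LP (LK LD1_c4 LD2_c52 LD3_c44)) :=
  Lgr Lrot99 (Lpe (f51627 IH) (Lpr_cf (K23.f349717 IH) (Lpe (K21.f2398 IH) (Lpe (f2684 IH) (Lpr_gf (f322563 IH) (Lpr_df (f357532 IH) (Lpr_gt (f378388 IH) (Lpe (f378382 IH) (Lpr_gt (K25.f171390 IH) (Lpn (LP (LK LD1_c4 LD2_c52 LD3_c44))))))))))))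
theorem f170098 : Led Lsl_ct (LP (LK LD1_c5 LD2_c39 LD3_c49)) = (LP (LK LD1_c2 LD2_c45 LD3_c51)) :=
  Lre_c IH (LK LD1_c5 LD2_c39 LD3_c49) (LK LD1_c2 LD2_c45 LD3_c51) Lrfl Lrfl
theorem f378396 : Led Lsl_et (LP (LK LD1_c8 LD2_c23 LD3_c47)) = (LP (LK LD1_c5 LD2_c39 LD3_c49)) :=
  Lgr Lrot158 (Lpr_cf (f378392 IH) (Lpe (K21.f170092 IH) (Lpe (f170098 IH) (Lpn (LP (LK LD1_c5 LD2_c39 LD3_c49))))))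
theorem f629482 : Led Lsl_gf (LP (LK LD1_c5 LD2_c39 LD3_c49)) = v4113 :=
  Lgr Lrot141 (Lpe (f378396 IH) (Lpr_dt (f51636 IH) (Lpr_gt (K23.f51653 IH) (Lpr_df (K20.f51624 IH) (Lpr_et (f1122 IH) (Lpe (K9.f52223 IH) (Lpr_dt (K9.f167046 IH) (Lpr_gt (K15.f178840 IH) (Lpr_df (K15.f237794 IH) (Lpr_et (f629478 IH) (Lpn v4113)))))))))))
theorem f306954 : Led Lsl_ct (LP (LK LD1_c11 LD2_c10 LD3_c45)) = (LP (LK LD1_c5 LD2_c39 LD3_c50)) :=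
  Lre_c IH (LK LD1_c11 LD2_c10 LD3_c45) (LK LD1_c5 LD2_c39 LD3_c50) Lrfl Lrfl
theorem f170354 : Led Lsl_gt (LP (LK LD1_c4 LD2_c52 LD3_c54)) = (LP (LK LD1_c9 LD2_c37 LD3_c42)) :=
  Lre_g IH (LK LD1_c4 LD2_c52 LD3_c54) (LK LD1_c9 LD2_c37 LD3_c42) Lrfl Lrfl
theorem f371108 : Led Lsl_et (LP (LK LD1_c9 LD2_c37 LD3_c8)) = (LP (LK LD1_c9 LD2_c37 LD3_c42)) :=
  Lgr Lrot122 (Lpe (K30.f307212 IH) (Lpr_gt (K30.f371094 IH) (Lpe (K26.f287011 IH) (Lpr_et (K17.f219940 IH) (Lpe (K12.f220509 IH) (Lpr_dt (K13.f220511 IH) (Lpe (K13.f234176 IH) (Lpr_df (K14.f200401 IH) (Lpr_et (K15.f170374 IH) (Lpr_gt (f170354 IH) (Lpn (LP (LK LD1_c9 LD2_c37 LD3_c42)))))))))))))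
theorem f47581 : Led Lsl_ct (LP (LK LD1_c5 LD2_c15 LD3_c56)) = (LP (LK LD1_c2 LD2_c34 LD3_c48)) :=
  Lre_c IH (LK LD1_c5 LD2_c15 LD3_c56) (LK LD1_c2 LD2_c34 LD3_c48) Lrfl Lrfl
theorem f362884 : Led Lsl_gt (LP (LK LD1_c15 LD2_c11 LD3_c40)) = (LP (LK LD1_c10 LD2_c12 LD3_c34)) :=
  Lgr Lrot9 (Lpe (K17.f193214 IH) (Lpe (K26.f362457 IH) (Lpr_ct (K26.f362459 IH) (Lpr_gt (K23.f47603 IH) (Lpr_ct (K24.f47597 IH) (Lpe (K10.f47570 IH) (Lpe (f47581 IH) (Lpe (K26.f47602 IH) (Lpr_cf (K26.f362877 IH) (Lpn (LP (LK LD1_c10 LD2_c12 LD3_c34))))))))))))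
theorem f219956 : Led Lsl_et (LP (LK LD1_c15 LD2_c51 LD3_c19)) = (LP (LK LD1_c15 LD2_c15 LD3_c3)) :=
  Lgr Lrot122 (Lpe (K26.f190908 IH) (Lpr_gt (K21.f33259 IH) (Lpe (K12.f33242 IH) (Lpr_et (K15.f33258 IH) (Lpr_gt (K12.f190904 IH) (Lpr_dt (K10.f44922 IH) (Lpr_gt (K12.f219945 IH) (Lpe (K12.f219939 IH) (Lpr_et (K18.f219954 IH) (Lpr_gt (K22.f219955 IH) (Lpn (LP (LK LD1_c15 LD2_c15 LD3_c3)))))))))))))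
theorem f371118 : Led Lsl_gf (LP (LK LD1_c15 LD2_c39 LD3_c35)) = (LP (LK LD1_c9 LD2_c37 LD3_c42)) :=
  Lgr Lrot141 (Lpe (K17.f258511 IH) (Lpr_dt (K15.f263618 IH) (Lpe (K21.f263632 IH) (Lpr_df (K26.f190908 IH) (Lpr_et (f219956 IH) (Lpe (K27.f361197 IH) (Lpr_dt (K17.f193214 IH) (Lpr_gt (f362884 IH) (Lpr_df (K30.f307212 IH) (Lpr_et (f371108 IH) (Lpn (LP (LK LD1_c9 LD2_c37 LD3_c42)))))))))))))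
theorem f257879 : Led Lsl_af (LP (LK LD1_c11 LD2_c54 LD3_c58)) = (LP (LK LD1_c10 LD2_c24 LD3_c3)) :=
  Lgr Lrot50 (Lpr_et (K14.f183702 IH) (Lpr_at (K15.f257875 IH) (Lpr_et (K14.f49168 IH) (Lpn (LP (LK LD1_c10 LD2_c24 LD3_c3))))))
theorem f361708 : Led Lsl_gf (LP (LK LD1_c19 LD2_c54 LD3_c26)) = (LP (LK LD1_c18 LD2_c52 LD3_c22)) :=
  Lgr Lrot47 (Lpr_gt (K27.f361706 IH) (Lpr_af (f257879 IH) (Lpe (K14.f49175 IH) (Lpn (LP (LK LD1_c18 LD2_c52 LD3_c22))))))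
theorem f317593 : Led Lsl_dt (LP (LK LD1_c17 LD2_c43 LD3_c19)) = (LP (LK LD1_c9 LD2_c37 LD3_c42)) :=
  Lre_d IH (LK LD1_c17 LD2_c43 LD3_c19) (LK LD1_c9 LD2_c37 LD3_c42) Lrfl Lrfl
theorem f371126 : Led Lsl_gt (LP (LK LD1_c18 LD2_c52 LD3_c37)) = (LP (LK LD1_c17 LD2_c43 LD3_c19)) :=
  Lgr Lrot137 (Lpe (K23.f301110 IH) (Lpr_dt (K25.f343744 IH) (Lpe (K26.f361738 IH) (Lpe (K27.f222400 IH) (Lpr_et (K27.f340634 IH) (Lpr_gf (f361708 IH) (Lpr_ef (K24.f301011 IH) (Lpe (K20.f300990 IH) (Lpr_gf (f371118 IH) (Lpe (f317593 IH) (Lpn (LP (LK LD1_c17 LD2_c43 LD3_c19)))))))))))))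
theorem f348048 : Led Lsl_ct (LP (LK LD1_c19 LD2_c38 LD3_c42)) = (LP (LK LD1_c10 LD2_c51 LD3_c56)) :=
  Lre_c IH (LK LD1_c19 LD2_c38 LD3_c42) (LK LD1_c10 LD2_c51 LD3_c56) Lrfl Lrfl
theorem f279437 : Led Lsl_ct (LP (LK LD1_c17 LD2_c43 LD3_c19)) = (LP (LK LD1_c27 LD2_c30 LD3_c22)) :=
  Lre_c IH (LK LD1_c17 LD2_c43 LD3_c19) (LK LD1_c27 LD2_c30 LD3_c22) Lrfl Lrfl
theorem f371130 : Led Lsl_gf (LP (LK LD1_c19 LD2_c38 LD3_c42)) = (LP (LK LD1_c27 LD2_c30 LD3_c22)) :=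
  Lgr Lrot104 (Lpr_ct (f348048 IH) (Lpe (K23.f301156 IH) (Lpe (K27.f348045 IH) (Lpr_gf (K27.f353205 IH) (Lpe (K27.f347750 IH) (Lpe (K26.f353203 IH) (Lpr_df (K23.f301106 IH) (Lpr_gt (f371126 IH) (Lpr_ct (f279437 IH) (Lpn (LP (LK LD1_c27 LD2_c30 LD3_c22))))))))))))
theorem f170355 : Led Lsl_dt (LP (LK LD1_c9 LD2_c37 LD3_c42)) = (LP (LK LD1_c17 LD2_c43 LD3_c19)) :=
  Lre_d IH (LK LD1_c9 LD2_c37 LD3_c42) (LK LD1_c17 LD2_c43 LD3_c19) Lrfl Lrfl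
theorem f347868 : Led Lsl_gt (LP (LK LD1_c17 LD2_c43 LD3_c19)) = (LP (LK LD1_c19 LD2_c45 LD3_c56)) :=
  Lgr Lrot139 (Lpe (f170355 IH) (Lpe (f170354 IH) (Lpe (K15.f170374 IH) (Lpe (K14.f200401 IH) (Lpr_gf (K13.f234176 IH) (Lpe (K13.f220511 IH) (Lpr_et (K21.f220519 IH) (Lpe (K23.f220389 IH) (Lpr_ef (K26.f347866 IH) (Lpe (K23.f347856 IH) (Lpn (LP (LK LD1_c19 LD2_c45 LD3_c56)))))))))))))
theorem f263594 : Led Lsl_ct (LP (LK LD1_c8 LD2_c18 LD3_c8)) = (LP (LK LD1_c4 LD2_c9 LD3_c3)) :=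
  Lre_c IH (LK LD1_c8 LD2_c18 LD3_c8) (LK LD1_c4 LD2_c9 LD3_c3) Lrfl Lrfl
theorem f371231 : Led Lsl_dt (LP (LK LD1_c19 LD2_c38 LD3_c42)) = (LP (LK LD1_c25 LD2_c31 LD3_c21)) :=
  Lgr Lrot57 (Lpr_gf (f371130 IH) (Lpe (f279437 IH) (Lpr_gt (f347868 IH) (Lpe (K26.f347952 IH) (Lpr_gt (K23.f229603 IH) (Lpr_dt (K16.f190847 IH) (Lpe (f263594 IH) (Lpe (K26.f273869 IH) (Lpe (K26.f228405 IH) (Lpn (LP (LK LD1_c25 LD2_c31 LD3_c21))))))))))))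
theorem f323386 : Led Lsl_ct (LP (LK LD1_c15 LD2_c38 LD3_c24)) = (LP (LK LD1_c8 LD2_c18 LD3_c54)) :=
  Lre_c IH (LK LD1_c15 LD2_c38 LD3_c24) (LK LD1_c8 LD2_c18 LD3_c54) Lrfl Lrfl
theorem f365299 : Led Lsl_ct (LP (LK LD1_c19 LD2_c38 LD3_c16)) = (LP (LK LD1_c25 LD2_c31 LD3_c21)) :=
  Lgr Lrot59 (Lpr_cf (K26.f365294 IH) (Lpn (LP (LK LD1_c25 LD2_c31 LD3_c21))))
theorem f353212 : Led Lsl_gt (LP (LK LD1_c28 LD2_c57 LD3_c31)) = (LP (LK LD1_c19 LD2_c38 LD3_c16)) :=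
  Lre_g IH (LK LD1_c28 LD2_c57 LD3_c31) (LK LD1_c19 LD2_c38 LD3_c16) Lrfl Lrfl
theorem f273671 : Led Lsl_gt (LP (LK LD1_c10 LD2_c51 LD3_c42)) = (LP (LK LD1_c19 LD2_c35 LD3_c33)) :=
  Lre_g IH (LK LD1_c10 LD2_c51 LD3_c42) (LK LD1_c19 LD2_c35 LD3_c33) Lrfl Lrfl
theorem f371236 : Led Lsl_gf (LP (LK LD1_c15 LD2_c38 LD3_c24)) = (LP (LK LD1_c19 LD2_c38 LD3_c10)) :=
  Lgr Lrot179 (Lpr_ct (f323386 IH) (Lpe (K23.f348036 IH) (Lpr_ct (K26.f348046 IH) (Lpr_dt (f371231 IH) (Lpe (f365299 IH) (Lpe (f353212 IH) (Lpe (K20.f295751 IH) (Lpe (f273671 IH) (Lpr_dt (K23.f273668 IH) (Lpn (LP (LK LD1_c19 LD2_c38 LD3_c10))))))))))))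
theorem f323385 : Led Lsl_ct (LP (LK LD1_c8 LD2_c18 LD3_c54)) = (LP (LK LD1_c15 LD2_c38 LD3_c24)) :=
  Lre_c IH (LK LD1_c8 LD2_c18 LD3_c54) (LK LD1_c15 LD2_c38 LD3_c24) Lrfl Lrfl
theorem f323387 : Led Lsl_gt (LP (LK LD1_c8 LD2_c31 LD3_c25)) = (LP (LK LD1_c16 LD2_c0 LD3_c5)) :=
  Lre_g IH (LK LD1_c8 LD2_c31 LD3_c25) (LK LD1_c16 LD2_c0 LD3_c5) Lrfl Lrfl
theorem f355759 : Led Lsl_gf (LP (LK LD1_c25 LD2_c39 LD3_c0)) = (LP (LK LD1_c26 LD2_c3 LD3_c54)) :=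
  Lgr Lrot134 (Lpr_df (K26.f355709 IH) (Lpr_et (K26.f229566 IH) (Lpr_gt (K25.f229538 IH) (Lpe (K19.f229503 IH) (Lpr_dt (K14.f229502 IH) (Lpr_gt (K12.f229496 IH) (Lpe (K10.f188765 IH) (Lpr_et (K18.f188774 IH) (Lpr_gt (K20.f218107 IH) (Lpr_dt (K20.f218109 IH) (Lpn (LP (LK LD1_c26 LD2_c3 LD3_c54)))))))))))))
theorem f324117 : Led Lsl_dt (LP (LK LD1_c17 LD2_c38 LD3_c56)) = (LP (LK LD1_c25 LD2_c44 LD3_c19)) :=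
  Lgr Lrot77 (Lpe (K20.f321360 IH) (Lpe (K26.f238205 IH) (Lpr_ef (K21.f324115 IH) (Lpe (K25.f220840 IH) (Lpe (K21.f219349 IH) (Lpn (LP (LK LD1_c25 LD2_c44 LD3_c19))))))))
theorem f355763 : Led Lsl_gt (LP (LK LD1_c25 LD2_c44 LD3_c19)) = (LP (LK LD1_c25 LD2_c17 LD3_c21)) :=
  Lgr Lrot112 (Lpe (f324117 IH) (Lpe (K21.f321364 IH) (Lpe (K26.f351526 IH) (Lpe (K25.f305532 IH) (Lpr_dt (K26.f305531 IH) (Lpr_gf (K26.f355735 IH) (Lpe (K26.f355729 IH) (Lpr_gf (f355759 IH) (Lpe (K23.f299291 IH) (Lpr_dt (K20.f260970 IH) (Lpn (LP (LK LD1_c25 LD2_c17 LD3_c21)))))))))))))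
theorem f353300 : Led Lsl_gt (LP (LK LD1_c11 LD2_c52 LD3_c5)) = (LP (LK LD1_c8 LD2_c34 LD3_c33)) :=
  Lgr Lrot149 (Lpr_cf (K16.f258443 IH) (Lpe (K20.f321358 IH) (Lpe (K25.f286166 IH) (Lpr_ct (K25.f353293 IH) (Lpe (K23.f270502 IH) (Lpe (K25.f270505 IH) (Lpr_bt (K21.f270506 IH) (Lpe (f335717 IH) (Lpe (K22.f335714 IH) (Lpr_ct (K22.f179992 IH) (Lpn (LP (LK LD1_c8 LD2_c34 LD3_c33)))))))))))))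
theorem f316270 : Led Lsl_ct (LP (LK LD1_c8 LD2_c34 LD3_c33)) = (LP (LK LD1_c4 LD2_c17 LD3_c44)) :=
  Lre_c IH (LK LD1_c8 LD2_c34 LD3_c33) (LK LD1_c4 LD2_c17 LD3_c44) Lrfl Lrfl
theorem f355765 : Led Lsl_gf (LP (LK LD1_c16 LD2_c5 LD3_c43)) = (LP (LK LD1_c20 LD2_c56 LD3_c56)) :=
  Lgr Lrot104 (Lpr_ct (K22.f307711 IH) (Lpe (K19.f7965 IH) (Lpe (f316270 IH) (Lpe (f353300 IH) (Lpr_cf (K16.f258443 IH) (Lpe (K20.f321358 IH) (Lpr_df (K21.f324121 IH) (Lpr_gt (f355763 IH) (Lpr_ct (K20.f321392 IH) (Lpn (LP (LK LD1_c20 LD2_c56 LD3_c56))))))))))))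
theorem f307748 : Led Lsl_bt (LP (LK LD1_c8 LD2_c34 LD3_c34)) = (LP (LK LD1_c16 LD2_c5 LD3_c38)) :=
  Lre_b IH (LK LD1_c8 LD2_c34 LD3_c34) (LK LD1_c16 LD2_c5 LD3_c38) Lrfl Lrfl
theorem f348146 : Led Lsl_cf (LP (LK LD1_c27 LD2_c29 LD3_c31)) = (LP (LK LD1_c25 LD2_c9 LD3_c30)) :=
  Lgr Lrot11 (Lpr_ct (K27.f348144 IH) (Lpn (LP (LK LD1_c25 LD2_c9 LD3_c30))))
theorem f355771 : Led Lsl_gt (LP (LK LD1_c27 LD2_c29 LD3_c31)) = (LP (LK LD1_c17 LD2_c42 LD3_c17)) :=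
  Lgr Lrot149 (Lpr_cf (f348146 IH) (Lpe (K23.f335745 IH) (Lpe (f307748 IH) (Lpr_ct (K22.f307724 IH) (Lpr_gf (f355765 IH) (Lpe (K20.f321392 IH) (Lpe (K23.f348164 IH) (Lpe (K26.f353566 IH) (Lpe (K26.f320336 IH) (Lpr_ct (K26.f320322 IH) (Lpn (LP (LK LD1_c17 LD2_c42 LD3_c17)))))))))))))
theorem f371238 : Led Lsl_bf (LP (LK LD1_c16 LD2_c0 LD3_c5)) = (LP (LK LD1_c25 LD2_c9 LD3_c30)) :=
  Lgr Lrot34 (Lpe (f323387 IH) (Lpe (K25.f323383 IH) (Lpr_ct (f323385 IH) (Lpr_gf (f371236 IH) (Lpr_cf (K26.f301167 IH) (Lpe (K26.f353566 IH) (Lpe (K26.f320336 IH) (Lpr_ct (K26.f320322 IH) (Lpe (f355771 IH) (Lpr_cf (f348146 IH) (Lpn (LP (LK LD1_c25 LD2_c9 LD3_c30)))))))))))))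
theorem f371245 : Led Lsl_et (LP (LK LD1_c16 LD2_c0 LD3_c5)) = (LP (LK LD1_c8 LD2_c57 LD3_c45)) :=
  Lgr Lrot74 (Lpr_bf (f371238 IH) (Lpe (K23.f304129 IH) (Lpe (K23.f348084 IH) (Lpn (LP (LK LD1_c8 LD2_c57 LD3_c45))))))
theorem f371247 : Led Lsl_ef (LP (LK LD1_c16 LD2_c0 LD3_c5)) = (LP (LK LD1_c8 LD2_c57 LD3_c45)) :=
  Lgr Lrot88 (Lpr_et (f371245 IH) (Lpn (LP (LK LD1_c8 LD2_c57 LD3_c45))))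
theorem f348075 : Led Lsl_dt (LP (LK LD1_c8 LD2_c57 LD3_c45)) = (LP (LK LD1_c5 LD2_c32 LD3_c11)) :=
  Lgr Lrot42 (Lpr_df (K23.f348073 IH) (Lpn (LP (LK LD1_c5 LD2_c32 LD3_c11))))
theorem f258805 : Led Lsl_gt (LP (LK LD1_c2 LD2_c42 LD3_c18)) = (LP (LK LD1_c5 LD2_c32 LD3_c11)) :=
  Lre_g IH (LK LD1_c2 LD2_c42 LD3_c18) (LK LD1_c5 LD2_c32 LD3_c11) Lrfl Lrfl
theorem f371249 : Led Lsl_gt (LP (LK LD1_c16 LD2_c0 LD3_c5)) = (LP (LK LD1_c8 LD2_c31 LD3_c27)) :=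
  Lgr Lrot137 (Lpr_ef (f371247 IH) (Lpr_dt (f348075 IH) (Lpe (f258805 IH) (Lpr_df (K17.f258792 IH) (Lpr_et (K15.f49092 IH) (Lpr_gf (K15.f260399 IH) (Lpe (K18.f260421 IH) (Lpr_dt (K16.f260413 IH) (Lpe (K21.f260430 IH) (Lpe (K21.f260431 IH) (Lpn (LP (LK LD1_c8 LD2_c31 LD3_c27)))))))))))))
theorem f337137 : Led Lsl_bt (LP (LK LD1_c5 LD2_c39 LD3_c50)) = (LP (LK LD1_c11 LD2_c10 LD3_c44)) :=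
  Lre_b IH (LK LD1_c5 LD2_c39 LD3_c50) (LK LD1_c11 LD2_c10 LD3_c44) Lrfl Lrfl
theorem f216620 : Led Lsl_ct (LP (LK LD1_c5 LD2_c39 LD3_c50)) = (LP (LK LD1_c11 LD2_c10 LD3_c45)) :=
  Lre_c IH (LK LD1_c5 LD2_c39 LD3_c50) (LK LD1_c11 LD2_c10 LD3_c45) Lrfl Lrfl
theorem f323985 : Led Lsl_bf (LP (LK LD1_c8 LD2_c31 LD3_c27)) = (LP (LK LD1_c4 LD2_c17 LD3_c58)) :=
  Lgr Lrot24 (Lpr_bt (K35.f323983 IH) (Lpn (LP (LK LD1_c4 LD2_c17 LD3_c58))))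
theorem f371251 : Led Lsl_gf (LP (LK LD1_c11 LD2_c10 LD3_c45)) = (LP (LK LD1_c8 LD2_c34 LD3_c50)) :=
  Lgr Lrot126 (Lpe (f216620 IH) (Lpr_bt (f337137 IH) (Lpr_gt (K26.f326832 IH) (Lpr_ct (K27.f326858 IH) (Lpr_gt (K27.f326859 IH) (Lpr_cf (f348146 IH) (Lpe (f371238 IH) (Lpr_gt (f371249 IH) (Lpr_bf (f323985 IH) (Lpr_ct (K20.f183279 IH) (Lpn (LP (LK LD1_c8 LD2_c34 LD3_c50)))))))))))))
theorem f629483 : Led Lsl_ct (LP (LK LD1_c2 LD2_c5 LD3_c50)) = v4113 :=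
  Lgr Lrot152 (Lpe (K22.f167715 IH) (Lpr_df (K22.f333723 IH) (Lpr_gt (K23.f276164 IH) (Lpr_ct (K20.f183279 IH) (Lpe (f371251 IH) (Lpr_ct (f306954 IH) (Lpe (K25.f170082 IH) (Lpe (f170098 IH) (Lpr_gf (f629482 IH) (Lpn v4113))))))))))
theorem f167742 : Led Lsl_ct (LP (LK LD1_c8 LD2_c33 LD3_c24)) = (LP (LK LD1_c16 LD2_c3 LD3_c45)) :=
  Lre_c IH (LK LD1_c8 LD2_c33 LD3_c24) (LK LD1_c16 LD2_c3 LD3_c45) Lrfl Lrfl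
theorem f236273 : Led Lsl_bt (LP (LK LD1_c8 LD2_c33 LD3_c24)) = (LP (LK LD1_c16 LD2_c3 LD3_c44)) :=
  Lre_b IH (LK LD1_c8 LD2_c33 LD3_c24) (LK LD1_c16 LD2_c3 LD3_c44) Lrfl Lrfl
theorem f220107 : Led Lsl_ft (LP (LK LD1_c15 LD2_c35 LD3_c22)) = (LP (LK LD1_c8 LD2_c17 LD3_c28)) :=
  Lre_f IH (LK LD1_c15 LD2_c35 LD3_c22) (LK LD1_c8 LD2_c17 LD3_c28) Lrfl Lrfl
theorem f220109 : Led Lsl_cf (LP (LK LD1_c15 LD2_c35 LD3_c22)) = (LP (LK LD1_c15 LD2_c49 LD3_c28)) :=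
  Lgr Lrot108 (Lpr_ft (f220107 IH) (Lpr_ct (K21.f220097 IH) (Lpr_ft (K21.f220108 IH) (Lpn (LP (LK LD1_c15 LD2_c49 LD3_c28))))))
theorem f378125 : Led Lsl_gt (LP (LK LD1_c16 LD2_c3 LD3_c45)) = (LP (LK LD1_c15 LD2_c35 LD3_c22)) :=
  Lgr Lrot65 (Lpe (f167742 IH) (Lpr_bt (f236273 IH) (Lpe (K25.f356955 IH) (Lpr_bf (K19.f308839 IH) (Lpr_ct (K26.f258340 IH) (Lpr_gf (K28.f378121 IH) (Lpe (K28.f357529 IH) (Lpe (K26.f358484 IH) (Lpe (K21.f220116 IH) (Lpe (f220109 IH) (Lpn (LP (LK LD1_c15 LD2_c35 LD3_c22)))))))))))))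
theorem f358442 : Led Lsl_ct (LP (LK LD1_c2 LD2_c45 LD3_c52)) = (LP (LK LD1_c5 LD2_c39 LD3_c52)) :=
  Lre_c IH (LK LD1_c2 LD2_c45 LD3_c52) (LK LD1_c5 LD2_c39 LD3_c52) Lrfl Lrfl
theorem f629484 : Led Lsl_gt (LP (LK LD1_c5 LD2_c39 LD3_c52)) = v4113 :=
  Lgr Lrot65 (Lpe (f358442 IH) (Lpr_bt (K25.f358441 IH) (Lpe (K26.f358484 IH) (Lpe (K21.f220116 IH) (Lpe (f220109 IH) (Lpe (f378125 IH) (Lpe (f167742 IH) (Lpe (K17.f167741 IH) (Lpe (K12.f167725 IH) (Lpr_ct (f629483 IH) (Lpn v4113)))))))))))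
theorem f690980 : Led Lsl_af (LP (LK LD1_c5 LD2_c39 LD3_c49)) = (LP (LK LD1_c5 LD2_c30 LD3_c56)) :=
  Lgr Lrot31 (Lpr_gf (f629482 IH) (Lpe (f629484 IH) (Lpr_ft (f690978 IH) (Lpn (LP (LK LD1_c5 LD2_c30 LD3_c56))))))
theorem f690982 : Led Lsl_at (LP (LK LD1_c5 LD2_c39 LD3_c49)) = (LP (LK LD1_c5 LD2_c30 LD3_c56)) :=
  Lgr Lrot100 (Lpr_af (f690980 IH) (Lpn (LP (LK LD1_c5 LD2_c30 LD3_c56))))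
theorem f690984 : Led Lsl_ff (LP (LK LD1_c5 LD2_c39 LD3_c49)) = (LP (LK LD1_c5 LD2_c30 LD3_c57)) :=
  Lgr Lrot52 (Lpr_at (f690982 IH) (Lpe (f245913 IH) (Lpe (K25.f260751 IH) (Lpn (LP (LK LD1_c5 LD2_c30 LD3_c57))))))
def v4748 : LQ := Led Lsl_ft (LP (LK LD1_c2 LD2_c45 LD3_c51))
theorem f638826 : Led Lsl_ft (LP (LK LD1_c2 LD2_c45 LD3_c51)) = v4748 :=
  Lrfl
theorem f690990 : v4748 = (LP (LK LD1_c4 LD2_c12 LD3_c40)) :=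
  (Llr Lrot4 (Lpe (f638826 IH) (Lpe (f170098 IH) (Lpr_ff (f690984 IH) (Lpe (K25.f357216 IH) (Lpn (LP (LK LD1_c4 LD2_c12 LD3_c40)))))))).symm
theorem f690999 : Led Lsl_ff (LP (LK LD1_c4 LD2_c52 LD3_c44)) = (LP (LK LD1_c4 LD2_c53 LD3_c45)) :=
  Lgr Lrot72 (Lpe (K21.f170085 IH) (Lpr_ft (f638826 IH) (Lpqs (f690990 IH) (Lpr_et (K26.f358452 IH) (Lpr_ft (f638824 IH) (Lpq (f690969 IH) (Lpr_et (f378333 IH) (Lpn (LP (LK LD1_c4 LD2_c53 LD3_c45))))))))))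
theorem f691007 : v4529 = (LP (LK LD1_c2 LD2_c24 LD3_c41)) :=
  (Llr Lrot54 (Lpe (f634395 IH) (Lpe (K21.f1540 IH) (Lpr_ff (f690999 IH) (Lpe (K25.f2399 IH) (Lpn (LP (LK LD1_c2 LD2_c24 LD3_c41)))))))).symm
theorem f2779 : Led Lsl_bt (LP (LK LD1_c4 LD2_c53 LD3_c44)) = (LP (LK LD1_c2 LD2_c24 LD3_c41)) :=
  Lre_b IH (LK LD1_c4 LD2_c53 LD3_c44) (LK LD1_c2 LD2_c24 LD3_c41) Lrfl Lrfl
theorem f326840 : Led Lsl_bt (LP (LK LD1_c2 LD2_c24 LD3_c6)) = (LP (LK LD1_c4 LD2_c52 LD3_c43)) :=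
  Lre_b IH (LK LD1_c2 LD2_c24 LD3_c6) (LK LD1_c4 LD2_c52 LD3_c43) Lrfl Lrfl
theorem f691013 : Led Lsl_ff (LP (LK LD1_c4 LD2_c53 LD3_c44)) = (LP (LK LD1_c4 LD2_c52 LD3_c43)) :=
  Lgr Lrot25 (Lpr_bt (f2779 IH) (Lpq (f691007 IH) (Lpe (f634396 IH) (Lpr_bt (f326840 IH) (Lpn (LP (LK LD1_c4 LD2_c52 LD3_c43)))))))
theorem f691029 : Led Lsl_at (LP (LK LD1_c4 LD2_c53 LD3_c44)) = (LP (LK LD1_c8 LD2_c24 LD3_c2)) :=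
  Lgr Lrot26 (Lpr_ff (f691013 IH) (Lpr_gt (K21.f326836 IH) (Lpr_gt (K21.f219367 IH) (Lpn (LP (LK LD1_c8 LD2_c24 LD3_c2))))))
def v4535 : LQ := Led Lsl_at (LP (LK LD1_c2 LD2_c24 LD3_c41))
theorem f636004 : Led Lsl_at (LP (LK LD1_c2 LD2_c24 LD3_c41)) = v4535 :=
  Lrfl
theorem f636005 : Led Lsl_af (LP (LK LD1_c2 LD2_c24 LD3_c41)) = v4535 :=
  Lgr Lrot0 (Lpr_at (f636004 IH) (Lpn v4535))
theorem f691008 : (LP (LK LD1_c2 LD2_c24 LD3_c6)) = v4535 :=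
  Lefun (Lecon (Lfl_af (f634394 IH)) (f691007 IH)) (f636004 IH)
theorem f691033 : Led Lsl_af (LP (LK LD1_c4 LD2_c52 LD3_c43)) = (LP (LK LD1_c8 LD2_c35 LD3_c59)) :=
  Lgr Lrot36 (Lpr_bt (K23.f2786 IH) (Lpqs (f691008 IH) (Lpe (f636005 IH) (Lpr_bt (K23.f328207 IH) (Lpr_at (f691029 IH) (Lpe (K50.f320367 IH) (Lpn (LP (LK LD1_c8 LD2_c35 LD3_c59)))))))))
theorem f691041 : Led Lsl_ff (LP (LK LD1_c8 LD2_c35 LD3_c59)) = (LP (LK LD1_c8 LD2_c24 LD3_c2)) :=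
  Lgr Lrot30 (Lpe (f691033 IH) (Lpe (f691013 IH) (Lpr_at (f691029 IH) (Lpn (LP (LK LD1_c8 LD2_c24 LD3_c2))))))
theorem f691047 : Led Lsl_ft (LP (LK LD1_c8 LD2_c35 LD3_c59)) = (LP (LK LD1_c8 LD2_c24 LD3_c2)) :=
  Lgr Lrot48 (Lpr_ff (f691041 IH) (Lpn (LP (LK LD1_c8 LD2_c24 LD3_c2))))
theorem f691053 : Led Lsl_ff (LP (LK LD1_c15 LD2_c48 LD3_c6)) = (LP (LK LD1_c15 LD2_c47 LD3_c46)) :=
  Lgr Lrot19 (Lpe (K16.f278188 IH) (Lpr_ft (f691047 IH) (Lpr_dt (K21.f219368 IH) (Lpn (LP (LK LD1_c15 LD2_c47 LD3_c46))))))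
theorem f691055 : Led Lsl_at (LP (LK LD1_c15 LD2_c48 LD3_c6)) = (LP (LK LD1_c9 LD2_c37 LD3_c30)) :=
  Lgr Lrot26 (Lpr_ff (f691053 IH) (Lpr_gt (K21.f305813 IH) (Lpe (K25.f326841 IH) (Lpn (LP (LK LD1_c9 LD2_c37 LD3_c30))))))
theorem f691061 : Led Lsl_af (LP (LK LD1_c8 LD2_c24 LD3_c13)) = (LP (LK LD1_c5 LD2_c39 LD3_c48)) :=
  Lgr Lrot50 (Lpr_et (K16.f278187 IH) (Lpr_at (f691055 IH) (Lpe (K21.f170096 IH) (Lpn (LP (LK LD1_c5 LD2_c39 LD3_c48))))))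
theorem f691069 : Led Lsl_at (LP (LK LD1_c15 LD2_c48 LD3_c5)) = (LP (LK LD1_c11 LD2_c10 LD3_c44)) :=
  Lgr Lrot51 (Lpe (K25.f167129 IH) (Lpr_af (f691061 IH) (Lpe (K26.f170107 IH) (Lpn (LP (LK LD1_c11 LD2_c10 LD3_c44))))))
theorem f691077 : Led Lsl_ff (LP (LK LD1_c15 LD2_c48 LD3_c5)) = (LP (LK LD1_c16 LD2_c9 LD3_c6)) :=
  Lgr Lrot52 (Lpr_at (f691069 IH) (Lpr_gf (K26.f355277 IH) (Lpe (K26.f355280 IH) (Lpn (LP (LK LD1_c16 LD2_c9 LD3_c6))))))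
theorem f691085 : Led Lsl_ft (LP (LK LD1_c15 LD2_c48 LD3_c5)) = (LP (LK LD1_c16 LD2_c9 LD3_c6)) :=
  Lgr Lrot48 (Lpr_ff (f691077 IH) (Lpn (LP (LK LD1_c16 LD2_c9 LD3_c6))))
theorem f358506 : Led Lsl_gf (LP (LK LD1_c15 LD2_c2 LD3_c30)) = (LP (LK LD1_c17 LD2_c41 LD3_c53)) :=
  Lgr Lrot134 (Lpe (K25.f358494 IH) (Lpr_et (K25.f358496 IH) (Lpe (K25.f358482 IH) (Lpe (K21.f254917 IH) (Lpr_dt (K17.f257972 IH) (Lpe (K18.f300719 IH) (Lpe (K18.f222100 IH) (Lpr_et (K19.f222114 IH) (Lpr_gt (K21.f222119 IH) (Lpr_dt (K21.f222120 IH) (Lpn (LP (LK LD1_c17 LD2_c41 LD3_c53)))))))))))))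
theorem f691093 : Led Lsl_af (LP (LK LD1_c15 LD2_c2 LD3_c30)) = (LP (LK LD1_c16 LD2_c9 LD3_c6)) :=
  Lgr Lrot31 (Lpr_gf (f358506 IH) (Lpr_gf (K25.f307197 IH) (Lpr_ft (f691085 IH) (Lpn (LP (LK LD1_c16 LD2_c9 LD3_c6))))))
theorem f691071 : Led Lsl_af (LP (LK LD1_c15 LD2_c48 LD3_c5)) = (LP (LK LD1_c11 LD2_c10 LD3_c44)) :=
  Lgr Lrot0 (Lpr_at (f691069 IH) (Lpn (LP (LK LD1_c11 LD2_c10 LD3_c44))))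
theorem f691103 : Led Lsl_ft (LP (LK LD1_c15 LD2_c2 LD3_c30)) = (LP (LK LD1_c11 LD2_c10 LD3_c44)) :=
  Lgr Lrot101 (Lpr_af (f691093 IH) (Lpe (f691085 IH) (Lpr_af (f691071 IH) (Lpn (LP (LK LD1_c11 LD2_c10 LD3_c44))))))
theorem f691111 : Led Lsl_ff (LP (LK LD1_c15 LD2_c2 LD3_c30)) = (LP (LK LD1_c11 LD2_c10 LD3_c44)) :=
  Lgr Lrot3 (Lpr_ft (f691103 IH) (Lpn (LP (LK LD1_c11 LD2_c10 LD3_c44))))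
theorem f326830 : Led Lsl_ct (LP (LK LD1_c20 LD2_c5 LD3_c30)) = (LP (LK LD1_c11 LD2_c10 LD3_c44)) :=
  Lre_c IH (LK LD1_c20 LD2_c5 LD3_c30) (LK LD1_c11 LD2_c10 LD3_c44) Lrfl Lrfl
theorem f691113 : Led Lsl_ft (LP (LK LD1_c24 LD2_c51 LD3_c11)) = (LP (LK LD1_c20 LD2_c5 LD3_c30)) :=
  Lgr Lrot4 (Lpe (K27.f353992 IH) (Lpr_ff (f691111 IH) (Lpe (f326830 IH) (Lpn (LP (LK LD1_c20 LD2_c5 LD3_c30))))))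
theorem f353983 : Led Lsl_et (LP (LK LD1_c24 LD2_c51 LD3_c11)) = (LP (LK LD1_c15 LD2_c2 LD3_c29)) :=
  Lre_e IH (LK LD1_c24 LD2_c51 LD3_c11) (LK LD1_c15 LD2_c2 LD3_c29) Lrfl Lrfl
theorem f290603 : Led Lsl_et (LP (LK LD1_c3 LD2_c58 LD3_c31)) = (LP (LK LD1_c7 LD2_c58 LD3_c31)) :=
  Lre_e IH (LK LD1_c3 LD2_c58 LD3_c31) (LK LD1_c7 LD2_c58 LD3_c31) Lrfl Lrfl
theorem f226835 : Led Lsl_dt (LP (LK LD1_c8 LD2_c7 LD3_c51)) = (LP (LK LD1_c15 LD2_c18 LD3_c38)) :=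
  Lre_d IH (LK LD1_c8 LD2_c7 LD3_c51) (LK LD1_c15 LD2_c18 LD3_c38) Lrfl Lrfl
theorem f253907 : Led Lsl_gt (LP (LK LD1_c25 LD2_c9 LD3_c28)) = (LP (LK LD1_c15 LD2_c18 LD3_c38)) :=
  Lre_g IH (LK LD1_c25 LD2_c9 LD3_c28) (LK LD1_c15 LD2_c18 LD3_c38) Lrfl Lrfl
theorem f353999 : Led Lsl_dt (LP (LK LD1_c24 LD2_c51 LD3_c11)) = (LP (LK LD1_c25 LD2_c9 LD3_c28)) :=
  Lgr Lrot136 (Lpr_et (f353983 IH) (Lpr_gf (K25.f353979 IH) (Lpe (f290603 IH) (Lpr_dt (K17.f41150 IH) (Lpr_gf (K18.f295989 IH) (Lpe (K15.f253902 IH) (Lpe (K14.f253899 IH) (Lpe (K18.f226834 IH) (Lpr_dt (f226835 IH) (Lpe (f253907 IH) (Lpn (LP (LK LD1_c25 LD2_c9 LD3_c28)))))))))))))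
theorem f354001 : Led Lsl_df (LP (LK LD1_c24 LD2_c51 LD3_c11)) = (LP (LK LD1_c25 LD2_c9 LD3_c28)) :=
  Lgr Lrot38 (Lpr_dt (f353999 IH) (Lpn (LP (LK LD1_c25 LD2_c9 LD3_c28))))
theorem f306956 : Led Lsl_ct (LP (LK LD1_c11 LD2_c10 LD3_c44)) = (LP (LK LD1_c20 LD2_c5 LD3_c30)) :=
  Lre_c IH (LK LD1_c11 LD2_c10 LD3_c44) (LK LD1_c20 LD2_c5 LD3_c30) Lrfl Lrfl
theorem f301679 : Led Lsl_ct (LP (LK LD1_c15 LD2_c28 LD3_c44)) = (LP (LK LD1_c8 LD2_c13 LD3_c42)) :=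
  Lre_c IH (LK LD1_c15 LD2_c28 LD3_c44) (LK LD1_c8 LD2_c13 LD3_c42) Lrfl Lrfl
theorem f379068 : Led Lsl_et (LP (LK LD1_c20 LD2_c5 LD3_c30)) = (LP (LK LD1_c15 LD2_c28 LD3_c44)) :=
  Lgr Lrot158 (Lpe (f306956 IH) (Lpr_ef (K26.f358755 IH) (Lpe (f301679 IH) (Lpn (LP (LK LD1_c15 LD2_c28 LD3_c44))))))
theorem f343703 : Led Lsl_bt (LP (LK LD1_c2 LD2_c39 LD3_c43)) = (LP (LK LD1_c5 LD2_c26 LD3_c38)) :=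
  Lre_b IH (LK LD1_c2 LD2_c39 LD3_c43) (LK LD1_c5 LD2_c26 LD3_c38) Lrfl Lrfl
theorem f245936 : Led Lsl_ct (LP (LK LD1_c2 LD2_c39 LD3_c43)) = (LP (LK LD1_c5 LD2_c26 LD3_c39)) :=
  Lre_c IH (LK LD1_c2 LD2_c39 LD3_c43) (LK LD1_c5 LD2_c26 LD3_c39) Lrfl Lrfl
theorem f356056 : Led Lsl_gt (LP (LK LD1_c2 LD2_c39 LD3_c55)) = (LP (LK LD1_c5 LD2_c26 LD3_c39)) :=
  Lgr Lrot65 (Lpe (K20.f195469 IH) (Lpr_bt (K20.f195463 IH) (Lpe (K20.f195493 IH) (Lpe (K25.f195494 IH) (Lpr_ct (K26.f348549 IH) (Lpr_gf (K26.f356048 IH) (Lpe (K23.f283456 IH) (Lpr_gf (K23.f343697 IH) (Lpe (f343703 IH) (Lpr_ct (f245936 IH) (Lpn (LP (LK LD1_c5 LD2_c26 LD3_c39)))))))))))))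
theorem f337138 : Led Lsl_bt (LP (LK LD1_c8 LD2_c13 LD3_c42)) = (LP (LK LD1_c4 LD2_c6 LD3_c57)) :=
  Lgr Lrot119 (Lpe (K26.f326834 IH) (Lpe (f337137 IH) (Lpr_ef (K22.f337135 IH) (Lpn (LP (LK LD1_c4 LD2_c6 LD3_c57))))))
theorem f301680 : Led Lsl_ct (LP (LK LD1_c8 LD2_c13 LD3_c42)) = (LP (LK LD1_c15 LD2_c28 LD3_c44)) :=
  Lre_c IH (LK LD1_c8 LD2_c13 LD3_c42) (LK LD1_c15 LD2_c28 LD3_c44) Lrfl Lrfl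
theorem f356058 : Led Lsl_gf (LP (LK LD1_c15 LD2_c28 LD3_c44)) = (LP (LK LD1_c20 LD2_c56 LD3_c43)) :=
  Lgr Lrot126 (Lpe (f301680 IH) (Lpr_bt (f337138 IH) (Lpr_gt (K22.f195480 IH) (Lpr_ct (K20.f195469 IH) (Lpr_gt (f356056 IH) (Lpe (f245936 IH) (Lpr_bt (f343703 IH) (Lpe (K23.f343697 IH) (Lpe (K17.f283469 IH) (Lpr_ct (K22.f283475 IH) (Lpn (LP (LK LD1_c20 LD2_c56 LD3_c43)))))))))))))
theorem f310777 : Led Lsl_et (LP (LK LD1_c15 LD2_c29 LD3_c7)) = (LP (LK LD1_c20 LD2_c56 LD3_c43)) :=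
  Lgr Lrot123 (Lpr_af (K19.f310773 IH) (Lpr_ef (K23.f283643 IH) (Lpe (K17.f283514 IH) (Lpn (LP (LK LD1_c20 LD2_c56 LD3_c43))))))
theorem f189707 : Led Lsl_et (LP (LK LD1_c18 LD2_c45 LD3_c32)) = (LP (LK LD1_c10 LD2_c19 LD3_c61)) :=
  Lre_e IH (LK LD1_c18 LD2_c45 LD3_c32) (LK LD1_c10 LD2_c19 LD3_c61) Lrfl Lrfl
theorem f188555 : Led Lsl_et (LP (LK LD1_c15 LD2_c51 LD3_c25)) = (LP (LK LD1_c8 LD2_c26 LD3_c39)) :=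
  Lre_e IH (LK LD1_c15 LD2_c51 LD3_c25) (LK LD1_c8 LD2_c26 LD3_c39) Lrfl Lrfl
theorem f365908 : Led Lsl_dt (LP (LK LD1_c15 LD2_c51 LD3_c25)) = (LP (LK LD1_c18 LD2_c45 LD3_c32)) :=
  Lgr Lrot56 (Lpr_et (f188555 IH) (Lpr_gt (K25.f188548 IH) (Lpe (K23.f188554 IH) (Lpr_dt (K10.f188532 IH) (Lpr_gt (K12.f27516 IH) (Lpe (K12.f27495 IH) (Lpr_et (K11.f27496 IH) (Lpr_gt (K17.f27500 IH) (Lpr_dt (K25.f27501 IH) (Lpr_gt (K27.f365884 IH) (Lpn (LP (LK LD1_c18 LD2_c45 LD3_c32)))))))))))))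
theorem f365912 : Led Lsl_df (LP (LK LD1_c15 LD2_c51 LD3_c25)) = (LP (LK LD1_c18 LD2_c45 LD3_c32)) :=
  Lgr Lrot38 (Lpr_dt (f365908 IH) (Lpn (LP (LK LD1_c18 LD2_c45 LD3_c32))))
theorem f355315 : Led Lsl_df (LP (LK LD1_c5 LD2_c35 LD3_c57)) = (LP (LK LD1_c8 LD2_c26 LD3_c39)) :=
  Lgr Lrot38 (Lpr_dt (K25.f355311 IH) (Lpn (LP (LK LD1_c8 LD2_c26 LD3_c39))))
theorem f355317 : Led Lsl_et (LP (LK LD1_c8 LD2_c26 LD3_c39)) = (LP (LK LD1_c15 LD2_c51 LD3_c25)) :=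
  Lre_e IH (LK LD1_c8 LD2_c26 LD3_c39) (LK LD1_c15 LD2_c51 LD3_c25) Lrfl Lrfl
theorem f27449 : Led Lsl_dt (LP (LK LD1_c15 LD2_c52 LD3_c28)) = (LP (LK LD1_c8 LD2_c27 LD3_c15)) :=
  Lre_d IH (LK LD1_c15 LD2_c52 LD3_c28) (LK LD1_c8 LD2_c27 LD3_c15) Lrfl Lrfl
theorem f355326 : Led Lsl_gt (LP (LK LD1_c15 LD2_c51 LD3_c25)) = (LP (LK LD1_c15 LD2_c52 LD3_c28)) :=
  Lgr Lrot137 (Lpe (f355317 IH) (Lpe (f355315 IH) (Lpr_gf (K25.f355318 IH) (Lpe (K23.f189663 IH) (Lpr_et (K12.f189629 IH) (Lpr_gf (K12.f189620 IH) (Lpe (K11.f189617 IH) (Lpr_dt (K21.f189700 IH) (Lpe (K22.f189710 IH) (Lpe (f27449 IH) (Lpn (LP (LK LD1_c15 LD2_c52 LD3_c28)))))))))))))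
theorem f285781 : Led Lsl_et (LP (LK LD1_c2 LD2_c45 LD3_c23)) = (LP (LK LD1_c5 LD2_c38 LD3_c53)) :=
  Lre_e IH (LK LD1_c2 LD2_c45 LD3_c23) (LK LD1_c5 LD2_c38 LD3_c53) Lrfl Lrfl
theorem f286297 : Led Lsl_df (LP (LK LD1_c18 LD2_c4 LD3_c15)) = (LP (LK LD1_c25 LD2_c46 LD3_c54)) :=
  Lgr Lrot132 (Lpe (K25.f252635 IH) (Lpe (K16.f252631 IH) (Lpr_gf (K17.f286292 IH) (Lpe (f285781 IH) (Lpe (K15.f261437 IH) (Lpe (K16.f251785 IH) (Lpr_df (K16.f261416 IH) (Lpr_et (K26.f217941 IH) (Lpe (K26.f218225 IH) (Lpe (K27.f286296 IH) (Lpn (LP (LK LD1_c25 LD2_c46 LD3_c54)))))))))))))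
theorem f369815 : Led Lsl_gt (LP (LK LD1_c18 LD2_c4 LD3_c15)) = (LP (LK LD1_c18 LD2_c46 LD3_c7)) :=
  Lgr Lrot139 (Lpr_df (f286297 IH) (Lpr_gf (K27.f364000 IH) (Lpe (K22.f232175 IH) (Lpr_dt (K23.f27443 IH) (Lpe (f355326 IH) (Lpr_df (f365912 IH) (Lpr_et (f189707 IH) (Lpr_gf (K26.f359901 IH) (Lpr_ef (K27.f369808 IH) (Lpr_dt (K27.f369799 IH) (Lpn (LP (LK LD1_c18 LD2_c46 LD3_c7)))))))))))))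
theorem f367362 : Led Lsl_ef (LP (LK LD1_c8 LD2_c26 LD3_c55)) = (LP (LK LD1_c9 LD2_c42 LD3_c29)) :=
  Lgr Lrot29 (Lpr_bt (K26.f201144 IH) (Lpr_et (K27.f367360 IH) (Lpr_bt (K15.f217528 IH) (Lpn (LP (LK LD1_c9 LD2_c42 LD3_c29))))))
theorem f375935 : Led Lsl_gf (LP (LK LD1_c10 LD2_c24 LD3_c8)) = (LP (LK LD1_c11 LD2_c4 LD3_c11)) :=
  Lgr Lrot134 (Lpe (K15.f217525 IH) (Lpe (f367362 IH) (Lpe (K26.f363973 IH) (Lpe (K27.f286296 IH) (Lpe (f286297 IH) (Lpr_gt (f369815 IH) (Lpe (K27.f369799 IH) (Lpe (K27.f369808 IH) (Lpe (K26.f359901 IH) (Lpe (K27.f359912 IH) (Lpn (LP (LK LD1_c11 LD2_c4 LD3_c11)))))))))))))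
theorem f375937 : Led Lsl_gt (LP (LK LD1_c15 LD2_c50 LD3_c61)) = (LP (LK LD1_c8 LD2_c26 LD3_c39)) :=
  Lgr Lrot112 (Lpe (K10.f191739 IH) (Lpe (K25.f352960 IH) (Lpr_gf (K26.f361782 IH) (Lpr_ef (K26.f322069 IH) (Lpr_dt (K26.f223252 IH) (Lpe (K26.f364294 IH) (Lpr_df (K15.f217512 IH) (Lpr_gf (f375935 IH) (Lpe (K25.f352867 IH) (Lpr_dt (K25.f355311 IH) (Lpn (LP (LK LD1_c8 LD2_c26 LD3_c39)))))))))))))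
theorem f264683 : Led Lsl_bt (LP (LK LD1_c2 LD2_c39 LD3_c21)) = (LP (LK LD1_c1 LD2_c16 LD3_c30)) :=
  Lre_b IH (LK LD1_c2 LD2_c39 LD3_c21) (LK LD1_c1 LD2_c16 LD3_c30) Lrfl Lrfl
theorem f360007 : Led Lsl_bf (LP (LK LD1_c2 LD2_c39 LD3_c27)) = (LP (LK LD1_c5 LD2_c24 LD3_c47)) :=
  Lgr Lrot34 (Lpe (K21.f264635 IH) (Lpe (f264683 IH) (Lpr_ct (K23.f264768 IH) (Lpe (K27.f257387 IH) (Lpe (K27.f347956 IH) (Lpr_gf (K26.f359901 IH) (Lpr_bf (K26.f263533 IH) (Lpr_ct (K26.f359996 IH) (Lpe (K26.f194593 IH) (Lpe (K26.f44703 IH) (Lpn (LP (LK LD1_c5 LD2_c24 LD3_c47)))))))))))))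
theorem f264652 : Led Lsl_bt (LP (LK LD1_c1 LD2_c17 LD3_c6)) = (LP (LK LD1_c2 LD2_c40 LD3_c52)) :=
  Lre_b IH (LK LD1_c1 LD2_c17 LD3_c6) (LK LD1_c2 LD2_c40 LD3_c52) Lrfl Lrfl
theorem f360013 : Led Lsl_et (LP (LK LD1_c2 LD2_c40 LD3_c52)) = (LP (LK LD1_c5 LD2_c24 LD3_c47)) :=
  Lgr Lrot74 (Lpe (f264652 IH) (Lpe (K21.f264650 IH) (Lpr_bf (f360007 IH) (Lpn (LP (LK LD1_c5 LD2_c24 LD3_c47))))))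
theorem f42522 : Led Lsl_et (LP (LK LD1_c2 LD2_c38 LD3_c5)) = (LP (LK LD1_c1 LD2_c16 LD3_c0)) :=
  Lre_e IH (LK LD1_c2 LD2_c38 LD3_c5) (LK LD1_c1 LD2_c16 LD3_c0) Lrfl Lrfl
theorem f360027 : Led Lsl_dt (LP (LK LD1_c2 LD2_c40 LD3_c52)) = (LP (LK LD1_c2 LD2_c38 LD3_c4)) :=
  Lgr Lrot136 (Lpr_et (f360013 IH) (Lpe (K22.f41479 IH) (Lpr_ef (K21.f42553 IH) (Lpr_dt (K16.f41757 IH) (Lpe (K1.f41756 IH) (Lpe (K1.f41751 IH) (Lpe (K1.f42491 IH) (Lpe (f42522 IH) (Lpr_dt (K19.f42523 IH) (Lpe (K25.f42524 IH) (Lpn (LP (LK LD1_c2 LD2_c38 LD3_c4)))))))))))))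
theorem f360020 : Led Lsl_ct (LP (LK LD1_c5 LD2_c29 LD3_c17)) = (LP (LK LD1_c2 LD2_c40 LD3_c52)) :=
  Lre_c IH (LK LD1_c5 LD2_c29 LD3_c17) (LK LD1_c2 LD2_c40 LD3_c52) Lrfl Lrfl
theorem f336875 : Led Lsl_gt (LP (LK LD1_c9 LD2_c41 LD3_c3)) = (LP (LK LD1_c16 LD2_c13 LD3_c38)) :=
  Lgr Lrot46 (Lpe (K25.f213910 IH) (Lpr_ft (K13.f213938 IH) (Lpr_at (K22.f336871 IH) (Lpn (LP (LK LD1_c16 LD2_c13 LD3_c38))))))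
theorem f333579 : Led Lsl_dt (LP (LK LD1_c5 LD2_c23 LD3_c13)) = (LP (LK LD1_c10 LD2_c36 LD3_c61)) :=
  Lre_d IH (LK LD1_c5 LD2_c23 LD3_c13) (LK LD1_c10 LD2_c36 LD3_c61) Lrfl Lrfl
theorem f356434 : Led Lsl_gf (LP (LK LD1_c5 LD2_c23 LD3_c13)) = (LP (LK LD1_c10 LD2_c36 LD3_c56)) :=
  Lgr Lrot144 (Lpr_dt (f333579 IH) (Lpe (K26.f355356 IH) (Lpr_dt (K25.f343831 IH) (Lpr_cf (K22.f187689 IH) (Lpr_df (K22.f191741 IH) (Lpe (f336875 IH) (Lpe (K25.f352256 IH) (Lpr_gf (K25.f352233 IH) (Lpr_cf (K25.f356418 IH) (Lpn (LP (LK LD1_c10 LD2_c36 LD3_c56))))))))))))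
theorem f356426 : Led Lsl_ct (LP (LK LD1_c15 LD2_c1 LD3_c16)) = (LP (LK LD1_c10 LD2_c36 LD3_c56)) :=
  Lgr Lrot59 (Lpr_cf (K25.f356418 IH) (Lpn (LP (LK LD1_c10 LD2_c36 LD3_c56))))
theorem f360037 : Led Lsl_gf (LP (LK LD1_c5 LD2_c29 LD3_c17)) = (LP (LK LD1_c9 LD2_c41 LD3_c2)) :=
  Lgr Lrot172 (Lpr_ct (f360020 IH) (Lpr_dt (f360027 IH) (Lpe (K25.f329674 IH) (Lpr_gf (f356434 IH) (Lpe (f356426 IH) (Lpr_gf (K25.f339468 IH) (Lpe (K24.f216313 IH) (Lpr_gt (K24.f213946 IH) (Lpr_ct (K25.f213932 IH) (Lpn (LP (LK LD1_c9 LD2_c41 LD3_c2))))))))))))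
theorem f360042 : Led Lsl_dt (LP (LK LD1_c5 LD2_c29 LD3_c17)) = (LP (LK LD1_c10 LD2_c49 LD3_c54)) :=
  Lre_d IH (LK LD1_c5 LD2_c29 LD3_c17) (LK LD1_c10 LD2_c49 LD3_c54) Lrfl Lrfl
theorem f360043 : Led Lsl_gt (LP (LK LD1_c10 LD2_c49 LD3_c54)) = (LP (LK LD1_c19 LD2_c34 LD3_c41)) :=
  Lre_g IH (LK LD1_c10 LD2_c49 LD3_c54) (LK LD1_c19 LD2_c34 LD3_c41) Lrfl Lrfl
theorem f360051 : Led Lsl_df (LP (LK LD1_c19 LD2_c34 LD3_c41)) = (LP (LK LD1_c11 LD2_c52 LD3_c29)) :=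
  Lgr Lrot132 (Lpe (f360043 IH) (Lpe (f360042 IH) (Lpr_gf (f360037 IH) (Lpe (K23.f223258 IH) (Lpr_dt (K12.f223256 IH) (Lpe (K12.f168601 IH) (Lpe (K12.f168602 IH) (Lpr_et (K22.f41741 IH) (Lpe (K12.f190973 IH) (Lpe (K23.f223291 IH) (Lpn (LP (LK LD1_c11 LD2_c52 LD3_c29)))))))))))))
theorem f341165 : Led Lsl_dt (LP (LK LD1_c19 LD2_c13 LD3_c52)) = (LP (LK LD1_c10 LD2_c36 LD3_c59)) :=
  Lre_d IH (LK LD1_c19 LD2_c13 LD3_c52) (LK LD1_c10 LD2_c36 LD3_c59) Lrfl Lrfl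
theorem f360069 : Led Lsl_gt (LP (LK LD1_c19 LD2_c34 LD3_c41)) = (LP (LK LD1_c19 LD2_c13 LD3_c52)) :=
  Lgr Lrot49 (Lpr_df (f360051 IH) (Lpe (K25.f355328 IH) (Lpe (K25.f311245 IH) (Lpr_gt (K25.f42549 IH) (Lpr_dt (K19.f42523 IH) (Lpr_gt (K12.f42540 IH) (Lpr_dt (K12.f199037 IH) (Lpe (K25.f199041 IH) (Lpe (f341165 IH) (Lpn (LP (LK LD1_c19 LD2_c13 LD3_c52))))))))))))
theorem f360059 : Led Lsl_ct (LP (LK LD1_c19 LD2_c34 LD3_c41)) = (LP (LK LD1_c28 LD2_c56 LD3_c32)) :=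
  Lre_c IH (LK LD1_c19 LD2_c34 LD3_c41) (LK LD1_c28 LD2_c56 LD3_c32) Lrfl Lrfl
theorem f356014 : Led Lsl_ct (LP (LK LD1_c16 LD2_c38 LD3_c15)) = (LP (LK LD1_c26 LD2_c36 LD3_c11)) :=
  Lre_c IH (LK LD1_c16 LD2_c38 LD3_c15) (LK LD1_c26 LD2_c36 LD3_c11) Lrfl Lrfl
theorem f356614 : Led Lsl_df (LP (LK LD1_c26 LD2_c36 LD3_c11)) = (LP (LK LD1_c28 LD2_c30 LD3_c1)) :=
  Lgr Lrot84 (Lpe (f356014 IH) (Lpe (K26.f356013 IH) (Lpe (K25.f356043 IH) (Lpe (K25.f198980 IH) (Lpe (K25.f321463 IH) (Lpe (K26.f321466 IH) (Lpr_gt (K26.f356612 IH) (Lpr_dt (K25.f215941 IH) (Lpe (K25.f356437 IH) (Lpn (LP (LK LD1_c28 LD2_c30 LD3_c1))))))))))))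
theorem f356622 : Led Lsl_dt (LP (LK LD1_c26 LD2_c36 LD3_c11)) = (LP (LK LD1_c28 LD2_c30 LD3_c1)) :=
  Lgr Lrot42 (Lpr_df (f356614 IH) (Lpn (LP (LK LD1_c28 LD2_c30 LD3_c1))))
theorem f360083 : Led Lsl_gt (LP (LK LD1_c28 LD2_c56 LD3_c32)) = (LP (LK LD1_c26 LD2_c36 LD3_c11)) :=
  Lgr Lrot94 (Lpe (f360059 IH) (Lpr_gt (f360069 IH) (Lpr_dt (f341165 IH) (Lpe (K25.f341160 IH) (Lpr_dt (K23.f213933 IH) (Lpe (K23.f213981 IH) (Lpe (K23.f343838 IH) (Lpe (K25.f356442 IH) (Lpe (f356622 IH) (Lpn (LP (LK LD1_c26 LD2_c36 LD3_c11))))))))))))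
theorem f360029 : Led Lsl_dt (LP (LK LD1_c10 LD2_c49 LD3_c54)) = (LP (LK LD1_c5 LD2_c29 LD3_c17)) :=
  Lre_d IH (LK LD1_c10 LD2_c49 LD3_c54) (LK LD1_c5 LD2_c29 LD3_c17) Lrfl Lrfl
theorem f360039 : Led Lsl_gt (LP (LK LD1_c5 LD2_c29 LD3_c17)) = (LP (LK LD1_c10 LD2_c49 LD3_c53)) :=
  Lre_g IH (LK LD1_c5 LD2_c29 LD3_c17) (LK LD1_c10 LD2_c49 LD3_c53) Lrfl Lrfl
theorem f356018 : Led Lsl_ct (LP (LK LD1_c26 LD2_c36 LD3_c11)) = (LP (LK LD1_c16 LD2_c38 LD3_c15)) :=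
  Lre_c IH (LK LD1_c26 LD2_c36 LD3_c11) (LK LD1_c16 LD2_c38 LD3_c15) Lrfl Lrfl
theorem f360087 : Led Lsl_ct (LP (LK LD1_c10 LD2_c49 LD3_c53)) = (LP (LK LD1_c16 LD2_c13 LD3_c38)) :=
  Lgr Lrot152 (Lpe (f360039 IH) (Lpe (f360029 IH) (Lpr_gt (f360043 IH) (Lpr_ct (f360059 IH) (Lpr_gt (f360083 IH) (Lpr_ct (f356018 IH) (Lpe (K26.f356013 IH) (Lpe (K25.f356005 IH) (Lpe (K27.f351528 IH) (Lpn (LP (LK LD1_c16 LD2_c13 LD3_c38))))))))))))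
theorem f360090 : Led Lsl_cf (LP (LK LD1_c10 LD2_c49 LD3_c53)) = (LP (LK LD1_c16 LD2_c13 LD3_c38)) :=
  Lgr Lrot11 (Lpr_ct (f360087 IH) (Lpn (LP (LK LD1_c16 LD2_c13 LD3_c38))))
theorem f340911 : Led Lsl_ct (LP (LK LD1_c2 LD2_c40 LD3_c52)) = (LP (LK LD1_c5 LD2_c29 LD3_c17)) :=
  Lre_c IH (LK LD1_c2 LD2_c40 LD3_c52) (LK LD1_c5 LD2_c29 LD3_c17) Lrfl Lrfl
theorem f360033 : Led Lsl_gf (LP (LK LD1_c2 LD2_c40 LD3_c52)) = (LP (LK LD1_c4 LD2_c3 LD3_c21)) :=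
  Lgr Lrot144 (Lpr_dt (f360027 IH) (Lpr_gt (K25.f42524 IH) (Lpr_dt (K25.f213522 IH) (Lpe (K25.f182876 IH) (Lpe (K25.f213521 IH) (Lpe (K25.f190216 IH) (Lpe (K25.f213514 IH) (Lpe (K22.f199049 IH) (Lpe (K17.f199023 IH) (Lpn (LP (LK LD1_c4 LD2_c3 LD3_c21))))))))))))
theorem f200908 : Led Lsl_gt (LP (LK LD1_c8 LD2_c7 LD3_c33)) = (LP (LK LD1_c4 LD2_c3 LD3_c29)) :=
  Lre_g IH (LK LD1_c8 LD2_c7 LD3_c33) (LK LD1_c4 LD2_c3 LD3_c29) Lrfl Lrfl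
theorem f365890 : Led Lsl_bt (LP (LK LD1_c15 LD2_c52 LD3_c41)) = (LP (LK LD1_c18 LD2_c45 LD3_c32)) :=
  Lgr Lrot92 (Lpe (K53.f358276 IH) (Lpr_gt (K53.f358271 IH) (Lpe (K19.f28039 IH) (Lpe (K53.f329968 IH) (Lpr_gt (K25.f356710 IH) (Lpr_ct (K27.f356684 IH) (Lpr_gt (K27.f356682 IH) (Lpr_cf (K27.f365886 IH) (Lpr_bt (K27.f350687 IH) (Lpr_gt (K27.f365884 IH) (Lpn (LP (LK LD1_c18 LD2_c45 LD3_c32)))))))))))))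
theorem f365914 : Led Lsl_bt (LP (LK LD1_c15 LD2_c51 LD3_c25)) = (LP (LK LD1_c8 LD2_c27 LD3_c44)) :=
  Lgr Lrot95 (Lpr_df (f365912 IH) (Lpe (f365890 IH) (Lpr_df (K53.f354029 IH) (Lpn (LP (LK LD1_c8 LD2_c27 LD3_c44))))))
theorem f189382 : Led Lsl_et (LP (LK LD1_c8 LD2_c27 LD3_c44)) = (LP (LK LD1_c4 LD2_c14 LD3_c30)) :=
  Lre_e IH (LK LD1_c8 LD2_c27 LD3_c44) (LK LD1_c4 LD2_c14 LD3_c30) Lrfl Lrfl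
theorem f365925 : Led Lsl_bf (LP (LK LD1_c8 LD2_c26 LD3_c39)) = (LP (LK LD1_c4 LD2_c14 LD3_c30)) :=
  Lgr Lrot96 (Lpr_et (f355317 IH) (Lpr_bt (f365914 IH) (Lpr_et (f189382 IH) (Lpn (LP (LK LD1_c4 LD2_c14 LD3_c30))))))
theorem f375944 : Led Lsl_cf (LP (LK LD1_c8 LD2_c7 LD3_c33)) = (LP (LK LD1_c4 LD2_c14 LD3_c30)) :=
  Lgr Lrot160 (Lpr_gt (f200908 IH) (Lpe (K23.f199051 IH) (Lpr_bt (K17.f198999 IH) (Lpe (f360033 IH) (Lpr_ct (f340911 IH) (Lpr_gt (f360039 IH) (Lpr_cf (f360090 IH) (Lpr_bt (K10.f187203 IH) (Lpr_gt (f375937 IH) (Lpr_bf (f365925 IH) (Lpn (LP (LK LD1_c4 LD2_c14 LD3_c30)))))))))))))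
theorem f256669 : Led Lsl_gt (LP (LK LD1_c9 LD2_c37 LD3_c37)) = (LP (LK LD1_c8 LD2_c7 LD3_c33)) :=
  Lgr Lrot5 (Lpr_ft (K15.f256652 IH) (Lpr_at (K15.f256654 IH) (Lpe (f200908 IH) (Lpn (LP (LK LD1_c8 LD2_c7 LD3_c33))))))
theorem f350616 : Led Lsl_bf (LP (LK LD1_c4 LD2_c3 LD3_c30)) = (LP (LK LD1_c5 LD2_c22 LD3_c38)) :=
  Lgr Lrot24 (Lpr_bt (K24.f350614 IH) (Lpn (LP (LK LD1_c5 LD2_c22 LD3_c38))))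
theorem f375954 : Led Lsl_gf (LP (LK LD1_c10 LD2_c35 LD3_c37)) = (LP (LK LD1_c9 LD2_c40 LD3_c38)) :=
  Lgr Lrot126 (Lpe (K25.f212975 IH) (Lpe (f350616 IH) (Lpr_gt (K21.f326809 IH) (Lpr_ct (K23.f170740 IH) (Lpr_gt (f256669 IH) (Lpr_cf (f375944 IH) (Lpe (f365925 IH) (Lpr_gt (K25.f188548 IH) (Lpe (K10.f188552 IH) (Lpr_ct (K25.f187328 IH) (Lpn (LP (LK LD1_c9 LD2_c40 LD3_c38)))))))))))))
theorem f231329 : Led Lsl_ct (LP (LK LD1_c10 LD2_c35 LD3_c37)) = (LP (LK LD1_c5 LD2_c22 LD3_c38)) :=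
  Lre_c IH (LK LD1_c10 LD2_c35 LD3_c37) (LK LD1_c5 LD2_c22 LD3_c38) Lrfl Lrfl
theorem f211373 : Led Lsl_ct (LP (LK LD1_c10 LD2_c0 LD3_c46)) = (LP (LK LD1_c18 LD2_c17 LD3_c49)) :=
  Lre_c IH (LK LD1_c10 LD2_c0 LD3_c46) (LK LD1_c18 LD2_c17 LD3_c49) Lrfl Lrfl
theorem f231338 : Led Lsl_ef (LP (LK LD1_c10 LD2_c35 LD3_c37)) = (LP (LK LD1_c18 LD2_c17 LD3_c49)) :=
  Lgr Lrot28 (Lpr_ct (f231329 IH) (Lpr_et (K24.f231336 IH) (Lpr_ct (f211373 IH) (Lpn (LP (LK LD1_c18 LD2_c17 LD3_c49))))))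
theorem f218759 : Led Lsl_et (LP (LK LD1_c4 LD2_c54 LD3_c30)) = (LP (LK LD1_c9 LD2_c40 LD3_c38)) :=
  Lre_e IH (LK LD1_c4 LD2_c54 LD3_c30) (LK LD1_c9 LD2_c40 LD3_c38) Lrfl Lrfl
theorem f187398 : Led Lsl_dt (LP (LK LD1_c9 LD2_c40 LD3_c48)) = (LP (LK LD1_c17 LD2_c48 LD3_c23)) :=
  Lre_d IH (LK LD1_c9 LD2_c40 LD3_c48) (LK LD1_c17 LD2_c48 LD3_c23) Lrfl Lrfl
theorem f187402 : Led Lsl_gt (LP (LK LD1_c27 LD2_c35 LD3_c35)) = (LP (LK LD1_c17 LD2_c48 LD3_c23)) :=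
  Lre_g IH (LK LD1_c27 LD2_c35 LD3_c35) (LK LD1_c17 LD2_c48 LD3_c23) Lrfl Lrfl
theorem f375960 : Led Lsl_dt (LP (LK LD1_c18 LD2_c17 LD3_c49)) = (LP (LK LD1_c27 LD2_c35 LD3_c35)) :=
  Lgr Lrot136 (Lpe (f231338 IH) (Lpr_gf (f375954 IH) (Lpe (f218759 IH) (Lpr_dt (K13.f167799 IH) (Lpr_gf (K12.f218756 IH) (Lpe (K12.f49256 IH) (Lpe (K12.f218735 IH) (Lpe (K27.f218758 IH) (Lpr_dt (f187398 IH) (Lpe (f187402 IH) (Lpn (LP (LK LD1_c27 LD2_c35 LD3_c35)))))))))))))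
theorem f367357 : Led Lsl_dt (LP (LK LD1_c9 LD2_c42 LD3_c39)) = (LP (LK LD1_c17 LD2_c51 LD3_c31)) :=
  Lre_d IH (LK LD1_c9 LD2_c42 LD3_c39) (LK LD1_c17 LD2_c51 LD3_c31) Lrfl Lrfl
theorem f375964 : Led Lsl_gt (LP (LK LD1_c17 LD2_c51 LD3_c31)) = (LP (LK LD1_c27 LD2_c35 LD3_c35)) :=
  Lgr Lrot112 (Lpe (f367357 IH) (Lpe (K27.f367364 IH) (Lpe (K26.f363975 IH) (Lpe (K25.f351824 IH) (Lpr_dt (K25.f351817 IH) (Lpr_gf (K25.f351820 IH) (Lpe (K25.f325038 IH) (Lpe (K25.f353738 IH) (Lpr_ef (f231338 IH) (Lpr_dt (f375960 IH) (Lpn (LP (LK LD1_c27 LD2_c35 LD3_c35)))))))))))))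
theorem f375962 : Led Lsl_df (LP (LK LD1_c18 LD2_c17 LD3_c49)) = (LP (LK LD1_c27 LD2_c35 LD3_c35)) :=
  Lgr Lrot38 (Lpr_dt (f375960 IH) (Lpn (LP (LK LD1_c27 LD2_c35 LD3_c35))))
theorem f231341 : Led Lsl_ef (LP (LK LD1_c5 LD2_c22 LD3_c38)) = (LP (LK LD1_c10 LD2_c0 LD3_c46)) :=
  Lgr Lrot88 (Lpr_et (K24.f231336 IH) (Lpn (LP (LK LD1_c10 LD2_c0 LD3_c46))))
theorem f351448 : Led Lsl_gf (LP (LK LD1_c10 LD2_c1 LD3_c13)) = (LP (LK LD1_c11 LD2_c52 LD3_c47)) :=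
  Lgr Lrot134 (Lpr_df (K24.f351439 IH) (Lpe (f231341 IH) (Lpr_gt (K24.f328385 IH) (Lpr_ef (K19.f310932 IH) (Lpr_dt (K15.f169194 IH) (Lpe (K27.f348108 IH) (Lpr_df (K23.f348100 IH) (Lpr_et (K23.f194619 IH) (Lpe (K23.f340075 IH) (Lpe (K19.f196792 IH) (Lpn (LP (LK LD1_c11 LD2_c52 LD3_c47)))))))))))))
theorem f375966 : Led Lsl_ct (LP (LK LD1_c17 LD2_c48 LD3_c22)) = (LP (LK LD1_c10 LD2_c31 LD3_c42)) :=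
  Lgr Lrot8 (Lpr_gt (K27.f368774 IH) (Lpr_dt (f367357 IH) (Lpr_gt (f375964 IH) (Lpe (f375962 IH) (Lpe (f211373 IH) (Lpe (K25.f351441 IH) (Lpr_gf (f351448 IH) (Lpr_df (K19.f196792 IH) (Lpr_gf (K23.f340075 IH) (Lpn (LP (LK LD1_c10 LD2_c31 LD3_c42))))))))))))
theorem f355182 : Led Lsl_bt (LP (LK LD1_c15 LD2_c30 LD3_c9)) = (LP (LK LD1_c8 LD2_c14 LD3_c26)) :=
  Lre_b IH (LK LD1_c15 LD2_c30 LD3_c9) (LK LD1_c8 LD2_c14 LD3_c26) Lrfl Lrfl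
theorem f355183 : Led Lsl_bt (LP (LK LD1_c8 LD2_c11 LD3_c57)) = (LP (LK LD1_c15 LD2_c26 LD3_c6)) :=
  Lre_b IH (LK LD1_c8 LD2_c11 LD3_c57) (LK LD1_c15 LD2_c26 LD3_c6) Lrfl Lrfl
theorem f355184 : Led Lsl_ef (LP (LK LD1_c15 LD2_c30 LD3_c9)) = (LP (LK LD1_c15 LD2_c26 LD3_c6)) :=
  Lgr Lrot29 (Lpr_bt (f355182 IH) (Lpr_et (K26.f355180 IH) (Lpr_bt (f355183 IH) (Lpn (LP (LK LD1_c15 LD2_c26 LD3_c6))))))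
theorem f363943 : Led Lsl_gt (LP (LK LD1_c5 LD2_c2 LD3_c49)) = (LP (LK LD1_c9 LD2_c55 LD3_c0)) :=
  Lgr Lrot5 (Lpe (K19.f257688 IH) (Lpr_at (K19.f257692 IH) (Lpr_gf (K26.f363941 IH) (Lpn (LP (LK LD1_c9 LD2_c55 LD3_c0))))))
theorem f334369 : Led Lsl_dt (LP (LK LD1_c8 LD2_c14 LD3_c25)) = (LP (LK LD1_c15 LD2_c30 LD3_c9)) :=
  Lre_d IH (LK LD1_c8 LD2_c14 LD3_c25) (LK LD1_c15 LD2_c30 LD3_c9) Lrfl Lrfl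
theorem f253983 : Led Lsl_ct (LP (LK LD1_c2 LD2_c44 LD3_c25)) = (LP (LK LD1_c5 LD2_c37 LD3_c2)) :=
  Lre_c IH (LK LD1_c2 LD2_c44 LD3_c25) (LK LD1_c5 LD2_c37 LD3_c2) Lrfl Lrfl
theorem f271007 : Led Lsl_ef (LP (LK LD1_c2 LD2_c44 LD3_c25)) = (LP (LK LD1_c2 LD2_c7 LD3_c23)) :=
  Lgr Lrot28 (Lpr_ct (f253983 IH) (Lpr_et (K16.f271000 IH) (Lpr_ct (K16.f253258 IH) (Lpn (LP (LK LD1_c2 LD2_c7 LD3_c23))))))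
theorem f271075 : Led Lsl_df (LP (LK LD1_c4 LD2_c5 LD3_c4)) = (LP (LK LD1_c2 LD2_c44 LD3_c25)) :=
  Lgr Lrot70 (Lpr_et (K16.f271074 IH) (Lpr_dt (K16.f271067 IH) (Lpr_et (K21.f166985 IH) (Lpe (K17.f253259 IH) (Lpe (f271007 IH) (Lpn (LP (LK LD1_c2 LD2_c44 LD3_c25))))))))
theorem f284082 : Led Lsl_gt (LP (LK LD1_c2 LD2_c28 LD3_c59)) = (LP (LK LD1_c2 LD2_c44 LD3_c25)) :=
  Lgr Lrot180 (Lpr_ct (K17.f284070 IH) (Lpr_gt (K14.f230786 IH) (Lpe (K12.f230779 IH) (Lpr_gt (K12.f230660 IH) (Lpr_dt (K1.f46079 IH) (Lpe (K1.f47104 IH) (Lpe (K10.f47099 IH) (Lpe (K15.f47100 IH) (Lpr_df (f271075 IH) (Lpn (LP (LK LD1_c2 LD2_c44 LD3_c25))))))))))))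
theorem f363266 : Led Lsl_gt (LP (LK LD1_c15 LD2_c30 LD3_c9)) = (LP (LK LD1_c9 LD2_c39 LD3_c1)) :=
  Lgr Lrot139 (Lpe (f334369 IH) (Lpr_gf (K26.f363259 IH) (Lpe (K16.f271074 IH) (Lpr_dt (K16.f271186 IH) (Lpe (f284082 IH) (Lpe (K17.f284033 IH) (Lpr_et (K17.f230904 IH) (Lpe (K26.f230901 IH) (Lpr_ef (K26.f305913 IH) (Lpr_dt (K26.f261154 IH) (Lpn (LP (LK LD1_c9 LD2_c39 LD3_c1)))))))))))))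
theorem f367367 : Led Lsl_et (LP (LK LD1_c8 LD2_c14 LD3_c25)) = (LP (LK LD1_c7 LD2_c58 LD3_c53)) :=
  Lgr Lrot122 (Lpr_dt (f334369 IH) (Lpr_gt (f363266 IH) (Lpe (K26.f261154 IH) (Lpe (K26.f305913 IH) (Lpr_gt (K26.f230901 IH) (Lpr_dt (K17.f284011 IH) (Lpr_gt (f363943 IH) (Lpe (K26.f259611 IH) (Lpr_et (K27.f367360 IH) (Lpe (K27.f367345 IH) (Lpn (LP (LK LD1_c7 LD2_c58 LD3_c53)))))))))))))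
theorem f368531 : Led Lsl_df (LP (LK LD1_c4 LD2_c56 LD3_c9)) = (LP (LK LD1_c7 LD2_c58 LD3_c53)) :=
  Lgr Lrot70 (Lpr_et (K27.f368489 IH) (Lpr_dt (K26.f355199 IH) (Lpe (f355184 IH) (Lpr_dt (K26.f334370 IH) (Lpr_et (f367367 IH) (Lpn (LP (LK LD1_c7 LD2_c58 LD3_c53))))))))
theorem f363461 : Led Lsl_cf (LP (LK LD1_c15 LD2_c19 LD3_c54)) = (LP (LK LD1_c24 LD2_c48 LD3_c48)) :=
  Lgr Lrot39 (Lpr_et (K23.f304129 IH) (Lpe (f348146 IH) (Lpr_et (K27.f363459 IH) (Lpn (LP (LK LD1_c24 LD2_c48 LD3_c48))))))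
theorem f375970 : Led Lsl_gt (LP (LK LD1_c4 LD2_c56 LD3_c9)) = (LP (LK LD1_c7 LD2_c57 LD3_c44)) :=
  Lgr Lrot9 (Lpr_df (f368531 IH) (Lpr_gt (K27.f368535 IH) (Lpr_ct (K27.f187397 IH) (Lpr_gt (K27.f263739 IH) (Lpr_ct (f375966 IH) (Lpe (K23.f340077 IH) (Lpr_cf (f363461 IH) (Lpe (K27.f224047 IH) (Lpe (K26.f223955 IH) (Lpn (LP (LK LD1_c7 LD2_c57 LD3_c44))))))))))))
theorem f348818 : Led Lsl_ct (LP (LK LD1_c4 LD2_c56 LD3_c9)) = (LP (LK LD1_c9 LD2_c43 LD3_c58)) :=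
  Lre_c IH (LK LD1_c4 LD2_c56 LD3_c9) (LK LD1_c9 LD2_c43 LD3_c58) Lrfl Lrfl
theorem f351973 : Led Lsl_et (LP (LK LD1_c17 LD2_c51 LD3_c34)) = (LP (LK LD1_c27 LD2_c38 LD3_c11)) :=
  Lre_e IH (LK LD1_c17 LD2_c51 LD3_c34) (LK LD1_c27 LD2_c38 LD3_c11) Lrfl Lrfl
theorem f196433 : Led Lsl_gt (LP (LK LD1_c15 LD2_c20 LD3_c2)) = (LP (LK LD1_c25 LD2_c11 LD3_c16)) :=
  Lre_g IH (LK LD1_c15 LD2_c20 LD3_c2) (LK LD1_c25 LD2_c11 LD3_c16) Lrfl Lrfl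
theorem f351980 : Led Lsl_dt (LP (LK LD1_c17 LD2_c51 LD3_c34)) = (LP (LK LD1_c25 LD2_c11 LD3_c16)) :=
  Lgr Lrot37 (Lpr_et (f351973 IH) (Lpr_gt (K25.f351975 IH) (Lpe (K25.f351977 IH) (Lpr_gt (K25.f41345 IH) (Lpe (K25.f41336 IH) (Lpr_et (K25.f54958 IH) (Lpe (K12.f196418 IH) (Lpe (K26.f196431 IH) (Lpr_dt (K26.f196432 IH) (Lpr_gt (f196433 IH) (Lpn (LP (LK LD1_c25 LD2_c11 LD3_c16)))))))))))))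
theorem f351986 : Led Lsl_df (LP (LK LD1_c17 LD2_c51 LD3_c34)) = (LP (LK LD1_c25 LD2_c11 LD3_c16)) :=
  Lgr Lrot38 (Lpr_dt (f351980 IH) (Lpn (LP (LK LD1_c25 LD2_c11 LD3_c16))))
theorem f375973 : Led Lsl_gt (LP (LK LD1_c9 LD2_c43 LD3_c58)) = (LP (LK LD1_c8 LD2_c8 LD3_c36)) :=
  Lgr Lrot94 (Lpe (f348818 IH) (Lpr_gt (f375970 IH) (Lpr_dt (K15.f223958 IH) (Lpr_gt (K25.f223970 IH) (Lpr_dt (K25.f291775 IH) (Lpe (K27.f291808 IH) (Lpr_df (f351986 IH) (Lpe (f196433 IH) (Lpe (K26.f196432 IH) (Lpn (LP (LK LD1_c8 LD2_c8 LD3_c36))))))))))))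
theorem f290723 : Led Lsl_af (LP (LK LD1_c8 LD2_c8 LD3_c36)) = (LP (LK LD1_c7 LD2_c58 LD3_c31)) :=
  Lgr Lrot0 (Lpr_at (K17.f290719 IH) (Lpn (LP (LK LD1_c7 LD2_c58 LD3_c31))))
theorem f290755 : Led Lsl_ft (LP (LK LD1_c15 LD2_c2 LD3_c48)) = (LP (LK LD1_c7 LD2_c58 LD3_c31)) :=
  Lre_f IH (LK LD1_c15 LD2_c2 LD3_c48) (LK LD1_c7 LD2_c58 LD3_c31) Lrfl Lrfl
theorem f375975 : Led Lsl_gf (LP (LK LD1_c9 LD2_c43 LD3_c58)) = (LP (LK LD1_c15 LD2_c2 LD3_c48)) :=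
  Lgr Lrot47 (Lpr_gt (f375973 IH) (Lpr_af (f290723 IH) (Lpe (f290755 IH) (Lpn (LP (LK LD1_c15 LD2_c2 LD3_c48))))))
theorem f375977 : Led Lsl_dt (LP (LK LD1_c9 LD2_c43 LD3_c58)) = (LP (LK LD1_c17 LD2_c53 LD3_c16)) :=
  Lre_d IH (LK LD1_c9 LD2_c43 LD3_c58) (LK LD1_c17 LD2_c53 LD3_c16) Lrfl Lrfl
theorem f182788 : Led Lsl_dt (LP (LK LD1_c20 LD2_c55 LD3_c55)) = (LP (LK LD1_c11 LD2_c52 LD3_c45)) :=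
  Lre_d IH (LK LD1_c20 LD2_c55 LD3_c55) (LK LD1_c11 LD2_c52 LD3_c45) Lrfl Lrfl
theorem f375997 : Led Lsl_gt (LP (LK LD1_c17 LD2_c53 LD3_c16)) = (LP (LK LD1_c20 LD2_c55 LD3_c55)) :=
  Lgr Lrot49 (Lpe (f375977 IH) (Lpr_gf (f375975 IH) (Lpe (K17.f290747 IH) (Lpr_gt (K25.f290757 IH) (Lpe (K25.f352620 IH) (Lpr_gt (K26.f352614 IH) (Lpe (K19.f196777 IH) (Lpe (K27.f196787 IH) (Lpe (f182788 IH) (Lpn (LP (LK LD1_c20 LD2_c55 LD3_c55))))))))))))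
theorem f182770 : Led Lsl_dt (LP (LK LD1_c11 LD2_c52 LD3_c45)) = (LP (LK LD1_c20 LD2_c55 LD3_c55)) :=
  Lre_d IH (LK LD1_c11 LD2_c52 LD3_c45) (LK LD1_c20 LD2_c55 LD3_c55) Lrfl Lrfl
theorem f182791 : Led Lsl_et (LP (LK LD1_c11 LD2_c52 LD3_c45)) = (LP (LK LD1_c6 LD2_c4 LD3_c36)) :=
  Lre_e IH (LK LD1_c11 LD2_c52 LD3_c45) (LK LD1_c6 LD2_c4 LD3_c36) Lrfl Lrfl
theorem f376001 : Led Lsl_et (LP (LK LD1_c9 LD2_c43 LD3_c58)) = (LP (LK LD1_c15 LD2_c26 LD3_c5)) :=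
  Lgr Lrot122 (Lpr_dt (f375977 IH) (Lpr_gt (f375997 IH) (Lpe (f182770 IH) (Lpr_et (f182791 IH) (Lpe (K15.f257995 IH) (Lpr_dt (K14.f250471 IH) (Lpe (K15.f266698 IH) (Lpr_df (K17.f266705 IH) (Lpr_et (K17.f266707 IH) (Lpe (K26.f363282 IH) (Lpn (LP (LK LD1_c15 LD2_c26 LD3_c5)))))))))))))
theorem f168981 : Led Lsl_gt (LP (LK LD1_c27 LD2_c39 LD3_c18)) = (LP (LK LD1_c17 LD2_c53 LD3_c16)) :=
  Lre_g IH (LK LD1_c27 LD2_c39 LD3_c18) (LK LD1_c17 LD2_c53 LD3_c16) Lrfl Lrfl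
theorem f376003 : Led Lsl_df (LP (LK LD1_c27 LD2_c39 LD3_c18)) = (LP (LK LD1_c19 LD2_c58 LD3_c17)) :=
  Lgr Lrot170 (Lpr_gt (f168981 IH) (Lpe (f375977 IH) (Lpr_et (f376001 IH) (Lpr_gt (K26.f363278 IH) (Lpr_dt (K17.f283519 IH) (Lpe (K25.f283570 IH) (Lpe (K22.f296162 IH) (Lpe (K14.f254092 IH) (Lpr_gt (K25.f253601 IH) (Lpe (K26.f254114 IH) (Lpn (LP (LK LD1_c19 LD2_c58 LD3_c17)))))))))))))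
theorem f168980 : Led Lsl_dt (LP (LK LD1_c17 LD2_c53 LD3_c16)) = (LP (LK LD1_c9 LD2_c43 LD3_c58)) :=
  Lre_d IH (LK LD1_c17 LD2_c53 LD3_c16) (LK LD1_c9 LD2_c43 LD3_c58) Lrfl Lrfl
theorem f168979 : Led Lsl_ct (LP (LK LD1_c9 LD2_c43 LD3_c58)) = (LP (LK LD1_c4 LD2_c56 LD3_c9)) :=
  Lre_c IH (LK LD1_c9 LD2_c43 LD3_c58) (LK LD1_c4 LD2_c56 LD3_c9) Lrfl Lrfl
theorem f187375 : Led Lsl_ct (LP (LK LD1_c8 LD2_c13 LD3_c25)) = (LP (LK LD1_c15 LD2_c28 LD3_c11)) :=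
  Lre_c IH (LK LD1_c8 LD2_c13 LD3_c25) (LK LD1_c15 LD2_c28 LD3_c11) Lrfl Lrfl
theorem f376009 : Led Lsl_gt (LP (LK LD1_c15 LD2_c28 LD3_c11)) = (LP (LK LD1_c19 LD2_c58 LD3_c17)) :=
  Lgr Lrot94 (Lpe (f187375 IH) (Lpe (K27.f368480 IH) (Lpr_dt (K15.f217529 IH) (Lpe (K27.f367345 IH) (Lpe (f368531 IH) (Lpe (f168979 IH) (Lpe (f168980 IH) (Lpe (f168981 IH) (Lpr_df (f376003 IH) (Lpn (LP (LK LD1_c19 LD2_c58 LD3_c17))))))))))))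
theorem f376012 : Led Lsl_et (LP (LK LD1_c15 LD2_c1 LD3_c44)) = (LP (LK LD1_c15 LD2_c28 LD3_c11)) :=
  Lgr Lrot121 (Lpr_dt (K25.f353658 IH) (Lpr_gf (K27.f368333 IH) (Lpe (K27.f368304 IH) (Lpr_et (K17.f283652 IH) (Lpe (K26.f363278 IH) (Lpe (f376001 IH) (Lpr_dt (f375977 IH) (Lpe (f168981 IH) (Lpr_df (f376003 IH) (Lpe (f376009 IH) (Lpn (LP (LK LD1_c15 LD2_c28 LD3_c11)))))))))))))
theorem f368462 : Led Lsl_af (LP (LK LD1_c11 LD2_c57 LD3_c8)) = (LP (LK LD1_c15 LD2_c28 LD3_c11)) :=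
  Lgr Lrot68 (Lpr_ct (K26.f169041 IH) (Lpr_at (K27.f368458 IH) (Lpr_ct (f187375 IH) (Lpn (LP (LK LD1_c15 LD2_c28 LD3_c11))))))
theorem f376018 : Led Lsl_af (LP (LK LD1_c15 LD2_c1 LD3_c44)) = (LP (LK LD1_c9 LD2_c0 LD3_c2)) :=
  Lgr Lrot50 (Lpr_et (f376012 IH) (Lpe (f368462 IH) (Lpe (K26.f169053 IH) (Lpn (LP (LK LD1_c9 LD2_c0 LD3_c2))))))
theorem f376088 : Led Lsl_ft (LP (LK LD1_c5 LD2_c36 LD3_c57)) = (LP (LK LD1_c9 LD2_c0 LD3_c2)) :=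
  Lgr Lrot101 (Lpe (K25.f178226 IH) (Lpe (K25.f356335 IH) (Lpr_af (f376018 IH) (Lpn (LP (LK LD1_c9 LD2_c0 LD3_c2))))))
theorem f376090 : Led Lsl_ff (LP (LK LD1_c11 LD2_c6 LD3_c1)) = (LP (LK LD1_c16 LD2_c49 LD3_c33)) :=
  Lgr Lrot19 (Lpr_dt (K25.f178227 IH) (Lpr_ft (f376088 IH) (Lpr_dt (K27.f167903 IH) (Lpn (LP (LK LD1_c16 LD2_c49 LD3_c33))))))
theorem f356380 : Led Lsl_at (LP (LK LD1_c11 LD2_c6 LD3_c1)) = (LP (LK LD1_c19 LD2_c59 LD3_c22)) :=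
  Lre_a IH (LK LD1_c11 LD2_c6 LD3_c1) (LK LD1_c19 LD2_c59 LD3_c22) Lrfl Lrfl
theorem f376204 : Led Lsl_gf (LP (LK LD1_c19 LD2_c59 LD3_c22)) = (LP (LK LD1_c19 LD2_c11 LD3_c12)) :=
  Lgr Lrot76 (Lpe (f356380 IH) (Lpr_ff (f376090 IH) (Lpr_gt (K27.f350595 IH) (Lpn (LP (LK LD1_c19 LD2_c11 LD3_c12))))))
theorem f312683 : Led Lsl_ct (LP (LK LD1_c28 LD2_c37 LD3_c1)) = (LP (LK LD1_c19 LD2_c11 LD3_c12)) :=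
  Lre_c IH (LK LD1_c28 LD2_c37 LD3_c1) (LK LD1_c19 LD2_c11 LD3_c12) Lrfl Lrfl
theorem f368302 : Led Lsl_ft (LP (LK LD1_c19 LD2_c11 LD3_c12)) = (LP (LK LD1_c19 LD2_c59 LD3_c26)) :=
  Lgr Lrot4 (Lpe (f312683 IH) (Lpe (K27.f368273 IH) (Lpr_cf (K27.f368285 IH) (Lpn (LP (LK LD1_c19 LD2_c59 LD3_c26))))))
theorem f182852 : Led Lsl_dt (LP (LK LD1_c25 LD2_c21 LD3_c49)) = (LP (LK LD1_c15 LD2_c29 LD3_c7)) :=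
  Lre_d IH (LK LD1_c25 LD2_c21 LD3_c49) (LK LD1_c15 LD2_c29 LD3_c7) Lrfl Lrfl
theorem f368307 : Led Lsl_af (LP (LK LD1_c25 LD2_c21 LD3_c49)) = (LP (LK LD1_c19 LD2_c59 LD3_c26)) :=
  Lgr Lrot117 (Lpr_dt (f182852 IH) (Lpe (K27.f283654 IH) (Lpr_dt (K27.f368304 IH) (Lpn (LP (LK LD1_c19 LD2_c59 LD3_c26))))))
theorem f376206 : Led Lsl_gt (LP (LK LD1_c19 LD2_c59 LD3_c22)) = (LP (LK LD1_c25 LD2_c21 LD3_c49)) :=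
  Lgr Lrot46 (Lpr_gf (f376204 IH) (Lpr_ft (f368302 IH) (Lpe (f368307 IH) (Lpn (LP (LK LD1_c25 LD2_c21 LD3_c49))))))
theorem f356348 : Led Lsl_dt (LP (LK LD1_c11 LD2_c5 LD3_c60)) = (LP (LK LD1_c19 LD2_c59 LD3_c22)) :=
  Lre_d IH (LK LD1_c11 LD2_c5 LD3_c60) (LK LD1_c19 LD2_c59 LD3_c22) Lrfl Lrfl
theorem f356272 : Led Lsl_gt (LP (LK LD1_c5 LD2_c22 LD3_c37)) = (LP (LK LD1_c9 LD2_c41 LD3_c36)) :=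
  Lgr Lrot5 (Lpr_ft (K19.f312674 IH) (Lpr_at (K19.f312668 IH) (Lpr_gf (K25.f356269 IH) (Lpn (LP (LK LD1_c9 LD2_c41 LD3_c36))))))
theorem f201026 : Led Lsl_ct (LP (LK LD1_c2 LD2_c37 LD3_c52)) = (LP (LK LD1_c5 LD2_c22 LD3_c37)) :=
  Lre_c IH (LK LD1_c2 LD2_c37 LD3_c52) (LK LD1_c5 LD2_c22 LD3_c37) Lrfl Lrfl
theorem f358745 : Led Lsl_gf (LP (LK LD1_c11 LD2_c5 LD3_c60)) = (LP (LK LD1_c15 LD2_c41 LD3_c58)) :=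
  Lgr Lrot172 (Lpr_ct (K27.f356345 IH) (Lpr_dt (K26.f358732 IH) (Lpe (K27.f291817 IH) (Lpe (f356272 IH) (Lpe (f201026 IH) (Lpe (K23.f231250 IH) (Lpr_dt (K24.f231256 IH) (Lpr_gt (K23.f284560 IH) (Lpr_ct (K16.f170732 IH) (Lpn (LP (LK LD1_c15 LD2_c41 LD3_c58))))))))))))
theorem f305648 : Led Lsl_et (LP (LK LD1_c11 LD2_c10 LD3_c30)) = (LP (LK LD1_c15 LD2_c41 LD3_c58)) :=
  Lgr Lrot158 (Lpr_cf (K19.f305638 IH) (Lpe (K15.f256752 IH) (Lpe (K24.f170752 IH) (Lpn (LP (LK LD1_c15 LD2_c41 LD3_c58))))))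
theorem f305646 : Led Lsl_dt (LP (LK LD1_c11 LD2_c10 LD3_c30)) = (LP (LK LD1_c20 LD2_c5 LD3_c11)) :=
  Lre_d IH (LK LD1_c11 LD2_c10 LD3_c30) (LK LD1_c20 LD2_c5 LD3_c11) Lrfl Lrfl
theorem f336637 : Led Lsl_ct (LP (LK LD1_c17 LD2_c42 LD3_c6)) = (LP (LK LD1_c27 LD2_c29 LD3_c27)) :=
  Lre_c IH (LK LD1_c17 LD2_c42 LD3_c6) (LK LD1_c27 LD2_c29 LD3_c27) Lrfl Lrfl
theorem f261036 : Led Lsl_ft (LP (LK LD1_c15 LD2_c18 LD3_c29)) = (LP (LK LD1_c8 LD2_c7 LD3_c46)) :=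
  Lre_f IH (LK LD1_c15 LD2_c18 LD3_c29) (LK LD1_c8 LD2_c7 LD3_c46) Lrfl Lrfl
theorem f261018 : Led Lsl_at (LP (LK LD1_c8 LD2_c7 LD3_c46)) = (LP (LK LD1_c4 LD2_c3 LD3_c41)) :=
  Lre_a IH (LK LD1_c8 LD2_c7 LD3_c46) (LK LD1_c4 LD2_c3 LD3_c41) Lrfl Lrfl
theorem f237166 : Led Lsl_dt (LP (LK LD1_c15 LD2_c18 LD3_c38)) = (LP (LK LD1_c8 LD2_c7 LD3_c51)) :=
  Lre_d IH (LK LD1_c15 LD2_c18 LD3_c38) (LK LD1_c8 LD2_c7 LD3_c51) Lrfl Lrfl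
theorem f237167 : Led Lsl_ct (LP (LK LD1_c25 LD2_c9 LD3_c29)) = (LP (LK LD1_c15 LD2_c18 LD3_c38)) :=
  Lre_c IH (LK LD1_c25 LD2_c9 LD3_c29) (LK LD1_c15 LD2_c18 LD3_c38) Lrfl Lrfl
theorem f336641 : Led Lsl_dt (LP (LK LD1_c27 LD2_c29 LD3_c27)) = (LP (LK LD1_c25 LD2_c9 LD3_c29)) :=
  Lgr Lrot140 (Lpe (f336637 IH) (Lpr_df (K23.f336632 IH) (Lpe (K23.f260839 IH) (Lpe (K15.f261026 IH) (Lpr_ft (f261036 IH) (Lpr_at (f261018 IH) (Lpe (K19.f237145 IH) (Lpe (f237166 IH) (Lpe (f237167 IH) (Lpn (LP (LK LD1_c25 LD2_c9 LD3_c29))))))))))))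
theorem f301602 : Led Lsl_dt (LP (LK LD1_c26 LD2_c48 LD3_c36)) = (LP (LK LD1_c16 LD2_c51 LD3_c16)) :=
  Lre_d IH (LK LD1_c26 LD2_c48 LD3_c36) (LK LD1_c16 LD2_c51 LD3_c16) Lrfl Lrfl
theorem f276302 : Led Lsl_dt (LP (LK LD1_c19 LD2_c57 LD3_c59)) = (LP (LK LD1_c11 LD2_c5 LD3_c6)) :=
  Lre_d IH (LK LD1_c19 LD2_c57 LD3_c59) (LK LD1_c11 LD2_c5 LD3_c6) Lrfl Lrfl
theorem f276303 : Led Lsl_af (LP (LK LD1_c19 LD2_c57 LD3_c59)) = (LP (LK LD1_c15 LD2_c18 LD3_c38)) :=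
  Lgr Lrot117 (Lpr_dt (f276302 IH) (Lpr_at (K18.f276294 IH) (Lpr_dt (f226835 IH) (Lpn (LP (LK LD1_c15 LD2_c18 LD3_c38))))))
theorem f276305 : Led Lsl_at (LP (LK LD1_c19 LD2_c57 LD3_c59)) = (LP (LK LD1_c15 LD2_c18 LD3_c38)) :=
  Lgr Lrot100 (Lpr_af (f276303 IH) (Lpn (LP (LK LD1_c15 LD2_c18 LD3_c38))))
theorem f336645 : Led Lsl_ft (LP (LK LD1_c26 LD2_c48 LD3_c36)) = (LP (LK LD1_c19 LD2_c57 LD3_c59)) :=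
  Lgr Lrot142 (Lpr_dt (f301602 IH) (Lpr_ct (K21.f301595 IH) (Lpr_dt (K15.f261026 IH) (Lpr_ct (K23.f260839 IH) (Lpe (K23.f336632 IH) (Lpr_ct (f336637 IH) (Lpr_dt (f336641 IH) (Lpr_ct (f237167 IH) (Lpe (f276305 IH) (Lpn (LP (LK LD1_c19 LD2_c57 LD3_c59))))))))))))
theorem f305652 : Led Lsl_dt (LP (LK LD1_c20 LD2_c5 LD3_c11)) = (LP (LK LD1_c11 LD2_c10 LD3_c30)) :=
  Lre_d IH (LK LD1_c20 LD2_c5 LD3_c11) (LK LD1_c11 LD2_c10 LD3_c30) Lrfl Lrfl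
theorem f305656 : Led Lsl_ff (LP (LK LD1_c20 LD2_c5 LD3_c11)) = (LP (LK LD1_c15 LD2_c18 LD3_c38)) :=
  Lgr Lrot19 (Lpr_dt (f305652 IH) (Lpr_ft (K19.f305650 IH) (Lpr_dt (f226835 IH) (Lpn (LP (LK LD1_c15 LD2_c18 LD3_c38))))))
theorem f336647 : Led Lsl_af (LP (LK LD1_c26 LD2_c48 LD3_c36)) = (LP (LK LD1_c20 LD2_c5 LD3_c11)) :=
  Lgr Lrot45 (Lpr_ft (f336645 IH) (Lpr_at (f276305 IH) (Lpe (f305656 IH) (Lpn (LP (LK LD1_c20 LD2_c5 LD3_c11))))))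
theorem f336651 : Led Lsl_at (LP (LK LD1_c26 LD2_c48 LD3_c36)) = (LP (LK LD1_c20 LD2_c5 LD3_c11)) :=
  Lgr Lrot100 (Lpr_af (f336647 IH) (Lpn (LP (LK LD1_c20 LD2_c5 LD3_c11))))
theorem f254144 : Led Lsl_dt (LP (LK LD1_c11 LD2_c5 LD3_c6)) = (LP (LK LD1_c19 LD2_c57 LD3_c59)) :=
  Lre_d IH (LK LD1_c11 LD2_c5 LD3_c6) (LK LD1_c19 LD2_c57 LD3_c59) Lrfl Lrfl
theorem f301603 : Led Lsl_ff (LP (LK LD1_c26 LD2_c48 LD3_c36)) = (LP (LK LD1_c19 LD2_c57 LD3_c59)) :=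
  Lgr Lrot19 (Lpr_dt (f301602 IH) (Lpr_ft (K18.f301598 IH) (Lpr_dt (f254144 IH) (Lpn (LP (LK LD1_c19 LD2_c57 LD3_c59))))))
theorem f254145 : Led Lsl_gt (LP (LK LD1_c19 LD2_c57 LD3_c59)) = (LP (LK LD1_c29 LD2_c13 LD3_c10)) :=
  Lre_g IH (LK LD1_c19 LD2_c57 LD3_c59) (LK LD1_c29 LD2_c13 LD3_c10) Lrfl Lrfl
theorem f336658 : Led Lsl_gt (LP (LK LD1_c29 LD2_c13 LD3_c10)) = (LP (LK LD1_c20 LD2_c5 LD3_c11)) :=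
  Lgr Lrot46 (Lpe (f254145 IH) (Lpe (f301603 IH) (Lpr_at (f336651 IH) (Lpn (LP (LK LD1_c20 LD2_c5 LD3_c11))))))
theorem f379072 : Led Lsl_dt (LP (LK LD1_c20 LD2_c5 LD3_c30)) = (LP (LK LD1_c29 LD2_c13 LD3_c10)) :=
  Lgr Lrot136 (Lpr_et (f379068 IH) (Lpr_gf (f356058 IH) (Lpe (f310777 IH) (Lpr_dt (K19.f182850 IH) (Lpe (f376206 IH) (Lpe (f356348 IH) (Lpr_gf (f358745 IH) (Lpe (f305648 IH) (Lpr_dt (f305646 IH) (Lpe (f336658 IH) (Lpn (LP (LK LD1_c29 LD2_c13 LD3_c10)))))))))))))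
theorem f691117 : Led Lsl_ff (LP (LK LD1_c25 LD2_c9 LD3_c28)) = (LP (LK LD1_c29 LD2_c13 LD3_c10)) :=
  Lgr Lrot19 (Lpe (f354001 IH) (Lpr_ft (f691113 IH) (Lpr_dt (f379072 IH) (Lpn (LP (LK LD1_c29 LD2_c13 LD3_c10))))))
theorem f336656 : Led Lsl_ff (LP (LK LD1_c15 LD2_c18 LD3_c38)) = (LP (LK LD1_c20 LD2_c5 LD3_c11)) :=
  Lgr Lrot30 (Lpe (f276303 IH) (Lpe (f301603 IH) (Lpr_at (f336651 IH) (Lpn (LP (LK LD1_c20 LD2_c5 LD3_c11))))))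
theorem f276312 : Led Lsl_gt (LP (LK LD1_c29 LD2_c13 LD3_c11)) = (LP (LK LD1_c19 LD2_c57 LD3_c59)) :=
  Lre_g IH (LK LD1_c29 LD2_c13 LD3_c11) (LK LD1_c19 LD2_c57 LD3_c59) Lrfl Lrfl
theorem f336662 : Led Lsl_gf (LP (LK LD1_c29 LD2_c13 LD3_c11)) = (LP (LK LD1_c20 LD2_c5 LD3_c11)) :=
  Lgr Lrot47 (Lpr_gt (f276312 IH) (Lpr_af (f276303 IH) (Lpr_ff (f336656 IH) (Lpn (LP (LK LD1_c20 LD2_c5 LD3_c11))))))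
theorem f691121 : Led Lsl_at (LP (LK LD1_c25 LD2_c9 LD3_c28)) = (LP (LK LD1_c29 LD2_c13 LD3_c11)) :=
  Lgr Lrot26 (Lpr_ff (f691117 IH) (Lpr_gt (f336658 IH) (Lpe (f336662 IH) (Lpn (LP (LK LD1_c29 LD2_c13 LD3_c11))))))
theorem f691123 : Led Lsl_af (LP (LK LD1_c25 LD2_c9 LD3_c28)) = (LP (LK LD1_c29 LD2_c13 LD3_c11)) :=
  Lgr Lrot0 (Lpr_at (f691121 IH) (Lpn (LP (LK LD1_c29 LD2_c13 LD3_c11))))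
theorem f336649 : Led Lsl_gt (LP (LK LD1_c26 LD2_c48 LD3_c36)) = (LP (LK LD1_c25 LD2_c9 LD3_c28)) :=
  Lgr Lrot5 (Lpr_ft (f336645 IH) (Lpr_at (f276305 IH) (Lpe (f253907 IH) (Lpn (LP (LK LD1_c25 LD2_c9 LD3_c28))))))
theorem f226836 : Led Lsl_gt (LP (LK LD1_c15 LD2_c18 LD3_c38)) = (LP (LK LD1_c25 LD2_c9 LD3_c27)) :=
  Lre_g IH (LK LD1_c15 LD2_c18 LD3_c38) (LK LD1_c25 LD2_c9 LD3_c27) Lrfl Lrfl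
theorem f336653 : Led Lsl_gf (LP (LK LD1_c26 LD2_c48 LD3_c36)) = (LP (LK LD1_c25 LD2_c9 LD3_c27)) :=
  Lgr Lrot76 (Lpr_af (f336647 IH) (Lpr_ff (f305656 IH) (Lpr_gt (f226836 IH) (Lpn (LP (LK LD1_c25 LD2_c9 LD3_c27))))))
theorem f691125 : Led Lsl_ft (LP (LK LD1_c25 LD2_c9 LD3_c27)) = (LP (LK LD1_c29 LD2_c13 LD3_c11)) :=
  Lgr Lrot2 (Lpe (f336653 IH) (Lpr_gt (f336649 IH) (Lpr_af (f691123 IH) (Lpn (LP (LK LD1_c29 LD2_c13 LD3_c11))))))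
theorem f691119 : Led Lsl_ft (LP (LK LD1_c25 LD2_c9 LD3_c28)) = (LP (LK LD1_c29 LD2_c13 LD3_c10)) :=
  Lgr Lrot48 (Lpr_ff (f691117 IH) (Lpn (LP (LK LD1_c29 LD2_c13 LD3_c10))))
theorem f691127 : Led Lsl_af (LP (LK LD1_c25 LD2_c9 LD3_c27)) = (LP (LK LD1_c29 LD2_c13 LD3_c10)) :=
  Lgr Lrot45 (Lpr_ft (f691125 IH) (Lpe (f691123 IH) (Lpr_ft (f691119 IH) (Lpn (LP (LK LD1_c29 LD2_c13 LD3_c10))))))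
theorem f246757 : Led Lsl_ct (LP (LK LD1_c25 LD2_c44 LD3_c48)) = (LP (LK LD1_c15 LD2_c48 LD3_c5)) :=
  Lre_c IH (LK LD1_c25 LD2_c44 LD3_c48) (LK LD1_c15 LD2_c48 LD3_c5) Lrfl Lrfl
theorem f301639 : Led Lsl_dt (LP (LK LD1_c25 LD2_c9 LD3_c27)) = (LP (LK LD1_c25 LD2_c44 LD3_c48)) :=
  Lgr Lrot105 (Lpe (f226836 IH) (Lpe (f226835 IH) (Lpe (K18.f301607 IH) (Lpe (K18.f301591 IH) (Lpr_gt (K18.f301637 IH) (Lpr_dt (K14.f246747 IH) (Lpr_gt (K16.f167128 IH) (Lpr_dt (K25.f167129 IH) (Lpe (f246757 IH) (Lpn (LP (LK LD1_c25 LD2_c44 LD3_c48))))))))))))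
theorem f691133 : Led Lsl_at (LP (LK LD1_c25 LD2_c44 LD3_c48)) = (LP (LK LD1_c20 LD2_c5 LD3_c30)) :=
  Lgr Lrot51 (Lpe (f301639 IH) (Lpr_af (f691127 IH) (Lpe (f379072 IH) (Lpn (LP (LK LD1_c20 LD2_c5 LD3_c30))))))
theorem f348521 : Led Lsl_ef (LP (LK LD1_c25 LD2_c44 LD3_c48)) = (LP (LK LD1_c20 LD2_c56 LD3_c41)) :=
  Lgr Lrot28 (Lpr_ct (f246757 IH) (Lpe (K16.f278179 IH) (Lpr_ct (K23.f348514 IH) (Lpn (LP (LK LD1_c20 LD2_c56 LD3_c41))))))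
theorem f691135 : Led Lsl_af (LP (LK LD1_c20 LD2_c56 LD3_c41)) = (LP (LK LD1_c15 LD2_c28 LD3_c44)) :=
  Lgr Lrot50 (Lpe (f348521 IH) (Lpr_at (f691133 IH) (Lpr_et (f379068 IH) (Lpn (LP (LK LD1_c15 LD2_c28 LD3_c44))))))
theorem f691143 : Led Lsl_ft (LP (LK LD1_c15 LD2_c26 LD3_c5)) = (LP (LK LD1_c15 LD2_c28 LD3_c44)) :=
  Lgr Lrot2 (Lpr_gt (K26.f363278 IH) (Lpe (K23.f283516 IH) (Lpr_af (f691135 IH) (Lpn (LP (LK LD1_c15 LD2_c28 LD3_c44))))))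
theorem f691153 : Led Lsl_ff (LP (LK LD1_c15 LD2_c26 LD3_c5)) = (LP (LK LD1_c15 LD2_c28 LD3_c44)) :=
  Lgr Lrot3 (Lpr_ft (f691143 IH) (Lpn (LP (LK LD1_c15 LD2_c28 LD3_c44))))
theorem f339654 : Led Lsl_gf (LP (LK LD1_c8 LD2_c13 LD3_c52)) = (LP (LK LD1_c15 LD2_c28 LD3_c44)) :=
  Lgr Lrot126 (Lpr_cf (K17.f194266 IH) (Lpe (K22.f194258 IH) (Lpr_gt (K22.f339647 IH) (Lpr_ct (K22.f337103 IH) (Lpe (K22.f315482 IH) (Lpe (K21.f256152 IH) (Lpr_bt (K22.f256162 IH) (Lpe (K22.f334381 IH) (Lpe (f337138 IH) (Lpr_ct (f301680 IH) (Lpn (LP (LK LD1_c15 LD2_c28 LD3_c44)))))))))))))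
theorem f691163 : Led Lsl_at (LP (LK LD1_c15 LD2_c26 LD3_c5)) = (LP (LK LD1_c15 LD2_c28 LD3_c42)) :=
  Lgr Lrot26 (Lpr_ff (f691153 IH) (Lpe (f339654 IH) (Lpr_gt (K26.f336601 IH) (Lpn (LP (LK LD1_c15 LD2_c28 LD3_c42))))))
theorem f691137 : Led Lsl_at (LP (LK LD1_c20 LD2_c56 LD3_c41)) = (LP (LK LD1_c15 LD2_c28 LD3_c44)) :=
  Lgr Lrot100 (Lpr_af (f691135 IH) (Lpn (LP (LK LD1_c15 LD2_c28 LD3_c44))))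
theorem f691173 : Led Lsl_ff (LP (LK LD1_c20 LD2_c56 LD3_c41)) = (LP (LK LD1_c15 LD2_c28 LD3_c42)) :=
  Lgr Lrot30 (Lpr_at (f691137 IH) (Lpe (f691153 IH) (Lpr_at (f691163 IH) (Lpn (LP (LK LD1_c15 LD2_c28 LD3_c42))))))
theorem f691183 : Led Lsl_ft (LP (LK LD1_c20 LD2_c56 LD3_c41)) = (LP (LK LD1_c15 LD2_c28 LD3_c42)) :=
  Lgr Lrot48 (Lpr_ff (f691173 IH) (Lpn (LP (LK LD1_c15 LD2_c28 LD3_c42))))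
theorem f178220 : Led Lsl_dt (LP (LK LD1_c5 LD2_c36 LD3_c57)) = (LP (LK LD1_c11 LD2_c6 LD3_c1)) :=
  Lre_d IH (LK LD1_c5 LD2_c36 LD3_c57) (LK LD1_c11 LD2_c6 LD3_c1) Lrfl Lrfl
theorem f301605 : Led Lsl_ff (LP (LK LD1_c16 LD2_c51 LD3_c16)) = (LP (LK LD1_c11 LD2_c5 LD3_c6)) :=
  Lgr Lrot3 (Lpr_ft (K18.f301598 IH) (Lpn (LP (LK LD1_c11 LD2_c5 LD3_c6))))
theorem f338701 : Led Lsl_et (LP (LK LD1_c16 LD2_c51 LD3_c16)) = (LP (LK LD1_c11 LD2_c6 LD3_c0)) :=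
  Lgr Lrot69 (Lpr_ff (f301605 IH) (Lpe (K18.f261065 IH) (Lpe (K16.f276238 IH) (Lpe (K16.f276252 IH) (Lpr_ff (K24.f338688 IH) (Lpn (LP (LK LD1_c11 LD2_c6 LD3_c0))))))))
theorem f301597 : Led Lsl_dt (LP (LK LD1_c16 LD2_c51 LD3_c16)) = (LP (LK LD1_c26 LD2_c48 LD3_c36)) :=
  Lre_d IH (LK LD1_c16 LD2_c51 LD3_c16) (LK LD1_c26 LD2_c48 LD3_c36) Lrfl Lrfl
theorem f310549 : Led Lsl_ct (LP (LK LD1_c15 LD2_c22 LD3_c5)) = (LP (LK LD1_c25 LD2_c13 LD3_c44)) :=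
  Lre_c IH (LK LD1_c15 LD2_c22 LD3_c5) (LK LD1_c25 LD2_c13 LD3_c44) Lrfl Lrfl
theorem f351457 : Led Lsl_gt (LP (LK LD1_c25 LD2_c9 LD3_c30)) = (LP (LK LD1_c15 LD2_c22 LD3_c5)) :=
  Lgr Lrot131 (Lpe (K23.f304129 IH) (Lpr_dt (K23.f340077 IH) (Lpe (K23.f42246 IH) (Lpr_df (K25.f42183 IH) (Lpe (K24.f351446 IH) (Lpe (K24.f351450 IH) (Lpr_dt (K24.f351444 IH) (Lpr_gf (K24.f351453 IH) (Lpe (K22.f211461 IH) (Lpr_et (K25.f211465 IH) (Lpn (LP (LK LD1_c15 LD2_c22 LD3_c5)))))))))))))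
theorem f284507 : Led Lsl_at (LP (LK LD1_c16 LD2_c9 LD3_c16)) = (LP (LK LD1_c15 LD2_c48 LD3_c21)) :=
  Lgr Lrot66 (Lpe (K23.f260848 IH) (Lpr_af (K53.f284501 IH) (Lpe (K21.f237140 IH) (Lpn (LP (LK LD1_c15 LD2_c48 LD3_c21))))))
theorem f284509 : Led Lsl_af (LP (LK LD1_c16 LD2_c9 LD3_c16)) = (LP (LK LD1_c15 LD2_c48 LD3_c21)) :=
  Lgr Lrot0 (Lpr_at (f284507 IH) (Lpn (LP (LK LD1_c15 LD2_c48 LD3_c21))))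
theorem f237159 : Led Lsl_ft (LP (LK LD1_c8 LD2_c24 LD3_c25)) = (LP (LK LD1_c15 LD2_c48 LD3_c21)) :=
  Lre_f IH (LK LD1_c8 LD2_c24 LD3_c25) (LK LD1_c15 LD2_c48 LD3_c21) Lrfl Lrfl
theorem f320348 : Led Lsl_gf (LP (LK LD1_c15 LD2_c48 LD3_c4)) = (LP (LK LD1_c8 LD2_c24 LD3_c25)) :=
  Lgr Lrot47 (Lpr_gt (K23.f320323 IH) (Lpr_af (f284509 IH) (Lpe (f237159 IH) (Lpn (LP (LK LD1_c8 LD2_c24 LD3_c25))))))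
theorem f320350 : Led Lsl_ct (LP (LK LD1_c15 LD2_c48 LD3_c4)) = (LP (LK LD1_c8 LD2_c24 LD3_c13)) :=
  Lre_c IH (LK LD1_c15 LD2_c48 LD3_c4) (LK LD1_c8 LD2_c24 LD3_c13) Lrfl Lrfl
theorem f351459 : Led Lsl_gf (LP (LK LD1_c25 LD2_c44 LD3_c48)) = (LP (LK LD1_c25 LD2_c13 LD3_c44)) :=
  Lgr Lrot104 (Lpr_ct (f246757 IH) (Lpe (K25.f167129 IH) (Lpe (f320350 IH) (Lpr_gf (f320348 IH) (Lpr_cf (K38.f237133 IH) (Lpe (K23.f237147 IH) (Lpe (K23.f237172 IH) (Lpr_gt (f351457 IH) (Lpr_ct (f310549 IH) (Lpn (LP (LK LD1_c25 LD2_c13 LD3_c44))))))))))))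
theorem f352785 : Led Lsl_dt (LP (LK LD1_c25 LD2_c44 LD3_c48)) = (LP (LK LD1_c25 LD2_c9 LD3_c27)) :=
  Lgr Lrot57 (Lpr_gf (f351459 IH) (Lpe (f310549 IH) (Lpr_gt (K25.f352783 IH) (Lpr_dt (K21.f274490 IH) (Lpr_gt (K23.f328811 IH) (Lpe (K15.f261034 IH) (Lpe (K21.f301595 IH) (Lpe (f301602 IH) (Lpr_gf (f336653 IH) (Lpn (LP (LK LD1_c25 LD2_c9 LD3_c27))))))))))))
theorem f368318 : Led Lsl_ef (LP (LK LD1_c20 LD2_c56 LD3_c41)) = (LP (LK LD1_c25 LD2_c44 LD3_c48)) :=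
  Lgr Lrot17 (Lpr_gf (K23.f283516 IH) (Lpe (K17.f283652 IH) (Lpr_dt (K27.f368304 IH) (Lpe (K27.f338690 IH) (Lpe (f178220 IH) (Lpe (K24.f178229 IH) (Lpe (f338701 IH) (Lpr_dt (f301597 IH) (Lpr_gf (f336653 IH) (Lpe (f352785 IH) (Lpn (LP (LK LD1_c25 LD2_c44 LD3_c48)))))))))))))
theorem f363602 : Led Lsl_et (LP (LK LD1_c25 LD2_c11 LD3_c15)) = (LP (LK LD1_c15 LD2_c20 LD3_c1)) :=
  Lre_e IH (LK LD1_c25 LD2_c11 LD3_c15) (LK LD1_c15 LD2_c20 LD3_c1) Lrfl Lrfl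
theorem f363603 : Led Lsl_cf (LP (LK LD1_c25 LD2_c11 LD3_c15)) = (LP (LK LD1_c16 LD2_c9 LD3_c6)) :=
  Lgr Lrot39 (Lpr_et (f363602 IH) (Lpr_ct (K26.f363595 IH) (Lpr_et (K26.f363451 IH) (Lpn (LP (LK LD1_c16 LD2_c9 LD3_c6))))))
theorem f691089 : Led Lsl_ff (LP (LK LD1_c25 LD2_c44 LD3_c48)) = (LP (LK LD1_c25 LD2_c11 LD3_c15)) :=
  Lgr Lrot23 (Lpr_ct (f246757 IH) (Lpr_ft (f691085 IH) (Lpe (f363603 IH) (Lpn (LP (LK LD1_c25 LD2_c11 LD3_c15))))))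
theorem f363612 : Led Lsl_et (LP (LK LD1_c15 LD2_c20 LD3_c1)) = (LP (LK LD1_c25 LD2_c11 LD3_c15)) :=
  Lre_e IH (LK LD1_c15 LD2_c20 LD3_c1) (LK LD1_c25 LD2_c11 LD3_c15) Lrfl Lrfl
theorem f351892 : Led Lsl_ct (LP (LK LD1_c15 LD2_c2 LD3_c31)) = (LP (LK LD1_c7 LD2_c58 LD3_c23)) :=
  Lre_c IH (LK LD1_c15 LD2_c2 LD3_c31) (LK LD1_c7 LD2_c58 LD3_c23) Lrfl Lrfl
theorem f358516 : Led Lsl_ef (LP (LK LD1_c15 LD2_c2 LD3_c31)) = (LP (LK LD1_c15 LD2_c28 LD3_c42)) :=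
  Lgr Lrot28 (Lpr_ct (f351892 IH) (Lpr_et (K26.f358514 IH) (Lpr_ct (K22.f182745 IH) (Lpn (LP (LK LD1_c15 LD2_c28 LD3_c42))))))
theorem f691191 : Led Lsl_ff (LP (LK LD1_c15 LD2_c20 LD3_c1)) = (LP (LK LD1_c15 LD2_c2 LD3_c31)) :=
  Lgr Lrot72 (Lpr_et (f363612 IH) (Lpe (f691089 IH) (Lpe (f368318 IH) (Lpr_ft (f691183 IH) (Lpe (f358516 IH) (Lpn (LP (LK LD1_c15 LD2_c2 LD3_c31))))))))
theorem f691199 : Led Lsl_at (LP (LK LD1_c15 LD2_c20 LD3_c1)) = (LP (LK LD1_c15 LD2_c2 LD3_c29)) :=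
  Lgr Lrot26 (Lpr_ff (f691191 IH) (Lpr_gt (K27.f367513 IH) (Lpe (K25.f353979 IH) (Lpn (LP (LK LD1_c15 LD2_c2 LD3_c29))))))
theorem f379070 : Led Lsl_ef (LP (LK LD1_c20 LD2_c5 LD3_c30)) = (LP (LK LD1_c15 LD2_c28 LD3_c44)) :=
  Lgr Lrot88 (Lpr_et (f379068 IH) (Lpn (LP (LK LD1_c15 LD2_c28 LD3_c44))))
theorem f353993 : Led Lsl_ct (LP (LK LD1_c24 LD2_c51 LD3_c11)) = (LP (LK LD1_c15 LD2_c2 LD3_c30)) :=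
  Lre_c IH (LK LD1_c24 LD2_c51 LD3_c11) (LK LD1_c15 LD2_c2 LD3_c30) Lrfl Lrfl
theorem f691107 : Led Lsl_ff (LP (LK LD1_c24 LD2_c51 LD3_c11)) = (LP (LK LD1_c20 LD2_c5 LD3_c30)) :=
  Lgr Lrot23 (Lpr_ct (f353993 IH) (Lpr_ft (f691103 IH) (Lpr_ct (f306956 IH) (Lpn (LP (LK LD1_c20 LD2_c5 LD3_c30))))))
theorem f691151 : Led Lsl_ff (LP (LK LD1_c9 LD2_c43 LD3_c58)) = (LP (LK LD1_c15 LD2_c2 LD3_c29)) :=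
  Lgr Lrot72 (Lpr_et (f376001 IH) (Lpr_ft (f691143 IH) (Lpe (f379070 IH) (Lpe (f691107 IH) (Lpr_et (f353983 IH) (Lpn (LP (LK LD1_c15 LD2_c2 LD3_c29))))))))
theorem f691205 : Led Lsl_af (LP (LK LD1_c15 LD2_c2 LD3_c31)) = (LP (LK LD1_c9 LD2_c43 LD3_c58)) :=
  Lgr Lrot45 (Lpe (f691191 IH) (Lpr_at (f691199 IH) (Lpe (f691151 IH) (Lpn (LP (LK LD1_c9 LD2_c43 LD3_c58))))))
theorem f691207 : Led Lsl_at (LP (LK LD1_c7 LD2_c58 LD3_c23)) = (LP (LK LD1_c4 LD2_c56 LD3_c9)) :=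
  Lgr Lrot107 (Lpe (f351892 IH) (Lpr_af (f691205 IH) (Lpe (f348818 IH) (Lpn (LP (LK LD1_c4 LD2_c56 LD3_c9))))))
theorem f691195 : Led Lsl_ft (LP (LK LD1_c15 LD2_c1 LD3_c5)) = (LP (LK LD1_c7 LD2_c58 LD3_c23)) :=
  Lgr Lrot4 (Lpe (K26.f363595 IH) (Lpr_ff (f691191 IH) (Lpe (K27.f351891 IH) (Lpn (LP (LK LD1_c7 LD2_c58 LD3_c23))))))
theorem f691101 : Led Lsl_at (LP (LK LD1_c7 LD2_c58 LD3_c22)) = (LP (LK LD1_c15 LD2_c1 LD3_c5)) :=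
  Lgr Lrot80 (Lpe (K25.f353986 IH) (Lpr_af (f691093 IH) (Lpe (K26.f363451 IH) (Lpn (LP (LK LD1_c15 LD2_c1 LD3_c5))))))
theorem f691223 : Led Lsl_ff (LP (LK LD1_c7 LD2_c58 LD3_c22)) = (LP (LK LD1_c4 LD2_c56 LD3_c9)) :=
  Lgr Lrot30 (Lpr_at (f691101 IH) (Lpr_ft (f691195 IH) (Lpr_at (f691207 IH) (Lpn (LP (LK LD1_c4 LD2_c56 LD3_c9))))))
theorem f691229 : v12271 = (LP (LK LD1_c2 LD2_c25 LD3_c53)) :=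
  (Llr Lrot75 (Lpe (f689098 IH) (Lpe (K25.f353981 IH) (Lpr_ff (f691223 IH) (Lpe (K27.f363402 IH) (Lpn (LP (LK LD1_c2 LD2_c25 LD3_c53)))))))).symm
theorem f691230 : (LP (LK LD1_c3 LD2_c58 LD3_c42)) = K49.v4539 :=
  Lefun (Lecon (Lfl_af (f689099 IH)) (f691229 IH)) (f636026 IH)
theorem f353984 : Led Lsl_bf (LP (LK LD1_c7 LD2_c58 LD3_c22)) = (LP (LK LD1_c3 LD2_c58 LD3_c41)) :=
  Lgr Lrot24 (Lpr_bt (K25.f353981 IH) (Lpn (LP (LK LD1_c3 LD2_c58 LD3_c41))))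
theorem f358462 : Led Lsl_bt (LP (LK LD1_c4 LD2_c55 LD3_c30)) = (LP (LK LD1_c2 LD2_c25 LD3_c52)) :=
  Lgr Lrot95 (Lpe (K25.f358389 IH) (Lpr_bf (f353984 IH) (Lpr_df (K25.f358434 IH) (Lpn (LP (LK LD1_c2 LD2_c25 LD3_c52))))))
theorem f691252 : Led Lsl_ft (LP (LK LD1_c7 LD2_c58 LD3_c53)) = (LP (LK LD1_c4 LD2_c55 LD3_c30)) :=
  Lgr Lrot75 (Lpe (K27.f363387 IH) (Lpqs (f691230 IH) (Lpe (K49.f636023 IH) (Lpe (f358462 IH) (Lpn (LP (LK LD1_c4 LD2_c55 LD3_c30)))))))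
theorem f691258 : Led Lsl_af (LP (LK LD1_c9 LD2_c40 LD3_c49)) = (LP (LK LD1_c4 LD2_c55 LD3_c30)) :=
  Lgr Lrot31 (Lpe (K26.f187373 IH) (Lpe (K27.f368535 IH) (Lpr_ft (f691252 IH) (Lpn (LP (LK LD1_c4 LD2_c55 LD3_c30))))))
theorem f691266 : Led Lsl_at (LP (LK LD1_c15 LD2_c49 LD3_c35)) = (LP (LK LD1_c9 LD2_c42 LD3_c41)) :=
  Lgr Lrot80 (Lpr_ef (K26.f310883 IH) (Lpr_af (f691258 IH) (Lpe (K25.f300739 IH) (Lpn (LP (LK LD1_c9 LD2_c42 LD3_c41))))))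
theorem f320377 : Led Lsl_bt (LP (LK LD1_c15 LD2_c48 LD3_c5)) = (LP (LK LD1_c16 LD2_c7 LD3_c31)) :=
  Lgr Lrot119 (Lpe (K16.f278185 IH) (Lpr_bf (K27.f320375 IH) (Lpe (K16.f271100 IH) (Lpn (LP (LK LD1_c16 LD2_c7 LD3_c31))))))
theorem f691079 : Led Lsl_ft (LP (LK LD1_c16 LD2_c7 LD3_c31)) = (LP (LK LD1_c15 LD2_c49 LD3_c35)) :=
  Lgr Lrot75 (Lpe (f320377 IH) (Lpr_ff (f691077 IH) (Lpr_bf (K26.f363567 IH) (Lpn (LP (LK LD1_c15 LD2_c49 LD3_c35))))))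
theorem f322269 : Led Lsl_et (LP (LK LD1_c15 LD2_c25 LD3_c26)) = (LP (LK LD1_c8 LD2_c11 LD3_c30)) :=
  Lre_e IH (LK LD1_c15 LD2_c25 LD3_c26) (LK LD1_c8 LD2_c11 LD3_c30) Lrfl Lrfl
theorem f328192 : Led Lsl_bt (LP (LK LD1_c8 LD2_c11 LD3_c58)) = (LP (LK LD1_c15 LD2_c25 LD3_c26)) :=
  Lgr Lrot119 (Lpe (K25.f237991 IH) (Lpr_bf (K21.f328185 IH) (Lpe (f322269 IH) (Lpn (LP (LK LD1_c15 LD2_c25 LD3_c26))))))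
theorem f328194 : Led Lsl_bf (LP (LK LD1_c8 LD2_c11 LD3_c58)) = (LP (LK LD1_c15 LD2_c25 LD3_c26)) :=
  Lgr Lrot24 (Lpr_bt (f328192 IH) (Lpn (LP (LK LD1_c15 LD2_c25 LD3_c26))))
theorem f690963 : Led Lsl_ff (LP (LK LD1_c15 LD2_c25 LD3_c26)) = (LP (LK LD1_c9 LD2_c42 LD3_c41)) :=
  Lgr Lrot25 (Lpe (f328194 IH) (Lpr_ft (f690961 IH) (Lpe (f358476 IH) (Lpn (LP (LK LD1_c9 LD2_c42 LD3_c41))))))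
theorem f691272 : Led Lsl_af (LP (LK LD1_c16 LD2_c7 LD3_c31)) = (LP (LK LD1_c15 LD2_c25 LD3_c26)) :=
  Lgr Lrot45 (Lpr_ft (f691079 IH) (Lpr_at (f691266 IH) (Lpe (f690963 IH) (Lpn (LP (LK LD1_c15 LD2_c25 LD3_c26))))))
theorem f691278 : Led Lsl_at (LP (LK LD1_c15 LD2_c24 LD3_c23)) = (LP (LK LD1_c8 LD2_c11 LD3_c30)) :=
  Lgr Lrot80 (Lpe (K16.f271100 IH) (Lpr_af (f691272 IH) (Lpe (f328196 IH) (Lpn (LP (LK LD1_c8 LD2_c11 LD3_c30))))))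
theorem f691288 : Led Lsl_ff (LP (LK LD1_c15 LD2_c24 LD3_c23)) = (LP (LK LD1_c8 LD2_c11 LD3_c29)) :=
  Lgr Lrot52 (Lpr_at (f691278 IH) (Lpr_gf (K21.f328213 IH) (Lpe (K26.f336615 IH) (Lpn (LP (LK LD1_c8 LD2_c11 LD3_c29))))))
theorem f691298 : Led Lsl_ft (LP (LK LD1_c15 LD2_c24 LD3_c23)) = (LP (LK LD1_c8 LD2_c11 LD3_c29)) :=
  Lgr Lrot48 (Lpr_ff (f691288 IH) (Lpn (LP (LK LD1_c8 LD2_c11 LD3_c29))))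
theorem f691306 : Led Lsl_af (LP (LK LD1_c8 LD2_c14 LD3_c25)) = (LP (LK LD1_c8 LD2_c11 LD3_c29)) :=
  Lgr Lrot31 (Lpr_gf (K26.f363259 IH) (Lpe (K16.f271082 IH) (Lpr_ft (f691298 IH) (Lpn (LP (LK LD1_c8 LD2_c11 LD3_c29))))))
theorem f691280 : Led Lsl_af (LP (LK LD1_c15 LD2_c24 LD3_c23)) = (LP (LK LD1_c8 LD2_c11 LD3_c30)) :=
  Lgr Lrot0 (Lpr_at (f691278 IH) (Lpn (LP (LK LD1_c8 LD2_c11 LD3_c30))))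
theorem f691312 : Led Lsl_ft (LP (LK LD1_c8 LD2_c14 LD3_c25)) = (LP (LK LD1_c8 LD2_c11 LD3_c30)) :=
  Lgr Lrot101 (Lpr_af (f691306 IH) (Lpe (f691298 IH) (Lpr_af (f691280 IH) (Lpn (LP (LK LD1_c8 LD2_c11 LD3_c30))))))
theorem f691316 : Led Lsl_ff (LP (LK LD1_c15 LD2_c30 LD3_c9)) = (LP (LK LD1_c9 LD2_c39 LD3_c17)) :=
  Lgr Lrot19 (Lpr_dt (K26.f334370 IH) (Lpr_ft (f691312 IH) (Lpe (f328197 IH) (Lpn (LP (LK LD1_c9 LD2_c39 LD3_c17))))))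
theorem f691328 : Led Lsl_ft (LP (LK LD1_c15 LD2_c30 LD3_c9)) = (LP (LK LD1_c9 LD2_c39 LD3_c17)) :=
  Lgr Lrot48 (Lpr_ff (f691316 IH) (Lpn (LP (LK LD1_c9 LD2_c39 LD3_c17))))
theorem f691027 : Led Lsl_ft (LP (LK LD1_c4 LD2_c53 LD3_c44)) = (LP (LK LD1_c4 LD2_c52 LD3_c43)) :=
  Lgr Lrot48 (Lpr_ff (f691013 IH) (Lpn (LP (LK LD1_c4 LD2_c52 LD3_c43))))
theorem f691334 : Led Lsl_ff (LP (LK LD1_c15 LD2_c26 LD3_c6)) = (LP (LK LD1_c9 LD2_c37 LD3_c31)) :=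
  Lgr Lrot72 (Lpe (f355184 IH) (Lpr_ft (f691328 IH) (Lpr_et (K21.f328201 IH) (Lpr_ft (f691027 IH) (Lpr_et (K25.f170108 IH) (Lpn (LP (LK LD1_c9 LD2_c37 LD3_c31))))))))
theorem f691338 : Led Lsl_at (LP (LK LD1_c15 LD2_c26 LD3_c6)) = (LP (LK LD1_c15 LD2_c28 LD3_c43)) :=
  Lgr Lrot26 (Lpr_ff (f691334 IH) (Lpr_gt (K25.f326843 IH) (Lpr_gt (K26.f358504 IH) (Lpn (LP (LK LD1_c15 LD2_c28 LD3_c43))))))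
theorem f336613 : Led Lsl_bt (LP (LK LD1_c15 LD2_c25 LD3_c24)) = (LP (LK LD1_c15 LD2_c28 LD3_c43)) :=
  Lgr Lrot95 (Lpe (K26.f182940 IH) (Lpr_bf (K22.f336606 IH) (Lpe (K26.f325001 IH) (Lpn (LP (LK LD1_c15 LD2_c28 LD3_c43))))))
theorem f336619 : Led Lsl_bf (LP (LK LD1_c15 LD2_c25 LD3_c24)) = (LP (LK LD1_c15 LD2_c28 LD3_c43)) :=
  Lgr Lrot24 (Lpr_bt (f336613 IH) (Lpn (LP (LK LD1_c15 LD2_c28 LD3_c43))))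
theorem f691286 : Led Lsl_af (LP (LK LD1_c15 LD2_c47 LD3_c47)) = (LP (LK LD1_c9 LD2_c39 LD3_c17)) :=
  Lgr Lrot117 (Lpe (K21.f305901 IH) (Lpr_at (f691278 IH) (Lpe (f328197 IH) (Lpn (LP (LK LD1_c9 LD2_c39 LD3_c17))))))
theorem f691294 : Led Lsl_ft (LP (LK LD1_c15 LD2_c47 LD3_c47)) = (LP (LK LD1_c15 LD2_c25 LD3_c24)) :=
  Lgr Lrot54 (Lpe (K23.f305903 IH) (Lpr_ff (f691288 IH) (Lpe (K26.f336617 IH) (Lpn (LP (LK LD1_c15 LD2_c25 LD3_c24))))))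
theorem f691330 : Led Lsl_af (LP (LK LD1_c15 LD2_c30 LD3_c9)) = (LP (LK LD1_c15 LD2_c25 LD3_c24)) :=
  Lgr Lrot45 (Lpr_ft (f691328 IH) (Lpe (f691286 IH) (Lpr_ft (f691294 IH) (Lpn (LP (LK LD1_c15 LD2_c25 LD3_c24))))))
theorem f691342 : Led Lsl_af (LP (LK LD1_c8 LD2_c11 LD3_c57)) = (LP (LK LD1_c8 LD2_c14 LD3_c26)) :=
  Lgr Lrot36 (Lpr_bt (f355183 IH) (Lpr_at (f691338 IH) (Lpe (f336619 IH) (Lpe (f691330 IH) (Lpr_bt (f355182 IH) (Lpn (LP (LK LD1_c8 LD2_c14 LD3_c26))))))))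
theorem f326847 : Led Lsl_bt (LP (LK LD1_c4 LD2_c52 LD3_c45)) = (LP (LK LD1_c9 LD2_c37 LD3_c31)) :=
  Lre_b IH (LK LD1_c4 LD2_c52 LD3_c45) (LK LD1_c9 LD2_c37 LD3_c31) Lrfl Lrfl
theorem f691336 : Led Lsl_ft (LP (LK LD1_c8 LD2_c11 LD3_c57)) = (LP (LK LD1_c4 LD2_c52 LD3_c45)) :=
  Lgr Lrot75 (Lpe (K26.f355179 IH) (Lpr_ff (f691334 IH) (Lpe (f326847 IH) (Lpn (LP (LK LD1_c4 LD2_c52 LD3_c45))))))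
theorem f237988 : Led Lsl_bt (LP (LK LD1_c9 LD2_c39 LD3_c17)) = (LP (LK LD1_c4 LD2_c53 LD3_c46)) :=
  Lre_b IH (LK LD1_c9 LD2_c39 LD3_c17) (LK LD1_c4 LD2_c53 LD3_c46) Lrfl Lrfl
theorem f691332 : Led Lsl_ff (LP (LK LD1_c8 LD2_c14 LD3_c26)) = (LP (LK LD1_c4 LD2_c53 LD3_c46)) :=
  Lgr Lrot25 (Lpr_bt (K26.f355188 IH) (Lpr_ft (f691328 IH) (Lpr_bt (f237988 IH) (Lpn (LP (LK LD1_c4 LD2_c53 LD3_c46))))))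
theorem f691346 : Led Lsl_at (LP (LK LD1_c4 LD2_c52 LD3_c45)) = (LP (LK LD1_c4 LD2_c53 LD3_c46)) :=
  Lgr Lrot66 (Lpe (f691336 IH) (Lpr_af (f691342 IH) (Lpr_ff (f691332 IH) (Lpn (LP (LK LD1_c4 LD2_c53 LD3_c46))))))
theorem f691348 : Led Lsl_af (LP (LK LD1_c4 LD2_c52 LD3_c45)) = (LP (LK LD1_c4 LD2_c53 LD3_c46)) :=
  Lgr Lrot0 (Lpr_at (f691346 IH) (Lpn (LP (LK LD1_c4 LD2_c53 LD3_c46))))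
theorem f691324 : Led Lsl_ft (LP (LK LD1_c8 LD2_c14 LD3_c26)) = (LP (LK LD1_c4 LD2_c53 LD3_c46)) :=
  Lgr Lrot75 (Lpe (f355182 IH) (Lpr_ff (f691316 IH) (Lpe (K21.f237992 IH) (Lpn (LP (LK LD1_c4 LD2_c53 LD3_c46))))))
theorem f691344 : Led Lsl_at (LP (LK LD1_c8 LD2_c11 LD3_c57)) = (LP (LK LD1_c8 LD2_c14 LD3_c26)) :=
  Lgr Lrot100 (Lpr_af (f691342 IH) (Lpn (LP (LK LD1_c8 LD2_c14 LD3_c26))))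
theorem f691360 : Led Lsl_ft (LP (LK LD1_c4 LD2_c52 LD3_c45)) = (LP (LK LD1_c8 LD2_c11 LD3_c57)) :=
  Lgr Lrot101 (Lpr_af (f691348 IH) (Lpe (f691324 IH) (Lpe (f691344 IH) (Lpn (LP (LK LD1_c8 LD2_c11 LD3_c57))))))
theorem f691362 : Led Lsl_ff (LP (LK LD1_c4 LD2_c6 LD3_c57)) = (LP (LK LD1_c4 LD2_c5 LD3_c29)) :=
  Lgr Lrot19 (Lpe (K25.f337133 IH) (Lpr_ft (f691360 IH) (Lpr_dt (K26.f237987 IH) (Lpn (LP (LK LD1_c4 LD2_c5 LD3_c29))))))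
theorem f691366 : Led Lsl_ft (LP (LK LD1_c4 LD2_c6 LD3_c57)) = (LP (LK LD1_c4 LD2_c5 LD3_c29)) :=
  Lgr Lrot48 (Lpr_ff (f691362 IH) (Lpn (LP (LK LD1_c4 LD2_c5 LD3_c29))))
theorem f337117 : Led Lsl_ct (LP (LK LD1_c6 LD2_c6 LD3_c11)) = (LP (LK LD1_c4 LD2_c6 LD3_c57)) :=
  Lgr Lrot59 (Lpr_cf (K22.f337113 IH) (Lpn (LP (LK LD1_c4 LD2_c6 LD3_c57))))
theorem f363281 : Led Lsl_bt (LP (LK LD1_c4 LD2_c5 LD3_c29)) = (LP (LK LD1_c8 LD2_c11 LD3_c56)) :=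
  Lre_b IH (LK LD1_c4 LD2_c5 LD3_c29) (LK LD1_c8 LD2_c11 LD3_c56) Lrfl Lrfl
theorem f301492 : Led Lsl_ct (LP (LK LD1_c10 LD2_c44 LD3_c9)) = (LP (LK LD1_c19 LD2_c25 LD3_c41)) :=
  Lre_c IH (LK LD1_c10 LD2_c44 LD3_c9) (LK LD1_c19 LD2_c25 LD3_c41) Lrfl Lrfl
theorem f314726 : Led Lsl_gt (LP (LK LD1_c2 LD2_c39 LD3_c42)) = (LP (LK LD1_c5 LD2_c26 LD3_c35)) :=
  Lre_g IH (LK LD1_c2 LD2_c39 LD3_c42) (LK LD1_c5 LD2_c26 LD3_c35) Lrfl Lrfl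
theorem f378144 : Led Lsl_ct (LP (LK LD1_c4 LD2_c5 LD3_c29)) = (LP (LK LD1_c5 LD2_c26 LD3_c35)) :=
  Lgr Lrot10 (Lpr_bt (f363281 IH) (Lpr_gt (K26.f363272 IH) (Lpr_ct (K21.f182647 IH) (Lpr_gt (K25.f328380 IH) (Lpe (f301492 IH) (Lpr_bt (K22.f298856 IH) (Lpr_gt (K21.f285645 IH) (Lpe (K26.f295006 IH) (Lpr_ct (K26.f267655 IH) (Lpr_gt (f314726 IH) (Lpn (LP (LK LD1_c5 LD2_c26 LD3_c35)))))))))))))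
theorem f691368 : Led Lsl_ff (LP (LK LD1_c6 LD2_c6 LD3_c11)) = (LP (LK LD1_c5 LD2_c26 LD3_c35)) :=
  Lgr Lrot23 (Lpr_ct (f337117 IH) (Lpr_ft (f691366 IH) (Lpr_ct (f378144 IH) (Lpn (LP (LK LD1_c5 LD2_c26 LD3_c35))))))
def v5127 : LQ := Led Lsl_ft (LP (LK LD1_c2 LD2_c59 LD3_c11))
theorem f646091 : Led Lsl_ft (LP (LK LD1_c2 LD2_c59 LD3_c11)) = v5127 :=
  Lrfl
theorem f646095 : Led Lsl_ff (LP (LK LD1_c2 LD2_c59 LD3_c11)) = v5127 :=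
  Lgr Lrot3 (Lpr_ft (f646091 IH) (Lpn v5127))
theorem f646097 : Led Lsl_ct (LP (LK LD1_c2 LD2_c59 LD3_c14)) = v5127 :=
  Lgr Lrot40 (Lpe (K19.f179793 IH) (Lpe (K23.f179787 IH) (Lpr_ff (f646095 IH) (Lpn v5127))))
theorem f283063 : Led Lsl_bt (LP (LK LD1_c2 LD2_c59 LD3_c14)) = (LP (LK LD1_c6 LD2_c6 LD3_c3)) :=
  Lre_b IH (LK LD1_c2 LD2_c59 LD3_c14) (LK LD1_c6 LD2_c6 LD3_c3) Lrfl Lrfl
theorem f646100 : Led Lsl_gt (LP (LK LD1_c5 LD2_c26 LD3_c35)) = v5127 :=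
  Lgr Lrot65 (Lpe (f378144 IH) (Lpr_bt (f363281 IH) (Lpr_gf (K26.f363270 IH) (Lpr_bf (K19.f190093 IH) (Lpe (K19.f191397 IH) (Lpe (K26.f345705 IH) (Lpe (K26.f236159 IH) (Lpr_gf (K17.f283120 IH) (Lpe (f283063 IH) (Lpr_ct (f646097 IH) (Lpn v5127)))))))))))
theorem f245921 : Led Lsl_ct (LP (LK LD1_c2 LD2_c39 LD3_c42)) = (LP (LK LD1_c1 LD2_c16 LD3_c37)) :=
  Lre_c IH (LK LD1_c2 LD2_c39 LD3_c42) (LK LD1_c1 LD2_c16 LD3_c37) Lrfl Lrfl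
theorem f245999 : Led Lsl_af (LP (LK LD1_c2 LD2_c39 LD3_c42)) = (LP (LK LD1_c2 LD2_c59 LD3_c11)) :=
  Lgr Lrot68 (Lpr_ct (f245921 IH) (Lpr_at (K13.f245992 IH) (Lpr_ct (K22.f179797 IH) (Lpn (LP (LK LD1_c2 LD2_c59 LD3_c11))))))
theorem f646099 : Led Lsl_gf (LP (LK LD1_c5 LD2_c26 LD3_c36)) = v5127 :=
  Lgr Lrot47 (Lpr_gt (K26.f245937 IH) (Lpr_af (f245999 IH) (Lpr_ff (f646095 IH) (Lpn v5127))))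
theorem f691372 : Led Lsl_at (LP (LK LD1_c6 LD2_c6 LD3_c11)) = (LP (LK LD1_c5 LD2_c26 LD3_c36)) :=
  Lgr Lrot26 (Lpr_ff (f691368 IH) (Lpr_gt (f646100 IH) (Lpe (f646099 IH) (Lpn (LP (LK LD1_c5 LD2_c26 LD3_c36))))))
theorem f691374 : Led Lsl_af (LP (LK LD1_c6 LD2_c6 LD3_c11)) = (LP (LK LD1_c5 LD2_c26 LD3_c36)) :=
  Lgr Lrot0 (Lpr_at (f691372 IH) (Lpn (LP (LK LD1_c5 LD2_c26 LD3_c36))))
def v4630 : LQ := Led Lsl_ft (LP (LK LD1_c2 LD2_c39 LD3_c42))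
theorem f638240 : Led Lsl_ft (LP (LK LD1_c2 LD2_c39 LD3_c42)) = v4630 :=
  Lrfl
theorem f638242 : Led Lsl_ff (LP (LK LD1_c2 LD2_c39 LD3_c42)) = v4630 :=
  Lgr Lrot3 (Lpr_ft (f638240 IH) (Lpn v4630))
theorem f638244 : Led Lsl_gf (LP (LK LD1_c6 LD2_c6 LD3_c11)) = v4630 :=
  Lgr Lrot47 (Lpr_gt (K22.f179795 IH) (Lpe (K17.f285866 IH) (Lpr_ff (f638242 IH) (Lpn v4630))))
theorem f245930 : Led Lsl_ft (LP (LK LD1_c1 LD2_c16 LD3_c37)) = (LP (LK LD1_c2 LD2_c39 LD3_c45)) :=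
  Lre_f IH (LK LD1_c1 LD2_c16 LD3_c37) (LK LD1_c2 LD2_c39 LD3_c45) Lrfl Lrfl
theorem f638243 : Led Lsl_ct (LP (LK LD1_c2 LD2_c39 LD3_c45)) = v4630 :=
  Lgr Lrot40 (Lpe (f245930 IH) (Lpe (f245921 IH) (Lpr_ff (f638242 IH) (Lpn v4630))))
theorem f363265 : Led Lsl_bt (LP (LK LD1_c4 LD2_c6 LD3_c56)) = (LP (LK LD1_c8 LD2_c14 LD3_c25)) :=
  Lre_b IH (LK LD1_c4 LD2_c6 LD3_c56) (LK LD1_c8 LD2_c14 LD3_c25) Lrfl Lrfl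
theorem f324785 : Led Lsl_gt (LP (LK LD1_c20 LD2_c55 LD3_c20)) = (LP (LK LD1_c11 LD2_c53 LD3_c24)) :=
  Lgr Lrot5 (Lpr_ft (K21.f182934 IH) (Lpr_at (K21.f324777 IH) (Lpr_gf (K22.f316573 IH) (Lpn (LP (LK LD1_c11 LD2_c53 LD3_c24))))))
theorem f179836 : Led Lsl_bt (LP (LK LD1_c4 LD2_c18 LD3_c34)) = (LP (LK LD1_c8 LD2_c35 LD3_c51)) :=
  Lre_b IH (LK LD1_c4 LD2_c18 LD3_c34) (LK LD1_c8 LD2_c35 LD3_c51) Lrfl Lrfl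
theorem f325364 : Led Lsl_bt (LP (LK LD1_c6 LD2_c5 LD3_c0)) = (LP (LK LD1_c2 LD2_c59 LD3_c13)) :=
  Lgr Lrot95 (Lpr_df (K21.f325362 IH) (Lpe (f179836 IH) (Lpe (K22.f179810 IH) (Lpn (LP (LK LD1_c2 LD2_c59 LD3_c13))))))
theorem f179815 : Led Lsl_gt (LP (LK LD1_c2 LD2_c59 LD3_c11)) = (LP (LK LD1_c6 LD2_c6 LD3_c10)) :=
  Lre_g IH (LK LD1_c2 LD2_c59 LD3_c11) (LK LD1_c6 LD2_c6 LD3_c10) Lrfl Lrfl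
theorem f378190 : Led Lsl_ct (LP (LK LD1_c4 LD2_c6 LD3_c56)) = (LP (LK LD1_c6 LD2_c6 LD3_c10)) :=
  Lgr Lrot63 (Lpr_bt (f363265 IH) (Lpr_gt (K26.f363261 IH) (Lpe (K23.f182953 IH) (Lpe (K21.f182936 IH) (Lpr_gt (f324785 IH) (Lpe (K22.f315945 IH) (Lpr_bt (f325364 IH) (Lpr_gt (K13.f179776 IH) (Lpr_ct (K22.f179797 IH) (Lpr_gt (f179815 IH) (Lpn (LP (LK LD1_c6 LD2_c6 LD3_c10)))))))))))))
theorem f638245 : Led Lsl_gt (LP (LK LD1_c6 LD2_c6 LD3_c10)) = v4630 :=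
  Lgr Lrot65 (Lpe (f378190 IH) (Lpr_bt (f363265 IH) (Lpr_gf (K26.f363259 IH) (Lpe (K16.f259545 IH) (Lpe (K21.f259432 IH) (Lpr_gf (K26.f236333 IH) (Lpe (K26.f236289 IH) (Lpr_gf (K21.f295013 IH) (Lpe (K18.f245983 IH) (Lpr_ct (f638243 IH) (Lpn v4630)))))))))))
theorem f691388 : Led Lsl_ft (LP (LK LD1_c6 LD2_c6 LD3_c10)) = (LP (LK LD1_c5 LD2_c26 LD3_c36)) :=
  Lgr Lrot2 (Lpr_gt (f638245 IH) (Lpe (f638244 IH) (Lpr_af (f691374 IH) (Lpn (LP (LK LD1_c5 LD2_c26 LD3_c36))))))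
theorem f378116 : Led Lsl_ct (LP (LK LD1_c4 LD2_c29 LD3_c61)) = (LP (LK LD1_c3 LD2_c58 LD3_c42)) :=
  Lgr Lrot59 (Lpr_cf (K27.f363396 IH) (Lpn (LP (LK LD1_c3 LD2_c58 LD3_c42))))
theorem f378195 : Led Lsl_ef (LP (LK LD1_c4 LD2_c29 LD3_c61)) = (LP (LK LD1_c6 LD2_c6 LD3_c10)) :=
  Lgr Lrot28 (Lpr_ct (f378116 IH) (Lpe (K26.f363390 IH) (Lpr_ct (f378190 IH) (Lpn (LP (LK LD1_c6 LD2_c6 LD3_c10))))))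
theorem f378200 : Led Lsl_et (LP (LK LD1_c4 LD2_c29 LD3_c61)) = (LP (LK LD1_c6 LD2_c6 LD3_c10)) :=
  Lgr Lrot87 (Lpr_ef (f378195 IH) (Lpn (LP (LK LD1_c6 LD2_c6 LD3_c10))))
def v4684 : LQ := Led Lsl_ft (LP (LK LD1_c2 LD2_c42 LD3_c33))
theorem f638475 : Led Lsl_ft (LP (LK LD1_c2 LD2_c42 LD3_c33)) = v4684 :=
  Lrfl
theorem f638478 : Led Lsl_ff (LP (LK LD1_c2 LD2_c42 LD3_c33)) = v4684 :=
  Lgr Lrot3 (Lpr_ft (f638475 IH) (Lpn v4684))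
theorem f377161 : Led Lsl_cf (LP (LK LD1_c2 LD2_c25 LD3_c52)) = (LP (LK LD1_c2 LD2_c42 LD3_c33)) :=
  Lgr Lrot11 (Lpr_ct (f367415 IH) (Lpn (LP (LK LD1_c2 LD2_c42 LD3_c33))))
theorem f638480 : Led Lsl_ct K49.v4539 = v4684 :=
  Lgr Lrot40 (Lpe (K49.f636023 IH) (Lpr_cf (f377161 IH) (Lpr_ff (f638478 IH) (Lpn v4684))))
theorem f691236 : v4684 = (LP (LK LD1_c4 LD2_c29 LD3_c61)) :=
  Lefun (Lecon (f638480 IH) (f691230 IH).symm) (Lfl_cf (K27.f363396 IH))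
theorem f226419 : Led Lsl_et (LP (LK LD1_c5 LD2_c32 LD3_c49)) = (LP (LK LD1_c2 LD2_c42 LD3_c33)) :=
  Lre_e IH (LK LD1_c5 LD2_c32 LD3_c49) (LK LD1_c2 LD2_c42 LD3_c33) Lrfl Lrfl
theorem f691392 : Led Lsl_ff (LP (LK LD1_c5 LD2_c32 LD3_c49)) = (LP (LK LD1_c10 LD2_c44 LD3_c24)) :=
  Lgr Lrot72 (Lpr_et (f226419 IH) (Lpr_ft (f638475 IH) (Lpqs (f691236 IH) (Lpr_et (f378200 IH) (Lpr_ft (f691388 IH) (Lpr_et (K26.f348656 IH) (Lpn (LP (LK LD1_c10 LD2_c44 LD3_c24)))))))))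
theorem f732518 : Led Lsl_gt (LP (LK LD1_c8 LD2_c22 LD3_c28)) = v15137 :=
  Lgr Lrot46 (Lpe (K26.f355200 IH) (Lpe (f691392 IH) (Lpr_at (f732512 IH) (Lpn v15137))))
theorem f355716 : Led Lsl_ct (LP (LK LD1_c25 LD2_c39 LD3_c0)) = (LP (LK LD1_c15 LD2_c42 LD3_c56)) :=
  Lre_c IH (LK LD1_c25 LD2_c39 LD3_c0) (LK LD1_c15 LD2_c42 LD3_c56) Lrfl Lrfl
theorem f319080 : Led Lsl_af (LP (LK LD1_c8 LD2_c34 LD3_c19)) = (LP (LK LD1_c8 LD2_c22 LD3_c38)) :=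
  Lgr Lrot45 (Lpe (K20.f219862 IH) (Lpr_at (K50.f221852 IH) (Lpr_ft (K20.f319074 IH) (Lpn (LP (LK LD1_c8 LD2_c22 LD3_c38))))))
theorem f337030 : Led Lsl_gf (LP (LK LD1_c8 LD2_c23 LD3_c48)) = (LP (LK LD1_c8 LD2_c34 LD3_c58)) :=
  Lgr Lrot47 (Lpr_gt (K22.f337028 IH) (Lpr_af (f319080 IH) (Lpe (K20.f319074 IH) (Lpn (LP (LK LD1_c8 LD2_c34 LD3_c58))))))
theorem f51505 : Led Lsl_ct (LP (LK LD1_c8 LD2_c23 LD3_c48)) = (LP (LK LD1_c4 LD2_c12 LD3_c3)) :=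
  Lre_c IH (LK LD1_c8 LD2_c23 LD3_c48) (LK LD1_c4 LD2_c12 LD3_c3) Lrfl Lrfl
theorem f185609 : Led Lsl_ct (LP (LK LD1_c15 LD2_c47 LD3_c28)) = (LP (LK LD1_c8 LD2_c23 LD3_c49)) :=
  Lre_c IH (LK LD1_c15 LD2_c47 LD3_c28) (LK LD1_c8 LD2_c23 LD3_c49) Lrfl Lrfl
theorem f355761 : Led Lsl_gt (LP (LK LD1_c15 LD2_c42 LD3_c56)) = (LP (LK LD1_c15 LD2_c47 LD3_c28)) :=
  Lgr Lrot150 (Lpe (f355716 IH) (Lpr_gf (f355759 IH) (Lpe (K20.f218109 IH) (Lpr_gt (K20.f188797 IH) (Lpr_ct (K18.f221857 IH) (Lpe (f337030 IH) (Lpr_ct (f51505 IH) (Lpe (K20.f322478 IH) (Lpe (f185609 IH) (Lpn (LP (LK LD1_c15 LD2_c47 LD3_c28))))))))))))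
theorem f355717 : Led Lsl_ct (LP (LK LD1_c15 LD2_c42 LD3_c56)) = (LP (LK LD1_c25 LD2_c39 LD3_c0)) :=
  Lre_c IH (LK LD1_c15 LD2_c42 LD3_c56) (LK LD1_c25 LD2_c39 LD3_c0) Lrfl Lrfl
theorem f188822 : Led Lsl_dt (LP (LK LD1_c16 LD2_c5 LD3_c16)) = (LP (LK LD1_c8 LD2_c34 LD3_c19)) :=
  Lre_d IH (LK LD1_c16 LD2_c5 LD3_c16) (LK LD1_c8 LD2_c34 LD3_c19) Lrfl Lrfl
theorem f322503 : Led Lsl_dt (LP (LK LD1_c15 LD2_c47 LD3_c28)) = (LP (LK LD1_c25 LD2_c44 LD3_c13)) :=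
  Lre_d IH (LK LD1_c15 LD2_c47 LD3_c28) (LK LD1_c25 LD2_c44 LD3_c13) Lrfl Lrfl
theorem f355773 : Led Lsl_gf (LP (LK LD1_c16 LD2_c5 LD3_c16)) = (LP (LK LD1_c25 LD2_c44 LD3_c13)) :=
  Lgr Lrot143 (Lpr_dt (f188822 IH) (Lpe (K20.f188819 IH) (Lpe (K20.f188776 IH) (Lpe (K20.f322614 IH) (Lpe (K20.f299342 IH) (Lpe (K26.f355714 IH) (Lpe (f355717 IH) (Lpr_gt (f355761 IH) (Lpr_dt (f322503 IH) (Lpn (LP (LK LD1_c25 LD2_c44 LD3_c13))))))))))))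
theorem f256517 : Led Lsl_ct (LP (LK LD1_c10 LD2_c38 LD3_c23)) = (LP (LK LD1_c5 LD2_c23 LD3_c53)) :=
  Lre_c IH (LK LD1_c10 LD2_c38 LD3_c23) (LK LD1_c5 LD2_c23 LD3_c53) Lrfl Lrfl
theorem f178573 : Led Lsl_ct (LP (LK LD1_c8 LD2_c23 LD3_c49)) = (LP (LK LD1_c15 LD2_c47 LD3_c28)) :=
  Lre_c IH (LK LD1_c8 LD2_c23 LD3_c49) (LK LD1_c15 LD2_c47 LD3_c28) Lrfl Lrfl
theorem f322476 : Led Lsl_ef (LP (LK LD1_c10 LD2_c38 LD3_c23)) = (LP (LK LD1_c15 LD2_c47 LD3_c28)) :=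
  Lgr Lrot28 (Lpr_ct (f256517 IH) (Lpr_et (K20.f322470 IH) (Lpr_ct (f178573 IH) (Lpn (LP (LK LD1_c15 LD2_c47 LD3_c28))))))
theorem f355777 : Led Lsl_gt (LP (LK LD1_c8 LD2_c21 LD3_c23)) = (LP (LK LD1_c10 LD2_c38 LD3_c23)) :=
  Lgr Lrot131 (Lpe (K20.f167103 IH) (Lpr_dt (K18.f167102 IH) (Lpr_gf (K19.f310078 IH) (Lpe (K19.f304508 IH) (Lpe (K19.f310076 IH) (Lpe (K18.f188825 IH) (Lpr_dt (K22.f188821 IH) (Lpr_gf (f355773 IH) (Lpe (f322503 IH) (Lpe (f322476 IH) (Lpn (LP (LK LD1_c10 LD2_c38 LD3_c23)))))))))))))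
theorem f356821 : Led Lsl_gt (LP (LK LD1_c10 LD2_c42 LD3_c37)) = (LP (LK LD1_c19 LD2_c8 LD3_c23)) :=
  Lgr Lrot187 (Lpe (K25.f307825 IH) (Lpr_gf (K25.f352709 IH) (Lpr_dt (K25.f356813 IH) (Lpr_gt (K22.f167132 IH) (Lpe (K25.f167120 IH) (Lpr_gt (f355777 IH) (Lpr_ct (f256517 IH) (Lpe (K16.f256514 IH) (Lpe (K16.f256511 IH) (Lpn (LP (LK LD1_c19 LD2_c8 LD3_c23))))))))))))
theorem f353988 : Led Lsl_bf (LP (LK LD1_c15 LD2_c2 LD3_c30)) = (LP (LK LD1_c7 LD2_c58 LD3_c52)) :=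
  Lgr Lrot96 (Lpr_et (K25.f353986 IH) (Lpr_bt (K25.f353981 IH) (Lpr_et (K26.f353987 IH) (Lpn (LP (LK LD1_c7 LD2_c58 LD3_c52))))))
theorem f732520 : Led Lsl_ct (LP (LK LD1_c7 LD2_c58 LD3_c52)) = v15137 :=
  Lgr Lrot63 (Lpe (f353988 IH) (Lpr_gt (K26.f358394 IH) (Lpe (K25.f345740 IH) (Lpr_ct (K25.f307825 IH) (Lpr_gt (f356821 IH) (Lpe (K24.f256519 IH) (Lpe (K20.f314699 IH) (Lpr_gt (K23.f348204 IH) (Lpr_ct (K26.f245814 IH) (Lpr_gt (f732518 IH) (Lpn v15137)))))))))))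
theorem f331100 : Led Lsl_ct (LP (LK LD1_c2 LD2_c41 LD3_c33)) = (LP (LK LD1_c2 LD2_c12 LD3_c46)) :=
  Lgr Lrot40 (Lpr_ff (K25.f331096 IH) (Lpe (K22.f179958 IH) (Lpe (K19.f307041 IH) (Lpn (LP (LK LD1_c2 LD2_c12 LD3_c46))))))
def v4156 : LQ := Led Lsl_ft (LP (LK LD1_c2 LD2_c11 LD3_c45))
theorem f631508 : Led Lsl_ft (LP (LK LD1_c2 LD2_c11 LD3_c45)) = v4156 :=
  Lrfl
theorem f631512 : Led Lsl_ff (LP (LK LD1_c2 LD2_c11 LD3_c45)) = v4156 :=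
  Lgr Lrot3 (Lpr_ft (f631508 IH) (Lpn v4156))
theorem f245706 : Led Lsl_at (LP (LK LD1_c2 LD2_c41 LD3_c31)) = (LP (LK LD1_c5 LD2_c30 LD3_c30)) :=
  Lre_a IH (LK LD1_c2 LD2_c41 LD3_c31) (LK LD1_c5 LD2_c30 LD3_c30) Lrfl Lrfl
theorem f245707 : Led Lsl_bt (LP (LK LD1_c1 LD2_c17 LD3_c27)) = (LP (LK LD1_c2 LD2_c41 LD3_c31)) :=
  Lre_b IH (LK LD1_c1 LD2_c17 LD3_c27) (LK LD1_c2 LD2_c41 LD3_c31) Lrfl Lrfl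
theorem f245708 : Led Lsl_at (LP (LK LD1_c8 LD2_c56 LD3_c50)) = (LP (LK LD1_c4 LD2_c29 LD3_c19)) :=
  Lre_a IH (LK LD1_c8 LD2_c56 LD3_c50) (LK LD1_c4 LD2_c29 LD3_c19) Lrfl Lrfl
theorem f245709 : Led Lsl_bt (LP (LK LD1_c4 LD2_c29 LD3_c19)) = (LP (LK LD1_c2 LD2_c11 LD3_c45)) :=
  Lre_b IH (LK LD1_c4 LD2_c29 LD3_c19) (LK LD1_c2 LD2_c11 LD3_c45) Lrfl Lrfl
theorem f245710 : Led Lsl_af (LP (LK LD1_c1 LD2_c17 LD3_c27)) = (LP (LK LD1_c2 LD2_c11 LD3_c45)) :=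
  Lgr Lrot36 (Lpr_bt (f245707 IH) (Lpr_at (f245706 IH) (Lpr_bt (K13.f245704 IH) (Lpr_at (f245708 IH) (Lpr_bt (f245709 IH) (Lpn (LP (LK LD1_c2 LD2_c11 LD3_c45))))))))
theorem f631516 : Led Lsl_gf (LP (LK LD1_c2 LD2_c41 LD3_c34)) = v4156 :=
  Lgr Lrot47 (Lpr_gt (K19.f175278 IH) (Lpr_af (f245710 IH) (Lpr_ff (f631512 IH) (Lpn v4156))))
theorem f331108 : Led Lsl_af (LP (LK LD1_c2 LD2_c41 LD3_c34)) = (LP (LK LD1_c2 LD2_c45 LD3_c50)) :=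
  Lgr Lrot45 (Lpr_ft (K19.f306865 IH) (Lpe (K19.f306849 IH) (Lpr_ft (K25.f331106 IH) (Lpn (LP (LK LD1_c2 LD2_c45 LD3_c50))))))
theorem f631517 : Led Lsl_gt (LP (LK LD1_c2 LD2_c41 LD3_c33)) = v4156 :=
  Lgr Lrot5 (Lpr_ft (K25.f331106 IH) (Lpe (f331108 IH) (Lpr_gf (f631516 IH) (Lpn v4156))))
def v12716 : LQ := Led Lsl_ft (LP (LK LD1_c4 LD2_c29 LD3_c21))
theorem f697806 : Led Lsl_ft (LP (LK LD1_c4 LD2_c29 LD3_c21)) = v12716 :=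
  Lrfl
theorem f697809 : Led Lsl_ff (LP (LK LD1_c4 LD2_c29 LD3_c21)) = v12716 :=
  Lgr Lrot3 (Lpr_ft (f697806 IH) (Lpn v12716))
theorem f167687 : Led Lsl_dt (LP (LK LD1_c4 LD2_c29 LD3_c21)) = (LP (LK LD1_c2 LD2_c11 LD3_c45)) :=
  Lre_d IH (LK LD1_c4 LD2_c29 LD3_c21) (LK LD1_c2 LD2_c11 LD3_c45) Lrfl Lrfl
theorem f697811 : Led Lsl_dt v4156 = v12716 :=
  Lgr Lrot60 (Lpe (f631508 IH) (Lpe (f167687 IH) (Lpr_ff (f697809 IH) (Lpn v12716))))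
def v4657 : LQ := Led Lsl_gf (LP (LK LD1_c2 LD2_c41 LD3_c35))
theorem f638369 : Led Lsl_gf (LP (LK LD1_c2 LD2_c41 LD3_c35)) = v4657 :=
  Lrfl
theorem f697812 : Led Lsl_gf v4657 = v12716 :=
  Lgr Lrot47 (Lpe (f638369 IH) (Lpr_af (K13.f245739 IH) (Lpr_ff (f697809 IH) (Lpn v12716))))
theorem f732521 : Led Lsl_dt v4657 = v15137 :=
  Lgr Lrot113 (Lpr_gf (f697812 IH) (Lpe (f697811 IH) (Lpe (f631517 IH) (Lpr_ct (f331100 IH) (Lpe (K21.f326557 IH) (Lpr_dt (K22.f326523 IH) (Lpe (K25.f357214 IH) (Lpe (K26.f358468 IH) (Lpr_ct (f732520 IH) (Lpn v15137))))))))))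
theorem f245744 : Led Lsl_ct (LP (LK LD1_c2 LD2_c41 LD3_c35)) = (LP (LK LD1_c5 LD2_c30 LD3_c45)) :=
  Lre_c IH (LK LD1_c2 LD2_c41 LD3_c35) (LK LD1_c5 LD2_c30 LD3_c45) Lrfl Lrfl
theorem f638362 : Led Lsl_gt (LP (LK LD1_c5 LD2_c30 LD3_c45)) = (LP (LK LD1_c10 LD2_c53 LD3_c4)) :=
  Lre_g IH (LK LD1_c5 LD2_c30 LD3_c45) (LK LD1_c10 LD2_c53 LD3_c4) Lrfl Lrfl
theorem f629923 : Led Lsl_ft (LP (LK LD1_c8 LD2_c22 LD3_c28)) = (LP (LK LD1_c8 LD2_c34 LD3_c50)) :=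
  Lgr Lrot4 (Lpe (K26.f245814 IH) (Lpr_ff (f629919 IH) (Lpe (K20.f183293 IH) (Lpn (LP (LK LD1_c8 LD2_c34 LD3_c50))))))
theorem f630000 : Led Lsl_af (LP (LK LD1_c5 LD2_c35 LD3_c9)) = (LP (LK LD1_c8 LD2_c34 LD3_c50)) :=
  Lgr Lrot0 (Lpr_at (f629998 IH) (Lpn (LP (LK LD1_c8 LD2_c34 LD3_c50))))
theorem f732519 : Led Lsl_gf (LP (LK LD1_c5 LD2_c35 LD3_c9)) = v15137 :=
  Lgr Lrot76 (Lpr_af (f630000 IH) (Lpe (f629923 IH) (Lpr_gt (f732518 IH) (Lpn v15137))))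
theorem f732522 : Led Lsl_ct (LP (LK LD1_c10 LD2_c53 LD3_c4)) = (LP (LK LD1_c5 LD2_c39 LD3_c36)) :=
  Lgr Lrot151 (Lpe (f638362 IH) (Lpe (f245744 IH) (Lpr_gf (f638369 IH) (Lpr_dt (f732521 IH) (Lpe (f732519 IH) (Lpr_ct (f181824 IH) (Lpe (K22.f333351 IH) (Lpr_ct (K26.f245912 IH) (Lpr_dt (K22.f245943 IH) (Lpn (LP (LK LD1_c5 LD2_c39 LD3_c36))))))))))))
theorem f732523 : Led Lsl_ct (LP (LK LD1_c10 LD2_c53 LD3_c4)) = (LP (LK LD1_c5 LD2_c39 LD3_c36)) :=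
  Leop (Lpe (f732522 IH) (Lpn (LP (LK LD1_c10 LD2_c53 LD3_c4))))
theorem seed_882 : LEOK LG_c (LK LD1_c10 LD2_c53 LD3_c4) :=
  Leoe_c (LK LD1_c10 LD2_c53 LD3_c4) (f732523 IH)
def v15165 : LQ := Led Lsl_gf (LP (LK LD1_c5 LD2_c33 LD3_c15))
theorem f732634 : Led Lsl_gf (LP (LK LD1_c5 LD2_c33 LD3_c15)) = v15165 :=
  Lrfl
theorem f276235 : Led Lsl_dt (LP (LK LD1_c2 LD2_c13 LD3_c44)) = (LP (LK LD1_c4 LD2_c33 LD3_c42)) :=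
  Lre_d IH (LK LD1_c2 LD2_c13 LD3_c44) (LK LD1_c4 LD2_c33 LD3_c42) Lrfl Lrfl
theorem f276234 : Led Lsl_et (LP (LK LD1_c2 LD2_c13 LD3_c44)) = (LP (LK LD1_c1 LD2_c3 LD3_c52)) :=
  Lre_e IH (LK LD1_c2 LD2_c13 LD3_c44) (LK LD1_c1 LD2_c3 LD3_c52) Lrfl Lrfl
theorem f174262 : Led Lsl_et (LP (LK LD1_c2 LD2_c42 LD3_c46)) = (LP (LK LD1_c5 LD2_c33 LD3_c15)) :=
  Lre_e IH (LK LD1_c2 LD2_c42 LD3_c46) (LK LD1_c5 LD2_c33 LD3_c15) Lrfl Lrfl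
theorem f720821 : Led Lsl_gt (LP (LK LD1_c5 LD2_c33 LD3_c15)) = K53.v14172 :=
  Lgr Lrot131 (Lpe (f174262 IH) (Lpe (K12.f225705 IH) (Lpr_gf (K16.f276219 IH) (Lpe (K30.f181950 IH) (Lpe (K12.f167917 IH) (Lpe (f276234 IH) (Lpr_dt (f276235 IH) (Lpr_gf (K53.f698704 IH) (Lpe (K53.f698708 IH) (Lpr_et (K53.f720818 IH) (Lpn K53.v14172)))))))))))
theorem f727480 : Led Lsl_af K53.v14172 = K53.v14959 :=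
  Lgr Lrot50 (Lpe (K53.f720820 IH) (Lpe (K53.f633816 IH) (Lpr_et (K53.f727479 IH) (Lpn K53.v14959))))
theorem f732636 : Led Lsl_ff K53.v14959 = v15165 :=
  Lgr Lrot52 (Lpe (f727480 IH) (Lpe (f720821 IH) (Lpr_gf (f732634 IH) (Lpn v15165))))
theorem f171834 : Led Lsl_ct (LP (LK LD1_c3 LD2_c59 LD3_c57)) = (LP (LK LD1_c8 LD2_c0 LD3_c59)) :=
  Lre_c IH (LK LD1_c3 LD2_c59 LD3_c57) (LK LD1_c8 LD2_c0 LD3_c59) Lrfl Lrfl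
theorem f727481 : Led Lsl_cf (LP (LK LD1_c5 LD2_c37 LD3_c33)) = K53.v14959 :=
  Lgr Lrot39 (Lpr_et (K51.f171828 IH) (Lpr_ct (f171834 IH) (Lpr_et (K53.f727479 IH) (Lpn K53.v14959))))
theorem f732638 : Led Lsl_ct (LP (LK LD1_c5 LD2_c40 LD3_c44)) = v15165 :=
  Lgr Lrot40 (Lpe (K53.f633797 IH) (Lpr_cf (f727481 IH) (Lpr_ff (f732636 IH) (Lpn v15165))))
theorem f172248 : Led Lsl_bt (LP (LK LD1_c11 LD2_c12 LD3_c21)) = (LP (LK LD1_c5 LD2_c40 LD3_c56)) :=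
  Lre_b IH (LK LD1_c11 LD2_c12 LD3_c21) (LK LD1_c5 LD2_c40 LD3_c56) Lrfl Lrfl
theorem f588889 : Led Lsl_ft (LP (LK LD1_c11 LD2_c13 LD3_c61)) = (LP (LK LD1_c11 LD2_c20 LD3_c52)) :=
  Lgr Lrot4 (Lpr_cf (K45.f588635 IH) (Lpr_ff (K45.f588883 IH) (Lpe (K45.f385575 IH) (Lpn (LP (LK LD1_c11 LD2_c20 LD3_c52))))))
theorem f269064 : Led Lsl_dt (LP (LK LD1_c11 LD2_c13 LD3_c13)) = (LP (LK LD1_c16 LD2_c53 LD3_c16)) :=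
  Lgr Lrot42 (Lpr_df (K16.f269047 IH) (Lpn (LP (LK LD1_c16 LD2_c53 LD3_c16))))
theorem f572090 : Led Lsl_dt (LP (LK LD1_c11 LD2_c20 LD3_c52)) = (LP (LK LD1_c6 LD2_c15 LD3_c33)) :=
  Lgr Lrot57 (Lpr_gf (K45.f385573 IH) (Lpe (K30.f385563 IH) (Lpr_gt (K42.f210461 IH) (Lpr_dt (K42.f572084 IH) (Lpe (K45.f411854 IH) (Lpr_dt (f269064 IH) (Lpe (K16.f269046 IH) (Lpe (K16.f268984 IH) (Lpe (K43.f541710 IH) (Lpn (LP (LK LD1_c6 LD2_c15 LD3_c33))))))))))))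
theorem f601412 : Led Lsl_ff (LP (LK LD1_c5 LD2_c41 LD3_c53)) = (LP (LK LD1_c6 LD2_c15 LD3_c33)) :=
  Lgr Lrot19 (Lpr_dt (K45.f411906 IH) (Lpr_ft (f588889 IH) (Lpr_dt (f572090 IH) (Lpn (LP (LK LD1_c6 LD2_c15 LD3_c33))))))
theorem f542248 : Led Lsl_et (LP (LK LD1_c5 LD2_c41 LD3_c53)) = (LP (LK LD1_c11 LD2_c14 LD3_c0)) :=
  Lre_e IH (LK LD1_c5 LD2_c41 LD3_c53) (LK LD1_c11 LD2_c14 LD3_c0) Lrfl Lrfl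
theorem f601423 : Led Lsl_ft (LP (LK LD1_c11 LD2_c14 LD3_c0)) = (LP (LK LD1_c20 LD2_c8 LD3_c53)) :=
  Lre_f IH (LK LD1_c11 LD2_c14 LD3_c0) (LK LD1_c20 LD2_c8 LD3_c53) Lrfl Lrfl
theorem f73852 : Led Lsl_ef (LP (LK LD1_c6 LD2_c15 LD3_c33)) = (LP (LK LD1_c11 LD2_c30 LD3_c52)) :=
  Lgr Lrot28 (Lpr_ct (K39.f60804 IH) (Lpr_et (K2.f73834 IH) (Lpr_ct (K40.f73851 IH) (Lpn (LP (LK LD1_c11 LD2_c30 LD3_c52))))))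
theorem f74171 : Led Lsl_ft (LP (LK LD1_c20 LD2_c27 LD3_c55)) = (LP (LK LD1_c11 LD2_c30 LD3_c52)) :=
  Lre_f IH (LK LD1_c20 LD2_c27 LD3_c55) (LK LD1_c11 LD2_c30 LD3_c52) Lrfl Lrfl
theorem f601424 : Led Lsl_et (LP (LK LD1_c20 LD2_c8 LD3_c53)) = (LP (LK LD1_c20 LD2_c27 LD3_c55)) :=
  Lgr Lrot69 (Lpe (f601423 IH) (Lpe (f542248 IH) (Lpr_ff (f601412 IH) (Lpr_ef (f73852 IH) (Lpe (f74171 IH) (Lpn (LP (LK LD1_c20 LD2_c27 LD3_c55))))))))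
theorem f601428 : Led Lsl_ef (LP (LK LD1_c20 LD2_c8 LD3_c53)) = (LP (LK LD1_c20 LD2_c27 LD3_c55)) :=
  Lgr Lrot88 (Lpr_et (f601424 IH) (Lpn (LP (LK LD1_c20 LD2_c27 LD3_c55))))
theorem f79830 : Led Lsl_ct (LP (LK LD1_c11 LD2_c30 LD3_c53)) = (LP (LK LD1_c20 LD2_c27 LD3_c55)) :=
  Lre_c IH (LK LD1_c11 LD2_c30 LD3_c53) (LK LD1_c20 LD2_c27 LD3_c55) Lrfl Lrfl
theorem f172237 : Led Lsl_ft (LP (LK LD1_c3 LD2_c4 LD3_c49)) = (LP (LK LD1_c5 LD2_c40 LD3_c54)) :=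
  Lgr Lrot48 (Lpr_ff (K37.f172233 IH) (Lpn (LP (LK LD1_c5 LD2_c40 LD3_c54))))
theorem f172229 : Led Lsl_ft (LP (LK LD1_c11 LD2_c12 LD3_c21)) = (LP (LK LD1_c20 LD2_c6 LD3_c57)) :=
  Lre_f IH (LK LD1_c11 LD2_c12 LD3_c21) (LK LD1_c20 LD2_c6 LD3_c57) Lrfl Lrfl
theorem f172243 : Led Lsl_ef (LP (LK LD1_c11 LD2_c30 LD3_c53)) = (LP (LK LD1_c20 LD2_c6 LD3_c57)) :=
  Lgr Lrot21 (Lpr_ft (K52.f73872 IH) (Lpe (K2.f73854 IH) (Lpr_ft (f172237 IH) (Lpr_et (K37.f172224 IH) (Lpr_ft (f172229 IH) (Lpn (LP (LK LD1_c20 LD2_c6 LD3_c57))))))))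
theorem f601430 : Led Lsl_ct (LP (LK LD1_c20 LD2_c8 LD3_c53)) = (LP (LK LD1_c20 LD2_c6 LD3_c57)) :=
  Lgr Lrot15 (Lpr_ef (f601428 IH) (Lpe (f79830 IH) (Lpr_ef (f172243 IH) (Lpn (LP (LK LD1_c20 LD2_c6 LD3_c57))))))
theorem f172228 : Led Lsl_ft (LP (LK LD1_c20 LD2_c6 LD3_c57)) = (LP (LK LD1_c11 LD2_c12 LD3_c21)) :=
  Lre_f IH (LK LD1_c20 LD2_c6 LD3_c57) (LK LD1_c11 LD2_c12 LD3_c21) Lrfl Lrfl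
theorem f601433 : Led Lsl_cf (LP (LK LD1_c11 LD2_c14 LD3_c0)) = (LP (LK LD1_c11 LD2_c12 LD3_c21)) :=
  Lgr Lrot108 (Lpr_ft (f601423 IH) (Lpr_ct (f601430 IH) (Lpr_ft (f172228 IH) (Lpn (LP (LK LD1_c11 LD2_c12 LD3_c21))))))
theorem f732635 : Led Lsl_gt K53.v14961 = v15165 :=
  Lgr Lrot5 (Lpe (K53.f727497 IH) (Lpe (K30.f289299 IH) (Lpr_gf (f732634 IH) (Lpn v15165))))
theorem f727498 : Led Lsl_ct (LP (LK LD1_c5 LD2_c37 LD3_c17)) = K53.v14961 :=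
  Lgr Lrot40 (Lpe (K17.f164758 IH) (Lpr_cf (K53.f180433 IH) (Lpr_ff (K53.f727497 IH) (Lpn K53.v14961))))
theorem f178962 : Led Lsl_bt (LP (LK LD1_c9 LD2_c14 LD3_c5)) = (LP (LK LD1_c4 LD2_c39 LD3_c12)) :=
  Lre_b IH (LK LD1_c9 LD2_c14 LD3_c5) (LK LD1_c4 LD2_c39 LD3_c12) Lrfl Lrfl
theorem f178963 : Led Lsl_ct (LP (LK LD1_c9 LD2_c14 LD3_c5)) = (LP (LK LD1_c17 LD2_c8 LD3_c25)) :=
  Lre_c IH (LK LD1_c9 LD2_c14 LD3_c5) (LK LD1_c17 LD2_c8 LD3_c25) Lrfl Lrfl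
theorem f732642 : Led Lsl_gt (LP (LK LD1_c11 LD2_c14 LD3_c0)) = (LP (LK LD1_c17 LD2_c8 LD3_c25)) :=
  Lgr Lrot65 (Lpr_cf (f601433 IH) (Lpr_bt (f172248 IH) (Lpr_gf (K53.f707147 IH) (Lpe (K53.f225475 IH) (Lpr_ct (f732638 IH) (Lpe (f732635 IH) (Lpe (f727498 IH) (Lpe (K50.f408198 IH) (Lpe (f178962 IH) (Lpr_ct (f178963 IH) (Lpn (LP (LK LD1_c17 LD2_c8 LD3_c25)))))))))))))
theorem f732643 : Led Lsl_gt (LP (LK LD1_c11 LD2_c14 LD3_c0)) = (LP (LK LD1_c17 LD2_c8 LD3_c25)) :=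
  Leop (Lpe (f732642 IH) (Lpn (LP (LK LD1_c11 LD2_c14 LD3_c0))))
theorem seed_883 : LEOK LG_g (LK LD1_c11 LD2_c14 LD3_c0) :=
  Leoe_g (LK LD1_c11 LD2_c14 LD3_c0) (f732643 IH)
theorem f40910 : Led Lsl_et (LP (LK LD1_c9 LD2_c46 LD3_c47)) = (LP (LK LD1_c4 LD2_c57 LD3_c58)) :=
  Lre_e IH (LK LD1_c9 LD2_c46 LD3_c47) (LK LD1_c4 LD2_c57 LD3_c58) Lrfl Lrfl
theorem f194051 : Led Lsl_gt (LP (LK LD1_c5 LD2_c14 LD3_c35)) = (LP (LK LD1_c2 LD2_c34 LD3_c7)) :=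
  Lre_g IH (LK LD1_c5 LD2_c14 LD3_c35) (LK LD1_c2 LD2_c34 LD3_c7) Lrfl Lrfl
theorem f140325 : Led Lsl_et (LP (LK LD1_c1 LD2_c10 LD3_c40)) = (LP (LK LD1_c2 LD2_c26 LD3_c49)) :=
  Lre_e IH (LK LD1_c1 LD2_c10 LD3_c40) (LK LD1_c2 LD2_c26 LD3_c49) Lrfl Lrfl
theorem f225537 : Led Lsl_df (LP (LK LD1_c5 LD2_c14 LD3_c35)) = (LP (LK LD1_c9 LD2_c46 LD3_c47)) :=
  Lgr Lrot170 (Lpr_gt (f194051 IH) (Lpr_df (K53.f225466 IH) (Lpr_et (K12.f225334 IH) (Lpr_gt (K12.f174941 IH) (Lpr_dt (K12.f171267 IH) (Lpr_gt (K9.f172137 IH) (Lpe (K9.f20816 IH) (Lpr_et (f140325 IH) (Lpr_gt (K53.f40903 IH) (Lpe (f40910 IH) (Lpn (LP (LK LD1_c9 LD2_c46 LD3_c47)))))))))))))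
theorem f408449 : Led Lsl_gf (LP (LK LD1_c5 LD2_c14 LD3_c35)) = (LP (LK LD1_c5 LD2_c8 LD3_c10)) :=
  Lgr Lrot134 (Lpr_df (f225537 IH) (Lpr_et (f40910 IH) (Lpe (K53.f40904 IH) (Lpe (K9.f40892 IH) (Lpr_dt (K9.f40493 IH) (Lpr_gt (K32.f40956 IH) (Lpe (K46.f40963 IH) (Lpr_et (K51.f40964 IH) (Lpr_gt (K51.f408447 IH) (Lpr_dt (K17.f165087 IH) (Lpn (LP (LK LD1_c5 LD2_c8 LD3_c10)))))))))))))
def v14599 : LQ := Led Lsl_ct (LP (LK LD1_c5 LD2_c14 LD3_c35))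
theorem f723961 : Led Lsl_ct (LP (LK LD1_c5 LD2_c14 LD3_c35)) = v14599 :=
  Lrfl
theorem f387351 : Led Lsl_ft (LP (LK LD1_c5 LD2_c12 LD3_c33)) = (LP (LK LD1_c2 LD2_c33 LD3_c8)) :=
  Lre_f IH (LK LD1_c5 LD2_c12 LD3_c33) (LK LD1_c2 LD2_c33 LD3_c8) Lrfl Lrfl
theorem f387354 : Led Lsl_at (LP (LK LD1_c2 LD2_c33 LD3_c8)) = (LP (LK LD1_c2 LD2_c30 LD3_c19)) :=
  Lgr Lrot26 (Lpe (f387351 IH) (Lpr_gt (f387352 IH) (Lpr_gt (K17.f164763 IH) (Lpn (LP (LK LD1_c2 LD2_c30 LD3_c19))))))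
theorem f302348 : Led Lsl_af (LP (LK LD1_c5 LD2_c11 LD3_c48)) = (LP (LK LD1_c5 LD2_c4 LD3_c40)) :=
  Lgr Lrot50 (Lpr_et (K53.f21938 IH) (Lpr_at (K18.f302340 IH) (Lpr_et (K18.f166354 IH) (Lpn (LP (LK LD1_c5 LD2_c4 LD3_c40))))))
theorem f387357 : Led Lsl_cf (LP (LK LD1_c2 LD2_c33 LD3_c8)) = (LP (LK LD1_c5 LD2_c11 LD3_c48)) :=
  Lgr Lrot1 (Lpr_at (f387354 IH) (Lpe (K18.f166247 IH) (Lpe (f302348 IH) (Lpn (LP (LK LD1_c5 LD2_c11 LD3_c48))))))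
theorem f185274 : Led Lsl_gt (LP (LK LD1_c10 LD2_c14 LD3_c27)) = (LP (LK LD1_c5 LD2_c11 LD3_c48)) :=
  Lre_g IH (LK LD1_c10 LD2_c14 LD3_c27) (LK LD1_c5 LD2_c11 LD3_c48) Lrfl Lrfl
theorem f732644 : v14599 = (LP (LK LD1_c10 LD2_c14 LD3_c27)) :=
  (Llr Lrot152 (Lpe (f723961 IH) (Lpr_gf (f408449 IH) (Lpe (K17.f165087 IH) (Lpr_gt (K51.f408442 IH) (Lpr_ct (f732638 IH) (Lpe (f732634 IH) (Lpr_ct (K27.f174247 IH) (Lpe (K50.f185126 IH) (Lpr_cf (f387357 IH) (Lpe (f185274 IH) (Lpn (LP (LK LD1_c10 LD2_c14 LD3_c27)))))))))))))).symm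
theorem f723962 : Led Lsl_cf (LP (LK LD1_c5 LD2_c14 LD3_c35)) = v14599 :=
  Lgr Lrot11 (Lpr_ct (f723961 IH) (Lpn v14599))
theorem f732645 : Led Lsl_ct (LP (LK LD1_c10 LD2_c14 LD3_c27)) = (LP (LK LD1_c5 LD2_c14 LD3_c35)) :=
  Leop (Lpr_cf (f723962 IH) (Lpqs (f732644 IH) (Lpn (LP (LK LD1_c10 LD2_c14 LD3_c27)))))
theorem seed_884 : LEOK LG_c (LK LD1_c10 LD2_c14 LD3_c27) :=
  Leoe_c (LK LD1_c10 LD2_c14 LD3_c27) (f732645 IH)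
def v15167 : LQ := Led Lsl_ft (LP (LK LD1_c5 LD2_c33 LD3_c15))
theorem f732658 : Led Lsl_ft (LP (LK LD1_c5 LD2_c33 LD3_c15)) = v15167 :=
  Lrfl
theorem f732662 : Led Lsl_ff (LP (LK LD1_c5 LD2_c33 LD3_c15)) = v15167 :=
  Lgr Lrot3 (Lpr_ft (f732658 IH) (Lpn v15167))
theorem f382608 : Led Lsl_bf (LP (LK LD1_c16 LD2_c48 LD3_c12)) = (LP (LK LD1_c11 LD2_c0 LD3_c12)) :=
  Lgr Lrot24 (Lpr_bt (K30.f382605 IH) (Lpn (LP (LK LD1_c11 LD2_c0 LD3_c12))))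
theorem f341307 : Led Lsl_et (LP (LK LD1_c10 LD2_c58 LD3_c29)) = (LP (LK LD1_c5 LD2_c33 LD3_c14)) :=
  Lre_e IH (LK LD1_c10 LD2_c58 LD3_c29) (LK LD1_c5 LD2_c33 LD3_c14) Lrfl Lrfl
theorem f382570 : Led Lsl_at (LP (LK LD1_c16 LD2_c48 LD3_c12)) = (LP (LK LD1_c10 LD2_c58 LD3_c29)) :=
  Lgr Lrot80 (Lpe (K30.f382569 IH) (Lpr_af (K27.f382489 IH) (Lpe (f341307 IH) (Lpn (LP (LK LD1_c10 LD2_c58 LD3_c29))))))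
theorem f173014 : Led Lsl_et (LP (LK LD1_c5 LD2_c28 LD3_c42)) = (LP (LK LD1_c10 LD2_c48 LD3_c29)) :=
  Lre_e IH (LK LD1_c5 LD2_c28 LD3_c42) (LK LD1_c10 LD2_c48 LD3_c29) Lrfl Lrfl
theorem f277271 : Led Lsl_af (LP (LK LD1_c11 LD2_c0 LD3_c12)) = (LP (LK LD1_c10 LD2_c48 LD3_c29)) :=
  Lgr Lrot50 (Lpr_et (K30.f226360 IH) (Lpr_at (K30.f277266 IH) (Lpr_et (f173014 IH) (Lpn (LP (LK LD1_c10 LD2_c48 LD3_c29))))))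
theorem f180429 : Led Lsl_bt (LP (LK LD1_c5 LD2_c28 LD3_c44)) = (LP (LK LD1_c10 LD2_c48 LD3_c29)) :=
  Lre_b IH (LK LD1_c5 LD2_c28 LD3_c44) (LK LD1_c10 LD2_c48 LD3_c29) Lrfl Lrfl
theorem f382616 : Led Lsl_at (LP (LK LD1_c5 LD2_c33 LD3_c15)) = (LP (LK LD1_c5 LD2_c28 LD3_c44)) :=
  Lgr Lrot67 (Lpe (K27.f174257 IH) (Lpe (f382570 IH) (Lpr_bf (f382608 IH) (Lpr_af (f277271 IH) (Lpe (f180429 IH) (Lpn (LP (LK LD1_c5 LD2_c28 LD3_c44))))))))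
theorem f732666 : Led Lsl_gf K53.v14960 = v15167 :=
  Lgr Lrot47 (Lpe (K53.f727485 IH) (Lpe (f382616 IH) (Lpr_ff (f732662 IH) (Lpn v15167))))
theorem f732639 : Led Lsl_ft K53.v14959 = v15165 :=
  Lgr Lrot48 (Lpr_ff (f732636 IH) (Lpn v15165))
theorem f732640 : Led Lsl_af K53.v14960 = v15165 :=
  Lgr Lrot45 (Lpe (K53.f727486 IH) (Lpr_at (K53.f727483 IH) (Lpr_ft (f732639 IH) (Lpn v15165))))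
theorem f732667 : Led Lsl_gt K53.v14959 = v15167 :=
  Lgr Lrot5 (Lpr_ft (f732639 IH) (Lpe (f732640 IH) (Lpr_gf (f732666 IH) (Lpn v15167))))
theorem f727484 : Led Lsl_ct (LP (LK LD1_c5 LD2_c37 LD3_c33)) = K53.v14959 :=
  Lgr Lrot15 (Lpr_ef (K48.f171820 IH) (Lpe (K53.f171827 IH) (Lpr_ef (K53.f727482 IH) (Lpn K53.v14959))))
theorem f165070 : Led Lsl_dt (LP (LK LD1_c2 LD2_c44 LD3_c44)) = (LP (LK LD1_c2 LD2_c31 LD3_c18)) :=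
  Lgr Lrot77 (Lpe (K17.f165069 IH) (Lpe (K12.f164711 IH) (Lpr_ef (K9.f165062 IH) (Lpe (K9.f53202 IH) (Lpe (K17.f22381 IH) (Lpn (LP (LK LD1_c2 LD2_c31 LD3_c18))))))))
def v14391 : LQ := Led Lsl_ct (LP (LK LD1_c5 LD2_c8 LD3_c8))
theorem f722311 : Led Lsl_ct (LP (LK LD1_c5 LD2_c8 LD3_c8)) = v14391 :=
  Lrfl
theorem f732660 : Led Lsl_cf (LP (LK LD1_c5 LD2_c42 LD3_c11)) = v15167 :=
  Lgr Lrot108 (Lpr_ft (K17.f174249 IH) (Lpe (K27.f174151 IH) (Lpr_ft (f732658 IH) (Lpn v15167))))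
theorem f387335 : Led Lsl_bt (LP (LK LD1_c10 LD2_c15 LD3_c27)) = (LP (LK LD1_c5 LD2_c12 LD3_c33)) :=
  Lre_b IH (LK LD1_c10 LD2_c15 LD3_c27) (LK LD1_c5 LD2_c12 LD3_c33) Lrfl Lrfl
theorem f289288 : Led Lsl_bt (LP (LK LD1_c5 LD2_c42 LD3_c11)) = (LP (LK LD1_c11 LD2_c14 LD3_c35)) :=
  Lre_b IH (LK LD1_c5 LD2_c42 LD3_c11) (LK LD1_c11 LD2_c14 LD3_c35) Lrfl Lrfl
theorem f387336 : Led Lsl_dt (LP (LK LD1_c5 LD2_c12 LD3_c33)) = (LP (LK LD1_c5 LD2_c42 LD3_c11)) :=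
  Lgr Lrot79 (Lpe (f387335 IH) (Lpr_df (f387326 IH) (Lpe (f289288 IH) (Lpn (LP (LK LD1_c5 LD2_c42 LD3_c11))))))
theorem f164762 : Led Lsl_ft (LP (LK LD1_c2 LD2_c30 LD3_c19)) = (LP (LK LD1_c5 LD2_c6 LD3_c2)) :=
  Lre_f IH (LK LD1_c2 LD2_c30 LD3_c19) (LK LD1_c5 LD2_c6 LD3_c2) Lrfl Lrfl
theorem f387359 : Led Lsl_af (LP (LK LD1_c5 LD2_c12 LD3_c33)) = (LP (LK LD1_c5 LD2_c6 LD3_c2)) :=
  Lgr Lrot45 (Lpr_ft (f387351 IH) (Lpr_at (f387354 IH) (Lpr_ft (f164762 IH) (Lpn (LP (LK LD1_c5 LD2_c6 LD3_c2))))))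
theorem f387363 : Led Lsl_et (LP (LK LD1_c5 LD2_c12 LD3_c33)) = (LP (LK LD1_c5 LD2_c6 LD3_c38)) :=
  Lgr Lrot123 (Lpr_af (f387359 IH) (Lpe (K18.f302368 IH) (Lpr_af (K50.f302683 IH) (Lpn (LP (LK LD1_c5 LD2_c6 LD3_c38))))))
theorem f387370 : Led Lsl_cf (LP (LK LD1_c5 LD2_c12 LD3_c33)) = (LP (LK LD1_c10 LD2_c14 LD3_c29)) :=
  Lgr Lrot39 (Lpr_et (f387363 IH) (Lpr_ct (K52.f169735 IH) (Lpe (K53.f302331 IH) (Lpn (LP (LK LD1_c10 LD2_c14 LD3_c29))))))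
theorem f302702 : Led Lsl_at (LP (LK LD1_c10 LD2_c0 LD3_c30)) = (LP (LK LD1_c10 LD2_c14 LD3_c29)) :=
  Lgr Lrot100 (Lpr_af (K53.f302696 IH) (Lpn (LP (LK LD1_c10 LD2_c14 LD3_c29))))
theorem f166294 : Led Lsl_gt (LP (LK LD1_c5 LD2_c4 LD3_c40)) = (LP (LK LD1_c10 LD2_c0 LD3_c28)) :=
  Lre_g IH (LK LD1_c5 LD2_c4 LD3_c40) (LK LD1_c10 LD2_c0 LD3_c28) Lrfl Lrfl
theorem f302709 : Led Lsl_gt (LP (LK LD1_c10 LD2_c0 LD3_c28)) = (LP (LK LD1_c10 LD2_c14 LD3_c29)) :=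
  Lgr Lrot46 (Lpe (f166294 IH) (Lpr_ft (K18.f166291 IH) (Lpr_at (f302702 IH) (Lpn (LP (LK LD1_c10 LD2_c14 LD3_c29))))))
theorem f732668 : v14391 = (LP (LK LD1_c10 LD2_c0 LD3_c28)) :=
  (Llr Lrot152 (Lpe (f722311 IH) (Lpe (K53.f53216 IH) (Lpe (f165070 IH) (Lpr_gt (K48.f165091 IH) (Lpr_ct (f727484 IH) (Lpr_gt (f732667 IH) (Lpe (f732660 IH) (Lpe (f387336 IH) (Lpr_cf (f387370 IH) (Lpe (f302709 IH) (Lpn (LP (LK LD1_c10 LD2_c0 LD3_c28)))))))))))))).symm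
theorem f722312 : Led Lsl_cf (LP (LK LD1_c5 LD2_c8 LD3_c8)) = v14391 :=
  Lgr Lrot11 (Lpr_ct (f722311 IH) (Lpn v14391))
theorem f732669 : Led Lsl_ct (LP (LK LD1_c10 LD2_c0 LD3_c28)) = (LP (LK LD1_c5 LD2_c8 LD3_c8)) :=
  Leop (Lpr_cf (f722312 IH) (Lpqs (f732668 IH) (Lpn (LP (LK LD1_c10 LD2_c0 LD3_c28)))))
theorem seed_885 : LEOK LG_c (LK LD1_c10 LD2_c0 LD3_c28) :=
  Leoe_c (LK LD1_c10 LD2_c0 LD3_c28) (f732669 IH)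
def v15178 : LQ := Led Lsl_gt (LP (LK LD1_c5 LD2_c33 LD3_c25))
theorem f732709 : Led Lsl_gt (LP (LK LD1_c5 LD2_c33 LD3_c25)) = v15178 :=
  Lrfl
theorem f388927 : Led Lsl_bt (LP (LK LD1_c2 LD2_c42 LD3_c51)) = (LP (LK LD1_c5 LD2_c33 LD3_c25)) :=
  Lre_b IH (LK LD1_c2 LD2_c42 LD3_c51) (LK LD1_c5 LD2_c33 LD3_c25) Lrfl Lrfl
theorem f401332 : Led Lsl_cf (LP (LK LD1_c10 LD2_c58 LD3_c48)) = (LP (LK LD1_c9 LD2_c44 LD3_c14)) :=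
  Lgr Lrot108 (Lpr_ft (K41.f401326 IH) (Lpr_ct (K30.f218282 IH) (Lpr_ft (K30.f332444 IH) (Lpn (LP (LK LD1_c9 LD2_c44 LD3_c14))))))
theorem f175219 : Led Lsl_bt (LP (LK LD1_c2 LD2_c42 LD3_c28)) = (LP (LK LD1_c5 LD2_c32 LD3_c36)) :=
  Lre_b IH (LK LD1_c2 LD2_c42 LD3_c28) (LK LD1_c5 LD2_c32 LD3_c36) Lrfl Lrfl
theorem f175220 : Led Lsl_ct (LP (LK LD1_c2 LD2_c42 LD3_c28)) = (LP (LK LD1_c5 LD2_c32 LD3_c37)) :=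
  Lre_c IH (LK LD1_c2 LD2_c42 LD3_c28) (LK LD1_c5 LD2_c32 LD3_c37) Lrfl Lrfl
theorem f309485 : Led Lsl_ff (LP (LK LD1_c2 LD2_c41 LD3_c18)) = (LP (LK LD1_c4 LD2_c28 LD3_c49)) :=
  Lgr Lrot25 (Lpr_bt (K30.f175174 IH) (Lpr_ft (K19.f309481 IH) (Lpr_bt (K30.f179289 IH) (Lpn (LP (LK LD1_c4 LD2_c28 LD3_c49))))))
theorem f386530 : Led Lsl_at (LP (LK LD1_c2 LD2_c41 LD3_c18)) = (LP (LK LD1_c5 LD2_c30 LD3_c0)) :=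
  Lre_a IH (LK LD1_c2 LD2_c41 LD3_c18) (LK LD1_c5 LD2_c30 LD3_c0) Lrfl Lrfl
theorem f404846 : Led Lsl_gf (LP (LK LD1_c5 LD2_c30 LD3_c0)) = (LP (LK LD1_c8 LD2_c55 LD3_c54)) :=
  Lgr Lrot76 (Lpe (f386530 IH) (Lpr_ff (f309485 IH) (Lpr_gt (K50.f178106 IH) (Lpn (LP (LK LD1_c8 LD2_c55 LD3_c54))))))
theorem f234865 : Led Lsl_at (LP (LK LD1_c15 LD2_c1 LD3_c54)) = (LP (LK LD1_c7 LD2_c58 LD3_c5)) :=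
  Lre_a IH (LK LD1_c15 LD2_c1 LD3_c54) (LK LD1_c7 LD2_c58 LD3_c5) Lrfl Lrfl
theorem f347440 : Led Lsl_ff (LP (LK LD1_c15 LD2_c1 LD3_c54)) = (LP (LK LD1_c24 LD2_c48 LD3_c33)) :=
  Lgr Lrot30 (Lpr_at (f234865 IH) (Lpr_ft (K23.f347438 IH) (Lpr_at (K38.f199748 IH) (Lpn (LP (LK LD1_c24 LD2_c48 LD3_c33))))))
theorem f228022 : Led Lsl_gt (LP (LK LD1_c15 LD2_c1 LD3_c53)) = (LP (LK LD1_c7 LD2_c58 LD3_c5)) :=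
  Lre_g IH (LK LD1_c15 LD2_c1 LD3_c53) (LK LD1_c7 LD2_c58 LD3_c5) Lrfl Lrfl
theorem f394547 : Led Lsl_gf (LP (LK LD1_c15 LD2_c1 LD3_c53)) = (LP (LK LD1_c24 LD2_c48 LD3_c33)) :=
  Lgr Lrot47 (Lpr_gt (f228022 IH) (Lpe (f234865 IH) (Lpr_ff (f347440 IH) (Lpn (LP (LK LD1_c24 LD2_c48 LD3_c33))))))
theorem f391408 : Led Lsl_bt (LP (LK LD1_c16 LD2_c43 LD3_c6)) = (LP (LK LD1_c8 LD2_c55 LD3_c54)) :=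
  Lre_b IH (LK LD1_c16 LD2_c43 LD3_c6) (LK LD1_c8 LD2_c55 LD3_c54) Lrfl Lrfl
theorem f404848 : Led Lsl_cf (LP (LK LD1_c15 LD2_c1 LD3_c53)) = (LP (LK LD1_c16 LD2_c43 LD3_c6)) :=
  Lgr Lrot163 (Lpr_gf (f394547 IH) (Lpr_cf (K38.f199734 IH) (Lpe (K45.f347467 IH) (Lpe (K31.f386416 IH) (Lpr_ct (K31.f244998 IH) (Lpr_gf (K31.f244990 IH) (Lpe (K30.f245701 IH) (Lpr_bt (K30.f222617 IH) (Lpr_gf (f404846 IH) (Lpe (f391408 IH) (Lpn (LP (LK LD1_c16 LD2_c43 LD3_c6)))))))))))))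
theorem f404858 : Led Lsl_bf (LP (LK LD1_c15 LD2_c36 LD3_c43)) = (LP (LK LD1_c8 LD2_c56 LD3_c15)) :=
  Lgr Lrot156 (Lpr_gt (K38.f339361 IH) (Lpr_bf (K38.f347478 IH) (Lpe (K38.f199734 IH) (Lpe (f394547 IH) (Lpr_cf (f404848 IH) (Lpr_bt (f391408 IH) (Lpe (f404846 IH) (Lpr_ct (K30.f222580 IH) (Lpe (K30.f384919 IH) (Lpe (K31.f226215 IH) (Lpn (LP (LK LD1_c8 LD2_c56 LD3_c15)))))))))))))
theorem f404860 : Led Lsl_bt (LP (LK LD1_c15 LD2_c36 LD3_c43)) = (LP (LK LD1_c8 LD2_c56 LD3_c15)) :=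
  Lgr Lrot127 (Lpr_bf (f404858 IH) (Lpn (LP (LK LD1_c8 LD2_c56 LD3_c15))))
theorem f226230 : Led Lsl_dt (LP (LK LD1_c8 LD2_c56 LD3_c15)) = (LP (LK LD1_c16 LD2_c43 LD3_c50)) :=
  Lre_d IH (LK LD1_c8 LD2_c56 LD3_c15) (LK LD1_c16 LD2_c43 LD3_c50) Lrfl Lrfl
theorem f550378 : Led Lsl_bf (LP (LK LD1_c19 LD2_c19 LD3_c47)) = (LP (LK LD1_c16 LD2_c43 LD3_c50)) :=
  Lgr Lrot93 (Lpr_dt (K38.f550376 IH) (Lpr_bt (f404860 IH) (Lpr_dt (f226230 IH) (Lpn (LP (LK LD1_c16 LD2_c43 LD3_c50))))))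
theorem f373672 : Led Lsl_at (LP (LK LD1_c25 LD2_c4 LD3_c39)) = (LP (LK LD1_c15 LD2_c15 LD3_c28)) :=
  Lre_a IH (LK LD1_c25 LD2_c4 LD3_c39) (LK LD1_c15 LD2_c15 LD3_c28) Lrfl Lrfl
theorem f234720 : Led Lsl_bt (LP (LK LD1_c15 LD2_c15 LD3_c28)) = (LP (LK LD1_c8 LD2_c6 LD3_c15)) :=
  Lre_b IH (LK LD1_c15 LD2_c15 LD3_c28) (LK LD1_c8 LD2_c6 LD3_c15) Lrfl Lrfl
theorem f361855 : Led Lsl_af (LP (LK LD1_c10 LD2_c23 LD3_c27)) = (LP (LK LD1_c8 LD2_c6 LD3_c18)) :=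
  Lgr Lrot117 (Lpr_dt (K13.f50178 IH) (Lpr_at (K26.f361849 IH) (Lpr_dt (K14.f213209 IH) (Lpn (LP (LK LD1_c8 LD2_c6 LD3_c18))))))
theorem f361863 : Led Lsl_ft (LP (LK LD1_c10 LD2_c23 LD3_c27)) = (LP (LK LD1_c8 LD2_c6 LD3_c15)) :=
  Lgr Lrot54 (Lpe (K14.f50169 IH) (Lpr_ff (K26.f361857 IH) (Lpe (K14.f216878 IH) (Lpn (LP (LK LD1_c8 LD2_c6 LD3_c15))))))
theorem f361906 : Led Lsl_af (LP (LK LD1_c10 LD2_c23 LD3_c24)) = (LP (LK LD1_c8 LD2_c6 LD3_c15)) :=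
  Lgr Lrot45 (Lpr_ft (K26.f361903 IH) (Lpe (f361855 IH) (Lpr_ft (f361863 IH) (Lpn (LP (LK LD1_c8 LD2_c6 LD3_c15))))))
theorem f373673 : Led Lsl_at (LP (LK LD1_c10 LD2_c40 LD3_c31)) = (LP (LK LD1_c19 LD2_c19 LD3_c42)) :=
  Lre_a IH (LK LD1_c10 LD2_c40 LD3_c31) (LK LD1_c19 LD2_c19 LD3_c42) Lrfl Lrfl
theorem f373674 : Led Lsl_bt (LP (LK LD1_c10 LD2_c23 LD3_c24)) = (LP (LK LD1_c10 LD2_c40 LD3_c31)) :=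
  Lgr Lrot62 (Lpr_af (f361906 IH) (Lpe (f234720 IH) (Lpe (f373672 IH) (Lpr_bf (K27.f373281 IH) (Lpe (f373673 IH) (Lpn (LP (LK LD1_c10 LD2_c40 LD3_c31))))))))
theorem f234653 : Led Lsl_ct (LP (LK LD1_c10 LD2_c23 LD3_c24)) = (LP (LK LD1_c8 LD2_c16 LD3_c44)) :=
  Lgr Lrot7 (Lpe (K15.f49355 IH) (Lpe (K12.f49352 IH) (Lpe (K12.f49318 IH) (Lpe (K14.f49329 IH) (Lpr_cf (K14.f222917 IH) (Lpr_gt (K14.f234651 IH) (Lpr_dt (K13.f213052 IH) (Lpr_gt (K13.f223028 IH) (Lpr_dt (K15.f47541 IH) (Lpn (LP (LK LD1_c8 LD2_c16 LD3_c44))))))))))))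
theorem f234964 : Led Lsl_bt (LP (LK LD1_c5 LD2_c32 LD3_c20)) = (LP (LK LD1_c2 LD2_c42 LD3_c22)) :=
  Lre_b IH (LK LD1_c5 LD2_c32 LD3_c20) (LK LD1_c2 LD2_c42 LD3_c22) Lrfl Lrfl
theorem f168164 : Led Lsl_ct (LP (LK LD1_c5 LD2_c32 LD3_c20)) = (LP (LK LD1_c10 LD2_c56 LD3_c20)) :=
  Lre_c IH (LK LD1_c5 LD2_c32 LD3_c20) (LK LD1_c10 LD2_c56 LD3_c20) Lrfl Lrfl
theorem f258624 : Led Lsl_gt (LP (LK LD1_c19 LD2_c45 LD3_c22)) = (LP (LK LD1_c10 LD2_c56 LD3_c20)) :=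
  Lre_g IH (LK LD1_c19 LD2_c45 LD3_c22) (LK LD1_c10 LD2_c56 LD3_c20) Lrfl Lrfl
theorem f621060 : Led Lsl_cf (LP (LK LD1_c19 LD2_c45 LD3_c22)) = (LP (LK LD1_c16 LD2_c43 LD3_c50)) :=
  Lgr Lrot160 (Lpr_gt (f258624 IH) (Lpe (f168164 IH) (Lpr_bt (f234964 IH) (Lpr_gt (K15.f213057 IH) (Lpe (K15.f258622 IH) (Lpr_gt (K15.f258615 IH) (Lpe (f234653 IH) (Lpr_bt (f373674 IH) (Lpr_gt (K38.f373697 IH) (Lpr_bf (f550378 IH) (Lpn (LP (LK LD1_c16 LD2_c43 LD3_c50)))))))))))))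
theorem f234965 : Led Lsl_ct (LP (LK LD1_c10 LD2_c56 LD3_c20)) = (LP (LK LD1_c5 LD2_c32 LD3_c20)) :=
  Lre_c IH (LK LD1_c10 LD2_c56 LD3_c20) (LK LD1_c5 LD2_c32 LD3_c20) Lrfl Lrfl
theorem f213405 : Led Lsl_ct (LP (LK LD1_c2 LD2_c42 LD3_c27)) = (LP (LK LD1_c5 LD2_c32 LD3_c35)) :=
  Lre_c IH (LK LD1_c2 LD2_c42 LD3_c27) (LK LD1_c5 LD2_c32 LD3_c35) Lrfl Lrfl
theorem f281523 : Led Lsl_gt (LP (LK LD1_c5 LD2_c32 LD3_c35)) = (LP (LK LD1_c10 LD2_c56 LD3_c55)) :=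
  Lre_g IH (LK LD1_c5 LD2_c32 LD3_c35) (LK LD1_c10 LD2_c56 LD3_c55) Lrfl Lrfl
theorem f281524 : Led Lsl_dt (LP (LK LD1_c10 LD2_c56 LD3_c55)) = (LP (LK LD1_c19 LD2_c46 LD3_c35)) :=
  Lre_d IH (LK LD1_c10 LD2_c56 LD3_c55) (LK LD1_c19 LD2_c46 LD3_c35) Lrfl Lrfl
theorem f281174 : Led Lsl_gf (LP (LK LD1_c5 LD2_c32 LD3_c42)) = (LP (LK LD1_c8 LD2_c57 LD3_c24)) :=
  Lgr Lrot47 (Lpr_gt (K20.f174388 IH) (Lpe (K50.f281166 IH) (Lpr_ff (K20.f281155 IH) (Lpn (LP (LK LD1_c8 LD2_c57 LD3_c24))))))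
theorem f226218 : Led Lsl_df (LP (LK LD1_c4 LD2_c28 LD3_c58)) = (LP (LK LD1_c5 LD2_c32 LD3_c42)) :=
  Lgr Lrot38 (Lpr_dt (K30.f226211 IH) (Lpn (LP (LK LD1_c5 LD2_c32 LD3_c42))))
theorem f226216 : Led Lsl_dt (LP (LK LD1_c16 LD2_c43 LD3_c50)) = (LP (LK LD1_c8 LD2_c56 LD3_c15)) :=
  Lre_d IH (LK LD1_c16 LD2_c43 LD3_c50) (LK LD1_c8 LD2_c56 LD3_c15) Lrfl Lrfl
theorem f281525 : Led Lsl_gt (LP (LK LD1_c19 LD2_c46 LD3_c35)) = (LP (LK LD1_c16 LD2_c43 LD3_c50)) :=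
  Lgr Lrot49 (Lpe (f281524 IH) (Lpe (f281523 IH) (Lpe (f213405 IH) (Lpr_gt (K24.f281521 IH) (Lpr_dt (K20.f281088 IH) (Lpe (f281174 IH) (Lpe (f226218 IH) (Lpe (K31.f226215 IH) (Lpe (f226216 IH) (Lpn (LP (LK LD1_c16 LD2_c43 LD3_c50))))))))))))
theorem f621066 : Led Lsl_gf (LP (LK LD1_c5 LD2_c32 LD3_c37)) = (LP (LK LD1_c10 LD2_c56 LD3_c55)) :=
  Lgr Lrot147 (Lpr_ct (K12.f175184 IH) (Lpr_gt (K12.f174380 IH) (Lpr_ct (K24.f168107 IH) (Lpe (K30.f168102 IH) (Lpe (f234965 IH) (Lpe (f258624 IH) (Lpr_cf (f621060 IH) (Lpe (f281525 IH) (Lpe (f281524 IH) (Lpn (LP (LK LD1_c10 LD2_c56 LD3_c55))))))))))))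
theorem f732711 : Led Lsl_cf (LP (LK LD1_c10 LD2_c56 LD3_c55)) = v15178 :=
  Lgr Lrot125 (Lpe (f621066 IH) (Lpe (f175220 IH) (Lpr_bt (f175219 IH) (Lpe (K31.f387695 IH) (Lpr_bf (K31.f332450 IH) (Lpe (f401332 IH) (Lpr_gt (K41.f388009 IH) (Lpe (K22.f220937 IH) (Lpr_bt (f388927 IH) (Lpr_gt (f732709 IH) (Lpn v15178)))))))))))
theorem f175151 : Led Lsl_ct (LP (LK LD1_c10 LD2_c52 LD3_c41)) = (LP (LK LD1_c5 LD2_c30 LD3_c32)) :=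
  Lre_c IH (LK LD1_c10 LD2_c52 LD3_c41) (LK LD1_c5 LD2_c30 LD3_c32) Lrfl Lrfl
theorem f173464 : Led Lsl_ct (LP (LK LD1_c16 LD2_c43 LD3_c53)) = (LP (LK LD1_c8 LD2_c56 LD3_c18)) :=
  Lre_c IH (LK LD1_c16 LD2_c43 LD3_c53) (LK LD1_c8 LD2_c56 LD3_c18) Lrfl Lrfl
def v15007 : LQ := Led Lsl_at (LP (LK LD1_c5 LD2_c30 LD3_c31))
theorem f729581 : Led Lsl_at (LP (LK LD1_c5 LD2_c30 LD3_c31)) = v15007 :=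
  Lrfl
theorem f729582 : Led Lsl_af (LP (LK LD1_c5 LD2_c30 LD3_c31)) = v15007 :=
  Lgr Lrot0 (Lpr_at (f729581 IH) (Lpn v15007))
theorem f175125 : Led Lsl_bt (LP (LK LD1_c5 LD2_c30 LD3_c31)) = (LP (LK LD1_c10 LD2_c52 LD3_c37)) :=
  Lre_b IH (LK LD1_c5 LD2_c30 LD3_c31) (LK LD1_c10 LD2_c52 LD3_c37) Lrfl Lrfl
theorem f399845 : Led Lsl_dt (LP (LK LD1_c2 LD2_c42 LD3_c27)) = (LP (LK LD1_c5 LD2_c30 LD3_c31)) :=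
  Lgr Lrot79 (Lpe (K24.f281528 IH) (Lpr_df (K40.f399841 IH) (Lpe (f175125 IH) (Lpn (LP (LK LD1_c5 LD2_c30 LD3_c31))))))
theorem f729583 : Led Lsl_df v4674 = v15007 :=
  Lgr Lrot18 (Lpe (f638438 IH) (Lpr_dt (f399845 IH) (Lpr_at (f729581 IH) (Lpn v15007))))
theorem f729585 : Led Lsl_ft (LP (LK LD1_c5 LD2_c30 LD3_c32)) = v15007 :=
  Lgr Lrot54 (Lpe (K30.f175178 IH) (Lpr_ff (f638440 IH) (Lpr_df (f729583 IH) (Lpn v15007))))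
theorem f729588 : Led Lsl_af (LP (LK LD1_c5 LD2_c30 LD3_c32)) = v15008 :=
  Lgr Lrot45 (Lpr_ft (f729585 IH) (Lpe (f729582 IH) (Lpr_ft (f729587 IH) (Lpn v15008))))
theorem f175167 : Led Lsl_ct (LP (LK LD1_c5 LD2_c30 LD3_c32)) = (LP (LK LD1_c10 LD2_c52 LD3_c41)) :=
  Lre_c IH (LK LD1_c5 LD2_c30 LD3_c32) (LK LD1_c10 LD2_c52 LD3_c41) Lrfl Lrfl
theorem f732414 : Led Lsl_af (LP (LK LD1_c16 LD2_c43 LD3_c53)) = (LP (LK LD1_c10 LD2_c52 LD3_c41)) :=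
  Lgr Lrot68 (Lpr_ct (f173464 IH) (Lpq (f731799 IH) (Lpe (f729588 IH) (Lpr_ct (f175167 IH) (Lpn (LP (LK LD1_c10 LD2_c52 LD3_c41)))))))
theorem f732416 : Led Lsl_at (LP (LK LD1_c16 LD2_c43 LD3_c53)) = (LP (LK LD1_c10 LD2_c52 LD3_c41)) :=
  Lgr Lrot100 (Lpr_af (f732414 IH) (Lpn (LP (LK LD1_c10 LD2_c52 LD3_c41))))
theorem f175112 : Led Lsl_ct (LP (LK LD1_c10 LD2_c52 LD3_c38)) = (LP (LK LD1_c5 LD2_c30 LD3_c31)) :=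
  Lre_c IH (LK LD1_c10 LD2_c52 LD3_c38) (LK LD1_c5 LD2_c30 LD3_c31) Lrfl Lrfl
theorem f731806 : Led Lsl_ff (LP (LK LD1_c10 LD2_c52 LD3_c38)) = (LP (LK LD1_c16 LD2_c43 LD3_c53)) :=
  Lgr Lrot23 (Lpr_ct (f175112 IH) (Lpr_ft (f729587 IH) (Lpqs (f731799 IH) (Lpr_ct (K27.f173406 IH) (Lpn (LP (LK LD1_c16 LD2_c43 LD3_c53)))))))
theorem f731809 : Led Lsl_ft (LP (LK LD1_c10 LD2_c52 LD3_c38)) = (LP (LK LD1_c16 LD2_c43 LD3_c53)) :=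
  Lgr Lrot48 (Lpr_ff (f731806 IH) (Lpn (LP (LK LD1_c16 LD2_c43 LD3_c53))))
theorem f732422 : Led Lsl_gt (LP (LK LD1_c11 LD2_c21 LD3_c39)) = (LP (LK LD1_c10 LD2_c52 LD3_c41)) :=
  Lgr Lrot46 (Lpr_gf (K27.f175106 IH) (Lpr_ft (f731809 IH) (Lpr_at (f732416 IH) (Lpn (LP (LK LD1_c10 LD2_c52 LD3_c41))))))
theorem f389320 : Led Lsl_dt (LP (LK LD1_c10 LD2_c58 LD3_c46)) = (LP (LK LD1_c5 LD2_c33 LD3_c25)) :=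
  Lre_d IH (LK LD1_c10 LD2_c58 LD3_c46) (LK LD1_c5 LD2_c33 LD3_c25) Lrfl Lrfl
theorem f732713 : Led Lsl_gf (LP (LK LD1_c5 LD2_c45 LD3_c36)) = (LP (LK LD1_c10 LD2_c58 LD3_c46)) :=
  Lgr Lrot147 (Lpr_ct (K27.f175104 IH) (Lpr_gt (f732422 IH) (Lpr_ct (f175151 IH) (Lpe (K30.f175178 IH) (Lpe (K12.f175184 IH) (Lpr_gf (f621066 IH) (Lpr_cf (f732711 IH) (Lpe (f732709 IH) (Lpe (f389320 IH) (Lpn (LP (LK LD1_c10 LD2_c58 LD3_c46))))))))))))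
theorem f732714 : Led Lsl_gt (LP (LK LD1_c10 LD2_c58 LD3_c46)) = (LP (LK LD1_c5 LD2_c45 LD3_c36)) :=
  Leop (Lpr_gf (f732713 IH) (Lpn (LP (LK LD1_c10 LD2_c58 LD3_c46))))
theorem seed_886 : LEOK LG_g (LK LD1_c10 LD2_c58 LD3_c46) :=
  Leoe_g (LK LD1_c10 LD2_c58 LD3_c46) (f732714 IH)
theorem f732712 : Led Lsl_ct (LP (LK LD1_c10 LD2_c56 LD3_c55)) = v15178 :=
  Lgr Lrot59 (Lpr_cf (f732711 IH) (Lpn v15178))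
theorem f387534 : Led Lsl_bt (LP (LK LD1_c10 LD2_c56 LD3_c57)) = (LP (LK LD1_c5 LD2_c32 LD3_c35)) :=
  Lre_b IH (LK LD1_c10 LD2_c56 LD3_c57) (LK LD1_c5 LD2_c32 LD3_c35) Lrfl Lrfl
theorem f213401 : Led Lsl_ct (LP (LK LD1_c10 LD2_c56 LD3_c57)) = (LP (LK LD1_c10 LD2_c57 LD3_c59)) :=
  Lre_c IH (LK LD1_c10 LD2_c56 LD3_c57) (LK LD1_c10 LD2_c57 LD3_c59) Lrfl Lrfl
theorem f213404 : Led Lsl_gt (LP (LK LD1_c19 LD2_c48 LD3_c10)) = (LP (LK LD1_c10 LD2_c57 LD3_c59)) :=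
  Lre_g IH (LK LD1_c19 LD2_c48 LD3_c10) (LK LD1_c10 LD2_c57 LD3_c59) Lrfl Lrfl
theorem f398968 : Led Lsl_df (LP (LK LD1_c25 LD2_c55 LD3_c55)) = (LP (LK LD1_c19 LD2_c36 LD3_c46)) :=
  Lgr Lrot162 (Lpr_cf (K31.f398960 IH) (Lpr_gf (K38.f398956 IH) (Lpe (K30.f254797 IH) (Lpe (K30.f396901 IH) (Lpe (K22.f234767 IH) (Lpr_gt (K30.f234789 IH) (Lpr_ct (K30.f234792 IH) (Lpe (K30.f382936 IH) (Lpr_ct (K30.f382912 IH) (Lpn (LP (LK LD1_c19 LD2_c36 LD3_c46))))))))))))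
theorem f382934 : Led Lsl_bt (LP (LK LD1_c10 LD2_c50 LD3_c61)) = (LP (LK LD1_c19 LD2_c36 LD3_c46)) :=
  Lre_b IH (LK LD1_c10 LD2_c50 LD3_c61) (LK LD1_c19 LD2_c36 LD3_c46) Lrfl Lrfl
theorem f375675 : Led Lsl_dt (LP (LK LD1_c19 LD2_c36 LD3_c48)) = (LP (LK LD1_c10 LD2_c50 LD3_c61)) :=
  Lre_d IH (LK LD1_c19 LD2_c36 LD3_c48) (LK LD1_c10 LD2_c50 LD3_c61) Lrfl Lrfl
theorem f398970 : Led Lsl_bt (LP (LK LD1_c25 LD2_c55 LD3_c55)) = (LP (LK LD1_c19 LD2_c36 LD3_c48)) :=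
  Lgr Lrot95 (Lpr_df (f398968 IH) (Lpe (f382934 IH) (Lpe (f375675 IH) (Lpn (LP (LK LD1_c19 LD2_c36 LD3_c48))))))
theorem f222507 : Led Lsl_bt (LP (LK LD1_c5 LD2_c30 LD3_c3)) = (LP (LK LD1_c10 LD2_c51 LD3_c28)) :=
  Lre_b IH (LK LD1_c5 LD2_c30 LD3_c3) (LK LD1_c10 LD2_c51 LD3_c28) Lrfl Lrfl
theorem f398976 : Led Lsl_gf (LP (LK LD1_c10 LD2_c51 LD3_c28)) = (LP (LK LD1_c19 LD2_c36 LD3_c48)) :=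
  Lgr Lrot124 (Lpe (f222507 IH) (Lpe (K14.f222510 IH) (Lpr_gt (K12.f222252 IH) (Lpr_cf (K13.f222974 IH) (Lpr_bt (K22.f222977 IH) (Lpr_gt (K30.f396901 IH) (Lpr_ct (K30.f254797 IH) (Lpe (K38.f398956 IH) (Lpe (K31.f398964 IH) (Lpr_bt (f398970 IH) (Lpn (LP (LK LD1_c19 LD2_c36 LD3_c48)))))))))))))
theorem f222508 : Led Lsl_df (LP (LK LD1_c5 LD2_c32 LD3_c14)) = (LP (LK LD1_c10 LD2_c51 LD3_c28)) :=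
  Lgr Lrot12 (Lpr_bt (K16.f216935 IH) (Lpr_dt (K12.f222502 IH) (Lpr_bt (f222507 IH) (Lpn (LP (LK LD1_c10 LD2_c51 LD3_c28))))))
theorem f292443 : Led Lsl_bt (LP (LK LD1_c8 LD2_c53 LD3_c42)) = (LP (LK LD1_c16 LD2_c38 LD3_c6)) :=
  Lre_b IH (LK LD1_c8 LD2_c53 LD3_c42) (LK LD1_c16 LD2_c38 LD3_c6) Lrfl Lrfl
theorem f292459 : Led Lsl_df (LP (LK LD1_c8 LD2_c54 LD3_c16)) = (LP (LK LD1_c16 LD2_c38 LD3_c6)) :=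
  Lgr Lrot12 (Lpr_bt (K31.f223489 IH) (Lpr_dt (K17.f292454 IH) (Lpr_bt (f292443 IH) (Lpn (LP (LK LD1_c16 LD2_c38 LD3_c6))))))
theorem f375676 : Led Lsl_dt (LP (LK LD1_c10 LD2_c50 LD3_c61)) = (LP (LK LD1_c19 LD2_c36 LD3_c48)) :=
  Lre_d IH (LK LD1_c10 LD2_c50 LD3_c61) (LK LD1_c19 LD2_c36 LD3_c48) Lrfl Lrfl
theorem f254854 : Led Lsl_cf (LP (LK LD1_c25 LD2_c7 LD3_c58)) = (LP (LK LD1_c16 LD2_c43 LD3_c0)) :=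
  Lgr Lrot1 (Lpr_at (K30.f254852 IH) (Lpr_ct (K14.f254850 IH) (Lpr_at (K30.f254853 IH) (Lpn (LP (LK LD1_c16 LD2_c43 LD3_c0))))))
theorem f375677 : Led Lsl_gt (LP (LK LD1_c16 LD2_c37 LD3_c43)) = (LP (LK LD1_c8 LD2_c53 LD3_c33)) :=
  Lre_g IH (LK LD1_c16 LD2_c37 LD3_c43) (LK LD1_c8 LD2_c53 LD3_c33) Lrfl Lrfl
theorem f375740 : Led Lsl_gt (LP (LK LD1_c25 LD2_c7 LD3_c58)) = (LP (LK LD1_c16 LD2_c37 LD3_c43)) :=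
  Lgr Lrot5 (Lpr_ft (K31.f375736 IH) (Lpr_at (K30.f333975 IH) (Lpe (f375677 IH) (Lpn (LP (LK LD1_c16 LD2_c37 LD3_c43))))))
theorem f375685 : Led Lsl_dt (LP (LK LD1_c16 LD2_c37 LD3_c43)) = (LP (LK LD1_c26 LD2_c35 LD3_c9)) :=
  Lre_d IH (LK LD1_c16 LD2_c37 LD3_c43) (LK LD1_c26 LD2_c35 LD3_c9) Lrfl Lrfl
theorem f398979 : Led Lsl_gf (LP (LK LD1_c16 LD2_c38 LD3_c6)) = (LP (LK LD1_c26 LD2_c35 LD3_c9)) :=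
  Lgr Lrot154 (Lpe (f292459 IH) (Lpr_ct (K31.f223368 IH) (Lpr_df (f222508 IH) (Lpr_gf (f398976 IH) (Lpe (f375676 IH) (Lpe (K30.f375897 IH) (Lpe (f254854 IH) (Lpr_gt (f375740 IH) (Lpr_dt (f375685 IH) (Lpn (LP (LK LD1_c26 LD2_c35 LD3_c9))))))))))))
theorem f398981 : Led Lsl_cf (LP (LK LD1_c8 LD2_c54 LD3_c16)) = (LP (LK LD1_c5 LD2_c32 LD3_c14)) :=
  Lgr Lrot14 (Lpr_df (f292459 IH) (Lpr_gf (f398979 IH) (Lpe (f375685 IH) (Lpe (f375740 IH) (Lpr_ct (K30.f375734 IH) (Lpr_gt (K30.f375897 IH) (Lpr_dt (f375676 IH) (Lpe (f398976 IH) (Lpe (f222508 IH) (Lpn (LP (LK LD1_c5 LD2_c32 LD3_c14))))))))))))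
theorem f223378 : Led Lsl_gt (LP (LK LD1_c8 LD2_c54 LD3_c16)) = (LP (LK LD1_c16 LD2_c39 LD3_c25)) :=
  Lre_g IH (LK LD1_c8 LD2_c54 LD3_c16) (LK LD1_c16 LD2_c39 LD3_c25) Lrfl Lrfl
theorem f621068 : Led Lsl_bt (LP (LK LD1_c19 LD2_c46 LD3_c34)) = (LP (LK LD1_c10 LD2_c56 LD3_c55)) :=
  Lre_b IH (LK LD1_c19 LD2_c46 LD3_c34) (LK LD1_c10 LD2_c56 LD3_c55) Lrfl Lrfl
theorem f621069 : Led Lsl_cf (LP (LK LD1_c16 LD2_c39 LD3_c25)) = (LP (LK LD1_c19 LD2_c46 LD3_c34)) :=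
  Lgr Lrot58 (Lpe (f223378 IH) (Lpr_cf (f398981 IH) (Lpr_bt (K16.f216935 IH) (Lpe (K12.f168084 IH) (Lpe (K12.f213386 IH) (Lpr_ct (K12.f168101 IH) (Lpe (K12.f174380 IH) (Lpe (K12.f175184 IH) (Lpr_gf (f621066 IH) (Lpe (f621068 IH) (Lpn (LP (LK LD1_c19 LD2_c46 LD3_c34)))))))))))))
theorem f267326 : Led Lsl_ft (LP (LK LD1_c8 LD2_c54 LD3_c16)) = (LP (LK LD1_c15 LD2_c19 LD3_c7)) :=
  Lgr Lrot75 (Lpe (K31.f223367 IH) (Lpr_ff (K15.f267321 IH) (Lpe (K31.f220807 IH) (Lpn (LP (LK LD1_c15 LD2_c19 LD3_c7))))))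
theorem f292544 : Led Lsl_at (LP (LK LD1_c15 LD2_c19 LD3_c7)) = (LP (LK LD1_c25 LD2_c10 LD3_c5)) :=
  Lre_a IH (LK LD1_c15 LD2_c19 LD3_c7) (LK LD1_c25 LD2_c10 LD3_c5) Lrfl Lrfl
theorem f412592 : Led Lsl_gt (LP (LK LD1_c16 LD2_c39 LD3_c25)) = (LP (LK LD1_c25 LD2_c10 LD3_c5)) :=
  Lgr Lrot46 (Lpe (f223378 IH) (Lpr_ft (f267326 IH) (Lpr_at (f292544 IH) (Lpn (LP (LK LD1_c25 LD2_c10 LD3_c5))))))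
theorem f212689 : Led Lsl_ct (LP (LK LD1_c9 LD2_c0 LD3_c31)) = (LP (LK LD1_c4 LD2_c31 LD3_c17)) :=
  Lre_c IH (LK LD1_c9 LD2_c0 LD3_c31) (LK LD1_c4 LD2_c31 LD3_c17) Lrfl Lrfl
theorem f212677 : Led Lsl_bt (LP (LK LD1_c16 LD2_c49 LD3_c54)) = (LP (LK LD1_c9 LD2_c0 LD3_c31)) :=
  Lre_b IH (LK LD1_c16 LD2_c49 LD3_c54) (LK LD1_c9 LD2_c0 LD3_c31) Lrfl Lrfl
theorem f292567 : Led Lsl_bt (LP (LK LD1_c8 LD2_c54 LD3_c15)) = (LP (LK LD1_c16 LD2_c39 LD3_c23)) :=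
  Lre_b IH (LK LD1_c8 LD2_c54 LD3_c15) (LK LD1_c16 LD2_c39 LD3_c23) Lrfl Lrfl
theorem f292579 : Led Lsl_cf (LP (LK LD1_c16 LD2_c49 LD3_c54)) = (LP (LK LD1_c16 LD2_c39 LD3_c23)) :=
  Lgr Lrot97 (Lpr_bt (f212677 IH) (Lpr_ct (f212689 IH) (Lpr_bt (K20.f292519 IH) (Lpr_ct (K20.f292573 IH) (Lpr_bt (f292567 IH) (Lpn (LP (LK LD1_c16 LD2_c39 LD3_c23))))))))
theorem f212707 : Led Lsl_et (LP (LK LD1_c16 LD2_c49 LD3_c54)) = (LP (LK LD1_c9 LD2_c0 LD3_c29)) :=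
  Lre_e IH (LK LD1_c16 LD2_c49 LD3_c54) (LK LD1_c9 LD2_c0 LD3_c29) Lrfl Lrfl
theorem f292581 : Led Lsl_et (LP (LK LD1_c8 LD2_c54 LD3_c14)) = (LP (LK LD1_c16 LD2_c39 LD3_c23)) :=
  Lre_e IH (LK LD1_c8 LD2_c54 LD3_c14) (LK LD1_c16 LD2_c39 LD3_c23) Lrfl Lrfl
theorem f292582 : Led Lsl_ct (LP (LK LD1_c9 LD2_c0 LD3_c29)) = (LP (LK LD1_c8 LD2_c54 LD3_c14)) :=
  Lgr Lrot15 (Lpe (f212707 IH) (Lpr_cf (f292579 IH) (Lpe (f292581 IH) (Lpn (LP (LK LD1_c8 LD2_c54 LD3_c14))))))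
theorem f212731 : Led Lsl_at (LP (LK LD1_c16 LD2_c49 LD3_c52)) = (LP (LK LD1_c9 LD2_c0 LD3_c29)) :=
  Lre_a IH (LK LD1_c16 LD2_c49 LD3_c52) (LK LD1_c9 LD2_c0 LD3_c29) Lrfl Lrfl
theorem f292585 : Led Lsl_at (LP (LK LD1_c8 LD2_c54 LD3_c14)) = (LP (LK LD1_c16 LD2_c39 LD3_c22)) :=
  Lre_a IH (LK LD1_c8 LD2_c54 LD3_c14) (LK LD1_c16 LD2_c39 LD3_c22) Lrfl Lrfl
theorem f292586 : Led Lsl_cf (LP (LK LD1_c16 LD2_c49 LD3_c52)) = (LP (LK LD1_c16 LD2_c39 LD3_c22)) :=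
  Lgr Lrot1 (Lpr_at (f212731 IH) (Lpr_ct (f292582 IH) (Lpr_at (f292585 IH) (Lpn (LP (LK LD1_c16 LD2_c39 LD3_c22))))))
theorem f53674 : Led Lsl_at (LP (LK LD1_c5 LD2_c0 LD3_c43)) = (LP (LK LD1_c9 LD2_c51 LD3_c48)) :=
  Lre_a IH (LK LD1_c5 LD2_c0 LD3_c43) (LK LD1_c9 LD2_c51 LD3_c48) Lrfl Lrfl
theorem f53675 : Led Lsl_bf (LP (LK LD1_c9 LD2_c51 LD3_c37)) = (LP (LK LD1_c9 LD2_c51 LD3_c48)) :=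
  Lgr Lrot81 (Lpr_at (K16.f53672 IH) (Lpr_bt (K16.f53671 IH) (Lpr_at (K12.f53665 IH) (Lpr_bt (K14.f53673 IH) (Lpr_at (f53674 IH) (Lpn (LP (LK LD1_c9 LD2_c51 LD3_c48))))))))
theorem f53712 : Led Lsl_bt (LP (LK LD1_c9 LD2_c51 LD3_c37)) = (LP (LK LD1_c9 LD2_c51 LD3_c48)) :=
  Lgr Lrot127 (Lpr_bf (f53675 IH) (Lpn (LP (LK LD1_c9 LD2_c51 LD3_c48))))
theorem f53720 : Led Lsl_bt (LP (LK LD1_c5 LD2_c0 LD3_c43)) = (LP (LK LD1_c2 LD2_c28 LD3_c6)) :=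
  Lre_b IH (LK LD1_c5 LD2_c0 LD3_c43) (LK LD1_c2 LD2_c28 LD3_c6) Lrfl Lrfl
theorem f212667 : Led Lsl_bt (LP (LK LD1_c4 LD2_c31 LD3_c16)) = (LP (LK LD1_c9 LD2_c0 LD3_c29)) :=
  Lre_b IH (LK LD1_c4 LD2_c31 LD3_c16) (LK LD1_c9 LD2_c0 LD3_c29) Lrfl Lrfl
theorem f212668 : Led Lsl_ff (LP (LK LD1_c5 LD2_c0 LD3_c43)) = (LP (LK LD1_c9 LD2_c0 LD3_c29)) :=
  Lgr Lrot25 (Lpr_bt (f53720 IH) (Lpr_ft (K12.f212657 IH) (Lpr_bt (f212667 IH) (Lpn (LP (LK LD1_c9 LD2_c0 LD3_c29))))))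
theorem f212732 : Led Lsl_ft (LP (LK LD1_c9 LD2_c51 LD3_c48)) = (LP (LK LD1_c16 LD2_c49 LD3_c52)) :=
  Lgr Lrot101 (Lpe (f53674 IH) (Lpr_ff (f212668 IH) (Lpe (f212731 IH) (Lpn (LP (LK LD1_c16 LD2_c49 LD3_c52))))))
theorem f213424 : Led Lsl_bt (LP (LK LD1_c16 LD2_c49 LD3_c52)) = (LP (LK LD1_c11 LD2_c2 LD3_c37)) :=
  Lgr Lrot35 (Lpe (f212732 IH) (Lpe (f53712 IH) (Lpr_ff (K16.f213416 IH) (Lpn (LP (LK LD1_c11 LD2_c2 LD3_c37))))))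
theorem f235072 : Led Lsl_ff (LP (LK LD1_c10 LD2_c56 LD3_c10)) = (LP (LK LD1_c16 LD2_c45 LD3_c29)) :=
  Lgr Lrot3 (Lpr_ft (K31.f235020 IH) (Lpn (LP (LK LD1_c16 LD2_c45 LD3_c29))))
theorem f235025 : Led Lsl_bt (LP (LK LD1_c10 LD2_c56 LD3_c7)) = (LP (LK LD1_c16 LD2_c45 LD3_c29)) :=
  Lgr Lrot127 (Lpr_bf (K16.f235022 IH) (Lpn (LP (LK LD1_c16 LD2_c45 LD3_c29))))
theorem f235032 : Led Lsl_ff (LP (LK LD1_c10 LD2_c56 LD3_c7)) = (LP (LK LD1_c16 LD2_c45 LD3_c24)) :=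
  Lgr Lrot3 (Lpr_ft (K31.f235029 IH) (Lpn (LP (LK LD1_c16 LD2_c45 LD3_c24))))
theorem f235077 : Led Lsl_bt (LP (LK LD1_c10 LD2_c56 LD3_c10)) = (LP (LK LD1_c16 LD2_c45 LD3_c24)) :=
  Lgr Lrot35 (Lpr_ff (f235072 IH) (Lpe (f235025 IH) (Lpr_ff (f235032 IH) (Lpn (LP (LK LD1_c16 LD2_c45 LD3_c24))))))
theorem f276484 : Led Lsl_bt (LP (LK LD1_c8 LD2_c54 LD3_c14)) = (LP (LK LD1_c4 LD2_c28 LD3_c6)) :=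
  Lre_b IH (LK LD1_c8 LD2_c54 LD3_c14) (LK LD1_c4 LD2_c28 LD3_c6) Lrfl Lrfl
theorem f292545 : Led Lsl_at (LP (LK LD1_c16 LD2_c39 LD3_c22)) = (LP (LK LD1_c8 LD2_c54 LD3_c14)) :=
  Lre_a IH (LK LD1_c16 LD2_c39 LD3_c22) (LK LD1_c8 LD2_c54 LD3_c14) Lrfl Lrfl
theorem f292546 : Led Lsl_bt (LP (LK LD1_c25 LD2_c10 LD3_c5)) = (LP (LK LD1_c16 LD2_c39 LD3_c22)) :=
  Lgr Lrot62 (Lpe (f292544 IH) (Lpe (K31.f220813 IH) (Lpr_af (K17.f292538 IH) (Lpe (f276484 IH) (Lpe (f292545 IH) (Lpn (LP (LK LD1_c16 LD2_c39 LD3_c22))))))))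
theorem f292590 : Led Lsl_ct (LP (LK LD1_c16 LD2_c45 LD3_c24)) = (LP (LK LD1_c25 LD2_c10 LD3_c5)) :=
  Lgr Lrot83 (Lpe (f235077 IH) (Lpe (K31.f213133 IH) (Lpe (f213424 IH) (Lpr_cf (f292586 IH) (Lpe (f292546 IH) (Lpn (LP (LK LD1_c25 LD2_c10 LD3_c5))))))))
theorem f235004 : Led Lsl_gt (LP (LK LD1_c16 LD2_c45 LD3_c28)) = (LP (LK LD1_c8 LD2_c57 LD3_c1)) :=
  Lre_g IH (LK LD1_c16 LD2_c45 LD3_c28) (LK LD1_c8 LD2_c57 LD3_c1) Lrfl Lrfl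
theorem f235074 : Led Lsl_gt (LP (LK LD1_c10 LD2_c56 LD3_c10)) = (LP (LK LD1_c16 LD2_c45 LD3_c28)) :=
  Lgr Lrot5 (Lpr_ft (K31.f235020 IH) (Lpr_at (K16.f235008 IH) (Lpe (f235004 IH) (Lpn (LP (LK LD1_c16 LD2_c45 LD3_c28))))))
theorem f621080 : Led Lsl_ct (LP (LK LD1_c16 LD2_c45 LD3_c28)) = (LP (LK LD1_c19 LD2_c48 LD3_c10)) :=
  Lgr Lrot91 (Lpe (f235074 IH) (Lpr_bf (K31.f234970 IH) (Lpr_ct (f292590 IH) (Lpe (f412592 IH) (Lpr_cf (f621069 IH) (Lpr_bt (f621068 IH) (Lpe (f281523 IH) (Lpe (f387534 IH) (Lpr_ct (f213401 IH) (Lpe (f213404 IH) (Lpn (LP (LK LD1_c19 LD2_c48 LD3_c10)))))))))))))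
theorem f621084 : Led Lsl_bt (LP (LK LD1_c16 LD2_c45 LD3_c28)) = (LP (LK LD1_c26 LD2_c44 LD3_c18)) :=
  Lre_b IH (LK LD1_c16 LD2_c45 LD3_c28) (LK LD1_c26 LD2_c44 LD3_c18) Lrfl Lrfl
theorem f404212 : Led Lsl_dt (LP (LK LD1_c5 LD2_c32 LD3_c17)) = (LP (LK LD1_c10 LD2_c51 LD3_c20)) :=
  Lgr Lrot42 (Lpr_df (f404207 IH) (Lpn (LP (LK LD1_c10 LD2_c51 LD3_c20))))
theorem f404217 : Led Lsl_af (LP (LK LD1_c5 LD2_c32 LD3_c17)) = (LP (LK LD1_c8 LD2_c57 LD3_c3)) :=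
  Lgr Lrot117 (Lpr_dt (f404212 IH) (Lpe (f404203 IH) (Lpe (f391364 IH) (Lpn (LP (LK LD1_c8 LD2_c57 LD3_c3))))))
theorem f388935 : Led Lsl_ct (LP (LK LD1_c15 LD2_c54 LD3_c32)) = (LP (LK LD1_c18 LD2_c2 LD3_c55)) :=
  Lgr Lrot59 (Lpr_cf (K30.f388928 IH) (Lpn (LP (LK LD1_c18 LD2_c2 LD3_c55))))
theorem f389310 : Led Lsl_gf (LP (LK LD1_c4 LD2_c30 LD3_c6)) = (LP (LK LD1_c2 LD2_c42 LD3_c51)) :=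
  Lgr Lrot126 (Lpe (K30.f319638 IH) (Lpr_bt (K31.f387867 IH) (Lpr_gt (K31.f387882 IH) (Lpr_ct (K31.f387880 IH) (Lpr_gt (K31.f389308 IH) (Lpe (f388935 IH) (Lpe (K30.f388616 IH) (Lpr_gt (K30.f220933 IH) (Lpe (K30.f220927 IH) (Lpr_ct (K30.f220926 IH) (Lpn (LP (LK LD1_c2 LD2_c42 LD3_c51)))))))))))))
theorem f389314 : Led Lsl_bt (LP (LK LD1_c5 LD2_c33 LD3_c25)) = (LP (LK LD1_c2 LD2_c42 LD3_c51)) :=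
  Lre_b IH (LK LD1_c5 LD2_c33 LD3_c25) (LK LD1_c2 LD2_c42 LD3_c51) Lrfl Lrfl
theorem f389315 : Led Lsl_cf (LP (LK LD1_c8 LD2_c57 LD3_c3)) = (LP (LK LD1_c5 LD2_c33 LD3_c25)) :=
  Lgr Lrot58 (Lpe (f281138 IH) (Lpe (K20.f213345 IH) (Lpr_bt (K41.f280659 IH) (Lpe (K24.f281578 IH) (Lpe (K24.f281580 IH) (Lpr_ct (K22.f218378 IH) (Lpr_gf (K24.f379799 IH) (Lpe (K24.f379797 IH) (Lpr_gf (f389310 IH) (Lpe (f389314 IH) (Lpn (LP (LK LD1_c5 LD2_c33 LD3_c25)))))))))))))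
theorem f404229 : Led Lsl_at (LP (LK LD1_c8 LD2_c59 LD3_c8)) = (LP (LK LD1_c5 LD2_c33 LD3_c25)) :=
  Lgr Lrot107 (Lpe (f281635 IH) (Lpr_af (f404217 IH) (Lpr_cf (f389315 IH) (Lpn (LP (LK LD1_c5 LD2_c33 LD3_c25))))))
theorem f404233 : Led Lsl_ff (LP (LK LD1_c8 LD2_c58 LD3_c14)) = (LP (LK LD1_c5 LD2_c33 LD3_c25)) :=
  Lgr Lrot30 (Lpe (K41.f403834 IH) (Lpr_ft (K41.f403823 IH) (Lpr_at (f404229 IH) (Lpn (LP (LK LD1_c5 LD2_c33 LD3_c25))))))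
theorem f732710 : Led Lsl_gf (LP (LK LD1_c16 LD2_c45 LD3_c31)) = v15178 :=
  Lgr Lrot76 (Lpr_af (K41.f403834 IH) (Lpr_ff (f404233 IH) (Lpr_gt (f732709 IH) (Lpn v15178))))
theorem f218741 : Led Lsl_bt (LP (LK LD1_c8 LD2_c57 LD3_c2)) = (LP (LK LD1_c16 LD2_c45 LD3_c30)) :=
  Lre_b IH (LK LD1_c8 LD2_c57 LD3_c2) (LK LD1_c16 LD2_c45 LD3_c30) Lrfl Lrfl
theorem f732717 : Led Lsl_gf (LP (LK LD1_c26 LD2_c44 LD3_c18)) = (LP (LK LD1_c16 LD2_c45 LD3_c30)) :=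
  Lgr Lrot124 (Lpe (f621084 IH) (Lpr_ct (f621080 IH) (Lpr_gt (f213404 IH) (Lpe (f213401 IH) (Lpr_bt (f387534 IH) (Lpr_gt (f281523 IH) (Lpr_ct (f732712 IH) (Lpe (f732710 IH) (Lpe (K41.f218734 IH) (Lpr_bt (f218741 IH) (Lpn (LP (LK LD1_c16 LD2_c45 LD3_c30)))))))))))))
theorem f732718 : Led Lsl_gt (LP (LK LD1_c16 LD2_c45 LD3_c30)) = (LP (LK LD1_c26 LD2_c44 LD3_c18)) :=
  Leop (Lpr_gf (f732717 IH) (Lpn (LP (LK LD1_c16 LD2_c45 LD3_c30))))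
theorem seed_887 : LEOK LG_g (LK LD1_c16 LD2_c45 LD3_c30) :=
  Leoe_g (LK LD1_c16 LD2_c45 LD3_c30) (f732718 IH)
def v15179 : LQ := Led Lsl_gf (LP (LK LD1_c5 LD2_c33 LD3_c25))
theorem f732722 : Led Lsl_gf (LP (LK LD1_c5 LD2_c33 LD3_c25)) = v15179 :=
  Lrfl
theorem f389318 : Led Lsl_ct (LP (LK LD1_c8 LD2_c57 LD3_c3)) = (LP (LK LD1_c5 LD2_c33 LD3_c25)) :=
  Lgr Lrot59 (Lpr_cf (f389315 IH) (Lpn (LP (LK LD1_c5 LD2_c33 LD3_c25))))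
theorem f332538 : Led Lsl_bt (LP (LK LD1_c10 LD2_c58 LD3_c49)) = (LP (LK LD1_c5 LD2_c33 LD3_c26)) :=
  Lre_b IH (LK LD1_c10 LD2_c58 LD3_c49) (LK LD1_c5 LD2_c33 LD3_c26) Lrfl Lrfl
theorem f389855 : Led Lsl_bf (LP (LK LD1_c15 LD2_c21 LD3_c4)) = (LP (LK LD1_c8 LD2_c57 LD3_c3)) :=
  Lgr Lrot90 (Lpr_ct (f389851 IH) (Lpr_bt (f332538 IH) (Lpr_ct (K30.f220926 IH) (Lpr_bt (f388927 IH) (Lpe (f389315 IH) (Lpn (LP (LK LD1_c8 LD2_c57 LD3_c3))))))))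
theorem f49398 : Led Lsl_at (LP (LK LD1_c10 LD2_c23 LD3_c31)) = (LP (LK LD1_c5 LD2_c16 LD3_c58)) :=
  Lre_a IH (LK LD1_c10 LD2_c23 LD3_c31) (LK LD1_c5 LD2_c16 LD3_c58) Lrfl Lrfl
theorem f49306 : Led Lsl_gt (LP (LK LD1_c10 LD2_c23 LD3_c30)) = (LP (LK LD1_c5 LD2_c16 LD3_c58)) :=
  Lre_g IH (LK LD1_c10 LD2_c23 LD3_c30) (LK LD1_c5 LD2_c16 LD3_c58) Lrfl Lrfl
theorem f217266 : Led Lsl_gf (LP (LK LD1_c10 LD2_c23 LD3_c30)) = (LP (LK LD1_c10 LD2_c49 LD3_c57)) :=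
  Lgr Lrot47 (Lpr_gt (f49306 IH) (Lpe (f49398 IH) (Lpr_ff (K27.f217230 IH) (Lpn (LP (LK LD1_c10 LD2_c49 LD3_c57))))))
theorem f389321 : Led Lsl_dt (LP (LK LD1_c5 LD2_c33 LD3_c25)) = (LP (LK LD1_c10 LD2_c58 LD3_c46)) :=
  Lre_d IH (LK LD1_c5 LD2_c33 LD3_c25) (LK LD1_c10 LD2_c58 LD3_c46) Lrfl Lrfl
theorem f175115 : Led Lsl_dt (LP (LK LD1_c1 LD2_c17 LD3_c25)) = (LP (LK LD1_c2 LD2_c41 LD3_c30)) :=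
  Lre_d IH (LK LD1_c1 LD2_c17 LD3_c25) (LK LD1_c2 LD2_c41 LD3_c30) Lrfl Lrfl
theorem f179147 : Led Lsl_dt (LP (LK LD1_c5 LD2_c45 LD3_c36)) = (LP (LK LD1_c10 LD2_c47 LD3_c61)) :=
  Lgr Lrot27 (Lpe (K27.f175113 IH) (Lpr_gf (K27.f175106 IH) (Lpe (K27.f175105 IH) (Lpe (K27.f175098 IH) (Lpe (f175115 IH) (Lpr_gt (K27.f175116 IH) (Lpr_ct (K27.f175117 IH) (Lpr_gt (K27.f175118 IH) (Lpr_ct (K27.f179138 IH) (Lpn (LP (LK LD1_c10 LD2_c47 LD3_c61))))))))))))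
theorem f731867 : Led Lsl_ff (LP (LK LD1_c5 LD2_c33 LD3_c2)) = (LP (LK LD1_c8 LD2_c58 LD3_c44)) :=
  Lgr Lrot3 (Lpr_ft (f731857 IH) (Lpn (LP (LK LD1_c8 LD2_c58 LD3_c44))))
theorem f393912 : Led Lsl_gf (LP (LK LD1_c19 LD2_c17 LD3_c5)) = (LP (LK LD1_c10 LD2_c41 LD3_c11)) :=
  Lgr Lrot76 (Lpr_af (K47.f297382 IH) (Lpe (K47.f374561 IH) (Lpr_gt (K41.f393910 IH) (Lpn (LP (LK LD1_c10 LD2_c41 LD3_c11))))))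
theorem f393923 : Led Lsl_gt (LP (LK LD1_c5 LD2_c24 LD3_c38)) = (LP (LK LD1_c10 LD2_c31 LD3_c32)) :=
  Lgr Lrot164 (Lpe (K41.f318248 IH) (Lpe (K41.f168715 IH) (Lpe (K45.f374587 IH) (Lpe (K18.f218692 IH) (Lpr_gf (f393912 IH) (Lpe (K22.f331838 IH) (Lpr_ct (f332240 IH) (Lpe (f332291 IH) (Lpr_cf (f387691 IH) (Lpr_bt (f392051 IH) (Lpn (LP (LK LD1_c10 LD2_c31 LD3_c32)))))))))))))
theorem f331700 : Led Lsl_gt (LP (LK LD1_c17 LD2_c48 LD3_c28)) = (LP (LK LD1_c9 LD2_c42 LD3_c47)) :=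
  Lgr Lrot5 (Lpr_ft (K22.f331681 IH) (Lpr_at (K22.f331572 IH) (Lpe (K41.f218660 IH) (Lpn (LP (LK LD1_c9 LD2_c42 LD3_c47))))))
theorem f331704 : Led Lsl_ct (LP (LK LD1_c17 LD2_c51 LD3_c45)) = (LP (LK LD1_c9 LD2_c42 LD3_c47)) :=
  Lre_c IH (LK LD1_c17 LD2_c51 LD3_c45) (LK LD1_c9 LD2_c42 LD3_c47) Lrfl Lrfl
theorem f345304 : Led Lsl_bf (LP (LK LD1_c5 LD2_c0 LD3_c42)) = (LP (LK LD1_c9 LD2_c42 LD3_c49)) :=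
  Lgr Lrot81 (Lpr_at (K23.f345302 IH) (Lpr_bt (K22.f235132 IH) (Lpr_at (K22.f235167 IH) (Lpr_bt (K41.f338077 IH) (Lpr_at (f338090 IH) (Lpn (LP (LK LD1_c9 LD2_c42 LD3_c49))))))))
theorem f388504 : Led Lsl_bf (LP (LK LD1_c15 LD2_c20 LD3_c47)) = (LP (LK LD1_c17 LD2_c51 LD3_c45)) :=
  Lgr Lrot34 (Lpe (K30.f52304 IH) (Lpr_bf (K30.f388498 IH) (Lpr_ct (K22.f235267 IH) (Lpe (K22.f316810 IH) (Lpe (K12.f199516 IH) (Lpe (K12.f213439 IH) (Lpr_bf (f345304 IH) (Lpr_ct (K25.f277386 IH) (Lpe (K41.f218660 IH) (Lpe (f331704 IH) (Lpn (LP (LK LD1_c17 LD2_c51 LD3_c45)))))))))))))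
theorem f389425 : Led Lsl_gt (LP (LK LD1_c2 LD2_c42 LD3_c42)) = (LP (LK LD1_c4 LD2_c30 LD3_c13)) :=
  Lgr Lrot65 (Lpe (K30.f319918 IH) (Lpr_bt (K30.f213543 IH) (Lpr_gf (K30.f387920 IH) (Lpr_bf (f388504 IH) (Lpr_ct (f331704 IH) (Lpe (f331700 IH) (Lpe (K41.f346095 IH) (Lpr_gf (K41.f389422 IH) (Lpe (K41.f389419 IH) (Lpr_ct (K41.f388283 IH) (Lpn (LP (LK LD1_c4 LD2_c30 LD3_c13)))))))))))))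
theorem f393925 : Led Lsl_gf (LP (LK LD1_c5 LD2_c32 LD3_c61)) = (LP (LK LD1_c8 LD2_c58 LD3_c44)) :=
  Lgr Lrot181 (Lpr_ct (K30.f319918 IH) (Lpr_gt (f389425 IH) (Lpe (K41.f388283 IH) (Lpr_bt (K41.f389419 IH) (Lpe (K41.f389422 IH) (Lpr_bf (K41.f346092 IH) (Lpr_ct (K45.f331655 IH) (Lpr_gt (f393923 IH) (Lpe (f235200 IH) (Lpr_bt (f235199 IH) (Lpn (LP (LK LD1_c8 LD2_c58 LD3_c44)))))))))))))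
theorem f732303 : Led Lsl_at (LP (LK LD1_c5 LD2_c33 LD3_c2)) = (LP (LK LD1_c8 LD2_c58 LD3_c45)) :=
  Lgr Lrot26 (Lpr_ff (f731867 IH) (Lpe (f393925 IH) (Lpe (K24.f379811 IH) (Lpn (LP (LK LD1_c8 LD2_c58 LD3_c45))))))
theorem f394050 : Led Lsl_et (LP (LK LD1_c10 LD2_c57 LD3_c58)) = (LP (LK LD1_c5 LD2_c33 LD3_c2)) :=
  Lre_e IH (LK LD1_c10 LD2_c57 LD3_c58) (LK LD1_c5 LD2_c33 LD3_c2) Lrfl Lrfl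
theorem f732307 : Led Lsl_et (LP (LK LD1_c8 LD2_c58 LD3_c45)) = (LP (LK LD1_c16 LD2_c47 LD3_c54)) :=
  Lre_e IH (LK LD1_c8 LD2_c58 LD3_c45) (LK LD1_c16 LD2_c47 LD3_c54) Lrfl Lrfl
theorem f732308 : Led Lsl_af (LP (LK LD1_c10 LD2_c57 LD3_c58)) = (LP (LK LD1_c16 LD2_c47 LD3_c54)) :=
  Lgr Lrot50 (Lpr_et (f394050 IH) (Lpr_at (f732303 IH) (Lpr_et (f732307 IH) (Lpn (LP (LK LD1_c16 LD2_c47 LD3_c54))))))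
theorem f732317 : Led Lsl_ct (LP (LK LD1_c10 LD2_c57 LD3_c58)) = (LP (LK LD1_c19 LD2_c48 LD3_c6)) :=
  Lre_c IH (LK LD1_c10 LD2_c57 LD3_c58) (LK LD1_c19 LD2_c48 LD3_c6) Lrfl Lrfl
theorem f732318 : Led Lsl_ct (LP (LK LD1_c16 LD2_c45 LD3_c59)) = (LP (LK LD1_c16 LD2_c47 LD3_c54)) :=
  Lre_c IH (LK LD1_c16 LD2_c45 LD3_c59) (LK LD1_c16 LD2_c47 LD3_c54) Lrfl Lrfl
theorem f732319 : Led Lsl_at (LP (LK LD1_c19 LD2_c48 LD3_c6)) = (LP (LK LD1_c16 LD2_c45 LD3_c59)) :=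
  Lgr Lrot107 (Lpe (f732317 IH) (Lpr_af (f732308 IH) (Lpe (f732318 IH) (Lpn (LP (LK LD1_c16 LD2_c45 LD3_c59))))))
theorem f732324 : Led Lsl_bt (LP (LK LD1_c19 LD2_c20 LD3_c57)) = (LP (LK LD1_c19 LD2_c48 LD3_c6)) :=
  Lre_b IH (LK LD1_c19 LD2_c20 LD3_c57) (LK LD1_c19 LD2_c48 LD3_c6) Lrfl Lrfl
theorem f175182 : Led Lsl_et (LP (LK LD1_c5 LD2_c32 LD3_c36)) = (LP (LK LD1_c10 LD2_c56 LD3_c59)) :=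
  Lre_e IH (LK LD1_c5 LD2_c32 LD3_c36) (LK LD1_c10 LD2_c56 LD3_c59) Lrfl Lrfl
theorem f386540 : Led Lsl_et (LP (LK LD1_c19 LD2_c20 LD3_c57)) = (LP (LK LD1_c10 LD2_c41 LD3_c19)) :=
  Lre_e IH (LK LD1_c19 LD2_c20 LD3_c57) (LK LD1_c10 LD2_c41 LD3_c19) Lrfl Lrfl
theorem f731754 : Led Lsl_at (LP (LK LD1_c10 LD2_c56 LD3_c59)) = (LP (LK LD1_c19 LD2_c20 LD3_c57)) :=
  Lgr Lrot80 (Lpe (f175182 IH) (Lpr_af (f731748 IH) (Lpe (f386540 IH) (Lpn (LP (LK LD1_c19 LD2_c20 LD3_c57))))))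
theorem f732325 : Led Lsl_bt (LP (LK LD1_c5 LD2_c32 LD3_c38)) = (LP (LK LD1_c10 LD2_c56 LD3_c59)) :=
  Lre_b IH (LK LD1_c5 LD2_c32 LD3_c38) (LK LD1_c10 LD2_c56 LD3_c59) Lrfl Lrfl
theorem f732326 : Led Lsl_bt (LP (LK LD1_c16 LD2_c45 LD3_c59)) = (LP (LK LD1_c8 LD2_c57 LD3_c21)) :=
  Lre_b IH (LK LD1_c16 LD2_c45 LD3_c59) (LK LD1_c8 LD2_c57 LD3_c21) Lrfl Lrfl
theorem f732327 : Led Lsl_af (LP (LK LD1_c5 LD2_c32 LD3_c38)) = (LP (LK LD1_c8 LD2_c57 LD3_c21)) :=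
  Lgr Lrot36 (Lpr_bt (f732325 IH) (Lpr_at (f731754 IH) (Lpr_bt (f732324 IH) (Lpr_at (f732319 IH) (Lpr_bt (f732326 IH) (Lpn (LP (LK LD1_c8 LD2_c57 LD3_c21))))))))
theorem f732332 : Led Lsl_ct (LP (LK LD1_c5 LD2_c32 LD3_c38)) = (LP (LK LD1_c10 LD2_c56 LD3_c61)) :=
  Lre_c IH (LK LD1_c5 LD2_c32 LD3_c38) (LK LD1_c10 LD2_c56 LD3_c61) Lrfl Lrfl
theorem f732333 : Led Lsl_ct (LP (LK LD1_c16 LD2_c46 LD3_c1)) = (LP (LK LD1_c8 LD2_c57 LD3_c21)) :=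
  Lre_c IH (LK LD1_c16 LD2_c46 LD3_c1) (LK LD1_c8 LD2_c57 LD3_c21) Lrfl Lrfl
theorem f732334 : Led Lsl_at (LP (LK LD1_c10 LD2_c56 LD3_c61)) = (LP (LK LD1_c16 LD2_c46 LD3_c1)) :=
  Lgr Lrot107 (Lpe (f732332 IH) (Lpr_af (f732327 IH) (Lpe (f732333 IH) (Lpn (LP (LK LD1_c16 LD2_c46 LD3_c1))))))
theorem f396896 : Led Lsl_et (LP (LK LD1_c5 LD2_c32 LD3_c37)) = (LP (LK LD1_c10 LD2_c56 LD3_c61)) :=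
  Lre_e IH (LK LD1_c5 LD2_c32 LD3_c37) (LK LD1_c10 LD2_c56 LD3_c61) Lrfl Lrfl
theorem f390826 : Led Lsl_et (LP (LK LD1_c16 LD2_c46 LD3_c1)) = (LP (LK LD1_c8 LD2_c57 LD3_c20)) :=
  Lre_e IH (LK LD1_c16 LD2_c46 LD3_c1) (LK LD1_c8 LD2_c57 LD3_c20) Lrfl Lrfl
theorem f732345 : Led Lsl_af (LP (LK LD1_c5 LD2_c32 LD3_c37)) = (LP (LK LD1_c8 LD2_c57 LD3_c20)) :=
  Lgr Lrot50 (Lpr_et (f396896 IH) (Lpr_at (f732334 IH) (Lpr_et (f390826 IH) (Lpn (LP (LK LD1_c8 LD2_c57 LD3_c20))))))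
theorem f732354 : Led Lsl_ft (LP (LK LD1_c5 LD2_c32 LD3_c35)) = (LP (LK LD1_c8 LD2_c57 LD3_c20)) :=
  Lgr Lrot2 (Lpr_gt (f281523 IH) (Lpe (f621066 IH) (Lpr_af (f732345 IH) (Lpn (LP (LK LD1_c8 LD2_c57 LD3_c20))))))
theorem f732362 : Led Lsl_ff (LP (LK LD1_c5 LD2_c32 LD3_c35)) = (LP (LK LD1_c8 LD2_c57 LD3_c20)) :=
  Lgr Lrot3 (Lpr_ft (f732354 IH) (Lpn (LP (LK LD1_c8 LD2_c57 LD3_c20))))
theorem f732348 : Led Lsl_at (LP (LK LD1_c5 LD2_c32 LD3_c37)) = (LP (LK LD1_c8 LD2_c57 LD3_c20)) :=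
  Lgr Lrot100 (Lpr_af (f732345 IH) (Lpn (LP (LK LD1_c8 LD2_c57 LD3_c20))))
theorem f399117 : Led Lsl_ct (LP (LK LD1_c25 LD2_c4 LD3_c55)) = (LP (LK LD1_c16 LD2_c1 LD3_c50)) :=
  Lgr Lrot59 (Lpr_cf (f399113 IH) (Lpn (LP (LK LD1_c16 LD2_c1 LD3_c50))))
theorem f732051 : Led Lsl_ft (LP (LK LD1_c19 LD2_c19 LD3_c45)) = (LP (LK LD1_c25 LD2_c4 LD3_c55)) :=
  Lgr Lrot4 (Lpr_cf (K30.f254800 IH) (Lpr_ff (f732047 IH) (Lpe (f399117 IH) (Lpn (LP (LK LD1_c25 LD2_c4 LD3_c55))))))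
theorem f732057 : Led Lsl_ff (LP (LK LD1_c19 LD2_c19 LD3_c45)) = (LP (LK LD1_c25 LD2_c4 LD3_c55)) :=
  Lgr Lrot3 (Lpr_ft (f732051 IH) (Lpn (LP (LK LD1_c25 LD2_c4 LD3_c55))))
theorem f732061 : Led Lsl_ft (LP (LK LD1_c10 LD2_c40 LD3_c29)) = (LP (LK LD1_c15 LD2_c15 LD3_c33)) :=
  Lgr Lrot54 (Lpe (K30.f254809 IH) (Lpr_ff (f732057 IH) (Lpe (K31.f251753 IH) (Lpn (LP (LK LD1_c15 LD2_c15 LD3_c33))))))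
theorem f374641 : Led Lsl_bt (LP (LK LD1_c15 LD2_c15 LD3_c33)) = (LP (LK LD1_c8 LD2_c57 LD3_c23)) :=
  Lgr Lrot127 (Lpr_bf (K31.f374639 IH) (Lpn (LP (LK LD1_c8 LD2_c57 LD3_c23))))
theorem f732171 : Led Lsl_ff (LP (LK LD1_c5 LD2_c32 LD3_c37)) = (LP (LK LD1_c8 LD2_c57 LD3_c23)) :=
  Lgr Lrot25 (Lpr_bt (K12.f175223 IH) (Lpr_ft (f732061 IH) (Lpr_bt (f374641 IH) (Lpn (LP (LK LD1_c8 LD2_c57 LD3_c23))))))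
theorem f732364 : Led Lsl_at (LP (LK LD1_c5 LD2_c32 LD3_c35)) = (LP (LK LD1_c8 LD2_c57 LD3_c23)) :=
  Lgr Lrot66 (Lpr_ff (f732362 IH) (Lpe (f732348 IH) (Lpr_ff (f732171 IH) (Lpn (LP (LK LD1_c8 LD2_c57 LD3_c23))))))
theorem f281484 : Led Lsl_dt (LP (LK LD1_c10 LD2_c56 LD3_c58)) = (LP (LK LD1_c5 LD2_c32 LD3_c35)) :=
  Lre_d IH (LK LD1_c10 LD2_c56 LD3_c58) (LK LD1_c5 LD2_c32 LD3_c35) Lrfl Lrfl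
theorem f281163 : Led Lsl_dt (LP (LK LD1_c8 LD2_c57 LD3_c23)) = (LP (LK LD1_c16 LD2_c46 LD3_c3)) :=
  Lre_d IH (LK LD1_c8 LD2_c57 LD3_c23) (LK LD1_c16 LD2_c46 LD3_c3) Lrfl Lrfl
theorem f732370 : Led Lsl_af (LP (LK LD1_c10 LD2_c56 LD3_c58)) = (LP (LK LD1_c16 LD2_c46 LD3_c3)) :=
  Lgr Lrot117 (Lpr_dt (f281484 IH) (Lpr_at (f732364 IH) (Lpr_dt (f281163 IH) (Lpn (LP (LK LD1_c16 LD2_c46 LD3_c3))))))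
theorem f281489 : Led Lsl_dt (LP (LK LD1_c5 LD2_c32 LD3_c35)) = (LP (LK LD1_c10 LD2_c56 LD3_c58)) :=
  Lre_d IH (LK LD1_c5 LD2_c32 LD3_c35) (LK LD1_c10 LD2_c56 LD3_c58) Lrfl Lrfl
theorem f281638 : Led Lsl_dt (LP (LK LD1_c16 LD2_c46 LD3_c0)) = (LP (LK LD1_c8 LD2_c57 LD3_c20)) :=
  Lre_d IH (LK LD1_c16 LD2_c46 LD3_c0) (LK LD1_c8 LD2_c57 LD3_c20) Lrfl Lrfl
theorem f732368 : Led Lsl_ft (LP (LK LD1_c10 LD2_c56 LD3_c58)) = (LP (LK LD1_c16 LD2_c46 LD3_c0)) :=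
  Lgr Lrot54 (Lpe (f281489 IH) (Lpr_ff (f732362 IH) (Lpe (f281638 IH) (Lpn (LP (LK LD1_c16 LD2_c46 LD3_c0))))))
theorem f254807 : Led Lsl_bt (LP (LK LD1_c19 LD2_c19 LD3_c45)) = (LP (LK LD1_c10 LD2_c56 LD3_c60)) :=
  Lre_b IH (LK LD1_c19 LD2_c19 LD3_c45) (LK LD1_c10 LD2_c56 LD3_c60) Lrfl Lrfl
theorem f281162 : Led Lsl_dt (LP (LK LD1_c16 LD2_c46 LD3_c3)) = (LP (LK LD1_c8 LD2_c57 LD3_c23)) :=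
  Lre_d IH (LK LD1_c16 LD2_c46 LD3_c3) (LK LD1_c8 LD2_c57 LD3_c23) Lrfl Lrfl
theorem f374643 : Led Lsl_bt (LP (LK LD1_c25 LD2_c4 LD3_c55)) = (LP (LK LD1_c16 LD2_c46 LD3_c3)) :=
  Lgr Lrot95 (Lpe (K31.f251753 IH) (Lpr_bf (K31.f374639 IH) (Lpe (f281162 IH) (Lpn (LP (LK LD1_c16 LD2_c46 LD3_c3))))))
theorem f374653 : Led Lsl_bf (LP (LK LD1_c25 LD2_c4 LD3_c55)) = (LP (LK LD1_c16 LD2_c46 LD3_c3)) :=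
  Lgr Lrot24 (Lpr_bt (f374643 IH) (Lpn (LP (LK LD1_c16 LD2_c46 LD3_c3))))
theorem f732059 : Led Lsl_ft (LP (LK LD1_c10 LD2_c56 LD3_c60)) = (LP (LK LD1_c16 LD2_c46 LD3_c3)) :=
  Lgr Lrot75 (Lpe (f254807 IH) (Lpr_ff (f732057 IH) (Lpr_bf (f374653 IH) (Lpn (LP (LK LD1_c16 LD2_c46 LD3_c3))))))
theorem f732374 : Led Lsl_at (LP (LK LD1_c16 LD2_c46 LD3_c0)) = (LP (LK LD1_c10 LD2_c56 LD3_c60)) :=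
  Lgr Lrot66 (Lpe (f732368 IH) (Lpr_af (f732370 IH) (Lpe (f732059 IH) (Lpn (LP (LK LD1_c10 LD2_c56 LD3_c60))))))
theorem f732379 : Led Lsl_gt (LP (LK LD1_c10 LD2_c56 LD3_c58)) = (LP (LK LD1_c19 LD2_c39 LD3_c10)) :=
  Lgr Lrot5 (Lpr_ft (f732368 IH) (Lpr_at (f732374 IH) (Lpe (K30.f396747 IH) (Lpn (LP (LK LD1_c19 LD2_c39 LD3_c10))))))
theorem f281490 : Led Lsl_gt (LP (LK LD1_c10 LD2_c56 LD3_c56)) = (LP (LK LD1_c5 LD2_c32 LD3_c35)) :=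
  Lre_g IH (LK LD1_c10 LD2_c56 LD3_c56) (LK LD1_c5 LD2_c32 LD3_c35) Lrfl Lrfl
theorem f732724 : Led Lsl_ct (LP (LK LD1_c10 LD2_c56 LD3_c56)) = v15179 :=
  Lgr Lrot8 (Lpr_gt (f281490 IH) (Lpr_dt (f281489 IH) (Lpr_gt (f732379 IH) (Lpr_dt (K30.f179141 IH) (Lpr_cf (K27.f179125 IH) (Lpe (f179147 IH) (Lpr_gf (f732713 IH) (Lpe (f389321 IH) (Lpr_gf (f732722 IH) (Lpn v15179))))))))))
theorem f732726 : Led Lsl_bf (LP (LK LD1_c10 LD2_c23 LD3_c30)) = (LP (LK LD1_c10 LD2_c56 LD3_c56)) :=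
  Lgr Lrot34 (Lpr_gf (f217266 IH) (Lpe (K27.f217264 IH) (Lpr_ct (K16.f52495 IH) (Lpe (K18.f52466 IH) (Lpe (K27.f52467 IH) (Lpe (f200875 IH) (Lpr_bf (f389855 IH) (Lpr_ct (f389318 IH) (Lpr_gf (f732722 IH) (Lpe (f732724 IH) (Lpn (LP (LK LD1_c10 LD2_c56 LD3_c56)))))))))))))
theorem f732727 : Led Lsl_bt (LP (LK LD1_c10 LD2_c56 LD3_c56)) = (LP (LK LD1_c10 LD2_c23 LD3_c30)) :=
  Leop (Lpr_bf (f732726 IH) (Lpn (LP (LK LD1_c10 LD2_c56 LD3_c56))))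
theorem seed_888 : LEOK LG_b (LK LD1_c10 LD2_c56 LD3_c56) :=
  Leoe_b (LK LD1_c10 LD2_c56 LD3_c56) (f732727 IH)
def v15234 : LQ := Led Lsl_at (LP (LK LD1_c5 LD2_c34 LD3_c24))
theorem f733014 : Led Lsl_at (LP (LK LD1_c5 LD2_c34 LD3_c24)) = v15234 :=
  Lrfl
def v4703 : LQ := Led Lsl_at (LP (LK LD1_c2 LD2_c43 LD3_c9))
theorem f638568 : Led Lsl_at (LP (LK LD1_c2 LD2_c43 LD3_c9)) = v4703 :=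
  Lrfl
theorem f638569 : Led Lsl_af (LP (LK LD1_c2 LD2_c43 LD3_c9)) = v4703 :=
  Lgr Lrot0 (Lpr_at (f638568 IH) (Lpn v4703))
theorem f733016 : Led Lsl_cf v4703 = v15234 :=
  Lgr Lrot1 (Lpe (f638569 IH) (Lpr_ct (K30.f173021 IH) (Lpr_at (f733014 IH) (Lpn v15234))))
theorem f638570 : Led Lsl_ft (LP (LK LD1_c2 LD2_c43 LD3_c10)) = v4703 :=
  Lgr Lrot2 (Lpr_gt (K30.f172867 IH) (Lpr_gt (K30.f173020 IH) (Lpr_af (f638569 IH) (Lpn v4703))))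
theorem f638571 : Led Lsl_ff (LP (LK LD1_c2 LD2_c43 LD3_c10)) = v4703 :=
  Lgr Lrot3 (Lpr_ft (f638570 IH) (Lpn v4703))
theorem f172966 : Led Lsl_ct (LP (LK LD1_c2 LD2_c43 LD3_c10)) = (LP (LK LD1_c5 LD2_c34 LD3_c26)) :=
  Lre_c IH (LK LD1_c2 LD2_c43 LD3_c10) (LK LD1_c5 LD2_c34 LD3_c26) Lrfl Lrfl
theorem f733018 : Led Lsl_ft (LP (LK LD1_c5 LD2_c34 LD3_c26)) = v15234 :=
  Lgr Lrot4 (Lpe (f172966 IH) (Lpr_ff (f638571 IH) (Lpr_cf (f733016 IH) (Lpn v15234))))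
theorem f733015 : Led Lsl_af (LP (LK LD1_c5 LD2_c34 LD3_c24)) = v15234 :=
  Lgr Lrot0 (Lpr_at (f733014 IH) (Lpn v15234))
theorem f277349 : Led Lsl_gt (LP (LK LD1_c11 LD2_c0 LD3_c60)) = (LP (LK LD1_c5 LD2_c34 LD3_c24)) :=
  Lre_g IH (LK LD1_c11 LD2_c0 LD3_c60) (LK LD1_c5 LD2_c34 LD3_c24) Lrfl Lrfl
theorem f733020 : Led Lsl_gt (LP (LK LD1_c5 LD2_c34 LD3_c26)) = (LP (LK LD1_c11 LD2_c0 LD3_c60)) :=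
  Lgr Lrot5 (Lpr_ft (f733018 IH) (Lpe (f733015 IH) (Lpe (f277349 IH) (Lpn (LP (LK LD1_c11 LD2_c0 LD3_c60))))))
theorem f733021 : Led Lsl_gt (LP (LK LD1_c5 LD2_c34 LD3_c26)) = (LP (LK LD1_c11 LD2_c0 LD3_c60)) :=
  Leop (Lpe (f733020 IH) (Lpn (LP (LK LD1_c5 LD2_c34 LD3_c26))))
theorem seed_889 : LEOK LG_g (LK LD1_c5 LD2_c34 LD3_c26) :=
  Leoe_g (LK LD1_c5 LD2_c34 LD3_c26) (f733021 IH)
def v15320 : LQ := Led Lsl_ft (LP (LK LD1_c5 LD2_c35 LD3_c57))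
theorem f733441 : Led Lsl_ft (LP (LK LD1_c5 LD2_c35 LD3_c57)) = v15320 :=
  Lrfl
theorem f733444 : Led Lsl_ff (LP (LK LD1_c5 LD2_c35 LD3_c57)) = v15320 :=
  Lgr Lrot3 (Lpr_ft (f733441 IH) (Lpn v15320))
def v4716 : LQ := Led Lsl_ft (LP (LK LD1_c2 LD2_c43 LD3_c50))
theorem f638644 : Led Lsl_ft (LP (LK LD1_c2 LD2_c43 LD3_c50)) = v4716 :=
  Lrfl
theorem f733446 : Led Lsl_bt v4716 = v15320 :=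
  Lgr Lrot35 (Lpe (f638644 IH) (Lpe (K25.f189366 IH) (Lpr_ff (f733444 IH) (Lpn v15320))))
theorem f638646 : Led Lsl_ff (LP (LK LD1_c2 LD2_c43 LD3_c50)) = v4716 :=
  Lgr Lrot3 (Lpr_ft (f638644 IH) (Lpn v4716))
def v4715 : LQ := Led Lsl_at (LP (LK LD1_c2 LD2_c43 LD3_c50))
theorem f638640 : Led Lsl_at (LP (LK LD1_c2 LD2_c43 LD3_c50)) = v4715 :=
  Lrfl
theorem f638641 : Led Lsl_af (LP (LK LD1_c2 LD2_c43 LD3_c50)) = v4715 :=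
  Lgr Lrot0 (Lpr_at (f638640 IH) (Lpn v4715))
theorem f638642 : Led Lsl_ft (LP (LK LD1_c2 LD2_c43 LD3_c51)) = v4715 :=
  Lgr Lrot2 (Lpr_gt (K23.f189154 IH) (Lpr_gt (K22.f189137 IH) (Lpr_af (f638641 IH) (Lpn v4715))))
theorem f638643 : Led Lsl_ff (LP (LK LD1_c2 LD2_c43 LD3_c51)) = v4715 :=
  Lgr Lrot3 (Lpr_ft (f638642 IH) (Lpn v4715))
theorem f638647 : Led Lsl_at (LP (LK LD1_c2 LD2_c43 LD3_c51)) = v4716 :=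
  Lgr Lrot66 (Lpr_ff (f638643 IH) (Lpe (f638640 IH) (Lpr_ff (f638646 IH) (Lpn v4716))))
def v15319 : LQ := Led Lsl_at (LP (LK LD1_c5 LD2_c35 LD3_c57))
theorem f733437 : Led Lsl_at (LP (LK LD1_c5 LD2_c35 LD3_c57)) = v15319 :=
  Lrfl
theorem f733438 : Led Lsl_af (LP (LK LD1_c5 LD2_c35 LD3_c57)) = v15319 :=
  Lgr Lrot0 (Lpr_at (f733437 IH) (Lpn v15319))
theorem f733439 : Led Lsl_ft (LP (LK LD1_c15 LD2_c33 LD3_c21)) = v15319 :=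
  Lgr Lrot2 (Lpr_gt (K23.f189669 IH) (Lpe (K25.f355318 IH) (Lpr_af (f733438 IH) (Lpn v15319))))
theorem f733442 : Led Lsl_af (LP (LK LD1_c15 LD2_c33 LD3_c21)) = v15320 :=
  Lgr Lrot45 (Lpr_ft (f733439 IH) (Lpe (f733438 IH) (Lpr_ft (f733441 IH) (Lpn v15320))))
theorem f352926 : Led Lsl_bt (LP (LK LD1_c15 LD2_c33 LD3_c21)) = (LP (LK LD1_c9 LD2_c41 LD3_c4)) :=
  Lgr Lrot95 (Lpe (K23.f189677 IH) (Lpr_bf (K25.f352920 IH) (Lpe (K24.f216315 IH) (Lpn (LP (LK LD1_c9 LD2_c41 LD3_c4))))))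
theorem f733447 : Led Lsl_af (LP (LK LD1_c5 LD2_c35 LD3_c60)) = (LP (LK LD1_c9 LD2_c41 LD3_c4)) :=
  Lgr Lrot36 (Lpr_bt (K24.f189222 IH) (Lpr_at (f638647 IH) (Lpr_bt (f733446 IH) (Lpe (f733442 IH) (Lpr_bt (f352926 IH) (Lpn (LP (LK LD1_c9 LD2_c41 LD3_c4))))))))
theorem f733448 : Led Lsl_at (LP (LK LD1_c9 LD2_c41 LD3_c4)) = (LP (LK LD1_c5 LD2_c35 LD3_c60)) :=
  Leop (Lpr_af (f733447 IH) (Lpn (LP (LK LD1_c9 LD2_c41 LD3_c4))))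
theorem seed_890 : LEOK LG_a (LK LD1_c9 LD2_c41 LD3_c4) :=
  Leoe_a (LK LD1_c9 LD2_c41 LD3_c4) (f733448 IH)
def v15323 : LQ := Led Lsl_ft (LP (LK LD1_c5 LD2_c36 LD3_c1))
theorem f734370 : Led Lsl_ft (LP (LK LD1_c5 LD2_c36 LD3_c1)) = v15323 :=
  Lrfl
theorem f734372 : Led Lsl_ff (LP (LK LD1_c5 LD2_c36 LD3_c1)) = v15323 :=
  Lgr Lrot3 (Lpr_ft (f734370 IH) (Lpn v15323))
def v15322 : LQ := Led Lsl_at (LP (LK LD1_c5 LD2_c36 LD3_c1))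
theorem f734366 : Led Lsl_at (LP (LK LD1_c5 LD2_c36 LD3_c1)) = v15322 :=
  Lrfl
theorem f734367 : Led Lsl_af (LP (LK LD1_c5 LD2_c36 LD3_c1)) = v15322 :=
  Lgr Lrot0 (Lpr_at (f734366 IH) (Lpn v15322))
theorem f734368 : Led Lsl_ft (LP (LK LD1_c5 LD2_c36 LD3_c2)) = v15322 :=
  Lgr Lrot2 (Lpr_gt (K22.f189373 IH) (Lpr_gt (K22.f212971 IH) (Lpr_af (f734367 IH) (Lpn v15322))))
theorem f734369 : Led Lsl_ff (LP (LK LD1_c5 LD2_c36 LD3_c2)) = v15322 :=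
  Lgr Lrot3 (Lpr_ft (f734368 IH) (Lpn v15322))
theorem f734373 : Led Lsl_at (LP (LK LD1_c5 LD2_c36 LD3_c2)) = v15323 :=
  Lgr Lrot66 (Lpr_ff (f734369 IH) (Lpe (f734366 IH) (Lpr_ff (f734372 IH) (Lpn v15323))))
def v12521 : LQ := Led Lsl_at (LP (LK LD1_c4 LD2_c14 LD3_c38))
theorem f692576 : Led Lsl_at (LP (LK LD1_c4 LD2_c14 LD3_c38)) = v12521 :=
  Lrfl
theorem f692577 : Led Lsl_af (LP (LK LD1_c4 LD2_c14 LD3_c38)) = v12521 :=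
  Lgr Lrot0 (Lpr_at (f692576 IH) (Lpn v12521))
theorem f734374 : Led Lsl_ef v12521 = v15323 :=
  Lgr Lrot20 (Lpe (f692577 IH) (Lpe (K22.f315636 IH) (Lpr_at (f734373 IH) (Lpn v15323))))
theorem f692578 : Led Lsl_ft (LP (LK LD1_c4 LD2_c14 LD3_c39)) = v12521 :=
  Lgr Lrot2 (Lpr_gt (K14.f226889 IH) (Lpr_gt (K22.f216422 IH) (Lpr_af (f692577 IH) (Lpn v12521))))
theorem f692579 : Led Lsl_ff (LP (LK LD1_c4 LD2_c14 LD3_c39)) = v12521 :=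
  Lgr Lrot3 (Lpr_ft (f692578 IH) (Lpn v12521))
theorem f734376 : Led Lsl_ft (LP (LK LD1_c8 LD2_c28 LD3_c6)) = (LP (LK LD1_c11 LD2_c4 LD3_c23)) :=
  Lgr Lrot86 (Lpe (K14.f239632 IH) (Lpr_ff (f692579 IH) (Lpr_ef (f734374 IH) (Lpe (f734370 IH) (Lpe (K22.f274711 IH) (Lpn (LP (LK LD1_c11 LD2_c4 LD3_c23))))))))
theorem f734377 : Led Lsl_ft (LP (LK LD1_c8 LD2_c28 LD3_c6)) = (LP (LK LD1_c11 LD2_c4 LD3_c23)) :=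
  Leop (Lpe (f734376 IH) (Lpn (LP (LK LD1_c8 LD2_c28 LD3_c6))))
theorem seed_891 : LEOK LG_f (LK LD1_c8 LD2_c28 LD3_c6) :=
  Leoe_f (LK LD1_c8 LD2_c28 LD3_c6) (f734377 IH)
def v6343 : LQ := Led Lsl_ft (LP (LK LD1_c3 LD2_c20 LD3_c37))
theorem f652903 : Led Lsl_ft (LP (LK LD1_c3 LD2_c20 LD3_c37)) = v6343 :=
  Lrfl
theorem f652905 : Led Lsl_ff (LP (LK LD1_c3 LD2_c20 LD3_c37)) = v6343 :=
  Lgr Lrot3 (Lpr_ft (f652903 IH) (Lpn v6343))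
theorem f454788 : Led Lsl_bt (LP (LK LD1_c3 LD2_c20 LD3_c37)) = (LP (LK LD1_c1 LD2_c36 LD3_c39)) :=
  Lre_b IH (LK LD1_c3 LD2_c20 LD3_c37) (LK LD1_c1 LD2_c36 LD3_c39) Lrfl Lrfl
theorem f652906 : Led Lsl_bt K46.v2154 = v6343 :=
  Lgr Lrot35 (Lpe (K46.f509300 IH) (Lpe (f454788 IH) (Lpr_ff (f652905 IH) (Lpn v6343))))
def v6320 : LQ := Led Lsl_bt (LP (LK LD1_c3 LD2_c20 LD3_c30))
theorem f652708 : Led Lsl_bt (LP (LK LD1_c3 LD2_c20 LD3_c30)) = v6320 :=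
  Lrfl
theorem f706586 : v6343 = v6320 :=
  Lefun (Lecon (f652906 IH) (K51.f706580 IH)) (f652708 IH)
theorem f652892 : Led Lsl_et (LP (LK LD1_c6 LD2_c45 LD3_c0)) = (LP (LK LD1_c3 LD2_c20 LD3_c37)) :=
  Lre_e IH (LK LD1_c6 LD2_c45 LD3_c0) (LK LD1_c3 LD2_c20 LD3_c37) Lrfl Lrfl
def v15366 : LQ := Led Lsl_dt (LP (LK LD1_c5 LD2_c37 LD3_c24))
theorem f735898 : Led Lsl_dt (LP (LK LD1_c5 LD2_c37 LD3_c24)) = v15366 :=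
  Lrfl
theorem f735900 : Led Lsl_df (LP (LK LD1_c5 LD2_c37 LD3_c24)) = v15366 :=
  Lgr Lrot38 (Lpr_dt (f735898 IH) (Lpn v15366))
def v1911 : LQ := Led Lsl_et (LP (LK LD1_c1 LD2_c31 LD3_c22))
theorem f506356 : Led Lsl_et (LP (LK LD1_c1 LD2_c31 LD3_c22)) = v1911 :=
  Lrfl
def v8200 : LQ := Led Lsl_gt v1911
theorem f670320 : Led Lsl_gt v1911 = v8200 :=
  Lrfl
theorem f735904 : Led Lsl_ef v8200 = v15366 :=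
  Lgr Lrot17 (Lpe (f670320 IH) (Lpe (f506356 IH) (Lpr_dt (K36.f193816 IH) (Lpe (K12.f193818 IH) (Lpe (K18.f28397 IH) (Lpe (K18.f242726 IH) (Lpe (K50.f242702 IH) (Lpr_dt (K17.f242665 IH) (Lpe (K53.f172684 IH) (Lpr_df (f735900 IH) (Lpn v15366)))))))))))
theorem f735903 : Led Lsl_bt (LP (LK LD1_c6 LD2_c44 LD3_c46)) = v15366 :=
  Lgr Lrot95 (Lpe (K51.f100265 IH) (Lpe (K53.f715213 IH) (Lpr_df (f735900 IH) (Lpn v15366))))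
theorem f100267 : Led Lsl_et (LP (LK LD1_c3 LD2_c20 LD3_c30)) = (LP (LK LD1_c6 LD2_c44 LD3_c46)) :=
  Lre_e IH (LK LD1_c3 LD2_c20 LD3_c30) (LK LD1_c6 LD2_c44 LD3_c46) Lrfl Lrfl
theorem f652709 : Led Lsl_bf (LP (LK LD1_c3 LD2_c20 LD3_c30)) = v6320 :=
  Lgr Lrot24 (Lpr_bt (f652708 IH) (Lpn v6320))
theorem f735906 : v8200 = v6320 :=
  (Llr Lrot74 (Lpr_ef (f735904 IH) (Lpe (f735903 IH) (Lpe (f100267 IH) (Lpr_bf (f652709 IH) (Lpn v6320)))))).symm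
theorem f735905 : Led Lsl_et v8200 = v15366 :=
  Lgr Lrot87 (Lpr_ef (f735904 IH) (Lpn v15366))
theorem f735901 : Led Lsl_ff (LP (LK LD1_c11 LD2_c14 LD3_c27)) = v15366 :=
  Lgr Lrot19 (Lpr_dt (K35.f225977 IH) (Lpe (f715217 IH) (Lpr_dt (f735898 IH) (Lpn v15366))))
theorem f735907 : Led Lsl_ff (LP (LK LD1_c6 LD2_c45 LD3_c0)) = (LP (LK LD1_c11 LD2_c49 LD3_c31)) :=
  Lgr Lrot72 (Lpr_et (f652892 IH) (Lpr_ft (f652903 IH) (Lpqs (f706586 IH) (Lpq (f735906 IH) (Lpr_et (f735905 IH) (Lpe (f735901 IH) (Lpr_et (K35.f494571 IH) (Lpn (LP (LK LD1_c11 LD2_c49 LD3_c31))))))))))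
theorem f735908 : Led Lsl_ft (LP (LK LD1_c11 LD2_c49 LD3_c31)) = (LP (LK LD1_c6 LD2_c45 LD3_c0)) :=
  Leop (Lpr_ff (f735907 IH) (Lpn (LP (LK LD1_c11 LD2_c49 LD3_c31))))
theorem seed_892 : LEOK LG_f (LK LD1_c11 LD2_c49 LD3_c31) :=
  Leoe_f (LK LD1_c11 LD2_c49 LD3_c31) (f735908 IH)
theorem f509268 : Led Lsl_ct (LP (LK LD1_c3 LD2_c20 LD3_c30)) = (LP (LK LD1_c6 LD2_c44 LD3_c45)) :=
  Lre_c IH (LK LD1_c3 LD2_c20 LD3_c30) (LK LD1_c6 LD2_c44 LD3_c45) Lrfl Lrfl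
theorem f141593 : Led Lsl_ft (LP (LK LD1_c6 LD2_c37 LD3_c37)) = (LP (LK LD1_c12 LD2_c40 LD3_c57)) :=
  Lre_f IH (LK LD1_c6 LD2_c37 LD3_c37) (LK LD1_c12 LD2_c40 LD3_c57) Lrfl Lrfl
theorem f650128 : Led Lsl_gt (LP (LK LD1_c12 LD2_c34 LD3_c25)) = (LP (LK LD1_c21 LD2_c40 LD3_c47)) :=
  Lre_g IH (LK LD1_c12 LD2_c34 LD3_c25) (LK LD1_c21 LD2_c40 LD3_c47) Lrfl Lrfl
theorem f712641 : Led Lsl_at (LP (LK LD1_c12 LD2_c40 LD3_c57)) = (LP (LK LD1_c21 LD2_c40 LD3_c47)) :=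
  Lgr Lrot26 (Lpe (f141593 IH) (Lpr_gt (K52.f712635 IH) (Lpr_gt (f650128 IH) (Lpn (LP (LK LD1_c21 LD2_c40 LD3_c47))))))
theorem f712658 : Led Lsl_ff (LP (LK LD1_c12 LD2_c36 LD3_c12)) = (LP (LK LD1_c21 LD2_c40 LD3_c47)) :=
  Lgr Lrot30 (Lpr_at (K52.f141581 IH) (Lpr_ft (f141593 IH) (Lpr_at (f712641 IH) (Lpn (LP (LK LD1_c21 LD2_c40 LD3_c47))))))
theorem f712664 : Led Lsl_ft (LP (LK LD1_c12 LD2_c36 LD3_c12)) = (LP (LK LD1_c21 LD2_c40 LD3_c47)) :=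
  Lgr Lrot48 (Lpr_ff (f712658 IH) (Lpn (LP (LK LD1_c21 LD2_c40 LD3_c47))))
theorem f62159 : Led Lsl_gt (LP (LK LD1_c6 LD2_c36 LD3_c10)) = (LP (LK LD1_c12 LD2_c38 LD3_c26)) :=
  Lre_g IH (LK LD1_c6 LD2_c36 LD3_c10) (LK LD1_c12 LD2_c38 LD3_c26) Lrfl Lrfl
theorem f624206 : Led Lsl_gf (LP (LK LD1_c6 LD2_c41 LD3_c3)) = (LP (LK LD1_c12 LD2_c38 LD3_c26)) :=
  Lgr Lrot76 (Lpe (K52.f508979 IH) (Lpr_ff (K52.f624194 IH) (Lpr_gt (f62159 IH) (Lpn (LP (LK LD1_c12 LD2_c38 LD3_c26))))))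
theorem f141700 : Led Lsl_af (LP (LK LD1_c12 LD2_c36 LD3_c31)) = (LP (LK LD1_c6 LD2_c37 LD3_c36)) :=
  Lgr Lrot0 (Lpr_at (K6.f141698 IH) (Lpn (LP (LK LD1_c6 LD2_c37 LD3_c36))))
theorem f709990 : Led Lsl_ft (LP (LK LD1_c12 LD2_c38 LD3_c26)) = (LP (LK LD1_c6 LD2_c37 LD3_c36)) :=
  Lgr Lrot2 (Lpe (f624206 IH) (Lpr_gt (K52.f709988 IH) (Lpr_af (f141700 IH) (Lpn (LP (LK LD1_c6 LD2_c37 LD3_c36))))))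
theorem f712672 : Led Lsl_ef (LP (LK LD1_c12 LD2_c38 LD3_c26)) = (LP (LK LD1_c21 LD2_c40 LD3_c47)) :=
  Lgr Lrot21 (Lpr_ft (f709990 IH) (Lpr_et (K6.f118666 IH) (Lpe (K6.f141568 IH) (Lpr_et (K6.f65350 IH) (Lpr_ft (f712664 IH) (Lpn (LP (LK LD1_c21 LD2_c40 LD3_c47))))))))
theorem f712679 : Led Lsl_et (LP (LK LD1_c12 LD2_c38 LD3_c26)) = (LP (LK LD1_c21 LD2_c40 LD3_c47)) :=
  Lgr Lrot87 (Lpr_ef (f712672 IH) (Lpn (LP (LK LD1_c21 LD2_c40 LD3_c47))))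
theorem f712686 : Led Lsl_ff (LP (LK LD1_c12 LD2_c38 LD3_c26)) = (LP (LK LD1_c6 LD2_c37 LD3_c36)) :=
  Lgr Lrot72 (Lpr_et (f712679 IH) (Lpe (f712658 IH) (Lpr_et (K52.f65375 IH) (Lpr_ft (K6.f141572 IH) (Lpr_et (K6.f141565 IH) (Lpn (LP (LK LD1_c6 LD2_c37 LD3_c36))))))))
theorem f141602 : Led Lsl_et (LP (LK LD1_c7 LD2_c1 LD3_c23)) = (LP (LK LD1_c3 LD2_c29 LD3_c53)) :=
  Lre_e IH (LK LD1_c7 LD2_c1 LD3_c23) (LK LD1_c3 LD2_c29 LD3_c53) Lrfl Lrfl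
theorem f141603 : Led Lsl_et (LP (LK LD1_c6 LD2_c37 LD3_c35)) = (LP (LK LD1_c12 LD2_c40 LD3_c53)) :=
  Lre_e IH (LK LD1_c6 LD2_c37 LD3_c35) (LK LD1_c12 LD2_c40 LD3_c53) Lrfl Lrfl
theorem f141604 : Led Lsl_cf (LP (LK LD1_c7 LD2_c1 LD3_c23)) = (LP (LK LD1_c12 LD2_c40 LD3_c53)) :=
  Lgr Lrot39 (Lpr_et (f141602 IH) (Lpr_ct (K6.f141597 IH) (Lpr_et (f141603 IH) (Lpn (LP (LK LD1_c12 LD2_c40 LD3_c53))))))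
theorem f141730 : Led Lsl_bt (LP (LK LD1_c12 LD2_c40 LD3_c53)) = (LP (LK LD1_c6 LD2_c37 LD3_c36)) :=
  Lre_b IH (LK LD1_c12 LD2_c40 LD3_c53) (LK LD1_c6 LD2_c37 LD3_c36) Lrfl Lrfl
theorem f508873 : Led Lsl_bt (LP (LK LD1_c1 LD2_c35 LD3_c43)) = (LP (LK LD1_c3 LD2_c18 LD3_c35)) :=
  Lre_b IH (LK LD1_c1 LD2_c35 LD3_c43) (LK LD1_c3 LD2_c18 LD3_c35) Lrfl Lrfl
def v6171 : LQ := Led Lsl_gt (LP (LK LD1_c3 LD2_c18 LD3_c35))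
theorem f651612 : Led Lsl_gt (LP (LK LD1_c3 LD2_c18 LD3_c35)) = v6171 :=
  Lrfl
theorem f707482 : (LP (LK LD1_c6 LD2_c37 LD3_c36)) = v6171 :=
  (Llr Lrot92 (Lpe (f141730 IH) (Lpe (f141604 IH) (Lpr_gt (K51.f707462 IH) (Lpe (K51.f624495 IH) (Lpr_bt (K51.f508792 IH) (Lpr_gt (K46.f495074 IH) (Lpr_ct (K46.f495081 IH) (Lpr_gt (K5.f62083 IH) (Lpe (K32.f66026 IH) (Lpr_bt (f508873 IH) (Lpr_gt (f651612 IH) (Lpn v6171))))))))))))).symm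
theorem f62156 : Led Lsl_at (LP (LK LD1_c6 LD2_c36 LD3_c10)) = (LP (LK LD1_c12 LD2_c38 LD3_c27)) :=
  Lre_a IH (LK LD1_c6 LD2_c36 LD3_c10) (LK LD1_c12 LD2_c38 LD3_c27) Lrfl Lrfl
theorem f651613 : Led Lsl_gf (LP (LK LD1_c12 LD2_c38 LD3_c27)) = v6171 :=
  Lgr Lrot76 (Lpe (f62156 IH) (Lpe (K52.f624187 IH) (Lpr_gt (f651612 IH) (Lpn v6171))))
theorem f508978 : Led Lsl_at (LP (LK LD1_c6 LD2_c41 LD3_c3)) = (LP (LK LD1_c3 LD2_c18 LD3_c35)) :=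
  Lre_a IH (LK LD1_c6 LD2_c41 LD3_c3) (LK LD1_c3 LD2_c18 LD3_c35) Lrfl Lrfl
theorem f624189 : Led Lsl_ff (LP (LK LD1_c6 LD2_c41 LD3_c3)) = (LP (LK LD1_c12 LD2_c38 LD3_c27)) :=
  Lgr Lrot30 (Lpr_at (f508978 IH) (Lpr_ft (K52.f624187 IH) (Lpr_at (f62156 IH) (Lpn (LP (LK LD1_c12 LD2_c38 LD3_c27))))))
theorem f624263 : Led Lsl_gt (LP (LK LD1_c6 LD2_c41 LD3_c2)) = (LP (LK LD1_c3 LD2_c18 LD3_c35)) :=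
  Lre_g IH (LK LD1_c6 LD2_c41 LD3_c2) (LK LD1_c3 LD2_c18 LD3_c35) Lrfl Lrfl
theorem f624264 : Led Lsl_gf (LP (LK LD1_c6 LD2_c41 LD3_c2)) = (LP (LK LD1_c12 LD2_c38 LD3_c27)) :=
  Lgr Lrot47 (Lpr_gt (f624263 IH) (Lpe (f508978 IH) (Lpr_ff (f624189 IH) (Lpn (LP (LK LD1_c12 LD2_c38 LD3_c27))))))
theorem f712692 : Led Lsl_at (LP (LK LD1_c12 LD2_c38 LD3_c26)) = (LP (LK LD1_c6 LD2_c41 LD3_c2)) :=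
  Lgr Lrot26 (Lpr_ff (f712686 IH) (Lpqs (f707482 IH) (Lpe (f651613 IH) (Lpe (f624264 IH) (Lpn (LP (LK LD1_c6 LD2_c41 LD3_c2)))))))
theorem f712703 : Led Lsl_ff (LP (LK LD1_c12 LD2_c36 LD3_c31)) = (LP (LK LD1_c6 LD2_c41 LD3_c2)) :=
  Lgr Lrot30 (Lpr_at (K6.f141698 IH) (Lpe (f712686 IH) (Lpr_at (f712692 IH) (Lpn (LP (LK LD1_c6 LD2_c41 LD3_c2))))))
theorem f712711 : Led Lsl_ft (LP (LK LD1_c12 LD2_c36 LD3_c31)) = (LP (LK LD1_c6 LD2_c41 LD3_c2)) :=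
  Lgr Lrot48 (Lpr_ff (f712703 IH) (Lpn (LP (LK LD1_c6 LD2_c41 LD3_c2))))
theorem f624267 : Led Lsl_ct (LP (LK LD1_c6 LD2_c41 LD3_c2)) = (LP (LK LD1_c12 LD2_c47 LD3_c24)) :=
  Lre_c IH (LK LD1_c6 LD2_c41 LD3_c2) (LK LD1_c12 LD2_c47 LD3_c24) Lrfl Lrfl
theorem f712715 : Led Lsl_ff (LP (LK LD1_c17 LD2_c7 LD3_c20)) = (LP (LK LD1_c12 LD2_c47 LD3_c24)) :=
  Lgr Lrot23 (Lpe (K6.f124534 IH) (Lpr_ft (f712711 IH) (Lpr_ct (f624267 IH) (Lpn (LP (LK LD1_c12 LD2_c47 LD3_c24))))))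
theorem f710173 : Led Lsl_ft (LP (LK LD1_c9 LD2_c12 LD3_c54)) = (LP (LK LD1_c6 LD2_c45 LD3_c16)) :=
  Lgr Lrot48 (Lpr_ff (K53.f710169 IH) (Lpn (LP (LK LD1_c6 LD2_c45 LD3_c16))))
theorem f712719 : Led Lsl_bt (LP (LK LD1_c6 LD2_c45 LD3_c16)) = (LP (LK LD1_c12 LD2_c47 LD3_c24)) :=
  Lgr Lrot35 (Lpe (f710173 IH) (Lpe (K51.f124533 IH) (Lpr_ff (f712715 IH) (Lpn (LP (LK LD1_c12 LD2_c47 LD3_c24))))))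
theorem f624270 : Led Lsl_ct (LP (LK LD1_c12 LD2_c47 LD3_c24)) = (LP (LK LD1_c6 LD2_c41 LD3_c2)) :=
  Lre_c IH (LK LD1_c12 LD2_c47 LD3_c24) (LK LD1_c6 LD2_c41 LD3_c2) Lrfl Lrfl
theorem f712696 : Led Lsl_bt (LP (LK LD1_c6 LD2_c41 LD3_c2)) = (LP (LK LD1_c12 LD2_c47 LD3_c23)) :=
  Lre_b IH (LK LD1_c6 LD2_c41 LD3_c2) (LK LD1_c12 LD2_c47 LD3_c23) Lrfl Lrfl
theorem f624272 : Led Lsl_ct (LP (LK LD1_c12 LD2_c47 LD3_c23)) = (LP (LK LD1_c12 LD2_c44 LD3_c29)) :=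
  Lre_c IH (LK LD1_c12 LD2_c47 LD3_c23) (LK LD1_c12 LD2_c44 LD3_c29) Lrfl Lrfl
theorem f712723 : Led Lsl_bf (LP (LK LD1_c12 LD2_c54 LD3_c49)) = (LP (LK LD1_c12 LD2_c44 LD3_c29)) :=
  Lgr Lrot90 (Lpr_ct (K53.f509375 IH) (Lpr_bt (f712719 IH) (Lpr_ct (f624270 IH) (Lpr_bt (f712696 IH) (Lpr_ct (f624272 IH) (Lpn (LP (LK LD1_c12 LD2_c44 LD3_c29))))))))
theorem f710176 : Led Lsl_ff (LP (LK LD1_c11 LD2_c26 LD3_c0)) = (LP (LK LD1_c12 LD2_c54 LD3_c49)) :=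
  Lgr Lrot23 (Lpe (K52.f436645 IH) (Lpr_ft (f710173 IH) (Lpr_ct (K53.f140999 IH) (Lpn (LP (LK LD1_c12 LD2_c54 LD3_c49))))))
theorem f712733 : Led Lsl_ft (LP (LK LD1_c12 LD2_c53 LD3_c19)) = (LP (LK LD1_c12 LD2_c44 LD3_c29)) :=
  Lgr Lrot75 (Lpr_bf (K52.f436681 IH) (Lpr_ff (f710176 IH) (Lpr_bf (f712723 IH) (Lpn (LP (LK LD1_c12 LD2_c44 LD3_c29))))))
theorem f712736 : Led Lsl_af (LP (LK LD1_c6 LD2_c47 LD3_c17)) = (LP (LK LD1_c12 LD2_c44 LD3_c29)) :=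
  Lgr Lrot45 (Lpe (K52.f707392 IH) (Lpr_at (K6.f141913 IH) (Lpr_ft (f712733 IH) (Lpn (LP (LK LD1_c12 LD2_c44 LD3_c29))))))
theorem f454464 : Led Lsl_ct (LP (LK LD1_c6 LD2_c47 LD3_c17)) = (LP (LK LD1_c6 LD2_c44 LD3_c54)) :=
  Lre_c IH (LK LD1_c6 LD2_c47 LD3_c17) (LK LD1_c6 LD2_c44 LD3_c54) Lrfl Lrfl
theorem f712742 : Led Lsl_at (LP (LK LD1_c6 LD2_c44 LD3_c54)) = (LP (LK LD1_c12 LD2_c47 LD3_c23)) :=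
  Lgr Lrot107 (Lpe (f454464 IH) (Lpr_af (f712736 IH) (Lpe (f624272 IH) (Lpn (LP (LK LD1_c12 LD2_c47 LD3_c23))))))
theorem f624271 : Led Lsl_bt (LP (LK LD1_c12 LD2_c47 LD3_c23)) = (LP (LK LD1_c6 LD2_c41 LD3_c2)) :=
  Lre_b IH (LK LD1_c12 LD2_c47 LD3_c23) (LK LD1_c6 LD2_c41 LD3_c2) Lrfl Lrfl
theorem f712694 : Led Lsl_af (LP (LK LD1_c12 LD2_c38 LD3_c26)) = (LP (LK LD1_c6 LD2_c41 LD3_c2)) :=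
  Lgr Lrot0 (Lpr_at (f712692 IH) (Lpn (LP (LK LD1_c6 LD2_c41 LD3_c2))))
theorem f712674 : Led Lsl_bt (LP (LK LD1_c12 LD2_c38 LD3_c26)) = (LP (LK LD1_c21 LD2_c44 LD3_c57)) :=
  Lre_b IH (LK LD1_c12 LD2_c38 LD3_c26) (LK LD1_c21 LD2_c44 LD3_c57) Lrfl Lrfl
theorem f712746 : Led Lsl_af (LP (LK LD1_c12 LD2_c54 LD3_c4)) = (LP (LK LD1_c21 LD2_c44 LD3_c57)) :=
  Lgr Lrot36 (Lpr_bt (K51.f652806 IH) (Lpr_at (f712742 IH) (Lpr_bt (f624271 IH) (Lpe (f712694 IH) (Lpr_bt (f712674 IH) (Lpn (LP (LK LD1_c21 LD2_c44 LD3_c57))))))))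
theorem f710199 : Led Lsl_ft (LP (LK LD1_c9 LD2_c11 LD3_c15)) = (LP (LK LD1_c6 LD2_c44 LD3_c54)) :=
  Lgr Lrot48 (Lpr_ff (K53.f710191 IH) (Lpn (LP (LK LD1_c6 LD2_c44 LD3_c54))))
theorem f710201 : Led Lsl_ff (LP (LK LD1_c17 LD2_c4 LD3_c45)) = (LP (LK LD1_c12 LD2_c54 LD3_c4)) :=
  Lgr Lrot25 (Lpr_bt (K5.f130576 IH) (Lpr_ft (f710199 IH) (Lpr_bt (K53.f652823 IH) (Lpn (LP (LK LD1_c12 LD2_c54 LD3_c4))))))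
theorem f130569 : Led Lsl_bt (LP (LK LD1_c9 LD2_c11 LD3_c15)) = (LP (LK LD1_c17 LD2_c4 LD3_c45)) :=
  Lre_b IH (LK LD1_c9 LD2_c11 LD3_c15) (LK LD1_c17 LD2_c4 LD3_c45) Lrfl Lrfl
theorem f141726 : Led Lsl_bt (LP (LK LD1_c12 LD2_c36 LD3_c31)) = (LP (LK LD1_c6 LD2_c44 LD3_c22)) :=
  Lgr Lrot127 (Lpr_bf (K52.f141724 IH) (Lpn (LP (LK LD1_c6 LD2_c44 LD3_c22))))
theorem f141911 : Led Lsl_at (LP (LK LD1_c17 LD2_c4 LD3_c45)) = (LP (LK LD1_c12 LD2_c40 LD3_c53)) :=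
  Lgr Lrot67 (Lpe (f130569 IH) (Lpr_af (K6.f141907 IH) (Lpe (f141726 IH) (Lpr_af (f141700 IH) (Lpe (f141730 IH) (Lpn (LP (LK LD1_c12 LD2_c40 LD3_c53))))))))
theorem f712752 : Led Lsl_ft (LP (LK LD1_c12 LD2_c40 LD3_c53)) = (LP (LK LD1_c21 LD2_c44 LD3_c57)) :=
  Lgr Lrot101 (Lpe (f141911 IH) (Lpr_ff (f710201 IH) (Lpr_af (f712746 IH) (Lpn (LP (LK LD1_c21 LD2_c44 LD3_c57))))))
theorem f437110 : Led Lsl_ft (LP (LK LD1_c6 LD2_c44 LD3_c19)) = (LP (LK LD1_c9 LD2_c11 LD3_c14)) :=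
  Lgr Lrot48 (Lpr_ff (K7.f146722 IH) (Lpn (LP (LK LD1_c9 LD2_c11 LD3_c14))))
theorem f437112 : Led Lsl_af (LP (LK LD1_c6 LD2_c37 LD3_c35)) = (LP (LK LD1_c9 LD2_c11 LD3_c14)) :=
  Lgr Lrot45 (Lpe (K6.f141595 IH) (Lpe (K8.f146717 IH) (Lpr_ft (f437110 IH) (Lpn (LP (LK LD1_c9 LD2_c11 LD3_c14))))))
theorem f437114 : Led Lsl_at (LP (LK LD1_c12 LD2_c40 LD3_c53)) = (LP (LK LD1_c17 LD2_c4 LD3_c45)) :=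
  Lgr Lrot80 (Lpe (f141603 IH) (Lpr_af (f437112 IH) (Lpe (K5.f130584 IH) (Lpn (LP (LK LD1_c17 LD2_c4 LD3_c45))))))
theorem f130591 : Led Lsl_cf (LP (LK LD1_c13 LD2_c19 LD3_c8)) = (LP (LK LD1_c17 LD2_c4 LD3_c45)) :=
  Lgr Lrot11 (Lpr_ct (K5.f130585 IH) (Lpn (LP (LK LD1_c17 LD2_c4 LD3_c45))))
theorem f130595 : Led Lsl_at (LP (LK LD1_c13 LD2_c19 LD3_c8)) = (LP (LK LD1_c7 LD2_c1 LD3_c23)) :=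
  Lre_a IH (LK LD1_c13 LD2_c19 LD3_c8) (LK LD1_c7 LD2_c1 LD3_c23) Lrfl Lrfl
theorem f437116 : Led Lsl_cf (LP (LK LD1_c12 LD2_c40 LD3_c53)) = (LP (LK LD1_c7 LD2_c1 LD3_c23)) :=
  Lgr Lrot1 (Lpr_at (f437114 IH) (Lpe (f130591 IH) (Lpr_at (f130595 IH) (Lpn (LP (LK LD1_c7 LD2_c1 LD3_c23))))))
theorem f130600 : Led Lsl_ft (LP (LK LD1_c13 LD2_c19 LD3_c16)) = (LP (LK LD1_c7 LD2_c1 LD3_c23)) :=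
  Lre_f IH (LK LD1_c13 LD2_c19 LD3_c16) (LK LD1_c7 LD2_c1 LD3_c23) Lrfl Lrfl
theorem f712765 : Led Lsl_cf (LP (LK LD1_c13 LD2_c19 LD3_c16)) = (LP (LK LD1_c21 LD2_c44 LD3_c57)) :=
  Lgr Lrot108 (Lpr_ft (f130600 IH) (Lpe (f437116 IH) (Lpr_ft (f712752 IH) (Lpn (LP (LK LD1_c21 LD2_c44 LD3_c57))))))
theorem f441834 : Led Lsl_et (LP (LK LD1_c7 LD2_c34 LD3_c57)) = (LP (LK LD1_c14 LD2_c17 LD3_c51)) :=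
  Lre_e IH (LK LD1_c7 LD2_c34 LD3_c57) (LK LD1_c14 LD2_c17 LD3_c51) Lrfl Lrfl
theorem f103843 : Led Lsl_et (LP (LK LD1_c12 LD2_c41 LD3_c18)) = (LP (LK LD1_c6 LD2_c37 LD3_c47)) :=
  Lre_e IH (LK LD1_c12 LD2_c41 LD3_c18) (LK LD1_c6 LD2_c37 LD3_c47) Lrfl Lrfl
theorem f712032 : Led Lsl_ct (LP (LK LD1_c14 LD2_c17 LD3_c51)) = (LP (LK LD1_c12 LD2_c41 LD3_c18)) :=
  Lgr Lrot15 (Lpe (f441834 IH) (Lpr_cf (K52.f712027 IH) (Lpe (f103843 IH) (Lpn (LP (LK LD1_c12 LD2_c41 LD3_c18))))))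
theorem f88297 : Led Lsl_dt (LP (LK LD1_c1 LD2_c50 LD3_c29)) = (LP (LK LD1_c3 LD2_c46 LD3_c47)) :=
  Lre_d IH (LK LD1_c1 LD2_c50 LD3_c29) (LK LD1_c3 LD2_c46 LD3_c47) Lrfl Lrfl
theorem f105549 : Led Lsl_at (LP (LK LD1_c3 LD2_c46 LD3_c47)) = (LP (LK LD1_c7 LD2_c0 LD3_c33)) :=
  Lgr Lrot51 (Lpe (f88297 IH) (Lpr_af (K3.f105343 IH) (Lpe (K4.f87856 IH) (Lpn (LP (LK LD1_c7 LD2_c0 LD3_c33))))))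
theorem f441346 : Led Lsl_ft (LP (LK LD1_c7 LD2_c34 LD3_c31)) = (LP (LK LD1_c3 LD2_c46 LD3_c47)) :=
  Lre_f IH (LK LD1_c7 LD2_c34 LD3_c31) (LK LD1_c3 LD2_c46 LD3_c47) Lrfl Lrfl
theorem f87859 : Led Lsl_gt (LP (LK LD1_c13 LD2_c17 LD3_c55)) = (LP (LK LD1_c7 LD2_c0 LD3_c33)) :=
  Lre_g IH (LK LD1_c13 LD2_c17 LD3_c55) (LK LD1_c7 LD2_c0 LD3_c33) Lrfl Lrfl
theorem f441822 : Led Lsl_gt (LP (LK LD1_c7 LD2_c34 LD3_c31)) = (LP (LK LD1_c13 LD2_c17 LD3_c55)) :=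
  Lgr Lrot5 (Lpr_ft (f441346 IH) (Lpr_at (f105549 IH) (Lpe (f87859 IH) (Lpn (LP (LK LD1_c13 LD2_c17 LD3_c55))))))
theorem f109876 : Led Lsl_dt (LP (LK LD1_c3 LD2_c46 LD3_c48)) = (LP (LK LD1_c7 LD2_c34 LD3_c31)) :=
  Lre_d IH (LK LD1_c3 LD2_c46 LD3_c48) (LK LD1_c7 LD2_c34 LD3_c31) Lrfl Lrfl
theorem f87769 : Led Lsl_et (LP (LK LD1_c14 LD2_c17 LD3_c51)) = (LP (LK LD1_c7 LD2_c34 LD3_c57)) :=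
  Lre_e IH (LK LD1_c14 LD2_c17 LD3_c51) (LK LD1_c7 LD2_c34 LD3_c57) Lrfl Lrfl
theorem f441826 : Led Lsl_dt (LP (LK LD1_c14 LD2_c17 LD3_c51)) = (LP (LK LD1_c13 LD2_c17 LD3_c55)) :=
  Lgr Lrot37 (Lpr_et (f87769 IH) (Lpr_gt (K52.f87761 IH) (Lpr_dt (K52.f64885 IH) (Lpe (K52.f93608 IH) (Lpe (K52.f93600 IH) (Lpr_et (K52.f93599 IH) (Lpe (K52.f109714 IH) (Lpr_ef (K3.f109877 IH) (Lpr_dt (f109876 IH) (Lpr_gt (f441822 IH) (Lpn (LP (LK LD1_c13 LD2_c17 LD3_c55)))))))))))))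
theorem f441832 : Led Lsl_df (LP (LK LD1_c14 LD2_c17 LD3_c51)) = (LP (LK LD1_c13 LD2_c17 LD3_c55)) :=
  Lgr Lrot38 (Lpr_dt (f441826 IH) (Lpn (LP (LK LD1_c13 LD2_c17 LD3_c55))))
theorem f89238 : Led Lsl_at (LP (LK LD1_c7 LD2_c35 LD3_c12)) = (LP (LK LD1_c3 LD2_c49 LD3_c32)) :=
  Lgr Lrot100 (Lpr_af (K2.f89235 IH) (Lpn (LP (LK LD1_c3 LD2_c49 LD3_c32))))
theorem f439686 : Led Lsl_ft (LP (LK LD1_c14 LD2_c18 LD3_c17)) = (LP (LK LD1_c7 LD2_c35 LD3_c12)) :=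
  Lre_f IH (LK LD1_c14 LD2_c18 LD3_c17) (LK LD1_c7 LD2_c35 LD3_c12) Lrfl Lrfl
theorem f87220 : Led Lsl_gt (LP (LK LD1_c7 LD2_c40 LD3_c0)) = (LP (LK LD1_c3 LD2_c49 LD3_c32)) :=
  Lre_g IH (LK LD1_c7 LD2_c40 LD3_c0) (LK LD1_c3 LD2_c49 LD3_c32) Lrfl Lrfl
theorem f442277 : Led Lsl_gt (LP (LK LD1_c14 LD2_c18 LD3_c17)) = (LP (LK LD1_c7 LD2_c40 LD3_c0)) :=
  Lgr Lrot5 (Lpr_ft (f439686 IH) (Lpr_at (f89238 IH) (Lpe (f87220 IH) (Lpn (LP (LK LD1_c7 LD2_c40 LD3_c0))))))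
theorem f64832 : Led Lsl_gt (LP (LK LD1_c3 LD2_c29 LD3_c27)) = (LP (LK LD1_c7 LD2_c0 LD3_c31)) :=
  Lre_g IH (LK LD1_c3 LD2_c29 LD3_c27) (LK LD1_c7 LD2_c0 LD3_c31) Lrfl Lrfl
theorem f64833 : Led Lsl_et (LP (LK LD1_c13 LD2_c17 LD3_c50)) = (LP (LK LD1_c7 LD2_c0 LD3_c31)) :=
  Lre_e IH (LK LD1_c13 LD2_c17 LD3_c50) (LK LD1_c7 LD2_c0 LD3_c31) Lrfl Lrfl
theorem f87203 : Led Lsl_dt (LP (LK LD1_c1 LD2_c51 LD3_c46)) = (LP (LK LD1_c3 LD2_c49 LD3_c32)) :=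
  Lre_d IH (LK LD1_c1 LD2_c51 LD3_c46) (LK LD1_c3 LD2_c49 LD3_c32) Lrfl Lrfl
theorem f87810 : Led Lsl_dt (LP (LK LD1_c13 LD2_c17 LD3_c50)) = (LP (LK LD1_c7 LD2_c40 LD3_c0)) :=
  Lgr Lrot136 (Lpr_et (f64833 IH) (Lpe (f64832 IH) (Lpe (K3.f64831 IH) (Lpr_dt (K3.f17797 IH) (Lpe (K3.f63138 IH) (Lpe (K3.f64618 IH) (Lpr_gf (K3.f87804 IH) (Lpe (K2.f87184 IH) (Lpr_dt (f87203 IH) (Lpe (f87220 IH) (Lpn (LP (LK LD1_c7 LD2_c40 LD3_c0)))))))))))))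
theorem f442279 : Led Lsl_gf (LP (LK LD1_c3 LD2_c46 LD3_c48)) = (LP (LK LD1_c7 LD2_c0 LD3_c31)) :=
  Lgr Lrot141 (Lpe (K3.f109869 IH) (Lpr_dt (K52.f65084 IH) (Lpr_gt (K52.f109709 IH) (Lpr_df (K52.f92654 IH) (Lpr_et (K52.f89282 IH) (Lpe (K52.f89274 IH) (Lpr_dt (K2.f89258 IH) (Lpr_gt (f442277 IH) (Lpe (f87810 IH) (Lpr_et (f64833 IH) (Lpn (LP (LK LD1_c7 LD2_c0 LD3_c31)))))))))))))
theorem f65761 : Led Lsl_et (LP (LK LD1_c3 LD2_c15 LD3_c38)) = (LP (LK LD1_c1 LD2_c34 LD3_c32)) :=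
  Lre_e IH (LK LD1_c3 LD2_c15 LD3_c38) (LK LD1_c1 LD2_c34 LD3_c32) Lrfl Lrfl
theorem f65759 : Led Lsl_dt (LP (LK LD1_c3 LD2_c15 LD3_c38)) = (LP (LK LD1_c6 LD2_c34 LD3_c34)) :=
  Lre_d IH (LK LD1_c3 LD2_c15 LD3_c38) (LK LD1_c6 LD2_c34 LD3_c34) Lrfl Lrfl
theorem f65732 : Led Lsl_gt (LP (LK LD1_c12 LD2_c35 LD3_c34)) = (LP (LK LD1_c6 LD2_c34 LD3_c34)) :=
  Lre_g IH (LK LD1_c12 LD2_c35 LD3_c34) (LK LD1_c6 LD2_c34 LD3_c34) Lrfl Lrfl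
theorem f103844 : Led Lsl_dt (LP (LK LD1_c12 LD2_c41 LD3_c18)) = (LP (LK LD1_c12 LD2_c35 LD3_c34)) :=
  Lgr Lrot136 (Lpr_et (f103843 IH) (Lpe (K48.f66079 IH) (Lpe (K48.f66097 IH) (Lpr_dt (K3.f61998 IH) (Lpr_gf (K3.f103812 IH) (Lpe (K3.f103828 IH) (Lpe (K3.f65631 IH) (Lpe (f65761 IH) (Lpr_dt (f65759 IH) (Lpe (f65732 IH) (Lpn (LP (LK LD1_c12 LD2_c35 LD3_c34)))))))))))))
theorem f103846 : Led Lsl_df (LP (LK LD1_c12 LD2_c41 LD3_c18)) = (LP (LK LD1_c12 LD2_c35 LD3_c34)) :=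
  Lgr Lrot38 (Lpr_dt (f103844 IH) (Lpn (LP (LK LD1_c12 LD2_c35 LD3_c34))))
theorem f151009 : Led Lsl_af (LP (LK LD1_c6 LD2_c34 LD3_c34)) = (LP (LK LD1_c12 LD2_c1 LD3_c43)) :=
  Lgr Lrot0 (Lpr_at (K51.f150964 IH) (Lpn (LP (LK LD1_c12 LD2_c1 LD3_c43))))
theorem f96276 : Led Lsl_ft (LP (LK LD1_c21 LD2_c7 LD3_c10)) = (LP (LK LD1_c12 LD2_c1 LD3_c43)) :=
  Lre_f IH (LK LD1_c21 LD2_c7 LD3_c10) (LK LD1_c12 LD2_c1 LD3_c43) Lrfl Lrfl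
theorem f151033 : Led Lsl_gf (LP (LK LD1_c12 LD2_c35 LD3_c34)) = (LP (LK LD1_c21 LD2_c7 LD3_c10)) :=
  Lgr Lrot47 (Lpr_gt (f65732 IH) (Lpr_af (f151009 IH) (Lpe (f96276 IH) (Lpn (LP (LK LD1_c21 LD2_c7 LD3_c10))))))
theorem f96280 : Led Lsl_dt (LP (LK LD1_c12 LD2_c1 LD3_c44)) = (LP (LK LD1_c21 LD2_c7 LD3_c10)) :=
  Lre_d IH (LK LD1_c12 LD2_c1 LD3_c44) (LK LD1_c21 LD2_c7 LD3_c10) Lrfl Lrfl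
theorem f130655 : Led Lsl_af (LP (LK LD1_c12 LD2_c1 LD3_c44)) = (LP (LK LD1_c6 LD2_c34 LD3_c35)) :=
  Lgr Lrot68 (Lpe (K4.f96256 IH) (Lpr_at (K5.f130648 IH) (Lpe (K52.f65722 IH) (Lpn (LP (LK LD1_c6 LD2_c34 LD3_c35))))))
theorem f65725 : Led Lsl_gt (LP (LK LD1_c3 LD2_c15 LD3_c38)) = (LP (LK LD1_c6 LD2_c34 LD3_c32)) :=
  Lre_g IH (LK LD1_c3 LD2_c15 LD3_c38) (LK LD1_c6 LD2_c34 LD3_c32) Lrfl Lrfl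
theorem f439885 : Led Lsl_gf (LP (LK LD1_c12 LD2_c1 LD3_c44)) = (LP (LK LD1_c6 LD2_c34 LD3_c32)) :=
  Lgr Lrot76 (Lpr_af (f130655 IH) (Lpe (K52.f65755 IH) (Lpr_gt (f65725 IH) (Lpn (LP (LK LD1_c6 LD2_c34 LD3_c32))))))
theorem f712115 : Led Lsl_cf (LP (LK LD1_c7 LD2_c0 LD3_c31)) = (LP (LK LD1_c6 LD2_c34 LD3_c32)) :=
  Lgr Lrot166 (Lpe (f442279 IH) (Lpr_dt (f109876 IH) (Lpr_gt (f441822 IH) (Lpe (f441832 IH) (Lpr_ct (f712032 IH) (Lpr_df (f103846 IH) (Lpr_gf (f151033 IH) (Lpe (f96280 IH) (Lpr_gf (f439885 IH) (Lpn (LP (LK LD1_c6 LD2_c34 LD3_c32))))))))))))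
theorem f712118 : Led Lsl_ct (LP (LK LD1_c7 LD2_c0 LD3_c31)) = (LP (LK LD1_c6 LD2_c34 LD3_c32)) :=
  Lgr Lrot59 (Lpr_cf (f712115 IH) (Lpn (LP (LK LD1_c6 LD2_c34 LD3_c32))))
def v13314 : LQ := Led Lsl_gf (LP (LK LD1_c4 LD2_c43 LD3_c5))
theorem f702289 : Led Lsl_gf (LP (LK LD1_c4 LD2_c43 LD3_c5)) = v13314 :=
  Lrfl
def v5817 : LQ := Led Lsl_gt (LP (LK LD1_c3 LD2_c13 LD3_c47))
theorem f649567 : Led Lsl_gt (LP (LK LD1_c3 LD2_c13 LD3_c47)) = v5817 :=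
  Lrfl
def v6383 : LQ := Led Lsl_gf (LP (LK LD1_c3 LD2_c21 LD3_c13))
theorem f653132 : Led Lsl_gf (LP (LK LD1_c3 LD2_c21 LD3_c13)) = v6383 :=
  Lrfl
theorem f653141 : Led Lsl_gt K49.v3196 = v6383 :=
  Lgr Lrot5 (Lpr_ft (K49.f653139 IH) (Lpe (K49.f653136 IH) (Lpr_gf (f653132 IH) (Lpn v6383))))
theorem f662835 : v6383 = v5817 :=
  Lefun (Lecon (f653141 IH) (K49.f662812 IH)) (f649567 IH)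
theorem f653133 : Led Lsl_ct K49.v2540 = v6383 :=
  Lgr Lrot91 (Lpe (K49.f527248 IH) (Lpr_bf (K6.f26234 IH) (Lpr_ct (K46.f104096 IH) (Lpe (K5.f66024 IH) (Lpe (K5.f66031 IH) (Lpr_bt (K51.f66046 IH) (Lpe (K46.f62164 IH) (Lpqs (K48.f651564 IH) (Lpe (K48.f509464 IH) (Lpr_ct (K49.f414094 IH) (Lpr_gf (f653132 IH) (Lpn v6383))))))))))))
theorem f705767 : Led Lsl_bf (LP (LK LD1_c9 LD2_c26 LD3_c59)) = K51.v13897 :=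
  Lgr Lrot34 (Lpe (K51.f527256 IH) (Lpr_bf (K49.f527251 IH) (Lpr_ct (f653133 IH) (Lpqs (f662835 IH) (Lpe (f649567 IH) (Lpe (K5.f129285 IH) (Lpq (K49.f662785 IH) (Lpr_gf (K48.f454772 IH) (Lpr_bf (K46.f454629 IH) (Lpr_ct (K51.f454386 IH) (Lpe (K51.f454414 IH) (Lpr_cf (K51.f705765 IH) (Lpn K51.v13897)))))))))))))
theorem f705768 : Led Lsl_bt (LP (LK LD1_c9 LD2_c26 LD3_c59)) = K51.v13897 :=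
  Lgr Lrot127 (Lpr_bf (f705767 IH) (Lpn K51.v13897))
def v13554 : LQ := Led Lsl_gf (LP (LK LD1_c4 LD2_c45 LD3_c26))
theorem f703664 : Led Lsl_gf (LP (LK LD1_c4 LD2_c45 LD3_c26)) = v13554 :=
  Lrfl
theorem f98963 : Led Lsl_ct (LP (LK LD1_c2 LD2_c20 LD3_c49)) = (LP (LK LD1_c4 LD2_c45 LD3_c26)) :=
  Lre_c IH (LK LD1_c2 LD2_c20 LD3_c49) (LK LD1_c4 LD2_c45 LD3_c26) Lrfl Lrfl
def v583 : LQ := Led Lsl_ft (LP (LK LD1_c0 LD2_c46 LD3_c12))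
theorem f455014 : Led Lsl_ft (LP (LK LD1_c0 LD2_c46 LD3_c12)) = v583 :=
  Lrfl
theorem f455017 : Led Lsl_df (LP (LK LD1_c0 LD2_c46 LD3_c13)) = v583 :=
  Lgr Lrot78 (Lpr_ft (K3.f94343 IH) (Lpr_dt (K2.f91957 IH) (Lpr_ft (f455014 IH) (Lpn v583))))
theorem f455018 : Led Lsl_ff (LP (LK LD1_c0 LD2_c46 LD3_c12)) = v583 :=
  Lgr Lrot3 (Lpr_ft (f455014 IH) (Lpn v583))
theorem f102392 : Led Lsl_at (LP (LK LD1_c0 LD2_c46 LD3_c12)) = (LP (LK LD1_c1 LD2_c7 LD3_c31)) :=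
  Lgr Lrot107 (Lpe (K2.f91954 IH) (Lpr_af (K4.f102388 IH) (Lpe (K3.f99090 IH) (Lpn (LP (LK LD1_c1 LD2_c7 LD3_c31))))))
theorem f455019 : Led Lsl_at (LP (LK LD1_c0 LD2_c46 LD3_c22)) = v583 :=
  Lgr Lrot66 (Lpr_ff (K3.f102374 IH) (Lpe (f102392 IH) (Lpr_ff (f455018 IH) (Lpn v583))))
theorem f455022 : Led Lsl_gt (LP (LK LD1_c1 LD2_c48 LD3_c41)) = v583 :=
  Lgr Lrot46 (Lpr_gf (K30.f209798 IH) (Lpe (K3.f102374 IH) (Lpr_at (f455019 IH) (Lpn v583))))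
def v2562 : LQ := Led Lsl_et (LP (LK LD1_c1 LD2_c48 LD3_c41))
theorem f527492 : Led Lsl_et (LP (LK LD1_c1 LD2_c48 LD3_c41)) = v2562 :=
  Lrfl
theorem f527496 : Led Lsl_ef (LP (LK LD1_c1 LD2_c48 LD3_c41)) = v2562 :=
  Lgr Lrot88 (Lpr_et (f527492 IH) (Lpn v2562))
theorem f94025 : Led Lsl_et (LP (LK LD1_c3 LD2_c13 LD3_c44)) = (LP (LK LD1_c1 LD2_c33 LD3_c25)) :=
  Lre_e IH (LK LD1_c3 LD2_c13 LD3_c44) (LK LD1_c1 LD2_c33 LD3_c25) Lrfl Lrfl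
theorem f527495 : Led Lsl_df (LP (LK LD1_c3 LD2_c13 LD3_c44)) = v2562 :=
  Lgr Lrot70 (Lpr_et (f94025 IH) (Lpr_dt (K2.f23703 IH) (Lpe (K4.f106140 IH) (Lpr_dt (K30.f148088 IH) (Lpr_et (f527492 IH) (Lpn v2562))))))
def v5811 : LQ := Led Lsl_gf (LP (LK LD1_c3 LD2_c13 LD3_c44))
theorem f649539 : Led Lsl_gf (LP (LK LD1_c3 LD2_c13 LD3_c44)) = v5811 :=
  Lrfl
def v4433 : LQ := Led Lsl_et (LP (LK LD1_c2 LD2_c21 LD3_c29))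
theorem f633343 : Led Lsl_et (LP (LK LD1_c2 LD2_c21 LD3_c29)) = v4433 :=
  Lrfl
theorem f633345 : Led Lsl_ef (LP (LK LD1_c2 LD2_c21 LD3_c29)) = v4433 :=
  Lgr Lrot88 (Lpr_et (f633343 IH) (Lpn v4433))
theorem f98967 : Led Lsl_et (LP (LK LD1_c1 LD2_c7 LD3_c58)) = (LP (LK LD1_c2 LD2_c21 LD3_c31)) :=
  Lre_e IH (LK LD1_c1 LD2_c7 LD3_c58) (LK LD1_c2 LD2_c21 LD3_c31) Lrfl Lrfl
theorem f633346 : Led Lsl_bt (LP (LK LD1_c2 LD2_c21 LD3_c31)) = v4433 :=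
  Lgr Lrot119 (Lpe (f98967 IH) (Lpe (K49.f76949 IH) (Lpr_ef (f633345 IH) (Lpn v4433))))
theorem f23326 : Led Lsl_dt (LP (LK LD1_c0 LD2_c31 LD3_c3)) = (LP (LK LD1_c0 LD2_c13 LD3_c47)) :=
  Lre_d IH (LK LD1_c0 LD2_c31 LD3_c3) (LK LD1_c0 LD2_c13 LD3_c47) Lrfl Lrfl
theorem f98955 : Led Lsl_et (LP (LK LD1_c0 LD2_c13 LD3_c49)) = (LP (LK LD1_c0 LD2_c31 LD3_c9)) :=
  Lre_e IH (LK LD1_c0 LD2_c13 LD3_c49) (LK LD1_c0 LD2_c31 LD3_c9) Lrfl Lrfl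
theorem f98956 : Led Lsl_et (LP (LK LD1_c2 LD2_c21 LD3_c31)) = (LP (LK LD1_c1 LD2_c7 LD3_c58)) :=
  Lre_e IH (LK LD1_c2 LD2_c21 LD3_c31) (LK LD1_c1 LD2_c7 LD3_c58) Lrfl Lrfl
theorem f58337 : Led Lsl_et (LP (LK LD1_c2 LD2_c17 LD3_c16)) = (LP (LK LD1_c1 LD2_c5 LD3_c35)) :=
  Lre_e IH (LK LD1_c2 LD2_c17 LD3_c16) (LK LD1_c1 LD2_c5 LD3_c35) Lrfl Lrfl
theorem f98957 : Led Lsl_dt (LP (LK LD1_c2 LD2_c17 LD3_c16)) = (LP (LK LD1_c1 LD2_c7 LD3_c45)) :=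
  Lre_d IH (LK LD1_c2 LD2_c17 LD3_c16) (LK LD1_c1 LD2_c7 LD3_c45) Lrfl Lrfl
theorem f98958 : Led Lsl_gt (LP (LK LD1_c2 LD2_c20 LD3_c49)) = (LP (LK LD1_c1 LD2_c7 LD3_c45)) :=
  Lre_g IH (LK LD1_c2 LD2_c20 LD3_c49) (LK LD1_c1 LD2_c7 LD3_c45) Lrfl Lrfl
theorem f98959 : Led Lsl_dt (LP (LK LD1_c2 LD2_c21 LD3_c31)) = (LP (LK LD1_c2 LD2_c20 LD3_c49)) :=
  Lgr Lrot136 (Lpr_et (f98956 IH) (Lpe (K35.f76948 IH) (Lpe (f98955 IH) (Lpr_dt (K3.f13782 IH) (Lpe (K0.f23306 IH) (Lpe (f23326 IH) (Lpr_gf (K3.f98945 IH) (Lpe (f58337 IH) (Lpr_dt (f98957 IH) (Lpe (f98958 IH) (Lpn (LP (LK LD1_c2 LD2_c20 LD3_c49)))))))))))))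
theorem f98965 : Led Lsl_df (LP (LK LD1_c2 LD2_c21 LD3_c31)) = (LP (LK LD1_c2 LD2_c20 LD3_c49)) :=
  Lgr Lrot38 (Lpr_dt (f98959 IH) (Lpn (LP (LK LD1_c2 LD2_c20 LD3_c49))))
theorem f633348 : Led Lsl_df K35.v4408 = v4433 :=
  Lgr Lrot12 (Lpe (K35.f633191 IH) (Lpe (f98965 IH) (Lpr_bt (f633346 IH) (Lpn v4433))))
theorem f663085 : v5811 = K35.v4408 :=
  (Llr Lrot145 (Lpe (f649539 IH) (Lpr_df (f527495 IH) (Lpe (f527496 IH) (Lpr_gt (f455022 IH) (Lpe (f455017 IH) (Lpe (K3.f107261 IH) (Lpe (K5.f107268 IH) (Lpr_et (K49.f523705 IH) (Lpq (K49.f663084 IH) (Lpe (K49.f633335 IH) (Lpr_ef (f633345 IH) (Lpe (f633348 IH) (Lpn K35.v4408)))))))))))))).symm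
theorem f129283 : Led Lsl_bt (LP (LK LD1_c1 LD2_c33 LD3_c27)) = (LP (LK LD1_c3 LD2_c13 LD3_c44)) :=
  Lre_b IH (LK LD1_c1 LD2_c33 LD3_c27) (LK LD1_c3 LD2_c13 LD3_c44) Lrfl Lrfl
theorem f703666 : Led Lsl_ct (LP (LK LD1_c9 LD2_c26 LD3_c59)) = v13554 :=
  Lgr Lrot91 (Lpe (K51.f527256 IH) (Lpr_bf (K49.f527251 IH) (Lpr_ct (f653133 IH) (Lpqs (f662835 IH) (Lpe (f649567 IH) (Lpe (K5.f129285 IH) (Lpr_bt (f129283 IH) (Lpr_gf (f649539 IH) (Lpqs (f663085 IH) (Lpe (K35.f633190 IH) (Lpr_ct (f98963 IH) (Lpr_gf (f703664 IH) (Lpn v13554)))))))))))))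
theorem f633381 : Led Lsl_ff (LP (LK LD1_c2 LD2_c21 LD3_c30)) = K35.v4437 :=
  Lgr Lrot3 (Lpr_ft (K35.f633378 IH) (Lpn K35.v4437))
theorem f633394 : Led Lsl_ct K49.v1353 = K35.v4437 :=
  Lgr Lrot40 (Lpe (K49.f495063 IH) (Lpe (K51.f495046 IH) (Lpr_ff (f633381 IH) (Lpn K35.v4437))))
theorem f674022 : K35.v4437 = (LP (LK LD1_c4 LD2_c45 LD3_c26)) :=
  Lefun (Lecon (f633394 IH) (K49.f674014 IH)) (f98963 IH)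
theorem f633368 : Led Lsl_ff (LP (LK LD1_c2 LD2_c21 LD3_c32)) = K35.v4436 :=
  Lgr Lrot3 (Lpr_ft (K35.f633366 IH) (Lpn K35.v4436))
theorem f633393 : Led Lsl_at (LP (LK LD1_c2 LD2_c21 LD3_c32)) = K35.v4437 :=
  Lgr Lrot66 (Lpr_ff (f633368 IH) (Lpe (K35.f633361 IH) (Lpr_ff (f633381 IH) (Lpn K35.v4437))))
theorem f703665 : Led Lsl_gt K35.v4436 = v13554 :=
  Lgr Lrot5 (Lpe (f633368 IH) (Lpr_at (f633393 IH) (Lpqs (f674022 IH) (Lpr_gf (f703664 IH) (Lpn v13554)))))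
theorem f633365 : Led Lsl_ct K35.v1351 = K35.v4436 :=
  Lgr Lrot59 (Lpr_cf (K35.f633364 IH) (Lpn K35.v4436))
theorem f705769 : Led Lsl_gf (LP (LK LD1_c6 LD2_c50 LD3_c47)) = K51.v13897 :=
  Lgr Lrot124 (Lpr_bf (K46.f653973 IH) (Lpe (K46.f650534 IH) (Lpr_gt (K46.f443304 IH) (Lpe (K49.f113044 IH) (Lpr_bt (K49.f414292 IH) (Lpr_gt (K49.f495016 IH) (Lpq (K49.f674006 IH) (Lpr_ct (f633365 IH) (Lpr_gt (f703665 IH) (Lpe (f703666 IH) (Lpr_bt (f705768 IH) (Lpn K51.v13897))))))))))))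
theorem f702290 : Led Lsl_gt (LP (LK LD1_c6 LD2_c32 LD3_c43)) = v13314 :=
  Lgr Lrot5 (Lpr_ft (K51.f103544 IH) (Lpr_at (K4.f120610 IH) (Lpr_gf (f702289 IH) (Lpn v13314))))
theorem f708455 : (LP (LK LD1_c6 LD2_c50 LD3_c47)) = v13314 :=
  Lefun (Lecon (Lfl_gf (f705769 IH)) (K51.f708447 IH).symm) (f702290 IH)
theorem f653359 : Led Lsl_af K46.v3200 = K51.v6426 :=
  Lgr Lrot45 (Lpr_ft (K46.f653348 IH) (Lpe (K46.f653344 IH) (Lpr_ft (K51.f653358 IH) (Lpn K51.v6426))))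
theorem f653362 : Led Lsl_gt K46.v6422 = K46.v3200 :=
  Lgr Lrot46 (Lpe (K46.f653340 IH) (Lpr_ft (K51.f653358 IH) (Lpe (f653359 IH) (Lpn K46.v3200))))
theorem f91784 : Led Lsl_gt (LP (LK LD1_c6 LD2_c32 LD3_c46)) = (LP (LK LD1_c3 LD2_c14 LD3_c38)) :=
  Lre_g IH (LK LD1_c6 LD2_c32 LD3_c46) (LK LD1_c3 LD2_c14 LD3_c38) Lrfl Lrfl
theorem f708065 : K46.v6422 = (LP (LK LD1_c6 LD2_c32 LD3_c46)) :=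
  Lefun (Lecon (Lfl_gt (f653362 IH)) (K51.f708032 IH)) (Lfl_gt (f91784 IH))
theorem f708070 : Led Lsl_bt (LP (LK LD1_c6 LD2_c32 LD3_c46)) = (LP (LK LD1_c12 LD2_c32 LD3_c57)) :=
  Lre_b IH (LK LD1_c6 LD2_c32 LD3_c46) (LK LD1_c12 LD2_c32 LD3_c57) Lrfl Lrfl
theorem f712128 : Led Lsl_gf (LP (LK LD1_c12 LD2_c32 LD3_c57)) = (LP (LK LD1_c13 LD2_c19 LD3_c16)) :=
  Lgr Lrot124 (Lpe (f708070 IH) (Lpq (f708065 IH) (Lpe (K46.f653978 IH) (Lpqs (f708455 IH) (Lpe (f702289 IH) (Lpe (K4.f120603 IH) (Lpr_bt (K4.f109968 IH) (Lpr_gt (f64832 IH) (Lpr_ct (f712118 IH) (Lpe (f439885 IH) (Lpe (K4.f96272 IH) (Lpr_bt (K53.f96270 IH) (Lpn (LP (LK LD1_c13 LD2_c19 LD3_c16)))))))))))))))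
theorem f624215 : Led Lsl_bt (LP (LK LD1_c21 LD2_c44 LD3_c57)) = (LP (LK LD1_c12 LD2_c38 LD3_c26)) :=
  Lre_b IH (LK LD1_c21 LD2_c44 LD3_c57) (LK LD1_c12 LD2_c38 LD3_c26) Lrfl Lrfl
theorem f624406 : Led Lsl_bt (LP (LK LD1_c6 LD2_c36 LD3_c2)) = (LP (LK LD1_c3 LD2_c16 LD3_c20)) :=
  Lre_b IH (LK LD1_c6 LD2_c36 LD3_c2) (LK LD1_c3 LD2_c16 LD3_c20) Lrfl Lrfl
theorem f712767 : Led Lsl_cf (LP (LK LD1_c12 LD2_c32 LD3_c57)) = (LP (LK LD1_c6 LD2_c36 LD3_c2)) :=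
  Lgr Lrot58 (Lpr_gf (f712128 IH) (Lpr_cf (f712765 IH) (Lpr_bt (f624215 IH) (Lpe (f62159 IH) (Lpe (K52.f62131 IH) (Lpr_ct (K49.f62120 IH) (Lpe (K32.f62109 IH) (Lpe (K46.f113043 IH) (Lpe (K46.f443304 IH) (Lpe (f624406 IH) (Lpn (LP (LK LD1_c6 LD2_c36 LD3_c2)))))))))))))
theorem f130588 : Led Lsl_at (LP (LK LD1_c7 LD2_c1 LD3_c23)) = (LP (LK LD1_c13 LD2_c19 LD3_c8)) :=
  Lre_a IH (LK LD1_c7 LD2_c1 LD3_c23) (LK LD1_c13 LD2_c19 LD3_c8) Lrfl Lrfl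
theorem f712130 : Led Lsl_gt (LP (LK LD1_c12 LD2_c32 LD3_c57)) = (LP (LK LD1_c13 LD2_c19 LD3_c8)) :=
  Lgr Lrot46 (Lpr_gf (f712128 IH) (Lpr_ft (f130600 IH) (Lpr_at (f130588 IH) (Lpn (LP (LK LD1_c13 LD2_c19 LD3_c8))))))
theorem f509369 : Led Lsl_bt (LP (LK LD1_c3 LD2_c17 LD3_c57)) = (LP (LK LD1_c1 LD2_c35 LD3_c37)) :=
  Lre_b IH (LK LD1_c3 LD2_c17 LD3_c57) (LK LD1_c1 LD2_c35 LD3_c37) Lrfl Lrfl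
theorem f76997 : Led Lsl_ct (LP (LK LD1_c3 LD2_c17 LD3_c57)) = (LP (LK LD1_c1 LD2_c36 LD3_c41)) :=
  Lre_c IH (LK LD1_c3 LD2_c17 LD3_c57) (LK LD1_c1 LD2_c36 LD3_c41) Lrfl Lrfl
theorem f509358 : Led Lsl_ct (LP (LK LD1_c6 LD2_c44 LD3_c45)) = (LP (LK LD1_c3 LD2_c20 LD3_c30)) :=
  Lre_c IH (LK LD1_c6 LD2_c44 LD3_c45) (LK LD1_c3 LD2_c20 LD3_c30) Lrfl Lrfl
theorem f712773 : Led Lsl_gt (LP (LK LD1_c9 LD2_c11 LD3_c15)) = (LP (LK LD1_c6 LD2_c44 LD3_c45)) :=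
  Lgr Lrot82 (Lpe (K5.f130576 IH) (Lpe (f130591 IH) (Lpe (f712130 IH) (Lpr_cf (f712767 IH) (Lpr_bt (f624406 IH) (Lpe (K46.f453927 IH) (Lpe (f509369 IH) (Lpr_ct (f76997 IH) (Lpe (K40.f100274 IH) (Lpe (f509358 IH) (Lpn (LP (LK LD1_c6 LD2_c44 LD3_c45)))))))))))))
theorem f712853 : Led Lsl_gf (LP (LK LD1_c12 LD2_c47 LD3_c23)) = (LP (LK LD1_c6 LD2_c44 LD3_c45)) :=
  Lgr Lrot76 (Lpe (f712742 IH) (Lpe (f710199 IH) (Lpr_gt (f712773 IH) (Lpn (LP (LK LD1_c6 LD2_c44 LD3_c45))))))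
theorem f712735 : Led Lsl_ct (LP (LK LD1_c12 LD2_c44 LD3_c29)) = (LP (LK LD1_c12 LD2_c47 LD3_c23)) :=
  Lre_c IH (LK LD1_c12 LD2_c44 LD3_c29) (LK LD1_c12 LD2_c47 LD3_c23) Lrfl Lrfl
theorem f56795 : Led Lsl_gt (LP (LK LD1_c11 LD2_c26 LD3_c2)) = (LP (LK LD1_c5 LD2_c48 LD3_c15)) :=
  Lre_g IH (LK LD1_c11 LD2_c26 LD3_c2) (LK LD1_c5 LD2_c48 LD3_c15) Lrfl Lrfl
theorem f710180 : Led Lsl_gf (LP (LK LD1_c11 LD2_c26 LD3_c2)) = (LP (LK LD1_c12 LD2_c54 LD3_c49)) :=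
  Lgr Lrot47 (Lpr_gt (f56795 IH) (Lpe (K51.f56791 IH) (Lpr_ff (f710176 IH) (Lpn (LP (LK LD1_c12 LD2_c54 LD3_c49))))))
def v1907 : LQ := Led Lsl_bt (LP (LK LD1_c1 LD2_c31 LD3_c21))
theorem f506346 : Led Lsl_bt (LP (LK LD1_c1 LD2_c31 LD3_c21)) = v1907 :=
  Lrfl
theorem f506347 : Led Lsl_bf (LP (LK LD1_c1 LD2_c31 LD3_c21)) = v1907 :=
  Lgr Lrot24 (Lpr_bt (f506346 IH) (Lpn v1907))
theorem f549470 : (LP (LK LD1_c2 LD2_c55 LD3_c7)) = v1907 :=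
  (Llr Lrot74 (Lpe (K51.f424613 IH) (Lpr_bf (K51.f549461 IH) (Lpe (K32.f68630 IH) (Lpr_bf (f506347 IH) (Lpn v1907)))))).symm
theorem f549473 : Led Lsl_bf (LP (LK LD1_c2 LD2_c55 LD3_c14)) = (LP (LK LD1_c2 LD2_c19 LD3_c1)) :=
  Lgr Lrot61 (Lpr_ft (K28.f424616 IH) (Lpqs (f549470 IH) (Lpe (f506347 IH) (Lpr_ft (K36.f449230 IH) (Lpn (LP (LK LD1_c2 LD2_c19 LD3_c1)))))))
theorem f449236 : Led Lsl_at (LP (LK LD1_c1 LD2_c31 LD3_c22)) = (LP (LK LD1_c2 LD2_c19 LD3_c1)) :=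
  Lgr Lrot100 (Lpr_af (K36.f449234 IH) (Lpn (LP (LK LD1_c2 LD2_c19 LD3_c1))))
def v1909 : LQ := Led Lsl_bt (LP (LK LD1_c1 LD2_c31 LD3_c22))
theorem f506351 : Led Lsl_bt (LP (LK LD1_c1 LD2_c31 LD3_c22)) = v1909 :=
  Lrfl
theorem f506352 : Led Lsl_bf (LP (LK LD1_c1 LD2_c31 LD3_c22)) = v1909 :=
  Lgr Lrot24 (Lpr_bt (f506351 IH) (Lpn v1909))
theorem f549477 : (LP (LK LD1_c2 LD2_c14 LD3_c50)) = v1909 :=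
  (Llr Lrot67 (Lpe (K8.f163107 IH) (Lpe (K6.f81957 IH) (Lpr_af (K8.f163164 IH) (Lpr_bf (f549473 IH) (Lpe (f449236 IH) (Lpr_bf (f506352 IH) (Lpn v1909)))))))).symm
theorem f549480 : Led Lsl_bf (LP (LK LD1_c4 LD2_c35 LD3_c17)) = v1911 :=
  Lgr Lrot96 (Lpr_et (K51.f161445 IH) (Lpqs (f549477 IH) (Lpe (f506352 IH) (Lpr_et (f506356 IH) (Lpn v1911)))))
theorem f549481 : Led Lsl_bt (LP (LK LD1_c4 LD2_c35 LD3_c17)) = v1911 :=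
  Lgr Lrot127 (Lpr_bf (f549480 IH) (Lpn v1911))
theorem f163125 : Led Lsl_ct (LP (LK LD1_c4 LD2_c35 LD3_c17)) = (LP (LK LD1_c9 LD2_c7 LD3_c10)) :=
  Lre_c IH (LK LD1_c4 LD2_c35 LD3_c17) (LK LD1_c9 LD2_c7 LD3_c10) Lrfl Lrfl
theorem f161639 : Led Lsl_gt (LP (LK LD1_c16 LD2_c59 LD3_c26)) = (LP (LK LD1_c9 LD2_c7 LD3_c10)) :=
  Lre_g IH (LK LD1_c16 LD2_c59 LD3_c26) (LK LD1_c9 LD2_c7 LD3_c10) Lrfl Lrfl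
theorem f735919 : Led Lsl_ct (LP (LK LD1_c11 LD2_c26 LD3_c2)) = (LP (LK LD1_c16 LD2_c59 LD3_c26)) :=
  Lgr Lrot91 (Lpr_gf (f710180 IH) (Lpr_bf (f712723 IH) (Lpr_ct (f712735 IH) (Lpr_gf (f712853 IH) (Lpe (f509268 IH) (Lpr_bt (f652708 IH) (Lpq (f735906 IH) (Lpe (f670320 IH) (Lpe (f549481 IH) (Lpr_ct (f163125 IH) (Lpe (f161639 IH) (Lpn (LP (LK LD1_c16 LD2_c59 LD3_c26))))))))))))))
theorem f735920 : Led Lsl_ct (LP (LK LD1_c11 LD2_c26 LD3_c2)) = (LP (LK LD1_c16 LD2_c59 LD3_c26)) :=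
  Leop (Lpe (f735919 IH) (Lpn (LP (LK LD1_c11 LD2_c26 LD3_c2))))
theorem seed_893 : LEOK LG_c (LK LD1_c11 LD2_c26 LD3_c2) :=
  Leoe_c (LK LD1_c11 LD2_c26 LD3_c2) (f735920 IH)
def v15370 : LQ := Led Lsl_bt (LP (LK LD1_c5 LD2_c37 LD3_c34))
theorem f735935 : Led Lsl_bt (LP (LK LD1_c5 LD2_c37 LD3_c34)) = v15370 :=
  Lrfl
theorem f174263 : Led Lsl_ft (LP (LK LD1_c2 LD2_c47 LD3_c3)) = (LP (LK LD1_c5 LD2_c42 LD3_c11)) :=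
  Lre_f IH (LK LD1_c2 LD2_c47 LD3_c3) (LK LD1_c5 LD2_c42 LD3_c11) Lrfl Lrfl
theorem f732664 : Led Lsl_ct (LP (LK LD1_c5 LD2_c42 LD3_c11)) = v15167 :=
  Lgr Lrot40 (Lpe (f174263 IH) (Lpe (K27.f174247 IH) (Lpr_ff (f732662 IH) (Lpn v15167))))
theorem f180296 : Led Lsl_bt (LP (LK LD1_c6 LD2_c3 LD3_c16)) = (LP (LK LD1_c2 LD2_c57 LD3_c48)) :=
  Lre_b IH (LK LD1_c6 LD2_c3 LD3_c16) (LK LD1_c2 LD2_c57 LD3_c48) Lrfl Lrfl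
theorem f180297 : Led Lsl_ct (LP (LK LD1_c6 LD2_c3 LD3_c16)) = (LP (LK LD1_c11 LD2_c50 LD3_c20)) :=
  Lre_c IH (LK LD1_c6 LD2_c3 LD3_c16) (LK LD1_c11 LD2_c50 LD3_c20) Lrfl Lrfl
theorem f645470 : Led Lsl_ct (LP (LK LD1_c9 LD2_c13 LD3_c47)) = (LP (LK LD1_c17 LD2_c8 LD3_c5)) :=
  Lre_c IH (LK LD1_c9 LD2_c13 LD3_c47) (LK LD1_c17 LD2_c8 LD3_c5) Lrfl Lrfl
theorem f407095 : Led Lsl_dt (LP (LK LD1_c11 LD2_c21 LD3_c17)) = (LP (LK LD1_c20 LD2_c18 LD3_c60)) :=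
  Lre_d IH (LK LD1_c11 LD2_c21 LD3_c17) (LK LD1_c20 LD2_c18 LD3_c60) Lrfl Lrfl
theorem f712620 : Led Lsl_gf (LP (LK LD1_c27 LD2_c0 LD3_c54)) = (LP (LK LD1_c20 LD2_c18 LD3_c60)) :=
  Lgr Lrot143 (Lpr_dt (K52.f645474 IH) (Lpe (f645470 IH) (Lpe (K52.f645472 IH) (Lpqs (K52.f710597 IH) (Lpe (K52.f641090 IH) (Lpr_df (K51.f621110 IH) (Lpqs (K51.f706195 IH) (Lpe (K51.f640466 IH) (Lpe (K52.f634021 IH) (Lpe (K52.f710548 IH) (Lpr_dt (f407095 IH) (Lpn (LP (LK LD1_c20 LD2_c18 LD3_c60))))))))))))))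
theorem f712622 : Led Lsl_gt (LP (LK LD1_c11 LD2_c50 LD3_c19)) = (LP (LK LD1_c20 LD2_c18 LD3_c60)) :=
  Lgr Lrot5 (Lpr_ft (K52.f645526 IH) (Lpr_at (K52.f645525 IH) (Lpr_gf (f712620 IH) (Lpn (LP (LK LD1_c20 LD2_c18 LD3_c60))))))
theorem f501167 : Led Lsl_dt (LP (LK LD1_c6 LD2_c3 LD3_c15)) = (LP (LK LD1_c11 LD2_c50 LD3_c19)) :=
  Lre_d IH (LK LD1_c6 LD2_c3 LD3_c15) (LK LD1_c11 LD2_c50 LD3_c19) Lrfl Lrfl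
theorem f645655 : Led Lsl_et (LP (LK LD1_c6 LD2_c3 LD3_c15)) = (LP (LK LD1_c11 LD2_c50 LD3_c20)) :=
  Lre_e IH (LK LD1_c6 LD2_c3 LD3_c15) (LK LD1_c11 LD2_c50 LD3_c20) Lrfl Lrfl
theorem f561320 : Led Lsl_et (LP (LK LD1_c9 LD2_c2 LD3_c6)) = (LP (LK LD1_c16 LD2_c52 LD3_c14)) :=
  Lre_e IH (LK LD1_c9 LD2_c2 LD3_c6) (LK LD1_c16 LD2_c52 LD3_c14) Lrfl Lrfl
theorem f712626 : Led Lsl_gf (LP (LK LD1_c11 LD2_c50 LD3_c20)) = (LP (LK LD1_c16 LD2_c52 LD3_c14)) :=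
  Lgr Lrot141 (Lpe (f645655 IH) (Lpr_dt (f501167 IH) (Lpr_gt (f712622 IH) (Lpe (f407095 IH) (Lpr_et (K52.f407094 IH) (Lpe (K31.f407092 IH) (Lpr_dt (K39.f385446 IH) (Lpr_gt (K39.f385511 IH) (Lpr_df (K43.f561315 IH) (Lpr_et (f561320 IH) (Lpn (LP (LK LD1_c16 LD2_c52 LD3_c14)))))))))))))
theorem f424211 : Led Lsl_et (LP (LK LD1_c5 LD2_c37 LD3_c52)) = (LP (LK LD1_c11 LD2_c7 LD3_c6)) :=
  Lre_e IH (LK LD1_c5 LD2_c37 LD3_c52) (LK LD1_c11 LD2_c7 LD3_c6) Lrfl Lrfl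
theorem f280456 : Led Lsl_et (LP (LK LD1_c16 LD2_c52 LD3_c14)) = (LP (LK LD1_c9 LD2_c2 LD3_c6)) :=
  Lre_e IH (LK LD1_c16 LD2_c52 LD3_c14) (LK LD1_c9 LD2_c2 LD3_c6) Lrfl Lrfl
theorem f561339 : Led Lsl_ct (LP (LK LD1_c11 LD2_c7 LD3_c6)) = (LP (LK LD1_c16 LD2_c52 LD3_c14)) :=
  Lgr Lrot15 (Lpe (f424211 IH) (Lpr_cf (K43.f561330 IH) (Lpe (f280456 IH) (Lpn (LP (LK LD1_c16 LD2_c52 LD3_c14))))))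
theorem f561349 : Led Lsl_bt (LP (LK LD1_c11 LD2_c7 LD3_c6)) = (LP (LK LD1_c5 LD2_c37 LD3_c59)) :=
  Lre_b IH (LK LD1_c11 LD2_c7 LD3_c6) (LK LD1_c5 LD2_c37 LD3_c59) Lrfl Lrfl
theorem f735938 : Led Lsl_gf (LP (LK LD1_c5 LD2_c37 LD3_c59)) = v15370 :=
  Lgr Lrot124 (Lpe (f561349 IH) (Lpr_ct (f561339 IH) (Lpe (f712626 IH) (Lpe (f180297 IH) (Lpr_bt (f180296 IH) (Lpe (K17.f289278 IH) (Lpr_ct (f732664 IH) (Lpe (f732666 IH) (Lpe (K53.f727487 IH) (Lpr_bt (f735935 IH) (Lpn v15370)))))))))))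
theorem f579209 : Led Lsl_at (LP (LK LD1_c5 LD2_c40 LD3_c28)) = (LP (LK LD1_c5 LD2_c37 LD3_c59)) :=
  Lgr Lrot100 (Lpr_af (K43.f579196 IH) (Lpn (LP (LK LD1_c5 LD2_c37 LD3_c59))))
theorem f557237 : Led Lsl_ft (LP (LK LD1_c11 LD2_c11 LD3_c39)) = (LP (LK LD1_c5 LD2_c40 LD3_c28)) :=
  Lre_f IH (LK LD1_c11 LD2_c11 LD3_c39) (LK LD1_c5 LD2_c40 LD3_c28) Lrfl Lrfl
theorem f735939 : Led Lsl_gt (LP (LK LD1_c11 LD2_c11 LD3_c39)) = v15370 :=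
  Lgr Lrot5 (Lpr_ft (f557237 IH) (Lpr_at (f579209 IH) (Lpr_gf (f735938 IH) (Lpn v15370))))
theorem f557239 : Led Lsl_bt (LP (LK LD1_c20 LD2_c6 LD3_c14)) = (LP (LK LD1_c11 LD2_c11 LD3_c39)) :=
  Lre_b IH (LK LD1_c20 LD2_c6 LD3_c14) (LK LD1_c11 LD2_c11 LD3_c39) Lrfl Lrfl
theorem f164809 : Led Lsl_gt (LP (LK LD1_c5 LD2_c37 LD3_c15)) = (LP (LK LD1_c11 LD2_c6 LD3_c22)) :=
  Lre_g IH (LK LD1_c5 LD2_c37 LD3_c15) (LK LD1_c11 LD2_c6 LD3_c22) Lrfl Lrfl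
theorem f164813 : Led Lsl_ct (LP (LK LD1_c11 LD2_c6 LD3_c22)) = (LP (LK LD1_c19 LD2_c59 LD3_c52)) :=
  Lre_c IH (LK LD1_c11 LD2_c6 LD3_c22) (LK LD1_c19 LD2_c59 LD3_c52) Lrfl Lrfl
theorem f164814 : Led Lsl_gt (LP (LK LD1_c19 LD2_c59 LD3_c52)) = (LP (LK LD1_c29 LD2_c14 LD3_c37)) :=
  Lre_g IH (LK LD1_c19 LD2_c59 LD3_c52) (LK LD1_c29 LD2_c14 LD3_c37) Lrfl Lrfl
theorem f735941 : Led Lsl_ct (LP (LK LD1_c20 LD2_c6 LD3_c14)) = (LP (LK LD1_c29 LD2_c14 LD3_c37)) :=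
  Lgr Lrot63 (Lpr_bt (f557239 IH) (Lpr_gt (f735939 IH) (Lpe (f735935 IH) (Lpr_ct (K53.f727487 IH) (Lpe (K53.f727485 IH) (Lpe (K30.f180397 IH) (Lpr_bt (K42.f164754 IH) (Lpr_gt (f164809 IH) (Lpr_ct (f164813 IH) (Lpr_gt (f164814 IH) (Lpn (LP (LK LD1_c29 LD2_c14 LD3_c37)))))))))))))
theorem f735942 : Led Lsl_ct (LP (LK LD1_c20 LD2_c6 LD3_c14)) = (LP (LK LD1_c29 LD2_c14 LD3_c37)) :=
  Leop (Lpe (f735941 IH) (Lpn (LP (LK LD1_c20 LD2_c6 LD3_c14))))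
theorem seed_894 : LEOK LG_c (LK LD1_c20 LD2_c6 LD3_c14) :=
  Leoe_c (LK LD1_c20 LD2_c6 LD3_c14) (f735942 IH)
def v15374 : LQ := Led Lsl_et (LP (LK LD1_c5 LD2_c37 LD3_c48))
theorem f735971 : Led Lsl_et (LP (LK LD1_c5 LD2_c37 LD3_c48)) = v15374 :=
  Lrfl
theorem f735974 : Led Lsl_ef (LP (LK LD1_c5 LD2_c37 LD3_c48)) = v15374 :=
  Lgr Lrot88 (Lpr_et (f735971 IH) (Lpn v15374))
theorem f288062 : Led Lsl_gt (LP (LK LD1_c5 LD2_c14 LD3_c34)) = (LP (LK LD1_c5 LD2_c8 LD3_c10)) :=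
  Lgr Lrot46 (Lpe (K53.f181107 IH) (Lpr_ft (K53.f225471 IH) (Lpr_at (K17.f288056 IH) (Lpn (LP (LK LD1_c5 LD2_c8 LD3_c10))))))
theorem f225533 : Led Lsl_dt (LP (LK LD1_c10 LD2_c18 LD3_c42)) = (LP (LK LD1_c5 LD2_c14 LD3_c34)) :=
  Lre_d IH (LK LD1_c10 LD2_c18 LD3_c42) (LK LD1_c5 LD2_c14 LD3_c34) Lrfl Lrfl
def v6418 : LQ := Led Lsl_bt (LP (LK LD1_c3 LD2_c21 LD3_c30))
theorem f653268 : Led Lsl_bt (LP (LK LD1_c3 LD2_c21 LD3_c30)) = v6418 :=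
  Lrfl
theorem f413938 : Led Lsl_et (LP (LK LD1_c1 LD2_c36 LD3_c59)) = (LP (LK LD1_c3 LD2_c21 LD3_c30)) :=
  Lre_e IH (LK LD1_c1 LD2_c36 LD3_c59) (LK LD1_c3 LD2_c21 LD3_c30) Lrfl Lrfl
theorem f509504 : Led Lsl_bf (LP (LK LD1_c1 LD2_c36 LD3_c59)) = K50.v2183 :=
  Lgr Lrot93 (Lpr_dt (K17.f413452 IH) (Lpr_bt (K46.f454014 IH) (Lpr_dt (K50.f509503 IH) (Lpn K50.v2183))))
theorem f653270 : Led Lsl_ef K50.v2183 = v6418 :=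
  Lgr Lrot29 (Lpe (f509504 IH) (Lpr_et (f413938 IH) (Lpr_bt (f653268 IH) (Lpn v6418))))
theorem f735973 : Led Lsl_df v6418 = v15374 :=
  Lgr Lrot70 (Lpe (f653270 IH) (Lpe (K50.f509505 IH) (Lpr_et (K51.f454191 IH) (Lpr_dt (K46.f653262 IH) (Lpqs (K46.f653287 IH) (Lpr_et (f735971 IH) (Lpn v15374)))))))
def v4195 : LQ := Led Lsl_et (LP (LK LD1_c2 LD2_c14 LD3_c40))
theorem f631798 : Led Lsl_et (LP (LK LD1_c2 LD2_c14 LD3_c40)) = v4195 :=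
  Lrfl
theorem f631800 : Led Lsl_df K46.v1567 = v4195 :=
  Lgr Lrot70 (Lpe (K46.f499990 IH) (Lpe (K35.f26557 IH) (Lpq (K36.f537141 IH) (Lpe (K36.f453488 IH) (Lpr_dt (K12.f20395 IH) (Lpr_et (f631798 IH) (Lpn v4195)))))))
theorem f631801 : Led Lsl_ef (LP (LK LD1_c2 LD2_c14 LD3_c40)) = v4195 :=
  Lgr Lrot88 (Lpr_et (f631798 IH) (Lpn v4195))
def v1453 : LQ := Led Lsl_dt (LP (LK LD1_c1 LD2_c18 LD3_c50))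
theorem f495654 : Led Lsl_dt (LP (LK LD1_c1 LD2_c18 LD3_c50)) = v1453 :=
  Lrfl
theorem f495656 : Led Lsl_ef (LP (LK LD1_c1 LD2_c18 LD3_c53)) = v1453 :=
  Lgr Lrot73 (Lpr_dt (K9.f24531 IH) (Lpr_et (K9.f164998 IH) (Lpr_dt (K9.f24534 IH) (Lpr_et (K53.f319339 IH) (Lpr_dt (f495654 IH) (Lpn v1453))))))
theorem f495655 : Led Lsl_df (LP (LK LD1_c1 LD2_c18 LD3_c50)) = v1453 :=
  Lgr Lrot38 (Lpr_dt (f495654 IH) (Lpn v1453))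
theorem f171838 : Led Lsl_gt (LP (LK LD1_c2 LD2_c45 LD3_c7)) = (LP (LK LD1_c1 LD2_c18 LD3_c50)) :=
  Lre_g IH (LK LD1_c2 LD2_c45 LD3_c7) (LK LD1_c1 LD2_c18 LD3_c50) Lrfl Lrfl
theorem f319374 : Led Lsl_dt (LP (LK LD1_c5 LD2_c38 LD3_c32)) = (LP (LK LD1_c2 LD2_c45 LD3_c7)) :=
  Lre_d IH (LK LD1_c5 LD2_c38 LD3_c32) (LK LD1_c2 LD2_c45 LD3_c7) Lrfl Lrfl
theorem f653271 : Led Lsl_et K50.v2183 = v6418 :=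
  Lgr Lrot87 (Lpr_ef (f653270 IH) (Lpn v6418))
theorem f653293 : Led Lsl_gf (LP (LK LD1_c5 LD2_c38 LD3_c32)) = v6418 :=
  Lgr Lrot138 (Lpr_dt (f319374 IH) (Lpr_gt (f171838 IH) (Lpr_df (f495655 IH) (Lpe (f495656 IH) (Lpe (K12.f211709 IH) (Lpr_ef (f631801 IH) (Lpe (f631800 IH) (Lpq (K46.f653292 IH) (Lpe (K46.f509501 IH) (Lpr_df (K50.f509505 IH) (Lpr_et (f653271 IH) (Lpn v6418))))))))))))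
theorem f319373 : Led Lsl_dt (LP (LK LD1_c2 LD2_c45 LD3_c7)) = (LP (LK LD1_c5 LD2_c38 LD3_c32)) :=
  Lre_d IH (LK LD1_c2 LD2_c45 LD3_c7) (LK LD1_c5 LD2_c38 LD3_c32) Lrfl Lrfl
theorem f638760 : Led Lsl_et (LP (LK LD1_c2 LD2_c45 LD3_c7)) = (LP (LK LD1_c5 LD2_c38 LD3_c33)) :=
  Lre_e IH (LK LD1_c2 LD2_c45 LD3_c7) (LK LD1_c5 LD2_c38 LD3_c33) Lrfl Lrfl
theorem f735979 : Led Lsl_gf (LP (LK LD1_c10 LD2_c18 LD3_c42)) = (LP (LK LD1_c5 LD2_c38 LD3_c33)) :=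
  Lgr Lrot138 (Lpr_dt (f225533 IH) (Lpr_gt (f288062 IH) (Lpe (K17.f165087 IH) (Lpe (K20.f289436 IH) (Lpe (K51.f319508 IH) (Lpr_ef (f735974 IH) (Lpe (f735973 IH) (Lpe (f653293 IH) (Lpe (f319373 IH) (Lpr_et (f638760 IH) (Lpn (LP (LK LD1_c5 LD2_c38 LD3_c33)))))))))))))
theorem f735980 : Led Lsl_gt (LP (LK LD1_c5 LD2_c38 LD3_c33)) = (LP (LK LD1_c10 LD2_c18 LD3_c42)) :=
  Leop (Lpr_gf (f735979 IH) (Lpn (LP (LK LD1_c5 LD2_c38 LD3_c33))))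
theorem seed_895 : LEOK LG_g (LK LD1_c5 LD2_c38 LD3_c33) :=
  Leoe_g (LK LD1_c5 LD2_c38 LD3_c33) (f735980 IH)
theorem f181109 : Led Lsl_dt (LP (LK LD1_c5 LD2_c14 LD3_c34)) = (LP (LK LD1_c10 LD2_c18 LD3_c42)) :=
  Lre_d IH (LK LD1_c5 LD2_c14 LD3_c34) (LK LD1_c10 LD2_c18 LD3_c42) Lrfl Lrfl
theorem f723950 : Led Lsl_et (LP (LK LD1_c5 LD2_c14 LD3_c34)) = (LP (LK LD1_c10 LD2_c18 LD3_c43)) :=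
  Lre_e IH (LK LD1_c5 LD2_c14 LD3_c34) (LK LD1_c10 LD2_c18 LD3_c43) Lrfl Lrfl
theorem f408453 : Led Lsl_dt (LP (LK LD1_c11 LD2_c8 LD3_c18)) = (LP (LK LD1_c5 LD2_c38 LD3_c33)) :=
  Lre_d IH (LK LD1_c11 LD2_c8 LD3_c18) (LK LD1_c5 LD2_c38 LD3_c33) Lrfl Lrfl
theorem f171835 : Led Lsl_gt (LP (LK LD1_c11 LD2_c6 LD3_c43)) = (LP (LK LD1_c11 LD2_c8 LD3_c18)) :=
  Lre_g IH (LK LD1_c11 LD2_c6 LD3_c43) (LK LD1_c11 LD2_c8 LD3_c18) Lrfl Lrfl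
theorem f627875 : Led Lsl_et (LP (LK LD1_c5 LD2_c51 LD3_c53)) = (LP (LK LD1_c11 LD2_c6 LD3_c43)) :=
  Lgr Lrot87 (Lpr_ef (K48.f627873 IH) (Lpn (LP (LK LD1_c11 LD2_c6 LD3_c43))))
def v14618 : LQ := Led Lsl_gf (LP (LK LD1_c5 LD2_c14 LD3_c50))
theorem f724030 : Led Lsl_gf (LP (LK LD1_c5 LD2_c14 LD3_c50)) = v14618 :=
  Lrfl
theorem f735982 : (LP (LK LD1_c10 LD2_c18 LD3_c43)) = v14618 :=
  (Llr Lrot185 (Lpe (f723950 IH) (Lpr_dt (f181109 IH) (Lpr_gf (f735979 IH) (Lpe (f408453 IH) (Lpe (f171835 IH) (Lpe (f627875 IH) (Lpr_dt (K48.f629289 IH) (Lpe (K48.f629287 IH) (Lpe (K35.f496142 IH) (Lpr_et (K53.f496143 IH) (Lpr_gf (f724030 IH) (Lpn v14618))))))))))))).symm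
theorem f735983 : Led Lsl_gt (LP (LK LD1_c10 LD2_c18 LD3_c43)) = (LP (LK LD1_c5 LD2_c14 LD3_c50)) :=
  Leop (Lpr_gf (f724030 IH) (Lpq (f735982 IH) (Lpn (LP (LK LD1_c10 LD2_c18 LD3_c43)))))
theorem seed_896 : LEOK LG_g (LK LD1_c10 LD2_c18 LD3_c43) :=
  Leoe_g (LK LD1_c10 LD2_c18 LD3_c43) (f735983 IH)
def v15379 : LQ := Led Lsl_ft (LP (LK LD1_c5 LD2_c38 LD3_c5))
theorem f736025 : Led Lsl_ft (LP (LK LD1_c5 LD2_c38 LD3_c5)) = v15379 :=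
  Lrfl
theorem f385866 : Led Lsl_gt (LP (LK LD1_c5 LD2_c38 LD3_c5)) = (LP (LK LD1_c11 LD2_c7 LD3_c26)) :=
  Lre_g IH (LK LD1_c5 LD2_c38 LD3_c5) (LK LD1_c11 LD2_c7 LD3_c26) Lrfl Lrfl
theorem f319368 : Led Lsl_at (LP (LK LD1_c2 LD2_c45 LD3_c1)) = (LP (LK LD1_c5 LD2_c38 LD3_c5)) :=
  Lre_a IH (LK LD1_c2 LD2_c45 LD3_c1) (LK LD1_c5 LD2_c38 LD3_c5) Lrfl Lrfl
theorem f402628 : Led Lsl_ft (LP (LK LD1_c5 LD2_c38 LD3_c20)) = (LP (LK LD1_c2 LD2_c45 LD3_c1)) :=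
  Lre_f IH (LK LD1_c5 LD2_c38 LD3_c20) (LK LD1_c2 LD2_c45 LD3_c1) Lrfl Lrfl
theorem f736026 : Led Lsl_af (LP (LK LD1_c5 LD2_c38 LD3_c20)) = v15379 :=
  Lgr Lrot45 (Lpr_ft (f402628 IH) (Lpr_at (f319368 IH) (Lpr_ft (f736025 IH) (Lpn v15379))))
theorem f736029 : Led Lsl_gt (LP (LK LD1_c11 LD2_c7 LD3_c26)) = (LP (LK LD1_c5 LD2_c38 LD3_c20)) :=
  Lgr Lrot46 (Lpe (f385866 IH) (Lpr_ft (f736025 IH) (Lpe (f736026 IH) (Lpn (LP (LK LD1_c5 LD2_c38 LD3_c20))))))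
theorem f736030 : Led Lsl_gt (LP (LK LD1_c11 LD2_c7 LD3_c26)) = (LP (LK LD1_c5 LD2_c38 LD3_c20)) :=
  Leop (Lpe (f736029 IH) (Lpn (LP (LK LD1_c11 LD2_c7 LD3_c26))))
theorem seed_897 : LEOK LG_g (LK LD1_c11 LD2_c7 LD3_c26) :=
  Leoe_g (LK LD1_c11 LD2_c7 LD3_c26) (f736030 IH)
def v15391 : LQ := Led Lsl_et (LP (LK LD1_c5 LD2_c38 LD3_c26))
theorem f736088 : Led Lsl_et (LP (LK LD1_c5 LD2_c38 LD3_c26)) = v15391 :=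
  Lrfl
theorem f736091 : Led Lsl_ef (LP (LK LD1_c5 LD2_c38 LD3_c26)) = v15391 :=
  Lgr Lrot88 (Lpr_et (f736088 IH) (Lpn v15391))
theorem f500302 : Led Lsl_et (LP (LK LD1_c9 LD2_c6 LD3_c19)) = (LP (LK LD1_c4 LD2_c34 LD3_c51)) :=
  Lre_e IH (LK LD1_c9 LD2_c6 LD3_c19) (LK LD1_c4 LD2_c34 LD3_c51) Lrfl Lrfl
theorem f151976 : Led Lsl_dt (LP (LK LD1_c9 LD2_c6 LD3_c19)) = (LP (LK LD1_c4 LD2_c34 LD3_c50)) :=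
  Lre_d IH (LK LD1_c9 LD2_c6 LD3_c19) (LK LD1_c4 LD2_c34 LD3_c50) Lrfl Lrfl
theorem f570340 : Led Lsl_ef (LP (LK LD1_c2 LD2_c45 LD3_c3)) = (LP (LK LD1_c5 LD2_c38 LD3_c7)) :=
  Lgr Lrot88 (Lpr_et (K42.f570334 IH) (Lpn (LP (LK LD1_c5 LD2_c38 LD3_c7))))
theorem f592758 : Led Lsl_et (LP (LK LD1_c9 LD2_c6 LD3_c44)) = (LP (LK LD1_c4 LD2_c34 LD3_c60)) :=
  Lre_e IH (LK LD1_c9 LD2_c6 LD3_c44) (LK LD1_c4 LD2_c34 LD3_c60) Lrfl Lrfl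
theorem f736090 : Led Lsl_df (LP (LK LD1_c9 LD2_c6 LD3_c44)) = v15391 :=
  Lgr Lrot70 (Lpr_et (f592758 IH) (Lpr_dt (K45.f592722 IH) (Lpe (f570340 IH) (Lpr_dt (K42.f422731 IH) (Lpr_et (f736088 IH) (Lpn v15391))))))
theorem f714783 : Led Lsl_dt (LP (LK LD1_c12 LD2_c57 LD3_c51)) = (LP (LK LD1_c6 LD2_c47 LD3_c23)) :=
  Lre_d IH (LK LD1_c12 LD2_c57 LD3_c51) (LK LD1_c6 LD2_c47 LD3_c23) Lrfl Lrfl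
theorem f714784 : Led Lsl_et (LP (LK LD1_c12 LD2_c57 LD3_c51)) = (LP (LK LD1_c6 LD2_c47 LD3_c26)) :=
  Lre_e IH (LK LD1_c12 LD2_c57 LD3_c51) (LK LD1_c6 LD2_c47 LD3_c26) Lrfl Lrfl
theorem f653445 : Led Lsl_gt (LP (LK LD1_c6 LD2_c47 LD3_c26)) = (LP (LK LD1_c12 LD2_c57 LD3_c57)) :=
  Lre_g IH (LK LD1_c6 LD2_c47 LD3_c26) (LK LD1_c12 LD2_c57 LD3_c57) Lrfl Lrfl
theorem f736094 : Led Lsl_df (LP (LK LD1_c9 LD2_c6 LD3_c18)) = (LP (LK LD1_c12 LD2_c57 LD3_c57)) :=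
  Lgr Lrot135 (Lpr_gt (K52.f436238 IH) (Lpe (f151976 IH) (Lpr_et (f500302 IH) (Lpe (K42.f570322 IH) (Lpr_ef (f736091 IH) (Lpe (f736090 IH) (Lpr_gt (K52.f714775 IH) (Lpe (f714783 IH) (Lpr_et (f714784 IH) (Lpr_gt (f653445 IH) (Lpn (LP (LK LD1_c12 LD2_c57 LD3_c57)))))))))))))
theorem f736095 : Led Lsl_dt (LP (LK LD1_c12 LD2_c57 LD3_c57)) = (LP (LK LD1_c9 LD2_c6 LD3_c18)) :=
  Leop (Lpr_df (f736094 IH) (Lpn (LP (LK LD1_c12 LD2_c57 LD3_c57))))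
theorem seed_898 : LEOK LG_d (LK LD1_c12 LD2_c57 LD3_c57) :=
  Leoe_d (LK LD1_c12 LD2_c57 LD3_c57) (f736095 IH)
def v15415 : LQ := Led Lsl_dt (LP (LK LD1_c5 LD2_c38 LD3_c39))
theorem f736175 : Led Lsl_dt (LP (LK LD1_c5 LD2_c38 LD3_c39)) = v15415 :=
  Lrfl
theorem f736177 : Led Lsl_df (LP (LK LD1_c5 LD2_c38 LD3_c39)) = v15415 :=
  Lgr Lrot38 (Lpr_dt (f736175 IH) (Lpn v15415))
theorem f631639 : Led Lsl_bt (LP (LK LD1_c5 LD2_c38 LD3_c39)) = (LP (LK LD1_c2 LD2_c45 LD3_c12)) :=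
  Lre_b IH (LK LD1_c5 LD2_c38 LD3_c39) (LK LD1_c2 LD2_c45 LD3_c12) Lrfl Lrfl
def v4174 : LQ := Led Lsl_ct (LP (LK LD1_c2 LD2_c12 LD3_c34))
theorem f631631 : Led Lsl_ct (LP (LK LD1_c2 LD2_c12 LD3_c34)) = v4174 :=
  Lrfl
theorem f334515 : Led Lsl_ff (LP (LK LD1_c1 LD2_c25 LD3_c44)) = (LP (LK LD1_c1 LD2_c3 LD3_c17)) :=
  Lgr Lrot23 (Lpr_ct (K12.f20719 IH) (Lpr_ft (K22.f334511 IH) (Lpr_ct (K12.f20717 IH) (Lpn (LP (LK LD1_c1 LD2_c3 LD3_c17))))))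
theorem f211688 : Led Lsl_at (LP (LK LD1_c1 LD2_c25 LD3_c44)) = (LP (LK LD1_c1 LD2_c18 LD3_c54)) :=
  Lgr Lrot100 (Lpr_af (K12.f211685 IH) (Lpn (LP (LK LD1_c1 LD2_c18 LD3_c54))))
theorem f165056 : Led Lsl_ct (LP (LK LD1_c2 LD2_c45 LD3_c12)) = (LP (LK LD1_c1 LD2_c18 LD3_c53)) :=
  Lre_c IH (LK LD1_c2 LD2_c45 LD3_c12) (LK LD1_c1 LD2_c18 LD3_c53) Lrfl Lrfl
theorem f631634 : Led Lsl_df (LP (LK LD1_c2 LD2_c45 LD3_c12)) = v4174 :=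
  Lgr Lrot106 (Lpr_ct (f165056 IH) (Lpr_dt (K9.f24531 IH) (Lpr_ct (K36.f24523 IH) (Lpr_dt (K9.f24247 IH) (Lpe (K36.f334499 IH) (Lpe (f211688 IH) (Lpr_ff (f334515 IH) (Lpr_dt (K12.f20718 IH) (Lpr_ct (f631631 IH) (Lpn v4174))))))))))
theorem f631638 : Led Lsl_dt (LP (LK LD1_c2 LD2_c45 LD3_c12)) = v4174 :=
  Lgr Lrot42 (Lpr_df (f631634 IH) (Lpn v4174))
theorem f736178 : Led Lsl_bt v4174 = v15415 :=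
  Lgr Lrot95 (Lpe (f631638 IH) (Lpe (f631639 IH) (Lpr_df (f736177 IH) (Lpn v15415))))
theorem f9423 : Led Lsl_bt (LP (LK LD1_c6 LD2_c3 LD3_c57)) = (LP (LK LD1_c2 LD2_c58 LD3_c3)) :=
  Lre_b IH (LK LD1_c6 LD2_c3 LD3_c57) (LK LD1_c2 LD2_c58 LD3_c3) Lrfl Lrfl
theorem f736179 : Led Lsl_cf (LP (LK LD1_c6 LD2_c3 LD3_c57)) = v15415 :=
  Lgr Lrot97 (Lpr_bt (f9423 IH) (Lpe (K11.f186150 IH) (Lpr_bt (K36.f539021 IH) (Lpr_ct (f631631 IH) (Lpr_bt (f736178 IH) (Lpn v15415))))))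
theorem f736180 : Led Lsl_ct (LP (LK LD1_c6 LD2_c3 LD3_c57)) = v15415 :=
  Lgr Lrot59 (Lpr_cf (f736179 IH) (Lpn v15415))
theorem f186282 : Led Lsl_dt (LP (LK LD1_c6 LD2_c4 LD3_c4)) = (LP (LK LD1_c6 LD2_c3 LD3_c57)) :=
  Lgr Lrot79 (Lpe (K45.f172129 IH) (Lpr_df (K36.f186161 IH) (Lpe (f9423 IH) (Lpn (LP (LK LD1_c6 LD2_c3 LD3_c57))))))
theorem f186301 : Led Lsl_dt (LP (LK LD1_c20 LD2_c54 LD3_c14)) = (LP (LK LD1_c11 LD2_c51 LD3_c43)) :=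
  Lre_d IH (LK LD1_c20 LD2_c54 LD3_c14) (LK LD1_c11 LD2_c51 LD3_c43) Lrfl Lrfl
theorem f599684 : Led Lsl_ct (LP (LK LD1_c5 LD2_c38 LD3_c39)) = (LP (LK LD1_c11 LD2_c8 LD3_c12)) :=
  Lre_c IH (LK LD1_c5 LD2_c38 LD3_c39) (LK LD1_c11 LD2_c8 LD3_c12) Lrfl Lrfl
theorem f736172 : Led Lsl_dt (LP (LK LD1_c11 LD2_c8 LD3_c12)) = (LP (LK LD1_c20 LD2_c1 LD3_c49)) :=
  Lre_d IH (LK LD1_c11 LD2_c8 LD3_c12) (LK LD1_c20 LD2_c1 LD3_c49) Lrfl Lrfl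
theorem f595071 : Led Lsl_ct (LP (LK LD1_c20 LD2_c1 LD3_c49)) = (LP (LK LD1_c29 LD2_c15 LD3_c16)) :=
  Lre_c IH (LK LD1_c20 LD2_c1 LD3_c49) (LK LD1_c29 LD2_c15 LD3_c16) Lrfl Lrfl
theorem f736181 : Led Lsl_at (LP (LK LD1_c26 LD2_c53 LD3_c41)) = (LP (LK LD1_c29 LD2_c15 LD3_c16)) :=
  Lgr Lrot33 (Lpr_ff (K45.f599718 IH) (Lpr_dt (f186301 IH) (Lpr_ct (K45.f186302 IH) (Lpr_dt (f186282 IH) (Lpr_ct (f736180 IH) (Lpe (f736177 IH) (Lpr_ct (f599684 IH) (Lpr_dt (f736172 IH) (Lpr_ct (f595071 IH) (Lpn (LP (LK LD1_c29 LD2_c15 LD3_c16))))))))))))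
theorem f736182 : Led Lsl_at (LP (LK LD1_c26 LD2_c53 LD3_c41)) = (LP (LK LD1_c29 LD2_c15 LD3_c16)) :=
  Leop (Lpe (f736181 IH) (Lpn (LP (LK LD1_c26 LD2_c53 LD3_c41))))
theorem seed_899 : LEOK LG_a (LK LD1_c26 LD2_c53 LD3_c41) :=
  Leoe_a (LK LD1_c26 LD2_c53 LD3_c41) (f736182 IH)
def v15430 : LQ := Led Lsl_gf (LP (LK LD1_c5 LD2_c39 LD3_c23))
theorem f736254 : Led Lsl_gf (LP (LK LD1_c5 LD2_c39 LD3_c23)) = v15430 :=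
  Lrfl
theorem f220731 : Led Lsl_bt (LP (LK LD1_c5 LD2_c29 LD3_c48)) = (LP (LK LD1_c2 LD2_c41 LD3_c14)) :=
  Lre_b IH (LK LD1_c5 LD2_c29 LD3_c48) (LK LD1_c2 LD2_c41 LD3_c14) Lrfl Lrfl
theorem f254669 : Led Lsl_at (LP (LK LD1_c10 LD2_c50 LD3_c52)) = (LP (LK LD1_c5 LD2_c29 LD3_c48)) :=
  Lre_a IH (LK LD1_c10 LD2_c50 LD3_c52) (LK LD1_c5 LD2_c29 LD3_c48) Lrfl Lrfl
theorem f254670 : Led Lsl_bt (LP (LK LD1_c16 LD2_c42 LD3_c47)) = (LP (LK LD1_c10 LD2_c50 LD3_c52)) :=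
  Lgr Lrot62 (Lpe (K31.f228084 IH) (Lpe (K30.f179291 IH) (Lpr_af (K14.f254665 IH) (Lpe (f220731 IH) (Lpe (f254669 IH) (Lpn (LP (LK LD1_c10 LD2_c50 LD3_c52))))))))
theorem f228775 : Led Lsl_bt (LP (LK LD1_c8 LD2_c55 LD3_c47)) = (LP (LK LD1_c4 LD2_c28 LD3_c45)) :=
  Lre_b IH (LK LD1_c8 LD2_c55 LD3_c47) (LK LD1_c4 LD2_c28 LD3_c45) Lrfl Lrfl
theorem f228763 : Led Lsl_at (LP (LK LD1_c16 LD2_c42 LD3_c56)) = (LP (LK LD1_c8 LD2_c55 LD3_c47)) :=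
  Lre_a IH (LK LD1_c16 LD2_c42 LD3_c56) (LK LD1_c8 LD2_c55 LD3_c47) Lrfl Lrfl
theorem f254644 : Led Lsl_bf (LP (LK LD1_c16 LD2_c42 LD3_c56)) = (LP (LK LD1_c10 LD2_c50 LD3_c45)) :=
  Lgr Lrot81 (Lpr_at (f228763 IH) (Lpr_bt (f228775 IH) (Lpr_at (K14.f254640 IH) (Lpr_bt (K30.f220222 IH) (Lpr_at (K18.f220282 IH) (Lpn (LP (LK LD1_c10 LD2_c50 LD3_c45))))))))
theorem f296702 : Led Lsl_ff (LP (LK LD1_c10 LD2_c50 LD3_c52)) = (LP (LK LD1_c16 LD2_c42 LD3_c56)) :=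
  Lgr Lrot25 (Lpe (K15.f262017 IH) (Lpr_ft (K22.f296611 IH) (Lpe (f254644 IH) (Lpn (LP (LK LD1_c16 LD2_c42 LD3_c56))))))
theorem f296714 : Led Lsl_ft (LP (LK LD1_c10 LD2_c50 LD3_c52)) = (LP (LK LD1_c16 LD2_c42 LD3_c56)) :=
  Lgr Lrot48 (Lpr_ff (f296702 IH) (Lpn (LP (LK LD1_c16 LD2_c42 LD3_c56))))
theorem f228774 : Led Lsl_gt (LP (LK LD1_c16 LD2_c42 LD3_c55)) = (LP (LK LD1_c8 LD2_c55 LD3_c47)) :=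
  Lre_g IH (LK LD1_c16 LD2_c42 LD3_c55) (LK LD1_c8 LD2_c55 LD3_c47) Lrfl Lrfl
theorem f296726 : Led Lsl_gt (LP (LK LD1_c10 LD2_c50 LD3_c52)) = (LP (LK LD1_c16 LD2_c42 LD3_c55)) :=
  Lgr Lrot5 (Lpr_ft (f296714 IH) (Lpr_at (f228763 IH) (Lpe (f228774 IH) (Lpn (LP (LK LD1_c16 LD2_c42 LD3_c55))))))
theorem f179285 : Led Lsl_dt (LP (LK LD1_c5 LD2_c39 LD3_c23)) = (LP (LK LD1_c11 LD2_c9 LD3_c48)) :=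
  Lre_d IH (LK LD1_c5 LD2_c39 LD3_c23) (LK LD1_c11 LD2_c9 LD3_c48) Lrfl Lrfl
theorem f384886 : Led Lsl_dt (LP (LK LD1_c16 LD2_c48 LD3_c22)) = (LP (LK LD1_c8 LD2_c59 LD3_c10)) :=
  Lre_d IH (LK LD1_c16 LD2_c48 LD3_c22) (LK LD1_c8 LD2_c59 LD3_c10) Lrfl Lrfl
theorem f224411 : Led Lsl_bt (LP (LK LD1_c10 LD2_c37 LD3_c48)) = (LP (LK LD1_c5 LD2_c23 LD3_c40)) :=
  Lre_b IH (LK LD1_c10 LD2_c37 LD3_c48) (LK LD1_c5 LD2_c23 LD3_c40) Lrfl Lrfl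
theorem f224824 : Led Lsl_bt (LP (LK LD1_c10 LD2_c30 LD3_c61)) = (LP (LK LD1_c19 LD2_c3 LD3_c38)) :=
  Lre_b IH (LK LD1_c10 LD2_c30 LD3_c61) (LK LD1_c19 LD2_c3 LD3_c38) Lrfl Lrfl
theorem f550769 : Led Lsl_ft (LP (LK LD1_c5 LD2_c23 LD3_c40)) = (LP (LK LD1_c10 LD2_c30 LD3_c61)) :=
  Lgr Lrot75 (Lpe (f224411 IH) (Lpr_ff (K38.f550765 IH) (Lpe (f224824 IH) (Lpn (LP (LK LD1_c10 LD2_c30 LD3_c61))))))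
theorem f312928 : Led Lsl_bt (LP (LK LD1_c5 LD2_c23 LD3_c1)) = (LP (LK LD1_c10 LD2_c31 LD3_c1)) :=
  Lgr Lrot35 (Lpr_ff (K38.f312919 IH) (Lpe (K38.f312895 IH) (Lpr_ff (K22.f312787 IH) (Lpn (LP (LK LD1_c10 LD2_c31 LD3_c1))))))
theorem f395652 : Led Lsl_gf (LP (LK LD1_c10 LD2_c31 LD3_c1)) = (LP (LK LD1_c5 LD2_c23 LD3_c40)) :=
  Lgr Lrot124 (Lpe (f312928 IH) (Lpr_ct (K38.f312918 IH) (Lpr_gt (K39.f312922 IH) (Lpe (K38.f169240 IH) (Lpr_bt (K38.f257009 IH) (Lpe (K38.f339385 IH) (Lpr_ct (K30.f221797 IH) (Lpr_gt (K38.f395649 IH) (Lpe (K38.f224412 IH) (Lpr_bt (f224411 IH) (Lpn (LP (LK LD1_c5 LD2_c23 LD3_c40)))))))))))))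
theorem f619499 : Led Lsl_af (LP (LK LD1_c5 LD2_c23 LD3_c41)) = (LP (LK LD1_c10 LD2_c30 LD3_c61)) :=
  Lgr Lrot31 (Lpr_gf (K22.f312848 IH) (Lpr_gf (f395652 IH) (Lpr_ft (f550769 IH) (Lpn (LP (LK LD1_c10 LD2_c30 LD3_c61))))))
theorem f312850 : Led Lsl_dt (LP (LK LD1_c5 LD2_c23 LD3_c41)) = (LP (LK LD1_c10 LD2_c37 LD3_c53)) :=
  Lre_d IH (LK LD1_c5 LD2_c23 LD3_c41) (LK LD1_c10 LD2_c37 LD3_c53) Lrfl Lrfl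
theorem f395841 : Led Lsl_dt (LP (LK LD1_c10 LD2_c39 LD3_c56)) = (LP (LK LD1_c10 LD2_c30 LD3_c61)) :=
  Lgr Lrot42 (Lpr_df (K38.f395837 IH) (Lpn (LP (LK LD1_c10 LD2_c30 LD3_c61))))
theorem f619507 : Led Lsl_at (LP (LK LD1_c10 LD2_c37 LD3_c53)) = (LP (LK LD1_c10 LD2_c39 LD3_c56)) :=
  Lgr Lrot51 (Lpe (f312850 IH) (Lpr_af (f619499 IH) (Lpe (f395841 IH) (Lpn (LP (LK LD1_c10 LD2_c39 LD3_c56))))))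
theorem f213001 : Led Lsl_gt (LP (LK LD1_c10 LD2_c39 LD3_c57)) = (LP (LK LD1_c5 LD2_c24 LD3_c39)) :=
  Lre_g IH (LK LD1_c10 LD2_c39 LD3_c57) (LK LD1_c5 LD2_c24 LD3_c39) Lrfl Lrfl
theorem f619511 : Led Lsl_ff (LP (LK LD1_c10 LD2_c37 LD3_c53)) = (LP (LK LD1_c10 LD2_c39 LD3_c57)) :=
  Lgr Lrot52 (Lpr_at (f619507 IH) (Lpe (K38.f218625 IH) (Lpe (f213001 IH) (Lpn (LP (LK LD1_c10 LD2_c39 LD3_c57))))))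
theorem f619521 : Led Lsl_ft (LP (LK LD1_c10 LD2_c37 LD3_c53)) = (LP (LK LD1_c10 LD2_c39 LD3_c57)) :=
  Lgr Lrot48 (Lpr_ff (f619511 IH) (Lpn (LP (LK LD1_c10 LD2_c39 LD3_c57))))
theorem f234009 : Led Lsl_bt (LP (LK LD1_c10 LD2_c37 LD3_c26)) = (LP (LK LD1_c5 LD2_c23 LD3_c28)) :=
  Lre_b IH (LK LD1_c10 LD2_c37 LD3_c26) (LK LD1_c5 LD2_c23 LD3_c28) Lrfl Lrfl
theorem f234013 : Led Lsl_gt (LP (LK LD1_c28 LD2_c41 LD3_c6)) = (LP (LK LD1_c19 LD2_c14 LD3_c41)) :=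
  Lre_g IH (LK LD1_c28 LD2_c41 LD3_c6) (LK LD1_c19 LD2_c14 LD3_c41) Lrfl Lrfl
theorem f399898 : Led Lsl_ct (LP (LK LD1_c19 LD2_c18 LD3_c43)) = (LP (LK LD1_c28 LD2_c41 LD3_c6)) :=
  Lgr Lrot64 (Lpr_bt (f399897 IH) (Lpr_gf (K40.f399893 IH) (Lpe (K40.f199366 IH) (Lpr_ct (K16.f177987 IH) (Lpr_gf (K16.f277982 IH) (Lpe (K16.f277933 IH) (Lpr_gf (K13.f233933 IH) (Lpe (f234009 IH) (Lpr_ct (K22.f234012 IH) (Lpe (f234013 IH) (Lpn (LP (LK LD1_c28 LD2_c41 LD3_c6)))))))))))))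
theorem f224182 : Led Lsl_ct (LP (LK LD1_c10 LD2_c37 LD3_c49)) = (LP (LK LD1_c5 LD2_c23 LD3_c40)) :=
  Lre_c IH (LK LD1_c10 LD2_c37 LD3_c49) (LK LD1_c5 LD2_c23 LD3_c40) Lrfl Lrfl
theorem f224420 : Led Lsl_dt (LP (LK LD1_c19 LD2_c15 LD3_c11)) = (LP (LK LD1_c28 LD2_c41 LD3_c32)) :=
  Lre_d IH (LK LD1_c19 LD2_c15 LD3_c11) (LK LD1_c28 LD2_c41 LD3_c32) Lrfl Lrfl
theorem f395654 : Led Lsl_gf (LP (LK LD1_c19 LD2_c18 LD3_c43)) = (LP (LK LD1_c28 LD2_c41 LD3_c32)) :=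
  Lgr Lrot143 (Lpr_dt (f218444 IH) (Lpe (f218436 IH) (Lpe (f218432 IH) (Lpr_gf (f312843 IH) (Lpe (K22.f312783 IH) (Lpr_gf (f395652 IH) (Lpe (f224182 IH) (Lpr_gt (K30.f224405 IH) (Lpr_dt (f224420 IH) (Lpn (LP (LK LD1_c28 LD2_c41 LD3_c32))))))))))))
theorem f224421 : Led Lsl_dt (LP (LK LD1_c28 LD2_c41 LD3_c32)) = (LP (LK LD1_c19 LD2_c15 LD3_c11)) :=
  Lre_d IH (LK LD1_c28 LD2_c41 LD3_c32) (LK LD1_c19 LD2_c15 LD3_c11) Lrfl Lrfl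
theorem f399906 : Led Lsl_gt (LP (LK LD1_c19 LD2_c15 LD3_c11)) = (LP (LK LD1_c10 LD2_c37 LD3_c52)) :=
  Lgr Lrot9 (Lpe (f224421 IH) (Lpe (f395654 IH) (Lpr_ct (f399898 IH) (Lpr_gt (f234013 IH) (Lpr_ct (K22.f234010 IH) (Lpe (K22.f234088 IH) (Lpe (K22.f218427 IH) (Lpe (K22.f218598 IH) (Lpe (K22.f278010 IH) (Lpn (LP (LK LD1_c10 LD2_c37 LD3_c52))))))))))))
theorem f399909 : Led Lsl_bt (LP (LK LD1_c5 LD2_c23 LD3_c41)) = (LP (LK LD1_c10 LD2_c37 LD3_c51)) :=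
  Lre_b IH (LK LD1_c5 LD2_c23 LD3_c41) (LK LD1_c10 LD2_c37 LD3_c51) Lrfl Lrfl
theorem f399910 : Led Lsl_gf (LP (LK LD1_c15 LD2_c44 LD3_c23)) = (LP (LK LD1_c10 LD2_c37 LD3_c51)) :=
  Lgr Lrot181 (Lpr_ct (K31.f226926 IH) (Lpe (K30.f384812 IH) (Lpe (K30.f277113 IH) (Lpr_bt (K17.f277411 IH) (Lpe (K30.f277419 IH) (Lpe (K30.f224408 IH) (Lpe (K30.f224409 IH) (Lpr_gt (f399906 IH) (Lpe (K45.f312853 IH) (Lpr_bt (f399909 IH) (Lpn (LP (LK LD1_c10 LD2_c37 LD3_c51)))))))))))))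
theorem f226170 : Led Lsl_gt (LP (LK LD1_c11 LD2_c0 LD3_c2)) = (LP (LK LD1_c5 LD2_c33 LD3_c59)) :=
  Lre_g IH (LK LD1_c11 LD2_c0 LD3_c2) (LK LD1_c5 LD2_c33 LD3_c59) Lrfl Lrfl
theorem f399916 : Led Lsl_df (LP (LK LD1_c11 LD2_c0 LD3_c2)) = (LP (LK LD1_c10 LD2_c37 LD3_c51)) :=
  Lgr Lrot155 (Lpr_gt (f226170 IH) (Lpr_ct (K14.f226303 IH) (Lpr_gt (K30.f226296 IH) (Lpr_ct (K30.f226295 IH) (Lpe (K31.f277053 IH) (Lpr_cf (K30.f277173 IH) (Lpr_gf (K30.f384812 IH) (Lpe (K31.f226926 IH) (Lpr_gf (f399910 IH) (Lpn (LP (LK LD1_c10 LD2_c37 LD3_c51))))))))))))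
theorem f312858 : Led Lsl_dt (LP (LK LD1_c10 LD2_c37 LD3_c53)) = (LP (LK LD1_c5 LD2_c23 LD3_c41)) :=
  Lre_d IH (LK LD1_c10 LD2_c37 LD3_c53) (LK LD1_c5 LD2_c23 LD3_c41) Lrfl Lrfl
theorem f399921 : Led Lsl_bt (LP (LK LD1_c11 LD2_c0 LD3_c2)) = (LP (LK LD1_c10 LD2_c37 LD3_c53)) :=
  Lgr Lrot95 (Lpr_df (f399916 IH) (Lpe (f399909 IH) (Lpe (f312858 IH) (Lpn (LP (LK LD1_c10 LD2_c37 LD3_c53))))))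
theorem f387717 : Led Lsl_gt (LP (LK LD1_c19 LD2_c21 LD3_c10)) = (LP (LK LD1_c19 LD2_c50 LD3_c59)) :=
  Lgr Lrot5 (Lpr_ft (K31.f332287 IH) (Lpr_at (K51.f332286 IH) (Lpr_gf (f387714 IH) (Lpn (LP (LK LD1_c19 LD2_c50 LD3_c59))))))
theorem f261262 : Led Lsl_bt (LP (LK LD1_c5 LD2_c22 LD3_c52)) = (LP (LK LD1_c10 LD2_c35 LD3_c61)) :=
  Lre_b IH (LK LD1_c5 LD2_c22 LD3_c52) (LK LD1_c10 LD2_c35 LD3_c61) Lrfl Lrfl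
theorem f261258 : Led Lsl_ct (LP (LK LD1_c5 LD2_c22 LD3_c52)) = (LP (LK LD1_c9 LD2_c41 LD3_c14)) :=
  Lgr Lrot7 (Lpe (K16.f224168 IH) (Lpr_gf (K18.f224272 IH) (Lpe (K15.f224254 IH) (Lpe (K14.f196717 IH) (Lpe (K12.f168711 IH) (Lpr_gt (K13.f55195 IH) (Lpe (K13.f196598 IH) (Lpr_gt (K15.f261254 IH) (Lpr_dt (K22.f221587 IH) (Lpn (LP (LK LD1_c9 LD2_c41 LD3_c14))))))))))))
theorem f399934 : Led Lsl_gf (LP (LK LD1_c10 LD2_c31 LD3_c34)) = (LP (LK LD1_c10 LD2_c37 LD3_c53)) :=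
  Lgr Lrot124 (Lpe (K49.f224693 IH) (Lpe (K12.f224697 IH) (Lpe (K22.f252099 IH) (Lpe (f261258 IH) (Lpr_bt (f261262 IH) (Lpe (K31.f389253 IH) (Lpr_ct (K31.f332285 IH) (Lpr_gt (f387717 IH) (Lpe (f387713 IH) (Lpr_bt (f399921 IH) (Lpn (LP (LK LD1_c10 LD2_c37 LD3_c53)))))))))))))
theorem f331659 : Led Lsl_at (LP (LK LD1_c5 LD2_c24 LD3_c39)) = (LP (LK LD1_c10 LD2_c39 LD3_c55)) :=
  Lre_a IH (LK LD1_c5 LD2_c24 LD3_c39) (LK LD1_c10 LD2_c39 LD3_c55) Lrfl Lrfl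
theorem f218445 : Led Lsl_ct (LP (LK LD1_c5 LD2_c24 LD3_c39)) = (LP (LK LD1_c10 LD2_c39 LD3_c58)) :=
  Lre_c IH (LK LD1_c5 LD2_c24 LD3_c39) (LK LD1_c10 LD2_c39 LD3_c58) Lrfl Lrfl
theorem f338183 : Led Lsl_ff (LP (LK LD1_c5 LD2_c24 LD3_c39)) = (LP (LK LD1_c10 LD2_c31 LD3_c34)) :=
  Lgr Lrot23 (Lpr_ct (f218445 IH) (Lpr_ft (K49.f338177 IH) (Lpr_ct (K22.f224783 IH) (Lpn (LP (LK LD1_c10 LD2_c31 LD3_c34))))))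
theorem f409953 : Led Lsl_gt (LP (LK LD1_c10 LD2_c31 LD3_c34)) = (LP (LK LD1_c10 LD2_c37 LD3_c50)) :=
  Lgr Lrot5 (Lpe (f338183 IH) (Lpr_at (f331659 IH) (Lpr_gf (K45.f409950 IH) (Lpn (LP (LK LD1_c10 LD2_c37 LD3_c50))))))
theorem f619529 : Led Lsl_af (LP (LK LD1_c10 LD2_c37 LD3_c50)) = (LP (LK LD1_c10 LD2_c39 LD3_c57)) :=
  Lgr Lrot31 (Lpe (f409953 IH) (Lpr_gf (f399934 IH) (Lpr_ft (f619521 IH) (Lpn (LP (LK LD1_c10 LD2_c39 LD3_c57))))))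
theorem f224197 : Led Lsl_dt (LP (LK LD1_c10 LD2_c37 LD3_c50)) = (LP (LK LD1_c5 LD2_c23 LD3_c40)) :=
  Lre_d IH (LK LD1_c10 LD2_c37 LD3_c50) (LK LD1_c5 LD2_c23 LD3_c40) Lrfl Lrfl
theorem f213002 : Led Lsl_bt (LP (LK LD1_c19 LD2_c18 LD3_c47)) = (LP (LK LD1_c10 LD2_c39 LD3_c57)) :=
  Lre_b IH (LK LD1_c19 LD2_c18 LD3_c47) (LK LD1_c10 LD2_c39 LD3_c57) Lrfl Lrfl
theorem f417703 : Led Lsl_cf (LP (LK LD1_c19 LD2_c21 LD3_c5)) = (LP (LK LD1_c19 LD2_c18 LD3_c47)) :=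
  Lgr Lrot163 (Lpe (K42.f246559 IH) (Lpe (K31.f226270 IH) (Lpr_gf (K30.f246527 IH) (Lpe (K14.f246500 IH) (Lpr_ct (K14.f246501 IH) (Lpe (K14.f55173 IH) (Lpr_cf (K20.f218229 IH) (Lpr_bt (K38.f218624 IH) (Lpe (f213001 IH) (Lpe (f213002 IH) (Lpn (LP (LK LD1_c19 LD2_c18 LD3_c47)))))))))))))
theorem f390757 : Led Lsl_dt (LP (LK LD1_c5 LD2_c33 LD3_c47)) = (LP (LK LD1_c10 LD2_c59 LD3_c33)) :=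
  Lre_d IH (LK LD1_c5 LD2_c33 LD3_c47) (LK LD1_c10 LD2_c59 LD3_c33) Lrfl Lrfl
theorem f417711 : Led Lsl_gt (LP (LK LD1_c10 LD2_c59 LD3_c33)) = (LP (LK LD1_c19 LD2_c18 LD3_c47)) :=
  Lgr Lrot9 (Lpe (f390757 IH) (Lpr_gt (K31.f387796 IH) (Lpr_ct (K22.f218455 IH) (Lpr_gt (K22.f331785 IH) (Lpr_ct (K31.f169326 IH) (Lpe (K30.f226244 IH) (Lpe (K30.f226245 IH) (Lpe (K42.f226256 IH) (Lpr_cf (f417703 IH) (Lpn (LP (LK LD1_c19 LD2_c18 LD3_c47))))))))))))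
theorem f173018 : Led Lsl_gt (LP (LK LD1_c5 LD2_c34 LD3_c28)) = (LP (LK LD1_c2 LD2_c43 LD3_c11)) :=
  Lre_g IH (LK LD1_c5 LD2_c34 LD3_c28) (LK LD1_c2 LD2_c43 LD3_c11) Lrfl Lrfl
theorem f226265 : Led Lsl_dt (LP (LK LD1_c2 LD2_c43 LD3_c11)) = (LP (LK LD1_c5 LD2_c34 LD3_c29)) :=
  Lre_d IH (LK LD1_c2 LD2_c43 LD3_c11) (LK LD1_c5 LD2_c34 LD3_c29) Lrfl Lrfl
theorem f277327 : Led Lsl_dt (LP (LK LD1_c19 LD2_c21 LD3_c54)) = (LP (LK LD1_c10 LD2_c41 LD3_c53)) :=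
  Lre_d IH (LK LD1_c19 LD2_c21 LD3_c54) (LK LD1_c10 LD2_c41 LD3_c53) Lrfl Lrfl
theorem f384466 : Led Lsl_gt (LP (LK LD1_c28 LD2_c37 LD3_c33)) = (LP (LK LD1_c19 LD2_c21 LD3_c54)) :=
  Lgr Lrot94 (Lpe (f384460 IH) (Lpr_gt (K42.f384464 IH) (Lpr_dt (K42.f173023 IH) (Lpr_gt (f173018 IH) (Lpr_dt (f226265 IH) (Lpe (K30.f226284 IH) (Lpe (f226322 IH) (Lpe (f226375 IH) (Lpe (f277327 IH) (Lpn (LP (LK LD1_c19 LD2_c21 LD3_c54))))))))))))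
theorem f277328 : Led Lsl_dt (LP (LK LD1_c10 LD2_c48 LD3_c23)) = (LP (LK LD1_c19 LD2_c21 LD3_c53)) :=
  Lgr Lrot42 (Lpr_df (K30.f277319 IH) (Lpn (LP (LK LD1_c19 LD2_c21 LD3_c53))))
theorem f223312 : Led Lsl_gt (LP (LK LD1_c19 LD2_c3 LD3_c25)) = (LP (LK LD1_c10 LD2_c30 LD3_c56)) :=
  Lre_g IH (LK LD1_c19 LD2_c3 LD3_c25) (LK LD1_c10 LD2_c30 LD3_c56) Lrfl Lrfl
theorem f277424 : Led Lsl_gt (LP (LK LD1_c10 LD2_c35 LD3_c49)) = (LP (LK LD1_c19 LD2_c3 LD3_c25)) :=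
  Lgr Lrot5 (Lpr_ft (K17.f277417 IH) (Lpr_at (K17.f223304 IH) (Lpe (f223312 IH) (Lpn (LP (LK LD1_c19 LD2_c3 LD3_c25))))))
theorem f223314 : Led Lsl_bt (LP (LK LD1_c28 LD2_c29 LD3_c38)) = (LP (LK LD1_c19 LD2_c3 LD3_c25)) :=
  Lre_b IH (LK LD1_c28 LD2_c29 LD3_c38) (LK LD1_c19 LD2_c3 LD3_c25) Lrfl Lrfl
theorem f278665 : Led Lsl_gt (LP (LK LD1_c8 LD2_c53 LD3_c30)) = (LP (LK LD1_c16 LD2_c37 LD3_c34)) :=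
  Lre_g IH (LK LD1_c8 LD2_c53 LD3_c30) (LK LD1_c16 LD2_c37 LD3_c34) Lrfl Lrfl
theorem f278673 : Led Lsl_ct (LP (LK LD1_c26 LD2_c34 LD3_c55)) = (LP (LK LD1_c16 LD2_c37 LD3_c34)) :=
  Lre_c IH (LK LD1_c26 LD2_c34 LD3_c55) (LK LD1_c16 LD2_c37 LD3_c34) Lrfl Lrfl
theorem f293435 : Led Lsl_gt (LP (LK LD1_c26 LD2_c48 LD3_c0)) = (LP (LK LD1_c16 LD2_c50 LD3_c31)) :=
  Lre_g IH (LK LD1_c26 LD2_c48 LD3_c0) (LK LD1_c16 LD2_c50 LD3_c31) Lrfl Lrfl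
theorem f293436 : Led Lsl_bt (LP (LK LD1_c26 LD2_c34 LD3_c55)) = (LP (LK LD1_c26 LD2_c48 LD3_c0)) :=
  Lgr Lrot130 (Lpr_ct (f278673 IH) (Lpe (f278665 IH) (Lpr_cf (K31.f278656 IH) (Lpr_bt (K31.f293434 IH) (Lpr_gf (K19.f293420 IH) (Lpe (K19.f187046 IH) (Lpr_ct (K19.f187047 IH) (Lpe (K19.f187032 IH) (Lpe (K19.f293432 IH) (Lpe (f293435 IH) (Lpn (LP (LK LD1_c26 LD2_c48 LD3_c0)))))))))))))
theorem f278666 : Led Lsl_ct (LP (LK LD1_c16 LD2_c37 LD3_c34)) = (LP (LK LD1_c26 LD2_c34 LD3_c55)) :=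
  Lre_c IH (LK LD1_c16 LD2_c37 LD3_c34) (LK LD1_c26 LD2_c34 LD3_c55) Lrfl Lrfl
theorem f278667 : Led Lsl_bt (LP (LK LD1_c26 LD2_c34 LD3_c54)) = (LP (LK LD1_c16 LD2_c37 LD3_c34)) :=
  Lre_b IH (LK LD1_c26 LD2_c34 LD3_c54) (LK LD1_c16 LD2_c37 LD3_c34) Lrfl Lrfl
theorem f278664 : Led Lsl_bt (LP (LK LD1_c4 LD2_c27 LD3_c50)) = (LP (LK LD1_c8 LD2_c53 LD3_c30)) :=
  Lre_b IH (LK LD1_c4 LD2_c27 LD3_c50) (LK LD1_c8 LD2_c53 LD3_c30) Lrfl Lrfl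
theorem f278668 : Led Lsl_ct (LP (LK LD1_c26 LD2_c34 LD3_c54)) = (LP (LK LD1_c19 LD2_c3 LD3_c25)) :=
  Lgr Lrot64 (Lpr_bt (f278667 IH) (Lpe (f278665 IH) (Lpe (f278664 IH) (Lpr_ct (K16.f278642 IH) (Lpr_gf (K15.f238190 IH) (Lpe (K14.f213899 IH) (Lpr_gf (K12.f223288 IH) (Lpe (K17.f223290 IH) (Lpe (K17.f223308 IH) (Lpe (f223312 IH) (Lpn (LP (LK LD1_c19 LD2_c3 LD3_c25)))))))))))))
theorem f278675 : Led Lsl_cf (LP (LK LD1_c26 LD2_c34 LD3_c54)) = (LP (LK LD1_c19 LD2_c3 LD3_c25)) :=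
  Lgr Lrot11 (Lpr_ct (f278668 IH) (Lpn (LP (LK LD1_c19 LD2_c3 LD3_c25))))
theorem f293448 : Led Lsl_cf (LP (LK LD1_c28 LD2_c29 LD3_c38)) = (LP (LK LD1_c26 LD2_c48 LD3_c0)) :=
  Lgr Lrot97 (Lpr_bt (f223314 IH) (Lpe (f278675 IH) (Lpr_bt (f278667 IH) (Lpr_ct (f278666 IH) (Lpr_bt (f293436 IH) (Lpn (LP (LK LD1_c26 LD2_c48 LD3_c0))))))))
theorem f293452 : Led Lsl_ct (LP (LK LD1_c28 LD2_c29 LD3_c38)) = (LP (LK LD1_c26 LD2_c48 LD3_c0)) :=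
  Lgr Lrot59 (Lpr_cf (f293448 IH) (Lpn (LP (LK LD1_c26 LD2_c48 LD3_c0))))
theorem f293456 : Led Lsl_bt (LP (LK LD1_c10 LD2_c31 LD3_c0)) = (LP (LK LD1_c19 LD2_c3 LD3_c40)) :=
  Lre_b IH (LK LD1_c10 LD2_c31 LD3_c0) (LK LD1_c19 LD2_c3 LD3_c40) Lrfl Lrfl
theorem f384448 : Led Lsl_gf (LP (LK LD1_c10 LD2_c48 LD3_c23)) = (LP (LK LD1_c19 LD2_c3 LD3_c40)) :=
  Lgr Lrot181 (Lpr_ct (K30.f277326 IH) (Lpr_gt (K31.f384442 IH) (Lpe (K30.f225406 IH) (Lpr_bt (K17.f276890 IH) (Lpr_gt (f277424 IH) (Lpe (f223314 IH) (Lpr_ct (f293452 IH) (Lpr_gt (f293435 IH) (Lpr_cf (K38.f293457 IH) (Lpr_bt (f293456 IH) (Lpn (LP (LK LD1_c19 LD2_c3 LD3_c40)))))))))))))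
theorem f417715 : Led Lsl_df (LP (LK LD1_c19 LD2_c3 LD3_c40)) = (LP (LK LD1_c19 LD2_c18 LD3_c47)) :=
  Lgr Lrot153 (Lpe (f384448 IH) (Lpr_dt (f277328 IH) (Lpe (K30.f226329 IH) (Lpe (f277327 IH) (Lpe (f384466 IH) (Lpe (K42.f277081 IH) (Lpe (K31.f391368 IH) (Lpe (K31.f391370 IH) (Lpr_gt (f417711 IH) (Lpn (LP (LK LD1_c19 LD2_c18 LD3_c47))))))))))))
theorem f187033 : Led Lsl_bt (LP (LK LD1_c19 LD2_c3 LD3_c40)) = (LP (LK LD1_c10 LD2_c31 LD3_c0)) :=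
  Lre_b IH (LK LD1_c19 LD2_c3 LD3_c40) (LK LD1_c10 LD2_c31 LD3_c0) Lrfl Lrfl
theorem f417706 : Led Lsl_bt (LP (LK LD1_c10 LD2_c39 LD3_c57)) = (LP (LK LD1_c19 LD2_c18 LD3_c47)) :=
  Lre_b IH (LK LD1_c10 LD2_c39 LD3_c57) (LK LD1_c19 LD2_c18 LD3_c47) Lrfl Lrfl
theorem f417719 : Led Lsl_dt (LP (LK LD1_c10 LD2_c31 LD3_c0)) = (LP (LK LD1_c10 LD2_c39 LD3_c57)) :=
  Lgr Lrot79 (Lpe (f187033 IH) (Lpr_df (f417715 IH) (Lpe (f417706 IH) (Lpn (LP (LK LD1_c10 LD2_c39 LD3_c57))))))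
theorem f619535 : Led Lsl_at (LP (LK LD1_c5 LD2_c23 LD3_c40)) = (LP (LK LD1_c10 LD2_c31 LD3_c0)) :=
  Lgr Lrot51 (Lpe (f224197 IH) (Lpr_af (f619529 IH) (Lpe (f417719 IH) (Lpn (LP (LK LD1_c10 LD2_c31 LD3_c0))))))
theorem f619555 : Led Lsl_af (LP (LK LD1_c10 LD2_c37 LD3_c49)) = (LP (LK LD1_c16 LD2_c50 LD3_c31)) :=
  Lgr Lrot68 (Lpr_ct (f224182 IH) (Lpr_at (f619535 IH) (Lpe (K38.f293457 IH) (Lpn (LP (LK LD1_c16 LD2_c50 LD3_c31))))))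
theorem f224426 : Led Lsl_dt (LP (LK LD1_c10 LD2_c37 LD3_c49)) = (LP (LK LD1_c19 LD2_c15 LD3_c14)) :=
  Lre_d IH (LK LD1_c10 LD2_c37 LD3_c49) (LK LD1_c19 LD2_c15 LD3_c14) Lrfl Lrfl
theorem f316819 : Led Lsl_bt (LP (LK LD1_c10 LD2_c57 LD3_c61)) = (LP (LK LD1_c19 LD2_c48 LD3_c13)) :=
  Lre_b IH (LK LD1_c10 LD2_c57 LD3_c61) (LK LD1_c19 LD2_c48 LD3_c13) Lrfl Lrfl
theorem f390263 : Led Lsl_df (LP (LK LD1_c16 LD2_c50 LD3_c31)) = (LP (LK LD1_c19 LD2_c48 LD3_c13)) :=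
  Lgr Lrot12 (Lpr_bt (K19.f293431 IH) (Lpr_dt (K38.f390258 IH) (Lpr_bt (f316819 IH) (Lpn (LP (LK LD1_c19 LD2_c48 LD3_c13))))))
theorem f619559 : Led Lsl_at (LP (LK LD1_c19 LD2_c15 LD3_c14)) = (LP (LK LD1_c19 LD2_c48 LD3_c13)) :=
  Lgr Lrot51 (Lpe (f224426 IH) (Lpr_af (f619555 IH) (Lpr_df (f390263 IH) (Lpn (LP (LK LD1_c19 LD2_c48 LD3_c13))))))
theorem f399944 : Led Lsl_ct (LP (LK LD1_c28 LD2_c41 LD3_c34)) = (LP (LK LD1_c19 LD2_c15 LD3_c14)) :=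
  Lre_c IH (LK LD1_c28 LD2_c41 LD3_c34) (LK LD1_c19 LD2_c15 LD3_c14) Lrfl Lrfl
theorem f619563 : Led Lsl_af (LP (LK LD1_c28 LD2_c41 LD3_c34)) = (LP (LK LD1_c28 LD2_c43 LD3_c48)) :=
  Lgr Lrot68 (Lpr_ct (f399944 IH) (Lpr_at (f619559 IH) (Lpe (K38.f316816 IH) (Lpn (LP (LK LD1_c28 LD2_c43 LD3_c48))))))
theorem f312760 : Led Lsl_at (LP (LK LD1_c10 LD2_c37 LD3_c25)) = (LP (LK LD1_c5 LD2_c23 LD3_c27)) :=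
  Lre_a IH (LK LD1_c10 LD2_c37 LD3_c25) (LK LD1_c5 LD2_c23 LD3_c27) Lrfl Lrfl
theorem f312761 : Led Lsl_ff (LP (LK LD1_c10 LD2_c37 LD3_c25)) = (LP (LK LD1_c19 LD2_c3 LD3_c23)) :=
  Lgr Lrot30 (Lpr_at (f312760 IH) (Lpr_ft (K22.f312748 IH) (Lpr_at (K22.f235661 IH) (Lpn (LP (LK LD1_c19 LD2_c3 LD3_c23))))))
theorem f221607 : Led Lsl_gt (LP (LK LD1_c10 LD2_c37 LD3_c24)) = (LP (LK LD1_c5 LD2_c23 LD3_c27)) :=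
  Lre_g IH (LK LD1_c10 LD2_c37 LD3_c24) (LK LD1_c5 LD2_c23 LD3_c27) Lrfl Lrfl
theorem f312873 : Led Lsl_gf (LP (LK LD1_c10 LD2_c37 LD3_c24)) = (LP (LK LD1_c19 LD2_c3 LD3_c23)) :=
  Lgr Lrot47 (Lpr_gt (f221607 IH) (Lpe (f312760 IH) (Lpr_ff (f312761 IH) (Lpn (LP (LK LD1_c19 LD2_c3 LD3_c23))))))
theorem f312875 : Led Lsl_dt (LP (LK LD1_c10 LD2_c37 LD3_c24)) = (LP (LK LD1_c19 LD2_c14 LD3_c35)) :=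
  Lre_d IH (LK LD1_c10 LD2_c37 LD3_c24) (LK LD1_c19 LD2_c14 LD3_c35) Lrfl Lrfl
theorem f399938 : Led Lsl_gf (LP (LK LD1_c18 LD2_c2 LD3_c42)) = (LP (LK LD1_c19 LD2_c14 LD3_c35)) :=
  Lgr Lrot143 (Lpr_dt (K22.f235180 IH) (Lpr_cf (K22.f235165 IH) (Lpe (K22.f235174 IH) (Lpr_gf (f399934 IH) (Lpe (f312850 IH) (Lpr_gf (K22.f312848 IH) (Lpe (K22.f312784 IH) (Lpe (f312873 IH) (Lpr_dt (f312875 IH) (Lpn (LP (LK LD1_c19 LD2_c14 LD3_c35))))))))))))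
theorem f224427 : Led Lsl_dt (LP (LK LD1_c19 LD2_c15 LD3_c14)) = (LP (LK LD1_c10 LD2_c37 LD3_c49)) :=
  Lre_d IH (LK LD1_c19 LD2_c15 LD3_c14) (LK LD1_c10 LD2_c37 LD3_c49) Lrfl Lrfl
theorem f399945 : Led Lsl_gt (LP (LK LD1_c27 LD2_c44 LD3_c28)) = (LP (LK LD1_c28 LD2_c41 LD3_c34)) :=
  Lgr Lrot150 (Lpe (K22.f235172 IH) (Lpr_gf (f399938 IH) (Lpe (f312875 IH) (Lpr_gt (f221607 IH) (Lpr_ct (K22.f218450 IH) (Lpr_gt (K30.f219766 IH) (Lpr_ct (K30.f224196 IH) (Lpe (f224427 IH) (Lpe (f399944 IH) (Lpn (LP (LK LD1_c28 LD2_c41 LD3_c34))))))))))))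
theorem f619567 : Led Lsl_ft (LP (LK LD1_c28 LD2_c41 LD3_c36)) = (LP (LK LD1_c28 LD2_c43 LD3_c48)) :=
  Lgr Lrot2 (Lpe (K45.f409933 IH) (Lpr_gt (f399945 IH) (Lpr_af (f619563 IH) (Lpn (LP (LK LD1_c28 LD2_c43 LD3_c48))))))
theorem f619573 : Led Lsl_ff (LP (LK LD1_c28 LD2_c41 LD3_c36)) = (LP (LK LD1_c28 LD2_c43 LD3_c48)) :=
  Lgr Lrot3 (Lpr_ft (f619567 IH) (Lpn (LP (LK LD1_c28 LD2_c43 LD3_c48))))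
theorem f619575 : Led Lsl_ft (LP (LK LD1_c19 LD2_c15 LD3_c18)) = (LP (LK LD1_c19 LD2_c48 LD3_c13)) :=
  Lgr Lrot4 (Lpe (K45.f312855 IH) (Lpr_ff (f619573 IH) (Lpr_cf (K38.f316816 IH) (Lpn (LP (LK LD1_c19 LD2_c48 LD3_c13))))))
theorem f619589 : Led Lsl_ff (LP (LK LD1_c10 LD2_c37 LD3_c52)) = (LP (LK LD1_c16 LD2_c50 LD3_c31)) :=
  Lgr Lrot19 (Lpr_dt (K45.f312854 IH) (Lpr_ft (f619575 IH) (Lpe (f390263 IH) (Lpn (LP (LK LD1_c16 LD2_c50 LD3_c31))))))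
theorem f619593 : Led Lsl_ft (LP (LK LD1_c10 LD2_c37 LD3_c52)) = (LP (LK LD1_c16 LD2_c50 LD3_c31)) :=
  Lgr Lrot48 (Lpr_ff (f619589 IH) (Lpn (LP (LK LD1_c16 LD2_c50 LD3_c31))))
theorem f409906 : Led Lsl_bt (LP (LK LD1_c5 LD2_c35 LD3_c44)) = (LP (LK LD1_c10 LD2_c37 LD3_c52)) :=
  Lgr Lrot127 (Lpr_bf (K22.f278011 IH) (Lpn (LP (LK LD1_c10 LD2_c37 LD3_c52))))
theorem f619595 : Led Lsl_ff (LP (LK LD1_c5 LD2_c35 LD3_c44)) = (LP (LK LD1_c9 LD2_c0 LD3_c47)) :=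
  Lgr Lrot25 (Lpr_bt (f409906 IH) (Lpr_ft (f619593 IH) (Lpr_bt (K19.f293431 IH) (Lpn (LP (LK LD1_c9 LD2_c0 LD3_c47))))))
theorem f619613 : Led Lsl_at (LP (LK LD1_c5 LD2_c35 LD3_c44)) = (LP (LK LD1_c9 LD2_c0 LD3_c48)) :=
  Lgr Lrot26 (Lpr_ff (f619595 IH) (Lpe (K19.f312999 IH) (Lpe (K50.f391457 IH) (Lpn (LP (LK LD1_c9 LD2_c0 LD3_c48))))))
theorem f313039 : Led Lsl_et (LP (LK LD1_c11 LD2_c3 LD3_c43)) = (LP (LK LD1_c5 LD2_c35 LD3_c44)) :=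
  Lre_e IH (LK LD1_c11 LD2_c3 LD3_c43) (LK LD1_c5 LD2_c35 LD3_c44) Lrfl Lrfl
theorem f391550 : Led Lsl_et (LP (LK LD1_c9 LD2_c0 LD3_c48)) = (LP (LK LD1_c16 LD2_c50 LD3_c34)) :=
  Lre_e IH (LK LD1_c9 LD2_c0 LD3_c48) (LK LD1_c16 LD2_c50 LD3_c34) Lrfl Lrfl
theorem f619621 : Led Lsl_af (LP (LK LD1_c11 LD2_c3 LD3_c43)) = (LP (LK LD1_c16 LD2_c50 LD3_c34)) :=
  Lgr Lrot50 (Lpr_et (f313039 IH) (Lpr_at (f619613 IH) (Lpr_et (f391550 IH) (Lpn (LP (LK LD1_c16 LD2_c50 LD3_c34))))))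
theorem f409929 : Led Lsl_ft (LP (LK LD1_c11 LD2_c3 LD3_c43)) = (LP (LK LD1_c19 LD2_c56 LD3_c7)) :=
  Lre_f IH (LK LD1_c11 LD2_c3 LD3_c43) (LK LD1_c19 LD2_c56 LD3_c7) Lrfl Lrfl
theorem f391544 : Led Lsl_ft (LP (LK LD1_c26 LD2_c48 LD3_c5)) = (LP (LK LD1_c16 LD2_c50 LD3_c34)) :=
  Lre_f IH (LK LD1_c26 LD2_c48 LD3_c5) (LK LD1_c16 LD2_c50 LD3_c34) Lrfl Lrfl
theorem f619629 : Led Lsl_at (LP (LK LD1_c19 LD2_c56 LD3_c7)) = (LP (LK LD1_c26 LD2_c48 LD3_c5)) :=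
  Lgr Lrot66 (Lpe (f409929 IH) (Lpr_af (f619621 IH) (Lpe (f391544 IH) (Lpn (LP (LK LD1_c26 LD2_c48 LD3_c5))))))
theorem f619633 : Led Lsl_ct (LP (LK LD1_c29 LD2_c12 LD3_c2)) = (LP (LK LD1_c19 LD2_c56 LD3_c7)) :=
  Lre_c IH (LK LD1_c29 LD2_c12 LD3_c2) (LK LD1_c19 LD2_c56 LD3_c7) Lrfl Lrfl
theorem f391464 : Led Lsl_et (LP (LK LD1_c16 LD2_c50 LD3_c34)) = (LP (LK LD1_c9 LD2_c0 LD3_c48)) :=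
  Lre_e IH (LK LD1_c16 LD2_c50 LD3_c34) (LK LD1_c9 LD2_c0 LD3_c48) Lrfl Lrfl
theorem f391513 : Led Lsl_et (LP (LK LD1_c8 LD2_c56 LD3_c11)) = (LP (LK LD1_c16 LD2_c43 LD3_c37)) :=
  Lre_e IH (LK LD1_c8 LD2_c56 LD3_c11) (LK LD1_c16 LD2_c43 LD3_c37) Lrfl Lrfl
theorem f391514 : Led Lsl_cf (LP (LK LD1_c16 LD2_c50 LD3_c34)) = (LP (LK LD1_c16 LD2_c43 LD3_c37)) :=
  Lgr Lrot39 (Lpr_et (f391464 IH) (Lpr_ct (f391460 IH) (Lpr_et (f391513 IH) (Lpn (LP (LK LD1_c16 LD2_c43 LD3_c37))))))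
theorem f391531 : Led Lsl_ft (LP (LK LD1_c16 LD2_c50 LD3_c34)) = (LP (LK LD1_c26 LD2_c48 LD3_c5)) :=
  Lre_f IH (LK LD1_c16 LD2_c50 LD3_c34) (LK LD1_c26 LD2_c48 LD3_c5) Lrfl Lrfl
theorem f391532 : Led Lsl_ft (LP (LK LD1_c26 LD2_c42 LD3_c22)) = (LP (LK LD1_c16 LD2_c43 LD3_c37)) :=
  Lre_f IH (LK LD1_c26 LD2_c42 LD3_c22) (LK LD1_c16 LD2_c43 LD3_c37) Lrfl Lrfl
theorem f391533 : Led Lsl_ct (LP (LK LD1_c26 LD2_c48 LD3_c5)) = (LP (LK LD1_c26 LD2_c42 LD3_c22)) :=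
  Lgr Lrot40 (Lpe (f391531 IH) (Lpr_cf (f391514 IH) (Lpe (f391532 IH) (Lpn (LP (LK LD1_c26 LD2_c42 LD3_c22))))))
theorem f619634 : Led Lsl_af (LP (LK LD1_c29 LD2_c12 LD3_c2)) = (LP (LK LD1_c26 LD2_c42 LD3_c22)) :=
  Lgr Lrot68 (Lpr_ct (f619633 IH) (Lpr_at (f619629 IH) (Lpr_ct (f391533 IH) (Lpn (LP (LK LD1_c26 LD2_c42 LD3_c22))))))
theorem f619639 : Led Lsl_at (LP (LK LD1_c29 LD2_c12 LD3_c2)) = (LP (LK LD1_c26 LD2_c42 LD3_c22)) :=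
  Lgr Lrot100 (Lpr_af (f619634 IH) (Lpn (LP (LK LD1_c26 LD2_c42 LD3_c22))))
theorem f384755 : Led Lsl_ft (LP (LK LD1_c19 LD2_c56 LD3_c4)) = (LP (LK LD1_c29 LD2_c12 LD3_c2)) :=
  Lre_f IH (LK LD1_c19 LD2_c56 LD3_c4) (LK LD1_c29 LD2_c12 LD3_c2) Lrfl Lrfl
theorem f619644 : Led Lsl_af (LP (LK LD1_c19 LD2_c56 LD3_c4)) = (LP (LK LD1_c16 LD2_c43 LD3_c37)) :=
  Lgr Lrot45 (Lpr_ft (f384755 IH) (Lpr_at (f619639 IH) (Lpr_ft (f391532 IH) (Lpn (LP (LK LD1_c16 LD2_c43 LD3_c37))))))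
theorem f354521 : Led Lsl_et (LP (LK LD1_c19 LD2_c56 LD3_c4)) = (LP (LK LD1_c11 LD2_c3 LD3_c41)) :=
  Lre_e IH (LK LD1_c19 LD2_c56 LD3_c4) (LK LD1_c11 LD2_c3 LD3_c41) Lrfl Lrfl
theorem f619648 : Led Lsl_at (LP (LK LD1_c11 LD2_c3 LD3_c41)) = (LP (LK LD1_c8 LD2_c56 LD3_c11)) :=
  Lgr Lrot80 (Lpe (f354521 IH) (Lpr_af (f619644 IH) (Lpe (f391513 IH) (Lpn (LP (LK LD1_c8 LD2_c56 LD3_c11))))))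
theorem f226565 : Led Lsl_at (LP (LK LD1_c10 LD2_c52 LD3_c8)) = (LP (LK LD1_c5 LD2_c30 LD3_c21)) :=
  Lre_a IH (LK LD1_c10 LD2_c52 LD3_c8) (LK LD1_c5 LD2_c30 LD3_c21) Lrfl Lrfl
theorem f384746 : Led Lsl_ft (LP (LK LD1_c11 LD2_c3 LD3_c41)) = (LP (LK LD1_c10 LD2_c52 LD3_c8)) :=
  Lgr Lrot2 (Lpr_gt (K30.f384744 IH) (Lpr_gt (K30.f179143 IH) (Lpe (f226565 IH) (Lpn (LP (LK LD1_c10 LD2_c52 LD3_c8))))))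
theorem f384751 : Led Lsl_ff (LP (LK LD1_c11 LD2_c3 LD3_c41)) = (LP (LK LD1_c10 LD2_c52 LD3_c8)) :=
  Lgr Lrot3 (Lpr_ft (f384746 IH) (Lpn (LP (LK LD1_c10 LD2_c52 LD3_c8))))
theorem f619654 : Led Lsl_gt (LP (LK LD1_c10 LD2_c52 LD3_c8)) = (LP (LK LD1_c16 LD2_c43 LD3_c36)) :=
  Lgr Lrot5 (Lpe (f384751 IH) (Lpr_at (f619648 IH) (Lpe (K30.f225913 IH) (Lpn (LP (LK LD1_c16 LD2_c43 LD3_c36))))))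
theorem f384967 : Led Lsl_bt (LP (LK LD1_c11 LD2_c5 LD3_c39)) = (LP (LK LD1_c16 LD2_c50 LD3_c5)) :=
  Lgr Lrot35 (Lpr_ff (K30.f384965 IH) (Lpe (K30.f384944 IH) (Lpe (K30.f382826 IH) (Lpn (LP (LK LD1_c16 LD2_c50 LD3_c5))))))
theorem f619660 : Led Lsl_cf (LP (LK LD1_c10 LD2_c52 LD3_c8)) = (LP (LK LD1_c9 LD2_c0 LD3_c47)) :=
  Lgr Lrot125 (Lpr_gt (f619654 IH) (Lpe (K50.f384969 IH) (Lpr_bt (f384967 IH) (Lpr_gt (K30.f293450 IH) (Lpe (K30.f238087 IH) (Lpr_ct (K19.f212540 IH) (Lpr_gt (K15.f177914 IH) (Lpe (K13.f175036 IH) (Lpr_bt (K19.f293429 IH) (Lpr_gt (K19.f293430 IH) (Lpn (LP (LK LD1_c9 LD2_c0 LD3_c47)))))))))))))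
theorem f384748 : Led Lsl_dt (LP (LK LD1_c10 LD2_c52 LD3_c8)) = (LP (LK LD1_c19 LD2_c39 LD3_c2)) :=
  Lre_d IH (LK LD1_c10 LD2_c52 LD3_c8) (LK LD1_c19 LD2_c39 LD3_c2) Lrfl Lrfl
theorem f394087 : Led Lsl_df (LP (LK LD1_c4 LD2_c31 LD3_c32)) = (LP (LK LD1_c5 LD2_c33 LD3_c7)) :=
  Lgr Lrot38 (Lpr_dt (K50.f394085 IH) (Lpn (LP (LK LD1_c5 LD2_c33 LD3_c7))))
theorem f225794 : Led Lsl_gt (LP (LK LD1_c5 LD2_c33 LD3_c8)) = (LP (LK LD1_c10 LD2_c58 LD3_c12)) :=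
  Lre_g IH (LK LD1_c5 LD2_c33 LD3_c8) (LK LD1_c10 LD2_c58 LD3_c12) Lrfl Lrfl
theorem f619668 : Led Lsl_cf (LP (LK LD1_c19 LD2_c39 LD3_c2)) = (LP (LK LD1_c10 LD2_c58 LD3_c12)) :=
  Lgr Lrot99 (Lpe (f384748 IH) (Lpr_cf (f619660 IH) (Lpe (K19.f293430 IH) (Lpe (K30.f276226 IH) (Lpe (K19.f175043 IH) (Lpr_df (f394087 IH) (Lpr_gt (K50.f213746 IH) (Lpr_ct (K50.f174159 IH) (Lpr_gt (f225794 IH) (Lpn (LP (LK LD1_c10 LD2_c58 LD3_c12))))))))))))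
theorem f619672 : Led Lsl_ct (LP (LK LD1_c19 LD2_c39 LD3_c2)) = (LP (LK LD1_c10 LD2_c58 LD3_c12)) :=
  Lgr Lrot59 (Lpr_cf (f619668 IH) (Lpn (LP (LK LD1_c10 LD2_c58 LD3_c12))))
theorem f401183 : Led Lsl_at (LP (LK LD1_c10 LD2_c52 LD3_c9)) = (LP (LK LD1_c19 LD2_c39 LD3_c2)) :=
  Lre_a IH (LK LD1_c10 LD2_c52 LD3_c9) (LK LD1_c19 LD2_c39 LD3_c2) Lrfl Lrfl
theorem f226677 : Led Lsl_dt (LP (LK LD1_c5 LD2_c30 LD3_c21)) = (LP (LK LD1_c10 LD2_c52 LD3_c9)) :=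
  Lre_d IH (LK LD1_c5 LD2_c30 LD3_c21) (LK LD1_c10 LD2_c52 LD3_c9) Lrfl Lrfl
theorem f396742 : Led Lsl_cf (LP (LK LD1_c10 LD2_c52 LD3_c9)) = (LP (LK LD1_c16 LD2_c47 LD3_c58)) :=
  Lgr Lrot99 (Lpe (f226677 IH) (Lpe (K30.f226569 IH) (Lpr_gf (K30.f396737 IH) (Lpe (K30.f313034 IH) (Lpe (K30.f385077 IH) (Lpe (f178066 IH) (Lpe (K45.f388263 IH) (Lpr_ct (f319909 IH) (Lpr_gt (f390198 IH) (Lpn (LP (LK LD1_c16 LD2_c47 LD3_c58))))))))))))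
theorem f619682 : Led Lsl_af (LP (LK LD1_c16 LD2_c47 LD3_c58)) = (LP (LK LD1_c10 LD2_c58 LD3_c12)) :=
  Lgr Lrot68 (Lpe (f396742 IH) (Lpr_at (f401183 IH) (Lpr_ct (f619672 IH) (Lpn (LP (LK LD1_c10 LD2_c58 LD3_c12))))))
theorem f180425 : Led Lsl_gt (LP (LK LD1_c8 LD2_c58 LD3_c48)) = (LP (LK LD1_c16 LD2_c47 LD3_c57)) :=
  Lre_g IH (LK LD1_c8 LD2_c58 LD3_c48) (LK LD1_c16 LD2_c47 LD3_c57) Lrfl Lrfl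
theorem f390209 : Led Lsl_gf (LP (LK LD1_c10 LD2_c57 LD3_c51)) = (LP (LK LD1_c16 LD2_c47 LD3_c57)) :=
  Lgr Lrot76 (Lpe (K52.f225792 IH) (Lpr_ff (K52.f390193 IH) (Lpr_gt (f180425 IH) (Lpn (LP (LK LD1_c16 LD2_c47 LD3_c57))))))
theorem f619684 : Led Lsl_ft (LP (LK LD1_c16 LD2_c47 LD3_c57)) = (LP (LK LD1_c10 LD2_c58 LD3_c12)) :=
  Lgr Lrot2 (Lpe (f390209 IH) (Lpr_gt (f390198 IH) (Lpr_af (f619682 IH) (Lpn (LP (LK LD1_c10 LD2_c58 LD3_c12))))))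
theorem f619686 : Led Lsl_ff (LP (LK LD1_c16 LD2_c47 LD3_c57)) = (LP (LK LD1_c10 LD2_c58 LD3_c12)) :=
  Lgr Lrot3 (Lpr_ft (f619684 IH) (Lpn (LP (LK LD1_c10 LD2_c58 LD3_c12))))
theorem f380709 : Led Lsl_ff (LP (LK LD1_c8 LD2_c58 LD3_c48)) = (LP (LK LD1_c5 LD2_c33 LD3_c8)) :=
  Lgr Lrot23 (Lpr_ct (K52.f261077 IH) (Lpr_ft (K24.f379903 IH) (Lpr_ct (K50.f174159 IH) (Lpn (LP (LK LD1_c5 LD2_c33 LD3_c8))))))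
theorem f390188 : Led Lsl_at (LP (LK LD1_c8 LD2_c58 LD3_c48)) = (LP (LK LD1_c16 LD2_c47 LD3_c51)) :=
  Lre_a IH (LK LD1_c8 LD2_c58 LD3_c48) (LK LD1_c16 LD2_c47 LD3_c51) Lrfl Lrfl
theorem f394058 : Led Lsl_gf (LP (LK LD1_c16 LD2_c47 LD3_c51)) = (LP (LK LD1_c10 LD2_c58 LD3_c12)) :=
  Lgr Lrot76 (Lpe (f390188 IH) (Lpr_ff (f380709 IH) (Lpr_gt (f225794 IH) (Lpn (LP (LK LD1_c10 LD2_c58 LD3_c12))))))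
theorem f619688 : Led Lsl_at (LP (LK LD1_c16 LD2_c47 LD3_c57)) = (LP (LK LD1_c10 LD2_c58 LD3_c13)) :=
  Lgr Lrot26 (Lpr_ff (f619686 IH) (Lpe (f394058 IH) (Lpe (K52.f390181 IH) (Lpn (LP (LK LD1_c10 LD2_c58 LD3_c13))))))
theorem f396790 : Led Lsl_at (LP (LK LD1_c19 LD2_c39 LD3_c2)) = (LP (LK LD1_c10 LD2_c52 LD3_c9)) :=
  Lre_a IH (LK LD1_c19 LD2_c39 LD3_c2) (LK LD1_c10 LD2_c52 LD3_c9) Lrfl Lrfl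
theorem f619670 : Led Lsl_at (LP (LK LD1_c16 LD2_c47 LD3_c58)) = (LP (LK LD1_c10 LD2_c58 LD3_c12)) :=
  Lgr Lrot107 (Lpe (f396767 IH) (Lpe (f396790 IH) (Lpr_cf (f619668 IH) (Lpn (LP (LK LD1_c10 LD2_c58 LD3_c12))))))
theorem f619694 : Led Lsl_ff (LP (LK LD1_c16 LD2_c47 LD3_c58)) = (LP (LK LD1_c10 LD2_c58 LD3_c13)) :=
  Lgr Lrot30 (Lpr_at (f619670 IH) (Lpe (f619686 IH) (Lpr_at (f619688 IH) (Lpn (LP (LK LD1_c10 LD2_c58 LD3_c13))))))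
theorem f619700 : Led Lsl_ft (LP (LK LD1_c16 LD2_c47 LD3_c58)) = (LP (LK LD1_c10 LD2_c58 LD3_c13)) :=
  Lgr Lrot48 (Lpr_ff (f619694 IH) (Lpn (LP (LK LD1_c10 LD2_c58 LD3_c13))))
theorem f619704 : Led Lsl_ff (LP (LK LD1_c10 LD2_c52 LD3_c9)) = (LP (LK LD1_c10 LD2_c57 LD3_c6)) :=
  Lgr Lrot23 (Lpr_ct (f396767 IH) (Lpr_ft (f619700 IH) (Lpr_ct (f174173 IH) (Lpn (LP (LK LD1_c10 LD2_c57 LD3_c6))))))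
theorem f226572 : Led Lsl_dt (LP (LK LD1_c10 LD2_c52 LD3_c9)) = (LP (LK LD1_c5 LD2_c30 LD3_c21)) :=
  Lre_d IH (LK LD1_c10 LD2_c52 LD3_c9) (LK LD1_c5 LD2_c30 LD3_c21) Lrfl Lrfl
theorem f619710 : Led Lsl_ft (LP (LK LD1_c5 LD2_c30 LD3_c21)) = (LP (LK LD1_c8 LD2_c56 LD3_c11)) :=
  Lgr Lrot54 (Lpe (f226572 IH) (Lpr_ff (f619704 IH) (Lpr_df (f391516 IH) (Lpn (LP (LK LD1_c8 LD2_c56 LD3_c11))))))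
theorem f619714 : Led Lsl_ff (LP (LK LD1_c5 LD2_c35 LD3_c45)) = (LP (LK LD1_c9 LD2_c0 LD3_c48)) :=
  Lgr Lrot23 (Lpr_ct (K30.f226569 IH) (Lpr_ft (f619710 IH) (Lpr_ct (K30.f276227 IH) (Lpn (LP (LK LD1_c9 LD2_c0 LD3_c48))))))
theorem f619722 : Led Lsl_ft (LP (LK LD1_c5 LD2_c35 LD3_c45)) = (LP (LK LD1_c9 LD2_c0 LD3_c48)) :=
  Lgr Lrot48 (Lpr_ff (f619714 IH) (Lpn (LP (LK LD1_c9 LD2_c0 LD3_c48))))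
theorem f178068 : Led Lsl_bt (LP (LK LD1_c11 LD2_c3 LD3_c44)) = (LP (LK LD1_c5 LD2_c35 LD3_c45)) :=
  Lre_b IH (LK LD1_c11 LD2_c3 LD3_c44) (LK LD1_c5 LD2_c35 LD3_c45) Lrfl Lrfl
theorem f391518 : Led Lsl_bt (LP (LK LD1_c9 LD2_c0 LD3_c48)) = (LP (LK LD1_c16 LD2_c50 LD3_c33)) :=
  Lre_b IH (LK LD1_c9 LD2_c0 LD3_c48) (LK LD1_c16 LD2_c50 LD3_c33) Lrfl Lrfl
theorem f619726 : Led Lsl_ff (LP (LK LD1_c11 LD2_c3 LD3_c44)) = (LP (LK LD1_c16 LD2_c50 LD3_c33)) :=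
  Lgr Lrot25 (Lpr_bt (f178068 IH) (Lpr_ft (f619722 IH) (Lpr_bt (f391518 IH) (Lpn (LP (LK LD1_c16 LD2_c50 LD3_c33))))))
theorem f226566 : Led Lsl_bt (LP (LK LD1_c5 LD2_c35 LD3_c45)) = (LP (LK LD1_c11 LD2_c3 LD3_c44)) :=
  Lre_b IH (LK LD1_c5 LD2_c35 LD3_c45) (LK LD1_c11 LD2_c3 LD3_c44) Lrfl Lrfl
theorem f179142 : Led Lsl_bt (LP (LK LD1_c2 LD2_c41 LD3_c27)) = (LP (LK LD1_c5 LD2_c30 LD3_c21)) :=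
  Lre_b IH (LK LD1_c2 LD2_c41 LD3_c27) (LK LD1_c5 LD2_c30 LD3_c21) Lrfl Lrfl
theorem f222415 : Led Lsl_ct (LP (LK LD1_c5 LD2_c30 LD3_c22)) = (LP (LK LD1_c2 LD2_c41 LD3_c27)) :=
  Lre_c IH (LK LD1_c5 LD2_c30 LD3_c22) (LK LD1_c2 LD2_c41 LD3_c27) Lrfl Lrfl
theorem f179153 : Led Lsl_bt (LP (LK LD1_c10 LD2_c52 LD3_c13)) = (LP (LK LD1_c5 LD2_c30 LD3_c22)) :=
  Lre_b IH (LK LD1_c10 LD2_c52 LD3_c13) (LK LD1_c5 LD2_c30 LD3_c22) Lrfl Lrfl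
theorem f226567 : Led Lsl_ct (LP (LK LD1_c11 LD2_c3 LD3_c44)) = (LP (LK LD1_c10 LD2_c52 LD3_c13)) :=
  Lgr Lrot83 (Lpe (f226566 IH) (Lpr_cf (K30.f226561 IH) (Lpe (f179142 IH) (Lpe (f222415 IH) (Lpe (f179153 IH) (Lpn (LP (LK LD1_c10 LD2_c52 LD3_c13))))))))
theorem f235856 : Led Lsl_bt (LP (LK LD1_c16 LD2_c50 LD3_c33)) = (LP (LK LD1_c9 LD2_c0 LD3_c48)) :=
  Lre_b IH (LK LD1_c16 LD2_c50 LD3_c33) (LK LD1_c9 LD2_c0 LD3_c48) Lrfl Lrfl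
theorem f179288 : Led Lsl_bt (LP (LK LD1_c8 LD2_c56 LD3_c12)) = (LP (LK LD1_c16 LD2_c43 LD3_c40)) :=
  Lre_b IH (LK LD1_c8 LD2_c56 LD3_c12) (LK LD1_c16 LD2_c43 LD3_c40) Lrfl Lrfl
theorem f391511 : Led Lsl_cf (LP (LK LD1_c16 LD2_c50 LD3_c33)) = (LP (LK LD1_c16 LD2_c43 LD3_c40)) :=
  Lgr Lrot97 (Lpr_bt (f235856 IH) (Lpr_ct (f391460 IH) (Lpr_bt (K30.f276225 IH) (Lpr_ct (K27.f173477 IH) (Lpr_bt (f179288 IH) (Lpn (LP (LK LD1_c16 LD2_c43 LD3_c40))))))))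
theorem f619771 : Led Lsl_ft (LP (LK LD1_c10 LD2_c52 LD3_c13)) = (LP (LK LD1_c16 LD2_c43 LD3_c40)) :=
  Lgr Lrot4 (Lpe (f226567 IH) (Lpr_ff (f619726 IH) (Lpr_cf (f391511 IH) (Lpn (LP (LK LD1_c16 LD2_c43 LD3_c40))))))
theorem f619777 : Led Lsl_ff (LP (LK LD1_c10 LD2_c52 LD3_c13)) = (LP (LK LD1_c16 LD2_c43 LD3_c40)) :=
  Lgr Lrot3 (Lpr_ft (f619771 IH) (Lpn (LP (LK LD1_c16 LD2_c43 LD3_c40))))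
theorem f619779 : Led Lsl_ft (LP (LK LD1_c5 LD2_c30 LD3_c22)) = (LP (LK LD1_c8 LD2_c56 LD3_c12)) :=
  Lgr Lrot75 (Lpe (f179153 IH) (Lpr_ff (f619777 IH) (Lpe (f179288 IH) (Lpn (LP (LK LD1_c8 LD2_c56 LD3_c12))))))
theorem f619794 : Led Lsl_af (LP (LK LD1_c5 LD2_c30 LD3_c26)) = (LP (LK LD1_c8 LD2_c56 LD3_c12)) :=
  Lgr Lrot31 (Lpe (K30.f384869 IH) (Lpe (K27.f175118 IH) (Lpr_ft (f619779 IH) (Lpn (LP (LK LD1_c8 LD2_c56 LD3_c12))))))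
theorem f382938 : Led Lsl_bt (LP (LK LD1_c10 LD2_c52 LD3_c24)) = (LP (LK LD1_c5 LD2_c30 LD3_c26)) :=
  Lre_b IH (LK LD1_c10 LD2_c52 LD3_c24) (LK LD1_c5 LD2_c30 LD3_c26) Lrfl Lrfl
theorem f550420 : Led Lsl_ff (LP (LK LD1_c8 LD2_c56 LD3_c15)) = (LP (LK LD1_c5 LD2_c30 LD3_c26)) :=
  Lgr Lrot25 (Lpe (f404858 IH) (Lpr_ft (K38.f550418 IH) (Lpr_bt (f382938 IH) (Lpn (LP (LK LD1_c5 LD2_c30 LD3_c26))))))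
theorem f619806 : Led Lsl_at (LP (LK LD1_c8 LD2_c56 LD3_c15)) = (LP (LK LD1_c5 LD2_c30 LD3_c22)) :=
  Lgr Lrot66 (Lpr_ff (f550420 IH) (Lpr_af (f619794 IH) (Lpe (f619779 IH) (Lpn (LP (LK LD1_c5 LD2_c30 LD3_c22))))))
theorem f179146 : Led Lsl_dt (LP (LK LD1_c5 LD2_c30 LD3_c22)) = (LP (LK LD1_c10 LD2_c52 LD3_c14)) :=
  Lre_d IH (LK LD1_c5 LD2_c30 LD3_c22) (LK LD1_c10 LD2_c52 LD3_c14) Lrfl Lrfl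
theorem f619814 : Led Lsl_af (LP (LK LD1_c16 LD2_c43 LD3_c50)) = (LP (LK LD1_c10 LD2_c52 LD3_c14)) :=
  Lgr Lrot117 (Lpr_dt (f226216 IH) (Lpr_at (f619806 IH) (Lpr_dt (f179146 IH) (Lpn (LP (LK LD1_c10 LD2_c52 LD3_c14))))))
theorem f620283 : Led Lsl_at (LP (LK LD1_c16 LD2_c43 LD3_c50)) = (LP (LK LD1_c10 LD2_c52 LD3_c14)) :=
  Lgr Lrot100 (Lpr_af (f619814 IH) (Lpn (LP (LK LD1_c10 LD2_c52 LD3_c14))))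
theorem f390818 : Led Lsl_bt (LP (LK LD1_c19 LD2_c39 LD3_c32)) = (LP (LK LD1_c10 LD2_c52 LD3_c25)) :=
  Lre_b IH (LK LD1_c19 LD2_c39 LD3_c32) (LK LD1_c10 LD2_c52 LD3_c25) Lrfl Lrfl
theorem f550410 : Led Lsl_ff (LP (LK LD1_c16 LD2_c43 LD3_c50)) = (LP (LK LD1_c10 LD2_c52 LD3_c25)) :=
  Lgr Lrot25 (Lpe (f550378 IH) (Lpr_ft (K38.f550408 IH) (Lpr_bt (f390818 IH) (Lpn (LP (LK LD1_c10 LD2_c52 LD3_c25))))))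
theorem f222421 : Led Lsl_dt (LP (LK LD1_c10 LD2_c52 LD3_c13)) = (LP (LK LD1_c19 LD2_c39 LD3_c14)) :=
  Lre_d IH (LK LD1_c10 LD2_c52 LD3_c13) (LK LD1_c19 LD2_c39 LD3_c14) Lrfl Lrfl
theorem f391556 : Led Lsl_dt (LP (LK LD1_c26 LD2_c42 LD3_c25)) = (LP (LK LD1_c16 LD2_c43 LD3_c40)) :=
  Lre_d IH (LK LD1_c26 LD2_c42 LD3_c25) (LK LD1_c16 LD2_c43 LD3_c40) Lrfl Lrfl
theorem f619781 : Led Lsl_ft (LP (LK LD1_c19 LD2_c39 LD3_c14)) = (LP (LK LD1_c26 LD2_c42 LD3_c25)) :=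
  Lgr Lrot54 (Lpe (f222421 IH) (Lpr_ff (f619777 IH) (Lpe (f391556 IH) (Lpn (LP (LK LD1_c26 LD2_c42 LD3_c25))))))
theorem f619783 : Led Lsl_bt (LP (LK LD1_c10 LD2_c52 LD3_c14)) = (LP (LK LD1_c19 LD2_c39 LD3_c14)) :=
  Lre_b IH (LK LD1_c10 LD2_c52 LD3_c14) (LK LD1_c19 LD2_c39 LD3_c14) Lrfl Lrfl
theorem f296676 : Led Lsl_bt (LP (LK LD1_c26 LD2_c42 LD3_c25)) = (LP (LK LD1_c16 LD2_c43 LD3_c41)) :=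
  Lre_b IH (LK LD1_c26 LD2_c42 LD3_c25) (LK LD1_c16 LD2_c43 LD3_c41) Lrfl Lrfl
theorem f619784 : Led Lsl_ff (LP (LK LD1_c10 LD2_c52 LD3_c14)) = (LP (LK LD1_c16 LD2_c43 LD3_c41)) :=
  Lgr Lrot25 (Lpr_bt (f619783 IH) (Lpr_ft (f619781 IH) (Lpr_bt (f296676 IH) (Lpn (LP (LK LD1_c16 LD2_c43 LD3_c41))))))
theorem f619788 : Led Lsl_ft (LP (LK LD1_c10 LD2_c52 LD3_c14)) = (LP (LK LD1_c16 LD2_c43 LD3_c41)) :=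
  Lgr Lrot48 (Lpr_ff (f619784 IH) (Lpn (LP (LK LD1_c16 LD2_c43 LD3_c41))))
theorem f620287 : Led Lsl_af (LP (LK LD1_c10 LD2_c52 LD3_c25)) = (LP (LK LD1_c16 LD2_c43 LD3_c41)) :=
  Lgr Lrot45 (Lpe (f550410 IH) (Lpr_at (f620283 IH) (Lpr_ft (f619788 IH) (Lpn (LP (LK LD1_c16 LD2_c43 LD3_c41))))))
theorem f339353 : Led Lsl_dt (LP (LK LD1_c5 LD2_c30 LD3_c27)) = (LP (LK LD1_c2 LD2_c41 LD3_c28)) :=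
  Lre_d IH (LK LD1_c5 LD2_c30 LD3_c27) (LK LD1_c2 LD2_c41 LD3_c28) Lrfl Lrfl
theorem f384900 : Led Lsl_dt (LP (LK LD1_c10 LD2_c52 LD3_c25)) = (LP (LK LD1_c5 LD2_c30 LD3_c26)) :=
  Lre_d IH (LK LD1_c10 LD2_c52 LD3_c25) (LK LD1_c5 LD2_c30 LD3_c26) Lrfl Lrfl
theorem f281537 : Led Lsl_gt (LP (LK LD1_c8 LD2_c57 LD3_c20)) = (LP (LK LD1_c8 LD2_c59 LD3_c10)) :=
  Lre_g IH (LK LD1_c8 LD2_c57 LD3_c20) (LK LD1_c8 LD2_c59 LD3_c10) Lrfl Lrfl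
theorem f281538 : Led Lsl_dt (LP (LK LD1_c8 LD2_c59 LD3_c10)) = (LP (LK LD1_c16 LD2_c48 LD3_c22)) :=
  Lre_d IH (LK LD1_c8 LD2_c59 LD3_c10) (LK LD1_c16 LD2_c48 LD3_c22) Lrfl Lrfl
theorem f390814 : Led Lsl_gf (LP (LK LD1_c10 LD2_c52 LD3_c25)) = (LP (LK LD1_c16 LD2_c48 LD3_c22)) :=
  Lgr Lrot143 (Lpr_dt (f384900 IH) (Lpe (K30.f339352 IH) (Lpe (f339353 IH) (Lpr_gf (K31.f390793 IH) (Lpe (K20.f280648 IH) (Lpr_gf (K24.f281535 IH) (Lpe (f235081 IH) (Lpr_gt (f281537 IH) (Lpr_dt (f281538 IH) (Lpn (LP (LK LD1_c16 LD2_c48 LD3_c22))))))))))))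
theorem f620293 : Led Lsl_gf (LP (LK LD1_c16 LD2_c48 LD3_c22)) = (LP (LK LD1_c10 LD2_c52 LD3_c14)) :=
  Lgr Lrot47 (Lpe (f390814 IH) (Lpr_af (f620287 IH) (Lpe (f619788 IH) (Lpn (LP (LK LD1_c10 LD2_c52 LD3_c14))))))
theorem f226671 : Led Lsl_gt (LP (LK LD1_c10 LD2_c52 LD3_c12)) = (LP (LK LD1_c5 LD2_c30 LD3_c22)) :=
  Lre_g IH (LK LD1_c10 LD2_c52 LD3_c12) (LK LD1_c5 LD2_c30 LD3_c22) Lrfl Lrfl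
theorem f736255 : Led Lsl_ct (LP (LK LD1_c10 LD2_c52 LD3_c12)) = v15430 :=
  Lgr Lrot8 (Lpr_gt (f226671 IH) (Lpr_dt (f179146 IH) (Lpe (f620293 IH) (Lpr_dt (f384886 IH) (Lpe (K50.f384885 IH) (Lpe (K20.f281639 IH) (Lpr_gf (K30.f384882 IH) (Lpe (f179285 IH) (Lpr_gf (f736254 IH) (Lpn v15430))))))))))
theorem f736257 : Led Lsl_bf (LP (LK LD1_c16 LD2_c42 LD3_c55)) = (LP (LK LD1_c10 LD2_c52 LD3_c12)) :=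
  Lgr Lrot34 (Lpe (f296726 IH) (Lpe (f254670 IH) (Lpe (K31.f228085 IH) (Lpr_gf (K22.f296578 IH) (Lpe (K31.f220319 IH) (Lpe (K31.f389847 IH) (Lpe (K30.f179226 IH) (Lpr_ct (K30.f179230 IH) (Lpr_gf (f736254 IH) (Lpe (f736255 IH) (Lpn (LP (LK LD1_c10 LD2_c52 LD3_c12)))))))))))))
theorem f736258 : Led Lsl_bt (LP (LK LD1_c10 LD2_c52 LD3_c12)) = (LP (LK LD1_c16 LD2_c42 LD3_c55)) :=
  Leop (Lpr_bf (f736257 IH) (Lpn (LP (LK LD1_c10 LD2_c52 LD3_c12))))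
theorem seed_900 : LEOK LG_b (LK LD1_c10 LD2_c52 LD3_c12) :=
  Leoe_b (LK LD1_c10 LD2_c52 LD3_c12) (f736258 IH)
def v15431 : LQ := Led Lsl_at (LP (LK LD1_c5 LD2_c39 LD3_c23))
theorem f736262 : Led Lsl_at (LP (LK LD1_c5 LD2_c39 LD3_c23)) = v15431 :=
  Lrfl
theorem f736263 : Led Lsl_af (LP (LK LD1_c5 LD2_c39 LD3_c23)) = v15431 :=
  Lgr Lrot0 (Lpr_at (f736262 IH) (Lpn v15431))
theorem f296660 : Led Lsl_df (LP (LK LD1_c8 LD2_c55 LD3_c55)) = (LP (LK LD1_c10 LD2_c56 LD3_c19)) :=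
  Lgr Lrot38 (Lpr_dt (K30.f296656 IH) (Lpn (LP (LK LD1_c10 LD2_c56 LD3_c19))))
theorem f281129 : Led Lsl_ct (LP (LK LD1_c19 LD2_c45 LD3_c19)) = (LP (LK LD1_c10 LD2_c56 LD3_c19)) :=
  Lre_c IH (LK LD1_c19 LD2_c45 LD3_c19) (LK LD1_c10 LD2_c56 LD3_c19) Lrfl Lrfl
theorem f281128 : Led Lsl_dt (LP (LK LD1_c29 LD2_c4 LD3_c14)) = (LP (LK LD1_c19 LD2_c45 LD3_c19)) :=
  Lre_d IH (LK LD1_c29 LD2_c4 LD3_c14) (LK LD1_c19 LD2_c45 LD3_c19) Lrfl Lrfl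
theorem f228743 : Led Lsl_bt (LP (LK LD1_c4 LD2_c28 LD3_c45)) = (LP (LK LD1_c8 LD2_c55 LD3_c47)) :=
  Lre_b IH (LK LD1_c4 LD2_c28 LD3_c45) (LK LD1_c8 LD2_c55 LD3_c47) Lrfl Lrfl
theorem f218484 : Led Lsl_bt (LP (LK LD1_c10 LD2_c35 LD3_c27)) = (LP (LK LD1_c5 LD2_c22 LD3_c34)) :=
  Lre_b IH (LK LD1_c10 LD2_c35 LD3_c27) (LK LD1_c5 LD2_c22 LD3_c34) Lrfl Lrfl
theorem f228744 : Led Lsl_ct (LP (LK LD1_c8 LD2_c55 LD3_c47)) = (LP (LK LD1_c10 LD2_c35 LD3_c27)) :=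
  Lgr Lrot83 (Lpe (f228743 IH) (Lpe (K14.f228742 IH) (Lpr_bf (K14.f228735 IH) (Lpe (K13.f196721 IH) (Lpe (f218484 IH) (Lpn (LP (LK LD1_c10 LD2_c35 LD3_c27))))))))
theorem f221589 : Led Lsl_gt (LP (LK LD1_c10 LD2_c35 LD3_c27)) = (LP (LK LD1_c19 LD2_c10 LD3_c55)) :=
  Lre_g IH (LK LD1_c10 LD2_c35 LD3_c27) (LK LD1_c19 LD2_c10 LD3_c55) Lrfl Lrfl
theorem f228777 : Led Lsl_ct (LP (LK LD1_c28 LD2_c36 LD3_c46)) = (LP (LK LD1_c19 LD2_c10 LD3_c55)) :=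
  Lre_c IH (LK LD1_c28 LD2_c36 LD3_c46) (LK LD1_c19 LD2_c10 LD3_c55) Lrfl Lrfl
theorem f228031 : Led Lsl_ct (LP (LK LD1_c15 LD2_c1 LD3_c49)) = (LP (LK LD1_c7 LD2_c58 LD3_c5)) :=
  Lre_c IH (LK LD1_c15 LD2_c1 LD3_c49) (LK LD1_c7 LD2_c58 LD3_c5) Lrfl Lrfl
theorem f391575 : Led Lsl_gt (LP (LK LD1_c26 LD2_c41 LD3_c57)) = (LP (LK LD1_c16 LD2_c43 LD3_c6)) :=
  Lre_g IH (LK LD1_c26 LD2_c41 LD3_c57) (LK LD1_c16 LD2_c43 LD3_c6) Lrfl Lrfl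
theorem f404856 : Led Lsl_bt (LP (LK LD1_c28 LD2_c36 LD3_c46)) = (LP (LK LD1_c26 LD2_c41 LD3_c57)) :=
  Lgr Lrot130 (Lpr_ct (f228777 IH) (Lpe (f221589 IH) (Lpe (f228744 IH) (Lpr_bt (f228775 IH) (Lpr_gf (K14.f251775 IH) (Lpe (K23.f228030 IH) (Lpr_ct (f228031 IH) (Lpe (f228022 IH) (Lpr_cf (f404848 IH) (Lpe (f391575 IH) (Lpn (LP (LK LD1_c26 LD2_c41 LD3_c57)))))))))))))
theorem f281684 : Led Lsl_bt (LP (LK LD1_c8 LD2_c55 LD3_c54)) = (LP (LK LD1_c16 LD2_c43 LD3_c6)) :=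
  Lre_b IH (LK LD1_c8 LD2_c55 LD3_c54) (LK LD1_c16 LD2_c43 LD3_c6) Lrfl Lrfl
theorem f736261 : Led Lsl_gt (LP (LK LD1_c16 LD2_c43 LD3_c7)) = v15430 :=
  Lgr Lrot65 (Lpe (K50.f226222 IH) (Lpr_bt (f281684 IH) (Lpe (f391575 IH) (Lpe (f404856 IH) (Lpr_ct (f228777 IH) (Lpe (f221589 IH) (Lpe (f228744 IH) (Lpe (f228774 IH) (Lpr_bf (f736257 IH) (Lpr_ct (f736255 IH) (Lpn v15430)))))))))))
theorem f736264 : Led Lsl_ft (LP (LK LD1_c16 LD2_c43 LD3_c7)) = v15431 :=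
  Lgr Lrot2 (Lpr_gt (f736261 IH) (Lpe (f736254 IH) (Lpr_af (f736263 IH) (Lpn v15431))))
theorem f281679 : Led Lsl_dt (LP (LK LD1_c16 LD2_c43 LD3_c7)) = (LP (LK LD1_c16 LD2_c48 LD3_c24)) :=
  Lgr Lrot27 (Lpe (K50.f226222 IH) (Lpe (K50.f178106 IH) (Lpe (K30.f173443 IH) (Lpe (K30.f183319 IH) (Lpr_df (f226218 IH) (Lpr_gt (K20.f174388 IH) (Lpr_ct (K20.f174118 IH) (Lpr_gt (K20.f174336 IH) (Lpr_ct (K31.f281660 IH) (Lpn (LP (LK LD1_c16 LD2_c48 LD3_c24))))))))))))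
theorem f174337 : Led Lsl_dt (LP (LK LD1_c10 LD2_c57 LD3_c11)) = (LP (LK LD1_c19 LD2_c47 LD3_c0)) :=
  Lre_d IH (LK LD1_c10 LD2_c57 LD3_c11) (LK LD1_c19 LD2_c47 LD3_c0) Lrfl Lrfl
theorem f736265 : Led Lsl_cf (LP (LK LD1_c29 LD2_c4 LD3_c14)) = (LP (LK LD1_c19 LD2_c47 LD3_c0)) :=
  Lgr Lrot116 (Lpr_dt (f281128 IH) (Lpr_ct (f281129 IH) (Lpe (f296660 IH) (Lpr_ct (K30.f179230 IH) (Lpr_af (f736263 IH) (Lpe (f736264 IH) (Lpr_dt (f281679 IH) (Lpe (K20.f281641 IH) (Lpr_dt (f174337 IH) (Lpn (LP (LK LD1_c19 LD2_c47 LD3_c0))))))))))))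
theorem f736266 : Led Lsl_ct (LP (LK LD1_c19 LD2_c47 LD3_c0)) = (LP (LK LD1_c29 LD2_c4 LD3_c14)) :=
  Leop (Lpr_cf (f736265 IH) (Lpn (LP (LK LD1_c19 LD2_c47 LD3_c0))))
theorem seed_901 : LEOK LG_c (LK LD1_c19 LD2_c47 LD3_c0) :=
  Leoe_c (LK LD1_c19 LD2_c47 LD3_c0) (f736266 IH)
def v15432 : LQ := Led Lsl_ft (LP (LK LD1_c5 LD2_c39 LD3_c23))
theorem f736274 : Led Lsl_ft (LP (LK LD1_c5 LD2_c39 LD3_c23)) = v15432 :=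
  Lrfl
theorem f736277 : Led Lsl_ff (LP (LK LD1_c5 LD2_c39 LD3_c23)) = v15432 :=
  Lgr Lrot3 (Lpr_ft (f736274 IH) (Lpn v15432))
def v4744 : LQ := Led Lsl_ft (LP (LK LD1_c2 LD2_c45 LD3_c40))
theorem f638805 : Led Lsl_ft (LP (LK LD1_c2 LD2_c45 LD3_c40)) = v4744 :=
  Lrfl
theorem f736279 : Led Lsl_bt v4744 = v15432 :=
  Lgr Lrot35 (Lpe (f638805 IH) (Lpe (K30.f178083 IH) (Lpr_ff (f736277 IH) (Lpn v15432))))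
theorem f638808 : Led Lsl_ff (LP (LK LD1_c2 LD2_c45 LD3_c40)) = v4744 :=
  Lgr Lrot3 (Lpr_ft (f638805 IH) (Lpn v4744))
theorem f638803 : Led Lsl_ff (LP (LK LD1_c2 LD2_c45 LD3_c41)) = K38.v4743 :=
  Lgr Lrot3 (Lpr_ft (K38.f638797 IH) (Lpn K38.v4743))
theorem f638809 : Led Lsl_at (LP (LK LD1_c2 LD2_c45 LD3_c41)) = v4744 :=
  Lgr Lrot66 (Lpr_ff (f638803 IH) (Lpe (K38.f638795 IH) (Lpr_ff (f638808 IH) (Lpn v4744))))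
theorem f390335 : Led Lsl_at (LP (LK LD1_c11 LD2_c9 LD3_c61)) = (LP (LK LD1_c5 LD2_c39 LD3_c27)) :=
  Lre_a IH (LK LD1_c11 LD2_c9 LD3_c61) (LK LD1_c5 LD2_c39 LD3_c27) Lrfl Lrfl
theorem f736275 : Led Lsl_af (LP (LK LD1_c16 LD2_c43 LD3_c7)) = v15432 :=
  Lgr Lrot45 (Lpr_ft (f736264 IH) (Lpe (f736263 IH) (Lpr_ft (f736274 IH) (Lpn v15432))))
theorem f736280 : Led Lsl_bf (LP (LK LD1_c11 LD2_c9 LD3_c61)) = (LP (LK LD1_c16 LD2_c43 LD3_c7)) :=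
  Lgr Lrot81 (Lpr_at (f390335 IH) (Lpr_bt (K20.f178123 IH) (Lpr_at (f638809 IH) (Lpr_bt (f736279 IH) (Lpe (f736275 IH) (Lpn (LP (LK LD1_c16 LD2_c43 LD3_c7))))))))
theorem f736281 : Led Lsl_bt (LP (LK LD1_c16 LD2_c43 LD3_c7)) = (LP (LK LD1_c11 LD2_c9 LD3_c61)) :=
  Leop (Lpr_bf (f736280 IH) (Lpn (LP (LK LD1_c16 LD2_c43 LD3_c7))))
theorem seed_902 : LEOK LG_b (LK LD1_c16 LD2_c43 LD3_c7) :=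
  Leoe_b (LK LD1_c16 LD2_c43 LD3_c7) (f736281 IH)
def v15474 : LQ := Led Lsl_at (LP (LK LD1_c5 LD2_c40 LD3_c16))
theorem f737538 : Led Lsl_at (LP (LK LD1_c5 LD2_c40 LD3_c16)) = v15474 :=
  Lrfl
theorem f737539 : Led Lsl_af (LP (LK LD1_c5 LD2_c40 LD3_c16)) = v15474 :=
  Lgr Lrot0 (Lpr_at (f737538 IH) (Lpn v15474))
theorem f737542 : Led Lsl_ft (LP (LK LD1_c12 LD2_c4 LD3_c23)) = v15474 :=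
  Lgr Lrot2 (Lpr_gt (K51.f707187 IH) (Lpr_gt (K53.f720612 IH) (Lpr_af (f737539 IH) (Lpn v15474))))
def v4752 : LQ := Led Lsl_ft (LP (LK LD1_c2 LD2_c46 LD3_c1))
theorem f638840 : Led Lsl_ft (LP (LK LD1_c2 LD2_c46 LD3_c1)) = v4752 :=
  Lrfl
def v4749 : LQ := Led Lsl_at (LP (LK LD1_c2 LD2_c46 LD3_c1))
theorem f638830 : Led Lsl_at (LP (LK LD1_c2 LD2_c46 LD3_c1)) = v4749 :=
  Lrfl
theorem f638831 : Led Lsl_af (LP (LK LD1_c2 LD2_c46 LD3_c1)) = v4749 :=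
  Lgr Lrot0 (Lpr_at (f638830 IH) (Lpn v4749))
theorem f172040 : Led Lsl_gt (LP (LK LD1_c1 LD2_c19 LD3_c23)) = (LP (LK LD1_c2 LD2_c46 LD3_c1)) :=
  Lre_g IH (LK LD1_c1 LD2_c19 LD3_c23) (LK LD1_c2 LD2_c46 LD3_c1) Lrfl Lrfl
theorem f638833 : Led Lsl_ft (LP (LK LD1_c2 LD2_c46 LD3_c2)) = v4749 :=
  Lgr Lrot2 (Lpr_gt (K53.f172050 IH) (Lpr_gt (f172040 IH) (Lpr_af (f638831 IH) (Lpn v4749))))
theorem f638841 : Led Lsl_af (LP (LK LD1_c2 LD2_c46 LD3_c2)) = v4752 :=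
  Lgr Lrot45 (Lpr_ft (f638833 IH) (Lpe (f638831 IH) (Lpr_ft (f638840 IH) (Lpn v4752))))
theorem f737540 : Led Lsl_ef v4752 = v15474 :=
  Lgr Lrot20 (Lpe (f638841 IH) (Lpr_et (K53.f638835 IH) (Lpr_at (f737538 IH) (Lpn v15474))))
theorem f638842 : Led Lsl_ff (LP (LK LD1_c2 LD2_c46 LD3_c1)) = v4752 :=
  Lgr Lrot3 (Lpr_ft (f638840 IH) (Lpn v4752))
theorem f177669 : Led Lsl_et (LP (LK LD1_c2 LD2_c46 LD3_c1)) = (LP (LK LD1_c5 LD2_c40 LD3_c15)) :=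
  Lre_e IH (LK LD1_c2 LD2_c46 LD3_c1) (LK LD1_c5 LD2_c40 LD3_c15) Lrfl Lrfl
theorem f177671 : Led Lsl_ft (LP (LK LD1_c5 LD2_c40 LD3_c15)) = (LP (LK LD1_c11 LD2_c11 LD3_c16)) :=
  Lre_f IH (LK LD1_c5 LD2_c40 LD3_c15) (LK LD1_c11 LD2_c11 LD3_c16) Lrfl Lrfl
theorem f737543 : Led Lsl_ef (LP (LK LD1_c12 LD2_c4 LD3_c23)) = (LP (LK LD1_c11 LD2_c11 LD3_c16)) :=
  Lgr Lrot21 (Lpr_ft (f737542 IH) (Lpe (f737540 IH) (Lpe (f638842 IH) (Lpr_et (f177669 IH) (Lpr_ft (f177671 IH) (Lpn (LP (LK LD1_c11 LD2_c11 LD3_c16))))))))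
theorem f737544 : Led Lsl_et (LP (LK LD1_c11 LD2_c11 LD3_c16)) = (LP (LK LD1_c12 LD2_c4 LD3_c23)) :=
  Leop (Lpr_ef (f737543 IH) (Lpn (LP (LK LD1_c11 LD2_c11 LD3_c16))))
theorem seed_903 : LEOK LG_e (LK LD1_c11 LD2_c11 LD3_c16) :=
  Leoe_e (LK LD1_c11 LD2_c11 LD3_c16) (f737544 IH)
def v12808 : LQ := Led Lsl_at (LP (LK LD1_c4 LD2_c31 LD3_c46))
theorem f698333 : Led Lsl_at (LP (LK LD1_c4 LD2_c31 LD3_c46)) = v12808 :=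
  Lrfl
theorem f638834 : Led Lsl_ff (LP (LK LD1_c2 LD2_c46 LD3_c2)) = v4749 :=
  Lgr Lrot3 (Lpr_ft (f638833 IH) (Lpn v4749))
theorem f698334 : Led Lsl_af (LP (LK LD1_c4 LD2_c31 LD3_c46)) = v12808 :=
  Lgr Lrot0 (Lpr_at (f698333 IH) (Lpn v12808))
theorem f211986 : Led Lsl_gt (LP (LK LD1_c4 LD2_c31 LD3_c46)) = (LP (LK LD1_c2 LD2_c12 LD3_c53)) :=
  Lre_g IH (LK LD1_c4 LD2_c31 LD3_c46) (LK LD1_c2 LD2_c12 LD3_c53) Lrfl Lrfl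
theorem f354436 : Led Lsl_gt (LP (LK LD1_c2 LD2_c46 LD3_c4)) = (LP (LK LD1_c4 LD2_c31 LD3_c46)) :=
  Lgr Lrot5 (Lpr_ft (K39.f354364 IH) (Lpr_at (K53.f354430 IH) (Lpe (f211986 IH) (Lpn (LP (LK LD1_c4 LD2_c31 LD3_c46))))))
def v4177 : LQ := Led Lsl_gt (LP (LK LD1_c2 LD2_c12 LD3_c53))
theorem f631649 : Led Lsl_gt (LP (LK LD1_c2 LD2_c12 LD3_c53)) = v4177 :=
  Lrfl
theorem f631651 : Led Lsl_af (LP (LK LD1_c2 LD2_c46 LD3_c4)) = K53.v4178 :=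
  Lgr Lrot45 (Lpr_ft (K39.f354364 IH) (Lpr_at (K53.f354430 IH) (Lpr_ft (K53.f631650 IH) (Lpn K53.v4178))))
theorem f631654 : Led Lsl_gt v4177 = (LP (LK LD1_c2 LD2_c46 LD3_c4)) :=
  Lgr Lrot46 (Lpe (f631649 IH) (Lpr_ft (K53.f631650 IH) (Lpe (f631651 IH) (Lpn (LP (LK LD1_c2 LD2_c46 LD3_c4))))))
theorem f698336 : Led Lsl_ft v4177 = v12808 :=
  Lgr Lrot2 (Lpr_gt (f631654 IH) (Lpr_gt (f354436 IH) (Lpr_af (f698334 IH) (Lpn v12808))))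
theorem f225431 : Led Lsl_dt (LP (LK LD1_c1 LD2_c19 LD3_c43)) = (LP (LK LD1_c2 LD2_c46 LD3_c38)) :=
  Lre_d IH (LK LD1_c1 LD2_c19 LD3_c43) (LK LD1_c2 LD2_c46 LD3_c38) Lrfl Lrfl
theorem f225442 : Led Lsl_gt (LP (LK LD1_c2 LD2_c46 LD3_c38)) = (LP (LK LD1_c5 LD2_c41 LD3_c12)) :=
  Lre_g IH (LK LD1_c2 LD2_c46 LD3_c38) (LK LD1_c5 LD2_c41 LD3_c12) Lrfl Lrfl
theorem f737550 : Led Lsl_df (LP (LK LD1_c5 LD2_c41 LD3_c12)) = (LP (LK LD1_c11 LD2_c11 LD3_c16)) :=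
  Lgr Lrot168 (Lpe (f225442 IH) (Lpe (f225431 IH) (Lpr_et (K40.f225430 IH) (Lpe (K27.f226750 IH) (Lpe (K20.f226747 IH) (Lpr_dt (K41.f615367 IH) (Lpe (K41.f496477 IH) (Lpe (K41.f615363 IH) (Lpe (K51.f707187 IH) (Lpr_ef (f737543 IH) (Lpn (LP (LK LD1_c11 LD2_c11 LD3_c16)))))))))))))
theorem f172044 : Led Lsl_et (LP (LK LD1_c5 LD2_c40 LD3_c15)) = (LP (LK LD1_c2 LD2_c46 LD3_c1)) :=
  Lre_e IH (LK LD1_c5 LD2_c40 LD3_c15) (LK LD1_c2 LD2_c46 LD3_c1) Lrfl Lrfl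
theorem f177657 : Led Lsl_et (LP (LK LD1_c2 LD2_c13 LD3_c3)) = (LP (LK LD1_c1 LD2_c3 LD3_c35)) :=
  Lre_e IH (LK LD1_c2 LD2_c13 LD3_c3) (LK LD1_c1 LD2_c3 LD3_c35) Lrfl Lrfl
theorem f177659 : Led Lsl_gt (LP (LK LD1_c9 LD2_c1 LD3_c55)) = (LP (LK LD1_c4 LD2_c32 LD3_c5)) :=
  Lre_g IH (LK LD1_c9 LD2_c1 LD3_c55) (LK LD1_c4 LD2_c32 LD3_c5) Lrfl Lrfl
theorem f177660 : Led Lsl_dt (LP (LK LD1_c5 LD2_c40 LD3_c15)) = (LP (LK LD1_c9 LD2_c1 LD3_c55)) :=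
  Lgr Lrot136 (Lpr_et (f172044 IH) (Lpe (f172040 IH) (Lpe (K53.f172039 IH) (Lpr_dt (K9.f165210 IH) (Lpr_gf (K9.f171864 IH) (Lpe (K12.f164989 IH) (Lpr_gf (K20.f177653 IH) (Lpe (f177657 IH) (Lpr_dt (K50.f177658 IH) (Lpe (f177659 IH) (Lpn (LP (LK LD1_c9 LD2_c1 LD3_c55)))))))))))))
theorem f177667 : Led Lsl_df (LP (LK LD1_c5 LD2_c40 LD3_c15)) = (LP (LK LD1_c9 LD2_c1 LD3_c55)) :=
  Lgr Lrot38 (Lpr_dt (f177660 IH) (Lpn (LP (LK LD1_c9 LD2_c1 LD3_c55))))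
theorem f737557 : Led Lsl_ft (LP (LK LD1_c5 LD2_c41 LD3_c12)) = (LP (LK LD1_c9 LD2_c1 LD3_c55)) :=
  Lgr Lrot54 (Lpr_df (f737550 IH) (Lpe (f177671 IH) (Lpr_df (f177667 IH) (Lpn (LP (LK LD1_c9 LD2_c1 LD3_c55))))))
theorem f379991 : Led Lsl_gf (LP (LK LD1_c9 LD2_c1 LD3_c56)) = (LP (LK LD1_c5 LD2_c41 LD3_c12)) :=
  Lgr Lrot76 (Lpr_af (K40.f379978 IH) (Lpe (K40.f225799 IH) (Lpr_gt (f225442 IH) (Lpn (LP (LK LD1_c5 LD2_c41 LD3_c12))))))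
theorem f225432 : Led Lsl_gt (LP (LK LD1_c5 LD2_c41 LD3_c13)) = (LP (LK LD1_c2 LD2_c46 LD3_c38)) :=
  Lre_g IH (LK LD1_c5 LD2_c41 LD3_c13) (LK LD1_c2 LD2_c46 LD3_c38) Lrfl Lrfl
theorem f379980 : Led Lsl_gt (LP (LK LD1_c9 LD2_c1 LD3_c56)) = (LP (LK LD1_c5 LD2_c41 LD3_c13)) :=
  Lgr Lrot5 (Lpr_ft (K40.f379977 IH) (Lpr_at (K40.f379969 IH) (Lpe (f225432 IH) (Lpn (LP (LK LD1_c5 LD2_c41 LD3_c13))))))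
theorem f737563 : Led Lsl_af (LP (LK LD1_c5 LD2_c41 LD3_c13)) = (LP (LK LD1_c9 LD2_c1 LD3_c55)) :=
  Lgr Lrot31 (Lpe (f379980 IH) (Lpr_gf (f379991 IH) (Lpr_ft (f737557 IH) (Lpn (LP (LK LD1_c9 LD2_c1 LD3_c55))))))
def v15472 : LQ := Led Lsl_at (LP (LK LD1_c5 LD2_c40 LD3_c15))
theorem f737530 : Led Lsl_at (LP (LK LD1_c5 LD2_c40 LD3_c15)) = v15472 :=
  Lrfl
theorem f737531 : Led Lsl_af (LP (LK LD1_c5 LD2_c40 LD3_c15)) = v15472 :=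
  Lgr Lrot0 (Lpr_at (f737530 IH) (Lpn v15472))
theorem f737567 : Led Lsl_dt (LP (LK LD1_c5 LD2_c41 LD3_c13)) = v15472 :=
  Lgr Lrot44 (Lpr_af (f737563 IH) (Lpe (f177660 IH) (Lpr_af (f737531 IH) (Lpn v15472))))
theorem f737568 : Led Lsl_df (LP (LK LD1_c5 LD2_c41 LD3_c13)) = v15472 :=
  Lgr Lrot38 (Lpr_dt (f737567 IH) (Lpn v15472))
theorem f180230 : Led Lsl_et (LP (LK LD1_c1 LD2_c3 LD3_c26)) = (LP (LK LD1_c2 LD2_c12 LD3_c53)) :=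
  Lre_e IH (LK LD1_c1 LD2_c3 LD3_c26) (LK LD1_c2 LD2_c12 LD3_c53) Lrfl Lrfl
theorem f737532 : Led Lsl_ef v4749 = v15472 :=
  Lgr Lrot20 (Lpe (f638831 IH) (Lpr_et (f177669 IH) (Lpr_at (f737530 IH) (Lpn v15472))))
theorem f737569 : v4177 = v4749 :=
  (Llr Lrot131 (Lpe (f631649 IH) (Lpe (f180230 IH) (Lpr_dt (K9.f168831 IH) (Lpe (K9.f180225 IH) (Lpr_df (K12.f225425 IH) (Lpe (K12.f225340 IH) (Lpe (K40.f225430 IH) (Lpr_dt (f225431 IH) (Lpe (f225432 IH) (Lpr_df (f737568 IH) (Lpe (f737532 IH) (Lpn v4749))))))))))))).symm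
theorem f737571 : (LP (LK LD1_c2 LD2_c46 LD3_c2)) = v12808 :=
  Lefun (Lecon (Lfl_ff (f638834 IH)) (f737569 IH).symm) (f698336 IH)
theorem f737573 : Led Lsl_at (LP (LK LD1_c4 LD2_c31 LD3_c46)) = (LP (LK LD1_c2 LD2_c46 LD3_c2)) :=
  Leop (Lpqs (f737571 IH) (Lpe (f698333 IH) (Lpn (LP (LK LD1_c4 LD2_c31 LD3_c46)))))
theorem seed_904 : LEOK LG_a (LK LD1_c4 LD2_c31 LD3_c46) :=
  Leoe_a (LK LD1_c4 LD2_c31 LD3_c46) (f737573 IH)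
def v12811 : LQ := Led Lsl_dt (LP (LK LD1_c4 LD2_c31 LD3_c46))
theorem f698342 : Led Lsl_dt (LP (LK LD1_c4 LD2_c31 LD3_c46)) = v12811 :=
  Lrfl
theorem f698343 : Led Lsl_df (LP (LK LD1_c4 LD2_c31 LD3_c46)) = v12811 :=
  Lgr Lrot38 (Lpr_dt (f698342 IH) (Lpn v12811))
theorem f737604 : Led Lsl_af v12811 = K53.v4755 :=
  Lgr Lrot117 (Lpe (f698343 IH) (Lpr_at (f698333 IH) (Lpq (f737571 IH) (Lpr_dt (K53.f638848 IH) (Lpn K53.v4755)))))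
def v1753 : LQ := Led Lsl_et (LP (LK LD1_c1 LD2_c25 LD3_c41))
theorem f501291 : Led Lsl_et (LP (LK LD1_c1 LD2_c25 LD3_c41)) = v1753 :=
  Lrfl
theorem f501293 : Led Lsl_df (LP (LK LD1_c2 LD2_c12 LD3_c53)) = v1753 :=
  Lgr Lrot70 (Lpr_et (K53.f168852 IH) (Lpr_dt (K9.f168831 IH) (Lpr_et (K35.f169104 IH) (Lpr_dt (K14.f169094 IH) (Lpr_et (f501291 IH) (Lpn v1753))))))
theorem f501294 : Led Lsl_ef (LP (LK LD1_c1 LD2_c25 LD3_c41)) = v1753 :=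
  Lgr Lrot88 (Lpr_et (f501291 IH) (Lpn v1753))
theorem f169102 : Led Lsl_gf (LP (LK LD1_c2 LD2_c34 LD3_c1)) = (LP (LK LD1_c1 LD2_c25 LD3_c41)) :=
  Lgr Lrot134 (Lpe (K18.f56666 IH) (Lpr_et (K18.f56665 IH) (Lpr_gt (K10.f56664 IH) (Lpr_ef (K8.f20464 IH) (Lpr_dt (K1.f20540 IH) (Lpr_gt (K1.f56585 IH) (Lpe (K1.f56579 IH) (Lpe (K35.f56580 IH) (Lpr_gt (K9.f169087 IH) (Lpr_dt (K14.f169094 IH) (Lpn (LP (LK LD1_c1 LD2_c25 LD3_c41)))))))))))))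
theorem f169124 : Led Lsl_dt (LP (LK LD1_c2 LD2_c34 LD3_c1)) = (LP (LK LD1_c1 LD2_c13 LD3_c60)) :=
  Lre_d IH (LK LD1_c2 LD2_c34 LD3_c1) (LK LD1_c1 LD2_c13 LD3_c60) Lrfl Lrfl
theorem f164417 : Led Lsl_et (LP (LK LD1_c1 LD2_c14 LD3_c0)) = (LP (LK LD1_c2 LD2_c34 LD3_c5)) :=
  Lre_e IH (LK LD1_c1 LD2_c14 LD3_c0) (LK LD1_c2 LD2_c34 LD3_c5) Lrfl Lrfl
theorem f164405 : Led Lsl_gt (LP (LK LD1_c2 LD2_c34 LD3_c5)) = (LP (LK LD1_c5 LD2_c14 LD3_c29)) :=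
  Lre_g IH (LK LD1_c2 LD2_c34 LD3_c5) (LK LD1_c5 LD2_c14 LD3_c29) Lrfl Lrfl
theorem f698344 : Led Lsl_ef (LP (LK LD1_c5 LD2_c14 LD3_c29)) = v12811 :=
  Lgr Lrot17 (Lpe (f164405 IH) (Lpe (f164417 IH) (Lpr_dt (K38.f164399 IH) (Lpqs (K37.f537077 IH) (Lpe (K37.f452274 IH) (Lpe (f169124 IH) (Lpr_gf (f169102 IH) (Lpr_ef (f501294 IH) (Lpe (f501293 IH) (Lpe (f211986 IH) (Lpr_df (f698343 IH) (Lpn v12811))))))))))))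
def v14590 : LQ := Led Lsl_at (LP (LK LD1_c5 LD2_c14 LD3_c29))
theorem f723931 : Led Lsl_at (LP (LK LD1_c5 LD2_c14 LD3_c29)) = v14590 :=
  Lrfl
def v5152 : LQ := Led Lsl_gt (LP (LK LD1_c2 LD2_c59 LD3_c44))
theorem f646242 : Led Lsl_gt (LP (LK LD1_c2 LD2_c59 LD3_c44)) = v5152 :=
  Lrfl
theorem f177436 : Led Lsl_et (LP (LK LD1_c1 LD2_c25 LD3_c34)) = (LP (LK LD1_c2 LD2_c59 LD3_c44)) :=
  Lre_e IH (LK LD1_c1 LD2_c25 LD3_c34) (LK LD1_c2 LD2_c59 LD3_c44) Lrfl Lrfl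
theorem f172048 : Led Lsl_et (LP (LK LD1_c2 LD2_c46 LD3_c3)) = (LP (LK LD1_c1 LD2_c19 LD3_c24)) :=
  Lre_e IH (LK LD1_c2 LD2_c46 LD3_c3) (LK LD1_c1 LD2_c19 LD3_c24) Lrfl Lrfl
theorem f172049 : Led Lsl_dt (LP (LK LD1_c2 LD2_c46 LD3_c3)) = (LP (LK LD1_c1 LD2_c19 LD3_c23)) :=
  Lre_d IH (LK LD1_c2 LD2_c46 LD3_c3) (LK LD1_c1 LD2_c19 LD3_c23) Lrfl Lrfl
theorem f638849 : Led Lsl_df (LP (LK LD1_c2 LD2_c46 LD3_c2)) = K53.v4755 :=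
  Lgr Lrot38 (Lpr_dt (K53.f638848 IH) (Lpn K53.v4755))
theorem f646244 : Led Lsl_et K53.v4755 = v5152 :=
  Lgr Lrot122 (Lpe (f638849 IH) (Lpr_gt (K53.f172050 IH) (Lpe (f172049 IH) (Lpr_et (f172048 IH) (Lpr_gt (K9.f172042 IH) (Lpr_dt (K10.f172045 IH) (Lpr_gt (K10.f196096 IH) (Lpe (K10.f177158 IH) (Lpr_et (f177436 IH) (Lpr_gt (f646242 IH) (Lpn v5152)))))))))))
theorem f646245 : Led Lsl_ef K53.v4755 = v5152 :=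
  Lgr Lrot88 (Lpr_et (f646244 IH) (Lpn v5152))
theorem f737606 : v14590 = v5152 :=
  (Llr Lrot80 (Lpe (f723931 IH) (Lpr_ef (f698344 IH) (Lpr_af (f737604 IH) (Lpr_ef (f646245 IH) (Lpn v5152)))))).symm
theorem f723932 : Led Lsl_af (LP (LK LD1_c5 LD2_c14 LD3_c29)) = v14590 :=
  Lgr Lrot0 (Lpr_at (f723931 IH) (Lpn v14590))
def v4597 : LQ := Led Lsl_gf (LP (LK LD1_c2 LD2_c34 LD3_c5))
theorem f636324 : Led Lsl_gf (LP (LK LD1_c2 LD2_c34 LD3_c5)) = v4597 :=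
  Lrfl
theorem f723933 : Led Lsl_ft v4597 = v14590 :=
  Lgr Lrot2 (Lpe (f636324 IH) (Lpr_gt (f164405 IH) (Lpr_af (f723932 IH) (Lpn v14590))))
theorem f723934 : Led Lsl_ff v4597 = v14590 :=
  Lgr Lrot3 (Lpr_ft (f723933 IH) (Lpn v14590))
def v14594 : LQ := Led Lsl_ft (LP (LK LD1_c5 LD2_c14 LD3_c29))
theorem f723943 : Led Lsl_ft (LP (LK LD1_c5 LD2_c14 LD3_c29)) = v14594 :=
  Lrfl
theorem f723945 : Led Lsl_ff (LP (LK LD1_c5 LD2_c14 LD3_c29)) = v14594 :=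
  Lgr Lrot3 (Lpr_ft (f723943 IH) (Lpn v14594))
theorem f723946 : Led Lsl_at v4597 = v14594 :=
  Lgr Lrot66 (Lpr_ff (f723934 IH) (Lpe (f723931 IH) (Lpr_ff (f723945 IH) (Lpn v14594))))
theorem f177433 : Led Lsl_ft (LP (LK LD1_c2 LD2_c59 LD3_c44)) = (LP (LK LD1_c6 LD2_c7 LD3_c11)) :=
  Lre_f IH (LK LD1_c2 LD2_c59 LD3_c44) (LK LD1_c6 LD2_c7 LD3_c11) Lrfl Lrfl
theorem f22330 : Led Lsl_et (LP (LK LD1_c5 LD2_c7 LD3_c51)) = (LP (LK LD1_c2 LD2_c31 LD3_c11)) :=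
  Lre_e IH (LK LD1_c5 LD2_c7 LD3_c51) (LK LD1_c2 LD2_c31 LD3_c11) Lrfl Lrfl
theorem f622483 : Led Lsl_bf (LP (LK LD1_c5 LD2_c7 LD3_c51)) = (LP (LK LD1_c2 LD2_c59 LD3_c44)) :=
  Lgr Lrot96 (Lpr_et (f22330 IH) (Lpr_bt (K38.f495477 IH) (Lpqs (K38.f537500 IH) (Lpr_et (f177436 IH) (Lpn (LP (LK LD1_c2 LD2_c59 LD3_c44)))))))
theorem f22323 : Led Lsl_ft (LP (LK LD1_c5 LD2_c7 LD3_c51)) = (LP (LK LD1_c10 LD2_c6 LD3_c0)) :=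
  Lre_f IH (LK LD1_c5 LD2_c7 LD3_c51) (LK LD1_c10 LD2_c6 LD3_c0) Lrfl Lrfl
theorem f177437 : Led Lsl_ft (LP (LK LD1_c6 LD2_c7 LD3_c11)) = (LP (LK LD1_c2 LD2_c59 LD3_c44)) :=
  Lre_f IH (LK LD1_c6 LD2_c7 LD3_c11) (LK LD1_c2 LD2_c59 LD3_c44) Lrfl Lrfl
theorem f622491 : Led Lsl_bt (LP (LK LD1_c10 LD2_c6 LD3_c0)) = (LP (LK LD1_c6 LD2_c7 LD3_c11)) :=
  Lgr Lrot35 (Lpe (f22323 IH) (Lpr_bf (f622483 IH) (Lpe (f177437 IH) (Lpn (LP (LK LD1_c6 LD2_c7 LD3_c11))))))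
theorem f22347 : Led Lsl_at (LP (LK LD1_c5 LD2_c8 LD3_c4)) = (LP (LK LD1_c10 LD2_c6 LD3_c0)) :=
  Lre_a IH (LK LD1_c5 LD2_c8 LD3_c4) (LK LD1_c10 LD2_c6 LD3_c0) Lrfl Lrfl
theorem f164367 : Led Lsl_bt (LP (LK LD1_c5 LD2_c14 LD3_c30)) = (LP (LK LD1_c2 LD2_c34 LD3_c14)) :=
  Lre_b IH (LK LD1_c5 LD2_c14 LD3_c30) (LK LD1_c2 LD2_c34 LD3_c14) Lrfl Lrfl
theorem f622493 : Led Lsl_af (LP (LK LD1_c5 LD2_c14 LD3_c30)) = (LP (LK LD1_c6 LD2_c7 LD3_c11)) :=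
  Lgr Lrot36 (Lpr_bt (f164367 IH) (Lpe (K48.f164563 IH) (Lpr_bt (K7.f22261 IH) (Lpr_at (f22347 IH) (Lpr_bt (f622491 IH) (Lpn (LP (LK LD1_c6 LD2_c7 LD3_c11))))))))
theorem f646243 : Led Lsl_gf (LP (LK LD1_c5 LD2_c14 LD3_c30)) = v5152 :=
  Lgr Lrot76 (Lpr_af (f622493 IH) (Lpe (f177433 IH) (Lpr_gt (f646242 IH) (Lpn v5152))))
theorem f22338 : Led Lsl_at (LP (LK LD1_c5 LD2_c7 LD3_c51)) = (LP (LK LD1_c2 LD2_c31 LD3_c15)) :=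
  Lre_a IH (LK LD1_c5 LD2_c7 LD3_c51) (LK LD1_c2 LD2_c31 LD3_c15) Lrfl Lrfl
theorem f22289 : Led Lsl_bt (LP (LK LD1_c2 LD2_c31 LD3_c15)) = (LP (LK LD1_c1 LD2_c12 LD3_c41)) :=
  Lre_b IH (LK LD1_c2 LD2_c31 LD3_c15) (LK LD1_c1 LD2_c12 LD3_c41) Lrfl Lrfl
theorem f164378 : Led Lsl_bt (LP (LK LD1_c1 LD2_c14 LD3_c4)) = (LP (LK LD1_c2 LD2_c34 LD3_c5)) :=
  Lre_b IH (LK LD1_c1 LD2_c14 LD3_c4) (LK LD1_c2 LD2_c34 LD3_c5) Lrfl Lrfl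
theorem f622485 : Led Lsl_at (LP (LK LD1_c2 LD2_c34 LD3_c5)) = (LP (LK LD1_c2 LD2_c59 LD3_c44)) :=
  Lgr Lrot67 (Lpe (f164378 IH) (Lpe (K35.f164107 IH) (Lpe (f22289 IH) (Lpe (f22338 IH) (Lpr_bf (f622483 IH) (Lpn (LP (LK LD1_c2 LD2_c59 LD3_c44))))))))
theorem f164411 : Led Lsl_ft (LP (LK LD1_c5 LD2_c14 LD3_c30)) = (LP (LK LD1_c2 LD2_c34 LD3_c5)) :=
  Lre_f IH (LK LD1_c5 LD2_c14 LD3_c30) (LK LD1_c2 LD2_c34 LD3_c5) Lrfl Lrfl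
theorem f177435 : Led Lsl_gt (LP (LK LD1_c6 LD2_c7 LD3_c10)) = (LP (LK LD1_c2 LD2_c59 LD3_c44)) :=
  Lre_g IH (LK LD1_c6 LD2_c7 LD3_c10) (LK LD1_c2 LD2_c59 LD3_c44) Lrfl Lrfl
theorem f622518 : Led Lsl_gt (LP (LK LD1_c5 LD2_c14 LD3_c30)) = (LP (LK LD1_c6 LD2_c7 LD3_c10)) :=
  Lgr Lrot5 (Lpr_ft (f164411 IH) (Lpr_at (f622485 IH) (Lpe (f177435 IH) (Lpn (LP (LK LD1_c6 LD2_c7 LD3_c10))))))
theorem f737607 : v14594 = (LP (LK LD1_c6 LD2_c7 LD3_c10)) :=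
  (Llr Lrot26 (Lpe (f723946 IH) (Lpr_ff (f723934 IH) (Lpqs (f737606 IH) (Lpe (f646243 IH) (Lpr_gt (f622518 IH) (Lpn (LP (LK LD1_c6 LD2_c7 LD3_c10))))))))).symm
theorem f737608 : Led Lsl_ft (LP (LK LD1_c6 LD2_c7 LD3_c10)) = (LP (LK LD1_c5 LD2_c14 LD3_c29)) :=
  Leop (Lpr_ff (f723945 IH) (Lpqs (f737607 IH) (Lpn (LP (LK LD1_c6 LD2_c7 LD3_c10)))))
theorem seed_905 : LEOK LG_f (LK LD1_c6 LD2_c7 LD3_c10) :=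
  Leoe_f (LK LD1_c6 LD2_c7 LD3_c10) (f737608 IH)
def v14593 : LQ := Led Lsl_dt (LP (LK LD1_c5 LD2_c14 LD3_c29))
theorem f723939 : Led Lsl_dt (LP (LK LD1_c5 LD2_c14 LD3_c29)) = v14593 :=
  Lrfl
theorem f723940 : Led Lsl_df (LP (LK LD1_c5 LD2_c14 LD3_c29)) = v14593 :=
  Lgr Lrot38 (Lpr_dt (f723939 IH) (Lpn v14593))
def v12892 : LQ := Led Lsl_et (LP (LK LD1_c4 LD2_c34 LD3_c1))
theorem f698856 : Led Lsl_et (LP (LK LD1_c4 LD2_c34 LD3_c1)) = v12892 :=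
  Lrfl
theorem f698857 : Led Lsl_ef (LP (LK LD1_c4 LD2_c34 LD3_c1)) = v12892 :=
  Lgr Lrot88 (Lpr_et (f698856 IH) (Lpn v12892))
theorem f437268 : Led Lsl_gt (LP (LK LD1_c4 LD2_c34 LD3_c1)) = (LP (LK LD1_c9 LD2_c5 LD3_c27)) :=
  Lre_g IH (LK LD1_c4 LD2_c34 LD3_c1) (LK LD1_c9 LD2_c5 LD3_c27) Lrfl Lrfl
theorem f438778 : Led Lsl_et (LP (LK LD1_c2 LD2_c51 LD3_c29)) = (LP (LK LD1_c5 LD2_c50 LD3_c38)) :=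
  Lre_e IH (LK LD1_c2 LD2_c51 LD3_c29) (LK LD1_c5 LD2_c50 LD3_c38) Lrfl Lrfl
theorem f151971 : Led Lsl_at (LP (LK LD1_c2 LD2_c52 LD3_c19)) = (LP (LK LD1_c1 LD2_c22 LD3_c19)) :=
  Lre_a IH (LK LD1_c2 LD2_c52 LD3_c19) (LK LD1_c1 LD2_c22 LD3_c19) Lrfl Lrfl
theorem f599763 : Led Lsl_at (LP (LK LD1_c2 LD2_c52 LD3_c32)) = (LP (LK LD1_c4 LD2_c39 LD3_c33)) :=
  Lgr Lrot51 (Lpe (K46.f452214 IH) (Lpe (f151971 IH) (Lpr_df (K45.f599760 IH) (Lpn (LP (LK LD1_c4 LD2_c39 LD3_c33))))))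
theorem f500308 : Led Lsl_ft (LP (LK LD1_c5 LD2_c52 LD3_c34)) = (LP (LK LD1_c2 LD2_c52 LD3_c32)) :=
  Lre_f IH (LK LD1_c5 LD2_c52 LD3_c34) (LK LD1_c2 LD2_c52 LD3_c32) Lrfl Lrfl
theorem f599812 : Led Lsl_gt (LP (LK LD1_c5 LD2_c52 LD3_c34)) = (LP (LK LD1_c9 LD2_c14 LD3_c45)) :=
  Lgr Lrot5 (Lpr_ft (f500308 IH) (Lpr_at (f599763 IH) (Lpe (K49.f422797 IH) (Lpn (LP (LK LD1_c9 LD2_c14 LD3_c45))))))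
theorem f599814 : Led Lsl_gf (LP (LK LD1_c4 LD2_c34 LD3_c46)) = (LP (LK LD1_c5 LD2_c50 LD3_c38)) :=
  Lgr Lrot141 (Lpr_ef (K7.f152037 IH) (Lpr_dt (K49.f152048 IH) (Lpr_gt (f599812 IH) (Lpe (K49.f599804 IH) (Lpr_et (K49.f499957 IH) (Lpq (K35.f537647 IH) (Lpe (K35.f536245 IH) (Lpr_dt (K35.f92129 IH) (Lpr_gt (K32.f438773 IH) (Lpe (K35.f139889 IH) (Lpr_et (f438778 IH) (Lpn (LP (LK LD1_c5 LD2_c50 LD3_c38))))))))))))))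
theorem f164368 : Led Lsl_dt (LP (LK LD1_c4 LD2_c34 LD3_c46)) = (LP (LK LD1_c5 LD2_c14 LD3_c30)) :=
  Lgr Lrot79 (Lpe (K7.f152052 IH) (Lpr_df (K10.f164362 IH) (Lpe (f164367 IH) (Lpn (LP (LK LD1_c5 LD2_c14 LD3_c30))))))
theorem f698858 : Led Lsl_df (LP (LK LD1_c6 LD2_c7 LD3_c10)) = v12892 :=
  Lgr Lrot132 (Lpe (f622518 IH) (Lpe (f164368 IH) (Lpr_gf (f599814 IH) (Lpe (f438778 IH) (Lpr_dt (K35.f139889 IH) (Lpe (K32.f438773 IH) (Lpe (K35.f92129 IH) (Lpe (K41.f567746 IH) (Lpe (f437268 IH) (Lpr_ef (f698857 IH) (Lpn v12892)))))))))))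
theorem f698859 : Led Lsl_dt (LP (LK LD1_c6 LD2_c7 LD3_c10)) = v12892 :=
  Lgr Lrot42 (Lpr_df (f698858 IH) (Lpn v12892))
theorem f737610 : Led Lsl_ff v14593 = v12892 :=
  Lgr Lrot19 (Lpe (f723940 IH) (Lpr_ft (f723943 IH) (Lpqs (f737607 IH) (Lpr_dt (f698859 IH) (Lpn v12892)))))
theorem f211987 : Led Lsl_et (LP (LK LD1_c9 LD2_c1 LD3_c28)) = (LP (LK LD1_c4 LD2_c31 LD3_c46)) :=
  Lre_e IH (LK LD1_c9 LD2_c1 LD3_c28) (LK LD1_c4 LD2_c31 LD3_c46) Lrfl Lrfl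
theorem f417135 : Led Lsl_gt (LP (LK LD1_c3 LD2_c21 LD3_c36)) = (LP (LK LD1_c6 LD2_c46 LD3_c51)) :=
  Lre_g IH (LK LD1_c3 LD2_c21 LD3_c36) (LK LD1_c6 LD2_c46 LD3_c51) Lrfl Lrfl
theorem f289446 : Led Lsl_et (LP (LK LD1_c1 LD2_c19 LD3_c29)) = (LP (LK LD1_c2 LD2_c46 LD3_c15)) :=
  Lre_e IH (LK LD1_c1 LD2_c19 LD3_c29) (LK LD1_c2 LD2_c46 LD3_c15) Lrfl Lrfl
theorem f705965 : Led Lsl_df (LP (LK LD1_c6 LD2_c46 LD3_c51)) = (LP (LK LD1_c9 LD2_c1 LD3_c28)) :=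
  Lgr Lrot132 (Lpe (f417135 IH) (Lpr_df (K50.f653283 IH) (Lpq (K50.f705921 IH) (Lpe (K50.f289447 IH) (Lpe (f289446 IH) (Lpr_dt (K20.f289440 IH) (Lpr_gf (K12.f211982 IH) (Lpe (K9.f168831 IH) (Lpr_et (f180230 IH) (Lpe (f211986 IH) (Lpe (f211987 IH) (Lpn (LP (LK LD1_c9 LD2_c1 LD3_c28))))))))))))))
theorem f705967 : Led Lsl_dt (LP (LK LD1_c6 LD2_c46 LD3_c51)) = (LP (LK LD1_c9 LD2_c1 LD3_c28)) :=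
  Lgr Lrot42 (Lpr_df (f705965 IH) (Lpn (LP (LK LD1_c9 LD2_c1 LD3_c28))))
theorem f723941 : Led Lsl_ef (LP (LK LD1_c6 LD2_c46 LD3_c51)) = v14593 :=
  Lgr Lrot73 (Lpr_dt (f705967 IH) (Lpr_et (f211987 IH) (Lpr_dt (f698342 IH) (Lpe (f698344 IH) (Lpr_dt (f723939 IH) (Lpn v14593))))))
theorem f737541 : Led Lsl_et v4752 = v15474 :=
  Lgr Lrot87 (Lpr_ef (f737540 IH) (Lpn v15474))
theorem f698335 : Led Lsl_et (LP (LK LD1_c4 LD2_c31 LD3_c46)) = (LP (LK LD1_c9 LD2_c1 LD3_c28)) :=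
  Lre_e IH (LK LD1_c4 LD2_c31 LD3_c46) (LK LD1_c9 LD2_c1 LD3_c28) Lrfl Lrfl
def v12812 : LQ := Led Lsl_ft (LP (LK LD1_c4 LD2_c31 LD3_c46))
theorem f698346 : Led Lsl_ft (LP (LK LD1_c4 LD2_c31 LD3_c46)) = v12812 :=
  Lrfl
theorem f698348 : Led Lsl_ff (LP (LK LD1_c4 LD2_c31 LD3_c46)) = v12812 :=
  Lgr Lrot3 (Lpr_ft (f698346 IH) (Lpn v12812))
theorem f698337 : Led Lsl_ff v4177 = v12808 :=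
  Lgr Lrot3 (Lpr_ft (f698336 IH) (Lpn v12808))
theorem f698349 : Led Lsl_at v4177 = v12812 :=
  Lgr Lrot66 (Lpr_ff (f698337 IH) (Lpe (f698333 IH) (Lpr_ff (f698348 IH) (Lpn v12812))))
theorem f737570 : (LP (LK LD1_c2 LD2_c46 LD3_c1)) = v12812 :=
  Lefun (Lecon (Lfl_af (f638831 IH)) (f737569 IH).symm) (f698349 IH)
theorem f737572 : (LP (LK LD1_c4 LD2_c31 LD3_c46)) = v4752 :=
  Lefun (Lecon (Lfl_ff (f698348 IH)) (f737570 IH).symm) (f638840 IH)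
theorem f737578 : v15474 = (LP (LK LD1_c9 LD2_c1 LD3_c28)) :=
  Lefun (Lecon (f737541 IH) (f737572 IH).symm) (f698335 IH)
theorem f737583 : Led Lsl_ff (LP (LK LD1_c6 LD2_c46 LD3_c33)) = (LP (LK LD1_c6 LD2_c46 LD3_c51)) :=
  Lgr Lrot19 (Lpe (K51.f707189 IH) (Lpr_ft (f737542 IH) (Lpqs (f737578 IH) (Lpe (f705965 IH) (Lpn (LP (LK LD1_c6 LD2_c46 LD3_c51)))))))
theorem f438466 : Led Lsl_dt (LP (LK LD1_c3 LD2_c8 LD3_c30)) = (LP (LK LD1_c1 LD2_c30 LD3_c26)) :=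
  Lre_d IH (LK LD1_c3 LD2_c8 LD3_c30) (LK LD1_c1 LD2_c30 LD3_c26) Lrfl Lrfl
theorem f707191 : Led Lsl_et (LP (LK LD1_c6 LD2_c46 LD3_c33)) = (LP (LK LD1_c9 LD2_c5 LD3_c26)) :=
  Lgr Lrot122 (Lpe (K51.f707189 IH) (Lpr_gt (K51.f707187 IH) (Lpr_df (K50.f615359 IH) (Lpe (K41.f615361 IH) (Lpr_gt (K35.f438505 IH) (Lpr_dt (f438466 IH) (Lpr_gt (K32.f438467 IH) (Lpr_df (K35.f500153 IH) (Lpqs (K41.f537657 IH) (Lpr_et (K6.f143128 IH) (Lpr_gt (K52.f143144 IH) (Lpn (LP (LK LD1_c9 LD2_c5 LD3_c26))))))))))))))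
def v12893 : LQ := Led Lsl_ft (LP (LK LD1_c4 LD2_c34 LD3_c1))
theorem f698860 : Led Lsl_ft (LP (LK LD1_c4 LD2_c34 LD3_c1)) = v12893 :=
  Lrfl
theorem f698862 : Led Lsl_ff (LP (LK LD1_c4 LD2_c34 LD3_c1)) = v12893 :=
  Lgr Lrot3 (Lpr_ft (f698860 IH) (Lpn v12893))
theorem f737612 : (LP (LK LD1_c9 LD2_c5 LD3_c26)) = v12893 :=
  (Llr Lrot69 (Lpe (f707191 IH) (Lpr_ff (f737583 IH) (Lpr_ef (f723941 IH) (Lpr_ff (f737610 IH) (Lpe (f698856 IH) (Lpr_ff (f698862 IH) (Lpn v12893)))))))).symm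
def v12889 : LQ := Led Lsl_at (LP (LK LD1_c4 LD2_c34 LD3_c1))
theorem f698847 : Led Lsl_at (LP (LK LD1_c4 LD2_c34 LD3_c1)) = v12889 :=
  Lrfl
theorem f698848 : Led Lsl_af (LP (LK LD1_c4 LD2_c34 LD3_c1)) = v12889 :=
  Lgr Lrot0 (Lpr_at (f698847 IH) (Lpn v12889))
theorem f437401 : Led Lsl_gt (LP (LK LD1_c2 LD2_c13 LD3_c55)) = (LP (LK LD1_c4 LD2_c34 LD3_c1)) :=
  Lre_g IH (LK LD1_c2 LD2_c13 LD3_c55) (LK LD1_c4 LD2_c34 LD3_c1) Lrfl Lrfl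
theorem f437403 : Led Lsl_gt (LP (LK LD1_c4 LD2_c34 LD3_c2)) = (LP (LK LD1_c2 LD2_c13 LD3_c55)) :=
  Lre_g IH (LK LD1_c4 LD2_c34 LD3_c2) (LK LD1_c2 LD2_c13 LD3_c55) Lrfl Lrfl
theorem f698849 : Led Lsl_ft (LP (LK LD1_c4 LD2_c34 LD3_c2)) = v12889 :=
  Lgr Lrot2 (Lpr_gt (f437403 IH) (Lpr_gt (f437401 IH) (Lpr_af (f698848 IH) (Lpn v12889))))
theorem f698861 : Led Lsl_af (LP (LK LD1_c4 LD2_c34 LD3_c2)) = v12893 :=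
  Lgr Lrot45 (Lpr_ft (f698849 IH) (Lpe (f698848 IH) (Lpr_ft (f698860 IH) (Lpn v12893))))
theorem f737613 : Led Lsl_at (LP (LK LD1_c9 LD2_c5 LD3_c26)) = (LP (LK LD1_c4 LD2_c34 LD3_c2)) :=
  Leop (Lpr_af (f698861 IH) (Lpq (f737612 IH) (Lpn (LP (LK LD1_c9 LD2_c5 LD3_c26)))))
theorem seed_906 : LEOK LG_a (LK LD1_c9 LD2_c5 LD3_c26) :=
  Leoe_a (LK LD1_c9 LD2_c5 LD3_c26) (f737613 IH)
def v15490 : LQ := Led Lsl_at (LP (LK LD1_c5 LD2_c40 LD3_c46))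
theorem f737740 : Led Lsl_at (LP (LK LD1_c5 LD2_c40 LD3_c46)) = v15490 :=
  Lrfl
def v4760 : LQ := Led Lsl_at (LP (LK LD1_c2 LD2_c46 LD3_c18))
theorem f638860 : Led Lsl_at (LP (LK LD1_c2 LD2_c46 LD3_c18)) = v4760 :=
  Lrfl
theorem f638861 : Led Lsl_af (LP (LK LD1_c2 LD2_c46 LD3_c18)) = v4760 :=
  Lgr Lrot0 (Lpr_at (f638860 IH) (Lpn v4760))
theorem f737742 : Led Lsl_df v4760 = v15490 :=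
  Lgr Lrot18 (Lpe (f638861 IH) (Lpr_dt (K49.f172312 IH) (Lpr_at (f737740 IH) (Lpn v15490))))
theorem f172289 : Led Lsl_gt (LP (LK LD1_c2 LD2_c46 LD3_c19)) = (LP (LK LD1_c1 LD2_c19 LD3_c31)) :=
  Lre_g IH (LK LD1_c2 LD2_c46 LD3_c19) (LK LD1_c1 LD2_c19 LD3_c31) Lrfl Lrfl
theorem f638862 : Led Lsl_ft (LP (LK LD1_c2 LD2_c46 LD3_c19)) = v4760 :=
  Lgr Lrot2 (Lpr_gt (f172289 IH) (Lpr_gt (K49.f172311 IH) (Lpr_af (f638861 IH) (Lpn v4760))))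
theorem f638863 : Led Lsl_ff (LP (LK LD1_c2 LD2_c46 LD3_c19)) = v4760 :=
  Lgr Lrot3 (Lpr_ft (f638862 IH) (Lpn v4760))
theorem f380522 : Led Lsl_dt (LP (LK LD1_c2 LD2_c46 LD3_c19)) = (LP (LK LD1_c5 LD2_c40 LD3_c48)) :=
  Lre_d IH (LK LD1_c2 LD2_c46 LD3_c19) (LK LD1_c5 LD2_c40 LD3_c48) Lrfl Lrfl
theorem f737744 : Led Lsl_ft (LP (LK LD1_c5 LD2_c40 LD3_c48)) = v15490 :=
  Lgr Lrot54 (Lpe (f380522 IH) (Lpr_ff (f638863 IH) (Lpr_df (f737742 IH) (Lpn v15490))))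
theorem f737741 : Led Lsl_af (LP (LK LD1_c5 LD2_c40 LD3_c46)) = v15490 :=
  Lgr Lrot0 (Lpr_at (f737740 IH) (Lpn v15490))
theorem f380665 : Led Lsl_gt (LP (LK LD1_c11 LD2_c12 LD3_c5)) = (LP (LK LD1_c5 LD2_c40 LD3_c46)) :=
  Lre_g IH (LK LD1_c11 LD2_c12 LD3_c5) (LK LD1_c5 LD2_c40 LD3_c46) Lrfl Lrfl
theorem f737746 : Led Lsl_gt (LP (LK LD1_c5 LD2_c40 LD3_c48)) = (LP (LK LD1_c11 LD2_c12 LD3_c5)) :=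
  Lgr Lrot5 (Lpr_ft (f737744 IH) (Lpe (f737741 IH) (Lpe (f380665 IH) (Lpn (LP (LK LD1_c11 LD2_c12 LD3_c5))))))
theorem f737747 : Led Lsl_gt (LP (LK LD1_c5 LD2_c40 LD3_c48)) = (LP (LK LD1_c11 LD2_c12 LD3_c5)) :=
  Leop (Lpe (f737746 IH) (Lpn (LP (LK LD1_c5 LD2_c40 LD3_c48))))
theorem seed_907 : LEOK LG_g (LK LD1_c5 LD2_c40 LD3_c48) :=
  Leoe_g (LK LD1_c5 LD2_c40 LD3_c48) (f737747 IH)
theorem f413511 : Led Lsl_et (LP (LK LD1_c2 LD2_c46 LD3_c19)) = (LP (LK LD1_c5 LD2_c40 LD3_c49)) :=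
  Lre_e IH (LK LD1_c2 LD2_c46 LD3_c19) (LK LD1_c5 LD2_c40 LD3_c49) Lrfl Lrfl
def v14097 : LQ := Led Lsl_ft (LP (LK LD1_c4 LD2_c57 LD3_c56))
theorem f718973 : Led Lsl_ft (LP (LK LD1_c4 LD2_c57 LD3_c56)) = v14097 :=
  Lrfl
theorem f504092 : Led Lsl_af (LP (LK LD1_c3 LD2_c2 LD3_c49)) = (LP (LK LD1_c4 LD2_c41 LD3_c5)) :=
  Lgr Lrot45 (Lpr_ft (K50.f504078 IH) (Lpe (K50.f504080 IH) (Lpr_ft (K50.f504090 IH) (Lpn (LP (LK LD1_c4 LD2_c41 LD3_c5))))))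
theorem f413483 : Led Lsl_et (LP (LK LD1_c3 LD2_c2 LD3_c49)) = (LP (LK LD1_c6 LD2_c12 LD3_c32)) :=
  Lre_e IH (LK LD1_c3 LD2_c2 LD3_c49) (LK LD1_c6 LD2_c12 LD3_c32) Lrfl Lrfl
theorem f504156 : Led Lsl_at (LP (LK LD1_c6 LD2_c12 LD3_c32)) = (LP (LK LD1_c9 LD2_c17 LD3_c40)) :=
  Lgr Lrot80 (Lpe (f413483 IH) (Lpr_af (f504092 IH) (Lpe (K51.f416261 IH) (Lpn (LP (LK LD1_c9 LD2_c17 LD3_c40))))))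
theorem f504158 : Led Lsl_af (LP (LK LD1_c6 LD2_c12 LD3_c32)) = (LP (LK LD1_c9 LD2_c17 LD3_c40)) :=
  Lgr Lrot0 (Lpr_at (f504156 IH) (Lpn (LP (LK LD1_c9 LD2_c17 LD3_c40))))
theorem f689169 : Led Lsl_ft (LP (LK LD1_c11 LD2_c12 LD3_c5)) = (LP (LK LD1_c9 LD2_c17 LD3_c40)) :=
  Lgr Lrot2 (Lpr_gt (f380665 IH) (Lpr_gt (K49.f689167 IH) (Lpr_af (f504158 IH) (Lpn (LP (LK LD1_c9 LD2_c17 LD3_c40))))))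
theorem f718974 : Led Lsl_df (LP (LK LD1_c11 LD2_c12 LD3_c5)) = v14097 :=
  Lgr Lrot78 (Lpr_ft (f689169 IH) (Lpr_dt (K51.f416309 IH) (Lpr_ft (f718973 IH) (Lpn v14097))))
theorem f22789 : Led Lsl_dt (LP (LK LD1_c5 LD2_c52 LD3_c9)) = (LP (LK LD1_c11 LD2_c31 LD3_c13)) :=
  Lre_d IH (LK LD1_c5 LD2_c52 LD3_c9) (LK LD1_c11 LD2_c31 LD3_c13) Lrfl Lrfl
theorem f640805 : Led Lsl_ff (LP (LK LD1_c7 LD2_c59 LD3_c48)) = (LP (LK LD1_c11 LD2_c31 LD3_c13)) :=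
  Lgr Lrot19 (Lpr_dt (K41.f615363 IH) (Lpr_ft (K50.f640801 IH) (Lpr_dt (f22789 IH) (Lpn (LP (LK LD1_c11 LD2_c31 LD3_c13))))))
theorem f718975 : Led Lsl_ef (LP (LK LD1_c11 LD2_c31 LD3_c13)) = v14097 :=
  Lgr Lrot21 (Lpe (f640805 IH) (Lpr_et (K41.f40930 IH) (Lpr_ft (K50.f503809 IH) (Lpr_et (K51.f416262 IH) (Lpr_ft (f718973 IH) (Lpn v14097))))))
theorem f640820 : Led Lsl_gf (LP (LK LD1_c9 LD2_c46 LD3_c39)) = (LP (LK LD1_c11 LD2_c31 LD3_c13)) :=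
  Lgr Lrot47 (Lpr_gt (K41.f415705 IH) (Lpe (K50.f503831 IH) (Lpr_ff (f640805 IH) (Lpn (LP (LK LD1_c11 LD2_c31 LD3_c13))))))
def v12895 : LQ := Led Lsl_et (LP (LK LD1_c4 LD2_c34 LD3_c2))
theorem f698868 : Led Lsl_et (LP (LK LD1_c4 LD2_c34 LD3_c2)) = v12895 :=
  Lrfl
theorem f698869 : Led Lsl_ef (LP (LK LD1_c4 LD2_c34 LD3_c2)) = v12895 :=
  Lgr Lrot88 (Lpr_et (f698868 IH) (Lpn v12895))
theorem f143153 : Led Lsl_et (LP (LK LD1_c1 LD2_c3 LD3_c60)) = (LP (LK LD1_c2 LD2_c13 LD3_c55)) :=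
  Lre_e IH (LK LD1_c1 LD2_c3 LD3_c60) (LK LD1_c2 LD2_c13 LD3_c55) Lrfl Lrfl
theorem f58889 : Led Lsl_dt (LP (LK LD1_c1 LD2_c3 LD3_c60)) = (LP (LK LD1_c0 LD2_c29 LD3_c12)) :=
  Lre_d IH (LK LD1_c1 LD2_c3 LD3_c60) (LK LD1_c0 LD2_c29 LD3_c12) Lrfl Lrfl
def v483 : LQ := Led Lsl_dt (LP (LK LD1_c0 LD2_c42 LD3_c15))
theorem f453560 : Led Lsl_dt (LP (LK LD1_c0 LD2_c42 LD3_c15)) = v483 :=
  Lrfl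
theorem f453561 : Led Lsl_df (LP (LK LD1_c0 LD2_c42 LD3_c15)) = v483 :=
  Lgr Lrot38 (Lpr_dt (f453560 IH) (Lpn v483))
theorem f537283 : (LP (LK LD1_c1 LD2_c22 LD3_c16)) = v483 :=
  Lefun (Lecon (Lfl_df (K36.f452209 IH)) (K36.f537116 IH).symm) (f453560 IH)
theorem f698870 : Led Lsl_df (LP (LK LD1_c9 LD2_c46 LD3_c39)) = v12895 :=
  Lgr Lrot132 (Lpr_gf (f640820 IH) (Lpe (f22789 IH) (Lpe (K41.f22788 IH) (Lpe (K50.f452212 IH) (Lpqs (f537283 IH) (Lpe (f453561 IH) (Lpqs (K36.f537116 IH) (Lpe (K36.f452207 IH) (Lpe (f58889 IH) (Lpr_et (f143153 IH) (Lpe (f437403 IH) (Lpr_ef (f698869 IH) (Lpn v12895)))))))))))))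
theorem f698871 : Led Lsl_dt (LP (LK LD1_c9 LD2_c46 LD3_c39)) = v12895 :=
  Lgr Lrot42 (Lpr_df (f698870 IH) (Lpn v12895))
theorem f454223 : Led Lsl_gf (LP (LK LD1_c6 LD2_c46 LD3_c32)) = (LP (LK LD1_c6 LD2_c46 LD3_c51)) :=
  Lgr Lrot76 (Lpe (K24.f454215 IH) (Lpr_ff (K50.f454211 IH) (Lpr_gt (f417135 IH) (Lpn (LP (LK LD1_c6 LD2_c46 LD3_c51))))))
theorem f454217 : Led Lsl_ft (LP (LK LD1_c6 LD2_c46 LD3_c32)) = (LP (LK LD1_c6 LD2_c46 LD3_c53)) :=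
  Lgr Lrot101 (Lpe (K24.f454215 IH) (Lpr_ff (K50.f454211 IH) (Lpe (K46.f454216 IH) (Lpn (LP (LK LD1_c6 LD2_c46 LD3_c53))))))
theorem f454233 : Led Lsl_gt (LP (LK LD1_c6 LD2_c46 LD3_c52)) = (LP (LK LD1_c3 LD2_c21 LD3_c36)) :=
  Lre_g IH (LK LD1_c6 LD2_c46 LD3_c52) (LK LD1_c3 LD2_c21 LD3_c36) Lrfl Lrfl
theorem f454234 : Led Lsl_gt (LP (LK LD1_c6 LD2_c46 LD3_c32)) = (LP (LK LD1_c6 LD2_c46 LD3_c52)) :=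
  Lgr Lrot5 (Lpr_ft (f454217 IH) (Lpr_at (K46.f454216 IH) (Lpe (f454233 IH) (Lpn (LP (LK LD1_c6 LD2_c46 LD3_c52))))))
theorem f737587 : Led Lsl_at (LP (LK LD1_c6 LD2_c46 LD3_c33)) = (LP (LK LD1_c6 LD2_c46 LD3_c52)) :=
  Lgr Lrot26 (Lpr_ff (f737583 IH) (Lpe (f454223 IH) (Lpr_gt (f454234 IH) (Lpn (LP (LK LD1_c6 LD2_c46 LD3_c52))))))
theorem f737589 : Led Lsl_af (LP (LK LD1_c6 LD2_c46 LD3_c33)) = (LP (LK LD1_c6 LD2_c46 LD3_c52)) :=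
  Lgr Lrot0 (Lpr_at (f737587 IH) (Lpn (LP (LK LD1_c6 LD2_c46 LD3_c52))))
theorem f737642 : (LP (LK LD1_c6 LD2_c46 LD3_c52)) = v12895 :=
  (Llr Lrot50 (Lpe (f737589 IH) (Lpr_et (f707191 IH) (Lpqs (f737612 IH) (Lpe (f698861 IH) (Lpr_et (f698868 IH) (Lpn v12895))))))).symm
theorem f615481 : Led Lsl_et (LP (LK LD1_c5 LD2_c40 LD3_c38)) = (LP (LK LD1_c11 LD2_c11 LD3_c60)) :=
  Lre_e IH (LK LD1_c5 LD2_c40 LD3_c38) (LK LD1_c11 LD2_c11 LD3_c60) Lrfl Lrfl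
theorem f737748 : Led Lsl_gf (LP (LK LD1_c5 LD2_c40 LD3_c49)) = (LP (LK LD1_c11 LD2_c11 LD3_c60)) :=
  Lgr Lrot141 (Lpe (f413511 IH) (Lpr_dt (f380522 IH) (Lpr_gt (f737746 IH) (Lpr_df (f718974 IH) (Lpe (f718975 IH) (Lpe (f640820 IH) (Lpr_dt (f698871 IH) (Lpq (f737642 IH) (Lpr_gt (f454233 IH) (Lpr_df (K50.f653283 IH) (Lpq (K50.f705921 IH) (Lpr_et (f615481 IH) (Lpn (LP (LK LD1_c11 LD2_c11 LD3_c60)))))))))))))))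
theorem f737749 : Led Lsl_gt (LP (LK LD1_c11 LD2_c11 LD3_c60)) = (LP (LK LD1_c5 LD2_c40 LD3_c49)) :=
  Leop (Lpr_gf (f737748 IH) (Lpn (LP (LK LD1_c11 LD2_c11 LD3_c60))))
theorem seed_908 : LEOK LG_g (LK LD1_c11 LD2_c11 LD3_c60) :=
  Leoe_g (LK LD1_c11 LD2_c11 LD3_c60) (f737749 IH)
def v15470 : LQ := Led Lsl_gt (LP (LK LD1_c5 LD2_c40 LD3_c15))
theorem f737526 : Led Lsl_gt (LP (LK LD1_c5 LD2_c40 LD3_c15)) = v15470 :=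
  Lrfl
def v15530 : LQ := Led Lsl_gf (LP (LK LD1_c5 LD2_c41 LD3_c11))
theorem f737880 : Led Lsl_gf (LP (LK LD1_c5 LD2_c41 LD3_c11)) = v15530 :=
  Lrfl
theorem f186075 : Led Lsl_dt (LP (LK LD1_c2 LD2_c46 LD3_c37)) = (LP (LK LD1_c5 LD2_c41 LD3_c11)) :=
  Lre_d IH (LK LD1_c2 LD2_c46 LD3_c37) (LK LD1_c5 LD2_c41 LD3_c11) Lrfl Lrfl
theorem f505128 : Led Lsl_et (LP (LK LD1_c5 LD2_c52 LD3_c51)) = (LP (LK LD1_c5 LD2_c48 LD3_c61)) :=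
  Lgr Lrot87 (Lpr_ef (K32.f505122 IH) (Lpn (LP (LK LD1_c5 LD2_c48 LD3_c61))))
theorem f505531 : Led Lsl_et (LP (LK LD1_c2 LD2_c46 LD3_c37)) = (LP (LK LD1_c5 LD2_c0 LD3_c14)) :=
  Lgr Lrot71 (Lpe (K52.f186067 IH) (Lpe (K52.f186076 IH) (Lpe (K32.f146428 IH) (Lpe (f505128 IH) (Lpr_df (K46.f505529 IH) (Lpn (LP (LK LD1_c5 LD2_c0 LD3_c14))))))))
def v14169 : LQ := Led Lsl_dt (LP (LK LD1_c5 LD2_c0 LD3_c15))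
theorem f720616 : Led Lsl_dt (LP (LK LD1_c5 LD2_c0 LD3_c15)) = v14169 :=
  Lrfl
def v12938 : LQ := Led Lsl_et (LP (LK LD1_c4 LD2_c35 LD3_c2))
theorem f699696 : Led Lsl_et (LP (LK LD1_c4 LD2_c35 LD3_c2)) = v12938 :=
  Lrfl
theorem f699698 : Led Lsl_ef (LP (LK LD1_c4 LD2_c35 LD3_c2)) = v12938 :=
  Lgr Lrot88 (Lpr_et (f699696 IH) (Lpn v12938))
theorem f140763 : Led Lsl_et (LP (LK LD1_c1 LD2_c4 LD3_c28)) = (LP (LK LD1_c2 LD2_c14 LD3_c37)) :=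
  Lre_e IH (LK LD1_c1 LD2_c4 LD3_c28) (LK LD1_c2 LD2_c14 LD3_c37) Lrfl Lrfl
theorem f20320 : Led Lsl_dt (LP (LK LD1_c1 LD2_c4 LD3_c28)) = (LP (LK LD1_c0 LD2_c29 LD3_c29)) :=
  Lre_d IH (LK LD1_c1 LD2_c4 LD3_c28) (LK LD1_c0 LD2_c29 LD3_c29) Lrfl Lrfl
theorem f26645 : Led Lsl_dt (LP (LK LD1_c6 LD2_c7 LD3_c29)) = (LP (LK LD1_c2 LD2_c59 LD3_c55)) :=
  Lre_d IH (LK LD1_c6 LD2_c7 LD3_c29) (LK LD1_c2 LD2_c59 LD3_c55) Lrfl Lrfl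
def v5156 : LQ := Led Lsl_gf (LP (LK LD1_c2 LD2_c59 LD3_c55))
theorem f646254 : Led Lsl_gf (LP (LK LD1_c2 LD2_c59 LD3_c55)) = v5156 :=
  Lrfl
theorem f699700 : Led Lsl_df v5156 = v12938 :=
  Lgr Lrot170 (Lpe (f646254 IH) (Lpe (f26645 IH) (Lpr_et (K40.f26644 IH) (Lpe (K36.f227461 IH) (Lpr_dt (K36.f140764 IH) (Lpr_gt (K9.f20324 IH) (Lpe (f20320 IH) (Lpr_et (f140763 IH) (Lpr_gt (K32.f73208 IH) (Lpr_ef (f699698 IH) (Lpn v12938)))))))))))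
theorem f699702 : Led Lsl_dt v5156 = v12938 :=
  Lgr Lrot42 (Lpr_df (f699700 IH) (Lpn v12938))
theorem f720618 : Led Lsl_ef v5156 = v14169 :=
  Lgr Lrot73 (Lpr_dt (f699702 IH) (Lpe (f699698 IH) (Lpr_dt (K32.f140745 IH) (Lpe (K32.f140770 IH) (Lpr_dt (f720616 IH) (Lpn v14169))))))
theorem f195773 : Led Lsl_ft (LP (LK LD1_c5 LD2_c38 LD3_c50)) = (LP (LK LD1_c2 LD2_c45 LD3_c20)) :=
  Lre_f IH (LK LD1_c5 LD2_c38 LD3_c50) (LK LD1_c2 LD2_c45 LD3_c20) Lrfl Lrfl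
theorem f646255 : Led Lsl_gt (LP (LK LD1_c5 LD2_c38 LD3_c50)) = v5156 :=
  Lgr Lrot5 (Lpr_ft (f195773 IH) (Lpr_at (K40.f380340 IH) (Lpr_gf (f646254 IH) (Lpn v5156))))
def v8074 : LQ := Led Lsl_ft v1753
theorem f669871 : Led Lsl_ft v1753 = v8074 :=
  Lrfl
theorem f194073 : Led Lsl_et (LP (LK LD1_c2 LD2_c45 LD3_c20)) = (LP (LK LD1_c1 LD2_c18 LD3_c60)) :=
  Lre_e IH (LK LD1_c2 LD2_c45 LD3_c20) (LK LD1_c1 LD2_c18 LD3_c60) Lrfl Lrfl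
theorem f669874 : Led Lsl_ef (LP (LK LD1_c5 LD2_c38 LD3_c50)) = v8074 :=
  Lgr Lrot21 (Lpr_ft (f195773 IH) (Lpr_et (f194073 IH) (Lpr_ft (K22.f334455 IH) (Lpr_et (f501291 IH) (Lpr_ft (f669871 IH) (Lpn v8074))))))
theorem f169092 : Led Lsl_dt (LP (LK LD1_c1 LD2_c25 LD3_c41)) = (LP (LK LD1_c0 LD2_c39 LD3_c34)) :=
  Lre_d IH (LK LD1_c1 LD2_c25 LD3_c41) (LK LD1_c0 LD2_c39 LD3_c34) Lrfl Lrfl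
theorem f501296 : Led Lsl_dt (LP (LK LD1_c2 LD2_c12 LD3_c53)) = v1753 :=
  Lgr Lrot77 (Lpe (f180230 IH) (Lpe (K9.f168836 IH) (Lpe (K53.f20591 IH) (Lpe (f169092 IH) (Lpr_ef (f501294 IH) (Lpn v1753))))))
theorem f669873 : Led Lsl_df K53.v4178 = v8074 :=
  Lgr Lrot78 (Lpe (K53.f631653 IH) (Lpr_dt (f501296 IH) (Lpr_ft (f669871 IH) (Lpn v8074))))
theorem f354375 : Led Lsl_ft (LP (LK LD1_c1 LD2_c19 LD3_c23)) = (LP (LK LD1_c2 LD2_c46 LD3_c4)) :=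
  Lre_f IH (LK LD1_c1 LD2_c19 LD3_c23) (LK LD1_c2 LD2_c46 LD3_c4) Lrfl Lrfl
theorem f631655 : Led Lsl_at (LP (LK LD1_c2 LD2_c46 LD3_c4)) = K53.v4178 :=
  Lgr Lrot66 (Lpe (f354375 IH) (Lpr_af (K53.f354432 IH) (Lpr_ff (K53.f631653 IH) (Lpn K53.v4178))))
theorem f631658 : Led Lsl_gt (LP (LK LD1_c2 LD2_c46 LD3_c1)) = K53.v4178 :=
  Lgr Lrot46 (Lpe (f172040 IH) (Lpr_ft (f354375 IH) (Lpr_at (f631655 IH) (Lpn K53.v4178))))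
def v4751 : LQ := Led Lsl_dt (LP (LK LD1_c2 LD2_c46 LD3_c1))
theorem f638838 : Led Lsl_dt (LP (LK LD1_c2 LD2_c46 LD3_c1)) = v4751 :=
  Lrfl
theorem f638839 : Led Lsl_df (LP (LK LD1_c2 LD2_c46 LD3_c1)) = v4751 :=
  Lgr Lrot38 (Lpr_dt (f638838 IH) (Lpn v4751))
theorem f720617 : Led Lsl_df (LP (LK LD1_c5 LD2_c0 LD3_c15)) = v14169 :=
  Lgr Lrot38 (Lpr_dt (f720616 IH) (Lpn v14169))
theorem f720624 : Led Lsl_gf v4751 = K53.v12343 :=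
  Lgr Lrot138 (Lpe (f638839 IH) (Lpr_gt (f631658 IH) (Lpr_df (f669873 IH) (Lpe (f669874 IH) (Lpr_gt (f646255 IH) (Lpr_ef (f720618 IH) (Lpe (f720617 IH) (Lpr_gt (K32.f73220 IH) (Lpe (K32.f73214 IH) (Lpr_et (K53.f691627 IH) (Lpn K53.v12343)))))))))))
theorem f40894 : Led Lsl_et (LP (LK LD1_c9 LD2_c46 LD3_c50)) = (LP (LK LD1_c4 LD2_c57 LD3_c59)) :=
  Lre_e IH (LK LD1_c9 LD2_c46 LD3_c50) (LK LD1_c4 LD2_c57 LD3_c59) Lrfl Lrfl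
theorem f737882 : Led Lsl_dt (LP (LK LD1_c9 LD2_c46 LD3_c50)) = v15530 :=
  Lgr Lrot136 (Lpr_et (f40894 IH) (Lpe (K53.f40886 IH) (Lpe (K9.f40892 IH) (Lpr_dt (K9.f40493 IH) (Lpe (K46.f415150 IH) (Lpe (K46.f73217 IH) (Lpe (K46.f415152 IH) (Lpe (f505531 IH) (Lpr_dt (f186075 IH) (Lpr_gf (f737880 IH) (Lpn v15530)))))))))))
theorem f737883 : v15470 = (LP (LK LD1_c9 LD2_c46 LD3_c50)) :=
  (Llr Lrot137 (Lpe (f737526 IH) (Lpe (f177669 IH) (Lpr_dt (f638838 IH) (Lpr_gf (f720624 IH) (Lpe (K53.f691630 IH) (Lpe (K53.f636106 IH) (Lpe (K46.f415152 IH) (Lpe (f505531 IH) (Lpr_dt (f186075 IH) (Lpr_gf (f737880 IH) (Lpe (f737882 IH) (Lpn (LP (LK LD1_c9 LD2_c46 LD3_c50))))))))))))))).symm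
theorem f737884 : Led Lsl_gt (LP (LK LD1_c5 LD2_c40 LD3_c15)) = (LP (LK LD1_c9 LD2_c46 LD3_c50)) :=
  Leop (Lpq (f737883 IH) (Lpe (f737526 IH) (Lpn (LP (LK LD1_c5 LD2_c40 LD3_c15)))))
theorem seed_909 : LEOK LG_g (LK LD1_c5 LD2_c40 LD3_c15) :=
  Leoe_g (LK LD1_c5 LD2_c40 LD3_c15) (f737884 IH)
def v15545 : LQ := Led Lsl_gt (LP (LK LD1_c5 LD2_c41 LD3_c48))
theorem f737931 : Led Lsl_gt (LP (LK LD1_c5 LD2_c41 LD3_c48)) = v15545 :=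
  Lrfl
theorem f563740 : Led Lsl_bt (LP (LK LD1_c11 LD2_c7 LD3_c19)) = (LP (LK LD1_c5 LD2_c41 LD3_c48)) :=
  Lgr Lrot119 (Lpe (K52.f556142 IH) (Lpr_bf (K40.f563735 IH) (Lpe (K40.f411921 IH) (Lpn (LP (LK LD1_c5 LD2_c41 LD3_c48))))))
theorem f737932 : Led Lsl_bt (LP (LK LD1_c6 LD2_c11 LD3_c59)) = v15545 :=
  Lgr Lrot92 (Lpr_ct (K53.f416478 IH) (Lpe (K53.f715206 IH) (Lpr_cf (K53.f418642 IH) (Lpr_bt (K51.f418651 IH) (Lpr_gt (K52.f710122 IH) (Lpr_ct (K52.f415248 IH) (Lpr_gt (K52.f714929 IH) (Lpe (K52.f595778 IH) (Lpr_bt (f563740 IH) (Lpr_gt (f737931 IH) (Lpn v15545)))))))))))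
theorem f737934 : Led Lsl_bf (LP (LK LD1_c6 LD2_c11 LD3_c59)) = v15545 :=
  Lgr Lrot24 (Lpr_bt (f737932 IH) (Lpn v15545))
theorem f706569 : Led Lsl_ft (LP (LK LD1_c6 LD2_c44 LD3_c60)) = (LP (LK LD1_c6 LD2_c11 LD3_c59)) :=
  Lgr Lrot48 (Lpr_ff (K51.f706561 IH) (Lpn (LP (LK LD1_c6 LD2_c11 LD3_c59))))
theorem f706744 : Led Lsl_af (LP (LK LD1_c11 LD2_c14 LD3_c26)) = (LP (LK LD1_c6 LD2_c11 LD3_c59)) :=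
  Lgr Lrot45 (Lpr_ft (K53.f706742 IH) (Lpe (K53.f706573 IH) (Lpr_ft (f706569 IH) (Lpn (LP (LK LD1_c6 LD2_c11 LD3_c59))))))
theorem f289265 : Led Lsl_bt (LP (LK LD1_c11 LD2_c14 LD3_c26)) = (LP (LK LD1_c5 LD2_c42 LD3_c4)) :=
  Lre_b IH (LK LD1_c11 LD2_c14 LD3_c26) (LK LD1_c5 LD2_c42 LD3_c4) Lrfl Lrfl
theorem f715223 : Led Lsl_bt (LP (LK LD1_c5 LD2_c37 LD3_c23)) = (LP (LK LD1_c11 LD2_c6 LD3_c33)) :=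
  Lre_b IH (LK LD1_c5 LD2_c37 LD3_c23) (LK LD1_c11 LD2_c6 LD3_c33) Lrfl Lrfl
theorem f737935 : Led Lsl_at (LP (LK LD1_c11 LD2_c6 LD3_c33)) = v15545 :=
  Lgr Lrot67 (Lpe (f715223 IH) (Lpr_af (f715219 IH) (Lpe (f289265 IH) (Lpr_af (f706744 IH) (Lpr_bf (f737934 IH) (Lpn v15545))))))
theorem f549822 : Led Lsl_gt (LP (LK LD1_c11 LD2_c13 LD3_c47)) = (LP (LK LD1_c5 LD2_c41 LD3_c48)) :=
  Lre_g IH (LK LD1_c11 LD2_c13 LD3_c47) (LK LD1_c5 LD2_c41 LD3_c48) Lrfl Lrfl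
theorem f737936 : Led Lsl_ff (LP (LK LD1_c11 LD2_c6 LD3_c33)) = (LP (LK LD1_c11 LD2_c13 LD3_c47)) :=
  Lgr Lrot52 (Lpr_at (f737935 IH) (Lpe (f737931 IH) (Lpe (f549822 IH) (Lpn (LP (LK LD1_c11 LD2_c13 LD3_c47))))))
theorem f737937 : Led Lsl_ft (LP (LK LD1_c11 LD2_c13 LD3_c47)) = (LP (LK LD1_c11 LD2_c6 LD3_c33)) :=
  Leop (Lpr_ff (f737936 IH) (Lpn (LP (LK LD1_c11 LD2_c13 LD3_c47))))
theorem seed_910 : LEOK LG_f (LK LD1_c11 LD2_c13 LD3_c47) :=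
  Leoe_f (LK LD1_c11 LD2_c13 LD3_c47) (f737937 IH)
def v15553 : LQ := Led Lsl_gt (LP (LK LD1_c5 LD2_c42 LD3_c2))
theorem f737973 : Led Lsl_gt (LP (LK LD1_c5 LD2_c42 LD3_c2)) = v15553 :=
  Lrfl
theorem f289337 : Led Lsl_et (LP (LK LD1_c11 LD2_c14 LD3_c25)) = (LP (LK LD1_c11 LD2_c6 LD3_c24)) :=
  Lgr Lrot87 (Lpr_ef (K52.f289333 IH) (Lpn (LP (LK LD1_c11 LD2_c6 LD3_c24))))
theorem f164823 : Led Lsl_ct (LP (LK LD1_c11 LD2_c6 LD3_c24)) = (LP (LK LD1_c19 LD2_c59 LD3_c51)) :=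
  Lre_c IH (LK LD1_c11 LD2_c6 LD3_c24) (LK LD1_c19 LD2_c59 LD3_c51) Lrfl Lrfl
theorem f289341 : Led Lsl_ef (LP (LK LD1_c20 LD2_c9 LD3_c24)) = (LP (LK LD1_c19 LD2_c59 LD3_c51)) :=
  Lgr Lrot28 (Lpr_ct (K53.f289254 IH) (Lpr_et (f289337 IH) (Lpr_ct (f164823 IH) (Lpn (LP (LK LD1_c19 LD2_c59 LD3_c51))))))
theorem f289345 : Led Lsl_ft (LP (LK LD1_c20 LD2_c9 LD3_c24)) = (LP (LK LD1_c11 LD2_c14 LD3_c23)) :=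
  Lre_f IH (LK LD1_c20 LD2_c9 LD3_c24) (LK LD1_c11 LD2_c14 LD3_c23) Lrfl Lrfl
theorem f289346 : Led Lsl_et (LP (LK LD1_c11 LD2_c14 LD3_c23)) = (LP (LK LD1_c5 LD2_c42 LD3_c2)) :=
  Lre_e IH (LK LD1_c11 LD2_c14 LD3_c23) (LK LD1_c5 LD2_c42 LD3_c2) Lrfl Lrfl
theorem f180454 : Led Lsl_ft (LP (LK LD1_c11 LD2_c6 LD3_c21)) = (LP (LK LD1_c19 LD2_c59 LD3_c51)) :=
  Lre_f IH (LK LD1_c11 LD2_c6 LD3_c21) (LK LD1_c19 LD2_c59 LD3_c51) Lrfl Lrfl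
theorem f180440 : Led Lsl_et (LP (LK LD1_c5 LD2_c37 LD3_c14)) = (LP (LK LD1_c11 LD2_c6 LD3_c21)) :=
  Lre_e IH (LK LD1_c5 LD2_c37 LD3_c14) (LK LD1_c11 LD2_c6 LD3_c21) Lrfl Lrfl
theorem f289347 : Led Lsl_ft (LP (LK LD1_c5 LD2_c42 LD3_c2)) = (LP (LK LD1_c5 LD2_c37 LD3_c14)) :=
  Lgr Lrot86 (Lpe (f289346 IH) (Lpe (f289345 IH) (Lpr_ef (f289341 IH) (Lpe (f180454 IH) (Lpe (f180440 IH) (Lpn (LP (LK LD1_c5 LD2_c37 LD3_c14))))))))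
theorem f177740 : Led Lsl_ct (LP (LK LD1_c2 LD2_c44 LD3_c33)) = (LP (LK LD1_c5 LD2_c37 LD3_c14)) :=
  Lre_c IH (LK LD1_c2 LD2_c44 LD3_c33) (LK LD1_c5 LD2_c37 LD3_c14) Lrfl Lrfl
theorem f180394 : Led Lsl_bt (LP (LK LD1_c5 LD2_c37 LD3_c14)) = (LP (LK LD1_c10 LD2_c48 LD3_c28)) :=
  Lgr Lrot128 (Lpe (f177740 IH) (Lpe (K37.f180393 IH) (Lpr_cf (K20.f180284 IH) (Lpe (K31.f173025 IH) (Lpe (K31.f173008 IH) (Lpn (LP (LK LD1_c10 LD2_c48 LD3_c28))))))))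
theorem f289349 : Led Lsl_bf (LP (LK LD1_c5 LD2_c42 LD3_c2)) = (LP (LK LD1_c10 LD2_c58 LD3_c31)) :=
  Lgr Lrot61 (Lpr_ft (f289347 IH) (Lpr_bt (f180394 IH) (Lpe (K30.f277281 IH) (Lpn (LP (LK LD1_c10 LD2_c58 LD3_c31))))))
theorem f226157 : Led Lsl_bt (LP (LK LD1_c5 LD2_c34 LD3_c16)) = (LP (LK LD1_c11 LD2_c0 LD3_c45)) :=
  Lre_b IH (LK LD1_c5 LD2_c34 LD3_c16) (LK LD1_c11 LD2_c0 LD3_c45) Lrfl Lrfl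
def v15375 : LQ := Led Lsl_gt (LP (LK LD1_c5 LD2_c38 LD3_c0))
theorem f735993 : Led Lsl_gt (LP (LK LD1_c5 LD2_c38 LD3_c0)) = v15375 :=
  Lrfl
theorem f427530 : Led Lsl_ef (LP (LK LD1_c5 LD2_c37 LD3_c26)) = (LP (LK LD1_c4 LD2_c7 LD3_c8)) :=
  Lgr Lrot29 (Lpr_bt (K38.f165162 IH) (Lpr_et (K36.f427526 IH) (Lpr_bt (K43.f427529 IH) (Lpn (LP (LK LD1_c4 LD2_c7 LD3_c8))))))
def v12354 : LQ := Led Lsl_dt (LP (LK LD1_c4 LD2_c7 LD3_c8))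
theorem f691683 : Led Lsl_dt (LP (LK LD1_c4 LD2_c7 LD3_c8)) = v12354 :=
  Lrfl
theorem f691688 : Led Lsl_gt (LP (LK LD1_c10 LD2_c5 LD3_c23)) = v12354 :=
  Lgr Lrot139 (Lpe (K44.f581484 IH) (Lpr_gf (K44.f581563 IH) (Lpr_ef (K36.f421273 IH) (Lpr_dt (K6.f137999 IH) (Lpr_gf (K8.f138817 IH) (Lpe (K5.f66270 IH) (Lpr_et (K38.f496029 IH) (Lpr_gf (K40.f552527 IH) (Lpr_ef (f427530 IH) (Lpr_dt (f691683 IH) (Lpn v12354)))))))))))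
theorem f587148 : Led Lsl_ef (LP (LK LD1_c10 LD2_c18 LD3_c11)) = (LP (LK LD1_c8 LD2_c44 LD3_c21)) :=
  Lgr Lrot88 (Lpr_et (K45.f587118 IH) (Lpn (LP (LK LD1_c8 LD2_c44 LD3_c21))))
theorem f735998 : Led Lsl_dt (LP (LK LD1_c8 LD2_c44 LD3_c21)) = v15375 :=
  Lgr Lrot56 (Lpe (f587148 IH) (Lpe (K44.f581490 IH) (Lpe (K44.f581485 IH) (Lpr_dt (K44.f581484 IH) (Lpr_gt (f691688 IH) (Lpe (f691683 IH) (Lpe (f427530 IH) (Lpe (K40.f552527 IH) (Lpqs (K39.f547765 IH) (Lpr_dt (K39.f547773 IH) (Lpr_gt (f735993 IH) (Lpn v15375))))))))))))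
theorem f737976 : Led Lsl_cf v15375 = v15553 :=
  Lgr Lrot99 (Lpe (f735998 IH) (Lpe (K45.f582531 IH) (Lpe (K44.f582524 IH) (Lpe (K42.f172430 IH) (Lpr_gf (K37.f494162 IH) (Lpq (K37.f542289 IH) (Lpe (K42.f181722 IH) (Lpe (K51.f542295 IH) (Lpr_ct (K39.f226023 IH) (Lpr_gt (f737973 IH) (Lpn v15553)))))))))))
theorem f735995 : Led Lsl_gf (LP (LK LD1_c9 LD2_c45 LD3_c15)) = v15375 :=
  Lgr Lrot76 (Lpe (K39.f557202 IH) (Lpr_ff (K39.f557217 IH) (Lpr_gt (f735993 IH) (Lpn v15375))))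
theorem f566567 : Led Lsl_bt (LP (LK LD1_c9 LD2_c3 LD3_c9)) = (LP (LK LD1_c16 LD2_c53 LD3_c52)) :=
  Lre_b IH (LK LD1_c9 LD2_c3 LD3_c9) (LK LD1_c16 LD2_c53 LD3_c52) Lrfl Lrfl
theorem f737977 : Led Lsl_gf (LP (LK LD1_c11 LD2_c0 LD3_c45)) = (LP (LK LD1_c16 LD2_c53 LD3_c52)) :=
  Lgr Lrot124 (Lpe (f226157 IH) (Lpr_ct (K30.f226150 IH) (Lpr_gt (K14.f226029 IH) (Lpe (K30.f213415 IH) (Lpe (f289349 IH) (Lpr_gt (f737973 IH) (Lpe (f737976 IH) (Lpe (f735995 IH) (Lpr_cf (K41.f566557 IH) (Lpr_bt (f566567 IH) (Lpn (LP (LK LD1_c16 LD2_c53 LD3_c52)))))))))))))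
theorem f737978 : Led Lsl_gt (LP (LK LD1_c16 LD2_c53 LD3_c52)) = (LP (LK LD1_c11 LD2_c0 LD3_c45)) :=
  Leop (Lpr_gf (f737977 IH) (Lpn (LP (LK LD1_c16 LD2_c53 LD3_c52))))
theorem seed_911 : LEOK LG_g (LK LD1_c16 LD2_c53 LD3_c52) :=
  Leoe_g (LK LD1_c16 LD2_c53 LD3_c52) (f737978 IH)
def v15554 : LQ := Led Lsl_dt (LP (LK LD1_c5 LD2_c42 LD3_c2))
theorem f737983 : Led Lsl_dt (LP (LK LD1_c5 LD2_c42 LD3_c2)) = v15554 :=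
  Lrfl
theorem f381377 : Led Lsl_ct (LP (LK LD1_c9 LD2_c45 LD3_c16)) = (LP (LK LD1_c4 LD2_c57 LD3_c5)) :=
  Lre_c IH (LK LD1_c9 LD2_c45 LD3_c16) (LK LD1_c4 LD2_c57 LD3_c5) Lrfl Lrfl
theorem f423646 : Led Lsl_dt (LP (LK LD1_c9 LD2_c3 LD3_c55)) = (LP (LK LD1_c4 LD2_c33 LD3_c15)) :=
  Lre_d IH (LK LD1_c9 LD2_c3 LD3_c55) (LK LD1_c4 LD2_c33 LD3_c15) Lrfl Lrfl
theorem f737987 : Led Lsl_gf (LP (LK LD1_c9 LD2_c3 LD3_c55)) = v15554 :=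
  Lgr Lrot143 (Lpr_dt (f423646 IH) (Lpe (K39.f381549 IH) (Lpr_df (K42.f557738 IH) (Lpe (K39.f547772 IH) (Lpe (K39.f547774 IH) (Lpe (K39.f557316 IH) (Lpe (f381377 IH) (Lpr_gt (K39.f381410 IH) (Lpr_dt (f737983 IH) (Lpn v15554))))))))))
theorem f596611 : Led Lsl_at (LP (LK LD1_c2 LD2_c26 LD3_c38)) = (LP (LK LD1_c4 LD2_c57 LD3_c26)) :=
  Lgr Lrot51 (Lpe (K39.f383258 IH) (Lpr_af (K50.f596605 IH) (Lpr_df (K38.f384140 IH) (Lpn (LP (LK LD1_c4 LD2_c57 LD3_c26))))))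
theorem f383305 : Led Lsl_et (LP (LK LD1_c4 LD2_c57 LD3_c32)) = (LP (LK LD1_c2 LD2_c26 LD3_c38)) :=
  Lre_e IH (LK LD1_c4 LD2_c57 LD3_c32) (LK LD1_c2 LD2_c26 LD3_c38) Lrfl Lrfl
theorem f384149 : Led Lsl_et (LP (LK LD1_c4 LD2_c57 LD3_c26)) = (LP (LK LD1_c9 LD2_c45 LD3_c46)) :=
  Lre_e IH (LK LD1_c4 LD2_c57 LD3_c26) (LK LD1_c9 LD2_c45 LD3_c46) Lrfl Lrfl
theorem f598825 : Led Lsl_af (LP (LK LD1_c4 LD2_c57 LD3_c32)) = (LP (LK LD1_c9 LD2_c45 LD3_c46)) :=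
  Lgr Lrot50 (Lpr_et (f383305 IH) (Lpr_at (f596611 IH) (Lpr_et (f384149 IH) (Lpn (LP (LK LD1_c9 LD2_c45 LD3_c46))))))
theorem f598827 : Led Lsl_at (LP (LK LD1_c4 LD2_c57 LD3_c32)) = (LP (LK LD1_c9 LD2_c45 LD3_c46)) :=
  Lgr Lrot100 (Lpr_af (f598825 IH) (Lpn (LP (LK LD1_c9 LD2_c45 LD3_c46))))
theorem f422820 : Led Lsl_bt (LP (LK LD1_c9 LD2_c45 LD3_c52)) = (LP (LK LD1_c4 LD2_c57 LD3_c32)) :=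
  Lre_b IH (LK LD1_c9 LD2_c45 LD3_c52) (LK LD1_c4 LD2_c57 LD3_c32) Lrfl Lrfl
theorem f112537 : Led Lsl_et (LP (LK LD1_c12 LD2_c8 LD3_c55)) = (LP (LK LD1_c6 LD2_c15 LD3_c27)) :=
  Lre_e IH (LK LD1_c12 LD2_c8 LD3_c55) (LK LD1_c6 LD2_c15 LD3_c27) Lrfl Lrfl
theorem f559744 : Led Lsl_bf (LP (LK LD1_c12 LD2_c8 LD3_c55)) = (LP (LK LD1_c9 LD2_c45 LD3_c46)) :=
  Lgr Lrot96 (Lpr_et (f112537 IH) (Lpr_bt (K40.f559738 IH) (Lpr_et (f384149 IH) (Lpn (LP (LK LD1_c9 LD2_c45 LD3_c46))))))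
theorem f569242 : Led Lsl_et (LP (LK LD1_c6 LD2_c13 LD3_c26)) = (LP (LK LD1_c12 LD2_c5 LD3_c41)) :=
  Lre_e IH (LK LD1_c6 LD2_c13 LD3_c26) (LK LD1_c12 LD2_c5 LD3_c41) Lrfl Lrfl
theorem f100541 : Led Lsl_dt (LP (LK LD1_c12 LD2_c5 LD3_c41)) = (LP (LK LD1_c21 LD2_c11 LD3_c24)) :=
  Lre_d IH (LK LD1_c12 LD2_c5 LD3_c41) (LK LD1_c21 LD2_c11 LD3_c24) Lrfl Lrfl
theorem f569262 : Led Lsl_ef (LP (LK LD1_c12 LD2_c8 LD3_c51)) = (LP (LK LD1_c21 LD2_c11 LD3_c24)) :=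
  Lgr Lrot73 (Lpr_dt (K39.f60812 IH) (Lpr_et (K42.f569256 IH) (Lpe (K42.f569239 IH) (Lpr_et (f569242 IH) (Lpr_dt (f100541 IH) (Lpn (LP (LK LD1_c21 LD2_c11 LD3_c24))))))))
theorem f73858 : Led Lsl_et (LP (LK LD1_c6 LD2_c15 LD3_c27)) = (LP (LK LD1_c12 LD2_c8 LD3_c55)) :=
  Lre_e IH (LK LD1_c6 LD2_c15 LD3_c27) (LK LD1_c12 LD2_c8 LD3_c55) Lrfl Lrfl
theorem f596523 : Led Lsl_af (LP (LK LD1_c21 LD2_c11 LD3_c24)) = (LP (LK LD1_c12 LD2_c8 LD3_c55)) :=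
  Lgr Lrot50 (Lpe (f569262 IH) (Lpr_at (K50.f596517 IH) (Lpr_et (f73858 IH) (Lpn (LP (LK LD1_c12 LD2_c8 LD3_c55))))))
theorem f556160 : Led Lsl_et (LP (LK LD1_c9 LD2_c3 LD3_c54)) = (LP (LK LD1_c16 LD2_c55 LD3_c10)) :=
  Lre_e IH (LK LD1_c9 LD2_c3 LD3_c54) (LK LD1_c16 LD2_c55 LD3_c10) Lrfl Lrfl
theorem f569264 : Led Lsl_bt (LP (LK LD1_c16 LD2_c55 LD3_c10)) = (LP (LK LD1_c21 LD2_c11 LD3_c24)) :=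
  Lgr Lrot119 (Lpe (f556160 IH) (Lpe (K39.f556155 IH) (Lpr_ef (f569262 IH) (Lpn (LP (LK LD1_c21 LD2_c11 LD3_c24))))))
theorem f569266 : Led Lsl_bf (LP (LK LD1_c16 LD2_c55 LD3_c10)) = (LP (LK LD1_c21 LD2_c11 LD3_c24)) :=
  Lgr Lrot24 (Lpr_bt (f569264 IH) (Lpn (LP (LK LD1_c21 LD2_c11 LD3_c24))))
theorem f598829 : Led Lsl_af (LP (LK LD1_c9 LD2_c45 LD3_c52)) = (LP (LK LD1_c16 LD2_c55 LD3_c10)) :=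
  Lgr Lrot36 (Lpr_bt (f422820 IH) (Lpr_at (f598827 IH) (Lpe (f559744 IH) (Lpe (f596523 IH) (Lpe (f569266 IH) (Lpn (LP (LK LD1_c16 LD2_c55 LD3_c10))))))))
theorem f172390 : Led Lsl_et (LP (LK LD1_c9 LD2_c45 LD3_c52)) = (LP (LK LD1_c4 LD2_c57 LD3_c30)) :=
  Lre_e IH (LK LD1_c9 LD2_c45 LD3_c52) (LK LD1_c4 LD2_c57 LD3_c30) Lrfl Lrfl
theorem f172391 : Led Lsl_et (LP (LK LD1_c9 LD2_c3 LD3_c31)) = (LP (LK LD1_c16 LD2_c54 LD3_c29)) :=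
  Lre_e IH (LK LD1_c9 LD2_c3 LD3_c31) (LK LD1_c16 LD2_c54 LD3_c29) Lrfl Lrfl
theorem f172392 : Led Lsl_cf (LP (LK LD1_c9 LD2_c45 LD3_c52)) = (LP (LK LD1_c16 LD2_c54 LD3_c29)) :=
  Lgr Lrot39 (Lpr_et (f172390 IH) (Lpr_ct (K9.f172379 IH) (Lpr_et (f172391 IH) (Lpn (LP (LK LD1_c16 LD2_c54 LD3_c29))))))
theorem f422821 : Led Lsl_ct (LP (LK LD1_c9 LD2_c45 LD3_c52)) = (LP (LK LD1_c16 LD2_c54 LD3_c29)) :=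
  Lgr Lrot59 (Lpr_cf (f172392 IH) (Lpn (LP (LK LD1_c16 LD2_c54 LD3_c29))))
theorem f569268 : Led Lsl_ct (LP (LK LD1_c9 LD2_c3 LD3_c56)) = (LP (LK LD1_c16 LD2_c55 LD3_c10)) :=
  Lre_c IH (LK LD1_c9 LD2_c3 LD3_c56) (LK LD1_c16 LD2_c55 LD3_c10) Lrfl Lrfl
theorem f598833 : Led Lsl_at (LP (LK LD1_c16 LD2_c54 LD3_c29)) = (LP (LK LD1_c9 LD2_c3 LD3_c56)) :=
  Lgr Lrot107 (Lpe (f422821 IH) (Lpr_af (f598829 IH) (Lpe (f569268 IH) (Lpn (LP (LK LD1_c9 LD2_c3 LD3_c56))))))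
theorem f598840 : Led Lsl_et (LP (LK LD1_c9 LD2_c3 LD3_c56)) = (LP (LK LD1_c4 LD2_c33 LD3_c15)) :=
  Lre_e IH (LK LD1_c9 LD2_c3 LD3_c56) (LK LD1_c4 LD2_c33 LD3_c15) Lrfl Lrfl
theorem f598841 : Led Lsl_af (LP (LK LD1_c9 LD2_c3 LD3_c31)) = (LP (LK LD1_c4 LD2_c33 LD3_c15)) :=
  Lgr Lrot50 (Lpr_et (f172391 IH) (Lpr_at (f598833 IH) (Lpr_et (f598840 IH) (Lpn (LP (LK LD1_c4 LD2_c33 LD3_c15))))))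
theorem f172389 : Led Lsl_dt (LP (LK LD1_c9 LD2_c3 LD3_c31)) = (LP (LK LD1_c16 LD2_c54 LD3_c28)) :=
  Lre_d IH (LK LD1_c9 LD2_c3 LD3_c31) (LK LD1_c16 LD2_c54 LD3_c28) Lrfl Lrfl
theorem f598847 : Led Lsl_at (LP (LK LD1_c16 LD2_c54 LD3_c28)) = (LP (LK LD1_c9 LD2_c3 LD3_c55)) :=
  Lgr Lrot51 (Lpe (f172389 IH) (Lpr_af (f598841 IH) (Lpe (f423646 IH) (Lpn (LP (LK LD1_c9 LD2_c3 LD3_c55))))))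
theorem f596569 : Led Lsl_ft (LP (LK LD1_c9 LD2_c3 LD3_c31)) = (LP (LK LD1_c4 LD2_c33 LD3_c16)) :=
  Lgr Lrot4 (Lpe (K9.f172379 IH) (Lpr_ff (K50.f596563 IH) (Lpe (K38.f174653 IH) (Lpn (LP (LK LD1_c4 LD2_c33 LD3_c16))))))
theorem f172395 : Led Lsl_dt (LP (LK LD1_c16 LD2_c54 LD3_c28)) = (LP (LK LD1_c9 LD2_c3 LD3_c31)) :=
  Lre_d IH (LK LD1_c16 LD2_c54 LD3_c28) (LK LD1_c9 LD2_c3 LD3_c31) Lrfl Lrfl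
theorem f318950 : Led Lsl_dt (LP (LK LD1_c4 LD2_c33 LD3_c16)) = (LP (LK LD1_c9 LD2_c3 LD3_c59)) :=
  Lre_d IH (LK LD1_c4 LD2_c33 LD3_c16) (LK LD1_c9 LD2_c3 LD3_c59) Lrfl Lrfl
theorem f596573 : Led Lsl_ff (LP (LK LD1_c16 LD2_c54 LD3_c28)) = (LP (LK LD1_c9 LD2_c3 LD3_c59)) :=
  Lgr Lrot19 (Lpr_dt (f172395 IH) (Lpr_ft (f596569 IH) (Lpr_dt (f318950 IH) (Lpn (LP (LK LD1_c9 LD2_c3 LD3_c59))))))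
theorem f737988 : Led Lsl_gt (LP (LK LD1_c9 LD2_c3 LD3_c59)) = v15554 :=
  Lgr Lrot5 (Lpe (f596573 IH) (Lpr_at (f598847 IH) (Lpr_gf (f737987 IH) (Lpn v15554))))
theorem f737989 : Led Lsl_et (LP (LK LD1_c16 LD2_c53 LD3_c37)) = (LP (LK LD1_c9 LD2_c2 LD3_c58)) :=
  Lre_e IH (LK LD1_c16 LD2_c53 LD3_c37) (LK LD1_c9 LD2_c2 LD3_c58) Lrfl Lrfl
theorem f546371 : Led Lsl_dt (LP (LK LD1_c16 LD2_c53 LD3_c37)) = (LP (LK LD1_c26 LD2_c50 LD3_c4)) :=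
  Lre_d IH (LK LD1_c16 LD2_c53 LD3_c37) (LK LD1_c26 LD2_c50 LD3_c4) Lrfl Lrfl
theorem f546376 : Led Lsl_gt (LP (LK LD1_c32 LD2_c16 LD3_c36)) = (LP (LK LD1_c26 LD2_c50 LD3_c4)) :=
  Lre_g IH (LK LD1_c32 LD2_c16 LD3_c36) (LK LD1_c26 LD2_c50 LD3_c4) Lrfl Lrfl
theorem f289355 : Led Lsl_et (LP (LK LD1_c5 LD2_c42 LD3_c2)) = (LP (LK LD1_c11 LD2_c14 LD3_c23)) :=
  Lre_e IH (LK LD1_c5 LD2_c42 LD3_c2) (LK LD1_c11 LD2_c14 LD3_c23) Lrfl Lrfl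
theorem f618077 : Led Lsl_gt (LP (LK LD1_c11 LD2_c14 LD3_c23)) = (LP (LK LD1_c20 LD2_c9 LD3_c22)) :=
  Lre_g IH (LK LD1_c11 LD2_c14 LD3_c23) (LK LD1_c20 LD2_c9 LD3_c22) Lrfl Lrfl
theorem f618080 : Led Lsl_et (LP (LK LD1_c29 LD2_c19 LD3_c35)) = (LP (LK LD1_c20 LD2_c9 LD3_c22)) :=
  Lre_e IH (LK LD1_c29 LD2_c19 LD3_c35) (LK LD1_c20 LD2_c9 LD3_c22) Lrfl Lrfl
theorem f737990 : Led Lsl_df (LP (LK LD1_c32 LD2_c16 LD3_c36)) = (LP (LK LD1_c29 LD2_c19 LD3_c35)) :=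
  Lgr Lrot170 (Lpr_gt (f546376 IH) (Lpe (f546371 IH) (Lpr_et (f737989 IH) (Lpr_gt (K9.f174659 IH) (Lpr_dt (f318950 IH) (Lpr_gt (f737988 IH) (Lpe (f737983 IH) (Lpr_et (f289355 IH) (Lpr_gt (f618077 IH) (Lpe (f618080 IH) (Lpn (LP (LK LD1_c29 LD2_c19 LD3_c35)))))))))))))
theorem f737991 : Led Lsl_dt (LP (LK LD1_c29 LD2_c19 LD3_c35)) = (LP (LK LD1_c32 LD2_c16 LD3_c36)) :=
  Leop (Lpr_df (f737990 IH) (Lpn (LP (LK LD1_c29 LD2_c19 LD3_c35))))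
theorem seed_912 : LEOK LG_d (LK LD1_c29 LD2_c19 LD3_c35) :=
  Leoe_d (LK LD1_c29 LD2_c19 LD3_c35) (f737991 IH)
def v15571 : LQ := Led Lsl_ct (LP (LK LD1_c5 LD2_c42 LD3_c16))
theorem f738092 : Led Lsl_ct (LP (LK LD1_c5 LD2_c42 LD3_c16)) = v15571 :=
  Lrfl
theorem f186211 : Led Lsl_gt (LP (LK LD1_c2 LD2_c13 LD3_c48)) = (LP (LK LD1_c4 LD2_c33 LD3_c53)) :=
  Lre_g IH (LK LD1_c2 LD2_c13 LD3_c48) (LK LD1_c4 LD2_c33 LD3_c53) Lrfl Lrfl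
def v15270 : LQ := Led Lsl_gt (LP (LK LD1_c5 LD2_c34 LD3_c46))
theorem f733231 : Led Lsl_gt (LP (LK LD1_c5 LD2_c34 LD3_c46)) = v15270 :=
  Lrfl
theorem f738095 : Led Lsl_dt v15270 = v15571 :=
  Lgr Lrot113 (Lpe (f733231 IH) (Lpe (K53.f638520 IH) (Lpe (K53.f174228 IH) (Lpr_ct (K36.f68830 IH) (Lpr_gt (f186211 IH) (Lpr_dt (K53.f408218 IH) (Lpr_gt (K53.f68684 IH) (Lpr_dt (K50.f68675 IH) (Lpr_ct (f738092 IH) (Lpn v15571))))))))))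
theorem f738099 : Led Lsl_df v15270 = v15571 :=
  Lgr Lrot38 (Lpr_dt (f738095 IH) (Lpn v15571))
theorem f174227 : Led Lsl_et (LP (LK LD1_c0 LD2_c35 LD3_c61)) = (LP (LK LD1_c1 LD2_c18 LD3_c5)) :=
  Lre_e IH (LK LD1_c0 LD2_c35 LD3_c61) (LK LD1_c1 LD2_c18 LD3_c5) Lrfl Lrfl
theorem f380512 : Led Lsl_et (LP (LK LD1_c1 LD2_c17 LD3_c58)) = (LP (LK LD1_c2 LD2_c42 LD3_c57)) :=
  Lre_e IH (LK LD1_c1 LD2_c17 LD3_c58) (LK LD1_c2 LD2_c42 LD3_c57) Lrfl Lrfl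
def v4697 : LQ := Led Lsl_gf (LP (LK LD1_c2 LD2_c42 LD3_c57))
theorem f638519 : Led Lsl_gf (LP (LK LD1_c2 LD2_c42 LD3_c57)) = v4697 :=
  Lrfl
def v4774 : LQ := Led Lsl_ct (LP (LK LD1_c2 LD2_c47 LD3_c5))
theorem f638922 : Led Lsl_ct (LP (LK LD1_c2 LD2_c47 LD3_c5)) = v4774 :=
  Lrfl
theorem f638924 : Led Lsl_cf (LP (LK LD1_c2 LD2_c47 LD3_c5)) = v4774 :=
  Lgr Lrot11 (Lpr_ct (f638922 IH) (Lpn v4774))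
theorem f738094 : Led Lsl_ef v4774 = v15571 :=
  Lgr Lrot28 (Lpe (f638924 IH) (Lpr_et (K50.f68689 IH) (Lpr_ct (f738092 IH) (Lpn v15571))))
theorem f738100 : v4697 = v4774 :=
  (Llr Lrot141 (Lpe (f638519 IH) (Lpe (f380512 IH) (Lpr_dt (K9.f174154 IH) (Lpr_gt (K9.f171863 IH) (Lpe (K9.f172325 IH) (Lpr_et (f174227 IH) (Lpr_gt (K53.f174228 IH) (Lpr_dt (K53.f638520 IH) (Lpr_gt (f733231 IH) (Lpr_df (f738099 IH) (Lpe (f738094 IH) (Lpn v4774))))))))))))).symm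
theorem f281815 : Led Lsl_at (LP (LK LD1_c2 LD2_c46 LD3_c58)) = (LP (LK LD1_c5 LD2_c41 LD3_c34)) :=
  Lre_a IH (LK LD1_c2 LD2_c46 LD3_c58) (LK LD1_c5 LD2_c41 LD3_c34) Lrfl Lrfl
theorem f174282 : Led Lsl_bt (LP (LK LD1_c1 LD2_c19 LD3_c56)) = (LP (LK LD1_c2 LD2_c46 LD3_c58)) :=
  Lre_b IH (LK LD1_c1 LD2_c19 LD3_c56) (LK LD1_c2 LD2_c46 LD3_c58) Lrfl Lrfl
theorem f281817 : Led Lsl_bt (LP (LK LD1_c4 LD2_c32 LD3_c15)) = (LP (LK LD1_c2 LD2_c13 LD3_c12)) :=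
  Lre_b IH (LK LD1_c4 LD2_c32 LD3_c15) (LK LD1_c2 LD2_c13 LD3_c12) Lrfl Lrfl
theorem f281818 : Led Lsl_af (LP (LK LD1_c1 LD2_c19 LD3_c56)) = (LP (LK LD1_c2 LD2_c13 LD3_c12)) :=
  Lgr Lrot36 (Lpr_bt (f174282 IH) (Lpr_at (f281815 IH) (Lpr_bt (K16.f281813 IH) (Lpr_at (K41.f281816 IH) (Lpr_bt (f281817 IH) (Lpn (LP (LK LD1_c2 LD2_c13 LD3_c12))))))))
theorem f281892 : Led Lsl_ft (LP (LK LD1_c4 LD2_c32 LD3_c20)) = (LP (LK LD1_c2 LD2_c13 LD3_c12)) :=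
  Lre_f IH (LK LD1_c4 LD2_c32 LD3_c20) (LK LD1_c2 LD2_c13 LD3_c12) Lrfl Lrfl
theorem f281904 : Led Lsl_gf (LP (LK LD1_c2 LD2_c47 LD3_c5)) = (LP (LK LD1_c4 LD2_c32 LD3_c20)) :=
  Lgr Lrot47 (Lpr_gt (K50.f68618 IH) (Lpr_af (f281818 IH) (Lpe (f281892 IH) (Lpn (LP (LK LD1_c4 LD2_c32 LD3_c20))))))
theorem f380477 : Led Lsl_et (LP (LK LD1_c2 LD2_c46 LD3_c12)) = (LP (LK LD1_c5 LD2_c40 LD3_c32)) :=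
  Lre_e IH (LK LD1_c2 LD2_c46 LD3_c12) (LK LD1_c5 LD2_c40 LD3_c32) Lrfl Lrfl
theorem f319842 : Led Lsl_et (LP (LK LD1_c10 LD2_c59 LD3_c21)) = (LP (LK LD1_c5 LD2_c33 LD3_c40)) :=
  Lre_e IH (LK LD1_c10 LD2_c59 LD3_c21) (LK LD1_c5 LD2_c33 LD3_c40) Lrfl Lrfl
theorem f380478 : Led Lsl_bt (LP (LK LD1_c5 LD2_c40 LD3_c32)) = (LP (LK LD1_c10 LD2_c59 LD3_c21)) :=
  Lgr Lrot119 (Lpe (f380477 IH) (Lpr_bf (K40.f380191 IH) (Lpe (f319842 IH) (Lpn (LP (LK LD1_c10 LD2_c59 LD3_c21))))))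
theorem f380485 : Led Lsl_ct (LP (LK LD1_c2 LD2_c46 LD3_c13)) = (LP (LK LD1_c5 LD2_c40 LD3_c32)) :=
  Lre_c IH (LK LD1_c2 LD2_c46 LD3_c13) (LK LD1_c5 LD2_c40 LD3_c32) Lrfl Lrfl
theorem f380487 : Led Lsl_ct (LP (LK LD1_c10 LD2_c59 LD3_c21)) = (LP (LK LD1_c5 LD2_c33 LD3_c41)) :=
  Lre_c IH (LK LD1_c10 LD2_c59 LD3_c21) (LK LD1_c5 LD2_c33 LD3_c41) Lrfl Lrfl
theorem f380488 : Led Lsl_bt (LP (LK LD1_c5 LD2_c33 LD3_c41)) = (LP (LK LD1_c2 LD2_c42 LD3_c57)) :=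
  Lre_b IH (LK LD1_c5 LD2_c33 LD3_c41) (LK LD1_c2 LD2_c42 LD3_c57) Lrfl Lrfl
theorem f380489 : Led Lsl_cf (LP (LK LD1_c1 LD2_c19 LD3_c31)) = (LP (LK LD1_c2 LD2_c42 LD3_c57)) :=
  Lgr Lrot97 (Lpr_bt (K50.f380486 IH) (Lpr_ct (f380485 IH) (Lpr_bt (f380478 IH) (Lpr_ct (f380487 IH) (Lpr_bt (f380488 IH) (Lpn (LP (LK LD1_c2 LD2_c42 LD3_c57))))))))
theorem f172288 : Led Lsl_dt (LP (LK LD1_c2 LD2_c46 LD3_c20)) = (LP (LK LD1_c1 LD2_c19 LD3_c31)) :=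
  Lre_d IH (LK LD1_c2 LD2_c46 LD3_c20) (LK LD1_c1 LD2_c19 LD3_c31) Lrfl Lrfl
theorem f380514 : Led Lsl_gt (LP (LK LD1_c11 LD2_c12 LD3_c18)) = (LP (LK LD1_c5 LD2_c40 LD3_c52)) :=
  Lre_g IH (LK LD1_c11 LD2_c12 LD3_c18) (LK LD1_c5 LD2_c40 LD3_c52) Lrfl Lrfl
theorem f738102 : Led Lsl_ct (LP (LK LD1_c5 LD2_c42 LD3_c18)) = (LP (LK LD1_c11 LD2_c12 LD3_c18)) :=
  Lgr Lrot152 (Lpe (K32.f412316 IH) (Lpe (K16.f281870 IH) (Lpe (f281904 IH) (Lpr_ct (f638922 IH) (Lpq (f738100 IH) (Lpe (f638519 IH) (Lpe (f380489 IH) (Lpe (f172288 IH) (Lpe (K52.f380513 IH) (Lpe (f380514 IH) (Lpn (LP (LK LD1_c11 LD2_c12 LD3_c18)))))))))))))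
theorem f738103 : Led Lsl_ct (LP (LK LD1_c5 LD2_c42 LD3_c18)) = (LP (LK LD1_c11 LD2_c12 LD3_c18)) :=
  Leop (Lpe (f738102 IH) (Lpn (LP (LK LD1_c5 LD2_c42 LD3_c18))))
theorem seed_913 : LEOK LG_c (LK LD1_c5 LD2_c42 LD3_c18) :=
  Leoe_c (LK LD1_c5 LD2_c42 LD3_c18) (f738103 IH)
def v15593 : LQ := Led Lsl_ct (LP (LK LD1_c5 LD2_c43 LD3_c4))
theorem f738185 : Led Lsl_ct (LP (LK LD1_c5 LD2_c43 LD3_c4)) = v15593 :=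
  Lrfl
theorem f174239 : Led Lsl_gt (LP (LK LD1_c5 LD2_c43 LD3_c4)) = (LP (LK LD1_c2 LD2_c47 LD3_c31)) :=
  Lre_g IH (LK LD1_c5 LD2_c43 LD3_c4) (LK LD1_c2 LD2_c47 LD3_c31) Lrfl Lrfl
theorem f268753 : Led Lsl_gf (LP (LK LD1_c5 LD2_c43 LD3_c4)) = (LP (LK LD1_c9 LD2_c2 LD3_c56)) :=
  Lgr Lrot47 (Lpr_gt (f174239 IH) (Lpr_af (K16.f268736 IH) (Lpe (K16.f268750 IH) (Lpn (LP (LK LD1_c9 LD2_c2 LD3_c56))))))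
def v4769 : LQ := Led Lsl_ct (LP (LK LD1_c2 LD2_c46 LD3_c38))
theorem f638898 : Led Lsl_ct (LP (LK LD1_c2 LD2_c46 LD3_c38)) = v4769 :=
  Lrfl
theorem f638900 : Led Lsl_cf (LP (LK LD1_c2 LD2_c46 LD3_c38)) = v4769 :=
  Lgr Lrot11 (Lpr_ct (f638898 IH) (Lpn v4769))
theorem f738187 : Led Lsl_gf v4769 = v15593 :=
  Lgr Lrot104 (Lpe (f638900 IH) (Lpe (f225431 IH) (Lpe (K40.f225725 IH) (Lpe (K52.f225741 IH) (Lpq (K52.f714314 IH) (Lpe (K52.f638934 IH) (Lpe (K51.f281274 IH) (Lpe (K16.f268756 IH) (Lpe (f268753 IH) (Lpr_ct (f738185 IH) (Lpn v15593)))))))))))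
theorem f225441 : Led Lsl_et (LP (LK LD1_c1 LD2_c19 LD3_c45)) = (LP (LK LD1_c2 LD2_c46 LD3_c38)) :=
  Lre_e IH (LK LD1_c1 LD2_c19 LD3_c45) (LK LD1_c2 LD2_c46 LD3_c38) Lrfl Lrfl
theorem f495809 : Led Lsl_cf (LP (LK LD1_c1 LD2_c19 LD3_c45)) = K40.v1485 :=
  Lgr Lrot11 (Lpr_ct (K40.f495808 IH) (Lpn K40.v1485))
theorem f638901 : Led Lsl_ef K40.v1485 = v4769 :=
  Lgr Lrot28 (Lpe (f495809 IH) (Lpr_et (f225441 IH) (Lpr_ct (f638898 IH) (Lpn v4769))))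
theorem f548878 : Led Lsl_cf (LP (LK LD1_c2 LD2_c13 LD3_c4)) = (LP (LK LD1_c2 LD2_c52 LD3_c28)) :=
  Lgr Lrot11 (Lpr_ct (K38.f548873 IH) (Lpn (LP (LK LD1_c2 LD2_c52 LD3_c28))))
theorem f621157 : Led Lsl_at K40.v1485 = (LP (LK LD1_c2 LD2_c52 LD3_c28)) :=
  Lgr Lrot107 (Lpe (K40.f495808 IH) (Lpe (K24.f379966 IH) (Lpr_cf (f548878 IH) (Lpn (LP (LK LD1_c2 LD2_c52 LD3_c28))))))
theorem f22657 : Led Lsl_et (LP (LK LD1_c2 LD2_c52 LD3_c28)) = (LP (LK LD1_c5 LD2_c52 LD3_c18)) :=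
  Lre_e IH (LK LD1_c2 LD2_c52 LD3_c28) (LK LD1_c5 LD2_c52 LD3_c18) Lrfl Lrfl
theorem f638902 : Led Lsl_at (LP (LK LD1_c5 LD2_c52 LD3_c18)) = v4769 :=
  Lgr Lrot80 (Lpe (f22657 IH) (Lpe (f621157 IH) (Lpr_ef (f638901 IH) (Lpn v4769))))
theorem f22654 : Led Lsl_ft (LP (LK LD1_c11 LD2_c31 LD3_c21)) = (LP (LK LD1_c5 LD2_c52 LD3_c18)) :=
  Lre_f IH (LK LD1_c11 LD2_c31 LD3_c21) (LK LD1_c5 LD2_c52 LD3_c18) Lrfl Lrfl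
theorem f738188 : Led Lsl_gt (LP (LK LD1_c11 LD2_c31 LD3_c21)) = v15593 :=
  Lgr Lrot5 (Lpr_ft (f22654 IH) (Lpr_at (f638902 IH) (Lpr_gf (f738187 IH) (Lpn v15593))))
theorem f22633 : Led Lsl_et (LP (LK LD1_c1 LD2_c33 LD3_c38)) = (LP (LK LD1_c3 LD2_c14 LD3_c12)) :=
  Lre_e IH (LK LD1_c1 LD2_c33 LD3_c38) (LK LD1_c3 LD2_c14 LD3_c12) Lrfl Lrfl
theorem f22634 : Led Lsl_et (LP (LK LD1_c5 LD2_c52 LD3_c18)) = (LP (LK LD1_c2 LD2_c52 LD3_c28)) :=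
  Lre_e IH (LK LD1_c5 LD2_c52 LD3_c18) (LK LD1_c2 LD2_c52 LD3_c28) Lrfl Lrfl
theorem f22635 : Led Lsl_bt (LP (LK LD1_c3 LD2_c14 LD3_c12)) = (LP (LK LD1_c5 LD2_c52 LD3_c18)) :=
  Lgr Lrot119 (Lpe (f22633 IH) (Lpr_bf (K38.f22618 IH) (Lpe (f22634 IH) (Lpn (LP (LK LD1_c5 LD2_c52 LD3_c18))))))
theorem f22645 : Led Lsl_ft (LP (LK LD1_c6 LD2_c32 LD3_c4)) = (LP (LK LD1_c3 LD2_c14 LD3_c12)) :=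
  Lre_f IH (LK LD1_c6 LD2_c32 LD3_c4) (LK LD1_c3 LD2_c14 LD3_c12) Lrfl Lrfl
theorem f22646 : Led Lsl_ft (LP (LK LD1_c5 LD2_c52 LD3_c18)) = (LP (LK LD1_c11 LD2_c31 LD3_c21)) :=
  Lre_f IH (LK LD1_c5 LD2_c52 LD3_c18) (LK LD1_c11 LD2_c31 LD3_c21) Lrfl Lrfl
theorem f22647 : Led Lsl_bf (LP (LK LD1_c6 LD2_c32 LD3_c4)) = (LP (LK LD1_c11 LD2_c31 LD3_c21)) :=
  Lgr Lrot61 (Lpr_ft (f22645 IH) (Lpr_bt (f22635 IH) (Lpr_ft (f22646 IH) (Lpn (LP (LK LD1_c11 LD2_c31 LD3_c21))))))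
theorem f22649 : Led Lsl_bt (LP (LK LD1_c6 LD2_c32 LD3_c4)) = (LP (LK LD1_c11 LD2_c31 LD3_c21)) :=
  Lgr Lrot127 (Lpr_bf (f22647 IH) (Lpn (LP (LK LD1_c11 LD2_c31 LD3_c21))))
theorem f13386 : Led Lsl_at (LP (LK LD1_c3 LD2_c41 LD3_c29)) = (LP (LK LD1_c7 LD2_c23 LD3_c32)) :=
  Lre_a IH (LK LD1_c3 LD2_c41 LD3_c29) (LK LD1_c7 LD2_c23 LD3_c32) Lrfl Lrfl
theorem f205955 : Led Lsl_df (LP (LK LD1_c7 LD2_c26 LD3_c29)) = (LP (LK LD1_c7 LD2_c23 LD3_c32)) :=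
  Lgr Lrot18 (Lpr_at (K24.f162617 IH) (Lpr_dt (K11.f205953 IH) (Lpr_at (f13386 IH) (Lpn (LP (LK LD1_c7 LD2_c23 LD3_c32))))))
theorem f206160 : Led Lsl_gt (LP (LK LD1_c7 LD2_c29 LD3_c12)) = (LP (LK LD1_c7 LD2_c23 LD3_c32)) :=
  Lgr Lrot49 (Lpe (K37.f205872 IH) (Lpe (K11.f24855 IH) (Lpe (K6.f145268 IH) (Lpr_gt (K6.f113300 IH) (Lpr_dt (K32.f151477 IH) (Lpe (K7.f151485 IH) (Lpr_dt (K8.f151493 IH) (Lpr_cf (K24.f206155 IH) (Lpr_df (f205955 IH) (Lpn (LP (LK LD1_c7 LD2_c23 LD3_c32))))))))))))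
theorem f206180 : Led Lsl_ft (LP (LK LD1_c3 LD2_c44 LD3_c10)) = (LP (LK LD1_c3 LD2_c41 LD3_c29)) :=
  Lgr Lrot2 (Lpr_gt (K37.f13328 IH) (Lpr_gt (f206160 IH) (Lpe (f13386 IH) (Lpn (LP (LK LD1_c3 LD2_c41 LD3_c29))))))
theorem f206191 : Led Lsl_ff (LP (LK LD1_c3 LD2_c44 LD3_c10)) = (LP (LK LD1_c3 LD2_c41 LD3_c29)) :=
  Lgr Lrot3 (Lpr_ft (f206180 IH) (Lpn (LP (LK LD1_c3 LD2_c41 LD3_c29))))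
theorem f13327 : Led Lsl_bt (LP (LK LD1_c1 LD2_c47 LD3_c40)) = (LP (LK LD1_c3 LD2_c41 LD3_c29)) :=
  Lre_b IH (LK LD1_c1 LD2_c47 LD3_c40) (LK LD1_c3 LD2_c41 LD3_c29) Lrfl Lrfl
theorem f206193 : Led Lsl_ft (LP (LK LD1_c1 LD2_c49 LD3_c8)) = (LP (LK LD1_c1 LD2_c47 LD3_c40)) :=
  Lgr Lrot75 (Lpe (K37.f13325 IH) (Lpr_ff (f206191 IH) (Lpe (f13327 IH) (Lpn (LP (LK LD1_c1 LD2_c47 LD3_c40))))))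
theorem f148344 : Led Lsl_af (LP (LK LD1_c1 LD2_c49 LD3_c8)) = (LP (LK LD1_c1 LD2_c33 LD3_c38)) :=
  Lgr Lrot117 (Lpr_dt (K7.f148342 IH) (Lpr_at (K8.f22607 IH) (Lpr_dt (K5.f22664 IH) (Lpn (LP (LK LD1_c1 LD2_c33 LD3_c38))))))
theorem f148432 : Led Lsl_ft (LP (LK LD1_c1 LD2_c48 LD3_c47)) = (LP (LK LD1_c1 LD2_c33 LD3_c38)) :=
  Lgr Lrot54 (Lpe (K7.f128340 IH) (Lpr_ff (K7.f148425 IH) (Lpe (K6.f22616 IH) (Lpn (LP (LK LD1_c1 LD2_c33 LD3_c38))))))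
theorem f206295 : Led Lsl_af (LP (LK LD1_c1 LD2_c48 LD3_c47)) = (LP (LK LD1_c1 LD2_c47 LD3_c40)) :=
  Lgr Lrot45 (Lpr_ft (f148432 IH) (Lpe (f148344 IH) (Lpr_ft (f206193 IH) (Lpn (LP (LK LD1_c1 LD2_c47 LD3_c40))))))
theorem f206297 : Led Lsl_at (LP (LK LD1_c1 LD2_c48 LD3_c47)) = (LP (LK LD1_c1 LD2_c47 LD3_c40)) :=
  Lgr Lrot100 (Lpr_af (f206295 IH) (Lpn (LP (LK LD1_c1 LD2_c47 LD3_c40))))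
theorem f148423 : Led Lsl_ff (LP (LK LD1_c1 LD2_c48 LD3_c47)) = (LP (LK LD1_c1 LD2_c33 LD3_c38)) :=
  Lgr Lrot19 (Lpr_dt (K7.f134798 IH) (Lpr_ft (K7.f148413 IH) (Lpr_dt (K5.f22664 IH) (Lpn (LP (LK LD1_c1 LD2_c33 LD3_c38))))))
theorem f206187 : Led Lsl_ff (LP (LK LD1_c1 LD2_c49 LD3_c8)) = (LP (LK LD1_c1 LD2_c47 LD3_c40)) :=
  Lgr Lrot25 (Lpr_bt (K11.f12917 IH) (Lpr_ft (f206180 IH) (Lpr_bt (K11.f12919 IH) (Lpn (LP (LK LD1_c1 LD2_c47 LD3_c40))))))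
theorem f206355 : Led Lsl_af (LP (LK LD1_c1 LD2_c33 LD3_c38)) = (LP (LK LD1_c1 LD2_c49 LD3_c8)) :=
  Lgr Lrot45 (Lpe (f148423 IH) (Lpr_at (f206297 IH) (Lpe (f206187 IH) (Lpn (LP (LK LD1_c1 LD2_c49 LD3_c8))))))
theorem f142323 : Led Lsl_et (LP (LK LD1_c3 LD2_c44 LD3_c11)) = (LP (LK LD1_c1 LD2_c49 LD3_c8)) :=
  Lre_e IH (LK LD1_c3 LD2_c44 LD3_c11) (LK LD1_c1 LD2_c49 LD3_c8) Lrfl Lrfl
theorem f206357 : Led Lsl_at (LP (LK LD1_c3 LD2_c14 LD3_c12)) = (LP (LK LD1_c3 LD2_c44 LD3_c11)) :=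
  Lgr Lrot80 (Lpe (f22633 IH) (Lpr_af (f206355 IH) (Lpe (f142323 IH) (Lpn (LP (LK LD1_c3 LD2_c44 LD3_c11))))))
theorem f206206 : Led Lsl_ft (LP (LK LD1_c3 LD2_c44 LD3_c11)) = (LP (LK LD1_c7 LD2_c29 LD3_c18)) :=
  Lre_f IH (LK LD1_c3 LD2_c44 LD3_c11) (LK LD1_c7 LD2_c29 LD3_c18) Lrfl Lrfl
theorem f206365 : Led Lsl_af (LP (LK LD1_c6 LD2_c32 LD3_c4)) = (LP (LK LD1_c7 LD2_c29 LD3_c18)) :=
  Lgr Lrot45 (Lpr_ft (f22645 IH) (Lpr_at (f206357 IH) (Lpr_ft (f206206 IH) (Lpn (LP (LK LD1_c7 LD2_c29 LD3_c18))))))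
theorem f13203 : Led Lsl_at (LP (LK LD1_c7 LD2_c26 LD3_c41)) = (LP (LK LD1_c3 LD2_c44 LD3_c15)) :=
  Lre_a IH (LK LD1_c7 LD2_c26 LD3_c41) (LK LD1_c3 LD2_c44 LD3_c15) Lrfl Lrfl
theorem f206374 : Led Lsl_ct (LP (LK LD1_c6 LD2_c32 LD3_c4)) = (LP (LK LD1_c7 LD2_c26 LD3_c41)) :=
  Lgr Lrot111 (Lpr_af (f206365 IH) (Lpe (K11.f12977 IH) (Lpe (f13203 IH) (Lpn (LP (LK LD1_c7 LD2_c26 LD3_c41))))))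
theorem f142348 : Led Lsl_gt (LP (LK LD1_c3 LD2_c44 LD3_c12)) = (LP (LK LD1_c7 LD2_c26 LD3_c41)) :=
  Lre_g IH (LK LD1_c3 LD2_c44 LD3_c12) (LK LD1_c7 LD2_c26 LD3_c41) Lrfl Lrfl
theorem f206400 : Led Lsl_ct (LP (LK LD1_c7 LD2_c29 LD3_c20)) = (LP (LK LD1_c3 LD2_c44 LD3_c12)) :=
  Lre_c IH (LK LD1_c7 LD2_c29 LD3_c20) (LK LD1_c3 LD2_c44 LD3_c12) Lrfl Lrfl
theorem f206473 : Led Lsl_bt (LP (LK LD1_c7 LD2_c29 LD3_c20)) = (LP (LK LD1_c14 LD2_c8 LD3_c16)) :=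
  Lre_b IH (LK LD1_c7 LD2_c29 LD3_c20) (LK LD1_c14 LD2_c8 LD3_c16) Lrfl Lrfl
theorem f738186 : Led Lsl_cf (LP (LK LD1_c5 LD2_c43 LD3_c4)) = v15593 :=
  Lgr Lrot11 (Lpr_ct (f738185 IH) (Lpn v15593))
theorem f268755 : Led Lsl_ct (LP (LK LD1_c5 LD2_c43 LD3_c5)) = (LP (LK LD1_c2 LD2_c47 LD3_c31)) :=
  Lre_c IH (LK LD1_c5 LD2_c43 LD3_c5) (LK LD1_c2 LD2_c47 LD3_c31) Lrfl Lrfl
theorem f412080 : Led Lsl_bt (LP (LK LD1_c5 LD2_c43 LD3_c5)) = (LP (LK LD1_c11 LD2_c16 LD3_c28)) :=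
  Lre_b IH (LK LD1_c5 LD2_c43 LD3_c5) (LK LD1_c11 LD2_c16 LD3_c28) Lrfl Lrfl
theorem f738189 : Led Lsl_gf (LP (LK LD1_c14 LD2_c8 LD3_c16)) = (LP (LK LD1_c11 LD2_c16 LD3_c28)) :=
  Lgr Lrot124 (Lpe (f206473 IH) (Lpr_ct (f206400 IH) (Lpr_gt (f142348 IH) (Lpe (f206374 IH) (Lpr_bt (f22649 IH) (Lpr_gt (f738188 IH) (Lpe (f738186 IH) (Lpr_gt (f174239 IH) (Lpe (f268755 IH) (Lpr_bt (f412080 IH) (Lpn (LP (LK LD1_c11 LD2_c16 LD3_c28)))))))))))))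
theorem f738190 : Led Lsl_gt (LP (LK LD1_c11 LD2_c16 LD3_c28)) = (LP (LK LD1_c14 LD2_c8 LD3_c16)) :=
  Leop (Lpr_gf (f738189 IH) (Lpn (LP (LK LD1_c11 LD2_c16 LD3_c28))))
theorem seed_914 : LEOK LG_g (LK LD1_c11 LD2_c16 LD3_c28) :=
  Leoe_g (LK LD1_c11 LD2_c16 LD3_c28) (f738190 IH)
def v15608 : LQ := Led Lsl_ft (LP (LK LD1_c5 LD2_c43 LD3_c17))
theorem f738258 : Led Lsl_ft (LP (LK LD1_c5 LD2_c43 LD3_c17)) = v15608 :=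
  Lrfl
theorem f495862 : Led Lsl_gt (LP (LK LD1_c5 LD2_c43 LD3_c17)) = (LP (LK LD1_c11 LD2_c16 LD3_c44)) :=
  Lre_g IH (LK LD1_c5 LD2_c43 LD3_c17) (LK LD1_c11 LD2_c16 LD3_c44) Lrfl Lrfl
theorem f381762 : Led Lsl_et (LP (LK LD1_c2 LD2_c47 LD3_c39)) = (LP (LK LD1_c5 LD2_c43 LD3_c17)) :=
  Lre_e IH (LK LD1_c2 LD2_c47 LD3_c39) (LK LD1_c5 LD2_c43 LD3_c17) Lrfl Lrfl
theorem f381763 : Led Lsl_et (LP (LK LD1_c5 LD2_c43 LD3_c24)) = (LP (LK LD1_c2 LD2_c47 LD3_c43)) :=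
  Lre_e IH (LK LD1_c5 LD2_c43 LD3_c24) (LK LD1_c2 LD2_c47 LD3_c43) Lrfl Lrfl
theorem f381764 : Led Lsl_at (LP (LK LD1_c5 LD2_c43 LD3_c17)) = (LP (LK LD1_c5 LD2_c43 LD3_c24)) :=
  Lgr Lrot80 (Lpe (f381762 IH) (Lpr_af (K27.f381752 IH) (Lpe (f381763 IH) (Lpn (LP (LK LD1_c5 LD2_c43 LD3_c24))))))
theorem f381768 : Led Lsl_af (LP (LK LD1_c5 LD2_c43 LD3_c17)) = (LP (LK LD1_c5 LD2_c43 LD3_c24)) :=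
  Lgr Lrot0 (Lpr_at (f381764 IH) (Lpn (LP (LK LD1_c5 LD2_c43 LD3_c24))))
theorem f381780 : Led Lsl_ft (LP (LK LD1_c11 LD2_c16 LD3_c53)) = (LP (LK LD1_c5 LD2_c43 LD3_c24)) :=
  Lre_f IH (LK LD1_c11 LD2_c16 LD3_c53) (LK LD1_c5 LD2_c43 LD3_c24) Lrfl Lrfl
theorem f738259 : Led Lsl_af (LP (LK LD1_c11 LD2_c16 LD3_c53)) = v15608 :=
  Lgr Lrot45 (Lpr_ft (f381780 IH) (Lpe (f381768 IH) (Lpr_ft (f738258 IH) (Lpn v15608))))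
theorem f738264 : Led Lsl_gt (LP (LK LD1_c11 LD2_c16 LD3_c44)) = (LP (LK LD1_c11 LD2_c16 LD3_c53)) :=
  Lgr Lrot46 (Lpe (f495862 IH) (Lpr_ft (f738258 IH) (Lpe (f738259 IH) (Lpn (LP (LK LD1_c11 LD2_c16 LD3_c53))))))
theorem f738265 : Led Lsl_gt (LP (LK LD1_c11 LD2_c16 LD3_c44)) = (LP (LK LD1_c11 LD2_c16 LD3_c53)) :=
  Leop (Lpe (f738264 IH) (Lpn (LP (LK LD1_c11 LD2_c16 LD3_c44))))
theorem seed_915 : LEOK LG_g (LK LD1_c11 LD2_c16 LD3_c44) :=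
  Leoe_g (LK LD1_c11 LD2_c16 LD3_c44) (f738265 IH)
theorem f738263 : Led Lsl_ff (LP (LK LD1_c5 LD2_c43 LD3_c17)) = v15608 :=
  Lgr Lrot3 (Lpr_ft (f738258 IH) (Lpn v15608))
theorem f381773 : Led Lsl_ft (LP (LK LD1_c5 LD2_c43 LD3_c24)) = (LP (LK LD1_c11 LD2_c16 LD3_c53)) :=
  Lre_f IH (LK LD1_c5 LD2_c43 LD3_c24) (LK LD1_c11 LD2_c16 LD3_c53) Lrfl Lrfl
theorem f738266 : Led Lsl_at (LP (LK LD1_c11 LD2_c16 LD3_c53)) = v15608 :=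
  Lgr Lrot66 (Lpe (f381773 IH) (Lpe (f381764 IH) (Lpr_ff (f738263 IH) (Lpn v15608))))
theorem f384187 : Led Lsl_gt (LP (LK LD1_c5 LD2_c43 LD3_c24)) = (LP (LK LD1_c11 LD2_c16 LD3_c51)) :=
  Lre_g IH (LK LD1_c5 LD2_c43 LD3_c24) (LK LD1_c11 LD2_c16 LD3_c51) Lrfl Lrfl
theorem f738272 : Led Lsl_gt (LP (LK LD1_c11 LD2_c16 LD3_c51)) = v15608 :=
  Lgr Lrot46 (Lpe (f384187 IH) (Lpr_ft (f381773 IH) (Lpr_at (f738266 IH) (Lpn v15608))))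
def v1497 : LQ := Led Lsl_et (LP (LK LD1_c1 LD2_c20 LD3_c7))
theorem f495853 : Led Lsl_et (LP (LK LD1_c1 LD2_c20 LD3_c7)) = v1497 :=
  Lrfl
theorem f495855 : Led Lsl_ef (LP (LK LD1_c1 LD2_c20 LD3_c7)) = v1497 :=
  Lgr Lrot88 (Lpr_et (f495853 IH) (Lpn v1497))
theorem f495857 : Led Lsl_at K35.v387 = v1497 :=
  Lgr Lrot80 (Lpe (K35.f452564 IH) (Lpe (K27.f381781 IH) (Lpr_ef (f495855 IH) (Lpn v1497))))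
theorem f541737 : v1497 = (LP (LK LD1_c1 LD2_c20 LD3_c9)) :=
  Lefun (Lecon (f495857 IH) (K36.f541734 IH)) (K27.f381760 IH)
theorem f382418 : Led Lsl_et (LP (LK LD1_c2 LD2_c47 LD3_c38)) = (LP (LK LD1_c5 LD2_c43 LD3_c15)) :=
  Lre_e IH (LK LD1_c2 LD2_c47 LD3_c38) (LK LD1_c5 LD2_c43 LD3_c15) Lrfl Lrfl
theorem f622078 : Led Lsl_df (LP (LK LD1_c5 LD2_c43 LD3_c24)) = (LP (LK LD1_c5 LD2_c43 LD3_c15)) :=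
  Lgr Lrot70 (Lpr_et (f381763 IH) (Lpr_dt (K27.f381127 IH) (Lpq (f541737 IH) (Lpe (f495855 IH) (Lpr_dt (K27.f381591 IH) (Lpr_et (f382418 IH) (Lpn (LP (LK LD1_c5 LD2_c43 LD3_c15)))))))))
theorem f381776 : Led Lsl_at (LP (LK LD1_c2 LD2_c47 LD3_c47)) = (LP (LK LD1_c5 LD2_c43 LD3_c15)) :=
  Lre_a IH (LK LD1_c2 LD2_c47 LD3_c47) (LK LD1_c5 LD2_c43 LD3_c15) Lrfl Lrfl
theorem f622080 : Led Lsl_dt (LP (LK LD1_c5 LD2_c43 LD3_c17)) = (LP (LK LD1_c2 LD2_c47 LD3_c47)) :=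
  Lgr Lrot44 (Lpr_af (f381768 IH) (Lpr_df (f622078 IH) (Lpe (f381776 IH) (Lpn (LP (LK LD1_c2 LD2_c47 LD3_c47))))))
theorem f622098 : Led Lsl_ft (LP (LK LD1_c2 LD2_c47 LD3_c47)) = (LP (LK LD1_c5 LD2_c43 LD3_c35)) :=
  Lre_f IH (LK LD1_c2 LD2_c47 LD3_c47) (LK LD1_c5 LD2_c43 LD3_c35) Lrfl Lrfl
theorem f738268 : Led Lsl_dt (LP (LK LD1_c5 LD2_c43 LD3_c35)) = v15608 :=
  Lgr Lrot60 (Lpe (f622098 IH) (Lpe (f622080 IH) (Lpr_ff (f738263 IH) (Lpn v15608))))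
theorem f412047 : Led Lsl_bt (LP (LK LD1_c9 LD2_c2 LD3_c53)) = (LP (LK LD1_c4 LD2_c32 LD3_c44)) :=
  Lre_b IH (LK LD1_c9 LD2_c2 LD3_c53) (LK LD1_c4 LD2_c32 LD3_c44) Lrfl Lrfl
theorem f507669 : Led Lsl_bt (LP (LK LD1_c2 LD2_c47 LD3_c29)) = (LP (LK LD1_c5 LD2_c43 LD3_c2)) :=
  Lre_b IH (LK LD1_c2 LD2_c47 LD3_c29) (LK LD1_c5 LD2_c43 LD3_c2) Lrfl Lrfl
theorem f507670 : Led Lsl_ff (LP (LK LD1_c9 LD2_c2 LD3_c53)) = (LP (LK LD1_c5 LD2_c43 LD3_c2)) :=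
  Lgr Lrot25 (Lpr_bt (f412047 IH) (Lpr_ft (K51.f507667 IH) (Lpr_bt (f507669 IH) (Lpn (LP (LK LD1_c5 LD2_c43 LD3_c2))))))
theorem f507676 : Led Lsl_bt (LP (LK LD1_c4 LD2_c32 LD3_c43)) = (LP (LK LD1_c9 LD2_c2 LD3_c52)) :=
  Lre_b IH (LK LD1_c4 LD2_c32 LD3_c43) (LK LD1_c9 LD2_c2 LD3_c52) Lrfl Lrfl
theorem f412040 : Led Lsl_bt (LP (LK LD1_c5 LD2_c43 LD3_c2)) = (LP (LK LD1_c2 LD2_c47 LD3_c29)) :=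
  Lre_b IH (LK LD1_c5 LD2_c43 LD3_c2) (LK LD1_c2 LD2_c47 LD3_c29) Lrfl Lrfl
theorem f507678 : Led Lsl_at (LP (LK LD1_c11 LD2_c16 LD3_c23)) = (LP (LK LD1_c5 LD2_c43 LD3_c2)) :=
  Lre_a IH (LK LD1_c11 LD2_c16 LD3_c23) (LK LD1_c5 LD2_c43 LD3_c2) Lrfl Lrfl
theorem f507679 : Led Lsl_bt (LP (LK LD1_c16 LD2_c53 LD3_c30)) = (LP (LK LD1_c11 LD2_c16 LD3_c23)) :=
  Lgr Lrot62 (Lpe (K51.f507677 IH) (Lpe (f507676 IH) (Lpr_af (K51.f507672 IH) (Lpe (f412040 IH) (Lpe (f507678 IH) (Lpn (LP (LK LD1_c11 LD2_c16 LD3_c23))))))))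
theorem f507696 : Led Lsl_bf (LP (LK LD1_c16 LD2_c53 LD3_c30)) = (LP (LK LD1_c11 LD2_c16 LD3_c23)) :=
  Lgr Lrot24 (Lpr_bt (f507679 IH) (Lpn (LP (LK LD1_c11 LD2_c16 LD3_c23))))
theorem f644582 : Led Lsl_ff (LP (LK LD1_c11 LD2_c16 LD3_c23)) = (LP (LK LD1_c5 LD2_c43 LD3_c51)) :=
  Lgr Lrot25 (Lpe (f507696 IH) (Lpe (K51.f644539 IH) (Lpr_bt (K46.f644572 IH) (Lpn (LP (LK LD1_c5 LD2_c43 LD3_c51))))))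
theorem f644585 : Led Lsl_at (LP (LK LD1_c9 LD2_c2 LD3_c53)) = (LP (LK LD1_c5 LD2_c43 LD3_c51)) :=
  Lgr Lrot66 (Lpr_ff (f507670 IH) (Lpe (f507678 IH) (Lpr_ff (f644582 IH) (Lpn (LP (LK LD1_c5 LD2_c43 LD3_c51))))))
theorem f507705 : Led Lsl_gt (LP (LK LD1_c5 LD2_c43 LD3_c2)) = (LP (LK LD1_c11 LD2_c16 LD3_c22)) :=
  Lre_g IH (LK LD1_c5 LD2_c43 LD3_c2) (LK LD1_c11 LD2_c16 LD3_c22) Lrfl Lrfl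
theorem f644594 : Led Lsl_gf (LP (LK LD1_c5 LD2_c43 LD3_c51)) = (LP (LK LD1_c11 LD2_c16 LD3_c22)) :=
  Lgr Lrot76 (Lpe (f644585 IH) (Lpr_ff (f507670 IH) (Lpr_gt (f507705 IH) (Lpn (LP (LK LD1_c11 LD2_c16 LD3_c22))))))
theorem f381860 : Led Lsl_at (LP (LK LD1_c5 LD2_c43 LD3_c36)) = (LP (LK LD1_c2 LD2_c47 LD3_c57)) :=
  Lre_a IH (LK LD1_c5 LD2_c43 LD3_c36) (LK LD1_c2 LD2_c47 LD3_c57) Lrfl Lrfl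
theorem f644596 : Led Lsl_ff (LP (LK LD1_c5 LD2_c43 LD3_c36)) = (LP (LK LD1_c11 LD2_c16 LD3_c22)) :=
  Lgr Lrot52 (Lpr_at (f381860 IH) (Lpe (K41.f542574 IH) (Lpr_gf (f644594 IH) (Lpn (LP (LK LD1_c11 LD2_c16 LD3_c22))))))
theorem f381944 : Led Lsl_et (LP (LK LD1_c5 LD2_c43 LD3_c36)) = (LP (LK LD1_c2 LD2_c47 LD3_c48)) :=
  Lre_e IH (LK LD1_c5 LD2_c43 LD3_c36) (LK LD1_c2 LD2_c47 LD3_c48) Lrfl Lrfl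
theorem f382125 : Led Lsl_ft (LP (LK LD1_c2 LD2_c47 LD3_c48)) = (LP (LK LD1_c1 LD2_c20 LD3_c10)) :=
  Lre_f IH (LK LD1_c2 LD2_c47 LD3_c48) (LK LD1_c1 LD2_c20 LD3_c10) Lrfl Lrfl
theorem f452566 : Led Lsl_et (LP (LK LD1_c1 LD2_c20 LD3_c10)) = (LP (LK LD1_c2 LD2_c47 LD3_c47)) :=
  Lre_e IH (LK LD1_c1 LD2_c20 LD3_c10) (LK LD1_c2 LD2_c47 LD3_c47) Lrfl Lrfl
theorem f644605 : Led Lsl_et (LP (LK LD1_c5 LD2_c43 LD3_c35)) = (LP (LK LD1_c11 LD2_c16 LD3_c22)) :=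
  Lgr Lrot69 (Lpe (f622098 IH) (Lpe (f452566 IH) (Lpe (f382125 IH) (Lpe (f381944 IH) (Lpr_ff (f644596 IH) (Lpn (LP (LK LD1_c11 LD2_c16 LD3_c22))))))))
theorem f616286 : Led Lsl_gf (LP (LK LD1_c5 LD2_c44 LD3_c58)) = (LP (LK LD1_c11 LD2_c20 LD3_c2)) :=
  Lgr Lrot138 (Lpr_dt (K5.f75866 IH) (Lpr_gt (K5.f75865 IH) (Lpe (K5.f75864 IH) (Lpr_et (K5.f75863 IH) (Lpr_gt (K0.f23682 IH) (Lpe (K41.f75832 IH) (Lpr_dt (K32.f75529 IH) (Lpr_gt (K41.f75835 IH) (Lpe (K41.f502636 IH) (Lpr_et (K50.f616269 IH) (Lpn (LP (LK LD1_c11 LD2_c20 LD3_c2)))))))))))))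
theorem f76021 : Led Lsl_et (LP (LK LD1_c2 LD2_c48 LD3_c16)) = (LP (LK LD1_c5 LD2_c44 LD3_c59)) :=
  Lre_e IH (LK LD1_c2 LD2_c48 LD3_c16) (LK LD1_c5 LD2_c44 LD3_c59) Lrfl Lrfl
theorem f616293 : Led Lsl_gt (LP (LK LD1_c5 LD2_c44 LD3_c59)) = (LP (LK LD1_c11 LD2_c20 LD3_c17)) :=
  Lre_g IH (LK LD1_c5 LD2_c44 LD3_c59) (LK LD1_c11 LD2_c20 LD3_c17) Lrfl Lrfl
theorem f738273 : Led Lsl_df (LP (LK LD1_c11 LD2_c16 LD3_c51)) = (LP (LK LD1_c11 LD2_c20 LD3_c17)) :=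
  Lgr Lrot135 (Lpr_gt (f738272 IH) (Lpe (f738268 IH) (Lpr_et (f644605 IH) (Lpe (f644594 IH) (Lpe (K50.f616267 IH) (Lpr_dt (K41.f616277 IH) (Lpe (f616286 IH) (Lpe (K41.f75877 IH) (Lpr_et (f76021 IH) (Lpr_gt (f616293 IH) (Lpn (LP (LK LD1_c11 LD2_c20 LD3_c17)))))))))))))
theorem f738274 : Led Lsl_dt (LP (LK LD1_c11 LD2_c20 LD3_c17)) = (LP (LK LD1_c11 LD2_c16 LD3_c51)) :=
  Leop (Lpr_df (f738273 IH) (Lpn (LP (LK LD1_c11 LD2_c20 LD3_c17))))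
theorem seed_916 : LEOK LG_d (LK LD1_c11 LD2_c20 LD3_c17) :=
  Leoe_d (LK LD1_c11 LD2_c20 LD3_c17) (f738274 IH)
def v15651 : LQ := Led Lsl_ct (LP (LK LD1_c5 LD2_c44 LD3_c31))
theorem f738482 : Led Lsl_ct (LP (LK LD1_c5 LD2_c44 LD3_c31)) = v15651 :=
  Lrfl
theorem f597961 : Led Lsl_bt (LP (LK LD1_c5 LD2_c44 LD3_c31)) = (LP (LK LD1_c11 LD2_c19 LD3_c3)) :=
  Lre_b IH (LK LD1_c5 LD2_c44 LD3_c31) (LK LD1_c11 LD2_c19 LD3_c3) Lrfl Lrfl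
theorem f73146 : Led Lsl_bt (LP (LK LD1_c0 LD2_c37 LD3_c22)) = (LP (LK LD1_c1 LD2_c20 LD3_c52)) :=
  Lre_b IH (LK LD1_c0 LD2_c37 LD3_c22) (LK LD1_c1 LD2_c20 LD3_c52) Lrfl Lrfl
theorem f216723 : Led Lsl_bt (LP (LK LD1_c4 LD2_c21 LD3_c56)) = (LP (LK LD1_c2 LD2_c8 LD3_c27)) :=
  Lre_b IH (LK LD1_c4 LD2_c21 LD3_c56) (LK LD1_c2 LD2_c8 LD3_c27) Lrfl Lrfl
theorem f211933 : Led Lsl_bt (LP (LK LD1_c2 LD2_c48 LD3_c9)) = (LP (LK LD1_c5 LD2_c44 LD3_c29)) :=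
  Lre_b IH (LK LD1_c2 LD2_c48 LD3_c9) (LK LD1_c5 LD2_c44 LD3_c29) Lrfl Lrfl
theorem f404913 : Led Lsl_gt (LP (LK LD1_c5 LD2_c44 LD3_c29)) = (LP (LK LD1_c11 LD2_c18 LD3_c61)) :=
  Lre_g IH (LK LD1_c5 LD2_c44 LD3_c29) (LK LD1_c11 LD2_c18 LD3_c61) Lrfl Lrfl
theorem f619291 : Led Lsl_df (LP (LK LD1_c8 LD2_c41 LD3_c26)) = (LP (LK LD1_c11 LD2_c18 LD3_c61)) :=
  Lgr Lrot183 (Lpr_ct (K30.f219176 IH) (Lpr_bt (f216723 IH) (Lpe (K13.f216713 IH) (Lpr_dt (K1.f29246 IH) (Lpr_ct (K1.f29247 IH) (Lpr_bt (K38.f29251 IH) (Lpr_gt (K38.f547146 IH) (Lpr_dt (K16.f60704 IH) (Lpr_ct (K13.f60462 IH) (Lpr_bt (K10.f193772 IH) (Lpr_gt (K10.f60907 IH) (Lpe (K1.f60901 IH) (Lpe (K17.f60921 IH) (Lpr_bt (f73146 IH) (Lpr_gt (K39.f72486 IH) (Lpr_dt (K40.f552492 IH) (Lpr_ct (K39.f211900 IH) (Lpr_bt (f211933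 IH) (Lpr_gt (f404913 IH) (Lpn (LP (LK LD1_c11 LD2_c18 LD3_c61))))))))))))))))))))))
theorem f219173 : Led Lsl_dt (LP (LK LD1_c8 LD2_c41 LD3_c33)) = (LP (LK LD1_c4 LD2_c21 LD3_c56)) :=
  Lre_d IH (LK LD1_c8 LD2_c41 LD3_c33) (LK LD1_c4 LD2_c21 LD3_c56) Lrfl Lrfl
theorem f219174 : Led Lsl_gt (LP (LK LD1_c16 LD2_c16 LD3_c48)) = (LP (LK LD1_c8 LD2_c41 LD3_c33)) :=
  Lre_g IH (LK LD1_c16 LD2_c16 LD3_c48) (LK LD1_c8 LD2_c41 LD3_c33) Lrfl Lrfl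
theorem f605542 : Led Lsl_bt (LP (LK LD1_c16 LD2_c15 LD3_c33)) = (LP (LK LD1_c26 LD2_c12 LD3_c61)) :=
  Lre_b IH (LK LD1_c16 LD2_c15 LD3_c33) (LK LD1_c26 LD2_c12 LD3_c61) Lrfl Lrfl
theorem f605788 : Led Lsl_ff (LP (LK LD1_c16 LD2_c15 LD3_c33)) = (LP (LK LD1_c16 LD2_c16 LD3_c47)) :=
  Lgr Lrot25 (Lpr_bt (f605542 IH) (Lpr_ft (K52.f605786 IH) (Lpr_bt (K52.f269704 IH) (Lpn (LP (LK LD1_c16 LD2_c16 LD3_c47))))))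
theorem f406886 : Led Lsl_dt (LP (LK LD1_c16 LD2_c15 LD3_c33)) = (LP (LK LD1_c8 LD2_c40 LD3_c57)) :=
  Lre_d IH (LK LD1_c16 LD2_c15 LD3_c33) (LK LD1_c8 LD2_c40 LD3_c57) Lrfl Lrfl
theorem f42738 : Led Lsl_bt (LP (LK LD1_c3 LD2_c56 LD3_c59)) = (LP (LK LD1_c7 LD2_c55 LD3_c33)) :=
  Lre_b IH (LK LD1_c3 LD2_c56 LD3_c59) (LK LD1_c7 LD2_c55 LD3_c33) Lrfl Lrfl
theorem f42739 : Led Lsl_gt (LP (LK LD1_c7 LD2_c55 LD3_c33)) = (LP (LK LD1_c14 LD2_c57 LD3_c8)) :=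
  Lre_g IH (LK LD1_c7 LD2_c55 LD3_c33) (LK LD1_c14 LD2_c57 LD3_c8) Lrfl Lrfl
theorem f236923 : Led Lsl_bf (LP (LK LD1_c14 LD2_c57 LD3_c8)) = (LP (LK LD1_c19 LD2_c35 LD3_c56)) :=
  Lgr Lrot34 (Lpe (f42739 IH) (Lpe (f42738 IH) (Lpr_ct (K13.f229459 IH) (Lpe (K13.f229466 IH) (Lpr_cf (K13.f236894 IH) (Lpe (K13.f168372 IH) (Lpe (K18.f168360 IH) (Lpr_ct (K18.f168435 IH) (Lpe (K52.f168468 IH) (Lpe (K52.f168469 IH) (Lpn (LP (LK LD1_c19 LD2_c35 LD3_c56)))))))))))))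
theorem f269708 : Led Lsl_bt (LP (LK LD1_c16 LD2_c16 LD3_c47)) = (LP (LK LD1_c26 LD2_c14 LD3_c44)) :=
  Lre_b IH (LK LD1_c16 LD2_c16 LD3_c47) (LK LD1_c26 LD2_c14 LD3_c44) Lrfl Lrfl
theorem f605782 : Led Lsl_dt (LP (LK LD1_c14 LD2_c57 LD3_c8)) = (LP (LK LD1_c16 LD2_c16 LD3_c47)) :=
  Lgr Lrot79 (Lpr_bf (f236923 IH) (Lpr_df (K52.f605721 IH) (Lpe (f269708 IH) (Lpn (LP (LK LD1_c16 LD2_c16 LD3_c47))))))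
theorem f605885 : Led Lsl_ft (LP (LK LD1_c8 LD2_c40 LD3_c57)) = (LP (LK LD1_c14 LD2_c57 LD3_c8)) :=
  Lgr Lrot54 (Lpe (f406886 IH) (Lpr_ff (f605788 IH) (Lpe (f605782 IH) (Lpn (LP (LK LD1_c14 LD2_c57 LD3_c8))))))
theorem f168474 : Led Lsl_ct (LP (LK LD1_c9 LD2_c44 LD3_c51)) = (LP (LK LD1_c10 LD2_c50 LD3_c32)) :=
  Lgr Lrot59 (Lpr_cf (K19.f168453 IH) (Lpn (LP (LK LD1_c10 LD2_c50 LD3_c32))))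
theorem f400803 : Led Lsl_af (LP (LK LD1_c17 LD2_c36 LD3_c35)) = (LP (LK LD1_c9 LD2_c34 LD3_c27)) :=
  Lgr Lrot0 (Lpr_at (K38.f400801 IH) (Lpn (LP (LK LD1_c9 LD2_c34 LD3_c27))))
theorem f290 : Led Lsl_gt (LP (LK LD1_c9 LD2_c33 LD3_c48)) = (LP (LK LD1_c17 LD2_c36 LD3_c34)) :=
  Lre_g IH (LK LD1_c9 LD2_c33 LD3_c48) (LK LD1_c17 LD2_c36 LD3_c34) Lrfl Lrfl
theorem f349085 : Led Lsl_gt (LP (LK LD1_c17 LD2_c36 LD3_c34)) = (LP (LK LD1_c9 LD2_c34 LD3_c29)) :=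
  Lgr Lrot46 (Lpe (f290 IH) (Lpr_ft (K26.f349079 IH) (Lpr_at (K38.f327914 IH) (Lpn (LP (LK LD1_c9 LD2_c34 LD3_c29))))))
theorem f400806 : Led Lsl_ft (LP (LK LD1_c17 LD2_c36 LD3_c34)) = (LP (LK LD1_c9 LD2_c34 LD3_c27)) :=
  Lgr Lrot2 (Lpr_gt (f349085 IH) (Lpe (K49.f349656 IH) (Lpr_af (f400803 IH) (Lpn (LP (LK LD1_c9 LD2_c34 LD3_c27))))))
theorem f400812 : Led Lsl_ff (LP (LK LD1_c17 LD2_c36 LD3_c34)) = (LP (LK LD1_c9 LD2_c34 LD3_c27)) :=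
  Lgr Lrot3 (Lpr_ft (f400806 IH) (Lpn (LP (LK LD1_c9 LD2_c34 LD3_c27))))
theorem f400850 : Led Lsl_bf (LP (LK LD1_c15 LD2_c35 LD3_c33)) = (LP (LK LD1_c17 LD2_c36 LD3_c34)) :=
  Lgr Lrot61 (Lpr_ft (K38.f400848 IH) (Lpr_bt (K38.f299308 IH) (Lpe (f400812 IH) (Lpn (LP (LK LD1_c17 LD2_c36 LD3_c34))))))
theorem f400808 : Led Lsl_af (LP (LK LD1_c17 LD2_c36 LD3_c34)) = (LP (LK LD1_c9 LD2_c34 LD3_c28)) :=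
  Lgr Lrot45 (Lpr_ft (f400806 IH) (Lpe (f400803 IH) (Lpe (K50.f400783 IH) (Lpn (LP (LK LD1_c9 LD2_c34 LD3_c28))))))
theorem f349506 : Led Lsl_bt (LP (LK LD1_c17 LD2_c37 LD3_c50)) = (LP (LK LD1_c9 LD2_c34 LD3_c28)) :=
  Lre_b IH (LK LD1_c17 LD2_c37 LD3_c50) (LK LD1_c9 LD2_c34 LD3_c28) Lrfl Lrfl
theorem f250755 : Led Lsl_bt (LP (LK LD1_c25 LD2_c27 LD3_c10)) = (LP (LK LD1_c26 LD2_c17 LD3_c0)) :=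
  Lgr Lrot128 (Lpe (K49.f236085 IH) (Lpr_bf (K49.f250729 IH) (Lpe (K38.f250752 IH) (Lpe (K52.f250753 IH) (Lpe (K52.f250754 IH) (Lpn (LP (LK LD1_c26 LD2_c17 LD3_c0))))))))
theorem f401085 : Led Lsl_af (LP (LK LD1_c17 LD2_c37 LD3_c50)) = (LP (LK LD1_c26 LD2_c17 LD3_c0)) :=
  Lgr Lrot36 (Lpr_bt (f349506 IH) (Lpe (f400808 IH) (Lpe (f400850 IH) (Lpr_at (K50.f401033 IH) (Lpr_bt (f250755 IH) (Lpn (LP (LK LD1_c26 LD2_c17 LD3_c0))))))))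
theorem f401087 : Led Lsl_at (LP (LK LD1_c17 LD2_c37 LD3_c50)) = (LP (LK LD1_c26 LD2_c17 LD3_c0)) :=
  Lgr Lrot100 (Lpr_af (f401085 IH) (Lpn (LP (LK LD1_c26 LD2_c17 LD3_c0))))
theorem f400508 : Led Lsl_bt (LP (LK LD1_c9 LD2_c34 LD3_c28)) = (LP (LK LD1_c17 LD2_c37 LD3_c50)) :=
  Lre_b IH (LK LD1_c9 LD2_c34 LD3_c28) (LK LD1_c17 LD2_c37 LD3_c50) Lrfl Lrfl
theorem f400814 : Led Lsl_at (LP (LK LD1_c17 LD2_c36 LD3_c34)) = (LP (LK LD1_c9 LD2_c34 LD3_c28)) :=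
  Lgr Lrot66 (Lpr_ff (f400812 IH) (Lpe (K38.f400801 IH) (Lpe (K38.f400779 IH) (Lpn (LP (LK LD1_c9 LD2_c34 LD3_c28))))))
theorem f250759 : Led Lsl_bf (LP (LK LD1_c25 LD2_c27 LD3_c10)) = (LP (LK LD1_c26 LD2_c17 LD3_c0)) :=
  Lgr Lrot24 (Lpr_bt (f250755 IH) (Lpn (LP (LK LD1_c26 LD2_c17 LD3_c0))))
theorem f401054 : Led Lsl_af (LP (LK LD1_c15 LD2_c35 LD3_c33)) = (LP (LK LD1_c25 LD2_c27 LD3_c10)) :=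
  Lgr Lrot45 (Lpr_ft (K38.f400848 IH) (Lpe (K38.f400856 IH) (Lpr_ft (K49.f401044 IH) (Lpn (LP (LK LD1_c25 LD2_c27 LD3_c10))))))
theorem f401111 : Led Lsl_bf (LP (LK LD1_c17 LD2_c36 LD3_c34)) = (LP (LK LD1_c15 LD2_c35 LD3_c33)) :=
  Lgr Lrot81 (Lpr_at (f400814 IH) (Lpr_bt (f400508 IH) (Lpr_at (f401087 IH) (Lpe (f250759 IH) (Lpe (f401054 IH) (Lpn (LP (LK LD1_c15 LD2_c35 LD3_c33))))))))
theorem f167404 : Led Lsl_ct (LP (LK LD1_c17 LD2_c36 LD3_c34)) = (LP (LK LD1_c27 LD2_c24 LD3_c44)) :=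
  Lre_c IH (LK LD1_c17 LD2_c36 LD3_c34) (LK LD1_c27 LD2_c24 LD3_c44) Lrfl Lrfl
theorem f399252 : Led Lsl_ct (LP (LK LD1_c25 LD2_c29 LD3_c50)) = (LP (LK LD1_c15 LD2_c35 LD3_c32)) :=
  Lre_c IH (LK LD1_c25 LD2_c29 LD3_c50) (LK LD1_c15 LD2_c35 LD3_c32) Lrfl Lrfl
theorem f401113 : Led Lsl_bt (LP (LK LD1_c27 LD2_c24 LD3_c44)) = (LP (LK LD1_c25 LD2_c29 LD3_c50)) :=
  Lgr Lrot128 (Lpe (f167404 IH) (Lpr_bf (f401111 IH) (Lpe (K27.f263826 IH) (Lpe (K38.f394461 IH) (Lpe (f399252 IH) (Lpn (LP (LK LD1_c25 LD2_c29 LD3_c50))))))))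
theorem f401120 : Led Lsl_bf (LP (LK LD1_c27 LD2_c24 LD3_c44)) = (LP (LK LD1_c25 LD2_c29 LD3_c50)) :=
  Lgr Lrot24 (Lpr_bt (f401113 IH) (Lpn (LP (LK LD1_c25 LD2_c29 LD3_c50))))
theorem f400816 : Led Lsl_ft (LP (LK LD1_c27 LD2_c24 LD3_c44)) = (LP (LK LD1_c17 LD2_c37 LD3_c47)) :=
  Lgr Lrot4 (Lpe (f167404 IH) (Lpr_ff (f400812 IH) (Lpe (K38.f299352 IH) (Lpn (LP (LK LD1_c17 LD2_c37 LD3_c47))))))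
theorem f400821 : Led Lsl_df (LP (LK LD1_c27 LD2_c24 LD3_c44)) = (LP (LK LD1_c31 LD2_c54 LD3_c13)) :=
  Lgr Lrot78 (Lpr_ft (f400816 IH) (Lpe (K38.f400793 IH) (Lpr_ft (K38.f372622 IH) (Lpn (LP (LK LD1_c31 LD2_c54 LD3_c13))))))
theorem f400823 : Led Lsl_at (LP (LK LD1_c27 LD2_c24 LD3_c44)) = (LP (LK LD1_c17 LD2_c37 LD3_c51)) :=
  Lgr Lrot51 (Lpr_df (f400821 IH) (Lpe (K52.f232660 IH) (Lpe (K38.f400490 IH) (Lpn (LP (LK LD1_c17 LD2_c37 LD3_c51))))))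
theorem f51601 : Led Lsl_bt (LP (LK LD1_c4 LD2_c15 LD3_c24)) = (LP (LK LD1_c8 LD2_c29 LD3_c41)) :=
  Lre_b IH (LK LD1_c4 LD2_c15 LD3_c24) (LK LD1_c8 LD2_c29 LD3_c41) Lrfl Lrfl
theorem f51602 : Led Lsl_gt (LP (LK LD1_c8 LD2_c29 LD3_c41)) = (LP (LK LD1_c15 LD2_c56 LD3_c58)) :=
  Lre_g IH (LK LD1_c8 LD2_c29 LD3_c41) (LK LD1_c15 LD2_c56 LD3_c58) Lrfl Lrfl
theorem f295088 : Led Lsl_bt (LP (LK LD1_c17 LD2_c37 LD3_c51)) = (LP (LK LD1_c15 LD2_c56 LD3_c58)) :=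
  Lgr Lrot92 (Lpr_ct (K38.f295087 IH) (Lpr_gt (K38.f295086 IH) (Lpe (K38.f234006 IH) (Lpr_bt (K26.f295085 IH) (Lpr_gt (K18.f295077 IH) (Lpr_ct (K16.f178842 IH) (Lpe (K13.f236220 IH) (Lpe (K13.f187240 IH) (Lpr_bt (f51601 IH) (Lpr_gt (f51602 IH) (Lpn (LP (LK LD1_c15 LD2_c56 LD3_c58)))))))))))))
theorem f401029 : Led Lsl_af (LP (LK LD1_c25 LD2_c29 LD3_c50)) = (LP (LK LD1_c15 LD2_c58 LD3_c34)) :=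
  Lgr Lrot68 (Lpr_ct (f399252 IH) (Lpr_at (K38.f400884 IH) (Lpr_ct (K38.f401009 IH) (Lpn (LP (LK LD1_c15 LD2_c58 LD3_c34))))))
theorem f401124 : Led Lsl_at (LP (LK LD1_c15 LD2_c56 LD3_c58)) = (LP (LK LD1_c8 LD2_c30 LD3_c27)) :=
  Lgr Lrot67 (Lpe (f295088 IH) (Lpe (f400823 IH) (Lpr_bf (f401120 IH) (Lpr_af (f401029 IH) (Lpe (K38.f243241 IH) (Lpn (LP (LK LD1_c8 LD2_c30 LD3_c27))))))))
theorem f401126 : Led Lsl_af (LP (LK LD1_c15 LD2_c56 LD3_c58)) = (LP (LK LD1_c8 LD2_c30 LD3_c27)) :=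
  Lgr Lrot0 (Lpr_at (f401124 IH) (Lpn (LP (LK LD1_c8 LD2_c30 LD3_c27))))
theorem f197692 : Led Lsl_gt (LP (LK LD1_c15 LD2_c56 LD3_c59)) = (LP (LK LD1_c8 LD2_c29 LD3_c41)) :=
  Lre_g IH (LK LD1_c15 LD2_c56 LD3_c59) (LK LD1_c8 LD2_c29 LD3_c41) Lrfl Lrfl
theorem f401134 : Led Lsl_ft (LP (LK LD1_c15 LD2_c56 LD3_c59)) = (LP (LK LD1_c8 LD2_c30 LD3_c27)) :=
  Lgr Lrot2 (Lpr_gt (f197692 IH) (Lpr_gt (f51602 IH) (Lpr_af (f401126 IH) (Lpn (LP (LK LD1_c8 LD2_c30 LD3_c27))))))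
theorem f243239 : Led Lsl_ct (LP (LK LD1_c8 LD2_c30 LD3_c27)) = (LP (LK LD1_c15 LD2_c58 LD3_c35)) :=
  Lre_c IH (LK LD1_c8 LD2_c30 LD3_c27) (LK LD1_c15 LD2_c58 LD3_c35) Lrfl Lrfl
theorem f400949 : Led Lsl_ft (LP (LK LD1_c15 LD2_c58 LD3_c35)) = (LP (LK LD1_c16 LD2_c19 LD3_c3)) :=
  Lgr Lrot75 (Lpr_bf (K38.f243237 IH) (Lpr_ff (K38.f400940 IH) (Lpe (K38.f232281 IH) (Lpn (LP (LK LD1_c16 LD2_c19 LD3_c3))))))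
theorem f401138 : Led Lsl_cf (LP (LK LD1_c15 LD2_c56 LD3_c59)) = (LP (LK LD1_c16 LD2_c19 LD3_c3)) :=
  Lgr Lrot108 (Lpr_ft (f401134 IH) (Lpr_ct (f243239 IH) (Lpr_ft (f400949 IH) (Lpn (LP (LK LD1_c16 LD2_c19 LD3_c3))))))
theorem f373837 : Led Lsl_gt (LP (LK LD1_c8 LD2_c30 LD3_c28)) = (LP (LK LD1_c15 LD2_c56 LD3_c59)) :=
  Lgr Lrot5 (Lpr_ft (K30.f373830 IH) (Lpr_at (K15.f197685 IH) (Lpe (f197692 IH) (Lpn (LP (LK LD1_c15 LD2_c56 LD3_c59))))))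
theorem f243244 : Led Lsl_dt (LP (LK LD1_c8 LD2_c40 LD3_c40)) = (LP (LK LD1_c16 LD2_c15 LD3_c6)) :=
  Lre_d IH (LK LD1_c8 LD2_c40 LD3_c40) (LK LD1_c16 LD2_c15 LD3_c6) Lrfl Lrfl
theorem f243200 : Led Lsl_at (LP (LK LD1_c8 LD2_c40 LD3_c40)) = (LP (LK LD1_c4 LD2_c21 LD3_c32)) :=
  Lre_a IH (LK LD1_c8 LD2_c40 LD3_c40) (LK LD1_c4 LD2_c21 LD3_c32) Lrfl Lrfl
theorem f262580 : Led Lsl_at (LP (LK LD1_c7 LD2_c55 LD3_c33)) = (LP (LK LD1_c14 LD2_c57 LD3_c10)) :=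
  Lre_a IH (LK LD1_c7 LD2_c55 LD3_c33) (LK LD1_c14 LD2_c57 LD3_c10) Lrfl Lrfl
theorem f262581 : Led Lsl_bf (LP (LK LD1_c8 LD2_c40 LD3_c40)) = (LP (LK LD1_c14 LD2_c57 LD3_c10)) :=
  Lgr Lrot81 (Lpr_at (f243200 IH) (Lpr_bt (K13.f243191 IH) (Lpr_at (K15.f262573 IH) (Lpr_bt (f42738 IH) (Lpr_at (f262580 IH) (Lpn (LP (LK LD1_c14 LD2_c57 LD3_c10))))))))
theorem f385709 : Led Lsl_df (LP (LK LD1_c14 LD2_c57 LD3_c10)) = (LP (LK LD1_c17 LD2_c44 LD3_c34)) :=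
  Lgr Lrot12 (Lpe (f262581 IH) (Lpr_dt (f243244 IH) (Lpr_bt (K38.f385705 IH) (Lpn (LP (LK LD1_c17 LD2_c44 LD3_c34))))))
theorem f385652 : Led Lsl_at (LP (LK LD1_c8 LD2_c40 LD3_c60)) = (LP (LK LD1_c16 LD2_c15 LD3_c39)) :=
  Lre_a IH (LK LD1_c8 LD2_c40 LD3_c60) (LK LD1_c16 LD2_c15 LD3_c39) Lrfl Lrfl
theorem f385653 : Led Lsl_at (LP (LK LD1_c17 LD2_c44 LD3_c34)) = (LP (LK LD1_c9 LD2_c38 LD3_c26)) :=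
  Lre_a IH (LK LD1_c17 LD2_c44 LD3_c34) (LK LD1_c9 LD2_c38 LD3_c26) Lrfl Lrfl
theorem f385654 : Led Lsl_ft (LP (LK LD1_c16 LD2_c15 LD3_c39)) = (LP (LK LD1_c17 LD2_c44 LD3_c34)) :=
  Lgr Lrot101 (Lpe (f385652 IH) (Lpr_ff (K38.f385647 IH) (Lpe (f385653 IH) (Lpn (LP (LK LD1_c17 LD2_c44 LD3_c34))))))
theorem f372425 : Led Lsl_dt (LP (LK LD1_c8 LD2_c40 LD3_c59)) = (LP (LK LD1_c16 LD2_c15 LD3_c39)) :=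
  Lre_d IH (LK LD1_c8 LD2_c40 LD3_c59) (LK LD1_c16 LD2_c15 LD3_c39) Lrfl Lrfl
theorem f385716 : Led Lsl_ft (LP (LK LD1_c14 LD2_c57 LD3_c10)) = (LP (LK LD1_c8 LD2_c40 LD3_c59)) :=
  Lgr Lrot54 (Lpr_df (f385709 IH) (Lpe (f385654 IH) (Lpe (f372425 IH) (Lpn (LP (LK LD1_c8 LD2_c40 LD3_c59))))))
theorem f373819 : Led Lsl_ff (LP (LK LD1_c8 LD2_c40 LD3_c40)) = (LP (LK LD1_c14 LD2_c57 LD3_c19)) :=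
  Lgr Lrot19 (Lpr_dt (f243244 IH) (Lpr_ft (K27.f373770 IH) (Lpe (K27.f224971 IH) (Lpn (LP (LK LD1_c14 LD2_c57 LD3_c19))))))
theorem f385719 : Led Lsl_bf (LP (LK LD1_c14 LD2_c57 LD3_c10)) = (LP (LK LD1_c8 LD2_c40 LD3_c40)) :=
  Lgr Lrot61 (Lpr_ft (f385716 IH) (Lpr_bt (K15.f262610 IH) (Lpe (f373819 IH) (Lpn (LP (LK LD1_c8 LD2_c40 LD3_c40))))))
theorem f406884 : Led Lsl_gf (LP (LK LD1_c14 LD2_c57 LD3_c10)) = (LP (LK LD1_c8 LD2_c40 LD3_c57)) :=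
  Lgr Lrot124 (Lpr_bf (f385719 IH) (Lpe (K27.f243189 IH) (Lpr_gt (f373837 IH) (Lpr_cf (f401138 IH) (Lpr_bt (K38.f232281 IH) (Lpe (K52.f297527 IH) (Lpr_ct (f168474 IH) (Lpr_gt (K52.f406880 IH) (Lpr_cf (K52.f238516 IH) (Lpr_bt (K52.f238515 IH) (Lpn (LP (LK LD1_c8 LD2_c40 LD3_c57)))))))))))))
theorem f385718 : Led Lsl_at (LP (LK LD1_c8 LD2_c40 LD3_c59)) = (LP (LK LD1_c4 LD2_c21 LD3_c41)) :=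
  Lre_a IH (LK LD1_c8 LD2_c40 LD3_c59) (LK LD1_c4 LD2_c21 LD3_c41) Lrfl Lrfl
theorem f238740 : Led Lsl_gt (LP (LK LD1_c8 LD2_c40 LD3_c58)) = (LP (LK LD1_c4 LD2_c21 LD3_c41)) :=
  Lre_g IH (LK LD1_c8 LD2_c40 LD3_c58) (LK LD1_c4 LD2_c21 LD3_c41) Lrfl Lrfl
theorem f385725 : Led Lsl_gt (LP (LK LD1_c14 LD2_c57 LD3_c10)) = (LP (LK LD1_c8 LD2_c40 LD3_c58)) :=
  Lgr Lrot5 (Lpr_ft (f385716 IH) (Lpr_at (f385718 IH) (Lpe (f238740 IH) (Lpn (LP (LK LD1_c8 LD2_c40 LD3_c58))))))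
theorem f605903 : Led Lsl_af (LP (LK LD1_c8 LD2_c40 LD3_c58)) = (LP (LK LD1_c14 LD2_c57 LD3_c8)) :=
  Lgr Lrot31 (Lpe (f385725 IH) (Lpr_gf (f406884 IH) (Lpr_ft (f605885 IH) (Lpn (LP (LK LD1_c14 LD2_c57 LD3_c8))))))
theorem f605905 : Led Lsl_at (LP (LK LD1_c8 LD2_c40 LD3_c58)) = (LP (LK LD1_c14 LD2_c57 LD3_c8)) :=
  Lgr Lrot100 (Lpr_af (f605903 IH) (Lpn (LP (LK LD1_c14 LD2_c57 LD3_c8))))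
theorem f229899 : Led Lsl_gt (LP (LK LD1_c14 LD2_c57 LD3_c9)) = (LP (LK LD1_c7 LD2_c55 LD3_c33)) :=
  Lre_g IH (LK LD1_c14 LD2_c57 LD3_c9) (LK LD1_c7 LD2_c55 LD3_c33) Lrfl Lrfl
theorem f605918 : Led Lsl_ff (LP (LK LD1_c8 LD2_c40 LD3_c58)) = (LP (LK LD1_c14 LD2_c57 LD3_c9)) :=
  Lgr Lrot52 (Lpr_at (f605905 IH) (Lpe (f42739 IH) (Lpe (f229899 IH) (Lpn (LP (LK LD1_c14 LD2_c57 LD3_c9))))))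
theorem f605926 : Led Lsl_ft (LP (LK LD1_c8 LD2_c40 LD3_c58)) = (LP (LK LD1_c14 LD2_c57 LD3_c9)) :=
  Lgr Lrot48 (Lpr_ff (f605918 IH) (Lpn (LP (LK LD1_c14 LD2_c57 LD3_c9))))
theorem f605928 : Led Lsl_af (LP (LK LD1_c8 LD2_c40 LD3_c57)) = (LP (LK LD1_c14 LD2_c57 LD3_c9)) :=
  Lgr Lrot45 (Lpr_ft (f605885 IH) (Lpe (f605903 IH) (Lpr_ft (f605926 IH) (Lpn (LP (LK LD1_c14 LD2_c57 LD3_c9))))))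
theorem f43120 : Led Lsl_dt (LP (LK LD1_c8 LD2_c40 LD3_c57)) = (LP (LK LD1_c16 LD2_c15 LD3_c33)) :=
  Lre_d IH (LK LD1_c8 LD2_c40 LD3_c57) (LK LD1_c16 LD2_c15 LD3_c33) Lrfl Lrfl
theorem f238922 : Led Lsl_bt (LP (LK LD1_c9 LD2_c38 LD3_c3)) = (LP (LK LD1_c4 LD2_c53 LD3_c4)) :=
  Lre_b IH (LK LD1_c9 LD2_c38 LD3_c3) (LK LD1_c4 LD2_c53 LD3_c4) Lrfl Lrfl
theorem f269712 : Led Lsl_ft (LP (LK LD1_c8 LD2_c41 LD3_c33)) = (LP (LK LD1_c9 LD2_c38 LD3_c3)) :=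
  Lgr Lrot75 (Lpe (K52.f269702 IH) (Lpr_ff (K16.f269700 IH) (Lpe (f238922 IH) (Lpn (LP (LK LD1_c9 LD2_c38 LD3_c3))))))
theorem f326193 : Led Lsl_at (LP (LK LD1_c9 LD2_c38 LD3_c3)) = (LP (LK LD1_c17 LD2_c43 LD3_c45)) :=
  Lre_a IH (LK LD1_c9 LD2_c38 LD3_c3) (LK LD1_c17 LD2_c43 LD3_c45) Lrfl Lrfl
theorem f411559 : Led Lsl_gt (LP (LK LD1_c16 LD2_c16 LD3_c47)) = (LP (LK LD1_c17 LD2_c43 LD3_c45)) :=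
  Lgr Lrot46 (Lpe (K52.f269703 IH) (Lpr_ft (f269712 IH) (Lpr_at (f326193 IH) (Lpn (LP (LK LD1_c17 LD2_c43 LD3_c45))))))
theorem f270127 : Led Lsl_dt (LP (LK LD1_c16 LD2_c16 LD3_c46)) = (LP (LK LD1_c8 LD2_c41 LD3_c32)) :=
  Lre_d IH (LK LD1_c16 LD2_c16 LD3_c46) (LK LD1_c8 LD2_c41 LD3_c32) Lrfl Lrfl
theorem f326153 : Led Lsl_dt (LP (LK LD1_c9 LD2_c38 LD3_c1)) = (LP (LK LD1_c17 LD2_c43 LD3_c45)) :=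
  Lre_d IH (LK LD1_c9 LD2_c38 LD3_c1) (LK LD1_c17 LD2_c43 LD3_c45) Lrfl Lrfl
theorem f326154 : Led Lsl_ff (LP (LK LD1_c16 LD2_c16 LD3_c46)) = (LP (LK LD1_c17 LD2_c43 LD3_c45)) :=
  Lgr Lrot19 (Lpr_dt (f270127 IH) (Lpr_ft (K30.f326146 IH) (Lpr_dt (f326153 IH) (Lpn (LP (LK LD1_c17 LD2_c43 LD3_c45))))))
theorem f269726 : Led Lsl_at (LP (LK LD1_c16 LD2_c16 LD3_c46)) = (LP (LK LD1_c8 LD2_c41 LD3_c33)) :=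
  Lre_a IH (LK LD1_c16 LD2_c16 LD3_c46) (LK LD1_c8 LD2_c41 LD3_c33) Lrfl Lrfl
theorem f326195 : Led Lsl_gf (LP (LK LD1_c16 LD2_c16 LD3_c48)) = (LP (LK LD1_c17 LD2_c43 LD3_c45)) :=
  Lgr Lrot47 (Lpr_gt (f219174 IH) (Lpe (f269726 IH) (Lpr_ff (f326154 IH) (Lpn (LP (LK LD1_c17 LD2_c43 LD3_c45))))))
theorem f605887 : Led Lsl_at (LP (LK LD1_c16 LD2_c15 LD3_c33)) = (LP (LK LD1_c16 LD2_c16 LD3_c48)) :=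
  Lgr Lrot26 (Lpr_ff (f605788 IH) (Lpr_gt (f411559 IH) (Lpe (f326195 IH) (Lpn (LP (LK LD1_c16 LD2_c16 LD3_c48))))))
theorem f605947 : Led Lsl_dt (LP (LK LD1_c16 LD2_c16 LD3_c48)) = (LP (LK LD1_c14 LD2_c57 LD3_c9)) :=
  Lgr Lrot44 (Lpe (f605887 IH) (Lpe (f43120 IH) (Lpr_af (f605928 IH) (Lpn (LP (LK LD1_c14 LD2_c57 LD3_c9))))))
theorem f605961 : Led Lsl_df (LP (LK LD1_c16 LD2_c16 LD3_c48)) = (LP (LK LD1_c14 LD2_c57 LD3_c9)) :=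
  Lgr Lrot38 (Lpr_dt (f605947 IH) (Lpn (LP (LK LD1_c14 LD2_c57 LD3_c9))))
theorem f385723 : Led Lsl_ff (LP (LK LD1_c14 LD2_c57 LD3_c10)) = (LP (LK LD1_c8 LD2_c40 LD3_c59)) :=
  Lgr Lrot3 (Lpr_ft (f385716 IH) (Lpn (LP (LK LD1_c8 LD2_c40 LD3_c59))))
theorem f385711 : Led Lsl_at (LP (LK LD1_c14 LD2_c57 LD3_c10)) = (LP (LK LD1_c7 LD2_c55 LD3_c33)) :=
  Lre_a IH (LK LD1_c14 LD2_c57 LD3_c10) (LK LD1_c7 LD2_c55 LD3_c33) Lrfl Lrfl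
theorem f385740 : Led Lsl_gf (LP (LK LD1_c14 LD2_c57 LD3_c9)) = (LP (LK LD1_c8 LD2_c40 LD3_c59)) :=
  Lgr Lrot47 (Lpr_gt (f229899 IH) (Lpe (f385711 IH) (Lpr_ff (f385723 IH) (Lpn (LP (LK LD1_c8 LD2_c40 LD3_c59))))))
theorem f262729 : Led Lsl_ct (LP (LK LD1_c8 LD2_c40 LD3_c59)) = (LP (LK LD1_c16 LD2_c15 LD3_c26)) :=
  Lre_c IH (LK LD1_c8 LD2_c40 LD3_c59) (LK LD1_c16 LD2_c15 LD3_c26) Lrfl Lrfl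
theorem f579318 : Led Lsl_dt (LP (LK LD1_c11 LD2_c19 LD3_c3)) = (LP (LK LD1_c5 LD2_c44 LD3_c29)) :=
  Lre_d IH (LK LD1_c11 LD2_c19 LD3_c3) (LK LD1_c5 LD2_c44 LD3_c29) Lrfl Lrfl
theorem f619299 : Led Lsl_gt (LP (LK LD1_c16 LD2_c15 LD3_c26)) = (LP (LK LD1_c11 LD2_c19 LD3_c3)) :=
  Lgr Lrot94 (Lpe (f262729 IH) (Lpe (f385740 IH) (Lpe (f605961 IH) (Lpr_gt (f219174 IH) (Lpr_dt (f219173 IH) (Lpe (K30.f219176 IH) (Lpr_df (f619291 IH) (Lpe (f404913 IH) (Lpe (f579318 IH) (Lpn (LP (LK LD1_c11 LD2_c19 LD3_c3))))))))))))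
theorem f262728 : Led Lsl_ct (LP (LK LD1_c15 LD2_c59 LD3_c2)) = (LP (LK LD1_c8 LD2_c30 LD3_c60)) :=
  Lre_c IH (LK LD1_c15 LD2_c59 LD3_c2) (LK LD1_c8 LD2_c30 LD3_c60) Lrfl Lrfl
theorem f373989 : Led Lsl_gf (LP (LK LD1_c8 LD2_c40 LD3_c39)) = (LP (LK LD1_c14 LD2_c57 LD3_c19)) :=
  Lgr Lrot47 (Lpr_gt (f243214 IH) (Lpe (f243200 IH) (Lpr_ff (f373819 IH) (Lpn (LP (LK LD1_c14 LD2_c57 LD3_c19))))))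
theorem f243212 : Led Lsl_bt (LP (LK LD1_c4 LD2_c15 LD3_c43)) = (LP (LK LD1_c2 LD2_c5 LD3_c12)) :=
  Lre_b IH (LK LD1_c4 LD2_c15 LD3_c43) (LK LD1_c2 LD2_c5 LD3_c12) Lrfl Lrfl
theorem f219109 : Led Lsl_gt (LP (LK LD1_c10 LD2_c52 LD3_c0)) = (LP (LK LD1_c19 LD2_c38 LD3_c50)) :=
  Lre_g IH (LK LD1_c10 LD2_c52 LD3_c0) (LK LD1_c19 LD2_c38 LD3_c50) Lrfl Lrfl
theorem f263691 : Led Lsl_bt (LP (LK LD1_c16 LD2_c15 LD3_c5)) = (LP (LK LD1_c19 LD2_c38 LD3_c50)) :=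
  Lgr Lrot92 (Lpr_ct (f243215 IH) (Lpr_gt (f243214 IH) (Lpe (K13.f243173 IH) (Lpr_bt (f243212 IH) (Lpr_gt (K15.f243213 IH) (Lpr_ct (K15.f243398 IH) (Lpr_gt (K15.f263684 IH) (Lpr_cf (K16.f219087 IH) (Lpr_bt (K49.f219106 IH) (Lpr_gt (f219109 IH) (Lpn (LP (LK LD1_c19 LD2_c38 LD3_c50)))))))))))))
theorem f188691 : Led Lsl_at (LP (LK LD1_c15 LD2_c51 LD3_c17)) = (LP (LK LD1_c25 LD2_c47 LD3_c11)) :=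
  Lre_a IH (LK LD1_c15 LD2_c51 LD3_c17) (LK LD1_c25 LD2_c47 LD3_c11) Lrfl Lrfl
theorem f349290 : Led Lsl_gf (LP (LK LD1_c25 LD2_c47 LD3_c11)) = (LP (LK LD1_c19 LD2_c38 LD3_c50)) :=
  Lgr Lrot76 (Lpe (f188691 IH) (Lpr_ff (K49.f349280 IH) (Lpr_gt (f219109 IH) (Lpn (LP (LK LD1_c19 LD2_c38 LD3_c50))))))
theorem f188649 : Led Lsl_bt (LP (LK LD1_c24 LD2_c49 LD3_c12)) = (LP (LK LD1_c15 LD2_c1 LD3_c18)) :=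
  Lre_b IH (LK LD1_c24 LD2_c49 LD3_c12) (LK LD1_c15 LD2_c1 LD3_c18) Lrfl Lrfl
theorem f188650 : Led Lsl_ct (LP (LK LD1_c8 LD2_c26 LD3_c33)) = (LP (LK LD1_c15 LD2_c51 LD3_c18)) :=
  Lre_c IH (LK LD1_c8 LD2_c26 LD3_c33) (LK LD1_c15 LD2_c51 LD3_c18) Lrfl Lrfl
theorem f188651 : Led Lsl_bt (LP (LK LD1_c15 LD2_c51 LD3_c18)) = (LP (LK LD1_c25 LD2_c47 LD3_c12)) :=
  Lre_b IH (LK LD1_c15 LD2_c51 LD3_c18) (LK LD1_c25 LD2_c47 LD3_c12) Lrfl Lrfl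
theorem f188652 : Led Lsl_cf (LP (LK LD1_c24 LD2_c49 LD3_c12)) = (LP (LK LD1_c25 LD2_c47 LD3_c12)) :=
  Lgr Lrot97 (Lpr_bt (f188649 IH) (Lpr_ct (K26.f188648 IH) (Lpr_bt (K12.f188643 IH) (Lpr_ct (f188650 IH) (Lpr_bt (f188651 IH) (Lpn (LP (LK LD1_c25 LD2_c47 LD3_c12))))))))
theorem f188666 : Led Lsl_ct (LP (LK LD1_c24 LD2_c49 LD3_c12)) = (LP (LK LD1_c25 LD2_c47 LD3_c12)) :=
  Lgr Lrot59 (Lpr_cf (f188652 IH) (Lpn (LP (LK LD1_c25 LD2_c47 LD3_c12))))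
theorem f188674 : Led Lsl_et (LP (LK LD1_c15 LD2_c1 LD3_c17)) = (LP (LK LD1_c24 LD2_c49 LD3_c12)) :=
  Lre_e IH (LK LD1_c15 LD2_c1 LD3_c17) (LK LD1_c24 LD2_c49 LD3_c12) Lrfl Lrfl
theorem f188675 : Led Lsl_et (LP (LK LD1_c25 LD2_c47 LD3_c12)) = (LP (LK LD1_c15 LD2_c51 LD3_c17)) :=
  Lre_e IH (LK LD1_c25 LD2_c47 LD3_c12) (LK LD1_c15 LD2_c51 LD3_c17) Lrfl Lrfl
theorem f188676 : Led Lsl_cf (LP (LK LD1_c15 LD2_c1 LD3_c17)) = (LP (LK LD1_c15 LD2_c51 LD3_c17)) :=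
  Lgr Lrot39 (Lpr_et (f188674 IH) (Lpr_ct (f188666 IH) (Lpr_et (f188675 IH) (Lpn (LP (LK LD1_c15 LD2_c51 LD3_c17))))))
theorem f188678 : Led Lsl_at (LP (LK LD1_c15 LD2_c1 LD3_c17)) = (LP (LK LD1_c24 LD2_c49 LD3_c11)) :=
  Lre_a IH (LK LD1_c15 LD2_c1 LD3_c17) (LK LD1_c24 LD2_c49 LD3_c11) Lrfl Lrfl
theorem f188680 : Led Lsl_ct (LP (LK LD1_c24 LD2_c49 LD3_c11)) = (LP (LK LD1_c25 LD2_c47 LD3_c11)) :=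
  Lgr Lrot111 (Lpe (f188678 IH) (Lpr_cf (f188676 IH) (Lpe (K49.f188679 IH) (Lpn (LP (LK LD1_c25 LD2_c47 LD3_c11))))))
theorem f188688 : Led Lsl_cf (LP (LK LD1_c24 LD2_c49 LD3_c11)) = (LP (LK LD1_c25 LD2_c47 LD3_c11)) :=
  Lgr Lrot11 (Lpr_ct (f188680 IH) (Lpn (LP (LK LD1_c25 LD2_c47 LD3_c11))))
theorem f188636 : Led Lsl_bt (LP (LK LD1_c7 LD2_c57 LD3_c51)) = (LP (LK LD1_c15 LD2_c1 LD3_c17)) :=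
  Lre_b IH (LK LD1_c7 LD2_c57 LD3_c51) (LK LD1_c15 LD2_c1 LD3_c17) Lrfl Lrfl
theorem f188639 : Led Lsl_ct (LP (LK LD1_c15 LD2_c1 LD3_c17)) = (LP (LK LD1_c15 LD2_c51 LD3_c17)) :=
  Lgr Lrot83 (Lpe (f188636 IH) (Lpe (K15.f188635 IH) (Lpr_bf (K12.f188590 IH) (Lpe (K13.f188637 IH) (Lpe (K49.f188638 IH) (Lpn (LP (LK LD1_c15 LD2_c51 LD3_c17))))))))
theorem f349294 : Led Lsl_ff (LP (LK LD1_c15 LD2_c1 LD3_c17)) = (LP (LK LD1_c16 LD2_c4 LD3_c10)) :=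
  Lgr Lrot23 (Lpr_ct (f188639 IH) (Lpr_ft (K49.f349288 IH) (Lpr_ct (K26.f349011 IH) (Lpn (LP (LK LD1_c16 LD2_c4 LD3_c10))))))
theorem f349300 : Led Lsl_ft (LP (LK LD1_c24 LD2_c49 LD3_c11)) = (LP (LK LD1_c26 LD2_c1 LD3_c23)) :=
  Lgr Lrot101 (Lpe (f188678 IH) (Lpr_ff (f349294 IH) (Lpe (K26.f348992 IH) (Lpn (LP (LK LD1_c26 LD2_c1 LD3_c23))))))
theorem f311748 : Led Lsl_gt (LP (LK LD1_c26 LD2_c1 LD3_c22)) = (LP (LK LD1_c16 LD2_c4 LD3_c10)) :=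
  Lre_g IH (LK LD1_c26 LD2_c1 LD3_c22) (LK LD1_c16 LD2_c4 LD3_c10) Lrfl Lrfl
theorem f349306 : Led Lsl_gt (LP (LK LD1_c24 LD2_c49 LD3_c11)) = (LP (LK LD1_c26 LD2_c1 LD3_c22)) :=
  Lgr Lrot5 (Lpr_ft (f349300 IH) (Lpr_at (K26.f348992 IH) (Lpe (f311748 IH) (Lpn (LP (LK LD1_c26 LD2_c1 LD3_c22))))))
theorem f283199 : Led Lsl_gt (LP (LK LD1_c5 LD2_c30 LD3_c18)) = (LP (LK LD1_c8 LD2_c29 LD3_c35)) :=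
  Lgr Lrot49 (Lpr_df (K16.f278075 IH) (Lpe (K16.f51928 IH) (Lpe (K16.f52006 IH) (Lpr_gt (K18.f261474 IH) (Lpr_dt (K15.f244812 IH) (Lpr_gt (K16.f245060 IH) (Lpe (K17.f282800 IH) (Lpr_cf (K17.f271647 IH) (Lpr_df (K17.f283192 IH) (Lpn (LP (LK LD1_c8 LD2_c29 LD3_c35))))))))))))
theorem f213847 : Led Lsl_ct (LP (LK LD1_c4 LD2_c15 LD3_c22)) = (LP (LK LD1_c2 LD2_c5 LD3_c2)) :=
  Lre_c IH (LK LD1_c4 LD2_c15 LD3_c22) (LK LD1_c2 LD2_c5 LD3_c2) Lrfl Lrfl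
theorem f51419 : Led Lsl_bt (LP (LK LD1_c4 LD2_c15 LD3_c22)) = (LP (LK LD1_c8 LD2_c29 LD3_c36)) :=
  Lre_b IH (LK LD1_c4 LD2_c15 LD3_c22) (LK LD1_c8 LD2_c29 LD3_c36) Lrfl Lrfl
theorem f51420 : Led Lsl_gt (LP (LK LD1_c8 LD2_c29 LD3_c36)) = (LP (LK LD1_c15 LD2_c56 LD3_c49)) :=
  Lre_g IH (LK LD1_c8 LD2_c29 LD3_c36) (LK LD1_c15 LD2_c56 LD3_c49) Lrfl Lrfl
theorem f349016 : Led Lsl_bt (LP (LK LD1_c25 LD2_c53 LD3_c22)) = (LP (LK LD1_c15 LD2_c56 LD3_c49)) :=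
  Lre_b IH (LK LD1_c25 LD2_c53 LD3_c22) (LK LD1_c15 LD2_c56 LD3_c49) Lrfl Lrfl
theorem f349017 : Led Lsl_ct (LP (LK LD1_c25 LD2_c53 LD3_c22)) = (LP (LK LD1_c26 LD2_c1 LD3_c22)) :=
  Lgr Lrot64 (Lpr_bt (f349016 IH) (Lpe (f51420 IH) (Lpe (f51419 IH) (Lpr_ct (f213847 IH) (Lpe (K17.f49035 IH) (Lpe (K52.f282703 IH) (Lpe (f283199 IH) (Lpe (K26.f219097 IH) (Lpr_ct (K26.f349011 IH) (Lpe (f311748 IH) (Lpn (LP (LK LD1_c26 LD2_c1 LD3_c22)))))))))))))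
theorem f373991 : Led Lsl_gt (LP (LK LD1_c15 LD2_c56 LD3_c49)) = (LP (LK LD1_c8 LD2_c30 LD3_c60)) :=
  Lgr Lrot164 (Lpe (f349016 IH) (Lpr_ct (f349017 IH) (Lpe (f349306 IH) (Lpr_cf (f188688 IH) (Lpr_gf (f349290 IH) (Lpe (f263691 IH) (Lpr_ct (f243215 IH) (Lpr_gf (f373989 IH) (Lpr_cf (K31.f197697 IH) (Lpe (K15.f262737 IH) (Lpn (LP (LK LD1_c8 LD2_c30 LD3_c60)))))))))))))
theorem f178774 : Led Lsl_gt (LP (LK LD1_c8 LD2_c20 LD3_c43)) = (LP (LK LD1_c15 LD2_c42 LD3_c29)) :=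
  Lre_g IH (LK LD1_c8 LD2_c20 LD3_c43) (LK LD1_c15 LD2_c42 LD3_c29) Lrfl Lrfl
theorem f380978 : Led Lsl_gt (LP (LK LD1_c15 LD2_c42 LD3_c29)) = (LP (LK LD1_c16 LD2_c4 LD3_c37)) :=
  Lgr Lrot46 (Lpe (f178774 IH) (Lpr_ft (K27.f380972 IH) (Lpr_at (K27.f179679 IH) (Lpn (LP (LK LD1_c16 LD2_c4 LD3_c37))))))
theorem f172880 : Led Lsl_bt (LP (LK LD1_c10 LD2_c49 LD3_c43)) = (LP (LK LD1_c5 LD2_c29 LD3_c13)) :=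
  Lre_b IH (LK LD1_c10 LD2_c49 LD3_c43) (LK LD1_c5 LD2_c29 LD3_c13) Lrfl Lrfl
theorem f172881 : Led Lsl_ct (LP (LK LD1_c2 LD2_c48 LD3_c34)) = (LP (LK LD1_c5 LD2_c45 LD3_c35)) :=
  Lre_c IH (LK LD1_c2 LD2_c48 LD3_c34) (LK LD1_c5 LD2_c45 LD3_c35) Lrfl Lrfl
theorem f172882 : Led Lsl_gt (LP (LK LD1_c5 LD2_c45 LD3_c35)) = (LP (LK LD1_c11 LD2_c21 LD3_c36)) :=
  Lre_g IH (LK LD1_c5 LD2_c45 LD3_c35) (LK LD1_c11 LD2_c21 LD3_c36) Lrfl Lrfl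
theorem f172883 : Led Lsl_ct (LP (LK LD1_c10 LD2_c49 LD3_c43)) = (LP (LK LD1_c11 LD2_c21 LD3_c36)) :=
  Lgr Lrot63 (Lpr_bt (f172880 IH) (Lpr_gt (K31.f172879 IH) (Lpe (K13.f172401 IH) (Lpr_ct (K9.f172404 IH) (Lpr_gt (K9.f22481 IH) (Lpe (K9.f171852 IH) (Lpr_bt (K27.f172877 IH) (Lpr_gt (K27.f172878 IH) (Lpr_ct (f172881 IH) (Lpr_gt (f172882 IH) (Lpn (LP (LK LD1_c11 LD2_c21 LD3_c36)))))))))))))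
theorem f172892 : Led Lsl_cf (LP (LK LD1_c10 LD2_c49 LD3_c43)) = (LP (LK LD1_c11 LD2_c21 LD3_c36)) :=
  Lgr Lrot11 (Lpr_ct (f172883 IH) (Lpn (LP (LK LD1_c11 LD2_c21 LD3_c36))))
theorem f172911 : Led Lsl_dt (LP (LK LD1_c11 LD2_c21 LD3_c38)) = (LP (LK LD1_c5 LD2_c45 LD3_c35)) :=
  Lre_d IH (LK LD1_c11 LD2_c21 LD3_c38) (LK LD1_c5 LD2_c45 LD3_c35) Lrfl Lrfl
theorem f172912 : Led Lsl_gt (LP (LK LD1_c11 LD2_c21 LD3_c38)) = (LP (LK LD1_c20 LD2_c19 LD3_c18)) :=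
  Lre_g IH (LK LD1_c11 LD2_c21 LD3_c38) (LK LD1_c20 LD2_c19 LD3_c18) Lrfl Lrfl
theorem f399555 : Led Lsl_cf (LP (LK LD1_c15 LD2_c42 LD3_c29)) = (LP (LK LD1_c20 LD2_c19 LD3_c18)) :=
  Lgr Lrot169 (Lpr_gt (f380978 IH) (Lpe (K27.f179680 IH) (Lpe (K30.f383089 IH) (Lpe (K30.f173472 IH) (Lpr_gf (K50.f399549 IH) (Lpr_cf (f172892 IH) (Lpe (f172882 IH) (Lpe (f172911 IH) (Lpr_gt (f172912 IH) (Lpn (LP (LK LD1_c20 LD2_c19 LD3_c18))))))))))))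
theorem f399567 : Led Lsl_ct (LP (LK LD1_c15 LD2_c42 LD3_c29)) = (LP (LK LD1_c20 LD2_c19 LD3_c18)) :=
  Lgr Lrot59 (Lpr_cf (f399555 IH) (Lpn (LP (LK LD1_c20 LD2_c19 LD3_c18))))
theorem f399571 : Led Lsl_dt (LP (LK LD1_c16 LD2_c48 LD3_c13)) = (LP (LK LD1_c20 LD2_c19 LD3_c18)) :=
  Lgr Lrot27 (Lpr_cf (K31.f382514 IH) (Lpe (K31.f392429 IH) (Lpe (K17.f290333 IH) (Lpr_gf (K27.f382620 IH) (Lpr_df (K30.f382758 IH) (Lpr_gt (K27.f178813 IH) (Lpe (K27.f178802 IH) (Lpr_gt (f178774 IH) (Lpr_ct (f399567 IH) (Lpn (LP (LK LD1_c20 LD2_c19 LD3_c18))))))))))))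
theorem f382499 : Led Lsl_ct (LP (LK LD1_c8 LD2_c59 LD3_c2)) = (LP (LK LD1_c4 LD2_c30 LD3_c23)) :=
  Lre_c IH (LK LD1_c8 LD2_c59 LD3_c2) (LK LD1_c4 LD2_c30 LD3_c23) Lrfl Lrfl
theorem f179171 : Led Lsl_ct (LP (LK LD1_c2 LD2_c48 LD3_c35)) = (LP (LK LD1_c5 LD2_c45 LD3_c37)) :=
  Lre_c IH (LK LD1_c2 LD2_c48 LD3_c35) (LK LD1_c5 LD2_c45 LD3_c37) Lrfl Lrfl
theorem f179157 : Led Lsl_dt (LP (LK LD1_c11 LD2_c21 LD3_c41)) = (LP (LK LD1_c5 LD2_c45 LD3_c37)) :=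
  Lre_d IH (LK LD1_c11 LD2_c21 LD3_c41) (LK LD1_c5 LD2_c45 LD3_c37) Lrfl Lrfl
theorem f399591 : Led Lsl_gf (LP (LK LD1_c11 LD2_c21 LD3_c41)) = (LP (LK LD1_c20 LD2_c19 LD3_c18)) :=
  Lgr Lrot143 (Lpr_dt (f179157 IH) (Lpe (f179171 IH) (Lpr_df (K30.f179160 IH) (Lpe (K30.f341340 IH) (Lpe (K30.f382567 IH) (Lpe (K27.f382488 IH) (Lpe (f382499 IH) (Lpr_gt (K31.f382493 IH) (Lpr_dt (f399571 IH) (Lpn (LP (LK LD1_c20 LD2_c19 LD3_c18))))))))))))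
theorem f179158 : Led Lsl_ct (LP (LK LD1_c20 LD2_c19 LD3_c22)) = (LP (LK LD1_c11 LD2_c21 LD3_c41)) :=
  Lre_c IH (LK LD1_c20 LD2_c19 LD3_c22) (LK LD1_c11 LD2_c21 LD3_c41) Lrfl Lrfl
theorem f399596 : Led Lsl_bt (LP (LK LD1_c20 LD2_c19 LD3_c22)) = (LP (LK LD1_c26 LD2_c1 LD3_c22)) :=
  Lgr Lrot22 (Lpr_ct (f179158 IH) (Lpr_gf (f399591 IH) (Lpe (f399567 IH) (Lpe (f178774 IH) (Lpe (K31.f178758 IH) (Lpr_ct (K19.f178764 IH) (Lpe (K19.f311743 IH) (Lpr_cf (K19.f311732 IH) (Lpr_bt (K26.f311747 IH) (Lpe (f311748 IH) (Lpn (LP (LK LD1_c26 LD2_c1 LD3_c22)))))))))))))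
theorem f179173 : Led Lsl_ct (LP (LK LD1_c11 LD2_c21 LD3_c41)) = (LP (LK LD1_c20 LD2_c19 LD3_c22)) :=
  Lre_c IH (LK LD1_c11 LD2_c21 LD3_c41) (LK LD1_c20 LD2_c19 LD3_c22) Lrfl Lrfl
theorem f399595 : Led Lsl_bt (LP (LK LD1_c20 LD2_c19 LD3_c21)) = (LP (LK LD1_c11 LD2_c21 LD3_c41)) :=
  Lre_b IH (LK LD1_c20 LD2_c19 LD3_c21) (LK LD1_c11 LD2_c21 LD3_c41) Lrfl Lrfl
theorem f349020 : Led Lsl_cf (LP (LK LD1_c25 LD2_c53 LD3_c22)) = (LP (LK LD1_c26 LD2_c1 LD3_c22)) :=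
  Lgr Lrot11 (Lpr_ct (f349017 IH) (Lpn (LP (LK LD1_c26 LD2_c1 LD3_c22))))
theorem f399601 : Led Lsl_cf (LP (LK LD1_c20 LD2_c19 LD3_c21)) = (LP (LK LD1_c15 LD2_c56 LD3_c49)) :=
  Lgr Lrot97 (Lpr_bt (f399595 IH) (Lpr_ct (f179173 IH) (Lpr_bt (f399596 IH) (Lpe (f349020 IH) (Lpr_bt (f349016 IH) (Lpn (LP (LK LD1_c15 LD2_c56 LD3_c49))))))))
theorem f399609 : Led Lsl_ct (LP (LK LD1_c20 LD2_c19 LD3_c21)) = (LP (LK LD1_c15 LD2_c56 LD3_c49)) :=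
  Lgr Lrot59 (Lpr_cf (f399601 IH) (Lpn (LP (LK LD1_c15 LD2_c56 LD3_c49))))
theorem f579870 : Led Lsl_dt (LP (LK LD1_c9 LD2_c45 LD3_c29)) = (LP (LK LD1_c15 LD2_c45 LD3_c51)) :=
  Lgr Lrot42 (Lpr_df (K44.f579863 IH) (Lpn (LP (LK LD1_c15 LD2_c45 LD3_c51))))
theorem f80292 : Led Lsl_dt (LP (LK LD1_c11 LD2_c59 LD3_c7)) = (LP (LK LD1_c6 LD2_c8 LD3_c53)) :=
  Lre_d IH (LK LD1_c11 LD2_c59 LD3_c7) (LK LD1_c6 LD2_c8 LD3_c53) Lrfl Lrfl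
theorem f738485 : Led Lsl_gf (LP (LK LD1_c11 LD2_c59 LD3_c7)) = v15651 :=
  Lgr Lrot148 (Lpr_dt (f80292 IH) (Lpe (K44.f579829 IH) (Lpr_dt (f579870 IH) (Lpr_ct (K20.f270619 IH) (Lpr_df (K39.f382459 IH) (Lpr_gf (K39.f381244 IH) (Lpr_df (K36.f383326 IH) (Lpe (K36.f383325 IH) (Lpr_ct (f738482 IH) (Lpn v15651))))))))))
theorem f562142 : Led Lsl_ct (LP (LK LD1_c11 LD2_c17 LD3_c3)) = (LP (LK LD1_c11 LD2_c59 LD3_c7)) :=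
  Lgr Lrot59 (Lpr_cf (K40.f562140 IH) (Lpn (LP (LK LD1_c11 LD2_c59 LD3_c7))))
theorem f562116 : Led Lsl_bt (LP (LK LD1_c11 LD2_c17 LD3_c3)) = (LP (LK LD1_c20 LD2_c13 LD3_c3)) :=
  Lre_b IH (LK LD1_c11 LD2_c17 LD3_c3) (LK LD1_c20 LD2_c13 LD3_c3) Lrfl Lrfl
theorem f738486 : Led Lsl_gf (LP (LK LD1_c20 LD2_c19 LD3_c21)) = (LP (LK LD1_c20 LD2_c13 LD3_c3)) :=
  Lgr Lrot181 (Lpr_ct (f399609 IH) (Lpr_gt (f373991 IH) (Lpe (f262728 IH) (Lpr_bt (K15.f262726 IH) (Lpr_gt (f619299 IH) (Lpe (f597961 IH) (Lpr_ct (f738482 IH) (Lpe (f738485 IH) (Lpe (f562142 IH) (Lpr_bt (f562116 IH) (Lpn (LP (LK LD1_c20 LD2_c13 LD3_c3)))))))))))))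
theorem f738487 : Led Lsl_gt (LP (LK LD1_c20 LD2_c13 LD3_c3)) = (LP (LK LD1_c20 LD2_c19 LD3_c21)) :=
  Leop (Lpr_gf (f738486 IH) (Lpn (LP (LK LD1_c20 LD2_c13 LD3_c3))))
theorem seed_917 : LEOK LG_g (LK LD1_c20 LD2_c13 LD3_c3) :=
  Leoe_g (LK LD1_c20 LD2_c13 LD3_c3) (f738487 IH)
def v12595 : LQ := Led Lsl_ft (LP (LK LD1_c4 LD2_c18 LD3_c19))
theorem f693709 : Led Lsl_ft (LP (LK LD1_c4 LD2_c18 LD3_c19)) = v12595 :=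
  Lrfl
theorem f693712 : Led Lsl_ff (LP (LK LD1_c4 LD2_c18 LD3_c19)) = v12595 :=
  Lgr Lrot3 (Lpr_ft (f693709 IH) (Lpn v12595))
def v12593 : LQ := Led Lsl_at (LP (LK LD1_c4 LD2_c18 LD3_c19))
theorem f693701 : Led Lsl_at (LP (LK LD1_c4 LD2_c18 LD3_c19)) = v12593 :=
  Lrfl
theorem f403503 : Led Lsl_gf (LP (LK LD1_c8 LD2_c22 LD3_c40)) = (LP (LK LD1_c8 LD2_c34 LD3_c23)) :=
  Lgr Lrot47 (Lpr_gt (K20.f171008 IH) (Lpe (K41.f171030 IH) (Lpr_ff (K41.f403493 IH) (Lpn (LP (LK LD1_c8 LD2_c34 LD3_c23))))))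
theorem f392825 : Led Lsl_at (LP (LK LD1_c4 LD2_c17 LD3_c47)) = (LP (LK LD1_c4 LD2_c11 LD3_c35)) :=
  Lgr Lrot66 (Lpr_ff (K50.f392810 IH) (Lpe (K49.f392819 IH) (Lpr_ff (K49.f392823 IH) (Lpn (LP (LK LD1_c4 LD2_c11 LD3_c35))))))
theorem f404597 : Led Lsl_gt (LP (LK LD1_c4 LD2_c11 LD3_c34)) = (LP (LK LD1_c4 LD2_c17 LD3_c49)) :=
  Lgr Lrot5 (Lpe (K50.f392810 IH) (Lpr_at (f392825 IH) (Lpr_gf (K49.f404595 IH) (Lpn (LP (LK LD1_c4 LD2_c17 LD3_c49))))))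
theorem f392887 : Led Lsl_ff (LP (LK LD1_c4 LD2_c18 LD3_c8)) = (LP (LK LD1_c4 LD2_c11 LD3_c12)) :=
  Lgr Lrot3 (Lpr_ft (K50.f392883 IH) (Lpn (LP (LK LD1_c4 LD2_c11 LD3_c12))))
theorem f404688 : Led Lsl_af (LP (LK LD1_c4 LD2_c11 LD3_c13)) = (LP (LK LD1_c4 LD2_c18 LD3_c8)) :=
  Lgr Lrot45 (Lpr_ft (K50.f404686 IH) (Lpe (K50.f404651 IH) (Lpe (f392887 IH) (Lpn (LP (LK LD1_c4 LD2_c18 LD3_c8))))))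
theorem f406054 : Led Lsl_gt (LP (LK LD1_c4 LD2_c11 LD3_c12)) = (LP (LK LD1_c4 LD2_c18 LD3_c10)) :=
  Lgr Lrot5 (Lpe (f392887 IH) (Lpe (f404688 IH) (Lpr_gf (K49.f406051 IH) (Lpn (LP (LK LD1_c4 LD2_c18 LD3_c10))))))
theorem f170264 : Led Lsl_ct (LP (LK LD1_c4 LD2_c18 LD3_c10)) = (LP (LK LD1_c8 LD2_c34 LD3_c61)) :=
  Lre_c IH (LK LD1_c4 LD2_c18 LD3_c10) (LK LD1_c8 LD2_c34 LD3_c61) Lrfl Lrfl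
theorem f170913 : Led Lsl_at (LP (LK LD1_c8 LD2_c22 LD3_c4)) = (LP (LK LD1_c4 LD2_c11 LD3_c5)) :=
  Lre_a IH (LK LD1_c8 LD2_c22 LD3_c4) (LK LD1_c4 LD2_c11 LD3_c5) Lrfl Lrfl
theorem f406065 : Led Lsl_ff (LP (LK LD1_c8 LD2_c22 LD3_c4)) = (LP (LK LD1_c8 LD2_c34 LD3_c61)) :=
  Lgr Lrot30 (Lpr_at (f170913 IH) (Lpr_ft (K49.f406060 IH) (Lpr_at (K49.f170270 IH) (Lpn (LP (LK LD1_c8 LD2_c34 LD3_c61))))))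
theorem f170601 : Led Lsl_gt (LP (LK LD1_c8 LD2_c22 LD3_c3)) = (LP (LK LD1_c4 LD2_c11 LD3_c5)) :=
  Lre_g IH (LK LD1_c8 LD2_c22 LD3_c3) (LK LD1_c4 LD2_c11 LD3_c5) Lrfl Lrfl
theorem f406244 : Led Lsl_gf (LP (LK LD1_c8 LD2_c22 LD3_c3)) = (LP (LK LD1_c8 LD2_c34 LD3_c61)) :=
  Lgr Lrot47 (Lpr_gt (f170601 IH) (Lpe (f170913 IH) (Lpr_ff (f406065 IH) (Lpn (LP (LK LD1_c8 LD2_c34 LD3_c61))))))
theorem f237784 : Led Lsl_gt (LP (LK LD1_c2 LD2_c6 LD3_c28)) = (LP (LK LD1_c4 LD2_c18 LD3_c19)) :=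
  Lre_g IH (LK LD1_c2 LD2_c6 LD3_c28) (LK LD1_c4 LD2_c18 LD3_c19) Lrfl Lrfl
theorem f304824 : Led Lsl_bt (LP (LK LD1_c8 LD2_c35 LD3_c23)) = (LP (LK LD1_c4 LD2_c18 LD3_c19)) :=
  Lre_b IH (LK LD1_c8 LD2_c35 LD3_c23) (LK LD1_c4 LD2_c18 LD3_c19) Lrfl Lrfl
theorem f418179 : Led Lsl_cf (LP (LK LD1_c8 LD2_c22 LD3_c3)) = (LP (LK LD1_c8 LD2_c35 LD3_c23)) :=
  Lgr Lrot160 (Lpr_gt (f170601 IH) (Lpe (K50.f53358 IH) (Lpr_bt (K50.f170596 IH) (Lpr_gt (K9.f170588 IH) (Lpr_ct (K0.f2162 IH) (Lpe (K13.f2861 IH) (Lpr_cf (K38.f237777 IH) (Lpr_bt (K50.f237774 IH) (Lpr_gt (f237784 IH) (Lpe (f304824 IH) (Lpn (LP (LK LD1_c8 LD2_c35 LD3_c23)))))))))))))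
theorem f418183 : Led Lsl_ct (LP (LK LD1_c8 LD2_c22 LD3_c3)) = (LP (LK LD1_c8 LD2_c35 LD3_c23)) :=
  Lgr Lrot59 (Lpr_cf (f418179 IH) (Lpn (LP (LK LD1_c8 LD2_c35 LD3_c23))))
theorem f421803 : Led Lsl_df (LP (LK LD1_c8 LD2_c35 LD3_c23)) = (LP (LK LD1_c8 LD2_c35 LD3_c17)) :=
  Lgr Lrot162 (Lpe (f418183 IH) (Lpr_gf (f406244 IH) (Lpe (f170264 IH) (Lpe (f406054 IH) (Lpe (K50.f270629 IH) (Lpr_gt (f404597 IH) (Lpr_ct (K41.f170237 IH) (Lpe (f403503 IH) (Lpr_ct (K49.f421787 IH) (Lpn (LP (LK LD1_c8 LD2_c35 LD3_c17))))))))))))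
theorem f421783 : Led Lsl_bt (LP (LK LD1_c4 LD2_c18 LD3_c15)) = (LP (LK LD1_c8 LD2_c35 LD3_c17)) :=
  Lre_b IH (LK LD1_c4 LD2_c18 LD3_c15) (LK LD1_c8 LD2_c35 LD3_c17) Lrfl Lrfl
theorem f421805 : Led Lsl_dt (LP (LK LD1_c4 LD2_c18 LD3_c19)) = (LP (LK LD1_c4 LD2_c18 LD3_c15)) :=
  Lgr Lrot79 (Lpe (f304824 IH) (Lpr_df (f421803 IH) (Lpe (f421783 IH) (Lpn (LP (LK LD1_c4 LD2_c18 LD3_c15))))))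
theorem f421808 : Led Lsl_df (LP (LK LD1_c4 LD2_c18 LD3_c19)) = (LP (LK LD1_c4 LD2_c18 LD3_c15)) :=
  Lgr Lrot38 (Lpr_dt (f421805 IH) (Lpn (LP (LK LD1_c4 LD2_c18 LD3_c15))))
def v12585 : LQ := Led Lsl_at (LP (LK LD1_c4 LD2_c18 LD3_c15))
theorem f693671 : Led Lsl_at (LP (LK LD1_c4 LD2_c18 LD3_c15)) = v12585 :=
  Lrfl
theorem f693672 : Led Lsl_af (LP (LK LD1_c4 LD2_c18 LD3_c15)) = v12585 :=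
  Lgr Lrot0 (Lpr_at (f693671 IH) (Lpn v12585))
theorem f693703 : Led Lsl_df v12585 = v12593 :=
  Lgr Lrot18 (Lpe (f693672 IH) (Lpe (f421808 IH) (Lpr_at (f693701 IH) (Lpn v12593))))
theorem f693673 : Led Lsl_ft (LP (LK LD1_c4 LD2_c18 LD3_c16)) = v12585 :=
  Lgr Lrot2 (Lpr_gt (K49.f421774 IH) (Lpr_gt (K49.f179024 IH) (Lpr_af (f693672 IH) (Lpn v12585))))
theorem f693674 : Led Lsl_ff (LP (LK LD1_c4 LD2_c18 LD3_c16)) = v12585 :=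
  Lgr Lrot3 (Lpr_ft (f693673 IH) (Lpn v12585))
theorem f2188 : Led Lsl_bt (LP (LK LD1_c1 LD2_c9 LD3_c2)) = (LP (LK LD1_c2 LD2_c24 LD3_c2)) :=
  Lre_b IH (LK LD1_c1 LD2_c9 LD3_c2) (LK LD1_c2 LD2_c24 LD3_c2) Lrfl Lrfl
theorem f421775 : Led Lsl_bt (LP (LK LD1_c8 LD2_c35 LD3_c20)) = (LP (LK LD1_c4 LD2_c18 LD3_c16)) :=
  Lre_b IH (LK LD1_c8 LD2_c35 LD3_c20) (LK LD1_c4 LD2_c18 LD3_c16) Lrfl Lrfl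
theorem f421777 : Led Lsl_gt (LP (LK LD1_c9 LD2_c37 LD3_c23)) = (LP (LK LD1_c16 LD2_c6 LD3_c46)) :=
  Lgr Lrot149 (Lpe (K30.f2190 IH) (Lpe (K30.f2189 IH) (Lpe (f2188 IH) (Lpr_ct (K0.f2162 IH) (Lpe (K9.f2872 IH) (Lpr_cf (K19.f179556 IH) (Lpr_bt (K49.f179023 IH) (Lpe (K49.f421774 IH) (Lpe (f421775 IH) (Lpr_ct (K52.f421776 IH) (Lpn (LP (LK LD1_c16 LD2_c6 LD3_c46)))))))))))))
theorem f2305 : Led Lsl_dt (LP (LK LD1_c1 LD2_c9 LD3_c1)) = (LP (LK LD1_c2 LD2_c24 LD3_c2)) :=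
  Lre_d IH (LK LD1_c1 LD2_c9 LD3_c1) (LK LD1_c2 LD2_c24 LD3_c2) Lrfl Lrfl
theorem f2361 : Led Lsl_gt (LP (LK LD1_c4 LD2_c52 LD3_c32)) = (LP (LK LD1_c9 LD2_c37 LD3_c12)) :=
  Lre_g IH (LK LD1_c4 LD2_c52 LD3_c32) (LK LD1_c9 LD2_c37 LD3_c12) Lrfl Lrfl
theorem f422692 : Led Lsl_df (LP (LK LD1_c8 LD2_c35 LD3_c25)) = (LP (LK LD1_c8 LD2_c35 LD3_c20)) :=
  Lgr Lrot162 (Lpr_cf (K50.f279231 IH) (Lpe (f2361 IH) (Lpe (K49.f2360 IH) (Lpe (K38.f2752 IH) (Lpr_dt (f2305 IH) (Lpr_gt (K30.f2189 IH) (Lpr_ct (K30.f2190 IH) (Lpr_gt (f421777 IH) (Lpr_ct (K52.f421836 IH) (Lpn (LP (LK LD1_c8 LD2_c35 LD3_c20))))))))))))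
theorem f422694 : Led Lsl_dt (LP (LK LD1_c4 LD2_c18 LD3_c20)) = (LP (LK LD1_c4 LD2_c18 LD3_c16)) :=
  Lgr Lrot79 (Lpe (K50.f279230 IH) (Lpr_df (f422692 IH) (Lpe (K52.f421829 IH) (Lpn (LP (LK LD1_c4 LD2_c18 LD3_c16))))))
theorem f422696 : Led Lsl_df (LP (LK LD1_c4 LD2_c18 LD3_c20)) = (LP (LK LD1_c4 LD2_c18 LD3_c16)) :=
  Lgr Lrot38 (Lpr_dt (f422694 IH) (Lpn (LP (LK LD1_c4 LD2_c18 LD3_c16))))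
theorem f693705 : Led Lsl_ft (LP (LK LD1_c4 LD2_c18 LD3_c20)) = v12593 :=
  Lgr Lrot54 (Lpr_df (f422696 IH) (Lpr_ff (f693674 IH) (Lpr_df (f693703 IH) (Lpn v12593))))
theorem f693706 : Led Lsl_ff (LP (LK LD1_c4 LD2_c18 LD3_c20)) = v12593 :=
  Lgr Lrot3 (Lpr_ft (f693705 IH) (Lpn v12593))
theorem f693713 : Led Lsl_at (LP (LK LD1_c4 LD2_c18 LD3_c20)) = v12595 :=
  Lgr Lrot66 (Lpr_ff (f693706 IH) (Lpe (f693701 IH) (Lpr_ff (f693712 IH) (Lpn v12595))))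
def v12586 : LQ := Led Lsl_ft (LP (LK LD1_c4 LD2_c18 LD3_c15))
theorem f693675 : Led Lsl_ft (LP (LK LD1_c4 LD2_c18 LD3_c15)) = v12586 :=
  Lrfl
theorem f693714 : Led Lsl_dt v12586 = v12595 :=
  Lgr Lrot60 (Lpe (f693675 IH) (Lpe (f421805 IH) (Lpr_ff (f693712 IH) (Lpn v12595))))
def v7782 : LQ := Led Lsl_gt K49.v1210
theorem f668367 : Led Lsl_gt K49.v1210 = v7782 :=
  Lrfl
theorem f41955 : Led Lsl_ct (LP (LK LD1_c24 LD2_c51 LD3_c56)) = (LP (LK LD1_c15 LD2_c3 LD3_c1)) :=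
  Lre_c IH (LK LD1_c24 LD2_c51 LD3_c56) (LK LD1_c15 LD2_c3 LD3_c1) Lrfl Lrfl
theorem f41954 : Led Lsl_bt (LP (LK LD1_c24 LD2_c51 LD3_c56)) = (LP (LK LD1_c15 LD2_c2 LD3_c58)) :=
  Lre_b IH (LK LD1_c24 LD2_c51 LD3_c56) (LK LD1_c15 LD2_c2 LD3_c58) Lrfl Lrfl
theorem f275408 : Led Lsl_dt (LP (LK LD1_c19 LD2_c5 LD3_c50)) = (LP (LK LD1_c24 LD2_c51 LD3_c56)) :=
  Lgr Lrot79 (Lpe (K41.f256064 IH) (Lpr_df (K30.f275401 IH) (Lpe (f41954 IH) (Lpn (LP (LK LD1_c24 LD2_c51 LD3_c56))))))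
theorem f167034 : Led Lsl_ct (LP (LK LD1_c4 LD2_c11 LD3_c42)) = (LP (LK LD1_c8 LD2_c22 LD3_c60)) :=
  Lre_c IH (LK LD1_c4 LD2_c11 LD3_c42) (LK LD1_c8 LD2_c22 LD3_c60) Lrfl Lrfl
theorem f668369 : Led Lsl_df (LP (LK LD1_c4 LD2_c11 LD3_c42)) = v7782 :=
  Lgr Lrot183 (Lpr_ct (f167034 IH) (Lpr_bt (K41.f170404 IH) (Lpe (K41.f192377 IH) (Lpr_dt (f275408 IH) (Lpr_ct (f41955 IH) (Lpr_bt (K30.f41939 IH) (Lpe (K16.f250521 IH) (Lpr_dt (K15.f229620 IH) (Lpr_ct (K15.f229621 IH) (Lpr_bt (K15.f246812 IH) (Lpr_gt (K15.f238037 IH) (Lpr_dt (K13.f237806 IH) (Lpr_ct (K13.f201334 IH) (Lpr_bt (K13.f201333 IH) (Lpr_gt (K13.f201338 IH) (Lpr_dt (K9.f166579 IH) (Lpe (K9.f167044 IH) (Lpr_bt (K49.f493977 IH) (Lpr_gt (f668367 IH) (Lpn v7782))))))))))))))))))))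
def v15659 : LQ := Led Lsl_bt (LP (LK LD1_c5 LD2_c44 LD3_c43))
theorem f738507 : Led Lsl_bt (LP (LK LD1_c5 LD2_c44 LD3_c43)) = v15659 :=
  Lrfl
theorem f579886 : Led Lsl_ff (LP (LK LD1_c5 LD2_c44 LD3_c43)) = (LP (LK LD1_c11 LD2_c18 LD3_c12)) :=
  Lgr Lrot3 (Lpr_ft (K44.f579880 IH) (Lpn (LP (LK LD1_c11 LD2_c18 LD3_c12))))
theorem f738510 : Led Lsl_ff (LP (LK LD1_c8 LD2_c35 LD3_c18)) = v15659 :=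
  Lgr Lrot25 (Lpe (K49.f421799 IH) (Lpe (f579886 IH) (Lpr_bt (f738507 IH) (Lpn v15659))))
theorem f738512 : Led Lsl_ft (LP (LK LD1_c8 LD2_c35 LD3_c18)) = v15659 :=
  Lgr Lrot48 (Lpr_ff (f738510 IH) (Lpn v15659))
theorem f693677 : Led Lsl_ff (LP (LK LD1_c4 LD2_c18 LD3_c15)) = v12586 :=
  Lgr Lrot3 (Lpr_ft (f693675 IH) (Lpn v12586))
theorem f738513 : Led Lsl_cf v12586 = v15659 :=
  Lgr Lrot108 (Lpe (f693677 IH) (Lpr_ct (K49.f421782 IH) (Lpr_ft (f738512 IH) (Lpn v15659))))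
theorem f738509 : Led Lsl_bf (LP (LK LD1_c5 LD2_c44 LD3_c43)) = v15659 :=
  Lgr Lrot24 (Lpr_bt (f738507 IH) (Lpn v15659))
theorem f243763 : Led Lsl_ct (LP (LK LD1_c2 LD2_c48 LD3_c12)) = (LP (LK LD1_c5 LD2_c44 LD3_c44)) :=
  Lre_c IH (LK LD1_c2 LD2_c48 LD3_c12) (LK LD1_c5 LD2_c44 LD3_c44) Lrfl Lrfl
theorem f232788 : Led Lsl_at (LP (LK LD1_c16 LD2_c2 LD3_c35)) = (LP (LK LD1_c8 LD2_c32 LD3_c41)) :=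
  Lre_a IH (LK LD1_c16 LD2_c2 LD3_c35) (LK LD1_c8 LD2_c32 LD3_c41) Lrfl Lrfl
theorem f383851 : Led Lsl_gf (LP (LK LD1_c8 LD2_c32 LD3_c41)) = (LP (LK LD1_c5 LD2_c44 LD3_c44)) :=
  Lgr Lrot76 (Lpe (f232788 IH) (Lpr_ff (K27.f383824 IH) (Lpr_gt (K27.f243905 IH) (Lpn (LP (LK LD1_c5 LD2_c44 LD3_c44))))))
theorem f381579 : Led Lsl_bt (LP (LK LD1_c5 LD2_c43 LD3_c31)) = (LP (LK LD1_c4 LD2_c53 LD3_c31)) :=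
  Lgr Lrot35 (Lpr_ff (K27.f381507 IH) (Lpe (K20.f270572 IH) (Lpe (K16.f270643 IH) (Lpn (LP (LK LD1_c4 LD2_c53 LD3_c31))))))
theorem f493978 : Led Lsl_bf (LP (LK LD1_c0 LD2_c58 LD3_c26)) = K49.v1210 :=
  Lgr Lrot24 (Lpr_bt (K49.f493977 IH) (Lpn K49.v1210))
theorem f635986 : Led Lsl_cf K49.v1210 = K50.v4531 :=
  Lgr Lrot97 (Lpe (f493978 IH) (Lpr_ct (K9.f167032 IH) (Lpr_bt (K12.f166632 IH) (Lpr_ct (K16.f2860 IH) (Lpr_bt (K50.f635984 IH) (Lpn K50.v4531))))))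
theorem f738515 : v12586 = v7782 :=
  (Llr Lrot10 (Lpr_cf (f738513 IH) (Lpe (f738509 IH) (Lpr_gt (K44.f172562 IH) (Lpr_ct (f243763 IH) (Lpe (f383851 IH) (Lpe (K27.f381489 IH) (Lpr_bt (f381579 IH) (Lpr_gt (K16.f166635 IH) (Lpr_bf (K50.f635985 IH) (Lpe (f635986 IH) (Lpr_gt (f668367 IH) (Lpn v7782))))))))))))).symm
theorem f738516 : v12595 = (LP (LK LD1_c4 LD2_c11 LD3_c42)) :=
  Lefun (Lecon (f693714 IH) (f738515 IH)) (Lfl_df (f668369 IH))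
theorem f738518 : Led Lsl_at (LP (LK LD1_c4 LD2_c18 LD3_c20)) = (LP (LK LD1_c4 LD2_c11 LD3_c42)) :=
  Leop (Lpq (f738516 IH) (Lpe (f693713 IH) (Lpn (LP (LK LD1_c4 LD2_c18 LD3_c20)))))
theorem seed_918 : LEOK LG_a (LK LD1_c4 LD2_c18 LD3_c20) :=
  Leoe_a (LK LD1_c4 LD2_c18 LD3_c20) (f738518 IH)
theorem f718578 : Led Lsl_cf K53.v12463 = (LP (LK LD1_c9 LD2_c39 LD3_c6)) :=
  Lgr Lrot11 (Lpr_ct (K53.f718576 IH) (Lpn (LP (LK LD1_c9 LD2_c39 LD3_c6))))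
theorem f620562 : Led Lsl_ft (LP (LK LD1_c4 LD2_c52 LD3_c30)) = (LP (LK LD1_c2 LD2_c24 LD3_c0)) :=
  Lre_f IH (LK LD1_c4 LD2_c52 LD3_c30) (LK LD1_c2 LD2_c24 LD3_c0) Lrfl Lrfl
theorem f620564 : Led Lsl_gt (LP (LK LD1_c2 LD2_c24 LD3_c3)) = (LP (LK LD1_c4 LD2_c52 LD3_c35)) :=
  Lgr Lrot46 (Lpr_gf (K49.f620560 IH) (Lpr_ft (f620562 IH) (Lpr_at (K49.f620563 IH) (Lpn (LP (LK LD1_c4 LD2_c52 LD3_c35))))))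
theorem f718585 : Led Lsl_df K53.v12463 = (LP (LK LD1_c8 LD2_c23 LD3_c0)) :=
  Lgr Lrot162 (Lpr_cf (f718578 IH) (Lpe (K53.f2286 IH) (Lpe (K27.f2289 IH) (Lpe (K27.f2280 IH) (Lpe (K20.f2223 IH) (Lpr_gt (f620564 IH) (Lpr_ct (K49.f620580 IH) (Lpe (K49.f620569 IH) (Lpr_ct (K52.f178363 IH) (Lpn (LP (LK LD1_c8 LD2_c23 LD3_c0))))))))))))
def v7783 : LQ := Led Lsl_gf K49.v1210
theorem f668372 : Led Lsl_gf K49.v1210 = v7783 :=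
  Lrfl
theorem f718582 : Led Lsl_bt K53.v12463 = v7783 :=
  Lgr Lrot22 (Lpr_ct (K53.f718576 IH) (Lpe (K53.f2286 IH) (Lpe (K27.f2289 IH) (Lpe (K27.f2280 IH) (Lpe (K0.f2222 IH) (Lpr_ct (K0.f2216 IH) (Lpe (K9.f2213 IH) (Lpe (K9.f167032 IH) (Lpr_bt (K49.f493977 IH) (Lpr_gf (f668372 IH) (Lpn v7783)))))))))))
def v12457 : LQ := Led Lsl_dt (LP (LK LD1_c4 LD2_c11 LD3_c43))
theorem f692250 : Led Lsl_dt (LP (LK LD1_c4 LD2_c11 LD3_c43)) = v12457 :=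
  Lrfl
theorem f692251 : Led Lsl_df (LP (LK LD1_c4 LD2_c11 LD3_c43)) = v12457 :=
  Lgr Lrot38 (Lpr_dt (f692250 IH) (Lpn v12457))
theorem f718586 : v7783 = v12457 :=
  (Llr Lrot95 (Lpe (f718582 IH) (Lpr_df (f718585 IH) (Lpe (K52.f397783 IH) (Lpr_df (f692251 IH) (Lpn v12457)))))).symm
def v12455 : LQ := Led Lsl_at (LP (LK LD1_c4 LD2_c11 LD3_c42))
theorem f692242 : Led Lsl_at (LP (LK LD1_c4 LD2_c11 LD3_c42)) = v12455 :=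
  Lrfl
theorem f692243 : Led Lsl_af (LP (LK LD1_c4 LD2_c11 LD3_c42)) = v12455 :=
  Lgr Lrot0 (Lpr_at (f692242 IH) (Lpn v12455))
theorem f692244 : Led Lsl_ft (LP (LK LD1_c4 LD2_c11 LD3_c43)) = v12455 :=
  Lgr Lrot2 (Lpr_gt (K49.f167038 IH) (Lpr_gt (K41.f167005 IH) (Lpr_af (f692243 IH) (Lpn v12455))))
theorem f692245 : Led Lsl_ff (LP (LK LD1_c4 LD2_c11 LD3_c43)) = v12455 :=
  Lgr Lrot3 (Lpr_ft (f692244 IH) (Lpn v12455))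
theorem f693702 : Led Lsl_af (LP (LK LD1_c4 LD2_c18 LD3_c19)) = v12593 :=
  Lgr Lrot0 (Lpr_at (f693701 IH) (Lpn v12593))
theorem f693710 : Led Lsl_af (LP (LK LD1_c4 LD2_c18 LD3_c20)) = v12595 :=
  Lgr Lrot45 (Lpr_ft (f693705 IH) (Lpe (f693702 IH) (Lpr_ft (f693709 IH) (Lpn v12595))))
theorem f738517 : (LP (LK LD1_c4 LD2_c18 LD3_c20)) = v12455 :=
  Lefun (Lecon (Lfl_af (f693710 IH)) (f738516 IH)) (f692242 IH)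
theorem f738523 : (LP (LK LD1_c4 LD2_c11 LD3_c43)) = v12593 :=
  Lefun (Lecon (Lfl_ff (f692245 IH)) (f738517 IH).symm) (f693705 IH)
theorem f738528 : v12585 = v12457 :=
  Lefun (Lecon (Lfl_df (f693703 IH)) (f738523 IH).symm) (f692250 IH)
theorem f718583 : Led Lsl_bf K53.v12463 = v7783 :=
  Lgr Lrot24 (Lpr_bt (f718582 IH) (Lpn v7783))
theorem f738529 : Led Lsl_ff (LP (LK LD1_c8 LD2_c35 LD3_c20)) = K53.v12463 :=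
  Lgr Lrot25 (Lpr_bt (f421775 IH) (Lpr_ft (f693673 IH) (Lpqs (f738528 IH) (Lpq (f718586 IH) (Lpe (f718583 IH) (Lpn K53.v12463))))))
theorem f738530 : Led Lsl_ft (LP (LK LD1_c16 LD2_c6 LD3_c46)) = (LP (LK LD1_c9 LD2_c39 LD3_c6)) :=
  Lgr Lrot4 (Lpe (K52.f421776 IH) (Lpr_ff (f738529 IH) (Lpr_cf (f718578 IH) (Lpn (LP (LK LD1_c9 LD2_c39 LD3_c6))))))
theorem f738531 : Led Lsl_ft (LP (LK LD1_c16 LD2_c6 LD3_c46)) = (LP (LK LD1_c9 LD2_c39 LD3_c6)) :=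
  Leop (Lpe (f738530 IH) (Lpn (LP (LK LD1_c16 LD2_c6 LD3_c46))))
theorem seed_919 : LEOK LG_f (LK LD1_c16 LD2_c6 LD3_c46) :=
  Leoe_f (LK LD1_c16 LD2_c6 LD3_c46) (f738531 IH)
def v15663 : LQ := Led Lsl_ft (LP (LK LD1_c5 LD2_c44 LD3_c47))
theorem f738884 : Led Lsl_ft (LP (LK LD1_c5 LD2_c44 LD3_c47)) = v15663 :=
  Lrfl
theorem f642076 : Led Lsl_dt (LP (LK LD1_c5 LD2_c44 LD3_c47)) = (LP (LK LD1_c11 LD2_c19 LD3_c41)) :=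
  Lre_d IH (LK LD1_c5 LD2_c44 LD3_c47) (LK LD1_c11 LD2_c19 LD3_c41) Lrfl Lrfl
theorem f642016 : Led Lsl_ct (LP (LK LD1_c11 LD2_c19 LD3_c41)) = (LP (LK LD1_c20 LD2_c16 LD3_c41)) :=
  Lre_c IH (LK LD1_c11 LD2_c19 LD3_c41) (LK LD1_c20 LD2_c16 LD3_c41) Lrfl Lrfl
def v15662 : LQ := Led Lsl_at (LP (LK LD1_c5 LD2_c44 LD3_c47))
theorem f738874 : Led Lsl_at (LP (LK LD1_c5 LD2_c44 LD3_c47)) = v15662 :=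
  Lrfl
theorem f738875 : Led Lsl_af (LP (LK LD1_c5 LD2_c44 LD3_c47)) = v15662 :=
  Lgr Lrot0 (Lpr_at (f738874 IH) (Lpn v15662))
theorem f416015 : Led Lsl_gt (LP (LK LD1_c2 LD2_c48 LD3_c13)) = (LP (LK LD1_c5 LD2_c44 LD3_c47)) :=
  Lre_g IH (LK LD1_c2 LD2_c48 LD3_c13) (LK LD1_c5 LD2_c44 LD3_c47) Lrfl Lrfl
theorem f738880 : Led Lsl_ft (LP (LK LD1_c5 LD2_c44 LD3_c48)) = v15662 :=
  Lgr Lrot2 (Lpr_gt (K45.f140482 IH) (Lpr_gt (f416015 IH) (Lpr_af (f738875 IH) (Lpn v15662))))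
theorem f738885 : Led Lsl_af (LP (LK LD1_c5 LD2_c44 LD3_c48)) = v15663 :=
  Lgr Lrot45 (Lpr_ft (f738880 IH) (Lpe (f738875 IH) (Lpr_ft (f738884 IH) (Lpn v15663))))
theorem f74954 : Led Lsl_et (LP (LK LD1_c4 LD2_c40 LD3_c36)) = (LP (LK LD1_c9 LD2_c16 LD3_c33)) :=
  Lre_e IH (LK LD1_c4 LD2_c40 LD3_c36) (LK LD1_c9 LD2_c16 LD3_c33) Lrfl Lrfl
theorem f75254 : Led Lsl_gt (LP (LK LD1_c9 LD2_c16 LD3_c33)) = (LP (LK LD1_c17 LD2_c11 LD3_c13)) :=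
  Lre_g IH (LK LD1_c9 LD2_c16 LD3_c33) (LK LD1_c17 LD2_c11 LD3_c13) Lrfl Lrfl
theorem f75277 : Led Lsl_et (LP (LK LD1_c1 LD2_c24 LD3_c8)) = (LP (LK LD1_c0 LD2_c38 LD3_c50)) :=
  Lre_e IH (LK LD1_c1 LD2_c24 LD3_c8) (LK LD1_c0 LD2_c38 LD3_c50) Lrfl Lrfl
theorem f75278 : Led Lsl_dt (LP (LK LD1_c1 LD2_c24 LD3_c8)) = (LP (LK LD1_c2 LD2_c56 LD3_c44)) :=
  Lre_d IH (LK LD1_c1 LD2_c24 LD3_c8) (LK LD1_c2 LD2_c56 LD3_c44) Lrfl Lrfl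
theorem f75279 : Led Lsl_gt (LP (LK LD1_c6 LD2_c0 LD3_c59)) = (LP (LK LD1_c2 LD2_c56 LD3_c44)) :=
  Lre_g IH (LK LD1_c6 LD2_c0 LD3_c59) (LK LD1_c2 LD2_c56 LD3_c44) Lrfl Lrfl
theorem f75280 : Led Lsl_dt (LP (LK LD1_c11 LD2_c46 LD3_c31)) = (LP (LK LD1_c6 LD2_c0 LD3_c59)) :=
  Lre_d IH (LK LD1_c11 LD2_c46 LD3_c31) (LK LD1_c6 LD2_c0 LD3_c59) Lrfl Lrfl
theorem f75281 : Led Lsl_ef (LP (LK LD1_c17 LD2_c11 LD3_c13)) = (LP (LK LD1_c11 LD2_c46 LD3_c31)) :=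
  Lgr Lrot17 (Lpe (f75254 IH) (Lpe (f74954 IH) (Lpr_dt (K6.f75219 IH) (Lpe (K2.f72714 IH) (Lpe (K28.f72715 IH) (Lpe (K6.f56782 IH) (Lpe (f75277 IH) (Lpr_dt (f75278 IH) (Lpe (f75279 IH) (Lpe (f75280 IH) (Lpn (LP (LK LD1_c11 LD2_c46 LD3_c31)))))))))))))
theorem f75288 : Led Lsl_et (LP (LK LD1_c17 LD2_c11 LD3_c13)) = (LP (LK LD1_c11 LD2_c46 LD3_c31)) :=
  Lgr Lrot87 (Lpr_ef (f75281 IH) (Lpn (LP (LK LD1_c11 LD2_c46 LD3_c31))))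
theorem f414683 : Led Lsl_cf (LP (LK LD1_c20 LD2_c16 LD3_c46)) = (LP (LK LD1_c11 LD2_c46 LD3_c31)) :=
  Lgr Lrot39 (Lpe (K52.f149263 IH) (Lpr_ct (K52.f414679 IH) (Lpr_et (f75288 IH) (Lpn (LP (LK LD1_c11 LD2_c46 LD3_c31))))))
theorem f75285 : Led Lsl_dt (LP (LK LD1_c6 LD2_c0 LD3_c59)) = (LP (LK LD1_c11 LD2_c46 LD3_c31)) :=
  Lre_d IH (LK LD1_c6 LD2_c0 LD3_c59) (LK LD1_c11 LD2_c46 LD3_c31) Lrfl Lrfl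
theorem f414690 : Led Lsl_ct (LP (LK LD1_c11 LD2_c46 LD3_c30)) = (LP (LK LD1_c6 LD2_c0 LD3_c59)) :=
  Lre_c IH (LK LD1_c11 LD2_c46 LD3_c30) (LK LD1_c6 LD2_c0 LD3_c59) Lrfl Lrfl
theorem f738888 : Led Lsl_dt (LP (LK LD1_c20 LD2_c16 LD3_c41)) = (LP (LK LD1_c11 LD2_c46 LD3_c30)) :=
  Lgr Lrot32 (Lpe (f642016 IH) (Lpe (f642076 IH) (Lpr_ft (f738884 IH) (Lpe (f738885 IH) (Lpe (K45.f140483 IH) (Lpe (K52.f140492 IH) (Lpr_cf (f414683 IH) (Lpe (f75285 IH) (Lpe (f414690 IH) (Lpn (LP (LK LD1_c11 LD2_c46 LD3_c30))))))))))))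
theorem f738889 : Led Lsl_dt (LP (LK LD1_c20 LD2_c16 LD3_c41)) = (LP (LK LD1_c11 LD2_c46 LD3_c30)) :=
  Leop (Lpe (f738888 IH) (Lpn (LP (LK LD1_c20 LD2_c16 LD3_c41))))
theorem seed_920 : LEOK LG_d (LK LD1_c20 LD2_c16 LD3_c41) :=
  Leoe_d (LK LD1_c20 LD2_c16 LD3_c41) (f738889 IH)
def v15664 : LQ := Led Lsl_ft (LP (LK LD1_c5 LD2_c44 LD3_c52))
theorem f738925 : Led Lsl_ft (LP (LK LD1_c5 LD2_c44 LD3_c52)) = v15664 :=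
  Lrfl
theorem f738928 : Led Lsl_ff (LP (LK LD1_c5 LD2_c44 LD3_c52)) = v15664 :=
  Lgr Lrot3 (Lpr_ft (f738925 IH) (Lpn v15664))
def v4788 : LQ := Led Lsl_ft (LP (LK LD1_c2 LD2_c48 LD3_c15))
theorem f639000 : Led Lsl_ft (LP (LK LD1_c2 LD2_c48 LD3_c15)) = v4788 :=
  Lrfl
theorem f738930 : Led Lsl_bt v4788 = v15664 :=
  Lgr Lrot35 (Lpe (f639000 IH) (Lpe (K52.f140498 IH) (Lpr_ff (f738928 IH) (Lpn v15664))))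
theorem f639003 : Led Lsl_ff (LP (LK LD1_c2 LD2_c48 LD3_c15)) = v4788 :=
  Lgr Lrot3 (Lpr_ft (f639000 IH) (Lpn v4788))
theorem f638997 : Led Lsl_ff (LP (LK LD1_c2 LD2_c48 LD3_c16)) = K41.v4787 :=
  Lgr Lrot3 (Lpr_ft (K41.f638993 IH) (Lpn K41.v4787))
theorem f639007 : Led Lsl_at (LP (LK LD1_c2 LD2_c48 LD3_c16)) = v4788 :=
  Lgr Lrot66 (Lpr_ff (f638997 IH) (Lpe (K41.f638986 IH) (Lpr_ff (f639003 IH) (Lpn v4788))))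
theorem f416004 : Led Lsl_bt (LP (LK LD1_c5 LD2_c44 LD3_c56)) = (LP (LK LD1_c2 LD2_c48 LD3_c16)) :=
  Lre_b IH (LK LD1_c5 LD2_c44 LD3_c56) (LK LD1_c2 LD2_c48 LD3_c16) Lrfl Lrfl
theorem f639009 : Led Lsl_at (LP (LK LD1_c11 LD2_c20 LD3_c9)) = (LP (LK LD1_c5 LD2_c44 LD3_c56)) :=
  Lre_a IH (LK LD1_c11 LD2_c20 LD3_c9) (LK LD1_c5 LD2_c44 LD3_c56) Lrfl Lrfl
theorem f638988 : Led Lsl_at (LP (LK LD1_c11 LD2_c19 LD3_c56)) = (LP (LK LD1_c5 LD2_c44 LD3_c52)) :=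
  Lre_a IH (LK LD1_c11 LD2_c19 LD3_c56) (LK LD1_c5 LD2_c44 LD3_c52) Lrfl Lrfl
theorem f549437 : Led Lsl_gt (LP (LK LD1_c20 LD2_c7 LD3_c10)) = (LP (LK LD1_c11 LD2_c12 LD3_c35)) :=
  Lre_g IH (LK LD1_c20 LD2_c7 LD3_c10) (LK LD1_c11 LD2_c12 LD3_c35) Lrfl Lrfl
theorem f713978 : Led Lsl_ft (LP (LK LD1_c20 LD2_c7 LD3_c10)) = (LP (LK LD1_c11 LD2_c19 LD3_c56)) :=
  Lgr Lrot2 (Lpr_gt (f549437 IH) (Lpr_gt (K52.f713975 IH) (Lpe (f638988 IH) (Lpn (LP (LK LD1_c11 LD2_c19 LD3_c56))))))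
theorem f738926 : Led Lsl_af (LP (LK LD1_c20 LD2_c7 LD3_c10)) = v15664 :=
  Lgr Lrot45 (Lpr_ft (f713978 IH) (Lpr_at (f638988 IH) (Lpr_ft (f738925 IH) (Lpn v15664))))
theorem f738931 : Led Lsl_bf (LP (LK LD1_c11 LD2_c20 LD3_c9)) = (LP (LK LD1_c20 LD2_c7 LD3_c10)) :=
  Lgr Lrot81 (Lpr_at (f639009 IH) (Lpr_bt (f416004 IH) (Lpr_at (f639007 IH) (Lpr_bt (f738930 IH) (Lpe (f738926 IH) (Lpn (LP (LK LD1_c20 LD2_c7 LD3_c10))))))))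
theorem f738932 : Led Lsl_bt (LP (LK LD1_c20 LD2_c7 LD3_c10)) = (LP (LK LD1_c11 LD2_c20 LD3_c9)) :=
  Leop (Lpr_bf (f738931 IH) (Lpn (LP (LK LD1_c20 LD2_c7 LD3_c10))))
theorem seed_921 : LEOK LG_b (LK LD1_c20 LD2_c7 LD3_c10) :=
  Leoe_b (LK LD1_c20 LD2_c7 LD3_c10) (f738932 IH)
def v12993 : LQ := Led Lsl_et (LP (LK LD1_c4 LD2_c36 LD3_c22))
theorem f700062 : Led Lsl_et (LP (LK LD1_c4 LD2_c36 LD3_c22)) = v12993 :=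
  Lrfl
theorem f159033 : Led Lsl_et (LP (LK LD1_c6 LD2_c44 LD3_c14)) = (LP (LK LD1_c3 LD2_c20 LD3_c15)) :=
  Lre_e IH (LK LD1_c6 LD2_c44 LD3_c14) (LK LD1_c3 LD2_c20 LD3_c15) Lrfl Lrfl
theorem f700063 : Led Lsl_df (LP (LK LD1_c6 LD2_c44 LD3_c14)) = v12993 :=
  Lgr Lrot70 (Lpr_et (f159033 IH) (Lpr_dt (K35.f148990 IH) (Lpr_et (K35.f538422 IH) (Lpr_dt (K35.f71469 IH) (Lpr_et (f700062 IH) (Lpn v12993))))))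
theorem f700064 : Led Lsl_ef (LP (LK LD1_c4 LD2_c36 LD3_c22)) = v12993 :=
  Lgr Lrot88 (Lpr_et (f700062 IH) (Lpn v12993))
theorem f172575 : Led Lsl_bt (LP (LK LD1_c2 LD2_c48 LD3_c26)) = (LP (LK LD1_c5 LD2_c45 LD3_c15)) :=
  Lre_b IH (LK LD1_c2 LD2_c48 LD3_c26) (LK LD1_c5 LD2_c45 LD3_c15) Lrfl Lrfl
theorem f172576 : Led Lsl_ef (LP (LK LD1_c4 LD2_c56 LD3_c44)) = (LP (LK LD1_c5 LD2_c45 LD3_c15)) :=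
  Lgr Lrot29 (Lpr_bt (K30.f172574 IH) (Lpr_et (K30.f172553 IH) (Lpr_bt (f172575 IH) (Lpn (LP (LK LD1_c5 LD2_c45 LD3_c15))))))
theorem f172627 : Led Lsl_gt (LP (LK LD1_c5 LD2_c45 LD3_c14)) = (LP (LK LD1_c2 LD2_c48 LD3_c23)) :=
  Lre_g IH (LK LD1_c5 LD2_c45 LD3_c14) (LK LD1_c2 LD2_c48 LD3_c23) Lrfl Lrfl
theorem f172668 : Led Lsl_dt (LP (LK LD1_c11 LD2_c21 LD3_c3)) = (LP (LK LD1_c5 LD2_c45 LD3_c14)) :=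
  Lre_d IH (LK LD1_c11 LD2_c21 LD3_c3) (LK LD1_c5 LD2_c45 LD3_c14) Lrfl Lrfl
theorem f130157 : Led Lsl_et (LP (LK LD1_c5 LD2_c48 LD3_c19)) = (LP (LK LD1_c2 LD2_c50 LD3_c14)) :=
  Lre_e IH (LK LD1_c5 LD2_c48 LD3_c19) (LK LD1_c2 LD2_c50 LD3_c14) Lrfl Lrfl
theorem f136264 : Led Lsl_et (LP (LK LD1_c2 LD2_c51 LD3_c43)) = (LP (LK LD1_c5 LD2_c50 LD3_c60)) :=
  Lre_e IH (LK LD1_c2 LD2_c51 LD3_c43) (LK LD1_c5 LD2_c50 LD3_c60) Lrfl Lrfl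
theorem f136265 : Led Lsl_cf (LP (LK LD1_c5 LD2_c48 LD3_c19)) = (LP (LK LD1_c5 LD2_c50 LD3_c60)) :=
  Lgr Lrot39 (Lpr_et (f130157 IH) (Lpr_ct (K6.f136255 IH) (Lpr_et (f136264 IH) (Lpn (LP (LK LD1_c5 LD2_c50 LD3_c60))))))
theorem f159034 : Led Lsl_bf (LP (LK LD1_c6 LD2_c44 LD3_c14)) = (LP (LK LD1_c5 LD2_c50 LD3_c60)) :=
  Lgr Lrot96 (Lpr_et (f159033 IH) (Lpr_bt (K36.f159029 IH) (Lpr_et (f136264 IH) (Lpn (LP (LK LD1_c5 LD2_c50 LD3_c60))))))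
def v13862 : LQ := Led Lsl_ft (LP (LK LD1_c4 LD2_c49 LD3_c13))
theorem f705578 : Led Lsl_ft (LP (LK LD1_c4 LD2_c49 LD3_c13)) = v13862 :=
  Lrfl
theorem f705580 : Led Lsl_ff (LP (LK LD1_c4 LD2_c49 LD3_c13)) = v13862 :=
  Lgr Lrot3 (Lpr_ft (f705578 IH) (Lpn v13862))
def v4940 : LQ := Led Lsl_ft (LP (LK LD1_c2 LD2_c53 LD3_c8))
theorem f640990 : Led Lsl_ft (LP (LK LD1_c2 LD2_c53 LD3_c8)) = v4940 :=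
  Lrfl
theorem f640991 : Led Lsl_ff (LP (LK LD1_c2 LD2_c53 LD3_c8)) = v4940 :=
  Lgr Lrot3 (Lpr_ft (f640990 IH) (Lpn v4940))
def v13860 : LQ := Led Lsl_bt (LP (LK LD1_c4 LD2_c49 LD3_c13))
theorem f705571 : Led Lsl_bt (LP (LK LD1_c4 LD2_c49 LD3_c13)) = v13860 :=
  Lrfl
theorem f705572 : Led Lsl_bf (LP (LK LD1_c4 LD2_c49 LD3_c13)) = v13860 :=
  Lgr Lrot24 (Lpr_bt (f705571 IH) (Lpn v13860))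
theorem f95241 : Led Lsl_et (LP (LK LD1_c5 LD2_c53 LD3_c25)) = (LP (LK LD1_c2 LD2_c53 LD3_c2)) :=
  Lre_e IH (LK LD1_c5 LD2_c53 LD3_c25) (LK LD1_c2 LD2_c53 LD3_c2) Lrfl Lrfl
theorem f136332 : Led Lsl_af (LP (LK LD1_c5 LD2_c53 LD3_c25)) = (LP (LK LD1_c5 LD2_c50 LD3_c60)) :=
  Lgr Lrot50 (Lpr_et (f95241 IH) (Lpr_at (K6.f136328 IH) (Lpr_et (f136264 IH) (Lpn (LP (LK LD1_c5 LD2_c50 LD3_c60))))))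
theorem f438256 : Led Lsl_at (LP (LK LD1_c5 LD2_c53 LD3_c25)) = (LP (LK LD1_c5 LD2_c50 LD3_c60)) :=
  Lgr Lrot100 (Lpr_af (f136332 IH) (Lpn (LP (LK LD1_c5 LD2_c50 LD3_c60))))
theorem f738936 : Led Lsl_dt (LP (LK LD1_c11 LD2_c20 LD3_c9)) = (LP (LK LD1_c20 LD2_c17 LD3_c20)) :=
  Lre_d IH (LK LD1_c11 LD2_c20 LD3_c9) (LK LD1_c20 LD2_c17 LD3_c20) Lrfl Lrfl
theorem f424635 : Led Lsl_gt (LP (LK LD1_c1 LD2_c26 LD3_c1)) = (LP (LK LD1_c1 LD2_c31 LD3_c17)) :=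
  Lgr Lrot49 (Lpe (K32.f75524 IH) (Lpr_gf (K28.f424627 IH) (Lpe (K36.f424609 IH) (Lpr_gt (K8.f57072 IH) (Lpr_dt (K8.f74399 IH) (Lpr_gt (K8.f75344 IH) (Lpr_dt (K8.f150277 IH) (Lpe (K8.f150273 IH) (Lpe (K32.f150335 IH) (Lpn (LP (LK LD1_c1 LD2_c31 LD3_c17))))))))))))
theorem f150325 : Led Lsl_gt (LP (LK LD1_c5 LD2_c57 LD3_c56)) = (LP (LK LD1_c11 LD2_c40 LD3_c36)) :=
  Lre_g IH (LK LD1_c5 LD2_c57 LD3_c56) (LK LD1_c11 LD2_c40 LD3_c36) Lrfl Lrfl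
theorem f150341 : Led Lsl_et (LP (LK LD1_c20 LD2_c40 LD3_c31)) = (LP (LK LD1_c11 LD2_c40 LD3_c36)) :=
  Lre_e IH (LK LD1_c20 LD2_c40 LD3_c31) (LK LD1_c11 LD2_c40 LD3_c36) Lrfl Lrfl
theorem f549463 : Led Lsl_dt (LP (LK LD1_c20 LD2_c40 LD3_c31)) = (LP (LK LD1_c20 LD2_c7 LD3_c10)) :=
  Lgr Lrot136 (Lpr_et (f150341 IH) (Lpe (f150325 IH) (Lpe (K32.f150339 IH) (Lpe (K32.f150337 IH) (Lpe (f424635 IH) (Lpe (K32.f75524 IH) (Lpr_gf (K28.f424627 IH) (Lpe (K51.f424613 IH) (Lpr_dt (K51.f549452 IH) (Lpe (f549437 IH) (Lpn (LP (LK LD1_c20 LD2_c7 LD3_c10)))))))))))))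
theorem f738937 : Led Lsl_bt (LP (LK LD1_c20 LD2_c17 LD3_c20)) = (LP (LK LD1_c20 LD2_c40 LD3_c31)) :=
  Lgr Lrot95 (Lpe (f738936 IH) (Lpr_bf (f738931 IH) (Lpe (f549463 IH) (Lpn (LP (LK LD1_c20 LD2_c40 LD3_c31))))))
theorem f496327 : Led Lsl_bt (LP (LK LD1_c11 LD2_c28 LD3_c35)) = (LP (LK LD1_c5 LD2_c50 LD3_c9)) :=
  Lre_b IH (LK LD1_c11 LD2_c28 LD3_c35) (LK LD1_c5 LD2_c50 LD3_c9) Lrfl Lrfl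
theorem f701481 : Led Lsl_bt (LP (LK LD1_c4 LD2_c40 LD3_c51)) = (LP (LK LD1_c9 LD2_c17 LD3_c8)) :=
  Lre_b IH (LK LD1_c4 LD2_c40 LD3_c51) (LK LD1_c9 LD2_c17 LD3_c8) Lrfl Lrfl
theorem f74685 : Led Lsl_ct (LP (LK LD1_c4 LD2_c40 LD3_c51)) = (LP (LK LD1_c9 LD2_c17 LD3_c9)) :=
  Lre_c IH (LK LD1_c4 LD2_c40 LD3_c51) (LK LD1_c9 LD2_c17 LD3_c9) Lrfl Lrfl
theorem f74686 : Led Lsl_gt (LP (LK LD1_c9 LD2_c17 LD3_c9)) = (LP (LK LD1_c17 LD2_c12 LD3_c16)) :=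
  Lre_g IH (LK LD1_c9 LD2_c17 LD3_c9) (LK LD1_c17 LD2_c12 LD3_c16) Lrfl Lrfl
theorem f707199 : Led Lsl_cf (LP (LK LD1_c17 LD2_c12 LD3_c16)) = (LP (LK LD1_c11 LD2_c28 LD3_c35)) :=
  Lgr Lrot58 (Lpe (f74686 IH) (Lpe (f74685 IH) (Lpr_bt (f701481 IH) (Lpr_gf (K51.f706002 IH) (Lpr_bf (K50.f560125 IH) (Lpe (K51.f540164 IH) (Lpe (K51.f706014 IH) (Lpe (K48.f414312 IH) (Lpr_gf (K50.f701611 IH) (Lpqs (K51.f706037 IH) (Lpe (f496327 IH) (Lpn (LP (LK LD1_c11 LD2_c28 LD3_c35))))))))))))))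
theorem f100378 : Led Lsl_gt (LP (LK LD1_c3 LD2_c2 LD3_c7)) = (LP (LK LD1_c6 LD2_c10 LD3_c59)) :=
  Lre_g IH (LK LD1_c3 LD2_c2 LD3_c7) (LK LD1_c6 LD2_c10 LD3_c59) Lrfl Lrfl
theorem f138849 : Led Lsl_gt (LP (LK LD1_c9 LD2_c48 LD3_c12)) = (LP (LK LD1_c17 LD2_c58 LD3_c26)) :=
  Lre_g IH (LK LD1_c9 LD2_c48 LD3_c12) (LK LD1_c17 LD2_c58 LD3_c26) Lrfl Lrfl
theorem f496508 : Led Lsl_gt (LP (LK LD1_c17 LD2_c58 LD3_c26)) = (LP (LK LD1_c11 LD2_c31 LD3_c10)) :=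
  Lgr Lrot46 (Lpe (f138849 IH) (Lpr_ft (K32.f138863 IH) (Lpr_at (K32.f496486 IH) (Lpn (LP (LK LD1_c11 LD2_c31 LD3_c10))))))
theorem f713760 : Led Lsl_bf (LP (LK LD1_c17 LD2_c58 LD3_c26)) = (LP (LK LD1_c11 LD2_c29 LD3_c57)) :=
  Lgr Lrot165 (Lpr_gt (f496508 IH) (Lpe (K52.f22784 IH) (Lpr_gt (K52.f706067 IH) (Lpe (K52.f646807 IH) (Lpr_bt (K52.f414674 IH) (Lpr_gt (K16.f59890 IH) (Lpe (K52.f141013 IH) (Lpr_ct (K52.f100268 IH) (Lpr_gt (f100378 IH) (Lpr_cf (K53.f713752 IH) (Lpn (LP (LK LD1_c11 LD2_c29 LD3_c57)))))))))))))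
theorem f701485 : Led Lsl_ct (LP (LK LD1_c4 LD2_c40 LD3_c52)) = (LP (LK LD1_c9 LD2_c17 LD3_c12)) :=
  Lre_c IH (LK LD1_c4 LD2_c40 LD3_c52) (LK LD1_c9 LD2_c17 LD3_c12) Lrfl Lrfl
theorem f713764 : Led Lsl_gf (LP (LK LD1_c5 LD2_c58 LD3_c15)) = (LP (LK LD1_c9 LD2_c17 LD3_c12)) :=
  Lgr Lrot129 (Lpr_cf (K32.f496345 IH) (Lpr_bt (K32.f496317 IH) (Lpr_gt (f138849 IH) (Lpr_bf (f713760 IH) (Lpe (K53.f713752 IH) (Lpr_gt (K53.f100044 IH) (Lpe (K36.f100029 IH) (Lpr_bt (K40.f76185 IH) (Lpr_gt (K53.f74998 IH) (Lpr_ct (f701485 IH) (Lpn (LP (LK LD1_c9 LD2_c17 LD3_c12)))))))))))))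
theorem f496361 : Led Lsl_af (LP (LK LD1_c5 LD2_c58 LD3_c15)) = (LP (LK LD1_c11 LD2_c28 LD3_c32)) :=
  Lgr Lrot0 (Lpr_at (K32.f496348 IH) (Lpn (LP (LK LD1_c11 LD2_c28 LD3_c32))))
theorem f496358 : Led Lsl_ft (LP (LK LD1_c5 LD2_c50 LD3_c5)) = (LP (LK LD1_c11 LD2_c28 LD3_c35)) :=
  Lre_f IH (LK LD1_c5 LD2_c50 LD3_c5) (LK LD1_c11 LD2_c28 LD3_c35) Lrfl Lrfl
theorem f707207 : Led Lsl_ft (LP (LK LD1_c17 LD2_c12 LD3_c16)) = (LP (LK LD1_c11 LD2_c28 LD3_c32)) :=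
  Lgr Lrot4 (Lpr_cf (f707199 IH) (Lpe (f496358 IH) (Lpe (K32.f496347 IH) (Lpn (LP (LK LD1_c11 LD2_c28 LD3_c32))))))
theorem f713766 : Led Lsl_gt (LP (LK LD1_c17 LD2_c12 LD3_c16)) = (LP (LK LD1_c9 LD2_c17 LD3_c12)) :=
  Lgr Lrot5 (Lpr_ft (f707207 IH) (Lpe (f496361 IH) (Lpr_gf (f713764 IH) (Lpn (LP (LK LD1_c9 LD2_c17 LD3_c12))))))
theorem f701484 : Led Lsl_bt (LP (LK LD1_c4 LD2_c40 LD3_c52)) = (LP (LK LD1_c9 LD2_c17 LD3_c11)) :=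
  Lre_b IH (LK LD1_c4 LD2_c40 LD3_c52) (LK LD1_c9 LD2_c17 LD3_c11) Lrfl Lrfl
theorem f137262 : Led Lsl_cf (LP (LK LD1_c9 LD2_c6 LD3_c22)) = (LP (LK LD1_c5 LD2_c47 LD3_c48)) :=
  Lgr Lrot1 (Lpr_at (K52.f137258 IH) (Lpr_ct (K4.f112326 IH) (Lpr_at (K5.f117868 IH) (Lpn (LP (LK LD1_c5 LD2_c47 LD3_c48))))))
theorem f714939 : Led Lsl_gt (LP (LK LD1_c9 LD2_c17 LD3_c11)) = (LP (LK LD1_c5 LD2_c47 LD3_c48)) :=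
  Lgr Lrot82 (Lpe (f701484 IH) (Lpr_ct (f701485 IH) (Lpe (f713766 IH) (Lpr_cf (f707199 IH) (Lpr_bt (f496327 IH) (Lpr_gf (K41.f496490 IH) (Lpq (K52.f706040 IH) (Lpr_bf (K52.f701575 IH) (Lpqs (K52.f710390 IH) (Lpr_ct (K52.f66294 IH) (Lpr_gf (K52.f714935 IH) (Lpr_cf (f137262 IH) (Lpn (LP (LK LD1_c5 LD2_c47 LD3_c48)))))))))))))))
theorem f714941 : Led Lsl_gf (LP (LK LD1_c9 LD2_c17 LD3_c11)) = (LP (LK LD1_c12 LD2_c9 LD3_c4)) :=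
  Lgr Lrot47 (Lpr_gt (f714939 IH) (Lpe (K5.f117868 IH) (Lpe (K5.f112329 IH) (Lpn (LP (LK LD1_c12 LD2_c9 LD3_c4))))))
theorem f418656 : Led Lsl_ct (LP (LK LD1_c11 LD2_c11 LD3_c30)) = (LP (LK LD1_c5 LD2_c40 LD3_c25)) :=
  Lre_c IH (LK LD1_c11 LD2_c11 LD3_c30) (LK LD1_c5 LD2_c40 LD3_c25) Lrfl Lrfl
theorem f418682 : Led Lsl_gt (LP (LK LD1_c20 LD2_c6 LD3_c7)) = (LP (LK LD1_c11 LD2_c11 LD3_c30)) :=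
  Lre_g IH (LK LD1_c20 LD2_c6 LD3_c7) (LK LD1_c11 LD2_c11 LD3_c30) Lrfl Lrfl
theorem f418648 : Led Lsl_ct (LP (LK LD1_c20 LD2_c6 LD3_c9)) = (LP (LK LD1_c11 LD2_c11 LD3_c32)) :=
  Lre_c IH (LK LD1_c20 LD2_c6 LD3_c9) (LK LD1_c11 LD2_c11 LD3_c32) Lrfl Lrfl
theorem f589493 : Led Lsl_at (LP (LK LD1_c20 LD2_c0 LD3_c51)) = (LP (LK LD1_c20 LD2_c6 LD3_c9)) :=
  Lgr Lrot107 (Lpe (K43.f557242 IH) (Lpr_af (K51.f589485 IH) (Lpe (f418648 IH) (Lpn (LP (LK LD1_c20 LD2_c6 LD3_c9))))))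
theorem f589549 : Led Lsl_af (LP (LK LD1_c20 LD2_c0 LD3_c51)) = (LP (LK LD1_c20 LD2_c6 LD3_c9)) :=
  Lgr Lrot0 (Lpr_at (f589493 IH) (Lpn (LP (LK LD1_c20 LD2_c6 LD3_c9))))
theorem f557266 : Led Lsl_ft (LP (LK LD1_c20 LD2_c0 LD3_c51)) = (LP (LK LD1_c11 LD2_c7 LD3_c22)) :=
  Lre_f IH (LK LD1_c20 LD2_c0 LD3_c51) (LK LD1_c11 LD2_c7 LD3_c22) Lrfl Lrfl
theorem f579256 : Led Lsl_ft (LP (LK LD1_c11 LD2_c11 LD3_c30)) = (LP (LK LD1_c20 LD2_c6 LD3_c9)) :=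
  Lre_f IH (LK LD1_c11 LD2_c11 LD3_c30) (LK LD1_c20 LD2_c6 LD3_c9) Lrfl Lrfl
theorem f589553 : Led Lsl_at (LP (LK LD1_c11 LD2_c7 LD3_c22)) = (LP (LK LD1_c11 LD2_c11 LD3_c30)) :=
  Lgr Lrot66 (Lpe (f557266 IH) (Lpr_af (f589549 IH) (Lpe (f579256 IH) (Lpn (LP (LK LD1_c11 LD2_c11 LD3_c30))))))
theorem f589559 : Led Lsl_gt (LP (LK LD1_c20 LD2_c0 LD3_c51)) = (LP (LK LD1_c20 LD2_c6 LD3_c7)) :=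
  Lgr Lrot5 (Lpr_ft (f557266 IH) (Lpr_at (f589553 IH) (Lpe (f418682 IH) (Lpn (LP (LK LD1_c20 LD2_c6 LD3_c7))))))
theorem f74680 : Led Lsl_bt (LP (LK LD1_c17 LD2_c12 LD3_c20)) = (LP (LK LD1_c9 LD2_c17 LD3_c15)) :=
  Lre_b IH (LK LD1_c17 LD2_c12 LD3_c20) (LK LD1_c9 LD2_c17 LD3_c15) Lrfl Lrfl
theorem f710334 : Led Lsl_cf (LP (LK LD1_c20 LD2_c6 LD3_c7)) = (LP (LK LD1_c17 LD2_c12 LD3_c20)) :=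
  Lgr Lrot163 (Lpe (f589559 IH) (Lpe (K43.f557242 IH) (Lpr_gf (K51.f710314 IH) (Lpe (K51.f414335 IH) (Lpe (K24.f414320 IH) (Lpe (K24.f22870 IH) (Lpe (K24.f22869 IH) (Lpr_bt (K52.f414336 IH) (Lpe (K2.f74566 IH) (Lpe (f74680 IH) (Lpn (LP (LK LD1_c17 LD2_c12 LD3_c20)))))))))))))
theorem f112341 : Led Lsl_dt (LP (LK LD1_c21 LD2_c15 LD3_c20)) = (LP (LK LD1_c12 LD2_c9 LD3_c4)) :=
  Lre_d IH (LK LD1_c21 LD2_c15 LD3_c20) (LK LD1_c12 LD2_c9 LD3_c4) Lrfl Lrfl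
theorem f714943 : Led Lsl_gf (LP (LK LD1_c17 LD2_c12 LD3_c20)) = (LP (LK LD1_c21 LD2_c15 LD3_c20)) :=
  Lgr Lrot147 (Lpe (f710334 IH) (Lpr_gt (f418682 IH) (Lpr_ct (f418656 IH) (Lpe (K51.f589230 IH) (Lpe (K8.f158081 IH) (Lpe (K53.f157986 IH) (Lpe (K53.f713743 IH) (Lpr_gf (f714941 IH) (Lpe (f112341 IH) (Lpn (LP (LK LD1_c21 LD2_c15 LD3_c20))))))))))))
theorem f74578 : Led Lsl_bt (LP (LK LD1_c9 LD2_c17 LD3_c15)) = (LP (LK LD1_c17 LD2_c12 LD3_c20)) :=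
  Lre_b IH (LK LD1_c9 LD2_c17 LD3_c15) (LK LD1_c17 LD2_c12 LD3_c20) Lrfl Lrfl
theorem f74579 : Led Lsl_bt (LP (LK LD1_c17 LD2_c31 LD3_c48)) = (LP (LK LD1_c9 LD2_c30 LD3_c28)) :=
  Lre_b IH (LK LD1_c17 LD2_c31 LD3_c48) (LK LD1_c9 LD2_c30 LD3_c28) Lrfl Lrfl
theorem f74580 : Led Lsl_dt (LP (LK LD1_c17 LD2_c12 LD3_c20)) = (LP (LK LD1_c17 LD2_c31 LD3_c48)) :=
  Lgr Lrot79 (Lpe (f74578 IH) (Lpr_df (K2.f74571 IH) (Lpe (f74579 IH) (Lpn (LP (LK LD1_c17 LD2_c31 LD3_c48))))))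
theorem f74676 : Led Lsl_et (LP (LK LD1_c9 LD2_c30 LD3_c25)) = (LP (LK LD1_c17 LD2_c31 LD3_c48)) :=
  Lre_e IH (LK LD1_c9 LD2_c30 LD3_c25) (LK LD1_c17 LD2_c31 LD3_c48) Lrfl Lrfl
theorem f65989 : Led Lsl_et (LP (LK LD1_c14 LD2_c35 LD3_c26)) = (LP (LK LD1_c7 LD2_c44 LD3_c10)) :=
  Lre_e IH (LK LD1_c14 LD2_c35 LD3_c26) (LK LD1_c7 LD2_c44 LD3_c10) Lrfl Lrfl
theorem f709861 : Led Lsl_ct (LP (LK LD1_c17 LD2_c31 LD3_c48)) = (LP (LK LD1_c14 LD2_c35 LD3_c26)) :=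
  Lgr Lrot15 (Lpe (f74676 IH) (Lpr_cf (K52.f709857 IH) (Lpe (f65989 IH) (Lpn (LP (LK LD1_c14 LD2_c35 LD3_c26))))))
theorem f709978 : Led Lsl_cf (LP (LK LD1_c17 LD2_c31 LD3_c48)) = (LP (LK LD1_c14 LD2_c35 LD3_c26)) :=
  Lgr Lrot11 (Lpr_ct (f709861 IH) (Lpn (LP (LK LD1_c14 LD2_c35 LD3_c26))))
theorem f157974 : Led Lsl_et (LP (LK LD1_c5 LD2_c51 LD3_c17)) = (LP (LK LD1_c2 LD2_c51 LD3_c54)) :=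
  Lre_e IH (LK LD1_c5 LD2_c51 LD3_c17) (LK LD1_c2 LD2_c51 LD3_c54) Lrfl Lrfl
theorem f157997 : Led Lsl_dt (LP (LK LD1_c5 LD2_c51 LD3_c17)) = (LP (LK LD1_c11 LD2_c30 LD3_c1)) :=
  Lre_d IH (LK LD1_c5 LD2_c51 LD3_c17) (LK LD1_c11 LD2_c30 LD3_c1) Lrfl Lrfl
theorem f158067 : Led Lsl_gt (LP (LK LD1_c20 LD2_c27 LD3_c14)) = (LP (LK LD1_c11 LD2_c30 LD3_c1)) :=
  Lre_g IH (LK LD1_c20 LD2_c27 LD3_c14) (LK LD1_c11 LD2_c30 LD3_c1) Lrfl Lrfl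
theorem f206016 : Led Lsl_dt (LP (LK LD1_c14 LD2_c35 LD3_c26)) = (LP (LK LD1_c20 LD2_c27 LD3_c14)) :=
  Lgr Lrot136 (Lpr_et (f65989 IH) (Lpe (K51.f65740 IH) (Lpe (K51.f65973 IH) (Lpe (K6.f65772 IH) (Lpe (K6.f65940 IH) (Lpe (K34.f206005 IH) (Lpr_gf (K37.f206014 IH) (Lpe (f157974 IH) (Lpr_dt (f157997 IH) (Lpe (f158067 IH) (Lpn (LP (LK LD1_c20 LD2_c27 LD3_c14)))))))))))))
theorem f206018 : Led Lsl_df (LP (LK LD1_c14 LD2_c35 LD3_c26)) = (LP (LK LD1_c20 LD2_c27 LD3_c14)) :=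
  Lgr Lrot38 (Lpr_dt (f206016 IH) (Lpn (LP (LK LD1_c20 LD2_c27 LD3_c14))))
theorem f158068 : Led Lsl_gt (LP (LK LD1_c14 LD2_c31 LD3_c7)) = (LP (LK LD1_c20 LD2_c27 LD3_c14)) :=
  Lgr Lrot5 (Lpr_ft (K8.f66315 IH) (Lpr_at (K8.f158050 IH) (Lpe (f158067 IH) (Lpn (LP (LK LD1_c20 LD2_c27 LD3_c14))))))
theorem f66387 : Led Lsl_dt (LP (LK LD1_c7 LD2_c42 LD3_c13)) = (LP (LK LD1_c14 LD2_c31 LD3_c7)) :=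
  Lre_d IH (LK LD1_c7 LD2_c42 LD3_c13) (LK LD1_c14 LD2_c31 LD3_c7) Lrfl Lrfl
theorem f157988 : Led Lsl_gt (LP (LK LD1_c5 LD2_c51 LD3_c17)) = (LP (LK LD1_c11 LD2_c29 LD3_c61)) :=
  Lre_g IH (LK LD1_c5 LD2_c51 LD3_c17) (LK LD1_c11 LD2_c29 LD3_c61) Lrfl Lrfl
theorem f158100 : Led Lsl_gf (LP (LK LD1_c7 LD2_c42 LD3_c13)) = (LP (LK LD1_c11 LD2_c29 LD3_c61)) :=
  Lgr Lrot76 (Lpr_af (K8.f158085 IH) (Lpe (K8.f158097 IH) (Lpr_gt (f157988 IH) (Lpn (LP (LK LD1_c11 LD2_c29 LD3_c61))))))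
theorem f112340 : Led Lsl_dt (LP (LK LD1_c12 LD2_c9 LD3_c4)) = (LP (LK LD1_c21 LD2_c15 LD3_c20)) :=
  Lre_d IH (LK LD1_c12 LD2_c9 LD3_c4) (LK LD1_c21 LD2_c15 LD3_c20) Lrfl Lrfl
theorem f117876 : Led Lsl_gt (LP (LK LD1_c5 LD2_c47 LD3_c48)) = (LP (LK LD1_c11 LD2_c25 LD3_c19)) :=
  Lre_g IH (LK LD1_c5 LD2_c47 LD3_c48) (LK LD1_c11 LD2_c25 LD3_c19) Lrfl Lrfl
theorem f117877 : Led Lsl_gf (LP (LK LD1_c12 LD2_c9 LD3_c4)) = (LP (LK LD1_c11 LD2_c25 LD3_c19)) :=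
  Lgr Lrot76 (Lpr_af (K5.f117872 IH) (Lpe (K5.f117858 IH) (Lpr_gt (f117876 IH) (Lpn (LP (LK LD1_c11 LD2_c25 LD3_c19))))))
theorem f714949 : Led Lsl_cf (LP (LK LD1_c11 LD2_c29 LD3_c61)) = (LP (LK LD1_c11 LD2_c25 LD3_c19)) :=
  Lgr Lrot166 (Lpe (f158100 IH) (Lpr_dt (f66387 IH) (Lpr_gt (f158068 IH) (Lpe (f206018 IH) (Lpe (f709978 IH) (Lpe (f74580 IH) (Lpr_gf (f714943 IH) (Lpe (f112340 IH) (Lpr_gf (f117877 IH) (Lpn (LP (LK LD1_c11 LD2_c25 LD3_c19))))))))))))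
theorem f557232 : Led Lsl_ct (LP (LK LD1_c20 LD2_c0 LD3_c51)) = (LP (LK LD1_c11 LD2_c7 LD3_c23)) :=
  Lre_c IH (LK LD1_c20 LD2_c0 LD3_c51) (LK LD1_c11 LD2_c7 LD3_c23) Lrfl Lrfl
theorem f418666 : Led Lsl_gt (LP (LK LD1_c11 LD2_c11 LD3_c30)) = (LP (LK LD1_c20 LD2_c6 LD3_c6)) :=
  Lre_g IH (LK LD1_c11 LD2_c11 LD3_c30) (LK LD1_c20 LD2_c6 LD3_c6) Lrfl Lrfl
theorem f589555 : Led Lsl_gf (LP (LK LD1_c20 LD2_c0 LD3_c51)) = (LP (LK LD1_c20 LD2_c6 LD3_c6)) :=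
  Lgr Lrot76 (Lpr_af (f589549 IH) (Lpe (f579256 IH) (Lpr_gt (f418666 IH) (Lpn (LP (LK LD1_c20 LD2_c6 LD3_c6))))))
theorem f112332 : Led Lsl_ft (LP (LK LD1_c12 LD2_c9 LD3_c3)) = (LP (LK LD1_c21 LD2_c15 LD3_c20)) :=
  Lre_f IH (LK LD1_c12 LD2_c9 LD3_c3) (LK LD1_c21 LD2_c15 LD3_c20) Lrfl Lrfl
theorem f595551 : Led Lsl_ft (LP (LK LD1_c20 LD2_c0 LD3_c42)) = (LP (LK LD1_c11 LD2_c7 LD3_c19)) :=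
  Lre_f IH (LK LD1_c20 LD2_c0 LD3_c42) (LK LD1_c11 LD2_c7 LD3_c19) Lrfl Lrfl
theorem f595824 : Led Lsl_at (LP (LK LD1_c21 LD2_c15 LD3_c20)) = (LP (LK LD1_c20 LD2_c0 LD3_c42)) :=
  Lgr Lrot66 (Lpe (f112332 IH) (Lpr_af (K52.f595814 IH) (Lpe (f595551 IH) (Lpn (LP (LK LD1_c20 LD2_c0 LD3_c42))))))
theorem f595828 : Led Lsl_df (LP (LK LD1_c11 LD2_c25 LD3_c20)) = (LP (LK LD1_c20 LD2_c0 LD3_c42)) :=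
  Lgr Lrot18 (Lpe (K5.f117872 IH) (Lpr_dt (f112340 IH) (Lpr_at (f595824 IH) (Lpn (LP (LK LD1_c20 LD2_c0 LD3_c42))))))
theorem f595832 : Led Lsl_dt (LP (LK LD1_c11 LD2_c25 LD3_c20)) = (LP (LK LD1_c20 LD2_c0 LD3_c42)) :=
  Lgr Lrot42 (Lpr_df (f595828 IH) (Lpn (LP (LK LD1_c20 LD2_c0 LD3_c42))))
theorem f595834 : Led Lsl_df (LP (LK LD1_c5 LD2_c47 LD3_c48)) = (LP (LK LD1_c11 LD2_c7 LD3_c19)) :=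
  Lgr Lrot78 (Lpr_ft (K5.f117858 IH) (Lpr_dt (f595832 IH) (Lpr_ft (f595551 IH) (Lpn (LP (LK LD1_c11 LD2_c7 LD3_c19))))))
theorem f556143 : Led Lsl_gt (LP (LK LD1_c11 LD2_c7 LD3_c19)) = (LP (LK LD1_c20 LD2_c0 LD3_c41)) :=
  Lre_g IH (LK LD1_c11 LD2_c7 LD3_c19) (LK LD1_c20 LD2_c0 LD3_c41) Lrfl Lrfl
theorem f714952 : Led Lsl_cf (LP (LK LD1_c20 LD2_c6 LD3_c6)) = (LP (LK LD1_c20 LD2_c0 LD3_c41)) :=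
  Lgr Lrot169 (Lpe (f589555 IH) (Lpr_ct (f557232 IH) (Lpr_df (K51.f589532 IH) (Lpe (K6.f66305 IH) (Lpr_gf (f158100 IH) (Lpr_cf (f714949 IH) (Lpe (f117876 IH) (Lpr_df (f595834 IH) (Lpr_gt (f556143 IH) (Lpn (LP (LK LD1_c20 LD2_c0 LD3_c41))))))))))))
theorem f408237 : Led Lsl_gt (LP (LK LD1_c10 LD2_c48 LD3_c11)) = (LP (LK LD1_c10 LD2_c58 LD3_c34)) :=
  Lgr Lrot5 (Lpr_ft (K51.f289189 IH) (Lpr_at (K51.f289175 IH) (Lpe (K50.f225363 IH) (Lpn (LP (LK LD1_c10 LD2_c58 LD3_c34))))))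
theorem f381264 : Led Lsl_gt (LP (LK LD1_c5 LD2_c43 LD3_c27)) = (LP (LK LD1_c11 LD2_c16 LD3_c58)) :=
  Lre_g IH (LK LD1_c5 LD2_c43 LD3_c27) (LK LD1_c11 LD2_c16 LD3_c58) Lrfl Lrfl
theorem f381265 : Led Lsl_gt (LP (LK LD1_c11 LD2_c16 LD3_c58)) = (LP (LK LD1_c11 LD2_c6 LD3_c32)) :=
  Lgr Lrot46 (Lpe (f381264 IH) (Lpr_ft (K27.f381249 IH) (Lpr_at (K27.f381256 IH) (Lpn (LP (LK LD1_c11 LD2_c6 LD3_c32))))))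
theorem f714956 : Led Lsl_bf (LP (LK LD1_c11 LD2_c16 LD3_c58)) = (LP (LK LD1_c20 LD2_c0 LD3_c41)) :=
  Lgr Lrot156 (Lpr_gt (f381265 IH) (Lpe (K17.f242707 IH) (Lpr_ct (K51.f381331 IH) (Lpr_gt (f408237 IH) (Lpr_cf (K51.f705977 IH) (Lpe (K51.f710308 IH) (Lpr_gt (K51.f418661 IH) (Lpr_ct (K53.f418634 IH) (Lpr_gt (f418666 IH) (Lpr_cf (f714952 IH) (Lpn (LP (LK LD1_c20 LD2_c0 LD3_c41)))))))))))))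
theorem f499873 : Led Lsl_ct (LP (LK LD1_c6 LD2_c25 LD3_c19)) = (LP (LK LD1_c12 LD2_c23 LD3_c33)) :=
  Lre_c IH (LK LD1_c6 LD2_c25 LD3_c19) (LK LD1_c12 LD2_c23 LD3_c33) Lrfl Lrfl
theorem f598874 : Led Lsl_gt (LP (LK LD1_c21 LD2_c30 LD3_c34)) = (LP (LK LD1_c12 LD2_c23 LD3_c33)) :=
  Lre_g IH (LK LD1_c21 LD2_c30 LD3_c34) (LK LD1_c12 LD2_c23 LD3_c33) Lrfl Lrfl
theorem f73859 : Led Lsl_gt (LP (LK LD1_c11 LD2_c30 LD3_c51)) = (LP (LK LD1_c5 LD2_c51 LD3_c47)) :=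
  Lre_g IH (LK LD1_c11 LD2_c30 LD3_c51) (LK LD1_c5 LD2_c51 LD3_c47) Lrfl Lrfl
theorem f141028 : Led Lsl_bt (LP (LK LD1_c20 LD2_c27 LD3_c52)) = (LP (LK LD1_c11 LD2_c30 LD3_c51)) :=
  Lre_b IH (LK LD1_c20 LD2_c27 LD3_c52) (LK LD1_c11 LD2_c30 LD3_c51) Lrfl Lrfl
theorem f496841 : Led Lsl_ct (LP (LK LD1_c12 LD2_c23 LD3_c33)) = (LP (LK LD1_c6 LD2_c25 LD3_c19)) :=
  Lre_c IH (LK LD1_c12 LD2_c23 LD3_c33) (LK LD1_c6 LD2_c25 LD3_c19) Lrfl Lrfl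
theorem f408233 : Led Lsl_ct (LP (LK LD1_c5 LD2_c42 LD3_c3)) = (LP (LK LD1_c11 LD2_c14 LD3_c23)) :=
  Lre_c IH (LK LD1_c5 LD2_c42 LD3_c3) (LK LD1_c11 LD2_c14 LD3_c23) Lrfl Lrfl
theorem f618056 : Led Lsl_af (LP (LK LD1_c12 LD2_c23 LD3_c33)) = (LP (LK LD1_c11 LD2_c14 LD3_c23)) :=
  Lgr Lrot68 (Lpr_ct (f496841 IH) (Lpr_at (K51.f618053 IH) (Lpr_ct (f408233 IH) (Lpn (LP (LK LD1_c11 LD2_c14 LD3_c23))))))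
theorem f618128 : Led Lsl_gf (LP (LK LD1_c21 LD2_c30 LD3_c34)) = (LP (LK LD1_c20 LD2_c9 LD3_c24)) :=
  Lgr Lrot47 (Lpr_gt (f598874 IH) (Lpr_af (f618056 IH) (Lpe (f289345 IH) (Lpn (LP (LK LD1_c20 LD2_c9 LD3_c24))))))
theorem f707239 : Led Lsl_ct (LP (LK LD1_c20 LD2_c27 LD3_c52)) = (LP (LK LD1_c21 LD2_c30 LD3_c34)) :=
  Lgr Lrot63 (Lpr_bt (f141028 IH) (Lpr_gt (f73859 IH) (Lpe (K50.f73865 IH) (Lpr_ct (K17.f73658 IH) (Lpe (K24.f141015 IH) (Lpe (K17.f141009 IH) (Lpr_bt (K51.f141023 IH) (Lpr_gt (K51.f705998 IH) (Lpr_ct (K53.f289255 IH) (Lpe (f618128 IH) (Lpn (LP (LK LD1_c21 LD2_c30 LD3_c34)))))))))))))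
theorem f714960 : Led Lsl_gf (LP (LK LD1_c20 LD2_c27 LD3_c52)) = (LP (LK LD1_c20 LD2_c0 LD3_c40)) :=
  Lgr Lrot181 (Lpr_ct (f707239 IH) (Lpr_gt (f598874 IH) (Lpe (f499873 IH) (Lpr_bt (K51.f618045 IH) (Lpr_gt (f381264 IH) (Lpr_bf (f714956 IH) (Lpe (f714952 IH) (Lpe (f589555 IH) (Lpe (K43.f557242 IH) (Lpr_bt (K51.f557240 IH) (Lpn (LP (LK LD1_c20 LD2_c0 LD3_c40)))))))))))))
theorem f150307 : Led Lsl_gt (LP (LK LD1_c12 LD2_c23 LD3_c28)) = (LP (LK LD1_c6 LD2_c25 LD3_c17)) :=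
  Lre_g IH (LK LD1_c12 LD2_c23 LD3_c28) (LK LD1_c6 LD2_c25 LD3_c17) Lrfl Lrfl
theorem f73840 : Led Lsl_gt (LP (LK LD1_c5 LD2_c51 LD3_c46)) = (LP (LK LD1_c2 LD2_c52 LD3_c7)) :=
  Lre_g IH (LK LD1_c5 LD2_c51 LD3_c46) (LK LD1_c2 LD2_c52 LD3_c7) Lrfl Lrfl
theorem f79836 : Led Lsl_bt (LP (LK LD1_c11 LD2_c30 LD3_c47)) = (LP (LK LD1_c5 LD2_c51 LD3_c46)) :=
  Lre_b IH (LK LD1_c11 LD2_c30 LD3_c47) (LK LD1_c5 LD2_c51 LD3_c46) Lrfl Lrfl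
theorem f141823 : Led Lsl_ct (LP (LK LD1_c5 LD2_c56 LD3_c33)) = (LP (LK LD1_c11 LD2_c38 LD3_c22)) :=
  Lre_c IH (LK LD1_c5 LD2_c56 LD3_c33) (LK LD1_c11 LD2_c38 LD3_c22) Lrfl Lrfl
theorem f496839 : Led Lsl_gf (LP (LK LD1_c12 LD2_c23 LD3_c28)) = (LP (LK LD1_c11 LD2_c38 LD3_c22)) :=
  Lgr Lrot47 (Lpr_gt (f150307 IH) (Lpr_af (K32.f496829 IH) (Lpe (K32.f141812 IH) (Lpn (LP (LK LD1_c11 LD2_c38 LD3_c22))))))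
theorem f706443 : Led Lsl_ct (LP (LK LD1_c11 LD2_c30 LD3_c47)) = (LP (LK LD1_c12 LD2_c23 LD3_c28)) :=
  Lgr Lrot63 (Lpr_bt (f79836 IH) (Lpr_gt (f73840 IH) (Lpe (K52.f73638 IH) (Lpe (K2.f73642 IH) (Lpr_gt (K9.f66976 IH) (Lpe (K17.f140030 IH) (Lpr_bt (K38.f140026 IH) (Lpr_gt (K52.f646794 IH) (Lpqs (K52.f706375 IH) (Lpr_ct (f141823 IH) (Lpe (f496839 IH) (Lpn (LP (LK LD1_c12 LD2_c23 LD3_c28))))))))))))))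
theorem f714964 : Led Lsl_gf (LP (LK LD1_c11 LD2_c30 LD3_c47)) = (LP (LK LD1_c11 LD2_c25 LD3_c17)) :=
  Lgr Lrot147 (Lpr_ct (f706443 IH) (Lpr_gt (f150307 IH) (Lpr_ct (K32.f150308 IH) (Lpe (K52.f150315 IH) (Lpe (f496841 IH) (Lpe (f598874 IH) (Lpe (f707239 IH) (Lpr_gf (f714960 IH) (Lpr_df (K51.f589545 IH) (Lpn (LP (LK LD1_c11 LD2_c25 LD3_c17))))))))))))
theorem f714973 : Led Lsl_bf (LP (LK LD1_c11 LD2_c40 LD3_c36)) = (LP (LK LD1_c11 LD2_c25 LD3_c19)) :=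
  Lgr Lrot34 (Lpe (f150325 IH) (Lpe (K32.f150311 IH) (Lpr_ct (K51.f150298 IH) (Lpe (f150307 IH) (Lpe (f706443 IH) (Lpr_gf (f714964 IH) (Lpe (K6.f66304 IH) (Lpe (K53.f66297 IH) (Lpr_gf (f158100 IH) (Lpr_cf (f714949 IH) (Lpn (LP (LK LD1_c11 LD2_c25 LD3_c19)))))))))))))
theorem f714975 : Led Lsl_bt (LP (LK LD1_c11 LD2_c40 LD3_c36)) = (LP (LK LD1_c11 LD2_c25 LD3_c19)) :=
  Lgr Lrot127 (Lpr_bf (f714973 IH) (Lpn (LP (LK LD1_c11 LD2_c25 LD3_c19))))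
theorem f738942 : Led Lsl_ef (LP (LK LD1_c20 LD2_c17 LD3_c20)) = (LP (LK LD1_c11 LD2_c25 LD3_c19)) :=
  Lgr Lrot29 (Lpr_bt (f738937 IH) (Lpr_et (f150341 IH) (Lpr_bt (f714975 IH) (Lpn (LP (LK LD1_c11 LD2_c25 LD3_c19))))))
theorem f738947 : Led Lsl_et (LP (LK LD1_c20 LD2_c17 LD3_c20)) = (LP (LK LD1_c11 LD2_c25 LD3_c19)) :=
  Lgr Lrot87 (Lpr_ef (f738942 IH) (Lpn (LP (LK LD1_c11 LD2_c25 LD3_c19))))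
theorem f738946 : Led Lsl_dt (LP (LK LD1_c20 LD2_c17 LD3_c20)) = (LP (LK LD1_c11 LD2_c20 LD3_c9)) :=
  Lre_d IH (LK LD1_c20 LD2_c17 LD3_c20) (LK LD1_c11 LD2_c20 LD3_c9) Lrfl Lrfl
theorem f136325 : Led Lsl_et (LP (LK LD1_c5 LD2_c51 LD3_c2)) = (LP (LK LD1_c2 LD2_c51 LD3_c47)) :=
  Lre_e IH (LK LD1_c5 LD2_c51 LD3_c2) (LK LD1_c2 LD2_c51 LD3_c47) Lrfl Lrfl
theorem f614362 : Led Lsl_dt (LP (LK LD1_c5 LD2_c51 LD3_c2)) = (LP (LK LD1_c11 LD2_c11 LD3_c19)) :=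
  Lgr Lrot42 (Lpr_df (K53.f614354 IH) (Lpn (LP (LK LD1_c11 LD2_c11 LD3_c19))))
theorem f738952 : Led Lsl_gt (LP (LK LD1_c11 LD2_c20 LD3_c9)) = (LP (LK LD1_c11 LD2_c11 LD3_c19)) :=
  Lgr Lrot112 (Lpe (f738946 IH) (Lpr_et (f738947 IH) (Lpe (f117876 IH) (Lpe (K5.f117857 IH) (Lpr_dt (K5.f117851 IH) (Lpe (K32.f66379 IH) (Lpe (K32.f136275 IH) (Lpe (K6.f136334 IH) (Lpe (f136325 IH) (Lpr_dt (f614362 IH) (Lpn (LP (LK LD1_c11 LD2_c11 LD3_c19)))))))))))))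
theorem f382067 : Led Lsl_ft (LP (LK LD1_c20 LD2_c13 LD3_c23)) = (LP (LK LD1_c11 LD2_c17 LD3_c17)) :=
  Lre_f IH (LK LD1_c20 LD2_c13 LD3_c23) (LK LD1_c11 LD2_c17 LD3_c17) Lrfl Lrfl
theorem f738954 : Led Lsl_gf (LP (LK LD1_c11 LD2_c20 LD3_c9)) = (LP (LK LD1_c20 LD2_c13 LD3_c23)) :=
  Lgr Lrot47 (Lpr_gt (f738952 IH) (Lpe (K38.f423324 IH) (Lpe (f382067 IH) (Lpn (LP (LK LD1_c20 LD2_c13 LD3_c23))))))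
theorem f208497 : Led Lsl_ft (LP (LK LD1_c11 LD2_c41 LD3_c38)) = (LP (LK LD1_c5 LD2_c58 LD3_c36)) :=
  Lre_f IH (LK LD1_c11 LD2_c41 LD3_c38) (LK LD1_c5 LD2_c58 LD3_c36) Lrfl Lrfl
theorem f382070 : Led Lsl_ft (LP (LK LD1_c11 LD2_c17 LD3_c17)) = (LP (LK LD1_c20 LD2_c13 LD3_c23)) :=
  Lre_f IH (LK LD1_c11 LD2_c17 LD3_c17) (LK LD1_c20 LD2_c13 LD3_c23) Lrfl Lrfl
theorem f614356 : Led Lsl_df (LP (LK LD1_c11 LD2_c41 LD3_c38)) = (LP (LK LD1_c20 LD2_c13 LD3_c23)) :=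
  Lgr Lrot78 (Lpr_ft (f208497 IH) (Lpr_dt (K53.f614352 IH) (Lpr_ft (f382070 IH) (Lpn (LP (LK LD1_c20 LD2_c13 LD3_c23))))))
theorem f614358 : Led Lsl_dt (LP (LK LD1_c11 LD2_c41 LD3_c38)) = (LP (LK LD1_c20 LD2_c13 LD3_c23)) :=
  Lgr Lrot42 (Lpr_df (f614356 IH) (Lpn (LP (LK LD1_c20 LD2_c13 LD3_c23))))
theorem f77384 : Led Lsl_gt (LP (LK LD1_c4 LD2_c59 LD3_c18)) = (LP (LK LD1_c2 LD2_c27 LD3_c46)) :=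
  Lre_g IH (LK LD1_c4 LD2_c59 LD3_c18) (LK LD1_c2 LD2_c27 LD3_c46) Lrfl Lrfl
theorem f40307 : Led Lsl_bt (LP (LK LD1_c9 LD2_c48 LD3_c61)) = (LP (LK LD1_c4 LD2_c59 LD3_c18)) :=
  Lre_b IH (LK LD1_c9 LD2_c48 LD3_c61) (LK LD1_c4 LD2_c59 LD3_c18) Lrfl Lrfl
theorem f149145 : Led Lsl_gt (LP (LK LD1_c9 LD2_c8 LD3_c2)) = (LP (LK LD1_c17 LD2_c0 LD3_c23)) :=
  Lre_g IH (LK LD1_c9 LD2_c8 LD3_c2) (LK LD1_c17 LD2_c0 LD3_c23) Lrfl Lrfl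
theorem f720673 : Led Lsl_ct (LP (LK LD1_c9 LD2_c48 LD3_c61)) = (LP (LK LD1_c17 LD2_c0 LD3_c23)) :=
  Lgr Lrot63 (Lpr_bt (f40307 IH) (Lpr_gt (f77384 IH) (Lpe (K9.f77372 IH) (Lpe (K9.f77374 IH) (Lpr_gt (K24.f454828 IH) (Lpe (K24.f454829 IH) (Lpr_bt (K53.f454835 IH) (Lpr_gt (K53.f632061 IH) (Lpqs (K53.f720630 IH) (Lpr_ct (K53.f149122 IH) (Lpr_gt (f149145 IH) (Lpn (LP (LK LD1_c17 LD2_c0 LD3_c23))))))))))))))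
theorem f77397 : Led Lsl_gt (LP (LK LD1_c4 LD2_c59 LD3_c52)) = (LP (LK LD1_c9 LD2_c48 LD3_c58)) :=
  Lre_g IH (LK LD1_c4 LD2_c59 LD3_c52) (LK LD1_c9 LD2_c48 LD3_c58) Lrfl Lrfl
theorem f720677 : Led Lsl_gt (LP (LK LD1_c6 LD2_c1 LD3_c17)) = (LP (LK LD1_c5 LD2_c51 LD3_c2)) :=
  Lgr Lrot164 (Lpr_bf (K52.f714032 IH) (Lpr_ct (K52.f713971 IH) (Lpe (f77397 IH) (Lpe (K32.f77373 IH) (Lpe (f77384 IH) (Lpe (f40307 IH) (Lpr_ct (f720673 IH) (Lpe (f149145 IH) (Lpe (K53.f149122 IH) (Lpr_bt (K53.f149141 IH) (Lpn (LP (LK LD1_c5 LD2_c51 LD3_c2)))))))))))))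
theorem f149114 : Led Lsl_bt (LP (LK LD1_c2 LD2_c53 LD3_c15)) = (LP (LK LD1_c5 LD2_c53 LD3_c43)) :=
  Lre_b IH (LK LD1_c2 LD2_c53 LD3_c15) (LK LD1_c5 LD2_c53 LD3_c43) Lrfl Lrfl
theorem f208484 : Led Lsl_af (LP (LK LD1_c5 LD2_c51 LD3_c2)) = (LP (LK LD1_c5 LD2_c58 LD3_c36)) :=
  Lgr Lrot36 (Lpe (K53.f149139 IH) (Lpr_at (K7.f149110 IH) (Lpr_bt (f149114 IH) (Lpe (K53.f208476 IH) (Lpr_bt (K43.f208480 IH) (Lpn (LP (LK LD1_c5 LD2_c58 LD3_c36))))))))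
theorem f720679 : Led Lsl_gf (LP (LK LD1_c6 LD2_c1 LD3_c17)) = (LP (LK LD1_c11 LD2_c41 LD3_c38)) :=
  Lgr Lrot47 (Lpr_gt (f720677 IH) (Lpr_af (f208484 IH) (Lpe (f208497 IH) (Lpn (LP (LK LD1_c11 LD2_c41 LD3_c38))))))
theorem f500872 : Led Lsl_at (LP (LK LD1_c2 LD2_c56 LD3_c50)) = (LP (LK LD1_c6 LD2_c1 LD3_c17)) :=
  Lre_a IH (LK LD1_c2 LD2_c56 LD3_c50) (LK LD1_c6 LD2_c1 LD3_c17) Lrfl Lrfl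
theorem f720689 : Led Lsl_gt K53.v5061 = (LP (LK LD1_c11 LD2_c41 LD3_c38)) :=
  Lgr Lrot5 (Lpe (K53.f645137 IH) (Lpr_at (f500872 IH) (Lpr_gf (f720679 IH) (Lpn (LP (LK LD1_c11 LD2_c41 LD3_c38))))))
theorem f76010 : Led Lsl_et (LP (LK LD1_c11 LD2_c43 LD3_c33)) = (LP (LK LD1_c5 LD2_c59 LD3_c27)) :=
  Lre_e IH (LK LD1_c11 LD2_c43 LD3_c33) (LK LD1_c5 LD2_c59 LD3_c27) Lrfl Lrfl
theorem f75998 : Led Lsl_bt (LP (LK LD1_c5 LD2_c59 LD3_c30)) = (LP (LK LD1_c11 LD2_c43 LD3_c33)) :=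
  Lre_b IH (LK LD1_c5 LD2_c59 LD3_c30) (LK LD1_c11 LD2_c43 LD3_c33) Lrfl Lrfl
theorem f58616 : Led Lsl_bt (LP (LK LD1_c11 LD2_c58 LD3_c17)) = (LP (LK LD1_c6 LD2_c8 LD3_c8)) :=
  Lre_b IH (LK LD1_c11 LD2_c58 LD3_c17) (LK LD1_c6 LD2_c8 LD3_c8) Lrfl Lrfl
theorem f75999 : Led Lsl_dt (LP (LK LD1_c11 LD2_c43 LD3_c33)) = (LP (LK LD1_c11 LD2_c58 LD3_c17)) :=
  Lgr Lrot79 (Lpe (f75998 IH) (Lpr_df (K53.f75990 IH) (Lpe (f58616 IH) (Lpn (LP (LK LD1_c11 LD2_c58 LD3_c17))))))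
theorem f738959 : Led Lsl_gt (LP (LK LD1_c20 LD2_c23 LD3_c1)) = (LP (LK LD1_c11 LD2_c58 LD3_c17)) :=
  Lgr Lrot112 (Lpe (K8.f132375 IH) (Lpe (K5.f132378 IH) (Lpr_gf (f117877 IH) (Lpe (f738947 IH) (Lpr_dt (f738946 IH) (Lpr_gf (f738954 IH) (Lpe (f614358 IH) (Lpe (f720689 IH) (Lpqs (K53.f719896 IH) (Lpe (f76010 IH) (Lpr_dt (f75999 IH) (Lpn (LP (LK LD1_c11 LD2_c58 LD3_c17))))))))))))))
theorem f132363 : Led Lsl_af (LP (LK LD1_c16 LD2_c57 LD3_c37)) = (LP (LK LD1_c11 LD2_c25 LD3_c35)) :=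
  Lgr Lrot0 (Lpr_at (K5.f132361 IH) (Lpn (LP (LK LD1_c11 LD2_c25 LD3_c35))))
theorem f738961 : Led Lsl_gf (LP (LK LD1_c16 LD2_c57 LD3_c37)) = (LP (LK LD1_c11 LD2_c58 LD3_c17)) :=
  Lgr Lrot76 (Lpr_af (f132363 IH) (Lpe (K8.f132419 IH) (Lpr_gt (f738959 IH) (Lpn (LP (LK LD1_c11 LD2_c58 LD3_c17))))))
theorem f738967 : Led Lsl_gt (LP (LK LD1_c5 LD2_c51 LD3_c2)) = (LP (LK LD1_c5 LD2_c59 LD3_c27)) :=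
  Lgr Lrot131 (Lpe (K53.f136317 IH) (Lpr_dt (K6.f135922 IH) (Lpe (K45.f426095 IH) (Lpe (K24.f425957 IH) (Lpr_gf (K38.f426089 IH) (Lpe (K5.f117855 IH) (Lpr_dt (K5.f132365 IH) (Lpr_gf (f738961 IH) (Lpe (f75999 IH) (Lpr_et (f76010 IH) (Lpn (LP (LK LD1_c5 LD2_c59 LD3_c27)))))))))))))
theorem f416280 : Led Lsl_gt (LP (LK LD1_c9 LD2_c46 LD3_c40)) = (LP (LK LD1_c4 LD2_c57 LD3_c55)) :=
  Lre_g IH (LK LD1_c9 LD2_c46 LD3_c40) (LK LD1_c4 LD2_c57 LD3_c55) Lrfl Lrfl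
theorem f710365 : Led Lsl_ff (LP (LK LD1_c5 LD2_c38 LD3_c13)) = (LP (LK LD1_c9 LD2_c46 LD3_c40)) :=
  Lgr Lrot52 (Lpe (K51.f423130 IH) (Lpr_gf (K51.f710363 IH) (Lpe (f416280 IH) (Lpn (LP (LK LD1_c9 LD2_c46 LD3_c40))))))
theorem f710522 : Led Lsl_af (LP (LK LD1_c9 LD2_c46 LD3_c40)) = (LP (LK LD1_c15 LD2_c4 LD3_c33)) :=
  Lgr Lrot45 (Lpe (f710365 IH) (Lpe (K51.f423130 IH) (Lpr_ft (K52.f710520 IH) (Lpn (LP (LK LD1_c15 LD2_c4 LD3_c33))))))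
theorem f712998 : Led Lsl_dt (LP (LK LD1_c9 LD2_c46 LD3_c40)) = K52.v4834 :=
  Lgr Lrot44 (Lpr_af (f710522 IH) (Lpe (K53.f710419 IH) (Lpq (K53.f710141 IH) (Lpe (K52.f699550 IH) (Lpn K52.v4834)))))
theorem f416343 : Led Lsl_ct (LP (LK LD1_c17 LD2_c56 LD3_c44)) = (LP (LK LD1_c9 LD2_c46 LD3_c40)) :=
  Lre_c IH (LK LD1_c17 LD2_c56 LD3_c44) (LK LD1_c9 LD2_c46 LD3_c40) Lrfl Lrfl
theorem f141934 : Led Lsl_ff (LP (LK LD1_c2 LD2_c14 LD3_c13)) = (LP (LK LD1_c1 LD2_c21 LD3_c9)) :=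
  Lgr Lrot25 (Lpr_bt (K5.f130540 IH) (Lpr_ft (K6.f141932 IH) (Lpr_bt (K6.f56756 IH) (Lpn (LP (LK LD1_c1 LD2_c21 LD3_c9))))))
theorem f699565 : Led Lsl_ef K52.v4834 = K52.v12916 :=
  Lgr Lrot21 (Lpe (K53.f640511 IH) (Lpr_et (K6.f135927 IH) (Lpe (f141934 IH) (Lpr_et (K5.f130543 IH) (Lpr_ft (K52.f699563 IH) (Lpn K52.v12916))))))
theorem f699566 : Led Lsl_ff (LP (LK LD1_c4 LD2_c34 LD3_c30)) = K52.v12916 :=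
  Lgr Lrot3 (Lpr_ft (K52.f699563 IH) (Lpn K52.v12916))
theorem f699568 : Led Lsl_at K52.v4831 = K52.v12916 :=
  Lgr Lrot66 (Lpe (K52.f640502 IH) (Lpe (K51.f146609 IH) (Lpr_ff (f699566 IH) (Lpn K52.v12916))))
theorem f699571 : Led Lsl_gt K51.v4828 = K52.v12916 :=
  Lgr Lrot46 (Lpe (K51.f640496 IH) (Lpr_ft (K52.f640502 IH) (Lpr_at (f699568 IH) (Lpn K52.v12916))))
theorem f707388 : K52.v12916 = (LP (LK LD1_c3 LD2_c21 LD3_c48)) :=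
  Lefun (Lecon (f699571 IH) (K51.f707379 IH).symm) (K51.f454456 IH)
theorem f719338 : Led Lsl_et (LP (LK LD1_c9 LD2_c50 LD3_c15)) = (LP (LK LD1_c6 LD2_c47 LD3_c17)) :=
  Lgr Lrot74 (Lpr_bf (K53.f719332 IH) (Lpq (K53.f713813 IH) (Lpr_ef (f699565 IH) (Lpqs (f707388 IH) (Lpe (K51.f454463 IH) (Lpn (LP (LK LD1_c6 LD2_c47 LD3_c17))))))))
theorem f56826 : Led Lsl_et (LP (LK LD1_c2 LD2_c50 LD3_c11)) = (LP (LK LD1_c5 LD2_c48 LD3_c16)) :=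
  Lre_e IH (LK LD1_c2 LD2_c50 LD3_c11) (LK LD1_c5 LD2_c48 LD3_c16) Lrfl Lrfl
theorem f719344 : Led Lsl_ff (LP (LK LD1_c9 LD2_c50 LD3_c15)) = (LP (LK LD1_c5 LD2_c48 LD3_c16)) :=
  Lgr Lrot72 (Lpr_et (f719338 IH) (Lpe (K52.f707392 IH) (Lpr_et (K6.f130555 IH) (Lpr_ft (K6.f141932 IH) (Lpr_et (f56826 IH) (Lpn (LP (LK LD1_c5 LD2_c48 LD3_c16))))))))
theorem f711661 : Led Lsl_gt (LP (LK LD1_c6 LD2_c1 LD3_c18)) = (LP (LK LD1_c5 LD2_c48 LD3_c17)) :=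
  Lgr Lrot46 (Lpe (K52.f415573 IH) (Lpr_ft (K53.f711659 IH) (Lpe (K53.f146623 IH) (Lpn (LP (LK LD1_c5 LD2_c48 LD3_c17))))))
theorem f80083 : Led Lsl_gt (LP (LK LD1_c4 LD2_c38 LD3_c11)) = (LP (LK LD1_c9 LD2_c11 LD3_c0)) :=
  Lre_g IH (LK LD1_c4 LD2_c38 LD3_c11) (LK LD1_c9 LD2_c11 LD3_c0) Lrfl Lrfl
theorem f80090 : Led Lsl_ct (LP (LK LD1_c9 LD2_c12 LD3_c1)) = (LP (LK LD1_c4 LD2_c38 LD3_c11)) :=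
  Lre_c IH (LK LD1_c9 LD2_c12 LD3_c1) (LK LD1_c4 LD2_c38 LD3_c11) Lrfl Lrfl
theorem f56822 : Led Lsl_bt (LP (LK LD1_c2 LD2_c50 LD3_c13)) = (LP (LK LD1_c5 LD2_c48 LD3_c16)) :=
  Lre_b IH (LK LD1_c2 LD2_c50 LD3_c13) (LK LD1_c5 LD2_c48 LD3_c16) Lrfl Lrfl
theorem f711668 : Led Lsl_gf (LP (LK LD1_c9 LD2_c12 LD3_c1)) = (LP (LK LD1_c5 LD2_c48 LD3_c16)) :=
  Lgr Lrot181 (Lpr_ct (f80090 IH) (Lpr_gt (f80083 IH) (Lpe (K9.f140161 IH) (Lpr_bt (K9.f140166 IH) (Lpr_gt (K41.f383346 IH) (Lpe (K52.f415571 IH) (Lpr_ct (K52.f415572 IH) (Lpr_gt (f711661 IH) (Lpe (K6.f56817 IH) (Lpr_bt (f56822 IH) (Lpn (LP (LK LD1_c5 LD2_c48 LD3_c16)))))))))))))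
theorem f80091 : Led Lsl_gt (LP (LK LD1_c9 LD2_c12 LD3_c1)) = (LP (LK LD1_c17 LD2_c5 LD3_c60)) :=
  Lre_g IH (LK LD1_c9 LD2_c12 LD3_c1) (LK LD1_c17 LD2_c5 LD3_c60) Lrfl Lrfl
theorem f719346 : Led Lsl_at (LP (LK LD1_c9 LD2_c50 LD3_c15)) = (LP (LK LD1_c17 LD2_c5 LD3_c60)) :=
  Lgr Lrot26 (Lpr_ff (f719344 IH) (Lpe (f711668 IH) (Lpr_gt (f80091 IH) (Lpn (LP (LK LD1_c17 LD2_c5 LD3_c60))))))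
theorem f425822 : Led Lsl_at (LP (LK LD1_c9 LD2_c47 LD3_c24)) = (LP (LK LD1_c5 LD2_c48 LD3_c16)) :=
  Lgr Lrot107 (Lpr_cf (K52.f425820 IH) (Lpr_af (K53.f148849 IH) (Lpr_cf (K52.f56818 IH) (Lpn (LP (LK LD1_c5 LD2_c48 LD3_c16))))))
theorem f719352 : Led Lsl_ff (LP (LK LD1_c9 LD2_c47 LD3_c24)) = (LP (LK LD1_c17 LD2_c5 LD3_c60)) :=
  Lgr Lrot30 (Lpr_at (f425822 IH) (Lpe (f719344 IH) (Lpr_at (f719346 IH) (Lpn (LP (LK LD1_c17 LD2_c5 LD3_c60))))))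
theorem f644433 : Led Lsl_ct (LP (LK LD1_c16 LD2_c54 LD3_c40)) = (LP (LK LD1_c9 LD2_c3 LD3_c37)) :=
  Lre_c IH (LK LD1_c16 LD2_c54 LD3_c40) (LK LD1_c9 LD2_c3 LD3_c37) Lrfl Lrfl
theorem f644469 : Led Lsl_gt (LP (LK LD1_c9 LD2_c4 LD3_c6)) = (LP (LK LD1_c16 LD2_c54 LD3_c40)) :=
  Lre_g IH (LK LD1_c9 LD2_c4 LD3_c6) (LK LD1_c16 LD2_c54 LD3_c40) Lrfl Lrfl
theorem f640437 : Led Lsl_ct (LP (LK LD1_c16 LD2_c55 LD3_c27)) = (LP (LK LD1_c9 LD2_c4 LD3_c6)) :=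
  Lre_c IH (LK LD1_c16 LD2_c55 LD3_c27) (LK LD1_c9 LD2_c4 LD3_c6) Lrfl Lrfl
theorem f711672 : Led Lsl_gf (LP (LK LD1_c16 LD2_c55 LD3_c27)) = (LP (LK LD1_c11 LD2_c7 LD3_c40)) :=
  Lgr Lrot147 (Lpr_ct (f640437 IH) (Lpr_gt (f644469 IH) (Lpr_ct (f644433 IH) (Lpe (K51.f79987 IH) (Lpe (K45.f642633 IH) (Lpe (f80083 IH) (Lpe (f80090 IH) (Lpr_gf (f711668 IH) (Lpr_df (K52.f612933 IH) (Lpn (LP (LK LD1_c11 LD2_c7 LD3_c40))))))))))))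
theorem f644435 : Led Lsl_dt (LP (LK LD1_c16 LD2_c55 LD3_c27)) = (LP (LK LD1_c26 LD2_c51 LD3_c43)) :=
  Lre_d IH (LK LD1_c16 LD2_c55 LD3_c27) (LK LD1_c26 LD2_c51 LD3_c43) Lrfl Lrfl
theorem f644806 : Led Lsl_dt (LP (LK LD1_c17 LD2_c4 LD3_c28)) = (LP (LK LD1_c9 LD2_c11 LD3_c0)) :=
  Lre_d IH (LK LD1_c17 LD2_c4 LD3_c28) (LK LD1_c9 LD2_c11 LD3_c0) Lrfl Lrfl
theorem f644807 : Led Lsl_gt (LP (LK LD1_c9 LD2_c12 LD3_c8)) = (LP (LK LD1_c17 LD2_c4 LD3_c28)) :=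
  Lre_g IH (LK LD1_c9 LD2_c12 LD3_c8) (LK LD1_c17 LD2_c4 LD3_c28) Lrfl Lrfl
theorem f644808 : Led Lsl_dt (LP (LK LD1_c17 LD2_c6 LD3_c11)) = (LP (LK LD1_c9 LD2_c12 LD3_c8)) :=
  Lre_d IH (LK LD1_c17 LD2_c6 LD3_c11) (LK LD1_c9 LD2_c12 LD3_c8) Lrfl Lrfl
theorem f454891 : Led Lsl_ct (LP (LK LD1_c11 LD2_c39 LD3_c59)) = (LP (LK LD1_c5 LD2_c57 LD3_c22)) :=
  Lre_c IH (LK LD1_c11 LD2_c39 LD3_c59) (LK LD1_c5 LD2_c57 LD3_c22) Lrfl Lrfl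
theorem f644809 : Led Lsl_gf (LP (LK LD1_c17 LD2_c6 LD3_c11)) = (LP (LK LD1_c11 LD2_c39 LD3_c59)) :=
  Lgr Lrot144 (Lpr_dt (f644808 IH) (Lpr_gt (f644807 IH) (Lpr_dt (f644806 IH) (Lpe (K9.f140161 IH) (Lpe (K52.f546014 IH) (Lpe (K45.f140503 IH) (Lpe (K51.f140544 IH) (Lpr_gf (K51.f644804 IH) (Lpe (f454891 IH) (Lpn (LP (LK LD1_c11 LD2_c39 LD3_c59))))))))))))
theorem f644430 : Led Lsl_gt (LP (LK LD1_c9 LD2_c4 LD3_c17)) = (LP (LK LD1_c5 LD2_c57 LD3_c22)) :=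
  Lgr Lrot46 (Lpe (K51.f140541 IH) (Lpr_ft (K45.f644416 IH) (Lpe (K45.f642588 IH) (Lpn (LP (LK LD1_c5 LD2_c57 LD3_c22))))))
theorem f640436 : Led Lsl_gt (LP (LK LD1_c4 LD2_c33 LD3_c19)) = (LP (LK LD1_c9 LD2_c4 LD3_c6)) :=
  Lre_g IH (LK LD1_c4 LD2_c33 LD3_c19) (LK LD1_c9 LD2_c4 LD3_c6) Lrfl Lrfl
theorem f644434 : Led Lsl_ct (LP (LK LD1_c9 LD2_c4 LD3_c6)) = (LP (LK LD1_c16 LD2_c55 LD3_c27)) :=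
  Lre_c IH (LK LD1_c9 LD2_c4 LD3_c6) (LK LD1_c16 LD2_c55 LD3_c27) Lrfl Lrfl
theorem f644436 : Led Lsl_dt (LP (LK LD1_c26 LD2_c51 LD3_c43)) = (LP (LK LD1_c16 LD2_c55 LD3_c27)) :=
  Lre_d IH (LK LD1_c26 LD2_c51 LD3_c43) (LK LD1_c16 LD2_c55 LD3_c27) Lrfl Lrfl
theorem f644823 : Led Lsl_ct (LP (LK LD1_c17 LD2_c6 LD3_c11)) = (LP (LK LD1_c26 LD2_c51 LD3_c43)) :=
  Lgr Lrot110 (Lpr_gf (f644809 IH) (Lpe (K45.f454887 IH) (Lpe (f644430 IH) (Lpe (K51.f79981 IH) (Lpr_gt (K51.f79972 IH) (Lpr_ct (K45.f140528 IH) (Lpr_gt (f640436 IH) (Lpr_ct (f644434 IH) (Lpe (f644436 IH) (Lpn (LP (LK LD1_c26 LD2_c51 LD3_c43))))))))))))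
theorem f644843 : Led Lsl_cf (LP (LK LD1_c17 LD2_c6 LD3_c11)) = (LP (LK LD1_c26 LD2_c51 LD3_c43)) :=
  Lgr Lrot11 (Lpr_ct (f644823 IH) (Lpn (LP (LK LD1_c26 LD2_c51 LD3_c43))))
theorem f644827 : Led Lsl_dt (LP (LK LD1_c9 LD2_c12 LD3_c8)) = (LP (LK LD1_c17 LD2_c6 LD3_c11)) :=
  Lre_d IH (LK LD1_c9 LD2_c12 LD3_c8) (LK LD1_c17 LD2_c6 LD3_c11) Lrfl Lrfl
theorem f644847 : Led Lsl_gt (LP (LK LD1_c4 LD2_c38 LD3_c13)) = (LP (LK LD1_c9 LD2_c12 LD3_c8)) :=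
  Lre_g IH (LK LD1_c4 LD2_c38 LD3_c13) (LK LD1_c9 LD2_c12 LD3_c8) Lrfl Lrfl
theorem f612935 : Led Lsl_dt (LP (LK LD1_c5 LD2_c48 LD3_c16)) = (LP (LK LD1_c11 LD2_c7 LD3_c40)) :=
  Lgr Lrot42 (Lpr_df (K52.f612933 IH) (Lpn (LP (LK LD1_c11 LD2_c7 LD3_c40))))
theorem f711681 : Led Lsl_gt (LP (LK LD1_c9 LD2_c12 LD3_c5)) = (LP (LK LD1_c5 LD2_c48 LD3_c16)) :=
  Lgr Lrot94 (Lpe (K50.f140154 IH) (Lpr_gt (K9.f100356 IH) (Lpr_dt (K45.f80067 IH) (Lpr_gt (f644847 IH) (Lpr_dt (f644827 IH) (Lpr_cf (f644843 IH) (Lpe (f644435 IH) (Lpr_gf (f711672 IH) (Lpe (f612935 IH) (Lpn (LP (LK LD1_c5 LD2_c48 LD3_c16))))))))))))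
theorem f719358 : Led Lsl_gf (LP (LK LD1_c9 LD2_c12 LD3_c5)) = (LP (LK LD1_c17 LD2_c5 LD3_c60)) :=
  Lgr Lrot47 (Lpr_gt (f711681 IH) (Lpe (f425822 IH) (Lpr_ff (f719352 IH) (Lpn (LP (LK LD1_c17 LD2_c5 LD3_c60))))))
theorem f140543 : Led Lsl_ct (LP (LK LD1_c2 LD2_c16 LD3_c11)) = (LP (LK LD1_c1 LD2_c5 LD3_c2)) :=
  Lre_c IH (LK LD1_c2 LD2_c16 LD3_c11) (LK LD1_c1 LD2_c5 LD3_c2) Lrfl Lrfl
theorem f454882 : Led Lsl_ct (LP (LK LD1_c4 LD2_c33 LD3_c19)) = (LP (LK LD1_c2 LD2_c13 LD3_c36)) :=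
  Lre_c IH (LK LD1_c4 LD2_c33 LD3_c19) (LK LD1_c2 LD2_c13 LD3_c36) Lrfl Lrfl
theorem f140527 : Led Lsl_gt (LP (LK LD1_c9 LD2_c4 LD3_c7)) = (LP (LK LD1_c4 LD2_c33 LD3_c19)) :=
  Lre_g IH (LK LD1_c9 LD2_c4 LD3_c7) (LK LD1_c4 LD2_c33 LD3_c19) Lrfl Lrfl
theorem f140930 : Led Lsl_dt (LP (LK LD1_c9 LD2_c12 LD3_c5)) = (LP (LK LD1_c17 LD2_c6 LD3_c8)) :=
  Lre_d IH (LK LD1_c9 LD2_c12 LD3_c5) (LK LD1_c17 LD2_c6 LD3_c8) Lrfl Lrfl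
theorem f644467 : Led Lsl_gt (LP (LK LD1_c26 LD2_c50 LD3_c48)) = (LP (LK LD1_c16 LD2_c55 LD3_c31)) :=
  Lre_g IH (LK LD1_c26 LD2_c50 LD3_c48) (LK LD1_c16 LD2_c55 LD3_c31) Lrfl Lrfl
theorem f644468 : Led Lsl_dt (LP (LK LD1_c16 LD2_c54 LD3_c40)) = (LP (LK LD1_c26 LD2_c50 LD3_c48)) :=
  Lre_d IH (LK LD1_c16 LD2_c54 LD3_c40) (LK LD1_c26 LD2_c50 LD3_c48) Lrfl Lrfl
theorem f644470 : Led Lsl_gt (LP (LK LD1_c16 LD2_c55 LD3_c27)) = (LP (LK LD1_c26 LD2_c51 LD3_c42)) :=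
  Lre_g IH (LK LD1_c16 LD2_c55 LD3_c27) (LK LD1_c26 LD2_c51 LD3_c42) Lrfl Lrfl
theorem f719360 : Led Lsl_dt (LP (LK LD1_c26 LD2_c51 LD3_c42)) = (LP (LK LD1_c17 LD2_c5 LD3_c60)) :=
  Lgr Lrot57 (Lpe (f644470 IH) (Lpe (f644434 IH) (Lpr_gt (f644469 IH) (Lpr_dt (f644468 IH) (Lpr_gt (f644467 IH) (Lpr_dt (K45.f644461 IH) (Lpr_cf (K50.f644465 IH) (Lpe (f140930 IH) (Lpr_gf (f719358 IH) (Lpn (LP (LK LD1_c17 LD2_c5 LD3_c60))))))))))))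
theorem f719362 : Led Lsl_gf (LP (LK LD1_c16 LD2_c55 LD3_c29)) = (LP (LK LD1_c26 LD2_c51 LD3_c42)) :=
  Lgr Lrot147 (Lpr_ct (K45.f140516 IH) (Lpr_gt (f140527 IH) (Lpr_ct (f454882 IH) (Lpe (K45.f79971 IH) (Lpe (f140543 IH) (Lpe (K9.f100356 IH) (Lpe (K9.f140149 IH) (Lpr_gf (f719358 IH) (Lpe (f719360 IH) (Lpn (LP (LK LD1_c26 LD2_c51 LD3_c42))))))))))))
theorem f719364 : Led Lsl_df (LP (LK LD1_c26 LD2_c51 LD3_c42)) = (LP (LK LD1_c17 LD2_c5 LD3_c60)) :=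
  Lgr Lrot155 (Lpe (f719362 IH) (Lpr_ct (K45.f140516 IH) (Lpr_gt (f140527 IH) (Lpr_ct (f454882 IH) (Lpr_dt (K51.f140540 IH) (Lpe (f140543 IH) (Lpe (K9.f100356 IH) (Lpe (K9.f140149 IH) (Lpr_gf (f719358 IH) (Lpn (LP (LK LD1_c17 LD2_c5 LD3_c60))))))))))))
theorem f719356 : Led Lsl_ft (LP (LK LD1_c9 LD2_c47 LD3_c24)) = (LP (LK LD1_c17 LD2_c5 LD3_c60)) :=
  Lgr Lrot48 (Lpr_ff (f719352 IH) (Lpn (LP (LK LD1_c17 LD2_c5 LD3_c60))))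
theorem f719368 : Led Lsl_ft (LP (LK LD1_c26 LD2_c51 LD3_c42)) = (LP (LK LD1_c17 LD2_c54 LD3_c53)) :=
  Lgr Lrot54 (Lpr_df (f719364 IH) (Lpe (f719356 IH) (Lpe (K52.f557328 IH) (Lpn (LP (LK LD1_c17 LD2_c54 LD3_c53))))))
theorem f719372 : Led Lsl_ff (LP (LK LD1_c26 LD2_c51 LD3_c42)) = (LP (LK LD1_c17 LD2_c54 LD3_c53)) :=
  Lgr Lrot3 (Lpr_ft (f719368 IH) (Lpn (LP (LK LD1_c17 LD2_c54 LD3_c53))))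
theorem f415877 : Led Lsl_gt (LP (LK LD1_c9 LD2_c46 LD3_c10)) = (LP (LK LD1_c17 LD2_c55 LD3_c61)) :=
  Lre_g IH (LK LD1_c9 LD2_c46 LD3_c10) (LK LD1_c17 LD2_c55 LD3_c61) Lrfl Lrfl
theorem f719376 : Led Lsl_at (LP (LK LD1_c26 LD2_c51 LD3_c42)) = (LP (LK LD1_c17 LD2_c55 LD3_c61)) :=
  Lgr Lrot26 (Lpr_ff (f719372 IH) (Lpr_gt (K52.f710552 IH) (Lpr_gt (f415877 IH) (Lpn (LP (LK LD1_c17 LD2_c55 LD3_c61))))))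
theorem f719384 : Led Lsl_ff (LP (LK LD1_c11 LD2_c7 LD3_c40)) = (LP (LK LD1_c17 LD2_c55 LD3_c61)) :=
  Lgr Lrot30 (Lpr_at (K52.f424182 IH) (Lpe (f719372 IH) (Lpr_at (f719376 IH) (Lpn (LP (LK LD1_c17 LD2_c55 LD3_c61))))))
theorem f116880 : Led Lsl_et (LP (LK LD1_c6 LD2_c10 LD3_c59)) = (LP (LK LD1_c12 LD2_c2 LD3_c23)) :=
  Lre_e IH (LK LD1_c6 LD2_c10 LD3_c59) (LK LD1_c12 LD2_c2 LD3_c23) Lrfl Lrfl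
theorem f157215 : Led Lsl_et (LP (LK LD1_c20 LD2_c27 LD3_c4)) = (LP (LK LD1_c11 LD2_c29 LD3_c57)) :=
  Lre_e IH (LK LD1_c20 LD2_c27 LD3_c4) (LK LD1_c11 LD2_c29 LD3_c57) Lrfl Lrfl
theorem f713756 : Led Lsl_ct (LP (LK LD1_c12 LD2_c2 LD3_c23)) = (LP (LK LD1_c20 LD2_c27 LD3_c4)) :=
  Lgr Lrot15 (Lpe (f116880 IH) (Lpr_cf (K53.f713752 IH) (Lpe (f157215 IH) (Lpn (LP (LK LD1_c20 LD2_c27 LD3_c4))))))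
theorem f116884 : Led Lsl_dt (LP (LK LD1_c4 LD2_c33 LD3_c9)) = (LP (LK LD1_c2 LD2_c16 LD3_c2)) :=
  Lre_d IH (LK LD1_c4 LD2_c33 LD3_c9) (LK LD1_c2 LD2_c16 LD3_c2) Lrfl Lrfl
theorem f116882 : Led Lsl_dt (LP (LK LD1_c9 LD2_c10 LD3_c61)) = (LP (LK LD1_c4 LD2_c37 LD3_c42)) :=
  Lre_d IH (LK LD1_c9 LD2_c10 LD3_c61) (LK LD1_c4 LD2_c37 LD3_c42) Lrfl Lrfl
theorem f116870 : Led Lsl_gt (LP (LK LD1_c17 LD2_c4 LD3_c27)) = (LP (LK LD1_c9 LD2_c10 LD3_c61)) :=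
  Lre_g IH (LK LD1_c17 LD2_c4 LD3_c27) (LK LD1_c9 LD2_c10 LD3_c61) Lrfl Lrfl
theorem f116868 : Led Lsl_et (LP (LK LD1_c4 LD2_c37 LD3_c42)) = (LP (LK LD1_c2 LD2_c16 LD3_c1)) :=
  Lre_e IH (LK LD1_c4 LD2_c37 LD3_c42) (LK LD1_c2 LD2_c16 LD3_c1) Lrfl Lrfl
theorem f116871 : Led Lsl_et (LP (LK LD1_c1 LD2_c27 LD3_c3)) = (LP (LK LD1_c3 LD2_c2 LD3_c7)) :=
  Lre_e IH (LK LD1_c1 LD2_c27 LD3_c3) (LK LD1_c3 LD2_c2 LD3_c7) Lrfl Lrfl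
theorem f100045 : Led Lsl_et (LP (LK LD1_c12 LD2_c2 LD3_c23)) = (LP (LK LD1_c6 LD2_c10 LD3_c59)) :=
  Lre_e IH (LK LD1_c12 LD2_c2 LD3_c23) (LK LD1_c6 LD2_c10 LD3_c59) Lrfl Lrfl
theorem f116872 : Led Lsl_df (LP (LK LD1_c17 LD2_c4 LD3_c27)) = (LP (LK LD1_c12 LD2_c2 LD3_c23)) :=
  Lgr Lrot170 (Lpr_gt (f116870 IH) (Lpe (K52.f116869 IH) (Lpr_et (f116868 IH) (Lpr_gt (K4.f14354 IH) (Lpr_dt (K6.f14355 IH) (Lpr_gt (K6.f116863 IH) (Lpe (K6.f60364 IH) (Lpr_et (f116871 IH) (Lpr_gt (f100378 IH) (Lpe (f100045 IH) (Lpn (LP (LK LD1_c12 LD2_c2 LD3_c23)))))))))))))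
theorem f644694 : Led Lsl_gt (LP (LK LD1_c20 LD2_c19 LD3_c60)) = (LP (LK LD1_c12 LD2_c2 LD3_c23)) :=
  Lgr Lrot94 (Lpe (K45.f444643 IH) (Lpr_gt (K51.f644690 IH) (Lpe (K36.f116902 IH) (Lpr_gt (K36.f116885 IH) (Lpr_dt (f116884 IH) (Lpe (K46.f116883 IH) (Lpe (f116882 IH) (Lpe (f116870 IH) (Lpr_df (f116872 IH) (Lpn (LP (LK LD1_c12 LD2_c2 LD3_c23))))))))))))
theorem f116958 : Led Lsl_gt (LP (LK LD1_c9 LD2_c4 LD3_c9)) = (LP (LK LD1_c16 LD2_c54 LD3_c38)) :=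
  Lre_g IH (LK LD1_c9 LD2_c4 LD3_c9) (LK LD1_c16 LD2_c54 LD3_c38) Lrfl Lrfl
theorem f644782 : Led Lsl_ct (LP (LK LD1_c16 LD2_c54 LD3_c38)) = (LP (LK LD1_c26 LD2_c50 LD3_c47)) :=
  Lre_c IH (LK LD1_c16 LD2_c54 LD3_c38) (LK LD1_c26 LD2_c50 LD3_c47) Lrfl Lrfl
theorem f713781 : Led Lsl_df (LP (LK LD1_c26 LD2_c50 LD3_c47)) = (LP (LK LD1_c20 LD2_c27 LD3_c4)) :=
  Lgr Lrot162 (Lpe (f644782 IH) (Lpe (f116958 IH) (Lpe (K52.f116957 IH) (Lpe (K51.f444610 IH) (Lpr_dt (K51.f494176 IH) (Lpr_gt (K51.f644779 IH) (Lpr_ct (K45.f444643 IH) (Lpr_gt (f644694 IH) (Lpr_ct (f713756 IH) (Lpn (LP (LK LD1_c20 LD2_c27 LD3_c4))))))))))))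
theorem f713783 : Led Lsl_gt (LP (LK LD1_c26 LD2_c50 LD3_c47)) = (LP (LK LD1_c17 LD2_c54 LD3_c53)) :=
  Lgr Lrot112 (Lpr_df (f713781 IH) (Lpr_et (f157215 IH) (Lpe (K53.f157214 IH) (Lpe (K53.f157211 IH) (Lpe (K8.f157194 IH) (Lpr_gf (K32.f161559 IH) (Lpe (K8.f75496 IH) (Lpe (K7.f82050 IH) (Lpe (K52.f82043 IH) (Lpr_dt (K52.f612919 IH) (Lpn (LP (LK LD1_c17 LD2_c54 LD3_c53)))))))))))))
theorem f719394 : Led Lsl_gf (LP (LK LD1_c26 LD2_c50 LD3_c47)) = (LP (LK LD1_c17 LD2_c55 LD3_c61)) :=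
  Lgr Lrot47 (Lpr_gt (f713783 IH) (Lpe (K52.f424182 IH) (Lpr_ff (f719384 IH) (Lpn (LP (LK LD1_c17 LD2_c55 LD3_c61))))))
theorem f640427 : Led Lsl_ct (LP (LK LD1_c26 LD2_c50 LD3_c47)) = (LP (LK LD1_c16 LD2_c54 LD3_c38)) :=
  Lre_c IH (LK LD1_c26 LD2_c50 LD3_c47) (LK LD1_c16 LD2_c54 LD3_c38) Lrfl Lrfl
theorem f698494 : Led Lsl_gt (LP (LK LD1_c16 LD2_c54 LD3_c38)) = (LP (LK LD1_c9 LD2_c3 LD3_c34)) :=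
  Lre_g IH (LK LD1_c16 LD2_c54 LD3_c38) (LK LD1_c9 LD2_c3 LD3_c34) Lrfl Lrfl
theorem f415692 : Led Lsl_bt (LP (LK LD1_c4 LD2_c33 LD3_c9)) = (LP (LK LD1_c2 LD2_c48 LD3_c2)) :=
  Lre_b IH (LK LD1_c4 LD2_c33 LD3_c9) (LK LD1_c2 LD2_c48 LD3_c2) Lrfl Lrfl
theorem f416284 : Led Lsl_bt (LP (LK LD1_c11 LD2_c18 LD3_c19)) = (LP (LK LD1_c5 LD2_c44 LD3_c7)) :=
  Lre_b IH (LK LD1_c11 LD2_c18 LD3_c19) (LK LD1_c5 LD2_c44 LD3_c7) Lrfl Lrfl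
theorem f416285 : Led Lsl_ct (LP (LK LD1_c11 LD2_c18 LD3_c19)) = (LP (LK LD1_c20 LD2_c14 LD3_c47)) :=
  Lre_c IH (LK LD1_c11 LD2_c18 LD3_c19) (LK LD1_c20 LD2_c14 LD3_c47) Lrfl Lrfl
theorem f713000 : Led Lsl_ff (LP (LK LD1_c9 LD2_c46 LD3_c40)) = (LP (LK LD1_c5 LD2_c38 LD3_c13)) :=
  Lgr Lrot19 (Lpr_dt (f712998 IH) (Lpe (K53.f640511 IH) (Lpr_dt (K52.f612931 IH) (Lpn (LP (LK LD1_c5 LD2_c38 LD3_c13))))))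
theorem f719386 : Led Lsl_bt (LP (LK LD1_c9 LD2_c46 LD3_c40)) = (LP (LK LD1_c17 LD2_c55 LD3_c61)) :=
  Lgr Lrot35 (Lpr_ff (f713000 IH) (Lpe (K51.f423134 IH) (Lpr_ff (f719384 IH) (Lpn (LP (LK LD1_c17 LD2_c55 LD3_c61))))))
theorem f416344 : Led Lsl_ct (LP (LK LD1_c9 LD2_c46 LD3_c40)) = (LP (LK LD1_c17 LD2_c56 LD3_c44)) :=
  Lre_c IH (LK LD1_c9 LD2_c46 LD3_c40) (LK LD1_c17 LD2_c56 LD3_c44) Lrfl Lrfl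
theorem f719396 : Led Lsl_gt (LP (LK LD1_c20 LD2_c14 LD3_c47)) = (LP (LK LD1_c17 LD2_c56 LD3_c44)) :=
  Lgr Lrot65 (Lpe (f416285 IH) (Lpr_bt (f416284 IH) (Lpe (K51.f382410 IH) (Lpe (f415692 IH) (Lpr_ct (K52.f116937 IH) (Lpe (f698494 IH) (Lpe (f640427 IH) (Lpr_gf (f719394 IH) (Lpe (f719386 IH) (Lpr_ct (f416344 IH) (Lpn (LP (LK LD1_c17 LD2_c56 LD3_c44)))))))))))))
theorem f738969 : Led Lsl_gt (LP (LK LD1_c11 LD2_c11 LD3_c19)) = (LP (LK LD1_c11 LD2_c18 LD3_c19)) :=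
  Lgr Lrot9 (Lpe (f614362 IH) (Lpr_gt (f738967 IH) (Lpr_ct (K53.f140877 IH) (Lpr_gt (K53.f714666 IH) (Lpr_ct (K53.f633871 IH) (Lpq (K53.f713813 IH) (Lpe (f712998 IH) (Lpe (f416343 IH) (Lpe (f719396 IH) (Lpe (f416285 IH) (Lpn (LP (LK LD1_c11 LD2_c18 LD3_c19)))))))))))))
theorem f112335 : Led Lsl_gt (LP (LK LD1_c12 LD2_c9 LD3_c2)) = (LP (LK LD1_c6 LD2_c15 LD3_c35)) :=
  Lre_g IH (LK LD1_c12 LD2_c9 LD3_c2) (LK LD1_c6 LD2_c15 LD3_c35) Lrfl Lrfl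
theorem f738975 : Led Lsl_et (LP (LK LD1_c20 LD2_c14 LD3_c49)) = (LP (LK LD1_c11 LD2_c18 LD3_c19)) :=
  Lre_e IH (LK LD1_c20 LD2_c14 LD3_c49) (LK LD1_c11 LD2_c18 LD3_c19) Lrfl Lrfl
theorem f738976 : Led Lsl_df (LP (LK LD1_c12 LD2_c9 LD3_c2)) = (LP (LK LD1_c20 LD2_c14 LD3_c49)) :=
  Lgr Lrot170 (Lpr_gt (f112335 IH) (Lpe (K52.f112134 IH) (Lpr_et (K52.f561434 IH) (Lpe (K40.f561424 IH) (Lpr_dt (K40.f381818 IH) (Lpr_gt (K31.f381957 IH) (Lpe (K31.f181272 IH) (Lpr_et (K38.f181279 IH) (Lpr_gt (f738969 IH) (Lpe (f738975 IH) (Lpn (LP (LK LD1_c20 LD2_c14 LD3_c49)))))))))))))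
theorem f618134 : Led Lsl_bt (LP (LK LD1_c11 LD2_c18 LD3_c22)) = (LP (LK LD1_c20 LD2_c14 LD3_c49)) :=
  Lre_b IH (LK LD1_c11 LD2_c18 LD3_c22) (LK LD1_c20 LD2_c14 LD3_c49) Lrfl Lrfl
theorem f618033 : Led Lsl_dt (LP (LK LD1_c11 LD2_c40 LD3_c12)) = (LP (LK LD1_c11 LD2_c18 LD3_c22)) :=
  Lgr Lrot42 (Lpr_df (K51.f618030 IH) (Lpn (LP (LK LD1_c11 LD2_c18 LD3_c22))))
theorem f738978 : Led Lsl_bt (LP (LK LD1_c12 LD2_c9 LD3_c2)) = (LP (LK LD1_c11 LD2_c40 LD3_c12)) :=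
  Lgr Lrot95 (Lpr_df (f738976 IH) (Lpe (f618134 IH) (Lpe (f618033 IH) (Lpn (LP (LK LD1_c11 LD2_c40 LD3_c12))))))
theorem f413477 : Led Lsl_ct (LP (LK LD1_c3 LD2_c2 LD3_c48)) = (LP (LK LD1_c6 LD2_c12 LD3_c21)) :=
  Lre_c IH (LK LD1_c3 LD2_c2 LD3_c48) (LK LD1_c6 LD2_c12 LD3_c21) Lrfl Lrfl
theorem f706956 : Led Lsl_gf (LP (LK LD1_c6 LD2_c12 LD3_c21)) = (LP (LK LD1_c5 LD2_c50 LD3_c54)) :=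
  Lgr Lrot126 (Lpe (f413477 IH) (Lpr_bt (K48.f413476 IH) (Lpr_gt (K16.f413463 IH) (Lpe (K2.f73765 IH) (Lpr_gt (K9.f67028 IH) (Lpe (K17.f61039 IH) (Lpr_bt (K52.f61047 IH) (Lpr_gt (K50.f701508 IH) (Lpqs (K51.f706312 IH) (Lpr_bf (K51.f618115 IH) (Lpr_ct (K51.f406418 IH) (Lpn (LP (LK LD1_c5 LD2_c50 LD3_c54))))))))))))))
theorem f496492 : Led Lsl_ct (LP (LK LD1_c11 LD2_c31 LD3_c12)) = (LP (LK LD1_c5 LD2_c52 LD3_c9)) :=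
  Lre_c IH (LK LD1_c11 LD2_c31 LD3_c12) (LK LD1_c5 LD2_c52 LD3_c9) Lrfl Lrfl
theorem f640795 : Led Lsl_ft (LP (LK LD1_c11 LD2_c28 LD3_c41)) = (LP (LK LD1_c11 LD2_c31 LD3_c12)) :=
  Lgr Lrot4 (Lpe (K51.f499963 IH) (Lpr_ff (K41.f640793 IH) (Lpe (f496492 IH) (Lpn (LP (LK LD1_c11 LD2_c31 LD3_c12))))))
theorem f706958 : Led Lsl_af (LP (LK LD1_c6 LD2_c12 LD3_c21)) = (LP (LK LD1_c11 LD2_c31 LD3_c12)) :=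
  Lgr Lrot31 (Lpr_gf (f706956 IH) (Lpr_gf (K51.f706065 IH) (Lpr_ft (f640795 IH) (Lpn (LP (LK LD1_c11 LD2_c31 LD3_c12))))))
theorem f706960 : Led Lsl_at (LP (LK LD1_c6 LD2_c12 LD3_c21)) = (LP (LK LD1_c11 LD2_c31 LD3_c12)) :=
  Lgr Lrot100 (Lpr_af (f706958 IH) (Lpn (LP (LK LD1_c11 LD2_c31 LD3_c12))))
theorem f706966 : Led Lsl_gt (LP (LK LD1_c5 LD2_c52 LD3_c16)) = (LP (LK LD1_c11 LD2_c31 LD3_c12)) :=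
  Lgr Lrot46 (Lpe (K51.f706014 IH) (Lpe (K48.f504393 IH) (Lpr_at (f706960 IH) (Lpn (LP (LK LD1_c11 LD2_c31 LD3_c12))))))
theorem f22803 : Led Lsl_ct (LP (LK LD1_c5 LD2_c52 LD3_c9)) = (LP (LK LD1_c11 LD2_c31 LD3_c12)) :=
  Lre_c IH (LK LD1_c5 LD2_c52 LD3_c9) (LK LD1_c11 LD2_c31 LD3_c12) Lrfl Lrfl
theorem f701581 : Led Lsl_bt K52.v5270 = K51.v13187 :=
  Lgr Lrot127 (Lpr_bf (K52.f701575 IH) (Lpn K51.v13187))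
theorem f66316 : Led Lsl_dt (LP (LK LD1_c3 LD2_c50 LD3_c34)) = (LP (LK LD1_c7 LD2_c42 LD3_c12)) :=
  Lre_d IH (LK LD1_c3 LD2_c50 LD3_c34) (LK LD1_c7 LD2_c42 LD3_c12) Lrfl Lrfl
theorem f157975 : Led Lsl_dt (LP (LK LD1_c11 LD2_c30 LD3_c1)) = (LP (LK LD1_c5 LD2_c51 LD3_c17)) :=
  Lre_d IH (LK LD1_c11 LD2_c30 LD3_c1) (LK LD1_c5 LD2_c51 LD3_c17) Lrfl Lrfl
theorem f158059 : Led Lsl_af (LP (LK LD1_c3 LD2_c50 LD3_c34)) = (LP (LK LD1_c5 LD2_c51 LD3_c17)) :=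
  Lgr Lrot117 (Lpr_dt (f66316 IH) (Lpr_at (K8.f158050 IH) (Lpr_dt (f157975 IH) (Lpn (LP (LK LD1_c5 LD2_c51 LD3_c17))))))
theorem f66259 : Led Lsl_gt (LP (LK LD1_c7 LD2_c42 LD3_c11)) = (LP (LK LD1_c3 LD2_c50 LD3_c34)) :=
  Lre_g IH (LK LD1_c7 LD2_c42 LD3_c11) (LK LD1_c3 LD2_c50 LD3_c34) Lrfl Lrfl
theorem f158088 : Led Lsl_ft (LP (LK LD1_c11 LD2_c30 LD3_c2)) = (LP (LK LD1_c5 LD2_c51 LD3_c17)) :=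
  Lre_f IH (LK LD1_c11 LD2_c30 LD3_c2) (LK LD1_c5 LD2_c51 LD3_c17) Lrfl Lrfl
theorem f428805 : Led Lsl_gf (LP (LK LD1_c7 LD2_c42 LD3_c11)) = (LP (LK LD1_c11 LD2_c30 LD3_c2)) :=
  Lgr Lrot47 (Lpr_gt (f66259 IH) (Lpr_af (f158059 IH) (Lpe (f158088 IH) (Lpn (LP (LK LD1_c11 LD2_c30 LD3_c2))))))
theorem f738985 : Led Lsl_ct (LP (LK LD1_c12 LD2_c9 LD3_c2)) = (LP (LK LD1_c7 LD2_c42 LD3_c11)) :=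
  Lgr Lrot63 (Lpr_bt (f738978 IH) (Lpr_gt (K51.f425897 IH) (Lpr_bf (K50.f560125 IH) (Lpe (K51.f540164 IH) (Lpr_gt (f706966 IH) (Lpe (f22803 IH) (Lpq (K52.f706040 IH) (Lpr_bt (f701581 IH) (Lpqs (K52.f710390 IH) (Lpr_gt (K53.f428760 IH) (Lpr_ct (K51.f157917 IH) (Lpe (f428805 IH) (Lpn (LP (LK LD1_c7 LD2_c42 LD3_c11)))))))))))))))
theorem f117870 : Led Lsl_af (LP (LK LD1_c6 LD2_c15 LD3_c35)) = (LP (LK LD1_c5 LD2_c47 LD3_c48)) :=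
  Lgr Lrot0 (Lpr_at (K5.f117868 IH) (Lpn (LP (LK LD1_c5 LD2_c47 LD3_c48))))
theorem f117879 : Led Lsl_ft (LP (LK LD1_c11 LD2_c25 LD3_c20)) = (LP (LK LD1_c5 LD2_c47 LD3_c48)) :=
  Lre_f IH (LK LD1_c11 LD2_c25 LD3_c20) (LK LD1_c5 LD2_c47 LD3_c48) Lrfl Lrfl
theorem f117883 : Led Lsl_gf (LP (LK LD1_c12 LD2_c9 LD3_c2)) = (LP (LK LD1_c11 LD2_c25 LD3_c20)) :=
  Lgr Lrot47 (Lpr_gt (f112335 IH) (Lpr_af (f117870 IH) (Lpe (f117879 IH) (Lpn (LP (LK LD1_c11 LD2_c25 LD3_c20))))))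
theorem f66167 : Led Lsl_bt (LP (LK LD1_c6 LD2_c36 LD3_c47)) = (LP (LK LD1_c3 LD2_c16 LD3_c48)) :=
  Lre_b IH (LK LD1_c6 LD2_c36 LD3_c47) (LK LD1_c3 LD2_c16 LD3_c48) Lrfl Lrfl
theorem f66168 : Led Lsl_bt (LP (LK LD1_c1 LD2_c52 LD3_c13)) = (LP (LK LD1_c3 LD2_c50 LD3_c34)) :=
  Lre_b IH (LK LD1_c1 LD2_c52 LD3_c13) (LK LD1_c3 LD2_c50 LD3_c34) Lrfl Lrfl
theorem f66279 : Led Lsl_ct (LP (LK LD1_c3 LD2_c50 LD3_c34)) = (LP (LK LD1_c2 LD2_c49 LD3_c56)) :=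
  Lgr Lrot83 (Lpe (f66168 IH) (Lpe (K3.f66162 IH) (Lpe (f66167 IH) (Lpr_cf (K4.f66267 IH) (Lpe (K8.f66278 IH) (Lpn (LP (LK LD1_c2 LD2_c49 LD3_c56))))))))
theorem f738992 : Led Lsl_gt (LP (LK LD1_c20 LD2_c0 LD3_c42)) = (LP (LK LD1_c19 LD2_c59 LD3_c60)) :=
  Lgr Lrot9 (Lpe (f595832 IH) (Lpe (f117883 IH) (Lpr_ct (f738985 IH) (Lpr_gt (f66259 IH) (Lpr_ct (f66279 IH) (Lpe (K52.f589542 IH) (Lpe (K52.f589460 IH) (Lpe (K53.f579787 IH) (Lpr_cf (K53.f710107 IH) (Lpn (LP (LK LD1_c19 LD2_c59 LD3_c60))))))))))))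
theorem f738996 : Led Lsl_gf (LP (LK LD1_c12 LD2_c9 LD3_c3)) = (LP (LK LD1_c19 LD2_c59 LD3_c60)) :=
  Lgr Lrot76 (Lpr_af (K52.f595814 IH) (Lpe (f595551 IH) (Lpr_gt (f738992 IH) (Lpn (LP (LK LD1_c19 LD2_c59 LD3_c60))))))
theorem f112345 : Led Lsl_dt (LP (LK LD1_c6 LD2_c15 LD3_c35)) = (LP (LK LD1_c12 LD2_c9 LD3_c3)) :=
  Lre_d IH (LK LD1_c6 LD2_c15 LD3_c35) (LK LD1_c12 LD2_c9 LD3_c3) Lrfl Lrfl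
theorem f425954 : Led Lsl_at (LP (LK LD1_c0 LD2_c38 LD3_c43)) = (LP (LK LD1_c1 LD2_c23 LD3_c49)) :=
  Lre_a IH (LK LD1_c0 LD2_c38 LD3_c43) (LK LD1_c1 LD2_c23 LD3_c49) Lrfl Lrfl
theorem f386839 : Led Lsl_ft (LP (LK LD1_c1 LD2_c23 LD3_c28)) = (LP (LK LD1_c0 LD2_c38 LD3_c43)) :=
  Lre_f IH (LK LD1_c1 LD2_c23 LD3_c28) (LK LD1_c0 LD2_c38 LD3_c43) Lrfl Lrfl
theorem f426093 : Led Lsl_gt (LP (LK LD1_c1 LD2_c23 LD3_c28)) = (LP (LK LD1_c1 LD2_c21 LD3_c54)) :=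
  Lgr Lrot5 (Lpr_ft (f386839 IH) (Lpr_at (f425954 IH) (Lpr_gf (K24.f426091 IH) (Lpn (LP (LK LD1_c1 LD2_c21 LD3_c54))))))
theorem f159041 : Led Lsl_gt (LP (LK LD1_c5 LD2_c50 LD3_c60)) = (LP (LK LD1_c11 LD2_c29 LD3_c29)) :=
  Lre_g IH (LK LD1_c5 LD2_c50 LD3_c60) (LK LD1_c11 LD2_c29 LD3_c29) Lrfl Lrfl
theorem f427371 : Led Lsl_et (LP (LK LD1_c20 LD2_c26 LD3_c31)) = (LP (LK LD1_c11 LD2_c29 LD3_c29)) :=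
  Lre_e IH (LK LD1_c20 LD2_c26 LD3_c31) (LK LD1_c11 LD2_c29 LD3_c29) Lrfl Lrfl
theorem f739000 : Led Lsl_dt (LP (LK LD1_c20 LD2_c26 LD3_c31)) = (LP (LK LD1_c19 LD2_c59 LD3_c60)) :=
  Lgr Lrot136 (Lpr_et (f427371 IH) (Lpe (f159041 IH) (Lpe (f136264 IH) (Lpr_dt (K6.f8363 IH) (Lpe (f426093 IH) (Lpe (K34.f425937 IH) (Lpe (K32.f426592 IH) (Lpe (K4.f112346 IH) (Lpr_dt (f112345 IH) (Lpr_gf (f738996 IH) (Lpn (LP (LK LD1_c19 LD2_c59 LD3_c60)))))))))))))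
theorem f739006 : Led Lsl_df (LP (LK LD1_c20 LD2_c26 LD3_c31)) = (LP (LK LD1_c19 LD2_c59 LD3_c60)) :=
  Lgr Lrot38 (Lpr_dt (f739000 IH) (Lpn (LP (LK LD1_c19 LD2_c59 LD3_c60))))
theorem f710109 : Led Lsl_bt (LP (LK LD1_c11 LD2_c6 LD3_c31)) = (LP (LK LD1_c19 LD2_c59 LD3_c60)) :=
  Lre_b IH (LK LD1_c11 LD2_c6 LD3_c31) (LK LD1_c19 LD2_c59 LD3_c60) Lrfl Lrfl
theorem f81988 : Led Lsl_gt (LP (LK LD1_c11 LD2_c36 LD3_c41)) = (LP (LK LD1_c5 LD2_c55 LD3_c44)) :=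
  Lre_g IH (LK LD1_c11 LD2_c36 LD3_c41) (LK LD1_c5 LD2_c55 LD3_c44) Lrfl Lrfl
theorem f710635 : Led Lsl_gf (LP (LK LD1_c11 LD2_c36 LD3_c41)) = (LP (LK LD1_c6 LD2_c45 LD3_c12)) :=
  Lgr Lrot47 (Lpr_gt (f81988 IH) (Lpr_af (K52.f163121 IH) (Lpr_ff (K52.f710631 IH) (Lpn (LP (LK LD1_c6 LD2_c45 LD3_c12))))))
theorem f140042 : Led Lsl_bt (LP (LK LD1_c0 LD2_c44 LD3_c48)) = (LP (LK LD1_c1 LD2_c36 LD3_c42)) :=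
  Lre_b IH (LK LD1_c0 LD2_c44 LD3_c48) (LK LD1_c1 LD2_c36 LD3_c42) Lrfl Lrfl
theorem f101704 : Led Lsl_gt (LP (LK LD1_c3 LD2_c24 LD3_c5)) = (LP (LK LD1_c1 LD2_c38 LD3_c20)) :=
  Lre_g IH (LK LD1_c3 LD2_c24 LD3_c5) (LK LD1_c1 LD2_c38 LD3_c20) Lrfl Lrfl
theorem f140984 : Led Lsl_bt (LP (LK LD1_c6 LD2_c51 LD3_c10)) = (LP (LK LD1_c3 LD2_c24 LD3_c5)) :=
  Lre_b IH (LK LD1_c6 LD2_c51 LD3_c10) (LK LD1_c3 LD2_c24 LD3_c5) Lrfl Lrfl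
theorem f710637 : Led Lsl_cf (LP (LK LD1_c11 LD2_c36 LD3_c41)) = (LP (LK LD1_c6 LD2_c51 LD3_c10)) :=
  Lgr Lrot163 (Lpr_gf (f710635 IH) (Lpe (K52.f140982 IH) (Lpe (K51.f140057 IH) (Lpe (f140042 IH) (Lpr_ct (K17.f140046 IH) (Lpe (K9.f61207 IH) (Lpe (K2.f73704 IH) (Lpr_bt (K17.f140983 IH) (Lpe (f101704 IH) (Lpe (f140984 IH) (Lpn (LP (LK LD1_c6 LD2_c51 LD3_c10)))))))))))))
theorem f413884 : Led Lsl_at (LP (LK LD1_c3 LD2_c24 LD3_c3)) = (LP (LK LD1_c1 LD2_c38 LD3_c20)) :=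
  Lre_a IH (LK LD1_c3 LD2_c24 LD3_c3) (LK LD1_c1 LD2_c38 LD3_c20) Lrfl Lrfl
theorem f413885 : Led Lsl_ft (LP (LK LD1_c6 LD2_c46 LD3_c27)) = (LP (LK LD1_c3 LD2_c24 LD3_c3)) :=
  Lgr Lrot101 (Lpe (K17.f413883 IH) (Lpr_ff (K17.f413880 IH) (Lpe (f413884 IH) (Lpn (LP (LK LD1_c3 LD2_c24 LD3_c3))))))
theorem f415156 : Led Lsl_gt (LP (LK LD1_c6 LD2_c46 LD3_c27)) = (LP (LK LD1_c3 LD2_c24 LD3_c5)) :=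
  Lgr Lrot5 (Lpr_ft (f413885 IH) (Lpr_at (f413884 IH) (Lpe (f101704 IH) (Lpn (LP (LK LD1_c3 LD2_c24 LD3_c5))))))
theorem f413670 : Led Lsl_ct (LP (LK LD1_c9 LD2_c32 LD3_c10)) = (LP (LK LD1_c4 LD2_c49 LD3_c46)) :=
  Lre_c IH (LK LD1_c9 LD2_c32 LD3_c10) (LK LD1_c4 LD2_c49 LD3_c46) Lrfl Lrfl
theorem f413839 : Led Lsl_ff (LP (LK LD1_c9 LD2_c32 LD3_c10)) = (LP (LK LD1_c4 LD2_c59 LD3_c53)) :=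
  Lgr Lrot23 (Lpr_ct (f413670 IH) (Lpr_ft (K17.f413826 IH) (Lpr_ct (K17.f141117 IH) (Lpn (LP (LK LD1_c4 LD2_c59 LD3_c53))))))
theorem f414233 : Led Lsl_at (LP (LK LD1_c9 LD2_c32 LD3_c10)) = (LP (LK LD1_c17 LD2_c34 LD3_c18)) :=
  Lre_a IH (LK LD1_c9 LD2_c32 LD3_c10) (LK LD1_c17 LD2_c34 LD3_c18) Lrfl Lrfl
theorem f76911 : Led Lsl_gt (LP (LK LD1_c4 LD2_c59 LD3_c53)) = (LP (LK LD1_c9 LD2_c50 LD3_c12)) :=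
  Lre_g IH (LK LD1_c4 LD2_c59 LD3_c53) (LK LD1_c9 LD2_c50 LD3_c12) Lrfl Lrfl
theorem f415180 : Led Lsl_gf (LP (LK LD1_c17 LD2_c34 LD3_c18)) = (LP (LK LD1_c9 LD2_c50 LD3_c12)) :=
  Lgr Lrot76 (Lpe (f414233 IH) (Lpr_ff (f413839 IH) (Lpr_gt (f76911 IH) (Lpn (LP (LK LD1_c9 LD2_c50 LD3_c12))))))
theorem f705240 : Led Lsl_ff (LP (LK LD1_c4 LD2_c49 LD3_c2)) = K50.v13845 :=
  Lgr Lrot3 (Lpr_ft (K50.f705237 IH) (Lpn K50.v13845))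
theorem f634124 : Led Lsl_ct (LP (LK LD1_c4 LD2_c49 LD3_c2)) = (LP (LK LD1_c2 LD2_c22 LD3_c22)) :=
  Lre_c IH (LK LD1_c4 LD2_c49 LD3_c2) (LK LD1_c2 LD2_c22 LD3_c22) Lrfl Lrfl
theorem f705248 : Led Lsl_ct K50.v4484 = K50.v13845 :=
  Lgr Lrot40 (Lpe (K50.f634141 IH) (Lpe (f634124 IH) (Lpr_ff (f705240 IH) (Lpn K50.v13845))))
theorem f705350 : K50.v13845 = (LP (LK LD1_c9 LD2_c30 LD3_c30)) :=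
  Lefun (Lecon (f705248 IH) (K52.f705342 IH).symm) (K46.f415119 IH)
theorem f705207 : Led Lsl_bt (LP (LK LD1_c9 LD2_c30 LD3_c42)) = (LP (LK LD1_c4 LD2_c49 LD3_c2)) :=
  Lre_b IH (LK LD1_c9 LD2_c30 LD3_c42) (LK LD1_c4 LD2_c49 LD3_c2) Lrfl Lrfl
theorem f415120 : Led Lsl_bt (LP (LK LD1_c9 LD2_c30 LD3_c30)) = (LP (LK LD1_c17 LD2_c31 LD3_c52)) :=
  Lre_b IH (LK LD1_c9 LD2_c30 LD3_c30) (LK LD1_c17 LD2_c31 LD3_c52) Lrfl Lrfl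
theorem f705422 : Led Lsl_ff (LP (LK LD1_c9 LD2_c30 LD3_c42)) = (LP (LK LD1_c17 LD2_c31 LD3_c52)) :=
  Lgr Lrot25 (Lpr_bt (f705207 IH) (Lpr_ft (K50.f705237 IH) (Lpqs (f705350 IH) (Lpr_bt (f415120 IH) (Lpn (LP (LK LD1_c17 LD2_c31 LD3_c52)))))))
theorem f705427 : Led Lsl_ft (LP (LK LD1_c9 LD2_c30 LD3_c42)) = (LP (LK LD1_c17 LD2_c31 LD3_c52)) :=
  Lgr Lrot48 (Lpr_ff (f705422 IH) (Lpn (LP (LK LD1_c17 LD2_c31 LD3_c52))))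
theorem f413862 : Led Lsl_ct (LP (LK LD1_c17 LD2_c31 LD3_c60)) = (LP (LK LD1_c9 LD2_c30 LD3_c42)) :=
  Lre_c IH (LK LD1_c17 LD2_c31 LD3_c60) (LK LD1_c9 LD2_c30 LD3_c42) Lrfl Lrfl
theorem f414217 : Led Lsl_cf (LP (LK LD1_c9 LD2_c30 LD3_c29)) = (LP (LK LD1_c9 LD2_c50 LD3_c13)) :=
  Lgr Lrot11 (Lpr_ct (K17.f414090 IH) (Lpn (LP (LK LD1_c9 LD2_c50 LD3_c13))))
theorem f414230 : Led Lsl_bt (LP (LK LD1_c18 LD2_c1 LD3_c10)) = (LP (LK LD1_c9 LD2_c50 LD3_c13)) :=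
  Lre_b IH (LK LD1_c18 LD2_c1 LD3_c10) (LK LD1_c9 LD2_c50 LD3_c13) Lrfl Lrfl
theorem f415121 : Led Lsl_ct (LP (LK LD1_c17 LD2_c31 LD3_c52)) = (LP (LK LD1_c18 LD2_c1 LD3_c10)) :=
  Lgr Lrot83 (Lpe (f415120 IH) (Lpe (K46.f415119 IH) (Lpe (K17.f77003 IH) (Lpr_cf (f414217 IH) (Lpe (f414230 IH) (Lpn (LP (LK LD1_c18 LD2_c1 LD3_c10))))))))
theorem f705429 : Led Lsl_ff (LP (LK LD1_c17 LD2_c31 LD3_c60)) = (LP (LK LD1_c18 LD2_c1 LD3_c10)) :=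
  Lgr Lrot23 (Lpr_ct (f413862 IH) (Lpr_ft (f705427 IH) (Lpr_ct (f415121 IH) (Lpn (LP (LK LD1_c18 LD2_c1 LD3_c10))))))
theorem f413861 : Led Lsl_bt (LP (LK LD1_c17 LD2_c31 LD3_c60)) = (LP (LK LD1_c9 LD2_c30 LD3_c39)) :=
  Lre_b IH (LK LD1_c17 LD2_c31 LD3_c60) (LK LD1_c9 LD2_c30 LD3_c39) Lrfl Lrfl
theorem f414214 : Led Lsl_bt (LP (LK LD1_c9 LD2_c50 LD3_c13)) = (LP (LK LD1_c18 LD2_c1 LD3_c10)) :=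
  Lre_b IH (LK LD1_c9 LD2_c50 LD3_c13) (LK LD1_c18 LD2_c1 LD3_c10) Lrfl Lrfl
theorem f705431 : Led Lsl_ft (LP (LK LD1_c9 LD2_c30 LD3_c39)) = (LP (LK LD1_c9 LD2_c50 LD3_c13)) :=
  Lgr Lrot75 (Lpe (f413861 IH) (Lpr_ff (f705429 IH) (Lpe (f414214 IH) (Lpn (LP (LK LD1_c9 LD2_c50 LD3_c13))))))
theorem f414245 : Led Lsl_gt (LP (LK LD1_c9 LD2_c32 LD3_c10)) = (LP (LK LD1_c17 LD2_c34 LD3_c20)) :=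
  Lre_g IH (LK LD1_c9 LD2_c32 LD3_c10) (LK LD1_c17 LD2_c34 LD3_c20) Lrfl Lrfl
theorem f705435 : Led Lsl_af (LP (LK LD1_c17 LD2_c34 LD3_c20)) = (LP (LK LD1_c9 LD2_c50 LD3_c13)) :=
  Lgr Lrot31 (Lpe (f414245 IH) (Lpr_gf (K17.f414243 IH) (Lpr_ft (f705431 IH) (Lpn (LP (LK LD1_c9 LD2_c50 LD3_c13))))))
theorem f705437 : Led Lsl_at (LP (LK LD1_c17 LD2_c34 LD3_c20)) = (LP (LK LD1_c9 LD2_c50 LD3_c13)) :=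
  Lgr Lrot100 (Lpr_af (f705435 IH) (Lpn (LP (LK LD1_c9 LD2_c50 LD3_c13))))
theorem f705452 : Led Lsl_ff (LP (LK LD1_c17 LD2_c34 LD3_c20)) = (LP (LK LD1_c9 LD2_c50 LD3_c12)) :=
  Lgr Lrot52 (Lpr_at (f705437 IH) (Lpe (K17.f414226 IH) (Lpr_gf (f415180 IH) (Lpn (LP (LK LD1_c9 LD2_c50 LD3_c12))))))
theorem f705456 : Led Lsl_ft (LP (LK LD1_c17 LD2_c34 LD3_c20)) = (LP (LK LD1_c9 LD2_c50 LD3_c12)) :=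
  Lgr Lrot48 (Lpr_ff (f705452 IH) (Lpn (LP (LK LD1_c9 LD2_c50 LD3_c12))))
theorem f705458 : Led Lsl_af (LP (LK LD1_c9 LD2_c30 LD3_c39)) = (LP (LK LD1_c9 LD2_c50 LD3_c12)) :=
  Lgr Lrot45 (Lpr_ft (f705431 IH) (Lpe (f705435 IH) (Lpr_ft (f705456 IH) (Lpn (LP (LK LD1_c9 LD2_c50 LD3_c12))))))
theorem f413856 : Led Lsl_ct (LP (LK LD1_c9 LD2_c30 LD3_c39)) = (LP (LK LD1_c4 LD2_c49 LD3_c1)) :=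
  Lre_c IH (LK LD1_c9 LD2_c30 LD3_c39) (LK LD1_c4 LD2_c49 LD3_c1) Lrfl Lrfl
theorem f634126 : Led Lsl_at (LP (LK LD1_c4 LD2_c49 LD3_c1)) = (LP (LK LD1_c9 LD2_c30 LD3_c38)) :=
  Lre_a IH (LK LD1_c4 LD2_c49 LD3_c1) (LK LD1_c9 LD2_c30 LD3_c38) Lrfl Lrfl
theorem f705460 : Led Lsl_ct (LP (LK LD1_c9 LD2_c30 LD3_c38)) = (LP (LK LD1_c9 LD2_c50 LD3_c12)) :=
  Lgr Lrot111 (Lpe (f634126 IH) (Lpe (f413856 IH) (Lpr_af (f705458 IH) (Lpn (LP (LK LD1_c9 LD2_c50 LD3_c12))))))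
theorem f710650 : Led Lsl_gt (LP (LK LD1_c5 LD2_c55 LD3_c38)) = (LP (LK LD1_c9 LD2_c30 LD3_c38)) :=
  Lgr Lrot82 (Lpe (K52.f81969 IH) (Lpr_ct (K8.f81978 IH) (Lpe (f81988 IH) (Lpr_cf (f710637 IH) (Lpr_bt (f140984 IH) (Lpe (f415156 IH) (Lpr_bf (K31.f414490 IH) (Lpr_ct (K17.f413833 IH) (Lpr_gf (f415180 IH) (Lpe (f705460 IH) (Lpn (LP (LK LD1_c9 LD2_c30 LD3_c38)))))))))))))
theorem f705464 : Led Lsl_et (LP (LK LD1_c17 LD2_c31 LD3_c59)) = (LP (LK LD1_c9 LD2_c30 LD3_c38)) :=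
  Lre_e IH (LK LD1_c17 LD2_c31 LD3_c59) (LK LD1_c9 LD2_c30 LD3_c38) Lrfl Lrfl
theorem f710654 : Led Lsl_df (LP (LK LD1_c11 LD2_c6 LD3_c31)) = (LP (LK LD1_c17 LD2_c31 LD3_c59)) :=
  Lgr Lrot170 (Lpr_gt (K53.f381328 IH) (Lpe (K50.f560131 IH) (Lpr_et (K52.f161314 IH) (Lpr_gt (K36.f74694 IH) (Lpr_dt (K28.f74710 IH) (Lpe (K8.f161296 IH) (Lpe (K6.f81951 IH) (Lpr_et (K8.f81963 IH) (Lpr_gt (f710650 IH) (Lpe (f705464 IH) (Lpn (LP (LK LD1_c17 LD2_c31 LD3_c59)))))))))))))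
theorem f739011 : Led Lsl_bt (LP (LK LD1_c20 LD2_c26 LD3_c31)) = (LP (LK LD1_c17 LD2_c31 LD3_c59)) :=
  Lgr Lrot95 (Lpr_df (f739006 IH) (Lpe (f710109 IH) (Lpr_df (f710654 IH) (Lpn (LP (LK LD1_c17 LD2_c31 LD3_c59))))))
theorem f739008 : Led Lsl_et (LP (LK LD1_c11 LD2_c29 LD3_c29)) = (LP (LK LD1_c20 LD2_c26 LD3_c31)) :=
  Lre_e IH (LK LD1_c11 LD2_c29 LD3_c29) (LK LD1_c20 LD2_c26 LD3_c31) Lrfl Lrfl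
theorem f739013 : Led Lsl_bf (LP (LK LD1_c11 LD2_c29 LD3_c29)) = (LP (LK LD1_c9 LD2_c30 LD3_c38)) :=
  Lgr Lrot96 (Lpr_et (f739008 IH) (Lpr_bt (f739011 IH) (Lpr_et (f705464 IH) (Lpn (LP (LK LD1_c9 LD2_c30 LD3_c38))))))
theorem f739017 : Led Lsl_bt (LP (LK LD1_c11 LD2_c29 LD3_c29)) = (LP (LK LD1_c9 LD2_c30 LD3_c38)) :=
  Lgr Lrot127 (Lpr_bf (f739013 IH) (Lpn (LP (LK LD1_c9 LD2_c30 LD3_c38))))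
theorem f634123 : Led Lsl_at (LP (LK LD1_c9 LD2_c30 LD3_c38)) = (LP (LK LD1_c4 LD2_c49 LD3_c1)) :=
  Lre_a IH (LK LD1_c9 LD2_c30 LD3_c38) (LK LD1_c4 LD2_c49 LD3_c1) Lrfl Lrfl
theorem f705172 : Led Lsl_bt (LP (LK LD1_c4 LD2_c48 LD3_c59)) = (LP (LK LD1_c9 LD2_c30 LD3_c25)) :=
  Lre_b IH (LK LD1_c4 LD2_c48 LD3_c59) (LK LD1_c9 LD2_c30 LD3_c25) Lrfl Lrfl
theorem f739023 : Led Lsl_af (LP (LK LD1_c11 LD2_c29 LD3_c29)) = (LP (LK LD1_c9 LD2_c30 LD3_c25)) :=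
  Lgr Lrot36 (Lpr_bt (f739017 IH) (Lpr_at (f634123 IH) (Lpr_bt (K17.f413589 IH) (Lpr_at (K50.f634121 IH) (Lpqs (K52.f705322 IH) (Lpr_bt (f705172 IH) (Lpn (LP (LK LD1_c9 LD2_c30 LD3_c25)))))))))
def v13852 : LQ := Led Lsl_ft (LP (LK LD1_c4 LD2_c49 LD3_c5))
theorem f705282 : Led Lsl_ft (LP (LK LD1_c4 LD2_c49 LD3_c5)) = v13852 :=
  Lrfl
theorem f705285 : Led Lsl_ff (LP (LK LD1_c4 LD2_c49 LD3_c5)) = v13852 :=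
  Lgr Lrot3 (Lpr_ft (f705282 IH) (Lpn v13852))
theorem f454784 : Led Lsl_bt (LP (LK LD1_c4 LD2_c49 LD3_c5)) = (LP (LK LD1_c2 LD2_c22 LD3_c23)) :=
  Lre_b IH (LK LD1_c4 LD2_c49 LD3_c5) (LK LD1_c2 LD2_c22 LD3_c23) Lrfl Lrfl
theorem f705286 : Led Lsl_bt K50.v4483 = v13852 :=
  Lgr Lrot35 (Lpe (K50.f634128 IH) (Lpe (f454784 IH) (Lpr_ff (f705285 IH) (Lpn v13852))))
theorem f705326 : v13852 = (LP (LK LD1_c9 LD2_c30 LD3_c25)) :=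
  Lefun (Lecon (f705286 IH) (K52.f705322 IH)) (f705172 IH)
def v13851 : LQ := Led Lsl_gt (LP (LK LD1_c4 LD2_c49 LD3_c5))
theorem f705275 : Led Lsl_gt (LP (LK LD1_c4 LD2_c49 LD3_c5)) = v13851 :=
  Lrfl
theorem f739029 : (LP (LK LD1_c5 LD2_c50 LD3_c60)) = v13851 :=
  (Llr Lrot76 (Lpr_gt (f159041 IH) (Lpr_af (f739023 IH) (Lpq (f705326 IH) (Lpe (f705282 IH) (Lpr_gt (f705275 IH) (Lpn v13851))))))).symm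
theorem f705223 : Led Lsl_gt (LP (LK LD1_c9 LD2_c30 LD3_c50)) = (LP (LK LD1_c4 LD2_c49 LD3_c5)) :=
  Lre_g IH (LK LD1_c9 LD2_c30 LD3_c50) (LK LD1_c4 LD2_c49 LD3_c5) Lrfl Lrfl
theorem f739111 : Led Lsl_ff (LP (LK LD1_c5 LD2_c53 LD3_c25)) = (LP (LK LD1_c9 LD2_c30 LD3_c50)) :=
  Lgr Lrot52 (Lpr_at (f438256 IH) (Lpqs (f739029 IH) (Lpe (f705275 IH) (Lpe (f705223 IH) (Lpn (LP (LK LD1_c9 LD2_c30 LD3_c50)))))))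
theorem f739114 : Led Lsl_ft (LP (LK LD1_c5 LD2_c53 LD3_c25)) = (LP (LK LD1_c9 LD2_c30 LD3_c50)) :=
  Lgr Lrot48 (Lpr_ff (f739111 IH) (Lpn (LP (LK LD1_c9 LD2_c30 LD3_c50))))
theorem f739116 : Led Lsl_bf v4940 = (LP (LK LD1_c9 LD2_c30 LD3_c50)) :=
  Lgr Lrot61 (Lpe (f640991 IH) (Lpr_bt (K8.f61850 IH) (Lpr_ft (f739114 IH) (Lpn (LP (LK LD1_c9 LD2_c30 LD3_c50))))))
theorem f634151 : Led Lsl_at (LP (LK LD1_c9 LD2_c30 LD3_c51)) = (LP (LK LD1_c4 LD2_c49 LD3_c5)) :=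
  Lre_a IH (LK LD1_c9 LD2_c30 LD3_c51) (LK LD1_c4 LD2_c49 LD3_c5) Lrfl Lrfl
theorem f739027 : Led Lsl_ft (LP (LK LD1_c11 LD2_c29 LD3_c29)) = (LP (LK LD1_c9 LD2_c30 LD3_c51)) :=
  Lgr Lrot101 (Lpr_af (f739023 IH) (Lpq (f705326 IH) (Lpe (f705282 IH) (Lpe (f634151 IH) (Lpn (LP (LK LD1_c9 LD2_c30 LD3_c51)))))))
theorem f141034 : Led Lsl_bt (LP (LK LD1_c1 LD2_c37 LD3_c9)) = (LP (LK LD1_c0 LD2_c44 LD3_c57)) :=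
  Lre_b IH (LK LD1_c1 LD2_c37 LD3_c9) (LK LD1_c0 LD2_c44 LD3_c57) Lrfl Lrfl
theorem f141035 : Led Lsl_ct (LP (LK LD1_c1 LD2_c37 LD3_c9)) = (LP (LK LD1_c3 LD2_c21 LD3_c43)) :=
  Lre_c IH (LK LD1_c1 LD2_c37 LD3_c9) (LK LD1_c3 LD2_c21 LD3_c43) Lrfl Lrfl
theorem f141036 : Led Lsl_gt (LP (LK LD1_c6 LD2_c47 LD3_c2)) = (LP (LK LD1_c3 LD2_c21 LD3_c43)) :=
  Lre_g IH (LK LD1_c6 LD2_c47 LD3_c2) (LK LD1_c3 LD2_c21 LD3_c43) Lrfl Lrfl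
theorem f453989 : Led Lsl_at (LP (LK LD1_c1 LD2_c36 LD3_c45)) = (LP (LK LD1_c3 LD2_c20 LD3_c54)) :=
  Lre_a IH (LK LD1_c1 LD2_c36 LD3_c45) (LK LD1_c3 LD2_c20 LD3_c54) Lrfl Lrfl
theorem f140000 : Led Lsl_gt (LP (LK LD1_c2 LD2_c22 LD3_c26)) = (LP (LK LD1_c4 LD2_c49 LD3_c13)) :=
  Lre_g IH (LK LD1_c2 LD2_c22 LD3_c26) (LK LD1_c4 LD2_c49 LD3_c13) Lrfl Lrfl
theorem f510403 : Led Lsl_gf (LP (LK LD1_c3 LD2_c20 LD3_c54)) = (LP (LK LD1_c4 LD2_c49 LD3_c13)) :=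
  Lgr Lrot76 (Lpe (f453989 IH) (Lpr_ff (K52.f509435 IH) (Lpqs (K52.f509862 IH) (Lpr_gt (f140000 IH) (Lpn (LP (LK LD1_c4 LD2_c49 LD3_c13)))))))
theorem f446012 : Led Lsl_bt (LP (LK LD1_c4 LD2_c49 LD3_c25)) = (LP (LK LD1_c2 LD2_c22 LD3_c31)) :=
  Lre_b IH (LK LD1_c4 LD2_c49 LD3_c25) (LK LD1_c2 LD2_c22 LD3_c31) Lrfl Lrfl
theorem f510158 : Led Lsl_at (LP (LK LD1_c9 LD2_c31 LD3_c31)) = (LP (LK LD1_c4 LD2_c49 LD3_c25)) :=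
  Lre_a IH (LK LD1_c9 LD2_c31 LD3_c31) (LK LD1_c4 LD2_c49 LD3_c25) Lrfl Lrfl
theorem f414603 : Led Lsl_bt (LP (LK LD1_c1 LD2_c36 LD3_c47)) = (LP (LK LD1_c3 LD2_c20 LD3_c57)) :=
  Lre_b IH (LK LD1_c1 LD2_c36 LD3_c47) (LK LD1_c3 LD2_c20 LD3_c57) Lrfl Lrfl
theorem f510159 : Led Lsl_bf (LP (LK LD1_c9 LD2_c31 LD3_c31)) = (LP (LK LD1_c6 LD2_c45 LD3_c43)) :=
  Lgr Lrot81 (Lpr_at (f510158 IH) (Lpr_bt (f446012 IH) (Lpq (K35.f509896 IH) (Lpe (K35.f509439 IH) (Lpr_bt (f414603 IH) (Lpr_at (K52.f509443 IH) (Lpn (LP (LK LD1_c6 LD2_c45 LD3_c43)))))))))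
theorem f510165 : Led Lsl_et (LP (LK LD1_c3 LD2_c20 LD3_c54)) = (LP (LK LD1_c6 LD2_c45 LD3_c43)) :=
  Lre_e IH (LK LD1_c3 LD2_c20 LD3_c54) (LK LD1_c6 LD2_c45 LD3_c43) Lrfl Lrfl
theorem f510166 : Led Lsl_bt (LP (LK LD1_c4 LD2_c49 LD3_c22)) = (LP (LK LD1_c3 LD2_c20 LD3_c54)) :=
  Lgr Lrot119 (Lpe (K51.f510164 IH) (Lpr_bf (f510159 IH) (Lpe (f510165 IH) (Lpn (LP (LK LD1_c3 LD2_c20 LD3_c54))))))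
theorem f454432 : Led Lsl_gt (LP (LK LD1_c9 LD2_c32 LD3_c3)) = (LP (LK LD1_c6 LD2_c47 LD3_c2)) :=
  Lgr Lrot5 (Lpr_ft (K51.f454338 IH) (Lpr_at (K51.f454337 IH) (Lpe (f141036 IH) (Lpn (LP (LK LD1_c6 LD2_c47 LD3_c2))))))
theorem f705573 : Led Lsl_cf (LP (LK LD1_c6 LD2_c47 LD3_c2)) = v13860 :=
  Lgr Lrot163 (Lpe (f454432 IH) (Lpe (K51.f416228 IH) (Lpr_gf (K51.f509645 IH) (Lpr_bf (K51.f672271 IH) (Lpe (K51.f672272 IH) (Lpe (K51.f652958 IH) (Lpe (K51.f510174 IH) (Lpr_bt (f510166 IH) (Lpr_gf (f510403 IH) (Lpr_bf (f705572 IH) (Lpn v13860)))))))))))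
theorem f739019 : Led Lsl_gt (LP (LK LD1_c11 LD2_c29 LD3_c29)) = v13860 :=
  Lgr Lrot82 (Lpr_bf (f739013 IH) (Lpr_ct (f705460 IH) (Lpe (f76911 IH) (Lpe (K17.f141117 IH) (Lpr_bt (K17.f141116 IH) (Lpe (K17.f139933 IH) (Lpe (f141034 IH) (Lpr_ct (f141035 IH) (Lpe (f141036 IH) (Lpr_cf (f705573 IH) (Lpn v13860)))))))))))
theorem f739121 : v13860 = (LP (LK LD1_c9 LD2_c30 LD3_c50)) :=
  (Llr Lrot5 (Lpe (f739019 IH) (Lpr_ft (f739027 IH) (Lpr_at (f634151 IH) (Lpe (f705223 IH) (Lpn (LP (LK LD1_c9 LD2_c30 LD3_c50)))))))).symm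
theorem f739125 : (LP (LK LD1_c4 LD2_c49 LD3_c13)) = v4940 :=
  Lefun (Lecon (Lfl_bf (f705572 IH)) (f739121 IH)) (Lfl_bf (f739116 IH))
theorem f739141 : (LP (LK LD1_c2 LD2_c53 LD3_c8)) = v13862 :=
  Lefun (Lecon (Lfl_ff (f640991 IH)) (f739125 IH).symm) (f705578 IH)
theorem f141031 : Led Lsl_ct (LP (LK LD1_c4 LD2_c49 LD3_c13)) = (LP (LK LD1_c9 LD2_c31 LD3_c11)) :=
  Lre_c IH (LK LD1_c4 LD2_c49 LD3_c13) (LK LD1_c9 LD2_c31 LD3_c11) Lrfl Lrfl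
theorem f739244 : Led Lsl_ff (LP (LK LD1_c5 LD2_c53 LD3_c35)) = (LP (LK LD1_c9 LD2_c31 LD3_c11)) :=
  Lgr Lrot23 (Lpr_ct (K8.f61849 IH) (Lpqs (f739141 IH) (Lpe (f705580 IH) (Lpr_ct (f141031 IH) (Lpn (LP (LK LD1_c9 LD2_c31 LD3_c11)))))))
theorem f739250 : Led Lsl_ft (LP (LK LD1_c5 LD2_c53 LD3_c35)) = (LP (LK LD1_c9 LD2_c31 LD3_c11)) :=
  Lgr Lrot48 (Lpr_ff (f739244 IH) (Lpn (LP (LK LD1_c9 LD2_c31 LD3_c11))))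
theorem f61851 : Led Lsl_ft (LP (LK LD1_c13 LD2_c1 LD3_c49)) = (LP (LK LD1_c6 LD2_c50 LD3_c36)) :=
  Lre_f IH (LK LD1_c13 LD2_c1 LD3_c49) (LK LD1_c6 LD2_c50 LD3_c36) Lrfl Lrfl
theorem f739264 : Led Lsl_bf (LP (LK LD1_c13 LD2_c1 LD3_c49)) = (LP (LK LD1_c9 LD2_c31 LD3_c11)) :=
  Lgr Lrot61 (Lpr_ft (f61851 IH) (Lpe (K8.f61844 IH) (Lpr_ft (f739250 IH) (Lpn (LP (LK LD1_c9 LD2_c31 LD3_c11))))))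
theorem f95201 : Led Lsl_ft (LP (LK LD1_c3 LD2_c25 LD3_c46)) = (LP (LK LD1_c6 LD2_c53 LD3_c27)) :=
  Lre_f IH (LK LD1_c3 LD2_c25 LD3_c46) (LK LD1_c6 LD2_c53 LD3_c27) Lrfl Lrfl
theorem f95202 : Led Lsl_cf (LP (LK LD1_c13 LD2_c1 LD3_c49)) = (LP (LK LD1_c6 LD2_c53 LD3_c27)) :=
  Lgr Lrot108 (Lpr_ft (f61851 IH) (Lpr_ct (K8.f94983 IH) (Lpr_ft (f95201 IH) (Lpn (LP (LK LD1_c6 LD2_c53 LD3_c27))))))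
theorem f95211 : Led Lsl_ct (LP (LK LD1_c13 LD2_c1 LD3_c49)) = (LP (LK LD1_c6 LD2_c53 LD3_c27)) :=
  Lgr Lrot59 (Lpr_cf (f95202 IH) (Lpn (LP (LK LD1_c6 LD2_c53 LD3_c27))))
theorem f705574 : Led Lsl_ct (LP (LK LD1_c6 LD2_c47 LD3_c2)) = v13860 :=
  Lgr Lrot59 (Lpr_cf (f705573 IH) (Lpn v13860))
theorem f739268 : Led Lsl_bt (LP (LK LD1_c6 LD2_c53 LD3_c27)) = (LP (LK LD1_c6 LD2_c47 LD3_c2)) :=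
  Lgr Lrot128 (Lpe (f95211 IH) (Lpr_bf (f739264 IH) (Lpe (f141031 IH) (Lpr_bf (f705572 IH) (Lpe (f705574 IH) (Lpn (LP (LK LD1_c6 LD2_c47 LD3_c2))))))))
theorem f739276 : Led Lsl_ff (LP (LK LD1_c6 LD2_c53 LD3_c17)) = (LP (LK LD1_c6 LD2_c47 LD3_c2)) :=
  Lgr Lrot25 (Lpr_bt (K8.f95219 IH) (Lpr_ft (f95201 IH) (Lpr_bt (f739268 IH) (Lpn (LP (LK LD1_c6 LD2_c47 LD3_c2))))))
theorem f130158 : Led Lsl_at (LP (LK LD1_c6 LD2_c53 LD3_c17)) = (LP (LK LD1_c5 LD2_c48 LD3_c19)) :=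
  Lgr Lrot80 (Lpe (K52.f95242 IH) (Lpr_af (K5.f130153 IH) (Lpe (f130157 IH) (Lpn (LP (LK LD1_c5 LD2_c48 LD3_c19))))))
def v6433 : LQ := Led Lsl_gt (LP (LK LD1_c3 LD2_c21 LD3_c43))
theorem f653397 : Led Lsl_gt (LP (LK LD1_c3 LD2_c21 LD3_c43)) = v6433 :=
  Lrfl
theorem f739284 : (LP (LK LD1_c5 LD2_c48 LD3_c19)) = v6433 :=
  (Llr Lrot26 (Lpe (f130158 IH) (Lpr_ff (f739276 IH) (Lpr_gt (f141036 IH) (Lpr_gt (f653397 IH) (Lpn v6433)))))).symm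
theorem f414062 : Led Lsl_bt (LP (LK LD1_c0 LD2_c19 LD3_c54)) = (LP (LK LD1_c0 LD2_c44 LD3_c47)) :=
  Lre_b IH (LK LD1_c0 LD2_c19 LD3_c54) (LK LD1_c0 LD2_c44 LD3_c47) Lrfl Lrfl
theorem f652767 : Led Lsl_gf (LP (LK LD1_c6 LD2_c46 LD3_c28)) = K51.v6325 :=
  Lgr Lrot126 (Lpe (K51.f413889 IH) (Lpr_bt (K17.f413551 IH) (Lpr_gt (K17.f414054 IH) (Lpr_ct (K17.f141108 IH) (Lpr_gt (K17.f27136 IH) (Lpe (K17.f22961 IH) (Lpr_bt (f414062 IH) (Lpr_gt (K46.f142143 IH) (Lpe (K51.f413588 IH) (Lpr_ct (K51.f652764 IH) (Lpn K51.v6325)))))))))))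
def v6324 : LQ := Led Lsl_gf (LP (LK LD1_c3 LD2_c20 LD3_c33))
theorem f652758 : Led Lsl_gf (LP (LK LD1_c3 LD2_c20 LD3_c33)) = v6324 :=
  Lrfl
theorem f739302 : (LP (LK LD1_c6 LD2_c44 LD3_c14)) = v6324 :=
  (Llr Lrot130 (Lpr_bf (f159034 IH) (Lpe (f136265 IH) (Lpqs (f739284 IH) (Lpe (f653397 IH) (Lpe (f141035 IH) (Lpr_bt (f141034 IH) (Lpe (K17.f414054 IH) (Lpe (K17.f413551 IH) (Lpr_ct (K51.f413889 IH) (Lpr_gf (f652767 IH) (Lpe (K51.f652764 IH) (Lpr_gf (f652758 IH) (Lpn v6324)))))))))))))).symm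
theorem f652762 : Led Lsl_dt (LP (LK LD1_c6 LD2_c44 LD3_c53)) = (LP (LK LD1_c3 LD2_c20 LD3_c33)) :=
  Lre_d IH (LK LD1_c6 LD2_c44 LD3_c53) (LK LD1_c3 LD2_c20 LD3_c33) Lrfl Lrfl
theorem f652763 : Led Lsl_et (LP (LK LD1_c6 LD2_c44 LD3_c53)) = (LP (LK LD1_c12 LD2_c54 LD3_c3)) :=
  Lre_e IH (LK LD1_c6 LD2_c44 LD3_c53) (LK LD1_c12 LD2_c54 LD3_c3) Lrfl Lrfl
theorem f739304 : Led Lsl_gf (LP (LK LD1_c11 LD2_c21 LD3_c3)) = (LP (LK LD1_c12 LD2_c54 LD3_c3)) :=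
  Lgr Lrot138 (Lpr_dt (f172668 IH) (Lpr_gt (f172627 IH) (Lpe (K30.f172596 IH) (Lpe (f172576 IH) (Lpr_gt (K42.f541361 IH) (Lpr_ef (f700064 IH) (Lpe (f700063 IH) (Lpqs (f739302 IH) (Lpe (f652758 IH) (Lpe (f652762 IH) (Lpr_et (f652763 IH) (Lpn (LP (LK LD1_c12 LD2_c54 LD3_c3))))))))))))))
theorem f739305 : Led Lsl_gt (LP (LK LD1_c12 LD2_c54 LD3_c3)) = (LP (LK LD1_c11 LD2_c21 LD3_c3)) :=
  Leop (Lpr_gf (f739304 IH) (Lpn (LP (LK LD1_c12 LD2_c54 LD3_c3))))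
theorem seed_922 : LEOK LG_g (LK LD1_c12 LD2_c54 LD3_c3) :=
  Leoe_g (LK LD1_c12 LD2_c54 LD3_c3) (f739305 IH)
def v5068 : LQ := Led Lsl_et (LP (LK LD1_c2 LD2_c57 LD3_c0))
theorem f645169 : Led Lsl_et (LP (LK LD1_c2 LD2_c57 LD3_c0)) = v5068 :=
  Lrfl
theorem f645171 : Led Lsl_ef (LP (LK LD1_c2 LD2_c57 LD3_c0)) = v5068 :=
  Lgr Lrot88 (Lpr_et (f645169 IH) (Lpn v5068))
theorem f26514 : Led Lsl_et (LP (LK LD1_c2 LD2_c51 LD3_c15)) = (LP (LK LD1_c5 LD2_c50 LD3_c10)) :=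
  Lre_e IH (LK LD1_c2 LD2_c51 LD3_c15) (LK LD1_c5 LD2_c50 LD3_c10) Lrfl Lrfl
theorem f645172 : Led Lsl_ct (LP (LK LD1_c5 LD2_c50 LD3_c10)) = v5068 :=
  Lgr Lrot15 (Lpe (f26514 IH) (Lpe (K8.f26500 IH) (Lpr_ef (f645171 IH) (Lpn v5068))))
def v13861 : LQ := Led Lsl_et (LP (LK LD1_c4 LD2_c49 LD3_c13))
theorem f705575 : Led Lsl_et (LP (LK LD1_c4 LD2_c49 LD3_c13)) = v13861 :=
  Lrfl
theorem f705577 : Led Lsl_ef (LP (LK LD1_c4 LD2_c49 LD3_c13)) = v13861 :=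
  Lgr Lrot88 (Lpr_et (f705575 IH) (Lpn v13861))
theorem f699957 : Led Lsl_ff (LP (LK LD1_c4 LD2_c35 LD3_c50)) = K53.v12974 :=
  Lgr Lrot3 (Lpr_ft (K53.f699954 IH) (Lpn K53.v12974))
theorem f699960 : Led Lsl_et v4940 = K53.v12974 :=
  Lgr Lrot69 (Lpe (f640990 IH) (Lpe (K52.f71217 IH) (Lpe (K7.f149099 IH) (Lpe (K53.f104784 IH) (Lpr_ff (f699957 IH) (Lpn K53.v12974))))))
theorem f739140 : K53.v12974 = v13861 :=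
  Lefun (Lecon (f699960 IH) (f739125 IH).symm) (f705575 IH)
theorem f699959 : Led Lsl_at K53.v4943 = K53.v12974 :=
  Lgr Lrot66 (Lpe (K53.f640994 IH) (Lpe (K7.f149110 IH) (Lpr_ff (f699957 IH) (Lpn K53.v12974))))
def v4941 : LQ := Led Lsl_gt (LP (LK LD1_c2 LD2_c53 LD3_c15))
theorem f640992 : Led Lsl_gt (LP (LK LD1_c2 LD2_c53 LD3_c15)) = v4941 :=
  Lrfl
theorem f699962 : Led Lsl_gt v4941 = K53.v12974 :=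
  Lgr Lrot46 (Lpe (f640992 IH) (Lpr_ft (K53.f640994 IH) (Lpr_at (f699959 IH) (Lpn K53.v12974))))
theorem f140715 : Led Lsl_gt (LP (LK LD1_c1 LD2_c24 LD3_c29)) = (LP (LK LD1_c2 LD2_c57 LD3_c30)) :=
  Lre_g IH (LK LD1_c1 LD2_c24 LD3_c29) (LK LD1_c2 LD2_c57 LD3_c30) Lrfl Lrfl
def v1714 : LQ := Led Lsl_gf (LP (LK LD1_c1 LD2_c24 LD3_c29))
theorem f500996 : Led Lsl_gf (LP (LK LD1_c1 LD2_c24 LD3_c29)) = v1714 :=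
  Lrfl
def v8046 : LQ := Led Lsl_bt v1714
theorem f669780 : Led Lsl_bt v1714 = v8046 :=
  Lrfl
theorem f669781 : Led Lsl_bf v1714 = v8046 :=
  Lgr Lrot24 (Lpr_bt (f669780 IH) (Lpn v8046))
theorem f140486 : Led Lsl_bt (LP (LK LD1_c1 LD2_c20 LD3_c29)) = (LP (LK LD1_c2 LD2_c48 LD3_c42)) :=
  Lre_b IH (LK LD1_c1 LD2_c20 LD3_c29) (LK LD1_c2 LD2_c48 LD3_c42) Lrfl Lrfl
theorem f140487 : Led Lsl_ct (LP (LK LD1_c15 LD2_c4 LD3_c11)) = (LP (LK LD1_c24 LD2_c53 LD3_c10)) :=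
  Lre_c IH (LK LD1_c15 LD2_c4 LD3_c11) (LK LD1_c24 LD2_c53 LD3_c10) Lrfl Lrfl
def v4814 : LQ := Led Lsl_gf (LP (LK LD1_c2 LD2_c48 LD3_c42))
theorem f639122 : Led Lsl_gf (LP (LK LD1_c2 LD2_c48 LD3_c42)) = v4814 :=
  Lrfl
def v15542 : LQ := Led Lsl_gf (LP (LK LD1_c5 LD2_c41 LD3_c30))
theorem f737919 : Led Lsl_gf (LP (LK LD1_c5 LD2_c41 LD3_c30)) = v15542 :=
  Lrfl
theorem f639781 : Led Lsl_bt (LP (LK LD1_c2 LD2_c48 LD3_c49)) = (LP (LK LD1_c5 LD2_c46 LD3_c5)) :=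
  Lre_b IH (LK LD1_c2 LD2_c48 LD3_c49) (LK LD1_c5 LD2_c46 LD3_c5) Lrfl Lrfl
theorem f639782 : Led Lsl_at (LP (LK LD1_c5 LD2_c46 LD3_c5)) = (LP (LK LD1_c11 LD2_c22 LD3_c24)) :=
  Lre_a IH (LK LD1_c5 LD2_c46 LD3_c5) (LK LD1_c11 LD2_c22 LD3_c24) Lrfl Lrfl
theorem f417060 : Led Lsl_bt (LP (LK LD1_c9 LD2_c5 LD3_c11)) = (LP (LK LD1_c4 LD2_c33 LD3_c51)) :=
  Lre_b IH (LK LD1_c9 LD2_c5 LD3_c11) (LK LD1_c4 LD2_c33 LD3_c51) Lrfl Lrfl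
theorem f639783 : Led Lsl_at (LP (LK LD1_c16 LD2_c57 LD3_c4)) = (LP (LK LD1_c9 LD2_c5 LD3_c11)) :=
  Lre_a IH (LK LD1_c16 LD2_c57 LD3_c4) (LK LD1_c9 LD2_c5 LD3_c11) Lrfl Lrfl
theorem f639784 : Led Lsl_bt (LP (LK LD1_c11 LD2_c22 LD3_c24)) = (LP (LK LD1_c16 LD2_c57 LD3_c4)) :=
  Lgr Lrot62 (Lpe (f639782 IH) (Lpe (f639781 IH) (Lpr_af (K50.f639772 IH) (Lpe (f417060 IH) (Lpe (f639783 IH) (Lpn (LP (LK LD1_c16 LD2_c57 LD3_c4))))))))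
theorem f639792 : Led Lsl_et (LP (LK LD1_c16 LD2_c57 LD3_c4)) = (LP (LK LD1_c9 LD2_c5 LD3_c8)) :=
  Lre_e IH (LK LD1_c16 LD2_c57 LD3_c4) (LK LD1_c9 LD2_c5 LD3_c8) Lrfl Lrfl
theorem f639793 : Led Lsl_bf (LP (LK LD1_c5 LD2_c46 LD3_c2)) = (LP (LK LD1_c9 LD2_c5 LD3_c8)) :=
  Lgr Lrot96 (Lpr_et (K51.f639791 IH) (Lpr_bt (f639784 IH) (Lpr_et (f639792 IH) (Lpn (LP (LK LD1_c9 LD2_c5 LD3_c8))))))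
theorem f640285 : Led Lsl_ff (LP (LK LD1_c9 LD2_c5 LD3_c8)) = (LP (LK LD1_c5 LD2_c45 LD3_c50)) :=
  Lgr Lrot25 (Lpe (f639793 IH) (Lpr_ft (K51.f640145 IH) (Lpr_bt (K53.f640277 IH) (Lpn (LP (LK LD1_c5 LD2_c45 LD3_c50))))))
theorem f640290 : Led Lsl_ft (LP (LK LD1_c9 LD2_c5 LD3_c8)) = (LP (LK LD1_c5 LD2_c45 LD3_c50)) :=
  Lgr Lrot48 (Lpr_ff (f640285 IH) (Lpn (LP (LK LD1_c5 LD2_c45 LD3_c50))))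
theorem f495927 : Led Lsl_at (LP (LK LD1_c5 LD2_c45 LD3_c50)) = (LP (LK LD1_c2 LD2_c48 LD3_c42)) :=
  Lre_a IH (LK LD1_c5 LD2_c45 LD3_c50) (LK LD1_c2 LD2_c48 LD3_c42) Lrfl Lrfl
theorem f640298 : Led Lsl_gt (LP (LK LD1_c9 LD2_c5 LD3_c8)) = v4814 :=
  Lgr Lrot5 (Lpr_ft (f640290 IH) (Lpr_at (f495927 IH) (Lpr_gf (f639122 IH) (Lpn v4814))))
theorem f137367 : Led Lsl_et (LP (LK LD1_c12 LD2_c9 LD3_c20)) = (LP (LK LD1_c6 LD2_c15 LD3_c48)) :=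
  Lre_e IH (LK LD1_c12 LD2_c9 LD3_c20) (LK LD1_c6 LD2_c15 LD3_c48) Lrfl Lrfl
def v12977 : LQ := Led Lsl_gt (LP (LK LD1_c4 LD2_c35 LD3_c57))
theorem f699979 : Led Lsl_gt (LP (LK LD1_c4 LD2_c35 LD3_c57)) = v12977 :=
  Lrfl
def v12980 : LQ := Led Lsl_ft (LP (LK LD1_c4 LD2_c35 LD3_c57))
theorem f699990 : Led Lsl_ft (LP (LK LD1_c4 LD2_c35 LD3_c57)) = v12980 :=
  Lrfl
theorem f699991 : Led Lsl_af v4940 = v12980 :=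
  Lgr Lrot45 (Lpe (f640991 IH) (Lpe (K52.f202145 IH) (Lpr_ft (f699990 IH) (Lpn v12980))))
theorem f699994 : Led Lsl_gt v12977 = v4940 :=
  Lgr Lrot46 (Lpe (f699979 IH) (Lpr_ft (f699990 IH) (Lpe (f699991 IH) (Lpn v4940))))
theorem f739129 : v12977 = (LP (LK LD1_c2 LD2_c22 LD3_c26)) :=
  Lefun (Lecon (Lfl_gt (f699994 IH)) (f739125 IH).symm) (Lfl_gt (f140000 IH))
theorem f739147 : Led Lsl_gf (LP (LK LD1_c6 LD2_c15 LD3_c49)) = (LP (LK LD1_c6 LD2_c12 LD3_c11)) :=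
  Lgr Lrot145 (Lpe (K52.f112368 IH) (Lpr_et (K6.f112367 IH) (Lpe (K4.f112352 IH) (Lpr_dt (K2.f70926 IH) (Lpe (K8.f71120 IH) (Lpe (K7.f37816 IH) (Lpr_et (K52.f71127 IH) (Lpr_gt (f699979 IH) (Lpqs (f739129 IH) (Lpr_ef (K52.f634160 IH) (Lpe (K52.f634162 IH) (Lpn (LP (LK LD1_c6 LD2_c12 LD3_c11))))))))))))))
theorem f112369 : Led Lsl_gt (LP (LK LD1_c6 LD2_c15 LD3_c49)) = (LP (LK LD1_c12 LD2_c9 LD3_c21)) :=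
  Lre_g IH (LK LD1_c6 LD2_c15 LD3_c49) (LK LD1_c12 LD2_c9 LD3_c21) Lrfl Lrfl
theorem f701523 : Led Lsl_ft (LP (LK LD1_c6 LD2_c12 LD3_c11)) = K52.v13174 :=
  Lgr Lrot48 (Lpr_ff (K52.f701522 IH) (Lpn K52.v13174))
theorem f739151 : Led Lsl_af (LP (LK LD1_c12 LD2_c9 LD3_c21)) = K52.v13174 :=
  Lgr Lrot31 (Lpe (f112369 IH) (Lpr_gf (f739147 IH) (Lpr_ft (f701523 IH) (Lpn K52.v13174))))
theorem f739157 : Led Lsl_ft (LP (LK LD1_c12 LD2_c9 LD3_c21)) = (LP (LK LD1_c11 LD2_c34 LD3_c58)) :=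
  Lgr Lrot101 (Lpr_af (f739151 IH) (Lpe (f701523 IH) (Lpr_af (K52.f714916 IH) (Lpn (LP (LK LD1_c11 LD2_c34 LD3_c58))))))
theorem f510354 : Led Lsl_bf (LP (LK LD1_c3 LD2_c20 LD3_c43)) = (LP (LK LD1_c4 LD2_c49 LD3_c14)) :=
  Lgr Lrot61 (Lpr_ft (K51.f510233 IH) (Lpr_bt (f510166 IH) (Lpr_ft (K50.f510346 IH) (Lpn (LP (LK LD1_c4 LD2_c49 LD3_c14))))))
theorem f510262 : Led Lsl_et (LP (LK LD1_c3 LD2_c20 LD3_c43)) = (LP (LK LD1_c6 LD2_c45 LD3_c15)) :=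
  Lre_e IH (LK LD1_c3 LD2_c20 LD3_c43) (LK LD1_c6 LD2_c45 LD3_c15) Lrfl Lrfl
theorem f705587 : Led Lsl_bt (LP (LK LD1_c6 LD2_c45 LD3_c15)) = K52.v13863 :=
  Lgr Lrot119 (Lpe (f510262 IH) (Lpr_bf (f510354 IH) (Lpr_ef (K52.f705585 IH) (Lpn K52.v13863))))
theorem f714918 : Led Lsl_bf (LP (LK LD1_c12 LD2_c23 LD3_c32)) = (LP (LK LD1_c11 LD2_c34 LD3_c58)) :=
  Lgr Lrot93 (Lpe (K51.f707248 IH) (Lpr_bt (f705587 IH) (Lpr_dt (K52.f714915 IH) (Lpn (LP (LK LD1_c11 LD2_c34 LD3_c58))))))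
theorem f22883 : Led Lsl_ct (LP (LK LD1_c12 LD2_c55 LD3_c1)) = (LP (LK LD1_c6 LD2_c45 LD3_c23)) :=
  Lre_c IH (LK LD1_c12 LD2_c55 LD3_c1) (LK LD1_c6 LD2_c45 LD3_c23) Lrfl Lrfl
theorem f707246 : Led Lsl_af (LP (LK LD1_c12 LD2_c55 LD3_c1)) = (LP (LK LD1_c21 LD2_c30 LD3_c32)) :=
  Lgr Lrot68 (Lpr_ct (f22883 IH) (Lpr_at (K51.f707237 IH) (Lpr_ct (K52.f618132 IH) (Lpn (LP (LK LD1_c21 LD2_c30 LD3_c32))))))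
theorem f710344 : Led Lsl_ft (LP (LK LD1_c20 LD2_c9 LD3_c25)) = (LP (LK LD1_c21 LD2_c30 LD3_c32)) :=
  Lgr Lrot2 (Lpr_gt (K51.f710342 IH) (Lpr_gt (K51.f22885 IH) (Lpr_af (f707246 IH) (Lpn (LP (LK LD1_c21 LD2_c30 LD3_c32))))))
theorem f618133 : Led Lsl_ct (LP (LK LD1_c21 LD2_c30 LD3_c32)) = (LP (LK LD1_c12 LD2_c23 LD3_c32)) :=
  Lre_c IH (LK LD1_c21 LD2_c30 LD3_c32) (LK LD1_c12 LD2_c23 LD3_c32) Lrfl Lrfl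
theorem f714742 : Led Lsl_ff (LP (LK LD1_c11 LD2_c14 LD3_c24)) = (LP (LK LD1_c12 LD2_c23 LD3_c32)) :=
  Lgr Lrot23 (Lpr_ct (K51.f381348 IH) (Lpr_ft (f710344 IH) (Lpr_ct (f618133 IH) (Lpn (LP (LK LD1_c12 LD2_c23 LD3_c32))))))
theorem f739159 : Led Lsl_bf (LP (LK LD1_c12 LD2_c9 LD3_c21)) = (LP (LK LD1_c11 LD2_c14 LD3_c24)) :=
  Lgr Lrot61 (Lpr_ft (f739157 IH) (Lpe (f714918 IH) (Lpe (f714742 IH) (Lpn (LP (LK LD1_c11 LD2_c14 LD3_c24))))))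
theorem f438249 : Led Lsl_bt (LP (LK LD1_c12 LD2_c9 LD3_c3)) = (LP (LK LD1_c6 LD2_c15 LD3_c49)) :=
  Lre_b IH (LK LD1_c12 LD2_c9 LD3_c3) (LK LD1_c6 LD2_c15 LD3_c49) Lrfl Lrfl
theorem f589489 : Led Lsl_ct (LP (LK LD1_c11 LD2_c11 LD3_c31)) = (LP (LK LD1_c20 LD2_c6 LD3_c10)) :=
  Lre_c IH (LK LD1_c11 LD2_c11 LD3_c31) (LK LD1_c20 LD2_c6 LD3_c10) Lrfl Lrfl
theorem f739163 : Led Lsl_gf (LP (LK LD1_c11 LD2_c11 LD3_c42)) = (LP (LK LD1_c20 LD2_c6 LD3_c10)) :=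
  Lgr Lrot129 (Lpe (K52.f595820 IH) (Lpr_bt (f438249 IH) (Lpr_gt (f112369 IH) (Lpr_bf (f739159 IH) (Lpr_ct (K51.f381348 IH) (Lpr_gt (K51.f710342 IH) (Lpe (K51.f710336 IH) (Lpr_bt (K43.f557228 IH) (Lpr_gt (K51.f589487 IH) (Lpr_ct (f589489 IH) (Lpn (LP (LK LD1_c20 LD2_c6 LD3_c10)))))))))))))
theorem f595842 : Led Lsl_cf (LP (LK LD1_c12 LD2_c9 LD3_c3)) = (LP (LK LD1_c11 LD2_c11 LD3_c42)) :=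
  Lgr Lrot11 (Lpr_ct (K52.f595820 IH) (Lpn (LP (LK LD1_c11 LD2_c11 LD3_c42))))
theorem f428756 : Led Lsl_ct (LP (LK LD1_c5 LD2_c51 LD3_c18)) = (LP (LK LD1_c11 LD2_c30 LD3_c3)) :=
  Lre_c IH (LK LD1_c5 LD2_c51 LD3_c18) (LK LD1_c11 LD2_c30 LD3_c3) Lrfl Lrfl
theorem f739165 : Led Lsl_gf (LP (LK LD1_c5 LD2_c51 LD3_c22)) = (LP (LK LD1_c11 LD2_c30 LD3_c3)) :=
  Lgr Lrot104 (Lpr_ct (K4.f112326 IH) (Lpe (K52.f112134 IH) (Lpr_cf (f595842 IH) (Lpr_gf (f739163 IH) (Lpe (f589489 IH) (Lpe (K51.f589487 IH) (Lpr_df (K51.f589532 IH) (Lpr_gt (K52.f428753 IH) (Lpr_ct (f428756 IH) (Lpn (LP (LK LD1_c11 LD2_c30 LD3_c3))))))))))))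
theorem f83784 : Led Lsl_bt (LP (LK LD1_c6 LD2_c15 LD3_c35)) = (LP (LK LD1_c3 LD2_c4 LD3_c60)) :=
  Lre_b IH (LK LD1_c6 LD2_c15 LD3_c35) (LK LD1_c3 LD2_c4 LD3_c60) Lrfl Lrfl
theorem f83787 : Led Lsl_gt (LP (LK LD1_c3 LD2_c4 LD3_c60)) = (LP (LK LD1_c6 LD2_c15 LD3_c48)) :=
  Lre_g IH (LK LD1_c3 LD2_c4 LD3_c60) (LK LD1_c6 LD2_c15 LD3_c48) Lrfl Lrfl
theorem f739173 : (LP (LK LD1_c6 LD2_c15 LD3_c48)) = K52.v13170 :=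
  (Llr Lrot164 (Lpe (f83787 IH) (Lpe (f83784 IH) (Lpe (K4.f112126 IH) (Lpr_gf (f739165 IH) (Lpe (f428756 IH) (Lpe (K52.f428753 IH) (Lpe (K51.f66296 IH) (Lpe (K6.f66299 IH) (Lpe (K51.f710346 IH) (Lpe (K51.f496820 IH) (Lpqs (K51.f706306 IH) (Lpr_bt (K52.f701507 IH) (Lpn K52.v13170)))))))))))))).symm
theorem f739205 : Led Lsl_bf (LP (LK LD1_c12 LD2_c9 LD3_c20)) = (LP (LK LD1_c11 LD2_c22 LD3_c23)) :=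
  Lgr Lrot96 (Lpr_et (f137367 IH) (Lpqs (f739173 IH) (Lpe (K52.f701501 IH) (Lpe (K51.f646801 IH) (Lpn (LP (LK LD1_c11 LD2_c22 LD3_c23)))))))
theorem f614364 : Led Lsl_df (LP (LK LD1_c4 LD2_c35 LD3_c50)) = (LP (LK LD1_c9 LD2_c2 LD3_c25)) :=
  Lgr Lrot12 (Lpr_bt (K53.f149141 IH) (Lpr_dt (f614362 IH) (Lpe (K38.f181280 IH) (Lpn (LP (LK LD1_c9 LD2_c2 LD3_c25))))))
theorem f423479 : Led Lsl_at (LP (LK LD1_c5 LD2_c41 LD3_c30)) = (LP (LK LD1_c9 LD2_c2 LD3_c25)) :=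
  Lgr Lrot100 (Lpr_af (K38.f423475 IH) (Lpn (LP (LK LD1_c9 LD2_c2 LD3_c25))))
theorem f614366 : Led Lsl_dt (LP (LK LD1_c2 LD2_c53 LD3_c15)) = (LP (LK LD1_c5 LD2_c41 LD3_c30)) :=
  Lgr Lrot44 (Lpe (K7.f149110 IH) (Lpr_df (f614364 IH) (Lpe (f423479 IH) (Lpn (LP (LK LD1_c5 LD2_c41 LD3_c30))))))
theorem f737920 : Led Lsl_dt (LP (LK LD1_c12 LD2_c9 LD3_c20)) = v15542 :=
  Lgr Lrot136 (Lpr_et (f137367 IH) (Lpe (f83787 IH) (Lpe (K8.f137322 IH) (Lpr_dt (K6.f83789 IH) (Lpe (K4.f58961 IH) (Lpr_df (K52.f202115 IH) (Lpe (K4.f68997 IH) (Lpe (K7.f149109 IH) (Lpr_dt (f614366 IH) (Lpr_gf (f737919 IH) (Lpn v15542)))))))))))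
theorem f739213 : v15542 = (LP (LK LD1_c9 LD2_c5 LD3_c8)) :=
  (Llr Lrot79 (Lpe (f737920 IH) (Lpr_bf (f739205 IH) (Lpe (K51.f639801 IH) (Lpr_bf (f639793 IH) (Lpn (LP (LK LD1_c9 LD2_c5 LD3_c8)))))))).symm
theorem f739216 : (LP (LK LD1_c5 LD2_c41 LD3_c30)) = v4814 :=
  Lefun (Lecon (Lfl_gf (f737919 IH)) (f739213 IH)) (f640298 IH)
theorem f423520 : Led Lsl_bt (LP (LK LD1_c11 LD2_c13 LD3_c6)) = (LP (LK LD1_c5 LD2_c41 LD3_c30)) :=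
  Lre_b IH (LK LD1_c11 LD2_c13 LD3_c6) (LK LD1_c5 LD2_c41 LD3_c30) Lrfl Lrfl
theorem f423521 : Led Lsl_ct (LP (LK LD1_c11 LD2_c13 LD3_c6)) = (LP (LK LD1_c20 LD2_c7 LD3_c44)) :=
  Lre_c IH (LK LD1_c11 LD2_c13 LD3_c6) (LK LD1_c20 LD2_c7 LD3_c44) Lrfl Lrfl
theorem f739221 : Led Lsl_gt (LP (LK LD1_c24 LD2_c53 LD3_c10)) = (LP (LK LD1_c20 LD2_c7 LD3_c44)) :=
  Lgr Lrot149 (Lpe (f140487 IH) (Lpe (K45.f140263 IH) (Lpe (K45.f40239 IH) (Lpe (K45.f140256 IH) (Lpe (K9.f140247 IH) (Lpe (K9.f140246 IH) (Lpr_bt (f140486 IH) (Lpr_gf (f639122 IH) (Lpq (f739216 IH) (Lpe (f423520 IH) (Lpr_ct (f423521 IH) (Lpn (LP (LK LD1_c20 LD2_c7 LD3_c44))))))))))))))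
theorem f140858 : Led Lsl_dt (LP (LK LD1_c7 LD2_c59 LD3_c44)) = (LP (LK LD1_c3 LD2_c59 LD3_c52)) :=
  Lre_d IH (LK LD1_c7 LD2_c59 LD3_c44) (LK LD1_c3 LD2_c59 LD3_c52) Lrfl Lrfl
theorem f40506 : Led Lsl_ct (LP (LK LD1_c8 LD2_c0 LD3_c23)) = (LP (LK LD1_c15 LD2_c5 LD3_c4)) :=
  Lre_c IH (LK LD1_c8 LD2_c0 LD3_c23) (LK LD1_c15 LD2_c5 LD3_c4) Lrfl Lrfl
theorem f423518 : Led Lsl_ct (LP (LK LD1_c20 LD2_c7 LD3_c44)) = (LP (LK LD1_c11 LD2_c13 LD3_c6)) :=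
  Lre_c IH (LK LD1_c20 LD2_c7 LD3_c44) (LK LD1_c11 LD2_c13 LD3_c6) Lrfl Lrfl
theorem f614350 : Led Lsl_dt (LP (LK LD1_c5 LD2_c53 LD3_c43)) = (LP (LK LD1_c11 LD2_c13 LD3_c6)) :=
  Lgr Lrot44 (Lpe (K43.f208474 IH) (Lpr_df (K52.f614348 IH) (Lpe (K38.f423482 IH) (Lpn (LP (LK LD1_c11 LD2_c13 LD3_c6))))))
theorem f156773 : Led Lsl_ct (LP (LK LD1_c11 LD2_c33 LD3_c23)) = (LP (LK LD1_c5 LD2_c53 LD3_c43)) :=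
  Lre_c IH (LK LD1_c11 LD2_c33 LD3_c23) (LK LD1_c5 LD2_c53 LD3_c43) Lrfl Lrfl
theorem f739223 : Led Lsl_gt (LP (LK LD1_c15 LD2_c5 LD3_c4)) = (LP (LK LD1_c11 LD2_c33 LD3_c23)) :=
  Lgr Lrot150 (Lpe (f40506 IH) (Lpe (K9.f40494 IH) (Lpe (f140858 IH) (Lpr_gt (K45.f140263 IH) (Lpr_ct (f140487 IH) (Lpr_gt (f739221 IH) (Lpr_ct (f423518 IH) (Lpe (f614350 IH) (Lpe (f156773 IH) (Lpn (LP (LK LD1_c11 LD2_c33 LD3_c23))))))))))))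
theorem f140251 : Led Lsl_bt (LP (LK LD1_c0 LD2_c38 LD3_c57)) = (LP (LK LD1_c1 LD2_c24 LD3_c29)) :=
  Lre_b IH (LK LD1_c0 LD2_c38 LD3_c57) (LK LD1_c1 LD2_c24 LD3_c29) Lrfl Lrfl
theorem f739225 : v8046 = (LP (LK LD1_c5 LD2_c53 LD3_c43)) :=
  (Llr Lrot156 (Lpe (f669781 IH) (Lpe (f500996 IH) (Lpe (f140251 IH) (Lpr_ct (K9.f140230 IH) (Lpr_gt (K9.f140231 IH) (Lpe (K9.f40489 IH) (Lpr_bt (K9.f40486 IH) (Lpr_gt (K9.f40494 IH) (Lpr_ct (f40506 IH) (Lpr_gt (f739223 IH) (Lpe (K43.f156774 IH) (Lpn (LP (LK LD1_c5 LD2_c53 LD3_c43))))))))))))))).symm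
theorem f739226 : v1714 = (LP (LK LD1_c2 LD2_c53 LD3_c15)) :=
  Lefun (Lecon (Lfl_bf (f669781 IH)) (f739225 IH)) (K53.f149135 IH)
theorem f739227 : (LP (LK LD1_c1 LD2_c24 LD3_c29)) = v4941 :=
  Lefun (Lecon (Lfl_gf (f500996 IH)) (f739226 IH)) (f640992 IH)
theorem f739236 : K53.v12974 = (LP (LK LD1_c2 LD2_c57 LD3_c30)) :=
  Lefun (Lecon (f699962 IH) (f739227 IH).symm) (f140715 IH)
def v5088 : LQ := Led Lsl_dt (LP (LK LD1_c2 LD2_c57 LD3_c30))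
theorem f645886 : Led Lsl_dt (LP (LK LD1_c2 LD2_c57 LD3_c30)) = v5088 :=
  Lrfl
theorem f739149 : Led Lsl_gt (LP (LK LD1_c11 LD2_c34 LD3_c60)) = (LP (LK LD1_c6 LD2_c12 LD3_c11)) :=
  Lgr Lrot5 (Lpr_ft (K6.f137377 IH) (Lpr_at (K6.f137379 IH) (Lpr_gf (f739147 IH) (Lpn (LP (LK LD1_c6 LD2_c12 LD3_c11))))))
theorem f137362 : Led Lsl_gf (LP (LK LD1_c5 LD2_c54 LD3_c39)) = (LP (LK LD1_c6 LD2_c15 LD3_c48)) :=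
  Lgr Lrot76 (Lpr_af (K6.f137353 IH) (Lpe (K6.f137323 IH) (Lpr_gt (f83787 IH) (Lpn (LP (LK LD1_c6 LD2_c15 LD3_c48))))))
theorem f140588 : Led Lsl_gt (LP (LK LD1_c2 LD2_c48 LD3_c42)) = (LP (LK LD1_c5 LD2_c45 LD3_c49)) :=
  Lre_g IH (LK LD1_c2 LD2_c48 LD3_c42) (LK LD1_c5 LD2_c45 LD3_c49) Lrfl Lrfl
theorem f631710 : Led Lsl_at (LP (LK LD1_c4 LD2_c33 LD3_c48)) = (LP (LK LD1_c9 LD2_c5 LD3_c8)) :=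
  Lre_a IH (LK LD1_c4 LD2_c33 LD3_c48) (LK LD1_c9 LD2_c5 LD3_c8) Lrfl Lrfl
theorem f640432 : Led Lsl_gt (LP (LK LD1_c5 LD2_c45 LD3_c49)) = (LP (LK LD1_c9 LD2_c5 LD3_c8)) :=
  Lgr Lrot46 (Lpe (f140588 IH) (Lpr_ft (K53.f639131 IH) (Lpqs (K53.f639221 IH) (Lpr_at (f631710 IH) (Lpn (LP (LK LD1_c9 LD2_c5 LD3_c8)))))))
theorem f739339 : v5088 = (LP (LK LD1_c5 LD2_c45 LD3_c49)) :=
  (Llr Lrot136 (Lpe (f645886 IH) (Lpq (f739236 IH) (Lpqs (f739140 IH) (Lpe (f705577 IH) (Lpe (f140000 IH) (Lpr_ef (K52.f634160 IH) (Lpe (K52.f634162 IH) (Lpe (f739149 IH) (Lpe (K6.f137355 IH) (Lpr_gf (f137362 IH) (Lpe (f137367 IH) (Lpr_dt (f737920 IH) (Lpqs (f739213 IH) (Lpe (f640432 IH) (Lpn (LP (LK LD1_c5 LD2_c45 LD3_c49)))))))))))))))))).symm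
theorem f494515 : Led Lsl_at (LP (LK LD1_c2 LD2_c16 LD3_c34)) = (LP (LK LD1_c4 LD2_c39 LD3_c9)) :=
  Lre_a IH (LK LD1_c2 LD2_c16 LD3_c34) (LK LD1_c4 LD2_c39 LD3_c9) Lrfl Lrfl
theorem f645806 : Led Lsl_gf (LP (LK LD1_c4 LD2_c39 LD3_c9)) = (LP (LK LD1_c2 LD2_c57 LD3_c30)) :=
  Lgr Lrot76 (Lpe (f494515 IH) (Lpq (K53.f645304 IH) (Lpe (K53.f501015 IH) (Lpr_gt (f140715 IH) (Lpn (LP (LK LD1_c2 LD2_c57 LD3_c30)))))))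
def v13087 : LQ := Led Lsl_ct (LP (LK LD1_c4 LD2_c39 LD3_c9))
theorem f701006 : Led Lsl_ct (LP (LK LD1_c4 LD2_c39 LD3_c9)) = v13087 :=
  Lrfl
def v5091 : LQ := Led Lsl_ct (LP (LK LD1_c2 LD2_c57 LD3_c31))
theorem f645895 : Led Lsl_ct (LP (LK LD1_c2 LD2_c57 LD3_c31)) = v5091 :=
  Lrfl
theorem f645897 : Led Lsl_cf (LP (LK LD1_c2 LD2_c57 LD3_c31)) = v5091 :=
  Lgr Lrot11 (Lpr_ct (f645895 IH) (Lpn v5091))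
theorem f701009 : Led Lsl_ff v5091 = v13087 :=
  Lgr Lrot23 (Lpe (f645897 IH) (Lpe (K53.f645781 IH) (Lpr_ct (f701006 IH) (Lpn v13087))))
def v1715 : LQ := Led Lsl_ct (LP (LK LD1_c1 LD2_c24 LD3_c29))
theorem f501004 : Led Lsl_ct (LP (LK LD1_c1 LD2_c24 LD3_c29)) = v1715 :=
  Lrfl
theorem f501005 : Led Lsl_cf (LP (LK LD1_c1 LD2_c24 LD3_c29)) = v1715 :=
  Lgr Lrot11 (Lpr_ct (f501004 IH) (Lpn v1715))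
theorem f645896 : Led Lsl_af v1715 = v5091 :=
  Lgr Lrot68 (Lpe (f501005 IH) (Lpr_at (K53.f452891 IH) (Lpr_ct (f645895 IH) (Lpn v5091))))
def v8051 : LQ := Led Lsl_gf v1715
theorem f669789 : Led Lsl_gf v1715 = v8051 :=
  Lrfl
theorem f701012 : Led Lsl_gf v8051 = v13087 :=
  Lgr Lrot47 (Lpe (f669789 IH) (Lpr_af (f645896 IH) (Lpr_ff (f701009 IH) (Lpn v13087))))
theorem f639802 : Led Lsl_ct (LP (LK LD1_c9 LD2_c5 LD3_c8)) = (LP (LK LD1_c16 LD2_c57 LD3_c3)) :=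
  Lre_c IH (LK LD1_c9 LD2_c5 LD3_c8) (LK LD1_c16 LD2_c57 LD3_c3) Lrfl Lrfl
theorem f424446 : Led Lsl_bt (LP (LK LD1_c11 LD2_c10 LD3_c57)) = (LP (LK LD1_c5 LD2_c40 LD3_c3)) :=
  Lre_b IH (LK LD1_c11 LD2_c10 LD3_c57) (LK LD1_c5 LD2_c40 LD3_c3) Lrfl Lrfl
theorem f424441 : Led Lsl_et (LP (LK LD1_c11 LD2_c10 LD3_c57)) = (LP (LK LD1_c5 LD2_c40 LD3_c1)) :=
  Lre_e IH (LK LD1_c11 LD2_c10 LD3_c57) (LK LD1_c5 LD2_c40 LD3_c1) Lrfl Lrfl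
theorem f385812 : Led Lsl_et (LP (LK LD1_c5 LD2_c45 LD3_c10)) = (LP (LK LD1_c11 LD2_c20 LD3_c50)) :=
  Lre_e IH (LK LD1_c5 LD2_c45 LD3_c10) (LK LD1_c11 LD2_c20 LD3_c50) Lrfl Lrfl
theorem f424442 : Led Lsl_cf (LP (LK LD1_c11 LD2_c10 LD3_c57)) = (LP (LK LD1_c11 LD2_c20 LD3_c50)) :=
  Lgr Lrot39 (Lpr_et (f424441 IH) (Lpr_ct (K36.f424386 IH) (Lpr_et (f385812 IH) (Lpn (LP (LK LD1_c11 LD2_c20 LD3_c50))))))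
theorem f424448 : Led Lsl_ct (LP (LK LD1_c11 LD2_c10 LD3_c57)) = (LP (LK LD1_c11 LD2_c20 LD3_c50)) :=
  Lgr Lrot59 (Lpr_cf (f424442 IH) (Lpn (LP (LK LD1_c11 LD2_c20 LD3_c50))))
theorem f444612 : Led Lsl_ct (LP (LK LD1_c2 LD2_c48 LD3_c42)) = (LP (LK LD1_c5 LD2_c45 LD3_c51)) :=
  Lre_c IH (LK LD1_c2 LD2_c48 LD3_c42) (LK LD1_c5 LD2_c45 LD3_c51) Lrfl Lrfl
theorem f706120 : Led Lsl_gt (LP (LK LD1_c11 LD2_c20 LD3_c50)) = (LP (LK LD1_c5 LD2_c45 LD3_c51)) :=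
  Lgr Lrot65 (Lpe (f424448 IH) (Lpr_bt (f424446 IH) (Lpr_gf (K51.f706118 IH) (Lpe (K51.f413490 IH) (Lpr_ct (K35.f444592 IH) (Lpe (K35.f444609 IH) (Lpe (K35.f140578 IH) (Lpe (K17.f140577 IH) (Lpe (K53.f444611 IH) (Lpr_ct (f444612 IH) (Lpn (LP (LK LD1_c5 LD2_c45 LD3_c51)))))))))))))
theorem f640314 : Led Lsl_at (LP (LK LD1_c11 LD2_c22 LD3_c2)) = (LP (LK LD1_c5 LD2_c45 LD3_c51)) :=
  Lre_a IH (LK LD1_c11 LD2_c22 LD3_c2) (LK LD1_c5 LD2_c45 LD3_c51) Lrfl Lrfl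
theorem f639137 : Led Lsl_ct (LP (LK LD1_c11 LD2_c22 LD3_c2)) = (LP (LK LD1_c5 LD2_c45 LD3_c50)) :=
  Lre_c IH (LK LD1_c11 LD2_c22 LD3_c2) (LK LD1_c5 LD2_c45 LD3_c50) Lrfl Lrfl
theorem f640287 : Led Lsl_ft (LP (LK LD1_c16 LD2_c57 LD3_c3)) = (LP (LK LD1_c11 LD2_c22 LD3_c2)) :=
  Lgr Lrot4 (Lpe (f639802 IH) (Lpr_ff (f640285 IH) (Lpe (f639137 IH) (Lpn (LP (LK LD1_c11 LD2_c22 LD3_c2))))))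
theorem f707169 : Led Lsl_gf (LP (LK LD1_c11 LD2_c20 LD3_c50)) = (LP (LK LD1_c16 LD2_c57 LD3_c3)) :=
  Lgr Lrot47 (Lpr_gt (f706120 IH) (Lpe (f640314 IH) (Lpe (f640287 IH) (Lpn (LP (LK LD1_c16 LD2_c57 LD3_c3))))))
theorem f424450 : Led Lsl_bt (LP (LK LD1_c5 LD2_c40 LD3_c3)) = (LP (LK LD1_c11 LD2_c10 LD3_c57)) :=
  Lre_b IH (LK LD1_c5 LD2_c40 LD3_c3) (LK LD1_c11 LD2_c10 LD3_c57) Lrfl Lrfl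
theorem f203186 : Led Lsl_bt (LP (LK LD1_c5 LD2_c50 LD3_c10)) = (LP (LK LD1_c2 LD2_c51 LD3_c17)) :=
  Lre_b IH (LK LD1_c5 LD2_c50 LD3_c10) (LK LD1_c2 LD2_c51 LD3_c17) Lrfl Lrfl
theorem f606377 : Led Lsl_dt (LP (LK LD1_c11 LD2_c10 LD3_c57)) = (LP (LK LD1_c5 LD2_c50 LD3_c10)) :=
  Lgr Lrot79 (Lpe (f424450 IH) (Lpr_df (K50.f606374 IH) (Lpe (f203186 IH) (Lpn (LP (LK LD1_c5 LD2_c50 LD3_c10))))))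
theorem f26502 : Led Lsl_et (LP (LK LD1_c5 LD2_c50 LD3_c10)) = (LP (LK LD1_c2 LD2_c51 LD3_c15)) :=
  Lre_e IH (LK LD1_c5 LD2_c50 LD3_c10) (LK LD1_c2 LD2_c51 LD3_c15) Lrfl Lrfl
theorem f645170 : Led Lsl_cf (LP (LK LD1_c5 LD2_c50 LD3_c10)) = v5068 :=
  Lgr Lrot39 (Lpr_et (f26502 IH) (Lpe (K6.f26490 IH) (Lpr_et (f645169 IH) (Lpn v5068))))
theorem f739348 : v8051 = v5068 :=
  (Llr Lrot187 (Lpr_gf (f701012 IH) (Lpe (f701006 IH) (Lpr_gf (f645806 IH) (Lpr_dt (f645886 IH) (Lpqs (f739339 IH) (Lpr_gt (f640432 IH) (Lpr_ct (f639802 IH) (Lpe (f707169 IH) (Lpe (f424442 IH) (Lpr_dt (f606377 IH) (Lpr_cf (f645170 IH) (Lpn v5068))))))))))))).symm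
theorem f739349 : Led Lsl_gf (LP (LK LD1_c5 LD2_c50 LD3_c10)) = (LP (LK LD1_c9 LD2_c50 LD3_c26)) :=
  Lgr Lrot181 (Lpr_ct (f645172 IH) (Lpq (f739348 IH) (Lpe (f669789 IH) (Lpe (f501004 IH) (Lpr_bt (K53.f444598 IH) (Lpr_gt (K31.f27121 IH) (Lpe (K31.f415837 IH) (Lpr_ct (K31.f415836 IH) (Lpr_gt (K52.f501010 IH) (Lpe (K52.f501011 IH) (Lpe (K53.f719432 IH) (Lpn (LP (LK LD1_c9 LD2_c50 LD3_c26))))))))))))))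
theorem f739350 : Led Lsl_gt (LP (LK LD1_c9 LD2_c50 LD3_c26)) = (LP (LK LD1_c5 LD2_c50 LD3_c10)) :=
  Leop (Lpr_gf (f739349 IH) (Lpn (LP (LK LD1_c9 LD2_c50 LD3_c26))))
theorem seed_923 : LEOK LG_g (LK LD1_c9 LD2_c50 LD3_c26) :=
  Leoe_g (LK LD1_c9 LD2_c50 LD3_c26) (f739350 IH)
def v4870 : LQ := Led Lsl_gf (LP (LK LD1_c2 LD2_c51 LD3_c17))
theorem f640651 : Led Lsl_gf (LP (LK LD1_c2 LD2_c51 LD3_c17)) = v4870 :=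
  Lrfl
theorem f444596 : Led Lsl_bt (LP (LK LD1_c1 LD2_c56 LD3_c36)) = (LP (LK LD1_c3 LD2_c59 LD3_c56)) :=
  Lre_b IH (LK LD1_c1 LD2_c56 LD3_c36) (LK LD1_c3 LD2_c59 LD3_c56) Lrfl Lrfl
theorem f739351 : v4870 = (LP (LK LD1_c3 LD2_c59 LD3_c56)) :=
  (Llr Lrot124 (Lpe (f640651 IH) (Lpe (f203186 IH) (Lpr_ct (f645172 IH) (Lpq (f739348 IH) (Lpe (f669789 IH) (Lpe (f501004 IH) (Lpr_bt (K53.f444598 IH) (Lpr_gt (K31.f27121 IH) (Lpr_ct (K24.f140706 IH) (Lpr_gt (K32.f25586 IH) (Lpe (K32.f444581 IH) (Lpr_bt (f444596 IH) (Lpn (LP (LK LD1_c3 LD2_c59 LD3_c56)))))))))))))))).symm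
theorem f739353 : Led Lsl_gt (LP (LK LD1_c3 LD2_c59 LD3_c56)) = (LP (LK LD1_c2 LD2_c51 LD3_c17)) :=
  Leop (Lpr_gf (f640651 IH) (Lpqs (f739351 IH) (Lpn (LP (LK LD1_c3 LD2_c59 LD3_c56)))))
theorem seed_924 : LEOK LG_g (LK LD1_c3 LD2_c59 LD3_c56) :=
  Leoe_g (LK LD1_c3 LD2_c59 LD3_c56) (f739353 IH)
def v12377 : LQ := Led Lsl_ct (LP (LK LD1_c4 LD2_c7 LD3_c25))
theorem f691793 : Led Lsl_ct (LP (LK LD1_c4 LD2_c7 LD3_c25)) = v12377 :=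
  Lrfl
theorem f27122 : Led Lsl_dt (LP (LK LD1_c1 LD2_c26 LD3_c13)) = (LP (LK LD1_c3 LD2_c0 LD3_c27)) :=
  Lre_d IH (LK LD1_c1 LD2_c26 LD3_c13) (LK LD1_c3 LD2_c0 LD3_c27) Lrfl Lrfl
theorem f9107 : Led Lsl_ct (LP (LK LD1_c6 LD2_c8 LD3_c25)) = (LP (LK LD1_c3 LD2_c0 LD3_c27)) :=
  Lre_c IH (LK LD1_c6 LD2_c8 LD3_c25) (LK LD1_c3 LD2_c0 LD3_c27) Lrfl Lrfl
theorem f691797 : Led Lsl_gf (LP (LK LD1_c6 LD2_c8 LD3_c25)) = v12377 :=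
  Lgr Lrot104 (Lpr_ct (f9107 IH) (Lpe (f27122 IH) (Lpr_cf (K46.f58482 IH) (Lpe (K24.f415335 IH) (Lpr_cf (K32.f416055 IH) (Lpe (K31.f73607 IH) (Lpe (K32.f79671 IH) (Lpr_gt (K51.f55788 IH) (Lpr_ct (f691793 IH) (Lpn v12377))))))))))
theorem f75943 : Led Lsl_bt (LP (LK LD1_c3 LD2_c0 LD3_c27)) = (LP (LK LD1_c6 LD2_c8 LD3_c9)) :=
  Lre_b IH (LK LD1_c3 LD2_c0 LD3_c27) (LK LD1_c6 LD2_c8 LD3_c9) Lrfl Lrfl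
theorem f75941 : Led Lsl_ct (LP (LK LD1_c6 LD2_c1 LD3_c14)) = (LP (LK LD1_c11 LD2_c47 LD3_c6)) :=
  Lre_c IH (LK LD1_c6 LD2_c1 LD3_c14) (LK LD1_c11 LD2_c47 LD3_c6) Lrfl Lrfl
def v14606 : LQ := Led Lsl_ft (LP (LK LD1_c5 LD2_c14 LD3_c40))
theorem f723981 : Led Lsl_ft (LP (LK LD1_c5 LD2_c14 LD3_c40)) = v14606 :=
  Lrfl
theorem f723983 : Led Lsl_ff (LP (LK LD1_c5 LD2_c14 LD3_c40)) = v14606 :=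
  Lgr Lrot3 (Lpr_ft (f723981 IH) (Lpn v14606))
def v14395 : LQ := Led Lsl_ft (LP (LK LD1_c5 LD2_c8 LD3_c14))
theorem f722321 : Led Lsl_ft (LP (LK LD1_c5 LD2_c8 LD3_c14)) = v14395 :=
  Lrfl
theorem f722322 : Led Lsl_af K51.v12342 = v14395 :=
  Lgr Lrot45 (Lpr_ft (K52.f691792 IH) (Lpr_at (K52.f707156 IH) (Lpr_ft (f722321 IH) (Lpn v14395))))
def v14602 : LQ := Led Lsl_at (LP (LK LD1_c5 LD2_c14 LD3_c40))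
theorem f723968 : Led Lsl_at (LP (LK LD1_c5 LD2_c14 LD3_c40)) = v14602 :=
  Lrfl
theorem f723969 : Led Lsl_af (LP (LK LD1_c5 LD2_c14 LD3_c40)) = v14602 :=
  Lgr Lrot0 (Lpr_at (f723968 IH) (Lpn v14602))
theorem f180666 : Led Lsl_gt (LP (LK LD1_c2 LD2_c34 LD3_c9)) = (LP (LK LD1_c5 LD2_c14 LD3_c40)) :=
  Lre_g IH (LK LD1_c2 LD2_c34 LD3_c9) (LK LD1_c5 LD2_c14 LD3_c40) Lrfl Lrfl
theorem f723970 : Led Lsl_ft (LP (LK LD1_c5 LD2_c14 LD3_c41)) = v14602 :=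
  Lgr Lrot2 (Lpr_gt (K53.f180664 IH) (Lpr_gt (f180666 IH) (Lpr_af (f723969 IH) (Lpn v14602))))
theorem f723971 : Led Lsl_ff (LP (LK LD1_c5 LD2_c14 LD3_c41)) = v14602 :=
  Lgr Lrot3 (Lpr_ft (f723970 IH) (Lpn v14602))
theorem f723984 : Led Lsl_at (LP (LK LD1_c5 LD2_c14 LD3_c41)) = v14606 :=
  Lgr Lrot66 (Lpr_ff (f723971 IH) (Lpe (f723968 IH) (Lpr_ff (f723983 IH) (Lpn v14606))))
theorem f723988 : Led Lsl_df (LP (LK LD1_c5 LD2_c14 LD3_c41)) = K53.v14608 :=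
  Lgr Lrot38 (Lpr_dt (K53.f723987 IH) (Lpn K53.v14608))
theorem f722325 : Led Lsl_ff (LP (LK LD1_c5 LD2_c8 LD3_c14)) = v14395 :=
  Lgr Lrot3 (Lpr_ft (f722321 IH) (Lpn v14395))
theorem f165760 : Led Lsl_dt (LP (LK LD1_c5 LD2_c8 LD3_c14)) = (LP (LK LD1_c10 LD2_c6 LD3_c61)) :=
  Lre_d IH (LK LD1_c5 LD2_c8 LD3_c14) (LK LD1_c10 LD2_c6 LD3_c61) Lrfl Lrfl
theorem f633888 : Led Lsl_ft (LP (LK LD1_c5 LD2_c0 LD3_c12)) = (LP (LK LD1_c9 LD2_c50 LD3_c58)) :=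
  Lre_f IH (LK LD1_c5 LD2_c0 LD3_c12) (LK LD1_c9 LD2_c50 LD3_c58) Lrfl Lrfl
theorem f691791 : Led Lsl_dt (LP (LK LD1_c9 LD2_c50 LD3_c58)) = K52.v12376 :=
  Lgr Lrot60 (Lpe (f633888 IH) (Lpr_df (K51.f691624 IH) (Lpr_ff (K52.f691790 IH) (Lpn K52.v12376))))
theorem f707158 : Led Lsl_af (LP (LK LD1_c9 LD2_c50 LD3_c58)) = (LP (LK LD1_c10 LD2_c6 LD3_c61)) :=
  Lgr Lrot117 (Lpr_dt (f691791 IH) (Lpr_at (K52.f707156 IH) (Lpr_dt (f165760 IH) (Lpn (LP (LK LD1_c10 LD2_c6 LD3_c61))))))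
theorem f633894 : Led Lsl_ft (LP (LK LD1_c9 LD2_c50 LD3_c58)) = (LP (LK LD1_c5 LD2_c0 LD3_c12)) :=
  Lre_f IH (LK LD1_c9 LD2_c50 LD3_c58) (LK LD1_c5 LD2_c0 LD3_c12) Lrfl Lrfl
theorem f633727 : Led Lsl_at (LP (LK LD1_c5 LD2_c0 LD3_c12)) = (LP (LK LD1_c9 LD2_c50 LD3_c53)) :=
  Lre_a IH (LK LD1_c5 LD2_c0 LD3_c12) (LK LD1_c9 LD2_c50 LD3_c53) Lrfl Lrfl
theorem f707162 : Led Lsl_ft (LP (LK LD1_c9 LD2_c50 LD3_c53)) = (LP (LK LD1_c10 LD2_c6 LD3_c61)) :=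
  Lgr Lrot101 (Lpe (f633727 IH) (Lpe (f633894 IH) (Lpr_af (f707158 IH) (Lpn (LP (LK LD1_c10 LD2_c6 LD3_c61))))))
theorem f707164 : Led Lsl_ff (LP (LK LD1_c9 LD2_c50 LD3_c53)) = (LP (LK LD1_c10 LD2_c6 LD3_c61)) :=
  Lgr Lrot3 (Lpr_ft (f707162 IH) (Lpn (LP (LK LD1_c10 LD2_c6 LD3_c61))))
theorem f722328 : Led Lsl_dt (LP (LK LD1_c9 LD2_c50 LD3_c53)) = v14395 :=
  Lgr Lrot60 (Lpr_ff (f707164 IH) (Lpe (f165760 IH) (Lpr_ff (f722325 IH) (Lpn v14395))))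
theorem f163566 : Led Lsl_dt (LP (LK LD1_c1 LD2_c21 LD3_c42)) = (LP (LK LD1_c0 LD2_c38 LD3_c5)) :=
  Lgr Lrot60 (Lpe (K51.f163561 IH) (Lpr_df (K50.f163334 IH) (Lpr_ff (K8.f163564 IH) (Lpn (LP (LK LD1_c0 LD2_c38 LD3_c5))))))
def v4869 : LQ := Led Lsl_gt (LP (LK LD1_c2 LD2_c51 LD3_c17))
theorem f640650 : Led Lsl_gt (LP (LK LD1_c2 LD2_c51 LD3_c17)) = v4869 :=
  Lrfl
theorem f723994 : Led Lsl_ef v4869 = K53.v14608 :=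
  Lgr Lrot17 (Lpe (f640650 IH) (Lpe (K50.f163563 IH) (Lpr_dt (f163566 IH) (Lpe (K8.f24408 IH) (Lpe (K7.f26562 IH) (Lpe (K7.f22751 IH) (Lpe (K41.f163570 IH) (Lpe (K41.f615389 IH) (Lpe (K53.f180664 IH) (Lpr_df (f723988 IH) (Lpn K53.v14608)))))))))))
theorem f723995 : Led Lsl_et v4869 = K53.v14608 :=
  Lgr Lrot87 (Lpr_ef (f723994 IH) (Lpn K53.v14608))
theorem f633900 : Led Lsl_et (LP (LK LD1_c5 LD2_c0 LD3_c9)) = (LP (LK LD1_c9 LD2_c50 LD3_c53)) :=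
  Lre_e IH (LK LD1_c5 LD2_c0 LD3_c9) (LK LD1_c9 LD2_c50 LD3_c53) Lrfl Lrfl
def v12304 : LQ := Led Lsl_gt (LP (LK LD1_c3 LD2_c59 LD3_c56))
theorem f689277 : Led Lsl_gt (LP (LK LD1_c3 LD2_c59 LD3_c56)) = v12304 :=
  Lrfl
theorem f495301 : Led Lsl_at (LP (LK LD1_c2 LD2_c27 LD3_c50)) = (LP (LK LD1_c5 LD2_c0 LD3_c9)) :=
  Lre_a IH (LK LD1_c2 LD2_c27 LD3_c50) (LK LD1_c5 LD2_c0 LD3_c9) Lrfl Lrfl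
theorem f689278 : Led Lsl_gf (LP (LK LD1_c5 LD2_c0 LD3_c9)) = v12304 :=
  Lgr Lrot76 (Lpe (f495301 IH) (Lpe (K53.f633878 IH) (Lpr_gt (f689277 IH) (Lpn v12304))))
theorem f739352 : (LP (LK LD1_c2 LD2_c51 LD3_c17)) = v12304 :=
  Lefun (Lecon (Lfl_gf (f640651 IH)) (f739351 IH)) (f689277 IH)
theorem f739355 : (LP (LK LD1_c5 LD2_c0 LD3_c9)) = v4869 :=
  Lefun (Lecon (Lfl_gf (f689278 IH)) (f739352 IH).symm) (f640650 IH)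
theorem f739357 : K53.v14608 = (LP (LK LD1_c9 LD2_c50 LD3_c53)) :=
  Lefun (Lecon (f723995 IH) (f739355 IH).symm) (f633900 IH)
theorem f739359 : (LP (LK LD1_c5 LD2_c14 LD3_c41)) = v14395 :=
  Lefun (Lecon (Lfl_df (f723988 IH)) (f739357 IH)) (f722328 IH)
theorem f739362 : K51.v12342 = v14606 :=
  Lefun (Lecon (Lfl_af (f722322 IH)) (f739359 IH).symm) (f723984 IH)
theorem f739371 : (LP (LK LD1_c5 LD2_c14 LD3_c40)) = K52.v12376 :=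
  Lefun (Lecon (Lfl_ff (f723983 IH)) (f739362 IH).symm) (K52.f691792 IH)
theorem f180728 : Led Lsl_ct (LP (LK LD1_c5 LD2_c14 LD3_c39)) = (LP (LK LD1_c10 LD2_c18 LD3_c48)) :=
  Lre_c IH (LK LD1_c5 LD2_c14 LD3_c39) (LK LD1_c10 LD2_c18 LD3_c48) Lrfl Lrfl
theorem f739428 : Led Lsl_gt (LP (LK LD1_c11 LD2_c47 LD3_c6)) = (LP (LK LD1_c10 LD2_c18 LD3_c48)) :=
  Lgr Lrot149 (Lpe (f75941 IH) (Lpr_gf (K5.f75889 IH) (Lpe (f75943 IH) (Lpr_ct (K0.f9122 IH) (Lpr_gf (f691797 IH) (Lpe (f691793 IH) (Lpr_bt (K52.f691787 IH) (Lpq (f739371 IH) (Lpe (f180666 IH) (Lpe (K41.f180707 IH) (Lpr_ct (f180728 IH) (Lpn (LP (LK LD1_c10 LD2_c18 LD3_c48))))))))))))))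
theorem f739429 : Led Lsl_gt (LP (LK LD1_c11 LD2_c47 LD3_c6)) = (LP (LK LD1_c10 LD2_c18 LD3_c48)) :=
  Leop (Lpe (f739428 IH) (Lpn (LP (LK LD1_c11 LD2_c47 LD3_c6))))
theorem seed_925 : LEOK LG_g (LK LD1_c11 LD2_c47 LD3_c6) :=
  Leoe_g (LK LD1_c11 LD2_c47 LD3_c6) (f739429 IH)
theorem f691795 : Led Lsl_cf (LP (LK LD1_c4 LD2_c7 LD3_c25)) = v12377 :=
  Lgr Lrot11 (Lpr_ct (f691793 IH) (Lpn v12377))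
theorem f23882 : Led Lsl_ct (LP (LK LD1_c2 LD2_c16 LD3_c59)) = (LP (LK LD1_c4 LD2_c39 LD3_c52)) :=
  Lre_c IH (LK LD1_c2 LD2_c16 LD3_c59) (LK LD1_c4 LD2_c39 LD3_c52) Lrfl Lrfl
theorem f691800 : Led Lsl_gt (LP (LK LD1_c4 LD2_c39 LD3_c52)) = v12377 :=
  Lgr Lrot150 (Lpe (f23882 IH) (Lpe (K0.f23875 IH) (Lpe (K0.f23865 IH) (Lpr_gt (K32.f501141 IH) (Lpqs (K32.f505195 IH) (Lpe (K29.f443981 IH) (Lpr_gt (K32.f146154 IH) (Lpq (K51.f633615 IH) (Lpe (K35.f509689 IH) (Lpe (K53.f633706 IH) (Lpr_cf (f691795 IH) (Lpn v12377))))))))))))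
theorem f75976 : Led Lsl_bt (LP (LK LD1_c2 LD2_c16 LD3_c59)) = (LP (LK LD1_c4 LD2_c39 LD3_c50)) :=
  Lre_b IH (LK LD1_c2 LD2_c16 LD3_c59) (LK LD1_c4 LD2_c39 LD3_c50) Lrfl Lrfl
theorem f288205 : Led Lsl_gt (LP (LK LD1_c5 LD2_c14 LD3_c40)) = (LP (LK LD1_c5 LD2_c8 LD3_c16)) :=
  Lgr Lrot46 (Lpe (f180666 IH) (Lpr_ft (K41.f180726 IH) (Lpr_at (K17.f288135 IH) (Lpn (LP (LK LD1_c5 LD2_c8 LD3_c16))))))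
def v14431 : LQ := Led Lsl_gf (LP (LK LD1_c5 LD2_c9 LD3_c59))
theorem f722488 : Led Lsl_gf (LP (LK LD1_c5 LD2_c9 LD3_c59)) = v14431 :=
  Lrfl
theorem f722489 : Led Lsl_gt (LP (LK LD1_c9 LD2_c56 LD3_c15)) = v14431 :=
  Lgr Lrot5 (Lpr_ft (K17.f165754 IH) (Lpe (K17.f288217 IH) (Lpr_gf (f722488 IH) (Lpn v14431))))
theorem f739430 : Led Lsl_ct K53.v14552 = v14431 :=
  Lgr Lrot63 (Lpe (K53.f723167 IH) (Lpr_gt (K36.f157171 IH) (Lpe (f75976 IH) (Lpr_ct (f23882 IH) (Lpr_gt (f691800 IH) (Lpe (f691793 IH) (Lpr_bt (K52.f691787 IH) (Lpq (f739371 IH) (Lpr_gt (f288205 IH) (Lpe (K17.f165756 IH) (Lpr_gt (f722489 IH) (Lpn v14431))))))))))))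
theorem f739433 : Led Lsl_ff K53.v14551 = v14431 :=
  Lgr Lrot23 (Lpe (K53.f723162 IH) (Lpr_ft (K53.f723163 IH) (Lpr_ct (f739430 IH) (Lpn v14431))))
def v14430 : LQ := Led Lsl_gt (LP (LK LD1_c5 LD2_c9 LD3_c59))
theorem f722486 : Led Lsl_gt (LP (LK LD1_c5 LD2_c9 LD3_c59)) = v14430 :=
  Lrfl
theorem f739435 : Led Lsl_at K53.v14551 = v14430 :=
  Lgr Lrot26 (Lpr_ff (f739433 IH) (Lpe (f722488 IH) (Lpr_gt (f722486 IH) (Lpn v14430))))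
theorem f739437 : Led Lsl_cf K53.v14550 = v14430 :=
  Lgr Lrot1 (Lpe (K53.f723157 IH) (Lpr_ct (K53.f723161 IH) (Lpr_at (f739435 IH) (Lpn v14430))))
def v14553 : LQ := Led Lsl_ct (LP (LK LD1_c5 LD2_c13 LD3_c31))
theorem f723719 : Led Lsl_ct (LP (LK LD1_c5 LD2_c13 LD3_c31)) = v14553 :=
  Lrfl
theorem f739439 : Led Lsl_ft v14553 = v14430 :=
  Lgr Lrot4 (Lpe (f723719 IH) (Lpr_ff (K53.f723160 IH) (Lpr_cf (f739437 IH) (Lpn v14430))))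
theorem f739436 : Led Lsl_af K53.v14551 = v14430 :=
  Lgr Lrot0 (Lpr_at (f739435 IH) (Lpn v14430))
theorem f165761 : Led Lsl_gt (LP (LK LD1_c9 LD2_c56 LD3_c14)) = (LP (LK LD1_c5 LD2_c2 LD3_c38)) :=
  Lre_g IH (LK LD1_c9 LD2_c56 LD3_c14) (LK LD1_c5 LD2_c2 LD3_c38) Lrfl Lrfl
theorem f739441 : v14553 = (LP (LK LD1_c9 LD2_c56 LD3_c14)) :=
  (Llr Lrot52 (Lpr_ft (f739439 IH) (Lpe (f739436 IH) (Lpq (K53.f723185 IH) (Lpe (K53.f165758 IH) (Lpe (f165761 IH) (Lpn (LP (LK LD1_c9 LD2_c56 LD3_c14))))))))).symm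
theorem f723720 : Led Lsl_cf (LP (LK LD1_c5 LD2_c13 LD3_c31)) = v14553 :=
  Lgr Lrot11 (Lpr_ct (f723719 IH) (Lpn v14553))
theorem f739442 : Led Lsl_ct (LP (LK LD1_c9 LD2_c56 LD3_c14)) = (LP (LK LD1_c5 LD2_c13 LD3_c31)) :=
  Leop (Lpr_cf (f723720 IH) (Lpqs (f739441 IH) (Lpn (LP (LK LD1_c9 LD2_c56 LD3_c14)))))
theorem seed_926 : LEOK LG_c (LK LD1_c9 LD2_c56 LD3_c14) :=
  Leoe_c (LK LD1_c9 LD2_c56 LD3_c14) (f739442 IH)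
def v4886 : LQ := Led Lsl_bt (LP (LK LD1_c2 LD2_c52 LD3_c2))
theorem f640721 : Led Lsl_bt (LP (LK LD1_c2 LD2_c52 LD3_c2)) = v4886 :=
  Lrfl
theorem f57648 : Led Lsl_bt (LP (LK LD1_c5 LD2_c47 LD3_c39)) = (LP (LK LD1_c2 LD2_c49 LD3_c47)) :=
  Lre_b IH (LK LD1_c5 LD2_c47 LD3_c39) (LK LD1_c2 LD2_c49 LD3_c47) Lrfl Lrfl
theorem f640723 : Led Lsl_ff (LP (LK LD1_c5 LD2_c47 LD3_c39)) = v4886 :=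
  Lgr Lrot25 (Lpr_bt (f57648 IH) (Lpe (K32.f503386 IH) (Lpr_bt (f640721 IH) (Lpn v4886))))
theorem f74878 : Led Lsl_ct (LP (LK LD1_c2 LD2_c55 LD3_c27)) = (LP (LK LD1_c5 LD2_c58 LD3_c6)) :=
  Lre_c IH (LK LD1_c2 LD2_c55 LD3_c27) (LK LD1_c5 LD2_c58 LD3_c6) Lrfl Lrfl
theorem f74879 : Led Lsl_at (LP (LK LD1_c1 LD2_c26 LD3_c9)) = (LP (LK LD1_c2 LD2_c55 LD3_c27)) :=
  Lgr Lrot107 (Lpe (K52.f58476 IH) (Lpr_af (K2.f74868 IH) (Lpe (f74878 IH) (Lpn (LP (LK LD1_c2 LD2_c55 LD3_c27))))))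
theorem f76190 : Led Lsl_ft (LP (LK LD1_c3 LD2_c0 LD3_c42)) = (LP (LK LD1_c1 LD2_c26 LD3_c9)) :=
  Lre_f IH (LK LD1_c3 LD2_c0 LD3_c42) (LK LD1_c1 LD2_c26 LD3_c9) Lrfl Lrfl
theorem f75966 : Led Lsl_gt (LP (LK LD1_c5 LD2_c58 LD3_c8)) = (LP (LK LD1_c2 LD2_c55 LD3_c27)) :=
  Lre_g IH (LK LD1_c5 LD2_c58 LD3_c8) (LK LD1_c2 LD2_c55 LD3_c27) Lrfl Lrfl
theorem f76219 : Led Lsl_gt (LP (LK LD1_c3 LD2_c0 LD3_c42)) = (LP (LK LD1_c5 LD2_c58 LD3_c8)) :=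
  Lgr Lrot5 (Lpr_ft (f76190 IH) (Lpr_at (f74879 IH) (Lpe (f75966 IH) (Lpn (LP (LK LD1_c5 LD2_c58 LD3_c8))))))
theorem f76223 : Led Lsl_ct (LP (LK LD1_c5 LD2_c58 LD3_c8)) = (LP (LK LD1_c11 LD2_c40 LD3_c58)) :=
  Lre_c IH (LK LD1_c5 LD2_c58 LD3_c8) (LK LD1_c11 LD2_c40 LD3_c58) Lrfl Lrfl
theorem f180708 : Led Lsl_ct (LP (LK LD1_c10 LD2_c18 LD3_c48)) = (LP (LK LD1_c5 LD2_c14 LD3_c39)) :=
  Lre_c IH (LK LD1_c10 LD2_c18 LD3_c48) (LK LD1_c5 LD2_c14 LD3_c39) Lrfl Lrfl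

end

end K54

end

end Cfsg.Agent.Helper28.S1692
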