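import Cfsg.Agent.Lib.Helper28.S1692.Seeds54

set_option autoImplicit false
set_option maxRecDepth 100000
set_option linter.all false

namespace Cfsg.Agent.Helper28.S1692

open Cfsg.Agent.Helper28
open Cfsg.Spor.ON (Gen)

noncomputable section

namespace K55
abbrev LD1_c0 := D1.c0
abbrev LD1_c1 := D1.c1
abbrev LD1_c2 := D1.c2
abbrev LD1_c3 := D1.c3
abbrev LD1_c4 := D1.c4
abbrev LD1_c5 := D1.c5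
abbrev LD1_c6 := D1.c6
abbrev LD1_c7 := D1.c7
abbrev LD1_c8 := D1.c8
abbrev LD1_c9 := D1.c9
abbrev LD1_c10 := D1.c10
abbrev LD1_c11 := D1.c11
abbrev LD1_c12 := D1.c12
abbrev LD1_c13 := D1.c13
abbrev LD1_c14 := D1.c14
abbrev LD1_c15 := D1.c15
abbrev LD1_c16 := D1.c16
abbrev LD1_c17 := D1.c17
abbrev LD1_c18 := D1.c18
abbrev LD1_c19 := D1.c19
abbrev LD1_c20 := D1.c20
abbrev LD1_c21 := D1.c21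
abbrev LD1_c22 := D1.c22
abbrev LD1_c23 := D1.c23
abbrev LD1_c24 := D1.c24
abbrev LD1_c25 := D1.c25
abbrev LD1_c26 := D1.c26
abbrev LD1_c27 := D1.c27
abbrev LD1_c28 := D1.c28
abbrev LD1_c29 := D1.c29
abbrev LD1_c30 := D1.c30
abbrev LD1_c31 := D1.c31
abbrev LD1_c32 := D1.c32
abbrev LD2_c0 := D2.c0
abbrev LD2_c1 := D2.c1
abbrev LD2_c2 := D2.c2
abbrev LD2_c3 := D2.c3
abbrev LD2_c4 := D2.c4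
abbrev LD2_c5 := D2.c5
abbrev LD2_c6 := D2.c6
abbrev LD2_c7 := D2.c7
abbrev LD2_c8 := D2.c8
abbrev LD2_c9 := D2.c9
abbrev LD2_c10 := D2.c10
abbrev LD2_c11 := D2.c11
abbrev LD2_c12 := D2.c12
abbrev LD2_c13 := D2.c13
abbrev LD2_c14 := D2.c14
abbrev LD2_c15 := D2.c15
abbrev LD2_c16 := D2.c16
abbrev LD2_c17 := D2.c17
abbrev LD2_c18 := D2.c18
abbrev LD2_c19 := D2.c19
abbrev LD2_c20 := D2.c20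
abbrev LD2_c21 := D2.c21
abbrev LD2_c22 := D2.c22
abbrev LD2_c23 := D2.c23
abbrev LD2_c24 := D2.c24
abbrev LD2_c25 := D2.c25
abbrev LD2_c26 := D2.c26
abbrev LD2_c27 := D2.c27
abbrev LD2_c28 := D2.c28
abbrev LD2_c29 := D2.c29
abbrev LD2_c30 := D2.c30
abbrev LD2_c31 := D2.c31
abbrev LD2_c32 := D2.c32
abbrev LD2_c33 := D2.c33
abbrev LD2_c34 := D2.c34
abbrev LD2_c35 := D2.c35
abbrev LD2_c36 := D2.c36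
abbrev LD2_c37 := D2.c37
abbrev LD2_c38 := D2.c38
abbrev LD2_c39 := D2.c39
abbrev LD2_c40 := D2.c40
abbrev LD2_c41 := D2.c41
abbrev LD2_c42 := D2.c42
abbrev LD2_c43 := D2.c43
abbrev LD2_c44 := D2.c44
abbrev LD2_c45 := D2.c45
abbrev LD2_c46 := D2.c46
abbrev LD2_c47 := D2.c47
abbrev LD2_c48 := D2.c48
abbrev LD2_c49 := D2.c49
abbrev LD2_c50 := D2.c50
abbrev LD2_c51 := D2.c51
abbrev LD2_c52 := D2.c52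
abbrev LD2_c53 := D2.c53
abbrev LD2_c54 := D2.c54
abbrev LD2_c55 := D2.c55
abbrev LD2_c56 := D2.c56
abbrev LD2_c57 := D2.c57
abbrev LD2_c58 := D2.c58
abbrev LD2_c59 := D2.c59
abbrev LD3_c0 := D3.c0
abbrev LD3_c1 := D3.c1
abbrev LD3_c2 := D3.c2
abbrev LD3_c3 := D3.c3
abbrev LD3_c4 := D3.c4
abbrev LD3_c5 := D3.c5
abbrev LD3_c6 := D3.c6
abbrev LD3_c7 := D3.c7
abbrev LD3_c8 := D3.c8
abbrev LD3_c9 := D3.c9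
abbrev LD3_c10 := D3.c10
abbrev LD3_c11 := D3.c11
abbrev LD3_c12 := D3.c12
abbrev LD3_c13 := D3.c13
abbrev LD3_c14 := D3.c14
abbrev LD3_c15 := D3.c15
abbrev LD3_c16 := D3.c16
abbrev LD3_c17 := D3.c17
abbrev LD3_c18 := D3.c18
abbrev LD3_c19 := D3.c19
abbrev LD3_c20 := D3.c20
abbrev LD3_c21 := D3.c21
abbrev LD3_c22 := D3.c22
abbrev LD3_c23 := D3.c23
abbrev LD3_c24 := D3.c24
abbrev LD3_c25 := D3.c25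
abbrev LD3_c26 := D3.c26
abbrev LD3_c27 := D3.c27
abbrev LD3_c28 := D3.c28
abbrev LD3_c29 := D3.c29
abbrev LD3_c30 := D3.c30
abbrev LD3_c31 := D3.c31
abbrev LD3_c32 := D3.c32
abbrev LD3_c33 := D3.c33
abbrev LD3_c34 := D3.c34
abbrev LD3_c35 := D3.c35
abbrev LD3_c36 := D3.c36
abbrev LD3_c37 := D3.c37
abbrev LD3_c38 := D3.c38
abbrev LD3_c39 := D3.c39
abbrev LD3_c40 := D3.c40
abbrev LD3_c41 := D3.c41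
abbrev LD3_c42 := D3.c42
abbrev LD3_c43 := D3.c43
abbrev LD3_c44 := D3.c44
abbrev LD3_c45 := D3.c45
abbrev LD3_c46 := D3.c46
abbrev LD3_c47 := D3.c47
abbrev LD3_c48 := D3.c48
abbrev LD3_c49 := D3.c49
abbrev LD3_c50 := D3.c50
abbrev LD3_c51 := D3.c51
abbrev LD3_c52 := D3.c52
abbrev LD3_c53 := D3.c53
abbrev LD3_c54 := D3.c54
abbrev LD3_c55 := D3.c55
abbrev LD3_c56 := D3.c56
abbrev LD3_c57 := D3.c57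
abbrev LD3_c58 := D3.c58
abbrev LD3_c59 := D3.c59
abbrev LD3_c60 := D3.c60
abbrev LD3_c61 := D3.c61
abbrev LG_g := Gen.g
abbrev Lsl_gt : Gen × Bool := sl_gt
alias Lfl_gt := fl_gt
alias Lpr_gt := pr_gt
abbrev Lsl_gf : Gen × Bool := sl_gf
alias Lfl_gf := fl_gf
alias Lpr_gf := pr_gf
alias Lre_g := re_g
alias Leoe_g := eoe_g
abbrev LG_a := Gen.a
abbrev Lsl_at : Gen × Bool := sl_at
alias Lfl_at := fl_at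
alias Lpr_at := pr_at
abbrev Lsl_af : Gen × Bool := sl_af
alias Lfl_af := fl_af
alias Lpr_af := pr_af
alias Lre_a := re_a
alias Leoe_a := eoe_a
abbrev LG_b := Gen.b
abbrev Lsl_bt : Gen × Bool := sl_bt
alias Lfl_bt := fl_bt
alias Lpr_bt := pr_bt
abbrev Lsl_bf : Gen × Bool := sl_bf
alias Lfl_bf := fl_bf
alias Lpr_bf := pr_bf
alias Lre_b := re_b
alias Leoe_b := eoe_b
abbrev LG_c := Gen.c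
abbrev Lsl_ct : Gen × Bool := sl_ct
alias Lfl_ct := fl_ct
alias Lpr_ct := pr_ct
abbrev Lsl_cf : Gen × Bool := sl_cf
alias Lfl_cf := fl_cf
alias Lpr_cf := pr_cf
alias Lre_c := re_c
alias Leoe_c := eoe_c
abbrev LG_d := Gen.d
abbrev Lsl_dt : Gen × Bool := sl_dt
alias Lfl_dt := fl_dt
alias Lpr_dt := pr_dt
abbrev Lsl_df : Gen × Bool := sl_df
alias Lfl_df := fl_df
alias Lpr_df := pr_df
alias Lre_d := re_d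
alias Leoe_d := eoe_d
abbrev LG_e := Gen.e
abbrev Lsl_et : Gen × Bool := sl_et
alias Lfl_et := fl_et
alias Lpr_et := pr_et
abbrev Lsl_ef : Gen × Bool := sl_ef
alias Lfl_ef := fl_ef
alias Lpr_ef := pr_ef
alias Lre_e := re_e
alias Leoe_e := eoe_e
abbrev LG_f := Gen.f
abbrev Lsl_ft : Gen × Bool := sl_ft
alias Lfl_ft := fl_ft
alias Lpr_ft := pr_ft
abbrev Lsl_ff : Gen × Bool := sl_ff
alias Lfl_ff := fl_ff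
alias Lpr_ff := pr_ff
alias Lre_f := re_f
alias Leoe_f := eoe_f
abbrev LK := Pt.mk
abbrev LQ : Type := Qt rels S
abbrev LP (p : Pt) : LQ := P p
abbrev Led (l : Gen × Bool) (c : LQ) : LQ := ed l c
abbrev LEOK (x : Gen) (p : Pt) : Prop := EntryOK rels S fwd inv o plet idx x p
alias Lpe := pe
alias Lpn := pn
alias Lgr := gr
alias Lpq := pq
alias Lpqs := pqs
alias Llr := lr
alias Leop := eop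
alias Lefun := efun
alias Lecon := econ
theorem Lrfl {α : Sort _} {a : α} : a = a := rfl
alias Lrot0 := rot0
alias Lrot1 := rot1
alias Lrot2 := rot2
alias Lrot3 := rot3
alias Lrot4 := rot4
alias Lrot5 := rot5
alias Lrot6 := rot6
alias Lrot7 := rot7
alias Lrot8 := rot8
alias Lrot9 := rot9
alias Lrot10 := rot10
alias Lrot11 := rot11
alias Lrot12 := rot12
alias Lrot14 := rot14
alias Lrot15 := rot15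
alias Lrot17 := rot17
alias Lrot18 := rot18
alias Lrot19 := rot19
alias Lrot20 := rot20
alias Lrot21 := rot21
alias Lrot22 := rot22
alias Lrot23 := rot23
alias Lrot24 := rot24
alias Lrot25 := rot25
alias Lrot26 := rot26
alias Lrot27 := rot27
alias Lrot28 := rot28
alias Lrot29 := rot29
alias Lrot30 := rot30
alias Lrot31 := rot31
alias Lrot33 := rot33
alias Lrot34 := rot34
alias Lrot35 := rot35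
alias Lrot36 := rot36
alias Lrot37 := rot37
alias Lrot38 := rot38
alias Lrot39 := rot39
alias Lrot40 := rot40
alias Lrot42 := rot42
alias Lrot43 := rot43
alias Lrot44 := rot44
alias Lrot45 := rot45
alias Lrot46 := rot46
alias Lrot47 := rot47
alias Lrot48 := rot48
alias Lrot49 := rot49
alias Lrot50 := rot50
alias Lrot51 := rot51
alias Lrot52 := rot52
alias Lrot54 := rot54
alias Lrot56 := rot56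
alias Lrot57 := rot57
alias Lrot58 := rot58
alias Lrot59 := rot59
alias Lrot60 := rot60
alias Lrot61 := rot61
alias Lrot62 := rot62
alias Lrot63 := rot63
alias Lrot64 := rot64
alias Lrot65 := rot65
alias Lrot66 := rot66
alias Lrot67 := rot67
alias Lrot68 := rot68
alias Lrot69 := rot69
alias Lrot70 := rot70
alias Lrot71 := rot71
alias Lrot72 := rot72
alias Lrot73 := rot73
alias Lrot74 := rot74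
alias Lrot75 := rot75
alias Lrot76 := rot76
alias Lrot77 := rot77
alias Lrot78 := rot78
alias Lrot79 := rot79
alias Lrot80 := rot80
alias Lrot81 := rot81
alias Lrot82 := rot82
alias Lrot83 := rot83
alias Lrot84 := rot84
alias Lrot85 := rot85
alias Lrot86 := rot86
alias Lrot87 := rot87
alias Lrot88 := rot88
alias Lrot90 := rot90
alias Lrot91 := rot91
alias Lrot92 := rot92
alias Lrot93 := rot93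
alias Lrot94 := rot94
alias Lrot95 := rot95
alias Lrot96 := rot96
alias Lrot97 := rot97
alias Lrot99 := rot99
alias Lrot100 := rot100
alias Lrot101 := rot101
alias Lrot102 := rot102
alias Lrot103 := rot103
alias Lrot104 := rot104
alias Lrot105 := rot105
alias Lrot107 := rot107
alias Lrot108 := rot108
alias Lrot109 := rot109
alias Lrot110 := rot110
alias Lrot111 := rot111
alias Lrot112 := rot112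
alias Lrot113 := rot113
alias Lrot114 := rot114
alias Lrot116 := rot116
alias Lrot117 := rot117
alias Lrot118 := rot118
alias Lrot119 := rot119
alias Lrot121 := rot121
alias Lrot122 := rot122
alias Lrot123 := rot123
alias Lrot124 := rot124
alias Lrot125 := rot125
alias Lrot126 := rot126
alias Lrot127 := rot127
alias Lrot128 := rot128
alias Lrot129 := rot129
alias Lrot130 := rot130
alias Lrot131 := rot131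
alias Lrot132 := rot132
alias Lrot134 := rot134
alias Lrot135 := rot135
alias Lrot136 := rot136
alias Lrot137 := rot137
alias Lrot138 := rot138
alias Lrot139 := rot139
alias Lrot141 := rot141
alias Lrot143 := rot143
alias Lrot144 := rot144
alias Lrot145 := rot145
alias Lrot147 := rot147
alias Lrot149 := rot149
alias Lrot150 := rot150
alias Lrot152 := rot152
alias Lrot153 := rot153
alias Lrot155 := rot155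
alias Lrot156 := rot156
alias Lrot158 := rot158
alias Lrot160 := rot160
alias Lrot162 := rot162
alias Lrot163 := rot163
alias Lrot164 := rot164
alias Lrot165 := rot165
alias Lrot166 := rot166
alias Lrot167 := rot167
alias Lrot168 := rot168
alias Lrot169 := rot169
alias Lrot170 := rot170
alias Lrot171 := rot171
alias Lrot172 := rot172
alias Lrot174 := rot174
alias Lrot176 := rot176
alias Lrot178 := rot178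
alias Lrot180 := rot180
alias Lrot181 := rot181
alias Lrot185 := rot185
alias Lrot190 := rot190

section
variable (IH : IHT)
include IH

theorem f74724 : Led Lsl_et (LP (LK LD1_c5 LD2_c52 LD3_c11)) = (LP (LK LD1_c2 LD2_c52 LD3_c23)) :=
  Lre_e IH (LK LD1_c5 LD2_c52 LD3_c11) (LK LD1_c2 LD2_c52 LD3_c23) Lrfl Lrfl
theorem f74725 : Led Lsl_et (LP (LK LD1_c2 LD2_c55 LD3_c28)) = (LP (LK LD1_c5 LD2_c58 LD3_c13)) :=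
  Lre_e IH (LK LD1_c2 LD2_c55 LD3_c28) (LK LD1_c5 LD2_c58 LD3_c13) Lrfl Lrfl
theorem f74726 : Led Lsl_cf (LP (LK LD1_c5 LD2_c52 LD3_c11)) = (LP (LK LD1_c5 LD2_c58 LD3_c13)) :=
  Lgr Lrot39 (Lpr_et (f74724 IH) (Lpr_ct (K7.f74555 IH) (Lpr_et (f74725 IH) (Lpn (LP (LK LD1_c5 LD2_c58 LD3_c13))))))
theorem f739446 : Led Lsl_gt (LP (LK LD1_c11 LD2_c40 LD3_c58)) = (LP (LK LD1_c5 LD2_c58 LD3_c13)) :=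
  Lgr Lrot150 (Lpe (K54.f76223 IH) (Lpe (K54.f76219 IH) (Lpe (K53.f75001 IH) (Lpe (K5.f75889 IH) (Lpr_ct (K54.f75941 IH) (Lpr_gt (K54.f739428 IH) (Lpr_ct (K54.f180708 IH) (Lpr_df (K41.f615399 IH) (Lpr_cf (f74726 IH) (Lpn (LP (LK LD1_c5 LD2_c58 LD3_c13))))))))))))
theorem f58587 : Led Lsl_bt (LP (LK LD1_c1 LD2_c26 LD3_c13)) = (LP (LK LD1_c3 LD2_c0 LD3_c42)) :=
  Lre_b IH (LK LD1_c1 LD2_c26 LD3_c13) (LK LD1_c3 LD2_c0 LD3_c42) Lrfl Lrfl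
theorem f74733 : Led Lsl_ct (LP (LK LD1_c5 LD2_c52 LD3_c11)) = (LP (LK LD1_c5 LD2_c58 LD3_c13)) :=
  Lgr Lrot59 (Lpr_cf (f74726 IH) (Lpn (LP (LK LD1_c5 LD2_c58 LD3_c13))))
theorem f74731 : Led Lsl_bt (LP (LK LD1_c5 LD2_c52 LD3_c11)) = (LP (LK LD1_c2 LD2_c52 LD3_c25)) :=
  Lre_b IH (LK LD1_c5 LD2_c52 LD3_c11) (LK LD1_c2 LD2_c52 LD3_c25) Lrfl Lrfl
def v4902 : LQ := Led Lsl_gt (LP (LK LD1_c2 LD2_c52 LD3_c25))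
theorem f640829 : Led Lsl_gt (LP (LK LD1_c2 LD2_c52 LD3_c25)) = v4902 :=
  Lrfl
theorem f739451 : K54.v4886 = v4902 :=
  (Llr Lrot92 (Lpe (K54.f640721 IH) (Lpe (K32.f416055 IH) (Lpr_gt (K24.f415335 IH) (Lpe (K1.f58565 IH) (Lpr_bt (f58587 IH) (Lpr_gt (K54.f76219 IH) (Lpr_ct (K54.f76223 IH) (Lpr_gt (f739446 IH) (Lpe (f74733 IH) (Lpr_bt (f74731 IH) (Lpr_gt (f640829 IH) (Lpn v4902))))))))))))).symm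
theorem f640830 : Led Lsl_gf (LP (LK LD1_c5 LD2_c50 LD3_c2)) = v4902 :=
  Lgr Lrot76 (Lpe (K41.f496488 IH) (Lpe (K41.f496461 IH) (Lpr_gt (f640829 IH) (Lpn v4902))))
theorem f739452 : Led Lsl_at (LP (LK LD1_c5 LD2_c47 LD3_c39)) = (LP (LK LD1_c5 LD2_c52 LD3_c13)) :=
  Lgr Lrot26 (Lpr_ff (K54.f640723 IH) (Lpqs (f739451 IH) (Lpe (f640830 IH) (Lpe (K53.f496501 IH) (Lpn (LP (LK LD1_c5 LD2_c52 LD3_c13)))))))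
theorem f739453 : Led Lsl_at (LP (LK LD1_c5 LD2_c47 LD3_c39)) = (LP (LK LD1_c5 LD2_c52 LD3_c13)) :=
  Leop (Lpe (f739452 IH) (Lpn (LP (LK LD1_c5 LD2_c47 LD3_c39))))
theorem seed_927 : LEOK LG_a (LK LD1_c5 LD2_c47 LD3_c39) :=
  Leoe_a (LK LD1_c5 LD2_c47 LD3_c39) (f739453 IH)
theorem f180717 : Led Lsl_bt (LP (LK LD1_c10 LD2_c18 LD3_c52)) = (LP (LK LD1_c5 LD2_c14 LD3_c41)) :=
  Lre_b IH (LK LD1_c10 LD2_c18 LD3_c52) (LK LD1_c5 LD2_c14 LD3_c41) Lrfl Lrfl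
theorem f699593 : Led Lsl_ff (LP (LK LD1_c4 LD2_c34 LD3_c33)) = K53.v12919 :=
  Lgr Lrot3 (Lpr_ft (K53.f699591 IH) (Lpn K53.v12919))
theorem f713223 : K50.v12917 = (LP (LK LD1_c9 LD2_c5 LD3_c51)) :=
  (Llr Lrot26 (Lpe (K50.f699572 IH) (Lpr_ff (f699593 IH) (Lpq (K53.f713109 IH) (Lpe (K50.f699523 IH) (Lpr_gt (K52.f438269 IH) (Lpn (LP (LK LD1_c9 LD2_c5 LD3_c51))))))))).symm
theorem f615340 : Led Lsl_bt (LP (LK LD1_c9 LD2_c5 LD3_c51)) = (LP (LK LD1_c12 LD2_c53 LD3_c26)) :=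
  Lgr Lrot127 (Lpr_bf (K52.f615338 IH) (Lpn (LP (LK LD1_c12 LD2_c53 LD3_c26))))
theorem f713230 : Led Lsl_ff (LP (LK LD1_c9 LD2_c6 LD3_c1)) = (LP (LK LD1_c12 LD2_c53 LD3_c26)) :=
  Lgr Lrot25 (Lpr_bt (K50.f92152 IH) (Lpr_ft (K50.f699576 IH) (Lpqs (f713223 IH) (Lpr_bt (f615340 IH) (Lpn (LP (LK LD1_c12 LD2_c53 LD3_c26)))))))
theorem f713236 : Led Lsl_ft (LP (LK LD1_c9 LD2_c6 LD3_c1)) = (LP (LK LD1_c12 LD2_c53 LD3_c26)) :=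
  Lgr Lrot48 (Lpr_ff (f713230 IH) (Lpn (LP (LK LD1_c12 LD2_c53 LD3_c26))))
theorem f713242 : Led Lsl_af (LP (LK LD1_c12 LD2_c43 LD3_c29)) = (LP (LK LD1_c12 LD2_c53 LD3_c26)) :=
  Lgr Lrot31 (Lpe (K50.f132531 IH) (Lpr_gf (K50.f644273 IH) (Lpr_ft (f713236 IH) (Lpn (LP (LK LD1_c12 LD2_c53 LD3_c26))))))
theorem f615285 : Led Lsl_et (LP (LK LD1_c12 LD2_c43 LD3_c29)) = (LP (LK LD1_c21 LD2_c50 LD3_c44)) :=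
  Lre_e IH (LK LD1_c12 LD2_c43 LD3_c29) (LK LD1_c21 LD2_c50 LD3_c44) Lrfl Lrfl
theorem f713248 : Led Lsl_at (LP (LK LD1_c21 LD2_c50 LD3_c44)) = (LP (LK LD1_c12 LD2_c57 LD3_c55)) :=
  Lgr Lrot80 (Lpe (f615285 IH) (Lpr_af (f713242 IH) (Lpr_ef (K52.f710076 IH) (Lpn (LP (LK LD1_c12 LD2_c57 LD3_c55))))))
theorem f615284 : Led Lsl_et (LP (LK LD1_c20 LD2_c51 LD3_c40)) = (LP (LK LD1_c11 LD2_c49 LD3_c7)) :=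
  Lre_e IH (LK LD1_c20 LD2_c51 LD3_c40) (LK LD1_c11 LD2_c49 LD3_c7) Lrfl Lrfl
theorem f615286 : Led Lsl_bf (LP (LK LD1_c20 LD2_c51 LD3_c40)) = (LP (LK LD1_c21 LD2_c50 LD3_c44)) :=
  Lgr Lrot96 (Lpr_et (f615284 IH) (Lpr_bt (K50.f615278 IH) (Lpr_et (f615285 IH) (Lpn (LP (LK LD1_c21 LD2_c50 LD3_c44))))))
theorem f615291 : Led Lsl_bt (LP (LK LD1_c20 LD2_c51 LD3_c40)) = (LP (LK LD1_c21 LD2_c50 LD3_c44)) :=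
  Lgr Lrot127 (Lpr_bf (f615286 IH) (Lpn (LP (LK LD1_c21 LD2_c50 LD3_c44))))
theorem f669588 : Led Lsl_et (LP (LK LD1_c9 LD2_c5 LD3_c60)) = (LP (LK LD1_c16 LD2_c57 LD3_c48)) :=
  Lre_e IH (LK LD1_c9 LD2_c5 LD3_c60) (LK LD1_c16 LD2_c57 LD3_c48) Lrfl Lrfl
theorem f713094 : Led Lsl_af (LP (LK LD1_c20 LD2_c51 LD3_c40)) = (LP (LK LD1_c16 LD2_c57 LD3_c48)) :=
  Lgr Lrot50 (Lpr_et (f615284 IH) (Lpr_at (K53.f713090 IH) (Lpr_et (f669588 IH) (Lpn (LP (LK LD1_c16 LD2_c57 LD3_c48))))))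
theorem f442856 : Led Lsl_bt (LP (LK LD1_c12 LD2_c57 LD3_c55)) = (LP (LK LD1_c6 LD2_c47 LD3_c25)) :=
  Lre_b IH (LK LD1_c12 LD2_c57 LD3_c55) (LK LD1_c6 LD2_c47 LD3_c25) Lrfl Lrfl
theorem f713252 : Led Lsl_af (LP (LK LD1_c9 LD2_c6 LD3_c0)) = (LP (LK LD1_c6 LD2_c47 LD3_c25)) :=
  Lgr Lrot36 (Lpr_bt (K52.f669582 IH) (Lpe (f713094 IH) (Lpr_bt (f615291 IH) (Lpr_at (f713248 IH) (Lpr_bt (f442856 IH) (Lpn (LP (LK LD1_c6 LD2_c47 LD3_c25))))))))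
theorem f151667 : Led Lsl_et (LP (LK LD1_c4 LD2_c34 LD3_c50)) = (LP (LK LD1_c2 LD2_c14 LD3_c30)) :=
  Lre_e IH (LK LD1_c4 LD2_c34 LD3_c50) (LK LD1_c2 LD2_c14 LD3_c30) Lrfl Lrfl
theorem f112938 : Led Lsl_et (LP (LK LD1_c1 LD2_c4 LD3_c10)) = (LP (LK LD1_c2 LD2_c14 LD3_c15)) :=
  Lre_e IH (LK LD1_c1 LD2_c4 LD3_c10) (LK LD1_c2 LD2_c14 LD3_c15) Lrfl Lrfl
theorem f157942 : Led Lsl_gf (LP (LK LD1_c9 LD2_c6 LD3_c19)) = (LP (LK LD1_c16 LD2_c57 LD3_c50)) :=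
  Lgr Lrot145 (Lpe (K45.f157941 IH) (Lpr_et (f151667 IH) (Lpr_gt (K11.f151671 IH) (Lpr_dt (K8.f157928 IH) (Lpr_gt (K5.f92058 IH) (Lpe (K6.f61820 IH) (Lpr_et (f112938 IH) (Lpr_gt (K50.f92149 IH) (Lpe (K48.f151726 IH) (Lpr_dt (K48.f151727 IH) (Lpn (LP (LK LD1_c16 LD2_c57 LD3_c50)))))))))))))
theorem f454607 : Led Lsl_dt (LP (LK LD1_c4 LD2_c49 LD3_c55)) = (LP (LK LD1_c9 LD2_c32 LD3_c28)) :=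
  Lre_d IH (LK LD1_c4 LD2_c49 LD3_c55) (LK LD1_c9 LD2_c32 LD3_c28) Lrfl Lrfl
theorem f454540 : Led Lsl_at (LP (LK LD1_c6 LD2_c47 LD3_c27)) = (LP (LK LD1_c12 LD2_c57 LD3_c41)) :=
  Lre_a IH (LK LD1_c6 LD2_c47 LD3_c27) (LK LD1_c12 LD2_c57 LD3_c41) Lrfl Lrfl
theorem f454541 : Led Lsl_et (LP (LK LD1_c4 LD2_c49 LD3_c55)) = (LP (LK LD1_c6 LD2_c47 LD3_c27)) :=
  Lgr Lrot123 (Lpe (K24.f454239 IH) (Lpr_ef (K24.f454529 IH) (Lpe (f454540 IH) (Lpn (LP (LK LD1_c6 LD2_c47 LD3_c27))))))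
theorem f710318 : Led Lsl_gf (LP (LK LD1_c9 LD2_c6 LD3_c0)) = (LP (LK LD1_c6 LD2_c47 LD3_c27)) :=
  Lgr Lrot138 (Lpr_dt (K48.f151727 IH) (Lpe (f157942 IH) (Lpe (K45.f157941 IH) (Lpr_et (f151667 IH) (Lpr_gt (K11.f151671 IH) (Lpe (K8.f22314 IH) (Lpr_dt (K51.f589230 IH) (Lpr_gt (K51.f710312 IH) (Lpe (f454607 IH) (Lpr_et (f454541 IH) (Lpn (LP (LK LD1_c6 LD2_c47 LD3_c27)))))))))))))
theorem f454611 : Led Lsl_gt (LP (LK LD1_c12 LD2_c57 LD3_c39)) = (LP (LK LD1_c6 LD2_c47 LD3_c27)) :=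
  Lre_g IH (LK LD1_c12 LD2_c57 LD3_c39) (LK LD1_c6 LD2_c47 LD3_c27) Lrfl Lrfl
theorem f713264 : Led Lsl_ft (LP (LK LD1_c12 LD2_c57 LD3_c39)) = (LP (LK LD1_c6 LD2_c47 LD3_c25)) :=
  Lgr Lrot2 (Lpr_gt (f454611 IH) (Lpe (f710318 IH) (Lpr_af (f713252 IH) (Lpn (LP (LK LD1_c6 LD2_c47 LD3_c25))))))
theorem f713269 : Led Lsl_ff (LP (LK LD1_c12 LD2_c57 LD3_c39)) = (LP (LK LD1_c6 LD2_c47 LD3_c25)) :=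
  Lgr Lrot3 (Lpr_ft (f713264 IH) (Lpn (LP (LK LD1_c6 LD2_c47 LD3_c25))))
theorem f442855 : Led Lsl_gt (LP (LK LD1_c6 LD2_c47 LD3_c25)) = (LP (LK LD1_c3 LD2_c21 LD3_c51)) :=
  Lre_g IH (LK LD1_c6 LD2_c47 LD3_c25) (LK LD1_c3 LD2_c21 LD3_c51) Lrfl Lrfl
theorem f713273 : Led Lsl_at (LP (LK LD1_c12 LD2_c57 LD3_c39)) = (LP (LK LD1_c6 LD2_c47 LD3_c24)) :=
  Lgr Lrot26 (Lpr_ff (f713269 IH) (Lpr_gt (f442855 IH) (Lpr_gt (K52.f446238 IH) (Lpn (LP (LK LD1_c6 LD2_c47 LD3_c24))))))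
theorem f713260 : Led Lsl_at (LP (LK LD1_c9 LD2_c6 LD3_c0)) = (LP (LK LD1_c6 LD2_c47 LD3_c25)) :=
  Lgr Lrot100 (Lpr_af (f713252 IH) (Lpn (LP (LK LD1_c6 LD2_c47 LD3_c25))))
theorem f713279 : Led Lsl_ff (LP (LK LD1_c9 LD2_c6 LD3_c0)) = (LP (LK LD1_c6 LD2_c47 LD3_c24)) :=
  Lgr Lrot30 (Lpr_at (f713260 IH) (Lpe (f713269 IH) (Lpr_at (f713273 IH) (Lpn (LP (LK LD1_c6 LD2_c47 LD3_c24))))))
theorem f713285 : Led Lsl_ft (LP (LK LD1_c9 LD2_c6 LD3_c0)) = (LP (LK LD1_c6 LD2_c47 LD3_c24)) :=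
  Lgr Lrot48 (Lpr_ff (f713279 IH) (Lpn (LP (LK LD1_c6 LD2_c47 LD3_c24))))
theorem f713295 : Led Lsl_ff (LP (LK LD1_c16 LD2_c57 LD3_c50)) = (LP (LK LD1_c9 LD2_c6 LD3_c35)) :=
  Lgr Lrot19 (Lpr_dt (K52.f157953 IH) (Lpr_ft (f713285 IH) (Lpe (K52.f710244 IH) (Lpn (LP (LK LD1_c9 LD2_c6 LD3_c35))))))
theorem f644877 : Led Lsl_ct (LP (LK LD1_c16 LD2_c58 LD3_c33)) = (LP (LK LD1_c9 LD2_c6 LD3_c35)) :=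
  Lre_c IH (LK LD1_c16 LD2_c58 LD3_c33) (LK LD1_c9 LD2_c6 LD3_c35) Lrfl Lrfl
theorem f713299 : Led Lsl_ft (LP (LK LD1_c20 LD2_c42 LD3_c2)) = (LP (LK LD1_c16 LD2_c58 LD3_c33)) :=
  Lgr Lrot4 (Lpr_cf (K48.f645096 IH) (Lpr_ff (f713295 IH) (Lpe (f644877 IH) (Lpn (LP (LK LD1_c16 LD2_c58 LD3_c33))))))
theorem f600031 : Led Lsl_gt (LP (LK LD1_c11 LD2_c41 LD3_c59)) = (LP (LK LD1_c20 LD2_c42 LD3_c1)) :=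
  Lre_g IH (LK LD1_c11 LD2_c41 LD3_c59) (LK LD1_c20 LD2_c42 LD3_c1) Lrfl Lrfl
theorem f713306 : Led Lsl_af (LP (LK LD1_c20 LD2_c42 LD3_c1)) = (LP (LK LD1_c16 LD2_c58 LD3_c33)) :=
  Lgr Lrot31 (Lpe (f600031 IH) (Lpe (K48.f595868 IH) (Lpr_ft (f713299 IH) (Lpn (LP (LK LD1_c16 LD2_c58 LD3_c33))))))
theorem f600032 : Led Lsl_dt (LP (LK LD1_c20 LD2_c42 LD3_c1)) = (LP (LK LD1_c29 LD2_c35 LD3_c56)) :=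
  Lre_d IH (LK LD1_c20 LD2_c42 LD3_c1) (LK LD1_c29 LD2_c35 LD3_c56) Lrfl Lrfl
theorem f644881 : Led Lsl_dt (LP (LK LD1_c26 LD2_c54 LD3_c11)) = (LP (LK LD1_c16 LD2_c58 LD3_c33)) :=
  Lre_d IH (LK LD1_c26 LD2_c54 LD3_c11) (LK LD1_c16 LD2_c58 LD3_c33) Lrfl Lrfl
theorem f713312 : Led Lsl_at (LP (LK LD1_c29 LD2_c35 LD3_c56)) = (LP (LK LD1_c26 LD2_c54 LD3_c11)) :=
  Lgr Lrot51 (Lpe (f600032 IH) (Lpr_af (f713306 IH) (Lpe (f644881 IH) (Lpn (LP (LK LD1_c26 LD2_c54 LD3_c11))))))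
theorem f710064 : Led Lsl_ct (LP (LK LD1_c12 LD2_c57 LD3_c56)) = (LP (LK LD1_c6 LD2_c47 LD3_c25)) :=
  Lre_c IH (LK LD1_c12 LD2_c57 LD3_c56) (LK LD1_c6 LD2_c47 LD3_c25) Lrfl Lrfl
theorem f710065 : Led Lsl_dt (LP (LK LD1_c22 LD2_c7 LD3_c47)) = (LP (LK LD1_c12 LD2_c57 LD3_c56)) :=
  Lre_d IH (LK LD1_c22 LD2_c7 LD3_c47) (LK LD1_c12 LD2_c57 LD3_c56) Lrfl Lrfl
theorem f426811 : Led Lsl_ft (LP (LK LD1_c11 LD2_c41 LD3_c51)) = (LP (LK LD1_c5 LD2_c58 LD3_c41)) :=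
  Lre_f IH (LK LD1_c11 LD2_c41 LD3_c51) (LK LD1_c5 LD2_c58 LD3_c41) Lrfl Lrfl
theorem f426812 : Led Lsl_af (LP (LK LD1_c7 LD2_c42 LD3_c9)) = (LP (LK LD1_c5 LD2_c58 LD3_c41)) :=
  Lgr Lrot45 (Lpr_ft (K52.f426781 IH) (Lpr_at (K52.f426760 IH) (Lpr_ft (f426811 IH) (Lpn (LP (LK LD1_c5 LD2_c58 LD3_c41))))))
theorem f711478 : Led Lsl_gf (LP (LK LD1_c9 LD2_c6 LD3_c32)) = (LP (LK LD1_c11 LD2_c41 LD3_c51)) :=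
  Lgr Lrot47 (Lpr_gt (K52.f711476 IH) (Lpr_af (f426812 IH) (Lpe (f426811 IH) (Lpn (LP (LK LD1_c11 LD2_c41 LD3_c51))))))
theorem f25332 : Led Lsl_ct (LP (LK LD1_c16 LD2_c58 LD3_c19)) = (LP (LK LD1_c9 LD2_c6 LD3_c25)) :=
  Lre_c IH (LK LD1_c16 LD2_c58 LD3_c19) (LK LD1_c9 LD2_c6 LD3_c25) Lrfl Lrfl
theorem f25344 : Led Lsl_gt (LP (LK LD1_c26 LD2_c53 LD3_c51)) = (LP (LK LD1_c16 LD2_c58 LD3_c19)) :=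
  Lre_g IH (LK LD1_c26 LD2_c53 LD3_c51) (LK LD1_c16 LD2_c58 LD3_c19) Lrfl Lrfl
theorem f426810 : Led Lsl_dt (LP (LK LD1_c11 LD2_c41 LD3_c51)) = (LP (LK LD1_c20 LD2_c41 LD3_c58)) :=
  Lre_d IH (LK LD1_c11 LD2_c41 LD3_c51) (LK LD1_c20 LD2_c41 LD3_c58) Lrfl Lrfl
theorem f710092 : Led Lsl_gt (LP (LK LD1_c20 LD2_c41 LD3_c58)) = (LP (LK LD1_c22 LD2_c7 LD3_c47)) :=
  Lgr Lrot49 (Lpe (f426810 IH) (Lpe (K52.f642175 IH) (Lpe (K52.f25235 IH) (Lpr_gt (K52.f146514 IH) (Lpr_dt (K52.f146515 IH) (Lpr_gt (K52.f146516 IH) (Lpr_dt (K52.f710066 IH) (Lpe (f710064 IH) (Lpe (f710065 IH) (Lpn (LP (LK LD1_c22 LD2_c7 LD3_c47))))))))))))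
theorem f711584 : Led Lsl_cf (LP (LK LD1_c26 LD2_c53 LD3_c51)) = (LP (LK LD1_c22 LD2_c7 LD3_c47)) :=
  Lgr Lrot169 (Lpr_gt (f25344 IH) (Lpr_ct (f25332 IH) (Lpe (K8.f25337 IH) (Lpe (K8.f25251 IH) (Lpe (K52.f25230 IH) (Lpe (K52.f25282 IH) (Lpr_gf (f711478 IH) (Lpe (K52.f426745 IH) (Lpr_gt (f710092 IH) (Lpn (LP (LK LD1_c22 LD2_c7 LD3_c47))))))))))))
theorem f711586 : Led Lsl_ct (LP (LK LD1_c26 LD2_c53 LD3_c51)) = (LP (LK LD1_c22 LD2_c7 LD3_c47)) :=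
  Lgr Lrot59 (Lpr_cf (f711584 IH) (Lpn (LP (LK LD1_c22 LD2_c7 LD3_c47))))
theorem f711580 : Led Lsl_dt (LP (LK LD1_c32 LD2_c17 LD3_c34)) = (LP (LK LD1_c26 LD2_c53 LD3_c51)) :=
  Lre_d IH (LK LD1_c32 LD2_c17 LD3_c34) (LK LD1_c26 LD2_c53 LD3_c51) Lrfl Lrfl
theorem f631787 : Led Lsl_ct (LP (LK LD1_c9 LD2_c6 LD3_c35)) = (LP (LK LD1_c16 LD2_c58 LD3_c33)) :=
  Lre_c IH (LK LD1_c9 LD2_c6 LD3_c35) (LK LD1_c16 LD2_c58 LD3_c33) Lrfl Lrfl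
theorem f644883 : Led Lsl_dt (LP (LK LD1_c16 LD2_c58 LD3_c33)) = (LP (LK LD1_c26 LD2_c54 LD3_c11)) :=
  Lre_d IH (LK LD1_c16 LD2_c58 LD3_c33) (LK LD1_c26 LD2_c54 LD3_c11) Lrfl Lrfl
theorem f713287 : Led Lsl_cf (LP (LK LD1_c32 LD2_c17 LD3_c34)) = (LP (LK LD1_c26 LD2_c54 LD3_c11)) :=
  Lgr Lrot116 (Lpr_dt (f711580 IH) (Lpr_ct (f711586 IH) (Lpr_dt (f710065 IH) (Lpr_ct (f710064 IH) (Lpe (f713260 IH) (Lpr_ff (f713279 IH) (Lpe (K52.f710244 IH) (Lpr_ct (f631787 IH) (Lpr_dt (f644883 IH) (Lpn (LP (LK LD1_c26 LD2_c54 LD3_c11))))))))))))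
theorem f713289 : Led Lsl_ct (LP (LK LD1_c32 LD2_c17 LD3_c34)) = (LP (LK LD1_c26 LD2_c54 LD3_c11)) :=
  Lgr Lrot59 (Lpr_cf (f713287 IH) (Lpn (LP (LK LD1_c26 LD2_c54 LD3_c11))))
theorem f711564 : Led Lsl_dt (LP (LK LD1_c26 LD2_c53 LD3_c51)) = (LP (LK LD1_c32 LD2_c17 LD3_c34)) :=
  Lre_d IH (LK LD1_c26 LD2_c53 LD3_c51) (LK LD1_c32 LD2_c17 LD3_c34) Lrfl Lrfl
theorem f710089 : Led Lsl_dt (LP (LK LD1_c12 LD2_c57 LD3_c56)) = (LP (LK LD1_c22 LD2_c7 LD3_c47)) :=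
  Lre_d IH (LK LD1_c12 LD2_c57 LD3_c56) (LK LD1_c22 LD2_c7 LD3_c47) Lrfl Lrfl
theorem f454555 : Led Lsl_ct (LP (LK LD1_c6 LD2_c47 LD3_c25)) = (LP (LK LD1_c12 LD2_c57 LD3_c56)) :=
  Lre_c IH (LK LD1_c6 LD2_c47 LD3_c25) (LK LD1_c12 LD2_c57 LD3_c56) Lrfl Lrfl
theorem f642972 : Led Lsl_ct (LP (LK LD1_c16 LD2_c58 LD3_c36)) = (LP (LK LD1_c9 LD2_c6 LD3_c36)) :=
  Lre_c IH (LK LD1_c16 LD2_c58 LD3_c36) (LK LD1_c9 LD2_c6 LD3_c36) Lrfl Lrfl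
theorem f710068 : Led Lsl_dt (LP (LK LD1_c26 LD2_c54 LD3_c14)) = (LP (LK LD1_c16 LD2_c58 LD3_c36)) :=
  Lre_d IH (LK LD1_c26 LD2_c54 LD3_c14) (LK LD1_c16 LD2_c58 LD3_c36) Lrfl Lrfl
theorem f713316 : Led Lsl_ff (LP (LK LD1_c29 LD2_c35 LD3_c56)) = (LP (LK LD1_c26 LD2_c54 LD3_c14)) :=
  Lgr Lrot103 (Lpr_at (f713312 IH) (Lpe (f713289 IH) (Lpe (f711564 IH) (Lpr_cf (f711584 IH) (Lpe (f710089 IH) (Lpe (f454555 IH) (Lpe (K52.f710066 IH) (Lpe (f642972 IH) (Lpe (f710068 IH) (Lpn (LP (LK LD1_c26 LD2_c54 LD3_c14))))))))))))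
theorem f713322 : Led Lsl_ft (LP (LK LD1_c29 LD2_c35 LD3_c56)) = (LP (LK LD1_c26 LD2_c54 LD3_c14)) :=
  Lgr Lrot48 (Lpr_ff (f713316 IH) (Lpn (LP (LK LD1_c26 LD2_c54 LD3_c14))))
theorem f713324 : Led Lsl_ff (LP (LK LD1_c20 LD2_c42 LD3_c1)) = (LP (LK LD1_c16 LD2_c58 LD3_c36)) :=
  Lgr Lrot19 (Lpr_dt (f600032 IH) (Lpr_ft (f713322 IH) (Lpr_dt (f710068 IH) (Lpn (LP (LK LD1_c16 LD2_c58 LD3_c36))))))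
theorem f643595 : Led Lsl_ct (LP (LK LD1_c20 LD2_c42 LD3_c1)) = (LP (LK LD1_c16 LD2_c58 LD3_c3)) :=
  Lgr Lrot59 (Lpr_cf (K52.f643592 IH) (Lpn (LP (LK LD1_c16 LD2_c58 LD3_c3))))
theorem f713330 : Led Lsl_ft (LP (LK LD1_c16 LD2_c58 LD3_c3)) = (LP (LK LD1_c9 LD2_c6 LD3_c36)) :=
  Lgr Lrot4 (Lpe (f643595 IH) (Lpr_ff (f713324 IH) (Lpe (K52.f621162 IH) (Lpn (LP (LK LD1_c9 LD2_c6 LD3_c36))))))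
theorem f713332 : Led Lsl_df (LP (LK LD1_c16 LD2_c58 LD3_c3)) = (LP (LK LD1_c12 LD2_c57 LD3_c39)) :=
  Lgr Lrot78 (Lpr_ft (f713330 IH) (Lpr_dt (K52.f710066 IH) (Lpe (f713269 IH) (Lpn (LP (LK LD1_c12 LD2_c57 LD3_c39))))))
theorem f79902 : Led Lsl_et (LP (LK LD1_c3 LD2_c59 LD3_c53)) = (LP (LK LD1_c8 LD2_c0 LD3_c55)) :=
  Lre_e IH (LK LD1_c3 LD2_c59 LD3_c53) (LK LD1_c8 LD2_c0 LD3_c55) Lrfl Lrfl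
theorem f79904 : Led Lsl_gt (LP (LK LD1_c15 LD2_c5 LD3_c40)) = (LP (LK LD1_c8 LD2_c0 LD3_c55)) :=
  Lre_g IH (LK LD1_c15 LD2_c5 LD3_c40) (LK LD1_c8 LD2_c0 LD3_c55) Lrfl Lrfl
theorem f713389 : Led Lsl_ef (LP (LK LD1_c15 LD2_c5 LD3_c40)) = (LP (LK LD1_c12 LD2_c57 LD3_c39)) :=
  Lgr Lrot114 (Lpr_gt (f79904 IH) (Lpe (f79902 IH) (Lpr_dt (K51.f79910 IH) (Lpr_gt (K49.f415585 IH) (Lpe (K52.f713010 IH) (Lpr_et (K52.f151741 IH) (Lpr_gt (K52.f436238 IH) (Lpr_dt (K45.f157941 IH) (Lpr_gt (K52.f157947 IH) (Lpr_df (f713332 IH) (Lpn (LP (LK LD1_c12 LD2_c57 LD3_c39)))))))))))))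
theorem f112939 : Led Lsl_et (LP (LK LD1_c9 LD2_c6 LD3_c2)) = (LP (LK LD1_c4 LD2_c34 LD3_c34)) :=
  Lre_e IH (LK LD1_c9 LD2_c6 LD3_c2) (LK LD1_c4 LD2_c34 LD3_c34) Lrfl Lrfl
theorem f713396 : Led Lsl_ft (LP (LK LD1_c15 LD2_c5 LD3_c40)) = (LP (LK LD1_c9 LD2_c6 LD3_c2)) :=
  Lgr Lrot86 (Lpr_ef (f713389 IH) (Lpr_ff (f713269 IH) (Lpe (K52.f710073 IH) (Lpq (f713223 IH) (Lpe (K50.f699576 IH) (Lpe (f112939 IH) (Lpn (LP (LK LD1_c9 LD2_c6 LD3_c2)))))))))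
theorem f615503 : Led Lsl_et (LP (LK LD1_c2 LD2_c51 LD3_c59)) = (LP (LK LD1_c5 LD2_c51 LD3_c28)) :=
  Lre_e IH (LK LD1_c2 LD2_c51 LD3_c59) (LK LD1_c5 LD2_c51 LD3_c28) Lrfl Lrfl
theorem f615504 : Led Lsl_et (LP (LK LD1_c11 LD2_c30 LD3_c22)) = (LP (LK LD1_c5 LD2_c51 LD3_c27)) :=
  Lre_e IH (LK LD1_c11 LD2_c30 LD3_c22) (LK LD1_c5 LD2_c51 LD3_c27) Lrfl Lrfl
theorem f615505 : Led Lsl_et (LP (LK LD1_c4 LD2_c34 LD3_c34)) = (LP (LK LD1_c9 LD2_c6 LD3_c2)) :=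
  Lre_e IH (LK LD1_c4 LD2_c34 LD3_c34) (LK LD1_c9 LD2_c6 LD3_c2) Lrfl Lrfl
theorem f615506 : Led Lsl_df (LP (LK LD1_c11 LD2_c30 LD3_c22)) = (LP (LK LD1_c9 LD2_c6 LD3_c2)) :=
  Lgr Lrot70 (Lpr_et (f615504 IH) (Lpr_dt (K53.f22356 IH) (Lpr_et (f615503 IH) (Lpr_dt (K50.f615494 IH) (Lpr_et (f615505 IH) (Lpn (LP (LK LD1_c9 LD2_c6 LD3_c2))))))))
theorem f22331 : Led Lsl_gt (LP (LK LD1_c5 LD2_c51 LD3_c5)) = (LP (LK LD1_c2 LD2_c51 LD3_c49)) :=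
  Lre_g IH (LK LD1_c5 LD2_c51 LD3_c5) (LK LD1_c2 LD2_c51 LD3_c49) Lrfl Lrfl
theorem f557637 : Led Lsl_et (LP (LK LD1_c11 LD2_c29 LD3_c41)) = (LP (LK LD1_c18 LD2_c23 LD3_c36)) :=
  Lgr Lrot122 (Lpr_dt (K53.f22281 IH) (Lpr_gt (f22331 IH) (Lpr_df (K7.f22286 IH) (Lpr_et (K54.f22330 IH) (Lpr_gt (K40.f22332 IH) (Lpr_dt (K40.f557619 IH) (Lpr_gt (K38.f495663 IH) (Lpqs (K38.f537970 IH) (Lpr_df (K36.f334858 IH) (Lpr_et (K36.f334865 IH) (Lpr_gt (K52.f165723 IH) (Lpn (LP (LK LD1_c18 LD2_c23 LD3_c36))))))))))))))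
theorem f380301 : Led Lsl_dt (LP (LK LD1_c2 LD2_c45 LD3_c18)) = (LP (LK LD1_c1 LD2_c18 LD3_c59)) :=
  Lre_d IH (LK LD1_c2 LD2_c45 LD3_c18) (LK LD1_c1 LD2_c18 LD3_c59) Lrfl Lrfl
theorem f195775 : Led Lsl_gt (LP (LK LD1_c5 LD2_c38 LD3_c47)) = (LP (LK LD1_c11 LD2_c8 LD3_c31)) :=
  Lre_g IH (LK LD1_c5 LD2_c38 LD3_c47) (LK LD1_c11 LD2_c8 LD3_c31) Lrfl Lrfl
theorem f621187 : Led Lsl_et (LP (LK LD1_c5 LD2_c51 LD3_c31)) = (LP (LK LD1_c11 LD2_c8 LD3_c31)) :=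
  Lgr Lrot122 (Lpr_dt (K53.f22299 IH) (Lpr_gt (K51.f22296 IH) (Lpr_df (K53.f22234 IH) (Lpr_et (K53.f22293 IH) (Lpr_gt (K27.f22371 IH) (Lpr_dt (K38.f548132 IH) (Lpqs (K38.f548366 IH) (Lpq (K38.f548366 IH) (Lpe (K38.f495659 IH) (Lpe (f380301 IH) (Lpr_et (K40.f380316 IH) (Lpr_gt (f195775 IH) (Lpn (LP (LK LD1_c11 LD2_c8 LD3_c31)))))))))))))))
theorem f621193 : Led Lsl_ef (LP (LK LD1_c5 LD2_c51 LD3_c31)) = (LP (LK LD1_c11 LD2_c8 LD3_c31)) :=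
  Lgr Lrot88 (Lpr_et (f621187 IH) (Lpn (LP (LK LD1_c11 LD2_c8 LD3_c31))))
theorem f713164 : Led Lsl_at (LP (LK LD1_c18 LD2_c23 LD3_c36)) = (LP (LK LD1_c11 LD2_c8 LD3_c31)) :=
  Lgr Lrot80 (Lpe (f557637 IH) (Lpr_af (K53.f713160 IH) (Lpr_ef (f621193 IH) (Lpn (LP (LK LD1_c11 LD2_c8 LD3_c31))))))
theorem f195779 : Led Lsl_gt (LP (LK LD1_c11 LD2_c8 LD3_c32)) = (LP (LK LD1_c5 LD2_c38 LD3_c47)) :=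
  Lre_g IH (LK LD1_c11 LD2_c8 LD3_c32) (LK LD1_c5 LD2_c38 LD3_c47) Lrfl Lrfl
theorem f713186 : Led Lsl_ff (LP (LK LD1_c18 LD2_c23 LD3_c36)) = (LP (LK LD1_c11 LD2_c8 LD3_c32)) :=
  Lgr Lrot52 (Lpr_at (f713164 IH) (Lpe (f195775 IH) (Lpe (f195779 IH) (Lpn (LP (LK LD1_c11 LD2_c8 LD3_c32))))))
theorem f557639 : Led Lsl_ef (LP (LK LD1_c11 LD2_c29 LD3_c41)) = (LP (LK LD1_c18 LD2_c23 LD3_c36)) :=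
  Lgr Lrot88 (Lpr_et (f557637 IH) (Lpn (LP (LK LD1_c18 LD2_c23 LD3_c36))))
theorem f22358 : Led Lsl_et (LP (LK LD1_c5 LD2_c51 LD3_c27)) = (LP (LK LD1_c11 LD2_c30 LD3_c22)) :=
  Lre_e IH (LK LD1_c5 LD2_c51 LD3_c27) (LK LD1_c11 LD2_c30 LD3_c22) Lrfl Lrfl
theorem f380339 : Led Lsl_et (LP (LK LD1_c20 LD2_c2 LD3_c7)) = (LP (LK LD1_c11 LD2_c8 LD3_c32)) :=
  Lre_e IH (LK LD1_c20 LD2_c2 LD3_c7) (LK LD1_c11 LD2_c8 LD3_c32) Lrfl Lrfl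
theorem f713190 : Led Lsl_ft (LP (LK LD1_c11 LD2_c30 LD3_c22)) = (LP (LK LD1_c20 LD2_c2 LD3_c7)) :=
  Lgr Lrot86 (Lpe (f22358 IH) (Lpr_ff (K53.f713154 IH) (Lpr_ef (f557639 IH) (Lpr_ff (f713186 IH) (Lpe (f380339 IH) (Lpn (LP (LK LD1_c20 LD2_c2 LD3_c7))))))))
theorem f713400 : Led Lsl_df (LP (LK LD1_c15 LD2_c5 LD3_c40)) = (LP (LK LD1_c20 LD2_c2 LD3_c7)) :=
  Lgr Lrot78 (Lpr_ft (f713396 IH) (Lpe (f615506 IH) (Lpr_ft (f713190 IH) (Lpn (LP (LK LD1_c20 LD2_c2 LD3_c7))))))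
theorem f545010 : Led Lsl_gt (LP (LK LD1_c5 LD2_c7 LD3_c57)) = (LP (LK LD1_c10 LD2_c6 LD3_c16)) :=
  Lre_g IH (LK LD1_c5 LD2_c7 LD3_c57) (LK LD1_c10 LD2_c6 LD3_c16) Lrfl Lrfl
theorem f545057 : Led Lsl_dt (LP (LK LD1_c10 LD2_c6 LD3_c16)) = (LP (LK LD1_c18 LD2_c25 LD3_c18)) :=
  Lre_d IH (LK LD1_c10 LD2_c6 LD3_c16) (LK LD1_c18 LD2_c25 LD3_c18) Lrfl Lrfl
theorem f713410 : Led Lsl_gf (LP (LK LD1_c15 LD2_c5 LD3_c40)) = (LP (LK LD1_c18 LD2_c25 LD3_c18)) :=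
  Lgr Lrot134 (Lpr_df (f713400 IH) (Lpr_et (f380339 IH) (Lpr_gt (f195779 IH) (Lpe (K40.f380316 IH) (Lpr_dt (f380301 IH) (Lpr_gt (K38.f495658 IH) (Lpq (K38.f544988 IH) (Lpr_df (K38.f545047 IH) (Lpr_et (K38.f544992 IH) (Lpr_gt (f545010 IH) (Lpr_dt (f545057 IH) (Lpn (LP (LK LD1_c18 LD2_c25 LD3_c18))))))))))))))
theorem f79900 : Led Lsl_at (LP (LK LD1_c15 LD2_c5 LD3_c34)) = (LP (LK LD1_c8 LD2_c0 LD3_c55)) :=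
  Lre_a IH (LK LD1_c15 LD2_c5 LD3_c34) (LK LD1_c8 LD2_c0 LD3_c55) Lrfl Lrfl
theorem f713412 : Led Lsl_ff (LP (LK LD1_c15 LD2_c5 LD3_c34)) = (LP (LK LD1_c18 LD2_c25 LD3_c18)) :=
  Lgr Lrot52 (Lpr_at (f79900 IH) (Lpe (f79904 IH) (Lpr_gf (f713410 IH) (Lpn (LP (LK LD1_c18 LD2_c25 LD3_c18))))))
theorem f713418 : Led Lsl_ft (LP (LK LD1_c15 LD2_c5 LD3_c34)) = (LP (LK LD1_c18 LD2_c25 LD3_c18)) :=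
  Lgr Lrot48 (Lpr_ff (f713412 IH) (Lpn (LP (LK LD1_c18 LD2_c25 LD3_c18))))
theorem f79891 : Led Lsl_bt (LP (LK LD1_c8 LD2_c0 LD3_c55)) = (LP (LK LD1_c3 LD2_c59 LD3_c55)) :=
  Lre_b IH (LK LD1_c8 LD2_c0 LD3_c55) (LK LD1_c3 LD2_c59 LD3_c55) Lrfl Lrfl
theorem f73221 : Led Lsl_bt (LP (LK LD1_c2 LD2_c27 LD3_c52)) = (LP (LK LD1_c5 LD2_c0 LD3_c12)) :=
  Lre_b IH (LK LD1_c2 LD2_c27 LD3_c52) (LK LD1_c5 LD2_c0 LD3_c12) Lrfl Lrfl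
theorem f633728 : Led Lsl_bf (LP (LK LD1_c15 LD2_c5 LD3_c34)) = (LP (LK LD1_c9 LD2_c50 LD3_c53)) :=
  Lgr Lrot81 (Lpr_at (f79900 IH) (Lpr_bt (f79891 IH) (Lpr_at (K51.f633723 IH) (Lpr_bt (f73221 IH) (Lpr_at (K54.f633727 IH) (Lpn (LP (LK LD1_c9 LD2_c50 LD3_c53))))))))
theorem f713422 : Led Lsl_bf (LP (LK LD1_c10 LD2_c6 LD3_c61)) = (LP (LK LD1_c18 LD2_c25 LD3_c18)) :=
  Lgr Lrot61 (Lpe (K54.f707164 IH) (Lpe (f633728 IH) (Lpr_ft (f713418 IH) (Lpn (LP (LK LD1_c18 LD2_c25 LD3_c18))))))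
theorem f186681 : Led Lsl_dt (LP (LK LD1_c10 LD2_c6 LD3_c61)) = (LP (LK LD1_c5 LD2_c8 LD3_c14)) :=
  Lre_d IH (LK LD1_c10 LD2_c6 LD3_c61) (LK LD1_c5 LD2_c8 LD3_c14) Lrfl Lrfl
theorem f713424 : Led Lsl_bt (LP (LK LD1_c5 LD2_c8 LD3_c14)) = (LP (LK LD1_c10 LD2_c6 LD3_c16)) :=
  Lgr Lrot95 (Lpe (f186681 IH) (Lpr_bf (f713422 IH) (Lpe (f545057 IH) (Lpn (LP (LK LD1_c10 LD2_c6 LD3_c16))))))
theorem f739563 : Led Lsl_ff (LP (LK LD1_c10 LD2_c18 LD3_c52)) = (LP (LK LD1_c10 LD2_c6 LD3_c16)) :=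
  Lgr Lrot25 (Lpr_bt (f180717 IH) (Lpqs (K54.f739359 IH) (Lpe (K54.f722325 IH) (Lpr_bt (f713424 IH) (Lpn (LP (LK LD1_c10 LD2_c6 LD3_c16)))))))
theorem f739569 : Led Lsl_ft (LP (LK LD1_c10 LD2_c18 LD3_c52)) = (LP (LK LD1_c10 LD2_c6 LD3_c16)) :=
  Lgr Lrot48 (Lpr_ff (f739563 IH) (Lpn (LP (LK LD1_c10 LD2_c6 LD3_c16))))
theorem f739573 : Led Lsl_df (LP (LK LD1_c10 LD2_c18 LD3_c52)) = (LP (LK LD1_c15 LD2_c5 LD3_c34)) :=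
  Lgr Lrot78 (Lpr_ft (f739569 IH) (Lpr_dt (f545057 IH) (Lpe (f713412 IH) (Lpn (LP (LK LD1_c15 LD2_c5 LD3_c34))))))
theorem f633865 : Led Lsl_et (LP (LK LD1_c15 LD2_c5 LD3_c34)) = (LP (LK LD1_c8 LD2_c0 LD3_c52)) :=
  Lre_e IH (LK LD1_c15 LD2_c5 LD3_c34) (LK LD1_c8 LD2_c0 LD3_c52) Lrfl Lrfl
def v14174 : LQ := Led Lsl_bt (LP (LK LD1_c5 LD2_c0 LD3_c22))
theorem f720831 : Led Lsl_bt (LP (LK LD1_c5 LD2_c0 LD3_c22)) = v14174 :=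
  Lrfl
theorem f720834 : Led Lsl_ff K53.v6600 = v14174 :=
  Lgr Lrot25 (Lpe (K53.f654377 IH) (Lpe (K50.f504028 IH) (Lpr_bt (f720831 IH) (Lpn v14174))))
theorem f701589 : Led Lsl_dt K53.v6600 = K53.v13188 :=
  Lgr Lrot42 (Lpr_df (K53.f701584 IH) (Lpn K53.v13188))
theorem f720835 : Led Lsl_dt (LP (LK LD1_c6 LD2_c12 LD3_c44)) = v14174 :=
  Lgr Lrot60 (Lpr_ff (K53.f701586 IH) (Lpe (f701589 IH) (Lpr_ff (f720834 IH) (Lpn v14174))))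
theorem f720837 : Led Lsl_gt K53.v6444 = v14174 :=
  Lgr Lrot139 (Lpe (K53.f653441 IH) (Lpe (K51.f454456 IH) (Lpr_ef (K24.f416224 IH) (Lpe (K51.f710232 IH) (Lpe (K51.f589487 IH) (Lpr_df (K51.f589532 IH) (Lpe (K51.f117832 IH) (Lpr_gf (K52.f640495 IH) (Lpq (K52.f712151 IH) (Lpe (K53.f416402 IH) (Lpr_dt (f720835 IH) (Lpn v14174))))))))))))
theorem f739577 : Led Lsl_gf (LP (LK LD1_c10 LD2_c18 LD3_c52)) = (LP (LK LD1_c10 LD2_c6 LD3_c17)) :=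
  Lgr Lrot134 (Lpr_df (f739573 IH) (Lpr_et (f633865 IH) (Lpr_gt (K53.f633866 IH) (Lpq (K53.f713813 IH) (Lpr_ef (K54.f699565 IH) (Lpqs (K54.f707388 IH) (Lpr_dt (K53.f653441 IH) (Lpr_gt (f720837 IH) (Lpe (f720835 IH) (Lpr_et (K53.f416402 IH) (Lpqs (K52.f712151 IH) (Lpe (K52.f640495 IH) (Lpr_dt (K38.f545006 IH) (Lpn (LP (LK LD1_c10 LD2_c6 LD3_c17))))))))))))))))
theorem f545102 : Led Lsl_dt (LP (LK LD1_c18 LD2_c25 LD3_c18)) = (LP (LK LD1_c10 LD2_c6 LD3_c16)) :=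
  Lre_d IH (LK LD1_c18 LD2_c25 LD3_c18) (LK LD1_c10 LD2_c6 LD3_c16) Lrfl Lrfl
theorem f739567 : Led Lsl_dt (LP (LK LD1_c10 LD2_c18 LD3_c52)) = (LP (LK LD1_c15 LD2_c5 LD3_c34)) :=
  Lgr Lrot60 (Lpr_ff (f739563 IH) (Lpe (f545102 IH) (Lpe (f713418 IH) (Lpn (LP (LK LD1_c15 LD2_c5 LD3_c34))))))
theorem f615510 : Led Lsl_dt (LP (LK LD1_c11 LD2_c30 LD3_c22)) = (LP (LK LD1_c9 LD2_c6 LD3_c2)) :=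
  Lgr Lrot42 (Lpr_df (f615506 IH) (Lpn (LP (LK LD1_c9 LD2_c6 LD3_c2))))
theorem f739581 : Led Lsl_gt (LP (LK LD1_c15 LD2_c5 LD3_c34)) = (LP (LK LD1_c9 LD2_c6 LD3_c2)) :=
  Lgr Lrot139 (Lpe (f739567 IH) (Lpr_gf (f739577 IH) (Lpr_ef (K51.f589518 IH) (Lpe (K51.f589524 IH) (Lpr_gf (K52.f579226 IH) (Lpr_df (K53.f710834 IH) (Lpe (K53.f713211 IH) (Lpe (K53.f438265 IH) (Lpe (f615504 IH) (Lpr_dt (f615510 IH) (Lpn (LP (LK LD1_c9 LD2_c6 LD3_c2)))))))))))))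
theorem f79908 : Led Lsl_at (LP (LK LD1_c8 LD2_c0 LD3_c55)) = (LP (LK LD1_c15 LD2_c5 LD3_c34)) :=
  Lre_a IH (LK LD1_c8 LD2_c0 LD3_c55) (LK LD1_c15 LD2_c5 LD3_c34) Lrfl Lrfl
theorem f633740 : Led Lsl_ff (LP (LK LD1_c4 LD2_c7 LD3_c26)) = (LP (LK LD1_c4 LD2_c6 LD3_c4)) :=
  Lgr Lrot3 (Lpr_ft (K51.f633734 IH) (Lpn (LP (LK LD1_c4 LD2_c6 LD3_c4))))
theorem f55717 : Led Lsl_bt (LP (LK LD1_c8 LD2_c12 LD3_c53)) = (LP (LK LD1_c4 LD2_c6 LD3_c4)) :=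
  Lre_b IH (LK LD1_c8 LD2_c12 LD3_c53) (LK LD1_c4 LD2_c6 LD3_c4) Lrfl Lrfl
theorem f633742 : Led Lsl_ft (LP (LK LD1_c8 LD2_c14 LD3_c59)) = (LP (LK LD1_c8 LD2_c12 LD3_c53)) :=
  Lgr Lrot75 (Lpe (K52.f79890 IH) (Lpr_ff (f633740 IH) (Lpe (f55717 IH) (Lpn (LP (LK LD1_c8 LD2_c12 LD3_c53))))))
theorem f504802 : Led Lsl_bt (LP (LK LD1_c4 LD2_c6 LD3_c4)) = (LP (LK LD1_c8 LD2_c12 LD3_c53)) :=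
  Lre_b IH (LK LD1_c4 LD2_c6 LD3_c4) (LK LD1_c8 LD2_c12 LD3_c53) Lrfl Lrfl
theorem f438616 : Led Lsl_bt (LP (LK LD1_c12 LD2_c17 LD3_c48)) = (LP (LK LD1_c6 LD2_c22 LD3_c5)) :=
  Lre_b IH (LK LD1_c12 LD2_c17 LD3_c48) (LK LD1_c6 LD2_c22 LD3_c5) Lrfl Lrfl
theorem f504803 : Led Lsl_dt (LP (LK LD1_c8 LD2_c12 LD3_c53)) = (LP (LK LD1_c12 LD2_c17 LD3_c48)) :=
  Lgr Lrot79 (Lpe (f504802 IH) (Lpr_df (K32.f504799 IH) (Lpe (f438616 IH) (Lpn (LP (LK LD1_c12 LD2_c17 LD3_c48))))))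
theorem f633744 : Led Lsl_ff (LP (LK LD1_c8 LD2_c0 LD3_c55)) = (LP (LK LD1_c12 LD2_c17 LD3_c48)) :=
  Lgr Lrot19 (Lpe (K52.f79898 IH) (Lpr_ft (f633742 IH) (Lpr_dt (f504803 IH) (Lpn (LP (LK LD1_c12 LD2_c17 LD3_c48))))))
theorem f713420 : Led Lsl_af (LP (LK LD1_c12 LD2_c17 LD3_c48)) = (LP (LK LD1_c18 LD2_c25 LD3_c18)) :=
  Lgr Lrot45 (Lpe (f633744 IH) (Lpr_at (f79908 IH) (Lpr_ft (f713418 IH) (Lpn (LP (LK LD1_c18 LD2_c25 LD3_c18))))))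
theorem f739583 : Led Lsl_gf (LP (LK LD1_c12 LD2_c17 LD3_c48)) = (LP (LK LD1_c9 LD2_c6 LD3_c2)) :=
  Lgr Lrot76 (Lpr_af (f713420 IH) (Lpe (f713418 IH) (Lpr_gt (f739581 IH) (Lpn (LP (LK LD1_c9 LD2_c6 LD3_c2))))))
theorem f438614 : Led Lsl_bt (LP (LK LD1_c6 LD2_c22 LD3_c5)) = (LP (LK LD1_c12 LD2_c17 LD3_c48)) :=
  Lre_b IH (LK LD1_c6 LD2_c22 LD3_c5) (LK LD1_c12 LD2_c17 LD3_c48) Lrfl Lrfl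
theorem f506995 : Led Lsl_ff (LP (LK LD1_c3 LD2_c14 LD3_c28)) = (LP (LK LD1_c2 LD2_c21 LD3_c57)) :=
  Lgr Lrot23 (Lpe (K0.f23872 IH) (Lpr_ft (K35.f506993 IH) (Lpr_ct (K35.f27070 IH) (Lpn (LP (LK LD1_c2 LD2_c21 LD3_c57))))))
theorem f446086 : Led Lsl_af (LP (LK LD1_c3 LD2_c19 LD3_c33)) = (LP (LK LD1_c3 LD2_c14 LD3_c28)) :=
  Lgr Lrot0 (Lpr_at (K32.f446084 IH) (Lpn (LP (LK LD1_c3 LD2_c14 LD3_c28))))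
theorem f633530 : Led Lsl_gf (LP (LK LD1_c3 LD2_c19 LD3_c33)) = K35.v4463 :=
  Lgr Lrot76 (Lpr_af (f446086 IH) (Lpr_ff (f506995 IH) (Lpr_gt (K35.f633528 IH) (Lpn K35.v4463))))
theorem f507011 : Led Lsl_cf (LP (LK LD1_c3 LD2_c19 LD3_c33)) = (LP (LK LD1_c4 LD2_c39 LD3_c6)) :=
  Lgr Lrot166 (Lpr_gt (K35.f507007 IH) (Lpe (K0.f25408 IH) (Lpr_gt (K0.f25405 IH) (Lpr_dt (K32.f25521 IH) (Lpr_ct (K29.f25168 IH) (Lpe (K1.f22994 IH) (Lpe (K0.f22993 IH) (Lpr_df (K0.f22970 IH) (Lpe (K35.f22991 IH) (Lpn (LP (LK LD1_c4 LD2_c39 LD3_c6))))))))))))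
theorem f653024 : Led Lsl_ft (LP (LK LD1_c6 LD2_c32 LD3_c40)) = K46.v6369 :=
  Lgr Lrot48 (Lpr_ff (K50.f653021 IH) (Lpn K46.v6369))
theorem f653030 : Led Lsl_ft (LP (LK LD1_c9 LD2_c12 LD3_c25)) = (LP (LK LD1_c6 LD2_c2 LD3_c37)) :=
  Lgr Lrot86 (Lpr_ef (K46.f653026 IH) (Lpe (f653024 IH) (Lpr_ef (K42.f614642 IH) (Lpe (K42.f614666 IH) (Lpe (K42.f505197 IH) (Lpn (LP (LK LD1_c6 LD2_c2 LD3_c37))))))))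
theorem f653032 : Led Lsl_bf (LP (LK LD1_c9 LD2_c12 LD3_c25)) = (LP (LK LD1_c4 LD2_c39 LD3_c6)) :=
  Lgr Lrot61 (Lpr_ft (f653030 IH) (Lpr_bt (K46.f443995 IH) (Lpe (K35.f507741 IH) (Lpn (LP (LK LD1_c4 LD2_c39 LD3_c6))))))
theorem f80005 : Led Lsl_ct (LP (LK LD1_c4 LD2_c38 LD3_c18)) = (LP (LK LD1_c9 LD2_c12 LD3_c20)) :=
  Lre_c IH (LK LD1_c4 LD2_c38 LD3_c18) (LK LD1_c9 LD2_c12 LD3_c20) Lrfl Lrfl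
theorem f614656 : Led Lsl_bt (LP (LK LD1_c16 LD2_c57 LD3_c51)) = (LP (LK LD1_c9 LD2_c6 LD3_c2)) :=
  Lre_b IH (LK LD1_c16 LD2_c57 LD3_c51) (LK LD1_c9 LD2_c6 LD3_c2) Lrfl Lrfl
theorem f614652 : Led Lsl_et (LP (LK LD1_c16 LD2_c57 LD3_c51)) = (LP (LK LD1_c9 LD2_c6 LD3_c1)) :=
  Lre_e IH (LK LD1_c16 LD2_c57 LD3_c51) (LK LD1_c9 LD2_c6 LD3_c1) Lrfl Lrfl
theorem f614653 : Led Lsl_et (LP (LK LD1_c9 LD2_c11 LD3_c31)) = (LP (LK LD1_c17 LD2_c5 LD3_c11)) :=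
  Lre_e IH (LK LD1_c9 LD2_c11 LD3_c31) (LK LD1_c17 LD2_c5 LD3_c11) Lrfl Lrfl
theorem f614654 : Led Lsl_cf (LP (LK LD1_c16 LD2_c57 LD3_c51)) = (LP (LK LD1_c17 LD2_c5 LD3_c11)) :=
  Lgr Lrot39 (Lpr_et (f614652 IH) (Lpr_ct (K50.f614646 IH) (Lpr_et (f614653 IH) (Lpn (LP (LK LD1_c17 LD2_c5 LD3_c11))))))
theorem f614657 : Led Lsl_ct (LP (LK LD1_c16 LD2_c57 LD3_c51)) = (LP (LK LD1_c17 LD2_c5 LD3_c11)) :=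
  Lgr Lrot59 (Lpr_cf (f614654 IH) (Lpn (LP (LK LD1_c17 LD2_c5 LD3_c11))))
theorem f739587 : Led Lsl_gt (LP (LK LD1_c9 LD2_c12 LD3_c20)) = (LP (LK LD1_c17 LD2_c5 LD3_c11)) :=
  Lgr Lrot149 (Lpe (f80005 IH) (Lpe (K46.f615056 IH) (Lpr_bf (f653032 IH) (Lpe (f507011 IH) (Lpr_gf (f633530 IH) (Lpe (K35.f633535 IH) (Lpr_bt (f438614 IH) (Lpr_gf (f739583 IH) (Lpe (f614656 IH) (Lpr_ct (f614657 IH) (Lpn (LP (LK LD1_c17 LD2_c5 LD3_c11)))))))))))))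
theorem f739588 : Led Lsl_gt (LP (LK LD1_c9 LD2_c12 LD3_c20)) = (LP (LK LD1_c17 LD2_c5 LD3_c11)) :=
  Leop (Lpe (f739587 IH) (Lpn (LP (LK LD1_c9 LD2_c12 LD3_c20))))
theorem seed_928 : LEOK LG_g (LK LD1_c9 LD2_c12 LD3_c20) :=
  Leoe_g (LK LD1_c9 LD2_c12 LD3_c20) (f739588 IH)
theorem f83788 : Led Lsl_ct (LP (LK LD1_c12 LD2_c9 LD3_c18)) = (LP (LK LD1_c6 LD2_c15 LD3_c48)) :=
  Lre_c IH (LK LD1_c12 LD2_c9 LD3_c18) (LK LD1_c6 LD2_c15 LD3_c48) Lrfl Lrfl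
theorem f701500 : Led Lsl_af (LP (LK LD1_c4 LD2_c40 LD3_c55)) = K52.v13170 :=
  Lgr Lrot0 (Lpr_at (K52.f701499 IH) (Lpn K52.v13170))
theorem f23154 : Led Lsl_ct (LP (LK LD1_c4 LD2_c40 LD3_c55)) = (LP (LK LD1_c9 LD2_c17 LD3_c18)) :=
  Lre_c IH (LK LD1_c4 LD2_c40 LD3_c55) (LK LD1_c9 LD2_c17 LD3_c18) Lrfl Lrfl
theorem f740698 : Led Lsl_af (LP (LK LD1_c12 LD2_c9 LD3_c18)) = (LP (LK LD1_c9 LD2_c17 LD3_c18)) :=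
  Lgr Lrot68 (Lpr_ct (f83788 IH) (Lpqs (K54.f739173 IH) (Lpe (f701500 IH) (Lpr_ct (f23154 IH) (Lpn (LP (LK LD1_c9 LD2_c17 LD3_c18)))))))
theorem f23161 : Led Lsl_ct (LP (LK LD1_c9 LD2_c17 LD3_c18)) = (LP (LK LD1_c4 LD2_c40 LD3_c55)) :=
  Lre_c IH (LK LD1_c9 LD2_c17 LD3_c18) (LK LD1_c4 LD2_c40 LD3_c55) Lrfl Lrfl
theorem f646809 : Led Lsl_ff (LP (LK LD1_c9 LD2_c17 LD3_c18)) = K52.v5255 :=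
  Lgr Lrot23 (Lpr_ct (f23161 IH) (Lpe (K52.f639932 IH) (Lpr_ct (K52.f646807 IH) (Lpn K52.v5255))))
theorem f740702 : Led Lsl_gf (LP (LK LD1_c12 LD2_c9 LD3_c18)) = (LP (LK LD1_c9 LD2_c8 LD3_c39)) :=
  Lgr Lrot76 (Lpr_af (f740698 IH) (Lpr_ff (f646809 IH) (Lpe (K52.f706068 IH) (Lpn (LP (LK LD1_c9 LD2_c8 LD3_c39))))))
theorem f740703 : Led Lsl_gt (LP (LK LD1_c9 LD2_c8 LD3_c39)) = (LP (LK LD1_c12 LD2_c9 LD3_c18)) :=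
  Leop (Lpr_gf (f740702 IH) (Lpn (LP (LK LD1_c9 LD2_c8 LD3_c39))))
theorem seed_929 : LEOK LG_g (LK LD1_c9 LD2_c8 LD3_c39) :=
  Leoe_g (LK LD1_c9 LD2_c8 LD3_c39) (f740703 IH)
theorem f594946 : Led Lsl_bt (LP (LK LD1_c17 LD2_c1 LD3_c51)) = (LP (LK LD1_c9 LD2_c8 LD3_c60)) :=
  Lre_b IH (LK LD1_c17 LD2_c1 LD3_c51) (LK LD1_c9 LD2_c8 LD3_c60) Lrfl Lrfl
theorem f71303 : Led Lsl_dt (LP (LK LD1_c9 LD2_c8 LD3_c60)) = (LP (LK LD1_c17 LD2_c1 LD3_c55)) :=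
  Lre_d IH (LK LD1_c9 LD2_c8 LD3_c60) (LK LD1_c17 LD2_c1 LD3_c55) Lrfl Lrfl
theorem f594947 : Led Lsl_bt (LP (LK LD1_c17 LD2_c1 LD3_c55)) = (LP (LK LD1_c11 LD2_c42 LD3_c0)) :=
  Lgr Lrot95 (Lpe (f71303 IH) (Lpe (f594946 IH) (Lpr_df (K45.f594944 IH) (Lpn (LP (LK LD1_c11 LD2_c42 LD3_c0))))))
theorem f595179 : Led Lsl_et (LP (LK LD1_c9 LD2_c14 LD3_c11)) = (LP (LK LD1_c17 LD2_c1 LD3_c55)) :=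
  Lgr Lrot74 (Lpr_bf (K45.f595172 IH) (Lpe (K45.f594951 IH) (Lpe (f594947 IH) (Lpn (LP (LK LD1_c17 LD2_c1 LD3_c55))))))
def v12978 : LQ := Led Lsl_gf (LP (LK LD1_c4 LD2_c35 LD3_c57))
theorem f699980 : Led Lsl_gf (LP (LK LD1_c4 LD2_c35 LD3_c57)) = v12978 :=
  Lrfl
theorem f699981 : Led Lsl_gt K54.v4940 = v12978 :=
  Lgr Lrot5 (Lpe (K54.f640991 IH) (Lpe (K52.f202145 IH) (Lpr_gf (f699980 IH) (Lpn v12978))))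
theorem f739128 : v12978 = (LP (LK LD1_c3 LD2_c20 LD3_c54)) :=
  Lefun (Lecon (f699981 IH) (K54.f739125 IH).symm) (Lfl_gf (K54.f510403 IH))
theorem f510348 : Led Lsl_et (LP (LK LD1_c6 LD2_c45 LD3_c42)) = (LP (LK LD1_c12 LD2_c55 LD3_c22)) :=
  Lre_e IH (LK LD1_c6 LD2_c45 LD3_c42) (LK LD1_c12 LD2_c55 LD3_c22) Lrfl Lrfl
theorem f740825 : Led Lsl_gt (LP (LK LD1_c17 LD2_c1 LD3_c55)) = (LP (LK LD1_c12 LD2_c55 LD3_c22)) :=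
  Lgr Lrot131 (Lpe (f595179 IH) (Lpr_dt (K46.f596003 IH) (Lpe (K45.f175709 IH) (Lpe (K38.f175699 IH) (Lpe (K38.f547191 IH) (Lpr_ef (K52.f699985 IH) (Lpe (K52.f699984 IH) (Lpr_gf (f699980 IH) (Lpqs (f739128 IH) (Lpe (K50.f510175 IH) (Lpr_et (f510348 IH) (Lpn (LP (LK LD1_c12 LD2_c55 LD3_c22))))))))))))))
theorem f740826 : Led Lsl_gt (LP (LK LD1_c17 LD2_c1 LD3_c55)) = (LP (LK LD1_c12 LD2_c55 LD3_c22)) :=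
  Leop (Lpe (f740825 IH) (Lpn (LP (LK LD1_c17 LD2_c1 LD3_c55))))
theorem seed_930 : LEOK LG_g (LK LD1_c17 LD2_c1 LD3_c55) :=
  Leoe_g (LK LD1_c17 LD2_c1 LD3_c55) (f740826 IH)
def v15686 : LQ := Led Lsl_at (LP (LK LD1_c5 LD2_c45 LD3_c19))
theorem f740927 : Led Lsl_at (LP (LK LD1_c5 LD2_c45 LD3_c19)) = v15686 :=
  Lrfl
theorem f740928 : Led Lsl_af (LP (LK LD1_c5 LD2_c45 LD3_c19)) = v15686 :=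
  Lgr Lrot0 (Lpr_at (f740927 IH) (Lpn v15686))
theorem f698776 : Led Lsl_ff (LP (LK LD1_c4 LD2_c33 LD3_c51)) = K50.v12879 :=
  Lgr Lrot3 (Lpr_ft (K50.f698772 IH) (Lpn K50.v12879))
theorem f413427 : Led Lsl_gf (LP (LK LD1_c11 LD2_c28 LD3_c11)) = (LP (LK LD1_c6 LD2_c2 LD3_c6)) :=
  Lgr Lrot76 (Lpr_af (K32.f396283 IH) (Lpe (K32.f281881 IH) (Lpr_gt (K16.f413425 IH) (Lpn (LP (LK LD1_c6 LD2_c2 LD3_c6))))))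
theorem f174303 : Led Lsl_ft (LP (LK LD1_c2 LD2_c47 LD3_c7)) = (LP (LK LD1_c1 LD2_c19 LD3_c56)) :=
  Lre_f IH (LK LD1_c2 LD2_c47 LD3_c7) (LK LD1_c1 LD2_c19 LD3_c56) Lrfl Lrfl
theorem f268780 : Led Lsl_ft (LP (LK LD1_c2 LD2_c13 LD3_c21)) = (LP (LK LD1_c4 LD2_c32 LD3_c46)) :=
  Lre_f IH (LK LD1_c2 LD2_c13 LD3_c21) (LK LD1_c4 LD2_c32 LD3_c46) Lrfl Lrfl
theorem f268920 : Led Lsl_ef (LP (LK LD1_c2 LD2_c47 LD3_c7)) = (LP (LK LD1_c4 LD2_c32 LD3_c46)) :=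
  Lgr Lrot21 (Lpr_ft (f174303 IH) (Lpr_et (K20.f174123 IH) (Lpr_ft (K16.f268914 IH) (Lpr_et (K20.f226733 IH) (Lpr_ft (f268780 IH) (Lpn (LP (LK LD1_c4 LD2_c32 LD3_c46))))))))
theorem f68755 : Led Lsl_et (LP (LK LD1_c5 LD2_c42 LD3_c20)) = (LP (LK LD1_c11 LD2_c14 LD3_c54)) :=
  Lre_e IH (LK LD1_c5 LD2_c42 LD3_c20) (LK LD1_c11 LD2_c14 LD3_c54) Lrfl Lrfl
theorem f396295 : Led Lsl_df (LP (LK LD1_c11 LD2_c28 LD3_c11)) = (LP (LK LD1_c11 LD2_c14 LD3_c54)) :=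
  Lgr Lrot70 (Lpr_et (K39.f396290 IH) (Lpr_dt (K16.f268756 IH) (Lpe (f268920 IH) (Lpr_dt (K16.f268935 IH) (Lpr_et (f68755 IH) (Lpn (LP (LK LD1_c11 LD2_c14 LD3_c54))))))))
theorem f281861 : Led Lsl_af (LP (LK LD1_c5 LD2_c42 LD3_c20)) = (LP (LK LD1_c9 LD2_c2 LD3_c21)) :=
  Lgr Lrot0 (Lpr_at (K16.f281853 IH) (Lpn (LP (LK LD1_c9 LD2_c2 LD3_c21))))
theorem f281883 : Led Lsl_ft (LP (LK LD1_c5 LD2_c42 LD3_c20)) = (LP (LK LD1_c2 LD2_c47 LD3_c6)) :=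
  Lre_f IH (LK LD1_c5 LD2_c42 LD3_c20) (LK LD1_c2 LD2_c47 LD3_c6) Lrfl Lrfl
theorem f281873 : Led Lsl_ft (LP (LK LD1_c4 LD2_c32 LD3_c19)) = (LP (LK LD1_c9 LD2_c2 LD3_c21)) :=
  Lre_f IH (LK LD1_c4 LD2_c32 LD3_c19) (LK LD1_c9 LD2_c2 LD3_c21) Lrfl Lrfl
theorem f281884 : Led Lsl_at (LP (LK LD1_c2 LD2_c47 LD3_c6)) = (LP (LK LD1_c4 LD2_c32 LD3_c19)) :=
  Lgr Lrot66 (Lpe (f281883 IH) (Lpr_af (f281861 IH) (Lpe (f281873 IH) (Lpn (LP (LK LD1_c4 LD2_c32 LD3_c19))))))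
theorem f175940 : Led Lsl_gt (LP (LK LD1_c9 LD2_c2 LD3_c20)) = (LP (LK LD1_c4 LD2_c32 LD3_c19)) :=
  Lre_g IH (LK LD1_c9 LD2_c2 LD3_c20) (LK LD1_c4 LD2_c32 LD3_c19) Lrfl Lrfl
theorem f281890 : Led Lsl_gt (LP (LK LD1_c5 LD2_c42 LD3_c20)) = (LP (LK LD1_c9 LD2_c2 LD3_c20)) :=
  Lgr Lrot5 (Lpr_ft (f281883 IH) (Lpr_at (f281884 IH) (Lpe (f175940 IH) (Lpn (LP (LK LD1_c9 LD2_c2 LD3_c20))))))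
theorem f174447 : Led Lsl_et (LP (LK LD1_c2 LD2_c13 LD3_c12)) = (LP (LK LD1_c1 LD2_c3 LD3_c40)) :=
  Lre_e IH (LK LD1_c2 LD2_c13 LD3_c12) (LK LD1_c1 LD2_c3 LD3_c40) Lrfl Lrfl
theorem f26977 : Led Lsl_dt (LP (LK LD1_c2 LD2_c13 LD3_c12)) = (LP (LK LD1_c4 LD2_c32 LD3_c19)) :=
  Lre_d IH (LK LD1_c2 LD2_c13 LD3_c12) (LK LD1_c4 LD2_c32 LD3_c19) Lrfl Lrfl
theorem f172571 : Led Lsl_gt (LP (LK LD1_c1 LD2_c20 LD3_c24)) = (LP (LK LD1_c2 LD2_c48 LD3_c24)) :=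
  Lre_g IH (LK LD1_c1 LD2_c20 LD3_c24) (LK LD1_c2 LD2_c48 LD3_c24) Lrfl Lrfl
theorem f172572 : Led Lsl_et (LP (LK LD1_c5 LD2_c45 LD3_c19)) = (LP (LK LD1_c2 LD2_c48 LD3_c24)) :=
  Lre_e IH (LK LD1_c5 LD2_c45 LD3_c19) (LK LD1_c2 LD2_c48 LD3_c24) Lrfl Lrfl
theorem f242673 : Led Lsl_df (LP (LK LD1_c9 LD2_c2 LD3_c20)) = (LP (LK LD1_c5 LD2_c45 LD3_c19)) :=
  Lgr Lrot170 (Lpr_gt (f175940 IH) (Lpe (f26977 IH) (Lpr_et (f174447 IH) (Lpr_gt (K31.f242667 IH) (Lpr_dt (K12.f172675 IH) (Lpe (K12.f172673 IH) (Lpr_df (K9.f172427 IH) (Lpr_et (K13.f172567 IH) (Lpr_gt (f172571 IH) (Lpe (f172572 IH) (Lpn (LP (LK LD1_c5 LD2_c45 LD3_c19)))))))))))))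
theorem f242676 : Led Lsl_dt (LP (LK LD1_c9 LD2_c2 LD3_c20)) = (LP (LK LD1_c5 LD2_c45 LD3_c19)) :=
  Lgr Lrot42 (Lpr_df (f242673 IH) (Lpn (LP (LK LD1_c5 LD2_c45 LD3_c19))))
theorem f140655 : Led Lsl_bt (LP (LK LD1_c11 LD2_c22 LD3_c33)) = (LP (LK LD1_c5 LD2_c46 LD3_c8)) :=
  Lre_b IH (LK LD1_c11 LD2_c22 LD3_c33) (LK LD1_c5 LD2_c46 LD3_c8) Lrfl Lrfl
theorem f140657 : Led Lsl_et (LP (LK LD1_c5 LD2_c46 LD3_c8)) = (LP (LK LD1_c3 LD2_c2 LD3_c35)) :=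
  Lgr Lrot74 (Lpe (f140655 IH) (Lpr_ef (K50.f140651 IH) (Lpe (K50.f140656 IH) (Lpn (LP (LK LD1_c3 LD2_c2 LD3_c35))))))
theorem f140678 : Led Lsl_dt (LP (LK LD1_c5 LD2_c46 LD3_c8)) = (LP (LK LD1_c2 LD2_c48 LD3_c49)) :=
  Lre_d IH (LK LD1_c5 LD2_c46 LD3_c8) (LK LD1_c2 LD2_c48 LD3_c49) Lrfl Lrfl
theorem f417167 : Led Lsl_gt (LP (LK LD1_c5 LD2_c45 LD3_c19)) = (LP (LK LD1_c2 LD2_c48 LD3_c49)) :=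
  Lgr Lrot139 (Lpe (f242676 IH) (Lpe (f281890 IH) (Lpe (K16.f68759 IH) (Lpe (f396295 IH) (Lpr_gf (f413427 IH) (Lpe (K16.f59864 IH) (Lpr_et (K16.f59863 IH) (Lpr_gf (K16.f59827 IH) (Lpe (f140657 IH) (Lpr_dt (f140678 IH) (Lpn (LP (LK LD1_c2 LD2_c48 LD3_c49)))))))))))))
theorem f698782 : Led Lsl_gf (LP (LK LD1_c5 LD2_c45 LD3_c19)) = K50.v12879 :=
  Lgr Lrot47 (Lpr_gt (f417167 IH) (Lpr_af (K50.f639772 IH) (Lpr_ff (f698776 IH) (Lpn K50.v12879))))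
theorem f639823 : Led Lsl_ff (LP (LK LD1_c11 LD2_c14 LD3_c39)) = (LP (LK LD1_c9 LD2_c5 LD3_c14)) :=
  Lgr Lrot3 (Lpr_ft (K50.f639817 IH) (Lpn (LP (LK LD1_c9 LD2_c5 LD3_c14))))
theorem f698780 : Led Lsl_dt (LP (LK LD1_c11 LD2_c14 LD3_c39)) = K50.v12879 :=
  Lgr Lrot60 (Lpr_ff (f639823 IH) (Lpe (K32.f23129 IH) (Lpr_ff (f698776 IH) (Lpn K50.v12879))))
theorem f23114 : Led Lsl_et (LP (LK LD1_c4 LD2_c33 LD3_c51)) = (LP (LK LD1_c2 LD2_c13 LD3_c46)) :=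
  Lre_e IH (LK LD1_c4 LD2_c33 LD3_c51) (LK LD1_c2 LD2_c13 LD3_c46) Lrfl Lrfl
theorem f23116 : Led Lsl_et (LP (LK LD1_c4 LD2_c40 LD3_c56)) = (LP (LK LD1_c9 LD2_c5 LD3_c14)) :=
  Lgr Lrot71 (Lpe (K24.f22861 IH) (Lpr_ef (K32.f22933 IH) (Lpe (K35.f23113 IH) (Lpe (f23114 IH) (Lpe (K32.f23115 IH) (Lpn (LP (LK LD1_c9 LD2_c5 LD3_c14))))))))
theorem f639827 : Led Lsl_et (LP (LK LD1_c11 LD2_c14 LD3_c39)) = (LP (LK LD1_c12 LD2_c3 LD3_c58)) :=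
  Lgr Lrot69 (Lpr_ff (f639823 IH) (Lpe (f23116 IH) (Lpe (K50.f639672 IH) (Lpe (K32.f413438 IH) (Lpe (K50.f443745 IH) (Lpn (LP (LK LD1_c12 LD2_c3 LD3_c58))))))))
theorem f27015 : Led Lsl_gt (LP (LK LD1_c4 LD2_c32 LD3_c19)) = (LP (LK LD1_c9 LD2_c2 LD3_c19)) :=
  Lre_g IH (LK LD1_c4 LD2_c32 LD3_c19) (LK LD1_c9 LD2_c2 LD3_c19) Lrfl Lrfl
theorem f281886 : Led Lsl_gf (LP (LK LD1_c5 LD2_c42 LD3_c20)) = (LP (LK LD1_c9 LD2_c2 LD3_c19)) :=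
  Lgr Lrot76 (Lpr_af (f281861 IH) (Lpe (f281873 IH) (Lpr_gt (f27015 IH) (Lpn (LP (LK LD1_c9 LD2_c2 LD3_c19))))))
theorem f140692 : Led Lsl_et (LP (LK LD1_c1 LD2_c20 LD3_c30)) = (LP (LK LD1_c2 LD2_c48 LD3_c49)) :=
  Lre_e IH (LK LD1_c1 LD2_c20 LD3_c30) (LK LD1_c2 LD2_c48 LD3_c49) Lrfl Lrfl
theorem f140689 : Led Lsl_gt (LP (LK LD1_c2 LD2_c48 LD3_c49)) = (LP (LK LD1_c5 LD2_c46 LD3_c7)) :=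
  Lre_g IH (LK LD1_c2 LD2_c48 LD3_c49) (LK LD1_c5 LD2_c46 LD3_c7) Lrfl Lrfl
theorem f507649 : Led Lsl_df (LP (LK LD1_c9 LD2_c2 LD3_c19)) = (LP (LK LD1_c5 LD2_c46 LD3_c7)) :=
  Lgr Lrot135 (Lpe (f281886 IH) (Lpe (K16.f268935 IH) (Lpr_et (K16.f268929 IH) (Lpr_gt (K51.f281274 IH) (Lpe (K51.f507647 IH) (Lpr_dt (K46.f507639 IH) (Lpe (K35.f444638 IH) (Lpe (K31.f140237 IH) (Lpr_et (f140692 IH) (Lpr_gt (f140689 IH) (Lpn (LP (LK LD1_c5 LD2_c46 LD3_c7)))))))))))))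
theorem f507651 : Led Lsl_dt (LP (LK LD1_c9 LD2_c2 LD3_c19)) = (LP (LK LD1_c5 LD2_c46 LD3_c7)) :=
  Lgr Lrot42 (Lpr_df (f507649 IH) (Lpn (LP (LK LD1_c5 LD2_c46 LD3_c7))))
theorem f698783 : Led Lsl_gt (LP (LK LD1_c5 LD2_c46 LD3_c7)) = K50.v12879 :=
  Lgr Lrot139 (Lpe (f507651 IH) (Lpe (f27015 IH) (Lpe (K32.f27014 IH) (Lpr_dt (K10.f26951 IH) (Lpe (K10.f26947 IH) (Lpe (K11.f27010 IH) (Lpr_et (K35.f27017 IH) (Lpe (K50.f639730 IH) (Lpe (f639827 IH) (Lpr_dt (f698780 IH) (Lpn K50.v12879)))))))))))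
theorem f740931 : Led Lsl_ft (LP (LK LD1_c5 LD2_c46 LD3_c7)) = v15686 :=
  Lgr Lrot2 (Lpr_gt (f698783 IH) (Lpe (f698782 IH) (Lpr_af (f740928 IH) (Lpn v15686))))
theorem f242678 : Led Lsl_et (LP (LK LD1_c2 LD2_c48 LD3_c24)) = (LP (LK LD1_c5 LD2_c45 LD3_c19)) :=
  Lre_e IH (LK LD1_c2 LD2_c48 LD3_c24) (LK LD1_c5 LD2_c45 LD3_c19) Lrfl Lrfl
def v4789 : LQ := Led Lsl_at (LP (LK LD1_c2 LD2_c48 LD3_c24))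
theorem f639017 : Led Lsl_at (LP (LK LD1_c2 LD2_c48 LD3_c24)) = v4789 :=
  Lrfl
theorem f639018 : Led Lsl_af (LP (LK LD1_c2 LD2_c48 LD3_c24)) = v4789 :=
  Lgr Lrot0 (Lpr_at (f639017 IH) (Lpn v4789))
theorem f740929 : Led Lsl_ef v4789 = v15686 :=
  Lgr Lrot20 (Lpe (f639018 IH) (Lpr_et (f242678 IH) (Lpr_at (f740927 IH) (Lpn v15686))))
theorem f639020 : Led Lsl_ft (LP (LK LD1_c2 LD2_c48 LD3_c25)) = v4789 :=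
  Lgr Lrot2 (Lpr_gt (K50.f172568 IH) (Lpr_gt (f172571 IH) (Lpr_af (f639018 IH) (Lpn v4789))))
theorem f639022 : Led Lsl_ff (LP (LK LD1_c2 LD2_c48 LD3_c25)) = v4789 :=
  Lgr Lrot3 (Lpr_ft (f639020 IH) (Lpn v4789))
theorem f193899 : Led Lsl_et (LP (LK LD1_c2 LD2_c48 LD3_c25)) = (LP (LK LD1_c5 LD2_c45 LD3_c21)) :=
  Lre_e IH (LK LD1_c2 LD2_c48 LD3_c25) (LK LD1_c5 LD2_c45 LD3_c21) Lrfl Lrfl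
theorem f639023 : Led Lsl_ft (LP (LK LD1_c5 LD2_c45 LD3_c21)) = (LP (LK LD1_c11 LD2_c21 LD3_c10)) :=
  Lre_f IH (LK LD1_c5 LD2_c45 LD3_c21) (LK LD1_c11 LD2_c21 LD3_c10) Lrfl Lrfl
theorem f740932 : Led Lsl_ef (LP (LK LD1_c5 LD2_c46 LD3_c7)) = (LP (LK LD1_c11 LD2_c21 LD3_c10)) :=
  Lgr Lrot21 (Lpr_ft (f740931 IH) (Lpe (f740929 IH) (Lpe (f639022 IH) (Lpr_et (f193899 IH) (Lpr_ft (f639023 IH) (Lpn (LP (LK LD1_c11 LD2_c21 LD3_c10))))))))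
theorem f740933 : Led Lsl_et (LP (LK LD1_c11 LD2_c21 LD3_c10)) = (LP (LK LD1_c5 LD2_c46 LD3_c7)) :=
  Leop (Lpr_ef (f740932 IH) (Lpn (LP (LK LD1_c11 LD2_c21 LD3_c10))))
theorem seed_931 : LEOK LG_e (LK LD1_c11 LD2_c21 LD3_c10) :=
  Leoe_e (LK LD1_c11 LD2_c21 LD3_c10) (f740933 IH)
def v5170 : LQ := Led Lsl_et (LP (LK LD1_c3 LD2_c0 LD3_c26))
theorem f646340 : Led Lsl_et (LP (LK LD1_c3 LD2_c0 LD3_c26)) = v5170 :=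
  Lrfl
theorem f646343 : Led Lsl_ef (LP (LK LD1_c3 LD2_c0 LD3_c26)) = v5170 :=
  Lgr Lrot88 (Lpr_et (f646340 IH) (Lpn v5170))
def v4224 : LQ := Led Lsl_et (LP (LK LD1_c2 LD2_c16 LD3_c32))
theorem f632047 : Led Lsl_et (LP (LK LD1_c2 LD2_c16 LD3_c32)) = v4224 :=
  Lrfl
theorem f646345 : Led Lsl_dt v4224 = v5170 :=
  Lgr Lrot77 (Lpe (f632047 IH) (Lpe (K32.f23050 IH) (Lpe (K0.f22969 IH) (Lpe (K9.f22985 IH) (Lpr_ef (f646343 IH) (Lpn v5170))))))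
theorem f632048 : Led Lsl_ef (LP (LK LD1_c2 LD2_c16 LD3_c32)) = v4224 :=
  Lgr Lrot88 (Lpr_et (f632047 IH) (Lpn v4224))
theorem f445993 : Led Lsl_et (LP (LK LD1_c1 LD2_c20 LD3_c29)) = (LP (LK LD1_c2 LD2_c48 LD3_c45)) :=
  Lre_e IH (LK LD1_c1 LD2_c20 LD3_c29) (LK LD1_c2 LD2_c48 LD3_c45) Lrfl Lrfl
def v4820 : LQ := Led Lsl_gt (LP (LK LD1_c2 LD2_c48 LD3_c45))
theorem f640459 : Led Lsl_gt (LP (LK LD1_c2 LD2_c48 LD3_c45)) = v4820 :=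
  Lrfl
def v15711 : LQ := Led Lsl_gf (LP (LK LD1_c5 LD2_c45 LD3_c33))
theorem f741025 : Led Lsl_gf (LP (LK LD1_c5 LD2_c45 LD3_c33)) = v15711 :=
  Lrfl
theorem f168239 : Led Lsl_dt (LP (LK LD1_c5 LD2_c45 LD3_c33)) = (LP (LK LD1_c2 LD2_c48 LD3_c31)) :=
  Lre_d IH (LK LD1_c5 LD2_c45 LD3_c33) (LK LD1_c2 LD2_c48 LD3_c31) Lrfl Lrfl
theorem f168238 : Led Lsl_gt (LP (LK LD1_c2 LD2_c48 LD3_c31)) = (LP (LK LD1_c1 LD2_c20 LD3_c26)) :=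
  Lre_g IH (LK LD1_c2 LD2_c48 LD3_c31) (LK LD1_c1 LD2_c20 LD3_c26) Lrfl Lrfl
def v14348 : LQ := Led Lsl_dt (LP (LK LD1_c5 LD2_c6 LD3_c60))
theorem f722085 : Led Lsl_dt (LP (LK LD1_c5 LD2_c6 LD3_c60)) = v14348 :=
  Lrfl
theorem f722086 : Led Lsl_df (LP (LK LD1_c5 LD2_c6 LD3_c60)) = v14348 :=
  Lgr Lrot38 (Lpr_dt (f722085 IH) (Lpn v14348))
theorem f741026 : Led Lsl_et v14348 = v15711 :=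
  Lgr Lrot121 (Lpe (f722086 IH) (Lpe (K53.f166207 IH) (Lpe (K46.f166268 IH) (Lpr_et (K40.f168211 IH) (Lpe (K9.f168201 IH) (Lpr_ef (K18.f168227 IH) (Lpr_dt (K18.f168237 IH) (Lpe (f168238 IH) (Lpe (f168239 IH) (Lpr_gf (f741025 IH) (Lpn v15711)))))))))))
theorem f645406 : Led Lsl_at K46.v4594 = (LP (LK LD1_c5 LD2_c6 LD3_c61)) :=
  Lgr Lrot100 (Lpr_af (K46.f645405 IH) (Lpn (LP (LK LD1_c5 LD2_c6 LD3_c61))))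
theorem f645421 : Led Lsl_ff K46.v4594 = (LP (LK LD1_c5 LD2_c6 LD3_c60)) :=
  Lgr Lrot30 (Lpr_at (f645406 IH) (Lpe (K53.f645411 IH) (Lpr_at (K53.f645416 IH) (Lpn (LP (LK LD1_c5 LD2_c6 LD3_c60))))))
theorem f645422 : Led Lsl_ft K46.v4594 = (LP (LK LD1_c5 LD2_c6 LD3_c60)) :=
  Lgr Lrot48 (Lpr_ff (f645421 IH) (Lpn (LP (LK LD1_c5 LD2_c6 LD3_c60))))
theorem f722087 : Led Lsl_ff (LP (LK LD1_c6 LD2_c8 LD3_c27)) = v14348 :=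
  Lgr Lrot19 (Lpr_dt (K46.f636309 IH) (Lpr_ft (f645422 IH) (Lpr_dt (f722085 IH) (Lpn v14348))))
theorem f722088 : Led Lsl_ft (LP (LK LD1_c6 LD2_c8 LD3_c27)) = v14348 :=
  Lgr Lrot48 (Lpr_ff (f722087 IH) (Lpn v14348))
theorem f645367 : Led Lsl_ff (LP (LK LD1_c3 LD2_c0 LD3_c25)) = (LP (LK LD1_c2 LD2_c57 LD3_c40)) :=
  Lgr Lrot3 (Lpr_ft (K52.f645361 IH) (Lpn (LP (LK LD1_c2 LD2_c57 LD3_c40))))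
theorem f501119 : Led Lsl_et (LP (LK LD1_c1 LD2_c24 LD3_c31)) = (LP (LK LD1_c2 LD2_c57 LD3_c38)) :=
  Lre_e IH (LK LD1_c1 LD2_c24 LD3_c31) (LK LD1_c2 LD2_c57 LD3_c38) Lrfl Lrfl
theorem f645932 : Led Lsl_ef (LP (LK LD1_c2 LD2_c57 LD3_c40)) = K50.v5100 :=
  Lgr Lrot73 (Lpr_dt (K52.f23881 IH) (Lpr_et (K32.f23898 IH) (Lpr_dt (K0.f23859 IH) (Lpr_et (f501119 IH) (Lpr_dt (K50.f645930 IH) (Lpn K50.v5100))))))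
theorem f741029 : Led Lsl_ff K50.v5100 = v15711 :=
  Lgr Lrot72 (Lpe (f645932 IH) (Lpe (f645367 IH) (Lpr_et (K46.f636311 IH) (Lpr_ft (f722088 IH) (Lpr_et (f741026 IH) (Lpn v15711))))))
theorem f645371 : Led Lsl_at (LP (LK LD1_c3 LD2_c0 LD3_c26)) = (LP (LK LD1_c2 LD2_c57 LD3_c40)) :=
  Lgr Lrot100 (Lpr_af (K52.f645369 IH) (Lpn (LP (LK LD1_c2 LD2_c57 LD3_c40))))
theorem f645933 : Led Lsl_et (LP (LK LD1_c2 LD2_c57 LD3_c40)) = K50.v5100 :=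
  Lgr Lrot87 (Lpr_ef (f645932 IH) (Lpn K50.v5100))
theorem f646344 : Led Lsl_at K50.v5100 = v5170 :=
  Lgr Lrot80 (Lpe (f645933 IH) (Lpe (f645371 IH) (Lpr_ef (f646343 IH) (Lpn v5170))))
def v15710 : LQ := Led Lsl_gt (LP (LK LD1_c5 LD2_c45 LD3_c33))
theorem f741024 : Led Lsl_gt (LP (LK LD1_c5 LD2_c45 LD3_c33)) = v15710 :=
  Lrfl
theorem f741032 : v5170 = v15710 :=
  (Llr Lrot26 (Lpe (f646344 IH) (Lpr_ff (f741029 IH) (Lpe (f741025 IH) (Lpr_gt (f741024 IH) (Lpn v15710)))))).symm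
theorem f181166 : Led Lsl_dt (LP (LK LD1_c2 LD2_c48 LD3_c31)) = (LP (LK LD1_c5 LD2_c45 LD3_c33)) :=
  Lre_d IH (LK LD1_c2 LD2_c48 LD3_c31) (LK LD1_c5 LD2_c45 LD3_c33) Lrfl Lrfl
theorem f181171 : Led Lsl_et (LP (LK LD1_c2 LD2_c48 LD3_c31)) = (LP (LK LD1_c5 LD2_c45 LD3_c34)) :=
  Lre_e IH (LK LD1_c2 LD2_c48 LD3_c31) (LK LD1_c5 LD2_c45 LD3_c34) Lrfl Lrfl
theorem f741033 : v4820 = (LP (LK LD1_c5 LD2_c45 LD3_c34)) :=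
  (Llr Lrot131 (Lpe (f640459 IH) (Lpe (f445993 IH) (Lpr_dt (K38.f140579 IH) (Lpe (K52.f445988 IH) (Lpe (K32.f144075 IH) (Lpe (K32.f140881 IH) (Lpr_ef (f632048 IH) (Lpr_dt (f646345 IH) (Lpqs (f741032 IH) (Lpe (f741024 IH) (Lpe (f181166 IH) (Lpr_et (f181171 IH) (Lpn (LP (LK LD1_c5 LD2_c45 LD3_c34)))))))))))))))).symm
theorem f640460 : Led Lsl_gf (LP (LK LD1_c9 LD2_c5 LD3_c6)) = v4820 :=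
  Lgr Lrot76 (Lpr_af (K53.f640387 IH) (Lpe (K53.f495947 IH) (Lpr_gt (f640459 IH) (Lpn v4820))))
theorem f741034 : Led Lsl_gt (LP (LK LD1_c5 LD2_c45 LD3_c34)) = (LP (LK LD1_c9 LD2_c5 LD3_c6)) :=
  Leop (Lpr_gf (f640460 IH) (Lpqs (f741033 IH) (Lpn (LP (LK LD1_c5 LD2_c45 LD3_c34)))))
theorem seed_932 : LEOK LG_g (LK LD1_c5 LD2_c45 LD3_c34) :=
  Leoe_g (LK LD1_c5 LD2_c45 LD3_c34) (f741034 IH)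
def v12821 : LQ := Led Lsl_ct (LP (LK LD1_c4 LD2_c32 LD3_c4))
theorem f698385 : Led Lsl_ct (LP (LK LD1_c4 LD2_c32 LD3_c4)) = v12821 :=
  Lrfl
theorem f505611 : Led Lsl_ef (LP (LK LD1_c8 LD2_c0 LD3_c56)) = (LP (LK LD1_c4 LD2_c32 LD3_c4)) :=
  Lgr Lrot88 (Lpr_et (K50.f505606 IH) (Lpn (LP (LK LD1_c4 LD2_c32 LD3_c4))))
theorem f505533 : Led Lsl_ef (LP (LK LD1_c2 LD2_c46 LD3_c37)) = (LP (LK LD1_c5 LD2_c0 LD3_c14)) :=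
  Lgr Lrot114 (Lpr_gt (K52.f171786 IH) (Lpe (K24.f171785 IH) (Lpr_dt (K27.f171771 IH) (Lpr_gt (K9.f171757 IH) (Lpe (K1.f41038 IH) (Lpr_et (K41.f171784 IH) (Lpr_gt (K32.f36237 IH) (Lpe (K35.f454667 IH) (Lpe (K52.f505116 IH) (Lpr_df (K46.f505529 IH) (Lpn (LP (LK LD1_c5 LD2_c0 LD3_c14)))))))))))))
theorem f505613 : Led Lsl_at (LP (LK LD1_c2 LD2_c46 LD3_c37)) = (LP (LK LD1_c4 LD2_c32 LD3_c4)) :=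
  Lgr Lrot80 (Lpr_ef (f505533 IH) (Lpe (K46.f505544 IH) (Lpr_ef (f505611 IH) (Lpn (LP (LK LD1_c4 LD2_c32 LD3_c4))))))
theorem f174897 : Led Lsl_gt (LP (LK LD1_c2 LD2_c13 LD3_c3)) = (LP (LK LD1_c4 LD2_c32 LD3_c3)) :=
  Lre_g IH (LK LD1_c2 LD2_c13 LD3_c3) (LK LD1_c4 LD2_c32 LD3_c3) Lrfl Lrfl
theorem f380003 : Led Lsl_gt (LP (LK LD1_c4 LD2_c32 LD3_c3)) = (LP (LK LD1_c2 LD2_c46 LD3_c39)) :=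
  Lgr Lrot46 (Lpe (f174897 IH) (Lpr_ft (K30.f380002 IH) (Lpr_at (K40.f379989 IH) (Lpn (LP (LK LD1_c2 LD2_c46 LD3_c39))))))
theorem f505615 : Led Lsl_ff (LP (LK LD1_c2 LD2_c46 LD3_c37)) = (LP (LK LD1_c4 LD2_c32 LD3_c3)) :=
  Lgr Lrot52 (Lpr_at (f505613 IH) (Lpr_gf (K50.f380077 IH) (Lpe (f380003 IH) (Lpn (LP (LK LD1_c4 LD2_c32 LD3_c3))))))
theorem f505619 : Led Lsl_ft (LP (LK LD1_c2 LD2_c46 LD3_c37)) = (LP (LK LD1_c4 LD2_c32 LD3_c3)) :=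
  Lgr Lrot48 (Lpr_ff (f505615 IH) (Lpn (LP (LK LD1_c4 LD2_c32 LD3_c3))))
theorem f171848 : Led Lsl_gt (LP (LK LD1_c1 LD2_c19 LD3_c43)) = (LP (LK LD1_c2 LD2_c46 LD3_c36)) :=
  Lre_g IH (LK LD1_c1 LD2_c19 LD3_c43) (LK LD1_c2 LD2_c46 LD3_c36) Lrfl Lrfl
theorem f505624 : Led Lsl_af (LP (LK LD1_c2 LD2_c46 LD3_c36)) = (LP (LK LD1_c4 LD2_c32 LD3_c3)) :=
  Lgr Lrot31 (Lpe (f171848 IH) (Lpe (K52.f171786 IH) (Lpr_ft (f505619 IH) (Lpn (LP (LK LD1_c4 LD2_c32 LD3_c3))))))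
theorem f505538 : Led Lsl_af (LP (LK LD1_c8 LD2_c0 LD3_c56)) = (LP (LK LD1_c5 LD2_c0 LD3_c14)) :=
  Lgr Lrot45 (Lpr_ft (K46.f505536 IH) (Lpe (K46.f505520 IH) (Lpr_ft (K46.f505527 IH) (Lpn (LP (LK LD1_c5 LD2_c0 LD3_c14))))))
theorem f505608 : Led Lsl_af (LP (LK LD1_c2 LD2_c46 LD3_c37)) = (LP (LK LD1_c4 LD2_c32 LD3_c4)) :=
  Lgr Lrot50 (Lpr_et (K54.f505531 IH) (Lpe (f505538 IH) (Lpr_et (K50.f505606 IH) (Lpn (LP (LK LD1_c4 LD2_c32 LD3_c4))))))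
theorem f505633 : Led Lsl_ft (LP (LK LD1_c2 LD2_c46 LD3_c36)) = (LP (LK LD1_c4 LD2_c32 LD3_c4)) :=
  Lgr Lrot101 (Lpr_af (f505624 IH) (Lpe (f505619 IH) (Lpr_af (f505608 IH) (Lpn (LP (LK LD1_c4 LD2_c32 LD3_c4))))))
theorem f225755 : Led Lsl_ct (LP (LK LD1_c5 LD2_c41 LD3_c8)) = (LP (LK LD1_c2 LD2_c46 LD3_c36)) :=
  Lre_c IH (LK LD1_c5 LD2_c41 LD3_c8) (LK LD1_c2 LD2_c46 LD3_c36) Lrfl Lrfl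
theorem f698388 : Led Lsl_ff (LP (LK LD1_c5 LD2_c41 LD3_c8)) = v12821 :=
  Lgr Lrot23 (Lpr_ct (f225755 IH) (Lpr_ft (f505633 IH) (Lpr_ct (f698385 IH) (Lpn v12821))))
def v12818 : LQ := Led Lsl_ct (LP (LK LD1_c4 LD2_c32 LD3_c3))
theorem f698369 : Led Lsl_ct (LP (LK LD1_c4 LD2_c32 LD3_c3)) = v12818 :=
  Lrfl
theorem f698371 : Led Lsl_cf (LP (LK LD1_c4 LD2_c32 LD3_c3)) = v12818 :=
  Lgr Lrot11 (Lpr_ct (f698369 IH) (Lpn v12818))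
theorem f225743 : Led Lsl_ct (LP (LK LD1_c2 LD2_c46 LD3_c36)) = (LP (LK LD1_c5 LD2_c41 LD3_c8)) :=
  Lre_c IH (LK LD1_c2 LD2_c46 LD3_c36) (LK LD1_c5 LD2_c41 LD3_c8) Lrfl Lrfl
theorem f698374 : Led Lsl_at (LP (LK LD1_c5 LD2_c41 LD3_c8)) = v12818 :=
  Lgr Lrot107 (Lpe (f225743 IH) (Lpr_af (f505624 IH) (Lpr_cf (f698371 IH) (Lpn v12818))))
theorem f225750 : Led Lsl_ct (LP (LK LD1_c5 LD2_c41 LD3_c10)) = (LP (LK LD1_c2 LD2_c46 LD3_c37)) :=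
  Lre_c IH (LK LD1_c5 LD2_c41 LD3_c10) (LK LD1_c2 LD2_c46 LD3_c37) Lrfl Lrfl
theorem f698372 : Led Lsl_ff (LP (LK LD1_c5 LD2_c41 LD3_c10)) = v12818 :=
  Lgr Lrot23 (Lpr_ct (f225750 IH) (Lpr_ft (f505619 IH) (Lpr_ct (f698369 IH) (Lpn v12818))))
theorem f698389 : Led Lsl_at (LP (LK LD1_c5 LD2_c41 LD3_c10)) = v12821 :=
  Lgr Lrot66 (Lpr_ff (f698372 IH) (Lpe (f698374 IH) (Lpr_ff (f698388 IH) (Lpn v12821))))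
def v15089 : LQ := Led Lsl_et (LP (LK LD1_c5 LD2_c31 LD3_c53))
theorem f731639 : Led Lsl_et (LP (LK LD1_c5 LD2_c31 LD3_c53)) = v15089 :=
  Lrfl
theorem f731640 : Led Lsl_ef (LP (LK LD1_c5 LD2_c31 LD3_c53)) = v15089 :=
  Lgr Lrot88 (Lpr_et (f731639 IH) (Lpn v15089))
theorem f701025 : Led Lsl_et v12821 = K52.v13089 :=
  Lgr Lrot158 (Lpe (f698385 IH) (Lpe (K50.f505606 IH) (Lpr_cf (K52.f701022 IH) (Lpn K52.v13089))))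
theorem f701029 : Led Lsl_ef v12821 = K52.v13089 :=
  Lgr Lrot88 (Lpr_et (f701025 IH) (Lpn K52.v13089))
def v15752 : LQ := Led Lsl_gt (LP (LK LD1_c5 LD2_c45 LD3_c56))
theorem f741245 : Led Lsl_gt (LP (LK LD1_c5 LD2_c45 LD3_c56)) = v15752 :=
  Lrfl
theorem f140261 : Led Lsl_dt (LP (LK LD1_c2 LD2_c48 LD3_c43)) = (LP (LK LD1_c5 LD2_c45 LD3_c56)) :=
  Lre_d IH (LK LD1_c2 LD2_c48 LD3_c43) (LK LD1_c5 LD2_c45 LD3_c56) Lrfl Lrfl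
theorem f173053 : Led Lsl_et (LP (LK LD1_c1 LD2_c17 LD3_c39)) = (LP (LK LD1_c2 LD2_c42 LD3_c5)) :=
  Lre_e IH (LK LD1_c1 LD2_c17 LD3_c39) (LK LD1_c2 LD2_c42 LD3_c5) Lrfl Lrfl
theorem f173932 : Led Lsl_gt (LP (LK LD1_c5 LD2_c31 LD3_c53)) = (LP (LK LD1_c2 LD2_c42 LD3_c5)) :=
  Lre_g IH (LK LD1_c5 LD2_c31 LD3_c53) (LK LD1_c2 LD2_c42 LD3_c5) Lrfl Lrfl
theorem f741248 : Led Lsl_dt v15089 = v15752 :=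
  Lgr Lrot56 (Lpe (f731640 IH) (Lpr_gt (f173932 IH) (Lpe (f173053 IH) (Lpr_dt (K12.f173052 IH) (Lpr_gt (K9.f173033 IH) (Lpe (K9.f173647 IH) (Lpr_et (K41.f40990 IH) (Lpe (K41.f140573 IH) (Lpr_dt (f140261 IH) (Lpr_gt (f741245 IH) (Lpn v15752)))))))))))
theorem f741247 : Led Lsl_df K52.v13089 = v15752 :=
  Lgr Lrot84 (Lpe (K52.f701024 IH) (Lpr_df (K48.f505540 IH) (Lpe (K50.f505500 IH) (Lpe (K32.f140575 IH) (Lpe (K32.f58953 IH) (Lpe (K1.f40503 IH) (Lpe (K41.f140573 IH) (Lpr_dt (f140261 IH) (Lpr_gt (f741245 IH) (Lpn v15752))))))))))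
theorem f741249 : v15089 = K52.v13089 :=
  (Llr Lrot38 (Lpr_dt (f741248 IH) (Lpe (f741247 IH) (Lpn K52.v13089)))).symm
theorem f741250 : (LP (LK LD1_c5 LD2_c31 LD3_c53)) = v12821 :=
  Lefun (Lecon (Lfl_ef (f731640 IH)) (f741249 IH)) (Lfl_ef (f701029 IH))
theorem f741252 : Led Lsl_at (LP (LK LD1_c5 LD2_c41 LD3_c10)) = (LP (LK LD1_c5 LD2_c31 LD3_c53)) :=
  Leop (Lpqs (f741250 IH) (Lpe (f698389 IH) (Lpn (LP (LK LD1_c5 LD2_c41 LD3_c10)))))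
theorem seed_933 : LEOK LG_a (LK LD1_c5 LD2_c41 LD3_c10) :=
  Leoe_a (LK LD1_c5 LD2_c41 LD3_c10) (f741252 IH)
def v15759 : LQ := Led Lsl_et (LP (LK LD1_c5 LD2_c45 LD3_c60))
theorem f741341 : Led Lsl_et (LP (LK LD1_c5 LD2_c45 LD3_c60)) = v15759 :=
  Lrfl
def v15758 : LQ := Led Lsl_dt (LP (LK LD1_c5 LD2_c45 LD3_c60))
theorem f741335 : Led Lsl_dt (LP (LK LD1_c5 LD2_c45 LD3_c60)) = v15758 :=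
  Lrfl
theorem f381344 : Led Lsl_gt (LP (LK LD1_c5 LD2_c45 LD3_c60)) = (LP (LK LD1_c2 LD2_c48 LD3_c45)) :=
  Lre_g IH (LK LD1_c5 LD2_c45 LD3_c60) (LK LD1_c2 LD2_c48 LD3_c45) Lrfl Lrfl
theorem f640389 : Led Lsl_gt (LP (LK LD1_c9 LD2_c5 LD3_c6)) = (LP (LK LD1_c5 LD2_c45 LD3_c60)) :=
  Lgr Lrot5 (Lpr_ft (K53.f631705 IH) (Lpr_at (K50.f640383 IH) (Lpe (f381344 IH) (Lpn (LP (LK LD1_c5 LD2_c45 LD3_c60))))))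
theorem f639814 : Led Lsl_gt (LP (LK LD1_c5 LD2_c46 LD3_c9)) = (LP (LK LD1_c9 LD2_c4 LD3_c36)) :=
  Lgr Lrot5 (Lpr_ft (K50.f495939 IH) (Lpr_at (K50.f639779 IH) (Lpe (K32.f416708 IH) (Lpn (LP (LK LD1_c9 LD2_c4 LD3_c36))))))
theorem f640397 : Led Lsl_et (LP (LK LD1_c9 LD2_c5 LD3_c6)) = (LP (LK LD1_c5 LD2_c46 LD3_c9)) :=
  Lgr Lrot121 (Lpr_dt (K53.f640393 IH) (Lpe (K53.f204837 IH) (Lpe (K51.f406402 IH) (Lpr_et (K35.f225935 IH) (Lpe (K12.f68582 IH) (Lpe (K20.f174123 IH) (Lpr_dt (K32.f140685 IH) (Lpe (K32.f68860 IH) (Lpr_df (K32.f225944 IH) (Lpe (f639814 IH) (Lpn (LP (LK LD1_c5 LD2_c46 LD3_c9)))))))))))))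
theorem f640400 : Led Lsl_ef (LP (LK LD1_c9 LD2_c5 LD3_c6)) = (LP (LK LD1_c5 LD2_c46 LD3_c9)) :=
  Lgr Lrot88 (Lpr_et (f640397 IH) (Lpn (LP (LK LD1_c5 LD2_c46 LD3_c9))))
theorem f639777 : Led Lsl_dt (LP (LK LD1_c5 LD2_c46 LD3_c9)) = (LP (LK LD1_c11 LD2_c22 LD3_c37)) :=
  Lre_d IH (LK LD1_c5 LD2_c46 LD3_c9) (LK LD1_c11 LD2_c22 LD3_c37) Lrfl Lrfl
theorem f140693 : Led Lsl_ft (LP (LK LD1_c11 LD2_c22 LD3_c37)) = (LP (LK LD1_c5 LD2_c46 LD3_c8)) :=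
  Lre_f IH (LK LD1_c11 LD2_c22 LD3_c37) (LK LD1_c5 LD2_c46 LD3_c8) Lrfl Lrfl
theorem f639825 : Led Lsl_at (LP (LK LD1_c11 LD2_c14 LD3_c39)) = (LP (LK LD1_c11 LD2_c22 LD3_c37)) :=
  Lgr Lrot66 (Lpr_ff (f639823 IH) (Lpe (K50.f639768 IH) (Lpe (f140693 IH) (Lpn (LP (LK LD1_c11 LD2_c22 LD3_c37))))))
theorem f26968 : Led Lsl_dt (LP (LK LD1_c4 LD2_c32 LD3_c19)) = (LP (LK LD1_c2 LD2_c13 LD3_c12)) :=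
  Lre_d IH (LK LD1_c4 LD2_c32 LD3_c19) (LK LD1_c2 LD2_c13 LD3_c12) Lrfl Lrfl
theorem f26969 : Led Lsl_gt (LP (LK LD1_c4 LD2_c32 LD3_c18)) = (LP (LK LD1_c2 LD2_c13 LD3_c12)) :=
  Lre_g IH (LK LD1_c4 LD2_c32 LD3_c18) (LK LD1_c2 LD2_c13 LD3_c12) Lrfl Lrfl
theorem f26970 : Led Lsl_dt (LP (LK LD1_c9 LD2_c2 LD3_c17)) = (LP (LK LD1_c4 LD2_c32 LD3_c18)) :=
  Lre_d IH (LK LD1_c9 LD2_c2 LD3_c17) (LK LD1_c4 LD2_c32 LD3_c18) Lrfl Lrfl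
theorem f26973 : Led Lsl_gt (LP (LK LD1_c9 LD2_c5 LD3_c14)) = (LP (LK LD1_c9 LD2_c2 LD3_c17)) :=
  Lgr Lrot137 (Lpe (f23116 IH) (Lpr_dt (K24.f22895 IH) (Lpe (K24.f22860 IH) (Lpe (K17.f22859 IH) (Lpr_et (K24.f23166 IH) (Lpr_gf (K10.f26942 IH) (Lpe (K32.f26967 IH) (Lpr_dt (f26968 IH) (Lpe (f26969 IH) (Lpe (f26970 IH) (Lpn (LP (LK LD1_c9 LD2_c2 LD3_c17)))))))))))))
theorem f639829 : Led Lsl_gf (LP (LK LD1_c11 LD2_c22 LD3_c37)) = (LP (LK LD1_c9 LD2_c2 LD3_c17)) :=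
  Lgr Lrot76 (Lpe (f639825 IH) (Lpr_ff (f639823 IH) (Lpr_gt (f26973 IH) (Lpn (LP (LK LD1_c9 LD2_c2 LD3_c17))))))
theorem f26980 : Led Lsl_dt (LP (LK LD1_c4 LD2_c32 LD3_c18)) = (LP (LK LD1_c9 LD2_c2 LD3_c17)) :=
  Lre_d IH (LK LD1_c4 LD2_c32 LD3_c18) (LK LD1_c9 LD2_c2 LD3_c17) Lrfl Lrfl
theorem f26981 : Led Lsl_et (LP (LK LD1_c4 LD2_c32 LD3_c18)) = (LP (LK LD1_c9 LD2_c2 LD3_c18)) :=
  Lre_e IH (LK LD1_c4 LD2_c32 LD3_c18) (LK LD1_c9 LD2_c2 LD3_c18) Lrfl Lrfl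
theorem f211864 : Led Lsl_df (LP (LK LD1_c11 LD2_c6 LD3_c35)) = (LP (LK LD1_c9 LD2_c5 LD3_c22)) :=
  Lgr Lrot38 (Lpr_dt (K50.f211858 IH) (Lpn (LP (LK LD1_c9 LD2_c5 LD3_c22))))
theorem f26993 : Led Lsl_et (LP (LK LD1_c2 LD2_c22 LD3_c35)) = (LP (LK LD1_c4 LD2_c49 LD3_c41)) :=
  Lre_e IH (LK LD1_c2 LD2_c22 LD3_c35) (LK LD1_c4 LD2_c49 LD3_c41) Lrfl Lrfl
theorem f23980 : Led Lsl_et (LP (LK LD1_c1 LD2_c36 LD3_c43)) = (LP (LK LD1_c3 LD2_c20 LD3_c50)) :=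
  Lre_e IH (LK LD1_c1 LD2_c36 LD3_c43) (LK LD1_c3 LD2_c20 LD3_c50) Lrfl Lrfl
theorem f22898 : Led Lsl_gt (LP (LK LD1_c6 LD2_c45 LD3_c35)) = (LP (LK LD1_c3 LD2_c20 LD3_c50)) :=
  Lre_g IH (LK LD1_c6 LD2_c45 LD3_c35) (LK LD1_c3 LD2_c20 LD3_c50) Lrfl Lrfl
theorem f22897 : Led Lsl_dt (LP (LK LD1_c6 LD2_c45 LD3_c36)) = (LP (LK LD1_c3 LD2_c20 LD3_c50)) :=
  Lre_d IH (LK LD1_c6 LD2_c45 LD3_c36) (LK LD1_c3 LD2_c20 LD3_c50) Lrfl Lrfl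
theorem f22901 : Led Lsl_et (LP (LK LD1_c3 LD2_c0 LD3_c53)) = (LP (LK LD1_c6 LD2_c9 LD3_c4)) :=
  Lre_e IH (LK LD1_c3 LD2_c0 LD3_c53) (LK LD1_c6 LD2_c9 LD3_c4) Lrfl Lrfl
theorem f22902 : Led Lsl_gt (LP (LK LD1_c6 LD2_c9 LD3_c4)) = (LP (LK LD1_c11 LD2_c59 LD3_c14)) :=
  Lre_g IH (LK LD1_c6 LD2_c9 LD3_c4) (LK LD1_c11 LD2_c59 LD3_c14) Lrfl Lrfl
theorem f22903 : Led Lsl_dt (LP (LK LD1_c11 LD2_c59 LD3_c14)) = (LP (LK LD1_c6 LD2_c45 LD3_c35)) :=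
  Lgr Lrot171 (Lpe (f22902 IH) (Lpe (f22901 IH) (Lpr_dt (K16.f22900 IH) (Lpe (K9.f20229 IH) (Lpe (K1.f9524 IH) (Lpr_et (K35.f22899 IH) (Lpr_gf (K0.f22850 IH) (Lpe (K35.f22896 IH) (Lpr_dt (f22897 IH) (Lpe (f22898 IH) (Lpn (LP (LK LD1_c6 LD2_c45 LD3_c35)))))))))))))
theorem f26982 : Led Lsl_et (LP (LK LD1_c11 LD2_c59 LD3_c14)) = (LP (LK LD1_c9 LD2_c2 LD3_c17)) :=
  Lgr Lrot122 (Lpr_dt (f22903 IH) (Lpr_gt (f22898 IH) (Lpe (f22897 IH) (Lpr_et (K35.f22896 IH) (Lpe (K0.f22850 IH) (Lpr_dt (K17.f22859 IH) (Lpr_gt (K24.f22860 IH) (Lpe (K24.f22895 IH) (Lpr_et (f23116 IH) (Lpr_gt (f26973 IH) (Lpn (LP (LK LD1_c9 LD2_c2 LD3_c17)))))))))))))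
theorem f22905 : Led Lsl_df (LP (LK LD1_c11 LD2_c59 LD3_c14)) = (LP (LK LD1_c6 LD2_c45 LD3_c35)) :=
  Lgr Lrot38 (Lpr_dt (f22903 IH) (Lpn (LP (LK LD1_c6 LD2_c45 LD3_c35))))
theorem f26986 : Led Lsl_dt (LP (LK LD1_c9 LD2_c2 LD3_c18)) = (LP (LK LD1_c11 LD2_c22 LD3_c43)) :=
  Lre_d IH (LK LD1_c9 LD2_c2 LD3_c18) (LK LD1_c11 LD2_c22 LD3_c43) Lrfl Lrfl
theorem f26987 : Led Lsl_ef (LP (LK LD1_c6 LD2_c45 LD3_c35)) = (LP (LK LD1_c11 LD2_c22 LD3_c43)) :=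
  Lgr Lrot73 (Lpe (f22905 IH) (Lpr_et (f26982 IH) (Lpr_dt (f26970 IH) (Lpr_et (f26981 IH) (Lpr_dt (f26986 IH) (Lpn (LP (LK LD1_c11 LD2_c22 LD3_c43))))))))
theorem f26991 : Led Lsl_dt (LP (LK LD1_c11 LD2_c22 LD3_c43)) = (LP (LK LD1_c9 LD2_c2 LD3_c18)) :=
  Lre_d IH (LK LD1_c11 LD2_c22 LD3_c43) (LK LD1_c9 LD2_c2 LD3_c18) Lrfl Lrfl
theorem f211880 : Led Lsl_gt (LP (LK LD1_c11 LD2_c6 LD3_c35)) = (LP (LK LD1_c9 LD2_c2 LD3_c18)) :=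
  Lgr Lrot139 (Lpr_df (f211864 IH) (Lpe (K50.f9293 IH) (Lpe (f26993 IH) (Lpr_dt (K24.f26992 IH) (Lpe (K0.f22928 IH) (Lpe (K24.f23979 IH) (Lpr_et (f23980 IH) (Lpe (f22898 IH) (Lpr_ef (f26987 IH) (Lpr_dt (f26991 IH) (Lpn (LP (LK LD1_c9 LD2_c2 LD3_c18)))))))))))))
theorem f211854 : Led Lsl_dt (LP (LK LD1_c5 LD2_c37 LD3_c23)) = (LP (LK LD1_c11 LD2_c6 LD3_c34)) :=
  Lre_d IH (LK LD1_c5 LD2_c37 LD3_c23) (LK LD1_c11 LD2_c6 LD3_c34) Lrfl Lrfl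
theorem f741337 : Led Lsl_gf (LP (LK LD1_c11 LD2_c6 LD3_c34)) = v15758 :=
  Lgr Lrot134 (Lpe (f211854 IH) (Lpr_et (K50.f211866 IH) (Lpr_gt (f211880 IH) (Lpe (f26981 IH) (Lpr_dt (f26980 IH) (Lpe (f639829 IH) (Lpe (f639777 IH) (Lpe (f640400 IH) (Lpr_gt (f640389 IH) (Lpr_dt (f741335 IH) (Lpn v15758)))))))))))
theorem f26989 : Led Lsl_et (LP (LK LD1_c6 LD2_c45 LD3_c35)) = (LP (LK LD1_c11 LD2_c22 LD3_c43)) :=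
  Lgr Lrot87 (Lpr_ef (f26987 IH) (Lpn (LP (LK LD1_c11 LD2_c22 LD3_c43))))
theorem f23941 : Led Lsl_et (LP (LK LD1_c2 LD2_c16 LD3_c40)) = (LP (LK LD1_c4 LD2_c39 LD3_c25)) :=
  Lre_e IH (LK LD1_c2 LD2_c16 LD3_c40) (LK LD1_c4 LD2_c39 LD3_c25) Lrfl Lrfl
theorem f23943 : Led Lsl_et (LP (LK LD1_c6 LD2_c9 LD3_c4)) = (LP (LK LD1_c3 LD2_c0 LD3_c53)) :=
  Lre_e IH (LK LD1_c6 LD2_c9 LD3_c4) (LK LD1_c3 LD2_c0 LD3_c53) Lrfl Lrfl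
theorem f23944 : Led Lsl_dt (LP (LK LD1_c4 LD2_c39 LD3_c25)) = (LP (LK LD1_c6 LD2_c9 LD3_c4)) :=
  Lgr Lrot77 (Lpe (f23941 IH) (Lpr_df (K9.f23931 IH) (Lpe (K10.f23942 IH) (Lpe (K16.f22900 IH) (Lpe (f23943 IH) (Lpn (LP (LK LD1_c6 LD2_c9 LD3_c4))))))))
theorem f23973 : Led Lsl_et (LP (LK LD1_c4 LD2_c39 LD3_c25)) = (LP (LK LD1_c2 LD2_c16 LD3_c40)) :=
  Lre_e IH (LK LD1_c4 LD2_c39 LD3_c25) (LK LD1_c2 LD2_c16 LD3_c40) Lrfl Lrfl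
theorem f9190 : Led Lsl_gt (LP (LK LD1_c2 LD2_c48 LD3_c52)) = (LP (LK LD1_c1 LD2_c20 LD3_c32)) :=
  Lre_g IH (LK LD1_c2 LD2_c48 LD3_c52) (LK LD1_c1 LD2_c20 LD3_c32) Lrfl Lrfl
theorem f9191 : Led Lsl_dt (LP (LK LD1_c5 LD2_c46 LD3_c16)) = (LP (LK LD1_c2 LD2_c48 LD3_c52)) :=
  Lre_d IH (LK LD1_c5 LD2_c46 LD3_c16) (LK LD1_c2 LD2_c48 LD3_c52) Lrfl Lrfl
theorem f26997 : Led Lsl_gf (LP (LK LD1_c5 LD2_c46 LD3_c16)) = (LP (LK LD1_c11 LD2_c22 LD3_c43)) :=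
  Lgr Lrot138 (Lpr_dt (f9191 IH) (Lpr_gt (f9190 IH) (Lpe (K0.f9152 IH) (Lpr_et (K50.f23983 IH) (Lpr_gt (K9.f23956 IH) (Lpe (f23973 IH) (Lpr_dt (f23944 IH) (Lpr_gt (f22902 IH) (Lpr_df (f22905 IH) (Lpr_et (f26989 IH) (Lpn (LP (LK LD1_c11 LD2_c22 LD3_c43)))))))))))))
theorem f27004 : Led Lsl_dt (LP (LK LD1_c2 LD2_c48 LD3_c52)) = (LP (LK LD1_c5 LD2_c46 LD3_c16)) :=
  Lre_d IH (LK LD1_c2 LD2_c48 LD3_c52) (LK LD1_c5 LD2_c46 LD3_c16) Lrfl Lrfl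
theorem f27005 : Led Lsl_et (LP (LK LD1_c2 LD2_c48 LD3_c52)) = (LP (LK LD1_c5 LD2_c46 LD3_c17)) :=
  Lre_e IH (LK LD1_c2 LD2_c48 LD3_c52) (LK LD1_c5 LD2_c46 LD3_c17) Lrfl Lrfl
theorem f741344 : Led Lsl_gt (LP (LK LD1_c5 LD2_c46 LD3_c17)) = v15759 :=
  Lgr Lrot131 (Lpe (f27005 IH) (Lpr_dt (f27004 IH) (Lpr_gf (f26997 IH) (Lpe (f26986 IH) (Lpe (f211880 IH) (Lpe (K50.f211866 IH) (Lpr_dt (f211854 IH) (Lpr_gf (f741337 IH) (Lpe (f741335 IH) (Lpr_et (f741341 IH) (Lpn v15759)))))))))))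
theorem f26994 : Led Lsl_et (LP (LK LD1_c9 LD2_c2 LD3_c18)) = (LP (LK LD1_c4 LD2_c32 LD3_c18)) :=
  Lre_e IH (LK LD1_c9 LD2_c2 LD3_c18) (LK LD1_c4 LD2_c32 LD3_c18) Lrfl Lrfl
theorem f268912 : Led Lsl_at (LP (LK LD1_c1 LD2_c19 LD3_c56)) = (LP (LK LD1_c2 LD2_c13 LD3_c12)) :=
  Lgr Lrot80 (Lpe (K16.f174302 IH) (Lpr_af (K16.f268902 IH) (Lpe (f174447 IH) (Lpn (LP (LK LD1_c2 LD2_c13 LD3_c12))))))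
theorem f412025 : Led Lsl_gt (LP (LK LD1_c2 LD2_c47 LD3_c7)) = (LP (LK LD1_c4 LD2_c32 LD3_c18)) :=
  Lgr Lrot5 (Lpr_ft (f174303 IH) (Lpr_at (f268912 IH) (Lpe (f26969 IH) (Lpn (LP (LK LD1_c4 LD2_c32 LD3_c18))))))
theorem f268757 : Led Lsl_dt (LP (LK LD1_c4 LD2_c32 LD3_c46)) = (LP (LK LD1_c9 LD2_c2 LD3_c56)) :=
  Lre_d IH (LK LD1_c4 LD2_c32 LD3_c46) (LK LD1_c9 LD2_c2 LD3_c56) Lrfl Lrfl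
def v4780 : LQ := Led Lsl_gt (LP (LK LD1_c2 LD2_c47 LD3_c31))
theorem f638942 : Led Lsl_gt (LP (LK LD1_c2 LD2_c47 LD3_c31)) = v4780 :=
  Lrfl
theorem f638943 : Led Lsl_gf (LP (LK LD1_c9 LD2_c2 LD3_c56)) = v4780 :=
  Lgr Lrot76 (Lpe (K16.f268751 IH) (Lpe (K16.f268749 IH) (Lpr_gt (f638942 IH) (Lpn v4780))))
theorem f741346 : Led Lsl_df v4780 = v15759 :=
  Lgr Lrot135 (Lpe (f638943 IH) (Lpe (f268757 IH) (Lpe (f268920 IH) (Lpr_gt (f412025 IH) (Lpe (f26994 IH) (Lpr_dt (f26986 IH) (Lpe (f26997 IH) (Lpe (f27004 IH) (Lpr_et (f27005 IH) (Lpr_gt (f741344 IH) (Lpn v15759)))))))))))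
theorem f741347 : Led Lsl_dt v4780 = v15759 :=
  Lgr Lrot42 (Lpr_df (f741346 IH) (Lpn v15759))
def v15592 : LQ := Led Lsl_at (LP (LK LD1_c5 LD2_c43 LD3_c4))
theorem f738180 : Led Lsl_at (LP (LK LD1_c5 LD2_c43 LD3_c4)) = v15592 :=
  Lrfl
theorem f738181 : Led Lsl_af (LP (LK LD1_c5 LD2_c43 LD3_c4)) = v15592 :=
  Lgr Lrot0 (Lpr_at (f738180 IH) (Lpn v15592))
theorem f738183 : Led Lsl_ft v4780 = v15592 :=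
  Lgr Lrot2 (Lpe (f638943 IH) (Lpe (K54.f268753 IH) (Lpr_af (f738181 IH) (Lpn v15592))))
theorem f738184 : Led Lsl_ff v4780 = v15592 :=
  Lgr Lrot3 (Lpr_ft (f738183 IH) (Lpn v15592))
def v15715 : LQ := Led Lsl_at (LP (LK LD1_c5 LD2_c45 LD3_c34))
theorem f741057 : Led Lsl_at (LP (LK LD1_c5 LD2_c45 LD3_c34)) = v15715 :=
  Lrfl
theorem f741058 : Led Lsl_af (LP (LK LD1_c5 LD2_c45 LD3_c34)) = v15715 :=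
  Lgr Lrot0 (Lpr_at (f741057 IH) (Lpn v15715))
theorem f741061 : Led Lsl_ft (LP (LK LD1_c5 LD2_c45 LD3_c60)) = v15715 :=
  Lgr Lrot2 (Lpr_gt (f381344 IH) (Lpr_gt (f640459 IH) (Lpqs (f741033 IH) (Lpr_af (f741058 IH) (Lpn v15715)))))
theorem f741062 : Led Lsl_ff (LP (LK LD1_c5 LD2_c45 LD3_c60)) = v15715 :=
  Lgr Lrot3 (Lpr_ft (f741061 IH) (Lpn v15715))
def v4798 : LQ := Led Lsl_at (LP (LK LD1_c2 LD2_c48 LD3_c31))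
theorem f639050 : Led Lsl_at (LP (LK LD1_c2 LD2_c48 LD3_c31)) = v4798 :=
  Lrfl
theorem f639051 : Led Lsl_af (LP (LK LD1_c2 LD2_c48 LD3_c31)) = v4798 :=
  Lgr Lrot0 (Lpr_at (f639050 IH) (Lpn v4798))
theorem f741059 : Led Lsl_ef v4798 = v15715 :=
  Lgr Lrot20 (Lpe (f639051 IH) (Lpr_et (f181171 IH) (Lpr_at (f741057 IH) (Lpn v15715))))
theorem f741060 : Led Lsl_et v4798 = v15715 :=
  Lgr Lrot87 (Lpr_ef (f741059 IH) (Lpn v15715))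
def v4181 : LQ := Led Lsl_ft (LP (LK LD1_c2 LD2_c13 LD3_c42))
theorem f631679 : Led Lsl_ft (LP (LK LD1_c2 LD2_c13 LD3_c42)) = v4181 :=
  Lrfl
theorem f631682 : Led Lsl_ff (LP (LK LD1_c2 LD2_c13 LD3_c42)) = v4181 :=
  Lgr Lrot3 (Lpr_ft (f631679 IH) (Lpn v4181))
theorem f296993 : Led Lsl_at (LP (LK LD1_c2 LD2_c13 LD3_c42)) = (LP (LK LD1_c1 LD2_c20 LD3_c26)) :=
  Lgr Lrot100 (Lpr_af (K18.f296991 IH) (Lpn (LP (LK LD1_c1 LD2_c20 LD3_c26))))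
theorem f631686 : Led Lsl_gf (LP (LK LD1_c2 LD2_c48 LD3_c31)) = v4181 :=
  Lgr Lrot47 (Lpr_gt (f168238 IH) (Lpe (f296993 IH) (Lpr_ff (f631682 IH) (Lpn v4181))))
theorem f385542 : Led Lsl_ft (LP (LK LD1_c1 LD2_c20 LD3_c26)) = (LP (LK LD1_c2 LD2_c48 LD3_c33)) :=
  Lre_f IH (LK LD1_c1 LD2_c20 LD3_c26) (LK LD1_c2 LD2_c48 LD3_c33) Lrfl Lrfl
theorem f631684 : Led Lsl_at (LP (LK LD1_c2 LD2_c48 LD3_c33)) = v4181 :=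
  Lgr Lrot66 (Lpe (f385542 IH) (Lpe (f296993 IH) (Lpr_ff (f631682 IH) (Lpn v4181))))
def v1503 : LQ := Led Lsl_gt (LP (LK LD1_c1 LD2_c20 LD3_c26))
theorem f495919 : Led Lsl_gt (LP (LK LD1_c1 LD2_c20 LD3_c26)) = v1503 :=
  Lrfl
theorem f631687 : Led Lsl_gt v1503 = v4181 :=
  Lgr Lrot46 (Lpe (f495919 IH) (Lpr_ft (f385542 IH) (Lpr_at (f631684 IH) (Lpn v4181))))
theorem f639053 : Led Lsl_ft v1503 = v4798 :=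
  Lgr Lrot2 (Lpr_gt (f631687 IH) (Lpe (f631686 IH) (Lpr_af (f639051 IH) (Lpn v4798))))
def v7972 : LQ := Led Lsl_et v1503
theorem f669164 : Led Lsl_et v1503 = v7972 :=
  Lrfl
theorem f669165 : Led Lsl_ef v1503 = v7972 :=
  Lgr Lrot88 (Lpr_et (f669164 IH) (Lpn v7972))
theorem f741343 : Led Lsl_ff v7972 = v15759 :=
  Lgr Lrot72 (Lpe (f669165 IH) (Lpr_ft (f639053 IH) (Lpr_et (f741060 IH) (Lpe (f741062 IH) (Lpr_et (f741341 IH) (Lpn v15759))))))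
def v5161 : LQ := Led Lsl_ft (LP (LK LD1_c2 LD2_c59 LD3_c61))
theorem f646281 : Led Lsl_ft (LP (LK LD1_c2 LD2_c59 LD3_c61)) = v5161 :=
  Lrfl
theorem f646284 : Led Lsl_ff (LP (LK LD1_c2 LD2_c59 LD3_c61)) = v5161 :=
  Lgr Lrot3 (Lpr_ft (f646281 IH) (Lpn v5161))
theorem f646287 : Led Lsl_dt v4181 = v5161 :=
  Lgr Lrot60 (Lpe (f631679 IH) (Lpe (K50.f175948 IH) (Lpr_ff (f646284 IH) (Lpn v5161))))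
def v4802 : LQ := Led Lsl_gf (LP (LK LD1_c2 LD2_c48 LD3_c32))
theorem f639062 : Led Lsl_gf (LP (LK LD1_c2 LD2_c48 LD3_c32)) = v4802 :=
  Lrfl
theorem f646288 : Led Lsl_gf v4802 = v5161 :=
  Lgr Lrot47 (Lpe (f639062 IH) (Lpe (K18.f296987 IH) (Lpr_ff (f646284 IH) (Lpn v5161))))
theorem f168243 : Led Lsl_et (LP (LK LD1_c1 LD2_c20 LD3_c26)) = (LP (LK LD1_c0 LD2_c37 LD3_c9)) :=
  Lre_e IH (LK LD1_c1 LD2_c20 LD3_c26) (LK LD1_c0 LD2_c37 LD3_c9) Lrfl Lrfl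
theorem f68849 : Led Lsl_gt (LP (LK LD1_c1 LD2_c19 LD3_c56)) = (LP (LK LD1_c2 LD2_c47 LD3_c4)) :=
  Lre_g IH (LK LD1_c1 LD2_c19 LD3_c56) (LK LD1_c2 LD2_c47 LD3_c4) Lrfl Lrfl
def v4772 : LQ := Led Lsl_et (LP (LK LD1_c2 LD2_c47 LD3_c4))
theorem f638912 : Led Lsl_et (LP (LK LD1_c2 LD2_c47 LD3_c4)) = v4772 :=
  Lrfl
theorem f638913 : Led Lsl_ef (LP (LK LD1_c2 LD2_c47 LD3_c4)) = v4772 :=
  Lgr Lrot88 (Lpr_et (f638912 IH) (Lpn v4772))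
theorem f639063 : Led Lsl_dt v4772 = v4802 :=
  Lgr Lrot136 (Lpe (f638913 IH) (Lpe (f68849 IH) (Lpe (K16.f174302 IH) (Lpr_dt (K9.f174153 IH) (Lpe (K9.f68576 IH) (Lpe (K9.f165204 IH) (Lpe (K9.f22481 IH) (Lpe (f168243 IH) (Lpr_dt (K18.f168226 IH) (Lpr_gf (f639062 IH) (Lpn v4802)))))))))))
theorem f268955 : Led Lsl_at (LP (LK LD1_c11 LD2_c13 LD3_c20)) = (LP (LK LD1_c5 LD2_c41 LD3_c59)) :=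
  Lre_a IH (LK LD1_c11 LD2_c13 LD3_c20) (LK LD1_c5 LD2_c41 LD3_c59) Lrfl Lrfl
theorem f280332 : Led Lsl_at (LP (LK LD1_c9 LD2_c2 LD3_c12)) = (LP (LK LD1_c16 LD2_c52 LD3_c6)) :=
  Lre_a IH (LK LD1_c9 LD2_c2 LD3_c12) (LK LD1_c16 LD2_c52 LD3_c6) Lrfl Lrfl
theorem f281830 : Led Lsl_at (LP (LK LD1_c2 LD2_c47 LD3_c7)) = (LP (LK LD1_c4 LD2_c32 LD3_c20)) :=
  Lgr Lrot67 (Lpe (K16.f268931 IH) (Lpe (f268955 IH) (Lpr_bf (K16.f281825 IH) (Lpe (f280332 IH) (Lpe (K16.f280318 IH) (Lpn (LP (LK LD1_c4 LD2_c32 LD3_c20))))))))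
theorem f281893 : Led Lsl_gt (LP (LK LD1_c2 LD2_c47 LD3_c4)) = (LP (LK LD1_c4 LD2_c32 LD3_c20)) :=
  Lgr Lrot46 (Lpe (f68849 IH) (Lpr_ft (K16.f174288 IH) (Lpr_at (f281830 IH) (Lpn (LP (LK LD1_c4 LD2_c32 LD3_c20))))))
theorem f268738 : Led Lsl_at (LP (LK LD1_c2 LD2_c47 LD3_c31)) = (LP (LK LD1_c4 LD2_c32 LD3_c45)) :=
  Lgr Lrot100 (Lpr_af (K16.f268736 IH) (Lpn (LP (LK LD1_c4 LD2_c32 LD3_c45))))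
theorem f280938 : Led Lsl_ft (LP (LK LD1_c5 LD2_c43 LD3_c6)) = (LP (LK LD1_c2 LD2_c47 LD3_c31)) :=
  Lre_f IH (LK LD1_c5 LD2_c43 LD3_c6) (LK LD1_c2 LD2_c47 LD3_c31) Lrfl Lrfl
theorem f177743 : Led Lsl_gt (LP (LK LD1_c9 LD2_c2 LD3_c54)) = (LP (LK LD1_c4 LD2_c32 LD3_c45)) :=
  Lre_g IH (LK LD1_c9 LD2_c2 LD3_c54) (LK LD1_c4 LD2_c32 LD3_c45) Lrfl Lrfl
theorem f412086 : Led Lsl_gt (LP (LK LD1_c5 LD2_c43 LD3_c6)) = (LP (LK LD1_c9 LD2_c2 LD3_c54)) :=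
  Lgr Lrot5 (Lpr_ft (f280938 IH) (Lpr_at (f268738 IH) (Lpe (f177743 IH) (Lpn (LP (LK LD1_c9 LD2_c2 LD3_c54))))))
theorem f669166 : Led Lsl_df (LP (LK LD1_c9 LD2_c2 LD3_c54)) = v7972 :=
  Lgr Lrot168 (Lpe (f412086 IH) (Lpe (K16.f268767 IH) (Lpr_et (K16.f280319 IH) (Lpe (f281893 IH) (Lpr_ef (f638913 IH) (Lpr_dt (f639063 IH) (Lpr_gf (f646288 IH) (Lpe (f646287 IH) (Lpe (f631687 IH) (Lpr_ef (f669165 IH) (Lpn v7972)))))))))))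
theorem f741348 : v15592 = (LP (LK LD1_c9 LD2_c2 LD3_c54)) :=
  (Llr Lrot19 (Lpe (f738184 IH) (Lpr_dt (f741347 IH) (Lpe (f741343 IH) (Lpe (f669166 IH) (Lpn (LP (LK LD1_c9 LD2_c2 LD3_c54)))))))).symm
theorem f741349 : Led Lsl_at (LP (LK LD1_c9 LD2_c2 LD3_c54)) = (LP (LK LD1_c5 LD2_c43 LD3_c4)) :=
  Leop (Lpr_af (f738181 IH) (Lpqs (f741348 IH) (Lpn (LP (LK LD1_c9 LD2_c2 LD3_c54)))))
theorem seed_934 : LEOK LG_a (LK LD1_c9 LD2_c2 LD3_c54) :=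
  Leoe_a (LK LD1_c9 LD2_c2 LD3_c54) (f741349 IH)
def v12858 : LQ := Led Lsl_at (LP (LK LD1_c4 LD2_c33 LD3_c35))
theorem f698626 : Led Lsl_at (LP (LK LD1_c4 LD2_c33 LD3_c35)) = v12858 :=
  Lrfl
def v4800 : LQ := Led Lsl_ft (LP (LK LD1_c2 LD2_c48 LD3_c31))
theorem f639057 : Led Lsl_ft (LP (LK LD1_c2 LD2_c48 LD3_c31)) = v4800 :=
  Lrfl
theorem f639059 : Led Lsl_ff (LP (LK LD1_c2 LD2_c48 LD3_c31)) = v4800 :=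
  Lgr Lrot3 (Lpr_ft (f639057 IH) (Lpn v4800))
theorem f698627 : Led Lsl_af (LP (LK LD1_c4 LD2_c33 LD3_c35)) = v12858 :=
  Lgr Lrot0 (Lpr_at (f698626 IH) (Lpn v12858))
def v4180 : LQ := Led Lsl_gt (LP (LK LD1_c2 LD2_c13 LD3_c42))
theorem f631678 : Led Lsl_gt (LP (LK LD1_c2 LD2_c13 LD3_c42)) = v4180 :=
  Lrfl
theorem f631680 : Led Lsl_af (LP (LK LD1_c2 LD2_c48 LD3_c33)) = v4181 :=
  Lgr Lrot45 (Lpr_ft (K50.f296999 IH) (Lpe (K18.f296991 IH) (Lpr_ft (f631679 IH) (Lpn v4181))))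
theorem f631683 : Led Lsl_gt v4180 = (LP (LK LD1_c2 LD2_c48 LD3_c33)) :=
  Lgr Lrot46 (Lpe (f631678 IH) (Lpr_ft (f631679 IH) (Lpe (f631680 IH) (Lpn (LP (LK LD1_c2 LD2_c48 LD3_c33))))))
theorem f698630 : Led Lsl_ft v4180 = v12858 :=
  Lgr Lrot2 (Lpr_gt (f631683 IH) (Lpe (K50.f297000 IH) (Lpr_af (f698627 IH) (Lpn v12858))))
def v15594 : LQ := Led Lsl_dt (LP (LK LD1_c5 LD2_c43 LD3_c4))
theorem f738195 : Led Lsl_dt (LP (LK LD1_c5 LD2_c43 LD3_c4)) = v15594 :=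
  Lrfl
theorem f741353 : Led Lsl_af v7972 = v15594 :=
  Lgr Lrot117 (Lpe (f669166 IH) (Lpq (f741348 IH) (Lpe (f738181 IH) (Lpr_dt (f738195 IH) (Lpn v15594)))))
theorem f639054 : Led Lsl_ff v1503 = v4798 :=
  Lgr Lrot3 (Lpr_ft (f639053 IH) (Lpn v4798))
theorem f639060 : Led Lsl_at v1503 = v4800 :=
  Lgr Lrot66 (Lpr_ff (f639054 IH) (Lpe (f639050 IH) (Lpr_ff (f639059 IH) (Lpn v4800))))
theorem f738196 : Led Lsl_df (LP (LK LD1_c5 LD2_c43 LD3_c4)) = v15594 :=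
  Lgr Lrot38 (Lpr_dt (f738195 IH) (Lpn v15594))
theorem f174238 : Led Lsl_dt (LP (LK LD1_c1 LD2_c20 LD3_c3)) = (LP (LK LD1_c2 LD2_c47 LD3_c31)) :=
  Lre_d IH (LK LD1_c1 LD2_c20 LD3_c3) (LK LD1_c2 LD2_c47 LD3_c31) Lrfl Lrfl
theorem f174237 : Led Lsl_et (LP (LK LD1_c1 LD2_c20 LD3_c3)) = (LP (LK LD1_c0 LD2_c37 LD3_c1)) :=
  Lre_e IH (LK LD1_c1 LD2_c20 LD3_c3) (LK LD1_c0 LD2_c37 LD3_c1) Lrfl Lrfl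
theorem f738197 : Led Lsl_ef v4180 = v15594 :=
  Lgr Lrot17 (Lpe (f631678 IH) (Lpe (K18.f173389 IH) (Lpe (K9.f173365 IH) (Lpr_gf (K10.f167784 IH) (Lpr_df (K9.f178876 IH) (Lpr_gf (K9.f174220 IH) (Lpe (f174237 IH) (Lpr_dt (f174238 IH) (Lpe (K54.f174239 IH) (Lpr_df (f738196 IH) (Lpn v15594)))))))))))
theorem f738198 : Led Lsl_et v4180 = v15594 :=
  Lgr Lrot87 (Lpr_ef (f738197 IH) (Lpn v15594))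
theorem f741355 : v4800 = v4180 :=
  (Llr Lrot80 (Lpe (f639060 IH) (Lpr_ef (f669165 IH) (Lpr_af (f741353 IH) (Lpe (f738198 IH) (Lpn v4180)))))).symm
theorem f741357 : (LP (LK LD1_c2 LD2_c48 LD3_c31)) = v12858 :=
  Lefun (Lecon (Lfl_ff (f639059 IH)) (f741355 IH)) (f698630 IH)
theorem f741359 : Led Lsl_at (LP (LK LD1_c4 LD2_c33 LD3_c35)) = (LP (LK LD1_c2 LD2_c48 LD3_c31)) :=
  Leop (Lpqs (f741357 IH) (Lpe (f698626 IH) (Lpn (LP (LK LD1_c4 LD2_c33 LD3_c35)))))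
theorem seed_935 : LEOK LG_a (LK LD1_c4 LD2_c33 LD3_c35) :=
  Leoe_a (LK LD1_c4 LD2_c33 LD3_c35) (f741359 IH)
def v12861 : LQ := Led Lsl_ft (LP (LK LD1_c4 LD2_c33 LD3_c35))
theorem f698648 : Led Lsl_ft (LP (LK LD1_c4 LD2_c33 LD3_c35)) = v12861 :=
  Lrfl
theorem f698650 : Led Lsl_ff (LP (LK LD1_c4 LD2_c33 LD3_c35)) = v12861 :=
  Lgr Lrot3 (Lpr_ft (f698648 IH) (Lpn v12861))
theorem f639058 : Led Lsl_af v1503 = v4800 :=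
  Lgr Lrot45 (Lpr_ft (f639053 IH) (Lpe (f639051 IH) (Lpr_ft (f639057 IH) (Lpn v4800))))
theorem f698631 : Led Lsl_ff v4180 = v12858 :=
  Lgr Lrot3 (Lpr_ft (f698630 IH) (Lpn v12858))
theorem f698651 : Led Lsl_at v4180 = v12861 :=
  Lgr Lrot66 (Lpr_ff (f698631 IH) (Lpe (f698626 IH) (Lpr_ff (f698650 IH) (Lpn v12861))))
theorem f741356 : v1503 = v12861 :=
  Lefun (Lecon (Lfl_af (f639058 IH)) (f741355 IH)) (f698651 IH)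
theorem f741358 : (LP (LK LD1_c4 LD2_c33 LD3_c35)) = v4798 :=
  Lefun (Lecon (Lfl_ff (f698650 IH)) (f741356 IH).symm) (f639053 IH)
theorem f741362 : v15715 = (LP (LK LD1_c9 LD2_c4 LD3_c46)) :=
  Lefun (Lecon (f741060 IH) (f741358 IH).symm) (K50.f698629 IH)
theorem f741336 : Led Lsl_df (LP (LK LD1_c5 LD2_c45 LD3_c60)) = v15758 :=
  Lgr Lrot38 (Lpr_dt (f741335 IH) (Lpn v15758))
theorem f741369 : Led Lsl_ff v15758 = (LP (LK LD1_c16 LD2_c56 LD3_c28)) :=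
  Lgr Lrot19 (Lpe (f741336 IH) (Lpr_ft (f741061 IH) (Lpqs (f741362 IH) (Lpr_dt (K50.f173392 IH) (Lpn (LP (LK LD1_c16 LD2_c56 LD3_c28)))))))
def v15555 : LQ := Led Lsl_dt (LP (LK LD1_c5 LD2_c42 LD3_c5))
theorem f738001 : Led Lsl_dt (LP (LK LD1_c5 LD2_c42 LD3_c5)) = v15555 :=
  Lrfl
theorem f715284 : Led Lsl_ft (LP (LK LD1_c5 LD2_c37 LD3_c23)) = (LP (LK LD1_c5 LD2_c42 LD3_c5)) :=
  Lgr Lrot48 (Lpr_ff (K54.f715280 IH) (Lpn (LP (LK LD1_c5 LD2_c42 LD3_c5))))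
theorem f738004 : Led Lsl_ff (LP (LK LD1_c11 LD2_c6 LD3_c34)) = v15555 :=
  Lgr Lrot19 (Lpr_dt (K50.f211867 IH) (Lpr_ft (f715284 IH) (Lpr_dt (f738001 IH) (Lpn v15555))))
theorem f715224 : Led Lsl_at (LP (LK LD1_c11 LD2_c6 LD3_c34)) = (LP (LK LD1_c11 LD2_c14 LD3_c27)) :=
  Lgr Lrot51 (Lpe (f211854 IH) (Lpr_af (K54.f715219 IH) (Lpe (K35.f225977 IH) (Lpn (LP (LK LD1_c11 LD2_c14 LD3_c27))))))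
theorem f735902 : Led Lsl_ft (LP (LK LD1_c11 LD2_c14 LD3_c27)) = K54.v15366 :=
  Lgr Lrot48 (Lpr_ff (K54.f735901 IH) (Lpn K54.v15366))
theorem f738005 : Led Lsl_at K54.v15366 = v15555 :=
  Lgr Lrot66 (Lpe (f735902 IH) (Lpe (f715224 IH) (Lpr_ff (f738004 IH) (Lpn v15555))))
theorem f225939 : Led Lsl_gt (LP (LK LD1_c11 LD2_c14 LD3_c27)) = (LP (LK LD1_c16 LD2_c56 LD3_c28)) :=
  Lgr Lrot139 (Lpe (K50.f225938 IH) (Lpe (K17.f225937 IH) (Lpe (K17.f225936 IH) (Lpr_dt (K12.f225926 IH) (Lpr_gf (K12.f225153 IH) (Lpr_df (K9.f173365 IH) (Lpr_et (K18.f173389 IH) (Lpe (K50.f173390 IH) (Lpe (K50.f173391 IH) (Lpr_dt (K50.f173392 IH) (Lpn (LP (LK LD1_c16 LD2_c56 LD3_c28)))))))))))))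
theorem f738009 : Led Lsl_gt (LP (LK LD1_c16 LD2_c56 LD3_c28)) = v15555 :=
  Lgr Lrot46 (Lpe (f225939 IH) (Lpr_ft (f735902 IH) (Lpr_at (f738005 IH) (Lpn v15555))))
theorem f738007 : Led Lsl_gf (LP (LK LD1_c12 LD2_c23 LD3_c44)) = v15555 :=
  Lgr Lrot47 (Lpr_gt (K50.f698784 IH) (Lpe (f715224 IH) (Lpr_ff (f738004 IH) (Lpn v15555))))
theorem f741371 : Led Lsl_at v15758 = (LP (LK LD1_c12 LD2_c23 LD3_c44)) :=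
  Lgr Lrot26 (Lpr_ff (f741369 IH) (Lpr_gt (f738009 IH) (Lpe (f738007 IH) (Lpn (LP (LK LD1_c12 LD2_c23 LD3_c44))))))
theorem f68936 : Led Lsl_et (LP (LK LD1_c2 LD2_c57 LD3_c29)) = (LP (LK LD1_c6 LD2_c2 LD3_c49)) :=
  Lre_e IH (LK LD1_c2 LD2_c57 LD3_c29) (LK LD1_c6 LD2_c2 LD3_c49) Lrfl Lrfl
def v13305 : LQ := Led Lsl_gf (LP (LK LD1_c4 LD2_c42 LD3_c61))
theorem f702254 : Led Lsl_gf (LP (LK LD1_c4 LD2_c42 LD3_c61)) = v13305 :=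
  Lrfl
theorem f204333 : Led Lsl_at (LP (LK LD1_c3 LD2_c10 LD3_c23)) = (LP (LK LD1_c4 LD2_c42 LD3_c61)) :=
  Lgr Lrot100 (Lpr_af (K11.f204329 IH) (Lpn (LP (LK LD1_c4 LD2_c42 LD3_c61))))
theorem f702255 : Led Lsl_gt (LP (LK LD1_c6 LD2_c2 LD3_c49)) = v13305 :=
  Lgr Lrot5 (Lpr_ft (K11.f68932 IH) (Lpr_at (f204333 IH) (Lpr_gf (f702254 IH) (Lpn v13305))))
theorem f741339 : Led Lsl_ef v13305 = v15758 :=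
  Lgr Lrot17 (Lpe (f702255 IH) (Lpe (f68936 IH) (Lpr_dt (K11.f204259 IH) (Lpr_gf (K32.f204250 IH) (Lpe (K45.f204253 IH) (Lpe (K50.f204254 IH) (Lpr_ef (K53.f507806 IH) (Lpr_dt (K50.f289272 IH) (Lpe (f381344 IH) (Lpr_df (f741336 IH) (Lpn v15758)))))))))))
theorem f741340 : Led Lsl_et v13305 = v15758 :=
  Lgr Lrot87 (Lpr_ef (f741339 IH) (Lpn v15758))
theorem f741373 : Led Lsl_af v13305 = (LP (LK LD1_c6 LD2_c25 LD3_c28)) :=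
  Lgr Lrot50 (Lpr_et (f741340 IH) (Lpr_at (f741371 IH) (Lpr_et (K50.f204340 IH) (Lpn (LP (LK LD1_c6 LD2_c25 LD3_c28))))))
def v13304 : LQ := Led Lsl_gt (LP (LK LD1_c4 LD2_c42 LD3_c61))
theorem f702252 : Led Lsl_gt (LP (LK LD1_c4 LD2_c42 LD3_c61)) = v13304 :=
  Lrfl
theorem f702253 : Led Lsl_gf (LP (LK LD1_c6 LD2_c2 LD3_c49)) = v13304 :=
  Lgr Lrot76 (Lpr_af (K11.f204327 IH) (Lpe (K40.f104849 IH) (Lpr_gt (f702252 IH) (Lpn v13304))))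
theorem f741388 : Led Lsl_ft v13304 = (LP (LK LD1_c6 LD2_c25 LD3_c28)) :=
  Lgr Lrot2 (Lpe (f702253 IH) (Lpr_gt (f702255 IH) (Lpr_af (f741373 IH) (Lpn (LP (LK LD1_c6 LD2_c25 LD3_c28))))))
theorem f741389 : Led Lsl_ff v13304 = (LP (LK LD1_c6 LD2_c25 LD3_c28)) :=
  Lgr Lrot3 (Lpr_ft (f741388 IH) (Lpn (LP (LK LD1_c6 LD2_c25 LD3_c28))))
theorem f68934 : Led Lsl_gt (LP (LK LD1_c3 LD2_c10 LD3_c23)) = (LP (LK LD1_c6 LD2_c25 LD3_c27)) :=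
  Lre_g IH (LK LD1_c3 LD2_c10 LD3_c23) (LK LD1_c6 LD2_c25 LD3_c27) Lrfl Lrfl
theorem f741390 : Led Lsl_at v13304 = (LP (LK LD1_c6 LD2_c25 LD3_c27)) :=
  Lgr Lrot26 (Lpr_ff (f741389 IH) (Lpr_gt (K50.f204337 IH) (Lpr_gt (f68934 IH) (Lpn (LP (LK LD1_c6 LD2_c25 LD3_c27))))))
theorem f741387 : Led Lsl_at v13305 = (LP (LK LD1_c6 LD2_c25 LD3_c28)) :=
  Lgr Lrot100 (Lpr_af (f741373 IH) (Lpn (LP (LK LD1_c6 LD2_c25 LD3_c28))))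
theorem f741392 : Led Lsl_ff v13305 = (LP (LK LD1_c6 LD2_c25 LD3_c27)) :=
  Lgr Lrot30 (Lpr_at (f741387 IH) (Lpe (f741389 IH) (Lpr_at (f741390 IH) (Lpn (LP (LK LD1_c6 LD2_c25 LD3_c27))))))
theorem f741370 : Led Lsl_ft v15758 = (LP (LK LD1_c16 LD2_c56 LD3_c28)) :=
  Lgr Lrot48 (Lpr_ff (f741369 IH) (Lpn (LP (LK LD1_c16 LD2_c56 LD3_c28))))
theorem f181148 : Led Lsl_et (LP (LK LD1_c6 LD2_c8 LD3_c13)) = (LP (LK LD1_c4 LD2_c7 LD3_c5)) :=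
  Lgr Lrot71 (Lpe (K16.f59955 IH) (Lpe (K16.f181146 IH) (Lpr_df (K9.f181136 IH) (Lpe (K16.f181147 IH) (Lpe (K18.f28397 IH) (Lpn (LP (LK LD1_c4 LD2_c7 LD3_c5))))))))
theorem f181158 : Led Lsl_gt (LP (LK LD1_c6 LD2_c8 LD3_c12)) = (LP (LK LD1_c3 LD2_c0 LD3_c20)) :=
  Lre_g IH (LK LD1_c6 LD2_c8 LD3_c12) (LK LD1_c3 LD2_c0 LD3_c20) Lrfl Lrfl
theorem f181159 : Led Lsl_dt (LP (LK LD1_c11 LD2_c58 LD3_c21)) = (LP (LK LD1_c6 LD2_c8 LD3_c12)) :=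
  Lre_d IH (LK LD1_c11 LD2_c58 LD3_c21) (LK LD1_c6 LD2_c8 LD3_c12) Lrfl Lrfl
theorem f210566 : Led Lsl_ef (LP (LK LD1_c6 LD2_c25 LD3_c27)) = (LP (LK LD1_c11 LD2_c58 LD3_c21)) :=
  Lgr Lrot17 (Lpe (f68934 IH) (Lpe (K11.f68926 IH) (Lpr_dt (K30.f25962 IH) (Lpr_gf (K11.f210559 IH) (Lpe (K10.f20517 IH) (Lpr_gf (K10.f181155 IH) (Lpe (f181148 IH) (Lpr_dt (K16.f181157 IH) (Lpe (f181158 IH) (Lpe (f181159 IH) (Lpn (LP (LK LD1_c11 LD2_c58 LD3_c21)))))))))))))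
theorem f741393 : Led Lsl_ft (LP (LK LD1_c15 LD2_c26 LD3_c9)) = (LP (LK LD1_c11 LD2_c58 LD3_c21)) :=
  Lgr Lrot86 (Lpr_ef (K50.f698646 IH) (Lpe (f741370 IH) (Lpe (f741340 IH) (Lpr_ff (f741392 IH) (Lpr_ef (f210566 IH) (Lpn (LP (LK LD1_c11 LD2_c58 LD3_c21))))))))
theorem f741394 : Led Lsl_ft (LP (LK LD1_c15 LD2_c26 LD3_c9)) = (LP (LK LD1_c11 LD2_c58 LD3_c21)) :=
  Leop (Lpe (f741393 IH) (Lpn (LP (LK LD1_c15 LD2_c26 LD3_c9))))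
theorem seed_936 : LEOK LG_f (LK LD1_c15 LD2_c26 LD3_c9) :=
  Leoe_f (LK LD1_c15 LD2_c26 LD3_c9) (f741394 IH)
def v15777 : LQ := Led Lsl_at (LP (LK LD1_c5 LD2_c46 LD3_c12))
theorem f741491 : Led Lsl_at (LP (LK LD1_c5 LD2_c46 LD3_c12)) = v15777 :=
  Lrfl
theorem f180506 : Led Lsl_dt (LP (LK LD1_c2 LD2_c48 LD3_c51)) = (LP (LK LD1_c5 LD2_c46 LD3_c12)) :=
  Lre_d IH (LK LD1_c2 LD2_c48 LD3_c51) (LK LD1_c5 LD2_c46 LD3_c12) Lrfl Lrfl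
def v4824 : LQ := Led Lsl_at (LP (LK LD1_c2 LD2_c48 LD3_c51))
theorem f640479 : Led Lsl_at (LP (LK LD1_c2 LD2_c48 LD3_c51)) = v4824 :=
  Lrfl
theorem f640480 : Led Lsl_af (LP (LK LD1_c2 LD2_c48 LD3_c51)) = v4824 :=
  Lgr Lrot0 (Lpr_at (f640479 IH) (Lpn v4824))
theorem f741494 : Led Lsl_df v4824 = v15777 :=
  Lgr Lrot18 (Lpe (f640480 IH) (Lpr_dt (f180506 IH) (Lpr_at (f741491 IH) (Lpn v15777))))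
theorem f640483 : Led Lsl_ft (LP (LK LD1_c2 LD2_c48 LD3_c52)) = v4824 :=
  Lgr Lrot2 (Lpr_gt (f9190 IH) (Lpr_gt (K17.f180459 IH) (Lpr_af (f640480 IH) (Lpn v4824))))
theorem f640485 : Led Lsl_ff (LP (LK LD1_c2 LD2_c48 LD3_c52)) = v4824 :=
  Lgr Lrot3 (Lpr_ft (f640483 IH) (Lpn v4824))
theorem f741496 : Led Lsl_ft (LP (LK LD1_c5 LD2_c46 LD3_c16)) = v15777 :=
  Lgr Lrot54 (Lpe (f27004 IH) (Lpr_ff (f640485 IH) (Lpr_df (f741494 IH) (Lpn v15777))))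
theorem f741492 : Led Lsl_af (LP (LK LD1_c5 LD2_c46 LD3_c12)) = v15777 :=
  Lgr Lrot0 (Lpr_at (f741491 IH) (Lpn v15777))
theorem f180507 : Led Lsl_gt (LP (LK LD1_c11 LD2_c22 LD3_c44)) = (LP (LK LD1_c5 LD2_c46 LD3_c12)) :=
  Lre_g IH (LK LD1_c11 LD2_c22 LD3_c44) (LK LD1_c5 LD2_c46 LD3_c12) Lrfl Lrfl
theorem f741498 : Led Lsl_gt (LP (LK LD1_c5 LD2_c46 LD3_c16)) = (LP (LK LD1_c11 LD2_c22 LD3_c44)) :=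
  Lgr Lrot5 (Lpr_ft (f741496 IH) (Lpe (f741492 IH) (Lpe (f180507 IH) (Lpn (LP (LK LD1_c11 LD2_c22 LD3_c44))))))
theorem f741499 : Led Lsl_gt (LP (LK LD1_c5 LD2_c46 LD3_c16)) = (LP (LK LD1_c11 LD2_c22 LD3_c44)) :=
  Leop (Lpe (f741498 IH) (Lpn (LP (LK LD1_c5 LD2_c46 LD3_c16))))
theorem seed_937 : LEOK LG_g (LK LD1_c5 LD2_c46 LD3_c16) :=
  Leoe_g (LK LD1_c5 LD2_c46 LD3_c16) (f741499 IH)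
def v15779 : LQ := Led Lsl_at (LP (LK LD1_c5 LD2_c46 LD3_c13))
theorem f741507 : Led Lsl_at (LP (LK LD1_c5 LD2_c46 LD3_c13)) = v15779 :=
  Lrfl
theorem f180468 : Led Lsl_dt (LP (LK LD1_c5 LD2_c6 LD3_c1)) = (LP (LK LD1_c5 LD2_c46 LD3_c13)) :=
  Lgr Lrot42 (Lpr_df (K17.f180461 IH) (Lpn (LP (LK LD1_c5 LD2_c46 LD3_c13))))
def v14309 : LQ := Led Lsl_ft (LP (LK LD1_c5 LD2_c6 LD3_c0))
theorem f721849 : Led Lsl_ft (LP (LK LD1_c5 LD2_c6 LD3_c0)) = v14309 :=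
  Lrfl
def v14308 : LQ := Led Lsl_at (LP (LK LD1_c5 LD2_c6 LD3_c0))
theorem f721844 : Led Lsl_at (LP (LK LD1_c5 LD2_c6 LD3_c0)) = v14308 :=
  Lrfl
theorem f721845 : Led Lsl_af (LP (LK LD1_c5 LD2_c6 LD3_c0)) = v14308 :=
  Lgr Lrot0 (Lpr_at (f721844 IH) (Lpn v14308))
theorem f721847 : Led Lsl_ft (LP (LK LD1_c5 LD2_c6 LD3_c1)) = v14308 :=
  Lgr Lrot2 (Lpr_gt (K17.f164763 IH) (Lpr_gt (K54.f164766 IH) (Lpr_af (f721845 IH) (Lpn v14308))))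
theorem f721850 : Led Lsl_af (LP (LK LD1_c5 LD2_c6 LD3_c1)) = v14309 :=
  Lgr Lrot45 (Lpr_ft (f721847 IH) (Lpe (f721845 IH) (Lpr_ft (f721849 IH) (Lpn v14309))))
theorem f741509 : Led Lsl_df v14309 = v15779 :=
  Lgr Lrot18 (Lpe (f721850 IH) (Lpr_dt (f180468 IH) (Lpr_at (f741507 IH) (Lpn v15779))))
theorem f721851 : Led Lsl_ff (LP (LK LD1_c5 LD2_c6 LD3_c0)) = v14309 :=
  Lgr Lrot3 (Lpr_ft (f721849 IH) (Lpn v14309))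
theorem f164985 : Led Lsl_dt (LP (LK LD1_c5 LD2_c6 LD3_c0)) = (LP (LK LD1_c10 LD2_c3 LD3_c1)) :=
  Lre_d IH (LK LD1_c5 LD2_c6 LD3_c0) (LK LD1_c10 LD2_c3 LD3_c1) Lrfl Lrfl
theorem f741513 : Led Lsl_ft (LP (LK LD1_c10 LD2_c3 LD3_c1)) = v15779 :=
  Lgr Lrot54 (Lpe (f164985 IH) (Lpr_ff (f721851 IH) (Lpr_df (f741509 IH) (Lpn v15779))))
theorem f741508 : Led Lsl_af (LP (LK LD1_c5 LD2_c46 LD3_c13)) = v15779 :=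
  Lgr Lrot0 (Lpr_at (f741507 IH) (Lpn v15779))
theorem f740934 : Led Lsl_ff (LP (LK LD1_c5 LD2_c46 LD3_c7)) = v15686 :=
  Lgr Lrot3 (Lpr_ft (f740931 IH) (Lpn v15686))
theorem f740930 : Led Lsl_et v4789 = v15686 :=
  Lgr Lrot87 (Lpr_ef (f740929 IH) (Lpn v15686))
theorem f639021 : Led Lsl_ft (LP (LK LD1_c11 LD2_c21 LD3_c10)) = (LP (LK LD1_c5 LD2_c45 LD3_c21)) :=
  Lre_f IH (LK LD1_c11 LD2_c21 LD3_c10) (LK LD1_c5 LD2_c45 LD3_c21) Lrfl Lrfl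
theorem f740935 : Led Lsl_et (LP (LK LD1_c5 LD2_c46 LD3_c7)) = (LP (LK LD1_c11 LD2_c21 LD3_c10)) :=
  Lgr Lrot69 (Lpr_ff (f740934 IH) (Lpe (f740930 IH) (Lpe (f639020 IH) (Lpe (K50.f172569 IH) (Lpe (f639021 IH) (Lpn (LP (LK LD1_c11 LD2_c21 LD3_c10))))))))
theorem f26995 : Led Lsl_gt (LP (LK LD1_c5 LD2_c46 LD3_c12)) = (LP (LK LD1_c11 LD2_c22 LD3_c43)) :=
  Lre_g IH (LK LD1_c5 LD2_c46 LD3_c12) (LK LD1_c11 LD2_c22 LD3_c43) Lrfl Lrfl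
theorem f740937 : Led Lsl_gf (LP (LK LD1_c5 LD2_c46 LD3_c13)) = (LP (LK LD1_c11 LD2_c21 LD3_c10)) :=
  Lgr Lrot141 (Lpe (K17.f180471 IH) (Lpr_dt (f180506 IH) (Lpr_gt (f26995 IH) (Lpe (f26986 IH) (Lpr_et (f26994 IH) (Lpr_gt (f26969 IH) (Lpr_dt (f26977 IH) (Lpr_gt (f27015 IH) (Lpr_df (f507649 IH) (Lpr_et (f740935 IH) (Lpn (LP (LK LD1_c11 LD2_c21 LD3_c10)))))))))))))
theorem f741516 : Led Lsl_gt (LP (LK LD1_c10 LD2_c3 LD3_c1)) = (LP (LK LD1_c11 LD2_c21 LD3_c10)) :=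
  Lgr Lrot5 (Lpr_ft (f741513 IH) (Lpe (f741508 IH) (Lpr_gf (f740937 IH) (Lpn (LP (LK LD1_c11 LD2_c21 LD3_c10))))))
theorem f741517 : Led Lsl_gt (LP (LK LD1_c10 LD2_c3 LD3_c1)) = (LP (LK LD1_c11 LD2_c21 LD3_c10)) :=
  Leop (Lpe (f741516 IH) (Lpn (LP (LK LD1_c10 LD2_c3 LD3_c1))))
theorem seed_938 : LEOK LG_g (LK LD1_c10 LD2_c3 LD3_c1) :=
  Leoe_g (LK LD1_c10 LD2_c3 LD3_c1) (f741517 IH)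
def v15802 : LQ := Led Lsl_dt (LP (LK LD1_c5 LD2_c47 LD3_c27))
theorem f741633 : Led Lsl_dt (LP (LK LD1_c5 LD2_c47 LD3_c27)) = v15802 :=
  Lrfl
def v5296 : LQ := Led Lsl_dt (LP (LK LD1_c3 LD2_c3 LD3_c24))
theorem f646930 : Led Lsl_dt (LP (LK LD1_c3 LD2_c3 LD3_c24)) = v5296 :=
  Lrfl
theorem f646933 : Led Lsl_df (LP (LK LD1_c3 LD2_c3 LD3_c24)) = v5296 :=
  Lgr Lrot38 (Lpr_dt (f646930 IH) (Lpn v5296))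
theorem f741637 : Led Lsl_ef v5296 = v15802 :=
  Lgr Lrot73 (Lpe (f646933 IH) (Lpr_et (K6.f99506 IH) (Lpe (K4.f99497 IH) (Lpr_et (K4.f74969 IH) (Lpr_dt (f741633 IH) (Lpn v15802))))))
theorem f411352 : Led Lsl_gt (LP (LK LD1_c9 LD2_c14 LD3_c10)) = (LP (LK LD1_c17 LD2_c8 LD3_c30)) :=
  Lre_g IH (LK LD1_c9 LD2_c14 LD3_c10) (LK LD1_c17 LD2_c8 LD3_c30) Lrfl Lrfl
theorem f578871 : Led Lsl_at (LP (LK LD1_c16 LD2_c29 LD3_c53)) = (LP (LK LD1_c17 LD2_c1 LD3_c13)) :=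
  Lgr Lrot51 (Lpr_df (K45.f578843 IH) (Lpr_af (K43.f578867 IH) (Lpe (K42.f566872 IH) (Lpn (LP (LK LD1_c17 LD2_c1 LD3_c13))))))
theorem f540546 : Led Lsl_et (LP (LK LD1_c17 LD2_c1 LD3_c13)) = (LP (LK LD1_c26 LD2_c56 LD3_c23)) :=
  Lre_e IH (LK LD1_c17 LD2_c1 LD3_c13) (LK LD1_c26 LD2_c56 LD3_c23) Lrfl Lrfl
theorem f578877 : Led Lsl_at (LP (LK LD1_c26 LD2_c56 LD3_c23)) = (LP (LK LD1_c26 LD2_c26 LD3_c1)) :=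
  Lgr Lrot80 (Lpe (f540546 IH) (Lpe (f578871 IH) (Lpr_ef (K43.f578875 IH) (Lpn (LP (LK LD1_c26 LD2_c26 LD3_c1))))))
theorem f418583 : Led Lsl_dt (LP (LK LD1_c26 LD2_c26 LD3_c1)) = (LP (LK LD1_c16 LD2_c28 LD3_c61)) :=
  Lre_d IH (LK LD1_c26 LD2_c26 LD3_c1) (LK LD1_c16 LD2_c28 LD3_c61) Lrfl Lrfl
theorem f449687 : Led Lsl_at (LP (LK LD1_c16 LD2_c28 LD3_c61)) = (LP (LK LD1_c26 LD2_c25 LD3_c60)) :=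
  Lre_a IH (LK LD1_c16 LD2_c28 LD3_c61) (LK LD1_c26 LD2_c25 LD3_c60) Lrfl Lrfl
theorem f606501 : Led Lsl_df (LP (LK LD1_c26 LD2_c56 LD3_c23)) = (LP (LK LD1_c26 LD2_c25 LD3_c60)) :=
  Lgr Lrot18 (Lpr_at (f578877 IH) (Lpr_dt (f418583 IH) (Lpr_at (f449687 IH) (Lpn (LP (LK LD1_c26 LD2_c25 LD3_c60))))))
theorem f593056 : Led Lsl_bt (LP (LK LD1_c26 LD2_c56 LD3_c23)) = (LP (LK LD1_c17 LD2_c1 LD3_c15)) :=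
  Lre_b IH (LK LD1_c26 LD2_c56 LD3_c23) (LK LD1_c17 LD2_c1 LD3_c15) Lrfl Lrfl
theorem f566877 : Led Lsl_dt (LP (LK LD1_c17 LD2_c1 LD3_c15)) = (LP (LK LD1_c26 LD2_c56 LD3_c26)) :=
  Lre_d IH (LK LD1_c17 LD2_c1 LD3_c15) (LK LD1_c26 LD2_c56 LD3_c26) Lrfl Lrfl
theorem f606503 : Led Lsl_bt (LP (LK LD1_c26 LD2_c56 LD3_c26)) = (LP (LK LD1_c26 LD2_c25 LD3_c60)) :=
  Lgr Lrot95 (Lpe (f566877 IH) (Lpe (f593056 IH) (Lpr_df (f606501 IH) (Lpn (LP (LK LD1_c26 LD2_c25 LD3_c60))))))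
theorem f606507 : Led Lsl_bf (LP (LK LD1_c26 LD2_c56 LD3_c26)) = (LP (LK LD1_c26 LD2_c25 LD3_c60)) :=
  Lgr Lrot24 (Lpr_bt (f606503 IH) (Lpn (LP (LK LD1_c26 LD2_c25 LD3_c60))))
theorem f272709 : Led Lsl_bt (LP (LK LD1_c8 LD2_c48 LD3_c41)) = (LP (LK LD1_c16 LD2_c28 LD3_c61)) :=
  Lre_b IH (LK LD1_c8 LD2_c48 LD3_c41) (LK LD1_c16 LD2_c28 LD3_c61) Lrfl Lrfl
theorem f419009 : Led Lsl_et (LP (LK LD1_c20 LD2_c1 LD3_c58)) = (LP (LK LD1_c11 LD2_c8 LD3_c22)) :=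
  Lre_e IH (LK LD1_c20 LD2_c1 LD3_c58) (LK LD1_c11 LD2_c8 LD3_c22) Lrfl Lrfl
theorem f419010 : Led Lsl_bt (LP (LK LD1_c11 LD2_c59 LD3_c38)) = (LP (LK LD1_c20 LD2_c1 LD3_c58)) :=
  Lgr Lrot119 (Lpe (K36.f198081 IH) (Lpr_bf (K41.f419005 IH) (Lpe (f419009 IH) (Lpn (LP (LK LD1_c20 LD2_c1 LD3_c58))))))
theorem f419012 : Led Lsl_bf (LP (LK LD1_c11 LD2_c59 LD3_c38)) = (LP (LK LD1_c20 LD2_c1 LD3_c58)) :=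
  Lgr Lrot24 (Lpr_bt (f419010 IH) (Lpn (LP (LK LD1_c20 LD2_c1 LD3_c58))))
theorem f606509 : Led Lsl_at (LP (LK LD1_c26 LD2_c56 LD3_c26)) = (LP (LK LD1_c20 LD2_c1 LD3_c58)) :=
  Lgr Lrot67 (Lpr_bf (f606507 IH) (Lpe (f449687 IH) (Lpe (f272709 IH) (Lpr_af (K36.f449682 IH) (Lpr_bf (f419012 IH) (Lpn (LP (LK LD1_c20 LD2_c1 LD3_c58))))))))
theorem f571283 : Led Lsl_af (LP (LK LD1_c17 LD2_c8 LD3_c30)) = (LP (LK LD1_c11 LD2_c8 LD3_c22)) :=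
  Lgr Lrot31 (Lpe (f411352 IH) (Lpr_gf (K42.f571275 IH) (Lpr_ft (K42.f449748 IH) (Lpn (LP (LK LD1_c11 LD2_c8 LD3_c22))))))
theorem f606512 : Led Lsl_ef (LP (LK LD1_c26 LD2_c56 LD3_c26)) = (LP (LK LD1_c17 LD2_c8 LD3_c30)) :=
  Lgr Lrot20 (Lpr_at (f606509 IH) (Lpr_et (f419009 IH) (Lpe (f571283 IH) (Lpn (LP (LK LD1_c17 LD2_c8 LD3_c30))))))
theorem f606518 : Led Lsl_et (LP (LK LD1_c26 LD2_c56 LD3_c26)) = (LP (LK LD1_c17 LD2_c8 LD3_c30)) :=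
  Lgr Lrot87 (Lpr_ef (f606512 IH) (Lpn (LP (LK LD1_c17 LD2_c8 LD3_c30))))
theorem f566876 : Led Lsl_et (LP (LK LD1_c9 LD2_c8 LD3_c34)) = (LP (LK LD1_c17 LD2_c1 LD3_c15)) :=
  Lre_e IH (LK LD1_c9 LD2_c8 LD3_c34) (LK LD1_c17 LD2_c1 LD3_c15) Lrfl Lrfl
theorem f564263 : Led Lsl_et (LP (LK LD1_c11 LD2_c8 LD3_c20)) = (LP (LK LD1_c12 LD2_c7 LD3_c50)) :=
  Lgr Lrot87 (Lpr_ef (K41.f564257 IH) (Lpn (LP (LK LD1_c12 LD2_c7 LD3_c50))))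
theorem f606524 : Led Lsl_df (LP (LK LD1_c11 LD2_c8 LD3_c20)) = (LP (LK LD1_c17 LD2_c8 LD3_c30)) :=
  Lgr Lrot70 (Lpr_et (f564263 IH) (Lpe (K41.f566870 IH) (Lpr_et (f566876 IH) (Lpr_dt (f566877 IH) (Lpr_et (f606518 IH) (Lpn (LP (LK LD1_c17 LD2_c8 LD3_c30))))))))
theorem f418978 : Led Lsl_at (LP (LK LD1_c2 LD2_c52 LD3_c50)) = (LP (LK LD1_c5 LD2_c53 LD3_c4)) :=
  Lre_a IH (LK LD1_c2 LD2_c52 LD3_c50) (LK LD1_c5 LD2_c53 LD3_c4) Lrfl Lrfl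
theorem f418979 : Led Lsl_at (LP (LK LD1_c5 LD2_c38 LD3_c36)) = (LP (LK LD1_c2 LD2_c45 LD3_c10)) :=
  Lre_a IH (LK LD1_c5 LD2_c38 LD3_c36) (LK LD1_c2 LD2_c45 LD3_c10) Lrfl Lrfl
theorem f418980 : Led Lsl_dt (LP (LK LD1_c5 LD2_c53 LD3_c4)) = (LP (LK LD1_c5 LD2_c38 LD3_c36)) :=
  Lgr Lrot44 (Lpe (f418978 IH) (Lpr_df (K41.f211751 IH) (Lpe (f418979 IH) (Lpn (LP (LK LD1_c5 LD2_c38 LD3_c36))))))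
theorem f646935 : Led Lsl_gf (LP (LK LD1_c5 LD2_c53 LD3_c4)) = v5296 :=
  Lgr Lrot143 (Lpr_dt (f418980 IH) (Lpe (K41.f418992 IH) (Lpr_df (f606524 IH) (Lpe (f411352 IH) (Lpe (K42.f268303 IH) (Lpe (K37.f542317 IH) (Lpe (K36.f418549 IH) (Lpe (K40.f556704 IH) (Lpr_dt (f646930 IH) (Lpn v5296))))))))))
theorem f418989 : Led Lsl_et (LP (LK LD1_c11 LD2_c32 LD3_c17)) = (LP (LK LD1_c5 LD2_c53 LD3_c4)) :=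
  Lre_e IH (LK LD1_c11 LD2_c32 LD3_c17) (LK LD1_c5 LD2_c53 LD3_c4) Lrfl Lrfl
theorem f501228 : Led Lsl_af (LP (LK LD1_c4 LD2_c39 LD3_c29)) = K40.v1742 :=
  Lgr Lrot117 (Lpr_dt (K10.f26698 IH) (Lpe (K40.f450313 IH) (Lpr_dt (K45.f501227 IH) (Lpn K40.v1742))))
theorem f596726 : Led Lsl_at (LP (LK LD1_c9 LD2_c48 LD3_c19)) = (LP (LK LD1_c5 LD2_c52 LD3_c35)) :=
  Lgr Lrot67 (Lpe (K44.f558508 IH) (Lpr_af (K50.f596724 IH) (Lpe (K41.f26694 IH) (Lpr_af (f501228 IH) (Lpqs (K40.f537736 IH) (Lpe (K35.f452807 IH) (Lpn (LP (LK LD1_c5 LD2_c52 LD3_c35)))))))))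
theorem f558513 : Led Lsl_et (LP (LK LD1_c17 LD2_c58 LD3_c33)) = (LP (LK LD1_c9 LD2_c48 LD3_c19)) :=
  Lre_e IH (LK LD1_c17 LD2_c58 LD3_c33) (LK LD1_c9 LD2_c48 LD3_c19) Lrfl Lrfl
theorem f548978 : Led Lsl_et (LP (LK LD1_c5 LD2_c52 LD3_c35)) = (LP (LK LD1_c11 LD2_c31 LD3_c40)) :=
  Lre_e IH (LK LD1_c5 LD2_c52 LD3_c35) (LK LD1_c11 LD2_c31 LD3_c40) Lrfl Lrfl
theorem f598732 : Led Lsl_af (LP (LK LD1_c17 LD2_c58 LD3_c33)) = (LP (LK LD1_c11 LD2_c31 LD3_c40)) :=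
  Lgr Lrot50 (Lpr_et (f558513 IH) (Lpr_at (f596726 IH) (Lpr_et (f548978 IH) (Lpn (LP (LK LD1_c11 LD2_c31 LD3_c40))))))
theorem f598734 : Led Lsl_at (LP (LK LD1_c17 LD2_c58 LD3_c33)) = (LP (LK LD1_c11 LD2_c31 LD3_c40)) :=
  Lgr Lrot100 (Lpr_af (f598732 IH) (Lpn (LP (LK LD1_c11 LD2_c31 LD3_c40))))
theorem f418998 : Led Lsl_et (LP (LK LD1_c5 LD2_c53 LD3_c6)) = (LP (LK LD1_c2 LD2_c52 LD3_c50)) :=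
  Lre_e IH (LK LD1_c5 LD2_c53 LD3_c6) (LK LD1_c2 LD2_c52 LD3_c50) Lrfl Lrfl
theorem f548979 : Led Lsl_dt (LP (LK LD1_c11 LD2_c31 LD3_c40)) = (LP (LK LD1_c5 LD2_c53 LD3_c6)) :=
  Lgr Lrot77 (Lpe (f548978 IH) (Lpr_df (K38.f548974 IH) (Lpe (K41.f418985 IH) (Lpe (K41.f211737 IH) (Lpe (f418998 IH) (Lpn (LP (LK LD1_c5 LD2_c53 LD3_c6))))))))
theorem f598743 : Led Lsl_at (LP (LK LD1_c5 LD2_c53 LD3_c6)) = (LP (LK LD1_c11 LD2_c32 LD3_c17)) :=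
  Lre_a IH (LK LD1_c5 LD2_c53 LD3_c6) (LK LD1_c11 LD2_c32 LD3_c17) Lrfl Lrfl
theorem f598744 : Led Lsl_df (LP (LK LD1_c17 LD2_c58 LD3_c33)) = (LP (LK LD1_c11 LD2_c32 LD3_c17)) :=
  Lgr Lrot18 (Lpr_at (f598734 IH) (Lpr_dt (f548979 IH) (Lpr_at (f598743 IH) (Lpn (LP (LK LD1_c11 LD2_c32 LD3_c17))))))
theorem f562546 : Led Lsl_dt (LP (LK LD1_c9 LD2_c48 LD3_c19)) = (LP (LK LD1_c11 LD2_c8 LD3_c21)) :=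
  Lgr Lrot79 (Lpe (K44.f558508 IH) (Lpr_df (K40.f562542 IH) (Lpe (K40.f450316 IH) (Lpn (LP (LK LD1_c11 LD2_c8 LD3_c21))))))
theorem f558512 : Led Lsl_et (LP (LK LD1_c9 LD2_c48 LD3_c19)) = (LP (LK LD1_c17 LD2_c58 LD3_c33)) :=
  Lre_e IH (LK LD1_c9 LD2_c48 LD3_c19) (LK LD1_c17 LD2_c58 LD3_c33) Lrfl Lrfl
theorem f80246 : Led Lsl_dt (LP (LK LD1_c1 LD2_c38 LD3_c20)) = (LP (LK LD1_c3 LD2_c24 LD3_c6)) :=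
  Lre_d IH (LK LD1_c1 LD2_c38 LD3_c20) (LK LD1_c3 LD2_c24 LD3_c6) Lrfl Lrfl
theorem f99551 : Led Lsl_et (LP (LK LD1_c3 LD2_c24 LD3_c6)) = (LP (LK LD1_c3 LD2_c3 LD3_c30)) :=
  Lgr Lrot71 (Lpe (f80246 IH) (Lpe (K17.f99549 IH) (Lpr_df (K4.f99540 IH) (Lpe (K42.f99509 IH) (Lpe (K38.f99550 IH) (Lpn (LP (LK LD1_c3 LD2_c3 LD3_c30))))))))
theorem f101585 : Led Lsl_dt (LP (LK LD1_c3 LD2_c24 LD3_c6)) = (LP (LK LD1_c1 LD2_c38 LD3_c20)) :=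
  Lre_d IH (LK LD1_c3 LD2_c24 LD3_c6) (LK LD1_c1 LD2_c38 LD3_c20) Lrfl Lrfl
theorem f101705 : Led Lsl_dt (LP (LK LD1_c6 LD2_c51 LD3_c12)) = (LP (LK LD1_c3 LD2_c24 LD3_c5)) :=
  Lre_d IH (LK LD1_c6 LD2_c51 LD3_c12) (LK LD1_c3 LD2_c24 LD3_c5) Lrfl Lrfl
theorem f101706 : Led Lsl_et (LP (LK LD1_c6 LD2_c51 LD3_c12)) = (LP (LK LD1_c13 LD2_c2 LD3_c21)) :=
  Lre_e IH (LK LD1_c6 LD2_c51 LD3_c12) (LK LD1_c13 LD2_c2 LD3_c21) Lrfl Lrfl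
theorem f616534 : Led Lsl_gt (LP (LK LD1_c17 LD2_c58 LD3_c33)) = (LP (LK LD1_c13 LD2_c2 LD3_c21)) :=
  Lgr Lrot131 (Lpe (f558512 IH) (Lpr_dt (f562546 IH) (Lpe (K43.f450378 IH) (Lpe (K42.f548967 IH) (Lpe (K39.f100713 IH) (Lpe (f99551 IH) (Lpr_dt (f101585 IH) (Lpe (K54.f101704 IH) (Lpe (f101705 IH) (Lpr_et (f101706 IH) (Lpn (LP (LK LD1_c13 LD2_c2 LD3_c21)))))))))))))
theorem f741636 : Led Lsl_df (LP (LK LD1_c5 LD2_c47 LD3_c27)) = v15802 :=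
  Lgr Lrot38 (Lpr_dt (f741633 IH) (Lpn v15802))
theorem f140800 : Led Lsl_dt (LP (LK LD1_c6 LD2_c30 LD3_c22)) = (LP (LK LD1_c3 LD2_c13 LD3_c12)) :=
  Lre_d IH (LK LD1_c6 LD2_c30 LD3_c22) (LK LD1_c3 LD2_c13 LD3_c12) Lrfl Lrfl
theorem f641801 : Led Lsl_gt (LP (LK LD1_c12 LD2_c30 LD3_c6)) = (LP (LK LD1_c6 LD2_c30 LD3_c22)) :=
  Lre_g IH (LK LD1_c12 LD2_c30 LD3_c6) (LK LD1_c6 LD2_c30 LD3_c22) Lrfl Lrfl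
theorem f641802 : Led Lsl_et (LP (LK LD1_c21 LD2_c36 LD3_c42)) = (LP (LK LD1_c12 LD2_c30 LD3_c6)) :=
  Lre_e IH (LK LD1_c21 LD2_c36 LD3_c42) (LK LD1_c12 LD2_c30 LD3_c6) Lrfl Lrfl
theorem f741643 : Led Lsl_df (LP (LK LD1_c13 LD2_c2 LD3_c21)) = (LP (LK LD1_c21 LD2_c36 LD3_c42)) :=
  Lgr Lrot168 (Lpe (f616534 IH) (Lpr_df (f598744 IH) (Lpr_et (f418989 IH) (Lpr_gf (f646935 IH) (Lpr_ef (f741637 IH) (Lpe (f741636 IH) (Lpr_gf (K41.f641779 IH) (Lpe (f140800 IH) (Lpe (f641801 IH) (Lpe (f641802 IH) (Lpn (LP (LK LD1_c21 LD2_c36 LD3_c42)))))))))))))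
theorem f741644 : Led Lsl_dt (LP (LK LD1_c21 LD2_c36 LD3_c42)) = (LP (LK LD1_c13 LD2_c2 LD3_c21)) :=
  Leop (Lpr_df (f741643 IH) (Lpn (LP (LK LD1_c21 LD2_c36 LD3_c42))))
theorem seed_939 : LEOK LG_d (LK LD1_c21 LD2_c36 LD3_c42) :=
  Leoe_d (LK LD1_c21 LD2_c36 LD3_c42) (f741644 IH)
def v15813 : LQ := Led Lsl_ct (LP (LK LD1_c5 LD2_c47 LD3_c39))
theorem f741716 : Led Lsl_ct (LP (LK LD1_c5 LD2_c47 LD3_c39)) = v15813 :=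
  Lrfl
theorem f720168 : Led Lsl_gf K41.v5055 = (LP (LK LD1_c9 LD2_c29 LD3_c58)) :=
  Lgr Lrot76 (Lpe (K41.f641539 IH) (Lpr_ff (K53.f641565 IH) (Lpqs (K53.f719933 IH) (Lpr_gt (K51.f707125 IH) (Lpn (LP (LK LD1_c9 LD2_c29 LD3_c58)))))))
theorem f641543 : Led Lsl_ct K41.v1693 = K41.v5055 :=
  Lgr Lrot59 (Lpr_cf (K41.f641542 IH) (Lpn K41.v5055))
theorem f74649 : Led Lsl_ct (LP (LK LD1_c2 LD2_c56 LD3_c5)) = (LP (LK LD1_c5 LD2_c59 LD3_c28)) :=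
  Lre_c IH (LK LD1_c2 LD2_c56 LD3_c5) (LK LD1_c5 LD2_c59 LD3_c28) Lrfl Lrfl
theorem f719905 : K41.v5055 = (LP (LK LD1_c5 LD2_c59 LD3_c28)) :=
  Lefun (Lecon (f641543 IH) (K53.f719899 IH)) (f74649 IH)
theorem f719911 : Led Lsl_et (LP (LK LD1_c11 LD2_c43 LD3_c36)) = (LP (LK LD1_c5 LD2_c59 LD3_c28)) :=
  Lre_e IH (LK LD1_c11 LD2_c43 LD3_c36) (LK LD1_c5 LD2_c59 LD3_c28) Lrfl Lrfl
theorem f76002 : Led Lsl_dt (LP (LK LD1_c11 LD2_c43 LD3_c36)) = (LP (LK LD1_c20 LD2_c44 LD3_c48)) :=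
  Lre_d IH (LK LD1_c11 LD2_c43 LD3_c36) (LK LD1_c20 LD2_c44 LD3_c48) Lrfl Lrfl
theorem f426054 : Led Lsl_dt (LP (LK LD1_c2 LD2_c55 LD3_c33)) = (LP (LK LD1_c5 LD2_c58 LD3_c25)) :=
  Lre_d IH (LK LD1_c2 LD2_c55 LD3_c33) (LK LD1_c5 LD2_c58 LD3_c25) Lrfl Lrfl
theorem f161217 : Led Lsl_et (LP (LK LD1_c1 LD2_c10 LD3_c49)) = (LP (LK LD1_c2 LD2_c27 LD3_c7)) :=
  Lre_e IH (LK LD1_c1 LD2_c10 LD3_c49) (LK LD1_c2 LD2_c27 LD3_c7) Lrfl Lrfl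
theorem f161218 : Led Lsl_at (LP (LK LD1_c1 LD2_c56 LD3_c22)) = (LP (LK LD1_c1 LD2_c10 LD3_c49)) :=
  Lgr Lrot80 (Lpe (K32.f139377 IH) (Lpr_af (K41.f161205 IH) (Lpe (f161217 IH) (Lpn (LP (LK LD1_c1 LD2_c10 LD3_c49))))))
theorem f139380 : Led Lsl_ff (LP (LK LD1_c1 LD2_c56 LD3_c22)) = (LP (LK LD1_c1 LD2_c10 LD3_c54)) :=
  Lgr Lrot23 (Lpr_ct (K6.f139358 IH) (Lpr_ft (K6.f139156 IH) (Lpr_ct (K8.f74197 IH) (Lpn (LP (LK LD1_c1 LD2_c10 LD3_c54))))))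
theorem f424541 : Led Lsl_gt (LP (LK LD1_c1 LD2_c10 LD3_c54)) = (LP (LK LD1_c2 LD2_c14 LD3_c23)) :=
  Lgr Lrot5 (Lpe (f139380 IH) (Lpr_at (f161218 IH) (Lpr_gf (K35.f424539 IH) (Lpn (LP (LK LD1_c2 LD2_c14 LD3_c23))))))
theorem f426055 : Led Lsl_gt (LP (LK LD1_c5 LD2_c58 LD3_c25)) = (LP (LK LD1_c9 LD2_c29 LD3_c57)) :=
  Lgr Lrot49 (Lpe (f426054 IH) (Lpe (K24.f426046 IH) (Lpr_cf (K24.f426047 IH) (Lpr_gt (K32.f74542 IH) (Lpr_dt (K4.f74365 IH) (Lpr_gt (f424541 IH) (Lpe (K35.f424537 IH) (Lpr_cf (K28.f58868 IH) (Lpe (K40.f58874 IH) (Lpn (LP (LK LD1_c9 LD2_c29 LD3_c57))))))))))))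
theorem f426303 : Led Lsl_et (LP (LK LD1_c11 LD2_c40 LD3_c9)) = (LP (LK LD1_c5 LD2_c57 LD3_c33)) :=
  Lre_e IH (LK LD1_c11 LD2_c40 LD3_c9) (LK LD1_c5 LD2_c57 LD3_c33) Lrfl Lrfl
theorem f427439 : Led Lsl_dt (LP (LK LD1_c11 LD2_c40 LD3_c9)) = (LP (LK LD1_c20 LD2_c40 LD3_c15)) :=
  Lre_d IH (LK LD1_c11 LD2_c40 LD3_c9) (LK LD1_c20 LD2_c40 LD3_c15) Lrfl Lrfl
theorem f720171 : Led Lsl_gt (LP (LK LD1_c20 LD2_c44 LD3_c48)) = (LP (LK LD1_c20 LD2_c40 LD3_c15)) :=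
  Lgr Lrot112 (Lpe (f76002 IH) (Lpr_et (f719911 IH) (Lpq (f719905 IH) (Lpr_gf (f720168 IH) (Lpe (K51.f58871 IH) (Lpr_dt (K28.f56980 IH) (Lpe (f426055 IH) (Lpe (f426054 IH) (Lpe (K24.f426046 IH) (Lpe (f426303 IH) (Lpr_dt (f427439 IH) (Lpn (LP (LK LD1_c20 LD2_c40 LD3_c15))))))))))))))
theorem f499581 : Led Lsl_af (LP (LK LD1_c9 LD2_c16 LD3_c14)) = (LP (LK LD1_c4 LD2_c44 LD3_c57)) :=
  Lgr Lrot0 (Lpr_at (K41.f499579 IH) (Lpn (LP (LK LD1_c4 LD2_c44 LD3_c57))))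
theorem f104564 : Led Lsl_gt (LP (LK LD1_c9 LD2_c16 LD3_c15)) = (LP (LK LD1_c4 LD2_c40 LD3_c26)) :=
  Lre_g IH (LK LD1_c9 LD2_c16 LD3_c15) (LK LD1_c4 LD2_c40 LD3_c26) Lrfl Lrfl
theorem f499618 : Led Lsl_ft (LP (LK LD1_c9 LD2_c16 LD3_c15)) = (LP (LK LD1_c4 LD2_c44 LD3_c57)) :=
  Lgr Lrot2 (Lpr_gt (f104564 IH) (Lpr_gt (K41.f103466 IH) (Lpr_af (f499581 IH) (Lpn (LP (LK LD1_c4 LD2_c44 LD3_c57))))))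
theorem f499626 : Led Lsl_ff (LP (LK LD1_c9 LD2_c16 LD3_c15)) = (LP (LK LD1_c4 LD2_c44 LD3_c57)) :=
  Lgr Lrot3 (Lpr_ft (f499618 IH) (Lpn (LP (LK LD1_c4 LD2_c44 LD3_c57))))
theorem f496299 : Led Lsl_cf (LP (LK LD1_c5 LD2_c50 LD3_c3)) = (LP (LK LD1_c2 LD2_c55 LD3_c29)) :=
  Lgr Lrot14 (Lpe (K32.f496288 IH) (Lpr_gf (K32.f496293 IH) (Lpr_df (K6.f75071 IH) (Lpr_gf (K28.f150444 IH) (Lpr_ct (K28.f58864 IH) (Lpr_gt (K32.f203098 IH) (Lpr_dt (K32.f104988 IH) (Lpe (K32.f105012 IH) (Lpr_dt (K32.f74279 IH) (Lpn (LP (LK LD1_c2 LD2_c55 LD3_c29))))))))))))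
theorem f496601 : Led Lsl_ff (LP (LK LD1_c2 LD2_c55 LD3_c29)) = (LP (LK LD1_c5 LD2_c57 LD3_c33)) :=
  Lgr Lrot23 (Lpe (f496299 IH) (Lpr_ft (K32.f496597 IH) (Lpe (K24.f426047 IH) (Lpn (LP (LK LD1_c5 LD2_c57 LD3_c33))))))
theorem f499630 : Led Lsl_bt (LP (LK LD1_c9 LD2_c16 LD3_c15)) = (LP (LK LD1_c5 LD2_c57 LD3_c33)) :=
  Lgr Lrot35 (Lpr_ff (f499626 IH) (Lpr_bf (K32.f428603 IH) (Lpr_ff (f496601 IH) (Lpn (LP (LK LD1_c5 LD2_c57 LD3_c33))))))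
theorem f499577 : Led Lsl_ft (LP (LK LD1_c9 LD2_c16 LD3_c14)) = (LP (LK LD1_c4 LD2_c44 LD3_c56)) :=
  Lgr Lrot48 (Lpr_ff (K41.f499575 IH) (Lpn (LP (LK LD1_c4 LD2_c44 LD3_c56))))
theorem f499620 : Led Lsl_af (LP (LK LD1_c9 LD2_c16 LD3_c15)) = (LP (LK LD1_c4 LD2_c44 LD3_c56)) :=
  Lgr Lrot45 (Lpr_ft (f499618 IH) (Lpe (f499581 IH) (Lpr_ft (f499577 IH) (Lpn (LP (LK LD1_c4 LD2_c44 LD3_c56))))))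
theorem f499694 : Led Lsl_af (LP (LK LD1_c2 LD2_c55 LD3_c28)) = (LP (LK LD1_c5 LD2_c57 LD3_c33)) :=
  Lgr Lrot36 (Lpr_bt (K32.f74718 IH) (Lpe (K41.f499591 IH) (Lpr_bt (K41.f98954 IH) (Lpe (f499620 IH) (Lpr_bt (f499630 IH) (Lpn (LP (LK LD1_c5 LD2_c57 LD3_c33))))))))
theorem f499698 : Led Lsl_at (LP (LK LD1_c5 LD2_c58 LD3_c13)) = (LP (LK LD1_c11 LD2_c40 LD3_c9)) :=
  Lgr Lrot80 (Lpe (f74725 IH) (Lpr_af (f499694 IH) (Lpe (f426303 IH) (Lpn (LP (LK LD1_c11 LD2_c40 LD3_c9))))))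
theorem f74735 : Led Lsl_dt (LP (LK LD1_c11 LD2_c41 LD3_c4)) = (LP (LK LD1_c5 LD2_c58 LD3_c13)) :=
  Lre_d IH (LK LD1_c11 LD2_c41 LD3_c4) (LK LD1_c5 LD2_c58 LD3_c13) Lrfl Lrfl
theorem f499704 : Led Lsl_af (LP (LK LD1_c11 LD2_c41 LD3_c4)) = (LP (LK LD1_c20 LD2_c40 LD3_c15)) :=
  Lgr Lrot117 (Lpr_dt (f74735 IH) (Lpr_at (f499698 IH) (Lpr_dt (f427439 IH) (Lpn (LP (LK LD1_c20 LD2_c40 LD3_c15))))))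
theorem f499727 : Led Lsl_at (LP (LK LD1_c11 LD2_c41 LD3_c4)) = (LP (LK LD1_c20 LD2_c40 LD3_c15)) :=
  Lgr Lrot100 (Lpr_af (f499704 IH) (Lpn (LP (LK LD1_c20 LD2_c40 LD3_c15))))
theorem f74754 : Led Lsl_ft (LP (LK LD1_c20 LD2_c40 LD3_c51)) = (LP (LK LD1_c11 LD2_c41 LD3_c4)) :=
  Lre_f IH (LK LD1_c20 LD2_c40 LD3_c51) (LK LD1_c11 LD2_c41 LD3_c4) Lrfl Lrfl
theorem f720173 : Led Lsl_gf (LP (LK LD1_c20 LD2_c44 LD3_c48)) = (LP (LK LD1_c20 LD2_c40 LD3_c51)) :=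
  Lgr Lrot47 (Lpr_gt (f720171 IH) (Lpe (f499727 IH) (Lpe (f74754 IH) (Lpn (LP (LK LD1_c20 LD2_c40 LD3_c51))))))
theorem f75989 : Led Lsl_dt (LP (LK LD1_c20 LD2_c44 LD3_c48)) = (LP (LK LD1_c11 LD2_c43 LD3_c36)) :=
  Lre_d IH (LK LD1_c20 LD2_c44 LD3_c48) (LK LD1_c11 LD2_c43 LD3_c36) Lrfl Lrfl
theorem f75988 : Led Lsl_ct (LP (LK LD1_c11 LD2_c43 LD3_c36)) = (LP (LK LD1_c5 LD2_c59 LD3_c30)) :=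
  Lre_c IH (LK LD1_c11 LD2_c43 LD3_c36) (LK LD1_c5 LD2_c59 LD3_c30) Lrfl Lrfl
theorem f58499 : Led Lsl_ct (LP (LK LD1_c3 LD2_c0 LD3_c40)) = (LP (LK LD1_c6 LD2_c8 LD3_c44)) :=
  Lre_c IH (LK LD1_c3 LD2_c0 LD3_c40) (LK LD1_c6 LD2_c8 LD3_c44) Lrfl Lrfl
theorem f74749 : Led Lsl_dt (LP (LK LD1_c11 LD2_c41 LD3_c5)) = (LP (LK LD1_c20 LD2_c40 LD3_c51)) :=
  Lre_d IH (LK LD1_c11 LD2_c41 LD3_c5) (LK LD1_c20 LD2_c40 LD3_c51) Lrfl Lrfl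
theorem f720175 : Led Lsl_gt (LP (LK LD1_c6 LD2_c8 LD3_c44)) = (LP (LK LD1_c11 LD2_c41 LD3_c5)) :=
  Lgr Lrot94 (Lpe (f58499 IH) (Lpr_gt (K2.f75006 IH) (Lpr_dt (K53.f74920 IH) (Lpr_gt (K53.f75980 IH) (Lpe (K53.f75990 IH) (Lpe (f75988 IH) (Lpe (f75989 IH) (Lpr_gf (f720173 IH) (Lpe (f74749 IH) (Lpn (LP (LK LD1_c11 LD2_c41 LD3_c5))))))))))))
theorem f58497 : Led Lsl_bt (LP (LK LD1_c0 LD2_c39 LD3_c49)) = (LP (LK LD1_c1 LD2_c26 LD3_c9)) :=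
  Lre_b IH (LK LD1_c0 LD2_c39 LD3_c49) (LK LD1_c1 LD2_c26 LD3_c9) Lrfl Lrfl
theorem f57637 : Led Lsl_bt (LP (LK LD1_c2 LD2_c49 LD3_c47)) = (LP (LK LD1_c5 LD2_c47 LD3_c39)) :=
  Lre_b IH (LK LD1_c2 LD2_c49 LD3_c47) (LK LD1_c5 LD2_c47 LD3_c39) Lrfl Lrfl
theorem f74736 : Led Lsl_ft (LP (LK LD1_c5 LD2_c52 LD3_c11)) = (LP (LK LD1_c11 LD2_c31 LD3_c17)) :=
  Lre_f IH (LK LD1_c5 LD2_c52 LD3_c11) (LK LD1_c11 LD2_c31 LD3_c17) Lrfl Lrfl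
theorem f74737 : Led Lsl_ft (LP (LK LD1_c11 LD2_c41 LD3_c5)) = (LP (LK LD1_c5 LD2_c58 LD3_c13)) :=
  Lre_f IH (LK LD1_c11 LD2_c41 LD3_c5) (LK LD1_c5 LD2_c58 LD3_c13) Lrfl Lrfl
theorem f74738 : Led Lsl_ct (LP (LK LD1_c11 LD2_c31 LD3_c17)) = (LP (LK LD1_c11 LD2_c41 LD3_c5)) :=
  Lgr Lrot40 (Lpe (f74736 IH) (Lpr_cf (f74726 IH) (Lpe (f74737 IH) (Lpn (LP (LK LD1_c11 LD2_c41 LD3_c5))))))
theorem f496499 : Led Lsl_at (LP (LK LD1_c2 LD2_c52 LD3_c25)) = (LP (LK LD1_c2 LD2_c51 LD3_c10)) :=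
  Lgr Lrot100 (Lpr_af (K41.f496497 IH) (Lpn (LP (LK LD1_c2 LD2_c51 LD3_c10))))
theorem f640642 : Led Lsl_gt (LP (LK LD1_c5 LD2_c52 LD3_c14)) = K38.v4867 :=
  Lgr Lrot5 (Lpr_ft (K41.f496415 IH) (Lpr_at (f496499 IH) (Lpr_gf (K38.f640641 IH) (Lpn K38.v4867))))
theorem f720181 : (LP (LK LD1_c5 LD2_c47 LD3_c39)) = K38.v4867 :=
  (Llr Lrot92 (Lpe (f57637 IH) (Lpe (K48.f57638 IH) (Lpr_gt (K24.f25646 IH) (Lpe (K1.f58472 IH) (Lpr_bt (f58497 IH) (Lpr_gt (K2.f58498 IH) (Lpr_ct (f58499 IH) (Lpr_gt (f720175 IH) (Lpe (f74738 IH) (Lpr_bt (K41.f74751 IH) (Lpr_gt (f640642 IH) (Lpn K38.v4867))))))))))))).symm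
theorem f646354 : Led Lsl_bt (LP (LK LD1_c3 LD2_c0 LD3_c40)) = (LP (LK LD1_c6 LD2_c8 LD3_c43)) :=
  Lre_b IH (LK LD1_c3 LD2_c0 LD3_c40) (LK LD1_c6 LD2_c8 LD3_c43) Lrfl Lrfl
def v4879 : LQ := Led Lsl_et (LP (LK LD1_c2 LD2_c51 LD3_c34))
theorem f640687 : Led Lsl_et (LP (LK LD1_c2 LD2_c51 LD3_c34)) = v4879 :=
  Lrfl
theorem f640688 : Led Lsl_cf (LP (LK LD1_c2 LD2_c51 LD3_c35)) = v4879 :=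
  Lgr Lrot39 (Lpr_et (K50.f22163 IH) (Lpr_ct (K18.f169784 IH) (Lpr_et (f640687 IH) (Lpn v4879))))
theorem f741719 : Led Lsl_gf v4879 = v15813 :=
  Lgr Lrot104 (Lpe (f640688 IH) (Lpr_df (K11.f22152 IH) (Lpr_cf (K52.f169681 IH) (Lpe (K52.f169738 IH) (Lpe (K52.f710729 IH) (Lpq (K51.f707151 IH) (Lpe (K51.f408438 IH) (Lpr_df (K51.f615387 IH) (Lpr_gt (f640642 IH) (Lpq (f720181 IH) (Lpr_ct (f741716 IH) (Lpn v15813))))))))))))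
theorem f640689 : Led Lsl_ef (LP (LK LD1_c2 LD2_c51 LD3_c34)) = v4879 :=
  Lgr Lrot88 (Lpr_et (f640687 IH) (Lpn v4879))
theorem f640690 : Led Lsl_ct (LP (LK LD1_c2 LD2_c51 LD3_c35)) = v4879 :=
  Lgr Lrot15 (Lpe (K11.f22142 IH) (Lpe (K18.f169785 IH) (Lpr_ef (f640689 IH) (Lpn v4879))))
theorem f741720 : Led Lsl_gf (LP (LK LD1_c6 LD2_c8 LD3_c43)) = (LP (LK LD1_c5 LD2_c50 LD3_c41)) :=
  Lgr Lrot124 (Lpe (f646354 IH) (Lpr_ct (f58499 IH) (Lpr_gt (f720175 IH) (Lpe (f74738 IH) (Lpr_bt (K41.f74751 IH) (Lpr_gt (f640642 IH) (Lpq (f720181 IH) (Lpr_ct (f741716 IH) (Lpe (f741719 IH) (Lpe (f640690 IH) (Lpr_bt (K11.f22177 IH) (Lpn (LP (LK LD1_c5 LD2_c50 LD3_c41))))))))))))))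
theorem f741721 : Led Lsl_gt (LP (LK LD1_c5 LD2_c50 LD3_c41)) = (LP (LK LD1_c6 LD2_c8 LD3_c43)) :=
  Leop (Lpr_gf (f741720 IH) (Lpn (LP (LK LD1_c5 LD2_c50 LD3_c41))))
theorem seed_940 : LEOK LG_g (LK LD1_c5 LD2_c50 LD3_c41) :=
  Leoe_g (LK LD1_c5 LD2_c50 LD3_c41) (f741721 IH)
def v15816 : LQ := Led Lsl_gt (LP (LK LD1_c5 LD2_c48 LD3_c7))
theorem f741738 : Led Lsl_gt (LP (LK LD1_c5 LD2_c48 LD3_c7)) = v15816 :=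
  Lrfl
theorem f146512 : Led Lsl_ct (LP (LK LD1_c2 LD2_c50 LD3_c6)) = (LP (LK LD1_c5 LD2_c48 LD3_c7)) :=
  Lre_c IH (LK LD1_c2 LD2_c50 LD3_c6) (LK LD1_c5 LD2_c48 LD3_c7) Lrfl Lrfl
theorem f206043 : Led Lsl_gt (LP (LK LD1_c5 LD2_c48 LD3_c9)) = (LP (LK LD1_c2 LD2_c50 LD3_c6)) :=
  Lre_g IH (LK LD1_c5 LD2_c48 LD3_c9) (LK LD1_c2 LD2_c50 LD3_c6) Lrfl Lrfl
theorem f210095 : Led Lsl_gt (LP (LK LD1_c17 LD2_c7 LD3_c19)) = (LP (LK LD1_c9 LD2_c12 LD3_c59)) :=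
  Lre_g IH (LK LD1_c17 LD2_c7 LD3_c19) (LK LD1_c9 LD2_c12 LD3_c59) Lrfl Lrfl
theorem f204621 : Led Lsl_ct (LP (LK LD1_c9 LD2_c12 LD3_c52)) = (LP (LK LD1_c17 LD2_c7 LD3_c19)) :=
  Lre_c IH (LK LD1_c9 LD2_c12 LD3_c52) (LK LD1_c17 LD2_c7 LD3_c19) Lrfl Lrfl
theorem f204619 : Led Lsl_ft (LP (LK LD1_c4 LD2_c38 LD3_c29)) = (LP (LK LD1_c9 LD2_c12 LD3_c52)) :=
  Lre_f IH (LK LD1_c4 LD2_c38 LD3_c29) (LK LD1_c9 LD2_c12 LD3_c52) Lrfl Lrfl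
theorem f210084 : Led Lsl_ft (LP (LK LD1_c6 LD2_c1 LD3_c45)) = (LP (LK LD1_c2 LD2_c56 LD3_c60)) :=
  Lre_f IH (LK LD1_c6 LD2_c1 LD3_c45) (LK LD1_c2 LD2_c56 LD3_c60) Lrfl Lrfl
theorem f210085 : Led Lsl_bt (LP (LK LD1_c9 LD2_c12 LD3_c52)) = (LP (LK LD1_c6 LD2_c1 LD3_c45)) :=
  Lgr Lrot35 (Lpe (f204619 IH) (Lpr_bf (K16.f210077 IH) (Lpe (f210084 IH) (Lpn (LP (LK LD1_c6 LD2_c1 LD3_c45))))))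
theorem f210096 : Led Lsl_gt (LP (LK LD1_c2 LD2_c57 LD3_c2)) = (LP (LK LD1_c6 LD2_c1 LD3_c45)) :=
  Lre_g IH (LK LD1_c2 LD2_c57 LD3_c2) (LK LD1_c6 LD2_c1 LD3_c45) Lrfl Lrfl
theorem f69117 : Led Lsl_bt (LP (LK LD1_c6 LD2_c1 LD3_c52)) = (LP (LK LD1_c2 LD2_c57 LD3_c2)) :=
  Lre_b IH (LK LD1_c6 LD2_c1 LD3_c52) (LK LD1_c2 LD2_c57 LD3_c2) Lrfl Lrfl
theorem f741741 : Led Lsl_ct (LP (LK LD1_c6 LD2_c1 LD3_c52)) = v15816 :=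
  Lgr Lrot63 (Lpr_bt (f69117 IH) (Lpr_gt (f210096 IH) (Lpe (f210085 IH) (Lpr_ct (f204621 IH) (Lpr_gt (f210095 IH) (Lpe (K52.f438798 IH) (Lpr_bt (K52.f57187 IH) (Lpr_gt (f206043 IH) (Lpr_ct (f146512 IH) (Lpr_gt (f741738 IH) (Lpn v15816)))))))))))
theorem f135855 : Led Lsl_ft (LP (LK LD1_c5 LD2_c48 LD3_c7)) = (LP (LK LD1_c11 LD2_c25 LD3_c52)) :=
  Lre_f IH (LK LD1_c5 LD2_c48 LD3_c7) (LK LD1_c11 LD2_c25 LD3_c52) Lrfl Lrfl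
theorem f57202 : Led Lsl_at (LP (LK LD1_c11 LD2_c25 LD3_c52)) = (LP (LK LD1_c5 LD2_c48 LD3_c25)) :=
  Lre_a IH (LK LD1_c11 LD2_c25 LD3_c52) (LK LD1_c5 LD2_c48 LD3_c25) Lrfl Lrfl
theorem f741739 : Led Lsl_gf (LP (LK LD1_c5 LD2_c48 LD3_c25)) = v15816 :=
  Lgr Lrot76 (Lpe (f57202 IH) (Lpe (f135855 IH) (Lpr_gt (f741738 IH) (Lpn v15816))))
theorem f57352 : Led Lsl_dt (LP (LK LD1_c5 LD2_c48 LD3_c25)) = (LP (LK LD1_c11 LD2_c26 LD3_c17)) :=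
  Lre_d IH (LK LD1_c5 LD2_c48 LD3_c25) (LK LD1_c11 LD2_c26 LD3_c17) Lrfl Lrfl
theorem f57487 : Led Lsl_gt (LP (LK LD1_c11 LD2_c26 LD3_c17)) = (LP (LK LD1_c20 LD2_c23 LD3_c23)) :=
  Lre_g IH (LK LD1_c11 LD2_c26 LD3_c17) (LK LD1_c20 LD2_c23 LD3_c23) Lrfl Lrfl
theorem f146589 : Led Lsl_et (LP (LK LD1_c16 LD2_c58 LD3_c14)) = (LP (LK LD1_c9 LD2_c6 LD3_c23)) :=
  Lre_e IH (LK LD1_c16 LD2_c58 LD3_c14) (LK LD1_c9 LD2_c6 LD3_c23) Lrfl Lrfl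
theorem f146486 : Led Lsl_et (LP (LK LD1_c5 LD2_c48 LD3_c7)) = (LP (LK LD1_c2 LD2_c50 LD3_c5)) :=
  Lre_e IH (LK LD1_c5 LD2_c48 LD3_c7) (LK LD1_c2 LD2_c50 LD3_c5) Lrfl Lrfl
theorem f146470 : Led Lsl_dt (LP (LK LD1_c5 LD2_c48 LD3_c7)) = (LP (LK LD1_c11 LD2_c25 LD3_c51)) :=
  Lre_d IH (LK LD1_c5 LD2_c48 LD3_c7) (LK LD1_c11 LD2_c25 LD3_c51) Lrfl Lrfl
theorem f146510 : Led Lsl_gt (LP (LK LD1_c20 LD2_c23 LD3_c23)) = (LP (LK LD1_c11 LD2_c25 LD3_c51)) :=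
  Lre_g IH (LK LD1_c20 LD2_c23 LD3_c23) (LK LD1_c11 LD2_c25 LD3_c51) Lrfl Lrfl
theorem f146590 : Led Lsl_dt (LP (LK LD1_c16 LD2_c58 LD3_c14)) = (LP (LK LD1_c20 LD2_c23 LD3_c23)) :=
  Lgr Lrot136 (Lpr_et (f146589 IH) (Lpe (K52.f25383 IH) (Lpe (K8.f25272 IH) (Lpr_dt (K8.f146531 IH) (Lpe (K4.f20204 IH) (Lpe (K5.f95244 IH) (Lpr_gf (K7.f146482 IH) (Lpe (f146486 IH) (Lpr_dt (f146470 IH) (Lpe (f146510 IH) (Lpn (LP (LK LD1_c20 LD2_c23 LD3_c23)))))))))))))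
theorem f146594 : Led Lsl_df (LP (LK LD1_c16 LD2_c58 LD3_c14)) = (LP (LK LD1_c20 LD2_c23 LD3_c23)) :=
  Lgr Lrot38 (Lpr_dt (f146590 IH) (Lpn (LP (LK LD1_c20 LD2_c23 LD3_c23))))
theorem f146596 : Led Lsl_et (LP (LK LD1_c9 LD2_c6 LD3_c23)) = (LP (LK LD1_c16 LD2_c58 LD3_c14)) :=
  Lre_e IH (LK LD1_c9 LD2_c6 LD3_c23) (LK LD1_c16 LD2_c58 LD3_c14) Lrfl Lrfl
theorem f425991 : Led Lsl_et (LP (LK LD1_c11 LD2_c41 LD3_c54)) = (LP (LK LD1_c5 LD2_c58 LD3_c42)) :=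
  Lre_e IH (LK LD1_c11 LD2_c41 LD3_c54) (LK LD1_c5 LD2_c58 LD3_c42) Lrfl Lrfl
theorem f642984 : Led Lsl_ct (LP (LK LD1_c16 LD2_c58 LD3_c14)) = (LP (LK LD1_c11 LD2_c41 LD3_c54)) :=
  Lgr Lrot15 (Lpe (f146596 IH) (Lpr_cf (K52.f642964 IH) (Lpe (f425991 IH) (Lpn (LP (LK LD1_c11 LD2_c41 LD3_c54))))))
theorem f502693 : Led Lsl_dt (LP (LK LD1_c20 LD2_c41 LD3_c60)) = (LP (LK LD1_c11 LD2_c41 LD3_c54)) :=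
  Lre_d IH (LK LD1_c20 LD2_c41 LD3_c60) (LK LD1_c11 LD2_c41 LD3_c54) Lrfl Lrfl
theorem f501866 : Led Lsl_gf (LP (LK LD1_c2 LD2_c53 LD3_c2)) = (LP (LK LD1_c4 LD2_c48 LD3_c50)) :=
  Lgr Lrot143 (Lpr_dt (K32.f72395 IH) (Lpe (K5.f72259 IH) (Lpe (K5.f130546 IH) (Lpr_gf (K6.f146484 IH) (Lpe (K6.f135846 IH) (Lpe (K11.f161002 IH) (Lpe (K5.f36537 IH) (Lpe (K32.f425866 IH) (Lpr_dt (K36.f501854 IH) (Lpn (LP (LK LD1_c4 LD2_c48 LD3_c50))))))))))))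
theorem f428852 : Led Lsl_et (LP (LK LD1_c1 LD2_c23 LD3_c50)) = (LP (LK LD1_c2 LD2_c55 LD3_c47)) :=
  Lre_e IH (LK LD1_c1 LD2_c23 LD3_c50) (LK LD1_c2 LD2_c55 LD3_c47) Lrfl Lrfl
theorem f425992 : Led Lsl_dt (LP (LK LD1_c11 LD2_c41 LD3_c54)) = (LP (LK LD1_c20 LD2_c41 LD3_c60)) :=
  Lre_d IH (LK LD1_c11 LD2_c41 LD3_c54) (LK LD1_c20 LD2_c41 LD3_c60) Lrfl Lrfl
theorem f501886 : Led Lsl_et (LP (LK LD1_c9 LD2_c30 LD3_c9)) = (LP (LK LD1_c4 LD2_c48 LD3_c50)) :=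
  Lre_e IH (LK LD1_c9 LD2_c30 LD3_c9) (LK LD1_c4 LD2_c48 LD3_c50) Lrfl Lrfl
theorem f501863 : Led Lsl_dt (LP (LK LD1_c9 LD2_c30 LD3_c9)) = (LP (LK LD1_c17 LD2_c31 LD3_c27)) :=
  Lre_d IH (LK LD1_c9 LD2_c30 LD3_c9) (LK LD1_c17 LD2_c31 LD3_c27) Lrfl Lrfl
theorem f502689 : Led Lsl_gt (LP (LK LD1_c20 LD2_c41 LD3_c60)) = (LP (LK LD1_c17 LD2_c31 LD3_c27)) :=
  Lgr Lrot112 (Lpe (f425992 IH) (Lpr_et (f425991 IH) (Lpe (K52.f428853 IH) (Lpe (f428852 IH) (Lpr_dt (K24.f157605 IH) (Lpe (K8.f157615 IH) (Lpe (K32.f72395 IH) (Lpr_gf (f501866 IH) (Lpe (f501886 IH) (Lpr_dt (f501863 IH) (Lpn (LP (LK LD1_c17 LD2_c31 LD3_c27)))))))))))))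
theorem f136302 : Led Lsl_ft (LP (LK LD1_c17 LD2_c31 LD3_c35)) = (LP (LK LD1_c9 LD2_c30 LD3_c14)) :=
  Lre_f IH (LK LD1_c17 LD2_c31 LD3_c35) (LK LD1_c9 LD2_c30 LD3_c14) Lrfl Lrfl
theorem f502691 : Led Lsl_gf (LP (LK LD1_c20 LD2_c41 LD3_c60)) = (LP (LK LD1_c17 LD2_c31 LD3_c35)) :=
  Lgr Lrot47 (Lpr_gt (f502689 IH) (Lpe (K48.f136290 IH) (Lpe (f136302 IH) (Lpn (LP (LK LD1_c17 LD2_c31 LD3_c35))))))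
theorem f741744 : Led Lsl_gt (LP (LK LD1_c6 LD2_c1 LD3_c52)) = (LP (LK LD1_c9 LD2_c30 LD3_c15)) :=
  Lgr Lrot180 (Lpr_ct (f741741 IH) (Lpe (f741739 IH) (Lpr_dt (f57352 IH) (Lpr_gt (f57487 IH) (Lpe (f146594 IH) (Lpr_ct (f642984 IH) (Lpe (f502693 IH) (Lpr_gf (f502691 IH) (Lpe (K48.f501955 IH) (Lpn (LP (LK LD1_c9 LD2_c30 LD3_c15))))))))))))
theorem f741745 : Led Lsl_gt (LP (LK LD1_c6 LD2_c1 LD3_c52)) = (LP (LK LD1_c9 LD2_c30 LD3_c15)) :=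
  Leop (Lpe (f741744 IH) (Lpn (LP (LK LD1_c6 LD2_c1 LD3_c52))))
theorem seed_941 : LEOK LG_g (LK LD1_c6 LD2_c1 LD3_c52) :=
  Leoe_g (LK LD1_c6 LD2_c1 LD3_c52) (f741745 IH)
theorem f501895 : Led Lsl_bt (LP (LK LD1_c5 LD2_c59 LD3_c35)) = (LP (LK LD1_c9 LD2_c30 LD3_c9)) :=
  Lgr Lrot127 (Lpr_bf (K37.f501892 IH) (Lpn (LP (LK LD1_c9 LD2_c30 LD3_c9))))
theorem f741747 : Led Lsl_gf (LP (LK LD1_c6 LD2_c1 LD3_c52)) = (LP (LK LD1_c9 LD2_c30 LD3_c9)) :=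
  Lgr Lrot181 (Lpr_ct (f741741 IH) (Lpe (f741739 IH) (Lpe (K1.f57190 IH) (Lpr_bt (K48.f57171 IH) (Lpe (K48.f416346 IH) (Lpe (K52.f416348 IH) (Lpr_ct (K52.f416352 IH) (Lpr_gt (K52.f698967 IH) (Lpr_cf (K53.f502512 IH) (Lpr_bt (f501895 IH) (Lpn (LP (LK LD1_c9 LD2_c30 LD3_c9)))))))))))))
theorem f57172 : Led Lsl_ct (LP (LK LD1_c5 LD2_c48 LD3_c25)) = (LP (LK LD1_c2 LD2_c50 LD3_c21)) :=
  Lre_c IH (LK LD1_c5 LD2_c48 LD3_c25) (LK LD1_c2 LD2_c50 LD3_c21) Lrfl Lrfl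
theorem f501897 : Led Lsl_dt (LP (LK LD1_c17 LD2_c31 LD3_c27)) = (LP (LK LD1_c9 LD2_c30 LD3_c9)) :=
  Lre_d IH (LK LD1_c17 LD2_c31 LD3_c27) (LK LD1_c9 LD2_c30 LD3_c9) Lrfl Lrfl
theorem f741753 : Led Lsl_gf (LP (LK LD1_c11 LD2_c48 LD3_c29)) = (LP (LK LD1_c17 LD2_c31 LD3_c27)) :=
  Lgr Lrot147 (Lpr_ct (K48.f669764 IH) (Lpe (K48.f615647 IH) (Lpr_ct (K48.f146522 IH) (Lpe (K48.f146459 IH) (Lpe (f57172 IH) (Lpr_gf (f741739 IH) (Lpe (f741741 IH) (Lpr_gf (f741747 IH) (Lpe (f501897 IH) (Lpn (LP (LK LD1_c17 LD2_c31 LD3_c27))))))))))))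
theorem f741754 : Led Lsl_gt (LP (LK LD1_c17 LD2_c31 LD3_c27)) = (LP (LK LD1_c11 LD2_c48 LD3_c29)) :=
  Leop (Lpr_gf (f741753 IH) (Lpn (LP (LK LD1_c17 LD2_c31 LD3_c27))))
theorem seed_942 : LEOK LG_g (LK LD1_c17 LD2_c31 LD3_c27) :=
  Leoe_g (LK LD1_c17 LD2_c31 LD3_c27) (f741754 IH)
def v15823 : LQ := Led Lsl_dt (LP (LK LD1_c5 LD2_c48 LD3_c15))
theorem f741875 : Led Lsl_dt (LP (LK LD1_c5 LD2_c48 LD3_c15)) = v15823 :=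
  Lrfl
theorem f741876 : Led Lsl_bf K52.v4830 = v15823 :=
  Lgr Lrot93 (Lpe (K52.f640499 IH) (Lpr_bt (K52.f56796 IH) (Lpr_dt (f741875 IH) (Lpn v15823))))
theorem f720838 : Led Lsl_gf K52.v4830 = v14174 :=
  Lgr Lrot145 (Lpe (K52.f640498 IH) (Lpr_et (K51.f136239 IH) (Lpe (K7.f136934 IH) (Lpr_dt (K6.f135867 IH) (Lpr_gt (K6.f135897 IH) (Lpe (K7.f64343 IH) (Lpr_et (K8.f132464 IH) (Lpr_gt (K52.f640494 IH) (Lpq (K52.f712151 IH) (Lpe (K53.f416402 IH) (Lpr_dt (f720835 IH) (Lpn v14174))))))))))))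
theorem f98996 : Led Lsl_bt (LP (LK LD1_c3 LD2_c21 LD3_c0)) = (LP (LK LD1_c1 LD2_c36 LD3_c48)) :=
  Lre_b IH (LK LD1_c3 LD2_c21 LD3_c0) (LK LD1_c1 LD2_c36 LD3_c48) Lrfl Lrfl
theorem f414069 : Led Lsl_ct (LP (LK LD1_c3 LD2_c21 LD3_c0)) = (LP (LK LD1_c6 LD2_c45 LD3_c54)) :=
  Lre_c IH (LK LD1_c3 LD2_c21 LD3_c0) (LK LD1_c6 LD2_c45 LD3_c54) Lrfl Lrfl
theorem f414070 : Led Lsl_gt (LP (LK LD1_c12 LD2_c55 LD3_c38)) = (LP (LK LD1_c6 LD2_c45 LD3_c54)) :=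
  Lre_g IH (LK LD1_c12 LD2_c55 LD3_c38) (LK LD1_c6 LD2_c45 LD3_c54) Lrfl Lrfl
theorem f741881 : Led Lsl_cf (LP (LK LD1_c12 LD2_c55 LD3_c38)) = v15823 :=
  Lgr Lrot160 (Lpr_gt (f414070 IH) (Lpe (f414069 IH) (Lpr_bt (f98996 IH) (Lpr_gt (K17.f98995 IH) (Lpr_ct (K17.f23083 IH) (Lpr_gt (K24.f23082 IH) (Lpe (K17.f414058 IH) (Lpr_bt (f720831 IH) (Lpe (f720838 IH) (Lpr_bf (f741876 IH) (Lpn v15823)))))))))))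
theorem f56801 : Led Lsl_et (LP (LK LD1_c2 LD2_c50 LD3_c9)) = (LP (LK LD1_c5 LD2_c48 LD3_c15)) :=
  Lre_e IH (LK LD1_c2 LD2_c50 LD3_c9) (LK LD1_c5 LD2_c48 LD3_c15) Lrfl Lrfl
theorem f741878 : Led Lsl_ef (LP (LK LD1_c5 LD2_c50 LD3_c59)) = v15823 :=
  Lgr Lrot73 (Lpr_dt (K43.f112852 IH) (Lpr_et (K44.f149686 IH) (Lpr_dt (K7.f149678 IH) (Lpr_et (f56801 IH) (Lpr_dt (f741875 IH) (Lpn v15823))))))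
theorem f741880 : Led Lsl_et (LP (LK LD1_c5 LD2_c50 LD3_c59)) = v15823 :=
  Lgr Lrot87 (Lpr_ef (f741878 IH) (Lpn v15823))
theorem f741884 : Led Lsl_et (LP (LK LD1_c12 LD2_c55 LD3_c38)) = (LP (LK LD1_c11 LD2_c29 LD3_c28)) :=
  Lgr Lrot158 (Lpr_cf (f741881 IH) (Lpe (f741880 IH) (Lpe (K44.f137828 IH) (Lpn (LP (LK LD1_c11 LD2_c29 LD3_c28))))))
theorem f741885 : Led Lsl_et (LP (LK LD1_c12 LD2_c55 LD3_c38)) = (LP (LK LD1_c11 LD2_c29 LD3_c28)) :=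
  Leop (Lpe (f741884 IH) (Lpn (LP (LK LD1_c12 LD2_c55 LD3_c38))))
theorem seed_943 : LEOK LG_e (LK LD1_c12 LD2_c55 LD3_c38) :=
  Leoe_e (LK LD1_c12 LD2_c55 LD3_c38) (f741885 IH)
def v15838 : LQ := Led Lsl_at (LP (LK LD1_c5 LD2_c48 LD3_c28))
theorem f741946 : Led Lsl_at (LP (LK LD1_c5 LD2_c48 LD3_c28)) = v15838 :=
  Lrfl
def v4835 : LQ := Led Lsl_at (LP (LK LD1_c2 LD2_c50 LD3_c18))
theorem f640512 : Led Lsl_at (LP (LK LD1_c2 LD2_c50 LD3_c18)) = v4835 :=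
  Lrfl
theorem f640513 : Led Lsl_af (LP (LK LD1_c2 LD2_c50 LD3_c18)) = v4835 :=
  Lgr Lrot0 (Lpr_at (f640512 IH) (Lpn v4835))
theorem f741949 : Led Lsl_df v4835 = v15838 :=
  Lgr Lrot18 (Lpe (f640513 IH) (Lpr_dt (K53.f57148 IH) (Lpr_at (f741946 IH) (Lpn v15838))))
theorem f640517 : Led Lsl_ft (LP (LK LD1_c2 LD2_c50 LD3_c19)) = v4835 :=
  Lgr Lrot2 (Lpr_gt (K52.f57509 IH) (Lpr_gt (K7.f57147 IH) (Lpr_af (f640513 IH) (Lpn v4835))))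
theorem f640521 : Led Lsl_ff (LP (LK LD1_c2 LD2_c50 LD3_c19)) = v4835 :=
  Lgr Lrot3 (Lpr_ft (f640517 IH) (Lpn v4835))
theorem f437255 : Led Lsl_dt (LP (LK LD1_c2 LD2_c50 LD3_c19)) = (LP (LK LD1_c5 LD2_c48 LD3_c32)) :=
  Lre_d IH (LK LD1_c2 LD2_c50 LD3_c19) (LK LD1_c5 LD2_c48 LD3_c32) Lrfl Lrfl
theorem f741951 : Led Lsl_ft (LP (LK LD1_c5 LD2_c48 LD3_c32)) = v15838 :=
  Lgr Lrot54 (Lpe (f437255 IH) (Lpr_ff (f640521 IH) (Lpr_df (f741949 IH) (Lpn v15838))))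
theorem f741947 : Led Lsl_af (LP (LK LD1_c5 LD2_c48 LD3_c28)) = v15838 :=
  Lgr Lrot0 (Lpr_at (f741946 IH) (Lpn v15838))
theorem f741956 : Led Lsl_gt (LP (LK LD1_c5 LD2_c48 LD3_c32)) = (LP (LK LD1_c11 LD2_c26 LD3_c26)) :=
  Lgr Lrot5 (Lpr_ft (f741951 IH) (Lpe (f741947 IH) (Lpe (K53.f151601 IH) (Lpn (LP (LK LD1_c11 LD2_c26 LD3_c26))))))
theorem f741957 : Led Lsl_gt (LP (LK LD1_c5 LD2_c48 LD3_c32)) = (LP (LK LD1_c11 LD2_c26 LD3_c26)) :=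
  Leop (Lpe (f741956 IH) (Lpn (LP (LK LD1_c5 LD2_c48 LD3_c32))))
theorem seed_944 : LEOK LG_g (LK LD1_c5 LD2_c48 LD3_c32) :=
  Leoe_g (LK LD1_c5 LD2_c48 LD3_c32) (f741957 IH)
def v15839 : LQ := Led Lsl_ft (LP (LK LD1_c5 LD2_c48 LD3_c28))
theorem f741960 : Led Lsl_ft (LP (LK LD1_c5 LD2_c48 LD3_c28)) = v15839 :=
  Lrfl
theorem f741961 : Led Lsl_af (LP (LK LD1_c5 LD2_c48 LD3_c32)) = v15839 :=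
  Lgr Lrot45 (Lpr_ft (f741951 IH) (Lpe (f741947 IH) (Lpr_ft (f741960 IH) (Lpn v15839))))
theorem f741964 : Led Lsl_gt (LP (LK LD1_c11 LD2_c26 LD3_c25)) = (LP (LK LD1_c5 LD2_c48 LD3_c32)) :=
  Lgr Lrot46 (Lpe (K53.f151598 IH) (Lpr_ft (f741960 IH) (Lpe (f741961 IH) (Lpn (LP (LK LD1_c5 LD2_c48 LD3_c32))))))
theorem f741965 : Led Lsl_gt (LP (LK LD1_c11 LD2_c26 LD3_c25)) = (LP (LK LD1_c5 LD2_c48 LD3_c32)) :=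
  Leop (Lpe (f741964 IH) (Lpn (LP (LK LD1_c11 LD2_c26 LD3_c25))))
theorem seed_945 : LEOK LG_g (LK LD1_c11 LD2_c26 LD3_c25) :=
  Leoe_g (LK LD1_c11 LD2_c26 LD3_c25) (f741965 IH)
def v15840 : LQ := Led Lsl_gf (LP (LK LD1_c5 LD2_c48 LD3_c29))
theorem f741977 : Led Lsl_gf (LP (LK LD1_c5 LD2_c48 LD3_c29)) = v15840 :=
  Lrfl
theorem f100340 : Led Lsl_et (LP (LK LD1_c2 LD2_c50 LD3_c3)) = (LP (LK LD1_c1 LD2_c21 LD3_c4)) :=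
  Lre_e IH (LK LD1_c2 LD2_c50 LD3_c3) (LK LD1_c1 LD2_c21 LD3_c4) Lrfl Lrfl
theorem f64357 : Led Lsl_dt (LP (LK LD1_c2 LD2_c50 LD3_c3)) = (LP (LK LD1_c5 LD2_c48 LD3_c3)) :=
  Lre_d IH (LK LD1_c2 LD2_c50 LD3_c3) (LK LD1_c5 LD2_c48 LD3_c3) Lrfl Lrfl
theorem f713402 : Led Lsl_ff (LP (LK LD1_c15 LD2_c5 LD3_c40)) = (LP (LK LD1_c9 LD2_c6 LD3_c2)) :=
  Lgr Lrot3 (Lpr_ft (f713396 IH) (Lpn (LP (LK LD1_c9 LD2_c6 LD3_c2))))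
theorem f713275 : Led Lsl_af (LP (LK LD1_c12 LD2_c57 LD3_c39)) = (LP (LK LD1_c6 LD2_c47 LD3_c24)) :=
  Lgr Lrot0 (Lpr_at (f713273 IH) (Lpn (LP (LK LD1_c6 LD2_c47 LD3_c24))))
theorem f454680 : Led Lsl_et (LP (LK LD1_c12 LD2_c57 LD3_c54)) = (LP (LK LD1_c6 LD2_c47 LD3_c24)) :=
  Lre_e IH (LK LD1_c12 LD2_c57 LD3_c54) (LK LD1_c6 LD2_c47 LD3_c24) Lrfl Lrfl
theorem f713391 : Led Lsl_at (LP (LK LD1_c15 LD2_c5 LD3_c40)) = (LP (LK LD1_c12 LD2_c57 LD3_c54)) :=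
  Lgr Lrot80 (Lpr_ef (f713389 IH) (Lpr_af (f713275 IH) (Lpe (f454680 IH) (Lpn (LP (LK LD1_c12 LD2_c57 LD3_c54))))))
theorem f739585 : Led Lsl_gt (LP (LK LD1_c12 LD2_c17 LD3_c48)) = (LP (LK LD1_c12 LD2_c57 LD3_c54)) :=
  Lgr Lrot46 (Lpr_gf (f739583 IH) (Lpe (f713402 IH) (Lpr_at (f713391 IH) (Lpn (LP (LK LD1_c12 LD2_c57 LD3_c54))))))
theorem f416405 : Led Lsl_dt (LP (LK LD1_c11 LD2_c25 LD3_c8)) = (LP (LK LD1_c5 LD2_c47 LD3_c37)) :=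
  Lre_d IH (LK LD1_c11 LD2_c25 LD3_c8) (LK LD1_c5 LD2_c47 LD3_c37) Lrfl Lrfl
theorem f24102 : Led Lsl_dt (LP (LK LD1_c5 LD2_c51 LD3_c11)) = (LP (LK LD1_c11 LD2_c29 LD3_c52)) :=
  Lre_d IH (LK LD1_c5 LD2_c51 LD3_c11) (LK LD1_c11 LD2_c29 LD3_c52) Lrfl Lrfl
theorem f711821 : Led Lsl_af (LP (LK LD1_c11 LD2_c25 LD3_c8)) = (LP (LK LD1_c11 LD2_c29 LD3_c52)) :=
  Lgr Lrot117 (Lpr_dt (f416405 IH) (Lpr_at (K52.f711813 IH) (Lpr_dt (f24102 IH) (Lpn (LP (LK LD1_c11 LD2_c29 LD3_c52))))))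
theorem f711823 : Led Lsl_at (LP (LK LD1_c11 LD2_c25 LD3_c8)) = (LP (LK LD1_c11 LD2_c29 LD3_c52)) :=
  Lgr Lrot100 (Lpr_af (f711821 IH) (Lpn (LP (LK LD1_c11 LD2_c29 LD3_c52))))
theorem f132467 : Led Lsl_dt (LP (LK LD1_c5 LD2_c51 LD3_c12)) = (LP (LK LD1_c11 LD2_c29 LD3_c54)) :=
  Lre_d IH (LK LD1_c5 LD2_c51 LD3_c12) (LK LD1_c11 LD2_c29 LD3_c54) Lrfl Lrfl
theorem f711773 : Led Lsl_ff (LP (LK LD1_c11 LD2_c25 LD3_c8)) = (LP (LK LD1_c11 LD2_c29 LD3_c54)) :=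
  Lgr Lrot19 (Lpr_dt (f416405 IH) (Lpr_ft (K52.f640728 IH) (Lpqs (K52.f711766 IH) (Lpr_dt (f132467 IH) (Lpn (LP (LK LD1_c11 LD2_c29 LD3_c54)))))))
theorem f132461 : Led Lsl_gt (LP (LK LD1_c20 LD2_c26 LD3_c61)) = (LP (LK LD1_c11 LD2_c29 LD3_c52)) :=
  Lre_g IH (LK LD1_c20 LD2_c26 LD3_c61) (LK LD1_c11 LD2_c29 LD3_c52) Lrfl Lrfl
theorem f711825 : Led Lsl_gt (LP (LK LD1_c11 LD2_c29 LD3_c54)) = (LP (LK LD1_c20 LD2_c26 LD3_c61)) :=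
  Lgr Lrot5 (Lpe (f711773 IH) (Lpr_at (f711823 IH) (Lpe (f132461 IH) (Lpn (LP (LK LD1_c20 LD2_c26 LD3_c61))))))
theorem f157904 : Led Lsl_et (LP (LK LD1_c5 LD2_c51 LD3_c19)) = (LP (LK LD1_c5 LD2_c48 LD3_c4)) :=
  Lgr Lrot74 (Lpe (K51.f157903 IH) (Lpr_ef (K8.f157899 IH) (Lpe (K51.f100319 IH) (Lpn (LP (LK LD1_c5 LD2_c48 LD3_c4))))))
theorem f454554 : Led Lsl_gt (LP (LK LD1_c6 LD2_c47 LD3_c24)) = (LP (LK LD1_c12 LD2_c57 LD3_c41)) :=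
  Lre_g IH (LK LD1_c6 LD2_c47 LD3_c24) (LK LD1_c12 LD2_c57 LD3_c41) Lrfl Lrfl
theorem f711827 : Led Lsl_dt (LP (LK LD1_c12 LD2_c57 LD3_c54)) = (LP (LK LD1_c20 LD2_c26 LD3_c61)) :=
  Lgr Lrot56 (Lpr_et (f454680 IH) (Lpr_gt (f454554 IH) (Lpe (K52.f454523 IH) (Lpr_dt (K51.f643236 IH) (Lpe (K53.f710057 IH) (Lpe (K51.f589224 IH) (Lpr_et (f157904 IH) (Lpe (K52.f132465 IH) (Lpr_dt (f132467 IH) (Lpr_gt (f711825 IH) (Lpn (LP (LK LD1_c20 LD2_c26 LD3_c61)))))))))))))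
theorem f711829 : Led Lsl_df (LP (LK LD1_c12 LD2_c57 LD3_c54)) = (LP (LK LD1_c20 LD2_c26 LD3_c61)) :=
  Lgr Lrot38 (Lpr_dt (f711827 IH) (Lpn (LP (LK LD1_c20 LD2_c26 LD3_c61))))
theorem f710254 : Led Lsl_et (LP (LK LD1_c6 LD2_c47 LD3_c24)) = (LP (LK LD1_c12 LD2_c57 LD3_c54)) :=
  Lre_e IH (LK LD1_c6 LD2_c47 LD3_c24) (LK LD1_c12 LD2_c57 LD3_c54) Lrfl Lrfl
theorem f541453 : Led Lsl_et (LP (LK LD1_c16 LD2_c58 LD3_c34)) = (LP (LK LD1_c9 LD2_c6 LD3_c35)) :=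
  Lre_e IH (LK LD1_c16 LD2_c58 LD3_c34) (LK LD1_c9 LD2_c6 LD3_c35) Lrfl Lrfl
theorem f494359 : Led Lsl_et (LP (LK LD1_c2 LD2_c14 LD3_c35)) = (LP (LK LD1_c4 LD2_c34 LD3_c56)) :=
  Lre_e IH (LK LD1_c2 LD2_c14 LD3_c35) (LK LD1_c4 LD2_c34 LD3_c56) Lrfl Lrfl
theorem f165722 : Led Lsl_gt (LP (LK LD1_c18 LD2_c23 LD3_c37)) = (LP (LK LD1_c10 LD2_c4 LD3_c56)) :=
  Lre_g IH (LK LD1_c18 LD2_c23 LD3_c37) (LK LD1_c10 LD2_c4 LD3_c56) Lrfl Lrfl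
theorem f548278 : Led Lsl_dt (LP (LK LD1_c16 LD2_c58 LD3_c34)) = (LP (LK LD1_c18 LD2_c23 LD3_c37)) :=
  Lgr Lrot136 (Lpr_et (f541453 IH) (Lpe (K52.f100343 IH) (Lpe (f494359 IH) (Lpr_dt (K45.f20383 IH) (Lpe (K35.f20392 IH) (Lpe (K45.f20393 IH) (Lpr_gf (K38.f548269 IH) (Lpe (K36.f334862 IH) (Lpr_dt (K36.f334845 IH) (Lpe (f165722 IH) (Lpn (LP (LK LD1_c18 LD2_c23 LD3_c37)))))))))))))
theorem f548281 : Led Lsl_df (LP (LK LD1_c16 LD2_c58 LD3_c34)) = (LP (LK LD1_c18 LD2_c23 LD3_c37)) :=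
  Lgr Lrot38 (Lpr_dt (f548278 IH) (Lpn (LP (LK LD1_c18 LD2_c23 LD3_c37))))
theorem f711831 : Led Lsl_ef (LP (LK LD1_c18 LD2_c23 LD3_c37)) = (LP (LK LD1_c20 LD2_c26 LD3_c61)) :=
  Lgr Lrot73 (Lpe (f548281 IH) (Lpr_et (f541453 IH) (Lpr_dt (K52.f710250 IH) (Lpr_et (f710254 IH) (Lpr_dt (f711827 IH) (Lpn (LP (LK LD1_c20 LD2_c26 LD3_c61))))))))
theorem f496043 : Led Lsl_et (LP (LK LD1_c2 LD2_c50 LD3_c4)) = (LP (LK LD1_c5 LD2_c48 LD3_c3)) :=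
  Lre_e IH (LK LD1_c2 LD2_c50 LD3_c4) (LK LD1_c5 LD2_c48 LD3_c3) Lrfl Lrfl
theorem f739595 : Led Lsl_gf (LP (LK LD1_c8 LD2_c12 LD3_c53)) = (LP (LK LD1_c5 LD2_c48 LD3_c3)) :=
  Lgr Lrot138 (Lpr_dt (f504803 IH) (Lpr_gt (f739585 IH) (Lpr_df (f711829 IH) (Lpe (f711831 IH) (Lpr_gt (f165722 IH) (Lpe (K36.f334865 IH) (Lpe (K36.f334858 IH) (Lpq (K38.f537970 IH) (Lpr_gt (K35.f501280 IH) (Lpq (K38.f547957 IH) (Lpe (K38.f132346 IH) (Lpr_et (f496043 IH) (Lpn (LP (LK LD1_c5 LD2_c48 LD3_c3)))))))))))))))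
theorem f504811 : Led Lsl_df (LP (LK LD1_c8 LD2_c12 LD3_c53)) = (LP (LK LD1_c12 LD2_c17 LD3_c48)) :=
  Lgr Lrot12 (Lpr_bt (f55717 IH) (Lpr_dt (K51.f504805 IH) (Lpr_bt (f438614 IH) (Lpn (LP (LK LD1_c12 LD2_c17 LD3_c48))))))
theorem f741979 : Led Lsl_et (LP (LK LD1_c12 LD2_c17 LD3_c48)) = v15840 :=
  Lgr Lrot121 (Lpe (f504811 IH) (Lpr_gf (f739595 IH) (Lpe (f64357 IH) (Lpr_et (f100340 IH) (Lpr_gf (K7.f151569 IH) (Lpe (K7.f22317 IH) (Lpr_dt (K7.f22315 IH) (Lpe (K7.f22324 IH) (Lpe (K7.f151578 IH) (Lpr_gf (f741977 IH) (Lpn v15840)))))))))))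
theorem f741981 : Led Lsl_ef (LP (LK LD1_c12 LD2_c17 LD3_c48)) = v15840 :=
  Lgr Lrot88 (Lpr_et (f741979 IH) (Lpn v15840))
theorem f22326 : Led Lsl_dt (LP (LK LD1_c5 LD2_c51 LD3_c4)) = (LP (LK LD1_c11 LD2_c29 LD3_c38)) :=
  Lre_d IH (LK LD1_c5 LD2_c51 LD3_c4) (LK LD1_c11 LD2_c29 LD3_c38) Lrfl Lrfl
theorem f713129 : Led Lsl_ff (LP (LK LD1_c5 LD2_c51 LD3_c31)) = (LP (LK LD1_c11 LD2_c29 LD3_c38)) :=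
  Lgr Lrot19 (Lpr_dt (K53.f22299 IH) (Lpr_ft (K53.f640705 IH) (Lpqs (K53.f713120 IH) (Lpr_dt (f22326 IH) (Lpn (LP (LK LD1_c11 LD2_c29 LD3_c38)))))))
theorem f713166 : Led Lsl_at (LP (LK LD1_c5 LD2_c51 LD3_c27)) = (LP (LK LD1_c11 LD2_c29 LD3_c38)) :=
  Lgr Lrot66 (Lpr_ff (K53.f713154 IH) (Lpr_af (K53.f713160 IH) (Lpr_ff (f713129 IH) (Lpn (LP (LK LD1_c11 LD2_c29 LD3_c38))))))
theorem f713168 : Led Lsl_af (LP (LK LD1_c5 LD2_c51 LD3_c27)) = (LP (LK LD1_c11 LD2_c29 LD3_c38)) :=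
  Lgr Lrot0 (Lpr_at (f713166 IH) (Lpn (LP (LK LD1_c11 LD2_c29 LD3_c38))))
theorem f22357 : Led Lsl_gt (LP (LK LD1_c11 LD2_c30 LD3_c21)) = (LP (LK LD1_c5 LD2_c51 LD3_c27)) :=
  Lre_g IH (LK LD1_c11 LD2_c30 LD3_c21) (LK LD1_c5 LD2_c51 LD3_c27) Lrfl Lrfl
theorem f713131 : Led Lsl_ft (LP (LK LD1_c5 LD2_c51 LD3_c31)) = (LP (LK LD1_c11 LD2_c29 LD3_c38)) :=
  Lgr Lrot48 (Lpr_ff (f713129 IH) (Lpn (LP (LK LD1_c11 LD2_c29 LD3_c38))))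
theorem f713184 : Led Lsl_gf (LP (LK LD1_c11 LD2_c30 LD3_c21)) = (LP (LK LD1_c5 LD2_c51 LD3_c31)) :=
  Lgr Lrot47 (Lpr_gt (f22357 IH) (Lpr_af (f713168 IH) (Lpe (f713131 IH) (Lpn (LP (LK LD1_c5 LD2_c51 LD3_c31))))))
theorem f741984 : Led Lsl_df (LP (LK LD1_c11 LD2_c30 LD3_c21)) = v15840 :=
  Lgr Lrot132 (Lpr_gf (f713184 IH) (Lpe (K53.f22350 IH) (Lpe (K52.f22349 IH) (Lpe (K52.f151659 IH) (Lpr_dt (K52.f146515 IH) (Lpe (K52.f436309 IH) (Lpr_df (K52.f710244 IH) (Lpr_et (f710254 IH) (Lpe (f739585 IH) (Lpr_ef (f741981 IH) (Lpn v15840)))))))))))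
theorem f495298 : Led Lsl_ct K35.v567 = K48.v1389 :=
  Lgr Lrot59 (Lpr_cf (K48.f495297 IH) (Lpn K48.v1389))
theorem f415545 : Led Lsl_ct (LP (LK LD1_c1 LD2_c8 LD3_c32)) = (LP (LK LD1_c1 LD2_c56 LD3_c35)) :=
  Lgr Lrot8 (Lpr_gt (K24.f20139 IH) (Lpr_dt (K16.f23820 IH) (Lpr_gt (K16.f23821 IH) (Lpr_dt (K24.f415317 IH) (Lpe (K32.f413502 IH) (Lpr_df (K24.f413494 IH) (Lpr_gf (K16.f40945 IH) (Lpe (K16.f40931 IH) (Lpe (K24.f77388 IH) (Lpn (LP (LK LD1_c1 LD2_c56 LD3_c35))))))))))))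
theorem f633588 : K48.v1389 = (LP (LK LD1_c1 LD2_c56 LD3_c35)) :=
  Lefun (Lecon (f495298 IH) (K51.f633576 IH)) (f415545 IH)
theorem f79896 : Led Lsl_et (LP (LK LD1_c1 LD2_c56 LD3_c35)) = (LP (LK LD1_c3 LD2_c59 LD3_c55)) :=
  Lre_e IH (LK LD1_c1 LD2_c56 LD3_c35) (LK LD1_c3 LD2_c59 LD3_c55) Lrfl Lrfl
theorem f633601 : Led Lsl_ff (LP (LK LD1_c6 LD2_c22 LD3_c5)) = (LP (LK LD1_c3 LD2_c59 LD3_c55)) :=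
  Lgr Lrot23 (Lpr_ct (K35.f633535 IH) (Lpe (K51.f633549 IH) (Lpqs (K51.f633598 IH) (Lpr_ct (K32.f415553 IH) (Lpn (LP (LK LD1_c3 LD2_c59 LD3_c55)))))))
theorem f669033 : Led Lsl_et (LP (LK LD1_c6 LD2_c22 LD3_c5)) = K48.v7930 :=
  Lgr Lrot69 (Lpr_ff (f633601 IH) (Lpe (f79896 IH) (Lpq (f633588 IH) (Lpe (K48.f495299 IH) (Lpr_ef (K48.f495312 IH) (Lpr_ff (K48.f669030 IH) (Lpn K48.v7930)))))))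
theorem f741982 : Led Lsl_bt K48.v7930 = v15840 :=
  Lgr Lrot119 (Lpe (f669033 IH) (Lpe (f438616 IH) (Lpr_ef (f741981 IH) (Lpn v15840))))
theorem f741985 : Led Lsl_bt (LP (LK LD1_c11 LD2_c30 LD3_c21)) = (LP (LK LD1_c5 LD2_c51 LD3_c54)) :=
  Lgr Lrot95 (Lpr_df (f741984 IH) (Lpe (f741982 IH) (Lpe (K48.f669032 IH) (Lpn (LP (LK LD1_c5 LD2_c51 LD3_c54))))))
theorem f741986 : Led Lsl_bt (LP (LK LD1_c11 LD2_c30 LD3_c21)) = (LP (LK LD1_c5 LD2_c51 LD3_c54)) :=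
  Leop (Lpe (f741985 IH) (Lpn (LP (LK LD1_c11 LD2_c30 LD3_c21))))
theorem seed_946 : LEOK LG_b (LK LD1_c11 LD2_c30 LD3_c21) :=
  Leoe_b (LK LD1_c11 LD2_c30 LD3_c21) (f741986 IH)
def v15844 : LQ := Led Lsl_ft (LP (LK LD1_c5 LD2_c48 LD3_c30))
theorem f742008 : Led Lsl_ft (LP (LK LD1_c5 LD2_c48 LD3_c30)) = v15844 :=
  Lrfl
theorem f742011 : Led Lsl_ff (LP (LK LD1_c5 LD2_c48 LD3_c30)) = v15844 :=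
  Lgr Lrot3 (Lpr_ft (f742008 IH) (Lpn v15844))
theorem f742013 : Led Lsl_bt v4835 = v15844 :=
  Lgr Lrot35 (Lpe (f640517 IH) (Lpe (K52.f57510 IH) (Lpr_ff (f742011 IH) (Lpn v15844))))
theorem f57511 : Led Lsl_bt (LP (LK LD1_c5 LD2_c48 LD3_c26)) = (LP (LK LD1_c2 LD2_c50 LD3_c18)) :=
  Lre_b IH (LK LD1_c5 LD2_c48 LD3_c26) (LK LD1_c2 LD2_c50 LD3_c18) Lrfl Lrfl
theorem f640514 : Led Lsl_at (LP (LK LD1_c11 LD2_c26 LD3_c19)) = (LP (LK LD1_c5 LD2_c48 LD3_c26)) :=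
  Lre_a IH (LK LD1_c11 LD2_c26 LD3_c19) (LK LD1_c5 LD2_c48 LD3_c26) Lrfl Lrfl
def v15843 : LQ := Led Lsl_at (LP (LK LD1_c5 LD2_c48 LD3_c30))
theorem f742004 : Led Lsl_at (LP (LK LD1_c5 LD2_c48 LD3_c30)) = v15843 :=
  Lrfl
theorem f742005 : Led Lsl_af (LP (LK LD1_c5 LD2_c48 LD3_c30)) = v15843 :=
  Lgr Lrot0 (Lpr_at (f742004 IH) (Lpn v15843))
theorem f436307 : Led Lsl_bt (LP (LK LD1_c11 LD2_c26 LD3_c43)) = (LP (LK LD1_c20 LD2_c24 LD3_c36)) :=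
  Lre_b IH (LK LD1_c11 LD2_c26 LD3_c43) (LK LD1_c20 LD2_c24 LD3_c36) Lrfl Lrfl
theorem f151722 : Led Lsl_et (LP (LK LD1_c9 LD2_c6 LD3_c17)) = (LP (LK LD1_c11 LD2_c26 LD3_c43)) :=
  Lgr Lrot87 (Lpr_ef (K7.f151717 IH) (Lpn (LP (LK LD1_c11 LD2_c26 LD3_c43))))
theorem f700532 : Led Lsl_bt (LP (LK LD1_c16 LD2_c29 LD3_c56)) = (LP (LK LD1_c9 LD2_c6 LD3_c17)) :=
  Lgr Lrot119 (Lpr_ef (K52.f700530 IH) (Lpe (f436307 IH) (Lpe (f151722 IH) (Lpn (LP (LK LD1_c9 LD2_c6 LD3_c17))))))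
theorem f22543 : Led Lsl_ct (LP (LK LD1_c1 LD2_c23 LD3_c22)) = (LP (LK LD1_c0 LD2_c43 LD3_c27)) :=
  Lre_c IH (LK LD1_c1 LD2_c23 LD3_c22) (LK LD1_c0 LD2_c43 LD3_c27) Lrfl Lrfl
theorem f22546 : Led Lsl_bt (LP (LK LD1_c1 LD2_c23 LD3_c22)) = (LP (LK LD1_c2 LD2_c54 LD3_c55)) :=
  Lre_b IH (LK LD1_c1 LD2_c23 LD3_c22) (LK LD1_c2 LD2_c54 LD3_c55) Lrfl Lrfl
theorem f428484 : Led Lsl_ct (LP (LK LD1_c4 LD2_c37 LD3_c17)) = (LP (LK LD1_c9 LD2_c10 LD3_c10)) :=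
  Lre_c IH (LK LD1_c4 LD2_c37 LD3_c17) (LK LD1_c9 LD2_c10 LD3_c10) Lrfl Lrfl
theorem f428493 : Led Lsl_gt (LP (LK LD1_c9 LD2_c10 LD3_c10)) = (LP (LK LD1_c17 LD2_c3 LD3_c17)) :=
  Lre_g IH (LK LD1_c9 LD2_c10 LD3_c10) (LK LD1_c17 LD2_c3 LD3_c17) Lrfl Lrfl
theorem f700545 : Led Lsl_ct (LP (LK LD1_c16 LD2_c29 LD3_c56)) = (LP (LK LD1_c17 LD2_c3 LD3_c17)) :=
  Lgr Lrot63 (Lpr_bt (f700532 IH) (Lpr_gt (K7.f25248 IH) (Lpe (K24.f25236 IH) (Lpe (K48.f25238 IH) (Lpr_gt (K32.f151950 IH) (Lpe (f22543 IH) (Lpr_bt (f22546 IH) (Lpr_gt (K46.f641162 IH) (Lpq (K46.f642390 IH) (Lpr_ct (f428484 IH) (Lpr_gt (f428493 IH) (Lpn (LP (LK LD1_c17 LD2_c3 LD3_c17))))))))))))))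
theorem f141974 : Led Lsl_et (LP (LK LD1_c3 LD2_c20 LD3_c26)) = (LP (LK LD1_c1 LD2_c36 LD3_c35)) :=
  Lre_e IH (LK LD1_c3 LD2_c20 LD3_c26) (LK LD1_c1 LD2_c36 LD3_c35) Lrfl Lrfl
theorem f141975 : Led Lsl_dt (LP (LK LD1_c3 LD2_c20 LD3_c26)) = (LP (LK LD1_c6 LD2_c44 LD3_c38)) :=
  Lre_d IH (LK LD1_c3 LD2_c20 LD3_c26) (LK LD1_c6 LD2_c44 LD3_c38) Lrfl Lrfl
theorem f207096 : Led Lsl_gt (LP (LK LD1_c12 LD2_c53 LD3_c46)) = (LP (LK LD1_c6 LD2_c44 LD3_c38)) :=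
  Lre_g IH (LK LD1_c12 LD2_c53 LD3_c46) (LK LD1_c6 LD2_c44 LD3_c38) Lrfl Lrfl
theorem f207221 : Led Lsl_dt (LP (LK LD1_c22 LD2_c3 LD3_c30)) = (LP (LK LD1_c12 LD2_c53 LD3_c46)) :=
  Lre_d IH (LK LD1_c22 LD2_c3 LD3_c30) (LK LD1_c12 LD2_c53 LD3_c46) Lrfl Lrfl
theorem f141261 : Led Lsl_et (LP (LK LD1_c4 LD2_c37 LD3_c13)) = (LP (LK LD1_c9 LD2_c10 LD3_c10)) :=
  Lre_e IH (LK LD1_c4 LD2_c37 LD3_c13) (LK LD1_c9 LD2_c10 LD3_c10) Lrfl Lrfl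
theorem f438070 : Led Lsl_et (LP (LK LD1_c22 LD2_c3 LD3_c30)) = (LP (LK LD1_c17 LD2_c3 LD3_c17)) :=
  Lgr Lrot122 (Lpr_dt (f207221 IH) (Lpr_gt (f207096 IH) (Lpe (f141975 IH) (Lpr_et (f141974 IH) (Lpr_gt (K7.f141965 IH) (Lpr_dt (K7.f139699 IH) (Lpr_gt (K7.f128956 IH) (Lpr_df (K7.f141235 IH) (Lpr_et (f141261 IH) (Lpr_gt (f428493 IH) (Lpn (LP (LK LD1_c17 LD2_c3 LD3_c17)))))))))))))
theorem f438072 : Led Lsl_ef (LP (LK LD1_c22 LD2_c3 LD3_c30)) = (LP (LK LD1_c17 LD2_c3 LD3_c17)) :=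
  Lgr Lrot88 (Lpr_et (f438070 IH) (Lpn (LP (LK LD1_c17 LD2_c3 LD3_c17))))
theorem f700549 : Led Lsl_cf (LP (LK LD1_c20 LD2_c24 LD3_c36)) = (LP (LK LD1_c22 LD2_c3 LD3_c30)) :=
  Lgr Lrot39 (Lpe (K52.f700530 IH) (Lpr_ct (f700545 IH) (Lpe (f438072 IH) (Lpn (LP (LK LD1_c22 LD2_c3 LD3_c30))))))
theorem f645242 : Led Lsl_dt (LP (LK LD1_c11 LD2_c26 LD3_c41)) = (LP (LK LD1_c20 LD2_c24 LD3_c36)) :=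
  Lre_d IH (LK LD1_c11 LD2_c26 LD3_c41) (LK LD1_c20 LD2_c24 LD3_c36) Lrfl Lrfl
theorem f207217 : Led Lsl_dt (LP (LK LD1_c12 LD2_c53 LD3_c46)) = (LP (LK LD1_c22 LD2_c3 LD3_c30)) :=
  Lre_d IH (LK LD1_c12 LD2_c53 LD3_c46) (LK LD1_c22 LD2_c3 LD3_c30) Lrfl Lrfl
theorem f207097 : Led Lsl_gt (LP (LK LD1_c17 LD2_c4 LD3_c54)) = (LP (LK LD1_c12 LD2_c53 LD3_c46)) :=
  Lgr Lrot5 (Lpr_ft (K35.f152581 IH) (Lpr_at (K35.f207082 IH) (Lpe (f207096 IH) (Lpn (LP (LK LD1_c12 LD2_c53 LD3_c46))))))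
theorem f207202 : Led Lsl_af (LP (LK LD1_c9 LD2_c11 LD3_c20)) = (LP (LK LD1_c6 LD2_c44 LD3_c39)) :=
  Lgr Lrot45 (Lpr_ft (K52.f152557 IH) (Lpr_at (K52.f207196 IH) (Lpr_ft (K35.f207201 IH) (Lpn (LP (LK LD1_c6 LD2_c44 LD3_c39))))))
theorem f141891 : Led Lsl_gt (LP (LK LD1_c3 LD2_c20 LD3_c26)) = (LP (LK LD1_c6 LD2_c44 LD3_c36)) :=
  Lre_g IH (LK LD1_c3 LD2_c20 LD3_c26) (LK LD1_c6 LD2_c44 LD3_c36) Lrfl Lrfl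
theorem f207215 : Led Lsl_gf (LP (LK LD1_c9 LD2_c11 LD3_c20)) = (LP (LK LD1_c6 LD2_c44 LD3_c36)) :=
  Lgr Lrot76 (Lpr_af (f207202 IH) (Lpe (K35.f207201 IH) (Lpr_gt (f141891 IH) (Lpn (LP (LK LD1_c6 LD2_c44 LD3_c36))))))
theorem f207218 : Led Lsl_ct (LP (LK LD1_c12 LD2_c53 LD3_c40)) = (LP (LK LD1_c6 LD2_c44 LD3_c36)) :=
  Lre_c IH (LK LD1_c12 LD2_c53 LD3_c40) (LK LD1_c6 LD2_c44 LD3_c36) Lrfl Lrfl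
theorem f700553 : Led Lsl_gf (LP (LK LD1_c9 LD2_c49 LD3_c6)) = (LP (LK LD1_c12 LD2_c53 LD3_c40)) :=
  Lgr Lrot144 (Lpr_dt (K52.f57044 IH) (Lpr_gt (K52.f700526 IH) (Lpr_dt (f645242 IH) (Lpr_cf (f700549 IH) (Lpe (f207217 IH) (Lpe (f207097 IH) (Lpe (K52.f152556 IH) (Lpr_gf (f207215 IH) (Lpe (f207218 IH) (Lpn (LP (LK LD1_c12 LD2_c53 LD3_c40))))))))))))
theorem f742006 : Led Lsl_ft (LP (LK LD1_c12 LD2_c53 LD3_c40)) = v15843 :=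
  Lgr Lrot2 (Lpe (f700553 IH) (Lpr_gt (K52.f700482 IH) (Lpr_af (f742005 IH) (Lpn v15843))))
theorem f742009 : Led Lsl_af (LP (LK LD1_c12 LD2_c53 LD3_c40)) = v15844 :=
  Lgr Lrot45 (Lpr_ft (f742006 IH) (Lpe (f742005 IH) (Lpr_ft (f742008 IH) (Lpn v15844))))
theorem f742014 : Led Lsl_bf (LP (LK LD1_c11 LD2_c26 LD3_c19)) = (LP (LK LD1_c12 LD2_c53 LD3_c40)) :=
  Lgr Lrot81 (Lpr_at (f640514 IH) (Lpr_bt (f57511 IH) (Lpr_at (f640512 IH) (Lpr_bt (f742013 IH) (Lpe (f742009 IH) (Lpn (LP (LK LD1_c12 LD2_c53 LD3_c40))))))))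
theorem f742015 : Led Lsl_bt (LP (LK LD1_c12 LD2_c53 LD3_c40)) = (LP (LK LD1_c11 LD2_c26 LD3_c19)) :=
  Leop (Lpr_bf (f742014 IH) (Lpn (LP (LK LD1_c12 LD2_c53 LD3_c40))))
theorem seed_947 : LEOK LG_b (LK LD1_c12 LD2_c53 LD3_c40) :=
  Leoe_b (LK LD1_c12 LD2_c53 LD3_c40) (f742015 IH)
def v14387 : LQ := Led Lsl_dt (LP (LK LD1_c5 LD2_c8 LD3_c3))
theorem f722298 : Led Lsl_dt (LP (LK LD1_c5 LD2_c8 LD3_c3)) = v14387 :=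
  Lrfl
def v14384 : LQ := Led Lsl_ft (LP (LK LD1_c5 LD2_c8 LD3_c2))
theorem f722290 : Led Lsl_ft (LP (LK LD1_c5 LD2_c8 LD3_c2)) = v14384 :=
  Lrfl
def v14381 : LQ := Led Lsl_at (LP (LK LD1_c5 LD2_c8 LD3_c2))
theorem f722274 : Led Lsl_at (LP (LK LD1_c5 LD2_c8 LD3_c2)) = v14381 :=
  Lrfl
theorem f722275 : Led Lsl_af (LP (LK LD1_c5 LD2_c8 LD3_c2)) = v14381 :=
  Lgr Lrot0 (Lpr_at (f722274 IH) (Lpn v14381))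
theorem f22298 : Led Lsl_gt (LP (LK LD1_c2 LD2_c31 LD3_c15)) = (LP (LK LD1_c5 LD2_c8 LD3_c2)) :=
  Lre_g IH (LK LD1_c2 LD2_c31 LD3_c15) (LK LD1_c5 LD2_c8 LD3_c2) Lrfl Lrfl
theorem f22311 : Led Lsl_gt (LP (LK LD1_c5 LD2_c8 LD3_c3)) = (LP (LK LD1_c2 LD2_c31 LD3_c15)) :=
  Lre_g IH (LK LD1_c5 LD2_c8 LD3_c3) (LK LD1_c2 LD2_c31 LD3_c15) Lrfl Lrfl
theorem f722278 : Led Lsl_ft (LP (LK LD1_c5 LD2_c8 LD3_c3)) = v14381 :=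
  Lgr Lrot2 (Lpr_gt (f22311 IH) (Lpr_gt (f22298 IH) (Lpr_af (f722275 IH) (Lpn v14381))))
theorem f722291 : Led Lsl_af (LP (LK LD1_c5 LD2_c8 LD3_c3)) = v14384 :=
  Lgr Lrot45 (Lpr_ft (f722278 IH) (Lpe (f722275 IH) (Lpr_ft (f722290 IH) (Lpn v14384))))
def v15841 : LQ := Led Lsl_at (LP (LK LD1_c5 LD2_c48 LD3_c29))
theorem f741998 : Led Lsl_at (LP (LK LD1_c5 LD2_c48 LD3_c29)) = v15841 :=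
  Lrfl
theorem f742000 : Led Lsl_ef v4835 = v15841 :=
  Lgr Lrot20 (Lpe (f640513 IH) (Lpr_et (K53.f151583 IH) (Lpr_at (f741998 IH) (Lpn v15841))))
theorem f742001 : Led Lsl_et v4835 = v15841 :=
  Lgr Lrot87 (Lpr_ef (f742000 IH) (Lpn v15841))
theorem f722299 : Led Lsl_df (LP (LK LD1_c5 LD2_c8 LD3_c3)) = v14387 :=
  Lgr Lrot38 (Lpr_dt (f722298 IH) (Lpn v14387))
theorem f22309 : Led Lsl_et (LP (LK LD1_c1 LD2_c22 LD3_c0)) = (LP (LK LD1_c0 LD2_c37 LD3_c57)) :=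
  Lre_e IH (LK LD1_c1 LD2_c22 LD3_c0) (LK LD1_c0 LD2_c37 LD3_c57) Lrfl Lrfl
theorem f206058 : Led Lsl_gt (LP (LK LD1_c2 LD2_c50 LD3_c6)) = (LP (LK LD1_c5 LD2_c48 LD3_c8)) :=
  Lre_g IH (LK LD1_c2 LD2_c50 LD3_c6) (LK LD1_c5 LD2_c48 LD3_c8) Lrfl Lrfl
theorem f722301 : Led Lsl_ef (LP (LK LD1_c5 LD2_c48 LD3_c8)) = v14387 :=
  Lgr Lrot17 (Lpe (f206058 IH) (Lpe (K45.f135914 IH) (Lpr_dt (K6.f135911 IH) (Lpe (K11.f161002 IH) (Lpe (K4.f112929 IH) (Lpe (K4.f22310 IH) (Lpe (f22309 IH) (Lpr_dt (K7.f22272 IH) (Lpe (f22311 IH) (Lpr_df (f722299 IH) (Lpn v14387)))))))))))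
theorem f722302 : Led Lsl_et (LP (LK LD1_c5 LD2_c48 LD3_c8)) = v14387 :=
  Lgr Lrot87 (Lpr_ef (f722301 IH) (Lpn v14387))
def v15819 : LQ := Led Lsl_ft (LP (LK LD1_c5 LD2_c48 LD3_c8))
theorem f741857 : Led Lsl_ft (LP (LK LD1_c5 LD2_c48 LD3_c8)) = v15819 :=
  Lrfl
theorem f741859 : Led Lsl_ff (LP (LK LD1_c5 LD2_c48 LD3_c8)) = v15819 :=
  Lgr Lrot3 (Lpr_ft (f741857 IH) (Lpn v15819))
def v4836 : LQ := Led Lsl_ft (LP (LK LD1_c2 LD2_c50 LD3_c18))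
theorem f640523 : Led Lsl_ft (LP (LK LD1_c2 LD2_c50 LD3_c18)) = v4836 :=
  Lrfl
theorem f640524 : Led Lsl_af (LP (LK LD1_c2 LD2_c50 LD3_c19)) = v4836 :=
  Lgr Lrot45 (Lpr_ft (f640517 IH) (Lpe (f640513 IH) (Lpr_ft (f640523 IH) (Lpn v4836))))
def v15817 : LQ := Led Lsl_at (LP (LK LD1_c5 LD2_c48 LD3_c8))
theorem f741844 : Led Lsl_at (LP (LK LD1_c5 LD2_c48 LD3_c8)) = v15817 :=
  Lrfl
theorem f741845 : Led Lsl_af (LP (LK LD1_c5 LD2_c48 LD3_c8)) = v15817 :=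
  Lgr Lrot0 (Lpr_at (f741844 IH) (Lpn v15817))
theorem f741846 : Led Lsl_ft (LP (LK LD1_c5 LD2_c48 LD3_c9)) = v15817 :=
  Lgr Lrot2 (Lpr_gt (f206043 IH) (Lpr_gt (f206058 IH) (Lpr_af (f741845 IH) (Lpn v15817))))
theorem f741849 : Led Lsl_ff (LP (LK LD1_c5 LD2_c48 LD3_c9)) = v15817 :=
  Lgr Lrot3 (Lpr_ft (f741846 IH) (Lpn v15817))
theorem f741860 : Led Lsl_at (LP (LK LD1_c5 LD2_c48 LD3_c9)) = v15819 :=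
  Lgr Lrot66 (Lpr_ff (f741849 IH) (Lpe (f741844 IH) (Lpr_ff (f741859 IH) (Lpn v15819))))
def v15834 : LQ := Led Lsl_ft (LP (LK LD1_c5 LD2_c48 LD3_c26))
theorem f741927 : Led Lsl_ft (LP (LK LD1_c5 LD2_c48 LD3_c26)) = v15834 :=
  Lrfl
theorem f640515 : Led Lsl_bt (LP (LK LD1_c2 LD2_c50 LD3_c18)) = (LP (LK LD1_c5 LD2_c48 LD3_c26)) :=
  Lre_b IH (LK LD1_c2 LD2_c50 LD3_c18) (LK LD1_c5 LD2_c48 LD3_c26) Lrfl Lrfl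
theorem f640525 : Led Lsl_ff (LP (LK LD1_c2 LD2_c50 LD3_c18)) = v4836 :=
  Lgr Lrot3 (Lpr_ft (f640523 IH) (Lpn v4836))
theorem f741928 : Led Lsl_bf v4836 = v15834 :=
  Lgr Lrot61 (Lpe (f640525 IH) (Lpr_bt (f640515 IH) (Lpr_ft (f741927 IH) (Lpn v15834))))
theorem f742016 : Led Lsl_bt (LP (LK LD1_c11 LD2_c26 LD3_c19)) = (LP (LK LD1_c12 LD2_c53 LD3_c40)) :=
  Lgr Lrot127 (Lpr_bf (f742014 IH) (Lpn (LP (LK LD1_c12 LD2_c53 LD3_c40))))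
theorem f57025 : Led Lsl_bt (LP (LK LD1_c4 LD2_c59 LD3_c29)) = (LP (LK LD1_c9 LD2_c49 LD3_c6)) :=
  Lre_b IH (LK LD1_c4 LD2_c59 LD3_c29) (LK LD1_c9 LD2_c49 LD3_c6) Lrfl Lrfl
theorem f438431 : Led Lsl_bt (LP (LK LD1_c1 LD2_c21 LD3_c14)) = (LP (LK LD1_c2 LD2_c50 LD3_c27)) :=
  Lre_b IH (LK LD1_c1 LD2_c21 LD3_c14) (LK LD1_c2 LD2_c50 LD3_c27) Lrfl Lrfl
theorem f150571 : Led Lsl_bt (LP (LK LD1_c1 LD2_c5 LD3_c5)) = (LP (LK LD1_c2 LD2_c16 LD3_c19)) :=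
  Lre_b IH (LK LD1_c1 LD2_c5 LD3_c5) (LK LD1_c2 LD2_c16 LD3_c19) Lrfl Lrfl
theorem f26852 : Led Lsl_gt (LP (LK LD1_c4 LD2_c38 LD3_c35)) = (LP (LK LD1_c2 LD2_c16 LD3_c19)) :=
  Lre_g IH (LK LD1_c4 LD2_c38 LD3_c35) (LK LD1_c2 LD2_c16 LD3_c19) Lrfl Lrfl
theorem f150572 : Led Lsl_bt (LP (LK LD1_c9 LD2_c13 LD3_c0)) = (LP (LK LD1_c4 LD2_c38 LD3_c35)) :=
  Lre_b IH (LK LD1_c9 LD2_c13 LD3_c0) (LK LD1_c4 LD2_c38 LD3_c35) Lrfl Lrfl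
theorem f150573 : Led Lsl_ct (LP (LK LD1_c9 LD2_c13 LD3_c0)) = (LP (LK LD1_c17 LD2_c7 LD3_c30)) :=
  Lre_c IH (LK LD1_c9 LD2_c13 LD3_c0) (LK LD1_c17 LD2_c7 LD3_c30) Lrfl Lrfl
theorem f669419 : Led Lsl_gt (LP (LK LD1_c9 LD2_c49 LD3_c19)) = (LP (LK LD1_c17 LD2_c7 LD3_c30)) :=
  Lgr Lrot149 (Lpe (K4.f57040 IH) (Lpqs (K51.f669416 IH) (Lpe (K51.f640529 IH) (Lpe (f438431 IH) (Lpe (K32.f438432 IH) (Lpe (K11.f26310 IH) (Lpe (K11.f150466 IH) (Lpr_bt (f150571 IH) (Lpe (f26852 IH) (Lpe (f150572 IH) (Lpr_ct (f150573 IH) (Lpn (LP (LK LD1_c17 LD2_c7 LD3_c30))))))))))))))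
theorem f150475 : Led Lsl_gt (LP (LK LD1_c4 LD2_c38 LD3_c33)) = (LP (LK LD1_c9 LD2_c12 LD3_c58)) :=
  Lre_g IH (LK LD1_c4 LD2_c38 LD3_c33) (LK LD1_c9 LD2_c12 LD3_c58) Lrfl Lrfl
theorem f742026 : Led Lsl_ct (LP (LK LD1_c11 LD2_c26 LD3_c19)) = (LP (LK LD1_c9 LD2_c12 LD3_c58)) :=
  Lgr Lrot63 (Lpr_bt (f742016 IH) (Lpe (f700553 IH) (Lpe (f57025 IH) (Lpr_ct (K4.f57040 IH) (Lpr_gt (f669419 IH) (Lpe (f150573 IH) (Lpr_bt (f150572 IH) (Lpr_gt (f26852 IH) (Lpr_ct (K52.f149736 IH) (Lpr_gt (f150475 IH) (Lpn (LP (LK LD1_c9 LD2_c12 LD3_c58)))))))))))))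
theorem f742031 : Led Lsl_cf (LP (LK LD1_c11 LD2_c26 LD3_c19)) = (LP (LK LD1_c9 LD2_c12 LD3_c58)) :=
  Lgr Lrot11 (Lpr_ct (f742026 IH) (Lpn (LP (LK LD1_c9 LD2_c12 LD3_c58))))
theorem f57512 : Led Lsl_ct (LP (LK LD1_c5 LD2_c48 LD3_c26)) = (LP (LK LD1_c11 LD2_c26 LD3_c20)) :=
  Lre_c IH (LK LD1_c5 LD2_c48 LD3_c26) (LK LD1_c11 LD2_c26 LD3_c20) Lrfl Lrfl
theorem f742034 : Led Lsl_at (LP (LK LD1_c11 LD2_c26 LD3_c20)) = (LP (LK LD1_c9 LD2_c12 LD3_c58)) :=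
  Lgr Lrot107 (Lpe (f57512 IH) (Lpe (f640514 IH) (Lpr_cf (f742031 IH) (Lpn (LP (LK LD1_c9 LD2_c12 LD3_c58))))))
theorem f742038 : Led Lsl_ff (LP (LK LD1_c11 LD2_c26 LD3_c20)) = (LP (LK LD1_c9 LD2_c12 LD3_c59)) :=
  Lgr Lrot52 (Lpr_at (f742034 IH) (Lpe (f150475 IH) (Lpe (K52.f150482 IH) (Lpn (LP (LK LD1_c9 LD2_c12 LD3_c59))))))
theorem f415446 : Led Lsl_ct (LP (LK LD1_c11 LD2_c26 LD3_c20)) = (LP (LK LD1_c5 LD2_c48 LD3_c26)) :=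
  Lre_c IH (LK LD1_c11 LD2_c26 LD3_c20) (LK LD1_c5 LD2_c48 LD3_c26) Lrfl Lrfl
theorem f742044 : v15834 = (LP (LK LD1_c11 LD2_c25 LD3_c55)) :=
  (Llr Lrot4 (Lpe (f741927 IH) (Lpe (f415446 IH) (Lpr_ff (f742038 IH) (Lpe (K52.f438798 IH) (Lpn (LP (LK LD1_c11 LD2_c25 LD3_c55)))))))).symm
theorem f742047 : v4836 = (LP (LK LD1_c5 LD2_c48 LD3_c9)) :=
  Lefun (Lecon (Lfl_bf (f741928 IH)) (f742044 IH)) (K52.f57187 IH)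
theorem f742048 : (LP (LK LD1_c2 LD2_c50 LD3_c19)) = v15819 :=
  Lefun (Lecon (Lfl_af (f640524 IH)) (f742047 IH)) (f741860 IH)
theorem f742062 : (LP (LK LD1_c5 LD2_c48 LD3_c8)) = v4835 :=
  Lefun (Lecon (Lfl_ff (f741859 IH)) (f742048 IH).symm) (f640517 IH)
theorem f742079 : v15841 = v14387 :=
  Lefun (Lecon (f742001 IH) (f742062 IH).symm) (f722302 IH)
theorem f741999 : Led Lsl_af (LP (LK LD1_c5 LD2_c48 LD3_c29)) = v15841 :=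
  Lgr Lrot0 (Lpr_at (f741998 IH) (Lpn v15841))
theorem f742080 : v14384 = (LP (LK LD1_c10 LD2_c5 LD3_c61)) :=
  (Llr Lrot117 (Lpe (f722291 IH) (Lpr_dt (f722298 IH) (Lpq (f742079 IH) (Lpe (f741999 IH) (Lpr_dt (K7.f151578 IH) (Lpn (LP (LK LD1_c10 LD2_c5 LD3_c61))))))))).symm
theorem f742081 : Led Lsl_at (LP (LK LD1_c10 LD2_c5 LD3_c61)) = (LP (LK LD1_c5 LD2_c8 LD3_c3)) :=
  Leop (Lpr_af (f722291 IH) (Lpqs (f742080 IH) (Lpn (LP (LK LD1_c10 LD2_c5 LD3_c61)))))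
theorem seed_948 : LEOK LG_a (LK LD1_c10 LD2_c5 LD3_c61) :=
  Leoe_a (LK LD1_c10 LD2_c5 LD3_c61) (f742081 IH)
theorem f741950 : Led Lsl_dt v4835 = v15838 :=
  Lgr Lrot42 (Lpr_df (f741949 IH) (Lpn v15838))
theorem f425930 : Led Lsl_dt (LP (LK LD1_c5 LD2_c48 LD3_c8)) = (LP (LK LD1_c11 LD2_c25 LD3_c54)) :=
  Lre_d IH (LK LD1_c5 LD2_c48 LD3_c8) (LK LD1_c11 LD2_c25 LD3_c54) Lrfl Lrfl
theorem f742074 : v15838 = (LP (LK LD1_c11 LD2_c25 LD3_c54)) :=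
  Lefun (Lecon (f741950 IH) (f742062 IH).symm) (f425930 IH)
theorem f741955 : Led Lsl_ff (LP (LK LD1_c5 LD2_c48 LD3_c32)) = v15838 :=
  Lgr Lrot3 (Lpr_ft (f741951 IH) (Lpn v15838))
theorem f741963 : Led Lsl_ff (LP (LK LD1_c5 LD2_c48 LD3_c28)) = v15839 :=
  Lgr Lrot3 (Lpr_ft (f741960 IH) (Lpn v15839))
theorem f741975 : Led Lsl_at (LP (LK LD1_c5 LD2_c48 LD3_c32)) = v15839 :=
  Lgr Lrot66 (Lpr_ff (f741955 IH) (Lpe (f741946 IH) (Lpr_ff (f741963 IH) (Lpn v15839))))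
theorem f711790 : Led Lsl_df (LP (LK LD1_c12 LD2_c25 LD3_c7)) = (LP (LK LD1_c11 LD2_c29 LD3_c55)) :=
  Lgr Lrot38 (Lpr_dt (K53.f711788 IH) (Lpn (LP (LK LD1_c11 LD2_c29 LD3_c55))))
theorem f112941 : Led Lsl_et (LP (LK LD1_c11 LD2_c29 LD3_c55)) = (LP (LK LD1_c5 LD2_c51 LD3_c12)) :=
  Lre_e IH (LK LD1_c11 LD2_c29 LD3_c55) (LK LD1_c5 LD2_c51 LD3_c12) Lrfl Lrfl
theorem f711792 : Led Lsl_gf (LP (LK LD1_c12 LD2_c25 LD3_c7)) = (LP (LK LD1_c11 LD2_c25 LD3_c54)) :=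
  Lgr Lrot134 (Lpr_df (f711790 IH) (Lpr_et (f112941 IH) (Lpr_gt (K52.f24129 IH) (Lpe (K51.f112931 IH) (Lpr_dt (K4.f112929 IH) (Lpr_gt (K11.f161002 IH) (Lpe (K6.f135911 IH) (Lpr_et (K45.f135914 IH) (Lpr_gt (f206058 IH) (Lpr_dt (f425930 IH) (Lpn (LP (LK LD1_c11 LD2_c25 LD3_c54)))))))))))))
theorem f742104 : Led Lsl_gf v15839 = (LP (LK LD1_c12 LD2_c25 LD3_c7)) :=
  Lgr Lrot76 (Lpe (f741975 IH) (Lpr_ff (f741955 IH) (Lpqs (f742074 IH) (Lpe (f711792 IH) (Lpn (LP (LK LD1_c12 LD2_c25 LD3_c7)))))))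
theorem f151584 : Led Lsl_dt (LP (LK LD1_c5 LD2_c48 LD3_c28)) = (LP (LK LD1_c2 LD2_c50 LD3_c18)) :=
  Lre_d IH (LK LD1_c5 LD2_c48 LD3_c28) (LK LD1_c2 LD2_c50 LD3_c18) Lrfl Lrfl
theorem f741976 : Led Lsl_dt v4836 = v15839 :=
  Lgr Lrot60 (Lpe (f640523 IH) (Lpe (f151584 IH) (Lpr_ff (f741963 IH) (Lpn v15839))))
theorem f57199 : Led Lsl_dt (LP (LK LD1_c5 LD2_c48 LD3_c9)) = (LP (LK LD1_c11 LD2_c25 LD3_c56)) :=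
  Lre_d IH (LK LD1_c5 LD2_c48 LD3_c9) (LK LD1_c11 LD2_c25 LD3_c56) Lrfl Lrfl
theorem f742052 : v15839 = (LP (LK LD1_c11 LD2_c25 LD3_c56)) :=
  Lefun (Lecon (f741976 IH) (f742047 IH)) (f57199 IH)
def v15821 : LQ := Led Lsl_et (LP (LK LD1_c5 LD2_c48 LD3_c9))
theorem f741866 : Led Lsl_et (LP (LK LD1_c5 LD2_c48 LD3_c9)) = v15821 :=
  Lrfl
theorem f454527 : Led Lsl_ff (LP (LK LD1_c4 LD2_c49 LD3_c55)) = (LP (LK LD1_c3 LD2_c21 LD3_c56)) :=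
  Lgr Lrot30 (Lpr_at (K51.f454244 IH) (Lpr_ft (K24.f454525 IH) (Lpr_at (K24.f416223 IH) (Lpn (LP (LK LD1_c3 LD2_c21 LD3_c56))))))
theorem f414535 : Led Lsl_gt (LP (LK LD1_c3 LD2_c21 LD3_c56)) = (LP (LK LD1_c6 LD2_c47 LD3_c32)) :=
  Lre_g IH (LK LD1_c3 LD2_c21 LD3_c56) (LK LD1_c6 LD2_c47 LD3_c32) Lrfl Lrfl
theorem f454674 : Led Lsl_gf (LP (LK LD1_c9 LD2_c32 LD3_c27)) = (LP (LK LD1_c6 LD2_c47 LD3_c32)) :=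
  Lgr Lrot76 (Lpe (K51.f454244 IH) (Lpr_ff (f454527 IH) (Lpr_gt (f414535 IH) (Lpn (LP (LK LD1_c6 LD2_c47 LD3_c32))))))
theorem f742107 : v15821 = (LP (LK LD1_c6 LD2_c47 LD3_c32)) :=
  (Llr Lrot121 (Lpe (f741866 IH) (Lpr_dt (f57199 IH) (Lpq (f742052 IH) (Lpr_gf (f742104 IH) (Lpr_df (f711790 IH) (Lpr_et (f112941 IH) (Lpr_gf (K52.f132465 IH) (Lpe (f157904 IH) (Lpr_dt (K51.f589224 IH) (Lpr_gf (K53.f710057 IH) (Lpe (K51.f643236 IH) (Lpr_gf (f454674 IH) (Lpn (LP (LK LD1_c6 LD2_c47 LD3_c32)))))))))))))))).symm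
def v14383 : LQ := Led Lsl_dt (LP (LK LD1_c5 LD2_c8 LD3_c2))
theorem f722285 : Led Lsl_dt (LP (LK LD1_c5 LD2_c8 LD3_c2)) = v14383 :=
  Lrfl
theorem f722286 : Led Lsl_df (LP (LK LD1_c5 LD2_c8 LD3_c2)) = v14383 :=
  Lgr Lrot38 (Lpr_dt (f722285 IH) (Lpn v14383))
def v15842 : LQ := Led Lsl_ft (LP (LK LD1_c5 LD2_c48 LD3_c29))
theorem f742002 : Led Lsl_ft (LP (LK LD1_c5 LD2_c48 LD3_c29)) = v15842 :=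
  Lrfl
theorem f742085 : v14383 = v15842 :=
  (Llr Lrot78 (Lpe (f722286 IH) (Lpr_ft (f722290 IH) (Lpqs (f742080 IH) (Lpe (K53.f151581 IH) (Lpr_ft (f742002 IH) (Lpn v15842))))))).symm
theorem f741868 : Led Lsl_ef (LP (LK LD1_c5 LD2_c48 LD3_c9)) = v15821 :=
  Lgr Lrot88 (Lpr_et (f741866 IH) (Lpn v15821))
theorem f416227 : Led Lsl_at (LP (LK LD1_c3 LD2_c21 LD3_c56)) = (LP (LK LD1_c6 LD2_c47 LD3_c34)) :=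
  Lre_a IH (LK LD1_c3 LD2_c21 LD3_c56) (LK LD1_c6 LD2_c47 LD3_c34) Lrfl Lrfl
theorem f454521 : Led Lsl_ft (LP (LK LD1_c4 LD2_c49 LD3_c55)) = (LP (LK LD1_c3 LD2_c21 LD3_c56)) :=
  Lgr Lrot101 (Lpe (K24.f454239 IH) (Lpr_ff (K24.f454519 IH) (Lpe (f416227 IH) (Lpn (LP (LK LD1_c3 LD2_c21 LD3_c56))))))
theorem f416555 : Led Lsl_gt (LP (LK LD1_c4 LD2_c49 LD3_c55)) = (LP (LK LD1_c9 LD2_c32 LD3_c26)) :=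
  Lre_g IH (LK LD1_c4 LD2_c49 LD3_c55) (LK LD1_c9 LD2_c32 LD3_c26) Lrfl Lrfl
theorem f454681 : Led Lsl_gt (LP (LK LD1_c9 LD2_c32 LD3_c26)) = (LP (LK LD1_c6 LD2_c47 LD3_c34)) :=
  Lgr Lrot46 (Lpe (f416555 IH) (Lpr_ft (f454521 IH) (Lpr_at (f416227 IH) (Lpn (LP (LK LD1_c6 LD2_c47 LD3_c34))))))
theorem f722288 : Led Lsl_ef (LP (LK LD1_c9 LD2_c32 LD3_c26)) = v14383 :=
  Lgr Lrot114 (Lpr_gt (f454681 IH) (Lpe (K24.f416219 IH) (Lpr_dt (K51.f705834 IH) (Lpe (K51.f705841 IH) (Lpe (K51.f710234 IH) (Lpr_et (K51.f22313 IH) (Lpr_gt (K51.f22296 IH) (Lpr_dt (K7.f22272 IH) (Lpr_gt (f22298 IH) (Lpr_df (f722286 IH) (Lpn v14383)))))))))))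
theorem f742086 : Led Lsl_ff v15821 = (LP (LK LD1_c9 LD2_c32 LD3_c26)) :=
  Lgr Lrot72 (Lpe (f741868 IH) (Lpq (f742047 IH) (Lpe (f640525 IH) (Lpr_et (K53.f151583 IH) (Lpr_ft (f742002 IH) (Lpq (f742085 IH) (Lpe (f722288 IH) (Lpn (LP (LK LD1_c9 LD2_c32 LD3_c26))))))))))
theorem f742087 : Led Lsl_ft v15821 = (LP (LK LD1_c9 LD2_c32 LD3_c26)) :=
  Lgr Lrot48 (Lpr_ff (f742086 IH) (Lpn (LP (LK LD1_c9 LD2_c32 LD3_c26))))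
theorem f416238 : Led Lsl_gt (LP (LK LD1_c6 LD2_c47 LD3_c33)) = (LP (LK LD1_c3 LD2_c21 LD3_c56)) :=
  Lre_g IH (LK LD1_c6 LD2_c47 LD3_c33) (LK LD1_c3 LD2_c21 LD3_c56) Lrfl Lrfl
theorem f454531 : Led Lsl_gt (LP (LK LD1_c9 LD2_c32 LD3_c27)) = (LP (LK LD1_c6 LD2_c47 LD3_c33)) :=
  Lgr Lrot5 (Lpr_ft (K24.f454525 IH) (Lpr_at (K24.f416223 IH) (Lpe (f416238 IH) (Lpn (LP (LK LD1_c6 LD2_c47 LD3_c33))))))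
theorem f742118 : Led Lsl_at (LP (LK LD1_c9 LD2_c32 LD3_c26)) = (LP (LK LD1_c6 LD2_c47 LD3_c33)) :=
  Lgr Lrot26 (Lpe (f742087 IH) (Lpqs (f742107 IH) (Lpe (f454674 IH) (Lpr_gt (f454531 IH) (Lpn (LP (LK LD1_c6 LD2_c47 LD3_c33)))))))
theorem f440850 : Led Lsl_et (LP (LK LD1_c11 LD2_c25 LD3_c43)) = (LP (LK LD1_c5 LD2_c48 LD3_c2)) :=
  Lre_e IH (LK LD1_c11 LD2_c25 LD3_c43) (LK LD1_c5 LD2_c48 LD3_c2) Lrfl Lrfl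
def v13910 : LQ := Led Lsl_gf (LP (LK LD1_c4 LD2_c49 LD3_c55))
theorem f705849 : Led Lsl_gf (LP (LK LD1_c4 LD2_c49 LD3_c55)) = v13910 :=
  Lrfl
theorem f640522 : Led Lsl_et (LP (LK LD1_c2 LD2_c50 LD3_c19)) = (LP (LK LD1_c5 LD2_c48 LD3_c33)) :=
  Lre_e IH (LK LD1_c2 LD2_c50 LD3_c19) (LK LD1_c5 LD2_c48 LD3_c33) Lrfl Lrfl
theorem f741968 : v13910 = (LP (LK LD1_c5 LD2_c48 LD3_c33)) :=
  (Llr Lrot138 (Lpe (f705849 IH) (Lpr_dt (f454607 IH) (Lpe (K51.f710314 IH) (Lpr_df (K51.f589532 IH) (Lpe (K51.f117832 IH) (Lpe (K52.f440847 IH) (Lpe (f440850 IH) (Lpr_dt (K53.f440851 IH) (Lpr_gt (f741964 IH) (Lpe (f437255 IH) (Lpr_et (f640522 IH) (Lpn (LP (LK LD1_c5 LD2_c48 LD3_c33))))))))))))))).symm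
theorem f705850 : Led Lsl_gt (LP (LK LD1_c6 LD2_c47 LD3_c34)) = v13910 :=
  Lgr Lrot5 (Lpe (K24.f454519 IH) (Lpr_at (K24.f454239 IH) (Lpr_gf (f705849 IH) (Lpn v13910))))
theorem f742088 : Led Lsl_at v15821 = v13910 :=
  Lgr Lrot26 (Lpr_ff (f742086 IH) (Lpr_gt (f454681 IH) (Lpr_gt (f705850 IH) (Lpn v13910))))
theorem f742089 : Led Lsl_af v15821 = (LP (LK LD1_c5 LD2_c48 LD3_c33)) :=
  Lgr Lrot0 (Lpr_at (f742088 IH) (Lpqs (f741968 IH) (Lpn (LP (LK LD1_c5 LD2_c48 LD3_c33)))))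
theorem f742125 : Led Lsl_ff (LP (LK LD1_c5 LD2_c48 LD3_c33)) = (LP (LK LD1_c6 LD2_c47 LD3_c33)) :=
  Lgr Lrot30 (Lpe (f742089 IH) (Lpr_ft (f742087 IH) (Lpr_at (f742118 IH) (Lpn (LP (LK LD1_c6 LD2_c47 LD3_c33))))))
theorem f742133 : Led Lsl_ft (LP (LK LD1_c5 LD2_c48 LD3_c33)) = (LP (LK LD1_c6 LD2_c47 LD3_c33)) :=
  Lgr Lrot48 (Lpr_ff (f742125 IH) (Lpn (LP (LK LD1_c6 LD2_c47 LD3_c33))))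
theorem f454535 : Led Lsl_ct (LP (LK LD1_c6 LD2_c47 LD3_c33)) = (LP (LK LD1_c12 LD2_c58 LD3_c4)) :=
  Lre_c IH (LK LD1_c6 LD2_c47 LD3_c33) (LK LD1_c12 LD2_c58 LD3_c4) Lrfl Lrfl
theorem f742137 : Led Lsl_ff (LP (LK LD1_c11 LD2_c26 LD3_c33)) = (LP (LK LD1_c12 LD2_c58 LD3_c4)) :=
  Lgr Lrot23 (Lpr_ct (K52.f66325 IH) (Lpr_ft (f742133 IH) (Lpr_ct (f454535 IH) (Lpn (LP (LK LD1_c12 LD2_c58 LD3_c4))))))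
theorem f454536 : Led Lsl_dt (LP (LK LD1_c22 LD2_c7 LD3_c60)) = (LP (LK LD1_c12 LD2_c58 LD3_c4)) :=
  Lre_d IH (LK LD1_c22 LD2_c7 LD3_c60) (LK LD1_c12 LD2_c58 LD3_c4) Lrfl Lrfl
theorem f742149 : Led Lsl_ft (LP (LK LD1_c20 LD2_c24 LD3_c21)) = (LP (LK LD1_c22 LD2_c7 LD3_c60)) :=
  Lgr Lrot54 (Lpe (K52.f66342 IH) (Lpr_ff (f742137 IH) (Lpe (f454536 IH) (Lpn (LP (LK LD1_c22 LD2_c7 LD3_c60))))))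
def v5087 : LQ := Led Lsl_bt (LP (LK LD1_c2 LD2_c57 LD3_c30))
theorem f645884 : Led Lsl_bt (LP (LK LD1_c2 LD2_c57 LD3_c30)) = v5087 :=
  Lrfl
theorem f645885 : Led Lsl_bf (LP (LK LD1_c2 LD2_c57 LD3_c30)) = v5087 :=
  Lgr Lrot24 (Lpr_bt (f645884 IH) (Lpn v5087))
theorem f739336 : Led Lsl_ef v5087 = K54.v13860 :=
  Lgr Lrot29 (Lpe (f645885 IH) (Lpq (K54.f739236 IH) (Lpqs (K54.f739140 IH) (Lpe (K54.f705577 IH) (Lpr_bt (K54.f705571 IH) (Lpn K54.v13860))))))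
theorem f739806 : Led Lsl_ft v5087 = (LP (LK LD1_c5 LD2_c51 LD3_c2)) :=
  Lgr Lrot86 (Lpr_ef (f739336 IH) (Lpqs (K54.f739121 IH) (Lpe (K54.f739114 IH) (Lpe (K8.f72409 IH) (Lpr_ff (K6.f136320 IH) (Lpe (K54.f136325 IH) (Lpn (LP (LK LD1_c5 LD2_c51 LD3_c2)))))))))
theorem f208490 : Led Lsl_ft (LP (LK LD1_c5 LD2_c58 LD3_c36)) = (LP (LK LD1_c11 LD2_c41 LD3_c38)) :=
  Lre_f IH (LK LD1_c5 LD2_c58 LD3_c36) (LK LD1_c11 LD2_c41 LD3_c38) Lrfl Lrfl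
theorem f739807 : Led Lsl_af v5087 = (LP (LK LD1_c11 LD2_c41 LD3_c38)) :=
  Lgr Lrot45 (Lpr_ft (f739806 IH) (Lpr_at (K53.f208493 IH) (Lpr_ft (f208490 IH) (Lpn (LP (LK LD1_c11 LD2_c41 LD3_c38))))))
theorem f208482 : Led Lsl_gt (LP (LK LD1_c5 LD2_c58 LD3_c36)) = (LP (LK LD1_c11 LD2_c41 LD3_c37)) :=
  Lre_g IH (LK LD1_c5 LD2_c58 LD3_c36) (LK LD1_c11 LD2_c41 LD3_c37) Lrfl Lrfl
theorem f739810 : Led Lsl_gf v5087 = (LP (LK LD1_c11 LD2_c41 LD3_c37)) :=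
  Lgr Lrot76 (Lpr_af (f739807 IH) (Lpe (f208490 IH) (Lpr_gt (f208482 IH) (Lpn (LP (LK LD1_c11 LD2_c41 LD3_c37))))))
theorem f140716 : Led Lsl_ct (LP (LK LD1_c2 LD2_c57 LD3_c30)) = (LP (LK LD1_c6 LD2_c2 LD3_c50)) :=
  Lre_c IH (LK LD1_c2 LD2_c57 LD3_c30) (LK LD1_c6 LD2_c2 LD3_c50) Lrfl Lrfl
theorem f140718 : Led Lsl_ct (LP (LK LD1_c4 LD2_c59 LD3_c58)) = (LP (LK LD1_c9 LD2_c50 LD3_c27)) :=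
  Lre_c IH (LK LD1_c4 LD2_c59 LD3_c58) (LK LD1_c9 LD2_c50 LD3_c27) Lrfl Lrfl
theorem f140719 : Led Lsl_gt (LP (LK LD1_c6 LD2_c2 LD3_c50)) = (LP (LK LD1_c9 LD2_c50 LD3_c27)) :=
  Lgr Lrot149 (Lpe (f140716 IH) (Lpe (K54.f140715 IH) (Lpe (K54.f140251 IH) (Lpr_ct (K9.f140230 IH) (Lpr_gf (K24.f140234 IH) (Lpe (K2.f58908 IH) (Lpr_bt (K31.f40952 IH) (Lpe (K53.f77425 IH) (Lpe (K53.f140717 IH) (Lpr_ct (f140718 IH) (Lpn (LP (LK LD1_c9 LD2_c50 LD3_c27)))))))))))))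
theorem f77569 : Led Lsl_gt (LP (LK LD1_c2 LD2_c27 LD3_c42)) = (LP (LK LD1_c4 LD2_c59 LD3_c49)) :=
  Lre_g IH (LK LD1_c2 LD2_c27 LD3_c42) (LK LD1_c4 LD2_c59 LD3_c49) Lrfl Lrfl
def v14131 : LQ := Led Lsl_ct (LP (LK LD1_c4 LD2_c59 LD3_c49))
theorem f719302 : Led Lsl_ct (LP (LK LD1_c4 LD2_c59 LD3_c49)) = v14131 :=
  Lrfl
theorem f719303 : Led Lsl_cf (LP (LK LD1_c4 LD2_c59 LD3_c49)) = v14131 :=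
  Lgr Lrot11 (Lpr_ct (f719302 IH) (Lpn v14131))
theorem f739811 : Led Lsl_bt v14131 = (LP (LK LD1_c11 LD2_c41 LD3_c37)) :=
  Lgr Lrot22 (Lpe (f719303 IH) (Lpe (f77569 IH) (Lpe (K32.f77400 IH) (Lpe (K53.f77425 IH) (Lpe (K53.f140717 IH) (Lpr_ct (f140718 IH) (Lpe (f140719 IH) (Lpe (f140716 IH) (Lpr_bt (f645884 IH) (Lpr_gf (f739810 IH) (Lpn (LP (LK LD1_c11 LD2_c41 LD3_c37)))))))))))))
theorem f414388 : Led Lsl_gt (LP (LK LD1_c4 LD2_c59 LD3_c49)) = (LP (LK LD1_c9 LD2_c48 LD3_c60)) :=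
  Lre_g IH (LK LD1_c4 LD2_c59 LD3_c49) (LK LD1_c9 LD2_c48 LD3_c60) Lrfl Lrfl
theorem f414040 : Led Lsl_gt (LP (LK LD1_c8 LD2_c0 LD3_c24)) = (LP (LK LD1_c3 LD2_c59 LD3_c51)) :=
  Lre_g IH (LK LD1_c8 LD2_c0 LD3_c24) (LK LD1_c3 LD2_c59 LD3_c51) Lrfl Lrfl
theorem f444686 : Led Lsl_ct (LP (LK LD1_c3 LD2_c59 LD3_c51)) = (LP (LK LD1_c8 LD2_c0 LD3_c49)) :=
  Lre_c IH (LK LD1_c3 LD2_c59 LD3_c51) (LK LD1_c8 LD2_c0 LD3_c49) Lrfl Lrfl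
theorem f150025 : Led Lsl_et (LP (LK LD1_c15 LD2_c5 LD3_c7)) = (LP (LK LD1_c8 LD2_c0 LD3_c27)) :=
  Lre_e IH (LK LD1_c15 LD2_c5 LD3_c7) (LK LD1_c8 LD2_c0 LD3_c27) Lrfl Lrfl
theorem f208427 : Led Lsl_ct (LP (LK LD1_c9 LD2_c9 LD3_c23)) = (LP (LK LD1_c15 LD2_c5 LD3_c7)) :=
  Lgr Lrot15 (Lpe (K43.f208426 IH) (Lpr_cf (K32.f208416 IH) (Lpe (f150025 IH) (Lpn (LP (LK LD1_c15 LD2_c5 LD3_c7))))))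
theorem f739819 : Led Lsl_gt (LP (LK LD1_c8 LD2_c0 LD3_c49)) = (LP (LK LD1_c15 LD2_c5 LD3_c7)) :=
  Lgr Lrot149 (Lpe (f444686 IH) (Lpe (f414040 IH) (Lpr_bf (K32.f40248 IH) (Lpr_ct (K32.f415083 IH) (Lpe (f414388 IH) (Lpr_cf (f719303 IH) (Lpr_bt (f739811 IH) (Lpe (f208482 IH) (Lpe (K43.f208480 IH) (Lpr_ct (f208427 IH) (Lpn (LP (LK LD1_c15 LD2_c5 LD3_c7)))))))))))))
theorem f715117 : Led Lsl_ft (LP (LK LD1_c5 LD2_c53 LD3_c43)) = (LP (LK LD1_c9 LD2_c12 LD3_c12)) :=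
  Lgr Lrot48 (Lpr_ff (K53.f715113 IH) (Lpn (LP (LK LD1_c9 LD2_c12 LD3_c12))))
theorem f720665 : Led Lsl_ff (LP (LK LD1_c11 LD2_c33 LD3_c23)) = (LP (LK LD1_c15 LD2_c5 LD3_c23)) :=
  Lgr Lrot23 (Lpr_ct (K54.f156773 IH) (Lpr_ft (f715117 IH) (Lpqs (K53.f720640 IH) (Lpe (K53.f700995 IH) (Lpn (LP (LK LD1_c15 LD2_c5 LD3_c23)))))))
theorem f739821 : Led Lsl_gf (LP (LK LD1_c8 LD2_c0 LD3_c49)) = (LP (LK LD1_c15 LD2_c5 LD3_c23)) :=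
  Lgr Lrot47 (Lpr_gt (f739819 IH) (Lpe (K43.f156771 IH) (Lpr_ff (f720665 IH) (Lpn (LP (LK LD1_c15 LD2_c5 LD3_c23))))))
theorem f689247 : Led Lsl_bt (LP (LK LD1_c3 LD2_c59 LD3_c51)) = (LP (LK LD1_c8 LD2_c0 LD3_c48)) :=
  Lre_b IH (LK LD1_c3 LD2_c59 LD3_c51) (LK LD1_c8 LD2_c0 LD3_c48) Lrfl Lrfl
theorem f715119 : Led Lsl_bf K53.v4943 = (LP (LK LD1_c9 LD2_c12 LD3_c12)) :=
  Lgr Lrot61 (Lpe (K53.f640995 IH) (Lpr_bt (K54.f149114 IH) (Lpr_ft (f715117 IH) (Lpn (LP (LK LD1_c9 LD2_c12 LD3_c12))))))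
theorem f645974 : Led Lsl_gf (LP (LK LD1_c9 LD2_c13 LD3_c46)) = K52.v5109 :=
  Lgr Lrot76 (Lpe (K52.f140943 IH) (Lpe (K52.f645531 IH) (Lpr_gt (K52.f645973 IH) (Lpn K52.v5109))))
theorem f739825 : Led Lsl_gt (LP (LK LD1_c8 LD2_c0 LD3_c48)) = (LP (LK LD1_c11 LD2_c37 LD3_c12)) :=
  Lgr Lrot82 (Lpe (f689247 IH) (Lpr_ct (f444686 IH) (Lpr_gf (f739821 IH) (Lpr_cf (K53.f700995 IH) (Lpq (K53.f720640 IH) (Lpe (f715119 IH) (Lpqs (K53.f720637 IH) (Lpr_gf (K53.f645786 IH) (Lpe (K53.f645459 IH) (Lpr_ct (K52.f645467 IH) (Lpr_gf (f645974 IH) (Lpq (K52.f710560 IH) (Lpr_cf (K51.f82014 IH) (Lpn (LP (LK LD1_c11 LD2_c37 LD3_c12))))))))))))))))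
theorem f739827 : Led Lsl_gf (LP (LK LD1_c8 LD2_c0 LD3_c48)) = (LP (LK LD1_c11 LD2_c50 LD3_c6)) :=
  Lgr Lrot47 (Lpr_gt (f739825 IH) (Lpr_af (K51.f425804 IH) (Lpe (K52.f711610 IH) (Lpn (LP (LK LD1_c11 LD2_c50 LD3_c6))))))
theorem f415588 : Led Lsl_gt (LP (LK LD1_c11 LD2_c46 LD3_c14)) = (LP (LK LD1_c11 LD2_c50 LD3_c6)) :=
  Lre_g IH (LK LD1_c11 LD2_c46 LD3_c14) (LK LD1_c11 LD2_c50 LD3_c6) Lrfl Lrfl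
theorem f415589 : Led Lsl_bf (LP (LK LD1_c11 LD2_c50 LD3_c6)) = (LP (LK LD1_c8 LD2_c0 LD3_c51)) :=
  Lgr Lrot34 (Lpe (f415588 IH) (Lpe (K52.f415587 IH) (Lpr_ct (K41.f414691 IH) (Lpe (K41.f74962 IH) (Lpe (K9.f140228 IH) (Lpe (K41.f383330 IH) (Lpe (K52.f415571 IH) (Lpr_ct (K52.f415572 IH) (Lpe (K52.f415573 IH) (Lpr_cf (K52.f415574 IH) (Lpn (LP (LK LD1_c8 LD2_c0 LD3_c51)))))))))))))
theorem f739843 : Led Lsl_ct (LP (LK LD1_c11 LD2_c41 LD3_c37)) = (LP (LK LD1_c11 LD2_c26 LD3_c3)) :=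
  Lgr Lrot91 (Lpe (f208482 IH) (Lpe (K43.f208480 IH) (Lpr_ct (f208427 IH) (Lpe (f739819 IH) (Lpe (f444686 IH) (Lpr_bt (f689247 IH) (Lpr_gf (f739827 IH) (Lpr_bf (f415589 IH) (Lpe (K52.f415574 IH) (Lpe (K53.f713842 IH) (Lpn (LP (LK LD1_c11 LD2_c26 LD3_c3)))))))))))))
theorem f739845 : Led Lsl_af (LP (LK LD1_c11 LD2_c41 LD3_c37)) = (LP (LK LD1_c5 LD2_c59 LD3_c27)) :=
  Lgr Lrot68 (Lpr_ct (f739843 IH) (Lpr_at (K53.f719857 IH) (Lpr_ct (K53.f714669 IH) (Lpn (LP (LK LD1_c5 LD2_c59 LD3_c27))))))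
def v5060 : LQ := Led Lsl_gt (LP (LK LD1_c2 LD2_c56 LD3_c50))
theorem f645127 : Led Lsl_gt (LP (LK LD1_c2 LD2_c56 LD3_c50)) = v5060 :=
  Lrfl
theorem f739851 : (LP (LK LD1_c5 LD2_c58 LD3_c36)) = v5060 :=
  (Llr Lrot76 (Lpr_gt (f208482 IH) (Lpr_af (f739845 IH) (Lpq (K53.f719896 IH) (Lpe (K53.f645134 IH) (Lpr_gt (f645127 IH) (Lpn v5060))))))).symm
theorem f641558 : Led Lsl_gt (LP (LK LD1_c6 LD2_c1 LD3_c16)) = (LP (LK LD1_c2 LD2_c56 LD3_c50)) :=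
  Lre_g IH (LK LD1_c6 LD2_c1 LD3_c16) (LK LD1_c2 LD2_c56 LD3_c50) Lrfl Lrfl
theorem f739861 : v5087 = (LP (LK LD1_c6 LD2_c1 LD3_c16)) :=
  (Llr Lrot52 (Lpr_ft (f739806 IH) (Lpr_at (K53.f208493 IH) (Lpqs (f739851 IH) (Lpe (f645127 IH) (Lpe (f641558 IH) (Lpn (LP (LK LD1_c6 LD2_c1 LD3_c16))))))))).symm
theorem f739808 : Led Lsl_ff v5087 = (LP (LK LD1_c5 LD2_c51 LD3_c2)) :=
  Lgr Lrot3 (Lpr_ft (f739806 IH) (Lpn (LP (LK LD1_c5 LD2_c51 LD3_c2))))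
theorem f140530 : Led Lsl_bt (LP (LK LD1_c9 LD2_c3 LD3_c37)) = (LP (LK LD1_c5 LD2_c44 LD3_c9)) :=
  Lre_b IH (LK LD1_c9 LD2_c3 LD3_c37) (LK LD1_c5 LD2_c44 LD3_c9) Lrfl Lrfl
theorem f416005 : Led Lsl_ct (LP (LK LD1_c5 LD2_c44 LD3_c56)) = (LP (LK LD1_c11 LD2_c20 LD3_c10)) :=
  Lre_c IH (LK LD1_c5 LD2_c44 LD3_c56) (LK LD1_c11 LD2_c20 LD3_c10) Lrfl Lrfl
theorem f711683 : Led Lsl_gt (LP (LK LD1_c11 LD2_c20 LD3_c10)) = (LP (LK LD1_c11 LD2_c7 LD3_c43)) :=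
  Lgr Lrot65 (Lpe (f416005 IH) (Lpr_bt (K54.f416004 IH) (Lpe (K5.f75882 IH) (Lpe (f140530 IH) (Lpr_ct (K45.f140514 IH) (Lpe (K54.f644469 IH) (Lpe (K54.f640437 IH) (Lpr_gf (K54.f711672 IH) (Lpe (K52.f423132 IH) (Lpr_ct (K51.f423127 IH) (Lpn (LP (LK LD1_c11 LD2_c7 LD3_c43)))))))))))))
theorem f711685 : Led Lsl_gt (LP (LK LD1_c11 LD2_c20 LD3_c8)) = (LP (LK LD1_c5 LD2_c44 LD3_c56)) :=
  Lre_g IH (LK LD1_c11 LD2_c20 LD3_c8) (LK LD1_c5 LD2_c44 LD3_c56) Lrfl Lrfl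
theorem f423133 : Led Lsl_ct (LP (LK LD1_c11 LD2_c7 LD3_c43)) = (LP (LK LD1_c5 LD2_c38 LD3_c13)) :=
  Lre_c IH (LK LD1_c11 LD2_c7 LD3_c43) (LK LD1_c5 LD2_c38 LD3_c13) Lrfl Lrfl
theorem f711689 : Led Lsl_df (LP (LK LD1_c11 LD2_c20 LD3_c8)) = (LP (LK LD1_c6 LD2_c1 LD3_c16)) :=
  Lgr Lrot155 (Lpr_gt (f711685 IH) (Lpr_ct (f416005 IH) (Lpr_gt (f711683 IH) (Lpr_ct (f423133 IH) (Lpe (K52.f612927 IH) (Lpe (K53.f56823 IH) (Lpe (K54.f711661 IH) (Lpe (K52.f415572 IH) (Lpe (f641558 IH) (Lpn (LP (LK LD1_c6 LD2_c1 LD3_c16))))))))))))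
theorem f739871 : Led Lsl_ff (LP (LK LD1_c11 LD2_c11 LD3_c19)) = (LP (LK LD1_c11 LD2_c20 LD3_c8)) :=
  Lgr Lrot19 (Lpe (K53.f614354 IH) (Lpe (f739808 IH) (Lpqs (f739861 IH) (Lpe (f711689 IH) (Lpn (LP (LK LD1_c11 LD2_c20 LD3_c8)))))))
theorem f739881 : Led Lsl_gf (LP (LK LD1_c11 LD2_c17 LD3_c17)) = (LP (LK LD1_c5 LD2_c44 LD3_c56)) :=
  Lgr Lrot76 (Lpr_af (K38.f423322 IH) (Lpr_ff (f739871 IH) (Lpr_gt (f711685 IH) (Lpn (LP (LK LD1_c5 LD2_c44 LD3_c56))))))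
theorem f112333 : Led Lsl_gt (LP (LK LD1_c6 LD2_c15 LD3_c35)) = (LP (LK LD1_c12 LD2_c9 LD3_c1)) :=
  Lre_g IH (LK LD1_c6 LD2_c15 LD3_c35) (LK LD1_c12 LD2_c9 LD3_c1) Lrfl Lrfl
theorem f711696 : Led Lsl_dt (LP (LK LD1_c11 LD2_c20 LD3_c11)) = (LP (LK LD1_c5 LD2_c44 LD3_c56)) :=
  Lre_d IH (LK LD1_c11 LD2_c20 LD3_c11) (LK LD1_c5 LD2_c44 LD3_c56) Lrfl Lrfl
theorem f739885 : Led Lsl_ef (LP (LK LD1_c12 LD2_c9 LD3_c1)) = (LP (LK LD1_c11 LD2_c20 LD3_c11)) :=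
  Lgr Lrot17 (Lpe (f112333 IH) (Lpe (K5.f112328 IH) (Lpr_dt (K8.f112187 IH) (Lpe (K40.f425868 IH) (Lpr_df (K36.f501860 IH) (Lpe (K36.f501882 IH) (Lpe (K43.f160998 IH) (Lpr_dt (K53.f614352 IH) (Lpr_gf (f739881 IH) (Lpe (f711696 IH) (Lpn (LP (LK LD1_c11 LD2_c20 LD3_c11)))))))))))))
theorem f739893 : Led Lsl_et (LP (LK LD1_c12 LD2_c9 LD3_c1)) = (LP (LK LD1_c11 LD2_c20 LD3_c11)) :=
  Lgr Lrot87 (Lpr_ef (f739885 IH) (Lpn (LP (LK LD1_c11 LD2_c20 LD3_c11))))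
theorem f715354 : Led Lsl_ct (LP (LK LD1_c9 LD2_c16 LD3_c4)) = (LP (LK LD1_c9 LD2_c21 LD3_c58)) :=
  Lgr Lrot59 (Lpr_cf (K52.f708490 IH) (Lpn (LP (LK LD1_c9 LD2_c21 LD3_c58))))
theorem f128718 : Led Lsl_gt (LP (LK LD1_c14 LD2_c25 LD3_c58)) = (LP (LK LD1_c24 LD2_c5 LD3_c57)) :=
  Lre_g IH (LK LD1_c14 LD2_c25 LD3_c58) (LK LD1_c24 LD2_c5 LD3_c57) Lrfl Lrfl
theorem f715365 : Led Lsl_bt (LP (LK LD1_c17 LD2_c12 LD3_c10)) = (LP (LK LD1_c24 LD2_c5 LD3_c57)) :=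
  Lgr Lrot92 (Lpr_ct (K53.f75903 IH) (Lpr_gt (K5.f75887 IH) (Lpe (K53.f141107 IH) (Lpr_bt (K53.f58598 IH) (Lpr_gt (K53.f103223 IH) (Lpr_ct (f715354 IH) (Lpr_gt (K52.f103248 IH) (Lpr_cf (K28.f103237 IH) (Lpe (K28.f128711 IH) (Lpr_gt (f128718 IH) (Lpn (LP (LK LD1_c24 LD2_c5 LD3_c57)))))))))))))
theorem f76023 : Led Lsl_bt (LP (LK LD1_c20 LD2_c17 LD3_c34)) = (LP (LK LD1_c11 LD2_c20 LD3_c16)) :=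
  Lre_b IH (LK LD1_c20 LD2_c17 LD3_c34) (LK LD1_c11 LD2_c20 LD3_c16) Lrfl Lrfl
theorem f715369 : Led Lsl_ef (LP (LK LD1_c20 LD2_c17 LD3_c34)) = (LP (LK LD1_c24 LD2_c5 LD3_c57)) :=
  Lgr Lrot29 (Lpr_bt (f76023 IH) (Lpr_et (K53.f76019 IH) (Lpr_bt (f715365 IH) (Lpn (LP (LK LD1_c24 LD2_c5 LD3_c57))))))
theorem f715373 : Led Lsl_et (LP (LK LD1_c20 LD2_c17 LD3_c34)) = (LP (LK LD1_c24 LD2_c5 LD3_c57)) :=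
  Lgr Lrot87 (Lpr_ef (f715369 IH) (Lpn (LP (LK LD1_c24 LD2_c5 LD3_c57))))
theorem f158087 : Led Lsl_ct (LP (LK LD1_c11 LD2_c30 LD3_c2)) = (LP (LK LD1_c5 LD2_c51 LD3_c19)) :=
  Lre_c IH (LK LD1_c11 LD2_c30 LD3_c2) (LK LD1_c5 LD2_c51 LD3_c19) Lrfl Lrfl
theorem f158089 : Led Lsl_gt (LP (LK LD1_c7 LD2_c42 LD3_c10)) = (LP (LK LD1_c11 LD2_c30 LD3_c2)) :=
  Lgr Lrot46 (Lpe (K52.f66191 IH) (Lpr_ft (K6.f66311 IH) (Lpr_at (K8.f158076 IH) (Lpn (LP (LK LD1_c11 LD2_c30 LD3_c2))))))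
theorem f66260 : Led Lsl_bt (LP (LK LD1_c14 LD2_c30 LD3_c61)) = (LP (LK LD1_c7 LD2_c42 LD3_c10)) :=
  Lre_b IH (LK LD1_c14 LD2_c30 LD3_c61) (LK LD1_c7 LD2_c42 LD3_c10) Lrfl Lrfl
theorem f139936 : Led Lsl_ct (LP (LK LD1_c6 LD2_c12 LD3_c36)) = (LP (LK LD1_c3 LD2_c2 LD3_c60)) :=
  Lre_c IH (LK LD1_c6 LD2_c12 LD3_c36) (LK LD1_c3 LD2_c2 LD3_c60) Lrfl Lrfl
theorem f504136 : Led Lsl_bt (LP (LK LD1_c6 LD2_c12 LD3_c36)) = (LP (LK LD1_c3 LD2_c2 LD3_c58)) :=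
  Lre_b IH (LK LD1_c6 LD2_c12 LD3_c36) (LK LD1_c3 LD2_c2 LD3_c58) Lrfl Lrfl
theorem f713702 : Led Lsl_ct (LP (LK LD1_c14 LD2_c30 LD3_c61)) = (LP (LK LD1_c24 LD2_c5 LD3_c57)) :=
  Lgr Lrot10 (Lpr_bt (f66260 IH) (Lpr_gt (f158089 IH) (Lpr_ct (f158087 IH) (Lpr_gt (K52.f640493 IH) (Lpqs (K52.f710385 IH) (Lpe (f139936 IH) (Lpr_bt (f504136 IH) (Lpr_gt (K51.f646893 IH) (Lpqs (K51.f708381 IH) (Lpe (K28.f128716 IH) (Lpr_ct (K51.f128726 IH) (Lpr_gt (f128718 IH) (Lpn (LP (LK LD1_c24 LD2_c5 LD3_c57)))))))))))))))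
theorem f713705 : Led Lsl_cf (LP (LK LD1_c14 LD2_c30 LD3_c61)) = (LP (LK LD1_c24 LD2_c5 LD3_c57)) :=
  Lgr Lrot11 (Lpr_ct (f713702 IH) (Lpn (LP (LK LD1_c24 LD2_c5 LD3_c57))))
theorem f713710 : Led Lsl_et (LP (LK LD1_c14 LD2_c30 LD3_c61)) = (LP (LK LD1_c24 LD2_c12 LD3_c32)) :=
  Lre_e IH (LK LD1_c14 LD2_c30 LD3_c61) (LK LD1_c24 LD2_c12 LD3_c32) Lrfl Lrfl
theorem f715375 : Led Lsl_cf (LP (LK LD1_c20 LD2_c17 LD3_c34)) = (LP (LK LD1_c24 LD2_c12 LD3_c32)) :=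
  Lgr Lrot39 (Lpr_et (f715373 IH) (Lpe (f713705 IH) (Lpr_et (f713710 IH) (Lpn (LP (LK LD1_c24 LD2_c12 LD3_c32))))))
theorem f75873 : Led Lsl_ct (LP (LK LD1_c11 LD2_c20 LD3_c16)) = (LP (LK LD1_c5 LD2_c44 LD3_c58)) :=
  Lre_c IH (LK LD1_c11 LD2_c20 LD3_c16) (LK LD1_c5 LD2_c44 LD3_c58) Lrfl Lrfl
theorem f76017 : Led Lsl_bt (LP (LK LD1_c5 LD2_c44 LD3_c58)) = (LP (LK LD1_c11 LD2_c20 LD3_c11)) :=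
  Lre_b IH (LK LD1_c5 LD2_c44 LD3_c58) (LK LD1_c11 LD2_c20 LD3_c11) Lrfl Lrfl
theorem f715377 : Led Lsl_bt (LP (LK LD1_c14 LD2_c31 LD3_c1)) = (LP (LK LD1_c24 LD2_c12 LD3_c32)) :=
  Lre_b IH (LK LD1_c14 LD2_c31 LD3_c1) (LK LD1_c24 LD2_c12 LD3_c32) Lrfl Lrfl
theorem f715378 : Led Lsl_ct (LP (LK LD1_c11 LD2_c20 LD3_c11)) = (LP (LK LD1_c14 LD2_c31 LD3_c1)) :=
  Lgr Lrot83 (Lpe (f76017 IH) (Lpe (f75873 IH) (Lpe (f76023 IH) (Lpr_cf (f715375 IH) (Lpe (f715377 IH) (Lpn (LP (LK LD1_c14 LD2_c31 LD3_c1))))))))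
theorem f66382 : Led Lsl_et (LP (LK LD1_c14 LD2_c31 LD3_c1)) = (LP (LK LD1_c7 LD2_c42 LD3_c10)) :=
  Lre_e IH (LK LD1_c14 LD2_c31 LD3_c1) (LK LD1_c7 LD2_c42 LD3_c10) Lrfl Lrfl
theorem f739899 : Led Lsl_cf (LP (LK LD1_c12 LD2_c9 LD3_c1)) = (LP (LK LD1_c7 LD2_c42 LD3_c10)) :=
  Lgr Lrot39 (Lpr_et (f739893 IH) (Lpr_ct (f715378 IH) (Lpr_et (f66382 IH) (Lpn (LP (LK LD1_c7 LD2_c42 LD3_c10))))))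
theorem f715381 : Led Lsl_at (LP (LK LD1_c20 LD2_c17 LD3_c20)) = (LP (LK LD1_c11 LD2_c20 LD3_c11)) :=
  Lre_a IH (LK LD1_c20 LD2_c17 LD3_c20) (LK LD1_c11 LD2_c20 LD3_c11) Lrfl Lrfl
theorem f739887 : Led Lsl_at (LP (LK LD1_c12 LD2_c9 LD3_c1)) = (LP (LK LD1_c11 LD2_c25 LD3_c19)) :=
  Lgr Lrot80 (Lpr_ef (f739885 IH) (Lpe (f715381 IH) (Lpr_ef (K54.f738942 IH) (Lpn (LP (LK LD1_c11 LD2_c25 LD3_c19))))))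
theorem f739901 : Led Lsl_at (LP (LK LD1_c11 LD2_c29 LD3_c61)) = (LP (LK LD1_c7 LD2_c42 LD3_c10)) :=
  Lgr Lrot107 (Lpr_cf (K54.f714949 IH) (Lpe (f739887 IH) (Lpr_cf (f739899 IH) (Lpn (LP (LK LD1_c7 LD2_c42 LD3_c10))))))
theorem f739909 : Led Lsl_ff (LP (LK LD1_c11 LD2_c29 LD3_c61)) = (LP (LK LD1_c7 LD2_c42 LD3_c11)) :=
  Lgr Lrot52 (Lpr_at (f739901 IH) (Lpe (K52.f66191 IH) (Lpe (K54.f66259 IH) (Lpn (LP (LK LD1_c7 LD2_c42 LD3_c11))))))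
theorem f739915 : Led Lsl_ft (LP (LK LD1_c11 LD2_c29 LD3_c61)) = (LP (LK LD1_c7 LD2_c42 LD3_c11)) :=
  Lgr Lrot48 (Lpr_ff (f739909 IH) (Lpn (LP (LK LD1_c7 LD2_c42 LD3_c11))))
theorem f739921 : Led Lsl_af (LP (LK LD1_c11 LD2_c30 LD3_c0)) = (LP (LK LD1_c7 LD2_c42 LD3_c11)) :=
  Lgr Lrot31 (Lpe (K53.f158108 IH) (Lpr_gf (K54.f158100 IH) (Lpr_ft (f739915 IH) (Lpn (LP (LK LD1_c7 LD2_c42 LD3_c11))))))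
theorem f739903 : Led Lsl_af (LP (LK LD1_c11 LD2_c29 LD3_c61)) = (LP (LK LD1_c7 LD2_c42 LD3_c10)) :=
  Lgr Lrot0 (Lpr_at (f739901 IH) (Lpn (LP (LK LD1_c7 LD2_c42 LD3_c10))))
theorem f739931 : Led Lsl_ft (LP (LK LD1_c11 LD2_c30 LD3_c0)) = (LP (LK LD1_c7 LD2_c42 LD3_c10)) :=
  Lgr Lrot101 (Lpr_af (f739921 IH) (Lpe (f739915 IH) (Lpr_af (f739903 IH) (Lpn (LP (LK LD1_c7 LD2_c42 LD3_c10))))))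
theorem f158113 : Led Lsl_dt (LP (LK LD1_c20 LD2_c27 LD3_c11)) = (LP (LK LD1_c11 LD2_c30 LD3_c0)) :=
  Lre_d IH (LK LD1_c20 LD2_c27 LD3_c11) (LK LD1_c11 LD2_c30 LD3_c0) Lrfl Lrfl
theorem f739937 : Led Lsl_ff (LP (LK LD1_c20 LD2_c27 LD3_c11)) = (LP (LK LD1_c14 LD2_c31 LD3_c0)) :=
  Lgr Lrot19 (Lpr_dt (f158113 IH) (Lpr_ft (f739931 IH) (Lpr_dt (K52.f66192 IH) (Lpn (LP (LK LD1_c14 LD2_c31 LD3_c0))))))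
theorem f158111 : Led Lsl_dt (LP (LK LD1_c11 LD2_c30 LD3_c0)) = (LP (LK LD1_c20 LD2_c27 LD3_c11)) :=
  Lre_d IH (LK LD1_c11 LD2_c30 LD3_c0) (LK LD1_c20 LD2_c27 LD3_c11) Lrfl Lrfl
theorem f66399 : Led Lsl_dt (LP (LK LD1_c14 LD2_c31 LD3_c2)) = (LP (LK LD1_c7 LD2_c42 LD3_c11)) :=
  Lre_d IH (LK LD1_c14 LD2_c31 LD3_c2) (LK LD1_c7 LD2_c42 LD3_c11) Lrfl Lrfl
theorem f739927 : Led Lsl_at (LP (LK LD1_c20 LD2_c27 LD3_c11)) = (LP (LK LD1_c14 LD2_c31 LD3_c2)) :=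
  Lgr Lrot51 (Lpe (f158111 IH) (Lpr_af (f739921 IH) (Lpe (f66399 IH) (Lpn (LP (LK LD1_c14 LD2_c31 LD3_c2))))))
theorem f740437 : Led Lsl_gf (LP (LK LD1_c14 LD2_c31 LD3_c2)) = (LP (LK LD1_c20 LD2_c24 LD3_c21)) :=
  Lgr Lrot76 (Lpe (f739927 IH) (Lpr_ff (f739937 IH) (Lpr_gt (K52.f66327 IH) (Lpn (LP (LK LD1_c20 LD2_c24 LD3_c21))))))
theorem f158102 : Led Lsl_dt (LP (LK LD1_c20 LD2_c27 LD3_c8)) = (LP (LK LD1_c11 LD2_c29 LD3_c61)) :=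
  Lre_d IH (LK LD1_c20 LD2_c27 LD3_c8) (LK LD1_c11 LD2_c29 LD3_c61) Lrfl Lrfl
theorem f66398 : Led Lsl_dt (LP (LK LD1_c7 LD2_c42 LD3_c11)) = (LP (LK LD1_c14 LD2_c31 LD3_c2)) :=
  Lre_d IH (LK LD1_c7 LD2_c42 LD3_c11) (LK LD1_c14 LD2_c31 LD3_c2) Lrfl Lrfl
theorem f739919 : Led Lsl_ff (LP (LK LD1_c20 LD2_c27 LD3_c8)) = (LP (LK LD1_c14 LD2_c31 LD3_c2)) :=
  Lgr Lrot19 (Lpr_dt (f158102 IH) (Lpr_ft (f739915 IH) (Lpr_dt (f66398 IH) (Lpn (LP (LK LD1_c14 LD2_c31 LD3_c2))))))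
theorem f740435 : Led Lsl_at (LP (LK LD1_c20 LD2_c27 LD3_c8)) = (LP (LK LD1_c14 LD2_c31 LD3_c0)) :=
  Lgr Lrot66 (Lpr_ff (f739919 IH) (Lpe (f739927 IH) (Lpr_ff (f739937 IH) (Lpn (LP (LK LD1_c14 LD2_c31 LD3_c0))))))
theorem f66333 : Led Lsl_gt (LP (LK LD1_c24 LD2_c12 LD3_c33)) = (LP (LK LD1_c14 LD2_c31 LD3_c0)) :=
  Lre_g IH (LK LD1_c24 LD2_c12 LD3_c33) (LK LD1_c14 LD2_c31 LD3_c0) Lrfl Lrfl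
theorem f740448 : Led Lsl_gt (LP (LK LD1_c14 LD2_c31 LD3_c2)) = (LP (LK LD1_c24 LD2_c12 LD3_c33)) :=
  Lgr Lrot5 (Lpe (f739919 IH) (Lpr_at (f740435 IH) (Lpe (f66333 IH) (Lpn (LP (LK LD1_c24 LD2_c12 LD3_c33))))))
theorem f742153 : Led Lsl_af (LP (LK LD1_c24 LD2_c12 LD3_c33)) = (LP (LK LD1_c22 LD2_c7 LD3_c60)) :=
  Lgr Lrot31 (Lpe (f740448 IH) (Lpr_gf (f740437 IH) (Lpr_ft (f742149 IH) (Lpn (LP (LK LD1_c22 LD2_c7 LD3_c60))))))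
theorem f742155 : Led Lsl_at (LP (LK LD1_c24 LD2_c12 LD3_c33)) = (LP (LK LD1_c22 LD2_c7 LD3_c60)) :=
  Lgr Lrot100 (Lpr_af (f742153 IH) (Lpn (LP (LK LD1_c22 LD2_c7 LD3_c60))))
theorem f454683 : Led Lsl_ct (LP (LK LD1_c17 LD2_c34 LD3_c44)) = (LP (LK LD1_c9 LD2_c32 LD3_c26)) :=
  Lre_c IH (LK LD1_c17 LD2_c34 LD3_c44) (LK LD1_c9 LD2_c32 LD3_c26) Lrfl Lrfl
theorem f742123 : Led Lsl_af (LP (LK LD1_c17 LD2_c34 LD3_c44)) = (LP (LK LD1_c12 LD2_c58 LD3_c4)) :=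
  Lgr Lrot68 (Lpr_ct (f454683 IH) (Lpr_at (f742118 IH) (Lpr_ct (f454535 IH) (Lpn (LP (LK LD1_c12 LD2_c58 LD3_c4))))))
theorem f742157 : Led Lsl_df (LP (LK LD1_c24 LD2_c12 LD3_c33)) = (LP (LK LD1_c17 LD2_c34 LD3_c44)) :=
  Lgr Lrot18 (Lpr_at (f742155 IH) (Lpr_dt (f454536 IH) (Lpe (f742123 IH) (Lpn (LP (LK LD1_c17 LD2_c34 LD3_c44))))))
theorem f414536 : Led Lsl_ct (LP (LK LD1_c6 LD2_c47 LD3_c32)) = (LP (LK LD1_c12 LD2_c58 LD3_c1)) :=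
  Lre_c IH (LK LD1_c6 LD2_c47 LD3_c32) (LK LD1_c12 LD2_c58 LD3_c1) Lrfl Lrfl
theorem f742114 : Led Lsl_ff (LP (LK LD1_c17 LD2_c34 LD3_c44)) = (LP (LK LD1_c12 LD2_c58 LD3_c1)) :=
  Lgr Lrot23 (Lpr_ct (f454683 IH) (Lpe (f742086 IH) (Lpqs (f742107 IH) (Lpr_ct (f414536 IH) (Lpn (LP (LK LD1_c12 LD2_c58 LD3_c1)))))))
theorem f414592 : Led Lsl_dt (LP (LK LD1_c22 LD2_c7 LD3_c57)) = (LP (LK LD1_c12 LD2_c58 LD3_c1)) :=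
  Lre_d IH (LK LD1_c22 LD2_c7 LD3_c57) (LK LD1_c12 LD2_c58 LD3_c1) Lrfl Lrfl
theorem f742161 : Led Lsl_ft (LP (LK LD1_c24 LD2_c12 LD3_c33)) = (LP (LK LD1_c22 LD2_c7 LD3_c57)) :=
  Lgr Lrot54 (Lpr_df (f742157 IH) (Lpr_ff (f742114 IH) (Lpe (f414592 IH) (Lpn (LP (LK LD1_c22 LD2_c7 LD3_c57))))))
theorem f742165 : Led Lsl_ff (LP (LK LD1_c24 LD2_c12 LD3_c33)) = (LP (LK LD1_c22 LD2_c7 LD3_c57)) :=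
  Lgr Lrot3 (Lpr_ft (f742161 IH) (Lpn (LP (LK LD1_c22 LD2_c7 LD3_c57))))
theorem f742151 : Led Lsl_ff (LP (LK LD1_c20 LD2_c24 LD3_c21)) = (LP (LK LD1_c22 LD2_c7 LD3_c60)) :=
  Lgr Lrot3 (Lpr_ft (f742149 IH) (Lpn (LP (LK LD1_c22 LD2_c7 LD3_c60))))
theorem f742167 : Led Lsl_at (LP (LK LD1_c20 LD2_c24 LD3_c21)) = (LP (LK LD1_c22 LD2_c7 LD3_c57)) :=
  Lgr Lrot66 (Lpr_ff (f742151 IH) (Lpe (f742155 IH) (Lpr_ff (f742165 IH) (Lpn (LP (LK LD1_c22 LD2_c7 LD3_c57))))))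
theorem f742169 : Led Lsl_af (LP (LK LD1_c11 LD2_c26 LD3_c33)) = (LP (LK LD1_c12 LD2_c58 LD3_c1)) :=
  Lgr Lrot117 (Lpr_dt (K52.f66342 IH) (Lpr_at (f742167 IH) (Lpr_dt (f414592 IH) (Lpn (LP (LK LD1_c12 LD2_c58 LD3_c1))))))
def v15837 : LQ := Led Lsl_ft (LP (LK LD1_c5 LD2_c48 LD3_c27))
theorem f741940 : Led Lsl_ft (LP (LK LD1_c5 LD2_c48 LD3_c27)) = v15837 :=
  Lrfl
theorem f741943 : Led Lsl_ff (LP (LK LD1_c5 LD2_c48 LD3_c27)) = v15837 :=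
  Lgr Lrot3 (Lpr_ft (f741940 IH) (Lpn v15837))
def v15835 : LQ := Led Lsl_at (LP (LK LD1_c5 LD2_c48 LD3_c27))
theorem f741931 : Led Lsl_at (LP (LK LD1_c5 LD2_c48 LD3_c27)) = v15835 :=
  Lrfl
theorem f741933 : Led Lsl_cf v4835 = v15835 :=
  Lgr Lrot1 (Lpe (f640513 IH) (Lpr_ct (K48.f57513 IH) (Lpr_at (f741931 IH) (Lpn v15835))))
theorem f741935 : Led Lsl_ft (LP (LK LD1_c5 LD2_c48 LD3_c31)) = v15835 :=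
  Lgr Lrot4 (Lpe (K52.f66351 IH) (Lpr_ff (f640521 IH) (Lpr_cf (f741933 IH) (Lpn v15835))))
theorem f741936 : Led Lsl_ff (LP (LK LD1_c5 LD2_c48 LD3_c31)) = v15835 :=
  Lgr Lrot3 (Lpr_ft (f741935 IH) (Lpn v15835))
theorem f741944 : Led Lsl_at (LP (LK LD1_c5 LD2_c48 LD3_c31)) = v15837 :=
  Lgr Lrot66 (Lpr_ff (f741936 IH) (Lpe (f741931 IH) (Lpr_ff (f741943 IH) (Lpn v15837))))
theorem f742173 : Led Lsl_et v15837 = (LP (LK LD1_c12 LD2_c58 LD3_c1)) :=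
  Lgr Lrot123 (Lpe (f741944 IH) (Lpe (K52.f66343 IH) (Lpr_af (f742169 IH) (Lpn (LP (LK LD1_c12 LD2_c58 LD3_c1))))))
theorem f742177 : Led Lsl_ef v15837 = (LP (LK LD1_c12 LD2_c58 LD3_c1)) :=
  Lgr Lrot88 (Lpr_et (f742173 IH) (Lpn (LP (LK LD1_c12 LD2_c58 LD3_c1))))
theorem f57527 : Led Lsl_ct (LP (LK LD1_c5 LD2_c48 LD3_c27)) = (LP (LK LD1_c2 LD2_c50 LD3_c18)) :=
  Lre_c IH (LK LD1_c5 LD2_c48 LD3_c27) (LK LD1_c2 LD2_c50 LD3_c18) Lrfl Lrfl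
theorem f741945 : Led Lsl_ct v4836 = v15837 :=
  Lgr Lrot40 (Lpe (f640523 IH) (Lpe (f57527 IH) (Lpr_ff (f741943 IH) (Lpn v15837))))
def v15820 : LQ := Led Lsl_ct (LP (LK LD1_c5 LD2_c48 LD3_c9))
theorem f741861 : Led Lsl_ct (LP (LK LD1_c5 LD2_c48 LD3_c9)) = v15820 :=
  Lrfl
theorem f742051 : v15837 = v15820 :=
  Lefun (Lecon (f741945 IH) (f742047 IH)) (f741861 IH)
theorem f741864 : Led Lsl_gf (LP (LK LD1_c9 LD2_c30 LD3_c11)) = v15820 :=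
  Lgr Lrot104 (Lpr_ct (K41.f502640 IH) (Lpe (K40.f136284 IH) (Lpe (K40.f136301 IH) (Lpr_gf (K50.f700801 IH) (Lpe (K50.f146502 IH) (Lpe (K50.f146460 IH) (Lpe (K48.f146459 IH) (Lpr_gt (K52.f57186 IH) (Lpr_ct (f741861 IH) (Lpn v15820))))))))))
theorem f157985 : Led Lsl_et (LP (LK LD1_c2 LD2_c51 LD3_c54)) = (LP (LK LD1_c5 LD2_c51 LD3_c17)) :=
  Lre_e IH (LK LD1_c2 LD2_c51 LD3_c54) (LK LD1_c5 LD2_c51 LD3_c17) Lrfl Lrfl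
theorem f157990 : Led Lsl_dt (LP (LK LD1_c11 LD2_c29 LD3_c61)) = (LP (LK LD1_c20 LD2_c27 LD3_c8)) :=
  Lre_d IH (LK LD1_c11 LD2_c29 LD3_c61) (LK LD1_c20 LD2_c27 LD3_c8) Lrfl Lrfl
theorem f414590 : Led Lsl_dt (LP (LK LD1_c12 LD2_c58 LD3_c1)) = (LP (LK LD1_c22 LD2_c7 LD3_c57)) :=
  Lre_d IH (LK LD1_c12 LD2_c58 LD3_c1) (LK LD1_c22 LD2_c7 LD3_c57) Lrfl Lrfl
theorem f742178 : Led Lsl_gt (LP (LK LD1_c20 LD2_c27 LD3_c8)) = (LP (LK LD1_c22 LD2_c7 LD3_c57)) :=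
  Lgr Lrot139 (Lpe (f157990 IH) (Lpe (K54.f157988 IH) (Lpe (f157985 IH) (Lpe (K8.f157966 IH) (Lpr_gf (K6.f136537 IH) (Lpe (K6.f109401 IH) (Lpr_et (K8.f109403 IH) (Lpr_gf (f741864 IH) (Lpq (f742051 IH) (Lpr_ef (f742177 IH) (Lpr_dt (f414590 IH) (Lpn (LP (LK LD1_c22 LD2_c7 LD3_c57))))))))))))))
theorem f739913 : Led Lsl_ft (LP (LK LD1_c20 LD2_c27 LD3_c8)) = (LP (LK LD1_c14 LD2_c31 LD3_c2)) :=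
  Lgr Lrot54 (Lpe (f157990 IH) (Lpr_ff (f739909 IH) (Lpe (f66399 IH) (Lpn (LP (LK LD1_c14 LD2_c31 LD3_c2))))))
theorem f739939 : Led Lsl_ff (LP (LK LD1_c11 LD2_c30 LD3_c0)) = (LP (LK LD1_c7 LD2_c42 LD3_c10)) :=
  Lgr Lrot3 (Lpr_ft (f739931 IH) (Lpn (LP (LK LD1_c7 LD2_c42 LD3_c10))))
theorem f66336 : Led Lsl_dt (LP (LK LD1_c14 LD2_c31 LD3_c0)) = (LP (LK LD1_c7 LD2_c42 LD3_c10)) :=
  Lre_d IH (LK LD1_c14 LD2_c31 LD3_c0) (LK LD1_c7 LD2_c42 LD3_c10) Lrfl Lrfl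
theorem f739945 : Led Lsl_ft (LP (LK LD1_c20 LD2_c27 LD3_c11)) = (LP (LK LD1_c14 LD2_c31 LD3_c0)) :=
  Lgr Lrot54 (Lpe (f158111 IH) (Lpr_ff (f739939 IH) (Lpe (f66336 IH) (Lpn (LP (LK LD1_c14 LD2_c31 LD3_c0))))))
theorem f739905 : Led Lsl_af (LP (LK LD1_c20 LD2_c27 LD3_c8)) = (LP (LK LD1_c14 LD2_c31 LD3_c0)) :=
  Lgr Lrot117 (Lpr_dt (f158102 IH) (Lpr_at (f739901 IH) (Lpr_dt (K52.f66192 IH) (Lpn (LP (LK LD1_c14 LD2_c31 LD3_c0))))))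
theorem f739947 : Led Lsl_af (LP (LK LD1_c20 LD2_c27 LD3_c11)) = (LP (LK LD1_c14 LD2_c31 LD3_c2)) :=
  Lgr Lrot45 (Lpr_ft (f739945 IH) (Lpe (f739905 IH) (Lpr_ft (f739913 IH) (Lpn (LP (LK LD1_c14 LD2_c31 LD3_c2))))))
theorem f742182 : Led Lsl_gf (LP (LK LD1_c20 LD2_c27 LD3_c11)) = (LP (LK LD1_c22 LD2_c7 LD3_c57)) :=
  Lgr Lrot76 (Lpr_af (f739947 IH) (Lpe (f739913 IH) (Lpr_gt (f742178 IH) (Lpn (LP (LK LD1_c22 LD2_c7 LD3_c57))))))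
theorem f742201 : Led Lsl_gt (LP (LK LD1_c20 LD2_c27 LD3_c11)) = (LP (LK LD1_c22 LD2_c7 LD3_c60)) :=
  Lgr Lrot46 (Lpr_gf (f742182 IH) (Lpe (f742165 IH) (Lpr_at (f742155 IH) (Lpn (LP (LK LD1_c22 LD2_c7 LD3_c60))))))
theorem f428755 : Led Lsl_dt (LP (LK LD1_c5 LD2_c51 LD3_c18)) = (LP (LK LD1_c11 LD2_c30 LD3_c4)) :=
  Lre_d IH (LK LD1_c5 LD2_c51 LD3_c18) (LK LD1_c11 LD2_c30 LD3_c4) Lrfl Lrfl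
theorem f454539 : Led Lsl_dt (LP (LK LD1_c12 LD2_c58 LD3_c5)) = (LP (LK LD1_c6 LD2_c47 LD3_c33)) :=
  Lre_d IH (LK LD1_c12 LD2_c58 LD3_c5) (LK LD1_c6 LD2_c47 LD3_c33) Lrfl Lrfl
theorem f742203 : Led Lsl_gt (LP (LK LD1_c11 LD2_c30 LD3_c4)) = (LP (LK LD1_c12 LD2_c58 LD3_c5)) :=
  Lgr Lrot49 (Lpe (f428755 IH) (Lpe (K52.f428753 IH) (Lpe (K6.f66305 IH) (Lpr_gt (K53.f158108 IH) (Lpr_dt (f158111 IH) (Lpr_gt (f742201 IH) (Lpr_dt (f454536 IH) (Lpe (f454535 IH) (Lpe (f454539 IH) (Lpn (LP (LK LD1_c12 LD2_c58 LD3_c5))))))))))))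
theorem f701576 : Led Lsl_ff K51.v5287 = K51.v13187 :=
  Lgr Lrot30 (Lpe (K51.f646907 IH) (Lpr_ft (K50.f504097 IH) (Lpr_at (K51.f701573 IH) (Lpn K51.v13187))))
theorem f701578 : Led Lsl_ft K51.v5287 = K51.v13187 :=
  Lgr Lrot48 (Lpr_ff (f701576 IH) (Lpn K51.v13187))
theorem f710353 : K51.v5287 = (LP (LK LD1_c5 LD2_c51 LD3_c18)) :=
  Lefun (Lecon (Lfl_gf (K51.f701571 IH)) (K51.f710352 IH)) (K52.f428753 IH)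
theorem f710400 : Led Lsl_ff (LP (LK LD1_c11 LD2_c30 LD3_c4)) = (LP (LK LD1_c11 LD2_c25 LD3_c22)) :=
  Lgr Lrot19 (Lpr_dt (K52.f428759 IH) (Lpq (f710353 IH) (Lpr_ft (f701578 IH) (Lpqs (K52.f710390 IH) (Lpr_dt (K52.f66322 IH) (Lpn (LP (LK LD1_c11 LD2_c25 LD3_c22))))))))
theorem f710402 : Led Lsl_ft (LP (LK LD1_c11 LD2_c30 LD3_c4)) = (LP (LK LD1_c11 LD2_c25 LD3_c22)) :=
  Lgr Lrot48 (Lpr_ff (f710400 IH) (Lpn (LP (LK LD1_c11 LD2_c25 LD3_c22))))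
theorem f615496 : Led Lsl_gt (LP (LK LD1_c11 LD2_c30 LD3_c23)) = (LP (LK LD1_c5 LD2_c51 LD3_c28)) :=
  Lre_g IH (LK LD1_c11 LD2_c30 LD3_c23) (LK LD1_c5 LD2_c51 LD3_c28) Lrfl Lrfl
theorem f454670 : Led Lsl_dt (LP (LK LD1_c12 LD2_c30 LD3_c11)) = (LP (LK LD1_c7 LD2_c59 LD3_c47)) :=
  Lgr Lrot79 (Lpe (K52.f454669 IH) (Lpr_df (K35.f454667 IH) (Lpe (K51.f40925 IH) (Lpn (LP (LK LD1_c7 LD2_c59 LD3_c47))))))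
theorem f710430 : Led Lsl_ef (LP (LK LD1_c11 LD2_c30 LD3_c23)) = (LP (LK LD1_c12 LD2_c30 LD3_c11)) :=
  Lgr Lrot167 (Lpr_gt (f615496 IH) (Lpr_dt (K50.f615494 IH) (Lpr_gt (K50.f92151 IH) (Lpe (K50.f615491 IH) (Lpr_et (K45.f135912 IH) (Lpr_gt (K6.f135918 IH) (Lpe (K6.f135927 IH) (Lpr_dt (K52.f612931 IH) (Lpr_gt (K52.f710424 IH) (Lpe (f454670 IH) (Lpn (LP (LK LD1_c12 LD2_c30 LD3_c11)))))))))))))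
theorem f416157 : Led Lsl_bt (LP (LK LD1_c4 LD2_c41 LD3_c6)) = (LP (LK LD1_c9 LD2_c17 LD3_c38)) :=
  Lre_b IH (LK LD1_c4 LD2_c41 LD3_c6) (LK LD1_c9 LD2_c17 LD3_c38) Lrfl Lrfl
theorem f503801 : Led Lsl_ff (LP (LK LD1_c12 LD2_c30 LD3_c11)) = (LP (LK LD1_c9 LD2_c17 LD3_c38)) :=
  Lgr Lrot25 (Lpr_bt (K52.f454664 IH) (Lpr_ft (K41.f503795 IH) (Lpr_bt (f416157 IH) (Lpn (LP (LK LD1_c9 LD2_c17 LD3_c38))))))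
theorem f504103 : Led Lsl_et (LP (LK LD1_c6 LD2_c12 LD3_c41)) = (LP (LK LD1_c3 LD2_c2 LD3_c60)) :=
  Lre_e IH (LK LD1_c6 LD2_c12 LD3_c41) (LK LD1_c3 LD2_c2 LD3_c60) Lrfl Lrfl
theorem f710438 : Led Lsl_ft (LP (LK LD1_c11 LD2_c30 LD3_c23)) = (LP (LK LD1_c6 LD2_c12 LD3_c41)) :=
  Lgr Lrot86 (Lpr_ef (f710430 IH) (Lpr_ff (f503801 IH) (Lpe (K51.f416327 IH) (Lpe (K50.f504097 IH) (Lpe (f504103 IH) (Lpn (LP (LK LD1_c6 LD2_c12 LD3_c41))))))))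
theorem f139918 : Led Lsl_bt (LP (LK LD1_c6 LD2_c12 LD3_c41)) = (LP (LK LD1_c3 LD2_c3 LD3_c0)) :=
  Lre_b IH (LK LD1_c6 LD2_c12 LD3_c41) (LK LD1_c3 LD2_c3 LD3_c0) Lrfl Lrfl
theorem f710440 : Led Lsl_bf (LP (LK LD1_c11 LD2_c30 LD3_c23)) = (LP (LK LD1_c5 LD2_c51 LD3_c56)) :=
  Lgr Lrot61 (Lpr_ft (f710438 IH) (Lpr_bt (f139918 IH) (Lpe (K41.f535808 IH) (Lpn (LP (LK LD1_c5 LD2_c51 LD3_c56))))))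
theorem f157945 : Led Lsl_et (LP (LK LD1_c11 LD2_c30 LD3_c5)) = (LP (LK LD1_c5 LD2_c51 LD3_c18)) :=
  Lre_e IH (LK LD1_c11 LD2_c30 LD3_c5) (LK LD1_c5 LD2_c51 LD3_c18) Lrfl Lrfl
theorem f710434 : Led Lsl_dt (LP (LK LD1_c11 LD2_c30 LD3_c23)) = (LP (LK LD1_c11 LD2_c30 LD3_c5)) :=
  Lgr Lrot77 (Lpr_ef (f710430 IH) (Lpr_df (K52.f454665 IH) (Lpe (K52.f710428 IH) (Lpe (f428755 IH) (Lpe (f157945 IH) (Lpn (LP (LK LD1_c11 LD2_c30 LD3_c5))))))))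
theorem f710444 : Led Lsl_bt (LP (LK LD1_c11 LD2_c30 LD3_c5)) = (LP (LK LD1_c6 LD2_c21 LD3_c41)) :=
  Lgr Lrot95 (Lpe (f710434 IH) (Lpr_bf (f710440 IH) (Lpr_df (K41.f535804 IH) (Lpn (LP (LK LD1_c6 LD2_c21 LD3_c41))))))
theorem f710448 : Led Lsl_bf (LP (LK LD1_c11 LD2_c30 LD3_c5)) = (LP (LK LD1_c6 LD2_c21 LD3_c41)) :=
  Lgr Lrot24 (Lpr_bt (f710444 IH) (Lpn (LP (LK LD1_c6 LD2_c21 LD3_c41))))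
theorem f710432 : Led Lsl_bt (LP (LK LD1_c11 LD2_c30 LD3_c23)) = (LP (LK LD1_c5 LD2_c51 LD3_c56)) :=
  Lgr Lrot119 (Lpr_ef (f710430 IH) (Lpe (K52.f454669 IH) (Lpe (K41.f535814 IH) (Lpn (LP (LK LD1_c5 LD2_c51 LD3_c56))))))
theorem f710452 : Led Lsl_dt (LP (LK LD1_c11 LD2_c30 LD3_c5)) = (LP (LK LD1_c11 LD2_c30 LD3_c23)) :=
  Lgr Lrot79 (Lpr_bf (f710448 IH) (Lpe (K50.f535812 IH) (Lpe (f710432 IH) (Lpn (LP (LK LD1_c11 LD2_c30 LD3_c23))))))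
theorem f710358 : Led Lsl_et (LP (LK LD1_c5 LD2_c51 LD3_c18)) = (LP (LK LD1_c11 LD2_c30 LD3_c5)) :=
  Lre_e IH (LK LD1_c5 LD2_c51 LD3_c18) (LK LD1_c11 LD2_c30 LD3_c5) Lrfl Lrfl
theorem f710436 : Led Lsl_et (LP (LK LD1_c11 LD2_c30 LD3_c23)) = (LP (LK LD1_c12 LD2_c30 LD3_c11)) :=
  Lgr Lrot87 (Lpr_ef (f710430 IH) (Lpn (LP (LK LD1_c12 LD2_c30 LD3_c11))))
theorem f710454 : Led Lsl_ef (LP (LK LD1_c11 LD2_c30 LD3_c4)) = (LP (LK LD1_c7 LD2_c59 LD3_c47)) :=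
  Lgr Lrot73 (Lpr_dt (K52.f428759 IH) (Lpr_et (f710358 IH) (Lpr_dt (f710452 IH) (Lpr_et (f710436 IH) (Lpr_dt (f454670 IH) (Lpn (LP (LK LD1_c7 LD2_c59 LD3_c47))))))))
theorem f710460 : Led Lsl_bt (LP (LK LD1_c11 LD2_c30 LD3_c4)) = (LP (LK LD1_c7 LD2_c59 LD3_c48)) :=
  Lgr Lrot119 (Lpr_ef (f710454 IH) (Lpe (K52.f415996 IH) (Lpe (K41.f40930 IH) (Lpn (LP (LK LD1_c7 LD2_c59 LD3_c48))))))
theorem f496493 : Led Lsl_dt (LP (LK LD1_c11 LD2_c31 LD3_c13)) = (LP (LK LD1_c5 LD2_c52 LD3_c9)) :=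
  Lre_d IH (LK LD1_c11 LD2_c31 LD3_c13) (LK LD1_c5 LD2_c52 LD3_c9) Lrfl Lrfl
theorem f640797 : Led Lsl_ft (LP (LK LD1_c7 LD2_c59 LD3_c48)) = (LP (LK LD1_c11 LD2_c31 LD3_c13)) :=
  Lgr Lrot54 (Lpr_df (K50.f615359 IH) (Lpr_ff (K41.f640793 IH) (Lpe (f496493 IH) (Lpn (LP (LK LD1_c11 LD2_c31 LD3_c13))))))
theorem f710466 : Led Lsl_bf (LP (LK LD1_c11 LD2_c25 LD3_c22)) = (LP (LK LD1_c11 LD2_c31 LD3_c13)) :=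
  Lgr Lrot61 (Lpe (f710400 IH) (Lpr_bt (f710460 IH) (Lpr_ft (f640797 IH) (Lpn (LP (LK LD1_c11 LD2_c31 LD3_c13))))))
theorem f707183 : Led Lsl_af (LP (LK LD1_c6 LD2_c12 LD3_c28)) = (LP (LK LD1_c11 LD2_c31 LD3_c13)) :=
  Lgr Lrot117 (Lpr_dt (K51.f413506 IH) (Lpr_at (K52.f646856 IH) (Lpqs (K52.f706040 IH) (Lpr_dt (K54.f22789 IH) (Lpn (LP (LK LD1_c11 LD2_c31 LD3_c13)))))))
theorem f707185 : Led Lsl_at (LP (LK LD1_c6 LD2_c12 LD3_c28)) = (LP (LK LD1_c11 LD2_c31 LD3_c13)) :=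
  Lgr Lrot100 (Lpr_af (f707183 IH) (Lpn (LP (LK LD1_c11 LD2_c31 LD3_c13))))
theorem f416487 : Led Lsl_bt (LP (LK LD1_c3 LD2_c2 LD3_c49)) = (LP (LK LD1_c6 LD2_c12 LD3_c28)) :=
  Lre_b IH (LK LD1_c3 LD2_c2 LD3_c49) (LK LD1_c6 LD2_c12 LD3_c28) Lrfl Lrfl
theorem f416382 : Led Lsl_bt (LP (LK LD1_c9 LD2_c17 LD3_c37)) = (LP (LK LD1_c4 LD2_c41 LD3_c5)) :=
  Lre_b IH (LK LD1_c9 LD2_c17 LD3_c37) (LK LD1_c4 LD2_c41 LD3_c5) Lrfl Lrfl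
theorem f710468 : Led Lsl_at (LP (LK LD1_c11 LD2_c25 LD3_c22)) = (LP (LK LD1_c9 LD2_c17 LD3_c37)) :=
  Lgr Lrot67 (Lpr_bf (f710466 IH) (Lpe (f707185 IH) (Lpe (f416487 IH) (Lpr_af (K54.f504092 IH) (Lpe (f416382 IH) (Lpn (LP (LK LD1_c9 LD2_c17 LD3_c37))))))))
theorem f742205 : Led Lsl_gf (LP (LK LD1_c9 LD2_c17 LD3_c37)) = (LP (LK LD1_c12 LD2_c58 LD3_c5)) :=
  Lgr Lrot76 (Lpe (f710468 IH) (Lpe (f710402 IH) (Lpr_gt (f742203 IH) (Lpn (LP (LK LD1_c12 LD2_c58 LD3_c5))))))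
theorem f454677 : Led Lsl_dt (LP (LK LD1_c12 LD2_c58 LD3_c2)) = (LP (LK LD1_c6 LD2_c47 LD3_c32)) :=
  Lre_d IH (LK LD1_c12 LD2_c58 LD3_c2) (LK LD1_c6 LD2_c47 LD3_c32) Lrfl Lrfl
theorem f742184 : Led Lsl_gt (LP (LK LD1_c9 LD2_c17 LD3_c37)) = (LP (LK LD1_c12 LD2_c58 LD3_c2)) :=
  Lgr Lrot49 (Lpe (K50.f416340 IH) (Lpqs (K51.f710359 IH) (Lpe (K51.f640698 IH) (Lpe (K8.f158081 IH) (Lpr_gt (K54.f157988 IH) (Lpr_dt (f157990 IH) (Lpr_gt (f742178 IH) (Lpr_dt (f414592 IH) (Lpe (f414536 IH) (Lpe (f454677 IH) (Lpn (LP (LK LD1_c12 LD2_c58 LD3_c2)))))))))))))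
theorem f454534 : Led Lsl_dt (LP (LK LD1_c6 LD2_c47 LD3_c33)) = (LP (LK LD1_c12 LD2_c58 LD3_c5)) :=
  Lre_d IH (LK LD1_c6 LD2_c47 LD3_c33) (LK LD1_c12 LD2_c58 LD3_c5) Lrfl Lrfl
theorem f742139 : Led Lsl_ff (LP (LK LD1_c11 LD2_c26 LD3_c36)) = (LP (LK LD1_c12 LD2_c58 LD3_c5)) :=
  Lgr Lrot19 (Lpr_dt (K52.f66324 IH) (Lpr_ft (f742133 IH) (Lpr_dt (f454534 IH) (Lpn (LP (LK LD1_c12 LD2_c58 LD3_c5))))))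
theorem f742207 : Led Lsl_af (LP (LK LD1_c12 LD2_c58 LD3_c2)) = (LP (LK LD1_c11 LD2_c26 LD3_c36)) :=
  Lgr Lrot31 (Lpe (f742184 IH) (Lpr_gf (f742205 IH) (Lpe (f742139 IH) (Lpn (LP (LK LD1_c11 LD2_c26 LD3_c36))))))
theorem f454679 : Led Lsl_et (LP (LK LD1_c12 LD2_c58 LD3_c2)) = (LP (LK LD1_c22 LD2_c7 LD3_c58)) :=
  Lre_e IH (LK LD1_c12 LD2_c58 LD3_c2) (LK LD1_c22 LD2_c7 LD3_c58) Lrfl Lrfl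
theorem f568496 : Led Lsl_et (LP (LK LD1_c20 LD2_c24 LD3_c24)) = (LP (LK LD1_c11 LD2_c26 LD3_c36)) :=
  Lre_e IH (LK LD1_c20 LD2_c24 LD3_c24) (LK LD1_c11 LD2_c26 LD3_c36) Lrfl Lrfl
theorem f742211 : Led Lsl_at (LP (LK LD1_c22 LD2_c7 LD3_c58)) = (LP (LK LD1_c20 LD2_c24 LD3_c24)) :=
  Lgr Lrot80 (Lpe (f454679 IH) (Lpr_af (f742207 IH) (Lpe (f568496 IH) (Lpn (LP (LK LD1_c20 LD2_c24 LD3_c24))))))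
theorem f416305 : Led Lsl_bt (LP (LK LD1_c9 LD2_c17 LD3_c40)) = (LP (LK LD1_c17 LD2_c12 LD3_c43)) :=
  Lre_b IH (LK LD1_c9 LD2_c17 LD3_c40) (LK LD1_c17 LD2_c12 LD3_c43) Lrfl Lrfl
theorem f416306 : Led Lsl_bt (LP (LK LD1_c9 LD2_c46 LD3_c43)) = (LP (LK LD1_c4 LD2_c57 LD3_c56)) :=
  Lre_b IH (LK LD1_c9 LD2_c46 LD3_c43) (LK LD1_c4 LD2_c57 LD3_c56) Lrfl Lrfl
theorem f416307 : Led Lsl_dt (LP (LK LD1_c17 LD2_c12 LD3_c43)) = (LP (LK LD1_c9 LD2_c46 LD3_c43)) :=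
  Lgr Lrot79 (Lpe (f416305 IH) (Lpr_df (K51.f416263 IH) (Lpe (f416306 IH) (Lpn (LP (LK LD1_c9 LD2_c46 LD3_c43))))))
theorem f416331 : Led Lsl_gt (LP (LK LD1_c17 LD2_c56 LD3_c49)) = (LP (LK LD1_c9 LD2_c46 LD3_c43)) :=
  Lre_g IH (LK LD1_c17 LD2_c56 LD3_c49) (LK LD1_c9 LD2_c46 LD3_c43) Lrfl Lrfl
theorem f225535 : Led Lsl_dt (LP (LK LD1_c1 LD2_c19 LD3_c31)) = (LP (LK LD1_c2 LD2_c46 LD3_c20)) :=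
  Lre_d IH (LK LD1_c1 LD2_c19 LD3_c31) (LK LD1_c2 LD2_c46 LD3_c20) Lrfl Lrfl
theorem f380519 : Led Lsl_bt (LP (LK LD1_c2 LD2_c46 LD3_c13)) = (LP (LK LD1_c1 LD2_c19 LD3_c31)) :=
  Lre_b IH (LK LD1_c2 LD2_c46 LD3_c13) (LK LD1_c1 LD2_c19 LD3_c31) Lrfl Lrfl
theorem f613311 : Led Lsl_dt (LP (LK LD1_c5 LD2_c40 LD3_c22)) = (LP (LK LD1_c2 LD2_c46 LD3_c13)) :=
  Lgr Lrot79 (Lpr_bf (K50.f613304 IH) (Lpe (f225535 IH) (Lpe (f380519 IH) (Lpn (LP (LK LD1_c2 LD2_c46 LD3_c13))))))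
theorem f613314 : Led Lsl_df (LP (LK LD1_c5 LD2_c40 LD3_c22)) = (LP (LK LD1_c2 LD2_c46 LD3_c13)) :=
  Lgr Lrot38 (Lpr_dt (f613311 IH) (Lpn (LP (LK LD1_c2 LD2_c46 LD3_c13))))
theorem f380265 : Led Lsl_gt (LP (LK LD1_c11 LD2_c11 LD3_c23)) = (LP (LK LD1_c5 LD2_c40 LD3_c22)) :=
  Lre_g IH (LK LD1_c11 LD2_c11 LD3_c23) (LK LD1_c5 LD2_c40 LD3_c22) Lrfl Lrfl
theorem f416339 : Led Lsl_et (LP (LK LD1_c9 LD2_c17 LD3_c37)) = (LP (LK LD1_c17 LD2_c12 LD3_c43)) :=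
  Lre_e IH (LK LD1_c9 LD2_c17 LD3_c37) (LK LD1_c17 LD2_c12 LD3_c43) Lrfl Lrfl
theorem f503915 : Led Lsl_et (LP (LK LD1_c17 LD2_c56 LD3_c46)) = (LP (LK LD1_c9 LD2_c46 LD3_c41)) :=
  Lre_e IH (LK LD1_c17 LD2_c56 LD3_c46) (LK LD1_c9 LD2_c46 LD3_c41) Lrfl Lrfl
theorem f504160 : Led Lsl_et (LP (LK LD1_c12 LD2_c4 LD3_c38)) = (LP (LK LD1_c6 LD2_c12 LD3_c40)) :=
  Lre_e IH (LK LD1_c12 LD2_c4 LD3_c38) (LK LD1_c6 LD2_c12 LD3_c40) Lrfl Lrfl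
theorem f59850 : Led Lsl_bt (LP (LK LD1_c3 LD2_c2 LD3_c61)) = (LP (LK LD1_c6 LD2_c12 LD3_c40)) :=
  Lre_b IH (LK LD1_c3 LD2_c2 LD3_c61) (LK LD1_c6 LD2_c12 LD3_c40) Lrfl Lrfl
theorem f504088 : Led Lsl_ft (LP (LK LD1_c6 LD2_c12 LD3_c40)) = (LP (LK LD1_c9 LD2_c17 LD3_c37)) :=
  Lgr Lrot75 (Lpe (f59850 IH) (Lpr_ff (K50.f504084 IH) (Lpe (f416382 IH) (Lpn (LP (LK LD1_c9 LD2_c17 LD3_c37))))))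
theorem f706177 : Led Lsl_ff (LP (LK LD1_c17 LD2_c56 LD3_c46)) = (LP (LK LD1_c17 LD2_c12 LD3_c43)) :=
  Lgr Lrot72 (Lpr_et (f503915 IH) (Lpr_ft (K52.f706171 IH) (Lpr_et (f504160 IH) (Lpr_ft (f504088 IH) (Lpr_et (f416339 IH) (Lpn (LP (LK LD1_c17 LD2_c12 LD3_c43))))))))
theorem f416324 : Led Lsl_at (LP (LK LD1_c17 LD2_c56 LD3_c46)) = (LP (LK LD1_c9 LD2_c46 LD3_c43)) :=
  Lre_a IH (LK LD1_c17 LD2_c56 LD3_c46) (LK LD1_c9 LD2_c46 LD3_c43) Lrfl Lrfl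
theorem f706181 : Led Lsl_gf (LP (LK LD1_c17 LD2_c56 LD3_c49)) = (LP (LK LD1_c17 LD2_c12 LD3_c43)) :=
  Lgr Lrot47 (Lpr_gt (f416331 IH) (Lpe (f416324 IH) (Lpr_ff (f706177 IH) (Lpn (LP (LK LD1_c17 LD2_c12 LD3_c43))))))
theorem f713711 : Led Lsl_df (LP (LK LD1_c11 LD2_c11 LD3_c23)) = (LP (LK LD1_c17 LD2_c56 LD3_c49)) :=
  Lgr Lrot135 (Lpr_gt (f380265 IH) (Lpr_df (f613314 IH) (Lpr_et (K30.f380147 IH) (Lpr_gt (K31.f380164 IH) (Lpe (K52.f380254 IH) (Lpr_dt (K52.f561473 IH) (Lpr_gt (K51.f640698 IH) (Lpq (K51.f710359 IH) (Lpe (K51.f416326 IH) (Lpr_et (f416339 IH) (Lpe (f706181 IH) (Lpn (LP (LK LD1_c17 LD2_c56 LD3_c49))))))))))))))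
theorem f713714 : Led Lsl_dt (LP (LK LD1_c11 LD2_c11 LD3_c23)) = (LP (LK LD1_c17 LD2_c56 LD3_c49)) :=
  Lgr Lrot42 (Lpr_df (f713711 IH) (Lpn (LP (LK LD1_c17 LD2_c56 LD3_c49))))
theorem f380151 : Led Lsl_gt (LP (LK LD1_c5 LD2_c40 LD3_c35)) = (LP (LK LD1_c11 LD2_c11 LD3_c23)) :=
  Lre_g IH (LK LD1_c5 LD2_c40 LD3_c35) (LK LD1_c11 LD2_c11 LD3_c23) Lrfl Lrfl
theorem f380152 : Led Lsl_dt (LP (LK LD1_c9 LD2_c1 LD3_c50)) = (LP (LK LD1_c16 LD2_c51 LD3_c49)) :=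
  Lre_d IH (LK LD1_c9 LD2_c1 LD3_c50) (LK LD1_c16 LD2_c51 LD3_c49) Lrfl Lrfl
theorem f438267 : Led Lsl_gt (LP (LK LD1_c5 LD2_c48 LD3_c34)) = (LP (LK LD1_c11 LD2_c25 LD3_c59)) :=
  Lre_g IH (LK LD1_c5 LD2_c48 LD3_c34) (LK LD1_c11 LD2_c25 LD3_c59) Lrfl Lrfl
theorem f452605 : Led Lsl_et (LP (LK LD1_c11 LD2_c26 LD3_c40)) = (LP (LK LD1_c5 LD2_c48 LD3_c34)) :=
  Lre_e IH (LK LD1_c11 LD2_c26 LD3_c40) (LK LD1_c5 LD2_c48 LD3_c34) Lrfl Lrfl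
theorem f496073 : Led Lsl_gt (LP (LK LD1_c1 LD2_c21 LD3_c12)) = K31.v1526 :=
  Lgr Lrot46 (Lpe (K40.f136310 IH) (Lpr_ft (K31.f452606 IH) (Lpr_at (K40.f496070 IH) (Lpn K31.v1526))))
theorem f452604 : Led Lsl_et (LP (LK LD1_c1 LD2_c21 LD3_c13)) = (LP (LK LD1_c2 LD2_c50 LD3_c20)) :=
  Lre_e IH (LK LD1_c1 LD2_c21 LD3_c13) (LK LD1_c2 LD2_c50 LD3_c20) Lrfl Lrfl
theorem f613282 : Led Lsl_et (LP (LK LD1_c11 LD2_c26 LD3_c51)) = (LP (LK LD1_c5 LD2_c48 LD3_c42)) :=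
  Lre_e IH (LK LD1_c11 LD2_c26 LD3_c51) (LK LD1_c5 LD2_c48 LD3_c42) Lrfl Lrfl
theorem f613716 : Led Lsl_dt (LP (LK LD1_c11 LD2_c26 LD3_c40)) = (LP (LK LD1_c16 LD2_c51 LD3_c37)) :=
  Lgr Lrot136 (Lpr_et (f452605 IH) (Lpe (K48.f66353 IH) (Lpe (f452604 IH) (Lpr_dt (K37.f422774 IH) (Lpq (K40.f537266 IH) (Lpe (f496073 IH) (Lpe (K42.f496074 IH) (Lpr_gf (K42.f571678 IH) (Lpe (f613282 IH) (Lpr_dt (K50.f571479 IH) (Lpe (K52.f380253 IH) (Lpn (LP (LK LD1_c16 LD2_c51 LD3_c37))))))))))))))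
theorem f380145 : Led Lsl_dt (LP (LK LD1_c16 LD2_c51 LD3_c49)) = (LP (LK LD1_c9 LD2_c1 LD3_c50)) :=
  Lre_d IH (LK LD1_c16 LD2_c51 LD3_c49) (LK LD1_c9 LD2_c1 LD3_c50) Lrfl Lrfl
theorem f57214 : Led Lsl_dt (LP (LK LD1_c5 LD2_c48 LD3_c37)) = (LP (LK LD1_c2 LD2_c50 LD3_c21)) :=
  Lre_d IH (LK LD1_c5 LD2_c48 LD3_c37) (LK LD1_c2 LD2_c50 LD3_c21) Lrfl Lrfl
theorem f613090 : Led Lsl_dt (LP (LK LD1_c11 LD2_c25 LD3_c56)) = (LP (LK LD1_c5 LD2_c48 LD3_c9)) :=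
  Lre_d IH (LK LD1_c11 LD2_c25 LD3_c56) (LK LD1_c5 LD2_c48 LD3_c9) Lrfl Lrfl
theorem f613091 : Led Lsl_et (LP (LK LD1_c11 LD2_c25 LD3_c56)) = (LP (LK LD1_c20 LD2_c23 LD3_c29)) :=
  Lre_e IH (LK LD1_c11 LD2_c25 LD3_c56) (LK LD1_c20 LD2_c23 LD3_c29) Lrfl Lrfl
theorem f615538 : Led Lsl_gf (LP (LK LD1_c16 LD2_c51 LD3_c49)) = (LP (LK LD1_c20 LD2_c23 LD3_c29)) :=
  Lgr Lrot138 (Lpr_dt (f380145 IH) (Lpr_gt (K52.f380014 IH) (Lpe (f613716 IH) (Lpr_et (f452605 IH) (Lpr_gt (f438267 IH) (Lpr_ef (K48.f615486 IH) (Lpr_dt (f57214 IH) (Lpr_gt (K52.f57186 IH) (Lpe (f613090 IH) (Lpr_et (f613091 IH) (Lpn (LP (LK LD1_c20 LD2_c23 LD3_c29)))))))))))))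
theorem f742191 : Led Lsl_et (LP (LK LD1_c22 LD2_c7 LD3_c58)) = (LP (LK LD1_c12 LD2_c58 LD3_c2)) :=
  Lre_e IH (LK LD1_c22 LD2_c7 LD3_c58) (LK LD1_c12 LD2_c58 LD3_c2) Lrfl Lrfl
theorem f742192 : Led Lsl_df (LP (LK LD1_c20 LD2_c23 LD3_c29)) = (LP (LK LD1_c22 LD2_c7 LD3_c58)) :=
  Lgr Lrot170 (Lpe (f615538 IH) (Lpe (f380152 IH) (Lpe (K30.f380137 IH) (Lpr_gt (f380151 IH) (Lpr_dt (f713714 IH) (Lpr_gt (f416331 IH) (Lpe (f416307 IH) (Lpr_et (K51.f416325 IH) (Lpr_gt (f742184 IH) (Lpe (f742191 IH) (Lpn (LP (LK LD1_c22 LD2_c7 LD3_c58)))))))))))))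
theorem f742194 : Led Lsl_dt (LP (LK LD1_c20 LD2_c23 LD3_c29)) = (LP (LK LD1_c22 LD2_c7 LD3_c58)) :=
  Lgr Lrot42 (Lpr_df (f742192 IH) (Lpn (LP (LK LD1_c22 LD2_c7 LD3_c58))))
theorem f568495 : Led Lsl_dt (LP (LK LD1_c20 LD2_c24 LD3_c24)) = (LP (LK LD1_c11 LD2_c26 LD3_c35)) :=
  Lre_d IH (LK LD1_c20 LD2_c24 LD3_c24) (LK LD1_c11 LD2_c26 LD3_c35) Lrfl Lrfl
theorem f742216 : Led Lsl_af (LP (LK LD1_c20 LD2_c23 LD3_c29)) = (LP (LK LD1_c11 LD2_c26 LD3_c35)) :=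
  Lgr Lrot117 (Lpr_dt (f742194 IH) (Lpr_at (f742211 IH) (Lpr_dt (f568495 IH) (Lpn (LP (LK LD1_c11 LD2_c26 LD3_c35))))))
theorem f206057 : Led Lsl_et (LP (LK LD1_c5 LD2_c48 LD3_c10)) = (LP (LK LD1_c2 LD2_c50 LD3_c8)) :=
  Lre_e IH (LK LD1_c5 LD2_c48 LD3_c10) (LK LD1_c2 LD2_c50 LD3_c8) Lrfl Lrfl
theorem f146507 : Led Lsl_dt (LP (LK LD1_c5 LD2_c48 LD3_c10)) = (LP (LK LD1_c2 LD2_c50 LD3_c6)) :=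
  Lre_d IH (LK LD1_c5 LD2_c48 LD3_c10) (LK LD1_c2 LD2_c50 LD3_c6) Lrfl Lrfl
theorem f613771 : Led Lsl_gt (LP (LK LD1_c11 LD2_c26 LD3_c51)) = (LP (LK LD1_c20 LD2_c23 LD3_c29)) :=
  Lgr Lrot131 (Lpe (K50.f571478 IH) (Lpr_dt (K42.f571476 IH) (Lpr_gf (K42.f561444 IH) (Lpe (K42.f206052 IH) (Lpr_gf (K31.f496102 IH) (Lpqs (K37.f537269 IH) (Lpe (f206057 IH) (Lpr_dt (f146507 IH) (Lpe (f206043 IH) (Lpe (f613090 IH) (Lpr_et (f613091 IH) (Lpn (LP (LK LD1_c20 LD2_c23 LD3_c29))))))))))))))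
theorem f741954 : Led Lsl_ft (LP (LK LD1_c20 LD2_c24 LD3_c25)) = (LP (LK LD1_c11 LD2_c26 LD3_c35)) :=
  Lre_f IH (LK LD1_c20 LD2_c24 LD3_c25) (LK LD1_c11 LD2_c26 LD3_c35) Lrfl Lrfl
theorem f742220 : Led Lsl_gf (LP (LK LD1_c11 LD2_c26 LD3_c51)) = (LP (LK LD1_c20 LD2_c24 LD3_c25)) :=
  Lgr Lrot47 (Lpr_gt (f613771 IH) (Lpr_af (f742216 IH) (Lpe (f741954 IH) (Lpn (LP (LK LD1_c20 LD2_c24 LD3_c25))))))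
theorem f613361 : Led Lsl_af (LP (LK LD1_c5 LD2_c41 LD3_c6)) = (LP (LK LD1_c11 LD2_c12 LD3_c20)) :=
  Lgr Lrot50 (Lpe (K24.f379923 IH) (Lpr_at (K50.f613355 IH) (Lpr_et (K50.f380131 IH) (Lpn (LP (LK LD1_c11 LD2_c12 LD3_c20))))))
theorem f380705 : Led Lsl_ft (LP (LK LD1_c5 LD2_c41 LD3_c6)) = (LP (LK LD1_c2 LD2_c46 LD3_c34)) :=
  Lre_f IH (LK LD1_c5 LD2_c41 LD3_c6) (LK LD1_c2 LD2_c46 LD3_c34) Lrfl Lrfl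
theorem f613365 : Led Lsl_at (LP (LK LD1_c2 LD2_c46 LD3_c34)) = (LP (LK LD1_c5 LD2_c40 LD3_c59)) :=
  Lgr Lrot66 (Lpe (f380705 IH) (Lpr_af (f613361 IH) (Lpe (K50.f380101 IH) (Lpn (LP (LK LD1_c5 LD2_c40 LD3_c59))))))
theorem f225810 : Led Lsl_dt (LP (LK LD1_c5 LD2_c41 LD3_c5)) = (LP (LK LD1_c2 LD2_c46 LD3_c34)) :=
  Lre_d IH (LK LD1_c5 LD2_c41 LD3_c5) (LK LD1_c2 LD2_c46 LD3_c34) Lrfl Lrfl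
theorem f613369 : Led Lsl_af (LP (LK LD1_c5 LD2_c41 LD3_c5)) = (LP (LK LD1_c5 LD2_c49 LD3_c7)) :=
  Lgr Lrot117 (Lpr_dt (f225810 IH) (Lpr_at (f613365 IH) (Lpr_dt (K24.f380096 IH) (Lpn (LP (LK LD1_c5 LD2_c49 LD3_c7))))))
theorem f380080 : Led Lsl_bt (LP (LK LD1_c5 LD2_c41 LD3_c5)) = (LP (LK LD1_c2 LD2_c46 LD3_c38)) :=
  Lre_b IH (LK LD1_c5 LD2_c41 LD3_c5) (LK LD1_c2 LD2_c46 LD3_c38) Lrfl Lrfl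
theorem f379971 : Led Lsl_af (LP (LK LD1_c4 LD2_c32 LD3_c5)) = (LP (LK LD1_c2 LD2_c46 LD3_c38)) :=
  Lgr Lrot0 (Lpr_at (K40.f379969 IH) (Lpn (LP (LK LD1_c2 LD2_c46 LD3_c38))))
theorem f380079 : Led Lsl_bt (LP (LK LD1_c4 LD2_c32 LD3_c5)) = (LP (LK LD1_c9 LD2_c1 LD3_c49)) :=
  Lre_b IH (LK LD1_c4 LD2_c32 LD3_c5) (LK LD1_c9 LD2_c1 LD3_c49) Lrfl Lrfl
theorem f613375 : Led Lsl_at (LP (LK LD1_c9 LD2_c1 LD3_c49)) = (LP (LK LD1_c11 LD2_c26 LD3_c51)) :=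
  Lgr Lrot67 (Lpe (f380079 IH) (Lpr_af (f379971 IH) (Lpe (f380080 IH) (Lpr_af (f613369 IH) (Lpe (K50.f571717 IH) (Lpn (LP (LK LD1_c11 LD2_c26 LD3_c51))))))))
theorem f613380 : Led Lsl_ft (LP (LK LD1_c16 LD2_c51 LD3_c49)) = (LP (LK LD1_c9 LD2_c1 LD3_c49)) :=
  Lre_f IH (LK LD1_c16 LD2_c51 LD3_c49) (LK LD1_c9 LD2_c1 LD3_c49) Lrfl Lrfl
theorem f742222 : Led Lsl_gt (LP (LK LD1_c16 LD2_c51 LD3_c49)) = (LP (LK LD1_c20 LD2_c24 LD3_c25)) :=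
  Lgr Lrot5 (Lpr_ft (f613380 IH) (Lpr_at (f613375 IH) (Lpr_gf (f742220 IH) (Lpn (LP (LK LD1_c20 LD2_c24 LD3_c25))))))
def v4783 : LQ := Led Lsl_gt (LP (LK LD1_c2 LD2_c47 LD3_c57))
theorem f638959 : Led Lsl_gt (LP (LK LD1_c2 LD2_c47 LD3_c57)) = v4783 :=
  Lrfl
theorem f644592 : (LP (LK LD1_c5 LD2_c43 LD3_c2)) = v4783 :=
  (Llr Lrot26 (Lpe (K54.f507678 IH) (Lpr_ff (K54.f644582 IH) (Lpr_gt (K41.f542574 IH) (Lpr_gt (f638959 IH) (Lpn v4783)))))).symm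
theorem f606132 : Led Lsl_ct (LP (LK LD1_c5 LD2_c43 LD3_c42)) = (LP (LK LD1_c11 LD2_c17 LD3_c22)) :=
  Lre_c IH (LK LD1_c5 LD2_c43 LD3_c42) (LK LD1_c11 LD2_c17 LD3_c22) Lrfl Lrfl
theorem f423191 : Led Lsl_gt (LP (LK LD1_c20 LD2_c13 LD3_c32)) = (LP (LK LD1_c11 LD2_c17 LD3_c22)) :=
  Lre_g IH (LK LD1_c20 LD2_c13 LD3_c32) (LK LD1_c11 LD2_c17 LD3_c22) Lrfl Lrfl
theorem f714343 : Led Lsl_cf (LP (LK LD1_c20 LD2_c13 LD3_c32)) = (LP (LK LD1_c16 LD2_c51 LD3_c37)) :=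
  Lgr Lrot125 (Lpr_gt (f423191 IH) (Lpe (f606132 IH) (Lpr_bt (K36.f381888 IH) (Lpr_gt (f638959 IH) (Lpq (f644592 IH) (Lpe (K54.f507669 IH) (Lpr_ct (K52.f638926 IH) (Lpqs (K52.f714311 IH) (Lpe (K52.f319892 IH) (Lpe (K52.f380009 IH) (Lpr_bt (K30.f380008 IH) (Lpr_gt (K52.f380014 IH) (Lpn (LP (LK LD1_c16 LD2_c51 LD3_c37)))))))))))))))
theorem f606128 : Led Lsl_ct (LP (LK LD1_c11 LD2_c17 LD3_c22)) = (LP (LK LD1_c5 LD2_c43 LD3_c42)) :=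
  Lre_c IH (LK LD1_c11 LD2_c17 LD3_c22) (LK LD1_c5 LD2_c43 LD3_c42) Lrfl Lrfl
theorem f595485 : Led Lsl_dt (LP (LK LD1_c5 LD2_c43 LD3_c42)) = (LP (LK LD1_c11 LD2_c17 LD3_c25)) :=
  Lre_d IH (LK LD1_c5 LD2_c43 LD3_c42) (LK LD1_c11 LD2_c17 LD3_c25) Lrfl Lrfl
theorem f554329 : Led Lsl_ct (LP (LK LD1_c20 LD2_c13 LD3_c36)) = (LP (LK LD1_c11 LD2_c17 LD3_c25)) :=
  Lre_c IH (LK LD1_c20 LD2_c13 LD3_c36) (LK LD1_c11 LD2_c17 LD3_c25) Lrfl Lrfl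
theorem f613165 : Led Lsl_gt (LP (LK LD1_c29 LD2_c22 LD3_c4)) = (LP (LK LD1_c20 LD2_c13 LD3_c36)) :=
  Lre_g IH (LK LD1_c29 LD2_c22 LD3_c4) (LK LD1_c20 LD2_c13 LD3_c36) Lrfl Lrfl
theorem f742224 : Led Lsl_cf (LP (LK LD1_c29 LD2_c22 LD3_c4)) = (LP (LK LD1_c20 LD2_c24 LD3_c25)) :=
  Lgr Lrot169 (Lpr_gt (f613165 IH) (Lpr_ct (f554329 IH) (Lpe (f595485 IH) (Lpe (f606128 IH) (Lpe (f423191 IH) (Lpr_cf (f714343 IH) (Lpe (K52.f380014 IH) (Lpe (f380145 IH) (Lpr_gt (f742222 IH) (Lpn (LP (LK LD1_c20 LD2_c24 LD3_c25))))))))))))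
theorem f742226 : Led Lsl_ct (LP (LK LD1_c29 LD2_c22 LD3_c4)) = (LP (LK LD1_c20 LD2_c24 LD3_c25)) :=
  Lgr Lrot59 (Lpr_cf (f742224 IH) (Lpn (LP (LK LD1_c20 LD2_c24 LD3_c25))))
theorem f496091 : Led Lsl_ct (LP (LK LD1_c5 LD2_c48 LD3_c43)) = (LP (LK LD1_c2 LD2_c50 LD3_c24)) :=
  Lre_c IH (LK LD1_c5 LD2_c48 LD3_c43) (LK LD1_c2 LD2_c50 LD3_c24) Lrfl Lrfl
theorem f558891 : Led Lsl_gt (LP (LK LD1_c11 LD2_c17 LD3_c28)) = (LP (LK LD1_c5 LD2_c48 LD3_c43)) :=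
  Lgr Lrot150 (Lpe (K40.f382005 IH) (Lpr_gf (K40.f558887 IH) (Lpe (K40.f496067 IH) (Lpe (K40.f558736 IH) (Lpr_ct (K40.f558730 IH) (Lpe (K42.f558743 IH) (Lpr_ct (K42.f422779 IH) (Lpe (K42.f496074 IH) (Lpe (f496091 IH) (Lpn (LP (LK LD1_c5 LD2_c48 LD3_c43))))))))))))
theorem f381933 : Led Lsl_at (LP (LK LD1_c5 LD2_c43 LD3_c44)) = (LP (LK LD1_c11 LD2_c17 LD3_c19)) :=
  Lre_a IH (LK LD1_c5 LD2_c43 LD3_c44) (LK LD1_c11 LD2_c17 LD3_c19) Lrfl Lrfl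
theorem f571638 : Led Lsl_af (LP (LK LD1_c11 LD2_c17 LD3_c28)) = (LP (LK LD1_c14 LD2_c1 LD3_c55)) :=
  Lgr Lrot68 (Lpr_ct (K40.f382001 IH) (Lpr_at (f381933 IH) (Lpr_ct (K42.f571636 IH) (Lpn (LP (LK LD1_c14 LD2_c1 LD3_c55))))))
theorem f571724 : Led Lsl_ft (LP (LK LD1_c11 LD2_c17 LD3_c28)) = (LP (LK LD1_c14 LD2_c1 LD3_c55)) :=
  Lgr Lrot2 (Lpr_gt (f558891 IH) (Lpr_gt (K42.f571719 IH) (Lpr_af (f571638 IH) (Lpn (LP (LK LD1_c14 LD2_c1 LD3_c55))))))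
theorem f613146 : Led Lsl_ff (LP (LK LD1_c11 LD2_c17 LD3_c28)) = (LP (LK LD1_c14 LD2_c1 LD3_c55)) :=
  Lgr Lrot3 (Lpr_ft (f571724 IH) (Lpn (LP (LK LD1_c14 LD2_c1 LD3_c55))))
theorem f613153 : Led Lsl_at (LP (LK LD1_c11 LD2_c17 LD3_c28)) = (LP (LK LD1_c14 LD2_c1 LD3_c55)) :=
  Lgr Lrot26 (Lpr_ff (f613146 IH) (Lpe (K42.f571649 IH) (Lpe (K42.f571661 IH) (Lpn (LP (LK LD1_c14 LD2_c1 LD3_c55))))))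
theorem f571730 : Led Lsl_et (LP (LK LD1_c20 LD2_c13 LD3_c36)) = (LP (LK LD1_c11 LD2_c17 LD3_c28)) :=
  Lre_e IH (LK LD1_c20 LD2_c13 LD3_c36) (LK LD1_c11 LD2_c17 LD3_c28) Lrfl Lrfl
theorem f439637 : Led Lsl_et (LP (LK LD1_c14 LD2_c1 LD3_c55)) = (LP (LK LD1_c23 LD2_c34 LD3_c46)) :=
  Lre_e IH (LK LD1_c14 LD2_c1 LD3_c55) (LK LD1_c23 LD2_c34 LD3_c46) Lrfl Lrfl
theorem f613157 : Led Lsl_af (LP (LK LD1_c20 LD2_c13 LD3_c36)) = (LP (LK LD1_c23 LD2_c34 LD3_c46)) :=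
  Lgr Lrot50 (Lpr_et (f571730 IH) (Lpr_at (f613153 IH) (Lpr_et (f439637 IH) (Lpn (LP (LK LD1_c23 LD2_c34 LD3_c46))))))
theorem f613150 : Led Lsl_ft (LP (LK LD1_c31 LD2_c7 LD3_c6)) = (LP (LK LD1_c23 LD2_c34 LD3_c46)) :=
  Lre_f IH (LK LD1_c31 LD2_c7 LD3_c6) (LK LD1_c23 LD2_c34 LD3_c46) Lrfl Lrfl
theorem f613166 : Led Lsl_gf (LP (LK LD1_c29 LD2_c22 LD3_c4)) = (LP (LK LD1_c31 LD2_c7 LD3_c6)) :=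
  Lgr Lrot47 (Lpr_gt (f613165 IH) (Lpr_af (f613157 IH) (Lpe (f613150 IH) (Lpn (LP (LK LD1_c31 LD2_c7 LD3_c6))))))
theorem f159742 : Led Lsl_bt (LP (LK LD1_c23 LD2_c34 LD3_c47)) = (LP (LK LD1_c31 LD2_c7 LD3_c6)) :=
  Lre_b IH (LK LD1_c23 LD2_c34 LD3_c47) (LK LD1_c31 LD2_c7 LD3_c6) Lrfl Lrfl
theorem f613149 : Led Lsl_ft (LP (LK LD1_c20 LD2_c13 LD3_c36)) = (LP (LK LD1_c29 LD2_c22 LD3_c6)) :=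
  Lre_f IH (LK LD1_c20 LD2_c13 LD3_c36) (LK LD1_c29 LD2_c22 LD3_c6) Lrfl Lrfl
theorem f613163 : Led Lsl_at (LP (LK LD1_c29 LD2_c22 LD3_c6)) = (LP (LK LD1_c31 LD2_c7 LD3_c6)) :=
  Lgr Lrot66 (Lpe (f613149 IH) (Lpr_af (f613157 IH) (Lpe (f613150 IH) (Lpn (LP (LK LD1_c31 LD2_c7 LD3_c6))))))
theorem f613169 : Led Lsl_af (LP (LK LD1_c29 LD2_c22 LD3_c6)) = (LP (LK LD1_c31 LD2_c7 LD3_c6)) :=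
  Lgr Lrot0 (Lpr_at (f613163 IH) (Lpn (LP (LK LD1_c31 LD2_c7 LD3_c6))))
theorem f542546 : Led Lsl_ct (LP (LK LD1_c20 LD2_c13 LD3_c61)) = (LP (LK LD1_c11 LD2_c17 LD3_c49)) :=
  Lre_c IH (LK LD1_c20 LD2_c13 LD3_c61) (LK LD1_c11 LD2_c17 LD3_c49) Lrfl Lrfl
theorem f542549 : Led Lsl_bt (LP (LK LD1_c11 LD2_c17 LD3_c49)) = (LP (LK LD1_c20 LD2_c13 LD3_c37)) :=
  Lre_b IH (LK LD1_c11 LD2_c17 LD3_c49) (LK LD1_c20 LD2_c13 LD3_c37) Lrfl Lrfl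
theorem f554340 : Led Lsl_ct (LP (LK LD1_c20 LD2_c13 LD3_c37)) = (LP (LK LD1_c29 LD2_c22 LD3_c6)) :=
  Lre_c IH (LK LD1_c20 LD2_c13 LD3_c37) (LK LD1_c29 LD2_c22 LD3_c6) Lrfl Lrfl
theorem f239344 : Led Lsl_ct (LP (LK LD1_c21 LD2_c29 LD3_c46)) = (LP (LK LD1_c12 LD2_c22 LD3_c55)) :=
  Lre_c IH (LK LD1_c21 LD2_c29 LD3_c46) (LK LD1_c12 LD2_c22 LD3_c55) Lrfl Lrfl
theorem f554341 : Led Lsl_bt (LP (LK LD1_c29 LD2_c22 LD3_c6)) = (LP (LK LD1_c21 LD2_c29 LD3_c46)) :=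
  Lgr Lrot128 (Lpe (f554340 IH) (Lpe (f542549 IH) (Lpe (f542546 IH) (Lpr_bf (K39.f554334 IH) (Lpe (f239344 IH) (Lpn (LP (LK LD1_c21 LD2_c29 LD3_c46))))))))
theorem f159700 : Led Lsl_et (LP (LK LD1_c12 LD2_c6 LD3_c25)) = (LP (LK LD1_c6 LD2_c13 LD3_c55)) :=
  Lre_e IH (LK LD1_c12 LD2_c6 LD3_c25) (LK LD1_c6 LD2_c13 LD3_c55) Lrfl Lrfl
theorem f159727 : Led Lsl_et (LP (LK LD1_c7 LD2_c25 LD3_c13)) = (LP (LK LD1_c14 LD2_c1 LD3_c56)) :=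
  Lre_e IH (LK LD1_c7 LD2_c25 LD3_c13) (LK LD1_c14 LD2_c1 LD3_c56) Lrfl Lrfl
theorem f159728 : Led Lsl_af (LP (LK LD1_c12 LD2_c6 LD3_c25)) = (LP (LK LD1_c14 LD2_c1 LD3_c56)) :=
  Lgr Lrot50 (Lpr_et (f159700 IH) (Lpr_at (K39.f159722 IH) (Lpr_et (f159727 IH) (Lpn (LP (LK LD1_c14 LD2_c1 LD3_c56))))))
theorem f159733 : Led Lsl_ft (LP (LK LD1_c23 LD2_c34 LD3_c47)) = (LP (LK LD1_c14 LD2_c1 LD3_c56)) :=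
  Lre_f IH (LK LD1_c23 LD2_c34 LD3_c47) (LK LD1_c14 LD2_c1 LD3_c56) Lrfl Lrfl
theorem f159734 : Led Lsl_at (LP (LK LD1_c21 LD2_c12 LD3_c28)) = (LP (LK LD1_c23 LD2_c34 LD3_c47)) :=
  Lgr Lrot66 (Lpe (K39.f159705 IH) (Lpr_af (f159728 IH) (Lpe (f159733 IH) (Lpn (LP (LK LD1_c23 LD2_c34 LD3_c47))))))
theorem f159709 : Led Lsl_bf (LP (LK LD1_c21 LD2_c12 LD3_c28)) = (LP (LK LD1_c23 LD2_c34 LD3_c45)) :=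
  Lgr Lrot24 (Lpr_bt (K39.f159707 IH) (Lpn (LP (LK LD1_c23 LD2_c34 LD3_c45))))
theorem f613174 : Led Lsl_at (LP (LK LD1_c21 LD2_c29 LD3_c46)) = (LP (LK LD1_c23 LD2_c34 LD3_c45)) :=
  Lgr Lrot67 (Lpe (f554341 IH) (Lpr_af (f613169 IH) (Lpe (f159742 IH) (Lpe (f159734 IH) (Lpr_bf (f159709 IH) (Lpn (LP (LK LD1_c23 LD2_c34 LD3_c45))))))))
theorem f613181 : Led Lsl_ft (LP (LK LD1_c12 LD2_c22 LD3_c52)) = (LP (LK LD1_c21 LD2_c29 LD3_c46)) :=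
  Lre_f IH (LK LD1_c12 LD2_c22 LD3_c52) (LK LD1_c21 LD2_c29 LD3_c46) Lrfl Lrfl
theorem f613182 : Led Lsl_af (LP (LK LD1_c12 LD2_c22 LD3_c52)) = (LP (LK LD1_c14 LD2_c1 LD3_c54)) :=
  Lgr Lrot45 (Lpr_ft (f613181 IH) (Lpr_at (f613174 IH) (Lpr_ft (K39.f159706 IH) (Lpn (LP (LK LD1_c14 LD2_c1 LD3_c54))))))
theorem f613184 : Led Lsl_at (LP (LK LD1_c12 LD2_c22 LD3_c52)) = (LP (LK LD1_c14 LD2_c1 LD3_c54)) :=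
  Lgr Lrot100 (Lpr_af (f613182 IH) (Lpn (LP (LK LD1_c14 LD2_c1 LD3_c54))))
theorem f239322 : Led Lsl_ct (LP (LK LD1_c6 LD2_c24 LD3_c57)) = (LP (LK LD1_c12 LD2_c22 LD3_c52)) :=
  Lre_c IH (LK LD1_c6 LD2_c24 LD3_c57) (LK LD1_c12 LD2_c22 LD3_c52) Lrfl Lrfl
theorem f159713 : Led Lsl_ct (LP (LK LD1_c16 LD2_c23 LD3_c46)) = (LP (LK LD1_c23 LD2_c34 LD3_c45)) :=
  Lgr Lrot59 (Lpr_cf (K39.f159711 IH) (Lpn (LP (LK LD1_c23 LD2_c34 LD3_c45))))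
theorem f81187 : Led Lsl_ft (LP (LK LD1_c8 LD2_c45 LD3_c34)) = (LP (LK LD1_c16 LD2_c23 LD3_c46)) :=
  Lre_f IH (LK LD1_c8 LD2_c45 LD3_c34) (LK LD1_c16 LD2_c23 LD3_c46) Lrfl Lrfl
theorem f159749 : Led Lsl_cf (LP (LK LD1_c8 LD2_c45 LD3_c34)) = (LP (LK LD1_c14 LD2_c1 LD3_c54)) :=
  Lgr Lrot108 (Lpr_ft (f81187 IH) (Lpr_ct (f159713 IH) (Lpr_ft (K39.f159706 IH) (Lpn (LP (LK LD1_c14 LD2_c1 LD3_c54))))))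
theorem f613201 : Led Lsl_af (LP (LK LD1_c6 LD2_c24 LD3_c57)) = (LP (LK LD1_c8 LD2_c45 LD3_c34)) :=
  Lgr Lrot68 (Lpr_ct (f239322 IH) (Lpr_at (f613184 IH) (Lpe (f159749 IH) (Lpn (LP (LK LD1_c8 LD2_c45 LD3_c34))))))
theorem f613208 : Led Lsl_at (LP (LK LD1_c12 LD2_c22 LD3_c55)) = (LP (LK LD1_c16 LD2_c23 LD3_c46)) :=
  Lgr Lrot66 (Lpe (K37.f239324 IH) (Lpr_af (f613201 IH) (Lpe (K39.f81183 IH) (Lpn (LP (LK LD1_c16 LD2_c23 LD3_c46))))))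
theorem f239222 : Led Lsl_ft (LP (LK LD1_c8 LD2_c46 LD3_c36)) = (LP (LK LD1_c16 LD2_c25 LD3_c13)) :=
  Lre_f IH (LK LD1_c8 LD2_c46 LD3_c36) (LK LD1_c16 LD2_c25 LD3_c13) Lrfl Lrfl
theorem f239349 : Led Lsl_ft (LP (LK LD1_c12 LD2_c22 LD3_c55)) = (LP (LK LD1_c6 LD2_c24 LD3_c57)) :=
  Lre_f IH (LK LD1_c12 LD2_c22 LD3_c55) (LK LD1_c6 LD2_c24 LD3_c57) Lrfl Lrfl
theorem f346810 : Led Lsl_et (LP (LK LD1_c16 LD2_c25 LD3_c13)) = (LP (LK LD1_c12 LD2_c22 LD3_c55)) :=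
  Lgr Lrot69 (Lpe (f239222 IH) (Lpe (K37.f210865 IH) (Lpr_ff (K37.f346808 IH) (Lpe (K37.f239319 IH) (Lpe (f239349 IH) (Lpn (LP (LK LD1_c12 LD2_c22 LD3_c55))))))))
theorem f613212 : Led Lsl_af (LP (LK LD1_c16 LD2_c25 LD3_c13)) = (LP (LK LD1_c12 LD2_c6 LD3_c28)) :=
  Lgr Lrot50 (Lpr_et (f346810 IH) (Lpr_at (f613208 IH) (Lpr_et (K39.f81578 IH) (Lpn (LP (LK LD1_c12 LD2_c6 LD3_c28))))))
theorem f81508 : Led Lsl_ct (LP (LK LD1_c21 LD2_c12 LD3_c28)) = (LP (LK LD1_c12 LD2_c6 LD3_c28)) :=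
  Lre_c IH (LK LD1_c21 LD2_c12 LD3_c28) (LK LD1_c12 LD2_c6 LD3_c28) Lrfl Lrfl
theorem f159740 : Led Lsl_af (LP (LK LD1_c21 LD2_c12 LD3_c28)) = (LP (LK LD1_c23 LD2_c34 LD3_c47)) :=
  Lgr Lrot0 (Lpr_at (f159734 IH) (Lpn (LP (LK LD1_c23 LD2_c34 LD3_c47))))
theorem f613217 : Led Lsl_ct (LP (LK LD1_c16 LD2_c25 LD3_c13)) = (LP (LK LD1_c23 LD2_c34 LD3_c47)) :=
  Lgr Lrot111 (Lpr_af (f613212 IH) (Lpe (f81508 IH) (Lpr_af (f159740 IH) (Lpn (LP (LK LD1_c23 LD2_c34 LD3_c47))))))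
theorem f613221 : Led Lsl_cf (LP (LK LD1_c16 LD2_c25 LD3_c13)) = (LP (LK LD1_c23 LD2_c34 LD3_c47)) :=
  Lgr Lrot11 (Lpr_ct (f613217 IH) (Lpn (LP (LK LD1_c23 LD2_c34 LD3_c47))))
theorem f81152 : Led Lsl_gt (LP (LK LD1_c6 LD2_c13 LD3_c56)) = (LP (LK LD1_c12 LD2_c6 LD3_c26)) :=
  Lre_g IH (LK LD1_c6 LD2_c13 LD3_c56) (LK LD1_c12 LD2_c6 LD3_c26) Lrfl Lrfl
theorem f613219 : Led Lsl_gf (LP (LK LD1_c16 LD2_c25 LD3_c13)) = (LP (LK LD1_c12 LD2_c6 LD3_c26)) :=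
  Lgr Lrot76 (Lpr_af (f613212 IH) (Lpe (K39.f81581 IH) (Lpr_gt (f81152 IH) (Lpn (LP (LK LD1_c12 LD2_c6 LD3_c26))))))
theorem f13178 : Led Lsl_et (LP (LK LD1_c7 LD2_c21 LD3_c27)) = (LP (LK LD1_c3 LD2_c40 LD3_c37)) :=
  Lre_e IH (LK LD1_c7 LD2_c21 LD3_c27) (LK LD1_c3 LD2_c40 LD3_c37) Lrfl Lrfl
theorem f613751 : Led Lsl_ct (LP (LK LD1_c11 LD2_c26 LD3_c51)) = (LP (LK LD1_c7 LD2_c21 LD3_c27)) :=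
  Lgr Lrot15 (Lpe (K50.f571478 IH) (Lpr_cf (K42.f571485 IH) (Lpe (f13178 IH) (Lpn (LP (LK LD1_c7 LD2_c21 LD3_c27))))))
theorem f613755 : Led Lsl_cf (LP (LK LD1_c11 LD2_c26 LD3_c51)) = (LP (LK LD1_c7 LD2_c21 LD3_c27)) :=
  Lgr Lrot11 (Lpr_ct (f613751 IH) (Lpn (LP (LK LD1_c7 LD2_c21 LD3_c27))))
theorem f13184 : Led Lsl_bt (LP (LK LD1_c7 LD2_c21 LD3_c27)) = (LP (LK LD1_c3 LD2_c40 LD3_c39)) :=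
  Lre_b IH (LK LD1_c7 LD2_c21 LD3_c27) (LK LD1_c3 LD2_c40 LD3_c39) Lrfl Lrfl
theorem f148202 : Led Lsl_gt (LP (LK LD1_c3 LD2_c40 LD3_c39)) = (LP (LK LD1_c7 LD2_c21 LD3_c32)) :=
  Lre_g IH (LK LD1_c3 LD2_c40 LD3_c39) (LK LD1_c7 LD2_c21 LD3_c32) Lrfl Lrfl
theorem f13342 : Led Lsl_bt (LP (LK LD1_c13 LD2_c54 LD3_c45)) = (LP (LK LD1_c7 LD2_c21 LD3_c32)) :=
  Lre_b IH (LK LD1_c13 LD2_c54 LD3_c45) (LK LD1_c7 LD2_c21 LD3_c32) Lrfl Lrfl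
theorem f742514 : Led Lsl_cf (LP (LK LD1_c12 LD2_c6 LD3_c26)) = (LP (LK LD1_c13 LD2_c54 LD3_c45)) :=
  Lgr Lrot160 (Lpe (f613219 IH) (Lpr_cf (f613221 IH) (Lpr_bt (f159742 IH) (Lpe (f613166 IH) (Lpr_ct (f742226 IH) (Lpe (f742220 IH) (Lpr_cf (f613755 IH) (Lpr_bt (f13184 IH) (Lpr_gt (f148202 IH) (Lpe (f13342 IH) (Lpn (LP (LK LD1_c13 LD2_c54 LD3_c45)))))))))))))
theorem f81145 : Led Lsl_ct (LP (LK LD1_c12 LD2_c6 LD3_c25)) = (LP (LK LD1_c6 LD2_c13 LD3_c56)) :=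
  Lre_c IH (LK LD1_c12 LD2_c6 LD3_c25) (LK LD1_c6 LD2_c13 LD3_c56) Lrfl Lrfl
theorem f159696 : Led Lsl_gt (LP (LK LD1_c21 LD2_c12 LD3_c26)) = (LP (LK LD1_c12 LD2_c6 LD3_c25)) :=
  Lre_g IH (LK LD1_c21 LD2_c12 LD3_c26) (LK LD1_c12 LD2_c6 LD3_c25) Lrfl Lrfl
theorem f13341 : Led Lsl_gt (LP (LK LD1_c7 LD2_c21 LD3_c32)) = (LP (LK LD1_c3 LD2_c41 LD3_c34)) :=
  Lre_g IH (LK LD1_c7 LD2_c21 LD3_c32) (LK LD1_c3 LD2_c41 LD3_c34) Lrfl Lrfl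
theorem f12975 : Led Lsl_bt (LP (LK LD1_c3 LD2_c44 LD3_c15)) = (LP (LK LD1_c3 LD2_c41 LD3_c34)) :=
  Lgr Lrot127 (Lpr_bf (K7.f12950 IH) (Lpn (LP (LK LD1_c3 LD2_c41 LD3_c34))))
theorem f206359 : Led Lsl_af (LP (LK LD1_c3 LD2_c14 LD3_c12)) = (LP (LK LD1_c3 LD2_c44 LD3_c11)) :=
  Lgr Lrot0 (Lpr_at (K54.f206357 IH) (Lpn (LP (LK LD1_c3 LD2_c44 LD3_c11))))
theorem f22662 : Led Lsl_gt (LP (LK LD1_c6 LD2_c32 LD3_c2)) = (LP (LK LD1_c3 LD2_c14 LD3_c12)) :=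
  Lre_g IH (LK LD1_c6 LD2_c32 LD3_c2) (LK LD1_c3 LD2_c14 LD3_c12) Lrfl Lrfl
theorem f206204 : Led Lsl_ft (LP (LK LD1_c7 LD2_c29 LD3_c18)) = (LP (LK LD1_c3 LD2_c44 LD3_c11)) :=
  Lre_f IH (LK LD1_c7 LD2_c29 LD3_c18) (LK LD1_c3 LD2_c44 LD3_c11) Lrfl Lrfl
theorem f206484 : Led Lsl_gf (LP (LK LD1_c6 LD2_c32 LD3_c2)) = (LP (LK LD1_c7 LD2_c29 LD3_c18)) :=
  Lgr Lrot47 (Lpr_gt (f22662 IH) (Lpr_af (f206359 IH) (Lpe (f206204 IH) (Lpn (LP (LK LD1_c7 LD2_c29 LD3_c18))))))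
theorem f206416 : Led Lsl_ct (LP (LK LD1_c12 LD2_c31 LD3_c54)) = (LP (LK LD1_c6 LD2_c32 LD3_c2)) :=
  Lre_c IH (LK LD1_c12 LD2_c31 LD3_c54) (LK LD1_c6 LD2_c32 LD3_c2) Lrfl Lrfl
theorem f742525 : Led Lsl_bf (LP (LK LD1_c21 LD2_c12 LD3_c26)) = (LP (LK LD1_c12 LD2_c31 LD3_c54)) :=
  Lgr Lrot165 (Lpr_gt (f159696 IH) (Lpr_ct (f81145 IH) (Lpr_gt (f81152 IH) (Lpr_cf (f742514 IH) (Lpr_bt (f13342 IH) (Lpr_gt (f13341 IH) (Lpe (f12975 IH) (Lpr_ct (K11.f12977 IH) (Lpe (f206484 IH) (Lpe (f206416 IH) (Lpn (LP (LK LD1_c12 LD2_c31 LD3_c54)))))))))))))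
theorem f81148 : Led Lsl_gt (LP (LK LD1_c8 LD2_c45 LD3_c34)) = (LP (LK LD1_c16 LD2_c23 LD3_c44)) :=
  Lre_g IH (LK LD1_c8 LD2_c45 LD3_c34) (LK LD1_c16 LD2_c23 LD3_c44) Lrfl Lrfl
theorem f12994 : Led Lsl_bt (LP (LK LD1_c14 LD2_c4 LD3_c10)) = (LP (LK LD1_c7 LD2_c26 LD3_c38)) :=
  Lre_b IH (LK LD1_c14 LD2_c4 LD3_c10) (LK LD1_c7 LD2_c26 LD3_c38) Lrfl Lrfl
theorem f742532 : Led Lsl_cf (LP (LK LD1_c16 LD2_c23 LD3_c44)) = (LP (LK LD1_c14 LD2_c4 LD3_c10)) :=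
  Lgr Lrot58 (Lpe (f81148 IH) (Lpr_cf (f159749 IH) (Lpe (K36.f159701 IH) (Lpe (f159696 IH) (Lpr_bf (f742525 IH) (Lpr_ct (f206416 IH) (Lpr_gf (f206484 IH) (Lpe (K11.f12977 IH) (Lpe (K7.f12993 IH) (Lpe (f12994 IH) (Lpn (LP (LK LD1_c14 LD2_c4 LD3_c10)))))))))))))
theorem f560453 : Led Lsl_dt (LP (LK LD1_c21 LD2_c14 LD3_c50)) = (LP (LK LD1_c29 LD2_c55 LD3_c25)) :=
  Lre_d IH (LK LD1_c21 LD2_c14 LD3_c50) (LK LD1_c29 LD2_c55 LD3_c25) Lrfl Lrfl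
theorem f560454 : Led Lsl_at (LP (LK LD1_c13 LD2_c55 LD3_c23)) = (LP (LK LD1_c21 LD2_c14 LD3_c50)) :=
  Lgr Lrot51 (Lpe (K39.f208993 IH) (Lpr_af (K39.f560447 IH) (Lpe (f560453 IH) (Lpn (LP (LK LD1_c21 LD2_c14 LD3_c50))))))
theorem f440041 : Led Lsl_gt (LP (LK LD1_c7 LD2_c21 LD3_c51)) = (LP (LK LD1_c13 LD2_c55 LD3_c20)) :=
  Lre_g IH (LK LD1_c7 LD2_c21 LD3_c51) (LK LD1_c13 LD2_c55 LD3_c20) Lrfl Lrfl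
theorem f617721 : Led Lsl_gt (LP (LK LD1_c13 LD2_c55 LD3_c20)) = (LP (LK LD1_c21 LD2_c14 LD3_c50)) :=
  Lgr Lrot46 (Lpe (f440041 IH) (Lpr_ft (K39.f208988 IH) (Lpr_at (f560454 IH) (Lpn (LP (LK LD1_c21 LD2_c14 LD3_c50))))))
theorem f543601 : Led Lsl_af (LP (LK LD1_c17 LD2_c15 LD3_c25)) = (LP (LK LD1_c13 LD2_c47 LD3_c23)) :=
  Lgr Lrot117 (Lpe (K43.f210898 IH) (Lpr_at (K37.f543599 IH) (Lpr_dt (K40.f208973 IH) (Lpn (LP (LK LD1_c13 LD2_c47 LD3_c23))))))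
theorem f567958 : Led Lsl_ct (LP (LK LD1_c21 LD2_c14 LD3_c50)) = (LP (LK LD1_c13 LD2_c47 LD3_c23)) :=
  Lgr Lrot111 (Lpe (f560454 IH) (Lpr_cf (K42.f567931 IH) (Lpr_af (f543601 IH) (Lpn (LP (LK LD1_c13 LD2_c47 LD3_c23))))))
theorem f116160 : Led Lsl_dt (LP (LK LD1_c7 LD2_c12 LD3_c5)) = (LP (LK LD1_c3 LD2_c35 LD3_c44)) :=
  Lre_d IH (LK LD1_c7 LD2_c12 LD3_c5) (LK LD1_c3 LD2_c35 LD3_c44) Lrfl Lrfl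
theorem f463779 : Led Lsl_gt (LP (LK LD1_c7 LD2_c12 LD3_c5)) = (LP (LK LD1_c13 LD2_c38 LD3_c22)) :=
  Lre_g IH (LK LD1_c7 LD2_c12 LD3_c5) (LK LD1_c13 LD2_c38 LD3_c22) Lrfl Lrfl
theorem f617723 : Led Lsl_cf (LP (LK LD1_c13 LD2_c55 LD3_c20)) = (LP (LK LD1_c13 LD2_c38 LD3_c22)) :=
  Lgr Lrot169 (Lpr_gt (f617721 IH) (Lpr_ct (f567958 IH) (Lpe (K40.f208973 IH) (Lpr_cf (K29.f439559 IH) (Lpe (K37.f489386 IH) (Lpe (K37.f116260 IH) (Lpe (K37.f106229 IH) (Lpe (f116160 IH) (Lpr_gt (f463779 IH) (Lpn (LP (LK LD1_c13 LD2_c38 LD3_c22))))))))))))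
theorem f560489 : Led Lsl_cf (LP (LK LD1_c21 LD2_c14 LD3_c50)) = (LP (LK LD1_c13 LD2_c47 LD3_c23)) :=
  Lgr Lrot102 (Lpe (f560454 IH) (Lpe (K39.f208988 IH) (Lpr_dt (K42.f554231 IH) (Lpr_ct (K39.f560245 IH) (Lpr_dt (K39.f560482 IH) (Lpr_ct (K37.f439163 IH) (Lpr_dt (K40.f439563 IH) (Lpe (K29.f439559 IH) (Lpr_dt (K40.f208973 IH) (Lpn (LP (LK LD1_c13 LD2_c47 LD3_c23))))))))))))
theorem f439514 : Led Lsl_bt (LP (LK LD1_c13 LD2_c47 LD3_c23)) = (LP (LK LD1_c7 LD2_c17 LD3_c23)) :=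
  Lre_b IH (LK LD1_c13 LD2_c47 LD3_c23) (LK LD1_c7 LD2_c17 LD3_c23) Lrfl Lrfl
theorem f617725 : Led Lsl_bt (LP (LK LD1_c13 LD2_c38 LD3_c22)) = (LP (LK LD1_c7 LD2_c56 LD3_c45)) :=
  Lgr Lrot92 (Lpe (f617723 IH) (Lpr_gt (f617721 IH) (Lpr_cf (f560489 IH) (Lpr_bt (f439514 IH) (Lpr_gt (K35.f439524 IH) (Lpe (K41.f489384 IH) (Lpr_gt (K41.f108357 IH) (Lpe (K24.f98570 IH) (Lpr_bt (K41.f565956 IH) (Lpr_gt (K40.f70196 IH) (Lpn (LP (LK LD1_c7 LD2_c56 LD3_c45)))))))))))))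
theorem f617728 : Led Lsl_bf (LP (LK LD1_c13 LD2_c38 LD3_c22)) = (LP (LK LD1_c7 LD2_c56 LD3_c45)) :=
  Lgr Lrot24 (Lpr_bt (f617725 IH) (Lpn (LP (LK LD1_c7 LD2_c56 LD3_c45))))
theorem f75670 : Led Lsl_gt (LP (LK LD1_c6 LD2_c14 LD3_c43)) = (LP (LK LD1_c3 LD2_c4 LD3_c15)) :=
  Lre_g IH (LK LD1_c6 LD2_c14 LD3_c43) (LK LD1_c3 LD2_c4 LD3_c15) Lrfl Lrfl
theorem f443102 : Led Lsl_bt (LP (LK LD1_c12 LD2_c7 LD3_c42)) = (LP (LK LD1_c6 LD2_c14 LD3_c43)) :=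
  Lre_b IH (LK LD1_c12 LD2_c7 LD3_c42) (LK LD1_c6 LD2_c14 LD3_c43) Lrfl Lrfl
theorem f443103 : Led Lsl_ct (LP (LK LD1_c12 LD2_c7 LD3_c42)) = (LP (LK LD1_c21 LD2_c13 LD3_c60)) :=
  Lre_c IH (LK LD1_c12 LD2_c7 LD3_c42) (LK LD1_c21 LD2_c13 LD3_c60) Lrfl Lrfl
theorem f576446 : Led Lsl_at (LP (LK LD1_c23 LD2_c38 LD3_c43)) = (LP (LK LD1_c31 LD2_c5 LD3_c21)) :=
  Lgr Lrot100 (Lpr_af (K43.f576442 IH) (Lpn (LP (LK LD1_c31 LD2_c5 LD3_c21))))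
theorem f608418 : Led Lsl_gt (LP (LK LD1_c23 LD2_c38 LD3_c39)) = (LP (LK LD1_c31 LD2_c5 LD3_c21)) :=
  Lgr Lrot46 (Lpe (K39.f533631 IH) (Lpr_ft (K43.f560470 IH) (Lpr_at (f576446 IH) (Lpn (LP (LK LD1_c31 LD2_c5 LD3_c21))))))
theorem f469447 : Led Lsl_gf (LP (LK LD1_c22 LD2_c44 LD3_c29)) = (LP (LK LD1_c14 LD2_c7 LD3_c28)) :=
  Lgr Lrot76 (Lpe (K28.f469422 IH) (Lpr_ff (K34.f469423 IH) (Lpr_gt (K39.f463032 IH) (Lpn (LP (LK LD1_c14 LD2_c7 LD3_c28))))))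
theorem f469374 : Led Lsl_ct (LP (LK LD1_c14 LD2_c7 LD3_c26)) = (LP (LK LD1_c23 LD2_c41 LD3_c53)) :=
  Lre_c IH (LK LD1_c14 LD2_c7 LD3_c26) (LK LD1_c23 LD2_c41 LD3_c53) Lrfl Lrfl
theorem f469244 : Led Lsl_ft (LP (LK LD1_c23 LD2_c29 LD3_c61)) = (LP (LK LD1_c31 LD2_c5 LD3_c21)) :=
  Lre_f IH (LK LD1_c23 LD2_c29 LD3_c61) (LK LD1_c31 LD2_c5 LD3_c21) Lrfl Lrfl
theorem f576434 : Led Lsl_df (LP (LK LD1_c29 LD2_c55 LD3_c22)) = (LP (LK LD1_c31 LD2_c5 LD3_c21)) :=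
  Lgr Lrot78 (Lpr_ft (K43.f576425 IH) (Lpr_dt (K43.f469236 IH) (Lpr_ft (f469244 IH) (Lpn (LP (LK LD1_c31 LD2_c5 LD3_c21))))))
theorem f560471 : Led Lsl_gt (LP (LK LD1_c31 LD2_c8 LD3_c58)) = (LP (LK LD1_c23 LD2_c38 LD3_c42)) :=
  Lre_g IH (LK LD1_c31 LD2_c8 LD3_c58) (LK LD1_c23 LD2_c38 LD3_c42) Lrfl Lrfl
theorem f576440 : Led Lsl_gf (LP (LK LD1_c31 LD2_c8 LD3_c58)) = (LP (LK LD1_c29 LD2_c55 LD3_c22)) :=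
  Lgr Lrot47 (Lpr_gt (f560471 IH) (Lpr_af (K43.f576436 IH) (Lpe (K43.f576425 IH) (Lpn (LP (LK LD1_c29 LD2_c55 LD3_c22))))))
theorem f608420 : Led Lsl_df (LP (LK LD1_c23 LD2_c41 LD3_c53)) = (LP (LK LD1_c31 LD2_c8 LD3_c58)) :=
  Lgr Lrot84 (Lpe (f469374 IH) (Lpe (K40.f116264 IH) (Lpe (K34.f469371 IH) (Lpe (K28.f469363 IH) (Lpr_gf (f469447 IH) (Lpr_cf (K39.f535062 IH) (Lpr_gt (f608418 IH) (Lpe (f576434 IH) (Lpe (f576440 IH) (Lpn (LP (LK LD1_c31 LD2_c8 LD3_c58))))))))))))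
theorem f608424 : Led Lsl_dt (LP (LK LD1_c23 LD2_c41 LD3_c53)) = (LP (LK LD1_c31 LD2_c8 LD3_c58)) :=
  Lgr Lrot42 (Lpr_df (f608420 IH) (Lpn (LP (LK LD1_c31 LD2_c8 LD3_c58))))
theorem f469406 : Led Lsl_ct (LP (LK LD1_c23 LD2_c14 LD3_c52)) = (LP (LK LD1_c13 LD2_c47 LD3_c20)) :=
  Lre_c IH (LK LD1_c23 LD2_c14 LD3_c52) (LK LD1_c13 LD2_c47 LD3_c20) Lrfl Lrfl
theorem f520618 : Led Lsl_ff (LP (LK LD1_c22 LD2_c29 LD3_c4)) = (LP (LK LD1_c22 LD2_c29 LD3_c0)) :=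
  Lgr Lrot23 (Lpr_ct (K33.f480593 IH) (Lpr_ft (K40.f520612 IH) (Lpr_ct (K48.f464678 IH) (Lpn (LP (LK LD1_c22 LD2_c29 LD3_c0))))))
theorem f607593 : Led Lsl_gt (LP (LK LD1_c22 LD2_c28 LD3_c37)) = (LP (LK LD1_c13 LD2_c14 LD3_c20)) :=
  Lgr Lrot46 (Lpr_gf (K48.f607591 IH) (Lpe (f520618 IH) (Lpr_at (K33.f480586 IH) (Lpn (LP (LK LD1_c13 LD2_c14 LD3_c20))))))
theorem f541903 : Led Lsl_gt (LP (LK LD1_c13 LD2_c38 LD3_c24)) = (LP (LK LD1_c23 LD2_c3 LD3_c33)) :=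
  Lre_g IH (LK LD1_c13 LD2_c38 LD3_c24) (LK LD1_c23 LD2_c3 LD3_c33) Lrfl Lrfl
theorem f554194 : Led Lsl_cf (LP (LK LD1_c13 LD2_c32 LD3_c7)) = (LP (LK LD1_c14 LD2_c51 LD3_c0)) :=
  Lgr Lrot14 (Lpr_df (K39.f554183 IH) (Lpe (K39.f469405 IH) (Lpe (K39.f439638 IH) (Lpe (K34.f439556 IH) (Lpe (K37.f469399 IH) (Lpr_gt (K34.f116155 IH) (Lpr_dt (K39.f116164 IH) (Lpr_gt (K39.f463032 IH) (Lpr_dt (K39.f535057 IH) (Lpn (LP (LK LD1_c14 LD2_c51 LD3_c0))))))))))))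
theorem f607635 : Led Lsl_ct (LP (LK LD1_c23 LD2_c3 LD3_c33)) = (LP (LK LD1_c13 LD2_c47 LD3_c22)) :=
  Lgr Lrot110 (Lpe (f541903 IH) (Lpe (K36.f116255 IH) (Lpe (K40.f116174 IH) (Lpe (K40.f552199 IH) (Lpr_gt (f607593 IH) (Lpr_ct (K33.f479597 IH) (Lpr_gt (K39.f472685 IH) (Lpe (f554194 IH) (Lpr_df (K39.f554183 IH) (Lpn (LP (LK LD1_c13 LD2_c47 LD3_c22))))))))))))
theorem f541939 : Led Lsl_gt (LP (LK LD1_c23 LD2_c3 LD3_c34)) = (LP (LK LD1_c30 LD2_c52 LD3_c47)) :=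
  Lre_g IH (LK LD1_c23 LD2_c3 LD3_c34) (LK LD1_c30 LD2_c52 LD3_c47) Lrfl Lrfl
theorem f456598 : Led Lsl_gt (LP (LK LD1_c13 LD2_c32 LD3_c5)) = (LP (LK LD1_c7 LD2_c8 LD3_c47)) :=
  Lre_g IH (LK LD1_c13 LD2_c32 LD3_c5) (LK LD1_c7 LD2_c8 LD3_c47) Lrfl Lrfl
theorem f567450 : Led Lsl_gf (LP (LK LD1_c13 LD2_c32 LD3_c5)) = (LP (LK LD1_c20 LD2_c25 LD3_c40)) :=
  Lgr Lrot47 (Lpr_gt (f456598 IH) (Lpe (K40.f524930 IH) (Lpr_ff (K47.f567444 IH) (Lpn (LP (LK LD1_c20 LD2_c25 LD3_c40))))))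
theorem f210739 : Led Lsl_dt (LP (LK LD1_c11 LD2_c28 LD3_c0)) = (LP (LK LD1_c20 LD2_c25 LD3_c40)) :=
  Lre_d IH (LK LD1_c11 LD2_c28 LD3_c0) (LK LD1_c20 LD2_c25 LD3_c40) Lrfl Lrfl
theorem f488304 : Led Lsl_et (LP (LK LD1_c13 LD2_c50 LD3_c43)) = (LP (LK LD1_c7 LD2_c19 LD3_c8)) :=
  Lre_e IH (LK LD1_c13 LD2_c50 LD3_c43) (LK LD1_c7 LD2_c19 LD3_c8) Lrfl Lrfl
theorem f567452 : Led Lsl_df (LP (LK LD1_c13 LD2_c32 LD3_c5)) = (LP (LK LD1_c13 LD2_c50 LD3_c43)) :=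
  Lgr Lrot132 (Lpr_gf (f567450 IH) (Lpe (f210739 IH) (Lpe (K43.f210723 IH) (Lpe (K36.f210738 IH) (Lpr_dt (K39.f146354 IH) (Lpr_gf (K36.f210734 IH) (Lpr_df (K37.f503030 IH) (Lpq (K37.f540353 IH) (Lpr_et (K28.f208963 IH) (Lpe (K37.f439422 IH) (Lpe (f488304 IH) (Lpn (LP (LK LD1_c13 LD2_c50 LD3_c43))))))))))))))
theorem f515984 : Led Lsl_dt (LP (LK LD1_c3 LD2_c33 LD3_c53)) = (LP (LK LD1_c7 LD2_c8 LD3_c47)) :=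
  Lre_d IH (LK LD1_c3 LD2_c33 LD3_c53) (LK LD1_c7 LD2_c8 LD3_c47) Lrfl Lrfl
theorem f526940 : Led Lsl_et (LP (LK LD1_c3 LD2_c33 LD3_c53)) = (LP (LK LD1_c7 LD2_c8 LD3_c48)) :=
  Lre_e IH (LK LD1_c3 LD2_c33 LD3_c53) (LK LD1_c7 LD2_c8 LD3_c48) Lrfl Lrfl
theorem f554187 : Led Lsl_dt (LP (LK LD1_c13 LD2_c32 LD3_c7)) = (LP (LK LD1_c13 LD2_c47 LD3_c22)) :=
  Lgr Lrot42 (Lpr_df (K39.f554183 IH) (Lpn (LP (LK LD1_c13 LD2_c47 LD3_c22))))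
theorem f567458 : Led Lsl_gt (LP (LK LD1_c13 LD2_c47 LD3_c22)) = (LP (LK LD1_c17 LD2_c15 LD3_c25)) :=
  Lgr Lrot139 (Lpe (f554187 IH) (Lpe (K39.f456582 IH) (Lpe (f526940 IH) (Lpr_dt (f515984 IH) (Lpe (f456598 IH) (Lpr_df (f567452 IH) (Lpr_et (f488304 IH) (Lpe (K37.f543400 IH) (Lpe (K42.f210903 IH) (Lpr_dt (K42.f210890 IH) (Lpn (LP (LK LD1_c17 LD2_c15 LD3_c25)))))))))))))
theorem f607639 : Led Lsl_ct (LP (LK LD1_c30 LD2_c52 LD3_c47)) = (LP (LK LD1_c31 LD2_c8 LD3_c58)) :=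
  Lgr Lrot152 (Lpe (f541939 IH) (Lpe (K36.f116256 IH) (Lpr_gt (f541903 IH) (Lpr_ct (f607635 IH) (Lpr_gt (f567458 IH) (Lpe (K42.f567931 IH) (Lpe (K39.f208993 IH) (Lpr_cf (K39.f560460 IH) (Lpe (f560471 IH) (Lpn (LP (LK LD1_c31 LD2_c8 LD3_c58))))))))))))
theorem f607641 : Led Lsl_cf (LP (LK LD1_c30 LD2_c52 LD3_c47)) = (LP (LK LD1_c31 LD2_c8 LD3_c58)) :=
  Lgr Lrot11 (Lpr_ct (f607639 IH) (Lpn (LP (LK LD1_c31 LD2_c8 LD3_c58))))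
theorem f116608 : Led Lsl_bf (LP (LK LD1_c13 LD2_c3 LD3_c16)) = (LP (LK LD1_c14 LD2_c15 LD3_c39)) :=
  Lgr Lrot24 (Lpr_bt (K7.f116575 IH) (Lpn (LP (LK LD1_c14 LD2_c15 LD3_c39))))
theorem f476572 : Led Lsl_ct (LP (LK LD1_c22 LD2_c46 LD3_c17)) = (LP (LK LD1_c13 LD2_c26 LD3_c47)) :=
  Lre_c IH (LK LD1_c22 LD2_c46 LD3_c17) (LK LD1_c13 LD2_c26 LD3_c47) Lrfl Lrfl
theorem f476573 : Led Lsl_bf (LP (LK LD1_c22 LD2_c12 LD3_c36)) = (LP (LK LD1_c22 LD2_c46 LD3_c17)) :=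
  Lgr Lrot156 (Lpr_gt (K41.f476500 IH) (Lpe (K41.f473450 IH) (Lpr_ct (K34.f473451 IH) (Lpr_gt (K29.f17684 IH) (Lpr_cf (K3.f91228 IH) (Lpe (K28.f97510 IH) (Lpe (K34.f476498 IH) (Lpr_ct (K43.f476565 IH) (Lpr_gt (K43.f476568 IH) (Lpe (f476572 IH) (Lpn (LP (LK LD1_c22 LD2_c46 LD3_c17)))))))))))))
theorem f476575 : Led Lsl_bt (LP (LK LD1_c22 LD2_c12 LD3_c36)) = (LP (LK LD1_c22 LD2_c46 LD3_c17)) :=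
  Lgr Lrot127 (Lpr_bf (f476573 IH) (Lpn (LP (LK LD1_c22 LD2_c46 LD3_c17))))
theorem f575208 : Led Lsl_ff (LP (LK LD1_c14 LD2_c15 LD3_c39)) = (LP (LK LD1_c22 LD2_c46 LD3_c17)) :=
  Lgr Lrot25 (Lpe (f116608 IH) (Lpr_ft (K43.f575204 IH) (Lpr_bt (f476575 IH) (Lpn (LP (LK LD1_c22 LD2_c46 LD3_c17))))))
theorem f575367 : Led Lsl_af (LP (LK LD1_c22 LD2_c46 LD3_c17)) = (LP (LK LD1_c23 LD2_c4 LD3_c4)) :=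
  Lgr Lrot45 (Lpe (f575208 IH) (Lpe (K28.f426542 IH) (Lpr_ft (K43.f575246 IH) (Lpn (LP (LK LD1_c23 LD2_c4 LD3_c4))))))
theorem f589927 : Led Lsl_gf (LP (LK LD1_c22 LD2_c46 LD3_c17)) = (LP (LK LD1_c21 LD2_c14 LD3_c7)) :=
  Lgr Lrot76 (Lpr_af (f575367 IH) (Lpe (K43.f575246 IH) (Lpr_gt (K46.f589925 IH) (Lpn (LP (LK LD1_c21 LD2_c14 LD3_c7))))))
theorem f476571 : Led Lsl_ct (LP (LK LD1_c13 LD2_c26 LD3_c47)) = (LP (LK LD1_c22 LD2_c46 LD3_c17)) :=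
  Lre_c IH (LK LD1_c13 LD2_c26 LD3_c47) (LK LD1_c22 LD2_c46 LD3_c17) Lrfl Lrfl
theorem f544272 : Led Lsl_gt (LP (LK LD1_c22 LD2_c46 LD3_c15)) = (LP (LK LD1_c13 LD2_c26 LD3_c42)) :=
  Lre_g IH (LK LD1_c22 LD2_c46 LD3_c15) (LK LD1_c13 LD2_c26 LD3_c42) Lrfl Lrfl
theorem f590005 : Led Lsl_bt (LP (LK LD1_c13 LD2_c26 LD3_c47)) = (LP (LK LD1_c22 LD2_c46 LD3_c15)) :=
  Lgr Lrot130 (Lpr_ct (f476571 IH) (Lpr_gf (f589927 IH) (Lpe (K43.f543768 IH) (Lpr_bt (K46.f543793 IH) (Lpr_gf (K43.f564333 IH) (Lpe (K7.f94468 IH) (Lpr_ct (K43.f94471 IH) (Lpe (K43.f564331 IH) (Lpr_cf (K43.f544235 IH) (Lpe (f544272 IH) (Lpn (LP (LK LD1_c22 LD2_c46 LD3_c15)))))))))))))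
theorem f575272 : Led Lsl_gt (LP (LK LD1_c22 LD2_c36 LD3_c29)) = (LP (LK LD1_c13 LD2_c20 LD3_c12)) :=
  Lgr Lrot5 (Lpr_ft (K43.f426696 IH) (Lpr_at (K41.f426874 IH) (Lpr_gf (K43.f575254 IH) (Lpn (LP (LK LD1_c13 LD2_c20 LD3_c12))))))
theorem f97063 : Led Lsl_et (LP (LK LD1_c7 LD2_c12 LD3_c12)) = (LP (LK LD1_c13 LD2_c38 LD3_c34)) :=
  Lre_e IH (LK LD1_c7 LD2_c12 LD3_c12) (LK LD1_c13 LD2_c38 LD3_c34) Lrfl Lrfl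
theorem f463867 : Led Lsl_cf (LP (LK LD1_c7 LD2_c12 LD3_c12)) = (LP (LK LD1_c7 LD2_c0 LD3_c8)) :=
  Lgr Lrot39 (Lpr_et (f97063 IH) (Lpr_ct (K47.f463862 IH) (Lpr_et (K28.f463866 IH) (Lpn (LP (LK LD1_c7 LD2_c0 LD3_c8))))))
theorem f463876 : Led Lsl_ct (LP (LK LD1_c23 LD2_c3 LD3_c37)) = (LP (LK LD1_c13 LD2_c38 LD3_c31)) :=
  Lre_c IH (LK LD1_c23 LD2_c3 LD3_c37) (LK LD1_c13 LD2_c38 LD3_c31) Lrfl Lrfl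
theorem f575298 : Led Lsl_bf (LP (LK LD1_c22 LD2_c36 LD3_c29)) = (LP (LK LD1_c23 LD2_c3 LD3_c37)) :=
  Lgr Lrot165 (Lpr_gt (f575272 IH) (Lpe (K33.f466509 IH) (Lpr_gt (K33.f466501 IH) (Lpe (K4.f92415 IH) (Lpr_bt (K33.f92396 IH) (Lpr_gt (K29.f460222 IH) (Lpe (K28.f63031 IH) (Lpe (f463867 IH) (Lpr_gt (K41.f97071 IH) (Lpe (f463876 IH) (Lpn (LP (LK LD1_c23 LD2_c3 LD3_c37)))))))))))))
theorem f513519 : Led Lsl_cf (LP (LK LD1_c23 LD2_c3 LD3_c45)) = (LP (LK LD1_c22 LD2_c12 LD3_c36)) :=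
  Lgr Lrot11 (Lpr_ct (K43.f513516 IH) (Lpn (LP (LK LD1_c22 LD2_c12 LD3_c36))))
theorem f575196 : Led Lsl_et (LP (LK LD1_c22 LD2_c36 LD3_c29)) = (LP (LK LD1_c22 LD2_c12 LD3_c36)) :=
  Lgr Lrot158 (Lpr_cf (K43.f575140 IH) (Lpr_ef (K43.f575194 IH) (Lpr_cf (f513519 IH) (Lpn (LP (LK LD1_c22 LD2_c12 LD3_c36))))))
theorem f575306 : Led Lsl_et (LP (LK LD1_c22 LD2_c46 LD3_c17)) = (LP (LK LD1_c23 LD2_c3 LD3_c37)) :=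
  Lgr Lrot74 (Lpe (f476575 IH) (Lpe (f575196 IH) (Lpr_bf (f575298 IH) (Lpn (LP (LK LD1_c23 LD2_c3 LD3_c37))))))
theorem f575308 : Led Lsl_ef (LP (LK LD1_c13 LD2_c26 LD3_c47)) = (LP (LK LD1_c13 LD2_c38 LD3_c31)) :=
  Lgr Lrot28 (Lpr_ct (f476571 IH) (Lpr_et (f575306 IH) (Lpr_ct (f463876 IH) (Lpn (LP (LK LD1_c13 LD2_c38 LD3_c31))))))
theorem f590014 : Led Lsl_ef (LP (LK LD1_c22 LD2_c46 LD3_c37)) = (LP (LK LD1_c22 LD2_c46 LD3_c15)) :=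
  Lgr Lrot29 (Lpe (K41.f510992 IH) (Lpe (f575308 IH) (Lpr_bt (f590005 IH) (Lpn (LP (LK LD1_c22 LD2_c46 LD3_c15))))))
theorem f576645 : Led Lsl_bt (LP (LK LD1_c8 LD2_c45 LD3_c60)) = (LP (LK LD1_c16 LD2_c24 LD3_c13)) :=
  Lre_b IH (LK LD1_c8 LD2_c45 LD3_c60) (LK LD1_c16 LD2_c24 LD3_c13) Lrfl Lrfl
theorem f576825 : Led Lsl_gt (LP (LK LD1_c16 LD2_c24 LD3_c13)) = (LP (LK LD1_c22 LD2_c46 LD3_c37)) :=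
  Lgr Lrot82 (Lpe (f576645 IH) (Lpr_ct (K43.f576648 IH) (Lpe (K39.f439412 IH) (Lpr_cf (K37.f128306 IH) (Lpr_bt (K28.f93166 IH) (Lpr_gf (K24.f93157 IH) (Lpe (K33.f93165 IH) (Lpe (K33.f468826 IH) (Lpr_gf (K41.f510990 IH) (Lpe (K41.f489466 IH) (Lpn (LP (LK LD1_c22 LD2_c46 LD3_c37)))))))))))))
theorem f237687 : Led Lsl_dt (LP (LK LD1_c16 LD2_c21 LD3_c11)) = (LP (LK LD1_c8 LD2_c43 LD3_c58)) :=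
  Lre_d IH (LK LD1_c16 LD2_c21 LD3_c11) (LK LD1_c8 LD2_c43 LD3_c58) Lrfl Lrfl
theorem f576762 : Led Lsl_ef (LP (LK LD1_c8 LD2_c45 LD3_c60)) = (LP (LK LD1_c16 LD2_c21 LD3_c11)) :=
  Lgr Lrot167 (Lpr_gt (K46.f576650 IH) (Lpe (K37.f544189 IH) (Lpr_gt (K46.f420666 IH) (Lpe (K46.f81298 IH) (Lpe (K46.f558988 IH) (Lpr_gt (K29.f11805 IH) (Lpr_ef (K28.f464989 IH) (Lpr_dt (K39.f552875 IH) (Lpr_gt (K39.f418028 IH) (Lpe (f237687 IH) (Lpn (LP (LK LD1_c16 LD2_c21 LD3_c11)))))))))))))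
theorem f576769 : Led Lsl_et (LP (LK LD1_c8 LD2_c45 LD3_c60)) = (LP (LK LD1_c16 LD2_c21 LD3_c11)) :=
  Lgr Lrot87 (Lpr_ef (f576762 IH) (Lpn (LP (LK LD1_c16 LD2_c21 LD3_c11))))
theorem f576759 : Led Lsl_bt (LP (LK LD1_c16 LD2_c24 LD3_c13)) = (LP (LK LD1_c8 LD2_c45 LD3_c60)) :=
  Lre_b IH (LK LD1_c16 LD2_c24 LD3_c13) (LK LD1_c8 LD2_c45 LD3_c60) Lrfl Lrfl
theorem f576771 : Led Lsl_bt (LP (LK LD1_c16 LD2_c21 LD3_c11)) = (LP (LK LD1_c26 LD2_c19 LD3_c11)) :=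
  Lre_b IH (LK LD1_c16 LD2_c21 LD3_c11) (LK LD1_c26 LD2_c19 LD3_c11) Lrfl Lrfl
theorem f576772 : Led Lsl_ef (LP (LK LD1_c16 LD2_c24 LD3_c13)) = (LP (LK LD1_c26 LD2_c19 LD3_c11)) :=
  Lgr Lrot29 (Lpr_bt (f576759 IH) (Lpr_et (f576769 IH) (Lpr_bt (f576771 IH) (Lpn (LP (LK LD1_c26 LD2_c19 LD3_c11))))))
theorem f576778 : Led Lsl_dt (LP (LK LD1_c26 LD2_c19 LD3_c11)) = (LP (LK LD1_c16 LD2_c21 LD3_c9)) :=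
  Lre_d IH (LK LD1_c26 LD2_c19 LD3_c11) (LK LD1_c16 LD2_c21 LD3_c9) Lrfl Lrfl
theorem f576829 : Led Lsl_gf (LP (LK LD1_c16 LD2_c24 LD3_c13)) = (LP (LK LD1_c13 LD2_c46 LD3_c25)) :=
  Lgr Lrot124 (Lpe (f576645 IH) (Lpr_ct (K43.f576648 IH) (Lpe (K39.f543404 IH) (Lpe (K11.f75744 IH) (Lpr_bt (K43.f543387 IH) (Lpe (K43.f576827 IH) (Lpr_ct (K43.f476561 IH) (Lpe (K43.f575373 IH) (Lpe (K28.f94470 IH) (Lpr_bt (K7.f94462 IH) (Lpn (LP (LK LD1_c13 LD2_c46 LD3_c25)))))))))))))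
theorem f570646 : Led Lsl_df (LP (LK LD1_c8 LD2_c45 LD3_c25)) = (LP (LK LD1_c7 LD2_c16 LD3_c45)) :=
  Lgr Lrot38 (Lpr_dt (K42.f570642 IH) (Lpn (LP (LK LD1_c7 LD2_c16 LD3_c45))))
theorem f576833 : Led Lsl_gt (LP (LK LD1_c16 LD2_c21 LD3_c9)) = (LP (LK LD1_c23 LD2_c4 LD3_c39)) :=
  Lgr Lrot112 (Lpe (f576778 IH) (Lpe (f576772 IH) (Lpr_gf (f576829 IH) (Lpe (K28.f94474 IH) (Lpe (f570646 IH) (Lpr_gf (K43.f571634 IH) (Lpe (K43.f542963 IH) (Lpr_gf (K36.f425495 IH) (Lpe (K36.f96911 IH) (Lpr_dt (K45.f96919 IH) (Lpn (LP (LK LD1_c23 LD2_c4 LD3_c39)))))))))))))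
theorem f588409 : Led Lsl_ft (LP (LK LD1_c24 LD2_c55 LD3_c34)) = (LP (LK LD1_c15 LD2_c7 LD3_c13)) :=
  Lre_f IH (LK LD1_c24 LD2_c55 LD3_c34) (LK LD1_c15 LD2_c7 LD3_c13) Lrfl Lrfl
theorem f588410 : Led Lsl_gf (LP (LK LD1_c16 LD2_c21 LD3_c9)) = (LP (LK LD1_c24 LD2_c55 LD3_c34)) :=
  Lgr Lrot47 (Lpr_gt (f576833 IH) (Lpr_af (K45.f588402 IH) (Lpe (f588409 IH) (Lpn (LP (LK LD1_c24 LD2_c55 LD3_c34))))))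
theorem f588419 : Led Lsl_ft (LP (LK LD1_c15 LD2_c7 LD3_c13)) = (LP (LK LD1_c24 LD2_c55 LD3_c34)) :=
  Lre_f IH (LK LD1_c15 LD2_c7 LD3_c13) (LK LD1_c24 LD2_c55 LD3_c34) Lrfl Lrfl
theorem f588420 : Led Lsl_df (LP (LK LD1_c22 LD2_c29 LD3_c9)) = (LP (LK LD1_c24 LD2_c55 LD3_c34)) :=
  Lgr Lrot78 (Lpr_ft (K41.f564670 IH) (Lpr_dt (K45.f588407 IH) (Lpr_ft (f588419 IH) (Lpn (LP (LK LD1_c24 LD2_c55 LD3_c34))))))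
theorem f588423 : Led Lsl_dt (LP (LK LD1_c22 LD2_c29 LD3_c9)) = (LP (LK LD1_c24 LD2_c55 LD3_c34)) :=
  Lgr Lrot42 (Lpr_df (f588420 IH) (Lpn (LP (LK LD1_c24 LD2_c55 LD3_c34))))
theorem f558934 : Led Lsl_ef (LP (LK LD1_c14 LD2_c59 LD3_c32)) = (LP (LK LD1_c13 LD2_c29 LD3_c13)) :=
  Lgr Lrot88 (Lpr_et (K40.f558927 IH) (Lpn (LP (LK LD1_c13 LD2_c29 LD3_c13))))
theorem f558936 : Led Lsl_bt (LP (LK LD1_c14 LD2_c59 LD3_c32)) = (LP (LK LD1_c24 LD2_c46 LD3_c60)) :=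
  Lre_b IH (LK LD1_c14 LD2_c59 LD3_c32) (LK LD1_c24 LD2_c46 LD3_c60) Lrfl Lrfl
theorem f558937 : Led Lsl_et (LP (LK LD1_c24 LD2_c46 LD3_c60)) = (LP (LK LD1_c22 LD2_c49 LD3_c33)) :=
  Lgr Lrot74 (Lpe (f558936 IH) (Lpr_ef (f558934 IH) (Lpe (K41.f11727 IH) (Lpn (LP (LK LD1_c22 LD2_c49 LD3_c33))))))
theorem f558944 : Led Lsl_dt (LP (LK LD1_c24 LD2_c46 LD3_c60)) = (LP (LK LD1_c14 LD2_c59 LD3_c31)) :=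
  Lre_d IH (LK LD1_c24 LD2_c46 LD3_c60) (LK LD1_c14 LD2_c59 LD3_c31) Lrfl Lrfl
theorem f544288 : Led Lsl_gt (LP (LK LD1_c24 LD2_c46 LD3_c59)) = (LP (LK LD1_c14 LD2_c59 LD3_c31)) :=
  Lre_g IH (LK LD1_c24 LD2_c46 LD3_c59) (LK LD1_c14 LD2_c59 LD3_c31) Lrfl Lrfl
theorem f590049 : Led Lsl_df (LP (LK LD1_c24 LD2_c46 LD3_c59)) = (LP (LK LD1_c22 LD2_c46 LD3_c15)) :=
  Lgr Lrot170 (Lpr_gt (f544288 IH) (Lpe (f558944 IH) (Lpr_et (f558937 IH) (Lpr_gt (K41.f489517 IH) (Lpr_dt (f588423 IH) (Lpe (f588410 IH) (Lpe (f576778 IH) (Lpe (f576772 IH) (Lpr_gt (f576825 IH) (Lpr_ef (f590014 IH) (Lpn (LP (LK LD1_c22 LD2_c46 LD3_c15)))))))))))))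
theorem f590016 : Led Lsl_ff (LP (LK LD1_c13 LD2_c46 LD3_c25)) = (LP (LK LD1_c22 LD2_c46 LD3_c15)) :=
  Lgr Lrot25 (Lpe (K41.f94464 IH) (Lpr_ft (K43.f578401 IH) (Lpr_bt (f590005 IH) (Lpn (LP (LK LD1_c22 LD2_c46 LD3_c15))))))
theorem f590047 : Led Lsl_ft (LP (LK LD1_c13 LD2_c46 LD3_c25)) = (LP (LK LD1_c22 LD2_c46 LD3_c15)) :=
  Lgr Lrot48 (Lpr_ff (f590016 IH) (Lpn (LP (LK LD1_c22 LD2_c46 LD3_c15))))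
theorem f590055 : Led Lsl_ft (LP (LK LD1_c24 LD2_c46 LD3_c59)) = (LP (LK LD1_c15 LD2_c8 LD3_c3)) :=
  Lgr Lrot54 (Lpr_df (f590049 IH) (Lpe (f590047 IH) (Lpe (K44.f570652 IH) (Lpn (LP (LK LD1_c15 LD2_c8 LD3_c3))))))
theorem f163420 : Led Lsl_bf (LP (LK LD1_c11 LD2_c33 LD3_c0)) = (LP (LK LD1_c15 LD2_c8 LD3_c3)) :=
  Lgr Lrot96 (Lpr_et (K43.f72431 IH) (Lpr_bt (K36.f163414 IH) (Lpr_et (K44.f163419 IH) (Lpn (LP (LK LD1_c15 LD2_c8 LD3_c3))))))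
theorem f590059 : Led Lsl_bf (LP (LK LD1_c24 LD2_c46 LD3_c59)) = (LP (LK LD1_c20 LD2_c30 LD3_c6)) :=
  Lgr Lrot61 (Lpr_ft (f590055 IH) (Lpe (f163420 IH) (Lpr_ft (K43.f163425 IH) (Lpn (LP (LK LD1_c20 LD2_c30 LD3_c6))))))
theorem f544285 : Led Lsl_bt (LP (LK LD1_c7 LD2_c56 LD3_c46)) = (LP (LK LD1_c14 LD2_c59 LD3_c31)) :=
  Lre_b IH (LK LD1_c7 LD2_c56 LD3_c46) (LK LD1_c14 LD2_c59 LD3_c31) Lrfl Lrfl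
theorem f443098 : Led Lsl_ct (LP (LK LD1_c6 LD2_c14 LD3_c42)) = (LP (LK LD1_c12 LD2_c7 LD3_c39)) :=
  Lre_c IH (LK LD1_c6 LD2_c14 LD3_c42) (LK LD1_c12 LD2_c7 LD3_c39) Lrfl Lrfl
theorem f443099 : Led Lsl_gt (LP (LK LD1_c12 LD2_c7 LD3_c39)) = (LP (LK LD1_c21 LD2_c13 LD3_c55)) :=
  Lre_g IH (LK LD1_c12 LD2_c7 LD3_c39) (LK LD1_c21 LD2_c13 LD3_c55) Lrfl Lrfl
theorem f590077 : Led Lsl_cf (LP (LK LD1_c21 LD2_c13 LD3_c55)) = (LP (LK LD1_c20 LD2_c30 LD3_c6)) :=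
  Lgr Lrot163 (Lpe (f443099 IH) (Lpe (f443098 IH) (Lpe (K37.f75673 IH) (Lpe (K37.f75657 IH) (Lpr_ct (K37.f70434 IH) (Lpe (K37.f75768 IH) (Lpe (K37.f544244 IH) (Lpr_bt (f544285 IH) (Lpe (f544288 IH) (Lpr_bf (f590059 IH) (Lpn (LP (LK LD1_c20 LD2_c30 LD3_c6)))))))))))))
theorem f590079 : Led Lsl_ft (LP (LK LD1_c21 LD2_c13 LD3_c55)) = (LP (LK LD1_c20 LD2_c30 LD3_c5)) :=
  Lgr Lrot4 (Lpr_cf (f590077 IH) (Lpe (K43.f163425 IH) (Lpe (K32.f163426 IH) (Lpn (LP (LK LD1_c20 LD2_c30 LD3_c5))))))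
theorem f469665 : Led Lsl_bf (LP (LK LD1_c13 LD2_c55 LD3_c61)) = (LP (LK LD1_c14 LD2_c5 LD3_c12)) :=
  Lgr Lrot61 (Lpr_ft (K34.f469652 IH) (Lpr_bt (K28.f209116 IH) (Lpr_ft (K37.f209123 IH) (Lpn (LP (LK LD1_c14 LD2_c5 LD3_c12))))))
theorem f543564 : Led Lsl_bf (LP (LK LD1_c12 LD2_c8 LD3_c18)) = (LP (LK LD1_c13 LD2_c50 LD3_c25)) :=
  Lgr Lrot90 (Lpr_ct (K37.f543560 IH) (Lpe (f469665 IH) (Lpr_ct (K43.f469682 IH) (Lpr_bt (K35.f464070 IH) (Lpe (K28.f464067 IH) (Lpn (LP (LK LD1_c13 LD2_c50 LD3_c25))))))))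
theorem f543703 : Led Lsl_bt (LP (LK LD1_c12 LD2_c7 LD3_c47)) = (LP (LK LD1_c7 LD2_c17 LD3_c18)) :=
  Lgr Lrot127 (Lpr_bf (K37.f543701 IH) (Lpn (LP (LK LD1_c7 LD2_c17 LD3_c18))))
theorem f543705 : Led Lsl_ct (LP (LK LD1_c12 LD2_c7 LD3_c47)) = (LP (LK LD1_c21 LD2_c14 LD3_c10)) :=
  Lre_c IH (LK LD1_c12 LD2_c7 LD3_c47) (LK LD1_c21 LD2_c14 LD3_c10) Lrfl Lrfl
theorem f589897 : Led Lsl_gf (LP (LK LD1_c20 LD2_c41 LD3_c46)) = (LP (LK LD1_c21 LD2_c14 LD3_c10)) :=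
  Lgr Lrot126 (Lpe (K28.f426629 IH) (Lpe (K46.f427182 IH) (Lpr_gt (K46.f589893 IH) (Lpr_ct (K28.f463846 IH) (Lpr_gt (K28.f463874 IH) (Lpe (K43.f464071 IH) (Lpe (f543564 IH) (Lpe (K47.f576652 IH) (Lpe (f543703 IH) (Lpr_ct (f543705 IH) (Lpn (LP (LK LD1_c21 LD2_c14 LD3_c10)))))))))))))
theorem f420567 : Led Lsl_gt (LP (LK LD1_c12 LD2_c7 LD3_c31)) = (LP (LK LD1_c6 LD2_c14 LD3_c43)) :=
  Lre_g IH (LK LD1_c12 LD2_c7 LD3_c31) (LK LD1_c6 LD2_c14 LD3_c43) Lrfl Lrfl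
theorem f543734 : Led Lsl_ct (LP (LK LD1_c6 LD2_c14 LD3_c43)) = (LP (LK LD1_c12 LD2_c7 LD3_c43)) :=
  Lre_c IH (LK LD1_c6 LD2_c14 LD3_c43) (LK LD1_c12 LD2_c7 LD3_c43) Lrfl Lrfl
theorem f589903 : Led Lsl_gf (LP (LK LD1_c20 LD2_c31 LD3_c16)) = (LP (LK LD1_c12 LD2_c7 LD3_c43)) :=
  Lgr Lrot104 (Lpe (K32.f161167 IH) (Lpr_df (K43.f578493 IH) (Lpr_cf (K28.f426650 IH) (Lpr_gf (f589897 IH) (Lpe (f543705 IH) (Lpr_gf (K37.f543712 IH) (Lpe (K37.f543719 IH) (Lpr_gt (f420567 IH) (Lpr_ct (f543734 IH) (Lpn (LP (LK LD1_c12 LD2_c7 LD3_c43))))))))))))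
theorem f590083 : Led Lsl_gt (LP (LK LD1_c21 LD2_c13 LD3_c55)) = (LP (LK LD1_c12 LD2_c7 LD3_c43)) :=
  Lgr Lrot5 (Lpr_ft (f590079 IH) (Lpr_at (K32.f497356 IH) (Lpr_gf (f589903 IH) (Lpn (LP (LK LD1_c12 LD2_c7 LD3_c43))))))
theorem f108402 : Led Lsl_ct (LP (LK LD1_c7 LD2_c5 LD3_c48)) = (LP (LK LD1_c13 LD2_c26 LD3_c60)) :=
  Lre_c IH (LK LD1_c7 LD2_c5 LD3_c48) (LK LD1_c13 LD2_c26 LD3_c60) Lrfl Lrfl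
theorem f92324 : Led Lsl_dt (LP (LK LD1_c3 LD2_c39 LD3_c25)) = (LP (LK LD1_c7 LD2_c19 LD3_c3)) :=
  Lre_d IH (LK LD1_c3 LD2_c39 LD3_c25) (LK LD1_c7 LD2_c19 LD3_c3) Lrfl Lrfl
theorem f488662 : Led Lsl_gf (LP (LK LD1_c13 LD2_c50 LD3_c37)) = (LP (LK LD1_c13 LD2_c26 LD3_c60)) :=
  Lgr Lrot104 (Lpr_ct (K43.f92327 IH) (Lpe (f92324 IH) (Lpr_cf (K4.f92312 IH) (Lpr_gf (K33.f121771 IH) (Lpr_cf (K37.f466599 IH) (Lpe (K28.f97380 IH) (Lpe (K33.f98565 IH) (Lpr_gt (K43.f108394 IH) (Lpr_ct (f108402 IH) (Lpn (LP (LK LD1_c13 LD2_c26 LD3_c60))))))))))))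
theorem f439487 : Led Lsl_ft (LP (LK LD1_c7 LD2_c17 LD3_c22)) = (LP (LK LD1_c13 LD2_c47 LD3_c27)) :=
  Lre_f IH (LK LD1_c7 LD2_c17 LD3_c22) (LK LD1_c13 LD2_c47 LD3_c27) Lrfl Lrfl
theorem f488664 : Led Lsl_gt (LP (LK LD1_c7 LD2_c17 LD3_c22)) = (LP (LK LD1_c13 LD2_c26 LD3_c60)) :=
  Lgr Lrot5 (Lpr_ft (f439487 IH) (Lpr_at (K43.f439480 IH) (Lpr_gf (f488662 IH) (Lpn (LP (LK LD1_c13 LD2_c26 LD3_c60))))))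
theorem f589920 : Led Lsl_bt (LP (LK LD1_c6 LD2_c14 LD3_c43)) = (LP (LK LD1_c12 LD2_c7 LD3_c42)) :=
  Lre_b IH (LK LD1_c6 LD2_c14 LD3_c43) (LK LD1_c12 LD2_c7 LD3_c42) Lrfl Lrfl
theorem f590087 : Led Lsl_gf (LP (LK LD1_c7 LD2_c17 LD3_c19)) = (LP (LK LD1_c12 LD2_c7 LD3_c42)) :=
  Lgr Lrot124 (Lpe (K39.f97261 IH) (Lpr_ct (K43.f97262 IH) (Lpr_gt (f488664 IH) (Lpe (f108402 IH) (Lpr_bt (K43.f488666 IH) (Lpe (K43.f578409 IH) (Lpe (f590077 IH) (Lpr_gt (f590083 IH) (Lpe (f543734 IH) (Lpr_bt (f589920 IH) (Lpn (LP (LK LD1_c12 LD2_c7 LD3_c42)))))))))))))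
theorem f590089 : Led Lsl_gt (LP (LK LD1_c17 LD2_c15 LD3_c25)) = (LP (LK LD1_c12 LD2_c7 LD3_c42)) :=
  Lgr Lrot5 (Lpr_ft (K42.f210889 IH) (Lpr_at (K42.f543605 IH) (Lpr_gf (f590087 IH) (Lpn (LP (LK LD1_c12 LD2_c7 LD3_c42))))))
theorem f590094 : Led Lsl_gf (LP (LK LD1_c13 LD2_c38 LD3_c24)) = (LP (LK LD1_c21 LD2_c13 LD3_c60)) :=
  Lgr Lrot104 (Lpr_ct (K36.f116161 IH) (Lpe (K36.f116254 IH) (Lpr_cf (K36.f116136 IH) (Lpe (K34.f116155 IH) (Lpr_cf (K37.f469399 IH) (Lpr_gf (K47.f576652 IH) (Lpr_df (K43.f210898 IH) (Lpr_gt (f590089 IH) (Lpr_ct (f443103 IH) (Lpn (LP (LK LD1_c21 LD2_c13 LD3_c60))))))))))))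
theorem f470241 : Led Lsl_ct (LP (LK LD1_c23 LD2_c14 LD3_c50)) = (LP (LK LD1_c13 LD2_c47 LD3_c18)) :=
  Lre_c IH (LK LD1_c23 LD2_c14 LD3_c50) (LK LD1_c13 LD2_c47 LD3_c18) Lrfl Lrfl
theorem f590098 : Led Lsl_dt (LP (LK LD1_c30 LD2_c52 LD3_c47)) = (LP (LK LD1_c23 LD2_c14 LD3_c50)) :=
  Lgr Lrot105 (Lpe (f541939 IH) (Lpe (K36.f116256 IH) (Lpr_gf (f590094 IH) (Lpe (f443103 IH) (Lpe (f590087 IH) (Lpr_dt (K39.f439566 IH) (Lpr_gt (K35.f439550 IH) (Lpr_dt (K43.f439551 IH) (Lpe (f470241 IH) (Lpn (LP (LK LD1_c23 LD2_c14 LD3_c50))))))))))))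
theorem f116147 : Led Lsl_ct (LP (LK LD1_c14 LD2_c7 LD3_c24)) = (LP (LK LD1_c23 LD2_c41 LD3_c52)) :=
  Lre_c IH (LK LD1_c14 LD2_c7 LD3_c24) (LK LD1_c23 LD2_c41 LD3_c52) Lrfl Lrfl
theorem f469434 : Led Lsl_gt (LP (LK LD1_c23 LD2_c38 LD3_c42)) = (LP (LK LD1_c31 LD2_c8 LD3_c57)) :=
  Lre_g IH (LK LD1_c23 LD2_c38 LD3_c42) (LK LD1_c31 LD2_c8 LD3_c57) Lrfl Lrfl
theorem f469435 : Led Lsl_ct (LP (LK LD1_c23 LD2_c41 LD3_c52)) = (LP (LK LD1_c14 LD2_c7 LD3_c24)) :=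
  Lre_c IH (LK LD1_c23 LD2_c41 LD3_c52) (LK LD1_c14 LD2_c7 LD3_c24) Lrfl Lrfl
theorem f469436 : Led Lsl_dt (LP (LK LD1_c31 LD2_c8 LD3_c57)) = (LP (LK LD1_c23 LD2_c41 LD3_c52)) :=
  Lgr Lrot105 (Lpe (f469434 IH) (Lpe (K39.f439568 IH) (Lpe (K39.f439577 IH) (Lpr_cf (K39.f469427 IH) (Lpr_gt (K39.f116176 IH) (Lpr_dt (K36.f116175 IH) (Lpr_gt (K35.f116145 IH) (Lpr_dt (K40.f116146 IH) (Lpe (f469435 IH) (Lpn (LP (LK LD1_c23 LD2_c41 LD3_c52))))))))))))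
theorem f469439 : Led Lsl_df (LP (LK LD1_c31 LD2_c8 LD3_c57)) = (LP (LK LD1_c23 LD2_c41 LD3_c52)) :=
  Lgr Lrot38 (Lpr_dt (f469436 IH) (Lpn (LP (LK LD1_c23 LD2_c41 LD3_c52))))
theorem f560314 : Led Lsl_cf (LP (LK LD1_c30 LD2_c40 LD3_c3)) = (LP (LK LD1_c22 LD2_c44 LD3_c29)) :=
  Lgr Lrot1 (Lpr_at (K39.f560308 IH) (Lpr_ct (K33.f469156 IH) (Lpr_at (K28.f469422 IH) (Lpn (LP (LK LD1_c22 LD2_c44 LD3_c29))))))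
theorem f462028 : Led Lsl_gt (LP (LK LD1_c30 LD2_c52 LD3_c48)) = (LP (LK LD1_c23 LD2_c3 LD3_c34)) :=
  Lre_g IH (LK LD1_c30 LD2_c52 LD3_c48) (LK LD1_c23 LD2_c3 LD3_c34) Lrfl Lrfl
theorem f560332 : Led Lsl_ct (LP (LK LD1_c31 LD2_c8 LD3_c57)) = (LP (LK LD1_c30 LD2_c52 LD3_c48)) :=
  Lgr Lrot152 (Lpe (f469434 IH) (Lpe (K39.f439568 IH) (Lpr_gt (K39.f533631 IH) (Lpe (K39.f535062 IH) (Lpe (f469447 IH) (Lpe (f560314 IH) (Lpr_df (K39.f560316 IH) (Lpe (K36.f116257 IH) (Lpe (f462028 IH) (Lpn (LP (LK LD1_c30 LD2_c52 LD3_c48))))))))))))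
theorem f608427 : Led Lsl_df (LP (LK LD1_c23 LD2_c14 LD3_c52)) = (LP (LK LD1_c30 LD2_c52 LD3_c48)) :=
  Lgr Lrot43 (Lpr_ct (f469406 IH) (Lpr_dt (K40.f439578 IH) (Lpe (K37.f469399 IH) (Lpr_dt (K40.f116264 IH) (Lpr_ct (f469374 IH) (Lpr_dt (f608424 IH) (Lpe (f607641 IH) (Lpr_dt (f590098 IH) (Lpr_ct (f470241 IH) (Lpr_dt (K43.f470240 IH) (Lpr_ct (K35.f470234 IH) (Lpr_dt (K40.f116146 IH) (Lpr_ct (f116147 IH) (Lpe (f469439 IH) (Lpr_ct (f560332 IH) (Lpn (LP (LK LD1_c30 LD2_c52 LD3_c48))))))))))))))))))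
theorem f439575 : Led Lsl_dt (LP (LK LD1_c7 LD2_c17 LD3_c18)) = (LP (LK LD1_c13 LD2_c47 LD3_c20)) :=
  Lre_d IH (LK LD1_c7 LD2_c17 LD3_c18) (LK LD1_c13 LD2_c47 LD3_c20) Lrfl Lrfl
theorem f607637 : Led Lsl_cf (LP (LK LD1_c23 LD2_c3 LD3_c33)) = (LP (LK LD1_c13 LD2_c47 LD3_c22)) :=
  Lgr Lrot11 (Lpr_ct (f607635 IH) (Lpn (LP (LK LD1_c13 LD2_c47 LD3_c22))))
theorem f542002 : Led Lsl_ct (LP (LK LD1_c13 LD2_c57 LD3_c53)) = (LP (LK LD1_c12 LD2_c22 LD3_c51)) :=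
  Lgr Lrot59 (Lpr_cf (K36.f541998 IH) (Lpn (LP (LK LD1_c12 LD2_c22 LD3_c51))))
theorem f607647 : Led Lsl_gt (LP (LK LD1_c23 LD2_c3 LD3_c33)) = (LP (LK LD1_c13 LD2_c57 LD3_c53)) :=
  Lgr Lrot150 (Lpr_cf (f607637 IH) (Lpe (K39.f469405 IH) (Lpe (K39.f439638 IH) (Lpr_gt (K35.f439550 IH) (Lpr_ct (K35.f470234 IH) (Lpe (K35.f470232 IH) (Lpr_ct (K37.f469257 IH) (Lpr_df (K36.f540298 IH) (Lpe (f542002 IH) (Lpn (LP (LK LD1_c13 LD2_c57 LD3_c53))))))))))))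
theorem f608468 : Led Lsl_gt (LP (LK LD1_c23 LD2_c29 LD3_c49)) = (LP (LK LD1_c30 LD2_c52 LD3_c48)) :=
  Lgr Lrot49 (Lpe (K39.f542004 IH) (Lpe (f607647 IH) (Lpr_cf (f607637 IH) (Lpr_gt (f567458 IH) (Lpe (K43.f210898 IH) (Lpe (K47.f576652 IH) (Lpr_dt (f439575 IH) (Lpe (f469406 IH) (Lpr_df (f608427 IH) (Lpn (LP (LK LD1_c30 LD2_c52 LD3_c48))))))))))))
theorem f560334 : Led Lsl_cf (LP (LK LD1_c31 LD2_c8 LD3_c57)) = (LP (LK LD1_c30 LD2_c52 LD3_c48)) :=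
  Lgr Lrot11 (Lpr_ct (f560332 IH) (Lpn (LP (LK LD1_c30 LD2_c52 LD3_c48))))
theorem f576444 : Led Lsl_gt (LP (LK LD1_c31 LD2_c8 LD3_c57)) = (LP (LK LD1_c29 LD2_c55 LD3_c22)) :=
  Lgr Lrot46 (Lpe (f469434 IH) (Lpe (K39.f560479 IH) (Lpr_at (K43.f576438 IH) (Lpn (LP (LK LD1_c29 LD2_c55 LD3_c22))))))
theorem f559043 : Led Lsl_ct (LP (LK LD1_c29 LD2_c55 LD3_c22)) = (LP (LK LD1_c21 LD2_c14 LD3_c36)) :=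
  Lre_c IH (LK LD1_c29 LD2_c55 LD3_c22) (LK LD1_c21 LD2_c14 LD3_c36) Lrfl Lrfl
theorem f590091 : Led Lsl_ct (LP (LK LD1_c21 LD2_c13 LD3_c60)) = (LP (LK LD1_c12 LD2_c7 LD3_c42)) :=
  Lre_c IH (LK LD1_c21 LD2_c13 LD3_c60) (LK LD1_c12 LD2_c7 LD3_c42) Lrfl Lrfl
theorem f608470 : Led Lsl_gt (LP (LK LD1_c13 LD2_c57 LD3_c53)) = (LP (LK LD1_c21 LD2_c13 LD3_c60)) :=
  Lgr Lrot9 (Lpe (K42.f542007 IH) (Lpr_gt (f608468 IH) (Lpe (f560334 IH) (Lpr_gt (f576444 IH) (Lpr_ct (f559043 IH) (Lpe (K42.f559040 IH) (Lpr_cf (K42.f567927 IH) (Lpr_gf (f590087 IH) (Lpe (f590091 IH) (Lpn (LP (LK LD1_c21 LD2_c13 LD3_c60))))))))))))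
theorem f617735 : Led Lsl_gt (LP (LK LD1_c13 LD2_c38 LD3_c22)) = (LP (LK LD1_c12 LD2_c22 LD3_c51)) :=
  Lgr Lrot82 (Lpr_bf (f617728 IH) (Lpr_ct (K40.f561093 IH) (Lpe (K6.f70237 IH) (Lpe (K37.f70434 IH) (Lpr_bt (K37.f75657 IH) (Lpe (f75670 IH) (Lpe (f443102 IH) (Lpr_ct (f443103 IH) (Lpe (f608470 IH) (Lpr_cf (K36.f541998 IH) (Lpn (LP (LK LD1_c12 LD2_c22 LD3_c51)))))))))))))
theorem f479557 : Led Lsl_gt (LP (LK LD1_c13 LD2_c14 LD3_c20)) = (LP (LK LD1_c22 LD2_c29 LD3_c3)) :=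
  Lre_g IH (LK LD1_c13 LD2_c14 LD3_c20) (LK LD1_c22 LD2_c29 LD3_c3) Lrfl Lrfl
theorem f617737 : Led Lsl_df (LP (LK LD1_c13 LD2_c38 LD3_c22)) = (LP (LK LD1_c22 LD2_c29 LD3_c3)) :=
  Lgr Lrot153 (Lpr_gt (f617735 IH) (Lpe (K36.f540298 IH) (Lpe (K37.f469257 IH) (Lpe (K28.f469363 IH) (Lpr_gf (f469447 IH) (Lpr_df (K47.f535051 IH) (Lpe (K39.f472685 IH) (Lpe (K33.f479597 IH) (Lpr_gt (f479557 IH) (Lpn (LP (LK LD1_c22 LD2_c29 LD3_c3))))))))))))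
theorem f617743 : Led Lsl_dt (LP (LK LD1_c13 LD2_c38 LD3_c22)) = (LP (LK LD1_c22 LD2_c29 LD3_c3)) :=
  Lgr Lrot42 (Lpr_df (f617737 IH) (Lpn (LP (LK LD1_c22 LD2_c29 LD3_c3))))
theorem f205624 : Led Lsl_gt (LP (LK LD1_c12 LD2_c22 LD3_c54)) = (LP (LK LD1_c6 LD2_c24 LD3_c57)) :=
  Lre_g IH (LK LD1_c12 LD2_c22 LD3_c54) (LK LD1_c6 LD2_c24 LD3_c57) Lrfl Lrfl
theorem f205625 : Led Lsl_et (LP (LK LD1_c21 LD2_c29 LD3_c50)) = (LP (LK LD1_c12 LD2_c22 LD3_c54)) :=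
  Lre_e IH (LK LD1_c21 LD2_c29 LD3_c50) (LK LD1_c12 LD2_c22 LD3_c54) Lrfl Lrfl
theorem f458614 : Led Lsl_bt (LP (LK LD1_c13 LD2_c14 LD3_c15)) = (LP (LK LD1_c6 LD2_c58 LD3_c22)) :=
  Lre_b IH (LK LD1_c13 LD2_c14 LD3_c15) (LK LD1_c6 LD2_c58 LD3_c22) Lrfl Lrfl
theorem f519860 : Led Lsl_ff (LP (LK LD1_c13 LD2_c14 LD3_c15)) = (LP (LK LD1_c13 LD2_c14 LD3_c20)) :=
  Lgr Lrot25 (Lpr_bt (f458614 IH) (Lpr_ft (K33.f519858 IH) (Lpr_bt (K33.f455437 IH) (Lpn (LP (LK LD1_c13 LD2_c14 LD3_c20))))))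
theorem f464684 : Led Lsl_at (LP (LK LD1_c13 LD2_c14 LD3_c15)) = (LP (LK LD1_c22 LD2_c29 LD3_c0)) :=
  Lre_a IH (LK LD1_c13 LD2_c14 LD3_c15) (LK LD1_c22 LD2_c29 LD3_c0) Lrfl Lrfl
theorem f522168 : Led Lsl_gf (LP (LK LD1_c22 LD2_c29 LD3_c0)) = (LP (LK LD1_c22 LD2_c29 LD3_c3)) :=
  Lgr Lrot76 (Lpe (f464684 IH) (Lpr_ff (f519860 IH) (Lpr_gt (f479557 IH) (Lpn (LP (LK LD1_c22 LD2_c29 LD3_c3))))))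
theorem f617751 : Led Lsl_dt (LP (LK LD1_c21 LD2_c29 LD3_c50)) = (LP (LK LD1_c22 LD2_c29 LD3_c0)) :=
  Lgr Lrot56 (Lpr_et (f205625 IH) (Lpr_gt (f205624 IH) (Lpe (K37.f205623 IH) (Lpr_dt (K37.f205622 IH) (Lpe (K13.f205620 IH) (Lpe (K11.f80657 IH) (Lpr_et (K37.f544171 IH) (Lpr_gt (f463779 IH) (Lpr_dt (f617743 IH) (Lpe (f522168 IH) (Lpn (LP (LK LD1_c22 LD2_c29 LD3_c0)))))))))))))
theorem f617757 : Led Lsl_ff (LP (LK LD1_c21 LD2_c29 LD3_c50)) = (LP (LK LD1_c23 LD2_c3 LD3_c23)) :=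
  Lgr Lrot19 (Lpr_dt (f617751 IH) (Lpe (f520618 IH) (Lpe (K40.f560513 IH) (Lpn (LP (LK LD1_c23 LD2_c3 LD3_c23))))))
theorem f560511 : Led Lsl_af (LP (LK LD1_c23 LD2_c3 LD3_c23)) = (LP (LK LD1_c22 LD2_c29 LD3_c5)) :=
  Lgr Lrot117 (Lpr_dt (K40.f560509 IH) (Lpr_at (K33.f480586 IH) (Lpr_dt (K40.f480595 IH) (Lpn (LP (LK LD1_c22 LD2_c29 LD3_c5))))))
theorem f477677 : Led Lsl_bt (LP (LK LD1_c22 LD2_c29 LD3_c1)) = (LP (LK LD1_c13 LD2_c14 LD3_c16)) :=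
  Lre_b IH (LK LD1_c22 LD2_c29 LD3_c1) (LK LD1_c13 LD2_c14 LD3_c16) Lrfl Lrfl
theorem f511197 : Led Lsl_bt (LP (LK LD1_c13 LD2_c14 LD3_c21)) = (LP (LK LD1_c22 LD2_c29 LD3_c5)) :=
  Lre_b IH (LK LD1_c13 LD2_c14 LD3_c21) (LK LD1_c22 LD2_c29 LD3_c5) Lrfl Lrfl
theorem f519874 : Led Lsl_ff (LP (LK LD1_c22 LD2_c29 LD3_c1)) = (LP (LK LD1_c22 LD2_c29 LD3_c5)) :=
  Lgr Lrot25 (Lpr_bt (f477677 IH) (Lpr_ft (K33.f519872 IH) (Lpr_bt (f511197 IH) (Lpn (LP (LK LD1_c22 LD2_c29 LD3_c5))))))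
theorem f522166 : Led Lsl_ft (LP (LK LD1_c22 LD2_c29 LD3_c1)) = (LP (LK LD1_c22 LD2_c29 LD3_c5)) :=
  Lgr Lrot48 (Lpr_ff (f519874 IH) (Lpn (LP (LK LD1_c22 LD2_c29 LD3_c5))))
theorem f617761 : Led Lsl_at (LP (LK LD1_c21 LD2_c29 LD3_c50)) = (LP (LK LD1_c22 LD2_c29 LD3_c1)) :=
  Lgr Lrot66 (Lpr_ff (f617757 IH) (Lpr_af (f560511 IH) (Lpe (f522166 IH) (Lpn (LP (LK LD1_c22 LD2_c29 LD3_c1))))))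
theorem f239343 : Led Lsl_et (LP (LK LD1_c12 LD2_c22 LD3_c54)) = (LP (LK LD1_c21 LD2_c29 LD3_c50)) :=
  Lre_e IH (LK LD1_c12 LD2_c22 LD3_c54) (LK LD1_c21 LD2_c29 LD3_c50) Lrfl Lrfl
theorem f469373 : Led Lsl_ct (LP (LK LD1_c23 LD2_c41 LD3_c53)) = (LP (LK LD1_c14 LD2_c7 LD3_c26)) :=
  Lre_c IH (LK LD1_c23 LD2_c41 LD3_c53) (LK LD1_c14 LD2_c7 LD3_c26) Lrfl Lrfl
theorem f469277 : Led Lsl_dt (LP (LK LD1_c14 LD2_c5 LD3_c17)) = (LP (LK LD1_c7 LD2_c27 LD3_c47)) :=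
  Lre_d IH (LK LD1_c14 LD2_c5 LD3_c17) (LK LD1_c7 LD2_c27 LD3_c47) Lrfl Lrfl
theorem f439573 : Led Lsl_gt (LP (LK LD1_c14 LD2_c5 LD3_c17)) = (LP (LK LD1_c23 LD2_c38 LD3_c27)) :=
  Lre_g IH (LK LD1_c14 LD2_c5 LD3_c17) (LK LD1_c23 LD2_c38 LD3_c27) Lrfl Lrfl
theorem f469305 : Led Lsl_ct (LP (LK LD1_c23 LD2_c38 LD3_c27)) = (LP (LK LD1_c31 LD2_c8 LD3_c29)) :=
  Lre_c IH (LK LD1_c23 LD2_c38 LD3_c27) (LK LD1_c31 LD2_c8 LD3_c29) Lrfl Lrfl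
theorem f576654 : Led Lsl_gf (LP (LK LD1_c23 LD2_c41 LD3_c53)) = (LP (LK LD1_c31 LD2_c8 LD3_c29)) :=
  Lgr Lrot104 (Lpr_ct (f469373 IH) (Lpe (K40.f116264 IH) (Lpr_cf (K37.f469399 IH) (Lpr_gf (K47.f576652 IH) (Lpr_cf (K42.f543556 IH) (Lpe (K37.f469280 IH) (Lpe (f469277 IH) (Lpr_gt (f439573 IH) (Lpr_ct (f469305 IH) (Lpn (LP (LK LD1_c31 LD2_c8 LD3_c29))))))))))))
theorem f543297 : Led Lsl_ct (LP (LK LD1_c31 LD2_c8 LD3_c29)) = (LP (LK LD1_c23 LD2_c38 LD3_c27)) :=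
  Lre_c IH (LK LD1_c31 LD2_c8 LD3_c29) (LK LD1_c23 LD2_c38 LD3_c27) Lrfl Lrfl
theorem f439641 : Led Lsl_dt (LP (LK LD1_c14 LD2_c5 LD3_c20)) = (LP (LK LD1_c7 LD2_c27 LD3_c48)) :=
  Lre_d IH (LK LD1_c14 LD2_c5 LD3_c20) (LK LD1_c7 LD2_c27 LD3_c48) Lrfl Lrfl
theorem f608429 : Led Lsl_gt (LP (LK LD1_c23 LD2_c38 LD3_c27)) = (LP (LK LD1_c14 LD2_c5 LD3_c20)) :=
  Lgr Lrot94 (Lpe (f543297 IH) (Lpe (f576654 IH) (Lpr_dt (f608424 IH) (Lpr_gt (f560471 IH) (Lpr_dt (K42.f439639 IH) (Lpe (K39.f439567 IH) (Lpe (K33.f159664 IH) (Lpe (K39.f439581 IH) (Lpe (f439641 IH) (Lpn (LP (LK LD1_c14 LD2_c5 LD3_c20))))))))))))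
theorem f524429 : Led Lsl_ct (LP (LK LD1_c13 LD2_c32 LD3_c1)) = (LP (LK LD1_c22 LD2_c53 LD3_c48)) :=
  Lre_c IH (LK LD1_c13 LD2_c32 LD3_c1) (LK LD1_c22 LD2_c53 LD3_c48) Lrfl Lrfl
theorem f439572 : Led Lsl_dt (LP (LK LD1_c7 LD2_c27 LD3_c47)) = (LP (LK LD1_c14 LD2_c5 LD3_c17)) :=
  Lre_d IH (LK LD1_c7 LD2_c27 LD3_c47) (LK LD1_c14 LD2_c5 LD3_c17) Lrfl Lrfl
theorem f543289 : Led Lsl_dt (LP (LK LD1_c23 LD2_c38 LD3_c27)) = (LP (LK LD1_c22 LD2_c53 LD3_c48)) :=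
  Lgr Lrot105 (Lpe (f439573 IH) (Lpe (f439572 IH) (Lpe (K33.f439571 IH) (Lpe (K39.f439546 IH) (Lpr_gt (K35.f439550 IH) (Lpr_dt (K43.f439551 IH) (Lpr_gt (K43.f543285 IH) (Lpr_dt (K40.f524430 IH) (Lpe (K40.f524431 IH) (Lpn (LP (LK LD1_c22 LD2_c53 LD3_c48))))))))))))
theorem f560507 : Led Lsl_gt (LP (LK LD1_c23 LD2_c41 LD3_c52)) = (LP (LK LD1_c31 LD2_c8 LD3_c29)) :=
  Lgr Lrot150 (Lpe (f116147 IH) (Lpr_gf (K40.f560503 IH) (Lpe (K40.f480039 IH) (Lpr_gt (K40.f554085 IH) (Lpe (K40.f475306 IH) (Lpe (K40.f554078 IH) (Lpr_ct (f524429 IH) (Lpe (f543289 IH) (Lpe (f543297 IH) (Lpn (LP (LK LD1_c31 LD2_c8 LD3_c29))))))))))))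
theorem f559041 : Led Lsl_gt (LP (LK LD1_c21 LD2_c14 LD3_c36)) = (LP (LK LD1_c29 LD2_c55 LD3_c23)) :=
  Lre_g IH (LK LD1_c21 LD2_c14 LD3_c36) (LK LD1_c29 LD2_c55 LD3_c23) Lrfl Lrfl
theorem f541977 : Led Lsl_gt (LP (LK LD1_c23 LD2_c29 LD3_c48)) = (LP (LK LD1_c31 LD2_c5 LD3_c18)) :=
  Lre_g IH (LK LD1_c23 LD2_c29 LD3_c48) (LK LD1_c31 LD2_c5 LD3_c18) Lrfl Lrfl
theorem f469315 : Led Lsl_gt (LP (LK LD1_c14 LD2_c5 LD3_c22)) = (LP (LK LD1_c23 LD2_c38 LD3_c23)) :=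
  Lre_g IH (LK LD1_c14 LD2_c5 LD3_c22) (LK LD1_c23 LD2_c38 LD3_c23) Lrfl Lrfl
theorem f541985 : Led Lsl_dt (LP (LK LD1_c31 LD2_c5 LD3_c18)) = (LP (LK LD1_c23 LD2_c38 LD3_c32)) :=
  Lgr Lrot105 (Lpe (f541977 IH) (Lpr_df (K36.f541975 IH) (Lpe (K33.f469282 IH) (Lpe (K33.f464365 IH) (Lpr_gt (f469315 IH) (Lpr_dt (K42.f469316 IH) (Lpr_gt (K43.f469317 IH) (Lpr_dt (K40.f439642 IH) (Lpe (K40.f469270 IH) (Lpn (LP (LK LD1_c23 LD2_c38 LD3_c32))))))))))))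
theorem f608433 : Led Lsl_ct (LP (LK LD1_c29 LD2_c55 LD3_c23)) = (LP (LK LD1_c31 LD2_c5 LD3_c18)) :=
  Lgr Lrot110 (Lpe (f559041 IH) (Lpe (f559043 IH) (Lpe (f576444 IH) (Lpr_df (f469439 IH) (Lpr_gt (f560507 IH) (Lpr_ct (f543297 IH) (Lpr_gt (f608429 IH) (Lpr_ct (K40.f469318 IH) (Lpe (f541985 IH) (Lpn (LP (LK LD1_c31 LD2_c5 LD3_c18))))))))))))
theorem f554192 : Led Lsl_gt (LP (LK LD1_c12 LD2_c8 LD3_c31)) = (LP (LK LD1_c21 LD2_c14 LD3_c49)) :=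
  Lre_g IH (LK LD1_c12 LD2_c8 LD3_c31) (LK LD1_c21 LD2_c14 LD3_c49) Lrfl Lrfl
theorem f567970 : Led Lsl_gf (LP (LK LD1_c13 LD2_c55 LD3_c23)) = (LP (LK LD1_c21 LD2_c14 LD3_c49)) :=
  Lgr Lrot76 (Lpr_af (K42.f567963 IH) (Lpe (K42.f567962 IH) (Lpr_gt (f554192 IH) (Lpn (LP (LK LD1_c21 LD2_c14 LD3_c49))))))
theorem f122437 : Led Lsl_bt (LP (LK LD1_c13 LD2_c55 LD3_c23)) = (LP (LK LD1_c7 LD2_c22 LD3_c0)) :=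
  Lre_b IH (LK LD1_c13 LD2_c55 LD3_c23) (LK LD1_c7 LD2_c22 LD3_c0) Lrfl Lrfl
theorem f131986 : Led Lsl_bt (LP (LK LD1_c7 LD2_c27 LD3_c54)) = (LP (LK LD1_c14 LD2_c5 LD3_c16)) :=
  Lre_b IH (LK LD1_c7 LD2_c27 LD3_c54) (LK LD1_c14 LD2_c5 LD3_c16) Lrfl Lrfl
theorem f131987 : Led Lsl_ef (LP (LK LD1_c13 LD2_c55 LD3_c23)) = (LP (LK LD1_c14 LD2_c5 LD3_c16)) :=
  Lgr Lrot29 (Lpr_bt (f122437 IH) (Lpr_et (K5.f131974 IH) (Lpr_bt (f131986 IH) (Lpn (LP (LK LD1_c14 LD2_c5 LD3_c16))))))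
theorem f560395 : Led Lsl_ct (LP (LK LD1_c13 LD2_c55 LD3_c23)) = (LP (LK LD1_c17 LD2_c15 LD3_c25)) :=
  Lgr Lrot15 (Lpr_ef (f131987 IH) (Lpr_cf (K39.f560363 IH) (Lpe (K43.f210901 IH) (Lpn (LP (LK LD1_c17 LD2_c15 LD3_c25))))))
theorem f493998 : Led Lsl_gt (LP (LK LD1_c6 LD2_c25 LD3_c0)) = (LP (LK LD1_c12 LD2_c23 LD3_c3)) :=
  Lre_g IH (LK LD1_c6 LD2_c25 LD3_c0) (LK LD1_c12 LD2_c23 LD3_c3) Lrfl Lrfl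
theorem f567973 : Led Lsl_ct (LP (LK LD1_c12 LD2_c23 LD3_c3)) = (LP (LK LD1_c21 LD2_c14 LD3_c49)) :=
  Lgr Lrot152 (Lpe (f493998 IH) (Lpe (K36.f540303 IH) (Lpr_gt (K37.f116247 IH) (Lpe (K37.f469275 IH) (Lpr_gt (K37.f469280 IH) (Lpe (K42.f543556 IH) (Lpr_df (K43.f210898 IH) (Lpe (f560395 IH) (Lpr_gf (f567970 IH) (Lpn (LP (LK LD1_c21 LD2_c14 LD3_c49))))))))))))
theorem f567975 : Led Lsl_cf (LP (LK LD1_c12 LD2_c23 LD3_c3)) = (LP (LK LD1_c21 LD2_c14 LD3_c49)) :=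
  Lgr Lrot11 (Lpr_ct (f567973 IH) (Lpn (LP (LK LD1_c21 LD2_c14 LD3_c49))))
theorem f576568 : Led Lsl_gf (LP (LK LD1_c23 LD2_c38 LD3_c44)) = (LP (LK LD1_c31 LD2_c5 LD3_c18)) :=
  Lgr Lrot76 (Lpr_af (K43.f576564 IH) (Lpe (K36.f541970 IH) (Lpr_gt (f541977 IH) (Lpn (LP (LK LD1_c31 LD2_c5 LD3_c18))))))
theorem f441610 : Led Lsl_ct (LP (LK LD1_c23 LD2_c3 LD3_c35)) = (LP (LK LD1_c13 LD2_c38 LD3_c25)) :=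
  Lre_c IH (LK LD1_c23 LD2_c3 LD3_c35) (LK LD1_c13 LD2_c38 LD3_c25) Lrfl Lrfl
theorem f560294 : Led Lsl_ct (LP (LK LD1_c23 LD2_c38 LD3_c44)) = (LP (LK LD1_c30 LD2_c52 LD3_c50)) :=
  Lgr Lrot176 (Lpr_df (K39.f463337 IH) (Lpr_cf (K39.f560288 IH) (Lpe (K34.f116245 IH) (Lpe (K33.f116242 IH) (Lpr_df (K36.f540308 IH) (Lpe (K36.f541981 IH) (Lpe (K36.f541980 IH) (Lpe (K36.f541963 IH) (Lpr_df (K36.f541975 IH) (Lpe (K33.f469157 IH) (Lpe (K36.f469253 IH) (Lpr_cf (K28.f469251 IH) (Lpe (K36.f108289 IH) (Lpe (f441610 IH) (Lpe (K36.f441611 IH) (Lpn (LP (LK LD1_c30 LD2_c52 LD3_c50))))))))))))))))))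
theorem f608437 : Led Lsl_gt (LP (LK LD1_c12 LD2_c23 LD3_c3)) = (LP (LK LD1_c13 LD2_c38 LD3_c25)) :=
  Lgr Lrot150 (Lpr_cf (f567975 IH) (Lpe (f554192 IH) (Lpe (K39.f554059 IH) (Lpr_gt (f559041 IH) (Lpr_ct (f608433 IH) (Lpe (f576568 IH) (Lpr_ct (f560294 IH) (Lpe (K43.f116253 IH) (Lpe (K43.f116252 IH) (Lpn (LP (LK LD1_c13 LD2_c38 LD3_c25))))))))))))
theorem f540310 : Led Lsl_dt (LP (LK LD1_c21 LD2_c29 LD3_c60)) = (LP (LK LD1_c12 LD2_c23 LD3_c3)) :=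
  Lre_d IH (LK LD1_c21 LD2_c29 LD3_c60) (LK LD1_c12 LD2_c23 LD3_c3) Lrfl Lrfl
theorem f464669 : Led Lsl_gt (LP (LK LD1_c14 LD2_c55 LD3_c2)) = (LP (LK LD1_c7 LD2_c54 LD3_c29)) :=
  Lre_g IH (LK LD1_c14 LD2_c55 LD3_c2) (LK LD1_c7 LD2_c54 LD3_c29) Lrfl Lrfl
theorem f533714 : Led Lsl_ct (LP (LK LD1_c23 LD2_c38 LD3_c37)) = (LP (LK LD1_c14 LD2_c5 LD3_c23)) :=
  Lre_c IH (LK LD1_c23 LD2_c38 LD3_c37) (LK LD1_c14 LD2_c5 LD3_c23) Lrfl Lrfl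
theorem f436348 : Led Lsl_ct (LP (LK LD1_c23 LD2_c24 LD3_c38)) = (LP (LK LD1_c13 LD2_c54 LD3_c29)) :=
  Lre_c IH (LK LD1_c23 LD2_c24 LD3_c38) (LK LD1_c13 LD2_c54 LD3_c29) Lrfl Lrfl
theorem f534438 : Led Lsl_gt (LP (LK LD1_c30 LD2_c40 LD3_c9)) = (LP (LK LD1_c23 LD2_c38 LD3_c36)) :=
  Lgr Lrot9 (Lpe (K34.f459322 IH) (Lpr_gt (K39.f533929 IH) (Lpe (K47.f534414 IH) (Lpr_gt (K46.f534427 IH) (Lpr_ct (K24.f436334 IH) (Lpe (K34.f436337 IH) (Lpe (f436348 IH) (Lpe (K37.f436370 IH) (Lpe (K37.f533711 IH) (Lpn (LP (LK LD1_c23 LD2_c38 LD3_c36))))))))))))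
theorem f533612 : Led Lsl_ff (LP (LK LD1_c23 LD2_c24 LD3_c35)) = (LP (LK LD1_c30 LD2_c40 LD3_c9)) :=
  Lgr Lrot23 (Lpr_ct (K35.f436392 IH) (Lpr_ft (K39.f533606 IH) (Lpr_ct (K34.f533313 IH) (Lpn (LP (LK LD1_c30 LD2_c40 LD3_c9))))))
theorem f534440 : Led Lsl_gf (LP (LK LD1_c23 LD2_c37 LD3_c5)) = (LP (LK LD1_c23 LD2_c38 LD3_c36)) :=
  Lgr Lrot76 (Lpr_af (K35.f436381 IH) (Lpr_ff (f533612 IH) (Lpr_gt (f534438 IH) (Lpn (LP (LK LD1_c23 LD2_c38 LD3_c36))))))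
theorem f533340 : Led Lsl_cf (LP (LK LD1_c31 LD2_c5 LD3_c10)) = (LP (LK LD1_c23 LD2_c37 LD3_c5)) :=
  Lgr Lrot108 (Lpr_ft (K34.f533338 IH) (Lpr_ct (K34.f492849 IH) (Lpe (K46.f532985 IH) (Lpn (LP (LK LD1_c23 LD2_c37 LD3_c5))))))
theorem f533713 : Led Lsl_bt (LP (LK LD1_c14 LD2_c5 LD3_c23)) = (LP (LK LD1_c23 LD2_c38 LD3_c36)) :=
  Lre_b IH (LK LD1_c14 LD2_c5 LD3_c23) (LK LD1_c23 LD2_c38 LD3_c36) Lrfl Lrfl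
theorem f469780 : Led Lsl_ct (LP (LK LD1_c14 LD2_c5 LD3_c23)) = (LP (LK LD1_c23 LD2_c38 LD3_c37)) :=
  Lre_c IH (LK LD1_c14 LD2_c5 LD3_c23) (LK LD1_c23 LD2_c38 LD3_c37) Lrfl Lrfl
theorem f534443 : Led Lsl_gt (LP (LK LD1_c22 LD2_c44 LD3_c32)) = (LP (LK LD1_c23 LD2_c38 LD3_c37)) :=
  Lgr Lrot65 (Lpe (K33.f469157 IH) (Lpr_bt (K33.f469155 IH) (Lpr_gf (K28.f469511 IH) (Lpe (K33.f462917 IH) (Lpr_ct (K34.f462896 IH) (Lpe (K34.f462919 IH) (Lpr_cf (f533340 IH) (Lpr_gf (f534440 IH) (Lpe (f533713 IH) (Lpr_ct (f469780 IH) (Lpn (LP (LK LD1_c23 LD2_c38 LD3_c37)))))))))))))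
theorem f559028 : Led Lsl_dt (LP (LK LD1_c14 LD2_c55 LD3_c2)) = (LP (LK LD1_c22 LD2_c44 LD3_c31)) :=
  Lgr Lrot6 (Lpr_gt (f464669 IH) (Lpr_ct (K47.f464680 IH) (Lpr_gt (K47.f559024 IH) (Lpe (K47.f554208 IH) (Lpr_df (K47.f554199 IH) (Lpe (f533714 IH) (Lpe (f534443 IH) (Lpe (K33.f469157 IH) (Lpe (K37.f469255 IH) (Lpn (LP (LK LD1_c22 LD2_c44 LD3_c31))))))))))))
theorem f520620 : Led Lsl_gt (LP (LK LD1_c14 LD2_c50 LD3_c58)) = (LP (LK LD1_c14 LD2_c55 LD3_c2)) :=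
  Lgr Lrot5 (Lpr_ft (K40.f520612 IH) (Lpr_at (K40.f464683 IH) (Lpe (f464669 IH) (Lpn (LP (LK LD1_c14 LD2_c55 LD3_c2))))))
theorem f608439 : Led Lsl_gf (LP (LK LD1_c21 LD2_c29 LD3_c60)) = (LP (LK LD1_c22 LD2_c29 LD3_c4)) :=
  Lgr Lrot144 (Lpr_dt (f540310 IH) (Lpr_gt (f608437 IH) (Lpr_dt (K36.f108289 IH) (Lpe (K28.f469259 IH) (Lpe (K28.f469239 IH) (Lpe (K37.f469255 IH) (Lpe (f559028 IH) (Lpe (f520620 IH) (Lpe (K33.f480593 IH) (Lpn (LP (LK LD1_c22 LD2_c29 LD3_c4))))))))))))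
theorem f520622 : Led Lsl_ft (LP (LK LD1_c22 LD2_c29 LD3_c4)) = (LP (LK LD1_c22 LD2_c29 LD3_c0)) :=
  Lgr Lrot48 (Lpr_ff (f520618 IH) (Lpn (LP (LK LD1_c22 LD2_c29 LD3_c0))))
theorem f608441 : Led Lsl_gt (LP (LK LD1_c21 LD2_c29 LD3_c60)) = (LP (LK LD1_c13 LD2_c14 LD3_c15)) :=
  Lgr Lrot46 (Lpr_gf (f608439 IH) (Lpr_ft (f520622 IH) (Lpr_at (K48.f464677 IH) (Lpn (LP (LK LD1_c13 LD2_c14 LD3_c15))))))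
theorem f493999 : Led Lsl_dt (LP (LK LD1_c12 LD2_c23 LD3_c3)) = (LP (LK LD1_c21 LD2_c29 LD3_c60)) :=
  Lre_d IH (LK LD1_c12 LD2_c23 LD3_c3) (LK LD1_c21 LD2_c29 LD3_c60) Lrfl Lrfl
theorem f81164 : Led Lsl_gt (LP (LK LD1_c16 LD2_c23 LD3_c45)) = (LP (LK LD1_c8 LD2_c45 LD3_c34)) :=
  Lre_g IH (LK LD1_c16 LD2_c23 LD3_c45) (LK LD1_c8 LD2_c45 LD3_c34) Lrfl Lrfl
theorem f464682 : Led Lsl_dt (LP (LK LD1_c22 LD2_c29 LD3_c1)) = (LP (LK LD1_c13 LD2_c14 LD3_c15)) :=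
  Lre_d IH (LK LD1_c22 LD2_c29 LD3_c1) (LK LD1_c13 LD2_c14 LD3_c15) Lrfl Lrfl
theorem f608445 : Led Lsl_ef (LP (LK LD1_c16 LD2_c23 LD3_c45)) = (LP (LK LD1_c22 LD2_c29 LD3_c1)) :=
  Lgr Lrot114 (Lpr_gt (f81164 IH) (Lpe (K10.f81177 IH) (Lpr_dt (K35.f81200 IH) (Lpqs (K35.f536830 IH) (Lpe (K32.f493992 IH) (Lpe (K39.f36473 IH) (Lpr_et (K36.f205628 IH) (Lpr_gt (f493998 IH) (Lpr_dt (f493999 IH) (Lpr_gt (f608441 IH) (Lpe (f464682 IH) (Lpn (LP (LK LD1_c22 LD2_c29 LD3_c1))))))))))))))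
theorem f617767 : Led Lsl_af (LP (LK LD1_c12 LD2_c22 LD3_c54)) = (LP (LK LD1_c16 LD2_c23 LD3_c45)) :=
  Lgr Lrot50 (Lpr_et (f239343 IH) (Lpr_at (f617761 IH) (Lpe (f608445 IH) (Lpn (LP (LK LD1_c16 LD2_c23 LD3_c45))))))
theorem f613210 : Led Lsl_gf (LP (LK LD1_c12 LD2_c22 LD3_c54)) = (LP (LK LD1_c16 LD2_c23 LD3_c46)) :=
  Lgr Lrot47 (Lpr_gt (f205624 IH) (Lpr_af (f613201 IH) (Lpe (K39.f81183 IH) (Lpn (LP (LK LD1_c16 LD2_c23 LD3_c46))))))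
theorem f239327 : Led Lsl_gt (LP (LK LD1_c6 LD2_c24 LD3_c57)) = (LP (LK LD1_c12 LD2_c22 LD3_c53)) :=
  Lre_g IH (LK LD1_c6 LD2_c24 LD3_c57) (LK LD1_c12 LD2_c22 LD3_c53) Lrfl Lrfl
theorem f613214 : Led Lsl_gt (LP (LK LD1_c12 LD2_c22 LD3_c53)) = (LP (LK LD1_c16 LD2_c23 LD3_c46)) :=
  Lgr Lrot46 (Lpe (f239327 IH) (Lpr_ft (K37.f239324 IH) (Lpr_at (f613208 IH) (Lpn (LP (LK LD1_c16 LD2_c23 LD3_c46))))))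
theorem f617771 : Led Lsl_ft (LP (LK LD1_c12 LD2_c22 LD3_c53)) = (LP (LK LD1_c16 LD2_c23 LD3_c45)) :=
  Lgr Lrot2 (Lpr_gt (f613214 IH) (Lpe (f613210 IH) (Lpr_af (f617767 IH) (Lpn (LP (LK LD1_c16 LD2_c23 LD3_c45))))))
theorem f617773 : Led Lsl_ff (LP (LK LD1_c12 LD2_c22 LD3_c53)) = (LP (LK LD1_c16 LD2_c23 LD3_c45)) :=
  Lgr Lrot3 (Lpr_ft (f617771 IH) (Lpn (LP (LK LD1_c16 LD2_c23 LD3_c45))))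
theorem f617775 : Led Lsl_at (LP (LK LD1_c12 LD2_c22 LD3_c53)) = (LP (LK LD1_c16 LD2_c23 LD3_c44)) :=
  Lgr Lrot26 (Lpr_ff (f617773 IH) (Lpr_gt (f81164 IH) (Lpr_gt (f81148 IH) (Lpn (LP (LK LD1_c16 LD2_c23 LD3_c44))))))
theorem f617769 : Led Lsl_at (LP (LK LD1_c12 LD2_c22 LD3_c54)) = (LP (LK LD1_c16 LD2_c23 LD3_c45)) :=
  Lgr Lrot100 (Lpr_af (f617767 IH) (Lpn (LP (LK LD1_c16 LD2_c23 LD3_c45))))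
theorem f617781 : Led Lsl_ff (LP (LK LD1_c12 LD2_c22 LD3_c54)) = (LP (LK LD1_c16 LD2_c23 LD3_c44)) :=
  Lgr Lrot30 (Lpr_at (f617769 IH) (Lpe (f617773 IH) (Lpr_at (f617775 IH) (Lpn (LP (LK LD1_c16 LD2_c23 LD3_c44))))))
theorem f741958 : Led Lsl_ft (LP (LK LD1_c11 LD2_c26 LD3_c35)) = (LP (LK LD1_c20 LD2_c24 LD3_c25)) :=
  Lre_f IH (LK LD1_c11 LD2_c26 LD3_c35) (LK LD1_c20 LD2_c24 LD3_c25) Lrfl Lrfl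
theorem f568493 : Led Lsl_ct (LP (LK LD1_c20 LD2_c24 LD3_c23)) = (LP (LK LD1_c11 LD2_c26 LD3_c35)) :=
  Lre_c IH (LK LD1_c20 LD2_c24 LD3_c23) (LK LD1_c11 LD2_c26 LD3_c35) Lrfl Lrfl
theorem f742228 : Led Lsl_ft (LP (LK LD1_c29 LD2_c22 LD3_c4)) = (LP (LK LD1_c20 LD2_c24 LD3_c23)) :=
  Lgr Lrot4 (Lpr_cf (f742224 IH) (Lpe (f741958 IH) (Lpe (f568493 IH) (Lpn (LP (LK LD1_c20 LD2_c24 LD3_c23))))))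
theorem f613171 : Led Lsl_gt (LP (LK LD1_c20 LD2_c13 LD3_c36)) = (LP (LK LD1_c29 LD2_c22 LD3_c3)) :=
  Lre_g IH (LK LD1_c20 LD2_c13 LD3_c36) (LK LD1_c29 LD2_c22 LD3_c3) Lrfl Lrfl
theorem f742232 : Led Lsl_af (LP (LK LD1_c29 LD2_c22 LD3_c3)) = (LP (LK LD1_c20 LD2_c24 LD3_c23)) :=
  Lgr Lrot31 (Lpe (f613171 IH) (Lpe (f613165 IH) (Lpr_ft (f742228 IH) (Lpn (LP (LK LD1_c20 LD2_c24 LD3_c23))))))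
theorem f568492 : Led Lsl_ct (LP (LK LD1_c11 LD2_c26 LD3_c35)) = (LP (LK LD1_c20 LD2_c24 LD3_c23)) :=
  Lre_c IH (LK LD1_c11 LD2_c26 LD3_c35) (LK LD1_c20 LD2_c24 LD3_c23) Lrfl Lrfl
theorem f742218 : Led Lsl_at (LP (LK LD1_c20 LD2_c23 LD3_c29)) = (LP (LK LD1_c11 LD2_c26 LD3_c35)) :=
  Lgr Lrot100 (Lpr_af (f742216 IH) (Lpn (LP (LK LD1_c11 LD2_c26 LD3_c35))))
theorem f742236 : Led Lsl_ct (LP (LK LD1_c29 LD2_c22 LD3_c3)) = (LP (LK LD1_c20 LD2_c23 LD3_c29)) :=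
  Lgr Lrot111 (Lpr_af (f742232 IH) (Lpe (f568492 IH) (Lpe (f742218 IH) (Lpn (LP (LK LD1_c20 LD2_c23 LD3_c29))))))
theorem f381938 : Led Lsl_bt (LP (LK LD1_c11 LD2_c17 LD3_c25)) = (LP (LK LD1_c5 LD2_c43 LD3_c52)) :=
  Lre_b IH (LK LD1_c11 LD2_c17 LD3_c25) (LK LD1_c5 LD2_c43 LD3_c52) Lrfl Lrfl
theorem f554330 : Led Lsl_bf (LP (LK LD1_c20 LD2_c13 LD3_c36)) = (LP (LK LD1_c12 LD2_c22 LD3_c52)) :=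
  Lgr Lrot90 (Lpr_ct (f554329 IH) (Lpr_bt (f381938 IH) (Lpr_ct (K36.f542537 IH) (Lpr_bt (K39.f554323 IH) (Lpr_ct (f239322 IH) (Lpn (LP (LK LD1_c12 LD2_c22 LD3_c52))))))))
theorem f239329 : Led Lsl_ct (LP (LK LD1_c12 LD2_c22 LD3_c52)) = (LP (LK LD1_c6 LD2_c24 LD3_c57)) :=
  Lre_c IH (LK LD1_c12 LD2_c22 LD3_c52) (LK LD1_c6 LD2_c24 LD3_c57) Lrfl Lrfl
theorem f613378 : Led Lsl_af (LP (LK LD1_c9 LD2_c1 LD3_c49)) = (LP (LK LD1_c11 LD2_c26 LD3_c51)) :=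
  Lgr Lrot0 (Lpr_at (f613375 IH) (Lpn (LP (LK LD1_c11 LD2_c26 LD3_c51))))
theorem f13171 : Led Lsl_af (LP (LK LD1_c3 LD2_c42 LD3_c55)) = (LP (LK LD1_c3 LD2_c40 LD3_c37)) :=
  Lgr Lrot117 (Lpr_dt (K7.f13169 IH) (Lpr_at (K7.f13145 IH) (Lpr_dt (K7.f13170 IH) (Lpn (LP (LK LD1_c3 LD2_c40 LD3_c37))))))
theorem f13177 : Led Lsl_et (LP (LK LD1_c3 LD2_c42 LD3_c55)) = (LP (LK LD1_c7 LD2_c26 LD3_c34)) :=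
  Lre_e IH (LK LD1_c3 LD2_c42 LD3_c55) (LK LD1_c7 LD2_c26 LD3_c34) Lrfl Lrfl
theorem f13179 : Led Lsl_at (LP (LK LD1_c7 LD2_c26 LD3_c34)) = (LP (LK LD1_c7 LD2_c21 LD3_c27)) :=
  Lgr Lrot80 (Lpe (f13177 IH) (Lpr_af (f13171 IH) (Lpe (f13178 IH) (Lpn (LP (LK LD1_c7 LD2_c21 LD3_c27))))))
theorem f613757 : Led Lsl_ct (LP (LK LD1_c9 LD2_c1 LD3_c49)) = (LP (LK LD1_c7 LD2_c26 LD3_c34)) :=
  Lgr Lrot111 (Lpr_af (f613378 IH) (Lpr_cf (f613755 IH) (Lpe (f13179 IH) (Lpn (LP (LK LD1_c7 LD2_c26 LD3_c34))))))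
theorem f13344 : Led Lsl_ft (LP (LK LD1_c7 LD2_c26 LD3_c34)) = (LP (LK LD1_c14 LD2_c3 LD3_c61)) :=
  Lre_f IH (LK LD1_c7 LD2_c26 LD3_c34) (LK LD1_c14 LD2_c3 LD3_c61) Lrfl Lrfl
theorem f613759 : Led Lsl_cf (LP (LK LD1_c16 LD2_c51 LD3_c49)) = (LP (LK LD1_c14 LD2_c3 LD3_c61)) :=
  Lgr Lrot108 (Lpr_ft (f613380 IH) (Lpr_ct (f613757 IH) (Lpr_ft (f13344 IH) (Lpn (LP (LK LD1_c14 LD2_c3 LD3_c61))))))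
theorem f13202 : Led Lsl_bt (LP (LK LD1_c14 LD2_c3 LD3_c61)) = (LP (LK LD1_c7 LD2_c26 LD3_c41)) :=
  Lre_b IH (LK LD1_c14 LD2_c3 LD3_c61) (LK LD1_c7 LD2_c26 LD3_c41) Lrfl Lrfl
theorem f206385 : Led Lsl_gt (LP (LK LD1_c7 LD2_c26 LD3_c41)) = (LP (LK LD1_c3 LD2_c44 LD3_c13)) :=
  Lre_g IH (LK LD1_c7 LD2_c26 LD3_c41) (LK LD1_c3 LD2_c44 LD3_c13) Lrfl Lrfl
theorem f13377 : Led Lsl_bt (LP (LK LD1_c7 LD2_c29 LD3_c23)) = (LP (LK LD1_c3 LD2_c44 LD3_c13)) :=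
  Lre_b IH (LK LD1_c7 LD2_c29 LD3_c23) (LK LD1_c3 LD2_c44 LD3_c13) Lrfl Lrfl
theorem f742242 : Led Lsl_cf (LP (LK LD1_c12 LD2_c22 LD3_c54)) = (LP (LK LD1_c7 LD2_c29 LD3_c23)) :=
  Lgr Lrot160 (Lpr_gt (f205624 IH) (Lpe (f239329 IH) (Lpe (f554330 IH) (Lpr_gt (f613171 IH) (Lpr_ct (f742236 IH) (Lpe (f615538 IH) (Lpr_cf (f613759 IH) (Lpr_bt (f13202 IH) (Lpr_gt (f206385 IH) (Lpe (f13377 IH) (Lpn (LP (LK LD1_c7 LD2_c29 LD3_c23)))))))))))))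
theorem f742247 : Led Lsl_ct (LP (LK LD1_c12 LD2_c22 LD3_c54)) = (LP (LK LD1_c7 LD2_c29 LD3_c23)) :=
  Lgr Lrot59 (Lpr_cf (f742242 IH) (Lpn (LP (LK LD1_c7 LD2_c29 LD3_c23))))
theorem f742540 : Led Lsl_ft (LP (LK LD1_c7 LD2_c29 LD3_c23)) = (LP (LK LD1_c14 LD2_c4 LD3_c10)) :=
  Lgr Lrot4 (Lpe (f742247 IH) (Lpr_ff (f617781 IH) (Lpr_cf (f742532 IH) (Lpn (LP (LK LD1_c14 LD2_c4 LD3_c10))))))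
theorem f742550 : Led Lsl_ff (LP (LK LD1_c7 LD2_c29 LD3_c23)) = (LP (LK LD1_c14 LD2_c4 LD3_c10)) :=
  Lgr Lrot3 (Lpr_ft (f742540 IH) (Lpn (LP (LK LD1_c14 LD2_c4 LD3_c10))))
theorem f664121 : Led Lsl_at (LP (LK LD1_c7 LD2_c29 LD3_c23)) = (LP (LK LD1_c14 LD2_c8 LD3_c26)) :=
  Lre_a IH (LK LD1_c7 LD2_c29 LD3_c23) (LK LD1_c14 LD2_c8 LD3_c26) Lrfl Lrfl
theorem f742250 : Led Lsl_et (LP (LK LD1_c14 LD2_c8 LD3_c28)) = (LP (LK LD1_c7 LD2_c29 LD3_c23)) :=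
  Lre_e IH (LK LD1_c14 LD2_c8 LD3_c28) (LK LD1_c7 LD2_c29 LD3_c23) Lrfl Lrfl
theorem f742251 : Led Lsl_ct (LP (LK LD1_c21 LD2_c29 LD3_c50)) = (LP (LK LD1_c14 LD2_c8 LD3_c28)) :=
  Lgr Lrot15 (Lpe (f239343 IH) (Lpr_cf (f742242 IH) (Lpe (f742250 IH) (Lpn (LP (LK LD1_c14 LD2_c8 LD3_c28))))))
theorem f480495 : Led Lsl_df (LP (LK LD1_c14 LD2_c55 LD3_c3)) = (LP (LK LD1_c22 LD2_c43 LD3_c35)) :=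
  Lgr Lrot18 (Lpr_at (K40.f464683 IH) (Lpr_dt (K40.f480039 IH) (Lpr_at (K40.f480494 IH) (Lpn (LP (LK LD1_c22 LD2_c43 LD3_c35))))))
theorem f560292 : Led Lsl_ct (LP (LK LD1_c22 LD2_c42 LD3_c50)) = (LP (LK LD1_c14 LD2_c7 LD3_c22)) :=
  Lgr Lrot59 (Lpr_cf (K39.f560288 IH) (Lpn (LP (LK LD1_c14 LD2_c7 LD3_c22))))
theorem f470269 : Led Lsl_dt (LP (LK LD1_c22 LD2_c44 LD3_c26)) = (LP (LK LD1_c13 LD2_c25 LD3_c29)) :=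
  Lre_d IH (LK LD1_c22 LD2_c44 LD3_c26) (LK LD1_c13 LD2_c25 LD3_c29) Lrfl Lrfl
theorem f541989 : Led Lsl_df (LP (LK LD1_c31 LD2_c5 LD3_c18)) = (LP (LK LD1_c23 LD2_c38 LD3_c32)) :=
  Lgr Lrot38 (Lpr_dt (f541985 IH) (Lpn (LP (LK LD1_c23 LD2_c38 LD3_c32))))
theorem f576570 : Led Lsl_gf (LP (LK LD1_c22 LD2_c44 LD3_c26)) = (LP (LK LD1_c13 LD2_c25 LD3_c40)) :=
  Lgr Lrot144 (Lpr_dt (f470269 IH) (Lpr_gt (K46.f470284 IH) (Lpr_dt (K34.f116245 IH) (Lpe (f560292 IH) (Lpe (K29.f463348 IH) (Lpr_gf (f576568 IH) (Lpr_df (f541989 IH) (Lpe (K40.f533944 IH) (Lpe (K40.f459257 IH) (Lpn (LP (LK LD1_c13 LD2_c25 LD3_c40))))))))))))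
theorem f520389 : Led Lsl_ff (LP (LK LD1_c13 LD2_c24 LD3_c59)) = (LP (LK LD1_c13 LD2_c25 LD3_c40)) :=
  Lgr Lrot25 (Lpr_bt (K40.f446544 IH) (Lpr_ft (K33.f520387 IH) (Lpr_bt (K33.f470273 IH) (Lpn (LP (LK LD1_c13 LD2_c25 LD3_c40))))))
theorem f576572 : Led Lsl_gt (LP (LK LD1_c22 LD2_c44 LD3_c26)) = (LP (LK LD1_c22 LD2_c43 LD3_c35)) :=
  Lgr Lrot46 (Lpr_gf (f576570 IH) (Lpe (f520389 IH) (Lpr_at (K40.f480494 IH) (Lpn (LP (LK LD1_c22 LD2_c43 LD3_c35))))))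
theorem f469264 : Led Lsl_dt (LP (LK LD1_c13 LD2_c25 LD3_c29)) = (LP (LK LD1_c22 LD2_c44 LD3_c26)) :=
  Lre_d IH (LK LD1_c13 LD2_c25 LD3_c29) (LK LD1_c22 LD2_c44 LD3_c26) Lrfl Lrfl
theorem f36674 : Led Lsl_df (LP (LK LD1_c8 LD2_c47 LD3_c18)) = (LP (LK LD1_c8 LD2_c45 LD3_c61)) :=
  Lgr Lrot38 (Lpr_dt (K4.f36668 IH) (Lpn (LP (LK LD1_c8 LD2_c45 LD3_c61))))
theorem f36679 : Led Lsl_bt (LP (LK LD1_c8 LD2_c47 LD3_c18)) = (LP (LK LD1_c16 LD2_c26 LD3_c42)) :=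
  Lre_b IH (LK LD1_c8 LD2_c47 LD3_c18) (LK LD1_c16 LD2_c26 LD3_c42) Lrfl Lrfl
theorem f607378 : Led Lsl_dt (LP (LK LD1_c16 LD2_c26 LD3_c42)) = (LP (LK LD1_c13 LD2_c38 LD3_c13)) :=
  Lgr Lrot79 (Lpe (f36679 IH) (Lpr_df (f36674 IH) (Lpr_bf (K46.f576598 IH) (Lpn (LP (LK LD1_c13 LD2_c38 LD3_c13))))))
theorem f608071 : Led Lsl_df (LP (LK LD1_c16 LD2_c26 LD3_c42)) = (LP (LK LD1_c13 LD2_c38 LD3_c13)) :=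
  Lgr Lrot38 (Lpr_dt (f607378 IH) (Lpn (LP (LK LD1_c13 LD2_c38 LD3_c13))))
theorem f617759 : Led Lsl_gf (LP (LK LD1_c21 LD2_c29 LD3_c50)) = (LP (LK LD1_c16 LD2_c26 LD3_c42)) :=
  Lgr Lrot143 (Lpr_dt (f617751 IH) (Lpe (K48.f464678 IH) (Lpr_df (f480495 IH) (Lpe (f576572 IH) (Lpe (f469264 IH) (Lpe (K39.f469263 IH) (Lpr_cf (K28.f469251 IH) (Lpr_gt (K39.f108271 IH) (Lpe (f608071 IH) (Lpn (LP (LK LD1_c16 LD2_c26 LD3_c42))))))))))))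
theorem f742269 : Led Lsl_gt (LP (LK LD1_c14 LD2_c8 LD3_c28)) = (LP (LK LD1_c23 LD2_c42 LD3_c58)) :=
  Lre_g IH (LK LD1_c14 LD2_c8 LD3_c28) (LK LD1_c23 LD2_c42 LD3_c58) Lrfl Lrfl
theorem f742275 : Led Lsl_cf (LP (LK LD1_c21 LD2_c14 LD3_c51)) = (LP (LK LD1_c23 LD2_c42 LD3_c58)) :=
  Lgr Lrot99 (Lpe (K39.f210894 IH) (Lpr_cf (K37.f543591 IH) (Lpr_gf (K37.f469384 IH) (Lpe (K33.f116242 IH) (Lpe (K39.f116250 IH) (Lpe (f607378 IH) (Lpe (f617759 IH) (Lpr_ct (f742251 IH) (Lpr_gt (f742269 IH) (Lpn (LP (LK LD1_c23 LD2_c42 LD3_c58))))))))))))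
theorem f742279 : Led Lsl_ct (LP (LK LD1_c21 LD2_c14 LD3_c51)) = (LP (LK LD1_c23 LD2_c42 LD3_c58)) :=
  Lgr Lrot59 (Lpr_cf (f742275 IH) (Lpn (LP (LK LD1_c23 LD2_c42 LD3_c58))))
theorem f554181 : Led Lsl_gt (LP (LK LD1_c22 LD2_c53 LD3_c50)) = (LP (LK LD1_c13 LD2_c32 LD3_c8)) :=
  Lre_g IH (LK LD1_c22 LD2_c53 LD3_c50) (LK LD1_c13 LD2_c32 LD3_c8) Lrfl Lrfl
theorem f617793 : Led Lsl_ct (LP (LK LD1_c13 LD2_c55 LD3_c20)) = (LP (LK LD1_c13 LD2_c38 LD3_c22)) :=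
  Lgr Lrot59 (Lpr_cf (f617723 IH) (Lpn (LP (LK LD1_c13 LD2_c38 LD3_c22))))
theorem f554232 : Led Lsl_gt (LP (LK LD1_c13 LD2_c55 LD3_c22)) = (LP (LK LD1_c23 LD2_c26 LD3_c4)) :=
  Lre_g IH (LK LD1_c13 LD2_c55 LD3_c22) (LK LD1_c23 LD2_c26 LD3_c4) Lrfl Lrfl
theorem f567952 : Led Lsl_ct (LP (LK LD1_c23 LD2_c26 LD3_c4)) = (LP (LK LD1_c31 LD2_c2 LD3_c57)) :=
  Lre_c IH (LK LD1_c23 LD2_c26 LD3_c4) (LK LD1_c31 LD2_c2 LD3_c57) Lrfl Lrfl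
theorem f541959 : Led Lsl_ct (LP (LK LD1_c13 LD2_c57 LD3_c52)) = (LP (LK LD1_c23 LD2_c29 LD3_c48)) :=
  Lre_c IH (LK LD1_c13 LD2_c57 LD3_c52) (LK LD1_c23 LD2_c29 LD3_c48) Lrfl Lrfl
theorem f541972 : Led Lsl_ft (LP (LK LD1_c23 LD2_c29 LD3_c49)) = (LP (LK LD1_c13 LD2_c57 LD3_c52)) :=
  Lre_f IH (LK LD1_c23 LD2_c29 LD3_c49) (LK LD1_c13 LD2_c57 LD3_c52) Lrfl Lrfl
theorem f541973 : Led Lsl_cf (LP (LK LD1_c23 LD2_c29 LD3_c49)) = (LP (LK LD1_c23 LD2_c41 LD3_c60)) :=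
  Lgr Lrot108 (Lpr_ft (f541972 IH) (Lpr_ct (f541959 IH) (Lpr_ft (K36.f541970 IH) (Lpn (LP (LK LD1_c23 LD2_c41 LD3_c60))))))
theorem f617803 : Led Lsl_gt (LP (LK LD1_c31 LD2_c2 LD3_c57)) = (LP (LK LD1_c23 LD2_c41 LD3_c60)) :=
  Lgr Lrot150 (Lpe (f567952 IH) (Lpe (f554232 IH) (Lpe (K42.f554231 IH) (Lpr_gt (f440041 IH) (Lpr_ct (f617793 IH) (Lpr_gt (f617735 IH) (Lpe (K36.f541998 IH) (Lpe (K42.f542007 IH) (Lpr_cf (f541973 IH) (Lpn (LP (LK LD1_c23 LD2_c41 LD3_c60))))))))))))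
theorem f446545 : Led Lsl_ct (LP (LK LD1_c22 LD2_c43 LD3_c36)) = (LP (LK LD1_c13 LD2_c24 LD3_c59)) :=
  Lre_c IH (LK LD1_c22 LD2_c43 LD3_c36) (LK LD1_c13 LD2_c24 LD3_c59) Lrfl Lrfl
theorem f466059 : Led Lsl_gt (LP (LK LD1_c30 LD2_c40 LD3_c58)) = (LP (LK LD1_c22 LD2_c43 LD3_c36)) :=
  Lre_g IH (LK LD1_c30 LD2_c40 LD3_c58) (LK LD1_c22 LD2_c43 LD3_c36) Lrfl Lrfl
theorem f617809 : Led Lsl_df (LP (LK LD1_c31 LD2_c2 LD3_c57)) = (LP (LK LD1_c30 LD2_c40 LD3_c58)) :=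
  Lgr Lrot155 (Lpr_gt (f617803 IH) (Lpe (f541973 IH) (Lpr_gt (f608468 IH) (Lpe (f560334 IH) (Lpr_dt (f469436 IH) (Lpe (f116147 IH) (Lpr_gf (K40.f560503 IH) (Lpe (f446545 IH) (Lpe (f466059 IH) (Lpn (LP (LK LD1_c30 LD2_c40 LD3_c58))))))))))))
theorem f469245 : Led Lsl_gt (LP (LK LD1_c22 LD2_c44 LD3_c33)) = (LP (LK LD1_c30 LD2_c41 LD3_c46)) :=
  Lre_g IH (LK LD1_c22 LD2_c44 LD3_c33) (LK LD1_c30 LD2_c41 LD3_c46) Lrfl Lrfl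
theorem f576427 : Led Lsl_gf (LP (LK LD1_c23 LD2_c26 LD3_c6)) = (LP (LK LD1_c30 LD2_c41 LD3_c46)) :=
  Lgr Lrot76 (Lpr_af (K43.f560442 IH) (Lpr_ff (K43.f576419 IH) (Lpr_gt (f469245 IH) (Lpn (LP (LK LD1_c30 LD2_c41 LD3_c46))))))
theorem f543610 : Led Lsl_ct (LP (LK LD1_c12 LD2_c8 LD3_c33)) = (LP (LK LD1_c13 LD2_c25 LD3_c29)) :=
  Lgr Lrot91 (Lpr_gf (K37.f543607 IH) (Lpe (K29.f208982 IH) (Lpr_ct (K37.f439449 IH) (Lpe (K28.f121774 IH) (Lpe (K28.f466272 IH) (Lpr_bt (K33.f466269 IH) (Lpr_gf (K28.f466289 IH) (Lpe (K35.f116472 IH) (Lpr_ct (K33.f116242 IH) (Lpe (K46.f470284 IH) (Lpn (LP (LK LD1_c13 LD2_c25 LD3_c29)))))))))))))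
theorem f209866 : Led Lsl_gt (LP (LK LD1_c13 LD2_c57 LD3_c51)) = (LP (LK LD1_c7 LD2_c23 LD3_c7)) :=
  Lre_g IH (LK LD1_c13 LD2_c57 LD3_c51) (LK LD1_c7 LD2_c23 LD3_c7) Lrfl Lrfl
theorem f554075 : Led Lsl_cf (LP (LK LD1_c13 LD2_c57 LD3_c51)) = (LP (LK LD1_c17 LD2_c15 LD3_c32)) :=
  Lgr Lrot169 (Lpr_gt (f209866 IH) (Lpr_ct (K36.f541981 IH) (Lpe (K36.f540303 IH) (Lpr_cf (K28.f116158 IH) (Lpe (K46.f470284 IH) (Lpe (f543610 IH) (Lpr_gf (K37.f543607 IH) (Lpe (K39.f208986 IH) (Lpr_gt (K40.f554071 IH) (Lpn (LP (LK LD1_c17 LD2_c15 LD3_c32))))))))))))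
theorem f554157 : Led Lsl_ct (LP (LK LD1_c13 LD2_c57 LD3_c51)) = (LP (LK LD1_c17 LD2_c15 LD3_c32)) :=
  Lgr Lrot59 (Lpr_cf (f554075 IH) (Lpn (LP (LK LD1_c17 LD2_c15 LD3_c32))))
theorem f608443 : Led Lsl_gt (LP (LK LD1_c23 LD2_c3 LD3_c35)) = (LP (LK LD1_c13 LD2_c57 LD3_c51)) :=
  Lgr Lrot150 (Lpe (K43.f116252 IH) (Lpe (f608437 IH) (Lpe (f540310 IH) (Lpr_gt (f608441 IH) (Lpe (K47.f464674 IH) (Lpr_gt (K40.f554085 IH) (Lpe (K40.f475306 IH) (Lpr_df (K40.f554073 IH) (Lpe (f554157 IH) (Lpn (LP (LK LD1_c13 LD2_c57 LD3_c51))))))))))))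
theorem f462598 : Led Lsl_dt (LP (LK LD1_c13 LD2_c55 LD3_c22)) = (LP (LK LD1_c7 LD2_c21 LD3_c51)) :=
  Lre_d IH (LK LD1_c13 LD2_c55 LD3_c22) (LK LD1_c7 LD2_c21 LD3_c51) Lrfl Lrfl
theorem f576451 : Led Lsl_gf (LP (LK LD1_c30 LD2_c41 LD3_c43)) = (LP (LK LD1_c23 LD2_c29 LD3_c61)) :=
  Lgr Lrot47 (Lpe (K37.f533731 IH) (Lpr_af (K43.f576442 IH) (Lpe (f469244 IH) (Lpn (LP (LK LD1_c23 LD2_c29 LD3_c61))))))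
theorem f470210 : Led Lsl_ct (LP (LK LD1_c30 LD2_c41 LD3_c43)) = (LP (LK LD1_c22 LD2_c44 LD3_c31)) :=
  Lre_c IH (LK LD1_c30 LD2_c41 LD3_c43) (LK LD1_c22 LD2_c44 LD3_c31) Lrfl Lrfl
theorem f541987 : Led Lsl_gt (LP (LK LD1_c23 LD2_c29 LD3_c47)) = (LP (LK LD1_c13 LD2_c57 LD3_c52)) :=
  Lre_g IH (LK LD1_c23 LD2_c29 LD3_c47) (LK LD1_c13 LD2_c57 LD3_c52) Lrfl Lrfl
theorem f576453 : Led Lsl_cf (LP (LK LD1_c23 LD2_c29 LD3_c47)) = (LP (LK LD1_c30 LD2_c41 LD3_c46)) :=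
  Lgr Lrot169 (Lpr_gt (f541987 IH) (Lpr_ct (f541959 IH) (Lpr_df (K36.f541975 IH) (Lpe (K33.f469157 IH) (Lpe (K37.f469255 IH) (Lpe (f470210 IH) (Lpr_gf (f576451 IH) (Lpe (K43.f469236 IH) (Lpr_gt (f469245 IH) (Lpn (LP (LK LD1_c30 LD2_c41 LD3_c46))))))))))))
theorem f576455 : Led Lsl_ct (LP (LK LD1_c23 LD2_c29 LD3_c47)) = (LP (LK LD1_c30 LD2_c41 LD3_c46)) :=
  Lgr Lrot59 (Lpr_cf (f576453 IH) (Lpn (LP (LK LD1_c30 LD2_c41 LD3_c46))))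
theorem f608449 : Led Lsl_gt (LP (LK LD1_c30 LD2_c52 LD3_c50)) = (LP (LK LD1_c23 LD2_c29 LD3_c47)) :=
  Lgr Lrot9 (Lpe (K43.f116253 IH) (Lpr_gt (f608443 IH) (Lpr_ct (f554157 IH) (Lpr_gt (K40.f205193 IH) (Lpe (K43.f560491 IH) (Lpe (f462598 IH) (Lpe (K43.f560246 IH) (Lpr_gf (f576427 IH) (Lpe (f576455 IH) (Lpn (LP (LK LD1_c23 LD2_c29 LD3_c47))))))))))))
theorem f521988 : Led Lsl_ff (LP (LK LD1_c22 LD2_c43 LD3_c36)) = (LP (LK LD1_c22 LD2_c44 LD3_c51)) :=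
  Lgr Lrot23 (Lpr_ct (f446545 IH) (Lpr_ft (K40.f520397 IH) (Lpr_ct (K40.f459257 IH) (Lpn (LP (LK LD1_c22 LD2_c44 LD3_c51))))))
theorem f480509 : Led Lsl_at (LP (LK LD1_c22 LD2_c43 LD3_c36)) = (LP (LK LD1_c30 LD2_c40 LD3_c55)) :=
  Lre_a IH (LK LD1_c22 LD2_c43 LD3_c36) (LK LD1_c30 LD2_c40 LD3_c55) Lrfl Lrfl
theorem f533950 : Led Lsl_gf (LP (LK LD1_c30 LD2_c40 LD3_c55)) = (LP (LK LD1_c23 LD2_c38 LD3_c32)) :=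
  Lgr Lrot76 (Lpe (f480509 IH) (Lpr_ff (f521988 IH) (Lpr_gt (K40.f533944 IH) (Lpn (LP (LK LD1_c23 LD2_c38 LD3_c32))))))
theorem f480510 : Led Lsl_ct (LP (LK LD1_c30 LD2_c40 LD3_c55)) = (LP (LK LD1_c22 LD2_c43 LD3_c35)) :=
  Lre_c IH (LK LD1_c30 LD2_c40 LD3_c55) (LK LD1_c22 LD2_c43 LD3_c35) Lrfl Lrfl
theorem f533956 : Led Lsl_gt (LP (LK LD1_c22 LD2_c43 LD3_c35)) = (LP (LK LD1_c22 LD2_c44 LD3_c28)) :=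
  Lgr Lrot5 (Lpe (K40.f520608 IH) (Lpr_at (K33.f472691 IH) (Lpr_gf (K40.f533952 IH) (Lpn (LP (LK LD1_c22 LD2_c44 LD3_c28))))))
theorem f469386 : Led Lsl_ct (LP (LK LD1_c22 LD2_c44 LD3_c28)) = (LP (LK LD1_c30 LD2_c41 LD3_c41)) :=
  Lre_c IH (LK LD1_c22 LD2_c44 LD3_c28) (LK LD1_c30 LD2_c41 LD3_c41) Lrfl Lrfl
theorem f608453 : Led Lsl_df (LP (LK LD1_c30 LD2_c41 LD3_c41)) = (LP (LK LD1_c30 LD2_c41 LD3_c46)) :=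
  Lgr Lrot162 (Lpe (f469386 IH) (Lpe (f533956 IH) (Lpe (f480510 IH) (Lpr_gf (f533950 IH) (Lpe (f541989 IH) (Lpe (f576568 IH) (Lpr_ct (f560294 IH) (Lpr_gt (f608449 IH) (Lpr_ct (f576455 IH) (Lpn (LP (LK LD1_c30 LD2_c41 LD3_c46))))))))))))
theorem f608298 : Led Lsl_cf (LP (LK LD1_c30 LD2_c40 LD3_c58)) = (LP (LK LD1_c23 LD2_c3 LD3_c28)) :=
  Lgr Lrot125 (Lpr_gt (f466059 IH) (Lpe (K40.f459036 IH) (Lpr_bt (K40.f446544 IH) (Lpr_gt (K33.f446543 IH) (Lpe (K33.f458824 IH) (Lpr_ct (K47.f458822 IH) (Lpr_gt (K47.f459261 IH) (Lpe (K47.f466046 IH) (Lpr_bt (K47.f487355 IH) (Lpr_gt (K47.f608292 IH) (Lpn (LP (LK LD1_c23 LD2_c3 LD3_c28)))))))))))))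
theorem f487367 : Led Lsl_ct (LP (LK LD1_c30 LD2_c47 LD3_c7)) = (LP (LK LD1_c22 LD2_c53 LD3_c52)) :=
  Lre_c IH (LK LD1_c30 LD2_c47 LD3_c7) (LK LD1_c22 LD2_c53 LD3_c52) Lrfl Lrfl
theorem f617813 : Led Lsl_gt (LP (LK LD1_c30 LD2_c41 LD3_c41)) = (LP (LK LD1_c30 LD2_c47 LD3_c7)) :=
  Lgr Lrot9 (Lpr_df (f608453 IH) (Lpe (f576427 IH) (Lpr_ct (K43.f560246 IH) (Lpr_gt (f554232 IH) (Lpr_ct (f567952 IH) (Lpr_df (f617809 IH) (Lpr_cf (f608298 IH) (Lpe (K47.f608292 IH) (Lpe (f487367 IH) (Lpn (LP (LK LD1_c30 LD2_c47 LD3_c7))))))))))))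
theorem f520606 : Led Lsl_ff (LP (LK LD1_c14 LD2_c50 LD3_c58)) = (LP (LK LD1_c14 LD2_c55 LD3_c3)) :=
  Lgr Lrot19 (Lpe (K40.f472688 IH) (Lpr_ft (K40.f520602 IH) (Lpe (f480495 IH) (Lpn (LP (LK LD1_c14 LD2_c55 LD3_c3))))))
theorem f472684 : Led Lsl_gt (LP (LK LD1_c14 LD2_c51 LD3_c1)) = (LP (LK LD1_c7 LD2_c52 LD3_c21)) :=
  Lre_g IH (LK LD1_c14 LD2_c51 LD3_c1) (LK LD1_c7 LD2_c52 LD3_c21) Lrfl Lrfl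
theorem f520640 : Led Lsl_gf (LP (LK LD1_c14 LD2_c51 LD3_c1)) = (LP (LK LD1_c14 LD2_c55 LD3_c3)) :=
  Lgr Lrot47 (Lpr_gt (f472684 IH) (Lpe (K33.f472677 IH) (Lpr_ff (f520606 IH) (Lpn (LP (LK LD1_c14 LD2_c55 LD3_c3))))))
theorem f456581 : Led Lsl_gt (LP (LK LD1_c13 LD2_c32 LD3_c8)) = (LP (LK LD1_c7 LD2_c8 LD3_c48)) :=
  Lre_g IH (LK LD1_c13 LD2_c32 LD3_c8) (LK LD1_c7 LD2_c8 LD3_c48) Lrfl Lrfl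
theorem f617815 : Led Lsl_ct (LP (LK LD1_c14 LD2_c51 LD3_c1)) = (LP (LK LD1_c13 LD2_c32 LD3_c8)) :=
  Lgr Lrot152 (Lpr_gf (f520640 IH) (Lpr_df (f480495 IH) (Lpr_gt (f533956 IH) (Lpr_ct (f469386 IH) (Lpr_gt (f617813 IH) (Lpr_ct (f487367 IH) (Lpe (K47.f456586 IH) (Lpe (K33.f456569 IH) (Lpe (f456581 IH) (Lpn (LP (LK LD1_c13 LD2_c32 LD3_c8))))))))))))
theorem f617819 : Led Lsl_cf (LP (LK LD1_c14 LD2_c51 LD3_c1)) = (LP (LK LD1_c13 LD2_c32 LD3_c8)) :=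
  Lgr Lrot11 (Lpr_ct (f617815 IH) (Lpn (LP (LK LD1_c13 LD2_c32 LD3_c8))))
theorem f480591 : Led Lsl_ct (LP (LK LD1_c30 LD2_c31 LD3_c54)) = (LP (LK LD1_c22 LD2_c29 LD3_c5)) :=
  Lre_c IH (LK LD1_c30 LD2_c31 LD3_c54) (LK LD1_c22 LD2_c29 LD3_c5) Lrfl Lrfl
theorem f742285 : Led Lsl_gf (LP (LK LD1_c30 LD2_c31 LD3_c54)) = (LP (LK LD1_c23 LD2_c42 LD3_c58)) :=
  Lgr Lrot104 (Lpr_ct (f480591 IH) (Lpe (K40.f480595 IH) (Lpr_cf (K33.f480589 IH) (Lpe (f472684 IH) (Lpr_cf (f617819 IH) (Lpe (f554181 IH) (Lpr_df (K39.f554177 IH) (Lpe (K39.f554165 IH) (Lpr_ct (f742279 IH) (Lpn (LP (LK LD1_c23 LD2_c42 LD3_c58))))))))))))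
theorem f742263 : Led Lsl_ft (LP (LK LD1_c14 LD2_c8 LD3_c28)) = (LP (LK LD1_c23 LD2_c42 LD3_c61)) :=
  Lre_f IH (LK LD1_c14 LD2_c8 LD3_c28) (LK LD1_c23 LD2_c42 LD3_c61) Lrfl Lrfl
theorem f742287 : Led Lsl_af (LP (LK LD1_c30 LD2_c31 LD3_c54)) = (LP (LK LD1_c23 LD2_c42 LD3_c61)) :=
  Lgr Lrot31 (Lpr_gf (f742285 IH) (Lpe (f742269 IH) (Lpr_ft (f742263 IH) (Lpn (LP (LK LD1_c23 LD2_c42 LD3_c61))))))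
theorem f742266 : Led Lsl_at (LP (LK LD1_c23 LD2_c42 LD3_c56)) = (LP (LK LD1_c14 LD2_c8 LD3_c28)) :=
  Lre_a IH (LK LD1_c23 LD2_c42 LD3_c56) (LK LD1_c14 LD2_c8 LD3_c28) Lrfl Lrfl
theorem f742294 : Led Lsl_ft (LP (LK LD1_c30 LD2_c31 LD3_c54)) = (LP (LK LD1_c23 LD2_c42 LD3_c56)) :=
  Lgr Lrot101 (Lpr_af (f742287 IH) (Lpe (f742263 IH) (Lpe (f742266 IH) (Lpn (LP (LK LD1_c23 LD2_c42 LD3_c56))))))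
theorem f742297 : Led Lsl_ff (LP (LK LD1_c30 LD2_c31 LD3_c54)) = (LP (LK LD1_c23 LD2_c42 LD3_c56)) :=
  Lgr Lrot3 (Lpr_ft (f742294 IH) (Lpn (LP (LK LD1_c23 LD2_c42 LD3_c56))))
theorem f742325 : Led Lsl_ct (LP (LK LD1_c22 LD2_c29 LD3_c1)) = (LP (LK LD1_c23 LD2_c42 LD3_c56)) :=
  Lgr Lrot40 (Lpr_ff (f519874 IH) (Lpe (f480591 IH) (Lpr_ff (f742297 IH) (Lpn (LP (LK LD1_c23 LD2_c42 LD3_c56))))))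
theorem f464687 : Led Lsl_dt (LP (LK LD1_c13 LD2_c14 LD3_c15)) = (LP (LK LD1_c22 LD2_c29 LD3_c1)) :=
  Lre_d IH (LK LD1_c13 LD2_c14 LD3_c15) (LK LD1_c22 LD2_c29 LD3_c1) Lrfl Lrfl
theorem f209773 : Led Lsl_gt (LP (LK LD1_c7 LD2_c23 LD3_c7)) = (LP (LK LD1_c13 LD2_c57 LD3_c50)) :=
  Lre_g IH (LK LD1_c7 LD2_c23 LD3_c7) (LK LD1_c13 LD2_c57 LD3_c50) Lrfl Lrfl
theorem f209846 : Led Lsl_dt (LP (LK LD1_c13 LD2_c57 LD3_c50)) = (LP (LK LD1_c23 LD2_c29 LD3_c43)) :=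
  Lre_d IH (LK LD1_c13 LD2_c57 LD3_c50) (LK LD1_c23 LD2_c29 LD3_c43) Lrfl Lrfl
theorem f542000 : Led Lsl_gt (LP (LK LD1_c23 LD2_c29 LD3_c43)) = (LP (LK LD1_c31 LD2_c5 LD3_c14)) :=
  Lre_g IH (LK LD1_c23 LD2_c29 LD3_c43) (LK LD1_c31 LD2_c5 LD3_c14) Lrfl Lrfl
theorem f742332 : Led Lsl_dt (LP (LK LD1_c31 LD2_c5 LD3_c14)) = (LP (LK LD1_c23 LD2_c42 LD3_c56)) :=
  Lgr Lrot113 (Lpe (f542000 IH) (Lpe (f209846 IH) (Lpe (f209773 IH) (Lpr_ct (K36.f541981 IH) (Lpr_gt (f493998 IH) (Lpr_dt (f493999 IH) (Lpr_gt (f608441 IH) (Lpr_dt (f464687 IH) (Lpr_ct (f742325 IH) (Lpn (LP (LK LD1_c23 LD2_c42 LD3_c56))))))))))))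
theorem f742336 : Led Lsl_df (LP (LK LD1_c31 LD2_c5 LD3_c14)) = (LP (LK LD1_c23 LD2_c42 LD3_c56)) :=
  Lgr Lrot38 (Lpr_dt (f742332 IH) (Lpn (LP (LK LD1_c23 LD2_c42 LD3_c56))))
theorem f742296 : Led Lsl_et (LP (LK LD1_c23 LD2_c42 LD3_c56)) = (LP (LK LD1_c14 LD2_c8 LD3_c26)) :=
  Lre_e IH (LK LD1_c23 LD2_c42 LD3_c56) (LK LD1_c14 LD2_c8 LD3_c26) Lrfl Lrfl
theorem f742342 : Led Lsl_gf (LP (LK LD1_c13 LD2_c57 LD3_c43)) = (LP (LK LD1_c14 LD2_c8 LD3_c26)) :=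
  Lgr Lrot141 (Lpe (K34.f147212 IH) (Lpr_dt (K47.f147211 IH) (Lpr_gt (K24.f147203 IH) (Lpe (K36.f147268 IH) (Lpr_et (K36.f209772 IH) (Lpr_gt (f209773 IH) (Lpr_dt (f209846 IH) (Lpr_gt (f542000 IH) (Lpr_df (f742336 IH) (Lpr_et (f742296 IH) (Lpn (LP (LK LD1_c14 LD2_c8 LD3_c26)))))))))))))
theorem f144700 : Led Lsl_et (LP (LK LD1_c13 LD2_c57 LD3_c6)) = (LP (LK LD1_c7 LD2_c22 LD3_c44)) :=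
  Lre_e IH (LK LD1_c13 LD2_c57 LD3_c6) (LK LD1_c7 LD2_c22 LD3_c44) Lrfl Lrfl
theorem f155736 : Led Lsl_bf (LP (LK LD1_c13 LD2_c57 LD3_c6)) = (LP (LK LD1_c20 LD2_c46 LD3_c36)) :=
  Lgr Lrot96 (Lpr_et (f144700 IH) (Lpr_bt (K32.f155729 IH) (Lpr_et (K36.f155735 IH) (Lpn (LP (LK LD1_c20 LD2_c46 LD3_c36))))))
theorem f155738 : Led Lsl_bt (LP (LK LD1_c13 LD2_c57 LD3_c6)) = (LP (LK LD1_c20 LD2_c46 LD3_c36)) :=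
  Lgr Lrot127 (Lpr_bf (f155736 IH) (Lpn (LP (LK LD1_c20 LD2_c46 LD3_c36))))
theorem f123698 : Led Lsl_et (LP (LK LD1_c7 LD2_c28 LD3_c28)) = (LP (LK LD1_c14 LD2_c6 LD3_c34)) :=
  Lre_e IH (LK LD1_c7 LD2_c28 LD3_c28) (LK LD1_c14 LD2_c6 LD3_c34) Lrfl Lrfl
theorem f498019 : Led Lsl_at (LP (LK LD1_c14 LD2_c6 LD3_c34)) = (LP (LK LD1_c13 LD2_c57 LD3_c6)) :=
  Lgr Lrot80 (Lpe (f123698 IH) (Lpr_af (K32.f497966 IH) (Lpe (f144700 IH) (Lpn (LP (LK LD1_c13 LD2_c57 LD3_c6))))))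
theorem f541194 : Led Lsl_bt (LP (LK LD1_c21 LD2_c29 LD3_c61)) = (LP (LK LD1_c12 LD2_c23 LD3_c5)) :=
  Lre_b IH (LK LD1_c21 LD2_c29 LD3_c61) (LK LD1_c12 LD2_c23 LD3_c5) Lrfl Lrfl
theorem f541195 : Led Lsl_af (LP (LK LD1_c13 LD2_c57 LD3_c43)) = (LP (LK LD1_c12 LD2_c23 LD3_c5)) :=
  Lgr Lrot36 (Lpr_bt (K34.f147244 IH) (Lpr_at (f498019 IH) (Lpr_bt (f155738 IH) (Lpr_at (K36.f541190 IH) (Lpr_bt (f541194 IH) (Lpn (LP (LK LD1_c12 LD2_c23 LD3_c5))))))))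
theorem f407983 : Led Lsl_ft (LP (LK LD1_c21 LD2_c30 LD3_c1)) = (LP (LK LD1_c12 LD2_c23 LD3_c5)) :=
  Lre_f IH (LK LD1_c21 LD2_c30 LD3_c1) (LK LD1_c12 LD2_c23 LD3_c5) Lrfl Lrfl
theorem f742344 : Led Lsl_gt (LP (LK LD1_c21 LD2_c30 LD3_c1)) = (LP (LK LD1_c14 LD2_c8 LD3_c26)) :=
  Lgr Lrot5 (Lpr_ft (f407983 IH) (Lpe (f541195 IH) (Lpr_gf (f742342 IH) (Lpn (LP (LK LD1_c14 LD2_c8 LD3_c26))))))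
theorem f742875 : Led Lsl_gf (LP (LK LD1_c21 LD2_c30 LD3_c1)) = (LP (LK LD1_c14 LD2_c4 LD3_c10)) :=
  Lgr Lrot47 (Lpr_gt (f742344 IH) (Lpe (f664121 IH) (Lpr_ff (f742550 IH) (Lpn (LP (LK LD1_c14 LD2_c4 LD3_c10))))))
theorem f498773 : Led Lsl_bt (LP (LK LD1_c20 LD2_c46 LD3_c34)) = (LP (LK LD1_c12 LD2_c7 LD3_c22)) :=
  Lgr Lrot127 (Lpr_bf (K36.f498764 IH) (Lpn (LP (LK LD1_c12 LD2_c7 LD3_c22))))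
theorem f436543 : Led Lsl_ft (LP (LK LD1_c29 LD2_c39 LD3_c6)) = (LP (LK LD1_c20 LD2_c46 LD3_c34)) :=
  Lre_f IH (LK LD1_c29 LD2_c39 LD3_c6) (LK LD1_c20 LD2_c46 LD3_c34) Lrfl Lrfl
theorem f498789 : Led Lsl_bf (LP (LK LD1_c29 LD2_c39 LD3_c6)) = (LP (LK LD1_c21 LD2_c13 LD3_c32)) :=
  Lgr Lrot61 (Lpr_ft (f436543 IH) (Lpr_bt (f498773 IH) (Lpr_ft (K36.f498588 IH) (Lpn (LP (LK LD1_c21 LD2_c13 LD3_c32))))))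
theorem f498592 : Led Lsl_ct (LP (LK LD1_c12 LD2_c7 LD3_c25)) = (LP (LK LD1_c21 LD2_c13 LD3_c32)) :=
  Lre_c IH (LK LD1_c12 LD2_c7 LD3_c25) (LK LD1_c21 LD2_c13 LD3_c32) Lrfl Lrfl
theorem f407997 : Led Lsl_bt (LP (LK LD1_c30 LD2_c3 LD3_c13)) = (LP (LK LD1_c21 LD2_c30 LD3_c1)) :=
  Lre_b IH (LK LD1_c30 LD2_c3 LD3_c13) (LK LD1_c21 LD2_c30 LD3_c1) Lrfl Lrfl
theorem f36382 : Led Lsl_ct (LP (LK LD1_c21 LD2_c30 LD3_c1)) = (LP (LK LD1_c12 LD2_c23 LD3_c8)) :=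
  Lre_c IH (LK LD1_c21 LD2_c30 LD3_c1) (LK LD1_c12 LD2_c23 LD3_c8) Lrfl Lrfl
theorem f541207 : Led Lsl_bf (LP (LK LD1_c12 LD2_c7 LD3_c25)) = (LP (LK LD1_c12 LD2_c23 LD3_c8)) :=
  Lgr Lrot90 (Lpr_ct (f498592 IH) (Lpe (f498789 IH) (Lpr_ct (K36.f541205 IH) (Lpr_bt (f407997 IH) (Lpr_ct (f36382 IH) (Lpn (LP (LK LD1_c12 LD2_c23 LD3_c8))))))))
theorem f138195 : Led Lsl_et (LP (LK LD1_c5 LD2_c54 LD3_c10)) = (LP (LK LD1_c2 LD2_c53 LD3_c29)) :=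
  Lre_e IH (LK LD1_c5 LD2_c54 LD3_c10) (LK LD1_c2 LD2_c53 LD3_c29) Lrfl Lrfl
theorem f498717 : Led Lsl_af (LP (LK LD1_c5 LD2_c54 LD3_c10)) = (LP (LK LD1_c6 LD2_c14 LD3_c34)) :=
  Lgr Lrot50 (Lpr_et (f138195 IH) (Lpr_at (K39.f498715 IH) (Lpr_et (K36.f205770 IH) (Lpn (LP (LK LD1_c6 LD2_c14 LD3_c34))))))
theorem f138206 : Led Lsl_gt (LP (LK LD1_c11 LD2_c34 LD3_c8)) = (LP (LK LD1_c5 LD2_c54 LD3_c10)) :=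
  Lre_g IH (LK LD1_c11 LD2_c34 LD3_c8) (LK LD1_c5 LD2_c54 LD3_c10) Lrfl Lrfl
theorem f498721 : Led Lsl_ft (LP (LK LD1_c12 LD2_c7 LD3_c25)) = (LP (LK LD1_c6 LD2_c14 LD3_c34)) :=
  Lre_f IH (LK LD1_c12 LD2_c7 LD3_c25) (LK LD1_c6 LD2_c14 LD3_c34) Lrfl Lrfl
theorem f498722 : Led Lsl_gf (LP (LK LD1_c11 LD2_c34 LD3_c8)) = (LP (LK LD1_c12 LD2_c7 LD3_c25)) :=
  Lgr Lrot47 (Lpr_gt (f138206 IH) (Lpr_af (f498717 IH) (Lpe (f498721 IH) (Lpn (LP (LK LD1_c12 LD2_c7 LD3_c25))))))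
theorem f742538 : Led Lsl_ct (LP (LK LD1_c16 LD2_c23 LD3_c44)) = (LP (LK LD1_c14 LD2_c4 LD3_c10)) :=
  Lgr Lrot59 (Lpr_cf (f742532 IH) (Lpn (LP (LK LD1_c14 LD2_c4 LD3_c10))))
theorem f742881 : Led Lsl_bf (LP (LK LD1_c11 LD2_c34 LD3_c8)) = (LP (LK LD1_c6 LD2_c24 LD3_c22)) :=
  Lgr Lrot34 (Lpr_gf (f498722 IH) (Lpr_bf (f541207 IH) (Lpr_ct (K36.f36376 IH) (Lpr_gf (f742875 IH) (Lpe (f742538 IH) (Lpe (f81148 IH) (Lpe (K10.f81143 IH) (Lpr_ct (K10.f81146 IH) (Lpe (K47.f70166 IH) (Lpr_cf (K47.f607997 IH) (Lpn (LP (LK LD1_c6 LD2_c24 LD3_c22)))))))))))))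
theorem f561054 : Led Lsl_at (LP (LK LD1_c8 LD2_c51 LD3_c33)) = (LP (LK LD1_c8 LD2_c50 LD3_c57)) :=
  Lgr Lrot80 (Lpr_ef (K37.f543096 IH) (Lpe (K39.f528420 IH) (Lpr_ef (K40.f561046 IH) (Lpn (LP (LK LD1_c8 LD2_c50 LD3_c57))))))
theorem f617246 : Led Lsl_ff (LP (LK LD1_c8 LD2_c51 LD3_c33)) = (LP (LK LD1_c8 LD2_c50 LD3_c58)) :=
  Lgr Lrot52 (Lpr_at (f561054 IH) (Lpe (K37.f16353 IH) (Lpe (K2.f16577 IH) (Lpn (LP (LK LD1_c8 LD2_c50 LD3_c58))))))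
theorem f617256 : Led Lsl_ft (LP (LK LD1_c8 LD2_c51 LD3_c33)) = (LP (LK LD1_c8 LD2_c50 LD3_c58)) :=
  Lgr Lrot48 (Lpr_ff (f617246 IH) (Lpn (LP (LK LD1_c8 LD2_c50 LD3_c58))))
theorem f617266 : Led Lsl_af (LP (LK LD1_c8 LD2_c51 LD3_c34)) = (LP (LK LD1_c8 LD2_c50 LD3_c58)) :=
  Lgr Lrot31 (Lpr_gf (K37.f16224 IH) (Lpe (K37.f16538 IH) (Lpr_ft (f617256 IH) (Lpn (LP (LK LD1_c8 LD2_c50 LD3_c58))))))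
theorem f561038 : Led Lsl_af (LP (LK LD1_c8 LD2_c51 LD3_c33)) = (LP (LK LD1_c8 LD2_c50 LD3_c57)) :=
  Lgr Lrot50 (Lpr_et (K47.f543102 IH) (Lpr_at (K47.f529704 IH) (Lpr_et (K40.f561036 IH) (Lpn (LP (LK LD1_c8 LD2_c50 LD3_c57))))))
theorem f617276 : Led Lsl_ft (LP (LK LD1_c8 LD2_c51 LD3_c34)) = (LP (LK LD1_c8 LD2_c50 LD3_c57)) :=
  Lgr Lrot101 (Lpr_af (f617266 IH) (Lpe (f617256 IH) (Lpr_af (f561038 IH) (Lpn (LP (LK LD1_c8 LD2_c50 LD3_c57))))))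
theorem f617286 : Led Lsl_ff (LP (LK LD1_c8 LD2_c51 LD3_c34)) = (LP (LK LD1_c8 LD2_c50 LD3_c57)) :=
  Lgr Lrot3 (Lpr_ft (f617276 IH) (Lpn (LP (LK LD1_c8 LD2_c50 LD3_c57))))
theorem f528423 : Led Lsl_et (LP (LK LD1_c23 LD2_c4 LD3_c57)) = (LP (LK LD1_c13 LD2_c39 LD3_c37)) :=
  Lre_e IH (LK LD1_c23 LD2_c4 LD3_c57) (LK LD1_c13 LD2_c39 LD3_c37) Lrfl Lrfl
theorem f617294 : Led Lsl_ft (LP (LK LD1_c16 LD2_c33 LD3_c48)) = (LP (LK LD1_c23 LD2_c4 LD3_c57)) :=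
  Lgr Lrot86 (Lpe (K50.f443807 IH) (Lpr_ff (f617286 IH) (Lpe (K40.f561036 IH) (Lpr_ff (K39.f528306 IH) (Lpe (f528423 IH) (Lpn (LP (LK LD1_c23 LD2_c4 LD3_c57))))))))
theorem f98459 : Led Lsl_bt (LP (LK LD1_c23 LD2_c4 LD3_c57)) = (LP (LK LD1_c13 LD2_c39 LD3_c40)) :=
  Lre_b IH (LK LD1_c23 LD2_c4 LD3_c57) (LK LD1_c13 LD2_c39 LD3_c40) Lrfl Lrfl
theorem f617296 : Led Lsl_bf (LP (LK LD1_c16 LD2_c33 LD3_c48)) = (LP (LK LD1_c23 LD2_c5 LD3_c0)) :=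
  Lgr Lrot61 (Lpr_ft (f617294 IH) (Lpr_bt (f98459 IH) (Lpr_ft (K47.f528311 IH) (Lpn (LP (LK LD1_c23 LD2_c5 LD3_c0))))))
theorem f16587 : Led Lsl_et (LP (LK LD1_c16 LD2_c32 LD3_c30)) = (LP (LK LD1_c8 LD2_c50 LD3_c58)) :=
  Lre_e IH (LK LD1_c16 LD2_c32 LD3_c30) (LK LD1_c8 LD2_c50 LD3_c58) Lrfl Lrfl
theorem f617274 : Led Lsl_at (LP (LK LD1_c16 LD2_c33 LD3_c48)) = (LP (LK LD1_c16 LD2_c32 LD3_c30)) :=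
  Lgr Lrot80 (Lpe (K50.f443807 IH) (Lpr_af (f617266 IH) (Lpe (f16587 IH) (Lpn (LP (LK LD1_c16 LD2_c32 LD3_c30))))))
theorem f56399 : Led Lsl_bt (LP (LK LD1_c16 LD2_c32 LD3_c30)) = (LP (LK LD1_c26 LD2_c29 LD3_c9)) :=
  Lre_b IH (LK LD1_c16 LD2_c32 LD3_c30) (LK LD1_c26 LD2_c29 LD3_c9) Lrfl Lrfl
theorem f528345 : Led Lsl_bt (LP (LK LD1_c23 LD2_c8 LD3_c10)) = (LP (LK LD1_c13 LD2_c42 LD3_c34)) :=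
  Lre_b IH (LK LD1_c23 LD2_c8 LD3_c10) (LK LD1_c13 LD2_c42 LD3_c34) Lrfl Lrfl
theorem f617304 : Led Lsl_at (LP (LK LD1_c26 LD2_c29 LD3_c9)) = (LP (LK LD1_c23 LD2_c8 LD3_c10)) :=
  Lgr Lrot67 (Lpe (f56399 IH) (Lpe (f617274 IH) (Lpr_bf (f617296 IH) (Lpe (K53.f528335 IH) (Lpe (f528345 IH) (Lpn (LP (LK LD1_c23 LD2_c8 LD3_c10))))))))
theorem f529703 : Led Lsl_ft (LP (LK LD1_c23 LD2_c8 LD3_c10)) = (LP (LK LD1_c13 LD2_c42 LD3_c22)) :=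
  Lre_f IH (LK LD1_c23 LD2_c8 LD3_c10) (LK LD1_c13 LD2_c42 LD3_c22) Lrfl Lrfl
theorem f528391 : Led Lsl_at (LP (LK LD1_c13 LD2_c42 LD3_c22)) = (LP (LK LD1_c23 LD2_c8 LD3_c7)) :=
  Lre_a IH (LK LD1_c13 LD2_c42 LD3_c22) (LK LD1_c23 LD2_c8 LD3_c7) Lrfl Lrfl
theorem f617310 : Led Lsl_ff (LP (LK LD1_c26 LD2_c29 LD3_c9)) = (LP (LK LD1_c23 LD2_c8 LD3_c7)) :=
  Lgr Lrot30 (Lpr_at (f617304 IH) (Lpr_ft (f529703 IH) (Lpr_at (f528391 IH) (Lpn (LP (LK LD1_c23 LD2_c8 LD3_c7))))))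
theorem f617317 : Led Lsl_ft (LP (LK LD1_c26 LD2_c29 LD3_c9)) = (LP (LK LD1_c23 LD2_c8 LD3_c7)) :=
  Lgr Lrot48 (Lpr_ff (f617310 IH) (Lpn (LP (LK LD1_c23 LD2_c8 LD3_c7))))
theorem f56394 : Led Lsl_ft (LP (LK LD1_c26 LD2_c29 LD3_c12)) = (LP (LK LD1_c16 LD2_c32 LD3_c30)) :=
  Lre_f IH (LK LD1_c26 LD2_c29 LD3_c12) (LK LD1_c16 LD2_c32 LD3_c30) Lrfl Lrfl
theorem f617319 : Led Lsl_bf (LP (LK LD1_c26 LD2_c29 LD3_c12)) = (LP (LK LD1_c23 LD2_c8 LD3_c7)) :=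
  Lgr Lrot61 (Lpr_ft (f56394 IH) (Lpr_bt (f56399 IH) (Lpr_ft (f617317 IH) (Lpn (LP (LK LD1_c23 LD2_c8 LD3_c7))))))
theorem f528390 : Led Lsl_bt (LP (LK LD1_c7 LD2_c14 LD3_c45)) = (LP (LK LD1_c13 LD2_c42 LD3_c22)) :=
  Lre_b IH (LK LD1_c7 LD2_c14 LD3_c45) (LK LD1_c13 LD2_c42 LD3_c22) Lrfl Lrfl
theorem f528324 : Led Lsl_af (LP (LK LD1_c7 LD2_c14 LD3_c45)) = (LP (LK LD1_c13 LD2_c39 LD3_c40)) :=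
  Lgr Lrot0 (Lpr_at (K47.f528322 IH) (Lpn (LP (LK LD1_c13 LD2_c39 LD3_c40))))
theorem f617324 : Led Lsl_at (LP (LK LD1_c26 LD2_c29 LD3_c12)) = (LP (LK LD1_c23 LD2_c4 LD3_c57)) :=
  Lgr Lrot67 (Lpr_bf (f617319 IH) (Lpe (f528391 IH) (Lpe (f528390 IH) (Lpr_af (f528324 IH) (Lpe (f98459 IH) (Lpn (LP (LK LD1_c23 LD2_c4 LD3_c57))))))))
theorem f617326 : Led Lsl_af (LP (LK LD1_c26 LD2_c29 LD3_c12)) = (LP (LK LD1_c23 LD2_c4 LD3_c57)) :=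
  Lgr Lrot0 (Lpr_at (f617324 IH) (Lpn (LP (LK LD1_c23 LD2_c4 LD3_c57))))
theorem f617328 : Led Lsl_at (LP (LK LD1_c16 LD2_c32 LD3_c30)) = (LP (LK LD1_c16 LD2_c33 LD3_c48)) :=
  Lgr Lrot66 (Lpe (f56394 IH) (Lpr_af (f617326 IH) (Lpe (f617294 IH) (Lpn (LP (LK LD1_c16 LD2_c33 LD3_c48))))))
theorem f56381 : Led Lsl_et (LP (LK LD1_c4 LD2_c39 LD3_c38)) = (LP (LK LD1_c9 LD2_c14 LD3_c54)) :=
  Lre_e IH (LK LD1_c4 LD2_c39 LD3_c38) (LK LD1_c9 LD2_c14 LD3_c54) Lrfl Lrfl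
theorem f56115 : Led Lsl_dt (LP (LK LD1_c9 LD2_c14 LD3_c53)) = (LP (LK LD1_c4 LD2_c39 LD3_c38)) :=
  Lre_d IH (LK LD1_c9 LD2_c14 LD3_c53) (LK LD1_c4 LD2_c39 LD3_c38) Lrfl Lrfl
theorem f56382 : Led Lsl_et (LP (LK LD1_c17 LD2_c9 LD3_c19)) = (LP (LK LD1_c9 LD2_c14 LD3_c53)) :=
  Lre_e IH (LK LD1_c17 LD2_c9 LD3_c19) (LK LD1_c9 LD2_c14 LD3_c53) Lrfl Lrfl
theorem f56383 : Led Lsl_et (LP (LK LD1_c8 LD2_c50 LD3_c58)) = (LP (LK LD1_c16 LD2_c32 LD3_c30)) :=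
  Lre_e IH (LK LD1_c8 LD2_c50 LD3_c58) (LK LD1_c16 LD2_c32 LD3_c30) Lrfl Lrfl
theorem f56384 : Led Lsl_df (LP (LK LD1_c17 LD2_c9 LD3_c19)) = (LP (LK LD1_c16 LD2_c32 LD3_c30)) :=
  Lgr Lrot70 (Lpr_et (f56382 IH) (Lpr_dt (f56115 IH) (Lpr_et (f56381 IH) (Lpr_dt (K2.f56373 IH) (Lpr_et (f56383 IH) (Lpn (LP (LK LD1_c16 LD2_c32 LD3_c30))))))))
theorem f56392 : Led Lsl_dt (LP (LK LD1_c17 LD2_c9 LD3_c19)) = (LP (LK LD1_c16 LD2_c32 LD3_c30)) :=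
  Lgr Lrot42 (Lpr_df (f56384 IH) (Lpn (LP (LK LD1_c16 LD2_c32 LD3_c30))))
theorem f617336 : Led Lsl_af (LP (LK LD1_c17 LD2_c9 LD3_c19)) = (LP (LK LD1_c21 LD2_c28 LD3_c38)) :=
  Lgr Lrot117 (Lpr_dt (f56392 IH) (Lpr_at (f617328 IH) (Lpr_dt (K50.f443810 IH) (Lpn (LP (LK LD1_c21 LD2_c28 LD3_c38))))))
theorem f617342 : Led Lsl_at (LP (LK LD1_c9 LD2_c14 LD3_c53)) = (LP (LK LD1_c12 LD2_c21 LD3_c54)) :=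
  Lgr Lrot80 (Lpe (f56382 IH) (Lpr_af (f617336 IH) (Lpe (K50.f56504 IH) (Lpn (LP (LK LD1_c12 LD2_c21 LD3_c54))))))
theorem f617348 : Led Lsl_af (LP (LK LD1_c4 LD2_c39 LD3_c38)) = (LP (LK LD1_c6 LD2_c24 LD3_c21)) :=
  Lgr Lrot117 (Lpr_dt (K39.f56298 IH) (Lpr_at (f617342 IH) (Lpr_dt (K50.f56498 IH) (Lpn (LP (LK LD1_c6 LD2_c24 LD3_c21))))))
theorem f617356 : Led Lsl_ft (LP (LK LD1_c4 LD2_c39 LD3_c39)) = (LP (LK LD1_c6 LD2_c24 LD3_c21)) :=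
  Lgr Lrot2 (Lpr_gt (K37.f56093 IH) (Lpr_gt (K2.f56095 IH) (Lpr_af (f617348 IH) (Lpn (LP (LK LD1_c6 LD2_c24 LD3_c21))))))
theorem f617366 : Led Lsl_ff (LP (LK LD1_c4 LD2_c39 LD3_c39)) = (LP (LK LD1_c6 LD2_c24 LD3_c21)) :=
  Lgr Lrot3 (Lpr_ft (f617356 IH) (Lpn (LP (LK LD1_c6 LD2_c24 LD3_c21))))
theorem f617376 : Led Lsl_at (LP (LK LD1_c4 LD2_c39 LD3_c39)) = (LP (LK LD1_c6 LD2_c24 LD3_c22)) :=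
  Lgr Lrot26 (Lpr_ff (f617366 IH) (Lpe (K37.f56496 IH) (Lpr_gt (K47.f56505 IH) (Lpn (LP (LK LD1_c6 LD2_c24 LD3_c22))))))
theorem f617350 : Led Lsl_at (LP (LK LD1_c4 LD2_c39 LD3_c38)) = (LP (LK LD1_c6 LD2_c24 LD3_c21)) :=
  Lgr Lrot100 (Lpr_af (f617348 IH) (Lpn (LP (LK LD1_c6 LD2_c24 LD3_c21))))
theorem f617386 : Led Lsl_ff (LP (LK LD1_c4 LD2_c39 LD3_c38)) = (LP (LK LD1_c6 LD2_c24 LD3_c22)) :=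
  Lgr Lrot30 (Lpr_at (f617350 IH) (Lpe (f617366 IH) (Lpr_at (f617376 IH) (Lpn (LP (LK LD1_c6 LD2_c24 LD3_c22))))))
theorem f617394 : Led Lsl_ft (LP (LK LD1_c4 LD2_c39 LD3_c38)) = (LP (LK LD1_c6 LD2_c24 LD3_c22)) :=
  Lgr Lrot48 (Lpr_ff (f617386 IH) (Lpn (LP (LK LD1_c6 LD2_c24 LD3_c22))))
theorem f56369 : Led Lsl_bt (LP (LK LD1_c9 LD2_c14 LD3_c52)) = (LP (LK LD1_c4 LD2_c39 LD3_c38)) :=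
  Lre_b IH (LK LD1_c9 LD2_c14 LD3_c52) (LK LD1_c4 LD2_c39 LD3_c38) Lrfl Lrfl
theorem f742892 : Led Lsl_ft (LP (LK LD1_c11 LD2_c34 LD3_c8)) = (LP (LK LD1_c9 LD2_c14 LD3_c52)) :=
  Lgr Lrot75 (Lpr_bf (f742881 IH) (Lpe (f617394 IH) (Lpe (f56369 IH) (Lpn (LP (LK LD1_c9 LD2_c14 LD3_c52))))))
theorem f138208 : Led Lsl_gt (LP (LK LD1_c5 LD2_c54 LD3_c10)) = (LP (LK LD1_c11 LD2_c34 LD3_c7)) :=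
  Lre_g IH (LK LD1_c5 LD2_c54 LD3_c10) (LK LD1_c11 LD2_c34 LD3_c7) Lrfl Lrfl
theorem f742900 : Led Lsl_af (LP (LK LD1_c11 LD2_c34 LD3_c7)) = (LP (LK LD1_c9 LD2_c14 LD3_c52)) :=
  Lgr Lrot31 (Lpe (f138208 IH) (Lpe (f138206 IH) (Lpr_ft (f742892 IH) (Lpn (LP (LK LD1_c9 LD2_c14 LD3_c52))))))
theorem f742904 : Led Lsl_bt (LP (LK LD1_c11 LD2_c34 LD3_c7)) = (LP (LK LD1_c20 LD2_c31 LD3_c36)) :=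
  Lre_b IH (LK LD1_c11 LD2_c34 LD3_c7) (LK LD1_c20 LD2_c31 LD3_c36) Lrfl Lrfl
theorem f445189 : Led Lsl_bt (LP (LK LD1_c4 LD2_c39 LD3_c38)) = (LP (LK LD1_c9 LD2_c14 LD3_c52)) :=
  Lre_b IH (LK LD1_c4 LD2_c39 LD3_c38) (LK LD1_c9 LD2_c14 LD3_c52) Lrfl Lrfl
theorem f56500 : Led Lsl_bt (LP (LK LD1_c12 LD2_c21 LD3_c53)) = (LP (LK LD1_c6 LD2_c24 LD3_c21)) :=
  Lre_b IH (LK LD1_c12 LD2_c21 LD3_c53) (LK LD1_c6 LD2_c24 LD3_c21) Lrfl Lrfl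
theorem f742905 : Led Lsl_at (LP (LK LD1_c20 LD2_c31 LD3_c36)) = (LP (LK LD1_c12 LD2_c21 LD3_c53)) :=
  Lgr Lrot67 (Lpe (f742904 IH) (Lpr_af (f742900 IH) (Lpe (f445189 IH) (Lpr_af (f617348 IH) (Lpe (f56500 IH) (Lpn (LP (LK LD1_c12 LD2_c21 LD3_c53))))))))
theorem f617292 : Led Lsl_ft (LP (LK LD1_c12 LD2_c21 LD3_c55)) = (LP (LK LD1_c16 LD2_c32 LD3_c27)) :=
  Lgr Lrot54 (Lpe (K37.f443805 IH) (Lpr_ff (f617286 IH) (Lpe (K37.f16357 IH) (Lpn (LP (LK LD1_c16 LD2_c32 LD3_c27))))))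
theorem f443804 : Led Lsl_bt (LP (LK LD1_c21 LD2_c28 LD3_c36)) = (LP (LK LD1_c12 LD2_c21 LD3_c55)) :=
  Lre_b IH (LK LD1_c21 LD2_c28 LD3_c36) (LK LD1_c12 LD2_c21 LD3_c55) Lrfl Lrfl
theorem f470703 : Led Lsl_bt (LP (LK LD1_c7 LD2_c14 LD3_c53)) = (LP (LK LD1_c13 LD2_c42 LD3_c42)) :=
  Lre_b IH (LK LD1_c7 LD2_c14 LD3_c53) (LK LD1_c13 LD2_c42 LD3_c42) Lrfl Lrfl
theorem f561075 : Led Lsl_bf (LP (LK LD1_c13 LD2_c42 LD3_c47)) = (LP (LK LD1_c16 LD2_c32 LD3_c27)) :=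
  Lgr Lrot96 (Lpr_et (K41.f470699 IH) (Lpr_bt (f470703 IH) (Lpr_et (K40.f561060 IH) (Lpn (LP (LK LD1_c16 LD2_c32 LD3_c27))))))
theorem f617612 : Led Lsl_ff (LP (LK LD1_c21 LD2_c28 LD3_c36)) = (LP (LK LD1_c13 LD2_c42 LD3_c47)) :=
  Lgr Lrot25 (Lpr_bt (f443804 IH) (Lpr_ft (f617292 IH) (Lpe (f561075 IH) (Lpn (LP (LK LD1_c13 LD2_c42 LD3_c47))))))
theorem f617614 : Led Lsl_dt (LP (LK LD1_c21 LD2_c28 LD3_c36)) = (LP (LK LD1_c13 LD2_c42 LD3_c48)) :=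
  Lgr Lrot60 (Lpr_ff (f617612 IH) (Lpe (K53.f481307 IH) (Lpe (K47.f528310 IH) (Lpn (LP (LK LD1_c13 LD2_c42 LD3_c48))))))
theorem f617607 : Led Lsl_et (LP (LK LD1_c21 LD2_c28 LD3_c36)) = (LP (LK LD1_c12 LD2_c21 LD3_c53)) :=
  Lre_e IH (LK LD1_c21 LD2_c28 LD3_c36) (LK LD1_c12 LD2_c21 LD3_c53) Lrfl Lrfl
theorem f614182 : Led Lsl_gt (LP (LK LD1_c13 LD2_c42 LD3_c48)) = (LP (LK LD1_c21 LD2_c12 LD3_c21)) :=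
  Lgr Lrot5 (Lpr_ft (K47.f528310 IH) (Lpr_at (K53.f528504 IH) (Lpr_gf (K53.f614180 IH) (Lpn (LP (LK LD1_c21 LD2_c12 LD3_c21))))))
theorem f38229 : Led Lsl_dt (LP (LK LD1_c12 LD2_c6 LD3_c17)) = (LP (LK LD1_c21 LD2_c12 LD3_c21)) :=
  Lre_d IH (LK LD1_c12 LD2_c6 LD3_c17) (LK LD1_c21 LD2_c12 LD3_c21) Lrfl Lrfl
theorem f617620 : Led Lsl_gf (LP (LK LD1_c12 LD2_c21 LD3_c53)) = (LP (LK LD1_c8 LD2_c48 LD3_c18)) :=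
  Lgr Lrot141 (Lpe (f617607 IH) (Lpr_dt (f617614 IH) (Lpr_gt (f614182 IH) (Lpe (f38229 IH) (Lpr_et (K53.f38228 IH) (Lpe (K28.f38226 IH) (Lpr_dt (K11.f80734 IH) (Lpe (K11.f80737 IH) (Lpr_df (K36.f420388 IH) (Lpr_et (K43.f420391 IH) (Lpn (LP (LK LD1_c8 LD2_c48 LD3_c18)))))))))))))
theorem f742987 : Led Lsl_ff (LP (LK LD1_c20 LD2_c31 LD3_c36)) = (LP (LK LD1_c13 LD2_c51 LD3_c31)) :=
  Lgr Lrot52 (Lpr_at (f742905 IH) (Lpr_gf (f617620 IH) (Lpe (K47.f574105 IH) (Lpn (LP (LK LD1_c13 LD2_c51 LD3_c31))))))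
theorem f56096 : Led Lsl_bt (LP (LK LD1_c9 LD2_c14 LD3_c55)) = (LP (LK LD1_c4 LD2_c39 LD3_c39)) :=
  Lre_b IH (LK LD1_c9 LD2_c14 LD3_c55) (LK LD1_c4 LD2_c39 LD3_c39) Lrfl Lrfl
theorem f444847 : Led Lsl_bt (LP (LK LD1_c6 LD2_c24 LD3_c21)) = (LP (LK LD1_c12 LD2_c21 LD3_c53)) :=
  Lre_b IH (LK LD1_c6 LD2_c24 LD3_c21) (LK LD1_c12 LD2_c21 LD3_c53) Lrfl Lrfl
theorem f617358 : Led Lsl_ff (LP (LK LD1_c9 LD2_c14 LD3_c55)) = (LP (LK LD1_c12 LD2_c21 LD3_c53)) :=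
  Lgr Lrot25 (Lpr_bt (f56096 IH) (Lpr_ft (f617356 IH) (Lpr_bt (f444847 IH) (Lpn (LP (LK LD1_c12 LD2_c21 LD3_c53))))))
theorem f742990 : Led Lsl_at (LP (LK LD1_c9 LD2_c14 LD3_c55)) = (LP (LK LD1_c13 LD2_c51 LD3_c31)) :=
  Lgr Lrot66 (Lpr_ff (f617358 IH) (Lpe (f742905 IH) (Lpr_ff (f742987 IH) (Lpn (LP (LK LD1_c13 LD2_c51 LD3_c31))))))
theorem f444852 : Led Lsl_gt (LP (LK LD1_c12 LD2_c21 LD3_c53)) = (LP (LK LD1_c21 LD2_c28 LD3_c34)) :=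
  Lre_g IH (LK LD1_c12 LD2_c21 LD3_c53) (LK LD1_c21 LD2_c28 LD3_c34) Lrfl Lrfl
theorem f743088 : Led Lsl_gt (LP (LK LD1_c21 LD2_c28 LD3_c34)) = (LP (LK LD1_c13 LD2_c51 LD3_c31)) :=
  Lgr Lrot46 (Lpe (f444852 IH) (Lpe (f617358 IH) (Lpr_at (f742990 IH) (Lpn (LP (LK LD1_c13 LD2_c51 LD3_c31))))))
theorem f661290 : Led Lsl_gt (LP (LK LD1_c3 LD2_c39 LD3_c41)) = K48.v7117 :=
  Lgr Lrot5 (Lpe (K49.f661283 IH) (Lpe (K49.f661262 IH) (Lpr_gf (K48.f661289 IH) (Lpn K48.v7117))))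
theorem f661274 : Led Lsl_df K33.v2486 = K48.v7117 :=
  Lgr Lrot78 (Lpe (K33.f522733 IH) (Lpr_dt (K49.f4991 IH) (Lpr_ft (K48.f661272 IH) (Lpn K48.v7117))))
theorem f479663 : Led Lsl_dt (LP (LK LD1_c3 LD2_c39 LD3_c39)) = (LP (LK LD1_c1 LD2_c46 LD3_c44)) :=
  Lre_d IH (LK LD1_c3 LD2_c39 LD3_c39) (LK LD1_c1 LD2_c46 LD3_c44) Lrfl Lrfl
theorem f479695 : Led Lsl_gt (LP (LK LD1_c7 LD2_c19 LD3_c31)) = (LP (LK LD1_c13 LD2_c51 LD3_c21)) :=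
  Lre_g IH (LK LD1_c7 LD2_c19 LD3_c31) (LK LD1_c13 LD2_c51 LD3_c21) Lrfl Lrfl
theorem f522738 : Led Lsl_et (LP (LK LD1_c23 LD2_c20 LD3_c37)) = (LP (LK LD1_c13 LD2_c51 LD3_c21)) :=
  Lre_e IH (LK LD1_c23 LD2_c20 LD3_c37) (LK LD1_c13 LD2_c51 LD3_c21) Lrfl Lrfl
theorem f743094 : Led Lsl_df (LP (LK LD1_c21 LD2_c28 LD3_c34)) = (LP (LK LD1_c23 LD2_c20 LD3_c37)) :=
  Lgr Lrot170 (Lpr_gt (f743088 IH) (Lpe (K47.f574104 IH) (Lpr_et (K47.f574103 IH) (Lpr_gt (f661290 IH) (Lpe (f661274 IH) (Lpe (K34.f522737 IH) (Lpe (f479663 IH) (Lpr_et (K47.f479680 IH) (Lpr_gt (f479695 IH) (Lpe (f522738 IH) (Lpn (LP (LK LD1_c23 LD2_c20 LD3_c37)))))))))))))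
theorem f743095 : Led Lsl_dt (LP (LK LD1_c23 LD2_c20 LD3_c37)) = (LP (LK LD1_c21 LD2_c28 LD3_c34)) :=
  Leop (Lpr_df (f743094 IH) (Lpn (LP (LK LD1_c23 LD2_c20 LD3_c37))))
theorem seed_949 : LEOK LG_d (LK LD1_c23 LD2_c20 LD3_c37) :=
  Leoe_d (LK LD1_c23 LD2_c20 LD3_c37) (f743095 IH)
theorem f742209 : Led Lsl_at (LP (LK LD1_c12 LD2_c58 LD3_c2)) = (LP (LK LD1_c11 LD2_c26 LD3_c36)) :=
  Lgr Lrot100 (Lpr_af (f742207 IH) (Lpn (LP (LK LD1_c11 LD2_c26 LD3_c36))))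
theorem f710470 : Led Lsl_bt (LP (LK LD1_c11 LD2_c25 LD3_c22)) = (LP (LK LD1_c11 LD2_c31 LD3_c13)) :=
  Lgr Lrot127 (Lpr_bf (f710466 IH) (Lpn (LP (LK LD1_c11 LD2_c31 LD3_c13))))
theorem f413518 : Led Lsl_bt (LP (LK LD1_c6 LD2_c12 LD3_c28)) = (LP (LK LD1_c3 LD2_c2 LD3_c49)) :=
  Lre_b IH (LK LD1_c6 LD2_c12 LD3_c28) (LK LD1_c3 LD2_c2 LD3_c49) Lrfl Lrfl
theorem f504070 : Led Lsl_ff (LP (LK LD1_c3 LD2_c2 LD3_c49)) = (LP (LK LD1_c4 LD2_c41 LD3_c14)) :=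
  Lgr Lrot23 (Lpr_ct (K24.f413466 IH) (Lpr_ft (K50.f504064 IH) (Lpr_ct (K24.f414332 IH) (Lpn (LP (LK LD1_c4 LD2_c41 LD3_c14))))))
theorem f504086 : Led Lsl_at (LP (LK LD1_c3 LD2_c2 LD3_c49)) = (LP (LK LD1_c4 LD2_c41 LD3_c5)) :=
  Lgr Lrot66 (Lpr_ff (f504070 IH) (Lpe (K50.f504082 IH) (Lpr_ff (K50.f504084 IH) (Lpn (LP (LK LD1_c4 LD2_c41 LD3_c5))))))
theorem f710473 : Led Lsl_af (LP (LK LD1_c11 LD2_c25 LD3_c22)) = (LP (LK LD1_c9 LD2_c17 LD3_c37)) :=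
  Lgr Lrot36 (Lpr_bt (f710470 IH) (Lpe (f707183 IH) (Lpr_bt (f413518 IH) (Lpr_at (f504086 IH) (Lpr_bt (K50.f414424 IH) (Lpn (LP (LK LD1_c9 LD2_c17 LD3_c37))))))))
theorem f59851 : Led Lsl_gt (LP (LK LD1_c6 LD2_c12 LD3_c40)) = (LP (LK LD1_c12 LD2_c4 LD3_c37)) :=
  Lre_g IH (LK LD1_c6 LD2_c12 LD3_c40) (LK LD1_c12 LD2_c4 LD3_c37) Lrfl Lrfl
theorem f710475 : Led Lsl_gf (LP (LK LD1_c11 LD2_c25 LD3_c22)) = (LP (LK LD1_c12 LD2_c4 LD3_c37)) :=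
  Lgr Lrot76 (Lpr_af (f710473 IH) (Lpe (f504088 IH) (Lpr_gt (f59851 IH) (Lpn (LP (LK LD1_c12 LD2_c4 LD3_c37))))))
theorem f743484 : Led Lsl_ff (LP (LK LD1_c12 LD2_c58 LD3_c2)) = (LP (LK LD1_c12 LD2_c4 LD3_c37)) :=
  Lgr Lrot52 (Lpr_at (f742209 IH) (Lpe (K52.f66323 IH) (Lpr_gf (f710475 IH) (Lpn (LP (LK LD1_c12 LD2_c4 LD3_c37))))))
theorem f743490 : Led Lsl_dt (LP (LK LD1_c9 LD2_c32 LD3_c26)) = (LP (LK LD1_c12 LD2_c4 LD3_c37)) :=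
  Lgr Lrot60 (Lpe (f742087 IH) (Lpqs (f742107 IH) (Lpe (f454677 IH) (Lpr_ff (f743484 IH) (Lpn (LP (LK LD1_c12 LD2_c4 LD3_c37)))))))
theorem f722289 : Led Lsl_et (LP (LK LD1_c9 LD2_c32 LD3_c26)) = v14383 :=
  Lgr Lrot87 (Lpr_ef (f722288 IH) (Lpn v14383))
theorem f22348 : Led Lsl_gt (LP (LK LD1_c5 LD2_c8 LD3_c2)) = (LP (LK LD1_c10 LD2_c6 LD3_c0)) :=
  Lre_g IH (LK LD1_c5 LD2_c8 LD3_c2) (LK LD1_c10 LD2_c6 LD3_c0) Lrfl Lrfl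
theorem f22264 : Led Lsl_at (LP (LK LD1_c2 LD2_c51 LD3_c61)) = (LP (LK LD1_c5 LD2_c51 LD3_c6)) :=
  Lre_a IH (LK LD1_c2 LD2_c51 LD3_c61) (LK LD1_c5 LD2_c51 LD3_c6) Lrfl Lrfl
theorem f22265 : Led Lsl_at (LP (LK LD1_c10 LD2_c6 LD3_c0)) = (LP (LK LD1_c5 LD2_c8 LD3_c4)) :=
  Lre_a IH (LK LD1_c10 LD2_c6 LD3_c0) (LK LD1_c5 LD2_c8 LD3_c4) Lrfl Lrfl
theorem f22266 : Led Lsl_dt (LP (LK LD1_c5 LD2_c51 LD3_c6)) = (LP (LK LD1_c10 LD2_c6 LD3_c0)) :=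
  Lgr Lrot44 (Lpe (f22264 IH) (Lpr_df (K7.f22262 IH) (Lpe (f22265 IH) (Lpn (LP (LK LD1_c10 LD2_c6 LD3_c0))))))
theorem f22321 : Led Lsl_ft (LP (LK LD1_c2 LD2_c51 LD3_c49)) = (LP (LK LD1_c5 LD2_c51 LD3_c6)) :=
  Lre_f IH (LK LD1_c2 LD2_c51 LD3_c49) (LK LD1_c5 LD2_c51 LD3_c6) Lrfl Lrfl
theorem f151669 : Led Lsl_ef (LP (LK LD1_c9 LD2_c6 LD3_c20)) = (LP (LK LD1_c5 LD2_c51 LD3_c6)) :=
  Lgr Lrot21 (Lpr_ft (K7.f151668 IH) (Lpr_et (f151667 IH) (Lpr_ft (K7.f151661 IH) (Lpr_et (K8.f22336 IH) (Lpr_ft (f22321 IH) (Lpn (LP (LK LD1_c5 LD2_c51 LD3_c6))))))))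
theorem f109946 : Led Lsl_et (LP (LK LD1_c9 LD2_c6 LD3_c34)) = (LP (LK LD1_c4 LD2_c34 LD3_c55)) :=
  Lre_e IH (LK LD1_c9 LD2_c6 LD3_c34) (LK LD1_c4 LD2_c34 LD3_c55) Lrfl Lrfl
def v13039 : LQ := Led Lsl_ft (LP (LK LD1_c4 LD2_c38 LD3_c17))
theorem f700682 : Led Lsl_ft (LP (LK LD1_c4 LD2_c38 LD3_c17)) = v13039 :=
  Lrfl
theorem f700685 : Led Lsl_ff (LP (LK LD1_c4 LD2_c38 LD3_c17)) = v13039 :=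
  Lgr Lrot3 (Lpr_ft (f700682 IH) (Lpn v13039))
theorem f631939 : Led Lsl_dt (LP (LK LD1_c4 LD2_c38 LD3_c17)) = (LP (LK LD1_c2 LD2_c16 LD3_c12)) :=
  Lre_d IH (LK LD1_c4 LD2_c38 LD3_c17) (LK LD1_c2 LD2_c16 LD3_c12) Lrfl Lrfl
theorem f700687 : Led Lsl_dt K45.v4215 = v13039 :=
  Lgr Lrot60 (Lpe (K45.f631955 IH) (Lpe (f631939 IH) (Lpr_ff (f700685 IH) (Lpn v13039))))
theorem f415968 : Led Lsl_dt (LP (LK LD1_c4 LD2_c37 LD3_c44)) = (LP (LK LD1_c9 LD2_c11 LD3_c7)) :=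
  Lre_d IH (LK LD1_c4 LD2_c37 LD3_c44) (LK LD1_c9 LD2_c11 LD3_c7) Lrfl Lrfl
theorem f719566 : v13039 = (LP (LK LD1_c9 LD2_c11 LD3_c7)) :=
  Lefun (Lecon (f700687 IH) (K53.f719556 IH)) (f415968 IH)
theorem f642881 : Led Lsl_ct (LP (LK LD1_c9 LD2_c12 LD3_c23)) = (LP (LK LD1_c4 LD2_c38 LD3_c17)) :=
  Lre_c IH (LK LD1_c9 LD2_c12 LD3_c23) (LK LD1_c4 LD2_c38 LD3_c17) Lrfl Lrfl
theorem f618191 : Led Lsl_ct (LP (LK LD1_c9 LD2_c11 LD3_c7)) = (LP (LK LD1_c17 LD2_c4 LD3_c38)) :=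
  Lre_c IH (LK LD1_c9 LD2_c11 LD3_c7) (LK LD1_c17 LD2_c4 LD3_c38) Lrfl Lrfl
theorem f719724 : Led Lsl_ff (LP (LK LD1_c9 LD2_c12 LD3_c23)) = (LP (LK LD1_c17 LD2_c4 LD3_c38)) :=
  Lgr Lrot23 (Lpr_ct (f642881 IH) (Lpr_ft (f700682 IH) (Lpqs (f719566 IH) (Lpr_ct (f618191 IH) (Lpn (LP (LK LD1_c17 LD2_c4 LD3_c38)))))))
theorem f719730 : Led Lsl_ft (LP (LK LD1_c9 LD2_c12 LD3_c23)) = (LP (LK LD1_c17 LD2_c4 LD3_c38)) :=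
  Lgr Lrot48 (Lpr_ff (f719724 IH) (Lpn (LP (LK LD1_c17 LD2_c4 LD3_c38))))
theorem f642689 : Led Lsl_gt (LP (LK LD1_c9 LD2_c12 LD3_c23)) = (LP (LK LD1_c17 LD2_c6 LD3_c34)) :=
  Lre_g IH (LK LD1_c9 LD2_c12 LD3_c23) (LK LD1_c17 LD2_c6 LD3_c34) Lrfl Lrfl
def v13038 : LQ := Led Lsl_at (LP (LK LD1_c4 LD2_c38 LD3_c17))
theorem f700672 : Led Lsl_at (LP (LK LD1_c4 LD2_c38 LD3_c17)) = v13038 :=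
  Lrfl
theorem f700675 : Led Lsl_df K45.v4214 = v13038 :=
  Lgr Lrot18 (Lpe (K45.f631936 IH) (Lpr_dt (K45.f615054 IH) (Lpr_at (f700672 IH) (Lpn v13038))))
theorem f700676 : Led Lsl_dt K45.v4214 = v13038 :=
  Lgr Lrot42 (Lpr_df (f700675 IH) (Lpn v13038))
theorem f719597 : v13038 = (LP (LK LD1_c9 LD2_c11 LD3_c3)) :=
  Lefun (Lecon (f700676 IH) (K53.f719579 IH).symm) (K46.f157186 IH)
theorem f700677 : Led Lsl_ft (LP (LK LD1_c4 LD2_c38 LD3_c21)) = v13038 :=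
  Lgr Lrot54 (Lpe (K45.f631945 IH) (Lpr_ff (K50.f631950 IH) (Lpr_df (f700675 IH) (Lpn v13038))))
theorem f642688 : Led Lsl_ct (LP (LK LD1_c9 LD2_c12 LD3_c34)) = (LP (LK LD1_c4 LD2_c38 LD3_c21)) :=
  Lre_c IH (LK LD1_c9 LD2_c12 LD3_c34) (LK LD1_c4 LD2_c38 LD3_c21) Lrfl Lrfl
theorem f642380 : Led Lsl_ct (LP (LK LD1_c9 LD2_c11 LD3_c3)) = (LP (LK LD1_c17 LD2_c4 LD3_c33)) :=
  Lre_c IH (LK LD1_c9 LD2_c11 LD3_c3) (LK LD1_c17 LD2_c4 LD3_c33) Lrfl Lrfl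
theorem f719654 : Led Lsl_ff (LP (LK LD1_c9 LD2_c12 LD3_c34)) = (LP (LK LD1_c17 LD2_c4 LD3_c33)) :=
  Lgr Lrot23 (Lpr_ct (f642688 IH) (Lpr_ft (f700677 IH) (Lpqs (f719597 IH) (Lpr_ct (f642380 IH) (Lpn (LP (LK LD1_c17 LD2_c4 LD3_c33)))))))
theorem f719658 : Led Lsl_ft (LP (LK LD1_c9 LD2_c12 LD3_c34)) = (LP (LK LD1_c17 LD2_c4 LD3_c33)) :=
  Lgr Lrot48 (Lpr_ff (f719654 IH) (Lpn (LP (LK LD1_c17 LD2_c4 LD3_c33))))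
theorem f631947 : Led Lsl_dt (LP (LK LD1_c9 LD2_c12 LD3_c34)) = (LP (LK LD1_c17 LD2_c6 LD3_c49)) :=
  Lre_d IH (LK LD1_c9 LD2_c12 LD3_c34) (LK LD1_c17 LD2_c6 LD3_c49) Lrfl Lrfl
theorem f639755 : Led Lsl_et (LP (LK LD1_c5 LD2_c50 LD3_c55)) = (LP (LK LD1_c11 LD2_c29 LD3_c23)) :=
  Lre_e IH (LK LD1_c5 LD2_c50 LD3_c55) (LK LD1_c11 LD2_c29 LD3_c23) Lrfl Lrfl
theorem f706828 : Led Lsl_bt (LP (LK LD1_c11 LD2_c29 LD3_c23)) = (LP (LK LD1_c9 LD2_c4 LD3_c17)) :=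
  Lgr Lrot119 (Lpe (f639755 IH) (Lpr_bf (K53.f706824 IH) (Lpq (K51.f706255 IH) (Lpr_ef (K51.f79974 IH) (Lpn (LP (LK LD1_c9 LD2_c4 LD3_c17)))))))
theorem f639756 : Led Lsl_at (LP (LK LD1_c11 LD2_c29 LD3_c23)) = (LP (LK LD1_c16 LD2_c57 LD3_c55)) :=
  Lgr Lrot80 (Lpe (f639755 IH) (Lpr_af (K53.f639751 IH) (Lpe (K50.f242650 IH) (Lpn (LP (LK LD1_c16 LD2_c57 LD3_c55))))))
theorem f639724 : Led Lsl_at (LP (LK LD1_c11 LD2_c49 LD3_c23)) = (LP (LK LD1_c17 LD2_c7 LD3_c56)) :=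
  Lgr Lrot51 (Lpe (K50.f443731 IH) (Lpr_af (K50.f639720 IH) (Lpe (K35.f27040 IH) (Lpn (LP (LK LD1_c17 LD2_c7 LD3_c56))))))
theorem f639760 : Led Lsl_ff (LP (LK LD1_c11 LD2_c29 LD3_c23)) = (LP (LK LD1_c17 LD2_c7 LD3_c56)) :=
  Lgr Lrot30 (Lpr_at (f639756 IH) (Lpe (K50.f639745 IH) (Lpr_at (f639724 IH) (Lpn (LP (LK LD1_c17 LD2_c7 LD3_c56))))))
theorem f706343 : Led Lsl_ft (LP (LK LD1_c9 LD2_c4 LD3_c17)) = (LP (LK LD1_c16 LD2_c54 LD3_c42)) :=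
  Lgr Lrot48 (Lpr_ff (K51.f706339 IH) (Lpn (LP (LK LD1_c16 LD2_c54 LD3_c42))))
theorem f706834 : Led Lsl_bf (LP (LK LD1_c17 LD2_c7 LD3_c56)) = (LP (LK LD1_c16 LD2_c54 LD3_c42)) :=
  Lgr Lrot61 (Lpe (f639760 IH) (Lpr_bt (f706828 IH) (Lpr_ft (f706343 IH) (Lpn (LP (LK LD1_c16 LD2_c54 LD3_c42))))))
theorem f706838 : Led Lsl_bt (LP (LK LD1_c17 LD2_c7 LD3_c56)) = (LP (LK LD1_c16 LD2_c54 LD3_c42)) :=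
  Lgr Lrot127 (Lpr_bf (f706834 IH) (Lpn (LP (LK LD1_c16 LD2_c54 LD3_c42))))
theorem f27042 : Led Lsl_df (LP (LK LD1_c17 LD2_c7 LD3_c56)) = (LP (LK LD1_c9 LD2_c17 LD3_c25)) :=
  Lgr Lrot38 (Lpr_dt (K35.f27040 IH) (Lpn (LP (LK LD1_c9 LD2_c17 LD3_c25))))
theorem f706842 : Led Lsl_bf (LP (LK LD1_c9 LD2_c17 LD3_c25)) = (LP (LK LD1_c9 LD2_c3 LD3_c35)) :=
  Lgr Lrot93 (Lpe (f27042 IH) (Lpr_bt (f706838 IH) (Lpr_dt (K51.f509244 IH) (Lpn (LP (LK LD1_c9 LD2_c3 LD3_c35))))))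
theorem f415684 : Led Lsl_bt (LP (LK LD1_c9 LD2_c4 LD3_c15)) = (LP (LK LD1_c4 LD2_c33 LD3_c22)) :=
  Lre_b IH (LK LD1_c9 LD2_c4 LD3_c15) (LK LD1_c4 LD2_c33 LD3_c22) Lrfl Lrfl
theorem f706846 : Led Lsl_ft (LP (LK LD1_c9 LD2_c17 LD3_c25)) = (LP (LK LD1_c9 LD2_c4 LD3_c15)) :=
  Lgr Lrot75 (Lpr_bf (f706842 IH) (Lpq (K51.f706331 IH) (Lpe (K51.f698554 IH) (Lpe (f415684 IH) (Lpn (LP (LK LD1_c9 LD2_c4 LD3_c15)))))))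
theorem f706852 : Led Lsl_ff (LP (LK LD1_c9 LD2_c17 LD3_c25)) = (LP (LK LD1_c9 LD2_c4 LD3_c15)) :=
  Lgr Lrot3 (Lpr_ft (f706846 IH) (Lpn (LP (LK LD1_c9 LD2_c4 LD3_c15))))
theorem f443733 : Led Lsl_ft (LP (LK LD1_c6 LD2_c12 LD3_c7)) = (LP (LK LD1_c12 LD2_c3 LD3_c58)) :=
  Lre_f IH (LK LD1_c6 LD2_c12 LD3_c7) (LK LD1_c12 LD2_c3 LD3_c58) Lrfl Lrfl
theorem f706856 : Led Lsl_at (LP (LK LD1_c12 LD2_c3 LD3_c58)) = (LP (LK LD1_c9 LD2_c4 LD3_c15)) :=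
  Lgr Lrot66 (Lpe (f443733 IH) (Lpr_af (K50.f639720 IH) (Lpr_ff (f706852 IH) (Lpn (LP (LK LD1_c9 LD2_c4 LD3_c15))))))
theorem f639734 : Led Lsl_bt (LP (LK LD1_c21 LD2_c9 LD3_c32)) = (LP (LK LD1_c12 LD2_c3 LD3_c58)) :=
  Lre_b IH (LK LD1_c21 LD2_c9 LD3_c32) (LK LD1_c12 LD2_c3 LD3_c58) Lrfl Lrfl
theorem f698559 : Led Lsl_ff (LP (LK LD1_c4 LD2_c33 LD3_c21)) = K51.v12847 :=
  Lgr Lrot3 (Lpr_ft (K51.f698557 IH) (Lpn K51.v12847))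
theorem f698560 : Led Lsl_at (LP (LK LD1_c4 LD2_c33 LD3_c22)) = K51.v12847 :=
  Lgr Lrot66 (Lpr_ff (K51.f698555 IH) (Lpe (K51.f698551 IH) (Lpr_ff (f698559 IH) (Lpn K51.v12847))))
theorem f116929 : Led Lsl_bt (LP (LK LD1_c9 LD2_c3 LD3_c36)) = (LP (LK LD1_c16 LD2_c54 LD3_c43)) :=
  Lre_b IH (LK LD1_c9 LD2_c3 LD3_c36) (LK LD1_c16 LD2_c54 LD3_c43) Lrfl Lrfl
theorem f706864 : Led Lsl_af (LP (LK LD1_c21 LD2_c9 LD3_c32)) = (LP (LK LD1_c16 LD2_c54 LD3_c43)) :=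
  Lgr Lrot36 (Lpr_bt (f639734 IH) (Lpr_at (f706856 IH) (Lpr_bt (f415684 IH) (Lpr_at (f698560 IH) (Lpqs (K51.f706349 IH) (Lpr_bt (f116929 IH) (Lpn (LP (LK LD1_c16 LD2_c54 LD3_c43)))))))))
theorem f443753 : Led Lsl_ft (LP (LK LD1_c21 LD2_c9 LD3_c32)) = (LP (LK LD1_c12 LD2_c3 LD3_c56)) :=
  Lre_f IH (LK LD1_c21 LD2_c9 LD3_c32) (LK LD1_c12 LD2_c3 LD3_c56) Lrfl Lrfl
theorem f443727 : Led Lsl_bt (LP (LK LD1_c6 LD2_c12 LD3_c7)) = (LP (LK LD1_c12 LD2_c3 LD3_c56)) :=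
  Lre_b IH (LK LD1_c6 LD2_c12 LD3_c7) (LK LD1_c12 LD2_c3 LD3_c56) Lrfl Lrfl
theorem f706844 : Led Lsl_at (LP (LK LD1_c12 LD2_c3 LD3_c56)) = (LP (LK LD1_c9 LD2_c4 LD3_c11)) :=
  Lgr Lrot67 (Lpe (f443727 IH) (Lpr_af (K50.f639720 IH) (Lpr_bf (f706842 IH) (Lpq (K51.f706331 IH) (Lpe (K51.f698551 IH) (Lpe (K45.f140504 IH) (Lpn (LP (LK LD1_c9 LD2_c4 LD3_c11)))))))))
theorem f706870 : Led Lsl_ft (LP (LK LD1_c9 LD2_c4 LD3_c11)) = (LP (LK LD1_c16 LD2_c54 LD3_c43)) :=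
  Lgr Lrot101 (Lpe (f706844 IH) (Lpe (f443753 IH) (Lpr_af (f706864 IH) (Lpn (LP (LK LD1_c16 LD2_c54 LD3_c43))))))
theorem f140510 : Led Lsl_ct (LP (LK LD1_c16 LD2_c55 LD3_c39)) = (LP (LK LD1_c9 LD2_c4 LD3_c11)) :=
  Lre_c IH (LK LD1_c16 LD2_c55 LD3_c39) (LK LD1_c9 LD2_c4 LD3_c11) Lrfl Lrfl
theorem f116956 : Led Lsl_bt (LP (LK LD1_c16 LD2_c54 LD3_c43)) = (LP (LK LD1_c9 LD2_c3 LD3_c36)) :=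
  Lre_b IH (LK LD1_c16 LD2_c54 LD3_c43) (LK LD1_c9 LD2_c3 LD3_c36) Lrfl Lrfl
theorem f40263 : Led Lsl_bt (LP (LK LD1_c3 LD2_c59 LD3_c9)) = (LP (LK LD1_c1 LD2_c56 LD3_c20)) :=
  Lre_b IH (LK LD1_c3 LD2_c59 LD3_c9) (LK LD1_c1 LD2_c56 LD3_c20) Lrfl Lrfl
theorem f140299 : Led Lsl_ct (LP (LK LD1_c3 LD2_c59 LD3_c9)) = (LP (LK LD1_c7 LD2_c59 LD3_c40)) :=
  Lre_c IH (LK LD1_c3 LD2_c59 LD3_c9) (LK LD1_c7 LD2_c59 LD3_c40) Lrfl Lrfl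
theorem f415599 : Led Lsl_gt (LP (LK LD1_c15 LD2_c4 LD3_c22)) = (LP (LK LD1_c7 LD2_c59 LD3_c40)) :=
  Lre_g IH (LK LD1_c15 LD2_c4 LD3_c22) (LK LD1_c7 LD2_c59 LD3_c40) Lrfl Lrfl
theorem f415994 : Led Lsl_ct (LP (LK LD1_c16 LD2_c54 LD3_c43)) = (LP (LK LD1_c15 LD2_c4 LD3_c22)) :=
  Lgr Lrot64 (Lpr_bt (f116956 IH) (Lpe (K36.f100277 IH) (Lpe (K52.f116963 IH) (Lpr_ct (K35.f140578 IH) (Lpe (K35.f408244 IH) (Lpr_cf (K35.f415556 IH) (Lpe (K32.f36237 IH) (Lpe (f40263 IH) (Lpr_ct (f140299 IH) (Lpe (f415599 IH) (Lpn (LP (LK LD1_c15 LD2_c4 LD3_c22)))))))))))))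
theorem f706874 : Led Lsl_ff (LP (LK LD1_c16 LD2_c55 LD3_c39)) = (LP (LK LD1_c15 LD2_c4 LD3_c22)) :=
  Lgr Lrot23 (Lpr_ct (f140510 IH) (Lpr_ft (f706870 IH) (Lpr_ct (f415994 IH) (Lpn (LP (LK LD1_c15 LD2_c4 LD3_c22))))))
theorem f706879 : Led Lsl_ft (LP (LK LD1_c16 LD2_c55 LD3_c39)) = (LP (LK LD1_c15 LD2_c4 LD3_c22)) :=
  Lgr Lrot48 (Lpr_ff (f706874 IH) (Lpn (LP (LK LD1_c15 LD2_c4 LD3_c22))))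
theorem f140519 : Led Lsl_bt (LP (LK LD1_c26 LD2_c52 LD3_c0)) = (LP (LK LD1_c16 LD2_c55 LD3_c39)) :=
  Lre_b IH (LK LD1_c26 LD2_c52 LD3_c0) (LK LD1_c16 LD2_c55 LD3_c39) Lrfl Lrfl
theorem f416017 : Led Lsl_bt (LP (LK LD1_c15 LD2_c4 LD3_c22)) = (LP (LK LD1_c24 LD2_c53 LD3_c14)) :=
  Lre_b IH (LK LD1_c15 LD2_c4 LD3_c22) (LK LD1_c24 LD2_c53 LD3_c14) Lrfl Lrfl
theorem f706903 : Led Lsl_ff (LP (LK LD1_c26 LD2_c52 LD3_c0)) = (LP (LK LD1_c24 LD2_c53 LD3_c14)) :=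
  Lgr Lrot25 (Lpr_bt (f140519 IH) (Lpr_ft (f706879 IH) (Lpr_bt (f416017 IH) (Lpn (LP (LK LD1_c24 LD2_c53 LD3_c14))))))
theorem f140520 : Led Lsl_ct (LP (LK LD1_c26 LD2_c52 LD3_c0)) = (LP (LK LD1_c16 LD2_c55 LD3_c42)) :=
  Lre_c IH (LK LD1_c26 LD2_c52 LD3_c0) (LK LD1_c16 LD2_c55 LD3_c42) Lrfl Lrfl
theorem f416020 : Led Lsl_cf (LP (LK LD1_c16 LD2_c54 LD3_c43)) = (LP (LK LD1_c15 LD2_c4 LD3_c22)) :=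
  Lgr Lrot11 (Lpr_ct (f415994 IH) (Lpn (LP (LK LD1_c15 LD2_c4 LD3_c22))))
theorem f116939 : Led Lsl_bt (LP (LK LD1_c16 LD2_c54 LD3_c44)) = (LP (LK LD1_c26 LD2_c50 LD3_c52)) :=
  Lre_b IH (LK LD1_c16 LD2_c54 LD3_c44) (LK LD1_c26 LD2_c50 LD3_c52) Lrfl Lrfl
theorem f416025 : Led Lsl_bt (LP (LK LD1_c24 LD2_c53 LD3_c14)) = (LP (LK LD1_c15 LD2_c4 LD3_c22)) :=
  Lre_b IH (LK LD1_c24 LD2_c53 LD3_c14) (LK LD1_c15 LD2_c4 LD3_c22) Lrfl Lrfl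
theorem f416026 : Led Lsl_ct (LP (LK LD1_c26 LD2_c50 LD3_c52)) = (LP (LK LD1_c24 LD2_c53 LD3_c14)) :=
  Lgr Lrot83 (Lpe (f116939 IH) (Lpe (K52.f116930 IH) (Lpe (f116956 IH) (Lpr_cf (f416020 IH) (Lpe (f416025 IH) (Lpn (LP (LK LD1_c24 LD2_c53 LD3_c14))))))))
theorem f706905 : Led Lsl_ft (LP (LK LD1_c16 LD2_c55 LD3_c42)) = (LP (LK LD1_c26 LD2_c50 LD3_c52)) :=
  Lgr Lrot4 (Lpe (f140520 IH) (Lpr_ff (f706903 IH) (Lpe (f416026 IH) (Lpn (LP (LK LD1_c26 LD2_c50 LD3_c52))))))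
theorem f706908 : Led Lsl_ff (LP (LK LD1_c16 LD2_c55 LD3_c42)) = (LP (LK LD1_c26 LD2_c50 LD3_c52)) :=
  Lgr Lrot3 (Lpr_ft (f706905 IH) (Lpn (LP (LK LD1_c26 LD2_c50 LD3_c52))))
theorem f706415 : Led Lsl_bt (LP (LK LD1_c16 LD2_c55 LD3_c42)) = (LP (LK LD1_c9 LD2_c4 LD3_c12)) :=
  Lre_b IH (LK LD1_c16 LD2_c55 LD3_c42) (LK LD1_c9 LD2_c4 LD3_c12) Lrfl Lrfl
theorem f706911 : Led Lsl_ft (LP (LK LD1_c9 LD2_c4 LD3_c12)) = (LP (LK LD1_c16 LD2_c54 LD3_c44)) :=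
  Lgr Lrot75 (Lpe (f706415 IH) (Lpr_ff (f706908 IH) (Lpe (f116939 IH) (Lpn (LP (LK LD1_c16 LD2_c54 LD3_c44))))))
theorem f416279 : Led Lsl_gt (LP (LK LD1_c9 LD2_c4 LD3_c12)) = (LP (LK LD1_c16 LD2_c55 LD3_c41)) :=
  Lre_g IH (LK LD1_c9 LD2_c4 LD3_c12) (LK LD1_c16 LD2_c55 LD3_c41) Lrfl Lrfl
theorem f59870 : Led Lsl_dt (LP (LK LD1_c6 LD2_c12 LD3_c2)) = (LP (LK LD1_c3 LD2_c2 LD3_c34)) :=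
  Lre_d IH (LK LD1_c6 LD2_c12 LD3_c2) (LK LD1_c3 LD2_c2 LD3_c34) Lrfl Lrfl
theorem f706379 : Led Lsl_af (LP (LK LD1_c6 LD2_c12 LD3_c2)) = (LP (LK LD1_c11 LD2_c38 LD3_c24)) :=
  Lgr Lrot117 (Lpr_dt (f59870 IH) (Lpr_at (K50.f646799 IH) (Lpq (K51.f706306 IH) (Lpr_dt (K51.f141860 IH) (Lpn (LP (LK LD1_c11 LD2_c38 LD3_c24)))))))
theorem f706366 : Led Lsl_ft (LP (LK LD1_c9 LD2_c4 LD3_c14)) = (LP (LK LD1_c11 LD2_c38 LD3_c24)) :=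
  Lgr Lrot48 (Lpr_ff (K52.f706360 IH) (Lpn (LP (LK LD1_c11 LD2_c38 LD3_c24))))
theorem f706383 : Led Lsl_at (LP (LK LD1_c9 LD2_c17 LD3_c22)) = (LP (LK LD1_c9 LD2_c4 LD3_c14)) :=
  Lgr Lrot66 (Lpe (K50.f639696 IH) (Lpr_af (f706379 IH) (Lpe (f706366 IH) (Lpn (LP (LK LD1_c9 LD2_c4 LD3_c14))))))
theorem f416617 : Led Lsl_ct (LP (LK LD1_c17 LD2_c12 LD3_c31)) = (LP (LK LD1_c9 LD2_c17 LD3_c22)) :=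
  Lre_c IH (LK LD1_c17 LD2_c12 LD3_c31) (LK LD1_c9 LD2_c17 LD3_c22) Lrfl Lrfl
theorem f559995 : Led Lsl_ct (LP (LK LD1_c9 LD2_c4 LD3_c14)) = (LP (LK LD1_c16 LD2_c55 LD3_c44)) :=
  Lre_c IH (LK LD1_c9 LD2_c4 LD3_c14) (LK LD1_c16 LD2_c55 LD3_c44) Lrfl Lrfl
theorem f706387 : Led Lsl_af (LP (LK LD1_c17 LD2_c12 LD3_c31)) = (LP (LK LD1_c16 LD2_c55 LD3_c44)) :=
  Lgr Lrot68 (Lpr_ct (f416617 IH) (Lpr_at (f706383 IH) (Lpr_ct (f559995 IH) (Lpn (LP (LK LD1_c16 LD2_c55 LD3_c44))))))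
theorem f416618 : Led Lsl_ct (LP (LK LD1_c9 LD2_c17 LD3_c22)) = (LP (LK LD1_c17 LD2_c12 LD3_c31)) :=
  Lre_c IH (LK LD1_c9 LD2_c17 LD3_c22) (LK LD1_c17 LD2_c12 LD3_c31) Lrfl Lrfl
theorem f642885 : Led Lsl_ct (LP (LK LD1_c16 LD2_c54 LD3_c41)) = (LP (LK LD1_c9 LD2_c3 LD3_c35)) :=
  Lre_c IH (LK LD1_c16 LD2_c54 LD3_c41) (LK LD1_c9 LD2_c3 LD3_c35) Lrfl Lrfl
theorem f706327 : Led Lsl_et (LP (LK LD1_c17 LD2_c12 LD3_c31)) = (LP (LK LD1_c16 LD2_c54 LD3_c41)) :=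
  Lgr Lrot158 (Lpe (f416618 IH) (Lpr_ef (K51.f706323 IH) (Lpe (f642885 IH) (Lpn (LP (LK LD1_c16 LD2_c54 LD3_c41))))))
theorem f706395 : Led Lsl_et (LP (LK LD1_c9 LD2_c4 LD3_c12)) = (LP (LK LD1_c16 LD2_c55 LD3_c44)) :=
  Lre_e IH (LK LD1_c9 LD2_c4 LD3_c12) (LK LD1_c16 LD2_c55 LD3_c44) Lrfl Lrfl
theorem f706396 : Led Lsl_at (LP (LK LD1_c16 LD2_c54 LD3_c41)) = (LP (LK LD1_c9 LD2_c4 LD3_c12)) :=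
  Lgr Lrot80 (Lpe (f706327 IH) (Lpr_af (f706387 IH) (Lpe (f706395 IH) (Lpn (LP (LK LD1_c9 LD2_c4 LD3_c12))))))
theorem f706403 : Led Lsl_af (LP (LK LD1_c16 LD2_c54 LD3_c41)) = (LP (LK LD1_c9 LD2_c4 LD3_c12)) :=
  Lgr Lrot0 (Lpr_at (f706396 IH) (Lpn (LP (LK LD1_c9 LD2_c4 LD3_c12))))
theorem f140548 : Led Lsl_ct (LP (LK LD1_c9 LD2_c4 LD3_c16)) = (LP (LK LD1_c4 LD2_c33 LD3_c22)) :=
  Lre_c IH (LK LD1_c9 LD2_c4 LD3_c16) (LK LD1_c4 LD2_c33 LD3_c22) Lrfl Lrfl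
theorem f642879 : Led Lsl_ct (LP (LK LD1_c9 LD2_c3 LD3_c35)) = (LP (LK LD1_c16 LD2_c54 LD3_c41)) :=
  Lre_c IH (LK LD1_c9 LD2_c3 LD3_c35) (LK LD1_c16 LD2_c54 LD3_c41) Lrfl Lrfl
theorem f706337 : Led Lsl_ff (LP (LK LD1_c9 LD2_c4 LD3_c16)) = (LP (LK LD1_c16 LD2_c54 LD3_c41)) :=
  Lgr Lrot23 (Lpr_ct (f140548 IH) (Lpr_ft (K51.f698554 IH) (Lpqs (K51.f706331 IH) (Lpr_ct (f642879 IH) (Lpn (LP (LK LD1_c16 LD2_c54 LD3_c41)))))))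
theorem f644522 : Led Lsl_ct (LP (LK LD1_c9 LD2_c4 LD3_c12)) = (LP (LK LD1_c4 LD2_c33 LD3_c21)) :=
  Lre_c IH (LK LD1_c9 LD2_c4 LD3_c12) (LK LD1_c4 LD2_c33 LD3_c21) Lrfl Lrfl
theorem f706356 : Led Lsl_ff (LP (LK LD1_c9 LD2_c4 LD3_c12)) = (LP (LK LD1_c16 LD2_c54 LD3_c44)) :=
  Lgr Lrot23 (Lpr_ct (f644522 IH) (Lpr_ft (K51.f698557 IH) (Lpqs (K51.f706349 IH) (Lpr_ct (K52.f116930 IH) (Lpn (LP (LK LD1_c16 LD2_c54 LD3_c44)))))))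
theorem f706419 : Led Lsl_at (LP (LK LD1_c9 LD2_c4 LD3_c16)) = (LP (LK LD1_c16 LD2_c54 LD3_c44)) :=
  Lgr Lrot66 (Lpr_ff (f706337 IH) (Lpr_af (f706403 IH) (Lpr_ff (f706356 IH) (Lpn (LP (LK LD1_c16 LD2_c54 LD3_c44))))))
theorem f706421 : Led Lsl_af (LP (LK LD1_c9 LD2_c4 LD3_c16)) = (LP (LK LD1_c16 LD2_c54 LD3_c44)) :=
  Lgr Lrot0 (Lpr_at (f706419 IH) (Lpn (LP (LK LD1_c16 LD2_c54 LD3_c44))))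
theorem f706916 : Led Lsl_gt (LP (LK LD1_c16 LD2_c55 LD3_c41)) = (LP (LK LD1_c9 LD2_c4 LD3_c16)) :=
  Lgr Lrot46 (Lpe (f416279 IH) (Lpr_ft (f706911 IH) (Lpe (f706421 IH) (Lpn (LP (LK LD1_c9 LD2_c4 LD3_c16))))))
theorem f706919 : Led Lsl_dt (LP (LK LD1_c16 LD2_c55 LD3_c41)) = (LP (LK LD1_c26 LD2_c52 LD3_c3)) :=
  Lre_d IH (LK LD1_c16 LD2_c55 LD3_c41) (LK LD1_c26 LD2_c52 LD3_c3) Lrfl Lrfl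
theorem f706920 : Led Lsl_gt (LP (LK LD1_c26 LD2_c52 LD3_c3)) = (LP (LK LD1_c17 LD2_c6 LD3_c49)) :=
  Lre_g IH (LK LD1_c26 LD2_c52 LD3_c3) (LK LD1_c17 LD2_c6 LD3_c49) Lrfl Lrfl
theorem f644513 : Led Lsl_ct (LP (LK LD1_c16 LD2_c55 LD3_c32)) = (LP (LK LD1_c9 LD2_c4 LD3_c8)) :=
  Lre_c IH (LK LD1_c16 LD2_c55 LD3_c32) (LK LD1_c9 LD2_c4 LD3_c8) Lrfl Lrfl
theorem f706921 : Led Lsl_gt (LP (LK LD1_c26 LD2_c51 LD3_c50)) = (LP (LK LD1_c16 LD2_c55 LD3_c32)) :=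
  Lre_g IH (LK LD1_c26 LD2_c51 LD3_c50) (LK LD1_c16 LD2_c55 LD3_c32) Lrfl Lrfl
theorem f706922 : Led Lsl_ct (LP (LK LD1_c17 LD2_c6 LD3_c49)) = (LP (LK LD1_c26 LD2_c51 LD3_c50)) :=
  Lgr Lrot152 (Lpe (f706920 IH) (Lpe (f706919 IH) (Lpr_gt (f706916 IH) (Lpr_ct (f140548 IH) (Lpr_gt (K51.f79972 IH) (Lpr_ct (K45.f140528 IH) (Lpe (K45.f454883 IH) (Lpe (f644513 IH) (Lpe (f706921 IH) (Lpn (LP (LK LD1_c26 LD2_c51 LD3_c50))))))))))))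
theorem f631946 : Led Lsl_ct (LP (LK LD1_c4 LD2_c38 LD3_c21)) = (LP (LK LD1_c9 LD2_c12 LD3_c34)) :=
  Lre_c IH (LK LD1_c4 LD2_c38 LD3_c21) (LK LD1_c9 LD2_c12 LD3_c34) Lrfl Lrfl
theorem f631938 : Led Lsl_ct (LP (LK LD1_c4 LD2_c38 LD3_c16)) = (LP (LK LD1_c2 LD2_c16 LD3_c12)) :=
  Lre_c IH (LK LD1_c4 LD2_c38 LD3_c16) (LK LD1_c2 LD2_c16 LD3_c12) Lrfl Lrfl
theorem f631943 : Led Lsl_dt (LP (LK LD1_c9 LD2_c12 LD3_c19)) = (LP (LK LD1_c4 LD2_c38 LD3_c16)) :=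
  Lre_d IH (LK LD1_c9 LD2_c12 LD3_c19) (LK LD1_c4 LD2_c38 LD3_c16) Lrfl Lrfl
theorem f631944 : Led Lsl_ct (LP (LK LD1_c17 LD2_c6 LD3_c27)) = (LP (LK LD1_c9 LD2_c12 LD3_c19)) :=
  Lre_c IH (LK LD1_c17 LD2_c6 LD3_c27) (LK LD1_c9 LD2_c12 LD3_c19) Lrfl Lrfl
theorem f706929 : Led Lsl_df (LP (LK LD1_c17 LD2_c6 LD3_c27)) = (LP (LK LD1_c26 LD2_c51 LD3_c50)) :=
  Lgr Lrot43 (Lpr_ct (f631944 IH) (Lpr_dt (f631943 IH) (Lpr_ct (f631938 IH) (Lpr_dt (K45.f615054 IH) (Lpr_ct (K45.f631959 IH) (Lpr_dt (K45.f631960 IH) (Lpr_ct (K45.f644498 IH) (Lpe (K45.f644504 IH) (Lpr_ct (K45.f631962 IH) (Lpr_dt (K45.f631961 IH) (Lpr_ct (K45.f631948 IH) (Lpr_dt (K45.f631945 IH) (Lpr_ct (f631946 IH) (Lpr_dt (f631947 IH) (Lpr_ct (f706922 IH) (Lpn (LP (LK LD1_c26 LD2_c51 LD3_c50))))))))))))))))))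
theorem f719664 : Led Lsl_af (LP (LK LD1_c9 LD2_c12 LD3_c23)) = (LP (LK LD1_c17 LD2_c4 LD3_c33)) :=
  Lgr Lrot109 (Lpe (K45.f631959 IH) (Lpe (K45.f615054 IH) (Lpe (f631938 IH) (Lpe (f631943 IH) (Lpe (f631944 IH) (Lpr_df (f706929 IH) (Lpe (f706922 IH) (Lpe (f631947 IH) (Lpr_ft (f719658 IH) (Lpn (LP (LK LD1_c17 LD2_c4 LD3_c33))))))))))))
theorem f719732 : Led Lsl_af (LP (LK LD1_c9 LD2_c12 LD3_c34)) = (LP (LK LD1_c17 LD2_c4 LD3_c38)) :=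
  Lgr Lrot45 (Lpr_ft (f719658 IH) (Lpe (f719664 IH) (Lpr_ft (f719730 IH) (Lpn (LP (LK LD1_c17 LD2_c4 LD3_c38))))))
theorem f719736 : Led Lsl_gt (LP (LK LD1_c17 LD2_c6 LD3_c34)) = (LP (LK LD1_c9 LD2_c12 LD3_c34)) :=
  Lgr Lrot46 (Lpe (f642689 IH) (Lpr_ft (f719730 IH) (Lpe (f719732 IH) (Lpn (LP (LK LD1_c9 LD2_c12 LD3_c34))))))
theorem f415821 : Led Lsl_dt (LP (LK LD1_c9 LD2_c50 LD3_c16)) = (LP (LK LD1_c4 LD2_c59 LD3_c54)) :=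
  Lre_d IH (LK LD1_c9 LD2_c50 LD3_c16) (LK LD1_c4 LD2_c59 LD3_c54) Lrfl Lrfl
theorem f642497 : Led Lsl_gt (LP (LK LD1_c9 LD2_c50 LD3_c16)) = (LP (LK LD1_c18 LD2_c1 LD3_c16)) :=
  Lre_g IH (LK LD1_c9 LD2_c50 LD3_c16) (LK LD1_c18 LD2_c1 LD3_c16) Lrfl Lrfl
theorem f719738 : Led Lsl_cf (LP (LK LD1_c17 LD2_c6 LD3_c34)) = (LP (LK LD1_c18 LD2_c1 LD3_c16)) :=
  Lgr Lrot169 (Lpr_gt (f719736 IH) (Lpr_ct (f642688 IH) (Lpe (K45.f631945 IH) (Lpe (K45.f631948 IH) (Lpe (K50.f700664 IH) (Lpe (K53.f719336 IH) (Lpe (K53.f415827 IH) (Lpe (f415821 IH) (Lpr_gt (f642497 IH) (Lpn (LP (LK LD1_c18 LD2_c1 LD3_c16))))))))))))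
theorem f501128 : Led Lsl_bt (LP (LK LD1_c6 LD2_c3 LD3_c0)) = (LP (LK LD1_c2 LD2_c57 LD3_c35)) :=
  Lre_b IH (LK LD1_c6 LD2_c3 LD3_c0) (LK LD1_c2 LD2_c57 LD3_c35) Lrfl Lrfl
theorem f642669 : Led Lsl_bt (LP (LK LD1_c4 LD2_c39 LD3_c5)) = (LP (LK LD1_c9 LD2_c12 LD3_c22)) :=
  Lgr Lrot35 (Lpr_ff (K46.f507632 IH) (Lpe (f501128 IH) (Lpr_ff (K45.f642667 IH) (Lpn (LP (LK LD1_c9 LD2_c12 LD3_c22))))))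
theorem f438476 : Led Lsl_gf (LP (LK LD1_c4 LD2_c48 LD3_c3)) = (LP (LK LD1_c2 LD2_c21 LD3_c56)) :=
  Lgr Lrot147 (Lpe (K35.f435721 IH) (Lpr_gt (K32.f435718 IH) (Lpr_ct (K32.f435696 IH) (Lpe (K32.f82582 IH) (Lpe (K42.f435554 IH) (Lpr_gf (K32.f438469 IH) (Lpr_cf (K6.f92135 IH) (Lpe (K32.f20101 IH) (Lpe (K32.f27091 IH) (Lpn (LP (LK LD1_c2 LD2_c21 LD3_c56))))))))))))
theorem f503651 : Led Lsl_gt (LP (LK LD1_c4 LD2_c41 LD3_c10)) = (LP (LK LD1_c3 LD2_c2 LD3_c54)) :=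
  Lgr Lrot137 (Lpr_ef (K32.f503647 IH) (Lpe (K32.f503537 IH) (Lpr_gf (f438476 IH) (Lpe (K35.f27089 IH) (Lpr_et (K35.f27082 IH) (Lpr_gf (K32.f135509 IH) (Lpe (K32.f25516 IH) (Lpr_dt (K32.f135513 IH) (Lpe (K29.f25606 IH) (Lpe (K29.f415345 IH) (Lpn (LP (LK LD1_c3 LD2_c2 LD3_c54)))))))))))))
theorem f507643 : Led Lsl_gf (LP (LK LD1_c9 LD2_c13 LD3_c60)) = (LP (LK LD1_c5 LD2_c0 LD3_c20)) :=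
  Lgr Lrot172 (Lpr_ct (K52.f507627 IH) (Lpr_dt (K46.f507639 IH) (Lpe (K46.f444634 IH) (Lpe (f503651 IH) (Lpr_cf (K35.f503755 IH) (Lpe (K32.f83705 IH) (Lpe (K24.f140728 IH) (Lpe (K46.f454869 IH) (Lpr_ct (K52.f40960 IH) (Lpn (LP (LK LD1_c5 LD2_c0 LD3_c20))))))))))))
theorem f507715 : Led Lsl_gt (LP (LK LD1_c9 LD2_c51 LD3_c1)) = (LP (LK LD1_c5 LD2_c0 LD3_c19)) :=
  Lre_g IH (LK LD1_c9 LD2_c51 LD3_c1) (LK LD1_c5 LD2_c0 LD3_c19) Lrfl Lrfl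
theorem f719752 : Led Lsl_bf (LP (LK LD1_c9 LD2_c51 LD3_c1)) = (LP (LK LD1_c18 LD2_c1 LD3_c16)) :=
  Lgr Lrot156 (Lpr_gt (f507715 IH) (Lpe (K52.f140891 IH) (Lpr_ct (K52.f40960 IH) (Lpe (f507643 IH) (Lpe (K52.f507636 IH) (Lpr_bt (f642669 IH) (Lpr_gt (K45.f642666 IH) (Lpr_ct (K45.f631959 IH) (Lpr_gt (f642689 IH) (Lpr_cf (f719738 IH) (Lpn (LP (LK LD1_c18 LD2_c1 LD3_c16)))))))))))))
theorem f699679 : Led Lsl_bt (LP (LK LD1_c4 LD2_c34 LD3_c55)) = (LP (LK LD1_c9 LD2_c6 LD3_c31)) :=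
  Lre_b IH (LK LD1_c4 LD2_c34 LD3_c55) (LK LD1_c9 LD2_c6 LD3_c31) Lrfl Lrfl
theorem f425985 : Led Lsl_ft (LP (LK LD1_c11 LD2_c41 LD3_c41)) = (LP (LK LD1_c5 LD2_c58 LD3_c37)) :=
  Lre_f IH (LK LD1_c11 LD2_c41 LD3_c41) (LK LD1_c5 LD2_c58 LD3_c37) Lrfl Lrfl
theorem f426782 : Led Lsl_cf (LP (LK LD1_c7 LD2_c42 LD3_c9)) = (LP (LK LD1_c5 LD2_c58 LD3_c37)) :=
  Lgr Lrot108 (Lpr_ft (K52.f426781 IH) (Lpr_ct (K52.f426763 IH) (Lpr_ft (f425985 IH) (Lpn (LP (LK LD1_c5 LD2_c58 LD3_c37))))))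
theorem f426025 : Led Lsl_gt (LP (LK LD1_c5 LD2_c58 LD3_c1)) = (LP (LK LD1_c11 LD2_c40 LD3_c47)) :=
  Lre_g IH (LK LD1_c5 LD2_c58 LD3_c1) (LK LD1_c11 LD2_c40 LD3_c47) Lrfl Lrfl
theorem f640884 : Led Lsl_dt (LP (LK LD1_c12 LD2_c29 LD3_c43)) = (LP (LK LD1_c6 LD2_c30 LD3_c2)) :=
  Lre_d IH (LK LD1_c12 LD2_c29 LD3_c43) (LK LD1_c6 LD2_c30 LD3_c2) Lrfl Lrfl
theorem f82946 : Led Lsl_ct (LP (LK LD1_c12 LD2_c29 LD3_c42)) = (LP (LK LD1_c6 LD2_c30 LD3_c2)) :=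
  Lre_c IH (LK LD1_c12 LD2_c29 LD3_c42) (LK LD1_c6 LD2_c30 LD3_c2) Lrfl Lrfl
theorem f642307 : Led Lsl_ft (LP (LK LD1_c4 LD2_c59 LD3_c2)) = (LP (LK LD1_c9 LD2_c48 LD3_c33)) :=
  Lre_f IH (LK LD1_c4 LD2_c59 LD3_c2) (LK LD1_c9 LD2_c48 LD3_c33) Lrfl Lrfl
theorem f642308 : Led Lsl_at (LP (LK LD1_c9 LD2_c48 LD3_c33)) = (LP (LK LD1_c12 LD2_c29 LD3_c42)) :=
  Lgr Lrot66 (Lpe (f642307 IH) (Lpe (K52.f163055 IH) (Lpr_ff (K52.f642256 IH) (Lpn (LP (LK LD1_c12 LD2_c29 LD3_c42))))))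
theorem f94948 : Led Lsl_gt (LP (LK LD1_c4 LD2_c59 LD3_c2)) = (LP (LK LD1_c9 LD2_c48 LD3_c30)) :=
  Lre_g IH (LK LD1_c4 LD2_c59 LD3_c2) (LK LD1_c9 LD2_c48 LD3_c30) Lrfl Lrfl
theorem f642358 : Led Lsl_gt (LP (LK LD1_c9 LD2_c48 LD3_c30)) = (LP (LK LD1_c12 LD2_c29 LD3_c42)) :=
  Lgr Lrot46 (Lpe (f94948 IH) (Lpr_ft (f642307 IH) (Lpr_at (f642308 IH) (Lpn (LP (LK LD1_c12 LD2_c29 LD3_c42))))))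
theorem f711467 : Led Lsl_cf (LP (LK LD1_c9 LD2_c48 LD3_c30)) = (LP (LK LD1_c11 LD2_c40 LD3_c47)) :=
  Lgr Lrot169 (Lpr_gt (f642358 IH) (Lpr_ct (f82946 IH) (Lpe (f640884 IH) (Lpe (K48.f642285 IH) (Lpr_gf (K52.f711465 IH) (Lpe (K52.f711042 IH) (Lpe (K52.f539490 IH) (Lpe (K52.f539456 IH) (Lpr_gt (f426025 IH) (Lpn (LP (LK LD1_c11 LD2_c40 LD3_c47))))))))))))
theorem f711484 : Led Lsl_gf (LP (LK LD1_c9 LD2_c6 LD3_c31)) = (LP (LK LD1_c12 LD2_c29 LD3_c41)) :=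
  Lgr Lrot124 (Lpe (f699679 IH) (Lpr_ct (K52.f151966 IH) (Lpr_gt (K52.f711476 IH) (Lpr_cf (f426782 IH) (Lpr_bt (K24.f426009 IH) (Lpr_gt (f426025 IH) (Lpe (f711467 IH) (Lpr_gt (f642358 IH) (Lpe (K52.f82944 IH) (Lpr_bt (K45.f82945 IH) (Lpn (LP (LK LD1_c12 LD2_c29 LD3_c41)))))))))))))
theorem f711489 : Led Lsl_gt (LP (LK LD1_c9 LD2_c6 LD3_c31)) = (LP (LK LD1_c11 LD2_c25 LD3_c27)) :=
  Lgr Lrot46 (Lpr_gf (f711484 IH) (Lpe (K45.f642254 IH) (Lpe (K11.f206717 IH) (Lpn (LP (LK LD1_c11 LD2_c25 LD3_c27))))))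
theorem f711498 : Led Lsl_et (LP (LK LD1_c16 LD2_c58 LD3_c26)) = (LP (LK LD1_c9 LD2_c6 LD3_c31)) :=
  Lre_e IH (LK LD1_c16 LD2_c58 LD3_c26) (LK LD1_c9 LD2_c6 LD3_c31) Lrfl Lrfl
theorem f82048 : Led Lsl_et (LP (LK LD1_c4 LD2_c58 LD3_c21)) = (LP (LK LD1_c9 LD2_c47 LD3_c24)) :=
  Lre_e IH (LK LD1_c4 LD2_c58 LD3_c21) (LK LD1_c9 LD2_c47 LD3_c24) Lrfl Lrfl
theorem f415965 : Led Lsl_dt (LP (LK LD1_c4 LD2_c59 LD3_c54)) = (LP (LK LD1_c9 LD2_c50 LD3_c16)) :=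
  Lre_d IH (LK LD1_c4 LD2_c59 LD3_c54) (LK LD1_c9 LD2_c50 LD3_c16) Lrfl Lrfl
theorem f711541 : Led Lsl_dt (LP (LK LD1_c16 LD2_c58 LD3_c26)) = (LP (LK LD1_c18 LD2_c1 LD3_c16)) :=
  Lgr Lrot56 (Lpr_et (f711498 IH) (Lpr_gt (f711489 IH) (Lpe (K42.f142104 IH) (Lpe (K8.f158139 IH) (Lpe (K8.f158137 IH) (Lpe (K7.f82049 IH) (Lpr_et (f82048 IH) (Lpr_gt (K52.f710556 IH) (Lpr_dt (f415965 IH) (Lpr_gt (f642497 IH) (Lpn (LP (LK LD1_c18 LD2_c1 LD3_c16)))))))))))))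
theorem f711524 : Led Lsl_bt (LP (LK LD1_c9 LD2_c6 LD3_c34)) = (LP (LK LD1_c16 LD2_c58 LD3_c26)) :=
  Lre_b IH (LK LD1_c9 LD2_c6 LD3_c34) (LK LD1_c16 LD2_c58 LD3_c26) Lrfl Lrfl
theorem f719756 : Led Lsl_dt (LP (LK LD1_c9 LD2_c51 LD3_c1)) = (LP (LK LD1_c9 LD2_c6 LD3_c34)) :=
  Lgr Lrot79 (Lpr_bf (f719752 IH) (Lpe (f711541 IH) (Lpe (f711524 IH) (Lpn (LP (LK LD1_c9 LD2_c6 LD3_c34))))))
theorem f719763 : Led Lsl_df (LP (LK LD1_c9 LD2_c51 LD3_c1)) = (LP (LK LD1_c9 LD2_c6 LD3_c34)) :=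
  Lgr Lrot38 (Lpr_dt (f719756 IH) (Lpn (LP (LK LD1_c9 LD2_c6 LD3_c34))))
theorem f633856 : Led Lsl_dt (LP (LK LD1_c2 LD2_c27 LD3_c53)) = (LP (LK LD1_c5 LD2_c0 LD3_c19)) :=
  Lre_d IH (LK LD1_c2 LD2_c27 LD3_c53) (LK LD1_c5 LD2_c0 LD3_c19) Lrfl Lrfl
def v4558 : LQ := Led Lsl_et (LP (LK LD1_c2 LD2_c27 LD3_c53))
theorem f636124 : Led Lsl_et (LP (LK LD1_c2 LD2_c27 LD3_c53)) = v4558 :=
  Lrfl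
theorem f722287 : Led Lsl_gt v4558 = v14383 :=
  Lgr Lrot137 (Lpe (f636124 IH) (Lpr_dt (f633856 IH) (Lpe (f507715 IH) (Lpr_df (f719763 IH) (Lpr_et (f109946 IH) (Lpe (K52.f151963 IH) (Lpr_ef (f151669 IH) (Lpr_dt (f22266 IH) (Lpe (f22348 IH) (Lpr_df (f722286 IH) (Lpn v14383)))))))))))
theorem f710397 : Led Lsl_et (LP (LK LD1_c5 LD2_c47 LD3_c49)) = (LP (LK LD1_c11 LD2_c25 LD3_c23)) :=
  Lre_e IH (LK LD1_c5 LD2_c47 LD3_c49) (LK LD1_c11 LD2_c25 LD3_c23) Lrfl Lrfl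
theorem f743504 : Led Lsl_gf (LP (LK LD1_c9 LD2_c6 LD3_c34)) = (LP (LK LD1_c11 LD2_c25 LD3_c23)) :=
  Lgr Lrot138 (Lpe (f719763 IH) (Lpr_gt (f507715 IH) (Lpe (f633856 IH) (Lpr_et (f636124 IH) (Lpr_gt (f722287 IH) (Lpe (f722289 IH) (Lpr_dt (f743490 IH) (Lpe (f710475 IH) (Lpe (K52.f66322 IH) (Lpr_et (f710397 IH) (Lpn (LP (LK LD1_c11 LD2_c25 LD3_c23)))))))))))))
theorem f743505 : Led Lsl_gt (LP (LK LD1_c11 LD2_c25 LD3_c23)) = (LP (LK LD1_c9 LD2_c6 LD3_c34)) :=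
  Leop (Lpr_gf (f743504 IH) (Lpn (LP (LK LD1_c11 LD2_c25 LD3_c23))))
theorem seed_950 : LEOK LG_g (LK LD1_c11 LD2_c25 LD3_c23) :=
  Leoe_g (LK LD1_c11 LD2_c25 LD3_c23) (f743505 IH)
theorem f741934 : Led Lsl_ct v4835 = v15835 :=
  Lgr Lrot59 (Lpr_cf (f741933 IH) (Lpn v15835))
theorem f146523 : Led Lsl_ct (LP (LK LD1_c5 LD2_c48 LD3_c8)) = (LP (LK LD1_c11 LD2_c25 LD3_c53)) :=
  Lre_c IH (LK LD1_c5 LD2_c48 LD3_c8) (LK LD1_c11 LD2_c25 LD3_c53) Lrfl Lrfl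
theorem f742068 : v15835 = (LP (LK LD1_c11 LD2_c25 LD3_c53)) :=
  Lefun (Lecon (f741934 IH) (f742062 IH).symm) (f146523 IH)
theorem f137179 : Led Lsl_ft (LP (LK LD1_c14 LD2_c30 LD3_c42)) = (LP (LK LD1_c7 LD2_c41 LD3_c56)) :=
  Lre_f IH (LK LD1_c14 LD2_c30 LD3_c42) (LK LD1_c7 LD2_c41 LD3_c56) Lrfl Lrfl
theorem f741865 : Led Lsl_gt (LP (LK LD1_c14 LD2_c30 LD3_c42)) = v15820 :=
  Lgr Lrot5 (Lpr_ft (f137179 IH) (Lpr_at (K41.f502641 IH) (Lpr_gf (f741864 IH) (Lpn v15820))))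
theorem f743561 : Led Lsl_gf (LP (LK LD1_c14 LD2_c30 LD3_c42)) = (LP (LK LD1_c11 LD2_c25 LD3_c53)) :=
  Lgr Lrot47 (Lpr_gt (f741865 IH) (Lpq (f742051 IH) (Lpe (f741944 IH) (Lpr_ff (f741936 IH) (Lpqs (f742068 IH) (Lpn (LP (LK LD1_c11 LD2_c25 LD3_c53))))))))
theorem f669201 : Led Lsl_at (LP (LK LD1_c11 LD2_c26 LD3_c22)) = (LP (LK LD1_c14 LD2_c30 LD3_c42)) :=
  Lgr Lrot66 (Lpr_ff (K52.f669195 IH) (Lpe (K41.f502641 IH) (Lpe (f137179 IH) (Lpn (LP (LK LD1_c14 LD2_c30 LD3_c42))))))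
theorem f743563 : Led Lsl_gt (LP (LK LD1_c9 LD2_c30 LD3_c11)) = (LP (LK LD1_c11 LD2_c25 LD3_c53)) :=
  Lgr Lrot5 (Lpe (K52.f669195 IH) (Lpr_at (f669201 IH) (Lpr_gf (f743561 IH) (Lpn (LP (LK LD1_c11 LD2_c25 LD3_c53))))))
theorem f501400 : Led Lsl_bt (LP (LK LD1_c4 LD2_c48 LD3_c52)) = (LP (LK LD1_c2 LD2_c22 LD3_c20)) :=
  Lre_b IH (LK LD1_c4 LD2_c48 LD3_c52) (LK LD1_c2 LD2_c22 LD3_c20) Lrfl Lrfl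
theorem f500947 : Led Lsl_ff (LP (LK LD1_c1 LD2_c24 LD3_c19)) = K32.v1704 :=
  Lgr Lrot3 (Lpr_ft (K32.f500946 IH) (Lpn K32.v1704))
theorem f500958 : Led Lsl_at (LP (LK LD1_c1 LD2_c24 LD3_c19)) = K51.v1706 :=
  Lgr Lrot66 (Lpr_ff (f500947 IH) (Lpe (K32.f500942 IH) (Lpr_ff (K51.f500957 IH) (Lpn K51.v1706))))
theorem f641427 : Led Lsl_af (LP (LK LD1_c2 LD2_c56 LD3_c17)) = K52.v5033 :=
  Lgr Lrot45 (Lpr_ft (K51.f641416 IH) (Lpe (K51.f641415 IH) (Lpr_ft (K52.f641426 IH) (Lpn K52.v5033))))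
def v6315 : LQ := Led Lsl_at (LP (LK LD1_c3 LD2_c20 LD3_c27))
theorem f652689 : Led Lsl_at (LP (LK LD1_c3 LD2_c20 LD3_c27)) = v6315 :=
  Lrfl
theorem f652690 : Led Lsl_af (LP (LK LD1_c3 LD2_c20 LD3_c27)) = v6315 :=
  Lgr Lrot0 (Lpr_at (f652689 IH) (Lpn v6315))
theorem f116904 : Led Lsl_gt (LP (LK LD1_c3 LD2_c20 LD3_c27)) = (LP (LK LD1_c1 LD2_c36 LD3_c36)) :=
  Lre_g IH (LK LD1_c3 LD2_c20 LD3_c27) (LK LD1_c1 LD2_c36 LD3_c36) Lrfl Lrfl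
theorem f207128 : Led Lsl_gt (LP (LK LD1_c4 LD2_c37 LD3_c54)) = (LP (LK LD1_c3 LD2_c20 LD3_c27)) :=
  Lgr Lrot5 (Lpr_ft (K35.f206904 IH) (Lpr_at (K35.f207118 IH) (Lpe (f116904 IH) (Lpn (LP (LK LD1_c3 LD2_c20 LD3_c27))))))
theorem f652691 : Led Lsl_ft K46.v2151 = v6315 :=
  Lgr Lrot2 (Lpe (K46.f509248 IH) (Lpr_gt (f207128 IH) (Lpr_af (f652690 IH) (Lpn v6315))))
theorem f698913 : v6315 = K51.v4217 :=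
  Lefun (Lecon (f652691 IH) (K52.f698902 IH)) (K51.f632003 IH)
def v6316 : LQ := Led Lsl_bt (LP (LK LD1_c3 LD2_c20 LD3_c27))
theorem f652693 : Led Lsl_bt (LP (LK LD1_c3 LD2_c20 LD3_c27)) = v6316 :=
  Lrfl
theorem f698940 : K52.v5033 = v6316 :=
  (Llr Lrot36 (Lpe (f641427 IH) (Lpq (K48.f669222 IH) (Lpe (K51.f500961 IH) (Lpr_at (f500958 IH) (Lpqs (K51.f507996 IH) (Lpr_bt (K51.f631998 IH) (Lpq (f698913 IH) (Lpe (f652690 IH) (Lpr_bt (f652693 IH) (Lpn v6316))))))))))).symm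
def v6317 : LQ := Led Lsl_ct (LP (LK LD1_c3 LD2_c20 LD3_c27))
theorem f652695 : Led Lsl_ct (LP (LK LD1_c3 LD2_c20 LD3_c27)) = v6317 :=
  Lrfl
theorem f669403 : Led Lsl_ct (LP (LK LD1_c11 LD2_c43 LD3_c50)) = (LP (LK LD1_c6 LD2_c26 LD3_c56)) :=
  Lgr Lrot8 (Lpr_gt (K51.f104935 IH) (Lpr_dt (K45.f26441 IH) (Lpr_gt (K45.f26442 IH) (Lpr_dt (K51.f644365 IH) (Lpe (K45.f438594 IH) (Lpe (K51.f186084 IH) (Lpe (K48.f644386 IH) (Lpe (K48.f104891 IH) (Lpqs (K48.f669344 IH) (Lpe (K51.f640541 IH) (Lpn (LP (LK LD1_c6 LD2_c26 LD3_c56)))))))))))))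
theorem f57090 : Led Lsl_ct (LP (LK LD1_c4 LD2_c59 LD3_c27)) = (LP (LK LD1_c9 LD2_c49 LD3_c20)) :=
  Lre_c IH (LK LD1_c4 LD2_c59 LD3_c27) (LK LD1_c9 LD2_c49 LD3_c20) Lrfl Lrfl
theorem f699021 : Led Lsl_ff (LP (LK LD1_c11 LD2_c43 LD3_c50)) = (LP (LK LD1_c9 LD2_c49 LD3_c20)) :=
  Lgr Lrot23 (Lpr_ct (f669403 IH) (Lpr_ft (K51.f640539 IH) (Lpqs (K53.f698949 IH) (Lpr_ct (f57090 IH) (Lpn (LP (LK LD1_c9 LD2_c49 LD3_c20)))))))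
theorem f669407 : Led Lsl_at (LP (LK LD1_c11 LD2_c43 LD3_c50)) = (LP (LK LD1_c6 LD2_c26 LD3_c48)) :=
  Lgr Lrot107 (Lpr_cf (K51.f669405 IH) (Lpe (K51.f506565 IH) (Lpe (K52.f416349 IH) (Lpn (LP (LK LD1_c6 LD2_c26 LD3_c48))))))
theorem f699088 : Led Lsl_gf (LP (LK LD1_c11 LD2_c43 LD3_c52)) = (LP (LK LD1_c9 LD2_c49 LD3_c20)) :=
  Lgr Lrot47 (Lpe (K52.f698969 IH) (Lpe (f669407 IH) (Lpr_ff (f699021 IH) (Lpn (LP (LK LD1_c9 LD2_c49 LD3_c20))))))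
theorem f57013 : Led Lsl_gt (LP (LK LD1_c6 LD2_c39 LD3_c3)) = (LP (LK LD1_c3 LD2_c17 LD3_c47)) :=
  Lre_g IH (LK LD1_c6 LD2_c39 LD3_c3) (LK LD1_c3 LD2_c17 LD3_c47) Lrfl Lrfl
theorem f699094 : v6317 = (LP (LK LD1_c6 LD2_c39 LD3_c3)) :=
  (Llr Lrot64 (Lpe (f652695 IH) (Lpr_bt (f652693 IH) (Lpq (f698940 IH) (Lpqs (K52.f698977 IH) (Lpe (K52.f502760 IH) (Lpe (K37.f501437 IH) (Lpr_ct (K52.f502455 IH) (Lpr_gf (f699088 IH) (Lpe (f57090 IH) (Lpe (K53.f57017 IH) (Lpe (K52.f56988 IH) (Lpe (K52.f56993 IH) (Lpe (f57013 IH) (Lpn (LP (LK LD1_c6 LD2_c39 LD3_c3))))))))))))))))).symm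
theorem f499087 : Led Lsl_ft (LP (LK LD1_c2 LD2_c16 LD3_c8)) = (LP (LK LD1_c1 LD2_c35 LD3_c24)) :=
  Lgr Lrot4 (Lpe (K6.f58896 IH) (Lpr_ff (K42.f499083 IH) (Lpe (K7.f103921 IH) (Lpn (LP (LK LD1_c1 LD2_c35 LD3_c24))))))
theorem f498083 : Led Lsl_af (LP (LK LD1_c2 LD2_c16 LD3_c9)) = (LP (LK LD1_c1 LD2_c35 LD3_c24)) :=
  Lgr Lrot36 (Lpr_bt (K7.f80028 IH) (Lpe (K32.f496864 IH) (Lpr_bt (K32.f498080 IH) (Lpr_at (K32.f103894 IH) (Lpr_bt (K7.f94129 IH) (Lpn (LP (LK LD1_c1 LD2_c35 LD3_c24))))))))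
theorem f496873 : Led Lsl_ff (LP (LK LD1_c1 LD2_c35 LD3_c25)) = (LP (LK LD1_c2 LD2_c16 LD3_c9)) :=
  Lgr Lrot25 (Lpr_bt (K4.f56845 IH) (Lpr_ft (K32.f496871 IH) (Lpr_bt (K4.f26387 IH) (Lpn (LP (LK LD1_c2 LD2_c16 LD3_c9))))))
theorem f499282 : Led Lsl_af (LP (LK LD1_c2 LD2_c16 LD3_c8)) = (LP (LK LD1_c1 LD2_c35 LD3_c25)) :=
  Lgr Lrot45 (Lpr_ft (f499087 IH) (Lpe (f498083 IH) (Lpe (f496873 IH) (Lpn (LP (LK LD1_c1 LD2_c35 LD3_c25))))))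
theorem f80063 : Led Lsl_et (LP (LK LD1_c2 LD2_c16 LD3_c8)) = (LP (LK LD1_c4 LD2_c38 LD3_c2)) :=
  Lre_e IH (LK LD1_c2 LD2_c16 LD3_c8) (LK LD1_c4 LD2_c38 LD3_c2) Lrfl Lrfl
theorem f499284 : Led Lsl_at (LP (LK LD1_c4 LD2_c38 LD3_c2)) = (LP (LK LD1_c3 LD2_c17 LD3_c47)) :=
  Lgr Lrot80 (Lpe (f80063 IH) (Lpr_af (f499282 IH) (Lpe (K45.f57082 IH) (Lpn (LP (LK LD1_c3 LD2_c17 LD3_c47))))))
theorem f499111 : Led Lsl_ft (LP (LK LD1_c9 LD2_c11 LD3_c46)) = (LP (LK LD1_c4 LD2_c38 LD3_c2)) :=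
  Lre_f IH (LK LD1_c9 LD2_c11 LD3_c46) (LK LD1_c4 LD2_c38 LD3_c2) Lrfl Lrfl
theorem f499288 : Led Lsl_gt (LP (LK LD1_c9 LD2_c11 LD3_c46)) = (LP (LK LD1_c6 LD2_c39 LD3_c3)) :=
  Lgr Lrot5 (Lpr_ft (f499111 IH) (Lpr_at (f499284 IH) (Lpe (f57013 IH) (Lpn (LP (LK LD1_c6 LD2_c39 LD3_c3))))))
theorem f57005 : Led Lsl_gt (LP (LK LD1_c4 LD2_c59 LD3_c21)) = (LP (LK LD1_c9 LD2_c49 LD3_c3)) :=
  Lre_g IH (LK LD1_c4 LD2_c59 LD3_c21) (LK LD1_c9 LD2_c49 LD3_c3) Lrfl Lrfl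
theorem f498230 : Led Lsl_gf (LP (LK LD1_c17 LD2_c5 LD3_c24)) = (LP (LK LD1_c9 LD2_c49 LD3_c3)) :=
  Lgr Lrot76 (Lpr_af (K32.f498219 IH) (Lpe (K4.f57001 IH) (Lpr_gt (f57005 IH) (Lpn (LP (LK LD1_c9 LD2_c49 LD3_c3))))))
def v15818 : LQ := Led Lsl_bt (LP (LK LD1_c5 LD2_c48 LD3_c8))
theorem f741850 : Led Lsl_bt (LP (LK LD1_c5 LD2_c48 LD3_c8)) = v15818 :=
  Lrfl
theorem f743565 : (LP (LK LD1_c9 LD2_c49 LD3_c3)) = v15818 :=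
  (Llr Lrot181 (Lpe (f498230 IH) (Lpr_ct (K32.f498218 IH) (Lpr_gt (f499288 IH) (Lpq (f699094 IH) (Lpe (f652695 IH) (Lpr_bt (f652693 IH) (Lpq (f698940 IH) (Lpqs (K52.f698977 IH) (Lpr_gt (K52.f452962 IH) (Lpe (f501400 IH) (Lpr_ct (K52.f502524 IH) (Lpr_gt (f743563 IH) (Lpe (f146523 IH) (Lpr_bt (f741850 IH) (Lpn v15818)))))))))))))))).symm
theorem f136430 : Led Lsl_bt (LP (LK LD1_c4 LD2_c59 LD3_c41)) = (LP (LK LD1_c9 LD2_c49 LD3_c45)) :=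
  Lre_b IH (LK LD1_c4 LD2_c59 LD3_c41) (LK LD1_c9 LD2_c49 LD3_c45) Lrfl Lrfl
theorem f136396 : Led Lsl_et (LP (LK LD1_c7 LD2_c41 LD3_c54)) = (LP (LK LD1_c14 LD2_c30 LD3_c39)) :=
  Lre_e IH (LK LD1_c7 LD2_c41 LD3_c54) (LK LD1_c14 LD2_c30 LD3_c39) Lrfl Lrfl
theorem f136410 : Led Lsl_et (LP (LK LD1_c9 LD2_c49 LD3_c45)) = (LP (LK LD1_c4 LD2_c59 LD3_c39)) :=
  Lre_e IH (LK LD1_c9 LD2_c49 LD3_c45) (LK LD1_c4 LD2_c59 LD3_c39) Lrfl Lrfl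
theorem f136411 : Led Lsl_ct (LP (LK LD1_c14 LD2_c30 LD3_c39)) = (LP (LK LD1_c9 LD2_c49 LD3_c45)) :=
  Lgr Lrot15 (Lpe (f136396 IH) (Lpr_cf (K32.f136400 IH) (Lpe (f136410 IH) (Lpn (LP (LK LD1_c9 LD2_c49 LD3_c45))))))
theorem f136419 : Led Lsl_cf (LP (LK LD1_c14 LD2_c30 LD3_c39)) = (LP (LK LD1_c9 LD2_c49 LD3_c45)) :=
  Lgr Lrot11 (Lpr_ct (f136411 IH) (Lpn (LP (LK LD1_c9 LD2_c49 LD3_c45))))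
theorem f66369 : Led Lsl_bt (LP (LK LD1_c14 LD2_c30 LD3_c39)) = (LP (LK LD1_c7 LD2_c41 LD3_c56)) :=
  Lre_b IH (LK LD1_c14 LD2_c30 LD3_c39) (LK LD1_c7 LD2_c41 LD3_c56) Lrfl Lrfl
theorem f502521 : Led Lsl_ct (LP (LK LD1_c7 LD2_c41 LD3_c56)) = (LP (LK LD1_c9 LD2_c30 LD3_c9)) :=
  Lgr Lrot83 (Lpe (f66369 IH) (Lpr_cf (f136419 IH) (Lpe (f136430 IH) (Lpr_cf (K53.f502512 IH) (Lpr_bf (K37.f501892 IH) (Lpn (LP (LK LD1_c9 LD2_c30 LD3_c9))))))))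
theorem f501921 : Led Lsl_ft (LP (LK LD1_c9 LD2_c30 LD3_c9)) = (LP (LK LD1_c17 LD2_c31 LD3_c28)) :=
  Lre_f IH (LK LD1_c9 LD2_c30 LD3_c9) (LK LD1_c17 LD2_c31 LD3_c28) Lrfl Lrfl
theorem f502526 : Led Lsl_cf (LP (LK LD1_c14 LD2_c30 LD3_c42)) = (LP (LK LD1_c17 LD2_c31 LD3_c28)) :=
  Lgr Lrot108 (Lpr_ft (f137179 IH) (Lpr_ct (f502521 IH) (Lpr_ft (f501921 IH) (Lpn (LP (LK LD1_c17 LD2_c31 LD3_c28))))))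
theorem f501922 : Led Lsl_gt (LP (LK LD1_c11 LD2_c43 LD3_c45)) = (LP (LK LD1_c5 LD2_c59 LD3_c40)) :=
  Lre_g IH (LK LD1_c11 LD2_c43 LD3_c45) (LK LD1_c5 LD2_c59 LD3_c40) Lrfl Lrfl
theorem f57054 : Led Lsl_bt (LP (LK LD1_c2 LD2_c27 LD3_c35)) = (LP (LK LD1_c4 LD2_c59 LD3_c21)) :=
  Lre_b IH (LK LD1_c2 LD2_c27 LD3_c35) (LK LD1_c4 LD2_c59 LD3_c21) Lrfl Lrfl
theorem f56989 : Led Lsl_ct (LP (LK LD1_c2 LD2_c27 LD3_c35)) = (LP (LK LD1_c4 LD2_c59 LD3_c26)) :=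
  Lre_c IH (LK LD1_c2 LD2_c27 LD3_c35) (LK LD1_c4 LD2_c59 LD3_c26) Lrfl Lrfl
theorem f57095 : Led Lsl_gt (LP (LK LD1_c9 LD2_c49 LD3_c17)) = (LP (LK LD1_c4 LD2_c59 LD3_c26)) :=
  Lre_g IH (LK LD1_c9 LD2_c49 LD3_c17) (LK LD1_c4 LD2_c59 LD3_c26) Lrfl Lrfl
theorem f743806 : Led Lsl_ct (LP (LK LD1_c5 LD2_c59 LD3_c40)) = (LP (LK LD1_c9 LD2_c49 LD3_c17)) :=
  Lgr Lrot91 (Lpe (f501922 IH) (Lpr_bf (K37.f501908 IH) (Lpe (f502526 IH) (Lpr_gf (f743561 IH) (Lpe (f146523 IH) (Lpr_bt (f741850 IH) (Lpq (f743565 IH) (Lpe (f57005 IH) (Lpe (f57054 IH) (Lpr_ct (f56989 IH) (Lpe (f57095 IH) (Lpn (LP (LK LD1_c9 LD2_c49 LD3_c17))))))))))))))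
theorem f741851 : Led Lsl_bf (LP (LK LD1_c5 LD2_c48 LD3_c8)) = v15818 :=
  Lgr Lrot24 (Lpr_bt (f741850 IH) (Lpn v15818))
theorem f57185 : Led Lsl_gt (LP (LK LD1_c5 LD2_c48 LD3_c8)) = (LP (LK LD1_c2 LD2_c50 LD3_c21)) :=
  Lre_g IH (LK LD1_c5 LD2_c48 LD3_c8) (LK LD1_c2 LD2_c50 LD3_c21) Lrfl Lrfl
theorem f57495 : Led Lsl_gt (LP (LK LD1_c5 LD2_c48 LD3_c25)) = (LP (LK LD1_c11 LD2_c25 LD3_c50)) :=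
  Lre_g IH (LK LD1_c5 LD2_c48 LD3_c25) (LK LD1_c11 LD2_c25 LD3_c50) Lrfl Lrfl
theorem f438557 : Led Lsl_bt (LP (LK LD1_c3 LD2_c11 LD3_c10)) = (LP (LK LD1_c1 LD2_c32 LD3_c0)) :=
  Lre_b IH (LK LD1_c3 LD2_c11 LD3_c10) (LK LD1_c1 LD2_c32 LD3_c0) Lrfl Lrfl
theorem f438560 : Led Lsl_ct (LP (LK LD1_c3 LD2_c11 LD3_c10)) = (LP (LK LD1_c6 LD2_c26 LD3_c28)) :=
  Lre_c IH (LK LD1_c3 LD2_c11 LD3_c10) (LK LD1_c6 LD2_c26 LD3_c28) Lrfl Lrfl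
theorem f40611 : Led Lsl_bt (LP (LK LD1_c4 LD2_c37 LD3_c47)) = (LP (LK LD1_c2 LD2_c16 LD3_c5)) :=
  Lre_b IH (LK LD1_c4 LD2_c37 LD3_c47) (LK LD1_c2 LD2_c16 LD3_c5) Lrfl Lrfl
theorem f700367 : Led Lsl_gf (LP (LK LD1_c6 LD2_c26 LD3_c28)) = (LP (LK LD1_c6 LD2_c50 LD3_c25)) :=
  Lgr Lrot126 (Lpe (f438560 IH) (Lpr_bt (f438557 IH) (Lpr_gt (K32.f438544 IH) (Lpe (K1.f57125 IH) (Lpr_gt (K32.f415361 IH) (Lpe (K32.f416696 IH) (Lpr_bt (K51.f631998 IH) (Lpq (K51.f700271 IH) (Lpr_gt (K51.f40637 IH) (Lpe (f40611 IH) (Lpr_ct (K35.f40613 IH) (Lpn (LP (LK LD1_c6 LD2_c50 LD3_c25))))))))))))))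
theorem f40628 : Led Lsl_gt (LP (LK LD1_c9 LD2_c11 LD3_c11)) = (LP (LK LD1_c4 LD2_c37 LD3_c47)) :=
  Lre_g IH (LK LD1_c9 LD2_c11 LD3_c11) (LK LD1_c4 LD2_c37 LD3_c47) Lrfl Lrfl
theorem f40636 : Led Lsl_bt (LP (LK LD1_c17 LD2_c4 LD3_c40)) = (LP (LK LD1_c9 LD2_c11 LD3_c11)) :=
  Lre_b IH (LK LD1_c17 LD2_c4 LD3_c40) (LK LD1_c9 LD2_c11 LD3_c11) Lrfl Lrfl
theorem f700371 : Led Lsl_cf (LP (LK LD1_c11 LD2_c25 LD3_c50)) = (LP (LK LD1_c17 LD2_c4 LD3_c40)) :=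
  Lgr Lrot58 (Lpe (f57495 IH) (Lpe (K1.f57190 IH) (Lpr_bt (K48.f57171 IH) (Lpe (K32.f438544 IH) (Lpe (f438557 IH) (Lpr_ct (f438560 IH) (Lpr_gf (f700367 IH) (Lpe (K35.f40613 IH) (Lpe (f40628 IH) (Lpe (f40636 IH) (Lpn (LP (LK LD1_c17 LD2_c4 LD3_c40)))))))))))))
theorem f40629 : Led Lsl_bt (LP (LK LD1_c2 LD2_c16 LD3_c5)) = (LP (LK LD1_c4 LD2_c37 LD3_c47)) :=
  Lre_b IH (LK LD1_c2 LD2_c16 LD3_c5) (LK LD1_c4 LD2_c37 LD3_c47) Lrfl Lrfl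
theorem f40612 : Led Lsl_ct (LP (LK LD1_c2 LD2_c16 LD3_c5)) = (LP (LK LD1_c4 LD2_c37 LD3_c50)) :=
  Lre_c IH (LK LD1_c2 LD2_c16 LD3_c5) (LK LD1_c4 LD2_c37 LD3_c50) Lrfl Lrfl
theorem f152543 : Led Lsl_gt (LP (LK LD1_c4 LD2_c37 LD3_c50)) = (LP (LK LD1_c9 LD2_c11 LD3_c17)) :=
  Lre_g IH (LK LD1_c4 LD2_c37 LD3_c50) (LK LD1_c9 LD2_c11 LD3_c17) Lrfl Lrfl
theorem f741852 : Led Lsl_cf (LP (LK LD1_c9 LD2_c11 LD3_c17)) = v15818 :=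
  Lgr Lrot58 (Lpe (f152543 IH) (Lpe (f40612 IH) (Lpr_bt (f40629 IH) (Lpe (f40628 IH) (Lpe (f40636 IH) (Lpe (f700371 IH) (Lpe (f57495 IH) (Lpe (K1.f57190 IH) (Lpe (f57185 IH) (Lpr_bf (f741851 IH) (Lpn v15818)))))))))))
theorem f207135 : Led Lsl_ct (LP (LK LD1_c6 LD2_c44 LD3_c39)) = (LP (LK LD1_c3 LD2_c20 LD3_c29)) :=
  Lre_c IH (LK LD1_c6 LD2_c44 LD3_c39) (LK LD1_c3 LD2_c20 LD3_c29) Lrfl Lrfl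
theorem f207136 : Led Lsl_at (LP (LK LD1_c9 LD2_c11 LD3_c20)) = (LP (LK LD1_c6 LD2_c44 LD3_c39)) :=
  Lgr Lrot107 (Lpe (K52.f152550 IH) (Lpr_af (K35.f207126 IH) (Lpe (f207135 IH) (Lpn (LP (LK LD1_c6 LD2_c44 LD3_c39))))))
theorem f152539 : Led Lsl_ft (LP (LK LD1_c4 LD2_c37 LD3_c50)) = (LP (LK LD1_c9 LD2_c11 LD3_c20)) :=
  Lre_f IH (LK LD1_c4 LD2_c37 LD3_c50) (LK LD1_c9 LD2_c11 LD3_c20) Lrfl Lrfl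
theorem f207247 : Led Lsl_gt (LP (LK LD1_c9 LD2_c11 LD3_c17)) = (LP (LK LD1_c6 LD2_c44 LD3_c39)) :=
  Lgr Lrot46 (Lpe (f152543 IH) (Lpr_ft (f152539 IH) (Lpr_at (f207136 IH) (Lpn (LP (LK LD1_c6 LD2_c44 LD3_c39))))))
theorem f152551 : Led Lsl_bt (LP (LK LD1_c9 LD2_c11 LD3_c13)) = (LP (LK LD1_c4 LD2_c37 LD3_c54)) :=
  Lre_b IH (LK LD1_c9 LD2_c11 LD3_c13) (LK LD1_c4 LD2_c37 LD3_c54) Lrfl Lrfl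
theorem f557938 : Led Lsl_bt (LP (LK LD1_c3 LD2_c20 LD3_c29)) = (LP (LK LD1_c6 LD2_c2 LD3_c49)) :=
  Lgr Lrot62 (Lpe (K35.f207132 IH) (Lpe (f152551 IH) (Lpe (K40.f207249 IH) (Lpr_bf (K40.f557936 IH) (Lpe (K11.f204325 IH) (Lpn (LP (LK LD1_c6 LD2_c2 LD3_c49))))))))
theorem f743812 : Led Lsl_bt (LP (LK LD1_c5 LD2_c59 LD3_c40)) = v13305 :=
  Lgr Lrot92 (Lpr_ct (f743806 IH) (Lpr_gt (f57095 IH) (Lpe (f56989 IH) (Lpr_bt (f57054 IH) (Lpr_gt (f57005 IH) (Lpqs (f743565 IH) (Lpe (f741852 IH) (Lpr_gt (f207247 IH) (Lpe (K35.f207155 IH) (Lpr_bt (f557938 IH) (Lpr_gt (f702255 IH) (Lpn v13305))))))))))))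
theorem f741395 : Led Lsl_ft v13305 = (LP (LK LD1_c6 LD2_c25 LD3_c27)) :=
  Lgr Lrot48 (Lpr_ff (f741392 IH) (Lpn (LP (LK LD1_c6 LD2_c25 LD3_c27))))
theorem f66360 : Led Lsl_gt (LP (LK LD1_c5 LD2_c48 LD3_c11)) = (LP (LK LD1_c2 LD2_c50 LD3_c19)) :=
  Lre_g IH (LK LD1_c5 LD2_c48 LD3_c11) (LK LD1_c2 LD2_c50 LD3_c19) Lrfl Lrfl
theorem f437260 : Led Lsl_ct (LP (LK LD1_c9 LD2_c5 LD3_c27)) = (LP (LK LD1_c16 LD2_c57 LD3_c26)) :=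
  Lre_c IH (LK LD1_c9 LD2_c5 LD3_c27) (LK LD1_c16 LD2_c57 LD3_c26) Lrfl Lrfl
theorem f437473 : Led Lsl_gt (LP (LK LD1_c9 LD2_c5 LD3_c29)) = (LP (LK LD1_c16 LD2_c57 LD3_c26)) :=
  Lre_g IH (LK LD1_c9 LD2_c5 LD3_c29) (LK LD1_c16 LD2_c57 LD3_c26) Lrfl Lrfl
theorem f699150 : Led Lsl_ct (LP (LK LD1_c6 LD2_c25 LD3_c27)) = (LP (LK LD1_c9 LD2_c5 LD3_c29)) :=
  Lgr Lrot91 (Lpe (f68934 IH) (Lpq (K52.f537884 IH) (Lpe (K52.f509249 IH) (Lpr_ct (K52.f207122 IH) (Lpe (K52.f207204 IH) (Lpr_cf (K52.f699139 IH) (Lpr_bt (K52.f57510 IH) (Lpe (f66360 IH) (Lpe (K45.f437258 IH) (Lpr_ct (f437260 IH) (Lpe (f437473 IH) (Lpn (LP (LK LD1_c9 LD2_c5 LD3_c29))))))))))))))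
theorem f416356 : Led Lsl_gt (LP (LK LD1_c4 LD2_c34 LD3_c0)) = (LP (LK LD1_c9 LD2_c5 LD3_c29)) :=
  Lre_g IH (LK LD1_c4 LD2_c34 LD3_c0) (LK LD1_c9 LD2_c5 LD3_c29) Lrfl Lrfl
theorem f416355 : Led Lsl_ct (LP (LK LD1_c2 LD2_c13 LD3_c55)) = (LP (LK LD1_c4 LD2_c34 LD3_c0)) :=
  Lre_c IH (LK LD1_c2 LD2_c13 LD3_c55) (LK LD1_c4 LD2_c34 LD3_c0) Lrfl Lrfl
theorem f502734 : Led Lsl_gt (LP (LK LD1_c11 LD2_c43 LD3_c44)) = (LP (LK LD1_c5 LD2_c59 LD3_c42)) :=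
  Lre_g IH (LK LD1_c11 LD2_c43 LD3_c44) (LK LD1_c5 LD2_c59 LD3_c42) Lrfl Lrfl
theorem f699154 : Led Lsl_bt (LP (LK LD1_c6 LD2_c25 LD3_c27)) = (LP (LK LD1_c11 LD2_c43 LD3_c44)) :=
  Lgr Lrot130 (Lpr_ct (f699150 IH) (Lpe (f416356 IH) (Lpe (f416355 IH) (Lpr_bt (K32.f416354 IH) (Lpe (K17.f416250 IH) (Lpe (K52.f416348 IH) (Lpr_ct (K52.f416352 IH) (Lpr_gf (K52.f698969 IH) (Lpe (K52.f502455 IH) (Lpe (f502734 IH) (Lpn (LP (LK LD1_c11 LD2_c43 LD3_c44)))))))))))))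
theorem f743815 : Led Lsl_ff (LP (LK LD1_c5 LD2_c59 LD3_c40)) = (LP (LK LD1_c11 LD2_c43 LD3_c44)) :=
  Lgr Lrot25 (Lpr_bt (f743812 IH) (Lpr_ft (f741395 IH) (Lpr_bt (f699154 IH) (Lpn (LP (LK LD1_c11 LD2_c43 LD3_c44))))))
theorem f743816 : Led Lsl_ft (LP (LK LD1_c11 LD2_c43 LD3_c44)) = (LP (LK LD1_c5 LD2_c59 LD3_c40)) :=
  Leop (Lpr_ff (f743815 IH) (Lpn (LP (LK LD1_c11 LD2_c43 LD3_c44))))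
theorem seed_951 : LEOK LG_f (LK LD1_c11 LD2_c43 LD3_c44) :=
  Leoe_f (LK LD1_c11 LD2_c43 LD3_c44) (f743816 IH)
theorem f76073 : Led Lsl_et (LP (LK LD1_c11 LD2_c43 LD3_c55)) = (LP (LK LD1_c5 LD2_c59 LD3_c40)) :=
  Lre_e IH (LK LD1_c11 LD2_c43 LD3_c55) (LK LD1_c5 LD2_c59 LD3_c40) Lrfl Lrfl
theorem f743814 : Led Lsl_bf (LP (LK LD1_c11 LD2_c43 LD3_c55)) = v15758 :=
  Lgr Lrot96 (Lpr_et (f76073 IH) (Lpr_bt (f743812 IH) (Lpr_et (f741340 IH) (Lpn v15758))))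
theorem f643161 : Led Lsl_ef (LP (LK LD1_c17 LD2_c7 LD3_c57)) = (LP (LK LD1_c11 LD2_c20 LD3_c6)) :=
  Lgr Lrot88 (Lpr_et (K50.f643159 IH) (Lpn (LP (LK LD1_c11 LD2_c20 LD3_c6))))
theorem f618139 : Led Lsl_gt (LP (LK LD1_c11 LD2_c20 LD3_c5)) = (LP (LK LD1_c5 LD2_c44 LD3_c55)) :=
  Lre_g IH (LK LD1_c11 LD2_c20 LD3_c5) (LK LD1_c5 LD2_c44 LD3_c55) Lrfl Lrfl
theorem f559334 : Led Lsl_ef (LP (LK LD1_c11 LD2_c43 LD3_c45)) = (LP (LK LD1_c6 LD2_c0 LD3_c26)) :=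
  Lgr Lrot88 (Lpr_et (K42.f559326 IH) (Lpn (LP (LK LD1_c6 LD2_c0 LD3_c26))))
theorem f643325 : Led Lsl_df (LP (LK LD1_c11 LD2_c20 LD3_c5)) = (LP (LK LD1_c11 LD2_c43 LD3_c55)) :=
  Lgr Lrot170 (Lpr_gt (f618139 IH) (Lpe (K50.f618140 IH) (Lpe (f643161 IH) (Lpr_gt (K50.f643323 IH) (Lpr_dt (K45.f452980 IH) (Lpe (K42.f501977 IH) (Lpe (K42.f501947 IH) (Lpe (f559334 IH) (Lpr_gt (f501922 IH) (Lpe (f76073 IH) (Lpn (LP (LK LD1_c11 LD2_c43 LD3_c55)))))))))))))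
def v15757 : LQ := Led Lsl_bt (LP (LK LD1_c5 LD2_c45 LD3_c60))
theorem f741333 : Led Lsl_bt (LP (LK LD1_c5 LD2_c45 LD3_c60)) = v15757 :=
  Lrfl
theorem f741334 : Led Lsl_bf (LP (LK LD1_c5 LD2_c45 LD3_c60)) = v15757 :=
  Lgr Lrot24 (Lpr_bt (f741333 IH) (Lpn v15757))
theorem f743824 : (LP (LK LD1_c11 LD2_c20 LD3_c5)) = v15757 :=
  (Llr Lrot79 (Lpr_df (f643325 IH) (Lpr_bf (f743814 IH) (Lpe (f741335 IH) (Lpr_bf (f741334 IH) (Lpn v15757)))))).symm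
theorem f743825 : Led Lsl_bt (LP (LK LD1_c11 LD2_c20 LD3_c5)) = (LP (LK LD1_c5 LD2_c45 LD3_c60)) :=
  Leop (Lpr_bf (f741334 IH) (Lpq (f743824 IH) (Lpn (LP (LK LD1_c11 LD2_c20 LD3_c5)))))
theorem seed_952 : LEOK LG_b (LK LD1_c11 LD2_c20 LD3_c5) :=
  Leoe_b (LK LD1_c11 LD2_c20 LD3_c5) (f743825 IH)
def v15933 : LQ := Led Lsl_at (LP (LK LD1_c5 LD2_c50 LD3_c13))
theorem f744261 : Led Lsl_at (LP (LK LD1_c5 LD2_c50 LD3_c13)) = v15933 :=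
  Lrfl
theorem f74397 : Led Lsl_bt (LP (LK LD1_c4 LD2_c59 LD3_c23)) = (LP (LK LD1_c9 LD2_c49 LD3_c9)) :=
  Lre_b IH (LK LD1_c4 LD2_c59 LD3_c23) (LK LD1_c9 LD2_c49 LD3_c9) Lrfl Lrfl
theorem f502095 : Led Lsl_ft (LP (LK LD1_c2 LD2_c27 LD3_c39)) = (LP (LK LD1_c4 LD2_c59 LD3_c15)) :=
  Lgr Lrot54 (Lpe (K4.f72675 IH) (Lpr_ff (K37.f502091 IH) (Lpe (K4.f105014 IH) (Lpn (LP (LK LD1_c4 LD2_c59 LD3_c15))))))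
theorem f559342 : Led Lsl_ct (LP (LK LD1_c4 LD2_c59 LD3_c15)) = (LP (LK LD1_c3 LD2_c0 LD3_c35)) :=
  Lgr Lrot40 (Lpe (f502095 IH) (Lpr_cf (K36.f501870 IH) (Lpr_ff (K42.f559336 IH) (Lpn (LP (LK LD1_c3 LD2_c0 LD3_c35))))))
theorem f77781 : Led Lsl_bt (LP (LK LD1_c3 LD2_c22 LD3_c38)) = (LP (LK LD1_c6 LD2_c49 LD3_c2)) :=
  Lre_b IH (LK LD1_c3 LD2_c22 LD3_c38) (LK LD1_c6 LD2_c49 LD3_c2) Lrfl Lrfl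
theorem f559352 : Led Lsl_gt (LP (LK LD1_c9 LD2_c49 LD3_c9)) = (LP (LK LD1_c6 LD2_c49 LD3_c2)) :=
  Lgr Lrot164 (Lpe (f74397 IH) (Lpr_ct (K36.f424609 IH) (Lpr_gf (K42.f559346 IH) (Lpe (f559342 IH) (Lpe (K4.f26443 IH) (Lpe (K4.f26456 IH) (Lpr_ct (K2.f9749 IH) (Lpe (K4.f9755 IH) (Lpe (K4.f77770 IH) (Lpr_bt (f77781 IH) (Lpn (LP (LK LD1_c6 LD2_c49 LD3_c2)))))))))))))
theorem f114902 : Led Lsl_bt (LP (LK LD1_c6 LD2_c49 LD3_c2)) = (LP (LK LD1_c3 LD2_c22 LD3_c38)) :=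
  Lre_b IH (LK LD1_c6 LD2_c49 LD3_c2) (LK LD1_c3 LD2_c22 LD3_c38) Lrfl Lrfl
theorem f124091 : Led Lsl_bt (LP (LK LD1_c3 LD2_c13 LD3_c33)) = (LP (LK LD1_c6 LD2_c30 LD3_c45)) :=
  Lre_b IH (LK LD1_c3 LD2_c13 LD3_c33) (LK LD1_c6 LD2_c30 LD3_c45) Lrfl Lrfl
theorem f124092 : Led Lsl_cf (LP (LK LD1_c6 LD2_c49 LD3_c2)) = (LP (LK LD1_c6 LD2_c30 LD3_c45)) :=
  Lgr Lrot97 (Lpr_bt (f114902 IH) (Lpr_ct (K4.f77770 IH) (Lpr_bt (K4.f114928 IH) (Lpr_ct (K4.f124071 IH) (Lpr_bt (f124091 IH) (Lpn (LP (LK LD1_c6 LD2_c30 LD3_c45))))))))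
theorem f124112 : Led Lsl_bt (LP (LK LD1_c6 LD2_c30 LD3_c45)) = (LP (LK LD1_c3 LD2_c13 LD3_c33)) :=
  Lre_b IH (LK LD1_c6 LD2_c30 LD3_c45) (LK LD1_c3 LD2_c13 LD3_c33) Lrfl Lrfl
theorem f20428 : Led Lsl_gt (LP (LK LD1_c1 LD2_c21 LD3_c44)) = (LP (LK LD1_c2 LD2_c51 LD3_c19)) :=
  Lre_g IH (LK LD1_c1 LD2_c21 LD3_c44) (LK LD1_c2 LD2_c51 LD3_c19) Lrfl Lrfl
theorem f66566 : Led Lsl_bt (LP (LK LD1_c5 LD2_c50 LD3_c13)) = (LP (LK LD1_c2 LD2_c51 LD3_c19)) :=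
  Lre_b IH (LK LD1_c5 LD2_c50 LD3_c13) (LK LD1_c2 LD2_c51 LD3_c19) Lrfl Lrfl
theorem f559365 : Led Lsl_cf (LP (LK LD1_c9 LD2_c49 LD3_c9)) = (LP (LK LD1_c5 LD2_c50 LD3_c13)) :=
  Lgr Lrot160 (Lpr_gt (f559352 IH) (Lpr_cf (f124092 IH) (Lpr_bt (f124112 IH) (Lpe (K4.f124103 IH) (Lpr_ct (K4.f23696 IH) (Lpr_gt (K1.f66557 IH) (Lpe (K5.f24857 IH) (Lpr_bt (K6.f26470 IH) (Lpr_gt (f20428 IH) (Lpe (f66566 IH) (Lpn (LP (LK LD1_c5 LD2_c50 LD3_c13)))))))))))))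
theorem f559367 : Led Lsl_ct (LP (LK LD1_c9 LD2_c49 LD3_c9)) = (LP (LK LD1_c5 LD2_c50 LD3_c13)) :=
  Lgr Lrot59 (Lpr_cf (f559365 IH) (Lpn (LP (LK LD1_c5 LD2_c50 LD3_c13))))
theorem f76709 : Led Lsl_bt (LP (LK LD1_c3 LD2_c6 LD3_c20)) = (LP (LK LD1_c6 LD2_c18 LD3_c8)) :=
  Lre_b IH (LK LD1_c3 LD2_c6 LD3_c20) (LK LD1_c6 LD2_c18 LD3_c8) Lrfl Lrfl
theorem f76710 : Led Lsl_gt (LP (LK LD1_c6 LD2_c18 LD3_c8)) = (LP (LK LD1_c12 LD2_c12 LD3_c25)) :=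
  Lre_g IH (LK LD1_c6 LD2_c18 LD3_c8) (LK LD1_c12 LD2_c12 LD3_c25) Lrfl Lrfl
theorem f141553 : Led Lsl_bt (LP (LK LD1_c17 LD2_c5 LD3_c43)) = (LP (LK LD1_c12 LD2_c12 LD3_c25)) :=
  Lgr Lrot92 (Lpr_ct (K6.f75058 IH) (Lpr_gt (K6.f141549 IH) (Lpr_cf (K4.f79366 IH) (Lpr_bt (K4.f78137 IH) (Lpe (K2.f79021 IH) (Lpr_ct (K2.f78711 IH) (Lpe (K2.f79040 IH) (Lpe (K2.f61723 IH) (Lpr_bt (f76709 IH) (Lpr_gt (f76710 IH) (Lpn (LP (LK LD1_c12 LD2_c12 LD3_c25)))))))))))))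
theorem f57073 : Led Lsl_bt (LP (LK LD1_c9 LD2_c49 LD3_c9)) = (LP (LK LD1_c4 LD2_c59 LD3_c23)) :=
  Lre_b IH (LK LD1_c9 LD2_c49 LD3_c9) (LK LD1_c4 LD2_c59 LD3_c23) Lrfl Lrfl
theorem f209924 : Led Lsl_at (LP (LK LD1_c12 LD2_c12 LD3_c25)) = (LP (LK LD1_c9 LD2_c49 LD3_c9)) :=
  Lgr Lrot67 (Lpe (f141553 IH) (Lpr_af (K52.f209920 IH) (Lpe (K6.f72594 IH) (Lpe (K44.f163188 IH) (Lpe (f57073 IH) (Lpn (LP (LK LD1_c9 LD2_c49 LD3_c9))))))))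
theorem f744264 : Led Lsl_cf (LP (LK LD1_c12 LD2_c12 LD3_c25)) = v15933 :=
  Lgr Lrot1 (Lpr_at (f209924 IH) (Lpr_ct (f559367 IH) (Lpr_at (f744261 IH) (Lpn v15933))))
theorem f744266 : Led Lsl_ct (LP (LK LD1_c12 LD2_c12 LD3_c25)) = v15933 :=
  Lgr Lrot59 (Lpr_cf (f744264 IH) (Lpn v15933))
theorem f141557 : Led Lsl_dt (LP (LK LD1_c21 LD2_c18 LD3_c19)) = (LP (LK LD1_c12 LD2_c12 LD3_c25)) :=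
  Lre_d IH (LK LD1_c21 LD2_c18 LD3_c19) (LK LD1_c12 LD2_c12 LD3_c25) Lrfl Lrfl
theorem f209897 : Led Lsl_bt (LP (LK LD1_c2 LD2_c51 LD3_c19)) = (LP (LK LD1_c5 LD2_c50 LD3_c13)) :=
  Lre_b IH (LK LD1_c2 LD2_c51 LD3_c19) (LK LD1_c5 LD2_c50 LD3_c13) Lrfl Lrfl
theorem f206774 : Led Lsl_ff (LP (LK LD1_c4 LD2_c33 LD3_c61)) = (LP (LK LD1_c2 LD2_c51 LD3_c20)) :=
  Lgr Lrot25 (Lpr_bt (K38.f139739 IH) (Lpr_ft (K11.f206770 IH) (Lpr_bt (K6.f124076 IH) (Lpn (LP (LK LD1_c2 LD2_c51 LD3_c20))))))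
theorem f209893 : Led Lsl_at (LP (LK LD1_c4 LD2_c33 LD3_c61)) = (LP (LK LD1_c2 LD2_c51 LD3_c19)) :=
  Lgr Lrot26 (Lpr_ff (f206774 IH) (Lpr_gt (K6.f36228 IH) (Lpr_gt (f20428 IH) (Lpn (LP (LK LD1_c2 LD2_c51 LD3_c19))))))
theorem f206740 : Led Lsl_ft (LP (LK LD1_c6 LD2_c39 LD3_c12)) = (LP (LK LD1_c8 LD2_c49 LD3_c25)) :=
  Lgr Lrot4 (Lpe (K7.f149882 IH) (Lpr_ff (K11.f206736 IH) (Lpe (K6.f100384 IH) (Lpn (LP (LK LD1_c8 LD2_c49 LD3_c25))))))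
theorem f206772 : Led Lsl_af (LP (LK LD1_c6 LD2_c39 LD3_c14)) = (LP (LK LD1_c8 LD2_c49 LD3_c25)) :=
  Lgr Lrot45 (Lpr_ft (K11.f206770 IH) (Lpe (K11.f158709 IH) (Lpr_ft (f206740 IH) (Lpn (LP (LK LD1_c8 LD2_c49 LD3_c25))))))
theorem f744263 : Led Lsl_bf (LP (LK LD1_c8 LD2_c49 LD3_c25)) = v15933 :=
  Lgr Lrot81 (Lpe (f206772 IH) (Lpe (K38.f139737 IH) (Lpr_at (f209893 IH) (Lpr_bt (f209897 IH) (Lpr_at (f744261 IH) (Lpn v15933))))))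
theorem f61275 : Led Lsl_bf (LP (LK LD1_c1 LD2_c32 LD3_c46)) = (LP (LK LD1_c2 LD2_c49 LD3_c24)) :=
  Lgr Lrot90 (Lpr_ct (K2.f61202 IH) (Lpr_bt (K2.f61001 IH) (Lpr_ct (K2.f61248 IH) (Lpr_bt (K2.f61250 IH) (Lpr_ct (K2.f60951 IH) (Lpn (LP (LK LD1_c2 LD2_c49 LD3_c24))))))))
def v5472 : LQ := Led Lsl_gt (LP (LK LD1_c3 LD2_c8 LD3_c15))
theorem f647831 : Led Lsl_gt (LP (LK LD1_c3 LD2_c8 LD3_c15)) = v5472 :=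
  Lrfl
theorem f647833 : Led Lsl_gf (LP (LK LD1_c6 LD2_c21 LD3_c8)) = v5472 :=
  Lgr Lrot76 (Lpe (K3.f77218 IH) (Lpr_ff (K3.f77206 IH) (Lpr_gt (f647831 IH) (Lpn v5472))))
theorem f647834 : Led Lsl_df K48.v1978 = v5472 :=
  Lgr Lrot153 (Lpe (K48.f506724 IH) (Lpr_dt (K2.f25122 IH) (Lpe (K2.f76417 IH) (Lpe (K2.f61580 IH) (Lpe (K3.f65394 IH) (Lpe (K3.f23340 IH) (Lpr_gf (K3.f79330 IH) (Lpe (K2.f77163 IH) (Lpr_gt (f647831 IH) (Lpn v5472))))))))))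
theorem f13528 : Led Lsl_ct (LP (LK LD1_c1 LD2_c32 LD3_c24)) = (LP (LK LD1_c3 LD2_c11 LD3_c58)) :=
  Lre_c IH (LK LD1_c1 LD2_c32 LD3_c24) (LK LD1_c3 LD2_c11 LD3_c58) Lrfl Lrfl
theorem f23337 : Led Lsl_dt (LP (LK LD1_c3 LD2_c11 LD3_c58)) = (LP (LK LD1_c6 LD2_c28 LD3_c8)) :=
  Lre_d IH (LK LD1_c3 LD2_c11 LD3_c58) (LK LD1_c6 LD2_c28 LD3_c8) Lrfl Lrfl
theorem f647835 : Led Lsl_cf (LP (LK LD1_c6 LD2_c28 LD3_c8)) = v5472 :=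
  Lgr Lrot99 (Lpe (f23337 IH) (Lpe (f13528 IH) (Lpe (K3.f79379 IH) (Lpe (K2.f25118 IH) (Lpr_gf (K48.f506724 IH) (Lpr_df (f647834 IH) (Lpe (f647833 IH) (Lpr_ct (K2.f77212 IH) (Lpr_gt (f647831 IH) (Lpn v5472))))))))))
theorem f13527 : Led Lsl_dt (LP (LK LD1_c6 LD2_c28 LD3_c8)) = (LP (LK LD1_c3 LD2_c11 LD3_c58)) :=
  Lre_d IH (LK LD1_c6 LD2_c28 LD3_c8) (LK LD1_c3 LD2_c11 LD3_c58) Lrfl Lrfl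
theorem f647836 : Led Lsl_df v5472 = K48.v1978 :=
  Lgr Lrot155 (Lpe (f647833 IH) (Lpr_ct (K2.f77212 IH) (Lpr_gt (f647831 IH) (Lpe (f647835 IH) (Lpr_dt (f13527 IH) (Lpe (f13528 IH) (Lpe (K3.f79379 IH) (Lpe (K2.f25118 IH) (Lpr_gf (K48.f506724 IH) (Lpn K48.v1978))))))))))
theorem f436761 : Led Lsl_bt (LP (LK LD1_c6 LD2_c28 LD3_c8)) = (LP (LK LD1_c12 LD2_c27 LD3_c36)) :=
  Lre_b IH (LK LD1_c6 LD2_c28 LD3_c8) (LK LD1_c12 LD2_c27 LD3_c36) Lrfl Lrfl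
theorem f744267 : Led Lsl_gf (LP (LK LD1_c21 LD2_c18 LD3_c19)) = (LP (LK LD1_c12 LD2_c27 LD3_c36)) :=
  Lgr Lrot85 (Lpr_dt (f141557 IH) (Lpr_ct (f744266 IH) (Lpe (f744263 IH) (Lpr_gt (K37.f161619 IH) (Lpr_dt (K37.f139765 IH) (Lpr_ct (K24.f161519 IH) (Lpe (K8.f149015 IH) (Lpr_gt (K8.f149289 IH) (Lpr_dt (K11.f205758 IH) (Lpe (K4.f60945 IH) (Lpr_bt (K4.f60938 IH) (Lpr_gt (K4.f60937 IH) (Lpr_dt (K2.f60950 IH) (Lpr_ct (K2.f60951 IH) (Lpe (f61275 IH) (Lpr_gt (K48.f506722 IH) (Lpe (f647836 IH) (Lpe (f647835 IH) (Lpr_bt (f436761 IH) (Lpn (LP (LK LD1_c12 LD2_c27 LD3_c36))))))))))))))))))))))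
theorem f744268 : Led Lsl_gt (LP (LK LD1_c12 LD2_c27 LD3_c36)) = (LP (LK LD1_c21 LD2_c18 LD3_c19)) :=
  Leop (Lpr_gf (f744267 IH) (Lpn (LP (LK LD1_c12 LD2_c27 LD3_c36))))
theorem seed_953 : LEOK LG_g (LK LD1_c12 LD2_c27 LD3_c36) :=
  Leoe_g (LK LD1_c12 LD2_c27 LD3_c36) (f744268 IH)
def v15949 : LQ := Led Lsl_et (LP (LK LD1_c5 LD2_c50 LD3_c24))
theorem f744344 : Led Lsl_et (LP (LK LD1_c5 LD2_c50 LD3_c24)) = v15949 :=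
  Lrfl
theorem f643288 : Led Lsl_ct (LP (LK LD1_c6 LD2_c0 LD3_c14)) = (LP (LK LD1_c5 LD2_c50 LD3_c24)) :=
  Lgr Lrot59 (Lpr_cf (K45.f643281 IH) (Lpn (LP (LK LD1_c5 LD2_c50 LD3_c24))))
theorem f156790 : Led Lsl_et (LP (LK LD1_c11 LD2_c44 LD3_c61)) = (LP (LK LD1_c6 LD2_c0 LD3_c14)) :=
  Lre_e IH (LK LD1_c11 LD2_c44 LD3_c61) (LK LD1_c6 LD2_c0 LD3_c14) Lrfl Lrfl
theorem f744346 : Led Lsl_cf (LP (LK LD1_c11 LD2_c44 LD3_c61)) = v15949 :=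
  Lgr Lrot39 (Lpr_et (f156790 IH) (Lpr_ct (f643288 IH) (Lpr_et (f744344 IH) (Lpn v15949))))
theorem f744345 : Led Lsl_bf (LP (LK LD1_c5 LD2_c50 LD3_c26)) = v15949 :=
  Lgr Lrot96 (Lpr_et (K53.f500018 IH) (Lpr_bt (K45.f537655 IH) (Lpr_et (f744344 IH) (Lpn v15949))))
def v14605 : LQ := Led Lsl_dt (LP (LK LD1_c5 LD2_c14 LD3_c40))
theorem f723978 : Led Lsl_dt (LP (LK LD1_c5 LD2_c14 LD3_c40)) = v14605 :=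
  Lrfl
theorem f723979 : Led Lsl_df (LP (LK LD1_c5 LD2_c14 LD3_c40)) = v14605 :=
  Lgr Lrot38 (Lpr_dt (f723978 IH) (Lpn v14605))
theorem f615383 : Led Lsl_df (LP (LK LD1_c5 LD2_c8 LD3_c16)) = (LP (LK LD1_c5 LD2_c50 LD3_c2)) :=
  Lgr Lrot18 (Lpe (K51.f288201 IH) (Lpr_dt (K41.f615381 IH) (Lpr_at (K41.f496488 IH) (Lpn (LP (LK LD1_c5 LD2_c50 LD3_c2))))))
theorem f537656 : Led Lsl_et (LP (LK LD1_c2 LD2_c51 LD3_c23)) = (LP (LK LD1_c5 LD2_c50 LD3_c26)) :=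
  Lre_e IH (LK LD1_c2 LD2_c51 LD3_c23) (LK LD1_c5 LD2_c50 LD3_c26) Lrfl Lrfl
theorem f723980 : Led Lsl_gt (LP (LK LD1_c5 LD2_c50 LD3_c26)) = v14605 :=
  Lgr Lrot137 (Lpe (f537656 IH) (Lpq (K45.f537651 IH) (Lpe (K49.f536249 IH) (Lpe (K41.f535799 IH) (Lpr_df (K41.f535804 IH) (Lpr_et (K41.f615357 IH) (Lpe (K50.f499961 IH) (Lpe (K41.f496442 IH) (Lpe (f615383 IH) (Lpe (K54.f288205 IH) (Lpr_df (f723979 IH) (Lpn v14605))))))))))))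
theorem f438615 : Led Lsl_bt (LP (LK LD1_c9 LD2_c50 LD3_c58)) = (LP (LK LD1_c5 LD2_c0 LD3_c16)) :=
  Lre_b IH (LK LD1_c9 LD2_c50 LD3_c58) (LK LD1_c5 LD2_c0 LD3_c16) Lrfl Lrfl
theorem f691789 : Led Lsl_df (LP (LK LD1_c9 LD2_c50 LD3_c58)) = K52.v12376 :=
  Lgr Lrot12 (Lpr_bt (f438615 IH) (Lpe (K51.f633711 IH) (Lpr_bt (K52.f691787 IH) (Lpn K52.v12376))))
theorem f739382 : (LP (LK LD1_c9 LD2_c50 LD3_c58)) = v14605 :=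
  Lefun (Lecon (Lfl_df (f691789 IH)) (K54.f739371 IH).symm) (f723978 IH)
theorem f438617 : Led Lsl_bt (LP (LK LD1_c5 LD2_c0 LD3_c16)) = (LP (LK LD1_c9 LD2_c50 LD3_c58)) :=
  Lre_b IH (LK LD1_c5 LD2_c0 LD3_c16) (LK LD1_c9 LD2_c50 LD3_c58) Lrfl Lrfl
theorem f23867 : Led Lsl_ct (LP (LK LD1_c2 LD2_c57 LD3_c39)) = (LP (LK LD1_c3 LD2_c14 LD3_c28)) :=
  Lgr Lrot15 (Lpr_ef (K0.f23862 IH) (Lpe (K42.f23789 IH) (Lpe (K32.f23866 IH) (Lpn (LP (LK LD1_c3 LD2_c14 LD3_c28))))))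
theorem f23839 : Led Lsl_bt (LP (LK LD1_c5 LD2_c57 LD3_c23)) = (LP (LK LD1_c2 LD2_c54 LD3_c58)) :=
  Lre_b IH (LK LD1_c5 LD2_c57 LD3_c23) (LK LD1_c2 LD2_c54 LD3_c58) Lrfl Lrfl
theorem f23841 : Led Lsl_df (LP (LK LD1_c5 LD2_c57 LD3_c23)) = (LP (LK LD1_c6 LD2_c32 LD3_c35)) :=
  Lgr Lrot12 (Lpr_bt (f23839 IH) (Lpr_dt (K0.f23787 IH) (Lpr_bt (K46.f23840 IH) (Lpn (LP (LK LD1_c6 LD2_c32 LD3_c35))))))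
theorem f641367 : Led Lsl_gt (LP (LK LD1_c6 LD2_c1 LD3_c13)) = (LP (LK LD1_c2 LD2_c56 LD3_c49)) :=
  Lre_g IH (LK LD1_c6 LD2_c1 LD3_c13) (LK LD1_c2 LD2_c56 LD3_c49) Lrfl Lrfl
theorem f642923 : Led Lsl_et (LP (LK LD1_c6 LD2_c32 LD3_c35)) = (LP (LK LD1_c6 LD2_c1 LD3_c13)) :=
  Lgr Lrot121 (Lpe (f23841 IH) (Lpq (K42.f642920 IH) (Lpe (K42.f641363 IH) (Lpe (K24.f76297 IH) (Lpr_et (K24.f442631 IH) (Lpe (K8.f72810 IH) (Lpe (K53.f75970 IH) (Lpr_dt (K5.f75957 IH) (Lpe (K5.f75931 IH) (Lpe (K5.f75886 IH) (Lpe (f641367 IH) (Lpn (LP (LK LD1_c6 LD2_c1 LD3_c13))))))))))))))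
theorem f642928 : Led Lsl_ef (LP (LK LD1_c6 LD2_c32 LD3_c35)) = (LP (LK LD1_c6 LD2_c1 LD3_c13)) :=
  Lgr Lrot88 (Lpr_et (f642923 IH) (Lpn (LP (LK LD1_c6 LD2_c1 LD3_c13))))
theorem f642930 : Led Lsl_bt (LP (LK LD1_c2 LD2_c57 LD3_c39)) = (LP (LK LD1_c6 LD2_c1 LD3_c13)) :=
  Lgr Lrot119 (Lpr_ef (K0.f23862 IH) (Lpe (K42.f23853 IH) (Lpr_ef (f642928 IH) (Lpn (LP (LK LD1_c6 LD2_c1 LD3_c13))))))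
theorem f75937 : Led Lsl_ct (LP (LK LD1_c2 LD2_c56 LD3_c49)) = (LP (LK LD1_c6 LD2_c1 LD3_c8)) :=
  Lre_c IH (LK LD1_c2 LD2_c56 LD3_c49) (LK LD1_c6 LD2_c1 LD3_c8) Lrfl Lrfl
theorem f744352 : Led Lsl_gf (LP (LK LD1_c11 LD2_c44 LD3_c61)) = (LP (LK LD1_c6 LD2_c1 LD3_c8)) :=
  Lgr Lrot129 (Lpr_cf (f744346 IH) (Lpe (f744345 IH) (Lpr_gt (f723980 IH) (Lpq (f739382 IH) (Lpe (f438617 IH) (Lpr_ct (K51.f509691 IH) (Lpqs (K51.f633615 IH) (Lpr_gt (K32.f446082 IH) (Lpe (f23867 IH) (Lpr_bt (f642930 IH) (Lpr_gt (f641367 IH) (Lpr_ct (f75937 IH) (Lpn (LP (LK LD1_c6 LD2_c1 LD3_c8)))))))))))))))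
theorem f744353 : Led Lsl_gt (LP (LK LD1_c6 LD2_c1 LD3_c8)) = (LP (LK LD1_c11 LD2_c44 LD3_c61)) :=
  Leop (Lpr_gf (f744352 IH) (Lpn (LP (LK LD1_c6 LD2_c1 LD3_c8))))
theorem seed_954 : LEOK LG_g (LK LD1_c6 LD2_c1 LD3_c8) :=
  Leoe_g (LK LD1_c6 LD2_c1 LD3_c8) (f744353 IH)
def v15986 : LQ := Led Lsl_dt (LP (LK LD1_c5 LD2_c50 LD3_c60))
theorem f744532 : Led Lsl_dt (LP (LK LD1_c5 LD2_c50 LD3_c60)) = v15986 :=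
  Lrfl
theorem f8366 : Led Lsl_dt (LP (LK LD1_c1 LD2_c21 LD3_c54)) = (LP (LK LD1_c2 LD2_c51 LD3_c43)) :=
  Lre_d IH (LK LD1_c1 LD2_c21 LD3_c54) (LK LD1_c2 LD2_c51 LD3_c43) Lrfl Lrfl
theorem f744536 : Led Lsl_ef (LP (LK LD1_c5 LD2_c50 LD3_c61)) = v15986 :=
  Lgr Lrot73 (Lpr_dt (K43.f208523 IH) (Lpr_et (K37.f208577 IH) (Lpr_dt (f8366 IH) (Lpr_et (K54.f136264 IH) (Lpr_dt (f744532 IH) (Lpn v15986))))))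
theorem f595463 : Led Lsl_df (LP (LK LD1_c6 LD2_c7 LD3_c55)) = (LP (LK LD1_c11 LD2_c29 LD3_c30)) :=
  Lgr Lrot78 (Lpe (K43.f579722 IH) (Lpr_dt (K43.f573403 IH) (Lpr_ft (K45.f595457 IH) (Lpn (LP (LK LD1_c11 LD2_c29 LD3_c30))))))
theorem f744535 : Led Lsl_df (LP (LK LD1_c5 LD2_c50 LD3_c60)) = v15986 :=
  Lgr Lrot38 (Lpr_dt (f744532 IH) (Lpn v15986))
theorem f644060 : Led Lsl_dt (LP (LK LD1_c9 LD2_c30 LD3_c53)) = (LP (LK LD1_c4 LD2_c49 LD3_c5)) :=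
  Lre_d IH (LK LD1_c9 LD2_c30 LD3_c53) (LK LD1_c4 LD2_c49 LD3_c5) Lrfl Lrfl
theorem f705280 : Led Lsl_et (LP (LK LD1_c9 LD2_c30 LD3_c53)) = (LP (LK LD1_c17 LD2_c32 LD3_c22)) :=
  Lre_e IH (LK LD1_c9 LD2_c30 LD3_c53) (LK LD1_c17 LD2_c32 LD3_c22) Lrfl Lrfl
theorem f744541 : Led Lsl_gt (LP (LK LD1_c11 LD2_c42 LD3_c0)) = (LP (LK LD1_c17 LD2_c32 LD3_c22)) :=
  Lgr Lrot131 (Lpe (K45.f594943 IH) (Lpe (K45.f594961 IH) (Lpe (K43.f579041 IH) (Lpr_df (f595463 IH) (Lpe (K45.f428153 IH) (Lpr_ef (f744536 IH) (Lpe (f744535 IH) (Lpqs (K54.f739029 IH) (Lpe (K54.f705275 IH) (Lpe (f644060 IH) (Lpr_et (f705280 IH) (Lpn (LP (LK LD1_c17 LD2_c32 LD3_c22))))))))))))))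
theorem f744542 : Led Lsl_gt (LP (LK LD1_c11 LD2_c42 LD3_c0)) = (LP (LK LD1_c17 LD2_c32 LD3_c22)) :=
  Leop (Lpe (f744541 IH) (Lpn (LP (LK LD1_c11 LD2_c42 LD3_c0))))
theorem seed_955 : LEOK LG_g (LK LD1_c11 LD2_c42 LD3_c0) :=
  Leoe_g (LK LD1_c11 LD2_c42 LD3_c0) (f744542 IH)
def v15987 : LQ := Led Lsl_ft (LP (LK LD1_c5 LD2_c50 LD3_c60))
theorem f744557 : Led Lsl_ft (LP (LK LD1_c5 LD2_c50 LD3_c60)) = v15987 :=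
  Lrfl
theorem f744561 : Led Lsl_ff (LP (LK LD1_c5 LD2_c50 LD3_c60)) = v15987 :=
  Lgr Lrot3 (Lpr_ft (f744557 IH) (Lpn v15987))
theorem f454785 : Led Lsl_ct (LP (LK LD1_c4 LD2_c49 LD3_c5)) = (LP (LK LD1_c9 LD2_c30 LD3_c52)) :=
  Lre_c IH (LK LD1_c4 LD2_c49 LD3_c5) (LK LD1_c9 LD2_c30 LD3_c52) Lrfl Lrfl
theorem f709863 : Led Lsl_ft (LP (LK LD1_c9 LD2_c30 LD3_c52)) = (LP (LK LD1_c7 LD2_c44 LD3_c10)) :=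
  Lgr Lrot4 (Lpe (f454785 IH) (Lpr_ff (K54.f705285 IH) (Lpqs (K54.f705326 IH) (Lpr_cf (K52.f709857 IH) (Lpn (LP (LK LD1_c7 LD2_c44 LD3_c10)))))))
theorem f709869 : Led Lsl_ff (LP (LK LD1_c9 LD2_c30 LD3_c52)) = (LP (LK LD1_c7 LD2_c44 LD3_c10)) :=
  Lgr Lrot3 (Lpr_ft (f709863 IH) (Lpn (LP (LK LD1_c7 LD2_c44 LD3_c10))))
theorem f436675 : Led Lsl_at (LP (LK LD1_c7 LD2_c44 LD3_c9)) = (LP (LK LD1_c3 LD2_c51 LD3_c22)) :=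
  Lre_a IH (LK LD1_c7 LD2_c44 LD3_c9) (LK LD1_c3 LD2_c51 LD3_c22) Lrfl Lrfl
theorem f65768 : Led Lsl_gt (LP (LK LD1_c7 LD2_c44 LD3_c11)) = (LP (LK LD1_c3 LD2_c51 LD3_c22)) :=
  Lre_g IH (LK LD1_c7 LD2_c44 LD3_c11) (LK LD1_c3 LD2_c51 LD3_c22) Lrfl Lrfl
theorem f707406 : Led Lsl_gf (LP (LK LD1_c7 LD2_c44 LD3_c11)) = (LP (LK LD1_c6 LD2_c47 LD3_c18)) :=
  Lgr Lrot47 (Lpr_gt (f65768 IH) (Lpe (f436675 IH) (Lpr_ff (K51.f707394 IH) (Lpn (LP (LK LD1_c6 LD2_c47 LD3_c18))))))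
theorem f709876 : Led Lsl_at (LP (LK LD1_c9 LD2_c30 LD3_c52)) = (LP (LK LD1_c7 LD2_c44 LD3_c11)) :=
  Lgr Lrot26 (Lpr_ff (f709869 IH) (Lpe (K52.f709853 IH) (Lpe (f707406 IH) (Lpn (LP (LK LD1_c7 LD2_c44 LD3_c11))))))
theorem f705825 : Led Lsl_et (LP (LK LD1_c17 LD2_c32 LD3_c18)) = (LP (LK LD1_c9 LD2_c30 LD3_c52)) :=
  Lre_e IH (LK LD1_c17 LD2_c32 LD3_c18) (LK LD1_c9 LD2_c30 LD3_c52) Lrfl Lrfl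
theorem f709885 : Led Lsl_et (LP (LK LD1_c7 LD2_c44 LD3_c11)) = (LP (LK LD1_c14 LD2_c35 LD3_c29)) :=
  Lre_e IH (LK LD1_c7 LD2_c44 LD3_c11) (LK LD1_c14 LD2_c35 LD3_c29) Lrfl Lrfl
theorem f709886 : Led Lsl_af (LP (LK LD1_c17 LD2_c32 LD3_c18)) = (LP (LK LD1_c14 LD2_c35 LD3_c29)) :=
  Lgr Lrot50 (Lpr_et (f705825 IH) (Lpr_at (f709876 IH) (Lpr_et (f709885 IH) (Lpn (LP (LK LD1_c14 LD2_c35 LD3_c29))))))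
theorem f644039 : Led Lsl_ct (LP (LK LD1_c17 LD2_c32 LD3_c18)) = (LP (LK LD1_c9 LD2_c30 LD3_c54)) :=
  Lre_c IH (LK LD1_c17 LD2_c32 LD3_c18) (LK LD1_c9 LD2_c30 LD3_c54) Lrfl Lrfl
theorem f705412 : Led Lsl_at (LP (LK LD1_c9 LD2_c30 LD3_c54)) = (LP (LK LD1_c17 LD2_c32 LD3_c15)) :=
  Lre_a IH (LK LD1_c9 LD2_c30 LD3_c54) (LK LD1_c17 LD2_c32 LD3_c15) Lrfl Lrfl
theorem f709891 : Led Lsl_ct (LP (LK LD1_c17 LD2_c32 LD3_c15)) = (LP (LK LD1_c14 LD2_c35 LD3_c29)) :=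
  Lgr Lrot111 (Lpe (f705412 IH) (Lpe (f644039 IH) (Lpr_af (f709886 IH) (Lpn (LP (LK LD1_c14 LD2_c35 LD3_c29))))))
theorem f440357 : Led Lsl_dt (LP (LK LD1_c24 LD2_c18 LD3_c40)) = (LP (LK LD1_c14 LD2_c35 LD3_c29)) :=
  Lre_d IH (LK LD1_c24 LD2_c18 LD3_c40) (LK LD1_c14 LD2_c35 LD3_c29) Lrfl Lrfl
theorem f137175 : Led Lsl_et (LP (LK LD1_c2 LD2_c55 LD3_c46)) = (LP (LK LD1_c5 LD2_c58 LD3_c41)) :=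
  Lre_e IH (LK LD1_c2 LD2_c55 LD3_c46) (LK LD1_c5 LD2_c58 LD3_c41) Lrfl Lrfl
theorem f426775 : Led Lsl_dt (LP (LK LD1_c11 LD2_c41 LD3_c48)) = (LP (LK LD1_c20 LD2_c41 LD3_c52)) :=
  Lre_d IH (LK LD1_c11 LD2_c41 LD3_c48) (LK LD1_c20 LD2_c41 LD3_c52) Lrfl Lrfl
theorem f65987 : Led Lsl_et (LP (LK LD1_c14 LD2_c35 LD3_c29)) = (LP (LK LD1_c7 LD2_c44 LD3_c11)) :=
  Lre_e IH (LK LD1_c14 LD2_c35 LD3_c29) (LK LD1_c7 LD2_c44 LD3_c11) Lrfl Lrfl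
theorem f65988 : Led Lsl_dt (LP (LK LD1_c14 LD2_c35 LD3_c29)) = (LP (LK LD1_c24 LD2_c18 LD3_c40)) :=
  Lre_d IH (LK LD1_c14 LD2_c35 LD3_c29) (LK LD1_c24 LD2_c18 LD3_c40) Lrfl Lrfl
theorem f440354 : Led Lsl_gt (LP (LK LD1_c20 LD2_c41 LD3_c52)) = (LP (LK LD1_c24 LD2_c18 LD3_c40)) :=
  Lgr Lrot139 (Lpe (f426775 IH) (Lpe (K52.f137176 IH) (Lpe (f137175 IH) (Lpr_dt (K28.f137174 IH) (Lpr_gf (K8.f124069 IH) (Lpr_df (K6.f65772 IH) (Lpr_et (K51.f65973 IH) (Lpe (f65768 IH) (Lpe (f65987 IH) (Lpr_dt (f65988 IH) (Lpn (LP (LK LD1_c24 LD2_c18 LD3_c40)))))))))))))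
theorem f426808 : Led Lsl_dt (LP (LK LD1_c5 LD2_c58 LD3_c42)) = (LP (LK LD1_c11 LD2_c41 LD3_c53)) :=
  Lre_d IH (LK LD1_c5 LD2_c58 LD3_c42) (LK LD1_c11 LD2_c41 LD3_c53) Lrfl Lrfl
theorem f426807 : Led Lsl_gt (LP (LK LD1_c11 LD2_c41 LD3_c53)) = (LP (LK LD1_c20 LD2_c41 LD3_c59)) :=
  Lre_g IH (LK LD1_c11 LD2_c41 LD3_c53) (LK LD1_c20 LD2_c41 LD3_c59) Lrfl Lrfl
theorem f709897 : Led Lsl_df (LP (LK LD1_c17 LD2_c32 LD3_c15)) = (LP (LK LD1_c20 LD2_c41 LD3_c59)) :=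
  Lgr Lrot174 (Lpr_ct (f709891 IH) (Lpe (f440357 IH) (Lpe (f440354 IH) (Lpe (f426775 IH) (Lpe (K52.f137176 IH) (Lpr_ct (K48.f426791 IH) (Lpr_gt (K52.f428853 IH) (Lpr_dt (f426808 IH) (Lpr_gt (f426807 IH) (Lpn (LP (LK LD1_c20 LD2_c41 LD3_c59))))))))))))
theorem f709901 : Led Lsl_dt (LP (LK LD1_c17 LD2_c32 LD3_c15)) = (LP (LK LD1_c20 LD2_c41 LD3_c59)) :=
  Lgr Lrot42 (Lpr_df (f709897 IH) (Lpn (LP (LK LD1_c20 LD2_c41 LD3_c59))))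
theorem f709903 : Led Lsl_et (LP (LK LD1_c17 LD2_c32 LD3_c15)) = (LP (LK LD1_c9 LD2_c30 LD3_c51)) :=
  Lre_e IH (LK LD1_c17 LD2_c32 LD3_c15) (LK LD1_c9 LD2_c30 LD3_c51) Lrfl Lrfl
theorem f709906 : Led Lsl_gt (LP (LK LD1_c9 LD2_c30 LD3_c51)) = (LP (LK LD1_c5 LD2_c53 LD3_c25)) :=
  Lgr Lrot131 (Lpe (f709903 IH) (Lpr_dt (f709901 IH) (Lpe (f426807 IH) (Lpe (f426808 IH) (Lpe (K52.f428853 IH) (Lpe (f428852 IH) (Lpr_dt (K24.f157605 IH) (Lpe (K8.f157615 IH) (Lpe (K32.f72395 IH) (Lpr_et (K8.f72409 IH) (Lpn (LP (LK LD1_c5 LD2_c53 LD3_c25)))))))))))))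
theorem f744565 : Led Lsl_gf (LP (LK LD1_c9 LD2_c30 LD3_c51)) = v15987 :=
  Lgr Lrot47 (Lpr_gt (f709906 IH) (Lpr_af (K54.f136332 IH) (Lpr_ff (f744561 IH) (Lpn v15987))))
theorem f709881 : Led Lsl_cf (LP (LK LD1_c9 LD2_c30 LD3_c51)) = (LP (LK LD1_c7 LD2_c44 LD3_c11)) :=
  Lgr Lrot1 (Lpr_at (K54.f634151 IH) (Lpr_ct (f454785 IH) (Lpr_at (f709876 IH) (Lpn (LP (LK LD1_c7 LD2_c44 LD3_c11))))))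
theorem f709880 : Led Lsl_bt (LP (LK LD1_c7 LD2_c44 LD3_c11)) = (LP (LK LD1_c14 LD2_c35 LD3_c27)) :=
  Lre_b IH (LK LD1_c7 LD2_c44 LD3_c11) (LK LD1_c14 LD2_c35 LD3_c27) Lrfl Lrfl
theorem f130160 : Led Lsl_af (LP (LK LD1_c6 LD2_c53 LD3_c17)) = (LP (LK LD1_c5 LD2_c48 LD3_c19)) :=
  Lgr Lrot0 (Lpr_at (K54.f130158 IH) (Lpn (LP (LK LD1_c5 LD2_c48 LD3_c19))))
theorem f414464 : Led Lsl_gt (LP (LK LD1_c4 LD2_c49 LD3_c44)) = (LP (LK LD1_c9 LD2_c32 LD3_c2)) :=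
  Lre_g IH (LK LD1_c4 LD2_c49 LD3_c44) (LK LD1_c9 LD2_c32 LD3_c2) Lrfl Lrfl
theorem f454324 : Led Lsl_gt (LP (LK LD1_c9 LD2_c32 LD3_c2)) = (LP (LK LD1_c6 LD2_c47 LD3_c3)) :=
  Lgr Lrot46 (Lpe (f414464 IH) (Lpr_ft (K32.f454308 IH) (Lpr_at (K52.f454313 IH) (Lpn (LP (LK LD1_c6 LD2_c47 LD3_c3))))))
theorem f715165 : Led Lsl_ff (LP (LK LD1_c5 LD2_c48 LD3_c19)) = (LP (LK LD1_c9 LD2_c32 LD3_c2)) :=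
  Lgr Lrot52 (Lpe (f130160 IH) (Lpq (K52.f714863 IH) (Lpe (K52.f705777 IH) (Lpe (f454324 IH) (Lpn (LP (LK LD1_c9 LD2_c32 LD3_c2)))))))
theorem f715171 : Led Lsl_ft (LP (LK LD1_c5 LD2_c48 LD3_c19)) = (LP (LK LD1_c9 LD2_c32 LD3_c2)) :=
  Lgr Lrot48 (Lpr_ff (f715165 IH) (Lpn (LP (LK LD1_c9 LD2_c32 LD3_c2))))
theorem f744563 : Led Lsl_ct (LP (LK LD1_c9 LD2_c32 LD3_c2)) = v15987 :=
  Lgr Lrot40 (Lpe (f715171 IH) (Lpr_cf (K54.f136265 IH) (Lpr_ff (f744561 IH) (Lpn v15987))))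
theorem f120434 : Led Lsl_bt (LP (LK LD1_c4 LD2_c44 LD3_c4)) = (LP (LK LD1_c9 LD2_c20 LD3_c60)) :=
  Lre_b IH (LK LD1_c4 LD2_c44 LD3_c4) (LK LD1_c9 LD2_c20 LD3_c60) Lrfl Lrfl
theorem f744567 : Led Lsl_gt (LP (LK LD1_c14 LD2_c35 LD3_c27)) = (LP (LK LD1_c9 LD2_c20 LD3_c60)) :=
  Lgr Lrot164 (Lpe (f709880 IH) (Lpe (f709881 IH) (Lpr_gf (f744565 IH) (Lpe (f744563 IH) (Lpe (f414464 IH) (Lpe (K51.f416212 IH) (Lpr_ct (K51.f416175 IH) (Lpr_gf (K51.f495161 IH) (Lpq (K51.f678949 IH) (Lpqs (K51.f708028 IH) (Lpe (K51.f120394 IH) (Lpr_bt (f120434 IH) (Lpn (LP (LK LD1_c9 LD2_c20 LD3_c60)))))))))))))))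
theorem f744568 : Led Lsl_gt (LP (LK LD1_c14 LD2_c35 LD3_c27)) = (LP (LK LD1_c9 LD2_c20 LD3_c60)) :=
  Leop (Lpe (f744567 IH) (Lpn (LP (LK LD1_c14 LD2_c35 LD3_c27))))
theorem seed_956 : LEOK LG_g (LK LD1_c14 LD2_c35 LD3_c27) :=
  Leoe_g (LK LD1_c14 LD2_c35 LD3_c27) (f744568 IH)
theorem f634152 : Led Lsl_at (LP (LK LD1_c4 LD2_c49 LD3_c5)) = (LP (LK LD1_c9 LD2_c30 LD3_c51)) :=
  Lre_a IH (LK LD1_c4 LD2_c49 LD3_c5) (LK LD1_c9 LD2_c30 LD3_c51) Lrfl Lrfl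
theorem f744566 : Led Lsl_gt K54.v13852 = v15987 :=
  Lgr Lrot5 (Lpe (K54.f705285 IH) (Lpr_at (f634152 IH) (Lpr_gf (f744565 IH) (Lpn v15987))))
theorem f65974 : Led Lsl_dt (LP (LK LD1_c3 LD2_c51 LD3_c22)) = (LP (LK LD1_c7 LD2_c44 LD3_c12)) :=
  Lre_d IH (LK LD1_c3 LD2_c51 LD3_c22) (LK LD1_c7 LD2_c44 LD3_c12) Lrfl Lrfl
theorem f137177 : Led Lsl_gt (LP (LK LD1_c7 LD2_c44 LD3_c12)) = (LP (LK LD1_c14 LD2_c35 LD3_c30)) :=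
  Lre_g IH (LK LD1_c7 LD2_c44 LD3_c12) (LK LD1_c14 LD2_c35 LD3_c30) Lrfl Lrfl
theorem f666747 : Led Lsl_ct (LP (LK LD1_c14 LD2_c35 LD3_c30)) = (LP (LK LD1_c24 LD2_c18 LD3_c42)) :=
  Lre_c IH (LK LD1_c14 LD2_c35 LD3_c30) (LK LD1_c24 LD2_c18 LD3_c42) Lrfl Lrfl
theorem f438258 : Led Lsl_ct (LP (LK LD1_c5 LD2_c48 LD3_c19)) = (LP (LK LD1_c5 LD2_c50 LD3_c60)) :=
  Lgr Lrot111 (Lpe (K54.f130158 IH) (Lpe (K8.f95220 IH) (Lpr_af (K54.f136332 IH) (Lpn (LP (LK LD1_c5 LD2_c50 LD3_c60))))))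
theorem f744559 : Led Lsl_cf (LP (LK LD1_c9 LD2_c32 LD3_c2)) = v15987 :=
  Lgr Lrot108 (Lpe (f715165 IH) (Lpr_ct (f438258 IH) (Lpr_ft (f744557 IH) (Lpn v15987))))
theorem f454328 : Led Lsl_dt (LP (LK LD1_c17 LD2_c34 LD3_c8)) = (LP (LK LD1_c9 LD2_c32 LD3_c2)) :=
  Lre_d IH (LK LD1_c17 LD2_c34 LD3_c8) (LK LD1_c9 LD2_c32 LD3_c2) Lrfl Lrfl
theorem f715181 : Led Lsl_ct (LP (LK LD1_c27 LD2_c22 LD3_c39)) = (LP (LK LD1_c17 LD2_c34 LD3_c8)) :=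
  Lre_c IH (LK LD1_c27 LD2_c22 LD3_c39) (LK LD1_c17 LD2_c34 LD3_c8) Lrfl Lrfl
theorem f744573 : Led Lsl_gt (LP (LK LD1_c24 LD2_c18 LD3_c42)) = (LP (LK LD1_c27 LD2_c22 LD3_c39)) :=
  Lgr Lrot150 (Lpe (f666747 IH) (Lpe (f137177 IH) (Lpe (f65974 IH) (Lpr_gt (K51.f65740 IH) (Lpe (K52.f709857 IH) (Lpq (K54.f705326 IH) (Lpr_gt (f744566 IH) (Lpe (f744559 IH) (Lpe (f454328 IH) (Lpe (f715181 IH) (Lpn (LP (LK LD1_c27 LD2_c22 LD3_c39)))))))))))))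
theorem f744574 : Led Lsl_gt (LP (LK LD1_c24 LD2_c18 LD3_c42)) = (LP (LK LD1_c27 LD2_c22 LD3_c39)) :=
  Leop (Lpe (f744573 IH) (Lpn (LP (LK LD1_c24 LD2_c18 LD3_c42))))
theorem seed_957 : LEOK LG_g (LK LD1_c24 LD2_c18 LD3_c42) :=
  Leoe_g (LK LD1_c24 LD2_c18 LD3_c42) (f744574 IH)
theorem f111631 : Led Lsl_bt (LP (LK LD1_c7 LD2_c0 LD3_c32)) = (LP (LK LD1_c13 LD2_c17 LD3_c51)) :=
  Lre_b IH (LK LD1_c7 LD2_c0 LD3_c32) (LK LD1_c13 LD2_c17 LD3_c51) Lrfl Lrfl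
theorem f715173 : Led Lsl_bt (LP (LK LD1_c9 LD2_c32 LD3_c2)) = (LP (LK LD1_c17 LD2_c34 LD3_c7)) :=
  Lre_b IH (LK LD1_c9 LD2_c32 LD3_c2) (LK LD1_c17 LD2_c34 LD3_c7) Lrfl Lrfl
theorem f744575 : Led Lsl_gf (LP (LK LD1_c13 LD2_c17 LD3_c51)) = (LP (LK LD1_c17 LD2_c34 LD3_c7)) :=
  Lgr Lrot124 (Lpe (f111631 IH) (Lpe (K52.f111621 IH) (Lpr_gt (K52.f65737 IH) (Lpr_cf (K51.f65716 IH) (Lpr_bt (K52.f65715 IH) (Lpr_gt (K51.f65740 IH) (Lpe (K52.f709857 IH) (Lpq (K54.f705326 IH) (Lpr_gt (f744566 IH) (Lpe (f744563 IH) (Lpr_bt (f715173 IH) (Lpn (LP (LK LD1_c17 LD2_c34 LD3_c7))))))))))))))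
theorem f744576 : Led Lsl_gt (LP (LK LD1_c17 LD2_c34 LD3_c7)) = (LP (LK LD1_c13 LD2_c17 LD3_c51)) :=
  Leop (Lpr_gf (f744575 IH) (Lpn (LP (LK LD1_c17 LD2_c34 LD3_c7))))
theorem seed_958 : LEOK LG_g (LK LD1_c17 LD2_c34 LD3_c7) :=
  Leoe_g (LK LD1_c17 LD2_c34 LD3_c7) (f744576 IH)
def v15990 : LQ := Led Lsl_ct (LP (LK LD1_c5 LD2_c51 LD3_c5))
theorem f744596 : Led Lsl_ct (LP (LK LD1_c5 LD2_c51 LD3_c5)) = v15990 :=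
  Lrfl
theorem f435429 : Led Lsl_cf (LP (LK LD1_c1 LD2_c7 LD3_c24)) = (LP (LK LD1_c2 LD2_c14 LD3_c61)) :=
  Lgr Lrot11 (Lpr_ct (K35.f435427 IH) (Lpn (LP (LK LD1_c2 LD2_c14 LD3_c61))))
def v12963 : LQ := Led Lsl_bt (LP (LK LD1_c4 LD2_c35 LD3_c41))
theorem f699889 : Led Lsl_bt (LP (LK LD1_c4 LD2_c35 LD3_c41)) = v12963 :=
  Lrfl
theorem f631838 : Led Lsl_bf (LP (LK LD1_c2 LD2_c14 LD3_c61)) = K45.v4201 :=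
  Lgr Lrot24 (Lpr_bt (K45.f631837 IH) (Lpn K45.v4201))
theorem f699893 : Led Lsl_ef K45.v4201 = v12963 :=
  Lgr Lrot29 (Lpe (f631838 IH) (Lpr_et (K35.f435426 IH) (Lpr_bt (f699889 IH) (Lpn v12963))))
theorem f699892 : Led Lsl_df (LP (LK LD1_c9 LD2_c13 LD3_c40)) = v12963 :=
  Lgr Lrot12 (Lpr_bt (K46.f419092 IH) (Lpr_dt (K32.f419089 IH) (Lpr_bt (f699889 IH) (Lpn v12963))))
theorem f641743 : K41.v5013 = (LP (LK LD1_c5 LD2_c57 LD3_c14)) :=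
  Lefun (Lecon (K41.f641325 IH) (K41.f641742 IH)) (K42.f442879 IH)
theorem f641315 : Led Lsl_ef (LP (LK LD1_c2 LD2_c55 LD3_c36)) = K41.v5013 :=
  Lgr Lrot88 (Lpr_et (K41.f641312 IH) (Lpn K41.v5013))
def v4994 : LQ := Led Lsl_gt (LP (LK LD1_c2 LD2_c55 LD3_c5))
theorem f641238 : Led Lsl_gt (LP (LK LD1_c2 LD2_c55 LD3_c5)) = v4994 :=
  Lrfl
theorem f641252 : Led Lsl_gt v4994 = (LP (LK LD1_c2 LD2_c55 LD3_c36)) :=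
  Lgr Lrot46 (Lpe (f641238 IH) (Lpr_ft (K41.f641247 IH) (Lpe (K41.f641248 IH) (Lpn (LP (LK LD1_c2 LD2_c55 LD3_c36))))))
theorem f699899 : K45.v4201 = v4994 :=
  (Llr Lrot185 (Lpr_ef (f699893 IH) (Lpe (f699892 IH) (Lpr_gf (K50.f643254 IH) (Lpe (K50.f500825 IH) (Lpr_gf (K42.f501977 IH) (Lpe (K24.f452972 IH) (Lpr_dt (K24.f452973 IH) (Lpr_gf (K42.f641853 IH) (Lpe (K42.f442880 IH) (Lpq (f641743 IH) (Lpe (f641315 IH) (Lpe (f641252 IH) (Lpn v4994)))))))))))))).symm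
theorem f426158 : Led Lsl_bt (LP (LK LD1_c5 LD2_c57 LD3_c31)) = (LP (LK LD1_c2 LD2_c55 LD3_c5)) :=
  Lre_b IH (LK LD1_c5 LD2_c57 LD3_c31) (LK LD1_c2 LD2_c55 LD3_c5) Lrfl Lrfl
theorem f426597 : Led Lsl_et (LP (LK LD1_c7 LD2_c42 LD3_c8)) = (LP (LK LD1_c3 LD2_c50 LD3_c32)) :=
  Lre_e IH (LK LD1_c7 LD2_c42 LD3_c8) (LK LD1_c3 LD2_c50 LD3_c32) Lrfl Lrfl
theorem f206009 : Led Lsl_et (LP (LK LD1_c5 LD2_c51 LD3_c9)) = (LP (LK LD1_c11 LD2_c29 LD3_c46)) :=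
  Lre_e IH (LK LD1_c5 LD2_c51 LD3_c9) (LK LD1_c11 LD2_c29 LD3_c46) Lrfl Lrfl
theorem f426852 : Led Lsl_af (LP (LK LD1_c7 LD2_c42 LD3_c8)) = (LP (LK LD1_c11 LD2_c29 LD3_c46)) :=
  Lgr Lrot50 (Lpr_et (f426597 IH) (Lpr_at (K37.f426848 IH) (Lpr_et (f206009 IH) (Lpn (LP (LK LD1_c11 LD2_c29 LD3_c46))))))
theorem f427113 : Led Lsl_at (LP (LK LD1_c7 LD2_c42 LD3_c8)) = (LP (LK LD1_c11 LD2_c29 LD3_c46)) :=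
  Lgr Lrot100 (Lpr_af (f426852 IH) (Lpn (LP (LK LD1_c11 LD2_c29 LD3_c46))))
theorem f112211 : Led Lsl_et (LP (LK LD1_c11 LD2_c29 LD3_c46)) = (LP (LK LD1_c5 LD2_c51 LD3_c9)) :=
  Lre_e IH (LK LD1_c11 LD2_c29 LD3_c46) (LK LD1_c5 LD2_c51 LD3_c9) Lrfl Lrfl
theorem f72410 : Led Lsl_et (LP (LK LD1_c2 LD2_c55 LD3_c17)) = (LP (LK LD1_c5 LD2_c57 LD3_c53)) :=
  Lre_e IH (LK LD1_c2 LD2_c55 LD3_c17) (LK LD1_c5 LD2_c57 LD3_c53) Lrfl Lrfl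
theorem f206012 : Led Lsl_cf (LP (LK LD1_c11 LD2_c29 LD3_c46)) = (LP (LK LD1_c5 LD2_c57 LD3_c53)) :=
  Lgr Lrot39 (Lpr_et (f112211 IH) (Lpr_ct (K37.f206010 IH) (Lpr_et (f72410 IH) (Lpn (LP (LK LD1_c5 LD2_c57 LD3_c53))))))
theorem f206026 : Led Lsl_ct (LP (LK LD1_c11 LD2_c29 LD3_c46)) = (LP (LK LD1_c5 LD2_c57 LD3_c53)) :=
  Lgr Lrot59 (Lpr_cf (f206012 IH) (Lpn (LP (LK LD1_c5 LD2_c57 LD3_c53))))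
theorem f206024 : Led Lsl_bt (LP (LK LD1_c2 LD2_c55 LD3_c21)) = (LP (LK LD1_c5 LD2_c57 LD3_c53)) :=
  Lre_b IH (LK LD1_c2 LD2_c55 LD3_c21) (LK LD1_c5 LD2_c57 LD3_c53) Lrfl Lrfl
theorem f426156 : Led Lsl_bt (LP (LK LD1_c1 LD2_c23 LD3_c42)) = (LP (LK LD1_c2 LD2_c55 LD3_c10)) :=
  Lre_b IH (LK LD1_c1 LD2_c23 LD3_c42) (LK LD1_c2 LD2_c55 LD3_c10) Lrfl Lrfl
theorem f426157 : Led Lsl_at (LP (LK LD1_c2 LD2_c55 LD3_c5)) = (LP (LK LD1_c1 LD2_c23 LD3_c42)) :=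
  Lre_a IH (LK LD1_c2 LD2_c55 LD3_c5) (LK LD1_c1 LD2_c23 LD3_c42) Lrfl Lrfl
theorem f426159 : Led Lsl_at (LP (LK LD1_c5 LD2_c57 LD3_c53)) = (LP (LK LD1_c5 LD2_c57 LD3_c31)) :=
  Lgr Lrot67 (Lpe (f206024 IH) (Lpr_af (K24.f426148 IH) (Lpe (f426156 IH) (Lpe (f426157 IH) (Lpe (f426158 IH) (Lpn (LP (LK LD1_c5 LD2_c57 LD3_c31))))))))
theorem f427115 : Led Lsl_cf (LP (LK LD1_c7 LD2_c42 LD3_c8)) = (LP (LK LD1_c5 LD2_c57 LD3_c31)) :=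
  Lgr Lrot1 (Lpr_at (f427113 IH) (Lpr_ct (f206026 IH) (Lpr_at (f426159 IH) (Lpn (LP (LK LD1_c5 LD2_c57 LD3_c31))))))
theorem f744600 : Led Lsl_gf (LP (LK LD1_c7 LD2_c42 LD3_c8)) = v15990 :=
  Lgr Lrot129 (Lpr_cf (f427115 IH) (Lpr_bt (f426158 IH) (Lpr_gt (f641238 IH) (Lpq (f699899 IH) (Lpe (K45.f631837 IH) (Lpe (f435429 IH) (Lpe (K32.f206545 IH) (Lpe (K24.f24048 IH) (Lpr_bt (K7.f22251 IH) (Lpr_gt (K53.f22278 IH) (Lpr_ct (f744596 IH) (Lpn v15990))))))))))))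
theorem f22360 : Led Lsl_ct (LP (LK LD1_c5 LD2_c51 LD3_c26)) = (LP (LK LD1_c2 LD2_c51 LD3_c59)) :=
  Lre_c IH (LK LD1_c5 LD2_c51 LD3_c26) (LK LD1_c2 LD2_c51 LD3_c59) Lrfl Lrfl
theorem f744599 : Led Lsl_ff (LP (LK LD1_c5 LD2_c51 LD3_c26)) = v15990 :=
  Lgr Lrot23 (Lpr_ct (f22360 IH) (Lpr_ft (K53.f640708 IH) (Lpqs (K53.f713147 IH) (Lpr_ct (f744596 IH) (Lpn v15990)))))
theorem f22365 : Led Lsl_ct (LP (LK LD1_c11 LD2_c29 LD3_c37)) = (LP (LK LD1_c5 LD2_c51 LD3_c4)) :=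
  Lre_c IH (LK LD1_c11 LD2_c29 LD3_c37) (LK LD1_c5 LD2_c51 LD3_c4) Lrfl Lrfl
theorem f22304 : Led Lsl_ct (LP (LK LD1_c2 LD2_c51 LD3_c59)) = (LP (LK LD1_c5 LD2_c51 LD3_c26)) :=
  Lre_c IH (LK LD1_c2 LD2_c51 LD3_c59) (LK LD1_c5 LD2_c51 LD3_c26) Lrfl Lrfl
theorem f713215 : Led Lsl_af (LP (LK LD1_c11 LD2_c29 LD3_c37)) = (LP (LK LD1_c5 LD2_c51 LD3_c26)) :=
  Lgr Lrot68 (Lpr_ct (f22365 IH) (Lpq (K53.f713120 IH) (Lpe (K53.f640701 IH) (Lpr_ct (f22304 IH) (Lpn (LP (LK LD1_c5 LD2_c51 LD3_c26)))))))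
theorem f744601 : Led Lsl_gt (LP (LK LD1_c7 LD2_c42 LD3_c8)) = (LP (LK LD1_c11 LD2_c29 LD3_c37)) :=
  Lgr Lrot46 (Lpr_gf (f744600 IH) (Lpe (f744599 IH) (Lpe (f713215 IH) (Lpn (LP (LK LD1_c11 LD2_c29 LD3_c37))))))
theorem f744602 : Led Lsl_gt (LP (LK LD1_c7 LD2_c42 LD3_c8)) = (LP (LK LD1_c11 LD2_c29 LD3_c37)) :=
  Leop (Lpe (f744601 IH) (Lpn (LP (LK LD1_c7 LD2_c42 LD3_c8))))
theorem seed_959 : LEOK LG_g (LK LD1_c7 LD2_c42 LD3_c8) :=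
  Leoe_g (LK LD1_c7 LD2_c42 LD3_c8) (f744602 IH)
theorem f744604 : Led Lsl_ft (LP (LK LD1_c5 LD2_c51 LD3_c26)) = v15990 :=
  Lgr Lrot48 (Lpr_ff (f744599 IH) (Lpn v15990))
theorem f22305 : Led Lsl_gt (LP (LK LD1_c5 LD2_c51 LD3_c26)) = (LP (LK LD1_c11 LD2_c30 LD3_c18)) :=
  Lre_g IH (LK LD1_c5 LD2_c51 LD3_c26) (LK LD1_c11 LD2_c30 LD3_c18) Lrfl Lrfl
theorem f22302 : Led Lsl_ct (LP (LK LD1_c5 LD2_c51 LD3_c30)) = (LP (LK LD1_c2 LD2_c51 LD3_c60)) :=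
  Lre_c IH (LK LD1_c5 LD2_c51 LD3_c30) (LK LD1_c2 LD2_c51 LD3_c60) Lrfl Lrfl
theorem f744597 : Led Lsl_af (LP (LK LD1_c5 LD2_c51 LD3_c30)) = v15990 :=
  Lgr Lrot68 (Lpr_ct (f22302 IH) (Lpr_at (K53.f640712 IH) (Lpqs (K53.f713147 IH) (Lpr_ct (f744596 IH) (Lpn v15990)))))
theorem f744605 : Led Lsl_gt (LP (LK LD1_c11 LD2_c30 LD3_c18)) = (LP (LK LD1_c5 LD2_c51 LD3_c30)) :=
  Lgr Lrot46 (Lpe (f22305 IH) (Lpr_ft (f744604 IH) (Lpe (f744597 IH) (Lpn (LP (LK LD1_c5 LD2_c51 LD3_c30))))))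
theorem f744606 : Led Lsl_gt (LP (LK LD1_c11 LD2_c30 LD3_c18)) = (LP (LK LD1_c5 LD2_c51 LD3_c30)) :=
  Leop (Lpe (f744605 IH) (Lpn (LP (LK LD1_c11 LD2_c30 LD3_c18))))
theorem seed_960 : LEOK LG_g (LK LD1_c11 LD2_c30 LD3_c18) :=
  Leoe_g (LK LD1_c11 LD2_c30 LD3_c18) (f744606 IH)
def v15991 : LQ := Led Lsl_et (LP (LK LD1_c5 LD2_c51 LD3_c5))
theorem f744615 : Led Lsl_et (LP (LK LD1_c5 LD2_c51 LD3_c5)) = v15991 :=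
  Lrfl
theorem f744618 : Led Lsl_ef (LP (LK LD1_c5 LD2_c51 LD3_c5)) = v15991 :=
  Lgr Lrot88 (Lpr_et (f744615 IH) (Lpn v15991))
theorem f715197 : Led Lsl_df (LP (LK LD1_c17 LD2_c34 LD3_c27)) = (LP (LK LD1_c18 LD2_c23 LD3_c36)) :=
  Lgr Lrot38 (Lpr_dt (K52.f715194 IH) (Lpn (LP (LK LD1_c18 LD2_c23 LD3_c36))))
theorem f744620 : Led Lsl_dt (LP (LK LD1_c9 LD2_c32 LD3_c14)) = v15991 :=
  Lgr Lrot77 (Lpe (K52.f415302 IH) (Lpr_df (f715197 IH) (Lpe (f557637 IH) (Lpe (K53.f22279 IH) (Lpr_ef (f744618 IH) (Lpn v15991))))))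
theorem f744616 : Led Lsl_af (LP (LK LD1_c5 LD2_c51 LD3_c32)) = v15991 :=
  Lgr Lrot50 (Lpr_et (K51.f22313 IH) (Lpr_at (K53.f640712 IH) (Lpqs (K53.f713147 IH) (Lpr_et (f744615 IH) (Lpn v15991)))))
theorem f744621 : Led Lsl_af (LP (LK LD1_c9 LD2_c32 LD3_c14)) = (LP (LK LD1_c6 LD2_c47 LD3_c21)) :=
  Lgr Lrot117 (Lpr_dt (f744620 IH) (Lpe (f744616 IH) (Lpr_dt (K51.f710234 IH) (Lpn (LP (LK LD1_c6 LD2_c47 LD3_c21))))))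
theorem f744622 : Led Lsl_at (LP (LK LD1_c6 LD2_c47 LD3_c21)) = (LP (LK LD1_c9 LD2_c32 LD3_c14)) :=
  Leop (Lpr_af (f744621 IH) (Lpn (LP (LK LD1_c6 LD2_c47 LD3_c21))))
theorem seed_961 : LEOK LG_a (LK LD1_c6 LD2_c47 LD3_c21) :=
  Leoe_a (LK LD1_c6 LD2_c47 LD3_c21) (f744622 IH)
def v15998 : LQ := Led Lsl_ct (LP (LK LD1_c5 LD2_c51 LD3_c25))
theorem f744711 : Led Lsl_ct (LP (LK LD1_c5 LD2_c51 LD3_c25)) = v15998 :=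
  Lrfl
theorem f22362 : Led Lsl_bt (LP (LK LD1_c5 LD2_c51 LD3_c25)) = (LP (LK LD1_c2 LD2_c51 LD3_c59)) :=
  Lre_b IH (LK LD1_c5 LD2_c51 LD3_c25) (LK LD1_c2 LD2_c51 LD3_c59) Lrfl Lrfl
theorem f435436 : Led Lsl_bt (LP (LK LD1_c5 LD2_c51 LD3_c5)) = (LP (LK LD1_c11 LD2_c29 LD3_c40)) :=
  Lre_b IH (LK LD1_c5 LD2_c51 LD3_c5) (LK LD1_c11 LD2_c29 LD3_c40) Lrfl Lrfl
theorem f713152 : Led Lsl_ff (LP (LK LD1_c5 LD2_c51 LD3_c25)) = (LP (LK LD1_c11 LD2_c29 LD3_c40)) :=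
  Lgr Lrot25 (Lpr_bt (f22362 IH) (Lpr_ft (K53.f640708 IH) (Lpqs (K53.f713147 IH) (Lpr_bt (f435436 IH) (Lpn (LP (LK LD1_c11 LD2_c29 LD3_c40)))))))
theorem f22346 : Led Lsl_bt (LP (LK LD1_c11 LD2_c29 LD3_c40)) = (LP (LK LD1_c5 LD2_c51 LD3_c5)) :=
  Lre_b IH (LK LD1_c11 LD2_c29 LD3_c40) (LK LD1_c5 LD2_c51 LD3_c5) Lrfl Lrfl
theorem f435432 : Led Lsl_bt (LP (LK LD1_c2 LD2_c14 LD3_c56)) = (LP (LK LD1_c1 LD2_c4 LD3_c37)) :=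
  Lre_b IH (LK LD1_c2 LD2_c14 LD3_c56) (LK LD1_c1 LD2_c4 LD3_c37) Lrfl Lrfl
theorem f435433 : Led Lsl_ct (LP (LK LD1_c2 LD2_c14 LD3_c56)) = (LP (LK LD1_c4 LD2_c35 LD3_c28)) :=
  Lre_c IH (LK LD1_c2 LD2_c14 LD3_c56) (LK LD1_c4 LD2_c35 LD3_c28) Lrfl Lrfl
theorem f137721 : Led Lsl_gt (LP (LK LD1_c9 LD2_c7 LD3_c28)) = (LP (LK LD1_c4 LD2_c35 LD3_c28)) :=
  Lre_g IH (LK LD1_c9 LD2_c7 LD3_c28) (LK LD1_c4 LD2_c35 LD3_c28) Lrfl Lrfl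
theorem f435434 : Led Lsl_ct (LP (LK LD1_c11 LD2_c29 LD3_c40)) = (LP (LK LD1_c9 LD2_c7 LD3_c28)) :=
  Lgr Lrot64 (Lpr_bt (f22346 IH) (Lpe (K53.f22278 IH) (Lpe (K7.f22251 IH) (Lpr_ct (K24.f24048 IH) (Lpr_gf (K32.f206545 IH) (Lpr_cf (f435429 IH) (Lpe (K50.f185170 IH) (Lpe (f435432 IH) (Lpr_ct (f435433 IH) (Lpe (f137721 IH) (Lpn (LP (LK LD1_c9 LD2_c7 LD3_c28)))))))))))))
theorem f435437 : Led Lsl_cf (LP (LK LD1_c11 LD2_c29 LD3_c40)) = (LP (LK LD1_c9 LD2_c7 LD3_c28)) :=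
  Lgr Lrot11 (Lpr_ct (f435434 IH) (Lpn (LP (LK LD1_c9 LD2_c7 LD3_c28))))
theorem f744713 : Led Lsl_ff (LP (LK LD1_c9 LD2_c7 LD3_c28)) = v15998 :=
  Lgr Lrot23 (Lpe (f435437 IH) (Lpe (f713152 IH) (Lpr_ct (f744711 IH) (Lpn v15998))))
theorem f744715 : Led Lsl_ft (LP (LK LD1_c9 LD2_c7 LD3_c28)) = v15998 :=
  Lgr Lrot48 (Lpr_ff (f744713 IH) (Lpn v15998))
theorem f103601 : Led Lsl_gt (LP (LK LD1_c4 LD2_c35 LD3_c28)) = (LP (LK LD1_c9 LD2_c7 LD3_c27)) :=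
  Lre_g IH (LK LD1_c4 LD2_c35 LD3_c28) (LK LD1_c9 LD2_c7 LD3_c27) Lrfl Lrfl
theorem f744716 : Led Lsl_af (LP (LK LD1_c9 LD2_c7 LD3_c27)) = v15998 :=
  Lgr Lrot31 (Lpe (f103601 IH) (Lpe (f137721 IH) (Lpr_ft (f744715 IH) (Lpn v15998))))
theorem f640702 : Led Lsl_at (LP (LK LD1_c11 LD2_c30 LD3_c16)) = (LP (LK LD1_c5 LD2_c51 LD3_c25)) :=
  Lre_a IH (LK LD1_c11 LD2_c30 LD3_c16) (LK LD1_c5 LD2_c51 LD3_c25) Lrfl Lrfl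
theorem f744718 : Led Lsl_ct (LP (LK LD1_c9 LD2_c7 LD3_c27)) = (LP (LK LD1_c11 LD2_c30 LD3_c16)) :=
  Lgr Lrot111 (Lpr_af (f744716 IH) (Lpe (f744711 IH) (Lpe (f640702 IH) (Lpn (LP (LK LD1_c11 LD2_c30 LD3_c16))))))
theorem f744719 : Led Lsl_ct (LP (LK LD1_c9 LD2_c7 LD3_c27)) = (LP (LK LD1_c11 LD2_c30 LD3_c16)) :=
  Leop (Lpe (f744718 IH) (Lpn (LP (LK LD1_c9 LD2_c7 LD3_c27))))
theorem seed_962 : LEOK LG_c (LK LD1_c9 LD2_c7 LD3_c27) :=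
  Leoe_c (LK LD1_c9 LD2_c7 LD3_c27) (f744719 IH)
def v16008 : LQ := Led Lsl_ft (LP (LK LD1_c5 LD2_c51 LD3_c32))
theorem f744762 : Led Lsl_ft (LP (LK LD1_c5 LD2_c51 LD3_c32)) = v16008 :=
  Lrfl
theorem f744765 : Led Lsl_ff (LP (LK LD1_c5 LD2_c51 LD3_c32)) = v16008 :=
  Lgr Lrot3 (Lpr_ft (f744762 IH) (Lpn v16008))
theorem f744767 : Led Lsl_et (LP (LK LD1_c9 LD2_c5 LD3_c61)) = v16008 :=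
  Lgr Lrot69 (Lpr_ff (K53.f713110 IH) (Lpe (K53.f699528 IH) (Lpq (K53.f713120 IH) (Lpe (K53.f640705 IH) (Lpe (K51.f22313 IH) (Lpr_ff (f744765 IH) (Lpn v16008)))))))
theorem f414956 : Led Lsl_gt (LP (LK LD1_c9 LD2_c32 LD3_c15)) = (LP (LK LD1_c4 LD2_c49 LD3_c50)) :=
  Lre_g IH (LK LD1_c9 LD2_c32 LD3_c15) (LK LD1_c4 LD2_c49 LD3_c50) Lrfl Lrfl
theorem f744627 : Led Lsl_ft (LP (LK LD1_c9 LD2_c32 LD3_c15)) = (LP (LK LD1_c6 LD2_c47 LD3_c21)) :=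
  Lgr Lrot2 (Lpr_gt (f414956 IH) (Lpr_gt (K52.f414970 IH) (Lpr_af (f744621 IH) (Lpn (LP (LK LD1_c6 LD2_c47 LD3_c21))))))
theorem f744763 : Led Lsl_df (LP (LK LD1_c9 LD2_c32 LD3_c15)) = v16008 :=
  Lgr Lrot78 (Lpr_ft (f744627 IH) (Lpe (K51.f710242 IH) (Lpr_ft (f744762 IH) (Lpn v16008))))
theorem f744769 : Led Lsl_ef (LP (LK LD1_c16 LD2_c57 LD3_c50)) = (LP (LK LD1_c9 LD2_c32 LD3_c15)) :=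
  Lgr Lrot73 (Lpr_dt (K52.f157953 IH) (Lpr_et (K48.f151726 IH) (Lpr_dt (K50.f92163 IH) (Lpr_et (f744767 IH) (Lpe (f744763 IH) (Lpn (LP (LK LD1_c9 LD2_c32 LD3_c15))))))))
theorem f744770 : Led Lsl_et (LP (LK LD1_c9 LD2_c32 LD3_c15)) = (LP (LK LD1_c16 LD2_c57 LD3_c50)) :=
  Leop (Lpr_ef (f744769 IH) (Lpn (LP (LK LD1_c9 LD2_c32 LD3_c15))))
theorem seed_963 : LEOK LG_e (LK LD1_c9 LD2_c32 LD3_c15) :=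
  Leoe_e (LK LD1_c9 LD2_c32 LD3_c15) (f744770 IH)
def v16018 : LQ := Led Lsl_et (LP (LK LD1_c5 LD2_c51 LD3_c39))
theorem f744833 : Led Lsl_et (LP (LK LD1_c5 LD2_c51 LD3_c39)) = v16018 :=
  Lrfl
theorem f744836 : Led Lsl_ef (LP (LK LD1_c5 LD2_c51 LD3_c39)) = v16018 :=
  Lgr Lrot88 (Lpr_et (f744833 IH) (Lpn v16018))
def v12929 : LQ := Led Lsl_dt (LP (LK LD1_c4 LD2_c34 LD3_c44))
theorem f699658 : Led Lsl_dt (LP (LK LD1_c4 LD2_c34 LD3_c44)) = v12929 :=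
  Lrfl
theorem f152049 : Led Lsl_at (LP (LK LD1_c9 LD2_c6 LD3_c12)) = (LP (LK LD1_c4 LD2_c34 LD3_c46)) :=
  Lre_a IH (LK LD1_c9 LD2_c6 LD3_c12) (LK LD1_c4 LD2_c34 LD3_c46) Lrfl Lrfl
theorem f152050 : Led Lsl_ef (LP (LK LD1_c9 LD2_c6 LD3_c12)) = (LP (LK LD1_c5 LD2_c52 LD3_c5)) :=
  Lgr Lrot20 (Lpr_at (f152049 IH) (Lpr_et (K7.f152046 IH) (Lpr_at (K7.f151953 IH) (Lpn (LP (LK LD1_c5 LD2_c52 LD3_c5))))))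
theorem f163610 : Led Lsl_gt (LP (LK LD1_c4 LD2_c34 LD3_c44)) = (LP (LK LD1_c9 LD2_c6 LD3_c12)) :=
  Lre_g IH (LK LD1_c4 LD2_c34 LD3_c44) (LK LD1_c9 LD2_c6 LD3_c12) Lrfl Lrfl
theorem f615672 : Led Lsl_ef (LP (LK LD1_c4 LD2_c34 LD3_c44)) = (LP (LK LD1_c3 LD2_c8 LD3_c43)) :=
  Lgr Lrot114 (Lpr_gt (f163610 IH) (Lpr_ef (f152050 IH) (Lpr_dt (K45.f599767 IH) (Lpe (K45.f599820 IH) (Lpr_df (K45.f615663 IH) (Lpr_et (K45.f419046 IH) (Lpr_gt (K35.f500164 IH) (Lpe (K35.f500153 IH) (Lpr_gt (K31.f146034 IH) (Lpe (K35.f79853 IH) (Lpn (LP (LK LD1_c3 LD2_c8 LD3_c43)))))))))))))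
theorem f699660 : Led Lsl_ef (LP (LK LD1_c6 LD2_c22 LD3_c6)) = v12929 :=
  Lgr Lrot73 (Lpr_dt (K31.f79840 IH) (Lpr_et (K31.f79847 IH) (Lpr_dt (K35.f79856 IH) (Lpe (f615672 IH) (Lpr_dt (f699658 IH) (Lpn v12929))))))
theorem f699659 : Led Lsl_df (LP (LK LD1_c4 LD2_c34 LD3_c44)) = v12929 :=
  Lgr Lrot38 (Lpr_dt (f699658 IH) (Lpn v12929))
theorem f622497 : Led Lsl_df (LP (LK LD1_c9 LD2_c6 LD3_c12)) = (LP (LK LD1_c6 LD2_c7 LD3_c11)) :=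
  Lgr Lrot12 (Lpe (K32.f163602 IH) (Lpr_dt (f22266 IH) (Lpr_bt (K54.f622491 IH) (Lpn (LP (LK LD1_c6 LD2_c7 LD3_c11))))))
theorem f691762 : Led Lsl_et (LP (LK LD1_c6 LD2_c7 LD3_c11)) = K49.v12370 :=
  Lgr Lrot69 (Lpe (K54.f177433 IH) (Lpe (K54.f177436 IH) (Lpr_ff (K38.f334623 IH) (Lpe (K35.f55816 IH) (Lpr_ff (K49.f691757 IH) (Lpn K49.v12370))))))
theorem f176591 : Led Lsl_gt (LP (LK LD1_c6 LD2_c7 LD3_c24)) = (LP (LK LD1_c2 LD2_c59 LD3_c52)) :=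
  Lre_g IH (LK LD1_c6 LD2_c7 LD3_c24) (LK LD1_c2 LD2_c59 LD3_c52) Lrfl Lrfl
theorem f691763 : Led Lsl_gf (LP (LK LD1_c6 LD2_c7 LD3_c24)) = K49.v12370 :=
  Lgr Lrot47 (Lpr_gt (f176591 IH) (Lpr_af (K49.f334641 IH) (Lpr_ff (K49.f691757 IH) (Lpn K49.v12370))))
theorem f185993 : Led Lsl_dt (LP (LK LD1_c6 LD2_c7 LD3_c24)) = (LP (LK LD1_c11 LD2_c57 LD3_c33)) :=
  Lre_d IH (LK LD1_c6 LD2_c7 LD3_c24) (LK LD1_c11 LD2_c57 LD3_c33) Lrfl Lrfl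
theorem f632236 : Led Lsl_ef (LP (LK LD1_c2 LD2_c52 LD3_c2)) = K49.v4254 :=
  Lgr Lrot28 (Lpe (K32.f416055 IH) (Lpe (K32.f20133 IH) (Lpr_ct (K49.f632232 IH) (Lpn K49.v4254))))
theorem f101470 : Led Lsl_et (LP (LK LD1_c6 LD2_c51 LD3_c16)) = (LP (LK LD1_c3 LD2_c24 LD3_c8)) :=
  Lre_e IH (LK LD1_c6 LD2_c51 LD3_c16) (LK LD1_c3 LD2_c24 LD3_c8) Lrfl Lrfl
theorem f744835 : Led Lsl_df (LP (LK LD1_c6 LD2_c51 LD3_c16)) = v16018 :=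
  Lgr Lrot70 (Lpr_et (f101470 IH) (Lpr_dt (K49.f632240 IH) (Lpe (f632236 IH) (Lpr_dt (K31.f73611 IH) (Lpr_et (f744833 IH) (Lpn v16018))))))
theorem f744839 : Led Lsl_gt (LP (LK LD1_c11 LD2_c57 LD3_c33)) = (LP (LK LD1_c6 LD2_c51 LD3_c16)) :=
  Lgr Lrot139 (Lpe (f185993 IH) (Lpr_gf (f691763 IH) (Lpe (f691762 IH) (Lpe (f622497 IH) (Lpe (f163610 IH) (Lpr_df (f699659 IH) (Lpe (f699660 IH) (Lpe (K31.f79841 IH) (Lpr_ef (f744836 IH) (Lpe (f744835 IH) (Lpn (LP (LK LD1_c6 LD2_c51 LD3_c16)))))))))))))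
theorem f744840 : Led Lsl_gt (LP (LK LD1_c11 LD2_c57 LD3_c33)) = (LP (LK LD1_c6 LD2_c51 LD3_c16)) :=
  Leop (Lpe (f744839 IH) (Lpn (LP (LK LD1_c11 LD2_c57 LD3_c33))))
theorem seed_964 : LEOK LG_g (LK LD1_c11 LD2_c57 LD3_c33) :=
  Leoe_g (LK LD1_c11 LD2_c57 LD3_c33) (f744840 IH)
theorem f176592 : Led Lsl_dt (LP (LK LD1_c11 LD2_c57 LD3_c33)) = (LP (LK LD1_c6 LD2_c7 LD3_c24)) :=
  Lre_d IH (LK LD1_c11 LD2_c57 LD3_c33) (LK LD1_c6 LD2_c7 LD3_c24) Lrfl Lrfl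
theorem f185989 : Led Lsl_gt (LP (LK LD1_c6 LD2_c4 LD3_c12)) = (LP (LK LD1_c11 LD2_c51 LD3_c56)) :=
  Lre_g IH (LK LD1_c6 LD2_c4 LD3_c12) (LK LD1_c11 LD2_c51 LD3_c56) Lrfl Lrfl
theorem f185990 : Led Lsl_et (LP (LK LD1_c11 LD2_c57 LD3_c33)) = (LP (LK LD1_c11 LD2_c51 LD3_c56)) :=
  Lgr Lrot122 (Lpr_dt (f176592 IH) (Lpr_gt (f176591 IH) (Lpe (K35.f176578 IH) (Lpr_et (K35.f176589 IH) (Lpr_gt (K10.f176572 IH) (Lpr_dt (K10.f176590 IH) (Lpr_gt (K10.f185962 IH) (Lpe (K11.f9389 IH) (Lpr_et (K36.f26707 IH) (Lpr_gt (f185989 IH) (Lpn (LP (LK LD1_c11 LD2_c51 LD3_c56)))))))))))))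
theorem f185994 : Led Lsl_ef (LP (LK LD1_c11 LD2_c57 LD3_c33)) = (LP (LK LD1_c11 LD2_c51 LD3_c56)) :=
  Lgr Lrot88 (Lpr_et (f185990 IH) (Lpn (LP (LK LD1_c11 LD2_c51 LD3_c56))))
theorem f414125 : Led Lsl_gt (LP (LK LD1_c6 LD2_c46 LD3_c37)) = (LP (LK LD1_c12 LD2_c56 LD3_c35)) :=
  Lre_g IH (LK LD1_c6 LD2_c46 LD3_c37) (LK LD1_c12 LD2_c56 LD3_c35) Lrfl Lrfl
theorem f414123 : Led Lsl_df (LP (LK LD1_c6 LD2_c46 LD3_c37)) = (LP (LK LD1_c5 LD2_c51 LD3_c61)) :=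
  Lgr Lrot38 (Lpr_dt (K17.f414115 IH) (Lpn (LP (LK LD1_c5 LD2_c51 LD3_c61))))
theorem f53220 : Led Lsl_et (LP (LK LD1_c10 LD2_c6 LD3_c52)) = (LP (LK LD1_c5 LD2_c8 LD3_c9)) :=
  Lre_e IH (LK LD1_c10 LD2_c6 LD3_c52) (LK LD1_c5 LD2_c8 LD3_c9) Lrfl Lrfl
theorem f414169 : Led Lsl_df (LP (LK LD1_c12 LD2_c56 LD3_c35)) = (LP (LK LD1_c10 LD2_c6 LD3_c52)) :=
  Lgr Lrot132 (Lpe (f414125 IH) (Lpr_df (f414123 IH) (Lpe (K17.f177188 IH) (Lpe (K17.f164164 IH) (Lpr_dt (K9.f164161 IH) (Lpr_gf (K9.f177179 IH) (Lpe (K9.f53202 IH) (Lpr_et (K17.f53215 IH) (Lpe (K53.f53219 IH) (Lpe (f53220 IH) (Lpn (LP (LK LD1_c10 LD2_c6 LD3_c52)))))))))))))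
theorem f414171 : Led Lsl_dt (LP (LK LD1_c12 LD2_c56 LD3_c35)) = (LP (LK LD1_c10 LD2_c6 LD3_c52)) :=
  Lgr Lrot42 (Lpr_df (f414169 IH) (Lpn (LP (LK LD1_c10 LD2_c6 LD3_c52))))
theorem f414177 : Led Lsl_gt (LP (LK LD1_c10 LD2_c6 LD3_c52)) = (LP (LK LD1_c18 LD2_c26 LD3_c0)) :=
  Lre_g IH (LK LD1_c10 LD2_c6 LD3_c52) (LK LD1_c18 LD2_c26 LD3_c0) Lrfl Lrfl
theorem f744841 : Led Lsl_dt (LP (LK LD1_c11 LD2_c51 LD3_c56)) = (LP (LK LD1_c18 LD2_c26 LD3_c0)) :=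
  Lgr Lrot56 (Lpe (f185994 IH) (Lpr_gt (f744839 IH) (Lpe (K49.f414271 IH) (Lpr_dt (K49.f632240 IH) (Lpe (K49.f632239 IH) (Lpe (K24.f414110 IH) (Lpr_et (K17.f414112 IH) (Lpr_gt (f414125 IH) (Lpr_dt (f414171 IH) (Lpr_gt (f414177 IH) (Lpn (LP (LK LD1_c18 LD2_c26 LD3_c0)))))))))))))
theorem f744842 : Led Lsl_dt (LP (LK LD1_c11 LD2_c51 LD3_c56)) = (LP (LK LD1_c18 LD2_c26 LD3_c0)) :=
  Leop (Lpe (f744841 IH) (Lpn (LP (LK LD1_c11 LD2_c51 LD3_c56))))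
theorem seed_965 : LEOK LG_d (LK LD1_c11 LD2_c51 LD3_c56) :=
  Leoe_d (LK LD1_c11 LD2_c51 LD3_c56) (f744842 IH)
def v16021 : LQ := Led Lsl_ft (LP (LK LD1_c5 LD2_c51 LD3_c43))
theorem f744853 : Led Lsl_ft (LP (LK LD1_c5 LD2_c51 LD3_c43)) = v16021 :=
  Lrfl
theorem f73968 : Led Lsl_gt (LP (LK LD1_c5 LD2_c51 LD3_c43)) = (LP (LK LD1_c11 LD2_c30 LD3_c42)) :=
  Lre_g IH (LK LD1_c5 LD2_c51 LD3_c43) (LK LD1_c11 LD2_c30 LD3_c42) Lrfl Lrfl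
theorem f73639 : Led Lsl_at (LP (LK LD1_c2 LD2_c52 LD3_c7)) = (LP (LK LD1_c5 LD2_c51 LD3_c43)) :=
  Lre_a IH (LK LD1_c2 LD2_c52 LD3_c7) (LK LD1_c5 LD2_c51 LD3_c43) Lrfl Lrfl
theorem f744854 : Led Lsl_af (LP (LK LD1_c5 LD2_c51 LD3_c48)) = v16021 :=
  Lgr Lrot45 (Lpr_ft (K2.f73802 IH) (Lpr_at (f73639 IH) (Lpr_ft (f744853 IH) (Lpn v16021))))
theorem f744858 : Led Lsl_gt (LP (LK LD1_c11 LD2_c30 LD3_c42)) = (LP (LK LD1_c5 LD2_c51 LD3_c48)) :=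
  Lgr Lrot46 (Lpe (f73968 IH) (Lpr_ft (f744853 IH) (Lpe (f744854 IH) (Lpn (LP (LK LD1_c5 LD2_c51 LD3_c48))))))
theorem f744859 : Led Lsl_gt (LP (LK LD1_c11 LD2_c30 LD3_c42)) = (LP (LK LD1_c5 LD2_c51 LD3_c48)) :=
  Leop (Lpe (f744858 IH) (Lpn (LP (LK LD1_c11 LD2_c30 LD3_c42))))
theorem seed_966 : LEOK LG_g (LK LD1_c11 LD2_c30 LD3_c42) :=
  Leoe_g (LK LD1_c11 LD2_c30 LD3_c42) (f744859 IH)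
def v16034 : LQ := Led Lsl_gf (LP (LK LD1_c5 LD2_c51 LD3_c55))
theorem f744923 : Led Lsl_gf (LP (LK LD1_c5 LD2_c51 LD3_c55)) = v16034 :=
  Lrfl
theorem f622567 : Led Lsl_dt (LP (LK LD1_c5 LD2_c50 LD3_c26)) = (LP (LK LD1_c5 LD2_c51 LD3_c55)) :=
  Lgr Lrot42 (Lpr_df (K53.f622564 IH) (Lpn (LP (LK LD1_c5 LD2_c51 LD3_c55))))
def v4866 : LQ := Led Lsl_gt (LP (LK LD1_c2 LD2_c51 LD3_c10))
theorem f640639 : Led Lsl_gt (LP (LK LD1_c2 LD2_c51 LD3_c10)) = v4866 :=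
  Lrfl
theorem f744925 : Led Lsl_dt v4866 = v16034 :=
  Lgr Lrot171 (Lpe (f640639 IH) (Lpe (K41.f437505 IH) (Lpr_dt (K41.f209993 IH) (Lpe (K11.f16658 IH) (Lpe (K36.f26548 IH) (Lpr_et (K35.f143140 IH) (Lpe (K45.f139895 IH) (Lpe (K53.f500018 IH) (Lpr_dt (f622567 IH) (Lpr_gf (f744923 IH) (Lpn v16034)))))))))))
theorem f744928 : Led Lsl_df v4866 = v16034 :=
  Lgr Lrot38 (Lpr_dt (f744925 IH) (Lpn v16034))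
theorem f640724 : Led Lsl_ft (LP (LK LD1_c5 LD2_c47 LD3_c39)) = K54.v4886 :=
  Lgr Lrot48 (Lpr_ff (K54.f640723 IH) (Lpn K54.v4886))
theorem f720186 : Led Lsl_at K54.v4886 = v4866 :=
  Lgr Lrot26 (Lpe (f640724 IH) (Lpqs (f720181 IH) (Lpe (K38.f640641 IH) (Lpr_gt (f640639 IH) (Lpn v4866)))))
theorem f720187 : Led Lsl_af K54.v4886 = v4866 :=
  Lgr Lrot0 (Lpr_at (f720186 IH) (Lpn v4866))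
theorem f739460 : Led Lsl_ff v4866 = (LP (LK LD1_c5 LD2_c52 LD3_c13)) :=
  Lgr Lrot30 (Lpe (f720187 IH) (Lpe (K54.f640723 IH) (Lpr_at (f739452 IH) (Lpn (LP (LK LD1_c5 LD2_c52 LD3_c13))))))
theorem f739463 : Led Lsl_ft v4866 = (LP (LK LD1_c5 LD2_c52 LD3_c13)) :=
  Lgr Lrot48 (Lpr_ff (f739460 IH) (Lpn (LP (LK LD1_c5 LD2_c52 LD3_c13))))
theorem f615403 : Led Lsl_df (LP (LK LD1_c10 LD2_c18 LD3_c13)) = (LP (LK LD1_c5 LD2_c52 LD3_c13)) :=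
  Lgr Lrot38 (Lpr_dt (K53.f615401 IH) (Lpn (LP (LK LD1_c5 LD2_c52 LD3_c13))))
theorem f744931 : Led Lsl_ft (LP (LK LD1_c10 LD2_c18 LD3_c13)) = v16034 :=
  Lgr Lrot54 (Lpr_df (f615403 IH) (Lpe (f739463 IH) (Lpr_df (f744928 IH) (Lpn v16034))))
def v16016 : LQ := Led Lsl_bt (LP (LK LD1_c5 LD2_c51 LD3_c39))
theorem f744819 : Led Lsl_bt (LP (LK LD1_c5 LD2_c51 LD3_c39)) = v16016 :=
  Lrfl
theorem f640722 : Led Lsl_bf (LP (LK LD1_c2 LD2_c52 LD3_c2)) = K54.v4886 :=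
  Lgr Lrot24 (Lpr_bt (K54.f640721 IH) (Lpn K54.v4886))
theorem f744821 : Led Lsl_df K54.v4886 = v16016 :=
  Lgr Lrot12 (Lpe (f640722 IH) (Lpr_dt (K31.f73611 IH) (Lpr_bt (f744819 IH) (Lpn v16016))))
theorem f744926 : Led Lsl_af v16016 = v16034 :=
  Lgr Lrot117 (Lpe (f744821 IH) (Lpr_at (f720186 IH) (Lpr_dt (f744925 IH) (Lpn v16034))))
theorem f59441 : Led Lsl_dt (LP (LK LD1_c5 LD2_c47 LD3_c38)) = (LP (LK LD1_c2 LD2_c49 LD3_c46)) :=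
  Lre_d IH (LK LD1_c5 LD2_c47 LD3_c38) (LK LD1_c2 LD2_c49 LD3_c46) Lrfl Lrfl
theorem f503421 : Led Lsl_ff (LP (LK LD1_c5 LD2_c47 LD3_c38)) = (LP (LK LD1_c5 LD2_c51 LD3_c40)) :=
  Lgr Lrot19 (Lpr_dt (f59441 IH) (Lpr_ft (K32.f503417 IH) (Lpr_dt (K35.f73622 IH) (Lpn (LP (LK LD1_c5 LD2_c51 LD3_c40))))))
theorem f73610 : Led Lsl_dt (LP (LK LD1_c5 LD2_c51 LD3_c39)) = (LP (LK LD1_c2 LD2_c52 LD3_c2)) :=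
  Lre_d IH (LK LD1_c5 LD2_c51 LD3_c39) (LK LD1_c2 LD2_c52 LD3_c2) Lrfl Lrfl
theorem f503408 : Led Lsl_at (LP (LK LD1_c5 LD2_c47 LD3_c38)) = (LP (LK LD1_c5 LD2_c51 LD3_c39)) :=
  Lgr Lrot51 (Lpe (K32.f59433 IH) (Lpr_af (K32.f503404 IH) (Lpe (f73610 IH) (Lpn (LP (LK LD1_c5 LD2_c51 LD3_c39))))))
theorem f503463 : Led Lsl_ff (LP (LK LD1_c5 LD2_c47 LD3_c40)) = (LP (LK LD1_c5 LD2_c51 LD3_c39)) :=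
  Lgr Lrot30 (Lpr_at (K32.f503425 IH) (Lpe (f503421 IH) (Lpr_at (f503408 IH) (Lpn (LP (LK LD1_c5 LD2_c51 LD3_c39))))))
theorem f503465 : Led Lsl_ft (LP (LK LD1_c5 LD2_c47 LD3_c40)) = (LP (LK LD1_c5 LD2_c51 LD3_c39)) :=
  Lgr Lrot48 (Lpr_ff (f503463 IH) (Lpn (LP (LK LD1_c5 LD2_c51 LD3_c39))))
theorem f720190 : Led Lsl_bf (LP (LK LD1_c10 LD2_c4 LD3_c60)) = (LP (LK LD1_c5 LD2_c47 LD3_c40)) :=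
  Lgr Lrot93 (Lpr_dt (K41.f640643 IH) (Lpq (f720181 IH) (Lpr_bt (K54.f57648 IH) (Lpr_dt (K32.f57641 IH) (Lpn (LP (LK LD1_c5 LD2_c47 LD3_c40)))))))
theorem f720192 : Led Lsl_bt (LP (LK LD1_c10 LD2_c4 LD3_c60)) = (LP (LK LD1_c5 LD2_c47 LD3_c40)) :=
  Lgr Lrot127 (Lpr_bf (f720190 IH) (Lpn (LP (LK LD1_c5 LD2_c47 LD3_c40))))
theorem f744822 : Led Lsl_ff (LP (LK LD1_c10 LD2_c4 LD3_c60)) = v16016 :=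
  Lgr Lrot25 (Lpr_bt (f720192 IH) (Lpr_ft (f503465 IH) (Lpr_bt (f744819 IH) (Lpn v16016))))
theorem f720188 : Led Lsl_bf (LP (LK LD1_c5 LD2_c51 LD3_c11)) = v4866 :=
  Lgr Lrot81 (Lpe (K52.f711817 IH) (Lpr_bt (K52.f79883 IH) (Lpr_at (K32.f503406 IH) (Lpr_bt (K54.f640721 IH) (Lpr_at (f720186 IH) (Lpn v4866))))))
theorem f739461 : Led Lsl_bt (LP (LK LD1_c5 LD2_c48 LD3_c2)) = (LP (LK LD1_c5 LD2_c52 LD3_c13)) :=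
  Lgr Lrot35 (Lpe (K52.f712171 IH) (Lpr_bf (f720188 IH) (Lpr_ff (f739460 IH) (Lpn (LP (LK LD1_c5 LD2_c52 LD3_c13))))))
theorem f427286 : Led Lsl_dt (LP (LK LD1_c11 LD2_c25 LD3_c42)) = (LP (LK LD1_c5 LD2_c48 LD3_c2)) :=
  Lre_d IH (LK LD1_c11 LD2_c25 LD3_c42) (LK LD1_c5 LD2_c48 LD3_c2) Lrfl Lrfl
theorem f739464 : Led Lsl_bf (LP (LK LD1_c11 LD2_c25 LD3_c42)) = (LP (LK LD1_c10 LD2_c18 LD3_c13)) :=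
  Lgr Lrot93 (Lpr_dt (f427286 IH) (Lpr_bt (f739461 IH) (Lpe (f615403 IH) (Lpn (LP (LK LD1_c10 LD2_c18 LD3_c13))))))
theorem f132471 : Led Lsl_dt (LP (LK LD1_c11 LD2_c29 LD3_c54)) = (LP (LK LD1_c5 LD2_c51 LD3_c12)) :=
  Lre_d IH (LK LD1_c11 LD2_c29 LD3_c54) (LK LD1_c5 LD2_c51 LD3_c12) Lrfl Lrfl
theorem f427284 : Led Lsl_dt (LP (LK LD1_c5 LD2_c48 LD3_c2)) = (LP (LK LD1_c11 LD2_c25 LD3_c42)) :=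
  Lre_d IH (LK LD1_c5 LD2_c48 LD3_c2) (LK LD1_c11 LD2_c25 LD3_c42) Lrfl Lrfl
theorem f712160 : Led Lsl_af (LP (LK LD1_c11 LD2_c29 LD3_c54)) = (LP (LK LD1_c11 LD2_c25 LD3_c42)) :=
  Lgr Lrot117 (Lpr_dt (f132471 IH) (Lpq (K52.f711766 IH) (Lpr_at (K52.f712154 IH) (Lpr_dt (f427284 IH) (Lpn (LP (LK LD1_c11 LD2_c25 LD3_c42)))))))
theorem f711798 : Led Lsl_ft (LP (LK LD1_c11 LD2_c25 LD3_c8)) = (LP (LK LD1_c11 LD2_c29 LD3_c54)) :=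
  Lgr Lrot48 (Lpr_ff (f711773 IH) (Lpn (LP (LK LD1_c11 LD2_c29 LD3_c54))))
theorem f503412 : Led Lsl_bt (LP (LK LD1_c5 LD2_c47 LD3_c38)) = (LP (LK LD1_c11 LD2_c25 LD3_c8)) :=
  Lre_b IH (LK LD1_c5 LD2_c47 LD3_c38) (LK LD1_c11 LD2_c25 LD3_c8) Lrfl Lrfl
theorem f711800 : Led Lsl_bf (LP (LK LD1_c5 LD2_c51 LD3_c40)) = (LP (LK LD1_c11 LD2_c29 LD3_c54)) :=
  Lgr Lrot61 (Lpe (f503421 IH) (Lpr_bt (f503412 IH) (Lpr_ft (f711798 IH) (Lpn (LP (LK LD1_c11 LD2_c29 LD3_c54))))))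
theorem f739505 : Led Lsl_at (LP (LK LD1_c10 LD2_c4 LD3_c60)) = (LP (LK LD1_c10 LD2_c18 LD3_c13)) :=
  Lgr Lrot67 (Lpr_bf (f720190 IH) (Lpr_af (K32.f503459 IH) (Lpr_bf (f711800 IH) (Lpr_af (f712160 IH) (Lpr_bf (f739464 IH) (Lpn (LP (LK LD1_c10 LD2_c18 LD3_c13))))))))
def v11818 : LQ := Led Lsl_et K35.v3897
theorem f686012 : Led Lsl_et K35.v3897 = v11818 :=
  Lrfl
theorem f686015 : Led Lsl_gf (LP (LK LD1_c10 LD2_c18 LD3_c13)) = v11818 :=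
  Lgr Lrot138 (Lpr_dt (K53.f615401 IH) (Lpr_gt (K53.f74761 IH) (Lpe (K41.f615395 IH) (Lpr_et (K17.f164394 IH) (Lpr_gt (K10.f59574 IH) (Lpe (K35.f164106 IH) (Lpe (K38.f164382 IH) (Lpr_gt (K49.f494346 IH) (Lpqs (K49.f535846 IH) (Lpr_df (K53.f627781 IH) (Lpr_et (f686012 IH) (Lpn v11818))))))))))))
theorem f744825 : Led Lsl_gf v11818 = v16016 :=
  Lgr Lrot47 (Lpe (f686015 IH) (Lpe (f739505 IH) (Lpr_ff (f744822 IH) (Lpn v16016))))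
theorem f686014 : Led Lsl_ef K35.v3897 = v11818 :=
  Lgr Lrot88 (Lpr_et (f686012 IH) (Lpn v11818))
theorem f686016 : Led Lsl_at (LP (LK LD1_c5 LD2_c51 LD3_c55)) = v11818 :=
  Lgr Lrot80 (Lpe (K41.f22378 IH) (Lpr_af (K35.f627780 IH) (Lpr_ef (f686014 IH) (Lpn v11818))))
theorem f744826 : Led Lsl_gt (LP (LK LD1_c11 LD2_c30 LD3_c61)) = v16016 :=
  Lgr Lrot5 (Lpr_ft (K49.f622569 IH) (Lpr_at (f686016 IH) (Lpr_gf (f744825 IH) (Lpn v16016))))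
theorem f744932 : Led Lsl_gt (LP (LK LD1_c10 LD2_c18 LD3_c13)) = (LP (LK LD1_c11 LD2_c30 LD3_c61)) :=
  Lgr Lrot5 (Lpr_ft (f744931 IH) (Lpe (f744926 IH) (Lpe (f744826 IH) (Lpn (LP (LK LD1_c11 LD2_c30 LD3_c61))))))
theorem f744933 : Led Lsl_gt (LP (LK LD1_c10 LD2_c18 LD3_c13)) = (LP (LK LD1_c11 LD2_c30 LD3_c61)) :=
  Leop (Lpe (f744932 IH) (Lpn (LP (LK LD1_c10 LD2_c18 LD3_c13))))
theorem seed_967 : LEOK LG_g (LK LD1_c10 LD2_c18 LD3_c13) :=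
  Leoe_g (LK LD1_c10 LD2_c18 LD3_c13) (f744933 IH)
def v16048 : LQ := Led Lsl_gf (LP (LK LD1_c5 LD2_c52 LD3_c2))
theorem f744986 : Led Lsl_gf (LP (LK LD1_c5 LD2_c52 LD3_c2)) = v16048 :=
  Lrfl
theorem f151973 : Led Lsl_ct (LP (LK LD1_c2 LD2_c52 LD3_c19)) = (LP (LK LD1_c5 LD2_c52 LD3_c2)) :=
  Lre_c IH (LK LD1_c2 LD2_c52 LD3_c19) (LK LD1_c5 LD2_c52 LD3_c2) Lrfl Lrfl
theorem f156542 : Led Lsl_ct (LP (LK LD1_c5 LD2_c52 LD3_c2)) = (LP (LK LD1_c2 LD2_c52 LD3_c19)) :=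
  Lre_c IH (LK LD1_c5 LD2_c52 LD3_c2) (LK LD1_c2 LD2_c52 LD3_c19) Lrfl Lrfl
theorem f539979 : Led Lsl_ff (LP (LK LD1_c5 LD2_c53 LD3_c38)) = (LP (LK LD1_c9 LD2_c8 LD3_c7)) :=
  Lgr Lrot3 (Lpr_ft (K36.f539972 IH) (Lpn (LP (LK LD1_c9 LD2_c8 LD3_c7))))
theorem f595981 : Led Lsl_at (LP (LK LD1_c5 LD2_c53 LD3_c38)) = (LP (LK LD1_c2 LD2_c57 LD3_c51)) :=
  Lgr Lrot26 (Lpr_ff (f539979 IH) (Lpr_gt (K46.f595979 IH) (Lpr_gt (K46.f175375 IH) (Lpn (LP (LK LD1_c2 LD2_c57 LD3_c51))))))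
theorem f599487 : Led Lsl_bf (LP (LK LD1_c4 LD2_c37 LD3_c39)) = (LP (LK LD1_c2 LD2_c16 LD3_c36)) :=
  Lgr Lrot81 (Lpe (K45.f570283 IH) (Lpe (K45.f580557 IH) (Lpr_at (f595981 IH) (Lpr_bt (K41.f210950 IH) (Lpr_at (K35.f268235 IH) (Lpn (LP (LK LD1_c2 LD2_c16 LD3_c36))))))))
theorem f599489 : Led Lsl_bt (LP (LK LD1_c9 LD2_c10 LD3_c56)) = (LP (LK LD1_c4 LD2_c39 LD3_c15)) :=
  Lgr Lrot119 (Lpe (K42.f570291 IH) (Lpr_bf (f599487 IH) (Lpe (K36.f175912 IH) (Lpn (LP (LK LD1_c4 LD2_c39 LD3_c15))))))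
theorem f570300 : Led Lsl_ft (LP (LK LD1_c17 LD2_c4 LD3_c5)) = (LP (LK LD1_c9 LD2_c10 LD3_c56)) :=
  Lre_f IH (LK LD1_c17 LD2_c4 LD3_c5) (LK LD1_c9 LD2_c10 LD3_c56) Lrfl Lrfl
theorem f599497 : Led Lsl_bf (LP (LK LD1_c17 LD2_c4 LD3_c5)) = (LP (LK LD1_c9 LD2_c14 LD3_c9)) :=
  Lgr Lrot61 (Lpr_ft (f570300 IH) (Lpr_bt (f599489 IH) (Lpr_ft (K49.f176039 IH) (Lpn (LP (LK LD1_c9 LD2_c14 LD3_c9))))))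
theorem f599503 : Led Lsl_et (LP (LK LD1_c17 LD2_c4 LD3_c5)) = (LP (LK LD1_c9 LD2_c10 LD3_c49)) :=
  Lre_e IH (LK LD1_c17 LD2_c4 LD3_c5) (LK LD1_c9 LD2_c10 LD3_c49) Lrfl Lrfl
theorem f599504 : Led Lsl_bt (LP (LK LD1_c9 LD2_c10 LD3_c49)) = (LP (LK LD1_c6 LD2_c3 LD3_c40)) :=
  Lgr Lrot119 (Lpe (f599503 IH) (Lpr_bf (f599497 IH) (Lpe (K49.f412402 IH) (Lpn (LP (LK LD1_c6 LD2_c3 LD3_c40))))))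
theorem f599509 : Led Lsl_dt (LP (LK LD1_c4 LD2_c37 LD3_c35)) = (LP (LK LD1_c9 LD2_c10 LD3_c49)) :=
  Lre_d IH (LK LD1_c4 LD2_c37 LD3_c35) (LK LD1_c9 LD2_c10 LD3_c49) Lrfl Lrfl
theorem f599510 : Led Lsl_bt (LP (LK LD1_c9 LD2_c10 LD3_c26)) = (LP (LK LD1_c4 LD2_c37 LD3_c35)) :=
  Lre_b IH (LK LD1_c9 LD2_c10 LD3_c26) (LK LD1_c4 LD2_c37 LD3_c35) Lrfl Lrfl
theorem f599511 : Led Lsl_df (LP (LK LD1_c9 LD2_c10 LD3_c26)) = (LP (LK LD1_c6 LD2_c3 LD3_c40)) :=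
  Lgr Lrot12 (Lpr_bt (f599510 IH) (Lpr_dt (f599509 IH) (Lpr_bt (f599504 IH) (Lpn (LP (LK LD1_c6 LD2_c3 LD3_c40))))))
theorem f599513 : Led Lsl_ft (LP (LK LD1_c4 LD2_c37 LD3_c34)) = (LP (LK LD1_c9 LD2_c10 LD3_c49)) :=
  Lre_f IH (LK LD1_c4 LD2_c37 LD3_c34) (LK LD1_c9 LD2_c10 LD3_c49) Lrfl Lrfl
theorem f599514 : Led Lsl_bf (LP (LK LD1_c4 LD2_c37 LD3_c34)) = (LP (LK LD1_c2 LD2_c57 LD3_c57)) :=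
  Lgr Lrot61 (Lpr_ft (f599513 IH) (Lpr_bt (f599504 IH) (Lpr_ft (K49.f268357 IH) (Lpn (LP (LK LD1_c2 LD2_c57 LD3_c57))))))
theorem f206827 : Led Lsl_dt (LP (LK LD1_c4 LD2_c37 LD3_c34)) = (LP (LK LD1_c2 LD2_c15 LD3_c59)) :=
  Lre_d IH (LK LD1_c4 LD2_c37 LD3_c34) (LK LD1_c2 LD2_c15 LD3_c59) Lrfl Lrfl
theorem f599518 : Led Lsl_bt (LP (LK LD1_c2 LD2_c15 LD3_c59)) = (LP (LK LD1_c4 LD2_c37 LD3_c24)) :=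
  Lre_b IH (LK LD1_c2 LD2_c15 LD3_c59) (LK LD1_c4 LD2_c37 LD3_c24) Lrfl Lrfl
theorem f599519 : Led Lsl_dt (LP (LK LD1_c4 LD2_c37 LD3_c24)) = (LP (LK LD1_c2 LD2_c57 LD3_c57)) :=
  Lgr Lrot79 (Lpe (f599518 IH) (Lpe (f206827 IH) (Lpr_bf (f599514 IH) (Lpn (LP (LK LD1_c2 LD2_c57 LD3_c57))))))
theorem f599522 : Led Lsl_df (LP (LK LD1_c4 LD2_c37 LD3_c24)) = (LP (LK LD1_c2 LD2_c57 LD3_c57)) :=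
  Lgr Lrot38 (Lpr_dt (f599519 IH) (Lpn (LP (LK LD1_c2 LD2_c57 LD3_c57))))
theorem f599527 : Led Lsl_at (LP (LK LD1_c4 LD2_c37 LD3_c24)) = (LP (LK LD1_c5 LD2_c50 LD3_c43)) :=
  Lgr Lrot51 (Lpr_df (f599522 IH) (Lpr_af (K49.f268337 IH) (Lpe (K35.f494555 IH) (Lpn (LP (LK LD1_c5 LD2_c50 LD3_c43))))))
theorem f599524 : Led Lsl_ft (LP (LK LD1_c9 LD2_c10 LD3_c26)) = (LP (LK LD1_c4 LD2_c37 LD3_c24)) :=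
  Lre_f IH (LK LD1_c9 LD2_c10 LD3_c26) (LK LD1_c4 LD2_c37 LD3_c24) Lrfl Lrfl
theorem f494543 : Led Lsl_gt (LP (LK LD1_c11 LD2_c29 LD3_c10)) = (LP (LK LD1_c5 LD2_c50 LD3_c43)) :=
  Lre_g IH (LK LD1_c11 LD2_c29 LD3_c10) (LK LD1_c5 LD2_c50 LD3_c43) Lrfl Lrfl
theorem f599557 : Led Lsl_gt (LP (LK LD1_c9 LD2_c10 LD3_c26)) = (LP (LK LD1_c11 LD2_c29 LD3_c10)) :=
  Lgr Lrot5 (Lpr_ft (f599524 IH) (Lpr_at (f599527 IH) (Lpe (f494543 IH) (Lpn (LP (LK LD1_c11 LD2_c29 LD3_c10))))))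
theorem f744988 : Led Lsl_ct (LP (LK LD1_c11 LD2_c29 LD3_c10)) = v16048 :=
  Lgr Lrot152 (Lpe (f599557 IH) (Lpr_df (f599511 IH) (Lpr_gt (K49.f268365 IH) (Lpr_ct (K52.f268367 IH) (Lpe (K52.f494592 IH) (Lpr_ct (K52.f494594 IH) (Lpe (K49.f599765 IH) (Lpe (f156542 IH) (Lpr_gf (f744986 IH) (Lpn v16048))))))))))
theorem f744989 : Led Lsl_bf (LP (LK LD1_c5 LD2_c58 LD3_c54)) = (LP (LK LD1_c11 LD2_c29 LD3_c10)) :=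
  Lgr Lrot34 (Lpe (K52.f425998 IH) (Lpe (K24.f425983 IH) (Lpe (K52.f426778 IH) (Lpr_gf (K52.f426767 IH) (Lpr_cf (K52.f643598 IH) (Lpe (K7.f151715 IH) (Lpr_bf (K45.f151901 IH) (Lpr_ct (f151973 IH) (Lpr_gf (f744986 IH) (Lpe (f744988 IH) (Lpn (LP (LK LD1_c11 LD2_c29 LD3_c10)))))))))))))
theorem f744990 : Led Lsl_bt (LP (LK LD1_c11 LD2_c29 LD3_c10)) = (LP (LK LD1_c5 LD2_c58 LD3_c54)) :=
  Leop (Lpr_bf (f744989 IH) (Lpn (LP (LK LD1_c11 LD2_c29 LD3_c10))))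
theorem seed_968 : LEOK LG_b (LK LD1_c11 LD2_c29 LD3_c10) :=
  Leoe_b (LK LD1_c11 LD2_c29 LD3_c10) (f744990 IH)
theorem f745022 : Led Lsl_cf (LP (LK LD1_c11 LD2_c29 LD3_c10)) = v16048 :=
  Lgr Lrot11 (Lpr_ct (f744988 IH) (Lpn v16048))
theorem f209392 : Led Lsl_et (LP (LK LD1_c14 LD2_c4 LD3_c47)) = (LP (LK LD1_c7 LD2_c27 LD3_c9)) :=
  Lre_e IH (LK LD1_c14 LD2_c4 LD3_c47) (LK LD1_c7 LD2_c27 LD3_c9) Lrfl Lrfl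
theorem f210797 : Led Lsl_et (LP (LK LD1_c5 LD2_c43 LD3_c8)) = (LP (LK LD1_c11 LD2_c16 LD3_c31)) :=
  Lre_e IH (LK LD1_c5 LD2_c43 LD3_c8) (LK LD1_c11 LD2_c16 LD3_c31) Lrfl Lrfl
theorem f540136 : Led Lsl_bf (LP (LK LD1_c14 LD2_c4 LD3_c47)) = (LP (LK LD1_c11 LD2_c16 LD3_c31)) :=
  Lgr Lrot96 (Lpr_et (f209392 IH) (Lpr_bt (K36.f540130 IH) (Lpr_et (f210797 IH) (Lpn (LP (LK LD1_c11 LD2_c16 LD3_c31))))))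
theorem f22681 : Led Lsl_at (LP (LK LD1_c2 LD2_c52 LD3_c29)) = (LP (LK LD1_c5 LD2_c52 LD3_c2)) :=
  Lre_a IH (LK LD1_c2 LD2_c52 LD3_c29) (LK LD1_c5 LD2_c52 LD3_c2) Lrfl Lrfl
theorem f744987 : Led Lsl_gt (LP (LK LD1_c5 LD2_c52 LD3_c22)) = v16048 :=
  Lgr Lrot5 (Lpr_ft (K8.f22574 IH) (Lpr_at (f22681 IH) (Lpr_gf (f744986 IH) (Lpn v16048))))
theorem f22549 : Led Lsl_ct (LP (LK LD1_c3 LD2_c14 LD3_c16)) = (LP (LK LD1_c1 LD2_c33 LD3_c42)) :=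
  Lre_c IH (LK LD1_c3 LD2_c14 LD3_c16) (LK LD1_c1 LD2_c33 LD3_c42) Lrfl Lrfl
theorem f506875 : Led Lsl_ct (LP (LK LD1_c6 LD2_c31 LD3_c15)) = (LP (LK LD1_c3 LD2_c13 LD3_c50)) :=
  Lre_c IH (LK LD1_c6 LD2_c31 LD3_c15) (LK LD1_c3 LD2_c13 LD3_c50) Lrfl Lrfl
theorem f506876 : Led Lsl_bt (LP (LK LD1_c6 LD2_c31 LD3_c15)) = (LP (LK LD1_c12 LD2_c31 LD3_c2)) :=
  Lre_b IH (LK LD1_c6 LD2_c31 LD3_c15) (LK LD1_c12 LD2_c31 LD3_c2) Lrfl Lrfl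
theorem f745023 : Led Lsl_gt (LP (LK LD1_c14 LD2_c4 LD3_c47)) = (LP (LK LD1_c12 LD2_c31 LD3_c2)) :=
  Lgr Lrot164 (Lpr_bf (f540136 IH) (Lpe (K53.f494550 IH) (Lpe (f494543 IH) (Lpr_cf (f745022 IH) (Lpe (f744987 IH) (Lpe (K8.f22565 IH) (Lpr_ct (f22549 IH) (Lpe (K32.f506873 IH) (Lpe (f506875 IH) (Lpr_bt (f506876 IH) (Lpn (LP (LK LD1_c12 LD2_c31 LD3_c2)))))))))))))
theorem f745024 : Led Lsl_gt (LP (LK LD1_c14 LD2_c4 LD3_c47)) = (LP (LK LD1_c12 LD2_c31 LD3_c2)) :=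
  Leop (Lpe (f745023 IH) (Lpn (LP (LK LD1_c14 LD2_c4 LD3_c47))))
theorem seed_969 : LEOK LG_g (LK LD1_c14 LD2_c4 LD3_c47) :=
  Leoe_g (LK LD1_c14 LD2_c4 LD3_c47) (f745024 IH)
def v16056 : LQ := Led Lsl_et (LP (LK LD1_c5 LD2_c52 LD3_c4))
theorem f745052 : Led Lsl_et (LP (LK LD1_c5 LD2_c52 LD3_c4)) = v16056 :=
  Lrfl
theorem f745053 : Led Lsl_ef (LP (LK LD1_c5 LD2_c52 LD3_c4)) = v16056 :=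
  Lgr Lrot88 (Lpr_et (f745052 IH) (Lpn v16056))
theorem f151982 : Led Lsl_gt (LP (LK LD1_c5 LD2_c52 LD3_c4)) = (LP (LK LD1_c2 LD2_c52 LD3_c19)) :=
  Lre_g IH (LK LD1_c5 LD2_c52 LD3_c4) (LK LD1_c2 LD2_c52 LD3_c19) Lrfl Lrfl
theorem f152002 : Led Lsl_et (LP (LK LD1_c1 LD2_c22 LD3_c15)) = (LP (LK LD1_c2 LD2_c52 LD3_c19)) :=
  Lre_e IH (LK LD1_c1 LD2_c22 LD3_c15) (LK LD1_c2 LD2_c52 LD3_c19) Lrfl Lrfl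
theorem f152001 : Led Lsl_dt (LP (LK LD1_c1 LD2_c22 LD3_c15)) = (LP (LK LD1_c0 LD2_c38 LD3_c7)) :=
  Lre_d IH (LK LD1_c1 LD2_c22 LD3_c15) (LK LD1_c0 LD2_c38 LD3_c7) Lrfl Lrfl
theorem f424548 : Led Lsl_gt (LP (LK LD1_c0 LD2_c38 LD3_c7)) = (LP (LK LD1_c1 LD2_c4 LD3_c16)) :=
  Lgr Lrot46 (Lpe (K7.f151997 IH) (Lpr_ft (K8.f163558 IH) (Lpr_at (K39.f424517 IH) (Lpn (LP (LK LD1_c1 LD2_c4 LD3_c16))))))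
theorem f203177 : Led Lsl_et (LP (LK LD1_c2 LD2_c13 LD3_c53)) = (LP (LK LD1_c4 LD2_c33 LD3_c60)) :=
  Lre_e IH (LK LD1_c2 LD2_c13 LD3_c53) (LK LD1_c4 LD2_c33 LD3_c60) Lrfl Lrfl
theorem f633880 : Led Lsl_gt (LP (LK LD1_c5 LD2_c0 LD3_c11)) = (LP (LK LD1_c9 LD2_c50 LD3_c55)) :=
  Lre_g IH (LK LD1_c5 LD2_c0 LD3_c11) (LK LD1_c9 LD2_c50 LD3_c55) Lrfl Lrfl
theorem f745054 : Led Lsl_df (LP (LK LD1_c9 LD2_c50 LD3_c55)) = v16056 :=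
  Lgr Lrot132 (Lpe (f633880 IH) (Lpe (K53.f633877 IH) (Lpqs (K51.f707130 IH) (Lpe (K51.f698829 IH) (Lpe (f203177 IH) (Lpr_dt (K38.f424521 IH) (Lpe (f424548 IH) (Lpe (f152001 IH) (Lpr_et (f152002 IH) (Lpe (f151982 IH) (Lpr_ef (f745053 IH) (Lpn v16056))))))))))))
theorem f745055 : Led Lsl_dt (LP (LK LD1_c9 LD2_c50 LD3_c55)) = v16056 :=
  Lgr Lrot42 (Lpr_df (f745054 IH) (Lpn v16056))
def v14166 : LQ := Led Lsl_et (LP (LK LD1_c5 LD2_c0 LD3_c11))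
theorem f720594 : Led Lsl_et (LP (LK LD1_c5 LD2_c0 LD3_c11)) = v14166 :=
  Lrfl
theorem f720596 : Led Lsl_ef (LP (LK LD1_c5 LD2_c0 LD3_c11)) = v14166 :=
  Lgr Lrot88 (Lpr_et (f720594 IH) (Lpn v14166))
def v14396 : LQ := Led Lsl_et (LP (LK LD1_c5 LD2_c8 LD3_c15))
theorem f722329 : Led Lsl_et (LP (LK LD1_c5 LD2_c8 LD3_c15)) = v14396 :=
  Lrfl
theorem f722332 : Led Lsl_ef (LP (LK LD1_c5 LD2_c8 LD3_c15)) = v14396 :=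
  Lgr Lrot88 (Lpr_et (f722329 IH) (Lpn v14396))
theorem f722336 : Led Lsl_dt v14166 = v14396 :=
  Lgr Lrot77 (Lpe (f720594 IH) (Lpe (K53.f633877 IH) (Lpe (K51.f633893 IH) (Lpr_df (K51.f691624 IH) (Lpq (K51.f707151 IH) (Lpr_ef (f722332 IH) (Lpn v14396)))))))
theorem f707160 : Led Lsl_at (LP (LK LD1_c9 LD2_c50 LD3_c58)) = (LP (LK LD1_c10 LD2_c6 LD3_c61)) :=
  Lgr Lrot100 (Lpr_af (K54.f707158 IH) (Lpn (LP (LK LD1_c10 LD2_c6 LD3_c61))))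
def v12921 : LQ := Led Lsl_et (LP (LK LD1_c4 LD2_c34 LD3_c37))
theorem f699602 : Led Lsl_et (LP (LK LD1_c4 LD2_c34 LD3_c37)) = v12921 :=
  Lrfl
theorem f627793 : Led Lsl_dt (LP (LK LD1_c4 LD2_c34 LD3_c37)) = K35.v3898 :=
  Lgr Lrot60 (Lpr_ff (K49.f622914 IH) (Lpe (K35.f500021 IH) (Lpr_ff (K35.f627791 IH) (Lpn K35.v3898))))
def v11819 : LQ := Led Lsl_gf K35.v3898
theorem f686017 : Led Lsl_gf K35.v3898 = v11819 :=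
  Lrfl
theorem f508258 : Led Lsl_cf (LP (LK LD1_c5 LD2_c55 LD3_c15)) = (LP (LK LD1_c3 LD2_c3 LD3_c2)) :=
  Lgr Lrot14 (Lpr_df (K35.f508153 IH) (Lpe (K35.f27078 IH) (Lpe (K11.f26933 IH) (Lpe (K11.f27064 IH) (Lpr_ct (K35.f27083 IH) (Lpr_gt (K32.f20101 IH) (Lpr_dt (K32.f20123 IH) (Lpr_gt (K24.f20124 IH) (Lpr_dt (K29.f416807 IH) (Lpn (LP (LK LD1_c3 LD2_c3 LD3_c2))))))))))))
theorem f627797 : Led Lsl_df (LP (LK LD1_c4 LD2_c34 LD3_c37)) = K35.v3898 :=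
  Lgr Lrot155 (Lpr_gt (K31.f58951 IH) (Lpr_ct (K50.f79852 IH) (Lpr_gt (K41.f614575 IH) (Lpe (K42.f614621 IH) (Lpe (K35.f508153 IH) (Lpr_cf (f508258 IH) (Lpe (K24.f24636 IH) (Lpe (K35.f24637 IH) (Lpr_gf (K35.f627795 IH) (Lpn K35.v3898))))))))))
theorem f58949 : Led Lsl_et (LP (LK LD1_c1 LD2_c4 LD3_c11)) = (LP (LK LD1_c0 LD2_c29 LD3_c19)) :=
  Lre_e IH (LK LD1_c1 LD2_c4 LD3_c11) (LK LD1_c0 LD2_c29 LD3_c19) Lrfl Lrfl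
theorem f686022 : Led Lsl_et (LP (LK LD1_c4 LD2_c57 LD3_c53)) = v11819 :=
  Lgr Lrot121 (Lpr_dt (K51.f58954 IH) (Lpe (K32.f58953 IH) (Lpe (K2.f40940 IH) (Lpr_et (K32.f40953 IH) (Lpe (K1.f58933 IH) (Lpe (f58949 IH) (Lpr_dt (K41.f58950 IH) (Lpe (K31.f58951 IH) (Lpr_df (f627797 IH) (Lpr_gf (f686017 IH) (Lpn v11819)))))))))))
theorem f686025 : Led Lsl_ef (LP (LK LD1_c4 LD2_c57 LD3_c53)) = v11819 :=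
  Lgr Lrot88 (Lpr_et (f686022 IH) (Lpn v11819))
theorem f504377 : Led Lsl_ft (LP (LK LD1_c6 LD2_c21 LD3_c40)) = (LP (LK LD1_c5 LD2_c50 LD3_c33)) :=
  Lgr Lrot48 (Lpr_ff (K35.f504375 IH) (Lpn (LP (LK LD1_c5 LD2_c50 LD3_c33))))
theorem f504381 : Led Lsl_af (LP (LK LD1_c6 LD2_c21 LD3_c41)) = (LP (LK LD1_c5 LD2_c50 LD3_c33)) :=
  Lgr Lrot45 (Lpr_ft (K35.f504379 IH) (Lpe (K35.f504373 IH) (Lpr_ft (f504377 IH) (Lpn (LP (LK LD1_c5 LD2_c50 LD3_c33))))))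
theorem f640792 : Led Lsl_ef (LP (LK LD1_c5 LD2_c50 LD3_c33)) = K41.v4900 :=
  Lgr Lrot20 (Lpe (f504381 IH) (Lpr_et (K41.f615357 IH) (Lpr_at (K41.f640785 IH) (Lpn K41.v4900))))
theorem f686027 : Led Lsl_dt (LP (LK LD1_c5 LD2_c50 LD3_c33)) = v11819 :=
  Lgr Lrot77 (Lpr_ef (f640792 IH) (Lpe (K41.f640777 IH) (Lpe (K41.f415708 IH) (Lpe (K51.f58954 IH) (Lpr_ef (f686025 IH) (Lpn v11819))))))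
theorem f640822 : Led Lsl_et (LP (LK LD1_c5 LD2_c50 LD3_c33)) = K41.v4900 :=
  Lgr Lrot87 (Lpr_ef (f640792 IH) (Lpn K41.v4900))
theorem f699606 : Led Lsl_gf (LP (LK LD1_c10 LD2_c6 LD3_c61)) = v12921 :=
  Lgr Lrot138 (Lpr_dt (f186681 IH) (Lpe (K51.f408440 IH) (Lpr_df (K51.f615387 IH) (Lpr_et (K41.f496463 IH) (Lpr_gt (K41.f640776 IH) (Lpe (f640822 IH) (Lpr_dt (f686027 IH) (Lpe (f686017 IH) (Lpe (f627793 IH) (Lpr_et (f699602 IH) (Lpn v12921)))))))))))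
theorem f707166 : Led Lsl_gt (LP (LK LD1_c5 LD2_c0 LD3_c12)) = v12921 :=
  Lgr Lrot5 (Lpr_ft (K54.f633888 IH) (Lpr_at (f707160 IH) (Lpr_gf (f699606 IH) (Lpn v12921))))
theorem f699605 : Led Lsl_ef (LP (LK LD1_c4 LD2_c34 LD3_c37)) = v12921 :=
  Lgr Lrot88 (Lpr_et (f699602 IH) (Lpn v12921))
theorem f627790 : Led Lsl_ef K35.v1113 = K35.v3898 :=
  Lgr Lrot88 (Lpr_et (K35.f627787 IH) (Lpn K35.v3898))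
theorem f699608 : Led Lsl_dt v11818 = v12921 :=
  Lgr Lrot77 (Lpe (f686012 IH) (Lpe (K35.f627779 IH) (Lpr_ef (f627790 IH) (Lpe (f627793 IH) (Lpr_ef (f699605 IH) (Lpn v12921))))))
theorem f58952 : Led Lsl_et (LP (LK LD1_c0 LD2_c29 LD3_c26)) = (LP (LK LD1_c1 LD2_c4 LD3_c19)) :=
  Lre_e IH (LK LD1_c0 LD2_c29 LD3_c26) (LK LD1_c1 LD2_c4 LD3_c19) Lrfl Lrfl
theorem f669022 : Led Lsl_gt K35.v3897 = K48.v7929 :=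
  Lgr Lrot139 (Lpe (K35.f627779 IH) (Lpq (K49.f535846 IH) (Lpe (K49.f494346 IH) (Lpe (f58952 IH) (Lpr_dt (K1.f20541 IH) (Lpe (K1.f37314 IH) (Lpe (K1.f8333 IH) (Lpr_et (K2.f58906 IH) (Lpe (K32.f40955 IH) (Lpr_ef (K48.f495312 IH) (Lpr_dt (K48.f669018 IH) (Lpn K48.v7929))))))))))))
theorem f636258 : Led Lsl_gt K48.v1391 = K50.v4584 :=
  Lgr Lrot131 (Lpe (K48.f495310 IH) (Lpr_dt (K46.f40958 IH) (Lpr_gf (K46.f454869 IH) (Lpr_df (K24.f140728 IH) (Lpe (K32.f454866 IH) (Lpe (K49.f413496 IH) (Lpr_dt (K24.f413465 IH) (Lpe (K24.f413513 IH) (Lpe (K50.f416788 IH) (Lpr_et (K53.f636256 IH) (Lpn K50.v4584)))))))))))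
theorem f722333 : Led Lsl_gt (LP (LK LD1_c5 LD2_c8 LD3_c22)) = v14396 :=
  Lgr Lrot131 (Lpe (K53.f622458 IH) (Lpr_dt (K50.f636252 IH) (Lpe (f636258 IH) (Lpr_df (K53.f669020 IH) (Lpe (f669022 IH) (Lpr_ef (f686014 IH) (Lpr_dt (f699608 IH) (Lpe (f707166 IH) (Lpr_df (K51.f691624 IH) (Lpq (K51.f707151 IH) (Lpr_et (f722329 IH) (Lpn v14396))))))))))))
theorem f622332 : Led Lsl_ef (LP (LK LD1_c6 LD2_c12 LD3_c30)) = (LP (LK LD1_c5 LD2_c40 LD3_c12)) :=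
  Lgr Lrot88 (Lpr_et (K50.f622324 IH) (Lpn (LP (LK LD1_c5 LD2_c40 LD3_c12))))
theorem f745056 : Led Lsl_gf (LP (LK LD1_c11 LD2_c28 LD3_c61)) = v16056 :=
  Lgr Lrot134 (Lpe (K51.f139905 IH) (Lpr_et (K51.f139915 IH) (Lpr_gt (K24.f413974 IH) (Lpr_ef (f622332 IH) (Lpr_dt (K50.f622456 IH) (Lpr_gt (f722333 IH) (Lpe (f722336 IH) (Lpe (f720596 IH) (Lpr_gt (f633880 IH) (Lpr_dt (f745055 IH) (Lpn v16056)))))))))))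
theorem f416792 : Led Lsl_gt (LP (LK LD1_c6 LD2_c46 LD3_c43)) = (LP (LK LD1_c12 LD2_c56 LD3_c43)) :=
  Lre_g IH (LK LD1_c6 LD2_c46 LD3_c43) (LK LD1_c12 LD2_c56 LD3_c43) Lrfl Lrfl
theorem f745057 : Led Lsl_et (LP (LK LD1_c9 LD2_c50 LD3_c55)) = (LP (LK LD1_c12 LD2_c56 LD3_c43)) :=
  Lgr Lrot122 (Lpr_dt (f745055 IH) (Lpe (f745056 IH) (Lpe (K51.f139905 IH) (Lpr_et (K51.f139915 IH) (Lpr_gt (K24.f413974 IH) (Lpe (K24.f416783 IH) (Lpr_gt (K24.f23212 IH) (Lpe (K16.f23198 IH) (Lpr_et (K24.f415035 IH) (Lpr_gt (f416792 IH) (Lpn (LP (LK LD1_c12 LD2_c56 LD3_c43)))))))))))))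
theorem f745058 : Led Lsl_et (LP (LK LD1_c9 LD2_c50 LD3_c55)) = (LP (LK LD1_c12 LD2_c56 LD3_c43)) :=
  Leop (Lpe (f745057 IH) (Lpn (LP (LK LD1_c9 LD2_c50 LD3_c55))))
theorem seed_970 : LEOK LG_e (LK LD1_c9 LD2_c50 LD3_c55) :=
  Leoe_e (LK LD1_c9 LD2_c50 LD3_c55) (f745058 IH)
def v16062 : LQ := Led Lsl_ct (LP (LK LD1_c5 LD2_c52 LD3_c13))
theorem f745097 : Led Lsl_ct (LP (LK LD1_c5 LD2_c52 LD3_c13)) = v16062 :=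
  Lrfl
def v14607 : LQ := Led Lsl_ct (LP (LK LD1_c5 LD2_c14 LD3_c41))
theorem f723985 : Led Lsl_ct (LP (LK LD1_c5 LD2_c14 LD3_c41)) = v14607 :=
  Lrfl
theorem f714454 : Led Lsl_ct (LP (LK LD1_c10 LD2_c0 LD3_c23)) = (LP (LK LD1_c5 LD2_c8 LD3_c14)) :=
  Lgr Lrot59 (Lpr_cf (K52.f714446 IH) (Lpn (LP (LK LD1_c5 LD2_c8 LD3_c14))))
theorem f722323 : Led Lsl_cf (LP (LK LD1_c10 LD2_c14 LD3_c23)) = K54.v14395 :=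
  Lgr Lrot108 (Lpe (K52.f714440 IH) (Lpr_ct (f714454 IH) (Lpr_ft (K54.f722321 IH) (Lpn K54.v14395))))
theorem f739365 : (LP (LK LD1_c10 LD2_c14 LD3_c23)) = v14607 :=
  Lefun (Lecon (Lfl_cf (f722323 IH)) (K54.f739359 IH).symm) (f723985 IH)
def v4903 : LQ := Led Lsl_et (LP (LK LD1_c2 LD2_c52 LD3_c27))
theorem f640831 : Led Lsl_et (LP (LK LD1_c2 LD2_c52 LD3_c27)) = v4903 :=
  Lrfl
theorem f640833 : Led Lsl_cf (LP (LK LD1_c4 LD2_c34 LD3_c41)) = v4903 :=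
  Lgr Lrot39 (Lpr_et (K35.f20512 IH) (Lpq (K36.f537311 IH) (Lpe (K36.f506326 IH) (Lpr_et (f640831 IH) (Lpn v4903)))))
theorem f745100 : Led Lsl_gf v4903 = v16062 :=
  Lgr Lrot104 (Lpe (f640833 IH) (Lpe (K50.f20506 IH) (Lpe (K52.f185700 IH) (Lpe (K52.f185708 IH) (Lpqs (f739365 IH) (Lpe (f723985 IH) (Lpr_gf (K53.f408444 IH) (Lpr_df (f615383 IH) (Lpe (K53.f496501 IH) (Lpr_ct (f745097 IH) (Lpn v16062)))))))))))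
theorem f640834 : Led Lsl_ef (LP (LK LD1_c2 LD2_c52 LD3_c27)) = v4903 :=
  Lgr Lrot88 (Lpr_et (f640831 IH) (Lpn v4903))
theorem f640835 : Led Lsl_at v4879 = v4903 :=
  Lgr Lrot80 (Lpe (f640687 IH) (Lpq (K36.f540168 IH) (Lpe (K36.f527511 IH) (Lpr_ef (f640834 IH) (Lpn v4903)))))
def v15983 : LQ := Led Lsl_ct (LP (LK LD1_c5 LD2_c50 LD3_c47))
theorem f744520 : Led Lsl_ct (LP (LK LD1_c5 LD2_c50 LD3_c47)) = v15983 :=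
  Lrfl
theorem f22158 : Led Lsl_ft (LP (LK LD1_c2 LD2_c51 LD3_c35)) = (LP (LK LD1_c5 LD2_c50 LD3_c47)) :=
  Lre_f IH (LK LD1_c2 LD2_c51 LD3_c35) (LK LD1_c5 LD2_c50 LD3_c47) Lrfl Lrfl
theorem f744522 : Led Lsl_ff v4879 = v15983 :=
  Lgr Lrot23 (Lpe (f640688 IH) (Lpr_ft (f22158 IH) (Lpr_ct (f744520 IH) (Lpn v15983))))
theorem f745101 : Led Lsl_gt v15983 = v16062 :=
  Lgr Lrot5 (Lpe (f744522 IH) (Lpr_at (f640835 IH) (Lpr_gf (f745100 IH) (Lpn v16062))))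
theorem f560111 : Led Lsl_at (LP (LK LD1_c11 LD2_c38 LD3_c27)) = (LP (LK LD1_c11 LD2_c29 LD3_c8)) :=
  Lgr Lrot100 (Lpr_af (K50.f560107 IH) (Lpn (LP (LK LD1_c11 LD2_c29 LD3_c8))))
theorem f157086 : Led Lsl_ft (LP (LK LD1_c5 LD2_c56 LD3_c34)) = (LP (LK LD1_c11 LD2_c38 LD3_c27)) :=
  Lre_f IH (LK LD1_c5 LD2_c56 LD3_c34) (LK LD1_c11 LD2_c38 LD3_c27) Lrfl Lrfl
theorem f157089 : Led Lsl_gt (LP (LK LD1_c5 LD2_c56 LD3_c34)) = (LP (LK LD1_c11 LD2_c38 LD3_c25)) :=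
  Lre_g IH (LK LD1_c5 LD2_c56 LD3_c34) (LK LD1_c11 LD2_c38 LD3_c25) Lrfl Lrfl
theorem f618146 : Led Lsl_gt (LP (LK LD1_c11 LD2_c38 LD3_c25)) = (LP (LK LD1_c11 LD2_c29 LD3_c8)) :=
  Lgr Lrot46 (Lpe (f157089 IH) (Lpr_ft (f157086 IH) (Lpr_at (f560111 IH) (Lpn (LP (LK LD1_c11 LD2_c29 LD3_c8))))))
theorem f640726 : Led Lsl_bf (LP (LK LD1_c2 LD2_c52 LD3_c3)) = K52.v4887 :=
  Lgr Lrot24 (Lpr_bt (K52.f640725 IH) (Lpn K52.v4887))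
theorem f712156 : Led Lsl_af K52.v4887 = (LP (LK LD1_c5 LD2_c48 LD3_c2)) :=
  Lgr Lrot0 (Lpr_at (K52.f712154 IH) (Lpn (LP (LK LD1_c5 LD2_c48 LD3_c2))))
theorem f739456 : Led Lsl_bf (LP (LK LD1_c5 LD2_c48 LD3_c2)) = (LP (LK LD1_c5 LD2_c52 LD3_c13)) :=
  Lgr Lrot81 (Lpe (f712156 IH) (Lpe (f640726 IH) (Lpe (K32.f503419 IH) (Lpr_bt (f57637 IH) (Lpr_at (f739452 IH) (Lpn (LP (LK LD1_c5 LD2_c52 LD3_c13))))))))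
theorem f117185 : Led Lsl_gt (LP (LK LD1_c5 LD2_c48 LD3_c1)) = (LP (LK LD1_c11 LD2_c25 LD3_c37)) :=
  Lre_g IH (LK LD1_c5 LD2_c48 LD3_c1) (LK LD1_c11 LD2_c25 LD3_c37) Lrfl Lrfl
theorem f132380 : Led Lsl_gt (LP (LK LD1_c9 LD2_c5 LD3_c47)) = (LP (LK LD1_c16 LD2_c57 LD3_c36)) :=
  Lre_g IH (LK LD1_c9 LD2_c5 LD3_c47) (LK LD1_c16 LD2_c57 LD3_c36) Lrfl Lrfl
theorem f132381 : Led Lsl_gt (LP (LK LD1_c16 LD2_c57 LD3_c36)) = (LP (LK LD1_c11 LD2_c25 LD3_c36)) :=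
  Lgr Lrot46 (Lpe (f132380 IH) (Lpr_ft (K5.f117892 IH) (Lpr_at (K5.f132373 IH) (Lpn (LP (LK LD1_c11 LD2_c25 LD3_c36))))))
theorem f75984 : Led Lsl_bt (LP (LK LD1_c11 LD2_c43 LD3_c33)) = (LP (LK LD1_c5 LD2_c59 LD3_c30)) :=
  Lre_b IH (LK LD1_c11 LD2_c43 LD3_c33) (LK LD1_c5 LD2_c59 LD3_c30) Lrfl Lrfl
theorem f75985 : Led Lsl_bt (LP (LK LD1_c6 LD2_c8 LD3_c8)) = (LP (LK LD1_c11 LD2_c58 LD3_c17)) :=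
  Lre_b IH (LK LD1_c6 LD2_c8 LD3_c8) (LK LD1_c11 LD2_c58 LD3_c17) Lrfl Lrfl
theorem f75986 : Led Lsl_df (LP (LK LD1_c11 LD2_c43 LD3_c33)) = (LP (LK LD1_c11 LD2_c58 LD3_c17)) :=
  Lgr Lrot12 (Lpr_bt (f75984 IH) (Lpr_dt (K53.f75982 IH) (Lpr_bt (f75985 IH) (Lpn (LP (LK LD1_c11 LD2_c58 LD3_c17))))))
theorem f76004 : Led Lsl_ct (LP (LK LD1_c20 LD2_c44 LD3_c39)) = (LP (LK LD1_c11 LD2_c43 LD3_c33)) :=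
  Lre_c IH (LK LD1_c20 LD2_c44 LD3_c39) (LK LD1_c11 LD2_c43 LD3_c33) Lrfl Lrfl
theorem f714677 : Led Lsl_et (LP (LK LD1_c20 LD2_c44 LD3_c39)) = (LP (LK LD1_c11 LD2_c43 LD3_c31)) :=
  Lre_e IH (LK LD1_c20 LD2_c44 LD3_c39) (LK LD1_c11 LD2_c43 LD3_c31) Lrfl Lrfl
theorem f117216 : Led Lsl_gt (LP (LK LD1_c20 LD2_c23 LD3_c7)) = (LP (LK LD1_c11 LD2_c25 LD3_c39)) :=
  Lre_g IH (LK LD1_c20 LD2_c23 LD3_c7) (LK LD1_c11 LD2_c25 LD3_c39) Lrfl Lrfl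
theorem f714678 : Led Lsl_dt (LP (LK LD1_c20 LD2_c44 LD3_c39)) = (LP (LK LD1_c20 LD2_c23 LD3_c7)) :=
  Lgr Lrot136 (Lpr_et (f714677 IH) (Lpr_gf (K53.f713881 IH) (Lpe (K6.f109932 IH) (Lpr_dt (K40.f109917 IH) (Lpe (K6.f94630 IH) (Lpe (K36.f151605 IH) (Lpr_gf (K36.f151648 IH) (Lpe (K52.f117170 IH) (Lpr_dt (K4.f117177 IH) (Lpe (f117216 IH) (Lpn (LP (LK LD1_c20 LD2_c23 LD3_c7)))))))))))))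
theorem f714680 : Led Lsl_df (LP (LK LD1_c20 LD2_c44 LD3_c39)) = (LP (LK LD1_c20 LD2_c23 LD3_c7)) :=
  Lgr Lrot38 (Lpr_dt (f714678 IH) (Lpn (LP (LK LD1_c20 LD2_c23 LD3_c7))))
theorem f117212 : Led Lsl_dt (LP (LK LD1_c11 LD2_c25 LD3_c39)) = (LP (LK LD1_c5 LD2_c48 LD3_c1)) :=
  Lre_d IH (LK LD1_c11 LD2_c25 LD3_c39) (LK LD1_c5 LD2_c48 LD3_c1) Lrfl Lrfl
theorem f112229 : Led Lsl_dt (LP (LK LD1_c5 LD2_c51 LD3_c10)) = (LP (LK LD1_c11 LD2_c29 LD3_c49)) :=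
  Lre_d IH (LK LD1_c5 LD2_c51 LD3_c10) (LK LD1_c11 LD2_c29 LD3_c49) Lrfl Lrfl
theorem f117238 : Led Lsl_af (LP (LK LD1_c11 LD2_c25 LD3_c39)) = (LP (LK LD1_c11 LD2_c29 LD3_c49)) :=
  Lgr Lrot117 (Lpr_dt (f117212 IH) (Lpr_at (K4.f117228 IH) (Lpr_dt (f112229 IH) (Lpn (LP (LK LD1_c11 LD2_c29 LD3_c49))))))
theorem f112230 : Led Lsl_ft (LP (LK LD1_c20 LD2_c26 LD3_c59)) = (LP (LK LD1_c11 LD2_c29 LD3_c49)) :=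
  Lre_f IH (LK LD1_c20 LD2_c26 LD3_c59) (LK LD1_c11 LD2_c29 LD3_c49) Lrfl Lrfl
theorem f440845 : Led Lsl_gf (LP (LK LD1_c20 LD2_c23 LD3_c7)) = (LP (LK LD1_c20 LD2_c26 LD3_c59)) :=
  Lgr Lrot47 (Lpr_gt (f117216 IH) (Lpr_af (f117238 IH) (Lpe (f112230 IH) (Lpn (LP (LK LD1_c20 LD2_c26 LD3_c59))))))
theorem f117247 : Led Lsl_at (LP (LK LD1_c11 LD2_c25 LD3_c40)) = (LP (LK LD1_c11 LD2_c29 LD3_c50)) :=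
  Lgr Lrot100 (Lpr_af (K4.f117240 IH) (Lpn (LP (LK LD1_c11 LD2_c29 LD3_c50))))
theorem f440842 : Led Lsl_gt (LP (LK LD1_c11 LD2_c25 LD3_c37)) = (LP (LK LD1_c11 LD2_c29 LD3_c50)) :=
  Lgr Lrot46 (Lpe (f117185 IH) (Lpr_ft (K52.f117181 IH) (Lpr_at (f117247 IH) (Lpn (LP (LK LD1_c11 LD2_c29 LD3_c50))))))
theorem f738963 : Led Lsl_ct (LP (LK LD1_c16 LD2_c57 LD3_c36)) = (LP (LK LD1_c11 LD2_c25 LD3_c37)) :=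
  Lgr Lrot8 (Lpr_gt (f132381 IH) (Lpr_dt (K8.f132375 IH) (Lpr_gt (K54.f738959 IH) (Lpe (f75986 IH) (Lpe (f76004 IH) (Lpr_df (f714680 IH) (Lpr_gf (f440845 IH) (Lpe (K4.f112243 IH) (Lpe (f440842 IH) (Lpn (LP (LK LD1_c11 LD2_c25 LD3_c37))))))))))))
theorem f745102 : Led Lsl_bf (LP (LK LD1_c11 LD2_c38 LD3_c25)) = (LP (LK LD1_c16 LD2_c57 LD3_c36)) :=
  Lgr Lrot156 (Lpr_gt (f618146 IH) (Lpe (K50.f22172 IH) (Lpr_ct (f744520 IH) (Lpr_gt (f745101 IH) (Lpe (f745097 IH) (Lpe (f739456 IH) (Lpr_gt (K52.f64356 IH) (Lpr_ct (K52.f100326 IH) (Lpr_gt (f117185 IH) (Lpe (f738963 IH) (Lpn (LP (LK LD1_c16 LD2_c57 LD3_c36)))))))))))))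
theorem f745103 : Led Lsl_bt (LP (LK LD1_c16 LD2_c57 LD3_c36)) = (LP (LK LD1_c11 LD2_c38 LD3_c25)) :=
  Leop (Lpr_bf (f745102 IH) (Lpn (LP (LK LD1_c16 LD2_c57 LD3_c36))))
theorem seed_971 : LEOK LG_b (LK LD1_c16 LD2_c57 LD3_c36) :=
  Leoe_b (LK LD1_c16 LD2_c57 LD3_c36) (f745103 IH)
def v16073 : LQ := Led Lsl_gf (LP (LK LD1_c5 LD2_c52 LD3_c18))
theorem f745178 : Led Lsl_gf (LP (LK LD1_c5 LD2_c52 LD3_c18)) = v16073 :=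
  Lrfl
theorem f613764 : Led Lsl_ct (LP (LK LD1_c16 LD2_c51 LD3_c49)) = (LP (LK LD1_c14 LD2_c3 LD3_c61)) :=
  Lgr Lrot59 (Lpr_cf (f613759 IH) (Lpn (LP (LK LD1_c14 LD2_c3 LD3_c61))))
theorem f379987 : Led Lsl_bt (LP (LK LD1_c9 LD2_c1 LD3_c56)) = (LP (LK LD1_c16 LD2_c51 LD3_c49)) :=
  Lre_b IH (LK LD1_c9 LD2_c1 LD3_c56) (LK LD1_c16 LD2_c51 LD3_c49) Lrfl Lrfl
theorem f13296 : Led Lsl_ft (LP (LK LD1_c7 LD2_c29 LD3_c14)) = (LP (LK LD1_c14 LD2_c8 LD3_c2)) :=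
  Lre_f IH (LK LD1_c7 LD2_c29 LD3_c14) (LK LD1_c14 LD2_c8 LD3_c2) Lrfl Lrfl
theorem f13297 : Led Lsl_ft (LP (LK LD1_c13 LD2_c58 LD3_c41)) = (LP (LK LD1_c7 LD2_c23 LD3_c33)) :=
  Lre_f IH (LK LD1_c13 LD2_c58 LD3_c41) (LK LD1_c7 LD2_c23 LD3_c33) Lrfl Lrfl
theorem f206195 : Led Lsl_et (LP (LK LD1_c14 LD2_c8 LD3_c2)) = (LP (LK LD1_c13 LD2_c58 LD3_c41)) :=
  Lgr Lrot69 (Lpe (f13296 IH) (Lpe (K11.f13310 IH) (Lpr_ff (K54.f206191 IH) (Lpe (K11.f13311 IH) (Lpe (f13297 IH) (Lpn (LP (LK LD1_c13 LD2_c58 LD3_c41))))))))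
theorem f206197 : Led Lsl_ef (LP (LK LD1_c7 LD2_c29 LD3_c18)) = (LP (LK LD1_c7 LD2_c23 LD3_c36)) :=
  Lgr Lrot29 (Lpr_bt (K11.f12978 IH) (Lpr_et (f206195 IH) (Lpr_bt (K11.f12980 IH) (Lpn (LP (LK LD1_c7 LD2_c23 LD3_c36))))))
theorem f206299 : Led Lsl_et (LP (LK LD1_c1 LD2_c48 LD3_c47)) = (LP (LK LD1_c3 LD2_c43 LD3_c27)) :=
  Lre_e IH (LK LD1_c1 LD2_c48 LD3_c47) (LK LD1_c3 LD2_c43 LD3_c27) Lrfl Lrfl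
theorem f129197 : Led Lsl_et (LP (LK LD1_c3 LD2_c41 LD3_c30)) = (LP (LK LD1_c1 LD2_c47 LD3_c40)) :=
  Lre_e IH (LK LD1_c3 LD2_c41 LD3_c30) (LK LD1_c1 LD2_c47 LD3_c40) Lrfl Lrfl
theorem f206300 : Led Lsl_at (LP (LK LD1_c3 LD2_c43 LD3_c27)) = (LP (LK LD1_c3 LD2_c41 LD3_c30)) :=
  Lgr Lrot80 (Lpe (f206299 IH) (Lpr_af (K54.f206295 IH) (Lpe (f129197 IH) (Lpn (LP (LK LD1_c3 LD2_c41 LD3_c30))))))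
theorem f206306 : Led Lsl_ft (LP (LK LD1_c7 LD2_c27 LD3_c33)) = (LP (LK LD1_c3 LD2_c43 LD3_c27)) :=
  Lre_f IH (LK LD1_c7 LD2_c27 LD3_c33) (LK LD1_c3 LD2_c43 LD3_c27) Lrfl Lrfl
theorem f206205 : Led Lsl_ft (LP (LK LD1_c3 LD2_c41 LD3_c30)) = (LP (LK LD1_c7 LD2_c23 LD3_c36)) :=
  Lre_f IH (LK LD1_c3 LD2_c41 LD3_c30) (LK LD1_c7 LD2_c23 LD3_c36) Lrfl Lrfl
theorem f206307 : Led Lsl_af (LP (LK LD1_c7 LD2_c27 LD3_c33)) = (LP (LK LD1_c7 LD2_c23 LD3_c36)) :=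
  Lgr Lrot45 (Lpr_ft (f206306 IH) (Lpr_at (f206300 IH) (Lpr_ft (f206205 IH) (Lpn (LP (LK LD1_c7 LD2_c23 LD3_c36))))))
theorem f206313 : Led Lsl_at (LP (LK LD1_c7 LD2_c27 LD3_c33)) = (LP (LK LD1_c7 LD2_c23 LD3_c36)) :=
  Lgr Lrot100 (Lpr_af (f206307 IH) (Lpn (LP (LK LD1_c7 LD2_c23 LD3_c36))))
theorem f206378 : Led Lsl_et (LP (LK LD1_c6 LD2_c32 LD3_c4)) = (LP (LK LD1_c7 LD2_c27 LD3_c33)) :=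
  Lgr Lrot123 (Lpr_af (K54.f206365 IH) (Lpr_ef (f206197 IH) (Lpe (f206313 IH) (Lpn (LP (LK LD1_c7 LD2_c27 LD3_c33))))))
theorem f12991 : Led Lsl_ct (LP (LK LD1_c3 LD2_c41 LD3_c34)) = (LP (LK LD1_c7 LD2_c23 LD3_c36)) :=
  Lre_c IH (LK LD1_c3 LD2_c41 LD3_c34) (LK LD1_c7 LD2_c23 LD3_c36) Lrfl Lrfl
theorem f206315 : Led Lsl_ct (LP (LK LD1_c7 LD2_c27 LD3_c33)) = (LP (LK LD1_c7 LD2_c21 LD3_c35)) :=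
  Lgr Lrot111 (Lpr_af (f206307 IH) (Lpe (f12991 IH) (Lpe (K7.f12971 IH) (Lpn (LP (LK LD1_c7 LD2_c21 LD3_c35))))))
theorem f147652 : Led Lsl_et (LP (LK LD1_c7 LD2_c21 LD3_c35)) = (LP (LK LD1_c7 LD2_c26 LD3_c41)) :=
  Lgr Lrot87 (Lpr_ef (K7.f147645 IH) (Lpn (LP (LK LD1_c7 LD2_c26 LD3_c41))))
theorem f206392 : Led Lsl_cf (LP (LK LD1_c6 LD2_c32 LD3_c4)) = (LP (LK LD1_c7 LD2_c26 LD3_c41)) :=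
  Lgr Lrot39 (Lpr_et (f206378 IH) (Lpr_ct (f206315 IH) (Lpr_et (f147652 IH) (Lpn (LP (LK LD1_c7 LD2_c26 LD3_c41))))))
theorem f613766 : Led Lsl_cf (LP (LK LD1_c9 LD2_c1 LD3_c56)) = (LP (LK LD1_c11 LD2_c31 LD3_c21)) :=
  Lgr Lrot97 (Lpr_bt (f379987 IH) (Lpr_ct (f613764 IH) (Lpr_bt (f13202 IH) (Lpe (f206392 IH) (Lpr_bt (K54.f22649 IH) (Lpn (LP (LK LD1_c11 LD2_c31 LD3_c21))))))))
theorem f613769 : Led Lsl_ct (LP (LK LD1_c4 LD2_c32 LD3_c5)) = (LP (LK LD1_c5 LD2_c52 LD3_c18)) :=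
  Lgr Lrot40 (Lpe (K40.f379977 IH) (Lpr_cf (f613766 IH) (Lpe (K54.f22646 IH) (Lpn (LP (LK LD1_c5 LD2_c52 LD3_c18))))))
theorem f181457 : Led Lsl_dt (LP (LK LD1_c4 LD2_c32 LD3_c2)) = (LP (LK LD1_c2 LD2_c13 LD3_c2)) :=
  Lre_d IH (LK LD1_c4 LD2_c32 LD3_c2) (LK LD1_c2 LD2_c13 LD3_c2) Lrfl Lrfl
theorem f567556 : Led Lsl_et (LP (LK LD1_c4 LD2_c32 LD3_c2)) = (LP (LK LD1_c9 LD2_c1 LD3_c49)) :=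
  Lre_e IH (LK LD1_c4 LD2_c32 LD3_c2) (LK LD1_c9 LD2_c1 LD3_c49) Lrfl Lrfl
theorem f496093 : Led Lsl_et (LP (LK LD1_c2 LD2_c50 LD3_c20)) = (LP (LK LD1_c1 LD2_c21 LD3_c13)) :=
  Lre_e IH (LK LD1_c2 LD2_c50 LD3_c20) (LK LD1_c1 LD2_c21 LD3_c13) Lrfl Lrfl
theorem f567550 : Led Lsl_dt (LP (LK LD1_c5 LD2_c48 LD3_c32)) = (LP (LK LD1_c2 LD2_c50 LD3_c19)) :=
  Lre_d IH (LK LD1_c5 LD2_c48 LD3_c32) (LK LD1_c2 LD2_c50 LD3_c19) Lrfl Lrfl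
theorem f567561 : Led Lsl_et (LP (LK LD1_c5 LD2_c48 LD3_c32)) = (LP (LK LD1_c11 LD2_c26 LD3_c35)) :=
  Lre_e IH (LK LD1_c5 LD2_c48 LD3_c32) (LK LD1_c11 LD2_c26 LD3_c35) Lrfl Lrfl
theorem f568486 : Led Lsl_gt (LP (LK LD1_c9 LD2_c1 LD3_c49)) = (LP (LK LD1_c11 LD2_c26 LD3_c35)) :=
  Lgr Lrot131 (Lpe (f567556 IH) (Lpr_dt (f181457 IH) (Lpr_gf (K42.f568454 IH) (Lpe (K41.f567538 IH) (Lpe (K40.f210533 IH) (Lpe (f496093 IH) (Lpr_dt (K48.f57520 IH) (Lpe (K52.f57509 IH) (Lpe (f567550 IH) (Lpr_et (f567561 IH) (Lpn (LP (LK LD1_c11 LD2_c26 LD3_c35)))))))))))))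
theorem f380044 : Led Lsl_gt (LP (LK LD1_c16 LD2_c51 LD3_c48)) = (LP (LK LD1_c9 LD2_c1 LD3_c49)) :=
  Lre_g IH (LK LD1_c16 LD2_c51 LD3_c48) (LK LD1_c9 LD2_c1 LD3_c49) Lrfl Lrfl
theorem f743411 : Led Lsl_ff (LP (LK LD1_c20 LD2_c23 LD3_c29)) = (LP (LK LD1_c16 LD2_c51 LD3_c48)) :=
  Lgr Lrot52 (Lpr_at (f742218 IH) (Lpe (f568486 IH) (Lpe (f380044 IH) (Lpn (LP (LK LD1_c16 LD2_c51 LD3_c48))))))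
theorem f743419 : Led Lsl_ft (LP (LK LD1_c20 LD2_c23 LD3_c29)) = (LP (LK LD1_c16 LD2_c51 LD3_c48)) :=
  Lgr Lrot48 (Lpr_ff (f743411 IH) (Lpn (LP (LK LD1_c16 LD2_c51 LD3_c48))))
theorem f742546 : Led Lsl_ct (LP (LK LD1_c16 LD2_c51 LD3_c48)) = (LP (LK LD1_c26 LD2_c48 LD3_c58)) :=
  Lre_c IH (LK LD1_c16 LD2_c51 LD3_c48) (LK LD1_c26 LD2_c48 LD3_c58) Lrfl Lrfl
theorem f743425 : Led Lsl_ff (LP (LK LD1_c29 LD2_c22 LD3_c3)) = (LP (LK LD1_c26 LD2_c48 LD3_c58)) :=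
  Lgr Lrot23 (Lpr_ct (f742236 IH) (Lpr_ft (f743419 IH) (Lpr_ct (f742546 IH) (Lpn (LP (LK LD1_c26 LD2_c48 LD3_c58))))))
theorem f742234 : Led Lsl_at (LP (LK LD1_c29 LD2_c22 LD3_c3)) = (LP (LK LD1_c20 LD2_c24 LD3_c23)) :=
  Lgr Lrot100 (Lpr_af (f742232 IH) (Lpn (LP (LK LD1_c20 LD2_c24 LD3_c23))))
theorem f611159 : Led Lsl_et (LP (LK LD1_c31 LD2_c38 LD3_c45)) = (LP (LK LD1_c26 LD2_c29 LD3_c45)) :=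
  Lgr Lrot87 (Lpr_ef (K47.f609234 IH) (Lpn (LP (LK LD1_c26 LD2_c29 LD3_c45))))
theorem f196314 : Led Lsl_dt (LP (LK LD1_c31 LD2_c38 LD3_c45)) = (LP (LK LD1_c24 LD2_c45 LD3_c61)) :=
  Lre_d IH (LK LD1_c31 LD2_c38 LD3_c45) (LK LD1_c24 LD2_c45 LD3_c61) Lrfl Lrfl
theorem f229303 : Led Lsl_gt (LP (LK LD1_c8 LD2_c42 LD3_c51)) = (LP (LK LD1_c16 LD2_c19 LD3_c23)) :=
  Lre_g IH (LK LD1_c8 LD2_c42 LD3_c51) (LK LD1_c16 LD2_c19 LD3_c23) Lrfl Lrfl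
theorem f346703 : Led Lsl_gf (LP (LK LD1_c16 LD2_c20 LD3_c46)) = (LP (LK LD1_c16 LD2_c19 LD3_c23)) :=
  Lgr Lrot76 (Lpr_af (K23.f346694 IH) (Lpe (K23.f346679 IH) (Lpr_gt (f229303 IH) (Lpn (LP (LK LD1_c16 LD2_c19 LD3_c23))))))
theorem f229307 : Led Lsl_et (LP (LK LD1_c26 LD2_c17 LD3_c16)) = (LP (LK LD1_c16 LD2_c19 LD3_c23)) :=
  Lre_e IH (LK LD1_c26 LD2_c17 LD3_c16) (LK LD1_c16 LD2_c19 LD3_c23) Lrfl Lrfl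
theorem f30179 : Led Lsl_et (LP (LK LD1_c8 LD2_c2 LD3_c2)) = (LP (LK LD1_c4 LD2_c0 LD3_c32)) :=
  Lre_e IH (LK LD1_c8 LD2_c2 LD3_c2) (LK LD1_c4 LD2_c0 LD3_c32) Lrfl Lrfl
theorem f30167 : Led Lsl_dt (LP (LK LD1_c8 LD2_c2 LD3_c2)) = (LP (LK LD1_c15 LD2_c7 LD3_c48)) :=
  Lre_d IH (LK LD1_c8 LD2_c2 LD3_c2) (LK LD1_c15 LD2_c7 LD3_c48) Lrfl Lrfl
theorem f30215 : Led Lsl_gt (LP (LK LD1_c24 LD2_c56 LD3_c43)) = (LP (LK LD1_c15 LD2_c7 LD3_c48)) :=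
  Lre_g IH (LK LD1_c24 LD2_c56 LD3_c43) (LK LD1_c15 LD2_c7 LD3_c48) Lrfl Lrfl
theorem f229308 : Led Lsl_dt (LP (LK LD1_c26 LD2_c17 LD3_c16)) = (LP (LK LD1_c24 LD2_c56 LD3_c43)) :=
  Lgr Lrot136 (Lpr_et (f229307 IH) (Lpe (f229303 IH) (Lpe (K23.f229302 IH) (Lpr_dt (K13.f173290 IH) (Lpr_gf (K13.f229298 IH) (Lpe (K13.f180213 IH) (Lpe (K13.f224994 IH) (Lpe (f30179 IH) (Lpr_dt (f30167 IH) (Lpe (f30215 IH) (Lpn (LP (LK LD1_c24 LD2_c56 LD3_c43)))))))))))))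
theorem f346890 : Led Lsl_gf (LP (LK LD1_c24 LD2_c56 LD3_c43)) = (LP (LK LD1_c21 LD2_c11 LD3_c60)) :=
  Lgr Lrot134 (Lpe (f229308 IH) (Lpr_et (f229307 IH) (Lpe (f346703 IH) (Lpe (K23.f346737 IH) (Lpr_dt (K37.f346816 IH) (Lpe (K37.f346869 IH) (Lpr_df (K37.f346883 IH) (Lpr_et (K37.f30173 IH) (Lpe (K37.f30165 IH) (Lpe (K1.f36687 IH) (Lpn (LP (LK LD1_c21 LD2_c11 LD3_c60)))))))))))))
theorem f229310 : Led Lsl_df (LP (LK LD1_c26 LD2_c17 LD3_c16)) = (LP (LK LD1_c24 LD2_c56 LD3_c43)) :=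
  Lgr Lrot38 (Lpr_dt (f229308 IH) (Lpn (LP (LK LD1_c24 LD2_c56 LD3_c43))))
theorem f611161 : Led Lsl_gf (LP (LK LD1_c24 LD2_c45 LD3_c61)) = (LP (LK LD1_c26 LD2_c17 LD3_c16)) :=
  Lgr Lrot134 (Lpe (f196314 IH) (Lpr_et (f611159 IH) (Lpr_gt (K47.f444871 IH) (Lpe (K47.f444857 IH) (Lpr_dt (K37.f444884 IH) (Lpe (K37.f444897 IH) (Lpe (K1.f36685 IH) (Lpr_et (K38.f101853 IH) (Lpe (f346890 IH) (Lpe (f229310 IH) (Lpn (LP (LK LD1_c26 LD2_c17 LD3_c16)))))))))))))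
theorem f559010 : Led Lsl_dt (LP (LK LD1_c23 LD2_c6 LD3_c11)) = (LP (LK LD1_c16 LD2_c24 LD3_c9)) :=
  Lgr Lrot42 (Lpr_df (K47.f559008 IH) (Lpn (LP (LK LD1_c16 LD2_c24 LD3_c9))))
theorem f229312 : Led Lsl_et (LP (LK LD1_c16 LD2_c19 LD3_c23)) = (LP (LK LD1_c26 LD2_c17 LD3_c16)) :=
  Lre_e IH (LK LD1_c16 LD2_c19 LD3_c23) (LK LD1_c26 LD2_c17 LD3_c16) Lrfl Lrfl
theorem f229304 : Led Lsl_dt (LP (LK LD1_c16 LD2_c19 LD3_c23)) = (LP (LK LD1_c26 LD2_c17 LD3_c15)) :=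
  Lre_d IH (LK LD1_c16 LD2_c19 LD3_c23) (LK LD1_c26 LD2_c17 LD3_c15) Lrfl Lrfl
theorem f611163 : Led Lsl_gt (LP (LK LD1_c16 LD2_c24 LD3_c9)) = (LP (LK LD1_c26 LD2_c17 LD3_c15)) :=
  Lgr Lrot112 (Lpe (f559010 IH) (Lpr_et (K47.f470592 IH) (Lpe (K47.f470595 IH) (Lpr_ef (K47.f609236 IH) (Lpr_dt (K47.f30203 IH) (Lpe (K47.f609232 IH) (Lpe (K47.f196311 IH) (Lpr_gf (f611161 IH) (Lpe (f229312 IH) (Lpr_dt (f229304 IH) (Lpn (LP (LK LD1_c26 LD2_c17 LD3_c15)))))))))))))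
theorem f229313 : Led Lsl_dt (LP (LK LD1_c26 LD2_c17 LD3_c15)) = (LP (LK LD1_c16 LD2_c19 LD3_c23)) :=
  Lre_d IH (LK LD1_c26 LD2_c17 LD3_c15) (LK LD1_c16 LD2_c19 LD3_c23) Lrfl Lrfl
theorem f611167 : Led Lsl_gf (LP (LK LD1_c16 LD2_c23 LD3_c45)) = (LP (LK LD1_c12 LD2_c22 LD3_c55)) :=
  Lgr Lrot141 (Lpr_ef (f608445 IH) (Lpr_dt (f464682 IH) (Lpr_gt (K47.f559024 IH) (Lpr_df (K47.f559018 IH) (Lpr_et (K47.f559012 IH) (Lpr_gt (f611163 IH) (Lpr_dt (f229313 IH) (Lpe (f346703 IH) (Lpr_df (K37.f239224 IH) (Lpr_et (f346810 IH) (Lpn (LP (LK LD1_c12 LD2_c22 LD3_c55)))))))))))))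
theorem f617787 : Led Lsl_gf (LP (LK LD1_c12 LD2_c22 LD3_c55)) = (LP (LK LD1_c16 LD2_c23 LD3_c44)) :=
  Lgr Lrot47 (Lpe (f611167 IH) (Lpe (f617769 IH) (Lpr_ff (f617781 IH) (Lpn (LP (LK LD1_c16 LD2_c23 LD3_c44))))))
theorem f159730 : Led Lsl_at (LP (LK LD1_c12 LD2_c6 LD3_c25)) = (LP (LK LD1_c14 LD2_c1 LD3_c56)) :=
  Lgr Lrot100 (Lpr_af (f159728 IH) (Lpn (LP (LK LD1_c14 LD2_c1 LD3_c56))))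
theorem f159748 : Led Lsl_bt (LP (LK LD1_c14 LD2_c1 LD3_c56)) = (LP (LK LD1_c23 LD2_c34 LD3_c46)) :=
  Lre_b IH (LK LD1_c14 LD2_c1 LD3_c56) (LK LD1_c23 LD2_c34 LD3_c46) Lrfl Lrfl
theorem f613199 : Led Lsl_bf (LP (LK LD1_c12 LD2_c22 LD3_c52)) = (LP (LK LD1_c20 LD2_c13 LD3_c36)) :=
  Lgr Lrot81 (Lpr_at (f613184 IH) (Lpe (K36.f159701 IH) (Lpr_at (f159730 IH) (Lpr_bt (f159748 IH) (Lpe (f613157 IH) (Lpn (LP (LK LD1_c20 LD2_c13 LD3_c36))))))))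
theorem f613142 : Led Lsl_ft (LP (LK LD1_c29 LD2_c22 LD3_c6)) = (LP (LK LD1_c20 LD2_c13 LD3_c36)) :=
  Lre_f IH (LK LD1_c29 LD2_c22 LD3_c6) (LK LD1_c20 LD2_c13 LD3_c36) Lrfl Lrfl
theorem f613268 : Led Lsl_bt (LP (LK LD1_c21 LD2_c29 LD3_c46)) = (LP (LK LD1_c29 LD2_c22 LD3_c6)) :=
  Lgr Lrot35 (Lpe (f613181 IH) (Lpr_bf (f613199 IH) (Lpe (f613142 IH) (Lpn (LP (LK LD1_c29 LD2_c22 LD3_c6))))))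
theorem f12931 : Led Lsl_bt (LP (LK LD1_c7 LD2_c26 LD3_c34)) = (LP (LK LD1_c3 LD2_c42 LD3_c57)) :=
  Lre_b IH (LK LD1_c7 LD2_c26 LD3_c34) (LK LD1_c3 LD2_c42 LD3_c57) Lrfl Lrfl
theorem f12930 : Led Lsl_at (LP (LK LD1_c3 LD2_c42 LD3_c57)) = (LP (LK LD1_c1 LD2_c49 LD3_c9)) :=
  Lre_a IH (LK LD1_c3 LD2_c42 LD3_c57) (LK LD1_c1 LD2_c49 LD3_c9) Lrfl Lrfl
theorem f12932 : Led Lsl_at (LP (LK LD1_c1 LD2_c47 LD3_c41)) = (LP (LK LD1_c3 LD2_c40 LD3_c39)) :=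
  Lre_a IH (LK LD1_c1 LD2_c47 LD3_c41) (LK LD1_c3 LD2_c40 LD3_c39) Lrfl Lrfl
theorem f12933 : Led Lsl_bt (LP (LK LD1_c3 LD2_c40 LD3_c39)) = (LP (LK LD1_c7 LD2_c21 LD3_c27)) :=
  Lre_b IH (LK LD1_c3 LD2_c40 LD3_c39) (LK LD1_c7 LD2_c21 LD3_c27) Lrfl Lrfl
theorem f12934 : Led Lsl_af (LP (LK LD1_c7 LD2_c26 LD3_c34)) = (LP (LK LD1_c7 LD2_c21 LD3_c27)) :=
  Lgr Lrot36 (Lpr_bt (f12931 IH) (Lpr_at (f12930 IH) (Lpr_bt (K7.f12924 IH) (Lpr_at (f12932 IH) (Lpr_bt (f12933 IH) (Lpn (LP (LK LD1_c7 LD2_c21 LD3_c27))))))))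
theorem f613753 : Led Lsl_cf (LP (LK LD1_c9 LD2_c1 LD3_c49)) = (LP (LK LD1_c7 LD2_c26 LD3_c34)) :=
  Lgr Lrot1 (Lpr_at (f613375 IH) (Lpr_ct (f613751 IH) (Lpe (f12934 IH) (Lpn (LP (LK LD1_c7 LD2_c26 LD3_c34))))))
theorem f613761 : Led Lsl_ct (LP (LK LD1_c26 LD2_c48 LD3_c58)) = (LP (LK LD1_c16 LD2_c51 LD3_c48)) :=
  Lre_c IH (LK LD1_c26 LD2_c48 LD3_c58) (LK LD1_c16 LD2_c51 LD3_c48) Lrfl Lrfl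
theorem f742542 : Led Lsl_gt (LP (LK LD1_c29 LD2_c22 LD3_c6)) = (LP (LK LD1_c26 LD2_c48 LD3_c58)) :=
  Lgr Lrot82 (Lpe (f613268 IH) (Lpr_ct (f239344 IH) (Lpr_gf (f617787 IH) (Lpr_cf (f742532 IH) (Lpr_bt (f12994 IH) (Lpe (K7.f147726 IH) (Lpe (f12931 IH) (Lpe (f613753 IH) (Lpe (f380044 IH) (Lpe (f613761 IH) (Lpn (LP (LK LD1_c26 LD2_c48 LD3_c58)))))))))))))
theorem f613159 : Led Lsl_at (LP (LK LD1_c20 LD2_c13 LD3_c36)) = (LP (LK LD1_c23 LD2_c34 LD3_c46)) :=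
  Lgr Lrot100 (Lpr_af (f613157 IH) (Lpn (LP (LK LD1_c23 LD2_c34 LD3_c46))))
theorem f742544 : Led Lsl_gf (LP (LK LD1_c23 LD2_c34 LD3_c46)) = (LP (LK LD1_c26 LD2_c48 LD3_c58)) :=
  Lgr Lrot76 (Lpe (f613159 IH) (Lpe (f613142 IH) (Lpr_gt (f742542 IH) (Lpn (LP (LK LD1_c26 LD2_c48 LD3_c58))))))
theorem f743429 : Led Lsl_gf (LP (LK LD1_c20 LD2_c24 LD3_c23)) = (LP (LK LD1_c23 LD2_c34 LD3_c46)) :=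
  Lgr Lrot76 (Lpe (f742234 IH) (Lpr_ff (f743425 IH) (Lpe (f742544 IH) (Lpn (LP (LK LD1_c23 LD2_c34 LD3_c46))))))
theorem f613143 : Led Lsl_ft (LP (LK LD1_c23 LD2_c34 LD3_c46)) = (LP (LK LD1_c31 LD2_c7 LD3_c6)) :=
  Lre_f IH (LK LD1_c23 LD2_c34 LD3_c46) (LK LD1_c31 LD2_c7 LD3_c6) Lrfl Lrfl
theorem f743431 : Led Lsl_gt (LP (LK LD1_c20 LD2_c24 LD3_c23)) = (LP (LK LD1_c29 LD2_c22 LD3_c6)) :=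
  Lgr Lrot46 (Lpr_gf (f743429 IH) (Lpr_ft (f613143 IH) (Lpe (f613169 IH) (Lpn (LP (LK LD1_c29 LD2_c22 LD3_c6))))))
theorem f613271 : Led Lsl_bt (LP (LK LD1_c20 LD2_c13 LD3_c37)) = (LP (LK LD1_c11 LD2_c17 LD3_c49)) :=
  Lre_b IH (LK LD1_c20 LD2_c13 LD3_c37) (LK LD1_c11 LD2_c17 LD3_c49) Lrfl Lrfl
theorem f186040 : Led Lsl_et (LP (LK LD1_c4 LD2_c32 LD3_c5)) = (LP (LK LD1_c2 LD2_c13 LD3_c4)) :=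
  Lre_e IH (LK LD1_c4 LD2_c32 LD3_c5) (LK LD1_c2 LD2_c13 LD3_c4) Lrfl Lrfl
theorem f548880 : Led Lsl_cf (LP (LK LD1_c4 LD2_c32 LD3_c5)) = (LP (LK LD1_c5 LD2_c52 LD3_c18)) :=
  Lgr Lrot39 (Lpr_et (f186040 IH) (Lpr_ct (K38.f548873 IH) (Lpr_et (K54.f22657 IH) (Lpn (LP (LK LD1_c5 LD2_c52 LD3_c18))))))
theorem f177672 : Led Lsl_dt (LP (LK LD1_c4 LD2_c32 LD3_c5)) = (LP (LK LD1_c2 LD2_c13 LD3_c3)) :=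
  Lre_d IH (LK LD1_c4 LD2_c32 LD3_c5) (LK LD1_c2 LD2_c13 LD3_c3) Lrfl Lrfl
theorem f319878 : Led Lsl_gt (LP (LK LD1_c8 LD2_c58 LD3_c29)) = (LP (LK LD1_c4 LD2_c30 LD3_c9)) :=
  Lre_g IH (LK LD1_c8 LD2_c58 LD3_c29) (LK LD1_c4 LD2_c30 LD3_c9) Lrfl Lrfl
theorem f380043 : Led Lsl_dt (LP (LK LD1_c9 LD2_c1 LD3_c49)) = (LP (LK LD1_c4 LD2_c32 LD3_c0)) :=
  Lre_d IH (LK LD1_c9 LD2_c1 LD3_c49) (LK LD1_c4 LD2_c32 LD3_c0) Lrfl Lrfl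
theorem f174839 : Led Lsl_gt (LP (LK LD1_c4 LD2_c32 LD3_c0)) = (LP (LK LD1_c9 LD2_c1 LD3_c47)) :=
  Lre_g IH (LK LD1_c4 LD2_c32 LD3_c0) (LK LD1_c9 LD2_c1 LD3_c47) Lrfl Lrfl
theorem f380025 : Led Lsl_ct (LP (LK LD1_c9 LD2_c1 LD3_c47)) = (LP (LK LD1_c16 LD2_c51 LD3_c44)) :=
  Lre_c IH (LK LD1_c9 LD2_c1 LD3_c47) (LK LD1_c16 LD2_c51 LD3_c44) Lrfl Lrfl
theorem f613176 : Led Lsl_ct (LP (LK LD1_c29 LD2_c22 LD3_c6)) = (LP (LK LD1_c20 LD2_c13 LD3_c37)) :=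
  Lre_c IH (LK LD1_c29 LD2_c22 LD3_c6) (LK LD1_c20 LD2_c13 LD3_c37) Lrfl Lrfl
theorem f606139 : Led Lsl_dt (LP (LK LD1_c11 LD2_c17 LD3_c26)) = (LP (LK LD1_c20 LD2_c13 LD3_c37)) :=
  Lre_d IH (LK LD1_c11 LD2_c17 LD3_c26) (LK LD1_c20 LD2_c13 LD3_c37) Lrfl Lrfl
theorem f571689 : Led Lsl_ct (LP (LK LD1_c20 LD2_c13 LD3_c34)) = (LP (LK LD1_c11 LD2_c17 LD3_c26)) :=
  Lre_c IH (LK LD1_c20 LD2_c13 LD3_c34) (LK LD1_c11 LD2_c17 LD3_c26) Lrfl Lrfl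
theorem f743433 : Led Lsl_gt (LP (LK LD1_c16 LD2_c51 LD3_c44)) = (LP (LK LD1_c20 LD2_c13 LD3_c34)) :=
  Lgr Lrot150 (Lpe (f380025 IH) (Lpe (f174839 IH) (Lpe (f380043 IH) (Lpr_gt (f568486 IH) (Lpr_ct (f568492 IH) (Lpr_gt (f743431 IH) (Lpr_ct (f613176 IH) (Lpe (f606139 IH) (Lpe (f571689 IH) (Lpn (LP (LK LD1_c20 LD2_c13 LD3_c34))))))))))))
theorem f571690 : Led Lsl_ct (LP (LK LD1_c11 LD2_c17 LD3_c26)) = (LP (LK LD1_c20 LD2_c13 LD3_c34)) :=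
  Lre_c IH (LK LD1_c11 LD2_c17 LD3_c26) (LK LD1_c20 LD2_c13 LD3_c34) Lrfl Lrfl
theorem f381872 : Led Lsl_bt (LP (LK LD1_c11 LD2_c17 LD3_c26)) = (LP (LK LD1_c5 LD2_c43 LD3_c53)) :=
  Lre_b IH (LK LD1_c11 LD2_c17 LD3_c26) (LK LD1_c5 LD2_c43 LD3_c53) Lrfl Lrfl
def v15618 : LQ := Led Lsl_gf (LP (LK LD1_c5 LD2_c43 LD3_c36))
theorem f738328 : Led Lsl_gf (LP (LK LD1_c5 LD2_c43 LD3_c36)) = v15618 :=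
  Lrfl
theorem f542564 : Led Lsl_ft (LP (LK LD1_c5 LD2_c43 LD3_c53)) = (LP (LK LD1_c2 LD2_c47 LD3_c57)) :=
  Lre_f IH (LK LD1_c5 LD2_c43 LD3_c53) (LK LD1_c2 LD2_c47 LD3_c57) Lrfl Lrfl
theorem f738329 : Led Lsl_gt (LP (LK LD1_c5 LD2_c43 LD3_c53)) = v15618 :=
  Lgr Lrot5 (Lpr_ft (f542564 IH) (Lpr_at (K36.f381889 IH) (Lpr_gf (f738328 IH) (Lpn v15618))))
def v15627 : LQ := Led Lsl_at (LP (LK LD1_c5 LD2_c44 LD3_c7))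
theorem f738376 : Led Lsl_at (LP (LK LD1_c5 LD2_c44 LD3_c7)) = v15627 :=
  Lrfl
theorem f738377 : Led Lsl_af (LP (LK LD1_c5 LD2_c44 LD3_c7)) = v15627 :=
  Lgr Lrot0 (Lpr_at (f738376 IH) (Lpn v15627))
theorem f713746 : Led Lsl_cf (LP (LK LD1_c9 LD2_c17 LD3_c11)) = (LP (LK LD1_c11 LD2_c30 LD3_c0)) :=
  Lgr Lrot11 (Lpr_ct (K53.f713743 IH) (Lpn (LP (LK LD1_c11 LD2_c30 LD3_c0))))
theorem f715382 : Led Lsl_cf (LP (LK LD1_c11 LD2_c20 LD3_c11)) = (LP (LK LD1_c14 LD2_c31 LD3_c1)) :=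
  Lgr Lrot11 (Lpr_ct (f715378 IH) (Lpn (LP (LK LD1_c14 LD2_c31 LD3_c1))))
theorem f66348 : Led Lsl_et (LP (LK LD1_c7 LD2_c42 LD3_c10)) = (LP (LK LD1_c14 LD2_c31 LD3_c1)) :=
  Lre_e IH (LK LD1_c7 LD2_c42 LD3_c10) (LK LD1_c14 LD2_c31 LD3_c1) Lrfl Lrfl
theorem f739891 : Led Lsl_ct (LP (LK LD1_c12 LD2_c9 LD3_c1)) = (LP (LK LD1_c7 LD2_c42 LD3_c10)) :=
  Lgr Lrot15 (Lpr_ef (f739885 IH) (Lpr_cf (f715382 IH) (Lpe (f66348 IH) (Lpn (LP (LK LD1_c7 LD2_c42 LD3_c10))))))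
theorem f739943 : Led Lsl_ft (LP (LK LD1_c9 LD2_c17 LD3_c11)) = (LP (LK LD1_c12 LD2_c9 LD3_c1)) :=
  Lgr Lrot4 (Lpr_cf (f713746 IH) (Lpr_ff (f739939 IH) (Lpe (f739891 IH) (Lpn (LP (LK LD1_c12 LD2_c9 LD3_c1))))))
def v13164 : LQ := Led Lsl_at (LP (LK LD1_c4 LD2_c40 LD3_c51))
theorem f701479 : Led Lsl_at (LP (LK LD1_c4 LD2_c40 LD3_c51)) = v13164 :=
  Lrfl
theorem f701480 : Led Lsl_af (LP (LK LD1_c4 LD2_c40 LD3_c51)) = v13164 :=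
  Lgr Lrot0 (Lpr_at (f701479 IH) (Lpn v13164))
theorem f701482 : Led Lsl_ft (LP (LK LD1_c4 LD2_c40 LD3_c52)) = v13164 :=
  Lgr Lrot2 (Lpr_gt (K53.f452971 IH) (Lpr_gt (K50.f74637 IH) (Lpr_af (f701480 IH) (Lpn v13164))))
theorem f701483 : Led Lsl_ff (LP (LK LD1_c4 LD2_c40 LD3_c52)) = v13164 :=
  Lgr Lrot3 (Lpr_ft (f701482 IH) (Lpn v13164))
theorem f739889 : Led Lsl_bt (LP (LK LD1_c12 LD2_c9 LD3_c1)) = (LP (LK LD1_c9 LD2_c17 LD3_c4)) :=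
  Lgr Lrot119 (Lpr_ef (f739885 IH) (Lpe (f76017 IH) (Lpr_ef (K53.f75880 IH) (Lpn (LP (LK LD1_c9 LD2_c17 LD3_c4))))))
theorem f739960 : v13164 = (LP (LK LD1_c9 LD2_c17 LD3_c4)) :=
  (Llr Lrot25 (Lpe (f701483 IH) (Lpr_bt (K54.f701484 IH) (Lpr_ft (f739943 IH) (Lpr_bt (f739889 IH) (Lpn (LP (LK LD1_c9 LD2_c17 LD3_c4)))))))).symm
theorem f701336 : Led Lsl_ct (LP (LK LD1_c9 LD2_c17 LD3_c12)) = (LP (LK LD1_c4 LD2_c40 LD3_c52)) :=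
  Lre_c IH (LK LD1_c9 LD2_c17 LD3_c12) (LK LD1_c4 LD2_c40 LD3_c52) Lrfl Lrfl
theorem f75874 : Led Lsl_ct (LP (LK LD1_c9 LD2_c17 LD3_c4)) = (LP (LK LD1_c17 LD2_c12 LD3_c10)) :=
  Lre_c IH (LK LD1_c9 LD2_c17 LD3_c4) (LK LD1_c17 LD2_c12 LD3_c10) Lrfl Lrfl
theorem f739965 : Led Lsl_ff (LP (LK LD1_c9 LD2_c17 LD3_c12)) = (LP (LK LD1_c17 LD2_c12 LD3_c10)) :=
  Lgr Lrot23 (Lpr_ct (f701336 IH) (Lpr_ft (f701482 IH) (Lpqs (f739960 IH) (Lpr_ct (f75874 IH) (Lpn (LP (LK LD1_c17 LD2_c12 LD3_c10)))))))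
theorem f739967 : Led Lsl_ft (LP (LK LD1_c9 LD2_c17 LD3_c12)) = (LP (LK LD1_c17 LD2_c12 LD3_c10)) :=
  Lgr Lrot48 (Lpr_ff (f739965 IH) (Lpn (LP (LK LD1_c17 LD2_c12 LD3_c10))))
theorem f428611 : Led Lsl_ft (LP (LK LD1_c5 LD2_c58 LD3_c15)) = (LP (LK LD1_c11 LD2_c41 LD3_c8)) :=
  Lre_f IH (LK LD1_c5 LD2_c58 LD3_c15) (LK LD1_c11 LD2_c41 LD3_c8) Lrfl Lrfl
theorem f707210 : Led Lsl_af (LP (LK LD1_c17 LD2_c12 LD3_c16)) = (LP (LK LD1_c11 LD2_c41 LD3_c8)) :=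
  Lgr Lrot45 (Lpr_ft (K54.f707207 IH) (Lpe (K54.f496361 IH) (Lpr_ft (f428611 IH) (Lpn (LP (LK LD1_c11 LD2_c41 LD3_c8))))))
theorem f707231 : Led Lsl_gf (LP (LK LD1_c9 LD2_c17 LD3_c9)) = (LP (LK LD1_c5 LD2_c58 LD3_c15)) :=
  Lgr Lrot47 (Lpr_gt (K54.f74686 IH) (Lpr_af (f707210 IH) (Lpe (f428611 IH) (Lpn (LP (LK LD1_c5 LD2_c58 LD3_c15))))))
theorem f739969 : Led Lsl_af (LP (LK LD1_c9 LD2_c17 LD3_c9)) = (LP (LK LD1_c17 LD2_c12 LD3_c10)) :=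
  Lgr Lrot31 (Lpr_gf (f707231 IH) (Lpr_gf (K54.f713764 IH) (Lpr_ft (f739967 IH) (Lpn (LP (LK LD1_c17 LD2_c12 LD3_c10))))))
theorem f720022 : Led Lsl_et (LP (LK LD1_c9 LD2_c17 LD3_c9)) = (LP (LK LD1_c17 LD2_c12 LD3_c18)) :=
  Lre_e IH (LK LD1_c9 LD2_c17 LD3_c9) (LK LD1_c17 LD2_c12 LD3_c18) Lrfl Lrfl
theorem f739973 : Led Lsl_at (LP (LK LD1_c17 LD2_c12 LD3_c18)) = (LP (LK LD1_c11 LD2_c20 LD3_c16)) :=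
  Lgr Lrot80 (Lpe (f720022 IH) (Lpr_af (f739969 IH) (Lpe (K53.f76019 IH) (Lpn (LP (LK LD1_c11 LD2_c20 LD3_c16))))))
theorem f616291 : Led Lsl_ct (LP (LK LD1_c5 LD2_c44 LD3_c57)) = (LP (LK LD1_c2 LD2_c48 LD3_c16)) :=
  Lre_c IH (LK LD1_c5 LD2_c44 LD3_c57) (LK LD1_c2 LD2_c48 LD3_c16) Lrfl Lrfl
theorem f616290 : Led Lsl_dt (LP (LK LD1_c11 LD2_c20 LD3_c14)) = (LP (LK LD1_c5 LD2_c44 LD3_c57)) :=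
  Lre_d IH (LK LD1_c11 LD2_c20 LD3_c14) (LK LD1_c5 LD2_c44 LD3_c57) Lrfl Lrfl
theorem f639006 : Led Lsl_ct (LP (LK LD1_c20 LD2_c17 LD3_c31)) = (LP (LK LD1_c11 LD2_c20 LD3_c14)) :=
  Lre_c IH (LK LD1_c20 LD2_c17 LD3_c31) (LK LD1_c11 LD2_c20 LD3_c14) Lrfl Lrfl
theorem f641547 : Led Lsl_gt (LP (LK LD1_c2 LD2_c56 LD3_c51)) = K53.v5054 :=
  Lgr Lrot5 (Lpr_ft (K41.f641544 IH) (Lpe (K41.f641540 IH) (Lpr_gf (K53.f641523 IH) (Lpn K53.v5054))))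
theorem f641552 : Led Lsl_ct (LP (LK LD1_c11 LD2_c20 LD3_c3)) = (LP (LK LD1_c5 LD2_c44 LD3_c54)) :=
  Lre_c IH (LK LD1_c11 LD2_c20 LD3_c3) (LK LD1_c5 LD2_c44 LD3_c54) Lrfl Lrfl
theorem f641551 : Led Lsl_dt (LP (LK LD1_c20 LD2_c17 LD3_c18)) = (LP (LK LD1_c11 LD2_c20 LD3_c3)) :=
  Lre_d IH (LK LD1_c20 LD2_c17 LD3_c18) (LK LD1_c11 LD2_c20 LD3_c3) Lrfl Lrfl
theorem f715458 : Led Lsl_gt (LP (LK LD1_c11 LD2_c44 LD3_c0)) = (LP (LK LD1_c20 LD2_c17 LD3_c18)) :=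
  Lgr Lrot49 (Lpe (K53.f150404 IH) (Lpq (K53.f715407 IH) (Lpe (f641547 IH) (Lpe (K41.f500858 IH) (Lpr_gt (K41.f383330 IH) (Lpr_dt (K5.f75864 IH) (Lpr_gt (K41.f444613 IH) (Lpr_dt (K50.f414693 IH) (Lpe (f641552 IH) (Lpe (f641551 IH) (Lpn (LP (LK LD1_c20 LD2_c17 LD3_c18)))))))))))))
theorem f641531 : Led Lsl_dt (LP (LK LD1_c11 LD2_c43 LD3_c30)) = (LP (LK LD1_c5 LD2_c59 LD3_c26)) :=
  Lre_d IH (LK LD1_c11 LD2_c43 LD3_c30) (LK LD1_c5 LD2_c59 LD3_c26) Lrfl Lrfl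
theorem f641527 : Led Lsl_ct (LP (LK LD1_c20 LD2_c16 LD3_c57)) = (LP (LK LD1_c11 LD2_c43 LD3_c30)) :=
  Lre_c IH (LK LD1_c20 LD2_c16 LD3_c57) (LK LD1_c11 LD2_c43 LD3_c30) Lrfl Lrfl
theorem f641528 : Led Lsl_gt (LP (LK LD1_c11 LD2_c46 LD3_c33)) = (LP (LK LD1_c20 LD2_c16 LD3_c57)) :=
  Lre_g IH (LK LD1_c11 LD2_c46 LD3_c33) (LK LD1_c20 LD2_c16 LD3_c57) Lrfl Lrfl
theorem f715460 : Led Lsl_ct (LP (LK LD1_c20 LD2_c17 LD3_c18)) = (LP (LK LD1_c11 LD2_c46 LD3_c33)) :=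
  Lgr Lrot152 (Lpe (f715458 IH) (Lpe (K53.f150404 IH) (Lpq (K53.f715407 IH) (Lpe (K53.f641523 IH) (Lpr_ct (K53.f500841 IH) (Lpr_gt (K5.f75884 IH) (Lpr_ct (K9.f140184 IH) (Lpe (f641531 IH) (Lpe (f641527 IH) (Lpe (f641528 IH) (Lpn (LP (LK LD1_c11 LD2_c46 LD3_c33)))))))))))))
theorem f639005 : Led Lsl_dt (LP (LK LD1_c11 LD2_c20 LD3_c3)) = (LP (LK LD1_c20 LD2_c17 LD3_c18)) :=
  Lre_d IH (LK LD1_c11 LD2_c20 LD3_c3) (LK LD1_c20 LD2_c17 LD3_c18) Lrfl Lrfl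
theorem f639004 : Led Lsl_ct (LP (LK LD1_c5 LD2_c44 LD3_c54)) = (LP (LK LD1_c11 LD2_c20 LD3_c3)) :=
  Lre_c IH (LK LD1_c5 LD2_c44 LD3_c54) (LK LD1_c11 LD2_c20 LD3_c3) Lrfl Lrfl
theorem f715465 : Led Lsl_df (LP (LK LD1_c20 LD2_c17 LD3_c31)) = (LP (LK LD1_c11 LD2_c46 LD3_c33)) :=
  Lgr Lrot43 (Lpr_ct (f639006 IH) (Lpr_dt (f616290 IH) (Lpr_ct (f616291 IH) (Lpr_dt (K41.f75877 IH) (Lpr_ct (K41.f76018 IH) (Lpr_dt (K41.f76025 IH) (Lpr_ct (K41.f641571 IH) (Lpe (K41.f641580 IH) (Lpr_ct (K41.f638995 IH) (Lpr_dt (K41.f638994 IH) (Lpr_ct (K41.f638989 IH) (Lpr_dt (K50.f414693 IH) (Lpr_ct (f639004 IH) (Lpr_dt (f639005 IH) (Lpr_ct (f715460 IH) (Lpn (LP (LK LD1_c11 LD2_c46 LD3_c33))))))))))))))))))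
theorem f739979 : Led Lsl_ff (LP (LK LD1_c17 LD2_c12 LD3_c18)) = (LP (LK LD1_c11 LD2_c20 LD3_c3)) :=
  Lgr Lrot103 (Lpr_at (f739973 IH) (Lpe (K41.f76018 IH) (Lpe (K41.f75877 IH) (Lpe (f616291 IH) (Lpe (f616290 IH) (Lpe (f639006 IH) (Lpr_df (f715465 IH) (Lpe (f715460 IH) (Lpe (f639005 IH) (Lpn (LP (LK LD1_c11 LD2_c20 LD3_c3))))))))))))
theorem f739985 : Led Lsl_ft (LP (LK LD1_c17 LD2_c12 LD3_c18)) = (LP (LK LD1_c11 LD2_c20 LD3_c3)) :=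
  Lgr Lrot48 (Lpr_ff (f739979 IH) (Lpn (LP (LK LD1_c11 LD2_c20 LD3_c3))))
theorem f739998 : Led Lsl_ff (LP (LK LD1_c9 LD2_c17 LD3_c10)) = (LP (LK LD1_c5 LD2_c44 LD3_c54)) :=
  Lgr Lrot23 (Lpr_ct (K53.f74643 IH) (Lpr_ft (f739985 IH) (Lpr_ct (f641552 IH) (Lpn (LP (LK LD1_c5 LD2_c44 LD3_c54))))))
theorem f738379 : Led Lsl_ft (LP (LK LD1_c5 LD2_c44 LD3_c8)) = v15627 :=
  Lgr Lrot2 (Lpr_gt (K52.f74620 IH) (Lpr_gt (K51.f382410 IH) (Lpr_af (f738377 IH) (Lpn v15627))))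
theorem f740004 : v15627 = (LP (LK LD1_c2 LD2_c48 LD3_c15)) :=
  (Llr Lrot54 (Lpe (f738379 IH) (Lpe (K51.f74605 IH) (Lpr_ff (f739998 IH) (Lpe (K50.f414693 IH) (Lpn (LP (LK LD1_c2 LD2_c48 LD3_c15)))))))).symm
theorem f740005 : (LP (LK LD1_c5 LD2_c44 LD3_c7)) = K41.v4787 :=
  Lefun (Lecon (Lfl_af (f738377 IH)) (f740004 IH)) (K41.f638986 IH)
theorem f502741 : Led Lsl_dt (LP (LK LD1_c11 LD2_c18 LD3_c21)) = (LP (LK LD1_c5 LD2_c44 LD3_c7)) :=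
  Lre_d IH (LK LD1_c11 LD2_c18 LD3_c21) (LK LD1_c5 LD2_c44 LD3_c7) Lrfl Lrfl
theorem f740208 : Led Lsl_ff (LP (LK LD1_c11 LD2_c18 LD3_c21)) = (LP (LK LD1_c5 LD2_c44 LD3_c58)) :=
  Lgr Lrot19 (Lpr_dt (f502741 IH) (Lpqs (f740005 IH) (Lpe (K54.f638997 IH) (Lpr_dt (K41.f75877 IH) (Lpn (LP (LK LD1_c5 LD2_c44 LD3_c58)))))))
theorem f740246 : Led Lsl_ft (LP (LK LD1_c11 LD2_c18 LD3_c21)) = (LP (LK LD1_c5 LD2_c44 LD3_c58)) :=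
  Lgr Lrot48 (Lpr_ff (f740208 IH) (Lpn (LP (LK LD1_c5 LD2_c44 LD3_c58))))
theorem f739977 : Led Lsl_af (LP (LK LD1_c9 LD2_c17 LD3_c10)) = (LP (LK LD1_c5 LD2_c44 LD3_c58)) :=
  Lgr Lrot68 (Lpr_ct (K53.f74643 IH) (Lpr_at (f739973 IH) (Lpr_ct (f75873 IH) (Lpn (LP (LK LD1_c5 LD2_c44 LD3_c58))))))
theorem f740253 : Led Lsl_gt (LP (LK LD1_c11 LD2_c18 LD3_c21)) = (LP (LK LD1_c11 LD2_c46 LD3_c61)) :=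
  Lgr Lrot5 (Lpr_ft (f740246 IH) (Lpe (f739977 IH) (Lpe (K52.f644911 IH) (Lpn (LP (LK LD1_c11 LD2_c46 LD3_c61))))))
theorem f382413 : Led Lsl_dt (LP (LK LD1_c5 LD2_c44 LD3_c7)) = (LP (LK LD1_c11 LD2_c18 LD3_c21)) :=
  Lre_d IH (LK LD1_c5 LD2_c44 LD3_c7) (LK LD1_c11 LD2_c18 LD3_c21) Lrfl Lrfl
theorem f381691 : Led Lsl_et (LP (LK LD1_c2 LD2_c47 LD3_c48)) = (LP (LK LD1_c5 LD2_c43 LD3_c36)) :=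
  Lre_e IH (LK LD1_c2 LD2_c47 LD3_c48) (LK LD1_c5 LD2_c43 LD3_c36) Lrfl Lrfl
theorem f644590 : Led Lsl_ft (LP (LK LD1_c11 LD2_c16 LD3_c23)) = (LP (LK LD1_c5 LD2_c43 LD3_c51)) :=
  Lgr Lrot48 (Lpr_ff (K54.f644582 IH) (Lpn (LP (LK LD1_c5 LD2_c43 LD3_c51))))
theorem f507701 : Led Lsl_ct (LP (LK LD1_c20 LD2_c12 LD3_c23)) = (LP (LK LD1_c11 LD2_c16 LD3_c23)) :=
  Lre_c IH (LK LD1_c20 LD2_c12 LD3_c23) (LK LD1_c11 LD2_c16 LD3_c23) Lrfl Lrfl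
theorem f644578 : Led Lsl_ct (LP (LK LD1_c5 LD2_c43 LD3_c51)) = (LP (LK LD1_c11 LD2_c17 LD3_c44)) :=
  Lre_c IH (LK LD1_c5 LD2_c43 LD3_c51) (LK LD1_c11 LD2_c17 LD3_c44) Lrfl Lrfl
theorem f644642 : Led Lsl_ff (LP (LK LD1_c20 LD2_c12 LD3_c23)) = (LP (LK LD1_c11 LD2_c17 LD3_c44)) :=
  Lgr Lrot23 (Lpr_ct (f507701 IH) (Lpr_ft (f644590 IH) (Lpr_ct (f644578 IH) (Lpn (LP (LK LD1_c11 LD2_c17 LD3_c44))))))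
theorem f507709 : Led Lsl_at (LP (LK LD1_c20 LD2_c12 LD3_c23)) = (LP (LK LD1_c11 LD2_c16 LD3_c24)) :=
  Lre_a IH (LK LD1_c20 LD2_c12 LD3_c23) (LK LD1_c11 LD2_c16 LD3_c24) Lrfl Lrfl
theorem f412048 : Led Lsl_ct (LP (LK LD1_c9 LD2_c2 LD3_c53)) = (LP (LK LD1_c16 LD2_c53 LD3_c32)) :=
  Lre_c IH (LK LD1_c9 LD2_c2 LD3_c53) (LK LD1_c16 LD2_c53 LD3_c32) Lrfl Lrfl
theorem f412041 : Led Lsl_ct (LP (LK LD1_c11 LD2_c16 LD3_c24)) = (LP (LK LD1_c5 LD2_c43 LD3_c2)) :=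
  Lre_c IH (LK LD1_c11 LD2_c16 LD3_c24) (LK LD1_c5 LD2_c43 LD3_c2) Lrfl Lrfl
theorem f507703 : Led Lsl_ft (LP (LK LD1_c16 LD2_c53 LD3_c32)) = (LP (LK LD1_c11 LD2_c16 LD3_c24)) :=
  Lgr Lrot4 (Lpe (f412048 IH) (Lpr_ff (K54.f507670 IH) (Lpe (f412041 IH) (Lpn (LP (LK LD1_c11 LD2_c16 LD3_c24))))))
theorem f507707 : Led Lsl_ff (LP (LK LD1_c16 LD2_c53 LD3_c32)) = (LP (LK LD1_c11 LD2_c16 LD3_c24)) :=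
  Lgr Lrot3 (Lpr_ft (f507703 IH) (Lpn (LP (LK LD1_c11 LD2_c16 LD3_c24))))
theorem f644644 : Led Lsl_at (LP (LK LD1_c16 LD2_c53 LD3_c32)) = (LP (LK LD1_c11 LD2_c17 LD3_c44)) :=
  Lgr Lrot66 (Lpr_ff (f507707 IH) (Lpe (f507709 IH) (Lpr_ff (f644642 IH) (Lpn (LP (LK LD1_c11 LD2_c17 LD3_c44))))))
theorem f641990 : Led Lsl_et (LP (LK LD1_c11 LD2_c17 LD3_c44)) = (LP (LK LD1_c20 LD2_c13 LD3_c55)) :=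
  Lre_e IH (LK LD1_c11 LD2_c17 LD3_c44) (LK LD1_c20 LD2_c13 LD3_c55) Lrfl Lrfl
theorem f644655 : Led Lsl_ef (LP (LK LD1_c16 LD2_c53 LD3_c32)) = (LP (LK LD1_c11 LD2_c46 LD3_c60)) :=
  Lgr Lrot20 (Lpr_at (f644644 IH) (Lpr_et (f641990 IH) (Lpr_at (K53.f641994 IH) (Lpn (LP (LK LD1_c11 LD2_c46 LD3_c60))))))
theorem f644659 : Led Lsl_et (LP (LK LD1_c16 LD2_c53 LD3_c32)) = (LP (LK LD1_c11 LD2_c46 LD3_c60)) :=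
  Lgr Lrot87 (Lpr_ef (f644655 IH) (Lpn (LP (LK LD1_c11 LD2_c46 LD3_c60))))
theorem f644661 : Led Lsl_ef (LP (LK LD1_c9 LD2_c2 LD3_c53)) = (LP (LK LD1_c6 LD2_c1 LD3_c10)) :=
  Lgr Lrot28 (Lpr_ct (f412048 IH) (Lpr_et (f644659 IH) (Lpr_ct (K41.f641660 IH) (Lpn (LP (LK LD1_c6 LD2_c1 LD3_c10))))))
theorem f740259 : v15618 = (LP (LK LD1_c9 LD2_c2 LD3_c53)) :=
  (Llr Lrot141 (Lpe (f738328 IH) (Lpe (f381691 IH) (Lpr_dt (K27.f381642 IH) (Lpr_gt (K27.f381676 IH) (Lpe (K27.f40156 IH) (Lpr_et (K51.f382409 IH) (Lpr_gt (K51.f382410 IH) (Lpr_dt (f382413 IH) (Lpr_gt (f740253 IH) (Lpe (K41.f641652 IH) (Lpe (f644661 IH) (Lpn (LP (LK LD1_c9 LD2_c2 LD3_c53))))))))))))))).symm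
theorem f501086 : Led Lsl_bt (LP (LK LD1_c4 LD2_c32 LD3_c44)) = (LP (LK LD1_c9 LD2_c2 LD3_c53)) :=
  Lre_b IH (LK LD1_c4 LD2_c32 LD3_c44) (LK LD1_c9 LD2_c2 LD3_c53) Lrfl Lrfl
theorem f743442 : (LP (LK LD1_c8 LD2_c58 LD3_c29)) = K52.v12833 :=
  (Llr Lrot126 (Lpr_gt (f319878 IH) (Lpe (K40.f380012 IH) (Lpr_bt (K40.f380024 IH) (Lpr_gt (f174839 IH) (Lpr_ct (f380025 IH) (Lpr_gt (f743433 IH) (Lpe (f571690 IH) (Lpr_bt (f381872 IH) (Lpr_gt (f738329 IH) (Lpqs (f740259 IH) (Lpe (f501086 IH) (Lpr_ct (K52.f698461 IH) (Lpn K52.v12833)))))))))))))).symm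
theorem f268779 : Led Lsl_ft (LP (LK LD1_c2 LD2_c47 LD3_c32)) = (LP (LK LD1_c1 LD2_c20 LD3_c3)) :=
  Lre_f IH (LK LD1_c2 LD2_c47 LD3_c32) (LK LD1_c1 LD2_c20 LD3_c3) Lrfl Lrfl
theorem f412045 : Led Lsl_gt (LP (LK LD1_c2 LD2_c47 LD3_c32)) = (LP (LK LD1_c4 LD2_c32 LD3_c44)) :=
  Lgr Lrot5 (Lpr_ft (f268779 IH) (Lpr_at (K20.f268747 IH) (Lpe (K51.f177764 IH) (Lpn (LP (LK LD1_c4 LD2_c32 LD3_c44))))))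
theorem f745180 : Led Lsl_ct (LP (LK LD1_c9 LD2_c2 LD3_c54)) = v16073 :=
  Lgr Lrot152 (Lpe (f412086 IH) (Lpe (K16.f268767 IH) (Lpr_gt (f412045 IH) (Lpr_ct (K52.f698461 IH) (Lpq (f743442 IH) (Lpr_gt (f319878 IH) (Lpe (K40.f380020 IH) (Lpe (f177672 IH) (Lpr_cf (f548880 IH) (Lpr_gf (f745178 IH) (Lpn v16073)))))))))))
theorem f669167 : Led Lsl_bt (LP (LK LD1_c9 LD2_c2 LD3_c54)) = (LP (LK LD1_c16 LD2_c53 LD3_c33)) :=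
  Lre_b IH (LK LD1_c9 LD2_c2 LD3_c54) (LK LD1_c16 LD2_c53 LD3_c33) Lrfl Lrfl
theorem f745181 : Led Lsl_gt (LP (LK LD1_c11 LD2_c17 LD3_c49)) = (LP (LK LD1_c16 LD2_c53 LD3_c33)) :=
  Lgr Lrot164 (Lpe (f613271 IH) (Lpr_ct (f554340 IH) (Lpe (f743431 IH) (Lpe (f568492 IH) (Lpe (f568486 IH) (Lpe (f380079 IH) (Lpr_ct (f613769 IH) (Lpr_gf (f745178 IH) (Lpe (f745180 IH) (Lpr_bt (f669167 IH) (Lpn (LP (LK LD1_c16 LD2_c53 LD3_c33)))))))))))))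
theorem f745182 : Led Lsl_gt (LP (LK LD1_c11 LD2_c17 LD3_c49)) = (LP (LK LD1_c16 LD2_c53 LD3_c33)) :=
  Leop (Lpe (f745181 IH) (Lpn (LP (LK LD1_c11 LD2_c17 LD3_c49))))
theorem seed_972 : LEOK LG_g (LK LD1_c11 LD2_c17 LD3_c49) :=
  Leoe_g (LK LD1_c11 LD2_c17 LD3_c49) (f745182 IH)
theorem f542581 : Led Lsl_ft (LP (LK LD1_c11 LD2_c17 LD3_c49)) = (LP (LK LD1_c5 LD2_c43 LD3_c52)) :=
  Lre_f IH (LK LD1_c11 LD2_c17 LD3_c49) (LK LD1_c5 LD2_c43 LD3_c52) Lrfl Lrfl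
theorem f381937 : Led Lsl_at (LP (LK LD1_c5 LD2_c43 LD3_c52)) = (LP (LK LD1_c11 LD2_c17 LD3_c16)) :=
  Lre_a IH (LK LD1_c5 LD2_c43 LD3_c52) (LK LD1_c11 LD2_c17 LD3_c16) Lrfl Lrfl
theorem f745183 : Led Lsl_gf (LP (LK LD1_c11 LD2_c17 LD3_c16)) = (LP (LK LD1_c16 LD2_c53 LD3_c33)) :=
  Lgr Lrot76 (Lpe (f381937 IH) (Lpe (f542581 IH) (Lpr_gt (f745181 IH) (Lpn (LP (LK LD1_c16 LD2_c53 LD3_c33))))))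
theorem f381935 : Led Lsl_et (LP (LK LD1_c5 LD2_c43 LD3_c37)) = (LP (LK LD1_c11 LD2_c17 LD3_c16)) :=
  Lre_e IH (LK LD1_c5 LD2_c43 LD3_c37) (LK LD1_c11 LD2_c17 LD3_c16) Lrfl Lrfl
theorem f541774 : Led Lsl_cf (LP (LK LD1_c6 LD2_c14 LD3_c11)) = (LP (LK LD1_c11 LD2_c17 LD3_c16)) :=
  Lgr Lrot39 (Lpr_et (K36.f81380 IH) (Lpr_ct (K36.f541768 IH) (Lpr_et (f381935 IH) (Lpn (LP (LK LD1_c11 LD2_c17 LD3_c16))))))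
theorem f81251 : Led Lsl_gt (LP (LK LD1_c6 LD2_c14 LD3_c11)) = (LP (LK LD1_c12 LD2_c6 LD3_c50)) :=
  Lre_g IH (LK LD1_c6 LD2_c14 LD3_c11) (LK LD1_c12 LD2_c6 LD3_c50) Lrfl Lrfl
theorem f638899 : Led Lsl_af (LP (LK LD1_c5 LD2_c52 LD3_c18)) = K54.v4769 :=
  Lgr Lrot68 (Lpe (f548880 IH) (Lpr_at (K40.f379969 IH) (Lpr_ct (K54.f638898 IH) (Lpn K54.v4769))))
def v15537 : LQ := Led Lsl_ct (LP (LK LD1_c5 LD2_c41 LD3_c14))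
theorem f737906 : Led Lsl_ct (LP (LK LD1_c5 LD2_c41 LD3_c14)) = v15537 :=
  Lrfl
theorem f737909 : Led Lsl_ff K54.v4769 = v15537 :=
  Lgr Lrot23 (Lpe (K54.f638900 IH) (Lpr_ft (K40.f225799 IH) (Lpr_ct (f737906 IH) (Lpn v15537))))
theorem f745179 : Led Lsl_gt v15537 = v16073 :=
  Lgr Lrot5 (Lpe (f737909 IH) (Lpe (f638899 IH) (Lpr_gf (f745178 IH) (Lpn v16073))))
theorem f380073 : Led Lsl_bt (LP (LK LD1_c5 LD2_c41 LD3_c14)) = (LP (LK LD1_c11 LD2_c12 LD3_c42)) :=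
  Lre_b IH (LK LD1_c5 LD2_c41 LD3_c14) (LK LD1_c11 LD2_c12 LD3_c42) Lrfl Lrfl
theorem f416363 : Led Lsl_bt (LP (LK LD1_c12 LD2_c25 LD3_c40)) = (LP (LK LD1_c6 LD2_c26 LD3_c60)) :=
  Lre_b IH (LK LD1_c12 LD2_c25 LD3_c40) (LK LD1_c6 LD2_c26 LD3_c60) Lrfl Lrfl
theorem f745206 : Led Lsl_cf (LP (LK LD1_c12 LD2_c6 LD3_c50)) = (LP (LK LD1_c12 LD2_c25 LD3_c40)) :=
  Lgr Lrot163 (Lpe (f81251 IH) (Lpr_cf (f541774 IH) (Lpr_gf (f745183 IH) (Lpe (f669167 IH) (Lpr_ct (f745180 IH) (Lpe (f745179 IH) (Lpe (f737906 IH) (Lpr_bt (f380073 IH) (Lpe (K50.f698399 IH) (Lpe (f416363 IH) (Lpn (LP (LK LD1_c12 LD2_c25 LD3_c40)))))))))))))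
theorem f745207 : Led Lsl_ct (LP (LK LD1_c12 LD2_c25 LD3_c40)) = (LP (LK LD1_c12 LD2_c6 LD3_c50)) :=
  Leop (Lpr_cf (f745206 IH) (Lpn (LP (LK LD1_c12 LD2_c25 LD3_c40))))
theorem seed_973 : LEOK LG_c (LK LD1_c12 LD2_c25 LD3_c40) :=
  Leoe_c (LK LD1_c12 LD2_c25 LD3_c40) (f745207 IH)
theorem f623243 : Led Lsl_ct (LP (LK LD1_c12 LD2_c25 LD3_c39)) = (LP (LK LD1_c6 LD2_c26 LD3_c57)) :=
  Lre_c IH (LK LD1_c12 LD2_c25 LD3_c39) (LK LD1_c6 LD2_c26 LD3_c57) Lrfl Lrfl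
theorem f745212 : Led Lsl_et (LP (LK LD1_c12 LD2_c6 LD3_c50)) = (LP (LK LD1_c12 LD2_c25 LD3_c39)) :=
  Lgr Lrot158 (Lpr_cf (f745206 IH) (Lpe (K52.f623186 IH) (Lpe (f623243 IH) (Lpn (LP (LK LD1_c12 LD2_c25 LD3_c39))))))
theorem f745228 : Led Lsl_ef (LP (LK LD1_c12 LD2_c6 LD3_c50)) = (LP (LK LD1_c12 LD2_c25 LD3_c39)) :=
  Lgr Lrot88 (Lpr_et (f745212 IH) (Lpn (LP (LK LD1_c12 LD2_c25 LD3_c39))))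
theorem f623207 : Led Lsl_dt (LP (LK LD1_c12 LD2_c25 LD3_c39)) = (LP (LK LD1_c21 LD2_c32 LD3_c42)) :=
  Lre_d IH (LK LD1_c12 LD2_c25 LD3_c39) (LK LD1_c21 LD2_c32 LD3_c42) Lrfl Lrfl
theorem f745232 : Led Lsl_gf (LP (LK LD1_c17 LD2_c57 LD3_c19)) = (LP (LK LD1_c21 LD2_c32 LD3_c42)) :=
  Lgr Lrot145 (Lpe (K39.f553987 IH) (Lpr_et (K39.f438217 IH) (Lpr_gt (K39.f158270 IH) (Lpr_dt (K36.f438204 IH) (Lpr_gt (K36.f81397 IH) (Lpe (K32.f81374 IH) (Lpr_et (K32.f81368 IH) (Lpr_gt (f81251 IH) (Lpr_ef (f745228 IH) (Lpr_dt (f623207 IH) (Lpn (LP (LK LD1_c21 LD2_c32 LD3_c42)))))))))))))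
theorem f553989 : Led Lsl_gt (LP (LK LD1_c17 LD2_c57 LD3_c19)) = (LP (LK LD1_c27 LD2_c41 LD3_c57)) :=
  Lre_g IH (LK LD1_c17 LD2_c57 LD3_c19) (LK LD1_c27 LD2_c41 LD3_c57) Lrfl Lrfl
theorem f438578 : Led Lsl_ct (LP (LK LD1_c6 LD2_c26 LD3_c57)) = (LP (LK LD1_c12 LD2_c25 LD3_c39)) :=
  Lre_c IH (LK LD1_c6 LD2_c26 LD3_c57) (LK LD1_c12 LD2_c25 LD3_c39) Lrfl Lrfl
theorem f57633 : Led Lsl_ct (LP (LK LD1_c11 LD2_c27 LD3_c6)) = (LP (LK LD1_c5 LD2_c48 LD3_c50)) :=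
  Lre_c IH (LK LD1_c11 LD2_c27 LD3_c6) (LK LD1_c5 LD2_c48 LD3_c50) Lrfl Lrfl
theorem f623180 : Led Lsl_ft (LP (LK LD1_c12 LD2_c25 LD3_c39)) = (LP (LK LD1_c11 LD2_c27 LD3_c6)) :=
  Lgr Lrot4 (Lpe (f438578 IH) (Lpr_ff (K51.f623177 IH) (Lpe (f57633 IH) (Lpn (LP (LK LD1_c11 LD2_c27 LD3_c6))))))
theorem f623239 : Led Lsl_ff (LP (LK LD1_c12 LD2_c25 LD3_c39)) = (LP (LK LD1_c11 LD2_c27 LD3_c6)) :=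
  Lgr Lrot3 (Lpr_ft (f623180 IH) (Lpn (LP (LK LD1_c11 LD2_c27 LD3_c6))))
theorem f57634 : Led Lsl_dt (LP (LK LD1_c20 LD2_c25 LD3_c4)) = (LP (LK LD1_c11 LD2_c27 LD3_c6)) :=
  Lre_d IH (LK LD1_c20 LD2_c25 LD3_c4) (LK LD1_c11 LD2_c27 LD3_c6) Lrfl Lrfl
theorem f623244 : Led Lsl_ft (LP (LK LD1_c21 LD2_c32 LD3_c42)) = (LP (LK LD1_c20 LD2_c25 LD3_c4)) :=
  Lgr Lrot54 (Lpe (f623207 IH) (Lpr_ff (f623239 IH) (Lpe (f57634 IH) (Lpn (LP (LK LD1_c20 LD2_c25 LD3_c4))))))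
theorem f745234 : Led Lsl_af (LP (LK LD1_c27 LD2_c41 LD3_c57)) = (LP (LK LD1_c20 LD2_c25 LD3_c4)) :=
  Lgr Lrot31 (Lpe (f553989 IH) (Lpr_gf (f745232 IH) (Lpr_ft (f623244 IH) (Lpn (LP (LK LD1_c20 LD2_c25 LD3_c4))))))
theorem f6589 : Led Lsl_dt (LP (LK LD1_c22 LD2_c47 LD3_c31)) = (LP (LK LD1_c13 LD2_c28 LD3_c3)) :=
  Lre_d IH (LK LD1_c22 LD2_c47 LD3_c31) (LK LD1_c13 LD2_c28 LD3_c3) Lrfl Lrfl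
theorem f582124 : Led Lsl_ef (LP (LK LD1_c27 LD2_c41 LD3_c57)) = (LP (LK LD1_c22 LD2_c47 LD3_c31)) :=
  Lgr Lrot17 (Lpe (f553989 IH) (Lpe (K39.f453368 IH) (Lpr_dt (K43.f272772 IH) (Lpe (K39.f554405 IH) (Lpe (K42.f424948 IH) (Lpr_gf (K44.f582112 IH) (Lpe (K43.f560691 IH) (Lpr_dt (K46.f560690 IH) (Lpe (K40.f560685 IH) (Lpe (f6589 IH) (Lpn (LP (LK LD1_c22 LD2_c47 LD3_c31)))))))))))))
theorem f605029 : Led Lsl_et (LP (LK LD1_c27 LD2_c41 LD3_c57)) = (LP (LK LD1_c22 LD2_c47 LD3_c31)) :=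
  Lgr Lrot87 (Lpr_ef (f582124 IH) (Lpn (LP (LK LD1_c22 LD2_c47 LD3_c31))))
theorem f30767 : Led Lsl_bt (LP (LK LD1_c15 LD2_c8 LD3_c20)) = (LP (LK LD1_c8 LD2_c2 LD3_c32)) :=
  Lgr Lrot127 (Lpr_bf (K53.f30745 IH) (Lpn (LP (LK LD1_c8 LD2_c2 LD3_c32))))
theorem f211633 : Led Lsl_et (LP (LK LD1_c9 LD2_c47 LD3_c6)) = (LP (LK LD1_c4 LD2_c58 LD3_c5)) :=
  Lre_e IH (LK LD1_c9 LD2_c47 LD3_c6) (LK LD1_c4 LD2_c58 LD3_c5) Lrfl Lrfl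
theorem f453205 : Led Lsl_at (LP (LK LD1_c8 LD2_c47 LD3_c27)) = (LP (LK LD1_c9 LD2_c47 LD3_c6)) :=
  Lgr Lrot80 (Lpe (K38.f80393 IH) (Lpr_af (K31.f453199 IH) (Lpe (f211633 IH) (Lpn (LP (LK LD1_c9 LD2_c47 LD3_c6))))))
theorem f453415 : Led Lsl_bt (LP (LK LD1_c9 LD2_c47 LD3_c6)) = (LP (LK LD1_c17 LD2_c57 LD3_c19)) :=
  Lre_b IH (LK LD1_c9 LD2_c47 LD3_c6) (LK LD1_c17 LD2_c57 LD3_c19) Lrfl Lrfl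
theorem f549113 : Led Lsl_af (LP (LK LD1_c15 LD2_c8 LD3_c20)) = (LP (LK LD1_c17 LD2_c57 LD3_c19)) :=
  Lgr Lrot36 (Lpr_bt (f30767 IH) (Lpe (K1.f36777 IH) (Lpr_bt (K38.f549111 IH) (Lpr_at (f453205 IH) (Lpr_bt (f453415 IH) (Lpn (LP (LK LD1_c17 LD2_c57 LD3_c19))))))))
theorem f30776 : Led Lsl_gt (LP (LK LD1_c24 LD2_c57 LD3_c7)) = (LP (LK LD1_c15 LD2_c8 LD3_c20)) :=
  Lre_g IH (LK LD1_c24 LD2_c57 LD3_c7) (LK LD1_c15 LD2_c8 LD3_c20) Lrfl Lrfl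
theorem f453373 : Led Lsl_ft (LP (LK LD1_c27 LD2_c41 LD3_c58)) = (LP (LK LD1_c17 LD2_c57 LD3_c19)) :=
  Lre_f IH (LK LD1_c27 LD2_c41 LD3_c58) (LK LD1_c17 LD2_c57 LD3_c19) Lrfl Lrfl
theorem f621148 : Led Lsl_gf (LP (LK LD1_c24 LD2_c57 LD3_c7)) = (LP (LK LD1_c27 LD2_c41 LD3_c58)) :=
  Lgr Lrot47 (Lpr_gt (f30776 IH) (Lpr_af (f549113 IH) (Lpe (f453373 IH) (Lpn (LP (LK LD1_c27 LD2_c41 LD3_c58))))))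
theorem f499388 : Led Lsl_dt (LP (LK LD1_c9 LD2_c49 LD3_c24)) = (LP (LK LD1_c4 LD2_c59 LD3_c29)) :=
  Lre_d IH (LK LD1_c9 LD2_c49 LD3_c24) (LK LD1_c4 LD2_c59 LD3_c29) Lrfl Lrfl
theorem f623199 : Led Lsl_dt (LP (LK LD1_c6 LD2_c26 LD3_c56)) = (LP (LK LD1_c12 LD2_c25 LD3_c35)) :=
  Lre_d IH (LK LD1_c6 LD2_c26 LD3_c56) (LK LD1_c12 LD2_c25 LD3_c35) Lrfl Lrfl
theorem f623190 : Led Lsl_ct (LP (LK LD1_c21 LD2_c32 LD3_c37)) = (LP (LK LD1_c12 LD2_c25 LD3_c35)) :=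
  Lre_c IH (LK LD1_c21 LD2_c32 LD3_c37) (LK LD1_c12 LD2_c25 LD3_c35) Lrfl Lrfl
theorem f719193 : Led Lsl_dt (LP (LK LD1_c24 LD2_c57 LD3_c7)) = (LP (LK LD1_c21 LD2_c32 LD3_c37)) :=
  Lgr Lrot105 (Lpr_gf (f621148 IH) (Lpe (K53.f669317 IH) (Lpe (K48.f186092 IH) (Lpe (K48.f146434 IH) (Lpr_gt (K53.f719191 IH) (Lpr_dt (f499388 IH) (Lpqs (K51.f669416 IH) (Lpe (K51.f640530 IH) (Lpr_dt (f623199 IH) (Lpe (f623190 IH) (Lpn (LP (LK LD1_c21 LD2_c32 LD3_c37)))))))))))))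
theorem f623234 : Led Lsl_at (LP (LK LD1_c21 LD2_c32 LD3_c37)) = (LP (LK LD1_c12 LD2_c25 LD3_c39)) :=
  Lre_a IH (LK LD1_c21 LD2_c32 LD3_c37) (LK LD1_c12 LD2_c25 LD3_c39) Lrfl Lrfl
theorem f719268 : Led Lsl_af (LP (LK LD1_c24 LD2_c57 LD3_c7)) = (LP (LK LD1_c21 LD2_c32 LD3_c42)) :=
  Lgr Lrot117 (Lpr_dt (f719193 IH) (Lpr_at (f623234 IH) (Lpr_dt (f623207 IH) (Lpn (LP (LK LD1_c21 LD2_c32 LD3_c42))))))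
theorem f623236 : Led Lsl_dt (LP (LK LD1_c21 LD2_c32 LD3_c42)) = (LP (LK LD1_c12 LD2_c25 LD3_c39)) :=
  Lre_d IH (LK LD1_c21 LD2_c32 LD3_c42) (LK LD1_c12 LD2_c25 LD3_c39) Lrfl Lrfl
theorem f623211 : Led Lsl_dt (LP (LK LD1_c11 LD2_c27 LD3_c6)) = (LP (LK LD1_c20 LD2_c25 LD3_c4)) :=
  Lre_d IH (LK LD1_c11 LD2_c27 LD3_c6) (LK LD1_c20 LD2_c25 LD3_c4) Lrfl Lrfl
theorem f623237 : Led Lsl_ff (LP (LK LD1_c21 LD2_c32 LD3_c42)) = (LP (LK LD1_c20 LD2_c25 LD3_c4)) :=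
  Lgr Lrot19 (Lpr_dt (f623236 IH) (Lpr_ft (f623180 IH) (Lpr_dt (f623211 IH) (Lpn (LP (LK LD1_c20 LD2_c25 LD3_c4))))))
theorem f719282 : Led Lsl_gf (LP (LK LD1_c27 LD2_c41 LD3_c58)) = (LP (LK LD1_c20 LD2_c25 LD3_c4)) :=
  Lgr Lrot47 (Lpe (f621148 IH) (Lpr_af (f719268 IH) (Lpr_ff (f623237 IH) (Lpn (LP (LK LD1_c20 LD2_c25 LD3_c4))))))
theorem f719284 : Led Lsl_gt (LP (LK LD1_c15 LD2_c8 LD3_c20)) = (LP (LK LD1_c20 LD2_c25 LD3_c4)) :=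
  Lgr Lrot5 (Lpr_ft (K53.f30773 IH) (Lpr_at (K53.f549121 IH) (Lpr_gf (f719282 IH) (Lpn (LP (LK LD1_c20 LD2_c25 LD3_c4))))))
theorem f30796 : Led Lsl_et (LP (LK LD1_c8 LD2_c2 LD3_c31)) = (LP (LK LD1_c15 LD2_c8 LD3_c20)) :=
  Lre_e IH (LK LD1_c8 LD2_c2 LD3_c31) (LK LD1_c15 LD2_c8 LD3_c20) Lrfl Lrfl
theorem f229341 : Led Lsl_et (LP (LK LD1_c16 LD2_c27 LD3_c19)) = (LP (LK LD1_c8 LD2_c47 LD3_c34)) :=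
  Lre_e IH (LK LD1_c16 LD2_c27 LD3_c19) (LK LD1_c8 LD2_c47 LD3_c34) Lrfl Lrfl
theorem f575995 : Led Lsl_df (LP (LK LD1_c13 LD2_c40 LD3_c35)) = (LP (LK LD1_c16 LD2_c27 LD3_c19)) :=
  Lgr Lrot38 (Lpr_dt (K46.f575991 IH) (Lpn (LP (LK LD1_c16 LD2_c27 LD3_c19))))
theorem f6399 : Led Lsl_dt (LP (LK LD1_c23 LD2_c4 LD3_c45)) = (LP (LK LD1_c13 LD2_c39 LD3_c30)) :=
  Lre_d IH (LK LD1_c23 LD2_c4 LD3_c45) (LK LD1_c13 LD2_c39 LD3_c30) Lrfl Lrfl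
theorem f719286 : Led Lsl_et (LP (LK LD1_c23 LD2_c4 LD3_c45)) = (LP (LK LD1_c20 LD2_c25 LD3_c4)) :=
  Lgr Lrot122 (Lpr_dt (f6399 IH) (Lpr_gt (K40.f560702 IH) (Lpr_df (f575995 IH) (Lpr_et (f229341 IH) (Lpe (K43.f575099 IH) (Lpr_dt (K42.f424938 IH) (Lpe (K42.f570628 IH) (Lpe (K39.f29536 IH) (Lpr_et (f30796 IH) (Lpr_gt (f719284 IH) (Lpn (LP (LK LD1_c20 LD2_c25 LD3_c4)))))))))))))
theorem f745240 : Led Lsl_at (LP (LK LD1_c22 LD2_c47 LD3_c31)) = (LP (LK LD1_c23 LD2_c4 LD3_c45)) :=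
  Lgr Lrot80 (Lpe (f605029 IH) (Lpr_af (f745234 IH) (Lpe (f719286 IH) (Lpn (LP (LK LD1_c23 LD2_c4 LD3_c45))))))
theorem f6590 : Led Lsl_dt (LP (LK LD1_c13 LD2_c28 LD3_c3)) = (LP (LK LD1_c22 LD2_c47 LD3_c31)) :=
  Lre_d IH (LK LD1_c13 LD2_c28 LD3_c3) (LK LD1_c22 LD2_c47 LD3_c31) Lrfl Lrfl
theorem f745258 : Led Lsl_af (LP (LK LD1_c13 LD2_c28 LD3_c3)) = (LP (LK LD1_c13 LD2_c39 LD3_c30)) :=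
  Lgr Lrot117 (Lpr_dt (f6590 IH) (Lpr_at (f745240 IH) (Lpr_dt (f6399 IH) (Lpn (LP (LK LD1_c13 LD2_c39 LD3_c30))))))
theorem f745266 : Led Lsl_ft (LP (LK LD1_c13 LD2_c28 LD3_c0)) = (LP (LK LD1_c13 LD2_c39 LD3_c30)) :=
  Lgr Lrot2 (Lpr_gt (K40.f6613 IH) (Lpe (K40.f524924 IH) (Lpr_af (f745258 IH) (Lpn (LP (LK LD1_c13 LD2_c39 LD3_c30))))))
theorem f745274 : Led Lsl_ff (LP (LK LD1_c13 LD2_c28 LD3_c0)) = (LP (LK LD1_c13 LD2_c39 LD3_c30)) :=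
  Lgr Lrot3 (Lpr_ft (f745266 IH) (Lpn (LP (LK LD1_c13 LD2_c39 LD3_c30))))
theorem f560971 : Led Lsl_bt (LP (LK LD1_c21 LD2_c11 LD3_c54)) = (LP (LK LD1_c13 LD2_c33 LD3_c41)) :=
  Lgr Lrot127 (Lpr_bf (K43.f560950 IH) (Lpn (LP (LK LD1_c13 LD2_c33 LD3_c41))))
theorem f560973 : Led Lsl_bf (LP (LK LD1_c12 LD2_c8 LD3_c38)) = (LP (LK LD1_c7 LD2_c9 LD3_c37)) :=
  Lgr Lrot93 (Lpe (K40.f418451 IH) (Lpr_bt (f560971 IH) (Lpr_dt (K43.f516334 IH) (Lpn (LP (LK LD1_c7 LD2_c9 LD3_c37))))))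
theorem f516440 : Led Lsl_gf (LP (LK LD1_c13 LD2_c33 LD3_c33)) = (LP (LK LD1_c7 LD2_c38 LD3_c38)) :=
  Lgr Lrot47 (Lpr_gt (K34.f516438 IH) (Lpe (K8.f162155 IH) (Lpe (K33.f486315 IH) (Lpn (LP (LK LD1_c7 LD2_c38 LD3_c38))))))
theorem f560759 : Led Lsl_cf (LP (LK LD1_c7 LD2_c52 LD3_c36)) = (LP (LK LD1_c12 LD2_c8 LD3_c40)) :=
  Lgr Lrot11 (Lpr_ct (K46.f560757 IH) (Lpn (LP (LK LD1_c12 LD2_c8 LD3_c40))))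
theorem f560803 : Led Lsl_ct (LP (LK LD1_c22 LD2_c47 LD3_c27)) = (LP (LK LD1_c21 LD2_c14 LD3_c56)) :=
  Lgr Lrot83 (Lpe (K40.f524920 IH) (Lpr_cf (K40.f478646 IH) (Lpr_bf (K46.f478650 IH) (Lpr_cf (f560759 IH) (Lpe (K40.f560654 IH) (Lpn (LP (LK LD1_c21 LD2_c14 LD3_c56))))))))
theorem f524922 : Led Lsl_bf (LP (LK LD1_c13 LD2_c40 LD3_c2)) = (LP (LK LD1_c22 LD2_c47 LD3_c27)) :=
  Lgr Lrot24 (Lpr_bt (K40.f524920 IH) (Lpn (LP (LK LD1_c22 LD2_c47 LD3_c27))))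
theorem f6373 : Led Lsl_ct (LP (LK LD1_c7 LD2_c12 LD3_c58)) = (LP (LK LD1_c13 LD2_c39 LD3_c28)) :=
  Lre_c IH (LK LD1_c7 LD2_c12 LD3_c58) (LK LD1_c13 LD2_c39 LD3_c28) Lrfl Lrfl
theorem f560805 : Led Lsl_gt (LP (LK LD1_c13 LD2_c39 LD3_c28)) = (LP (LK LD1_c21 LD2_c14 LD3_c56)) :=
  Lgr Lrot149 (Lpe (f6373 IH) (Lpe (K29.f6368 IH) (Lpe (K29.f5999 IH) (Lpr_ct (K29.f10656 IH) (Lpe (K29.f10695 IH) (Lpe (K29.f5991 IH) (Lpr_bt (K33.f5992 IH) (Lpe (K40.f478641 IH) (Lpr_bf (f524922 IH) (Lpr_ct (f560803 IH) (Lpn (LP (LK LD1_c21 LD2_c14 LD3_c56)))))))))))))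
theorem f478235 : Led Lsl_bt (LP (LK LD1_c7 LD2_c12 LD3_c58)) = (LP (LK LD1_c13 LD2_c39 LD3_c27)) :=
  Lre_b IH (LK LD1_c7 LD2_c12 LD3_c58) (LK LD1_c13 LD2_c39 LD3_c27) Lrfl Lrfl
theorem f456593 : Led Lsl_bt (LP (LK LD1_c1 LD2_c43 LD3_c39)) = (LP (LK LD1_c3 LD2_c33 LD3_c53)) :=
  Lre_b IH (LK LD1_c1 LD2_c43 LD3_c39) (LK LD1_c3 LD2_c33 LD3_c53) Lrfl Lrfl
theorem f480752 : Led Lsl_bt (LP (LK LD1_c7 LD2_c6 LD3_c43)) = (LP (LK LD1_c7 LD2_c15 LD3_c18)) :=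
  Lgr Lrot35 (Lpr_ff (K28.f467951 IH) (Lpe (K29.f96943 IH) (Lpr_ff (K33.f480748 IH) (Lpn (LP (LK LD1_c7 LD2_c15 LD3_c18))))))
theorem f520291 : Led Lsl_bf (LP (LK LD1_c13 LD2_c39 LD3_c60)) = (LP (LK LD1_c7 LD2_c15 LD3_c11)) :=
  Lgr Lrot24 (Lpr_bt (K33.f520288 IH) (Lpn (LP (LK LD1_c7 LD2_c15 LD3_c11))))
theorem f520013 : Led Lsl_gf (LP (LK LD1_c13 LD2_c43 LD3_c25)) = (LP (LK LD1_c7 LD2_c51 LD3_c44)) :=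
  Lgr Lrot76 (Lpe (K33.f520008 IH) (Lpr_ff (K33.f520006 IH) (Lpr_gt (K33.f485447 IH) (Lpn (LP (LK LD1_c7 LD2_c51 LD3_c44))))))
theorem f543039 : Led Lsl_cf (LP (LK LD1_c7 LD2_c51 LD3_c44)) = (LP (LK LD1_c5 LD2_c49 LD3_c40)) :=
  Lgr Lrot125 (Lpe (f520013 IH) (Lpe (K33.f520015 IH) (Lpe (f520291 IH) (Lpr_gt (K40.f522001 IH) (Lpe (f480752 IH) (Lpr_ct (K37.f467934 IH) (Lpr_gt (K29.f479128 IH) (Lpe (K40.f10653 IH) (Lpr_bt (f456593 IH) (Lpr_gt (K37.f543035 IH) (Lpn (LP (LK LD1_c5 LD2_c49 LD3_c40)))))))))))))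
theorem f449936 : Led Lsl_bt (LP (LK LD1_c5 LD2_c49 LD3_c40)) = (LP (LK LD1_c11 LD2_c27 LD3_c61)) :=
  Lre_b IH (LK LD1_c5 LD2_c49 LD3_c40) (LK LD1_c11 LD2_c27 LD3_c61) Lrfl Lrfl
theorem f560807 : Led Lsl_gf (LP (LK LD1_c13 LD2_c39 LD3_c27)) = (LP (LK LD1_c11 LD2_c27 LD3_c61)) :=
  Lgr Lrot124 (Lpe (f478235 IH) (Lpr_ct (f6373 IH) (Lpr_gt (f560805 IH) (Lpe (f560803 IH) (Lpe (f524922 IH) (Lpr_gt (K40.f478641 IH) (Lpr_ct (K40.f478617 IH) (Lpr_gt (K33.f485447 IH) (Lpr_cf (f543039 IH) (Lpr_bt (f449936 IH) (Lpn (LP (LK LD1_c11 LD2_c27 LD3_c61)))))))))))))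
theorem f486311 : Led Lsl_at (LP (LK LD1_c7 LD2_c38 LD3_c38)) = (LP (LK LD1_c13 LD2_c33 LD3_c32)) :=
  Lgr Lrot100 (Lpr_af (K33.f486305 IH) (Lpn (LP (LK LD1_c13 LD2_c33 LD3_c32))))
theorem f543162 : Led Lsl_at (LP (LK LD1_c20 LD2_c25 LD3_c39)) = (LP (LK LD1_c14 LD2_c24 LD3_c22)) :=
  Lgr Lrot107 (Lpr_cf (K37.f543160 IH) (Lpe (f486311 IH) (Lpe (K33.f486317 IH) (Lpn (LP (LK LD1_c14 LD2_c24 LD3_c22))))))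
theorem f560810 : Led Lsl_gt (LP (LK LD1_c13 LD2_c39 LD3_c27)) = (LP (LK LD1_c14 LD2_c24 LD3_c22)) :=
  Lgr Lrot46 (Lpr_gf (f560807 IH) (Lpr_ft (K37.f450503 IH) (Lpr_at (f543162 IH) (Lpn (LP (LK LD1_c14 LD2_c24 LD3_c22))))))
theorem f560975 : Led Lsl_gt (LP (LK LD1_c13 LD2_c40 LD3_c35)) = (LP (LK LD1_c13 LD2_c39 LD3_c28)) :=
  Lgr Lrot65 (Lpr_cf (K40.f560694 IH) (Lpr_bt (K40.f560681 IH) (Lpe (K40.f239197 IH) (Lpr_bf (f560973 IH) (Lpr_ct (K43.f516335 IH) (Lpr_gf (f516440 IH) (Lpe (K33.f486317 IH) (Lpe (f560810 IH) (Lpe (f478235 IH) (Lpr_ct (f6373 IH) (Lpn (LP (LK LD1_c13 LD2_c39 LD3_c28)))))))))))))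
theorem f745282 : Led Lsl_at (LP (LK LD1_c13 LD2_c28 LD3_c0)) = (LP (LK LD1_c13 LD2_c39 LD3_c28)) :=
  Lgr Lrot26 (Lpr_ff (f745274 IH) (Lpr_gt (K40.f560702 IH) (Lpr_gt (f560975 IH) (Lpn (LP (LK LD1_c13 LD2_c39 LD3_c28))))))
theorem f745260 : Led Lsl_at (LP (LK LD1_c13 LD2_c28 LD3_c3)) = (LP (LK LD1_c13 LD2_c39 LD3_c30)) :=
  Lgr Lrot100 (Lpr_af (f745258 IH) (Lpn (LP (LK LD1_c13 LD2_c39 LD3_c30))))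
theorem f745290 : Led Lsl_ff (LP (LK LD1_c13 LD2_c28 LD3_c3)) = (LP (LK LD1_c13 LD2_c39 LD3_c28)) :=
  Lgr Lrot30 (Lpr_at (f745260 IH) (Lpe (f745274 IH) (Lpr_at (f745282 IH) (Lpn (LP (LK LD1_c13 LD2_c39 LD3_c28))))))
theorem f745298 : Led Lsl_ft (LP (LK LD1_c13 LD2_c28 LD3_c3)) = (LP (LK LD1_c13 LD2_c39 LD3_c28)) :=
  Lgr Lrot48 (Lpr_ff (f745290 IH) (Lpn (LP (LK LD1_c13 LD2_c39 LD3_c28))))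
theorem f10658 : Led Lsl_dt (LP (LK LD1_c13 LD2_c39 LD3_c28)) = (LP (LK LD1_c23 LD2_c4 LD3_c42)) :=
  Lre_d IH (LK LD1_c13 LD2_c39 LD3_c28) (LK LD1_c23 LD2_c4 LD3_c42) Lrfl Lrfl
theorem f745304 : Led Lsl_ff (LP (LK LD1_c22 LD2_c47 LD3_c31)) = (LP (LK LD1_c23 LD2_c4 LD3_c42)) :=
  Lgr Lrot19 (Lpr_dt (f6589 IH) (Lpr_ft (f745298 IH) (Lpr_dt (f10658 IH) (Lpn (LP (LK LD1_c23 LD2_c4 LD3_c42))))))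
theorem f560994 : Led Lsl_et (LP (LK LD1_c23 LD2_c3 LD3_c27)) = (LP (LK LD1_c13 LD2_c38 LD3_c18)) :=
  Lre_e IH (LK LD1_c23 LD2_c3 LD3_c27) (LK LD1_c13 LD2_c38 LD3_c18) Lrfl Lrfl
theorem f560988 : Led Lsl_df (LP (LK LD1_c13 LD2_c38 LD3_c21)) = (LP (LK LD1_c22 LD2_c48 LD3_c31)) :=
  Lgr Lrot38 (Lpr_dt (K47.f560982 IH) (Lpn (LP (LK LD1_c22 LD2_c48 LD3_c31))))
theorem f560990 : Led Lsl_bt (LP (LK LD1_c13 LD2_c38 LD3_c21)) = (LP (LK LD1_c23 LD2_c3 LD3_c27)) :=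
  Lre_b IH (LK LD1_c13 LD2_c38 LD3_c21) (LK LD1_c23 LD2_c3 LD3_c27) Lrfl Lrfl
theorem f456104 : Led Lsl_bt (LP (LK LD1_c30 LD2_c43 LD3_c44)) = (LP (LK LD1_c22 LD2_c48 LD3_c31)) :=
  Lre_b IH (LK LD1_c30 LD2_c43 LD3_c44) (LK LD1_c22 LD2_c48 LD3_c31) Lrfl Lrfl
theorem f560991 : Led Lsl_dt (LP (LK LD1_c23 LD2_c3 LD3_c27)) = (LP (LK LD1_c30 LD2_c43 LD3_c44)) :=
  Lgr Lrot79 (Lpe (f560990 IH) (Lpr_df (f560988 IH) (Lpe (f456104 IH) (Lpn (LP (LK LD1_c30 LD2_c43 LD3_c44))))))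
theorem f575101 : Led Lsl_gf (LP (LK LD1_c30 LD2_c43 LD3_c44)) = (LP (LK LD1_c23 LD2_c4 LD3_c42)) :=
  Lgr Lrot134 (Lpe (f560991 IH) (Lpr_et (f560994 IH) (Lpr_gt (K43.f564331 IH) (Lpe (K28.f94474 IH) (Lpe (f570646 IH) (Lpr_gt (K43.f575087 IH) (Lpe (K43.f542963 IH) (Lpr_et (K40.f560661 IH) (Lpr_gt (f560975 IH) (Lpr_dt (f10658 IH) (Lpn (LP (LK LD1_c23 LD2_c4 LD3_c42)))))))))))))
theorem f745308 : Led Lsl_gf (LP (LK LD1_c23 LD2_c4 LD3_c45)) = (LP (LK LD1_c30 LD2_c43 LD3_c44)) :=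
  Lgr Lrot76 (Lpe (f745240 IH) (Lpr_ff (f745304 IH) (Lpe (f575101 IH) (Lpn (LP (LK LD1_c30 LD2_c43 LD3_c44))))))
theorem f6398 : Led Lsl_dt (LP (LK LD1_c13 LD2_c39 LD3_c30)) = (LP (LK LD1_c23 LD2_c4 LD3_c45)) :=
  Lre_d IH (LK LD1_c13 LD2_c39 LD3_c30) (LK LD1_c23 LD2_c4 LD3_c45) Lrfl Lrfl
theorem f481445 : Led Lsl_et (LP (LK LD1_c13 LD2_c39 LD3_c30)) = (LP (LK LD1_c23 LD2_c4 LD3_c46)) :=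
  Lre_e IH (LK LD1_c13 LD2_c39 LD3_c30) (LK LD1_c23 LD2_c4 LD3_c46) Lrfl Lrfl
theorem f108461 : Led Lsl_bt (LP (LK LD1_c7 LD2_c5 LD3_c45)) = (LP (LK LD1_c3 LD2_c32 LD3_c22)) :=
  Lre_b IH (LK LD1_c7 LD2_c5 LD3_c45) (LK LD1_c3 LD2_c32 LD3_c22) Lrfl Lrfl
theorem f513177 : Led Lsl_bt (LP (LK LD1_c7 LD2_c19 LD3_c7)) = (LP (LK LD1_c13 LD2_c50 LD3_c40)) :=
  Lre_b IH (LK LD1_c7 LD2_c19 LD3_c7) (LK LD1_c13 LD2_c50 LD3_c40) Lrfl Lrfl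
theorem f575300 : Led Lsl_gf (LP (LK LD1_c16 LD2_c30 LD3_c31)) = (LP (LK LD1_c13 LD2_c50 LD3_c40)) :=
  Lgr Lrot181 (Lpe (K43.f575140 IH) (Lpr_gt (f575272 IH) (Lpr_cf (K46.f464565 IH) (Lpr_bt (f108461 IH) (Lpr_gt (K28.f97407 IH) (Lpe (K37.f108484 IH) (Lpr_ct (K37.f147270 IH) (Lpr_gt (K35.f147280 IH) (Lpr_cf (K35.f533544 IH) (Lpr_bt (f513177 IH) (Lpn (LP (LK LD1_c13 LD2_c50 LD3_c40)))))))))))))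
theorem f499040 : Led Lsl_ft (LP (LK LD1_c16 LD2_c30 LD3_c31)) = (LP (LK LD1_c8 LD2_c49 LD3_c49)) :=
  Lre_f IH (LK LD1_c16 LD2_c30 LD3_c31) (LK LD1_c8 LD2_c49 LD3_c49) Lrfl Lrfl
theorem f575188 : Led Lsl_bt (LP (LK LD1_c13 LD2_c27 LD3_c7)) = (LP (LK LD1_c16 LD2_c30 LD3_c31)) :=
  Lgr Lrot35 (Lpr_ff (K43.f575186 IH) (Lpr_bf (K43.f575151 IH) (Lpe (f499040 IH) (Lpn (LP (LK LD1_c16 LD2_c30 LD3_c31))))))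
theorem f489465 : Led Lsl_ct (LP (LK LD1_c13 LD2_c27 LD3_c7)) = (LP (LK LD1_c22 LD2_c46 LD3_c37)) :=
  Lre_c IH (LK LD1_c13 LD2_c27 LD3_c7) (LK LD1_c22 LD2_c46 LD3_c37) Lrfl Lrfl
theorem f575302 : Led Lsl_gt (LP (LK LD1_c22 LD2_c46 LD3_c37)) = (LP (LK LD1_c13 LD2_c38 LD3_c18)) :=
  Lgr Lrot65 (Lpe (f489465 IH) (Lpr_bt (f575188 IH) (Lpr_gf (f575300 IH) (Lpe (f513177 IH) (Lpe (K35.f533544 IH) (Lpe (K35.f147280 IH) (Lpe (K37.f147270 IH) (Lpe (K37.f147288 IH) (Lpe (K43.f147304 IH) (Lpe (K43.f544235 IH) (Lpn (LP (LK LD1_c13 LD2_c38 LD3_c18)))))))))))))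
theorem f499077 : Led Lsl_ft (LP (LK LD1_c8 LD2_c2 LD3_c24)) = (LP (LK LD1_c15 LD2_c8 LD3_c8)) :=
  Lre_f IH (LK LD1_c8 LD2_c2 LD3_c24) (LK LD1_c15 LD2_c8 LD3_c8) Lrfl Lrfl
theorem f590057 : Led Lsl_af (LP (LK LD1_c24 LD2_c46 LD3_c59)) = (LP (LK LD1_c15 LD2_c8 LD3_c8)) :=
  Lgr Lrot45 (Lpr_ft (f590055 IH) (Lpr_at (K44.f499073 IH) (Lpr_ft (f499077 IH) (Lpn (LP (LK LD1_c15 LD2_c8 LD3_c8))))))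
theorem f425772 : Led Lsl_gt (LP (LK LD1_c8 LD2_c2 LD3_c24)) = (LP (LK LD1_c15 LD2_c8 LD3_c7)) :=
  Lre_g IH (LK LD1_c8 LD2_c2 LD3_c24) (LK LD1_c15 LD2_c8 LD3_c7) Lrfl Lrfl
theorem f590105 : Led Lsl_gf (LP (LK LD1_c24 LD2_c46 LD3_c59)) = (LP (LK LD1_c15 LD2_c8 LD3_c7)) :=
  Lgr Lrot76 (Lpr_af (f590057 IH) (Lpe (f499077 IH) (Lpr_gt (f425772 IH) (Lpn (LP (LK LD1_c15 LD2_c8 LD3_c7))))))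
theorem f570658 : Led Lsl_dt (LP (LK LD1_c24 LD2_c56 LD3_c56)) = (LP (LK LD1_c15 LD2_c8 LD3_c7)) :=
  Lre_d IH (LK LD1_c24 LD2_c56 LD3_c56) (LK LD1_c15 LD2_c8 LD3_c7) Lrfl Lrfl
theorem f745310 : Led Lsl_gt (LP (LK LD1_c23 LD2_c4 LD3_c46)) = (LP (LK LD1_c24 LD2_c56 LD3_c56)) :=
  Lgr Lrot137 (Lpe (f481445 IH) (Lpr_dt (f6398 IH) (Lpr_gf (f745308 IH) (Lpe (f560991 IH) (Lpr_et (f560994 IH) (Lpe (f575302 IH) (Lpr_ef (f590014 IH) (Lpe (f590049 IH) (Lpr_gf (f590105 IH) (Lpe (f570658 IH) (Lpn (LP (LK LD1_c24 LD2_c56 LD3_c56)))))))))))))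
theorem f614047 : Led Lsl_ct (LP (LK LD1_c23 LD2_c4 LD3_c46)) = (LP (LK LD1_c13 LD2_c39 LD3_c32)) :=
  Lre_c IH (LK LD1_c23 LD2_c4 LD3_c46) (LK LD1_c13 LD2_c39 LD3_c32) Lrfl Lrfl
theorem f590053 : Led Lsl_dt (LP (LK LD1_c24 LD2_c46 LD3_c59)) = (LP (LK LD1_c22 LD2_c46 LD3_c15)) :=
  Lgr Lrot42 (Lpr_df (f590049 IH) (Lpn (LP (LK LD1_c22 LD2_c46 LD3_c15))))
theorem f589899 : Led Lsl_gt (LP (LK LD1_c22 LD2_c46 LD3_c17)) = (LP (LK LD1_c21 LD2_c14 LD3_c10)) :=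
  Lgr Lrot5 (Lpe (f575208 IH) (Lpe (K28.f426542 IH) (Lpr_gf (f589897 IH) (Lpn (LP (LK LD1_c21 LD2_c14 LD3_c10))))))
theorem f469274 : Led Lsl_bt (LP (LK LD1_c13 LD2_c38 LD3_c12)) = (LP (LK LD1_c23 LD2_c3 LD3_c19)) :=
  Lre_b IH (LK LD1_c13 LD2_c38 LD3_c12) (LK LD1_c23 LD2_c3 LD3_c19) Lrfl Lrfl
theorem f590018 : Led Lsl_gt (LP (LK LD1_c23 LD2_c3 LD3_c19)) = (LP (LK LD1_c22 LD2_c46 LD3_c15)) :=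
  Lgr Lrot164 (Lpe (f469274 IH) (Lpe (K37.f469275 IH) (Lpe (K33.f439571 IH) (Lpe (K39.f439546 IH) (Lpe (K34.f439556 IH) (Lpe (f543703 IH) (Lpr_ct (f543705 IH) (Lpe (f589899 IH) (Lpe (f476571 IH) (Lpr_bt (f590005 IH) (Lpn (LP (LK LD1_c22 LD2_c46 LD3_c15)))))))))))))
theorem f441635 : Led Lsl_bt (LP (LK LD1_c23 LD2_c3 LD3_c19)) = (LP (LK LD1_c13 LD2_c38 LD3_c12)) :=
  Lre_b IH (LK LD1_c23 LD2_c3 LD3_c19) (LK LD1_c13 LD2_c38 LD3_c12) Lrfl Lrfl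
theorem f576646 : Led Lsl_ct (LP (LK LD1_c16 LD2_c24 LD3_c13)) = (LP (LK LD1_c23 LD2_c3 LD3_c19)) :=
  Lgr Lrot83 (Lpe (f576645 IH) (Lpr_cf (K43.f576643 IH) (Lpe (K39.f469284 IH) (Lpr_cf (K37.f469275 IH) (Lpe (f441635 IH) (Lpn (LP (LK LD1_c23 LD2_c3 LD3_c19))))))))
theorem f575122 : Led Lsl_at (LP (LK LD1_c13 LD2_c46 LD3_c24)) = (LP (LK LD1_c21 LD2_c14 LD3_c38)) :=
  Lgr Lrot107 (Lpe (K7.f116618 IH) (Lpe (K36.f426706 IH) (Lpr_cf (K43.f575120 IH) (Lpn (LP (LK LD1_c21 LD2_c14 LD3_c38))))))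
theorem f575167 : Led Lsl_ff (LP (LK LD1_c13 LD2_c46 LD3_c24)) = (LP (LK LD1_c23 LD2_c3 LD3_c45)) :=
  Lgr Lrot25 (Lpr_bt (K41.f94472 IH) (Lpr_ft (K43.f575165 IH) (Lpr_bt (K43.f513518 IH) (Lpn (LP (LK LD1_c23 LD2_c3 LD3_c45))))))
theorem f575365 : Led Lsl_gt (LP (LK LD1_c23 LD2_c3 LD3_c45)) = (LP (LK LD1_c13 LD2_c47 LD3_c9)) :=
  Lgr Lrot5 (Lpe (f575167 IH) (Lpr_at (f575122 IH) (Lpr_gf (K43.f575252 IH) (Lpn (LP (LK LD1_c13 LD2_c47 LD3_c9))))))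
theorem f590022 : Led Lsl_ct (LP (LK LD1_c13 LD2_c38 LD3_c43)) = (LP (LK LD1_c22 LD2_c46 LD3_c15)) :=
  Lgr Lrot63 (Lpr_bt (K43.f513518 IH) (Lpr_gt (f575365 IH) (Lpe (K43.f476556 IH) (Lpr_ct (K43.f476561 IH) (Lpe (K43.f575373 IH) (Lpe (K28.f94470 IH) (Lpr_bt (K7.f94462 IH) (Lpe (f576829 IH) (Lpr_ct (f576646 IH) (Lpr_gt (f590018 IH) (Lpn (LP (LK LD1_c22 LD2_c46 LD3_c15)))))))))))))
theorem f604833 : Led Lsl_cf (LP (LK LD1_c8 LD2_c49 LD3_c44)) = (LP (LK LD1_c9 LD2_c17 LD3_c59)) :=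
  Lgr Lrot11 (Lpr_ct (K50.f604831 IH) (Lpn (LP (LK LD1_c9 LD2_c17 LD3_c59))))
theorem f604841 : Led Lsl_at (LP (LK LD1_c8 LD2_c49 LD3_c44)) = (LP (LK LD1_c13 LD2_c46 LD3_c26)) :=
  Lgr Lrot107 (Lpr_cf (f604833 IH) (Lpr_af (K36.f428105 IH) (Lpe (K50.f604825 IH) (Lpn (LP (LK LD1_c13 LD2_c46 LD3_c26))))))
theorem f590075 : Led Lsl_ft (LP (LK LD1_c16 LD2_c30 LD3_c26)) = (LP (LK LD1_c8 LD2_c49 LD3_c44)) :=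
  Lre_f IH (LK LD1_c16 LD2_c30 LD3_c26) (LK LD1_c8 LD2_c49 LD3_c44) Lrfl Lrfl
theorem f604843 : Led Lsl_af (LP (LK LD1_c16 LD2_c30 LD3_c26)) = (LP (LK LD1_c23 LD2_c3 LD3_c46)) :=
  Lgr Lrot45 (Lpr_ft (f590075 IH) (Lpr_at (f604841 IH) (Lpr_ft (K43.f575163 IH) (Lpn (LP (LK LD1_c23 LD2_c3 LD3_c46))))))
theorem f604849 : Led Lsl_at (LP (LK LD1_c16 LD2_c30 LD3_c26)) = (LP (LK LD1_c23 LD2_c3 LD3_c46)) :=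
  Lgr Lrot100 (Lpr_af (f604843 IH) (Lpn (LP (LK LD1_c23 LD2_c3 LD3_c46))))
theorem f604851 : Led Lsl_df (LP (LK LD1_c16 LD2_c30 LD3_c26)) = (LP (LK LD1_c13 LD2_c27 LD3_c7)) :=
  Lgr Lrot18 (Lpr_at (f604849 IH) (Lpr_dt (K43.f511053 IH) (Lpe (K43.f575171 IH) (Lpn (LP (LK LD1_c13 LD2_c27 LD3_c7))))))
theorem f604845 : Led Lsl_gt (LP (LK LD1_c16 LD2_c30 LD3_c26)) = (LP (LK LD1_c13 LD2_c50 LD3_c44)) :=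
  Lgr Lrot5 (Lpr_ft (f590075 IH) (Lpr_at (f604841 IH) (Lpr_gf (K43.f574916 IH) (Lpn (LP (LK LD1_c13 LD2_c50 LD3_c44))))))
theorem f564694 : Led Lsl_et (LP (LK LD1_c13 LD2_c14 LD3_c26)) = (LP (LK LD1_c13 LD2_c13 LD3_c60)) :=
  Lgr Lrot158 (Lpe (K29.f455473 IH) (Lpr_ef (K41.f564690 IH) (Lpe (K41.f455463 IH) (Lpn (LP (LK LD1_c13 LD2_c13 LD3_c60))))))
theorem f455472 : Led Lsl_dt (LP (LK LD1_c13 LD2_c14 LD3_c26)) = (LP (LK LD1_c22 LD2_c29 LD3_c10)) :=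
  Lre_d IH (LK LD1_c13 LD2_c14 LD3_c26) (LK LD1_c22 LD2_c29 LD3_c10) Lrfl Lrfl
theorem f604855 : Led Lsl_gt (LP (LK LD1_c22 LD2_c29 LD3_c10)) = (LP (LK LD1_c13 LD2_c31 LD3_c1)) :=
  Lgr Lrot112 (Lpe (f455472 IH) (Lpr_et (f564694 IH) (Lpe (K41.f455400 IH) (Lpe (K43.f455376 IH) (Lpe (K43.f464187 IH) (Lpe (f604845 IH) (Lpr_df (f604851 IH) (Lpe (K41.f489463 IH) (Lpe (K33.f489458 IH) (Lpr_dt (K33.f465658 IH) (Lpn (LP (LK LD1_c13 LD2_c31 LD3_c1)))))))))))))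
theorem f470454 : Led Lsl_et (LP (LK LD1_c13 LD2_c29 LD3_c47)) = (LP (LK LD1_c7 LD2_c7 LD3_c21)) :=
  Lre_e IH (LK LD1_c13 LD2_c29 LD3_c47) (LK LD1_c7 LD2_c7 LD3_c21) Lrfl Lrfl
theorem f575184 : Led Lsl_ef (LP (LK LD1_c13 LD2_c27 LD3_c7)) = (LP (LK LD1_c13 LD2_c38 LD3_c43)) :=
  Lgr Lrot21 (Lpr_ft (K43.f575175 IH) (Lpr_et (K28.f5556 IH) (Lpr_ft (K36.f426669 IH) (Lpr_et (K28.f426677 IH) (Lpr_ft (K43.f575165 IH) (Lpn (LP (LK LD1_c13 LD2_c38 LD3_c43))))))))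
theorem f604859 : Led Lsl_gf (LP (LK LD1_c13 LD2_c47 LD3_c24)) = (LP (LK LD1_c23 LD2_c3 LD3_c46)) :=
  Lgr Lrot145 (Lpe (K43.f471022 IH) (Lpr_et (f470454 IH) (Lpe (K29.f470500 IH) (Lpr_dt (f455472 IH) (Lpr_gt (f604855 IH) (Lpe (K33.f465658 IH) (Lpr_et (K33.f489458 IH) (Lpr_gt (K41.f489463 IH) (Lpr_ef (f575184 IH) (Lpr_dt (K43.f470730 IH) (Lpn (LP (LK LD1_c23 LD2_c3 LD3_c46)))))))))))))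
theorem f471026 : Led Lsl_at (LP (LK LD1_c13 LD2_c50 LD3_c44)) = (LP (LK LD1_c13 LD2_c47 LD3_c24)) :=
  Lgr Lrot100 (Lpr_af (K43.f471024 IH) (Lpn (LP (LK LD1_c13 LD2_c47 LD3_c24))))
theorem f470765 : Led Lsl_bt (LP (LK LD1_c7 LD2_c17 LD3_c14)) = (LP (LK LD1_c13 LD2_c47 LD3_c13)) :=
  Lre_b IH (LK LD1_c7 LD2_c17 LD3_c14) (LK LD1_c13 LD2_c47 LD3_c13) Lrfl Lrfl
theorem f470766 : Led Lsl_ff (LP (LK LD1_c13 LD2_c50 LD3_c44)) = (LP (LK LD1_c13 LD2_c47 LD3_c13)) :=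
  Lgr Lrot25 (Lpr_bt (K43.f439427 IH) (Lpr_ft (K33.f470761 IH) (Lpr_bt (f470765 IH) (Lpn (LP (LK LD1_c13 LD2_c47 LD3_c13))))))
theorem f604861 : Led Lsl_gt (LP (LK LD1_c13 LD2_c47 LD3_c13)) = (LP (LK LD1_c23 LD2_c3 LD3_c46)) :=
  Lgr Lrot5 (Lpe (f470766 IH) (Lpr_at (f471026 IH) (Lpr_gf (f604859 IH) (Lpn (LP (LK LD1_c23 LD2_c3 LD3_c46))))))
theorem f470768 : Led Lsl_df (LP (LK LD1_c6 LD2_c58 LD3_c13)) = (LP (LK LD1_c7 LD2_c17 LD3_c14)) :=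
  Lgr Lrot78 (Lpr_ft (K29.f455364 IH) (Lpe (K28.f464189 IH) (Lpr_ft (K33.f470761 IH) (Lpn (LP (LK LD1_c7 LD2_c17 LD3_c14))))))
theorem f470775 : Led Lsl_dt (LP (LK LD1_c13 LD2_c14 LD3_c1)) = (LP (LK LD1_c13 LD2_c47 LD3_c13)) :=
  Lgr Lrot79 (Lpe (K43.f455372 IH) (Lpr_df (f470768 IH) (Lpe (K43.f439608 IH) (Lpn (LP (LK LD1_c13 LD2_c47 LD3_c13))))))
theorem f745312 : Led Lsl_gt (LP (LK LD1_c13 LD2_c39 LD3_c32)) = (LP (LK LD1_c13 LD2_c14 LD3_c1)) :=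
  Lgr Lrot94 (Lpe (f614047 IH) (Lpr_gt (f745310 IH) (Lpr_dt (f570658 IH) (Lpe (f590105 IH) (Lpr_dt (f590053 IH) (Lpe (f590022 IH) (Lpe (K43.f511053 IH) (Lpe (f604861 IH) (Lpe (f470775 IH) (Lpn (LP (LK LD1_c13 LD2_c14 LD3_c1))))))))))))
theorem f455456 : Led Lsl_bf (LP (LK LD1_c3 LD2_c27 LD3_c61)) = (LP (LK LD1_c3 LD2_c27 LD3_c61)) :=
  Lgr Lrot93 (Lpr_dt (K28.f446476 IH) (Lpr_bt (K41.f455452 IH) (Lpr_dt (K29.f446464 IH) (Lpn (LP (LK LD1_c3 LD2_c27 LD3_c61))))))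
theorem f455381 : Led Lsl_bt (LP (LK LD1_c13 LD2_c14 LD3_c1)) = (LP (LK LD1_c6 LD2_c58 LD3_c13)) :=
  Lre_b IH (LK LD1_c13 LD2_c14 LD3_c1) (LK LD1_c6 LD2_c58 LD3_c13) Lrfl Lrfl
theorem f455458 : Led Lsl_ct (LP (LK LD1_c13 LD2_c14 LD3_c1)) = (LP (LK LD1_c13 LD2_c14 LD3_c1)) :=
  Lgr Lrot83 (Lpe (K43.f455372 IH) (Lpe (K29.f455356 IH) (Lpr_bf (f455456 IH) (Lpe (K29.f455368 IH) (Lpe (f455381 IH) (Lpn (LP (LK LD1_c13 LD2_c14 LD3_c1))))))))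
def v6730 : LQ := Led Lsl_gf (LP (LK LD1_c3 LD2_c28 LD3_c3))
theorem f658097 : Led Lsl_gf (LP (LK LD1_c3 LD2_c28 LD3_c3)) = v6730 :=
  Lrfl
theorem f658098 : Led Lsl_gt (LP (LK LD1_c6 LD2_c58 LD3_c13)) = v6730 :=
  Lgr Lrot5 (Lpr_ft (K29.f455364 IH) (Lpr_at (K29.f446485 IH) (Lpr_gf (f658097 IH) (Lpn v6730))))
theorem f462166 : Led Lsl_gt (LP (LK LD1_c6 LD2_c58 LD3_c21)) = (LP (LK LD1_c3 LD2_c38 LD3_c27)) :=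
  Lgr Lrot112 (Lpe (K32.f446481 IH) (Lpr_et (K32.f455307 IH) (Lpr_gf (K28.f462041 IH) (Lpe (K30.f108046 IH) (Lpr_dt (K3.f10501 IH) (Lpe (K28.f128244 IH) (Lpr_df (K0.f4986 IH) (Lpe (K2.f5813 IH) (Lpe (K3.f5816 IH) (Lpr_dt (K28.f5817 IH) (Lpn (LP (LK LD1_c3 LD2_c38 LD3_c27)))))))))))))
theorem f658101 : Led Lsl_cf (LP (LK LD1_c3 LD2_c53 LD3_c8)) = v6730 :=
  Lgr Lrot166 (Lpr_gt (K30.f129897 IH) (Lpr_dt (K28.f129815 IH) (Lpe (K28.f468084 IH) (Lpe (K28.f106121 IH) (Lpr_ct (K3.f18021 IH) (Lpe (K28.f18035 IH) (Lpe (f462166 IH) (Lpe (K32.f446481 IH) (Lpr_gf (f658097 IH) (Lpn v6730))))))))))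
theorem f461970 : Led Lsl_bt (LP (LK LD1_c3 LD2_c53 LD3_c9)) = (LP (LK LD1_c7 LD2_c48 LD3_c4)) :=
  Lre_b IH (LK LD1_c3 LD2_c53 LD3_c9) (LK LD1_c7 LD2_c48 LD3_c4) Lrfl Lrfl
theorem f462034 : Led Lsl_gt (LP (LK LD1_c7 LD2_c48 LD3_c4)) = (LP (LK LD1_c14 LD2_c43 LD3_c10)) :=
  Lre_g IH (LK LD1_c7 LD2_c48 LD3_c4) (LK LD1_c14 LD2_c43 LD3_c10) Lrfl Lrfl
theorem f745314 : Led Lsl_bt (LP (LK LD1_c23 LD2_c4 LD3_c46)) = (LP (LK LD1_c14 LD2_c43 LD3_c10)) :=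
  Lgr Lrot92 (Lpr_ct (f614047 IH) (Lpr_gt (f745312 IH) (Lpe (f455458 IH) (Lpr_bt (f455381 IH) (Lpr_gt (f658098 IH) (Lpe (f658101 IH) (Lpr_gt (K30.f129897 IH) (Lpe (K28.f129890 IH) (Lpr_bt (f461970 IH) (Lpr_gt (f462034 IH) (Lpn (LP (LK LD1_c14 LD2_c43 LD3_c10)))))))))))))
theorem f745315 : Led Lsl_bt (LP (LK LD1_c23 LD2_c4 LD3_c46)) = (LP (LK LD1_c14 LD2_c43 LD3_c10)) :=
  Leop (Lpe (f745314 IH) (Lpn (LP (LK LD1_c23 LD2_c4 LD3_c46))))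
theorem seed_974 : LEOK LG_b (LK LD1_c23 LD2_c4 LD3_c46) :=
  Leoe_b (LK LD1_c23 LD2_c4 LD3_c46) (f745315 IH)
theorem f745323 : Led Lsl_ef (LP (LK LD1_c13 LD2_c43 LD3_c27)) = (LP (LK LD1_c14 LD2_c43 LD3_c10)) :=
  Lgr Lrot29 (Lpr_bt (K40.f481014 IH) (Lpr_et (f481445 IH) (Lpr_bt (f745314 IH) (Lpn (LP (LK LD1_c14 LD2_c43 LD3_c10))))))
theorem f482354 : Led Lsl_et (LP (LK LD1_c13 LD2_c10 LD3_c6)) = (LP (LK LD1_c22 LD2_c22 LD3_c41)) :=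
  Lre_e IH (LK LD1_c13 LD2_c10 LD3_c6) (LK LD1_c22 LD2_c22 LD3_c41) Lrfl Lrfl
theorem f745325 : Led Lsl_ct (LP (LK LD1_c22 LD2_c22 LD3_c41)) = (LP (LK LD1_c14 LD2_c43 LD3_c10)) :=
  Lgr Lrot15 (Lpe (f482354 IH) (Lpr_cf (K29.f482343 IH) (Lpr_ef (f745323 IH) (Lpn (LP (LK LD1_c14 LD2_c43 LD3_c10))))))
theorem f745331 : Led Lsl_bt (LP (LK LD1_c22 LD2_c22 LD3_c41)) = (LP (LK LD1_c13 LD2_c10 LD3_c9)) :=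
  Lre_b IH (LK LD1_c22 LD2_c22 LD3_c41) (LK LD1_c13 LD2_c10 LD3_c9) Lrfl Lrfl
def v7675 : LQ := Led Lsl_gt (LP (LK LD1_c3 LD2_c54 LD3_c38))
theorem f667663 : Led Lsl_gt (LP (LK LD1_c3 LD2_c54 LD3_c38)) = v7675 :=
  Lrfl
theorem f664539 : Led Lsl_ft (LP (LK LD1_c3 LD2_c54 LD3_c38)) = K48.v7321 :=
  Lgr Lrot48 (Lpr_ff (K48.f664536 IH) (Lpn K48.v7321))
theorem f664532 : Led Lsl_af (LP (LK LD1_c7 LD2_c37 LD3_c41)) = K48.v7321 :=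
  Lgr Lrot50 (Lpe (K48.f526758 IH) (Lpe (K48.f524177 IH) (Lpr_et (K48.f664531 IH) (Lpn K48.v7321))))
theorem f667665 : Led Lsl_gf (LP (LK LD1_c7 LD2_c37 LD3_c41)) = v7675 :=
  Lgr Lrot76 (Lpr_af (f664532 IH) (Lpe (f664539 IH) (Lpr_gt (f667663 IH) (Lpn v7675))))
theorem f530498 : Led Lsl_at (LP (LK LD1_c7 LD2_c25 LD3_c34)) = (LP (LK LD1_c3 LD2_c53 LD3_c25)) :=
  Lgr Lrot100 (Lpr_af (K41.f530496 IH) (Lpn (LP (LK LD1_c3 LD2_c53 LD3_c25))))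
theorem f667666 : Led Lsl_ff (LP (LK LD1_c7 LD2_c25 LD3_c34)) = v7675 :=
  Lgr Lrot52 (Lpr_at (f530498 IH) (Lpr_gf (K48.f661965 IH) (Lpr_gf (f667665 IH) (Lpn v7675))))
theorem f478958 : Led Lsl_et (LP (LK LD1_c7 LD2_c43 LD3_c35)) = (LP (LK LD1_c3 LD2_c51 LD3_c6)) :=
  Lre_e IH (LK LD1_c7 LD2_c43 LD3_c35) (LK LD1_c3 LD2_c51 LD3_c6) Lrfl Lrfl
theorem f91027 : Led Lsl_et (LP (LK LD1_c7 LD2_c42 LD3_c58)) = (LP (LK LD1_c14 LD2_c32 LD3_c40)) :=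
  Lre_e IH (LK LD1_c7 LD2_c42 LD3_c58) (LK LD1_c14 LD2_c32 LD3_c40) Lrfl Lrfl
theorem f531084 : Led Lsl_af (LP (LK LD1_c7 LD2_c43 LD3_c35)) = (LP (LK LD1_c14 LD2_c32 LD3_c40)) :=
  Lgr Lrot50 (Lpr_et (f478958 IH) (Lpr_at (K49.f531075 IH) (Lpr_et (f91027 IH) (Lpn (LP (LK LD1_c14 LD2_c32 LD3_c40))))))
theorem f531027 : Led Lsl_ft (LP (LK LD1_c7 LD2_c43 LD3_c35)) = (LP (LK LD1_c14 LD2_c34 LD3_c2)) :=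
  Lre_f IH (LK LD1_c7 LD2_c43 LD3_c35) (LK LD1_c14 LD2_c34 LD3_c2) Lrfl Lrfl
theorem f527186 : Led Lsl_ft (LP (LK LD1_c24 LD2_c15 LD3_c2)) = (LP (LK LD1_c14 LD2_c32 LD3_c40)) :=
  Lre_f IH (LK LD1_c24 LD2_c15 LD3_c2) (LK LD1_c14 LD2_c32 LD3_c40) Lrfl Lrfl
theorem f531092 : Led Lsl_at (LP (LK LD1_c14 LD2_c34 LD3_c2)) = (LP (LK LD1_c24 LD2_c15 LD3_c2)) :=
  Lgr Lrot66 (Lpe (f531027 IH) (Lpr_af (f531084 IH) (Lpe (f527186 IH) (Lpn (LP (LK LD1_c24 LD2_c15 LD3_c2))))))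
theorem f531102 : Led Lsl_dt (LP (LK LD1_c24 LD2_c16 LD3_c38)) = (LP (LK LD1_c14 LD2_c34 LD3_c2)) :=
  Lre_d IH (LK LD1_c24 LD2_c16 LD3_c38) (LK LD1_c14 LD2_c34 LD3_c2) Lrfl Lrfl
theorem f15351 : Led Lsl_dt (LP (LK LD1_c1 LD2_c52 LD3_c27)) = (LP (LK LD1_c3 LD2_c51 LD3_c13)) :=
  Lre_d IH (LK LD1_c1 LD2_c52 LD3_c27) (LK LD1_c3 LD2_c51 LD3_c13) Lrfl Lrfl
theorem f18675 : Led Lsl_et (LP (LK LD1_c7 LD2_c1 LD3_c56)) = (LP (LK LD1_c6 LD2_c51 LD3_c37)) :=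
  Lgr Lrot74 (Lpe (K24.f18674 IH) (Lpr_ef (K2.f18663 IH) (Lpe (K2.f15817 IH) (Lpn (LP (LK LD1_c6 LD2_c51 LD3_c37))))))
theorem f18987 : Led Lsl_dt (LP (LK LD1_c7 LD2_c1 LD3_c56)) = (LP (LK LD1_c13 LD2_c20 LD3_c15)) :=
  Lre_d IH (LK LD1_c7 LD2_c1 LD3_c56) (LK LD1_c13 LD2_c20 LD3_c15) Lrfl Lrfl
theorem f18988 : Led Lsl_gt (LP (LK LD1_c13 LD2_c20 LD3_c15)) = (LP (LK LD1_c7 LD2_c2 LD3_c3)) :=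
  Lre_g IH (LK LD1_c13 LD2_c20 LD3_c15) (LK LD1_c7 LD2_c2 LD3_c3) Lrfl Lrfl
theorem f527162 : Led Lsl_df (LP (LK LD1_c7 LD2_c2 LD3_c3)) = (LP (LK LD1_c7 LD2_c11 LD3_c15)) :=
  Lgr Lrot168 (Lpe (f18988 IH) (Lpe (f18987 IH) (Lpr_et (f18675 IH) (Lpe (K34.f15833 IH) (Lpe (K34.f18989 IH) (Lpe (K34.f90988 IH) (Lpe (K29.f15371 IH) (Lpe (f15351 IH) (Lpe (K34.f17098 IH) (Lpr_ef (K41.f527156 IH) (Lpn (LP (LK LD1_c7 LD2_c11 LD3_c15)))))))))))))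
theorem f527169 : Led Lsl_et (LP (LK LD1_c7 LD2_c2 LD3_c3)) = (LP (LK LD1_c13 LD2_c20 LD3_c33)) :=
  Lre_e IH (LK LD1_c7 LD2_c2 LD3_c3) (LK LD1_c13 LD2_c20 LD3_c33) Lrfl Lrfl
theorem f527160 : Led Lsl_et (LP (LK LD1_c3 LD2_c50 LD3_c54)) = (LP (LK LD1_c7 LD2_c11 LD3_c15)) :=
  Lgr Lrot87 (Lpr_ef (K41.f527156 IH) (Lpn (LP (LK LD1_c7 LD2_c11 LD3_c15))))
theorem f91026 : Led Lsl_dt (LP (LK LD1_c7 LD2_c42 LD3_c58)) = (LP (LK LD1_c3 LD2_c50 LD3_c54)) :=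
  Lre_d IH (LK LD1_c7 LD2_c42 LD3_c58) (LK LD1_c3 LD2_c50 LD3_c54) Lrfl Lrfl
theorem f467628 : Led Lsl_et (LP (LK LD1_c14 LD2_c32 LD3_c40)) = (LP (LK LD1_c7 LD2_c42 LD3_c58)) :=
  Lre_e IH (LK LD1_c14 LD2_c32 LD3_c40) (LK LD1_c7 LD2_c42 LD3_c58) Lrfl Lrfl
theorem f527170 : Led Lsl_dt (LP (LK LD1_c13 LD2_c20 LD3_c33)) = (LP (LK LD1_c14 LD2_c32 LD3_c40)) :=
  Lgr Lrot77 (Lpe (f527169 IH) (Lpr_df (f527162 IH) (Lpe (f527160 IH) (Lpe (f91026 IH) (Lpe (f467628 IH) (Lpn (LP (LK LD1_c14 LD2_c32 LD3_c40))))))))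
theorem f527176 : Led Lsl_ft (LP (LK LD1_c22 LD2_c36 LD3_c61)) = (LP (LK LD1_c13 LD2_c20 LD3_c33)) :=
  Lre_f IH (LK LD1_c22 LD2_c36 LD3_c61) (LK LD1_c13 LD2_c20 LD3_c33) Lrfl Lrfl
theorem f527177 : Led Lsl_ft (LP (LK LD1_c14 LD2_c32 LD3_c40)) = (LP (LK LD1_c24 LD2_c15 LD3_c2)) :=
  Lre_f IH (LK LD1_c14 LD2_c32 LD3_c40) (LK LD1_c24 LD2_c15 LD3_c2) Lrfl Lrfl
theorem f527178 : Led Lsl_df (LP (LK LD1_c22 LD2_c36 LD3_c61)) = (LP (LK LD1_c24 LD2_c15 LD3_c2)) :=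
  Lgr Lrot78 (Lpr_ft (f527176 IH) (Lpr_dt (f527170 IH) (Lpr_ft (f527177 IH) (Lpn (LP (LK LD1_c24 LD2_c15 LD3_c2))))))
theorem f531103 : Led Lsl_af (LP (LK LD1_c24 LD2_c16 LD3_c38)) = (LP (LK LD1_c22 LD2_c36 LD3_c61)) :=
  Lgr Lrot117 (Lpr_dt (f531102 IH) (Lpr_at (f531092 IH) (Lpe (f527178 IH) (Lpn (LP (LK LD1_c22 LD2_c36 LD3_c61))))))
theorem f531107 : Led Lsl_at (LP (LK LD1_c24 LD2_c16 LD3_c38)) = (LP (LK LD1_c22 LD2_c36 LD3_c61)) :=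
  Lgr Lrot100 (Lpr_af (f531103 IH) (Lpn (LP (LK LD1_c22 LD2_c36 LD3_c61))))
theorem f531113 : Led Lsl_ft (LP (LK LD1_c14 LD2_c34 LD3_c1)) = (LP (LK LD1_c24 LD2_c16 LD3_c38)) :=
  Lre_f IH (LK LD1_c14 LD2_c34 LD3_c1) (LK LD1_c24 LD2_c16 LD3_c38) Lrfl Lrfl
theorem f531114 : Led Lsl_af (LP (LK LD1_c14 LD2_c34 LD3_c1)) = (LP (LK LD1_c13 LD2_c20 LD3_c33)) :=
  Lgr Lrot45 (Lpr_ft (f531113 IH) (Lpr_at (f531107 IH) (Lpr_ft (f527176 IH) (Lpn (LP (LK LD1_c13 LD2_c20 LD3_c33))))))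
theorem f91742 : Led Lsl_et (LP (LK LD1_c14 LD2_c34 LD3_c1)) = (LP (LK LD1_c7 LD2_c43 LD3_c36)) :=
  Lre_e IH (LK LD1_c14 LD2_c34 LD3_c1) (LK LD1_c7 LD2_c43 LD3_c36) Lrfl Lrfl
theorem f531119 : Led Lsl_at (LP (LK LD1_c7 LD2_c43 LD3_c36)) = (LP (LK LD1_c7 LD2_c2 LD3_c3)) :=
  Lgr Lrot80 (Lpe (f91742 IH) (Lpr_af (f531114 IH) (Lpe (f527169 IH) (Lpn (LP (LK LD1_c7 LD2_c2 LD3_c3))))))
theorem f18947 : Led Lsl_gt (LP (LK LD1_c7 LD2_c2 LD3_c2)) = (LP (LK LD1_c13 LD2_c20 LD3_c15)) :=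
  Lre_g IH (LK LD1_c7 LD2_c2 LD3_c2) (LK LD1_c13 LD2_c20 LD3_c15) Lrfl Lrfl
theorem f531123 : Led Lsl_ff (LP (LK LD1_c7 LD2_c43 LD3_c36)) = (LP (LK LD1_c7 LD2_c2 LD3_c2)) :=
  Lgr Lrot52 (Lpr_at (f531119 IH) (Lpe (f18988 IH) (Lpe (f18947 IH) (Lpn (LP (LK LD1_c7 LD2_c2 LD3_c2))))))
theorem f91732 : Led Lsl_dt (LP (LK LD1_c7 LD2_c43 LD3_c36)) = (LP (LK LD1_c3 LD2_c51 LD3_c7)) :=
  Lre_d IH (LK LD1_c7 LD2_c43 LD3_c36) (LK LD1_c3 LD2_c51 LD3_c7) Lrfl Lrfl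
theorem f456761 : Led Lsl_gt (LP (LK LD1_c3 LD2_c35 LD3_c2)) = (LP (LK LD1_c7 LD2_c11 LD3_c14)) :=
  Lre_g IH (LK LD1_c3 LD2_c35 LD3_c2) (LK LD1_c7 LD2_c11 LD3_c14) Lrfl Lrfl
theorem f484252 : Led Lsl_df (LP (LK LD1_c7 LD2_c2 LD3_c2)) = (LP (LK LD1_c7 LD2_c11 LD3_c14)) :=
  Lgr Lrot135 (Lpr_gt (f18947 IH) (Lpe (f18987 IH) (Lpr_et (f18675 IH) (Lpr_gt (K28.f15837 IH) (Lpe (K49.f18990 IH) (Lpr_dt (K49.f484241 IH) (Lpr_gt (K49.f450800 IH) (Lpe (K33.f456132 IH) (Lpr_et (K46.f456135 IH) (Lpr_gt (f456761 IH) (Lpn (LP (LK LD1_c7 LD2_c11 LD3_c14)))))))))))))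
theorem f531129 : Led Lsl_ft (LP (LK LD1_c3 LD2_c51 LD3_c7)) = (LP (LK LD1_c7 LD2_c11 LD3_c14)) :=
  Lgr Lrot54 (Lpe (f91732 IH) (Lpr_ff (f531123 IH) (Lpr_df (f484252 IH) (Lpn (LP (LK LD1_c7 LD2_c11 LD3_c14))))))
theorem f667667 : Led Lsl_ct (LP (LK LD1_c7 LD2_c11 LD3_c14)) = v7675 :=
  Lgr Lrot40 (Lpe (f531129 IH) (Lpr_cf (K41.f471217 IH) (Lpr_ff (f667666 IH) (Lpn v7675))))
theorem f484259 : Led Lsl_bt (LP (LK LD1_c7 LD2_c11 LD3_c14)) = (LP (LK LD1_c13 LD2_c37 LD3_c4)) :=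
  Lre_b IH (LK LD1_c7 LD2_c11 LD3_c14) (LK LD1_c13 LD2_c37 LD3_c4) Lrfl Lrfl
theorem f745333 : Led Lsl_gt (LP (LK LD1_c13 LD2_c10 LD3_c9)) = (LP (LK LD1_c13 LD2_c37 LD3_c4)) :=
  Lgr Lrot164 (Lpe (f745331 IH) (Lpr_ct (f745325 IH) (Lpe (f462034 IH) (Lpe (K48.f129862 IH) (Lpe (K48.f129872 IH) (Lpr_bf (K48.f668043 IH) (Lpe (K48.f668037 IH) (Lpr_gf (f667665 IH) (Lpe (f667667 IH) (Lpr_bt (f484259 IH) (Lpn (LP (LK LD1_c13 LD2_c37 LD3_c4)))))))))))))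
theorem f745334 : Led Lsl_gt (LP (LK LD1_c13 LD2_c10 LD3_c9)) = (LP (LK LD1_c13 LD2_c37 LD3_c4)) :=
  Leop (Lpe (f745333 IH) (Lpn (LP (LK LD1_c13 LD2_c10 LD3_c9))))
theorem seed_975 : LEOK LG_g (LK LD1_c13 LD2_c10 LD3_c9) :=
  Leoe_g (LK LD1_c13 LD2_c10 LD3_c9) (f745334 IH)
def v16091 : LQ := Led Lsl_gt (LP (LK LD1_c5 LD2_c52 LD3_c24))
theorem f745979 : Led Lsl_gt (LP (LK LD1_c5 LD2_c52 LD3_c24)) = v16091 :=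
  Lrfl
theorem f22547 : Led Lsl_ct (LP (LK LD1_c2 LD2_c52 LD3_c30)) = (LP (LK LD1_c5 LD2_c52 LD3_c24)) :=
  Lre_c IH (LK LD1_c2 LD2_c52 LD3_c30) (LK LD1_c5 LD2_c52 LD3_c24) Lrfl Lrfl
def v4981 : LQ := Led Lsl_gf (LP (LK LD1_c2 LD2_c54 LD3_c55))
theorem f641166 : Led Lsl_gf (LP (LK LD1_c2 LD2_c54 LD3_c55)) = v4981 :=
  Lrfl
theorem f599517 : Led Lsl_at (LP (LK LD1_c4 LD2_c37 LD3_c34)) = (LP (LK LD1_c9 LD2_c10 LD3_c12)) :=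
  Lre_a IH (LK LD1_c4 LD2_c37 LD3_c34) (LK LD1_c9 LD2_c10 LD3_c12) Lrfl Lrfl
theorem f599563 : Led Lsl_ft (LP (LK LD1_c9 LD2_c10 LD3_c49)) = (LP (LK LD1_c4 LD2_c37 LD3_c34)) :=
  Lre_f IH (LK LD1_c9 LD2_c10 LD3_c49) (LK LD1_c4 LD2_c37 LD3_c34) Lrfl Lrfl
theorem f614727 : Led Lsl_gf (LP (LK LD1_c5 LD2_c57 LD3_c24)) = (LP (LK LD1_c9 LD2_c10 LD3_c49)) :=
  Lgr Lrot47 (Lpr_gt (K48.f614725 IH) (Lpe (f599517 IH) (Lpe (f599563 IH) (Lpn (LP (LK LD1_c9 LD2_c10 LD3_c49))))))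
theorem f641168 : Led Lsl_af (LP (LK LD1_c2 LD2_c54 LD3_c55)) = K45.v4982 :=
  Lgr Lrot0 (Lpr_at (K45.f641167 IH) (Lpn K45.v4982))
theorem f641173 : Led Lsl_gt (LP (LK LD1_c9 LD2_c9 LD3_c6)) = v4981 :=
  Lgr Lrot5 (Lpr_ft (K45.f641172 IH) (Lpe (f641168 IH) (Lpr_gf (f641166 IH) (Lpn v4981))))
theorem f642401 : (LP (LK LD1_c4 LD2_c37 LD3_c35)) = v4981 :=
  (Llr Lrot135 (Lpr_dt (f599509 IH) (Lpe (f614727 IH) (Lpe (K42.f435454 IH) (Lpr_et (K42.f614721 IH) (Lpr_gt (K42.f207328 IH) (Lpe (K50.f206894 IH) (Lpr_dt (K35.f207099 IH) (Lpr_gt (K46.f207240 IH) (Lpe (K46.f207245 IH) (Lpr_et (K46.f642393 IH) (Lpr_gt (f641173 IH) (Lpn v4981))))))))))))).symm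
theorem f745981 : Led Lsl_ct (LP (LK LD1_c9 LD2_c10 LD3_c26)) = v16091 :=
  Lgr Lrot63 (Lpr_bt (f599510 IH) (Lpqs (f642401 IH) (Lpe (f641166 IH) (Lpe (f22546 IH) (Lpr_ct (f22543 IH) (Lpr_gt (K0.f22542 IH) (Lpr_cf (K7.f22493 IH) (Lpr_bt (K45.f22539 IH) (Lpr_gt (K42.f22544 IH) (Lpr_ct (f22547 IH) (Lpr_gt (f745979 IH) (Lpn v16091))))))))))))
theorem f711405 : Led Lsl_dt (LP (LK LD1_c20 LD2_c39 LD3_c51)) = (LP (LK LD1_c17 LD2_c23 LD3_c30)) :=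
  Lgr Lrot42 (Lpr_df (K52.f711290 IH) (Lpn (LP (LK LD1_c17 LD2_c23 LD3_c30))))
theorem f641766 : Led Lsl_et (LP (LK LD1_c20 LD2_c39 LD3_c51)) = (LP (LK LD1_c11 LD2_c39 LD3_c50)) :=
  Lre_e IH (LK LD1_c20 LD2_c39 LD3_c51) (LK LD1_c11 LD2_c39 LD3_c50) Lrfl Lrfl
theorem f105080 : Led Lsl_dt (LP (LK LD1_c4 LD2_c46 LD3_c39)) = (LP (LK LD1_c9 LD2_c25 LD3_c59)) :=
  Lre_d IH (LK LD1_c4 LD2_c46 LD3_c39) (LK LD1_c9 LD2_c25 LD3_c59) Lrfl Lrfl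
theorem f139226 : Led Lsl_et (LP (LK LD1_c3 LD2_c0 LD3_c36)) = (LP (LK LD1_c6 LD2_c8 LD3_c35)) :=
  Lre_e IH (LK LD1_c3 LD2_c0 LD3_c36) (LK LD1_c6 LD2_c8 LD3_c35) Lrfl Lrfl
theorem f711415 : Led Lsl_gf (LP (LK LD1_c11 LD2_c39 LD3_c50)) = (LP (LK LD1_c6 LD2_c8 LD3_c35)) :=
  Lgr Lrot141 (Lpe (f641766 IH) (Lpr_dt (f711405 IH) (Lpr_gt (K52.f139231 IH) (Lpe (f105080 IH) (Lpr_et (K52.f105079 IH) (Lpr_gt (K4.f105024 IH) (Lpr_dt (K4.f105023 IH) (Lpr_gt (K6.f99080 IH) (Lpe (K8.f139184 IH) (Lpr_et (f139226 IH) (Lpn (LP (LK LD1_c6 LD2_c8 LD3_c35)))))))))))))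
theorem f139152 : Led Lsl_et (LP (LK LD1_c4 LD2_c58 LD3_c32)) = (LP (LK LD1_c9 LD2_c47 LD3_c40)) :=
  Lre_e IH (LK LD1_c4 LD2_c58 LD3_c32) (LK LD1_c9 LD2_c47 LD3_c40) Lrfl Lrfl
theorem f75283 : Led Lsl_et (LP (LK LD1_c6 LD2_c8 LD3_c35)) = (LP (LK LD1_c3 LD2_c0 LD3_c36)) :=
  Lre_e IH (LK LD1_c6 LD2_c8 LD3_c35) (LK LD1_c3 LD2_c0 LD3_c36) Lrfl Lrfl
theorem f139153 : Led Lsl_ct (LP (LK LD1_c9 LD2_c47 LD3_c40)) = (LP (LK LD1_c6 LD2_c8 LD3_c35)) :=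
  Lgr Lrot15 (Lpe (f139152 IH) (Lpr_cf (K6.f139146 IH) (Lpe (f75283 IH) (Lpn (LP (LK LD1_c6 LD2_c8 LD3_c35))))))
theorem f745983 : Led Lsl_gf (LP (LK LD1_c5 LD2_c52 LD3_c28)) = v16091 :=
  Lgr Lrot126 (Lpe (K53.f436235 IH) (Lpr_bt (K53.f622555 IH) (Lpr_gt (K53.f719096 IH) (Lpr_ct (f139153 IH) (Lpe (f711415 IH) (Lpe (K41.f507067 IH) (Lpe (K45.f507782 IH) (Lpr_gt (f641173 IH) (Lpq (f642401 IH) (Lpe (f599510 IH) (Lpr_ct (f745981 IH) (Lpn v16091))))))))))))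
def v15970 : LQ := Led Lsl_gt (LP (LK LD1_c5 LD2_c50 LD3_c43))
theorem f744469 : Led Lsl_gt (LP (LK LD1_c5 LD2_c50 LD3_c43)) = v15970 :=
  Lrfl
theorem f406397 : Led Lsl_ft (LP (LK LD1_c5 LD2_c50 LD3_c43)) = (LP (LK LD1_c11 LD2_c29 LD3_c11)) :=
  Lre_f IH (LK LD1_c5 LD2_c50 LD3_c43) (LK LD1_c11 LD2_c29 LD3_c11) Lrfl Lrfl
theorem f599525 : Led Lsl_ft (LP (LK LD1_c4 LD2_c37 LD3_c24)) = (LP (LK LD1_c9 LD2_c10 LD3_c26)) :=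
  Lre_f IH (LK LD1_c4 LD2_c37 LD3_c24) (LK LD1_c9 LD2_c10 LD3_c26) Lrfl Lrfl
theorem f599530 : Led Lsl_dt (LP (LK LD1_c9 LD2_c10 LD3_c26)) = (LP (LK LD1_c6 LD2_c3 LD3_c40)) :=
  Lgr Lrot60 (Lpe (f599525 IH) (Lpr_df (f599522 IH) (Lpe (K49.f268357 IH) (Lpn (LP (LK LD1_c6 LD2_c3 LD3_c40))))))
theorem f494557 : Led Lsl_dt (LP (LK LD1_c11 LD2_c29 LD3_c11)) = (LP (LK LD1_c9 LD2_c14 LD3_c18)) :=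
  Lgr Lrot60 (Lpe (f406397 IH) (Lpr_df (K30.f494539 IH) (Lpe (K36.f268277 IH) (Lpn (LP (LK LD1_c9 LD2_c14 LD3_c18))))))
theorem f494564 : Led Lsl_df (LP (LK LD1_c11 LD2_c29 LD3_c11)) = (LP (LK LD1_c9 LD2_c14 LD3_c18)) :=
  Lgr Lrot38 (Lpr_dt (f494557 IH) (Lpn (LP (LK LD1_c9 LD2_c14 LD3_c18))))
theorem f599546 : Led Lsl_af (LP (LK LD1_c9 LD2_c10 LD3_c26)) = (LP (LK LD1_c11 LD2_c29 LD3_c11)) :=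
  Lgr Lrot117 (Lpr_dt (f599530 IH) (Lpr_at (K49.f268345 IH) (Lpe (f494564 IH) (Lpn (LP (LK LD1_c11 LD2_c29 LD3_c11))))))
theorem f744470 : Led Lsl_gf (LP (LK LD1_c9 LD2_c10 LD3_c26)) = v15970 :=
  Lgr Lrot76 (Lpr_af (f599546 IH) (Lpe (f406397 IH) (Lpr_gt (f744469 IH) (Lpn v15970))))
theorem f599548 : Led Lsl_bt (LP (LK LD1_c4 LD2_c37 LD3_c35)) = (LP (LK LD1_c9 LD2_c10 LD3_c26)) :=
  Lre_b IH (LK LD1_c4 LD2_c37 LD3_c35) (LK LD1_c9 LD2_c10 LD3_c26) Lrfl Lrfl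
theorem f599560 : Led Lsl_ct (LP (LK LD1_c4 LD2_c37 LD3_c35)) = (LP (LK LD1_c9 LD2_c10 LD3_c43)) :=
  Lre_c IH (LK LD1_c4 LD2_c37 LD3_c35) (LK LD1_c9 LD2_c10 LD3_c43) Lrfl Lrfl
theorem f744991 : Led Lsl_gt (LP (LK LD1_c17 LD2_c3 LD3_c17)) = (LP (LK LD1_c9 LD2_c10 LD3_c43)) :=
  Lgr Lrot65 (Lpe (f700545 IH) (Lpr_bt (f700532 IH) (Lpe (K7.f151715 IH) (Lpr_bf (K45.f151901 IH) (Lpr_ct (f151973 IH) (Lpr_gf (f744986 IH) (Lpe (f744988 IH) (Lpe (f599557 IH) (Lpe (f599548 IH) (Lpr_ct (f599560 IH) (Lpn (LP (LK LD1_c9 LD2_c10 LD3_c43)))))))))))))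
theorem f744993 : Led Lsl_bt (LP (LK LD1_c5 LD2_c58 LD3_c54)) = (LP (LK LD1_c11 LD2_c29 LD3_c10)) :=
  Lgr Lrot92 (Lpr_ct (K52.f426002 IH) (Lpe (K52.f700538 IH) (Lpe (K8.f138986 IH) (Lpe (K11.f138984 IH) (Lpr_gt (K52.f99982 IH) (Lpr_ct (f700545 IH) (Lpr_gt (f744991 IH) (Lpe (f599560 IH) (Lpr_bt (f599548 IH) (Lpr_gt (f599557 IH) (Lpn (LP (LK LD1_c11 LD2_c29 LD3_c10)))))))))))))
theorem f163053 : Led Lsl_at (LP (LK LD1_c4 LD2_c59 LD3_c2)) = (LP (LK LD1_c9 LD2_c47 LD3_c57)) :=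
  Lre_a IH (LK LD1_c4 LD2_c59 LD3_c2) (LK LD1_c9 LD2_c47 LD3_c57) Lrfl Lrfl
theorem f642451 : Led Lsl_ft (LP (LK LD1_c9 LD2_c48 LD3_c33)) = (LP (LK LD1_c4 LD2_c59 LD3_c2)) :=
  Lre_f IH (LK LD1_c9 LD2_c48 LD3_c33) (LK LD1_c4 LD2_c59 LD3_c2) Lrfl Lrfl
theorem f700540 : Led Lsl_gt (LP (LK LD1_c9 LD2_c48 LD3_c33)) = (LP (LK LD1_c11 LD2_c42 LD3_c12)) :=
  Lgr Lrot5 (Lpr_ft (f642451 IH) (Lpr_at (f163053 IH) (Lpr_gf (K52.f700538 IH) (Lpn (LP (LK LD1_c11 LD2_c42 LD3_c12))))))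
theorem f642357 : Led Lsl_ct (LP (LK LD1_c4 LD2_c59 LD3_c5)) = (LP (LK LD1_c9 LD2_c48 LD3_c33)) :=
  Lre_c IH (LK LD1_c4 LD2_c59 LD3_c5) (LK LD1_c9 LD2_c48 LD3_c33) Lrfl Lrfl
theorem f640887 : Led Lsl_gt (LP (LK LD1_c6 LD2_c30 LD3_c3)) = K45.v4911 :=
  Lgr Lrot5 (Lpr_ft (K41.f640886 IH) (Lpe (K53.f640880 IH) (Lpr_gf (K45.f640878 IH) (Lpn K45.v4911))))
theorem f505240 : Led Lsl_bt (LP (LK LD1_c5 LD2_c52 LD3_c43)) = (LP (LK LD1_c6 LD2_c30 LD3_c3)) :=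
  Lgr Lrot127 (Lpr_bf (K41.f505237 IH) (Lpn (LP (LK LD1_c6 LD2_c30 LD3_c3))))
theorem f505242 : Led Lsl_ct (LP (LK LD1_c5 LD2_c52 LD3_c43)) = (LP (LK LD1_c11 LD2_c31 LD3_c48)) :=
  Lre_c IH (LK LD1_c5 LD2_c52 LD3_c43) (LK LD1_c11 LD2_c31 LD3_c48) Lrfl Lrfl
theorem f494549 : Led Lsl_bt (LP (LK LD1_c11 LD2_c29 LD3_c9)) = (LP (LK LD1_c5 LD2_c50 LD3_c43)) :=
  Lre_b IH (LK LD1_c11 LD2_c29 LD3_c9) (LK LD1_c5 LD2_c50 LD3_c43) Lrfl Lrfl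
theorem f79705 : Led Lsl_et (LP (LK LD1_c11 LD2_c24 LD3_c57)) = (LP (LK LD1_c5 LD2_c47 LD3_c31)) :=
  Lre_e IH (LK LD1_c11 LD2_c24 LD3_c57) (LK LD1_c5 LD2_c47 LD3_c31) Lrfl Lrfl
theorem f540239 : Led Lsl_cf (LP (LK LD1_c11 LD2_c24 LD3_c57)) = (LP (LK LD1_c11 LD2_c29 LD3_c9)) :=
  Lgr Lrot39 (Lpr_et (f79705 IH) (Lpr_ct (K36.f540235 IH) (Lpr_et (K42.f494601 IH) (Lpn (LP (LK LD1_c11 LD2_c29 LD3_c9))))))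
theorem f744997 : Led Lsl_gf (LP (LK LD1_c11 LD2_c31 LD3_c48)) = (LP (LK LD1_c11 LD2_c24 LD3_c57)) :=
  Lgr Lrot126 (Lpe (f505242 IH) (Lpr_bt (f505240 IH) (Lpr_gt (f640887 IH) (Lpqs (K45.f642548 IH) (Lpr_ct (f642357 IH) (Lpr_gt (f700540 IH) (Lpe (K52.f426002 IH) (Lpr_bt (f744993 IH) (Lpr_gt (f494543 IH) (Lpe (f494549 IH) (Lpe (f540239 IH) (Lpn (LP (LK LD1_c11 LD2_c24 LD3_c57))))))))))))))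
theorem f505686 : Led Lsl_at (LP (LK LD1_c5 LD2_c52 LD3_c44)) = (LP (LK LD1_c11 LD2_c31 LD3_c48)) :=
  Lre_a IH (LK LD1_c5 LD2_c52 LD3_c44) (LK LD1_c11 LD2_c31 LD3_c48) Lrfl Lrfl
theorem f436289 : Led Lsl_ct (LP (LK LD1_c5 LD2_c52 LD3_c44)) = (LP (LK LD1_c2 LD2_c52 LD3_c37)) :=
  Lre_c IH (LK LD1_c5 LD2_c52 LD3_c44) (LK LD1_c2 LD2_c52 LD3_c37) Lrfl Lrfl
theorem f82966 : Led Lsl_ct (LP (LK LD1_c3 LD2_c13 LD3_c12)) = (LP (LK LD1_c6 LD2_c30 LD3_c10)) :=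
  Lre_c IH (LK LD1_c3 LD2_c13 LD3_c12) (LK LD1_c6 LD2_c30 LD3_c10) Lrfl Lrfl
theorem f505672 : Led Lsl_ff (LP (LK LD1_c5 LD2_c52 LD3_c44)) = (LP (LK LD1_c6 LD2_c30 LD3_c10)) :=
  Lgr Lrot23 (Lpr_ct (f436289 IH) (Lpr_ft (K52.f505666 IH) (Lpr_ct (f82966 IH) (Lpn (LP (LK LD1_c6 LD2_c30 LD3_c10))))))
theorem f744999 : Led Lsl_gt (LP (LK LD1_c6 LD2_c30 LD3_c10)) = (LP (LK LD1_c11 LD2_c24 LD3_c57)) :=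
  Lgr Lrot5 (Lpe (f505672 IH) (Lpr_at (f505686 IH) (Lpr_gf (f744997 IH) (Lpn (LP (LK LD1_c11 LD2_c24 LD3_c57))))))
theorem f82965 : Led Lsl_bt (LP (LK LD1_c2 LD2_c54 LD3_c43)) = (LP (LK LD1_c5 LD2_c56 LD3_c49)) :=
  Lre_b IH (LK LD1_c2 LD2_c54 LD3_c43) (LK LD1_c5 LD2_c56 LD3_c49) Lrfl Lrfl
theorem f745001 : (LP (LK LD1_c5 LD2_c56 LD3_c49)) = v15970 :=
  (Llr Lrot92 (Lpe (f82965 IH) (Lpr_ct (K52.f82925 IH) (Lpr_gt (K52.f82926 IH) (Lpr_cf (K52.f82930 IH) (Lpr_bt (K52.f82929 IH) (Lpr_gt (K52.f82928 IH) (Lpr_ct (f82966 IH) (Lpr_gt (f744999 IH) (Lpr_cf (f540239 IH) (Lpr_bt (f494549 IH) (Lpr_gt (f744469 IH) (Lpn v15970))))))))))))).symm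
theorem f745984 : Led Lsl_gt (LP (LK LD1_c11 LD2_c38 LD3_c19)) = (LP (LK LD1_c5 LD2_c56 LD3_c50)) :=
  Lgr Lrot65 (Lpe (K52.f160885 IH) (Lpe (K52.f139274 IH) (Lpe (K53.f719096 IH) (Lpe (K53.f622555 IH) (Lpr_ct (K53.f436235 IH) (Lpr_gf (f745983 IH) (Lpe (f745981 IH) (Lpr_gf (f744470 IH) (Lpq (f745001 IH) (Lpe (f82965 IH) (Lpr_ct (K52.f82925 IH) (Lpn (LP (LK LD1_c5 LD2_c56 LD3_c50))))))))))))))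
theorem f745985 : Led Lsl_gt (LP (LK LD1_c11 LD2_c38 LD3_c19)) = (LP (LK LD1_c5 LD2_c56 LD3_c50)) :=
  Leop (Lpe (f745984 IH) (Lpn (LP (LK LD1_c11 LD2_c38 LD3_c19))))
theorem seed_976 : LEOK LG_g (LK LD1_c11 LD2_c38 LD3_c19) :=
  Leoe_g (LK LD1_c11 LD2_c38 LD3_c19) (f745985 IH)
def v16093 : LQ := Led Lsl_at (LP (LK LD1_c5 LD2_c52 LD3_c24))
theorem f746002 : Led Lsl_at (LP (LK LD1_c5 LD2_c52 LD3_c24)) = v16093 :=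
  Lrfl
def v4904 : LQ := Led Lsl_at (LP (LK LD1_c2 LD2_c52 LD3_c30))
theorem f640837 : Led Lsl_at (LP (LK LD1_c2 LD2_c52 LD3_c30)) = v4904 :=
  Lrfl
theorem f640838 : Led Lsl_af (LP (LK LD1_c2 LD2_c52 LD3_c30)) = v4904 :=
  Lgr Lrot0 (Lpr_at (f640837 IH) (Lpn v4904))
theorem f746004 : Led Lsl_cf v4904 = v16093 :=
  Lgr Lrot1 (Lpe (f640838 IH) (Lpr_ct (f22547 IH) (Lpr_at (f746002 IH) (Lpn v16093))))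
theorem f22540 : Led Lsl_gt (LP (LK LD1_c2 LD2_c52 LD3_c31)) = (LP (LK LD1_c1 LD2_c22 LD3_c19)) :=
  Lre_g IH (LK LD1_c2 LD2_c52 LD3_c31) (LK LD1_c1 LD2_c22 LD3_c19) Lrfl Lrfl
theorem f640840 : Led Lsl_ft (LP (LK LD1_c2 LD2_c52 LD3_c31)) = v4904 :=
  Lgr Lrot2 (Lpr_gt (f22540 IH) (Lpr_gt (K42.f22544 IH) (Lpr_af (f640838 IH) (Lpn v4904))))
theorem f640842 : Led Lsl_ff (LP (LK LD1_c2 LD2_c52 LD3_c31)) = v4904 :=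
  Lgr Lrot3 (Lpr_ft (f640840 IH) (Lpn v4904))
theorem f746006 : Led Lsl_ft (LP (LK LD1_c5 LD2_c52 LD3_c28)) = v16093 :=
  Lgr Lrot4 (Lpe (K53.f436235 IH) (Lpr_ff (f640842 IH) (Lpr_cf (f746004 IH) (Lpn v16093))))
theorem f746003 : Led Lsl_af (LP (LK LD1_c5 LD2_c52 LD3_c24)) = v16093 :=
  Lgr Lrot0 (Lpr_at (f746002 IH) (Lpn v16093))
def v16092 : LQ := Led Lsl_gf (LP (LK LD1_c5 LD2_c52 LD3_c24))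
theorem f746001 : Led Lsl_gf (LP (LK LD1_c5 LD2_c52 LD3_c24)) = v16092 :=
  Lrfl
theorem f746008 : (LP (LK LD1_c11 LD2_c16 LD3_c31)) = v16092 :=
  (Llr Lrot5 (Lpr_gf (K53.f622551 IH) (Lpr_ft (f746006 IH) (Lpe (f746003 IH) (Lpr_gf (f746001 IH) (Lpn v16092)))))).symm
theorem f746009 : Led Lsl_gt (LP (LK LD1_c11 LD2_c16 LD3_c31)) = (LP (LK LD1_c5 LD2_c52 LD3_c24)) :=
  Leop (Lpr_gf (f746001 IH) (Lpq (f746008 IH) (Lpn (LP (LK LD1_c11 LD2_c16 LD3_c31)))))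
theorem seed_977 : LEOK LG_g (LK LD1_c11 LD2_c16 LD3_c31) :=
  Leoe_g (LK LD1_c11 LD2_c16 LD3_c31) (f746009 IH)
def v16105 : LQ := Led Lsl_at (LP (LK LD1_c5 LD2_c52 LD3_c26))
theorem f746061 : Led Lsl_at (LP (LK LD1_c5 LD2_c52 LD3_c26)) = v16105 :=
  Lrfl
theorem f615660 : Led Lsl_df (LP (LK LD1_c5 LD2_c52 LD3_c26)) = (LP (LK LD1_c5 LD2_c49 LD3_c37)) :=
  Lgr Lrot38 (Lpr_dt (K42.f615654 IH) (Lpn (LP (LK LD1_c5 LD2_c49 LD3_c37))))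
def v15904 : LQ := Led Lsl_ft (LP (LK LD1_c5 LD2_c49 LD3_c36))
theorem f744137 : Led Lsl_ft (LP (LK LD1_c5 LD2_c49 LD3_c36)) = v15904 :=
  Lrfl
def v15901 : LQ := Led Lsl_at (LP (LK LD1_c5 LD2_c49 LD3_c36))
theorem f744129 : Led Lsl_at (LP (LK LD1_c5 LD2_c49 LD3_c36)) = v15901 :=
  Lrfl
theorem f744130 : Led Lsl_af (LP (LK LD1_c5 LD2_c49 LD3_c36)) = v15901 :=
  Lgr Lrot0 (Lpr_at (f744129 IH) (Lpn v15901))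
theorem f744131 : Led Lsl_ft (LP (LK LD1_c5 LD2_c49 LD3_c37)) = v15901 :=
  Lgr Lrot2 (Lpr_gt (K42.f211016 IH) (Lpr_gt (K50.f418504 IH) (Lpr_af (f744130 IH) (Lpn v15901))))
theorem f744138 : Led Lsl_af (LP (LK LD1_c5 LD2_c49 LD3_c37)) = v15904 :=
  Lgr Lrot45 (Lpr_ft (f744131 IH) (Lpe (f744130 IH) (Lpr_ft (f744137 IH) (Lpn v15904))))
theorem f746063 : Led Lsl_df v15904 = v16105 :=
  Lgr Lrot18 (Lpe (f744138 IH) (Lpe (f615660 IH) (Lpr_at (f746061 IH) (Lpn v16105))))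
theorem f744139 : Led Lsl_ff (LP (LK LD1_c5 LD2_c49 LD3_c36)) = v15904 :=
  Lgr Lrot3 (Lpr_ft (f744137 IH) (Lpn v15904))
def v15903 : LQ := Led Lsl_dt (LP (LK LD1_c5 LD2_c49 LD3_c36))
theorem f744135 : Led Lsl_dt (LP (LK LD1_c5 LD2_c49 LD3_c36)) = v15903 :=
  Lrfl
theorem f746067 : Led Lsl_ft v15903 = v16105 :=
  Lgr Lrot54 (Lpe (f744135 IH) (Lpr_ff (f744139 IH) (Lpr_df (f746063 IH) (Lpn v16105))))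
theorem f746069 : Led Lsl_ff v15903 = v16105 :=
  Lgr Lrot3 (Lpr_ft (f746067 IH) (Lpn v16105))
theorem f615662 : Led Lsl_et (LP (LK LD1_c2 LD2_c52 LD3_c30)) = (LP (LK LD1_c5 LD2_c52 LD3_c26)) :=
  Lre_e IH (LK LD1_c2 LD2_c52 LD3_c30) (LK LD1_c5 LD2_c52 LD3_c26) Lrfl Lrfl
theorem f746064 : Led Lsl_ef v4904 = v16105 :=
  Lgr Lrot20 (Lpe (f640838 IH) (Lpr_et (f615662 IH) (Lpr_at (f746061 IH) (Lpn v16105))))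
theorem f746065 : Led Lsl_et v4904 = v16105 :=
  Lgr Lrot87 (Lpr_ef (f746064 IH) (Lpn v16105))
theorem f163568 : Led Lsl_et (LP (LK LD1_c5 LD2_c52 LD3_c30)) = (LP (LK LD1_c2 LD2_c52 LD3_c31)) :=
  Lre_e IH (LK LD1_c5 LD2_c52 LD3_c30) (LK LD1_c2 LD2_c52 LD3_c31) Lrfl Lrfl
theorem f640841 : Led Lsl_ft (LP (LK LD1_c11 LD2_c31 LD3_c30)) = (LP (LK LD1_c5 LD2_c52 LD3_c30)) :=
  Lre_f IH (LK LD1_c11 LD2_c31 LD3_c30) (LK LD1_c5 LD2_c52 LD3_c30) Lrfl Lrfl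
theorem f746071 : Led Lsl_et v15903 = (LP (LK LD1_c11 LD2_c31 LD3_c30)) :=
  Lgr Lrot69 (Lpr_ff (f746069 IH) (Lpe (f746065 IH) (Lpe (f640840 IH) (Lpe (f163568 IH) (Lpe (f640841 IH) (Lpn (LP (LK LD1_c11 LD2_c31 LD3_c30))))))))
theorem f744136 : Led Lsl_df (LP (LK LD1_c5 LD2_c49 LD3_c36)) = v15903 :=
  Lgr Lrot38 (Lpr_dt (f744135 IH) (Lpn v15903))
theorem f746074 : Led Lsl_gt (LP (LK LD1_c11 LD2_c28 LD3_c61)) = (LP (LK LD1_c11 LD2_c31 LD3_c30)) :=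
  Lgr Lrot131 (Lpe (K51.f139909 IH) (Lpe (K9.f139886 IH) (Lpr_gf (K35.f627795 IH) (Lpe (f627793 IH) (Lpr_gf (K31.f500157 IH) (Lpqs (K41.f537657 IH) (Lpr_ef (K6.f143137 IH) (Lpr_dt (K45.f143136 IH) (Lpr_gf (K50.f567736 IH) (Lpr_df (f744136 IH) (Lpr_et (f746071 IH) (Lpn (LP (LK LD1_c11 LD2_c31 LD3_c30))))))))))))))
theorem f746075 : Led Lsl_gt (LP (LK LD1_c11 LD2_c28 LD3_c61)) = (LP (LK LD1_c11 LD2_c31 LD3_c30)) :=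
  Leop (Lpe (f746074 IH) (Lpn (LP (LK LD1_c11 LD2_c28 LD3_c61))))
theorem seed_978 : LEOK LG_g (LK LD1_c11 LD2_c28 LD3_c61) :=
  Leoe_g (LK LD1_c11 LD2_c28 LD3_c61) (f746075 IH)
theorem f437470 : Led Lsl_gt (LP (LK LD1_c9 LD2_c5 LD3_c26)) = (LP (LK LD1_c4 LD2_c33 LD3_c57)) :=
  Lre_g IH (LK LD1_c9 LD2_c5 LD3_c26) (LK LD1_c4 LD2_c33 LD3_c57) Lrfl Lrfl
theorem f413508 : Led Lsl_dt (LP (LK LD1_c3 LD2_c2 LD3_c48)) = (LP (LK LD1_c6 LD2_c12 LD3_c28)) :=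
  Lre_d IH (LK LD1_c3 LD2_c2 LD3_c48) (LK LD1_c6 LD2_c12 LD3_c28) Lrfl Lrfl
theorem f413505 : Led Lsl_et (LP (LK LD1_c3 LD2_c2 LD3_c48)) = (LP (LK LD1_c6 LD2_c12 LD3_c29)) :=
  Lre_e IH (LK LD1_c3 LD2_c2 LD3_c48) (LK LD1_c6 LD2_c12 LD3_c29) Lrfl Lrfl
theorem f746076 : Led Lsl_gf (LP (LK LD1_c6 LD2_c12 LD3_c29)) = (LP (LK LD1_c11 LD2_c31 LD3_c30)) :=
  Lgr Lrot141 (Lpe (f413505 IH) (Lpr_dt (f413508 IH) (Lpr_gt (K51.f416488 IH) (Lpr_df (K51.f707189 IH) (Lpr_et (K54.f707191 IH) (Lpr_gt (f437470 IH) (Lpr_dt (K42.f615652 IH) (Lpr_gt (K50.f418504 IH) (Lpr_df (f744136 IH) (Lpr_et (f746071 IH) (Lpn (LP (LK LD1_c11 LD2_c31 LD3_c30)))))))))))))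
theorem f706140 : Led Lsl_at (LP (LK LD1_c9 LD2_c46 LD3_c38)) = (LP (LK LD1_c11 LD2_c28 LD3_c61)) :=
  Lgr Lrot100 (Lpr_af (K51.f706138 IH) (Lpn (LP (LK LD1_c11 LD2_c28 LD3_c61))))
theorem f445983 : Led Lsl_bt (LP (LK LD1_c9 LD2_c46 LD3_c38)) = (LP (LK LD1_c4 LD2_c57 LD3_c53)) :=
  Lre_b IH (LK LD1_c9 LD2_c46 LD3_c38) (LK LD1_c4 LD2_c57 LD3_c53) Lrfl Lrfl
theorem f503741 : Led Lsl_ff (LP (LK LD1_c9 LD2_c46 LD3_c38)) = (LP (LK LD1_c6 LD2_c12 LD3_c29)) :=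
  Lgr Lrot25 (Lpr_bt (f445983 IH) (Lpr_ft (K32.f503738 IH) (Lpr_bt (K51.f413499 IH) (Lpn (LP (LK LD1_c6 LD2_c12 LD3_c29))))))
theorem f745062 : Led Lsl_gt (LP (LK LD1_c6 LD2_c12 LD3_c29)) = v16056 :=
  Lgr Lrot5 (Lpe (f503741 IH) (Lpr_at (f706140 IH) (Lpr_gf (f745056 IH) (Lpn v16056))))
theorem f746078 : Led Lsl_af v16056 = (LP (LK LD1_c5 LD2_c52 LD3_c30)) :=
  Lgr Lrot31 (Lpe (f745062 IH) (Lpr_gf (f746076 IH) (Lpr_ft (f640841 IH) (Lpn (LP (LK LD1_c5 LD2_c52 LD3_c30))))))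
theorem f746114 : Led Lsl_at (LP (LK LD1_c9 LD2_c50 LD3_c55)) = (LP (LK LD1_c11 LD2_c31 LD3_c29)) :=
  Lgr Lrot51 (Lpr_df (f745054 IH) (Lpr_af (f746078 IH) (Lpe (K53.f622523 IH) (Lpn (LP (LK LD1_c11 LD2_c31 LD3_c29))))))
theorem f746115 : Led Lsl_at (LP (LK LD1_c9 LD2_c50 LD3_c55)) = (LP (LK LD1_c11 LD2_c31 LD3_c29)) :=
  Leop (Lpe (f746114 IH) (Lpn (LP (LK LD1_c9 LD2_c50 LD3_c55))))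
theorem seed_979 : LEOK LG_a (LK LD1_c9 LD2_c50 LD3_c55) :=
  Leoe_a (LK LD1_c9 LD2_c50 LD3_c55) (f746115 IH)
def v16052 : LQ := Led Lsl_ft (LP (LK LD1_c5 LD2_c52 LD3_c3))
theorem f745039 : Led Lsl_ft (LP (LK LD1_c5 LD2_c52 LD3_c3)) = v16052 :=
  Lrfl
theorem f745041 : Led Lsl_ff (LP (LK LD1_c5 LD2_c52 LD3_c3)) = v16052 :=
  Lgr Lrot3 (Lpr_ft (f745039 IH) (Lpn v16052))
def v16049 : LQ := Led Lsl_at (LP (LK LD1_c5 LD2_c52 LD3_c3))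
theorem f745027 : Led Lsl_at (LP (LK LD1_c5 LD2_c52 LD3_c3)) = v16049 :=
  Lrfl
theorem f745028 : Led Lsl_af (LP (LK LD1_c5 LD2_c52 LD3_c3)) = v16049 :=
  Lgr Lrot0 (Lpr_at (f745027 IH) (Lpn v16049))
theorem f151980 : Led Lsl_gt (LP (LK LD1_c2 LD2_c52 LD3_c19)) = (LP (LK LD1_c5 LD2_c52 LD3_c3)) :=
  Lre_g IH (LK LD1_c2 LD2_c52 LD3_c19) (LK LD1_c5 LD2_c52 LD3_c3) Lrfl Lrfl
theorem f745029 : Led Lsl_ft (LP (LK LD1_c5 LD2_c52 LD3_c4)) = v16049 :=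
  Lgr Lrot2 (Lpr_gt (f151982 IH) (Lpr_gt (f151980 IH) (Lpr_af (f745028 IH) (Lpn v16049))))
theorem f745030 : Led Lsl_ff (LP (LK LD1_c5 LD2_c52 LD3_c4)) = v16049 :=
  Lgr Lrot3 (Lpr_ft (f745029 IH) (Lpn v16049))
theorem f745042 : Led Lsl_at (LP (LK LD1_c5 LD2_c52 LD3_c4)) = v16052 :=
  Lgr Lrot66 (Lpr_ff (f745030 IH) (Lpe (f745027 IH) (Lpr_ff (f745041 IH) (Lpn v16052))))
theorem f622527 : Led Lsl_et (LP (LK LD1_c2 LD2_c52 LD3_c31)) = (LP (LK LD1_c5 LD2_c52 LD3_c30)) :=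
  Lre_e IH (LK LD1_c2 LD2_c52 LD3_c31) (LK LD1_c5 LD2_c52 LD3_c30) Lrfl Lrfl
theorem f746116 : v16052 = (LP (LK LD1_c2 LD2_c52 LD3_c31)) :=
  (Llr Lrot80 (Lpe (f745042 IH) (Lpr_ef (f745053 IH) (Lpr_af (f746078 IH) (Lpe (f622527 IH) (Lpn (LP (LK LD1_c2 LD2_c52 LD3_c31)))))))).symm
theorem f746118 : Led Lsl_at (LP (LK LD1_c5 LD2_c52 LD3_c4)) = (LP (LK LD1_c2 LD2_c52 LD3_c31)) :=
  Leop (Lpq (f746116 IH) (Lpe (f745042 IH) (Lpn (LP (LK LD1_c5 LD2_c52 LD3_c4)))))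
theorem seed_980 : LEOK LG_a (LK LD1_c5 LD2_c52 LD3_c4) :=
  Leoe_a (LK LD1_c5 LD2_c52 LD3_c4) (f746118 IH)
def v16051 : LQ := Led Lsl_et (LP (LK LD1_c5 LD2_c52 LD3_c3))
theorem f745034 : Led Lsl_et (LP (LK LD1_c5 LD2_c52 LD3_c3)) = v16051 :=
  Lrfl
theorem f745035 : Led Lsl_ef (LP (LK LD1_c5 LD2_c52 LD3_c3)) = v16051 :=
  Lgr Lrot88 (Lpr_et (f745034 IH) (Lpn v16051))
theorem f22570 : Led Lsl_gt (LP (LK LD1_c5 LD2_c52 LD3_c3)) = (LP (LK LD1_c2 LD2_c52 LD3_c33)) :=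
  Lre_g IH (LK LD1_c5 LD2_c52 LD3_c3) (LK LD1_c2 LD2_c52 LD3_c33) Lrfl Lrfl
theorem f567712 : Led Lsl_af (LP (LK LD1_c4 LD2_c34 LD3_c3)) = (LP (LK LD1_c2 LD2_c50 LD3_c55)) :=
  Lgr Lrot0 (Lpr_at (K41.f567709 IH) (Lpn (LP (LK LD1_c2 LD2_c50 LD3_c55))))
theorem f567748 : Led Lsl_ft (LP (LK LD1_c5 LD2_c49 LD3_c1)) = (LP (LK LD1_c2 LD2_c50 LD3_c55)) :=
  Lre_f IH (LK LD1_c5 LD2_c49 LD3_c1) (LK LD1_c2 LD2_c50 LD3_c55) Lrfl Lrfl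
theorem f615697 : Led Lsl_gf (LP (LK LD1_c9 LD2_c5 LD3_c37)) = (LP (LK LD1_c5 LD2_c49 LD3_c1)) :=
  Lgr Lrot47 (Lpr_gt (K50.f163576 IH) (Lpr_af (f567712 IH) (Lpe (f567748 IH) (Lpn (LP (LK LD1_c5 LD2_c49 LD3_c1))))))
theorem f745036 : Led Lsl_df (LP (LK LD1_c9 LD2_c5 LD3_c37)) = v16051 :=
  Lgr Lrot168 (Lpr_gf (f615697 IH) (Lpe (K41.f567732 IH) (Lpr_et (K41.f567753 IH) (Lpr_gf (K35.f536245 IH) (Lpqs (K35.f537647 IH) (Lpe (K49.f499957 IH) (Lpr_dt (K49.f599804 IH) (Lpe (K54.f599812 IH) (Lpe (K49.f152048 IH) (Lpe (f22570 IH) (Lpr_ef (f745035 IH) (Lpn v16051))))))))))))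
theorem f746120 : (LP (LK LD1_c5 LD2_c52 LD3_c3)) = v4904 :=
  Lefun (Lecon (Lfl_ff (f745041 IH)) (f746116 IH)) (f640840 IH)
theorem f746137 : v16105 = v16051 :=
  Lefun (Lecon (f746065 IH) (f746120 IH).symm) (f745034 IH)
theorem f746138 : v15904 = (LP (LK LD1_c9 LD2_c5 LD3_c37)) :=
  Lefun (Lecon (Lfl_df (f746063 IH)) (f746137 IH)) (Lfl_df (f745036 IH))
theorem f746139 : Led Lsl_at (LP (LK LD1_c9 LD2_c5 LD3_c37)) = (LP (LK LD1_c5 LD2_c49 LD3_c37)) :=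
  Leop (Lpr_af (f744138 IH) (Lpqs (f746138 IH) (Lpn (LP (LK LD1_c9 LD2_c5 LD3_c37)))))
theorem seed_981 : LEOK LG_a (LK LD1_c9 LD2_c5 LD3_c37) :=
  Leoe_a (LK LD1_c9 LD2_c5 LD3_c37) (f746139 IH)
theorem f746005 : Led Lsl_ct v4904 = v16093 :=
  Lgr Lrot59 (Lpr_cf (f746004 IH) (Lpn v16093))
theorem f151983 : Led Lsl_ct (LP (LK LD1_c5 LD2_c52 LD3_c3)) = (LP (LK LD1_c11 LD2_c31 LD3_c7)) :=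
  Lre_c IH (LK LD1_c5 LD2_c52 LD3_c3) (LK LD1_c11 LD2_c31 LD3_c7) Lrfl Lrfl
theorem f746131 : v16093 = (LP (LK LD1_c11 LD2_c31 LD3_c7)) :=
  Lefun (Lecon (f746005 IH) (f746120 IH).symm) (f151983 IH)
def v16096 : LQ := Led Lsl_ft (LP (LK LD1_c5 LD2_c52 LD3_c24))
theorem f746018 : Led Lsl_ft (LP (LK LD1_c5 LD2_c52 LD3_c24)) = v16096 :=
  Lrfl
theorem f746021 : Led Lsl_ff (LP (LK LD1_c5 LD2_c52 LD3_c24)) = v16096 :=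
  Lgr Lrot3 (Lpr_ft (f746018 IH) (Lpn v16096))
theorem f22605 : Led Lsl_ct (LP (LK LD1_c5 LD2_c52 LD3_c24)) = (LP (LK LD1_c2 LD2_c52 LD3_c30)) :=
  Lre_c IH (LK LD1_c5 LD2_c52 LD3_c24) (LK LD1_c2 LD2_c52 LD3_c30) Lrfl Lrfl
def v4905 : LQ := Led Lsl_ft (LP (LK LD1_c2 LD2_c52 LD3_c30))
theorem f640844 : Led Lsl_ft (LP (LK LD1_c2 LD2_c52 LD3_c30)) = v4905 :=
  Lrfl
theorem f746023 : Led Lsl_ct v4905 = v16096 :=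
  Lgr Lrot40 (Lpe (f640844 IH) (Lpe (f22605 IH) (Lpr_ff (f746021 IH) (Lpn v16096))))
def v16054 : LQ := Led Lsl_ct (LP (LK LD1_c5 LD2_c52 LD3_c4))
theorem f745047 : Led Lsl_ct (LP (LK LD1_c5 LD2_c52 LD3_c4)) = v16054 :=
  Lrfl
theorem f745040 : Led Lsl_af (LP (LK LD1_c5 LD2_c52 LD3_c4)) = v16052 :=
  Lgr Lrot45 (Lpr_ft (f745029 IH) (Lpe (f745028 IH) (Lpr_ft (f745039 IH) (Lpn v16052))))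
theorem f640846 : Led Lsl_ff (LP (LK LD1_c2 LD2_c52 LD3_c30)) = v4905 :=
  Lgr Lrot3 (Lpr_ft (f640844 IH) (Lpn v4905))
theorem f640847 : Led Lsl_at (LP (LK LD1_c2 LD2_c52 LD3_c31)) = v4905 :=
  Lgr Lrot66 (Lpr_ff (f640842 IH) (Lpe (f640837 IH) (Lpr_ff (f640846 IH) (Lpn v4905))))
theorem f746117 : (LP (LK LD1_c5 LD2_c52 LD3_c4)) = v4905 :=
  Lefun (Lecon (Lfl_af (f745040 IH)) (f746116 IH)) (f640847 IH)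
theorem f746124 : v16096 = v16054 :=
  Lefun (Lecon (f746023 IH) (f746117 IH).symm) (f745047 IH)
theorem f22558 : Led Lsl_gt (LP (LK LD1_c2 LD2_c52 LD3_c33)) = (LP (LK LD1_c5 LD2_c52 LD3_c4)) :=
  Lre_g IH (LK LD1_c2 LD2_c52 LD3_c33) (LK LD1_c5 LD2_c52 LD3_c4) Lrfl Lrfl
theorem f623100 : Led Lsl_ct (LP (LK LD1_c9 LD2_c14 LD3_c45)) = (LP (LK LD1_c11 LD2_c50 LD3_c49)) :=
  Lgr Lrot59 (Lpr_cf (K49.f623098 IH) (Lpn (LP (LK LD1_c11 LD2_c50 LD3_c49))))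
theorem f268350 : Led Lsl_ct (LP (LK LD1_c6 LD2_c3 LD3_c37)) = (LP (LK LD1_c2 LD2_c57 LD3_c57)) :=
  Lre_c IH (LK LD1_c6 LD2_c3 LD3_c37) (LK LD1_c2 LD2_c57 LD3_c57) Lrfl Lrfl
theorem f599521 : Led Lsl_ct (LP (LK LD1_c9 LD2_c10 LD3_c23)) = (LP (LK LD1_c4 LD2_c37 LD3_c24)) :=
  Lre_c IH (LK LD1_c9 LD2_c10 LD3_c23) (LK LD1_c4 LD2_c37 LD3_c24) Lrfl Lrfl
theorem f745049 : Led Lsl_gf (LP (LK LD1_c9 LD2_c10 LD3_c23)) = v16054 :=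
  Lgr Lrot104 (Lpr_ct (f599521 IH) (Lpr_df (f599522 IH) (Lpe (f268350 IH) (Lpe (K49.f175687 IH) (Lpe (f623100 IH) (Lpe (K54.f599812 IH) (Lpe (K49.f152048 IH) (Lpr_gt (f22558 IH) (Lpr_ct (f745047 IH) (Lpn v16054))))))))))
theorem f746231 : Led Lsl_gt (LP (LK LD1_c9 LD2_c10 LD3_c23)) = (LP (LK LD1_c11 LD2_c31 LD3_c7)) :=
  Lgr Lrot46 (Lpr_gf (f745049 IH) (Lpq (f746124 IH) (Lpe (f746021 IH) (Lpr_at (f746002 IH) (Lpqs (f746131 IH) (Lpn (LP (LK LD1_c11 LD2_c31 LD3_c7))))))))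
theorem f746232 : Led Lsl_gt (LP (LK LD1_c9 LD2_c10 LD3_c23)) = (LP (LK LD1_c11 LD2_c31 LD3_c7)) :=
  Leop (Lpe (f746231 IH) (Lpn (LP (LK LD1_c9 LD2_c10 LD3_c23))))
theorem seed_982 : LEOK LG_g (LK LD1_c9 LD2_c10 LD3_c23) :=
  Leoe_g (LK LD1_c9 LD2_c10 LD3_c23) (f746232 IH)
theorem f746441 : Led Lsl_af (LP (LK LD1_c9 LD2_c50 LD3_c55)) = (LP (LK LD1_c11 LD2_c31 LD3_c29)) :=
  Lgr Lrot0 (Lpr_at (f746114 IH) (Lpn (LP (LK LD1_c11 LD2_c31 LD3_c29))))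
theorem f415746 : Led Lsl_gt (LP (LK LD1_c9 LD2_c50 LD3_c56)) = (LP (LK LD1_c5 LD2_c0 LD3_c11)) :=
  Lre_g IH (LK LD1_c9 LD2_c50 LD3_c56) (LK LD1_c5 LD2_c0 LD3_c11) Lrfl Lrfl
theorem f746451 : Led Lsl_ft (LP (LK LD1_c9 LD2_c50 LD3_c56)) = (LP (LK LD1_c11 LD2_c31 LD3_c29)) :=
  Lgr Lrot2 (Lpr_gt (f415746 IH) (Lpr_gt (f633880 IH) (Lpr_af (f746441 IH) (Lpn (LP (LK LD1_c11 LD2_c31 LD3_c29))))))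
theorem f746453 : Led Lsl_ff (LP (LK LD1_c9 LD2_c50 LD3_c56)) = (LP (LK LD1_c11 LD2_c31 LD3_c29)) :=
  Lgr Lrot3 (Lpr_ft (f746451 IH) (Lpn (LP (LK LD1_c11 LD2_c31 LD3_c29))))
theorem f720032 : Led Lsl_et (LP (LK LD1_c12 LD2_c58 LD3_c8)) = (LP (LK LD1_c11 LD2_c31 LD3_c29)) :=
  Lgr Lrot87 (Lpr_ef (K53.f720027 IH) (Lpn (LP (LK LD1_c11 LD2_c31 LD3_c29))))
theorem f745060 : Led Lsl_ef (LP (LK LD1_c9 LD2_c50 LD3_c55)) = (LP (LK LD1_c12 LD2_c56 LD3_c43)) :=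
  Lgr Lrot88 (Lpr_et (f745057 IH) (Lpn (LP (LK LD1_c12 LD2_c56 LD3_c43))))
theorem f746443 : Led Lsl_af (LP (LK LD1_c12 LD2_c56 LD3_c43)) = (LP (LK LD1_c12 LD2_c58 LD3_c8)) :=
  Lgr Lrot50 (Lpe (f745060 IH) (Lpr_at (f746114 IH) (Lpe (K53.f720027 IH) (Lpn (LP (LK LD1_c12 LD2_c58 LD3_c8))))))
theorem f414104 : Led Lsl_gt (LP (LK LD1_c12 LD2_c56 LD3_c44)) = (LP (LK LD1_c6 LD2_c46 LD3_c43)) :=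
  Lre_g IH (LK LD1_c12 LD2_c56 LD3_c44) (LK LD1_c6 LD2_c46 LD3_c43) Lrfl Lrfl
theorem f746447 : Led Lsl_ft (LP (LK LD1_c12 LD2_c56 LD3_c44)) = (LP (LK LD1_c12 LD2_c58 LD3_c8)) :=
  Lgr Lrot2 (Lpr_gt (f414104 IH) (Lpr_gt (f416792 IH) (Lpr_af (f746443 IH) (Lpn (LP (LK LD1_c12 LD2_c58 LD3_c8))))))
theorem f640843 : Led Lsl_ft (LP (LK LD1_c5 LD2_c52 LD3_c30)) = (LP (LK LD1_c11 LD2_c31 LD3_c30)) :=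
  Lre_f IH (LK LD1_c5 LD2_c52 LD3_c30) (LK LD1_c11 LD2_c31 LD3_c30) Lrfl Lrfl
def v15517 : LQ := Led Lsl_dt (LP (LK LD1_c5 LD2_c41 LD3_c4))
theorem f737834 : Led Lsl_dt (LP (LK LD1_c5 LD2_c41 LD3_c4)) = v15517 :=
  Lrfl
theorem f737835 : Led Lsl_df (LP (LK LD1_c5 LD2_c41 LD3_c4)) = v15517 :=
  Lgr Lrot38 (Lpr_dt (f737834 IH) (Lpn v15517))
theorem f225802 : Led Lsl_gt (LP (LK LD1_c5 LD2_c41 LD3_c4)) = (LP (LK LD1_c2 LD2_c46 LD3_c34)) :=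
  Lre_g IH (LK LD1_c5 LD2_c41 LD3_c4) (LK LD1_c2 LD2_c46 LD3_c34) Lrfl Lrfl
theorem f537010 : Led Lsl_et (LP (LK LD1_c5 LD2_c41 LD3_c5)) = (LP (LK LD1_c2 LD2_c46 LD3_c35)) :=
  Lre_e IH (LK LD1_c5 LD2_c41 LD3_c5) (LK LD1_c2 LD2_c46 LD3_c35) Lrfl Lrfl
theorem f186329 : Led Lsl_dt (LP (LK LD1_c1 LD2_c28 LD3_c52)) = (LP (LK LD1_c0 LD2_c41 LD3_c2)) :=
  Lre_d IH (LK LD1_c1 LD2_c28 LD3_c52) (LK LD1_c0 LD2_c41 LD3_c2) Lrfl Lrfl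
theorem f146399 : Led Lsl_dt (LP (LK LD1_c1 LD2_c21 LD3_c26)) = (LP (LK LD1_c0 LD2_c37 LD3_c34)) :=
  Lre_d IH (LK LD1_c1 LD2_c21 LD3_c26) (LK LD1_c0 LD2_c37 LD3_c34) Lrfl Lrfl
theorem f211015 : Led Lsl_et (LP (LK LD1_c1 LD2_c21 LD3_c26)) = (LP (LK LD1_c2 LD2_c50 LD3_c55)) :=
  Lre_e IH (LK LD1_c1 LD2_c21 LD3_c26) (LK LD1_c2 LD2_c50 LD3_c55) Lrfl Lrfl
theorem f737836 : Led Lsl_ef (LP (LK LD1_c5 LD2_c49 LD3_c36)) = v15517 :=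
  Lgr Lrot17 (Lpe (K50.f418504 IH) (Lpe (f211015 IH) (Lpr_dt (f146399 IH) (Lpe (K37.f227759 IH) (Lpe (f186329 IH) (Lpr_gf (K39.f495818 IH) (Lpqs (K40.f537003 IH) (Lpe (f537010 IH) (Lpr_dt (f225810 IH) (Lpe (f225802 IH) (Lpr_df (f737835 IH) (Lpn v15517))))))))))))
def v15518 : LQ := Led Lsl_et (LP (LK LD1_c5 LD2_c41 LD3_c4))
theorem f737838 : Led Lsl_et (LP (LK LD1_c5 LD2_c41 LD3_c4)) = v15518 :=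
  Lrfl
theorem f737839 : Led Lsl_ef (LP (LK LD1_c5 LD2_c41 LD3_c4)) = v15518 :=
  Lgr Lrot88 (Lpr_et (f737838 IH) (Lpn v15518))
theorem f746073 : Led Lsl_df v15518 = (LP (LK LD1_c11 LD2_c31 LD3_c30)) :=
  Lgr Lrot70 (Lpe (f737839 IH) (Lpr_dt (f737834 IH) (Lpe (f737836 IH) (Lpr_dt (f744135 IH) (Lpr_et (f746071 IH) (Lpn (LP (LK LD1_c11 LD2_c31 LD3_c30))))))))
theorem f746455 : (LP (LK LD1_c9 LD2_c50 LD3_c56)) = v15518 :=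
  (Llr Lrot19 (Lpr_ft (f746451 IH) (Lpr_dt (K53.f622523 IH) (Lpr_ft (f640843 IH) (Lpe (f746073 IH) (Lpn v15518)))))).symm
def v15511 : LQ := Led Lsl_at (LP (LK LD1_c5 LD2_c41 LD3_c3))
theorem f737815 : Led Lsl_at (LP (LK LD1_c5 LD2_c41 LD3_c3)) = v15511 :=
  Lrfl
theorem f737816 : Led Lsl_af (LP (LK LD1_c5 LD2_c41 LD3_c3)) = v15511 :=
  Lgr Lrot0 (Lpr_at (f737815 IH) (Lpn v15511))
theorem f225747 : Led Lsl_gt (LP (LK LD1_c2 LD2_c46 LD3_c34)) = (LP (LK LD1_c5 LD2_c41 LD3_c3)) :=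
  Lre_g IH (LK LD1_c2 LD2_c46 LD3_c34) (LK LD1_c5 LD2_c41 LD3_c3) Lrfl Lrfl
theorem f737818 : Led Lsl_ft (LP (LK LD1_c5 LD2_c41 LD3_c4)) = v15511 :=
  Lgr Lrot2 (Lpr_gt (f225802 IH) (Lpr_gt (f225747 IH) (Lpr_af (f737816 IH) (Lpn v15511))))
theorem f746462 : Led Lsl_ef (LP (LK LD1_c12 LD2_c56 LD3_c44)) = v15511 :=
  Lgr Lrot21 (Lpr_ft (f746447 IH) (Lpr_et (f720032 IH) (Lpe (f746453 IH) (Lpqs (f746455 IH) (Lpe (f737839 IH) (Lpr_ft (f737818 IH) (Lpn v15511)))))))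
theorem f746464 : Led Lsl_et (LP (LK LD1_c12 LD2_c56 LD3_c44)) = v15511 :=
  Lgr Lrot87 (Lpr_ef (f746462 IH) (Lpn v15511))
def v15514 : LQ := Led Lsl_et (LP (LK LD1_c5 LD2_c41 LD3_c3))
theorem f737824 : Led Lsl_et (LP (LK LD1_c5 LD2_c41 LD3_c3)) = v15514 :=
  Lrfl
theorem f746465 : Led Lsl_af (LP (LK LD1_c12 LD2_c56 LD3_c44)) = v15514 :=
  Lgr Lrot50 (Lpr_et (f746464 IH) (Lpe (f737816 IH) (Lpr_et (f737824 IH) (Lpn v15514))))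
theorem f454128 : Led Lsl_af (LP (LK LD1_c6 LD2_c46 LD3_c43)) = (LP (LK LD1_c6 LD2_c47 LD3_c36)) :=
  Lgr Lrot0 (Lpr_at (K24.f454112 IH) (Lpn (LP (LK LD1_c6 LD2_c47 LD3_c36))))
theorem f415262 : Led Lsl_ft (LP (LK LD1_c12 LD2_c58 LD3_c9)) = (LP (LK LD1_c6 LD2_c47 LD3_c36)) :=
  Lre_f IH (LK LD1_c12 LD2_c58 LD3_c9) (LK LD1_c6 LD2_c47 LD3_c36) Lrfl Lrfl
theorem f454703 : Led Lsl_gf (LP (LK LD1_c12 LD2_c56 LD3_c44)) = (LP (LK LD1_c12 LD2_c58 LD3_c9)) :=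
  Lgr Lrot47 (Lpr_gt (f414104 IH) (Lpr_af (f454128 IH) (Lpe (f415262 IH) (Lpn (LP (LK LD1_c12 LD2_c58 LD3_c9))))))
theorem f746466 : Led Lsl_ft (LP (LK LD1_c12 LD2_c56 LD3_c43)) = v15514 :=
  Lgr Lrot101 (Lpr_af (f746443 IH) (Lpe (f746447 IH) (Lpr_af (f746465 IH) (Lpn v15514))))
theorem f746467 : Led Lsl_gf (LP (LK LD1_c12 LD2_c58 LD3_c9)) = (LP (LK LD1_c12 LD2_c56 LD3_c43)) :=
  Lgr Lrot47 (Lpe (f454703 IH) (Lpr_af (f746465 IH) (Lpe (f746466 IH) (Lpn (LP (LK LD1_c12 LD2_c56 LD3_c43))))))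
theorem f746468 : Led Lsl_gt (LP (LK LD1_c12 LD2_c56 LD3_c43)) = (LP (LK LD1_c12 LD2_c58 LD3_c9)) :=
  Leop (Lpr_gf (f746467 IH) (Lpn (LP (LK LD1_c12 LD2_c56 LD3_c43))))
theorem seed_983 : LEOK LG_g (LK LD1_c12 LD2_c56 LD3_c43) :=
  Leoe_g (LK LD1_c12 LD2_c56 LD3_c43) (f746468 IH)
def v16116 : LQ := Led Lsl_gf (LP (LK LD1_c5 LD2_c52 LD3_c44))
theorem f746598 : Led Lsl_gf (LP (LK LD1_c5 LD2_c52 LD3_c44)) = v16116 :=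
  Lrfl
theorem f436290 : Led Lsl_ct (LP (LK LD1_c2 LD2_c52 LD3_c37)) = (LP (LK LD1_c5 LD2_c52 LD3_c44)) :=
  Lre_c IH (LK LD1_c2 LD2_c52 LD3_c37) (LK LD1_c5 LD2_c52 LD3_c44) Lrfl Lrfl
theorem f436288 : Led Lsl_bt (LP (LK LD1_c2 LD2_c52 LD3_c37)) = (LP (LK LD1_c1 LD2_c22 LD3_c21)) :=
  Lre_b IH (LK LD1_c2 LD2_c52 LD3_c37) (LK LD1_c1 LD2_c22 LD3_c21) Lrfl Lrfl
theorem f428485 : Led Lsl_bt (LP (LK LD1_c9 LD2_c9 LD3_c31)) = (LP (LK LD1_c4 LD2_c37 LD3_c17)) :=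
  Lre_b IH (LK LD1_c9 LD2_c9 LD3_c31) (LK LD1_c4 LD2_c37 LD3_c17) Lrfl Lrfl
theorem f746600 : Led Lsl_ct (LP (LK LD1_c9 LD2_c9 LD3_c31)) = v16116 :=
  Lgr Lrot64 (Lpr_bt (f428485 IH) (Lpqs (K46.f642390 IH) (Lpe (K46.f641162 IH) (Lpe (f22546 IH) (Lpr_ct (f22543 IH) (Lpe (K32.f151950 IH) (Lpr_cf (K48.f25238 IH) (Lpr_gf (K32.f436286 IH) (Lpe (f436288 IH) (Lpr_ct (f436290 IH) (Lpr_gf (f746598 IH) (Lpn v16116))))))))))))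
def v4888 : LQ := Led Lsl_gf (LP (LK LD1_c2 LD2_c52 LD3_c6))
theorem f640729 : Led Lsl_gf (LP (LK LD1_c2 LD2_c52 LD3_c6)) = v4888 :=
  Lrfl
theorem f13508 : Led Lsl_bt (LP (LK LD1_c0 LD2_c9 LD3_c10)) = (LP (LK LD1_c0 LD2_c20 LD3_c18)) :=
  Lre_b IH (LK LD1_c0 LD2_c9 LD3_c10) (LK LD1_c0 LD2_c20 LD3_c18) Lrfl Lrfl
theorem f23368 : Led Lsl_bt (LP (LK LD1_c1 LD2_c50 LD3_c20)) = (LP (LK LD1_c3 LD2_c46 LD3_c28)) :=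
  Lre_b IH (LK LD1_c1 LD2_c50 LD3_c20) (LK LD1_c3 LD2_c46 LD3_c28) Lrfl Lrfl
theorem f443199 : Led Lsl_gt (LP (LK LD1_c3 LD2_c46 LD3_c28)) = (LP (LK LD1_c2 LD2_c19 LD3_c40)) :=
  Lgr Lrot190 (Lpe (f23368 IH) (Lpe (K2.f23365 IH) (Lpe (K2.f23357 IH) (Lpe (K3.f23353 IH) (Lpe (f13508 IH) (Lpe (K0.f13479 IH) (Lpe (K0.f7322 IH) (Lpe (K0.f20036 IH) (Lpe (K0.f12668 IH) (Lpe (K0.f12674 IH) (Lpe (K7.f154 IH) (Lpe (K0.f12679 IH) (Lpe (K1.f12659 IH) (Lpe (K5.f67033 IH) (Lpe (K2.f25184 IH) (Lpr_gf (K24.f68314 IH) (Lpe (K8.f26348 IH) (Lpe (K2.f26087 IH) (Lpe (K2.f26143 IH) (Lpn (LP (LK LD1_c2 LD2_c19 LD3_c40))))))))))))))))))))))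
theorem f443201 : Led Lsl_bt (LP (LK LD1_c4 LD2_c36 LD3_c16)) = (LP (LK LD1_c2 LD2_c19 LD3_c40)) :=
  Lgr Lrot92 (Lpe (K7.f149357 IH) (Lpr_gt (K7.f102346 IH) (Lpe (K3.f102345 IH) (Lpr_bt (K3.f102342 IH) (Lpe (K3.f99091 IH) (Lpr_ct (K2.f66847 IH) (Lpe (K2.f68335 IH) (Lpe (K2.f23364 IH) (Lpr_bt (f23368 IH) (Lpr_gt (f443199 IH) (Lpn (LP (LK LD1_c2 LD2_c19 LD3_c40)))))))))))))
theorem f443204 : Led Lsl_bf (LP (LK LD1_c4 LD2_c36 LD3_c16)) = (LP (LK LD1_c2 LD2_c19 LD3_c40)) :=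
  Lgr Lrot24 (Lpr_bt (f443201 IH) (Lpn (LP (LK LD1_c2 LD2_c19 LD3_c40))))
theorem f128399 : Led Lsl_gf (LP (LK LD1_c3 LD2_c7 LD3_c43)) = (LP (LK LD1_c4 LD2_c43 LD3_c45)) :=
  Lgr Lrot143 (Lpr_dt (K32.f104271 IH) (Lpe (K5.f124234 IH) (Lpe (K4.f26109 IH) (Lpe (K3.f79321 IH) (Lpe (K51.f79286 IH) (Lpe (K30.f128363 IH) (Lpr_cf (K5.f128371 IH) (Lpe (K5.f82365 IH) (Lpr_dt (K2.f82303 IH) (Lpn (LP (LK LD1_c4 LD2_c43 LD3_c45))))))))))))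
theorem f640733 : Led Lsl_bt K46.v4260 = v4888 :=
  Lgr Lrot130 (Lpe (K46.f632282 IH) (Lpr_gf (f128399 IH) (Lpe (K2.f26079 IH) (Lpe (f443204 IH) (Lpr_gf (K6.f59888 IH) (Lpe (K6.f59887 IH) (Lpr_ct (K7.f59895 IH) (Lpe (K7.f149347 IH) (Lpe (K7.f8343 IH) (Lpr_gf (f640729 IH) (Lpn v4888)))))))))))
theorem f69180 : Led Lsl_dt (LP (LK LD1_c0 LD2_c42 LD3_c29)) = (LP (LK LD1_c1 LD2_c31 LD3_c50)) :=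
  Lre_d IH (LK LD1_c0 LD2_c42 LD3_c29) (LK LD1_c1 LD2_c31 LD3_c50) Lrfl Lrfl
theorem f419963 : Led Lsl_dt (LP (LK LD1_c6 LD2_c30 LD3_c34)) = (LP (LK LD1_c4 LD2_c41 LD3_c44)) :=
  Lgr Lrot27 (Lpe (K41.f419961 IH) (Lpr_gf (K41.f419957 IH) (Lpr_cf (K8.f155514 IH) (Lpe (K8.f69151 IH) (Lpe (f69180 IH) (Lpr_gt (K2.f69185 IH) (Lpr_ct (K5.f79109 IH) (Lpr_gt (K4.f120783 IH) (Lpe (K4.f120787 IH) (Lpn (LP (LK LD1_c4 LD2_c41 LD3_c44))))))))))))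
theorem f131596 : Led Lsl_gt (LP (LK LD1_c3 LD2_c7 LD3_c45)) = (LP (LK LD1_c4 LD2_c41 LD3_c48)) :=
  Lgr Lrot150 (Lpe (K5.f129019 IH) (Lpr_gf (K5.f131594 IH) (Lpe (K5.f60990 IH) (Lpr_gt (K7.f124436 IH) (Lpr_ct (K7.f61142 IH) (Lpr_gt (K5.f60974 IH) (Lpr_ct (K3.f26006 IH) (Lpe (K7.f61138 IH) (Lpe (K7.f61175 IH) (Lpn (LP (LK LD1_c4 LD2_c41 LD3_c48))))))))))))
theorem f632283 : Led Lsl_ct (LP (LK LD1_c3 LD2_c7 LD3_c43)) = K46.v4260 :=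
  Lgr Lrot7 (Lpe (K32.f104276 IH) (Lpe (K8.f152426 IH) (Lpr_df (K7.f152398 IH) (Lpe (f131596 IH) (Lpe (K5.f129019 IH) (Lpe (K41.f419974 IH) (Lpr_dt (f419963 IH) (Lpr_gt (K4.f60988 IH) (Lpr_dt (K46.f632278 IH) (Lpn K46.v4260))))))))))
theorem f141252 : Led Lsl_bf (LP (LK LD1_c3 LD2_c7 LD3_c43)) = (LP (LK LD1_c4 LD2_c37 LD3_c13)) :=
  Lgr Lrot93 (Lpr_dt (K32.f104271 IH) (Lpr_bt (K6.f128955 IH) (Lpr_dt (K6.f141250 IH) (Lpn (LP (LK LD1_c4 LD2_c37 LD3_c13))))))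
theorem f157170 : Led Lsl_bt (LP (LK LD1_c4 LD2_c36 LD3_c49)) = (LP (LK LD1_c2 LD2_c15 LD3_c48)) :=
  Lre_b IH (LK LD1_c4 LD2_c36 LD3_c49) (LK LD1_c2 LD2_c15 LD3_c48) Lrfl Lrfl
theorem f640735 : Led Lsl_cf (LP (LK LD1_c4 LD2_c36 LD3_c49)) = v4888 :=
  Lgr Lrot97 (Lpr_bt (f157170 IH) (Lpr_ct (K7.f141269 IH) (Lpe (f141252 IH) (Lpr_ct (f632283 IH) (Lpr_bt (f640733 IH) (Lpn v4888))))))
theorem f746603 : Led Lsl_ef v4888 = v16116 :=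
  Lgr Lrot28 (Lpe (f640735 IH) (Lpr_et (K35.f148996 IH) (Lpr_ct (f746600 IH) (Lpn v16116))))
theorem f640736 : Led Lsl_df (LP (LK LD1_c4 LD2_c41 LD3_c45)) = v4888 :=
  Lgr Lrot12 (Lpr_bt (K7.f60993 IH) (Lpr_dt (K46.f632278 IH) (Lpr_bt (f640733 IH) (Lpn v4888))))
theorem f640739 : Led Lsl_ft (LP (LK LD1_c4 LD2_c36 LD3_c47)) = v4888 :=
  Lgr Lrot54 (Lpr_df (K8.f139516 IH) (Lpr_ff (K7.f150688 IH) (Lpr_df (f640736 IH) (Lpn v4888))))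
theorem f640740 : Led Lsl_af (LP (LK LD1_c5 LD2_c47 LD3_c31)) = v4888 :=
  Lgr Lrot45 (Lpr_ft (K8.f150702 IH) (Lpe (K8.f157860 IH) (Lpr_ft (f640739 IH) (Lpn v4888))))
theorem f139748 : Led Lsl_et (LP (LK LD1_c5 LD2_c47 LD3_c31)) = (LP (LK LD1_c11 LD2_c24 LD3_c57)) :=
  Lre_e IH (LK LD1_c5 LD2_c47 LD3_c31) (LK LD1_c11 LD2_c24 LD3_c57) Lrfl Lrfl
theorem f746604 : Led Lsl_at (LP (LK LD1_c11 LD2_c24 LD3_c57)) = v16116 :=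
  Lgr Lrot80 (Lpe (f139748 IH) (Lpr_af (f640740 IH) (Lpr_ef (f746603 IH) (Lpn v16116))))
theorem f505698 : Led Lsl_at (LP (LK LD1_c11 LD2_c31 LD3_c48)) = (LP (LK LD1_c5 LD2_c52 LD3_c44)) :=
  Lre_a IH (LK LD1_c11 LD2_c31 LD3_c48) (LK LD1_c5 LD2_c52 LD3_c44) Lrfl Lrfl
theorem f505687 : Led Lsl_at (LP (LK LD1_c12 LD2_c29 LD3_c55)) = (LP (LK LD1_c6 LD2_c30 LD3_c10)) :=
  Lre_a IH (LK LD1_c12 LD2_c29 LD3_c55) (LK LD1_c6 LD2_c30 LD3_c10) Lrfl Lrfl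
theorem f505688 : Led Lsl_ft (LP (LK LD1_c11 LD2_c31 LD3_c48)) = (LP (LK LD1_c12 LD2_c29 LD3_c55)) :=
  Lgr Lrot101 (Lpe (f505686 IH) (Lpr_ff (f505672 IH) (Lpe (f505687 IH) (Lpn (LP (LK LD1_c12 LD2_c29 LD3_c55))))))
theorem f505692 : Led Lsl_ff (LP (LK LD1_c11 LD2_c31 LD3_c48)) = (LP (LK LD1_c12 LD2_c29 LD3_c55)) :=
  Lgr Lrot3 (Lpr_ft (f505688 IH) (Lpn (LP (LK LD1_c12 LD2_c29 LD3_c55))))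
theorem f746599 : Led Lsl_gt (LP (LK LD1_c12 LD2_c29 LD3_c55)) = v16116 :=
  Lgr Lrot5 (Lpe (f505692 IH) (Lpr_at (f505698 IH) (Lpr_gf (f746598 IH) (Lpn v16116))))
theorem f140748 : Led Lsl_ct (LP (LK LD1_c6 LD2_c30 LD3_c10)) = (LP (LK LD1_c3 LD2_c13 LD3_c12)) :=
  Lre_c IH (LK LD1_c6 LD2_c30 LD3_c10) (LK LD1_c3 LD2_c13 LD3_c12) Lrfl Lrfl
theorem f505664 : Led Lsl_ft (LP (LK LD1_c5 LD2_c52 LD3_c44)) = (LP (LK LD1_c6 LD2_c30 LD3_c10)) :=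
  Lgr Lrot4 (Lpe (f436290 IH) (Lpr_ff (K41.f505659 IH) (Lpe (f140748 IH) (Lpn (LP (LK LD1_c6 LD2_c30 LD3_c10))))))
theorem f505702 : Led Lsl_gt (LP (LK LD1_c5 LD2_c52 LD3_c44)) = (LP (LK LD1_c11 LD2_c31 LD3_c50)) :=
  Lre_g IH (LK LD1_c5 LD2_c52 LD3_c44) (LK LD1_c11 LD2_c31 LD3_c50) Lrfl Lrfl
theorem f505699 : Led Lsl_at (LP (LK LD1_c6 LD2_c30 LD3_c10)) = (LP (LK LD1_c12 LD2_c29 LD3_c55)) :=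
  Lre_a IH (LK LD1_c6 LD2_c30 LD3_c10) (LK LD1_c12 LD2_c29 LD3_c55) Lrfl Lrfl
theorem f505703 : Led Lsl_gt (LP (LK LD1_c11 LD2_c31 LD3_c50)) = (LP (LK LD1_c12 LD2_c29 LD3_c55)) :=
  Lgr Lrot46 (Lpe (f505702 IH) (Lpr_ft (f505664 IH) (Lpr_at (f505699 IH) (Lpn (LP (LK LD1_c12 LD2_c29 LD3_c55))))))
theorem f746606 : Led Lsl_ff (LP (LK LD1_c11 LD2_c24 LD3_c57)) = (LP (LK LD1_c11 LD2_c31 LD3_c50)) :=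
  Lgr Lrot52 (Lpr_at (f746604 IH) (Lpe (f746599 IH) (Lpe (f505703 IH) (Lpn (LP (LK LD1_c11 LD2_c31 LD3_c50))))))
theorem f746607 : Led Lsl_ft (LP (LK LD1_c11 LD2_c31 LD3_c50)) = (LP (LK LD1_c11 LD2_c24 LD3_c57)) :=
  Leop (Lpr_ff (f746606 IH) (Lpn (LP (LK LD1_c11 LD2_c31 LD3_c50))))
theorem seed_984 : LEOK LG_f (LK LD1_c11 LD2_c31 LD3_c50) :=
  Leoe_f (LK LD1_c11 LD2_c31 LD3_c50) (f746607 IH)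
def v16179 : LQ := Led Lsl_dt (LP (LK LD1_c5 LD2_c54 LD3_c32))
theorem f746864 : Led Lsl_dt (LP (LK LD1_c5 LD2_c54 LD3_c32)) = v16179 :=
  Lrfl
theorem f746868 : Led Lsl_gf (LP (LK LD1_c8 LD2_c0 LD3_c34)) = v16179 :=
  Lgr Lrot143 (Lpr_dt (K32.f40683 IH) (Lpe (K32.f40681 IH) (Lpr_df (K8.f157809 IH) (Lpe (K8.f73470 IH) (Lpr_df (K8.f73965 IH) (Lpe (K4.f73823 IH) (Lpe (K7.f59471 IH) (Lpe (K6.f59468 IH) (Lpr_dt (f746864 IH) (Lpn v16179))))))))))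
theorem f746870 : Led Lsl_gt (LP (LK LD1_c5 LD2_c54 LD3_c43)) = v16179 :=
  Lgr Lrot5 (Lpe (K32.f496560 IH) (Lpe (K32.f497249 IH) (Lpr_gf (f746868 IH) (Lpn v16179))))
theorem f156558 : Led Lsl_bt (LP (LK LD1_c6 LD2_c31 LD3_c11)) = (LP (LK LD1_c12 LD2_c30 LD3_c56)) :=
  Lre_b IH (LK LD1_c6 LD2_c31 LD3_c11) (LK LD1_c12 LD2_c30 LD3_c56) Lrfl Lrfl
theorem f746869 : Led Lsl_ct (LP (LK LD1_c7 LD2_c27 LD3_c23)) = v16179 :=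
  Lgr Lrot7 (Lpe (K24.f129125 IH) (Lpr_gf (K24.f159231 IH) (Lpr_df (K8.f125623 IH) (Lpe (K8.f125634 IH) (Lpr_cf (K28.f158943 IH) (Lpr_gt (K8.f26515 IH) (Lpe (K8.f139506 IH) (Lpe (K6.f59468 IH) (Lpr_dt (f746864 IH) (Lpn v16179))))))))))
theorem f129117 : Led Lsl_bt (LP (LK LD1_c7 LD2_c27 LD3_c23)) = (LP (LK LD1_c14 LD2_c4 LD3_c58)) :=
  Lre_b IH (LK LD1_c7 LD2_c27 LD3_c23) (LK LD1_c14 LD2_c4 LD3_c58) Lrfl Lrfl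
theorem f746871 : Led Lsl_gf (LP (LK LD1_c12 LD2_c30 LD3_c56)) = (LP (LK LD1_c14 LD2_c4 LD3_c58)) :=
  Lgr Lrot124 (Lpe (f156558 IH) (Lpe (K8.f156559 IH) (Lpe (K8.f129425 IH) (Lpe (K8.f15861 IH) (Lpr_bt (K11.f73550 IH) (Lpe (K46.f157802 IH) (Lpe (K46.f22806 IH) (Lpr_gt (f746870 IH) (Lpe (f746869 IH) (Lpr_bt (f129117 IH) (Lpn (LP (LK LD1_c14 LD2_c4 LD3_c58)))))))))))))
theorem f746872 : Led Lsl_gt (LP (LK LD1_c14 LD2_c4 LD3_c58)) = (LP (LK LD1_c12 LD2_c30 LD3_c56)) :=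
  Leop (Lpr_gf (f746871 IH) (Lpn (LP (LK LD1_c14 LD2_c4 LD3_c58))))
theorem seed_985 : LEOK LG_g (LK LD1_c14 LD2_c4 LD3_c58) :=
  Leoe_g (LK LD1_c14 LD2_c4 LD3_c58) (f746872 IH)
def v16189 : LQ := Led Lsl_et (LP (LK LD1_c5 LD2_c54 LD3_c37))
theorem f746928 : Led Lsl_et (LP (LK LD1_c5 LD2_c54 LD3_c37)) = v16189 :=
  Lrfl
theorem f746931 : Led Lsl_ef (LP (LK LD1_c5 LD2_c54 LD3_c37)) = v16189 :=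
  Lgr Lrot88 (Lpr_et (f746928 IH) (Lpn v16189))
theorem f61088 : Led Lsl_dt (LP (LK LD1_c4 LD2_c38 LD3_c49)) = (LP (LK LD1_c9 LD2_c13 LD3_c27)) :=
  Lre_d IH (LK LD1_c4 LD2_c38 LD3_c49) (LK LD1_c9 LD2_c13 LD3_c27) Lrfl Lrfl
theorem f438255 : Led Lsl_gt (LP (LK LD1_c9 LD2_c13 LD3_c27)) = (LP (LK LD1_c17 LD2_c7 LD3_c53)) :=
  Lre_g IH (LK LD1_c9 LD2_c13 LD3_c27) (LK LD1_c17 LD2_c7 LD3_c53) Lrfl Lrfl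
theorem f746934 : Led Lsl_df (LP (LK LD1_c17 LD2_c7 LD3_c53)) = v16189 :=
  Lgr Lrot132 (Lpe (f438255 IH) (Lpe (f61088 IH) (Lpe (K50.f61087 IH) (Lpe (K11.f104814 IH) (Lpe (K4.f26928 IH) (Lpe (K5.f59334 IH) (Lpe (K6.f137336 IH) (Lpr_et (K6.f137338 IH) (Lpe (K52.f137400 IH) (Lpr_ef (f746931 IH) (Lpn v16189)))))))))))
def v5256 : LQ := Led Lsl_et (LP (LK LD1_c3 LD2_c2 LD3_c36))
theorem f646811 : Led Lsl_et (LP (LK LD1_c3 LD2_c2 LD3_c36)) = v5256 :=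
  Lrfl
theorem f746932 : Led Lsl_at v5256 = v16189 :=
  Lgr Lrot80 (Lpe (f646811 IH) (Lpr_af (K52.f646806 IH) (Lpqs (K52.f715020 IH) (Lpr_ef (f746931 IH) (Lpn v16189)))))
theorem f646814 : Led Lsl_ef (LP (LK LD1_c3 LD2_c2 LD3_c36)) = v5256 :=
  Lgr Lrot88 (Lpr_et (f646811 IH) (Lpn v5256))
theorem f443751 : Led Lsl_et (LP (LK LD1_c6 LD2_c12 LD3_c5)) = (LP (LK LD1_c12 LD2_c3 LD3_c56)) :=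
  Lre_e IH (LK LD1_c6 LD2_c12 LD3_c5) (LK LD1_c12 LD2_c3 LD3_c56) Lrfl Lrfl
theorem f443728 : Led Lsl_bt (LP (LK LD1_c20 LD2_c51 LD3_c52)) = (LP (LK LD1_c11 LD2_c49 LD3_c23)) :=
  Lre_b IH (LK LD1_c20 LD2_c51 LD3_c52) (LK LD1_c11 LD2_c49 LD3_c23) Lrfl Lrfl
theorem f443729 : Led Lsl_dt (LP (LK LD1_c12 LD2_c3 LD3_c56)) = (LP (LK LD1_c20 LD2_c51 LD3_c52)) :=
  Lgr Lrot79 (Lpe (f443727 IH) (Lpr_df (K32.f443725 IH) (Lpe (f443728 IH) (Lpn (LP (LK LD1_c20 LD2_c51 LD3_c52))))))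
theorem f443750 : Led Lsl_et (LP (LK LD1_c20 LD2_c51 LD3_c52)) = (LP (LK LD1_c11 LD2_c49 LD3_c22)) :=
  Lre_e IH (LK LD1_c20 LD2_c51 LD3_c52) (LK LD1_c11 LD2_c49 LD3_c22) Lrfl Lrfl
theorem f646816 : Led Lsl_dt (LP (LK LD1_c11 LD2_c49 LD3_c22)) = v5256 :=
  Lgr Lrot77 (Lpe (f443750 IH) (Lpe (f443729 IH) (Lpe (f443751 IH) (Lpe (K52.f443752 IH) (Lpr_ef (f646814 IH) (Lpn v5256))))))
theorem f746935 : Led Lsl_at (LP (LK LD1_c17 LD2_c7 LD3_c53)) = (LP (LK LD1_c11 LD2_c49 LD3_c22)) :=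
  Lgr Lrot51 (Lpr_df (f746934 IH) (Lpe (f746932 IH) (Lpe (f646816 IH) (Lpn (LP (LK LD1_c11 LD2_c49 LD3_c22))))))
theorem f746936 : Led Lsl_at (LP (LK LD1_c17 LD2_c7 LD3_c53)) = (LP (LK LD1_c11 LD2_c49 LD3_c22)) :=
  Leop (Lpe (f746935 IH) (Lpn (LP (LK LD1_c17 LD2_c7 LD3_c53))))
theorem seed_986 : LEOK LG_a (LK LD1_c17 LD2_c7 LD3_c53) :=
  Leoe_a (LK LD1_c17 LD2_c7 LD3_c53) (f746936 IH)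
theorem f715067 : Led Lsl_ef (LP (LK LD1_c11 LD2_c34 LD3_c57)) = (LP (LK LD1_c9 LD2_c4 LD3_c11)) :=
  Lgr Lrot88 (Lpr_et (K52.f715065 IH) (Lpn (LP (LK LD1_c9 LD2_c4 LD3_c11))))
theorem f140513 : Led Lsl_dt (LP (LK LD1_c16 LD2_c55 LD3_c40)) = (LP (LK LD1_c9 LD2_c4 LD3_c11)) :=
  Lre_d IH (LK LD1_c16 LD2_c55 LD3_c40) (LK LD1_c9 LD2_c4 LD3_c11) Lrfl Lrfl
theorem f746940 : Led Lsl_et (LP (LK LD1_c17 LD2_c7 LD3_c53)) = (LP (LK LD1_c16 LD2_c55 LD3_c40)) :=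
  Lgr Lrot71 (Lpr_df (f746934 IH) (Lpe (f746928 IH) (Lpe (K52.f137401 IH) (Lpr_ef (f715067 IH) (Lpe (f140513 IH) (Lpn (LP (LK LD1_c16 LD2_c55 LD3_c40))))))))
theorem f706347 : Led Lsl_af (LP (LK LD1_c9 LD2_c4 LD3_c17)) = (LP (LK LD1_c6 LD2_c11 LD3_c54)) :=
  Lgr Lrot0 (Lpr_at (K51.f706345 IH) (Lpn (LP (LK LD1_c6 LD2_c11 LD3_c54))))
theorem f706476 : Led Lsl_af (LP (LK LD1_c9 LD2_c4 LD3_c13)) = (LP (LK LD1_c16 LD2_c54 LD3_c42)) :=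
  Lgr Lrot45 (Lpr_ft (K51.f706474 IH) (Lpe (f706347 IH) (Lpr_ft (f706343 IH) (Lpn (LP (LK LD1_c16 LD2_c54 LD3_c42))))))
theorem f614954 : Led Lsl_bt (LP (LK LD1_c9 LD2_c4 LD3_c13)) = (LP (LK LD1_c16 LD2_c55 LD3_c40)) :=
  Lre_b IH (LK LD1_c9 LD2_c4 LD3_c13) (LK LD1_c16 LD2_c55 LD3_c40) Lrfl Lrfl
theorem f706840 : Led Lsl_af (LP (LK LD1_c20 LD2_c51 LD3_c52)) = (LP (LK LD1_c16 LD2_c55 LD3_c40)) :=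
  Lgr Lrot36 (Lpr_bt (f443728 IH) (Lpr_at (f639724 IH) (Lpr_bt (f706838 IH) (Lpe (f706476 IH) (Lpr_bt (f614954 IH) (Lpn (LP (LK LD1_c16 LD2_c55 LD3_c40))))))))
theorem f746942 : Led Lsl_af (LP (LK LD1_c17 LD2_c7 LD3_c53)) = (LP (LK LD1_c11 LD2_c49 LD3_c22)) :=
  Lgr Lrot50 (Lpr_et (f746940 IH) (Lpe (f706840 IH) (Lpr_et (f443750 IH) (Lpn (LP (LK LD1_c11 LD2_c49 LD3_c22))))))
theorem f557987 : Led Lsl_gt (LP (LK LD1_c17 LD2_c7 LD3_c54)) = (LP (LK LD1_c9 LD2_c13 LD3_c27)) :=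
  Lre_g IH (LK LD1_c17 LD2_c7 LD3_c54) (LK LD1_c9 LD2_c13 LD3_c27) Lrfl Lrfl
theorem f746952 : Led Lsl_ft (LP (LK LD1_c17 LD2_c7 LD3_c54)) = (LP (LK LD1_c11 LD2_c49 LD3_c22)) :=
  Lgr Lrot2 (Lpr_gt (f557987 IH) (Lpr_gt (f438255 IH) (Lpr_af (f746942 IH) (Lpn (LP (LK LD1_c11 LD2_c49 LD3_c22))))))
theorem f746957 : Led Lsl_ff (LP (LK LD1_c17 LD2_c7 LD3_c54)) = (LP (LK LD1_c11 LD2_c49 LD3_c22)) :=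
  Lgr Lrot3 (Lpr_ft (f746952 IH) (Lpn (LP (LK LD1_c11 LD2_c49 LD3_c22))))
theorem f443746 : Led Lsl_et (LP (LK LD1_c12 LD2_c3 LD3_c56)) = (LP (LK LD1_c6 LD2_c12 LD3_c5)) :=
  Lre_e IH (LK LD1_c12 LD2_c3 LD3_c56) (LK LD1_c6 LD2_c12 LD3_c5) Lrfl Lrfl
theorem f412296 : Led Lsl_bt (LP (LK LD1_c12 LD2_c3 LD3_c56)) = (LP (LK LD1_c6 LD2_c12 LD3_c7)) :=
  Lre_b IH (LK LD1_c12 LD2_c3 LD3_c56) (LK LD1_c6 LD2_c12 LD3_c7) Lrfl Lrfl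
theorem f443742 : Led Lsl_bt (LP (LK LD1_c11 LD2_c49 LD3_c23)) = (LP (LK LD1_c20 LD2_c51 LD3_c52)) :=
  Lre_b IH (LK LD1_c11 LD2_c49 LD3_c23) (LK LD1_c20 LD2_c51 LD3_c52) Lrfl Lrfl
theorem f443743 : Led Lsl_df (LP (LK LD1_c12 LD2_c3 LD3_c56)) = (LP (LK LD1_c20 LD2_c51 LD3_c52)) :=
  Lgr Lrot12 (Lpr_bt (f412296 IH) (Lpr_dt (K50.f443731 IH) (Lpr_bt (f443742 IH) (Lpn (LP (LK LD1_c20 LD2_c51 LD3_c52))))))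
theorem f443748 : Led Lsl_et (LP (LK LD1_c11 LD2_c49 LD3_c22)) = (LP (LK LD1_c20 LD2_c51 LD3_c52)) :=
  Lre_e IH (LK LD1_c11 LD2_c49 LD3_c22) (LK LD1_c20 LD2_c51 LD3_c52) Lrfl Lrfl
theorem f646813 : Led Lsl_df (LP (LK LD1_c11 LD2_c49 LD3_c22)) = v5256 :=
  Lgr Lrot70 (Lpr_et (f443748 IH) (Lpe (f443743 IH) (Lpr_et (f443746 IH) (Lpr_dt (K52.f443747 IH) (Lpr_et (f646811 IH) (Lpn v5256))))))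
def v15748 : LQ := Led Lsl_et (LP (LK LD1_c5 LD2_c45 LD3_c52))
theorem f741218 : Led Lsl_et (LP (LK LD1_c5 LD2_c45 LD3_c52)) = v15748 :=
  Lrfl
theorem f140601 : Led Lsl_dt (LP (LK LD1_c5 LD2_c45 LD3_c52)) = (LP (LK LD1_c2 LD2_c48 LD3_c42)) :=
  Lre_d IH (LK LD1_c5 LD2_c45 LD3_c52) (LK LD1_c2 LD2_c48 LD3_c42) Lrfl Lrfl
theorem f23139 : Led Lsl_dt (LP (LK LD1_c4 LD2_c33 LD3_c48)) = (LP (LK LD1_c9 LD2_c5 LD3_c10)) :=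
  Lre_d IH (LK LD1_c4 LD2_c33 LD3_c48) (LK LD1_c9 LD2_c5 LD3_c10) Lrfl Lrfl
theorem f640430 : Led Lsl_ff (LP (LK LD1_c5 LD2_c45 LD3_c52)) = (LP (LK LD1_c9 LD2_c5 LD3_c10)) :=
  Lgr Lrot19 (Lpr_dt (f140601 IH) (Lpr_ft (K53.f639131 IH) (Lpqs (K53.f639221 IH) (Lpr_dt (f23139 IH) (Lpn (LP (LK LD1_c9 LD2_c5 LD3_c10)))))))
theorem f23110 : Led Lsl_bt (LP (LK LD1_c9 LD2_c5 LD3_c10)) = (LP (LK LD1_c4 LD2_c33 LD3_c50)) :=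
  Lre_b IH (LK LD1_c9 LD2_c5 LD3_c10) (LK LD1_c4 LD2_c33 LD3_c50) Lrfl Lrfl
theorem f23111 : Led Lsl_et (LP (LK LD1_c4 LD2_c40 LD3_c55)) = (LP (LK LD1_c9 LD2_c5 LD3_c10)) :=
  Lgr Lrot74 (Lpe (K52.f23109 IH) (Lpr_ef (K32.f22933 IH) (Lpe (f23110 IH) (Lpn (LP (LK LD1_c9 LD2_c5 LD3_c10))))))
theorem f741221 : Led Lsl_ff v5256 = v15748 :=
  Lgr Lrot72 (Lpe (f646814 IH) (Lpr_ft (K52.f639926 IH) (Lpr_et (f23111 IH) (Lpe (f640430 IH) (Lpr_et (f741218 IH) (Lpn v15748))))))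
theorem f746961 : Led Lsl_dt (LP (LK LD1_c17 LD2_c7 LD3_c54)) = v15748 :=
  Lgr Lrot60 (Lpr_ff (f746957 IH) (Lpr_df (f646813 IH) (Lpr_ff (f741221 IH) (Lpn v15748))))
theorem f741220 : Led Lsl_ef (LP (LK LD1_c5 LD2_c45 LD3_c52)) = v15748 :=
  Lgr Lrot88 (Lpr_et (f741218 IH) (Lpn v15748))
theorem f639130 : Led Lsl_et (LP (LK LD1_c2 LD2_c48 LD3_c42)) = (LP (LK LD1_c5 LD2_c45 LD3_c53)) :=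
  Lre_e IH (LK LD1_c2 LD2_c48 LD3_c42) (LK LD1_c5 LD2_c45 LD3_c53) Lrfl Lrfl
def v15749 : LQ := Led Lsl_dt (LP (LK LD1_c5 LD2_c45 LD3_c53))
theorem f741225 : Led Lsl_dt (LP (LK LD1_c5 LD2_c45 LD3_c53)) = v15749 :=
  Lrfl
theorem f746962 : Led Lsl_ef (LP (LK LD1_c17 LD2_c7 LD3_c54)) = v15749 :=
  Lgr Lrot73 (Lpr_dt (f746961 IH) (Lpe (f741220 IH) (Lpr_dt (f140601 IH) (Lpr_et (f639130 IH) (Lpr_dt (f741225 IH) (Lpn v15749))))))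
theorem f746963 : Led Lsl_et (LP (LK LD1_c17 LD2_c7 LD3_c54)) = v15749 :=
  Lgr Lrot87 (Lpr_ef (f746962 IH) (Lpn v15749))
theorem f104876 : Led Lsl_et (LP (LK LD1_c4 LD2_c38 LD3_c44)) = (LP (LK LD1_c2 LD2_c16 LD3_c24)) :=
  Lre_e IH (LK LD1_c4 LD2_c38 LD3_c44) (LK LD1_c2 LD2_c16 LD3_c24) Lrfl Lrfl
theorem f557972 : Led Lsl_df (LP (LK LD1_c3 LD2_c20 LD3_c17)) = (LP (LK LD1_c4 LD2_c38 LD3_c44)) :=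
  Lgr Lrot38 (Lpr_dt (K45.f557967 IH) (Lpn (LP (LK LD1_c4 LD2_c38 LD3_c44))))
theorem f157783 : Led Lsl_gt (LP (LK LD1_c6 LD2_c44 LD3_c17)) = (LP (LK LD1_c3 LD2_c20 LD3_c17)) :=
  Lre_g IH (LK LD1_c6 LD2_c44 LD3_c17) (LK LD1_c3 LD2_c20 LD3_c17) Lrfl Lrfl
def v436 : LQ := Led Lsl_et (LP (LK LD1_c0 LD2_c38 LD3_c22))
def v3005 : LQ := Led Lsl_gt v436
def v9678 : LQ := Led Lsl_et v3005
theorem f677148 : Led Lsl_et v3005 = v9678 :=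
  Lrfl
theorem f677149 : Led Lsl_ef v3005 = v9678 :=
  Lgr Lrot88 (Lpr_et (f677148 IH) (Lpn v9678))
theorem f536469 : Led Lsl_gt v436 = v3005 :=
  Lrfl
theorem f452811 : Led Lsl_et (LP (LK LD1_c0 LD2_c38 LD3_c22)) = v436 :=
  Lrfl
theorem f677150 : Led Lsl_df (LP (LK LD1_c6 LD2_c44 LD3_c17)) = v9678 :=
  Lgr Lrot170 (Lpr_gt (f157783 IH) (Lpr_df (f557972 IH) (Lpr_et (f104876 IH) (Lpe (K11.f202381 IH) (Lpr_dt (K11.f79352 IH) (Lpr_gt (K4.f72247 IH) (Lpe (K2.f22773 IH) (Lpr_et (f452811 IH) (Lpr_gt (f536469 IH) (Lpr_ef (f677149 IH) (Lpn v9678)))))))))))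
theorem f741222 : Led Lsl_gf v9678 = v15748 :=
  Lgr Lrot138 (Lpe (f677150 IH) (Lpr_gt (f157783 IH) (Lpr_df (f557972 IH) (Lpr_et (f104876 IH) (Lpe (K11.f202381 IH) (Lpe (K7.f149109 IH) (Lpr_dt (K54.f614366 IH) (Lpqs (K54.f739216 IH) (Lpe (K54.f639122 IH) (Lpe (f140601 IH) (Lpr_et (f741218 IH) (Lpn v15748))))))))))))
theorem f677151 : Led Lsl_dt (LP (LK LD1_c6 LD2_c44 LD3_c17)) = v9678 :=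
  Lgr Lrot42 (Lpr_df (f677150 IH) (Lpn v9678))
theorem f677152 : Led Lsl_et (LP (LK LD1_c6 LD2_c44 LD3_c17)) = (LP (LK LD1_c12 LD2_c53 LD3_c16)) :=
  Lre_e IH (LK LD1_c6 LD2_c44 LD3_c17) (LK LD1_c12 LD2_c53 LD3_c16) Lrfl Lrfl
def v16183 : LQ := Led Lsl_ft (LP (LK LD1_c5 LD2_c54 LD3_c33))
theorem f746897 : Led Lsl_ft (LP (LK LD1_c5 LD2_c54 LD3_c33)) = v16183 :=
  Lrfl
theorem f746900 : Led Lsl_ff (LP (LK LD1_c5 LD2_c54 LD3_c33)) = v16183 :=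
  Lgr Lrot3 (Lpr_ft (f746897 IH) (Lpn v16183))
theorem f639129 : Led Lsl_et (LP (LK LD1_c5 LD2_c45 LD3_c53)) = (LP (LK LD1_c2 LD2_c48 LD3_c42)) :=
  Lre_e IH (LK LD1_c5 LD2_c45 LD3_c53) (LK LD1_c2 LD2_c48 LD3_c42) Lrfl Lrfl
theorem f280550 : Led Lsl_et (LP (LK LD1_c2 LD2_c46 LD3_c48)) = (LP (LK LD1_c5 LD2_c41 LD3_c30)) :=
  Lre_e IH (LK LD1_c2 LD2_c46 LD3_c48) (LK LD1_c5 LD2_c41 LD3_c30) Lrfl Lrfl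
theorem f137291 : Led Lsl_bt (LP (LK LD1_c9 LD2_c9 LD3_c29)) = (LP (LK LD1_c5 LD2_c47 LD3_c48)) :=
  Lgr Lrot119 (Lpe (K40.f137290 IH) (Lpr_bf (K8.f137284 IH) (Lpe (K5.f117867 IH) (Lpn (LP (LK LD1_c5 LD2_c47 LD3_c48))))))
theorem f595838 : Led Lsl_df (LP (LK LD1_c9 LD2_c9 LD3_c29)) = (LP (LK LD1_c5 LD2_c41 LD3_c48)) :=
  Lgr Lrot12 (Lpr_bt (f137291 IH) (Lpr_dt (K52.f595822 IH) (Lpr_bt (K54.f563740 IH) (Lpn (LP (LK LD1_c5 LD2_c41 LD3_c48))))))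
theorem f741230 : Led Lsl_gf (LP (LK LD1_c9 LD2_c9 LD3_c29)) = v15749 :=
  Lgr Lrot145 (Lpr_df (f595838 IH) (Lpr_et (K40.f411921 IH) (Lpr_gt (K31.f411916 IH) (Lpr_dt (K16.f268840 IH) (Lpe (K31.f280545 IH) (Lpe (K31.f237377 IH) (Lpr_et (f280550 IH) (Lpqs (K54.f739216 IH) (Lpe (K54.f639122 IH) (Lpe (f639129 IH) (Lpr_dt (f741225 IH) (Lpn v15749))))))))))))
theorem f746903 : Led Lsl_gf v15749 = v16183 :=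
  Lgr Lrot47 (Lpe (f741230 IH) (Lpe (K40.f138576 IH) (Lpr_ff (f746900 IH) (Lpn v16183))))
theorem f138523 : Led Lsl_et (LP (LK LD1_c5 LD2_c54 LD3_c33)) = (LP (LK LD1_c2 LD2_c53 LD3_c39)) :=
  Lre_e IH (LK LD1_c5 LD2_c54 LD3_c33) (LK LD1_c2 LD2_c53 LD3_c39) Lrfl Lrfl
theorem f138521 : Led Lsl_et (LP (LK LD1_c3 LD2_c5 LD3_c3)) = (LP (LK LD1_c6 LD2_c15 LD3_c58)) :=
  Lre_e IH (LK LD1_c3 LD2_c5 LD3_c3) (LK LD1_c6 LD2_c15 LD3_c58) Lrfl Lrfl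
theorem f138522 : Led Lsl_ft (LP (LK LD1_c6 LD2_c15 LD3_c58)) = (LP (LK LD1_c12 LD2_c9 LD3_c33)) :=
  Lre_f IH (LK LD1_c6 LD2_c15 LD3_c58) (LK LD1_c12 LD2_c9 LD3_c33) Lrfl Lrfl
theorem f746902 : Led Lsl_et (LP (LK LD1_c12 LD2_c9 LD3_c33)) = v16183 :=
  Lgr Lrot69 (Lpe (f138522 IH) (Lpe (f138521 IH) (Lpr_ff (K8.f138479 IH) (Lpe (f138523 IH) (Lpr_ff (f746900 IH) (Lpn v16183))))))
theorem f538449 : Led Lsl_ft (LP (LK LD1_c11 LD2_c35 LD3_c40)) = (LP (LK LD1_c5 LD2_c55 LD3_c5)) :=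
  Lre_f IH (LK LD1_c11 LD2_c35 LD3_c40) (LK LD1_c5 LD2_c55 LD3_c5) Lrfl Lrfl
theorem f538450 : Led Lsl_dt (LP (LK LD1_c12 LD2_c9 LD3_c33)) = (LP (LK LD1_c11 LD2_c35 LD3_c40)) :=
  Lgr Lrot60 (Lpe (f138522 IH) (Lpr_df (K38.f538438 IH) (Lpe (f538449 IH) (Lpn (LP (LK LD1_c11 LD2_c35 LD3_c40))))))
theorem f140802 : Led Lsl_ct (LP (LK LD1_c6 LD2_c2 LD3_c50)) = (LP (LK LD1_c2 LD2_c57 LD3_c30)) :=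
  Lre_c IH (LK LD1_c6 LD2_c2 LD3_c50) (LK LD1_c2 LD2_c57 LD3_c30) Lrfl Lrfl
theorem f739337 : Led Lsl_ef (LP (LK LD1_c6 LD2_c2 LD3_c50)) = (LP (LK LD1_c9 LD2_c31 LD3_c11)) :=
  Lgr Lrot28 (Lpr_ct (f140802 IH) (Lpq (K54.f739236 IH) (Lpqs (K54.f739140 IH) (Lpe (K54.f705577 IH) (Lpr_ct (K54.f141031 IH) (Lpn (LP (LK LD1_c9 LD2_c31 LD3_c11))))))))
theorem f128361 : Led Lsl_et (LP (LK LD1_c9 LD2_c8 LD3_c2)) = (LP (LK LD1_c4 LD2_c35 LD3_c49)) :=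
  Lre_e IH (LK LD1_c9 LD2_c8 LD3_c2) (LK LD1_c4 LD2_c35 LD3_c49) Lrfl Lrfl
theorem f739775 : Led Lsl_ft (LP (LK LD1_c6 LD2_c2 LD3_c50)) = (LP (LK LD1_c9 LD2_c8 LD3_c2)) :=
  Lgr Lrot86 (Lpr_ef (f739337 IH) (Lpe (K54.f739250 IH) (Lpe (K52.f61856 IH) (Lpe (K7.f149090 IH) (Lpe (f128361 IH) (Lpn (LP (LK LD1_c9 LD2_c8 LD3_c2))))))))
theorem f739783 : Led Lsl_gt (LP (LK LD1_c9 LD2_c50 LD3_c27)) = (LP (LK LD1_c5 LD2_c53 LD3_c48)) :=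
  Lgr Lrot46 (Lpe (f140719 IH) (Lpr_ft (f739775 IH) (Lpr_at (K7.f149120 IH) (Lpn (LP (LK LD1_c5 LD2_c53 LD3_c48))))))
theorem f739785 : Led Lsl_gf (LP (LK LD1_c9 LD2_c12 LD3_c13)) = (LP (LK LD1_c5 LD2_c53 LD3_c43)) :=
  Lgr Lrot181 (Lpe (K53.f719533 IH) (Lpr_gt (K53.f414043 IH) (Lpe (K24.f414024 IH) (Lpr_bt (K31.f415080 IH) (Lpr_gt (K53.f415086 IH) (Lpe (K53.f140717 IH) (Lpr_ct (f140718 IH) (Lpr_gt (f739783 IH) (Lpe (K7.f149116 IH) (Lpr_bt (K54.f149114 IH) (Lpn (LP (LK LD1_c5 LD2_c53 LD3_c43)))))))))))))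
theorem f715102 : Led Lsl_et (LP (LK LD1_c17 LD2_c6 LD3_c16)) = (LP (LK LD1_c9 LD2_c12 LD3_c13)) :=
  Lre_e IH (LK LD1_c17 LD2_c6 LD3_c16) (LK LD1_c9 LD2_c12 LD3_c13) Lrfl Lrfl
theorem f719527 : Led Lsl_df (LP (LK LD1_c10 LD2_c17 LD3_c19)) = (LP (LK LD1_c17 LD2_c6 LD3_c16)) :=
  Lgr Lrot38 (Lpr_dt (K53.f719523 IH) (Lpn (LP (LK LD1_c17 LD2_c6 LD3_c16))))
theorem f161022 : Led Lsl_et (LP (LK LD1_c2 LD2_c53 LD3_c12)) = (LP (LK LD1_c5 LD2_c53 LD3_c43)) :=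
  Lre_e IH (LK LD1_c2 LD2_c53 LD3_c12) (LK LD1_c5 LD2_c53 LD3_c43) Lrfl Lrfl
theorem f739789 : Led Lsl_gt (LP (LK LD1_c10 LD2_c17 LD3_c19)) = (LP (LK LD1_c11 LD2_c33 LD3_c50)) :=
  Lgr Lrot112 (Lpr_df (f719527 IH) (Lpr_et (f715102 IH) (Lpr_gf (f739785 IH) (Lpe (f161022 IH) (Lpr_dt (K4.f69007 IH) (Lpe (K35.f157873 IH) (Lpe (K35.f148981 IH) (Lpr_gf (K35.f538207 IH) (Lpe (K38.f436709 IH) (Lpr_dt (K38.f436714 IH) (Lpn (LP (LK LD1_c11 LD2_c33 LD3_c50)))))))))))))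
theorem f138454 : Led Lsl_bt (LP (LK LD1_c6 LD2_c15 LD3_c58)) = (LP (LK LD1_c3 LD2_c5 LD3_c8)) :=
  Lre_b IH (LK LD1_c6 LD2_c15 LD3_c58) (LK LD1_c3 LD2_c5 LD3_c8) Lrfl Lrfl
theorem f138485 : Led Lsl_dt (LP (LK LD1_c3 LD2_c5 LD3_c8)) = (LP (LK LD1_c6 LD2_c16 LD3_c6)) :=
  Lre_d IH (LK LD1_c3 LD2_c5 LD3_c8) (LK LD1_c6 LD2_c16 LD3_c6) Lrfl Lrfl
theorem f538442 : Led Lsl_bt (LP (LK LD1_c6 LD2_c16 LD3_c6)) = (LP (LK LD1_c5 LD2_c55 LD3_c5)) :=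
  Lgr Lrot95 (Lpe (f138485 IH) (Lpe (f138454 IH) (Lpr_df (K38.f538438 IH) (Lpn (LP (LK LD1_c5 LD2_c55 LD3_c5))))))
theorem f545608 : Led Lsl_af (LP (LK LD1_c11 LD2_c33 LD3_c50)) = (LP (LK LD1_c5 LD2_c55 LD3_c5)) :=
  Lgr Lrot36 (Lpr_bt (K38.f545606 IH) (Lpr_at (K5.f132361 IH) (Lpr_bt (K8.f138434 IH) (Lpe (K8.f138445 IH) (Lpr_bt (f538442 IH) (Lpn (LP (LK LD1_c5 LD2_c55 LD3_c5))))))))
theorem f739791 : Led Lsl_gf (LP (LK LD1_c10 LD2_c17 LD3_c19)) = (LP (LK LD1_c11 LD2_c35 LD3_c40)) :=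
  Lgr Lrot47 (Lpr_gt (f739789 IH) (Lpr_af (f545608 IH) (Lpe (f538449 IH) (Lpn (LP (LK LD1_c11 LD2_c35 LD3_c40))))))
theorem f719629 : Led Lsl_bt (LP (LK LD1_c9 LD2_c15 LD3_c11)) = (LP (LK LD1_c17 LD2_c9 LD3_c45)) :=
  Lre_b IH (LK LD1_c9 LD2_c15 LD3_c11) (LK LD1_c17 LD2_c9 LD3_c45) Lrfl Lrfl
theorem f700695 : Led Lsl_bt (LP (LK LD1_c4 LD2_c38 LD3_c18)) = (LP (LK LD1_c9 LD2_c12 LD3_c16)) :=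
  Lre_b IH (LK LD1_c4 LD2_c38 LD3_c18) (LK LD1_c9 LD2_c12 LD3_c16) Lrfl Lrfl
theorem f715077 : Led Lsl_bt (LP (LK LD1_c11 LD2_c35 LD3_c39)) = (LP (LK LD1_c9 LD2_c12 LD3_c26)) :=
  Lgr Lrot95 (Lpr_df (K53.f715075 IH) (Lpe (f700695 IH) (Lpe (K53.f80003 IH) (Lpn (LP (LK LD1_c9 LD2_c12 LD3_c26))))))
theorem f719644 : Led Lsl_ft (LP (LK LD1_c17 LD2_c9 LD3_c45)) = (LP (LK LD1_c11 LD2_c35 LD3_c39)) :=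
  Lgr Lrot75 (Lpe (f719629 IH) (Lpr_ff (K53.f719638 IH) (Lpe (f715077 IH) (Lpn (LP (LK LD1_c11 LD2_c35 LD3_c39))))))
theorem f739793 : Led Lsl_gt (LP (LK LD1_c17 LD2_c9 LD3_c45)) = (LP (LK LD1_c11 LD2_c35 LD3_c40)) :=
  Lgr Lrot5 (Lpr_ft (f719644 IH) (Lpe (K53.f719525 IH) (Lpr_gf (f739791 IH) (Lpn (LP (LK LD1_c11 LD2_c35 LD3_c40))))))
theorem f700638 : Led Lsl_ft (LP (LK LD1_c9 LD2_c12 LD3_c16)) = (LP (LK LD1_c17 LD2_c6 LD3_c21)) :=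
  Lre_f IH (LK LD1_c9 LD2_c12 LD3_c16) (LK LD1_c17 LD2_c6 LD3_c21) Lrfl Lrfl
theorem f719646 : Led Lsl_df (LP (LK LD1_c17 LD2_c9 LD3_c45)) = (LP (LK LD1_c17 LD2_c6 LD3_c21)) :=
  Lgr Lrot78 (Lpr_ft (f719644 IH) (Lpr_dt (K53.f715079 IH) (Lpr_ft (f700638 IH) (Lpn (LP (LK LD1_c17 LD2_c6 LD3_c21))))))
theorem f746964 : Led Lsl_gt (LP (LK LD1_c12 LD2_c53 LD3_c16)) = (LP (LK LD1_c17 LD2_c6 LD3_c21)) :=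
  Lgr Lrot137 (Lpe (f677152 IH) (Lpr_dt (f677151 IH) (Lpr_gf (f741222 IH) (Lpe (f746961 IH) (Lpr_et (f746963 IH) (Lpr_gf (f746903 IH) (Lpe (f746902 IH) (Lpr_dt (f538450 IH) (Lpe (f739793 IH) (Lpr_df (f719646 IH) (Lpn (LP (LK LD1_c17 LD2_c6 LD3_c21)))))))))))))
theorem f746965 : Led Lsl_gt (LP (LK LD1_c12 LD2_c53 LD3_c16)) = (LP (LK LD1_c17 LD2_c6 LD3_c21)) :=
  Leop (Lpe (f746964 IH) (Lpn (LP (LK LD1_c12 LD2_c53 LD3_c16))))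
theorem seed_987 : LEOK LG_g (LK LD1_c12 LD2_c53 LD3_c16) :=
  Leoe_g (LK LD1_c12 LD2_c53 LD3_c16) (f746965 IH)
def v16207 : LQ := Led Lsl_gt (LP (LK LD1_c5 LD2_c55 LD3_c5))
theorem f747024 : Led Lsl_gt (LP (LK LD1_c5 LD2_c55 LD3_c5)) = v16207 :=
  Lrfl
theorem f621229 : Led Lsl_bt (LP (LK LD1_c17 LD2_c9 LD3_c45)) = (LP (LK LD1_c9 LD2_c15 LD3_c11)) :=
  Lre_b IH (LK LD1_c17 LD2_c9 LD3_c45) (LK LD1_c9 LD2_c15 LD3_c11) Lrfl Lrfl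
theorem f719636 : Led Lsl_ff (LP (LK LD1_c17 LD2_c9 LD3_c45)) = (LP (LK LD1_c11 LD2_c35 LD3_c39)) :=
  Lgr Lrot25 (Lpr_bt (f621229 IH) (Lpr_ft (K53.f719634 IH) (Lpe (K53.f715083 IH) (Lpn (LP (LK LD1_c11 LD2_c35 LD3_c39))))))
theorem f747025 : Led Lsl_at (LP (LK LD1_c17 LD2_c9 LD3_c45)) = v16207 :=
  Lgr Lrot26 (Lpr_ff (f719636 IH) (Lpr_gt (K53.f538453 IH) (Lpr_gt (f747024 IH) (Lpn v16207))))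
theorem f700696 : Led Lsl_at (LP (LK LD1_c9 LD2_c12 LD3_c16)) = (LP (LK LD1_c17 LD2_c6 LD3_c16)) :=
  Lre_a IH (LK LD1_c9 LD2_c12 LD3_c16) (LK LD1_c17 LD2_c6 LD3_c16) Lrfl Lrfl
theorem f719529 : Led Lsl_at (LP (LK LD1_c10 LD2_c17 LD3_c19)) = (LP (LK LD1_c11 LD2_c35 LD3_c39)) :=
  Lgr Lrot51 (Lpr_df (f719527 IH) (Lpe (f700696 IH) (Lpe (K53.f715079 IH) (Lpn (LP (LK LD1_c11 LD2_c35 LD3_c39))))))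
theorem f747028 : Led Lsl_ff (LP (LK LD1_c10 LD2_c17 LD3_c19)) = v16207 :=
  Lgr Lrot30 (Lpr_at (f719529 IH) (Lpe (f719636 IH) (Lpr_at (f747025 IH) (Lpn v16207))))
theorem f747030 : Led Lsl_ft (LP (LK LD1_c10 LD2_c17 LD3_c19)) = v16207 :=
  Lgr Lrot48 (Lpr_ff (f747028 IH) (Lpn v16207))
theorem f747026 : Led Lsl_af (LP (LK LD1_c17 LD2_c9 LD3_c45)) = v16207 :=
  Lgr Lrot0 (Lpr_at (f747025 IH) (Lpn v16207))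
theorem f747031 : Led Lsl_gt (LP (LK LD1_c11 LD2_c33 LD3_c50)) = (LP (LK LD1_c17 LD2_c9 LD3_c45)) :=
  Lgr Lrot46 (Lpe (f739789 IH) (Lpr_ft (f747030 IH) (Lpe (f747026 IH) (Lpn (LP (LK LD1_c17 LD2_c9 LD3_c45))))))
theorem f747032 : Led Lsl_gt (LP (LK LD1_c11 LD2_c33 LD3_c50)) = (LP (LK LD1_c17 LD2_c9 LD3_c45)) :=
  Leop (Lpe (f747031 IH) (Lpn (LP (LK LD1_c11 LD2_c33 LD3_c50))))
theorem seed_988 : LEOK LG_g (LK LD1_c11 LD2_c33 LD3_c50) :=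
  Leoe_g (LK LD1_c11 LD2_c33 LD3_c50) (f747032 IH)
def v16216 : LQ := Led Lsl_at (LP (LK LD1_c5 LD2_c55 LD3_c14))
theorem f747065 : Led Lsl_at (LP (LK LD1_c5 LD2_c55 LD3_c14)) = v16216 :=
  Lrfl
theorem f747068 : Led Lsl_ef K49.v4202 = v16216 :=
  Lgr Lrot20 (Lpe (K49.f631846 IH) (Lpr_et (K53.f169777 IH) (Lpr_at (f747065 IH) (Lpn v16216))))
def v13093 : LQ := Led Lsl_dt (LP (LK LD1_c4 LD2_c39 LD3_c12))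
theorem f701056 : Led Lsl_dt (LP (LK LD1_c4 LD2_c39 LD3_c12)) = v13093 :=
  Lrfl
theorem f701059 : Led Lsl_ef K49.v5116 = v13093 :=
  Lgr Lrot73 (Lpe (K49.f646014 IH) (Lpqs (K46.f645297 IH) (Lpe (K46.f494518 IH) (Lpr_dt (K46.f140934 IH) (Lpr_et (K50.f174607 IH) (Lpr_dt (f701056 IH) (Lpn v13093)))))))
theorem f701058 : Led Lsl_df (LP (LK LD1_c4 LD2_c39 LD3_c12)) = v13093 :=
  Lgr Lrot38 (Lpr_dt (f701056 IH) (Lpn v13093))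
theorem f22165 : Led Lsl_gt (LP (LK LD1_c5 LD2_c6 LD3_c37)) = (LP (LK LD1_c2 LD2_c30 LD3_c35)) :=
  Lre_g IH (LK LD1_c5 LD2_c6 LD3_c37) (LK LD1_c2 LD2_c30 LD3_c35) Lrfl Lrfl
theorem f302685 : Led Lsl_gt (LP (LK LD1_c5 LD2_c13 LD3_c32)) = (LP (LK LD1_c5 LD2_c6 LD3_c37)) :=
  Lgr Lrot5 (Lpr_ft (K18.f20518 IH) (Lpr_at (K50.f302677 IH) (Lpe (f22165 IH) (Lpn (LP (LK LD1_c5 LD2_c6 LD3_c37))))))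
theorem f169745 : Led Lsl_dt (LP (LK LD1_c5 LD2_c6 LD3_c37)) = (LP (LK LD1_c10 LD2_c4 LD3_c0)) :=
  Lre_d IH (LK LD1_c5 LD2_c6 LD3_c37) (LK LD1_c10 LD2_c4 LD3_c0) Lrfl Lrfl
theorem f68946 : Led Lsl_dt (LP (LK LD1_c6 LD2_c2 LD3_c43)) = (LP (LK LD1_c5 LD2_c55 LD3_c14)) :=
  Lre_d IH (LK LD1_c6 LD2_c2 LD3_c43) (LK LD1_c5 LD2_c55 LD3_c14) Lrfl Lrfl
theorem f387380 : Led Lsl_et (LP (LK LD1_c2 LD2_c57 LD3_c27)) = (LP (LK LD1_c6 LD2_c2 LD3_c43)) :=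
  Lre_e IH (LK LD1_c2 LD2_c57 LD3_c27) (LK LD1_c6 LD2_c2 LD3_c43) Lrfl Lrfl
theorem f104846 : Led Lsl_et (LP (LK LD1_c9 LD2_c13 LD3_c41)) = (LP (LK LD1_c4 LD2_c38 LD3_c58)) :=
  Lre_e IH (LK LD1_c9 LD2_c13 LD3_c41) (LK LD1_c4 LD2_c38 LD3_c58) Lrfl Lrfl
theorem f508252 : Led Lsl_at (LP (LK LD1_c6 LD2_c2 LD3_c43)) = (LP (LK LD1_c9 LD2_c13 LD3_c41)) :=
  Lgr Lrot80 (Lpe (f387380 IH) (Lpr_af (K46.f508248 IH) (Lpe (f104846 IH) (Lpn (LP (LK LD1_c9 LD2_c13 LD3_c41))))))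
theorem f508254 : Led Lsl_af (LP (LK LD1_c6 LD2_c2 LD3_c43)) = (LP (LK LD1_c9 LD2_c13 LD3_c41)) :=
  Lgr Lrot0 (Lpr_at (f508252 IH) (Lpn (LP (LK LD1_c9 LD2_c13 LD3_c41))))
theorem f747067 : Led Lsl_df (LP (LK LD1_c9 LD2_c13 LD3_c41)) = v16216 :=
  Lgr Lrot18 (Lpe (f508254 IH) (Lpr_dt (f68946 IH) (Lpr_at (f747065 IH) (Lpn v16216))))
theorem f747071 : Led Lsl_gt (LP (LK LD1_c10 LD2_c4 LD3_c0)) = (LP (LK LD1_c9 LD2_c13 LD3_c41)) :=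
  Lgr Lrot139 (Lpe (f169745 IH) (Lpe (f302685 IH) (Lpr_ef (K18.f302372 IH) (Lpe (K53.f164776 IH) (Lpe (K50.f408198 IH) (Lpr_df (f701058 IH) (Lpe (f701059 IH) (Lpe (K50.f646017 IH) (Lpr_ef (f747068 IH) (Lpe (f747067 IH) (Lpn (LP (LK LD1_c9 LD2_c13 LD3_c41)))))))))))))
theorem f747072 : Led Lsl_gt (LP (LK LD1_c10 LD2_c4 LD3_c0)) = (LP (LK LD1_c9 LD2_c13 LD3_c41)) :=
  Leop (Lpe (f747071 IH) (Lpn (LP (LK LD1_c10 LD2_c4 LD3_c0))))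
theorem seed_989 : LEOK LG_g (LK LD1_c10 LD2_c4 LD3_c0) :=
  Leoe_g (LK LD1_c10 LD2_c4 LD3_c0) (f747072 IH)
theorem f702239 : Led Lsl_et (LP (LK LD1_c5 LD2_c6 LD3_c37)) = (LP (LK LD1_c10 LD2_c4 LD3_c1)) :=
  Lre_e IH (LK LD1_c5 LD2_c6 LD3_c37) (LK LD1_c10 LD2_c4 LD3_c1) Lrfl Lrfl
def v4958 : LQ := Led Lsl_dt (LP (LK LD1_c2 LD2_c54 LD3_c0))
theorem f641054 : Led Lsl_dt (LP (LK LD1_c2 LD2_c54 LD3_c0)) = v4958 :=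
  Lrfl
def v971 : LQ := Led Lsl_gt K35.v133
theorem f490787 : Led Lsl_gt K35.v133 = v971 :=
  Lrfl
def v2189 : LQ := Led Lsl_et (LP (LK LD1_c1 LD2_c37 LD3_c3))
theorem f509532 : Led Lsl_et (LP (LK LD1_c1 LD2_c37 LD3_c3)) = v2189 :=
  Lrfl
theorem f509535 : Led Lsl_ef (LP (LK LD1_c1 LD2_c37 LD3_c3)) = v2189 :=
  Lgr Lrot88 (Lpr_et (f509532 IH) (Lpn v2189))
def v1337 : LQ := Led Lsl_dt (LP (LK LD1_c1 LD2_c7 LD3_c25))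
theorem f494911 : Led Lsl_dt (LP (LK LD1_c1 LD2_c7 LD3_c25)) = v1337 :=
  Lrfl
theorem f494912 : Led Lsl_df (LP (LK LD1_c1 LD2_c7 LD3_c25)) = v1337 :=
  Lgr Lrot38 (Lpr_dt (f494911 IH) (Lpn v1337))
theorem f124161 : Led Lsl_dt (LP (LK LD1_c0 LD2_c30 LD3_c56)) = (LP (LK LD1_c0 LD2_c13 LD3_c45)) :=
  Lre_d IH (LK LD1_c0 LD2_c30 LD3_c56) (LK LD1_c0 LD2_c13 LD3_c45) Lrfl Lrfl
theorem f452362 : Led Lsl_ef (LP (LK LD1_c0 LD2_c30 LD3_c56)) = K35.v351 :=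
  Lgr Lrot73 (Lpr_dt (f124161 IH) (Lpr_et (K7.f23188 IH) (Lpr_dt (K4.f13584 IH) (Lpr_et (K32.f152070 IH) (Lpr_dt (K35.f452359 IH) (Lpn K35.v351))))))
theorem f23189 : Led Lsl_dt (LP (LK LD1_c0 LD2_c13 LD3_c45)) = (LP (LK LD1_c0 LD2_c30 LD3_c56)) :=
  Lre_d IH (LK LD1_c0 LD2_c13 LD3_c45) (LK LD1_c0 LD2_c30 LD3_c56) Lrfl Lrfl
theorem f156410 : Led Lsl_gt (LP (LK LD1_c0 LD2_c30 LD3_c56)) = (LP (LK LD1_c0 LD2_c43 LD3_c15)) :=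
  Lgr Lrot49 (Lpe (f23189 IH) (Lpr_gf (K7.f156408 IH) (Lpe (K7.f23405 IH) (Lpe (K7.f82540 IH) (Lpe (K7.f86073 IH) (Lpr_gt (K7.f83138 IH) (Lpr_dt (K7.f86069 IH) (Lpe (K7.f83143 IH) (Lpe (K11.f83141 IH) (Lpn (LP (LK LD1_c0 LD2_c43 LD3_c15))))))))))))
theorem f450645 : Led Lsl_et (LP (LK LD1_c0 LD2_c19 LD3_c31)) = K35.v133 :=
  Lgr Lrot87 (Lpr_ef (K53.f450644 IH) (Lpn K35.v133))
theorem f494913 : Led Lsl_ef v971 = v1337 :=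
  Lgr Lrot17 (Lpe (f490787 IH) (Lpe (f450645 IH) (Lpr_dt (K7.f24282 IH) (Lpe (K7.f154146 IH) (Lpe (K11.f83141 IH) (Lpe (f156410 IH) (Lpr_ef (f452362 IH) (Lpe (K35.f452361 IH) (Lpe (K32.f206523 IH) (Lpr_df (f494912 IH) (Lpn v1337)))))))))))
theorem f509540 : Led Lsl_dt v971 = v2189 :=
  Lgr Lrot77 (Lpr_ef (f494913 IH) (Lpe (f494911 IH) (Lpe (K32.f436223 IH) (Lpe (K32.f446229 IH) (Lpr_ef (f509535 IH) (Lpn v2189))))))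
theorem f641060 : Led Lsl_cf v2189 = v4958 :=
  Lgr Lrot14 (Lpe (f509540 IH) (Lpe (f490787 IH) (Lpe (K35.f450642 IH) (Lpe (K24.f24043 IH) (Lpr_ct (K35.f180307 IH) (Lpr_gt (K17.f166184 IH) (Lpr_dt (K46.f22472 IH) (Lpr_gt (K35.f22852 IH) (Lpr_dt (f641054 IH) (Lpn v4958))))))))))
theorem f509410 : Led Lsl_ct (LP (LK LD1_c1 LD2_c37 LD3_c3)) = K32.v2163 :=
  Lgr Lrot8 (Lpr_gt (K32.f23185 IH) (Lpe (K0.f23181 IH) (Lpr_gt (K0.f22865 IH) (Lpr_dt (K17.f20091 IH) (Lpe (K17.f22864 IH) (Lpe (K17.f22859 IH) (Lpr_gf (K0.f22850 IH) (Lpe (K0.f22849 IH) (Lpr_gf (K32.f509408 IH) (Lpn K32.v2163))))))))))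
theorem f641062 : Led Lsl_et K32.v2163 = v4958 :=
  Lgr Lrot158 (Lpe (f509410 IH) (Lpr_ef (f509535 IH) (Lpr_cf (f641060 IH) (Lpn v4958))))
theorem f641064 : Led Lsl_gt K46.v1280 = v4958 :=
  Lgr Lrot131 (Lpe (K46.f494516 IH) (Lpr_dt (K46.f140934 IH) (Lpe (K49.f507720 IH) (Lpe (K35.f71353 IH) (Lpe (K35.f503797 IH) (Lpr_ef (K38.f140647 IH) (Lpr_dt (K16.f59826 IH) (Lpe (K24.f59829 IH) (Lpr_df (K32.f509413 IH) (Lpr_et (f641062 IH) (Lpn v4958)))))))))))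
theorem f631991 : Led Lsl_et (LP (LK LD1_c2 LD2_c54 LD3_c0)) = (LP (LK LD1_c5 LD2_c55 LD3_c21)) :=
  Lre_e IH (LK LD1_c2 LD2_c54 LD3_c0) (LK LD1_c5 LD2_c55 LD3_c21) Lrfl Lrfl
theorem f747073 : Led Lsl_gf (LP (LK LD1_c10 LD2_c4 LD3_c1)) = (LP (LK LD1_c5 LD2_c55 LD3_c21)) :=
  Lgr Lrot141 (Lpe (f702239 IH) (Lpr_dt (f169745 IH) (Lpr_gt (f747071 IH) (Lpr_df (f747067 IH) (Lpe (f747068 IH) (Lpr_gt (K50.f646017 IH) (Lpe (K49.f646014 IH) (Lpqs (K46.f645297 IH) (Lpr_gt (f641064 IH) (Lpe (f641054 IH) (Lpr_et (f631991 IH) (Lpn (LP (LK LD1_c5 LD2_c55 LD3_c21))))))))))))))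
theorem f747074 : Led Lsl_gt (LP (LK LD1_c5 LD2_c55 LD3_c21)) = (LP (LK LD1_c10 LD2_c4 LD3_c1)) :=
  Leop (Lpr_gf (f747073 IH) (Lpn (LP (LK LD1_c5 LD2_c55 LD3_c21))))
theorem seed_990 : LEOK LG_g (LK LD1_c5 LD2_c55 LD3_c21) :=
  Leoe_g (LK LD1_c5 LD2_c55 LD3_c21) (f747074 IH)
def v16223 : LQ := Led Lsl_at (LP (LK LD1_c5 LD2_c55 LD3_c17))
theorem f747111 : Led Lsl_at (LP (LK LD1_c5 LD2_c55 LD3_c17)) = v16223 :=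
  Lrfl
theorem f631844 : Led Lsl_ft (LP (LK LD1_c11 LD2_c35 LD3_c61)) = (LP (LK LD1_c5 LD2_c55 LD3_c17)) :=
  Lre_f IH (LK LD1_c11 LD2_c35 LD3_c61) (LK LD1_c5 LD2_c55 LD3_c17) Lrfl Lrfl
theorem f75061 : Led Lsl_et (LP (LK LD1_c6 LD2_c0 LD3_c22)) = (LP (LK LD1_c2 LD2_c56 LD3_c27)) :=
  Lre_e IH (LK LD1_c6 LD2_c0 LD3_c22) (LK LD1_c2 LD2_c56 LD3_c27) Lrfl Lrfl
theorem f75062 : Led Lsl_dt (LP (LK LD1_c6 LD2_c0 LD3_c22)) = (LP (LK LD1_c11 LD2_c45 LD3_c10)) :=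
  Lre_d IH (LK LD1_c6 LD2_c0 LD3_c22) (LK LD1_c11 LD2_c45 LD3_c10) Lrfl Lrfl
theorem f75013 : Led Lsl_dt (LP (LK LD1_c3 LD2_c0 LD3_c40)) = (LP (LK LD1_c6 LD2_c8 LD3_c45)) :=
  Lre_d IH (LK LD1_c3 LD2_c0 LD3_c40) (LK LD1_c6 LD2_c8 LD3_c45) Lrfl Lrfl
theorem f75063 : Led Lsl_gt (LP (LK LD1_c6 LD2_c8 LD3_c45)) = (LP (LK LD1_c11 LD2_c45 LD3_c10)) :=
  Lgr Lrot139 (Lpe (f75013 IH) (Lpe (K2.f58498 IH) (Lpe (K2.f75035 IH) (Lpr_dt (K2.f37268 IH) (Lpe (K2.f20559 IH) (Lpr_df (K2.f75036 IH) (Lpr_et (K37.f75059 IH) (Lpe (K45.f75060 IH) (Lpe (f75061 IH) (Lpr_dt (f75062 IH) (Lpn (LP (LK LD1_c11 LD2_c45 LD3_c10)))))))))))))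
theorem f75021 : Led Lsl_et (LP (LK LD1_c3 LD2_c0 LD3_c40)) = (LP (LK LD1_c6 LD2_c8 LD3_c46)) :=
  Lre_e IH (LK LD1_c3 LD2_c0 LD3_c40) (LK LD1_c6 LD2_c8 LD3_c46) Lrfl Lrfl
theorem f643519 : Led Lsl_gf (LP (LK LD1_c6 LD2_c8 LD3_c46)) = (LP (LK LD1_c11 LD2_c35 LD3_c61)) :=
  Lgr Lrot141 (Lpe (f75021 IH) (Lpr_dt (f75013 IH) (Lpr_gt (f75063 IH) (Lpe (f75062 IH) (Lpr_et (f75061 IH) (Lpr_gt (K45.f75060 IH) (Lpr_dt (K50.f75032 IH) (Lpr_gt (K46.f75033 IH) (Lpe (K50.f75034 IH) (Lpr_et (K50.f643517 IH) (Lpn (LP (LK LD1_c11 LD2_c35 LD3_c61)))))))))))))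
theorem f747115 : Led Lsl_gt (LP (LK LD1_c6 LD2_c8 LD3_c46)) = v16223 :=
  Lgr Lrot46 (Lpr_gf (f643519 IH) (Lpr_ft (f631844 IH) (Lpr_at (f747111 IH) (Lpn v16223))))
theorem f641048 : Led Lsl_dt (LP (LK LD1_c6 LD2_c45 LD3_c25)) = (LP (LK LD1_c5 LD2_c55 LD3_c17)) :=
  Lre_d IH (LK LD1_c6 LD2_c45 LD3_c25) (LK LD1_c5 LD2_c55 LD3_c17) Lrfl Lrfl
theorem f631841 : Led Lsl_ft (LP (LK LD1_c5 LD2_c55 LD3_c17)) = (LP (LK LD1_c11 LD2_c35 LD3_c61)) :=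
  Lre_f IH (LK LD1_c5 LD2_c55 LD3_c17) (LK LD1_c11 LD2_c35 LD3_c61) Lrfl Lrfl
theorem f644016 : Led Lsl_ft (LP (LK LD1_c9 LD2_c30 LD3_c45)) = (LP (LK LD1_c6 LD2_c45 LD3_c25)) :=
  Lgr Lrot54 (Lpr_df (K50.f644013 IH) (Lpe (f631841 IH) (Lpe (f641048 IH) (Lpn (LP (LK LD1_c6 LD2_c45 LD3_c25))))))
theorem f426267 : Led Lsl_gt (LP (LK LD1_c4 LD2_c49 LD3_c3)) = (LP (LK LD1_c9 LD2_c30 LD3_c44)) :=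
  Lre_g IH (LK LD1_c4 LD2_c49 LD3_c3) (LK LD1_c9 LD2_c30 LD3_c44) Lrfl Lrfl
theorem f644066 : Led Lsl_af (LP (LK LD1_c9 LD2_c30 LD3_c44)) = (LP (LK LD1_c6 LD2_c45 LD3_c25)) :=
  Lgr Lrot31 (Lpe (f426267 IH) (Lpe (K50.f643994 IH) (Lpr_ft (f644016 IH) (Lpn (LP (LK LD1_c6 LD2_c45 LD3_c25))))))
theorem f644069 : Led Lsl_at (LP (LK LD1_c9 LD2_c30 LD3_c44)) = (LP (LK LD1_c6 LD2_c45 LD3_c25)) :=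
  Lgr Lrot100 (Lpr_af (f644066 IH) (Lpn (LP (LK LD1_c6 LD2_c45 LD3_c25))))
theorem f747113 : Led Lsl_df (LP (LK LD1_c9 LD2_c30 LD3_c44)) = v16223 :=
  Lgr Lrot18 (Lpr_at (f644069 IH) (Lpr_dt (f641048 IH) (Lpr_at (f747111 IH) (Lpn v16223))))
theorem f74670 : Led Lsl_dt (LP (LK LD1_c4 LD2_c48 LD3_c59)) = (LP (LK LD1_c9 LD2_c30 LD3_c27)) :=
  Lre_d IH (LK LD1_c4 LD2_c48 LD3_c59) (LK LD1_c9 LD2_c30 LD3_c27) Lrfl Lrfl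
theorem f631843 : Led Lsl_et (LP (LK LD1_c5 LD2_c55 LD3_c17)) = (LP (LK LD1_c2 LD2_c53 LD3_c59)) :=
  Lre_e IH (LK LD1_c5 LD2_c55 LD3_c17) (LK LD1_c2 LD2_c53 LD3_c59) Lrfl Lrfl
theorem f641038 : Led Lsl_dt (LP (LK LD1_c5 LD2_c55 LD3_c17)) = (LP (LK LD1_c6 LD2_c45 LD3_c25)) :=
  Lre_d IH (LK LD1_c5 LD2_c55 LD3_c17) (LK LD1_c6 LD2_c45 LD3_c25) Lrfl Lrfl
theorem f643441 : Led Lsl_gt (LP (LK LD1_c9 LD2_c30 LD3_c27)) = (LP (LK LD1_c6 LD2_c45 LD3_c25)) :=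
  Lgr Lrot139 (Lpe (f74670 IH) (Lpe (K2.f74569 IH) (Lpe (K2.f74568 IH) (Lpr_dt (K2.f74567 IH) (Lpe (K2.f56896 IH) (Lpe (K2.f72401 IH) (Lpr_et (K41.f452856 IH) (Lpr_gf (K45.f500674 IH) (Lpqs (K45.f643429 IH) (Lpe (f631843 IH) (Lpr_dt (f641038 IH) (Lpn (LP (LK LD1_c6 LD2_c45 LD3_c25))))))))))))))
theorem f74672 : Led Lsl_gt (LP (LK LD1_c17 LD2_c31 LD3_c49)) = (LP (LK LD1_c9 LD2_c30 LD3_c27)) :=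
  Lre_g IH (LK LD1_c17 LD2_c31 LD3_c49) (LK LD1_c9 LD2_c30 LD3_c27) Lrfl Lrfl
theorem f644078 : Led Lsl_ff (LP (LK LD1_c9 LD2_c30 LD3_c44)) = (LP (LK LD1_c17 LD2_c31 LD3_c49)) :=
  Lgr Lrot52 (Lpr_at (f644069 IH) (Lpe (f643441 IH) (Lpe (f74672 IH) (Lpn (LP (LK LD1_c17 LD2_c31 LD3_c49))))))
theorem f644082 : Led Lsl_ft (LP (LK LD1_c9 LD2_c30 LD3_c44)) = (LP (LK LD1_c17 LD2_c31 LD3_c49)) :=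
  Lgr Lrot48 (Lpr_ff (f644078 IH) (Lpn (LP (LK LD1_c17 LD2_c31 LD3_c49))))
theorem f644084 : Led Lsl_af (LP (LK LD1_c9 LD2_c30 LD3_c45)) = (LP (LK LD1_c17 LD2_c31 LD3_c49)) :=
  Lgr Lrot45 (Lpr_ft (f644016 IH) (Lpe (f644066 IH) (Lpr_ft (f644082 IH) (Lpn (LP (LK LD1_c17 LD2_c31 LD3_c49))))))
theorem f644086 : Led Lsl_gt (LP (LK LD1_c9 LD2_c30 LD3_c44)) = (LP (LK LD1_c4 LD2_c49 LD3_c7)) :=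
  Lgr Lrot5 (Lpr_ft (f644082 IH) (Lpe (f644084 IH) (Lpr_gf (K50.f644019 IH) (Lpn (LP (LK LD1_c4 LD2_c49 LD3_c7))))))
theorem f642927 : Led Lsl_dt (LP (LK LD1_c6 LD2_c1 LD3_c13)) = (LP (LK LD1_c11 LD2_c47 LD3_c5)) :=
  Lre_d IH (LK LD1_c6 LD2_c1 LD3_c13) (LK LD1_c11 LD2_c47 LD3_c5) Lrfl Lrfl
theorem f747116 : Led Lsl_gf (LP (LK LD1_c6 LD2_c8 LD3_c45)) = (LP (LK LD1_c11 LD2_c47 LD3_c5)) :=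
  Lgr Lrot145 (Lpe (f75013 IH) (Lpr_et (f75021 IH) (Lpr_gt (f747115 IH) (Lpe (f747113 IH) (Lpr_gt (f644086 IH) (Lpe (K50.f634131 IH) (Lpr_et (K50.f634139 IH) (Lpr_gt (K50.f644023 IH) (Lpr_ef (f642928 IH) (Lpr_dt (f642927 IH) (Lpn (LP (LK LD1_c11 LD2_c47 LD3_c5)))))))))))))
theorem f747117 : Led Lsl_gt (LP (LK LD1_c11 LD2_c47 LD3_c5)) = (LP (LK LD1_c6 LD2_c8 LD3_c45)) :=
  Leop (Lpr_gf (f747116 IH) (Lpn (LP (LK LD1_c11 LD2_c47 LD3_c5))))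
theorem seed_991 : LEOK LG_g (LK LD1_c11 LD2_c47 LD3_c5) :=
  Leoe_g (LK LD1_c11 LD2_c47 LD3_c5) (f747117 IH)
def v16229 : LQ := Led Lsl_et (LP (LK LD1_c5 LD2_c55 LD3_c20))
theorem f747139 : Led Lsl_et (LP (LK LD1_c5 LD2_c55 LD3_c20)) = v16229 :=
  Lrfl
theorem f747142 : Led Lsl_ef (LP (LK LD1_c5 LD2_c55 LD3_c20)) = v16229 :=
  Lgr Lrot88 (Lpr_et (f747139 IH) (Lpn v16229))
def v13011 : LQ := Led Lsl_gt (LP (LK LD1_c4 LD2_c37 LD3_c15))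
theorem f700182 : Led Lsl_gt (LP (LK LD1_c4 LD2_c37 LD3_c15)) = v13011 :=
  Lrfl
def v12966 : LQ := Led Lsl_bt (LP (LK LD1_c4 LD2_c35 LD3_c44))
theorem f699917 : Led Lsl_bt (LP (LK LD1_c4 LD2_c35 LD3_c44)) = v12966 :=
  Lrfl
def v5077 : LQ := Led Lsl_et (LP (LK LD1_c2 LD2_c57 LD3_c6))
theorem f645206 : Led Lsl_et (LP (LK LD1_c2 LD2_c57 LD3_c6)) = v5077 :=
  Lrfl
theorem f645207 : Led Lsl_bf K35.v1705 = v5077 :=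
  Lgr Lrot96 (Lpe (K35.f500950 IH) (Lpr_bt (K52.f435299 IH) (Lpr_et (f645206 IH) (Lpn v5077))))
theorem f699919 : Led Lsl_df v5077 = v12966 :=
  Lgr Lrot12 (Lpe (f645207 IH) (Lpe (K35.f500952 IH) (Lpr_bt (f699917 IH) (Lpn v12966))))
theorem f699922 : Led Lsl_dt v5077 = v12966 :=
  Lgr Lrot42 (Lpr_df (f699919 IH) (Lpn v12966))
theorem f645208 : Led Lsl_ef (LP (LK LD1_c2 LD2_c57 LD3_c6)) = v5077 :=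
  Lgr Lrot88 (Lpr_et (f645206 IH) (Lpn v5077))
def v5075 : LQ := Led Lsl_gf (LP (LK LD1_c2 LD2_c57 LD3_c6))
theorem f645202 : Led Lsl_gf (LP (LK LD1_c2 LD2_c57 LD3_c6)) = v5075 :=
  Lrfl
theorem f698905 : (LP (LK LD1_c1 LD2_c36 LD3_c36)) = v5075 :=
  Lefun (Lecon (Lfl_gt (K46.f509247 IH)) (K52.f698902 IH)) (f645202 IH)
theorem f100261 : Led Lsl_et (LP (LK LD1_c2 LD2_c15 LD3_c47)) = (LP (LK LD1_c1 LD2_c4 LD3_c53)) :=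
  Lre_e IH (LK LD1_c2 LD2_c15 LD3_c47) (LK LD1_c1 LD2_c4 LD3_c53) Lrfl Lrfl
theorem f100262 : Led Lsl_dt (LP (LK LD1_c2 LD2_c15 LD3_c47)) = (LP (LK LD1_c4 LD2_c37 LD3_c15)) :=
  Lre_d IH (LK LD1_c2 LD2_c15 LD3_c47) (LK LD1_c4 LD2_c37 LD3_c15) Lrfl Lrfl
theorem f699923 : Led Lsl_gf (LP (LK LD1_c4 LD2_c37 LD3_c15)) = v12966 :=
  Lgr Lrot145 (Lpe (f100262 IH) (Lpr_et (f100261 IH) (Lpr_gt (K4.f99613 IH) (Lpe (K5.f99624 IH) (Lpe (K8.f72984 IH) (Lpe (K6.f116865 IH) (Lpr_et (K51.f116899 IH) (Lpqs (f698905 IH) (Lpe (f645202 IH) (Lpr_ef (f645208 IH) (Lpr_dt (f699922 IH) (Lpn v12966))))))))))))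
theorem f631981 : Led Lsl_ff (LP (LK LD1_c2 LD2_c54 LD3_c1)) = K50.v4204 :=
  Lgr Lrot19 (Lpr_dt (K35.f631977 IH) (Lpe (K35.f631973 IH) (Lpr_dt (K50.f631863 IH) (Lpn K50.v4204))))
theorem f631984 : Led Lsl_ft (LP (LK LD1_c2 LD2_c54 LD3_c1)) = K50.v4204 :=
  Lgr Lrot48 (Lpr_ff (f631981 IH) (Lpn K50.v4204))
theorem f631988 : Led Lsl_af (LP (LK LD1_c2 LD2_c54 LD3_c0)) = K50.v4204 :=
  Lgr Lrot31 (Lpe (K35.f22852 IH) (Lpe (K35.f22473 IH) (Lpr_ft (f631984 IH) (Lpn K50.v4204))))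
theorem f631992 : Led Lsl_ft (LP (LK LD1_c2 LD2_c54 LD3_c0)) = (LP (LK LD1_c4 LD2_c35 LD3_c44)) :=
  Lgr Lrot101 (Lpr_af (f631988 IH) (Lpe (f631984 IH) (Lpr_af (K35.f631978 IH) (Lpn (LP (LK LD1_c4 LD2_c35 LD3_c44))))))
theorem f442475 : Led Lsl_bt (LP (LK LD1_c5 LD2_c55 LD3_c20)) = (LP (LK LD1_c2 LD2_c54 LD3_c0)) :=
  Lre_b IH (LK LD1_c5 LD2_c55 LD3_c20) (LK LD1_c2 LD2_c54 LD3_c0) Lrfl Lrfl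
theorem f699920 : Led Lsl_ff (LP (LK LD1_c5 LD2_c55 LD3_c20)) = v12966 :=
  Lgr Lrot25 (Lpr_bt (f442475 IH) (Lpr_ft (f631992 IH) (Lpr_bt (f699917 IH) (Lpn v12966))))
theorem f700183 : Led Lsl_at (LP (LK LD1_c5 LD2_c55 LD3_c20)) = v13011 :=
  Lgr Lrot26 (Lpr_ff (f699920 IH) (Lpe (f699923 IH) (Lpr_gt (f700182 IH) (Lpn v13011))))
def v15701 : LQ := Led Lsl_dt (LP (LK LD1_c5 LD2_c45 LD3_c29))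
theorem f740992 : Led Lsl_dt (LP (LK LD1_c5 LD2_c45 LD3_c29)) = v15701 :=
  Lrfl
theorem f740993 : Led Lsl_df (LP (LK LD1_c5 LD2_c45 LD3_c29)) = v15701 :=
  Lgr Lrot38 (Lpr_dt (f740992 IH) (Lpn v15701))
theorem f168249 : Led Lsl_gt (LP (LK LD1_c5 LD2_c45 LD3_c29)) = (LP (LK LD1_c2 LD2_c48 LD3_c30)) :=
  Lre_g IH (LK LD1_c5 LD2_c45 LD3_c29) (LK LD1_c2 LD2_c48 LD3_c30) Lrfl Lrfl
theorem f168248 : Led Lsl_dt (LP (LK LD1_c5 LD2_c45 LD3_c30)) = (LP (LK LD1_c2 LD2_c48 LD3_c30)) :=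
  Lre_d IH (LK LD1_c5 LD2_c45 LD3_c30) (LK LD1_c2 LD2_c48 LD3_c30) Lrfl Lrfl
theorem f494456 : Led Lsl_et (LP (LK LD1_c2 LD2_c15 LD3_c50)) = (LP (LK LD1_c4 LD2_c37 LD3_c15)) :=
  Lre_e IH (LK LD1_c2 LD2_c15 LD3_c50) (LK LD1_c4 LD2_c37 LD3_c15) Lrfl Lrfl
theorem f740994 : Led Lsl_ef v13011 = v15701 :=
  Lgr Lrot17 (Lpe (f700182 IH) (Lpe (f494456 IH) (Lpr_dt (K53.f494436 IH) (Lpq (K37.f542405 IH) (Lpe (K37.f495440 IH) (Lpe (K19.f201440 IH) (Lpe (K38.f547706 IH) (Lpr_ef (K18.f168241 IH) (Lpr_dt (f168248 IH) (Lpe (f168249 IH) (Lpr_df (f740993 IH) (Lpn v15701))))))))))))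
theorem f740995 : Led Lsl_et v13011 = v15701 :=
  Lgr Lrot87 (Lpr_ef (f740994 IH) (Lpn v15701))
theorem f747143 : Led Lsl_at v15701 = v16229 :=
  Lgr Lrot80 (Lpe (f740995 IH) (Lpe (f700183 IH) (Lpr_ef (f747142 IH) (Lpn v16229))))
def v15699 : LQ := Led Lsl_ft (LP (LK LD1_c5 LD2_c45 LD3_c28))
theorem f740986 : Led Lsl_ft (LP (LK LD1_c5 LD2_c45 LD3_c28)) = v15699 :=
  Lrfl
def v15698 : LQ := Led Lsl_at (LP (LK LD1_c5 LD2_c45 LD3_c28))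
theorem f740978 : Led Lsl_at (LP (LK LD1_c5 LD2_c45 LD3_c28)) = v15698 :=
  Lrfl
theorem f740979 : Led Lsl_af (LP (LK LD1_c5 LD2_c45 LD3_c28)) = v15698 :=
  Lgr Lrot0 (Lpr_at (f740978 IH) (Lpn v15698))
theorem f168250 : Led Lsl_gt (LP (LK LD1_c2 LD2_c48 LD3_c30)) = (LP (LK LD1_c5 LD2_c45 LD3_c28)) :=
  Lre_g IH (LK LD1_c2 LD2_c48 LD3_c30) (LK LD1_c5 LD2_c45 LD3_c28) Lrfl Lrfl
theorem f740982 : Led Lsl_ft (LP (LK LD1_c5 LD2_c45 LD3_c29)) = v15698 :=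
  Lgr Lrot2 (Lpr_gt (f168249 IH) (Lpr_gt (f168250 IH) (Lpr_af (f740979 IH) (Lpn v15698))))
theorem f740987 : Led Lsl_af (LP (LK LD1_c5 LD2_c45 LD3_c29)) = v15699 :=
  Lgr Lrot45 (Lpr_ft (f740982 IH) (Lpe (f740979 IH) (Lpr_ft (f740986 IH) (Lpn v15699))))
theorem f747145 : Led Lsl_df v15699 = v16229 :=
  Lgr Lrot18 (Lpe (f740987 IH) (Lpr_dt (f740992 IH) (Lpr_at (f747143 IH) (Lpn v16229))))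
theorem f740988 : Led Lsl_ff (LP (LK LD1_c5 LD2_c45 LD3_c28)) = v15699 :=
  Lgr Lrot3 (Lpr_ft (f740986 IH) (Lpn v15699))
theorem f168313 : Led Lsl_dt (LP (LK LD1_c5 LD2_c45 LD3_c28)) = (LP (LK LD1_c11 LD2_c21 LD3_c28)) :=
  Lre_d IH (LK LD1_c5 LD2_c45 LD3_c28) (LK LD1_c11 LD2_c21 LD3_c28) Lrfl Lrfl
theorem f747149 : Led Lsl_ft (LP (LK LD1_c11 LD2_c21 LD3_c28)) = v16229 :=
  Lgr Lrot54 (Lpe (f168313 IH) (Lpr_ff (f740988 IH) (Lpr_df (f747145 IH) (Lpn v16229))))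
theorem f631990 : Led Lsl_bt (LP (LK LD1_c2 LD2_c54 LD3_c0)) = (LP (LK LD1_c5 LD2_c55 LD3_c20)) :=
  Lre_b IH (LK LD1_c2 LD2_c54 LD3_c0) (LK LD1_c5 LD2_c55 LD3_c20) Lrfl Lrfl
theorem f747141 : Led Lsl_bf (LP (LK LD1_c5 LD2_c55 LD3_c21)) = v16229 :=
  Lgr Lrot96 (Lpr_et (K35.f166169 IH) (Lpr_bt (f631990 IH) (Lpr_et (f747139 IH) (Lpn v16229))))
theorem f631997 : Led Lsl_ft (LP (LK LD1_c5 LD2_c55 LD3_c21)) = (LP (LK LD1_c11 LD2_c36 LD3_c2)) :=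
  Lre_f IH (LK LD1_c5 LD2_c55 LD3_c21) (LK LD1_c11 LD2_c36 LD3_c2) Lrfl Lrfl
theorem f747150 : Led Lsl_bf (LP (LK LD1_c11 LD2_c21 LD3_c28)) = (LP (LK LD1_c11 LD2_c36 LD3_c2)) :=
  Lgr Lrot61 (Lpr_ft (f747149 IH) (Lpe (f747141 IH) (Lpr_ft (f631997 IH) (Lpn (LP (LK LD1_c11 LD2_c36 LD3_c2))))))
theorem f747151 : Led Lsl_bt (LP (LK LD1_c11 LD2_c36 LD3_c2)) = (LP (LK LD1_c11 LD2_c21 LD3_c28)) :=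
  Leop (Lpr_bf (f747150 IH) (Lpn (LP (LK LD1_c11 LD2_c36 LD3_c2))))
theorem seed_992 : LEOK LG_b (LK LD1_c11 LD2_c36 LD3_c2) :=
  Leoe_b (LK LD1_c11 LD2_c36 LD3_c2) (f747151 IH)
def v13045 : LQ := Led Lsl_gt (LP (LK LD1_c4 LD2_c38 LD3_c22))
theorem f700712 : Led Lsl_gt (LP (LK LD1_c4 LD2_c38 LD3_c22)) = v13045 :=
  Lrfl
theorem f631953 : Led Lsl_et (LP (LK LD1_c2 LD2_c16 LD3_c13)) = (LP (LK LD1_c4 LD2_c38 LD3_c22)) :=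
  Lre_e IH (LK LD1_c2 LD2_c16 LD3_c13) (LK LD1_c4 LD2_c38 LD3_c22) Lrfl Lrfl
theorem f73033 : Led Lsl_dt (LP (LK LD1_c3 LD2_c2 LD3_c30)) = (LP (LK LD1_c6 LD2_c11 LD3_c53)) :=
  Lre_d IH (LK LD1_c3 LD2_c2 LD3_c30) (LK LD1_c6 LD2_c11 LD3_c53) Lrfl Lrfl
theorem f116955 : Led Lsl_gt (LP (LK LD1_c12 LD2_c3 LD3_c34)) = (LP (LK LD1_c6 LD2_c11 LD3_c53)) :=
  Lre_g IH (LK LD1_c12 LD2_c3 LD3_c34) (LK LD1_c6 LD2_c11 LD3_c53) Lrfl Lrfl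
theorem f116911 : Led Lsl_et (LP (LK LD1_c3 LD2_c20 LD3_c27)) = (LP (LK LD1_c6 LD2_c44 LD3_c41)) :=
  Lre_e IH (LK LD1_c3 LD2_c20 LD3_c27) (LK LD1_c6 LD2_c44 LD3_c41) Lrfl Lrfl
theorem f698914 : Led Lsl_af (LP (LK LD1_c6 LD2_c46 LD3_c49)) = (LP (LK LD1_c6 LD2_c44 LD3_c41)) :=
  Lgr Lrot50 (Lpr_et (K51.f632006 IH) (Lpq (f698913 IH) (Lpe (f652690 IH) (Lpr_et (f116911 IH) (Lpn (LP (LK LD1_c6 LD2_c44 LD3_c41)))))))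
theorem f116905 : Led Lsl_et (LP (LK LD1_c6 LD2_c44 LD3_c41)) = (LP (LK LD1_c3 LD2_c20 LD3_c27)) :=
  Lre_e IH (LK LD1_c6 LD2_c44 LD3_c41) (LK LD1_c3 LD2_c20 LD3_c27) Lrfl Lrfl
theorem f73034 : Led Lsl_gt (LP (LK LD1_c6 LD2_c11 LD3_c53)) = (LP (LK LD1_c12 LD2_c3 LD3_c33)) :=
  Lre_g IH (LK LD1_c6 LD2_c11 LD3_c53) (LK LD1_c12 LD2_c3 LD3_c33) Lrfl Lrfl
theorem f116906 : Led Lsl_dt (LP (LK LD1_c6 LD2_c44 LD3_c41)) = (LP (LK LD1_c12 LD2_c3 LD3_c33)) :=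
  Lgr Lrot56 (Lpr_et (f116905 IH) (Lpr_gt (f116904 IH) (Lpe (K51.f116899 IH) (Lpr_dt (K6.f116865 IH) (Lpr_gt (K5.f56599 IH) (Lpr_df (K4.f73004 IH) (Lpr_et (K36.f73028 IH) (Lpr_gt (K36.f73031 IH) (Lpr_dt (f73033 IH) (Lpr_gt (f73034 IH) (Lpn (LP (LK LD1_c12 LD2_c3 LD3_c33)))))))))))))
theorem f116909 : Led Lsl_df (LP (LK LD1_c6 LD2_c44 LD3_c41)) = (LP (LK LD1_c12 LD2_c3 LD3_c33)) :=
  Lgr Lrot38 (Lpr_dt (f116906 IH) (Lpn (LP (LK LD1_c12 LD2_c3 LD3_c33))))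
theorem f698918 : Led Lsl_at (LP (LK LD1_c12 LD2_c56 LD3_c50)) = (LP (LK LD1_c12 LD2_c3 LD3_c33)) :=
  Lgr Lrot51 (Lpe (K51.f632005 IH) (Lpr_af (f698914 IH) (Lpr_df (f116909 IH) (Lpn (LP (LK LD1_c12 LD2_c3 LD3_c33))))))
theorem f698924 : Led Lsl_ff (LP (LK LD1_c12 LD2_c56 LD3_c50)) = (LP (LK LD1_c12 LD2_c3 LD3_c34)) :=
  Lgr Lrot52 (Lpr_at (f698918 IH) (Lpe (f73034 IH) (Lpe (f116955 IH) (Lpn (LP (LK LD1_c12 LD2_c3 LD3_c34))))))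
theorem f632007 : Led Lsl_dt (LP (LK LD1_c12 LD2_c56 LD3_c50)) = (LP (LK LD1_c6 LD2_c46 LD3_c49)) :=
  Lre_d IH (LK LD1_c12 LD2_c56 LD3_c50) (LK LD1_c6 LD2_c46 LD3_c49) Lrfl Lrfl
def v8711 : LQ := Led Lsl_bt K32.v2163
theorem f672061 : Led Lsl_bt K32.v2163 = v8711 :=
  Lrfl
theorem f672063 : Led Lsl_ff (LP (LK LD1_c6 LD2_c46 LD3_c49)) = v8711 :=
  Lgr Lrot25 (Lpr_bt (K51.f416695 IH) (Lpr_ft (K32.f509417 IH) (Lpr_bt (f672061 IH) (Lpn v8711))))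
theorem f672064 : Led Lsl_ft (LP (LK LD1_c6 LD2_c46 LD3_c49)) = v8711 :=
  Lgr Lrot48 (Lpr_ff (f672063 IH) (Lpn v8711))
theorem f698930 : Led Lsl_dt v8711 = (LP (LK LD1_c12 LD2_c3 LD3_c34)) :=
  Lgr Lrot60 (Lpe (f672064 IH) (Lpe (f632007 IH) (Lpr_ff (f698924 IH) (Lpn (LP (LK LD1_c12 LD2_c3 LD3_c34))))))
theorem f700716 : Led Lsl_et v8711 = v13045 :=
  Lgr Lrot122 (Lpr_dt (f698930 IH) (Lpr_gt (f116955 IH) (Lpe (f73033 IH) (Lpr_et (K51.f116919 IH) (Lpe (K52.f644692 IH) (Lpr_dt (K45.f615052 IH) (Lpe (K45.f644445 IH) (Lpe (K45.f631945 IH) (Lpr_et (f631953 IH) (Lpr_gt (f700712 IH) (Lpn v13045)))))))))))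
theorem f700719 : Led Lsl_ff v5077 = v13045 :=
  Lgr Lrot72 (Lpe (f645208 IH) (Lpqs (K51.f700262 IH) (Lpe (K51.f700229 IH) (Lpqs (K51.f700271 IH) (Lpe (K51.f632000 IH) (Lpr_ft (f672064 IH) (Lpr_et (f700716 IH) (Lpn v13045))))))))
theorem f700722 : Led Lsl_ft v5077 = v13045 :=
  Lgr Lrot48 (Lpr_ff (f700719 IH) (Lpn v13045))
theorem f699921 : Led Lsl_ft (LP (LK LD1_c5 LD2_c55 LD3_c20)) = v12966 :=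
  Lgr Lrot48 (Lpr_ff (f699920 IH) (Lpn v12966))
theorem f700723 : Led Lsl_df (LP (LK LD1_c5 LD2_c55 LD3_c20)) = v13045 :=
  Lgr Lrot78 (Lpr_ft (f699921 IH) (Lpe (f699919 IH) (Lpr_ft (f700722 IH) (Lpn v13045))))
theorem f698931 : Led Lsl_ft (LP (LK LD1_c12 LD2_c56 LD3_c50)) = (LP (LK LD1_c12 LD2_c3 LD3_c34)) :=
  Lgr Lrot48 (Lpr_ff (f698924 IH) (Lpn (LP (LK LD1_c12 LD2_c3 LD3_c34))))
theorem f698937 : Led Lsl_df v8711 = (LP (LK LD1_c12 LD2_c3 LD3_c34)) :=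
  Lgr Lrot78 (Lpe (f672063 IH) (Lpr_dt (K51.f632005 IH) (Lpr_ft (f698931 IH) (Lpn (LP (LK LD1_c12 LD2_c3 LD3_c34))))))
theorem f747148 : Led Lsl_et v15699 = (LP (LK LD1_c12 LD2_c3 LD3_c34)) :=
  Lgr Lrot71 (Lpr_df (f747145 IH) (Lpe (f747139 IH) (Lpr_df (f700723 IH) (Lpe (f700716 IH) (Lpr_df (f698937 IH) (Lpn (LP (LK LD1_c12 LD2_c3 LD3_c34))))))))
theorem f740983 : Led Lsl_ff (LP (LK LD1_c5 LD2_c45 LD3_c29)) = v15698 :=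
  Lgr Lrot3 (Lpr_ft (f740982 IH) (Lpn v15698))
theorem f740989 : Led Lsl_at (LP (LK LD1_c5 LD2_c45 LD3_c29)) = v15699 :=
  Lgr Lrot66 (Lpr_ff (f740983 IH) (Lpe (f740978 IH) (Lpr_ff (f740988 IH) (Lpn v15699))))
theorem f168311 : Led Lsl_et (LP (LK LD1_c11 LD2_c21 LD3_c31)) = (LP (LK LD1_c5 LD2_c45 LD3_c29)) :=
  Lre_e IH (LK LD1_c11 LD2_c21 LD3_c31) (LK LD1_c5 LD2_c45 LD3_c29) Lrfl Lrfl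
theorem f747165 : Led Lsl_af (LP (LK LD1_c11 LD2_c21 LD3_c31)) = (LP (LK LD1_c12 LD2_c3 LD3_c34)) :=
  Lgr Lrot50 (Lpr_et (f168311 IH) (Lpr_at (f740989 IH) (Lpr_et (f747148 IH) (Lpn (LP (LK LD1_c12 LD2_c3 LD3_c34))))))
theorem f747166 : Led Lsl_at (LP (LK LD1_c12 LD2_c3 LD3_c34)) = (LP (LK LD1_c11 LD2_c21 LD3_c31)) :=
  Leop (Lpr_af (f747165 IH) (Lpn (LP (LK LD1_c12 LD2_c3 LD3_c34))))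
theorem seed_993 : LEOK LG_a (LK LD1_c12 LD2_c3 LD3_c34) :=
  Leoe_a (LK LD1_c12 LD2_c3 LD3_c34) (f747166 IH)
def v6335 : LQ := Led Lsl_gt (LP (LK LD1_c3 LD2_c20 LD3_c36))
theorem f652884 : Led Lsl_gt (LP (LK LD1_c3 LD2_c20 LD3_c36)) = v6335 :=
  Lrfl
theorem f691515 : Led Lsl_dt (LP (LK LD1_c4 LD2_c36 LD3_c40)) = K49.v12330 :=
  Lgr Lrot77 (Lpe (K49.f142125 IH) (Lpe (K6.f141300 IH) (Lpr_ef (K35.f494430 IH) (Lpqs (K35.f538315 IH) (Lpe (K35.f211641 IH) (Lpr_ef (K49.f691512 IH) (Lpn K49.v12330)))))))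
theorem f75919 : Led Lsl_dt (LP (LK LD1_c9 LD2_c17 LD3_c6)) = (LP (LK LD1_c4 LD2_c40 LD3_c50)) :=
  Lre_d IH (LK LD1_c9 LD2_c17 LD3_c6) (LK LD1_c4 LD2_c40 LD3_c50) Lrfl Lrfl
theorem f414685 : Led Lsl_bt (LP (LK LD1_c4 LD2_c40 LD3_c50)) = (LP (LK LD1_c3 LD2_c2 LD3_c29)) :=
  Lre_b IH (LK LD1_c4 LD2_c40 LD3_c50) (LK LD1_c3 LD2_c2 LD3_c29) Lrfl Lrfl
theorem f561788 : Led Lsl_df (LP (LK LD1_c5 LD2_c42 LD3_c52)) = (LP (LK LD1_c3 LD2_c2 LD3_c29)) :=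
  Lgr Lrot12 (Lpr_bt (K40.f561780 IH) (Lpr_dt (f75919 IH) (Lpr_bt (f414685 IH) (Lpn (LP (LK LD1_c3 LD2_c2 LD3_c29))))))
theorem f142142 : Led Lsl_et (LP (LK LD1_c0 LD2_c19 LD3_c53)) = (LP (LK LD1_c0 LD2_c44 LD3_c47)) :=
  Lre_e IH (LK LD1_c0 LD2_c19 LD3_c53) (LK LD1_c0 LD2_c44 LD3_c47) Lrfl Lrfl
theorem f617086 : Led Lsl_gf (LP (LK LD1_c5 LD2_c42 LD3_c52)) = (LP (LK LD1_c6 LD2_c44 LD3_c60)) :=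
  Lgr Lrot145 (Lpr_df (f561788 IH) (Lpr_et (K50.f72998 IH) (Lpe (K38.f157152 IH) (Lpr_dt (K7.f141256 IH) (Lpr_gt (K6.f142118 IH) (Lpe (K46.f35545 IH) (Lpr_et (f142142 IH) (Lpr_gt (K46.f142143 IH) (Lpe (K53.f79990 IH) (Lpr_dt (K51.f79991 IH) (Lpn (LP (LK LD1_c6 LD2_c44 LD3_c60)))))))))))))
def v6336 : LQ := Led Lsl_gf (LP (LK LD1_c3 LD2_c20 LD3_c36))
theorem f652886 : Led Lsl_gf (LP (LK LD1_c3 LD2_c20 LD3_c36)) = v6336 :=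
  Lrfl
theorem f168312 : Led Lsl_et (LP (LK LD1_c11 LD2_c21 LD3_c29)) = (LP (LK LD1_c5 LD2_c45 LD3_c28)) :=
  Lre_e IH (LK LD1_c11 LD2_c21 LD3_c29) (LK LD1_c5 LD2_c45 LD3_c28) Lrfl Lrfl
theorem f747168 : Led Lsl_ff (LP (LK LD1_c11 LD2_c21 LD3_c29)) = (LP (LK LD1_c20 LD2_c12 LD3_c12)) :=
  Lgr Lrot72 (Lpr_et (f168312 IH) (Lpr_ft (f740986 IH) (Lpr_et (f747148 IH) (Lpe (f698924 IH) (Lpe (K51.f700282 IH) (Lpn (LP (LK LD1_c20 LD2_c12 LD3_c12))))))))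
theorem f747173 : Led Lsl_ft (LP (LK LD1_c11 LD2_c21 LD3_c29)) = (LP (LK LD1_c20 LD2_c12 LD3_c12)) :=
  Lgr Lrot48 (Lpr_ff (f747168 IH) (Lpn (LP (LK LD1_c20 LD2_c12 LD3_c12))))
theorem f698920 : Led Lsl_af (LP (LK LD1_c12 LD2_c56 LD3_c50)) = (LP (LK LD1_c12 LD2_c3 LD3_c33)) :=
  Lgr Lrot0 (Lpr_at (f698918 IH) (Lpn (LP (LK LD1_c12 LD2_c3 LD3_c33))))
theorem f116922 : Led Lsl_et (LP (LK LD1_c21 LD2_c9 LD3_c1)) = (LP (LK LD1_c12 LD2_c3 LD3_c33)) :=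
  Lre_e IH (LK LD1_c21 LD2_c9 LD3_c1) (LK LD1_c12 LD2_c3 LD3_c33) Lrfl Lrfl
theorem f700284 : Led Lsl_at (LP (LK LD1_c20 LD2_c12 LD3_c12)) = (LP (LK LD1_c21 LD2_c9 LD3_c1)) :=
  Lgr Lrot80 (Lpr_ef (K51.f700282 IH) (Lpr_af (f698920 IH) (Lpe (f116922 IH) (Lpn (LP (LK LD1_c21 LD2_c9 LD3_c1))))))
theorem f416690 : Led Lsl_bt (LP (LK LD1_c12 LD2_c56 LD3_c50)) = (LP (LK LD1_c6 LD2_c46 LD3_c50)) :=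
  Lre_b IH (LK LD1_c12 LD2_c56 LD3_c50) (LK LD1_c6 LD2_c46 LD3_c50) Lrfl Lrfl
theorem f700292 : Led Lsl_bf (LP (LK LD1_c20 LD2_c12 LD3_c12)) = (LP (LK LD1_c12 LD2_c56 LD3_c51)) :=
  Lgr Lrot96 (Lpr_et (K51.f700288 IH) (Lpr_bt (f416690 IH) (Lpr_et (K24.f416705 IH) (Lpn (LP (LK LD1_c12 LD2_c56 LD3_c51))))))
theorem f150568 : Led Lsl_dt (LP (LK LD1_c2 LD2_c16 LD3_c21)) = (LP (LK LD1_c4 LD2_c38 LD3_c40)) :=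
  Lre_d IH (LK LD1_c2 LD2_c16 LD3_c21) (LK LD1_c4 LD2_c38 LD3_c40) Lrfl Lrfl
theorem f416698 : Led Lsl_dt (LP (LK LD1_c9 LD2_c13 LD3_c11)) = (LP (LK LD1_c12 LD2_c56 LD3_c51)) :=
  Lgr Lrot77 (Lpe (K24.f26818 IH) (Lpe (f150568 IH) (Lpr_ef (K24.f416692 IH) (Lpe (K24.f416656 IH) (Lpe (K24.f416694 IH) (Lpn (LP (LK LD1_c12 LD2_c56 LD3_c51))))))))
theorem f700304 : Led Lsl_bt (LP (LK LD1_c11 LD2_c16 LD3_c14)) = (LP (LK LD1_c9 LD2_c13 LD3_c11)) :=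
  Lgr Lrot95 (Lpe (K51.f281962 IH) (Lpr_bf (f700292 IH) (Lpe (f416698 IH) (Lpn (LP (LK LD1_c9 LD2_c13 LD3_c11))))))
theorem f700308 : Led Lsl_bf (LP (LK LD1_c9 LD2_c11 LD3_c24)) = (LP (LK LD1_c4 LD2_c38 LD3_c40)) :=
  Lgr Lrot96 (Lpe (K51.f604815 IH) (Lpr_bt (f700304 IH) (Lpr_et (K24.f416704 IH) (Lpn (LP (LK LD1_c4 LD2_c38 LD3_c40))))))
theorem f700312 : Led Lsl_bt (LP (LK LD1_c9 LD2_c11 LD3_c24)) = (LP (LK LD1_c4 LD2_c38 LD3_c40)) :=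
  Lgr Lrot127 (Lpr_bf (f700308 IH) (Lpn (LP (LK LD1_c4 LD2_c38 LD3_c40))))
theorem f508021 : Led Lsl_af (LP (LK LD1_c2 LD2_c57 LD3_c8)) = (LP (LK LD1_c4 LD2_c38 LD3_c40)) :=
  Lgr Lrot0 (Lpr_at (K32.f508019 IH) (Lpn (LP (LK LD1_c4 LD2_c38 LD3_c40))))
def v5079 : LQ := Led Lsl_bt (LP (LK LD1_c2 LD2_c57 LD3_c8))
theorem f645212 : Led Lsl_bt (LP (LK LD1_c2 LD2_c57 LD3_c8)) = v5079 :=
  Lrfl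
theorem f75821 : Led Lsl_dt (LP (LK LD1_c5 LD2_c59 LD3_c57)) = (LP (LK LD1_c2 LD2_c56 LD3_c16)) :=
  Lre_d IH (LK LD1_c5 LD2_c59 LD3_c57) (LK LD1_c2 LD2_c56 LD3_c16) Lrfl Lrfl
theorem f502759 : Led Lsl_dt (LP (LK LD1_c4 LD2_c48 LD3_c56)) = (LP (LK LD1_c9 LD2_c30 LD3_c21)) :=
  Lre_d IH (LK LD1_c4 LD2_c48 LD3_c56) (LK LD1_c9 LD2_c30 LD3_c21) Lrfl Lrfl
theorem f698985 : Led Lsl_ff (LP (LK LD1_c5 LD2_c59 LD3_c57)) = (LP (LK LD1_c9 LD2_c30 LD3_c21)) :=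
  Lgr Lrot19 (Lpr_dt (f75821 IH) (Lpr_ft (K52.f641426 IH) (Lpqs (K52.f698977 IH) (Lpr_dt (f502759 IH) (Lpn (LP (LK LD1_c9 LD2_c30 LD3_c21)))))))
theorem f508513 : Led Lsl_dt (LP (LK LD1_c9 LD2_c13 LD3_c7)) = (LP (LK LD1_c4 LD2_c38 LD3_c38)) :=
  Lre_d IH (LK LD1_c9 LD2_c13 LD3_c7) (LK LD1_c4 LD2_c38 LD3_c38) Lrfl Lrfl
theorem f75858 : Led Lsl_dt (LP (LK LD1_c2 LD2_c56 LD3_c16)) = (LP (LK LD1_c5 LD2_c59 LD3_c57)) :=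
  Lre_d IH (LK LD1_c2 LD2_c56 LD3_c16) (LK LD1_c5 LD2_c59 LD3_c57) Lrfl Lrfl
theorem f669245 : Led Lsl_af (LP (LK LD1_c9 LD2_c13 LD3_c7)) = (LP (LK LD1_c5 LD2_c59 LD3_c57)) :=
  Lgr Lrot117 (Lpr_dt (f508513 IH) (Lpqs (K51.f669240 IH) (Lpe (K51.f641415 IH) (Lpr_dt (f75858 IH) (Lpn (LP (LK LD1_c5 LD2_c59 LD3_c57)))))))
theorem f445908 : Led Lsl_bt (LP (LK LD1_c9 LD2_c13 LD3_c7)) = (LP (LK LD1_c4 LD2_c38 LD3_c39)) :=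
  Lre_b IH (LK LD1_c9 LD2_c13 LD3_c7) (LK LD1_c4 LD2_c38 LD3_c39) Lrfl Lrfl
theorem f645215 : Led Lsl_ff (LP (LK LD1_c9 LD2_c13 LD3_c7)) = v5079 :=
  Lgr Lrot25 (Lpr_bt (f445908 IH) (Lpe (K32.f508015 IH) (Lpr_bt (f645212 IH) (Lpn v5079))))
theorem f645217 : Led Lsl_ft (LP (LK LD1_c9 LD2_c13 LD3_c7)) = v5079 :=
  Lgr Lrot48 (Lpr_ff (f645215 IH) (Lpn v5079))
theorem f698987 : Led Lsl_at v5079 = (LP (LK LD1_c9 LD2_c30 LD3_c21)) :=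
  Lgr Lrot66 (Lpe (f645217 IH) (Lpr_af (f669245 IH) (Lpr_ff (f698985 IH) (Lpn (LP (LK LD1_c9 LD2_c30 LD3_c21))))))
theorem f502621 : Led Lsl_dt (LP (LK LD1_c9 LD2_c30 LD3_c21)) = (LP (LK LD1_c4 LD2_c48 LD3_c56)) :=
  Lre_d IH (LK LD1_c9 LD2_c30 LD3_c21) (LK LD1_c4 LD2_c48 LD3_c56) Lrfl Lrfl
theorem f652694 : Led Lsl_bf (LP (LK LD1_c3 LD2_c20 LD3_c27)) = v6316 :=
  Lgr Lrot24 (Lpr_bt (f652693 IH) (Lpn v6316))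
theorem f116925 : Led Lsl_dt (LP (LK LD1_c3 LD2_c20 LD3_c27)) = (LP (LK LD1_c6 LD2_c44 LD3_c40)) :=
  Lre_d IH (LK LD1_c3 LD2_c20 LD3_c27) (LK LD1_c6 LD2_c44 LD3_c40) Lrfl Lrfl
theorem f699005 : Led Lsl_bf (LP (LK LD1_c9 LD2_c30 LD3_c21)) = (LP (LK LD1_c6 LD2_c44 LD3_c40)) :=
  Lgr Lrot93 (Lpr_dt (f502621 IH) (Lpq (K52.f698977 IH) (Lpqs (f698940 IH) (Lpe (f652694 IH) (Lpr_dt (f116925 IH) (Lpn (LP (LK LD1_c6 LD2_c44 LD3_c40))))))))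
theorem f699007 : Led Lsl_bt (LP (LK LD1_c9 LD2_c30 LD3_c21)) = (LP (LK LD1_c6 LD2_c44 LD3_c40)) :=
  Lgr Lrot127 (Lpr_bf (f699005 IH) (Lpn (LP (LK LD1_c6 LD2_c44 LD3_c40))))
theorem f700320 : Led Lsl_af (LP (LK LD1_c9 LD2_c11 LD3_c24)) = (LP (LK LD1_c6 LD2_c44 LD3_c40)) :=
  Lgr Lrot36 (Lpr_bt (f700312 IH) (Lpe (f508021 IH) (Lpr_bt (f645212 IH) (Lpr_at (f698987 IH) (Lpr_bt (f699007 IH) (Lpn (LP (LK LD1_c6 LD2_c44 LD3_c40))))))))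
theorem f116913 : Led Lsl_et (LP (LK LD1_c12 LD2_c53 LD3_c50)) = (LP (LK LD1_c6 LD2_c44 LD3_c40)) :=
  Lre_e IH (LK LD1_c12 LD2_c53 LD3_c50) (LK LD1_c6 LD2_c44 LD3_c40) Lrfl Lrfl
theorem f700322 : Led Lsl_at (LP (LK LD1_c11 LD2_c16 LD3_c14)) = (LP (LK LD1_c12 LD2_c53 LD3_c50)) :=
  Lgr Lrot80 (Lpr_ef (K51.f604815 IH) (Lpr_af (f700320 IH) (Lpe (f116913 IH) (Lpn (LP (LK LD1_c12 LD2_c53 LD3_c50))))))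
theorem f700324 : Led Lsl_af (LP (LK LD1_c11 LD2_c16 LD3_c14)) = (LP (LK LD1_c12 LD2_c53 LD3_c50)) :=
  Lgr Lrot0 (Lpr_at (f700322 IH) (Lpn (LP (LK LD1_c12 LD2_c53 LD3_c50))))
theorem f281557 : Led Lsl_gt (LP (LK LD1_c11 LD2_c16 LD3_c15)) = (LP (LK LD1_c5 LD2_c42 LD3_c59)) :=
  Lre_g IH (LK LD1_c11 LD2_c16 LD3_c15) (LK LD1_c5 LD2_c42 LD3_c59) Lrfl Lrfl
theorem f700326 : Led Lsl_ft (LP (LK LD1_c11 LD2_c16 LD3_c15)) = (LP (LK LD1_c12 LD2_c53 LD3_c50)) :=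
  Lgr Lrot2 (Lpr_gt (f281557 IH) (Lpr_gt (K51.f604814 IH) (Lpr_af (f700324 IH) (Lpn (LP (LK LD1_c12 LD2_c53 LD3_c50))))))
theorem f281960 : Led Lsl_dt (LP (LK LD1_c20 LD2_c12 LD3_c14)) = (LP (LK LD1_c11 LD2_c16 LD3_c15)) :=
  Lre_d IH (LK LD1_c20 LD2_c12 LD3_c14) (LK LD1_c11 LD2_c16 LD3_c15) Lrfl Lrfl
theorem f116912 : Led Lsl_dt (LP (LK LD1_c6 LD2_c44 LD3_c40)) = (LP (LK LD1_c3 LD2_c20 LD3_c27)) :=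
  Lre_d IH (LK LD1_c6 LD2_c44 LD3_c40) (LK LD1_c3 LD2_c20 LD3_c27) Lrfl Lrfl
theorem f116914 : Led Lsl_et (LP (LK LD1_c12 LD2_c3 LD3_c33)) = (LP (LK LD1_c21 LD2_c9 LD3_c1)) :=
  Lre_e IH (LK LD1_c12 LD2_c3 LD3_c33) (LK LD1_c21 LD2_c9 LD3_c1) Lrfl Lrfl
theorem f116915 : Led Lsl_df (LP (LK LD1_c12 LD2_c53 LD3_c50)) = (LP (LK LD1_c21 LD2_c9 LD3_c1)) :=
  Lgr Lrot70 (Lpr_et (f116913 IH) (Lpr_dt (f116912 IH) (Lpr_et (f116911 IH) (Lpr_dt (f116906 IH) (Lpr_et (f116914 IH) (Lpn (LP (LK LD1_c21 LD2_c9 LD3_c1))))))))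
theorem f116920 : Led Lsl_dt (LP (LK LD1_c12 LD2_c53 LD3_c50)) = (LP (LK LD1_c21 LD2_c9 LD3_c1)) :=
  Lgr Lrot42 (Lpr_df (f116915 IH) (Lpn (LP (LK LD1_c21 LD2_c9 LD3_c1))))
theorem f700328 : Led Lsl_ff (LP (LK LD1_c20 LD2_c12 LD3_c14)) = (LP (LK LD1_c21 LD2_c9 LD3_c1)) :=
  Lgr Lrot19 (Lpr_dt (f281960 IH) (Lpr_ft (f700326 IH) (Lpr_dt (f116920 IH) (Lpn (LP (LK LD1_c21 LD2_c9 LD3_c1))))))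
theorem f747175 : Led Lsl_af (LP (LK LD1_c11 LD2_c21 LD3_c29)) = (LP (LK LD1_c20 LD2_c12 LD3_c14)) :=
  Lgr Lrot45 (Lpr_ft (f747173 IH) (Lpr_at (f700284 IH) (Lpe (f700328 IH) (Lpn (LP (LK LD1_c20 LD2_c12 LD3_c14))))))
theorem f168285 : Led Lsl_gt (LP (LK LD1_c5 LD2_c45 LD3_c23)) = (LP (LK LD1_c11 LD2_c21 LD3_c14)) :=
  Lre_g IH (LK LD1_c5 LD2_c45 LD3_c23) (LK LD1_c11 LD2_c21 LD3_c14) Lrfl Lrfl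
theorem f552614 : Led Lsl_ef (LP (LK LD1_c11 LD2_c21 LD3_c14)) = (LP (LK LD1_c20 LD2_c12 LD3_c14)) :=
  Lgr Lrot17 (Lpe (f168285 IH) (Lpe (K50.f168283 IH) (Lpe (K18.f168253 IH) (Lpr_gf (K35.f547815 IH) (Lpr_df (K39.f552594 IH) (Lpe (K36.f280301 IH) (Lpe (K16.f280295 IH) (Lpr_dt (K51.f552613 IH) (Lpe (f281557 IH) (Lpe (f281960 IH) (Lpn (LP (LK LD1_c20 LD2_c12 LD3_c14)))))))))))))
theorem f552640 : Led Lsl_et (LP (LK LD1_c11 LD2_c21 LD3_c14)) = (LP (LK LD1_c20 LD2_c12 LD3_c14)) :=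
  Lgr Lrot87 (Lpr_ef (f552614 IH) (Lpn (LP (LK LD1_c20 LD2_c12 LD3_c14))))
theorem f747180 : v15698 = (LP (LK LD1_c11 LD2_c21 LD3_c14)) :=
  (Llr Lrot80 (Lpe (f740978 IH) (Lpe (f168312 IH) (Lpr_af (f747175 IH) (Lpe (f552640 IH) (Lpn (LP (LK LD1_c11 LD2_c21 LD3_c14)))))))).symm
theorem f385538 : Led Lsl_gt (LP (LK LD1_c11 LD2_c21 LD3_c14)) = (LP (LK LD1_c5 LD2_c45 LD3_c31)) :=
  Lre_g IH (LK LD1_c11 LD2_c21 LD3_c14) (LK LD1_c5 LD2_c45 LD3_c31) Lrfl Lrfl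
theorem f385539 : Led Lsl_gt (LP (LK LD1_c5 LD2_c45 LD3_c31)) = (LP (LK LD1_c11 LD2_c21 LD3_c15)) :=
  Lre_g IH (LK LD1_c5 LD2_c45 LD3_c31) (LK LD1_c11 LD2_c21 LD3_c15) Lrfl Lrfl
theorem f747211 : v15699 = (LP (LK LD1_c11 LD2_c21 LD3_c15)) :=
  (Llr Lrot26 (Lpe (f740989 IH) (Lpr_ff (f740983 IH) (Lpqs (f747180 IH) (Lpr_gt (f385538 IH) (Lpr_gt (f385539 IH) (Lpn (LP (LK LD1_c11 LD2_c21 LD3_c15))))))))).symm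
def v16227 : LQ := Led Lsl_gf (LP (LK LD1_c5 LD2_c55 LD3_c20))
theorem f747136 : Led Lsl_gf (LP (LK LD1_c5 LD2_c55 LD3_c20)) = v16227 :=
  Lrfl
theorem f168284 : Led Lsl_gt (LP (LK LD1_c11 LD2_c21 LD3_c15)) = (LP (LK LD1_c5 LD2_c45 LD3_c23)) :=
  Lre_g IH (LK LD1_c11 LD2_c21 LD3_c15) (LK LD1_c5 LD2_c45 LD3_c23) Lrfl Lrfl
def v14335 : LQ := Led Lsl_et (LP (LK LD1_c5 LD2_c6 LD3_c48))
theorem f721974 : Led Lsl_et (LP (LK LD1_c5 LD2_c6 LD3_c48)) = v14335 :=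
  Lrfl
theorem f551769 : Led Lsl_et (LP (LK LD1_c2 LD2_c26 LD3_c20)) = (LP (LK LD1_c2 LD2_c33 LD3_c35)) :=
  Lgr Lrot87 (Lpr_ef (K39.f551763 IH) (Lpn (LP (LK LD1_c2 LD2_c33 LD3_c35))))
theorem f721977 : Led Lsl_df (LP (LK LD1_c5 LD2_c45 LD3_c23)) = v14335 :=
  Lgr Lrot70 (Lpr_et (K18.f168278 IH) (Lpe (K18.f168253 IH) (Lpr_et (f551769 IH) (Lpe (K39.f551771 IH) (Lpr_et (f721974 IH) (Lpn v14335))))))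
theorem f721978 : Led Lsl_ef (LP (LK LD1_c5 LD2_c6 LD3_c48)) = v14335 :=
  Lgr Lrot88 (Lpr_et (f721974 IH) (Lpn v14335))
theorem f747240 : v16227 = K49.v12330 :=
  (Llr Lrot141 (Lpe (f747136 IH) (Lpr_ef (f747142 IH) (Lpe (f747145 IH) (Lpqs (f747211 IH) (Lpr_gt (f168284 IH) (Lpr_df (f721977 IH) (Lpe (f721978 IH) (Lpe (K39.f308133 IH) (Lpr_dt (K53.f308099 IH) (Lpr_gt (K38.f495339 IH) (Lpq (K38.f542384 IH) (Lpe (K35.f211641 IH) (Lpr_et (K49.f691508 IH) (Lpn K49.v12330))))))))))))))).symm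
theorem f700718 : Led Lsl_ef v8711 = v13045 :=
  Lgr Lrot88 (Lpr_et (f700716 IH) (Lpn v13045))
theorem f747241 : v6336 = v8711 :=
  (Llr Lrot138 (Lpe (f652886 IH) (Lpr_dt (K51.f79991 IH) (Lpe (f617086 IH) (Lpr_df (f561788 IH) (Lpr_et (K50.f72998 IH) (Lpe (K38.f157152 IH) (Lpe (K49.f428912 IH) (Lpr_dt (f691515 IH) (Lpq (f747240 IH) (Lpe (f747136 IH) (Lpr_df (f700723 IH) (Lpe (f700718 IH) (Lpn v8711)))))))))))))).symm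
theorem f698916 : Led Lsl_at (LP (LK LD1_c6 LD2_c46 LD3_c49)) = (LP (LK LD1_c6 LD2_c44 LD3_c41)) :=
  Lgr Lrot100 (Lpr_af (f698914 IH) (Lpn (LP (LK LD1_c6 LD2_c44 LD3_c41))))
theorem f747242 : (LP (LK LD1_c6 LD2_c44 LD3_c41)) = v6335 :=
  (Llr Lrot26 (Lpe (f698916 IH) (Lpr_ff (f672063 IH) (Lpq (f747241 IH) (Lpe (f652886 IH) (Lpr_gt (f652884 IH) (Lpn v6335))))))).symm
theorem f747243 : Led Lsl_gt (LP (LK LD1_c3 LD2_c20 LD3_c36)) = (LP (LK LD1_c6 LD2_c44 LD3_c41)) :=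
  Leop (Lpqs (f747242 IH) (Lpe (f652884 IH) (Lpn (LP (LK LD1_c3 LD2_c20 LD3_c36)))))
theorem seed_994 : LEOK LG_g (LK LD1_c3 LD2_c20 LD3_c36) :=
  Leoe_g (LK LD1_c3 LD2_c20 LD3_c36) (f747243 IH)
theorem f706209 : Led Lsl_at (LP (LK LD1_c12 LD2_c3 LD3_c32)) = K51.v12873 :=
  Lgr Lrot80 (Lpr_ef (K51.f706207 IH) (Lpe (K51.f631695 IH) (Lpr_ef (K51.f698729 IH) (Lpn K51.v12873))))
theorem f706275 : Led Lsl_af (LP (LK LD1_c6 LD2_c11 LD3_c53)) = (LP (LK LD1_c12 LD2_c3 LD3_c31)) :=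
  Lgr Lrot45 (Lpr_ft (K51.f706273 IH) (Lpr_at (f706209 IH) (Lpe (K51.f706219 IH) (Lpn (LP (LK LD1_c12 LD2_c3 LD3_c31))))))
theorem f707001 : Led Lsl_gf (LP (LK LD1_c12 LD2_c3 LD3_c34)) = K51.v12873 :=
  Lgr Lrot47 (Lpr_gt (f116955 IH) (Lpr_af (f706275 IH) (Lpr_ff (K51.f706219 IH) (Lpn K51.v12873))))
theorem f645837 : Led Lsl_ff (LP (LK LD1_c6 LD2_c3 LD3_c16)) = (LP (LK LD1_c11 LD2_c14 LD3_c36)) :=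
  Lgr Lrot25 (Lpr_bt (K54.f180296 IH) (Lpr_ft (K54.f645835 IH) (Lpr_bt (K54.f186519 IH) (Lpn (LP (LK LD1_c11 LD2_c14 LD3_c36))))))
theorem f552617 : Led Lsl_gt (LP (LK LD1_c5 LD2_c42 LD3_c49)) = (LP (LK LD1_c11 LD2_c15 LD3_c53)) :=
  Lre_g IH (LK LD1_c5 LD2_c42 LD3_c49) (LK LD1_c11 LD2_c15 LD3_c53) Lrfl Lrfl
theorem f714531 : Led Lsl_at (LP (LK LD1_c6 LD2_c3 LD3_c16)) = (LP (LK LD1_c11 LD2_c15 LD3_c53)) :=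
  Lgr Lrot26 (Lpr_ff (f645837 IH) (Lpr_gt (K54.f714527 IH) (Lpr_gt (f552617 IH) (Lpn (LP (LK LD1_c11 LD2_c15 LD3_c53))))))
theorem f710769 : Led Lsl_af (LP (LK LD1_c11 LD2_c14 LD3_c36)) = (LP (LK LD1_c16 LD2_c52 LD3_c10)) :=
  Lgr Lrot0 (Lpr_at (K53.f710767 IH) (Lpn (LP (LK LD1_c16 LD2_c52 LD3_c10))))
theorem f714541 : Led Lsl_ff (LP (LK LD1_c16 LD2_c52 LD3_c10)) = (LP (LK LD1_c11 LD2_c15 LD3_c53)) :=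
  Lgr Lrot30 (Lpe (f710769 IH) (Lpe (f645837 IH) (Lpr_at (f714531 IH) (Lpn (LP (LK LD1_c11 LD2_c15 LD3_c53))))))
theorem f552631 : Led Lsl_dt (LP (LK LD1_c20 LD2_c11 LD3_c37)) = (LP (LK LD1_c11 LD2_c15 LD3_c53)) :=
  Lre_d IH (LK LD1_c20 LD2_c11 LD3_c37) (LK LD1_c11 LD2_c15 LD3_c53) Lrfl Lrfl
theorem f714544 : Led Lsl_ft (LP (LK LD1_c26 LD2_c49 LD3_c15)) = (LP (LK LD1_c20 LD2_c11 LD3_c37)) :=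
  Lgr Lrot54 (Lpe (K53.f602470 IH) (Lpr_ff (f714541 IH) (Lpe (f552631 IH) (Lpn (LP (LK LD1_c20 LD2_c11 LD3_c37))))))
theorem f645848 : Led Lsl_dt (LP (LK LD1_c11 LD2_c50 LD3_c21)) = (LP (LK LD1_c6 LD2_c3 LD3_c16)) :=
  Lre_d IH (LK LD1_c11 LD2_c50 LD3_c21) (LK LD1_c6 LD2_c3 LD3_c16) Lrfl Lrfl
theorem f552618 : Led Lsl_dt (LP (LK LD1_c11 LD2_c15 LD3_c53)) = (LP (LK LD1_c20 LD2_c11 LD3_c37)) :=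
  Lre_d IH (LK LD1_c11 LD2_c15 LD3_c53) (LK LD1_c20 LD2_c11 LD3_c37) Lrfl Lrfl
theorem f714537 : Led Lsl_af (LP (LK LD1_c11 LD2_c50 LD3_c21)) = (LP (LK LD1_c20 LD2_c11 LD3_c37)) :=
  Lgr Lrot117 (Lpr_dt (f645848 IH) (Lpr_at (f714531 IH) (Lpr_dt (f552618 IH) (Lpn (LP (LK LD1_c20 LD2_c11 LD3_c37))))))
theorem f710775 : Led Lsl_gt (LP (LK LD1_c20 LD2_c52 LD3_c42)) = (LP (LK LD1_c11 LD2_c50 LD3_c21)) :=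
  Lre_g IH (LK LD1_c20 LD2_c52 LD3_c42) (LK LD1_c11 LD2_c50 LD3_c21) Lrfl Lrfl
theorem f714555 : Led Lsl_gt (LP (LK LD1_c26 LD2_c49 LD3_c15)) = (LP (LK LD1_c20 LD2_c52 LD3_c42)) :=
  Lgr Lrot5 (Lpr_ft (f714544 IH) (Lpe (f714537 IH) (Lpe (f710775 IH) (Lpn (LP (LK LD1_c20 LD2_c52 LD3_c42))))))
theorem f80021 : Led Lsl_dt (LP (LK LD1_c12 LD2_c3 LD3_c31)) = (LP (LK LD1_c6 LD2_c11 LD3_c50)) :=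
  Lre_d IH (LK LD1_c12 LD2_c3 LD3_c31) (LK LD1_c6 LD2_c11 LD3_c50) Lrfl Lrfl
theorem f706228 : Led Lsl_dt (LP (LK LD1_c9 LD2_c4 LD3_c18)) = (LP (LK LD1_c11 LD2_c22 LD3_c34)) :=
  Lgr Lrot42 (Lpr_df (K51.f706224 IH) (Lpn (LP (LK LD1_c11 LD2_c22 LD3_c34))))
theorem f566523 : Led Lsl_gt (LP (LK LD1_c4 LD2_c32 LD3_c59)) = (LP (LK LD1_c9 LD2_c3 LD3_c14)) :=
  Lre_g IH (LK LD1_c4 LD2_c32 LD3_c59) (LK LD1_c9 LD2_c3 LD3_c14) Lrfl Lrfl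
theorem f566529 : Led Lsl_dt (LP (LK LD1_c9 LD2_c3 LD3_c14)) = (LP (LK LD1_c16 LD2_c54 LD3_c2)) :=
  Lre_d IH (LK LD1_c9 LD2_c3 LD3_c14) (LK LD1_c16 LD2_c54 LD3_c2) Lrfl Lrfl
theorem f707108 : Led Lsl_gt (LP (LK LD1_c16 LD2_c54 LD3_c2)) = (LP (LK LD1_c11 LD2_c22 LD3_c34)) :=
  Lgr Lrot139 (Lpe (f566529 IH) (Lpe (f566523 IH) (Lpe (K51.f494151 IH) (Lpr_dt (K40.f494133 IH) (Lpe (K31.f174809 IH) (Lpe (K31.f174816 IH) (Lpr_et (K52.f494182 IH) (Lpe (K51.f79972 IH) (Lpe (K51.f79982 IH) (Lpr_dt (f706228 IH) (Lpn (LP (LK LD1_c11 LD2_c22 LD3_c34)))))))))))))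
theorem f707112 : Led Lsl_et (LP (LK LD1_c26 LD2_c50 LD3_c20)) = (LP (LK LD1_c16 LD2_c54 LD3_c2)) :=
  Lre_e IH (LK LD1_c26 LD2_c50 LD3_c20) (LK LD1_c16 LD2_c54 LD3_c2) Lrfl Lrfl
theorem f714557 : Led Lsl_dt (LP (LK LD1_c26 LD2_c50 LD3_c20)) = (LP (LK LD1_c20 LD2_c52 LD3_c42)) :=
  Lgr Lrot56 (Lpr_et (f707112 IH) (Lpr_gt (f707108 IH) (Lpe (K51.f706222 IH) (Lpr_dt (f80021 IH) (Lpr_gt (K51.f79985 IH) (Lpe (K40.f61453 IH) (Lpe (K40.f561837 IH) (Lpr_gt (K53.f602468 IH) (Lpr_dt (K53.f602470 IH) (Lpr_gt (f714555 IH) (Lpn (LP (LK LD1_c20 LD2_c52 LD3_c42)))))))))))))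
theorem f706281 : Led Lsl_at (LP (LK LD1_c12 LD2_c3 LD3_c36)) = (LP (LK LD1_c11 LD2_c22 LD3_c34)) :=
  Lgr Lrot66 (Lpr_ff (K51.f706279 IH) (Lpe (K54.f639782 IH) (Lpe (K51.f640269 IH) (Lpn (LP (LK LD1_c11 LD2_c22 LD3_c34))))))
theorem f707110 : Led Lsl_gf (LP (LK LD1_c16 LD2_c54 LD3_c2)) = (LP (LK LD1_c11 LD2_c22 LD3_c24)) :=
  Lgr Lrot47 (Lpr_gt (f707108 IH) (Lpe (f706281 IH) (Lpr_ff (K51.f706279 IH) (Lpn (LP (LK LD1_c11 LD2_c22 LD3_c24))))))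
theorem f645844 : Led Lsl_dt (LP (LK LD1_c6 LD2_c3 LD3_c16)) = (LP (LK LD1_c11 LD2_c50 LD3_c21)) :=
  Lre_d IH (LK LD1_c6 LD2_c3 LD3_c16) (LK LD1_c11 LD2_c50 LD3_c21) Lrfl Lrfl
theorem f645509 : Led Lsl_et (LP (LK LD1_c6 LD2_c3 LD3_c16)) = (LP (LK LD1_c2 LD2_c57 LD3_c44)) :=
  Lre_e IH (LK LD1_c6 LD2_c3 LD3_c16) (LK LD1_c2 LD2_c57 LD3_c44) Lrfl Lrfl
theorem f501111 : Led Lsl_gt (LP (LK LD1_c2 LD2_c57 LD3_c44)) = (LP (LK LD1_c6 LD2_c3 LD3_c13)) :=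
  Lre_g IH (LK LD1_c2 LD2_c57 LD3_c44) (LK LD1_c6 LD2_c3 LD3_c13) Lrfl Lrfl
theorem f645645 : Led Lsl_dt (LP (LK LD1_c6 LD2_c3 LD3_c13)) = (LP (LK LD1_c11 LD2_c50 LD3_c13)) :=
  Lre_d IH (LK LD1_c6 LD2_c3 LD3_c13) (LK LD1_c11 LD2_c50 LD3_c13) Lrfl Lrfl
theorem f714561 : Led Lsl_gf (LP (LK LD1_c11 LD2_c22 LD3_c23)) = (LP (LK LD1_c11 LD2_c50 LD3_c13)) :=
  Lgr Lrot134 (Lpe (K51.f639801 IH) (Lpr_et (K51.f639791 IH) (Lpe (f707110 IH) (Lpe (f707112 IH) (Lpr_dt (f714557 IH) (Lpr_gt (f710775 IH) (Lpe (f645844 IH) (Lpr_et (f645509 IH) (Lpr_gt (f501111 IH) (Lpr_dt (f645645 IH) (Lpn (LP (LK LD1_c11 LD2_c50 LD3_c13)))))))))))))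
theorem f640152 : Led Lsl_ct (LP (LK LD1_c11 LD2_c22 LD3_c23)) = (LP (LK LD1_c20 LD2_c20 LD3_c3)) :=
  Lre_c IH (LK LD1_c11 LD2_c22 LD3_c23) (LK LD1_c20 LD2_c20 LD3_c3) Lrfl Lrfl
theorem f645510 : Led Lsl_gt (LP (LK LD1_c6 LD2_c3 LD3_c13)) = (LP (LK LD1_c9 LD2_c13 LD3_c47)) :=
  Lgr Lrot46 (Lpe (f501111 IH) (Lpr_ft (K52.f645491 IH) (Lpr_at (K52.f632043 IH) (Lpn (LP (LK LD1_c9 LD2_c13 LD3_c47))))))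
theorem f645638 : Led Lsl_at (LP (LK LD1_c11 LD2_c50 LD3_c4)) = (LP (LK LD1_c6 LD2_c3 LD3_c15)) :=
  Lre_a IH (LK LD1_c11 LD2_c50 LD3_c4) (LK LD1_c6 LD2_c3 LD3_c15) Lrfl Lrfl
theorem f645641 : Led Lsl_gf (LP (LK LD1_c11 LD2_c50 LD3_c17)) = (LP (LK LD1_c17 LD2_c8 LD3_c5)) :=
  Lgr Lrot47 (Lpr_gt (K41.f501066 IH) (Lpe (f645638 IH) (Lpr_ff (K52.f645635 IH) (Lpn (LP (LK LD1_c17 LD2_c8 LD3_c5))))))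
theorem f645644 : Led Lsl_ct (LP (LK LD1_c11 LD2_c50 LD3_c17)) = (LP (LK LD1_c20 LD2_c52 LD3_c32)) :=
  Lre_c IH (LK LD1_c11 LD2_c50 LD3_c17) (LK LD1_c20 LD2_c52 LD3_c32) Lrfl Lrfl
theorem f443035 : Led Lsl_ct (LP (LK LD1_c11 LD2_c38 LD3_c53)) = (LP (LK LD1_c20 LD2_c38 LD3_c8)) :=
  Lre_c IH (LK LD1_c11 LD2_c38 LD3_c53) (LK LD1_c20 LD2_c38 LD3_c8) Lrfl Lrfl
theorem f714565 : Led Lsl_gt (LP (LK LD1_c20 LD2_c20 LD3_c3)) = (LP (LK LD1_c11 LD2_c38 LD3_c53)) :=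
  Lgr Lrot150 (Lpe (f640152 IH) (Lpr_gf (f714561 IH) (Lpe (f645645 IH) (Lpr_gt (f645510 IH) (Lpr_ct (K54.f645470 IH) (Lpe (f645641 IH) (Lpr_ct (f645644 IH) (Lpe (K52.f713016 IH) (Lpe (f443035 IH) (Lpn (LP (LK LD1_c11 LD2_c38 LD3_c53))))))))))))
theorem f640124 : Led Lsl_ct (LP (LK LD1_c20 LD2_c20 LD3_c3)) = (LP (LK LD1_c11 LD2_c22 LD3_c23)) :=
  Lre_c IH (LK LD1_c20 LD2_c20 LD3_c3) (LK LD1_c11 LD2_c22 LD3_c23) Lrfl Lrfl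
theorem f82025 : Led Lsl_et (LP (LK LD1_c2 LD2_c57 LD3_c14)) = (LP (LK LD1_c6 LD2_c2 LD3_c18)) :=
  Lre_e IH (LK LD1_c2 LD2_c57 LD3_c14) (LK LD1_c6 LD2_c2 LD3_c18) Lrfl Lrfl
theorem f137759 : Led Lsl_et (LP (LK LD1_c11 LD2_c38 LD3_c53)) = (LP (LK LD1_c5 LD2_c56 LD3_c47)) :=
  Lre_e IH (LK LD1_c11 LD2_c38 LD3_c53) (LK LD1_c5 LD2_c56 LD3_c47) Lrfl Lrfl
theorem f645521 : Led Lsl_dt (LP (LK LD1_c9 LD2_c13 LD3_c46)) = (LP (LK LD1_c17 LD2_c8 LD3_c3)) :=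
  Lre_d IH (LK LD1_c9 LD2_c13 LD3_c46) (LK LD1_c17 LD2_c8 LD3_c3) Lrfl Lrfl
theorem f140959 : Led Lsl_dt (LP (LK LD1_c9 LD2_c13 LD3_c50)) = (LP (LK LD1_c4 LD2_c39 LD3_c1)) :=
  Lre_d IH (LK LD1_c9 LD2_c13 LD3_c50) (LK LD1_c4 LD2_c39 LD3_c1) Lrfl Lrfl
theorem f645548 : Led Lsl_ft (LP (LK LD1_c6 LD2_c3 LD3_c12)) = (LP (LK LD1_c9 LD2_c13 LD3_c50)) :=
  Lgr Lrot54 (Lpe (K52.f645512 IH) (Lpr_ff (K52.f645543 IH) (Lpe (f140959 IH) (Lpn (LP (LK LD1_c9 LD2_c13 LD3_c50))))))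
theorem f645555 : Led Lsl_at (LP (LK LD1_c11 LD2_c50 LD3_c3)) = (LP (LK LD1_c6 LD2_c3 LD3_c12)) :=
  Lre_a IH (LK LD1_c11 LD2_c50 LD3_c3) (LK LD1_c6 LD2_c3 LD3_c12) Lrfl Lrfl
theorem f140958 : Led Lsl_at (LP (LK LD1_c9 LD2_c13 LD3_c50)) = (LP (LK LD1_c17 LD2_c8 LD3_c3)) :=
  Lre_a IH (LK LD1_c9 LD2_c13 LD3_c50) (LK LD1_c17 LD2_c8 LD3_c3) Lrfl Lrfl
theorem f645556 : Led Lsl_ff (LP (LK LD1_c11 LD2_c50 LD3_c3)) = (LP (LK LD1_c17 LD2_c8 LD3_c3)) :=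
  Lgr Lrot30 (Lpr_at (f645555 IH) (Lpr_ft (f645548 IH) (Lpr_at (f140958 IH) (Lpn (LP (LK LD1_c17 LD2_c8 LD3_c3))))))
theorem f645592 : Led Lsl_gt (LP (LK LD1_c11 LD2_c50 LD3_c9)) = (LP (LK LD1_c6 LD2_c3 LD3_c12)) :=
  Lre_g IH (LK LD1_c11 LD2_c50 LD3_c9) (LK LD1_c6 LD2_c3 LD3_c12) Lrfl Lrfl
theorem f645593 : Led Lsl_gf (LP (LK LD1_c11 LD2_c50 LD3_c9)) = (LP (LK LD1_c17 LD2_c8 LD3_c3)) :=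
  Lgr Lrot47 (Lpr_gt (f645592 IH) (Lpe (f645555 IH) (Lpr_ff (f645556 IH) (Lpn (LP (LK LD1_c17 LD2_c8 LD3_c3))))))
theorem f710565 : Led Lsl_dt (LP (LK LD1_c11 LD2_c38 LD3_c53)) = (LP (LK LD1_c11 LD2_c50 LD3_c9)) :=
  Lgr Lrot56 (Lpr_et (f137759 IH) (Lpr_gt (K52.f82989 IH) (Lpe (K51.f83011 IH) (Lpr_dt (K7.f24070 IH) (Lpr_gt (K6.f24071 IH) (Lpr_df (K6.f137747 IH) (Lpr_et (f82025 IH) (Lpqs (K52.f710560 IH) (Lpe (f645974 IH) (Lpr_dt (f645521 IH) (Lpe (f645593 IH) (Lpn (LP (LK LD1_c11 LD2_c50 LD3_c9))))))))))))))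
theorem f645540 : Led Lsl_dt (LP (LK LD1_c6 LD2_c3 LD3_c12)) = (LP (LK LD1_c2 LD2_c57 LD3_c43)) :=
  Lre_d IH (LK LD1_c6 LD2_c3 LD3_c12) (LK LD1_c2 LD2_c57 LD3_c43) Lrfl Lrfl
theorem f714581 : Led Lsl_gt (LP (LK LD1_c11 LD2_c22 LD3_c23)) = (LP (LK LD1_c5 LD2_c56 LD3_c56)) :=
  Lgr Lrot94 (Lpe (f640124 IH) (Lpr_gt (f714565 IH) (Lpr_dt (f710565 IH) (Lpr_gt (f645592 IH) (Lpr_dt (f645540 IH) (Lpe (K52.f415566 IH) (Lpe (K52.f501151 IH) (Lpe (K52.f501152 IH) (Lpr_df (K52.f710940 IH) (Lpn (LP (LK LD1_c5 LD2_c56 LD3_c56))))))))))))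
theorem f140699 : Led Lsl_at (LP (LK LD1_c5 LD2_c46 LD3_c4)) = (LP (LK LD1_c11 LD2_c22 LD3_c23)) :=
  Lre_a IH (LK LD1_c5 LD2_c46 LD3_c4) (LK LD1_c11 LD2_c22 LD3_c23) Lrfl Lrfl
theorem f640116 : Led Lsl_ft (LP (LK LD1_c11 LD2_c22 LD3_c23)) = (LP (LK LD1_c16 LD2_c56 LD3_c56)) :=
  Lgr Lrot101 (Lpe (f140699 IH) (Lpr_ff (K51.f639249 IH) (Lpe (K51.f640115 IH) (Lpn (LP (LK LD1_c16 LD2_c56 LD3_c56))))))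
theorem f714583 : Led Lsl_gf (LP (LK LD1_c9 LD2_c5 LD3_c1)) = (LP (LK LD1_c5 LD2_c56 LD3_c56)) :=
  Lgr Lrot76 (Lpe (K51.f640115 IH) (Lpe (f640116 IH) (Lpr_gt (f714581 IH) (Lpn (LP (LK LD1_c5 LD2_c56 LD3_c56))))))
theorem f710945 : Led Lsl_et (LP (LK LD1_c6 LD2_c3 LD3_c14)) = (LP (LK LD1_c11 LD2_c50 LD3_c15)) :=
  Lre_e IH (LK LD1_c6 LD2_c3 LD3_c14) (LK LD1_c11 LD2_c50 LD3_c15) Lrfl Lrfl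
theorem f652885 : Led Lsl_et (LP (LK LD1_c6 LD2_c44 LD3_c60)) = (LP (LK LD1_c12 LD2_c54 LD3_c19)) :=
  Lre_e IH (LK LD1_c6 LD2_c44 LD3_c60) (LK LD1_c12 LD2_c54 LD3_c19) Lrfl Lrfl
theorem f747244 : Led Lsl_gf (LP (LK LD1_c11 LD2_c50 LD3_c15)) = (LP (LK LD1_c12 LD2_c54 LD3_c19)) :=
  Lgr Lrot141 (Lpe (f710945 IH) (Lpr_dt (K52.f710943 IH) (Lpe (f714583 IH) (Lpe (K51.f140296 IH) (Lpr_et (K51.f698727 IH) (Lpe (f707001 IH) (Lpe (f698937 IH) (Lpq (f747241 IH) (Lpe (f652886 IH) (Lpe (K51.f80008 IH) (Lpr_et (f652885 IH) (Lpn (LP (LK LD1_c12 LD2_c54 LD3_c19))))))))))))))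
theorem f747245 : Led Lsl_gt (LP (LK LD1_c12 LD2_c54 LD3_c19)) = (LP (LK LD1_c11 LD2_c50 LD3_c15)) :=
  Leop (Lpr_gf (f747244 IH) (Lpn (LP (LK LD1_c12 LD2_c54 LD3_c19))))
theorem seed_995 : LEOK LG_g (LK LD1_c12 LD2_c54 LD3_c19) :=
  Leoe_g (LK LD1_c12 LD2_c54 LD3_c19) (f747245 IH)
def v16273 : LQ := Led Lsl_gt (LP (LK LD1_c5 LD2_c56 LD3_c31))
theorem f747456 : Led Lsl_gt (LP (LK LD1_c5 LD2_c56 LD3_c31)) = v16273 :=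
  Lrfl
theorem f141826 : Led Lsl_ft (LP (LK LD1_c5 LD2_c56 LD3_c31)) = (LP (LK LD1_c11 LD2_c38 LD3_c22)) :=
  Lre_f IH (LK LD1_c5 LD2_c56 LD3_c31) (LK LD1_c11 LD2_c38 LD3_c22) Lrfl Lrfl
theorem f496822 : Led Lsl_af (LP (LK LD1_c12 LD2_c23 LD3_c30)) = (LP (LK LD1_c11 LD2_c38 LD3_c22)) :=
  Lgr Lrot0 (Lpr_at (K32.f496814 IH) (Lpn (LP (LK LD1_c11 LD2_c38 LD3_c22))))
theorem f747457 : Led Lsl_gf (LP (LK LD1_c12 LD2_c23 LD3_c30)) = v16273 :=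
  Lgr Lrot76 (Lpr_af (f496822 IH) (Lpe (f141826 IH) (Lpr_gt (f747456 IH) (Lpn v16273))))
theorem f61459 : Led Lsl_gt (LP (LK LD1_c9 LD2_c17 LD3_c5)) = (LP (LK LD1_c4 LD2_c40 LD3_c50)) :=
  Lre_g IH (LK LD1_c9 LD2_c17 LD3_c5) (LK LD1_c4 LD2_c40 LD3_c50) Lrfl Lrfl
theorem f713983 : Led Lsl_et (LP (LK LD1_c11 LD2_c19 LD3_c59)) = (LP (LK LD1_c5 LD2_c44 LD3_c52)) :=
  Lre_e IH (LK LD1_c11 LD2_c19 LD3_c59) (LK LD1_c5 LD2_c44 LD3_c52) Lrfl Lrfl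
theorem f713984 : Led Lsl_df (LP (LK LD1_c9 LD2_c17 LD3_c5)) = (LP (LK LD1_c11 LD2_c19 LD3_c59)) :=
  Lgr Lrot170 (Lpr_gt (f61459 IH) (Lpe (f75919 IH) (Lpe (K40.f561778 IH) (Lpe (K36.f423986 IH) (Lpr_dt (K36.f381682 IH) (Lpr_gt (K30.f495860 IH) (Lpqs (K39.f555957 IH) (Lpe (K50.f549444 IH) (Lpr_et (K51.f549445 IH) (Lpr_gt (K52.f713975 IH) (Lpe (f713983 IH) (Lpn (LP (LK LD1_c11 LD2_c19 LD3_c59))))))))))))))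
theorem f714079 : Led Lsl_dt (LP (LK LD1_c9 LD2_c17 LD3_c5)) = (LP (LK LD1_c11 LD2_c19 LD3_c59)) :=
  Lgr Lrot42 (Lpr_df (f713984 IH) (Lpn (LP (LK LD1_c11 LD2_c19 LD3_c59))))
theorem f714083 : Led Lsl_bt (LP (LK LD1_c11 LD2_c19 LD3_c59)) = (LP (LK LD1_c5 LD2_c44 LD3_c55)) :=
  Lre_b IH (LK LD1_c11 LD2_c19 LD3_c59) (LK LD1_c5 LD2_c44 LD3_c55) Lrfl Lrfl
theorem f714084 : Led Lsl_bf (LP (LK LD1_c9 LD2_c17 LD3_c5)) = (LP (LK LD1_c11 LD2_c20 LD3_c6)) :=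
  Lgr Lrot93 (Lpr_dt (f714079 IH) (Lpr_bt (f714083 IH) (Lpr_dt (K50.f383351 IH) (Lpn (LP (LK LD1_c11 LD2_c20 LD3_c6))))))
theorem f738381 : Led Lsl_ff (LP (LK LD1_c5 LD2_c44 LD3_c8)) = v15627 :=
  Lgr Lrot3 (Lpr_ft (f738379 IH) (Lpn v15627))
theorem f740008 : (LP (LK LD1_c5 LD2_c44 LD3_c8)) = K54.v4788 :=
  Lefun (Lecon (Lfl_ff (f738381 IH)) (f740004 IH)) (K54.f639000 IH)
theorem f740016 : K54.v15664 = (LP (LK LD1_c11 LD2_c18 LD3_c23)) :=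
  Lefun (Lecon (K54.f738930 IH) (f740008 IH).symm) (K51.f74610 IH)
theorem f140556 : Led Lsl_ct (LP (LK LD1_c11 LD2_c19 LD3_c57)) = (LP (LK LD1_c5 LD2_c44 LD3_c52)) :=
  Lre_c IH (LK LD1_c11 LD2_c19 LD3_c57) (LK LD1_c5 LD2_c44 LD3_c52) Lrfl Lrfl
theorem f740021 : Led Lsl_ff (LP (LK LD1_c11 LD2_c19 LD3_c57)) = (LP (LK LD1_c9 LD2_c46 LD3_c6)) :=
  Lgr Lrot23 (Lpr_ct (f140556 IH) (Lpr_ft (K54.f738925 IH) (Lpqs (f740016 IH) (Lpr_ct (K51.f415675 IH) (Lpn (LP (LK LD1_c9 LD2_c46 LD3_c6)))))))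
def v14089 : LQ := Led Lsl_gt (LP (LK LD1_c4 LD2_c57 LD3_c37))
theorem f718938 : Led Lsl_gt (LP (LK LD1_c4 LD2_c57 LD3_c37)) = v14089 :=
  Lrfl
theorem f740029 : Led Lsl_at (LP (LK LD1_c11 LD2_c19 LD3_c57)) = v14089 :=
  Lgr Lrot26 (Lpr_ff (f740021 IH) (Lpr_gt (K51.f383866 IH) (Lpr_gt (f718938 IH) (Lpn v14089))))
theorem f740031 : Led Lsl_cf (LP (LK LD1_c11 LD2_c19 LD3_c56)) = v14089 :=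
  Lgr Lrot1 (Lpr_at (K54.f638988 IH) (Lpr_ct (K52.f140499 IH) (Lpr_at (f740029 IH) (Lpn v14089))))
theorem f714105 : Led Lsl_dt (LP (LK LD1_c11 LD2_c19 LD3_c56)) = (LP (LK LD1_c20 LD2_c17 LD3_c0)) :=
  Lre_d IH (LK LD1_c11 LD2_c19 LD3_c56) (LK LD1_c20 LD2_c17 LD3_c0) Lrfl Lrfl
theorem f644922 : Led Lsl_gf (LP (LK LD1_c5 LD2_c52 LD3_c49)) = (LP (LK LD1_c9 LD2_c46 LD3_c15)) :=
  Lgr Lrot76 (Lpe (K41.f642462 IH) (Lpr_ff (K52.f644737 IH) (Lpr_gt (K52.f644920 IH) (Lpn (LP (LK LD1_c9 LD2_c46 LD3_c15))))))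
theorem f415214 : Led Lsl_dt (LP (LK LD1_c9 LD2_c46 LD3_c12)) = (LP (LK LD1_c4 LD2_c57 LD3_c39)) :=
  Lre_d IH (LK LD1_c9 LD2_c46 LD3_c12) (LK LD1_c4 LD2_c57 LD3_c39) Lrfl Lrfl
theorem f40257 : Led Lsl_gt (LP (LK LD1_c4 LD2_c57 LD3_c39)) = (LP (LK LD1_c9 LD2_c45 LD3_c51)) :=
  Lre_g IH (LK LD1_c4 LD2_c57 LD3_c39) (LK LD1_c9 LD2_c45 LD3_c51) Lrfl Lrfl
theorem f415095 : Led Lsl_ct (LP (LK LD1_c9 LD2_c48 LD3_c60)) = (LP (LK LD1_c4 LD2_c59 LD3_c20)) :=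
  Lre_c IH (LK LD1_c9 LD2_c48 LD3_c60) (LK LD1_c4 LD2_c59 LD3_c20) Lrfl Lrfl
theorem f415104 : Led Lsl_dt (LP (LK LD1_c17 LD2_c59 LD3_c23)) = (LP (LK LD1_c9 LD2_c48 LD3_c60)) :=
  Lre_d IH (LK LD1_c17 LD2_c59 LD3_c23) (LK LD1_c9 LD2_c48 LD3_c60) Lrfl Lrfl
theorem f415105 : Led Lsl_gt (LP (LK LD1_c9 LD2_c50 LD3_c8)) = (LP (LK LD1_c17 LD2_c59 LD3_c23)) :=
  Lre_g IH (LK LD1_c9 LD2_c50 LD3_c8) (LK LD1_c17 LD2_c59 LD3_c23) Lrfl Lrfl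
theorem f415106 : Led Lsl_dt (LP (LK LD1_c18 LD2_c1 LD3_c1)) = (LP (LK LD1_c9 LD2_c50 LD3_c8)) :=
  Lre_d IH (LK LD1_c18 LD2_c1 LD3_c1) (LK LD1_c9 LD2_c50 LD3_c8) Lrfl Lrfl
theorem f644718 : Led Lsl_gt (LP (LK LD1_c11 LD2_c31 LD3_c57)) = (LP (LK LD1_c18 LD2_c1 LD3_c1)) :=
  Lgr Lrot94 (Lpe (K41.f445603 IH) (Lpr_gt (K52.f644713 IH) (Lpr_dt (f415214 IH) (Lpr_gt (f40257 IH) (Lpr_dt (K32.f40247 IH) (Lpe (f415095 IH) (Lpe (f415104 IH) (Lpe (f415105 IH) (Lpe (f415106 IH) (Lpn (LP (LK LD1_c18 LD2_c1 LD3_c1))))))))))))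
theorem f740033 : Led Lsl_cf (LP (LK LD1_c20 LD2_c17 LD3_c0)) = (LP (LK LD1_c18 LD2_c1 LD3_c1)) :=
  Lgr Lrot99 (Lpe (f714105 IH) (Lpr_cf (f740031 IH) (Lpe (f718938 IH) (Lpe (K51.f140603 IH) (Lpe (K52.f75453 IH) (Lpe (K52.f75454 IH) (Lpe (f644922 IH) (Lpr_ct (K41.f445603 IH) (Lpr_gt (f644718 IH) (Lpn (LP (LK LD1_c18 LD2_c1 LD3_c1))))))))))))
theorem f77446 : Led Lsl_dt (LP (LK LD1_c9 LD2_c50 LD3_c8)) = (LP (LK LD1_c18 LD2_c1 LD3_c1)) :=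
  Lre_d IH (LK LD1_c9 LD2_c50 LD3_c8) (LK LD1_c18 LD2_c1 LD3_c1) Lrfl Lrfl
theorem f77445 : Led Lsl_gt (LP (LK LD1_c4 LD2_c59 LD3_c51)) = (LP (LK LD1_c9 LD2_c50 LD3_c8)) :=
  Lre_g IH (LK LD1_c4 LD2_c59 LD3_c51) (LK LD1_c9 LD2_c50 LD3_c8) Lrfl Lrfl
theorem f415639 : Led Lsl_ct (LP (LK LD1_c4 LD2_c57 LD3_c37)) = (LP (LK LD1_c2 LD2_c26 LD3_c41)) :=
  Lre_c IH (LK LD1_c4 LD2_c57 LD3_c37) (LK LD1_c2 LD2_c26 LD3_c41) Lrfl Lrfl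
theorem f77424 : Led Lsl_ct (LP (LK LD1_c2 LD2_c27 LD3_c42)) = (LP (LK LD1_c1 LD2_c10 LD3_c61)) :=
  Lre_c IH (LK LD1_c2 LD2_c27 LD3_c42) (LK LD1_c1 LD2_c10 LD3_c61) Lrfl Lrfl
theorem f549455 : Led Lsl_dt (LP (LK LD1_c11 LD2_c40 LD3_c11)) = (LP (LK LD1_c20 LD2_c7 LD3_c11)) :=
  Lgr Lrot60 (Lpe (K52.f424621 IH) (Lpr_df (K51.f549446 IH) (Lpe (K51.f549454 IH) (Lpn (LP (LK LD1_c20 LD2_c7 LD3_c11))))))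
theorem f706020 : Led Lsl_gf (LP (LK LD1_c5 LD2_c59 LD3_c31)) = (LP (LK LD1_c11 LD2_c40 LD3_c11)) :=
  Lgr Lrot147 (Lpr_ct (K32.f415625 IH) (Lpr_gt (K32.f72560 IH) (Lpr_ct (f77424 IH) (Lpe (K52.f77422 IH) (Lpe (f415639 IH) (Lpe (K51.f383866 IH) (Lpe (K51.f415675 IH) (Lpr_gf (K51.f706018 IH) (Lpe (f549455 IH) (Lpn (LP (LK LD1_c11 LD2_c40 LD3_c11))))))))))))
theorem f424626 : Led Lsl_ft (LP (LK LD1_c11 LD2_c40 LD3_c11)) = (LP (LK LD1_c5 LD2_c57 LD3_c36)) :=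
  Lre_f IH (LK LD1_c11 LD2_c40 LD3_c11) (LK LD1_c5 LD2_c57 LD3_c36) Lrfl Lrfl
theorem f706035 : Led Lsl_gt (LP (LK LD1_c5 LD2_c59 LD3_c31)) = (LP (LK LD1_c5 LD2_c57 LD3_c52)) :=
  Lgr Lrot46 (Lpr_gf (f706020 IH) (Lpr_ft (f424626 IH) (Lpe (K51.f424762 IH) (Lpn (LP (LK LD1_c5 LD2_c57 LD3_c52))))))
theorem f740041 : Led Lsl_gf (LP (LK LD1_c11 LD2_c19 LD3_c56)) = (LP (LK LD1_c11 LD2_c16 LD3_c47)) :=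
  Lgr Lrot143 (Lpr_dt (f714105 IH) (Lpr_cf (f740033 IH) (Lpe (f77446 IH) (Lpe (f77445 IH) (Lpe (K52.f75403 IH) (Lpe (K32.f72560 IH) (Lpe (K32.f415625 IH) (Lpr_gt (f706035 IH) (Lpr_dt (K51.f549448 IH) (Lpn (LP (LK LD1_c11 LD2_c16 LD3_c47))))))))))))
theorem f381202 : Led Lsl_dt (LP (LK LD1_c2 LD2_c47 LD3_c54)) = (LP (LK LD1_c1 LD2_c20 LD3_c13)) :=
  Lre_d IH (LK LD1_c2 LD2_c47 LD3_c54) (LK LD1_c1 LD2_c20 LD3_c13) Lrfl Lrfl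
theorem f542149 : Led Lsl_gt (LP (LK LD1_c3 LD2_c0 LD3_c45)) = (LP (LK LD1_c2 LD2_c47 LD3_c54)) :=
  Lgr Lrot46 (Lpr_gf (K37.f542147 IH) (Lpr_ft (K27.f381488 IH) (Lpr_at (K27.f381487 IH) (Lpn (LP (LK LD1_c2 LD2_c47 LD3_c54))))))
theorem f68915 : Led Lsl_et (LP (LK LD1_c4 LD2_c40 LD3_c53)) = (LP (LK LD1_c3 LD2_c0 LD3_c45)) :=
  Lre_e IH (LK LD1_c4 LD2_c40 LD3_c53) (LK LD1_c3 LD2_c0 LD3_c45) Lrfl Lrfl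
theorem f74591 : Led Lsl_dt (LP (LK LD1_c4 LD2_c40 LD3_c53)) = (LP (LK LD1_c2 LD2_c17 LD3_c29)) :=
  Lre_d IH (LK LD1_c4 LD2_c40 LD3_c53) (LK LD1_c2 LD2_c17 LD3_c29) Lrfl Lrfl
def v13167 : LQ := Led Lsl_dt (LP (LK LD1_c4 LD2_c40 LD3_c52))
theorem f701493 : Led Lsl_dt (LP (LK LD1_c4 LD2_c40 LD3_c52)) = v13167 :=
  Lrfl
theorem f701494 : Led Lsl_df (LP (LK LD1_c4 LD2_c40 LD3_c52)) = v13167 :=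
  Lgr Lrot38 (Lpr_dt (f701493 IH) (Lpn v13167))
theorem f740047 : Led Lsl_ef (LP (LK LD1_c11 LD2_c19 LD3_c56)) = v13167 :=
  Lgr Lrot17 (Lpr_gf (f740041 IH) (Lpe (K39.f381802 IH) (Lpr_dt (K39.f381801 IH) (Lpe (K36.f381788 IH) (Lpe (f381202 IH) (Lpe (f542149 IH) (Lpe (f68915 IH) (Lpr_dt (f74591 IH) (Lpe (K53.f452971 IH) (Lpr_df (f701494 IH) (Lpn v13167)))))))))))
theorem f740049 : Led Lsl_et (LP (LK LD1_c11 LD2_c19 LD3_c56)) = v13167 :=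
  Lgr Lrot87 (Lpr_ef (f740047 IH) (Lpn v13167))
theorem f714110 : Led Lsl_dt (LP (LK LD1_c20 LD2_c17 LD3_c0)) = (LP (LK LD1_c11 LD2_c19 LD3_c56)) :=
  Lre_d IH (LK LD1_c20 LD2_c17 LD3_c0) (LK LD1_c11 LD2_c19 LD3_c56) Lrfl Lrfl
theorem f643347 : Led Lsl_et (LP (LK LD1_c4 LD2_c40 LD3_c52)) = (LP (LK LD1_c9 LD2_c17 LD3_c13)) :=
  Lre_e IH (LK LD1_c4 LD2_c40 LD3_c52) (LK LD1_c9 LD2_c17 LD3_c13) Lrfl Lrfl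
theorem f740051 : Led Lsl_ef (LP (LK LD1_c20 LD2_c17 LD3_c0)) = (LP (LK LD1_c17 LD2_c7 LD3_c58)) :=
  Lgr Lrot73 (Lpr_dt (f714110 IH) (Lpr_et (f740049 IH) (Lpe (f701494 IH) (Lpr_et (f643347 IH) (Lpe (K53.f643342 IH) (Lpn (LP (LK LD1_c17 LD2_c7 LD3_c58))))))))
theorem f644761 : Led Lsl_at (LP (LK LD1_c20 LD2_c17 LD3_c0)) = (LP (LK LD1_c11 LD2_c19 LD3_c58)) :=
  Lre_a IH (LK LD1_c20 LD2_c17 LD3_c0) (LK LD1_c11 LD2_c19 LD3_c58) Lrfl Lrfl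
theorem f643332 : Led Lsl_at (LP (LK LD1_c9 LD2_c13 LD3_c36)) = (LP (LK LD1_c6 LD2_c0 LD3_c21)) :=
  Lgr Lrot100 (Lpr_af (K45.f643330 IH) (Lpn (LP (LK LD1_c6 LD2_c0 LD3_c21))))
theorem f75069 : Led Lsl_gt (LP (LK LD1_c6 LD2_c0 LD3_c18)) = (LP (LK LD1_c11 LD2_c45 LD3_c5)) :=
  Lre_g IH (LK LD1_c6 LD2_c0 LD3_c18) (LK LD1_c11 LD2_c45 LD3_c5) Lrfl Lrfl
theorem f644338 : Led Lsl_gt (LP (LK LD1_c11 LD2_c45 LD3_c5)) = (LP (LK LD1_c6 LD2_c0 LD3_c21)) :=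
  Lgr Lrot46 (Lpe (f75069 IH) (Lpr_ft (K45.f643313 IH) (Lpr_at (f643332 IH) (Lpn (LP (LK LD1_c6 LD2_c0 LD3_c21))))))
theorem f140560 : Led Lsl_dt (LP (LK LD1_c11 LD2_c19 LD3_c58)) = (LP (LK LD1_c5 LD2_c44 LD3_c52)) :=
  Lre_d IH (LK LD1_c11 LD2_c19 LD3_c58) (LK LD1_c5 LD2_c44 LD3_c52) Lrfl Lrfl
theorem f713986 : Led Lsl_ef (LP (LK LD1_c11 LD2_c45 LD3_c5)) = (LP (LK LD1_c11 LD2_c19 LD3_c58)) :=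
  Lgr Lrot167 (Lpr_gt (f644338 IH) (Lpr_dt (K45.f76138 IH) (Lpr_gt (K45.f75060 IH) (Lpe (K42.f75046 IH) (Lpe (K42.f76127 IH) (Lpe (K42.f559346 IH) (Lpe (K51.f424613 IH) (Lpr_dt (K51.f549452 IH) (Lpr_gt (K52.f713975 IH) (Lpe (f140560 IH) (Lpn (LP (LK LD1_c11 LD2_c19 LD3_c58)))))))))))))
theorem f740053 : Led Lsl_at (LP (LK LD1_c11 LD2_c45 LD3_c5)) = (LP (LK LD1_c17 LD2_c7 LD3_c58)) :=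
  Lgr Lrot80 (Lpr_ef (f713986 IH) (Lpe (f644761 IH) (Lpr_ef (f740051 IH) (Lpn (LP (LK LD1_c17 LD2_c7 LD3_c58))))))
theorem f740057 : Led Lsl_ff (LP (LK LD1_c11 LD2_c45 LD3_c5)) = (LP (LK LD1_c17 LD2_c7 LD3_c57)) :=
  Lgr Lrot52 (Lpr_at (f740053 IH) (Lpr_gf (K53.f643340 IH) (Lpe (K50.f643323 IH) (Lpn (LP (LK LD1_c17 LD2_c7 LD3_c57))))))
theorem f740059 : Led Lsl_ft (LP (LK LD1_c11 LD2_c45 LD3_c5)) = (LP (LK LD1_c17 LD2_c7 LD3_c57)) :=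
  Lgr Lrot48 (Lpr_ff (f740057 IH) (Lpn (LP (LK LD1_c17 LD2_c7 LD3_c57))))
theorem f740000 : Led Lsl_ft (LP (LK LD1_c17 LD2_c12 LD3_c15)) = (LP (LK LD1_c11 LD2_c19 LD3_c58)) :=
  Lgr Lrot75 (Lpe (K51.f74639 IH) (Lpr_ff (f739998 IH) (Lpe (K52.f642126 IH) (Lpn (LP (LK LD1_c11 LD2_c19 LD3_c58))))))
theorem f740061 : Led Lsl_ff (LP (LK LD1_c9 LD2_c17 LD3_c8)) = (LP (LK LD1_c11 LD2_c20 LD3_c6)) :=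
  Lgr Lrot72 (Lpr_et (K52.f74657 IH) (Lpr_ft (f740000 IH) (Lpe (f713986 IH) (Lpr_ft (f740059 IH) (Lpr_et (K50.f643159 IH) (Lpn (LP (LK LD1_c11 LD2_c20 LD3_c6))))))))
def v13166 : LQ := Led Lsl_ft (LP (LK LD1_c4 LD2_c40 LD3_c51))
theorem f701489 : Led Lsl_ft (LP (LK LD1_c4 LD2_c40 LD3_c51)) = v13166 :=
  Lrfl
theorem f714076 : Led Lsl_bt (LP (LK LD1_c5 LD2_c44 LD3_c55)) = (LP (LK LD1_c11 LD2_c19 LD3_c59)) :=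
  Lre_b IH (LK LD1_c5 LD2_c44 LD3_c55) (LK LD1_c11 LD2_c19 LD3_c59) Lrfl Lrfl
theorem f714077 : Led Lsl_bt (LP (LK LD1_c9 LD2_c17 LD3_c5)) = (LP (LK LD1_c11 LD2_c20 LD3_c6)) :=
  Lgr Lrot95 (Lpr_df (f713984 IH) (Lpe (f714076 IH) (Lpe (K50.f618140 IH) (Lpn (LP (LK LD1_c11 LD2_c20 LD3_c6))))))
theorem f740079 : v13166 = (LP (LK LD1_c9 LD2_c17 LD3_c5)) :=
  (Llr Lrot75 (Lpe (f701489 IH) (Lpe (K51.f414363 IH) (Lpr_ff (f740061 IH) (Lpe (f714077 IH) (Lpn (LP (LK LD1_c9 LD2_c17 LD3_c5)))))))).symm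
theorem f701490 : Led Lsl_af (LP (LK LD1_c4 LD2_c40 LD3_c52)) = v13166 :=
  Lgr Lrot45 (Lpr_ft (f701482 IH) (Lpe (f701480 IH) (Lpr_ft (f701489 IH) (Lpn v13166))))
theorem f739925 : Led Lsl_at (LP (LK LD1_c9 LD2_c17 LD3_c11)) = (LP (LK LD1_c12 LD2_c9 LD3_c2)) :=
  Lgr Lrot107 (Lpr_cf (f713746 IH) (Lpr_af (f739921 IH) (Lpe (K54.f738985 IH) (Lpn (LP (LK LD1_c12 LD2_c9 LD3_c2))))))
theorem f740092 : Led Lsl_af (LP (LK LD1_c11 LD2_c20 LD3_c6)) = (LP (LK LD1_c11 LD2_c40 LD3_c12)) :=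
  Lgr Lrot36 (Lpe (f714084 IH) (Lpq (f740079 IH) (Lpe (f701490 IH) (Lpr_bt (K54.f701484 IH) (Lpr_at (f739925 IH) (Lpr_bt (K54.f738978 IH) (Lpn (LP (LK LD1_c11 LD2_c40 LD3_c12)))))))))
theorem f740077 : Led Lsl_at (LP (LK LD1_c9 LD2_c17 LD3_c8)) = (LP (LK LD1_c11 LD2_c40 LD3_c36)) :=
  Lgr Lrot26 (Lpr_ff (f740061 IH) (Lpe (K50.f618135 IH) (Lpr_gt (K54.f150325 IH) (Lpn (LP (LK LD1_c11 LD2_c40 LD3_c36))))))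
theorem f740100 : Led Lsl_ft (LP (LK LD1_c11 LD2_c40 LD3_c36)) = (LP (LK LD1_c11 LD2_c40 LD3_c12)) :=
  Lgr Lrot101 (Lpe (f740077 IH) (Lpr_ff (f740061 IH) (Lpr_af (f740092 IH) (Lpn (LP (LK LD1_c11 LD2_c40 LD3_c12))))))
theorem f740106 : Led Lsl_ff (LP (LK LD1_c11 LD2_c40 LD3_c36)) = (LP (LK LD1_c11 LD2_c40 LD3_c12)) :=
  Lgr Lrot3 (Lpr_ft (f740100 IH) (Lpn (LP (LK LD1_c11 LD2_c40 LD3_c12))))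
theorem f740094 : Led Lsl_at (LP (LK LD1_c11 LD2_c20 LD3_c6)) = (LP (LK LD1_c11 LD2_c40 LD3_c12)) :=
  Lgr Lrot100 (Lpr_af (f740092 IH) (Lpn (LP (LK LD1_c11 LD2_c40 LD3_c12))))
theorem f740075 : Led Lsl_ft (LP (LK LD1_c9 LD2_c17 LD3_c8)) = (LP (LK LD1_c11 LD2_c20 LD3_c6)) :=
  Lgr Lrot48 (Lpr_ff (f740061 IH) (Lpn (LP (LK LD1_c11 LD2_c20 LD3_c6))))
theorem f740108 : Led Lsl_at (LP (LK LD1_c11 LD2_c40 LD3_c36)) = (LP (LK LD1_c9 LD2_c17 LD3_c8)) :=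
  Lgr Lrot66 (Lpr_ff (f740106 IH) (Lpe (f740094 IH) (Lpe (f740075 IH) (Lpn (LP (LK LD1_c9 LD2_c17 LD3_c8))))))
theorem f740122 : Led Lsl_af (LP (LK LD1_c20 LD2_c40 LD3_c31)) = (LP (LK LD1_c17 LD2_c12 LD3_c15)) :=
  Lgr Lrot50 (Lpr_et (K54.f150341 IH) (Lpr_at (f740108 IH) (Lpr_et (K52.f74657 IH) (Lpn (LP (LK LD1_c17 LD2_c12 LD3_c15))))))
theorem f714108 : Led Lsl_ff (LP (LK LD1_c20 LD2_c7 LD3_c10)) = (LP (LK LD1_c11 LD2_c19 LD3_c56)) :=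
  Lgr Lrot3 (Lpr_ft (K54.f713978 IH) (Lpn (LP (LK LD1_c11 LD2_c19 LD3_c56))))
theorem f549465 : Led Lsl_df (LP (LK LD1_c20 LD2_c40 LD3_c31)) = (LP (LK LD1_c20 LD2_c7 LD3_c10)) :=
  Lgr Lrot38 (Lpr_dt (K54.f549463 IH) (Lpn (LP (LK LD1_c20 LD2_c7 LD3_c10))))
theorem f714111 : Led Lsl_ft (LP (LK LD1_c20 LD2_c40 LD3_c31)) = (LP (LK LD1_c20 LD2_c17 LD3_c0)) :=
  Lgr Lrot54 (Lpr_df (f549465 IH) (Lpr_ff (f714108 IH) (Lpe (f714110 IH) (Lpn (LP (LK LD1_c20 LD2_c17 LD3_c0))))))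
theorem f740128 : Led Lsl_ft (LP (LK LD1_c11 LD2_c19 LD3_c58)) = (LP (LK LD1_c17 LD2_c12 LD3_c15)) :=
  Lgr Lrot101 (Lpe (f644761 IH) (Lpe (f714111 IH) (Lpr_af (f740122 IH) (Lpn (LP (LK LD1_c17 LD2_c12 LD3_c15))))))
theorem f740132 : Led Lsl_ff (LP (LK LD1_c20 LD2_c17 LD3_c4)) = (LP (LK LD1_c18 LD2_c1 LD3_c4)) :=
  Lgr Lrot23 (Lpr_ct (K52.f140559 IH) (Lpr_ft (f740128 IH) (Lpe (K52.f414379 IH) (Lpn (LP (LK LD1_c18 LD2_c1 LD3_c4))))))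
theorem f740138 : Led Lsl_ft (LP (LK LD1_c20 LD2_c17 LD3_c4)) = (LP (LK LD1_c18 LD2_c1 LD3_c4)) :=
  Lgr Lrot48 (Lpr_ff (f740132 IH) (Lpn (LP (LK LD1_c18 LD2_c1 LD3_c4))))
theorem f740142 : Led Lsl_af (LP (LK LD1_c20 LD2_c22 LD3_c7)) = (LP (LK LD1_c18 LD2_c1 LD3_c4)) :=
  Lgr Lrot31 (Lpr_gf (K45.f644376 IH) (Lpe (K52.f642128 IH) (Lpr_ft (f740138 IH) (Lpn (LP (LK LD1_c18 LD2_c1 LD3_c4))))))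
theorem f414384 : Led Lsl_ef (LP (LK LD1_c18 LD2_c1 LD3_c4)) = (LP (LK LD1_c17 LD2_c12 LD3_c14)) :=
  Lgr Lrot88 (Lpr_et (K52.f414373 IH) (Lpn (LP (LK LD1_c17 LD2_c12 LD3_c14))))
theorem f740146 : Led Lsl_at (LP (LK LD1_c11 LD2_c24 LD3_c19)) = (LP (LK LD1_c17 LD2_c12 LD3_c14)) :=
  Lgr Lrot80 (Lpe (K45.f74416 IH) (Lpr_af (f740142 IH) (Lpr_ef (f414384 IH) (Lpn (LP (LK LD1_c17 LD2_c12 LD3_c14))))))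
theorem f72911 : Led Lsl_gt (LP (LK LD1_c20 LD2_c21 LD3_c61)) = (LP (LK LD1_c11 LD2_c24 LD3_c13)) :=
  Lre_g IH (LK LD1_c20 LD2_c21 LD3_c61) (LK LD1_c11 LD2_c24 LD3_c13) Lrfl Lrfl
theorem f740161 : Led Lsl_ff (LP (LK LD1_c11 LD2_c24 LD3_c19)) = (LP (LK LD1_c20 LD2_c21 LD3_c61)) :=
  Lgr Lrot52 (Lpr_at (f740146 IH) (Lpe (K52.f414367 IH) (Lpe (f72911 IH) (Lpn (LP (LK LD1_c20 LD2_c21 LD3_c61))))))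
theorem f710700 : Led Lsl_at K46.v5104 = (LP (LK LD1_c11 LD2_c40 LD3_c11)) :=
  Lgr Lrot66 (Lpr_ff (K53.f710698 IH) (Lpr_af (K51.f424762 IH) (Lpe (f424626 IH) (Lpn (LP (LK LD1_c11 LD2_c40 LD3_c11))))))
theorem f549436 : Led Lsl_ft (LP (LK LD1_c11 LD2_c12 LD3_c35)) = (LP (LK LD1_c20 LD2_c7 LD3_c11)) :=
  Lre_f IH (LK LD1_c11 LD2_c12 LD3_c35) (LK LD1_c20 LD2_c7 LD3_c11) Lrfl Lrfl
theorem f140557 : Led Lsl_gt (LP (LK LD1_c5 LD2_c44 LD3_c52)) = (LP (LK LD1_c11 LD2_c19 LD3_c55)) :=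
  Lre_g IH (LK LD1_c5 LD2_c44 LD3_c52) (LK LD1_c11 LD2_c19 LD3_c55) Lrfl Lrfl
theorem f713980 : Led Lsl_at (LP (LK LD1_c20 LD2_c7 LD3_c11)) = (LP (LK LD1_c11 LD2_c19 LD3_c55)) :=
  Lgr Lrot26 (Lpe (f549436 IH) (Lpr_gt (K52.f713975 IH) (Lpr_gt (f140557 IH) (Lpn (LP (LK LD1_c11 LD2_c19 LD3_c55))))))
theorem f714000 : Led Lsl_dt (LP (LK LD1_c11 LD2_c19 LD3_c55)) = (LP (LK LD1_c6 LD2_c1 LD3_c0)) :=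
  Lgr Lrot44 (Lpe (f713980 IH) (Lpe (f549455 IH) (Lpe (f710700 IH) (Lpqs (K52.f713990 IH) (Lpn (LP (LK LD1_c6 LD2_c1 LD3_c0)))))))
theorem f714006 : Led Lsl_ff (LP (LK LD1_c11 LD2_c19 LD3_c55)) = (LP (LK LD1_c11 LD2_c16 LD3_c47)) :=
  Lgr Lrot19 (Lpr_dt (f714000 IH) (Lpq (K52.f713990 IH) (Lpr_ft (K52.f710694 IH) (Lpr_dt (K51.f549448 IH) (Lpn (LP (LK LD1_c11 LD2_c16 LD3_c47)))))))
theorem f714018 : Led Lsl_ft (LP (LK LD1_c11 LD2_c19 LD3_c55)) = (LP (LK LD1_c11 LD2_c16 LD3_c47)) :=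
  Lgr Lrot48 (Lpr_ff (f714006 IH) (Lpn (LP (LK LD1_c11 LD2_c16 LD3_c47))))
theorem f714020 : Led Lsl_gt (LP (LK LD1_c11 LD2_c19 LD3_c55)) = (LP (LK LD1_c20 LD2_c7 LD3_c10)) :=
  Lgr Lrot5 (Lpr_ft (f714018 IH) (Lpe (K39.f549431 IH) (Lpe (K54.f549437 IH) (Lpn (LP (LK LD1_c20 LD2_c7 LD3_c10))))))
theorem f714004 : Led Lsl_df (LP (LK LD1_c11 LD2_c19 LD3_c55)) = (LP (LK LD1_c6 LD2_c1 LD3_c0)) :=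
  Lgr Lrot38 (Lpr_dt (f714000 IH) (Lpn (LP (LK LD1_c6 LD2_c1 LD3_c0))))
theorem f140178 : Led Lsl_ct (LP (LK LD1_c6 LD2_c1 LD3_c2)) = (LP (LK LD1_c2 LD2_c56 LD3_c46)) :=
  Lre_c IH (LK LD1_c6 LD2_c1 LD3_c2) (LK LD1_c2 LD2_c56 LD3_c46) Lrfl Lrfl
theorem f104943 : Led Lsl_dt (LP (LK LD1_c4 LD2_c59 LD3_c52)) = (LP (LK LD1_c9 LD2_c50 LD3_c11)) :=
  Lre_d IH (LK LD1_c4 LD2_c59 LD3_c52) (LK LD1_c9 LD2_c50 LD3_c11) Lrfl Lrfl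
theorem f104942 : Led Lsl_gt (LP (LK LD1_c9 LD2_c50 LD3_c11)) = (LP (LK LD1_c17 LD2_c59 LD3_c21)) :=
  Lre_g IH (LK LD1_c9 LD2_c50 LD3_c11) (LK LD1_c17 LD2_c59 LD3_c21) Lrfl Lrfl
theorem f104938 : Led Lsl_df (LP (LK LD1_c20 LD2_c22 LD3_c7)) = (LP (LK LD1_c17 LD2_c59 LD3_c21)) :=
  Lgr Lrot38 (Lpr_dt (K45.f104936 IH) (Lpn (LP (LK LD1_c17 LD2_c59 LD3_c21))))
theorem f714024 : Led Lsl_cf (LP (LK LD1_c20 LD2_c22 LD3_c7)) = (LP (LK LD1_c20 LD2_c40 LD3_c31)) :=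
  Lgr Lrot14 (Lpr_df (f104938 IH) (Lpe (f104942 IH) (Lpe (f104943 IH) (Lpe (K32.f140173 IH) (Lpr_ct (f140178 IH) (Lpr_gt (K52.f140179 IH) (Lpe (f714004 IH) (Lpr_gt (f714020 IH) (Lpe (f549465 IH) (Lpn (LP (LK LD1_c20 LD2_c40 LD3_c31))))))))))))
theorem f549467 : Led Lsl_et (LP (LK LD1_c11 LD2_c40 LD3_c36)) = (LP (LK LD1_c20 LD2_c40 LD3_c31)) :=
  Lre_e IH (LK LD1_c11 LD2_c40 LD3_c36) (LK LD1_c20 LD2_c40 LD3_c31) Lrfl Lrfl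
theorem f714026 : Led Lsl_ct (LP (LK LD1_c11 LD2_c24 LD3_c19)) = (LP (LK LD1_c11 LD2_c40 LD3_c36)) :=
  Lgr Lrot15 (Lpe (K45.f74416 IH) (Lpr_cf (f714024 IH) (Lpe (f549467 IH) (Lpn (LP (LK LD1_c11 LD2_c40 LD3_c36))))))
theorem f740165 : Led Lsl_ct (LP (LK LD1_c11 LD2_c40 LD3_c12)) = (LP (LK LD1_c20 LD2_c21 LD3_c61)) :=
  Lgr Lrot40 (Lpe (f740100 IH) (Lpe (f714026 IH) (Lpr_ff (f740161 IH) (Lpn (LP (LK LD1_c20 LD2_c21 LD3_c61))))))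
theorem f73984 : Led Lsl_ct (LP (LK LD1_c5 LD2_c47 LD3_c1)) = (LP (LK LD1_c11 LD2_c24 LD3_c13)) :=
  Lre_c IH (LK LD1_c5 LD2_c47 LD3_c1) (LK LD1_c11 LD2_c24 LD3_c13) Lrfl Lrfl
theorem f150330 : Led Lsl_ct (LP (LK LD1_c12 LD2_c23 LD3_c30)) = (LP (LK LD1_c6 LD2_c25 LD3_c20)) :=
  Lre_c IH (LK LD1_c12 LD2_c23 LD3_c30) (LK LD1_c6 LD2_c25 LD3_c20) Lrfl Lrfl
theorem f150329 : Led Lsl_dt (LP (LK LD1_c6 LD2_c25 LD3_c20)) = (LP (LK LD1_c12 LD2_c23 LD3_c34)) :=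
  Lre_d IH (LK LD1_c6 LD2_c25 LD3_c20) (LK LD1_c12 LD2_c23 LD3_c34) Lrfl Lrfl
theorem f496819 : Led Lsl_ct (LP (LK LD1_c21 LD2_c30 LD3_c37)) = (LP (LK LD1_c12 LD2_c23 LD3_c34)) :=
  Lre_c IH (LK LD1_c21 LD2_c30 LD3_c37) (LK LD1_c12 LD2_c23 LD3_c34) Lrfl Lrfl
theorem f618070 : Led Lsl_af (LP (LK LD1_c21 LD2_c30 LD3_c37)) = (LP (LK LD1_c20 LD2_c9 LD3_c24)) :=
  Lgr Lrot0 (Lpr_at (K53.f618062 IH) (Lpn (LP (LK LD1_c20 LD2_c9 LD3_c24))))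
theorem f289356 : Led Lsl_ft (LP (LK LD1_c11 LD2_c14 LD3_c23)) = (LP (LK LD1_c20 LD2_c9 LD3_c24)) :=
  Lre_f IH (LK LD1_c11 LD2_c14 LD3_c23) (LK LD1_c20 LD2_c9 LD3_c24) Lrfl Lrfl
theorem f618078 : Led Lsl_gf (LP (LK LD1_c21 LD2_c30 LD3_c37)) = (LP (LK LD1_c20 LD2_c9 LD3_c22)) :=
  Lgr Lrot76 (Lpr_af (f618070 IH) (Lpe (f289356 IH) (Lpr_gt (K54.f618077 IH) (Lpn (LP (LK LD1_c20 LD2_c9 LD3_c22))))))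
theorem f589474 : Led Lsl_gt (LP (LK LD1_c11 LD2_c7 LD3_c18)) = (LP (LK LD1_c20 LD2_c0 LD3_c38)) :=
  Lre_g IH (LK LD1_c11 LD2_c7 LD3_c18) (LK LD1_c20 LD2_c0 LD3_c38) Lrfl Lrfl
theorem f381258 : Led Lsl_ft (LP (LK LD1_c11 LD2_c16 LD3_c60)) = (LP (LK LD1_c5 LD2_c43 LD3_c27)) :=
  Lre_f IH (LK LD1_c11 LD2_c16 LD3_c60) (LK LD1_c5 LD2_c43 LD3_c27) Lrfl Lrfl
theorem f381356 : Led Lsl_gt (LP (LK LD1_c11 LD2_c16 LD3_c60)) = (LP (LK LD1_c11 LD2_c6 LD3_c31)) :=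
  Lgr Lrot5 (Lpr_ft (f381258 IH) (Lpr_at (K51.f381150 IH) (Lpe (K53.f381328 IH) (Lpn (LP (LK LD1_c11 LD2_c6 LD3_c31))))))
theorem f164783 : Led Lsl_at (LP (LK LD1_c19 LD2_c59 LD3_c48)) = (LP (LK LD1_c11 LD2_c6 LD3_c24)) :=
  Lre_a IH (LK LD1_c19 LD2_c59 LD3_c48) (LK LD1_c11 LD2_c6 LD3_c24) Lrfl Lrfl
theorem f289290 : Led Lsl_bt (LP (LK LD1_c20 LD2_c9 LD3_c31)) = (LP (LK LD1_c19 LD2_c59 LD3_c48)) :=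
  Lgr Lrot62 (Lpe (K27.f289289 IH) (Lpe (K54.f289288 IH) (Lpr_af (K17.f289280 IH) (Lpe (K52.f164772 IH) (Lpe (f164783 IH) (Lpn (LP (LK LD1_c19 LD2_c59 LD3_c48))))))))
theorem f559999 : Led Lsl_bt (LP (LK LD1_c12 LD2_c23 LD3_c34)) = (LP (LK LD1_c11 LD2_c16 LD3_c60)) :=
  Lgr Lrot119 (Lpr_ef (K42.f559981 IH) (Lpe (f289290 IH) (Lpe (K27.f381250 IH) (Lpn (LP (LK LD1_c11 LD2_c16 LD3_c60))))))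
theorem f710112 : Led Lsl_ct (LP (LK LD1_c20 LD2_c0 LD3_c38)) = (LP (LK LD1_c20 LD2_c9 LD3_c22)) :=
  Lgr Lrot91 (Lpe (f589474 IH) (Lpe (K52.f589461 IH) (Lpr_ct (K52.f589471 IH) (Lpe (K53.f579787 IH) (Lpr_cf (K53.f710107 IH) (Lpr_bt (K53.f381358 IH) (Lpe (f381356 IH) (Lpe (f559999 IH) (Lpr_ct (K53.f496818 IH) (Lpr_gf (f618078 IH) (Lpn (LP (LK LD1_c20 LD2_c9 LD3_c22)))))))))))))
theorem f589400 : Led Lsl_dt (LP (LK LD1_c11 LD2_c7 LD3_c18)) = (LP (LK LD1_c5 LD2_c47 LD3_c46)) :=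
  Lgr Lrot44 (Lpe (K51.f589399 IH) (Lpr_df (K51.f589255 IH) (Lpe (K8.f66391 IH) (Lpn (LP (LK LD1_c5 LD2_c47 LD3_c46))))))
theorem f66288 : Led Lsl_gt (LP (LK LD1_c5 LD2_c47 LD3_c46)) = (LP (LK LD1_c11 LD2_c25 LD3_c15)) :=
  Lre_g IH (LK LD1_c5 LD2_c47 LD3_c46) (LK LD1_c11 LD2_c25 LD3_c15) Lrfl Lrfl
theorem f747458 : Led Lsl_ct (LP (LK LD1_c11 LD2_c25 LD3_c15)) = v16273 :=
  Lgr Lrot152 (Lpe (f66288 IH) (Lpe (f589400 IH) (Lpr_gt (f589474 IH) (Lpr_ct (f710112 IH) (Lpe (f618078 IH) (Lpr_ct (f496819 IH) (Lpe (f150329 IH) (Lpe (f150330 IH) (Lpr_gf (f747457 IH) (Lpn v16273))))))))))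
theorem f747459 : Led Lsl_bf (LP (LK LD1_c11 LD2_c30 LD3_c42)) = (LP (LK LD1_c11 LD2_c25 LD3_c15)) :=
  Lgr Lrot34 (Lpe (f73968 IH) (Lpe (K2.f73974 IH) (Lpr_ct (f73984 IH) (Lpe (f72911 IH) (Lpe (f740165 IH) (Lpe (K51.f496728 IH) (Lpe (K51.f150326 IH) (Lpr_ct (K32.f150328 IH) (Lpr_gf (f747457 IH) (Lpe (f747458 IH) (Lpn (LP (LK LD1_c11 LD2_c25 LD3_c15)))))))))))))
theorem f747460 : Led Lsl_bt (LP (LK LD1_c11 LD2_c25 LD3_c15)) = (LP (LK LD1_c11 LD2_c30 LD3_c42)) :=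
  Leop (Lpr_bf (f747459 IH) (Lpn (LP (LK LD1_c11 LD2_c25 LD3_c15))))
theorem seed_996 : LEOK LG_b (LK LD1_c11 LD2_c25 LD3_c15) :=
  Leoe_b (LK LD1_c11 LD2_c25 LD3_c15) (f747460 IH)
def v16285 : LQ := Led Lsl_et (LP (LK LD1_c5 LD2_c56 LD3_c49))
theorem f747530 : Led Lsl_et (LP (LK LD1_c5 LD2_c56 LD3_c49)) = v16285 :=
  Lrfl
theorem f747532 : Led Lsl_ef (LP (LK LD1_c5 LD2_c56 LD3_c49)) = v16285 :=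
  Lgr Lrot88 (Lpr_et (f747530 IH) (Lpn v16285))
theorem f204637 : Led Lsl_df (LP (LK LD1_c6 LD2_c2 LD3_c10)) = (LP (LK LD1_c9 LD2_c13 LD3_c44)) :=
  Lgr Lrot70 (Lpr_et (K16.f204636 IH) (Lpr_dt (K41.f69085 IH) (Lpr_et (K11.f204491 IH) (Lpr_dt (K29.f61112 IH) (Lpr_et (K11.f104843 IH) (Lpn (LP (LK LD1_c9 LD2_c13 LD3_c44))))))))
theorem f204486 : Led Lsl_gt (LP (LK LD1_c9 LD2_c18 LD3_c6)) = (LP (LK LD1_c4 LD2_c41 LD3_c38)) :=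
  Lre_g IH (LK LD1_c9 LD2_c18 LD3_c6) (LK LD1_c4 LD2_c41 LD3_c38) Lrfl Lrfl
theorem f204673 : Led Lsl_gt (LP (LK LD1_c6 LD2_c2 LD3_c10)) = (LP (LK LD1_c9 LD2_c18 LD3_c6)) :=
  Lgr Lrot5 (Lpr_ft (K11.f204663 IH) (Lpe (K11.f204667 IH) (Lpe (f204486 IH) (Lpn (LP (LK LD1_c9 LD2_c18 LD3_c6))))))
theorem f747534 : Led Lsl_df (LP (LK LD1_c9 LD2_c18 LD3_c6)) = v16285 :=
  Lgr Lrot168 (Lpe (f204673 IH) (Lpr_df (f204637 IH) (Lpr_et (K11.f104853 IH) (Lpe (K29.f419115 IH) (Lpe (K35.f68943 IH) (Lpr_dt (K35.f494568 IH) (Lpe (K49.f268365 IH) (Lpe (f599530 IH) (Lpr_gf (f744470 IH) (Lpq (f745001 IH) (Lpr_ef (f747532 IH) (Lpn v16285))))))))))))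
theorem f82932 : Led Lsl_bt (LP (LK LD1_c5 LD2_c56 LD3_c49)) = (LP (LK LD1_c2 LD2_c54 LD3_c43)) :=
  Lre_b IH (LK LD1_c5 LD2_c56 LD3_c49) (LK LD1_c2 LD2_c54 LD3_c43) Lrfl Lrfl
theorem f641129 : Led Lsl_et (LP (LK LD1_c2 LD2_c54 LD3_c43)) = (LP (LK LD1_c5 LD2_c56 LD3_c52)) :=
  Lre_e IH (LK LD1_c2 LD2_c54 LD3_c43) (LK LD1_c5 LD2_c56 LD3_c52) Lrfl Lrfl
theorem f747533 : Led Lsl_bt (LP (LK LD1_c5 LD2_c56 LD3_c52)) = v16285 :=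
  Lgr Lrot119 (Lpe (f641129 IH) (Lpe (f82932 IH) (Lpr_ef (f747532 IH) (Lpn v16285))))
theorem f425735 : Led Lsl_dt (LP (LK LD1_c11 LD2_c39 LD3_c0)) = (LP (LK LD1_c5 LD2_c56 LD3_c52)) :=
  Lre_d IH (LK LD1_c11 LD2_c39 LD3_c0) (LK LD1_c5 LD2_c56 LD3_c52) Lrfl Lrfl
theorem f747535 : Led Lsl_bt (LP (LK LD1_c9 LD2_c18 LD3_c6)) = (LP (LK LD1_c11 LD2_c39 LD3_c0)) :=
  Lgr Lrot95 (Lpr_df (f747534 IH) (Lpe (f747533 IH) (Lpe (f425735 IH) (Lpn (LP (LK LD1_c11 LD2_c39 LD3_c0))))))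
theorem f747536 : Led Lsl_bt (LP (LK LD1_c9 LD2_c18 LD3_c6)) = (LP (LK LD1_c11 LD2_c39 LD3_c0)) :=
  Leop (Lpe (f747535 IH) (Lpn (LP (LK LD1_c9 LD2_c18 LD3_c6))))
theorem seed_997 : LEOK LG_b (LK LD1_c9 LD2_c18 LD3_c6) :=
  Leoe_b (LK LD1_c9 LD2_c18 LD3_c6) (f747536 IH)
def v16286 : LQ := Led Lsl_ft (LP (LK LD1_c5 LD2_c56 LD3_c49))
theorem f747540 : Led Lsl_ft (LP (LK LD1_c5 LD2_c56 LD3_c49)) = v16286 :=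
  Lrfl
theorem f747543 : Led Lsl_ff (LP (LK LD1_c5 LD2_c56 LD3_c49)) = v16286 :=
  Lgr Lrot3 (Lpr_ft (f747540 IH) (Lpn v16286))
def v4975 : LQ := Led Lsl_ft (LP (LK LD1_c2 LD2_c54 LD3_c43))
theorem f641138 : Led Lsl_ft (LP (LK LD1_c2 LD2_c54 LD3_c43)) = v4975 :=
  Lrfl
theorem f747545 : Led Lsl_bt v4975 = v16286 :=
  Lgr Lrot35 (Lpe (f641138 IH) (Lpe (f82932 IH) (Lpr_ff (f747543 IH) (Lpn v16286))))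
theorem f641141 : Led Lsl_ff (LP (LK LD1_c2 LD2_c54 LD3_c43)) = v4975 :=
  Lgr Lrot3 (Lpr_ft (f641138 IH) (Lpn v4975))
def v4974 : LQ := Led Lsl_at (LP (LK LD1_c2 LD2_c54 LD3_c43))
theorem f641127 : Led Lsl_at (LP (LK LD1_c2 LD2_c54 LD3_c43)) = v4974 :=
  Lrfl
theorem f641128 : Led Lsl_af (LP (LK LD1_c2 LD2_c54 LD3_c43)) = v4974 :=
  Lgr Lrot0 (Lpr_at (f641127 IH) (Lpn v4974))
theorem f641130 : Led Lsl_ft (LP (LK LD1_c2 LD2_c54 LD3_c44)) = v4974 :=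
  Lgr Lrot2 (Lpr_gt (K52.f82942 IH) (Lpr_gt (K51.f82899 IH) (Lpr_af (f641128 IH) (Lpn v4974))))
theorem f641134 : Led Lsl_ff (LP (LK LD1_c2 LD2_c54 LD3_c44)) = v4974 :=
  Lgr Lrot3 (Lpr_ft (f641130 IH) (Lpn v4974))
theorem f641145 : Led Lsl_at (LP (LK LD1_c2 LD2_c54 LD3_c44)) = v4975 :=
  Lgr Lrot66 (Lpr_ff (f641134 IH) (Lpe (f641127 IH) (Lpr_ff (f641141 IH) (Lpn v4975))))
def v16284 : LQ := Led Lsl_at (LP (LK LD1_c5 LD2_c56 LD3_c49))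
theorem f747526 : Led Lsl_at (LP (LK LD1_c5 LD2_c56 LD3_c49)) = v16284 :=
  Lrfl
theorem f747527 : Led Lsl_af (LP (LK LD1_c5 LD2_c56 LD3_c49)) = v16284 :=
  Lgr Lrot0 (Lpr_at (f747526 IH) (Lpn v16284))
theorem f747528 : Led Lsl_ft (LP (LK LD1_c11 LD2_c29 LD3_c10)) = v16284 :=
  Lgr Lrot2 (Lpr_gt (f494543 IH) (Lpr_gt (f744469 IH) (Lpq (f745001 IH) (Lpr_af (f747527 IH) (Lpn v16284)))))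
theorem f747541 : Led Lsl_af (LP (LK LD1_c11 LD2_c29 LD3_c10)) = v16286 :=
  Lgr Lrot45 (Lpr_ft (f747528 IH) (Lpe (f747527 IH) (Lpr_ft (f747540 IH) (Lpn v16286))))
theorem f747546 : Led Lsl_af (LP (LK LD1_c5 LD2_c56 LD3_c53)) = (LP (LK LD1_c5 LD2_c58 LD3_c54)) :=
  Lgr Lrot36 (Lpr_bt (K52.f82943 IH) (Lpr_at (f641145 IH) (Lpr_bt (f747545 IH) (Lpe (f747541 IH) (Lpe (f744989 IH) (Lpn (LP (LK LD1_c5 LD2_c58 LD3_c54))))))))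
theorem f747547 : Led Lsl_at (LP (LK LD1_c5 LD2_c58 LD3_c54)) = (LP (LK LD1_c5 LD2_c56 LD3_c53)) :=
  Leop (Lpr_af (f747546 IH) (Lpn (LP (LK LD1_c5 LD2_c58 LD3_c54))))
theorem seed_998 : LEOK LG_a (LK LD1_c5 LD2_c58 LD3_c54) :=
  Leoe_a (LK LD1_c5 LD2_c58 LD3_c54) (f747547 IH)
def v16287 : LQ := Led Lsl_gf (LP (LK LD1_c5 LD2_c56 LD3_c51))
theorem f748084 : Led Lsl_gf (LP (LK LD1_c5 LD2_c56 LD3_c51)) = v16287 :=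
  Lrfl
def v13877 : LQ := Led Lsl_dt (LP (LK LD1_c4 LD2_c49 LD3_c25))
theorem f705640 : Led Lsl_dt (LP (LK LD1_c4 LD2_c49 LD3_c25)) = v13877 :=
  Lrfl
theorem f707356 : Led Lsl_at v13877 = (LP (LK LD1_c11 LD2_c38 LD3_c59)) :=
  Lgr Lrot51 (Lpe (f705640 IH) (Lpe (K54.f510158 IH) (Lpr_df (K51.f707351 IH) (Lpn (LP (LK LD1_c11 LD2_c38 LD3_c59))))))
theorem f748086 : Led Lsl_ff v13877 = v16287 :=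
  Lgr Lrot52 (Lpr_at (f707356 IH) (Lpe (K51.f641099 IH) (Lpr_gf (f748084 IH) (Lpn v16287))))
theorem f748089 : Led Lsl_ft v13877 = v16287 :=
  Lgr Lrot48 (Lpr_ff (f748086 IH) (Lpn v16287))
theorem f510140 : Led Lsl_ft (LP (LK LD1_c9 LD2_c31 LD3_c38)) = (LP (LK LD1_c4 LD2_c49 LD3_c25)) :=
  Lre_f IH (LK LD1_c9 LD2_c31 LD3_c38) (LK LD1_c4 LD2_c49 LD3_c25) Lrfl Lrfl
theorem f748091 : Led Lsl_df (LP (LK LD1_c9 LD2_c31 LD3_c38)) = v16287 :=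
  Lgr Lrot78 (Lpr_ft (f510140 IH) (Lpr_dt (f705640 IH) (Lpr_ft (f748089 IH) (Lpn v16287))))
theorem f164822 : Led Lsl_at (LP (LK LD1_c11 LD2_c6 LD3_c24)) = (LP (LK LD1_c19 LD2_c59 LD3_c48)) :=
  Lre_a IH (LK LD1_c11 LD2_c6 LD3_c24) (LK LD1_c19 LD2_c59 LD3_c48) Lrfl Lrfl
theorem f559997 : Led Lsl_at (LP (LK LD1_c12 LD2_c23 LD3_c34)) = (LP (LK LD1_c11 LD2_c14 LD3_c25)) :=
  Lgr Lrot80 (Lpr_ef (K42.f559981 IH) (Lpe (f164822 IH) (Lpe (K54.f289337 IH) (Lpn (LP (LK LD1_c11 LD2_c14 LD3_c25))))))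
theorem f559971 : Led Lsl_ft (LP (LK LD1_c6 LD2_c25 LD3_c19)) = (LP (LK LD1_c12 LD2_c23 LD3_c34)) :=
  Lre_f IH (LK LD1_c6 LD2_c25 LD3_c19) (LK LD1_c12 LD2_c23 LD3_c34) Lrfl Lrfl
theorem f707235 : Led Lsl_gf (LP (LK LD1_c6 LD2_c12 LD3_c8)) = (LP (LK LD1_c6 LD2_c25 LD3_c19)) :=
  Lgr Lrot47 (Lpr_gt (K51.f705998 IH) (Lpe (f559997 IH) (Lpe (f559971 IH) (Lpn (LP (LK LD1_c6 LD2_c25 LD3_c19))))))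
theorem f510117 : Led Lsl_dt (LP (LK LD1_c6 LD2_c45 LD3_c23)) = (LP (LK LD1_c3 LD2_c20 LD3_c46)) :=
  Lre_d IH (LK LD1_c6 LD2_c45 LD3_c23) (LK LD1_c3 LD2_c20 LD3_c46) Lrfl Lrfl
theorem f509388 : Led Lsl_ft (LP (LK LD1_c3 LD2_c20 LD3_c46)) = (LP (LK LD1_c6 LD2_c45 LD3_c24)) :=
  Lre_f IH (LK LD1_c3 LD2_c20 LD3_c46) (LK LD1_c6 LD2_c45 LD3_c24) Lrfl Lrfl
theorem f510118 : Led Lsl_dt (LP (LK LD1_c6 LD2_c45 LD3_c24)) = (LP (LK LD1_c6 LD2_c12 LD3_c8)) :=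
  Lgr Lrot60 (Lpe (f509388 IH) (Lpe (f510117 IH) (Lpr_ff (K51.f510112 IH) (Lpn (LP (LK LD1_c6 LD2_c12 LD3_c8))))))
theorem f509901 : Led Lsl_bt (LP (LK LD1_c9 LD2_c31 LD3_c38)) = (LP (LK LD1_c4 LD2_c49 LD3_c28)) :=
  Lre_b IH (LK LD1_c9 LD2_c31 LD3_c38) (LK LD1_c4 LD2_c49 LD3_c28) Lrfl Lrfl
theorem f509918 : Led Lsl_bt (LP (LK LD1_c3 LD2_c20 LD3_c52)) = (LP (LK LD1_c6 LD2_c45 LD3_c24)) :=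
  Lre_b IH (LK LD1_c3 LD2_c20 LD3_c52) (LK LD1_c6 LD2_c45 LD3_c24) Lrfl Lrfl
theorem f510136 : Led Lsl_ef (LP (LK LD1_c9 LD2_c31 LD3_c38)) = (LP (LK LD1_c6 LD2_c45 LD3_c24)) :=
  Lgr Lrot29 (Lpr_bt (f509901 IH) (Lpr_et (K50.f510134 IH) (Lpr_bt (f509918 IH) (Lpn (LP (LK LD1_c6 LD2_c45 LD3_c24))))))
theorem f707310 : Led Lsl_gt (LP (LK LD1_c9 LD2_c31 LD3_c38)) = (LP (LK LD1_c6 LD2_c2 LD3_c29)) :=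
  Lgr Lrot137 (Lpr_ef (f510136 IH) (Lpr_dt (f510118 IH) (Lpr_gf (f707235 IH) (Lpe (K51.f116991 IH) (Lpr_et (K51.f116990 IH) (Lpr_gf (K8.f116975 IH) (Lpe (K45.f112485 IH) (Lpr_dt (K45.f72045 IH) (Lpe (K45.f72026 IH) (Lpe (K45.f116986 IH) (Lpn (LP (LK LD1_c6 LD2_c2 LD3_c29)))))))))))))
theorem f117004 : Led Lsl_ct (LP (LK LD1_c6 LD2_c2 LD3_c29)) = (LP (LK LD1_c11 LD2_c49 LD3_c16)) :=
  Lre_c IH (LK LD1_c6 LD2_c2 LD3_c29) (LK LD1_c11 LD2_c49 LD3_c16) Lrfl Lrfl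
def v16262 : LQ := Led Lsl_ft (LP (LK LD1_c5 LD2_c55 LD3_c54))
theorem f747395 : Led Lsl_ft (LP (LK LD1_c5 LD2_c55 LD3_c54)) = v16262 :=
  Lrfl
theorem f747397 : Led Lsl_ff (LP (LK LD1_c5 LD2_c55 LD3_c54)) = v16262 :=
  Lgr Lrot3 (Lpr_ft (f747395 IH) (Lpn v16262))
theorem f641139 : Led Lsl_af (LP (LK LD1_c2 LD2_c54 LD3_c44)) = v4975 :=
  Lgr Lrot45 (Lpr_ft (f641130 IH) (Lpe (f641128 IH) (Lpr_ft (f641138 IH) (Lpn v4975))))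
def v16259 : LQ := Led Lsl_at (LP (LK LD1_c5 LD2_c55 LD3_c54))
theorem f747384 : Led Lsl_at (LP (LK LD1_c5 LD2_c55 LD3_c54)) = v16259 :=
  Lrfl
theorem f747385 : Led Lsl_af (LP (LK LD1_c5 LD2_c55 LD3_c54)) = v16259 :=
  Lgr Lrot0 (Lpr_at (f747384 IH) (Lpn v16259))
theorem f161437 : Led Lsl_gt (LP (LK LD1_c2 LD2_c54 LD3_c18)) = (LP (LK LD1_c5 LD2_c55 LD3_c54)) :=
  Lre_g IH (LK LD1_c2 LD2_c54 LD3_c18) (LK LD1_c5 LD2_c55 LD3_c54) Lrfl Lrfl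
theorem f424776 : Led Lsl_gt (LP (LK LD1_c5 LD2_c55 LD3_c55)) = (LP (LK LD1_c2 LD2_c54 LD3_c18)) :=
  Lre_g IH (LK LD1_c5 LD2_c55 LD3_c55) (LK LD1_c2 LD2_c54 LD3_c18) Lrfl Lrfl
theorem f747386 : Led Lsl_ft (LP (LK LD1_c5 LD2_c55 LD3_c55)) = v16259 :=
  Lgr Lrot2 (Lpr_gt (f424776 IH) (Lpr_gt (f161437 IH) (Lpr_af (f747385 IH) (Lpn v16259))))
theorem f747388 : Led Lsl_ff (LP (LK LD1_c5 LD2_c55 LD3_c55)) = v16259 :=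
  Lgr Lrot3 (Lpr_ft (f747386 IH) (Lpn v16259))
theorem f747398 : Led Lsl_at (LP (LK LD1_c5 LD2_c55 LD3_c55)) = v16262 :=
  Lgr Lrot66 (Lpr_ff (f747388 IH) (Lpe (f747384 IH) (Lpr_ff (f747397 IH) (Lpn v16262))))
theorem f747542 : Led Lsl_bf v4975 = v16286 :=
  Lgr Lrot61 (Lpe (f641141 IH) (Lpr_bt (f82965 IH) (Lpr_ft (f747540 IH) (Lpn v16286))))
theorem f563045 : Led Lsl_dt (LP (LK LD1_c2 LD2_c52 LD3_c36)) = (LP (LK LD1_c2 LD2_c58 LD3_c2)) :=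
  Lgr Lrot105 (Lpe (K40.f452734 IH) (Lpr_df (K40.f563029 IH) (Lpr_gf (K11.f186115 IH) (Lpe (K10.f26700 IH) (Lpr_gt (K10.f176572 IH) (Lpr_dt (K10.f176590 IH) (Lpr_gt (K10.f185962 IH) (Lpr_dt (K10.f176841 IH) (Lpr_cf (K11.f186053 IH) (Lpn (LP (LK LD1_c2 LD2_c58 LD3_c2))))))))))))
theorem f599819 : Led Lsl_gt (LP (LK LD1_c11 LD2_c31 LD3_c37)) = (LP (LK LD1_c5 LD2_c52 LD3_c33)) :=
  Lre_g IH (LK LD1_c11 LD2_c31 LD3_c37) (LK LD1_c5 LD2_c52 LD3_c33) Lrfl Lrfl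
theorem f186293 : Led Lsl_et (LP (LK LD1_c1 LD2_c24 LD3_c42)) = (LP (LK LD1_c2 LD2_c22 LD3_c34)) :=
  Lre_e IH (LK LD1_c1 LD2_c24 LD3_c42) (LK LD1_c2 LD2_c22 LD3_c34) Lrfl Lrfl
theorem f616340 : Led Lsl_ef (LP (LK LD1_c11 LD2_c31 LD3_c37)) = (LP (LK LD1_c6 LD2_c45 LD3_c28)) :=
  Lgr Lrot114 (Lpr_gt (f599819 IH) (Lpe (K52.f563065 IH) (Lpr_dt (f563045 IH) (Lpe (K38.f186438 IH) (Lpe (K0.f9339 IH) (Lpr_et (f186293 IH) (Lpr_gt (K17.f27108 IH) (Lpr_dt (K24.f414333 IH) (Lpr_gt (K24.f416728 IH) (Lpe (K24.f415143 IH) (Lpn (LP (LK LD1_c6 LD2_c45 LD3_c28)))))))))))))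
theorem f616346 : Led Lsl_et (LP (LK LD1_c11 LD2_c31 LD3_c37)) = (LP (LK LD1_c6 LD2_c45 LD3_c28)) :=
  Lgr Lrot87 (Lpr_ef (f616340 IH) (Lpn (LP (LK LD1_c6 LD2_c45 LD3_c28))))
theorem f616350 : Led Lsl_cf (LP (LK LD1_c11 LD2_c31 LD3_c37)) = (LP (LK LD1_c6 LD2_c3 LD3_c39)) :=
  Lgr Lrot39 (Lpr_et (f616346 IH) (Lpr_ct (K24.f415042 IH) (Lpe (K35.f416731 IH) (Lpn (LP (LK LD1_c6 LD2_c3 LD3_c39))))))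
theorem f445649 : Led Lsl_ct (LP (LK LD1_c5 LD2_c52 LD3_c33)) = (LP (LK LD1_c2 LD2_c52 LD3_c32)) :=
  Lre_c IH (LK LD1_c5 LD2_c52 LD3_c33) (LK LD1_c2 LD2_c52 LD3_c32) Lrfl Lrfl
theorem f22598 : Led Lsl_dt (LP (LK LD1_c2 LD2_c52 LD3_c32)) = (LP (LK LD1_c1 LD2_c22 LD3_c19)) :=
  Lre_d IH (LK LD1_c2 LD2_c52 LD3_c32) (LK LD1_c1 LD2_c22 LD3_c19) Lrfl Lrfl
theorem f22509 : Led Lsl_ct (LP (LK LD1_c2 LD2_c52 LD3_c29)) = (LP (LK LD1_c1 LD2_c22 LD3_c19)) :=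
  Lre_c IH (LK LD1_c2 LD2_c52 LD3_c29) (LK LD1_c1 LD2_c22 LD3_c19) Lrfl Lrfl
theorem f22744 : Led Lsl_gt (LP (LK LD1_c5 LD2_c52 LD3_c20)) = (LP (LK LD1_c2 LD2_c52 LD3_c29)) :=
  Lre_g IH (LK LD1_c5 LD2_c52 LD3_c20) (LK LD1_c2 LD2_c52 LD3_c29) Lrfl Lrfl
theorem f494461 : Led Lsl_gt (LP (LK LD1_c9 LD2_c10 LD3_c25)) = (LP (LK LD1_c4 LD2_c37 LD3_c24)) :=
  Lre_g IH (LK LD1_c9 LD2_c10 LD3_c25) (LK LD1_c4 LD2_c37 LD3_c24) Lrfl Lrfl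
theorem f599526 : Led Lsl_dt (LP (LK LD1_c17 LD2_c3 LD3_c34)) = (LP (LK LD1_c9 LD2_c10 LD3_c25)) :=
  Lre_d IH (LK LD1_c17 LD2_c3 LD3_c34) (LK LD1_c9 LD2_c10 LD3_c25) Lrfl Lrfl
theorem f185975 : Led Lsl_et (LP (LK LD1_c2 LD2_c57 LD3_c57)) = (LP (LK LD1_c1 LD2_c24 LD3_c39)) :=
  Lre_e IH (LK LD1_c2 LD2_c57 LD3_c57) (LK LD1_c1 LD2_c24 LD3_c39) Lrfl Lrfl
theorem f23970 : Led Lsl_gt (LP (LK LD1_c4 LD2_c39 LD3_c25)) = (LP (LK LD1_c9 LD2_c14 LD3_c30)) :=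
  Lre_g IH (LK LD1_c4 LD2_c39 LD3_c25) (LK LD1_c9 LD2_c14 LD3_c30) Lrfl Lrfl
theorem f599535 : Led Lsl_et (LP (LK LD1_c17 LD2_c3 LD3_c34)) = (LP (LK LD1_c9 LD2_c14 LD3_c30)) :=
  Lgr Lrot122 (Lpr_dt (f599526 IH) (Lpr_gt (f494461 IH) (Lpr_df (f599522 IH) (Lpr_et (f185975 IH) (Lpe (K12.f185969 IH) (Lpr_dt (K12.f185964 IH) (Lpe (K9.f24447 IH) (Lpe (K9.f23939 IH) (Lpr_et (f23941 IH) (Lpr_gt (f23970 IH) (Lpn (LP (LK LD1_c9 LD2_c14 LD3_c30)))))))))))))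
theorem f24013 : Led Lsl_et (LP (LK LD1_c9 LD2_c14 LD3_c27)) = (LP (LK LD1_c4 LD2_c39 LD3_c23)) :=
  Lre_e IH (LK LD1_c9 LD2_c14 LD3_c27) (LK LD1_c4 LD2_c39 LD3_c23) Lrfl Lrfl
theorem f285277 : Led Lsl_ft (LP (LK LD1_c17 LD2_c8 LD3_c46)) = (LP (LK LD1_c9 LD2_c14 LD3_c27)) :=
  Lre_f IH (LK LD1_c17 LD2_c8 LD3_c46) (LK LD1_c9 LD2_c14 LD3_c27) Lrfl Lrfl
theorem f186251 : Led Lsl_ft (LP (LK LD1_c6 LD2_c3 LD3_c42)) = (LP (LK LD1_c11 LD2_c50 LD3_c56)) :=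
  Lre_f IH (LK LD1_c6 LD2_c3 LD3_c42) (LK LD1_c11 LD2_c50 LD3_c56) Lrfl Lrfl
theorem f285278 : Led Lsl_ef (LP (LK LD1_c17 LD2_c8 LD3_c46)) = (LP (LK LD1_c11 LD2_c50 LD3_c56)) :=
  Lgr Lrot21 (Lpr_ft (f285277 IH) (Lpr_et (f24013 IH) (Lpr_ft (K40.f285273 IH) (Lpr_et (K39.f175712 IH) (Lpr_ft (f186251 IH) (Lpn (LP (LK LD1_c11 LD2_c50 LD3_c56))))))))
theorem f285280 : Led Lsl_bt (LP (LK LD1_c17 LD2_c8 LD3_c46)) = (LP (LK LD1_c9 LD2_c14 LD3_c32)) :=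
  Lre_b IH (LK LD1_c17 LD2_c8 LD3_c46) (LK LD1_c9 LD2_c14 LD3_c32) Lrfl Lrfl
theorem f186219 : Led Lsl_bt (LP (LK LD1_c6 LD2_c3 LD3_c47)) = (LP (LK LD1_c11 LD2_c50 LD3_c56)) :=
  Lre_b IH (LK LD1_c6 LD2_c3 LD3_c47) (LK LD1_c11 LD2_c50 LD3_c56) Lrfl Lrfl
theorem f285281 : Led Lsl_et (LP (LK LD1_c9 LD2_c14 LD3_c32)) = (LP (LK LD1_c6 LD2_c3 LD3_c47)) :=
  Lgr Lrot74 (Lpe (f285280 IH) (Lpr_ef (f285278 IH) (Lpe (f186219 IH) (Lpn (LP (LK LD1_c6 LD2_c3 LD3_c47))))))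
theorem f285285 : Led Lsl_ef (LP (LK LD1_c9 LD2_c14 LD3_c32)) = (LP (LK LD1_c6 LD2_c3 LD3_c47)) :=
  Lgr Lrot88 (Lpr_et (f285281 IH) (Lpn (LP (LK LD1_c6 LD2_c3 LD3_c47))))
theorem f285287 : Led Lsl_at (LP (LK LD1_c9 LD2_c14 LD3_c32)) = (LP (LK LD1_c6 LD2_c3 LD3_c54)) :=
  Lgr Lrot80 (Lpr_ef (f285285 IH) (Lpe (K39.f285146 IH) (Lpe (K39.f268422 IH) (Lpn (LP (LK LD1_c6 LD2_c3 LD3_c54))))))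
theorem f23968 : Led Lsl_ft (LP (LK LD1_c4 LD2_c39 LD3_c25)) = (LP (LK LD1_c9 LD2_c14 LD3_c32)) :=
  Lre_f IH (LK LD1_c4 LD2_c39 LD3_c25) (LK LD1_c9 LD2_c14 LD3_c32) Lrfl Lrfl
theorem f285292 : Led Lsl_gt (LP (LK LD1_c9 LD2_c14 LD3_c30)) = (LP (LK LD1_c6 LD2_c3 LD3_c54)) :=
  Lgr Lrot46 (Lpe (f23970 IH) (Lpr_ft (f23968 IH) (Lpr_at (f285287 IH) (Lpn (LP (LK LD1_c6 LD2_c3 LD3_c54))))))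
theorem f268433 : Led Lsl_ef (LP (LK LD1_c6 LD2_c3 LD3_c54)) = (LP (LK LD1_c9 LD2_c14 LD3_c25)) :=
  Lgr Lrot21 (Lpr_ft (K39.f175434 IH) (Lpr_et (K53.f175395 IH) (Lpr_ft (K15.f268424 IH) (Lpr_et (K36.f177750 IH) (Lpr_ft (K39.f268432 IH) (Lpn (LP (LK LD1_c9 LD2_c14 LD3_c25))))))))
theorem f285137 : Led Lsl_ft (LP (LK LD1_c10 LD2_c2 LD3_c47)) = (LP (LK LD1_c5 LD2_c5 LD3_c54)) :=
  Lre_f IH (LK LD1_c10 LD2_c2 LD3_c47) (LK LD1_c5 LD2_c5 LD3_c54) Lrfl Lrfl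
theorem f186180 : Led Lsl_gt (LP (LK LD1_c10 LD2_c4 LD3_c33)) = (LP (LK LD1_c5 LD2_c6 LD3_c54)) :=
  Lre_g IH (LK LD1_c10 LD2_c4 LD3_c33) (LK LD1_c5 LD2_c6 LD3_c54) Lrfl Lrfl
theorem f285140 : Led Lsl_gt (LP (LK LD1_c10 LD2_c2 LD3_c47)) = (LP (LK LD1_c10 LD2_c4 LD3_c33)) :=
  Lgr Lrot5 (Lpr_ft (f285137 IH) (Lpr_at (K39.f285126 IH) (Lpe (f186180 IH) (Lpn (LP (LK LD1_c10 LD2_c4 LD3_c33))))))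
theorem f186208 : Led Lsl_et (LP (LK LD1_c11 LD2_c50 LD3_c51)) = (LP (LK LD1_c6 LD2_c3 LD3_c38)) :=
  Lre_e IH (LK LD1_c11 LD2_c50 LD3_c51) (LK LD1_c6 LD2_c3 LD3_c38) Lrfl Lrfl
theorem f186209 : Led Lsl_dt (LP (LK LD1_c11 LD2_c50 LD3_c51)) = (LP (LK LD1_c10 LD2_c4 LD3_c33)) :=
  Lgr Lrot136 (Lpr_et (f186208 IH) (Lpe (K50.f186207 IH) (Lpe (K35.f186206 IH) (Lpr_dt (K10.f175571 IH) (Lpe (K9.f101494 IH) (Lpe (K0.f9380 IH) (Lpe (K10.f9427 IH) (Lpe (K39.f175801 IH) (Lpr_dt (K39.f186188 IH) (Lpe (f186180 IH) (Lpn (LP (LK LD1_c10 LD2_c4 LD3_c33)))))))))))))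
theorem f268354 : Led Lsl_gt (LP (LK LD1_c6 LD2_c3 LD3_c38)) = (LP (LK LD1_c9 LD2_c14 LD3_c18)) :=
  Lgr Lrot46 (Lpe (K50.f186207 IH) (Lpr_ft (K49.f268344 IH) (Lpr_at (K49.f268345 IH) (Lpn (LP (LK LD1_c9 LD2_c14 LD3_c18))))))
theorem f599540 : Led Lsl_gf (LP (LK LD1_c9 LD2_c10 LD3_c25)) = (LP (LK LD1_c11 LD2_c29 LD3_c11)) :=
  Lgr Lrot134 (Lpe (f599526 IH) (Lpr_et (f599535 IH) (Lpr_gt (f285292 IH) (Lpr_ef (f268433 IH) (Lpr_dt (K39.f285162 IH) (Lpr_gt (f285140 IH) (Lpe (f186209 IH) (Lpr_et (f186208 IH) (Lpr_gt (f268354 IH) (Lpe (f494564 IH) (Lpn (LP (LK LD1_c11 LD2_c29 LD3_c11)))))))))))))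
theorem f616352 : Led Lsl_cf (LP (LK LD1_c5 LD2_c52 LD3_c20)) = (LP (LK LD1_c9 LD2_c10 LD3_c25)) :=
  Lgr Lrot169 (Lpr_gt (f22744 IH) (Lpr_ct (f22509 IH) (Lpe (f22598 IH) (Lpe (f445649 IH) (Lpe (f599819 IH) (Lpr_cf (f616350 IH) (Lpr_gf (K49.f268348 IH) (Lpe (f494557 IH) (Lpe (f599540 IH) (Lpn (LP (LK LD1_c9 LD2_c10 LD3_c25))))))))))))
theorem f22586 : Led Lsl_ct (LP (LK LD1_c1 LD2_c22 LD3_c19)) = (LP (LK LD1_c2 LD2_c52 LD3_c29)) :=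
  Lre_c IH (LK LD1_c1 LD2_c22 LD3_c19) (LK LD1_c2 LD2_c52 LD3_c29) Lrfl Lrfl
theorem f22508 : Led Lsl_bt (LP (LK LD1_c1 LD2_c22 LD3_c19)) = (LP (LK LD1_c0 LD2_c38 LD3_c10)) :=
  Lre_b IH (LK LD1_c1 LD2_c22 LD3_c19) (LK LD1_c0 LD2_c38 LD3_c10) Lrfl Lrfl
theorem f616371 : Led Lsl_bf (LP (LK LD1_c5 LD2_c55 LD3_c55)) = (LP (LK LD1_c9 LD2_c10 LD3_c25)) :=
  Lgr Lrot34 (Lpe (K52.f82909 IH) (Lpe (K52.f71356 IH) (Lpr_ct (K24.f82895 IH) (Lpr_gf (K24.f435564 IH) (Lpr_cf (K24.f438449 IH) (Lpe (K24.f22526 IH) (Lpe (f22508 IH) (Lpr_ct (f22586 IH) (Lpe (f22744 IH) (Lpr_cf (f616352 IH) (Lpn (LP (LK LD1_c9 LD2_c10 LD3_c25)))))))))))))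
theorem f426145 : Led Lsl_gt (LP (LK LD1_c11 LD2_c40 LD3_c47)) = (LP (LK LD1_c5 LD2_c58 LD3_c56)) :=
  Lre_g IH (LK LD1_c11 LD2_c40 LD3_c47) (LK LD1_c5 LD2_c58 LD3_c56) Lrfl Lrfl
theorem f747556 : Led Lsl_ft (LP (LK LD1_c11 LD2_c40 LD3_c47)) = (LP (LK LD1_c5 LD2_c58 LD3_c54)) :=
  Lgr Lrot2 (Lpr_gt (f426145 IH) (Lpr_gt (K52.f710981 IH) (Lpr_af (f747546 IH) (Lpn (LP (LK LD1_c5 LD2_c58 LD3_c54))))))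
theorem f82950 : Led Lsl_dt (LP (LK LD1_c21 LD2_c36 LD3_c30)) = (LP (LK LD1_c12 LD2_c29 LD3_c41)) :=
  Lre_d IH (LK LD1_c21 LD2_c36 LD3_c30) (LK LD1_c12 LD2_c29 LD3_c41) Lrfl Lrfl
theorem f600120 : Led Lsl_gt (LP (LK LD1_c9 LD2_c6 LD3_c37)) = (LP (LK LD1_c16 LD2_c58 LD3_c37)) :=
  Lre_g IH (LK LD1_c9 LD2_c6 LD3_c37) (LK LD1_c16 LD2_c58 LD3_c37) Lrfl Lrfl
theorem f268340 : Led Lsl_ct (LP (LK LD1_c4 LD2_c39 LD3_c19)) = (LP (LK LD1_c9 LD2_c14 LD3_c15)) :=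
  Lre_c IH (LK LD1_c4 LD2_c39 LD3_c19) (LK LD1_c9 LD2_c14 LD3_c15) Lrfl Lrfl
theorem f268363 : Led Lsl_bt (LP (LK LD1_c4 LD2_c39 LD3_c19)) = (LP (LK LD1_c9 LD2_c14 LD3_c13)) :=
  Lre_b IH (LK LD1_c4 LD2_c39 LD3_c19) (LK LD1_c9 LD2_c14 LD3_c13) Lrfl Lrfl
theorem f494599 : Led Lsl_gt (LP (LK LD1_c9 LD2_c14 LD3_c13)) = (LP (LK LD1_c17 LD2_c8 LD3_c33)) :=
  Lre_g IH (LK LD1_c9 LD2_c14 LD3_c13) (LK LD1_c17 LD2_c8 LD3_c33) Lrfl Lrfl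
theorem f642967 : Led Lsl_bf (LP (LK LD1_c17 LD2_c8 LD3_c33)) = (LP (LK LD1_c11 LD2_c41 LD3_c57)) :=
  Lgr Lrot34 (Lpe (f494599 IH) (Lpe (f268363 IH) (Lpr_ct (f268340 IH) (Lpr_gf (K53.f622547 IH) (Lpe (K49.f599822 IH) (Lpr_gf (K45.f599820 IH) (Lpe (K52.f548596 IH) (Lpr_ct (K52.f548598 IH) (Lpe (K52.f599825 IH) (Lpr_cf (K52.f642956 IH) (Lpn (LP (LK LD1_c11 LD2_c41 LD3_c57)))))))))))))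
theorem f268315 : Led Lsl_ft (LP (LK LD1_c9 LD2_c14 LD3_c13)) = (LP (LK LD1_c17 LD2_c8 LD3_c34)) :=
  Lre_f IH (LK LD1_c9 LD2_c14 LD3_c13) (LK LD1_c17 LD2_c8 LD3_c34) Lrfl Lrfl
theorem f540060 : Led Lsl_gt (LP (LK LD1_c17 LD2_c8 LD3_c33)) = (LP (LK LD1_c26 LD2_c55 LD3_c37)) :=
  Lgr Lrot46 (Lpe (f494599 IH) (Lpr_ft (f268315 IH) (Lpr_at (K36.f540052 IH) (Lpn (LP (LK LD1_c26 LD2_c55 LD3_c37))))))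
theorem f622280 : Led Lsl_ft (LP (LK LD1_c2 LD2_c15 LD3_c59)) = (LP (LK LD1_c4 LD2_c37 LD3_c35)) :=
  Lre_f IH (LK LD1_c2 LD2_c15 LD3_c59) (LK LD1_c4 LD2_c37 LD3_c35) Lrfl Lrfl
theorem f504752 : Led Lsl_gt (LP (LK LD1_c4 LD2_c36 LD3_c29)) = (LP (LK LD1_c9 LD2_c9 LD3_c5)) :=
  Lre_g IH (LK LD1_c4 LD2_c36 LD3_c29) (LK LD1_c9 LD2_c9 LD3_c5) Lrfl Lrfl
theorem f642782 : Led Lsl_at (LP (LK LD1_c4 LD2_c37 LD3_c35)) = (LP (LK LD1_c9 LD2_c9 LD3_c5)) :=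
  Lgr Lrot26 (Lpe (f622280 IH) (Lpr_gt (K50.f631924 IH) (Lpq (K50.f642780 IH) (Lpr_gt (f504752 IH) (Lpn (LP (LK LD1_c9 LD2_c9 LD3_c5)))))))
theorem f599554 : Led Lsl_at (LP (LK LD1_c4 LD2_c37 LD3_c17)) = (LP (LK LD1_c2 LD2_c15 LD3_c59)) :=
  Lre_a IH (LK LD1_c4 LD2_c37 LD3_c17) (LK LD1_c2 LD2_c15 LD3_c59) Lrfl Lrfl
theorem f642790 : Led Lsl_ff (LP (LK LD1_c4 LD2_c37 LD3_c17)) = (LP (LK LD1_c9 LD2_c9 LD3_c5)) :=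
  Lgr Lrot30 (Lpr_at (f599554 IH) (Lpr_ft (f622280 IH) (Lpr_at (f642782 IH) (Lpn (LP (LK LD1_c9 LD2_c9 LD3_c5))))))
theorem f642796 : Led Lsl_ft (LP (LK LD1_c4 LD2_c37 LD3_c17)) = (LP (LK LD1_c9 LD2_c9 LD3_c5)) :=
  Lgr Lrot48 (Lpr_ff (f642790 IH) (Lpn (LP (LK LD1_c9 LD2_c9 LD3_c5))))
theorem f504764 : Led Lsl_dt (LP (LK LD1_c9 LD2_c9 LD3_c5)) = (LP (LK LD1_c17 LD2_c2 LD3_c9)) :=
  Lre_d IH (LK LD1_c9 LD2_c9 LD3_c5) (LK LD1_c17 LD2_c2 LD3_c9) Lrfl Lrfl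
theorem f642798 : Led Lsl_ff (LP (LK LD1_c9 LD2_c10 LD3_c12)) = (LP (LK LD1_c17 LD2_c2 LD3_c9)) :=
  Lgr Lrot19 (Lpr_dt (K35.f428486 IH) (Lpr_ft (f642796 IH) (Lpr_dt (f504764 IH) (Lpn (LP (LK LD1_c17 LD2_c2 LD3_c9))))))
theorem f538232 : Led Lsl_bt (LP (LK LD1_c9 LD2_c10 LD3_c12)) = (LP (LK LD1_c17 LD2_c0 LD3_c33)) :=
  Lgr Lrot127 (Lpr_bf (K35.f538228 IH) (Lpn (LP (LK LD1_c17 LD2_c0 LD3_c33))))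
theorem f642802 : Led Lsl_bt (LP (LK LD1_c26 LD2_c55 LD3_c37)) = (LP (LK LD1_c17 LD2_c2 LD3_c9)) :=
  Lgr Lrot35 (Lpe (K36.f538230 IH) (Lpe (f538232 IH) (Lpr_ff (f642798 IH) (Lpn (LP (LK LD1_c17 LD2_c2 LD3_c9))))))
theorem f642826 : Led Lsl_bf (LP (LK LD1_c26 LD2_c55 LD3_c37)) = (LP (LK LD1_c17 LD2_c2 LD3_c9)) :=
  Lgr Lrot24 (Lpr_bt (f642802 IH) (Lpn (LP (LK LD1_c17 LD2_c2 LD3_c9))))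
theorem f504765 : Led Lsl_ct (LP (LK LD1_c17 LD2_c2 LD3_c9)) = (LP (LK LD1_c26 LD2_c57 LD3_c26)) :=
  Lre_c IH (LK LD1_c17 LD2_c2 LD3_c9) (LK LD1_c26 LD2_c57 LD3_c26) Lrfl Lrfl
theorem f538234 : Led Lsl_ct (LP (LK LD1_c9 LD2_c10 LD3_c12)) = (LP (LK LD1_c17 LD2_c3 LD3_c19)) :=
  Lre_c IH (LK LD1_c9 LD2_c10 LD3_c12) (LK LD1_c17 LD2_c3 LD3_c19) Lrfl Lrfl
theorem f642804 : Led Lsl_ct (LP (LK LD1_c26 LD2_c57 LD3_c26)) = (LP (LK LD1_c17 LD2_c2 LD3_c9)) :=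
  Lre_c IH (LK LD1_c26 LD2_c57 LD3_c26) (LK LD1_c17 LD2_c2 LD3_c9) Lrfl Lrfl
theorem f642805 : Led Lsl_ft (LP (LK LD1_c17 LD2_c3 LD3_c19)) = (LP (LK LD1_c26 LD2_c57 LD3_c26)) :=
  Lgr Lrot4 (Lpe (f538234 IH) (Lpr_ff (f642798 IH) (Lpe (f642804 IH) (Lpn (LP (LK LD1_c26 LD2_c57 LD3_c26))))))
theorem f642813 : Led Lsl_ff (LP (LK LD1_c17 LD2_c3 LD3_c19)) = (LP (LK LD1_c26 LD2_c57 LD3_c26)) :=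
  Lgr Lrot3 (Lpr_ft (f642805 IH) (Lpn (LP (LK LD1_c26 LD2_c57 LD3_c26))))
theorem f642815 : Led Lsl_at (LP (LK LD1_c17 LD2_c3 LD3_c19)) = (LP (LK LD1_c9 LD2_c10 LD3_c48)) :=
  Lre_a IH (LK LD1_c17 LD2_c3 LD3_c19) (LK LD1_c9 LD2_c10 LD3_c48) Lrfl Lrfl
theorem f615050 : Led Lsl_gt (LP (LK LD1_c17 LD2_c4 LD3_c3)) = (LP (LK LD1_c9 LD2_c10 LD3_c48)) :=
  Lre_g IH (LK LD1_c17 LD2_c4 LD3_c3) (LK LD1_c9 LD2_c10 LD3_c48) Lrfl Lrfl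
theorem f642819 : Led Lsl_gf (LP (LK LD1_c17 LD2_c4 LD3_c3)) = (LP (LK LD1_c26 LD2_c57 LD3_c26)) :=
  Lgr Lrot47 (Lpr_gt (f615050 IH) (Lpe (f642815 IH) (Lpr_ff (f642813 IH) (Lpn (LP (LK LD1_c26 LD2_c57 LD3_c26))))))
theorem f642969 : Led Lsl_ct (LP (LK LD1_c16 LD2_c58 LD3_c35)) = (LP (LK LD1_c17 LD2_c4 LD3_c3)) :=
  Lgr Lrot10 (Lpr_bt (K52.f25281 IH) (Lpr_gt (K52.f25280 IH) (Lpr_ct (K52.f631778 IH) (Lpr_gt (f600120 IH) (Lpr_cf (K52.f642956 IH) (Lpe (f642967 IH) (Lpr_gt (f540060 IH) (Lpr_bf (f642826 IH) (Lpr_ct (f504765 IH) (Lpe (f642819 IH) (Lpn (LP (LK LD1_c17 LD2_c4 LD3_c3)))))))))))))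
theorem f615049 : Led Lsl_ct (LP (LK LD1_c9 LD2_c10 LD3_c48)) = (LP (LK LD1_c4 LD2_c37 LD3_c34)) :=
  Lre_c IH (LK LD1_c9 LD2_c10 LD3_c48) (LK LD1_c4 LD2_c37 LD3_c34) Lrfl Lrfl
theorem f206828 : Led Lsl_ct (LP (LK LD1_c4 LD2_c37 LD3_c32)) = (LP (LK LD1_c2 LD2_c15 LD3_c59)) :=
  Lre_c IH (LK LD1_c4 LD2_c37 LD3_c32) (LK LD1_c2 LD2_c15 LD3_c59) Lrfl Lrfl
theorem f438122 : Led Lsl_gt (LP (LK LD1_c9 LD2_c10 LD3_c41)) = (LP (LK LD1_c4 LD2_c37 LD3_c32)) :=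
  Lre_g IH (LK LD1_c9 LD2_c10 LD3_c41) (LK LD1_c4 LD2_c37 LD3_c32) Lrfl Lrfl
theorem f711492 : Led Lsl_ct (LP (LK LD1_c9 LD2_c6 LD3_c31)) = (LP (LK LD1_c9 LD2_c10 LD3_c41)) :=
  Lgr Lrot152 (Lpr_gf (f711484 IH) (Lpe (f82950 IH) (Lpe (K52.f710103 IH) (Lpr_ct (f642969 IH) (Lpr_gt (f615050 IH) (Lpr_ct (f615049 IH) (Lpe (K42.f99668 IH) (Lpe (f206828 IH) (Lpe (f438122 IH) (Lpn (LP (LK LD1_c9 LD2_c10 LD3_c41))))))))))))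
theorem f206830 : Led Lsl_ct (LP (LK LD1_c2 LD2_c15 LD3_c59)) = (LP (LK LD1_c4 LD2_c37 LD3_c32)) :=
  Lre_c IH (LK LD1_c2 LD2_c15 LD3_c59) (LK LD1_c4 LD2_c37 LD3_c32) Lrfl Lrfl
theorem f494389 : Led Lsl_gt (LP (LK LD1_c4 LD2_c37 LD3_c24)) = (LP (LK LD1_c9 LD2_c10 LD3_c24)) :=
  Lre_g IH (LK LD1_c4 LD2_c37 LD3_c24) (LK LD1_c9 LD2_c10 LD3_c24) Lrfl Lrfl
theorem f711495 : Led Lsl_bf (LP (LK LD1_c9 LD2_c10 LD3_c24)) = (LP (LK LD1_c11 LD2_c40 LD3_c47)) :=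
  Lgr Lrot34 (Lpe (f494389 IH) (Lpe (f599518 IH) (Lpr_ct (f206830 IH) (Lpe (f438122 IH) (Lpe (f711492 IH) (Lpr_gf (f711484 IH) (Lpe (K45.f82945 IH) (Lpr_ct (K52.f82944 IH) (Lpe (f642358 IH) (Lpr_cf (f711467 IH) (Lpn (LP (LK LD1_c11 LD2_c40 LD3_c47)))))))))))))
theorem f711499 : Led Lsl_bt (LP (LK LD1_c9 LD2_c10 LD3_c24)) = (LP (LK LD1_c11 LD2_c40 LD3_c47)) :=
  Lgr Lrot127 (Lpr_bf (f711495 IH) (Lpn (LP (LK LD1_c11 LD2_c40 LD3_c47))))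
theorem f747562 : (LP (LK LD1_c9 LD2_c10 LD3_c24)) = v16284 :=
  (Llr Lrot61 (Lpr_bt (f711499 IH) (Lpr_ft (f747556 IH) (Lpr_bt (f744993 IH) (Lpr_ft (f747528 IH) (Lpn v16284)))))).symm
theorem f151967 : Led Lsl_ct (LP (LK LD1_c5 LD2_c52 LD3_c5)) = (LP (LK LD1_c11 LD2_c31 LD3_c6)) :=
  Lre_c IH (LK LD1_c5 LD2_c52 LD3_c5) (LK LD1_c11 LD2_c31 LD3_c6) Lrfl Lrfl
theorem f151968 : Led Lsl_gt (LP (LK LD1_c5 LD2_c52 LD3_c19)) = (LP (LK LD1_c11 LD2_c31 LD3_c6)) :=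
  Lre_g IH (LK LD1_c5 LD2_c52 LD3_c19) (LK LD1_c11 LD2_c31 LD3_c6) Lrfl Lrfl
theorem f711501 : Led Lsl_ct (LP (LK LD1_c9 LD2_c10 LD3_c24)) = (LP (LK LD1_c5 LD2_c52 LD3_c19)) :=
  Lgr Lrot64 (Lpr_bt (f711499 IH) (Lpe (f426025 IH) (Lpe (K24.f426009 IH) (Lpe (f426782 IH) (Lpe (K52.f711476 IH) (Lpe (K52.f151966 IH) (Lpe (K52.f151963 IH) (Lpr_bf (K7.f151954 IH) (Lpr_ct (f151967 IH) (Lpe (f151968 IH) (Lpn (LP (LK LD1_c5 LD2_c52 LD3_c19)))))))))))))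
def v16079 : LQ := Led Lsl_ft (LP (LK LD1_c5 LD2_c52 LD3_c19))
theorem f745944 : Led Lsl_ft (LP (LK LD1_c5 LD2_c52 LD3_c19)) = v16079 :=
  Lrfl
theorem f747569 : v16048 = v16079 :=
  (Llr Lrot108 (Lpe (f745022 IH) (Lpr_ft (f747528 IH) (Lpq (f747562 IH) (Lpr_ct (f711501 IH) (Lpr_ft (f745944 IH) (Lpn v16079))))))).symm
theorem f745946 : Led Lsl_ff (LP (LK LD1_c5 LD2_c52 LD3_c19)) = v16079 :=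
  Lgr Lrot3 (Lpr_ft (f745944 IH) (Lpn v16079))
def v16075 : LQ := Led Lsl_at (LP (LK LD1_c5 LD2_c52 LD3_c19))
theorem f745934 : Led Lsl_at (LP (LK LD1_c5 LD2_c52 LD3_c19)) = v16075 :=
  Lrfl
def v16047 : LQ := Led Lsl_gt (LP (LK LD1_c5 LD2_c52 LD3_c2))
theorem f744980 : Led Lsl_gt (LP (LK LD1_c5 LD2_c52 LD3_c2)) = v16047 :=
  Lrfl
theorem f747570 : v16075 = v16047 :=
  (Llr Lrot26 (Lpe (f745934 IH) (Lpr_ff (f745946 IH) (Lpq (f747569 IH) (Lpe (f744986 IH) (Lpr_gt (f744980 IH) (Lpn v16047))))))).symm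
theorem f745935 : Led Lsl_af (LP (LK LD1_c5 LD2_c52 LD3_c19)) = v16075 :=
  Lgr Lrot0 (Lpr_at (f745934 IH) (Lpn v16075))
theorem f22740 : Led Lsl_gt (LP (LK LD1_c2 LD2_c52 LD3_c29)) = (LP (LK LD1_c5 LD2_c52 LD3_c19)) :=
  Lre_g IH (LK LD1_c2 LD2_c52 LD3_c29) (LK LD1_c5 LD2_c52 LD3_c19) Lrfl Lrfl
theorem f745936 : Led Lsl_ft (LP (LK LD1_c5 LD2_c52 LD3_c20)) = v16075 :=
  Lgr Lrot2 (Lpr_gt (f22744 IH) (Lpr_gt (f22740 IH) (Lpr_af (f745935 IH) (Lpn v16075))))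
theorem f206171 : Led Lsl_ft (LP (LK LD1_c5 LD2_c52 LD3_c2)) = (LP (LK LD1_c11 LD2_c31 LD3_c6)) :=
  Lre_f IH (LK LD1_c5 LD2_c52 LD3_c2) (LK LD1_c11 LD2_c31 LD3_c6) Lrfl Lrfl
theorem f22718 : Led Lsl_at (LP (LK LD1_c11 LD2_c31 LD3_c6)) = (LP (LK LD1_c5 LD2_c52 LD3_c22)) :=
  Lre_a IH (LK LD1_c11 LD2_c31 LD3_c6) (LK LD1_c5 LD2_c52 LD3_c22) Lrfl Lrfl
theorem f744981 : Led Lsl_gf (LP (LK LD1_c5 LD2_c52 LD3_c22)) = v16047 :=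
  Lgr Lrot76 (Lpe (f22718 IH) (Lpe (f206171 IH) (Lpr_gt (f744980 IH) (Lpn v16047))))
theorem f22551 : Led Lsl_ct (LP (LK LD1_c2 LD2_c52 LD3_c33)) = (LP (LK LD1_c5 LD2_c52 LD3_c22)) :=
  Lre_c IH (LK LD1_c2 LD2_c52 LD3_c33) (LK LD1_c5 LD2_c52 LD3_c22) Lrfl Lrfl
theorem f744982 : Led Lsl_ct (LP (LK LD1_c5 LD2_c56 LD3_c49)) = v16047 :=
  Lgr Lrot64 (Lpr_bt (f82932 IH) (Lpe (K51.f82899 IH) (Lpe (K52.f72028 IH) (Lpr_ct (K4.f82893 IH) (Lpe (K11.f82680 IH) (Lpe (K24.f82682 IH) (Lpr_gf (K24.f436239 IH) (Lpe (K7.f22563 IH) (Lpr_ct (f22551 IH) (Lpr_gf (f744981 IH) (Lpn v16047)))))))))))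
theorem f744983 : Led Lsl_cf (LP (LK LD1_c5 LD2_c56 LD3_c49)) = v16047 :=
  Lgr Lrot11 (Lpr_ct (f744982 IH) (Lpn v16047))
theorem f747571 : (LP (LK LD1_c9 LD2_c10 LD3_c25)) = v16286 :=
  (Llr Lrot108 (Lpe (f616352 IH) (Lpr_ft (f745936 IH) (Lpqs (f747570 IH) (Lpe (f744983 IH) (Lpr_ft (f747540 IH) (Lpn v16286))))))).symm
theorem f747576 : v4975 = (LP (LK LD1_c5 LD2_c55 LD3_c55)) :=
  Lefun (Lecon (Lfl_bf (f747542 IH)) (f747571 IH).symm) (Lfl_bf (f616371 IH))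
theorem f747577 : (LP (LK LD1_c2 LD2_c54 LD3_c44)) = v16262 :=
  Lefun (Lecon (Lfl_af (f641139 IH)) (f747576 IH)) (f747398 IH)
def v16260 : LQ := Led Lsl_bt (LP (LK LD1_c5 LD2_c55 LD3_c54))
theorem f747389 : Led Lsl_bt (LP (LK LD1_c5 LD2_c55 LD3_c54)) = v16260 :=
  Lrfl
theorem f747588 : Led Lsl_ff (LP (LK LD1_c5 LD2_c56 LD3_c53)) = v16260 :=
  Lgr Lrot25 (Lpr_bt (K52.f82943 IH) (Lpqs (f747577 IH) (Lpe (f747397 IH) (Lpr_bt (f747389 IH) (Lpn v16260)))))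
theorem f747548 : Led Lsl_at (LP (LK LD1_c5 LD2_c56 LD3_c53)) = (LP (LK LD1_c5 LD2_c58 LD3_c54)) :=
  Lgr Lrot100 (Lpr_af (f747546 IH) (Lpn (LP (LK LD1_c5 LD2_c58 LD3_c54))))
theorem f426001 : Led Lsl_gt (LP (LK LD1_c5 LD2_c58 LD3_c53)) = (LP (LK LD1_c11 LD2_c40 LD3_c46)) :=
  Lre_g IH (LK LD1_c5 LD2_c58 LD3_c53) (LK LD1_c11 LD2_c40 LD3_c46) Lrfl Lrfl
theorem f747826 : (LP (LK LD1_c5 LD2_c58 LD3_c53)) = v16260 :=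
  (Llr Lrot47 (Lpr_gt (f426001 IH) (Lpr_gt (K52.f425998 IH) (Lpe (f747548 IH) (Lpr_ff (f747588 IH) (Lpn v16260)))))).symm
theorem f117008 : Led Lsl_ct (LP (LK LD1_c5 LD2_c55 LD3_c54)) = (LP (LK LD1_c11 LD2_c36 LD3_c58)) :=
  Lre_c IH (LK LD1_c5 LD2_c55 LD3_c54) (LK LD1_c11 LD2_c36 LD3_c58) Lrfl Lrfl
theorem f747862 : Led Lsl_gf (LP (LK LD1_c11 LD2_c36 LD3_c58)) = (LP (LK LD1_c12 LD2_c23 LD3_c17)) :=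
  Lgr Lrot129 (Lpe (f117008 IH) (Lpr_bt (f747389 IH) (Lpq (f747826 IH) (Lpr_gt (f426001 IH) (Lpe (K24.f425983 IH) (Lpe (K52.f426778 IH) (Lpr_gt (K52.f426827 IH) (Lpr_cf (K48.f645089 IH) (Lpe (K52.f443022 IH) (Lpr_gt (K52.f711239 IH) (Lpr_ct (K52.f112501 IH) (Lpn (LP (LK LD1_c12 LD2_c23 LD3_c17))))))))))))))
theorem f83089 : Led Lsl_ct (LP (LK LD1_c5 LD2_c56 LD3_c54)) = (LP (LK LD1_c2 LD2_c54 LD3_c44)) :=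
  Lre_c IH (LK LD1_c5 LD2_c56 LD3_c54) (LK LD1_c2 LD2_c54 LD3_c44) Lrfl Lrfl
theorem f747589 : Led Lsl_ff (LP (LK LD1_c5 LD2_c56 LD3_c54)) = (LP (LK LD1_c11 LD2_c36 LD3_c58)) :=
  Lgr Lrot23 (Lpr_ct (f83089 IH) (Lpqs (f747577 IH) (Lpe (f747397 IH) (Lpr_ct (f117008 IH) (Lpn (LP (LK LD1_c11 LD2_c36 LD3_c58)))))))
theorem f747789 : Led Lsl_ft (LP (LK LD1_c5 LD2_c56 LD3_c54)) = (LP (LK LD1_c11 LD2_c36 LD3_c58)) :=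
  Lgr Lrot48 (Lpr_ff (f747589 IH) (Lpn (LP (LK LD1_c11 LD2_c36 LD3_c58))))
theorem f747794 : Led Lsl_af (LP (LK LD1_c5 LD2_c56 LD3_c50)) = (LP (LK LD1_c11 LD2_c36 LD3_c58)) :=
  Lgr Lrot31 (Lpe (f745984 IH) (Lpr_gf (K52.f710971 IH) (Lpr_ft (f747789 IH) (Lpn (LP (LK LD1_c11 LD2_c36 LD3_c58))))))
theorem f747796 : Led Lsl_at (LP (LK LD1_c5 LD2_c56 LD3_c50)) = (LP (LK LD1_c11 LD2_c36 LD3_c58)) :=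
  Lgr Lrot100 (Lpr_af (f747794 IH) (Lpn (LP (LK LD1_c11 LD2_c36 LD3_c58))))
theorem f747864 : Led Lsl_ff (LP (LK LD1_c5 LD2_c56 LD3_c50)) = (LP (LK LD1_c11 LD2_c36 LD3_c60)) :=
  Lgr Lrot52 (Lpr_at (f747796 IH) (Lpr_gf (f747862 IH) (Lpe (K52.f711176 IH) (Lpn (LP (LK LD1_c11 LD2_c36 LD3_c60))))))
theorem f747870 : Led Lsl_ft (LP (LK LD1_c5 LD2_c56 LD3_c50)) = (LP (LK LD1_c11 LD2_c36 LD3_c60)) :=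
  Lgr Lrot48 (Lpr_ff (f747864 IH) (Lpn (LP (LK LD1_c11 LD2_c36 LD3_c60))))
theorem f82974 : Led Lsl_dt (LP (LK LD1_c11 LD2_c38 LD3_c57)) = (LP (LK LD1_c5 LD2_c56 LD3_c50)) :=
  Lre_d IH (LK LD1_c11 LD2_c38 LD3_c57) (LK LD1_c5 LD2_c56 LD3_c50) Lrfl Lrfl
theorem f616382 : Led Lsl_dt (LP (LK LD1_c11 LD2_c36 LD3_c60)) = (LP (LK LD1_c20 LD2_c35 LD3_c22)) :=
  Lre_d IH (LK LD1_c11 LD2_c36 LD3_c60) (LK LD1_c20 LD2_c35 LD3_c22) Lrfl Lrfl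
theorem f747874 : Led Lsl_ff (LP (LK LD1_c11 LD2_c38 LD3_c57)) = (LP (LK LD1_c20 LD2_c35 LD3_c22)) :=
  Lgr Lrot19 (Lpr_dt (f82974 IH) (Lpr_ft (f747870 IH) (Lpr_dt (f616382 IH) (Lpn (LP (LK LD1_c20 LD2_c35 LD3_c22))))))
theorem f82968 : Led Lsl_dt (LP (LK LD1_c5 LD2_c56 LD3_c50)) = (LP (LK LD1_c11 LD2_c38 LD3_c57)) :=
  Lre_d IH (LK LD1_c5 LD2_c56 LD3_c50) (LK LD1_c11 LD2_c38 LD3_c57) Lrfl Lrfl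
theorem f747387 : Led Lsl_dt (LP (LK LD1_c20 LD2_c35 LD3_c19)) = (LP (LK LD1_c11 LD2_c36 LD3_c58)) :=
  Lre_d IH (LK LD1_c20 LD2_c35 LD3_c19) (LK LD1_c11 LD2_c36 LD3_c58) Lrfl Lrfl
theorem f747798 : Led Lsl_at (LP (LK LD1_c11 LD2_c38 LD3_c57)) = (LP (LK LD1_c20 LD2_c35 LD3_c19)) :=
  Lgr Lrot51 (Lpe (f82968 IH) (Lpr_af (f747794 IH) (Lpe (f747387 IH) (Lpn (LP (LK LD1_c20 LD2_c35 LD3_c19))))))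
theorem f641143 : Led Lsl_dt (LP (LK LD1_c11 LD2_c39 LD3_c5)) = (LP (LK LD1_c5 LD2_c56 LD3_c54)) :=
  Lre_d IH (LK LD1_c11 LD2_c39 LD3_c5) (LK LD1_c5 LD2_c56 LD3_c54) Lrfl Lrfl
theorem f747394 : Led Lsl_dt (LP (LK LD1_c11 LD2_c36 LD3_c58)) = (LP (LK LD1_c20 LD2_c35 LD3_c19)) :=
  Lre_d IH (LK LD1_c11 LD2_c36 LD3_c58) (LK LD1_c20 LD2_c35 LD3_c19) Lrfl Lrfl
theorem f747791 : Led Lsl_ff (LP (LK LD1_c11 LD2_c39 LD3_c5)) = (LP (LK LD1_c20 LD2_c35 LD3_c19)) :=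
  Lgr Lrot19 (Lpr_dt (f641143 IH) (Lpr_ft (f747789 IH) (Lpr_dt (f747394 IH) (Lpn (LP (LK LD1_c20 LD2_c35 LD3_c19))))))
theorem f747876 : Led Lsl_at (LP (LK LD1_c11 LD2_c39 LD3_c5)) = (LP (LK LD1_c20 LD2_c35 LD3_c22)) :=
  Lgr Lrot66 (Lpr_ff (f747791 IH) (Lpe (f747798 IH) (Lpr_ff (f747874 IH) (Lpn (LP (LK LD1_c20 LD2_c35 LD3_c22))))))
theorem f747878 : Led Lsl_af (LP (LK LD1_c11 LD2_c39 LD3_c5)) = (LP (LK LD1_c20 LD2_c35 LD3_c22)) :=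
  Lgr Lrot0 (Lpr_at (f747876 IH) (Lpn (LP (LK LD1_c20 LD2_c35 LD3_c22))))
theorem f616384 : Led Lsl_dt (LP (LK LD1_c20 LD2_c35 LD3_c22)) = (LP (LK LD1_c11 LD2_c36 LD3_c60)) :=
  Lre_d IH (LK LD1_c20 LD2_c35 LD3_c22) (LK LD1_c11 LD2_c36 LD3_c60) Lrfl Lrfl
theorem f747868 : Led Lsl_ft (LP (LK LD1_c11 LD2_c38 LD3_c57)) = (LP (LK LD1_c20 LD2_c35 LD3_c22)) :=
  Lgr Lrot54 (Lpe (f82968 IH) (Lpr_ff (f747864 IH) (Lpe (f616384 IH) (Lpn (LP (LK LD1_c20 LD2_c35 LD3_c22))))))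
theorem f82969 : Led Lsl_gt (LP (LK LD1_c11 LD2_c38 LD3_c57)) = (LP (LK LD1_c20 LD2_c38 LD3_c12)) :=
  Lre_g IH (LK LD1_c11 LD2_c38 LD3_c57) (LK LD1_c20 LD2_c38 LD3_c12) Lrfl Lrfl
theorem f747880 : Led Lsl_gf (LP (LK LD1_c11 LD2_c39 LD3_c5)) = (LP (LK LD1_c20 LD2_c38 LD3_c12)) :=
  Lgr Lrot76 (Lpr_af (f747878 IH) (Lpe (f747868 IH) (Lpr_gt (f82969 IH) (Lpn (LP (LK LD1_c20 LD2_c38 LD3_c12))))))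
theorem f574722 : Led Lsl_dt (LP (LK LD1_c5 LD2_c56 LD3_c55)) = (LP (LK LD1_c2 LD2_c54 LD3_c44)) :=
  Lre_d IH (LK LD1_c5 LD2_c56 LD3_c55) (LK LD1_c2 LD2_c54 LD3_c44) Lrfl Lrfl
def v13077 : LQ := Led Lsl_et (LP (LK LD1_c4 LD2_c38 LD3_c61))
theorem f700971 : Led Lsl_et (LP (LK LD1_c4 LD2_c38 LD3_c61)) = v13077 :=
  Lrfl
theorem f699847 : Led Lsl_et K52.v4965 = K51.v12954 :=
  Lgr Lrot69 (Lpe (K52.f641092 IH) (Lpe (K52.f161077 IH) (Lpr_ff (K51.f163138 IH) (Lpe (K51.f161445 IH) (Lpr_ff (K51.f699843 IH) (Lpn K51.v12954))))))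
theorem f713948 : K51.v12954 = v13077 :=
  Lefun (Lecon (f699847 IH) (K52.f713935 IH)) (f700971 IH)
theorem f641137 : Led Lsl_et (LP (LK LD1_c2 LD2_c54 LD3_c44)) = (LP (LK LD1_c5 LD2_c56 LD3_c56)) :=
  Lre_e IH (LK LD1_c2 LD2_c54 LD3_c44) (LK LD1_c5 LD2_c56 LD3_c56) Lrfl Lrfl
theorem f442460 : Led Lsl_dt (LP (LK LD1_c2 LD2_c54 LD3_c44)) = (LP (LK LD1_c5 LD2_c56 LD3_c55)) :=
  Lre_d IH (LK LD1_c2 LD2_c54 LD3_c44) (LK LD1_c5 LD2_c56 LD3_c55) Lrfl Lrfl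
theorem f714604 : Led Lsl_gt (LP (LK LD1_c11 LD2_c38 LD3_c59)) = (LP (LK LD1_c5 LD2_c56 LD3_c55)) :=
  Lgr Lrot112 (Lpe (K51.f707346 IH) (Lpr_et (K51.f510164 IH) (Lpe (K51.f510303 IH) (Lpq (K51.f707329 IH) (Lpqs (f713948 IH) (Lpe (f700971 IH) (Lpq (K52.f713935 IH) (Lpr_dt (K52.f707058 IH) (Lpe (K51.f140285 IH) (Lpe (K51.f140297 IH) (Lpr_gf (f714583 IH) (Lpe (f641137 IH) (Lpr_dt (f442460 IH) (Lpn (LP (LK LD1_c5 LD2_c56 LD3_c55))))))))))))))))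
theorem f510178 : Led Lsl_at (LP (LK LD1_c4 LD2_c49 LD3_c25)) = (LP (LK LD1_c9 LD2_c31 LD3_c31)) :=
  Lre_a IH (LK LD1_c4 LD2_c49 LD3_c25) (LK LD1_c9 LD2_c31 LD3_c31) Lrfl Lrfl
theorem f707312 : Led Lsl_gf (LP (LK LD1_c9 LD2_c31 LD3_c31)) = (LP (LK LD1_c6 LD2_c2 LD3_c29)) :=
  Lgr Lrot76 (Lpe (f510178 IH) (Lpe (f510140 IH) (Lpr_gt (f707310 IH) (Lpn (LP (LK LD1_c6 LD2_c2 LD3_c29))))))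
theorem f163002 : Led Lsl_et (LP (LK LD1_c2 LD2_c54 LD3_c12)) = (LP (LK LD1_c5 LD2_c55 LD3_c44)) :=
  Lre_e IH (LK LD1_c2 LD2_c54 LD3_c12) (LK LD1_c5 LD2_c55 LD3_c44) Lrfl Lrfl
theorem f425753 : Led Lsl_et (LP (LK LD1_c20 LD2_c34 LD3_c57)) = (LP (LK LD1_c11 LD2_c36 LD3_c41)) :=
  Lre_e IH (LK LD1_c20 LD2_c34 LD3_c57) (LK LD1_c11 LD2_c36 LD3_c41) Lrfl Lrfl
theorem f745989 : Led Lsl_dt (LP (LK LD1_c20 LD2_c34 LD3_c57)) = (LP (LK LD1_c20 LD2_c38 LD3_c12)) :=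
  Lgr Lrot56 (Lpr_et (f425753 IH) (Lpr_gt (K54.f81988 IH) (Lpe (f163002 IH) (Lpr_dt (K41.f81926 IH) (Lpr_gt (K41.f161845 IH) (Lpr_df (K8.f160893 IH) (Lpr_et (K52.f160895 IH) (Lpr_gt (f745984 IH) (Lpr_dt (f82968 IH) (Lpr_gt (f82969 IH) (Lpn (LP (LK LD1_c20 LD2_c38 LD3_c12)))))))))))))
theorem f747882 : Led Lsl_gt (LP (LK LD1_c11 LD2_c49 LD3_c16)) = (LP (LK LD1_c20 LD2_c34 LD3_c57)) :=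
  Lgr Lrot94 (Lpe (f117004 IH) (Lpe (f707312 IH) (Lpr_dt (K51.f707346 IH) (Lpr_gt (f714604 IH) (Lpr_dt (f574722 IH) (Lpe (f83089 IH) (Lpe (f641143 IH) (Lpr_gf (f747880 IH) (Lpe (f745989 IH) (Lpn (LP (LK LD1_c20 LD2_c34 LD3_c57))))))))))))
theorem f710646 : Led Lsl_et (LP (LK LD1_c11 LD2_c36 LD3_c41)) = (LP (LK LD1_c20 LD2_c34 LD3_c57)) :=
  Lre_e IH (LK LD1_c11 LD2_c36 LD3_c41) (LK LD1_c20 LD2_c34 LD3_c57) Lrfl Lrfl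
theorem f710647 : Led Lsl_et (LP (LK LD1_c13 LD2_c2 LD3_c16)) = (LP (LK LD1_c6 LD2_c51 LD3_c10)) :=
  Lre_e IH (LK LD1_c13 LD2_c2 LD3_c16) (LK LD1_c6 LD2_c51 LD3_c10) Lrfl Lrfl
theorem f710648 : Led Lsl_ct (LP (LK LD1_c20 LD2_c34 LD3_c57)) = (LP (LK LD1_c13 LD2_c2 LD3_c16)) :=
  Lgr Lrot15 (Lpe (f710646 IH) (Lpr_cf (K54.f710637 IH) (Lpe (f710647 IH) (Lpn (LP (LK LD1_c13 LD2_c2 LD3_c16))))))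
theorem f741648 : Led Lsl_et (LP (LK LD1_c13 LD2_c2 LD3_c21)) = (LP (LK LD1_c6 LD2_c51 LD3_c12)) :=
  Lre_e IH (LK LD1_c13 LD2_c2 LD3_c21) (LK LD1_c6 LD2_c51 LD3_c12) Lrfl Lrfl
theorem f654361 : Led Lsl_et (LP (LK LD1_c3 LD2_c24 LD3_c5)) = (LP (LK LD1_c6 LD2_c51 LD3_c13)) :=
  Lre_e IH (LK LD1_c3 LD2_c24 LD3_c5) (LK LD1_c6 LD2_c51 LD3_c13) Lrfl Lrfl
theorem f741649 : Led Lsl_et (LP (LK LD1_c12 LD2_c30 LD3_c6)) = (LP (LK LD1_c21 LD2_c36 LD3_c42)) :=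
  Lre_e IH (LK LD1_c12 LD2_c30 LD3_c6) (LK LD1_c21 LD2_c36 LD3_c42) Lrfl Lrfl
theorem f741650 : Led Lsl_dt (LP (LK LD1_c6 LD2_c51 LD3_c13)) = (LP (LK LD1_c12 LD2_c30 LD3_c6)) :=
  Lgr Lrot77 (Lpe (f654361 IH) (Lpe (f101705 IH) (Lpe (f741648 IH) (Lpr_df (f741643 IH) (Lpe (f741649 IH) (Lpn (LP (LK LD1_c12 LD2_c30 LD3_c6))))))))
theorem f741655 : Led Lsl_df (LP (LK LD1_c6 LD2_c51 LD3_c13)) = (LP (LK LD1_c12 LD2_c30 LD3_c6)) :=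
  Lgr Lrot38 (Lpr_dt (f741650 IH) (Lpn (LP (LK LD1_c12 LD2_c30 LD3_c6))))
theorem f710663 : Led Lsl_bt (LP (LK LD1_c6 LD2_c51 LD3_c13)) = (LP (LK LD1_c13 LD2_c2 LD3_c16)) :=
  Lre_b IH (LK LD1_c6 LD2_c51 LD3_c13) (LK LD1_c13 LD2_c2 LD3_c16) Lrfl Lrfl
theorem f649294 : Led Lsl_bt (LP (LK LD1_c21 LD2_c36 LD3_c41)) = (LP (LK LD1_c12 LD2_c30 LD3_c6)) :=
  Lre_b IH (LK LD1_c21 LD2_c36 LD3_c41) (LK LD1_c12 LD2_c30 LD3_c6) Lrfl Lrfl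
theorem f741661 : Led Lsl_dt (LP (LK LD1_c13 LD2_c2 LD3_c16)) = (LP (LK LD1_c21 LD2_c36 LD3_c41)) :=
  Lgr Lrot79 (Lpe (f710663 IH) (Lpr_df (f741655 IH) (Lpe (f649294 IH) (Lpn (LP (LK LD1_c21 LD2_c36 LD3_c41))))))
theorem f82901 : Led Lsl_ct (LP (LK LD1_c5 LD2_c56 LD3_c51)) = (LP (LK LD1_c11 LD2_c38 LD3_c60)) :=
  Lre_c IH (LK LD1_c5 LD2_c56 LD3_c51) (LK LD1_c11 LD2_c38 LD3_c60) Lrfl Lrfl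
theorem f707362 : Led Lsl_gt (LP (LK LD1_c11 LD2_c38 LD3_c60)) = (LP (LK LD1_c20 LD2_c38 LD3_c20)) :=
  Lre_g IH (LK LD1_c11 LD2_c38 LD3_c60) (LK LD1_c20 LD2_c38 LD3_c20) Lrfl Lrfl
theorem f748092 : Led Lsl_cf (LP (LK LD1_c21 LD2_c36 LD3_c41)) = (LP (LK LD1_c20 LD2_c38 LD3_c20)) :=
  Lgr Lrot99 (Lpe (f741661 IH) (Lpe (f710648 IH) (Lpe (f747882 IH) (Lpe (f117004 IH) (Lpe (f707310 IH) (Lpr_df (f748091 IH) (Lpe (f748084 IH) (Lpr_ct (f82901 IH) (Lpr_gt (f707362 IH) (Lpn (LP (LK LD1_c20 LD2_c38 LD3_c20))))))))))))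
theorem f748093 : Led Lsl_ct (LP (LK LD1_c20 LD2_c38 LD3_c20)) = (LP (LK LD1_c21 LD2_c36 LD3_c41)) :=
  Leop (Lpr_cf (f748092 IH) (Lpn (LP (LK LD1_c20 LD2_c38 LD3_c20))))
theorem seed_999 : LEOK LG_c (LK LD1_c20 LD2_c38 LD3_c20) :=
  Leoe_c (LK LD1_c20 LD2_c38 LD3_c20) (f748093 IH)
theorem f116994 : Led Lsl_df (LP (LK LD1_c6 LD2_c2 LD3_c29)) = (LP (LK LD1_c11 LD2_c37 LD3_c1)) :=
  Lgr Lrot38 (Lpr_dt (K45.f116986 IH) (Lpn (LP (LK LD1_c11 LD2_c37 LD3_c1))))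
def v6357 : LQ := Led Lsl_bt (LP (LK LD1_c3 LD2_c20 LD3_c48))
theorem f652973 : Led Lsl_bt (LP (LK LD1_c3 LD2_c20 LD3_c48)) = v6357 :=
  Lrfl
theorem f614598 : Led Lsl_bf (LP (LK LD1_c6 LD2_c2 LD3_c29)) = (LP (LK LD1_c9 LD2_c13 LD3_c39)) :=
  Lgr Lrot96 (Lpr_et (K45.f69219 IH) (Lpr_bt (K42.f614591 IH) (Lpr_et (K35.f508155 IH) (Lpn (LP (LK LD1_c9 LD2_c13 LD3_c39))))))
theorem f508177 : Led Lsl_dt (LP (LK LD1_c6 LD2_c3 LD3_c39)) = (LP (LK LD1_c9 LD2_c13 LD3_c39)) :=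
  Lgr Lrot42 (Lpr_df (K35.f508172 IH) (Lpn (LP (LK LD1_c9 LD2_c13 LD3_c39))))
theorem f614602 : Led Lsl_bt (LP (LK LD1_c11 LD2_c37 LD3_c1)) = (LP (LK LD1_c6 LD2_c3 LD3_c39)) :=
  Lgr Lrot95 (Lpe (K45.f116986 IH) (Lpr_bf (f614598 IH) (Lpe (f508177 IH) (Lpn (LP (LK LD1_c6 LD2_c3 LD3_c39))))))
theorem f652975 : Led Lsl_ef (LP (LK LD1_c11 LD2_c37 LD3_c1)) = v6357 :=
  Lgr Lrot29 (Lpr_bt (f614602 IH) (Lpr_et (K35.f416734 IH) (Lpr_bt (f652973 IH) (Lpn v6357))))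
theorem f652978 : Led Lsl_et (LP (LK LD1_c11 LD2_c37 LD3_c1)) = v6357 :=
  Lgr Lrot87 (Lpr_ef (f652975 IH) (Lpn v6357))
def v16261 : LQ := Led Lsl_dt (LP (LK LD1_c5 LD2_c55 LD3_c54))
theorem f747391 : Led Lsl_dt (LP (LK LD1_c5 LD2_c55 LD3_c54)) = v16261 :=
  Lrfl
theorem f747591 : Led Lsl_ff (LP (LK LD1_c5 LD2_c56 LD3_c55)) = v16261 :=
  Lgr Lrot19 (Lpr_dt (f574722 IH) (Lpqs (f747577 IH) (Lpe (f747397 IH) (Lpr_dt (f747391 IH) (Lpn v16261)))))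
theorem f72035 : Led Lsl_ct (LP (LK LD1_c2 LD2_c54 LD3_c18)) = (LP (LK LD1_c5 LD2_c55 LD3_c53)) :=
  Lre_c IH (LK LD1_c2 LD2_c54 LD3_c18) (LK LD1_c5 LD2_c55 LD3_c53) Lrfl Lrfl
theorem f72036 : Led Lsl_gt (LP (LK LD1_c5 LD2_c55 LD3_c53)) = (LP (LK LD1_c11 LD2_c36 LD3_c56)) :=
  Lre_g IH (LK LD1_c5 LD2_c55 LD3_c53) (LK LD1_c11 LD2_c36 LD3_c56) Lrfl Lrfl
theorem f137727 : Led Lsl_dt (LP (LK LD1_c11 LD2_c36 LD3_c56)) = (LP (LK LD1_c20 LD2_c35 LD3_c15)) :=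
  Lre_d IH (LK LD1_c11 LD2_c36 LD3_c56) (LK LD1_c20 LD2_c35 LD3_c15) Lrfl Lrfl
theorem f83063 : Led Lsl_et (LP (LK LD1_c2 LD2_c54 LD3_c17)) = (LP (LK LD1_c5 LD2_c55 LD3_c53)) :=
  Lre_e IH (LK LD1_c2 LD2_c54 LD3_c17) (LK LD1_c5 LD2_c55 LD3_c53) Lrfl Lrfl
theorem f77071 : Led Lsl_et (LP (LK LD1_c9 LD2_c31 LD3_c34)) = (LP (LK LD1_c4 LD2_c49 LD3_c23)) :=
  Lre_e IH (LK LD1_c9 LD2_c31 LD3_c34) (LK LD1_c4 LD2_c49 LD3_c23) Lrfl Lrfl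
theorem f705631 : Led Lsl_dt (LP (LK LD1_c9 LD2_c31 LD3_c34)) = (LP (LK LD1_c17 LD2_c33 LD3_c30)) :=
  Lre_d IH (LK LD1_c9 LD2_c31 LD3_c34) (LK LD1_c17 LD2_c33 LD3_c30) Lrfl Lrfl
theorem f709997 : Led Lsl_gt (LP (LK LD1_c20 LD2_c35 LD3_c15)) = (LP (LK LD1_c17 LD2_c33 LD3_c30)) :=
  Lgr Lrot139 (Lpe (f137727 IH) (Lpe (f72036 IH) (Lpe (f83063 IH) (Lpr_dt (K52.f83017 IH) (Lpe (K8.f137719 IH) (Lpe (K7.f149712 IH) (Lpr_et (K51.f149707 IH) (Lpq (K52.f709994 IH) (Lpe (K52.f705627 IH) (Lpe (f77071 IH) (Lpr_dt (f705631 IH) (Lpn (LP (LK LD1_c17 LD2_c33 LD3_c30))))))))))))))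
theorem f452319 : Led Lsl_dt (LP (LK LD1_c17 LD2_c33 LD3_c30)) = (LP (LK LD1_c9 LD2_c31 LD3_c34)) :=
  Lre_d IH (LK LD1_c17 LD2_c33 LD3_c30) (LK LD1_c9 LD2_c31 LD3_c34) Lrfl Lrfl
theorem f446013 : Led Lsl_ct (LP (LK LD1_c9 LD2_c31 LD3_c34)) = (LP (LK LD1_c4 LD2_c49 LD3_c25)) :=
  Lre_c IH (LK LD1_c9 LD2_c31 LD3_c34) (LK LD1_c4 LD2_c49 LD3_c25) Lrfl Lrfl
theorem f705643 : Led Lsl_df (LP (LK LD1_c4 LD2_c49 LD3_c25)) = v13877 :=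
  Lgr Lrot38 (Lpr_dt (f705640 IH) (Lpn v13877))
theorem f747393 : Led Lsl_gf v13877 = v16261 :=
  Lgr Lrot143 (Lpe (f705643 IH) (Lpe (f446013 IH) (Lpe (f452319 IH) (Lpe (f709997 IH) (Lpe (f137727 IH) (Lpe (f72036 IH) (Lpe (f72035 IH) (Lpr_gt (f161437 IH) (Lpr_dt (f747391 IH) (Lpn v16261))))))))))
theorem f714272 : Led Lsl_cf (LP (LK LD1_c27 LD2_c44 LD3_c12)) = (LP (LK LD1_c20 LD2_c20 LD3_c20)) :=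
  Lgr Lrot11 (Lpr_ct (K52.f714267 IH) (Lpn (LP (LK LD1_c20 LD2_c20 LD3_c20))))
theorem f140907 : Led Lsl_dt (LP (LK LD1_c18 LD2_c2 LD3_c9)) = (LP (LK LD1_c27 LD2_c44 LD3_c12)) :=
  Lre_d IH (LK LD1_c18 LD2_c2 LD3_c9) (LK LD1_c27 LD2_c44 LD3_c12) Lrfl Lrfl
theorem f632026 : Led Lsl_gt (LP (LK LD1_c4 LD2_c39 LD3_c2)) = (LP (LK LD1_c9 LD2_c13 LD3_c52)) :=
  Lre_g IH (LK LD1_c4 LD2_c39 LD3_c2) (LK LD1_c9 LD2_c13 LD3_c52) Lrfl Lrfl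
theorem f645493 : Led Lsl_gf (LP (LK LD1_c6 LD2_c3 LD3_c10)) = (LP (LK LD1_c9 LD2_c13 LD3_c52)) :=
  Lgr Lrot76 (Lpe (K52.f501140 IH) (Lpr_ff (K52.f645478 IH) (Lpr_gt (f632026 IH) (Lpn (LP (LK LD1_c9 LD2_c13 LD3_c52))))))
theorem f454863 : Led Lsl_ct (LP (LK LD1_c9 LD2_c5 LD3_c1)) = (LP (LK LD1_c16 LD2_c56 LD3_c60)) :=
  Lre_c IH (LK LD1_c9 LD2_c5 LD3_c1) (LK LD1_c16 LD2_c56 LD3_c60) Lrfl Lrfl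
theorem f640129 : Led Lsl_ff (LP (LK LD1_c11 LD2_c22 LD3_c31)) = (LP (LK LD1_c16 LD2_c56 LD3_c60)) :=
  Lgr Lrot23 (Lpr_ct (K38.f140619 IH) (Lpr_ft (K51.f640122 IH) (Lpr_ct (f454863 IH) (Lpn (LP (LK LD1_c16 LD2_c56 LD3_c60))))))
theorem f140624 : Led Lsl_at (LP (LK LD1_c11 LD2_c22 LD3_c31)) = (LP (LK LD1_c20 LD2_c20 LD3_c3)) :=
  Lre_a IH (LK LD1_c11 LD2_c22 LD3_c31) (LK LD1_c20 LD2_c20 LD3_c3) Lrfl Lrfl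
theorem f640258 : Led Lsl_at (LP (LK LD1_c26 LD2_c53 LD3_c6)) = (LP (LK LD1_c16 LD2_c56 LD3_c60)) :=
  Lre_a IH (LK LD1_c26 LD2_c53 LD3_c6) (LK LD1_c16 LD2_c56 LD3_c60) Lrfl Lrfl
theorem f640259 : Led Lsl_ft (LP (LK LD1_c20 LD2_c20 LD3_c3)) = (LP (LK LD1_c26 LD2_c53 LD3_c6)) :=
  Lgr Lrot101 (Lpe (f140624 IH) (Lpr_ff (f640129 IH) (Lpe (f640258 IH) (Lpn (LP (LK LD1_c26 LD2_c53 LD3_c6))))))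
theorem f640261 : Led Lsl_ff (LP (LK LD1_c20 LD2_c20 LD3_c3)) = (LP (LK LD1_c26 LD2_c53 LD3_c6)) :=
  Lgr Lrot3 (Lpr_ft (f640259 IH) (Lpn (LP (LK LD1_c26 LD2_c53 LD3_c6))))
theorem f140612 : Led Lsl_at (LP (LK LD1_c20 LD2_c20 LD3_c3)) = (LP (LK LD1_c11 LD2_c22 LD3_c31)) :=
  Lre_a IH (LK LD1_c20 LD2_c20 LD3_c3) (LK LD1_c11 LD2_c22 LD3_c31) Lrfl Lrfl
theorem f640264 : Led Lsl_gf (LP (LK LD1_c20 LD2_c20 LD3_c20)) = (LP (LK LD1_c26 LD2_c53 LD3_c6)) :=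
  Lgr Lrot47 (Lpr_gt (K52.f140632 IH) (Lpe (f140612 IH) (Lpr_ff (f640261 IH) (Lpn (LP (LK LD1_c26 LD2_c53 LD3_c6))))))
theorem f640142 : Led Lsl_ct (LP (LK LD1_c16 LD2_c56 LD3_c56)) = (LP (LK LD1_c26 LD2_c53 LD3_c6)) :=
  Lre_c IH (LK LD1_c16 LD2_c56 LD3_c56) (LK LD1_c26 LD2_c53 LD3_c6) Lrfl Lrfl
theorem f140611 : Led Lsl_gt (LP (LK LD1_c5 LD2_c46 LD3_c4)) = (LP (LK LD1_c11 LD2_c22 LD3_c29)) :=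
  Lre_g IH (LK LD1_c5 LD2_c46 LD3_c4) (LK LD1_c11 LD2_c22 LD3_c29) Lrfl Lrfl
theorem f640133 : Led Lsl_gt (LP (LK LD1_c11 LD2_c22 LD3_c29)) = (LP (LK LD1_c16 LD2_c56 LD3_c56)) :=
  Lgr Lrot46 (Lpe (f140611 IH) (Lpr_ft (K51.f640122 IH) (Lpr_at (K52.f640126 IH) (Lpn (LP (LK LD1_c16 LD2_c56 LD3_c56))))))
theorem f714354 : Led Lsl_df (LP (LK LD1_c9 LD2_c13 LD3_c52)) = (LP (LK LD1_c11 LD2_c22 LD3_c29)) :=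
  Lgr Lrot155 (Lpe (f645493 IH) (Lpr_ct (K52.f645500 IH) (Lpr_gt (K52.f645651 IH) (Lpr_ct (K52.f140900 IH) (Lpr_dt (f140907 IH) (Lpr_cf (f714272 IH) (Lpr_gf (f640264 IH) (Lpe (f640142 IH) (Lpe (f640133 IH) (Lpn (LP (LK LD1_c11 LD2_c22 LD3_c29))))))))))))
def v4220 : LQ := Led Lsl_gf (LP (LK LD1_c2 LD2_c16 LD3_c31))
theorem f632025 : Led Lsl_gf (LP (LK LD1_c2 LD2_c16 LD3_c31)) = v4220 :=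
  Lrfl
theorem f645601 : Led Lsl_ft (LP (LK LD1_c2 LD2_c57 LD3_c42)) = (LP (LK LD1_c4 LD2_c39 LD3_c0)) :=
  Lgr Lrot48 (Lpr_ff (K52.f645599 IH) (Lpn (LP (LK LD1_c4 LD2_c39 LD3_c0))))
theorem f494506 : Led Lsl_at (LP (LK LD1_c4 LD2_c39 LD3_c0)) = (LP (LK LD1_c2 LD2_c16 LD3_c31)) :=
  Lre_a IH (LK LD1_c4 LD2_c39 LD3_c0) (LK LD1_c2 LD2_c16 LD3_c31) Lrfl Lrfl
theorem f645610 : Led Lsl_gt (LP (LK LD1_c2 LD2_c57 LD3_c42)) = v4220 :=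
  Lgr Lrot5 (Lpr_ft (f645601 IH) (Lpr_at (f494506 IH) (Lpr_gf (f632025 IH) (Lpn v4220))))
theorem f713933 : (LP (LK LD1_c4 LD2_c35 LD3_c20)) = v4220 :=
  Lefun (Lecon (Lfl_gf (K52.f699851 IH)) (K52.f713932 IH)) (f645610 IH)
theorem f714360 : Led Lsl_ef (LP (LK LD1_c5 LD2_c55 LD3_c55)) = (LP (LK LD1_c11 LD2_c22 LD3_c29)) :=
  Lgr Lrot114 (Lpr_gt (f424776 IH) (Lpe (K51.f71848 IH) (Lpr_dt (K4.f71845 IH) (Lpe (K8.f163037 IH) (Lpe (K7.f35234 IH) (Lpr_et (K51.f101624 IH) (Lpqs (f713933 IH) (Lpe (f632025 IH) (Lpr_dt (K52.f23073 IH) (Lpr_gt (f632026 IH) (Lpr_df (f714354 IH) (Lpn (LP (LK LD1_c11 LD2_c22 LD3_c29))))))))))))))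
theorem f714364 : Led Lsl_et (LP (LK LD1_c5 LD2_c55 LD3_c55)) = (LP (LK LD1_c11 LD2_c22 LD3_c29)) :=
  Lgr Lrot87 (Lpr_ef (f714360 IH) (Lpn (LP (LK LD1_c11 LD2_c22 LD3_c29))))
theorem f82912 : Led Lsl_dt (LP (LK LD1_c5 LD2_c55 LD3_c55)) = (LP (LK LD1_c11 LD2_c36 LD3_c61)) :=
  Lre_d IH (LK LD1_c5 LD2_c55 LD3_c55) (LK LD1_c11 LD2_c36 LD3_c61) Lrfl Lrfl
theorem f714195 : Led Lsl_ef (LP (LK LD1_c9 LD2_c31 LD3_c37)) = (LP (LK LD1_c6 LD2_c2 LD3_c14)) :=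
  Lgr Lrot88 (Lpr_et (K52.f714193 IH) (Lpn (LP (LK LD1_c6 LD2_c2 LD3_c14))))
theorem f714368 : Led Lsl_gf (LP (LK LD1_c11 LD2_c36 LD3_c61)) = v13877 :=
  Lgr Lrot134 (Lpe (f82912 IH) (Lpr_et (f714364 IH) (Lpr_gt (f640133 IH) (Lpe (K51.f706212 IH) (Lpr_dt (K51.f700302 IH) (Lpe (K51.f614910 IH) (Lpe (K45.f69258 IH) (Lpe (f714195 IH) (Lpr_gt (K52.f446016 IH) (Lpr_dt (f705640 IH) (Lpn v13877)))))))))))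
theorem f747593 : Led Lsl_at (LP (LK LD1_c5 LD2_c56 LD3_c55)) = (LP (LK LD1_c11 LD2_c36 LD3_c61)) :=
  Lgr Lrot26 (Lpr_ff (f747591 IH) (Lpe (f747393 IH) (Lpe (f714368 IH) (Lpn (LP (LK LD1_c11 LD2_c36 LD3_c61))))))
theorem f747595 : Led Lsl_af (LP (LK LD1_c5 LD2_c56 LD3_c55)) = (LP (LK LD1_c11 LD2_c36 LD3_c61)) :=
  Lgr Lrot0 (Lpr_at (f747593 IH) (Lpn (LP (LK LD1_c11 LD2_c36 LD3_c61))))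
theorem f747614 : Led Lsl_ft (LP (LK LD1_c5 LD2_c56 LD3_c51)) = (LP (LK LD1_c11 LD2_c36 LD3_c61)) :=
  Lgr Lrot2 (Lpr_gt (K51.f641099 IH) (Lpr_gt (f714604 IH) (Lpr_af (f747595 IH) (Lpn (LP (LK LD1_c11 LD2_c36 LD3_c61))))))
theorem f747592 : Led Lsl_ft (LP (LK LD1_c5 LD2_c56 LD3_c55)) = v16261 :=
  Lgr Lrot48 (Lpr_ff (f747591 IH) (Lpn v16261))
theorem f747616 : Led Lsl_af (LP (LK LD1_c5 LD2_c56 LD3_c51)) = v16261 :=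
  Lgr Lrot45 (Lpr_ft (f747614 IH) (Lpe (f747595 IH) (Lpr_ft (f747592 IH) (Lpn v16261))))
theorem f748085 : Led Lsl_gt (LP (LK LD1_c5 LD2_c56 LD3_c55)) = v16287 :=
  Lgr Lrot5 (Lpr_ft (f747592 IH) (Lpe (f747616 IH) (Lpr_gf (f748084 IH) (Lpn v16287))))
theorem f710946 : Led Lsl_et (LP (LK LD1_c11 LD2_c39 LD3_c8)) = (LP (LK LD1_c5 LD2_c56 LD3_c55)) :=
  Lre_e IH (LK LD1_c11 LD2_c39 LD3_c8) (LK LD1_c5 LD2_c56 LD3_c55) Lrfl Lrfl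
theorem f710947 : Led Lsl_dt (LP (LK LD1_c11 LD2_c50 LD3_c15)) = (LP (LK LD1_c11 LD2_c39 LD3_c8)) :=
  Lgr Lrot77 (Lpe (f710945 IH) (Lpr_df (K52.f710940 IH) (Lpe (f641137 IH) (Lpe (f574722 IH) (Lpe (f710946 IH) (Lpn (LP (LK LD1_c11 LD2_c39 LD3_c8))))))))
theorem f710961 : Led Lsl_df (LP (LK LD1_c11 LD2_c50 LD3_c15)) = (LP (LK LD1_c11 LD2_c39 LD3_c8)) :=
  Lgr Lrot38 (Lpr_dt (f710947 IH) (Lpn (LP (LK LD1_c11 LD2_c39 LD3_c8))))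
theorem f617097 : Led Lsl_dt (LP (LK LD1_c6 LD2_c44 LD3_c59)) = (LP (LK LD1_c12 LD2_c54 LD3_c19)) :=
  Lre_d IH (LK LD1_c6 LD2_c44 LD3_c59) (LK LD1_c12 LD2_c54 LD3_c19) Lrfl Lrfl
theorem f652844 : Led Lsl_et (LP (LK LD1_c6 LD2_c44 LD3_c59)) = (LP (LK LD1_c3 LD2_c20 LD3_c35)) :=
  Lre_e IH (LK LD1_c6 LD2_c44 LD3_c59) (LK LD1_c3 LD2_c20 LD3_c35) Lrfl Lrfl
theorem f748094 : v6357 = (LP (LK LD1_c6 LD2_c44 LD3_c57)) :=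
  (Llr Lrot185 (Lpe (f652978 IH) (Lpe (f116994 IH) (Lpe (f707310 IH) (Lpr_df (f748091 IH) (Lpe (f748085 IH) (Lpe (f710946 IH) (Lpe (f710961 IH) (Lpr_gf (f747244 IH) (Lpe (f617097 IH) (Lpr_et (f652844 IH) (Lpe (K46.f652734 IH) (Lpn (LP (LK LD1_c6 LD2_c44 LD3_c57))))))))))))))).symm
theorem f652974 : Led Lsl_bf (LP (LK LD1_c3 LD2_c20 LD3_c48)) = v6357 :=
  Lgr Lrot24 (Lpr_bt (f652973 IH) (Lpn v6357))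
theorem f748095 : Led Lsl_bt (LP (LK LD1_c6 LD2_c44 LD3_c57)) = (LP (LK LD1_c3 LD2_c20 LD3_c48)) :=
  Leop (Lpr_bf (f652974 IH) (Lpqs (f748094 IH) (Lpn (LP (LK LD1_c6 LD2_c44 LD3_c57)))))
theorem seed_1000 : LEOK LG_b (LK LD1_c6 LD2_c44 LD3_c57) :=
  Leoe_b (LK LD1_c6 LD2_c44 LD3_c57) (f748095 IH)
theorem f417142 : Led Lsl_bt (LP (LK LD1_c12 LD2_c57 LD3_c44)) = (LP (LK LD1_c6 LD2_c47 LD3_c21)) :=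
  Lre_b IH (LK LD1_c12 LD2_c57 LD3_c44) (LK LD1_c6 LD2_c47 LD3_c21) Lrfl Lrfl
theorem f504411 : Led Lsl_ct (LP (LK LD1_c3 LD2_c20 LD3_c35)) = (LP (LK LD1_c6 LD2_c44 LD3_c58)) :=
  Lre_c IH (LK LD1_c3 LD2_c20 LD3_c35) (LK LD1_c6 LD2_c44 LD3_c58) Lrfl Lrfl
theorem f706645 : Led Lsl_gt (LP (LK LD1_c6 LD2_c44 LD3_c58)) = (LP (LK LD1_c12 LD2_c54 LD3_c12)) :=
  Lre_g IH (LK LD1_c6 LD2_c44 LD3_c58) (LK LD1_c12 LD2_c54 LD3_c12) Lrfl Lrfl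
theorem f748135 : Led Lsl_ct (LP (LK LD1_c12 LD2_c57 LD3_c44)) = (LP (LK LD1_c12 LD2_c54 LD3_c12)) :=
  Lgr Lrot63 (Lpr_bt (f417142 IH) (Lpr_gt (K51.f417141 IH) (Lpe (K24.f416515 IH) (Lpr_ct (K17.f414057 IH) (Lpr_gt (K24.f416511 IH) (Lpe (K24.f415139 IH) (Lpr_bt (f652973 IH) (Lpqs (f748094 IH) (Lpr_gt (K46.f652734 IH) (Lpr_ct (f504411 IH) (Lpr_gt (f706645 IH) (Lpn (LP (LK LD1_c12 LD2_c54 LD3_c12))))))))))))))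
theorem f509368 : Led Lsl_ct (LP (LK LD1_c12 LD2_c54 LD3_c0)) = (LP (LK LD1_c6 LD2_c44 LD3_c49)) :=
  Lre_c IH (LK LD1_c12 LD2_c54 LD3_c0) (LK LD1_c6 LD2_c44 LD3_c49) Lrfl Lrfl
theorem f509304 : Led Lsl_ct (LP (LK LD1_c3 LD2_c20 LD3_c39)) = (LP (LK LD1_c6 LD2_c45 LD3_c4)) :=
  Lre_c IH (LK LD1_c3 LD2_c20 LD3_c39) (LK LD1_c6 LD2_c45 LD3_c4) Lrfl Lrfl
theorem f706650 : Led Lsl_af (LP (LK LD1_c12 LD2_c54 LD3_c0)) = (LP (LK LD1_c6 LD2_c45 LD3_c4)) :=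
  Lgr Lrot68 (Lpr_ct (f509368 IH) (Lpq (K51.f706612 IH) (Lpe (K46.f652855 IH) (Lpr_ct (f509304 IH) (Lpn (LP (LK LD1_c6 LD2_c45 LD3_c4)))))))
theorem f706652 : Led Lsl_at (LP (LK LD1_c12 LD2_c54 LD3_c0)) = (LP (LK LD1_c6 LD2_c45 LD3_c4)) :=
  Lgr Lrot100 (Lpr_af (f706650 IH) (Lpn (LP (LK LD1_c6 LD2_c45 LD3_c4))))
theorem f509336 : Led Lsl_ct (LP (LK LD1_c6 LD2_c44 LD3_c58)) = (LP (LK LD1_c3 LD2_c20 LD3_c35)) :=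
  Lre_c IH (LK LD1_c6 LD2_c44 LD3_c58) (LK LD1_c3 LD2_c20 LD3_c35) Lrfl Lrfl
theorem f504420 : Led Lsl_ct (LP (LK LD1_c6 LD2_c44 LD3_c49)) = (LP (LK LD1_c12 LD2_c54 LD3_c0)) :=
  Lre_c IH (LK LD1_c6 LD2_c44 LD3_c49) (LK LD1_c12 LD2_c54 LD3_c0) Lrfl Lrfl
theorem f706631 : Led Lsl_ff (LP (LK LD1_c6 LD2_c44 LD3_c58)) = (LP (LK LD1_c12 LD2_c54 LD3_c0)) :=
  Lgr Lrot23 (Lpr_ct (f509336 IH) (Lpr_ft (K46.f652854 IH) (Lpqs (K51.f706612 IH) (Lpr_ct (f504420 IH) (Lpn (LP (LK LD1_c12 LD2_c54 LD3_c0)))))))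
theorem f706638 : Led Lsl_ft (LP (LK LD1_c6 LD2_c44 LD3_c58)) = (LP (LK LD1_c12 LD2_c54 LD3_c0)) :=
  Lgr Lrot48 (Lpr_ff (f706631 IH) (Lpn (LP (LK LD1_c12 LD2_c54 LD3_c0))))
theorem f706654 : Led Lsl_gt (LP (LK LD1_c12 LD2_c54 LD3_c12)) = (LP (LK LD1_c6 LD2_c45 LD3_c4)) :=
  Lgr Lrot46 (Lpe (f706645 IH) (Lpr_ft (f706638 IH) (Lpr_at (f706652 IH) (Lpn (LP (LK LD1_c6 LD2_c45 LD3_c4))))))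
theorem f652749 : Led Lsl_ct (LP (LK LD1_c6 LD2_c45 LD3_c4)) = (LP (LK LD1_c3 LD2_c20 LD3_c39)) :=
  Lre_c IH (LK LD1_c6 LD2_c45 LD3_c4) (LK LD1_c3 LD2_c20 LD3_c39) Lrfl Lrfl
theorem f712740 : Led Lsl_gt (LP (LK LD1_c9 LD2_c50 LD3_c32)) = (LP (LK LD1_c6 LD2_c47 LD3_c17)) :=
  Lgr Lrot46 (Lpe (K52.f709999 IH) (Lpr_ft (K54.f712733 IH) (Lpe (K54.f712736 IH) (Lpn (LP (LK LD1_c6 LD2_c47 LD3_c17))))))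
theorem f76986 : Led Lsl_dt (LP (LK LD1_c18 LD2_c1 LD3_c37)) = (LP (LK LD1_c9 LD2_c50 LD3_c32)) :=
  Lre_d IH (LK LD1_c18 LD2_c1 LD3_c37) (LK LD1_c9 LD2_c50 LD3_c32) Lrfl Lrfl
theorem f748140 : Led Lsl_gf (LP (LK LD1_c12 LD2_c57 LD3_c44)) = (LP (LK LD1_c18 LD2_c1 LD3_c37)) :=
  Lgr Lrot147 (Lpr_ct (f748135 IH) (Lpr_gt (f706654 IH) (Lpr_ct (f652749 IH) (Lpe (K46.f509303 IH) (Lpe (K46.f509306 IH) (Lpe (K46.f652816 IH) (Lpe (K54.f454464 IH) (Lpe (f712740 IH) (Lpe (f76986 IH) (Lpn (LP (LK LD1_c18 LD2_c1 LD3_c37))))))))))))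
theorem f710276 : Led Lsl_bt (LP (LK LD1_c5 LD2_c51 LD3_c32)) = (LP (LK LD1_c11 LD2_c30 LD3_c27)) :=
  Lre_b IH (LK LD1_c5 LD2_c51 LD3_c32) (LK LD1_c11 LD2_c30 LD3_c27) Lrfl Lrfl
theorem f710277 : Led Lsl_dt (LP (LK LD1_c11 LD2_c30 LD3_c27)) = (LP (LK LD1_c12 LD2_c57 LD3_c44)) :=
  Lgr Lrot79 (Lpe (f710276 IH) (Lpr_df (K51.f710242 IH) (Lpe (f417142 IH) (Lpn (LP (LK LD1_c12 LD2_c57 LD3_c44))))))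
theorem f621200 : Led Lsl_et (LP (LK LD1_c11 LD2_c30 LD3_c27)) = (LP (LK LD1_c5 LD2_c51 LD3_c29)) :=
  Lre_e IH (LK LD1_c11 LD2_c30 LD3_c27) (LK LD1_c5 LD2_c51 LD3_c29) Lrfl Lrfl
def v16003 : LQ := Led Lsl_gt (LP (LK LD1_c5 LD2_c51 LD3_c29))
theorem f744752 : Led Lsl_gt (LP (LK LD1_c5 LD2_c51 LD3_c29)) = v16003 :=
  Lrfl
theorem f77013 : Led Lsl_dt (LP (LK LD1_c9 LD2_c50 LD3_c32)) = (LP (LK LD1_c18 LD2_c1 LD3_c37)) :=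
  Lre_d IH (LK LD1_c9 LD2_c50 LD3_c32) (LK LD1_c18 LD2_c1 LD3_c37) Lrfl Lrfl
theorem f748143 : v16003 = (LP (LK LD1_c8 LD2_c49 LD3_c1)) :=
  (Llr Lrot131 (Lpe (f744752 IH) (Lpe (f621200 IH) (Lpr_dt (f710277 IH) (Lpr_gf (f748140 IH) (Lpe (f77013 IH) (Lpe (K52.f709999 IH) (Lpe (K6.f141754 IH) (Lpe (K6.f141735 IH) (Lpe (K6.f38522 IH) (Lpe (K6.f99661 IH) (Lpr_et (K45.f99700 IH) (Lpn (LP (LK LD1_c8 LD2_c49 LD3_c1))))))))))))))).symm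
theorem f640707 : Led Lsl_bt (LP (LK LD1_c2 LD2_c51 LD3_c60)) = (LP (LK LD1_c5 LD2_c51 LD3_c29)) :=
  Lre_b IH (LK LD1_c2 LD2_c51 LD3_c60) (LK LD1_c5 LD2_c51 LD3_c29) Lrfl Lrfl
theorem f22297 : Led Lsl_ct (LP (LK LD1_c2 LD2_c51 LD3_c60)) = (LP (LK LD1_c5 LD2_c51 LD3_c30)) :=
  Lre_c IH (LK LD1_c2 LD2_c51 LD3_c60) (LK LD1_c5 LD2_c51 LD3_c30) Lrfl Lrfl
def v16218 : LQ := Led Lsl_bt (LP (LK LD1_c5 LD2_c55 LD3_c16))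
theorem f747080 : Led Lsl_bt (LP (LK LD1_c5 LD2_c55 LD3_c16)) = v16218 :=
  Lrfl
theorem f641255 : Led Lsl_gf K45.v1670 = K41.v4997 :=
  Lgr Lrot47 (Lpe (K45.f500674 IH) (Lpe (f426157 IH) (Lpr_ff (K41.f641251 IH) (Lpn K41.v4997))))
theorem f24046 : Led Lsl_gt (LP (LK LD1_c5 LD2_c55 LD3_c16)) = (LP (LK LD1_c2 LD2_c53 LD3_c59)) :=
  Lre_g IH (LK LD1_c5 LD2_c55 LD3_c16) (LK LD1_c2 LD2_c53 LD3_c59) Lrfl Lrfl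
theorem f643432 : K41.v4997 = (LP (LK LD1_c5 LD2_c55 LD3_c16)) :=
  Lefun (Lecon (f641255 IH) (K45.f643429 IH)) (Lfl_gt (f24046 IH))
theorem f747084 : Led Lsl_ff (LP (LK LD1_c5 LD2_c57 LD3_c31)) = v16218 :=
  Lgr Lrot25 (Lpr_bt (f426158 IH) (Lpr_ft (K41.f641247 IH) (Lpqs (f643432 IH) (Lpr_bt (f747080 IH) (Lpn v16218)))))
theorem f747088 : Led Lsl_ft (LP (LK LD1_c5 LD2_c57 LD3_c31)) = v16218 :=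
  Lgr Lrot48 (Lpr_ff (f747084 IH) (Lpn v16218))
theorem f427118 : Led Lsl_ct (LP (LK LD1_c7 LD2_c42 LD3_c8)) = (LP (LK LD1_c5 LD2_c57 LD3_c31)) :=
  Lgr Lrot59 (Lpr_cf (f427115 IH) (Lpn (LP (LK LD1_c5 LD2_c57 LD3_c31))))
theorem f710280 : Led Lsl_dt (LP (LK LD1_c11 LD2_c30 LD3_c29)) = (LP (LK LD1_c20 LD2_c27 LD3_c34)) :=
  Lre_d IH (LK LD1_c11 LD2_c30 LD3_c29) (LK LD1_c20 LD2_c27 LD3_c34) Lrfl Lrfl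
theorem f710288 : Led Lsl_et (LP (LK LD1_c11 LD2_c30 LD3_c29)) = (LP (LK LD1_c5 LD2_c51 LD3_c30)) :=
  Lre_e IH (LK LD1_c11 LD2_c30 LD3_c29) (LK LD1_c5 LD2_c51 LD3_c30) Lrfl Lrfl
theorem f710289 : Led Lsl_gt (LP (LK LD1_c5 LD2_c51 LD3_c30)) = (LP (LK LD1_c11 LD2_c29 LD3_c46)) :=
  Lgr Lrot131 (Lpe (f710288 IH) (Lpr_dt (f710280 IH) (Lpr_gf (K51.f710281 IH) (Lpe (K51.f65741 IH) (Lpe (K51.f65740 IH) (Lpe (K51.f65973 IH) (Lpe (K6.f65772 IH) (Lpe (K6.f65940 IH) (Lpe (K34.f206005 IH) (Lpr_et (f206009 IH) (Lpn (LP (LK LD1_c11 LD2_c29 LD3_c46)))))))))))))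
theorem f744607 : Led Lsl_ft (LP (LK LD1_c11 LD2_c30 LD3_c18)) = (LP (LK LD1_c7 LD2_c42 LD3_c8)) :=
  Lgr Lrot2 (Lpr_gt (f744605 IH) (Lpr_gt (f710289 IH) (Lpe (f427113 IH) (Lpn (LP (LK LD1_c7 LD2_c42 LD3_c8))))))
theorem f747090 : Led Lsl_cf (LP (LK LD1_c11 LD2_c30 LD3_c18)) = v16218 :=
  Lgr Lrot108 (Lpr_ft (f744607 IH) (Lpr_ct (f427118 IH) (Lpr_ft (f747088 IH) (Lpn v16218))))
theorem f747082 : Led Lsl_bf (LP (LK LD1_c5 LD2_c55 LD3_c16)) = v16218 :=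
  Lgr Lrot24 (Lpr_bt (f747080 IH) (Lpn v16218))
theorem f641253 : Led Lsl_at (LP (LK LD1_c2 LD2_c55 LD3_c36)) = K41.v4997 :=
  Lgr Lrot66 (Lpe (K41.f500678 IH) (Lpe (f426157 IH) (Lpr_ff (K41.f641251 IH) (Lpn K41.v4997))))
theorem f641257 : Led Lsl_gt (LP (LK LD1_c2 LD2_c55 LD3_c34)) = K41.v4997 :=
  Lgr Lrot46 (Lpe (K45.f386687 IH) (Lpr_ft (K41.f500678 IH) (Lpr_at (f641253 IH) (Lpn K41.v4997))))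
theorem f622253 : Led Lsl_ct (LP (LK LD1_c4 LD2_c37 LD3_c14)) = (LP (LK LD1_c9 LD2_c10 LD3_c11)) :=
  Lre_c IH (LK LD1_c4 LD2_c37 LD3_c14) (LK LD1_c9 LD2_c10 LD3_c11) Lrfl Lrfl
theorem f748145 : Led Lsl_gt (LP (LK LD1_c6 LD2_c10 LD3_c52)) = (LP (LK LD1_c9 LD2_c10 LD3_c11)) :=
  Lgr Lrot149 (Lpr_cf (K45.f99701 IH) (Lpq (f748143 IH) (Lpe (f744752 IH) (Lpe (f640707 IH) (Lpr_ct (f22297 IH) (Lpe (f744605 IH) (Lpr_cf (f747090 IH) (Lpe (f747082 IH) (Lpq (f643432 IH) (Lpe (f641257 IH) (Lpr_bf (K45.f641290 IH) (Lpq (K45.f643425 IH) (Lpr_ct (f622253 IH) (Lpn (LP (LK LD1_c9 LD2_c10 LD3_c11))))))))))))))))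
theorem f748146 : Led Lsl_gt (LP (LK LD1_c6 LD2_c10 LD3_c52)) = (LP (LK LD1_c9 LD2_c10 LD3_c11)) :=
  Leop (Lpe (f748145 IH) (Lpn (LP (LK LD1_c6 LD2_c10 LD3_c52))))
theorem seed_1001 : LEOK LG_g (LK LD1_c6 LD2_c10 LD3_c52) :=
  Leoe_g (LK LD1_c6 LD2_c10 LD3_c52) (f748146 IH)
def v16300 : LQ := Led Lsl_ct (LP (LK LD1_c5 LD2_c57 LD3_c14))
theorem f748244 : Led Lsl_ct (LP (LK LD1_c5 LD2_c57 LD3_c14)) = v16300 :=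
  Lrfl
theorem f426134 : Led Lsl_bt (LP (LK LD1_c5 LD2_c57 LD3_c44)) = (LP (LK LD1_c2 LD2_c55 LD3_c36)) :=
  Lre_b IH (LK LD1_c5 LD2_c57 LD3_c44) (LK LD1_c2 LD2_c55 LD3_c36) Lrfl Lrfl
theorem f641314 : Led Lsl_bf (LP (LK LD1_c5 LD2_c58 LD3_c56)) = K41.v5013 :=
  Lgr Lrot96 (Lpr_et (K24.f426130 IH) (Lpr_bt (f426134 IH) (Lpr_et (K41.f641312 IH) (Lpn K41.v5013))))
theorem f643113 : Led Lsl_ft (LP (LK LD1_c9 LD2_c47 LD3_c58)) = (LP (LK LD1_c17 LD2_c58 LD3_c12)) :=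
  Lre_f IH (LK LD1_c9 LD2_c47 LD3_c58) (LK LD1_c17 LD2_c58 LD3_c12) Lrfl Lrfl
theorem f643812 : Led Lsl_ff (LP (LK LD1_c9 LD2_c49 LD3_c39)) = (LP (LK LD1_c11 LD2_c44 LD3_c56)) :=
  Lgr Lrot19 (Lpr_dt (K45.f570796 IH) (Lpr_ft (f643113 IH) (Lpr_dt (K52.f643804 IH) (Lpn (LP (LK LD1_c11 LD2_c44 LD3_c56))))))
theorem f643816 : Led Lsl_ft (LP (LK LD1_c9 LD2_c49 LD3_c39)) = (LP (LK LD1_c11 LD2_c44 LD3_c56)) :=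
  Lgr Lrot48 (Lpr_ff (f643812 IH) (Lpn (LP (LK LD1_c11 LD2_c44 LD3_c56))))
theorem f56976 : Led Lsl_gt (LP (LK LD1_c9 LD2_c30 LD3_c4)) = (LP (LK LD1_c4 LD2_c48 LD3_c47)) :=
  Lre_g IH (LK LD1_c9 LD2_c30 LD3_c4) (LK LD1_c4 LD2_c48 LD3_c47) Lrfl Lrfl
theorem f643109 : Led Lsl_ct (LP (LK LD1_c9 LD2_c49 LD3_c39)) = (LP (LK LD1_c9 LD2_c30 LD3_c4)) :=
  Lgr Lrot152 (Lpe (K45.f615271 IH) (Lpe (K42.f438668 IH) (Lpr_gt (K53.f615244 IH) (Lpr_ct (K42.f615229 IH) (Lpr_gt (K42.f643085 IH) (Lpe (K28.f56878 IH) (Lpr_df (K42.f559442 IH) (Lpe (K28.f56933 IH) (Lpe (f56976 IH) (Lpn (LP (LK LD1_c9 LD2_c30 LD3_c4))))))))))))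
theorem f643111 : Led Lsl_cf (LP (LK LD1_c9 LD2_c49 LD3_c39)) = (LP (LK LD1_c9 LD2_c30 LD3_c4)) :=
  Lgr Lrot11 (Lpr_ct (f643109 IH) (Lpn (LP (LK LD1_c9 LD2_c30 LD3_c4))))
theorem f643818 : Led Lsl_ff (LP (LK LD1_c9 LD2_c30 LD3_c4)) = (LP (LK LD1_c6 LD2_c0 LD3_c13)) :=
  Lgr Lrot23 (Lpe (f643111 IH) (Lpr_ft (f643816 IH) (Lpr_ct (K49.f501992 IH) (Lpn (LP (LK LD1_c6 LD2_c0 LD3_c13))))))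
theorem f643822 : Led Lsl_at (LP (LK LD1_c9 LD2_c30 LD3_c4)) = (LP (LK LD1_c6 LD2_c0 LD3_c14)) :=
  Lgr Lrot26 (Lpr_ff (f643818 IH) (Lpr_gt (K49.f501988 IH) (Lpe (K45.f502003 IH) (Lpn (LP (LK LD1_c6 LD2_c0 LD3_c14))))))
theorem f643170 : Led Lsl_cf (LP (LK LD1_c9 LD2_c6 LD3_c3)) = (LP (LK LD1_c9 LD2_c30 LD3_c3)) :=
  Lgr Lrot11 (Lpr_ct (K42.f643165 IH) (Lpn (LP (LK LD1_c9 LD2_c30 LD3_c3))))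
theorem f643291 : Led Lsl_ft (LP (LK LD1_c6 LD2_c0 LD3_c14)) = (LP (LK LD1_c9 LD2_c30 LD3_c3)) :=
  Lgr Lrot4 (Lpr_cf (K45.f643281 IH) (Lpe (K45.f622894 IH) (Lpr_cf (f643170 IH) (Lpn (LP (LK LD1_c9 LD2_c30 LD3_c3))))))
theorem f643827 : Led Lsl_af (LP (LK LD1_c6 LD2_c0 LD3_c13)) = (LP (LK LD1_c9 LD2_c30 LD3_c3)) :=
  Lgr Lrot45 (Lpe (f643818 IH) (Lpr_at (f643822 IH) (Lpr_ft (f643291 IH) (Lpn (LP (LK LD1_c9 LD2_c30 LD3_c3))))))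
theorem f499923 : Led Lsl_et (LP (LK LD1_c6 LD2_c0 LD3_c13)) = (LP (LK LD1_c11 LD2_c44 LD3_c58)) :=
  Lre_e IH (LK LD1_c6 LD2_c0 LD3_c13) (LK LD1_c11 LD2_c44 LD3_c58) Lrfl Lrfl
theorem f643833 : Led Lsl_at (LP (LK LD1_c11 LD2_c44 LD3_c58)) = (LP (LK LD1_c17 LD2_c31 LD3_c24)) :=
  Lgr Lrot80 (Lpe (f499923 IH) (Lpr_af (f643827 IH) (Lpe (K52.f105151 IH) (Lpn (LP (LK LD1_c17 LD2_c31 LD3_c24))))))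
theorem f499920 : Led Lsl_ct (LP (LK LD1_c20 LD2_c46 LD3_c14)) = (LP (LK LD1_c11 LD2_c44 LD3_c58)) :=
  Lre_c IH (LK LD1_c20 LD2_c46 LD3_c14) (LK LD1_c11 LD2_c44 LD3_c58) Lrfl Lrfl
theorem f643837 : Led Lsl_af (LP (LK LD1_c20 LD2_c46 LD3_c14)) = (LP (LK LD1_c16 LD2_c57 LD3_c52)) :=
  Lgr Lrot68 (Lpr_ct (f499920 IH) (Lpr_at (f643833 IH) (Lpe (K46.f643172 IH) (Lpn (LP (LK LD1_c16 LD2_c57 LD3_c52))))))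
theorem f161283 : Led Lsl_dt (LP (LK LD1_c4 LD2_c46 LD3_c34)) = (LP (LK LD1_c2 LD2_c49 LD3_c18)) :=
  Lgr Lrot105 (Lpr_gf (K8.f161279 IH) (Lpe (K36.f26541 IH) (Lpe (K7.f150229 IH) (Lpr_cf (K8.f139372 IH) (Lpe (K6.f139339 IH) (Lpr_dt (K6.f26449 IH) (Lpr_gt (K0.f23455 IH) (Lpe (K4.f80023 IH) (Lpe (K32.f60953 IH) (Lpn (LP (LK LD1_c2 LD2_c49 LD3_c18))))))))))))
theorem f76264 : Led Lsl_gt (LP (LK LD1_c17 LD2_c58 LD3_c37)) = (LP (LK LD1_c9 LD2_c48 LD3_c23)) :=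
  Lre_g IH (LK LD1_c17 LD2_c58 LD3_c37) (LK LD1_c9 LD2_c48 LD3_c23) Lrfl Lrfl
theorem f643752 : Led Lsl_et (LP (LK LD1_c20 LD2_c46 LD3_c14)) = (LP (LK LD1_c11 LD2_c44 LD3_c56)) :=
  Lre_e IH (LK LD1_c20 LD2_c46 LD3_c14) (LK LD1_c11 LD2_c44 LD3_c56) Lrfl Lrfl
theorem f643753 : Led Lsl_df (LP (LK LD1_c17 LD2_c58 LD3_c37)) = (LP (LK LD1_c20 LD2_c46 LD3_c14)) :=
  Lgr Lrot170 (Lpr_gt (f76264 IH) (Lpe (K44.f74976 IH) (Lpr_et (K4.f74968 IH) (Lpe (K32.f496611 IH) (Lpr_dt (K36.f496615 IH) (Lpr_gt (K37.f496616 IH) (Lpe (f161283 IH) (Lpr_et (K52.f210040 IH) (Lpr_gt (K49.f643743 IH) (Lpe (f643752 IH) (Lpn (LP (LK LD1_c20 LD2_c46 LD3_c14)))))))))))))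
theorem f615667 : Led Lsl_dt (LP (LK LD1_c11 LD2_c31 LD3_c34)) = (LP (LK LD1_c16 LD2_c57 LD3_c52)) :=
  Lgr Lrot79 (Lpe (K42.f615665 IH) (Lpr_df (K45.f615663 IH) (Lpe (K46.f615666 IH) (Lpn (LP (LK LD1_c16 LD2_c57 LD3_c52))))))
theorem f643845 : Led Lsl_at (LP (LK LD1_c17 LD2_c58 LD3_c37)) = (LP (LK LD1_c11 LD2_c31 LD3_c34)) :=
  Lgr Lrot51 (Lpr_df (f643753 IH) (Lpr_af (f643837 IH) (Lpe (f615667 IH) (Lpn (LP (LK LD1_c11 LD2_c31 LD3_c34))))))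
theorem f622946 : Led Lsl_ff (LP (LK LD1_c5 LD2_c52 LD3_c31)) = (LP (LK LD1_c9 LD2_c14 LD3_c45)) :=
  Lgr Lrot3 (Lpr_ft (K49.f622944 IH) (Lpn (LP (LK LD1_c9 LD2_c14 LD3_c45))))
theorem f176780 : Led Lsl_gt (LP (LK LD1_c4 LD2_c39 LD3_c33)) = (LP (LK LD1_c9 LD2_c14 LD3_c44)) :=
  Lre_g IH (LK LD1_c4 LD2_c39 LD3_c33) (LK LD1_c9 LD2_c14 LD3_c44) Lrfl Lrfl
theorem f622949 : Led Lsl_at (LP (LK LD1_c5 LD2_c52 LD3_c31)) = (LP (LK LD1_c9 LD2_c14 LD3_c44)) :=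
  Lgr Lrot26 (Lpr_ff (f622946 IH) (Lpr_gt (K49.f422797 IH) (Lpr_gt (f176780 IH) (Lpn (LP (LK LD1_c9 LD2_c14 LD3_c44))))))
theorem f622942 : Led Lsl_at (LP (LK LD1_c5 LD2_c52 LD3_c32)) = (LP (LK LD1_c9 LD2_c14 LD3_c45)) :=
  Lgr Lrot100 (Lpr_af (K49.f622940 IH) (Lpn (LP (LK LD1_c9 LD2_c14 LD3_c45))))
theorem f622954 : Led Lsl_ff (LP (LK LD1_c5 LD2_c52 LD3_c32)) = (LP (LK LD1_c9 LD2_c14 LD3_c44)) :=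
  Lgr Lrot30 (Lpr_at (f622942 IH) (Lpe (f622946 IH) (Lpr_at (f622949 IH) (Lpn (LP (LK LD1_c9 LD2_c14 LD3_c44))))))
theorem f599762 : Led Lsl_bt (LP (LK LD1_c17 LD2_c9 LD3_c4)) = (LP (LK LD1_c9 LD2_c14 LD3_c44)) :=
  Lre_b IH (LK LD1_c17 LD2_c9 LD3_c4) (LK LD1_c9 LD2_c14 LD3_c44) Lrfl Lrfl
theorem f622956 : Led Lsl_ft (LP (LK LD1_c11 LD2_c31 LD3_c34)) = (LP (LK LD1_c17 LD2_c9 LD3_c4)) :=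
  Lgr Lrot75 (Lpe (K42.f615665 IH) (Lpr_ff (f622954 IH) (Lpe (f599762 IH) (Lpn (LP (LK LD1_c17 LD2_c9 LD3_c4))))))
theorem f428300 : Led Lsl_gt (LP (LK LD1_c11 LD2_c41 LD3_c30)) = (LP (LK LD1_c20 LD2_c41 LD3_c28)) :=
  Lre_g IH (LK LD1_c11 LD2_c41 LD3_c30) (LK LD1_c20 LD2_c41 LD3_c28) Lrfl Lrfl
theorem f22723 : Led Lsl_dt (LP (LK LD1_c5 LD2_c52 LD3_c34)) = (LP (LK LD1_c2 LD2_c52 LD3_c33)) :=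
  Lre_d IH (LK LD1_c5 LD2_c52 LD3_c34) (LK LD1_c2 LD2_c52 LD3_c33) Lrfl Lrfl
theorem f599769 : Led Lsl_af (LP (LK LD1_c5 LD2_c52 LD3_c34)) = (LP (LK LD1_c9 LD2_c14 LD3_c46)) :=
  Lgr Lrot117 (Lpr_dt (f22723 IH) (Lpr_at (K7.f151953 IH) (Lpr_dt (K45.f599767 IH) (Lpn (LP (LK LD1_c9 LD2_c14 LD3_c46))))))
theorem f334920 : Led Lsl_ft (LP (LK LD1_c4 LD2_c39 LD3_c33)) = (LP (LK LD1_c9 LD2_c14 LD3_c46)) :=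
  Lre_f IH (LK LD1_c4 LD2_c39 LD3_c33) (LK LD1_c9 LD2_c14 LD3_c46) Lrfl Lrfl
theorem f599802 : Led Lsl_gf (LP (LK LD1_c5 LD2_c52 LD3_c34)) = (LP (LK LD1_c9 LD2_c14 LD3_c44)) :=
  Lgr Lrot76 (Lpr_af (f599769 IH) (Lpe (f334920 IH) (Lpr_gt (f176780 IH) (Lpn (LP (LK LD1_c9 LD2_c14 LD3_c44))))))
theorem f643590 : Led Lsl_cf (LP (LK LD1_c20 LD2_c41 LD3_c28)) = (LP (LK LD1_c17 LD2_c9 LD3_c4)) :=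
  Lgr Lrot58 (Lpe (f428300 IH) (Lpe (K40.f428285 IH) (Lpr_bt (K42.f428283 IH) (Lpe (K50.f150372 IH) (Lpr_bf (K52.f643584 IH) (Lpr_ct (K52.f268367 IH) (Lpe (K52.f616336 IH) (Lpe (K52.f151887 IH) (Lpr_gf (f599802 IH) (Lpe (f599762 IH) (Lpn (LP (LK LD1_c17 LD2_c9 LD3_c4)))))))))))))
theorem f643635 : Led Lsl_ft (LP (LK LD1_c20 LD2_c41 LD3_c28)) = (LP (LK LD1_c11 LD2_c42 LD3_c47)) :=
  Lgr Lrot4 (Lpr_cf (f643590 IH) (Lpe (f622956 IH) (Lpr_cf (K46.f642952 IH) (Lpn (LP (LK LD1_c11 LD2_c42 LD3_c47))))))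
theorem f105169 : Led Lsl_ct (LP (LK LD1_c2 LD2_c55 LD3_c56)) = (LP (LK LD1_c1 LD2_c23 LD3_c55)) :=
  Lre_c IH (LK LD1_c2 LD2_c55 LD3_c56) (LK LD1_c1 LD2_c23 LD3_c55) Lrfl Lrfl
theorem f641321 : Led Lsl_ct (LP (LK LD1_c11 LD2_c42 LD3_c39)) = (LP (LK LD1_c5 LD2_c59 LD3_c3)) :=
  Lre_c IH (LK LD1_c11 LD2_c42 LD3_c39) (LK LD1_c5 LD2_c59 LD3_c3) Lrfl Lrfl
theorem f641322 : Led Lsl_dt (LP (LK LD1_c20 LD2_c43 LD3_c12)) = (LP (LK LD1_c11 LD2_c42 LD3_c39)) :=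
  Lre_d IH (LK LD1_c20 LD2_c43 LD3_c12) (LK LD1_c11 LD2_c42 LD3_c39) Lrfl Lrfl
theorem f641888 : Led Lsl_dt (LP (LK LD1_c20 LD2_c39 LD3_c49)) = (LP (LK LD1_c29 LD2_c34 LD3_c37)) :=
  Lre_d IH (LK LD1_c20 LD2_c39 LD3_c49) (LK LD1_c29 LD2_c34 LD3_c37) Lrfl Lrfl
theorem f641889 : Led Lsl_cf (LP (LK LD1_c20 LD2_c43 LD3_c12)) = (LP (LK LD1_c29 LD2_c34 LD3_c37)) :=
  Lgr Lrot118 (Lpr_dt (f641322 IH) (Lpr_ct (f641321 IH) (Lpr_dt (K52.f105164 IH) (Lpr_ct (f105169 IH) (Lpr_dt (K24.f76297 IH) (Lpr_ct (K52.f452983 IH) (Lpe (K46.f641877 IH) (Lpr_ff (K46.f641875 IH) (Lpr_dt (f641888 IH) (Lpn (LP (LK LD1_c29 LD2_c34 LD3_c37))))))))))))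
theorem f641892 : Led Lsl_ct (LP (LK LD1_c20 LD2_c43 LD3_c12)) = (LP (LK LD1_c29 LD2_c34 LD3_c37)) :=
  Lgr Lrot59 (Lpr_cf (f641889 IH) (Lpn (LP (LK LD1_c29 LD2_c34 LD3_c37))))
theorem f641895 : Led Lsl_dt (LP (LK LD1_c11 LD2_c42 LD3_c39)) = (LP (LK LD1_c20 LD2_c43 LD3_c12)) :=
  Lre_d IH (LK LD1_c11 LD2_c42 LD3_c39) (LK LD1_c20 LD2_c43 LD3_c12) Lrfl Lrfl
theorem f105170 : Led Lsl_ct (LP (LK LD1_c5 LD2_c59 LD3_c3)) = (LP (LK LD1_c11 LD2_c42 LD3_c39)) :=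
  Lre_c IH (LK LD1_c5 LD2_c59 LD3_c3) (LK LD1_c11 LD2_c42 LD3_c39) Lrfl Lrfl
theorem f641365 : Led Lsl_ct (LP (LK LD1_c5 LD2_c59 LD3_c9)) = (LP (LK LD1_c2 LD2_c55 LD3_c58)) :=
  Lre_c IH (LK LD1_c5 LD2_c59 LD3_c9) (LK LD1_c2 LD2_c55 LD3_c58) Lrfl Lrfl
theorem f641869 : Led Lsl_dt (LP (LK LD1_c11 LD2_c42 LD3_c49)) = (LP (LK LD1_c5 LD2_c59 LD3_c9)) :=
  Lre_d IH (LK LD1_c11 LD2_c42 LD3_c49) (LK LD1_c5 LD2_c59 LD3_c9) Lrfl Lrfl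
theorem f641898 : Led Lsl_ft (LP (LK LD1_c11 LD2_c42 LD3_c49)) = (LP (LK LD1_c20 LD2_c43 LD3_c32)) :=
  Lre_f IH (LK LD1_c11 LD2_c42 LD3_c49) (LK LD1_c20 LD2_c43 LD3_c32) Lrfl Lrfl
theorem f641899 : Led Lsl_at (LP (LK LD1_c20 LD2_c43 LD3_c32)) = (LP (LK LD1_c29 LD2_c34 LD3_c37)) :=
  Lgr Lrot33 (Lpe (f641898 IH) (Lpr_dt (f641869 IH) (Lpr_ct (f641365 IH) (Lpr_dt (K41.f105166 IH) (Lpr_ct (K52.f105165 IH) (Lpr_dt (K52.f105153 IH) (Lpr_ct (f105170 IH) (Lpr_dt (f641895 IH) (Lpr_ct (f641892 IH) (Lpn (LP (LK LD1_c29 LD2_c34 LD3_c37))))))))))))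
theorem f641847 : Led Lsl_dt (LP (LK LD1_c11 LD2_c42 LD3_c50)) = (LP (LK LD1_c20 LD2_c43 LD3_c32)) :=
  Lre_d IH (LK LD1_c11 LD2_c42 LD3_c50) (LK LD1_c20 LD2_c43 LD3_c32) Lrfl Lrfl
theorem f641159 : Led Lsl_dt (LP (LK LD1_c29 LD2_c34 LD3_c37)) = (LP (LK LD1_c20 LD2_c39 LD3_c49)) :=
  Lre_d IH (LK LD1_c29 LD2_c34 LD3_c37) (LK LD1_c20 LD2_c39 LD3_c49) Lrfl Lrfl
theorem f641905 : Led Lsl_af (LP (LK LD1_c11 LD2_c42 LD3_c50)) = (LP (LK LD1_c20 LD2_c39 LD3_c49)) :=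
  Lgr Lrot117 (Lpr_dt (f641847 IH) (Lpr_at (f641899 IH) (Lpr_dt (f641159 IH) (Lpn (LP (LK LD1_c20 LD2_c39 LD3_c49))))))
theorem f641160 : Led Lsl_ct (LP (LK LD1_c20 LD2_c39 LD3_c49)) = (LP (LK LD1_c11 LD2_c39 LD3_c49)) :=
  Lre_c IH (LK LD1_c20 LD2_c39 LD3_c49) (LK LD1_c11 LD2_c39 LD3_c49) Lrfl Lrfl
theorem f641865 : Led Lsl_ft (LP (LK LD1_c11 LD2_c41 LD3_c30)) = (LP (LK LD1_c20 LD2_c39 LD3_c49)) :=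
  Lgr Lrot4 (Lpe (K40.f428285 IH) (Lpr_ff (K42.f641855 IH) (Lpe (f641160 IH) (Lpn (LP (LK LD1_c20 LD2_c39 LD3_c49))))))
theorem f641929 : Led Lsl_gf (LP (LK LD1_c11 LD2_c42 LD3_c50)) = (LP (LK LD1_c20 LD2_c41 LD3_c28)) :=
  Lgr Lrot76 (Lpr_af (f641905 IH) (Lpe (f641865 IH) (Lpr_gt (f428300 IH) (Lpn (LP (LK LD1_c20 LD2_c41 LD3_c28))))))
theorem f641931 : Led Lsl_gt (LP (LK LD1_c11 LD2_c42 LD3_c50)) = (LP (LK LD1_c20 LD2_c41 LD3_c29)) :=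
  Lre_g IH (LK LD1_c11 LD2_c42 LD3_c50) (LK LD1_c20 LD2_c41 LD3_c29) Lrfl Lrfl
theorem f643653 : Led Lsl_af (LP (LK LD1_c20 LD2_c41 LD3_c29)) = (LP (LK LD1_c11 LD2_c42 LD3_c47)) :=
  Lgr Lrot31 (Lpe (f641931 IH) (Lpr_gf (f641929 IH) (Lpr_ft (f643635 IH) (Lpn (LP (LK LD1_c11 LD2_c42 LD3_c47))))))
theorem f643655 : Led Lsl_at (LP (LK LD1_c20 LD2_c41 LD3_c29)) = (LP (LK LD1_c11 LD2_c42 LD3_c47)) :=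
  Lgr Lrot100 (Lpr_af (f643653 IH) (Lpn (LP (LK LD1_c11 LD2_c42 LD3_c47))))
theorem f641878 : Led Lsl_ft (LP (LK LD1_c5 LD2_c59 LD3_c9)) = (LP (LK LD1_c11 LD2_c42 LD3_c50)) :=
  Lre_f IH (LK LD1_c5 LD2_c59 LD3_c9) (LK LD1_c11 LD2_c42 LD3_c50) Lrfl Lrfl
theorem f641879 : Led Lsl_at (LP (LK LD1_c11 LD2_c42 LD3_c50)) = (LP (LK LD1_c20 LD2_c39 LD3_c49)) :=
  Lgr Lrot66 (Lpe (f641878 IH) (Lpe (K46.f641877 IH) (Lpr_ff (K46.f641875 IH) (Lpn (LP (LK LD1_c20 LD2_c39 LD3_c49))))))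
theorem f452984 : Led Lsl_gt (LP (LK LD1_c5 LD2_c59 LD3_c9)) = (LP (LK LD1_c11 LD2_c42 LD3_c46)) :=
  Lre_g IH (LK LD1_c5 LD2_c59 LD3_c9) (LK LD1_c11 LD2_c42 LD3_c46) Lrfl Lrfl
theorem f641937 : Led Lsl_gt (LP (LK LD1_c11 LD2_c42 LD3_c46)) = (LP (LK LD1_c20 LD2_c39 LD3_c49)) :=
  Lgr Lrot46 (Lpe (f452984 IH) (Lpr_ft (f641878 IH) (Lpr_at (f641879 IH) (Lpn (LP (LK LD1_c20 LD2_c39 LD3_c49))))))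
theorem f643657 : Led Lsl_ff (LP (LK LD1_c20 LD2_c41 LD3_c29)) = (LP (LK LD1_c11 LD2_c42 LD3_c46)) :=
  Lgr Lrot52 (Lpr_at (f643655 IH) (Lpr_gf (K46.f641886 IH) (Lpe (f641937 IH) (Lpn (LP (LK LD1_c11 LD2_c42 LD3_c46))))))
theorem f643661 : Led Lsl_ft (LP (LK LD1_c20 LD2_c41 LD3_c29)) = (LP (LK LD1_c11 LD2_c42 LD3_c46)) :=
  Lgr Lrot48 (Lpr_ff (f643657 IH) (Lpn (LP (LK LD1_c11 LD2_c42 LD3_c46))))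
theorem f643663 : Led Lsl_af (LP (LK LD1_c20 LD2_c41 LD3_c28)) = (LP (LK LD1_c11 LD2_c42 LD3_c46)) :=
  Lgr Lrot45 (Lpr_ft (f643635 IH) (Lpe (f643653 IH) (Lpr_ft (f643661 IH) (Lpn (LP (LK LD1_c11 LD2_c42 LD3_c46))))))
theorem f643633 : Led Lsl_ct (LP (LK LD1_c20 LD2_c41 LD3_c28)) = (LP (LK LD1_c17 LD2_c9 LD3_c4)) :=
  Lgr Lrot59 (Lpr_cf (f643590 IH) (Lpn (LP (LK LD1_c17 LD2_c9 LD3_c4))))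
theorem f641939 : Led Lsl_ct (LP (LK LD1_c20 LD2_c43 LD3_c23)) = (LP (LK LD1_c11 LD2_c42 LD3_c46)) :=
  Lre_c IH (LK LD1_c20 LD2_c43 LD3_c23) (LK LD1_c11 LD2_c42 LD3_c46) Lrfl Lrfl
theorem f643667 : Led Lsl_at (LP (LK LD1_c17 LD2_c9 LD3_c4)) = (LP (LK LD1_c20 LD2_c43 LD3_c23)) :=
  Lgr Lrot107 (Lpe (f643633 IH) (Lpr_af (f643663 IH) (Lpe (f641939 IH) (Lpn (LP (LK LD1_c20 LD2_c43 LD3_c23))))))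
theorem f643853 : Led Lsl_ff (LP (LK LD1_c17 LD2_c58 LD3_c37)) = (LP (LK LD1_c20 LD2_c43 LD3_c23)) :=
  Lgr Lrot30 (Lpr_at (f643845 IH) (Lpr_ft (f622956 IH) (Lpr_at (f643667 IH) (Lpn (LP (LK LD1_c20 LD2_c43 LD3_c23))))))
theorem f643857 : Led Lsl_ft (LP (LK LD1_c17 LD2_c58 LD3_c37)) = (LP (LK LD1_c20 LD2_c43 LD3_c23)) :=
  Lgr Lrot48 (Lpr_ff (f643853 IH) (Lpn (LP (LK LD1_c20 LD2_c43 LD3_c23))))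
theorem f643669 : Led Lsl_af (LP (LK LD1_c17 LD2_c9 LD3_c4)) = (LP (LK LD1_c20 LD2_c43 LD3_c23)) :=
  Lgr Lrot0 (Lpr_at (f643667 IH) (Lpn (LP (LK LD1_c20 LD2_c43 LD3_c23))))
theorem f643859 : Led Lsl_gt (LP (LK LD1_c9 LD2_c48 LD3_c23)) = (LP (LK LD1_c17 LD2_c9 LD3_c4)) :=
  Lgr Lrot46 (Lpe (f76264 IH) (Lpr_ft (f643857 IH) (Lpe (f643669 IH) (Lpn (LP (LK LD1_c17 LD2_c9 LD3_c4))))))
theorem f74982 : Led Lsl_dt (LP (LK LD1_c9 LD2_c48 LD3_c23)) = (LP (LK LD1_c4 LD2_c58 LD3_c60)) :=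
  Lre_d IH (LK LD1_c9 LD2_c48 LD3_c23) (LK LD1_c4 LD2_c58 LD3_c60) Lrfl Lrfl
theorem f74977 : Led Lsl_gt (LP (LK LD1_c4 LD2_c58 LD3_c60)) = (LP (LK LD1_c9 LD2_c48 LD3_c21)) :=
  Lre_g IH (LK LD1_c4 LD2_c58 LD3_c60) (LK LD1_c9 LD2_c48 LD3_c21) Lrfl Lrfl
theorem f428150 : Led Lsl_ct (LP (LK LD1_c11 LD2_c42 LD3_c50)) = (LP (LK LD1_c5 LD2_c59 LD3_c10)) :=
  Lre_c IH (LK LD1_c11 LD2_c42 LD3_c50) (LK LD1_c5 LD2_c59 LD3_c10) Lrfl Lrfl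
theorem f502245 : Led Lsl_dt (LP (LK LD1_c2 LD2_c55 LD3_c59)) = (LP (LK LD1_c5 LD2_c59 LD3_c10)) :=
  Lre_d IH (LK LD1_c2 LD2_c55 LD3_c59) (LK LD1_c5 LD2_c59 LD3_c10) Lrfl Lrfl
theorem f502244 : Led Lsl_ct (LP (LK LD1_c5 LD2_c59 LD3_c4)) = (LP (LK LD1_c2 LD2_c55 LD3_c59)) :=
  Lre_c IH (LK LD1_c5 LD2_c59 LD3_c4) (LK LD1_c2 LD2_c55 LD3_c59) Lrfl Lrfl
theorem f72680 : Led Lsl_bt (LP (LK LD1_c2 LD2_c56 LD3_c24)) = (LP (LK LD1_c6 LD2_c0 LD3_c10)) :=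
  Lre_b IH (LK LD1_c2 LD2_c56 LD3_c24) (LK LD1_c6 LD2_c0 LD3_c10) Lrfl Lrfl
theorem f105179 : Led Lsl_bt (LP (LK LD1_c9 LD2_c30 LD3_c16)) = (LP (LK LD1_c4 LD2_c48 LD3_c54)) :=
  Lre_b IH (LK LD1_c9 LD2_c30 LD3_c16) (LK LD1_c4 LD2_c48 LD3_c54) Lrfl Lrfl
theorem f502147 : Led Lsl_ft (LP (LK LD1_c6 LD2_c0 LD3_c10)) = (LP (LK LD1_c9 LD2_c30 LD3_c16)) :=
  Lgr Lrot75 (Lpe (f72680 IH) (Lpr_ff (K37.f502099 IH) (Lpe (f105179 IH) (Lpn (LP (LK LD1_c9 LD2_c30 LD3_c16))))))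
theorem f502157 : Led Lsl_ff (LP (LK LD1_c6 LD2_c0 LD3_c10)) = (LP (LK LD1_c9 LD2_c30 LD3_c16)) :=
  Lgr Lrot3 (Lpr_ft (f502147 IH) (Lpn (LP (LK LD1_c9 LD2_c30 LD3_c16))))
theorem f502160 : Led Lsl_ft (LP (LK LD1_c2 LD2_c56 LD3_c23)) = (LP (LK LD1_c4 LD2_c48 LD3_c53)) :=
  Lgr Lrot54 (Lpe (K43.f110367 IH) (Lpr_ff (f502157 IH) (Lpe (K4.f103174 IH) (Lpn (LP (LK LD1_c4 LD2_c48 LD3_c53))))))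
theorem f502164 : Led Lsl_af (LP (LK LD1_c9 LD2_c23 LD3_c53)) = (LP (LK LD1_c4 LD2_c48 LD3_c53)) :=
  Lgr Lrot45 (Lpr_ft (K36.f110362 IH) (Lpr_at (K36.f110361 IH) (Lpr_ft (f502160 IH) (Lpn (LP (LK LD1_c4 LD2_c48 LD3_c53))))))
theorem f110379 : Led Lsl_et (LP (LK LD1_c9 LD2_c23 LD3_c53)) = (LP (LK LD1_c17 LD2_c20 LD3_c48)) :=
  Lre_e IH (LK LD1_c9 LD2_c23 LD3_c53) (LK LD1_c17 LD2_c20 LD3_c48) Lrfl Lrfl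
theorem f103179 : Led Lsl_et (LP (LK LD1_c9 LD2_c30 LD3_c17)) = (LP (LK LD1_c4 LD2_c48 LD3_c53)) :=
  Lre_e IH (LK LD1_c9 LD2_c30 LD3_c17) (LK LD1_c4 LD2_c48 LD3_c53) Lrfl Lrfl
theorem f502170 : Led Lsl_at (LP (LK LD1_c17 LD2_c20 LD3_c48)) = (LP (LK LD1_c9 LD2_c30 LD3_c17)) :=
  Lgr Lrot80 (Lpe (f110379 IH) (Lpr_af (f502164 IH) (Lpe (f103179 IH) (Lpn (LP (LK LD1_c9 LD2_c30 LD3_c17))))))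
theorem f502172 : Led Lsl_af (LP (LK LD1_c17 LD2_c20 LD3_c48)) = (LP (LK LD1_c9 LD2_c30 LD3_c17)) :=
  Lgr Lrot0 (Lpr_at (f502170 IH) (Lpn (LP (LK LD1_c9 LD2_c30 LD3_c17))))
theorem f501534 : Led Lsl_et (LP (LK LD1_c11 LD2_c44 LD3_c5)) = (LP (LK LD1_c5 LD2_c59 LD3_c48)) :=
  Lre_e IH (LK LD1_c11 LD2_c44 LD3_c5) (LK LD1_c5 LD2_c59 LD3_c48) Lrfl Lrfl
theorem f501535 : Led Lsl_bf (LP (LK LD1_c11 LD2_c44 LD3_c5)) = (LP (LK LD1_c17 LD2_c20 LD3_c48)) :=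
  Lgr Lrot96 (Lpr_et (f501534 IH) (Lpr_bt (K36.f501525 IH) (Lpr_et (f110379 IH) (Lpn (LP (LK LD1_c17 LD2_c20 LD3_c48))))))
theorem f502185 : Led Lsl_at (LP (LK LD1_c11 LD2_c44 LD3_c5)) = (LP (LK LD1_c5 LD2_c59 LD3_c50)) :=
  Lre_a IH (LK LD1_c11 LD2_c44 LD3_c5) (LK LD1_c5 LD2_c59 LD3_c50) Lrfl Lrfl
theorem f502186 : Led Lsl_bt (LP (LK LD1_c5 LD2_c59 LD3_c50)) = (LP (LK LD1_c2 LD2_c56 LD3_c15)) :=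
  Lre_b IH (LK LD1_c5 LD2_c59 LD3_c50) (LK LD1_c2 LD2_c56 LD3_c15) Lrfl Lrfl
theorem f502187 : Led Lsl_bt (LP (LK LD1_c4 LD2_c48 LD3_c55)) = (LP (LK LD1_c9 LD2_c30 LD3_c17)) :=
  Lre_b IH (LK LD1_c4 LD2_c48 LD3_c55) (LK LD1_c9 LD2_c30 LD3_c17) Lrfl Lrfl
theorem f502188 : Led Lsl_at (LP (LK LD1_c2 LD2_c56 LD3_c15)) = (LP (LK LD1_c4 LD2_c48 LD3_c55)) :=
  Lgr Lrot67 (Lpe (f502186 IH) (Lpe (f502185 IH) (Lpr_bf (f501535 IH) (Lpr_af (f502172 IH) (Lpe (f502187 IH) (Lpn (LP (LK LD1_c4 LD2_c48 LD3_c55))))))))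
theorem f502192 : Led Lsl_af (LP (LK LD1_c5 LD2_c59 LD3_c55)) = (LP (LK LD1_c9 LD2_c30 LD3_c20)) :=
  Lgr Lrot117 (Lpr_dt (K40.f500810 IH) (Lpr_at (f502188 IH) (Lpr_dt (K52.f158500 IH) (Lpn (LP (LK LD1_c9 LD2_c30 LD3_c20))))))
theorem f502195 : Led Lsl_at (LP (LK LD1_c5 LD2_c59 LD3_c55)) = (LP (LK LD1_c9 LD2_c30 LD3_c20)) :=
  Lgr Lrot100 (Lpr_af (f502192 IH) (Lpn (LP (LK LD1_c9 LD2_c30 LD3_c20))))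
theorem f502234 : Led Lsl_ft (LP (LK LD1_c11 LD2_c44 LD3_c22)) = (LP (LK LD1_c5 LD2_c59 LD3_c55)) :=
  Lre_f IH (LK LD1_c11 LD2_c44 LD3_c22) (LK LD1_c5 LD2_c59 LD3_c55) Lrfl Lrfl
theorem f158501 : Led Lsl_gt (LP (LK LD1_c17 LD2_c31 LD3_c43)) = (LP (LK LD1_c9 LD2_c30 LD3_c20)) :=
  Lre_g IH (LK LD1_c17 LD2_c31 LD3_c43) (LK LD1_c9 LD2_c30 LD3_c20) Lrfl Lrfl
theorem f502235 : Led Lsl_gt (LP (LK LD1_c11 LD2_c44 LD3_c22)) = (LP (LK LD1_c17 LD2_c31 LD3_c43)) :=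
  Lgr Lrot5 (Lpr_ft (f502234 IH) (Lpr_at (f502195 IH) (Lpe (f158501 IH) (Lpn (LP (LK LD1_c17 LD2_c31 LD3_c43))))))
theorem f501458 : Led Lsl_dt (LP (LK LD1_c5 LD2_c59 LD3_c56)) = (LP (LK LD1_c11 LD2_c44 LD3_c22)) :=
  Lre_d IH (LK LD1_c5 LD2_c59 LD3_c56) (LK LD1_c11 LD2_c44 LD3_c22) Lrfl Lrfl
theorem f425910 : Led Lsl_et (LP (LK LD1_c11 LD2_c44 LD3_c58)) = (LP (LK LD1_c6 LD2_c0 LD3_c13)) :=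
  Lre_e IH (LK LD1_c11 LD2_c44 LD3_c58) (LK LD1_c6 LD2_c0 LD3_c13) Lrfl Lrfl
theorem f499913 : Led Lsl_gf (LP (LK LD1_c5 LD2_c50 LD3_c4)) = (LP (LK LD1_c2 LD2_c55 LD3_c33)) :=
  Lgr Lrot144 (Lpr_dt (K53.f496620 IH) (Lpe (K37.f161291 IH) (Lpr_dt (K37.f72668 IH) (Lpe (K8.f72661 IH) (Lpe (K11.f75042 IH) (Lpe (K8.f72884 IH) (Lpe (K5.f72841 IH) (Lpr_gf (K28.f426305 IH) (Lpe (K24.f426034 IH) (Lpn (LP (LK LD1_c2 LD2_c55 LD3_c33))))))))))))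
theorem f499916 : Led Lsl_et (LP (LK LD1_c5 LD2_c58 LD3_c26)) = (LP (LK LD1_c2 LD2_c55 LD3_c33)) :=
  Lre_e IH (LK LD1_c5 LD2_c58 LD3_c26) (LK LD1_c2 LD2_c55 LD3_c33) Lrfl Lrfl
theorem f499917 : Led Lsl_dt (LP (LK LD1_c5 LD2_c58 LD3_c26)) = (LP (LK LD1_c11 LD2_c41 LD3_c28)) :=
  Lre_d IH (LK LD1_c5 LD2_c58 LD3_c26) (LK LD1_c11 LD2_c41 LD3_c28) Lrfl Lrfl
theorem f428362 : Led Lsl_gt (LP (LK LD1_c20 LD2_c41 LD3_c26)) = (LP (LK LD1_c11 LD2_c41 LD3_c28)) :=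
  Lre_g IH (LK LD1_c20 LD2_c41 LD3_c26) (LK LD1_c11 LD2_c41 LD3_c28) Lrfl Lrfl
theorem f156788 : Led Lsl_et (LP (LK LD1_c1 LD2_c24 LD3_c3)) = (LP (LK LD1_c2 LD2_c56 LD3_c25)) :=
  Lre_e IH (LK LD1_c1 LD2_c24 LD3_c3) (LK LD1_c2 LD2_c56 LD3_c25) Lrfl Lrfl
theorem f499918 : Led Lsl_df (LP (LK LD1_c20 LD2_c41 LD3_c26)) = (LP (LK LD1_c11 LD2_c44 LD3_c58)) :=
  Lgr Lrot170 (Lpr_gt (f428362 IH) (Lpe (f499917 IH) (Lpr_et (f499916 IH) (Lpe (f499913 IH) (Lpr_dt (K53.f496620 IH) (Lpe (K37.f161291 IH) (Lpe (K37.f72650 IH) (Lpr_et (f156788 IH) (Lpr_gt (K49.f425907 IH) (Lpe (f425910 IH) (Lpn (LP (LK LD1_c11 LD2_c44 LD3_c58)))))))))))))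
theorem f499926 : Led Lsl_gt (LP (LK LD1_c11 LD2_c42 LD3_c40)) = (LP (LK LD1_c20 LD2_c41 LD3_c26)) :=
  Lre_g IH (LK LD1_c11 LD2_c42 LD3_c40) (LK LD1_c20 LD2_c41 LD3_c26) Lrfl Lrfl
theorem f499927 : Led Lsl_dt (LP (LK LD1_c5 LD2_c59 LD3_c4)) = (LP (LK LD1_c11 LD2_c42 LD3_c40)) :=
  Lre_d IH (LK LD1_c5 LD2_c59 LD3_c4) (LK LD1_c11 LD2_c42 LD3_c40) Lrfl Lrfl
theorem f72638 : Led Lsl_ft (LP (LK LD1_c5 LD2_c57 LD3_c35)) = (LP (LK LD1_c2 LD2_c55 LD3_c55)) :=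
  Lre_f IH (LK LD1_c5 LD2_c57 LD3_c35) (LK LD1_c2 LD2_c55 LD3_c55) Lrfl Lrfl
theorem f72808 : Led Lsl_at (LP (LK LD1_c2 LD2_c55 LD3_c55)) = (LP (LK LD1_c5 LD2_c58 LD3_c25)) :=
  Lre_a IH (LK LD1_c2 LD2_c55 LD3_c55) (LK LD1_c5 LD2_c58 LD3_c25) Lrfl Lrfl
theorem f427450 : Led Lsl_gt (LP (LK LD1_c9 LD2_c29 LD3_c59)) = (LP (LK LD1_c5 LD2_c58 LD3_c25)) :=
  Lgr Lrot46 (Lpr_gf (K44.f426291 IH) (Lpr_ft (f72638 IH) (Lpr_at (f72808 IH) (Lpn (LP (LK LD1_c5 LD2_c58 LD3_c25))))))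
theorem f158499 : Led Lsl_et (LP (LK LD1_c4 LD2_c48 LD3_c55)) = (LP (LK LD1_c2 LD2_c22 LD3_c19)) :=
  Lre_e IH (LK LD1_c4 LD2_c48 LD3_c55) (LK LD1_c2 LD2_c22 LD3_c19) Lrfl Lrfl
theorem f427452 : Led Lsl_et (LP (LK LD1_c2 LD2_c55 LD3_c33)) = (LP (LK LD1_c5 LD2_c58 LD3_c26)) :=
  Lre_e IH (LK LD1_c2 LD2_c55 LD3_c33) (LK LD1_c5 LD2_c58 LD3_c26) Lrfl Lrfl
theorem f427386 : Led Lsl_gt (LP (LK LD1_c5 LD2_c58 LD3_c26)) = (LP (LK LD1_c11 LD2_c41 LD3_c26)) :=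
  Lre_g IH (LK LD1_c5 LD2_c58 LD3_c26) (LK LD1_c11 LD2_c41 LD3_c26) Lrfl Lrfl
theorem f427453 : Led Lsl_et (LP (LK LD1_c20 LD2_c41 LD3_c23)) = (LP (LK LD1_c11 LD2_c41 LD3_c26)) :=
  Lre_e IH (LK LD1_c20 LD2_c41 LD3_c23) (LK LD1_c11 LD2_c41 LD3_c26) Lrfl Lrfl
theorem f427454 : Led Lsl_df (LP (LK LD1_c17 LD2_c31 LD3_c43)) = (LP (LK LD1_c20 LD2_c41 LD3_c23)) :=
  Lgr Lrot170 (Lpr_gt (f158501 IH) (Lpe (K52.f158500 IH) (Lpr_et (f158499 IH) (Lpe (K8.f158492 IH) (Lpr_dt (K8.f137606 IH) (Lpr_gt (f427450 IH) (Lpe (f426054 IH) (Lpr_et (f427452 IH) (Lpr_gt (f427386 IH) (Lpe (f427453 IH) (Lpn (LP (LK LD1_c20 LD2_c41 LD3_c23)))))))))))))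
theorem f502240 : Led Lsl_gf (LP (LK LD1_c5 LD2_c59 LD3_c4)) = (LP (LK LD1_c11 LD2_c41 LD3_c26)) :=
  Lgr Lrot138 (Lpr_dt (f499927 IH) (Lpr_gt (f499926 IH) (Lpr_df (f499918 IH) (Lpr_et (f425910 IH) (Lpr_gt (K49.f501988 IH) (Lpr_ef (K36.f501450 IH) (Lpr_dt (f501458 IH) (Lpr_gt (f502235 IH) (Lpr_df (f427454 IH) (Lpr_et (f427453 IH) (Lpn (LP (LK LD1_c11 LD2_c41 LD3_c26)))))))))))))
theorem f643861 : Led Lsl_ct (LP (LK LD1_c9 LD2_c48 LD3_c21)) = (LP (LK LD1_c11 LD2_c41 LD3_c26)) :=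
  Lgr Lrot152 (Lpe (f74977 IH) (Lpe (f74982 IH) (Lpr_gt (f643859 IH) (Lpe (f643590 IH) (Lpe (f641929 IH) (Lpr_ct (f428150 IH) (Lpe (f502245 IH) (Lpe (f502244 IH) (Lpr_gf (f502240 IH) (Lpn (LP (LK LD1_c11 LD2_c41 LD3_c26))))))))))))
theorem f427390 : Led Lsl_ct (LP (LK LD1_c2 LD2_c55 LD3_c37)) = (LP (LK LD1_c5 LD2_c58 LD3_c26)) :=
  Lre_c IH (LK LD1_c2 LD2_c55 LD3_c37) (LK LD1_c5 LD2_c58 LD3_c26) Lrfl Lrfl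
theorem f643869 : Led Lsl_bt (LP (LK LD1_c9 LD2_c48 LD3_c21)) = (LP (LK LD1_c5 LD2_c52 LD3_c3)) :=
  Lgr Lrot22 (Lpr_ct (f643861 IH) (Lpe (f427386 IH) (Lpe (f427390 IH) (Lpr_gf (K41.f641333 IH) (Lpq (K41.f642149 IH) (Lpq (K41.f641739 IH) (Lpe (K41.f144092 IH) (Lpe (K41.f144093 IH) (Lpr_gf (K32.f151920 IH) (Lpr_cf (K7.f22554 IH) (Lpr_bt (K7.f22550 IH) (Lpe (f22570 IH) (Lpn (LP (LK LD1_c5 LD2_c52 LD3_c3)))))))))))))))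
theorem f643871 : Led Lsl_bf (LP (LK LD1_c9 LD2_c48 LD3_c21)) = (LP (LK LD1_c5 LD2_c52 LD3_c3)) :=
  Lgr Lrot24 (Lpr_bt (f643869 IH) (Lpn (LP (LK LD1_c5 LD2_c52 LD3_c3))))
theorem f746239 : Led Lsl_ff (LP (LK LD1_c5 LD2_c52 LD3_c27)) = (LP (LK LD1_c9 LD2_c48 LD3_c21)) :=
  Lgr Lrot25 (Lpr_bt (K53.f22541 IH) (Lpq (f746116 IH) (Lpe (f745041 IH) (Lpe (f643871 IH) (Lpn (LP (LK LD1_c9 LD2_c48 LD3_c21)))))))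
theorem f746243 : Led Lsl_ft (LP (LK LD1_c5 LD2_c52 LD3_c27)) = (LP (LK LD1_c9 LD2_c48 LD3_c21)) :=
  Lgr Lrot48 (Lpr_ff (f746239 IH) (Lpn (LP (LK LD1_c9 LD2_c48 LD3_c21))))
theorem f642996 : Led Lsl_cf (LP (LK LD1_c5 LD2_c52 LD3_c27)) = (LP (LK LD1_c5 LD2_c59 LD3_c2)) :=
  Lgr Lrot11 (Lpr_ct (K53.f642988 IH) (Lpn (LP (LK LD1_c5 LD2_c59 LD3_c2))))
theorem f746245 : Led Lsl_ff (LP (LK LD1_c5 LD2_c59 LD3_c2)) = (LP (LK LD1_c11 LD2_c41 LD3_c26)) :=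
  Lgr Lrot23 (Lpe (f642996 IH) (Lpr_ft (f746243 IH) (Lpr_ct (f643861 IH) (Lpn (LP (LK LD1_c11 LD2_c41 LD3_c26))))))
theorem f642124 : Led Lsl_gt (LP (LK LD1_c11 LD2_c20 LD3_c3)) = (LP (LK LD1_c20 LD2_c17 LD3_c15)) :=
  Lre_g IH (LK LD1_c11 LD2_c20 LD3_c3) (LK LD1_c20 LD2_c17 LD3_c15) Lrfl Lrfl
theorem f746079 : Led Lsl_bt (LP (LK LD1_c20 LD2_c28 LD3_c8)) = (LP (LK LD1_c11 LD2_c31 LD3_c30)) :=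
  Lre_b IH (LK LD1_c20 LD2_c28 LD3_c8) (LK LD1_c11 LD2_c31 LD3_c30) Lrfl Lrfl
theorem f746080 : Led Lsl_cf (LP (LK LD1_c20 LD2_c17 LD3_c15)) = (LP (LK LD1_c20 LD2_c28 LD3_c8)) :=
  Lgr Lrot163 (Lpe (f642124 IH) (Lpe (f639004 IH) (Lpr_gf (K50.f642122 IH) (Lpe (K52.f144081 IH) (Lpe (K32.f144078 IH) (Lpr_gf (K32.f438816 IH) (Lpe (K32.f413502 IH) (Lpr_bt (K51.f413499 IH) (Lpr_gf (f746076 IH) (Lpe (f746079 IH) (Lpn (LP (LK LD1_c20 LD2_c28 LD3_c8)))))))))))))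
theorem f643010 : Led Lsl_ft (LP (LK LD1_c11 LD2_c31 LD3_c26)) = (LP (LK LD1_c20 LD2_c28 LD3_c8)) :=
  Lre_f IH (LK LD1_c11 LD2_c31 LD3_c26) (LK LD1_c20 LD2_c28 LD3_c8) Lrfl Lrfl
theorem f746084 : Led Lsl_ft (LP (LK LD1_c20 LD2_c17 LD3_c15)) = (LP (LK LD1_c11 LD2_c42 LD3_c36)) :=
  Lgr Lrot4 (Lpr_cf (f746080 IH) (Lpe (f643010 IH) (Lpr_cf (K53.f643002 IH) (Lpn (LP (LK LD1_c11 LD2_c42 LD3_c36))))))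
theorem f746088 : Led Lsl_ff (LP (LK LD1_c20 LD2_c17 LD3_c15)) = (LP (LK LD1_c11 LD2_c42 LD3_c36)) :=
  Lgr Lrot3 (Lpr_ft (f746084 IH) (Lpn (LP (LK LD1_c11 LD2_c42 LD3_c36))))
theorem f739987 : Led Lsl_gf (LP (LK LD1_c11 LD2_c20 LD3_c16)) = (LP (LK LD1_c20 LD2_c17 LD3_c15)) :=
  Lgr Lrot76 (Lpe (f739973 IH) (Lpr_ff (f739979 IH) (Lpr_gt (f642124 IH) (Lpn (LP (LK LD1_c20 LD2_c17 LD3_c15))))))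
theorem f500786 : Led Lsl_et (LP (LK LD1_c2 LD2_c56 LD3_c15)) = (LP (LK LD1_c1 LD2_c24 LD3_c0)) :=
  Lre_e IH (LK LD1_c2 LD2_c56 LD3_c15) (LK LD1_c1 LD2_c24 LD3_c0) Lrfl Lrfl
theorem f502220 : Led Lsl_dt (LP (LK LD1_c2 LD2_c56 LD3_c15)) = (LP (LK LD1_c5 LD2_c59 LD3_c55)) :=
  Lre_d IH (LK LD1_c2 LD2_c56 LD3_c15) (LK LD1_c5 LD2_c59 LD3_c55) Lrfl Lrfl
theorem f641407 : Led Lsl_gt (LP (LK LD1_c5 LD2_c59 LD3_c55)) = (LP (LK LD1_c11 LD2_c44 LD3_c19)) :=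
  Lre_g IH (LK LD1_c5 LD2_c59 LD3_c55) (LK LD1_c11 LD2_c44 LD3_c19) Lrfl Lrfl
theorem f715406 : Led Lsl_dt (LP (LK LD1_c20 LD2_c45 LD3_c39)) = (LP (LK LD1_c11 LD2_c44 LD3_c19)) :=
  Lre_d IH (LK LD1_c20 LD2_c45 LD3_c39) (LK LD1_c11 LD2_c44 LD3_c19) Lrfl Lrfl
theorem f739989 : Led Lsl_et (LP (LK LD1_c20 LD2_c45 LD3_c39)) = (LP (LK LD1_c20 LD2_c17 LD3_c15)) :=
  Lgr Lrot121 (Lpr_dt (f715406 IH) (Lpe (f641407 IH) (Lpe (f502220 IH) (Lpr_et (f500786 IH) (Lpe (K2.f72641 IH) (Lpe (K53.f150379 IH) (Lpr_dt (K53.f150404 IH) (Lpe (K53.f715402 IH) (Lpe (K41.f76025 IH) (Lpr_gf (f739987 IH) (Lpn (LP (LK LD1_c20 LD2_c17 LD3_c15)))))))))))))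
theorem f739993 : Led Lsl_ef (LP (LK LD1_c20 LD2_c45 LD3_c39)) = (LP (LK LD1_c20 LD2_c17 LD3_c15)) :=
  Lgr Lrot88 (Lpr_et (f739989 IH) (Lpn (LP (LK LD1_c20 LD2_c17 LD3_c15))))
theorem f746251 : Led Lsl_ft (LP (LK LD1_c20 LD2_c45 LD3_c39)) = (LP (LK LD1_c20 LD2_c41 LD3_c23)) :=
  Lgr Lrot86 (Lpr_ef (f739993 IH) (Lpr_ff (f746088 IH) (Lpe (K53.f643001 IH) (Lpr_ff (f746245 IH) (Lpe (f427453 IH) (Lpn (LP (LK LD1_c20 LD2_c41 LD3_c23))))))))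
theorem f739991 : Led Lsl_dt (LP (LK LD1_c11 LD2_c44 LD3_c19)) = (LP (LK LD1_c20 LD2_c45 LD3_c39)) :=
  Lre_d IH (LK LD1_c11 LD2_c44 LD3_c19) (LK LD1_c20 LD2_c45 LD3_c39) Lrfl Lrfl
theorem f746267 : Led Lsl_ff (LP (LK LD1_c11 LD2_c44 LD3_c19)) = (LP (LK LD1_c17 LD2_c31 LD3_c43)) :=
  Lgr Lrot19 (Lpr_dt (f739991 IH) (Lpr_ft (f746251 IH) (Lpe (f427454 IH) (Lpn (LP (LK LD1_c17 LD2_c31 LD3_c43))))))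
theorem f203161 : Led Lsl_gt (LP (LK LD1_c9 LD2_c30 LD3_c20)) = (LP (LK LD1_c17 LD2_c31 LD3_c42)) :=
  Lre_g IH (LK LD1_c9 LD2_c30 LD3_c20) (LK LD1_c17 LD2_c31 LD3_c42) Lrfl Lrfl
theorem f746282 : Led Lsl_at (LP (LK LD1_c11 LD2_c44 LD3_c19)) = (LP (LK LD1_c17 LD2_c31 LD3_c42)) :=
  Lgr Lrot26 (Lpr_ff (f746267 IH) (Lpr_gt (f158501 IH) (Lpr_gt (f203161 IH) (Lpn (LP (LK LD1_c17 LD2_c31 LD3_c42))))))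
theorem f746284 : Led Lsl_af (LP (LK LD1_c11 LD2_c44 LD3_c19)) = (LP (LK LD1_c17 LD2_c31 LD3_c42)) :=
  Lgr Lrot0 (Lpr_at (f746282 IH) (Lpn (LP (LK LD1_c17 LD2_c31 LD3_c42))))
theorem f502207 : Led Lsl_gt (LP (LK LD1_c11 LD2_c44 LD3_c20)) = (LP (LK LD1_c5 LD2_c59 LD3_c55)) :=
  Lre_g IH (LK LD1_c11 LD2_c44 LD3_c20) (LK LD1_c5 LD2_c59 LD3_c55) Lrfl Lrfl
theorem f746286 : Led Lsl_ft (LP (LK LD1_c11 LD2_c44 LD3_c20)) = (LP (LK LD1_c17 LD2_c31 LD3_c42)) :=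
  Lgr Lrot2 (Lpr_gt (f502207 IH) (Lpr_gt (f641407 IH) (Lpr_af (f746284 IH) (Lpn (LP (LK LD1_c17 LD2_c31 LD3_c42))))))
theorem f746295 : Led Lsl_ff (LP (LK LD1_c11 LD2_c44 LD3_c20)) = (LP (LK LD1_c17 LD2_c31 LD3_c42)) :=
  Lgr Lrot3 (Lpr_ft (f746286 IH) (Lpn (LP (LK LD1_c17 LD2_c31 LD3_c42))))
theorem f746297 : Led Lsl_at (LP (LK LD1_c11 LD2_c44 LD3_c20)) = (LP (LK LD1_c17 LD2_c31 LD3_c43)) :=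
  Lgr Lrot66 (Lpr_ff (f746295 IH) (Lpe (f746282 IH) (Lpr_ff (f746267 IH) (Lpn (LP (LK LD1_c17 LD2_c31 LD3_c43))))))
theorem f746303 : Led Lsl_gf (LP (LK LD1_c11 LD2_c44 LD3_c22)) = (LP (LK LD1_c17 LD2_c31 LD3_c42)) :=
  Lgr Lrot47 (Lpr_gt (f502235 IH) (Lpe (f746297 IH) (Lpr_ff (f746295 IH) (Lpn (LP (LK LD1_c17 LD2_c31 LD3_c42))))))
theorem f428132 : Led Lsl_dt (LP (LK LD1_c11 LD2_c40 LD3_c20)) = (LP (LK LD1_c5 LD2_c57 LD3_c41)) :=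
  Lre_d IH (LK LD1_c11 LD2_c40 LD3_c20) (LK LD1_c5 LD2_c57 LD3_c41) Lrfl Lrfl
theorem f428133 : Led Lsl_dt (LP (LK LD1_c5 LD2_c57 LD3_c41)) = (LP (LK LD1_c11 LD2_c40 LD3_c20)) :=
  Lre_d IH (LK LD1_c5 LD2_c57 LD3_c41) (LK LD1_c11 LD2_c40 LD3_c20) Lrfl Lrfl
theorem f75070 : Led Lsl_dt (LP (LK LD1_c11 LD2_c45 LD3_c10)) = (LP (LK LD1_c6 LD2_c0 LD3_c22)) :=
  Lre_d IH (LK LD1_c11 LD2_c45 LD3_c10) (LK LD1_c6 LD2_c0 LD3_c22) Lrfl Lrfl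
theorem f559356 : Led Lsl_et (LP (LK LD1_c11 LD2_c40 LD3_c20)) = (LP (LK LD1_c11 LD2_c45 LD3_c10)) :=
  Lgr Lrot71 (Lpe (f428133 IH) (Lpr_ef (K45.f559354 IH) (Lpe (K45.f501429 IH) (Lpe (f75061 IH) (Lpe (f75070 IH) (Lpn (LP (LK LD1_c11 LD2_c45 LD3_c10))))))))
def v1764 : LQ := Led Lsl_gt (LP (LK LD1_c1 LD2_c25 LD3_c53))
theorem f501343 : Led Lsl_gt (LP (LK LD1_c1 LD2_c25 LD3_c53)) = v1764 :=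
  Lrfl
theorem f559464 : (LP (LK LD1_c2 LD2_c55 LD3_c12)) = v1764 :=
  (Llr Lrot37 (Lpe (K24.f161311 IH) (Lpr_et (K32.f161310 IH) (Lpe (K8.f161296 IH) (Lpr_dt (K36.f81950 IH) (Lpr_gt (K44.f559348 IH) (Lpe (K42.f75045 IH) (Lpr_et (K39.f76136 IH) (Lpr_gt (K2.f20559 IH) (Lpe (K36.f56032 IH) (Lpr_dt (K36.f56277 IH) (Lpr_gt (f501343 IH) (Lpn v1764))))))))))))).symm
theorem f75968 : Led Lsl_et (LP (LK LD1_c3 LD2_c0 LD3_c16)) = (LP (LK LD1_c1 LD2_c25 LD3_c53)) :=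
  Lre_e IH (LK LD1_c3 LD2_c0 LD3_c16) (LK LD1_c1 LD2_c25 LD3_c53) Lrfl Lrfl
theorem f58614 : Led Lsl_dt (LP (LK LD1_c3 LD2_c0 LD3_c16)) = (LP (LK LD1_c1 LD2_c26 LD3_c9)) :=
  Lre_d IH (LK LD1_c3 LD2_c0 LD3_c16) (LK LD1_c1 LD2_c26 LD3_c9) Lrfl Lrfl
theorem f76043 : Led Lsl_dt (LP (LK LD1_c6 LD2_c8 LD3_c49)) = (LP (LK LD1_c3 LD2_c0 LD3_c41)) :=
  Lre_d IH (LK LD1_c6 LD2_c8 LD3_c49) (LK LD1_c3 LD2_c0 LD3_c41) Lrfl Lrfl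
theorem f618445 : Led Lsl_gt (LP (LK LD1_c11 LD2_c45 LD3_c10)) = (LP (LK LD1_c6 LD2_c8 LD3_c49)) :=
  Lgr Lrot137 (Lpe (f559356 IH) (Lpr_dt (f428132 IH) (Lpe (K45.f428129 IH) (Lpe (K24.f426164 IH) (Lpr_et (K24.f426177 IH) (Lpqs (f559464 IH) (Lpe (f501343 IH) (Lpe (f75968 IH) (Lpr_dt (f58614 IH) (Lpe (K52.f58504 IH) (Lpe (f76043 IH) (Lpn (LP (LK LD1_c6 LD2_c8 LD3_c49))))))))))))))
theorem f76053 : Led Lsl_dt (LP (LK LD1_c3 LD2_c0 LD3_c41)) = (LP (LK LD1_c6 LD2_c8 LD3_c49)) :=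
  Lre_d IH (LK LD1_c3 LD2_c0 LD3_c41) (LK LD1_c6 LD2_c8 LD3_c49) Lrfl Lrfl
theorem f76042 : Led Lsl_et (LP (LK LD1_c3 LD2_c0 LD3_c41)) = (LP (LK LD1_c6 LD2_c8 LD3_c50)) :=
  Lre_e IH (LK LD1_c3 LD2_c0 LD3_c41) (LK LD1_c6 LD2_c8 LD3_c50) Lrfl Lrfl
theorem f645056 : Led Lsl_gf (LP (LK LD1_c11 LD2_c39 LD3_c56)) = (LP (LK LD1_c6 LD2_c8 LD3_c50)) :=
  Lgr Lrot138 (Lpr_dt (K41.f507156 IH) (Lpr_gt (K50.f644907 IH) (Lpe (K49.f500806 IH) (Lpe (K36.f501425 IH) (Lpr_gt (K45.f501427 IH) (Lpe (f75061 IH) (Lpr_dt (f75062 IH) (Lpr_gt (f618445 IH) (Lpe (f76053 IH) (Lpr_et (f76042 IH) (Lpn (LP (LK LD1_c6 LD2_c8 LD3_c50)))))))))))))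
theorem f76059 : Led Lsl_ct (LP (LK LD1_c6 LD2_c8 LD3_c50)) = (LP (LK LD1_c11 LD2_c59 LD3_c3)) :=
  Lre_c IH (LK LD1_c6 LD2_c8 LD3_c50) (LK LD1_c11 LD2_c59 LD3_c3) Lrfl Lrfl
theorem f746288 : Led Lsl_dt (LP (LK LD1_c11 LD2_c44 LD3_c20)) = (LP (LK LD1_c11 LD2_c42 LD3_c33)) :=
  Lre_d IH (LK LD1_c11 LD2_c44 LD3_c20) (LK LD1_c11 LD2_c42 LD3_c33) Lrfl Lrfl
theorem f746299 : Led Lsl_ft (LP (LK LD1_c11 LD2_c42 LD3_c33)) = (LP (LK LD1_c20 LD2_c42 LD3_c61)) :=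
  Lre_f IH (LK LD1_c11 LD2_c42 LD3_c33) (LK LD1_c20 LD2_c42 LD3_c61) Lrfl Lrfl
theorem f746300 : Led Lsl_dt (LP (LK LD1_c20 LD2_c42 LD3_c61)) = (LP (LK LD1_c17 LD2_c31 LD3_c42)) :=
  Lgr Lrot60 (Lpe (f746299 IH) (Lpe (f746288 IH) (Lpr_ff (f746295 IH) (Lpn (LP (LK LD1_c17 LD2_c31 LD3_c42))))))
theorem f746305 : Led Lsl_gt (LP (LK LD1_c11 LD2_c59 LD3_c3)) = (LP (LK LD1_c20 LD2_c42 LD3_c61)) :=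
  Lgr Lrot94 (Lpe (f76059 IH) (Lpe (f645056 IH) (Lpr_dt (K41.f507156 IH) (Lpr_gt (K50.f644907 IH) (Lpr_dt (K40.f501443 IH) (Lpe (K40.f501440 IH) (Lpe (K40.f501455 IH) (Lpr_gf (f746303 IH) (Lpe (f746300 IH) (Lpn (LP (LK LD1_c20 LD2_c42 LD3_c61))))))))))))
theorem f744356 : Led Lsl_et (LP (LK LD1_c6 LD2_c8 LD3_c48)) = (LP (LK LD1_c11 LD2_c59 LD3_c3)) :=
  Lre_e IH (LK LD1_c6 LD2_c8 LD3_c48) (LK LD1_c11 LD2_c59 LD3_c3) Lrfl Lrfl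
theorem f76252 : Led Lsl_dt (LP (LK LD1_c6 LD2_c8 LD3_c48)) = (LP (LK LD1_c11 LD2_c59 LD3_c2)) :=
  Lre_d IH (LK LD1_c6 LD2_c8 LD3_c48) (LK LD1_c11 LD2_c59 LD3_c2) Lrfl Lrfl
theorem f156791 : Led Lsl_dt (LP (LK LD1_c11 LD2_c44 LD3_c61)) = (LP (LK LD1_c20 LD2_c46 LD3_c20)) :=
  Lre_d IH (LK LD1_c11 LD2_c44 LD3_c61) (LK LD1_c20 LD2_c46 LD3_c20) Lrfl Lrfl
theorem f645060 : Led Lsl_gt (LP (LK LD1_c2 LD2_c56 LD3_c49)) = (LP (LK LD1_c6 LD2_c0 LD3_c22)) :=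
  Lgr Lrot137 (Lpe (K53.f500846 IH) (Lpr_dt (K41.f500845 IH) (Lpe (K41.f641643 IH) (Lpe (K41.f641664 IH) (Lpe (K41.f642133 IH) (Lpr_gf (f645056 IH) (Lpe (f76042 IH) (Lpr_dt (f76053 IH) (Lpe (f618445 IH) (Lpe (f75062 IH) (Lpn (LP (LK LD1_c6 LD2_c0 LD3_c22)))))))))))))
theorem f76254 : Led Lsl_dt (LP (LK LD1_c11 LD2_c59 LD3_c2)) = (LP (LK LD1_c6 LD2_c8 LD3_c48)) :=
  Lre_d IH (LK LD1_c11 LD2_c59 LD3_c2) (LK LD1_c6 LD2_c8 LD3_c48) Lrfl Lrfl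
theorem f744354 : Led Lsl_gt (LP (LK LD1_c20 LD2_c46 LD3_c20)) = (LP (LK LD1_c11 LD2_c59 LD3_c2)) :=
  Lgr Lrot49 (Lpe (f156791 IH) (Lpr_gf (f744352 IH) (Lpe (f75937 IH) (Lpr_gt (f645060 IH) (Lpr_dt (f75062 IH) (Lpr_gt (f618445 IH) (Lpr_dt (f76043 IH) (Lpe (K52.f58625 IH) (Lpe (f76254 IH) (Lpn (LP (LK LD1_c11 LD2_c59 LD3_c2))))))))))))
theorem f641561 : Led Lsl_et (LP (LK LD1_c2 LD2_c56 LD3_c47)) = (LP (LK LD1_c6 LD2_c1 LD3_c8)) :=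
  Lre_e IH (LK LD1_c2 LD2_c56 LD3_c47) (LK LD1_c6 LD2_c1 LD3_c8) Lrfl Lrfl
theorem f642043 : Led Lsl_gt (LP (LK LD1_c11 LD2_c46 LD3_c53)) = (LP (LK LD1_c6 LD2_c1 LD3_c7)) :=
  Lre_g IH (LK LD1_c11 LD2_c46 LD3_c53) (LK LD1_c6 LD2_c1 LD3_c7) Lrfl Lrfl
theorem f720386 : Led Lsl_dt (LP (LK LD1_c20 LD2_c48 LD3_c54)) = (LP (LK LD1_c11 LD2_c46 LD3_c53)) :=
  Lre_d IH (LK LD1_c20 LD2_c48 LD3_c54) (LK LD1_c11 LD2_c46 LD3_c53) Lrfl Lrfl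
theorem f746307 : Led Lsl_et (LP (LK LD1_c20 LD2_c48 LD3_c54)) = (LP (LK LD1_c20 LD2_c42 LD3_c61)) :=
  Lgr Lrot122 (Lpr_dt (f720386 IH) (Lpr_gt (f642043 IH) (Lpe (K41.f641524 IH) (Lpr_et (f641561 IH) (Lpe (f744352 IH) (Lpr_dt (f156791 IH) (Lpr_gt (f744354 IH) (Lpe (f76252 IH) (Lpr_et (f744356 IH) (Lpr_gt (f746305 IH) (Lpn (LP (LK LD1_c20 LD2_c42 LD3_c61)))))))))))))
theorem f75993 : Led Lsl_dt (LP (LK LD1_c5 LD2_c59 LD3_c29)) = (LP (LK LD1_c2 LD2_c56 LD3_c5)) :=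
  Lre_d IH (LK LD1_c5 LD2_c59 LD3_c29) (LK LD1_c2 LD2_c56 LD3_c5) Lrfl Lrfl
theorem f74645 : Led Lsl_ct (LP (LK LD1_c5 LD2_c59 LD3_c28)) = (LP (LK LD1_c2 LD2_c56 LD3_c5)) :=
  Lre_c IH (LK LD1_c5 LD2_c59 LD3_c28) (LK LD1_c2 LD2_c56 LD3_c5) Lrfl Lrfl
theorem f641378 : Led Lsl_dt (LP (LK LD1_c11 LD2_c43 LD3_c35)) = (LP (LK LD1_c5 LD2_c59 LD3_c28)) :=
  Lre_d IH (LK LD1_c11 LD2_c43 LD3_c35) (LK LD1_c5 LD2_c59 LD3_c28) Lrfl Lrfl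
theorem f642167 : Led Lsl_gt (LP (LK LD1_c20 LD2_c44 LD3_c46)) = (LP (LK LD1_c11 LD2_c43 LD3_c35)) :=
  Lre_g IH (LK LD1_c20 LD2_c44 LD3_c46) (LK LD1_c11 LD2_c43 LD3_c35) Lrfl Lrfl
theorem f642168 : Led Lsl_dt (LP (LK LD1_c20 LD2_c17 LD3_c15)) = (LP (LK LD1_c20 LD2_c44 LD3_c46)) :=
  Lgr Lrot57 (Lpe (f642124 IH) (Lpe (f639004 IH) (Lpr_gt (K50.f414694 IH) (Lpr_dt (K41.f616268 IH) (Lpr_gt (K53.f642154 IH) (Lpr_dt (f75993 IH) (Lpe (f74645 IH) (Lpe (f641378 IH) (Lpe (f642167 IH) (Lpn (LP (LK LD1_c20 LD2_c44 LD3_c46))))))))))))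
theorem f642171 : Led Lsl_df (LP (LK LD1_c20 LD2_c17 LD3_c15)) = (LP (LK LD1_c20 LD2_c44 LD3_c46)) :=
  Lgr Lrot38 (Lpr_dt (f642168 IH) (Lpn (LP (LK LD1_c20 LD2_c44 LD3_c46))))
theorem f746086 : Led Lsl_ff (LP (LK LD1_c20 LD2_c44 LD3_c46)) = (LP (LK LD1_c11 LD2_c46 LD3_c52)) :=
  Lgr Lrot19 (Lpe (f642171 IH) (Lpr_ft (f746084 IH) (Lpr_dt (K53.f715412 IH) (Lpn (LP (LK LD1_c11 LD2_c46 LD3_c52))))))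
theorem f641376 : Led Lsl_dt (LP (LK LD1_c5 LD2_c59 LD3_c28)) = (LP (LK LD1_c11 LD2_c43 LD3_c35)) :=
  Lre_d IH (LK LD1_c5 LD2_c59 LD3_c28) (LK LD1_c11 LD2_c43 LD3_c35) Lrfl Lrfl
theorem f720368 : Led Lsl_ff (LP (LK LD1_c6 LD2_c1 LD3_c22)) = (LP (LK LD1_c11 LD2_c43 LD3_c35)) :=
  Lgr Lrot19 (Lpr_dt (K53.f500867 IH) (Lpr_ft (K41.f641544 IH) (Lpqs (f719905 IH) (Lpr_dt (f641376 IH) (Lpn (LP (LK LD1_c11 LD2_c43 LD3_c35)))))))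
theorem f720376 : Led Lsl_ft (LP (LK LD1_c6 LD2_c1 LD3_c22)) = (LP (LK LD1_c11 LD2_c43 LD3_c35)) :=
  Lgr Lrot48 (Lpr_ff (f720368 IH) (Lpn (LP (LK LD1_c11 LD2_c43 LD3_c35))))
theorem f720378 : Led Lsl_af (LP (LK LD1_c6 LD2_c1 LD3_c7)) = (LP (LK LD1_c11 LD2_c43 LD3_c35)) :=
  Lgr Lrot45 (Lpr_ft (K53.f720008 IH) (Lpe (K53.f720013 IH) (Lpr_ft (f720376 IH) (Lpn (LP (LK LD1_c11 LD2_c43 LD3_c35))))))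
theorem f720383 : Led Lsl_gt (LP (LK LD1_c6 LD2_c1 LD3_c22)) = (LP (LK LD1_c11 LD2_c46 LD3_c53)) :=
  Lgr Lrot5 (Lpr_ft (f720376 IH) (Lpe (f720378 IH) (Lpe (f642043 IH) (Lpn (LP (LK LD1_c11 LD2_c46 LD3_c53))))))
theorem f746092 : Led Lsl_at (LP (LK LD1_c20 LD2_c44 LD3_c46)) = (LP (LK LD1_c11 LD2_c46 LD3_c53)) :=
  Lgr Lrot26 (Lpr_ff (f746086 IH) (Lpe (K53.f720017 IH) (Lpr_gt (f720383 IH) (Lpn (LP (LK LD1_c11 LD2_c46 LD3_c53))))))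
theorem f720385 : Led Lsl_dt (LP (LK LD1_c11 LD2_c46 LD3_c53)) = (LP (LK LD1_c20 LD2_c48 LD3_c54)) :=
  Lre_d IH (LK LD1_c11 LD2_c46 LD3_c53) (LK LD1_c20 LD2_c48 LD3_c54) Lrfl Lrfl
theorem f746096 : Led Lsl_af (LP (LK LD1_c20 LD2_c17 LD3_c15)) = (LP (LK LD1_c20 LD2_c48 LD3_c54)) :=
  Lgr Lrot117 (Lpr_dt (f642168 IH) (Lpr_at (f746092 IH) (Lpr_dt (f720385 IH) (Lpn (LP (LK LD1_c20 LD2_c48 LD3_c54))))))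
theorem f715469 : Led Lsl_gt (LP (LK LD1_c20 LD2_c17 LD3_c16)) = (LP (LK LD1_c11 LD2_c20 LD3_c3)) :=
  Lre_g IH (LK LD1_c20 LD2_c17 LD3_c16) (LK LD1_c11 LD2_c20 LD3_c3) Lrfl Lrfl
theorem f746101 : Led Lsl_ft (LP (LK LD1_c20 LD2_c17 LD3_c16)) = (LP (LK LD1_c20 LD2_c48 LD3_c54)) :=
  Lgr Lrot2 (Lpr_gt (f715469 IH) (Lpr_gt (f642124 IH) (Lpr_af (f746096 IH) (Lpn (LP (LK LD1_c20 LD2_c48 LD3_c54))))))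
theorem f502242 : Led Lsl_gt (LP (LK LD1_c5 LD2_c59 LD3_c4)) = (LP (LK LD1_c11 LD2_c41 LD3_c27)) :=
  Lre_g IH (LK LD1_c5 LD2_c59 LD3_c4) (LK LD1_c11 LD2_c41 LD3_c27) Lrfl Lrfl
theorem f746253 : Led Lsl_at (LP (LK LD1_c5 LD2_c59 LD3_c2)) = (LP (LK LD1_c11 LD2_c41 LD3_c27)) :=
  Lgr Lrot26 (Lpr_ff (f746245 IH) (Lpe (f502240 IH) (Lpr_gt (f502242 IH) (Lpn (LP (LK LD1_c11 LD2_c41 LD3_c27))))))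
theorem f746105 : Led Lsl_ff (LP (LK LD1_c20 LD2_c17 LD3_c16)) = (LP (LK LD1_c20 LD2_c48 LD3_c54)) :=
  Lgr Lrot3 (Lpr_ft (f746101 IH) (Lpn (LP (LK LD1_c20 LD2_c48 LD3_c54))))
theorem f746099 : Led Lsl_at (LP (LK LD1_c20 LD2_c17 LD3_c15)) = (LP (LK LD1_c20 LD2_c48 LD3_c54)) :=
  Lgr Lrot100 (Lpr_af (f746096 IH) (Lpn (LP (LK LD1_c20 LD2_c48 LD3_c54))))
theorem f746107 : Led Lsl_at (LP (LK LD1_c20 LD2_c17 LD3_c16)) = (LP (LK LD1_c11 LD2_c42 LD3_c36)) :=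
  Lgr Lrot66 (Lpr_ff (f746105 IH) (Lpe (f746099 IH) (Lpr_ff (f746088 IH) (Lpn (LP (LK LD1_c11 LD2_c42 LD3_c36))))))
theorem f746259 : Led Lsl_ef (LP (LK LD1_c20 LD2_c17 LD3_c16)) = (LP (LK LD1_c11 LD2_c41 LD3_c27)) :=
  Lgr Lrot20 (Lpr_at (f746107 IH) (Lpr_et (K53.f643014 IH) (Lpr_at (f746253 IH) (Lpn (LP (LK LD1_c11 LD2_c41 LD3_c27))))))
theorem f746292 : Led Lsl_ft (LP (LK LD1_c20 LD2_c42 LD3_c61)) = (LP (LK LD1_c11 LD2_c42 LD3_c33)) :=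
  Lre_f IH (LK LD1_c20 LD2_c42 LD3_c61) (LK LD1_c11 LD2_c42 LD3_c33) Lrfl Lrfl
theorem f746313 : Led Lsl_et (LP (LK LD1_c11 LD2_c42 LD3_c33)) = (LP (LK LD1_c5 LD2_c59 LD3_c1)) :=
  Lre_e IH (LK LD1_c11 LD2_c42 LD3_c33) (LK LD1_c5 LD2_c59 LD3_c1) Lrfl Lrfl
theorem f746314 : Led Lsl_ff (LP (LK LD1_c11 LD2_c41 LD3_c27)) = (LP (LK LD1_c5 LD2_c59 LD3_c1)) :=
  Lgr Lrot72 (Lpe (f746259 IH) (Lpr_ft (f746101 IH) (Lpr_et (f746307 IH) (Lpr_ft (f746292 IH) (Lpr_et (f746313 IH) (Lpn (LP (LK LD1_c5 LD2_c59 LD3_c1))))))))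
theorem f746321 : Led Lsl_ft (LP (LK LD1_c11 LD2_c41 LD3_c27)) = (LP (LK LD1_c5 LD2_c59 LD3_c1)) :=
  Lgr Lrot48 (Lpr_ff (f746314 IH) (Lpn (LP (LK LD1_c5 LD2_c59 LD3_c1))))
theorem f746324 : Led Lsl_af (LP (LK LD1_c11 LD2_c41 LD3_c26)) = (LP (LK LD1_c5 LD2_c59 LD3_c1)) :=
  Lgr Lrot45 (Lpe (f746245 IH) (Lpr_at (f746253 IH) (Lpr_ft (f746321 IH) (Lpn (LP (LK LD1_c5 LD2_c59 LD3_c1))))))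
theorem f643866 : Led Lsl_cf (LP (LK LD1_c9 LD2_c48 LD3_c21)) = (LP (LK LD1_c11 LD2_c41 LD3_c26)) :=
  Lgr Lrot11 (Lpr_ct (f643861 IH) (Lpn (LP (LK LD1_c11 LD2_c41 LD3_c26))))
theorem f641358 : Led Lsl_ct (LP (LK LD1_c11 LD2_c42 LD3_c31)) = (LP (LK LD1_c5 LD2_c59 LD3_c1)) :=
  Lre_c IH (LK LD1_c11 LD2_c42 LD3_c31) (LK LD1_c5 LD2_c59 LD3_c1) Lrfl Lrfl
theorem f746384 : Led Lsl_at (LP (LK LD1_c9 LD2_c48 LD3_c21)) = (LP (LK LD1_c11 LD2_c42 LD3_c31)) :=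
  Lgr Lrot107 (Lpr_cf (f643866 IH) (Lpr_af (f746324 IH) (Lpe (f641358 IH) (Lpn (LP (LK LD1_c11 LD2_c42 LD3_c31))))))
theorem f746399 : Led Lsl_gt (LP (LK LD1_c9 LD2_c47 LD3_c40)) = (LP (LK LD1_c11 LD2_c42 LD3_c31)) :=
  Lgr Lrot46 (Lpe (K53.f719096 IH) (Lpr_ft (f746243 IH) (Lpr_at (f746384 IH) (Lpn (LP (LK LD1_c11 LD2_c42 LD3_c31))))))
theorem f748250 : Led Lsl_gt (LP (LK LD1_c5 LD2_c59 LD3_c1)) = v16300 :=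
  Lgr Lrot149 (Lpe (f641358 IH) (Lpe (f746399 IH) (Lpr_bf (K52.f139274 IH) (Lpr_ct (K52.f160885 IH) (Lpr_gf (K52.f710971 IH) (Lpe (K52.f641136 IH) (Lpr_bt (K52.f641135 IH) (Lpe (K52.f710981 IH) (Lpr_bf (f641314 IH) (Lpqs (f641743 IH) (Lpr_ct (f748244 IH) (Lpn v16300))))))))))))
theorem f746126 : (LP (LK LD1_c2 LD2_c52 LD3_c30)) = v16049 :=
  Lefun (Lecon (Lfl_ff (f640846 IH)) (f746117 IH).symm) (f745029 IH)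
theorem f22545 : Led Lsl_bt (LP (LK LD1_c5 LD2_c52 LD3_c23)) = (LP (LK LD1_c2 LD2_c52 LD3_c30)) :=
  Lre_b IH (LK LD1_c5 LD2_c52 LD3_c23) (LK LD1_c2 LD2_c52 LD3_c30) Lrfl Lrfl
def v16087 : LQ := Led Lsl_at (LP (LK LD1_c5 LD2_c52 LD3_c23))
theorem f745963 : Led Lsl_at (LP (LK LD1_c5 LD2_c52 LD3_c23)) = v16087 :=
  Lrfl
theorem f745964 : Led Lsl_af (LP (LK LD1_c5 LD2_c52 LD3_c23)) = v16087 :=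
  Lgr Lrot0 (Lpr_at (f745963 IH) (Lpn v16087))
theorem f746397 : Led Lsl_bf v16087 = (LP (LK LD1_c11 LD2_c42 LD3_c31)) :=
  Lgr Lrot81 (Lpe (f745964 IH) (Lpr_bt (f22545 IH) (Lpqs (f746126 IH) (Lpe (f745028 IH) (Lpe (f643871 IH) (Lpr_at (f746384 IH) (Lpn (LP (LK LD1_c11 LD2_c42 LD3_c31)))))))))
theorem f636066 : Led Lsl_ct (LP (LK LD1_c2 LD2_c27 LD3_c25)) = (LP (LK LD1_c4 LD2_c59 LD3_c2)) :=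
  Lre_c IH (LK LD1_c2 LD2_c27 LD3_c25) (LK LD1_c4 LD2_c59 LD3_c2) Lrfl Lrfl
theorem f138982 : Led Lsl_bt (LP (LK LD1_c2 LD2_c27 LD3_c25)) = (LP (LK LD1_c4 LD2_c58 LD3_c58)) :=
  Lre_b IH (LK LD1_c2 LD2_c27 LD3_c25) (LK LD1_c4 LD2_c58 LD3_c58) Lrfl Lrfl
theorem f138834 : Led Lsl_gt (LP (LK LD1_c4 LD2_c58 LD3_c58)) = (LP (LK LD1_c9 LD2_c48 LD3_c15)) :=
  Lre_g IH (LK LD1_c4 LD2_c58 LD3_c58) (LK LD1_c9 LD2_c48 LD3_c15) Lrfl Lrfl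
theorem f748252 : v16087 = (LP (LK LD1_c9 LD2_c48 LD3_c15)) :=
  (Llr Lrot92 (Lpr_bf (f746397 IH) (Lpr_ct (f641358 IH) (Lpr_gt (f748250 IH) (Lpe (f748244 IH) (Lpq (f641743 IH) (Lpe (f641314 IH) (Lpr_gt (K52.f710981 IH) (Lpe (K52.f642314 IH) (Lpr_gt (K52.f75376 IH) (Lpe (f636066 IH) (Lpr_bt (f138982 IH) (Lpr_gt (f138834 IH) (Lpn (LP (LK LD1_c9 LD2_c48 LD3_c15)))))))))))))))).symm
theorem f748253 : Led Lsl_at (LP (LK LD1_c9 LD2_c48 LD3_c15)) = (LP (LK LD1_c5 LD2_c52 LD3_c23)) :=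
  Leop (Lpr_af (f745964 IH) (Lpqs (f748252 IH) (Lpn (LP (LK LD1_c9 LD2_c48 LD3_c15)))))
theorem seed_1002 : LEOK LG_a (LK LD1_c9 LD2_c48 LD3_c15) :=
  Leoe_a (LK LD1_c9 LD2_c48 LD3_c15) (f748253 IH)
def v16301 : LQ := Led Lsl_dt (LP (LK LD1_c5 LD2_c57 LD3_c15))
theorem f748284 : Led Lsl_dt (LP (LK LD1_c5 LD2_c57 LD3_c15)) = v16301 :=
  Lrfl
theorem f75930 : Led Lsl_et (LP (LK LD1_c0 LD2_c31 LD3_c16)) = (LP (LK LD1_c1 LD2_c8 LD3_c20)) :=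
  Lre_e IH (LK LD1_c0 LD2_c31 LD3_c16) (LK LD1_c1 LD2_c8 LD3_c20) Lrfl Lrfl
theorem f748288 : Led Lsl_gf (LP (LK LD1_c9 LD2_c30 LD3_c60)) = v16301 :=
  Lgr Lrot134 (Lpe (K50.f427776 IH) (Lpr_et (K50.f427775 IH) (Lpr_gt (K50.f387463 IH) (Lpe (f75930 IH) (Lpr_dt (K3.f26570 IH) (Lpr_gt (K40.f426255 IH) (Lpe (K24.f426057 IH) (Lpr_et (K41.f427774 IH) (Lpr_gt (K41.f641327 IH) (Lpq (K41.f642146 IH) (Lpr_dt (f748284 IH) (Lpn v16301))))))))))))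
theorem f644035 : Led Lsl_dt (LP (LK LD1_c9 LD2_c30 LD3_c60)) = (LP (LK LD1_c4 LD2_c49 LD3_c8)) :=
  Lre_d IH (LK LD1_c9 LD2_c30 LD3_c60) (LK LD1_c4 LD2_c49 LD3_c8) Lrfl Lrfl
theorem f644027 : Led Lsl_ct (LP (LK LD1_c4 LD2_c49 LD3_c8)) = (LP (LK LD1_c9 LD2_c30 LD3_c57)) :=
  Lre_c IH (LK LD1_c4 LD2_c49 LD3_c8) (LK LD1_c9 LD2_c30 LD3_c57) Lrfl Lrfl
theorem f644030 : Led Lsl_dt (LP (LK LD1_c17 LD2_c32 LD3_c31)) = (LP (LK LD1_c9 LD2_c30 LD3_c57)) :=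
  Lre_d IH (LK LD1_c17 LD2_c32 LD3_c31) (LK LD1_c9 LD2_c30 LD3_c57) Lrfl Lrfl
theorem f427381 : Led Lsl_ct (LP (LK LD1_c5 LD2_c58 LD3_c26)) = (LP (LK LD1_c2 LD2_c55 LD3_c37)) :=
  Lre_c IH (LK LD1_c5 LD2_c58 LD3_c26) (LK LD1_c2 LD2_c55 LD3_c37) Lrfl Lrfl
theorem f427387 : Led Lsl_dt (LP (LK LD1_c11 LD2_c41 LD3_c26)) = (LP (LK LD1_c20 LD2_c41 LD3_c22)) :=
  Lre_d IH (LK LD1_c11 LD2_c41 LD3_c26) (LK LD1_c20 LD2_c41 LD3_c22) Lrfl Lrfl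
theorem f748289 : Led Lsl_gf (LP (LK LD1_c17 LD2_c32 LD3_c31)) = (LP (LK LD1_c20 LD2_c41 LD3_c22)) :=
  Lgr Lrot143 (Lpr_dt (f644030 IH) (Lpe (f644027 IH) (Lpe (f644035 IH) (Lpr_gf (f748288 IH) (Lpe (f748284 IH) (Lpqs (K41.f642146 IH) (Lpe (K41.f641327 IH) (Lpe (f427381 IH) (Lpr_gt (f427386 IH) (Lpr_dt (f427387 IH) (Lpn (LP (LK LD1_c20 LD2_c41 LD3_c22)))))))))))))
theorem f748290 : Led Lsl_gt (LP (LK LD1_c20 LD2_c41 LD3_c22)) = (LP (LK LD1_c17 LD2_c32 LD3_c31)) :=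
  Leop (Lpr_gf (f748289 IH) (Lpn (LP (LK LD1_c20 LD2_c41 LD3_c22))))
theorem seed_1003 : LEOK LG_g (LK LD1_c20 LD2_c41 LD3_c22) :=
  Leoe_g (LK LD1_c20 LD2_c41 LD3_c22) (f748290 IH)
theorem f502248 : Led Lsl_ct (LP (LK LD1_c2 LD2_c55 LD3_c59)) = (LP (LK LD1_c5 LD2_c59 LD3_c4)) :=
  Lre_c IH (LK LD1_c2 LD2_c55 LD3_c59) (LK LD1_c5 LD2_c59 LD3_c4) Lrfl Lrfl
theorem f746395 : Led Lsl_af (LP (LK LD1_c9 LD2_c48 LD3_c21)) = (LP (LK LD1_c11 LD2_c42 LD3_c31)) :=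
  Lgr Lrot0 (Lpr_at (f746384 IH) (Lpn (LP (LK LD1_c11 LD2_c42 LD3_c31))))
theorem f74980 : Led Lsl_gt (LP (LK LD1_c9 LD2_c48 LD3_c22)) = (LP (LK LD1_c4 LD2_c58 LD3_c60)) :=
  Lre_g IH (LK LD1_c9 LD2_c48 LD3_c22) (LK LD1_c4 LD2_c58 LD3_c60) Lrfl Lrfl
theorem f746403 : Led Lsl_ft (LP (LK LD1_c9 LD2_c48 LD3_c22)) = (LP (LK LD1_c11 LD2_c42 LD3_c31)) :=
  Lgr Lrot2 (Lpr_gt (f74980 IH) (Lpr_gt (f74977 IH) (Lpr_af (f746395 IH) (Lpn (LP (LK LD1_c11 LD2_c42 LD3_c31))))))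
theorem f746407 : Led Lsl_cf (LP (LK LD1_c9 LD2_c48 LD3_c22)) = (LP (LK LD1_c11 LD2_c41 LD3_c27)) :=
  Lgr Lrot108 (Lpr_ft (f746403 IH) (Lpr_ct (f641358 IH) (Lpe (f746314 IH) (Lpn (LP (LK LD1_c11 LD2_c41 LD3_c27))))))
theorem f76268 : Led Lsl_dt (LP (LK LD1_c17 LD2_c58 LD3_c35)) = (LP (LK LD1_c9 LD2_c48 LD3_c22)) :=
  Lre_d IH (LK LD1_c17 LD2_c58 LD3_c35) (LK LD1_c9 LD2_c48 LD3_c22) Lrfl Lrfl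
theorem f748291 : Led Lsl_ct (LP (LK LD1_c27 LD2_c21 LD3_c48)) = (LP (LK LD1_c17 LD2_c58 LD3_c35)) :=
  Lgr Lrot110 (Lpe (K50.f700090 IH) (Lpe (K50.f644025 IH) (Lpr_gf (f748288 IH) (Lpe (f748284 IH) (Lpqs (K41.f642146 IH) (Lpe (K41.f641328 IH) (Lpr_ct (f502248 IH) (Lpr_gt (f502242 IH) (Lpe (f746407 IH) (Lpe (f76268 IH) (Lpn (LP (LK LD1_c17 LD2_c58 LD3_c35)))))))))))))
theorem f748292 : Led Lsl_ct (LP (LK LD1_c27 LD2_c21 LD3_c48)) = (LP (LK LD1_c17 LD2_c58 LD3_c35)) :=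
  Leop (Lpe (f748291 IH) (Lpn (LP (LK LD1_c27 LD2_c21 LD3_c48))))
theorem seed_1004 : LEOK LG_c (LK LD1_c27 LD2_c21 LD3_c48) :=
  Leoe_c (LK LD1_c27 LD2_c21 LD3_c48) (f748292 IH)
def v16330 : LQ := Led Lsl_ft (LP (LK LD1_c5 LD2_c57 LD3_c43))
theorem f748504 : Led Lsl_ft (LP (LK LD1_c5 LD2_c57 LD3_c43)) = v16330 :=
  Lrfl
theorem f500626 : Led Lsl_gt (LP (LK LD1_c5 LD2_c57 LD3_c43)) = (LP (LK LD1_c11 LD2_c40 LD3_c22)) :=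
  Lre_g IH (LK LD1_c5 LD2_c57 LD3_c43) (LK LD1_c11 LD2_c40 LD3_c22) Lrfl Lrfl
theorem f426180 : Led Lsl_ft (LP (LK LD1_c11 LD2_c40 LD3_c45)) = (LP (LK LD1_c5 LD2_c57 LD3_c61)) :=
  Lre_f IH (LK LD1_c11 LD2_c40 LD3_c45) (LK LD1_c5 LD2_c57 LD3_c61) Lrfl Lrfl
theorem f748505 : Led Lsl_af (LP (LK LD1_c11 LD2_c40 LD3_c45)) = v16330 :=
  Lgr Lrot45 (Lpr_ft (f426180 IH) (Lpr_at (K24.f426165 IH) (Lpr_ft (f748504 IH) (Lpn v16330))))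
theorem f748509 : Led Lsl_gt (LP (LK LD1_c11 LD2_c40 LD3_c22)) = (LP (LK LD1_c11 LD2_c40 LD3_c45)) :=
  Lgr Lrot46 (Lpe (f500626 IH) (Lpr_ft (f748504 IH) (Lpe (f748505 IH) (Lpn (LP (LK LD1_c11 LD2_c40 LD3_c45))))))
theorem f748510 : Led Lsl_gt (LP (LK LD1_c11 LD2_c40 LD3_c22)) = (LP (LK LD1_c11 LD2_c40 LD3_c45)) :=
  Leop (Lpe (f748509 IH) (Lpn (LP (LK LD1_c11 LD2_c40 LD3_c22))))
theorem seed_1005 : LEOK LG_g (LK LD1_c11 LD2_c40 LD3_c22) :=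
  Leoe_g (LK LD1_c11 LD2_c40 LD3_c22) (f748510 IH)
def v16331 : LQ := Led Lsl_bt (LP (LK LD1_c5 LD2_c57 LD3_c47))
theorem f748516 : Led Lsl_bt (LP (LK LD1_c5 LD2_c57 LD3_c47)) = v16331 :=
  Lrfl
theorem f313497 : Led Lsl_gt (LP (LK LD1_c0 LD2_c28 LD3_c54)) = (LP (LK LD1_c0 LD2_c16 LD3_c11)) :=
  Lgr Lrot150 (Lpe (K19.f200676 IH) (Lpr_gf (K19.f313491 IH) (Lpe (K11.f169065 IH) (Lpe (K11.f183079 IH) (Lpr_ct (K10.f177452 IH) (Lpe (K15.f183383 IH) (Lpr_ct (K15.f7944 IH) (Lpe (K9.f7937 IH) (Lpr_cf (K0.f7940 IH) (Lpn (LP (LK LD1_c0 LD2_c16 LD3_c11))))))))))))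
theorem f180677 : Led Lsl_ct (LP (LK LD1_c5 LD2_c14 LD3_c38)) = (LP (LK LD1_c2 LD2_c34 LD3_c8)) :=
  Lre_c IH (LK LD1_c5 LD2_c14 LD3_c38) (LK LD1_c2 LD2_c34 LD3_c8) Lrfl Lrfl
def v14600 : LQ := Led Lsl_dt (LP (LK LD1_c5 LD2_c14 LD3_c38))
theorem f723963 : Led Lsl_dt (LP (LK LD1_c5 LD2_c14 LD3_c38)) = v14600 :=
  Lrfl
theorem f723964 : Led Lsl_df (LP (LK LD1_c5 LD2_c14 LD3_c38)) = v14600 :=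
  Lgr Lrot38 (Lpr_dt (f723963 IH) (Lpn v14600))
theorem f748519 : Led Lsl_gf v14600 = v16331 :=
  Lgr Lrot85 (Lpe (f723964 IH) (Lpr_ct (f180677 IH) (Lpr_bt (K28.f163942 IH) (Lpr_gt (K10.f59574 IH) (Lpr_dt (K9.f163633 IH) (Lpr_ct (K8.f20462 IH) (Lpr_bt (K10.f20523 IH) (Lpr_gt (K20.f37151 IH) (Lpe (K35.f315138 IH) (Lpr_ct (K11.f200679 IH) (Lpr_bt (K11.f200681 IH) (Lpr_gt (f313497 IH) (Lpr_dt (K9.f21262 IH) (Lpr_ct (K9.f21268 IH) (Lpr_bt (K27.f21271 IH) (Lpq (K40.f537821 IH) (Lpe (K37.f500624 IH) (Lpr_dt (K24.f161311 IH) (Lpr_ct (K32.f386678 IH) (Lpr_bt (f748516 IH) (Lpn v16331)))))))))))))))))))))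
theorem f180733 : Led Lsl_et (LP (LK LD1_c5 LD2_c14 LD3_c38)) = (LP (LK LD1_c10 LD2_c18 LD3_c48)) :=
  Lre_e IH (LK LD1_c5 LD2_c14 LD3_c38) (LK LD1_c10 LD2_c18 LD3_c48) Lrfl Lrfl
def v14354 : LQ := Led Lsl_gf (LP (LK LD1_c5 LD2_c7 LD3_c5))
theorem f722137 : Led Lsl_gf (LP (LK LD1_c5 LD2_c7 LD3_c5)) = v14354 :=
  Lrfl
theorem f387272 : Led Lsl_et (LP (LK LD1_c17 LD2_c58 LD3_c14)) = (LP (LK LD1_c9 LD2_c48 LD3_c1)) :=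
  Lre_e IH (LK LD1_c17 LD2_c58 LD3_c14) (LK LD1_c9 LD2_c48 LD3_c1) Lrfl Lrfl
theorem f165736 : Led Lsl_et (LP (LK LD1_c5 LD2_c7 LD3_c5)) = (LP (LK LD1_c10 LD2_c4 LD3_c49)) :=
  Lre_e IH (LK LD1_c5 LD2_c7 LD3_c5) (LK LD1_c10 LD2_c4 LD3_c49) Lrfl Lrfl
theorem f387273 : Led Lsl_at (LP (LK LD1_c9 LD2_c48 LD3_c1)) = (LP (LK LD1_c5 LD2_c7 LD3_c5)) :=
  Lgr Lrot80 (Lpe (f387272 IH) (Lpr_af (K53.f387266 IH) (Lpe (f165736 IH) (Lpn (LP (LK LD1_c5 LD2_c7 LD3_c5))))))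
theorem f722138 : Led Lsl_gt K53.v14347 = v14354 :=
  Lgr Lrot5 (Lpe (K53.f722074 IH) (Lpr_at (f387273 IH) (Lpr_gf (f722137 IH) (Lpn v14354))))
theorem f748520 : Led Lsl_dt v14354 = v16331 :=
  Lgr Lrot57 (Lpe (f722138 IH) (Lpe (K53.f722077 IH) (Lpe (K40.f387287 IH) (Lpe (K50.f558484 IH) (Lpr_gt (K44.f581847 IH) (Lpr_dt (K28.f180659 IH) (Lpe (f180677 IH) (Lpr_df (f723964 IH) (Lpr_gf (f748519 IH) (Lpn v16331))))))))))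
theorem f748521 : Led Lsl_gt (LP (LK LD1_c10 LD2_c18 LD3_c48)) = (LP (LK LD1_c6 LD2_c8 LD3_c1)) :=
  Lgr Lrot131 (Lpe (f180733 IH) (Lpr_dt (f723963 IH) (Lpr_gf (f748519 IH) (Lpe (f748520 IH) (Lpe (f722138 IH) (Lpe (K53.f722068 IH) (Lpr_dt (K40.f308038 IH) (Lpq (K40.f537821 IH) (Lpe (K37.f500625 IH) (Lpr_df (K40.f539613 IH) (Lpr_et (K38.f539616 IH) (Lpn (LP (LK LD1_c6 LD2_c8 LD3_c1))))))))))))))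
theorem f748522 : Led Lsl_gt (LP (LK LD1_c10 LD2_c18 LD3_c48)) = (LP (LK LD1_c6 LD2_c8 LD3_c1)) :=
  Leop (Lpe (f748521 IH) (Lpn (LP (LK LD1_c10 LD2_c18 LD3_c48))))
theorem seed_1006 : LEOK LG_g (LK LD1_c10 LD2_c18 LD3_c48) :=
  Leoe_g (LK LD1_c10 LD2_c18 LD3_c48) (f748522 IH)
def v16332 : LQ := Led Lsl_dt (LP (LK LD1_c5 LD2_c57 LD3_c47))
theorem f748657 : Led Lsl_dt (LP (LK LD1_c5 LD2_c57 LD3_c47)) = v16332 :=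
  Lrfl
theorem f165660 : Led Lsl_ct (LP (LK LD1_c2 LD2_c30 LD3_c52)) = (LP (LK LD1_c5 LD2_c7 LD3_c5)) :=
  Lre_c IH (LK LD1_c2 LD2_c30 LD3_c52) (LK LD1_c5 LD2_c7 LD3_c5) Lrfl Lrfl
def v14355 : LQ := Led Lsl_dt (LP (LK LD1_c5 LD2_c7 LD3_c5))
theorem f722145 : Led Lsl_dt (LP (LK LD1_c5 LD2_c7 LD3_c5)) = v14355 :=
  Lrfl
theorem f722147 : Led Lsl_df (LP (LK LD1_c5 LD2_c7 LD3_c5)) = v14355 :=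
  Lgr Lrot38 (Lpr_dt (f722145 IH) (Lpn v14355))
theorem f748660 : Led Lsl_gf v14355 = v16332 :=
  Lgr Lrot143 (Lpe (f722147 IH) (Lpe (f165660 IH) (Lpe (K39.f68565 IH) (Lpr_gf (K32.f427805 IH) (Lpe (K32.f161212 IH) (Lpe (K36.f427589 IH) (Lpe (K28.f180689 IH) (Lpr_gt (K32.f387064 IH) (Lpr_dt (f748657 IH) (Lpn v16332))))))))))
theorem f22408 : Led Lsl_bt (LP (LK LD1_c0 LD2_c39 LD3_c42)) = (LP (LK LD1_c1 LD2_c25 LD3_c54)) :=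
  Lre_b IH (LK LD1_c0 LD2_c39 LD3_c42) (LK LD1_c1 LD2_c25 LD3_c54) Lrfl Lrfl
theorem f426201 : Led Lsl_cf (LP (LK LD1_c1 LD2_c23 LD3_c30)) = (LP (LK LD1_c1 LD2_c23 LD3_c33)) :=
  Lgr Lrot1 (Lpr_at (K27.f386751 IH) (Lpr_ct (K36.f386671 IH) (Lpr_at (K24.f426192 IH) (Lpn (LP (LK LD1_c1 LD2_c23 LD3_c33))))))
theorem f722140 : Led Lsl_ct (LP (LK LD1_c6 LD2_c7 LD3_c52)) = v14354 :=
  Lgr Lrot152 (Lpr_gf (K36.f427750 IH) (Lpe (K36.f308032 IH) (Lpq (K40.f537821 IH) (Lpe (K37.f500624 IH) (Lpe (f426201 IH) (Lpe (K36.f427797 IH) (Lpe (K27.f194104 IH) (Lpe (K39.f68561 IH) (Lpe (K53.f165692 IH) (Lpr_gf (f722137 IH) (Lpn v14354)))))))))))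
theorem f748662 : Led Lsl_bt v14354 = v16332 :=
  Lgr Lrot178 (Lpe (f722140 IH) (Lpe (K40.f427753 IH) (Lpr_gf (K40.f427756 IH) (Lpe (f22408 IH) (Lpe (K9.f8452 IH) (Lpe (K0.f8451 IH) (Lpe (K0.f9482 IH) (Lpe (K10.f55930 IH) (Lpr_cf (K10.f190256 IH) (Lpe (K35.f37287 IH) (Lpe (K19.f165493 IH) (Lpe (K19.f225640 IH) (Lpe (K14.f165498 IH) (Lpe (K38.f250184 IH) (Lpe (K14.f22224 IH) (Lpe (K40.f165691 IH) (Lpe (K53.f165692 IH) (Lpr_df (f722147 IH) (Lpr_gf (f748660 IH) (Lpn v16332))))))))))))))))))))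
theorem f722142 : Led Lsl_cf (LP (LK LD1_c6 LD2_c7 LD3_c52)) = v14354 :=
  Lgr Lrot11 (Lpr_ct (f722140 IH) (Lpn v14354))
def v14578 : LQ := Led Lsl_ft (LP (LK LD1_c5 LD2_c14 LD3_c17))
theorem f723842 : Led Lsl_ft (LP (LK LD1_c5 LD2_c14 LD3_c17)) = v14578 :=
  Lrfl
theorem f387299 : Led Lsl_dt (LP (LK LD1_c5 LD2_c58 LD3_c2)) = (LP (LK LD1_c2 LD2_c55 LD3_c23)) :=
  Lre_d IH (LK LD1_c5 LD2_c58 LD3_c2) (LK LD1_c2 LD2_c55 LD3_c23) Lrfl Lrfl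
theorem f539693 : Led Lsl_ft (LP (LK LD1_c5 LD2_c57 LD3_c45)) = (LP (LK LD1_c5 LD2_c58 LD3_c2)) :=
  Lgr Lrot54 (Lpe (K36.f426217 IH) (Lpr_ff (K36.f539691 IH) (Lpe (f387299 IH) (Lpn (LP (LK LD1_c5 LD2_c58 LD3_c2))))))
theorem f723845 : Led Lsl_cf (LP (LK LD1_c5 LD2_c57 LD3_c45)) = v14578 :=
  Lgr Lrot108 (Lpr_ft (f539693 IH) (Lpe (K53.f699264 IH) (Lpr_ft (f723842 IH) (Lpn v14578))))
theorem f723844 : Led Lsl_bf (LP (LK LD1_c5 LD2_c14 LD3_c21)) = v14578 :=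
  Lgr Lrot61 (Lpr_ft (K18.f301819 IH) (Lpr_bt (K53.f406570 IH) (Lpr_ft (f723842 IH) (Lpn v14578))))
def v14372 : LQ := Led Lsl_ct (LP (LK LD1_c5 LD2_c7 LD3_c27))
theorem f722235 : Led Lsl_ct (LP (LK LD1_c5 LD2_c7 LD3_c27)) = v14372 :=
  Lrfl
def v14345 : LQ := Led Lsl_et (LP (LK LD1_c5 LD2_c6 LD3_c58))
theorem f722051 : Led Lsl_et (LP (LK LD1_c5 LD2_c6 LD3_c58)) = v14345 :=
  Lrfl
theorem f308075 : Led Lsl_dt (LP (LK LD1_c2 LD2_c30 LD3_c47)) = (LP (LK LD1_c5 LD2_c6 LD3_c58)) :=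
  Lre_d IH (LK LD1_c2 LD2_c30 LD3_c47) (LK LD1_c5 LD2_c6 LD3_c58) Lrfl Lrfl
theorem f539689 : Led Lsl_ef (LP (LK LD1_c2 LD2_c30 LD3_c47)) = (LP (LK LD1_c2 LD2_c55 LD3_c23)) :=
  Lgr Lrot20 (Lpr_at (K27.f308060 IH) (Lpr_et (K27.f308041 IH) (Lpr_at (K36.f539681 IH) (Lpn (LP (LK LD1_c2 LD2_c55 LD3_c23))))))
theorem f722054 : Led Lsl_df (LP (LK LD1_c5 LD2_c14 LD3_c16)) = v14345 :=
  Lgr Lrot70 (Lpr_et (K53.f699258 IH) (Lpr_dt (f387299 IH) (Lpe (f539689 IH) (Lpr_dt (f308075 IH) (Lpr_et (f722051 IH) (Lpn v14345))))))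
theorem f722148 : Led Lsl_ff v14345 = v14355 :=
  Lgr Lrot19 (Lpe (f722054 IH) (Lpe (K53.f387290 IH) (Lpr_dt (f722145 IH) (Lpn v14355))))
def v4576 : LQ := Led Lsl_et (LP (LK LD1_c2 LD2_c30 LD3_c48))
theorem f636216 : Led Lsl_et (LP (LK LD1_c2 LD2_c30 LD3_c48)) = v4576 :=
  Lrfl
theorem f636218 : Led Lsl_ef (LP (LK LD1_c2 LD2_c30 LD3_c48)) = v4576 :=
  Lgr Lrot88 (Lpr_et (f636216 IH) (Lpn v4576))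
theorem f722052 : Led Lsl_af v4576 = v14345 :=
  Lgr Lrot50 (Lpe (f636218 IH) (Lpr_at (K19.f308096 IH) (Lpr_et (f722051 IH) (Lpn v14345))))
def v14351 : LQ := Led Lsl_bt (LP (LK LD1_c5 LD2_c7 LD3_c1))
theorem f722103 : Led Lsl_bt (LP (LK LD1_c5 LD2_c7 LD3_c1)) = v14351 :=
  Lrfl
theorem f166265 : Led Lsl_ft (LP (LK LD1_c2 LD2_c30 LD3_c50)) = (LP (LK LD1_c5 LD2_c7 LD3_c1)) :=
  Lre_f IH (LK LD1_c2 LD2_c30 LD3_c50) (LK LD1_c5 LD2_c7 LD3_c1) Lrfl Lrfl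
theorem f636217 : Led Lsl_bf (LP (LK LD1_c2 LD2_c30 LD3_c50)) = v4576 :=
  Lgr Lrot96 (Lpr_et (K40.f166256 IH) (Lpr_bt (K19.f166259 IH) (Lpr_et (f636216 IH) (Lpn v4576))))
theorem f722107 : Led Lsl_ff v4576 = v14351 :=
  Lgr Lrot25 (Lpe (f636217 IH) (Lpr_ft (f166265 IH) (Lpr_bt (f722103 IH) (Lpn v14351))))
theorem f722110 : Led Lsl_ft v4576 = v14351 :=
  Lgr Lrot48 (Lpr_ff (f722107 IH) (Lpn v14351))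
theorem f722149 : Led Lsl_at v14351 = v14355 :=
  Lgr Lrot66 (Lpe (f722110 IH) (Lpr_af (f722052 IH) (Lpr_ff (f722148 IH) (Lpn v14355))))
theorem f748661 : Led Lsl_gt v4576 = v16332 :=
  Lgr Lrot5 (Lpr_ft (f722110 IH) (Lpr_at (f722149 IH) (Lpr_gf (f748660 IH) (Lpn v16332))))
theorem f166253 : Led Lsl_bt (LP (LK LD1_c2 LD2_c30 LD3_c48)) = (LP (LK LD1_c1 LD2_c12 LD3_c25)) :=
  Lre_b IH (LK LD1_c2 LD2_c30 LD3_c48) (LK LD1_c1 LD2_c12 LD3_c25) Lrfl Lrfl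
theorem f636219 : Led Lsl_bt (LP (LK LD1_c2 LD2_c30 LD3_c50)) = v4576 :=
  Lgr Lrot119 (Lpe (K46.f166167 IH) (Lpe (f166253 IH) (Lpr_ef (f636218 IH) (Lpn v4576))))
theorem f166257 : Led Lsl_ct (LP (LK LD1_c5 LD2_c4 LD3_c9)) = (LP (LK LD1_c2 LD2_c30 LD3_c50)) :=
  Lgr Lrot15 (Lpe (K15.f165453 IH) (Lpr_cf (K10.f166249 IH) (Lpe (K40.f166256 IH) (Lpn (LP (LK LD1_c2 LD2_c30 LD3_c50))))))
theorem f166260 : Led Lsl_cf (LP (LK LD1_c5 LD2_c4 LD3_c9)) = (LP (LK LD1_c2 LD2_c30 LD3_c50)) :=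
  Lgr Lrot11 (Lpr_ct (f166257 IH) (Lpn (LP (LK LD1_c2 LD2_c30 LD3_c50))))
theorem f165454 : Led Lsl_gt (LP (LK LD1_c9 LD2_c59 LD3_c9)) = (LP (LK LD1_c5 LD2_c4 LD3_c9)) :=
  Lre_g IH (LK LD1_c9 LD2_c59 LD3_c9) (LK LD1_c5 LD2_c4 LD3_c9) Lrfl Lrfl
theorem f748663 : v14372 = (LP (LK LD1_c9 LD2_c59 LD3_c9)) :=
  (Llr Lrot91 (Lpe (f722235 IH) (Lpe (K51.f301833 IH) (Lpr_bf (f723844 IH) (Lpe (f723845 IH) (Lpr_gf (K36.f539653 IH) (Lpr_cf (f722142 IH) (Lpr_bt (f748662 IH) (Lpe (f748661 IH) (Lpe (f636219 IH) (Lpe (f166260 IH) (Lpe (f165454 IH) (Lpn (LP (LK LD1_c9 LD2_c59 LD3_c9))))))))))))))).symm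
theorem f722236 : Led Lsl_cf (LP (LK LD1_c5 LD2_c7 LD3_c27)) = v14372 :=
  Lgr Lrot11 (Lpr_ct (f722235 IH) (Lpn v14372))
theorem f748664 : Led Lsl_ct (LP (LK LD1_c9 LD2_c59 LD3_c9)) = (LP (LK LD1_c5 LD2_c7 LD3_c27)) :=
  Leop (Lpr_cf (f722236 IH) (Lpqs (f748663 IH) (Lpn (LP (LK LD1_c9 LD2_c59 LD3_c9)))))
theorem seed_1007 : LEOK LG_c (LK LD1_c9 LD2_c59 LD3_c9) :=
  Leoe_c (LK LD1_c9 LD2_c59 LD3_c9) (f748664 IH)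
def v14579 : LQ := Led Lsl_ct (LP (LK LD1_c5 LD2_c14 LD3_c18))
theorem f723861 : Led Lsl_ct (LP (LK LD1_c5 LD2_c14 LD3_c18)) = v14579 :=
  Lrfl
theorem f633753 : Led Lsl_at (LP (LK LD1_c5 LD2_c7 LD3_c27)) = (LP (LK LD1_c5 LD2_c14 LD3_c19)) :=
  Lgr Lrot100 (Lpr_af (K51.f633751 IH) (Lpn (LP (LK LD1_c5 LD2_c14 LD3_c19))))
theorem f633772 : Led Lsl_ff (LP (LK LD1_c5 LD2_c7 LD3_c27)) = (LP (LK LD1_c5 LD2_c14 LD3_c18)) :=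
  Lgr Lrot30 (Lpr_at (f633753 IH) (Lpe (K51.f633759 IH) (Lpr_at (K51.f633764 IH) (Lpn (LP (LK LD1_c5 LD2_c14 LD3_c18))))))
theorem f633776 : Led Lsl_ft (LP (LK LD1_c5 LD2_c7 LD3_c27)) = (LP (LK LD1_c5 LD2_c14 LD3_c18)) :=
  Lgr Lrot48 (Lpr_ff (f633772 IH) (Lpn (LP (LK LD1_c5 LD2_c14 LD3_c18))))
theorem f723864 : Led Lsl_ff v14372 = v14579 :=
  Lgr Lrot23 (Lpe (f722236 IH) (Lpr_ft (f633776 IH) (Lpr_ct (f723861 IH) (Lpn v14579))))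
theorem f723865 : Led Lsl_ft v14372 = v14579 :=
  Lgr Lrot48 (Lpr_ff (f723864 IH) (Lpn v14579))
def v14370 : LQ := Led Lsl_ct (LP (LK LD1_c5 LD2_c7 LD3_c26))
theorem f722229 : Led Lsl_ct (LP (LK LD1_c5 LD2_c7 LD3_c26)) = v14370 :=
  Lrfl
theorem f722230 : Led Lsl_cf (LP (LK LD1_c5 LD2_c7 LD3_c26)) = v14370 :=
  Lgr Lrot11 (Lpr_ct (f722229 IH) (Lpn v14370))
theorem f723862 : Led Lsl_af v14370 = v14579 :=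
  Lgr Lrot68 (Lpe (f722230 IH) (Lpr_at (K51.f633764 IH) (Lpr_ct (f723861 IH) (Lpn v14579))))
theorem f166266 : Led Lsl_gt (LP (LK LD1_c5 LD2_c4 LD3_c9)) = (LP (LK LD1_c9 LD2_c59 LD3_c8)) :=
  Lre_g IH (LK LD1_c5 LD2_c4 LD3_c9) (LK LD1_c9 LD2_c59 LD3_c8) Lrfl Lrfl
theorem f748666 : v14370 = (LP (LK LD1_c9 LD2_c59 LD3_c8)) :=
  (Llr Lrot26 (Lpr_af (f723862 IH) (Lpe (f723865 IH) (Lpqs (f748663 IH) (Lpr_gt (f165454 IH) (Lpr_gt (f166266 IH) (Lpn (LP (LK LD1_c9 LD2_c59 LD3_c8))))))))).symm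
theorem f748667 : Led Lsl_ct (LP (LK LD1_c9 LD2_c59 LD3_c8)) = (LP (LK LD1_c5 LD2_c7 LD3_c26)) :=
  Leop (Lpr_cf (f722230 IH) (Lpqs (f748666 IH) (Lpn (LP (LK LD1_c9 LD2_c59 LD3_c8)))))
theorem seed_1008 : LEOK LG_c (LK LD1_c9 LD2_c59 LD3_c8) :=
  Leoe_c (LK LD1_c9 LD2_c59 LD3_c8) (f748667 IH)
theorem f169716 : Led Lsl_dt (LP (LK LD1_c2 LD2_c30 LD3_c48)) = (LP (LK LD1_c1 LD2_c12 LD3_c24)) :=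
  Lre_d IH (LK LD1_c2 LD2_c30 LD3_c48) (LK LD1_c1 LD2_c12 LD3_c24) Lrfl Lrfl
theorem f722072 : Led Lsl_df v4576 = K53.v14347 :=
  Lgr Lrot70 (Lpe (f636218 IH) (Lpr_dt (f169716 IH) (Lpr_et (K27.f308041 IH) (Lpr_dt (K36.f308032 IH) (Lpr_et (K53.f722068 IH) (Lpn K53.v14347))))))
theorem f722073 : Led Lsl_ef (LP (LK LD1_c5 LD2_c6 LD3_c59)) = K53.v14347 :=
  Lgr Lrot88 (Lpr_et (K53.f722068 IH) (Lpn K53.v14347))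
theorem f427747 : Led Lsl_dt (LP (LK LD1_c6 LD2_c7 LD3_c50)) = (LP (LK LD1_c3 LD2_c0 LD3_c6)) :=
  Lre_d IH (LK LD1_c6 LD2_c7 LD3_c50) (LK LD1_c3 LD2_c0 LD3_c6) Lrfl Lrfl
theorem f383654 : Led Lsl_et (LP (LK LD1_c1 LD2_c20 LD3_c18)) = (LP (LK LD1_c2 LD2_c48 LD3_c8)) :=
  Lre_e IH (LK LD1_c1 LD2_c20 LD3_c18) (LK LD1_c2 LD2_c48 LD3_c8) Lrfl Lrfl
theorem f383755 : Led Lsl_dt (LP (LK LD1_c2 LD2_c48 LD3_c8)) = (LP (LK LD1_c5 LD2_c44 LD3_c27)) :=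
  Lre_d IH (LK LD1_c2 LD2_c48 LD3_c8) (LK LD1_c5 LD2_c44 LD3_c27) Lrfl Lrfl
theorem f427759 : Led Lsl_ef (LP (LK LD1_c6 LD2_c7 LD3_c50)) = (LP (LK LD1_c5 LD2_c44 LD3_c27)) :=
  Lgr Lrot73 (Lpr_dt (f427747 IH) (Lpr_et (K36.f427736 IH) (Lpr_dt (K27.f384037 IH) (Lpr_et (f383654 IH) (Lpr_dt (f383755 IH) (Lpn (LP (LK LD1_c5 LD2_c44 LD3_c27))))))))
theorem f383750 : Led Lsl_dt (LP (LK LD1_c5 LD2_c44 LD3_c27)) = (LP (LK LD1_c2 LD2_c48 LD3_c8)) :=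
  Lre_d IH (LK LD1_c5 LD2_c44 LD3_c27) (LK LD1_c2 LD2_c48 LD3_c8) Lrfl Lrfl
theorem f383757 : Led Lsl_gt (LP (LK LD1_c5 LD2_c44 LD3_c26)) = (LP (LK LD1_c2 LD2_c48 LD3_c8)) :=
  Lre_g IH (LK LD1_c5 LD2_c44 LD3_c26) (LK LD1_c2 LD2_c48 LD3_c8) Lrfl Lrfl
def v15644 : LQ := Led Lsl_dt (LP (LK LD1_c5 LD2_c44 LD3_c26))
theorem f738454 : Led Lsl_dt (LP (LK LD1_c5 LD2_c44 LD3_c26)) = v15644 :=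
  Lrfl
theorem f738455 : Led Lsl_df (LP (LK LD1_c5 LD2_c44 LD3_c26)) = v15644 :=
  Lgr Lrot38 (Lpr_dt (f738454 IH) (Lpn v15644))
def v16329 : LQ := Led Lsl_ct (LP (LK LD1_c5 LD2_c57 LD3_c43))
theorem f748499 : Led Lsl_ct (LP (LK LD1_c5 LD2_c57 LD3_c43)) = v16329 :=
  Lrfl
theorem f428118 : Led Lsl_et (LP (LK LD1_c2 LD2_c55 LD3_c12)) = (LP (LK LD1_c5 LD2_c57 LD3_c43)) :=
  Lre_e IH (LK LD1_c2 LD2_c55 LD3_c12) (LK LD1_c5 LD2_c57 LD3_c43) Lrfl Lrfl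
theorem f748501 : Led Lsl_ef (LP (LK LD1_c5 LD2_c57 LD3_c47)) = v16329 :=
  Lgr Lrot28 (Lpr_ct (K32.f386689 IH) (Lpr_et (f428118 IH) (Lpr_ct (f748499 IH) (Lpn v16329))))
theorem f748503 : Led Lsl_et (LP (LK LD1_c5 LD2_c57 LD3_c47)) = v16329 :=
  Lgr Lrot87 (Lpr_ef (f748501 IH) (Lpn v16329))
theorem f426175 : Led Lsl_bt (LP (LK LD1_c5 LD2_c57 LD3_c43)) = (LP (LK LD1_c2 LD2_c55 LD3_c35)) :=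
  Lre_b IH (LK LD1_c5 LD2_c57 LD3_c43) (LK LD1_c2 LD2_c55 LD3_c35) Lrfl Lrfl
def v4580 : LQ := Led Lsl_gf (LP (LK LD1_c2 LD2_c31 LD3_c22))
theorem f636231 : Led Lsl_gf (LP (LK LD1_c2 LD2_c31 LD3_c22)) = v4580 :=
  Lrfl
theorem f22244 : Led Lsl_ct (LP (LK LD1_c2 LD2_c31 LD3_c22)) = (LP (LK LD1_c1 LD2_c12 LD3_c41)) :=
  Lre_c IH (LK LD1_c2 LD2_c31 LD3_c22) (LK LD1_c1 LD2_c12 LD3_c41) Lrfl Lrfl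
theorem f24035 : Led Lsl_cf (LP (LK LD1_c0 LD2_c37 LD3_c60)) = (LP (LK LD1_c0 LD2_c19 LD3_c30)) :=
  Lgr Lrot11 (Lpr_ct (K24.f24022 IH) (Lpn (LP (LK LD1_c0 LD2_c19 LD3_c30))))
theorem f24044 : Led Lsl_ct (LP (LK LD1_c1 LD2_c22 LD3_c59)) = (LP (LK LD1_c0 LD2_c43 LD3_c42)) :=
  Lre_c IH (LK LD1_c1 LD2_c22 LD3_c59) (LK LD1_c0 LD2_c43 LD3_c42) Lrfl Lrfl
theorem f636233 : Led Lsl_ct (LP (LK LD1_c2 LD2_c54 LD3_c1)) = v4580 :=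
  Lgr Lrot152 (Lpe (K35.f442484 IH) (Lpe (K2.f82216 IH) (Lpr_gt (K24.f442466 IH) (Lpr_ct (f24044 IH) (Lpr_gt (K24.f24043 IH) (Lpe (f24035 IH) (Lpr_df (K10.f22216 IH) (Lpe (f22244 IH) (Lpr_gf (f636231 IH) (Lpn v4580))))))))))
theorem f164424 : Led Lsl_af (LP (LK LD1_c2 LD2_c31 LD3_c22)) = (LP (LK LD1_c2 LD2_c34 LD3_c11)) :=
  Lgr Lrot0 (Lpr_at (K10.f164420 IH) (Lpn (LP (LK LD1_c2 LD2_c34 LD3_c11))))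
theorem f636232 : Led Lsl_gt (LP (LK LD1_c5 LD2_c14 LD3_c47)) = v4580 :=
  Lgr Lrot5 (Lpr_ft (K10.f163933 IH) (Lpe (f164424 IH) (Lpr_gf (f636231 IH) (Lpn v4580))))
def v14401 : LQ := Led Lsl_ct (LP (LK LD1_c5 LD2_c8 LD3_c21))
theorem f722361 : Led Lsl_ct (LP (LK LD1_c5 LD2_c8 LD3_c21)) = v14401 :=
  Lrfl
theorem f748502 : Led Lsl_gf v14401 = v16329 :=
  Lgr Lrot126 (Lpe (f722361 IH) (Lpr_bt (K53.f164650 IH) (Lpr_gt (K50.f164648 IH) (Lpr_ct (K49.f163958 IH) (Lpr_gt (f636232 IH) (Lpe (f636233 IH) (Lpr_bt (K53.f641065 IH) (Lpqs (K53.f700779 IH) (Lpe (K53.f641303 IH) (Lpe (f426175 IH) (Lpr_ct (f748499 IH) (Lpn v16329))))))))))))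
theorem f748797 : v15644 = v14401 :=
  (Llr Lrot135 (Lpe (f738455 IH) (Lpr_gt (f383757 IH) (Lpe (f383750 IH) (Lpe (f427759 IH) (Lpr_gt (K36.f427745 IH) (Lpr_ef (f722073 IH) (Lpe (f722072 IH) (Lpr_gt (f748661 IH) (Lpe (f748657 IH) (Lpr_et (f748503 IH) (Lpe (f748502 IH) (Lpn v14401))))))))))))).symm
theorem f738456 : Led Lsl_ef (LP (LK LD1_c11 LD2_c40 LD3_c22)) = v15644 :=
  Lgr Lrot17 (Lpe (f500626 IH) (Lpe (f428118 IH) (Lpr_dt (K32.f387066 IH) (Lpr_gf (K37.f500624 IH) (Lpqs (K40.f537821 IH) (Lpe (K40.f308038 IH) (Lpe (K36.f427745 IH) (Lpr_ef (f427759 IH) (Lpr_dt (f383750 IH) (Lpe (f383757 IH) (Lpr_df (f738455 IH) (Lpn v15644))))))))))))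
theorem f738457 : Led Lsl_et (LP (LK LD1_c11 LD2_c40 LD3_c22)) = v15644 :=
  Lgr Lrot87 (Lpr_ef (f738456 IH) (Lpn v15644))
theorem f722362 : Led Lsl_cf (LP (LK LD1_c5 LD2_c8 LD3_c21)) = v14401 :=
  Lgr Lrot11 (Lpr_ct (f722361 IH) (Lpn v14401))
theorem f622469 : Led Lsl_et (LP (LK LD1_c5 LD2_c8 LD3_c21)) = (LP (LK LD1_c10 LD2_c7 LD3_c10)) :=
  Lre_e IH (LK LD1_c5 LD2_c8 LD3_c21) (LK LD1_c10 LD2_c7 LD3_c10) Lrfl Lrfl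
theorem f748800 : Led Lsl_cf (LP (LK LD1_c11 LD2_c40 LD3_c22)) = (LP (LK LD1_c10 LD2_c7 LD3_c10)) :=
  Lgr Lrot39 (Lpr_et (f738457 IH) (Lpqs (f748797 IH) (Lpe (f722362 IH) (Lpr_et (f622469 IH) (Lpn (LP (LK LD1_c10 LD2_c7 LD3_c10)))))))
theorem f748801 : Led Lsl_ct (LP (LK LD1_c10 LD2_c7 LD3_c10)) = (LP (LK LD1_c11 LD2_c40 LD3_c22)) :=
  Leop (Lpr_cf (f748800 IH) (Lpn (LP (LK LD1_c10 LD2_c7 LD3_c10))))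
theorem seed_1009 : LEOK LG_c (LK LD1_c10 LD2_c7 LD3_c10) :=
  Leoe_c (LK LD1_c10 LD2_c7 LD3_c10) (f748801 IH)
def v16346 : LQ := Led Lsl_bt (LP (LK LD1_c5 LD2_c58 LD3_c8))
theorem f748895 : Led Lsl_bt (LP (LK LD1_c5 LD2_c58 LD3_c8)) = v16346 :=
  Lrfl
theorem f748896 : Led Lsl_bf (LP (LK LD1_c5 LD2_c58 LD3_c8)) = v16346 :=
  Lgr Lrot24 (Lpr_bt (f748895 IH) (Lpn v16346))
theorem f76213 : Led Lsl_gt (LP (LK LD1_c5 LD2_c58 LD3_c6)) = (LP (LK LD1_c11 LD2_c40 LD3_c52)) :=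
  Lre_g IH (LK LD1_c5 LD2_c58 LD3_c6) (LK LD1_c11 LD2_c40 LD3_c52) Lrfl Lrfl
theorem f73268 : Led Lsl_gt (LP (LK LD1_c2 LD2_c49 LD3_c45)) = (LP (LK LD1_c5 LD2_c47 LD3_c34)) :=
  Lre_g IH (LK LD1_c2 LD2_c49 LD3_c45) (LK LD1_c5 LD2_c47 LD3_c34) Lrfl Lrfl
theorem f74228 : Led Lsl_bt (LP (LK LD1_c11 LD2_c24 LD3_c61)) = (LP (LK LD1_c5 LD2_c47 LD3_c34)) :=
  Lre_b IH (LK LD1_c11 LD2_c24 LD3_c61) (LK LD1_c5 LD2_c47 LD3_c34) Lrfl Lrfl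
theorem f74907 : Led Lsl_ct (LP (LK LD1_c3 LD2_c0 LD3_c42)) = (LP (LK LD1_c6 LD2_c8 LD3_c42)) :=
  Lre_c IH (LK LD1_c3 LD2_c0 LD3_c42) (LK LD1_c6 LD2_c8 LD3_c42) Lrfl Lrfl
theorem f74902 : Led Lsl_af (LP (LK LD1_c6 LD2_c8 LD3_c42)) = (LP (LK LD1_c11 LD2_c40 LD3_c55)) :=
  Lgr Lrot0 (Lpr_at (K2.f74887 IH) (Lpn (LP (LK LD1_c11 LD2_c40 LD3_c55))))
theorem f76214 : Led Lsl_gf (LP (LK LD1_c6 LD2_c8 LD3_c42)) = (LP (LK LD1_c11 LD2_c40 LD3_c52)) :=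
  Lgr Lrot76 (Lpr_af (f74902 IH) (Lpe (K2.f74930 IH) (Lpr_gt (f76213 IH) (Lpn (LP (LK LD1_c11 LD2_c40 LD3_c52))))))
theorem f445947 : Led Lsl_ct (LP (LK LD1_c11 LD2_c24 LD3_c61)) = (LP (LK LD1_c11 LD2_c40 LD3_c52)) :=
  Lgr Lrot64 (Lpr_bt (f74228 IH) (Lpe (f73268 IH) (Lpe (K8.f73249 IH) (Lpr_ct (K2.f59449 IH) (Lpe (K11.f59482 IH) (Lpr_cf (K51.f445916 IH) (Lpe (K48.f58579 IH) (Lpe (K1.f58569 IH) (Lpr_ct (f74907 IH) (Lpr_gf (f76214 IH) (Lpn (LP (LK LD1_c11 LD2_c40 LD3_c52)))))))))))))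
theorem f74227 : Led Lsl_gt (LP (LK LD1_c5 LD2_c47 LD3_c34)) = (LP (LK LD1_c11 LD2_c24 LD3_c48)) :=
  Lre_g IH (LK LD1_c5 LD2_c47 LD3_c34) (LK LD1_c11 LD2_c24 LD3_c48) Lrfl Lrfl
theorem f74500 : Led Lsl_at (LP (LK LD1_c9 LD2_c47 LD3_c42)) = (LP (LK LD1_c5 LD2_c51 LD3_c35)) :=
  Lgr Lrot80 (Lpe (K2.f74272 IH) (Lpr_af (K2.f74494 IH) (Lpe (K6.f74499 IH) (Lpn (LP (LK LD1_c5 LD2_c51 LD3_c35))))))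
theorem f74291 : Led Lsl_ft (LP (LK LD1_c17 LD2_c57 LD3_c60)) = (LP (LK LD1_c9 LD2_c47 LD3_c42)) :=
  Lre_f IH (LK LD1_c17 LD2_c57 LD3_c60) (LK LD1_c9 LD2_c47 LD3_c42) Lrfl Lrfl
theorem f75395 : Led Lsl_gt (LP (LK LD1_c11 LD2_c30 LD3_c34)) = (LP (LK LD1_c5 LD2_c51 LD3_c35)) :=
  Lre_g IH (LK LD1_c11 LD2_c30 LD3_c34) (LK LD1_c5 LD2_c51 LD3_c35) Lrfl Lrfl
theorem f76373 : Led Lsl_gt (LP (LK LD1_c17 LD2_c57 LD3_c60)) = (LP (LK LD1_c11 LD2_c30 LD3_c34)) :=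
  Lgr Lrot5 (Lpr_ft (f74291 IH) (Lpr_at (f74500 IH) (Lpe (f75395 IH) (Lpn (LP (LK LD1_c11 LD2_c30 LD3_c34))))))
theorem f748897 : Led Lsl_cf (LP (LK LD1_c11 LD2_c30 LD3_c34)) = v16346 :=
  Lgr Lrot58 (Lpe (f76373 IH) (Lpe (K2.f74219 IH) (Lpe (K2.f74217 IH) (Lpe (f74227 IH) (Lpe (f74228 IH) (Lpr_ct (f445947 IH) (Lpe (f76213 IH) (Lpe (K54.f74878 IH) (Lpe (K54.f75966 IH) (Lpr_bf (f748896 IH) (Lpn v16346)))))))))))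
theorem f748898 : Led Lsl_bt (LP (LK LD1_c11 LD2_c30 LD3_c34)) = (LP (LK LD1_c20 LD2_c27 LD3_c42)) :=
  Lre_b IH (LK LD1_c11 LD2_c30 LD3_c34) (LK LD1_c20 LD2_c27 LD3_c42) Lrfl Lrfl
theorem f76224 : Led Lsl_ct (LP (LK LD1_c11 LD2_c40 LD3_c58)) = (LP (LK LD1_c5 LD2_c58 LD3_c8)) :=
  Lre_c IH (LK LD1_c11 LD2_c40 LD3_c58) (LK LD1_c5 LD2_c58 LD3_c8) Lrfl Lrfl
theorem f739450 : Led Lsl_bt (LP (LK LD1_c20 LD2_c40 LD3_c43)) = (LP (LK LD1_c11 LD2_c40 LD3_c58)) :=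
  Lre_b IH (LK LD1_c20 LD2_c40 LD3_c43) (LK LD1_c11 LD2_c40 LD3_c58) Lrfl Lrfl
theorem f748899 : Led Lsl_ct (LP (LK LD1_c20 LD2_c27 LD3_c42)) = (LP (LK LD1_c20 LD2_c40 LD3_c43)) :=
  Lgr Lrot83 (Lpe (f748898 IH) (Lpr_cf (f748897 IH) (Lpe (f748895 IH) (Lpe (f76224 IH) (Lpe (f739450 IH) (Lpn (LP (LK LD1_c20 LD2_c40 LD3_c43))))))))
theorem f748900 : Led Lsl_ct (LP (LK LD1_c20 LD2_c27 LD3_c42)) = (LP (LK LD1_c20 LD2_c40 LD3_c43)) :=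
  Leop (Lpe (f748899 IH) (Lpn (LP (LK LD1_c20 LD2_c27 LD3_c42))))
theorem seed_1010 : LEOK LG_c (LK LD1_c20 LD2_c27 LD3_c42) :=
  Leoe_c (LK LD1_c20 LD2_c27 LD3_c42) (f748900 IH)
def v16386 : LQ := Led Lsl_gf (LP (LK LD1_c5 LD2_c59 LD3_c6))
theorem f749057 : Led Lsl_gf (LP (LK LD1_c5 LD2_c59 LD3_c6)) = v16386 :=
  Lrfl
theorem f564000 : Led Lsl_dt (LP (LK LD1_c2 LD2_c55 LD3_c57)) = (LP (LK LD1_c5 LD2_c59 LD3_c6)) :=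
  Lre_d IH (LK LD1_c2 LD2_c55 LD3_c57) (LK LD1_c5 LD2_c59 LD3_c6) Lrfl Lrfl
theorem f641968 : Led Lsl_at (LP (LK LD1_c11 LD2_c20 LD3_c2)) = (LP (LK LD1_c11 LD2_c46 LD3_c61)) :=
  Lgr Lrot66 (Lpr_ff (K41.f641964 IH) (Lpe (K53.f641736 IH) (Lpr_ff (K53.f641719 IH) (Lpn (LP (LK LD1_c11 LD2_c46 LD3_c61))))))
theorem f740255 : Led Lsl_gf (LP (LK LD1_c11 LD2_c18 LD3_c21)) = (LP (LK LD1_c5 LD2_c59 LD3_c7)) :=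
  Lgr Lrot47 (Lpr_gt (f740253 IH) (Lpe (f641968 IH) (Lpr_ff (K41.f641964 IH) (Lpn (LP (LK LD1_c5 LD2_c59 LD3_c7))))))
theorem f749059 : Led Lsl_dt (LP (LK LD1_c9 LD2_c30 LD3_c32)) = v16386 :=
  Lgr Lrot136 (Lpr_et (K52.f500745 IH) (Lpe (K17.f414088 IH) (Lpe (K51.f74602 IH) (Lpr_dt (K51.f74603 IH) (Lpe (K51.f384010 IH) (Lpe (f502741 IH) (Lpr_gf (f740255 IH) (Lpe (K41.f564012 IH) (Lpr_dt (f564000 IH) (Lpr_gf (f749057 IH) (Lpn v16386)))))))))))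
theorem f749061 : Led Lsl_df (LP (LK LD1_c9 LD2_c30 LD3_c32)) = v16386 :=
  Lgr Lrot38 (Lpr_dt (f749059 IH) (Lpn v16386))
theorem f705289 : Led Lsl_af (LP (LK LD1_c4 LD2_c49 LD3_c8)) = K50.v13853 :=
  Lgr Lrot0 (Lpr_at (K50.f705288 IH) (Lpn K50.v13853))
theorem f749062 : Led Lsl_at (LP (LK LD1_c9 LD2_c30 LD3_c60)) = v16386 :=
  Lgr Lrot51 (Lpe (K50.f427776 IH) (Lpr_af (f705289 IH) (Lpqs (K52.f705361 IH) (Lpr_df (f749061 IH) (Lpn v16386)))))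
theorem f700085 : Led Lsl_af (LP (LK LD1_c5 LD2_c59 LD3_c6)) = K50.v12997 :=
  Lgr Lrot117 (Lpr_dt (K41.f500772 IH) (Lpr_at (K41.f641351 IH) (Lpq (K41.f641739 IH) (Lpr_dt (K50.f700084 IH) (Lpn K50.v12997)))))
theorem f507054 : Led Lsl_ft (LP (LK LD1_c2 LD2_c54 LD3_c53)) = (LP (LK LD1_c4 LD2_c36 LD3_c31)) :=
  Lgr Lrot48 (Lpr_ff (K41.f507047 IH) (Lpn (LP (LK LD1_c4 LD2_c36 LD3_c31))))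
def v4979 : LQ := Led Lsl_dt (LP (LK LD1_c2 LD2_c54 LD3_c53))
theorem f641154 : Led Lsl_dt (LP (LK LD1_c2 LD2_c54 LD3_c53)) = v4979 :=
  Lrfl
theorem f641156 : Led Lsl_df (LP (LK LD1_c2 LD2_c54 LD3_c53)) = v4979 :=
  Lgr Lrot38 (Lpr_dt (f641154 IH) (Lpn v4979))
theorem f700088 : Led Lsl_ff v4979 = K50.v12997 :=
  Lgr Lrot19 (Lpe (f641156 IH) (Lpr_ft (f507054 IH) (Lpr_dt (K50.f700084 IH) (Lpn K50.v12997))))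
theorem f700101 : Led Lsl_ft v4979 = K50.v12997 :=
  Lgr Lrot48 (Lpr_ff (f700088 IH) (Lpn K50.v12997))
theorem f749058 : Led Lsl_gt v4979 = v16386 :=
  Lgr Lrot5 (Lpr_ft (f700101 IH) (Lpe (f700085 IH) (Lpr_gf (f749057 IH) (Lpn v16386))))
def v16385 : LQ := Led Lsl_gt (LP (LK LD1_c5 LD2_c59 LD3_c6))
theorem f749055 : Led Lsl_gt (LP (LK LD1_c5 LD2_c59 LD3_c6)) = v16385 :=
  Lrfl
theorem f748287 : Led Lsl_ff (LP (LK LD1_c5 LD2_c59 LD3_c6)) = v16301 :=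
  Lgr Lrot19 (Lpr_dt (K41.f500772 IH) (Lpr_ft (K41.f641359 IH) (Lpqs (K41.f641755 IH) (Lpr_dt (f748284 IH) (Lpn v16301)))))
theorem f748345 : Led Lsl_ft (LP (LK LD1_c5 LD2_c59 LD3_c6)) = v16301 :=
  Lgr Lrot48 (Lpr_ff (f748287 IH) (Lpn v16301))
theorem f748285 : Led Lsl_af v4979 = v16301 :=
  Lgr Lrot117 (Lpe (f641156 IH) (Lpr_at (K41.f500588 IH) (Lpr_dt (f748284 IH) (Lpn v16301))))
theorem f749056 : Led Lsl_gf v4979 = v16385 :=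
  Lgr Lrot76 (Lpr_af (f748285 IH) (Lpe (f748345 IH) (Lpr_gt (f749055 IH) (Lpn v16385))))
theorem f749063 : Led Lsl_ff (LP (LK LD1_c9 LD2_c30 LD3_c60)) = v16385 :=
  Lgr Lrot52 (Lpr_at (f749062 IH) (Lpe (f749058 IH) (Lpr_gf (f749056 IH) (Lpn v16385))))
theorem f749064 : Led Lsl_dt (LP (LK LD1_c9 LD2_c30 LD3_c61)) = v16385 :=
  Lgr Lrot60 (Lpe (K50.f634140 IH) (Lpe (f644035 IH) (Lpr_ff (f749063 IH) (Lpn v16385))))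
theorem f428142 : Led Lsl_gt (LP (LK LD1_c12 LD2_c9 LD3_c3)) = (LP (LK LD1_c21 LD2_c15 LD3_c19)) :=
  Lre_g IH (LK LD1_c12 LD2_c9 LD3_c3) (LK LD1_c21 LD2_c15 LD3_c19) Lrfl Lrfl
theorem f589467 : Led Lsl_gt (LP (LK LD1_c11 LD2_c7 LD3_c22)) = (LP (LK LD1_c20 LD2_c0 LD3_c48)) :=
  Lre_g IH (LK LD1_c11 LD2_c7 LD3_c22) (LK LD1_c20 LD2_c0 LD3_c48) Lrfl Lrfl
theorem f589551 : Led Lsl_gt (LP (LK LD1_c20 LD2_c0 LD3_c48)) = (LP (LK LD1_c20 LD2_c6 LD3_c9)) :=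
  Lgr Lrot46 (Lpe (f589467 IH) (Lpr_ft (K43.f557249 IH) (Lpr_at (K54.f589493 IH) (Lpn (LP (LK LD1_c20 LD2_c6 LD3_c9))))))
theorem f740454 : Led Lsl_ct (LP (LK LD1_c21 LD2_c15 LD3_c19)) = (LP (LK LD1_c20 LD2_c0 LD3_c48)) :=
  Lgr Lrot152 (Lpe (f428142 IH) (Lpe (K54.f112345 IH) (Lpr_gt (f112333 IH) (Lpr_ct (f739891 IH) (Lpr_gt (f158089 IH) (Lpr_ct (f158087 IH) (Lpr_df (K51.f589220 IH) (Lpe (K54.f418648 IH) (Lpe (f589551 IH) (Lpn (LP (LK LD1_c20 LD2_c0 LD3_c48))))))))))))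
theorem f75898 : Led Lsl_gt (LP (LK LD1_c17 LD2_c12 LD3_c11)) = (LP (LK LD1_c9 LD2_c17 LD3_c17)) :=
  Lre_g IH (LK LD1_c17 LD2_c12 LD3_c11) (LK LD1_c9 LD2_c17 LD3_c17) Lrfl Lrfl
theorem f740460 : Led Lsl_bt (LP (LK LD1_c21 LD2_c15 LD3_c19)) = (LP (LK LD1_c17 LD2_c12 LD3_c11)) :=
  Lgr Lrot22 (Lpr_ct (f740454 IH) (Lpe (f589467 IH) (Lpe (K52.f589471 IH) (Lpr_gf (K52.f710055 IH) (Lpe (K52.f416475 IH) (Lpr_ct (K17.f416463 IH) (Lpe (K17.f9205 IH) (Lpe (K24.f75911 IH) (Lpr_bt (K45.f75906 IH) (Lpe (f75898 IH) (Lpn (LP (LK LD1_c17 LD2_c12 LD3_c11)))))))))))))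
theorem f740473 : Led Lsl_bf (LP (LK LD1_c21 LD2_c15 LD3_c19)) = (LP (LK LD1_c17 LD2_c12 LD3_c11)) :=
  Lgr Lrot24 (Lpr_bt (f740460 IH) (Lpn (LP (LK LD1_c17 LD2_c12 LD3_c11))))
theorem f428765 : Led Lsl_gt (LP (LK LD1_c7 LD2_c42 LD3_c12)) = (LP (LK LD1_c14 LD2_c31 LD3_c4)) :=
  Lre_g IH (LK LD1_c7 LD2_c42 LD3_c12) (LK LD1_c14 LD2_c31 LD3_c4) Lrfl Lrfl
theorem f158091 : Led Lsl_dt (LP (LK LD1_c20 LD2_c27 LD3_c16)) = (LP (LK LD1_c11 LD2_c30 LD3_c2)) :=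
  Lre_d IH (LK LD1_c20 LD2_c27 LD3_c16) (LK LD1_c11 LD2_c30 LD3_c2) Lrfl Lrfl
theorem f158072 : Led Lsl_at (LP (LK LD1_c14 LD2_c31 LD3_c7)) = (LP (LK LD1_c20 LD2_c27 LD3_c16)) :=
  Lgr Lrot100 (Lpr_af (K8.f158065 IH) (Lpn (LP (LK LD1_c20 LD2_c27 LD3_c16))))
theorem f66397 : Led Lsl_ft (LP (LK LD1_c7 LD2_c42 LD3_c12)) = (LP (LK LD1_c14 LD2_c31 LD3_c7)) :=
  Lre_f IH (LK LD1_c7 LD2_c42 LD3_c12) (LK LD1_c14 LD2_c31 LD3_c7) Lrfl Lrfl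
theorem f428766 : Led Lsl_gt (LP (LK LD1_c14 LD2_c31 LD3_c4)) = (LP (LK LD1_c20 LD2_c27 LD3_c16)) :=
  Lgr Lrot46 (Lpe (f428765 IH) (Lpr_ft (f66397 IH) (Lpr_at (f158072 IH) (Lpn (LP (LK LD1_c20 LD2_c27 LD3_c16))))))
theorem f454676 : Led Lsl_ct (LP (LK LD1_c12 LD2_c58 LD3_c1)) = (LP (LK LD1_c6 LD2_c47 LD3_c32)) :=
  Lre_c IH (LK LD1_c12 LD2_c58 LD3_c1) (LK LD1_c6 LD2_c47 LD3_c32) Lrfl Lrfl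
theorem f414537 : Led Lsl_gt (LP (LK LD1_c12 LD2_c58 LD3_c1)) = (LP (LK LD1_c22 LD2_c7 LD3_c55)) :=
  Lre_g IH (LK LD1_c12 LD2_c58 LD3_c1) (LK LD1_c22 LD2_c7 LD3_c55) Lrfl Lrfl
theorem f710105 : Led Lsl_df (LP (LK LD1_c14 LD2_c31 LD3_c4)) = (LP (LK LD1_c22 LD2_c7 LD3_c55)) :=
  Lgr Lrot153 (Lpr_gt (f428766 IH) (Lpr_dt (f158091 IH) (Lpe (K51.f157917 IH) (Lpr_df (K51.f589220 IH) (Lpr_gf (K53.f710057 IH) (Lpe (K51.f643236 IH) (Lpr_gf (f454674 IH) (Lpe (f454676 IH) (Lpr_gt (f414537 IH) (Lpn (LP (LK LD1_c22 LD2_c7 LD3_c55))))))))))))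
theorem f710117 : Led Lsl_dt (LP (LK LD1_c14 LD2_c31 LD3_c4)) = (LP (LK LD1_c22 LD2_c7 LD3_c55)) :=
  Lgr Lrot42 (Lpr_df (f710105 IH) (Lpn (LP (LK LD1_c22 LD2_c7 LD3_c55))))
theorem f414538 : Led Lsl_bt (LP (LK LD1_c3 LD2_c21 LD3_c33)) = (LP (LK LD1_c6 LD2_c46 LD3_c47)) :=
  Lre_b IH (LK LD1_c3 LD2_c21 LD3_c33) (LK LD1_c6 LD2_c46 LD3_c47) Lrfl Lrfl
theorem f414539 : Led Lsl_gt (LP (LK LD1_c12 LD2_c56 LD3_c49)) = (LP (LK LD1_c6 LD2_c46 LD3_c47)) :=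
  Lre_g IH (LK LD1_c12 LD2_c56 LD3_c49) (LK LD1_c6 LD2_c46 LD3_c47) Lrfl Lrfl
theorem f414540 : Led Lsl_bt (LP (LK LD1_c22 LD2_c6 LD3_c29)) = (LP (LK LD1_c12 LD2_c56 LD3_c49)) :=
  Lre_b IH (LK LD1_c22 LD2_c6 LD3_c29) (LK LD1_c12 LD2_c56 LD3_c49) Lrfl Lrfl
theorem f414541 : Led Lsl_cf (LP (LK LD1_c22 LD2_c7 LD3_c55)) = (LP (LK LD1_c22 LD2_c6 LD3_c29)) :=
  Lgr Lrot163 (Lpe (f414537 IH) (Lpe (f414536 IH) (Lpe (f414535 IH) (Lpe (K52.f414534 IH) (Lpr_ct (K16.f413540 IH) (Lpr_gf (K17.f414522 IH) (Lpe (K24.f180500 IH) (Lpr_bt (f414538 IH) (Lpe (f414539 IH) (Lpe (f414540 IH) (Lpn (LP (LK LD1_c22 LD2_c6 LD3_c29)))))))))))))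
theorem f414587 : Led Lsl_ct (LP (LK LD1_c22 LD2_c7 LD3_c55)) = (LP (LK LD1_c22 LD2_c6 LD3_c29)) :=
  Lgr Lrot59 (Lpr_cf (f414541 IH) (Lpn (LP (LK LD1_c22 LD2_c6 LD3_c29))))
theorem f738990 : Led Lsl_dt (LP (LK LD1_c21 LD2_c15 LD3_c19)) = (LP (LK LD1_c22 LD2_c6 LD3_c29)) :=
  Lgr Lrot113 (Lpe (f428142 IH) (Lpe (K54.f112345 IH) (Lpe (K54.f112335 IH) (Lpr_ct (K54.f738985 IH) (Lpr_gt (K54.f66259 IH) (Lpr_dt (K54.f66316 IH) (Lpr_gt (f428765 IH) (Lpr_dt (f710117 IH) (Lpr_ct (f414587 IH) (Lpn (LP (LK LD1_c22 LD2_c6 LD3_c29))))))))))))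
theorem f740477 : Led Lsl_dt (LP (LK LD1_c12 LD2_c56 LD3_c49)) = (LP (LK LD1_c17 LD2_c12 LD3_c11)) :=
  Lgr Lrot79 (Lpe (f414540 IH) (Lpe (f738990 IH) (Lpr_bf (f740473 IH) (Lpn (LP (LK LD1_c17 LD2_c12 LD3_c11))))))
theorem f705315 : Led Lsl_at (LP (LK LD1_c9 LD2_c17 LD3_c15)) = (LP (LK LD1_c9 LD2_c30 LD3_c48)) :=
  Lgr Lrot100 (Lpr_af (K52.f705313 IH) (Lpn (LP (LK LD1_c9 LD2_c30 LD3_c48))))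
theorem f75893 : Led Lsl_et (LP (LK LD1_c4 LD2_c49 LD3_c4)) = (LP (LK LD1_c2 LD2_c22 LD3_c22)) :=
  Lre_e IH (LK LD1_c4 LD2_c49 LD3_c4) (LK LD1_c2 LD2_c22 LD3_c22) Lrfl Lrfl

end

end K55

end

end Cfsg.Agent.Helper28.S1692
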